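import Mathlib
import Cfsg.Prelude.Def_Solvable
import Cfsg.Prelude.Def_CaseTheorems

set_option autoImplicit false

namespace Cfsg.Agent.Lib.Helper2

variable {G : Type*} [Group G]

theorem pCore_isPGroup (p : ℕ) : IsPGroup p (Cfsg.pCore p G) :=
  Sylow.sSup_of_normal _ (fun _ hH => hH.2) (fun _ hH => hH.1)

theorem le_pCore {p : ℕ} {N : Subgroup G} (hN : N.Normal) (hp : IsPGroup p N) :
    N ≤ Cfsg.pCore p G := le_sSup ⟨hN, hp⟩

/-- the normalizer of `R` normalizes the centralizer of `R` -/
theorem normalizer_le_normalizer_centralizer (R : Subgroup G) :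
    Subgroup.normalizer (R : Set G) ≤
      Subgroup.normalizer ((Subgroup.centralizer (R : Set G) : Subgroup G) : Set G) := by
  have key : ∀ m ∈ Subgroup.normalizer (R : Set G), ∀ c ∈ Subgroup.centralizer (R : Set G),
      m * c * m⁻¹ ∈ Subgroup.centralizer (R : Set G) := by
    intro m hm c hc
    rw [Subgroup.mem_centralizer_iff] at hc ⊢
    intro r hr
    have hr' : m⁻¹ * r * m ∈ R := by
      have := (Subgroup.mem_normalizer_iff.mp (Subgroup.inv_mem _ hm) r).mp hr
      simpa using this
    have := hc _ hr'
    calc r * (m * c * m⁻¹) = m * ((m⁻¹ * r * m) * c) * m⁻¹ := by group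
      _ = m * (c * (m⁻¹ * r * m)) * m⁻¹ := by rw [this]
      _ = m * c * m⁻¹ * r := by group
  intro m hm
  rw [Subgroup.mem_normalizer_iff]
  intro c
  constructor
  · exact key m hm c
  · intro h
    have := key m⁻¹ (Subgroup.inv_mem _ hm) _ h
    simpa [mul_assoc] using this

end Cfsg.Agent.Lib.Helper2

namespace Cfsg.Agent.Lib.Helper2

variable {G : Type*} [Group G]

/-- A `q`-group `R` acting by conjugation on a finite normal subgroup `L` with only trivial
fixed point forces `|L| ≡ 1 mod q`. -/
theorem card_modEq_one_of_conj_fixed_trivial (q : ℕ) [Fact q.Prime] (R L : Subgroup G)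
    [hLn : L.Normal] [Finite L] [Finite R] (hR : IsPGroup q R)
    (hfix : L ⊓ Subgroup.centralizer (R : Set G) = ⊥) : Nat.card L ≡ 1 [MOD q] := by
  letI : MulAction R L := MulAction.compHom L ((MulAut.conjNormal (H := L)).comp R.subtype)
  have hsmul : ∀ (r : R) (l : L), ((r • l : L) : G) = (r : G) * (l : G) * (r : G)⁻¹ := by
    intro r l
    exact MulAut.conjNormal_apply (r : G) l
  have h1 := hR.card_modEq_card_fixedPoints L
  have h2 : MulAction.fixedPoints R L = {1} := by
    ext l
    rw [MulAction.mem_fixedPoints, Set.mem_singleton_iff]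
    constructor
    · intro h
      have hl : (l : G) ∈ L ⊓ Subgroup.centralizer (R : Set G) := by
        refine Subgroup.mem_inf.mpr ⟨l.2, ?_⟩
        rw [Subgroup.mem_centralizer_iff]
        intro r hr
        have := congrArg Subtype.val (h ⟨r, hr⟩)
        rw [hsmul] at this
        calc r * (l : G) = (r * (l : G) * r⁻¹) * r := by group
          _ = (l : G) * r := by rw [this]
      rw [hfix, Subgroup.mem_bot] at hl
      exact Subtype.ext hl
    · rintro rfl r
      apply Subtype.ext
      rw [hsmul]
      simp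
  rw [h2] at h1
  simpa using h1

end Cfsg.Agent.Lib.Helper2
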