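import Mathlib

set_option autoImplicit false

/-! The transfer of a homomorphism whose restriction to a normal subgroup is invariant. -/

namespace Cfsg.Agent.Lib.Helper2.TransferExt

open Subgroup Subgroup.leftTransversals MulAction

variable {G : Type*} [Group G] {A : Type*} [CommGroup A]

theorem transfer_apply_of_invariant (H N : Subgroup G) [hN : N.Normal] [H.FiniteIndex]
    (hNH : N ≤ H) (ϕ : H →* A)
    (hinv : ∀ (t : G) (n : G) (hn : n ∈ N),
      ϕ ⟨t⁻¹ * n * t, hNH (by simpa using hN.conj_mem n hn t⁻¹)⟩ = ϕ ⟨n, hNH hn⟩)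
    (n : G) (hn : n ∈ N) : MonoidHom.transfer ϕ n = ϕ ⟨n, hNH hn⟩ ^ H.index := by
  classical
  let T : H.LeftTransversal := default
  rw [MonoidHom.transfer_def ϕ T n]
  have hfix : ∀ q : G ⧸ H, n⁻¹ • q = q := by
    intro q
    induction q using QuotientGroup.induction_on with
    | H t =>
      rw [MulAction.Quotient.smul_mk, QuotientGroup.eq]
      have : (n⁻¹ • t)⁻¹ * t = t⁻¹ * n * t := by simp [smul_eq_mul, mul_assoc]
      rw [this]
      exact hNH (by simpa using hN.conj_mem n hn t⁻¹)
  letI := H.fintypeQuotientOfFiniteIndex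
  have hterm : ∀ q : G ⧸ H,
      ((T.2.leftQuotientEquiv q : G))⁻¹ * ((n • T).2.leftQuotientEquiv q : G)
        = (T.2.leftQuotientEquiv q : G)⁻¹ * n * (T.2.leftQuotientEquiv q : G) := by
    intro q
    rw [smul_apply_eq_smul_apply_inv_smul, hfix q, smul_eq_mul, mul_assoc]
  unfold diff
  simp only
  rw [Finset.prod_congr rfl (g := fun _ => ϕ ⟨n, hNH hn⟩)]
  · rw [Finset.prod_const, Finset.card_univ, Subgroup.index_eq_card, Nat.card_eq_fintype_card]
  · intro q _
    rw [← hinv (T.2.leftQuotientEquiv q : G) n hn]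
    congr 1
    exact Subtype.ext (hterm q)

end Cfsg.Agent.Lib.Helper2.TransferExt
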