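import Mathlib
import Cfsg.Agent.Lib.Helper2.TransferExt
import Cfsg.Agent.Lib.Helper1.LinearChar
import Cfsg.Agent.Lib.Helper4.Characters

set_option autoImplicit false

/-! Linear characters as homomorphisms to `ℂˣ`; orders; extension by transfer. -/

namespace Cfsg.Agent.Lib.Helper2.LinExt

open Cfsg

variable {G : Type*} [Group G]

/-- The coercion from homomorphisms `G →* ℂˣ` to functions `G → ℂ`, as a monoid homomorphism. -/
def coeHom (G : Type*) [Group G] : (G →* ℂˣ) →* (G → ℂ) where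
  toFun ψ := fun g => (ψ g : ℂ)
  map_one' := by funext g; simp
  map_mul' a b := by funext g; simp

theorem coeHom_apply (ψ : G →* ℂˣ) (g : G) : coeHom G ψ g = (ψ g : ℂ) := rfl

theorem coeHom_injective : Function.Injective (coeHom G) := by
  intro a b h
  ext g
  exact congrFun h g

theorem orderOf_coeHom (ψ : G →* ℂˣ) : orderOf (coeHom G ψ) = orderOf ψ :=
  orderOf_injective (coeHom G) coeHom_injective ψ

/-- A character of degree one is the coercion of a homomorphism. -/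
theorem exists_hom_of_linear {lam : G → ℂ} (h : IsCharacter G lam ∧ lam 1 = 1) :
    ∃ φ : G →* ℂˣ, lam = coeHom G φ := by
  obtain ⟨m, ρ, rfl⟩ := h.1
  have hm : m = 1 := by
    have h1 := h.2
    rw [Representation.char_one] at h1
    simpa using h1
  subst hm
  have hirr : IsIrrCharacter G ρ.character :=
    ⟨1, ρ, Cfsg.Agent.Lib.Helper1.irreducible_of_finrank_eq_one ρ (by simp), rfl⟩
  obtain ⟨φ, hφ⟩ := Cfsg.Agent.Lib.Helper1.exists_hom_of_isIrrCharacter hirr h.2
  exact ⟨φ, hφ⟩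

theorem isLinear_coeHom (ψ : G →* ℂˣ) : IsCharacter G (coeHom G ψ) ∧ coeHom G ψ 1 = 1 := by
  refine ⟨Cfsg.Agent.Lib.Helper4.isCharacter_of_irr
    (Cfsg.Agent.Lib.Helper1.isIrrCharacter_of_hom ψ), ?_⟩
  rw [coeHom_apply, map_one, Units.val_one]

/-- A homomorphism to `ℂˣ` trivial on a normal subgroup has order dividing the index. -/
theorem pow_index_eq_one [Finite G] (N : Subgroup G) [N.Normal] (ν : G →* ℂˣ)
    (hν : ∀ n ∈ N, ν n = 1) : ν ^ N.index = 1 := by
  ext g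
  rw [MonoidHom.pow_apply, ← map_pow, hν _ (Subgroup.pow_index_mem N g)]
  rfl

/-- An invariant homomorphism `N →* ℂˣ` of order coprime to the index of `N` extends to `G`
with the same order. -/
theorem exists_extension_of_coprime [Finite G] (N : Subgroup G) [hN : N.Normal] (φ : N →* ℂˣ)
    (hinv : ∀ (t : G) (n : N), φ ⟨t * n * t⁻¹, hN.conj_mem n n.2 t⟩ = φ n)
    (hcop : Nat.Coprime N.index (orderOf φ)) :
    ∃ ψ : G →* ℂˣ, (∀ n : N, ψ n = φ n) ∧ orderOf ψ = orderOf φ := by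
  set a := N.index with ha
  set b := orderOf φ with hb
  let τ : G →* ℂˣ := MonoidHom.transfer φ
  have hτ : ∀ n : N, τ n = φ n ^ a := by
    intro n
    have := TransferExt.transfer_apply_of_invariant N N le_rfl φ (by
      intro t m hm
      have h1 := hinv t⁻¹ ⟨m, hm⟩
      rw [← h1]
      congr 1
      apply Subtype.ext
      simp) (n : G) n.2
    exact this
  have hφb : ∀ n : N, φ n ^ b = 1 := by
    intro n
    have h1 : φ ^ b = 1 := pow_orderOf_eq_one φ
    have h2 := DFunLike.congr_fun h1 n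
    rwa [MonoidHom.pow_apply] at h2
  have hτb : ∀ g : G, τ g ^ (b * a) = 1 := by
    intro g
    have h1 : (τ ^ b) ^ N.index = 1 := by
      apply pow_index_eq_one N
      intro n hn
      rw [MonoidHom.pow_apply, hτ ⟨n, hn⟩, ← pow_mul, mul_comm, pow_mul, hφb, one_pow]
    have h2 := DFunLike.congr_fun h1 g
    rw [MonoidHom.pow_apply, MonoidHom.pow_apply, ← pow_mul] at h2
    exact h2
  obtain ⟨e', he'⟩ := exists_pow_eq_self_of_coprime (x := φ) (n := a ^ 2)
    (Nat.Coprime.pow_left 2 hcop)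
  have he'' : ∀ n : N, φ n ^ (a * (a * e')) = φ n := by
    intro n
    have h1 : (φ ^ a ^ 2) ^ e' = φ := he'
    have h2 := DFunLike.congr_fun h1 n
    rw [MonoidHom.pow_apply, MonoidHom.pow_apply, ← pow_mul] at h2
    have : a * (a * e') = a ^ 2 * e' := by ring
    rw [this]
    exact h2
  have hres : ∀ n : N, (τ ^ (a * e')) (n : G) = φ n := by
    intro n
    rw [MonoidHom.pow_apply, hτ n, ← pow_mul, he'' n]
  refine ⟨τ ^ (a * e'), hres, ?_⟩
  apply Nat.dvd_antisymm
  · have h1 : (τ ^ (a * e')) ^ b = 1 := by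
      ext g
      rw [MonoidHom.pow_apply, MonoidHom.pow_apply, ← pow_mul, MonoidHom.one_apply]
      have : a * e' * b = b * a * e' := by ring
      rw [this, pow_mul, hτb, one_pow]
    exact orderOf_dvd_of_pow_eq_one h1
  · have h1 : φ ^ orderOf (τ ^ (a * e')) = 1 := by
      ext n
      rw [MonoidHom.pow_apply, MonoidHom.one_apply, ← hres n, ← MonoidHom.pow_apply]
      have h2 : (τ ^ (a * e')) ^ orderOf (τ ^ (a * e')) = 1 := pow_orderOf_eq_one _
      rw [h2]
      rfl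
    exact orderOf_dvd_of_pow_eq_one h1

/-- Uniqueness of extensions of order coprime to the index. -/
theorem extension_unique_of_coprime [Finite G] (N : Subgroup G) [hN : N.Normal]
    (ψ₁ ψ₂ : G →* ℂˣ) (hres : ∀ n : N, ψ₁ n = ψ₂ n)
    (h₁ : Nat.Coprime N.index (orderOf ψ₁)) (h₂ : Nat.Coprime N.index (orderOf ψ₂)) :
    ψ₁ = ψ₂ := by
  have hp₁ : ∀ g : G, ψ₁ g ^ orderOf ψ₁ = 1 := by
    intro g
    have h1 : ψ₁ ^ orderOf ψ₁ = 1 := pow_orderOf_eq_one ψ₁
    have h2 := DFunLike.congr_fun h1 g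
    rwa [MonoidHom.pow_apply] at h2
  have hp₂ : ∀ g : G, ψ₂ g ^ orderOf ψ₂ = 1 := by
    intro g
    have h1 : ψ₂ ^ orderOf ψ₂ = 1 := pow_orderOf_eq_one ψ₂
    have h2 := DFunLike.congr_fun h1 g
    rwa [MonoidHom.pow_apply] at h2
  let ν : G →* ℂˣ := ψ₁ * ψ₂⁻¹
  have hνN : ν ^ N.index = 1 := by
    apply pow_index_eq_one N
    intro n hn
    show ψ₁ n * (ψ₂ n)⁻¹ = 1
    rw [hres ⟨n, hn⟩, mul_inv_cancel]
  have hνo : ν ^ (orderOf ψ₁ * orderOf ψ₂) = 1 := by
    apply MonoidHom.ext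
    intro g
    rw [MonoidHom.pow_apply, MonoidHom.one_apply]
    show (ψ₁ g * (ψ₂ g)⁻¹) ^ (orderOf ψ₁ * orderOf ψ₂) = 1
    rw [mul_pow, inv_pow, pow_mul, hp₁, one_pow, mul_comm (orderOf ψ₁), pow_mul, hp₂, one_pow,
      inv_one, mul_one]
  have h1 : orderOf ν ∣ N.index := orderOf_dvd_of_pow_eq_one (x := ν) hνN
  have h2 : orderOf ν ∣ orderOf ψ₁ * orderOf ψ₂ := orderOf_dvd_of_pow_eq_one (x := ν) hνo
  have h3 : orderOf ν = 1 :=
    Nat.eq_one_of_dvd_coprimes (Nat.Coprime.mul_right h₁ h₂) h1 h2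
  have h4 : ν = 1 := orderOf_eq_one_iff.1 h3
  apply MonoidHom.ext
  intro g
  have h5 := DFunLike.congr_fun h4 g
  have h6 : ψ₁ g * (ψ₂ g)⁻¹ = 1 := h5
  rw [mul_inv_eq_one] at h6
  rw [h6]

end Cfsg.Agent.Lib.Helper2.LinExt
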