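import Mathlib
import Cfsg.Agent.S0176

set_option autoImplicit false

/-! A generalisation of "nilpotent groups are M-groups" to classes of groups closed under
subgroups and quotients whose nonabelian members have a noncentral abelian normal subgroup. -/

namespace Cfsg.Agent.Lib.Helper2.MGroup

open Cfsg Cfsg.Agent.Lib.Helper1 Cfsg.Agent.Lib.Helper4 Cfsg.Agent.S0176
open scoped ComplexConjugate

universe u

/-- A class of groups to which the standard proof of monomiality applies. -/
structure MClass (𝒳 : ∀ (H : Type u) [Group H], Prop) : Prop where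
  sub : ∀ (H : Type u) [Group H], 𝒳 H → ∀ K : Subgroup H, 𝒳 K
  quot : ∀ (H : Type u) [Group H], 𝒳 H → ∀ (K : Subgroup H) [K.Normal], 𝒳 (H ⧸ K)
  ab : ∀ (H : Type u) [Group H] [Finite H], 𝒳 H → (¬ ∀ a b : H, a * b = b * a) →
    ∃ A : Subgroup H, A.Normal ∧ (∀ a ∈ A, ∀ b ∈ A, a * b = b * a) ∧ ¬ A ≤ Subgroup.center H

theorem main {𝒳 : ∀ (H : Type u) [Group H], Prop} (h𝒳 : MClass 𝒳) :
    ∀ n : ℕ, ∀ (G : Type u) [Group G] [Fintype G], 𝒳 G →
    Nat.card G = n → ∀ χ : G → ℂ, Cfsg.IsIrrCharacter G χ →
    ∃ (H : Subgroup G) (lam : H →* ℂˣ), χ = Cfsg.indFun H (fun h => (lam h : ℂ)) := by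
  intro n
  induction n using Nat.strong_induction_on with
  | _ n ih =>
  intro G _ _ hX hcard χ hχ
  classical
  obtain ⟨d, ρ, hirr, hρ⟩ := hχ
  have := hirr
  set K := MonoidHom.ker ρ with hK
  have hKn : K.Normal := MonoidHom.normal_ker ρ
  by_cases hKbot : K = ⊥
  · -- faithful case
    have hinj : Function.Injective ρ := by
      rw [← MonoidHom.ker_eq_bot_iff, ← hK, hKbot]
    by_cases hcomm : ∀ a b : G, a * b = b * a
    · -- abelian: χ is linear
      have hχirr : Cfsg.IsIrrCharacter G χ := ⟨d, ρ, hirr, hρ⟩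
      have h1 := irr_linear_of_comm hcomm hχirr
      obtain ⟨φ, hφ⟩ := exists_hom_of_isIrrCharacter hχirr h1
      refine ⟨⊤, φ.comp (⊤ : Subgroup G).subtype, ?_⟩
      have := indFun_top χ (isClassFunction_irr hχirr)
      rw [← this, hφ]
      rfl
    · -- nonabelian
      have hχirr : Cfsg.IsIrrCharacter G χ := ⟨d, ρ, hirr, hρ⟩
      obtain ⟨A, hAn, hAab, hAZ⟩ := h𝒳.ab G hX hcomm
      have : Fintype A := Fintype.ofFinite A
      have hχ1 : χ 1 = (d : ℂ) := by
        rw [← hρ, Representation.char_one, Module.finrank_fin_fun]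
      have hd0 : (d : ℂ) ≠ 0 := by
        have := finrank_ne_zero_of_irreducible ρ
        rwa [Module.finrank_fin_fun] at this
      have hres : Cfsg.IsCharacter A (fun h : A => χ h) :=
        Cfsg.Agent.S0148.isCharacter_restrict A (isCharacter_of_irr hχirr)
      obtain ⟨θ, hθ, m, hm0, hm⟩ := exists_constituent hres (by
        change χ ((1 : A) : G) ≠ 0
        rw [OneMemClass.coe_one, hχ1]; exact hd0)
      have hconst : Cfsg.classInner (fun n : A => χ n) θ ≠ 0 := by
        rw [hm]; exact_mod_cast hm0.ne'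
      have hθ1 : θ 1 = 1 :=
        irr_linear_of_comm (fun a b => Subtype.ext (hAab a a.2 b b.2)) hθ
      obtain ⟨φ, hφ⟩ := exists_hom_of_isIrrCharacter hθ hθ1
      have hnorm : ∀ h : A, ‖θ h‖ = 1 := by
        intro h; rw [hφ]; exact norm_hom_eq_one φ h
      set T := inertia A θ with hT
      have hNT : A ≤ T := le_inertia A (isClassFunction_irr hθ)
      -- T is proper
      have hTne : T ≠ ⊤ := by
        intro htop
        apply hAZ
        have hfix : ∀ (g : G) (a : A), θ ⟨g * a * g⁻¹, hAn.conj_mem a a.2 g⟩ = θ a := by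
          intro g a
          have hg : g ∈ inertia A θ := by rw [← hT, htop]; exact Subgroup.mem_top _
          exact congrFun hg a
        have hcl := Cfsg.Agent.S0174.result A hAn χ hχirr θ hθ hconst
        have hset : {ψ : A → ℂ | ∃ g : G, ψ = fun n : A => θ ⟨g * n * g⁻¹, hAn.conj_mem n n.2 g⟩}
            = {θ} := by
          ext ψ
          simp only [Set.mem_ofPred_eq, Set.mem_singleton_iff]
          constructor
          · rintro ⟨g, rfl⟩
            funext a
            exact hfix g a
          · rintro rfl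
            exact ⟨1, by funext a; exact (hfix 1 a).symm⟩
        rw [hset, finsum_mem_singleton] at hcl
        set c := Cfsg.classInner (fun n : A => χ n) θ with hc
        have hcd : c = d := by
          have := congrFun hcl 1
          simp only [Pi.smul_apply, smul_eq_mul, OneMemClass.coe_one, hθ1, mul_one] at this
          rw [← this, hχ1]
        intro a ha
        have hval : χ a = c * θ ⟨a, ha⟩ := congrFun hcl ⟨a, ha⟩
        have hsc : ∃ ω : ℂ, ρ a = ω • (LinearMap.id : (Fin d → ℂ) →ₗ[ℂ] (Fin d → ℂ)) := by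
          rw [← Cfsg.Agent.S0138.result ρ a, hρ, Module.finrank_fin_fun, hval, norm_mul, hnorm,
            mul_one, hcd]
          simp
        obtain ⟨ω, hω⟩ := hsc
        rw [Subgroup.mem_center_iff]
        intro g
        apply hinj
        rw [map_mul, map_mul, hω]
        ext v
        simp
      have : Fintype T := Fintype.ofFinite T
      obtain ⟨ψ, hψ, hχψ, -⟩ := clifford_correspondence A θ hθ χ hχirr hconst T hT hNT
      have hTlt : Nat.card T < n := by
        rw [← hcard]
        have h1 : Nat.card T ≤ Nat.card G := Subgroup.card_le_card_group T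
        have h2 : Nat.card T ≠ Nat.card G := fun h => hTne (Subgroup.eq_top_of_card_eq T h)
        omega
      obtain ⟨S, μ, hμ⟩ := ih (Nat.card T) hTlt T (h𝒳.sub G hX T) rfl ψ hψ
      have hmem : ∀ y : S.map T.subtype,
          (Subgroup.inclusion (Subgroup.map_subtype_le S) y : T) ∈ S := by
        intro y
        exact (mem_of_mem_map_subtype y.2).2
      refine ⟨S.map T.subtype,
        μ.comp ((Subgroup.inclusion (Subgroup.map_subtype_le S)).codRestrict S hmem), ?_⟩
      rw [hχψ, hμ, indFun_trans_map T S (fun s => (μ s : ℂ))]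
      rfl
  · -- non-faithful case: pass to the quotient
    have : Fintype (G ⧸ K) := Fintype.ofFinite _
    let π : G →* G ⧸ K := QuotientGroup.mk' K
    let σ : Representation ℂ (G ⧸ K) (Fin d → ℂ) := QuotientGroup.lift K ρ le_rfl
    have hσπ : ∀ g : G, σ (π g) = ρ g := fun g => rfl
    have hcomp : (σ.comp π : Representation ℂ G (Fin d → ℂ)) = ρ := by
      ext g : 1
      exact hσπ g
    have hσirr : σ.IsIrreducible := by
      apply Cfsg.Agent.S0179.isIrreducible_of_comp σ π
      rw [hcomp]
      exact hirr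
    have hlt : Nat.card (G ⧸ K) < n := by
      rw [← hcard, Subgroup.card_eq_card_quotient_mul_card_subgroup K]
      have h1 : 1 < Nat.card K := by
        rw [Finite.one_lt_card_iff_nontrivial]
        exact (Subgroup.nontrivial_iff_ne_bot K).2 hKbot
      have h2 : 0 < Nat.card (G ⧸ K) := Nat.card_pos
      nlinarith
    obtain ⟨Hbar, lbar, hl⟩ := ih (Nat.card (G ⧸ K)) hlt (G ⧸ K) (h𝒳.quot G hX K) rfl σ.character
      ⟨d, σ, hσirr, rfl⟩
    refine ⟨Hbar.comap π, lbar.comp (π.subgroupComap Hbar), ?_⟩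
    funext g
    have h1 : χ g = σ.character (π g) := by
      rw [← hρ]; rfl
    rw [h1, hl, ← indFun_comap_quotient K Hbar (fun h => (lbar h : ℂ)) g]
    rfl



/-- `H` is `p`-quasi-elementary (intrinsic form). -/
def QEType (p : ℕ) (H : Type u) [Group H] : Prop :=
  ∃ C : Subgroup H, C.Normal ∧ IsCyclic C ∧ Nat.Coprime (Nat.card C) p ∧ ∃ k : ℕ, C.index = p ^ k

theorem qeType_mclass (p : ℕ) (hp : p.Prime) : MClass (fun H [Group H] => QEType p H) := by
  haveI : Fact p.Prime := ⟨hp⟩
  refine ⟨?_, ?_, ?_⟩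
  · intro H _ hH K
    obtain ⟨C, hCn, hCc, hcop, k, hk⟩ := hH
    haveI := hCn
    haveI := hCc
    let f : C.subgroupOf K →* C := K.subtype.subgroupComap C
    have hf : Function.Injective f := by
      intro a b hab
      apply Subtype.ext
      apply Subtype.ext
      exact congrArg (fun x : C => (x : H)) hab
    refine ⟨C.subgroupOf K, Subgroup.normal_subgroupOf, isCyclic_of_injective f hf,
      Nat.Coprime.coprime_dvd_left (Subgroup.card_dvd_of_injective f hf) hcop, ?_⟩
    have h1 : (C.subgroupOf K).index ∣ C.index := Subgroup.relIndex_dvd_index_of_normal C K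
    rw [hk] at h1
    obtain ⟨j, -, hj⟩ := (Nat.dvd_prime_pow hp).1 h1
    exact ⟨j, hj⟩
  · intro H _ hH K _
    obtain ⟨C, hCn, hCc, hcop, k, hk⟩ := hH
    haveI := hCc
    have hsurj : Function.Surjective (QuotientGroup.mk' K) := QuotientGroup.mk'_surjective K
    let f : C →* C.map (QuotientGroup.mk' K) := (QuotientGroup.mk' K).subgroupMap C
    have hf : Function.Surjective f := MonoidHom.subgroupMap_surjective _ _
    refine ⟨C.map (QuotientGroup.mk' K), hCn.map _ hsurj, isCyclic_of_surjective f hf,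
      Nat.Coprime.coprime_dvd_left (Subgroup.card_dvd_of_surjective f hf) hcop, ?_⟩
    have h1 : (C.map (QuotientGroup.mk' K)).index ∣ C.index := Subgroup.index_map_dvd C hsurj
    rw [hk] at h1
    obtain ⟨j, -, hj⟩ := (Nat.dvd_prime_pow hp).1 h1
    exact ⟨j, hj⟩
  · intro H _ _ hH hnc
    obtain ⟨C, hCn, hCc, hcop, k, hk⟩ := hH
    haveI := hCn
    by_cases hCZ : C ≤ Subgroup.center H
    · haveI : Group.IsNilpotent (H ⧸ C) := by
        apply IsPGroup.isNilpotent (p := p)
        apply IsPGroup.of_card (n := k)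
        rw [← hk]
        exact (Subgroup.index_eq_card C).symm
      haveI : Group.IsNilpotent H := by
        apply Subgroup.isNilpotent_of_ker_le_center (QuotientGroup.mk' C)
        rw [QuotientGroup.ker_mk']
        exact hCZ
      exact exists_abelian_normal_noncentral hnc
    · refine ⟨C, hCn, ?_, hCZ⟩
      intro a ha b hb
      obtain ⟨c, hc⟩ := hCc.exists_generator
      obtain ⟨i, hi⟩ := Subgroup.mem_zpowers_iff.1 (hc ⟨a, ha⟩)
      obtain ⟨j, hj⟩ := Subgroup.mem_zpowers_iff.1 (hc ⟨b, hb⟩)
      have h1 : (⟨a, ha⟩ : C) * ⟨b, hb⟩ = ⟨b, hb⟩ * ⟨a, ha⟩ := by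
        rw [← hi, ← hj, ← zpow_add, ← zpow_add, add_comm]
      exact congrArg Subtype.val h1

/-- A nonlinear irreducible character of a `p`-quasi-elementary group is induced from a linear
character of a proper subgroup. -/
theorem exists_proper_induced (p : ℕ) (hp : p.Prime) (H : Type u) [Group H] [Fintype H]
    (hH : QEType p H) (χ : H → ℂ) (hχ : Cfsg.IsIrrCharacter H χ) (hχ1 : χ 1 ≠ 1) :
    ∃ (K : Subgroup H) (lam : K →* ℂˣ), K ≠ ⊤ ∧ χ = Cfsg.indFun K (fun h => (lam h : ℂ)) := by
  obtain ⟨K, lam, hK⟩ := main (qeType_mclass p hp) (Nat.card H) H hH rfl χ hχ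
  refine ⟨K, lam, ?_, hK⟩
  rintro rfl
  apply hχ1
  rw [hK, Cfsg.Agent.S0170.indFun_one, Subgroup.card_top]
  have h0 : (Nat.card H : ℂ) ≠ 0 := Nat.cast_ne_zero.2 Nat.card_pos.ne'
  rw [← mul_assoc, inv_mul_cancel₀ h0, one_mul, map_one, Units.val_one]

end Cfsg.Agent.Lib.Helper2.MGroup
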