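import Mathlib
import Cfsg.Prelude.Def_Characters
import Cfsg.Agent.S0870
import Cfsg.Agent.S0871
import Cfsg.Agent.S0177
import Cfsg.Agent.Lib.Helper1.IndFun
import Cfsg.Agent.Lib.Helper1.CliffordCorr

set_option autoImplicit false

/-! Integer combinations of permutation characters (towards Solomon's and Brauer's induction
theorems). -/

namespace Cfsg.Agent.Lib.Helper2.PermSpan

open Cfsg Cfsg.Agent.Lib.Helper1

universe u

section QE

variable {G : Type u} [Group G]

/-- `H` is `p`-quasi-elementary: it has a cyclic normal subgroup of order prime to `p` and of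
`p`-power index. -/
def IsQE (p : ℕ) (H : Subgroup G) : Prop :=
  ∃ C : Subgroup G, C ≤ H ∧ H ≤ Subgroup.normalizer (C : Set G) ∧ IsCyclic C ∧
    Nat.Coprime (Nat.card C) p ∧ ∃ k : ℕ, C.relIndex H = p ^ k

theorem IsQE.mono {p : ℕ} (hp : p.Prime) {H U : Subgroup G} (hH : IsQE p H) (hU : U ≤ H) :
    IsQE p U := by
  obtain ⟨C, hCH, hHN, hCc, hcop, k, hk⟩ := hH
  refine ⟨C ⊓ U, inf_le_right, ?_, ?_, ?_, ?_⟩
  · intro u hu
    rw [Subgroup.mem_normalizer_iff]
    intro x
    have h1 := (Subgroup.mem_normalizer_iff.1 (hHN (hU hu))) x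
    rw [Subgroup.mem_inf, Subgroup.mem_inf, h1]
    constructor
    · rintro ⟨h2, h3⟩
      exact ⟨h2, U.mul_mem (U.mul_mem hu h3) (U.inv_mem hu)⟩
    · rintro ⟨h2, h3⟩
      refine ⟨h2, ?_⟩
      have h4 : x = u⁻¹ * (u * x * u⁻¹) * u := by group
      rw [h4]
      exact U.mul_mem (U.mul_mem (U.inv_mem hu) h3) hu
  · haveI := hCc
    exact isCyclic_of_injective (Subgroup.inclusion (inf_le_left : C ⊓ U ≤ C))
      (Subgroup.inclusion_injective _)
  · exact Nat.Coprime.coprime_dvd_left (Subgroup.card_dvd_of_le inf_le_left) hcop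
  · rw [Subgroup.inf_relIndex_right]
    haveI : (C.subgroupOf H).Normal := Subgroup.normal_subgroupOf_of_le_normalizer hHN
    have h1 : (C.subgroupOf H).relIndex (U.subgroupOf H) ∣ (C.subgroupOf H).index :=
      Subgroup.relIndex_dvd_index_of_normal _ _
    rw [Subgroup.relIndex_subgroupOf hU] at h1
    have h2 : (C.subgroupOf H).index = p ^ k := hk
    rw [h2] at h1
    obtain ⟨j, -, hj⟩ := (Nat.dvd_prime_pow hp).1 h1
    exact ⟨j, hj⟩

theorem isQE_of_isCyclic [Finite G] {p : ℕ} (hp : p.Prime) (A : Subgroup G) (hA : IsCyclic A) :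
    IsQE p A := by
  obtain ⟨a, ha⟩ := hA.exists_generator
  have hcomm : ∀ x ∈ A, ∀ y ∈ A, x * y = y * x := by
    intro x hx y hy
    obtain ⟨i, hi⟩ := Subgroup.mem_zpowers_iff.1 (ha ⟨x, hx⟩)
    obtain ⟨j, hj⟩ := Subgroup.mem_zpowers_iff.1 (ha ⟨y, hy⟩)
    have h1 : (⟨x, hx⟩ : A) * ⟨y, hy⟩ = ⟨y, hy⟩ * ⟨x, hx⟩ := by
      rw [← hi, ← hj, ← zpow_add, ← zpow_add, add_comm]
    exact congrArg Subtype.val h1
  have hcardA : Nat.card A = orderOf (a : G) := by
    rw [Subgroup.orderOf_coe, ← Nat.card_zpowers a]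
    have h1 : Subgroup.zpowers a = ⊤ := (Subgroup.eq_top_iff' _).2 ha
    rw [h1, Subgroup.card_top]
  obtain ⟨e, n', hn', hen⟩ := Nat.exists_eq_pow_mul_and_not_dvd (n := Nat.card A)
    Nat.card_pos.ne' p hp.ne_one
  have hpe : p ^ e ≠ 0 := pow_ne_zero _ hp.pos.ne'
  have hn'0 : n' ≠ 0 := by
    rintro rfl
    rw [mul_zero] at hen
    exact Nat.card_pos.ne' hen
  set C : Subgroup G := Subgroup.zpowers ((a : G) ^ (p ^ e)) with hC
  have hCA : C ≤ A := by
    rw [hC, Subgroup.zpowers_le]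
    exact A.pow_mem a.2 _
  have hcardC : Nat.card C = n' := by
    rw [hC, Nat.card_zpowers, orderOf_pow' _ hpe, ← hcardA, hen]
    rw [Nat.gcd_eq_right (Dvd.intro _ rfl), Nat.mul_div_cancel_left _ (Nat.pos_of_ne_zero hpe)]
  refine ⟨C, hCA, ?_, ?_, ?_, e, ?_⟩
  · intro x hx
    rw [Subgroup.mem_normalizer_iff]
    intro h
    constructor
    · intro hh
      have h1 : x * h * x⁻¹ = h := by
        rw [hcomm x hx h (hCA hh), mul_inv_cancel_right]
      rw [h1]
      exact hh
    · intro hh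
      have h2 : h ∈ A := by
        have h3 : h = x⁻¹ * (x * h * x⁻¹) * x := by group
        rw [h3]
        exact A.mul_mem (A.mul_mem (A.inv_mem hx) (hCA hh)) hx
      have h1 : x * h * x⁻¹ = h := by
        rw [hcomm x hx h h2, mul_inv_cancel_right]
      rw [← h1]
      exact hh
  · rw [hC]
    infer_instance
  · rw [hcardC]
    exact ((Nat.Prime.coprime_iff_not_dvd hp).2 hn').symm
  · have h1 : Nat.card (C.subgroupOf A) * (C.subgroupOf A).index = Nat.card A :=
      Subgroup.card_mul_index _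
    have h2 : Nat.card (C.subgroupOf A) = Nat.card C :=
      Nat.card_congr (Subgroup.subgroupOfEquivOfLe hCA).toEquiv
    rw [h2, hcardC, hen, mul_comm] at h1
    exact Nat.eq_of_mul_eq_mul_right (Nat.pos_of_ne_zero hn'0) h1

end QE


section Span

variable {G : Type u} [Group G] [Fintype G]

/-- The additive group generated by the permutation characters `(1_H)^G`, `H ∈ 𝒮`. -/
def permSpan (𝒮 : Set (Subgroup G)) : AddSubgroup (G → ℂ) :=
  AddSubgroup.closure {f | ∃ H ∈ 𝒮, f = Cfsg.indFun H (fun _ => (1 : ℂ))}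

theorem ind_mem_permSpan {𝒮 : Set (Subgroup G)} {H : Subgroup G} (hH : H ∈ 𝒮) :
    Cfsg.indFun H (fun _ => (1 : ℂ)) ∈ permSpan 𝒮 :=
  AddSubgroup.subset_closure ⟨H, hH, rfl⟩

theorem permSpan_mono {𝒮 𝒯 : Set (Subgroup G)} (h : 𝒮 ⊆ 𝒯) : permSpan 𝒮 ≤ permSpan 𝒯 := by
  apply AddSubgroup.closure_mono
  rintro f ⟨H, hH, rfl⟩
  exact ⟨H, h hH, rfl⟩

theorem mul_mem_permSpan {𝒮 : Set (Subgroup G)} (hdown : ∀ H ∈ 𝒮, ∀ U : Subgroup G, U ≤ H → U ∈ 𝒮)
    {f g : G → ℂ} (hf : f ∈ permSpan 𝒮) (hg : g ∈ permSpan 𝒮) : f * g ∈ permSpan 𝒮 := by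
  induction hf using AddSubgroup.closure_induction with
  | mem f hf =>
    obtain ⟨H, hH, rfl⟩ := hf
    induction hg using AddSubgroup.closure_induction with
    | mem g hg =>
      obtain ⟨K, hK, rfl⟩ := hg
      obtain ⟨a, ha, hprod⟩ := Cfsg.Agent.S0870.result H K
      rw [hprod]
      apply AddSubgroup.sum_mem
      intro U _
      by_cases hU : a U = 0
      · rw [hU, Nat.cast_zero, zero_smul]
        exact AddSubgroup.zero_mem _
      · rw [Nat.cast_smul_eq_nsmul]
        exact AddSubgroup.nsmul_mem _ (ind_mem_permSpan (hdown H hH U (ha U hU))) _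
    | zero => rw [mul_zero]; exact AddSubgroup.zero_mem _
    | add x y _ _ hx hy => rw [mul_add]; exact AddSubgroup.add_mem _ hx hy
    | neg x _ hx => rw [mul_neg]; exact AddSubgroup.neg_mem _ hx
  | zero => rw [zero_mul]; exact AddSubgroup.zero_mem _
  | add x y _ _ hx hy => rw [add_mul]; exact AddSubgroup.add_mem _ hx hy
  | neg x _ hx => rw [neg_mul]; exact AddSubgroup.neg_mem _ hx

/-- Explicit coefficients for an element of `permSpan`. -/
theorem exists_coeff_of_mem_permSpan {𝒮 : Set (Subgroup G)} {f : G → ℂ} (hf : f ∈ permSpan 𝒮) :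
    ∃ a : Subgroup G → ℤ, (∀ H, a H ≠ 0 → H ∈ 𝒮) ∧
      f = ∑ H : Subgroup G, (a H : ℂ) • Cfsg.indFun H (fun _ => (1 : ℂ)) := by
  classical
  induction hf using AddSubgroup.closure_induction with
  | mem f hf =>
    obtain ⟨H, hH, rfl⟩ := hf
    refine ⟨Pi.single H 1, ?_, ?_⟩
    · intro K hK
      by_cases hKH : K = H
      · rw [hKH]; exact hH
      · rw [Pi.single_eq_of_ne hKH] at hK
        exact absurd rfl hK
    · rw [Finset.sum_eq_single H]
      · rw [Pi.single_eq_same, Int.cast_one, one_smul]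
      · intro K _ hKH
        rw [Pi.single_eq_of_ne hKH, Int.cast_zero, zero_smul]
      · intro h
        exact absurd (Finset.mem_univ H) h
  | zero =>
    refine ⟨0, fun H h => absurd rfl h, ?_⟩
    simp
  | add x y _ _ hx hy =>
    obtain ⟨a, ha, rfl⟩ := hx
    obtain ⟨b, hb, rfl⟩ := hy
    refine ⟨a + b, ?_, ?_⟩
    · intro H hH
      by_contra hc
      apply hH
      have h1 : a H = 0 := by
        by_contra h
        exact hc (ha H h)
      have h2 : b H = 0 := by
        by_contra h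
        exact hc (hb H h)
      rw [Pi.add_apply, h1, h2, add_zero]
    · rw [← Finset.sum_add_distrib]
      refine Finset.sum_congr rfl fun H _ => ?_
      rw [Pi.add_apply, Int.cast_add, add_smul]
  | neg x _ hx =>
    obtain ⟨a, ha, rfl⟩ := hx
    refine ⟨-a, ?_, ?_⟩
    · intro H hH
      apply ha
      intro h
      apply hH
      rw [Pi.neg_apply, h, neg_zero]
    · rw [← Finset.sum_neg_distrib]
      refine Finset.sum_congr rfl fun H _ => ?_
      rw [Pi.neg_apply, Int.cast_neg, neg_smul]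

/-- Integer-valued class functions that are constant on the generators of each cyclic
subgroup. -/
structure IsNice (f : G → ℂ) : Prop where
  int : ∀ x, ∃ z : ℤ, f x = z
  cls : Cfsg.IsClassFunction G f
  gen : ∀ x y : G, Subgroup.zpowers x = Subgroup.zpowers y → f x = f y

theorem isNice_ind (H : Subgroup G) : IsNice (Cfsg.indFun H (fun _ => (1 : ℂ))) := by
  refine ⟨fun x => ⟨(Nat.card (MulAction.fixedBy (G ⧸ H) x) : ℤ), ?_⟩,
    indFun_isClassFunction H _, fun x y hxy => ?_⟩
  · rw [Cfsg.Agent.S0871.indFun_one_eq_card_fixedBy]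
    simp
  · rw [Cfsg.Agent.S0871.indFun_one_eq_card_fixedBy, Cfsg.Agent.S0871.indFun_one_eq_card_fixedBy]
    have h1 : ∀ z : G, MulAction.fixedBy (G ⧸ H) z =
        {q | Subgroup.zpowers z ≤ MulAction.stabilizer G q} := by
      intro z
      ext q
      rw [Set.mem_setOf_eq, Subgroup.zpowers_le, MulAction.mem_stabilizer_iff,
        MulAction.mem_fixedBy]
    rw [h1 x, h1 y, hxy]

theorem isNice_of_mem_permSpan {𝒮 : Set (Subgroup G)} {f : G → ℂ} (hf : f ∈ permSpan 𝒮) :
    IsNice f := by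
  induction hf using AddSubgroup.closure_induction with
  | mem f hf =>
    obtain ⟨H, -, rfl⟩ := hf
    exact isNice_ind H
  | zero =>
    exact ⟨fun x => ⟨0, by simp⟩, fun g h => rfl, fun x y _ => rfl⟩
  | add x y _ _ hx hy =>
    refine ⟨fun t => ?_, fun g h => ?_, fun s t hst => ?_⟩
    · obtain ⟨a, ha⟩ := hx.int t
      obtain ⟨b, hb⟩ := hy.int t
      exact ⟨a + b, by rw [Pi.add_apply, ha, hb, Int.cast_add]⟩
    · show x _ + y _ = x _ + y _
      rw [hx.cls g h, hy.cls g h]
    · rw [Pi.add_apply, Pi.add_apply, hx.gen s t hst, hy.gen s t hst]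
  | neg x _ hx =>
    refine ⟨fun t => ?_, fun g h => ?_, fun s t hst => ?_⟩
    · obtain ⟨a, ha⟩ := hx.int t
      exact ⟨-a, by rw [Pi.neg_apply, ha, Int.cast_neg]⟩
    · show - x _ = - x _
      rw [hx.cls g h]
    · rw [Pi.neg_apply, Pi.neg_apply, hx.gen s t hst]

end Span


section Artin

variable {G : Type u} [Group G] [Fintype G]

open Cfsg.Agent.S0177

open Classical in
theorem indFun_genFun_apply (A : Subgroup G) (g : G) :
    Cfsg.indFun A (genFun A) g
      = ∑ x : G, if Subgroup.zpowers (x⁻¹ * g * x) = A then (1 : ℂ) else 0 := by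
  classical
  have hA0 : (Nat.card A : ℂ) ≠ 0 := Nat.cast_ne_zero.2 Nat.card_pos.ne'
  rw [indFun_apply, Finset.mul_sum]
  refine Finset.sum_congr rfl fun x _ => ?_
  rw [extendByZero_genFun]
  split_ifs
  · exact inv_mul_cancel₀ hA0
  · rw [mul_zero]

open Classical in
theorem card_mul_indFun_one (A : Subgroup G) (g : G) :
    (Nat.card A : ℂ) * Cfsg.indFun A (fun _ => (1 : ℂ)) g
      = ∑ x : G, if x⁻¹ * g * x ∈ A then (1 : ℂ) else 0 := by
  classical
  have hA0 : (Nat.card A : ℂ) ≠ 0 := Nat.cast_ne_zero.2 Nat.card_pos.ne'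
  rw [Cfsg.Agent.S0870.one_eq, ← mul_assoc, mul_inv_cancel₀ hA0, one_mul]
  unfold Cfsg.Agent.S0870.S
  refine Finset.sum_congr rfl fun x _ => ?_
  exact Cfsg.Agent.S0870.ext_one A _

open Classical in
theorem sum_le_indFun_genFun (A : Subgroup G) :
    ∑ B ∈ (Finset.univ : Finset (Subgroup G)).filter (fun B => B ≤ A),
      Cfsg.indFun B (genFun B) = (Nat.card A : ℂ) • Cfsg.indFun A (fun _ => (1 : ℂ)) := by
  classical
  funext g
  rw [Finset.sum_apply, Pi.smul_apply, smul_eq_mul, card_mul_indFun_one]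
  rw [Finset.sum_congr rfl (fun B _ => indFun_genFun_apply B g), Finset.sum_comm]
  refine Finset.sum_congr rfl fun x _ => ?_
  rw [Finset.sum_ite_eq]
  simp only [Finset.mem_filter, Finset.mem_univ, true_and, Subgroup.zpowers_le]

omit [Fintype G] in
theorem genFun_eq_zero_of_not_isCyclic (A : Subgroup G) (hA : ¬ IsCyclic A) :
    genFun A = 0 := by
  classical
  funext a
  unfold genFun
  rw [if_neg]
  · rfl
  · intro h
    exact hA (isCyclic_iff_exists_zpowers_eq_top.2 ⟨a, h⟩)

theorem indFun_genFun_mem : ∀ (n : ℕ) (A : Subgroup G), Nat.card A = n →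
    Cfsg.indFun A (genFun A) ∈ permSpan {D : Subgroup G | IsCyclic D} := by
  classical
  intro n
  induction n using Nat.strong_induction_on with
  | _ n ih =>
  intro A hcard
  by_cases hA : IsCyclic A
  · have h1 := sum_le_indFun_genFun A
    have h2 : (Finset.univ : Finset (Subgroup G)).filter (fun B => B ≤ A)
        = insert A ((Finset.univ : Finset (Subgroup G)).filter (fun B => B < A)) := by
      ext B
      simp only [Finset.mem_filter, Finset.mem_univ, true_and, Finset.mem_insert]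
      rw [le_iff_eq_or_lt]
    rw [h2, Finset.sum_insert (by simp)] at h1
    have h3 : Cfsg.indFun A (genFun A) = (Nat.card A : ℂ) • Cfsg.indFun A (fun _ => (1 : ℂ))
        - ∑ B ∈ (Finset.univ : Finset (Subgroup G)).filter (fun B => B < A),
            Cfsg.indFun B (genFun B) := by
      rw [← h1]
      ring
    rw [h3]
    apply AddSubgroup.sub_mem
    · rw [Nat.cast_smul_eq_nsmul]
      exact AddSubgroup.nsmul_mem _ (ind_mem_permSpan hA) _
    · apply AddSubgroup.sum_mem
      intro B hB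
      rw [Finset.mem_filter] at hB
      apply ih (Nat.card B) _ B rfl
      rw [← hcard]
      have h4 : Nat.card B ≤ Nat.card A := Subgroup.card_le_of_le hB.2.le
      have h5 : Nat.card B ≠ Nat.card A := by
        intro h
        exact hB.2.ne (Subgroup.eq_of_le_of_card_ge hB.2.le h.ge)
      omega
  · rw [genFun_eq_zero_of_not_isCyclic A hA, indFun_zero]
    exact AddSubgroup.zero_mem _

/-- Artin: `|G|` times a nice function is an integer combination of permutation characters of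
cyclic subgroups. -/
theorem card_smul_mem_of_isNice {g : G → ℂ} (hg : IsNice g) :
    (Nat.card G : ℂ) • g ∈ permSpan {D : Subgroup G | IsCyclic D} := by
  classical
  have hc : ∀ A : Subgroup G, ∃ c : ℤ, (genFun A * fun a : A => g a) = (c : ℂ) • genFun A := by
    intro A
    by_cases hA : ∃ a : A, Subgroup.zpowers a = ⊤
    · obtain ⟨a₀, ha₀⟩ := hA
      obtain ⟨c, hc⟩ := hg.int (a₀ : G)
      refine ⟨c, ?_⟩
      funext a
      rw [Pi.mul_apply, Pi.smul_apply, smul_eq_mul]
      unfold genFun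
      by_cases ha : Subgroup.zpowers a = ⊤
      · rw [if_pos ha, ← hc]
        have h1 : Subgroup.zpowers (a : G) = Subgroup.zpowers (a₀ : G) := by
          rw [(zpowers_subtype_eq_top_iff A (a : G) a.2).1 ha,
            (zpowers_subtype_eq_top_iff A (a₀ : G) a₀.2).1 ha₀]
        rw [hg.gen _ _ h1, mul_comm]
      · rw [if_neg ha, zero_mul, mul_zero]
    · refine ⟨0, ?_⟩
      have h1 : genFun A = 0 := by
        apply genFun_eq_zero_of_not_isCyclic
        intro h
        exact hA (isCyclic_iff_exists_zpowers_eq_top.1 h)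
      rw [h1, zero_mul, smul_zero]
  choose c hc using hc
  have h1 : (Nat.card G : ℂ) • g = ∑ A : Subgroup G, (c A : ℂ) • Cfsg.indFun A (genFun A) := by
    have h2 : (Nat.card G : ℂ) • g = (∑ A : Subgroup G, Cfsg.indFun A (genFun A)) * g := by
      funext x
      rw [Pi.smul_apply, Pi.mul_apply, Finset.sum_apply, sum_indFun_genFun, smul_eq_mul]
    rw [h2, Finset.sum_mul]
    refine Finset.sum_congr rfl fun A _ => ?_
    rw [indFun_mul A (genFun A) g hg.cls, hc A, indFun_smul]
  rw [h1]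
  apply AddSubgroup.sum_mem
  intro A _
  rw [Int.cast_smul_eq_zsmul]
  exact AddSubgroup.zsmul_mem _ (indFun_genFun_mem _ A rfl) _

end Artin


section ModP

variable {S : Type*}

theorem pow_mem_of_pos (R : AddSubgroup (S → ℤ)) (hmul : ∀ f ∈ R, ∀ g ∈ R, f * g ∈ R)
    {f : S → ℤ} (hf : f ∈ R) : ∀ k : ℕ, 0 < k → f ^ k ∈ R := by
  intro k hk
  induction k with
  | zero => exact absurd hk (lt_irrefl 0)
  | succ k ih =>
    by_cases hk0 : k = 0
    · subst hk0
      rw [zero_add, pow_one]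
      exact hf
    · rw [pow_succ]
      exact hmul _ (ih (Nat.pos_of_ne_zero hk0)) _ hf

/-- A local form of Banaschewski's lemma: a multiplicatively closed additive group of integer
functions that is not contained in `p ℤ` at any point contains a function congruent to `1`
modulo `p ^ (k + 1)` everywhere. -/
theorem exists_congr_one [Finite S] (p : ℕ) [hp : Fact p.Prime] (R : AddSubgroup (S → ℤ))
    (hmul : ∀ f ∈ R, ∀ g ∈ R, f * g ∈ R) (hx : ∀ x, ∃ f ∈ R, ¬ (p : ℤ) ∣ f x) (k : ℕ) :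
    ∃ f ∈ R, ∀ x, (p : ℤ) ^ (k + 1) ∣ f x - 1 := by
  classical
  haveI : Fintype S := Fintype.ofFinite S
  have hp1 : 0 < p - 1 := Nat.sub_pos_of_lt hp.out.one_lt
  have step : ∀ T : Finset S, ∃ f ∈ R, ∀ x ∈ T, ((f x : ℤ) : ZMod p) = 1 := by
    intro T
    induction T using Finset.induction_on with
    | empty => exact ⟨0, R.zero_mem, fun x hx => absurd hx (Finset.notMem_empty x)⟩
    | insert y T hy ih =>
      obtain ⟨f, hfR, hf⟩ := ih
      obtain ⟨h, hhR, hh⟩ := hx y
      have hE : f ^ (p - 1) ∈ R := pow_mem_of_pos R hmul hfR _ hp1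
      have hH : h ^ (p - 1) ∈ R := pow_mem_of_pos R hmul hhR _ hp1
      refine ⟨f ^ (p - 1) + h ^ (p - 1) - f ^ (p - 1) * h ^ (p - 1),
        R.sub_mem (R.add_mem hE hH) (hmul _ hE _ hH), ?_⟩
      intro x hxT
      have hval : (((f ^ (p - 1) + h ^ (p - 1) - f ^ (p - 1) * h ^ (p - 1)) x : ℤ) : ZMod p)
          = ((f x : ℤ) : ZMod p) ^ (p - 1) + ((h x : ℤ) : ZMod p) ^ (p - 1)
            - ((f x : ℤ) : ZMod p) ^ (p - 1) * ((h x : ℤ) : ZMod p) ^ (p - 1) := by
        simp only [Pi.sub_apply, Pi.add_apply, Pi.mul_apply, Pi.pow_apply]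
        push_cast
        ring
      rw [hval]
      rcases Finset.mem_insert.1 hxT with rfl | hxT'
      · have h1 : ((h x : ℤ) : ZMod p) ≠ 0 := by
          intro h0
          exact hh ((ZMod.intCast_zmod_eq_zero_iff_dvd _ _).1 h0)
        rw [ZMod.pow_card_sub_one_eq_one h1]
        ring
      · rw [hf x hxT', one_pow]
        ring
  obtain ⟨f, hfR, hf⟩ := step Finset.univ
  refine ⟨f ^ (p ^ k), pow_mem_of_pos R hmul hfR _ (pow_pos hp.out.pos k), fun x => ?_⟩
  have h1 : (p : ℤ) ∣ f x - 1 := by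
    rw [← ZMod.intCast_zmod_eq_zero_iff_dvd]
    push_cast
    rw [hf x (Finset.mem_univ x), sub_self]
  have h2 := dvd_sub_pow_of_dvd_sub h1 k
  rw [one_pow] at h2
  exact h2

end ModP


section Solomon

variable {G : Type u} [Group G] [Fintype G]

/-- The local form of Solomon's induction theorem. -/
theorem exists_const_mem (p : ℕ) (hp : p.Prime) :
    ∃ m : ℕ, ¬ p ∣ m ∧ (fun _ : G => (m : ℂ)) ∈ permSpan {H : Subgroup G | IsQE p H} := by
  classical
  haveI : Fact p.Prime := ⟨hp⟩
  set W : AddSubgroup (G → ℂ) := permSpan {H : Subgroup G | IsQE p H} with hW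
  have hdown : ∀ H ∈ {H : Subgroup G | IsQE p H}, ∀ U : Subgroup G, U ≤ H →
      U ∈ {H : Subgroup G | IsQE p H} := fun H hH U hU => IsQE.mono hp hH hU
  let cast : (G → ℤ) →+ (G → ℂ) := (Int.castAddHom ℂ).compLeft G
  have hcast : ∀ (F : G → ℤ) (x : G), cast F x = (F x : ℂ) := fun F x => rfl
  set R : AddSubgroup (G → ℤ) := W.comap cast with hR
  have hmul : ∀ f ∈ R, ∀ g ∈ R, f * g ∈ R := by
    intro f hf g hg
    have h1 : cast (f * g) = cast f * cast g := by
      funext x
      rw [Pi.mul_apply, hcast, hcast, hcast, Pi.mul_apply, Int.cast_mul]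
    show cast (f * g) ∈ W
    rw [h1]
    exact mul_mem_permSpan hdown hf hg
  have hlift : ∀ f ∈ W, ∃ F : G → ℤ, cast F = f := by
    intro f hf
    have h1 := (isNice_of_mem_permSpan hf).int
    choose F hF using h1
    exact ⟨F, funext fun x => by rw [hcast, hF]⟩
  have hx : ∀ x : G, ∃ f ∈ R, ¬ (p : ℤ) ∣ f x := by
    intro x
    obtain ⟨H, hH, n, hn, hpn⟩ := Cfsg.Agent.S0871.result x p hp
    obtain ⟨F, hF⟩ := hlift _ (ind_mem_permSpan (𝒮 := {H : Subgroup G | IsQE p H}) hH)
    refine ⟨F, ?_, ?_⟩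
    · show cast F ∈ W
      rw [hF]
      exact ind_mem_permSpan hH
    · have h1 : (F x : ℂ) = (n : ℂ) := by
        rw [← hcast, hF, hn]
      have h2 : F x = (n : ℤ) := by exact_mod_cast h1
      rw [h2]
      exact fun h => hpn (Int.natCast_dvd_natCast.1 h)
  obtain ⟨e, n', hn', hen⟩ := Nat.exists_eq_pow_mul_and_not_dvd (n := Nat.card G)
    Nat.card_pos.ne' p hp.ne_one
  obtain ⟨F, hFR, hF⟩ := exists_congr_one p R hmul hx e
  have hF' : ∀ x, ∃ z : ℤ, F x - 1 = (p : ℤ) ^ e * z := by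
    intro x
    exact dvd_trans (pow_dvd_pow (p : ℤ) (Nat.le_succ e)) (hF x)
  choose z hz using hF'
  have hFnice : IsNice (cast F) := isNice_of_mem_permSpan hFR
  have hpe : ((p : ℤ) ^ e) ≠ 0 := pow_ne_zero _ (by exact_mod_cast hp.pos.ne')
  have hzeq : ∀ x y : G, cast F x = cast F y → z x = z y := by
    intro x y hxy
    rw [hcast, hcast] at hxy
    have h1 : F x = F y := by exact_mod_cast hxy
    have h2 : (p : ℤ) ^ e * z x = (p : ℤ) ^ e * z y := by
      rw [← hz x, ← hz y, h1]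
    exact mul_left_cancel₀ hpe h2
  have hgnice : IsNice (fun x => (z x : ℂ)) := by
    refine ⟨fun x => ⟨z x, rfl⟩, fun g h => ?_, fun x y hxy => ?_⟩
    · show ((z (h * g * h⁻¹) : ℤ) : ℂ) = (z g : ℂ)
      rw [hzeq _ _ (hFnice.cls g h)]
    · show ((z x : ℤ) : ℂ) = (z y : ℂ)
      rw [hzeq _ _ (hFnice.gen x y hxy)]
  have h1 : (Nat.card G : ℂ) • (fun x => (z x : ℂ)) ∈ W := by
    apply permSpan_mono _ (card_smul_mem_of_isNice hgnice)
    intro D hD
    exact isQE_of_isCyclic hp D hD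
  have h2 : (fun _ : G => (n' : ℂ)) = n' • cast F - (Nat.card G : ℂ) • (fun x => (z x : ℂ)) := by
    funext x
    rw [Pi.sub_apply, Pi.smul_apply, Pi.smul_apply, hcast, smul_eq_mul, nsmul_eq_mul, hen]
    have h3 : (F x : ℂ) = 1 + (p : ℂ) ^ e * (z x : ℂ) := by
      have h4 : F x = 1 + (p : ℤ) ^ e * z x := by
        rw [← hz x]
        ring
      rw [h4]
      push_cast
      ring
    rw [h3]
    push_cast
    ring
  refine ⟨n', hn', ?_⟩
  rw [h2]
  exact W.sub_mem (W.nsmul_mem hFR _) h1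

end Solomon

end Cfsg.Agent.Lib.Helper2.PermSpan
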