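import Mathlib
import Cfsg.Agent.Lib.Helper2.PermSpan
import Cfsg.Agent.Lib.Helper2.MGroup
import Cfsg.Agent.Lib.Helper2.LinExt
import Cfsg.Agent.Lib.Helper1.CharFound7
import Cfsg.Agent.S0873
import Cfsg.Agent.S0146
import Cfsg.Agent.S0148
import Cfsg.Agent.S0161

set_option autoImplicit false

/-! The local form of Brauer's induction theorem. -/

namespace Cfsg.Agent.Lib.Helper2.BrauerLocal

open Cfsg Cfsg.Agent.Lib.Helper1 Cfsg.Agent.Lib.Helper4 Cfsg.Agent.Lib.Helper2.PermSpan
  Cfsg.Agent.Lib.Helper2.MGroup Cfsg.Agent.Lib.Helper2.LinExt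

universe u

section Elem

theorem isElementary_of_mulEquiv {p : ℕ} {E E' : Type u} [Group E] [Group E'] (e : E ≃* E')
    (h : Cfsg.IsElementary p E) : Cfsg.IsElementary p E' := by
  obtain ⟨x, hx, hcop, k, hk⟩ := h
  refine ⟨e x, ?_, ?_, k, ?_⟩
  · rw [Subgroup.mem_center_iff]
    intro y
    obtain ⟨y', rfl⟩ := e.surjective y
    rw [← map_mul, ← map_mul, (Subgroup.mem_center_iff.1 hx) y']
  · rw [MulEquiv.orderOf_eq]
    exact hcop
  · have h1 : Subgroup.zpowers (e x) = (Subgroup.zpowers x).map e.toMonoidHom := by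
      rw [MonoidHom.map_zpowers]
      rfl
    rw [h1]
    exact (Subgroup.index_map_equiv (Subgroup.zpowers x) e).trans hk

variable {G : Type u} [Group G] [Fintype G]

/-- The additive group generated by the characters induced from `p`-elementary subgroups. -/
def elemSpan (p : ℕ) : AddSubgroup (G → ℂ) :=
  AddSubgroup.closure {f | ∃ (E : Subgroup G) (φ : E → ℂ), Cfsg.IsElementary p E ∧
    Cfsg.IsCharacter E φ ∧ f = Cfsg.indFun E φ}

theorem ind_mem_elemSpan {p : ℕ} (E : Subgroup G) (φ : E → ℂ) (hE : Cfsg.IsElementary p E)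
    (hφ : Cfsg.IsCharacter E φ) : Cfsg.indFun E φ ∈ elemSpan (G := G) p :=
  AddSubgroup.subset_closure ⟨E, φ, hE, hφ, rfl⟩

theorem mul_char_mem_elemSpan {p : ℕ} {f ψ : G → ℂ} (hf : f ∈ elemSpan (G := G) p)
    (hψ : Cfsg.IsCharacter G ψ) : f * ψ ∈ elemSpan (G := G) p := by
  induction hf using AddSubgroup.closure_induction with
  | mem f hf =>
    obtain ⟨E, φ, hE, hφ, rfl⟩ := hf
    rw [Cfsg.Agent.S0177.indFun_mul E φ ψ (isClassFunction_of_isCharacter hψ)]
    exact ind_mem_elemSpan E _ hE
      (Cfsg.Agent.S0177.isCharacter_mul hφ (Cfsg.Agent.S0148.isCharacter_restrict E hψ))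
  | zero => rw [zero_mul]; exact AddSubgroup.zero_mem _
  | add x y _ _ hx hy => rw [add_mul]; exact AddSubgroup.add_mem _ hx hy
  | neg x _ hx => rw [neg_mul]; exact AddSubgroup.neg_mem _ hx

theorem indFun_neg (K : Subgroup G) (f : K → ℂ) : Cfsg.indFun K (-f) = - Cfsg.indFun K f := by
  have h1 := indFun_smul K (-1) f
  rw [neg_one_smul, neg_one_smul] at h1
  exact h1

/-- Induction maps the elementary span of a subgroup into that of the group. -/
theorem ind_mem_of_mem_elemSpan {p : ℕ} (K : Subgroup G) [Fintype K] {f : K → ℂ}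
    (hf : f ∈ elemSpan (G := K) p) : Cfsg.indFun K f ∈ elemSpan (G := G) p := by
  induction hf using AddSubgroup.closure_induction with
  | mem f hf =>
    obtain ⟨E, φ, hE, hφ, rfl⟩ := hf
    rw [Cfsg.Agent.S0176.indFun_trans_map K E φ]
    have hinj : Function.Injective K.subtype := Subgroup.subtype_injective K
    let e : E ≃* E.map K.subtype := Subgroup.equivMapOfInjective E K.subtype hinj
    apply ind_mem_elemSpan _ _ (isElementary_of_mulEquiv e hE)
    have h1 : (fun y : E.map K.subtype =>
        φ ⟨⟨y, (Cfsg.Agent.S0176.mem_of_mem_map_subtype y.2).1⟩,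
          (Cfsg.Agent.S0176.mem_of_mem_map_subtype y.2).2⟩) = fun y => φ (e.symm y) := by
      funext y
      congr 1
      apply Subtype.ext
      apply Subtype.ext
      have h2 : ((e (e.symm y) : E.map K.subtype) : G) = (y : G) := by
        rw [MulEquiv.apply_symm_apply]
      rw [Subgroup.coe_equivMapOfInjective_apply] at h2
      exact h2.symm
    rw [h1]
    exact isCharacter_comp_hom hφ e.symm.toMonoidHom
  | zero => rw [indFun_zero]; exact AddSubgroup.zero_mem _
  | add x y _ _ hx hy => rw [indFun_add]; exact AddSubgroup.add_mem _ hx hy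
  | neg x _ hx => rw [indFun_neg]; exact AddSubgroup.neg_mem _ hx

end Elem


section Core

/-- The trivial character of a `p`-quasi-elementary group is an integer combination of characters
induced from `p`-elementary subgroups. -/
theorem one_mem_elemSpan_of_qeType (p : ℕ) (hp : p.Prime) : ∀ n : ℕ, ∀ (H : Type u) [Group H]
    [Fintype H], QEType p H → Nat.card H = n →
    (fun _ : H => (1 : ℂ)) ∈ elemSpan (G := H) p := by
  intro n
  induction n using Nat.strong_induction_on with
  | _ n ih =>
  intro H _ _ hH hcard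
  classical
  haveI : Fact p.Prime := ⟨hp⟩
  have hH' := hH
  obtain ⟨C, hCn, hCc, hcop, k, hk⟩ := hH
  haveI := hCn
  haveI := hCc
  let P : Sylow p H := default
  -- `H = C P`
  have hCP : C ⊔ (P : Subgroup H) = ⊤ := by
    rw [← Subgroup.index_eq_one]
    have h1 : (C ⊔ (P : Subgroup H)).index ∣ C.index := Subgroup.index_dvd_of_le le_sup_left
    have h2 : (C ⊔ (P : Subgroup H)).index ∣ (P : Subgroup H).index :=
      Subgroup.index_dvd_of_le le_sup_right
    rw [hk] at h1
    obtain ⟨j, -, hj⟩ := (Nat.dvd_prime_pow hp).1 h1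
    rw [hj] at h2 ⊢
    by_contra hne
    have hj0 : j ≠ 0 := by
      rintro rfl
      exact hne (pow_zero p)
    exact P.not_dvd_index ((dvd_pow_self p hj0).trans h2)
  set Z : Subgroup H := C ⊓ Subgroup.centralizer ((P : Subgroup H) : Set H) with hZ
  set E : Subgroup H := Z ⊔ (P : Subgroup H) with hE
  have hZC : Z ≤ C := inf_le_left
  have hZE : Z ≤ E := le_sup_left
  have hPE : (P : Subgroup H) ≤ E := le_sup_right
  haveI hZc : IsCyclic Z :=
    isCyclic_of_injective (Subgroup.inclusion hZC) (Subgroup.inclusion_injective _)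
  obtain ⟨⟨z, hzZ⟩, hzgen⟩ := hZc.exists_generator
  have hZz : ∀ y : H, y ∈ Z ↔ y ∈ Subgroup.zpowers z := by
    intro y
    constructor
    · intro hy
      obtain ⟨i, hi⟩ := Subgroup.mem_zpowers_iff.1 (hzgen ⟨y, hy⟩)
      rw [Subgroup.mem_zpowers_iff]
      refine ⟨i, ?_⟩
      have h1 := congrArg (fun t : Z => (t : H)) hi
      simpa using h1
    · intro hy
      exact (Subgroup.zpowers_le.2 hzZ) hy
  have hzcent : E ≤ Subgroup.centralizer ({z} : Set H) := by
    rw [hE]
    apply sup_le
    · intro y hy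
      obtain ⟨i, rfl⟩ := Subgroup.mem_zpowers_iff.1 ((hZz y).1 hy)
      rw [Subgroup.mem_centralizer_iff]
      rintro _ rfl
      exact (Commute.zpow_right (Commute.refl _) i).eq
    · intro y hy
      rw [Subgroup.mem_centralizer_iff]
      rintro _ rfl
      exact ((Subgroup.mem_centralizer_iff.1 hzZ.2) y hy).symm
  -- `E` is elementary
  have hEel : Cfsg.IsElementary p E := by
    let x : E := ⟨z, hZE hzZ⟩
    have hxc : ∀ y : E, y * x = x * y := by
      intro y
      apply Subtype.ext
      exact ((Subgroup.mem_centralizer_iff.1 (hzcent y.2)) z rfl).symm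
    refine ⟨x, Subgroup.mem_center_iff.2 hxc, ?_, ?_⟩
    · rw [Subgroup.orderOf_mk]
      have h1 : orderOf z = Nat.card Z := by
        rw [← Nat.card_zpowers]
        apply Nat.card_congr
        exact Equiv.subtypeEquivRight (fun y => (hZz y).symm)
      rw [h1]
      exact Nat.Coprime.coprime_dvd_left (Subgroup.card_dvd_of_le hZC) hcop
    · set K : Subgroup E := Subgroup.zpowers x with hK
      haveI hKn : K.Normal := by
        refine ⟨fun y hy g => ?_⟩
        obtain ⟨i, rfl⟩ := Subgroup.mem_zpowers_iff.1 hy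
        have h1 : g * x ^ i * g⁻¹ = x ^ i := by
          have h2 : Commute g x := hxc g
          rw [(h2.zpow_right i).eq, mul_inv_cancel_right]
        rw [h1]
        exact Subgroup.zpow_mem_zpowers x i
      have hKZ : Z.subgroupOf E = K := by
        ext y
        rw [Subgroup.mem_subgroupOf, hZz, Subgroup.mem_zpowers_iff, Subgroup.mem_zpowers_iff]
        constructor
        · rintro ⟨i, hi⟩
          refine ⟨i, Subtype.ext ?_⟩
          rw [Subgroup.coe_zpow]
          exact hi
        · rintro ⟨i, hi⟩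
          refine ⟨i, ?_⟩
          rw [← hi, Subgroup.coe_zpow]
      have htop : (P : Subgroup H).subgroupOf E ⊔ K = ⊤ := by
        rw [← hKZ, sup_comm, ← Subgroup.subgroupOf_sup hZE hPE, ← hE, Subgroup.subgroupOf_self]
      have h1 : K.index = K.relIndex ((P : Subgroup H).subgroupOf E) := by
        rw [← Subgroup.relIndex_top_right, ← htop, Subgroup.relIndex_sup_right]
      have h2 : K.relIndex ((P : Subgroup H).subgroupOf E) ∣
          Nat.card ((P : Subgroup H).subgroupOf E) := Subgroup.relIndex_dvd_card _ _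
      have h3 : Nat.card ((P : Subgroup H).subgroupOf E) = Nat.card (P : Subgroup H) :=
        Nat.card_congr (Subgroup.subgroupOfEquivOfLe hPE).toEquiv
      obtain ⟨m, hm⟩ := IsPGroup.exists_card_eq P.2
      rw [h3, hm, ← h1] at h2
      obtain ⟨j, -, hj⟩ := (Nat.dvd_prime_pow hp).1 h2
      exact ⟨j, hj⟩
  set Θ : H → ℂ := Cfsg.indFun E (fun _ => (1 : ℂ)) with hΘ
  have h1char : Cfsg.IsCharacter E (fun _ => (1 : ℂ)) :=
    isCharacter_of_irr Cfsg.Agent.S0161.isIrrCharacter_one
  have hΘmem : Θ ∈ elemSpan (G := H) p := ind_mem_elemSpan E _ hEel h1char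
  have hΘchar : Cfsg.IsCharacter H Θ := Cfsg.Agent.S0148.result E _ h1char
  haveI : Fintype (Cfsg.IrrCharacter H) := Fintype.ofFinite _
  have hexp := class_function_expansion Θ (isClassFunction_of_isCharacter hΘchar)
  let χ₀ : Cfsg.IrrCharacter H := ⟨fun _ => 1, Cfsg.Agent.S0161.isIrrCharacter_one⟩
  have hfrob : ∀ χ : Cfsg.IrrCharacter H, Cfsg.classInner Θ (χ : H → ℂ) =
      Cfsg.classInner (fun _ : E => (1 : ℂ)) (fun h : E => (χ : H → ℂ) h) := by
    intro χ
    exact Cfsg.Agent.S0146.result E _ _ (isClassFunction_irr χ.2)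
  have hm0 : Cfsg.classInner Θ (χ₀ : H → ℂ) = 1 := by
    rw [hfrob χ₀]
    exact classInner_irr_self (Cfsg.Agent.S0161.isIrrCharacter_one (G := E))
  have hothers : ∀ χ : Cfsg.IrrCharacter H, χ ≠ χ₀ →
      Cfsg.classInner Θ (χ : H → ℂ) • (χ : H → ℂ) ∈ elemSpan (G := H) p := by
    intro χ hχne
    by_cases hm : Cfsg.classInner Θ (χ : H → ℂ) = 0
    · rw [hm, zero_smul]
      exact AddSubgroup.zero_mem _
    by_cases hlin : (χ : H → ℂ) 1 = 1
    · exfalso
      obtain ⟨φ, hφ⟩ := exists_hom_of_isIrrCharacter χ.2 hlin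
      have hres : ∀ h : E, (χ : H → ℂ) h = 1 := by
        by_contra hne
        apply hm
        rw [hfrob χ]
        apply classInner_irr_ne Cfsg.Agent.S0161.isIrrCharacter_one
        · have h2 : (fun h : E => (χ : H → ℂ) h) = fun h : E => ((φ.comp E.subtype) h : ℂ) := by
            funext h
            exact congrFun hφ h
          rw [h2]
          exact isIrrCharacter_of_hom _
        · intro heq
          apply hne
          intro h
          exact (congrFun heq h).symm
      let lam : C → ℂ := fun c => (χ : H → ℂ) c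
      have hlam_eq : lam = coeHom C (φ.comp C.subtype) := by
        funext c
        rw [coeHom_apply]
        exact congrFun hφ c
      have hlam : Cfsg.IsCharacter C lam ∧ lam 1 = 1 := by
        rw [hlam_eq]
        exact isLinear_coeHom _
      have hinv : ∀ (g : H) (c : C), lam ⟨g * c * g⁻¹, hCn.conj_mem (c : H) c.2 g⟩ = lam c :=
        fun g c => isClassFunction_irr χ.2 c g
      have hker : ∀ c : C, (c : H) ∈ Subgroup.centralizer ((P : Subgroup H) : Set H) →
          lam c = 1 := by
        intro c hc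
        exact hres ⟨c, hZE ⟨c.2, hc⟩⟩
      have h3 := Cfsg.Agent.S0873.result p C (P : Subgroup H) P.2 hcop hCP lam hlam hinv hker
      have hker2 : C ⊔ (P : Subgroup H) ≤ φ.ker := by
        apply sup_le
        · intro c hc
          rw [MonoidHom.mem_ker]
          apply Units.ext
          have h4 := congrFun h3 ⟨c, hc⟩
          have h5 := congrFun hφ c
          rw [Units.val_one, ← h5]
          exact h4
        · intro y hy
          rw [MonoidHom.mem_ker]
          apply Units.ext
          have h5 := congrFun hφ y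
          rw [Units.val_one, ← h5]
          exact hres ⟨y, hPE hy⟩
      rw [hCP] at hker2
      apply hχne
      apply Subtype.ext
      show (χ : H → ℂ) = fun _ => 1
      rw [hφ]
      funext g
      have h6 : φ g = 1 := MonoidHom.mem_ker.1 (hker2 (Subgroup.mem_top g))
      rw [h6, Units.val_one]
    · obtain ⟨K, lam, hKne, hχK⟩ := exists_proper_induced p hp H hH' χ χ.2 hlin
      haveI : Fintype K := Fintype.ofFinite K
      have hKlt : Nat.card K < n := by
        rw [← hcard]
        have h1 : Nat.card K ≤ Nat.card H := Subgroup.card_le_card_group K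
        have h2 : Nat.card K ≠ Nat.card H := fun h => hKne (Subgroup.eq_top_of_card_eq K h)
        omega
      have hK1 := ih (Nat.card K) hKlt K ((qeType_mclass p hp).sub H hH' K) rfl
      have hlamc : Cfsg.IsCharacter K (fun h => (lam h : ℂ)) :=
        isCharacter_of_irr (isIrrCharacter_of_hom lam)
      have h2 := mul_char_mem_elemSpan hK1 hlamc
      have h3 : (fun _ : K => (1 : ℂ)) * (fun h => (lam h : ℂ)) = fun h => (lam h : ℂ) := by
        funext h
        rw [Pi.mul_apply, one_mul]
      rw [h3] at h2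
      have h4 := ind_mem_of_mem_elemSpan K h2
      rw [← hχK] at h4
      obtain ⟨m, hm'⟩ := classInner_char_irr_nat hΘchar χ.2
      rw [hm', Nat.cast_smul_eq_nsmul]
      exact AddSubgroup.nsmul_mem _ h4 _
  have hexp' : Θ = (χ₀ : H → ℂ) + ∑ χ ∈ (Finset.univ : Finset (Cfsg.IrrCharacter H)).erase χ₀,
      Cfsg.classInner Θ (χ : H → ℂ) • (χ : H → ℂ) := by
    have h1 := Finset.add_sum_erase (Finset.univ : Finset (Cfsg.IrrCharacter H))
      (fun χ => Cfsg.classInner Θ (χ : H → ℂ) • (χ : H → ℂ)) (Finset.mem_univ χ₀)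
    rw [← hexp, hm0, one_smul] at h1
    exact h1.symm
  have hfin : (fun _ : H => (1 : ℂ)) = Θ - ∑ χ ∈ (Finset.univ : Finset (Cfsg.IrrCharacter H)).erase χ₀,
      Cfsg.classInner Θ (χ : H → ℂ) • (χ : H → ℂ) := by
    rw [eq_sub_iff_add_eq]
    exact hexp'.symm
  rw [hfin]
  apply AddSubgroup.sub_mem _ hΘmem
  apply AddSubgroup.sum_mem
  intro χ hχ
  exact hothers χ (Finset.ne_of_mem_erase hχ)

end Core


section Assembly

variable {G : Type u} [Group G] [Fintype G]

theorem qeType_of_isQE {p : ℕ} {H : Subgroup G} (hH : IsQE p H) : QEType p H := by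
  obtain ⟨C, hCH, hHN, hCc, hcop, k, hk⟩ := hH
  haveI := hCc
  let e : C.subgroupOf H ≃* C := Subgroup.subgroupOfEquivOfLe hCH
  refine ⟨C.subgroupOf H, Subgroup.normal_subgroupOf_of_le_normalizer hHN,
    isCyclic_of_injective e.toMonoidHom e.injective, ?_, k, hk⟩
  rw [Nat.card_congr e.toEquiv]
  exact hcop

theorem permSpan_le_elemSpan (p : ℕ) (hp : p.Prime) :
    permSpan {H : Subgroup G | IsQE p H} ≤ elemSpan (G := G) p := by
  classical
  unfold permSpan
  rw [AddSubgroup.closure_le]
  rintro f ⟨H, hH, rfl⟩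
  haveI : Fintype H := Fintype.ofFinite H
  have h1 := one_mem_elemSpan_of_qeType p hp (Nat.card H) H (qeType_of_isQE hH) rfl
  exact ind_mem_of_mem_elemSpan H h1

/-- The local form of Brauer's induction theorem. -/
theorem exists_const_mem_elemSpan (p : ℕ) (hp : p.Prime) :
    ∃ m : ℕ, ¬ p ∣ m ∧ (fun _ : G => (m : ℂ)) ∈ elemSpan (G := G) p := by
  obtain ⟨m, hm, hmem⟩ := exists_const_mem (G := G) p hp
  exact ⟨m, hm, permSpan_le_elemSpan p hp hmem⟩

theorem neg_list_sum (l : List ((E : Subgroup G) × ((E → ℂ) × ℤ))) :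
    -(l.map fun t => (t.2.2 : ℂ) • Cfsg.indFun t.1 t.2.1).sum =
      ((l.map (fun t => (⟨t.1, (t.2.1, -t.2.2)⟩ : (E : Subgroup G) × ((E → ℂ) × ℤ)))).map
        fun t => (t.2.2 : ℂ) • Cfsg.indFun t.1 t.2.1).sum := by
  induction l with
  | nil => simp
  | cons a l ih =>
    rw [List.map_cons, List.sum_cons, List.map_cons, List.map_cons, List.sum_cons, neg_add, ih]
    congr 1
    simp

/-- Explicit list form of membership in the elementary span. -/
theorem exists_list_of_mem_elemSpan {p : ℕ} {f : G → ℂ} (hf : f ∈ elemSpan (G := G) p) :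
    ∃ l : List ((E : Subgroup G) × ((E → ℂ) × ℤ)),
      (∀ t ∈ l, Cfsg.IsElementary p t.1 ∧ Cfsg.IsCharacter t.1 t.2.1) ∧
      f = (l.map fun t => (t.2.2 : ℂ) • Cfsg.indFun t.1 t.2.1).sum := by
  induction hf using AddSubgroup.closure_induction with
  | mem f hf =>
    obtain ⟨E, φ, hE, hφ, rfl⟩ := hf
    refine ⟨[⟨E, (φ, 1)⟩], ?_, ?_⟩
    · intro t ht
      rw [List.mem_singleton] at ht
      subst ht
      exact ⟨hE, hφ⟩
    · simp
  | zero => exact ⟨[], by simp, by simp⟩
  | add x y _ _ hx hy =>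
    obtain ⟨l, hl, rfl⟩ := hx
    obtain ⟨l', hl', rfl⟩ := hy
    refine ⟨l ++ l', ?_, ?_⟩
    · intro t ht
      rcases List.mem_append.1 ht with h | h
      · exact hl t h
      · exact hl' t h
    · rw [List.map_append, List.sum_append]
  | neg x _ hx =>
    obtain ⟨l, hl, rfl⟩ := hx
    refine ⟨l.map (fun t => ⟨t.1, (t.2.1, -t.2.2)⟩), ?_, ?_⟩
    · intro t ht
      obtain ⟨t', ht', rfl⟩ := List.mem_map.1 ht
      exact hl t' ht'
    · exact neg_list_sum l

end Assembly

end Cfsg.Agent.Lib.Helper2.BrauerLocal
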