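import Mathlib
import Cfsg.Agent.Lib.Helper2.BrauerLocal

set_option autoImplicit false

/-! Brauer's induction theorem. -/

namespace Cfsg.Agent.Lib.Helper2.BrauerInd

open Cfsg Cfsg.Agent.Lib.Helper1 Cfsg.Agent.Lib.Helper4 Cfsg.Agent.Lib.Helper2.PermSpan
  Cfsg.Agent.Lib.Helper2.BrauerLocal

universe u

section Elementary

variable {E : Type u} [Group E]

theorem isNilpotent_of_isElementary {p : ℕ} [hp : Fact p.Prime] [Finite E]
    (h : Cfsg.IsElementary p E) : Group.IsNilpotent E := by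
  obtain ⟨x, hx, -, k, hk⟩ := h
  have hle : Subgroup.zpowers x ≤ Subgroup.center E := Subgroup.zpowers_le.2 hx
  haveI hN : (Subgroup.zpowers x).Normal := by
    refine ⟨fun y hy g => ?_⟩
    have h1 : g * y * g⁻¹ = y := by
      rw [(Subgroup.mem_center_iff.1 (hle hy)) g, mul_inv_cancel_right]
    rw [h1]
    exact hy
  haveI : Group.IsNilpotent (E ⧸ Subgroup.zpowers x) := by
    apply IsPGroup.isNilpotent (p := p)
    apply IsPGroup.of_card (n := k)
    rw [← hk]
    exact (Subgroup.index_eq_card _).symm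
  apply Subgroup.isNilpotent_of_ker_le_center (QuotientGroup.mk' (Subgroup.zpowers x))
  rw [QuotientGroup.ker_mk']
  exact hle

theorem isElementary_subgroup {p : ℕ} (hp : p.Prime) [Finite E] (h : Cfsg.IsElementary p E)
    (K : Subgroup E) : Cfsg.IsElementary p K := by
  obtain ⟨x, hx, hcop, k, hk⟩ := h
  set N : Subgroup E := Subgroup.zpowers x with hNdef
  have hle : N ≤ Subgroup.center E := Subgroup.zpowers_le.2 hx
  haveI hN : N.Normal := by
    refine ⟨fun y hy g => ?_⟩
    have h1 : g * y * g⁻¹ = y := by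
      rw [(Subgroup.mem_center_iff.1 (hle hy)) g, mul_inv_cancel_right]
    rw [h1]
    exact hy
  set N' : Subgroup K := N.subgroupOf K with hN'
  let f : N' →* N := K.subtype.subgroupComap N
  have hf : Function.Injective f := by
    intro a b hab
    apply Subtype.ext
    apply Subtype.ext
    exact congrArg (fun t : N => (t : E)) hab
  haveI : IsCyclic N' := isCyclic_of_injective f hf
  obtain ⟨y, hy⟩ := (inferInstance : IsCyclic N').exists_generator
  have hzp : Subgroup.zpowers (y : K) = N' := by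
    ext t
    constructor
    · intro ht
      obtain ⟨i, rfl⟩ := Subgroup.mem_zpowers_iff.1 ht
      exact N'.zpow_mem y.2 i
    · intro ht
      obtain ⟨i, hi⟩ := Subgroup.mem_zpowers_iff.1 (hy ⟨t, ht⟩)
      rw [Subgroup.mem_zpowers_iff]
      refine ⟨i, ?_⟩
      have h1 := congrArg (fun s : N' => (s : K)) hi
      simpa using h1
  refine ⟨(y : K), ?_, ?_, ?_⟩
  · rw [Subgroup.mem_center_iff]
    intro g
    apply Subtype.ext
    have h1 : ((y : K) : E) ∈ Subgroup.center E := hle (Subgroup.mem_subgroupOf.1 y.2)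
    exact (Subgroup.mem_center_iff.1 h1) (g : E)
  · have h1 : orderOf (y : K) = Nat.card N' := by
      rw [← Nat.card_zpowers, hzp]
    rw [h1]
    have h2 : Nat.card N' ∣ Nat.card N := Subgroup.card_dvd_of_injective f hf
    rw [hNdef, Nat.card_zpowers] at h2
    exact Nat.Coprime.coprime_dvd_left h2 hcop
  · rw [hzp]
    have h1 : N'.index ∣ N.index := Subgroup.relIndex_dvd_index_of_normal N K
    rw [hk] at h1
    obtain ⟨j, -, hj⟩ := (Nat.dvd_prime_pow hp).1 h1
    exact ⟨j, hj⟩

end Elementary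

section Span

variable {G : Type u} [Group G] [Fintype G]

/-- The additive group generated by the functions induced from linear characters of elementary
subgroups. -/
def linSpan : AddSubgroup (G → ℂ) :=
  AddSubgroup.closure {f | ∃ (E : Subgroup G) (lam : E →* ℂˣ),
    (∃ p : ℕ, p.Prime ∧ Cfsg.IsElementary p E) ∧ f = Cfsg.indFun E (fun e => (lam e : ℂ))}

/-- Characters induced from elementary subgroups lie in `linSpan`. -/
theorem ind_char_mem_linSpan (E : Subgroup G) {p : ℕ} (hp : p.Prime) (hE : Cfsg.IsElementary p E)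
    {φ : E → ℂ} (hφ : Cfsg.IsCharacter E φ) : Cfsg.indFun E φ ∈ linSpan (G := G) := by
  classical
  haveI : Fact p.Prime := ⟨hp⟩
  haveI : Fintype E := Fintype.ofFinite E
  haveI : Fintype (Cfsg.IrrCharacter E) := Fintype.ofFinite _
  haveI : Group.IsNilpotent E := isNilpotent_of_isElementary hE
  rw [class_function_expansion φ (isClassFunction_of_isCharacter hφ), indFun_sum]
  apply AddSubgroup.sum_mem
  intro χ _
  obtain ⟨m, hm⟩ := classInner_char_irr_nat hφ χ.2
  rw [indFun_smul, hm, Nat.cast_smul_eq_nsmul]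
  apply AddSubgroup.nsmul_mem
  obtain ⟨K, lam, hK⟩ := Cfsg.Agent.S0176.result (χ : E → ℂ) χ.2
  rw [hK, Cfsg.Agent.S0176.indFun_trans_map E K (fun h => (lam h : ℂ))]
  have hinj : Function.Injective E.subtype := Subgroup.subtype_injective E
  let e : K ≃* K.map E.subtype := Subgroup.equivMapOfInjective K E.subtype hinj
  have h1 : (fun y : K.map E.subtype =>
      ((lam ⟨⟨y, (Cfsg.Agent.S0176.mem_of_mem_map_subtype y.2).1⟩,
        (Cfsg.Agent.S0176.mem_of_mem_map_subtype y.2).2⟩ : ℂˣ) : ℂ))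
      = fun y => (((lam.comp e.symm.toMonoidHom) y : ℂˣ) : ℂ) := by
    funext y
    have h3 : (⟨⟨y, (Cfsg.Agent.S0176.mem_of_mem_map_subtype y.2).1⟩,
        (Cfsg.Agent.S0176.mem_of_mem_map_subtype y.2).2⟩ : K) = e.symm y := by
      apply Subtype.ext
      apply Subtype.ext
      have h2 : ((e (e.symm y) : K.map E.subtype) : G) = (y : G) := by
        rw [MulEquiv.apply_symm_apply]
      rw [Subgroup.coe_equivMapOfInjective_apply] at h2
      exact h2.symm
    rw [h3]
    rfl
  rw [h1]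
  exact AddSubgroup.subset_closure ⟨K.map E.subtype, lam.comp e.symm.toMonoidHom,
    ⟨p, hp, isElementary_of_mulEquiv e (isElementary_subgroup hp hE K)⟩, rfl⟩

theorem elemSpan_le_linSpan {p : ℕ} (hp : p.Prime) : elemSpan (G := G) p ≤ linSpan (G := G) := by
  unfold elemSpan
  rw [AddSubgroup.closure_le]
  rintro f ⟨E, φ, hE, hφ, rfl⟩
  exact ind_char_mem_linSpan E hp hE hφ

theorem mul_char_mem_linSpan {f ψ : G → ℂ} (hf : f ∈ linSpan (G := G))
    (hψ : Cfsg.IsCharacter G ψ) : f * ψ ∈ linSpan (G := G) := by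
  induction hf using AddSubgroup.closure_induction with
  | mem f hf =>
    obtain ⟨E, lam, ⟨p, hp, hE⟩, rfl⟩ := hf
    rw [Cfsg.Agent.S0177.indFun_mul E _ ψ (isClassFunction_of_isCharacter hψ)]
    exact ind_char_mem_linSpan E hp hE
      (Cfsg.Agent.S0177.isCharacter_mul (isCharacter_of_irr (isIrrCharacter_of_hom lam))
        (Cfsg.Agent.S0148.isCharacter_restrict E hψ))
  | zero => rw [zero_mul]; exact AddSubgroup.zero_mem _
  | add x y _ _ hx hy => rw [add_mul]; exact AddSubgroup.add_mem _ hx hy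
  | neg x _ hx => rw [neg_mul]; exact AddSubgroup.neg_mem _ hx

/-- The trivial character lies in `linSpan`. -/
theorem one_mem_linSpan : (fun _ : G => (1 : ℂ)) ∈ linSpan (G := G) := by
  classical
  have hex : ∃ n : ℕ, 0 < n ∧ (fun _ : G => (n : ℂ)) ∈ linSpan (G := G) := by
    obtain ⟨m, hm, hmem⟩ := exists_const_mem_elemSpan (G := G) 2 Nat.prime_two
    refine ⟨m, Nat.pos_of_ne_zero ?_, elemSpan_le_linSpan Nat.prime_two hmem⟩
    rintro rfl
    exact hm (dvd_zero 2)
  have hd := Nat.find_spec hex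
  have hmin := fun n => Nat.find_min' hex (m := n)
  set d := Nat.find hex with hddef
  by_cases hd1 : d = 1
  · have h := hd.2
    rw [hd1, Nat.cast_one] at h
    exact h
  · exfalso
    obtain ⟨q, hq, hqd⟩ := Nat.exists_prime_and_dvd hd1
    obtain ⟨m, hm, hmem⟩ := exists_const_mem_elemSpan (G := G) q hq
    have hmem' := elemSpan_le_linSpan hq hmem
    have hg : (fun _ : G => ((Nat.gcd d m : ℕ) : ℂ)) ∈ linSpan (G := G) := by
      have h1 : (fun _ : G => ((Nat.gcd d m : ℕ) : ℂ))
          = Nat.gcdA d m • (fun _ : G => (d : ℂ)) + Nat.gcdB d m • (fun _ : G => (m : ℂ)) := by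
        funext x
        rw [Pi.add_apply, Pi.smul_apply, Pi.smul_apply, zsmul_eq_mul, zsmul_eq_mul]
        have h2 := Nat.gcd_eq_gcd_ab d m
        have h3 : ((Nat.gcd d m : ℕ) : ℂ) = (((Nat.gcd d m : ℕ) : ℤ) : ℂ) := by push_cast; rfl
        rw [h3, h2]
        push_cast
        ring
      rw [h1]
      exact AddSubgroup.add_mem _ (AddSubgroup.zsmul_mem _ hd.2 _)
        (AddSubgroup.zsmul_mem _ hmem' _)
    have hgpos : 0 < Nat.gcd d m := Nat.gcd_pos_of_pos_left m hd.1
    have hle : d ≤ Nat.gcd d m := hmin _ ⟨hgpos, hg⟩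
    have hdvd : Nat.gcd d m ∣ d := Nat.gcd_dvd_left d m
    have heq : Nat.gcd d m = d := Nat.le_antisymm (Nat.le_of_dvd hd.1 hdvd) hle
    have hdm : d ∣ m := by
      rw [← heq]
      exact Nat.gcd_dvd_right d m
    exact hm (hqd.trans hdm)

/-- Brauer's induction theorem: every character lies in `linSpan`. -/
theorem char_mem_linSpan {χ : G → ℂ} (hχ : Cfsg.IsCharacter G χ) : χ ∈ linSpan (G := G) := by
  have h1 := mul_char_mem_linSpan one_mem_linSpan hχ
  have h2 : (fun _ : G => (1 : ℂ)) * χ = χ := by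
    funext x
    rw [Pi.mul_apply, one_mul]
  rw [h2] at h1
  exact h1

theorem neg_list_sum' (l : List ((E : Subgroup G) × ((E →* ℂˣ) × ℤ))) :
    -(l.map fun t => (t.2.2 : ℂ) • Cfsg.indFun t.1 (fun e => (t.2.1 e : ℂ))).sum =
      ((l.map (fun t => (⟨t.1, (t.2.1, -t.2.2)⟩ : (E : Subgroup G) × ((E →* ℂˣ) × ℤ)))).map
        fun t => (t.2.2 : ℂ) • Cfsg.indFun t.1 (fun e => (t.2.1 e : ℂ))).sum := by
  induction l with
  | nil => simp
  | cons a l ih =>
    rw [List.map_cons, List.sum_cons, List.map_cons, List.map_cons, List.sum_cons, neg_add, ih]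
    congr 1
    simp

theorem exists_list_of_mem_linSpan {f : G → ℂ} (hf : f ∈ linSpan (G := G)) :
    ∃ l : List ((E : Subgroup G) × ((E →* ℂˣ) × ℤ)),
      (∀ t ∈ l, ∃ p : ℕ, p.Prime ∧ Cfsg.IsElementary p t.1) ∧
      f = (l.map fun t => (t.2.2 : ℂ) • Cfsg.indFun t.1 (fun e => (t.2.1 e : ℂ))).sum := by
  induction hf using AddSubgroup.closure_induction with
  | mem f hf =>
    obtain ⟨E, lam, hE, rfl⟩ := hf
    refine ⟨[⟨E, (lam, 1)⟩], ?_, ?_⟩
    · intro t ht
      rw [List.mem_singleton] at ht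
      subst ht
      exact hE
    · simp
  | zero => exact ⟨[], by simp, by simp⟩
  | add x y _ _ hx hy =>
    obtain ⟨l, hl, rfl⟩ := hx
    obtain ⟨l', hl', rfl⟩ := hy
    refine ⟨l ++ l', ?_, ?_⟩
    · intro t ht
      rcases List.mem_append.1 ht with h | h
      · exact hl t h
      · exact hl' t h
    · rw [List.map_append, List.sum_append]
  | neg x _ hx =>
    obtain ⟨l, hl, rfl⟩ := hx
    refine ⟨l.map (fun t => ⟨t.1, (t.2.1, -t.2.2)⟩), ?_, ?_⟩
    · intro t ht
      obtain ⟨t', ht', rfl⟩ := List.mem_map.1 ht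
      exact hl t' ht'
    · exact neg_list_sum' l

end Span

end Cfsg.Agent.Lib.Helper2.BrauerInd
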