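import Mathlib
import Cfsg.Agent.S0174
import Cfsg.Agent.S0170

set_option autoImplicit false

/-! Degrees of constituents of restrictions to normal subgroups. -/

namespace Cfsg.Agent.Lib.Helper2.CliffordDeg

open Cfsg Cfsg.Agent.Lib.Helper1 Cfsg.Agent.Lib.Helper4 Cfsg.Agent.S0193
open scoped ComplexConjugate

variable {G : Type*} [Group G] [Fintype G] (N : Subgroup G) [Fintype N] [hN : N.Normal]

/-- The degree of an irreducible constituent of the restriction of an irreducible character to a
normal subgroup divides the degree of the character. -/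
theorem degree_dvd_of_constituent {χ : G → ℂ} (hχ : IsIrrCharacter G χ) {ψ : N → ℂ}
    (hψ : IsIrrCharacter N ψ) (hc : classInner (fun n : N => χ n) ψ ≠ 0) {a b : ℕ}
    (ha : ψ 1 = a) (hb : χ 1 = b) : a ∣ b := by
  classical
  haveI : Fintype (IrrCharacter N) := Fintype.ofFinite _
  have hres : IsCharacter N (fun n : N => χ n) :=
    Cfsg.Agent.S0148.isCharacter_restrict N (isCharacter_of_irr hχ)
  have hexp := class_function_expansion _ (isClassFunction_of_isCharacter hres)
  have hm : ∀ φ : IrrCharacter N, ∃ m : ℕ, classInner (fun n : N => χ n) φ = m := fun φ =>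
    classInner_char_irr_nat hres φ.2
  choose m hm using hm
  have hd : ∀ φ : IrrCharacter N, ∃ d : ℕ, (φ : N → ℂ) 1 = d := fun φ =>
    isCharacter_apply_one (isCharacter_of_irr φ.2)
  choose d hd using hd
  have h1 := congrFun hexp 1
  rw [Finset.sum_apply] at h1
  have hnat : b = ∑ φ : IrrCharacter N, m φ * d φ := by
    have : (b : ℂ) = ((∑ φ : IrrCharacter N, m φ * d φ : ℕ) : ℂ) := by
      rw [← hb]
      change χ ((1 : N) : G) = _
      rw [h1]
      push_cast
      refine Finset.sum_congr rfl fun φ _ => ?_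
      rw [Pi.smul_apply, smul_eq_mul, hm, hd]
    exact_mod_cast this
  rw [hnat]
  apply Finset.dvd_sum
  intro φ _
  by_cases hconj : ∃ g : G, conjFun N (φ : N → ℂ) g = ψ
  · obtain ⟨g, hg⟩ := hconj
    have : d φ = a := by
      have h2 : (d φ : ℂ) = a := by
        rw [← hd, ← ha, ← hg]
        unfold conjFun
        refine congrArg (φ : N → ℂ) (Subtype.ext ?_)
        show ((1 : N) : G) = g * ((1 : N) : G) * g⁻¹
        rw [Subgroup.coe_one, mul_one, mul_inv_cancel]
      exact_mod_cast h2
    rw [this]
    exact Dvd.intro_left _ rfl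
  · push Not at hconj
    have h0 := Cfsg.Agent.S0174.classInner_restrict_eq_zero N χ hχ ψ φ hψ φ.2 hc hconj
    have : m φ = 0 := by
      have : (m φ : ℂ) = 0 := by rw [← hm, h0]
      exact_mod_cast this
    rw [this, zero_mul]
    exact dvd_zero _

/-- Every irreducible character of a (normal) subgroup lies under some irreducible character of
the group. -/
theorem exists_irr_over {ψ : N → ℂ} (hψ : IsIrrCharacter N ψ) :
    ∃ χ : G → ℂ, IsIrrCharacter G χ ∧ classInner (fun n : N => χ n) ψ ≠ 0 := by
  classical
  haveI : Fintype (IrrCharacter G) := Fintype.ofFinite _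
  by_contra hcon
  push Not at hcon
  have hI : IsCharacter G (indFun N ψ) := Cfsg.Agent.S0148.result N ψ (isCharacter_of_irr hψ)
  have hexp := class_function_expansion _ (isClassFunction_of_isCharacter hI)
  have hzero : indFun N ψ = 0 := by
    rw [hexp]
    apply Finset.sum_eq_zero
    intro χ _
    have h1 := Cfsg.Agent.S0146.result N ψ (χ : G → ℂ) (isClassFunction_irr χ.2)
    rw [h1, ← classInner_conj_symm, hcon χ χ.2, map_zero, zero_smul]
  have h1 := congrFun hzero 1
  rw [Cfsg.Agent.S0170.indFun_one] at h1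
  have hN0 : (Nat.card N : ℂ) ≠ 0 := Nat.cast_ne_zero.2 Nat.card_pos.ne'
  have hG0 : (Nat.card G : ℂ) ≠ 0 := Nat.cast_ne_zero.2 Nat.card_pos.ne'
  have := irr_apply_one_ne_zero hψ
  simp only [Pi.zero_apply, mul_eq_zero, inv_eq_zero] at h1
  rcases h1 with h | h | h
  · exact hN0 h
  · exact hG0 h
  · exact this h

end Cfsg.Agent.Lib.Helper2.CliffordDeg
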