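import Mathlib
import Cfsg.Prelude.Def_CharExt
import Cfsg.Agent.S0153
import Cfsg.Agent.Lib.Helper2.LinExt

set_option autoImplicit false

/-! The determinantal character. -/

namespace Cfsg.Agent.Lib.Helper2.DetChar

open Cfsg Cfsg.Agent.Lib.Helper2.LinExt

variable {G : Type*} [Group G]

/-- The determinant of a representation, as a homomorphism to `ℂˣ`. -/
noncomputable def detHom {V : Type*} [AddCommGroup V] [Module ℂ V] (σ : Representation ℂ G V) :
    G →* ℂˣ :=
  ((LinearMap.det : (V →ₗ[ℂ] V) →* ℂ).comp σ).toHomUnits

theorem detHom_apply {V : Type*} [AddCommGroup V] [Module ℂ V] (σ : Representation ℂ G V)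
    (g : G) : ((detHom σ g : ℂˣ) : ℂ) = LinearMap.det (σ g) := rfl

/-- The determinantal character may be computed from any representation affording `χ`. -/
theorem detChar_eq [Finite G] {m : ℕ} (σ : Representation ℂ G (Fin m → ℂ)) :
    detChar σ.character = coeHom G (detHom σ) := by
  have h : IsCharacter G σ.character := ⟨m, σ, rfl⟩
  unfold detChar
  rw [dif_pos h]
  funext g
  rw [coeHom_apply, detHom_apply]
  set ρ := Classical.choose (Classical.choose_spec h) with hρ
  have hρc : ρ.character = σ.character := Classical.choose_spec (Classical.choose_spec h)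
  obtain ⟨ε⟩ := Cfsg.Agent.S0153.result ρ σ hρc
  let e := ε.toLinearEquiv
  have h1 : e.toLinearMap ∘ₗ ρ g = σ g ∘ₗ e.toLinearMap := ε.toIntertwiningMap.isIntertwining' g
  have h2 : σ g = e.toLinearMap ∘ₗ ρ g ∘ₗ e.symm.toLinearMap := by
    rw [← LinearMap.comp_assoc, h1, LinearMap.comp_assoc]
    simp
  rw [h2, LinearMap.det_conj]

/-- The determinantal character of a character, as a homomorphism. -/
theorem exists_detHom [Finite G] {χ : G → ℂ} (hχ : IsCharacter G χ) :
    ∃ δ : G →* ℂˣ, detChar χ = coeHom G δ := by
  obtain ⟨m, σ, rfl⟩ := hχ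
  exact ⟨detHom σ, detChar_eq σ⟩

/-- The determinantal character commutes with restriction to a subgroup. -/
theorem detChar_restrict [Finite G] (N : Subgroup G) {χ : G → ℂ} (hχ : IsCharacter G χ) :
    detChar (fun n : N => χ n) = fun n : N => detChar χ n := by
  obtain ⟨m, σ, rfl⟩ := hχ
  let σN : Representation ℂ N (Fin m → ℂ) := σ.comp N.subtype
  have h1 : (fun n : N => σ.character n) = σN.character := rfl
  rw [h1, detChar_eq, detChar_eq]
  rfl

/-- The determinantal character commutes with composition with a homomorphism. -/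
theorem detChar_comp_hom [Finite G] {H : Type*} [Group H] [Finite H] (e : H →* G) {χ : G → ℂ}
    (hχ : IsCharacter G χ) :
    detChar (fun h : H => χ (e h)) = fun h : H => detChar χ (e h) := by
  obtain ⟨m, σ, rfl⟩ := hχ
  let σH : Representation ℂ H (Fin m → ℂ) := σ.comp e
  have h1 : (fun h : H => σ.character (e h)) = σH.character := rfl
  rw [h1, detChar_eq, detChar_eq]
  rfl

/-- The twist of a representation by a linear character. -/
noncomputable def twist {V : Type*} [AddCommGroup V] [Module ℂ V] (δ : G →* ℂˣ)
    (σ : Representation ℂ G V) : Representation ℂ G V where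
  toFun g := ((δ g : ℂˣ) : ℂ) • σ g
  map_one' := by simp
  map_mul' a b := by
    rw [map_mul, map_mul, Units.val_mul, smul_mul_smul_comm]

theorem twist_character {V : Type*} [AddCommGroup V] [Module ℂ V] (δ : G →* ℂˣ)
    (σ : Representation ℂ G V) (g : G) :
    (twist δ σ).character g = ((δ g : ℂˣ) : ℂ) * σ.character g := by
  unfold Representation.character twist
  simp

/-- The determinantal character of a twist. -/
theorem detChar_twist [Finite G] (δ : G →* ℂˣ) {m : ℕ} (σ : Representation ℂ G (Fin m → ℂ)) :
    detChar (fun g => ((δ g : ℂˣ) : ℂ) * σ.character g)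
      = fun g => ((δ g : ℂˣ) : ℂ) ^ m * detChar σ.character g := by
  have h1 : (fun g => ((δ g : ℂˣ) : ℂ) * σ.character g) = (twist δ σ).character := by
    funext g
    rw [twist_character]
  rw [h1, detChar_eq, detChar_eq]
  funext g
  rw [coeHom_apply, coeHom_apply, detHom_apply, detHom_apply]
  show LinearMap.det (((δ g : ℂˣ) : ℂ) • σ g) = _
  rw [LinearMap.det_smul, Module.finrank_fin_fun]

end Cfsg.Agent.Lib.Helper2.DetChar
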