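import Mathlib
import Cfsg.Agent.S0153
import Cfsg.Agent.Lib.Helper1.CharCenter
import Cfsg.Agent.Lib.Helper1.CharInt
import Cfsg.Agent.Lib.Helper8.Deflation

set_option autoImplicit false

/-! Extension of an invariant irreducible representation to `N⟨g⟩`. -/

namespace Cfsg.Agent.Lib.Helper2.CyclicExt

open Cfsg

section
variable {G : Type*} [Group G] [Finite G] (N : Subgroup G) [hN : N.Normal] (g : G)
  {V : Type*} [AddCommGroup V] [Module ℂ V] [FiniteDimensional ℂ V]
  (ρ : Representation ℂ N V)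

/-- Step 1: an intertwining unit between `ρ` and its `g`-conjugate. -/
theorem exists_conj_unit
    (hinv : ∀ x : N, ρ.character (MulAut.conjNormal g x) = ρ.character x) :
    ∃ A : (Module.End ℂ V)ˣ, ∀ x : N,
      ρ.toHomUnits (MulAut.conjNormal g x) = A * ρ.toHomUnits x * A⁻¹ := by
  let ρg : Representation ℂ N V := ρ.comp (MulAut.conjNormal g : N ≃* N).toMonoidHom
  have hchar : ρ.character = ρg.character := by
    funext x
    exact (hinv x).symm
  obtain ⟨ε⟩ := Cfsg.Agent.S0153.result ρ ρg hchar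
  let e : V ≃ₗ[ℂ] V := ε.toLinearEquiv
  let A : (Module.End ℂ V)ˣ :=
    ⟨e.toLinearMap, e.symm.toLinearMap,
      by ext v; exact e.apply_symm_apply v, by ext v; exact e.symm_apply_apply v⟩
  refine ⟨A, fun x => ?_⟩
  have h1 : e.toLinearMap ∘ₗ ρ x = ρg x ∘ₗ e.toLinearMap := ε.toIntertwiningMap.isIntertwining' x
  rw [eq_mul_inv_iff_mul_eq]
  apply Units.ext
  rw [Units.val_mul, Units.val_mul]
  exact h1.symm

/-- Step 2: normalise so that `A ^ m = ρ (g ^ m)`. -/
theorem exists_conj_unit_pow [ρ.IsIrreducible]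
    (hinv : ∀ x : N, ρ.character (MulAut.conjNormal g x) = ρ.character x)
    (m : ℕ) (hm : 0 < m) (hgm : g ^ m ∈ N) :
    ∃ A : (Module.End ℂ V)ˣ,
      (∀ x : N, ρ.toHomUnits (MulAut.conjNormal g x) = A * ρ.toHomUnits x * A⁻¹) ∧
      A ^ m = ρ.toHomUnits ⟨g ^ m, hgm⟩ := by
  obtain ⟨A₀, hA₀⟩ := exists_conj_unit N g ρ hinv
  set ρu := ρ.toHomUnits with hρu
  set z : N := ⟨g ^ m, hgm⟩ with hz
  have hpow : ∀ k : ℕ, ∀ x : N,
      ρu (MulAut.conjNormal (g ^ k) x) = A₀ ^ k * ρu x * (A₀ ^ k)⁻¹ := by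
    intro k
    induction k with
    | zero => intro x; simp
    | succ k ih =>
      intro x
      rw [pow_succ, map_mul, MulAut.mul_apply, ih, hA₀, pow_succ]
      group
  have hzc : ∀ x : N, MulAut.conjNormal (g ^ m) x = z * x * z⁻¹ := by
    intro x
    apply Subtype.ext
    rw [MulAut.conjNormal_apply]
    rfl
  let B : (Module.End ℂ V)ˣ := (ρu z)⁻¹ * A₀ ^ m
  have hB : ∀ x : N, B * ρu x = ρu x * B := by
    intro x
    have h1 := hpow m x
    rw [hzc, map_mul, map_mul, map_inv] at h1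
    have h2 : A₀ ^ m * ρu x = ρu z * ρu x * (ρu z)⁻¹ * A₀ ^ m := by
      rw [h1]; group
    simp only [B]
    rw [mul_assoc, h2]
    group
  obtain ⟨c₀, hc₀⟩ := Cfsg.Agent.Lib.Helper1.scalar_of_commute ρ (B : Module.End ℂ V)
    (fun x => by
      have := congrArg Units.val (hB x)
      rw [Units.val_mul, Units.val_mul] at this
      exact this)
  haveI := Cfsg.Agent.Lib.Helper1.nontrivial_of_irreducible ρ
  have hc0 : c₀ ≠ 0 := by
    rintro rfl
    obtain ⟨v, hv⟩ := exists_ne (0 : V)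
    have h1 : ((B⁻¹ * B : (Module.End ℂ V)ˣ) : Module.End ℂ V) v = v := by
      rw [inv_mul_cancel]; rfl
    rw [Units.val_mul, hc₀] at h1
    simp at h1
    exact hv h1.symm
  obtain ⟨r, hr⟩ := IsAlgClosed.exists_pow_nat_eq c₀ hm
  have hr0 : r ≠ 0 := by
    rintro rfl
    rw [zero_pow hm.ne'] at hr
    exact hc0 hr.symm
  let s : (Module.End ℂ V)ˣ :=
    Units.map (algebraMap ℂ (Module.End ℂ V) : ℂ →* Module.End ℂ V) (Units.mk0 r hr0)
  have hs : ∀ a : (Module.End ℂ V)ˣ, s * a = a * s := by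
    intro a
    apply Units.ext
    rw [Units.val_mul, Units.val_mul]
    exact Algebra.commutes r (a : Module.End ℂ V)
  have hsB : s ^ m = B := by
    apply Units.ext
    rw [Units.val_pow_eq_pow_val, hc₀]
    show (algebraMap ℂ (Module.End ℂ V) r) ^ m = _
    rw [← map_pow, hr, Algebra.algebraMap_eq_smul_one]
    rfl
  have hsinv : ∀ a : (Module.End ℂ V)ˣ, s⁻¹ * a = a * s⁻¹ := by
    intro a
    rw [inv_mul_eq_iff_eq_mul, ← mul_assoc, hs, mul_assoc, mul_inv_cancel, mul_one]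
  refine ⟨s⁻¹ * A₀, fun x => ?_, ?_⟩
  · rw [hA₀ x, mul_inv_rev, inv_inv]
    calc A₀ * ρu x * A₀⁻¹ = (s⁻¹ * s) * (A₀ * ρu x * A₀⁻¹) := by rw [inv_mul_cancel, one_mul]
      _ = s⁻¹ * ((A₀ * ρu x * A₀⁻¹) * s) := by rw [mul_assoc, hs]
      _ = s⁻¹ * A₀ * ρu x * (A₀⁻¹ * s) := by group
  · have hcomm : Commute s⁻¹ A₀ := hsinv A₀
    have hsm : Commute (s ^ m) (ρu z) := Commute.pow_left (hs (ρu z)) m
    have hA0m : A₀ ^ m = s ^ m * ρu z := by
      rw [hsm.eq, hsB]
      simp only [B]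
      rw [mul_inv_cancel_left]
    rw [hcomm.mul_pow, inv_pow, hA0m, inv_mul_cancel_left]

/-- An invariant irreducible representation of `N` extends to `G = N⟨g⟩`. -/
theorem exists_extension [ρ.IsIrreducible]
    (hinv : ∀ x : N, ρ.character (MulAut.conjNormal g x) = ρ.character x)
    (hgen : ∀ y : G, ∃ i : ℤ, y * g ^ (-i) ∈ N) :
    ∃ σ : Representation ℂ G V, ∀ x : N, σ x = ρ x := by
  set q : G ⧸ N := QuotientGroup.mk g with hq
  set m := orderOf q with hmdef
  have hm : 0 < m := orderOf_pos q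
  have hgm : g ^ m ∈ N := by
    rw [← QuotientGroup.eq_one_iff, QuotientGroup.mk_pow, pow_orderOf_eq_one]
  obtain ⟨A, hA, hAm⟩ := exists_conj_unit_pow N g ρ hinv m hm hgm
  set ρu := ρ.toHomUnits with hρu
  have hAinv : ∀ x : N, ρu (MulAut.conjNormal g⁻¹ x) = A⁻¹ * ρu x * A := by
    intro x
    have h1 := hA (MulAut.conjNormal g⁻¹ x)
    rw [← MulAut.mul_apply, ← map_mul, mul_inv_cancel, map_one, MulAut.one_apply] at h1
    rw [h1]
    group
  have hzpow : ∀ i : ℤ, ∀ x : N,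
      ρu (MulAut.conjNormal (g ^ i) x) = A ^ i * ρu x * (A ^ i)⁻¹ := by
    intro i
    induction i using Int.induction_on with
    | zero => intro x; simp
    | succ i ih =>
      intro x
      rw [zpow_add_one, map_mul, MulAut.mul_apply, ih, hA, zpow_add_one]
      group
    | pred i ih =>
      intro x
      rw [zpow_sub_one, map_mul, MulAut.mul_apply, ih, hAinv, zpow_sub_one]
      group
  let φ : Multiplicative ℤ →* MulAut N := (MulAut.conjNormal).comp (zpowersHom G g)
  have hφ : ∀ i : Multiplicative ℤ, φ i = MulAut.conjNormal (g ^ (Multiplicative.toAdd i)) :=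
    fun i => rfl
  let Ψ : N ⋊[φ] Multiplicative ℤ →* G :=
    SemidirectProduct.lift N.subtype (zpowersHom G g) (by
      intro i
      ext x
      simp only [MonoidHom.comp_apply, MulEquiv.coe_toMonoidHom, MulAut.conj_apply,
        Subgroup.coe_subtype]
      rw [hφ, MulAut.conjNormal_apply]
      rfl)
  let R : N ⋊[φ] Multiplicative ℤ →* (Module.End ℂ V)ˣ :=
    SemidirectProduct.lift ρu (zpowersHom _ A) (by
      intro i
      ext x
      simp only [MonoidHom.comp_apply, MulEquiv.coe_toMonoidHom, MulAut.conj_apply]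
      rw [hφ, hzpow]
      rfl)
  have hΨ : Function.Surjective Ψ := by
    intro y
    obtain ⟨i, hi⟩ := hgen y
    refine ⟨⟨⟨y * g ^ (-i), hi⟩, Multiplicative.ofAdd i⟩, ?_⟩
    show (y * g ^ (-i)) * g ^ i = y
    group
  have hker : Ψ.ker ≤ R.ker := by
    intro a ha
    rw [MonoidHom.mem_ker] at ha ⊢
    have ha' : (a.left : G) * g ^ (Multiplicative.toAdd a.right) = 1 := ha
    set j : ℤ := Multiplicative.toAdd a.right with hj
    have hgj : g ^ j = ((a.left⁻¹ : N) : G) := by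
      rw [Subgroup.coe_inv]
      exact eq_inv_of_mul_eq_one_right ha'
    have hqj : q ^ j = 1 := by
      rw [hq, ← QuotientGroup.mk_zpow, QuotientGroup.eq_one_iff, hgj]
      exact (a.left⁻¹).2
    obtain ⟨k, hk⟩ := (orderOf_dvd_iff_zpow_eq_one).2 hqj
    have hRa : R a = ρu a.left * A ^ j := rfl
    rw [hRa, hk, zpow_mul, zpow_natCast, hAm, ← map_zpow, ← map_mul]
    have : a.left * (⟨g ^ m, hgm⟩ : N) ^ k = 1 := by
      apply Subtype.ext
      rw [Subgroup.coe_mul, Subgroup.coe_zpow]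
      show (a.left : G) * (g ^ m) ^ k = 1
      rw [← zpow_natCast, ← zpow_mul, ← hk, hgj, Subgroup.coe_inv, mul_inv_cancel]
    rw [this, map_one]
  let σu : G →* (Module.End ℂ V)ˣ := (Ψ.liftOfSurjective hΨ) ⟨R, hker⟩
  refine ⟨(Units.coeHom (Module.End ℂ V)).comp σu, fun x => ?_⟩
  have h1 : Ψ (SemidirectProduct.inl x) = (x : G) := by
    simp only [Ψ, SemidirectProduct.lift_inl]
    rfl
  have h2 : σu (x : G) = ρu x := by
    rw [← h1]
    simp only [σu]
    rw [MonoidHom.liftOfRightInverse_comp_apply]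
    simp only [R, SemidirectProduct.lift_inl]
  show ((σu (x : G) : (Module.End ℂ V)ˣ) : Module.End ℂ V) = ρ x
  rw [h2]
  rfl

end

end Cfsg.Agent.Lib.Helper2.CyclicExt
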