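import Mathlib
import Cfsg.Agent.Lib.Helper2.CyclicExt

set_option autoImplicit false

/-! Projective extensions of an invariant irreducible representation of a normal subgroup, and
their factor sets. -/

namespace Cfsg.Agent.Lib.Helper2.ProjExt

open Cfsg

section
variable {V : Type*} [AddCommGroup V] [Module ℂ V]

/-- Scalar units of the endomorphism ring. -/
noncomputable def sc : ℂˣ →* (Module.End ℂ V)ˣ :=
  Units.map (algebraMap ℂ (Module.End ℂ V) : ℂ →* Module.End ℂ V)

theorem sc_val (c : ℂˣ) : ((sc c : (Module.End ℂ V)ˣ) : Module.End ℂ V) = (c : ℂ) • 1 := by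
  show algebraMap ℂ (Module.End ℂ V) (c : ℂ) = _
  rw [Algebra.algebraMap_eq_smul_one]

theorem sc_comm (c : ℂˣ) (a : (Module.End ℂ V)ˣ) : sc c * a = a * sc c := by
  apply Units.ext
  rw [Units.val_mul, Units.val_mul]
  exact Algebra.commutes (c : ℂ) (a : Module.End ℂ V)

theorem sc_injective [Nontrivial V] : Function.Injective (sc : ℂˣ →* (Module.End ℂ V)ˣ) := by
  intro a b h
  obtain ⟨v, hv⟩ := exists_ne (0 : V)
  have h1 := congrArg (fun u : (Module.End ℂ V)ˣ => (u : Module.End ℂ V) v) h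
  simp only [sc_val] at h1
  have h2 : (a : ℂ) • v = (b : ℂ) • v := by simpa using h1
  apply Units.ext
  exact smul_left_injective ℂ hv h2

theorem det_sc [FiniteDimensional ℂ V] (c : ℂˣ) :
    LinearMap.det ((sc c : (Module.End ℂ V)ˣ) : Module.End ℂ V) = (c : ℂ) ^ Module.finrank ℂ V := by
  rw [sc_val]
  have : ((c : ℂ) • (1 : Module.End ℂ V)) = (c : ℂ) • (LinearMap.id : V →ₗ[ℂ] V) := rfl
  rw [this, LinearMap.det_smul, LinearMap.det_id, mul_one]

end

section
variable {G : Type*} [Group G] (N : Subgroup G) [hN : N.Normal]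
  {V : Type*} [AddCommGroup V] [Module ℂ V] [FiniteDimensional ℂ V]
  (ρ : Representation ℂ N V)

/-- Schur's lemma for units: a unit commuting with an irreducible representation is a scalar. -/
theorem exists_sc_of_commute [Finite G] [ρ.IsIrreducible] (B : (Module.End ℂ V)ˣ)
    (hB : ∀ x : N, B * ρ.toHomUnits x = ρ.toHomUnits x * B) : ∃ c : ℂˣ, B = sc c := by
  haveI : Fintype N := Fintype.ofFinite N
  obtain ⟨c₀, hc₀⟩ := Cfsg.Agent.Lib.Helper1.scalar_of_commute ρ (B : Module.End ℂ V)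
    (fun x => by
      have := congrArg Units.val (hB x)
      rw [Units.val_mul, Units.val_mul] at this
      exact this)
  haveI := Cfsg.Agent.Lib.Helper1.nontrivial_of_irreducible ρ
  have hc0 : c₀ ≠ 0 := by
    rintro rfl
    obtain ⟨v, hv⟩ := exists_ne (0 : V)
    have h1 : ((B⁻¹ * B : (Module.End ℂ V)ˣ) : Module.End ℂ V) v = v := by
      rw [inv_mul_cancel]; rfl
    rw [Units.val_mul, hc₀] at h1
    simp at h1
    exact hv h1.symm
  refine ⟨Units.mk0 c₀ hc0, ?_⟩
  apply Units.ext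
  rw [hc₀, sc_val]
  rfl

/-- A projective extension of `ρ` to `G`. -/
structure IsProjExt (X : G → (Module.End ℂ V)ˣ) : Prop where
  conj : ∀ (g : G) (n : N),
    X g * ρ.toHomUnits n * (X g)⁻¹ = ρ.toHomUnits (MulAut.conjNormal g n)
  res : ∀ n : N, X n = ρ.toHomUnits n
  mul_right : ∀ (g : G) (n : N), X (g * n) = X g * ρ.toHomUnits n

/-- Construction of a projective extension which restricts to a given genuine extension `Y` on an
intermediate subgroup `P`. -/
theorem exists_projExt [Finite G] [ρ.IsIrreducible]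
    (hinv : ∀ (g : G) (x : N), ρ.character (MulAut.conjNormal g x) = ρ.character x)
    (P : Subgroup G) (hNP : N ≤ P) (Y : P →* (Module.End ℂ V)ˣ)
    (hY : ∀ n : N, Y ⟨n, hNP n.2⟩ = ρ.toHomUnits n) :
    ∃ X : G → (Module.End ℂ V)ˣ, IsProjExt N ρ X ∧ (∀ y : P, X y = Y y) ∧
      ∀ (g : G) (y : P), X (g * y) = X g * Y y := by
  classical
  have hA : ∀ g : G, ∃ A : (Module.End ℂ V)ˣ, ∀ x : N,
      ρ.toHomUnits (MulAut.conjNormal g x) = A * ρ.toHomUnits x * A⁻¹ :=
    fun g => Cfsg.Agent.Lib.Helper2.CyclicExt.exists_conj_unit N g ρ (hinv g)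
  choose A hA using hA
  set ρu := ρ.toHomUnits with hρu
  let s : G ⧸ P → G := Quotient.out
  have hs : ∀ g : G, (s (QuotientGroup.mk g))⁻¹ * g ∈ P := by
    intro g
    rw [← QuotientGroup.eq]
    exact Quotient.out_eq' _
  -- conjugation by `Y y`
  have hYconj : ∀ (y : P) (n : N), Y y * ρu n * (Y y)⁻¹ = ρu (MulAut.conjNormal (y : G) n) := by
    intro y n
    rw [← hY n, ← hY (MulAut.conjNormal (y : G) n), ← map_inv, ← map_mul, ← map_mul]
    congr 1
  let X : G → (Module.End ℂ V)ˣ := fun g =>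
    if hg : g ∈ P then Y ⟨g, hg⟩
    else A (s (QuotientGroup.mk g)) * Y ⟨(s (QuotientGroup.mk g))⁻¹ * g, hs g⟩
  have hXP : ∀ y : P, X y = Y y := by
    intro y
    simp only [X]
    rw [dif_pos y.2]
  have hXmul : ∀ (g : G) (y : P), X (g * y) = X g * Y y := by
    intro g y
    by_cases hg : g ∈ P
    · have hgy : g * y ∈ P := P.mul_mem hg y.2
      simp only [X]
      rw [dif_pos hg, dif_pos hgy, ← map_mul]
      rfl
    · have hgy : g * y ∉ P := by
        intro h
        apply hg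
        have := P.mul_mem h (P.inv_mem y.2)
        simpa using this
      have hmk : (QuotientGroup.mk (g * y) : G ⧸ P) = QuotientGroup.mk g := by
        rw [QuotientGroup.eq]
        simp [mul_assoc]
      simp only [X]
      rw [dif_neg hg, dif_neg hgy, mul_assoc, ← map_mul]
      congr 1
      · rw [hmk]
      · congr 1
        apply Subtype.ext
        show (s (QuotientGroup.mk (g * y)))⁻¹ * (g * y) = (s (QuotientGroup.mk g))⁻¹ * g * y
        rw [hmk, mul_assoc]
  refine ⟨X, ⟨?_, ?_, ?_⟩, hXP, hXmul⟩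
  · intro g n
    by_cases hg : g ∈ P
    · simp only [X]
      rw [dif_pos hg]
      exact hYconj ⟨g, hg⟩ n
    · simp only [X]
      rw [dif_neg hg]
      set t := s (QuotientGroup.mk g) with ht
      set p : P := ⟨t⁻¹ * g, hs g⟩ with hp
      have h1 : A t * Y p * ρu n * (A t * Y p)⁻¹ = A t * (Y p * ρu n * (Y p)⁻¹) * (A t)⁻¹ := by
        group
      rw [h1, hYconj p n, ← hA t]
      congr 1
      apply Subtype.ext
      rw [MulAut.conjNormal_apply, MulAut.conjNormal_apply, MulAut.conjNormal_apply]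
      show t * (t⁻¹ * g * n * (t⁻¹ * g)⁻¹) * t⁻¹ = g * n * g⁻¹
      group
  · intro n
    rw [hXP ⟨n, hNP n.2⟩]
    exact hY n
  · intro g n
    have := hXmul g ⟨n, hNP n.2⟩
    rw [hY n] at this
    exact this

variable {N ρ}

theorem IsProjExt.conj_inv {X : G → (Module.End ℂ V)ˣ} (hX : IsProjExt N ρ X) (k : G) (n : N) :
    (X k)⁻¹ * ρ.toHomUnits n * X k = ρ.toHomUnits (MulAut.conjNormal k⁻¹ n) := by
  have h1 := hX.conj k (MulAut.conjNormal k⁻¹ n)
  rw [← MulAut.mul_apply, ← map_mul, mul_inv_cancel, map_one, MulAut.one_apply] at h1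
  rw [← h1]
  group

/-- If two units both induce the conjugation by `k` on `ρ`, they differ by a scalar. -/
theorem exists_sc_of_conj [Finite G] [ρ.IsIrreducible] (k : G) (B C : (Module.End ℂ V)ˣ)
    (hB : ∀ n : N, B * ρ.toHomUnits n * B⁻¹ = ρ.toHomUnits (MulAut.conjNormal k n))
    (hC : ∀ n : N, C * ρ.toHomUnits n * C⁻¹ = ρ.toHomUnits (MulAut.conjNormal k n)) :
    ∃ c : ℂˣ, B = sc c * C := by
  obtain ⟨c, hc⟩ := exists_sc_of_commute N ρ (B * C⁻¹) (by
    intro x
    have h1 : C⁻¹ * ρ.toHomUnits x * C = ρ.toHomUnits (MulAut.conjNormal k⁻¹ x) := by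
      have h2 := hC (MulAut.conjNormal k⁻¹ x)
      rw [← MulAut.mul_apply, ← map_mul, mul_inv_cancel, map_one, MulAut.one_apply] at h2
      rw [← h2]
      group
    have h3 := hB (MulAut.conjNormal k⁻¹ x)
    rw [← MulAut.mul_apply, ← map_mul, mul_inv_cancel, map_one, MulAut.one_apply, ← h1] at h3
    -- h3 : B * (C⁻¹ * ρ x * C) * B⁻¹ = ρ x
    calc B * C⁻¹ * ρ.toHomUnits x
        = (B * (C⁻¹ * ρ.toHomUnits x * C) * B⁻¹) * (B * C⁻¹) := by group
      _ = ρ.toHomUnits x * (B * C⁻¹) := by rw [h3])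
  refine ⟨c, ?_⟩
  rw [← hc]
  group

/-- The factor set of a projective extension. -/
theorem IsProjExt.exists_alpha [Finite G] [ρ.IsIrreducible] {X : G → (Module.End ℂ V)ˣ}
    (hX : IsProjExt N ρ X) :
    ∃ α : G → G → ℂˣ, ∀ g h : G, X g * X h = sc (α g h) * X (g * h) := by
  have h : ∀ g h : G, ∃ c : ℂˣ, X g * X h = sc c * X (g * h) := by
    intro g h
    apply exists_sc_of_conj (g * h) _ _ _ (hX.conj (g * h))
    intro n
    have h1 : X g * X h * ρ.toHomUnits n * (X g * X h)⁻¹
        = X g * (X h * ρ.toHomUnits n * (X h)⁻¹) * (X g)⁻¹ := by group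
    rw [h1, hX.conj h n, hX.conj g, ← MulAut.mul_apply, ← map_mul]
  choose α hα using h
  exact ⟨α, hα⟩

/-- Two projective extensions differ by a scalar function constant on cosets of `N`. -/
theorem IsProjExt.compare [Finite G] [ρ.IsIrreducible] {X X' : G → (Module.End ℂ V)ˣ}
    (hX : IsProjExt N ρ X) (hX' : IsProjExt N ρ X') :
    ∃ c : G → ℂˣ, (∀ (g : G) (n : N), c (g * n) = c g) ∧ ∀ g : G, X' g = sc (c g) * X g := by
  haveI := Cfsg.Agent.Lib.Helper1.nontrivial_of_irreducible ρ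
  have h : ∀ g : G, ∃ c : ℂˣ, X' g = sc c * X g :=
    fun g => exists_sc_of_conj g _ _ (hX'.conj g) (hX.conj g)
  choose c hc using h
  refine ⟨c, fun g n => ?_, hc⟩
  apply sc_injective (V := V)
  have h1 : sc (c (g * n)) * X (g * n) = sc (c g) * X (g * n) := by
    rw [← hc (g * n), hX'.mul_right, hX.mul_right, hc g, mul_assoc]
  exact mul_right_cancel h1

/-- Functions `G → ℂˣ` constant on the cosets of `N`. -/
def cosetFun (N : Subgroup G) : Subgroup (G → ℂˣ) where
  carrier := {γ | ∀ (g : G) (n : N), γ (g * n) = γ g}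
  one_mem' := fun _ _ => rfl
  mul_mem' := by
    intro a b ha hb g n
    show a (g * n) * b (g * n) = a g * b g
    rw [ha g n, hb g n]
  inv_mem' := by
    intro a ha g n
    show (a (g * n))⁻¹ = (a g)⁻¹
    rw [ha g n]

/-- The coboundary of a function. -/
def cob : (G → ℂˣ) →* (G → G → ℂˣ) where
  toFun γ := fun g h => γ g * γ h / γ (g * h)
  map_one' := by funext g h; simp
  map_mul' a b := by
    funext g h
    show a g * b g * (a h * b h) / (a (g * h) * b (g * h))
      = a g * a h / a (g * h) * (b g * b h / b (g * h))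
    rw [div_mul_div_comm]
    congr 1
    rw [mul_mul_mul_comm]

theorem cob_apply (γ : G → ℂˣ) (g h : G) : cob γ g h = γ g * γ h / γ (g * h) := rfl

/-- The coboundaries of functions constant on cosets of `N`. -/
def cobGroup (N : Subgroup G) : Subgroup (G → G → ℂˣ) := (cosetFun N).map cob

theorem IsProjExt.cocycle [Finite G] [ρ.IsIrreducible] {X : G → (Module.End ℂ V)ˣ}
    (_hX : IsProjExt N ρ X) {α : G → G → ℂˣ}
    (hα : ∀ g h : G, X g * X h = sc (α g h) * X (g * h)) (x y z : G) :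
    α x y * α (x * y) z = α y z * α x (y * z) := by
  haveI := Cfsg.Agent.Lib.Helper1.nontrivial_of_irreducible ρ
  apply sc_injective (V := V)
  have h1 : X x * X y * X z = sc (α x y * α (x * y) z) * X (x * y * z) := by
    rw [hα x y, mul_assoc, hα (x * y) z, ← mul_assoc, ← map_mul]
  have h2 : X x * X y * X z = sc (α y z * α x (y * z)) * X (x * y * z) := by
    rw [mul_assoc (X x), hα y z, ← mul_assoc, ← sc_comm, mul_assoc, hα x (y * z), ← mul_assoc,
      ← map_mul, mul_assoc x y z]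
  exact mul_right_cancel (h1.symm.trans h2)

theorem IsProjExt.alpha_mul_left [Finite G] [ρ.IsIrreducible] {X : G → (Module.End ℂ V)ˣ}
    (hX : IsProjExt N ρ X) {α : G → G → ℂˣ}
    (hα : ∀ g h : G, X g * X h = sc (α g h) * X (g * h)) (x z : G) (n : N) :
    α (x * n) z = α x z := by
  haveI := Cfsg.Agent.Lib.Helper1.nontrivial_of_irreducible ρ
  apply sc_injective (V := V)
  have h0 : ρ.toHomUnits n * X z = X z * ρ.toHomUnits (MulAut.conjNormal z⁻¹ n) := by
    rw [← hX.conj_inv z n]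
    group
  have h1 : X (x * n) * X z = sc (α x z) * X (x * n * z) := by
    rw [hX.mul_right, mul_assoc, h0, ← mul_assoc, hα x z, mul_assoc, ← hX.mul_right]
    congr 2
    rw [MulAut.conjNormal_apply]
    group
  exact mul_right_cancel ((hα (x * n) z).symm.trans h1)

theorem IsProjExt.alpha_mul_right [Finite G] [ρ.IsIrreducible] {X : G → (Module.End ℂ V)ˣ}
    (hX : IsProjExt N ρ X) {α : G → G → ℂˣ}
    (hα : ∀ g h : G, X g * X h = sc (α g h) * X (g * h)) (x z : G) (n : N) :
    α x (z * n) = α x z := by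
  haveI := Cfsg.Agent.Lib.Helper1.nontrivial_of_irreducible ρ
  apply sc_injective (V := V)
  have h1 : X x * X (z * n) = sc (α x z) * X (x * (z * n)) := by
    rw [hX.mul_right, ← mul_assoc, hα x z, mul_assoc, ← hX.mul_right, mul_assoc]
  exact mul_right_cancel ((hα x (z * n)).symm.trans h1)

theorem IsProjExt.alpha_one_one [Finite G] [ρ.IsIrreducible] {X : G → (Module.End ℂ V)ˣ}
    (hX : IsProjExt N ρ X) {α : G → G → ℂˣ}
    (hα : ∀ g h : G, X g * X h = sc (α g h) * X (g * h)) : α 1 1 = 1 := by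
  haveI := Cfsg.Agent.Lib.Helper1.nontrivial_of_irreducible ρ
  apply sc_injective (V := V)
  have hX1 : X 1 = 1 := by
    have := hX.res 1
    rw [Subgroup.coe_one, map_one] at this
    exact this
  have h1 := hα 1 1
  rw [mul_one, hX1, mul_one, mul_one] at h1
  rw [map_one]
  exact h1.symm

/-- The factor sets of two projective extensions differ by a coboundary. -/
theorem IsProjExt.alpha_compare [Finite G] [ρ.IsIrreducible] {X X' : G → (Module.End ℂ V)ˣ}
    (hX : IsProjExt N ρ X) (hX' : IsProjExt N ρ X') {α α' : G → G → ℂˣ}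
    (hα : ∀ g h : G, X g * X h = sc (α g h) * X (g * h))
    (hα' : ∀ g h : G, X' g * X' h = sc (α' g h) * X' (g * h)) :
    ∃ c ∈ cosetFun N, α' = α * cob c := by
  haveI := Cfsg.Agent.Lib.Helper1.nontrivial_of_irreducible ρ
  obtain ⟨c, hcN, hc⟩ := hX.compare hX'
  refine ⟨c, hcN, ?_⟩
  funext g h
  apply sc_injective (V := V)
  show sc (α' g h) = sc (α g h * (c g * c h / c (g * h)))
  have e1 : X' g * X' h = sc (c g * c h * α g h) * X (g * h) := by
    rw [hc g, hc h]
    calc sc (c g) * X g * (sc (c h) * X h) = sc (c g) * (X g * sc (c h)) * X h := by group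
      _ = sc (c g) * (sc (c h) * X g) * X h := by rw [sc_comm (c h) (X g)]
      _ = sc (c g) * sc (c h) * (X g * X h) := by group
      _ = _ := by rw [hα g h, ← mul_assoc, ← map_mul, ← map_mul]
  have e2 : sc (α g h * (c g * c h / c (g * h))) * X' (g * h)
      = sc (c g * c h * α g h) * X (g * h) := by
    rw [hc (g * h), ← mul_assoc, ← map_mul]
    congr 2
    rw [mul_assoc, div_mul_cancel, mul_comm]
  have h1 : X' g * X' h = sc (α g h * (c g * c h / c (g * h))) * X' (g * h) := e1.trans e2.symm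
  exact mul_right_cancel ((hα' g h).symm.trans h1)

/-- If the factor set is a coboundary, `ρ` extends to a representation of `G`. -/
theorem IsProjExt.exists_rep_of_cob [Finite G] [ρ.IsIrreducible] {X : G → (Module.End ℂ V)ˣ}
    (hX : IsProjExt N ρ X) {α : G → G → ℂˣ}
    (hα : ∀ g h : G, X g * X h = sc (α g h) * X (g * h)) (hcob : α ∈ cobGroup N) :
    ∃ σ : Representation ℂ G V, ∀ n : N, σ n = ρ n := by
  obtain ⟨γ, hγN, rfl⟩ := hcob
  have h11 := hX.alpha_one_one hα
  have hγ1 : γ 1 = 1 := by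
    rw [cob_apply, mul_one, mul_div_assoc, div_self', mul_one] at h11
    exact h11
  have hX1 : X 1 = 1 := by
    have := hX.res 1
    rw [Subgroup.coe_one, map_one] at this
    exact this
  let σu : G →* (Module.End ℂ V)ˣ :=
    { toFun := fun g => sc (γ g)⁻¹ * X g
      map_one' := by rw [hγ1, inv_one, map_one, one_mul, hX1]
      map_mul' := by
        intro g h
        calc sc (γ (g * h))⁻¹ * X (g * h)
            = sc ((γ g)⁻¹ * (γ h)⁻¹) * (sc (cob γ g h) * X (g * h)) := by
              rw [← mul_assoc, ← map_mul]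
              congr 2
              rw [cob_apply, div_eq_mul_inv, ← mul_assoc, ← mul_assoc]
              have : (γ g)⁻¹ * (γ h)⁻¹ * γ g * γ h = 1 := by
                rw [mul_comm (γ g)⁻¹, mul_assoc (γ h)⁻¹, inv_mul_cancel, mul_one, inv_mul_cancel]
              rw [this, one_mul]
          _ = sc ((γ g)⁻¹ * (γ h)⁻¹) * (X g * X h) := by rw [hα g h]
          _ = sc (γ g)⁻¹ * (sc (γ h)⁻¹ * X g) * X h := by rw [map_mul]; group
          _ = sc (γ g)⁻¹ * (X g * sc (γ h)⁻¹) * X h := by rw [sc_comm (γ h)⁻¹ (X g)]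
          _ = sc (γ g)⁻¹ * X g * (sc (γ h)⁻¹ * X h) := by group }
  refine ⟨(Units.coeHom (Module.End ℂ V)).comp σu, fun n => ?_⟩
  show ((sc (γ (n : G))⁻¹ * X n : (Module.End ℂ V)ˣ) : Module.End ℂ V) = ρ n
  have h1 : γ (n : G) = 1 := by
    have := hγN 1 n
    rw [one_mul] at this
    rw [this, hγ1]
  rw [h1, inv_one, map_one, one_mul, hX.res n]
  rfl

/-- Key lemma: if `ρ` extends to a genuine representation of an intermediate subgroup `P`, the
`|G : P|`-th power of the factor set of any projective extension is a coboundary. -/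
theorem IsProjExt.pow_index_mem_cobGroup [Finite G] [ρ.IsIrreducible]
    {X₀ : G → (Module.End ℂ V)ˣ} (hX₀ : IsProjExt N ρ X₀) {α₀ : G → G → ℂˣ}
    (hα₀ : ∀ g h : G, X₀ g * X₀ h = sc (α₀ g h) * X₀ (g * h))
    (hinv : ∀ (g : G) (x : N), ρ.character (MulAut.conjNormal g x) = ρ.character x)
    (P : Subgroup G) (hNP : N ≤ P) (Y : P →* (Module.End ℂ V)ˣ)
    (hY : ∀ n : N, Y ⟨n, hNP n.2⟩ = ρ.toHomUnits n) :
    α₀ ^ P.index ∈ cobGroup N := by
  classical
  haveI := Cfsg.Agent.Lib.Helper1.nontrivial_of_irreducible ρ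
  obtain ⟨X, hX, hXP, hXmul⟩ := exists_projExt N ρ hinv P hNP Y hY
  obtain ⟨α, hα⟩ := hX.exists_alpha
  -- (a)
  have ha : ∀ (g : G) (y : P), α g y = 1 := by
    intro g y
    apply sc_injective (V := V)
    have h1 := hα g y
    rw [hXP y, ← hXmul g y] at h1
    rw [map_one]
    exact (mul_eq_right.1 h1.symm)
  -- (b)
  have hb : ∀ (x y : G) (p : P), α x (y * p) = α x y := by
    intro x y p
    have h1 := hX.cocycle hα x y p
    rw [ha (x * y) p, ha y p, mul_one, one_mul] at h1
    exact h1.symm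
  haveI : Fintype (G ⧸ P) := Fintype.ofFinite _
  let β : G → ℂˣ := fun x => ∏ q : G ⧸ P, α x q.out
  have hd : ∀ x y : G, ∏ q : G ⧸ P, α x (y * q.out) = β x := by
    intro x y
    have h1 := Equiv.prod_comp (MulAction.toPerm y : Equiv.Perm (G ⧸ P)) (fun q => α x q.out)
    show ∏ q : G ⧸ P, α x (y * q.out) = ∏ q : G ⧸ P, α x q.out
    rw [← h1]
    refine Finset.prod_congr rfl fun q _ => ?_
    have h2 : ((y * q.out)⁻¹ * (MulAction.toPerm y q : G ⧸ P).out) ∈ P := by
      rw [← QuotientGroup.eq]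
      show (QuotientGroup.mk (y * q.out) : G ⧸ P) = QuotientGroup.mk ((y • q : G ⧸ P).out)
      rw [QuotientGroup.out_eq']
      conv_rhs => rw [← QuotientGroup.out_eq' q]
      rfl
    have h3 := hb x (y * q.out) ⟨_, h2⟩
    rw [← h3]
    congr 1
    show y * q.out * ((y * q.out)⁻¹ * (MulAction.toPerm y q : G ⧸ P).out)
      = (MulAction.toPerm y q : G ⧸ P).out
    group
  have he : ∀ x y : G, α x y ^ P.index * β (x * y) = β y * β x := by
    intro x y
    have h1 : ∀ q : G ⧸ P, α x y * α (x * y) q.out = α y q.out * α x (y * q.out) :=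
      fun q => hX.cocycle hα x y q.out
    have h2 := Finset.prod_congr (s₁ := (Finset.univ : Finset (G ⧸ P))) rfl (fun q _ => h1 q)
    rw [Finset.prod_mul_distrib, Finset.prod_mul_distrib, Finset.prod_const, Finset.card_univ,
      hd x y] at h2
    rw [Subgroup.index_eq_card, Nat.card_eq_fintype_card]
    exact h2
  have hβN : β ∈ cosetFun N := by
    intro x n
    show ∏ q : G ⧸ P, α (x * n) q.out = ∏ q : G ⧸ P, α x q.out
    exact Finset.prod_congr rfl fun q _ => hX.alpha_mul_left hα x q.out n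
  have hαr : α ^ P.index ∈ cobGroup N := by
    refine ⟨β, hβN, ?_⟩
    funext x y
    rw [cob_apply, Pi.pow_apply, Pi.pow_apply, div_eq_iff_eq_mul, he, mul_comm]
  obtain ⟨c, hc, hαα⟩ := hX₀.alpha_compare hX hα₀ hα
  have hc' : cob c ∈ cobGroup N := ⟨c, hc, rfl⟩
  have h1 : α₀ ^ P.index = α ^ P.index * ((cob c) ^ P.index)⁻¹ := by
    rw [hαα, mul_pow, mul_inv_cancel_right]
  rw [h1]
  exact (cobGroup N).mul_mem hαr ((cobGroup N).inv_mem ((cobGroup N).pow_mem hc' _))

/-- If `det ρ` extends to a linear character of `G`, the `dim V`-th power of the factor set is a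
coboundary. -/
theorem IsProjExt.pow_finrank_mem_cobGroup [Finite G] [ρ.IsIrreducible]
    {X : G → (Module.End ℂ V)ˣ} (hX : IsProjExt N ρ X) {α : G → G → ℂˣ}
    (hα : ∀ g h : G, X g * X h = sc (α g h) * X (g * h))
    (μ' : G →* ℂˣ) (hμ : ∀ n : N, ((μ' n : ℂˣ) : ℂ) = LinearMap.det (ρ n)) :
    α ^ Module.finrank ℂ V ∈ cobGroup N := by
  let detU : (Module.End ℂ V)ˣ →* ℂˣ := Units.map (LinearMap.det : Module.End ℂ V →* ℂ)
  have hdetsc : ∀ c : ℂˣ, detU (sc c) = c ^ Module.finrank ℂ V := by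
    intro c
    apply Units.ext
    rw [Units.val_pow_eq_pow_val]
    exact det_sc c
  have hdetρ : ∀ n : N, detU (ρ.toHomUnits n) = μ' n := by
    intro n
    apply Units.ext
    rw [hμ n]
    rfl
  let γ : G → ℂˣ := fun g => detU (X g) / μ' g
  have hγN : γ ∈ cosetFun N := by
    intro g n
    show detU (X (g * n)) / μ' (g * n) = detU (X g) / μ' g
    rw [hX.mul_right, map_mul, map_mul, hdetρ, mul_div_mul_right_eq_div]
  refine ⟨γ, hγN, ?_⟩
  funext g h
  rw [cob_apply, Pi.pow_apply, Pi.pow_apply]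
  show detU (X g) / μ' g * (detU (X h) / μ' h) / (detU (X (g * h)) / μ' (g * h))
    = α g h ^ Module.finrank ℂ V
  have h1 : detU (X g) * detU (X h) = α g h ^ Module.finrank ℂ V * detU (X (g * h)) := by
    rw [← map_mul, hα g h, map_mul, hdetsc]
  rw [div_mul_div_comm, h1, map_mul, div_div_div_comm, mul_div_assoc, div_self', mul_one,
    div_self', div_one]

/-- Gallagher: an invariant irreducible representation of degree coprime to the index whose
determinant extends to a linear character of `G` extends to `G`. -/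
theorem exists_extension_of_det [Finite G] [ρ.IsIrreducible]
    (hinv : ∀ (g : G) (x : N), ρ.character (MulAut.conjNormal g x) = ρ.character x)
    (μ' : G →* ℂˣ) (hμ : ∀ n : N, ((μ' n : ℂˣ) : ℂ) = LinearMap.det (ρ n))
    (hcop : Nat.Coprime N.index (Module.finrank ℂ V)) :
    ∃ σ : Representation ℂ G V, ∀ n : N, σ n = ρ n := by
  obtain ⟨X, hX, -, -⟩ := exists_projExt N ρ hinv N le_rfl ρ.toHomUnits (fun _ => rfl)
  obtain ⟨α, hα⟩ := hX.exists_alpha
  have h1 := hX.pow_index_mem_cobGroup hα hinv N le_rfl ρ.toHomUnits (fun _ => rfl)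
  have h2 := hX.pow_finrank_mem_cobGroup hα μ' hμ
  haveI : IsMulCommutative (G → G → ℂˣ) := ⟨⟨fun a b => mul_comm a b⟩⟩
  haveI : (cobGroup N).Normal := Subgroup.normal_of_isMulCommutative _
  let c : (G → G → ℂˣ) ⧸ cobGroup N := QuotientGroup.mk α
  have hc1 : c ^ N.index = 1 := by
    show (QuotientGroup.mk α : (G → G → ℂˣ) ⧸ cobGroup N) ^ N.index = 1
    rw [← QuotientGroup.mk_pow, QuotientGroup.eq_one_iff]
    exact h1
  have hc2 : c ^ Module.finrank ℂ V = 1 := by
    show (QuotientGroup.mk α : (G → G → ℂˣ) ⧸ cobGroup N) ^ Module.finrank ℂ V = 1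
    rw [← QuotientGroup.mk_pow, QuotientGroup.eq_one_iff]
    exact h2
  have hc : c = 1 := orderOf_eq_one_iff.1 (Nat.eq_one_of_dvd_coprimes hcop
    (orderOf_dvd_of_pow_eq_one hc1) (orderOf_dvd_of_pow_eq_one hc2))
  exact hX.exists_rep_of_cob hα ((QuotientGroup.eq_one_iff α).1 hc)

/-- If `ρ` extends to suitable subgroups `P_p ≥ N` of index prime to `p`, one for each prime `p`,
then `ρ` extends to `G`. -/
theorem exists_extension_of_sylow [Finite G] [ρ.IsIrreducible]
    (hinv : ∀ (g : G) (x : N), ρ.character (MulAut.conjNormal g x) = ρ.character x)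
    (hsyl : ∀ p : ℕ, p.Prime → ∃ (P : Subgroup G) (hNP : N ≤ P) (Y : P →* (Module.End ℂ V)ˣ),
      Nat.Coprime P.index p ∧ ∀ n : N, Y ⟨n, hNP n.2⟩ = ρ.toHomUnits n) :
    ∃ σ : Representation ℂ G V, ∀ n : N, σ n = ρ n := by
  obtain ⟨X, hX, -, -⟩ := exists_projExt N ρ hinv N le_rfl ρ.toHomUnits (fun _ => rfl)
  obtain ⟨α, hα⟩ := hX.exists_alpha
  haveI : IsMulCommutative (G → G → ℂˣ) := ⟨⟨fun a b => mul_comm a b⟩⟩
  haveI : (cobGroup N).Normal := Subgroup.normal_of_isMulCommutative _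
  let c : (G → G → ℂˣ) ⧸ cobGroup N := QuotientGroup.mk α
  have hc : orderOf c = 1 := by
    by_contra hne
    obtain ⟨p, hp, hpt⟩ := Nat.exists_prime_and_dvd hne
    obtain ⟨P, hNP, Y, hcop, hY⟩ := hsyl p hp
    have h1 := hX.pow_index_mem_cobGroup hα hinv P hNP Y hY
    have hc1 : c ^ P.index = 1 := by
      show (QuotientGroup.mk α : (G → G → ℂˣ) ⧸ cobGroup N) ^ P.index = 1
      rw [← QuotientGroup.mk_pow, QuotientGroup.eq_one_iff]
      exact h1
    have h2 : p ∣ P.index := hpt.trans (orderOf_dvd_of_pow_eq_one hc1)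
    have h3 : p ∣ Nat.gcd P.index p := Nat.dvd_gcd h2 dvd_rfl
    rw [hcop] at h3
    exact hp.one_lt.ne' (Nat.dvd_one.1 h3)
  exact hX.exists_rep_of_cob hα ((QuotientGroup.eq_one_iff α).1 (orderOf_eq_one_iff.1 hc))

end

end Cfsg.Agent.Lib.Helper2.ProjExt
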