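import Mathlib

set_option autoImplicit false

/-!
# Sharply 3-transitive groups of odd degree: elements interchanging two points are involutions
-/

namespace Cfsg.Agent.Lib.Helper2.Sharp3

open MulAction

section conv

variable {G : Type*} [Group G] {α : Type*} [MulAction G α]

theorem inj3 {a b c : α} (hab : a ≠ b) (hac : a ≠ c) (hbc : b ≠ c) :
    Function.Injective (![a, b, c] : Fin 3 → α) := by
  intro i j hij
  fin_cases i <;> fin_cases j <;> simp_all

/-- elementwise form of 3-transitivity -/
theorem exists_map_triple (h3 : IsMultiplyPretransitive G α 3) {a b c a' b' c' : α}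
    (hab : a ≠ b) (hac : a ≠ c) (hbc : b ≠ c) (hab' : a' ≠ b') (hac' : a' ≠ c') (hbc' : b' ≠ c') :
    ∃ g : G, g • a = a' ∧ g • b = b' ∧ g • c = c' := by
  obtain ⟨g, hg⟩ := h3.exists_smul_eq (⟨![a, b, c], inj3 hab hac hbc⟩ : Fin 3 ↪ α)
    ⟨![a', b', c'], inj3 hab' hac' hbc'⟩
  refine ⟨g, ?_, ?_, ?_⟩
  · have := congrArg (fun f : Fin 3 ↪ α => f 0) hg
    simpa [Function.Embedding.smul_apply] using this
  · have := congrArg (fun f : Fin 3 ↪ α => f 1) hg
    simpa [Function.Embedding.smul_apply] using this
  · have := congrArg (fun f : Fin 3 ↪ α => f 2) hg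
    simpa [Function.Embedding.smul_apply] using this

/-- elementwise form of sharpness -/
theorem eq_one_of_fix_three (hsharp : ∀ x : Fin 3 ↪ α, stabilizer G x = ⊥) (g : G) {a b c : α}
    (hab : a ≠ b) (hac : a ≠ c) (hbc : b ≠ c) (ha : g • a = a) (hb : g • b = b) (hc : g • c = c) :
    g = 1 := by
  have h1 : g ∈ stabilizer G (⟨![a, b, c], inj3 hab hac hbc⟩ : Fin 3 ↪ α) := by
    rw [mem_stabilizer_iff]
    ext i
    rw [Function.Embedding.smul_apply]
    fin_cases i
    · exact ha
    · exact hb
    · exact hc
  rw [hsharp, Subgroup.mem_bot] at h1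
  exact h1

end conv

section invol

variable {G : Type*} [Group G] [Finite G] {α : Type*} [Fintype α] [DecidableEq α] [MulAction G α]

/-- an involution fixing two points of a set of odd size fixes a third one -/
theorem inv_fix_two (hodd : Odd (Fintype.card α))
    (hS : ∀ g : G, ∀ a b c : α, a ≠ b → a ≠ c → b ≠ c → g • a = a → g • b = b → g • c = c → g = 1)
    (u : G) (hu : u * u = 1) {a b : α} (hab : a ≠ b) (ha : u • a = a) (hb : u • b = b) : u = 1 := by
  classical
  haveI : Fact (Nat.Prime 2) := ⟨Nat.prime_two⟩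
  let f : Function.End α := fun x => u • x
  have hf : f ^ 2 ^ 1 = 1 := by
    rw [pow_one, sq]
    funext x
    change u • u • x = x
    rw [← mul_smul, hu, one_smul]
  have hmod := Equiv.Perm.card_fixedPoints_modEq (p := 2) (n := 1) hf
  have hoddF : Odd (Fintype.card (Function.fixedPoints f)) := by
    rw [Nat.odd_iff] at hodd ⊢
    rw [← hmod]
    exact hodd
  have haF : a ∈ Function.fixedPoints f := ha
  have hbF : b ∈ Function.fixedPoints f := hb
  have hcard : 3 ≤ Fintype.card (Function.fixedPoints f) := by
    have h2 : 2 ≤ Fintype.card (Function.fixedPoints f) := by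
      rw [← Set.toFinset_card]
      have hsub : ({a, b} : Finset α) ⊆ (Function.fixedPoints f).toFinset := by
        intro x hx
        rw [Finset.mem_insert, Finset.mem_singleton] at hx
        rw [Set.mem_toFinset]
        rcases hx with rfl | rfl
        · exact haF
        · exact hbF
      have := Finset.card_le_card hsub
      rw [Finset.card_pair hab] at this
      exact this
    rcases hoddF with ⟨k, hk⟩
    omega
  have hex : ∃ c ∈ (Function.fixedPoints f).toFinset, c ∉ ({a, b} : Finset α) := by
    apply Finset.exists_mem_notMem_of_card_lt_card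
    rw [Finset.card_pair hab, Set.toFinset_card]
    omega
  obtain ⟨c, hcF, hcab⟩ := hex
  rw [Set.mem_toFinset] at hcF
  rw [Finset.mem_insert, Finset.mem_singleton, not_or] at hcab
  exact hS u a b c hab (Ne.symm hcab.1) (Ne.symm hcab.2) ha hb hcF

/-- in a sharply 3-transitive group of odd degree, an element interchanging two points is an
involution -/
theorem swap_sq (hodd : Odd (Fintype.card α))
    (hS : ∀ g : G, ∀ a b c : α, a ≠ b → a ≠ c → b ≠ c → g • a = a → g • b = b → g • c = c → g = 1)
    (t : G) {a b : α} (hab : a ≠ b) (hta : t • a = b) (htb : t • b = a) : t * t = 1 := by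
  classical
  haveI : Fact (Nat.Prime 2) := ⟨Nat.prime_two⟩
  set v := t * t with hv
  have hva : v • a = a := by rw [hv, mul_smul, hta, htb]
  have hvb : v • b = b := by rw [hv, mul_smul, htb, hta]
  set n := orderOf v with hn
  have hnpos : 0 < n := orderOf_pos v
  have hvpow : ∀ j : ℕ, v ^ j • a = a ∧ v ^ j • b = b := by
    intro j
    induction j with
    | zero => simp
    | succ j ih =>
      constructor
      · rw [pow_succ, mul_smul, hva]
        exact ih.1
      · rw [pow_succ, mul_smul, hvb]
        exact ih.2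
  -- `n` is odd
  have hnodd : Odd n := by
    by_contra hne
    rw [Nat.not_odd_iff_even] at hne
    obtain ⟨k, hk⟩ := hne
    have hw : v ^ k * v ^ k = 1 := by
      rw [← pow_add, ← hk, hn, pow_orderOf_eq_one]
    have hw1 := inv_fix_two hodd hS (v ^ k) hw hab (hvpow k).1 (hvpow k).2
    have : n ∣ k := by
      rw [hn]
      exact orderOf_dvd_of_pow_eq_one hw1
    have := Nat.le_of_dvd (by omega) this
    omega
  obtain ⟨k, hk⟩ := hnodd
  -- `u = t ^ n`
  set u := t ^ n with hu
  have huu : u * u = 1 := by
    rw [hu, ← pow_add, ← two_mul, pow_mul, sq, ← hv, hn, pow_orderOf_eq_one]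
  have htpow : ∀ j : ℕ, t ^ (2 * j + 1) • a = b ∧ t ^ (2 * j + 1) • b = a := by
    intro j
    have e : t ^ (2 * j + 1) = t * v ^ j := by
      rw [pow_succ', pow_mul, sq]
    rw [e, mul_smul, mul_smul, (hvpow j).1, (hvpow j).2]
    exact ⟨hta, htb⟩
  have hua : u • a = b := by rw [hu, hk]; exact (htpow k).1
  have hub : u • b = a := by rw [hu, hk]; exact (htpow k).2
  -- fixed points of `u`
  let f : Function.End α := fun x => u • x
  have hf : f ^ 2 ^ 1 = 1 := by
    rw [pow_one, sq]
    funext x
    change u • u • x = x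
    rw [← mul_smul, huu, one_smul]
  have hmod := Equiv.Perm.card_fixedPoints_modEq (p := 2) (n := 1) hf
  have hoddF : Odd (Fintype.card (Function.fixedPoints f)) := by
    rw [Nat.odd_iff] at hodd ⊢
    rw [← hmod]
    exact hodd
  have hpos : 0 < Fintype.card (Function.fixedPoints f) := by
    rcases hoddF with ⟨j, hj⟩
    omega
  obtain ⟨⟨c, hc⟩⟩ := Fintype.card_pos_iff.mp hpos
  have huc : u • c = c := hc
  have hca : c ≠ a := by
    rintro rfl
    exact hab (huc.symm.trans hua)
  have hcb : c ≠ b := by
    rintro rfl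
    exact hab (hub.symm.trans huc)
  have hcomm : t * u = u * t := by
    rw [hu, ← pow_succ', ← pow_succ]
  have hutc : u • (t • c) = t • c := by
    rw [← mul_smul, ← hcomm, mul_smul, huc]
  -- `t • c = c`
  have htc : t • c = c := by
    by_contra hne
    have hu1 : u = 1 := by
      apply inv_fix_two hodd hS u huu (Ne.symm hne) huc hutc
    rw [hu1, one_smul] at hua
    exact hab hua
  -- `t = u`
  have h1 : u⁻¹ * t = 1 := by
    apply hS (u⁻¹ * t) a b c hab (Ne.symm hca) (Ne.symm hcb)
    · rw [mul_smul, hta, inv_smul_eq_iff, hua]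
    · rw [mul_smul, htb, inv_smul_eq_iff, hub]
    · rw [mul_smul, htc, inv_smul_eq_iff, huc]
  rw [inv_mul_eq_one] at h1
  rw [hv, ← h1]
  exact huu

end invol

end Cfsg.Agent.Lib.Helper2.Sharp3
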