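import Mathlib
import Cfsg.Prelude.Def_Perm

set_option autoImplicit false

namespace Cfsg.Agent.Lib.Helper2

namespace SharpTwo

open MulAction

/-- the data from which the near-field of a sharply doubly transitive group is built -/
structure NFData (Γ : Type*) (α : Type*) [Group Γ] [MulAction Γ α] where
  N : Subgroup Γ
  o : α
  e : α
  t : α → Γ
  m : α → Γ
  hoe : o ≠ e
  comm : ∀ y ∈ N, ∀ z ∈ N, y * z = z * y
  normal : ∀ n ∈ N, ∀ g : Γ, g * n * g⁻¹ ∈ N
  tN : ∀ a, t a ∈ N
  t_smul : ∀ a, t a • o = a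
  t_uniq : ∀ n ∈ N, ∀ a, n • o = a → n = t a
  m_fix : ∀ a, a ≠ o → m a • o = o
  m_smul : ∀ a, a ≠ o → m a • e = a
  m_uniq : ∀ g a, g • o = o → g • e = a → g = m a

variable {Γ : Type*} {α : Type*} [Group Γ] [MulAction Γ α] (D : NFData Γ α)

namespace NFData

open Classical in
/-- multiplication -/
noncomputable def mul (x a : α) : α := if a = D.o then D.o else D.m a • x

/-- addition -/
def add (a b : α) : α := D.t a • b

/-- negation -/
def neg (a : α) : α := (D.t a)⁻¹ • D.o

theorem mul_o (x : α) : D.mul x D.o = D.o := by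
  unfold mul; rw [if_pos rfl]

theorem mul_ne {a : α} (ha : a ≠ D.o) (x : α) : D.mul x a = D.m a • x := by
  unfold mul; rw [if_neg ha]

theorem t_mul (a b : α) : D.t (D.t a • b) = D.t a * D.t b := by
  symm
  apply D.t_uniq _ (D.N.mul_mem (D.tN a) (D.tN b))
  rw [mul_smul, D.t_smul b]

theorem t_o : D.t D.o = 1 := by
  symm
  exact D.t_uniq 1 D.N.one_mem _ (one_smul _ _)

theorem t_inv (a : α) : D.t ((D.t a)⁻¹ • D.o) = (D.t a)⁻¹ := by
  symm
  exact D.t_uniq _ (D.N.inv_mem (D.tN a)) _ rfl

theorem add_comm' (a b : α) : D.add a b = D.add b a := by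
  unfold add
  conv_lhs => rw [← D.t_smul b]
  conv_rhs => rw [← D.t_smul a]
  rw [← mul_smul, ← mul_smul, D.comm _ (D.tN a) _ (D.tN b)]

theorem m_ne {a : α} (ha : a ≠ D.o) (x : α) (hx : x ≠ D.o) : D.m a • x ≠ D.o := by
  intro h
  apply hx
  have h1 : D.m a • x = D.m a • D.o := by rw [h, D.m_fix a ha]
  exact MulAction.injective (D.m a) h1

theorem m_e : D.m D.e = 1 := by
  symm
  apply D.m_uniq 1 D.e (one_smul _ _) (one_smul _ _)

theorem m_mul {a b : α} (ha : a ≠ D.o) (hb : b ≠ D.o) : D.m (D.m b • a) = D.m b * D.m a := by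
  symm
  apply D.m_uniq
  · rw [mul_smul, D.m_fix a ha, D.m_fix b hb]
  · rw [mul_smul, D.m_smul a ha]

/-- conjugation of a translation by a multiplier -/
theorem m_conj_t {c : α} (hc : c ≠ D.o) (a : α) :
    D.m c * D.t a * (D.m c)⁻¹ = D.t (D.m c • a) := by
  apply D.t_uniq _ (D.normal _ (D.tN a) _)
  rw [mul_smul, mul_smul]
  have h1 : (D.m c)⁻¹ • D.o = D.o := by
    rw [inv_smul_eq_iff, D.m_fix c hc]
  rw [h1, D.t_smul a]

/-- the additive group -/
noncomputable def addGroup : AddGroup α :=
  letI : Add α := ⟨D.add⟩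
  letI : Zero α := ⟨D.o⟩
  letI : Neg α := ⟨D.neg⟩
  AddGroup.ofLeftAxioms
    (by
      intro a b c
      show D.t (D.t a • b) • c = D.t a • (D.t b • c)
      rw [t_mul, mul_smul])
    (by
      intro a
      show D.t D.o • a = a
      rw [t_o, one_smul])
    (by
      intro a
      show D.t ((D.t a)⁻¹ • D.o) • a = D.o
      rw [t_inv, inv_smul_eq_iff, D.t_smul a])

/-- the multiplicative monoid -/
noncomputable def monoid : Monoid α where
  mul := D.mul
  one := D.e
  mul_assoc := by
    intro x a b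
    show D.mul (D.mul x a) b = D.mul x (D.mul a b)
    by_cases hb : b = D.o
    · subst hb
      rw [mul_o, mul_o, mul_o]
    · by_cases ha : a = D.o
      · subst ha
        rw [mul_o, D.mul_ne hb, D.m_fix b hb, mul_o]
      · rw [D.mul_ne hb, D.mul_ne ha, D.mul_ne hb, D.mul_ne (D.m_ne hb a ha), D.m_mul ha hb,
          mul_smul]
  one_mul := by
    intro a
    show D.mul D.e a = a
    by_cases ha : a = D.o
    · subst ha
      rw [mul_o]
    · rw [D.mul_ne ha, D.m_smul a ha]
  mul_one := by
    intro a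
    show D.mul a D.e = a
    rw [D.mul_ne D.hoe.symm, m_e, one_smul]

/-- the near-field -/
noncomputable def nearField : Cfsg.NearField α :=
  { D.addGroup, D.monoid with
    right_distrib := by
      intro a b c
      show D.mul (D.t a • b) c = D.t (D.mul a c) • D.mul b c
      by_cases hc : c = D.o
      · subst hc
        rw [mul_o, mul_o, mul_o, t_o, one_smul]
      · rw [D.mul_ne hc, D.mul_ne hc, D.mul_ne hc, ← D.m_conj_t hc, mul_smul, mul_smul,
          inv_smul_smul]
    mul_zero := by
      intro a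
      exact D.mul_o a
    zero_ne_one := D.hoe
    exists_inv := by
      intro a ha
      have ha' : a ≠ D.o := ha
      have hb : (D.m a)⁻¹ • D.e ≠ D.o := by
        intro h
        apply D.hoe
        rw [inv_smul_eq_iff, D.m_fix a ha'] at h
        exact h.symm
      have hmb : D.m ((D.m a)⁻¹ • D.e) = (D.m a)⁻¹ := by
        symm
        apply D.m_uniq
        · rw [inv_smul_eq_iff, D.m_fix a ha']
        · rfl
      refine ⟨(D.m a)⁻¹ • D.e, ?_, ?_⟩
      · show D.mul a ((D.m a)⁻¹ • D.e) = D.e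
        rw [D.mul_ne hb, hmb, inv_smul_eq_iff, D.m_smul a ha']
      · show D.mul ((D.m a)⁻¹ • D.e) a = D.e
        rw [D.mul_ne ha', smul_inv_smul] }

theorem nf_zero : (letI := D.nearField; (0 : α)) = D.o := rfl

theorem nf_mul (x a : α) : (letI := D.nearField; x * a) = D.mul x a := rfl

theorem nf_add (a b : α) : (letI := D.nearField; a + b) = D.add a b := rfl

end NFData

end SharpTwo

end Cfsg.Agent.Lib.Helper2
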