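import Mathlib

set_option autoImplicit false

namespace Cfsg.Agent.Lib.Helper2

namespace SharpTwo

open MulAction

variable {Γ : Type*} [Group Γ] {α : Type*} [MulAction Γ α]

/-- an element fixing two distinct points is trivial -/
theorem eq_one_of_fix_two (hsharp : ∀ x : Fin 2 ↪ α, stabilizer Γ x = ⊥) (g : Γ) (a b : α)
    (hab : a ≠ b) (ha : g • a = a) (hb : g • b = b) : g = 1 := by
  have hinj : Function.Injective (![a, b] : Fin 2 → α) := by
    intro i j hij
    fin_cases i <;> fin_cases j <;> simp_all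
  set x : Fin 2 ↪ α := ⟨![a, b], hinj⟩ with hx
  have hgx : g ∈ stabilizer Γ x := by
    rw [mem_stabilizer_iff]
    ext i
    rw [Function.Embedding.smul_apply]
    fin_cases i
    · exact ha
    · exact hb
  rw [hsharp x, Subgroup.mem_bot] at hgx
  exact hgx

/-- the fixed-point-free elements -/
def fpf (Γ : Type*) [Group Γ] (α : Type*) [MulAction Γ α] : Set Γ := {g | ∀ a : α, g • a ≠ a}

theorem conj_mem_fpf {g : Γ} (hg : g ∈ fpf Γ α) (h : Γ) : h * g * h⁻¹ ∈ fpf Γ α := by
  intro a ha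
  apply hg (h⁻¹ • a)
  have h1 : g • h⁻¹ • a = h⁻¹ • ((h * g * h⁻¹) • a) := by
    simp only [← mul_smul]
    congr 1
    group
  rw [h1, ha]

theorem one_not_mem_fpf [Nonempty α] : (1 : Γ) ∉ fpf Γ α := by
  intro h
  obtain ⟨a⟩ := ‹Nonempty α›
  exact h a (one_smul _ a)

/-- the centralizer of a fixed-point-free element acts freely -/
theorem eq_one_of_mem_centralizer (hsharp : ∀ x : Fin 2 ↪ α, stabilizer Γ x = ⊥) {x : Γ}
    (hx : x ∈ fpf Γ α) {c : Γ} (hc : c ∈ Subgroup.centralizer {x}) {a : α} (ha : c • a = a) :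
    c = 1 := by
  apply eq_one_of_fix_two hsharp c a (x • a) (fun h => hx a h.symm) ha
  have h1 : x * c = c * x := Subgroup.mem_centralizer_iff.mp hc x rfl
  rw [← mul_smul, ← h1, mul_smul, ha]

end SharpTwo

end Cfsg.Agent.Lib.Helper2
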