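import Mathlib
import Cfsg.Agent.Lib.Helper2.SharpTwo1

set_option autoImplicit false

namespace Cfsg.Agent.Lib.Helper2

namespace SharpTwo

open MulAction

variable {Γ : Type*} [Group Γ] [Finite Γ] {α : Type*} [Fintype α] [MulAction Γ α]

/-- the order of a sharply doubly transitive group -/
theorem card_eq [IsMultiplyPretransitive Γ α 2]
    (hsharp : ∀ x : Fin 2 ↪ α, stabilizer Γ x = ⊥) (h2 : 2 ≤ Fintype.card α) :
    Nat.card Γ = Fintype.card α * (Fintype.card α - 1) := by
  classical
  obtain ⟨x₀⟩ : Nonempty (Fin 2 ↪ α) := Function.Embedding.nonempty_of_card_le (by simpa using h2)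
  have hbij : Function.Bijective (fun g : Γ => g • x₀) := by
    constructor
    · intro g h hgh
      have h1 : h⁻¹ * g ∈ stabilizer Γ x₀ := by
        rw [mem_stabilizer_iff, mul_smul]
        simp only at hgh
        rw [hgh, inv_smul_smul]
      rw [hsharp x₀, Subgroup.mem_bot] at h1
      exact (inv_mul_eq_one.mp h1).symm
    · intro y
      exact MulAction.exists_smul_eq Γ x₀ y
  rw [Nat.card_eq_of_bijective _ hbij, Nat.card_eq_fintype_card, Fintype.card_embedding_eq,
    Fintype.card_fin]
  rw [show (2 : ℕ) = 1 + 1 from rfl, Nat.descFactorial_succ, Nat.descFactorial_one, mul_comm]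

/-- the number of fixed-point-free elements -/
theorem ncard_fpf [IsMultiplyPretransitive Γ α 2]
    (hsharp : ∀ x : Fin 2 ↪ α, stabilizer Γ x = ⊥) (h2 : 2 ≤ Fintype.card α) :
    (fpf Γ α).ncard = Fintype.card α - 1 := by
  classical
  haveI : Fintype Γ := Fintype.ofFinite Γ
  haveI : IsPretransitive Γ α := isPretransitive_of_is_two_pretransitive
  haveI : Nonempty α := by
    rw [← Fintype.card_pos_iff]; omega
  set n := Fintype.card α with hn
  have hburn := sum_card_fixedBy_eq_card_orbits_mul_card_group Γ α
  have horb : Fintype.card (Quotient (orbitRel Γ α)) = 1 := by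
    rw [Fintype.card_eq_one_iff]
    obtain ⟨a₀⟩ := ‹Nonempty α›
    refine ⟨Quotient.mk'' a₀, ?_⟩
    intro q
    induction q using Quotient.inductionOn' with
    | h a =>
      apply Quotient.sound'
      exact MulAction.exists_smul_eq Γ a₀ a
  rw [horb, one_mul] at hburn
  have key : ∀ g : Γ, Fintype.card (fixedBy α g) =
      (if g = 1 then n else 0) + (if g ≠ 1 ∧ g ∉ fpf Γ α then 1 else 0) := by
    intro g
    by_cases hg1 : g = 1
    · subst hg1
      have : (fixedBy α (1 : Γ)) = Set.univ := by
        ext a; simp [mem_fixedBy]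
      simp only [this, if_true, ne_eq, not_true_eq_false, false_and, if_false, add_zero]
      rw [Fintype.card_congr (Equiv.Set.univ α)]
    · by_cases hgF : g ∈ fpf Γ α
      · have : IsEmpty (fixedBy α g) := by
          constructor
          rintro ⟨a, ha⟩
          exact hgF a ha
        simp [hg1, hgF]
      · have hne : ∃ a : α, g • a = a := by
          unfold fpf at hgF
          simp only [Set.mem_setOf_eq, not_forall, not_not] at hgF
          exact hgF
        obtain ⟨a, ha⟩ := hne
        have : Fintype.card (fixedBy α g) = 1 := by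
          rw [Fintype.card_eq_one_iff]
          refine ⟨⟨a, ha⟩, ?_⟩
          rintro ⟨b, hb⟩
          apply Subtype.ext
          by_contra hba
          exact hg1 (eq_one_of_fix_two hsharp g b a hba hb ha)
        simp [hg1, hgF, this]
  have hA : Fintype.card Γ = n + (Finset.univ.filter (fun g : Γ => g ≠ 1 ∧ g ∉ fpf Γ α)).card := by
    rw [← hburn]
    simp only [key]
    rw [Finset.sum_add_distrib, Finset.sum_boole, Finset.sum_ite_eq' Finset.univ (1 : Γ)]
    simp
  have hB : Fintype.card Γ = 1 + (Finset.univ.filter (fun g : Γ => g ∈ fpf Γ α)).card +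
      (Finset.univ.filter (fun g : Γ => g ≠ 1 ∧ g ∉ fpf Γ α)).card := by
    have h1 : ∀ g : Γ, (1 : ℕ) = (if g = 1 then 1 else 0) + (if g ∈ fpf Γ α then 1 else 0) +
        (if g ≠ 1 ∧ g ∉ fpf Γ α then 1 else 0) := by
      intro g
      by_cases hg1 : g = 1
      · subst hg1
        simp [one_not_mem_fpf]
      · by_cases hgF : g ∈ fpf Γ α <;> simp [hg1, hgF]
    have h2 : Fintype.card Γ = ∑ g : Γ, (1 : ℕ) := by simp
    rw [h2]
    conv_lhs => rw [Finset.sum_congr rfl (fun g _ => h1 g)]
    simp only [Finset.sum_add_distrib, Finset.sum_boole, Nat.cast_id]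
    have h3 : (Finset.univ.filter (fun g : Γ => g = 1)).card = 1 := by
      rw [Finset.filter_eq' Finset.univ (1 : Γ)]
      simp
    rw [h3]
  rw [Set.ncard_eq_toFinset_card' (fpf Γ α)]
  have h3 : (fpf Γ α).toFinset = Finset.univ.filter (fun g : Γ => g ∈ fpf Γ α) := by
    ext g; simp
  rw [h3]
  omega

end SharpTwo

end Cfsg.Agent.Lib.Helper2
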