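import Mathlib
import Cfsg.Agent.Lib.Helper2.SharpTwo2

set_option autoImplicit false

namespace Cfsg.Agent.Lib.Helper2

namespace SharpTwo

open MulAction

variable {Γ : Type*} [Group Γ] [Finite Γ] {α : Type*} [Fintype α] [MulAction Γ α]

/-- the centralizer of a fixed-point-free element is the set of all fixed-point-free elements
together with `1`, it has order `|α|`, and all fixed-point-free elements are conjugate -/
theorem centralizer_fpf [IsMultiplyPretransitive Γ α 2]
    (hsharp : ∀ x : Fin 2 ↪ α, stabilizer Γ x = ⊥) (h2 : 2 ≤ Fintype.card α) {x : Γ}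
    (hx : x ∈ fpf Γ α) :
    Nat.card (Subgroup.centralizer ({x} : Set Γ)) = Fintype.card α ∧
    (∀ g, g ∈ Subgroup.centralizer ({x} : Set Γ) ↔ g = 1 ∨ g ∈ fpf Γ α) ∧
    (∀ y ∈ fpf Γ α, ∃ g : Γ, g * x * g⁻¹ = y) := by
  classical
  haveI : Fintype Γ := Fintype.ofFinite Γ
  haveI : Nonempty α := by
    rw [← Fintype.card_pos_iff]; omega
  set n := Fintype.card α with hn
  set C := Subgroup.centralizer ({x} : Set Γ) with hC
  obtain ⟨a₀⟩ := ‹Nonempty α›
  have hC_le : Nat.card C ≤ n := by
    have hinj : Function.Injective (fun c : C => (c : Γ) • a₀) := by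
      intro c c' hcc
      simp only at hcc
      have h1 : ((c'⁻¹ * c : C) : Γ) • a₀ = a₀ := by
        rw [Subgroup.coe_mul, Subgroup.coe_inv, mul_smul, hcc, inv_smul_smul]
      have h3 := eq_one_of_mem_centralizer hsharp hx (c'⁻¹ * c).2 h1
      have h4 : c'⁻¹ * c = 1 := Subtype.ext h3
      exact (inv_mul_eq_one.mp h4).symm
    have := Nat.card_le_card_of_injective _ hinj
    rwa [Nat.card_eq_fintype_card (α := α)] at this
  set κ : Γ → Γ := fun g => g * x * g⁻¹ with hκ
  set img := Finset.univ.image κ with himg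
  set Ffin := Finset.univ.filter (fun g : Γ => g ∈ fpf Γ α) with hFfin
  have himgF : img ⊆ Ffin := by
    intro y hy
    rw [himg, Finset.mem_image] at hy
    obtain ⟨g, -, rfl⟩ := hy
    rw [hFfin, Finset.mem_filter]
    exact ⟨Finset.mem_univ _, conj_mem_fpf hx g⟩
  have hF : Ffin.card = n - 1 := by
    have h1 := ncard_fpf (Γ := Γ) hsharp h2
    rw [Set.ncard_eq_toFinset_card' (fpf Γ α)] at h1
    have h3 : (fpf Γ α).toFinset = Ffin := by
      ext g; simp [hFfin]
    rw [h3] at h1
    exact h1
  have hfib : ∀ b ∈ img, (Finset.univ.filter (fun g : Γ => κ g = b)).card ≤ Nat.card C := by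
    intro b hb
    rw [himg, Finset.mem_image] at hb
    obtain ⟨g₀, -, rfl⟩ := hb
    have h1 : (Finset.univ.filter (fun g : Γ => κ g = κ g₀)).card ≤ ((C : Set Γ).toFinset).card := by
      apply Finset.card_le_card_of_injOn (fun g => g₀⁻¹ * g)
      · intro g hg
        rw [Finset.mem_coe, Finset.mem_filter] at hg
        have hg' : g * x * g⁻¹ = g₀ * x * g₀⁻¹ := hg.2
        rw [Finset.mem_coe, Set.mem_toFinset, SetLike.mem_coe, hC, Subgroup.mem_centralizer_iff]
        intro h hh
        rw [Set.mem_singleton_iff] at hh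
        subst hh
        have e1 : g * h = g₀ * h * g₀⁻¹ * g := by rw [← hg']; group
        calc h * (g₀⁻¹ * g) = g₀⁻¹ * (g₀ * h * g₀⁻¹ * g) := by group
          _ = g₀⁻¹ * (g * h) := by rw [e1]
          _ = g₀⁻¹ * g * h := by group
      · intro g _ g' _ hgg
        exact mul_left_cancel hgg
    rwa [Set.toFinset_card, ← Nat.card_eq_fintype_card] at h1
  have hmain : Fintype.card Γ ≤ Nat.card C * img.card := by
    have := Finset.card_le_mul_card_image (f := κ) Finset.univ (Nat.card C) hfib
    simpa using this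
  have hΓ : Fintype.card Γ = n * (n - 1) := by
    rw [← Nat.card_eq_fintype_card]
    exact card_eq hsharp h2
  have himg_le : img.card ≤ n - 1 := hF ▸ Finset.card_le_card himgF
  obtain ⟨m, hm⟩ : ∃ m, n = m + 1 := ⟨n - 1, by omega⟩
  have hm1 : 1 ≤ m := by omega
  rw [hm] at hC_le himg_le hΓ
  simp only [Nat.add_sub_cancel] at himg_le hΓ
  rw [hΓ] at hmain
  have hCeq : Nat.card C = m + 1 := by
    by_contra hne
    have h1 : Nat.card C ≤ m := by omega
    have : Nat.card C * img.card ≤ m * m := Nat.mul_le_mul h1 himg_le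
    nlinarith
  have himgeq : img.card = m := by
    by_contra hne
    have h1 : img.card ≤ m - 1 := by omega
    have : Nat.card C * img.card ≤ (m + 1) * (m - 1) := Nat.mul_le_mul hC_le h1
    obtain ⟨k, hk⟩ : ∃ k, m = k + 1 := ⟨m - 1, by omega⟩
    rw [hk] at this hmain
    simp only [Nat.add_sub_cancel] at this
    nlinarith
  have himgF_eq : img = Ffin := by
    apply Finset.eq_of_subset_of_card_le himgF
    rw [hF, himgeq, hm]
    simp
  have hfree : ∀ g, g ∈ C → g = 1 ∨ g ∈ fpf Γ α := by
    intro g hg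
    by_cases hg1 : g = 1
    · exact Or.inl hg1
    · right
      intro a ha
      exact hg1 (eq_one_of_mem_centralizer hsharp hx hg ha)
  refine ⟨by rw [hCeq, hm], ?_, ?_⟩
  · intro g
    refine ⟨hfree g, ?_⟩
    rintro (rfl | hg)
    · exact C.one_mem
    · have hsub : ((C : Set Γ).toFinset).erase 1 ⊆ Ffin := by
        intro y hy
        rw [Finset.mem_erase, Set.mem_toFinset] at hy
        rw [hFfin, Finset.mem_filter]
        refine ⟨Finset.mem_univ _, ?_⟩
        rcases hfree y hy.2 with h | h
        · exact absurd h hy.1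
        · exact h
      have hcard : Ffin.card ≤ (((C : Set Γ).toFinset).erase 1).card := by
        rw [Finset.card_erase_of_mem (by rw [Set.mem_toFinset]; exact C.one_mem),
          Set.toFinset_card, ← Nat.card_eq_fintype_card]
        change Ffin.card ≤ Nat.card C - 1
        rw [hCeq, hF, hm]
      have heq := Finset.eq_of_subset_of_card_le hsub hcard
      have hgF : g ∈ Ffin := by
        rw [hFfin, Finset.mem_filter]; exact ⟨Finset.mem_univ _, hg⟩
      rw [← heq, Finset.mem_erase, Set.mem_toFinset] at hgF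
      exact hgF.2
  · intro y hy
    have hyF : y ∈ Ffin := by
      rw [hFfin, Finset.mem_filter]; exact ⟨Finset.mem_univ _, hy⟩
    rw [← himgF_eq, himg, Finset.mem_image] at hyF
    obtain ⟨g, -, hg⟩ := hyF
    exact ⟨g, hg⟩

end SharpTwo

end Cfsg.Agent.Lib.Helper2
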