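import Mathlib
import Cfsg.Agent.Lib.Helper2.SharpTwo3

set_option autoImplicit false

namespace Cfsg.Agent.Lib.Helper2

namespace SharpTwo

open MulAction

variable {Γ : Type*} [Group Γ] [Finite Γ] {α : Type*} [Fintype α] [MulAction Γ α]

/-- structure of a finite sharply doubly transitive group: the fixed-point-free elements together
with `1` form a regular normal elementary abelian subgroup -/
theorem exists_regular_normal [IsMultiplyPretransitive Γ α 2]
    (hsharp : ∀ x : Fin 2 ↪ α, stabilizer Γ x = ⊥) (h2 : 2 ≤ Fintype.card α) :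
    ∃ (p j : ℕ) (N : Subgroup Γ), p.Prime ∧ 1 ≤ j ∧ Fintype.card α = p ^ j ∧ N.Normal ∧
      Nat.card N = p ^ j ∧ (∀ y ∈ N, ∀ z ∈ N, y * z = z * y) ∧ (∀ y ∈ N, y ^ p = 1) ∧
      (∀ g, g ∈ N ↔ g = 1 ∨ g ∈ fpf Γ α) ∧ (∀ a b : α, ∃ g ∈ N, g • a = b) := by
  classical
  set n := Fintype.card α with hn
  have hFn : (fpf Γ α).ncard = n - 1 := ncard_fpf hsharp h2
  have hFne : (fpf Γ α).Nonempty := by
    apply Set.nonempty_of_ncard_ne_zero
    rw [hFn]; omega
  obtain ⟨x₀, hx₀⟩ := hFne
  obtain ⟨hNcard, hNmem, -⟩ := centralizer_fpf hsharp h2 hx₀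
  set N := Subgroup.centralizer ({x₀} : Set Γ) with hN
  have hp : (n.minFac).Prime := Nat.minFac_prime (by omega)
  set p := n.minFac with hpdef
  haveI : Fact p.Prime := ⟨hp⟩
  have hpn : p ∣ Nat.card N := by rw [hNcard]; exact Nat.minFac_dvd n
  obtain ⟨x₁, hx₁⟩ := exists_prime_orderOf_dvd_card' (G := N) p hpn
  have hx₁ne : (x₁ : Γ) ≠ 1 := by
    intro h
    have : x₁ = 1 := Subtype.ext h
    rw [this, orderOf_one] at hx₁
    exact hp.one_lt.ne hx₁
  have hx₁F : (x₁ : Γ) ∈ fpf Γ α := ((hNmem _).mp x₁.2).resolve_left hx₁ne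
  have hx₁p : (x₁ : Γ) ^ p = 1 := by
    have := pow_orderOf_eq_one x₁
    rw [hx₁] at this
    have h3 := congrArg Subtype.val this
    simpa using h3
  obtain ⟨-, -, hconj⟩ := centralizer_fpf hsharp h2 hx₁F
  have hexp : ∀ y ∈ N, y ^ p = 1 := by
    intro y hy
    rcases (hNmem y).mp hy with rfl | hyF
    · exact one_pow _
    · obtain ⟨g, rfl⟩ := hconj y hyF
      rw [conj_pow, hx₁p, mul_one, mul_inv_cancel]
  have hnormal : N.Normal := by
    constructor
    intro y hy g
    rw [hNmem]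
    rcases (hNmem y).mp hy with rfl | hyF
    · left; group
    · right; exact conj_mem_fpf hyF g
  have hcomm : ∀ y ∈ N, ∀ z ∈ N, y * z = z * y := by
    intro y hy z hz
    rcases (hNmem y).mp hy with rfl | hyF
    · rw [one_mul, mul_one]
    · obtain ⟨-, hmem', -⟩ := centralizer_fpf hsharp h2 hyF
      have hz' : z ∈ Subgroup.centralizer ({y} : Set Γ) := (hmem' z).mpr ((hNmem z).mp hz)
      exact Subgroup.mem_centralizer_iff.mp hz' y rfl
  have hNp : IsPGroup p N := by
    intro y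
    refine ⟨1, ?_⟩
    apply Subtype.ext
    rw [pow_one, Subgroup.coe_pow, Subgroup.coe_one]
    exact hexp y y.2
  obtain ⟨j, hj⟩ := hNp.exists_card_eq
  have hj1 : 1 ≤ j := by
    rcases Nat.eq_zero_or_pos j with h | h
    · rw [h, pow_zero, hNcard] at hj
      omega
    · exact h
  have htrans : ∀ a b : α, ∃ g ∈ N, g • a = b := by
    intro a b
    have hinj : Function.Injective (fun c : N => (c : Γ) • a) := by
      intro c c' hcc
      simp only at hcc
      have h1 : ((c'⁻¹ * c : N) : Γ) • a = a := by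
        rw [Subgroup.coe_mul, Subgroup.coe_inv, mul_smul, hcc, inv_smul_smul]
      have h3 := eq_one_of_mem_centralizer hsharp hx₀ (c'⁻¹ * c).2 h1
      have h4 : c'⁻¹ * c = 1 := Subtype.ext h3
      exact (inv_mul_eq_one.mp h4).symm
    have hbij : Function.Bijective (fun c : N => (c : Γ) • a) := by
      haveI : Fintype N := Fintype.ofFinite N
      rw [Fintype.bijective_iff_injective_and_card]
      refine ⟨hinj, ?_⟩
      rw [← Nat.card_eq_fintype_card, hNcard]
    obtain ⟨c, hc⟩ := hbij.2 b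
    exact ⟨c, c.2, hc⟩
  exact ⟨p, j, N, hp, hj1, hNcard.symm.trans hj, hnormal, hj, hcomm, hexp, hNmem, htrans⟩

end SharpTwo

end Cfsg.Agent.Lib.Helper2
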