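import Mathlib
import Cfsg.Agent.Lib.Helper2.SharpTwo4
import Cfsg.Agent.Lib.Helper2.NearFieldData

set_option autoImplicit false

namespace Cfsg.Agent.Lib.Helper2

namespace SharpTwo

open MulAction

variable {Γ : Type*} [Group Γ] [Finite Γ] {α : Type*} [Fintype α] [MulAction Γ α]

theorem exists_map_pair [IsMultiplyPretransitive Γ α 2] {a b c d : α} (hab : a ≠ b) (hcd : c ≠ d) :
    ∃ g : Γ, g • a = c ∧ g • b = d := by
  have hinj : ∀ u v : α, u ≠ v → Function.Injective (![u, v] : Fin 2 → α) := by
    intro u v huv i j hij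
    fin_cases i <;> fin_cases j <;> simp_all
  obtain ⟨g, hg⟩ := MulAction.exists_smul_eq Γ (⟨![a, b], hinj a b hab⟩ : Fin 2 ↪ α)
    ⟨![c, d], hinj c d hcd⟩
  refine ⟨g, ?_, ?_⟩
  · have := congrArg (fun f : Fin 2 ↪ α => f 0) hg
    simpa [Function.Embedding.smul_apply] using this
  · have := congrArg (fun f : Fin 2 ↪ α => f 1) hg
    simpa [Function.Embedding.smul_apply] using this

/-- the near-field data of a finite sharply doubly transitive group -/
theorem exists_nfData [IsMultiplyPretransitive Γ α 2]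
    (hsharp : ∀ x : Fin 2 ↪ α, stabilizer Γ x = ⊥) (h2 : 2 ≤ Fintype.card α) :
    ∃ D : NFData Γ α, ∀ g : Γ, ∃ a b : α, a ≠ D.o ∧ g = D.t b * D.m a := by
  classical
  obtain ⟨p, j, N, hp, hj1, hcard, hnormal, hNcard, hcomm, hexp, hNmem, htrans⟩ :=
    exists_regular_normal (Γ := Γ) (α := α) hsharp h2
  haveI : Nontrivial α := by
    rw [← Fintype.one_lt_card_iff_nontrivial]; omega
  obtain ⟨o, e, hoe⟩ := exists_pair_ne α
  have hNfree : ∀ n ∈ N, ∀ a : α, n • a = a → n = 1 := by
    intro n hn a ha
    rcases (hNmem n).mp hn with h | h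
    · exact h
    · exact absurd ha (h a)
  set t : α → Γ := fun a => (htrans o a).choose with ht
  have htN : ∀ a, t a ∈ N := fun a => (htrans o a).choose_spec.1
  have hto : ∀ a, t a • o = a := fun a => (htrans o a).choose_spec.2
  have ht_uniq : ∀ n ∈ N, ∀ a, n • o = a → n = t a := by
    intro n hn a hna
    have h1 : ((t a)⁻¹ * n) • o = o := by
      rw [mul_smul, hna, inv_smul_eq_iff, hto a]
    have h2 := hNfree _ (N.mul_mem (N.inv_mem (htN a)) hn) o h1
    exact (inv_mul_eq_one.mp h2).symm
  have hmex : ∀ a, a ≠ o → ∃ g : Γ, g • o = o ∧ g • e = a := by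
    intro a ha
    exact exists_map_pair hoe ha.symm
  set m : α → Γ := fun a => if h : a ≠ o then (hmex a h).choose else 1 with hm
  have hmo : ∀ a, a ≠ o → m a • o = o := by
    intro a ha
    simp only [hm, dif_pos ha]
    exact (hmex a ha).choose_spec.1
  have hme : ∀ a, a ≠ o → m a • e = a := by
    intro a ha
    simp only [hm, dif_pos ha]
    exact (hmex a ha).choose_spec.2
  have hm_uniq : ∀ g a, g • o = o → g • e = a → g = m a := by
    intro g a hgo hge
    have ha : a ≠ o := by
      intro h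
      apply hoe
      have : g • e = g • o := by rw [hge, hgo, h]
      exact (MulAction.injective g this).symm
    have h1 : ((m a)⁻¹ * g) • o = o := by
      rw [mul_smul, hgo, inv_smul_eq_iff, hmo a ha]
    have h2' : ((m a)⁻¹ * g) • e = e := by
      rw [mul_smul, hge, inv_smul_eq_iff, hme a ha]
    have h3 := eq_one_of_fix_two hsharp _ o e hoe h1 h2'
    exact (inv_mul_eq_one.mp h3).symm
  refine ⟨{ N := N, o := o, e := e, t := t, m := m, hoe := hoe, comm := hcomm,
            normal := fun n hn g => hnormal.conj_mem n hn g, tN := htN, t_smul := hto,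
            t_uniq := ht_uniq, m_fix := hmo, m_smul := hme, m_uniq := hm_uniq }, ?_⟩
  intro g
  have h1 : ((t (g • o))⁻¹ * g) • o = o := by
    rw [mul_smul, inv_smul_eq_iff, hto]
  have h2' := hm_uniq _ _ h1 rfl
  refine ⟨((t (g • o))⁻¹ * g) • e, g • o, ?_, ?_⟩
  · intro h
    apply hoe
    have : ((t (g • o))⁻¹ * g) • e = ((t (g • o))⁻¹ * g) • o := by rw [h, h1]
    exact (MulAction.injective _ this).symm
  · show g = t (g • o) * m (((t (g • o))⁻¹ * g) • e)
    rw [← h2', mul_inv_cancel_left]

end SharpTwo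

end Cfsg.Agent.Lib.Helper2
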