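import Mathlib
import Cfsg.Agent.Lib.Helper2.Sharp3a
import Cfsg.Agent.Lib.Helper2.SharpTwo5

set_option autoImplicit false
set_option linter.style.haveILetI false

/-!
# Sharply 3-transitive groups of odd degree: the field structure on the complement of a point
-/

namespace Cfsg.Agent.Lib.Helper2.Sharp3

open MulAction

variable {G : Type*} [Group G] [Finite G] {α : Type*} [Fintype α] [DecidableEq α] [MulAction G α]

/-- the near-field data of the point stabilizer -/
theorem exists_nfData_stabilizer (h3 : IsMultiplyPretransitive G α 3)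
    (hsharp : ∀ x : Fin 3 ↪ α, stabilizer G x = ⊥) (h3card : 3 ≤ Fintype.card α) (w : α) :
    ∃ D : SharpTwo.NFData (stabilizer G w) (SubMulAction.ofStabilizer G w),
      ∀ g : stabilizer G w, ∃ a b : SubMulAction.ofStabilizer G w, a ≠ D.o ∧ g = D.t b * D.m a := by
  classical
  haveI : IsPretransitive G α := by
    rw [← is_one_pretransitive_iff]
    exact isMultiplyPretransitive_of_le (n := 3) (by norm_num)
      (by rw [Nat.card_eq_fintype_card]; exact h3card)
  haveI h2 : IsMultiplyPretransitive (stabilizer G w) (SubMulAction.ofStabilizer G w) 2 :=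
    SubMulAction.ofStabilizer.isMultiplyPretransitive.mp h3
  letI : Fintype (SubMulAction.ofStabilizer G w) := Fintype.ofFinite _
  have hcard : 2 ≤ Fintype.card (SubMulAction.ofStabilizer G w) := by
    rw [← Nat.card_eq_fintype_card, SubMulAction.nat_card_ofStabilizer_eq,
      Nat.card_eq_fintype_card]
    omega
  have hsharp2 : ∀ x : Fin 2 ↪ SubMulAction.ofStabilizer G w,
      stabilizer (stabilizer G w) x = ⊥ := by
    intro x
    rw [eq_bot_iff]
    intro g hg
    rw [mem_stabilizer_iff] at hg
    rw [Subgroup.mem_bot]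
    apply Subtype.ext
    have h0 : g • x 0 = x 0 := by
      have := congrArg (fun f : Fin 2 ↪ SubMulAction.ofStabilizer G w => f 0) hg
      simpa [Function.Embedding.smul_apply] using this
    have h1 : g • x 1 = x 1 := by
      have := congrArg (fun f : Fin 2 ↪ SubMulAction.ofStabilizer G w => f 1) hg
      simpa [Function.Embedding.smul_apply] using this
    have h0' : (g : G) • ((x 0 : SubMulAction.ofStabilizer G w) : α) = (x 0 : α) :=
      congrArg Subtype.val h0
    have h1' : (g : G) • ((x 1 : SubMulAction.ofStabilizer G w) : α) = (x 1 : α) :=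
      congrArg Subtype.val h1
    have hne : ((x 0 : SubMulAction.ofStabilizer G w) : α) ≠ (x 1 : α) := by
      intro h
      have := x.injective (Subtype.ext h)
      exact absurd this (by decide)
    exact eq_one_of_fix_three hsharp (g : G)
      (Ne.symm (SubMulAction.neq_of_mem_ofStabilizer G w (x := x 0)))
      (Ne.symm (SubMulAction.neq_of_mem_ofStabilizer G w (x := x 1))) hne g.2 h0' h1'
  exact SharpTwo.exists_nfData hsharp2 hcard

/-- In a sharply 3-transitive group of odd degree, the complement of a point carries a field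
structure for which the point stabilizer consists of affine maps and some element `s`
acts as inversion. -/
theorem exists_field_structure (h3 : IsMultiplyPretransitive G α 3)
    (hsharp : ∀ x : Fin 3 ↪ α, stabilizer G x = ⊥) (hodd : Odd (Fintype.card α))
    (h3card : 3 ≤ Fintype.card α) (w : α) :
    ∃ (_ : Field (SubMulAction.ofStabilizer G w)) (s : G),
      (∀ g : stabilizer G w, ∃ a b : SubMulAction.ofStabilizer G w, a ≠ 0 ∧
        ∀ x : SubMulAction.ofStabilizer G w,
          (g : G) • (x : α) = ((a * x + b : SubMulAction.ofStabilizer G w) : α)) ∧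
      (∀ b : SubMulAction.ofStabilizer G w, ∃ g : stabilizer G w,
        (g : G) • (b : α) = ((0 : SubMulAction.ofStabilizer G w) : α)) ∧
      s • w = ((0 : SubMulAction.ofStabilizer G w) : α) ∧
      s • ((0 : SubMulAction.ofStabilizer G w) : α) = w ∧
      ∀ x : SubMulAction.ofStabilizer G w, x ≠ 0 →
        s • (x : α) = ((x⁻¹ : SubMulAction.ofStabilizer G w) : α) := by
  classical
  obtain ⟨D, hdec⟩ := exists_nfData_stabilizer h3 hsharp h3card w
  have hS : ∀ g : G, ∀ a b c : α, a ≠ b → a ≠ c → b ≠ c → g • a = a → g • b = b → g • c = c →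
      g = 1 := fun g a b c hab hac hbc ha hb hc => eq_one_of_fix_three hsharp g hab hac hbc ha hb hc
  have hwo : w ≠ (D.o : α) := Ne.symm (SubMulAction.neq_of_mem_ofStabilizer G w (x := D.o))
  have hwe : w ≠ (D.e : α) := Ne.symm (SubMulAction.neq_of_mem_ofStabilizer G w (x := D.e))
  have hoe : (D.o : α) ≠ (D.e : α) := fun h => D.hoe (Subtype.ext h)
  obtain ⟨s, hsw, hso, hse⟩ := exists_map_triple h3 hwo hwe hoe (Ne.symm hwo) hoe hwe
  have hse' : s • (D.e : α) = (D.e : α) := hse
  have hss : s * s = 1 := swap_sq hodd hS s hwo hsw hso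
  have hsinv : s⁻¹ = s := inv_eq_of_mul_eq_one_left hss
  -- coercion of the action
  have hcoe : ∀ (g : stabilizer G w) (x : SubMulAction.ofStabilizer G w),
      ((g • x : SubMulAction.ofStabilizer G w) : α) = (g : G) • (x : α) := fun g x => rfl
  have hmw : ∀ g : stabilizer G w, (g : G) • w = w := fun g => g.2
  -- the key relation
  have hkey : ∀ a, a ≠ D.o → (s * (D.m a : G)) * (s * (D.m a : G)) = 1 := by
    intro a ha
    apply swap_sq hodd hS _ hwo
    · rw [mul_smul, hmw, hsw]
    · rw [mul_smul, ← hcoe, D.m_fix a ha, hso]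
  have hconj : ∀ a, a ≠ D.o → s * (D.m a : G) * s = (D.m a : G)⁻¹ := by
    intro a ha
    have h := hkey a ha
    rw [eq_inv_iff_mul_eq_one, mul_assoc, mul_assoc]
    rw [mul_assoc] at h
    exact h
  have hmcomm : ∀ a b, a ≠ D.o → b ≠ D.o → D.m a * D.m b = D.m b * D.m a := by
    intro a b ha hb
    apply Subtype.ext
    rw [Subgroup.coe_mul, Subgroup.coe_mul]
    have hc : D.m b • a ≠ D.o := D.m_ne hb a ha
    have h1 := hconj _ hc
    rw [D.m_mul ha hb, Subgroup.coe_mul] at h1
    have h2 : s * ((D.m b : G) * (D.m a : G)) * s =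
        (s * (D.m b : G) * s) * (s * (D.m a : G) * s) := by
      calc s * ((D.m b : G) * (D.m a : G)) * s
          = s * (D.m b : G) * 1 * (D.m a : G) * s := by group
        _ = s * (D.m b : G) * (s * s) * (D.m a : G) * s := by rw [hss]
        _ = (s * (D.m b : G) * s) * (s * (D.m a : G) * s) := by group
    rw [h2, hconj a ha, hconj b hb, mul_inv_rev] at h1
    have h3' := congrArg (fun z => z⁻¹) h1
    simp only [mul_inv_rev, inv_inv] at h3'
    exact h3'
  have hmulcomm : ∀ x a : SubMulAction.ofStabilizer G w, D.mul x a = D.mul a x := by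
    intro x a
    by_cases ha : a = D.o
    · subst ha
      rw [D.mul_o]
      by_cases hx : x = D.o
      · subst hx
        rw [D.mul_o]
      · rw [D.mul_ne hx, D.m_fix x hx]
    · by_cases hx : x = D.o
      · subst hx
        rw [D.mul_o, D.mul_ne ha, D.m_fix a ha]
      · rw [D.mul_ne ha, D.mul_ne hx]
        conv_lhs => rw [← D.m_smul x hx]
        conv_rhs => rw [← D.m_smul a ha]
        rw [← mul_smul, ← mul_smul, hmcomm a x ha hx]
  -- the field
  letI nf : Cfsg.NearField (SubMulAction.ofStabilizer G w) := D.nearField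
  letI : Inv (SubMulAction.ofStabilizer G w) :=
    ⟨fun x => if x = D.o then D.o else (D.m x)⁻¹ • D.e⟩
  have hinv_ne : ∀ x : SubMulAction.ofStabilizer G w, x ≠ D.o → x⁻¹ = (D.m x)⁻¹ • D.e := by
    intro x hx
    show (if x = D.o then D.o else (D.m x)⁻¹ • D.e) = _
    rw [if_neg hx]
  have hmul_comm' : ∀ a b : SubMulAction.ofStabilizer G w, a * b = b * a := hmulcomm
  let F : Field (SubMulAction.ofStabilizer G w) :=
    Field.ofMinimalAxioms (SubMulAction.ofStabilizer G w)
      (fun a b c => add_assoc a b c) (fun a => zero_add a) (fun a => neg_add_cancel a)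
      (fun a b c => mul_assoc a b c) hmul_comm' (fun a => one_mul a)
      (by
        intro a ha
        have ha' : a ≠ D.o := ha
        rw [hinv_ne a ha']
        have hb : (D.m a)⁻¹ • D.e ≠ D.o := by
          intro h
          apply D.hoe
          rw [inv_smul_eq_iff, D.m_fix a ha'] at h
          exact h.symm
        have hmb : D.m ((D.m a)⁻¹ • D.e) = (D.m a)⁻¹ := by
          symm
          apply D.m_uniq
          · rw [inv_smul_eq_iff, D.m_fix a ha']
          · rfl
        show D.mul a ((D.m a)⁻¹ • D.e) = D.e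
        rw [D.mul_ne hb, hmb, inv_smul_eq_iff, D.m_smul a ha'])
      (by
        show (if D.o = D.o then D.o else (D.m D.o)⁻¹ • D.e) = D.o
        rw [if_pos rfl])
      (by
        intro a b c
        rw [hmul_comm' a (b + c), hmul_comm' a b, hmul_comm' a c]
        exact nf.right_distrib b c a)
      ⟨D.o, D.e, D.hoe⟩
  refine ⟨F, s, ?_, ?_, hsw, hso, ?_⟩
  · intro g
    obtain ⟨a, b, ha, hg⟩ := hdec g
    refine ⟨a, b, ha, fun x => ?_⟩
    show (g : G) • (x : α) = ((D.add (D.mul a x) b : SubMulAction.ofStabilizer G w) : α)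
    rw [← hcoe, hg, mul_smul, D.add_comm', hmulcomm a x, D.mul_ne ha]
    rfl
  · intro b
    refine ⟨(D.t b)⁻¹, ?_⟩
    rw [← hcoe]
    congr 1
    rw [inv_smul_eq_iff]
    show b = D.t b • D.o
    rw [D.t_smul]
  · intro x hx
    have hx' : x ≠ D.o := hx
    show s • (x : α) = (((if x = D.o then D.o else (D.m x)⁻¹ • D.e) :
      SubMulAction.ofStabilizer G w) : α)
    rw [if_neg hx', hcoe]
    have h1 : (x : α) = (D.m x : G) • (D.e : α) := by
      rw [← hcoe, D.m_smul x hx']
    have h2 : s * (D.m x : G) = ((D.m x : G))⁻¹ * s := by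
      have := hconj x hx'
      rw [← this, mul_assoc, mul_assoc, hss, mul_one]
    rw [h1, ← mul_smul, h2, mul_smul, hse']
    rfl

end Cfsg.Agent.Lib.Helper2.Sharp3
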