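import Mathlib
import Cfsg.Agent.Lib.Helper2.Sharp3a
import Cfsg.Agent.Lib.Helper1.PGL2

set_option autoImplicit false

/-!
# Identification of a sharply 3-transitive group with `PGL₂`
-/

namespace Cfsg.Agent.Lib.Helper2.Sharp3

open MulAction Matrix
open scoped LinearAlgebra.Projectivization MatrixGroups

section ident

variable {G : Type*} [Group G] {α : Type*} [MulAction G α] {K : Type*} [Field K]

/-- a sharply 3-transitive group all of whose elements act as projectivities is `PGL₂` -/
theorem pgl_iso (h3 : IsMultiplyPretransitive G α 3)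
    (hsharp : ∀ x : Fin 3 ↪ α, stabilizer G x = ⊥)
    (φ : α ≃ ℙ K (Fin 2 → K)) {p₀ p₁ p₂ : α} (h01 : p₀ ≠ p₁) (h02 : p₀ ≠ p₂) (h12 : p₁ ≠ p₂)
    (hP : ∀ g : G, ∃ M : GL (Fin 2) K, ∀ a : α,
      φ (g • a) = (ProjGenLinGroup.mk M : PGL(Fin 2, K)) • φ a) :
    Nonempty (G ≃* PGL(Fin 2, K)) := by
  let ρ : G →* Equiv.Perm α := MulAction.toPermHom G α
  let Ψ : PGL(Fin 2, K) →* Equiv.Perm α :=
    (φ.symm.permCongrHom).toMonoidHom.comp (MulAction.toPermHom (PGL(Fin 2, K)) (ℙ K (Fin 2 → K)))
  have hΨ : ∀ (A : PGL(Fin 2, K)) (a : α), Ψ A a = φ.symm (A • φ a) := by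
    intro A a
    rfl
  have hρ : ∀ (g : G) (a : α), ρ g a = g • a := fun g a => rfl
  have hρinj : Function.Injective ρ := by
    rw [injective_iff_map_eq_one]
    intro g hg
    apply Sharp3.eq_one_of_fix_three hsharp g h01 h02 h12
    · rw [← hρ, hg]; rfl
    · rw [← hρ, hg]; rfl
    · rw [← hρ, hg]; rfl
  have hΨinj : Function.Injective Ψ := by
    rw [injective_iff_map_eq_one]
    intro A hA
    have hfix : ∀ a : α, A • φ a = φ a := by
      intro a
      have := hΨ A a
      rw [hA] at this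
      have h' : φ.symm (A • φ a) = a := this.symm
      rw [Equiv.symm_apply_eq] at h'
      exact h'
    exact Cfsg.Agent.Lib.Helper1.pgl2_sharp A (φ p₀) (φ p₁) (φ p₂)
      (fun h => h01 (φ.injective h)) (fun h => h02 (φ.injective h))
      (fun h => h12 (φ.injective h)) (hfix p₀) (hfix p₁) (hfix p₂)
  have hsub : ∀ g : G, ∃ A : PGL(Fin 2, K), Ψ A = ρ g := by
    intro g
    obtain ⟨M, hM⟩ := hP g
    refine ⟨ProjGenLinGroup.mk M, ?_⟩
    ext a
    rw [hΨ, hρ, ← hM, Equiv.symm_apply_apply]
  have hrange : ρ.range = Ψ.range := by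
    apply le_antisymm
    · rintro _ ⟨g, rfl⟩
      obtain ⟨A, hA⟩ := hsub g
      exact ⟨A, hA⟩
    · rintro _ ⟨A, rfl⟩
      have hinj : Function.Injective (Ψ A) := (Ψ A).injective
      obtain ⟨g, hg0, hg1, hg2⟩ := Sharp3.exists_map_triple h3 h01 h02 h12
        (fun h => h01 (hinj h)) (fun h => h02 (hinj h)) (fun h => h12 (hinj h))
      obtain ⟨A', hA'⟩ := hsub g
      have hfix : ∀ a : α, g • a = Ψ A a → (A'⁻¹ * A) • φ a = φ a := by
        intro a ha
        have h1 : Ψ A' a = Ψ A a := by rw [hA', hρ, ha]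
        rw [hΨ, hΨ] at h1
        have h2 := φ.symm.injective h1
        rw [mul_smul, ← h2, inv_smul_smul]
      have hAA : A'⁻¹ * A = 1 :=
        Cfsg.Agent.Lib.Helper1.pgl2_sharp _ (φ p₀) (φ p₁) (φ p₂)
          (fun h => h01 (φ.injective h)) (fun h => h02 (φ.injective h))
          (fun h => h12 (φ.injective h)) (hfix p₀ hg0) (hfix p₁ hg1) (hfix p₂ hg2)
      rw [inv_mul_eq_one] at hAA
      refine ⟨g, ?_⟩
      rw [← hAA, hA']
  exact ⟨(MonoidHom.ofInjective hρinj).trans
    ((MulEquiv.subgroupCongr hrange).trans (MonoidHom.ofInjective hΨinj).symm)⟩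

end ident

section coord

variable {K : Type*} [Field K]

theorem vec_ne_zero_right (x : K) : (![x, 1] : Fin 2 → K) ≠ 0 := by
  intro h
  simpa using congrFun h 1

theorem vec_ne_zero_left : (![1, 0] : Fin 2 → K) ≠ 0 := by
  intro h
  simpa using congrFun h 0

/-- the affine points of the projective line -/
noncomputable def aff (x : K) : ℙ K (Fin 2 → K) := Projectivization.mk K ![x, 1] (vec_ne_zero_right x)

/-- the point at infinity -/
noncomputable def pinf : ℙ K (Fin 2 → K) := Projectivization.mk K ![1, 0] vec_ne_zero_left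

theorem aff_injective : Function.Injective (aff : K → ℙ K (Fin 2 → K)) := by
  intro x y h
  unfold aff at h
  rw [Projectivization.mk_eq_mk_iff'] at h
  obtain ⟨c, hc⟩ := h
  have h1 := congrFun hc 1
  have h0 := congrFun hc 0
  simp at h0 h1
  rw [h1, one_mul] at h0
  exact h0.symm

theorem aff_ne_pinf (x : K) : aff x ≠ (pinf : ℙ K (Fin 2 → K)) := by
  intro h
  unfold aff pinf at h
  rw [Projectivization.mk_eq_mk_iff'] at h
  obtain ⟨c, hc⟩ := h
  have h1 := congrFun hc 1
  simp at h1

theorem eq_pinf_or_aff (p : ℙ K (Fin 2 → K)) : p = pinf ∨ ∃ x : K, p = aff x := by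
  induction p using Projectivization.ind with | _ v hv =>
  by_cases h1 : v 1 = 0
  · left
    unfold pinf
    rw [Projectivization.mk_eq_mk_iff']
    refine ⟨v 0, ?_⟩
    ext i
    fin_cases i
    · simp
    · simp [h1]
  · right
    refine ⟨v 0 / v 1, ?_⟩
    unfold aff
    rw [Projectivization.mk_eq_mk_iff']
    refine ⟨v 1, ?_⟩
    ext i
    fin_cases i
    · simp only [Fin.zero_eta, Fin.isValue, Pi.smul_apply, cons_val_zero, smul_eq_mul]
      field_simp
    · simp

theorem smul_mk_eq (M : GL (Fin 2) K) {v v' : Fin 2 → K} (hv : v ≠ 0) (hv' : v' ≠ 0) (c : K)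
    (h : c • v' = (M : Matrix (Fin 2) (Fin 2) K) *ᵥ v) :
    (ProjGenLinGroup.mk M : PGL(Fin 2, K)) • Projectivization.mk K v hv =
      Projectivization.mk K v' hv' := by
  rw [Projectivization.PGL.mk_smul_mk, Projectivization.mk_eq_mk_iff']
  exact ⟨c, h⟩

/-- the equivalence `Option K ≃ ℙ¹(K)` -/
noncomputable def optEquivProj : Option K ≃ ℙ K (Fin 2 → K) :=
  Equiv.ofBijective (fun o => o.elim pinf aff) (by
    constructor
    · intro a b h
      cases a with
      | none =>
        cases b with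
        | none => rfl
        | some y => exact absurd h.symm (aff_ne_pinf y)
      | some x =>
        cases b with
        | none => exact absurd h (aff_ne_pinf x)
        | some y => exact congrArg some (aff_injective h)
    · intro p
      rcases eq_pinf_or_aff p with rfl | ⟨x, rfl⟩
      · exact ⟨none, rfl⟩
      · exact ⟨some x, rfl⟩)

variable {G : Type*} [Group G] {α : Type*} [MulAction G α]

/-- every element of a group generated by affine maps and the inversion acts as a projectivity -/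
theorem exists_projectivity (w : α) (ι : K → α) (hι : Function.Injective ι)
    (hιw : ∀ x, ι x ≠ w) (hcover : ∀ a, a = w ∨ ∃ x, a = ι x) (s : G)
    (hΓ : ∀ g : G, g • w = w → ∃ a b : K, a ≠ 0 ∧ ∀ x, g • ι x = ι (a * x + b))
    (htr : ∀ b : K, ∃ g : G, g • w = w ∧ g • ι b = ι 0)
    (hsw : s • w = ι 0) (hso : s • ι 0 = w) (hsx : ∀ x, x ≠ 0 → s • ι x = ι x⁻¹) :
    ∃ φ : α ≃ ℙ K (Fin 2 → K), ∀ g : G, ∃ M : GL (Fin 2) K, ∀ a : α,
      φ (g • a) = (ProjGenLinGroup.mk M : PGL(Fin 2, K)) • φ a := by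
  classical
  let e₁ : Option K ≃ α := Equiv.ofBijective (fun o => o.elim w ι) (by
    constructor
    · intro a b h
      cases a with
      | none =>
        cases b with
        | none => rfl
        | some y => exact absurd h.symm (hιw y)
      | some x =>
        cases b with
        | none => exact absurd h (hιw x)
        | some y => exact congrArg some (hι h)
    · intro a
      rcases hcover a with rfl | ⟨x, rfl⟩
      · exact ⟨none, rfl⟩
      · exact ⟨some x, rfl⟩)
  let φ : α ≃ ℙ K (Fin 2 → K) := e₁.symm.trans optEquivProj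
  have hφw : φ w = pinf := by
    have : e₁.symm w = none := by
      rw [Equiv.symm_apply_eq]
      rfl
    show optEquivProj (e₁.symm w) = pinf
    rw [this]
    rfl
  have hφι : ∀ x, φ (ι x) = aff x := by
    intro x
    have : e₁.symm (ι x) = some x := by
      rw [Equiv.symm_apply_eq]
      rfl
    show optEquivProj (e₁.symm (ι x)) = aff x
    rw [this]
    rfl
  refine ⟨φ, ?_⟩
  -- the property
  let P : G → Prop := fun g => ∃ M : GL (Fin 2) K, ∀ a : α,
      φ (g • a) = (ProjGenLinGroup.mk M : PGL(Fin 2, K)) • φ a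
  have hPmul : ∀ g h, P g → P h → P (g * h) := by
    rintro g h ⟨M, hM⟩ ⟨N, hN⟩
    refine ⟨M * N, fun a => ?_⟩
    rw [mul_smul, hM, hN, map_mul, mul_smul]
  have hPinv : ∀ g, P g → P g⁻¹ := by
    rintro g ⟨M, hM⟩
    refine ⟨M⁻¹, fun a => ?_⟩
    have := hM (g⁻¹ • a)
    rw [smul_inv_smul] at this
    rw [map_inv, this, inv_smul_smul]
  have hPΓ : ∀ g : G, g • w = w → P g := by
    intro g hg
    obtain ⟨a, b, ha, hab⟩ := hΓ g hg
    have hdet : (!![a, b; 0, 1] : Matrix (Fin 2) (Fin 2) K).det ≠ 0 := by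
      rw [Matrix.det_fin_two_of]
      simpa using ha
    refine ⟨GeneralLinearGroup.mkOfDetNeZero _ hdet, fun y => ?_⟩
    rcases hcover y with rfl | ⟨x, rfl⟩
    · rw [hg, hφw]
      unfold pinf
      symm
      apply smul_mk_eq _ _ _ a
      ext i
      fin_cases i <;> simp [GeneralLinearGroup.mkOfDetNeZero, Matrix.mulVec, dotProduct]
    · rw [hab, hφι, hφι]
      unfold aff
      symm
      apply smul_mk_eq _ _ _ 1
      ext i
      fin_cases i <;> simp [GeneralLinearGroup.mkOfDetNeZero, Matrix.mulVec, dotProduct]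
  have hPs : P s := by
    have hdet : (!![0, 1; 1, 0] : Matrix (Fin 2) (Fin 2) K).det ≠ 0 := by
      rw [Matrix.det_fin_two_of]
      simp
    refine ⟨GeneralLinearGroup.mkOfDetNeZero _ hdet, fun y => ?_⟩
    rcases hcover y with rfl | ⟨x, rfl⟩
    · rw [hsw, hφw, hφι]
      unfold pinf aff
      symm
      apply smul_mk_eq _ _ _ 1
      ext i
      fin_cases i <;> simp [GeneralLinearGroup.mkOfDetNeZero, Matrix.mulVec, dotProduct]
    · by_cases hx : x = 0
      · subst hx
        rw [hso, hφw, hφι]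
        unfold pinf aff
        symm
        apply smul_mk_eq _ _ _ 1
        ext i
        fin_cases i <;> simp [GeneralLinearGroup.mkOfDetNeZero, Matrix.mulVec, dotProduct]
      · rw [hsx x hx, hφι, hφι]
        unfold aff
        symm
        apply smul_mk_eq _ _ _ x
        ext i
        fin_cases i <;> simp [GeneralLinearGroup.mkOfDetNeZero, Matrix.mulVec, dotProduct, hx]
  intro g
  by_cases hg : g • w = w
  · exact hPΓ g hg
  · rcases hcover (g • w) with h | ⟨b, hb⟩
    · exact absurd h hg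
    · obtain ⟨h, hhw, hhb⟩ := htr b
      have hγ : (s * h * g) • w = w := by
        rw [mul_smul, mul_smul, hb, hhb, hso]
      have e : g = h⁻¹ * (s⁻¹ * (s * h * g)) := by group
      rw [e]
      exact hPmul _ _ (hPinv _ (hPΓ h hhw)) (hPmul _ _ (hPinv _ hPs) (hPΓ _ hγ))

end coord

end Cfsg.Agent.Lib.Helper2.Sharp3
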