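import Mathlib
import Cfsg.Agent.Lib.Helper2.Sharp3b
import Cfsg.Agent.Lib.Helper2.Sharp3c

set_option autoImplicit false
set_option linter.style.haveILetI false

/-!
# Sharply 3-transitive groups of degree `2 ^ f + 1` are `PGL₂(2 ^ f)`
-/

namespace Cfsg.Agent.Lib.Helper2.Sharp3

open MulAction Matrix
open scoped LinearAlgebra.Projectivization MatrixGroups

/-- a carrier type in `Type` without any algebraic instances -/
def Carrier (n : ℕ) : Type := Fin n

instance (n : ℕ) : Fintype (Carrier n) := inferInstanceAs (Fintype (Fin n))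

theorem card_carrier (n : ℕ) : Fintype.card (Carrier n) = n := Fintype.card_fin n

variable {G : Type*} [Group G] [Finite G] {α : Type*} [Fintype α] [DecidableEq α] [MulAction G α]

/-- A sharply 3-transitive group of odd degree `n + 1` is `PGL₂` over a field with `n` elements. -/
theorem sharp3_odd_degree (h3 : IsMultiplyPretransitive G α 3)
    (hsharp : ∀ x : Fin 3 ↪ α, stabilizer G x = ⊥) {n : ℕ} (hn : 2 ≤ n) (hodd : Odd (n + 1))
    (hα : Fintype.card α = n + 1) :
    ∃ (F : Type) (_ : Field F) (_ : Fintype F), Fintype.card F = n ∧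
      Nonempty (G ≃* PGL(Fin 2, F)) := by
  classical
  have h3card : 3 ≤ Fintype.card α := by omega
  have hodd' : Odd (Fintype.card α) := by rw [hα]; exact hodd
  have hpos : 0 < Fintype.card α := by omega
  obtain ⟨w⟩ := Fintype.card_pos_iff.mp hpos
  obtain ⟨instF, s, hΓ₀, htr₀, hsw₀, hso₀, hsx₀⟩ :=
    exists_field_structure h3 hsharp hodd' h3card w
  letI : Fintype (SubMulAction.ofStabilizer G w) := Fintype.ofFinite _
  have hcardX : Fintype.card (SubMulAction.ofStabilizer G w) = n := by
    rw [← Nat.card_eq_fintype_card, SubMulAction.nat_card_ofStabilizer_eq,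
      Nat.card_eq_fintype_card, hα]
    omega
  let ε : SubMulAction.ofStabilizer G w ≃ Carrier n :=
    (Fintype.equivFinOfCardEq hcardX)
  letI instK : Field (Carrier n) := ε.symm.field
  let r : Carrier n ≃+* SubMulAction.ofStabilizer G w := ε.symm.ringEquiv
  let ι : Carrier n → α := fun x => ((r x : SubMulAction.ofStabilizer G w) : α)
  have hι : Function.Injective ι := Subtype.val_injective.comp r.injective
  have hιw : ∀ x, ι x ≠ w := fun x => SubMulAction.neq_of_mem_ofStabilizer G w
  have hcover : ∀ a, a = w ∨ ∃ x, a = ι x := by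
    intro a
    by_cases ha : a = w
    · exact Or.inl ha
    · right
      refine ⟨r.symm ⟨a, (SubMulAction.mem_ofStabilizer_iff G w).mpr ha⟩, ?_⟩
      show a = ((r (r.symm _) : SubMulAction.ofStabilizer G w) : α)
      rw [RingEquiv.apply_symm_apply]
  have hΓ : ∀ g : G, g • w = w → ∃ a b : Carrier n, a ≠ 0 ∧ ∀ x, g • ι x = ι (a * x + b) := by
    intro g hg
    obtain ⟨a, b, ha, hab⟩ := hΓ₀ ⟨g, hg⟩
    refine ⟨r.symm a, r.symm b, ?_, fun x => ?_⟩
    · intro h
      apply ha
      have := congrArg r h
      rw [RingEquiv.apply_symm_apply, map_zero] at this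
      exact this
    · show g • ((r x : SubMulAction.ofStabilizer G w) : α) =
        ((r (r.symm a * x + r.symm b) : SubMulAction.ofStabilizer G w) : α)
      rw [map_add, map_mul, RingEquiv.apply_symm_apply, RingEquiv.apply_symm_apply]
      exact hab (r x)
  have htr : ∀ b : Carrier n, ∃ g : G, g • w = w ∧ g • ι b = ι 0 := by
    intro b
    obtain ⟨g, hg⟩ := htr₀ (r b)
    refine ⟨(g : G), g.2, ?_⟩
    show (g : G) • ((r b : SubMulAction.ofStabilizer G w) : α) =
      ((r 0 : SubMulAction.ofStabilizer G w) : α)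
    rw [map_zero]
    exact hg
  have hsw : s • w = ι 0 := by
    show s • w = ((r 0 : SubMulAction.ofStabilizer G w) : α)
    rw [map_zero]
    exact hsw₀
  have hso : s • ι 0 = w := by
    show s • ((r 0 : SubMulAction.ofStabilizer G w) : α) = w
    rw [map_zero]
    exact hso₀
  have hsx : ∀ x : Carrier n, x ≠ 0 → s • ι x = ι x⁻¹ := by
    intro x hx
    show s • ((r x : SubMulAction.ofStabilizer G w) : α) =
      ((r x⁻¹ : SubMulAction.ofStabilizer G w) : α)
    rw [map_inv₀]
    apply hsx₀
    intro h
    apply hx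
    have := congrArg r.symm h
    rw [RingEquiv.symm_apply_apply, map_zero] at this
    exact this
  obtain ⟨φ, hP⟩ := exists_projectivity w ι hι hιw hcover s hΓ htr hsw hso hsx
  have h01 : ι 0 ≠ ι 1 := fun h => zero_ne_one (hι h)
  refine ⟨Carrier n, instK, inferInstance, card_carrier n, ?_⟩
  exact pgl_iso h3 hsharp φ (Ne.symm (hιw 0)) (Ne.symm (hιw 1)) h01 hP

end Cfsg.Agent.Lib.Helper2.Sharp3
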