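import Mathlib

set_option autoImplicit false

namespace Cfsg.Agent.Lib.Helper2

namespace EquivComm

variable {G H : Type*} [Group G] [Group H]

theorem map_commutator_eq (e : G ≃* H) : (commutator G).map e.toMonoidHom = commutator H := by
  rw [commutator_def, commutator_def, Subgroup.map_commutator,
    Subgroup.map_top_of_surjective _ e.surjective]

/-- a group isomorphism induces an isomorphism of commutator subgroups -/
noncomputable def commutatorEquiv (e : G ≃* H) : ↥(commutator G) ≃* ↥(commutator H) :=
  (e.subgroupMap (commutator G)).trans (MulEquiv.subgroupCongr (map_commutator_eq e))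

theorem map_center_eq (e : G ≃* H) : (Subgroup.center G).map e.toMonoidHom = Subgroup.center H := by
  ext x
  rw [Subgroup.mem_map]
  constructor
  · rintro ⟨g, hg, rfl⟩
    rw [Subgroup.mem_center_iff] at hg ⊢
    intro y
    obtain ⟨y', rfl⟩ := e.surjective y
    show e y' * e g = e g * e y'
    rw [← map_mul, ← map_mul, hg y']
  · intro hx
    refine ⟨e.symm x, ?_, e.apply_symm_apply x⟩
    rw [Subgroup.mem_center_iff] at hx ⊢
    intro y
    apply e.injective
    rw [map_mul, map_mul, e.apply_symm_apply]
    exact hx (e y)

/-- a group isomorphism induces an isomorphism of central quotients -/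
noncomputable def centerQuotEquiv (e : G ≃* H) :
    G ⧸ Subgroup.center G ≃* H ⧸ Subgroup.center H :=
  QuotientGroup.congr (Subgroup.center G) (Subgroup.center H) e (map_center_eq e)

/-- the quotient by a trivial centre -/
noncomputable def quotCenterOfBot (h : Subgroup.center G = ⊥) : G ⧸ Subgroup.center G ≃* G :=
  (QuotientGroup.quotientMulEquivOfEq h).trans QuotientGroup.quotientBot

end EquivComm

end Cfsg.Agent.Lib.Helper2
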