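import Mathlib
import Cfsg.Agent.Lib.Helper2.EquivComm

set_option autoImplicit false

namespace Cfsg.Agent.Lib.Helper2

namespace PSLRingEquiv

open Matrix

variable {n : Type*} [Fintype n] [DecidableEq n] {R S : Type*} [CommRing R] [CommRing S]

/-- a ring isomorphism induces an isomorphism of special linear groups -/
def slEquiv (e : R ≃+* S) :
    Matrix.SpecialLinearGroup n R ≃* Matrix.SpecialLinearGroup n S where
  toFun := Matrix.SpecialLinearGroup.map e.toRingHom
  invFun := Matrix.SpecialLinearGroup.map e.symm.toRingHom
  left_inv g := by
    apply Subtype.ext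
    apply Matrix.ext
    intro i j
    show e.symm (e (g.1 i j)) = g.1 i j
    exact e.symm_apply_apply _
  right_inv g := by
    apply Subtype.ext
    apply Matrix.ext
    intro i j
    show e (e.symm (g.1 i j)) = g.1 i j
    exact e.apply_symm_apply _
  map_mul' g h := map_mul _ g h

/-- a ring isomorphism induces an isomorphism of projective special linear groups -/
theorem pslEquiv (e : R ≃+* S) :
    Nonempty (Matrix.ProjectiveSpecialLinearGroup n R ≃* Matrix.ProjectiveSpecialLinearGroup n S) :=
  ⟨EquivComm.centerQuotEquiv (slEquiv e)⟩

end PSLRingEquiv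

end Cfsg.Agent.Lib.Helper2
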