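import Mathlib
import Cfsg.Agent.Lib.Helper2.PSLRingEquiv

set_option autoImplicit false

/-!
# Transport of `PGL₂` and `PSL₂` to `ZMod p`
-/

namespace Cfsg.Agent.Lib.Helper2.S3T

open Matrix

/-- a ring isomorphism induces an isomorphism of general linear groups -/
noncomputable def glEquivOfRingEquiv {n : Type*} [Fintype n] [DecidableEq n] {R S : Type*}
    [CommRing R] [CommRing S] (f : R ≃+* S) : GL n R ≃* GL n S :=
  Units.mapEquiv (f.mapMatrix (m := n)).toMulEquiv

theorem pglEquiv {n : Type*} [Fintype n] [DecidableEq n] {R S : Type*}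
    [CommRing R] [CommRing S] (f : R ≃+* S) :
    Nonempty (Matrix.ProjGenLinGroup n R ≃* Matrix.ProjGenLinGroup n S) :=
  ⟨EquivComm.centerQuotEquiv (glEquivOfRingEquiv f)⟩

theorem pgl_zmod {K : Type*} [Field K] [Fintype K] {p : ℕ} (hp : p.Prime)
    (hK : Fintype.card K = p) :
    Nonempty (Matrix.ProjGenLinGroup (Fin 2) K ≃* Matrix.ProjGenLinGroup (Fin 2) (ZMod p)) :=
  pglEquiv (ZMod.ringEquivOfPrime K hp hK).symm

theorem psl_zmod {K : Type*} [Field K] [Fintype K] {p : ℕ} (hp : p.Prime)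
    (hK : Fintype.card K = p) :
    Nonempty (Matrix.ProjectiveSpecialLinearGroup (Fin 2) K
      ≃* Matrix.ProjectiveSpecialLinearGroup (Fin 2) (ZMod p)) :=
  PSLRingEquiv.pslEquiv (ZMod.ringEquivOfPrime K hp hK).symm

end Cfsg.Agent.Lib.Helper2.S3T
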