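import Mathlib
import Cfsg.Agent.Lib.Lead.Zass4

set_option autoImplicit false

namespace Cfsg.Agent.Lib.Helper2

namespace FZ

open MulAction Cfsg.Agent.Lib.Lead.Zass

variable {G Ω : Type*} [Group G] [Fintype G] [DecidableEq G] [MulAction G Ω] [Fintype Ω]
  [DecidableEq Ω]

/-- the number of fixed points. -/
def fixN (g : G) : ℕ := (Finset.univ.filter (fun x : Ω => g • x = x)).card

/-- the elements mapping `(x, y)` to `(c, d)`. -/
def mapSet (x y c d : Ω) : Finset G := Finset.univ.filter (fun g : G => g • x = c ∧ g • y = d)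

theorem mem_mapSet {x y c d : Ω} {g : G} : g ∈ mapSet x y c d ↔ g • x = c ∧ g • y = d := by
  simp [mapSet]

theorem card_mapSet (Z : ZData G Ω) {a b x y c d : Ω} (hab : a ≠ b) (hxy : x ≠ y) (hcd : c ≠ d) :
    (mapSet (G := G) x y c d).card = (mapSet (G := G) a b a b).card := by
  obtain ⟨g₁, h1a, h1b⟩ := Z.two hab hxy
  obtain ⟨g₂, h2a, h2b⟩ := Z.two hab hcd
  apply Finset.card_bij (fun g _ => g₂⁻¹ * g * g₁)
  · intro g hg
    rw [mem_mapSet] at hg ⊢
    constructor
    · rw [mul_smul, mul_smul, h1a, hg.1, ← h2a, inv_smul_smul]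
    · rw [mul_smul, mul_smul, h1b, hg.2, ← h2b, inv_smul_smul]
  · intro g _ g' _ h
    have := mul_right_cancel h
    exact mul_left_cancel this
  · intro g' hg'
    rw [mem_mapSet] at hg'
    refine ⟨g₂ * g' * g₁⁻¹, ?_, by group⟩
    rw [mem_mapSet]
    constructor
    · rw [mul_smul, mul_smul, ← h1a, inv_smul_smul, hg'.1, h2a]
    · rw [mul_smul, mul_smul, ← h1b, inv_smul_smul, hg'.2, h2b]

/-- the order of a two point stabilizer. -/
def eNum (G : Type*) [Group G] [Fintype G] [DecidableEq G] {Ω : Type*} [MulAction G Ω]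
    [DecidableEq Ω] (a b : Ω) : ℕ := (mapSet (G := G) a b a b).card

theorem eNum_eq_card (a b : Ω) :
    eNum G a b = Nat.card ↥(stabilizer G a ⊓ stabilizer G b : Subgroup G) := by
  unfold eNum
  exact (Nat.subtype_card (mapSet (G := G) a b a b) (fun g => by
    simp [mem_mapSet, Subgroup.mem_inf, mem_stabilizer_iff])).symm

theorem card_group (Z : ZData G Ω) {a b : Ω} (hab : a ≠ b) :
    Fintype.card G = Fintype.card Ω * (Fintype.card Ω - 1) * eNum G a b := by
  have h1 : (Finset.univ : Finset G) = (Finset.univ : Finset Ω).offDiag.biUnion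
      (fun p => mapSet (G := G) a b p.1 p.2) := by
    ext g
    simp only [Finset.mem_univ, Finset.mem_biUnion, Finset.mem_offDiag, true_and, mem_mapSet,
      true_iff]
    refine ⟨(g • a, g • b), ?_, rfl, rfl⟩
    intro h
    exact hab (smul_left_cancel g h)
  rw [← Finset.card_univ (α := G), h1, Finset.card_biUnion]
  · have h2 : ∀ p ∈ (Finset.univ : Finset Ω).offDiag,
        (mapSet (G := G) a b p.1 p.2).card = eNum G a b := by
      intro p hp
      rw [Finset.mem_offDiag] at hp
      exact card_mapSet Z hab hab hp.2.2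
    rw [Finset.sum_congr rfl h2, Finset.sum_const, Finset.offDiag_card, Finset.card_univ,
      smul_eq_mul]
    congr 1
    rw [Nat.mul_sub_one]
  · intro p _ q _ hpq
    rw [Function.onFun, Finset.disjoint_left]
    intro g hg hg'
    rw [mem_mapSet] at hg hg'
    apply hpq
    ext
    · rw [← hg.1, ← hg'.1]
    · rw [← hg.2, ← hg'.2]

end FZ

end Cfsg.Agent.Lib.Helper2
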