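import Mathlib
import Cfsg.Agent.Lib.Helper2.FZ1

set_option autoImplicit false

namespace Cfsg.Agent.Lib.Helper2

namespace FZ

open MulAction Cfsg.Agent.Lib.Lead.Zass

variable {G Ω : Type*} [Group G] [Fintype G] [DecidableEq G] [MulAction G Ω] [Fintype Ω]
  [DecidableEq Ω]

theorem card_fixers (Z : ZData G Ω) {a b : Ω} (hab : a ≠ b) (x : Ω) :
    (Finset.univ.filter (fun g : G => g • x = x)).card
      = (Fintype.card Ω - 1) * eNum G a b := by
  obtain ⟨y, hy⟩ : ∃ y : Ω, x ≠ y := by
    by_cases h : x = a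
    · exact ⟨b, by rw [h]; exact hab⟩
    · exact ⟨a, h⟩
  have h1 : Finset.univ.filter (fun g : G => g • x = x)
      = ((Finset.univ : Finset Ω).erase x).biUnion (fun d => mapSet (G := G) x y x d) := by
    ext g
    rw [Finset.mem_filter, Finset.mem_biUnion]
    constructor
    · rintro ⟨-, hg⟩
      refine ⟨g • y, Finset.mem_erase.mpr ⟨?_, Finset.mem_univ _⟩, mem_mapSet.mpr ⟨hg, rfl⟩⟩
      intro h
      apply hy
      rw [← hg] at h
      exact (smul_left_cancel g h).symm
    · rintro ⟨d, _, hg⟩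
      exact ⟨Finset.mem_univ _, (mem_mapSet.mp hg).1⟩
  rw [h1, Finset.card_biUnion]
  · have h2 : ∀ d ∈ (Finset.univ : Finset Ω).erase x,
        (mapSet (G := G) x y x d).card = eNum G a b := by
      intro d hd
      exact card_mapSet Z hab hy (Finset.ne_of_mem_erase hd).symm
    rw [Finset.sum_congr rfl h2, Finset.sum_const, Finset.card_erase_of_mem (Finset.mem_univ x),
      Finset.card_univ, smul_eq_mul]
  · intro p _ q _ hpq
    rw [Function.onFun, Finset.disjoint_left]
    intro g hg hg'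
    rw [mem_mapSet] at hg hg'
    apply hpq
    rw [← hg.2, ← hg'.2]

theorem sum_fixN (Z : ZData G Ω) {a b : Ω} (hab : a ≠ b) :
    ∑ g : G, fixN (Ω := Ω) g = Fintype.card Ω * ((Fintype.card Ω - 1) * eNum G a b) := by
  have h1 : ∀ g : G, fixN (Ω := Ω) g = ∑ x : Ω, if g • x = x then 1 else 0 := by
    intro g
    unfold fixN
    rw [Finset.card_filter]
  simp only [h1]
  rw [Finset.sum_comm]
  have h2 : ∀ x : Ω, ∑ g : G, (if g • x = x then 1 else 0)
      = (Fintype.card Ω - 1) * eNum G a b := by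
    intro x
    rw [← Finset.card_filter]
    exact card_fixers Z hab x
  simp only [h2]
  rw [Finset.sum_const, Finset.card_univ, smul_eq_mul]

theorem sum_fixN_pairs (Z : ZData G Ω) {a b : Ω} (hab : a ≠ b) :
    ∑ g : G, fixN (Ω := Ω) g * (fixN (Ω := Ω) g - 1)
      = Fintype.card Ω * (Fintype.card Ω - 1) * eNum G a b := by
  have h1 : ∀ g : G, fixN (Ω := Ω) g * (fixN (Ω := Ω) g - 1)
      = ∑ p ∈ (Finset.univ : Finset Ω).offDiag, if g • p.1 = p.1 ∧ g • p.2 = p.2 then 1 else 0 := by
    intro g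
    unfold fixN
    rw [Nat.mul_sub_one, ← Finset.offDiag_card, ← Finset.card_filter]
    congr 1
    ext p
    simp only [Finset.mem_offDiag, Finset.mem_filter, Finset.mem_univ, true_and]
    tauto
  simp only [h1]
  rw [Finset.sum_comm]
  have h2 : ∀ p ∈ (Finset.univ : Finset Ω).offDiag,
      ∑ g : G, (if g • p.1 = p.1 ∧ g • p.2 = p.2 then 1 else 0) = eNum G a b := by
    intro p hp
    rw [Finset.mem_offDiag] at hp
    rw [← Finset.card_filter]
    exact card_mapSet Z hab hp.2.2 hp.2.2
  rw [Finset.sum_congr rfl h2, Finset.sum_const, Finset.offDiag_card, Finset.card_univ,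
    smul_eq_mul, Nat.mul_sub_one]

end FZ

end Cfsg.Agent.Lib.Helper2
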