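import Mathlib
import Cfsg.Agent.Lib.Helper2.FZ2

set_option autoImplicit false

namespace Cfsg.Agent.Lib.Helper2

namespace FZ

open MulAction Cfsg.Agent.Lib.Lead.Zass

variable {G Ω : Type*} [Group G] [Fintype G] [DecidableEq G] [MulAction G Ω] [Fintype Ω]
  [DecidableEq Ω]

/-- non-identity elements with exactly `k` fixed points. -/
def Ak (G : Type*) [Group G] [Fintype G] [DecidableEq G] (Ω : Type*) [MulAction G Ω] [Fintype Ω]
    [DecidableEq Ω] (k : ℕ) : Finset G :=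
  Finset.univ.filter (fun g : G => g ≠ 1 ∧ fixN (Ω := Ω) g = k)

theorem mem_Ak {k : ℕ} {g : G} : g ∈ Ak G Ω k ↔ g ≠ 1 ∧ fixN (Ω := Ω) g = k := by
  simp [Ak]

theorem fixN_one : fixN (Ω := Ω) (1 : G) = Fintype.card Ω := by
  unfold fixN
  simp

theorem fixN_le_two (Z : ZData G Ω) {g : G} (hg : g ≠ 1) : fixN (Ω := Ω) g ≤ 2 :=
  fix_card_le_two Z hg

theorem sum_by_fix (Z : ZData G Ω) (F : ℕ → ℕ) :
    ∑ g : G, F (fixN (Ω := Ω) g)
      = F (Fintype.card Ω) + (F 0 * (Ak G Ω 0).card + F 1 * (Ak G Ω 1).card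
        + F 2 * (Ak G Ω 2).card) := by
  rw [← Finset.add_sum_erase Finset.univ _ (Finset.mem_univ (1 : G)), fixN_one]
  congr 1
  have hmaps : ∀ g ∈ (Finset.univ : Finset G).erase 1, fixN (Ω := Ω) g ∈ Finset.range 3 := by
    intro g hg
    rw [Finset.mem_range]
    have := fixN_le_two Z (Finset.ne_of_mem_erase hg)
    omega
  rw [← Finset.sum_fiberwise_of_maps_to hmaps]
  have h1 : ∀ k ∈ Finset.range 3,
      ∑ g ∈ ((Finset.univ : Finset G).erase 1).filter (fun g => fixN (Ω := Ω) g = k),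
        F (fixN (Ω := Ω) g) = F k * (Ak G Ω k).card := by
    intro k _
    have h2 : ((Finset.univ : Finset G).erase 1).filter (fun g => fixN (Ω := Ω) g = k)
        = Ak G Ω k := by
      ext g
      simp [Ak, Finset.mem_erase]
    rw [h2]
    rw [Finset.sum_congr rfl (fun g hg => by rw [(mem_Ak.mp hg).2]), Finset.sum_const,
      smul_eq_mul, mul_comm]
  rw [Finset.sum_congr rfl h1]
  simp [Finset.sum_range_succ]

theorem counts (Z : ZData G Ω) {a b : Ω} (hab : a ≠ b) :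
    (Fintype.card Ω + ((Ak G Ω 1).card + 2 * (Ak G Ω 2).card)
      = Fintype.card Ω * (Fintype.card Ω - 1) * eNum G a b) ∧
    (Fintype.card Ω * (Fintype.card Ω - 1) + 2 * (Ak G Ω 2).card
      = Fintype.card Ω * (Fintype.card Ω - 1) * eNum G a b) ∧
    (1 + ((Ak G Ω 0).card + (Ak G Ω 1).card + (Ak G Ω 2).card)
      = Fintype.card Ω * (Fintype.card Ω - 1) * eNum G a b) := by
  have h1 := sum_by_fix (G := G) (Ω := Ω) Z (fun k => k)
  have h2 := sum_by_fix (G := G) (Ω := Ω) Z (fun k => k * (k - 1))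
  have h3 := sum_by_fix (G := G) (Ω := Ω) Z (fun _ => 1)
  rw [sum_fixN Z hab] at h1
  rw [sum_fixN_pairs Z hab] at h2
  rw [Finset.sum_const, Finset.card_univ, smul_eq_mul, mul_one, card_group Z hab] at h3
  refine ⟨?_, ?_, ?_⟩
  · rw [← mul_assoc] at h1
    omega
  · omega
  · omega

end FZ

end Cfsg.Agent.Lib.Helper2
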