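import Mathlib
import Cfsg.Agent.Lib.Helper2.FZ3
import Cfsg.Agent.Lib.Helper1.ConjCount

set_option autoImplicit false

namespace Cfsg.Agent.Lib.Helper2

namespace FZ

open MulAction Cfsg.Agent.Lib.Lead.Zass Cfsg.Agent.Lib.Helper1

variable {G Ω : Type*} [Group G] [Fintype G] [DecidableEq G] [MulAction G Ω] [Fintype Ω]
  [DecidableEq Ω]

theorem fixN_eq_zero_iff {g : G} : fixN (Ω := Ω) g = 0 ↔ ∀ c : Ω, g • c ≠ c := by
  unfold fixN
  rw [Finset.card_eq_zero, Finset.filter_eq_empty_iff]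
  simp

theorem fixN_conj (g x : G) : fixN (Ω := Ω) (x * g * x⁻¹) = fixN (Ω := Ω) g := by
  unfold fixN
  apply Finset.card_bij (fun c _ => x⁻¹ • c)
  · intro c hc
    rw [Finset.mem_filter] at hc ⊢
    refine ⟨Finset.mem_univ _, ?_⟩
    have := hc.2
    rw [mul_smul, mul_smul] at this
    have h2 : x⁻¹ • (x • g • x⁻¹ • c) = x⁻¹ • c := by rw [this]
    rwa [inv_smul_smul] at h2
  · intro c _ d _ h
    exact smul_left_cancel _ h
  · intro d hd
    rw [Finset.mem_filter] at hd
    refine ⟨x • d, ?_, inv_smul_smul x d⟩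
    rw [Finset.mem_filter]
    refine ⟨Finset.mem_univ _, ?_⟩
    rw [mul_smul, mul_smul, inv_smul_smul, hd.2]

/-- `e ≥ 2` and `n ≥ 3` from the existence of a non-identity element fixing two points. -/
theorem basic_bounds (hZ : Cfsg.IsZassenhausGroup G Ω) {a b : Ω} (hab : a ≠ b) :
    2 ≤ eNum G a b ∧ 3 ≤ Fintype.card Ω := by
  have Z := zdata_of hZ
  obtain ⟨-, -, -, ⟨g, hg1, a', b', hab', hga, hgb⟩, -⟩ := hZ
  constructor
  · show 2 ≤ (mapSet (G := G) a b a b).card
    rw [← card_mapSet Z hab hab' hab']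
    have h1 : ({1, g} : Finset G) ⊆ mapSet (G := G) a' b' a' b' := by
      intro x hx
      rw [Finset.mem_insert, Finset.mem_singleton] at hx
      rw [mem_mapSet]
      rcases hx with rfl | rfl
      · simp
      · exact ⟨hga, hgb⟩
    have h2 := Finset.card_le_card h1
    rw [Finset.card_pair (Ne.symm hg1)] at h2
    exact h2
  · obtain ⟨c, hc⟩ : ∃ c : Ω, g • c ≠ c := by
      by_contra hcon
      push Not at hcon
      exact hg1 (Z.faith g hcon)
    have hca : c ≠ a' := by rintro rfl; exact hc hga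
    have hcb : c ≠ b' := by rintro rfl; exact hc hgb
    have h1 : ({a', b', c} : Finset Ω) ⊆ Finset.univ := Finset.subset_univ _
    have h2 := Finset.card_le_card h1
    rw [Finset.card_univ] at h2
    have h3 : ({a', b', c} : Finset Ω).card = 3 := by
      rw [Finset.card_insert_of_notMem, Finset.card_pair (Ne.symm hcb)]
      simp only [Finset.mem_insert, Finset.mem_singleton, not_or]
      exact ⟨hab', Ne.symm hca⟩
    omega

/-- the number of fixed-point-free elements. -/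
theorem card_fpf (Z : ZData G Ω) {a b : Ω} (hab : a ≠ b) (h : ℕ) (hh : Fintype.card Ω = h + 1)
    (he : 1 ≤ eNum G a b) :
    2 * (Ak G Ω 0).card = h * (h * (eNum G a b - 1) + eNum G a b + 1) ∧
    (Ak G Ω 1).card = (h + 1) * (h - 1) ∧
    2 * (Ak G Ω 2).card = (h + 1) * h * (eNum G a b - 1) := by
  obtain ⟨c1, c2, c3⟩ := counts (G := G) (Ω := Ω) Z hab
  rw [hh] at c1 c2 c3
  simp only [Nat.add_sub_cancel] at c1 c2 c3
  obtain ⟨e', he'⟩ : ∃ e', eNum G a b = e' + 1 := ⟨eNum G a b - 1, by omega⟩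
  rw [he'] at c1 c2 c3 ⊢
  simp only [Nat.add_sub_cancel]
  have h2 : 2 * (Ak G Ω 2).card = (h + 1) * h * e' := by
    have : (h + 1) * h * (e' + 1) = (h + 1) * h * e' + (h + 1) * h := by ring
    omega
  have h1 : (Ak G Ω 1).card = (h + 1) * (h - 1) := by
    have e1 : (h + 1) * h * (e' + 1) = (h + 1) * h * e' + (h + 1) * h := by ring
    rcases Nat.eq_zero_or_pos h with h0 | hpos
    · subst h0; simp at c1 c2 ⊢
    · obtain ⟨k, rfl⟩ : ∃ k, h = k + 1 := ⟨h - 1, by omega⟩
      simp only [Nat.add_sub_cancel]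
      have e2 : (k + 1 + 1) * (k + 1) = (k + 1 + 1) * k + (k + 1 + 1) := by ring
      omega
  refine ⟨?_, h1, h2⟩
  rcases Nat.eq_zero_or_pos h with h0 | hpos
  · subst h0; simp at c1 c2 c3 h1 h2 ⊢
  · obtain ⟨k, rfl⟩ : ∃ k, h = k + 1 := ⟨h - 1, by omega⟩
    simp only [Nat.add_sub_cancel] at h1
    have e1 : (k + 1 + 1) * (k + 1) * (e' + 1)
        = (k + 1 + 1) * (k + 1) * e' + (k + 1 + 1) * (k + 1) := by ring
    have e2 : (k + 1 + 1) * (k + 1) = (k + 1 + 1) * k + (k + 1 + 1) := by ring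
    have e3 : (k + 1) * ((k + 1) * e' + (e' + 1) + 1)
        = (k + 1 + 1) * (k + 1) * e' + 2 * (k + 1) := by ring
    have e4 : (k + 1 + 1) * k = k * k + 2 * k := by ring
    have e5 : (k + 1 + 1) * (k + 1) = k * k + 3 * k + 2 := by ring
    omega

end FZ

end Cfsg.Agent.Lib.Helper2
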