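import Mathlib
import Cfsg.Agent.Lib.Helper2.FZ4

set_option autoImplicit false

namespace Cfsg.Agent.Lib.Helper2

namespace FZ

open MulAction Cfsg.Agent.Lib.Lead.Zass Cfsg.Agent.Lib.Helper1

theorem arith_fpf (n e c p : ℕ) (hn : 3 ≤ n) (he : 3 ≤ e) (hc : 1 ≤ c) (hp : p = n * e)
    (h : c * (p - n + 2) = 2 * p) : False := by
  have hp3 : 3 * n ≤ p := by rw [hp]; nlinarith
  rcases (by omega : c = 1 ∨ c = 2 ∨ c = 3 ∨ 4 ≤ c) with rfl | rfl | rfl | h4
  · omega
  · omega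
  · omega
  · have : 4 * (p - n + 2) ≤ c * (p - n + 2) := Nat.mul_le_mul_right _ h4
    omega

variable {G Ω : Type*} [Group G] [Fintype G] [DecidableEq G] [MulAction G Ω] [Fintype Ω]
  [DecidableEq Ω]

theorem two_fpf_classes (hZ : Cfsg.IsZassenhausGroup G Ω) {a b : Ω} (hab : a ≠ b)
    (hodd : Odd (eNum G a b)) :
    ∃ x y : G, (∀ c : Ω, x • c ≠ c) ∧ (∀ c : Ω, y • c ≠ c) ∧ ¬ IsConj x y := by
  have Z := zdata_of hZ
  obtain ⟨he2, hn3⟩ := basic_bounds hZ hab
  have he3 : 3 ≤ eNum G a b := by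
    obtain ⟨k, hk⟩ := hodd
    omega
  obtain ⟨h, hh⟩ : ∃ h, Fintype.card Ω = h + 1 := ⟨Fintype.card Ω - 1, by omega⟩
  obtain ⟨c0, c1, c2⟩ := card_fpf Z hab h hh (by omega)
  have hh2 : 2 ≤ h := by omega
  have hpos : 0 < (Ak G Ω 0).card := by
    by_contra hcon
    have h0 : (Ak G Ω 0).card = 0 := by omega
    rw [h0, mul_zero] at c0
    have : 0 < h * (h * (eNum G a b - 1) + eNum G a b + 1) := by positivity
    omega
  obtain ⟨x₀, hx₀⟩ := Finset.card_pos.mp hpos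
  by_contra hcon
  push Not at hcon
  have hx₀' := mem_Ak.mp hx₀
  have hcl : (Ak G Ω 0).card = Nat.card {v : G // IsConj x₀ v} := by
    refine (Nat.subtype_card (Ak G Ω 0) (fun v => ?_)).symm
    constructor
    · intro hv
      have hv' := mem_Ak.mp hv
      exact hcon x₀ v (fixN_eq_zero_iff.mp hx₀'.2) (fixN_eq_zero_iff.mp hv'.2)
    · intro hv
      obtain ⟨g, hg⟩ := isConj_iff.mp hv
      rw [mem_Ak, ← hg, fixN_conj]
      refine ⟨?_, hx₀'.2⟩
      intro h1
      apply hx₀'.1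
      have : x₀ = g⁻¹ * (g * x₀ * g⁻¹) * g := by group
      rw [this, h1]; group
  have hcc := card_isConj_mul_card_centralizer x₀
  rw [← hcl, Nat.card_eq_fintype_card (α := G), card_group Z hab, hh] at hcc
  simp only [Nat.add_sub_cancel] at hcc
  set c := Nat.card (Subgroup.centralizer ({x₀} : Set G)) with hc
  have hc1 : 1 ≤ c := Nat.card_pos
  set e := eNum G a b with he
  -- 2 * A0 * c = 2 (h+1) h e
  have h3 : h * (h * (e - 1) + e + 1) * c = 2 * ((h + 1) * h * e) := by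
    rw [← c0, mul_assoc, hcc]
  have h4 : (h * (e - 1) + e + 1) * c = 2 * ((h + 1) * e) := by
    have h5 : h * ((h * (e - 1) + e + 1) * c) = h * (2 * ((h + 1) * e)) := by
      rw [← mul_assoc, h3]; ring
    exact Nat.eq_of_mul_eq_mul_left (by omega) h5
  apply arith_fpf (h + 1) e c ((h + 1) * e) (by omega) he3 hc1 rfl
  have h6 : (h + 1) * e - (h + 1) + 2 = h * (e - 1) + e + 1 := by
    obtain ⟨e', he'⟩ : ∃ e', e = e' + 1 := ⟨e - 1, by omega⟩
    rw [he']
    simp only [Nat.add_sub_cancel]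
    have : (h + 1) * (e' + 1) = h * e' + e' + (h + 1) := by ring
    omega
  rw [h6, mul_comm, h4]

end FZ

end Cfsg.Agent.Lib.Helper2
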