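import Mathlib
import Cfsg.Agent.Lib.Lead.Zass8
import Cfsg.Agent.Lib.Helper2.FZ5
import Cfsg.Agent.S0878

set_option autoImplicit false

/-! Feit's Zassenhaus groups: basic facts about the kernel `H` and the two-point stabilizer. -/

namespace Cfsg.Agent.Lib.Helper2

namespace FZ

open MulAction Cfsg.Agent.Lib.Lead.Zass

section
variable {G Ω : Type*} [Group G] [MulAction G Ω]

theorem stab_ne (a : Ω) {x : G} (hx : x • a = a) {c : Ω} (hc : c ≠ a) : x • c ≠ a := by
  intro h
  apply hc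
  rw [← hx] at h
  exact MulAction.injective x h

/-- `H` is transitive on the points other than `a`. -/
theorem H_trans [Finite G] [Fintype Ω] (a : Ω) (H : Subgroup G) (hHa : H ≤ stabilizer G a)
    (hHcard : Nat.card H + 1 = Fintype.card Ω)
    (hHfix : ∀ u ∈ H, u ≠ 1 → ∀ c : Ω, u • c = c → c = a) {c d : Ω} (hc : c ≠ a) (hd : d ≠ a) :
    ∃ u ∈ H, u • c = d := by
  classical
  have hcardΩ' : Nat.card {c : Ω // c ≠ a} + 1 = Fintype.card Ω := by
    rw [Nat.card_eq_fintype_card, Fintype.card_subtype_compl, Fintype.card_subtype_eq]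
    have : 0 < Fintype.card Ω := Fintype.card_pos_iff.mpr ⟨a⟩
    omega
  have hcard : Nat.card {c : Ω // c ≠ a} = Nat.card H := by omega
  have horb : Function.Bijective
      (fun u : H => (⟨(u : G) • c, stab_ne a (mem_stabilizer_iff.mp (hHa u.2)) hc⟩ :
        {c : Ω // c ≠ a})) := by
    apply Function.Injective.bijective_of_nat_card_le
    · intro u v huv
      have h1 : (u : G) • c = (v : G) • c := congrArg Subtype.val huv
      have h2' : ((v : G)⁻¹ * (u : G)) • c = c := by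
        rw [mul_smul, h1, inv_smul_smul]
      by_contra hne
      have h3' : (v : G)⁻¹ * (u : G) ≠ 1 := by
        intro h
        apply hne
        apply Subtype.ext
        have : (u : G) = (v : G) * ((v : G)⁻¹ * (u : G)) := by group
        rw [this, h, mul_one]
      exact hc (hHfix _ (H.mul_mem (H.inv_mem v.2) u.2) h3' _ h2')
    · exact hcard.le
  obtain ⟨u, hu⟩ := horb.2 ⟨d, hd⟩
  exact ⟨u, u.2, congrArg Subtype.val hu⟩

/-- the stabilizer of `a` is `H` times the two-point stabilizer. -/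
theorem N_eq_HE [Finite G] [Fintype Ω] {a b : Ω} (hab : a ≠ b) (H : Subgroup G)
    (hHa : H ≤ stabilizer G a) (hHcard : Nat.card H + 1 = Fintype.card Ω)
    (hHfix : ∀ u ∈ H, u ≠ 1 → ∀ c : Ω, u • c = c → c = a) {g : G} (hg : g • a = a) :
    ∃ u ∈ H, ∃ k : G, k • a = a ∧ k • b = b ∧ g = u * k := by
  obtain ⟨u, hu, hub⟩ := H_trans a H hHa hHcard hHfix (Ne.symm hab) (stab_ne a hg (Ne.symm hab))
  have hua : u • a = a := mem_stabilizer_iff.mp (hHa hu)
  refine ⟨u, hu, u⁻¹ * g, ?_, ?_, by group⟩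
  · rw [mul_smul, hg, inv_smul_eq_iff, hua]
  · rw [mul_smul, ← hub, inv_smul_smul]

/-- `H` is normal in the stabilizer of `a`. -/
theorem H_conj_mem [Finite G] [Fintype Ω] (hZ : Cfsg.IsZassenhausGroup G Ω) (a : Ω)
    (H : Subgroup G) (hHa : H ≤ stabilizer G a) (hHcard : Nat.card H + 1 = Fintype.card Ω)
    (hHfix : ∀ u ∈ H, u ≠ 1 → ∀ c : Ω, u • c = c → c = a) {t : G} (ht : t • a = a) {u : G}
    (hu : u ∈ H) : t * u * t⁻¹ ∈ H := by
  have h1 := (Cfsg.Agent.S0878.result hZ a H hHa hHcard hHfix).2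
  have h2 : t ∈ Subgroup.normalizer (H : Set G) := by
    rw [h1]
    exact mem_stabilizer_iff.mpr ht
  exact (Subgroup.mem_normalizer_iff.mp h2 u).mp hu

theorem H_conj_mem' [Finite G] [Fintype Ω] (hZ : Cfsg.IsZassenhausGroup G Ω) (a : Ω)
    (H : Subgroup G) (hHa : H ≤ stabilizer G a) (hHcard : Nat.card H + 1 = Fintype.card Ω)
    (hHfix : ∀ u ∈ H, u ≠ 1 → ∀ c : Ω, u • c = c → c = a) {t : G} (ht : t • a = a) {u : G}
    (hu : u ∈ H) : t⁻¹ * u * t ∈ H := by
  have h1 : t⁻¹ • a = a := by rw [inv_smul_eq_iff, ht]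
  have := H_conj_mem hZ a H hHa hHcard hHfix h1 hu
  rwa [inv_inv] at this

/-- `H` is a TI-subgroup: a conjugate by an element not fixing `a` meets `H` trivially. -/
theorem H_ti [Finite G] [Fintype Ω] (hZ : Cfsg.IsZassenhausGroup G Ω) (a : Ω)
    (H : Subgroup G) (hHa : H ≤ stabilizer G a) (hHcard : Nat.card H + 1 = Fintype.card Ω)
    (hHfix : ∀ u ∈ H, u ≠ 1 → ∀ c : Ω, u • c = c → c = a) {g : G} (hg : g • a ≠ a) {u : G}
    (hu : u ∈ H) (hgu : g * u * g⁻¹ ∈ H) : u = 1 :=
  (Cfsg.Agent.S0878.result hZ a H hHa hHcard hHfix).1 g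
    (fun h => hg (mem_stabilizer_iff.mp h)) u hu hgu

/-- the order of a Zassenhaus group is even. -/
theorem even_card [Finite G] [Fintype Ω] (hZ : Cfsg.IsZassenhausGroup G Ω) {a b : Ω}
    (hab : a ≠ b) : Even (Nat.card G) := by
  classical
  haveI : Fintype G := Fintype.ofFinite G
  have Z := zdata_of hZ
  rw [Nat.card_eq_fintype_card, card_group Z hab]
  apply Even.mul_right
  exact Nat.even_mul_pred_self _

/-- in a simple Zassenhaus group with two-point stabilizer of odd order there are no normal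
`q`-complements. -/
theorem simple_hnil [Finite G] [Fintype Ω] (hZ : Cfsg.IsZassenhausGroup G Ω) {a b : Ω}
    (hab : a ≠ b) [IsSimpleGroup G]
    (hodd : Odd (Nat.card ↥(stabilizer G a ⊓ stabilizer G b : Subgroup G))) :
    ∀ q : ℕ, q.Prime → q ∣ Nat.card ↥(stabilizer G a ⊓ stabilizer G b : Subgroup G) →
      ¬ ∃ N : Subgroup G, N.Normal ∧ N.index = q ^ (Nat.card G).factorization q := by
  intro q hq hqe
  rintro ⟨N, hN, hidx⟩
  have hqG : q ∣ Nat.card G :=
    hqe.trans (Subgroup.card_subgroup_dvd_card _)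
  have hpos : 0 < (Nat.card G).factorization q :=
    hq.factorization_pos_of_dvd Nat.card_pos.ne' hqG
  rcases hN.eq_bot_or_eq_top with h | h
  · rw [h, Subgroup.index_bot] at hidx
    have h2 : 2 ∣ q ^ (Nat.card G).factorization q := by
      rw [← hidx]
      exact (even_card hZ hab).two_dvd
    have h3 : 2 ∣ q := Nat.Prime.dvd_of_dvd_pow Nat.prime_two h2
    have h4 : 2 ∣ Nat.card ↥(stabilizer G a ⊓ stabilizer G b : Subgroup G) := h3.trans hqe
    exact (Nat.not_even_iff_odd.mpr hodd) (even_iff_two_dvd.mpr h4)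
  · rw [h, Subgroup.index_top] at hidx
    have : 1 < q ^ (Nat.card G).factorization q := Nat.one_lt_pow hpos.ne' hq.one_lt
    omega

/-- the structure of the two-point stabilizer in the simple odd case. -/
theorem E_facts [Finite G] [Fintype Ω] (hZ : Cfsg.IsZassenhausGroup G Ω) {a b : Ω}
    (hab : a ≠ b) [IsSimpleGroup G]
    (hodd : Odd (Nat.card ↥(stabilizer G a ⊓ stabilizer G b : Subgroup G))) :
    IsCyclic ↥(stabilizer G a ⊓ stabilizer G b) ∧
    Subgroup.centralizer ((stabilizer G a ⊓ stabilizer G b : Subgroup G) : Set G) =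
      stabilizer G a ⊓ stabilizer G b ∧
    ∀ s : G, s • a = b → s • b = a → ∀ h ∈ stabilizer G a ⊓ stabilizer G b,
      s * h * s⁻¹ = h⁻¹ :=
  odd_main hZ hab hodd (simple_hnil hZ hab hodd)

end

end FZ

end Cfsg.Agent.Lib.Helper2
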