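import Mathlib
import Cfsg.Agent.Lib.Helper2.FZ6

set_option autoImplicit false
set_option linter.style.haveILetI false
set_option linter.unusedSectionVars false

/-!
# Transitive groups of degree `p + 1` and order `(p + 1) p d` with `d < p`: basic structure
-/

namespace Cfsg.Agent.Lib.Helper2.S3T

open MulAction

/-- a faithful transitive group of degree `p + 1` with a normal subgroup `F` of order `p` in the
stabilizer of `a` -/
structure PD (G Ω : Type*) [Group G] [MulAction G Ω] [Fintype Ω] (a : Ω) (F : Subgroup G)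
    (p : ℕ) : Prop where
  faith : ∀ g : G, (∀ x : Ω, g • x = x) → g = 1
  hp : p.Prime
  hcard : Fintype.card Ω = p + 1
  trans : ∀ x y : Ω, ∃ g : G, g • x = y
  hFa : F ≤ stabilizer G a
  hFcard : Nat.card F = p
  hFnorm : ∀ g : G, g • a = a → ∀ u ∈ F, g * u * g⁻¹ ∈ F

variable {G Ω : Type*} [Group G] [MulAction G Ω] [Fintype Ω] {a : Ω} {F : Subgroup G} {p : ℕ}

namespace PD

theorem mem_a (P : PD G Ω a F p) {u : G} (hu : u ∈ F) : u • a = a :=
  mem_stabilizer_iff.mp (P.hFa hu)

/-- a non-identity element of `F` fixes only `a` -/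
theorem hFfix [Finite G] (P : PD G Ω a F p) : ∀ u ∈ F, u ≠ 1 → ∀ c : Ω, u • c = c → c = a := by
  classical
  intro u hu hu1 c hc
  by_contra hca
  haveI : Fact p.Prime := ⟨P.hp⟩
  have hup : u ^ p = 1 := by
    have h1 := Subgroup.orderOf_dvd_natCard F hu
    rw [P.hFcard] at h1
    exact orderOf_dvd_iff_pow_eq_one.mp h1
  let f : Function.End Ω := fun x => u • x
  have hfk : ∀ k : ℕ, ∀ x, (f ^ k) x = u ^ k • x := by
    intro k
    induction k with
    | zero => intro x; rw [pow_zero, pow_zero, one_smul]; rfl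
    | succ k ih =>
      intro x
      rw [pow_succ, pow_succ, mul_smul]
      show (f ^ k) (f x) = _
      rw [ih]
  have hf : f ^ p ^ 1 = 1 := by
    rw [pow_one]
    funext x
    rw [hfk, hup, one_smul]
    rfl
  have hmod := Equiv.Perm.card_fixedPoints_modEq (p := p) (n := 1) hf
  have haF : a ∈ Function.fixedPoints f := P.mem_a hu
  have hcF : c ∈ Function.fixedPoints f := hc
  have h2 : 2 ≤ Fintype.card (Function.fixedPoints f) := by
    rw [← Set.toFinset_card]
    have hsub : ({a, c} : Finset Ω) ⊆ (Function.fixedPoints f).toFinset := by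
      intro x hx
      rw [Finset.mem_insert, Finset.mem_singleton] at hx
      rw [Set.mem_toFinset]
      rcases hx with rfl | rfl
      · exact haF
      · exact hcF
    have := Finset.card_le_card hsub
    rw [Finset.card_pair (Ne.symm hca)] at this
    exact this
  have hle : Fintype.card (Function.fixedPoints f) ≤ p + 1 := by
    rw [← P.hcard]
    exact Fintype.card_subtype_le _
  have hp2 := P.hp.two_le
  have hall : Fintype.card (Function.fixedPoints f) = p + 1 := by
    rw [P.hcard] at hmod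
    have h3 : Fintype.card (Function.fixedPoints f) % p = 1 := by
      have := hmod.symm
      unfold Nat.ModEq at this
      rw [this, Nat.add_mod_left, Nat.mod_eq_of_lt (by omega)]
    have h4 := Nat.div_add_mod (Fintype.card (Function.fixedPoints f)) p
    rw [h3] at h4
    generalize Fintype.card (Function.fixedPoints f) / p = m at h4
    rcases m with _ | _ | m
    · omega
    · omega
    · exfalso
      have : p * (m + 1 + 1) = p * m + p + p := by ring
      omega
  apply hu1
  apply P.faith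
  intro x
  by_contra hx
  have hlt : Fintype.card (Function.fixedPoints f) < Fintype.card Ω :=
    Fintype.card_subtype_lt (x := x) hx
  rw [hall, P.hcard] at hlt
  exact lt_irrefl _ hlt

theorem hFcard' (P : PD G Ω a F p) : Nat.card F + 1 = Fintype.card Ω := by
  rw [P.hFcard, P.hcard]

theorem F_trans [Finite G] (P : PD G Ω a F p) {c d : Ω} (hc : c ≠ a) (hd : d ≠ a) :
    ∃ u ∈ F, u • c = d :=
  Cfsg.Agent.Lib.Helper2.FZ.H_trans a F P.hFa P.hFcard' P.hFfix hc hd

theorem F_eq_of_smul [Finite G] (P : PD G Ω a F p) {u v : G} (hu : u ∈ F) (hv : v ∈ F) {c : Ω}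
    (hc : c ≠ a) (h : u • c = v • c) : u = v := by
  by_contra hne
  have h1 : (v⁻¹ * u) • c = c := by rw [mul_smul, h, inv_smul_smul]
  have h2 : v⁻¹ * u ≠ 1 := by
    intro h3
    apply hne
    have : u = v * (v⁻¹ * u) := by group
    rw [this, h3, mul_one]
  exact hc (P.hFfix _ (F.mul_mem (F.inv_mem hv) hu) h2 c h1)

theorem F_comm (P : PD G Ω a F p) : ∀ u ∈ F, ∀ v ∈ F, u * v = v * u := by
  haveI : Fact p.Prime := ⟨P.hp⟩
  haveI : IsCyclic F := isCyclic_of_prime_card P.hFcard
  intro u hu v hv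
  have := IsCyclic.commGroup.mul_comm (⟨u, hu⟩ : F) ⟨v, hv⟩
  exact congrArg Subtype.val this

/-- a generator: every element of `F` is a power of a non-identity element -/
theorem F_pow (P : PD G Ω a F p) {u : G} (hu : u ∈ F) (hu1 : u ≠ 1) {v : G} (hv : v ∈ F) :
    ∃ k : ℕ, v = u ^ k := by
  haveI : Fact p.Prime := ⟨P.hp⟩
  have h1 : (⟨u, hu⟩ : F) ≠ 1 := fun h => hu1 (congrArg Subtype.val h)
  have h2 : (⟨v, hv⟩ : F) ∈ Subgroup.zpowers (⟨u, hu⟩ : F) := by
    rw [zpowers_eq_top_of_prime_card P.hFcard h1]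
    trivial
  haveI : Finite F := Nat.finite_of_card_ne_zero (by rw [P.hFcard]; exact P.hp.ne_zero)
  rw [← mem_powers_iff_mem_zpowers] at h2
  obtain ⟨k, hk⟩ := h2
  refine ⟨k, ?_⟩
  have := congrArg Subtype.val hk
  simpa using this.symm

theorem two_trans [Finite G] (P : PD G Ω a F p) {x y x' y' : Ω} (hxy : x ≠ y) (hxy' : x' ≠ y') :
    ∃ g : G, g • x = x' ∧ g • y = y' := by
  obtain ⟨g₁, hg₁⟩ := P.trans x a
  obtain ⟨g₂, hg₂⟩ := P.trans x' a
  have h1 : g₁ • y ≠ a := by
    rw [← hg₁]
    exact fun h => hxy (MulAction.injective g₁ h).symm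
  have h2 : g₂ • y' ≠ a := by
    rw [← hg₂]
    exact fun h => hxy' (MulAction.injective g₂ h).symm
  obtain ⟨u, hu, hu'⟩ := P.F_trans h1 h2
  refine ⟨g₂⁻¹ * u * g₁, ?_, ?_⟩
  · rw [mul_smul, mul_smul, hg₁, P.mem_a hu, inv_smul_eq_iff, hg₂]
  · rw [mul_smul, mul_smul, hu', inv_smul_smul]

/-- no non-identity element fixes three points -/
theorem three [Finite G] (P : PD G Ω a F p) (g : G) {x y w : Ω} (hxy : x ≠ y) (hxw : x ≠ w)
    (hyw : y ≠ w) (hx : g • x = x) (hy : g • y = y) (hw : g • w = w) : g = 1 := by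
  -- reduce to `x = a`
  obtain ⟨k, hk⟩ := P.trans x a
  have hka : ∀ v : Ω, (k * g * k⁻¹) • (k • v) = k • g • v := by
    intro v
    rw [mul_smul, mul_smul, inv_smul_smul]
  set h := k * g * k⁻¹ with hh
  have hha : h • a = a := by rw [← hk, hka, hx]
  have hhy : h • (k • y) = k • y := by rw [hka, hy]
  have hhw : h • (k • w) = k • w := by rw [hka, hw]
  have hya : k • y ≠ a := by
    rw [← hk]
    exact fun h => hxy (MulAction.injective k h).symm
  have hwa : k • w ≠ a := by
    rw [← hk]
    exact fun h => hxw (MulAction.injective k h).symm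
  have hyw' : k • y ≠ k • w := fun h => hyw (MulAction.injective k h)
  obtain ⟨u, hu, huy⟩ := P.F_trans hya hwa
  have hu1 : u ≠ 1 := by
    intro h1
    rw [h1, one_smul] at huy
    exact hyw' huy
  -- `h` centralizes `u`
  have hcu : h * u * h⁻¹ = u := by
    apply P.F_eq_of_smul (P.hFnorm h hha u hu) hu hya
    rw [mul_smul, mul_smul, inv_smul_eq_iff.mpr hhy.symm, huy, hhw]
  have hcomm : ∀ k' : ℕ, h * u ^ k' = u ^ k' * h := by
    intro k'
    have h1 : h * u = u * h := by
      calc h * u = (h * u * h⁻¹) * h := by group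
        _ = u * h := by rw [hcu]
    induction k' with
    | zero => simp
    | succ k' ih => rw [pow_succ, ← mul_assoc, ih, mul_assoc, h1, mul_assoc]
  have hh1 : h = 1 := by
    apply P.faith
    intro v
    by_cases hva : v = a
    · rw [hva, hha]
    · obtain ⟨v', hv', hv'y⟩ := P.F_trans hya hva
      obtain ⟨k', rfl⟩ := P.F_pow hu hu1 hv'
      rw [← hv'y, ← mul_smul, hcomm, mul_smul, hhy]
  have : g = k⁻¹ * h * k := by rw [hh]; group
  rw [this, hh1]; group

end PD

end Cfsg.Agent.Lib.Helper2.S3T
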