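import Mathlib
import Cfsg.Agent.Lib.Helper2.S3T25

set_option autoImplicit false
set_option linter.style.haveILetI false
set_option linter.unusedSectionVars false

/-!
# Transitive groups of degree `p + 1` and order `(p + 1) p d`: existence of the kernel, orders
-/

namespace Cfsg.Agent.Lib.Helper2.S3T

open MulAction

variable {G Ω : Type*} [Group G] [MulAction G Ω] [Fintype Ω] {a : Ω} {F : Subgroup G} {p : ℕ}

theorem card_stab_of_transitive [Finite G] [IsPretransitive G Ω] (a : Ω) :
    Nat.card (stabilizer G a) * Fintype.card Ω = Nat.card G := by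
  rw [← Nat.card_eq_fintype_card, ← MulAction.index_stabilizer_of_transitive G a]
  exact Subgroup.card_mul_index _

/-- the kernel -/
theorem exists_pd [Finite G] (faith : ∀ g : G, (∀ x : Ω, g • x = x) → g = 1) (hp : p.Prime)
    (hcard : Fintype.card Ω = p + 1) [IsPretransitive G Ω] {d : ℕ}
    (hG : Nat.card G = (p + 1) * p * d) (hd : d < p) (a : Ω) :
    ∃ F : Subgroup G, PD G Ω a F p := by
  haveI : Fact p.Prime := ⟨hp⟩
  have hd0 : d ≠ 0 := by
    rintro rfl
    rw [mul_zero] at hG
    exact Nat.card_pos.ne' hG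
  have hB : Nat.card (stabilizer G a) = p * d := by
    have h1 := card_stab_of_transitive (G := G) a
    rw [hcard, hG] at h1
    have h2 : Nat.card (stabilizer G a) * (p + 1) = (p * d) * (p + 1) := by rw [h1]; ring
    exact Nat.eq_of_mul_eq_mul_right (Nat.succ_pos p) h2
  obtain ⟨Q⟩ : Nonempty (Sylow p (stabilizer G a)) := inferInstance
  have hpd : ¬ p ∣ d := fun h => absurd (Nat.le_of_dvd (Nat.pos_of_ne_zero hd0) h) (by omega)
  have hQcard : Nat.card Q = p := by
    rw [Sylow.card_eq_multiplicity, hB, Nat.factorization_mul hp.ne_zero hd0,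
      Finsupp.add_apply, hp.factorization_self, Nat.factorization_eq_zero_of_not_dvd hpd,
      add_zero, pow_one]
  have hidx : (Q : Subgroup (stabilizer G a)).index = d := by
    have h1 := (Q : Subgroup (stabilizer G a)).card_mul_index
    rw [hQcard, hB] at h1
    exact Nat.eq_of_mul_eq_mul_left hp.pos h1
  have hsub : Subsingleton (Sylow p (stabilizer G a)) := by
    have h1 := card_sylow_modEq_one p (stabilizer G a)
    have h2 := Sylow.card_dvd_index Q
    rw [hidx] at h2
    have h3 : Nat.card (Sylow p (stabilizer G a)) ≤ d := Nat.le_of_dvd (Nat.pos_of_ne_zero hd0) h2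
    have h4 : Nat.card (Sylow p (stabilizer G a)) < p := by omega
    have h5 : Nat.card (Sylow p (stabilizer G a)) = 1 := by
      unfold Nat.ModEq at h1
      rw [Nat.mod_eq_of_lt h4, Nat.mod_eq_of_lt hp.one_lt] at h1
      exact h1
    exact (Nat.card_eq_one_iff_unique.mp h5).1
  have hQn : (Q : Subgroup (stabilizer G a)).Normal := Sylow.normal_of_subsingleton Q
  refine ⟨(Q : Subgroup (stabilizer G a)).map (stabilizer G a).subtype, faith, hp, hcard,
    fun x y => MulAction.exists_smul_eq G x y, ?_, ?_, ?_⟩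
  · rintro _ ⟨u, -, rfl⟩
    exact u.2
  · rw [Nat.card_congr ((Q : Subgroup (stabilizer G a)).equivMapOfInjective _
      (Subgroup.subtype_injective _)).toEquiv.symm, hQcard]
  · rintro g hg _ ⟨u, hu, rfl⟩
    exact ⟨_, hQn.conj_mem u hu ⟨g, mem_stabilizer_iff.mpr hg⟩, rfl⟩

namespace PD

/-- the order of the stabilizer of a point in terms of the two-point stabilizer -/
theorem card_stab [Finite G] (P : PD G Ω a F p) {b : Ω} (hba : b ≠ a) :
    Nat.card (stabilizer G a) = p * Nat.card ↥(stabilizer G a ⊓ stabilizer G b : Subgroup G) := by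
  rw [← P.hFcard, ← Nat.card_prod]
  symm
  apply Nat.card_congr
  refine Equiv.ofBijective (fun x : F × ↥(stabilizer G a ⊓ stabilizer G b : Subgroup G) =>
    (⟨(x.1 : G) * (x.2 : G), (stabilizer G a).mul_mem (P.hFa x.1.2)
      (Subgroup.mem_inf.mp x.2.2).1⟩ : stabilizer G a)) ⟨?_, ?_⟩
  · rintro ⟨u, h⟩ ⟨u', h'⟩ hx
    have h1 : (u : G) * (h : G) = (u' : G) * (h' : G) := congrArg Subtype.val hx
    have hb : (h : G) • b = b := mem_stabilizer_iff.mp (Subgroup.mem_inf.mp h.2).2
    have hb' : (h' : G) • b = b := mem_stabilizer_iff.mp (Subgroup.mem_inf.mp h'.2).2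
    have h2 : (u : G) • b = (u' : G) • b := by
      have := congrArg (fun g : G => g • b) h1
      simp only [mul_smul, hb, hb'] at this
      exact this
    have h3 : (u : G) = u' := P.F_eq_of_smul u.2 u'.2 hba h2
    rw [h3] at h1
    have h4 : (h : G) = h' := mul_left_cancel h1
    exact Prod.ext (Subtype.ext h3) (Subtype.ext h4)
  · intro g
    have hga : (g : G) • a = a := mem_stabilizer_iff.mp g.2
    have hgb : (g : G) • b ≠ a := Cfsg.Agent.Lib.Helper2.FZ.stab_ne a hga hba
    obtain ⟨u, hu, hub⟩ := P.F_trans hba hgb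
    refine ⟨(⟨u, hu⟩, ⟨u⁻¹ * (g : G), Subgroup.mem_inf.mpr ⟨?_, ?_⟩⟩), ?_⟩
    · rw [mem_stabilizer_iff, mul_smul, hga, inv_smul_eq_iff, P.mem_a hu]
    · rw [mem_stabilizer_iff, mul_smul, ← hub, inv_smul_smul]
    · apply Subtype.ext
      show u * (u⁻¹ * (g : G)) = g
      group

end PD

end Cfsg.Agent.Lib.Helper2.S3T
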