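import Mathlib

set_option autoImplicit false

namespace Cfsg.Agent.Lib.Helper2

theorem relIndex_sup_right_of_le_normalizer {G : Type*} [Group G] (H N : Subgroup G)
    (h : H ≤ Subgroup.normalizer (N : Set G)) : N.relIndex (H ⊔ N) = N.relIndex H := by
  haveI := Subgroup.normal_subgroupOf_of_le_normalizer h
  haveI := Subgroup.normal_subgroupOf_sup_of_le_normalizer h
  exact Nat.card_congr (QuotientGroup.quotientInfEquivProdNormalizerQuotient H N h).toEquiv.symm

theorem card_sup_mul_card_inf {G : Type*} [Group G] [Finite G] (H N : Subgroup G)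
    (h : H ≤ Subgroup.normalizer (N : Set G)) :
    Nat.card ↥(H ⊔ N) * Nat.card ↥(H ⊓ N) = Nat.card H * Nat.card N := by
  have h1 := Subgroup.relIndex_mul_relIndex ⊥ (H ⊓ N) H bot_le inf_le_left
  rw [Subgroup.relIndex_bot_left, Subgroup.relIndex_bot_left, Subgroup.inf_relIndex_left] at h1
  have h4 := Subgroup.relIndex_mul_relIndex ⊥ N (H ⊔ N) bot_le le_sup_right
  rw [Subgroup.relIndex_bot_left, Subgroup.relIndex_bot_left,
    relIndex_sup_right_of_le_normalizer H N h] at h4
  calc Nat.card ↥(H ⊔ N) * Nat.card ↥(H ⊓ N)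
      = Nat.card N * N.relIndex H * Nat.card ↥(H ⊓ N) := by rw [h4]
    _ = (Nat.card ↥(H ⊓ N) * N.relIndex H) * Nat.card N := by ring
    _ = Nat.card H * Nat.card N := by rw [h1]

theorem mem_normalizer_of_commute {G : Type*} [Group G] (N : Subgroup G) (g : G)
    (h : ∀ n ∈ N, g * n = n * g) : g ∈ Subgroup.normalizer (N : Set G) := by
  rw [Subgroup.mem_normalizer_iff]
  intro n
  constructor
  · intro hn
    rw [h n hn, mul_inv_cancel_right]; exact hn
  · intro hn
    have h2 := h _ hn
    have h3 : g * (g * n * g⁻¹) = g * n := by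
      rw [h2]; group
    have h4 : g * n * g⁻¹ = n := mul_left_cancel h3
    rw [← h4]; exact hn

end Cfsg.Agent.Lib.Helper2

namespace Cfsg.Agent.Lib.Helper2

theorem card_subgroupOf_of_le {G : Type*} [Group G] {A U : Subgroup G} (h : A ≤ U) :
    Nat.card (A.subgroupOf U) = Nat.card A := by
  rw [← Subgroup.card_map_of_injective U.subtype_injective, Subgroup.map_subgroupOf_eq_of_le h]

theorem card_eq_card_quotient_mul_card {G : Type*} [Group G] (N : Subgroup G) [N.Normal] :
    Nat.card G = Nat.card (G ⧸ N) * Nat.card N := by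
  rw [← Subgroup.index_eq_card, mul_comm, Subgroup.card_mul_index]

theorem card_comap_mk {G : Type*} [Group G] [Finite G] (N : Subgroup G) [N.Normal]
    (H' : Subgroup (G ⧸ N)) :
    Nat.card (H'.comap (QuotientGroup.mk' N)) = Nat.card H' * Nat.card N := by
  have h1 : (H'.comap (QuotientGroup.mk' N)).index = H'.index :=
    Subgroup.index_comap_of_surjective H' (QuotientGroup.mk'_surjective N)
  have h2 := Subgroup.card_mul_index (H'.comap (QuotientGroup.mk' N))
  have h3 := Subgroup.card_mul_index H'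
  have h4 : Nat.card G = Nat.card (G ⧸ N) * Nat.card N := card_eq_card_quotient_mul_card N
  have hpos : 0 < H'.index := Nat.pos_of_ne_zero Subgroup.index_ne_zero_of_finite
  rw [h1] at h2
  have : Nat.card (H'.comap (QuotientGroup.mk' N)) * H'.index =
      (Nat.card H' * Nat.card N) * H'.index := by
    rw [h2, h4, ← h3]; ring
  exact Nat.eq_of_mul_eq_mul_right hpos this

theorem le_comap_mk {G : Type*} [Group G] (N : Subgroup G) [N.Normal]
    (H' : Subgroup (G ⧸ N)) : N ≤ H'.comap (QuotientGroup.mk' N) := by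
  intro x hx
  rw [Subgroup.mem_comap, QuotientGroup.mk'_apply, (QuotientGroup.eq_one_iff x).mpr hx]
  exact H'.one_mem

end Cfsg.Agent.Lib.Helper2

namespace Cfsg.Agent.Lib.Helper2

theorem isCoatom_map_mk {G : Type*} [Group G] (N : Subgroup G) [N.Normal] {M : Subgroup G}
    (hM : IsCoatom M) (hNM : N ≤ M) : IsCoatom (M.map (QuotientGroup.mk' N)) := by
  set π := QuotientGroup.mk' N with hπ
  have hsurj : Function.Surjective π := QuotientGroup.mk'_surjective N
  have hker : π.ker ≤ M := by rw [hπ, QuotientGroup.ker_mk']; exact hNM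
  have hcm : (M.map π).comap π = M := by
    rw [Subgroup.comap_map_eq, sup_eq_left.mpr hker]
  constructor
  · intro h
    apply hM.1
    rw [← hcm, h, Subgroup.comap_top]
  · intro L hL
    have h1 : M < L.comap π := by
      rw [← hcm]
      refine lt_of_le_of_ne (Subgroup.comap_mono hL.le) ?_
      intro h
      have := congrArg (Subgroup.map π) h
      rw [Subgroup.map_comap_eq_self_of_surjective hsurj,
        Subgroup.map_comap_eq_self_of_surjective hsurj] at this
      exact hL.ne this
    have h2 := hM.2 _ h1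
    have := congrArg (Subgroup.map π) h2
    rwa [Subgroup.map_comap_eq_self_of_surjective hsurj, ← MonoidHom.range_eq_map,
      MonoidHom.range_eq_top.mpr hsurj] at this

theorem isCoatom_comap_mk {G : Type*} [Group G] (N : Subgroup G) [N.Normal]
    {M' : Subgroup (G ⧸ N)} (hM : IsCoatom M') : IsCoatom (M'.comap (QuotientGroup.mk' N)) := by
  set π := QuotientGroup.mk' N with hπ
  have hsurj : Function.Surjective π := QuotientGroup.mk'_surjective N
  constructor
  · intro h
    apply hM.1
    have := congrArg (Subgroup.map π) h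
    rwa [Subgroup.map_comap_eq_self_of_surjective hsurj, ← MonoidHom.range_eq_map,
      MonoidHom.range_eq_top.mpr hsurj] at this
  · intro L hL
    have hkerL : π.ker ≤ L := (Subgroup.ker_le_comap π M').trans hL.le
    have hcm : (L.map π).comap π = L := by
      rw [Subgroup.comap_map_eq, sup_eq_left.mpr hkerL]
    have h1 : M' < L.map π := by
      refine lt_of_le_of_ne ?_ ?_
      · rw [← Subgroup.map_comap_eq_self_of_surjective hsurj M']
        exact Subgroup.map_mono hL.le
      · intro h
        rw [h, hcm] at hL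
        exact lt_irrefl _ hL
    have h2 := hM.2 _ h1
    rw [← hcm, h2, Subgroup.comap_top]

theorem isSolvable_of_normal_of_quotient {G : Type*} [Group G] (N : Subgroup G) [N.Normal]
    (h1 : Group.IsSolvable N) (h2 : Group.IsSolvable (G ⧸ N)) : Group.IsSolvable G := by
  refine Group.isSolvable_of_ker_le_range N.subtype (QuotientGroup.mk' N) ?_
  rw [QuotientGroup.ker_mk', Subgroup.range_subtype]

end Cfsg.Agent.Lib.Helper2

namespace Cfsg.Agent.Lib.Helper2

/-- The natural surjection from the section `A ⧸ B` onto the image of `A` in `G ⧸ B`. -/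
theorem exists_surjective_quotient_to_map {G : Type*} [Group G] (A B : Subgroup G) [B.Normal] :
    ∃ f : (A ⧸ B.subgroupOf A) →* (A.map (QuotientGroup.mk' B)), Function.Surjective f := by
  have hker : B.subgroupOf A ≤ ((QuotientGroup.mk' B).subgroupMap A).ker := by
    intro x hx
    rw [MonoidHom.mem_ker]
    apply Subtype.ext
    simp only [MonoidHom.subgroupMap, Subgroup.coe_one]
    change QuotientGroup.mk' B (x : G) = 1
    rw [QuotientGroup.mk'_apply, QuotientGroup.eq_one_iff]
    exact hx
  refine ⟨QuotientGroup.lift (B.subgroupOf A) ((QuotientGroup.mk' B).subgroupMap A) hker, ?_⟩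
  intro y
  obtain ⟨x, hx⟩ := (QuotientGroup.mk' B).subgroupMap_surjective A y
  exact ⟨QuotientGroup.mk x, by simpa using hx⟩

end Cfsg.Agent.Lib.Helper2

namespace Cfsg.Agent.Lib.Helper2

/-- If `|S : S ∩ B| ≤ |A : A ∩ B|` with `A ≤ S`, then `S ⊆ A B`. -/
theorem exists_mul_of_relIndex_le {G : Type*} [Group G] [Finite G] (A B S : Subgroup G)
    (hAS : A ≤ S) (h : B.relIndex S ≤ B.relIndex A) :
    ∀ s ∈ S, ∃ a ∈ A, ∃ b ∈ B, s = a * b := by
  set φ := Subgroup.quotientSubgroupOfEmbeddingOfLE B hAS with hφ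
  have hbij : Function.Bijective φ := by
    apply Function.Injective.bijective_of_nat_card_le φ.injective
    exact h
  intro s hs
  obtain ⟨q, hq⟩ := hbij.2 (QuotientGroup.mk ⟨s, hs⟩)
  obtain ⟨a, rfl⟩ := QuotientGroup.mk_surjective q
  rw [hφ, Subgroup.quotientSubgroupOfEmbeddingOfLE_apply_mk, QuotientGroup.eq,
    Subgroup.mem_subgroupOf] at hq
  refine ⟨a, a.2, _, hq, ?_⟩
  simp

/-- If `S ⊆ A B` with `A ≤ S` then `|S : S ∩ B| = |A : A ∩ B|`. -/
theorem relIndex_eq_of_forall_exists_mul {G : Type*} [Group G] [Finite G] (A B S : Subgroup G)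
    (hAS : A ≤ S) (h : ∀ s ∈ S, ∃ a ∈ A, ∃ b ∈ B, s = a * b) :
    B.relIndex S = B.relIndex A := by
  set φ := Subgroup.quotientSubgroupOfEmbeddingOfLE B hAS with hφ
  have hsurj : Function.Surjective φ := by
    intro q
    obtain ⟨s, rfl⟩ := QuotientGroup.mk_surjective q
    obtain ⟨a, ha, b, hb, hs⟩ := h s s.2
    refine ⟨QuotientGroup.mk ⟨a, ha⟩, ?_⟩
    rw [hφ, Subgroup.quotientSubgroupOfEmbeddingOfLE_apply_mk, QuotientGroup.eq,
      Subgroup.mem_subgroupOf]
    simp only [Subgroup.coe_mul, Subgroup.coe_inv, Subgroup.coe_inclusion]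
    rw [hs, inv_mul_cancel_left]
    exact hb
  exact (Nat.card_congr (Equiv.ofBijective φ ⟨φ.injective, hsurj⟩)).symm

/-- Product formula for a factorised group. -/
theorem card_mul_card_inf_of_factorization {G : Type*} [Group G] [Finite G] (H K : Subgroup G)
    (hHK : ∀ g : G, ∃ h ∈ H, ∃ k ∈ K, g = h * k) :
    Nat.card G * Nat.card (H ⊓ K : Subgroup G) = Nat.card H * Nat.card K := by
  have h1 : K.relIndex ⊤ = K.relIndex H :=
    relIndex_eq_of_forall_exists_mul H K ⊤ le_top (fun s _ => hHK s)
  rw [Subgroup.relIndex_top_right] at h1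
  have h2 := Subgroup.card_mul_index K
  have h3 := Subgroup.relIndex_mul_relIndex ⊥ (H ⊓ K) H bot_le inf_le_left
  rw [Subgroup.relIndex_bot_left, Subgroup.relIndex_bot_left, Subgroup.inf_relIndex_left] at h3
  rw [← h2, h1, ← h3]
  ring

end Cfsg.Agent.Lib.Helper2

namespace Cfsg.Agent.Lib.Helper2

open scoped Pointwise in
theorem map_subtype_conj_smul {G : Type*} [Group G] (H : Subgroup G) (h : H) (X : Subgroup H) :
    (MulAut.conj h • X).map H.subtype = MulAut.conj (h : G) • (X.map H.subtype) := by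
  ext x
  constructor
  · rintro ⟨y, hy, rfl⟩
    obtain ⟨w, hw, rfl⟩ := (Subgroup.mem_smul_pointwise_iff_exists _ _ _).mp hy
    rw [Subgroup.mem_smul_pointwise_iff_exists]
    exact ⟨(w : G), ⟨w, hw, rfl⟩, by simp [MulAut.smul_def]⟩
  · intro hx
    obtain ⟨w, ⟨v, hv, rfl⟩, rfl⟩ := (Subgroup.mem_smul_pointwise_iff_exists _ _ _).mp hx
    refine ⟨MulAut.conj h • v, Subgroup.smul_mem_pointwise_smul _ _ _ hv, ?_⟩
    simp [MulAut.smul_def]

open scoped Pointwise in
theorem conj_smul_normalizer {G : Type*} [Group G] (g : G) (X : Subgroup G) :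
    MulAut.conj g • Subgroup.normalizer (X : Set G) =
      Subgroup.normalizer ((MulAut.conj g • X : Subgroup G) : Set G) :=
  Subgroup.map_equiv_normalizer_eq X (MulAut.conj g)

end Cfsg.Agent.Lib.Helper2

namespace Cfsg.Agent.Lib.Helper2

/-- Two complements of the same normal subgroup are isomorphic. -/
theorem nonempty_mulEquiv_of_complements {G : Type*} [Group G] [Finite G] (X A D B : Subgroup G)
    (hAX : A ≤ X) (hDX : D ≤ X) (hBX : B ≤ X) (hBn : (B.subgroupOf X).Normal)
    (h1 : A ⊓ B = ⊥) (h2 : D ⊓ B = ⊥) (h3 : Nat.card A * Nat.card B = Nat.card X)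
    (h4 : Nat.card D * Nat.card B = Nat.card X) : Nonempty (A ≃* D) := by
  have key : ∀ Y : Subgroup G, Y ≤ X → Y ⊓ B = ⊥ → Nat.card Y * Nat.card B = Nat.card X →
      Subgroup.IsComplement' (Y.subgroupOf X) (B.subgroupOf X) := by
    intro Y hYX hYB hcard
    apply Subgroup.isComplement'_of_card_mul_and_disjoint
    · rw [card_subgroupOf_of_le hYX, card_subgroupOf_of_le hBX, hcard]
    · rw [Subgroup.disjoint_def]
      intro x hxY hxB
      rw [Subgroup.mem_subgroupOf] at hxY hxB
      have : (x : G) ∈ Y ⊓ B := Subgroup.mem_inf.mpr ⟨hxY, hxB⟩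
      rw [hYB, Subgroup.mem_bot] at this
      exact Subtype.ext this
  have e1 := (key A hAX h1 h3).QuotientMulEquiv
  have e2 := (key D hDX h2 h4).QuotientMulEquiv
  exact ⟨(Subgroup.subgroupOfEquivOfLe hAX).symm.trans
    (e1.symm.trans (e2.trans (Subgroup.subgroupOfEquivOfLe hDX)))⟩

end Cfsg.Agent.Lib.Helper2
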