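import Mathlib
import Cfsg.Prelude.Def_Transfer
import Cfsg.Prelude.Def_PLocal

set_option autoImplicit false

namespace Cfsg.Agent.Lib.Helper2

open Cfsg

theorem isMulComm_iff {G : Type*} [Group G] (H : Subgroup G) :
    IsMulCommutative H ↔ ∀ a ∈ H, ∀ b ∈ H, a * b = b * a := by
  constructor
  · intro h a ha b hb
    exact Subgroup.mul_comm_of_mem_isMulCommutative H ha hb
  · intro h
    exact ⟨⟨fun a b => Subtype.ext (h a a.2 b b.2)⟩⟩

theorem isEA_iff {G : Type*} [Group G] (p : ℕ) (A : Subgroup G) :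
    IsElementaryAbelian p A ↔ (∀ a ∈ A, ∀ b ∈ A, a * b = b * a) ∧ ∀ a ∈ A, a ^ p = 1 := by
  unfold IsElementaryAbelian
  rw [isMulComm_iff]

theorem isEA_bot {G : Type*} [Group G] (p : ℕ) : IsElementaryAbelian p (⊥ : Subgroup G) := by
  rw [isEA_iff]
  constructor
  · intro a ha b hb
    rw [Subgroup.mem_bot] at ha hb
    rw [ha, hb]
  · intro a ha
    rw [Subgroup.mem_bot] at ha
    rw [ha, one_pow]

theorem isEA_of_le {G : Type*} [Group G] {p : ℕ} {A B : Subgroup G} (hB : IsElementaryAbelian p B)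
    (h : A ≤ B) : IsElementaryAbelian p A := by
  rw [isEA_iff] at hB ⊢
  exact ⟨fun a ha b hb => hB.1 a (h ha) b (h hb), fun a ha => hB.2 a (h ha)⟩

theorem isEA_map_of_injective {G G' : Type*} [Group G] [Group G'] {p : ℕ} (f : G →* G')
    (hf : Function.Injective f) (A : Subgroup G) :
    IsElementaryAbelian p (A.map f) ↔ IsElementaryAbelian p A := by
  rw [isEA_iff, isEA_iff]
  constructor
  · rintro ⟨h1, h2⟩
    refine ⟨fun a ha b hb => hf ?_, fun a ha => hf ?_⟩
    · rw [map_mul, map_mul]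
      exact h1 _ (Subgroup.mem_map_of_mem f ha) _ (Subgroup.mem_map_of_mem f hb)
    · rw [map_pow, map_one]
      exact h2 _ (Subgroup.mem_map_of_mem f ha)
  · rintro ⟨h1, h2⟩
    refine ⟨?_, ?_⟩
    · rintro _ ⟨a, ha, rfl⟩ _ ⟨b, hb, rfl⟩
      rw [← map_mul, ← map_mul, h1 a ha b hb]
    · rintro _ ⟨a, ha, rfl⟩
      rw [← map_pow, h2 a ha, map_one]

theorem isEA_zpowers {G : Type*} [Group G] {p : ℕ} (x : G) (hx : x ^ p = 1) :
    IsElementaryAbelian p (Subgroup.zpowers x) := by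
  rw [isEA_iff]
  constructor
  · intro a ha b hb
    obtain ⟨i, rfl⟩ := Subgroup.mem_zpowers_iff.mp ha
    obtain ⟨j, rfl⟩ := Subgroup.mem_zpowers_iff.mp hb
    rw [← zpow_add, ← zpow_add, add_comm]
  · intro a ha
    obtain ⟨i, rfl⟩ := Subgroup.mem_zpowers_iff.mp ha
    rw [← zpow_natCast, ← zpow_mul, mul_comm, zpow_mul, zpow_natCast, hx, one_zpow]

theorem isMulComm_sup_zpowers {G : Type*} [Group G] (A : Subgroup G)
    (hA : ∀ a ∈ A, ∀ b ∈ A, a * b = b * a)
    (x : G) (hx : ∀ a ∈ A, a * x = x * a) :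
    ∀ a ∈ A ⊔ Subgroup.zpowers x, ∀ b ∈ A ⊔ Subgroup.zpowers x, a * b = b * a := by
  have hk : ∀ u ∈ ((A : Set G) ∪ {x}), ∀ v ∈ ((A : Set G) ∪ {x}), u * v = v * u := by
    rintro u (hu | hu) v (hv | hv)
    · exact hA u hu v hv
    · rw [Set.mem_singleton_iff] at hv; subst hv; exact hx u hu
    · rw [Set.mem_singleton_iff] at hu; subst hu; exact (hx v hv).symm
    · rw [Set.mem_singleton_iff] at hu hv; subst hu; subst hv; rfl
  have hcl : A ⊔ Subgroup.zpowers x = Subgroup.closure ((A : Set G) ∪ {x}) := by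
    rw [Subgroup.closure_union, Subgroup.closure_eq, Subgroup.zpowers_eq_closure]
  rw [hcl]
  have h1 : Subgroup.closure ((A : Set G) ∪ {x}) ≤ Subgroup.centralizer ((A : Set G) ∪ {x}) := by
    rw [Subgroup.closure_le]
    intro u hu
    rw [SetLike.mem_coe, Subgroup.mem_centralizer_iff]
    intro v hv
    exact hk v hv u hu
  have h2 : Subgroup.closure ((A : Set G) ∪ {x}) ≤
      Subgroup.centralizer (Subgroup.closure ((A : Set G) ∪ {x}) : Set G) := by
    rw [Subgroup.closure_le]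
    intro u hu
    rw [SetLike.mem_coe, Subgroup.mem_centralizer_iff]
    intro v hv
    have := h1 hv
    rw [Subgroup.mem_centralizer_iff] at this
    exact (this u hu).symm
  intro a ha b hb
  have := h2 hb
  rw [Subgroup.mem_centralizer_iff] at this
  exact this a ha

theorem isEA_sup_zpowers {G : Type*} [Group G] {p : ℕ} (A : Subgroup G)
    (hA : IsElementaryAbelian p A) (x : G) (hx : ∀ a ∈ A, a * x = x * a) (hxp : x ^ p = 1) :
    IsElementaryAbelian p (A ⊔ Subgroup.zpowers x) := by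
  rw [isEA_iff] at hA ⊢
  obtain ⟨hA1, hA2⟩ := hA
  have hcomm := isMulComm_sup_zpowers A hA1 x hx
  refine ⟨hcomm, ?_⟩
  let P : Subgroup G :=
    { carrier := {g | g ∈ A ⊔ Subgroup.zpowers x ∧ g ^ p = 1}
      mul_mem' := by
        rintro a b ⟨ha, hap⟩ ⟨hb, hbp⟩
        refine ⟨Subgroup.mul_mem _ ha hb, ?_⟩
        have : Commute a b := hcomm a ha b hb
        rw [this.mul_pow, hap, hbp, one_mul]
      one_mem' := ⟨Subgroup.one_mem _, one_pow _⟩
      inv_mem' := by
        rintro a ⟨ha, hap⟩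
        exact ⟨Subgroup.inv_mem _ ha, by rw [inv_pow, hap, inv_one]⟩ }
  have hAP : A ≤ P := fun a ha => ⟨(le_sup_left : A ≤ A ⊔ Subgroup.zpowers x) ha, hA2 a ha⟩
  have hxP : Subgroup.zpowers x ≤ P := by
    rw [Subgroup.zpowers_le]
    exact ⟨(le_sup_right : Subgroup.zpowers x ≤ A ⊔ Subgroup.zpowers x) (Subgroup.mem_zpowers x), hxp⟩
  intro a ha
  exact ((sup_le hAP hxP) ha).2

theorem maxEA_nonempty {G : Type*} [Group G] [Finite G] (p : ℕ) :
    (maxElementaryAbelianSubgroups p G).Nonempty := by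
  classical
  haveI : Nonempty {B : Subgroup G // IsElementaryAbelian p B} := ⟨⟨⊥, isEA_bot p⟩⟩
  obtain ⟨A, hA⟩ := Finite.exists_max (fun B : {B : Subgroup G // IsElementaryAbelian p B} => Nat.card B.1)
  exact ⟨A.1, A.2, fun B hB => hA ⟨B, hB⟩⟩

theorem mem_of_mem_maxEA {G : Type*} [Group G] [Finite G] {p : ℕ} {A : Subgroup G}
    (hA : A ∈ maxElementaryAbelianSubgroups p G) (x : G) (hx : ∀ a ∈ A, a * x = x * a)
    (hxp : x ^ p = 1) : x ∈ A := by
  have hEA := isEA_sup_zpowers A hA.1 x hx hxp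
  have hcard := hA.2 _ hEA
  have hle : A ≤ A ⊔ Subgroup.zpowers x := le_sup_left
  have heq : A = A ⊔ Subgroup.zpowers x := by
    apply Subgroup.eq_of_le_of_card_ge hle
    exact hcard
  rw [heq]
  exact (le_sup_right : Subgroup.zpowers x ≤ A ⊔ Subgroup.zpowers x) (Subgroup.mem_zpowers x)

theorem le_thompson_of_mem {G : Type*} [Group G] {p : ℕ} {A : Subgroup G}
    (hA : A ∈ maxElementaryAbelianSubgroups p G) : A ≤ thompsonSubgroup p G :=
  le_sSup hA

end Cfsg.Agent.Lib.Helper2
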