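import Mathlib
import Cfsg.Agent.Lib.Helper2.Basic
import Cfsg.Agent.Lib.Helper2.Thompson

set_option autoImplicit false

namespace Cfsg.Agent.Lib.Helper2

open scoped commutatorElement

/-- `M` is a minimal normal subgroup. -/
def IsMinNormal {G : Type*} [Group G] (M : Subgroup G) : Prop :=
  M.Normal ∧ M ≠ ⊥ ∧ ∀ K : Subgroup G, K.Normal → K ≤ M → K = ⊥ ∨ K = M

theorem isMulCommutative_of_minNormal_of_solvable {G : Type*} [Group G] [hs : Group.IsSolvable G]
    (M : Subgroup G) [hMn : M.Normal] (hM : M ≠ ⊥)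
    (hmin : ∀ K : Subgroup G, K.Normal → K ≤ M → K = ⊥ ∨ K = M) : IsMulCommutative M := by
  rw [← Subgroup.commutator_self_eq_bot_iff]
  rcases hmin ⁅M, M⁆ inferInstance (Subgroup.commutator_le_self M) with h | h
  · exact h
  · exfalso
    obtain ⟨n, hn⟩ := hs.solvable
    have : ∀ k : ℕ, M ≤ derivedSeries G k := by
      intro k
      induction k with
      | zero => exact le_top
      | succ k ih =>
        rw [derivedSeries_succ, ← h]
        exact Subgroup.commutator_mono ih ih
    apply hM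
    rw [eq_bot_iff, ← hn]
    exact this n

theorem exists_prime_pow_of_minNormal_abelian {G : Type*} [Group G] [Finite G]
    (M : Subgroup G) [hMn : M.Normal] (hM : M ≠ ⊥)
    (hmin : ∀ K : Subgroup G, K.Normal → K ≤ M → K = ⊥ ∨ K = M) (hc : IsMulCommutative M) :
    ∃ p : ℕ, p.Prime ∧ (∀ x ∈ M, x ^ p = 1) ∧ ∃ d : ℕ, 0 < d ∧ Nat.card M = p ^ d := by
  have hcard : Nat.card M ≠ 1 := by
    rw [Ne, Subgroup.card_eq_one]; exact hM
  obtain ⟨p, hp, hpd⟩ := Nat.exists_prime_and_dvd hcard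
  haveI : Fact p.Prime := ⟨hp⟩
  have hcomm := (isMulComm_iff M).mp hc
  -- the subgroup of elements of order dividing p
  let K : Subgroup G :=
    { carrier := {x | x ∈ M ∧ x ^ p = 1}
      one_mem' := ⟨M.one_mem, one_pow p⟩
      mul_mem' := by
        rintro a b ⟨ha, hap⟩ ⟨hb, hbp⟩
        refine ⟨M.mul_mem ha hb, ?_⟩
        have : Commute a b := hcomm a ha b hb
        rw [this.mul_pow, hap, hbp, one_mul]
      inv_mem' := by
        rintro a ⟨ha, hap⟩
        exact ⟨M.inv_mem ha, by rw [inv_pow, hap, inv_one]⟩ }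
  have hKn : K.Normal := by
    refine ⟨fun x hx g => ?_⟩
    obtain ⟨hxM, hxp⟩ := hx
    exact ⟨hMn.conj_mem x hxM g, by rw [conj_pow, hxp]; group⟩
  have hKM : K ≤ M := fun x hx => hx.1
  obtain ⟨z, hz⟩ := exists_prime_orderOf_dvd_card' p hpd
  have hKne : K ≠ ⊥ := by
    intro h
    have hzK : (z : G) ∈ K := by
      refine ⟨z.2, ?_⟩
      have : z ^ p = 1 := by rw [← hz]; exact pow_orderOf_eq_one z
      simpa using congrArg Subtype.val this
    rw [h, Subgroup.mem_bot] at hzK
    have : z = 1 := Subtype.ext hzK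
    rw [this, orderOf_one] at hz
    exact hp.one_lt.ne hz
  have hKeq : K = M := (hmin K hKn hKM).resolve_left hKne
  have hall : ∀ x ∈ M, x ^ p = 1 := by
    intro x hx
    rw [← hKeq] at hx
    exact hx.2
  refine ⟨p, hp, hall, ?_⟩
  have hpg : IsPGroup p M := by
    intro x
    refine ⟨1, ?_⟩
    rw [pow_one]
    exact Subtype.ext (by simpa using hall x x.2)
  obtain ⟨d, hd⟩ := hpg.exists_card_eq
  refine ⟨d, ?_, hd⟩
  rcases Nat.eq_zero_or_pos d with h0 | h0
  · rw [h0, pow_zero] at hd; exact absurd hd hcard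
  · exact h0

end Cfsg.Agent.Lib.Helper2
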