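import Mathlib
import Cfsg.Agent.Lib.Helper2.MinNormal

set_option autoImplicit false

namespace Cfsg.Agent.Lib.Helper2

open scoped commutatorElement

theorem exists_minNormal_le {G : Type*} [Group G] [Finite G] (L : Subgroup G) [hLn : L.Normal]
    (hL : L ≠ ⊥) : ∃ N : Subgroup G, N ≤ L ∧ N.Normal ∧ N ≠ ⊥ ∧
      ∀ K : Subgroup G, K.Normal → K ≤ N → K = ⊥ ∨ K = N := by
  obtain ⟨N, hN⟩ := exists_minimal_of_wellFoundedLT
    (fun K : Subgroup G => K.Normal ∧ K ≠ ⊥ ∧ K ≤ L) ⟨L, hLn, hL, le_rfl⟩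
  obtain ⟨hNn, hNb, hNL⟩ := hN.prop
  refine ⟨N, hNL, hNn, hNb, ?_⟩
  intro K hKn hKN
  by_cases hKb : K = ⊥
  · exact Or.inl hKb
  · right
    exact le_antisymm hKN (hN.le_of_le ⟨hKn, hKb, hKN.trans hNL⟩ hKN)

theorem exists_minNormal {G : Type*} [Group G] [Finite G] [Nontrivial G] :
    ∃ N : Subgroup G, N.Normal ∧ N ≠ ⊥ ∧
      ∀ K : Subgroup G, K.Normal → K ≤ N → K = ⊥ ∨ K = N := by
  obtain ⟨N, -, h⟩ := exists_minNormal_le (⊤ : Subgroup G) top_ne_bot
  exact ⟨N, h⟩

section CoreFree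

variable {G : Type*} [Group G] (U : Subgroup G) (hU : IsCoatom U) (hcore : U.normalCore = ⊥)
include hU hcore

theorem sup_eq_top_of_coreFree (K : Subgroup G) [K.Normal] (hK : K ≠ ⊥) : U ⊔ K = ⊤ := by
  apply hU.2
  refine lt_of_le_of_ne le_sup_left ?_
  intro h
  apply hK
  have : K ≤ U := by rw [h]; exact le_sup_right
  rw [eq_bot_iff, ← hcore]
  exact Subgroup.normal_le_normalCore.mpr this

theorem inf_eq_bot_of_coreFree_abelian (N : Subgroup G) [hNn : N.Normal]
    (hc : IsMulCommutative N) : U ⊓ N = ⊥ := by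
  by_cases hN : N = ⊥
  · rw [hN, inf_bot_eq]
  have hUN := sup_eq_top_of_coreFree U hU hcore N hN
  have hnorm : Subgroup.normalizer ((U ⊓ N : Subgroup G) : Set G) = ⊤ := by
    rw [eq_top_iff, ← hUN]
    apply sup_le
    · refine le_trans ?_ Subgroup.inf_normalizer_le_normalizer_inf
      refine le_inf Subgroup.le_normalizer ?_
      rw [Subgroup.normalizer_eq_top]; exact le_top
    · intro n hn
      apply mem_normalizer_of_commute
      intro x hx
      exact (isMulComm_iff N).mp hc n hn x (Subgroup.mem_inf.mp hx).2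
  haveI : (U ⊓ N).Normal := Subgroup.normalizer_eq_top_iff.mp hnorm
  rw [eq_bot_iff, ← hcore]
  exact Subgroup.normal_le_normalCore.mpr inf_le_left

theorem centralizer_inf_eq_bot_of_coreFree (N : Subgroup G) [hNn : N.Normal] (hN : N ≠ ⊥) :
    Subgroup.centralizer (N : Set G) ⊓ U = ⊥ := by
  set C := Subgroup.centralizer (N : Set G) with hC
  haveI : C.Normal := Subgroup.normal_centralizer
  have hUN := sup_eq_top_of_coreFree U hU hcore N hN
  have hnorm : Subgroup.normalizer ((C ⊓ U : Subgroup G) : Set G) = ⊤ := by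
    rw [eq_top_iff, ← hUN]
    apply sup_le
    · refine le_trans ?_ Subgroup.inf_normalizer_le_normalizer_inf
      refine le_inf ?_ Subgroup.le_normalizer
      rw [Subgroup.normalizer_eq_top]; exact le_top
    · intro n hn
      apply mem_normalizer_of_commute
      intro x hx
      have := (Subgroup.mem_inf.mp hx).1
      rw [hC, Subgroup.mem_centralizer_iff] at this
      exact this n hn
  haveI : (C ⊓ U).Normal := Subgroup.normalizer_eq_top_iff.mp hnorm
  rw [eq_bot_iff, ← hcore]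
  exact Subgroup.normal_le_normalCore.mpr inf_le_right

theorem centralizer_eq_of_coreFree_abelian (N : Subgroup G) [hNn : N.Normal] (hN : N ≠ ⊥)
    (hc : IsMulCommutative N) : Subgroup.centralizer (N : Set G) = N := by
  have h1 := centralizer_inf_eq_bot_of_coreFree U hU hcore N hN
  have hUN := sup_eq_top_of_coreFree U hU hcore N hN
  have hNC : N ≤ Subgroup.centralizer (N : Set G) := by
    intro n hn
    rw [Subgroup.mem_centralizer_iff]
    intro m hm
    exact (isMulComm_iff N).mp hc m hm n hn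
  apply le_antisymm _ hNC
  intro c hc'
  have hc'' : c ∈ ((U ⊔ N : Subgroup G) : Set G) := by rw [hUN]; trivial
  rw [Subgroup.mul_normal] at hc''
  obtain ⟨u, hu, k, hk, rfl⟩ := Set.mem_mul.mp hc''
  have hu' : u ∈ Subgroup.centralizer (N : Set G) ⊓ U := by
    refine Subgroup.mem_inf.mpr ⟨?_, hu⟩
    have : u = (u * k) * k⁻¹ := by group
    rw [this]
    exact Subgroup.mul_mem _ hc' (Subgroup.inv_mem _ (hNC hk))
  rw [h1, Subgroup.mem_bot] at hu'
  rw [hu', one_mul]; exact hk

theorem eq_centralizer_of_coreFree (N : Subgroup G) [hNn : N.Normal] (hN : N ≠ ⊥)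
    (K : Subgroup G) [K.Normal] (hK : K ≠ ⊥) (hKC : K ≤ Subgroup.centralizer (N : Set G)) :
    K = Subgroup.centralizer (N : Set G) := by
  have h1 := centralizer_inf_eq_bot_of_coreFree U hU hcore N hN
  have hUK := sup_eq_top_of_coreFree U hU hcore K hK
  apply le_antisymm hKC
  intro c hc
  have hc' : c ∈ ((U ⊔ K : Subgroup G) : Set G) := by rw [hUK]; trivial
  rw [Subgroup.mul_normal] at hc'
  obtain ⟨u, hu, k, hk, rfl⟩ := Set.mem_mul.mp hc'
  have hu' : u ∈ Subgroup.centralizer (N : Set G) ⊓ U := by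
    refine Subgroup.mem_inf.mpr ⟨?_, hu⟩
    have : u = (u * k) * k⁻¹ := by group
    rw [this]
    exact Subgroup.mul_mem _ hc (Subgroup.inv_mem _ (hKC hk))
  rw [h1, Subgroup.mem_bot] at hu'
  rw [hu', one_mul]; exact hk

theorem inf_sup_eq_of_coreFree (N M : Subgroup G) [N.Normal] (hN : N ≠ ⊥) (hNM : N ≤ M) :
    (U ⊓ M) ⊔ N = M := by
  have hUN := sup_eq_top_of_coreFree U hU hcore N hN
  apply le_antisymm (sup_le inf_le_right hNM)
  intro x hx
  have hx' : x ∈ ((U ⊔ N : Subgroup G) : Set G) := by rw [hUN]; trivial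
  rw [Subgroup.mul_normal] at hx'
  obtain ⟨u, hu, n, hn, rfl⟩ := Set.mem_mul.mp hx'
  have huM : u ∈ M := by
    have : u = (u * n) * n⁻¹ := by group
    rw [this]; exact M.mul_mem hx (M.inv_mem (hNM hn))
  exact Subgroup.mul_mem _ (Subgroup.mem_sup_left (Subgroup.mem_inf.mpr ⟨hu, huM⟩))
    (Subgroup.mem_sup_right hn)

end CoreFree

end Cfsg.Agent.Lib.Helper2
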