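import Mathlib
import Cfsg.Prelude.Def_SolvableStructure
import Cfsg.Agent.Lib.Helper2.Basic
import Cfsg.Agent.Lib.Lead.HallThm4
import Cfsg.Agent.Lib.Lead.SZConjB
import Cfsg.Agent.Lib.Lead.CoprimeSylow

set_option autoImplicit false

namespace Cfsg.Agent.Lib.Helper2

open scoped Pointwise

theorem index_conj_smul {G : Type*} [Group G] (g : G) (H : Subgroup G) :
    (MulAut.conj g • H).index = H.index := by
  have : MulAut.conj g • H = H.map ((MulAut.conj g : G ≃* G) : G →* G) := rfl
  rw [this]
  exact Subgroup.index_map_equiv H (MulAut.conj g)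

/-- coprime indices: the index of the intersection is the product. -/
theorem index_inf_of_coprime {G : Type*} [Group G] (A B : Subgroup G)
    (hcop : A.index.Coprime B.index) : (A ⊓ B).index = A.index * B.index := by
  apply le_antisymm Subgroup.index_inf_le
  by_cases h0 : (A ⊓ B).index = 0
  · -- then one of the indices is zero
    by_contra hlt
    have hA : A.index ≠ 0 := by
      intro h; rw [h, zero_mul] at hlt; exact hlt (Nat.zero_le _)
    have hB : B.index ≠ 0 := by
      intro h; rw [h, mul_zero] at hlt; exact hlt (Nat.zero_le _)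
    exact Subgroup.index_inf_ne_zero hA hB h0
  · apply Nat.le_of_dvd (Nat.pos_of_ne_zero h0)
    exact hcop.mul_dvd_of_dvd_of_dvd (Subgroup.index_dvd_of_le inf_le_left)
      (Subgroup.index_dvd_of_le inf_le_right)

/-- coprime indices: the group is the product of the two subgroups. -/
theorem exists_mul_of_coprime_index {G : Type*} [Group G] [Finite G] (A B : Subgroup G)
    (hcop : A.index.Coprime B.index) : ∀ x : G, ∃ a ∈ A, ∃ b ∈ B, x = a * b := by
  have h1 := index_inf_of_coprime A B hcop
  have h2 : (A ⊓ B).relIndex A * A.index = (A ⊓ B).index := Subgroup.relIndex_mul_index inf_le_left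
  rw [Subgroup.inf_relIndex_left, h1, mul_comm] at h2
  have hApos : 0 < A.index := Nat.pos_of_ne_zero Subgroup.index_ne_zero_of_finite
  have h3 : B.relIndex A = B.index := Nat.eq_of_mul_eq_mul_left hApos h2
  intro x
  refine exists_mul_of_relIndex_le A B ⊤ le_top ?_ x (Subgroup.mem_top x)
  rw [Subgroup.relIndex_top_right, h3]

section CS

variable {G : Type*} [Group G]

theorem isComplementSystem_conj {K : Nat.Primes → Subgroup G} (hK : Cfsg.IsComplementSystem K)
    (g : G) : Cfsg.IsComplementSystem (fun p => MulAut.conj g • K p) := by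
  intro p
  rw [index_conj_smul]
  exact hK p

theorem IsComplementSystem.eq_top_of_lt [Finite G] {K : Nat.Primes → Subgroup G}
    (hK : Cfsg.IsComplementSystem K) (p : Nat.Primes) (hp : Nat.card G < p) : K p = ⊤ := by
  rw [← Subgroup.index_eq_one, hK p, Nat.factorization_eq_zero_of_lt hp, pow_zero]

theorem IsComplementSystem.card_coprime [Finite G] {K : Nat.Primes → Subgroup G}
    (hK : Cfsg.IsComplementSystem K) (p : Nat.Primes) :
    (Nat.card (K p)).Coprime ((p : ℕ) ^ (Nat.card G).factorization p) := by
  have h1 := Subgroup.card_mul_index (K p)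
  rw [hK p] at h1
  have h2 : Nat.card (K p) = Nat.card G / (p : ℕ) ^ (Nat.card G).factorization p :=
    (Nat.div_eq_of_eq_mul_left (pow_pos p.2.pos _) h1.symm).symm
  rw [h2]
  exact (Nat.Coprime.pow_left _ (Nat.coprime_ordCompl p.2 Nat.card_pos.ne')).symm

/-- Hall `p`-complements of a finite solvable group are conjugate. -/
theorem IsComplementSystem.exists_conj [Finite G] [Group.IsSolvable G]
    {K L : Nat.Primes → Subgroup G}
    (hK : Cfsg.IsComplementSystem K) (hL : Cfsg.IsComplementSystem L) (p : Nat.Primes) :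
    ∃ g : G, MulAut.conj g • K p = L p := by
  have h1 := Subgroup.card_mul_index (K p)
  have h2 := Subgroup.card_mul_index (L p)
  rw [hK p] at h1
  rw [hL p] at h2
  have hpos : 0 < (p : ℕ) ^ (Nat.card G).factorization p := pow_pos p.2.pos _
  have h3 : Nat.card (L p) = Nat.card (K p) := by
    apply Nat.eq_of_mul_eq_mul_right hpos
    rw [h1, h2]
  exact (Cfsg.Agent.Lib.Lead.hallProp_of_solvable G _ _ h1.symm (IsComplementSystem.card_coprime hK p)).1 (K p) (L p)
    rfl h3

/-- intersection of the members `L p` with `p < n`. -/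
noncomputable def partialInf (L : Nat.Primes → Subgroup G) : ℕ → Subgroup G
  | 0 => ⊤
  | n + 1 => if h : n.Prime then partialInf L n ⊓ L ⟨n, h⟩ else partialInf L n

theorem partialInf_le (L : Nat.Primes → Subgroup G) (n : ℕ) (p : Nat.Primes) (hp : (p : ℕ) < n) :
    partialInf L n ≤ L p := by
  induction n with
  | zero => omega
  | succ n ih =>
    rw [partialInf]
    by_cases h : n.Prime
    · rw [dif_pos h]
      rcases Nat.lt_succ_iff_lt_or_eq.mp hp with h1 | h1
      · exact inf_le_left.trans (ih h1)
      · have : p = ⟨n, h⟩ := Subtype.ext h1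
        rw [this]; exact inf_le_right
    · rw [dif_neg h]
      rcases Nat.lt_succ_iff_lt_or_eq.mp hp with h1 | h1
      · exact ih h1
      · exact absurd (h1 ▸ p.2) h

theorem partialInf_index [Finite G] {L : Nat.Primes → Subgroup G} (hL : Cfsg.IsComplementSystem L)
    (n : ℕ) : ∀ r : ℕ, r.Prime → r ∣ (partialInf L n).index → r < n := by
  induction n with
  | zero =>
    intro r hr hd
    rw [partialInf, Subgroup.index_top] at hd
    exact absurd (Nat.dvd_one.mp hd) hr.one_lt.ne'
  | succ n ih =>
    intro r hr hd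
    rw [partialInf] at hd
    by_cases h : n.Prime
    · rw [dif_pos h] at hd
      have hcop : (partialInf L n).index.Coprime (L ⟨n, h⟩).index := by
        rw [hL ⟨n, h⟩]
        apply Nat.Coprime.pow_right
        rw [Nat.coprime_comm, Nat.Prime.coprime_iff_not_dvd h]
        intro hdv
        exact lt_irrefl _ (ih n h hdv)
      rw [index_inf_of_coprime _ _ hcop, hL ⟨n, h⟩] at hd
      rcases (Nat.Prime.dvd_mul hr).mp hd with h1 | h1
      · exact (ih r hr h1).trans (Nat.lt_succ_self n)
      · have := (Nat.prime_dvd_prime_iff_eq hr h).mp (hr.dvd_of_dvd_pow h1)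
        change r = n at this
        omega
    · rw [dif_neg h] at hd
      exact (ih r hr hd).trans (Nat.lt_succ_self n)

/-- Any two Hall complement systems of a finite solvable group are simultaneously conjugate
(bounded version). -/
theorem IsComplementSystem.exists_conj_lt [Finite G] [Group.IsSolvable G] (n : ℕ) :
    ∀ K L : Nat.Primes → Subgroup G, Cfsg.IsComplementSystem K → Cfsg.IsComplementSystem L →
      ∃ g : G, ∀ p : Nat.Primes, (p : ℕ) < n → MulAut.conj g • K p = L p := by
  induction n with
  | zero => intro K L _ _; exact ⟨1, fun p hp => absurd hp (Nat.not_lt_zero _)⟩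
  | succ n ih =>
    intro K L hK hL
    obtain ⟨g, hg⟩ := ih K L hK hL
    by_cases hn : n.Prime
    · set q : Nat.Primes := ⟨n, hn⟩ with hq
      have hK' := isComplementSystem_conj hK g
      obtain ⟨x, hx⟩ := IsComplementSystem.exists_conj hK' hL q
      have hcop : (partialInf L n).index.Coprime (MulAut.conj g • K q).index := by
        rw [hK' q]
        apply Nat.Coprime.pow_right
        rw [Nat.coprime_comm, Nat.Prime.coprime_iff_not_dvd hn]
        intro hdv
        exact lt_irrefl _ (partialInf_index hL n n hn hdv)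
      obtain ⟨d, hd, k, hk, hxdk⟩ := exists_mul_of_coprime_index _ _ hcop x
      refine ⟨d * g, ?_⟩
      intro p hp
      rw [map_mul, mul_smul]
      rcases Nat.lt_succ_iff_lt_or_eq.mp hp with h1 | h1
      · rw [hg p h1]
        exact Subgroup.conj_smul_eq_self_of_mem (partialInf_le L n p h1 hd)
      · have : p = q := Subtype.ext h1
        rw [this, ← hx, hxdk, map_mul, mul_smul, Subgroup.conj_smul_eq_self_of_mem hk]
    · refine ⟨g, ?_⟩
      intro p hp
      rcases Nat.lt_succ_iff_lt_or_eq.mp hp with h1 | h1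
      · exact hg p h1
      · exact absurd (h1 ▸ p.2) hn

/-- Any two Hall complement systems of a finite solvable group are simultaneously conjugate. -/
theorem IsComplementSystem.exists_conj_all [Finite G] [Group.IsSolvable G]
    {K L : Nat.Primes → Subgroup G} (hK : Cfsg.IsComplementSystem K)
    (hL : Cfsg.IsComplementSystem L) : ∃ g : G, ∀ p : Nat.Primes, MulAut.conj g • K p = L p := by
  obtain ⟨g, hg⟩ := IsComplementSystem.exists_conj_lt (Nat.card G + 1) K L hK hL
  refine ⟨g, fun p => ?_⟩
  by_cases hp : (p : ℕ) < Nat.card G + 1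
  · exact hg p hp
  · have hlt : Nat.card G < p := by omega
    rw [IsComplementSystem.eq_top_of_lt hK p hlt, IsComplementSystem.eq_top_of_lt hL p hlt]
    exact Subgroup.conj_smul_eq_self_of_mem (Subgroup.mem_top g)

/-! ### relative versions (conjugacy by elements of a normal subgroup) -/

theorem relIndex_inf_of_coprime (A B N : Subgroup G)
    (hcop : (A.relIndex N).Coprime (B.relIndex N)) :
    (A ⊓ B).relIndex N = A.relIndex N * B.relIndex N :=
  index_inf_of_coprime (A.subgroupOf N) (B.subgroupOf N) hcop

theorem exists_mul_of_coprime_relIndex [Finite G] (A B N : Subgroup G)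
    (hcop : (A.relIndex N).Coprime (B.relIndex N)) :
    ∀ x ∈ N, ∃ a ∈ A ⊓ N, ∃ b ∈ B ⊓ N, x = a * b := by
  intro x hx
  obtain ⟨a, ha, b, hb, hab⟩ :=
    exists_mul_of_coprime_index (A.subgroupOf N) (B.subgroupOf N) hcop ⟨x, hx⟩
  refine ⟨a, ⟨ha, a.2⟩, b, ⟨hb, b.2⟩, ?_⟩
  have := congrArg Subtype.val hab
  simpa using this

theorem relIndex_sup_left_of_le_normalizer [Finite G] (H N : Subgroup G)
    (h : H ≤ Subgroup.normalizer (N : Set G)) : H.relIndex (H ⊔ N) = H.relIndex N := by
  have h0 := card_sup_mul_card_inf H N h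
  have h1 := Subgroup.relIndex_mul_relIndex ⊥ H (H ⊔ N) bot_le le_sup_left
  rw [Subgroup.relIndex_bot_left, Subgroup.relIndex_bot_left] at h1
  have h2 := Subgroup.relIndex_mul_relIndex ⊥ (H ⊓ N) N bot_le inf_le_right
  rw [Subgroup.relIndex_bot_left, Subgroup.relIndex_bot_left, Subgroup.inf_relIndex_right] at h2
  rw [← h1, ← h2] at h0
  have hpos : 0 < Nat.card H * Nat.card (H ⊓ N : Subgroup G) :=
    Nat.mul_pos Nat.card_pos Nat.card_pos
  apply Nat.eq_of_mul_eq_mul_left hpos
  calc Nat.card H * Nat.card (H ⊓ N : Subgroup G) * H.relIndex (H ⊔ N)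
      = Nat.card H * H.relIndex (H ⊔ N) * Nat.card (H ⊓ N : Subgroup G) := by ring
    _ = Nat.card H * (Nat.card (H ⊓ N : Subgroup G) * H.relIndex N) := h0
    _ = Nat.card H * Nat.card (H ⊓ N : Subgroup G) * H.relIndex N := by ring

theorem IsComplementSystem.relIndex_eq_pow [Finite G] {K : Nat.Primes → Subgroup G}
    (hK : Cfsg.IsComplementSystem K) (N : Subgroup G) [hN : N.Normal] (p : Nat.Primes) :
    ∃ k : ℕ, (K p).relIndex N = (p : ℕ) ^ k := by
  have h1 : (K p).relIndex (K p ⊔ N) = (K p).relIndex N :=
    relIndex_sup_left_of_le_normalizer (K p) N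
      (by rw [Subgroup.normalizer_eq_top_iff.mpr hN]; exact le_top)
  have h2 : (K p).relIndex (K p ⊔ N) ∣ (K p).index := Subgroup.relIndex_dvd_index_of_le le_sup_left
  rw [h1, hK p] at h2
  obtain ⟨m, -, hm⟩ := (Nat.dvd_prime_pow p.2).mp h2
  exact ⟨m, hm⟩

theorem partialInf_relIndex [Finite G] {L : Nat.Primes → Subgroup G}
    (hL : Cfsg.IsComplementSystem L) (N : Subgroup G) [N.Normal]
    (n : ℕ) : ∀ r : ℕ, r.Prime → r ∣ (partialInf L n).relIndex N → r < n := by
  induction n with
  | zero =>
    intro r hr hd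
    rw [partialInf, Subgroup.relIndex_top_left] at hd
    exact absurd (Nat.dvd_one.mp hd) hr.one_lt.ne'
  | succ n ih =>
    intro r hr hd
    rw [partialInf] at hd
    by_cases h : n.Prime
    · rw [dif_pos h] at hd
      obtain ⟨k, hk⟩ := IsComplementSystem.relIndex_eq_pow hL N ⟨n, h⟩
      have hcop : ((partialInf L n).relIndex N).Coprime ((L ⟨n, h⟩).relIndex N) := by
        rw [hk]
        apply Nat.Coprime.pow_right
        rw [Nat.coprime_comm, Nat.Prime.coprime_iff_not_dvd h]
        intro hdv
        exact lt_irrefl _ (ih n h hdv)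
      rw [relIndex_inf_of_coprime _ _ _ hcop, hk] at hd
      rcases (Nat.Prime.dvd_mul hr).mp hd with h1 | h1
      · exact (ih r hr h1).trans (Nat.lt_succ_self n)
      · have := (Nat.prime_dvd_prime_iff_eq hr h).mp (hr.dvd_of_dvd_pow h1)
        change r = n at this
        omega
    · rw [dif_neg h] at hd
      exact (ih r hr hd).trans (Nat.lt_succ_self n)

theorem sup_conj_smul_of_mem {K L N : Subgroup G} [hN : N.Normal] {g : G} (hg : g ∈ N)
    (h : K ⊔ N = L ⊔ N) : MulAut.conj g • K ⊔ N = L ⊔ N := by
  have h1 : MulAut.conj g • N = N := Cfsg.Agent.Lib.Lead.conj_smul_normal g N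
  have h2 : MulAut.conj g • (K ⊔ N) = K ⊔ N :=
    Subgroup.conj_smul_eq_self_of_mem (le_sup_right (a := K) hg)
  rw [Subgroup.smul_sup, h1] at h2
  rw [h2, h]

/-- Two Hall complement systems of a finite solvable group with the same images modulo the normal
subgroup `N` are simultaneously conjugate under `N` (bounded version). -/
theorem IsComplementSystem.exists_conj_mem_lt [Finite G] [Group.IsSolvable G]
    (N : Subgroup G) [hN : N.Normal] (n : ℕ) :
    ∀ K L : Nat.Primes → Subgroup G, Cfsg.IsComplementSystem K → Cfsg.IsComplementSystem L →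
      (∀ p, K p ⊔ N = L p ⊔ N) →
      ∃ g ∈ N, ∀ p : Nat.Primes, (p : ℕ) < n → MulAut.conj g • K p = L p := by
  induction n with
  | zero => intro K L _ _ _; exact ⟨1, N.one_mem, fun p hp => absurd hp (Nat.not_lt_zero _)⟩
  | succ n ih =>
    intro K L hK hL hsup
    obtain ⟨g, hgN, hg⟩ := ih K L hK hL hsup
    by_cases hn : n.Prime
    · set q : Nat.Primes := ⟨n, hn⟩ with hq
      have hK' := isComplementSystem_conj hK g
      have hsup' : MulAut.conj g • K q ⊔ N = L q ⊔ N := sup_conj_smul_of_mem hgN (hsup q)
      -- conjugacy inside `H = L q ⊔ N`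
      have hKH : MulAut.conj g • K q ≤ L q ⊔ N := hsup' ▸ le_sup_left
      have hLH : L q ≤ L q ⊔ N := le_sup_left
      have hcardKL : Nat.card (L q) = Nat.card (MulAut.conj g • K q : Subgroup G) := by
        have h1 := Subgroup.card_mul_index (MulAut.conj g • K q)
        have h2 := Subgroup.card_mul_index (L q)
        rw [hK' q] at h1
        rw [hL q] at h2
        have hpos : 0 < (q : ℕ) ^ (Nat.card G).factorization q := pow_pos q.2.pos _
        apply Nat.eq_of_mul_eq_mul_right hpos
        rw [h1, h2]
      have hcardH : Nat.card (L q ⊔ N : Subgroup G) =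
          Nat.card (MulAut.conj g • K q : Subgroup G) *
            (MulAut.conj g • K q).relIndex (L q ⊔ N) := by
        have := Subgroup.card_mul_index ((MulAut.conj g • K q).subgroupOf (L q ⊔ N))
        rw [card_subgroupOf_of_le hKH] at this
        exact this.symm
      have hcopH : (Nat.card (MulAut.conj g • K q : Subgroup G)).Coprime
          ((MulAut.conj g • K q).relIndex (L q ⊔ N)) := by
        have h1 := IsComplementSystem.card_coprime hK' q
        have h2 : (MulAut.conj g • K q).relIndex (L q ⊔ N) ∣ (MulAut.conj g • K q).index :=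
          Subgroup.relIndex_dvd_index_of_le hKH
        rw [hK' q] at h2
        exact Nat.Coprime.coprime_dvd_right h2 h1
      obtain ⟨h, hhH, hh⟩ := Cfsg.Agent.Lib.Lead.conj_of_conj_subgroupOf hKH hLH
        ((Cfsg.Agent.Lib.Lead.hallProp_of_solvable (L q ⊔ N : Subgroup G) _ _ hcardH hcopH).1
          ((MulAut.conj g • K q).subgroupOf (L q ⊔ N)) ((L q).subgroupOf (L q ⊔ N))
          (card_subgroupOf_of_le hKH) ((card_subgroupOf_of_le hLH).trans hcardKL))
      rw [← hsup', sup_comm, Subgroup.mem_sup_of_normal_left] at hhH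
      obtain ⟨y, hyN, z, hz, hyz⟩ := hhH
      have hy : MulAut.conj y • (MulAut.conj g • K q) = L q := by
        rw [← hh, ← hyz, map_mul, mul_smul, Subgroup.conj_smul_eq_self_of_mem hz]
      -- decompose `y`
      obtain ⟨k, hk⟩ := IsComplementSystem.relIndex_eq_pow hK' N q
      have hcop : ((partialInf L n).relIndex N).Coprime ((MulAut.conj g • K q).relIndex N) := by
        rw [hk]
        apply Nat.Coprime.pow_right
        rw [Nat.coprime_comm, Nat.Prime.coprime_iff_not_dvd hn]
        intro hdv
        exact lt_irrefl _ (partialInf_relIndex hL N n n hn hdv)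
      obtain ⟨d, hd, b, hb, hydb⟩ := exists_mul_of_coprime_relIndex _ _ N hcop y hyN
      refine ⟨d * g, N.mul_mem hd.2 hgN, ?_⟩
      intro p hp
      rw [map_mul, mul_smul]
      rcases Nat.lt_succ_iff_lt_or_eq.mp hp with h1 | h1
      · rw [hg p h1]
        exact Subgroup.conj_smul_eq_self_of_mem (partialInf_le L n p h1 hd.1)
      · have : p = q := Subtype.ext h1
        rw [this, ← hy, hydb, map_mul, mul_smul, Subgroup.conj_smul_eq_self_of_mem hb.1]
    · refine ⟨g, hgN, ?_⟩
      intro p hp
      rcases Nat.lt_succ_iff_lt_or_eq.mp hp with h1 | h1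
      · exact hg p h1
      · exact absurd (h1 ▸ p.2) hn

/-- Two Hall complement systems of a finite solvable group with the same images modulo the normal
subgroup `N` are simultaneously conjugate under `N`. -/
theorem IsComplementSystem.exists_conj_mem_all [Finite G] [Group.IsSolvable G]
    (N : Subgroup G) [hN : N.Normal]
    {K L : Nat.Primes → Subgroup G} (hK : Cfsg.IsComplementSystem K)
    (hL : Cfsg.IsComplementSystem L) (hsup : ∀ p, K p ⊔ N = L p ⊔ N) :
    ∃ g ∈ N, ∀ p : Nat.Primes, MulAut.conj g • K p = L p := by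
  obtain ⟨g, hgN, hg⟩ := IsComplementSystem.exists_conj_mem_lt N (Nat.card G + 1) K L hK hL hsup
  refine ⟨g, hgN, fun p => ?_⟩
  by_cases hp : (p : ℕ) < Nat.card G + 1
  · exact hg p hp
  · have hlt : Nat.card G < p := by omega
    rw [IsComplementSystem.eq_top_of_lt hK p hlt, IsComplementSystem.eq_top_of_lt hL p hlt]
    exact Subgroup.conj_smul_eq_self_of_mem (Subgroup.mem_top g)

theorem IsComplementSystem.not_dvd_card [Finite G] {K : Nat.Primes → Subgroup G}
    (hK : Cfsg.IsComplementSystem K) (p : Nat.Primes) : ¬ (p : ℕ) ∣ Nat.card (K p) := by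
  have h1 := Subgroup.card_mul_index (K p)
  rw [hK p] at h1
  have h2 : Nat.card (K p) = Nat.card G / (p : ℕ) ^ (Nat.card G).factorization p :=
    (Nat.div_eq_of_eq_mul_left (pow_pos p.2.pos _) h1.symm).symm
  rw [h2]
  exact Nat.not_dvd_ordCompl p.2 Nat.card_pos.ne'

theorem mem_systemNormalizer_iff {K : Nat.Primes → Subgroup G} {g : G} :
    g ∈ Cfsg.systemNormalizer K ↔ ∀ p, MulAut.conj g • K p = K p := by
  unfold Cfsg.systemNormalizer
  rw [Subgroup.mem_iInf]
  exact forall_congr' fun p => Cfsg.Agent.Lib.Lead.mem_normalizer_iff_conj_smul g (K p)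

/-- The image of a Hall complement system in a quotient is a Hall complement system. -/
theorem isComplementSystem_map_mk [Finite G] {K : Nat.Primes → Subgroup G}
    (hK : Cfsg.IsComplementSystem K) (N : Subgroup G) [N.Normal] :
    Cfsg.IsComplementSystem (fun p => (K p).map (QuotientGroup.mk' N)) := by
  intro p
  set π := QuotientGroup.mk' N with hπ
  have h1 : ((K p).map π).index = (K p ⊔ N).index := by
    rw [Subgroup.index_map, hπ, QuotientGroup.ker_mk',
      MonoidHom.range_eq_top.mpr (QuotientGroup.mk'_surjective N), Subgroup.index_top, mul_one]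
  have h2 : (K p ⊔ N).index ∣ (K p).index := Subgroup.index_dvd_of_le le_sup_left
  rw [hK p] at h2
  obtain ⟨m, -, hm⟩ := (Nat.dvd_prime_pow p.2).mp h2
  have h3 := Subgroup.card_mul_index ((K p).map π)
  have h4 : ¬ (p : ℕ) ∣ Nat.card ((K p).map π) := fun hd =>
    IsComplementSystem.not_dvd_card hK p (hd.trans (Subgroup.card_map_dvd (K p) π))
  change ((K p).map π).index = (p : ℕ) ^ (Nat.card (G ⧸ N)).factorization p
  rw [← h3, Nat.factorization_mul Nat.card_pos.ne' Subgroup.index_ne_zero_of_finite, h1, hm,
    Finsupp.add_apply, Nat.factorization_eq_zero_of_not_dvd h4, zero_add,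
    p.2.factorization_pow, Finsupp.single_eq_same]

/-- The system normalizer of the image system is the image of the system normalizer. -/
theorem systemNormalizer_map_mk [Finite G] [Group.IsSolvable G] {K : Nat.Primes → Subgroup G}
    (hK : Cfsg.IsComplementSystem K) (N : Subgroup G) [N.Normal] :
    Cfsg.systemNormalizer (fun p => (K p).map (QuotientGroup.mk' N)) =
      (Cfsg.systemNormalizer K).map (QuotientGroup.mk' N) := by
  set π := QuotientGroup.mk' N with hπ
  apply le_antisymm
  · intro xbar hx
    obtain ⟨x, rfl⟩ := QuotientGroup.mk'_surjective N xbar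
    rw [mem_systemNormalizer_iff] at hx
    have hK' := isComplementSystem_conj hK x
    have hsup : ∀ p, MulAut.conj x • K p ⊔ N = K p ⊔ N := by
      intro p
      have h1 : MulAut.conj (π x) • (K p).map π = (K p).map π := hx p
      rw [← Cfsg.Agent.Lib.Lead.map_conj_smul] at h1
      have h2 := congrArg (Subgroup.comap π) h1
      rwa [Cfsg.Agent.Lib.Lead.comap_map_mk, Cfsg.Agent.Lib.Lead.comap_map_mk] at h2
    obtain ⟨n, hnN, hn⟩ := IsComplementSystem.exists_conj_mem_all N hK' hK hsup
    refine ⟨n * x, ?_, ?_⟩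
    · rw [SetLike.mem_coe, mem_systemNormalizer_iff]
      intro p
      rw [map_mul, mul_smul]
      exact hn p
    · rw [map_mul, hπ, QuotientGroup.mk'_apply, QuotientGroup.mk'_apply,
        (QuotientGroup.eq_one_iff n).mpr hnN, one_mul]
  · rintro _ ⟨d, hd, rfl⟩
    rw [SetLike.mem_coe, mem_systemNormalizer_iff] at hd
    rw [mem_systemNormalizer_iff]
    intro p
    change MulAut.conj (π d) • (K p).map π = (K p).map π
    rw [← Cfsg.Agent.Lib.Lead.map_conj_smul, hd p]

end CS

end Cfsg.Agent.Lib.Helper2
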