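import Mathlib
import Cfsg.Prelude
import Cfsg.Agent.Lib.Helper2.Basic
import Cfsg.Agent.Lib.Lead.Frobenius2
import Cfsg.Agent.Lib.Lead.CoprimeSylow

set_option autoImplicit false
open Pointwise

namespace Cfsg.Agent.Lib.Helper2.Schmidt

open Cfsg.Agent.Lib.Lead

section
variable {G : Type*} [Group G]

/-- Normalizers grow in nilpotent subgroups. -/
theorem nilpotent_normalizer_grows (P U : Subgroup G) (hP : Group.IsNilpotent P)
    (hUP : U < P) : U < P ⊓ Subgroup.normalizer (U : Set G) := by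
  have hnc : NormalizerCondition P := normalizerCondition_of_isNilpotent
  have hlt : U.subgroupOf P < ⊤ := by
    rw [lt_top_iff_ne_top, Ne, Subgroup.subgroupOf_eq_top]
    exact not_le_of_gt hUP
  have h1 := hnc _ hlt
  rw [← Subgroup.subgroupOf_normalizer_eq hUP.le] at h1
  have h2 := (Subgroup.map_lt_map_iff_of_injective P.subtype_injective).mpr h1
  rw [Subgroup.subgroupOf_map_subtype, Subgroup.subgroupOf_map_subtype,
    inf_eq_left.mpr hUP.le, inf_comm] at h2
  exact h2

theorem exists_coatom_ge [Finite G] (H : Subgroup G) (hH : H ≠ ⊤) :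
    ∃ M : Subgroup G, IsCoatom M ∧ H ≤ M := by
  rcases eq_top_or_exists_le_coatom H with h | ⟨M, hM, hHM⟩
  · exact absurd h hH
  · exact ⟨M, hM, hHM⟩

/-- In a simple group whose maximal subgroups are nilpotent, distinct maximal subgroups meet
trivially. -/
theorem coatom_inf_eq_bot [Finite G] (hsimple : ∀ N : Subgroup G, N.Normal → N = ⊥ ∨ N = ⊤)
    (h : ∀ M : Subgroup G, IsCoatom M → Group.IsNilpotent M) :
    ∀ (n : ℕ) (M₁ M₂ : Subgroup G), IsCoatom M₁ → IsCoatom M₂ → M₁ ≠ M₂ →
      Nat.card G - Nat.card (M₁ ⊓ M₂ : Subgroup G) = n → M₁ ⊓ M₂ = ⊥ := by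
  intro n
  induction n using Nat.strong_induction_on with
  | _ n ih =>
  intro M₁ M₂ hM₁ hM₂ hne hn
  by_contra hD
  set D := M₁ ⊓ M₂ with hDdef
  have hDlt₁ : D < M₁ := by
    refine lt_of_le_of_ne inf_le_left ?_
    intro hD1
    have : M₁ ≤ M₂ := by rw [← hD1]; exact inf_le_right
    rcases eq_or_lt_of_le this with h1 | h1
    · exact hne h1
    · exact hM₂.1 (hM₁.2 _ h1)
  have hDlt₂ : D < M₂ := by
    refine lt_of_le_of_ne inf_le_right ?_
    intro hD1
    have : M₂ ≤ M₁ := by rw [← hD1]; exact inf_le_left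
    rcases eq_or_lt_of_le this with h1 | h1
    · exact hne h1.symm
    · exact hM₁.1 (hM₂.2 _ h1)
  have hNtop : Subgroup.normalizer (D : Set G) ≠ ⊤ := by
    intro hN
    have hDn : D.Normal := Subgroup.normalizer_eq_top_iff.mp hN
    rcases hsimple D hDn with h1 | h1
    · exact hD h1
    · rw [h1] at hDlt₁
      exact not_top_lt hDlt₁
  obtain ⟨M, hM, hNM⟩ := exists_coatom_ge _ hNtop
  have key : ∀ M' : Subgroup G, IsCoatom M' → D < M' → M = M' := by
    intro M' hM' hDM'
    by_contra hMM'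
    have h1 := nilpotent_normalizer_grows M' D (h M' hM') hDM'
    have h2 : M' ⊓ Subgroup.normalizer (D : Set G) ≤ M ⊓ M' :=
      le_inf (inf_le_right.trans hNM) inf_le_left
    have h3 : D < M ⊓ M' := lt_of_lt_of_le h1 h2
    have h4 : Nat.card D < Nat.card (M ⊓ M' : Subgroup G) := by
      have := Subgroup.card_dvd_of_le h3.le
      rcases eq_or_lt_of_le (Nat.le_of_dvd Nat.card_pos this) with h5 | h5
      · exfalso
        exact h3.ne (Subgroup.eq_of_le_of_card_ge h3.le h5.ge)
      · exact h5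
    have h5 : Nat.card (M ⊓ M' : Subgroup G) ≤ Nat.card G := Subgroup.card_le_card_group _
    have h6 := ih (Nat.card G - Nat.card (M ⊓ M' : Subgroup G)) (by omega) M M' hM hM' hMM' rfl
    rw [h6] at h3
    exact not_lt_bot h3
  exact hne ((key M₁ hM₁ hDlt₁).symm.trans (key M₂ hM₂ hDlt₂))

theorem conj_smul_top (g : G) : MulAut.conj g • (⊤ : Subgroup G) = ⊤ := by
  rw [eq_top_iff]
  intro x _
  rw [Subgroup.mem_pointwise_smul_iff_inv_smul_mem]
  trivial

theorem isCoatom_conj_smul {M : Subgroup G} (hM : IsCoatom M) (g : G) :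
    IsCoatom (MulAut.conj g • M) := by
  constructor
  · intro h
    apply hM.1
    rw [← conj_smul_top g] at h
    exact smul_left_cancel _ h
  · intro K hK
    have h1 : M ≤ (MulAut.conj g)⁻¹ • K := Subgroup.pointwise_smul_subset_iff.mp hK.le
    have h2 : M ≠ (MulAut.conj g)⁻¹ • K := by
      intro h
      apply hK.ne
      rw [h, smul_inv_smul]
    have h3 := hM.2 _ (lt_of_le_of_ne h1 h2)
    have h4 : K = MulAut.conj g • ((MulAut.conj g)⁻¹ • K) := by rw [smul_inv_smul]
    rw [h4, h3, conj_smul_top]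

/-- In a non-cyclic simple group whose maximal subgroups are nilpotent, every maximal subgroup is
a Frobenius complement. -/
theorem isFrobeniusComplement_of_coatom [Finite G]
    (hsimple : ∀ N : Subgroup G, N.Normal → N = ⊥ ∨ N = ⊤)
    (h : ∀ M : Subgroup G, IsCoatom M → Group.IsNilpotent M)
    (hbot : ¬ IsCoatom (⊥ : Subgroup G)) {M : Subgroup G} (hM : IsCoatom M) :
    Cfsg.IsFrobeniusComplement M := by
  have hMbot : M ≠ ⊥ := fun h0 => hbot (h0 ▸ hM)
  refine ⟨hMbot, hM.1, ?_⟩
  intro g hg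
  refine coatom_inf_eq_bot hsimple h _ M (MulAut.conj g • M) hM (isCoatom_conj_smul hM g) ?_ rfl
  intro heq
  have hgN : g ∈ Subgroup.normalizer (M : Set G) := by
    rw [mem_normalizer_iff_conj_smul]
    exact heq.symm
  rcases eq_or_lt_of_le (Subgroup.le_normalizer (H := M)) with h1 | h1
  · rw [← h1] at hgN
    exact hg hgN
  · have h2 := hM.2 _ h1
    have hMn : M.Normal := Subgroup.normalizer_eq_top_iff.mp h2
    rcases hsimple M hMn with h3 | h3
    · exact hMbot h3
    · exact hM.1 h3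

/-- A non-cyclic finite group whose maximal subgroups are all nilpotent is not simple. -/
theorem false_of_simple_of_coatoms_nilpotent [Finite G]
    (hsimple : ∀ N : Subgroup G, N.Normal → N = ⊥ ∨ N = ⊤)
    (h : ∀ M : Subgroup G, IsCoatom M → Group.IsNilpotent M)
    (hnc : ∀ x : G, Subgroup.zpowers x ≠ ⊤) : False := by
  have hbot : ¬ IsCoatom (⊥ : Subgroup G) := by
    intro hb
    by_cases hx : ∃ x : G, x ≠ 1
    · obtain ⟨x, hx⟩ := hx
      have h1 : (⊥ : Subgroup G) < Subgroup.zpowers x := by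
        rw [bot_lt_iff_ne_bot, Ne, Subgroup.zpowers_eq_bot]
        exact hx
      exact hnc x (hb.2 _ h1)
    · push_neg at hx
      apply hb.1
      rw [eq_comm, eq_bot_iff]
      intro y _
      rw [Subgroup.mem_bot]; exact hx y
  have hne : (⊥ : Subgroup G) ≠ ⊤ := by
    intro h0
    apply hnc 1
    rw [Subgroup.zpowers_one_eq_bot]; exact h0
  obtain ⟨M, hM, -⟩ := exists_coatom_ge (⊥ : Subgroup G) hne
  have hF := isFrobeniusComplement_of_coatom hsimple h hbot hM
  have hcardK := card_frobeniusKernel hF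
  have hidx2 : 2 ≤ M.index := by
    have h0 : M.index ≠ 0 := Subgroup.index_ne_zero_of_finite
    have h1 : M.index ≠ 1 := by rw [Ne, Subgroup.index_eq_one]; exact hM.1
    omega
  have hone : (1 : G) ∈ Cfsg.frobeniusKernel M := Or.inl rfl
  obtain ⟨x, hxK, hx1⟩ : ∃ x ∈ Cfsg.frobeniusKernel M, x ≠ 1 := by
    haveI : Nontrivial (Cfsg.frobeniusKernel M) := by
      rw [← Finite.one_lt_card_iff_nontrivial, hcardK]; omega
    obtain ⟨y, hy⟩ := exists_ne (⟨1, hone⟩ : Cfsg.frobeniusKernel M)
    exact ⟨y.1, y.2, fun h0 => hy (Subtype.ext h0)⟩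
  obtain ⟨M', hM', hxM'⟩ := exists_coatom_ge _ (hnc x)
  have hF' := isFrobeniusComplement_of_coatom hsimple h hbot hM'
  have hcardK' := card_frobeniusKernel hF'
  have hxM'' : x ∈ M' := hxM' (Subgroup.mem_zpowers x)
  have hxno : ∀ g : G, x ∉ MulAut.conj g • M := by
    rcases hxK with h0 | h0
    · exact absurd h0 hx1
    · exact h0
  have hsub : (Cfsg.frobeniusKernel M')ᶜ ⊆ Cfsg.frobeniusKernel M \ {1} := by
    intro y hy
    rw [Set.mem_compl_iff, not_mem_frobeniusKernel_iff] at hy
    obtain ⟨hy1, k, hyk⟩ := hy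
    refine ⟨Or.inr ?_, hy1⟩
    intro g hyg
    by_cases heq : MulAut.conj g • M = MulAut.conj k • M'
    · apply hxno (k⁻¹ * g)
      rw [map_mul, mul_smul, heq, map_inv, inv_smul_smul]
      exact hxM''
    · have h0 := coatom_inf_eq_bot hsimple h _ _ _ (isCoatom_conj_smul hM g)
        (isCoatom_conj_smul hM' k) heq rfl
      have h1 : y ∈ MulAut.conj g • M ⊓ MulAut.conj k • M' := ⟨hyg, hyk⟩
      rw [h0, Subgroup.mem_bot] at h1
      exact hy1 h1
  have hle := Set.ncard_le_ncard hsub (Set.toFinite _)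
  rw [Set.ncard_compl, Set.ncard_diff_singleton_of_mem hone, ← Nat.card_coe_set_eq,
    ← Nat.card_coe_set_eq, hcardK, hcardK'] at hle
  have hMc : 2 ≤ Nat.card M := by
    have h0 : Nat.card M ≠ 1 := by rw [Ne, Subgroup.card_eq_one]; exact hF.1
    have h1 : 0 < Nat.card M := Nat.card_pos
    omega
  have hMc' : 2 ≤ Nat.card M' := by
    have h0 : Nat.card M' ≠ 1 := by rw [Ne, Subgroup.card_eq_one]; exact hF'.1
    have h1 : 0 < Nat.card M' := Nat.card_pos
    omega
  have e1 := M.card_mul_index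
  have e2 := M'.card_mul_index
  have hidx2' : 1 ≤ M'.index := Nat.pos_of_ne_zero Subgroup.index_ne_zero_of_finite
  have f1 : 2 * M.index ≤ Nat.card G := by
    rw [← e1]; exact Nat.mul_le_mul_right _ hMc
  have f2 : 2 * M'.index ≤ Nat.card G := by
    rw [← e2]; exact Nat.mul_le_mul_right _ hMc'
  omega

theorem isNilpotent_of_le {H K : Subgroup G} (hK : Group.IsNilpotent K) (h : H ≤ K) :
    Group.IsNilpotent H :=
  (Group.isNilpotent_congr (Subgroup.subgroupOfEquivOfLe h)).mp inferInstance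

theorem isNilpotent_map {G' : Type*} [Group G'] (f : G →* G') {M : Subgroup G}
    (hM : Group.IsNilpotent M) : Group.IsNilpotent (M.map f) :=
  Group.nilpotent_of_surjective (f.subgroupMap M) (f.subgroupMap_surjective M)

theorem isSolvable_of_zpowers_eq_top {x : G} (hx : Subgroup.zpowers x = ⊤) :
    Group.IsSolvable G := by
  apply Group.isSolvable_of_comm
  intro a b
  have ha : a ∈ Subgroup.zpowers x := by rw [hx]; trivial
  have hb : b ∈ Subgroup.zpowers x := by rw [hx]; trivial
  obtain ⟨i, rfl⟩ := ha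
  obtain ⟨j, rfl⟩ := hb
  exact (Commute.zpow_zpow_self x i j).eq

end

end Cfsg.Agent.Lib.Helper2.Schmidt


namespace Cfsg.Agent.Lib.Helper2.Schmidt

universe u

theorem isSolvable_of_coatoms_nilpotent_aux : ∀ (n : ℕ) (G : Type u) [Group G] [Finite G],
    Nat.card G = n → (∀ M : Subgroup G, IsCoatom M → Group.IsNilpotent M) →
    Group.IsSolvable G := by
  intro n
  induction n using Nat.strong_induction_on with
  | _ n ih =>
  intro G _ _ hcard h
  by_cases hs : ∃ N : Subgroup G, N.Normal ∧ N ≠ ⊥ ∧ N ≠ ⊤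
  · obtain ⟨N, hNn, hNbot, hNtop⟩ := hs
    obtain ⟨M, hM, hNM⟩ := exists_coatom_ge N hNtop
    have hN : Group.IsNilpotent N := isNilpotent_of_le (h M hM) hNM
    have hNs : Group.IsSolvable N := inferInstance
    have hlt : Nat.card (G ⧸ N) < n := by
      rw [← hcard, Subgroup.card_eq_card_quotient_mul_card_subgroup N]
      have h1 : 1 < Nat.card N := by
        have h0 : Nat.card N ≠ 1 := by rw [Ne, Subgroup.card_eq_one]; exact hNbot
        have : 0 < Nat.card N := Nat.card_pos
        omega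
      have h0 : 0 < Nat.card (G ⧸ N) := Nat.card_pos
      nlinarith
    have hQ : Group.IsSolvable (G ⧸ N) := by
      apply ih _ hlt (G ⧸ N) rfl
      intro M' hM'
      have hc := Cfsg.Agent.Lib.Helper2.isCoatom_comap_mk N hM'
      have := isNilpotent_map (QuotientGroup.mk' N) (h _ hc)
      rwa [Subgroup.map_comap_eq_self_of_surjective (QuotientGroup.mk'_surjective N)] at this
    exact Cfsg.Agent.Lib.Helper2.isSolvable_of_normal_of_quotient N hNs hQ
  · have hsimple : ∀ N : Subgroup G, N.Normal → N = ⊥ ∨ N = ⊤ := by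
      intro N hN
      by_contra hcon
      push Not at hcon
      exact hs ⟨N, hN, hcon.1, hcon.2⟩
    by_cases hc : ∃ x : G, Subgroup.zpowers x = ⊤
    · obtain ⟨x, hx⟩ := hc
      exact isSolvable_of_zpowers_eq_top hx
    · push Not at hc
      exact (false_of_simple_of_coatoms_nilpotent hsimple h hc).elim

/-- **Schmidt**: a finite group all of whose maximal subgroups are nilpotent is solvable. -/
theorem isSolvable_of_coatoms_nilpotent {G : Type u} [Group G] [Finite G]
    (h : ∀ M : Subgroup G, IsCoatom M → Group.IsNilpotent M) : Group.IsSolvable G :=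
  isSolvable_of_coatoms_nilpotent_aux _ G rfl h

end Cfsg.Agent.Lib.Helper2.Schmidt
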