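import Mathlib
import Cfsg.Prelude
import Cfsg.Agent.Lib.Helper2.Schmidt

set_option autoImplicit false
open Pointwise
open scoped commutatorElement

namespace Cfsg.Agent.Lib.Helper2.Schmidt

section
variable {G : Type*} [Group G]

/-- In a nilpotent join of a `p`-group and a `q`-group the two factors commute. -/
theorem commute_of_nilpotent_sup [Finite G] {p q : ℕ} [Fact p.Prime] [Fact q.Prime] (hpq : p ≠ q)
    (A B : Subgroup G) (hA : IsPGroup p A) (hB : IsPGroup q B)
    (hnil : Group.IsNilpotent (A ⊔ B : Subgroup G)) : ∀ a ∈ A, ∀ b ∈ B, a * b = b * a := by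
  intro a ha b hb
  set H : Subgroup G := A ⊔ B with hH
  have hA' : IsPGroup p (A.subgroupOf H) := hA.comap_subtype
  have hB' : IsPGroup q (B.subgroupOf H) := hB.comap_subtype
  obtain ⟨P', hP'⟩ := hA'.exists_le_sylow
  obtain ⟨Q', hQ'⟩ := hB'.exists_le_sylow
  have hdis : Disjoint (P' : Subgroup H) (Q' : Subgroup H) :=
    IsPGroup.disjoint_of_ne p q hpq _ _ P'.isPGroup' Q'.isPGroup'
  have haH : a ∈ H := (le_sup_left : A ≤ H) ha
  have hbH : b ∈ H := (le_sup_right : B ≤ H) hb
  have h1 : (⟨a, haH⟩ : H) ∈ (P' : Subgroup H) := hP' (Subgroup.mem_subgroupOf.mpr ha)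
  have h2 : (⟨b, hbH⟩ : H) ∈ (Q' : Subgroup H) := hQ' (Subgroup.mem_subgroupOf.mpr hb)
  have h3 := Subgroup.commute_of_normal_of_disjoint _ _ inferInstance inferInstance hdis _ _ h1 h2
  exact congrArg Subtype.val h3.eq

/-- A nontrivial finite solvable group has a normal subgroup of prime index. -/
theorem exists_normal_prime_index [Finite G] [Group.IsSolvable G] [Nontrivial G] :
    ∃ M : Subgroup G, M.Normal ∧ M.index.Prime := by
  have h1 : commutator G < ⊤ := Group.IsSolvable.commutator_lt_top_of_nontrivial G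
  obtain ⟨M, hM, hle⟩ := exists_coatom_ge (commutator G) h1.ne
  have hMn : M.Normal := by
    constructor
    intro m hm g
    have h2 : g * m * g⁻¹ = ⁅g, m⁆ * m := by simp [commutatorElement_def]
    rw [h2]
    refine mul_mem (hle ?_) hm
    rw [commutator_def]
    exact Subgroup.commutator_mem_commutator (Subgroup.mem_top g) (Subgroup.mem_top m)
  refine ⟨M, hMn, ?_⟩
  have hidx : M.index ≠ 1 := by rw [Ne, Subgroup.index_eq_one]; exact hM.1
  obtain ⟨r, hr, hrd⟩ := Nat.exists_prime_and_dvd hidx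
  haveI : Fact r.Prime := ⟨hr⟩
  rw [Subgroup.index_eq_card] at hrd
  obtain ⟨x, hx⟩ := exists_prime_orderOf_dvd_card' r hrd
  obtain ⟨g, rfl⟩ := QuotientGroup.mk_surjective x
  set K := (Subgroup.zpowers (QuotientGroup.mk g : G ⧸ M)).comap (QuotientGroup.mk' M) with hK
  have hMK : M ≤ K := Cfsg.Agent.Lib.Helper2.le_comap_mk M _
  have hgK : g ∈ K := by
    rw [hK, Subgroup.mem_comap]
    exact Subgroup.mem_zpowers _
  have hgM : g ∉ M := by
    intro hgM
    have : (QuotientGroup.mk g : G ⧸ M) = 1 := (QuotientGroup.eq_one_iff g).mpr hgM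
    rw [this, orderOf_one] at hx
    exact hr.one_lt.ne hx
  have hlt : M < K := lt_of_le_of_ne hMK (fun h => hgM (h ▸ hgK))
  have hKtop := hM.2 _ hlt
  have hz : Subgroup.zpowers (QuotientGroup.mk g : G ⧸ M) = ⊤ := by
    have := Subgroup.map_comap_eq_self_of_surjective (QuotientGroup.mk'_surjective M)
      (Subgroup.zpowers (QuotientGroup.mk g : G ⧸ M))
    rw [← hK, hKtop, Subgroup.map_top_of_surjective _ (QuotientGroup.mk'_surjective M)] at this
    exact this.symm
  rw [Subgroup.index_eq_card, ← Subgroup.card_top (G := G ⧸ M), ← hz, Nat.card_zpowers, hx]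
  exact hr

/-- If `M` is a nilpotent normal subgroup of prime index `r`, then for each prime `s ≠ r` the
Sylow `s`-subgroups of `G` are normal. -/
theorem sylow_normal_of_nilpotent_prime_index [Finite G] (M : Subgroup G) [hMn : M.Normal]
    {r : ℕ} (hr : M.index = r) (hrp : r.Prime) (hnil : Group.IsNilpotent M)
    {s : ℕ} [Fact s.Prime] (hsr : s ≠ r) (S : Sylow s G) : (S : Subgroup G).Normal := by
  have hs : s.Prime := Fact.out
  have hle : ∀ S : Sylow s G, (S : Subgroup G) ≤ M := by
    intro S x hx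
    obtain ⟨k, hk⟩ := S.isPGroup' ⟨x, hx⟩
    have hk' : x ^ s ^ k = 1 := congrArg Subtype.val hk
    have h1 : orderOf (QuotientGroup.mk x : G ⧸ M) ∣ s ^ k := by
      apply orderOf_dvd_of_pow_eq_one
      rw [← QuotientGroup.mk_pow, hk']
      rfl
    have h2 : orderOf (QuotientGroup.mk x : G ⧸ M) ∣ r := by
      rw [← hr, Subgroup.index_eq_card]
      exact orderOf_dvd_natCard _
    have hcop : (s ^ k).Coprime r :=
      Nat.Coprime.pow_left _ ((Nat.coprime_primes hs hrp).mpr hsr)
    have h3 : orderOf (QuotientGroup.mk x : G ⧸ M) = 1 := Nat.eq_one_of_dvd_coprimes hcop h1 h2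
    exact (QuotientGroup.eq_one_iff x).mp (orderOf_eq_one_iff.mp h3)
  haveI : Subsingleton (Sylow s G) := by
    constructor
    intro S₁ S₂
    have hn : ((S₁.subtype (hle S₁) : Sylow s M) : Subgroup M).Normal := inferInstance
    haveI := Sylow.unique_of_normal _ hn
    exact Sylow.subtype_injective (Subsingleton.elim (S₁.subtype (hle S₁)) (S₂.subtype (hle S₂)))
  exact Sylow.normal_of_subsingleton S

/-- A subgroup containing a Sylow `r`-subgroup for every prime `r` is everything. -/
theorem eq_top_of_forall_sylow_le [Finite G] (H : Subgroup G)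
    (h : ∀ (r : ℕ) [Fact r.Prime], ∃ R : Sylow r G, (R : Subgroup G) ≤ H) : H = ⊤ := by
  rw [← Subgroup.index_eq_one]
  by_contra hne
  obtain ⟨r, hr, hrd⟩ := Nat.exists_prime_and_dvd hne
  haveI : Fact r.Prime := ⟨hr⟩
  obtain ⟨R, hR⟩ := h r
  exact R.not_dvd_index (dvd_trans hrd (Subgroup.index_dvd_of_le hR))

theorem isSolvable_of_isMinimalNonNilpotent [Finite G] (hG : Cfsg.IsMinimalNonNilpotent G) :
    Group.IsSolvable G :=
  isSolvable_of_coatoms_nilpotent (fun M hM => hG.2 M hM.1)

/-- the data of Schmidt's theorem -/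
theorem schmidt_structure [Finite G] (hG : Cfsg.IsMinimalNonNilpotent G) :
    ∃ p q : ℕ, p.Prime ∧ q.Prime ∧ p ≠ q ∧ ∃ (P : Sylow p G) (Q : Sylow q G),
      IsCyclic P ∧ (Q : Subgroup G).Normal ∧ (P : Subgroup G) ⊔ Q = ⊤ ∧
      ¬ (P : Subgroup G).Normal := by
  haveI := isSolvable_of_isMinimalNonNilpotent hG
  haveI : Nontrivial G := by
    by_contra hnt
    rw [not_nontrivial_iff_subsingleton] at hnt
    exact hG.1 inferInstance
  obtain ⟨M, hMn, hMidx⟩ := exists_normal_prime_index (G := G)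
  have hMtop : M ≠ ⊤ := by
    intro h
    rw [h, Subgroup.index_top] at hMidx
    exact Nat.not_prime_one hMidx
  have hMnil := hG.2 M hMtop
  -- a non-normal Sylow subgroup
  have h4 : ¬ ∀ (p : ℕ) (_hp : Fact p.Prime) (P : Sylow p G), (↑P : Subgroup G).Normal := by
    intro h
    exact hG.1 ((Group.isNilpotent_of_finite_tfae (G := G)).out 3 0 |>.mp h)
  push Not at h4
  obtain ⟨p, hpF, P, hPn⟩ := h4
  have hp : p.Prime := hpF.out
  have hpr : p = M.index := by
    by_contra hne
    exact hPn (sylow_normal_of_nilpotent_prime_index M rfl hMidx hMnil hne P)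
  -- find q
  have h5 : ∃ (q : ℕ) (_ : Fact q.Prime) (Q : Sylow q G), q ≠ p ∧ (P : Subgroup G) ⊔ Q = ⊤ := by
    by_contra hcon
    push Not at hcon
    apply hPn
    rw [← Subgroup.normalizer_eq_top_iff]
    apply eq_top_of_forall_sylow_le
    intro r hr
    by_cases hrp : r = p
    · subst hrp
      exact ⟨P, Subgroup.le_normalizer⟩
    · obtain ⟨Q⟩ : Nonempty (Sylow r G) := inferInstance
      refine ⟨Q, ?_⟩
      have hne := hcon r hr Q hrp
      have hnil := hG.2 _ hne
      have hcomm := commute_of_nilpotent_sup (Ne.symm hrp) (P : Subgroup G) (Q : Subgroup G)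
        P.isPGroup' Q.isPGroup' hnil
      intro y hy
      apply Cfsg.Agent.Lib.Helper2.mem_normalizer_of_commute
      intro n hn
      exact (hcomm n hn y hy).symm
  obtain ⟨q, hqF, Q, hqp, hsup⟩ := h5
  have hq : q.Prime := hqF.out
  have hQn : (Q : Subgroup G).Normal :=
    sylow_normal_of_nilpotent_prime_index M rfl hMidx hMnil (by rw [← hpr]; exact hqp) Q
  refine ⟨p, q, hp, hq, Ne.symm hqp, P, Q, ?_, hQn, hsup, hPn⟩
  -- cyclic
  by_contra hnc
  apply hPn
  have hdisPQ : Disjoint (P : Subgroup G) (Q : Subgroup G) :=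
    IsPGroup.disjoint_of_ne p q (Ne.symm hqp) _ _ P.isPGroup' Q.isPGroup'
  have hnormQ : ∀ X : Subgroup G, X ≤ Subgroup.normalizer ((Q : Subgroup G) : Set G) := by
    intro X
    rw [Subgroup.normalizer_eq_top_iff.mpr hQn]; exact le_top
  have hcardPQ : Nat.card G = Nat.card P * Nat.card Q := by
    have := Cfsg.Agent.Lib.Helper2.card_sup_mul_card_inf (P : Subgroup G) (Q : Subgroup G) (hnormQ _)
    rw [hsup, disjoint_iff.mp hdisPQ, Subgroup.card_bot, mul_one, Subgroup.card_top] at this
    exact this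
  have hall : ∀ x ∈ (P : Subgroup G), ∀ y ∈ (Q : Subgroup G), x * y = y * x := by
    intro x hx
    have hzle : Subgroup.zpowers x ≤ (P : Subgroup G) := Subgroup.zpowers_le.mpr hx
    have hzp : IsPGroup p (Subgroup.zpowers x) := P.isPGroup'.to_le hzle
    have hne : Subgroup.zpowers x ⊔ (Q : Subgroup G) ≠ ⊤ := by
      intro htop
      apply hnc
      have hdis : Disjoint (Subgroup.zpowers x) (Q : Subgroup G) :=
        IsPGroup.disjoint_of_ne p q (Ne.symm hqp) _ _ hzp Q.isPGroup'
      have := Cfsg.Agent.Lib.Helper2.card_sup_mul_card_inf (Subgroup.zpowers x) (Q : Subgroup G) (hnormQ _)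
      rw [htop, disjoint_iff.mp hdis, Subgroup.card_bot, mul_one, Subgroup.card_top, hcardPQ] at this
      have hQpos : 0 < Nat.card Q := Nat.card_pos
      have hcard : Nat.card P = Nat.card (Subgroup.zpowers x) := Nat.eq_of_mul_eq_mul_right hQpos this
      have heq : Subgroup.zpowers x = (P : Subgroup G) := Subgroup.eq_of_le_of_card_ge hzle hcard.le
      refine ⟨⟨⟨x, hx⟩, ?_⟩⟩
      intro y
      have hy : (y : G) ∈ Subgroup.zpowers x := by rw [heq]; exact y.2
      obtain ⟨k, hk⟩ := hy
      exact ⟨k, Subtype.ext (by simpa using hk)⟩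
    have hnil := hG.2 _ hne
    have hcomm := commute_of_nilpotent_sup (Ne.symm hqp) (Subgroup.zpowers x) (Q : Subgroup G)
      hzp Q.isPGroup' hnil
    intro y hy
    exact hcomm x (Subgroup.mem_zpowers x) y hy
  rw [← Subgroup.normalizer_eq_top_iff, eq_top_iff, ← hsup]
  apply sup_le Subgroup.le_normalizer
  intro y hy
  apply Cfsg.Agent.Lib.Helper2.mem_normalizer_of_commute
  intro n hn
  exact (hall n hn y hy).symm

end

end Cfsg.Agent.Lib.Helper2.Schmidt
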