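import Mathlib
import Cfsg.Prelude
import Cfsg.Agent.Lib.Helper2.Schmidt2
import Cfsg.Agent.Lib.Helper2.MinNormal
import Cfsg.Agent.Lib.Lead.ThompsonPQ

set_option autoImplicit false
open Pointwise
open scoped commutatorElement

namespace Cfsg.Agent.Lib.Helper2.Schmidt

open Cfsg.Agent.Lib.Lead

section
variable {G : Type*} [Group G]

theorem isNilpotent_of_isMulCommutative (h : IsMulCommutative G) : Group.IsNilpotent G :=
  ⟨⟨1, Subgroup.upperCentralSeries_one_eq_top_iff.mpr h⟩⟩

/-- A finite nilpotent group all of whose Sylow subgroups are abelian is abelian. -/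
theorem isMulCommutative_of_nilpotent_of_sylow_comm [Finite G] [Group.IsNilpotent G]
    (h : ∀ (r : ℕ) [Fact r.Prime] (R : Sylow r G), IsMulCommutative (R : Subgroup G)) :
    IsMulCommutative G := by
  rw [← Subgroup.center_eq_top_iff]
  apply eq_top_of_forall_sylow_le
  intro r hr
  obtain ⟨R⟩ : Nonempty (Sylow r G) := inferInstance
  refine ⟨R, ?_⟩
  intro x hx
  have hcent : Subgroup.centralizer ({x} : Set G) = ⊤ := by
    apply eq_top_of_forall_sylow_le
    intro s hs
    by_cases hsr : s = r
    · subst hsr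
      refine ⟨R, ?_⟩
      intro y hy
      rw [Subgroup.mem_centralizer_iff]
      intro z hz
      rw [Set.mem_singleton_iff] at hz
      subst hz
      have hc := h s R
      have := mul_comm' (⟨z, hx⟩ : (R : Subgroup G)) ⟨y, hy⟩
      exact congrArg Subtype.val this
    · obtain ⟨S⟩ : Nonempty (Sylow s G) := inferInstance
      refine ⟨S, ?_⟩
      intro y hy
      rw [Subgroup.mem_centralizer_iff]
      intro z hz
      rw [Set.mem_singleton_iff] at hz
      subst hz
      have hdis : Disjoint (R : Subgroup G) (S : Subgroup G) :=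
        IsPGroup.disjoint_of_ne r s (Ne.symm hsr) _ _ R.isPGroup' S.isPGroup'
      exact (Subgroup.commute_of_normal_of_disjoint _ _ inferInstance inferInstance hdis _ _ hx hy).eq
  rw [Subgroup.mem_center_iff]
  intro g
  have hg : g ∈ Subgroup.centralizer ({x} : Set G) := by rw [hcent]; trivial
  rw [Subgroup.mem_centralizer_iff] at hg
  exact (hg x rfl).symm

/-- In a minimal non-abelian group which is not nilpotent, the normal Sylow subgroup is
elementary abelian and minimal normal. -/
theorem elementary_of_minimal_nonabelian [Finite G]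
    (h : ∀ H : Subgroup G, H ≠ ⊤ → IsMulCommutative H)
    {p q : ℕ} [hp : Fact p.Prime] [hq : Fact q.Prime] (hpq : p ≠ q) (P : Sylow p G) (Q : Sylow q G)
    (hQn : (Q : Subgroup G).Normal) (hsup : (P : Subgroup G) ⊔ Q = ⊤)
    (hPn : ¬ (P : Subgroup G).Normal) :
    Cfsg.IsElementaryAbelian q (Q : Subgroup G) ∧
      (∀ K : Subgroup G, K.Normal → K ≤ (Q : Subgroup G) → K = ⊥ ∨ K = (Q : Subgroup G)) ∧
      (Q : Subgroup G) ⊓ Subgroup.centralizer ((P : Subgroup G) : Set G) = ⊥ := by
  set A : Subgroup G := (P : Subgroup G) with hA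
  set V : Subgroup G := (Q : Subgroup G) with hV
  have hdis : Disjoint A V := IsPGroup.disjoint_of_ne p q hpq _ _ P.isPGroup' Q.isPGroup'
  have hAbot : A ≠ ⊥ := by
    intro h0
    apply hPn
    rw [h0]; infer_instance
  have hVtop : V ≠ ⊤ := by
    intro h0
    apply hAbot
    have := disjoint_iff.mp hdis
    rwa [h0, inf_top_eq] at this
  have hVbot : V ≠ ⊥ := by
    intro h0
    apply hPn
    rw [h0, sup_bot_eq] at hsup
    rw [hsup]; infer_instance
  haveI hVc : IsMulCommutative V := h V hVtop
  have hAV : A ≤ Subgroup.normalizer (V : Set G) := by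
    rw [Subgroup.normalizer_eq_top_iff.mpr hQn]; exact le_top
  have hcop : (Nat.card A).Coprime (Nat.card V) :=
    IsPGroup.coprime_card_of_ne p q hpq A V P.isPGroup' Q.isPGroup'
  have hcardG : Nat.card G = Nat.card A * Nat.card V := by
    have := Cfsg.Agent.Lib.Helper2.card_sup_mul_card_inf A V hAV
    rw [hsup, disjoint_iff.mp hdis, Subgroup.card_bot, mul_one, Subgroup.card_top] at this
    exact this
  obtain ⟨hd1, hd2⟩ := coprime_abelian_decomp A V hAV hcop
  have hnotcent : ¬ V ≤ Subgroup.centralizer (A : Set G) := by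
    intro hle
    apply hPn
    rw [← Subgroup.normalizer_eq_top_iff, eq_top_iff, ← hsup]
    apply sup_le Subgroup.le_normalizer
    intro y hy
    apply Cfsg.Agent.Lib.Helper2.mem_normalizer_of_commute
    intro n hn
    exact (Subgroup.mem_centralizer_iff.mp (hle hy) n hn).symm
  -- Lemma X
  have hX : ∀ K : Subgroup G, K ≤ V → K ≠ V → A ≤ Subgroup.normalizer (K : Set G) →
      K ≤ Subgroup.centralizer (A : Set G) := by
    intro K hKV hKne hAK
    have hne : A ⊔ K ≠ ⊤ := by
      intro htop
      have h1 := Cfsg.Agent.Lib.Helper2.card_sup_mul_card_inf A K hAK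
      have h2 : A ⊓ K = ⊥ := by
        rw [eq_bot_iff, ← disjoint_iff.mp hdis]
        exact inf_le_inf_left A hKV
      rw [htop, h2, Subgroup.card_bot, mul_one, Subgroup.card_top, hcardG] at h1
      have hApos : 0 < Nat.card A := Nat.card_pos
      have h3 : Nat.card V = Nat.card K := Nat.eq_of_mul_eq_mul_left hApos h1
      exact hKne (Subgroup.eq_of_le_of_card_ge hKV h3.le)
    have hc := h _ hne
    intro k hk
    rw [Subgroup.mem_centralizer_iff]
    intro a ha
    have := mul_comm' (⟨a, (le_sup_left : A ≤ A ⊔ K) ha⟩ : (A ⊔ K : Subgroup G))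
      ⟨k, (le_sup_right : K ≤ A ⊔ K) hk⟩
    exact congrArg Subtype.val this
  have hcomm_le : ⁅V, A⁆ ≤ V := commutator_le_left_of_le_normalizer V A hAV
  have hcommV : ⁅V, A⁆ = V := by
    by_contra hne
    have h1 := hX _ hcomm_le hne (le_normalizer_commutator_right V A hAV)
    apply hnotcent
    rw [← hd2]
    exact sup_le inf_le_right h1
  have hcent : V ⊓ Subgroup.centralizer (A : Set G) = ⊥ := by
    rw [hcommV] at hd1
    rw [← hd1, eq_comm, inf_eq_left]
    exact inf_le_left
  have hmin : ∀ K : Subgroup G, K.Normal → K ≤ V → K = ⊥ ∨ K = V := by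
    intro K hKn hKV
    by_cases hKne : K = V
    · exact Or.inr hKne
    · left
      have hAK : A ≤ Subgroup.normalizer (K : Set G) := by
        rw [Subgroup.normalizer_eq_top_iff.mpr hKn]; exact le_top
      rw [eq_bot_iff, ← hcent]
      exact le_inf hKV (hX K hKV hKne hAK)
  haveI := hQn
  obtain ⟨p', hp', hexp, d, hd, hcard⟩ :=
    Cfsg.Agent.Lib.Helper2.exists_prime_pow_of_minNormal_abelian V hVbot hmin hVc
  obtain ⟨n, hn⟩ := (IsPGroup.iff_card.mp Q.isPGroup')
  have hp'q : p' = q := by
    have h1 : p' ∣ q ^ n := by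
      have h2 : Nat.card V = q ^ n := hn
      rw [← h2, hcard]
      exact dvd_pow_self p' hd.ne'
    exact (Nat.prime_dvd_prime_iff_eq hp' hq.out).mp (hp'.dvd_of_dvd_pow h1)
  subst hp'q
  exact ⟨⟨hVc, hexp⟩, hmin, hcent⟩

end

end Cfsg.Agent.Lib.Helper2.Schmidt
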