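import Mathlib
import Cfsg.Prelude
import Cfsg.Agent.Lib.Helper2.Schmidt3

set_option autoImplicit false
open Pointwise
open scoped commutatorElement

namespace Cfsg.Agent.Lib.Helper2.Schmidt

open Cfsg.Agent.Lib.Lead

section
variable {G : Type*} [Group G]

theorem exists_coprime_decomp {m n : ℕ} (hcop : m.Coprime n) (h : G) (hmn : h ^ (m * n) = 1) :
    ∃ a b : G, a ∈ Subgroup.zpowers h ∧ b ∈ Subgroup.zpowers h ∧ h = a * b ∧
      a ^ m = 1 ∧ b ^ n = 1 := by
  obtain ⟨u, v, huv⟩ := Nat.Coprime.isCoprime hcop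
  refine ⟨h ^ (v * (n : ℤ)), h ^ (u * (m : ℤ)), ⟨_, rfl⟩, ⟨_, rfl⟩, ?_, ?_, ?_⟩
  · rw [← zpow_add, add_comm, huv, zpow_one]
  · rw [← zpow_natCast, ← zpow_mul]
    have : v * (n : ℤ) * (m : ℤ) = ((m * n : ℕ) : ℤ) * v := by push_cast; ring
    rw [this, zpow_mul, zpow_natCast, hmn, one_zpow]
  · rw [← zpow_natCast, ← zpow_mul]
    have : u * (m : ℤ) * (n : ℤ) = ((m * n : ℕ) : ℤ) * u := by push_cast; ring
    rw [this, zpow_mul, zpow_natCast, hmn, one_zpow]

theorem isPGroup_zpowers_of_pow_eq_one {p : ℕ} {x : G} {k : ℕ} (hx : x ^ p ^ k = 1) :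
    IsPGroup p (Subgroup.zpowers x) := by
  rintro ⟨y, hy⟩
  obtain ⟨i, rfl⟩ := hy
  refine ⟨k, Subtype.ext ?_⟩
  show (x ^ i) ^ p ^ k = 1
  rw [← zpow_natCast, ← zpow_mul, mul_comm, zpow_mul, zpow_natCast, hx, one_zpow]

/-- A `q`-subgroup lies in a normal Sylow `q`-subgroup. -/
theorem le_of_normal_sylow [Finite G] {q : ℕ} [Fact q.Prime] (Q : Sylow q G)
    (hQ : (Q : Subgroup G).Normal) {B : Subgroup G} (hB : IsPGroup q B) : B ≤ Q := by
  obtain ⟨Q', hQ'⟩ := hB.exists_le_sylow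
  haveI := Sylow.unique_of_normal Q hQ
  rw [Subsingleton.elim Q Q'] 
  exact hQ'

/-- Two `p`-elements of a nilpotent subgroup lie in a common Sylow `p`-subgroup of `G`. -/
theorem exists_sylow_of_nilpotent [Finite G] {p : ℕ} [Fact p.Prime] (H : Subgroup G)
    (hH : Group.IsNilpotent H) {x y : G} (hx : x ∈ H) (hy : y ∈ H)
    (hxp : IsPGroup p (Subgroup.zpowers x)) (hyp : IsPGroup p (Subgroup.zpowers y)) :
    ∃ P : Sylow p G, x ∈ (P : Subgroup G) ∧ y ∈ (P : Subgroup G) := by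
  have hx' : IsPGroup p (Subgroup.zpowers (⟨x, hx⟩ : H)) := by
    have : Subgroup.zpowers (⟨x, hx⟩ : H) = (Subgroup.zpowers x).subgroupOf H := by
      ext z
      rw [Subgroup.mem_subgroupOf, Subgroup.mem_zpowers_iff, Subgroup.mem_zpowers_iff]
      constructor
      · rintro ⟨k, rfl⟩; exact ⟨k, by simp⟩
      · rintro ⟨k, hk⟩; exact ⟨k, Subtype.ext (by simpa using hk)⟩
    rw [this]; exact hxp.comap_subtype
  have hy' : IsPGroup p (Subgroup.zpowers (⟨y, hy⟩ : H)) := by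
    have : Subgroup.zpowers (⟨y, hy⟩ : H) = (Subgroup.zpowers y).subgroupOf H := by
      ext z
      rw [Subgroup.mem_subgroupOf, Subgroup.mem_zpowers_iff, Subgroup.mem_zpowers_iff]
      constructor
      · rintro ⟨k, rfl⟩; exact ⟨k, by simp⟩
      · rintro ⟨k, hk⟩; exact ⟨k, Subtype.ext (by simpa using hk)⟩
    rw [this]; exact hyp.comap_subtype
  obtain ⟨S, hS⟩ := hx'.exists_le_sylow
  obtain ⟨S', hS'⟩ := hy'.exists_le_sylow
  have hSn : (S : Subgroup H).Normal := inferInstance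
  haveI := Sylow.unique_of_normal S hSn
  rw [Subsingleton.elim S' S] at hS'
  have hmap : IsPGroup p ((S : Subgroup H).map H.subtype) := S.isPGroup'.map _
  obtain ⟨P, hP⟩ := hmap.exists_le_sylow
  refine ⟨P, hP ⟨⟨x, hx⟩, hS (Subgroup.mem_zpowers _), rfl⟩,
    hP ⟨⟨y, hy⟩, hS' (Subgroup.mem_zpowers _), rfl⟩⟩

theorem commute_of_mem_cyclic_sylow [Finite G] {p : ℕ} [Fact p.Prime] (P : Sylow p G)
    (hcyc : IsCyclic P) (P' : Sylow p G) {x y : G} (hx : x ∈ (P' : Subgroup G))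
    (hy : y ∈ (P' : Subgroup G)) : x * y = y * x := by
  haveI : IsCyclic P' := isCyclic_of_surjective (Sylow.equiv P P') (Sylow.equiv P P').surjective
  obtain ⟨g, hg⟩ := IsCyclic.exists_generator (α := P')
  obtain ⟨i, hi⟩ := hg ⟨x, hx⟩
  obtain ⟨j, hj⟩ := hg ⟨y, hy⟩
  have h1 : (⟨x, hx⟩ : P') * ⟨y, hy⟩ = ⟨y, hy⟩ * ⟨x, hx⟩ := by
    rw [← hi, ← hj]
    exact (Commute.zpow_zpow_self g i j).eq
  exact congrArg Subtype.val h1

theorem card_eq_of_schmidt [Finite G] {p q : ℕ} [Fact p.Prime] [Fact q.Prime] (hpq : p ≠ q)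
    (P : Sylow p G) (Q : Sylow q G) (hQn : (Q : Subgroup G).Normal)
    (hsup : (P : Subgroup G) ⊔ Q = ⊤) : Nat.card G = Nat.card P * Nat.card Q := by
  have hdis : Disjoint (P : Subgroup G) (Q : Subgroup G) :=
    IsPGroup.disjoint_of_ne p q hpq _ _ P.isPGroup' Q.isPGroup'
  have hAV : (P : Subgroup G) ≤ Subgroup.normalizer ((Q : Subgroup G) : Set G) := by
    rw [Subgroup.normalizer_eq_top_iff.mpr hQn]; exact le_top
  have := Cfsg.Agent.Lib.Helper2.card_sup_mul_card_inf (P : Subgroup G) (Q : Subgroup G) hAV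
  rw [hsup, disjoint_iff.mp hdis, Subgroup.card_bot, mul_one, Subgroup.card_top] at this
  exact this

/-- In a minimal non-nilpotent group, commutators of elements of a proper subgroup lie in `Q'`. -/
theorem commute_mod_of_proper [Finite G] (hG : Cfsg.IsMinimalNonNilpotent G)
    {p q : ℕ} [Fact p.Prime] [Fact q.Prime] (hpq : p ≠ q) (P : Sylow p G) (Q : Sylow q G)
    (hcyc : IsCyclic P) (hQn : (Q : Subgroup G).Normal) (hsup : (P : Subgroup G) ⊔ Q = ⊤)
    (D : Subgroup G) [D.Normal]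
    (hD : D = (commutator ↥(Q : Subgroup G)).map (Q : Subgroup G).subtype)
    (H : Subgroup G) (hH : H ≠ ⊤) {h₁ h₂ : G} (hh₁ : h₁ ∈ H) (hh₂ : h₂ ∈ H) :
    (QuotientGroup.mk h₁ : G ⧸ D) * QuotientGroup.mk h₂ = QuotientGroup.mk h₂ * QuotientGroup.mk h₁ := by
  have hHnil := hG.2 H hH
  have hcard := card_eq_of_schmidt hpq P Q hQn hsup
  obtain ⟨α, hα⟩ := IsPGroup.iff_card.mp P.isPGroup'
  obtain ⟨β, hβ⟩ := IsPGroup.iff_card.mp Q.isPGroup'
  have hcop : (p ^ α).Coprime (q ^ β) :=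
    Nat.coprime_pow_primes _ _ (Fact.out : p.Prime) (Fact.out : q.Prime) hpq
  have hpow : ∀ h : G, h ^ (p ^ α * q ^ β) = 1 := by
    intro h
    have h1 : Nat.card P = p ^ α := hα
    have h2 : Nat.card Q = q ^ β := hβ
    rw [← h1, ← h2, ← hcard]
    exact pow_card_eq_one'
  obtain ⟨a₁, b₁, ha₁, hb₁, he₁, hap₁, hbq₁⟩ := exists_coprime_decomp hcop h₁ (hpow h₁)
  obtain ⟨a₂, b₂, ha₂, hb₂, he₂, hap₂, hbq₂⟩ := exists_coprime_decomp hcop h₂ (hpow h₂)
  have hz₁ : Subgroup.zpowers h₁ ≤ H := Subgroup.zpowers_le.mpr hh₁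
  have hz₂ : Subgroup.zpowers h₂ ≤ H := Subgroup.zpowers_le.mpr hh₂
  have hPa₁ := isPGroup_zpowers_of_pow_eq_one hap₁
  have hPa₂ := isPGroup_zpowers_of_pow_eq_one hap₂
  have hPb₁ := isPGroup_zpowers_of_pow_eq_one hbq₁
  have hPb₂ := isPGroup_zpowers_of_pow_eq_one hbq₂
  have haa : a₁ * a₂ = a₂ * a₁ := by
    obtain ⟨P', hx, hy⟩ := exists_sylow_of_nilpotent H hHnil (hz₁ ha₁) (hz₂ ha₂) hPa₁ hPa₂
    exact commute_of_mem_cyclic_sylow P hcyc P' hx hy
  have hab : ∀ a b : G, a ∈ H → b ∈ H → IsPGroup p (Subgroup.zpowers a) →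
      IsPGroup q (Subgroup.zpowers b) → a * b = b * a := by
    intro a b ha hb hPa hPb
    have hle : Subgroup.zpowers a ⊔ Subgroup.zpowers b ≤ H :=
      sup_le (Subgroup.zpowers_le.mpr ha) (Subgroup.zpowers_le.mpr hb)
    exact commute_of_nilpotent_sup hpq _ _ hPa hPb (isNilpotent_of_le hHnil hle) a
      (Subgroup.mem_zpowers a) b (Subgroup.mem_zpowers b)
  have hbQ₁ : b₁ ∈ (Q : Subgroup G) := le_of_normal_sylow Q hQn hPb₁ (Subgroup.mem_zpowers b₁)
  have hbQ₂ : b₂ ∈ (Q : Subgroup G) := le_of_normal_sylow Q hQn hPb₂ (Subgroup.mem_zpowers b₂)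
  have hbb : (QuotientGroup.mk b₁ : G ⧸ D) * QuotientGroup.mk b₂ =
      QuotientGroup.mk b₂ * QuotientGroup.mk b₁ := by
    rw [← QuotientGroup.mk_mul, ← QuotientGroup.mk_mul, QuotientGroup.eq, hD]
    refine ⟨⁅(⟨b₂, hbQ₂⟩ : (Q : Subgroup G))⁻¹, (⟨b₁, hbQ₁⟩ : (Q : Subgroup G))⁻¹⁆, ?_, ?_⟩
    · rw [SetLike.mem_coe, commutator_def]
      exact Subgroup.commutator_mem_commutator (Subgroup.mem_top _) (Subgroup.mem_top _)
    · simp [commutatorElement_def, mul_assoc]
  have c11 : Commute (QuotientGroup.mk a₁ : G ⧸ D) (QuotientGroup.mk a₂) := by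
    show _ * _ = _ * _
    rw [← QuotientGroup.mk_mul, ← QuotientGroup.mk_mul, haa]
  have c12 : Commute (QuotientGroup.mk a₁ : G ⧸ D) (QuotientGroup.mk b₂) := by
    show _ * _ = _ * _
    rw [← QuotientGroup.mk_mul, ← QuotientGroup.mk_mul, hab a₁ b₂ (hz₁ ha₁) (hz₂ hb₂) hPa₁ hPb₂]
  have c21 : Commute (QuotientGroup.mk b₁ : G ⧸ D) (QuotientGroup.mk a₂) := by
    show _ * _ = _ * _
    rw [← QuotientGroup.mk_mul, ← QuotientGroup.mk_mul, hab a₂ b₁ (hz₂ ha₂) (hz₁ hb₁) hPa₂ hPb₁]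
  have c22 : Commute (QuotientGroup.mk b₁ : G ⧸ D) (QuotientGroup.mk b₂) := hbb
  rw [he₁, he₂, QuotientGroup.mk_mul, QuotientGroup.mk_mul]
  exact ((c11.mul_right c12).mul_left (c21.mul_right c22)).eq

theorem quotient_minimal_nonabelian_aux [Finite G] (hG : Cfsg.IsMinimalNonNilpotent G)
    {p q : ℕ} [Fact p.Prime] [Fact q.Prime] (hpq : p ≠ q) (P : Sylow p G) (Q : Sylow q G)
    (hcyc : IsCyclic P) (hQn : (Q : Subgroup G).Normal) (hsup : (P : Subgroup G) ⊔ Q = ⊤)
    (hPn : ¬ (P : Subgroup G).Normal)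
    (D : Subgroup G) [D.Normal]
    (hD : D = (commutator ↥(Q : Subgroup G)).map (Q : Subgroup G).subtype) :
    ¬ IsMulCommutative (G ⧸ D) ∧ ∀ K : Subgroup (G ⧸ D), K ≠ ⊤ → IsMulCommutative K := by
  constructor
  · intro hcomm
    apply hPn
    have hcard := card_eq_of_schmidt hpq P Q hQn hsup
    have hDQ : D ≤ (Q : Subgroup G) := by
      rw [hD]; exact Subgroup.map_subtype_le _
    have hQbot : (Q : Subgroup G) ≠ ⊥ := by
      intro h0
      apply hPn
      rw [h0, sup_bot_eq] at hsup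
      rw [hsup]; infer_instance
    have hDne : D ≠ (Q : Subgroup G) := by
      intro h0
      haveI : Nontrivial (Q : Subgroup G) := (Subgroup.nontrivial_iff_ne_bot _).mpr hQbot
      haveI : Group.IsNilpotent (Q : Subgroup G) := Q.isPGroup'.isNilpotent
      have h1 : commutator (Q : Subgroup G) < ⊤ :=
        Group.IsSolvable.commutator_lt_top_of_nontrivial _
      apply h1.ne
      apply Subgroup.map_injective (Q : Subgroup G).subtype_injective
      rw [← hD, h0, ← MonoidHom.range_eq_map, Subgroup.range_subtype]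
    set W : Subgroup G := (P : Subgroup G) ⊔ D with hW
    have hWn : W.Normal := by
      have h1 : W = (W.map (QuotientGroup.mk' D)).comap (QuotientGroup.mk' D) := by
        rw [Subgroup.comap_map_eq, QuotientGroup.ker_mk', sup_eq_left.mpr le_sup_right]
      rw [h1]
      haveI : (W.map (QuotientGroup.mk' D)).Normal := by
        constructor
        intro n hn g
        have : g * n * g⁻¹ = n := by
          rw [mul_comm' g n, mul_inv_cancel_right]
        rw [this]; exact hn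
      infer_instance
    have hWtop : W ≠ ⊤ := by
      intro htop
      have hPD : (P : Subgroup G) ≤ Subgroup.normalizer (D : Set G) := by
        rw [Subgroup.normalizer_eq_top_iff.mpr inferInstance]; exact le_top
      have h1 := Cfsg.Agent.Lib.Helper2.card_sup_mul_card_inf (P : Subgroup G) D hPD
      have hdis : (P : Subgroup G) ⊓ D = ⊥ := by
        have hd := IsPGroup.disjoint_of_ne p q hpq _ _ P.isPGroup' Q.isPGroup'
        rw [eq_bot_iff, ← disjoint_iff.mp hd]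
        exact inf_le_inf_left _ hDQ
      rw [← hW, htop, hdis, Subgroup.card_bot, mul_one, Subgroup.card_top, hcard] at h1
      have hPpos : 0 < Nat.card P := Nat.card_pos
      have h3 : Nat.card Q = Nat.card D := Nat.eq_of_mul_eq_mul_left hPpos h1
      exact hDne (Subgroup.eq_of_le_of_card_ge hDQ h3.le)
    have hWnil := hG.2 W hWtop
    have hPW : (P : Subgroup G) ≤ W := le_sup_left
    have hPWn : ((P.subtype hPW : Sylow p W) : Subgroup W).Normal := inferInstance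
    rw [Sylow.coe_subtype, Subgroup.normal_subgroupOf_iff_le_normalizer hPW] at hPWn
    have h2 := Sylow.normalizer_sup_eq_top' P hPW
    have h3 : Subgroup.normalizer ((P : Subgroup G) : Set G) = ⊤ := by
      rw [eq_top_iff, ← h2]
      exact sup_le le_rfl hPWn
    exact Subgroup.normalizer_eq_top_iff.mp h3
  · intro K hK
    set H := K.comap (QuotientGroup.mk' D) with hH
    have hHtop : H ≠ ⊤ := by
      intro h0
      apply hK
      have := Subgroup.map_comap_eq_self_of_surjective (QuotientGroup.mk'_surjective D) K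
      rw [← hH, h0, Subgroup.map_top_of_surjective _ (QuotientGroup.mk'_surjective D)] at this
      exact this.symm
    refine ⟨⟨fun x y => Subtype.ext ?_⟩⟩
    obtain ⟨h₁, hh₁⟩ := QuotientGroup.mk_surjective (x : G ⧸ D)
    obtain ⟨h₂, hh₂⟩ := QuotientGroup.mk_surjective (y : G ⧸ D)
    have hm₁ : h₁ ∈ H := by
      rw [hH, Subgroup.mem_comap, QuotientGroup.mk'_apply, hh₁]; exact x.2
    have hm₂ : h₂ ∈ H := by
      rw [hH, Subgroup.mem_comap, QuotientGroup.mk'_apply, hh₂]; exact y.2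
    have := commute_mod_of_proper hG hpq P Q hcyc hQn hsup D hD H hHtop hm₁ hm₂
    rw [hh₁, hh₂] at this
    exact this

/-- S0577: the quotient of a minimal non-nilpotent group by the derived subgroup of its normal
Sylow subgroup is minimal non-abelian. -/
theorem quotient_minimal_nonabelian [Finite G] (hG : Cfsg.IsMinimalNonNilpotent G)
    (q : ℕ) [Fact q.Prime] (hq : q ∣ Nat.card G) (Q : Sylow q G) (hQ : (Q : Subgroup G).Normal)
    (D : Subgroup G) [D.Normal]
    (hD : D = (commutator ↥(Q : Subgroup G)).map (Q : Subgroup G).subtype) :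
    ¬ IsMulCommutative (G ⧸ D) ∧ ∀ K : Subgroup (G ⧸ D), K ≠ ⊤ → IsMulCommutative K := by
  obtain ⟨p₀, q₀, hp₀, hq₀, hpq, P, Q₀, hcyc, hQ₀n, hsup, hPn⟩ := schmidt_structure hG
  haveI : Fact p₀.Prime := ⟨hp₀⟩
  haveI : Fact q₀.Prime := ⟨hq₀⟩
  have hcard := card_eq_of_schmidt hpq P Q₀ hQ₀n hsup
  have hqp : q ≠ p₀ := by
    intro h0
    subst h0
    apply hPn
    haveI := Sylow.unique_of_normal Q hQ
    rw [Subsingleton.elim P Q]; exact hQ
  have hqq : q = q₀ := by
    obtain ⟨α, hα⟩ := IsPGroup.iff_card.mp P.isPGroup'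
    obtain ⟨β, hβ⟩ := IsPGroup.iff_card.mp Q₀.isPGroup'
    have h1 : Nat.card P = p₀ ^ α := hα
    have h2 : Nat.card Q₀ = q₀ ^ β := hβ
    rw [hcard, h1, h2] at hq
    have hqprime : q.Prime := Fact.out
    rcases (Nat.Prime.dvd_mul hqprime).mp hq with h3 | h3
    · exact absurd ((Nat.prime_dvd_prime_iff_eq hqprime hp₀).mp (hqprime.dvd_of_dvd_pow h3)) hqp
    · exact (Nat.prime_dvd_prime_iff_eq hqprime hq₀).mp (hqprime.dvd_of_dvd_pow h3)
  subst hqq
  have hQQ : Q₀ = Q := by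
    haveI := Sylow.unique_of_normal Q hQ
    exact Subsingleton.elim _ _
  subst hQQ
  exact quotient_minimal_nonabelian_aux hG hpq P Q₀ hcyc hQ hsup hPn D hD

end

end Cfsg.Agent.Lib.Helper2.Schmidt
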