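import Mathlib
import Cfsg.Prelude
import Cfsg.Agent.Lib.Helper2.Schmidt4
import Cfsg.Agent.Lib.Helper2.ComplementSystem
import Cfsg.Agent.Lib.Lead.SylowSystem
import Cfsg.Agent.Lib.Lead.HallCentral

set_option autoImplicit false
open Pointwise
open scoped commutatorElement

namespace Cfsg.Agent.Lib.Helper2.NilpHall

open Cfsg.Agent.Lib.Lead Cfsg.Agent.Lib.Helper2.Schmidt

universe u

section
variable {G : Type u} [Group G]

/-- A subgroup all of whose proper subgroups are nilpotent is nilpotent or minimal non-nilpotent. -/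
theorem nilpotent_or_minimal (K : Subgroup G)
    (h : ∀ K₁ : Subgroup G, K₁ < K → Group.IsNilpotent K₁) :
    Group.IsNilpotent K ∨ Cfsg.IsMinimalNonNilpotent K := by
  by_cases hn : Group.IsNilpotent K
  · exact Or.inl hn
  · right
    refine ⟨hn, ?_⟩
    intro K' hK'
    have hlt : K'.map K.subtype < K := by
      refine lt_of_le_of_ne (Subgroup.map_subtype_le K') ?_
      intro heq
      apply hK'
      rw [eq_top_iff]
      intro x _
      have hx : (x : G) ∈ K'.map K.subtype := by rw [heq]; exact x.2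
      obtain ⟨y, hy, hxy⟩ := hx
      have : y = x := Subtype.ext hxy
      rw [← this]; exact hy
    have := h _ hlt
    exact (Group.isNilpotent_congr (K'.equivMapOfInjective K.subtype K.subtype_injective)).mpr this

/-- A nontrivial finite group which is nilpotent or minimal non-nilpotent has a nontrivial normal
Sylow subgroup. -/
theorem exists_normal_sylow_ne_bot (X : Type u) [Group X] [Finite X] [Nontrivial X]
    (h : Group.IsNilpotent X ∨ Cfsg.IsMinimalNonNilpotent X) :
    ∃ (p : ℕ) (_ : Fact p.Prime) (P : Sylow p X), (P : Subgroup X).Normal ∧ (P : Subgroup X) ≠ ⊥ := by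
  rcases h with h | h
  · have h1 : Nat.card X ≠ 1 := by
      rw [Ne, Nat.card_eq_one_iff_unique]
      rintro ⟨hs, -⟩
      exact not_subsingleton X hs
    obtain ⟨p, hp, hpd⟩ := Nat.exists_prime_and_dvd h1
    haveI : Fact p.Prime := ⟨hp⟩
    obtain ⟨P⟩ : Nonempty (Sylow p X) := inferInstance
    refine ⟨p, ⟨hp⟩, P, inferInstance, ?_⟩
    exact P.ne_bot_of_dvd_card hpd
  · obtain ⟨p, q, hp, hq, hpq, P, Q, -, hQn, hsup, hPn⟩ := schmidt_structure h
    refine ⟨q, ⟨hq⟩, Q, hQn, ?_⟩
    intro h0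
    apply hPn
    rw [h0, sup_bot_eq] at hsup
    rw [hsup]; infer_instance

variable [Finite G]

/-- In a nilpotent subgroup, subgroups of coprime order commute. -/
theorem commutator_eq_bot_of_nilpotent_coprime (Γ S T : Subgroup G) [hn : Group.IsNilpotent Γ]
    (hS : S ≤ Γ) (hT : T ≤ Γ) (hTS : T ≤ Subgroup.normalizer (S : Set G))
    (hcop : (Nat.card T).Coprime (Nat.card S)) : ⁅S, T⁆ = ⊥ := by
  have hsolv : Group.IsSolvable T ∨ Group.IsSolvable S := by
    left
    haveI := isNilpotent_of_le hn hT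
    infer_instance
  have h1 := coprime_commutator_stable T S hTS hcop hsolv
  have h2 : ⁅S, T⁆ ≤ S := commutator_le_left_of_le_normalizer S T hTS
  apply eq_bot_of_le_commutator_nilpotent Γ _ (h2.trans hS)
  calc ⁅S, T⁆ = ⁅⁅S, T⁆, T⁆ := h1.symm
    _ ≤ ⁅⁅S, T⁆, Γ⁆ := Subgroup.commutator_mono le_rfl hT

end

end Cfsg.Agent.Lib.Helper2.NilpHall


namespace Cfsg.Agent.Lib.Helper2.NilpHall

open Cfsg.Agent.Lib.Lead Cfsg.Agent.Lib.Helper2.Schmidt

universe u

theorem card_lt_of_lt {G : Type u} [Group G] [Finite G] {A B : Subgroup G} (h : A < B) :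
    Nat.card A < Nat.card B := by
  have h1 := Subgroup.card_dvd_of_le h.le
  rcases eq_or_lt_of_le (Nat.le_of_dvd Nat.card_pos h1) with h2 | h2
  · exact absurd (Subgroup.eq_of_le_of_card_ge h.le h2.ge) h.ne
  · exact h2

/-- **Wielandt**: a nilpotent Hall subgroup contains a conjugate of every subgroup whose order
involves only its primes. -/
theorem wielandt_aux : ∀ (n : ℕ) (G : Type u) [Group G] [Finite G] (H K : Subgroup G),
    Group.IsNilpotent H → (Nat.card H).Coprime H.index →
    (∀ p : ℕ, p.Prime → p ∣ Nat.card K → p ∣ Nat.card H) → Nat.card K = n →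
    ∃ x : G, K ≤ MulAut.conj x • H := by
  intro n
  induction n using Nat.strong_induction_on with
  | _ n ih =>
  intro G _ _ H K hHnil hHall hπ hcard
  by_cases hKbot : K = ⊥
  · exact ⟨1, by rw [hKbot]; exact bot_le⟩
  -- proper subgroups are nilpotent
  have hprop : ∀ K₁ : Subgroup G, K₁ < K → Group.IsNilpotent K₁ := by
    intro K₁ hlt
    have hc : Nat.card K₁ < n := by rw [← hcard]; exact card_lt_of_lt hlt
    have hπ₁ : ∀ p : ℕ, p.Prime → p ∣ Nat.card K₁ → p ∣ Nat.card H :=
      fun p hp hd => hπ p hp (dvd_trans hd (Subgroup.card_dvd_of_le hlt.le))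
    obtain ⟨x, hx⟩ := ih _ hc G H K₁ hHnil hHall hπ₁ rfl
    have : Group.IsNilpotent (MulAut.conj x • H : Subgroup G) :=
      (Group.isNilpotent_congr (Subgroup.equivSMul (MulAut.conj x) H)).mp hHnil
    exact isNilpotent_of_le this hx
  have hKnm := nilpotent_or_minimal K hprop
  haveI : Nontrivial K := (Subgroup.nontrivial_iff_ne_bot K).mpr hKbot
  obtain ⟨p, hpF, P, hPn, hPbot⟩ := exists_normal_sylow_ne_bot K hKnm
  have hp : p.Prime := hpF.out
  set P₀ : Subgroup G := (P : Subgroup K).map K.subtype with hP₀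
  have hP₀p : IsPGroup p P₀ := P.isPGroup'.map _
  have hP₀K : P₀ ≤ K := Subgroup.map_subtype_le _
  have hKN : K ≤ Subgroup.normalizer (P₀ : Set G) := by
    have h1 := Subgroup.le_normalizer_map K.subtype (H := (P : Subgroup K))
    rw [Subgroup.normalizer_eq_top_iff.mpr hPn, ← MonoidHom.range_eq_map, Subgroup.range_subtype] at h1
    exact h1
  have hpK : p ∣ Nat.card K := by
    have h1 := P.card_eq_multiplicity
    have h2 : Nat.card P ≠ 1 := by rw [Ne, Subgroup.card_eq_one]; exact hPbot
    have h3 : (Nat.card K).factorization p ≠ 0 := by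
      intro h0
      rw [h0, pow_zero] at h1
      exact h2 h1
    exact Nat.dvd_of_factorization_pos h3
  have hpH : p ∣ Nat.card H := hπ p hp hpK
  obtain ⟨S, hSH⟩ := exists_sylow_le_of_hall H hHall p hpH
  obtain ⟨S', hS'⟩ := hP₀p.exists_le_sylow
  obtain ⟨y, hy⟩ := MulAction.exists_smul_eq G S S'
  set H₁ : Subgroup G := MulAut.conj y • H with hH₁
  set S₁ : Subgroup G := MulAut.conj y • (S : Subgroup G) with hS₁
  have hS₁S' : S₁ = (S' : Subgroup G) := by
    rw [← hy, Sylow.coe_subgroup_smul]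
  have hP₀S₁ : P₀ ≤ S₁ := by rw [hS₁S']; exact hS'
  have hS₁H₁ : S₁ ≤ H₁ := Subgroup.pointwise_smul_le_pointwise_smul_iff.mpr hSH
  have hH₁nil : Group.IsNilpotent H₁ :=
    (Group.isNilpotent_congr (Subgroup.equivSMul (MulAut.conj y) H)).mp hHnil
  have hH₁card : Nat.card H₁ = Nat.card H := card_conj_smul y H
  have hH₁idx : H₁.index = H.index := Cfsg.Agent.Lib.Helper2.index_conj_smul y H
  -- the Hall p'-subgroup of H₁
  haveI : Group.IsSolvable H₁ := inferInstance
  obtain ⟨T', hT'⟩ := exists_hall_complement (G := H₁) p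
  set a := (Nat.card H₁).factorization p with ha
  set T : Subgroup G := T'.map H₁.subtype with hT
  have hTH₁ : T ≤ H₁ := Subgroup.map_subtype_le _
  have hTcard : Nat.card T * p ^ a = Nat.card H₁ := by
    rw [hT, Subgroup.card_map_of_injective H₁.subtype_injective, ← hT']
    exact T'.card_mul_index
  have hpT : ¬ p ∣ Nat.card T := by
    intro hd
    have h1 : p ^ (a + 1) ∣ Nat.card H₁ := by
      rw [← hTcard, pow_succ, mul_comm]
      exact Nat.mul_dvd_mul_right hd _
    exact Nat.pow_succ_factorization_not_dvd Nat.card_pos.ne' hp h1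
  have hS₁p : IsPGroup p S₁ := by rw [hS₁S']; exact S'.isPGroup'
  have hcopTS : (Nat.card T).Coprime (Nat.card S₁) := by
    obtain ⟨k, hk⟩ := IsPGroup.iff_card.mp hS₁p
    rw [hk]
    exact Nat.Coprime.pow_right _ ((Nat.Prime.coprime_iff_not_dvd hp).mpr hpT).symm
  have hH₁S₁ : H₁ ≤ Subgroup.normalizer (S₁ : Set G) := by
    have hle : (S' : Subgroup G) ≤ H₁ := by rw [← hS₁S']; exact hS₁H₁
    have hn : ((S'.subtype hle : Sylow p H₁) : Subgroup H₁).Normal := inferInstance
    rw [Sylow.coe_subtype, Subgroup.normal_subgroupOf_iff_le_normalizer hle] at hn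
    rw [hS₁S']; exact hn
  have hcomm := commutator_eq_bot_of_nilpotent_coprime H₁ S₁ T hS₁H₁ hTH₁
    (hTH₁.trans hH₁S₁) hcopTS
  have hTcent : T ≤ Subgroup.centralizer (P₀ : Set G) := by
    rw [Subgroup.commutator_comm, Subgroup.commutator_eq_bot_iff_le_centralizer] at hcomm
    exact hcomm.trans (Subgroup.centralizer_le hP₀S₁)
  set N : Subgroup G := Subgroup.normalizer (P₀ : Set G) with hN
  have hTN : T ≤ N := hTcent.trans (Subgroup.centralizer_le_normalizer _)
  -- complement of P in K
  obtain ⟨C', hC'⟩ := Subgroup.exists_right_complement'_of_coprime (N := (P : Subgroup K))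
    P.card_coprime_index
  set C : Subgroup G := C'.map K.subtype with hC
  have hCK : C ≤ K := Subgroup.map_subtype_le _
  have hCcard : Nat.card C = Nat.card C' := Subgroup.card_map_of_injective K.subtype_injective
  have hPC : Nat.card P * Nat.card C' = Nat.card K := hC'.card_mul_card
  have hClt : Nat.card C < n := by
    rw [hCcard, ← hcard, ← hPC]
    have h2 : Nat.card P ≠ 1 := by rw [Ne, Subgroup.card_eq_one]; exact hPbot
    have h3 : 0 < Nat.card P := Nat.card_pos
    have h4 : 0 < Nat.card C' := Nat.card_pos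
    have h5 : 2 ≤ Nat.card P := by omega
    nlinarith
  have hsupK : P₀ ⊔ C = K := by
    rw [hP₀, hC, ← Subgroup.map_sup, hC'.sup_eq_top, ← MonoidHom.range_eq_map,
      Subgroup.range_subtype]
  have hpC : ¬ p ∣ Nat.card C := by
    rw [hCcard, ← hC'.symm.index_eq_card]
    exact P.not_dvd_index
  have hπC : ∀ r : ℕ, r.Prime → r ∣ Nat.card C → r ∣ Nat.card T := by
    intro r hr hrC
    have hrK : r ∣ Nat.card K := dvd_trans hrC (Subgroup.card_dvd_of_le hCK)
    have hrH : r ∣ Nat.card H₁ := by rw [hH₁card]; exact hπ r hr hrK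
    have hrp : r ≠ p := by
      intro h0
      rw [h0] at hrC
      exact hpC hrC
    rw [← hTcard] at hrH
    rcases (Nat.Prime.dvd_mul hr).mp hrH with h1 | h1
    · exact h1
    · exact absurd ((Nat.prime_dvd_prime_iff_eq hr hp).mp (hr.dvd_of_dvd_pow h1)) hrp
  -- apply induction in N
  have hCN : C ≤ N := hCK.trans hKN
  have hT₁nil : Group.IsNilpotent (T.subgroupOf N) :=
    (Group.isNilpotent_congr (Subgroup.subgroupOfEquivOfLe hTN)).mpr (isNilpotent_of_le hH₁nil hTH₁)
  have hT₁card : Nat.card (T.subgroupOf N) = Nat.card T := card_subgroupOf_of_le hTN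
  have hC₁card : Nat.card (C.subgroupOf N) = Nat.card C := card_subgroupOf_of_le hCN
  have hT₁hall : (Nat.card (T.subgroupOf N)).Coprime (T.subgroupOf N).index := by
    rw [hT₁card]
    have h1 : (T.subgroupOf N).index ∣ T.index := Subgroup.relIndex_dvd_index_of_le hTN
    refine Nat.Coprime.coprime_dvd_right h1 ?_
    have h2 : T.index = H₁.index * p ^ a := by
      have e1 := T.card_mul_index
      have e2 := H₁.card_mul_index
      rw [← hTcard] at e2
      have hpos : 0 < Nat.card T := Nat.card_pos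
      apply Nat.eq_of_mul_eq_mul_left hpos
      rw [e1, ← e2]; ring
    rw [h2]
    apply Nat.Coprime.mul_right
    · rw [hH₁idx]
      refine Nat.Coprime.coprime_dvd_left ?_ hHall
      rw [← hH₁card, ← hTcard]
      exact dvd_mul_right _ _
    · exact Nat.Coprime.pow_right _ ((Nat.Prime.coprime_iff_not_dvd hp).mpr hpT).symm
  have hπC₁ : ∀ r : ℕ, r.Prime → r ∣ Nat.card (C.subgroupOf N) → r ∣ Nat.card (T.subgroupOf N) := by
    intro r hr hd
    rw [hT₁card]; rw [hC₁card] at hd
    exact hπC r hr hd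
  obtain ⟨z, hz⟩ := ih _ hClt N (T.subgroupOf N) (C.subgroupOf N) hT₁nil hT₁hall hπC₁ hC₁card
  have hCz : C ≤ MulAut.conj (z : G) • T := by
    have := Subgroup.map_mono (f := N.subtype) hz
    rw [map_subtype_subgroupOf_of_le hCN, map_conj_smul, map_subtype_subgroupOf_of_le hTN] at this
    exact this
  refine ⟨(z : G) * y, ?_⟩
  rw [map_mul, mul_smul, ← hsupK]
  apply sup_le
  · have hzP : MulAut.conj (z : G) • P₀ = P₀ := (mem_normalizer_iff_conj_smul (z : G) P₀).mp z.2
    rw [← hzP]
    exact Subgroup.pointwise_smul_le_pointwise_smul_iff.mpr (hP₀S₁.trans hS₁H₁)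
  · exact hCz.trans (Subgroup.pointwise_smul_le_pointwise_smul_iff.mpr hTH₁)

theorem wielandt {G : Type u} [Group G] [Finite G] (H K : Subgroup G)
    (hH : Group.IsNilpotent H) (hHall : (Nat.card H).Coprime H.index)
    (hK : ∀ p : ℕ, p.Prime → p ∣ Nat.card K → p ∣ Nat.card H) :
    ∃ x : G, K ≤ MulAut.conj x • H :=
  wielandt_aux _ G H K hH hHall hK rfl

end Cfsg.Agent.Lib.Helper2.NilpHall
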