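import Mathlib
import Cfsg.Agent.S0629

set_option autoImplicit false

/-! `p`-constraint: reformulation through `C(O_p(G/O_{p'}(G))) ≤ O_p(G/O_{p'}(G))`. -/

namespace Cfsg.Agent.Lib.Helper2.PConstrained

open Cfsg

variable {G : Type*} [Group G] [Finite G] {p : ℕ} [Fact p.Prime]

theorem pPrimePCore_def :
    pPrimePCore p G = (pCore p (G ⧸ pPrimeCore p G)).comap (QuotientGroup.mk' (pPrimeCore p G)) := rfl

instance pPrimePCore_normal : (pPrimePCore p G).Normal := by
  rw [pPrimePCore_def]; infer_instance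

theorem map_pPrimePCore :
    (pPrimePCore p G).map (QuotientGroup.mk' (pPrimeCore p G)) = pCore p (G ⧸ pPrimeCore p G) := by
  rw [pPrimePCore_def]
  exact Subgroup.map_comap_eq_self_of_surjective (QuotientGroup.mk'_surjective _) _

theorem pPrimeCore_le_pPrimePCore : pPrimeCore p G ≤ pPrimePCore p G := by
  intro x hx
  rw [pPrimePCore_def, Subgroup.mem_comap]
  have : (QuotientGroup.mk' (pPrimeCore p G)) x = 1 := (QuotientGroup.eq_one_iff x).mpr hx
  rw [this]; exact Subgroup.one_mem _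

/-- Frattini: every element of `G/O_{p'}(G)` is the image of an element normalizing a given Sylow
`p`-subgroup of `O_{p',p}(G)`. -/
theorem exists_mem_normalizer_map_eq (P : Sylow p ↥(pPrimePCore p G)) (gb : G ⧸ pPrimeCore p G) :
    ∃ n ∈ Subgroup.normalizer
      (((P : Subgroup ↥(pPrimePCore p G)).map (pPrimePCore p G).subtype : Subgroup G) : Set G),
      QuotientGroup.mk' (pPrimeCore p G) n = gb := by
  classical
  have hπP := Cfsg.Agent.S0629.map_sylow_pPrimePCore P
  have hF : Subgroup.normalizer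
      (((P : Subgroup ↥(pPrimePCore p G)).map (pPrimePCore p G).subtype : Subgroup G) : Set G)
      ⊔ pPrimePCore p G = ⊤ := Sylow.normalizer_sup_eq_top P
  obtain ⟨g, rfl⟩ := QuotientGroup.mk'_surjective _ gb
  have hg : g ∈ Subgroup.normalizer
      (((P : Subgroup ↥(pPrimePCore p G)).map (pPrimePCore p G).subtype : Subgroup G) : Set G)
      ⊔ pPrimePCore p G := by rw [hF]; trivial
  obtain ⟨y, hy, z, hz, rfl⟩ := Subgroup.mem_sup_of_normal_right.mp hg
  have hz' : QuotientGroup.mk' (pPrimeCore p G) z ∈ pCore p (G ⧸ pPrimeCore p G) := by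
    rw [pPrimePCore_def] at hz; exact hz
  rw [← hπP] at hz'
  obtain ⟨y', hy', hyz⟩ := hz'
  refine ⟨y * y', Subgroup.mul_mem _ hy (Subgroup.le_normalizer hy'), ?_⟩
  rw [map_mul, map_mul, hyz]

/-- `G` is `p`-constrained iff `C(O_p(Ḡ)) ≤ O_p(Ḡ)` for `Ḡ = G/O_{p'}(G)`. -/
theorem isPConstrained_iff_quot :
    IsPConstrained p G ↔
      Subgroup.centralizer ((pCore p (G ⧸ pPrimeCore p G) : Subgroup (G ⧸ pPrimeCore p G)) :
        Set (G ⧸ pPrimeCore p G)) ≤ pCore p (G ⧸ pPrimeCore p G) := by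
  classical
  constructor
  · intro h xb hxb
    obtain ⟨P⟩ : Nonempty (Sylow p ↥(pPrimePCore p G)) := inferInstance
    have hπP := Cfsg.Agent.S0629.map_sylow_pPrimePCore P
    obtain ⟨n, hn, rfl⟩ := exists_mem_normalizer_map_eq P xb
    have hP₀p : IsPGroup p ((P : Subgroup ↥(pPrimePCore p G)).map (pPrimePCore p G).subtype) :=
      P.isPGroup'.map _
    have hinf := Cfsg.Agent.Lib.Helper6.isPGroup_inf_coprime_eq_bot
      (Cfsg.Agent.Lib.Helper6.pPrimeCore_coprime (G := G) p) hP₀p
    have hnC : n ∈ Subgroup.centralizer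
        (((P : Subgroup ↥(pPrimePCore p G)).map (pPrimePCore p G).subtype : Subgroup G) : Set G) := by
      rw [Subgroup.mem_centralizer_iff]
      intro y hy
      have h1 : n * y * n⁻¹ ∈ (P : Subgroup ↥(pPrimePCore p G)).map (pPrimePCore p G).subtype :=
        (Subgroup.mem_normalizer_iff.mp hn y).mp hy
      have h2 : y * (n * y * n⁻¹)⁻¹ ∈ (P : Subgroup ↥(pPrimePCore p G)).map (pPrimePCore p G).subtype :=
        Subgroup.mul_mem _ hy (Subgroup.inv_mem _ h1)
      have h3 : y * (n * y * n⁻¹)⁻¹ ∈ pPrimeCore p G := by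
        rw [← QuotientGroup.eq_one_iff, ← QuotientGroup.mk'_apply]
        have hyb : QuotientGroup.mk' (pPrimeCore p G) y ∈ pCore p (G ⧸ pPrimeCore p G) := by
          rw [← hπP]; exact ⟨y, hy, rfl⟩
        have hc := (Subgroup.mem_centralizer_iff.mp hxb) _ hyb
        simp only [map_mul, map_inv, mul_inv_rev, inv_inv]
        rw [← mul_assoc, hc]
        group
      have h4 : y * (n * y * n⁻¹)⁻¹ ∈
          (P : Subgroup ↥(pPrimePCore p G)).map (pPrimePCore p G).subtype ⊓ pPrimeCore p G := ⟨h2, h3⟩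
      rw [hinf, Subgroup.mem_bot] at h4
      have h5 : y = n * y * n⁻¹ := mul_inv_eq_one.mp h4
      calc y * n = (n * y * n⁻¹) * n := by rw [← h5]
        _ = n * y := by group
    have hnL := h P hnC
    rw [pPrimePCore_def] at hnL
    exact hnL
  · intro h P x hx
    have hπP := Cfsg.Agent.S0629.map_sylow_pPrimePCore P
    rw [pPrimePCore_def, Subgroup.mem_comap]
    apply h
    rw [Subgroup.mem_centralizer_iff]
    intro yb hyb
    rw [SetLike.mem_coe, ← hπP] at hyb
    obtain ⟨y, hy, rfl⟩ := hyb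
    rw [← map_mul, ← map_mul, (Subgroup.mem_centralizer_iff.mp hx) y hy]

omit [Fact p.Prime] in
/-- when `O_{p'}(X) = 1`, `O_{p',p}(X) = O_p(X)` -/
theorem pPrimePCore_eq_pCore_of_bot [Fact p.Prime] (h : pPrimeCore p G = ⊥) : pPrimePCore p G = pCore p G := by
  apply le_antisymm
  · apply Cfsg.Agent.Lib.Helper6.le_pCore inferInstance
    rw [IsPGroup.iff_card]
    obtain ⟨m, hm⟩ := (IsPGroup.iff_card).mp
      (Cfsg.Agent.Lib.Helper6.pCore_isPGroup (G := G ⧸ pPrimeCore p G) p)
    refine ⟨m, ?_⟩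
    rw [pPrimePCore_def, Cfsg.Agent.Lib.Lead.card_comap_mk, hm, h, Subgroup.card_bot, mul_one]
  · intro x hx
    rw [pPrimePCore_def, Subgroup.mem_comap]
    have : (pCore p G).map (QuotientGroup.mk' (pPrimeCore p G)) ≤ pCore p (G ⧸ pPrimeCore p G) := by
      apply Cfsg.Agent.Lib.Helper6.le_pCore
      · exact (Cfsg.Agent.Lib.Lead.pCore_normal p).map _ (QuotientGroup.mk'_surjective _)
      · exact (Cfsg.Agent.Lib.Helper6.pCore_isPGroup p).map _
    exact this ⟨x, hx, rfl⟩

/-- when `O_{p'}(X) = 1`, `X` is `p`-constrained iff `C(O_p(X)) ≤ O_p(X)` -/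
theorem isPConstrained_iff_of_bot (h : pPrimeCore p G = ⊥) :
    IsPConstrained p G ↔
      Subgroup.centralizer ((pCore p G : Subgroup G) : Set G) ≤ pCore p G := by
  classical
  have hL := pPrimePCore_eq_pCore_of_bot h
  have hLp : IsPGroup p ↥(pPrimePCore p G) := by
    rw [hL]; exact Cfsg.Agent.Lib.Helper6.pCore_isPGroup p
  have hmap : ∀ P : Sylow p ↥(pPrimePCore p G),
      (P : Subgroup ↥(pPrimePCore p G)).map (pPrimePCore p G).subtype = pCore p G := by
    intro P
    have htop : (P : Subgroup ↥(pPrimePCore p G)) = ⊤ := by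
      have : IsPGroup p (⊤ : Subgroup ↥(pPrimePCore p G)) := by
        intro g
        obtain ⟨k, hk⟩ := hLp g.1
        exact ⟨k, Subtype.ext hk⟩
      exact (P.is_maximal' this le_top).symm
    rw [htop, ← MonoidHom.range_eq_map, Subgroup.range_subtype, hL]
  constructor
  · intro hc
    obtain ⟨P⟩ : Nonempty (Sylow p ↥(pPrimePCore p G)) := inferInstance
    have := hc P
    rw [hmap P, hL] at this
    exact this
  · intro hc P
    rw [hmap P, hL]
    exact hc

end Cfsg.Agent.Lib.Helper2.PConstrained
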