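import Mathlib
import Cfsg.Agent.Lib.Helper2.FZ6
import Cfsg.Agent.S0042

set_option autoImplicit false

/-! Feit's Zassenhaus groups: the kernel `H` is nilpotent; elements with two fixed points. -/

namespace Cfsg.Agent.Lib.Helper2

namespace FZ

open MulAction Cfsg.Agent.Lib.Lead.Zass
open scoped Pointwise

section
variable {G Ω : Type*} [Group G] [MulAction G Ω]

/-- every element of the stabilizer of `a` outside `H` fixes a further point. -/
theorem exists_fixed_of_not_mem [Finite G] [Fintype Ω] (Z : ZData G Ω) (a : Ω) (H : Subgroup G)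
    (hHa : H ≤ stabilizer G a) (hHcard : Nat.card H + 1 = Fintype.card Ω)
    (hHfix : ∀ u ∈ H, u ≠ 1 → ∀ c : Ω, u • c = c → c = a) {x : G} (hx : x • a = a)
    (hxH : x ∉ H) : ∃ c : Ω, c ≠ a ∧ x • c = c := by
  classical
  have hcardΩ' : Nat.card {c : Ω // c ≠ a} + 1 = Fintype.card Ω := by
    rw [Nat.card_eq_fintype_card, Fintype.card_subtype_compl, Fintype.card_subtype_eq]
    have : 0 < Fintype.card Ω := Fintype.card_pos_iff.mpr ⟨a⟩
    omega
  have hcard : Nat.card {c : Ω // c ≠ a} = Nat.card H := by omega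
  have hex : ∀ c : {c : Ω // c ≠ a}, ∃ v : H, (v : G) • (c : Ω) = x • (c : Ω) := by
    intro c
    obtain ⟨v, hv, hvc⟩ := H_trans a H hHa hHcard hHfix c.2 (stab_ne a hx c.2)
    exact ⟨⟨v, hv⟩, hvc⟩
  choose ψ hψ using hex
  have hψinj : Function.Injective ψ := by
    intro c d hcd
    by_contra hne
    have h1 : ((ψ c : G)⁻¹ * x) • (c : Ω) = c := by
      rw [mul_smul, ← hψ c, inv_smul_smul]
    have h2' : ((ψ c : G)⁻¹ * x) • (d : Ω) = d := by
      rw [mul_smul, ← hψ d, ← hcd, inv_smul_smul]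
    have h3' : ((ψ c : G)⁻¹ * x) • a = a := by
      rw [mul_smul, hx]
      exact MulAction.mem_stabilizer_iff.mp (inv_mem (hHa (ψ c).2))
    have hcd' : (c : Ω) ≠ d := fun h => hne (Subtype.ext h)
    have := Z.three _ a c d (Ne.symm c.2) hcd' (Ne.symm d.2) h3' h1 h2'
    apply hxH
    have hx' : x = (ψ c : G) := by
      have h4 : x = (ψ c : G) * ((ψ c : G)⁻¹ * x) := by group
      rw [h4, this, mul_one]
    rw [hx']
    exact (ψ c).2
  have hψbij : Function.Bijective ψ :=
    Function.Injective.bijective_of_nat_card_le hψinj hcard.ge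
  obtain ⟨c, hc⟩ := hψbij.2 1
  refine ⟨c, c.2, ?_⟩
  rw [← hψ c, hc, Subgroup.coe_one, one_smul]

/-- all two-point stabilizers have the same order. -/
theorem card_two_stab [Finite G] [Fintype Ω] (Z : ZData G Ω) {a b c d : Ω} (hab : a ≠ b)
    (hcd : c ≠ d) :
    Nat.card ↥(stabilizer G c ⊓ stabilizer G d : Subgroup G)
      = Nat.card ↥(stabilizer G a ⊓ stabilizer G b : Subgroup G) := by
  classical
  haveI : Fintype G := Fintype.ofFinite G
  rw [← eNum_eq_card, ← eNum_eq_card]
  exact card_mapSet Z hab hcd hcd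

/-- an element with two fixed points has odd order when `e` is odd. -/
theorem odd_order_of_two_fixed [Finite G] [Fintype Ω] (Z : ZData G Ω) {a b c d : Ω} (hab : a ≠ b)
    (hodd : Odd (Nat.card ↥(stabilizer G a ⊓ stabilizer G b : Subgroup G)))
    (hcd : c ≠ d) {z : G} (hzc : z • c = c) (hzd : z • d = d) : Odd (orderOf z) := by
  have hz : z ∈ stabilizer G c ⊓ stabilizer G d := (mem_H_iff c d z).mpr ⟨hzc, hzd⟩
  have h1 : orderOf z ∣ Nat.card ↥(stabilizer G c ⊓ stabilizer G d : Subgroup G) := by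
    have := orderOf_dvd_natCard (⟨z, hz⟩ : ↥(stabilizer G c ⊓ stabilizer G d : Subgroup G))
    rwa [← Subgroup.orderOf_coe] at this
  rw [card_two_stab Z hab hcd] at h1
  exact Odd.of_dvd_nat hodd h1

/-- an involution in the stabilizer of `a` lies in `H`. -/
theorem invol_mem_H [Finite G] [Fintype Ω] (Z : ZData G Ω) {a b : Ω} (hab : a ≠ b)
    (hodd : Odd (Nat.card ↥(stabilizer G a ⊓ stabilizer G b : Subgroup G)))
    (H : Subgroup G) (hHa : H ≤ stabilizer G a) (hHcard : Nat.card H + 1 = Fintype.card Ω)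
    (hHfix : ∀ u ∈ H, u ≠ 1 → ∀ c : Ω, u • c = c → c = a) {x : G} (hx : x • a = a)
    (hx2 : orderOf x = 2) : x ∈ H := by
  by_contra hxH
  obtain ⟨c, hca, hc⟩ := exists_fixed_of_not_mem Z a H hHa hHcard hHfix hx hxH
  have := odd_order_of_two_fixed Z hab hodd (Ne.symm hca) hx hc
  rw [hx2] at this
  exact absurd this (by decide)

end

section nilp
variable {G Ω : Type*} [Group G] [MulAction G Ω]

/-- the kernel `H` is nilpotent (Thompson). -/
theorem H_nilpotent [Finite G] [Fintype Ω] (hZ : Cfsg.IsZassenhausGroup G Ω) {a b : Ω}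
    (hab : a ≠ b) (H : Subgroup G) (hHa : H ≤ stabilizer G a)
    (hHcard : Nat.card H + 1 = Fintype.card Ω)
    (hHfix : ∀ u ∈ H, u ≠ 1 → ∀ c : Ω, u • c = c → c = a) : Group.IsNilpotent ↥H := by
  have Z := zdata_of hZ
  obtain ⟨h₀, hh₀1, hh₀a, hh₀b, c₀, hc₀a, hc₀b⟩ := exists_ne_one_H hZ hab
  -- the complement
  set N : Subgroup G := stabilizer G a with hN
  set E' : Subgroup ↥N := (stabilizer G b).subgroupOf N with hE'
  have memE' : ∀ x : ↥N, x ∈ E' ↔ (x : G) • b = b := by
    intro x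
    rw [hE', Subgroup.mem_subgroupOf, mem_stabilizer_iff]
  have hNa : ∀ x : ↥N, (x : G) • a = a := fun x => mem_stabilizer_iff.mp x.2
  have hH1 : ∃ u ∈ H, u ≠ 1 := by
    obtain ⟨u, hu, huc⟩ := H_trans a H hHa hHcard hHfix (Ne.symm hab) hc₀a
    refine ⟨u, hu, ?_⟩
    rintro rfl
    rw [one_smul] at huc
    exact hc₀b huc.symm
  have hF : Cfsg.IsFrobeniusComplement E' := by
    refine ⟨?_, ?_, ?_⟩
    · intro h
      have : (⟨h₀, mem_stabilizer_iff.mpr hh₀a⟩ : ↥N) ∈ E' := (memE' _).mpr hh₀b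
      rw [h, Subgroup.mem_bot] at this
      exact hh₀1 (congrArg Subtype.val this)
    · intro h
      obtain ⟨u, hu, hu1⟩ := hH1
      have : (⟨u, hHa hu⟩ : ↥N) ∈ E' := by rw [h]; exact Subgroup.mem_top _
      rw [memE'] at this
      exact hab (hHfix u hu hu1 b this).symm
    · intro g hg
      rw [memE'] at hg
      rw [eq_bot_iff]
      intro z hz
      rw [Subgroup.mem_inf, Subgroup.mem_pointwise_smul_iff_inv_smul_mem] at hz
      obtain ⟨hz1, hz2⟩ := hz
      rw [memE'] at hz1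
      have hz2' : ((g⁻¹ * z * g : ↥N) : G) • b = b := by
        have : (MulAut.conj g)⁻¹ • z = g⁻¹ * z * g := by
          rw [← map_inv, MulAut.smul_def, MulAut.conj_apply, inv_inv]
        rw [this, memE'] at hz2
        exact hz2
      rw [Subgroup.coe_mul, Subgroup.coe_mul, Subgroup.coe_inv, mul_smul, mul_smul,
        inv_smul_eq_iff] at hz2'
      rw [Subgroup.mem_bot]
      apply Subtype.ext
      have hgb : (g : G) • b ≠ a := stab_ne a (hNa g) (Ne.symm hab)
      exact Z.three _ a b ((g : G) • b) hab (Ne.symm hg) (Ne.symm hgb) (hNa z) hz1 hz2'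
  obtain ⟨K, hK, hKn, hKnil⟩ := Cfsg.Agent.S0042.result E' hF
  have hKH : K = H.subgroupOf N := by
    ext x
    rw [← SetLike.mem_coe, hK, Subgroup.mem_subgroupOf]
    constructor
    · rintro (h | h)
      · rw [h]; exact H.one_mem
      · by_contra hxH
        obtain ⟨c, hca, hc⟩ := exists_fixed_of_not_mem Z a H hHa hHcard hHfix (hNa x) hxH
        obtain ⟨g, hga, hgb⟩ := Z.two hab (Ne.symm hca)
        apply h ⟨g, mem_stabilizer_iff.mpr hga⟩
        rw [Subgroup.mem_pointwise_smul_iff_inv_smul_mem]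
        have : (MulAut.conj (⟨g, mem_stabilizer_iff.mpr hga⟩ : ↥N))⁻¹ • x
            = (⟨g, mem_stabilizer_iff.mpr hga⟩ : ↥N)⁻¹ * x * ⟨g, mem_stabilizer_iff.mpr hga⟩ := by
          rw [← map_inv, MulAut.smul_def, MulAut.conj_apply, inv_inv]
        rw [this, memE']
        show (g⁻¹ * (x : G) * g) • b = b
        rw [mul_smul, mul_smul, hgb, hc, ← hgb, inv_smul_smul]
    · intro hxH
      by_cases hx1 : x = 1
      · exact Or.inl hx1
      · right
        intro g hg
        rw [Subgroup.mem_pointwise_smul_iff_inv_smul_mem] at hg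
        have : (MulAut.conj g)⁻¹ • x = g⁻¹ * x * g := by
          rw [← map_inv, MulAut.smul_def, MulAut.conj_apply, inv_inv]
        rw [this, memE', Subgroup.coe_mul, Subgroup.coe_mul, Subgroup.coe_inv, mul_smul, mul_smul,
          inv_smul_eq_iff] at hg
        have hx1' : (x : G) ≠ 1 := fun h => hx1 (Subtype.ext h)
        have := hHfix _ hxH hx1' _ hg
        exact stab_ne a (hNa g) (Ne.symm hab) this
  rw [hKH] at hKnil
  haveI := hKnil
  exact Group.nilpotent_of_mulEquiv (Subgroup.subgroupOfEquivOfLe hHa)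

end nilp

end FZ

end Cfsg.Agent.Lib.Helper2
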