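import Mathlib
import Cfsg.Agent.Lib.Helper2.FZ8
import Cfsg.Agent.Lib.Helper2.Schmidt4

set_option autoImplicit false

/-! Feit's Zassenhaus groups: involutions. -/

namespace Cfsg.Agent.Lib.Helper2

namespace FZ

open MulAction Cfsg.Agent.Lib.Lead.Zass

section
variable {G : Type*} [Group G]

theorem invol_sq {x : G} (hx : orderOf x = 2) : x * x = 1 := by
  rw [← pow_two, ← hx]
  exact pow_orderOf_eq_one x

theorem invol_inv {x : G} (hx : orderOf x = 2) : x⁻¹ = x :=
  inv_eq_of_mul_eq_one_left (invol_sq hx)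

theorem invol_ne_one {x : G} (hx : orderOf x = 2) : x ≠ 1 := by
  rintro rfl
  rw [orderOf_one] at hx
  omega

theorem orderOf_conj_eq (g x : G) : orderOf (g * x * g⁻¹) = orderOf x :=
  (MulAut.conj g).orderOf_eq x

theorem orderOf_conj_eq' (g x : G) : orderOf (g⁻¹ * x * g) = orderOf x := by
  have := orderOf_conj_eq g⁻¹ x
  rwa [inv_inv] at this

/-- two involutions are conjugate or both commute with a third involution. -/
theorem invol_dihedral [Finite G] {x y : G} (hx : orderOf x = 2) (hy : orderOf y = 2) :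
    IsConj x y ∨ ∃ z : G, orderOf z = 2 ∧ z * x = x * z ∧ z * y = y * z := by
  have hxx := invol_sq hx
  have hyy := invol_sq hy
  have hxi := invol_inv hx
  have hyi := invol_inv hy
  set d := x * y with hd
  have hxd : x * d * x⁻¹ = d⁻¹ := by
    rw [hd, mul_inv_rev, hxi, hyi, ← mul_assoc, hxx, one_mul]
  have hyd : y * d * y⁻¹ = d⁻¹ := by
    rw [hd, mul_inv_rev, hxi, hyi, mul_assoc, mul_assoc, hyy, mul_one]
  have hxdj : ∀ j : ℕ, x * d ^ j * x⁻¹ = (d ^ j)⁻¹ := by
    intro j
    rw [← conj_pow, hxd, inv_pow]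
  have hydj : ∀ j : ℕ, y * d ^ j * y⁻¹ = (d ^ j)⁻¹ := by
    intro j
    rw [← conj_pow, hyd, inv_pow]
  have hm := orderOf_pos d
  rcases Nat.even_or_odd (orderOf d) with hev | hod
  · right
    obtain ⟨k, hk⟩ := hev
    have hk' : orderOf d = 2 * k := by omega
    have hk0 : k ≠ 0 := by
      rintro rfl
      omega
    have hz2 : orderOf (d ^ k) = 2 := by
      rw [orderOf_pow_of_dvd hk0 ⟨2, by omega⟩, hk']
      exact Nat.mul_div_cancel _ (Nat.pos_of_ne_zero hk0)
    have hzi := invol_inv hz2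
    refine ⟨d ^ k, hz2, ?_, ?_⟩
    · have := hxdj k
      rw [hzi] at this
      calc d ^ k * x = (x * d ^ k * x⁻¹) * x := by rw [this]
        _ = x * d ^ k := by group
    · have := hydj k
      rw [hzi] at this
      calc d ^ k * y = (y * d ^ k * y⁻¹) * y := by rw [this]
        _ = y * d ^ k := by group
  · left
    obtain ⟨k, hk⟩ := hod
    rw [isConj_iff]
    refine ⟨d ^ k, ?_⟩
    have h1 : x * (d ^ k)⁻¹ = d ^ k * x := by
      have := hxdj k
      calc x * (d ^ k)⁻¹ = x * (x * d ^ k * x⁻¹) := by rw [this]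
        _ = (x * x) * d ^ k * x⁻¹ := by group
        _ = d ^ k * x := by rw [hxx, one_mul, hxi]
    have h2 : d ^ (2 * k + 1) = 1 := by
      rw [← hk]
      exact pow_orderOf_eq_one d
    have h3 : d ^ k * d ^ k = d⁻¹ := by
      rw [← pow_add]
      have : d ^ (k + k) * d = 1 := by
        rw [← pow_succ]
        rw [← h2]
        congr 1
        omega
      exact eq_inv_of_mul_eq_one_left this
    calc d ^ k * x * (d ^ k)⁻¹ = d ^ k * (x * (d ^ k)⁻¹) := by group
      _ = d ^ k * (d ^ k * x) := by rw [h1]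
      _ = (d ^ k * d ^ k) * x := by group
      _ = d⁻¹ * x := by rw [h3]
      _ = y := by rw [hd, mul_inv_rev, hxi, hyi, mul_assoc, hxx, mul_one]

end

section
variable {G Ω : Type*} [Group G] [MulAction G Ω]

/-- an element commuting with an element having a single fixed point fixes this point. -/
theorem fix_of_commute {x z : G} {c : Ω} (hx : ∀ d : Ω, x • d = d → d = c) (hxc : x • c = c)
    (hzx : z * x = x * z) : z • c = c := by
  apply hx
  rw [← mul_smul, ← hzx, mul_smul, hxc]

/-- two involutions of `H` are conjugate in the stabilizer of `a`. -/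
theorem invol_H_conj [Finite G] [Fintype Ω] (hZ : Cfsg.IsZassenhausGroup G Ω) {a b : Ω}
    (hab : a ≠ b)
    (hodd : Odd (Nat.card ↥(stabilizer G a ⊓ stabilizer G b : Subgroup G)))
    (H : Subgroup G) (hHa : H ≤ stabilizer G a) (hHcard : Nat.card H + 1 = Fintype.card Ω)
    (hHfix : ∀ u ∈ H, u ≠ 1 → ∀ c : Ω, u • c = c → c = a) {x y : G} (hx : x ∈ H) (hy : y ∈ H)
    (hx2 : orderOf x = 2) (hy2 : orderOf y = 2) :
    ∃ n : G, n • a = a ∧ n * x * n⁻¹ = y := by
  have Z := zdata_of hZ
  obtain ⟨g, hga, hgb⟩ := Z.two hab (Ne.symm hab)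
  have hga' : g • a ≠ a := by rw [hga]; exact Ne.symm hab
  have hxa : x • a = a := mem_stabilizer_iff.mp (hHa hx)
  have hya : y • a = a := mem_stabilizer_iff.mp (hHa hy)
  have hy'2 : orderOf (g * y * g⁻¹) = 2 := by rw [orderOf_conj_eq, hy2]
  have hy'fix : ∀ d : Ω, (g * y * g⁻¹) • d = d → d = g • a := by
    intro d hd
    rw [mul_smul, mul_smul, smul_eq_iff_eq_inv_smul] at hd
    have := hHfix y hy (invol_ne_one hy2) _ hd
    rw [inv_smul_eq_iff] at this
    exact this
  have hy'a : (g * y * g⁻¹) • (g • a) = g • a := by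
    rw [mul_smul, mul_smul, inv_smul_smul, hya]
  rcases invol_dihedral hx2 hy'2 with hc | ⟨z, hz2, hzx, hzy⟩
  · rw [isConj_iff] at hc
    obtain ⟨c, hc⟩ := hc
    have h1 : (g⁻¹ * c) * x * (g⁻¹ * c)⁻¹ = y := by
      calc (g⁻¹ * c) * x * (g⁻¹ * c)⁻¹ = g⁻¹ * (c * x * c⁻¹) * g := by group
        _ = y := by rw [hc]; group
    refine ⟨g⁻¹ * c, ?_, h1⟩
    by_contra hna
    have := H_ti hZ a H hHa hHcard hHfix hna hx (by rw [h1]; exact hy)
    exact invol_ne_one hx2 this
  · exfalso
    have h1 : z • a = a := fix_of_commute (hHfix x hx (invol_ne_one hx2)) hxa hzx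
    have h2 : z • (g • a) = g • a := fix_of_commute hy'fix hy'a hzy
    have := odd_order_of_two_fixed Z hab hodd (Ne.symm hga') h1 h2
    rw [hz2] at this
    exact absurd this (by decide)

end

end FZ

end Cfsg.Agent.Lib.Helper2
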