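import Mathlib
import Cfsg.Agent.Lib.Helper2.FZ9
import Cfsg.Agent.Lib.Lead.MaxNilp1

set_option autoImplicit false

/-! Feit's Zassenhaus groups: the involutions of `H` are central in `H`. -/

namespace Cfsg.Agent.Lib.Helper2

namespace FZ

open MulAction Cfsg.Agent.Lib.Lead.Zass

section
variable {G Ω : Type*} [Group G] [MulAction G Ω]

/-- an involution of `H` commuting with all `2`-elements of `H`. -/
theorem exists_central_invol [Finite G] [Fintype Ω] (hZ : Cfsg.IsZassenhausGroup G Ω) {a b : Ω}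
    (hab : a ≠ b) (H : Subgroup G) (hHa : H ≤ stabilizer G a)
    (hHcard : Nat.card H + 1 = Fintype.card Ω)
    (hHfix : ∀ u ∈ H, u ≠ 1 → ∀ c : Ω, u • c = c → c = a) {x : G} (hx : x ∈ H)
    (hx2 : orderOf x = 2) :
    ∃ t₀ ∈ H, orderOf t₀ = 2 ∧ ∀ w ∈ H, (∃ k : ℕ, w ^ 2 ^ k = 1) → t₀ * w = w * t₀ := by
  haveI : Fact (Nat.Prime 2) := ⟨Nat.prime_two⟩
  haveI hnil := H_nilpotent hZ hab H hHa hHcard hHfix
  let P : Sylow 2 ↥H := default
  have hPn : (P : Subgroup ↥H).Normal :=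
    Sylow.normal_of_normalizerCondition normalizerCondition_of_isNilpotent P
  have hmemP : ∀ w : G, ∀ hw : w ∈ H, (∃ k : ℕ, w ^ 2 ^ k = 1) → (⟨w, hw⟩ : ↥H) ∈ P := by
    intro w hw hwk
    obtain ⟨k, hk⟩ := hwk
    have h1 : IsPGroup 2 (Subgroup.zpowers (⟨w, hw⟩ : ↥H)) := by
      apply Schmidt.isPGroup_zpowers_of_pow_eq_one (k := k)
      apply Subtype.ext
      rw [Subgroup.coe_pow]
      exact hk
    exact Schmidt.le_of_normal_sylow P hPn h1 (Subgroup.mem_zpowers _)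
  have hxP : (⟨x, hx⟩ : ↥H) ∈ P := hmemP x hx ⟨1, by rw [pow_one, pow_two]; exact invol_sq hx2⟩
  haveI : Nontrivial ↥(P : Subgroup ↥H) := by
    refine ⟨⟨⟨⟨x, hx⟩, hxP⟩, 1, ?_⟩⟩
    intro h
    have := congrArg (fun z : ↥(P : Subgroup ↥H) => ((z : ↥H) : G)) h
    exact invol_ne_one hx2 this
  have hcen := IsPGroup.center_nontrivial P.2
  have hcenP : IsPGroup 2 ↥(Subgroup.center ↥(P : Subgroup ↥H)) := P.2.to_subgroup _
  have h2dvd : 2 ∣ Nat.card ↥(Subgroup.center ↥(P : Subgroup ↥H)) := by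
    rcases hcenP.card_eq_or_dvd with h | h
    · exfalso
      have := Finite.one_lt_card_iff_nontrivial.mpr hcen
      omega
    · exact h
  obtain ⟨t, ht⟩ := exists_prime_orderOf_dvd_card' 2 h2dvd
  refine ⟨(((t : ↥(P : Subgroup ↥H)) : ↥H) : G), (t : ↥(P : Subgroup ↥H)).1.2, ?_, ?_⟩
  · rw [Subgroup.orderOf_coe, Subgroup.orderOf_coe, Subgroup.orderOf_coe, ht]
  · intro w hw hwk
    have hwP := hmemP w hw hwk
    have hc := Subgroup.mem_center_iff.mp t.2 ⟨⟨w, hw⟩, hwP⟩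
    have := congrArg (fun z : ↥(P : Subgroup ↥H) => ((z : ↥H) : G)) hc
    exact this.symm

/-- an involution of `H` commutes with the `2`-elements of `H`. -/
theorem invol_H_comm_two [Finite G] [Fintype Ω] (hZ : Cfsg.IsZassenhausGroup G Ω) {a b : Ω}
    (hab : a ≠ b)
    (hodd : Odd (Nat.card ↥(stabilizer G a ⊓ stabilizer G b : Subgroup G)))
    (H : Subgroup G) (hHa : H ≤ stabilizer G a)
    (hHcard : Nat.card H + 1 = Fintype.card Ω)
    (hHfix : ∀ u ∈ H, u ≠ 1 → ∀ c : Ω, u • c = c → c = a) {x : G} (hx : x ∈ H)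
    (hx2 : orderOf x = 2) {w : G} (hw : w ∈ H) (hwk : ∃ k : ℕ, w ^ 2 ^ k = 1) :
    x * w = w * x := by
  obtain ⟨t₀, ht₀H, ht₀2, ht₀⟩ := exists_central_invol hZ hab H hHa hHcard hHfix hx hx2
  obtain ⟨n, hna, hn⟩ := invol_H_conj hZ hab hodd H hHa hHcard hHfix ht₀H hx ht₀2 hx2
  have hw'H : n⁻¹ * w * n ∈ H := H_conj_mem' hZ a H hHa hHcard hHfix hna hw
  have hw'k : ∃ k : ℕ, (n⁻¹ * w * n) ^ 2 ^ k = 1 := by
    obtain ⟨k, hk⟩ := hwk
    refine ⟨k, ?_⟩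
    have : n⁻¹ * w * n = n⁻¹ * w * n⁻¹⁻¹ := by rw [inv_inv]
    rw [this, conj_pow, hk, mul_one, mul_inv_cancel]
  have hc := ht₀ _ hw'H hw'k
  rw [← hn]
  calc n * t₀ * n⁻¹ * w = n * (t₀ * (n⁻¹ * w * n)) * n⁻¹ := by group
    _ = n * ((n⁻¹ * w * n) * t₀) * n⁻¹ := by rw [hc]
    _ = w * (n * t₀ * n⁻¹) := by group

/-- the involutions of `H` are central in `H`. -/
theorem invol_H_central [Finite G] [Fintype Ω] (hZ : Cfsg.IsZassenhausGroup G Ω) {a b : Ω}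
    (hab : a ≠ b)
    (hodd : Odd (Nat.card ↥(stabilizer G a ⊓ stabilizer G b : Subgroup G)))
    (H : Subgroup G) (hHa : H ≤ stabilizer G a)
    (hHcard : Nat.card H + 1 = Fintype.card Ω)
    (hHfix : ∀ u ∈ H, u ≠ 1 → ∀ c : Ω, u • c = c → c = a) {x : G} (hx : x ∈ H)
    (hx2 : orderOf x = 2) {w : G} (hw : w ∈ H) : x * w = w * x := by
  haveI : Fact (Nat.Prime 2) := ⟨Nat.prime_two⟩
  have hnil := H_nilpotent hZ hab H hHa hHcard hHfix
  obtain ⟨k, m, hm, hkm⟩ := Nat.exists_eq_two_pow_mul_odd (orderOf_pos w).ne'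
  have hcop : Nat.Coprime (2 ^ k) m := Nat.Coprime.pow_left _ (Nat.coprime_two_left.mpr hm)
  have h1 : (w ^ 2 ^ k) ^ m = 1 := by
    rw [← pow_mul, ← hkm]
    exact pow_orderOf_eq_one w
  have h2 : (w ^ m) ^ 2 ^ k = 1 := by
    rw [← pow_mul, mul_comm, ← hkm]
    exact pow_orderOf_eq_one w
  have hc2 : x * (w ^ m) = (w ^ m) * x :=
    invol_H_comm_two hZ hab hodd H hHa hHcard hHfix hx hx2 (H.pow_mem hw m) ⟨k, h2⟩
  have hc1 : x * (w ^ 2 ^ k) = (w ^ 2 ^ k) * x := by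
    apply Cfsg.Agent.Lib.Lead.MaxNilp.commute_of_nilpotent (p := 2) hnil hx (H.pow_mem hw _)
    · apply Schmidt.isPGroup_zpowers_of_pow_eq_one (k := 1)
      rw [pow_one, pow_two]
      exact invol_sq hx2
    · have hd : orderOf (w ^ 2 ^ k) ∣ m := orderOf_dvd_of_pow_eq_one h1
      exact Nat.Coprime.coprime_dvd_left hd (Nat.coprime_two_right.mpr hm)
  have hbez := Int.gcd_eq_gcd_ab ((2 ^ k : ℕ) : ℤ) (m : ℤ)
  have hg1 : Int.gcd ((2 ^ k : ℕ) : ℤ) (m : ℤ) = 1 := by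
    rw [Int.gcd_natCast_natCast]
    exact hcop
  rw [hg1] at hbez
  have hw' : w = (w ^ 2 ^ k) ^ (Int.gcdA ((2 ^ k : ℕ) : ℤ) (m : ℤ)) *
      (w ^ m) ^ (Int.gcdB ((2 ^ k : ℕ) : ℤ) (m : ℤ)) := by
    rw [← zpow_natCast, ← zpow_natCast, ← zpow_mul, ← zpow_mul, ← zpow_add, ← hbez]
    simp
  have hC1 : Commute x ((w ^ 2 ^ k) ^ (Int.gcdA ((2 ^ k : ℕ) : ℤ) (m : ℤ))) :=
    Commute.zpow_right hc1 _
  have hC2 : Commute x ((w ^ m) ^ (Int.gcdB ((2 ^ k : ℕ) : ℤ) (m : ℤ))) :=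
    Commute.zpow_right hc2 _
  have := (hC1.mul_right hC2).eq
  rw [← hw'] at this
  exact this

end

end FZ

end Cfsg.Agent.Lib.Helper2
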