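import Mathlib
import Cfsg.Agent.Lib.Helper2.FZ10

set_option autoImplicit false

/-! Feit's Zassenhaus groups: existence of the kernel `H`; elements swapping two points. -/

namespace Cfsg.Agent.Lib.Helper2

namespace FZ

open MulAction Cfsg.Agent.Lib.Lead.Zass

section
variable {G Ω : Type*} [Group G] [MulAction G Ω]

/-- the Frobenius kernel of a point stabilizer exists. -/
theorem exists_H [Finite G] [Fintype Ω] (hZ : Cfsg.IsZassenhausGroup G Ω) {a b : Ω}
    (hab : a ≠ b) :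
    ∃ H : Subgroup G, H ≤ stabilizer G a ∧ Nat.card H + 1 = Fintype.card Ω ∧
      ∀ u ∈ H, u ≠ 1 → ∀ c : Ω, u • c = c → c = a := by
  classical
  have Z := zdata_of hZ
  obtain ⟨h₀, hh₀1, hh₀a, hh₀b, c₀, hc₀a, hc₀b⟩ := exists_ne_one_H hZ hab
  set N : Subgroup G := stabilizer G a with hN
  have hNa : ∀ x : ↥N, (x : G) • a = a := fun x => mem_stabilizer_iff.mp x.2
  have hsm : ∀ (x : ↥N) (c : Ω), x • c = (x : G) • c := fun x c => rfl
  have h1 : stabilizer ↥N b ≠ ⊥ := by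
    intro h
    have : (⟨h₀, mem_stabilizer_iff.mpr hh₀a⟩ : ↥N) ∈ stabilizer ↥N b := by
      rw [mem_stabilizer_iff]
      exact hh₀b
    rw [h, Subgroup.mem_bot] at this
    exact hh₀1 (congrArg Subtype.val this)
  have h2 : stabilizer ↥N b ≠ ⊤ := by
    intro h
    obtain ⟨g, hga, hgb⟩ := Z.two hab (Ne.symm hc₀a)
    have : (⟨g, mem_stabilizer_iff.mpr hga⟩ : ↥N) ∈ stabilizer ↥N b := by
      rw [h]; exact Subgroup.mem_top _
    rw [mem_stabilizer_iff] at this
    have h3 : g • b = b := this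
    exact hc₀b (hgb.symm.trans h3)
  have h3 : ∀ g : ↥N, g • b ≠ b → ∀ h : ↥N, h • b = b → h • (g • b) = g • b → h = 1 := by
    intro g hg h hhb hhg
    apply Subtype.ext
    have hgb : (g : G) • b ≠ a := stab_ne a (hNa g) (Ne.symm hab)
    exact Z.three _ a b ((g : G) • b) hab (Ne.symm hg) (Ne.symm hgb) (hNa h) hhb hhg
  obtain ⟨K, hKn, hKfpf, -, hKprod⟩ := frob_action (A := ↥N) (X := Ω) b h1 h2 h3
  refine ⟨K.map N.subtype, ?_, ?_, ?_⟩
  · intro x hx
    obtain ⟨k, -, rfl⟩ := Subgroup.mem_map.mp hx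
    exact k.2
  · have hcardΩ' : Nat.card {c : Ω // c ≠ a} + 1 = Fintype.card Ω := by
      rw [Nat.card_eq_fintype_card, Fintype.card_subtype_compl, Fintype.card_subtype_eq]
      have : 0 < Fintype.card Ω := Fintype.card_pos_iff.mpr ⟨a⟩
      omega
    rw [← hcardΩ']
    congr 1
    rw [Nat.card_congr (K.equivMapOfInjective N.subtype N.subtype_injective).symm.toEquiv]
    apply Nat.card_eq_of_bijective
      (fun k : K => (⟨((k : ↥N) : G) • b, stab_ne a (hNa k) (Ne.symm hab)⟩ : {c : Ω // c ≠ a}))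
    constructor
    · intro k k' hkk
      have h4 : ((k : ↥N) : G) • b = ((k' : ↥N) : G) • b := congrArg Subtype.val hkk
      by_contra hne
      have h5 : (k' : ↥N)⁻¹ * (k : ↥N) ≠ 1 := by
        intro h
        apply hne
        apply Subtype.ext
        have : (k : ↥N) = (k' : ↥N) * ((k' : ↥N)⁻¹ * (k : ↥N)) := by group
        rw [this, h, mul_one]
      have h6 := hKfpf _ (K.mul_mem (K.inv_mem k'.2) k.2) h5 1
      apply h6
      rw [one_smul, mul_smul]
      show ((k' : ↥N)⁻¹ : ↥N) • (((k : ↥N) : G) • b) = b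
      rw [h4]
      show (((k' : ↥N)⁻¹ : ↥N) : G) • (((k' : ↥N) : G) • b) = b
      rw [Subgroup.coe_inv, inv_smul_smul]
    · rintro ⟨c, hc⟩
      obtain ⟨g, hga, hgb⟩ := Z.two hab (Ne.symm hc)
      obtain ⟨k, hk, h, hh, hgkh⟩ := hKprod ⟨g, mem_stabilizer_iff.mpr hga⟩
      refine ⟨⟨k, hk⟩, ?_⟩
      apply Subtype.ext
      show (k : G) • b = c
      rw [← hgb]
      have h7 : g = (k : G) * (h : G) := congrArg Subtype.val hgkh
      have h8 : (h : G) • b = b := mem_stabilizer_iff.mp hh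
      rw [h7, mul_smul, h8]
  · intro u hu hu1 c hc
    obtain ⟨k, hk, rfl⟩ := Subgroup.mem_map.mp hu
    by_contra hca
    obtain ⟨g, hga, hgb⟩ := Z.two hab (Ne.symm hca)
    have hk1 : k ≠ 1 := by
      rintro rfl
      exact hu1 rfl
    apply hKfpf k hk hk1 ⟨g, mem_stabilizer_iff.mpr hga⟩
    show (k : G) • (g • b) = g • b
    rw [hgb]
    exact hc

/-- an element swapping two points is an involution. -/
theorem swap_invol [Finite G] [Fintype Ω] (hZ : Cfsg.IsZassenhausGroup G Ω) {a b : Ω}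
    (hab : a ≠ b) [IsSimpleGroup G]
    (hodd : Odd (Nat.card ↥(stabilizer G a ⊓ stabilizer G b : Subgroup G))) {c d : Ω}
    (hcd : c ≠ d) {s : G} (hsc : s • c = d) (hsd : s • d = c) : orderOf s = 2 := by
  have Z := zdata_of hZ
  obtain ⟨-, -, hswap⟩ := E_facts hZ hab hodd
  obtain ⟨g, hga, hgb⟩ := Z.two hab hcd
  have h1 : (g⁻¹ * s * g) • a = b := by
    rw [mul_smul, mul_smul, hga, hsc, ← hgb, inv_smul_smul]
  have h2 : (g⁻¹ * s * g) • b = a := by
    rw [mul_smul, mul_smul, hgb, hsd, ← hga, inv_smul_smul]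
  rw [← orderOf_conj_eq' g s]
  obtain ⟨t, ht⟩ : ∃ t : G, t = g⁻¹ * s * g := ⟨_, rfl⟩
  rw [← ht] at h1 h2 ⊢
  have h3 : t * t ∈ stabilizer G a ⊓ stabilizer G b := by
    rw [mem_H_iff, mul_smul, mul_smul, h1, h2, h1]
    exact ⟨rfl, rfl⟩
  have h4 := hswap t h1 h2 _ h3
  have h5 : t * (t * t) * t⁻¹ = t * t := by group
  rw [h5] at h4
  have h6 : (t * t) ^ 2 = 1 := by
    rw [pow_two]
    nth_rewrite 1 [h4]
    exact inv_mul_cancel _
  have h7 : Odd (orderOf (t * t)) :=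
    odd_order_of_two_fixed Z hab hodd hab ((mem_H_iff a b _).mp h3).1 ((mem_H_iff a b _).mp h3).2
  have h8 : orderOf (t * t) ∣ 2 := orderOf_dvd_of_pow_eq_one h6
  have h9 : orderOf (t * t) = 1 := by
    rcases (Nat.dvd_prime Nat.prime_two).mp h8 with h | h
    · exact h
    · rw [h] at h7
      exact absurd h7 (by decide)
  rw [orderOf_eq_one_iff] at h9
  haveI : Fact (Nat.Prime 2) := ⟨Nat.prime_two⟩
  apply orderOf_eq_prime
  · rw [pow_two]; exact h9
  · rintro rfl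
    rw [one_smul] at h1
    exact hab h1

/-- two elements swapping `a` and `b` are conjugate. -/
theorem swap_conj [Finite G] [Fintype Ω] (hZ : Cfsg.IsZassenhausGroup G Ω) {a b : Ω}
    (hab : a ≠ b) [IsSimpleGroup G]
    (hodd : Odd (Nat.card ↥(stabilizer G a ⊓ stabilizer G b : Subgroup G))) {s₁ s₂ : G}
    (h1a : s₁ • a = b) (h1b : s₁ • b = a) (h2a : s₂ • a = b) (h2b : s₂ • b = a) :
    IsConj s₁ s₂ := by
  have Z := zdata_of hZ
  obtain ⟨-, -, hswap⟩ := E_facts hZ hab hodd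
  have hs1 : orderOf s₁ = 2 := swap_invol hZ hab hodd hab h1a h1b
  have hs1i := invol_inv hs1
  have hkE : s₁⁻¹ * s₂ ∈ stabilizer G a ⊓ stabilizer G b := by
    rw [mem_H_iff, mul_smul, mul_smul, h2a, h2b, inv_smul_eq_iff, inv_smul_eq_iff, h1a, h1b]
    exact ⟨rfl, rfl⟩
  set k := s₁⁻¹ * s₂ with hk
  have hko : Odd (orderOf k) :=
    odd_order_of_two_fixed Z hab hodd hab ((mem_H_iff a b _).mp hkE).1 ((mem_H_iff a b _).mp hkE).2
  obtain ⟨j, hj⟩ := hko
  -- m = k^(j+1), m * m = k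
  have hm : k ^ (j + 1) * k ^ (j + 1) = k := by
    rw [← pow_add]
    have : j + 1 + (j + 1) = orderOf k + 1 := by omega
    rw [this, pow_succ, pow_orderOf_eq_one, one_mul]
  have hmE : k ^ (j + 1) ∈ stabilizer G a ⊓ stabilizer G b := Subgroup.pow_mem _ hkE _
  have hinv := hswap s₁ h1a h1b _ hmE
  rw [isConj_iff]
  refine ⟨(k ^ (j + 1))⁻¹, ?_⟩
  rw [inv_inv]
  calc (k ^ (j + 1))⁻¹ * s₁ * k ^ (j + 1)
      = (s₁ * k ^ (j + 1) * s₁⁻¹) * s₁ * k ^ (j + 1) := by rw [hinv]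
    _ = s₁ * (k ^ (j + 1) * k ^ (j + 1)) := by group
    _ = s₂ := by rw [hm, hk]; group

end

end FZ

end Cfsg.Agent.Lib.Helper2
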