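import Mathlib
import Cfsg.Agent.Lib.Helper2.FZ11

set_option autoImplicit false

/-! Feit's Zassenhaus groups: counting involutions. -/

namespace Cfsg.Agent.Lib.Helper2

namespace FZ

open MulAction Cfsg.Agent.Lib.Lead.Zass

section
variable {G Ω : Type*} [Group G] [MulAction G Ω]

/-- the involutions of `H` correspond to the elements of the two-point stabilizer. -/
theorem card_invol_H [Finite G] [Fintype Ω] (hZ : Cfsg.IsZassenhausGroup G Ω) {a b : Ω}
    (hab : a ≠ b)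
    (hodd : Odd (Nat.card ↥(stabilizer G a ⊓ stabilizer G b : Subgroup G)))
    (H : Subgroup G) (hHa : H ≤ stabilizer G a)
    (hHcard : Nat.card H + 1 = Fintype.card Ω)
    (hHfix : ∀ u ∈ H, u ≠ 1 → ∀ c : Ω, u • c = c → c = a) {t₀ : G} (ht₀ : t₀ ∈ H)
    (ht₀2 : orderOf t₀ = 2) :
    Nat.card {x : G // x ∈ H ∧ orderOf x = 2}
      = Nat.card ↥(stabilizer G a ⊓ stabilizer G b : Subgroup G) := by
  have Z := zdata_of hZ
  symm
  apply Nat.card_eq_of_bijective
    (fun k : ↥(stabilizer G a ⊓ stabilizer G b : Subgroup G) =>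
      (⟨(k : G) * t₀ * (k : G)⁻¹,
        H_conj_mem hZ a H hHa hHcard hHfix ((mem_H_iff a b _).mp k.2).1 ht₀,
        by rw [orderOf_conj_eq]; exact ht₀2⟩ : {x : G // x ∈ H ∧ orderOf x = 2}))
  constructor
  · intro k k' hkk
    have h1 : (k : G) * t₀ * (k : G)⁻¹ = (k' : G) * t₀ * (k' : G)⁻¹ := congrArg Subtype.val hkk
    obtain ⟨m, hm⟩ : ∃ m : G, m = (k' : G)⁻¹ * (k : G) := ⟨_, rfl⟩
    have hmt : m * t₀ = t₀ * m := by
      calc m * t₀ = (k' : G)⁻¹ * ((k : G) * t₀ * (k : G)⁻¹) * (k : G) := by rw [hm]; group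
        _ = t₀ * m := by rw [h1, hm]; group
    have hka := ((mem_H_iff a b _).mp k.2)
    have hk'a := ((mem_H_iff a b _).mp k'.2)
    have hma : m • a = a := by rw [hm, mul_smul, hka.1, inv_smul_eq_iff, hk'a.1]
    have hmb : m • b = b := by rw [hm, mul_smul, hka.2, inv_smul_eq_iff, hk'a.2]
    have hmtb : m • (t₀ • b) = t₀ • b := by rw [← mul_smul, hmt, mul_smul, hmb]
    have ht₀b : t₀ • b ≠ b := fun h => hab (hHfix t₀ ht₀ (invol_ne_one ht₀2) b h).symm
    have ht₀a : t₀ • b ≠ a :=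
      stab_ne a (mem_stabilizer_iff.mp (hHa ht₀)) (Ne.symm hab)
    have hm1 := Z.three m a b (t₀ • b) hab (Ne.symm ht₀b) (Ne.symm ht₀a) hma hmb hmtb
    apply Subtype.ext
    have : (k : G) = (k' : G) * m := by rw [hm]; group
    rw [this, hm1, mul_one]
  · rintro ⟨x, hxH, hx2⟩
    obtain ⟨n, hna, hn⟩ := invol_H_conj hZ hab hodd H hHa hHcard hHfix ht₀ hxH ht₀2 hx2
    obtain ⟨u, hu, k, hka, hkb, hnuk⟩ := N_eq_HE hab H hHa hHcard hHfix hna
    refine ⟨⟨k, (mem_H_iff a b k).mpr ⟨hka, hkb⟩⟩, Subtype.ext ?_⟩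
    show k * t₀ * k⁻¹ = x
    have hy : k * t₀ * k⁻¹ ∈ H := H_conj_mem hZ a H hHa hHcard hHfix hka ht₀
    have hy2 : orderOf (k * t₀ * k⁻¹) = 2 := by rw [orderOf_conj_eq]; exact ht₀2
    have hc := invol_H_central hZ hab hodd H hHa hHcard hHfix hy hy2 hu
    rw [← hn, hnuk]
    calc k * t₀ * k⁻¹ = (k * t₀ * k⁻¹) * u * u⁻¹ := by group
      _ = u * (k * t₀ * k⁻¹) * u⁻¹ := by rw [hc]
      _ = u * k * t₀ * (u * k)⁻¹ := by group

/-- the order of a point stabilizer. -/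
theorem card_stab [Finite G] [Fintype Ω] (Z : ZData G Ω) {a b : Ω} (hab : a ≠ b) (c : Ω) :
    Nat.card ↥(stabilizer G c)
      = (Fintype.card Ω - 1) * Nat.card ↥(stabilizer G a ⊓ stabilizer G b : Subgroup G) := by
  classical
  haveI : Fintype G := Fintype.ofFinite G
  rw [← eNum_eq_card, ← card_fixers Z hab c]
  exact Nat.subtype_card (Finset.univ.filter (fun g : G => g • c = c))
    (fun g => by simp [mem_stabilizer_iff])

/-- an involution has a fixed point when the degree is odd. -/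
theorem invol_exists_fixed [Finite G] [Fintype Ω] (hn : Odd (Fintype.card Ω)) {x : G}
    (hx2 : orderOf x = 2) : ∃ c : Ω, x • c = c := by
  haveI : Fact (Nat.Prime 2) := ⟨Nat.prime_two⟩
  have hP : IsPGroup 2 ↥(Subgroup.zpowers x) := by
    apply Schmidt.isPGroup_zpowers_of_pow_eq_one (k := 1)
    rw [pow_one, pow_two]
    exact invol_sq hx2
  have h2 : ¬ 2 ∣ Nat.card Ω := by
    rw [Nat.card_eq_fintype_card]
    intro h
    exact (Nat.not_even_iff_odd.mpr hn) (even_iff_two_dvd.mpr h)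
  obtain ⟨c, hc⟩ := hP.nonempty_fixed_point_of_prime_not_dvd_card Ω h2
  refine ⟨c, ?_⟩
  rw [mem_fixedPoints] at hc
  exact hc ⟨x, Subgroup.mem_zpowers x⟩

end

end FZ

end Cfsg.Agent.Lib.Helper2
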