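import Mathlib
import Cfsg.Agent.Lib.Helper2.FZ12

set_option autoImplicit false

/-! Feit's Zassenhaus groups: counting involutions, conjugacy of involutions. -/

namespace Cfsg.Agent.Lib.Helper2

namespace FZ

open MulAction Cfsg.Agent.Lib.Lead.Zass

section
variable {G Ω : Type*} [Group G] [MulAction G Ω]

theorem exists_smul_eq (Z : ZData G Ω) (c d : Ω) : ∃ g : G, g • c = d := by
  by_cases h : c = d
  · exact ⟨1, by rw [one_smul, h]⟩
  · obtain ⟨g, hg, -⟩ := Z.two h (Ne.symm h)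
    exact ⟨g, hg⟩

theorem isConj_conj (g x : G) : IsConj x (g * x * g⁻¹) := isConj_iff.mpr ⟨g, rfl⟩

theorem isConj_conj' (g x : G) : IsConj x (g⁻¹ * x * g) := by
  have := isConj_conj g⁻¹ x
  rwa [inv_inv] at this

/-- involutions are fixed-point-free when `h` is odd. -/
theorem invol_fpf_odd [Finite G] [Fintype Ω] (Z : ZData G Ω) {a b : Ω} (hab : a ≠ b)
    (hodd : Odd (Nat.card ↥(stabilizer G a ⊓ stabilizer G b : Subgroup G)))
    (hh : Odd (Fintype.card Ω - 1)) {x : G} (hx2 : orderOf x = 2) (c : Ω) : x • c ≠ c := by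
  intro hc
  have h1 : orderOf x ∣ Nat.card ↥(stabilizer G c) := by
    have := orderOf_dvd_natCard (⟨x, mem_stabilizer_iff.mpr hc⟩ : ↥(stabilizer G c))
    rwa [Subgroup.orderOf_mk] at this
  rw [card_stab Z hab c, hx2] at h1
  have : Odd ((Fintype.card Ω - 1) * Nat.card ↥(stabilizer G a ⊓ stabilizer G b : Subgroup G)) :=
    hh.mul hodd
  exact (Nat.not_even_iff_odd.mpr this) (even_iff_two_dvd.mpr h1)

/-- the number of involutions when `h` is odd. -/
theorem card_invol_odd [Finite G] [Fintype Ω] (hZ : Cfsg.IsZassenhausGroup G Ω) {a b : Ω}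
    (hab : a ≠ b) [IsSimpleGroup G]
    (hodd : Odd (Nat.card ↥(stabilizer G a ⊓ stabilizer G b : Subgroup G)))
    (hh : Odd (Fintype.card Ω - 1)) :
    Nat.card {x : G // orderOf x = 2}
      = Nat.card ↥(stabilizer G a ⊓ stabilizer G b : Subgroup G) * (Fintype.card Ω - 1) := by
  classical
  haveI : Fintype G := Fintype.ofFinite G
  have Z := zdata_of hZ
  have hset : Finset.univ.filter (fun x : G => orderOf x = 2)
      = ((Finset.univ : Finset Ω).erase a).biUnion (fun d => mapSet (G := G) a d d a) := by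
    ext x
    simp only [Finset.mem_filter, Finset.mem_univ, true_and, Finset.mem_biUnion, Finset.mem_erase,
      mem_mapSet, and_true]
    constructor
    · intro hx2
      refine ⟨x • a, invol_fpf_odd Z hab hodd hh hx2 a, rfl, ?_⟩
      rw [← mul_smul, invol_sq hx2, one_smul]
    · rintro ⟨d, hda, hxa, hxd⟩
      exact swap_invol hZ hab hodd (Ne.symm hda) hxa hxd
  rw [Nat.card_eq_fintype_card, Fintype.card_subtype, hset, Finset.card_biUnion]
  · have : ∀ d ∈ (Finset.univ : Finset Ω).erase a,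
        (mapSet (G := G) a d d a).card = eNum G a b := by
      intro d hd
      exact card_mapSet Z hab (Ne.symm (Finset.ne_of_mem_erase hd)) (Finset.ne_of_mem_erase hd)
    rw [Finset.sum_congr rfl this, Finset.sum_const, smul_eq_mul,
      Finset.card_erase_of_mem (Finset.mem_univ a), Finset.card_univ, eNum_eq_card, mul_comm]
  · intro d _ d' _ hdd'
    show Disjoint _ _
    rw [Finset.disjoint_left]
    intro x hx hx'
    rw [mem_mapSet] at hx hx'
    exact hdd' (hx.1.symm.trans hx'.1)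

/-- all involutions are conjugate when `h` is odd. -/
theorem invol_conj_odd [Finite G] [Fintype Ω] (hZ : Cfsg.IsZassenhausGroup G Ω) {a b : Ω}
    (hab : a ≠ b) [IsSimpleGroup G]
    (hodd : Odd (Nat.card ↥(stabilizer G a ⊓ stabilizer G b : Subgroup G)))
    (hh : Odd (Fintype.card Ω - 1)) {x y : G} (hx2 : orderOf x = 2) (hy2 : orderOf y = 2) :
    IsConj x y := by
  have Z := zdata_of hZ
  have hxa : x • a ≠ a := invol_fpf_odd Z hab hodd hh hx2 a
  have hya : y • a ≠ a := invol_fpf_odd Z hab hodd hh hy2 a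
  have hxxa : x • (x • a) = a := by rw [← mul_smul, invol_sq hx2, one_smul]
  have hyya : y • (y • a) = a := by rw [← mul_smul, invol_sq hy2, one_smul]
  obtain ⟨n, hna, hnd⟩ := Z.two (Ne.symm hya) (Ne.symm hxa)
  have hnia : n⁻¹ • a = a := by rw [inv_smul_eq_iff, hna]
  have hnid : n⁻¹ • (x • a) = y • a := by rw [inv_smul_eq_iff, hnd]
  obtain ⟨g, hga, hgb⟩ := Z.two hab (Ne.symm hxa)
  have h1a : (g⁻¹ * x * g) • a = b := by
    rw [mul_smul, mul_smul, hga, inv_smul_eq_iff, hgb]
  have h1b : (g⁻¹ * x * g) • b = a := by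
    rw [mul_smul, mul_smul, hgb, hxxa, inv_smul_eq_iff, hga]
  have h2a : (g⁻¹ * (n * y * n⁻¹) * g) • a = b := by
    rw [mul_smul, mul_smul, mul_smul, mul_smul, hga, hnia, hnd, inv_smul_eq_iff, hgb]
  have h2b : (g⁻¹ * (n * y * n⁻¹) * g) • b = a := by
    rw [mul_smul, mul_smul, mul_smul, mul_smul, hgb, hnid, hyya, hna, inv_smul_eq_iff, hga]
  have hc := swap_conj hZ hab hodd h1a h1b h2a h2b
  exact ((isConj_conj' g x).trans hc).trans
    (((isConj_conj n y).trans (isConj_conj' g _)).symm)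

/-- the involutions fixing a given point, when the degree is odd. -/
theorem card_invol_fix [Finite G] [Fintype G] [Fintype Ω] [DecidableEq G] [DecidableEq Ω]
    (hZ : Cfsg.IsZassenhausGroup G Ω) {a b : Ω}
    (hab : a ≠ b)
    (hodd : Odd (Nat.card ↥(stabilizer G a ⊓ stabilizer G b : Subgroup G)))
    (hn : Odd (Fintype.card Ω)) (c : Ω) :
    (Finset.univ.filter (fun x : G => orderOf x = 2 ∧ x • c = c)).card
      = Nat.card ↥(stabilizer G a ⊓ stabilizer G b : Subgroup G) := by
  have Z := zdata_of hZ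
  obtain ⟨H, hHa, hHcard, hHfix⟩ := exists_H hZ hab
  haveI : Fact (Nat.Prime 2) := ⟨Nat.prime_two⟩
  obtain ⟨t, ht2⟩ : ∃ t : G, orderOf t = 2 :=
    exists_prime_orderOf_dvd_card' 2 (even_card hZ hab).two_dvd
  obtain ⟨c', hc'⟩ := invol_exists_fixed hn ht2
  obtain ⟨g', hg'⟩ := exists_smul_eq Z a c'
  have ht₀a : (g'⁻¹ * t * g') • a = a := by
    rw [mul_smul, mul_smul, hg', hc', inv_smul_eq_iff, hg']
  have ht₀2 : orderOf (g'⁻¹ * t * g') = 2 := by rw [orderOf_conj_eq', ht2]
  have ht₀H := invol_mem_H Z hab hodd H hHa hHcard hHfix ht₀a ht₀2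
  rw [← card_invol_H hZ hab hodd H hHa hHcard hHfix ht₀H ht₀2]
  obtain ⟨g, hg⟩ := exists_smul_eq Z a c
  rw [← Nat.subtype_card (Finset.univ.filter (fun x : G => orderOf x = 2 ∧ x • c = c))
    (p := fun x => orderOf x = 2 ∧ x • c = c) (fun x => by simp)]
  apply Nat.card_congr
  refine ⟨fun x => ⟨g⁻¹ * x.1 * g, ?_, ?_⟩, fun x => ⟨g * x.1 * g⁻¹, ?_, ?_⟩, ?_, ?_⟩
  · have h1 : (g⁻¹ * x.1 * g) • a = a := by
      rw [mul_smul, mul_smul, hg, x.2.2, inv_smul_eq_iff, hg]
    have h2 : orderOf (g⁻¹ * x.1 * g) = 2 := by rw [orderOf_conj_eq', x.2.1]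
    exact invol_mem_H Z hab hodd H hHa hHcard hHfix h1 h2
  · rw [orderOf_conj_eq', x.2.1]
  · rw [orderOf_conj_eq, x.2.2]
  · rw [mul_smul, mul_smul, ← hg, inv_smul_smul, mem_stabilizer_iff.mp (hHa x.2.1)]
  · intro x
    apply Subtype.ext
    show g * (g⁻¹ * x.1 * g) * g⁻¹ = x.1
    group
  · intro x
    apply Subtype.ext
    show g⁻¹ * (g * x.1 * g⁻¹) * g = x.1
    group

/-- the number of involutions when `h` is even. -/
theorem card_invol_even [Finite G] [Fintype Ω] (hZ : Cfsg.IsZassenhausGroup G Ω) {a b : Ω}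
    (hab : a ≠ b)
    (hodd : Odd (Nat.card ↥(stabilizer G a ⊓ stabilizer G b : Subgroup G)))
    (hn : Odd (Fintype.card Ω)) :
    Nat.card {x : G // orderOf x = 2}
      = Nat.card ↥(stabilizer G a ⊓ stabilizer G b : Subgroup G) * Fintype.card Ω := by
  classical
  haveI : Fintype G := Fintype.ofFinite G
  have Z := zdata_of hZ
  have hset : Finset.univ.filter (fun x : G => orderOf x = 2)
      = (Finset.univ : Finset Ω).biUnion
        (fun c => Finset.univ.filter (fun x : G => orderOf x = 2 ∧ x • c = c)) := by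
    ext x
    simp only [Finset.mem_filter, Finset.mem_univ, true_and, Finset.mem_biUnion]
    constructor
    · intro hx2
      obtain ⟨c, hc⟩ := invol_exists_fixed hn hx2
      exact ⟨c, hx2, hc⟩
    · rintro ⟨c, hx2, -⟩
      exact hx2
  rw [Nat.card_eq_fintype_card, Fintype.card_subtype, hset, Finset.card_biUnion]
  · rw [Finset.sum_congr rfl fun c _ => card_invol_fix hZ hab hodd hn c, Finset.sum_const,
      smul_eq_mul, Finset.card_univ, mul_comm]
  · intro c _ c' _ hcc'
    show Disjoint _ _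
    rw [Finset.disjoint_left]
    intro x hx hx'
    rw [Finset.mem_filter] at hx hx'
    have := odd_order_of_two_fixed Z hab hodd hcc' hx.2.2 hx'.2.2
    rw [hx.2.1] at this
    exact absurd this (by decide)

/-- all involutions are conjugate when `h` is even. -/
theorem invol_conj_even [Finite G] [Fintype Ω] (hZ : Cfsg.IsZassenhausGroup G Ω) {a b : Ω}
    (hab : a ≠ b)
    (hodd : Odd (Nat.card ↥(stabilizer G a ⊓ stabilizer G b : Subgroup G)))
    (hn : Odd (Fintype.card Ω)) {x y : G} (hx2 : orderOf x = 2) (hy2 : orderOf y = 2) :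
    IsConj x y := by
  have Z := zdata_of hZ
  obtain ⟨H, hHa, hHcard, hHfix⟩ := exists_H hZ hab
  obtain ⟨c, hc⟩ := invol_exists_fixed hn hx2
  obtain ⟨d, hd⟩ := invol_exists_fixed hn hy2
  obtain ⟨g, hg⟩ := exists_smul_eq Z a c
  obtain ⟨g', hg'⟩ := exists_smul_eq Z a d
  have h1a : (g⁻¹ * x * g) • a = a := by
    rw [mul_smul, mul_smul, hg, hc, inv_smul_eq_iff, hg]
  have h2a : (g'⁻¹ * y * g') • a = a := by
    rw [mul_smul, mul_smul, hg', hd, inv_smul_eq_iff, hg']
  have h12 : orderOf (g⁻¹ * x * g) = 2 := by rw [orderOf_conj_eq', hx2]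
  have h22 : orderOf (g'⁻¹ * y * g') = 2 := by rw [orderOf_conj_eq', hy2]
  have h1H := invol_mem_H Z hab hodd H hHa hHcard hHfix h1a h12
  have h2H := invol_mem_H Z hab hodd H hHa hHcard hHfix h2a h22
  obtain ⟨n, -, hn'⟩ := invol_H_conj hZ hab hodd H hHa hHcard hHfix h1H h2H h12 h22
  have hc' : IsConj (g⁻¹ * x * g) (g'⁻¹ * y * g') := isConj_iff.mpr ⟨n, hn'⟩
  exact ((isConj_conj' g x).trans hc').trans (isConj_conj' g' y).symm

end

end FZ

end Cfsg.Agent.Lib.Helper2
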