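import Mathlib
import Cfsg.Prelude.Def_Characters
import Cfsg.Prelude.Def_OddOrderChar
import Cfsg.Agent.Lib.Helper1.IndFun
import Cfsg.Agent.Lib.Helper1.CharFound3
import Cfsg.Agent.Lib.Helper1.CharFound5
import Cfsg.Agent.Lib.Helper1.CharFound6
import Cfsg.Agent.Lib.Helper1.CharInt
import Cfsg.Agent.Lib.Helper4.Characters
import Cfsg.Agent.Lib.Helper4.VirtualChar
import Cfsg.Agent.Lib.Helper4.Coherence
import Cfsg.Agent.Lib.Helper4.IndNormal
import Cfsg.Agent.Lib.Helper2.FrobKer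
import Cfsg.Agent.S0146
import Cfsg.Agent.S0148
import Cfsg.Agent.S0161
import Cfsg.Agent.S0170
import Cfsg.Agent.S0185
import Cfsg.Agent.S0850

set_option autoImplicit false

/-!
# T.I. subgroups with Frobenius normalizer: coherent sets of characters

Abstract setting: `N ≤ G`, `L ⊴ N` with `C_N(k) ≤ L` for `1 ≠ k ∈ L` and such that class
functions of `N` supported on `L \ {1}` induce to `G` restricting back to themselves.
-/

namespace Cfsg.Agent.Lib.Helper2.TIFN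

open Cfsg Cfsg.Agent.Lib.Helper1 Cfsg.Agent.Lib.Helper4
open scoped ComplexConjugate

section Gen

theorem isGenChar_restrict {G : Type*} [Group G] (H : Subgroup G) {θ : G → ℂ}
    (h : Cfsg.IsGeneralizedCharacter G θ) : Cfsg.IsGeneralizedCharacter H (fun x : H => θ x) := by
  obtain ⟨a, b, ha, hb, rfl⟩ := h
  exact ⟨fun x : H => a x, fun x : H => b x, Cfsg.Agent.S0148.isCharacter_restrict H ha,
    Cfsg.Agent.S0148.isCharacter_restrict H hb, rfl⟩

theorem isIntegral_genChar {G : Type*} [Group G] [Finite G] {θ : G → ℂ}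
    (h : Cfsg.IsGeneralizedCharacter G θ) (g : G) : IsIntegral ℤ (θ g) := by
  obtain ⟨a, b, ha, hb, rfl⟩ := h
  exact (Cfsg.Agent.S0161.isIntegral_isCharacter ha g).sub
    (Cfsg.Agent.S0161.isIntegral_isCharacter hb g)

theorem int_of_rat_isIntegral (q : ℚ) (h : IsIntegral ℤ (q : ℂ)) : ∃ z : ℤ, (q : ℂ) = z := by
  have h1 : (q : ℂ) = algebraMap ℚ ℂ q := by simp
  rw [h1, isIntegral_algebraMap_iff (algebraMap ℚ ℂ).injective] at h
  obtain ⟨m, hm⟩ := IsIntegrallyClosed.isIntegral_iff.1 h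
  refine ⟨m, ?_⟩
  rw [← hm]
  simp

end Gen

section Const

variable {N : Type*} [Group N] [Fintype N] (L : Subgroup N)

/-- Irreducible characters of `N` whose kernel does not contain `L`. -/
def Sset : Set (N → ℂ) := {χ | Cfsg.IsIrrCharacter N χ ∧ ∃ k : N, k ∈ L ∧ χ k ≠ χ 1}

theorem Sset_irr {χ : N → ℂ} (h : χ ∈ Sset L) : Cfsg.IsIrrCharacter N χ := h.1

theorem const_of_not_mem {η : N → ℂ} (hη : Cfsg.IsIrrCharacter N η) (hS : η ∉ Sset L)
    {k : N} (hk : k ∈ L) : η k = η 1 := by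
  by_contra hne
  exact hS ⟨hη, k, hk, hne⟩

/-- A generalized character of `N` whose multiplicities on `Sset L` are proportional to the
degrees takes a constant integer value on `L \ {1}`. -/
theorem const_on_kernel {ρ : N → ℂ} (hρ : Cfsg.IsGeneralizedCharacter N ρ)
    (hprop : ∀ χ ∈ Sset L, ∀ ξ ∈ Sset L,
      Cfsg.classInner ρ χ * ξ 1 = Cfsg.classInner ρ ξ * χ 1) :
    ∃ z : ℤ, ∀ k : N, k ∈ L → k ≠ 1 → ρ k = z := by
  classical
  haveI : Fintype (Cfsg.IrrCharacter N) := Fintype.ofFinite _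
  have hm : ∀ χ : Cfsg.IrrCharacter N, ∃ m : ℤ, Cfsg.classInner ρ (χ : N → ℂ) = m :=
    fun χ => classInner_genChar_int hρ (isGenChar_of_irr χ.2)
  choose m hm using hm
  have hd : ∀ χ : Cfsg.IrrCharacter N, ∃ d : ℕ, 0 < d ∧ (χ : N → ℂ) 1 = d :=
    fun χ => irr_apply_one_pos χ.2
  choose d hdpos hd using hd
  have hexp := genChar_expansion hρ m hm
  -- the sums over the complement of `Sset`
  set T : Finset (Cfsg.IrrCharacter N) := Finset.univ.filter fun η => (η : N → ℂ) ∉ Sset L with hT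
  set S : Finset (Cfsg.IrrCharacter N) := Finset.univ.filter fun η => (η : N → ℂ) ∈ Sset L with hS
  have hsplit : ∀ f : Cfsg.IrrCharacter N → ℂ, ∑ η, f η = ∑ η ∈ S, f η + ∑ η ∈ T, f η := by
    intro f
    rw [hS, hT, Finset.sum_filter_add_sum_filter_not]
  -- column orthogonality: Σ_{η∈S} d η * η k = - Σ_{η∈T} (d η)^2
  have hcol : ∀ k : N, k ∈ L → k ≠ 1 →
      ∑ η ∈ S, (d η : ℂ) * (η : N → ℂ) k = -∑ η ∈ T, ((d η : ℂ) * (d η : ℂ)) := by
    intro k hkL hk1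
    have h1 := column_orthogonality (G := N) 1 k
    have hci : classIndicator (1 : N) k = 0 := by
      unfold classIndicator
      rw [if_neg]
      intro hc
      exact hk1 (isConj_one_right.mp hc)
    rw [hci, mul_zero, hsplit] at h1
    have hS' : ∑ η ∈ S, (η : N → ℂ) k * conj ((η : N → ℂ) 1) = ∑ η ∈ S, (d η : ℂ) * (η : N → ℂ) k := by
      refine Finset.sum_congr rfl fun η _ => ?_
      rw [hd η, Complex.conj_natCast, mul_comm]
    have hT' : ∑ η ∈ T, (η : N → ℂ) k * conj ((η : N → ℂ) 1) = ∑ η ∈ T, ((d η : ℂ) * (d η : ℂ)) := by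
      refine Finset.sum_congr rfl fun η hη => ?_
      have hηT : (η : N → ℂ) ∉ Sset L := (Finset.mem_filter.mp hη).2
      rw [const_of_not_mem L η.2 hηT hkL, hd η, Complex.conj_natCast]
    rw [hS', hT'] at h1
    exact eq_neg_of_add_eq_zero_left h1
  -- the T-part of ρ on L
  have hTpart : ∀ k : N, k ∈ L → ∑ η ∈ T, ((m η : ℂ) • (η : N → ℂ)) k = ∑ η ∈ T, (m η : ℂ) * (d η : ℂ) := by
    intro k hkL
    refine Finset.sum_congr rfl fun η hη => ?_
    have hηT : (η : N → ℂ) ∉ Sset L := (Finset.mem_filter.mp hη).2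
    rw [Pi.smul_apply, smul_eq_mul, const_of_not_mem L η.2 hηT hkL, hd η]
  by_cases hSne : S.Nonempty
  · obtain ⟨χ₀, hχ₀⟩ := hSne
    have hχ₀S : (χ₀ : N → ℂ) ∈ Sset L := (Finset.mem_filter.mp hχ₀).2
    have hd0 : (d χ₀ : ℂ) ≠ 0 := Nat.cast_ne_zero.mpr (hdpos χ₀).ne'
    -- multiplicities on S
    have hmS : ∀ η ∈ S, (m η : ℂ) = (m χ₀ : ℂ) / (d χ₀ : ℂ) * (d η : ℂ) := by
      intro η hη
      have hηS : (η : N → ℂ) ∈ Sset L := (Finset.mem_filter.mp hη).2
      have := hprop _ hηS _ hχ₀S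
      rw [hm η, hm χ₀, hd η, hd χ₀] at this
      field_simp
      exact this
    set q : ℚ := -((m χ₀ : ℚ) / (d χ₀ : ℚ)) * (∑ η ∈ T, ((d η : ℚ) * (d η : ℚ)))
      + ∑ η ∈ T, (m η : ℚ) * (d η : ℚ) with hq
    have hval : ∀ k : N, k ∈ L → k ≠ 1 → ρ k = (q : ℂ) := by
      intro k hkL hk1
      have h1 := congrFun hexp k
      rw [Finset.sum_apply, hsplit, hTpart k hkL] at h1
      have hSpart : ∑ η ∈ S, ((m η : ℂ) • (η : N → ℂ)) k
          = (m χ₀ : ℂ) / (d χ₀ : ℂ) * ∑ η ∈ S, (d η : ℂ) * (η : N → ℂ) k := by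
        rw [Finset.mul_sum]
        refine Finset.sum_congr rfl fun η hη => ?_
        rw [Pi.smul_apply, smul_eq_mul, hmS η hη]
        ring
      rw [hSpart, hcol k hkL hk1] at h1
      rw [h1, hq]
      push_cast
      ring
    by_cases hex : ∃ k : N, k ∈ L ∧ k ≠ 1
    · obtain ⟨k₀, hk₀L, hk₀1⟩ := hex
      have hint : IsIntegral ℤ (q : ℂ) := by
        rw [← hval k₀ hk₀L hk₀1]
        exact isIntegral_genChar hρ k₀
      obtain ⟨z, hz⟩ := int_of_rat_isIntegral q hint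
      exact ⟨z, fun k hkL hk1 => by rw [hval k hkL hk1, hz]⟩
    · exact ⟨0, fun k hkL hk1 => absurd ⟨k, hkL, hk1⟩ hex⟩
  · rw [Finset.not_nonempty_iff_eq_empty] at hSne
    refine ⟨∑ η ∈ T, m η * (d η : ℤ), ?_⟩
    intro k hkL _
    have h1 := congrFun hexp k
    rw [Finset.sum_apply, hsplit, hTpart k hkL, hSne, Finset.sum_empty, zero_add] at h1
    rw [h1]
    push_cast
    rfl

end Const


section Arith

theorem isGenChar_zsmul {G : Type*} [Group G] {θ : G → ℂ} (h : Cfsg.IsGeneralizedCharacter G θ)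
    (n : ℤ) : Cfsg.IsGeneralizedCharacter G (n • θ) := by
  induction n using Int.induction_on with
  | zero => rw [zero_smul]; exact isGenChar_zero
  | succ i ih => rw [add_smul, one_smul]; exact isGenChar_add ih h
  | pred i ih => rw [sub_smul, one_smul]; exact isGenChar_sub ih h

/-- Sum of squares of the degrees. -/
theorem sum_sq_degrees {L : Type*} [Group L] [Fintype L] [Fintype (Cfsg.IrrCharacter L)]
    (d : Cfsg.IrrCharacter L → ℕ) (hd : ∀ θ : Cfsg.IrrCharacter L, (θ : L → ℂ) 1 = d θ) :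
    ∑ θ : Cfsg.IrrCharacter L, d θ * d θ = Nat.card L := by
  have h1 := column_orthogonality (G := L) 1 1
  have hc : Subgroup.centralizer ({(1 : L)} : Set L) = ⊤ := by
    rw [eq_top_iff]
    intro y _
    rw [Subgroup.mem_centralizer_iff]
    intro z hz
    rw [Set.mem_singleton_iff] at hz
    subst hz
    simp
  have hci : classIndicator (1 : L) 1 = 1 := by
    unfold classIndicator
    rw [if_pos (IsConj.refl 1)]
  rw [hc, hci, mul_one] at h1
  have h2 : (Nat.card (⊤ : Subgroup L) : ℂ) = (Nat.card L : ℂ) := by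
    congr 1
    exact Nat.card_congr Subgroup.topEquiv.toEquiv
  rw [h2] at h1
  have h3 : ∑ θ : Cfsg.IrrCharacter L, (θ : L → ℂ) 1 * conj ((θ : L → ℂ) 1)
      = ((∑ θ : Cfsg.IrrCharacter L, d θ * d θ : ℕ) : ℂ) := by
    push_cast
    refine Finset.sum_congr rfl fun θ _ => ?_
    rw [hd θ, Complex.conj_natCast]
  rw [h3] at h1
  exact_mod_cast h1

/-- A common divisor of the degrees of all nonprincipal irreducible characters is `1`. -/
theorem common_divisor_degrees {L : Type*} [Group L] [Fintype L] (g : ℕ)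
    (hex : ∃ θ : L → ℂ, Cfsg.IsIrrCharacter L θ ∧ θ ≠ fun _ => 1)
    (hdvd : ∀ θ : L → ℂ, Cfsg.IsIrrCharacter L θ → θ ≠ (fun _ => 1) → ∀ dθ : ℕ, θ 1 = dθ → g ∣ dθ) :
    g = 1 := by
  classical
  haveI : Fintype (Cfsg.IrrCharacter L) := Fintype.ofFinite _
  have hd : ∀ χ : Cfsg.IrrCharacter L, ∃ d : ℕ, 0 < d ∧ (χ : L → ℂ) 1 = d :=
    fun χ => irr_apply_one_pos χ.2
  choose d hdpos hd using hd
  have hsum := sum_sq_degrees d hd
  set one : Cfsg.IrrCharacter L := ⟨fun _ => 1, Cfsg.Agent.S0161.isIrrCharacter_one⟩ with hone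
  rw [← Finset.add_sum_erase Finset.univ _ (Finset.mem_univ one)] at hsum
  have hd1 : d one = 1 := by
    have := hd one
    simp only [hone] at this
    exact_mod_cast this.symm
  rw [hd1] at hsum
  have hdvd2 : g ∣ ∑ θ ∈ Finset.univ.erase one, d θ * d θ := by
    apply Finset.dvd_sum
    intro θ hθ
    have hne : (θ : L → ℂ) ≠ fun _ => 1 := by
      intro h
      exact (Finset.mem_erase.mp hθ).1 (Subtype.ext h)
    exact Dvd.dvd.mul_right (hdvd θ θ.2 hne (d θ) (hd θ)) _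
  obtain ⟨θ₀, hθ₀, hθ₀1⟩ := hex
  have h3 : g ∣ Nat.card L := by
    obtain ⟨d0, hd0, hd0dvd⟩ := Cfsg.Agent.S0185.irr_degree_dvd hθ₀
    exact (hdvd θ₀ hθ₀ hθ₀1 d0 hd0).trans hd0dvd
  rw [← hsum] at h3
  have : g ∣ 1 * 1 := (Nat.dvd_add_left hdvd2).mp h3
  simpa using this

/-- If `a ∣ d * w` for a family of `d` with no common divisor other than `1`, then `a ∣ w`. -/
theorem dvd_of_forall_dvd_mul (a : ℕ) (ha : 0 < a) (w : ℤ) (P : ℕ → Prop)
    (hP : ∀ g : ℕ, (∀ d, P d → g ∣ d) → g = 1)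
    (h : ∀ d, P d → (a : ℤ) ∣ (d : ℤ) * w) : (a : ℤ) ∣ w := by
  set W := w.natAbs with hW
  set gc := Nat.gcd a W with hgc
  have hgcpos : 0 < gc := Nat.gcd_pos_of_pos_left _ ha
  obtain ⟨a', ha'⟩ := Nat.gcd_dvd_left a W
  obtain ⟨W', hW'⟩ := Nat.gcd_dvd_right a W
  rw [← hgc] at ha' hW'
  have hcop : Nat.Coprime a' W' := by
    have := Nat.coprime_div_gcd_div_gcd (m := a) (n := W) hgcpos
    rw [← hgc] at this
    have e1 : a / gc = a' := by rw [ha']; exact Nat.mul_div_cancel_left _ hgcpos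
    have e2 : W / gc = W' := by rw [hW']; exact Nat.mul_div_cancel_left _ hgcpos
    rwa [e1, e2] at this
  have ha'1 : a' = 1 := by
    apply hP
    intro d hd
    have h1 := h d hd
    have h2 : a ∣ d * W := by
      have := Int.natAbs_dvd_natAbs.mpr h1
      rwa [Int.natAbs_natCast, Int.natAbs_mul, Int.natAbs_natCast] at this
    rw [ha', hW'] at h2
    have h3 : gc * a' ∣ gc * (d * W') := by
      convert h2 using 1
      ring
    have h4 : a' ∣ d * W' := (Nat.mul_dvd_mul_iff_left hgcpos).mp h3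
    exact hcop.dvd_of_dvd_mul_right h4
  rw [ha'1, mul_one] at ha'
  have : a ∣ W := by
    rw [ha', hW']
    exact Dvd.intro _ rfl
  exact Int.natCast_dvd.mpr this

end Arith

section Main

variable {G : Type*} [Group G] [Fintype G] (N : Subgroup G) [Fintype N] (L : Subgroup N)
  [hLn : L.Normal] [Fintype L]

/-- The T.I./Frobenius hypotheses in abstract form. -/
structure Hyp : Prop where
  cent : ∀ k ∈ L, k ≠ 1 → Subgroup.centralizer ({k} : Set N) ≤ L
  ind : ∀ α : N → ℂ, Cfsg.IsClassFunction N α → (∀ x : N, x ∉ L → α x = 0) → α 1 = 0 →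
    ∀ x : N, Cfsg.indFun N α x = α x

variable {N L}

theorem Hyp.exists_induced (h : Hyp N L) {χ : N → ℂ} (hχ : χ ∈ Sset L) :
    ∃ θ : L → ℂ, Cfsg.IsIrrCharacter L θ ∧ θ ≠ (fun _ => 1) ∧ χ = Cfsg.indFun L θ :=
  FrobKer.exists_induced L h.cent hχ.1 hχ.2

theorem Hyp.vanish (h : Hyp N L) {χ : N → ℂ} (hχ : χ ∈ Sset L) {x : N} (hx : x ∉ L) : χ x = 0 := by
  obtain ⟨θ, -, -, rfl⟩ := h.exists_induced hχ
  exact indFun_normal_of_notMem L θ hx

theorem Hyp.zspan_props (h : Hyp N L) {α : N → ℂ} (hα : α ∈ Cfsg.zspan (Sset L)) :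
    Cfsg.IsGeneralizedCharacter N α ∧ ∀ x : N, x ∉ L → α x = 0 := by
  rw [mem_zspan_iff] at hα
  induction hα using Submodule.span_induction with
  | mem χ hχ => exact ⟨isGenChar_of_irr hχ.1, fun x hx => h.vanish hχ hx⟩
  | zero => exact ⟨isGenChar_zero, fun x _ => rfl⟩
  | add a b _ _ iha ihb =>
    exact ⟨isGenChar_add iha.1 ihb.1, fun x hx => by
      rw [Pi.add_apply, iha.2 x hx, ihb.2 x hx, add_zero]⟩
  | smul n a _ iha =>
    exact ⟨isGenChar_zsmul iha.1 n, fun x hx => by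
      rw [Pi.smul_apply, iha.2 x hx, smul_zero]⟩

theorem Hyp.star_eq (h : Hyp N L) {star : (N → ℂ) → (G → ℂ)}
    (hext : ∀ α ∈ Cfsg.zspanOn (Sset L) ({1}ᶜ : Set N), star α = Cfsg.indFun N α)
    {α : N → ℂ} (hα : α ∈ Cfsg.zspanOn (Sset L) ({1}ᶜ : Set N)) (x : N) : star α x = α x := by
  rw [hext α hα]
  obtain ⟨hg, hv⟩ := h.zspan_props hα.1
  exact h.ind α (isGenChar_isClassFunction hg) hv (hα.2 1 (by simp)) x

theorem diff_mem {χ ξ : N → ℂ} (hχ : χ ∈ Sset L) (hξ : ξ ∈ Sset L) {a b : ℕ} (ha : χ 1 = a)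
    (hb : ξ 1 = b) : ((b : ℤ) • χ - (a : ℤ) • ξ) ∈ Cfsg.zspanOn (Sset L) ({1}ᶜ : Set N) := by
  refine ⟨zspan_sub (zspan_zsmul _ (mem_zspan_of_mem hχ)) (zspan_zsmul _ (mem_zspan_of_mem hξ)), ?_⟩
  intro x hx
  have hx1 : x = 1 := by
    by_contra hne
    exact hx hne
  subst hx1
  simp only [Pi.sub_apply, Pi.smul_apply]
  simp only [zsmul_eq_mul, ha, hb]
  push_cast
  ring

theorem star_diff {star : (N → ℂ) → (G → ℂ)}
    (hstar : Cfsg.IsLinearIsometryOn (Cfsg.zspan (Sset L)) star)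
    {χ ξ : N → ℂ} (hχ : χ ∈ Sset L) (hξ : ξ ∈ Sset L) (a b : ℤ) :
    star (b • χ - a • ξ) = b • star χ - a • star ξ := by
  have h1 := mem_zspan_of_mem hχ
  have h2 := mem_zspan_of_mem hξ
  rw [lio_sub hstar (zspan_zsmul b h1) (zspan_zsmul a h2) (zspan_neg (zspan_zsmul a h2)),
    lio_zsmul hstar h1, lio_zsmul hstar h2]

theorem Hyp.key_prop (h : Hyp N L) {star : (N → ℂ) → (G → ℂ)}
    (hstar : Cfsg.IsLinearIsometryOn (Cfsg.zspan (Sset L)) star)
    (hext : ∀ α ∈ Cfsg.zspanOn (Sset L) ({1}ᶜ : Set N), star α = Cfsg.indFun N α)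
    {χ ξ : N → ℂ} (hχ : χ ∈ Sset L) (hξ : ξ ∈ Sset L) {a b : ℕ} (ha : χ 1 = a)
    (hb : ξ 1 = b) (k : N) :
    (b : ℂ) * (star χ k - χ k) = (a : ℂ) * (star ξ k - ξ k) := by
  have h1 := h.star_eq hext (diff_mem hχ hξ ha hb) k
  rw [star_diff hstar hχ hξ] at h1
  simp only [Pi.sub_apply, Pi.smul_apply] at h1
  simp only [zsmul_eq_mul] at h1
  push_cast at h1
  linear_combination h1

theorem Hyp.orth (h : Hyp N L) {star : (N → ℂ) → (G → ℂ)}
    (hstar : Cfsg.IsLinearIsometryOn (Cfsg.zspan (Sset L)) star)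
    (hext : ∀ α ∈ Cfsg.zspanOn (Sset L) ({1}ᶜ : Set N), star α = Cfsg.indFun N α)
    {χ : N → ℂ} (hχ : χ ∈ Sset L) {α : N → ℂ}
    (hα : α ∈ Cfsg.zspanOn (Sset L) ({1}ᶜ : Set N)) :
    Cfsg.classInner ((fun x : N => star χ x) - χ) α = 0 := by
  have hχz := mem_zspan_of_mem hχ
  have hcf : Cfsg.IsClassFunction G (star χ) := isGenChar_isClassFunction (lio_genChar hstar hχz)
  rw [classInner_sub_left, sub_eq_zero, ← classInner_conj_symm α, ← classInner_conj_symm α χ]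
  congr 1
  rw [← Cfsg.Agent.S0146.result N α (star χ) hcf, ← hext α hα, lio_inner hstar hα.1 hχz]

theorem Hyp.star_const (h : Hyp N L) {star : (N → ℂ) → (G → ℂ)}
    (hstar : Cfsg.IsLinearIsometryOn (Cfsg.zspan (Sset L)) star)
    (hext : ∀ α ∈ Cfsg.zspanOn (Sset L) ({1}ᶜ : Set N), star α = Cfsg.indFun N α)
    {χ : N → ℂ} (hχ : χ ∈ Sset L) :
    ∃ z : ℤ, ∀ k : N, k ∈ L → k ≠ 1 → star χ k - χ k = z := by
  have hρ : Cfsg.IsGeneralizedCharacter N ((fun x : N => star χ x) - χ) :=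
    isGenChar_sub (isGenChar_restrict N (lio_genChar hstar (mem_zspan_of_mem hχ)))
      (isGenChar_of_irr hχ.1)
  have hprop : ∀ η ∈ Sset L, ∀ ξ ∈ Sset L,
      Cfsg.classInner ((fun x : N => star χ x) - χ) η * ξ 1 =
        Cfsg.classInner ((fun x : N => star χ x) - χ) ξ * η 1 := by
    intro η hη ξ hξ
    obtain ⟨a, -, ha⟩ := irr_apply_one_pos hη.1
    obtain ⟨b, -, hb⟩ := irr_apply_one_pos hξ.1
    have h0 := h.orth hstar hext hχ (diff_mem hη hξ ha hb)
    rw [classInner_sub_right, ← Int.cast_smul_eq_zsmul ℂ, ← Int.cast_smul_eq_zsmul ℂ,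
      classInner_smul_right, classInner_smul_right] at h0
    simp only [Int.cast_natCast, Complex.conj_natCast] at h0
    rw [ha, hb]
    linear_combination h0
  obtain ⟨z, hz⟩ := const_on_kernel L hρ hprop
  exact ⟨z, fun k hkL hk1 => by rw [← hz k hkL hk1]; rfl⟩

/-- With at least two members, a member of `Sset L` is not constant on `L \ {1}`. -/
theorem Hyp.nonconst (h : Hyp N L) {χ ξ : N → ℂ} (hχ : χ ∈ Sset L) (hξ : ξ ∈ Sset L)
    (hne : χ ≠ ξ) : ∃ a ∈ L, ∃ b ∈ L, a ≠ 1 ∧ b ≠ 1 ∧ χ a ≠ χ b := by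
  classical
  by_contra hcon
  push Not at hcon
  obtain ⟨k₀, hk₀L, hk₀⟩ := hχ.2
  have hk₀1 : k₀ ≠ 1 := fun h1 => hk₀ (by rw [h1])
  set t := χ k₀ with ht
  have hconst : ∀ k : N, k ∈ L → k ≠ 1 → χ k = t := fun k hkL hk1 =>
    hcon k hkL k₀ hk₀L hk1 hk₀1
  obtain ⟨a, -, ha⟩ := irr_apply_one_pos hχ.1
  obtain ⟨b, hbpos, hb⟩ := irr_apply_one_pos hξ.1
  have h1 : Cfsg.classInner χ ξ = 0 := classInner_irr_ne hχ.1 hξ.1 hne
  have hξ1 : ξ ≠ fun _ => 1 := by
    intro h1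
    obtain ⟨k, _, hk⟩ := hξ.2
    apply hk
    rw [h1]
  have h2 : Cfsg.classInner ξ (fun _ => (1 : ℂ)) = 0 :=
    classInner_irr_ne hξ.1 Cfsg.Agent.S0161.isIrrCharacter_one hξ1
  have hN0 : (Nat.card N : ℂ) ≠ 0 := Nat.cast_ne_zero.mpr Nat.card_pos.ne'
  rw [classInner_def] at h1 h2
  have h1' : ∑ x : N, χ x * conj (ξ x) = 0 := by
    rcases mul_eq_zero.mp h1 with h | h
    · exact absurd (inv_eq_zero.mp h) hN0
    · exact h
  have h2' : ∑ x : N, ξ x = 0 := by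
    rcases mul_eq_zero.mp h2 with h | h
    · exact absurd (inv_eq_zero.mp h) hN0
    · simpa using h
  have hterm : ∀ x : N, χ x * conj (ξ x) = t * conj (ξ x) + (if x = 1 then ((a : ℂ) - t) * b else 0) := by
    intro x
    by_cases hx1 : x = 1
    · subst hx1
      rw [if_pos rfl, ha, hb, Complex.conj_natCast]
      ring
    · rw [if_neg hx1, add_zero]
      by_cases hxL : x ∈ L
      · rw [hconst x hxL hx1]
      · rw [h.vanish hξ hxL, map_zero, mul_zero, mul_zero]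
  rw [Finset.sum_congr rfl fun x _ => hterm x, Finset.sum_add_distrib, ← Finset.mul_sum,
    ← map_sum, h2', map_zero, mul_zero, zero_add, Finset.sum_ite_eq' Finset.univ (1 : N),
    if_pos (Finset.mem_univ _)] at h1'
  have hb0 : (b : ℂ) ≠ 0 := Nat.cast_ne_zero.mpr hbpos.ne'
  have : (a : ℂ) - t = 0 := by
    rcases mul_eq_zero.mp h1' with h | h
    · exact h
    · exact absurd h hb0
  apply hk₀
  rw [ha]
  exact (sub_eq_zero.mp this).symm

/-- The coherence constant: `star χ - χ` equals `m χ(1) / |N : L|` on `L \ {1}`. -/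
theorem Hyp.main_const (h : Hyp N L) {star : (N → ℂ) → (G → ℂ)}
    (hstar : Cfsg.IsLinearIsometryOn (Cfsg.zspan (Sset L)) star)
    (hext : ∀ α ∈ Cfsg.zspanOn (Sset L) ({1}ᶜ : Set N), star α = Cfsg.indFun N α) :
    ∃ m : ℤ, ∀ χ ∈ Sset L, ∀ k : N, k ∈ L → k ≠ 1 →
      star χ k - χ k = (m : ℂ) * χ 1 / (L.index : ℂ) := by
  classical
  by_cases hne : (Sset L).Nonempty
  swap
  · exact ⟨0, fun χ hχ => absurd ⟨χ, hχ⟩ hne⟩
  obtain ⟨χ₀, hχ₀⟩ := hne
  obtain ⟨a₀, ha₀pos, ha₀⟩ := irr_apply_one_pos hχ₀.1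
  obtain ⟨z₀, hz₀⟩ := h.star_const hstar hext hχ₀
  obtain ⟨k₀, hk₀L, hk₀⟩ := hχ₀.2
  have hk₀1 : k₀ ≠ 1 := fun h1 => hk₀ (by rw [h1])
  have he0 : (L.index : ℂ) ≠ 0 := Nat.cast_ne_zero.mpr Subgroup.index_ne_zero_of_finite
  have ha₀0 : (a₀ : ℂ) ≠ 0 := Nat.cast_ne_zero.mpr ha₀pos.ne'
  have hL0 : (Nat.card L : ℂ) ≠ 0 := Nat.cast_ne_zero.mpr Nat.card_pos.ne'
  -- degrees of induced characters
  have hdeg : ∀ θ : L → ℂ, Cfsg.indFun L θ 1 = (L.index : ℂ) * θ 1 := by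
    intro θ
    rw [Cfsg.Agent.S0170.indFun_one, ← L.card_mul_index]
    push_cast
    field_simp
  -- divisibility
  have hdiv : (a₀ : ℤ) ∣ (L.index : ℤ) * z₀ := by
    apply dvd_of_forall_dvd_mul a₀ ha₀pos _ (fun d => ∃ θ : L → ℂ, Cfsg.IsIrrCharacter L θ ∧
      θ ≠ (fun _ => 1) ∧ θ 1 = d)
    · intro g hg
      obtain ⟨θ₀, hθ₀, hθ₀1, -⟩ := h.exists_induced hχ₀
      apply common_divisor_degrees g ⟨θ₀, hθ₀, hθ₀1⟩
      intro θ hθ hθ1 dθ hdθ
      exact hg dθ ⟨θ, hθ, hθ1, hdθ⟩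
    · rintro d ⟨θ, hθ, hθ1, hθd⟩
      -- χ_θ := indFun L θ ∈ Sset
      have hirr := FrobKer.isIrr_indFun L h.cent hθ hθ1
      have hmem : Cfsg.indFun L θ ∈ Sset L := by
        refine ⟨hirr, ?_⟩
        by_contra hcon
        push Not at hcon
        -- then restriction to L is constant, so inner product with θ... use Frobenius reciprocity
        have hres : Cfsg.classInner (Cfsg.indFun L θ) (Cfsg.indFun L θ) = 1 := classInner_irr_self hirr
        rw [Cfsg.Agent.S0146.result L θ _ (isClassFunction_irr hirr)] at hres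
        have hconst : (fun k : L => Cfsg.indFun L θ k) = (Cfsg.indFun L θ 1) • (fun _ : L => (1 : ℂ)) := by
          funext k
          rw [Pi.smul_apply, smul_eq_mul, mul_one]
          exact hcon k k.2
        rw [hconst, classInner_smul_right,
          classInner_irr_ne hθ Cfsg.Agent.S0161.isIrrCharacter_one hθ1, mul_zero] at hres
        exact zero_ne_one hres
      obtain ⟨z, hz⟩ := h.star_const hstar hext hmem
      have hb : Cfsg.indFun L θ 1 = ((L.index * d : ℕ) : ℂ) := by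
        rw [hdeg, hθd]; push_cast; ring
      have hkp := h.key_prop hstar hext hχ₀ hmem ha₀ hb k₀
      rw [hz₀ k₀ hk₀L hk₀1, hz k₀ hk₀L hk₀1] at hkp
      have hkp' : ((L.index * d : ℕ) : ℤ) * z₀ = (a₀ : ℤ) * z := by exact_mod_cast hkp
      refine ⟨z, ?_⟩
      rw [← hkp']
      push_cast
      ring
  obtain ⟨m, hm⟩ := hdiv
  refine ⟨m, ?_⟩
  intro χ hχ k hkL hk1
  obtain ⟨a, -, ha⟩ := irr_apply_one_pos hχ.1
  obtain ⟨z, hz⟩ := h.star_const hstar hext hχ
  have hkp := h.key_prop hstar hext hχ₀ hχ ha₀ ha k₀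
  rw [hz₀ k₀ hk₀L hk₀1, hz k₀ hk₀L hk₀1] at hkp
  rw [hz k hkL hk1, ha]
  have hmC : ((L.index : ℂ)) * (z₀ : ℂ) = (a₀ : ℂ) * (m : ℂ) := by exact_mod_cast hm
  field_simp
  have : (a₀ : ℂ) * ((z : ℂ) * (L.index : ℂ)) = (a₀ : ℂ) * ((m : ℂ) * (a : ℂ)) := by
    linear_combination (L.index : ℂ) * (-hkp) + (a : ℂ) * hmC
  exact mul_left_cancel₀ ha₀0 this

end Main


section Inst

/-- The concrete T.I. situation gives the abstract hypotheses. -/
theorem hyp_of_TI {G : Type*} [Group G] [Fintype G] (K : Subgroup G)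
    (hTI : ∀ g : G, g ∉ Subgroup.normalizer (K : Set G) → ∀ k ∈ K, g * k * g⁻¹ ∈ K → k = 1)
    (hlt : K < Subgroup.normalizer (K : Set G))
    (hC : ∀ k ∈ K, k ≠ 1 → Subgroup.centralizer ({k} : Set G) ≤ K)
    [Fintype ↥(Subgroup.normalizer (K : Set G))] :
    Hyp (Subgroup.normalizer (K : Set G)) (K.subgroupOf (Subgroup.normalizer (K : Set G))) := by
  refine ⟨?_, ?_⟩
  · intro k hk hk1 y hy
    rw [Subgroup.mem_subgroupOf] at hk ⊢
    have hk1' : (k : G) ≠ 1 := fun h => hk1 (Subtype.ext h)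
    apply hC (k : G) hk hk1'
    rw [Subgroup.mem_centralizer_iff] at hy ⊢
    intro z hz
    rw [Set.mem_singleton_iff] at hz
    subst hz
    exact congrArg Subtype.val (hy k (Set.mem_singleton k))
  · exact (Cfsg.Agent.S0850.result K hTI hlt hC).2

end Inst

end Cfsg.Agent.Lib.Helper2.TIFN
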