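import Mathlib
import Cfsg.Agent.Lib.Helper2.TIFN

set_option autoImplicit false

/-!
# Exceptional characters for a coherent T.I. set: characterization
-/

namespace Cfsg.Agent.Lib.Helper2.TIFN

open Cfsg Cfsg.Agent.Lib.Helper1 Cfsg.Agent.Lib.Helper4
open scoped ComplexConjugate

variable {G : Type*} [Group G] [Fintype G] {N : Subgroup G} [Fintype N] {L : Subgroup N}
  [hLn : L.Normal] [Fintype L]

theorem Hyp.main_exc (h : Hyp N L) {star : (N → ℂ) → (G → ℂ)}
    (hstar : Cfsg.IsLinearIsometryOn (Cfsg.zspan (Sset L)) star)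
    (hext : ∀ α ∈ Cfsg.zspanOn (Sset L) ({1}ᶜ : Set N), star α = Cfsg.indFun N α)
    (htwo : ∃ χ ∈ Sset L, ∃ ξ ∈ Sset L, χ ≠ ξ) {ψ : G → ℂ} (hψ : Cfsg.IsIrrCharacter G ψ) :
    (∃ χ ∈ Sset L, ψ = star χ ∨ ψ = -star χ) ↔
      ∃ a : N, a ∈ L ∧ ∃ b : N, b ∈ L ∧ a ≠ 1 ∧ b ≠ 1 ∧ ψ a ≠ ψ b := by
  classical
  constructor
  · rintro ⟨χ, hχ, hψχ⟩
    obtain ⟨χ', hχ', ξ', hξ', hne'⟩ := htwo
    have hex : ∃ ξ ∈ Sset L, χ ≠ ξ := by
      by_cases h1 : χ = χ'
      · exact ⟨ξ', hξ', h1 ▸ hne'⟩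
      · exact ⟨χ', hχ', h1⟩
    obtain ⟨ξ, hξ, hne⟩ := hex
    obtain ⟨a, haL, b, hbL, ha1, hb1, hab⟩ := h.nonconst hχ hξ hne
    obtain ⟨z, hz⟩ := h.star_const hstar hext hχ
    have h1 := hz a haL ha1
    have h2 := hz b hbL hb1
    have hstarne : star χ a ≠ star χ b := by
      intro heq
      apply hab
      have : star χ a - χ a = star χ b - χ b := by rw [h1, h2]
      rw [heq] at this
      exact (sub_right_inj.mp this)
    refine ⟨a, haL, b, hbL, ha1, hb1, ?_⟩
    rcases hψχ with h3 | h3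
    · rw [h3]; exact hstarne
    · rw [h3, Pi.neg_apply, Pi.neg_apply]
      intro heq
      exact hstarne (neg_injective heq)
  · rintro ⟨a, haL, b, hbL, ha1, hb1, hab⟩
    by_contra hcon
    push Not at hcon
    -- star χ is orthogonal to ψ for χ ∈ S
    have horth : ∀ χ ∈ Sset L, Cfsg.classInner (star χ) ψ = 0 := by
      intro χ hχ
      have hχz := mem_zspan_of_mem hχ
      have hg := lio_genChar hstar hχz
      have hnorm : Cfsg.classInner (star χ) (star χ) = 1 := by
        rw [lio_inner hstar hχz hχz]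
        exact classInner_irr_self hχ.1
      obtain ⟨φ, hφ, hor⟩ := genChar_norm_one hg hnorm
      have hφψ : φ ≠ ψ := by
        intro heq
        rcases hor with h1 | h1
        · exact (hcon χ hχ).1 (by rw [h1, heq])
        · exact (hcon χ hχ).2 (by rw [h1, heq, neg_neg])
      have := classInner_irr_ne hφ hψ hφψ
      rcases hor with h1 | h1
      · rw [h1, this]
      · rw [h1, classInner_neg_left, this, neg_zero]
    have hρ : Cfsg.IsGeneralizedCharacter N (fun x : N => ψ x) :=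
      isGenChar_restrict N (isGenChar_of_irr hψ)
    have hprop : ∀ χ ∈ Sset L, ∀ ξ ∈ Sset L,
        Cfsg.classInner (fun x : N => ψ x) χ * ξ 1 = Cfsg.classInner (fun x : N => ψ x) ξ * χ 1 := by
      intro χ hχ ξ hξ
      obtain ⟨a', -, ha'⟩ := irr_apply_one_pos hχ.1
      obtain ⟨b', -, hb'⟩ := irr_apply_one_pos hξ.1
      have hmem := diff_mem hχ hξ ha' hb'
      have h0 : Cfsg.classInner (Cfsg.indFun N ((b' : ℤ) • χ - (a' : ℤ) • ξ)) ψ = 0 := by
        rw [← hext _ hmem, star_diff hstar hχ hξ, classInner_sub_left,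
          ← Int.cast_smul_eq_zsmul ℂ, ← Int.cast_smul_eq_zsmul ℂ, classInner_smul_left,
          classInner_smul_left, horth χ hχ, horth ξ hξ]
        simp
      rw [Cfsg.Agent.S0146.result N _ ψ (isClassFunction_irr hψ)] at h0
      have h1 := classInner_eq_zero_symm h0
      rw [classInner_sub_right, ← Int.cast_smul_eq_zsmul ℂ, ← Int.cast_smul_eq_zsmul ℂ,
        classInner_smul_right, classInner_smul_right] at h1
      simp only [Int.cast_natCast, Complex.conj_natCast] at h1
      rw [ha', hb']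
      linear_combination h1
    obtain ⟨z, hz⟩ := const_on_kernel L hρ hprop
    apply hab
    have e1 := hz a haL ha1
    have e2 := hz b hbL hb1
    rw [e1, e2]

end Cfsg.Agent.Lib.Helper2.TIFN
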