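import Mathlib
import Cfsg.Agent.Lib.Helper2.FZ13
import Cfsg.Agent.Lib.Helper2.TIFN2

set_option autoImplicit false

/-! Feit's Zassenhaus groups: the T.I. hypotheses for the kernel `H`. -/

namespace Cfsg.Agent.Lib.Helper2

namespace FZ

open MulAction Cfsg Cfsg.Agent.Lib.Lead.Zass

/-- the data of a simple Zassenhaus group with odd two-point stabilizer and kernel `H`. -/
structure FData (G Ω : Type*) [Group G] [MulAction G Ω] [Fintype Ω] (a b : Ω) (H : Subgroup G) :
    Prop where
  hZ : Cfsg.IsZassenhausGroup G Ω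
  hab : a ≠ b
  hodd : Odd (Nat.card ↥(stabilizer G a ⊓ stabilizer G b : Subgroup G))
  hHa : H ≤ stabilizer G a
  hHcard : Nat.card H + 1 = Fintype.card Ω
  hHfix : ∀ u ∈ H, u ≠ 1 → ∀ c : Ω, u • c = c → c = a

section
variable {G Ω : Type*} [Group G] [MulAction G Ω] [Fintype Ω] {a b : Ω} {H : Subgroup G}

theorem FData.Z (F : FData G Ω a b H) : ZData G Ω := zdata_of F.hZ

theorem FData.mem_a (F : FData G Ω a b H) {u : G} (hu : u ∈ H) : u • a = a :=
  mem_stabilizer_iff.mp (F.hHa hu)

/-- the centralizer of a nonidentity element of `H` lies in `H`. -/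
theorem FData.cent [Finite G] (F : FData G Ω a b H) {k : G} (hk : k ∈ H) (hk1 : k ≠ 1) :
    Subgroup.centralizer ({k} : Set G) ≤ H := by
  intro y hy
  rw [Subgroup.mem_centralizer_singleton_iff] at hy
  have hya : y • a = a := fix_of_commute (F.hHfix k hk hk1) (F.mem_a hk) hy
  by_contra hyH
  obtain ⟨c, hca, hc⟩ := exists_fixed_of_not_mem F.Z a H F.hHa F.hHcard F.hHfix hya hyH
  have hkc : k • c ≠ c := fun h => hca (F.hHfix k hk hk1 c h)
  have hkca : k • c ≠ a := stab_ne a (F.mem_a hk) hca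
  have hykc : y • (k • c) = k • c := by
    rw [← mul_smul, hy, mul_smul, hc]
  have := F.Z.three y a c (k • c) (Ne.symm hca) (Ne.symm hkc) (Ne.symm hkca) hya hc hykc
  apply hyH
  rw [this]
  exact H.one_mem

theorem FData.normalizer_eq [Finite G] (F : FData G Ω a b H) :
    Subgroup.normalizer (H : Set G) = stabilizer G a :=
  (Cfsg.Agent.S0878.result F.hZ a H F.hHa F.hHcard F.hHfix).2

theorem FData.normal [Finite G] (F : FData G Ω a b H) :
    (H.subgroupOf (stabilizer G a)).Normal := by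
  constructor
  intro n hn g
  rw [Subgroup.mem_subgroupOf] at hn ⊢
  exact H_conj_mem F.hZ a H F.hHa F.hHcard F.hHfix (mem_stabilizer_iff.mp g.2) hn

theorem FData.exists_ne_one (F : FData G Ω a b H) [Finite G] : ∃ u ∈ H, u ≠ 1 := by
  obtain ⟨h₀, hh₀1, hh₀a, hh₀b, c₀, hc₀a, hc₀b⟩ := exists_ne_one_H F.hZ F.hab
  obtain ⟨u, hu, huc⟩ := H_trans a H F.hHa F.hHcard F.hHfix (Ne.symm F.hab) hc₀a
  refine ⟨u, hu, ?_⟩
  rintro rfl
  rw [one_smul] at huc
  exact hc₀b huc.symm

theorem FData.lt [Finite G] (F : FData G Ω a b H) : H < stabilizer G a := by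
  refine lt_of_le_of_ne F.hHa ?_
  intro h
  obtain ⟨h₀, hh₀1, hh₀a, hh₀b, -⟩ := exists_ne_one_H F.hZ F.hab
  have : h₀ ∈ H := by rw [h]; exact mem_stabilizer_iff.mpr hh₀a
  exact F.hab (F.hHfix h₀ this hh₀1 b hh₀b).symm

end

section
variable {G : Type*} [Group G] [Fintype G]

/-- the abstract T.I. hypotheses, for a subgroup equal to the normalizer. -/
theorem hyp_of_TI' (K N : Subgroup G) (hN : N = Subgroup.normalizer (K : Set G))
    (hTI : ∀ g : G, g ∉ N → ∀ k ∈ K, g * k * g⁻¹ ∈ K → k = 1) (hlt : K < N)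
    (hC : ∀ k ∈ K, k ≠ 1 → Subgroup.centralizer ({k} : Set G) ≤ K) :
    TIFN.Hyp N (K.subgroupOf N) := by
  classical
  subst hN
  exact TIFN.hyp_of_TI K hTI hlt hC

end

section
variable {G Ω : Type*} [Group G] [Fintype G] [MulAction G Ω] [Fintype Ω] {a b : Ω}
  {H : Subgroup G}

theorem FData.hyp (F : FData G Ω a b H) :
    TIFN.Hyp (stabilizer G a) (H.subgroupOf (stabilizer G a)) := by
  apply hyp_of_TI' H (stabilizer G a) F.normalizer_eq.symm
  · intro g hg k hk hgk
    exact H_ti F.hZ a H F.hHa F.hHcard F.hHfix (fun h => hg (mem_stabilizer_iff.mpr h)) hk hgk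
  · exact F.lt
  · intro k hk hk1
    exact F.cent hk hk1

theorem FData.card_L (F : FData G Ω a b H) :
    Nat.card ↥(H.subgroupOf (stabilizer G a)) = Nat.card H :=
  Nat.card_congr (Subgroup.subgroupOfEquivOfLe F.hHa).toEquiv

theorem FData.index_L (F : FData G Ω a b H) :
    (H.subgroupOf (stabilizer G a)).index
      = Nat.card ↥(stabilizer G a ⊓ stabilizer G b : Subgroup G) := by
  have h1 := (H.subgroupOf (stabilizer G a)).card_mul_index
  rw [F.card_L, card_stab F.Z F.hab a] at h1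
  have h2 : Nat.card H = Fintype.card Ω - 1 := by
    have := F.hHcard
    omega
  rw [h2] at h1
  have hpos : 0 < Fintype.card Ω - 1 := by
    rw [← h2]; exact Nat.card_pos
  exact Nat.eq_of_mul_eq_mul_left hpos h1

theorem FData.card_N (F : FData G Ω a b H) :
    Nat.card ↥(stabilizer G a)
      = Nat.card H * Nat.card ↥(stabilizer G a ⊓ stabilizer G b : Subgroup G) := by
  rw [card_stab F.Z F.hab a]
  have := F.hHcard
  congr 1
  omega

theorem FData.card_G (F : FData G Ω a b H) :
    Nat.card G = (Nat.card H + 1) * Nat.card H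
      * Nat.card ↥(stabilizer G a ⊓ stabilizer G b : Subgroup G) := by
  classical
  rw [Nat.card_eq_fintype_card, card_group F.Z F.hab, eNum_eq_card, F.hHcard]
  have := F.hHcard
  congr 2
  omega

end

end FZ

end Cfsg.Agent.Lib.Helper2
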