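import Mathlib
import Cfsg.Agent.Lib.Helper2.FZ16

set_option autoImplicit false
set_option linter.style.haveILetI false
set_option linter.unusedSectionVars false

/-!
# Zassenhaus groups with abelian kernel and two-point stabilizer of order `(q - 1) / 2`:
basic facts
-/

namespace Cfsg.Agent.Lib.Helper2

namespace ZP

open MulAction Cfsg.Agent.Lib.Lead.Zass Cfsg.Agent.Lib.Helper2.FZ

/-- a Zassenhaus group of degree `q + 1` with abelian kernel `F` and two-point stabilizer of
order `(q - 1) / 2`. -/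
structure PData (G Ω : Type*) [Group G] [MulAction G Ω] [Fintype Ω] (a b : Ω) (F : Subgroup G) :
    Prop where
  hZ : Cfsg.IsZassenhausGroup G Ω
  hab : a ≠ b
  hFa : F ≤ stabilizer G a
  hFcard : Nat.card F + 1 = Fintype.card Ω
  hFfix : ∀ u ∈ F, u ≠ 1 → ∀ c : Ω, u • c = c → c = a
  hcomm : ∀ u ∈ F, ∀ v ∈ F, u * v = v * u
  he : 2 * Nat.card ↥(stabilizer G a ⊓ stabilizer G b : Subgroup G) + 1 = Nat.card F

section
variable {G Ω : Type*} [Group G] [MulAction G Ω] [Fintype Ω] {a b : Ω} {F : Subgroup G}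

theorem PData.Z (P : PData G Ω a b F) : ZData G Ω := zdata_of P.hZ

theorem PData.mem_a (P : PData G Ω a b F) {u : G} (hu : u ∈ F) : u • a = a :=
  mem_stabilizer_iff.mp (P.hFa hu)

theorem PData.smul_ne_a (P : PData G Ω a b F) {u : G} (hu : u ∈ F) {c : Ω} (hc : c ≠ a) :
    u • c ≠ a := stab_ne a (P.mem_a hu) hc

theorem PData.trans [Finite G] (P : PData G Ω a b F) {c d : Ω} (hc : c ≠ a) (hd : d ≠ a) :
    ∃ u ∈ F, u • c = d := H_trans a F P.hFa P.hFcard P.hFfix hc hd

theorem PData.eq_of_smul (P : PData G Ω a b F) {u v : G} (hu : u ∈ F) (hv : v ∈ F) {c : Ω}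
    (hc : c ≠ a) (h : u • c = v • c) : u = v := by
  by_contra hne
  have h1 : (v⁻¹ * u) • c = c := by rw [mul_smul, h, inv_smul_smul]
  have h2 : v⁻¹ * u ≠ 1 := by
    intro h3
    apply hne
    have : u = v * (v⁻¹ * u) := by group
    rw [this, h3, mul_one]
  exact hc (P.hFfix _ (F.mul_mem (F.inv_mem hv) hu) h2 c h1)

theorem PData.conj_mem [Finite G] (P : PData G Ω a b F) {g : G} (hg : g • a = a) {u : G}
    (hu : u ∈ F) : g * u * g⁻¹ ∈ F := H_conj_mem P.hZ a F P.hFa P.hFcard P.hFfix hg hu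

theorem PData.semi (P : PData G Ω a b F) {h : G} (hha : h • a = a) (hhb : h • b = b) {u : G}
    (hu : u ∈ F) (hu1 : u ≠ 1) (hc : h * u * h⁻¹ = u) : h = 1 := by
  have hcomm : h * u = u * h := by
    have : h * u = (h * u * h⁻¹) * h := by group
    rw [this, hc]
  have hba : b ≠ a := Ne.symm P.hab
  have hub : u • b ≠ b := fun h' => hba (P.hFfix u hu hu1 b h')
  have hua : u • b ≠ a := P.smul_ne_a hu hba
  apply P.Z.three h a b (u • b) P.hab (Ne.symm hub) (Ne.symm hua) hha hhb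
  rw [← mul_smul, hcomm, mul_smul, hhb]

theorem PData.exists_swap (P : PData G Ω a b F) : ∃ t : G, t • a = b ∧ t • b = a :=
  P.Z.two P.hab (Ne.symm P.hab)

theorem PData.decomp [Finite G] (P : PData G Ω a b F) {g : G} (hg : g • a = a) :
    ∃ u ∈ F, ∃ k : G, k • a = a ∧ k • b = b ∧ g = u * k :=
  N_eq_HE P.hab F P.hFa P.hFcard P.hFfix hg

theorem PData.card_G [Finite G] (P : PData G Ω a b F) :
    Nat.card G = (Nat.card F + 1) * Nat.card F
      * Nat.card ↥(stabilizer G a ⊓ stabilizer G b : Subgroup G) := by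
  classical
  letI : Fintype G := Fintype.ofFinite G
  rw [Nat.card_eq_fintype_card, card_group P.Z P.hab, eNum_eq_card, P.hFcard]
  have := P.hFcard
  congr 2
  omega

theorem PData.exists_ne_one [Finite G] (P : PData G Ω a b F) : ∃ u ∈ F, u ≠ 1 := by
  have h1 : 1 < Nat.card F := by
    have := P.he
    have hpos : 0 < Nat.card ↥(stabilizer G a ⊓ stabilizer G b : Subgroup G) := Nat.card_pos
    omega
  haveI : Nontrivial F := Finite.one_lt_card_iff_nontrivial.mp h1
  obtain ⟨u, hu⟩ := exists_ne (1 : F)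
  exact ⟨u, u.2, fun h => hu (Subtype.ext h)⟩

/-- an element fixing `a`, `b` and a third point is trivial. -/
theorem PData.fix_three (P : PData G Ω a b F) {g : G} (hga : g • a = a) (hgb : g • b = b) {c : Ω}
    (hca : c ≠ a) (hcb : c ≠ b) (hgc : g • c = c) : g = 1 :=
  P.Z.three g a b c P.hab (Ne.symm hcb) (Ne.symm hca) hga hgb hgc

/-- an involution in the two-point stabilizer inverts the kernel. -/
theorem PData.inverts (P : PData G Ω a b F) [Finite G] {j : G} (hja : j • a = a) (hjb : j • b = b)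
    (hj1 : j ≠ 1) (hjj : j * j = 1) {u : G} (hu : u ∈ F) : j * u * j⁻¹ = u⁻¹ := by
  have hji : j⁻¹ = j := inv_eq_of_mul_eq_one_right hjj
  have hv : j * u * j⁻¹ ∈ F := P.conj_mem hja hu
  have hw : u * (j * u * j⁻¹) ∈ F := F.mul_mem hu hv
  have hfix : j * (u * (j * u * j⁻¹)) * j⁻¹ = u * (j * u * j⁻¹) := by
    have h1 : j * (u * (j * u * j⁻¹)) * j⁻¹ = (j * u * j⁻¹) * ((j * j) * u * (j * j)⁻¹) := by
      group
    rw [h1, hjj, one_mul, inv_one, mul_one]
    exact P.hcomm _ hv _ hu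
  have hw1 : u * (j * u * j⁻¹) = 1 := by
    by_contra hne
    exact hj1 (P.semi hja hjb hw hne hfix)
  exact eq_inv_of_mul_eq_one_right hw1

/-- the involution in the two-point stabilizer is unique. -/
theorem PData.invol_unique (P : PData G Ω a b F) [Finite G] {j j' : G} (hja : j • a = a)
    (hjb : j • b = b) (hj1 : j ≠ 1) (hjj : j * j = 1) (hja' : j' • a = a) (hjb' : j' • b = b)
    (hj1' : j' ≠ 1) (hjj' : j' * j' = 1) : j = j' := by
  obtain ⟨u, hu, hu1⟩ := P.exists_ne_one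
  have hji' : j'⁻¹ = j' := inv_eq_of_mul_eq_one_right hjj'
  have h1 := P.inverts hja hjb hj1 hjj hu
  have h2 := P.inverts hja' hjb' hj1' hjj' (F.inv_mem hu)
  rw [inv_inv] at h2
  have h3 : (j' * j) * u * (j' * j)⁻¹ = u := by
    have : (j' * j) * u * (j' * j)⁻¹ = j' * (j * u * j⁻¹) * j'⁻¹ := by group
    rw [this, h1, h2]
  have h4 : j' * j = 1 := by
    apply P.semi _ _ hu hu1 h3
    · rw [mul_smul, hja, hja']
    · rw [mul_smul, hjb, hjb']
  have : j = j'⁻¹ := eq_inv_of_mul_eq_one_right h4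
  rw [this, hji']

end

end ZP

end Cfsg.Agent.Lib.Helper2
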