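import Mathlib
import Cfsg.Agent.Lib.Helper2.ZP4

set_option autoImplicit false
set_option linter.style.haveILetI false
set_option linter.unusedSectionVars false

/-!
# Zassenhaus groups with abelian kernel and two-point stabilizer of even order `(q - 1) / 2`:
elements swapping two points are involutions with fixed points
-/

namespace Cfsg.Agent.Lib.Helper2

namespace ZP

open MulAction Cfsg.Agent.Lib.Lead.Zass Cfsg.Agent.Lib.Helper2.FZ

section
variable {G Ω : Type*} [Group G] [MulAction G Ω] [Fintype Ω] {a b : Ω} {F : Subgroup G}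

/-- uniqueness of the involution fixing two given points. -/
theorem PData.invol_unique' [Finite G] (P : PData G Ω a b F) {c d : Ω} (hcd : c ≠ d) {x y : G}
    (hxc : x • c = c) (hxd : x • d = d) (hx1 : x ≠ 1) (hxx : x * x = 1)
    (hyc : y • c = c) (hyd : y • d = d) (hy1 : y ≠ 1) (hyy : y * y = 1) : x = y := by
  obtain ⟨g, hga, hgb⟩ := P.Z.two P.hab hcd
  have hfix : ∀ z : G, z • c = c → z • d = d →
      (g⁻¹ * z * g) • a = a ∧ (g⁻¹ * z * g) • b = b := by
    intro z hzc hzd
    constructor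
    · rw [mul_smul, mul_smul, hga, hzc, ← hga, inv_smul_smul]
    · rw [mul_smul, mul_smul, hgb, hzd, ← hgb, inv_smul_smul]
  have hne : ∀ z : G, z ≠ 1 → g⁻¹ * z * g ≠ 1 := by
    intro z hz h
    apply hz
    have : z = g * (g⁻¹ * z * g) * g⁻¹ := by group
    rw [this, h]
    group
  have hsq : ∀ z : G, z * z = 1 → (g⁻¹ * z * g) * (g⁻¹ * z * g) = 1 := by
    intro z hz
    have : (g⁻¹ * z * g) * (g⁻¹ * z * g) = g⁻¹ * (z * z) * g := by group
    rw [this, hz]
    group
  have := P.invol_unique (hfix x hxc hxd).1 (hfix x hxc hxd).2 (hne x hx1) (hsq x hxx)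
    (hfix y hyc hyd).1 (hfix y hyc hyd).2 (hne y hy1) (hsq y hyy)
  have h1 : x = g * (g⁻¹ * x * g) * g⁻¹ := by group
  have h2 : y = g * (g⁻¹ * y * g) * g⁻¹ := by group
  rw [h1, h2, this]

/-- for every point `c` other than `a`, `b` there is an involution swapping `a` and `b` and
fixing `c`. -/
theorem PData.exists_swap_fixing [Finite G] (P : PData G Ω a b F) {j : G} (hja : j • a = a)
    (hjb : j • b = b) (hj1 : j ≠ 1) (hjj : j * j = 1) {c : Ω} (hca : c ≠ a) (hcb : c ≠ b) :
    ∃ x : G, x • a = b ∧ x • b = a ∧ x * x = 1 ∧ x • c = c := by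
  have hjc : j • c ≠ c := fun h => hj1 (P.fix_three hja hjb hca hcb h)
  have hjjc : j • (j • c) = c := by rw [← mul_smul, hjj, one_smul]
  obtain ⟨g, hga, hgb⟩ := P.Z.two P.hab (Ne.symm hjc)
  obtain ⟨x, hx⟩ : ∃ x : G, x = g * j * g⁻¹ := ⟨_, rfl⟩
  have hxc : x • c = c := by
    rw [hx, mul_smul, mul_smul, ← hga, inv_smul_smul, hja]
  have hxjc : x • (j • c) = j • c := by
    rw [hx, mul_smul, mul_smul, ← hgb, inv_smul_smul, hjb]
  have hxx : x * x = 1 := by
    have : x * x = g * (j * j) * g⁻¹ := by rw [hx]; group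
    rw [this, hjj]
    group
  have hx1 : x ≠ 1 := by
    intro h
    apply hj1
    have : j = g⁻¹ * x * g := by rw [hx]; group
    rw [this, h]
    group
  have hji : j⁻¹ = j := inv_eq_of_mul_eq_one_right hjj
  -- `j x j⁻¹ = x`
  have hcomm : j * x * j⁻¹ = x := by
    apply P.invol_unique' (Ne.symm hjc) (c := c) (d := j • c)
    · rw [mul_smul, mul_smul, hji, hxjc, hjjc]
    · rw [mul_smul, mul_smul, hji, hjjc, hxc]
    · intro h
      apply hx1
      have : x = j⁻¹ * (j * x * j⁻¹) * j := by group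
      rw [this, h]
      group
    · have : (j * x * j⁻¹) * (j * x * j⁻¹) = j * (x * x) * j⁻¹ := by group
      rw [this, hxx]
      group
    · exact hxc
    · exact hxjc
    · exact hx1
    · exact hxx
  have hjx : j * x = x * j := by
    have : j * x = (j * x * j⁻¹) * j := by group
    rw [this, hcomm]
  have hfixj : ∀ y : Ω, j • y = y → y = a ∨ y = b := by
    intro y hy
    by_contra hcon
    push Not at hcon
    exact hj1 (P.fix_three hja hjb hcon.1 hcon.2 hy)
  have hxa : x • a = b := by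
    have h1 : j • (x • a) = x • a := by
      rw [← mul_smul, hjx, mul_smul, hja]
    rcases hfixj _ h1 with h | h
    · exfalso
      apply hx1
      have hjca : j • c ≠ a := stab_ne a hja hca
      exact P.Z.three x a c (j • c) (Ne.symm hca) (Ne.symm hjc) (Ne.symm hjca) h hxc hxjc
    · exact h
  refine ⟨x, hxa, ?_, hxx, hxc⟩
  rw [← hxa, ← mul_smul, hxx, one_smul]

/-- when the two-point stabilizer has even order, all elements swapping two points are
involutions with fixed points. -/
theorem PData.inv_even [Finite G] (P : PData G Ω a b F)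
    (heven : Even (Nat.card ↥(stabilizer G a ⊓ stabilizer G b : Subgroup G))) :
    ∃ j : G, j • a = a ∧ j • b = b ∧ j ≠ 1 ∧ j * j = 1 ∧
      ∀ t : G, t • a = b → t • b = a → t * t = 1 ∧ ∃ c : Ω, c ≠ a ∧ c ≠ b ∧ t • c = c := by
  classical
  letI : Fintype G := Fintype.ofFinite G
  have Z := P.Z
  haveI : Fact (Nat.Prime 2) := ⟨Nat.prime_two⟩
  obtain ⟨z, hz⟩ := exists_prime_orderOf_dvd_card' 2 (even_iff_two_dvd.mp heven)
  obtain ⟨j, hj⟩ : ∃ j : G, j = (z : G) := ⟨_, rfl⟩
  have hjo : orderOf j = 2 := by rw [hj, Subgroup.orderOf_coe]; exact hz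
  have hj1 : j ≠ 1 := by
    intro h
    rw [h, orderOf_one] at hjo
    omega
  have hjj : j * j = 1 := by
    rw [← pow_two, ← hjo]; exact pow_orderOf_eq_one j
  have hjab : j • a = a ∧ j • b = b := by
    have := z.2
    rw [mem_H_iff] at this
    rw [hj]; exact this
  refine ⟨j, hjab.1, hjab.2, hj1, hjj, ?_⟩
  -- the map
  have hf : ∀ c : Ω, ∃ x : G, c ≠ a → c ≠ b → x • a = b ∧ x • b = a ∧ x * x = 1 ∧ x • c = c := by
    intro c
    by_cases hca : c = a
    · exact ⟨1, fun h => absurd hca h⟩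
    by_cases hcb : c = b
    · exact ⟨1, fun _ h => absurd hcb h⟩
    obtain ⟨x, hx⟩ := P.exists_swap_fixing hjab.1 hjab.2 hj1 hjj hca hcb
    exact ⟨x, fun _ _ => hx⟩
  choose f hf using hf
  let M : Finset Ω := (Finset.univ.erase a).erase b
  have hMmem : ∀ c : Ω, c ∈ M ↔ c ≠ a ∧ c ≠ b := by
    intro c
    simp only [M, Finset.mem_erase, Finset.mem_univ, and_true]
    tauto
  have hMcard : M.card = Fintype.card Ω - 2 := by
    simp only [M]
    rw [Finset.card_erase_of_mem, Finset.card_erase_of_mem (Finset.mem_univ a), Finset.card_univ]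
    · omega
    · rw [Finset.mem_erase]
      exact ⟨Ne.symm P.hab, Finset.mem_univ b⟩
  let Sw : Finset G := mapSet (G := G) a b b a
  have hSwcard : Sw.card = Nat.card ↥(stabilizer G a ⊓ stabilizer G b : Subgroup G) := by
    rw [← eNum_eq_card]
    exact card_mapSet Z P.hab P.hab (Ne.symm P.hab)
  have himg : M.image f ⊆ Sw := by
    intro x hx
    rw [Finset.mem_image] at hx
    obtain ⟨c, hc, rfl⟩ := hx
    rw [hMmem] at hc
    have := hf c hc.1 hc.2
    rw [mem_mapSet]
    exact ⟨this.1, this.2.1⟩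
  have hne1 : ∀ x ∈ Sw, x ≠ 1 := by
    intro x hx h
    rw [mem_mapSet, h, one_smul] at hx
    exact P.hab hx.1
  have hfib : ∀ x ∈ M.image f, (M.filter (fun c => f c = x)).card ≤ 2 := by
    intro x hx
    have hsub : M.filter (fun c => f c = x) ⊆ Finset.univ.filter (fun y : Ω => x • y = y) := by
      intro c hc
      rw [Finset.mem_filter, hMmem] at hc
      rw [Finset.mem_filter]
      refine ⟨Finset.mem_univ _, ?_⟩
      rw [← hc.2]
      exact (hf c hc.1.1 hc.1.2).2.2.2
    exact (Finset.card_le_card hsub).trans (fix_card_le_two Z (hne1 x (himg hx)))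
  have hcard := Finset.card_le_mul_card_image M 2 hfib
  have heq : M.image f = Sw := by
    apply Finset.eq_of_subset_of_card_le himg
    rw [hSwcard]
    rw [hMcard] at hcard
    have h1 := P.he
    have h2 := P.hFcard
    omega
  intro t hta htb
  have htS : t ∈ Sw := by
    rw [mem_mapSet]
    exact ⟨hta, htb⟩
  rw [← heq, Finset.mem_image] at htS
  obtain ⟨c, hc, rfl⟩ := htS
  rw [hMmem] at hc
  have := hf c hc.1 hc.2
  exact ⟨this.2.2.1, c, hc.1, hc.2, this.2.2.2⟩

end

end ZP

end Cfsg.Agent.Lib.Helper2
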