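import Mathlib
import Cfsg.Agent.Lib.Helper2.FZ16
import Cfsg.Agent.Lib.Helper1.LinearChar

set_option autoImplicit false

/-! Frobenius-type normal subgroups: the characters having the kernel in their kernel. -/

namespace Cfsg.Agent.Lib.Helper2

namespace FZ

open MulAction Cfsg Cfsg.Agent.Lib.Lead.Zass Cfsg.Agent.Lib.Helper1 Cfsg.Agent.Lib.Helper4
open scoped ComplexConjugate

section Abs
variable {N : Type*} [Group N] [Fintype N] (L : Subgroup N) [hLn : L.Normal]

theorem one_irr' (M : Type*) [Group M] : IsIrrCharacter M (fun _ => (1 : ℂ)) := by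
  have := isIrrCharacter_of_hom (1 : M →* ℂˣ)
  simpa using this

/-- the character induced from the trivial character of `L`. -/
noncomputable def rhoL : N → ℂ := indFun L (fun _ => 1)

theorem rhoL_isCharacter : IsCharacter N (rhoL L) :=
  Cfsg.Agent.S0148.result L _ (isCharacter_of_irr (one_irr' L))

theorem rhoL_one : rhoL L 1 = (L.index : ℂ) := by
  have hL0 : (Nat.card L : ℂ) ≠ 0 := Nat.cast_ne_zero.mpr Nat.card_pos.ne'
  rw [rhoL, Cfsg.Agent.S0170.indFun_one, ← L.card_mul_index]
  push_cast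
  field_simp

/-- multiplicity in `rhoL` of a character constant on `L`. -/
theorem inner_rhoL_const [Fintype L] {η : N → ℂ} (hη : IsIrrCharacter N η)
    (hc : ∀ k : N, k ∈ L → η k = η 1) : classInner (rhoL L) η = η 1 := by
  rw [rhoL, Cfsg.Agent.S0146.result L _ _ (isClassFunction_irr hη)]
  obtain ⟨d, -, hd⟩ := irr_apply_one_pos hη
  have h1 : (fun k : L => η k) = fun _ => (d : ℂ) := by
    funext k
    rw [hc k k.2, hd]
  rw [h1, classInner_def]
  have hL0 : (Nat.card L : ℂ) ≠ 0 := Nat.cast_ne_zero.mpr Nat.card_pos.ne'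
  simp only [one_mul, Complex.conj_natCast, Finset.sum_const, Finset.card_univ, nsmul_eq_mul]
  rw [← Nat.card_eq_fintype_card, hd]
  field_simp

/-- multiplicity in `rhoL` of a character induced from a nontrivial character of `L`. -/
theorem inner_rhoL_ind [Fintype L] {θ : L → ℂ} (hθ : IsIrrCharacter L θ)
    (hθ1 : θ ≠ fun _ => 1) : classInner (rhoL L) (indFun L θ) = 0 := by
  rw [rhoL, classInner_indFun_normal]
  have h1 : ∀ g : N, classInner (fun _ : L => (1 : ℂ)) (conjFn L θ g) = 0 := by
    intro g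
    apply classInner_irr_ne (one_irr' L) (isIrrCharacter_conjFn L hθ g)
    intro h
    apply hθ1
    have h2 : conjFn L (conjFn L θ g) g⁻¹ = θ := by
      rw [← conjFn_mul, mul_inv_cancel, conjFn_one]
    rw [← h2, ← h]
    funext k
    rfl
  rw [Finset.sum_congr rfl fun g _ => h1 g, Finset.sum_const_zero, mul_zero]

end Abs

section Hyp
variable {G : Type*} [Group G] [Fintype G] {N : Subgroup G} [Fintype N] {L : Subgroup N}
  [hLn : L.Normal] [Fintype L]

theorem const_of_notMem_Sset {η : N → ℂ} (hη : IsIrrCharacter N η) (hS : η ∉ TIFN.Sset L)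
    {k : N} (hk : k ∈ L) : η k = η 1 :=
  TIFN.const_of_not_mem L hη hS hk

/-- the sum of the squares of the degrees of the characters not in `Sset L`. -/
theorem sum_sq_T (h : TIFN.Hyp N L) [Fintype (IrrCharacter N)]
    [DecidablePred (fun η : IrrCharacter N => (η : N → ℂ) ∈ TIFN.Sset L)] :
    ∑ η ∈ Finset.univ.filter (fun η : IrrCharacter N => (η : N → ℂ) ∉ TIFN.Sset L),
      (η : N → ℂ) 1 * (η : N → ℂ) 1 = (L.index : ℂ) := by
  have hexp := class_function_expansion (rhoL L)
    (isClassFunction_of_isCharacter (rhoL_isCharacter L))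
  have h1 := congrFun hexp 1
  rw [rhoL_one, Finset.sum_apply] at h1
  rw [h1, ← Finset.sum_filter_add_sum_filter_not Finset.univ
    (fun η : IrrCharacter N => (η : N → ℂ) ∈ TIFN.Sset L)]
  have hS : ∑ η ∈ Finset.univ.filter (fun η : IrrCharacter N => (η : N → ℂ) ∈ TIFN.Sset L),
      (classInner (rhoL L) (η : N → ℂ) • (η : N → ℂ)) 1 = 0 := by
    apply Finset.sum_eq_zero
    intro η hη
    rw [Finset.mem_filter] at hη
    obtain ⟨θ, hθ, hθ1, hηθ⟩ := h.exists_induced hη.2
    rw [Pi.smul_apply, hηθ, inner_rhoL_ind L hθ hθ1, zero_smul]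
  rw [hS, zero_add]
  refine Finset.sum_congr rfl fun η hη => ?_
  rw [Finset.mem_filter] at hη
  rw [Pi.smul_apply, smul_eq_mul,
    inner_rhoL_const L η.2 (fun k hk => const_of_notMem_Sset η.2 hη.2 hk)]

end Hyp

end FZ

end Cfsg.Agent.Lib.Helper2
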