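import Mathlib
import Cfsg.Agent.Lib.Helper2.FZ17

set_option autoImplicit false

/-! Feit's Zassenhaus groups: the characters of the point stabilizer trivial on `H` are linear. -/

namespace Cfsg.Agent.Lib.Helper2

namespace FZ

open MulAction Cfsg Cfsg.Agent.Lib.Lead.Zass Cfsg.Agent.Lib.Helper1 Cfsg.Agent.Lib.Helper4
open scoped ComplexConjugate

theorem card_hom_cyclic {A : Type*} [Group A] [Finite A] [IsCyclic A] :
    Nat.card (A →* ℂˣ) = Nat.card A := by
  let _ : CommGroup A := IsCyclic.commGroup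
  have hne : NeZero (Monoid.exponent A) := ⟨Monoid.exponent_ne_zero_of_finite⟩
  exact CommGroup.card_monoidHom_of_hasEnoughRootsOfUnity A ℂ

section
variable {G Ω : Type*} [Group G] [MulAction G Ω]

/-- the complement of `H` in the point stabilizer. -/
def Ecomp (G : Type*) [Group G] {Ω : Type*} [MulAction G Ω] (a b : Ω) :
    Subgroup ↥(stabilizer G a) :=
  (stabilizer G b).subgroupOf (stabilizer G a)

theorem mem_Ecomp {a b : Ω} {x : ↥(stabilizer G a)} : x ∈ Ecomp G a b ↔ (x : G) • b = b := by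
  rw [Ecomp, Subgroup.mem_subgroupOf, mem_stabilizer_iff]

/-- the complement is isomorphic to the two-point stabilizer. -/
def EcompEquiv (a b : Ω) :
    ↥(Ecomp G a b) ≃* ↥(stabilizer G a ⊓ stabilizer G b : Subgroup G) where
  toFun x := ⟨((x : ↥(stabilizer G a)) : G),
    (mem_H_iff a b _).mpr ⟨mem_stabilizer_iff.mp x.1.2, mem_Ecomp.mp x.2⟩⟩
  invFun y := ⟨⟨(y : G), mem_stabilizer_iff.mpr ((mem_H_iff a b _).mp y.2).1⟩,
    mem_Ecomp.mpr ((mem_H_iff a b _).mp y.2).2⟩
  left_inv _ := rfl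
  right_inv _ := rfl
  map_mul' _ _ := rfl

end

section
variable {G Ω : Type*} [Group G] [Fintype G] [MulAction G Ω] [Fintype Ω] {a b : Ω}
  {H : Subgroup G}

theorem FData.card_Ecomp (_F : FData G Ω a b H) :
    Nat.card ↥(Ecomp G a b) = Nat.card ↥(stabilizer G a ⊓ stabilizer G b : Subgroup G) :=
  Nat.card_congr (EcompEquiv a b).toEquiv

theorem FData.isCyclic_Ecomp [IsSimpleGroup G] (F : FData G Ω a b H) :
    IsCyclic ↥(Ecomp G a b) := by
  haveI := (E_facts F.hZ F.hab F.hodd).1
  exact isCyclic_of_surjective (EcompEquiv (G := G) a b).symm.toMonoidHom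
    (EcompEquiv (G := G) a b).symm.surjective

theorem FData.compl (F : FData G Ω a b H) :
    Subgroup.IsComplement' (Ecomp G a b) (H.subgroupOf (stabilizer G a)) := by
  apply Subgroup.isComplement'_of_card_mul_and_disjoint
  · rw [F.card_Ecomp, F.card_L, F.card_N, mul_comm]
  · rw [Subgroup.disjoint_def]
    intro x hxE hxL
    rw [mem_Ecomp] at hxE
    rw [Subgroup.mem_subgroupOf] at hxL
    by_contra hx1
    have hx1' : (x : G) ≠ 1 := fun h => hx1 (Subtype.ext h)
    exact F.hab (F.hHfix _ hxL hx1' b hxE).symm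

/-- a retraction of the point stabilizer onto the complement with kernel containing `H`. -/
theorem FData.exists_retr (F : FData G Ω a b H) :
    ∃ r : ↥(stabilizer G a) →* ↥(Ecomp G a b), Function.Surjective r ∧
      ∀ x : ↥(stabilizer G a), x ∈ H.subgroupOf (stabilizer G a) → r x = 1 := by
  haveI := F.normal
  refine ⟨(F.compl.QuotientMulEquiv).toMonoidHom.comp
    (QuotientGroup.mk' (H.subgroupOf (stabilizer G a))), ?_, ?_⟩
  · exact (F.compl.QuotientMulEquiv).surjective.comp (QuotientGroup.mk'_surjective _)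
  · intro x hx
    rw [MonoidHom.comp_apply]
    have : QuotientGroup.mk' (H.subgroupOf (stabilizer G a)) x = 1 :=
      (QuotientGroup.eq_one_iff x).mpr hx
    rw [this, map_one]

/-- the irreducible characters of the point stabilizer outside `Sset` are linear, and there are
exactly `e` of them. -/
theorem FData.T_linear [IsSimpleGroup G] (F : FData G Ω a b H) [Fintype ↥(stabilizer G a)]
    [hLn : (H.subgroupOf (stabilizer G a)).Normal]
    [Fintype ↥(H.subgroupOf (stabilizer G a))] [Fintype (IrrCharacter ↥(stabilizer G a))]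
    [DecidablePred (fun η : IrrCharacter ↥(stabilizer G a) =>
      (η : ↥(stabilizer G a) → ℂ) ∈ TIFN.Sset (H.subgroupOf (stabilizer G a)))] :
    (∀ η : IrrCharacter ↥(stabilizer G a),
      (η : ↥(stabilizer G a) → ℂ) ∉ TIFN.Sset (H.subgroupOf (stabilizer G a)) →
        (η : ↥(stabilizer G a) → ℂ) 1 = 1) ∧
    (Finset.univ.filter (fun η : IrrCharacter ↥(stabilizer G a) =>
      (η : ↥(stabilizer G a) → ℂ) ∉ TIFN.Sset (H.subgroupOf (stabilizer G a)))).card
      = Nat.card ↥(stabilizer G a ⊓ stabilizer G b : Subgroup G) := by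
  classical
  obtain ⟨r, hrs, hrL⟩ := F.exists_retr
  haveI := F.isCyclic_Ecomp
  have hcardhom : Nat.card (↥(Ecomp G a b) →* ℂˣ)
      = Nat.card ↥(stabilizer G a ⊓ stabilizer G b : Subgroup G) := by
    rw [card_hom_cyclic, F.card_Ecomp]
  have hfin : Finite (↥(Ecomp G a b) →* ℂˣ) := by
    apply Nat.finite_of_card_ne_zero
    rw [hcardhom]
    exact Nat.card_pos.ne'
  haveI : Fintype (↥(Ecomp G a b) →* ℂˣ) := Fintype.ofFinite _
  set T := Finset.univ.filter (fun η : IrrCharacter ↥(stabilizer G a) =>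
      (η : ↥(stabilizer G a) → ℂ) ∉ TIFN.Sset (H.subgroupOf (stabilizer G a))) with hT
  -- the map from homs to T
  let Φ : (↥(Ecomp G a b) →* ℂˣ) → IrrCharacter ↥(stabilizer G a) := fun ψ =>
    ⟨fun x => (((ψ.comp r) x : ℂˣ) : ℂ), isIrrCharacter_of_hom (ψ.comp r)⟩
  have hΦT : ∀ ψ, Φ ψ ∈ T := by
    intro ψ
    rw [hT, Finset.mem_filter]
    refine ⟨Finset.mem_univ _, ?_⟩
    rintro ⟨-, k, hk, hne⟩
    apply hne
    show (((ψ.comp r) k : ℂˣ) : ℂ) = (((ψ.comp r) 1 : ℂˣ) : ℂ)
    rw [MonoidHom.comp_apply, hrL k hk, map_one, map_one]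
  have hΦinj : Function.Injective Φ := by
    intro ψ ψ' h
    ext y
    obtain ⟨x, rfl⟩ := hrs y
    have h1 := congrFun (congrArg Subtype.val h) x
    exact h1
  have hle : Nat.card ↥(stabilizer G a ⊓ stabilizer G b : Subgroup G) ≤ T.card := by
    rw [← hcardhom, Nat.card_eq_fintype_card, ← Finset.card_univ]
    exact Finset.card_le_card_of_injOn Φ (fun ψ _ => hΦT ψ) (fun ψ _ ψ' _ h => hΦinj h)
  -- degrees
  have hd : ∀ η : IrrCharacter ↥(stabilizer G a), ∃ d : ℕ, 0 < d ∧
      (η : ↥(stabilizer G a) → ℂ) 1 = d := fun η => irr_apply_one_pos η.2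
  choose d hdpos hd using hd
  have hsum := sum_sq_T (F.hyp)
  rw [F.index_L] at hsum
  have hsum' : ∑ η ∈ T, d η * d η
      = Nat.card ↥(stabilizer G a ⊓ stabilizer G b : Subgroup G) := by
    have : ((∑ η ∈ T, d η * d η : ℕ) : ℂ)
        = (Nat.card ↥(stabilizer G a ⊓ stabilizer G b : Subgroup G) : ℂ) := by
      rw [← hsum]
      push_cast
      refine Finset.sum_congr rfl fun η _ => ?_
      rw [hd η]
    exact_mod_cast this
  have h1le : ∀ η ∈ T, 1 ≤ d η * d η := fun η _ => Nat.mul_pos (hdpos η) (hdpos η)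
  have hcard_le : T.card ≤ ∑ η ∈ T, d η * d η := by
    calc T.card = ∑ η ∈ T, 1 := by simp
      _ ≤ ∑ η ∈ T, d η * d η := Finset.sum_le_sum h1le
  have hTcard : T.card = Nat.card ↥(stabilizer G a ⊓ stabilizer G b : Subgroup G) := by
    rw [hsum'] at hcard_le
    exact le_antisymm hcard_le hle
  refine ⟨?_, hTcard⟩
  have heq : ∑ η ∈ T, 1 = ∑ η ∈ T, d η * d η := by
    rw [hsum', ← hTcard]; simp
  have hall := (Finset.sum_eq_sum_iff_of_le h1le).mp heq
  intro η hη
  have hηT : η ∈ T := by rw [hT, Finset.mem_filter]; exact ⟨Finset.mem_univ _, hη⟩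
  have h2 := hall η hηT
  have h3 : d η = 1 := by
    have := hdpos η
    nlinarith
  rw [hd η, h3, Nat.cast_one]

end

end FZ

end Cfsg.Agent.Lib.Helper2
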