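import Mathlib
import Cfsg.Agent.Lib.Helper2.FZ6
import Cfsg.Agent.Lib.Helper2.LinExt
import Cfsg.Agent.Lib.Helper1.IndFun
import Cfsg.Agent.Lib.Helper1.CharFound6
import Cfsg.Agent.S0146
import Cfsg.Agent.S0148

set_option autoImplicit false

/-! Feit's Zassenhaus groups: the characters induced from linear characters of `N / H`. -/

namespace Cfsg.Agent.Lib.Helper2

namespace FZ

open MulAction Cfsg Cfsg.Agent.Lib.Lead.Zass Cfsg.Agent.Lib.Helper1
open scoped ComplexConjugate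

section
variable {G : Type*} [Group G]

theorem hom_mul_conj [Finite G] (φ : G →* ℂˣ) (g : G) :
    ((φ g : ℂˣ) : ℂ) * conj ((φ g : ℂˣ) : ℂ) = 1 := by
  have h1 : ((φ g : ℂˣ) : ℂ) ^ orderOf g = 1 := by
    rw [← Units.val_pow_eq_pow_val, ← map_pow, pow_orderOf_eq_one, map_one, Units.val_one]
  have h2 : ‖((φ g : ℂˣ) : ℂ)‖ = 1 :=
    Complex.norm_eq_one_of_pow_eq_one h1 (orderOf_pos g).ne'
  rw [Complex.mul_conj, Complex.normSq_eq_norm_sq, h2]
  simp

theorem hom_conj [Finite G] (φ : G →* ℂˣ) (g : G) :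
    conj ((φ g : ℂˣ) : ℂ) = ((φ g⁻¹ : ℂˣ) : ℂ) := by
  have h1 := hom_mul_conj φ g
  have h2 : ((φ g : ℂˣ) : ℂ) * ((φ g⁻¹ : ℂˣ) : ℂ) = 1 := by
    rw [← Units.val_mul, ← map_mul, mul_inv_cancel, map_one, Units.val_one]
  have h3 : ((φ g : ℂˣ) : ℂ) ≠ 0 := Units.ne_zero _
  exact mul_left_cancel₀ h3 (h1.trans h2.symm)

theorem hom_conj_eq (φ : G →* ℂˣ) (t g : G) : φ (t * g * t⁻¹) = φ g := by
  rw [map_mul, map_mul, map_inv, mul_comm (φ t), mul_assoc, mul_inv_cancel, mul_one]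

theorem hom_conj_eq' (φ : G →* ℂˣ) (t g : G) : φ (t⁻¹ * g * t) = φ g := by
  have := hom_conj_eq φ t⁻¹ g
  rwa [inv_inv] at this

/-- vanishing of a twisted sum. -/
theorem sum_eq_zero_of_mul [Fintype G] (F : G → ℂ) (k : G) (z : ℂ) (hz : z ≠ 1)
    (hF : ∀ g : G, F (k * g) = z * F g) : ∑ g : G, F g = 0 := by
  have h1 : ∑ g : G, F g = z * ∑ g : G, F g := by
    rw [Finset.mul_sum, ← Equiv.sum_comp (Equiv.mulLeft k) F]
    exact Finset.sum_congr rfl fun g _ => hF g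
  have h2 : (1 - z) * ∑ g : G, F g = 0 := by
    rw [sub_mul, one_mul, ← h1, sub_self]
  rcases mul_eq_zero.mp h2 with h | h
  · exact absurd (sub_eq_zero.mp h).symm hz
  · exact h

end

section
variable {G Ω : Type*} [Group G] [Fintype G] [MulAction G Ω] [Fintype Ω]

open scoped Classical in
/-- the inner sum in the norm computation. -/
theorem inner_sum (hZ : Cfsg.IsZassenhausGroup G Ω) {a b : Ω} (hab : a ≠ b) [IsSimpleGroup G]
    (hodd : Odd (Nat.card ↥(stabilizer G a ⊓ stabilizer G b : Subgroup G)))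
    [Fintype ↥(stabilizer G a)]
    (φ : ↥(stabilizer G a) →* ℂˣ)
    (hφE : ∃ k : ↥(stabilizer G a), (k : G) • b = b ∧ φ k ≠ 1) (x : G) :
    ∑ g : ↥(stabilizer G a), ((φ g : ℂˣ) : ℂ) *
        conj (Cfsg.extendByZero (stabilizer G a) (fun g => ((φ g : ℂˣ) : ℂ)) (x⁻¹ * (g : G) * x))
      = if x ∈ stabilizer G a then (Nat.card ↥(stabilizer G a) : ℂ) else 0 := by
  classical
  have Z := zdata_of hZ
  obtain ⟨hcyc, hcent, hswap⟩ := E_facts hZ hab hodd
  by_cases hx : x ∈ stabilizer G a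
  · rw [if_pos hx]
    have h1 : ∀ g : ↥(stabilizer G a), ((φ g : ℂˣ) : ℂ) *
        conj (Cfsg.extendByZero (stabilizer G a) (fun g => ((φ g : ℂˣ) : ℂ)) (x⁻¹ * (g : G) * x))
        = 1 := by
      intro g
      have hm : x⁻¹ * (g : G) * x ∈ stabilizer G a :=
        Subgroup.mul_mem _ (Subgroup.mul_mem _ (Subgroup.inv_mem _ hx) g.2) hx
      rw [extendByZero_of_mem _ _ hm]
      have h2 : (⟨x⁻¹ * (g : G) * x, hm⟩ : ↥(stabilizer G a))
          = (⟨x, hx⟩ : ↥(stabilizer G a))⁻¹ * g * ⟨x, hx⟩ := Subtype.ext rfl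
      show ((φ g : ℂˣ) : ℂ) * conj ((φ ⟨x⁻¹ * (g : G) * x, hm⟩ : ℂˣ) : ℂ) = 1
      rw [h2, hom_conj_eq']
      exact hom_mul_conj φ g
    rw [Finset.sum_congr rfl fun g _ => h1 g]
    simp [Nat.card_eq_fintype_card]
  · rw [if_neg hx]
    have hxa : x • a ≠ a := fun h => hx (mem_stabilizer_iff.mpr h)
    have hxa' : x⁻¹ • a ≠ a := by
      intro h
      apply hxa
      rw [← h, smul_inv_smul, h]
    obtain ⟨n, hna, hnb⟩ := Z.two hab (Ne.symm hxa)
    obtain ⟨n', hn'a, hn'b⟩ := Z.two hab (Ne.symm hxa')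
    have hnN : n ∈ stabilizer G a := mem_stabilizer_iff.mpr hna
    have hn'N : n' ∈ stabilizer G a := mem_stabilizer_iff.mpr hn'a
    -- reindex by conjugation with n
    rw [← Equiv.sum_comp (MulAut.conj (⟨n, hnN⟩ : ↥(stabilizer G a))).toEquiv
      (fun g : ↥(stabilizer G a) => ((φ g : ℂˣ) : ℂ) *
        conj (Cfsg.extendByZero (stabilizer G a) (fun g => ((φ g : ℂˣ) : ℂ))
          (x⁻¹ * (g : G) * x)))]
    obtain ⟨k₀, hk₀b, hk₀⟩ := hφE
    -- the swapping element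
    have hs1 : (n'⁻¹ * x⁻¹ * n) • a = b := by
      rw [mul_smul, mul_smul, hna, ← hn'b, inv_smul_smul]
    have hs2 : (n'⁻¹ * x⁻¹ * n) • b = a := by
      rw [mul_smul, mul_smul, hnb, inv_smul_smul, inv_smul_eq_iff, hn'a]
    have hterm : ∀ g : ↥(stabilizer G a),
        ((φ ((MulAut.conj (⟨n, hnN⟩ : ↥(stabilizer G a))).toEquiv g) : ℂˣ) : ℂ) *
        conj (Cfsg.extendByZero (stabilizer G a) (fun g => ((φ g : ℂˣ) : ℂ))
          (x⁻¹ * (((MulAut.conj (⟨n, hnN⟩ : ↥(stabilizer G a))).toEquiv g : ↥(stabilizer G a)) : G)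
            * x))
        = if (g : G) • b = b then ((φ g : ℂˣ) : ℂ) * ((φ g : ℂˣ) : ℂ) else 0 := by
      intro g
      have hc1 : (((MulAut.conj (⟨n, hnN⟩ : ↥(stabilizer G a))).toEquiv g : ↥(stabilizer G a)) : G)
          = n * (g : G) * n⁻¹ := rfl
      have hc2 : φ ((MulAut.conj (⟨n, hnN⟩ : ↥(stabilizer G a))).toEquiv g) = φ g := by
        show φ (⟨n, hnN⟩ * g * ⟨n, hnN⟩⁻¹) = φ g
        exact hom_conj_eq φ _ _
      rw [hc1, hc2]
      have hga : (g : G) • a = a := mem_stabilizer_iff.mp g.2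
      by_cases hgb : (g : G) • b = b
      · rw [if_pos hgb]
        have hgE : (g : G) ∈ stabilizer G a ⊓ stabilizer G b :=
          (mem_H_iff a b _).mpr ⟨hga, hgb⟩
        have h3 := hswap _ hs1 hs2 _ hgE
        have h4 : x⁻¹ * (n * (g : G) * n⁻¹) * x = n' * (g : G)⁻¹ * n'⁻¹ := by
          rw [← h3]
          group
        have hm : n' * (g : G)⁻¹ * n'⁻¹ ∈ stabilizer G a :=
          Subgroup.mul_mem _ (Subgroup.mul_mem _ hn'N (Subgroup.inv_mem _ g.2))
            (Subgroup.inv_mem _ hn'N)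
        rw [h4, extendByZero_of_mem _ _ hm]
        have h5 : (⟨n' * (g : G)⁻¹ * n'⁻¹, hm⟩ : ↥(stabilizer G a))
            = (⟨n', hn'N⟩ : ↥(stabilizer G a)) * g⁻¹ * ⟨n', hn'N⟩⁻¹ := Subtype.ext rfl
        show ((φ g : ℂˣ) : ℂ) * conj ((φ ⟨n' * (g : G)⁻¹ * n'⁻¹, hm⟩ : ℂˣ) : ℂ) = _
        rw [h5, hom_conj_eq, hom_conj, inv_inv]
      · rw [if_neg hgb]
        have hm : x⁻¹ * (n * (g : G) * n⁻¹) * x ∉ stabilizer G a := by
          intro h
          rw [mem_stabilizer_iff, mul_smul, mul_smul, mul_smul, mul_smul, inv_smul_eq_iff,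
            ← hnb, inv_smul_smul] at h
          exact hgb (MulAction.injective n h)
        rw [extendByZero_of_notMem _ _ hm, map_zero, mul_zero]
    rw [Finset.sum_congr rfl fun g _ => hterm g]
    -- the twisted sum vanishes
    apply sum_eq_zero_of_mul _ k₀ (((φ k₀ : ℂˣ) : ℂ) * ((φ k₀ : ℂˣ) : ℂ))
    · -- φ k₀ ^ 2 ≠ 1
      intro h
      apply hk₀
      have hk₀E : (k₀ : G) ∈ stabilizer G a ⊓ stabilizer G b :=
        (mem_H_iff a b _).mpr ⟨mem_stabilizer_iff.mp k₀.2, hk₀b⟩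
      have ho : Odd (orderOf k₀) := by
        rw [← Subgroup.orderOf_coe]
        have h1 : orderOf (k₀ : G) ∣ Nat.card ↥(stabilizer G a ⊓ stabilizer G b : Subgroup G) := by
          have := orderOf_dvd_natCard (⟨(k₀ : G), hk₀E⟩ :
            ↥(stabilizer G a ⊓ stabilizer G b : Subgroup G))
          rwa [← Subgroup.orderOf_coe] at this
        exact Odd.of_dvd_nat hodd h1
      obtain ⟨m, hm⟩ := ho
      have h2 : (φ k₀) ^ 2 = 1 := by
        apply Units.ext
        rw [Units.val_pow_eq_pow_val, pow_two, h, Units.val_one]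
      have h3 : (φ k₀) ^ orderOf k₀ = 1 := by
        rw [← map_pow, pow_orderOf_eq_one, map_one]
      rw [hm, pow_succ, pow_mul, h2, one_pow, one_mul] at h3
      exact h3
    · intro g
      have hiff : ((k₀ * g : ↥(stabilizer G a)) : G) • b = b ↔ (g : G) • b = b := by
        rw [Subgroup.coe_mul, mul_smul]
        constructor
        · intro h
          have h' : (k₀ : G) • ((g : G) • b) = (k₀ : G) • b := h.trans hk₀b.symm
          exact MulAction.injective (k₀ : G) h'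
        · intro h
          rw [h, hk₀b]
      by_cases hgb : (g : G) • b = b
      · rw [if_pos hgb, if_pos (hiff.mpr hgb), map_mul, Units.val_mul]
        ring
      · rw [if_neg hgb, if_neg (fun h => hgb (hiff.mp h)), mul_zero]

end

end FZ

end Cfsg.Agent.Lib.Helper2
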