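import Mathlib
import Cfsg.Agent.Lib.Helper2.FZ7
import Cfsg.Agent.Lib.Helper2.FZ18

set_option autoImplicit false

/-! Feit's Zassenhaus groups: inner products of characters induced from linear characters of the
point stabilizer. -/

namespace Cfsg.Agent.Lib.Helper2

namespace FZ

open MulAction Cfsg Cfsg.Agent.Lib.Lead.Zass Cfsg.Agent.Lib.Helper1 Cfsg.Agent.Lib.Helper4
open scoped ComplexConjugate

section
variable {G Ω : Type*} [Group G] [Fintype G] [MulAction G Ω] [Fintype Ω] {a b : Ω}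
  {H : Subgroup G}

/-- the twisted sum for an element of the point stabilizer. -/
theorem twist_sum_mem [Fintype ↥(stabilizer G a)] (φ φ' : ↥(stabilizer G a) →* ℂˣ) {x : G}
    (hx : x ∈ stabilizer G a) :
    ∑ g : ↥(stabilizer G a), ((φ' g : ℂˣ) : ℂ) *
        conj (Cfsg.extendByZero (stabilizer G a) (fun g => ((φ g : ℂˣ) : ℂ)) (x⁻¹ * (g : G) * x))
      = ∑ g : ↥(stabilizer G a), ((φ' g : ℂˣ) : ℂ) * conj ((φ g : ℂˣ) : ℂ) := by
  refine Finset.sum_congr rfl fun g _ => ?_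
  have hm : x⁻¹ * (g : G) * x ∈ stabilizer G a :=
    Subgroup.mul_mem _ (Subgroup.mul_mem _ (Subgroup.inv_mem _ hx) g.2) hx
  rw [extendByZero_of_mem _ _ hm]
  have h2 : (⟨x⁻¹ * (g : G) * x, hm⟩ : ↥(stabilizer G a))
      = (⟨x, hx⟩ : ↥(stabilizer G a))⁻¹ * g * ⟨x, hx⟩ := Subtype.ext rfl
  show ((φ' g : ℂˣ) : ℂ) * conj ((φ ⟨x⁻¹ * (g : G) * x, hm⟩ : ℂˣ) : ℂ) = _
  rw [h2, hom_conj_eq']

open scoped Classical in
/-- the twisted sum for an element outside the point stabilizer. -/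
theorem twist_sum_notMem [IsSimpleGroup G] (F : FData G Ω a b H) [Fintype ↥(stabilizer G a)]
    (φ φ' : ↥(stabilizer G a) →* ℂˣ) {x : G} (hx : x ∉ stabilizer G a) :
    ∑ g : ↥(stabilizer G a), ((φ' g : ℂˣ) : ℂ) *
        conj (Cfsg.extendByZero (stabilizer G a) (fun g => ((φ g : ℂˣ) : ℂ)) (x⁻¹ * (g : G) * x))
      = ∑ g : ↥(stabilizer G a), if (g : G) • b = b then ((φ' g : ℂˣ) : ℂ) * ((φ g : ℂˣ) : ℂ)
          else 0 := by
  classical
  have Z := F.Z
  obtain ⟨hcyc, hcent, hswap⟩ := E_facts F.hZ F.hab F.hodd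
  have hxa : x • a ≠ a := fun h => hx (mem_stabilizer_iff.mpr h)
  have hxa' : x⁻¹ • a ≠ a := by
    intro h
    apply hxa
    rw [← h, smul_inv_smul, h]
  obtain ⟨n, hna, hnb⟩ := Z.two F.hab (Ne.symm hxa)
  obtain ⟨n', hn'a, hn'b⟩ := Z.two F.hab (Ne.symm hxa')
  have hnN : n ∈ stabilizer G a := mem_stabilizer_iff.mpr hna
  have hn'N : n' ∈ stabilizer G a := mem_stabilizer_iff.mpr hn'a
  rw [← Equiv.sum_comp (MulAut.conj (⟨n, hnN⟩ : ↥(stabilizer G a))).toEquiv
    (fun g : ↥(stabilizer G a) => ((φ' g : ℂˣ) : ℂ) *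
      conj (Cfsg.extendByZero (stabilizer G a) (fun g => ((φ g : ℂˣ) : ℂ))
        (x⁻¹ * (g : G) * x)))]
  have hs1 : (n'⁻¹ * x⁻¹ * n) • a = b := by
    rw [mul_smul, mul_smul, hna, ← hn'b, inv_smul_smul]
  have hs2 : (n'⁻¹ * x⁻¹ * n) • b = a := by
    rw [mul_smul, mul_smul, hnb, inv_smul_smul, inv_smul_eq_iff, hn'a]
  refine Finset.sum_congr rfl fun g _ => ?_
  have hc1 : (((MulAut.conj (⟨n, hnN⟩ : ↥(stabilizer G a))).toEquiv g : ↥(stabilizer G a)) : G)
      = n * (g : G) * n⁻¹ := rfl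
  have hc2 : φ' ((MulAut.conj (⟨n, hnN⟩ : ↥(stabilizer G a))).toEquiv g) = φ' g := by
    show φ' (⟨n, hnN⟩ * g * ⟨n, hnN⟩⁻¹) = φ' g
    exact hom_conj_eq φ' _ _
  rw [hc1, hc2]
  have hga : (g : G) • a = a := mem_stabilizer_iff.mp g.2
  by_cases hgb : (g : G) • b = b
  · rw [if_pos hgb]
    have hgE : (g : G) ∈ stabilizer G a ⊓ stabilizer G b :=
      (mem_H_iff a b _).mpr ⟨hga, hgb⟩
    have h3 := hswap _ hs1 hs2 _ hgE
    have h4 : x⁻¹ * (n * (g : G) * n⁻¹) * x = n' * (g : G)⁻¹ * n'⁻¹ := by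
      rw [← h3]
      group
    have hm : n' * (g : G)⁻¹ * n'⁻¹ ∈ stabilizer G a :=
      Subgroup.mul_mem _ (Subgroup.mul_mem _ hn'N (Subgroup.inv_mem _ g.2))
        (Subgroup.inv_mem _ hn'N)
    rw [h4, extendByZero_of_mem _ _ hm]
    have h5 : (⟨n' * (g : G)⁻¹ * n'⁻¹, hm⟩ : ↥(stabilizer G a))
        = (⟨n', hn'N⟩ : ↥(stabilizer G a)) * g⁻¹ * ⟨n', hn'N⟩⁻¹ := Subtype.ext rfl
    show ((φ' g : ℂˣ) : ℂ) * conj ((φ ⟨n' * (g : G)⁻¹ * n'⁻¹, hm⟩ : ℂˣ) : ℂ) = _
    rw [h5, hom_conj_eq, hom_conj, inv_inv]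
  · rw [if_neg hgb]
    have hm : x⁻¹ * (n * (g : G) * n⁻¹) * x ∉ stabilizer G a := by
      intro h
      rw [mem_stabilizer_iff, mul_smul, mul_smul, mul_smul, mul_smul, inv_smul_eq_iff,
        ← hnb, inv_smul_smul] at h
      exact hgb (MulAction.injective n h)
    rw [extendByZero_of_notMem _ _ hm, map_zero, mul_zero]

open scoped Classical in
/-- the sum of a pair of homomorphisms against each other. -/
theorem sum_hom_conj [Fintype ↥(stabilizer G a)] (φ φ' : ↥(stabilizer G a) →* ℂˣ) :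
    ∑ g : ↥(stabilizer G a), ((φ' g : ℂˣ) : ℂ) * conj ((φ g : ℂˣ) : ℂ)
      = if φ' = φ then (Nat.card ↥(stabilizer G a) : ℂ) else 0 := by
  classical
  have h1 : ∀ g : ↥(stabilizer G a), ((φ' g : ℂˣ) : ℂ) * conj ((φ g : ℂˣ) : ℂ)
      = (((φ' * φ⁻¹) g : ℂˣ) : ℂ) := by
    intro g
    rw [hom_conj, MonoidHom.mul_apply, MonoidHom.inv_apply, Units.val_mul, map_inv]
  rw [Finset.sum_congr rfl fun g _ => h1 g]
  by_cases h : φ' = φ
  · rw [if_pos h, h]
    have h3 : φ * φ⁻¹ = 1 := mul_inv_cancel φ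
    rw [h3]
    simp [Nat.card_eq_fintype_card]
  · rw [if_neg h]
    have h3 := sum_hom_units_eq_zero ((Units.coeHom ℂ).comp (φ' * φ⁻¹)) (by
      intro h2
      apply h
      have h4 : φ' * φ⁻¹ = 1 := by
        ext g
        have := DFunLike.congr_fun h2 g
        simpa using this
      exact mul_inv_eq_one.mp h4)
    simpa using h3

open scoped Classical in
/-- the inner product of two characters induced from linear characters. -/
theorem inner_ind_hom [IsSimpleGroup G] (F : FData G Ω a b H) [Fintype ↥(stabilizer G a)]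
    (φ φ' : ↥(stabilizer G a) →* ℂˣ) :
    classInner (indFun (stabilizer G a) (fun g => ((φ' g : ℂˣ) : ℂ)))
        (indFun (stabilizer G a) (fun g => ((φ g : ℂˣ) : ℂ)))
      = (if φ' = φ then 1 else 0) +
        (Nat.card ↥(stabilizer G a ⊓ stabilizer G b : Subgroup G) : ℂ)⁻¹ *
          ∑ g : ↥(stabilizer G a),
            if (g : G) • b = b then ((φ' g : ℂˣ) : ℂ) * ((φ g : ℂˣ) : ℂ) else 0 := by
  classical
  have hN0 : (Nat.card ↥(stabilizer G a) : ℂ) ≠ 0 := Nat.cast_ne_zero.mpr Nat.card_pos.ne'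
  have he0 : (Nat.card ↥(stabilizer G a ⊓ stabilizer G b : Subgroup G) : ℂ) ≠ 0 :=
    Nat.cast_ne_zero.mpr Nat.card_pos.ne'
  have hh0 : (Nat.card H : ℂ) ≠ 0 := Nat.cast_ne_zero.mpr Nat.card_pos.ne'
  rw [Cfsg.Agent.S0146.result _ _ _ (indFun_isClassFunction _ _)]
  unfold Cfsg.classInner
  have h1 : ∀ g : ↥(stabilizer G a), ((φ' g : ℂˣ) : ℂ) *
      conj (Cfsg.indFun (stabilizer G a) (fun g => ((φ g : ℂˣ) : ℂ)) (g : G))
      = (Nat.card ↥(stabilizer G a) : ℂ)⁻¹ * ∑ x : G, ((φ' g : ℂˣ) : ℂ) *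
        conj (Cfsg.extendByZero (stabilizer G a) (fun g => ((φ g : ℂˣ) : ℂ))
          (x⁻¹ * (g : G) * x)) := by
    intro g
    rw [indFun_apply, map_mul, map_inv₀, map_natCast, map_sum, Finset.mul_sum, Finset.mul_sum,
      Finset.mul_sum]
    refine Finset.sum_congr rfl fun x _ => ?_
    ring
  rw [Finset.sum_congr rfl fun g _ => h1 g, ← Finset.mul_sum, Finset.sum_comm]
  set B := ∑ g : ↥(stabilizer G a),
      if (g : G) • b = b then ((φ' g : ℂˣ) : ℂ) * ((φ g : ℂˣ) : ℂ) else 0 with hB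
  have h2 : ∀ x : G, ∑ g : ↥(stabilizer G a), ((φ' g : ℂˣ) : ℂ) *
        conj (Cfsg.extendByZero (stabilizer G a) (fun g => ((φ g : ℂˣ) : ℂ))
          (x⁻¹ * (g : G) * x))
      = if x ∈ stabilizer G a then
          (if φ' = φ then (Nat.card ↥(stabilizer G a) : ℂ) else 0) else B := by
    intro x
    by_cases hx : x ∈ stabilizer G a
    · rw [if_pos hx, twist_sum_mem φ φ' hx, sum_hom_conj]
    · rw [if_neg hx, twist_sum_notMem F φ φ' hx]
  rw [Finset.sum_congr rfl fun x _ => h2 x, Finset.sum_ite, Finset.sum_const, Finset.sum_const,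
    nsmul_eq_mul, nsmul_eq_mul]
  have hc1 : ((Finset.univ.filter (fun x : G => x ∈ stabilizer G a)).card : ℂ)
      = (Nat.card ↥(stabilizer G a) : ℂ) := by
    rw [Nat.card_eq_fintype_card, Fintype.card_subtype]
  have hc2 : ((Finset.univ.filter (fun x : G => ¬ x ∈ stabilizer G a)).card : ℂ)
      = (Nat.card ↥(stabilizer G a) : ℂ) * (Nat.card H : ℂ) := by
    have h3 : (Finset.univ.filter (fun x : G => ¬ x ∈ stabilizer G a)).card
        + (Finset.univ.filter (fun x : G => x ∈ stabilizer G a)).card = Fintype.card G := by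
      rw [add_comm, Finset.card_filter_add_card_filter_not, Finset.card_univ]
    have h4 : (Finset.univ.filter (fun x : G => x ∈ stabilizer G a)).card
        = Nat.card ↥(stabilizer G a) := by
      rw [Nat.card_eq_fintype_card, Fintype.card_subtype]
    have h5 := F.card_G
    rw [Nat.card_eq_fintype_card] at h5
    have h6 := F.card_N
    have h7 : (Finset.univ.filter (fun x : G => ¬ x ∈ stabilizer G a)).card
        = Nat.card ↥(stabilizer G a) * Nat.card H := by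
      rw [h6]
      rw [h4, h6, h5] at h3
      nlinarith
    rw [h7]
    push_cast
    ring
  rw [hc1, hc2, F.card_N]
  push_cast
  by_cases h : φ' = φ
  · rw [if_pos h, if_pos h]
    field_simp
  · rw [if_neg h, if_neg h]
    field_simp
    ring

end

end FZ

end Cfsg.Agent.Lib.Helper2
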