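import Mathlib
import Cfsg.Agent.Lib.Helper2.FZ19

set_option autoImplicit false

/-! Feit's Zassenhaus groups: the characters induced from linear characters of the point
stabilizer trivial on `H`. -/

namespace Cfsg.Agent.Lib.Helper2

namespace FZ

open MulAction Cfsg Cfsg.Agent.Lib.Lead.Zass Cfsg.Agent.Lib.Helper1 Cfsg.Agent.Lib.Helper4
open scoped ComplexConjugate

section
variable {G Ω : Type*} [Group G] [Fintype G] [MulAction G Ω] [Fintype Ω] {a b : Ω}
  {H : Subgroup G}

open scoped Classical in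
/-- the sum over the two-point stabilizer of a homomorphism nontrivial on it vanishes. -/
theorem esum_zero [Fintype ↥(stabilizer G a)] (ψ : ↥(stabilizer G a) →* ℂˣ)
    {k₀ : ↥(stabilizer G a)} (hk₀b : (k₀ : G) • b = b) (hk₀ : ψ k₀ ≠ 1) :
    ∑ g : ↥(stabilizer G a), (if (g : G) • b = b then ((ψ g : ℂˣ) : ℂ) else 0) = 0 := by
  apply sum_eq_zero_of_mul _ k₀ ((ψ k₀ : ℂˣ) : ℂ)
  · intro h
    apply hk₀
    exact Units.ext (by rw [h, Units.val_one])
  · intro g
    have hiff : ((k₀ * g : ↥(stabilizer G a)) : G) • b = b ↔ (g : G) • b = b := by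
      rw [Subgroup.coe_mul, mul_smul]
      constructor
      · intro h
        have h' : (k₀ : G) • ((g : G) • b) = (k₀ : G) • b := h.trans hk₀b.symm
        exact MulAction.injective (k₀ : G) h'
      · intro h
        rw [h, hk₀b]
    by_cases hgb : (g : G) • b = b
    · rw [if_pos hgb, if_pos (hiff.mpr hgb), map_mul, Units.val_mul]
    · rw [if_neg hgb, if_neg (fun h => hgb (hiff.mp h)), mul_zero]

open scoped Classical in
/-- the number of elements of the point stabilizer fixing `b`. -/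
theorem esum_one (F : FData G Ω a b H) [Fintype ↥(stabilizer G a)] :
    ∑ g : ↥(stabilizer G a), (if (g : G) • b = b then (1 : ℂ) else 0)
      = (Nat.card ↥(stabilizer G a ⊓ stabilizer G b : Subgroup G) : ℂ) := by
  rw [Finset.sum_boole, ← F.card_Ecomp, Nat.card_eq_fintype_card, Fintype.card_subtype]
  have : Finset.univ.filter (fun g : ↥(stabilizer G a) => (g : G) • b = b)
      = Finset.univ.filter (fun g : ↥(stabilizer G a) => g ∈ Ecomp G a b) := by
    ext g
    simp [mem_Ecomp]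
  rw [this]

/-- a homomorphism trivial on `H` and on the complement is trivial. -/
theorem FData.hom_eq_one (F : FData G Ω a b H) (ψ : ↥(stabilizer G a) →* ℂˣ)
    (hL : ∀ x : ↥(stabilizer G a), (x : G) ∈ H → ψ x = 1)
    (hE : ∀ x : ↥(stabilizer G a), (x : G) • b = b → ψ x = 1) : ψ = 1 := by
  ext g
  obtain ⟨u, hu, k, hka, hkb, hg⟩ := N_eq_HE F.hab H F.hHa F.hHcard F.hHfix
    (mem_stabilizer_iff.mp g.2)
  have hg' : g = (⟨u, F.hHa hu⟩ : ↥(stabilizer G a)) * ⟨k, mem_stabilizer_iff.mpr hka⟩ :=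
    Subtype.ext hg
  rw [hg', map_mul, hL _ hu, hE _ hkb, one_mul, MonoidHom.one_apply]

/-- the order of an element of the point stabilizer fixing `b` is odd. -/
theorem FData.odd_order (F : FData G Ω a b H) {k : ↥(stabilizer G a)} (hk : (k : G) • b = b) :
    Odd (orderOf k) := by
  rw [← Subgroup.orderOf_coe]
  exact odd_order_of_two_fixed F.Z F.hab F.hodd F.hab (mem_stabilizer_iff.mp k.2) hk

theorem sq_ne_one_of_odd {A : Type*} [Group A] {x : A} {n : ℕ} (hn : Odd n) (hx : x ^ n = 1)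
    (hx1 : x ≠ 1) : x * x ≠ 1 := by
  intro h
  apply hx1
  obtain ⟨m, hm⟩ := hn
  have h2 : x ^ 2 = 1 := by rw [pow_two, h]
  rw [hm, pow_succ, pow_mul, h2, one_pow, one_mul] at hx
  exact hx

/-- a character induced from a nontrivial linear character trivial on `H` is irreducible. -/
theorem FData.ind_irr [IsSimpleGroup G] (F : FData G Ω a b H) (φ : ↥(stabilizer G a) →* ℂˣ)
    (hL : ∀ x : ↥(stabilizer G a), (x : G) ∈ H → φ x = 1) (hφ : φ ≠ 1) :
    IsIrrCharacter G (indFun (stabilizer G a) (fun g => ((φ g : ℂˣ) : ℂ))) := by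
  classical
  haveI : Fintype ↥(stabilizer G a) := Fintype.ofFinite _
  have hchar : IsCharacter G (indFun (stabilizer G a) (fun g => ((φ g : ℂˣ) : ℂ))) :=
    Cfsg.Agent.S0148.result _ _ (isCharacter_of_irr (isIrrCharacter_of_hom φ))
  apply isIrrCharacter_of_norm_one hchar
  rw [inner_ind_hom F φ φ, if_pos rfl]
  obtain ⟨k₀, hk₀b, hk₀⟩ : ∃ k₀ : ↥(stabilizer G a), (k₀ : G) • b = b ∧ φ k₀ ≠ 1 := by
    by_contra hcon
    push Not at hcon
    exact hφ (F.hom_eq_one φ hL hcon)
  have hk₀2 : (φ * φ) k₀ ≠ 1 := by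
    rw [MonoidHom.mul_apply]
    apply sq_ne_one_of_odd (F.odd_order hk₀b) _ hk₀
    rw [← map_pow, pow_orderOf_eq_one, map_one]
  have h0 := esum_zero (b := b) (φ * φ) hk₀b hk₀2
  have h1 : ∀ g : ↥(stabilizer G a),
      (if (g : G) • b = b then ((φ g : ℂˣ) : ℂ) * ((φ g : ℂˣ) : ℂ) else 0)
      = (if (g : G) • b = b then (((φ * φ) g : ℂˣ) : ℂ) else 0) := by
    intro g
    rw [MonoidHom.mul_apply, Units.val_mul]
  rw [Finset.sum_congr rfl fun g _ => h1 g, h0, mul_zero, add_zero]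

/-- characters induced from linear characters trivial on `H` that are neither equal nor
inverse are different. -/
theorem FData.ind_ne [IsSimpleGroup G] (F : FData G Ω a b H)
    (φ φ' : ↥(stabilizer G a) →* ℂˣ)
    (hL : ∀ x : ↥(stabilizer G a), (x : G) ∈ H → φ x = 1)
    (hL' : ∀ x : ↥(stabilizer G a), (x : G) ∈ H → φ' x = 1) (hφ : φ ≠ 1)
    (h1 : φ' ≠ φ) (h2 : φ' ≠ φ⁻¹) :
    indFun (stabilizer G a) (fun g => ((φ' g : ℂˣ) : ℂ))
      ≠ indFun (stabilizer G a) (fun g => ((φ g : ℂˣ) : ℂ)) := by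
  classical
  haveI : Fintype ↥(stabilizer G a) := Fintype.ofFinite _
  intro heq
  have hirr := F.ind_irr φ hL hφ
  have hnorm := classInner_irr_self hirr
  have hin := inner_ind_hom F φ φ'
  rw [heq, hnorm, if_neg h1, zero_add] at hin
  obtain ⟨k₀, hk₀b, hk₀⟩ : ∃ k₀ : ↥(stabilizer G a), (k₀ : G) • b = b ∧ (φ' * φ) k₀ ≠ 1 := by
    by_contra hcon
    push Not at hcon
    apply h2
    have h3 : φ' * φ = 1 := by
      apply F.hom_eq_one (φ' * φ) _ hcon
      intro x hx
      rw [MonoidHom.mul_apply, hL x hx, hL' x hx, one_mul]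
    ext g
    have h5 := DFunLike.congr_fun h3 g
    rw [MonoidHom.mul_apply, MonoidHom.one_apply] at h5
    rw [MonoidHom.inv_apply, eq_inv_of_mul_eq_one_left h5]
  have h0 := esum_zero (b := b) (φ' * φ) hk₀b hk₀
  have h4 : ∀ g : ↥(stabilizer G a),
      (if (g : G) • b = b then ((φ' g : ℂˣ) : ℂ) * ((φ g : ℂˣ) : ℂ) else 0)
      = (if (g : G) • b = b then (((φ' * φ) g : ℂˣ) : ℂ) else 0) := by
    intro g
    rw [MonoidHom.mul_apply, Units.val_mul]
  rw [Finset.sum_congr rfl fun g _ => h4 g, h0, mul_zero] at hin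
  exact one_ne_zero hin

/-- the value at a nonidentity element of `H` of a character induced from a linear character
trivial on `H`. -/
theorem FData.ind_apply_H (F : FData G Ω a b H) (φ : ↥(stabilizer G a) →* ℂˣ)
    (hL : ∀ x : ↥(stabilizer G a), (x : G) ∈ H → φ x = 1) {u : G} (hu : u ∈ H) (hu1 : u ≠ 1) :
    indFun (stabilizer G a) (fun g => ((φ g : ℂˣ) : ℂ)) u = 1 := by
  classical
  haveI : Fintype ↥(stabilizer G a) := Fintype.ofFinite _
  have hN0 : (Nat.card ↥(stabilizer G a) : ℂ) ≠ 0 := Nat.cast_ne_zero.mpr Nat.card_pos.ne'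
  have hcardN : ((Finset.univ.filter (fun x : G => x ∈ stabilizer G a)).card : ℂ)
      = (Nat.card ↥(stabilizer G a) : ℂ) := by
    rw [Nat.card_eq_fintype_card, Fintype.card_subtype]
  rw [indFun_apply]
  have h1 : ∀ x : G, Cfsg.extendByZero (stabilizer G a) (fun g => ((φ g : ℂˣ) : ℂ))
      (x⁻¹ * u * x) = if x ∈ stabilizer G a then 1 else 0 := by
    intro x
    by_cases hx : x ∈ stabilizer G a
    · rw [if_pos hx]
      have hm := H_conj_mem' F.hZ a H F.hHa F.hHcard F.hHfix (mem_stabilizer_iff.mp hx) hu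
      rw [extendByZero_of_mem _ _ (F.hHa hm)]
      show ((φ ⟨x⁻¹ * u * x, F.hHa hm⟩ : ℂˣ) : ℂ) = 1
      rw [hL _ hm, Units.val_one]
    · rw [if_neg hx]
      apply extendByZero_of_notMem
      intro hm
      apply hx
      rw [mem_stabilizer_iff, mul_smul, mul_smul, inv_smul_eq_iff] at hm
      exact mem_stabilizer_iff.mpr (F.hHfix u hu hu1 _ hm)
  rw [Finset.sum_congr rfl fun x _ => h1 x, Finset.sum_boole, hcardN, inv_mul_cancel₀ hN0]

/-- the degree of a character induced from a linear character. -/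
theorem FData.ind_apply_one (F : FData G Ω a b H) (φ : ↥(stabilizer G a) →* ℂˣ) :
    indFun (stabilizer G a) (fun g => ((φ g : ℂˣ) : ℂ)) 1 = (Nat.card H : ℂ) + 1 := by
  have hN0 : (Nat.card ↥(stabilizer G a) : ℂ) ≠ 0 := Nat.cast_ne_zero.mpr Nat.card_pos.ne'
  rw [Cfsg.Agent.S0170.indFun_one, map_one, Units.val_one, mul_one, F.card_G, F.card_N]
  have hh0 : (Nat.card H : ℂ) ≠ 0 := Nat.cast_ne_zero.mpr Nat.card_pos.ne'
  have he0 : (Nat.card ↥(stabilizer G a ⊓ stabilizer G b : Subgroup G) : ℂ) ≠ 0 :=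
    Nat.cast_ne_zero.mpr Nat.card_pos.ne'
  push_cast
  field_simp

end

end FZ

end Cfsg.Agent.Lib.Helper2
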