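import Mathlib
import Cfsg.Agent.Lib.Helper2.FZ20

set_option autoImplicit false

/-! Feit's Zassenhaus groups: the permutation character. -/

namespace Cfsg.Agent.Lib.Helper2

namespace FZ

open MulAction Cfsg Cfsg.Agent.Lib.Lead.Zass Cfsg.Agent.Lib.Helper1 Cfsg.Agent.Lib.Helper4
open scoped ComplexConjugate

section
variable {G Ω : Type*} [Group G] [Fintype G] [MulAction G Ω] [Fintype Ω] {a b : Ω}
  {H : Subgroup G}

/-- the permutation character. -/
noncomputable def piChar (G : Type*) [Group G] [Fintype G] {Ω : Type*} [MulAction G Ω] (a : Ω) :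
    G → ℂ :=
  indFun (stabilizer G a) (fun _ => 1)

/-- the nontrivial constituent of the permutation character. -/
noncomputable def thetaChar (G : Type*) [Group G] [Fintype G] {Ω : Type*} [MulAction G Ω]
    (a : Ω) : G → ℂ :=
  piChar G a - fun _ => 1

theorem piChar_eq (a : Ω) :
    piChar G a = indFun (stabilizer G a)
      (fun g => (((1 : ↥(stabilizer G a) →* ℂˣ) g : ℂˣ) : ℂ)) := by
  unfold piChar
  congr 1

theorem piChar_isCharacter (a : Ω) : IsCharacter G (piChar G a) :=
  Cfsg.Agent.S0148.result _ _ (isCharacter_of_irr (one_irr' _))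

theorem FData.inner_pi_pi [IsSimpleGroup G] (F : FData G Ω a b H) :
    classInner (piChar G a) (piChar G a) = 2 := by
  classical
  haveI : Fintype ↥(stabilizer G a) := Fintype.ofFinite _
  have he0 : (Nat.card ↥(stabilizer G a ⊓ stabilizer G b : Subgroup G) : ℂ) ≠ 0 :=
    Nat.cast_ne_zero.mpr Nat.card_pos.ne'
  rw [piChar_eq, inner_ind_hom F 1 1, if_pos rfl]
  have h1 : ∀ g : ↥(stabilizer G a),
      (if (g : G) • b = b then
        (((1 : ↥(stabilizer G a) →* ℂˣ) g : ℂˣ) : ℂ) *
          (((1 : ↥(stabilizer G a) →* ℂˣ) g : ℂˣ) : ℂ) else 0)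
      = (if (g : G) • b = b then (1 : ℂ) else 0) := by
    intro g
    simp
  rw [Finset.sum_congr rfl fun g _ => h1 g, esum_one F, inv_mul_cancel₀ he0]
  norm_num

theorem inner_pi_one (a : Ω) : classInner (piChar G a) (fun _ : G => (1 : ℂ)) = 1 := by
  classical
  haveI : Fintype ↥(stabilizer G a) := Fintype.ofFinite _
  unfold piChar
  rw [Cfsg.Agent.S0146.result _ _ _ (isClassFunction_irr (one_irr' G))]
  exact classInner_irr_self (one_irr' _)

theorem FData.piChar_apply_H (F : FData G Ω a b H) {u : G} (hu : u ∈ H) (hu1 : u ≠ 1) :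
    piChar G a u = 1 := by
  rw [piChar_eq]
  exact F.ind_apply_H 1 (fun _ _ => rfl) hu hu1

theorem FData.piChar_apply_one (F : FData G Ω a b H) : piChar G a 1 = (Nat.card H : ℂ) + 1 := by
  rw [piChar_eq]
  exact F.ind_apply_one 1

theorem FData.thetaChar_apply_H (F : FData G Ω a b H) {u : G} (hu : u ∈ H) (hu1 : u ≠ 1) :
    thetaChar G a u = 0 := by
  unfold thetaChar
  rw [Pi.sub_apply, F.piChar_apply_H hu hu1, sub_self]

theorem FData.thetaChar_apply_one (F : FData G Ω a b H) :
    thetaChar G a 1 = (Nat.card H : ℂ) := by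
  unfold thetaChar
  rw [Pi.sub_apply, F.piChar_apply_one, add_sub_cancel_right]

theorem FData.thetaChar_irr [IsSimpleGroup G] (F : FData G Ω a b H) :
    IsIrrCharacter G (thetaChar G a) := by
  have hg : IsGeneralizedCharacter G (thetaChar G a) :=
    isGenChar_sub (isGenChar_of_isCharacter (piChar_isCharacter a))
      (isGenChar_of_irr (one_irr' G))
  have hnorm : classInner (thetaChar G a) (thetaChar G a) = 1 := by
    unfold thetaChar
    rw [classInner_sub_left, classInner_sub_right, classInner_sub_right, F.inner_pi_pi,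
      inner_pi_one, classInner_irr_self (one_irr' G)]
    have h1 : classInner (fun _ : G => (1 : ℂ)) (piChar G a) = 1 := by
      rw [← classInner_conj_symm, inner_pi_one, map_one]
    rw [h1]
    norm_num
  obtain ⟨ψ, hψ, h | h⟩ := genChar_norm_one hg hnorm
  · rw [h]; exact hψ
  · exfalso
    have h1 := F.thetaChar_apply_one
    rw [h, Pi.neg_apply] at h1
    obtain ⟨d, hdpos, hd⟩ := irr_apply_one_pos hψ
    rw [hd] at h1
    have h2 : ((d : ℂ) + (Nat.card H : ℂ)) = 0 := by rw [← h1]; ring
    have h3 : ((d + Nat.card H : ℕ) : ℂ) = 0 := by push_cast; exact h2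
    rw [Nat.cast_eq_zero] at h3
    omega

theorem piChar_eq_add (a : Ω) : piChar G a = (fun _ : G => (1 : ℂ)) + thetaChar G a := by
  unfold thetaChar
  funext g
  simp

end

end FZ

end Cfsg.Agent.Lib.Helper2
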