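import Mathlib
import Cfsg.Agent.Lib.Helper1.ConjCount
import Cfsg.Agent.Lib.Helper2.FZ9

set_option autoImplicit false

/-! Counting pairs of involutions with given product; sums of centralizer orders. -/

namespace Cfsg.Agent.Lib.Helper2

namespace FZ

section
variable {G : Type*} [Group G] [Fintype G] [DecidableEq G]

/-- the order of the centralizer of an element, as a finset cardinality. -/
def cz (g : G) : ℕ := (Finset.univ.filter (fun x : G => x * g = g * x)).card

theorem cz_eq (g : G) : cz g = Nat.card ↥(Subgroup.centralizer ({g} : Set G)) :=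
  (Nat.subtype_card (Finset.univ.filter (fun x : G => x * g = g * x)) (fun x => by
    simp [Subgroup.mem_centralizer_singleton_iff])).symm

omit [DecidableEq G] in
theorem card_class_pos (t : G) : 0 < Nat.card {v : G // IsConj t v} :=
  Nat.card_pos_iff.mpr ⟨⟨⟨t, IsConj.refl t⟩⟩, inferInstance⟩

theorem cz_of_isConj {t t' : G} (h : IsConj t t') : cz t = cz t' := by
  have h1 := Cfsg.Agent.Lib.Helper1.card_isConj_mul_card_centralizer t
  have h2 := Cfsg.Agent.Lib.Helper1.card_isConj_mul_card_centralizer t'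
  have h3 : Nat.card {v : G // IsConj t v} = Nat.card {v : G // IsConj t' v} :=
    Nat.card_congr (Equiv.subtypeEquivRight (fun v => ⟨fun hv => h.symm.trans hv,
      fun hv => h.trans hv⟩))
  rw [← cz_eq] at h1 h2
  rw [h3, ← h2] at h1
  exact Nat.eq_of_mul_eq_mul_left (card_class_pos t') h1

theorem sum_cz_class [DecidablePred (fun v : G => IsConj (1 : G) v)]
    [∀ t : G, DecidablePred (fun v : G => IsConj t v)] (t : G) :
    ∑ g ∈ Finset.univ.filter (fun v : G => IsConj t v), cz g = Fintype.card G := by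
  have h1 : ∀ g ∈ Finset.univ.filter (fun v : G => IsConj t v), cz g = cz t := by
    intro g hg
    rw [Finset.mem_filter] at hg
    exact (cz_of_isConj hg.2).symm
  rw [Finset.sum_congr rfl h1, Finset.sum_const, smul_eq_mul]
  have h2 := Cfsg.Agent.Lib.Helper1.card_isConj_mul_card_centralizer t
  rw [← cz_eq, Nat.card_eq_fintype_card, Nat.card_eq_fintype_card, Fintype.card_subtype] at h2
  exact h2

/-- sum of centralizer orders over a conjugation-closed set. -/
theorem sum_cz [DecidableEq (ConjClasses G)] (S : Finset G)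
    (hS : ∀ g ∈ S, ∀ y : G, y * g * y⁻¹ ∈ S) :
    ∑ g ∈ S, cz g = (S.image ConjClasses.mk).card * Fintype.card G := by
  classical
  rw [← Finset.sum_fiberwise_of_maps_to (g := ConjClasses.mk) (t := S.image ConjClasses.mk)
    (fun x hx => Finset.mem_image_of_mem _ hx)]
  have h1 : ∀ K ∈ S.image ConjClasses.mk,
      ∑ x ∈ S.filter (fun x => ConjClasses.mk x = K), cz x = Fintype.card G := by
    intro K hK
    obtain ⟨g₀, hg₀, rfl⟩ := Finset.mem_image.mp hK
    have h2 : S.filter (fun x => ConjClasses.mk x = ConjClasses.mk g₀)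
        = Finset.univ.filter (fun v : G => IsConj g₀ v) := by
      ext x
      simp only [Finset.mem_filter, Finset.mem_univ, true_and]
      constructor
      · rintro ⟨-, hx⟩
        exact (ConjClasses.mk_eq_mk_iff_isConj.mp hx).symm
      · intro hx
        obtain ⟨y, hy⟩ := isConj_iff.mp hx
        refine ⟨?_, (ConjClasses.mk_eq_mk_iff_isConj.mpr hx).symm⟩
        rw [← hy]
        exact hS g₀ hg₀ y
    rw [h2]
    convert sum_cz_class g₀
  rw [Finset.sum_congr rfl h1, Finset.sum_const, smul_eq_mul]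

/-- the involutions. -/
noncomputable def invs (G : Type*) [Group G] [Fintype G] [DecidableEq G] : Finset G :=
  Finset.univ.filter (fun x : G => orderOf x = 2)

omit [DecidableEq G] in
theorem mem_invs [DecidableEq G] {x : G} : x ∈ invs G ↔ orderOf x = 2 := by
  simp [invs]

/-- pairs of involutions with product in a given set. -/
noncomputable def ipairs (T : Finset G) : Finset (G × G) :=
  (invs G ×ˢ invs G).filter (fun p => p.1 * p.2 ∈ T)

theorem mem_ipairs {T : Finset G} {p : G × G} :
    p ∈ ipairs T ↔ orderOf p.1 = 2 ∧ orderOf p.2 = 2 ∧ p.1 * p.2 ∈ T := by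
  simp [ipairs, mem_invs, and_assoc]

/-- a product of two involutions is inverted by the first factor. -/
theorem invol_inverts {x y : G} (hx : orderOf x = 2) (hy : orderOf y = 2) :
    x * (x * y) * x⁻¹ = (x * y)⁻¹ := by
  rw [mul_inv_rev, invol_inv hx, invol_inv hy, ← mul_assoc, invol_sq hx, one_mul]

theorem invol_inverts' {x y : G} (hx : orderOf x = 2) (hy : orderOf y = 2) :
    y * (x * y) * y⁻¹ = (x * y)⁻¹ := by
  rw [mul_inv_rev, invol_inv hx, invol_inv hy, mul_assoc, mul_assoc, invol_sq hy, mul_one]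

/-- the number of ways of writing `g` as a product of two involutions is at most the order of
the centralizer of `g`. -/
theorem card_ipairs_le_cz (g : G) : (ipairs ({g} : Finset G)).card ≤ cz g := by
  by_cases hne : (ipairs ({g} : Finset G)).Nonempty
  · obtain ⟨p₀, hp₀⟩ := hne
    rw [mem_ipairs, Finset.mem_singleton] at hp₀
    obtain ⟨hx₀, hy₀, hg₀⟩ := hp₀
    unfold cz
    apply Finset.card_le_card_of_injOn (fun p => p₀.1⁻¹ * p.1)
    · intro p hp
      have hp' := mem_ipairs.mp hp
      rw [Finset.mem_singleton] at hp'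
      obtain ⟨hx, hy, hg⟩ := hp'
      simp only [Finset.coe_filter, Finset.mem_univ, true_and, Set.mem_ofPred_eq]
      have h1 : p.1 * g * p.1⁻¹ = g⁻¹ := by rw [← hg]; exact invol_inverts hx hy
      have h2 : p₀.1 * g * p₀.1⁻¹ = g⁻¹ := by rw [← hg₀]; exact invol_inverts hx₀ hy₀
      have h3 : p.1 * g = g⁻¹ * p.1 := by rw [← h1]; group
      have h4 : p₀.1⁻¹ * g⁻¹ = g * p₀.1⁻¹ := by
        have : g⁻¹ = p₀.1 * g * p₀.1⁻¹ := h2.symm
        rw [this]; group
      calc p₀.1⁻¹ * p.1 * g = p₀.1⁻¹ * (p.1 * g) := by group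
        _ = p₀.1⁻¹ * g⁻¹ * p.1 := by rw [h3]; group
        _ = g * (p₀.1⁻¹ * p.1) := by rw [h4]; group
    · intro p hp q hq hpq
      have hp' := mem_ipairs.mp hp
      have hq' := mem_ipairs.mp hq
      rw [Finset.mem_singleton] at hp' hq'
      have h1 : p.1 = q.1 := mul_left_cancel hpq
      have h2 : p.2 = q.2 := by
        have : p.1 * p.2 = q.1 * q.2 := hp'.2.2.trans hq'.2.2.symm
        rw [h1] at this
        exact mul_left_cancel this
      exact Prod.ext h1 h2
  · rw [Finset.not_nonempty_iff_eq_empty] at hne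
    rw [hne, Finset.card_empty]
    exact Nat.zero_le _

/-- counting pairs by their product. -/
theorem card_ipairs_eq_sum (T : Finset G) :
    (ipairs T).card = ∑ g ∈ T, (ipairs ({g} : Finset G)).card := by
  have hmaps : ∀ p ∈ ipairs T, p.1 * p.2 ∈ T := fun p hp => (mem_ipairs.mp hp).2.2
  rw [Finset.card_eq_sum_card_fiberwise hmaps]
  refine Finset.sum_congr rfl fun g hg => ?_
  congr 1
  ext p
  simp only [Finset.mem_filter, mem_ipairs, Finset.mem_singleton]
  constructor
  · rintro ⟨⟨h1, h2, -⟩, h3⟩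
    exact ⟨h1, h2, h3⟩
  · rintro ⟨h1, h2, h3⟩
    exact ⟨⟨h1, h2, h3 ▸ hg⟩, h3⟩

theorem card_ipairs_le (T : Finset G) : (ipairs T).card ≤ ∑ g ∈ T, cz g := by
  rw [card_ipairs_eq_sum]
  exact Finset.sum_le_sum fun g _ => card_ipairs_le_cz g

/-- pairs of involutions with product `1`. -/
theorem card_ipairs_one : (ipairs ({1} : Finset G)).card = (invs G).card := by
  symm
  apply Finset.card_bij (fun x _ => (x, x))
  · intro x hx
    rw [mem_invs] at hx
    rw [mem_ipairs, Finset.mem_singleton]
    exact ⟨hx, hx, invol_sq hx⟩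
  · intro x _ y _ h
    exact (Prod.ext_iff.mp h).1
  · intro p hp
    rw [mem_ipairs, Finset.mem_singleton] at hp
    refine ⟨p.1, mem_invs.mpr hp.1, ?_⟩
    have : p.2 = p.1 := by
      have h1 : p.1⁻¹ = p.2 := inv_eq_of_mul_eq_one_right hp.2.2
      rw [← h1, invol_inv hp.1]
    exact Prod.ext rfl this.symm

/-- decomposition of all pairs. -/
theorem card_pairs_split (A S : Finset G) (h1A : (1 : G) ∉ A) (h1S : (1 : G) ∉ S)
    (hAS : Disjoint A S) (hcov : ∀ g : G, g = 1 ∨ g ∈ A ∨ g ∈ S) :
    (invs G).card * (invs G).card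
      = (invs G).card + (ipairs A).card + (ipairs S).card := by
  rw [← Finset.card_product]
  have hunion : invs G ×ˢ invs G = (ipairs ({1} : Finset G) ∪ ipairs A) ∪ ipairs S := by
    ext p
    simp only [Finset.mem_union, mem_ipairs, Finset.mem_product, mem_invs, Finset.mem_singleton]
    constructor
    · rintro ⟨h1, h2⟩
      rcases hcov (p.1 * p.2) with h | h | h
      · exact Or.inl (Or.inl ⟨h1, h2, h⟩)
      · exact Or.inl (Or.inr ⟨h1, h2, h⟩)
      · exact Or.inr ⟨h1, h2, h⟩
    · rintro ((⟨h1, h2, -⟩ | ⟨h1, h2, -⟩) | ⟨h1, h2, -⟩) <;> exact ⟨h1, h2⟩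
  rw [hunion, Finset.card_union_of_disjoint, Finset.card_union_of_disjoint, card_ipairs_one]
  · rw [Finset.disjoint_left]
    intro p hp hp'
    rw [mem_ipairs, Finset.mem_singleton] at hp
    rw [mem_ipairs] at hp'
    rw [hp.2.2] at hp'
    exact h1A hp'.2.2
  · rw [Finset.disjoint_left]
    intro p hp hp'
    rw [Finset.mem_union, mem_ipairs, mem_ipairs, Finset.mem_singleton] at hp
    rw [mem_ipairs] at hp'
    rcases hp with hp | hp
    · rw [hp.2.2] at hp'
      exact h1S hp'.2.2
    · exact (Finset.disjoint_left.mp hAS) hp.2.2 hp'.2.2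

end

end FZ

end Cfsg.Agent.Lib.Helper2
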