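import Mathlib
import Cfsg.Agent.Lib.Helper2.FZ13
import Cfsg.Agent.Lib.Helper2.FZ14

set_option autoImplicit false

/-! Feit's Zassenhaus groups: pairs of involutions whose product has exactly one fixed point. -/

namespace Cfsg.Agent.Lib.Helper2

namespace FZ

open MulAction Cfsg.Agent.Lib.Lead.Zass

section
variable {G Ω : Type*} [Group G] [Fintype G] [DecidableEq G] [MulAction G Ω] [Fintype Ω]
  [DecidableEq Ω]

theorem fixN_eq_one_iff {g : G} :
    fixN (Ω := Ω) g = 1 ↔ ∃ c : Ω, g • c = c ∧ ∀ d : Ω, g • d = d → d = c := by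
  unfold fixN
  rw [Finset.card_eq_one]
  constructor
  · rintro ⟨c, hc⟩
    refine ⟨c, ?_, ?_⟩
    · have : c ∈ Finset.univ.filter (fun x : Ω => g • x = x) := by
        rw [hc]; exact Finset.mem_singleton_self c
      exact (Finset.mem_filter.mp this).2
    · intro d hd
      have : d ∈ Finset.univ.filter (fun x : Ω => g • x = x) :=
        Finset.mem_filter.mpr ⟨Finset.mem_univ _, hd⟩
      rw [hc] at this
      exact Finset.mem_singleton.mp this
  · rintro ⟨c, hc, huniq⟩
    refine ⟨c, ?_⟩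
    ext d
    simp only [Finset.mem_filter, Finset.mem_univ, true_and, Finset.mem_singleton]
    constructor
    · exact huniq d
    · rintro rfl
      exact hc

/-- the nonidentity elements not having exactly one fixed point. -/
def Sset (G : Type*) [Group G] [Fintype G] [DecidableEq G] (Ω : Type*) [MulAction G Ω]
    [Fintype Ω] [DecidableEq Ω] : Finset G :=
  Finset.univ.filter (fun g : G => g ≠ 1 ∧ fixN (Ω := Ω) g ≠ 1)

theorem mem_Sset {g : G} : g ∈ Sset G Ω ↔ g ≠ 1 ∧ fixN (Ω := Ω) g ≠ 1 := by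
  simp [Sset]

theorem Sset_conj {g : G} (hg : g ∈ Sset G Ω) (y : G) : y * g * y⁻¹ ∈ Sset G Ω := by
  rw [mem_Sset] at hg ⊢
  refine ⟨?_, ?_⟩
  · intro h
    apply hg.1
    have : g = y⁻¹ * (y * g * y⁻¹) * y := by group
    rw [this, h]; group
  · rw [fixN_conj]; exact hg.2

/-- both factors fix the unique fixed point of a product of two involutions. -/
theorem pair_fix {x y : G} (hx : orderOf x = 2) (hy : orderOf y = 2) {c : Ω}
    (hc : (x * y) • c = c) (huniq : ∀ d : Ω, (x * y) • d = d → d = c) :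
    x • c = c ∧ y • c = c := by
  have h1 := invol_inverts hx hy
  have h2 := invol_inverts' hx hy
  have key : ∀ z : G, z * (x * y) * z⁻¹ = (x * y)⁻¹ → z • c = c := by
    intro z hz
    apply huniq
    have h3 : (x * y)⁻¹ • (z • c) = z • c := by
      rw [← hz, mul_smul, mul_smul, inv_smul_smul, hc]
    rw [inv_smul_eq_iff] at h3
    exact h3.symm
  exact ⟨key x h1, key y h2⟩

/-- no product of two involutions has exactly one fixed point when `h` is odd. -/
theorem ipairs_A1_odd (Z : ZData G Ω) {a b : Ω} (hab : a ≠ b)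
    (hodd : Odd (Nat.card ↥(stabilizer G a ⊓ stabilizer G b : Subgroup G)))
    (hh : Odd (Fintype.card Ω - 1)) : (ipairs (Ak G Ω 1)).card = 0 := by
  rw [Finset.card_eq_zero, Finset.eq_empty_iff_forall_notMem]
  intro p hp
  rw [mem_ipairs, mem_Ak] at hp
  obtain ⟨hx, hy, -, hfix⟩ := hp
  obtain ⟨c, hc, huniq⟩ := fixN_eq_one_iff.mp hfix
  exact invol_fpf_odd Z hab hodd hh hx c (pair_fix hx hy hc huniq).1

/-- involutions with a common fixed point commute. -/
theorem invol_fix_comm (hZ : Cfsg.IsZassenhausGroup G Ω) {a b : Ω} (hab : a ≠ b)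
    (hodd : Odd (Nat.card ↥(stabilizer G a ⊓ stabilizer G b : Subgroup G)))
    {x y : G} (hx : orderOf x = 2) (hy : orderOf y = 2) {c : Ω} (hxc : x • c = c)
    (hyc : y • c = c) : x * y = y * x := by
  have Z := zdata_of hZ
  obtain ⟨H, hHa, hHcard, hHfix⟩ := exists_H hZ hab
  obtain ⟨g, hg⟩ := exists_smul_eq Z a c
  have h1a : (g⁻¹ * x * g) • a = a := by
    rw [mul_smul, mul_smul, hg, hxc, inv_smul_eq_iff, hg]
  have h2a : (g⁻¹ * y * g) • a = a := by
    rw [mul_smul, mul_smul, hg, hyc, inv_smul_eq_iff, hg]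
  have h12 : orderOf (g⁻¹ * x * g) = 2 := by rw [orderOf_conj_eq', hx]
  have h22 : orderOf (g⁻¹ * y * g) = 2 := by rw [orderOf_conj_eq', hy]
  have h1H := invol_mem_H Z hab hodd H hHa hHcard hHfix h1a h12
  have h2H := invol_mem_H Z hab hodd H hHa hHcard hHfix h2a h22
  have hc := invol_H_central hZ hab hodd H hHa hHcard hHfix h1H h12 h2H
  calc x * y = g * ((g⁻¹ * x * g) * (g⁻¹ * y * g)) * g⁻¹ := by group
    _ = g * ((g⁻¹ * y * g) * (g⁻¹ * x * g)) * g⁻¹ := by rw [hc]
    _ = y * x := by group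

/-- the pairs of involutions whose product has exactly one fixed point, when `h` is even. -/
theorem ipairs_A1_even (hZ : Cfsg.IsZassenhausGroup G Ω) {a b : Ω} (hab : a ≠ b)
    (hodd : Odd (Nat.card ↥(stabilizer G a ⊓ stabilizer G b : Subgroup G)))
    (hn : Odd (Fintype.card Ω)) :
    (ipairs (Ak G Ω 1)).card = Fintype.card Ω *
      (Nat.card ↥(stabilizer G a ⊓ stabilizer G b : Subgroup G) *
        Nat.card ↥(stabilizer G a ⊓ stabilizer G b : Subgroup G)
        - Nat.card ↥(stabilizer G a ⊓ stabilizer G b : Subgroup G)) := by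
  have Z := zdata_of hZ
  have hset : ipairs (Ak G Ω 1) = (Finset.univ : Finset Ω).biUnion
      (fun c => (Finset.univ.filter (fun x : G => orderOf x = 2 ∧ x • c = c)).offDiag) := by
    ext p
    simp only [mem_ipairs, mem_Ak, Finset.mem_biUnion, Finset.mem_univ, true_and,
      Finset.mem_offDiag, Finset.mem_filter]
    constructor
    · rintro ⟨hx, hy, hg1, hfix⟩
      obtain ⟨c, hc, huniq⟩ := fixN_eq_one_iff.mp hfix
      obtain ⟨hxc, hyc⟩ := pair_fix hx hy hc huniq
      refine ⟨c, ⟨hx, hxc⟩, ⟨hy, hyc⟩, ?_⟩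
      intro h
      apply hg1
      rw [← h]
      exact invol_sq hx
    · rintro ⟨c, ⟨hx, hxc⟩, ⟨hy, hyc⟩, hne⟩
      have hg1 : p.1 * p.2 ≠ 1 := by
        intro h
        apply hne
        have h1 : p.1⁻¹ = p.2 := inv_eq_of_mul_eq_one_right h
        rw [← h1, invol_inv hx]
      refine ⟨hx, hy, hg1, ?_⟩
      rw [fixN_eq_one_iff]
      refine ⟨c, by rw [mul_smul, hyc, hxc], ?_⟩
      intro d hd
      by_contra hdc
      have hgc : (p.1 * p.2) • c = c := by rw [mul_smul, hyc, hxc]
      have hoddg := odd_order_of_two_fixed Z hab hodd hdc hd hgc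
      have hcomm := invol_fix_comm hZ hab hodd hx hy hxc hyc
      have hgg : (p.1 * p.2) ^ 2 = 1 := by
        rw [pow_two]
        calc p.1 * p.2 * (p.1 * p.2) = p.1 * (p.2 * p.1) * p.2 := by group
          _ = p.1 * (p.1 * p.2) * p.2 := by rw [hcomm]
          _ = (p.1 * p.1) * (p.2 * p.2) := by group
          _ = 1 := by rw [invol_sq hx, invol_sq hy, one_mul]
      haveI : Fact (Nat.Prime 2) := ⟨Nat.prime_two⟩
      have := orderOf_eq_prime hgg hg1
      rw [this] at hoddg
      exact absurd hoddg (by decide)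
  rw [hset, Finset.card_biUnion]
  · have h1 : ∀ c ∈ (Finset.univ : Finset Ω),
        (Finset.univ.filter (fun x : G => orderOf x = 2 ∧ x • c = c)).offDiag.card
          = Nat.card ↥(stabilizer G a ⊓ stabilizer G b : Subgroup G) *
              Nat.card ↥(stabilizer G a ⊓ stabilizer G b : Subgroup G)
            - Nat.card ↥(stabilizer G a ⊓ stabilizer G b : Subgroup G) := by
      intro c _
      rw [Finset.offDiag_card, card_invol_fix hZ hab hodd hn c]
    rw [Finset.sum_congr rfl h1, Finset.sum_const, smul_eq_mul, Finset.card_univ]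
  · intro c _ c' _ hcc'
    show Disjoint _ _
    rw [Finset.disjoint_left]
    intro p hp hp'
    rw [Finset.mem_offDiag, Finset.mem_filter] at hp hp'
    have := odd_order_of_two_fixed Z hab hodd hcc' hp.1.2.2 hp'.1.2.2
    rw [hp.1.2.1] at this
    exact absurd this (by decide)

/-- the classes of elements not having exactly one fixed point avoid `H`. -/
theorem classes_avoid [DecidableEq (ConjClasses G)] (a : Ω) (H : Subgroup G)
    (hHa : H ≤ stabilizer G a)
    (hHfix : ∀ u ∈ H, u ≠ 1 → ∀ c : Ω, u • c = c → c = a) :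
    ((Sset G Ω).image ConjClasses.mk).card
      ≤ Nat.card {C : ConjClasses G // ∀ g : G, ConjClasses.mk g = C → g ∉ H} := by
  classical
  rw [Nat.card_eq_fintype_card, Fintype.card_subtype]
  apply Finset.card_le_card
  intro C hC
  obtain ⟨g₀, hg₀, rfl⟩ := Finset.mem_image.mp hC
  rw [Finset.mem_filter]
  refine ⟨Finset.mem_univ _, ?_⟩
  intro g hg hgH
  have hconj : IsConj g₀ g := (ConjClasses.mk_eq_mk_iff_isConj.mp hg).symm
  obtain ⟨y, hy⟩ := isConj_iff.mp hconj
  have hgS : g ∈ Sset G Ω := by rw [← hy]; exact Sset_conj hg₀ y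
  rw [mem_Sset] at hgS
  apply hgS.2
  rw [fixN_eq_one_iff]
  exact ⟨a, mem_stabilizer_iff.mp (hHa hgH), hHfix g hgH hgS.1⟩

end

end FZ

end Cfsg.Agent.Lib.Helper2
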