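import Mathlib
import Cfsg.Agent.Lib.Helper2.FZ21
import Cfsg.Agent.Lib.Helper1.CharFound4
import Cfsg.Agent.S0884

set_option autoImplicit false

/-! Feit's Zassenhaus groups: counting conjugacy classes. -/

namespace Cfsg.Agent.Lib.Helper2

namespace FZ

open MulAction Cfsg Cfsg.Agent.Lib.Lead.Zass Cfsg.Agent.Lib.Helper1 Cfsg.Agent.Lib.Helper4
open scoped ComplexConjugate

section
variable {G Ω : Type*} [Group G] [Fintype G] [MulAction G Ω] [Fintype Ω] {a b : Ω}
  {H : Subgroup G}

/-- the classes of the point stabilizer not contained in `H`. -/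
theorem FData.card_classes_out (F : FData G Ω a b H) :
    Nat.card {C : ConjClasses ↥(stabilizer G a) //
        ¬ ∀ g : ↥(stabilizer G a), ConjClasses.mk g = C → (g : G) ∈ H} + 1
      ≤ Nat.card ↥(stabilizer G a ⊓ stabilizer G b : Subgroup G) := by
  classical
  have Z := F.Z
  rw [← F.card_Ecomp]
  have hsplit : Nat.card ↥(Ecomp G a b)
      = Nat.card {k : ↥(Ecomp G a b) // k ≠ 1} + 1 := by
    rw [Nat.card_eq_fintype_card, Nat.card_eq_fintype_card, Fintype.card_subtype_compl,
      Fintype.card_subtype_eq]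
    have : 0 < Fintype.card ↥(Ecomp G a b) := Fintype.card_pos
    omega
  rw [hsplit]
  apply Nat.add_le_add_right
  apply Nat.card_le_card_of_surjective
    (fun k : {k : ↥(Ecomp G a b) // k ≠ 1} =>
      (⟨ConjClasses.mk (k.1 : ↥(stabilizer G a)), by
        intro hall
        have h1 := hall (k.1 : ↥(stabilizer G a)) rfl
        have hk1 : ((k.1 : ↥(stabilizer G a)) : G) ≠ 1 := by
          intro h
          apply k.2
          apply Subtype.ext
          apply Subtype.ext
          exact h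
        exact F.hab (F.hHfix _ h1 hk1 b (mem_Ecomp.mp k.1.2)).symm⟩ :
        {C : ConjClasses ↥(stabilizer G a) //
          ¬ ∀ g : ↥(stabilizer G a), ConjClasses.mk g = C → (g : G) ∈ H}))
  rintro ⟨C, hC⟩
  push Not at hC
  obtain ⟨g, hgC, hgH⟩ := hC
  have hga : (g : G) • a = a := mem_stabilizer_iff.mp g.2
  obtain ⟨c, hca, hc⟩ := exists_fixed_of_not_mem Z a H F.hHa F.hHcard F.hHfix hga hgH
  obtain ⟨n, hna, hnc⟩ := Z.two (Ne.symm hca) F.hab
  have hnN : n ∈ stabilizer G a := mem_stabilizer_iff.mpr hna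
  have hkb : (n * (g : G) * n⁻¹) • b = b := by
    rw [mul_smul, mul_smul, ← hnc, inv_smul_smul, hc]
  have hkN : n * (g : G) * n⁻¹ ∈ stabilizer G a :=
    Subgroup.mul_mem _ (Subgroup.mul_mem _ hnN g.2) (Subgroup.inv_mem _ hnN)
  have hk1 : (⟨⟨n * (g : G) * n⁻¹, hkN⟩, mem_Ecomp.mpr hkb⟩ : ↥(Ecomp G a b)) ≠ 1 := by
    intro h
    have h1 : n * (g : G) * n⁻¹ = 1 := congrArg (fun z : ↥(Ecomp G a b) =>
      ((z : ↥(stabilizer G a)) : G)) h
    apply hgH
    have : (g : G) = n⁻¹ * (n * (g : G) * n⁻¹) * n := by group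
    rw [this, h1, mul_one, inv_mul_cancel]
    exact H.one_mem
  refine ⟨⟨⟨⟨n * (g : G) * n⁻¹, hkN⟩, mem_Ecomp.mpr hkb⟩, hk1⟩, ?_⟩
  apply Subtype.ext
  show ConjClasses.mk (⟨n * (g : G) * n⁻¹, hkN⟩ : ↥(stabilizer G a)) = C
  rw [← hgC, ConjClasses.mk_eq_mk_iff_isConj, isConj_comm, isConj_iff]
  exact ⟨⟨n, hnN⟩, Subtype.ext rfl⟩

/-- the classes of `G` meeting `H` are at least as many as the classes of the point stabilizer
contained in `H`. -/
theorem FData.card_classes_in (F : FData G Ω a b H) :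
    Nat.card {C : ConjClasses ↥(stabilizer G a) //
        ∀ g : ↥(stabilizer G a), ConjClasses.mk g = C → (g : G) ∈ H}
      ≤ Nat.card {D : ConjClasses G // ¬ ∀ g : G, ConjClasses.mk g = D → g ∉ H} := by
  classical
  apply Nat.card_le_card_of_injective
    (fun C : {C : ConjClasses ↥(stabilizer G a) //
        ∀ g : ↥(stabilizer G a), ConjClasses.mk g = C → (g : G) ∈ H} =>
      (⟨ConjClasses.map (stabilizer G a).subtype C.1, by
        obtain ⟨g, hg⟩ := ConjClasses.exists_rep C.1
        intro hall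
        have h1 := C.2 g hg
        apply hall (g : G) _ h1
        rw [← hg]
        rfl⟩ : {D : ConjClasses G // ¬ ∀ g : G, ConjClasses.mk g = D → g ∉ H}))
  rintro ⟨C, hC⟩ ⟨C', hC'⟩ h
  have h1 : ConjClasses.map (stabilizer G a).subtype C
      = ConjClasses.map (stabilizer G a).subtype C' := congrArg Subtype.val h
  apply Subtype.ext
  show C = C'
  obtain ⟨g, rfl⟩ := ConjClasses.exists_rep C
  obtain ⟨g', rfl⟩ := ConjClasses.exists_rep C'
  have hgH := hC g rfl
  have hg'H := hC' g' rfl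
  have h2 : ConjClasses.mk (g : G) = ConjClasses.mk (g' : G) := h1
  rw [ConjClasses.mk_eq_mk_iff_isConj, isConj_iff] at h2
  obtain ⟨x, hx⟩ := h2
  rw [ConjClasses.mk_eq_mk_iff_isConj, isConj_iff]
  by_cases hg1 : (g : G) = 1
  · refine ⟨1, ?_⟩
    apply Subtype.ext
    rw [hg1, mul_one, mul_inv_cancel] at hx
    simp only [Subgroup.coe_mul, Subgroup.coe_one, Subgroup.coe_inv]
    rw [hg1, ← hx]
    group
  · have hxa : x • a = a := by
      by_contra hxa
      exact hg1 (H_ti F.hZ a H F.hHa F.hHcard F.hHfix hxa hgH (by rw [hx]; exact hg'H))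
    exact ⟨⟨x, mem_stabilizer_iff.mpr hxa⟩, Subtype.ext hx⟩

/-- the number of conjugacy classes of `G`. -/
theorem FData.card_classes [IsSimpleGroup G] (F : FData G Ω a b H)
    (hlt : 2 * Nat.card ↥(stabilizer G a ⊓ stabilizer G b : Subgroup G) < Nat.card H - 1)
    [Fintype ↥(stabilizer G a)] [hLn : (H.subgroupOf (stabilizer G a)).Normal]
    [Fintype ↥(H.subgroupOf (stabilizer G a))] [Fintype (IrrCharacter ↥(stabilizer G a))]
    [DecidablePred (fun η : IrrCharacter ↥(stabilizer G a) =>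
      (η : ↥(stabilizer G a) → ℂ) ∈ TIFN.Sset (H.subgroupOf (stabilizer G a)))] :
    Nat.card ↥(stabilizer G a ⊓ stabilizer G b : Subgroup G) + 1 +
      (Finset.univ.filter (fun η : IrrCharacter ↥(stabilizer G a) =>
        (η : ↥(stabilizer G a) → ℂ) ∈ TIFN.Sset (H.subgroupOf (stabilizer G a)))).card
      ≤ Nat.card (ConjClasses G) := by
  classical
  have h1 := Cfsg.Agent.S0884.result F.hZ F.hab (Nat.card H)
    (Nat.card ↥(stabilizer G a ⊓ stabilizer G b : Subgroup G)) F.hHcard.symm rfl F.hodd hlt H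
    F.hHa F.hHcard F.hHfix
  have h2 := F.card_classes_in
  have h3 := F.card_classes_out
  have h4 : Nat.card (ConjClasses G)
      = Nat.card {D : ConjClasses G // ∀ g : G, ConjClasses.mk g = D → g ∉ H}
        + Nat.card {D : ConjClasses G // ¬ ∀ g : G, ConjClasses.mk g = D → g ∉ H} := by
    rw [Nat.card_eq_fintype_card, Nat.card_eq_fintype_card, Nat.card_eq_fintype_card,
      Fintype.card_subtype_compl]
    have := Fintype.card_subtype_le (fun D : ConjClasses G =>
      ∀ g : G, ConjClasses.mk g = D → g ∉ H)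
    omega
  have h5 : Nat.card (ConjClasses ↥(stabilizer G a))
      = Nat.card {C : ConjClasses ↥(stabilizer G a) //
          ∀ g : ↥(stabilizer G a), ConjClasses.mk g = C → (g : G) ∈ H}
        + Nat.card {C : ConjClasses ↥(stabilizer G a) //
          ¬ ∀ g : ↥(stabilizer G a), ConjClasses.mk g = C → (g : G) ∈ H} := by
    rw [Nat.card_eq_fintype_card, Nat.card_eq_fintype_card, Nat.card_eq_fintype_card,
      Fintype.card_subtype_compl]
    have := Fintype.card_subtype_le (fun C : ConjClasses ↥(stabilizer G a) =>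
      ∀ g : ↥(stabilizer G a), ConjClasses.mk g = C → (g : G) ∈ H)
    omega
  have h6 : Nat.card (ConjClasses ↥(stabilizer G a))
      = Nat.card ↥(stabilizer G a ⊓ stabilizer G b : Subgroup G) +
        (Finset.univ.filter (fun η : IrrCharacter ↥(stabilizer G a) =>
          (η : ↥(stabilizer G a) → ℂ) ∈ TIFN.Sset (H.subgroupOf (stabilizer G a)))).card := by
    rw [← card_irr_eq_card_conjClasses, Nat.card_eq_fintype_card, ← Finset.card_univ,
      ← Finset.card_filter_add_card_filter_not (fun η : IrrCharacter ↥(stabilizer G a) =>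
          (η : ↥(stabilizer G a) → ℂ) ∈ TIFN.Sset (H.subgroupOf (stabilizer G a))),
      (F.T_linear).2, add_comm]
  omega

end

end FZ

end Cfsg.Agent.Lib.Helper2
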