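import Mathlib
import Cfsg.Agent.Lib.Helper2.TIFN2
import Cfsg.Agent.Lib.Helper1.LinearChar

set_option autoImplicit false

/-!
# Exceptional characters for a coherent T.I. set: counting
-/

namespace Cfsg.Agent.Lib.Helper2.TIFN

open Cfsg Cfsg.Agent.Lib.Helper1 Cfsg.Agent.Lib.Helper4
open scoped ComplexConjugate

variable {G : Type*} [Group G] [Fintype G] {N : Subgroup G} [Fintype N] {L : Subgroup N}
  [hLn : L.Normal] [Fintype L]

/-- the exceptional characters. -/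
def IsExc (L : Subgroup N) (star : (N → ℂ) → (G → ℂ)) (ψ : G → ℂ) : Prop :=
  ∃ χ ∈ Sset L, ψ = star χ ∨ ψ = -star χ

theorem Hyp.nonexc_const (h : Hyp N L) {star : (N → ℂ) → (G → ℂ)}
    (hstar : Cfsg.IsLinearIsometryOn (Cfsg.zspan (Sset L)) star)
    (hext : ∀ α ∈ Cfsg.zspanOn (Sset L) ({1}ᶜ : Set N), star α = Cfsg.indFun N α)
    {ψ : G → ℂ} (hψ : Cfsg.IsIrrCharacter G ψ) (hcon : ¬ IsExc L star ψ) :
    ∃ z : ℤ, ∀ k : N, k ∈ L → k ≠ 1 → ψ k = z := by
  classical
  unfold IsExc at hcon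
  push Not at hcon
  have horth : ∀ χ ∈ Sset L, Cfsg.classInner (star χ) ψ = 0 := by
    intro χ hχ
    have hχz := mem_zspan_of_mem hχ
    have hg := lio_genChar hstar hχz
    have hnorm : Cfsg.classInner (star χ) (star χ) = 1 := by
      rw [lio_inner hstar hχz hχz]
      exact classInner_irr_self hχ.1
    obtain ⟨φ, hφ, hor⟩ := genChar_norm_one hg hnorm
    have hφψ : φ ≠ ψ := by
      intro heq
      rcases hor with h1 | h1
      · exact (hcon χ hχ).1 (by rw [h1, heq])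
      · exact (hcon χ hχ).2 (by rw [h1, heq, neg_neg])
    have := classInner_irr_ne hφ hψ hφψ
    rcases hor with h1 | h1
    · rw [h1, this]
    · rw [h1, classInner_neg_left, this, neg_zero]
  have hρ : Cfsg.IsGeneralizedCharacter N (fun x : N => ψ x) :=
    isGenChar_restrict N (isGenChar_of_irr hψ)
  have hprop : ∀ χ ∈ Sset L, ∀ ξ ∈ Sset L,
      Cfsg.classInner (fun x : N => ψ x) χ * ξ 1 = Cfsg.classInner (fun x : N => ψ x) ξ * χ 1 := by
    intro χ hχ ξ hξ
    obtain ⟨a', -, ha'⟩ := irr_apply_one_pos hχ.1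
    obtain ⟨b', -, hb'⟩ := irr_apply_one_pos hξ.1
    have hmem := diff_mem hχ hξ ha' hb'
    have h0 : Cfsg.classInner (Cfsg.indFun N ((b' : ℤ) • χ - (a' : ℤ) • ξ)) ψ = 0 := by
      rw [← hext _ hmem, star_diff hstar hχ hξ, classInner_sub_left,
        ← Int.cast_smul_eq_zsmul ℂ, ← Int.cast_smul_eq_zsmul ℂ, classInner_smul_left,
        classInner_smul_left, horth χ hχ, horth ξ hξ]
      simp
    rw [Cfsg.Agent.S0146.result N _ ψ (isClassFunction_irr hψ)] at h0
    have h1 := classInner_eq_zero_symm h0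
    rw [classInner_sub_right, ← Int.cast_smul_eq_zsmul ℂ, ← Int.cast_smul_eq_zsmul ℂ,
      classInner_smul_right, classInner_smul_right] at h1
    simp only [Int.cast_natCast, Complex.conj_natCast] at h1
    rw [ha', hb']
    linear_combination h1
  exact const_on_kernel L hρ hprop

/-- the image of a member of `S` is plus or minus an irreducible character. -/
theorem star_pm_irr {star : (N → ℂ) → (G → ℂ)}
    (hstar : Cfsg.IsLinearIsometryOn (Cfsg.zspan (Sset L)) star) {χ : N → ℂ} (hχ : χ ∈ Sset L) :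
    ∃ θ : G → ℂ, Cfsg.IsIrrCharacter G θ ∧ (star χ = θ ∨ star χ = -θ) := by
  have hχz := mem_zspan_of_mem hχ
  have hg := lio_genChar hstar hχz
  have hnorm : Cfsg.classInner (star χ) (star χ) = 1 := by
    rw [lio_inner hstar hχz hχz]
    exact classInner_irr_self hχ.1
  exact genChar_norm_one hg hnorm

theorem exc_unique {star : (N → ℂ) → (G → ℂ)}
    (hstar : Cfsg.IsLinearIsometryOn (Cfsg.zspan (Sset L)) star) {ψ : G → ℂ}
    (hψ : Cfsg.IsIrrCharacter G ψ) {χ χ' : N → ℂ} (hχ : χ ∈ Sset L) (hχ' : χ' ∈ Sset L)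
    (h1 : ψ = star χ ∨ ψ = -star χ) (h2 : ψ = star χ' ∨ ψ = -star χ') : χ = χ' := by
  by_contra hne
  have h0 : Cfsg.classInner (star χ) (star χ') = 0 := by
    rw [lio_inner hstar (mem_zspan_of_mem hχ) (mem_zspan_of_mem hχ')]
    exact classInner_irr_ne hχ.1 hχ'.1 hne
  have hψψ := classInner_irr_self hψ
  have e1 : star χ = ψ ∨ star χ = -ψ := by
    rcases h1 with h | h
    · exact Or.inl h.symm
    · right; rw [h, neg_neg]
  have e2 : star χ' = ψ ∨ star χ' = -ψ := by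
    rcases h2 with h | h
    · exact Or.inl h.symm
    · right; rw [h, neg_neg]
  rcases e1 with e1 | e1 <;> rcases e2 with e2 | e2 <;> rw [e1, e2] at h0
  · rw [hψψ] at h0; exact one_ne_zero h0
  · rw [classInner_neg_right, hψψ] at h0
    exact one_ne_zero (neg_eq_zero.mp h0)
  · rw [classInner_neg_left, hψψ] at h0
    exact one_ne_zero (neg_eq_zero.mp h0)
  · rw [classInner_neg_left, classInner_neg_right, neg_neg, hψψ] at h0
    exact one_ne_zero h0

theorem irr_ne_neg {θ θ' : G → ℂ} (hθ : Cfsg.IsIrrCharacter G θ) (hθ' : Cfsg.IsIrrCharacter G θ') :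
    θ ≠ -θ' := by
  intro h
  obtain ⟨n, hn, hn1⟩ := irr_apply_one_pos hθ
  obtain ⟨n', hn', hn1'⟩ := irr_apply_one_pos hθ'
  have := congrFun h 1
  rw [Pi.neg_apply, hn1, hn1'] at this
  have h2 : ((n + n' : ℕ) : ℂ) = 0 := by
    push_cast
    linear_combination this
  have h3 : n + n' = 0 := by exact_mod_cast h2
  omega

theorem exc_inj {star : (N → ℂ) → (G → ℂ)} {ψ ψ' : G → ℂ}
    (hψ : Cfsg.IsIrrCharacter G ψ) (hψ' : Cfsg.IsIrrCharacter G ψ') {χ : N → ℂ}
    (h1 : ψ = star χ ∨ ψ = -star χ) (h2 : ψ' = star χ ∨ ψ' = -star χ) : ψ = ψ' := by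
  rcases h1 with h1 | h1 <;> rcases h2 with h2 | h2
  · rw [h1, h2]
  · exfalso
    apply irr_ne_neg hψ' hψ
    rw [h2, h1]
  · exfalso
    apply irr_ne_neg hψ hψ'
    rw [h1, h2]
  · rw [h1, h2]

/-- the correspondence between exceptional characters and the set `S`. -/
theorem exc_bij {star : (N → ℂ) → (G → ℂ)}
    (hstar : Cfsg.IsLinearIsometryOn (Cfsg.zspan (Sset L)) star) :
    ∃ f : {θ : Cfsg.IrrCharacter G // IsExc L star (θ : G → ℂ)} →
        {χ : Cfsg.IrrCharacter N // (χ : N → ℂ) ∈ Sset L},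
      Function.Bijective f ∧
      ∀ θ : {θ : Cfsg.IrrCharacter G // IsExc L star (θ : G → ℂ)},
        ((θ : Cfsg.IrrCharacter G) : G → ℂ) = star ((f θ : Cfsg.IrrCharacter N) : N → ℂ) ∨
        ((θ : Cfsg.IrrCharacter G) : G → ℂ) = -star ((f θ : Cfsg.IrrCharacter N) : N → ℂ) := by
  classical
  have hch : ∀ θ : {θ : Cfsg.IrrCharacter G // IsExc L star (θ : G → ℂ)},
      ∃ χ : {χ : Cfsg.IrrCharacter N // (χ : N → ℂ) ∈ Sset L},
        ((θ : Cfsg.IrrCharacter G) : G → ℂ) = star ((χ : Cfsg.IrrCharacter N) : N → ℂ) ∨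
        ((θ : Cfsg.IrrCharacter G) : G → ℂ) = -star ((χ : Cfsg.IrrCharacter N) : N → ℂ) := by
    rintro ⟨θ, χ, hχ, hor⟩
    exact ⟨⟨⟨χ, hχ.1⟩, hχ⟩, hor⟩
  choose f hf using hch
  refine ⟨f, ⟨?_, ?_⟩, hf⟩
  · intro θ θ' heq
    have h1 := hf θ
    have h2 := hf θ'
    rw [heq] at h1
    apply Subtype.ext
    apply Subtype.ext
    exact exc_inj θ.1.2 θ'.1.2 h1 h2
  · rintro ⟨χ, hχ⟩
    obtain ⟨θ, hθ, hor⟩ := star_pm_irr hstar hχ
    have hor' : θ = star (χ : N → ℂ) ∨ θ = -star (χ : N → ℂ) := by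
      rcases hor with h | h
      · exact Or.inl h.symm
      · right; rw [h, neg_neg]
    have hexc : IsExc L star θ := ⟨χ, hχ, hor'⟩
    refine ⟨⟨⟨θ, hθ⟩, hexc⟩, ?_⟩
    have h1 := hf ⟨⟨θ, hθ⟩, hexc⟩
    apply Subtype.ext
    apply Subtype.ext
    exact (exc_unique hstar hθ hχ (f ⟨⟨θ, hθ⟩, hexc⟩).2 hor' h1).symm

open scoped Classical in
theorem card_exc [Fintype (Cfsg.IrrCharacter G)] [Fintype (Cfsg.IrrCharacter N)]
    {star : (N → ℂ) → (G → ℂ)}
    (hstar : Cfsg.IsLinearIsometryOn (Cfsg.zspan (Sset L)) star) :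
    (Finset.univ.filter (fun θ : Cfsg.IrrCharacter G => IsExc L star (θ : G → ℂ))).card
      = (Finset.univ.filter (fun χ : Cfsg.IrrCharacter N => (χ : N → ℂ) ∈ Sset L)).card := by
  obtain ⟨f, hf, -⟩ := exc_bij (L := L) hstar
  rw [← Fintype.card_subtype, ← Fintype.card_subtype]
  exact Fintype.card_of_bijective hf

open scoped Classical in
theorem sum_exc [Fintype (Cfsg.IrrCharacter G)] [Fintype (Cfsg.IrrCharacter N)]
    {star : (N → ℂ) → (G → ℂ)}
    (hstar : Cfsg.IsLinearIsometryOn (Cfsg.zspan (Sset L)) star)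
    (F : (G → ℂ) → ℂ) (F' : (N → ℂ) → ℂ)
    (h1 : ∀ χ ∈ Sset L, F (star χ) = F' χ) (h2 : ∀ χ ∈ Sset L, F (-star χ) = F' χ) :
    ∑ θ ∈ Finset.univ.filter (fun θ : Cfsg.IrrCharacter G => IsExc L star (θ : G → ℂ)),
        F (θ : G → ℂ)
      = ∑ χ ∈ Finset.univ.filter (fun χ : Cfsg.IrrCharacter N => (χ : N → ℂ) ∈ Sset L),
        F' (χ : N → ℂ) := by
  obtain ⟨f, hf, hor⟩ := exc_bij (L := L) hstar
  rw [Finset.sum_subtype (p := fun θ : Cfsg.IrrCharacter G => IsExc L star (θ : G → ℂ))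
      (Finset.univ.filter (fun θ : Cfsg.IrrCharacter G => IsExc L star (θ : G → ℂ)))
      (by intro x; simp) (fun θ => F (θ : G → ℂ)),
    Finset.sum_subtype (p := fun χ : Cfsg.IrrCharacter N => (χ : N → ℂ) ∈ Sset L)
      (Finset.univ.filter (fun χ : Cfsg.IrrCharacter N => (χ : N → ℂ) ∈ Sset L))
      (by intro x; simp) (fun χ => F' (χ : N → ℂ))]
  apply Fintype.sum_bijective f hf
  intro θ
  rcases hor θ with h | h
  · rw [h]; exact h1 _ (f θ).2
  · rw [h]; exact h2 _ (f θ).2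

/-- a class function orthogonal to the irreducible characters outside `S` vanishes off `L`
and sums to zero. -/
theorem Hyp.support (h : Hyp N L) {ρ : N → ℂ} (hρ : Cfsg.IsClassFunction N ρ)
    (horth : ∀ η : N → ℂ, Cfsg.IsIrrCharacter N η → η ∉ Sset L → Cfsg.classInner ρ η = 0) :
    (∀ x : N, x ∉ L → ρ x = 0) ∧ ∑ x : N, ρ x = 0 := by
  classical
  haveI : Fintype (Cfsg.IrrCharacter N) := Fintype.ofFinite _
  have hexp := class_function_expansion ρ hρ
  constructor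
  · intro x hx
    rw [hexp, Finset.sum_apply]
    apply Finset.sum_eq_zero
    intro η _
    rw [Pi.smul_apply, smul_eq_mul]
    by_cases hη : (η : N → ℂ) ∈ Sset L
    · rw [h.vanish hη hx, mul_zero]
    · rw [horth _ η.2 hη, zero_mul]
  · have h1 : (fun _ : N => (1 : ℂ)) ∉ Sset L := by
      rintro ⟨-, k, -, hk⟩
      exact hk rfl
    have hone : Cfsg.IsIrrCharacter N (fun _ : N => (1 : ℂ)) := by
      have := isIrrCharacter_of_hom (1 : N →* ℂˣ)
      simpa using this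
    have h2 := horth _ hone h1
    rw [classInner_def] at h2
    have h3 : (Nat.card N : ℂ) ≠ 0 := Nat.cast_ne_zero.mpr Nat.card_pos.ne'
    have h4 := (mul_eq_zero.mp h2).resolve_left (inv_ne_zero h3)
    rw [← h4]
    refine Finset.sum_congr rfl fun x _ => ?_
    simp

end Cfsg.Agent.Lib.Helper2.TIFN
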