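import Mathlib
import Cfsg.Agent.Lib.Helper2.FZ22
import Cfsg.Agent.Lib.Helper2.TIFN4

set_option autoImplicit false

/-! Feit's Zassenhaus groups: character sums for a coherent T.I. set. -/

namespace Cfsg.Agent.Lib.Helper2

namespace FZ

open MulAction Cfsg Cfsg.Agent.Lib.Lead.Zass Cfsg.Agent.Lib.Helper1 Cfsg.Agent.Lib.Helper4
open scoped ComplexConjugate

section Hyp
variable {G : Type*} [Group G] [Fintype G] {N : Subgroup G} [Fintype N] {L : Subgroup N}
  [hLn : L.Normal] [Fintype L]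

open scoped Classical in
theorem card_T (h : TIFN.Hyp N L) [Fintype (IrrCharacter N)]
    (hT : ∀ η : IrrCharacter N, (η : N → ℂ) ∉ TIFN.Sset L → (η : N → ℂ) 1 = 1) :
    ((Finset.univ.filter (fun η : IrrCharacter N => (η : N → ℂ) ∉ TIFN.Sset L)).card : ℂ)
      = (L.index : ℂ) := by
  rw [← sum_sq_T h]
  rw [Finset.card_eq_sum_ones]
  push_cast
  refine Finset.sum_congr rfl fun η hη => ?_
  rw [Finset.mem_filter] at hη
  rw [hT η hη.2, mul_one]

open scoped Classical in
/-- the column sums over the characters in `Sset L`. -/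
theorem nsum (h : TIFN.Hyp N L) [Fintype (IrrCharacter N)]
    (hT : ∀ η : IrrCharacter N, (η : N → ℂ) ∉ TIFN.Sset L → (η : N → ℂ) 1 = 1)
    {x y : N} (hx : x ∈ L) (hy : y ∈ L) :
    ∑ χ ∈ Finset.univ.filter (fun χ : IrrCharacter N => (χ : N → ℂ) ∈ TIFN.Sset L),
        (χ : N → ℂ) y * conj ((χ : N → ℂ) x)
      = (Nat.card (Subgroup.centralizer ({x} : Set N)) : ℂ) * classIndicator x y
        - (L.index : ℂ) := by
  have hcol := column_orthogonality (G := N) x y
  rw [← Finset.sum_filter_add_sum_filter_not Finset.univ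
    (fun η : IrrCharacter N => (η : N → ℂ) ∈ TIFN.Sset L)] at hcol
  have h2 : ∑ η ∈ Finset.univ.filter (fun η : IrrCharacter N => (η : N → ℂ) ∉ TIFN.Sset L),
      (η : N → ℂ) y * conj ((η : N → ℂ) x) = (L.index : ℂ) := by
    rw [← card_T h hT, Finset.card_eq_sum_ones]
    push_cast
    refine Finset.sum_congr rfl fun η hη => ?_
    rw [Finset.mem_filter] at hη
    rw [const_of_notMem_Sset η.2 hη.2 hx, const_of_notMem_Sset η.2 hη.2 hy, hT η hη.2]
    simp
  rw [h2] at hcol
  rw [← hcol]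
  ring

open scoped Classical in
/-- the sum of the squares of the values of the extended characters on an element of `L`. -/
theorem sum_star_sq (h : TIFN.Hyp N L) [Fintype (IrrCharacter N)]
    (hT : ∀ η : IrrCharacter N, (η : N → ℂ) ∉ TIFN.Sset L → (η : N → ℂ) 1 = 1)
    {star : (N → ℂ) → (G → ℂ)} (m : ℤ)
    (hm : ∀ χ ∈ TIFN.Sset L, ∀ k : N, k ∈ L → k ≠ 1 →
      star χ k - χ k = (m : ℂ) * χ 1 / (L.index : ℂ))
    {u : N} (hu : u ∈ L) (hu1 : u ≠ 1) :
    ∑ χ ∈ Finset.univ.filter (fun χ : IrrCharacter N => (χ : N → ℂ) ∈ TIFN.Sset L),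
        star (χ : N → ℂ) u * conj (star (χ : N → ℂ) u)
      = (Nat.card (Subgroup.centralizer ({u} : Set N)) : ℂ) - (L.index : ℂ) - 2 * (m : ℂ)
        + (m : ℂ) ^ 2 * ((Nat.card N : ℂ) - (L.index : ℂ)) / (L.index : ℂ) ^ 2 := by
  have he0 : (L.index : ℂ) ≠ 0 := Nat.cast_ne_zero.mpr Subgroup.index_ne_zero_of_finite
  have h1L : (1 : N) ∈ L := L.one_mem
  have huu := nsum h hT hu hu
  have h1u := nsum h hT h1L hu
  have hu1' := nsum h hT hu h1L
  have h11 := nsum h hT h1L h1L
  have hci_uu : classIndicator u u = 1 := by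
    unfold classIndicator
    rw [if_pos (IsConj.refl u)]
  have hci_1u : classIndicator (1 : N) u = 0 := by
    unfold classIndicator
    rw [if_neg]
    intro hc
    exact hu1 (isConj_one_right.mp hc)
  have hci_u1 : classIndicator u (1 : N) = 0 := by
    unfold classIndicator
    rw [if_neg]
    intro hc
    exact hu1 (isConj_one_left.mp hc)
  have hci_11 : classIndicator (1 : N) (1 : N) = 1 := by
    unfold classIndicator
    rw [if_pos (IsConj.refl 1)]
  have hc1 : (Nat.card (Subgroup.centralizer ({(1 : N)} : Set N)) : ℂ) = (Nat.card N : ℂ) := by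
    have : Subgroup.centralizer ({(1 : N)} : Set N) = ⊤ := by
      rw [eq_top_iff]
      intro y _
      rw [Subgroup.mem_centralizer_singleton_iff]
      simp
    rw [this, Subgroup.card_top]
  rw [hci_uu, mul_one] at huu
  rw [hci_1u, mul_zero, zero_sub] at h1u
  rw [hci_u1, mul_zero, zero_sub] at hu1'
  rw [hci_11, mul_one, hc1] at h11
  have hterm : ∀ χ ∈ Finset.univ.filter (fun χ : IrrCharacter N => (χ : N → ℂ) ∈ TIFN.Sset L),
      star (χ : N → ℂ) u * conj (star (χ : N → ℂ) u)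
        = (χ : N → ℂ) u * conj ((χ : N → ℂ) u)
          + ((m : ℂ) / (L.index : ℂ)) * ((χ : N → ℂ) u * conj ((χ : N → ℂ) 1))
          + ((m : ℂ) / (L.index : ℂ)) * ((χ : N → ℂ) 1 * conj ((χ : N → ℂ) u))
          + ((m : ℂ) / (L.index : ℂ)) ^ 2 * ((χ : N → ℂ) 1 * conj ((χ : N → ℂ) 1)) := by
    intro χ hχ
    rw [Finset.mem_filter] at hχ
    have h3 := hm _ hχ.2 u hu hu1
    have h4 : star (χ : N → ℂ) u = (χ : N → ℂ) u
        + ((m : ℂ) / (L.index : ℂ)) * (χ : N → ℂ) 1 := by
      have : star (χ : N → ℂ) u = (χ : N → ℂ) u + (m : ℂ) * (χ : N → ℂ) 1 / (L.index : ℂ) := by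
        rw [← h3]; ring
      rw [this]; ring
    rw [h4]
    simp only [map_add, map_mul, map_div₀, map_intCast, map_natCast]
    ring
  rw [Finset.sum_congr rfl hterm, Finset.sum_add_distrib, Finset.sum_add_distrib,
    Finset.sum_add_distrib, ← Finset.mul_sum, ← Finset.mul_sum, ← Finset.mul_sum, huu, h1u, hu1',
    h11]
  field_simp
  ring

end Hyp

end FZ

end Cfsg.Agent.Lib.Helper2
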