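import Mathlib
import Cfsg.Agent.Lib.Helper2.FZ23

set_option autoImplicit false

/-! Feit's Zassenhaus groups: the non-exceptional characters. -/

namespace Cfsg.Agent.Lib.Helper2

namespace FZ

open MulAction Cfsg Cfsg.Agent.Lib.Lead.Zass Cfsg.Agent.Lib.Helper1 Cfsg.Agent.Lib.Helper4
open scoped ComplexConjugate

section
variable {G Ω : Type*} [Group G] [Fintype G] [MulAction G Ω] [Fintype Ω] {a b : Ω}
  {H : Subgroup G}

local notation "𝔑" => MulAction.stabilizer G a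
local notation "𝔏" => Subgroup.subgroupOf H (MulAction.stabilizer G a)
local notation "𝔖" => TIFN.Sset (Subgroup.subgroupOf H (MulAction.stabilizer G a))
set_option quotPrecheck false in
local notation "𝔢" =>
  Nat.card ↥(MulAction.stabilizer G a ⊓ MulAction.stabilizer G b : Subgroup G)

/-- the irreducible characters of the point stabilizer outside `S` are homomorphisms trivial
on `H`. -/
theorem FData.T_hom [IsSimpleGroup G] (F : FData G Ω a b H) [Fintype ↥𝔑] [hLn : (𝔏).Normal]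
    [Fintype ↥𝔏] {η : ↥𝔑 → ℂ} (hη : IsIrrCharacter ↥𝔑 η) (hS : η ∉ 𝔖) :
    ∃ φ : ↥𝔑 →* ℂˣ, (∀ x : ↥𝔑, (x : G) ∈ H → φ x = 1) ∧ η = fun x => ((φ x : ℂˣ) : ℂ) := by
  classical
  letI : Fintype (IrrCharacter ↥𝔑) := Fintype.ofFinite _
  have h1 : η 1 = 1 := (F.T_linear).1 ⟨η, hη⟩ hS
  obtain ⟨φ, hφ⟩ := exists_hom_of_isIrrCharacter hη h1
  refine ⟨φ, ?_, hφ⟩
  intro x hx
  have h2 : η x = η 1 := const_of_notMem_Sset hη hS (Subgroup.mem_subgroupOf.mpr hx)
  rw [h1, hφ] at h2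
  exact Units.ext h2

/-- the linearity of the characters outside `S`, in the form used by the sums. -/
theorem FData.hT [IsSimpleGroup G] (F : FData G Ω a b H) [Fintype ↥𝔑] [hLn : (𝔏).Normal]
    [Fintype ↥𝔏] (η : IrrCharacter ↥𝔑) (hS : (η : ↥𝔑 → ℂ) ∉ 𝔖) : (η : ↥𝔑 → ℂ) 1 = 1 := by
  classical
  letI : Fintype (IrrCharacter ↥𝔑) := Fintype.ofFinite _
  exact (F.T_linear).1 η hS

/-- an irreducible character of `G` meeting a character outside `S`. -/
theorem FData.meets_T [IsSimpleGroup G] (F : FData G Ω a b H) [Fintype ↥𝔑] [hLn : (𝔏).Normal]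
    [Fintype ↥𝔏] {η : ↥𝔑 → ℂ} (hη : IsIrrCharacter ↥𝔑 η) (hS : η ∉ 𝔖) {θ : G → ℂ}
    (hθ : IsIrrCharacter G θ) (hne : classInner (indFun 𝔑 η) θ ≠ 0) :
    θ = thetaChar G a ∨ ∀ u ∈ H, u ≠ 1 → θ u = 1 := by
  obtain ⟨φ, hφL, rfl⟩ := F.T_hom hη hS
  by_cases hφ1 : φ = 1
  · subst hφ1
    rw [← piChar_eq, piChar_eq_add, classInner_add_left] at hne
    by_cases h1 : θ = fun _ => (1 : ℂ)
    · right
      intro u _ _
      rw [h1]
    · left
      by_contra h2
      apply hne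
      rw [classInner_irr_ne (one_irr' G) hθ (Ne.symm h1),
        classInner_irr_ne F.thetaChar_irr hθ (Ne.symm h2), add_zero]
  · right
    have hirr := F.ind_irr φ hφL hφ1
    have heq : indFun 𝔑 (fun g => ((φ g : ℂˣ) : ℂ)) = θ := by
      by_contra h2
      exact hne (classInner_irr_ne hirr hθ h2)
    intro u hu hu1
    rw [← heq]
    exact F.ind_apply_H φ hφL hu hu1

end

end FZ

end Cfsg.Agent.Lib.Helper2
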