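import Mathlib
import Cfsg.Agent.Lib.Helper2.FZ24

set_option autoImplicit false

/-! Feit's Zassenhaus groups: the coherent case, values of non-exceptional characters. -/

namespace Cfsg.Agent.Lib.Helper2

namespace FZ

open MulAction Cfsg Cfsg.Agent.Lib.Lead.Zass Cfsg.Agent.Lib.Helper1 Cfsg.Agent.Lib.Helper4
open scoped ComplexConjugate

section
variable {G Ω : Type*} [Group G] [Fintype G] [MulAction G Ω] [Fintype Ω] {a b : Ω}
  {H : Subgroup G}

local notation "𝔑" => MulAction.stabilizer G a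
local notation "𝔏" => Subgroup.subgroupOf H (MulAction.stabilizer G a)
local notation "𝔖" => TIFN.Sset (Subgroup.subgroupOf H (MulAction.stabilizer G a))
set_option quotPrecheck false in
local notation "𝔢" =>
  Nat.card ↥(MulAction.stabilizer G a ⊓ MulAction.stabilizer G b : Subgroup G)

/-- the data of the coherent case. -/
structure CData (G Ω : Type*) [Group G] [Fintype G] [MulAction G Ω] [Fintype Ω] (a b : Ω)
    (H : Subgroup G) [Fintype ↥(MulAction.stabilizer G a)]
    (star : (↥(MulAction.stabilizer G a) → ℂ) → (G → ℂ)) : Prop where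
  F : FData G Ω a b H
  hstar : IsLinearIsometryOn
    (zspan (TIFN.Sset (Subgroup.subgroupOf H (MulAction.stabilizer G a)))) star
  hext : ∀ α ∈ zspanOn (TIFN.Sset (Subgroup.subgroupOf H (MulAction.stabilizer G a)))
    ({1}ᶜ : Set ↥(MulAction.stabilizer G a)), star α = indFun (MulAction.stabilizer G a) α
  htwo : ∃ χ ∈ TIFN.Sset (Subgroup.subgroupOf H (MulAction.stabilizer G a)),
    ∃ ξ ∈ TIFN.Sset (Subgroup.subgroupOf H (MulAction.stabilizer G a)), χ ≠ ξ
  hlt : 2 * Nat.card ↥(MulAction.stabilizer G a ⊓ MulAction.stabilizer G b : Subgroup G)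
    < Nat.card H - 1

variable [Fintype ↥(MulAction.stabilizer G a)]
  {star : (↥(MulAction.stabilizer G a) → ℂ) → (G → ℂ)}

/-- an exceptional character is not constant on `H` minus the identity. -/
theorem CData.exc_nonconst [hLn : (𝔏).Normal] [Fintype ↥𝔏] (C : CData G Ω a b H star)
    {θ : G → ℂ} (hθ : IsIrrCharacter G θ) (hexc : TIFN.IsExc 𝔏 star θ) :
    ∃ u ∈ H, ∃ v ∈ H, u ≠ 1 ∧ v ≠ 1 ∧ θ u ≠ θ v := by
  obtain ⟨x, hx, y, hy, hx1, hy1, hne⟩ :=
    (C.F.hyp.main_exc C.hstar C.hext C.htwo hθ).mp hexc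
  refine ⟨x, Subgroup.mem_subgroupOf.mp hx, y, Subgroup.mem_subgroupOf.mp hy, ?_, ?_, hne⟩
  · intro h; exact hx1 (Subtype.ext h)
  · intro h; exact hy1 (Subtype.ext h)

/-- a non-exceptional character other than the Steinberg-like character takes a nonzero integer
value on `H` minus the identity. -/
theorem CData.nonexc_value [IsSimpleGroup G] [hLn : (𝔏).Normal] [Fintype ↥𝔏]
    (C : CData G Ω a b H star) {θ : G → ℂ} (hθ : IsIrrCharacter G θ)
    (hexc : ¬ TIFN.IsExc 𝔏 star θ) (hne : θ ≠ thetaChar G a) {u : G} (hu : u ∈ H) (hu1 : u ≠ 1) :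
    ∃ z : ℤ, z ≠ 0 ∧ θ u = z := by
  classical
  obtain ⟨z, hz⟩ := C.F.hyp.nonexc_const C.hstar C.hext hθ hexc
  have hzu : θ u = z := by
    have := hz ⟨u, C.F.hHa hu⟩ (Subgroup.mem_subgroupOf.mpr hu)
      (fun h => hu1 (congrArg Subtype.val h))
    exact this
  refine ⟨z, ?_, hzu⟩
  by_cases hcase : ∃ η : ↥𝔑 → ℂ, IsIrrCharacter ↥𝔑 η ∧ η ∉ 𝔖 ∧
      classInner (fun x : ↥𝔑 => θ x) η ≠ 0
  · obtain ⟨η, hη, hηS, hηne⟩ := hcase
    have h1 : classInner (indFun 𝔑 η) θ ≠ 0 := by
      rw [Cfsg.Agent.S0146.result 𝔑 η θ (isClassFunction_irr hθ)]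
      intro h0
      exact hηne (classInner_eq_zero_symm h0)
    rcases C.F.meets_T hη hηS hθ h1 with h2 | h2
    · exact absurd h2 hne
    · have h3 := h2 u hu hu1
      rw [hzu] at h3
      intro h0
      rw [h0] at h3
      simp at h3
  · push Not at hcase
    have hcf : IsClassFunction ↥𝔑 (fun x : ↥𝔑 => θ x) :=
      isGenChar_isClassFunction (TIFN.isGenChar_restrict 𝔑 (isGenChar_of_irr hθ))
    obtain ⟨hv, hsum⟩ := C.F.hyp.support hcf hcase
    intro h0
    rw [Finset.sum_eq_single (1 : ↥𝔑)] at hsum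
    · obtain ⟨d, hd, hd1⟩ := irr_apply_one_pos hθ
      have : θ 1 = 0 := hsum
      rw [hd1] at this
      have : d = 0 := by exact_mod_cast this
      omega
    · intro x _ hx1
      by_cases hxL : x ∈ 𝔏
      · have := hz x hxL hx1
        rw [h0] at this
        simpa using this
      · exact hv x hxL
    · intro h; exact absurd (Finset.mem_univ _) h

end

end FZ

end Cfsg.Agent.Lib.Helper2
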