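import Mathlib
import Cfsg.Agent.Lib.Helper2.FZ25

set_option autoImplicit false

/-! Feit's Zassenhaus groups: the coherent case, the main identity. -/

namespace Cfsg.Agent.Lib.Helper2

namespace FZ

open MulAction Cfsg Cfsg.Agent.Lib.Lead.Zass Cfsg.Agent.Lib.Helper1 Cfsg.Agent.Lib.Helper4
open scoped ComplexConjugate

theorem card_centralizer_subgroup {G : Type*} [Group G] (N : Subgroup G) (u : N)
    (hle : Subgroup.centralizer ({(u : G)} : Set G) ≤ N) :
    Nat.card (Subgroup.centralizer ({u} : Set N))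
      = Nat.card (Subgroup.centralizer ({(u : G)} : Set G)) := by
  apply Nat.card_congr
  refine ⟨fun x => ⟨((x : N) : G), ?_⟩, fun y => ⟨⟨(y : G), hle y.2⟩, ?_⟩, ?_, ?_⟩
  · have := x.2
    rw [Subgroup.mem_centralizer_singleton_iff] at this ⊢
    exact congrArg Subtype.val this
  · have := y.2
    rw [Subgroup.mem_centralizer_singleton_iff] at this ⊢
    exact Subtype.ext this
  · intro x; rfl
  · intro y; rfl

section
variable {G Ω : Type*} [Group G] [Fintype G] [MulAction G Ω] [Fintype Ω] {a b : Ω}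
  {H : Subgroup G}

local notation "𝔑" => MulAction.stabilizer G a
local notation "𝔏" => Subgroup.subgroupOf H (MulAction.stabilizer G a)
local notation "𝔖" => TIFN.Sset (Subgroup.subgroupOf H (MulAction.stabilizer G a))
set_option quotPrecheck false in
local notation "𝔢" =>
  Nat.card ↥(MulAction.stabilizer G a ⊓ MulAction.stabilizer G b : Subgroup G)

variable [Fintype ↥(MulAction.stabilizer G a)]
  {star : (↥(MulAction.stabilizer G a) → ℂ) → (G → ℂ)}

open scoped Classical in
/-- the contribution of the non-exceptional characters. -/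
theorem CData.ne_sum [IsSimpleGroup G] [hLn : (𝔏).Normal] [Fintype ↥𝔏]
    (C : CData G Ω a b H star) [Fintype (IrrCharacter G)] {u : G} (hu : u ∈ H) (hu1 : u ≠ 1) :
    ∃ Z : ℤ,
      ∑ θ ∈ Finset.univ.filter (fun θ : IrrCharacter G => ¬ TIFN.IsExc 𝔏 star (θ : G → ℂ)),
        (θ : G → ℂ) u * conj ((θ : G → ℂ) u) = (Z : ℂ) ∧
      ((Finset.univ.filter
        (fun θ : IrrCharacter G => ¬ TIFN.IsExc 𝔏 star (θ : G → ℂ))).card : ℤ) - 1 ≤ Z := by
  have hex : ∀ θ : IrrCharacter G, ∃ z : ℤ, ¬ TIFN.IsExc 𝔏 star (θ : G → ℂ) →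
      ((θ : G → ℂ) u = z ∧ ((θ : G → ℂ) ≠ thetaChar G a → z ≠ 0)) := by
    intro θ
    by_cases hexc : TIFN.IsExc 𝔏 star (θ : G → ℂ)
    · exact ⟨0, fun h => absurd hexc h⟩
    · by_cases hθ : (θ : G → ℂ) = thetaChar G a
      · refine ⟨0, fun _ => ⟨?_, fun h => absurd hθ h⟩⟩
        rw [hθ, C.F.thetaChar_apply_H hu hu1]
        simp
      · obtain ⟨z, hz0, hz⟩ := C.nonexc_value θ.2 hexc hθ hu hu1
        exact ⟨z, fun _ => ⟨hz, fun _ => hz0⟩⟩
  choose zf hzf using hex
  set NE := Finset.univ.filter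
    (fun θ : IrrCharacter G => ¬ TIFN.IsExc 𝔏 star (θ : G → ℂ)) with hNE
  refine ⟨∑ θ ∈ NE, zf θ ^ 2, ?_, ?_⟩
  · push_cast
    refine Finset.sum_congr rfl fun θ hθ => ?_
    rw [hNE, Finset.mem_filter] at hθ
    rw [(hzf θ hθ.2).1]
    simp only [map_intCast]
    ring
  · let Θ' : IrrCharacter G := ⟨thetaChar G a, C.F.thetaChar_irr⟩
    have h1 : ((NE.erase Θ').card : ℤ) ≤ ∑ θ ∈ NE.erase Θ', zf θ ^ 2 := by
      rw [Finset.card_eq_sum_ones]
      push_cast
      apply Finset.sum_le_sum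
      intro θ hθ
      rw [Finset.mem_erase] at hθ
      have hθNE := hθ.2
      rw [hNE, Finset.mem_filter] at hθNE
      have hne : (θ : G → ℂ) ≠ thetaChar G a := by
        intro h
        apply hθ.1
        exact Subtype.ext h
      have hz0 := (hzf θ hθNE.2).2 hne
      have : 0 < zf θ ^ 2 := by positivity
      omega
    have h2 : ∑ θ ∈ NE.erase Θ', zf θ ^ 2 ≤ ∑ θ ∈ NE, zf θ ^ 2 := by
      apply Finset.sum_le_sum_of_subset_of_nonneg (Finset.erase_subset _ _)
      intro θ _ _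
      positivity
    have h3 : NE.card - 1 ≤ (NE.erase Θ').card := Finset.pred_card_le_card_erase
    have h4 : (NE.card : ℤ) - 1 ≤ ((NE.erase Θ').card : ℤ) := by omega
    linarith

end

end FZ

end Cfsg.Agent.Lib.Helper2
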