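import Mathlib
import Cfsg.Agent.Lib.Helper2.FZ26

set_option autoImplicit false

/-! Feit's Zassenhaus groups: the coherent case, the constant vanishes. -/

namespace Cfsg.Agent.Lib.Helper2

namespace FZ

open MulAction Cfsg Cfsg.Agent.Lib.Lead.Zass Cfsg.Agent.Lib.Helper1 Cfsg.Agent.Lib.Helper4
open scoped ComplexConjugate

theorem arith_m (e hh m Z : ℤ) (he : 1 ≤ e) (hlt : 2 * e < hh - 1) (hZ : e ≤ Z)
    (hE : e * Z = e ^ 2 + 2 * m * e - m ^ 2 * (hh - 1)) : m = 0 := by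
  by_contra hm0
  have h1 : 1 ≤ m ^ 2 := by
    have : 0 < m ^ 2 := by positivity
    omega
  have h2 : m ≤ m ^ 2 := by
    rcases le_or_gt m 0 with h | h
    · nlinarith
    · nlinarith
  have h3 : e * e ≤ e * Z := by nlinarith
  have h4 : m ^ 2 * (2 * e + 1) ≤ m ^ 2 * (hh - 1) := by
    apply mul_le_mul_of_nonneg_left _ (by positivity)
    omega
  nlinarith

section
variable {G Ω : Type*} [Group G] [Fintype G] [MulAction G Ω] [Fintype Ω] {a b : Ω}
  {H : Subgroup G}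

local notation "𝔑" => MulAction.stabilizer G a
local notation "𝔏" => Subgroup.subgroupOf H (MulAction.stabilizer G a)
local notation "𝔖" => TIFN.Sset (Subgroup.subgroupOf H (MulAction.stabilizer G a))
set_option quotPrecheck false in
local notation "𝔢" =>
  Nat.card ↥(MulAction.stabilizer G a ⊓ MulAction.stabilizer G b : Subgroup G)

variable [Fintype ↥(MulAction.stabilizer G a)]
  {star : (↥(MulAction.stabilizer G a) → ℂ) → (G → ℂ)}

open scoped Classical in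
/-- the number of non-exceptional characters. -/
theorem CData.card_ne [IsSimpleGroup G] [hLn : (𝔏).Normal] [Fintype ↥𝔏]
    (C : CData G Ω a b H star) [Fintype (IrrCharacter G)] :
    𝔢 + 1 ≤ (Finset.univ.filter
      (fun θ : IrrCharacter G => ¬ TIFN.IsExc 𝔏 star (θ : G → ℂ))).card := by
  letI : Fintype (IrrCharacter ↥𝔑) := Fintype.ofFinite _
  have h1 := C.F.card_classes C.hlt
  have h2 := TIFN.card_exc (L := 𝔏) C.hstar
  have h3 : Nat.card (ConjClasses G) = Fintype.card (IrrCharacter G) := by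
    rw [← card_irr_eq_card_conjClasses, Nat.card_eq_fintype_card]
  have h4 := Finset.card_filter_add_card_filter_not (s := (Finset.univ : Finset (IrrCharacter G)))
    (fun θ : IrrCharacter G => TIFN.IsExc 𝔏 star (θ : G → ℂ))
  rw [Finset.card_univ] at h4
  have h5 : (Finset.univ.filter
      (fun θ : IrrCharacter G => TIFN.IsExc 𝔏 star (θ : G → ℂ))).card
      = (Finset.univ.filter (fun χ : IrrCharacter ↥𝔑 => (χ : ↥𝔑 → ℂ) ∈ 𝔖)).card := h2
  have h6 : (Finset.univ.filter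
      (fun θ : IrrCharacter G => ¬ TIFN.IsExc 𝔏 star (θ : G → ℂ))).card
      + (Finset.univ.filter (fun χ : IrrCharacter ↥𝔑 => (χ : ↥𝔑 → ℂ) ∈ 𝔖)).card
      = Nat.card (ConjClasses G) := by
    rw [h3, ← h4, h5, add_comm]
  omega

/-- in the coherent case the constant of the extension vanishes. -/
theorem CData.m_eq_zero [IsSimpleGroup G] [hLn : (𝔏).Normal] [Fintype ↥𝔏]
    (C : CData G Ω a b H star) (m : ℤ)
    (hm : ∀ χ ∈ 𝔖, ∀ k : ↥𝔑, k ∈ 𝔏 → k ≠ 1 →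
      star χ k - χ k = (m : ℂ) * χ 1 / ((𝔏).index : ℂ)) : m = 0 := by
  classical
  letI : Fintype (IrrCharacter ↥𝔑) := Fintype.ofFinite _
  letI : Fintype (IrrCharacter G) := Fintype.ofFinite _
  obtain ⟨u, hu, hu1⟩ := C.F.exists_ne_one
  set u' : ↥𝔑 := ⟨u, C.F.hHa hu⟩ with hu'
  have hu'L : u' ∈ 𝔏 := Subgroup.mem_subgroupOf.mpr hu
  have hu'1 : u' ≠ 1 := fun h => hu1 (congrArg Subtype.val h)
  obtain ⟨Z, hZ1, hZ2⟩ := C.ne_sum hu hu1
  have hcard := C.card_ne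
  have hcol := column_orthogonality (G := G) u u
  have hci : classIndicator u u = 1 := by
    unfold classIndicator
    rw [if_pos (IsConj.refl u)]
  rw [hci, mul_one, ← Finset.sum_filter_add_sum_filter_not Finset.univ
    (fun θ : IrrCharacter G => TIFN.IsExc 𝔏 star (θ : G → ℂ)), hZ1] at hcol
  have hexc := TIFN.sum_exc (L := 𝔏) C.hstar (fun θ : G → ℂ => θ u * conj (θ u))
    (fun χ : ↥𝔑 → ℂ => star χ u * conj (star χ u)) (fun χ _ => rfl)
    (fun χ _ => by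
      show (-star χ) u * conj ((-star χ) u) = star χ u * conj (star χ u)
      rw [Pi.neg_apply, map_neg]; ring)
  have hsq := sum_star_sq C.F.hyp C.F.hT m hm hu'L hu'1
  have hcent := card_centralizer_subgroup 𝔑 u'
    ((C.F.cent hu hu1).trans C.F.hHa)
  have hN := C.F.card_N
  have hidx := C.F.index_L
  have he1 : 1 ≤ 𝔢 := Nat.card_pos
  have hh1 : 1 ≤ Nat.card H := Nat.card_pos
  have he0 : ((𝔢 : ℕ) : ℂ) ≠ 0 := Nat.cast_ne_zero.mpr (by omega)
  -- combine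
  have hmain : ((𝔢 : ℕ) : ℂ) * (Z : ℂ)
      = ((𝔢 : ℕ) : ℂ) ^ 2 + 2 * (m : ℂ) * ((𝔢 : ℕ) : ℂ)
        - (m : ℂ) ^ 2 * ((Nat.card H : ℂ) - 1) := by
    have h1 : (Z : ℂ) = (Nat.card (Subgroup.centralizer ({u} : Set G)) : ℂ)
        - ∑ θ ∈ Finset.univ.filter
            (fun θ : IrrCharacter G => TIFN.IsExc 𝔏 star (θ : G → ℂ)),
          (θ : G → ℂ) u * conj ((θ : G → ℂ) u) := by
      rw [← hcol]; ring
    rw [h1]
    have h2 : ∑ θ ∈ Finset.univ.filter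
            (fun θ : IrrCharacter G => TIFN.IsExc 𝔏 star (θ : G → ℂ)),
          (θ : G → ℂ) u * conj ((θ : G → ℂ) u)
        = ∑ χ ∈ Finset.univ.filter (fun χ : IrrCharacter ↥𝔑 => (χ : ↥𝔑 → ℂ) ∈ 𝔖),
          star (χ : ↥𝔑 → ℂ) u * conj (star (χ : ↥𝔑 → ℂ) u) := by
      convert hexc using 2
    rw [h2]
    have h3 : ∑ χ ∈ Finset.univ.filter (fun χ : IrrCharacter ↥𝔑 => (χ : ↥𝔑 → ℂ) ∈ 𝔖),
          star (χ : ↥𝔑 → ℂ) u * conj (star (χ : ↥𝔑 → ℂ) u)
        = (Nat.card (Subgroup.centralizer ({u'} : Set ↥𝔑)) : ℂ) - ((𝔏).index : ℂ)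
          - 2 * (m : ℂ)
          + (m : ℂ) ^ 2 * ((Nat.card ↥𝔑 : ℂ) - ((𝔏).index : ℂ)) / ((𝔏).index : ℂ) ^ 2 := by
      convert hsq using 2
    rw [h3, hcent, hidx, hN]
    push_cast
    field_simp
    ring
  have hmainZ : ((𝔢 : ℕ) : ℤ) * Z
      = ((𝔢 : ℕ) : ℤ) ^ 2 + 2 * m * ((𝔢 : ℕ) : ℤ) - m ^ 2 * ((Nat.card H : ℤ) - 1) := by
    have : (((((𝔢 : ℕ) : ℤ) * Z : ℤ)) : ℂ)
        = ((((𝔢 : ℕ) : ℤ) ^ 2 + 2 * m * ((𝔢 : ℕ) : ℤ) - m ^ 2 * ((Nat.card H : ℤ) - 1) : ℤ) : ℂ) := by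
      push_cast
      exact hmain
    exact_mod_cast this
  have hlt := C.hlt
  apply arith_m (𝔢 : ℤ) (Nat.card H : ℤ) m Z
  · exact_mod_cast he1
  · omega
  · have : ((𝔢 : ℕ) : ℤ) + 1 ≤ ((Finset.univ.filter
      (fun θ : IrrCharacter G => ¬ TIFN.IsExc 𝔏 star (θ : G → ℂ))).card : ℤ) := by
      exact_mod_cast hcard
    linarith
  · exact hmainZ

end

end FZ

end Cfsg.Agent.Lib.Helper2
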