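import Mathlib
import Cfsg.Prelude.Def_Characters
import Cfsg.Agent.Lib.Helper1.IndFun
import Cfsg.Agent.Lib.Helper1.CharFound3
import Cfsg.Agent.Lib.Helper1.CharFound5
import Cfsg.Agent.Lib.Helper1.CharFound6
import Cfsg.Agent.Lib.Helper4.Characters
import Cfsg.Agent.Lib.Helper4.CharTools
import Cfsg.Agent.Lib.Helper4.IndNormal
import Cfsg.Agent.S0146
import Cfsg.Agent.S0148
import Cfsg.Agent.S0161
import Cfsg.Agent.S0174
import Cfsg.Agent.S0193

set_option autoImplicit false

/-!
# Frobenius-kernel type facts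

`N` a finite group, `L` a normal subgroup with `C_N(k) ≤ L` for every `1 ≠ k ∈ L`.
* Brauer count: an element outside `L` fixes only the trivial irreducible character of `L`.
* Nonprincipal irreducible characters of `L` induce irreducibly to `N`.
* Every irreducible character of `N` not containing `L` in its kernel is so induced.
-/

namespace Cfsg.Agent.Lib.Helper2.FrobKer

open Cfsg Cfsg.Agent.Lib.Helper1 Cfsg.Agent.Lib.Helper4
open scoped ComplexConjugate

variable {N : Type*} [Group N] [Fintype N] (L : Subgroup N) [hLn : L.Normal] [Fintype L]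

/-- Brauer count. -/
theorem brauer_count (hC : ∀ k ∈ L, k ≠ 1 → Subgroup.centralizer ({k} : Set N) ≤ L)
    [Fintype (Cfsg.IrrCharacter L)] (x : N) (hx : x ∉ L) :
    ∑ θ : Cfsg.IrrCharacter L, Cfsg.classInner (conjFn L (θ : L → ℂ) x) (θ : L → ℂ) = 1 := by
  classical
  have hL0 : (Nat.card L : ℂ) ≠ 0 := Nat.cast_ne_zero.mpr Nat.card_pos.ne'
  simp only [classInner_def]
  rw [← Finset.mul_sum, Finset.sum_comm]
  have hk : ∀ k : L, ∑ θ : Cfsg.IrrCharacter L, conjFn L (θ : L → ℂ) x k * conj ((θ : L → ℂ) k)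
      = if k = 1 then (Nat.card L : ℂ) else 0 := by
    intro k
    have h1 := column_orthogonality (G := L) k ⟨x * k * x⁻¹, hLn.conj_mem k k.2 x⟩
    simp only [conjFn_apply]
    rw [h1]
    by_cases hk1 : k = 1
    · subst hk1
      rw [if_pos rfl]
      have hc : Subgroup.centralizer ({(1 : L)} : Set L) = ⊤ := by
        rw [eq_top_iff]
        intro y _
        rw [Subgroup.mem_centralizer_iff]
        intro z hz
        rw [Set.mem_singleton_iff] at hz
        subst hz
        simp
      rw [hc]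
      have : classIndicator (1 : L) ⟨x * ((1 : L) : N) * x⁻¹, hLn.conj_mem _ (1 : L).2 x⟩ = 1 := by
        unfold classIndicator
        rw [if_pos]
        have : (⟨x * ((1 : L) : N) * x⁻¹, hLn.conj_mem _ (1 : L).2 x⟩ : L) = 1 := by
          apply Subtype.ext
          simp
        rw [this]
      rw [this, mul_one]
      congr 1
      exact Nat.card_congr Subgroup.topEquiv.toEquiv
    · rw [if_neg hk1]
      have : classIndicator k ⟨x * (k : N) * x⁻¹, hLn.conj_mem k k.2 x⟩ = 0 := by
        unfold classIndicator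
        rw [if_neg]
        intro hcj
        obtain ⟨l, hl⟩ := isConj_iff.mp hcj
        have hl' : (l : N) * (k : N) * (l : N)⁻¹ = x * k * x⁻¹ := congrArg Subtype.val hl
        have hk1' : (k : N) ≠ 1 := fun h => hk1 (Subtype.ext h)
        have hmem : x⁻¹ * (l : N) ∈ Subgroup.centralizer ({(k : N)} : Set N) := by
          rw [Subgroup.mem_centralizer_iff]
          intro z hz
          rw [Set.mem_singleton_iff] at hz
          subst hz
          have : (k : N) = x⁻¹ * ((l : N) * (k : N) * (l : N)⁻¹) * x := by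
            rw [hl']; group
          calc (k : N) * (x⁻¹ * (l : N)) = x⁻¹ * ((l : N) * (k : N) * (l : N)⁻¹) * x * (x⁻¹ * l) := by
                rw [← this]
            _ = x⁻¹ * (l : N) * (k : N) := by group
        have := hC (k : N) k.2 hk1' hmem
        apply hx
        have h2 : x = (l : N) * (x⁻¹ * (l : N))⁻¹ := by group
        rw [h2]
        exact L.mul_mem l.2 (L.inv_mem this)
      rw [this, mul_zero]
  rw [Finset.sum_congr rfl fun k _ => hk k, Finset.sum_ite_eq' Finset.univ (1 : L)]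
  simp [hL0]

/-- An element outside `L` moves every nonprincipal irreducible character of `L`. -/
theorem conjFn_ne (hC : ∀ k ∈ L, k ≠ 1 → Subgroup.centralizer ({k} : Set N) ≤ L)
    {θ : L → ℂ} (hθ : Cfsg.IsIrrCharacter L θ) (hθ1 : θ ≠ fun _ => 1) (x : N) (hx : x ∉ L) :
    conjFn L θ x ≠ θ := by
  classical
  haveI : Fintype (Cfsg.IrrCharacter L) := Fintype.ofFinite _
  intro hfix
  have hcount := brauer_count L hC x hx
  have hterm : ∀ φ : Cfsg.IrrCharacter L, Cfsg.classInner (conjFn L (φ : L → ℂ) x) (φ : L → ℂ)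
      = if conjFn L (φ : L → ℂ) x = (φ : L → ℂ) then 1 else 0 := fun φ =>
    classInner_irr (isIrrCharacter_conjFn L φ.2 x) φ.2
  rw [Finset.sum_congr rfl fun φ _ => hterm φ, Finset.sum_boole] at hcount
  have hcard : (Finset.univ.filter fun φ : Cfsg.IrrCharacter L =>
      conjFn L (φ : L → ℂ) x = (φ : L → ℂ)).card = 1 := by exact_mod_cast hcount
  have h1mem : (⟨fun _ => 1, Cfsg.Agent.S0161.isIrrCharacter_one⟩ : Cfsg.IrrCharacter L) ∈
      Finset.univ.filter fun φ : Cfsg.IrrCharacter L => conjFn L (φ : L → ℂ) x = (φ : L → ℂ) := by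
    rw [Finset.mem_filter]
    refine ⟨Finset.mem_univ _, ?_⟩
    funext k
    rfl
  have h2mem : (⟨θ, hθ⟩ : Cfsg.IrrCharacter L) ∈
      Finset.univ.filter fun φ : Cfsg.IrrCharacter L => conjFn L (φ : L → ℂ) x = (φ : L → ℂ) := by
    rw [Finset.mem_filter]
    exact ⟨Finset.mem_univ _, hfix⟩
  have hne : (⟨θ, hθ⟩ : Cfsg.IrrCharacter L) ≠ ⟨fun _ => 1, Cfsg.Agent.S0161.isIrrCharacter_one⟩ := by
    intro h
    exact hθ1 (congrArg Subtype.val h)
  have := Finset.one_lt_card.mpr ⟨_, h2mem, _, h1mem, hne⟩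
  omega

/-- Nonprincipal irreducible characters of `L` induce irreducibly. -/
theorem isIrr_indFun (hC : ∀ k ∈ L, k ≠ 1 → Subgroup.centralizer ({k} : Set N) ≤ L)
    {θ : L → ℂ} (hθ : Cfsg.IsIrrCharacter L θ) (hθ1 : θ ≠ fun _ => 1) :
    Cfsg.IsIrrCharacter N (Cfsg.indFun L θ) := by
  classical
  have hL0 : (Nat.card L : ℂ) ≠ 0 := Nat.cast_ne_zero.mpr Nat.card_pos.ne'
  apply isIrrCharacter_of_norm_one (Cfsg.Agent.S0148.result L θ (isCharacter_of_irr hθ))
  rw [classInner_indFun_normal]
  have hterm : ∀ g : N, Cfsg.classInner θ (conjFn L θ g) = if g ∈ L then 1 else 0 := by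
    intro g
    rw [classInner_irr hθ (isIrrCharacter_conjFn L hθ g)]
    by_cases hg : g ∈ L
    · rw [if_pos hg, if_pos]
      funext k
      rw [conjFn_apply]
      have := isClassFunction_irr hθ k ⟨g, hg⟩
      rw [← this]
      rfl
    · rw [if_neg hg, if_neg]
      intro h
      exact conjFn_ne L hC hθ hθ1 g hg h.symm
  rw [Finset.sum_congr rfl fun g _ => hterm g, Finset.sum_boole]
  have : (Finset.univ.filter fun g : N => g ∈ L).card = Nat.card L := by
    rw [Nat.card_eq_fintype_card, Fintype.card_subtype]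
  rw [this]
  exact inv_mul_cancel₀ hL0

/-- Every irreducible character of `N` whose kernel does not contain `L` is induced from a
nonprincipal irreducible character of `L`. -/
theorem exists_induced (hC : ∀ k ∈ L, k ≠ 1 → Subgroup.centralizer ({k} : Set N) ≤ L)
    {χ : N → ℂ} (hχ : Cfsg.IsIrrCharacter N χ) (hk : ∃ k : N, k ∈ L ∧ χ k ≠ χ 1) :
    ∃ θ : L → ℂ, Cfsg.IsIrrCharacter L θ ∧ θ ≠ (fun _ => 1) ∧ χ = Cfsg.indFun L θ := by
  classical
  have hres : Cfsg.IsCharacter L (fun k : L => χ k) :=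
    Cfsg.Agent.S0148.isCharacter_restrict L (isCharacter_of_irr hχ)
  obtain ⟨θ, hθ, m, hm, hinner⟩ := exists_constituent hres (by
    show χ ((1 : L) : N) ≠ 0
    rw [OneMemClass.coe_one]
    exact irr_apply_one_ne_zero hχ)
  have hne0 : Cfsg.classInner (fun k : L => χ k) θ ≠ 0 := by
    rw [hinner]
    exact_mod_cast hm.ne'
  have hθ1 : θ ≠ fun _ => 1 := by
    intro h1
    subst h1
    obtain ⟨k, hkL, hkne⟩ := hk
    apply hkne
    have hcl := Cfsg.Agent.S0174.result L hLn χ hχ (fun _ => 1) Cfsg.Agent.S0161.isIrrCharacter_one hne0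
    have hset : {ψ : L → ℂ | ∃ g : N, ψ = fun n : L => (fun _ : L => (1 : ℂ))
        ⟨g * n * g⁻¹, hLn.conj_mem n n.2 g⟩} = {fun _ => 1} := by
      ext ψ
      simp only [Set.mem_setOf_eq, Set.mem_singleton_iff]
      constructor
      · rintro ⟨g, rfl⟩; rfl
      · intro h; exact ⟨1, h⟩
    rw [hset, finsum_mem_singleton] at hcl
    have h1 := congrFun hcl ⟨k, hkL⟩
    have h2 := congrFun hcl 1
    simp only [Pi.smul_apply, smul_eq_mul, mul_one] at h1 h2
    rw [OneMemClass.coe_one] at h2
    rw [h2]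
    exact h1
  refine ⟨θ, hθ, hθ1, ?_⟩
  have hirr := isIrr_indFun L hC hθ hθ1
  by_contra hne
  have h0 := classInner_irr_ne hirr hχ (fun h => hne h.symm)
  rw [Cfsg.Agent.S0146.result L θ χ (isClassFunction_irr hχ)] at h0
  apply hne0
  exact classInner_eq_zero_symm h0

end Cfsg.Agent.Lib.Helper2.FrobKer
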