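import Mathlib
import Cfsg.Prelude.Def_Characters
import Cfsg.Agent.Lib.Helper4.Characters
import Cfsg.Agent.Lib.Helper4.VirtualChar
import Cfsg.Agent.Lib.Helper4.Coherence
import Cfsg.Agent.S0161

set_option autoImplicit false

/-!
# Exceptional characters (combinatorial lemma)

A family `v i j` of generalized characters of `G` vanishing at `1` with `v i j + v j k = v i k`,
`‖v i j‖² = 2` and `⟨v i j, v i k⟩ = 1` is of the form `ε (f i - f j)` for a sign `ε` and an
injective family `f` of irreducible characters.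
-/

namespace Cfsg.Agent.Lib.Helper2.Exceptional

open Cfsg Cfsg.Agent.Lib.Helper1 Cfsg.Agent.Lib.Helper4
open scoped ComplexConjugate

variable {G : Type*} [Group G] [Fintype G]

theorem classInner_irr_zero_or_one {A P : G → ℂ} (hA : Cfsg.IsIrrCharacter G A)
    (hP : Cfsg.IsIrrCharacter G P) : Cfsg.classInner A P = 0 ∨ Cfsg.classInner A P = 1 := by
  rw [classInner_irr hA hP]
  split_ifs
  · right; rfl
  · left; rfl

theorem exists_diff {x : G → ℂ} (hx : Cfsg.IsGeneralizedCharacter G x)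
    (h2 : Cfsg.classInner x x = 2) (h1 : x 1 = 0) :
    ∃ A B : G → ℂ, Cfsg.IsIrrCharacter G A ∧ Cfsg.IsIrrCharacter G B ∧ A ≠ B ∧ x = A - B := by
  obtain ⟨ψ₁, ψ₂, h₁, h₂, hne, a, ha, rfl⟩ := genChar_norm_two_vanish hx h2 h1
  rcases ha with rfl | rfl
  · exact ⟨ψ₁, ψ₂, h₁, h₂, hne, by simp⟩
  · refine ⟨ψ₂, ψ₁, h₂, h₁, hne.symm, ?_⟩
    funext g
    simp only [Pi.sub_apply, Pi.smul_apply, smul_eq_mul]
    ring

theorem irr_of_norm_one_pos {x : G → ℂ} (hx : Cfsg.IsGeneralizedCharacter G x)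
    (h1 : Cfsg.classInner x x = 1) {n : ℕ} (hn : 0 < n) (hx1 : x 1 = n) :
    Cfsg.IsIrrCharacter G x := by
  obtain ⟨φ, hφ, hor⟩ := genChar_norm_one hx h1
  rcases hor with h | h
  · rw [h]; exact hφ
  · exfalso
    obtain ⟨m, hm, hφ1⟩ := irr_apply_one_pos hφ
    rw [h, Pi.neg_apply, hφ1] at hx1
    have : ((n + m : ℕ) : ℂ) = 0 := by
      push_cast
      rw [← hx1]
      ring
    have h0 : n + m = 0 := by exact_mod_cast this
    omega

/-- The hypotheses on the family. -/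
structure Sys {ι : Type*} (v : ι → ι → G → ℂ) : Prop where
  gen : ∀ i j, Cfsg.IsGeneralizedCharacter G (v i j)
  one : ∀ i j, v i j 1 = 0
  add : ∀ i j k, v i j + v j k = v i k
  norm : ∀ i j, i ≠ j → Cfsg.classInner (v i j) (v i j) = 2
  inner : ∀ i j k, i ≠ j → i ≠ k → j ≠ k → Cfsg.classInner (v i j) (v i k) = 1

variable {ι : Type*} {v : ι → ι → G → ℂ}

theorem Sys.self (h : Sys v) (i : ι) : v i i = 0 := by
  have := h.add i i i
  exact left_eq_add.mp this.symm |> fun h' => h'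

theorem Sys.symm (h : Sys v) (i j : ι) : v j i = -v i j := by
  have := h.add i j i
  rw [h.self] at this
  exact (neg_eq_of_add_eq_zero_right this).symm

theorem Sys.flip (h : Sys v) : Sys (fun i j => v j i) where
  gen := fun i j => h.gen j i
  one := fun i j => h.one j i
  add := fun i j k => by
    show v j i + v k j = v k i
    rw [add_comm]
    exact h.add k j i
  norm := fun i j hij => h.norm j i hij.symm
  inner := fun i j k hij hik hjk => by
    show Cfsg.classInner (v j i) (v k i) = 1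
    rw [h.symm i j, h.symm i k, classInner_neg_left, classInner_neg_right, neg_neg]
    exact h.inner i j k hij hik hjk

/-- Plus lemma. -/
theorem Sys.plus (h : Sys v) (i₀ : ι) {P : G → ℂ} (hP : Cfsg.IsIrrCharacter G P)
    (hc : ∀ j, j ≠ i₀ → Cfsg.classInner (v i₀ j) P = 1) :
    ∃ f : ι → Cfsg.IrrCharacter G, Function.Injective f ∧
      ∀ i j, v i j = (f i : G → ℂ) - (f j : G → ℂ) := by
  classical
  obtain ⟨n, hn, hP1⟩ := irr_apply_one_pos hP
  have hirr : ∀ i, Cfsg.IsIrrCharacter G (P - v i₀ i) := by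
    intro i
    by_cases hi : i = i₀
    · subst hi
      rw [h.self, sub_zero]
      exact hP
    · apply irr_of_norm_one_pos (isGenChar_sub (isGenChar_of_irr hP) (h.gen i₀ i)) _ hn
      · rw [Pi.sub_apply, h.one, sub_zero, hP1]
      · have h1 := hc i hi
        have h2 : Cfsg.classInner P (v i₀ i) = 1 := by
          rw [← classInner_conj_symm, h1, map_one]
        rw [classInner_sub_left, classInner_sub_right, classInner_sub_right,
          classInner_irr_self hP, h1, h2, h.norm i₀ i (Ne.symm hi)]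
        norm_num
  refine ⟨fun i => ⟨P - v i₀ i, hirr i⟩, ?_, ?_⟩
  · intro i j hij
    by_contra hne
    have h1 : P - v i₀ i = P - v i₀ j := congrArg Subtype.val hij
    have h2 : v i₀ i = v i₀ j := sub_right_injective h1
    have h3 := h.add i₀ i j
    rw [h2] at h3
    have h4 : v i j = 0 := left_eq_add.mp h3.symm
    have h5 := h.norm i j hne
    rw [h4, classInner_zero_left] at h5
    norm_num at h5
  · intro i j
    show v i j = (P - v i₀ i) - (P - v i₀ j)
    rw [← h.add i₀ i j]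
    abel

theorem key_aux {A B P M : G → ℂ} (hA : Cfsg.IsIrrCharacter G A) (hB : Cfsg.IsIrrCharacter G B)
    (hP : Cfsg.IsIrrCharacter G P) (hM : Cfsg.IsIrrCharacter G M) (hBM : B ≠ M)
    (e : Cfsg.classInner A M - Cfsg.classInner B M
      = Cfsg.classInner A P - Cfsg.classInner B P - 1) :
    Cfsg.classInner A P - Cfsg.classInner B P = 1 := by
  rw [classInner_irr_ne hB hM hBM, sub_zero] at e
  rcases classInner_irr_zero_or_one hA hM with h1 | h1
  · rw [h1] at e
    linear_combination -e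
  · exfalso
    rw [h1] at e
    rcases classInner_irr_zero_or_one hA hP with h2 | h2 <;>
    rcases classInner_irr_zero_or_one hB hP with h3 | h3 <;>
    rw [h2, h3] at e <;> norm_num at e

/-- Key claim. -/
theorem Sys.key (h : Sys v) {i₀ j₀ k₀ : ι} (h01 : i₀ ≠ j₀) (h02 : i₀ ≠ k₀) (h12 : j₀ ≠ k₀)
    {P : G → ℂ} (hP : Cfsg.IsIrrCharacter G P)
    (hc0 : Cfsg.classInner (v i₀ j₀) P = 1) (hc1 : Cfsg.classInner (v i₀ k₀) P = 1) :
    ∀ j, j ≠ i₀ → Cfsg.classInner (v i₀ j) P = 1 := by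
  classical
  intro j hj
  by_cases hj0 : j = j₀
  · rw [hj0]; exact hc0
  by_cases hj1 : j = k₀
  · rw [hj1]; exact hc1
  obtain ⟨n, hn, hP1⟩ := irr_apply_one_pos hP
  -- M0, M1 irreducible
  have hM : ∀ t, t ≠ i₀ → Cfsg.classInner (v i₀ t) P = 1 → Cfsg.IsIrrCharacter G (P - v i₀ t) := by
    intro t ht h1
    apply irr_of_norm_one_pos (isGenChar_sub (isGenChar_of_irr hP) (h.gen i₀ t)) _ hn
    · rw [Pi.sub_apply, h.one, sub_zero, hP1]
    · have h2 : Cfsg.classInner P (v i₀ t) = 1 := by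
        rw [← classInner_conj_symm, h1, map_one]
      rw [classInner_sub_left, classInner_sub_right, classInner_sub_right,
        classInner_irr_self hP, h1, h2, h.norm i₀ t (Ne.symm ht)]
      norm_num
  have hM0 := hM j₀ h01.symm hc0
  have hM1 := hM k₀ h02.symm hc1
  have hM01 : P - v i₀ j₀ ≠ P - v i₀ k₀ := by
    intro heq
    have h2 : v i₀ j₀ = v i₀ k₀ := sub_right_injective heq
    have h3 := h.inner i₀ j₀ k₀ h01 h02 h12
    rw [← h2, h.norm i₀ j₀ h01] at h3
    norm_num at h3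
  obtain ⟨A, B, hA, hB, hAB, hx⟩ := exists_diff (h.gen i₀ j) (h.norm i₀ j (Ne.symm hj)) (h.one i₀ j)
  -- inner products with M0 and M1
  have hxM0 : Cfsg.classInner (v i₀ j) (P - v i₀ j₀) = Cfsg.classInner (v i₀ j) P - 1 := by
    rw [classInner_sub_right, h.inner i₀ j j₀ (Ne.symm hj) h01 hj0]
  have hxM1 : Cfsg.classInner (v i₀ j) (P - v i₀ k₀) = Cfsg.classInner (v i₀ j) P - 1 := by
    rw [classInner_sub_right, h.inner i₀ j k₀ (Ne.symm hj) h02 hj1]
  rw [hx] at hxM0 hxM1 ⊢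
  simp only [classInner_sub_left] at hxM0 hxM1 ⊢
  have hBne : B ≠ P - v i₀ j₀ ∨ B ≠ P - v i₀ k₀ := by
    by_contra hcon
    push Not at hcon
    exact hM01 (hcon.1.symm.trans hcon.2)
  rcases hBne with hBne | hBne
  · exact key_aux hA hB hP hM0 hBne hxM0
  · exact key_aux hA hB hP hM1 hBne hxM1

/-- Dichotomy. -/
theorem Sys.dich (h : Sys v) {i₀ j₀ k₀ : ι} (h01 : i₀ ≠ j₀) (h02 : i₀ ≠ k₀) (h12 : j₀ ≠ k₀) :
    ∃ P : G → ℂ, Cfsg.IsIrrCharacter G P ∧
      ((Cfsg.classInner (v i₀ j₀) P = 1 ∧ Cfsg.classInner (v i₀ k₀) P = 1) ∨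
       (Cfsg.classInner (v i₀ j₀) P = -1 ∧ Cfsg.classInner (v i₀ k₀) P = -1)) := by
  classical
  obtain ⟨P0, M0, hP0, hM0, hne0, hu⟩ := exists_diff (h.gen i₀ j₀) (h.norm i₀ j₀ h01) (h.one i₀ j₀)
  obtain ⟨P1, M1, hP1, hM1, hne1, hw⟩ := exists_diff (h.gen i₀ k₀) (h.norm i₀ k₀ h02) (h.one i₀ k₀)
  have hin := h.inner i₀ j₀ k₀ h01 h02 h12
  rw [hu, hw, classInner_sub_left, classInner_sub_right, classInner_sub_right] at hin
  by_cases hPP : P0 = P1
  · subst hPP
    refine ⟨P0, hP0, Or.inl ⟨?_, ?_⟩⟩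
    · rw [hu, classInner_sub_left, classInner_irr_self hP0, classInner_irr_ne hM0 hP0 hne0.symm, sub_zero]
    · rw [hw, classInner_sub_left, classInner_irr_self hP0, classInner_irr_ne hM1 hP0 hne1.symm, sub_zero]
  · by_cases hMM : M0 = M1
    · subst hMM
      refine ⟨M0, hM0, Or.inr ⟨?_, ?_⟩⟩
      · rw [hu, classInner_sub_left, classInner_irr_self hM0, classInner_irr_ne hP0 hM0 hne0, zero_sub]
      · rw [hw, classInner_sub_left, classInner_irr_self hM0, classInner_irr_ne hP1 hM0 hne1, zero_sub]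
    · exfalso
      rw [classInner_irr_ne hP0 hP1 hPP, classInner_irr_ne hM0 hM1 hMM] at hin
      rcases classInner_irr_zero_or_one hP0 hM1 with h1 | h1 <;>
      rcases classInner_irr_zero_or_one hM0 hP1 with h2 | h2 <;>
      rw [h1, h2] at hin <;> norm_num at hin

/-- Main theorem on exceptional characters. -/
theorem Sys.main (h : Sys v) :
    ∃ ε : ℂ, (ε = 1 ∨ ε = -1) ∧ ∃ f : ι → Cfsg.IrrCharacter G, Function.Injective f ∧
      ∀ i j, v i j = ε • ((f i : G → ℂ) - (f j : G → ℂ)) := by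
  classical
  by_cases h3 : ∃ i₀ j₀ k₀ : ι, i₀ ≠ j₀ ∧ i₀ ≠ k₀ ∧ j₀ ≠ k₀
  · obtain ⟨i₀, j₀, k₀, h01, h02, h12⟩ := h3
    obtain ⟨P, hP, hcase | hcase⟩ := h.dich h01 h02 h12
    · obtain ⟨f, hf, hv⟩ := h.plus i₀ hP (h.key h01 h02 h12 hP hcase.1 hcase.2)
      exact ⟨1, Or.inl rfl, f, hf, fun i j => by rw [one_smul]; exact hv i j⟩
    · have hfl := h.flip
      have hc0 : Cfsg.classInner ((fun i j => v j i) i₀ j₀) P = 1 := by
        show Cfsg.classInner (v j₀ i₀) P = 1
        rw [h.symm i₀ j₀, classInner_neg_left, hcase.1, neg_neg]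
      have hc1 : Cfsg.classInner ((fun i j => v j i) i₀ k₀) P = 1 := by
        show Cfsg.classInner (v k₀ i₀) P = 1
        rw [h.symm i₀ k₀, classInner_neg_left, hcase.2, neg_neg]
      obtain ⟨f, hf, hv⟩ := hfl.plus i₀ hP (hfl.key h01 h02 h12 hP hc0 hc1)
      refine ⟨-1, Or.inr rfl, f, hf, fun i j => ?_⟩
      have := hv j i
      rw [this]
      simp
  · push Not at h3
    by_cases h2 : ∃ i₀ j₀ : ι, i₀ ≠ j₀
    · obtain ⟨i₀, j₀, h01⟩ := h2
      obtain ⟨A, B, hA, hB, hAB, hx⟩ := exists_diff (h.gen i₀ j₀) (h.norm i₀ j₀ h01) (h.one i₀ j₀)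
      have hc : ∀ j, j ≠ i₀ → Cfsg.classInner (v i₀ j) A = 1 := by
        intro j hj
        have hj0 : j = j₀ := by
          by_contra hne
          exact hne (h3 i₀ j₀ j h01 (Ne.symm hj)).symm
        rw [hj0, hx, classInner_sub_left, classInner_irr_self hA, classInner_irr_ne hB hA hAB.symm,
          sub_zero]
      obtain ⟨f, hf, hv⟩ := h.plus i₀ hA hc
      exact ⟨1, Or.inl rfl, f, hf, fun i j => by rw [one_smul]; exact hv i j⟩
    · push Not at h2
      refine ⟨1, Or.inl rfl, fun _ => ⟨fun _ => 1, Cfsg.Agent.S0161.isIrrCharacter_one⟩, ?_, ?_⟩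
      · intro i j _
        exact h2 i j
      · intro i j
        rw [h2 i j, h.self, sub_self, smul_zero]

end Cfsg.Agent.Lib.Helper2.Exceptional
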