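import Mathlib
import Cfsg.Agent.Lib.Helper2.FZ27
import Cfsg.Agent.Lib.Helper4.FrobTI2
import Cfsg.Agent.Lib.Helper4.PF7d

set_option autoImplicit false

/-! Feit's Zassenhaus groups: the coherent case, an irreducible character of small degree. -/

namespace Cfsg.Agent.Lib.Helper2

namespace FZ

open MulAction Cfsg Cfsg.Agent.Lib.Lead.Zass Cfsg.Agent.Lib.Helper1 Cfsg.Agent.Lib.Helper4
open scoped ComplexConjugate

section
variable {G Ω : Type*} [Group G] [Fintype G] [MulAction G Ω] [Fintype Ω] {a b : Ω}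
  {H : Subgroup G}

local notation "𝔑" => MulAction.stabilizer G a
local notation "𝔏" => Subgroup.subgroupOf H (MulAction.stabilizer G a)
local notation "𝔖" => TIFN.Sset (Subgroup.subgroupOf H (MulAction.stabilizer G a))
set_option quotPrecheck false in
local notation "𝔢" =>
  Nat.card ↥(MulAction.stabilizer G a ⊓ MulAction.stabilizer G b : Subgroup G)

variable [Fintype ↥(MulAction.stabilizer G a)]

theorem FData.L_ne_bot (F : FData G Ω a b H) : (𝔏) ≠ ⊥ := by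
  intro h
  obtain ⟨u, hu, hu1⟩ := F.exists_ne_one
  have h1 : (⟨u, F.hHa hu⟩ : ↥𝔑) ∈ 𝔏 := Subgroup.mem_subgroupOf.mpr hu
  rw [h, Subgroup.mem_bot] at h1
  exact hu1 (congrArg Subtype.val h1)

theorem FData.L_ne_top (F : FData G Ω a b H) : (𝔏) ≠ ⊤ := by
  intro h
  rw [Subgroup.subgroupOf_eq_top] at h
  exact absurd (le_antisymm F.hHa h) (ne_of_lt F.lt)

/-- a character in `S` of degree `e`. -/
theorem FData.exists_zeta [hLn : (𝔏).Normal] [Fintype ↥𝔏] (F : FData G Ω a b H) :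
    ∃ ζ ∈ 𝔖, ζ 1 = ((𝔏).index : ℂ) := by
  haveI hnil : Group.IsNilpotent ↥𝔏 :=
    FrobTI.isNilpotent_kernel 𝔏 F.hyp.cent F.L_ne_bot F.L_ne_top
  haveI : Nontrivial ↥𝔏 := (Subgroup.nontrivial_iff_ne_bot _).mpr F.L_ne_bot
  obtain ⟨ζ, hζ⟩ := FrobTI.X_nonempty (K := 𝔏)
  refine ⟨ζ, ?_, FrobTI.X_one hζ⟩
  obtain ⟨θ, hθ, rfl⟩ := hζ
  have hmem : indFun 𝔏 θ ∈ inducedIrrAbove 𝔏 ⊥ := by
    refine ⟨θ, hθ.1, hθ.2.2, ?_, rfl⟩
    intro x hx
    rw [Subgroup.mem_bot] at hx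
    have : x = 1 := Subtype.ext hx
    rw [this]
  rw [← PF7.frob_set_eq 𝔏 F.hyp.cent] at hmem
  exact hmem

variable {star : (↥(MulAction.stabilizer G a) → ℂ) → (G → ℂ)}

/-- when the constant vanishes the extension restricts to the original character. -/
theorem CData.restrict_eq [IsSimpleGroup G] [hLn : (𝔏).Normal] [Fintype ↥𝔏]
    (C : CData G Ω a b H star)
    (hm0 : ∀ χ ∈ 𝔖, ∀ k : ↥𝔑, k ∈ 𝔏 → k ≠ 1 → star χ k = χ k) {ζ : ↥𝔑 → ℂ} (hζ : ζ ∈ 𝔖)
    (x : ↥𝔑) : star ζ x = ζ x := by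
  classical
  have hζz := mem_zspan_of_mem hζ
  have hg : IsGeneralizedCharacter G (star ζ) := lio_genChar C.hstar hζz
  obtain ⟨θ, hθ, hor⟩ := TIFN.star_pm_irr C.hstar hζ
  have hexc : TIFN.IsExc 𝔏 star θ := by
    refine ⟨ζ, hζ, ?_⟩
    rcases hor with h | h
    · exact Or.inl h.symm
    · right; rw [h, neg_neg]
  obtain ⟨u, hu, v, hv, hu1, hv1, huv⟩ := C.exc_nonconst hθ hexc
  have hρcf : IsClassFunction ↥𝔑 (fun x : ↥𝔑 => star ζ x) :=
    isGenChar_isClassFunction (TIFN.isGenChar_restrict 𝔑 hg)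
  have hρorth : ∀ η : ↥𝔑 → ℂ, IsIrrCharacter ↥𝔑 η → η ∉ 𝔖 →
      classInner (fun x : ↥𝔑 => star ζ x) η = 0 := by
    intro η hη hηS
    by_contra hne
    have h1 : classInner (indFun 𝔑 η) (star ζ) ≠ 0 := by
      rw [Cfsg.Agent.S0146.result 𝔑 η (star ζ) (isGenChar_isClassFunction hg)]
      intro h0
      exact hne (classInner_eq_zero_symm h0)
    have h2 : classInner (indFun 𝔑 η) θ ≠ 0 := by
      intro h0
      apply h1
      rcases hor with h | h
      · rw [h, h0]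
      · rw [h, classInner_neg_right, h0, neg_zero]
    rcases C.F.meets_T hη hηS hθ h2 with h3 | h3
    · apply huv
      rw [h3, C.F.thetaChar_apply_H hu hu1, C.F.thetaChar_apply_H hv hv1]
    · apply huv
      rw [h3 u hu hu1, h3 v hv hv1]
  obtain ⟨hρv, hρsum⟩ := C.F.hyp.support hρcf hρorth
  have hζorth : ∀ η : ↥𝔑 → ℂ, IsIrrCharacter ↥𝔑 η → η ∉ 𝔖 → classInner ζ η = 0 := by
    intro η hη hηS
    apply classInner_irr_ne hζ.1 hη
    rintro rfl
    exact hηS hζ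
  obtain ⟨hζv, hζsum⟩ := C.F.hyp.support (isClassFunction_irr hζ.1) hζorth
  have hoff : ∀ y : ↥𝔑, y ≠ 1 → star ζ y = ζ y := by
    intro y hy1
    by_cases hyL : y ∈ 𝔏
    · exact hm0 ζ hζ y hyL hy1
    · rw [hρv y hyL, hζv y hyL]
  have hone : star ζ ((1 : ↥𝔑) : G) = ζ 1 := by
    have hdiff : ∑ y : ↥𝔑, (star ζ y - ζ y) = 0 := by
      rw [Finset.sum_sub_distrib, hρsum, hζsum, sub_zero]
    rw [Finset.sum_eq_single (1 : ↥𝔑)] at hdiff
    · exact sub_eq_zero.mp hdiff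
    · intro y _ hy1
      rw [hoff y hy1, sub_self]
    · intro h; exact absurd (Finset.mem_univ _) h
  by_cases hx1 : x = 1
  · rw [hx1]; exact hone
  · exact hoff x hx1

end

end FZ

end Cfsg.Agent.Lib.Helper2
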