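import Mathlib
import Cfsg.Agent.Lib.Helper2.FZ28
import Cfsg.Agent.Lib.Helper1.CharFound8
import Cfsg.Agent.S0177

set_option autoImplicit false

/-! Feit's Zassenhaus groups: the coherent case is impossible. -/

namespace Cfsg.Agent.Lib.Helper2

namespace FZ

open MulAction Cfsg Cfsg.Agent.Lib.Lead.Zass Cfsg.Agent.Lib.Helper1 Cfsg.Agent.Lib.Helper4
open scoped ComplexConjugate

/-- a lower bound for the degree of a character from some of its constituents. -/
theorem char_degree_ge {G : Type*} [Group G] [Fintype G] [Fintype (IrrCharacter G)] {ψ : G → ℂ}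
    (hψ : IsCharacter G ψ) (D : Finset (IrrCharacter G)) (n : ℕ) (hn : ψ 1 = n)
    (w : IrrCharacter G → ℕ)
    (hw : ∀ θ ∈ D, classInner ψ (θ : G → ℂ) * (θ : G → ℂ) 1 = (w θ : ℂ)) :
    ∑ θ ∈ D, w θ ≤ n := by
  classical
  have hm : ∀ θ : IrrCharacter G, ∃ k : ℕ, classInner ψ (θ : G → ℂ) = k :=
    fun θ => classInner_char_irr_nat hψ θ.2
  choose mf hmf using hm
  have hd : ∀ θ : IrrCharacter G, ∃ d : ℕ, 0 < d ∧ (θ : G → ℂ) 1 = d :=
    fun θ => irr_apply_one_pos θ.2
  choose df _ hdf using hd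
  have hexp := congrFun (class_function_expansion ψ (isClassFunction_of_isCharacter hψ)) 1
  rw [Finset.sum_apply] at hexp
  have h1 : (n : ℂ) = ((∑ θ : IrrCharacter G, mf θ * df θ : ℕ) : ℂ) := by
    rw [← hn, hexp]
    push_cast
    refine Finset.sum_congr rfl fun θ _ => ?_
    rw [Pi.smul_apply, smul_eq_mul, hmf θ, hdf θ]
  have h2 : n = ∑ θ : IrrCharacter G, mf θ * df θ := by exact_mod_cast h1
  have h3 : ∀ θ ∈ D, w θ = mf θ * df θ := by
    intro θ hθ
    have := hw θ hθ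
    rw [hmf θ, hdf θ] at this
    exact_mod_cast this.symm
  rw [h2, Finset.sum_congr rfl h3]
  exact Finset.sum_le_sum_of_subset_of_nonneg (Finset.subset_univ D) (fun _ _ _ => Nat.zero_le _)

theorem arith_final (e h d : ℕ) (he : 2 ≤ e) (hlt : 2 * e < h - 1) (hd : e - 1 ≤ 2 * d)
    (hsq : 1 + d * (h + 1) ≤ e ^ 2) : False := by
  have h1 : 2 * e + 3 ≤ h + 1 := by omega
  have h2 : d * (2 * e + 3) ≤ d * (h + 1) := Nat.mul_le_mul_left d h1
  have h3 : (e - 1) * (2 * e + 3) ≤ 2 * d * (2 * e + 3) := Nat.mul_le_mul_right _ hd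
  obtain ⟨k, rfl⟩ : ∃ k, e = k + 2 := ⟨e - 2, by omega⟩
  have h4 : k + 2 - 1 = k + 1 := by omega
  rw [h4] at h3
  nlinarith

section
variable {G Ω : Type*} [Group G] [Fintype G] [MulAction G Ω] [Fintype Ω] {a b : Ω}
  {H : Subgroup G}

local notation "𝔑" => MulAction.stabilizer G a
local notation "𝔏" => Subgroup.subgroupOf H (MulAction.stabilizer G a)
local notation "𝔖" => TIFN.Sset (Subgroup.subgroupOf H (MulAction.stabilizer G a))
set_option quotPrecheck false in
local notation "𝔢" =>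
  Nat.card ↥(MulAction.stabilizer G a ⊓ MulAction.stabilizer G b : Subgroup G)

variable [Fintype ↥(MulAction.stabilizer G a)]

theorem FData.e_ge_two (F : FData G Ω a b H) : 2 ≤ 𝔢 := by
  have h1 : 1 ≤ 𝔢 := Nat.card_pos
  by_contra hlt
  have h2 : 𝔢 = 1 := by omega
  have h3 := F.index_L
  rw [h2, Subgroup.index_eq_one] at h3
  exact F.L_ne_top h3

/-- the inner product of the square of the small character with an induced linear character. -/
theorem FData.inner_sq_ind [hLn : (𝔏).Normal] [Fintype ↥𝔏] (F : FData G Ω a b H)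
    {ζ : ↥𝔑 → ℂ} (hζ : ζ ∈ 𝔖) {Λ : G → ℂ} (hΛ : IsCharacter G (fun g => Λ g * conj (Λ g)))
    (hres : ∀ x : ↥𝔑, Λ x = ζ x) (φ : ↥𝔑 →* ℂˣ)
    (hL : ∀ x : ↥𝔑, (x : G) ∈ H → φ x = 1) :
    classInner (fun g => Λ g * conj (Λ g)) (indFun 𝔑 (fun g => ((φ g : ℂˣ) : ℂ))) = 1 := by
  rw [← classInner_conj_symm,
    Cfsg.Agent.S0146.result 𝔑 _ _ (isClassFunction_of_isCharacter hΛ)]
  have h1 : classInner (fun g : ↥𝔑 => ((φ g : ℂˣ) : ℂ))
      (fun x : ↥𝔑 => Λ x * conj (Λ x)) = classInner ζ ζ := by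
    rw [classInner_def, classInner_def]
    congr 1
    refine Finset.sum_congr rfl fun x _ => ?_
    rw [hres x]
    by_cases hx : x ∈ 𝔏
    · rw [hL x (Subgroup.mem_subgroupOf.mp hx)]
      simp only [Units.val_one, one_mul, map_mul, Complex.conj_conj]
      ring
    · rw [F.hyp.vanish hζ hx]
      simp
  rw [h1, classInner_irr_self hζ.1, map_one]

end

end FZ

end Cfsg.Agent.Lib.Helper2
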