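import Mathlib
import Cfsg.Agent.Lib.Helper2.FZ29

set_option autoImplicit false

/-! Feit's Zassenhaus groups: the coherent case is impossible (conclusion). -/

namespace Cfsg.Agent.Lib.Helper2

namespace FZ

open MulAction Cfsg Cfsg.Agent.Lib.Lead.Zass Cfsg.Agent.Lib.Helper1 Cfsg.Agent.Lib.Helper4
open scoped ComplexConjugate

section
variable {G Ω : Type*} [Group G] [Fintype G] [MulAction G Ω] [Fintype Ω] {a b : Ω}
  {H : Subgroup G}

local notation "𝔑" => MulAction.stabilizer G a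
local notation "𝔏" => Subgroup.subgroupOf H (MulAction.stabilizer G a)
local notation "𝔖" => TIFN.Sset (Subgroup.subgroupOf H (MulAction.stabilizer G a))
set_option quotPrecheck false in
local notation "𝔢" =>
  Nat.card ↥(MulAction.stabilizer G a ⊓ MulAction.stabilizer G b : Subgroup G)

variable [Fintype ↥(MulAction.stabilizer G a)]
  {star : (↥(MulAction.stabilizer G a) → ℂ) → (G → ℂ)}

/-- the number of distinct induced characters. -/
theorem FData.exists_family [IsSimpleGroup G] (F : FData G Ω a b H)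
    [Fintype (IrrCharacter G)] [DecidableEq (IrrCharacter G)] :
    ∃ D : Finset (IrrCharacter G), 𝔢 - 1 ≤ 2 * D.card ∧
      ∀ θ ∈ D, ∃ φ : ↥𝔑 →* ℂˣ, (∀ x : ↥𝔑, (x : G) ∈ H → φ x = 1) ∧ φ ≠ 1 ∧
        (θ : G → ℂ) = indFun 𝔑 (fun g => ((φ g : ℂˣ) : ℂ)) := by
  classical
  obtain ⟨r, hrs, hrL⟩ := F.exists_retr
  haveI := F.isCyclic_Ecomp
  have hcardhom : Nat.card (↥(Ecomp G a b) →* ℂˣ) = 𝔢 := by
    rw [card_hom_cyclic, F.card_Ecomp]
  have hfin : Finite (↥(Ecomp G a b) →* ℂˣ) := by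
    apply Nat.finite_of_card_ne_zero
    rw [hcardhom]
    exact Nat.card_pos.ne'
  letI : Fintype (↥(Ecomp G a b) →* ℂˣ) := Fintype.ofFinite _
  have htriv : ∀ ψ : ↥(Ecomp G a b) →* ℂˣ, ∀ x : ↥𝔑, (x : G) ∈ H → (ψ.comp r) x = 1 := by
    intro ψ x hx
    rw [MonoidHom.comp_apply, hrL x (Subgroup.mem_subgroupOf.mpr hx), map_one]
  have hinj : ∀ ψ ψ' : ↥(Ecomp G a b) →* ℂˣ, ψ.comp r = ψ'.comp r → ψ = ψ' := by
    intro ψ ψ' h
    ext y
    obtain ⟨x, rfl⟩ := hrs y
    have h1 := DFunLike.congr_fun h x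
    simp only [MonoidHom.comp_apply] at h1
    rw [h1]
  have hne1 : ∀ ψ : ↥(Ecomp G a b) →* ℂˣ, ψ ≠ 1 → ψ.comp r ≠ 1 := by
    intro ψ hψ h
    apply hψ
    apply hinj
    rw [h]
    ext x
    simp
  let f : (↥(Ecomp G a b) →* ℂˣ) → IrrCharacter G := fun ψ =>
    if h : ψ = 1 then ⟨fun _ => 1, one_irr' G⟩
    else ⟨indFun 𝔑 (fun g => (((ψ.comp r) g : ℂˣ) : ℂ)),
      F.ind_irr (ψ.comp r) (htriv ψ) (hne1 ψ h)⟩
  set s : Finset (↥(Ecomp G a b) →* ℂˣ) := Finset.univ.erase 1 with hs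
  refine ⟨s.image f, ?_, ?_⟩
  · have hscard : s.card = 𝔢 - 1 := by
      rw [hs, Finset.card_erase_of_mem (Finset.mem_univ _), Finset.card_univ,
        ← Nat.card_eq_fintype_card, hcardhom]
    rw [← hscard]
    apply Finset.card_le_mul_card_image
    intro y hy
    rw [Finset.mem_image] at hy
    obtain ⟨ψ₀, hψ₀s, rfl⟩ := hy
    have hψ₀1 : ψ₀ ≠ 1 := by
      rw [hs, Finset.mem_erase] at hψ₀s
      exact hψ₀s.1
    have hsub : s.filter (fun ψ => f ψ = f ψ₀) ⊆ {ψ₀, ψ₀⁻¹} := by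
      intro ψ hψ
      rw [Finset.mem_filter] at hψ
      obtain ⟨hψs, hfeq⟩ := hψ
      have hψ1 : ψ ≠ 1 := by
        rw [hs, Finset.mem_erase] at hψs
        exact hψs.1
      simp only [f, dif_neg hψ1, dif_neg hψ₀1] at hfeq
      have hfeq' := congrArg Subtype.val hfeq
      simp only at hfeq'
      rw [Finset.mem_insert, Finset.mem_singleton]
      by_contra hcon
      push Not at hcon
      apply F.ind_ne (ψ₀.comp r) (ψ.comp r) (htriv ψ₀) (htriv ψ) (hne1 ψ₀ hψ₀1) _ _ hfeq'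
      · intro h
        exact hcon.1 (hinj _ _ h)
      · intro h
        apply hcon.2
        apply hinj
        rw [h]
        ext x
        simp
    calc (s.filter (fun ψ => f ψ = f ψ₀)).card ≤ ({ψ₀, ψ₀⁻¹} : Finset _).card :=
          Finset.card_le_card hsub
      _ ≤ 2 := Finset.card_le_two
  · intro θ hθ
    rw [Finset.mem_image] at hθ
    obtain ⟨ψ, hψs, rfl⟩ := hθ
    have hψ1 : ψ ≠ 1 := by
      rw [hs, Finset.mem_erase] at hψs
      exact hψs.1
    refine ⟨ψ.comp r, htriv ψ, hne1 ψ hψ1, ?_⟩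
    simp only [f, dif_neg hψ1]

/-- the coherent case is impossible. -/
theorem CData.false [IsSimpleGroup G] [hLn : (𝔏).Normal] [Fintype ↥𝔏]
    (C : CData G Ω a b H star) : False := by
  classical
  letI : Fintype (IrrCharacter G) := Fintype.ofFinite _
  obtain ⟨m, hm⟩ := C.F.hyp.main_const C.hstar C.hext
  have hm0' := C.m_eq_zero m hm
  have hm0 : ∀ χ ∈ 𝔖, ∀ k : ↥𝔑, k ∈ 𝔏 → k ≠ 1 → star χ k = χ k := by
    intro χ hχ k hk hk1
    have := hm χ hχ k hk hk1
    rw [hm0'] at this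
    simp only [Int.cast_zero, zero_mul, zero_div] at this
    exact sub_eq_zero.mp this
  obtain ⟨ζ, hζ, hζ1⟩ := C.F.exists_zeta
  have hres := C.restrict_eq hm0 hζ
  have hidx := C.F.index_L
  have hone : star ζ 1 = (𝔢 : ℂ) := by
    have := hres 1
    rw [hζ1, hidx] at this
    exact this
  obtain ⟨θ, hθ, hor⟩ := TIFN.star_pm_irr C.hstar hζ
  have hΛ : IsIrrCharacter G (star ζ) := by
    rcases hor with h | h
    · rw [h]; exact hθ
    · exfalso
      obtain ⟨d, hd, hd1⟩ := irr_apply_one_pos hθ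
      rw [h, Pi.neg_apply, hd1] at hone
      have h2 : ((d + 𝔢 : ℕ) : ℂ) = 0 := by
        push_cast
        linear_combination -hone
      have h3 : d + 𝔢 = 0 := by exact_mod_cast h2
      omega
  set ψ : G → ℂ := fun g => star ζ g * conj (star ζ g) with hψdef
  have hψ : IsCharacter G ψ :=
    Cfsg.Agent.S0177.isCharacter_mul (isCharacter_of_irr hΛ)
      (isCharacter_of_irr (isIrrCharacter_conj hΛ))
  have hψ1 : ψ 1 = ((𝔢 ^ 2 : ℕ) : ℂ) := by
    rw [hψdef]
    simp only
    rw [hone]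
    simp only [map_natCast]
    push_cast
    ring
  obtain ⟨D, hDcard, hD⟩ := C.F.exists_family
  let one' : IrrCharacter G := ⟨fun _ => 1, one_irr' G⟩
  have hone'D : one' ∉ D := by
    intro hmem
    obtain ⟨φ, -, -, h1⟩ := hD one' hmem
    have h2 := congrFun h1 1
    rw [C.F.ind_apply_one φ] at h2
    have h3 : ((Nat.card H : ℕ) : ℂ) = 0 := by
      have : (1 : ℂ) = (Nat.card H : ℂ) + 1 := h2
      linear_combination -this
    have h4 : Nat.card H = 0 := by exact_mod_cast h3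
    have := Nat.card_pos (α := H)
    omega
  have hsum := char_degree_ge hψ (insert one' D) (𝔢 ^ 2) hψ1
    (fun θ => if θ = one' then 1 else Nat.card H + 1) (by
      intro θ hθ
      rw [Finset.mem_insert] at hθ
      rcases hθ with rfl | hθ
      · rw [if_pos rfl]
        show classInner ψ (fun _ => (1 : ℂ)) * 1 = ((1 : ℕ) : ℂ)
        have hinn : classInner ψ (fun _ => (1 : ℂ)) = classInner (star ζ) (star ζ) := by
          rw [classInner_def, classInner_def]
          congr 1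
          refine Finset.sum_congr rfl fun g _ => ?_
          simp [hψdef]
        rw [hinn, classInner_irr_self hΛ, mul_one, Nat.cast_one]
      · have hne : θ ≠ one' := fun h => hone'D (h ▸ hθ)
        rw [if_neg hne]
        obtain ⟨φ, hφL, -, h1⟩ := hD θ hθ
        rw [h1, C.F.inner_sq_ind hζ hψ hres φ hφL, C.F.ind_apply_one φ]
        push_cast
        ring)
  rw [Finset.sum_insert hone'D, if_pos rfl] at hsum
  have hsum2 : ∑ θ ∈ D, (if θ = one' then 1 else Nat.card H + 1) = D.card * (Nat.card H + 1) := by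
    have hcongr : ∀ θ ∈ D, (if θ = one' then 1 else Nat.card H + 1) = Nat.card H + 1 := by
      intro θ hθ
      rw [if_neg]
      rintro rfl
      exact hone'D hθ
    rw [Finset.sum_congr rfl hcongr, Finset.sum_const, smul_eq_mul]
  rw [hsum2] at hsum
  exact arith_final 𝔢 (Nat.card H) D.card C.F.e_ge_two C.hlt hDcard hsum

end

end FZ

end Cfsg.Agent.Lib.Helper2
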