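import Mathlib
import Cfsg.Agent.Lib.Helper2.FZ30
import Cfsg.Agent.S1534

set_option autoImplicit false

/-! Feit's Zassenhaus groups: the inequality for simple groups. -/

namespace Cfsg.Agent.Lib.Helper2

namespace FZ

open MulAction Cfsg Cfsg.Agent.Lib.Lead.Zass Cfsg.Agent.Lib.Helper1 Cfsg.Agent.Lib.Helper4
open scoped ComplexConjugate

theorem index_commutator_eq {G : Type*} [Group G] (K : Subgroup G) :
    (⁅K, K⁆.subgroupOf K).index = (commutator K).index := by
  have h1 : ⁅K, K⁆.subgroupOf K = commutator K := by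
    rw [← Subgroup.map_subtype_commutator]
    exact Subgroup.comap_map_eq_self_of_injective (Subgroup.subtype_injective K) _
  rw [h1]

/-- Feit-Sibley coherence for a T.I. subgroup, with the normalizer given as a subgroup equal to
it. -/
theorem coh_or {G : Type*} [Group G] [Fintype G] (K N : Subgroup G)
    (hN : N = Subgroup.normalizer (K : Set G)) [Fintype N] (hK1 : K ≠ ⊥)
    (hnil : Group.IsNilpotent K) (hTI : Cfsg.IsTISubset (K : Set G)) (hlt : K < N)
    (hC : ∀ k ∈ K, k ≠ 1 → Subgroup.centralizer ({k} : Set G) ≤ K) :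
    Nat.card K = (K.subgroupOf N).index + 1 ∨
    (IsPGroup 2 K ∧ (∃ u v : K, u * v ≠ v * u) ∧
      (commutator K).index ≤ 4 * (K.subgroupOf N).index ^ 2 + 1) ∨
    Cfsg.IsCoherent (TIFN.Sset (K.subgroupOf N)) ({1}ᶜ : Set N)
      (fun α => Cfsg.indFun N α) := by
  classical
  subst hN
  haveI hKn : (K.subgroupOf (Subgroup.normalizer (K : Set G))).Normal :=
    Subgroup.normal_in_normalizer
  haveI : Fintype (K.subgroupOf (Subgroup.normalizer (K : Set G))) := Fintype.ofFinite _
  have hKN : K ≤ Subgroup.normalizer (K : Set G) := Subgroup.le_normalizer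
  rcases Cfsg.Agent.S1534.result K hK1 hnil hTI hlt hC with ⟨-, h2, -⟩ | ⟨h1, h2⟩ | h3
  · left; exact h2
  · by_cases hab : ∀ u v : K, u * v = v * u
    · have hyp := TIFN.hyp_of_TI K (fun g hg k hk h => hTI g hg k hk h) hlt hC
      have hCN := hyp.cent
      have hK1' : K.subgroupOf (Subgroup.normalizer (K : Set G)) ≠ ⊥ := by
        intro h
        apply hK1
        rw [Subgroup.eq_bot_iff_forall]
        intro x hx
        have h1 : (⟨x, hKN hx⟩ : ↥(Subgroup.normalizer (K : Set G))) ∈
            K.subgroupOf (Subgroup.normalizer (K : Set G)) := Subgroup.mem_subgroupOf.mpr hx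
        rw [h, Subgroup.mem_bot] at h1
        exact congrArg Subtype.val h1
      obtain ⟨hiso, hone⟩ := Cfsg.Agent.Lib.Helper4.PF6.ti_isometry K hTI
      have hcardK : Nat.card (K.subgroupOf (Subgroup.normalizer (K : Set G))) = Nat.card K :=
        Nat.card_congr (Subgroup.subgroupOfEquivOfLe hKN).toEquiv
      have hab' : ∀ x ∈ K.subgroupOf (Subgroup.normalizer (K : Set G)),
          ∀ y ∈ K.subgroupOf (Subgroup.normalizer (K : Set G)), x * y = y * x := by
        intro x hx y hy
        have := hab ⟨x.1, Subgroup.mem_subgroupOf.mp hx⟩ ⟨y.1, Subgroup.mem_subgroupOf.mp hy⟩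
        have h3 : (x : G) * (y : G) = (y : G) * (x : G) := congrArg Subtype.val this
        exact Subtype.ext h3
      have hSeq : TIFN.Sset (K.subgroupOf (Subgroup.normalizer (K : Set G)))
          = Cfsg.inducedIrrAbove (K.subgroupOf (Subgroup.normalizer (K : Set G))) ⊥ := by
        rw [← Cfsg.Agent.Lib.Helper4.PF7.frob_set_eq _ hCN]
        rfl
      rcases Cfsg.Agent.Lib.Helper4.PF8.frob_abelian_coh _ hK1' hCN hab'
        (fun α => Cfsg.indFun (Subgroup.normalizer (K : Set G)) α) hiso hone
        with ⟨-, h4⟩ | hcoh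
      · left
        rw [← hcardK]; exact h4
      · right; right
        rw [hSeq]; exact hcoh
    · right; left
      push Not at hab
      haveI : Fact (Nat.Prime 2) := ⟨Nat.prime_two⟩
      refine ⟨IsPGroup.of_card h1, ?_, ?_⟩
      · obtain ⟨u, v, huv⟩ := hab
        exact ⟨u, v, huv⟩
      · rw [← index_commutator_eq]
        omega
  · right; right
    exact h3

end FZ

end Cfsg.Agent.Lib.Helper2
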