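import Mathlib
import Cfsg.Agent.Lib.Helper2.FZ31

set_option autoImplicit false

/-! Feit's Zassenhaus groups: the inequality for simple groups (conclusion). -/

namespace Cfsg.Agent.Lib.Helper2

namespace FZ

open MulAction Cfsg Cfsg.Agent.Lib.Lead.Zass Cfsg.Agent.Lib.Helper1 Cfsg.Agent.Lib.Helper4
open scoped ComplexConjugate

/-- a nonzero integer combination of degree zero needs two distinct characters. -/
theorem two_of_nonzero {N : Type*} [Group N] {S : Set (N → ℂ)}
    (hS : ∀ χ ∈ S, IsIrrCharacter N χ)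
    (h : ∃ α ∈ zspanOn S ({1}ᶜ : Set N), α ≠ 0) : ∃ χ ∈ S, ∃ ξ ∈ S, χ ≠ ξ := by
  by_contra hcon
  push Not at hcon
  obtain ⟨α, hα, hα0⟩ := h
  apply hα0
  have hα1 : α 1 = 0 := hα.2 1 (by simp)
  have hαs : α ∈ Submodule.span ℤ S := hα.1
  by_cases hne : S.Nonempty
  · obtain ⟨χ₀, hχ₀⟩ := hne
    have hsub : S ⊆ {χ₀} := by
      intro χ hχ
      rw [Set.mem_singleton_iff]
      exact hcon χ hχ χ₀ hχ₀
    have h2 := Submodule.span_mono (R := ℤ) hsub hαs
    obtain ⟨n, rfl⟩ := Submodule.mem_span_singleton.mp h2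
    have h3 : (n : ℂ) * χ₀ 1 = 0 := by
      have : (n • χ₀) 1 = (n : ℂ) * χ₀ 1 := by
        rw [Pi.smul_apply, zsmul_eq_mul]
      rw [← this]; exact hα1
    rcases mul_eq_zero.mp h3 with h4 | h4
    · have : n = 0 := by exact_mod_cast h4
      rw [this, zero_smul]
    · exact absurd h4 (irr_apply_one_ne_zero (hS χ₀ hχ₀))
  · rw [Set.not_nonempty_iff_eq_empty] at hne
    rw [hne, Submodule.span_empty, Submodule.mem_bot] at hαs
    exact hαs

section
variable {G Ω : Type*} [Group G] [Fintype G] [MulAction G Ω] [Fintype Ω] {a b : Ω}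
  {H : Subgroup G}

/-- Feit's inequality for simple Zassenhaus groups. -/
theorem FData.main_simple [IsSimpleGroup G] (F : FData G Ω a b H) :
    Nat.card H - 1 ≤ 2 * Nat.card ↥(stabilizer G a ⊓ stabilizer G b : Subgroup G) ∨
    (IsPGroup 2 H ∧ (∃ u v : H, u * v ≠ v * u) ∧
      (commutator H).index
        ≤ 4 * Nat.card ↥(stabilizer G a ⊓ stabilizer G b : Subgroup G) ^ 2 + 1) := by
  classical
  by_cases hlt : 2 * Nat.card ↥(stabilizer G a ⊓ stabilizer G b : Subgroup G) < Nat.card H - 1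
  swap
  · left; omega
  letI : Fintype ↥(stabilizer G a) := Fintype.ofFinite _
  haveI hLn : (H.subgroupOf (stabilizer G a)).Normal := F.normal
  letI : Fintype ↥(H.subgroupOf (stabilizer G a)) := Fintype.ofFinite _
  have hK1 : H ≠ ⊥ := by
    intro h
    obtain ⟨u, hu, hu1⟩ := F.exists_ne_one
    rw [h, Subgroup.mem_bot] at hu
    exact hu1 hu
  have hnil : Group.IsNilpotent ↥H := H_nilpotent F.hZ F.hab H F.hHa F.hHcard F.hHfix
  have hTI : IsTISubset (H : Set G) := by
    intro g hg x hx hgx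
    rw [F.normalizer_eq] at hg
    exact H_ti F.hZ a H F.hHa F.hHcard F.hHfix (fun h => hg (mem_stabilizer_iff.mpr h)) hx hgx
  rcases coh_or H (stabilizer G a) F.normalizer_eq.symm hK1 hnil hTI F.lt
    (fun k hk hk1 => F.cent hk hk1) with h1 | h2 | h3
  · left
    rw [F.index_L] at h1
    omega
  · right
    rw [F.index_L] at h2
    exact h2
  · exfalso
    obtain ⟨hne, star, hstar, hext⟩ := h3
    have htwo := two_of_nonzero (S := TIFN.Sset (H.subgroupOf (stabilizer G a)))
      (fun χ hχ => hχ.1) hne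
    have C : CData G Ω a b H star := ⟨F, hstar, hext, htwo, hlt⟩
    exact C.false

end

end FZ

end Cfsg.Agent.Lib.Helper2
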