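import Mathlib
import Cfsg.Agent.Lib.Helper2.FZ32

set_option autoImplicit false

/-! Feit's Zassenhaus groups: reduction of the inequality to simple groups. -/

namespace Cfsg.Agent.Lib.Helper2

namespace FZ

open MulAction Cfsg Cfsg.Agent.Lib.Lead.Zass Cfsg.Agent.Lib.Helper1 Cfsg.Agent.Lib.Helper4
open scoped ComplexConjugate

universe u v

theorem index_commutator_equiv {A B : Type*} [Group A] [Group B] (φ : A ≃* B) :
    (commutator B).index = (commutator A).index := by
  have h1 : (commutator A).map (φ : A →* B) = commutator B := by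
    rw [commutator_def, commutator_def, Subgroup.map_commutator,
      Subgroup.map_top_of_surjective _ φ.surjective]
  rw [← h1, Subgroup.index_map_equiv]

section
variable {G : Type u} {Ω : Type v} [Group G] [MulAction G Ω] [Fintype Ω] {a b : Ω}
  {H : Subgroup G}

/-- the kernel `H` lies in every nontrivial normal subgroup. -/
theorem FData.le_normal [Finite G] (F : FData G Ω a b H) (M : Subgroup G) [hMn : M.Normal]
    (hM : M ≠ ⊥) : H ≤ M := by
  have hMZ := normal_zassenhaus F.hZ M hM
  obtain ⟨K, hKa, hKcard, hKfix⟩ := exists_H hMZ F.hab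
  have hKH : K.map M.subtype ≤ H := by
    rintro _ ⟨k, hk, rfl⟩
    by_contra hkH
    have hka : (k : G) • a = a := mem_stabilizer_iff.mp (hKa hk)
    obtain ⟨c, hca, hc⟩ := exists_fixed_of_not_mem F.Z a H F.hHa F.hHcard F.hHfix hka hkH
    have hk1 : k ≠ 1 := by
      rintro rfl
      exact hkH H.one_mem
    exact hca (hKfix k hk hk1 c hc)
  have hcard : Nat.card (K.map M.subtype) = Nat.card K :=
    Subgroup.card_map_of_injective (Subgroup.subtype_injective M)
  have heq : K.map M.subtype = H := by
    apply Subgroup.eq_of_le_of_card_ge hKH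
    rw [hcard]
    have := F.hHcard
    omega
  rw [← heq]
  exact Subgroup.map_subtype_le K

theorem card_pair_dvd (M : Subgroup G) (a b : Ω) :
    Nat.card ↥(stabilizer ↥M a ⊓ stabilizer ↥M b : Subgroup ↥M)
      ∣ Nat.card ↥(stabilizer G a ⊓ stabilizer G b : Subgroup G) := by
  let f : ↥(stabilizer ↥M a ⊓ stabilizer ↥M b : Subgroup ↥M)
      →* ↥(stabilizer G a ⊓ stabilizer G b : Subgroup G) :=
    { toFun := fun x => ⟨((x : ↥M) : G), by
        have hx := x.2
        rw [Subgroup.mem_inf, mem_stabilizer_iff, mem_stabilizer_iff] at hx ⊢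
        exact hx⟩
      map_one' := rfl
      map_mul' := fun _ _ => rfl }
  apply Subgroup.card_dvd_of_injective f
  intro x y hxy
  apply Subtype.ext
  apply Subtype.ext
  have h1 : ((f x : ↥(stabilizer G a ⊓ stabilizer G b : Subgroup G)) : G)
      = ((f y : ↥(stabilizer G a ⊓ stabilizer G b : Subgroup G)) : G) := by rw [hxy]
  exact h1

/-- the data restricted to a normal subgroup. -/
theorem FData.restrict [Finite G] (F : FData G Ω a b H) (M : Subgroup G) [hMn : M.Normal]
    (hM : M ≠ ⊥) : FData ↥M Ω a b (H.subgroupOf M) := by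
  have hHM := F.le_normal M hM
  refine ⟨normal_zassenhaus F.hZ M hM, F.hab, ?_, ?_, ?_, ?_⟩
  · exact Odd.of_dvd_nat F.hodd (card_pair_dvd M a b)
  · intro x hx
    rw [mem_stabilizer_iff]
    exact F.mem_a (Subgroup.mem_subgroupOf.mp hx)
  · rw [← F.hHcard]
    congr 1
    exact Nat.card_congr (Subgroup.subgroupOfEquivOfLe hHM).toEquiv
  · intro u hu hu1 c hc
    exact F.hHfix (u : G) (Subgroup.mem_subgroupOf.mp hu) (fun h => hu1 (Subtype.ext h)) c hc

end

/-- Feit's inequality for all Zassenhaus groups with odd two point stabilizer. -/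
theorem FData.main_aux {Ω : Type v} [Fintype Ω] {a b : Ω} :
    ∀ (n : ℕ) (G : Type u) [Group G] [Finite G] [MulAction G Ω] (H : Subgroup G),
      FData G Ω a b H → Nat.card G = n →
      (Nat.card H - 1 ≤ 2 * Nat.card ↥(stabilizer G a ⊓ stabilizer G b : Subgroup G) ∨
        (IsPGroup 2 H ∧ (∃ u v : H, u * v ≠ v * u) ∧
          (commutator H).index
            ≤ 4 * Nat.card ↥(stabilizer G a ⊓ stabilizer G b : Subgroup G) ^ 2 + 1)) := by
  intro n
  induction n using Nat.strong_induction_on with
  | _ n ih =>
    intro G _ _ _ H F hn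
    classical
    by_cases hs : IsSimpleGroup G
    · letI := Fintype.ofFinite G
      exact F.main_simple
    · obtain ⟨u₀, hu₀, hu₀1⟩ := F.exists_ne_one
      haveI hnt : Nontrivial G := ⟨⟨u₀, 1, hu₀1⟩⟩
      have hex : ∃ M : Subgroup G, M.Normal ∧ M ≠ ⊥ ∧ M ≠ ⊤ := by
        by_contra hcon
        push Not at hcon
        apply hs
        refine ⟨?_⟩
        intro M hMn
        by_cases h : M = ⊥
        · exact Or.inl h
        · exact Or.inr (hcon M hMn h)
      obtain ⟨M, hMn, hMbot, hMtop⟩ := hex
      have hHM := F.le_normal M hMbot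
      have F' := F.restrict M hMbot
      have hlt : Nat.card ↥M < n := by
        rw [← hn]
        have h1 := M.card_mul_index
        have h2 : M.index ≠ 1 := fun h => hMtop (Subgroup.index_eq_one.mp h)
        have h3 : M.index ≠ 0 := Subgroup.index_ne_zero_of_finite
        have h4 : 0 < Nat.card ↥M := Nat.card_pos
        nlinarith [show 2 ≤ M.index by omega]
      have hIH := ih (Nat.card ↥M) hlt ↥M (H.subgroupOf M) F' rfl
      have hdvd := card_pair_dvd M a b
      have hle : Nat.card ↥(stabilizer ↥M a ⊓ stabilizer ↥M b : Subgroup ↥M)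
          ≤ Nat.card ↥(stabilizer G a ⊓ stabilizer G b : Subgroup G) :=
        Nat.le_of_dvd Nat.card_pos hdvd
      have hcardH : Nat.card ↥(H.subgroupOf M) = Nat.card H :=
        Nat.card_congr (Subgroup.subgroupOfEquivOfLe hHM).toEquiv
      rcases hIH with h1 | ⟨hp, ⟨x, y, hxy⟩, hidx⟩
      · left
        rw [hcardH] at h1
        omega
      · right
        refine ⟨hp.of_equiv (Subgroup.subgroupOfEquivOfLe hHM), ?_, ?_⟩
        · refine ⟨Subgroup.subgroupOfEquivOfLe hHM x, Subgroup.subgroupOfEquivOfLe hHM y, ?_⟩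
          intro h
          apply hxy
          apply (Subgroup.subgroupOfEquivOfLe hHM).injective
          rw [map_mul, map_mul]
          exact h
        · rw [index_commutator_equiv (Subgroup.subgroupOfEquivOfLe hHM)]
          calc (commutator ↥(H.subgroupOf M)).index
              ≤ 4 * Nat.card ↥(stabilizer ↥M a ⊓ stabilizer ↥M b : Subgroup ↥M) ^ 2 + 1 := hidx
            _ ≤ 4 * Nat.card ↥(stabilizer G a ⊓ stabilizer G b : Subgroup G) ^ 2 + 1 := by
              have := Nat.pow_le_pow_left hle 2
              omega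

end FZ

end Cfsg.Agent.Lib.Helper2
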