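import Mathlib
import Cfsg.Agent.Lib.Helper2.ZP4
import Cfsg.Agent.Lib.Helper2.FZ33

set_option autoImplicit false
set_option linter.style.haveILetI false
set_option linter.unusedSectionVars false

/-!
# Zassenhaus groups with abelian kernel and two-point stabilizer of odd order `(q - 1) / 2`:
simplicity, elements swapping two points
-/

namespace Cfsg.Agent.Lib.Helper2

namespace ZP

open MulAction Cfsg.Agent.Lib.Lead.Zass Cfsg.Agent.Lib.Helper2.FZ

universe u v

section
variable {G : Type u} {Ω : Type v} [Group G] [MulAction G Ω] [Fintype Ω] {a b : Ω}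
  {F : Subgroup G}

theorem PData.fdata (P : PData G Ω a b F)
    (hodd : Odd (Nat.card ↥(stabilizer G a ⊓ stabilizer G b : Subgroup G))) :
    FData G Ω a b F := ⟨P.hZ, P.hab, hodd, P.hFa, P.hFcard, P.hFfix⟩

/-- the group is simple when the two-point stabilizer has odd order. -/
theorem PData.simple_of_odd [Finite G] (P : PData G Ω a b F)
    (hodd : Odd (Nat.card ↥(stabilizer G a ⊓ stabilizer G b : Subgroup G))) :
    IsSimpleGroup G := by
  have FD := P.fdata hodd
  obtain ⟨u₀, hu₀, hu₀1⟩ := P.exists_ne_one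
  haveI hnt : Nontrivial G := ⟨⟨u₀, 1, hu₀1⟩⟩
  refine ⟨?_⟩
  intro M hMn
  by_cases hM : M = ⊥
  · exact Or.inl hM
  right
  have hFM := FD.le_normal M hM
  have FM := FD.restrict M hM
  have hcardF : Nat.card ↥(F.subgroupOf M) = Nat.card F :=
    Nat.card_congr (Subgroup.subgroupOfEquivOfLe hFM).toEquiv
  have hdvd := card_pair_dvd M a b
  have hle : Nat.card ↥(stabilizer ↥M a ⊓ stabilizer ↥M b : Subgroup ↥M)
      ≤ Nat.card ↥(stabilizer G a ⊓ stabilizer G b : Subgroup G) :=
    Nat.le_of_dvd Nat.card_pos hdvd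
  have hge : Nat.card ↥(stabilizer G a ⊓ stabilizer G b : Subgroup G)
      ≤ Nat.card ↥(stabilizer ↥M a ⊓ stabilizer ↥M b : Subgroup ↥M) := by
    rcases FData.main_aux (Nat.card ↥M) ↥M (F.subgroupOf M) FM rfl with h1 | ⟨-, ⟨x, y, hxy⟩, -⟩
    · rw [hcardF] at h1
      have := P.he
      omega
    · exfalso
      apply hxy
      apply Subtype.ext
      apply Subtype.ext
      exact P.hcomm _ (Subgroup.mem_subgroupOf.mp x.2) _ (Subgroup.mem_subgroupOf.mp y.2)
  have heq := le_antisymm hle hge
  apply Subgroup.eq_top_of_card_eq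
  classical
  letI : Fintype G := Fintype.ofFinite G
  letI : Fintype ↥M := Fintype.ofFinite _
  rw [FM.card_G, FD.card_G, hcardF, heq]

/-- when the two-point stabilizer has odd order, all elements swapping two points are
involutions inverting the two-point stabilizer, and involutions have no fixed points. -/
theorem PData.inv_odd [Finite G] (P : PData G Ω a b F)
    (hodd : Odd (Nat.card ↥(stabilizer G a ⊓ stabilizer G b : Subgroup G))) :
    (∀ t : G, t • a = b → t • b = a →
      t * t = 1 ∧ ∀ h : G, h • a = a → h • b = b → t * h * t⁻¹ = h⁻¹) ∧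
    (∀ x : G, x * x = 1 → x ≠ 1 → ∀ c : Ω, x • c ≠ c) := by
  haveI := P.simple_of_odd hodd
  obtain ⟨-, -, hswap⟩ := E_facts P.hZ P.hab hodd
  constructor
  · intro t hta htb
    constructor
    · have h2 := swap_invol P.hZ P.hab hodd P.hab hta htb
      rw [← pow_two, ← h2]
      exact pow_orderOf_eq_one t
    · intro h hha hhb
      exact hswap t hta htb h ((mem_H_iff a b h).mpr ⟨hha, hhb⟩)
  · intro x hxx hx1 c hc
    haveI : Fact (Nat.Prime 2) := ⟨Nat.prime_two⟩
    have hxo : orderOf x = 2 := by
      apply orderOf_eq_prime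
      · rw [pow_two]; exact hxx
      · exact hx1
    have h1 : orderOf (⟨x, mem_stabilizer_iff.mpr hc⟩ : stabilizer G c) ∣
        Nat.card ↥(stabilizer G c) := orderOf_dvd_natCard _
    rw [Subgroup.orderOf_mk, hxo, card_stab P.Z P.hab c] at h1
    have h2 : Odd ((Fintype.card Ω - 1) *
        Nat.card ↥(stabilizer G a ⊓ stabilizer G b : Subgroup G)) := by
      apply Odd.mul _ hodd
      have h3 := P.he
      have h4 := P.hFcard
      rw [Nat.odd_iff]
      omega
    exact (Nat.not_even_iff_odd.mpr h2) (even_iff_two_dvd.mpr h1)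

end

end ZP

end Cfsg.Agent.Lib.Helper2
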