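import Mathlib

set_option autoImplicit false
set_option linter.style.haveILetI false
set_option linter.unusedSectionVars false

/-!
# A field from an abelian semiregular group of automorphisms with two orbits
-/

namespace Cfsg.Agent.Lib.Helper2

namespace ZP

universe u w

/-- a carrier type in `Type` without any algebraic instances -/
def Carrier (n : ℕ) : Type := Fin n

instance (n : ℕ) : Fintype (Carrier n) := inferInstanceAs (Fintype (Fin n))

theorem card_carrier (n : ℕ) : Fintype.card (Carrier n) = n := Fintype.card_fin n

/-- every finite field has a copy in `Type`. -/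
theorem exists_type_zero (K₁ : Type u) [Field K₁] [Finite K₁] :
    ∃ (K : Type) (_ : Field K) (_ : Fintype K), Nonempty (K₁ ≃+* K) := by
  classical
  letI : Fintype K₁ := Fintype.ofFinite K₁
  let ε : K₁ ≃ Carrier (Fintype.card K₁) :=
    (Fintype.equivFinOfCardEq rfl)
  letI instK : Field (Carrier (Fintype.card K₁)) := ε.symm.field
  let r : Carrier (Fintype.card K₁) ≃+* K₁ := ε.symm.ringEquiv
  exact ⟨Carrier (Fintype.card K₁), instK, inferInstance, ⟨r.symm⟩⟩

section field
variable {V : Type u} [AddCommGroup V] [Finite V] {E : Type w} [Group E] [Finite E]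

theorem rho_inv_apply (ρ : E →* AddMonoid.End V) (h : E) (v : V) : ρ h⁻¹ (ρ h v) = v := by
  have : (ρ h⁻¹ * ρ h) v = v := by
    rw [← map_mul, inv_mul_cancel, map_one]
    rfl
  exact this

/-- invariant subgroups are trivial. -/
theorem invariant_eq (ρ : E →* AddMonoid.End V)
    (hsemi : ∀ (h : E) (v : V), v ≠ 0 → ρ h v = v → h = 1)
    (hcard : 2 * Nat.card E + 1 = Nat.card V) (W : AddSubgroup V)
    (hW : ∀ (h : E) (v : V), v ∈ W → ρ h v ∈ W) : W = ⊥ ∨ W = ⊤ := by
  classical
  by_cases hbot : W = ⊥
  · exact Or.inl hbot
  right
  obtain ⟨⟨w, hw⟩, hw0'⟩ := AddSubgroup.ne_bot_iff_exists_ne_zero.mp hbot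
  have hw0 : w ≠ 0 := fun h => hw0' (Subtype.ext h)
  have hne : ∀ h : E, ρ h w ≠ 0 := by
    intro h h0
    apply hw0
    have := rho_inv_apply ρ h w
    rw [h0, map_zero] at this
    exact this.symm
  have h1 : Nat.card E + 1 ≤ Nat.card W := by
    have hinj : Function.Injective
        (fun o : Option E => (o.elim (0 : W) (fun h => ⟨ρ h w, hW h w hw⟩) : W)) := by
      intro o o' hoo
      cases o with
      | none =>
        cases o' with
        | none => rfl
        | some k =>
          exfalso
          have : (0 : V) = ρ k w := congrArg Subtype.val hoo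
          exact hne k this.symm
      | some h =>
        cases o' with
        | none =>
          exfalso
          have : ρ h w = (0 : V) := congrArg Subtype.val hoo
          exact hne h this
        | some k =>
          have h2 : ρ h w = ρ k w := congrArg Subtype.val hoo
          have h3 : ρ (k⁻¹ * h) w = w := by
            rw [map_mul]
            show ρ k⁻¹ (ρ h w) = w
            rw [h2, rho_inv_apply]
          have h4 := hsemi _ w hw0 h3
          have : h = k := by
            have : h = k * (k⁻¹ * h) := by group
            rw [this, h4, mul_one]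
          rw [this]
    have := Nat.card_le_card_of_injective _ hinj
    rw [Finite.card_option] at this
    exact this
  have h2 : Nat.card W ∣ Nat.card V := AddSubgroup.card_addSubgroup_dvd_card W
  apply AddSubgroup.eq_top_of_card_eq
  obtain ⟨m, hm⟩ := h2
  have hm0 : m ≠ 0 := by
    rintro rfl
    rw [mul_zero] at hm
    have : 0 < Nat.card V := Nat.card_pos
    omega
  have hm2 : m ≠ 2 := by
    rintro rfl
    omega
  by_cases hm1 : m = 1
  · rw [hm1, mul_one] at hm
    exact hm.symm
  · exfalso
    have hm3 : 3 ≤ m := by omega
    have : Nat.card W * 3 ≤ Nat.card W * m := Nat.mul_le_mul_left _ hm3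
    omega

end field

end ZP

end Cfsg.Agent.Lib.Helper2
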