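import Mathlib
import Cfsg.Agent.Lib.Helper2.ZP1

set_option autoImplicit false
set_option linter.style.haveILetI false
set_option linter.unusedSectionVars false

/-!
# A field from an abelian semiregular group of automorphisms with two orbits: the field
-/

namespace Cfsg.Agent.Lib.Helper2

namespace ZP

universe u w

section field
variable {V : Type u} [AddCommGroup V] [Finite V] {E : Type w} [Group E] [Finite E]

theorem exists_field_aux (ρ : E →* AddMonoid.End V) (hcomm : ∀ h k : E, h * k = k * h)
    (hsemi : ∀ (h : E) (v : V), v ≠ 0 → ρ h v = v → h = 1)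
    (hcard : 2 * Nat.card E + 1 = Nat.card V) (v₀ : V) (hv₀ : v₀ ≠ 0) :
    ∃ (K : Type u) (_ : Field K) (κ : V ≃+ K) (σ : E →* K), κ v₀ = 1 ∧
      (∀ h v, κ (ρ h v) = σ h * κ v) ∧ (∀ h, σ h = 1 → h = 1) := by
  classical
  haveI : Finite (AddMonoid.End V) :=
    Finite.of_injective (fun f : AddMonoid.End V => (f : V → V)) DFunLike.coe_injective
  let R : Subring (AddMonoid.End V) := Subring.closure (Set.range ρ)
  have hρR : ∀ h, ρ h ∈ R := fun h => Subring.subset_closure ⟨h, rfl⟩
  have hRc : ∀ r ∈ R, ∀ h, r * ρ h = ρ h * r := by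
    intro r hr h
    have hle : R ≤ Subring.centralizer (Set.range ρ) := by
      apply Subring.closure_le.mpr
      rintro _ ⟨k, rfl⟩
      rw [SetLike.mem_coe, Subring.mem_centralizer_iff]
      rintro _ ⟨k', rfl⟩
      rw [← map_mul, ← map_mul, hcomm]
    have := hle hr
    rw [Subring.mem_centralizer_iff] at this
    exact (this _ ⟨h, rfl⟩).symm
  have hker : ∀ r ∈ R, r = 0 ∨ Function.Injective r := by
    intro r hr
    let W : AddSubgroup V :=
      { carrier := {v | r v = 0}
        zero_mem' := map_zero r
        add_mem' := by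
          intro x y hx hy
          show r (x + y) = 0
          rw [map_add, show r x = 0 from hx, show r y = 0 from hy, add_zero]
        neg_mem' := by
          intro x hx
          show r (-x) = 0
          rw [map_neg, show r x = 0 from hx, neg_zero] }
    have hWmem : ∀ v, v ∈ W ↔ r v = 0 := fun v => Iff.rfl
    have hW : ∀ (h : E) (v : V), v ∈ W → ρ h v ∈ W := by
      intro h v hv
      rw [hWmem] at hv ⊢
      have : (r * ρ h) v = (ρ h * r) v := by rw [hRc r hr h]
      calc r (ρ h v) = (r * ρ h) v := rfl
        _ = (ρ h * r) v := this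
        _ = ρ h (r v) := rfl
        _ = 0 := by rw [hv, map_zero]
    rcases invariant_eq ρ hsemi hcard W hW with h | h
    · right
      rw [injective_iff_map_eq_zero]
      intro v hv
      have : v ∈ W := (hWmem v).mpr hv
      rw [h, AddSubgroup.mem_bot] at this
      exact this
    · left
      ext v
      have : v ∈ W := by rw [h]; trivial
      exact (hWmem v).mp this
  have h10 : (1 : AddMonoid.End V) ≠ 0 := by
    intro h
    apply hv₀
    have : (1 : AddMonoid.End V) v₀ = (0 : AddMonoid.End V) v₀ := by rw [h]
    exact this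
  haveI : Nontrivial R := ⟨⟨1, 0, fun h => h10 (congrArg Subtype.val h)⟩⟩
  haveI : NoZeroDivisors R := ⟨by
    intro r s hrs
    rcases hker r.1 r.2 with h | h
    · left; exact Subtype.ext h
    · right
      apply Subtype.ext
      ext v
      have h1 : (r.1 * s.1) v = 0 := by
        have := congrArg Subtype.val hrs
        rw [Subring.coe_mul] at this
        rw [this]
        rfl
      exact h (h1.trans (map_zero _).symm)⟩
  haveI : IsDomain R := NoZeroDivisors.to_isDomain R
  letI instF : Field R := (Finite.isDomain_to_isField R).toField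
  let ev : R →+ V :=
    { toFun := fun r => r.1 v₀
      map_zero' := rfl
      map_add' := fun r s => rfl }
  have hev : ∀ r : R, ev r = r.1 v₀ := fun r => rfl
  have hinj : Function.Injective ev := by
    rw [injective_iff_map_eq_zero]
    intro r hr
    rcases hker r.1 r.2 with h | h
    · exact Subtype.ext h
    · exfalso
      apply hv₀
      apply h
      rw [map_zero]
      exact hr
  have hsurj : Function.Surjective ev := by
    have hW : ∀ (h : E) (v : V), v ∈ ev.range → ρ h v ∈ ev.range := by
      rintro h _ ⟨r, rfl⟩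
      refine ⟨⟨ρ h, hρR h⟩ * r, ?_⟩
      rfl
    rcases invariant_eq ρ hsemi hcard ev.range hW with h | h
    · exfalso
      apply hv₀
      have : v₀ ∈ ev.range := ⟨1, rfl⟩
      rw [h, AddSubgroup.mem_bot] at this
      exact this
    · exact AddMonoidHom.range_eq_top.mp h
  let κ : V ≃+ R := (AddEquiv.ofBijective ev ⟨hinj, hsurj⟩).symm
  have hκ : ∀ (v : V) (r : R), κ v = r ↔ v = ev r := by
    intro v r
    show (AddEquiv.ofBijective ev ⟨hinj, hsurj⟩).symm v = r ↔ _
    rw [AddEquiv.symm_apply_eq]
    rfl
  let σ : E →* R :=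
    { toFun := fun h => ⟨ρ h, hρR h⟩
      map_one' := Subtype.ext (map_one ρ)
      map_mul' := fun h k => Subtype.ext (map_mul ρ h k) }
  refine ⟨R, instF, κ, σ, ?_, ?_, ?_⟩
  · rw [hκ]
    rfl
  · intro h v
    rw [hκ]
    obtain ⟨r, hr⟩ : ∃ r, κ v = r := ⟨_, rfl⟩
    rw [hr]
    rw [hκ] at hr
    rw [hr]
    rfl
  · intro h hh
    have h1 : ρ h = 1 := congrArg Subtype.val hh
    apply hsemi h v₀ hv₀
    rw [h1]
    rfl

end field

end ZP

end Cfsg.Agent.Lib.Helper2
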