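import Mathlib
import Cfsg.Agent.Lib.Helper2.ZP2

set_option autoImplicit false
set_option linter.style.haveILetI false
set_option linter.unusedSectionVars false

/-!
# A field from an abelian semiregular group of automorphisms with two orbits: the squares
-/

namespace Cfsg.Agent.Lib.Helper2

namespace ZP

universe u w

section squares
variable {K : Type*} [Field K] [Finite K] {E : Type*} [Group E] [Finite E]

theorem image_eq_squares (σ : E →* K) (hσ : ∀ h, σ h = 1 → h = 1)
    (hcard : 2 * Nat.card E + 1 = Nat.card K) :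
    (∀ h, ∃ x : K, x ≠ 0 ∧ σ h = x * x) ∧ (∀ x : K, x ≠ 0 → ∃ h, σ h = x * x) := by
  classical
  have hσu : Function.Injective σ.toHomUnits := by
    rw [injective_iff_map_eq_one]
    intro h hh
    apply hσ
    have := congrArg Units.val hh
    rwa [MonoidHom.coe_toHomUnits] at this
  have hcardS : Nat.card σ.toHomUnits.range = Nat.card E :=
    (Nat.card_congr (MonoidHom.ofInjective hσu).toEquiv).symm
  have hunits : Nat.card Kˣ = 2 * Nat.card E := by
    rw [Nat.card_units]
    omega
  have hepos : 0 < Nat.card E := Nat.card_pos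
  have hidx : σ.toHomUnits.range.index = 2 := by
    have := Subgroup.card_mul_index σ.toHomUnits.range
    rw [hcardS, hunits] at this
    have h2 : Nat.card E * σ.toHomUnits.range.index = Nat.card E * 2 := by
      rw [this, mul_comm]
    exact Nat.eq_of_mul_eq_mul_left hepos h2
  let sq : Kˣ →* Kˣ := powMonoidHom 2
  have hsq : ∀ y : Kˣ, sq y = y ^ 2 := fun y => rfl
  have hle : sq.range ≤ σ.toHomUnits.range := by
    rintro _ ⟨y, rfl⟩
    rw [hsq, ← hidx]
    exact Subgroup.pow_index_mem _ y
  have hker : Nat.card sq.ker ≤ 2 := by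
    have hsub : (sq.ker : Set Kˣ) ⊆ {1, -1} := by
      intro y hy
      rw [SetLike.mem_coe, MonoidHom.mem_ker, hsq, pow_two] at hy
      have h1 : (y : K) * (y : K) = 1 := by
        have := congrArg Units.val hy
        simpa using this
      rcases mul_self_eq_one_iff.mp h1 with h | h
      · left
        exact Units.ext h
      · right
        rw [Set.mem_singleton_iff]
        apply Units.ext
        rw [h]
        simp
    have h1 : Nat.card sq.ker = (sq.ker : Set Kˣ).ncard := Nat.card_coe_set_eq _
    rw [h1]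
    refine (Set.ncard_le_ncard hsub (Set.toFinite _)).trans ?_
    refine (Set.ncard_insert_le _ _).trans ?_
    rw [Set.ncard_singleton]
  have hrange : Nat.card E ≤ Nat.card sq.range := by
    have h1 := Subgroup.card_mul_index sq.ker
    rw [Subgroup.index_ker, hunits] at h1
    have hkpos : 0 < Nat.card sq.ker := Nat.card_pos
    nlinarith
  have heq : sq.range = σ.toHomUnits.range := by
    apply Subgroup.eq_of_le_of_card_ge hle
    rw [hcardS]
    exact hrange
  constructor
  · intro h
    have : σ.toHomUnits h ∈ sq.range := by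
      rw [heq]
      exact ⟨h, rfl⟩
    obtain ⟨y, hy⟩ := this
    refine ⟨(y : K), y.ne_zero, ?_⟩
    have := congrArg Units.val hy
    rw [MonoidHom.coe_toHomUnits, hsq, pow_two] at this
    rw [← this]
    simp
  · intro x hx
    have : sq (Units.mk0 x hx) ∈ σ.toHomUnits.range := by
      rw [← heq]
      exact ⟨_, rfl⟩
    obtain ⟨h, hh⟩ := this
    refine ⟨h, ?_⟩
    have := congrArg Units.val hh
    rw [MonoidHom.coe_toHomUnits, hsq, pow_two] at this
    rw [this]
    simp

end squares

section field
variable {V : Type u} [AddCommGroup V] [Finite V] {E : Type w} [Group E] [Finite E]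

/-- the field associated with an abelian semiregular group of automorphisms with two
orbits on the nonzero vectors. -/
theorem exists_field (ρ : E →* AddMonoid.End V) (hcomm : ∀ h k : E, h * k = k * h)
    (hsemi : ∀ (h : E) (v : V), v ≠ 0 → ρ h v = v → h = 1)
    (hcard : 2 * Nat.card E + 1 = Nat.card V) (v₀ : V) (hv₀ : v₀ ≠ 0) :
    ∃ (K : Type) (_ : Field K) (_ : Fintype K) (κ : V ≃+ K) (σ : E → K), κ v₀ = 1 ∧
      (∀ h v, κ (ρ h v) = σ h * κ v) ∧
      (∀ h, ∃ x : K, x ≠ 0 ∧ σ h = x * x) ∧ (∀ x : K, x ≠ 0 → ∃ h, σ h = x * x) := by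
  obtain ⟨K₁, instK₁, κ₁, σ₁, h1, h2, h3⟩ := exists_field_aux ρ hcomm hsemi hcard v₀ hv₀
  haveI : Finite K₁ := Finite.of_equiv V κ₁.toEquiv
  obtain ⟨K, instK, instFK, ⟨r⟩⟩ := exists_type_zero K₁
  let σ : E →* K := (r : K₁ →* K).comp σ₁
  have hσ : ∀ h, σ h = r (σ₁ h) := fun h => rfl
  have hσ1 : ∀ h, σ h = 1 → h = 1 := by
    intro h hh
    apply h3
    rw [hσ] at hh
    have := congrArg r.symm hh
    rwa [RingEquiv.symm_apply_apply, map_one] at this
  have hcardK : 2 * Nat.card E + 1 = Nat.card K := by
    rw [hcard]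
    exact Nat.card_congr (κ₁.toEquiv.trans r.toEquiv)
  obtain ⟨h4, h5⟩ := image_eq_squares σ hσ1 hcardK
  refine ⟨K, instK, instFK, κ₁.trans r.toAddEquiv, fun h => σ h, ?_, ?_, h4, h5⟩
  · show r (κ₁ v₀) = 1
    rw [h1, map_one]
  · intro h v
    show r (κ₁ (ρ h v)) = r (σ₁ h) * r (κ₁ v)
    rw [h2, map_mul]

end field

end ZP

end Cfsg.Agent.Lib.Helper2
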