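import Mathlib
import Cfsg.Agent.Lib.Helper2.ZP3
import Cfsg.Agent.Lib.Helper2.ZP4

set_option autoImplicit false
set_option linter.style.haveILetI false
set_option linter.unusedSectionVars false

/-!
# Zassenhaus groups with abelian kernel and two-point stabilizer of order `(q - 1) / 2`:
coordinates
-/

namespace Cfsg.Agent.Lib.Helper2

namespace ZP

open MulAction Cfsg.Agent.Lib.Lead.Zass Cfsg.Agent.Lib.Helper2.FZ

/-- coordinates on the points other than `a` by a field `K` such that the kernel acts by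
translations and the two-point stabilizer by multiplications with the nonzero squares. -/
structure Coord {G Ω : Type*} [Group G] [MulAction G Ω] (a b : Ω) (F : Subgroup G)
    {K : Type*} [Field K] (ι : K → Ω) : Prop where
  inj : Function.Injective ι
  ne_a : ∀ x, ι x ≠ a
  cover : ∀ c, c = a ∨ ∃ x, c = ι x
  zero : ι 0 = b
  F_act : ∀ u ∈ F, ∃ y, ∀ x, u • ι x = ι (x + y)
  act_F : ∀ y, ∃ u ∈ F, ∀ x, u • ι x = ι (x + y)
  E_act : ∀ h : G, h • a = a → h • b = b → ∃ r : K, r ≠ 0 ∧ ∀ x, h • ι x = ι (r * r * x)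
  act_E : ∀ r : K, r ≠ 0 → ∃ h : G, h • a = a ∧ h • b = b ∧ ∀ x, h • ι x = ι (r * r * x)

section
variable {G Ω : Type*} [Group G] [MulAction G Ω] [Fintype Ω] {a b : Ω} {F : Subgroup G}

/-- the inversion property: elements swapping `a` and `b` are involutions inverting the
two-point stabilizer. -/
def PData.Inv (_ : PData G Ω a b F) : Prop :=
  ∀ t : G, t • a = b → t • b = a →
    t * t = 1 ∧ ∀ h : G, h • a = a → h • b = b → t * h * t⁻¹ = h⁻¹

theorem PData.inv_of_sq (P : PData G Ω a b F)
    (hsq : ∀ t : G, t • a = b → t • b = a → t * t = 1) : P.Inv := by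
  intro t hta htb
  refine ⟨hsq t hta htb, ?_⟩
  intro h hha hhb
  have h1 : (t * h) * (t * h) = 1 := by
    apply hsq
    · rw [mul_smul, hha, hta]
    · rw [mul_smul, hhb, htb]
  have hti : t⁻¹ = t := inv_eq_of_mul_eq_one_right (hsq t hta htb)
  rw [hti]
  have h2 : t * h * t = (t * h * (t * h)) * h⁻¹ := by group
  rw [h2, h1, one_mul]

theorem PData.E_comm (P : PData G Ω a b F) (hinv : P.Inv) {h k : G} (hha : h • a = a)
    (hhb : h • b = b) (hka : k • a = a) (hkb : k • b = b) : h * k = k * h := by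
  obtain ⟨t, hta, htb⟩ := P.exists_swap
  obtain ⟨-, hi⟩ := hinv t hta htb
  have h1 := hi h hha hhb
  have h2 := hi k hka hkb
  have h3 := hi (h * k) (by rw [mul_smul, hka, hha]) (by rw [mul_smul, hkb, hhb])
  have h4 : t * (h * k) * t⁻¹ = (t * h * t⁻¹) * (t * k * t⁻¹) := by group
  rw [h4, h1, h2, mul_inv_rev] at h3
  have := congrArg Inv.inv h3
  rw [mul_inv_rev, inv_inv, inv_inv, mul_inv_rev, inv_inv, inv_inv] at this
  exact this.symm

/-- existence of the coordinates. -/
theorem PData.exists_coord [Finite G] (P : PData G Ω a b F) (hinv : P.Inv) {u₀ : G}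
    (hu₀ : u₀ ∈ F) (hu₀1 : u₀ ≠ 1) :
    ∃ (K : Type) (_ : Field K) (_ : Fintype K) (ι : K → Ω),
      Fintype.card K + 1 = Fintype.card Ω ∧ Coord a b F ι ∧ ι 1 = u₀ • b := by
  classical
  letI instC : CommGroup ↥F :=
    { (inferInstance : Group ↥F) with
      mul_comm := fun u v => Subtype.ext (P.hcomm u u.2 v v.2) }
  have hEa : ∀ h : ↥(stabilizer G a ⊓ stabilizer G b : Subgroup G), (h : G) • a = a :=
    fun h => ((mem_H_iff a b _).mp h.2).1
  have hEb : ∀ h : ↥(stabilizer G a ⊓ stabilizer G b : Subgroup G), (h : G) • b = b :=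
    fun h => ((mem_H_iff a b _).mp h.2).2
  let cj : ↥(stabilizer G a ⊓ stabilizer G b : Subgroup G) → ↥F → ↥F :=
    fun h u => ⟨(h : G) * (u : G) * (h : G)⁻¹, P.conj_mem (hEa h) u.2⟩
  have hcj : ∀ h u, ((cj h u : ↥F) : G) = (h : G) * (u : G) * (h : G)⁻¹ := fun h u => rfl
  let ρ : ↥(stabilizer G a ⊓ stabilizer G b : Subgroup G) →* AddMonoid.End (Additive ↥F) :=
    { toFun := fun h =>
        { toFun := fun v => Additive.ofMul (cj h v.toMul)
          map_zero' := by
            show Additive.ofMul (cj h 1) = Additive.ofMul 1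
            congr 1
            apply Subtype.ext
            rw [hcj]
            simp
          map_add' := by
            intro v w
            show Additive.ofMul (cj h (v.toMul * w.toMul))
              = Additive.ofMul (cj h v.toMul * cj h w.toMul)
            congr 1
            apply Subtype.ext
            rw [Subgroup.coe_mul, hcj, hcj, hcj, Subgroup.coe_mul]
            group }
      map_one' := by
        refine AddMonoidHom.ext (fun v => ?_)
        show Additive.ofMul (cj 1 v.toMul) = v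
        have : cj 1 v.toMul = v.toMul := by
          apply Subtype.ext
          rw [hcj]
          simp
        rw [this]
        rfl
      map_mul' := by
        intro h k
        refine AddMonoidHom.ext (fun v => ?_)
        show Additive.ofMul (cj (h * k) v.toMul) = Additive.ofMul (cj h (cj k v.toMul))
        congr 1
        apply Subtype.ext
        rw [hcj, hcj, hcj, Subgroup.coe_mul]
        group }
  have hρ : ∀ h (v : Additive ↥F), ρ h v = Additive.ofMul (cj h v.toMul) := fun h v => rfl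
  have hcomm : ∀ h k : ↥(stabilizer G a ⊓ stabilizer G b : Subgroup G), h * k = k * h := by
    intro h k
    apply Subtype.ext
    rw [Subgroup.coe_mul, Subgroup.coe_mul]
    exact P.E_comm hinv (hEa h) (hEb h) (hEa k) (hEb k)
  have hsemi : ∀ (h : ↥(stabilizer G a ⊓ stabilizer G b : Subgroup G)) (v : Additive ↥F),
      v ≠ 0 → ρ h v = v → h = 1 := by
    intro h v hv hhv
    apply Subtype.ext
    rw [Subgroup.coe_one]
    apply P.semi (hEa h) (hEb h) v.toMul.2
    · intro h1
      apply hv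
      have : v.toMul = 1 := Subtype.ext h1
      exact this
    · rw [hρ] at hhv
      have : cj h v.toMul = v.toMul := hhv
      have := congrArg Subtype.val this
      rwa [hcj] at this
  have hcard : 2 * Nat.card ↥(stabilizer G a ⊓ stabilizer G b : Subgroup G) + 1
      = Nat.card (Additive ↥F) := by
    rw [P.he]
    exact Nat.card_congr Additive.ofMul
  have hv₀ : (Additive.ofMul (⟨u₀, hu₀⟩ : ↥F)) ≠ 0 := by
    intro h
    apply hu₀1
    have : (⟨u₀, hu₀⟩ : ↥F) = 1 := h
    exact congrArg Subtype.val this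
  obtain ⟨K, instK, instFK, κ, σ, hκ1, hκρ, hσ1, hσ2⟩ :=
    exists_field ρ hcomm hsemi hcard (Additive.ofMul (⟨u₀, hu₀⟩ : ↥F)) hv₀
  let ι : K → Ω := fun x => (((κ.symm x).toMul : ↥F) : G) • b
  have hι : ∀ x, ι x = (((κ.symm x).toMul : ↥F) : G) • b := fun x => rfl
  have hιu : ∀ u : ↥F, ι (κ (Additive.ofMul u)) = (u : G) • b := by
    intro u
    rw [hι, AddEquiv.symm_apply_apply]
    rfl
  have hba : b ≠ a := Ne.symm P.hab
  have hadd : ∀ (u : ↥F) (x : K), (u : G) • ι x = ι (x + κ (Additive.ofMul u)) := by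
    intro u x
    rw [hι, hι, map_add, AddEquiv.symm_apply_apply, ← mul_smul]
    congr 1
    rw [P.hcomm _ u.2 _ (κ.symm x).toMul.2]
    rfl
  have hmul : ∀ (h : ↥(stabilizer G a ⊓ stabilizer G b : Subgroup G)) (x : K),
      (h : G) • ι x = ι (σ h * x) := by
    intro h x
    have h1 : κ.symm (σ h * x) = ρ h (κ.symm x) := by
      rw [AddEquiv.symm_apply_eq, hκρ, AddEquiv.apply_symm_apply]
    rw [hι, hι, h1, hρ]
    show (h : G) • (((κ.symm x).toMul : ↥F) : G) • b = ((cj h (κ.symm x).toMul : ↥F) : G) • b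
    rw [hcj, mul_smul, mul_smul, inv_smul_eq_iff.mpr (hEb h).symm]
  refine ⟨K, instK, instFK, ι, ?_, ⟨?_, ?_, ?_, ?_, ?_, ?_, ?_, ?_⟩, ?_⟩
  · rw [← P.hFcard, ← Nat.card_eq_fintype_card]
    congr 1
    exact (Nat.card_congr (Additive.ofMul.trans κ.toEquiv)).symm
  · intro x y hxy
    rw [hι, hι] at hxy
    have := P.eq_of_smul (κ.symm x).toMul.2 (κ.symm y).toMul.2 hba hxy
    have h2 : (κ.symm x).toMul = (κ.symm y).toMul := Subtype.ext this
    exact κ.symm.injective h2
  · intro x
    exact P.smul_ne_a (κ.symm x).toMul.2 hba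
  · intro c
    by_cases hc : c = a
    · exact Or.inl hc
    · right
      obtain ⟨u, hu, huc⟩ := P.trans hba hc
      exact ⟨κ (Additive.ofMul ⟨u, hu⟩), by rw [hιu, huc]⟩
  · rw [hι, map_zero]
    show ((1 : ↥F) : G) • b = b
    rw [Subgroup.coe_one, one_smul]
  · intro u hu
    exact ⟨κ (Additive.ofMul ⟨u, hu⟩), fun x => hadd ⟨u, hu⟩ x⟩
  · intro y
    refine ⟨((κ.symm y).toMul : ↥F), (κ.symm y).toMul.2, fun x => ?_⟩
    have := hadd (κ.symm y).toMul x
    rw [this]
    congr 2
    exact κ.apply_symm_apply y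
  · intro h hha hhb
    obtain ⟨r, hr, hσr⟩ := hσ1 ⟨h, (mem_H_iff a b h).mpr ⟨hha, hhb⟩⟩
    refine ⟨r, hr, fun x => ?_⟩
    rw [← hσr]
    exact hmul ⟨h, (mem_H_iff a b h).mpr ⟨hha, hhb⟩⟩ x
  · intro r hr
    obtain ⟨h, hh⟩ := hσ2 r hr
    refine ⟨(h : G), hEa h, hEb h, fun x => ?_⟩
    rw [← hh]
    exact hmul h x
  · rw [← hκ1, hιu]

end

end ZP

end Cfsg.Agent.Lib.Helper2
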