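import Mathlib

set_option autoImplicit false
set_option linter.style.haveILetI false
set_option linter.unusedSectionVars false

/-!
# A functional equation characterising `x ↦ -x⁻¹` on a finite field of odd order
-/

namespace Cfsg.Agent.Lib.Helper2

namespace ZP

open Polynomial

section
variable {K : Type*} [Field K] [Fintype K]

theorem nonsq_mul_nonsq {x c : K} (hx : ¬ IsSquare x) (hc : ¬ IsSquare c) : IsSquare (x * c) := by
  classical
  have hx0 : x ≠ 0 := by
    rintro rfl
    exact hx (IsSquare.zero)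
  have hc0 : c ≠ 0 := by
    rintro rfl
    exact hc (IsSquare.zero)
  rw [← quadraticChar_neg_one_iff_not_isSquare] at hx hc
  rw [← quadraticChar_one_iff_isSquare (mul_ne_zero hx0 hc0), map_mul, hx, hc]
  norm_num

theorem exists_sq_pred_nonsq (hodd : Fintype.card K % 2 = 1) (hm : IsSquare (-1 : K)) :
    ∃ z : K, IsSquare z ∧ z ≠ 0 ∧ ¬ IsSquare (z - 1) := by
  classical
  have hchar : ringChar K ≠ 2 := by
    intro h
    have := FiniteField.even_card_of_char_two h
    omega
  obtain ⟨n, hn⟩ := FiniteField.exists_nonsquare hchar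
  have hf2 : degree (X ^ 2 : K[X]) = 2 := degree_X_pow 2
  have hg2 : degree (X ^ 2 - C n : K[X]) = 2 := degree_X_pow_sub_C (by norm_num) n
  obtain ⟨x, y, hxy⟩ := FiniteField.exists_root_sum_quadratic hf2 hg2 hodd
  simp only [eval_pow, eval_X, eval_sub, eval_C] at hxy
  have hnxy : n = x * x + y * y := by linear_combination -hxy
  have hy0 : y ≠ 0 := by
    rintro rfl
    apply hn
    exact ⟨x, by rw [hnxy]; ring⟩
  obtain ⟨i, hi⟩ := hm
  have hx0 : x ≠ 0 := by
    rintro rfl
    apply hn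
    exact ⟨y, by rw [hnxy]; ring⟩
  have hi0 : i ≠ 0 := by
    rintro rfl
    rw [mul_zero] at hi
    have : (1 : K) = 0 := by linear_combination -hi
    exact one_ne_zero this
  refine ⟨(i * x / y) * (i * x / y), ⟨_, rfl⟩, ?_, ?_⟩
  · have : i * x / y ≠ 0 := div_ne_zero (mul_ne_zero hi0 hx0) hy0
    exact mul_ne_zero this this
  · rintro ⟨w, hw⟩
    apply hn
    refine ⟨i * y * w, ?_⟩
    have h1 : (i * x / y) * (i * x / y) = -(x * x / (y * y)) := by
      rw [div_mul_div_comm, show i * x * (i * x) = (i * i) * (x * x) by ring, ← hi]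
      ring
    rw [h1] at hw
    have h2 : n = -(y * y) * (w * w) := by
      rw [← hw, hnxy]
      field_simp
      ring
    rw [h2]
    linear_combination (y * y * (w * w)) * hi

/-- a functional equation characterising `x ↦ -x⁻¹`. -/
theorem eq_neg_inv (hodd : Fintype.card K % 2 = 1) (T : K → K)
    (hT1 : ∀ r : K, r ≠ 0 → ∀ x : K, x ≠ 0 → T (r * r * x) = (r * r)⁻¹ * T x)
    (hT2 : ∀ x : K, x ≠ 0 → T (T x) = x)
    (hT3 : T 1 = -1)
    (hT4 : ∀ x : K, x ≠ 0 → x ≠ 1 → T (T x + 1) = T (x - 1) - 1) :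
    ∀ x : K, x ≠ 0 → T x = -x⁻¹ := by
  classical
  have hsq : ∀ r : K, r ≠ 0 → T (r * r) = -(r * r)⁻¹ := by
    intro r hr
    have := hT1 r hr 1 one_ne_zero
    rw [mul_one, hT3] at this
    rw [this]
    ring
  have hTm1 : T (-1) = 1 := by
    have := hT2 1 one_ne_zero
    rwa [hT3] at this
  have hc : ∃ c₀ : K, ¬ IsSquare c₀ ∧ c₀ * T c₀ = -1 := by
    by_cases hm : IsSquare (-1 : K)
    · obtain ⟨z, ⟨r, hzr⟩, hz0, hz1⟩ := exists_sq_pred_nonsq hodd hm
      have hr0 : r ≠ 0 := by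
        rintro rfl
        rw [mul_zero] at hzr
        exact hz0 hzr
      have hzne1 : z ≠ 1 := by
        rintro rfl
        apply hz1
        rw [sub_self]
        exact IsSquare.zero
      have hc0 : z - 1 ≠ 0 := sub_ne_zero.mpr hzne1
      refine ⟨z - 1, hz1, ?_⟩
      have h4 := hT4 z hz0 hzne1
      have hTz : T z = -z⁻¹ := by
        rw [hzr]
        exact hsq r hr0
      have h5 : T z + 1 = (r⁻¹ * r⁻¹) * (z - 1) := by
        rw [hTz, hzr]
        field_simp
        ring
      have hri : r⁻¹ ≠ 0 := inv_ne_zero hr0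
      rw [h5, hT1 r⁻¹ hri (z - 1) hc0] at h4
      have h6 : (r⁻¹ * r⁻¹)⁻¹ = z := by
        rw [hzr]
        field_simp
      rw [h6] at h4
      linear_combination h4
    · refine ⟨-1, hm, ?_⟩
      rw [hTm1]
      ring
  obtain ⟨c₀, hc₀, hcT⟩ := hc
  have hc₀0 : c₀ ≠ 0 := by
    rintro rfl
    exact hc₀ IsSquare.zero
  have hTc : T c₀ = -c₀⁻¹ := by
    field_simp
    linear_combination hcT
  intro x hx
  by_cases hxs : IsSquare x
  · obtain ⟨r, hr⟩ := hxs
    have hr0 : r ≠ 0 := by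
      rintro rfl
      rw [mul_zero] at hr
      exact hx hr
    rw [hr]
    exact hsq r hr0
  · obtain ⟨s, hs⟩ := nonsq_mul_nonsq hxs hc₀
    have hs0 : s ≠ 0 := by
      rintro rfl
      rw [mul_zero] at hs
      exact mul_ne_zero hx hc₀0 hs
    have hr0 : s * c₀⁻¹ ≠ 0 := mul_ne_zero hs0 (inv_ne_zero hc₀0)
    have hxe : x = (s * c₀⁻¹) * (s * c₀⁻¹) * c₀ := by
      field_simp
      linear_combination hs
    have h1 := hT1 (s * c₀⁻¹) hr0 c₀ hc₀0
    rw [← hxe, hTc] at h1
    rw [h1]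
    have h2 : (s * c₀⁻¹) * (s * c₀⁻¹) = x * c₀⁻¹ := by
      field_simp
      linear_combination -hs
    rw [h2]
    field_simp

end

end ZP

end Cfsg.Agent.Lib.Helper2
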