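import Mathlib
import Cfsg.Agent.Lib.Helper2.ZP7
import Cfsg.Agent.Lib.Helper2.ZP8

set_option autoImplicit false
set_option linter.style.haveILetI false
set_option linter.unusedSectionVars false

/-!
# Zassenhaus groups with abelian kernel and two-point stabilizer of order `(q - 1) / 2`:
the normalized element swapping two points acts as `x ↦ -x⁻¹`
-/

namespace Cfsg.Agent.Lib.Helper2

namespace ZP

open MulAction Cfsg.Agent.Lib.Lead.Zass Cfsg.Agent.Lib.Helper2.FZ

section
variable {G Ω : Type*} [Group G] [MulAction G Ω] [Fintype Ω] {a b : Ω} {F : Subgroup G}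

theorem PData.card_odd (P : PData G Ω a b F) {K : Type*} [Fintype K]
    (hcard : Fintype.card K + 1 = Fintype.card Ω) : Fintype.card K % 2 = 1 := by
  have h1 := P.hFcard
  have h2 := P.he
  omega

theorem PData.swap_act [Finite G] (P : PData G Ω a b F) (hinv : P.Inv) {K : Type*} [Field K]
    [Fintype K] {ι : K → Ω} (C : Coord a b F ι) (hcard : Fintype.card K + 1 = Fintype.card Ω)
    {t : G} (hta : t • a = b) (htb : t • b = a) (ht1 : t • ι 1 = ι (-1)) :
    ∀ x : K, x ≠ 0 → t • ι x = ι (-x⁻¹) := by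
  classical
  obtain ⟨htt, hti⟩ := hinv t hta htb
  have htinv : t⁻¹ = t := inv_eq_of_mul_eq_one_right htt
  have hex : ∀ x : K, ∃ y : K, x ≠ 0 → (y ≠ 0 ∧ t • ι x = ι y) := by
    intro x
    by_cases hx : x = 0
    · exact ⟨0, fun h => absurd hx h⟩
    · have h1 : t • ι x ≠ a := by
        intro h
        rw [← htb] at h
        have := MulAction.injective t h
        rw [← C.zero] at this
        exact hx (C.inj this)
      rcases C.cover (t • ι x) with h | ⟨y, hy⟩
      · exact absurd h h1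
      · refine ⟨y, fun _ => ⟨?_, hy⟩⟩
        rintro rfl
        rw [C.zero, ← hta] at hy
        exact C.ne_a x (MulAction.injective t hy)
  choose T hT using hex
  have hT0 : ∀ x, x ≠ 0 → T x ≠ 0 := fun x hx => (hT x hx).1
  have hTι : ∀ x, x ≠ 0 → t • ι x = ι (T x) := fun x hx => (hT x hx).2
  have hT2 : ∀ x : K, x ≠ 0 → T (T x) = x := by
    intro x hx
    apply C.inj
    rw [← hTι (T x) (hT0 x hx), ← hTι x hx, ← mul_smul, htt, one_smul]
  have hT1 : ∀ r : K, r ≠ 0 → ∀ x : K, x ≠ 0 → T (r * r * x) = (r * r)⁻¹ * T x := by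
    intro r hr x hx
    obtain ⟨h, hha, hhb, hh⟩ := C.act_E r hr
    have hrr : r * r ≠ 0 := mul_ne_zero hr hr
    have hhinv : ∀ y : K, h⁻¹ • ι y = ι ((r * r)⁻¹ * y) := by
      intro y
      rw [inv_smul_eq_iff, hh, ← mul_assoc, mul_inv_cancel₀ hrr, one_mul]
    have h1 : t * h = h⁻¹ * t := by
      have := hti h hha hhb
      rw [← this]
      group
    apply C.inj
    rw [← hTι _ (mul_ne_zero hrr hx), ← hh, ← mul_smul, h1, mul_smul, hTι x hx, hhinv]
  have hT3 : T 1 = -1 := by
    apply C.inj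
    rw [← hTι 1 one_ne_zero, ht1]
  obtain ⟨u₀, hu₀, hu⟩ := C.act_F 1
  have hui : ∀ x : K, u₀⁻¹ • ι x = ι (x - 1) := by
    intro x
    rw [inv_smul_eq_iff, hu, sub_add_cancel]
  have hua : u₀ • a = a := P.mem_a hu₀
  have h01 : (0 : K) ≠ -1 := by
    intro h
    have : (1 : K) = 0 := by linear_combination h
    exact one_ne_zero this
  -- the element of order three
  have hg3 : (t * u₀) * (t * u₀) * (t * u₀) = 1 := by
    have hga : (t * u₀) • a = b := by rw [mul_smul, hua, hta]
    have hgb : (t * u₀) • b = ι (-1) := by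
      rw [mul_smul, ← C.zero, hu, zero_add, ht1]
    have hgc : (t * u₀) • ι (-1) = a := by
      rw [mul_smul, hu, neg_add_cancel, C.zero, htb]
    apply P.Z.three _ a b (ι (-1)) P.hab
    · rw [← C.zero]
      exact fun h => h01 (C.inj h)
    · exact Ne.symm (C.ne_a _)
    · rw [mul_smul, mul_smul, hga, hgb, hgc]
    · rw [mul_smul, mul_smul, hgb, hgc, hga]
    · rw [mul_smul, mul_smul, hgc, hga, hgb]
  have hrel : t * u₀ * t = u₀⁻¹ * t * u₀⁻¹ := by
    have h1 : t * u₀ * t = ((t * u₀) * (t * u₀) * (t * u₀)) * (u₀⁻¹ * t⁻¹ * u₀⁻¹) := by group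
    rw [h1, hg3, one_mul, htinv]
  have hT4 : ∀ x : K, x ≠ 0 → x ≠ 1 → T (T x + 1) = T (x - 1) - 1 := by
    intro x hx hx1
    have hne : T x + 1 ≠ 0 := by
      intro h
      apply hx1
      have h2 : T x = -1 := by linear_combination h
      have h3 := hT2 x hx
      rw [h2, ← hT3, hT2 1 one_ne_zero] at h3
      exact h3.symm
    have hx1' : x - 1 ≠ 0 := sub_ne_zero.mpr hx1
    apply C.inj
    calc ι (T (T x + 1)) = (t * u₀ * t) • ι x := by
          rw [mul_smul, mul_smul, hTι x hx, hu, hTι _ hne]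
      _ = (u₀⁻¹ * t * u₀⁻¹) • ι x := by rw [hrel]
      _ = ι (T (x - 1) - 1) := by
          rw [mul_smul, mul_smul, hui, hTι _ hx1', hui]
  intro x hx
  rw [hTι x hx, eq_neg_inv (P.card_odd hcard) T hT1 hT2 hT3 hT4 x hx]

end

end ZP

end Cfsg.Agent.Lib.Helper2
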