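import Mathlib
import Cfsg.Agent.Lib.Helper2.ZP5
import Cfsg.Agent.Lib.Helper2.ZP6
import Cfsg.Agent.Lib.Helper2.ZP9

set_option autoImplicit false
set_option linter.style.haveILetI false
set_option linter.unusedSectionVars false

/-!
# Zassenhaus groups with abelian kernel and two-point stabilizer of order `(q - 1) / 2`:
normalized coordinates
-/

namespace Cfsg.Agent.Lib.Helper2

namespace ZP

open MulAction Cfsg.Agent.Lib.Lead.Zass Cfsg.Agent.Lib.Helper2.FZ

universe u v

section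
variable {G : Type u} {Ω : Type v} [Group G] [MulAction G Ω] [Fintype Ω] {a b : Ω}
  {F : Subgroup G}

theorem PData.swap_sq (P : PData G Ω a b F) (hinv : P.Inv) {K : Type*} [Field K]
    {ι : K → Ω} (C : Coord a b F ι) {t : G} (hta : t • a = b) (htb : t • b = a) {r : K}
    (hr : r ≠ 0) {x y : K} (hxy : t • ι x = ι y) :
    t • ι (r * r * x) = ι ((r * r)⁻¹ * y) := by
  obtain ⟨htt, hti⟩ := hinv t hta htb
  obtain ⟨h, hha, hhb, hh⟩ := C.act_E r hr
  have hrr : r * r ≠ 0 := mul_ne_zero hr hr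
  have hhinv : ∀ y : K, h⁻¹ • ι y = ι ((r * r)⁻¹ * y) := by
    intro y
    rw [inv_smul_eq_iff, hh, ← mul_assoc, mul_inv_cancel₀ hrr, one_mul]
  have h1 : t * h = h⁻¹ * t := by
    have := hti h hha hhb
    rw [← this]
    group
  rw [← hh, ← mul_smul, h1, mul_smul, hxy, hhinv]

theorem PData.exists_normalized_even [Finite G] (P : PData G Ω a b F)
    (heven : Even (Nat.card ↥(stabilizer G a ⊓ stabilizer G b : Subgroup G))) :
    ∃ (K : Type) (_ : Field K) (_ : Fintype K) (ι : K → Ω) (t : G),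
      Fintype.card K + 1 = Fintype.card Ω ∧ Coord a b F ι ∧ P.Inv ∧
        t • a = b ∧ t • b = a ∧ t • ι 1 = ι (-1) := by
  obtain ⟨j, hja, hjb, hj1, hjj, hall⟩ := P.inv_even heven
  have hinv : P.Inv := P.inv_of_sq (fun t hta htb => (hall t hta htb).1)
  obtain ⟨t₀, hta₀, htb₀⟩ := P.exists_swap
  obtain ⟨-, c, hca, hcb, hc⟩ := hall t₀ hta₀ htb₀
  have hba : b ≠ a := Ne.symm P.hab
  obtain ⟨u₀, hu₀, hu₀c⟩ := P.trans hba hca
  have hu₀1 : u₀ ≠ 1 := by
    rintro rfl
    rw [one_smul] at hu₀c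
    exact hcb hu₀c.symm
  obtain ⟨K, instK, instFK, ι, hcard, C, hι1⟩ := P.exists_coord hinv hu₀ hu₀1
  rw [hu₀c] at hι1
  obtain ⟨r, hr, hjact⟩ := C.E_act j hja hjb
  have hrr : r * r = -1 := by
    have h1 : j • j • ι 1 = ι 1 := by rw [← mul_smul, hjj, one_smul]
    rw [hjact, hjact] at h1
    have h2 := C.inj h1
    have h3 : (r * r) * (r * r) = 1 := by linear_combination h2
    rcases mul_self_eq_one_iff.mp h3 with h | h
    · exfalso
      apply hj1
      apply P.fix_three hja hjb hca hcb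
      rw [← hι1, hjact, h, one_mul]
    · exact h
  refine ⟨K, instK, instFK, ι, j * t₀, hcard, C, hinv, ?_, ?_, ?_⟩
  · rw [mul_smul, hta₀, hjb]
  · rw [mul_smul, htb₀, hja]
  · rw [mul_smul, hι1, hc, ← hι1, hjact, hrr, mul_one]

theorem PData.exists_normalized_odd [Finite G] (P : PData G Ω a b F)
    (hodd : Odd (Nat.card ↥(stabilizer G a ⊓ stabilizer G b : Subgroup G))) :
    ∃ (K : Type) (_ : Field K) (_ : Fintype K) (ι : K → Ω) (t : G),
      Fintype.card K + 1 = Fintype.card Ω ∧ Coord a b F ι ∧ P.Inv ∧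
        t • a = b ∧ t • b = a ∧ t • ι 1 = ι (-1) := by
  classical
  obtain ⟨hinv', hnofix⟩ := P.inv_odd hodd
  have hinv : P.Inv := hinv'
  obtain ⟨u₀, hu₀, hu₀1⟩ := P.exists_ne_one
  obtain ⟨K, instK, instFK, ι, hcard, C, -⟩ := P.exists_coord hinv hu₀ hu₀1
  obtain ⟨t₀, hta₀, htb₀⟩ := P.exists_swap
  obtain ⟨htt₀, -⟩ := hinv t₀ hta₀ htb₀
  have ht₀1 : t₀ ≠ 1 := by
    rintro rfl
    rw [one_smul] at hta₀
    exact P.hab hta₀
  -- `-1` is not a square
  have hm1 : ¬ IsSquare (-1 : K) := by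
    rw [FiniteField.isSquare_neg_one_iff]
    push Not
    have h1 := P.hFcard
    have h2 := P.he
    obtain ⟨m, hm⟩ := hodd
    omega
  -- the image of `ι 1`
  have h1a : t₀ • ι 1 ≠ a := by
    intro h
    rw [← htb₀] at h
    have := MulAction.injective t₀ h
    rw [← C.zero] at this
    exact one_ne_zero (C.inj this)
  obtain ⟨w, hw⟩ : ∃ w : K, t₀ • ι 1 = ι w := by
    rcases C.cover (t₀ • ι 1) with h | h
    · exact absurd h h1a
    · exact h
  have hw0 : w ≠ 0 := by
    rintro rfl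
    rw [C.zero, ← hta₀] at hw
    exact C.ne_a 1 (MulAction.injective t₀ hw)
  have hwns : ¬ IsSquare w := by
    rintro ⟨s, hs⟩
    have hs0 : s ≠ 0 := by
      rintro rfl
      rw [mul_zero] at hs
      exact hw0 hs
    -- a square root of `s` or `-s`
    obtain ⟨r, hr⟩ : ∃ r : K, r * r = s ∨ r * r = -s := by
      by_cases hss : IsSquare s
      · obtain ⟨r, hr⟩ := hss
        exact ⟨r, Or.inl hr.symm⟩
      · obtain ⟨r, hr⟩ := nonsq_mul_nonsq hm1 hss
        exact ⟨r, Or.inr (by rw [← hr]; ring)⟩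
    have hr0 : r ≠ 0 := by
      rintro rfl
      rw [mul_zero] at hr
      rcases hr with h | h
      · exact hs0 h.symm
      · exact hs0 (by linear_combination h)
    have hrr : (r * r) * (r * r) = w := by
      rcases hr with h | h
      · rw [h, hs]
      · rw [h, hs]; ring
    have h2 := P.swap_sq hinv C hta₀ htb₀ hr0 hw
    rw [mul_one, ← hrr] at h2
    have h3 : (r * r)⁻¹ * (r * r * (r * r)) = r * r := by
      have : r * r ≠ 0 := mul_ne_zero hr0 hr0
      field_simp
    rw [h3] at h2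
    exact hnofix t₀ htt₀ ht₀1 _ h2
  obtain ⟨r, hr⟩ := nonsq_mul_nonsq hm1 hwns
  have hr0 : r ≠ 0 := by
    rintro rfl
    rw [mul_zero] at hr
    have : w = 0 := by linear_combination -hr
    exact hw0 this
  obtain ⟨h, hha, hhb, hh⟩ := C.act_E r hr0
  refine ⟨K, instK, instFK, ι, t₀ * h, hcard, C, hinv, ?_, ?_, ?_⟩
  · rw [mul_smul, hha, hta₀]
  · rw [mul_smul, hhb, htb₀]
  · have h2 := P.swap_sq hinv C hta₀ htb₀ hr0 hw
    rw [mul_smul, hh, h2]
    congr 1
    rw [← hr]
    field_simp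

theorem PData.exists_normalized [Finite G] (P : PData G Ω a b F) :
    ∃ (K : Type) (_ : Field K) (_ : Fintype K) (ι : K → Ω) (t : G),
      Fintype.card K + 1 = Fintype.card Ω ∧ Coord a b F ι ∧ P.Inv ∧
        t • a = b ∧ t • b = a ∧ t • ι 1 = ι (-1) := by
  rcases Nat.even_or_odd (Nat.card ↥(stabilizer G a ⊓ stabilizer G b : Subgroup G)) with h | h
  · exact P.exists_normalized_even h
  · exact P.exists_normalized_odd h

end

end ZP

end Cfsg.Agent.Lib.Helper2
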