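import Mathlib

set_option autoImplicit false

/-!
# Dickson's subgroup theorem: the arithmetic of the counting identity
-/

namespace Cfsg.Agent.Lib.Helper2

namespace DSub

/-- sorted case of three orbits without parabolic elements -/
theorem num3 (g n₁ n₂ n₃ e₁ e₂ e₃ : ℕ) (h1 : n₁ * e₁ = g) (h2 : n₂ * e₂ = g) (h3 : n₃ * e₃ = g)
    (he1 : 2 ≤ e₁) (h12 : e₁ ≤ e₂) (h23 : e₂ ≤ e₃) (hsum : n₁ + n₂ + n₃ = g + 2) :
    e₁ = 2 ∧ ((e₂ = 2 ∧ g = 2 * e₃) ∨ (e₂ = 3 ∧ e₃ = 3 ∧ g = 12) ∨ (e₂ = 3 ∧ e₃ = 4 ∧ g = 24) ∨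
      (e₂ = 3 ∧ e₃ = 5 ∧ g = 60)) := by
  have e1 : e₁ = 2 := by
    by_contra hne
    have h3' : 3 ≤ e₁ := by omega
    have a1 : 3 * n₁ ≤ g := by nlinarith
    have a2 : 3 * n₂ ≤ g := by nlinarith
    have a3 : 3 * n₃ ≤ g := by nlinarith
    omega
  subst e1
  refine ⟨rfl, ?_⟩
  have e2 : e₂ ≤ 3 := by
    by_contra hne
    have h4 : 4 ≤ e₂ := by omega
    have a2 : 4 * n₂ ≤ g := by nlinarith
    have a3 : 4 * n₃ ≤ g := by nlinarith
    omega
  interval_cases e₂
  · left
    refine ⟨rfl, ?_⟩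
    have : n₃ = 2 := by omega
    subst this
    omega
  · right
    have e3 : e₃ ≤ 5 := by
      by_contra hne
      have h6 : 6 ≤ e₃ := by omega
      have a3 : 6 * n₃ ≤ g := by nlinarith
      omega
    interval_cases e₃
    · left; refine ⟨rfl, rfl, ?_⟩; omega
    · right; left; refine ⟨rfl, rfl, ?_⟩; omega
    · right; right; refine ⟨rfl, rfl, ?_⟩; omega

/-- the three elements exhaust the type -/
def Tri {ι : Type*} (i j k : ι) : Prop :=
  i ≠ j ∧ i ≠ k ∧ j ≠ k ∧ ∀ l : ι, l = i ∨ l = j ∨ l = k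

theorem exists_sorted3 {ι : Type*} (f : ι → ℕ) (i j k : ι) (h : Tri i j k) :
    ∃ a b c : ι, Tri a b c ∧ f a ≤ f b ∧ f b ≤ f c := by
  obtain ⟨hij, hik, hjk, hall⟩ := h
  have p1 : Tri i j k := ⟨hij, hik, hjk, hall⟩
  have p2 : Tri i k j := ⟨hik, hij, hjk.symm, fun l => by rcases hall l with h | h | h <;> simp [h]⟩
  have p3 : Tri j i k := ⟨hij.symm, hjk, hik, fun l => by rcases hall l with h | h | h <;> simp [h]⟩
  have p4 : Tri j k i := ⟨hjk, hij.symm, hik.symm,
    fun l => by rcases hall l with h | h | h <;> simp [h]⟩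
  have p5 : Tri k i j := ⟨hik.symm, hjk.symm, hij,
    fun l => by rcases hall l with h | h | h <;> simp [h]⟩
  have p6 : Tri k j i := ⟨hjk.symm, hik.symm, hij.symm,
    fun l => by rcases hall l with h | h | h <;> simp [h]⟩
  rcases le_total (f i) (f j) with a | a <;> rcases le_total (f j) (f k) with b | b <;>
    rcases le_total (f i) (f k) with c | c
  · exact ⟨i, j, k, p1, a, b⟩
  · exact ⟨i, j, k, p1, a, b⟩
  · exact ⟨i, k, j, p2, c, b⟩
  · exact ⟨k, i, j, p5, c, a⟩
  · exact ⟨j, i, k, p3, a, c⟩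
  · exact ⟨j, k, i, p4, b, c⟩
  · exact ⟨k, j, i, p6, b, a⟩
  · exact ⟨k, j, i, p6, b, a⟩

theorem num {ι : Type*} [Fintype ι] (g : ℕ) (hg : 1 ≤ g) (n e q : ι → ℕ)
    (hne : ∀ i, n i * e i = g) (he : ∀ i, 2 ≤ e i) (hq1 : ∀ i, 1 ≤ q i) (hqe : ∀ i, q i ≤ e i)
    (hsum : ∑ i, (n i : ℤ) * ((e i : ℤ) + q i - 2) = 2 * (g : ℤ) - 2) :
    (IsEmpty ι ∧ g = 1) ∨
    (∃ i j, i ≠ j ∧ (∀ k, k = i ∨ k = j) ∧ q i = 1 ∧ q j = 1 ∧ n i = 1 ∧ n j = 1) ∨
    (∃ i j k, Tri i j k ∧ q i = 1 ∧ q j = 1 ∧ q k = 1 ∧ e i = 2 ∧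
      ((e j = 2 ∧ g = 2 * e k) ∨ (e j = 3 ∧ e k = 3 ∧ g = 12) ∨ (e j = 3 ∧ e k = 4 ∧ g = 24) ∨
        (e j = 3 ∧ e k = 5 ∧ g = 60))) ∨
    (∃ i, (∀ k, k = i) ∧ 2 ≤ q i ∧ n i = 1) ∨
    (∃ i j, i ≠ j ∧ (∀ k, k = i ∨ k = j) ∧ 2 ≤ q i ∧ q j = 1 ∧
      n j + 2 * n i = n i * q i + 2) := by
  classical
  have hn1 : ∀ i, 1 ≤ n i := by
    intro i
    by_contra h
    have h0 : n i = 0 := by omega
    have h1 := hne i
    rw [h0, zero_mul] at h1
    omega
  have hnez : ∀ i, (n i : ℤ) * e i = g := fun i => by exact_mod_cast hne i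
  have hez : ∀ i, (2 : ℤ) ≤ e i := fun i => by exact_mod_cast he i
  have hqz : ∀ i, (1 : ℤ) ≤ q i := fun i => by exact_mod_cast hq1 i
  have hqez : ∀ i, (q i : ℤ) ≤ e i := fun i => by exact_mod_cast hqe i
  have hnz : ∀ i, (1 : ℤ) ≤ n i := fun i => by exact_mod_cast hn1 i
  -- basic bounds
  have hA : ∀ i, (g : ℤ) ≤ 2 * ((n i : ℤ) * ((e i : ℤ) + q i - 2)) := by
    intro i
    nlinarith [hnez i, hez i, hqz i, hnz i, mul_nonneg (by linarith [hnz i] : (0 : ℤ) ≤ n i)
      (by linarith [hez i, hqz i] : (0 : ℤ) ≤ (e i : ℤ) + 2 * q i - 4)]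
  have hB : ∀ i, 2 ≤ q i → (g : ℤ) ≤ (n i : ℤ) * ((e i : ℤ) + q i - 2) := by
    intro i hi
    have : (2 : ℤ) ≤ q i := by exact_mod_cast hi
    nlinarith [hnez i, hnz i, mul_nonneg (by linarith [hnz i] : (0 : ℤ) ≤ n i)
      (by linarith : (0 : ℤ) ≤ (q i : ℤ) - 2)]
  have hnn : ∀ i, (0 : ℤ) ≤ (n i : ℤ) * ((e i : ℤ) + q i - 2) := by
    intro i
    have := hA i
    have : (0 : ℤ) ≤ g := by positivity
    linarith [hA i]
  have hcard : Fintype.card ι ≤ 3 := by
    by_contra hc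
    have hc4 : 4 ≤ Fintype.card ι := by omega
    have h1 : ∑ _i : ι, (g : ℤ) ≤ ∑ i, 2 * ((n i : ℤ) * ((e i : ℤ) + q i - 2)) :=
      Finset.sum_le_sum (fun i _ => hA i)
    rw [← Finset.mul_sum, hsum, Finset.sum_const, Finset.card_univ, nsmul_eq_mul] at h1
    have h2 : (4 : ℤ) ≤ Fintype.card ι := by exact_mod_cast hc4
    have h3 : (1 : ℤ) ≤ g := by exact_mod_cast hg
    nlinarith
  have hc := hcard
  interval_cases hcc : Fintype.card ι
  · -- empty
    left
    have hemp : IsEmpty ι := Fintype.card_eq_zero_iff.mp hcc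
    refine ⟨hemp, ?_⟩
    rw [Finset.univ_eq_empty, Finset.sum_empty] at hsum
    omega
  · -- one orbit
    obtain ⟨i, hi⟩ := Fintype.card_eq_one_iff.mp hcc
    have huniv : (Finset.univ : Finset ι) = {i} := by
      ext k; simp [hi k]
    rw [huniv, Finset.sum_singleton] at hsum
    right; right; right; left
    have hq2 : 2 ≤ q i := by
      by_contra hlt
      have : q i = 1 := by have := hq1 i; omega
      rw [this] at hsum
      push_cast at hsum
      nlinarith [hnez i, hez i, hnz i]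
    refine ⟨i, hi, hq2, ?_⟩
    have h5 : (n i : ℤ) * ((e i : ℤ) - q i + 2) = 2 := by nlinarith [hnez i]
    have h6 : (2 : ℤ) ≤ (e i : ℤ) - q i + 2 := by linarith [hqez i]
    have h7 : (n i : ℤ) = 1 := by nlinarith [hnz i]
    exact_mod_cast h7
  · -- two orbits
    have hcu : (Finset.univ : Finset ι).card = 2 := by rw [Finset.card_univ]; exact hcc
    obtain ⟨i, j, hij, huniv⟩ := Finset.card_eq_two.mp hcu
    have hall : ∀ k, k = i ∨ k = j := by
      intro k
      have := Finset.mem_univ k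
      rw [huniv] at this
      simpa using this
    rw [huniv, Finset.sum_pair hij] at hsum
    by_cases hqi : 2 ≤ q i
    · by_cases hqj : 2 ≤ q j
      · exfalso
        have := hB i hqi
        have := hB j hqj
        linarith
      · have hqj1 : q j = 1 := by have := hq1 j; omega
        right; right; right; right
        refine ⟨i, j, hij, hall, hqi, hqj1, ?_⟩
        rw [hqj1] at hsum
        push_cast at hsum
        have : (n j : ℤ) + 2 * n i = n i * q i + 2 := by nlinarith [hnez i, hnez j]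
        exact_mod_cast this
    · have hqi1 : q i = 1 := by have := hq1 i; omega
      by_cases hqj : 2 ≤ q j
      · right; right; right; right
        refine ⟨j, i, hij.symm, fun k => (hall k).symm, hqj, hqi1, ?_⟩
        rw [hqi1] at hsum
        push_cast at hsum
        have : (n i : ℤ) + 2 * n j = n j * q j + 2 := by nlinarith [hnez i, hnez j]
        exact_mod_cast this
      · have hqj1 : q j = 1 := by have := hq1 j; omega
        right; left
        rw [hqi1, hqj1] at hsum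
        push_cast at hsum
        have h5 : (n i : ℤ) + n j = 2 := by nlinarith [hnez i, hnez j]
        have h6 : n i + n j = 2 := by exact_mod_cast h5
        have := hn1 i
        have := hn1 j
        exact ⟨i, j, hij, hall, hqi1, hqj1, by omega, by omega⟩
  · -- three orbits
    have hcu : (Finset.univ : Finset ι).card = 3 := by rw [Finset.card_univ]; exact hcc
    obtain ⟨i, j, k, hij, hik, hjk, huniv⟩ := Finset.card_eq_three.mp hcu
    have hall : ∀ l, l = i ∨ l = j ∨ l = k := by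
      intro l
      have := Finset.mem_univ l
      rw [huniv] at this
      simpa using this
    have hsum' := hsum
    rw [huniv, Finset.sum_insert (by simp [hij, hik]), Finset.sum_pair hjk] at hsum'
    have hq : ∀ l, q l = 1 := by
      intro l
      by_contra hl
      have hl2 : 2 ≤ q l := by have := hq1 l; omega
      have hBl := hB l hl2
      have hAi := hA i
      have hAj := hA j
      have hAk := hA k
      have hgz : (1 : ℤ) ≤ g := by exact_mod_cast hg
      rcases hall l with rfl | rfl | rfl <;> linarith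
    right; right; left
    obtain ⟨a, b, c, hT, hab, hbc⟩ := exists_sorted3 e i j k ⟨hij, hik, hjk, hall⟩
    have hsum2 : ∑ l, (n l : ℤ) * ((e l : ℤ) + q l - 2) =
        (n a : ℤ) * ((e a : ℤ) + q a - 2) + (n b : ℤ) * ((e b : ℤ) + q b - 2) +
          (n c : ℤ) * ((e c : ℤ) + q c - 2) := by
      have hu : (Finset.univ : Finset ι) = {a, b, c} := by
        ext l
        simp only [Finset.mem_univ, Finset.mem_insert, Finset.mem_singleton, true_iff]
        exact hT.2.2.2 l
      rw [hu, Finset.sum_insert (by simp [hT.1, hT.2.1]), Finset.sum_pair hT.2.2.1]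
      ring
    rw [hsum2, hq a, hq b, hq c] at hsum
    push_cast at hsum
    have h5 : (n a : ℤ) + n b + n c = g + 2 := by nlinarith [hnez a, hnez b, hnez c]
    have h6 : n a + n b + n c = g + 2 := by exact_mod_cast h5
    obtain ⟨r1, r2⟩ := num3 g (n a) (n b) (n c) (e a) (e b) (e c) (hne a) (hne b) (hne c) (he a)
      hab hbc h6
    exact ⟨a, b, c, hT, hq a, hq b, hq c, r1, r2⟩

end DSub

end Cfsg.Agent.Lib.Helper2
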