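import Mathlib
import Cfsg.Agent.Lib.Helper2.DSub4

set_option autoImplicit false

/-!
# Dickson's subgroup theorem: arithmetic of the case with parabolic elements
-/

namespace Cfsg.Agent.Lib.Helper2

namespace DSub

theorem num2 (g q k r n₂ e₂ : ℕ) (hq : 2 ≤ q) (hk : k ∣ q - 1) (hr : 1 ≤ r)
    (hg1 : (1 + q * r) * (q * k) = g) (hg2 : n₂ * e₂ = g)
    (hn2 : n₂ + 2 * (1 + q * r) = (1 + q * r) * q + 2) :
    (q = 2 ∧ k = 1 ∧ n₂ = 2) ∨ (3 ≤ q ∧ r = 1 ∧ (k = q - 1 ∨ 2 * k = q - 1)) ∨
      (q = 3 ∧ r = 3 ∧ k = 2 ∧ e₂ = 5 ∧ g = 60) := by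
  obtain ⟨t, rfl⟩ : ∃ t, q = t + 2 := ⟨q - 2, by omega⟩
  have hk' : k ∣ t + 1 := by simpa using hk
  have hkpos : 1 ≤ k := Nat.pos_of_dvd_of_pos hk' (by omega)
  have hkle : k ≤ t + 1 := Nat.le_of_dvd (by omega) hk'
  -- n₂ = q * D
  set D := 1 + r * t with hD
  have hn2' : n₂ = (t + 2) * D := by
    have : (n₂ : ℤ) = ((t : ℤ) + 2) * (1 + r * t) := by
      have h := congrArg (fun n : ℕ => (n : ℤ)) hn2
      push_cast at h
      linarith
    rw [hD]
    exact_mod_cast this
  have hmain : (D + 2 * r) * k = D * e₂ := by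
    have h1 : (t + 2) * ((D + 2 * r) * k) = (t + 2) * (D * e₂) := by
      have e1 : D + 2 * r = 1 + (t + 2) * r := by rw [hD]; ring
      rw [e1]
      calc (t + 2) * ((1 + (t + 2) * r) * k) = (1 + (t + 2) * r) * ((t + 2) * k) := by ring
        _ = g := hg1
        _ = n₂ * e₂ := hg2.symm
        _ = (t + 2) * (D * e₂) := by rw [hn2']; ring
    exact Nat.eq_of_mul_eq_mul_left (by omega) h1
  have hDdvd : D ∣ 2 * k := by
    have h1 : D ∣ (D + 2 * r) * k := ⟨e₂, hmain⟩
    have h2 : D ∣ 2 * r * k := by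
      have : (D + 2 * r) * k = D * k + 2 * r * k := by ring
      rw [this] at h1
      exact (Nat.dvd_add_right (Dvd.intro _ rfl)).mp h1
    have hcop : Nat.Coprime D r := by
      rw [hD]
      have : Nat.gcd (1 + r * t) r = 1 := by
        rw [Nat.gcd_comm, Nat.gcd_add_mul_left_right]
        exact Nat.gcd_one_right r
      exact this
    have h3 : D ∣ r * (2 * k) := by
      have : 2 * r * k = r * (2 * k) := by ring
      rwa [this] at h2
    exact hcop.dvd_of_dvd_mul_left h3
  have hDle : D ≤ 2 * k := Nat.le_of_dvd (by omega) hDdvd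
  rcases Nat.eq_zero_or_pos t with ht | ht
  · -- q = 2
    left
    subst ht
    simp only [zero_add] at hk'
    have hk1 : k = 1 := Nat.dvd_one.mp hk'
    refine ⟨rfl, hk1, ?_⟩
    rw [hn2', hD]; simp
  · right
    -- r ≤ 3
    have hr3 : r ≤ 3 := by
      by_contra hcon
      have : 4 ≤ r := by omega
      have h1 : 4 * t ≤ r * t := Nat.mul_le_mul_right t this
      omega
    interval_cases r
    · -- r = 1
      left
      refine ⟨by omega, rfl, ?_⟩
      have hD1 : D = t + 1 := by rw [hD]; ring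
      rw [hD1] at hDdvd
      obtain ⟨j, hj⟩ := hk'
      -- t+1 = k*j, k*j ∣ 2k so j ∣ 2
      rw [hj] at hDdvd
      have hj2 : j ∣ 2 := by
        have : k * j ∣ k * 2 := by rwa [mul_comm 2 k] at hDdvd
        exact Nat.dvd_of_mul_dvd_mul_left hkpos this
      have : j = 1 ∨ j = 2 := by
        have := Nat.le_of_dvd (by norm_num) hj2
        interval_cases j <;> simp_all
      rcases this with rfl | rfl
      · left; omega
      · right; omega
    · -- r = 2
      exfalso
      have hD2 : D = 2 * t + 1 := by rw [hD]; ring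
      rw [hD2] at hDdvd
      have hcop : Nat.Coprime (2 * t + 1) 2 := by
        rw [Nat.coprime_two_right]
        exact ⟨t, by ring⟩
      have := hcop.dvd_of_dvd_mul_left hDdvd
      have := Nat.le_of_dvd hkpos this
      omega
    · -- r = 3
      right
      have ht1 : t = 1 := by
        have hD3 : D = 3 * t + 1 := by rw [hD]; ring
        omega
      subst ht1
      have hD4 : D = 4 := by rw [hD]
      rw [hD4] at hDdvd hmain
      have hk2 : k = 2 := by
        have : k ≤ 2 := hkle
        interval_cases k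
        · omega
        · rfl
      subst hk2
      refine ⟨rfl, rfl, rfl, by omega, ?_⟩
      rw [← hg1]

end DSub

end Cfsg.Agent.Lib.Helper2
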