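import Mathlib

set_option autoImplicit false

/-!
# Dickson's subgroup theorem: abstract fixed point counting (part 1)

A finite group `H` acting on a set `X` "like a group of Möbius transformations":
every element has a fixed point, only the identity fixes three points, and the
elements with a single fixed point `x` (parabolic at `x`) form, with `1`, a commutative
subgroup `Q x`.
-/

namespace Cfsg.Agent.Lib.Helper2

namespace DSub

open MulAction

variable {H X : Type*} [Group H] [MulAction H X]

/-- `g` is parabolic at `x`: nonidentity, fixes `x` and no other point. -/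
def IsPar (g : H) (x : X) : Prop := g ≠ 1 ∧ g • x = x ∧ ∀ y : X, g • y = y → y = x

/-- Möbius-like actions. -/
structure Mob (H X : Type*) [Group H] [MulAction H X] : Prop where
  exists_fixed : ∀ h : H, ∃ x : X, h • x = x
  sharp : ∀ (h : H) (x y z : X), x ≠ y → x ≠ z → y ≠ z → h • x = x → h • y = y → h • z = z →
    h = 1
  par_mul : ∀ (x : X) (g h : H), IsPar g x → IsPar h x → g * h = 1 ∨ IsPar (g * h) x
  par_comm : ∀ (x : X) (g h : H), IsPar g x → IsPar h x → g * h = h * g
  cyc : ∀ x : X, (∀ g : H, ¬ IsPar g x) → IsCyclic (stabilizer H x)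
  swap : ∀ (g : H) (x y : X), x ≠ y → g • x = y → g • y = x →
    g * g = 1 ∧ ∀ h : H, h • x = x → h • y = y → g * h * g⁻¹ = h⁻¹

theorem IsPar.inv {g : H} {x : X} (h : IsPar g x) : IsPar g⁻¹ x := by
  obtain ⟨h1, h2, h3⟩ := h
  refine ⟨inv_ne_one.mpr h1, ?_, ?_⟩
  · rw [inv_smul_eq_iff, h2]
  · intro y hy
    apply h3
    rw [inv_smul_eq_iff] at hy
    exact hy.symm

theorem IsPar.conj {g : H} {x : X} (h : IsPar g x) (k : H) : IsPar (k * g * k⁻¹) (k • x) := by
  obtain ⟨h1, h2, h3⟩ := h
  refine ⟨?_, ?_, ?_⟩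
  · intro h0
    apply h1
    have : g = k⁻¹ * (k * g * k⁻¹) * k := by group
    rw [this, h0]; group
  · rw [mul_smul, mul_smul, inv_smul_smul, h2]
  · intro y hy
    rw [mul_smul, mul_smul] at hy
    have h4 : g • (k⁻¹ • y) = k⁻¹ • y := by
      have h5 := congrArg (fun z => k⁻¹ • z) hy
      simpa only [inv_smul_smul] using h5
    have := h3 _ h4
    rw [← this, smul_inv_smul]

theorem IsPar.unique {g : H} {x y : X} (hx : IsPar g x) (hy : IsPar g y) : x = y :=
  hy.2.2 x hx.2.1

/-- The parabolic subgroup at `x`. -/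
def Q (M : Mob H X) (x : X) : Subgroup H where
  carrier := {g | g = 1 ∨ IsPar g x}
  one_mem' := Or.inl rfl
  mul_mem' := by
    rintro a b (rfl | ha) (rfl | hb)
    · left; simp
    · right; simpa using hb
    · right; simpa using ha
    · exact M.par_mul x a b ha hb
  inv_mem' := by
    rintro a (rfl | ha)
    · left; simp
    · right; exact ha.inv

theorem mem_Q (M : Mob H X) (x : X) (g : H) : g ∈ Q M x ↔ g = 1 ∨ IsPar g x := Iff.rfl

theorem Q_le_stabilizer (M : Mob H X) (x : X) : Q M x ≤ stabilizer H x := by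
  rintro g (rfl | hg)
  · exact one_mem _
  · exact hg.2.1

theorem Q_comm (M : Mob H X) (x : X) (a b : H) (ha : a ∈ Q M x) (hb : b ∈ Q M x) :
    a * b = b * a := by
  rcases ha with rfl | ha
  · simp
  rcases hb with rfl | hb
  · simp
  exact M.par_comm x a b ha hb

theorem conj_mem_Q (M : Mob H X) (x : X) (g k : H) (hg : g ∈ Q M x) :
    k * g * k⁻¹ ∈ Q M (k • x) := by
  rcases hg with rfl | hg
  · left; group
  · right; exact hg.conj k

theorem conj_mem_Q_iff (M : Mob H X) (x : X) (g k : H) :
    k * g * k⁻¹ ∈ Q M (k • x) ↔ g ∈ Q M x := by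
  constructor
  · intro h
    have := conj_mem_Q M (k • x) _ k⁻¹ h
    rw [inv_smul_smul] at this
    have e : k⁻¹ * (k * g * k⁻¹) * k⁻¹⁻¹ = g := by group
    rwa [e] at this
  · exact conj_mem_Q M x g k

/-- nonidentity elements not parabolic anywhere have exactly two fixed points -/
theorem exists_two_fixed (M : Mob H X) (h : H) (h1 : h ≠ 1) (hnp : ∀ x : X, ¬ IsPar h x) :
    ∃ x y : X, x ≠ y ∧ h • x = x ∧ h • y = y ∧ ∀ z : X, h • z = z → z = x ∨ z = y := by
  obtain ⟨x, hx⟩ := M.exists_fixed h
  have h2 := hnp x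
  unfold IsPar at h2
  push Not at h2
  obtain ⟨y, hy, hyx⟩ := h2 h1 hx
  refine ⟨x, y, fun e => hyx e.symm, hx, hy, ?_⟩
  intro z hz
  by_contra hcon
  push Not at hcon
  exact h1 (M.sharp h x y z (fun e => hyx e.symm) (fun e => hcon.1 e.symm)
    (fun e => hcon.2 e.symm) hx hy hz)

end DSub

end Cfsg.Agent.Lib.Helper2
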