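import Mathlib
import Cfsg.Agent.Lib.Helper2.DSub1

set_option autoImplicit false

/-!
# Dickson's subgroup theorem: the counting identity
-/

namespace Cfsg.Agent.Lib.Helper2

namespace DSub

open MulAction

variable {H X : Type*} [Group H] [MulAction H X]

/-- points with nontrivial stabilizer -/
def Om (H X : Type*) [Group H] [MulAction H X] : SubMulAction H X where
  carrier := {x | ∃ h : H, h ≠ 1 ∧ h • x = x}
  smul_mem' := by
    rintro k x ⟨h, h1, hx⟩
    refine ⟨k * h * k⁻¹, ?_, ?_⟩
    · intro h0
      apply h1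
      have : h = k⁻¹ * (k * h * k⁻¹) * k := by group
      rw [this, h0]; group
    · rw [mul_smul, mul_smul, inv_smul_smul, hx]

theorem mem_Om (x : X) : x ∈ Om H X ↔ ∃ h : H, h ≠ 1 ∧ h • x = x := Iff.rfl

theorem fixed_subset (M : Mob H X) (h : H) (h1 : h ≠ 1) :
    ∃ x y : X, {z : X | h • z = z} ⊆ {x, y} := by
  by_cases hp : ∃ x : X, IsPar h x
  · obtain ⟨x, hx⟩ := hp
    refine ⟨x, x, ?_⟩
    intro z hz
    left
    exact hx.2.2 z hz
  · push Not at hp
    obtain ⟨x, y, -, -, -, hxy⟩ := exists_two_fixed M h h1 hp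
    exact ⟨x, y, fun z hz => hxy z hz⟩

theorem finite_Om (M : Mob H X) [Finite H] : Finite ↥(Om H X) := by
  have : ((Om H X : SubMulAction H X) : Set X) ⊆ ⋃ h : {h : H // h ≠ 1}, {z : X | h.1 • z = z} := by
    rintro x ⟨h, h1, hx⟩
    exact Set.mem_iUnion.2 ⟨⟨h, h1⟩, hx⟩
  apply Set.Finite.subset _ this
  apply Set.finite_iUnion
  rintro ⟨h, h1⟩
  obtain ⟨x, y, hxy⟩ := fixed_subset M h h1
  exact (Set.toFinite {x, y}).subset hxy

section count

open Classical in
theorem row_sum (M : Mob H X) [Fintype ↥(Om H X)] (h : H) (h1 : h ≠ 1) :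
    ∑ x : ↥(Om H X), ((if h • (x : X) = x then 1 else 0) + (if IsPar h (x : X) then 1 else 0)) = 2 := by
  by_cases hp : ∃ x : X, IsPar h x
  · obtain ⟨x, hx⟩ := hp
    have hxO : x ∈ Om H X := ⟨h, h1, hx.2.1⟩
    have e1 : ∀ z : ↥(Om H X), (h • (z : X) = z) ↔ z = ⟨x, hxO⟩ := by
      intro z
      constructor
      · intro hz
        exact Subtype.ext (hx.2.2 _ hz)
      · rintro rfl
        exact hx.2.1
    have e2 : ∀ z : ↥(Om H X), IsPar h (z : X) ↔ z = ⟨x, hxO⟩ := by
      intro z
      constructor
      · intro hz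
        exact Subtype.ext (hz.unique hx)
      · rintro rfl
        exact hx
    simp_rw [e1, e2]
    rw [Finset.sum_add_distrib]
    simp
  · push Not at hp
    obtain ⟨x, y, hxy, hx, hy, hall⟩ := exists_two_fixed M h h1 hp
    have hxO : x ∈ Om H X := ⟨h, h1, hx⟩
    have hyO : y ∈ Om H X := ⟨h, h1, hy⟩
    have e2 : ∀ z : ↥(Om H X), IsPar h (z : X) ↔ False := fun z => iff_false_intro (hp z)
    simp_rw [e2]
    simp only [if_false, add_zero]
    rw [Finset.sum_boole]
    have : (Finset.univ.filter (fun z : ↥(Om H X) => h • (z : X) = z)) =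
        {⟨x, hxO⟩, ⟨y, hyO⟩} := by
      ext z
      simp only [Finset.mem_filter, Finset.mem_univ, true_and, Finset.mem_insert,
        Finset.mem_singleton]
      constructor
      · intro hz
        rcases hall _ hz with e | e
        · left; exact Subtype.ext e
        · right; exact Subtype.ext e
      · rintro (rfl | rfl)
        · exact hx
        · exact hy
    rw [this, Finset.card_pair]
    · rfl
    · intro e
      exact hxy (congrArg Subtype.val e)

open Classical in
theorem row_sum_one [Fintype ↥(Om H X)] :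
    ∑ x : ↥(Om H X), ((if (1 : H) • (x : X) = x then 1 else 0) +
      (if IsPar (1 : H) (x : X) then 1 else 0)) = Fintype.card ↥(Om H X) := by
  have e2 : ∀ z : ↥(Om H X), IsPar (1 : H) (z : X) ↔ False :=
    fun z => iff_false_intro (fun h => h.1 rfl)
  simp_rw [e2, one_smul]
  simp

open Classical in
theorem col_sum (M : Mob H X) [Fintype H] (x : X) :
    ∑ h : H, ((if h • x = x then 1 else 0) + (if IsPar h x then 1 else 0)) + 1 =
      Nat.card (stabilizer H x) + Nat.card (Q M x) := by
  rw [Finset.sum_add_distrib, Finset.sum_boole, Finset.sum_boole]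
  have e1 : (Finset.univ.filter (fun h : H => h • x = x)).card = Nat.card (stabilizer H x) := by
    rw [Nat.card_eq_fintype_card, Fintype.card_subtype]
    rfl
  have e2 : (Finset.univ.filter (fun h : H => IsPar h x)).card + 1 = Nat.card (Q M x) := by
    rw [Nat.card_eq_fintype_card, Fintype.card_subtype]
    have : (Finset.univ.filter (fun h : H => h ∈ Q M x)) =
        insert 1 (Finset.univ.filter (fun h : H => IsPar h x)) := by
      ext h
      simp only [Finset.mem_filter, Finset.mem_univ, true_and, Finset.mem_insert, mem_Q]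
    rw [this, Finset.card_insert_of_notMem]
    simp only [Finset.mem_filter, Finset.mem_univ, true_and]
    exact fun h => h.1 rfl
  push_cast
  rw [e1, add_assoc, e2]

open Classical in
/-- The counting identity. -/
theorem count (M : Mob H X) [Fintype H] [Fintype ↥(Om H X)] :
    ∑ x : ↥(Om H X), ((Nat.card (stabilizer H (x : X)) : ℤ) + Nat.card (Q M (x : X)) - 2) =
      2 * (Fintype.card H : ℤ) - 2 := by
  have hcomm := Finset.sum_comm (s := (Finset.univ : Finset H))
    (t := (Finset.univ : Finset ↥(Om H X)))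
    (f := fun h x => ((if h • (x : X) = x then 1 else 0) + (if IsPar h (x : X) then 1 else 0) : ℕ))
  have hrow : ∑ h : H, ∑ x : ↥(Om H X),
      ((if h • (x : X) = x then 1 else 0) + (if IsPar h (x : X) then 1 else 0) : ℕ) =
      Fintype.card ↥(Om H X) + 2 * (Fintype.card H - 1) := by
    rw [← Finset.add_sum_erase _ _ (Finset.mem_univ (1 : H)), row_sum_one]
    congr 1
    rw [Finset.sum_congr rfl (fun h hh => row_sum M h (Finset.ne_of_mem_erase hh))]
    rw [Finset.sum_const, Finset.card_erase_of_mem (Finset.mem_univ _), Finset.card_univ,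
      smul_eq_mul, mul_comm]
  have hcol : ∑ x : ↥(Om H X), ∑ h : H,
      ((if h • (x : X) = x then 1 else 0) + (if IsPar h (x : X) then 1 else 0) : ℕ) +
      Fintype.card ↥(Om H X) =
      ∑ x : ↥(Om H X), (Nat.card (stabilizer H (x : X)) + Nat.card (Q M (x : X))) := by
    rw [← Finset.card_univ, Finset.card_eq_sum_ones, ← Finset.sum_add_distrib]
    apply Finset.sum_congr rfl
    intro x _
    exact col_sum M (x : X)
  have hpos : 1 ≤ Fintype.card H := Fintype.card_pos
  rw [hrow] at hcomm
  have hz : (∑ x : ↥(Om H X), (Nat.card (stabilizer H (x : X)) + Nat.card (Q M (x : X))) : ℤ) =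
      2 * (Fintype.card ↥(Om H X) : ℤ) + 2 * ((Fintype.card H : ℤ) - 1) := by
    have := congrArg (fun n : ℕ => (n : ℤ)) hcol
    rw [← hcomm] at this
    push_cast [hpos] at this
    linarith
  rw [Finset.sum_sub_distrib, Finset.sum_const, Finset.card_univ, hz]
  simp only [nsmul_eq_mul]
  ring

end count

end DSub

end Cfsg.Agent.Lib.Helper2
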