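import Mathlib
import Cfsg.Agent.Lib.Helper2.DSub2

set_option autoImplicit false

/-!
# Dickson's subgroup theorem: the orbit form of the counting identity
-/

namespace Cfsg.Agent.Lib.Helper2

namespace DSub

open MulAction

/-- summing an invariant function over orbits -/
theorem sum_orbits {G Y : Type*} [Group G] [MulAction G Y] [Fintype Y]
    [Fintype (orbitRel.Quotient G Y)] (f : Y → ℤ) (hf : ∀ (g : G) (y : Y), f (g • y) = f y) :
    ∑ y, f y = ∑ ω : orbitRel.Quotient G Y, (Nat.card (orbit G ω.out) : ℤ) * f ω.out := by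
  classical
  rw [← Finset.sum_fiberwise Finset.univ (fun y => (Quotient.mk'' y : orbitRel.Quotient G Y)) f]
  apply Finset.sum_congr rfl
  intro ω _
  have h1 : ∀ y ∈ Finset.univ.filter (fun y : Y => (Quotient.mk'' y : orbitRel.Quotient G Y) = ω),
      f y = f ω.out := by
    intro y hy
    rw [Finset.mem_filter] at hy
    have h2 : y ∈ orbitRel.Quotient.orbit ω := orbitRel.Quotient.mem_orbit.mpr hy.2
    rw [orbitRel.Quotient.orbit_eq_orbit_out ω Quotient.out_eq'] at h2
    obtain ⟨g, rfl⟩ := h2
    exact hf g _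
  rw [Finset.sum_congr rfl h1, Finset.sum_const, nsmul_eq_mul]
  congr 2
  rw [Nat.card_eq_fintype_card, Fintype.card_subtype]
  congr 1
  ext y
  simp only [Finset.mem_filter, Finset.mem_univ, true_and]
  rw [← orbitRel.Quotient.mem_orbit, orbitRel.Quotient.orbit_eq_orbit_out ω Quotient.out_eq']

theorem card_orbit_mul_card_stabilizer {G Y : Type*} [Group G] [MulAction G Y] (y : Y) :
    Nat.card (orbit G y) * Nat.card (stabilizer G y) = Nat.card G := by
  rw [← Subgroup.index_mul_card (stabilizer G y), index_stabilizer, Nat.card_coe_set_eq]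

variable {H X : Type*} [Group H] [MulAction H X]

theorem card_stabilizer_smul (h : H) (x : X) :
    Nat.card (stabilizer H (h • x)) = Nat.card (stabilizer H x) :=
  Nat.card_congr (stabilizerEquivStabilizer (g := h) rfl).toEquiv.symm

theorem card_Q_smul (M : Mob H X) (h : H) (x : X) :
    Nat.card (Q M (h • x)) = Nat.card (Q M x) := by
  symm
  refine Nat.card_congr ⟨fun g => ⟨h * g.1 * h⁻¹, conj_mem_Q M x g.1 h g.2⟩,
    fun g => ⟨h⁻¹ * g.1 * h, ?_⟩, ?_, ?_⟩
  · have := conj_mem_Q M (h • x) g.1 h⁻¹ g.2
    rwa [inv_smul_smul, inv_inv] at this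
  · intro g
    apply Subtype.ext
    simp only
    group
  · intro g
    apply Subtype.ext
    simp only
    group

/-- The counting identity in orbit form. -/
theorem count_orbits (M : Mob H X) [Fintype H] [Fintype ↥(Om H X)]
    [Fintype (orbitRel.Quotient H ↥(Om H X))] :
    ∑ ω : orbitRel.Quotient H ↥(Om H X), (Nat.card (orbit H ω.out) : ℤ) *
      ((Nat.card (stabilizer H (ω.out : X)) : ℤ) + Nat.card (Q M (ω.out : X)) - 2) =
      2 * (Fintype.card H : ℤ) - 2 := by
  rw [← count M]
  symm
  apply sum_orbits (G := H) (Y := ↥(Om H X))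
    (f := fun x => (Nat.card (stabilizer H (x : X)) : ℤ) + Nat.card (Q M (x : X)) - 2)
  intro g y
  simp only [SubMulAction.val_smul]
  rw [card_stabilizer_smul, card_Q_smul]

theorem card_orbit_Om (x : ↥(Om H X)) :
    Nat.card (orbit H x) * Nat.card (stabilizer H (x : X)) = Nat.card H := by
  rw [← card_orbit_mul_card_stabilizer (G := H) x, SubMulAction.stabilizer_of_subMul]

end DSub

end Cfsg.Agent.Lib.Helper2
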