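import Mathlib
import Cfsg.Agent.Lib.Helper2.DSub3

set_option autoImplicit false
set_option linter.style.haveILetI false
set_option warn.classDefReducibility false

/-!
# Dickson's subgroup theorem: two congruences from Burnside's lemma
-/

namespace Cfsg.Agent.Lib.Helper2

namespace DSub

open MulAction

/-- Burnside's lemma when the number of fixed points takes two values. -/
theorem burnside_two {G Y : Type*} [Group G] [MulAction G Y] [Finite G] [Finite Y] (S : Set G)
    (a b : ℕ) (hS : ∀ g ∈ S, Nat.card (fixedBy Y g) = a)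
    (hnS : ∀ g ∉ S, Nat.card (fixedBy Y g) = b) :
    ∃ m : ℕ, S.ncard * a + (Nat.card G - S.ncard) * b = m * Nat.card G := by
  classical
  haveI : Fintype G := Fintype.ofFinite G
  haveI : Fintype Y := Fintype.ofFinite Y
  haveI : ∀ g : G, Fintype (fixedBy Y g) := fun g => Fintype.ofFinite _
  haveI : Fintype (Quotient (orbitRel G Y)) := Fintype.ofFinite _
  have hB := sum_card_fixedBy_eq_card_orbits_mul_card_group G Y
  refine ⟨Fintype.card (Quotient (orbitRel G Y)), ?_⟩
  rw [Nat.card_eq_fintype_card, ← hB]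
  have h1 : ∀ g ∈ (Finset.univ : Finset G), Fintype.card (fixedBy Y g) = if g ∈ S then a else b := by
    intro g _
    split_ifs with hg
    · rw [← Nat.card_eq_fintype_card]; exact hS g hg
    · rw [← Nat.card_eq_fintype_card]; exact hnS g hg
  rw [Finset.sum_congr rfl h1, Finset.sum_ite, Finset.sum_const, Finset.sum_const, smul_eq_mul,
    smul_eq_mul]
  have h2 : (Finset.univ.filter (fun g : G => g ∈ S)).card = S.ncard := by
    rw [Set.ncard_eq_toFinset_card' S]
    congr 1
    ext g
    simp
  have h3 : (Finset.univ.filter (fun g : G => g ∉ S)).card = Fintype.card G - S.ncard := by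
    rw [← h2, ← Finset.card_univ, ← Finset.card_sdiff_of_subset (Finset.filter_subset _ _)]
    congr 1
    ext g
    simp
  rw [h2, h3]

variable {H X : Type*} [Group H] [MulAction H X]

/-- the orbit of a point has size `≡ 1` modulo the order of the parabolic subgroup -/
theorem card_orbit_modEq (M : Mob H X) [Finite H] (x : X) :
    ∃ r : ℕ, Nat.card (orbit H x) = 1 + Nat.card (Q M x) * r := by
  have hQpos : 0 < Nat.card (Q M x) := Nat.card_pos
  haveI : Finite ↑(orbit H x) := by unfold orbit; infer_instance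
  have hA : ∀ g ∈ ({1} : Set ↥(Q M x)), Nat.card (fixedBy ↥(orbit H x) g) =
      Nat.card (orbit H x) := by
    intro g hg
    rw [Set.mem_singleton_iff] at hg
    subst hg
    apply Nat.card_congr
    exact ⟨fun y => y.1, fun y => ⟨y, by simp⟩, fun y => rfl, fun y => rfl⟩
  have hB : ∀ g ∉ ({1} : Set ↥(Q M x)), Nat.card (fixedBy ↥(orbit H x) g) = 1 := by
    intro g hg
    rw [Set.mem_singleton_iff] at hg
    have hg1 : (g : H) ≠ 1 := fun h => hg (Subtype.ext h)
    have hpar : IsPar (g : H) x := by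
      rcases g.2 with h | h
      · exact absurd h hg1
      · exact h
    rw [Nat.card_eq_one_iff_unique]
    constructor
    · constructor
      rintro ⟨⟨a, ha⟩, ha'⟩ ⟨⟨b, hb⟩, hb'⟩
      apply Subtype.ext
      apply Subtype.ext
      simp only
      rw [mem_fixedBy] at ha' hb'
      have e1 : (g : H) • a = a := congrArg Subtype.val ha'
      have e2 : (g : H) • b = b := congrArg Subtype.val hb'
      rw [hpar.2.2 a e1, hpar.2.2 b e2]
    · refine ⟨⟨⟨x, mem_orbit_self x⟩, ?_⟩⟩
      rw [mem_fixedBy]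
      apply Subtype.ext
      exact hpar.2.1
  obtain ⟨m, hm⟩ := burnside_two (G := ↥(Q M x)) (Y := ↥(orbit H x)) ({1} : Set ↥(Q M x))
    (Nat.card (orbit H x)) 1 hA hB
  rw [Set.ncard_singleton, one_mul, mul_one] at hm
  have hNpos : 0 < Nat.card (orbit H x) := by
    haveI : Nonempty (orbit H x) := ⟨⟨x, mem_orbit_self x⟩⟩
    exact Nat.card_pos
  have hm1 : 1 ≤ m := by
    rcases Nat.eq_zero_or_pos m with h0 | h0
    · rw [h0, zero_mul] at hm; omega
    · exact h0
  refine ⟨m - 1, ?_⟩
  obtain ⟨m', rfl⟩ : ∃ m', m = m' + 1 := ⟨m - 1, by omega⟩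
  simp only [Nat.add_sub_cancel]
  have : (m' + 1) * Nat.card (Q M x) = Nat.card (Q M x) * m' + Nat.card (Q M x) := by ring
  omega

/-- conjugation action of the stabilizer on the parabolic subgroup -/
def conjQ (M : Mob H X) (x : X) : MulAction ↥(stabilizer H x) ↥(Q M x) where
  smul h u := ⟨(h : H) * u * (h : H)⁻¹, by
    have := conj_mem_Q M x u h u.2
    rwa [mem_stabilizer_iff.mp h.2] at this⟩
  one_smul u := by
    apply Subtype.ext
    show (1 : H) * u * (1 : H)⁻¹ = u
    group
  mul_smul g h u := by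
    apply Subtype.ext
    show ((g : H) * h) * u * ((g : H) * h)⁻¹ = (g : H) * ((h : H) * u * (h : H)⁻¹) * (g : H)⁻¹
    group

theorem conjQ_smul_coe (M : Mob H X) (x : X) (h : ↥(stabilizer H x)) (u : ↥(Q M x)) :
    letI := conjQ M x
    ((h • u : ↥(Q M x)) : H) = (h : H) * u * (h : H)⁻¹ := rfl

/-- only the identity of `Q x` commutes with a non-parabolic element fixing `x` -/
theorem eq_one_of_commute (M : Mob H X) (x : X) (h u : H) (hx : h • x = x) (hh : h ∉ Q M x)
    (hu : u ∈ Q M x) (hc : h * u = u * h) : u = 1 := by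
  by_contra hu1
  have hpar : IsPar u x := by
    rcases hu with h0 | h0
    · exact absurd h0 hu1
    · exact h0
  have h1 : h ≠ 1 := fun e => hh (e ▸ one_mem _)
  have hnp : ¬ IsPar h x := fun e => hh (Or.inr e)
  unfold IsPar at hnp
  push Not at hnp
  obtain ⟨y, hy, hyx⟩ := hnp h1 hx
  -- `u • y` is fixed by `h`
  have h2 : h • (u • y) = u • y := by
    rw [← mul_smul, hc, mul_smul, hy]
  have h3 : u • y = x ∨ u • y = y := by
    by_contra hcon
    push Not at hcon
    exact h1 (M.sharp h x y (u • y) (fun e => hyx e.symm) (fun e => hcon.1 e.symm)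
      (fun e => hcon.2 e.symm) hx hy h2)
  rcases h3 with h3 | h3
  · apply hyx
    have : u • y = u • x := by rw [h3, hpar.2.1]
    exact smul_left_cancel u this
  · exact hyx (hpar.2.2 y h3)

/-- the index of `Q x` in the stabilizer divides `|Q x| - 1` -/
theorem index_dvd (M : Mob H X) [Finite H] (x : X) :
    ∃ k : ℕ, Nat.card (stabilizer H x) = Nat.card (Q M x) * k ∧ k ∣ Nat.card (Q M x) - 1 := by
  have hQpos : 0 < Nat.card (Q M x) := Nat.card_pos
  obtain ⟨k, hk⟩ := Subgroup.card_dvd_of_le (Q_le_stabilizer M x)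
  refine ⟨k, hk, ?_⟩
  have hkpos : 0 < k := by
    rcases Nat.eq_zero_or_pos k with h0 | h0
    · rw [h0, mul_zero] at hk
      have : 0 < Nat.card (stabilizer H x) := Nat.card_pos
      omega
    · exact h0
  letI := conjQ M x
  have hA : ∀ h ∈ ({h | (h : H) ∈ Q M x} : Set ↥(stabilizer H x)),
      Nat.card (fixedBy ↥(Q M x) h) = Nat.card (Q M x) := by
    intro h hh
    apply Nat.card_congr
    refine ⟨fun u => u.1, fun u => ⟨u, ?_⟩, fun u => rfl, fun u => rfl⟩
    rw [mem_fixedBy]
    apply Subtype.ext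
    rw [conjQ_smul_coe, Q_comm M x _ _ hh u.2]
    group
  have hB : ∀ h ∉ ({h | (h : H) ∈ Q M x} : Set ↥(stabilizer H x)),
      Nat.card (fixedBy ↥(Q M x) h) = 1 := by
    intro h hh
    rw [Nat.card_eq_one_iff_unique]
    constructor
    · constructor
      have key : ∀ u : ↥(fixedBy ↥(Q M x) h), (u : ↥(Q M x)) = 1 := by
        rintro ⟨u, hu⟩
        rw [mem_fixedBy] at hu
        have e1 : (h : H) * u * (h : H)⁻¹ = u := by
          rw [← conjQ_smul_coe, hu]
        have e2 : (h : H) * u = u * h := by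
          conv_rhs => rw [← e1]
          group
        apply Subtype.ext
        exact eq_one_of_commute M x h u (mem_stabilizer_iff.mp h.2) hh u.2 e2
      intro a b
      apply Subtype.ext
      rw [key a, key b]
    · refine ⟨⟨1, ?_⟩⟩
      rw [mem_fixedBy]
      apply Subtype.ext
      rw [conjQ_smul_coe]
      simp
  obtain ⟨m, hm⟩ := burnside_two (G := ↥(stabilizer H x)) (Y := ↥(Q M x))
    ({h | (h : H) ∈ Q M x} : Set ↥(stabilizer H x)) (Nat.card (Q M x)) 1 hA hB
  have hS : ({h | (h : H) ∈ Q M x} : Set ↥(stabilizer H x)).ncard = Nat.card (Q M x) := by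
    rw [← Nat.card_coe_set_eq]
    exact Nat.card_congr ⟨fun h => ⟨h.1.1, h.2⟩, fun u => ⟨⟨u.1, Q_le_stabilizer M x u.2⟩, u.2⟩,
      fun h => rfl, fun u => rfl⟩
  rw [hS, hk, mul_one] at hm
  set q := Nat.card (Q M x) with hq
  have h1 : q * k - q = q * (k - 1) := by
    rw [Nat.mul_sub, mul_one]
  rw [h1] at hm
  have h2 : q * (q + (k - 1)) = q * (m * k) := by
    rw [mul_add, hm]; ring
  have h3 : q + (k - 1) = m * k := Nat.eq_of_mul_eq_mul_left hQpos h2
  have hm1 : 1 ≤ m := by
    rcases Nat.eq_zero_or_pos m with h0 | h0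
    · rw [h0, zero_mul] at h3; omega
    · exact h0
  refine ⟨m - 1, ?_⟩
  obtain ⟨m', rfl⟩ : ∃ m', m = m' + 1 := ⟨m - 1, by omega⟩
  simp only [Nat.add_sub_cancel]
  have : (m' + 1) * k = k * m' + k := by ring
  omega

end DSub

end Cfsg.Agent.Lib.Helper2
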