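import Mathlib
import Cfsg.Agent.Lib.Helper2.DSub6
import Cfsg.Agent.Lib.Helper1.DihedralIso

set_option autoImplicit false
set_option linter.style.haveILetI false

/-!
# Dickson's subgroup theorem: the dihedral case
-/

namespace Cfsg.Agent.Lib.Helper2

namespace DSub

open MulAction

variable {H X : Type*} [Group H] [MulAction H X]

theorem orderOf_dvd_card_stabilizer (h : H) (x : X) (hx : h • x = x) :
    orderOf h ∣ Nat.card (stabilizer H x) :=
  Subgroup.orderOf_dvd_natCard _ (mem_stabilizer_iff.mpr hx)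

/-- a non-parabolic nonidentity element fixing `y` has exactly one more fixed point -/
theorem exists_other_fixed (M : Mob H X) (c : H) (y : X) (hc1 : c ≠ 1) (hcy : c • y = y)
    (hnp : ¬ IsPar c y) :
    ∃ y' : X, y' ≠ y ∧ c • y' = y' ∧ ∀ z : X, c • z = z → z = y ∨ z = y' := by
  unfold IsPar at hnp
  push Not at hnp
  obtain ⟨y', hy', hne⟩ := hnp hc1 hcy
  refine ⟨y', hne, hy', ?_⟩
  intro z hz
  by_contra hcon
  push Not at hcon
  exact hc1 (M.sharp c y y' z (fun e => hne e.symm) (fun e => hcon.1 e.symm)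
    (fun e => hcon.2 e.symm) hcy hy' hz)

theorem dihedral_of_index_two (M : Mob H X) [Finite H] (y : X) (hnp : ∀ g : H, ¬ IsPar g y)
    (hidx : (stabilizer H y).index = 2) (hne : stabilizer H y ≠ ⊥) :
    Nonempty (H ≃* DihedralGroup (Nat.card (stabilizer H y))) := by
  set C := stabilizer H y with hC
  haveI hcyc : IsCyclic C := M.cyc y hnp
  obtain ⟨c, hc⟩ := IsCyclic.exists_generator (α := C)
  have hc1 : (c : H) ≠ 1 := by
    intro h1
    apply hne
    rw [Subgroup.eq_bot_iff_forall]
    intro g hg
    obtain ⟨n, hn⟩ := hc ⟨g, hg⟩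
    have h2 : c = 1 := Subtype.ext h1
    rw [h2] at hn
    simp only [one_zpow] at hn
    exact (congrArg Subtype.val hn).symm
  have hcy : (c : H) • y = y := mem_stabilizer_iff.mp c.2
  obtain ⟨y', hy'ne, hcy', hall⟩ := exists_other_fixed M (c : H) y hc1 hcy (hnp _)
  -- every element of `C` is a power of `c`
  have hpow : ∀ g ∈ C, ∃ n : ℤ, g = (c : H) ^ n := by
    intro g hg
    obtain ⟨n, hn⟩ := hc ⟨g, hg⟩
    refine ⟨n, ?_⟩
    have := congrArg Subtype.val hn
    simpa using this.symm
  have hCy' : ∀ g ∈ C, g • y' = y' := by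
    intro g hg
    obtain ⟨n, rfl⟩ := hpow g hg
    have : (c : H) ∈ stabilizer H y' := mem_stabilizer_iff.mpr hcy'
    exact mem_stabilizer_iff.mp (Subgroup.zpow_mem _ this n)
  haveI hN : C.Normal := Subgroup.normal_of_index_eq_two hidx
  have hCtop : C ≠ ⊤ := by
    intro h
    rw [h, Subgroup.index_top] at hidx
    omega
  obtain ⟨t, htC⟩ : ∃ t : H, t ∉ C := by
    by_contra hcon
    push Not at hcon
    exact hCtop (Subgroup.eq_top_iff' C |>.mpr hcon)
  have hty : t • y ≠ y := fun h => htC (mem_stabilizer_iff.mpr h)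
  -- `c` fixes `t • y` and `t • y'`
  have hconj : t⁻¹ * (c : H) * t ∈ C := by
    have := hN.conj_mem (c : H) c.2 t⁻¹
    simpa using this
  have h1 : (c : H) • (t • y) = t • y := by
    have h2 : (t⁻¹ * (c : H) * t) • y = y := mem_stabilizer_iff.mp hconj
    rw [mul_smul, mul_smul, inv_smul_eq_iff] at h2
    exact h2
  have h2 : (c : H) • (t • y') = t • y' := by
    have h3 : (t⁻¹ * (c : H) * t) • y' = y' := hCy' _ hconj
    rw [mul_smul, mul_smul, inv_smul_eq_iff] at h3
    exact h3
  have hty' : t • y = y' := by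
    rcases hall _ h1 with h | h
    · exact absurd h hty
    · exact h
  have hty'' : t • y' = y := by
    rcases hall _ h2 with h | h
    · exact h
    · exfalso
      apply hy'ne
      have : t • y' = t • y := by rw [h, hty']
      exact smul_left_cancel t this
  obtain ⟨htt, hinv⟩ := M.swap t y y' (fun e => hy'ne e.symm) hty' hty''
  have htinv : t⁻¹ = t := inv_eq_of_mul_eq_one_right htt
  have hcinv : t * (c : H) * t = (c : H)⁻¹ := by
    have := hinv (c : H) hcy hcy'
    rwa [htinv] at this
  set z := t * (c : H) with hz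
  have hzC : z ∉ C := by
    intro h
    apply htC
    have : t = z * (c : H)⁻¹ := by rw [hz]; group
    rw [this]
    exact C.mul_mem h (C.inv_mem c.2)
  have hzz : z * z = 1 := by
    have : z * z = (t * (c : H) * t) * (c : H) := by rw [hz]; group
    rw [this, hcinv]; group
  have ht1 : t ≠ 1 := fun h => htC (h ▸ C.one_mem)
  have hz1 : z ≠ 1 := fun h => hzC (h ▸ C.one_mem)
  have hot : orderOf t = 2 := orderOf_eq_prime (by rw [pow_two]; exact htt) ht1
  have hoz : orderOf z = 2 := orderOf_eq_prime (by rw [pow_two]; exact hzz) hz1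
  have htz : t * z = (c : H) := by
    rw [hz, ← mul_assoc, htt, one_mul]
  have hoc : orderOf (t * z) = Nat.card C := by
    rw [htz, Subgroup.orderOf_coe, orderOf_eq_card_of_forall_mem_zpowers hc]
  have hn0 : orderOf (t * z) ≠ 0 := by
    rw [hoc]
    exact Nat.card_pos.ne'
  have hclos : Subgroup.closure ({t, z} : Set H) = ⊤ := by
    rw [Subgroup.eq_top_iff']
    have htm : t ∈ Subgroup.closure ({t, z} : Set H) := Subgroup.subset_closure (by simp)
    have hzm : z ∈ Subgroup.closure ({t, z} : Set H) := Subgroup.subset_closure (by simp)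
    have hcm : (c : H) ∈ Subgroup.closure ({t, z} : Set H) := by
      rw [← htz]; exact Subgroup.mul_mem _ htm hzm
    have hCle : ∀ g ∈ C, g ∈ Subgroup.closure ({t, z} : Set H) := by
      intro g hg
      obtain ⟨n, rfl⟩ := hpow g hg
      exact Subgroup.zpow_mem _ hcm n
    intro g
    by_cases hg : g ∈ C
    · exact hCle g hg
    · have h3 : g * t ∈ C := by
        rw [Subgroup.mul_mem_iff_of_index_two hidx]
        exact ⟨fun h => absurd h hg, fun h => absurd h htC⟩
      have : g = (g * t) * t := by rw [mul_assoc, htt, mul_one]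
      rw [this]
      exact Subgroup.mul_mem _ (hCle _ h3) htm
  obtain ⟨e⟩ := Cfsg.Agent.Lib.Helper1.DihedralIso.closure_equiv_dihedral t z hot hoz hn0
  rw [hoc] at e
  exact ⟨(Subgroup.topEquiv.symm.trans (MulEquiv.subgroupCongr hclos.symm)).trans e⟩

end DSub

end Cfsg.Agent.Lib.Helper2
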