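import Mathlib
import Cfsg.Agent.Lib.Helper2.DSub7
import Cfsg.Agent.Lib.Helper1.SylowSimple
import Cfsg.Agent.S0494

set_option autoImplicit false
set_option linter.style.haveILetI false
set_option warn.classDefReducibility false

/-!
# Dickson's subgroup theorem: recognizing `A₅`
-/

namespace Cfsg.Agent.Lib.Helper2

namespace DSub

open MulAction

section grp

variable {G : Type*} [Group G]

/-- conjugation action of a cyclic subgroup on a normal subgroup -/
def conjN (c : G) (N : Subgroup G) [hN : N.Normal] : MulAction ↥(Subgroup.zpowers c) ↥N where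
  smul h u := ⟨(h : G) * u * (h : G)⁻¹, hN.conj_mem u u.2 h⟩
  one_smul u := by
    apply Subtype.ext
    show (1 : G) * u * (1 : G)⁻¹ = u
    group
  mul_smul g h u := by
    apply Subtype.ext
    show ((g : G) * h) * u * ((g : G) * h)⁻¹ = (g : G) * ((h : G) * u * (h : G)⁻¹) * (g : G)⁻¹
    group

theorem conjN_smul_coe (c : G) (N : Subgroup G) [N.Normal] (h : ↥(Subgroup.zpowers c)) (u : ↥N) :
    letI := conjN c N
    ((h • u : ↥N) : G) = (h : G) * u * (h : G)⁻¹ := rfl

theorem conj_cancel (A B d : G) (he : A * d * A⁻¹ = (A * B) * d * (A * B)⁻¹) :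
    B * d = d * B := by
  have h1 : d = B * d * B⁻¹ := by
    calc d = A⁻¹ * (A * d * A⁻¹) * A := by group
      _ = A⁻¹ * ((A * B) * d * (A * B)⁻¹) * A := by rw [he]
      _ = B * d * B⁻¹ := by group
  calc B * d = B * d * B⁻¹ * B := by group
    _ = d * B := by rw [← h1]

/-- an element of prime order acting without fixed points on a normal subgroup -/
theorem card_modEq_one_of_fpf [Finite G] (p : ℕ) [hp : Fact p.Prime] (c : G) (hc : orderOf c = p)
    (N : Subgroup G) [N.Normal] (hfpf : ∀ u ∈ N, c * u = u * c → u = 1) :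
    Nat.card N % p = 1 := by
  letI := conjN c N
  have hP : IsPGroup p ↥(Subgroup.zpowers c) := by
    apply IsPGroup.of_card (n := 1)
    rw [Nat.card_zpowers, hc, pow_one]
  have h1 := hP.card_modEq_card_fixedPoints (α := ↥N)
  have h2 : Nat.card (fixedPoints ↥(Subgroup.zpowers c) ↥N) = 1 := by
    rw [Nat.card_eq_one_iff_unique]
    constructor
    · constructor
      have key : ∀ u : ↥(fixedPoints ↥(Subgroup.zpowers c) ↥N), (u : ↥N) = 1 := by
        rintro ⟨u, hu⟩
        rw [mem_fixedPoints] at hu
        have e1 := hu ⟨c, Subgroup.mem_zpowers c⟩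
        have e2 : c * (u : G) * c⁻¹ = u := by
          have := congrArg Subtype.val e1
          rwa [conjN_smul_coe] at this
        apply Subtype.ext
        apply hfpf _ u.2
        conv_rhs => rw [← e2]
        group
      intro a b
      apply Subtype.ext
      rw [key a, key b]
    · refine ⟨⟨1, ?_⟩⟩
      rw [mem_fixedPoints]
      intro h
      apply Subtype.ext
      rw [conjN_smul_coe]
      simp
  rw [h2] at h1
  unfold Nat.ModEq at h1
  rw [h1]
  exact Nat.mod_eq_of_lt hp.out.one_lt

end grp

variable {H X : Type*} [Group H] [MulAction H X]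

/-- the normalizer of a point stabilizer without parabolic elements -/
theorem card_normalizer_stabilizer_le (M : Mob H X) [Finite H] (z : X)
    (hnp : ∀ g : H, ¬ IsPar g z) (hne : stabilizer H z ≠ ⊥) :
    Nat.card (Subgroup.normalizer ((stabilizer H z : Subgroup H) : Set H)) ≤
      2 * Nat.card (stabilizer H z) := by
  set C := stabilizer H z with hC
  haveI hcyc : IsCyclic C := M.cyc z hnp
  obtain ⟨c, hc⟩ := IsCyclic.exists_generator (α := C)
  have hc1 : (c : H) ≠ 1 := by
    intro h1
    apply hne
    rw [Subgroup.eq_bot_iff_forall]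
    intro g hg
    obtain ⟨n, hn⟩ := hc ⟨g, hg⟩
    have h2 : c = 1 := Subtype.ext h1
    rw [h2] at hn
    simp only [one_zpow] at hn
    exact (congrArg Subtype.val hn).symm
  have hcz : (c : H) • z = z := mem_stabilizer_iff.mp c.2
  obtain ⟨z', hz'ne, hcz', hall⟩ := exists_other_fixed M (c : H) z hc1 hcz (hnp _)
  set Nn := Subgroup.normalizer ((C : Subgroup H) : Set H) with hNn
  -- the orbit of `z` under `Nn` is inside `{z, z'}`
  have horb : orbit ↥Nn z ⊆ {z, z'} := by
    rintro _ ⟨g, rfl⟩
    have hg : (g : H) ∈ Subgroup.normalizer ((C : Subgroup H) : Set H) := g.2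
    rw [Subgroup.mem_normalizer_iff] at hg
    have h1 : (g : H)⁻¹ * (c : H) * (g : H) ∈ C := by
      have h2 := (hg ((g : H)⁻¹ * (c : H) * (g : H))).mpr
      apply h2
      have : (g : H) * ((g : H)⁻¹ * (c : H) * (g : H)) * (g : H)⁻¹ = c := by group
      rw [this]
      exact c.2
    have h2 : ((g : H)⁻¹ * (c : H) * (g : H)) • z = z := mem_stabilizer_iff.mp h1
    rw [mul_smul, mul_smul, inv_smul_eq_iff] at h2
    show (g : H) • z ∈ ({z, z'} : Set X)
    rcases hall _ h2 with h | h
    · left; exact h
    · right; exact h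
  have h1 : Nat.card (orbit ↥Nn z) ≤ 2 := by
    rw [Nat.card_coe_set_eq]
    calc (orbit ↥Nn z).ncard ≤ ({z, z'} : Set X).ncard :=
          Set.ncard_le_ncard horb (Set.toFinite _)
      _ ≤ 2 := by
          have := Set.ncard_insert_le z ({z'} : Set X)
          rwa [Set.ncard_singleton] at this
  have h2 : Nat.card (stabilizer ↥Nn z) ≤ Nat.card C := by
    let f : ↥(stabilizer ↥Nn z) → ↥C := fun g => ⟨((g : ↥Nn) : H), by
      have := g.2
      rw [mem_stabilizer_iff] at this
      exact mem_stabilizer_iff.mpr this⟩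
    apply Nat.card_le_card_of_injective f
    intro a b hab
    apply Subtype.ext
    apply Subtype.ext
    have := congrArg Subtype.val hab
    exact this
  rw [← card_orbit_mul_card_stabilizer (G := ↥Nn) z]
  exact Nat.mul_le_mul h1 h2

theorem factorization_sixty_five : (60 : ℕ).factorization 5 = 1 := by
  have : (60 : ℕ) = 5 * 12 := by norm_num
  rw [this, Nat.factorization_mul (by norm_num) (by norm_num)]
  simp only [Finsupp.coe_add, Pi.add_apply]
  rw [Nat.Prime.factorization_self (by norm_num),
    Nat.factorization_eq_zero_of_not_dvd (by norm_num)]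

/-- recognizing `A₅` -/
theorem iso_A5 (M : Mob H X) [Finite H] (h60 : Nat.card H = 60)
    (hord : ∀ h : H, orderOf h = 1 ∨ orderOf h = 2 ∨ orderOf h = 3 ∨ orderOf h = 5)
    (z : X) (hz : Nat.card (stabilizer H z) = 5) (hnp : ∀ g : H, ¬ IsPar g z) :
    Nonempty (H ≃* alternatingGroup (Fin 5)) := by
  haveI : Fact (Nat.Prime 5) := ⟨by norm_num⟩
  haveI : Nontrivial H := by
    rw [← Finite.one_lt_card_iff_nontrivial, h60]; norm_num
  set P₀ := stabilizer H z with hP₀
  let P : Sylow 5 H := Sylow.ofCard P₀ (by rw [hz, h60, factorization_sixty_five, pow_one])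
  have hPcoe : (P : Subgroup H) = P₀ := rfl
  have hP5 : Nat.card (P : Subgroup H) = 5 := hz
  have hne : P₀ ≠ ⊥ := by
    intro h
    rw [h, Subgroup.card_bot] at hz
    omega
  -- the normalizer has order 10
  have hN10 : Nat.card (Subgroup.normalizer ((P : Subgroup H) : Set H)) = 5 * 2 := by
    have hle := card_normalizer_stabilizer_le M z hnp hne
    rw [← hP₀, hz] at hle
    rw [hPcoe]
    have h5 : 5 ∣ Nat.card (Subgroup.normalizer ((P₀ : Subgroup H) : Set H)) := by
      rw [← hz]
      exact Subgroup.card_dvd_of_le Subgroup.le_normalizer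
    have h1 : Nat.card (Sylow 5 H) = (Subgroup.normalizer ((P : Subgroup H) : Set H)).index :=
      Sylow.card_eq_index_normalizer P
    have h2 := Subgroup.index_mul_card (Subgroup.normalizer ((P : Subgroup H) : Set H))
    rw [← h1, h60, hPcoe] at h2
    have h3 := card_sylow_modEq_one 5 H
    unfold Nat.ModEq at h3
    obtain ⟨k, hk⟩ := h5
    have hk2 : k ≤ 2 := by omega
    have hkpos : 0 < Nat.card (Subgroup.normalizer ((P₀ : Subgroup H) : Set H)) := Nat.card_pos
    interval_cases k
    · omega
    · exfalso
      rw [hk] at h2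
      have : Nat.card (Sylow 5 H) = 12 := by omega
      rw [this] at h3
      norm_num at h3
    · omega
  -- elements of order 5 act without fixed points on normal 5'-subgroups
  have hfpf : ∀ (N : Subgroup H), ¬ 5 ∣ Nat.card N → ∀ c' : H, orderOf c' = 5 →
      ∀ u ∈ N, c' * u = u * c' → u = 1 := by
    intro N hN5 c' hc' u hu hcomm
    by_contra hu1
    have h1 : orderOf u ∣ Nat.card N := Subgroup.orderOf_dvd_natCard N hu
    have h2 : orderOf u ≠ 1 := by
      rw [Ne, orderOf_eq_one_iff]; exact hu1
    have h3 : orderOf u ≠ 5 := by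
      intro h; rw [h] at h1; exact hN5 h1
    have hcop : Nat.Coprime (orderOf c') (orderOf u) := by
      rw [hc']
      rcases hord u with h | h | h | h
      · exact absurd h h2
      · rw [h]; norm_num
      · rw [h]; norm_num
      · exact absurd h h3
    have h4 := Commute.orderOf_mul_eq_mul_orderOf_of_coprime (show Commute c' u from hcomm) hcop
    rw [hc'] at h4
    rcases hord u with h | h | h | h
    · exact h2 h
    · rw [h] at h4
      rcases hord (c' * u) with h' | h' | h' | h' <;> omega
    · rw [h] at h4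
      rcases hord (c' * u) with h' | h' | h' | h' <;> omega
    · exact h3 h
  -- an element of order 5
  obtain ⟨c, hc⟩ : ∃ c : H, orderOf c = 5 :=
    exists_prime_orderOf_dvd_card' 5 (by rw [h60]; norm_num)
  have h1 : ∀ N : Subgroup H, N.Normal → N ≠ ⊥ → 5 ∣ Nat.card N := by
    intro N hNn hNbot
    by_contra hN5
    haveI := hNn
    have hmod := card_modEq_one_of_fpf 5 c hc N (hfpf N hN5 c hc)
    have hdvd : Nat.card N ∣ 12 := by
      have h2 : Nat.card N ∣ 5 * 12 := by
        have := Subgroup.card_subgroup_dvd_card N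
        rwa [h60] at this
      have hcop : Nat.Coprime (Nat.card N) 5 := by
        rw [Nat.coprime_comm]
        exact (Nat.Prime.coprime_iff_not_dvd (by norm_num)).mpr hN5
      exact hcop.dvd_of_dvd_mul_left h2
    have hle : Nat.card N ≤ 12 := Nat.le_of_dvd (by norm_num) hdvd
    have hN1 : Nat.card N ≠ 1 := by
      intro h
      exact hNbot (Subgroup.card_eq_one.mp h)
    have hN6 : Nat.card N = 6 := by
      have hpos : 0 < Nat.card N := Nat.card_pos
      interval_cases hcard : Nat.card N <;> omega
    -- five conjugates of an element of order 3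
    haveI : Fact (Nat.Prime 3) := ⟨by norm_num⟩
    haveI : Fact (Nat.Prime 2) := ⟨by norm_num⟩
    obtain ⟨d, hd⟩ : ∃ d : ↥N, orderOf d = 3 :=
      exists_prime_orderOf_dvd_card' 3 (by rw [hN6]; norm_num)
    obtain ⟨t, ht⟩ : ∃ t : ↥N, orderOf t = 2 :=
      exists_prime_orderOf_dvd_card' 2 (by rw [hN6]; norm_num)
    classical
    haveI : Fintype ↥N := Fintype.ofFinite _
    let f : Fin 5 → ↥N := fun i => ⟨c ^ (i : ℕ) * d * (c ^ (i : ℕ))⁻¹, hNn.conj_mem d d.2 _⟩
    have hford : ∀ i, orderOf (f i) = 3 := by
      intro i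
      rw [← Subgroup.orderOf_coe]
      show orderOf (c ^ (i : ℕ) * (d : H) * (c ^ (i : ℕ))⁻¹) = 3
      have hs : SemiconjBy (c ^ (i : ℕ)) (d : H) (c ^ (i : ℕ) * (d : H) * (c ^ (i : ℕ))⁻¹) := by
        unfold SemiconjBy; group
      rw [← hs.orderOf_eq, Subgroup.orderOf_coe, hd]
    have hfinj : Function.Injective f := by
      intro i j hij
      by_contra hne
      have hij' : c ^ (i : ℕ) * (d : H) * (c ^ (i : ℕ))⁻¹ = c ^ (j : ℕ) * (d : H) * (c ^ (j : ℕ))⁻¹ :=
        congrArg Subtype.val hij
      -- WLOG via the difference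
      have key : ∀ a b : ℕ, a < b → b < 5 →
          c ^ a * (d : H) * (c ^ a)⁻¹ = c ^ b * (d : H) * (c ^ b)⁻¹ → False := by
        intro a b hab hb5 he
        have hc' : orderOf (c ^ (b - a)) = 5 := by
          rw [orderOf_pow' c (by omega), hc]
          have : Nat.gcd 5 (b - a) = 1 := by
            have : b - a < 5 := by omega
            have : 0 < b - a := by omega
            interval_cases (b - a) <;> norm_num
          rw [this]
        have hcomm : c ^ (b - a) * (d : H) = (d : H) * c ^ (b - a) := by
          have hb : c ^ b = c ^ a * c ^ (b - a) := by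
            rw [← pow_add]; congr 1; omega
          rw [hb] at he
          exact conj_cancel _ _ _ he
        have := hfpf N hN5 _ hc' d d.2 hcomm
        have hd1 : d = 1 := Subtype.ext this
        rw [hd1, orderOf_one] at hd
        omega
      rcases lt_or_gt_of_ne (fun h => hne (Fin.ext h) : (i : ℕ) ≠ j) with h | h
      · exact key i j h j.2 hij'
      · exact key j i h i.2 hij'.symm
    have himg : (Finset.univ.image f) ⊆ ((Finset.univ : Finset ↥N).erase 1).erase t := by
      intro u hu
      rw [Finset.mem_image] at hu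
      obtain ⟨i, _, rfl⟩ := hu
      rw [Finset.mem_erase, Finset.mem_erase]
      refine ⟨?_, ?_, Finset.mem_univ _⟩
      · intro h
        have := hford i
        rw [h, ht] at this
        omega
      · intro h
        have := hford i
        rw [h, orderOf_one] at this
        omega
    have hcard := Finset.card_le_card himg
    rw [Finset.card_image_of_injective _ hfinj, Finset.card_univ, Fintype.card_fin] at hcard
    have ht1 : t ≠ 1 := by
      intro h; rw [h, orderOf_one] at ht; omega
    rw [Finset.card_erase_of_mem (by rw [Finset.mem_erase]; exact ⟨ht1, Finset.mem_univ _⟩),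
      Finset.card_erase_of_mem (Finset.mem_univ _), Finset.card_univ,
      ← Nat.card_eq_fintype_card, hN6] at hcard
    omega
  have hsimple : IsSimpleGroup H :=
    Cfsg.Agent.Lib.Helper1.SylowSimple.isSimpleGroup_of_sylow P hP5 (by norm_num : Nat.Prime 2) hN10
      (by rw [h60]; norm_num) h1
  exact Cfsg.Agent.S0494.result h60

end DSub

end Cfsg.Agent.Lib.Helper2
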