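import Mathlib
import Cfsg.Agent.Lib.Helper2.DSub5
import Cfsg.Agent.Lib.Helper2.DSub8
import Cfsg.Agent.S0228
import Cfsg.Agent.S1012

set_option autoImplicit false
set_option linter.style.haveILetI false

/-!
# Dickson's subgroup theorem: the abstract classification
-/

namespace Cfsg.Agent.Lib.Helper2

namespace DSub

open MulAction

variable {H X : Type*} [Group H] [MulAction H X]

theorem mem_Om_of_stabilizer_ne_bot (y : X) (h : stabilizer H y ≠ ⊥) : y ∈ Om H X := by
  rw [Ne, Subgroup.eq_bot_iff_forall] at h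
  push Not at h
  obtain ⟨g, hg, hg1⟩ := h
  exact ⟨g, hg1, mem_stabilizer_iff.mp hg⟩

theorem stabilizer_ne_bot_of_mem_Om (y : X) (h : y ∈ Om H X) : stabilizer H y ≠ ⊥ := by
  obtain ⟨g, hg1, hg⟩ := h
  intro hbot
  have : g ∈ stabilizer H y := mem_stabilizer_iff.mpr hg
  rw [hbot, Subgroup.mem_bot] at this
  exact hg1 this

/-- every point of `Ω` is a translate of the representative of its orbit -/
theorem exists_smul_out_eq (y : X) (hy : y ∈ Om H X) :
    ∃ h : H, h • (((Quotient.mk'' (⟨y, hy⟩ : ↥(Om H X)) : orbitRel.Quotient H ↥(Om H X)).out :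
      ↥(Om H X)) : X) = y := by
  set ω : orbitRel.Quotient H ↥(Om H X) := Quotient.mk'' (⟨y, hy⟩ : ↥(Om H X)) with hω
  have h1 : (Quotient.mk'' ω.out : orbitRel.Quotient H ↥(Om H X)) = ω := Quotient.out_eq' ω
  rw [hω] at h1
  have h2 := Quotient.exact' h1
  rw [orbitRel_apply] at h2
  -- ω.out ∈ orbit of ⟨y, hy⟩
  have h3 : (⟨y, hy⟩ : ↥(Om H X)) ∈ orbit H ω.out := by
    rw [mem_orbit_symm] ; exact h2
  obtain ⟨h, hh⟩ := h3
  refine ⟨h, ?_⟩
  have := congrArg Subtype.val hh
  simpa using this

theorem card_stabilizer_out (y : X) (hy : y ∈ Om H X) :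
    Nat.card (stabilizer H y) = Nat.card (stabilizer H
      (((Quotient.mk'' (⟨y, hy⟩ : ↥(Om H X)) : orbitRel.Quotient H ↥(Om H X)).out :
      ↥(Om H X)) : X)) := by
  obtain ⟨h, hh⟩ := exists_smul_out_eq y hy
  conv_lhs => rw [← hh]
  exact card_stabilizer_smul h _

theorem card_Q_out (M : Mob H X) (y : X) (hy : y ∈ Om H X) :
    Nat.card (Q M y) = Nat.card (Q M
      (((Quotient.mk'' (⟨y, hy⟩ : ↥(Om H X)) : orbitRel.Quotient H ↥(Om H X)).out :
      ↥(Om H X)) : X)) := by
  obtain ⟨h, hh⟩ := exists_smul_out_eq y hy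
  conv_lhs => rw [← hh]
  exact card_Q_smul M h _

/-- if `Q y` is trivial there are no parabolic elements at `y` -/
theorem not_isPar_of_card_Q (M : Mob H X) [Finite H] (y : X) (h : Nat.card (Q M y) = 1) (g : H) :
    ¬ IsPar g y := by
  intro hg
  have h1 : (⟨g, Or.inr hg⟩ : ↥(Q M y)) = 1 := by
    haveI := (Nat.card_eq_one_iff_unique.mp h).1
    exact Subsingleton.elim _ _
  exact hg.1 (congrArg Subtype.val h1)

theorem fixes_of_card_orbit_eq_one (x : X) (h : Nat.card (orbit H x) = 1) (g : H) : g • x = x := by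
  haveI := (Nat.card_eq_one_iff_unique.mp h).1
  have : (⟨g • x, mem_orbit x g⟩ : orbit H x) = ⟨x, mem_orbit_self x⟩ := Subsingleton.elim _ _
  exact congrArg Subtype.val this

theorem card_orbit_eq_of_mul [Finite H] (x : X) (n e : ℕ) (hne : n * e = Nat.card H)
    (he : Nat.card (stabilizer H x) = e) : Nat.card (orbit H x) = n := by
  have h1 := card_orbit_mul_card_stabilizer (G := H) x
  rw [he, ← hne] at h1
  have hpos : 0 < e := by rw [← he]; exact Nat.card_pos
  exact Nat.eq_of_mul_eq_mul_right hpos h1

theorem orderOf_ne_six_of_dvd {G : Type*} [Group G] (h : G) (hd : orderOf h ∣ 2 ∨ orderOf h ∣ 3 ∨ orderOf h ∣ 4) :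
    orderOf h ≠ 6 := by
  intro h6
  rw [h6] at hd
  omega

/-- the abstract classification -/
theorem classify (M : Mob H X) [Finite H] :
    (∃ x : X, ∀ h : H, h • x = x) ∨
    (∃ y : X, (∀ g : H, ¬ IsPar g y) ∧
      Nonempty (H ≃* DihedralGroup (Nat.card (stabilizer H y)))) ∨
    Nonempty (H ≃* alternatingGroup (Fin 4)) ∨ Nonempty (H ≃* Equiv.Perm (Fin 4)) ∨
    Nonempty (H ≃* alternatingGroup (Fin 5)) ∨
    (∃ x : X, 3 ≤ Nat.card (Q M x) ∧ Nat.card (orbit H x) = Nat.card (Q M x) + 1 ∧
      ∃ k : ℕ, Nat.card (stabilizer H x) = Nat.card (Q M x) * k ∧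
        (k = Nat.card (Q M x) - 1 ∨ 2 * k = Nat.card (Q M x) - 1)) := by
  classical
  haveI : Fintype H := Fintype.ofFinite H
  haveI : Finite ↥(Om H X) := finite_Om M
  haveI : Fintype ↥(Om H X) := Fintype.ofFinite _
  haveI : Fintype (orbitRel.Quotient H ↥(Om H X)) := Fintype.ofFinite _
  set g := Nat.card H with hg
  have hgpos : 1 ≤ g := Nat.card_pos
  have hgF : (Fintype.card H : ℤ) = g := by rw [hg, Nat.card_eq_fintype_card]
  -- the data
  set ι := orbitRel.Quotient H ↥(Om H X)
  let xx : ι → X := fun ω => ((ω.out : ↥(Om H X)) : X)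
  let n : ι → ℕ := fun ω => Nat.card (orbit H (ω.out : ↥(Om H X)))
  let e : ι → ℕ := fun ω => Nat.card (stabilizer H (xx ω))
  let q : ι → ℕ := fun ω => Nat.card (Q M (xx ω))
  have hne : ∀ ω, n ω * e ω = g := fun ω => card_orbit_Om ω.out
  have he : ∀ ω, 2 ≤ e ω := by
    intro ω
    have h1 : stabilizer H (xx ω) ≠ ⊥ := stabilizer_ne_bot_of_mem_Om _ (ω.out : ↥(Om H X)).2
    exact (Subgroup.one_lt_card_iff_ne_bot _).mpr h1
  have hq1 : ∀ ω, 1 ≤ q ω := fun ω => Nat.card_pos
  have hqe : ∀ ω, q ω ≤ e ω := fun ω => Subgroup.card_le_of_le (Q_le_stabilizer M _)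
  have hsum : ∑ ω, (n ω : ℤ) * ((e ω : ℤ) + q ω - 2) = 2 * (g : ℤ) - 2 := by
    rw [← hgF]
    exact count_orbits M
  -- general facts
  have hcls : ∀ (y : X) (hy : y ∈ Om H X),
      Nat.card (stabilizer H y) = e (Quotient.mk'' ⟨y, hy⟩) ∧
      Nat.card (Q M y) = q (Quotient.mk'' ⟨y, hy⟩) :=
    fun y hy => ⟨card_stabilizer_out y hy, card_Q_out M y hy⟩
  have hnX : ∀ ω, Nat.card (orbit H (xx ω)) = n ω :=
    fun ω => card_orbit_eq_of_mul (xx ω) (n ω) (e ω) (hne ω) rfl
  have hfix : ∀ ω, n ω = 1 → ∃ x : X, ∀ h : H, h • x = x := by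
    intro ω hω
    exact ⟨xx ω, fun h => fixes_of_card_orbit_eq_one _ ((hnX ω).trans hω) h⟩
  rcases num g hgpos n e q hne he hq1 hqe hsum with
    ⟨hemp, hg1⟩ | ⟨i, j, hij, hall, hqi, hqj, hni, hnj⟩ |
    ⟨i, j, k, hT, hqi, hqj, hqk, hei, hcase⟩ | ⟨i, hall, hqi, hni⟩ |
    ⟨i, j, hij, hall, hqi, hqj, hnn⟩
  · -- trivial group
    left
    obtain ⟨x, _⟩ := M.exists_fixed 1
    refine ⟨x, fun h => ?_⟩
    have : h = 1 := by
      haveI := (Nat.card_eq_one_iff_unique.mp hg1).1
      exact Subsingleton.elim _ _
    rw [this, one_smul]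
  · left; exact hfix i hni
  · -- three orbits, no parabolic elements
    have hqall : ∀ ω, q ω = 1 := by
      intro ω
      rcases hT.2.2.2 ω with rfl | rfl | rfl
      · exact hqi
      · exact hqj
      · exact hqk
    have hnopar : ∀ (y : X) (a : H), ¬ IsPar a y := by
      intro y a ha
      have hy : y ∈ Om H X := ⟨a, ha.1, ha.2.1⟩
      have h1 := (hcls y hy).2
      rw [hqall] at h1
      exact not_isPar_of_card_Q M y h1 a ha
    have hstab : ∀ a : H, a ≠ 1 → ∃ y : X, a • y = y ∧
        (Nat.card (stabilizer H y) = e i ∨ Nat.card (stabilizer H y) = e j ∨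
          Nat.card (stabilizer H y) = e k) := by
      intro a ha
      obtain ⟨y, hy⟩ := M.exists_fixed a
      have hyO : y ∈ Om H X := ⟨a, ha, hy⟩
      refine ⟨y, hy, ?_⟩
      have h1 := (hcls y hyO).1
      rcases hT.2.2.2 (Quotient.mk'' ⟨y, hyO⟩) with h | h | h <;> rw [h] at h1
      · left; exact h1
      · right; left; exact h1
      · right; right; exact h1
    have hord : ∀ a : H, orderOf a ∣ 1 ∨ orderOf a ∣ e i ∨ orderOf a ∣ e j ∨ orderOf a ∣ e k := by
      intro a
      by_cases ha : a = 1
      · left; rw [ha, orderOf_one]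
      · right
        obtain ⟨y, hy, hc⟩ := hstab a ha
        have := orderOf_dvd_card_stabilizer a y hy
        rcases hc with h | h | h <;> rw [h] at this
        · left; exact this
        · right; left; exact this
        · right; right; exact this
    rcases hcase with ⟨hej, hgk⟩ | ⟨hej, hek, hg12⟩ | ⟨hej, hek, hg24⟩ | ⟨hej, hek, hg60⟩
    · -- dihedral
      right; left
      refine ⟨xx k, fun a => hnopar _ a, ?_⟩
      apply dihedral_of_index_two M (xx k) (fun a => hnopar _ a)
      · have h1 := Subgroup.index_mul_card (stabilizer H (xx k))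
        have h2 : Nat.card (stabilizer H (xx k)) = e k := rfl
        rw [h2, ← hg, hgk] at h1
        have hpos : 0 < e k := by have := he k; omega
        exact Nat.eq_of_mul_eq_mul_right hpos h1
      · exact stabilizer_ne_bot_of_mem_Om _ (k.out : ↥(Om H X)).2
    · -- A4
      right; right; left
      apply Cfsg.Agent.S0228.result hg12
      intro z hz hzc
      haveI : Fact (Nat.Prime 3) := ⟨by norm_num⟩
      obtain ⟨c, hc⟩ : ∃ c : H, orderOf c = 3 :=
        exists_prime_orderOf_dvd_card' 3 (by rw [← hg, hg12]; norm_num)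
      have hcomm : Commute z c := (Subgroup.mem_center_iff.mp hzc c).symm
      have h6 := hcomm.orderOf_mul_eq_mul_orderOf_of_coprime (by rw [hz, hc]; norm_num)
      rw [hz, hc] at h6
      have := hord (z * c)
      rw [h6, hei, hej, hek] at this
      omega
    · -- S4
      right; right; right; left
      apply Cfsg.Agent.S1012.result hg24
      intro a h6
      have := hord a
      rw [h6, hei, hej, hek] at this
      omega
    · -- A5
      right; right; right; right; left
      apply iso_A5 M hg60 ?_ (xx k) hek (fun a => hnopar _ a)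
      intro a
      have := hord a
      rw [hei, hej, hek] at this
      rcases this with h | h | h | h
      · left; exact Nat.dvd_one.mp h
      · rcases (Nat.dvd_prime Nat.prime_two).mp h with h | h
        · left; exact h
        · right; left; exact h
      · rcases (Nat.dvd_prime Nat.prime_three).mp h with h | h
        · left; exact h
        · right; right; left; exact h
      · rcases (Nat.dvd_prime Nat.prime_five).mp h with h | h
        · left; exact h
        · right; right; right; exact h
  · left; exact hfix i hni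
  · -- one parabolic orbit and one other orbit
    obtain ⟨r, hr⟩ := card_orbit_modEq M (xx i)
    rw [hnX i] at hr
    rcases Nat.eq_zero_or_pos r with hr0 | hrpos
    · left
      apply hfix i
      rw [hr, hr0, mul_zero, add_zero]
    obtain ⟨kk, hk1, hk2⟩ := index_dvd M (xx i)
    have hnopar_j : ∀ a : H, ¬ IsPar a (xx j) := fun a => not_isPar_of_card_Q M _ hqj a
    have hg1 : (1 + q i * r) * (q i * kk) = g := by
      have := hne i
      rw [hr] at this
      rw [← this]
      congr 1
      exact hk1.symm
    have hn2 : n j + 2 * (1 + q i * r) = (1 + q i * r) * q i + 2 := by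
      rw [← hr]; exact hnn
    rcases num2 g (q i) kk r (n j) (e j) hqi hk2 hrpos hg1 (hne j) hn2 with
      ⟨hq2, hkk1, hnj2⟩ | ⟨hq3, hr1, hkq⟩ | ⟨hq3, hr3, hkk2, hej5, hg60⟩
    · -- dihedral, characteristic 2
      right; left
      refine ⟨xx j, hnopar_j, ?_⟩
      apply dihedral_of_index_two M (xx j) hnopar_j
      · have h1 := Subgroup.index_mul_card (stabilizer H (xx j))
        have h2 : Nat.card (stabilizer H (xx j)) = e j := rfl
        have h3 := hne j
        rw [hnj2] at h3
        rw [h2, ← hg, ← h3] at h1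
        have hpos : 0 < e j := by have := he j; omega
        exact Nat.eq_of_mul_eq_mul_right hpos h1
      · exact stabilizer_ne_bot_of_mem_Om _ (j.out : ↥(Om H X)).2
    · -- subfield case
      right; right; right; right; right
      refine ⟨xx i, hq3, ?_, kk, hk1, hkq⟩
      rw [hnX i, hr, hr1, mul_one, add_comm]
    · -- A5 in characteristic 3
      right; right; right; right; left
      have hei6 : e i = 6 := by
        show Nat.card (stabilizer H (xx i)) = 6
        rw [hk1, hkk2]
        show q i * 2 = 6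
        rw [hq3]
      apply iso_A5 M hg60 ?_ (xx j) hej5 hnopar_j
      intro a
      by_cases ha : a = 1
      · left; rw [ha, orderOf_one]
      obtain ⟨y, hy⟩ := M.exists_fixed a
      have hyO : y ∈ Om H X := ⟨a, ha, hy⟩
      obtain ⟨hs, hQ⟩ := hcls y hyO
      have hdvd := orderOf_dvd_card_stabilizer a y hy
      rcases hall (Quotient.mk'' ⟨y, hyO⟩) with h | h <;> rw [h] at hs hQ
      · -- stabilizer of order 6
        rw [hei6] at hs
        change Nat.card (Q M y) = q i at hQ
        rw [hq3] at hQ
        by_cases haQ : a ∈ Q M y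
        · have h3 : orderOf a ∣ 3 := by
            rw [← hQ]
            exact Subgroup.orderOf_dvd_natCard _ haQ
          rcases (Nat.dvd_prime Nat.prime_three).mp h3 with h | h
          · left; exact h
          · right; right; left; exact h
        · -- `a * a ∈ Q y`
          have hQle := Q_le_stabilizer M y
          have hidx : ((Q M y).subgroupOf (stabilizer H y)).index = 2 := by
            have h1 := Subgroup.index_mul_card ((Q M y).subgroupOf (stabilizer H y))
            rw [Nat.card_congr (Subgroup.subgroupOfEquivOfLe hQle).toEquiv, hQ, hs] at h1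
            omega
          have h2 := Subgroup.mul_self_mem_of_index_two hidx
            (⟨a, mem_stabilizer_iff.mpr hy⟩ : ↥(stabilizer H y))
          rw [Subgroup.mem_subgroupOf] at h2
          have h3 : a * a ∈ Q M y := h2
          have hnp : ¬ IsPar a y := fun h => haQ (Or.inr h)
          obtain ⟨y', hy'ne, hay', -⟩ := exists_other_fixed M a y ha hy hnp
          have h4 : a * a = 1 := by
            rcases h3 with h | h
            · exact h
            · exfalso
              apply hy'ne
              apply h.2.2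
              rw [mul_smul, hay', hay']
          right; left
          exact orderOf_eq_prime (by rw [pow_two]; exact h4) ha
      · -- stabilizer of order 5
        change Nat.card (stabilizer H y) = e j at hs
        rw [hej5] at hs
        rw [hs] at hdvd
        rcases (Nat.dvd_prime Nat.prime_five).mp hdvd with h | h
        · left; exact h
        · right; right; right; exact h

end DSub

end Cfsg.Agent.Lib.Helper2
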