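import Mathlib
import Cfsg.Agent.Lib.Helper1.PGL2

set_option autoImplicit false
set_option linter.unusedSectionVars false
set_option warn.classDefReducibility false

/-!
# Dickson's subgroup theorem: `PGL₂(L)` acting on the projective line `OnePoint L`
-/

namespace Cfsg.Agent.Lib.Helper2

namespace DSub

open Matrix OnePoint
open scoped MatrixGroups

variable {L : Type*} [Field L] [DecidableEq L]

theorem scalar_smul (u : Lˣ) (x : OnePoint L) :
    GeneralLinearGroup.scalar (Fin 2) u • x = x := by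
  cases x with
  | infty =>
    rw [smul_infty_eq_self_iff]
    simp [GeneralLinearGroup.scalar]
  | coe c =>
    rw [smul_some_eq_ite]
    simp [GeneralLinearGroup.scalar]

/-- the action of `PGL₂(L)` on the projective line -/
def pglAct : MulAction (PGL(Fin 2, L)) (OnePoint L) :=
  ProjGenLinGroup.mulActionOfGL scalar_smul

attribute [local instance] pglAct

theorem mk_smul (g : GL (Fin 2) L) (x : OnePoint L) :
    (ProjGenLinGroup.mk g : PGL(Fin 2, L)) • x = g • x := rfl

theorem gl_det_ne (g : GL (Fin 2) L) : g 0 0 * g 1 1 - g 0 1 * g 1 0 ≠ 0 := by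
  have := g.det_ne_zero
  rwa [Matrix.det_fin_two] at this

theorem gl_aff (g : GL (Fin 2) L) (h : g 1 0 = 0) :
    g 0 0 ≠ 0 ∧ g 1 1 ≠ 0 ∧ ∀ c : L, g • (c : OnePoint L) =
      ((g 0 0 / g 1 1 * c + g 0 1 / g 1 1 : L) : OnePoint L) := by
  have hd := gl_det_ne g
  rw [h, mul_zero, sub_zero] at hd
  have h00 : g 0 0 ≠ 0 := left_ne_zero_of_mul hd
  have h11 : g 1 1 ≠ 0 := right_ne_zero_of_mul hd
  refine ⟨h00, h11, fun c => ?_⟩
  rw [smul_some_eq_ite, h, zero_mul, zero_add, if_neg h11]
  congr 1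
  field_simp

theorem gl_swap (g : GL (Fin 2) L) (h1 : g • (∞ : OnePoint L) = ((0 : L) : OnePoint L))
    (h2 : g • ((0 : L) : OnePoint L) = ∞) :
    g 0 0 = 0 ∧ g 1 1 = 0 ∧ g 0 1 ≠ 0 ∧ g 1 0 ≠ 0 := by
  have hd := gl_det_ne g
  rw [smul_infty_eq_ite] at h1
  rw [smul_some_eq_ite] at h2
  simp only [mul_zero, zero_add] at h2
  have h10 : g 1 0 ≠ 0 := by
    intro h
    rw [if_pos h] at h1
    exact OnePoint.infty_ne_coe _ h1
  rw [if_neg h10] at h1
  have h00 : g 0 0 = 0 := by
    have := OnePoint.coe_injective h1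
    rw [div_eq_zero_iff] at this
    exact this.resolve_right h10
  have h11 : g 1 1 = 0 := by
    by_contra h
    rw [if_neg h] at h2
    exact OnePoint.coe_ne_infty _ h2
  refine ⟨h00, h11, ?_, h10⟩
  intro h
  apply hd
  rw [h00, h, zero_mul, zero_mul, sub_zero]

theorem gl_swap_smul (g : GL (Fin 2) L) (h00 : g 0 0 = 0) (h11 : g 1 1 = 0) (c : L) (hc : c ≠ 0) :
    g • (c : OnePoint L) = ((g 0 1 / g 1 0 / c : L) : OnePoint L) := by
  have hd := gl_det_ne g
  rw [h00, h11, zero_mul, zero_sub, neg_ne_zero] at hd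
  have h10 : g 1 0 ≠ 0 := right_ne_zero_of_mul hd
  rw [smul_some_eq_ite, h00, h11, zero_mul, zero_add, add_zero, if_neg (mul_ne_zero h10 hc)]
  congr 1
  field_simp

/-- an element fixing `∞`, `0` and `1` is trivial -/
theorem eq_one_of_fix_std (γ : PGL(Fin 2, L)) (h0 : γ • (∞ : OnePoint L) = ∞)
    (h1 : γ • ((0 : L) : OnePoint L) = ((0 : L) : OnePoint L))
    (h2 : γ • ((1 : L) : OnePoint L) = ((1 : L) : OnePoint L)) : γ = 1 := by
  induction γ using ProjGenLinGroup.induction_on with | mk g =>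
  rw [mk_smul] at h0 h1 h2
  have h10 : g 1 0 = 0 := smul_infty_eq_self_iff.mp h0
  obtain ⟨h00, h11, haff⟩ := gl_aff g h10
  rw [haff] at h1 h2
  have e1 := OnePoint.coe_injective h1
  have e2 := OnePoint.coe_injective h2
  rw [mul_zero, zero_add, div_eq_zero_iff] at e1
  have h01 : g 0 1 = 0 := e1.resolve_right h11
  rw [h01, zero_div, add_zero, mul_one, div_eq_one_iff_eq h11] at e2
  rw [ProjGenLinGroup.mk_eq_one, GeneralLinearGroup.center_eq_range_scalar]
  refine ⟨Units.mk0 (g 0 0) h00, ?_⟩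
  apply Units.ext
  rw [GeneralLinearGroup.coe_scalar]
  ext i j
  fin_cases i <;> fin_cases j <;> simp [h01, h10, e2]

/-- affine form of the elements fixing `∞` -/
theorem exists_aff (γ : PGL(Fin 2, L)) (h0 : γ • (∞ : OnePoint L) = ∞) :
    ∃ a b : L, a ≠ 0 ∧ ∀ c : L, γ • (c : OnePoint L) = ((a * c + b : L) : OnePoint L) := by
  induction γ using ProjGenLinGroup.induction_on with | mk g =>
  rw [mk_smul] at h0
  have h10 : g 1 0 = 0 := smul_infty_eq_self_iff.mp h0
  obtain ⟨h00, h11, haff⟩ := gl_aff g h10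
  exact ⟨g 0 0 / g 1 1, g 0 1 / g 1 1, div_ne_zero h00 h11, fun c => by rw [mk_smul, haff]⟩

/-- form of the elements exchanging `∞` and `0` -/
theorem exists_inv_form (γ : PGL(Fin 2, L)) (h1 : γ • (∞ : OnePoint L) = ((0 : L) : OnePoint L))
    (h2 : γ • ((0 : L) : OnePoint L) = ∞) :
    ∃ k : L, k ≠ 0 ∧ ∀ c : L, c ≠ 0 → γ • (c : OnePoint L) = ((k / c : L) : OnePoint L) := by
  induction γ using ProjGenLinGroup.induction_on with | mk g =>
  rw [mk_smul] at h1 h2
  obtain ⟨h00, h11, h01, h10⟩ := gl_swap g h1 h2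
  exact ⟨g 0 1 / g 1 0, div_ne_zero h01 h10, fun c hc => by rw [mk_smul, gl_swap_smul g h00 h11 c hc]⟩

/-- over an algebraically closed field every element has a fixed point -/
theorem exists_fixed_point [IsAlgClosed L] (γ : PGL(Fin 2, L)) : ∃ x : OnePoint L, γ • x = x := by
  induction γ using ProjGenLinGroup.induction_on with | mk g =>
  by_cases h10 : g 1 0 = 0
  · exact ⟨∞, by rw [mk_smul]; exact smul_infty_eq_self_iff.mpr h10⟩
  · have hdeg : g.fixpointPolynomial.degree ≠ 0 := by
      have h2 : g.fixpointPolynomial.natDegree = 2 := by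
        unfold GeneralLinearGroup.fixpointPolynomial
        rw [sub_eq_add_neg, ← Polynomial.C_neg]
        exact Polynomial.natDegree_quadratic h10
      intro h
      have := Polynomial.natDegree_eq_of_degree_eq_some h
      rw [h2] at this
      norm_num at this
    obtain ⟨c, hc⟩ := IsAlgClosed.exists_root g.fixpointPolynomial hdeg
    refine ⟨(c : OnePoint L), ?_⟩
    rw [mk_smul, ← GeneralLinearGroup.fixpointPolynomial_aeval_eq_zero_iff,
      Polynomial.coe_aeval_eq_eval]
    exact hc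

end DSub

end Cfsg.Agent.Lib.Helper2
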