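import Mathlib
import Cfsg.Agent.Lib.Helper2.DSubG1
import Cfsg.Agent.Lib.Helper2.DSub1

set_option autoImplicit false
set_option linter.unusedSectionVars false

/-!
# Dickson's subgroup theorem: transitivity, sharpness and the affine group at `∞`
-/

namespace Cfsg.Agent.Lib.Helper2

namespace DSub

open Matrix OnePoint MulAction
open scoped MatrixGroups

variable {L : Type*} [Field L] [DecidableEq L]

attribute [local instance] pglAct

/-- `PGL₂(L)` is 3-transitive on the projective line -/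
theorem exists_std (a b c : OnePoint L) (hab : a ≠ b) (hac : a ≠ c) (hbc : b ≠ c) :
    ∃ γ : PGL(Fin 2, L), γ • (∞ : OnePoint L) = a ∧ γ • ((0 : L) : OnePoint L) = b ∧
      γ • ((1 : L) : OnePoint L) = c := by
  set E := equivProjectivization L with hE
  obtain ⟨g, h0, h1, h2⟩ := Cfsg.Agent.Lib.Helper1.exists_frame (E a) (E b) (E c)
    (fun h => hab (E.injective h)) (fun h => hac (E.injective h)) (fun h => hbc (E.injective h))
  have key : ∀ x : OnePoint L, E (g • x) =
      (ProjGenLinGroup.mk g : PGL(Fin 2, L)) • (E x) := by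
    intro x
    rw [hE, equivProjectivization_smul]
    rfl
  refine ⟨ProjGenLinGroup.mk g, ?_, ?_, ?_⟩
  · rw [mk_smul]
    apply E.injective
    rw [key, ← h0]
    rfl
  · rw [mk_smul]
    apply E.injective
    rw [key, ← h1]
    congr 1
  · rw [mk_smul]
    apply E.injective
    rw [key, ← h2]
    congr 1

/-- only the identity fixes three points -/
theorem sharp (γ : PGL(Fin 2, L)) (x y z : OnePoint L) (hxy : x ≠ y) (hxz : x ≠ z) (hyz : y ≠ z)
    (hx : γ • x = x) (hy : γ • y = y) (hz : γ • z = z) : γ = 1 := by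
  obtain ⟨δ, h0, h1, h2⟩ := exists_std x y z hxy hxz hyz
  have key : δ⁻¹ * γ * δ = 1 := by
    apply eq_one_of_fix_std
    · rw [mul_smul, mul_smul, h0, hx, ← h0, inv_smul_smul]
    · rw [mul_smul, mul_smul, h1, hy, ← h1, inv_smul_smul]
    · rw [mul_smul, mul_smul, h2, hz, ← h2, inv_smul_smul]
  have : γ = δ * (δ⁻¹ * γ * δ) * δ⁻¹ := by group
  rw [this, key]; group

theorem coe_zero_ne_one : ((0 : L) : OnePoint L) ≠ ((1 : L) : OnePoint L) := by
  intro h
  exact zero_ne_one (OnePoint.coe_injective h)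

/-- the action is faithful -/
theorem eq_of_smul_eq (γ δ : PGL(Fin 2, L)) (h : ∀ x : OnePoint L, γ • x = δ • x) : γ = δ := by
  have : δ⁻¹ * γ = 1 := by
    apply sharp _ ∞ ((0 : L) : OnePoint L) ((1 : L) : OnePoint L) (OnePoint.infty_ne_coe _)
      (OnePoint.infty_ne_coe _) coe_zero_ne_one
    all_goals rw [mul_smul, h, inv_smul_smul]
  calc γ = δ * (δ⁻¹ * γ) := by group
    _ = δ := by rw [this, mul_one]

theorem exists_smul_infty_eq (x : OnePoint L) : ∃ δ : PGL(Fin 2, L), δ • (∞ : OnePoint L) = x := by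
  cases x with
  | infty => exact ⟨1, one_smul _ _⟩
  | coe c =>
    obtain ⟨δ, h0, -, -⟩ := exists_std (c : OnePoint L) ((c + 1 : L) : OnePoint L) ∞
      (fun h => by
        have := OnePoint.coe_injective h
        simp at this)
      (OnePoint.coe_ne_infty _) (OnePoint.coe_ne_infty _)
    exact ⟨δ, h0⟩

theorem exists_smul_pair (x y : OnePoint L) (hxy : x ≠ y) :
    ∃ δ : PGL(Fin 2, L), δ • (∞ : OnePoint L) = x ∧ δ • ((0 : L) : OnePoint L) = y := by
  have : ∃ z : OnePoint L, x ≠ z ∧ y ≠ z := by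
    by_cases h1 : x ≠ ∞ ∧ y ≠ ∞
    · exact ⟨∞, h1.1, h1.2⟩
    by_cases h2 : x ≠ ((0 : L) : OnePoint L) ∧ y ≠ ((0 : L) : OnePoint L)
    · exact ⟨_, h2.1, h2.2⟩
    by_cases h3 : x ≠ ((1 : L) : OnePoint L) ∧ y ≠ ((1 : L) : OnePoint L)
    · exact ⟨_, h3.1, h3.2⟩
    exfalso
    have h01 := coe_zero_ne_one (L := L)
    have hi0 : (∞ : OnePoint L) ≠ ((0 : L) : OnePoint L) := OnePoint.infty_ne_coe _
    have hi1 : (∞ : OnePoint L) ≠ ((1 : L) : OnePoint L) := OnePoint.infty_ne_coe _
    have k1 : x = ∞ ∨ y = ∞ := by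
      by_contra hcon; push Not at hcon; exact h1 hcon
    have k2 : x = ((0 : L) : OnePoint L) ∨ y = ((0 : L) : OnePoint L) := by
      by_contra hcon; push Not at hcon; exact h2 hcon
    have k3 : x = ((1 : L) : OnePoint L) ∨ y = ((1 : L) : OnePoint L) := by
      by_contra hcon; push Not at hcon; exact h3 hcon
    rcases k1 with a | a <;> rcases k2 with b | b <;> rcases k3 with c | c <;>
      simp_all
  obtain ⟨z, hxz, hyz⟩ := this
  obtain ⟨δ, h0, h1, -⟩ := exists_std x y z hxy hxz hyz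
  exact ⟨δ, h0, h1⟩

end DSub

end Cfsg.Agent.Lib.Helper2
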