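import Mathlib
import Cfsg.Agent.Lib.Helper2.DSubG2

set_option autoImplicit false
set_option linter.unusedSectionVars false

/-!
# Dickson's subgroup theorem: parabolic elements of `PGL₂(L)`
-/

namespace Cfsg.Agent.Lib.Helper2

namespace DSub

open Matrix OnePoint MulAction
open scoped MatrixGroups

variable {L : Type*} [Field L] [DecidableEq L]

attribute [local instance] pglAct

/-- the finite part of a point -/
def finPart (x : OnePoint L) : L := x.elim 0 id

@[simp] theorem finPart_coe (c : L) : finPart (c : OnePoint L) = c := rfl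

/-- the multiplier of an element fixing `∞` -/
noncomputable def affA (γ : PGL(Fin 2, L)) : L :=
  finPart (γ • ((1 : L) : OnePoint L)) - finPart (γ • ((0 : L) : OnePoint L))

/-- the translation part of an element fixing `∞` -/
noncomputable def affB (γ : PGL(Fin 2, L)) : L := finPart (γ • ((0 : L) : OnePoint L))

theorem aff_spec (γ : PGL(Fin 2, L)) (h : γ • (∞ : OnePoint L) = ∞) :
    affA γ ≠ 0 ∧ ∀ c : L, γ • (c : OnePoint L) = ((affA γ * c + affB γ : L) : OnePoint L) := by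
  obtain ⟨a, b, ha, hab⟩ := exists_aff γ h
  have hB : affB γ = b := by
    unfold affB
    rw [hab, finPart_coe, mul_zero, zero_add]
  have hA : affA γ = a := by
    unfold affA
    rw [hab, hab, finPart_coe, finPart_coe]
    ring
  rw [hA, hB]
  exact ⟨ha, hab⟩

theorem affA_mul (γ δ : PGL(Fin 2, L)) (hγ : γ • (∞ : OnePoint L) = ∞)
    (hδ : δ • (∞ : OnePoint L) = ∞) : affA (γ * δ) = affA γ * affA δ := by
  obtain ⟨-, h1⟩ := aff_spec γ hγ
  obtain ⟨-, h2⟩ := aff_spec δ hδ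
  conv_lhs => unfold affA
  rw [mul_smul, mul_smul, h2, h2, h1, h1, finPart_coe, finPart_coe]
  ring

theorem affB_mul (γ δ : PGL(Fin 2, L)) (hγ : γ • (∞ : OnePoint L) = ∞)
    (hδ : δ • (∞ : OnePoint L) = ∞) : affB (γ * δ) = affA γ * affB δ + affB γ := by
  obtain ⟨-, h1⟩ := aff_spec γ hγ
  obtain ⟨-, h2⟩ := aff_spec δ hδ
  conv_lhs => unfold affB
  rw [mul_smul, h2, h1, finPart_coe]
  ring

theorem affA_one : affA (1 : PGL(Fin 2, L)) = 1 := by
  unfold affA
  rw [one_smul, one_smul, finPart_coe, finPart_coe, sub_zero]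

/-- the multiplier character of the stabilizer of `∞` -/
noncomputable def chiInf : stabilizer (PGL(Fin 2, L)) (∞ : OnePoint L) →* Lˣ where
  toFun γ := Units.mk0 (affA (γ : PGL(Fin 2, L))) (aff_spec _ (mem_stabilizer_iff.mp γ.2)).1
  map_one' := by
    apply Units.ext
    exact affA_one
  map_mul' γ δ := by
    apply Units.ext
    exact affA_mul _ _ (mem_stabilizer_iff.mp γ.2) (mem_stabilizer_iff.mp δ.2)

theorem chiInf_coe (γ : stabilizer (PGL(Fin 2, L)) (∞ : OnePoint L)) :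
    ((chiInf γ : Lˣ) : L) = affA (γ : PGL(Fin 2, L)) := rfl

/-- an element fixing `∞` with multiplier `≠ 1` has a finite fixed point -/
theorem exists_fixed_of_affA_ne_one (γ : PGL(Fin 2, L)) (h : γ • (∞ : OnePoint L) = ∞)
    (ha : affA γ ≠ 1) : ∃ c : L, γ • (c : OnePoint L) = c := by
  obtain ⟨-, h1⟩ := aff_spec γ h
  refine ⟨affB γ / (1 - affA γ), ?_⟩
  rw [h1]
  congr 1
  have : 1 - affA γ ≠ 0 := sub_ne_zero.mpr (Ne.symm ha)
  field_simp
  ring

theorem isPar_infty_iff (γ : PGL(Fin 2, L)) :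
    IsPar γ (∞ : OnePoint L) ↔ γ ≠ 1 ∧ γ • (∞ : OnePoint L) = ∞ ∧ affA γ = 1 := by
  constructor
  · rintro ⟨h1, h2, h3⟩
    refine ⟨h1, h2, ?_⟩
    by_contra ha
    obtain ⟨c, hc⟩ := exists_fixed_of_affA_ne_one γ h2 ha
    exact OnePoint.coe_ne_infty _ (h3 _ hc)
  · rintro ⟨h1, h2, h3⟩
    refine ⟨h1, h2, ?_⟩
    intro y hy
    obtain ⟨-, hs⟩ := aff_spec γ h2
    cases y with
    | infty => rfl
    | coe c =>
      exfalso
      rw [hs, h3, one_mul] at hy
      have hb : affB γ = 0 := by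
        have := OnePoint.coe_injective hy
        simpa using this
      apply h1
      apply eq_one_of_fix_std γ h2
      · rw [hs, hb, mul_zero, zero_add]
      · rw [hs, hb, h3, mul_one, add_zero]

theorem par_mul_infty (g h : PGL(Fin 2, L)) (hg : IsPar g (∞ : OnePoint L))
    (hh : IsPar h (∞ : OnePoint L)) : g * h = 1 ∨ IsPar (g * h) (∞ : OnePoint L) := by
  rw [isPar_infty_iff] at hg hh
  by_cases h1 : g * h = 1
  · left; exact h1
  · right
    rw [isPar_infty_iff]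
    refine ⟨h1, ?_, ?_⟩
    · rw [mul_smul, hh.2.1, hg.2.1]
    · rw [affA_mul _ _ hg.2.1 hh.2.1, hg.2.2, hh.2.2, one_mul]

theorem par_comm_infty (g h : PGL(Fin 2, L)) (hg : IsPar g (∞ : OnePoint L))
    (hh : IsPar h (∞ : OnePoint L)) : g * h = h * g := by
  rw [isPar_infty_iff] at hg hh
  obtain ⟨-, h1⟩ := aff_spec g hg.2.1
  obtain ⟨-, h2⟩ := aff_spec h hh.2.1
  apply eq_of_smul_eq
  intro x
  cases x with
  | infty => rw [mul_smul, mul_smul, hh.2.1, hg.2.1, hh.2.1]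
  | coe c =>
    rw [mul_smul, mul_smul, h2, h1, h1, h2, hg.2.2, hh.2.2]
    congr 1
    ring

theorem pow_smul_of_affA_eq_one (g : PGL(Fin 2, L)) (h0 : g • (∞ : OnePoint L) = ∞)
    (h1 : affA g = 1) (n : ℕ) (c : L) :
    (g ^ n) • (c : OnePoint L) = ((c + n * affB g : L) : OnePoint L) := by
  obtain ⟨-, hs⟩ := aff_spec g h0
  induction n with
  | zero => simp
  | succ n ih =>
    rw [pow_succ', mul_smul, ih, hs, h1]
    congr 1
    push_cast
    ring

theorem pow_char_of_isPar_infty (p : ℕ) [CharP L p] (g : PGL(Fin 2, L))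
    (hg : IsPar g (∞ : OnePoint L)) : g ^ p = 1 := by
  rw [isPar_infty_iff] at hg
  apply eq_of_smul_eq
  intro x
  rw [one_smul]
  cases x with
  | infty =>
    exact mem_stabilizer_iff.mp (Subgroup.pow_mem _ (mem_stabilizer_iff.mpr hg.2.1) p)
  | coe c =>
    rw [pow_smul_of_affA_eq_one g hg.2.1 hg.2.2, CharP.cast_eq_zero, zero_mul, add_zero]

/-! ### General points -/

theorem isPar_conj_iff {G X : Type*} [Group G] [MulAction G X] (g k : G) (x : X) :
    IsPar (k * g * k⁻¹) (k • x) ↔ IsPar g x := by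
  constructor
  · intro h
    have := h.conj k⁻¹
    rw [inv_smul_smul] at this
    have e : k⁻¹ * (k * g * k⁻¹) * k⁻¹⁻¹ = g := by group
    rwa [e] at this
  · intro h
    exact h.conj k

theorem par_mul_pgl (x : OnePoint L) (g h : PGL(Fin 2, L)) (hg : IsPar g x) (hh : IsPar h x) :
    g * h = 1 ∨ IsPar (g * h) x := by
  obtain ⟨δ, rfl⟩ := exists_smul_infty_eq x
  have hg' : IsPar (δ⁻¹ * g * δ) (∞ : OnePoint L) := by
    rw [← isPar_conj_iff _ δ]
    have e : δ * (δ⁻¹ * g * δ) * δ⁻¹ = g := by group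
    rwa [e]
  have hh' : IsPar (δ⁻¹ * h * δ) (∞ : OnePoint L) := by
    rw [← isPar_conj_iff _ δ]
    have e : δ * (δ⁻¹ * h * δ) * δ⁻¹ = h := by group
    rwa [e]
  have e : δ⁻¹ * g * δ * (δ⁻¹ * h * δ) = δ⁻¹ * (g * h) * δ := by group
  rcases par_mul_infty _ _ hg' hh' with h1 | h1
  · left
    rw [e] at h1
    calc g * h = δ * (δ⁻¹ * (g * h) * δ) * δ⁻¹ := by group
      _ = 1 := by rw [h1]; group
  · right
    rw [e, ← isPar_conj_iff _ δ] at h1
    have e2 : δ * (δ⁻¹ * (g * h) * δ) * δ⁻¹ = g * h := by group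
    rwa [e2] at h1

theorem par_comm_pgl (x : OnePoint L) (g h : PGL(Fin 2, L)) (hg : IsPar g x) (hh : IsPar h x) :
    g * h = h * g := by
  obtain ⟨δ, rfl⟩ := exists_smul_infty_eq x
  have hg' : IsPar (δ⁻¹ * g * δ) (∞ : OnePoint L) := by
    rw [← isPar_conj_iff _ δ]
    have e : δ * (δ⁻¹ * g * δ) * δ⁻¹ = g := by group
    rwa [e]
  have hh' : IsPar (δ⁻¹ * h * δ) (∞ : OnePoint L) := by
    rw [← isPar_conj_iff _ δ]
    have e : δ * (δ⁻¹ * h * δ) * δ⁻¹ = h := by group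
    rwa [e]
  have h1 := par_comm_infty _ _ hg' hh'
  calc g * h = δ * ((δ⁻¹ * g * δ) * (δ⁻¹ * h * δ)) * δ⁻¹ := by group
    _ = δ * ((δ⁻¹ * h * δ) * (δ⁻¹ * g * δ)) * δ⁻¹ := by rw [h1]
    _ = h * g := by group

theorem pow_char_of_isPar (p : ℕ) [CharP L p] (x : OnePoint L) (g : PGL(Fin 2, L))
    (hg : IsPar g x) : g ^ p = 1 := by
  obtain ⟨δ, rfl⟩ := exists_smul_infty_eq x
  have hg' : IsPar (δ⁻¹ * g * δ) (∞ : OnePoint L) := by
    rw [← isPar_conj_iff _ δ]
    have e : δ * (δ⁻¹ * g * δ) * δ⁻¹ = g := by group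
    rwa [e]
  have h1 := pow_char_of_isPar_infty p _ hg'
  have e : g = δ * (δ⁻¹ * g * δ) * δ⁻¹ := by group
  rw [e, conj_pow, h1]
  group

end DSub

end Cfsg.Agent.Lib.Helper2
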