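import Mathlib
import Cfsg.Agent.Lib.Helper2.DSubG3

set_option autoImplicit false
set_option linter.unusedSectionVars false
set_option linter.style.haveILetI false

/-!
# Dickson's subgroup theorem: finite subgroups of `PGL₂(L)` are Möbius-like
-/

namespace Cfsg.Agent.Lib.Helper2

namespace DSub

open Matrix OnePoint MulAction
open scoped MatrixGroups

variable {L : Type*} [Field L] [DecidableEq L]

attribute [local instance] pglAct

/-- elements exchanging `∞` and `0` -/
theorem swap_std (γ : PGL(Fin 2, L)) (h1 : γ • (∞ : OnePoint L) = ((0 : L) : OnePoint L))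
    (h2 : γ • ((0 : L) : OnePoint L) = ∞) :
    γ * γ = 1 ∧ ∀ h : PGL(Fin 2, L), h • (∞ : OnePoint L) = ∞ →
      h • ((0 : L) : OnePoint L) = ((0 : L) : OnePoint L) → γ * h * γ⁻¹ = h⁻¹ := by
  obtain ⟨k, hk, hform⟩ := exists_inv_form γ h1 h2
  constructor
  · apply eq_of_smul_eq
    intro x
    rw [one_smul, mul_smul]
    cases x with
    | infty => rw [h1, h2]
    | coe c =>
      by_cases hc : c = 0
      · rw [hc, h2, h1]
      · rw [hform c hc, hform _ (div_ne_zero hk hc)]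
        congr 1
        field_simp
  · intro h hh0 hh1
    obtain ⟨ha, hs⟩ := aff_spec h hh0
    have hb : affB h = 0 := by
      have := hs 0
      rw [hh1, mul_zero, zero_add] at this
      exact (OnePoint.coe_injective this).symm
    have key : h * γ * h = γ := by
      apply eq_of_smul_eq
      intro x
      rw [mul_smul, mul_smul]
      cases x with
      | infty => rw [hh0, h1, hh1]
      | coe c =>
        by_cases hc : c = 0
        · rw [hc, hh1, h2, hh0]
        · rw [hs, hb, add_zero, hform _ (mul_ne_zero ha hc), hs, hb, add_zero, hform c hc]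
          congr 1
          field_simp
    calc γ * h * γ⁻¹ = h⁻¹ * (h * γ * h) * γ⁻¹ := by group
      _ = h⁻¹ := by rw [key]; group

theorem swap_pgl (γ : PGL(Fin 2, L)) (x y : OnePoint L) (hxy : x ≠ y) (h1 : γ • x = y)
    (h2 : γ • y = x) :
    γ * γ = 1 ∧ ∀ h : PGL(Fin 2, L), h • x = x → h • y = y → γ * h * γ⁻¹ = h⁻¹ := by
  obtain ⟨δ, rfl, rfl⟩ := exists_smul_pair x y hxy
  have e1 : (δ⁻¹ * γ * δ) • (∞ : OnePoint L) = ((0 : L) : OnePoint L) := by
    rw [mul_smul, mul_smul, h1, inv_smul_smul]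
  have e2 : (δ⁻¹ * γ * δ) • ((0 : L) : OnePoint L) = ∞ := by
    rw [mul_smul, mul_smul, h2, inv_smul_smul]
  obtain ⟨k1, k2⟩ := swap_std _ e1 e2
  constructor
  · calc γ * γ = δ * ((δ⁻¹ * γ * δ) * (δ⁻¹ * γ * δ)) * δ⁻¹ := by group
      _ = 1 := by rw [k1]; group
  · intro h hx hy
    have e3 : (δ⁻¹ * h * δ) • (∞ : OnePoint L) = ∞ := by
      rw [mul_smul, mul_smul, hx, inv_smul_smul]
    have e4 : (δ⁻¹ * h * δ) • ((0 : L) : OnePoint L) = ((0 : L) : OnePoint L) := by
      rw [mul_smul, mul_smul, hy, inv_smul_smul]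
    have := k2 _ e3 e4
    calc γ * h * γ⁻¹ = δ * ((δ⁻¹ * γ * δ) * (δ⁻¹ * h * δ) * (δ⁻¹ * γ * δ)⁻¹) * δ⁻¹ := by group
      _ = δ * (δ⁻¹ * h * δ)⁻¹ * δ⁻¹ := by rw [this]
      _ = h⁻¹ := by group

/-- the multiplier character at a general point -/
noncomputable def chiAt (δ : PGL(Fin 2, L)) :
    stabilizer (PGL(Fin 2, L)) (δ • (∞ : OnePoint L)) →* Lˣ where
  toFun γ := chiInf ⟨δ⁻¹ * (γ : PGL(Fin 2, L)) * δ, by
    rw [mem_stabilizer_iff, mul_smul, mul_smul, mem_stabilizer_iff.mp γ.2, inv_smul_smul]⟩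
  map_one' := by
    rw [← map_one chiInf]
    congr 1
    apply Subtype.ext
    simp
  map_mul' a b := by
    rw [← map_mul chiInf]
    congr 1
    apply Subtype.ext
    simp only [Subgroup.coe_mul]
    group

theorem chiAt_eq_one_iff (δ : PGL(Fin 2, L))
    (γ : stabilizer (PGL(Fin 2, L)) (δ • (∞ : OnePoint L))) (h1 : (γ : PGL(Fin 2, L)) ≠ 1) :
    chiAt δ γ = 1 ↔ IsPar (γ : PGL(Fin 2, L)) (δ • (∞ : OnePoint L)) := by
  have hfix : (δ⁻¹ * (γ : PGL(Fin 2, L)) * δ) • (∞ : OnePoint L) = ∞ := by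
    rw [mul_smul, mul_smul, mem_stabilizer_iff.mp γ.2, inv_smul_smul]
  have hne : δ⁻¹ * (γ : PGL(Fin 2, L)) * δ ≠ 1 := by
    intro h
    apply h1
    calc (γ : PGL(Fin 2, L)) = δ * (δ⁻¹ * (γ : PGL(Fin 2, L)) * δ) * δ⁻¹ := by group
      _ = 1 := by rw [h]; group
  have e : IsPar (γ : PGL(Fin 2, L)) (δ • (∞ : OnePoint L)) ↔
      IsPar (δ⁻¹ * (γ : PGL(Fin 2, L)) * δ) (∞ : OnePoint L) := by
    rw [← isPar_conj_iff (δ⁻¹ * (γ : PGL(Fin 2, L)) * δ) δ]
    have : δ * (δ⁻¹ * (γ : PGL(Fin 2, L)) * δ) * δ⁻¹ = γ := by group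
    rw [this]
  rw [e, isPar_infty_iff]
  constructor
  · intro h
    refine ⟨hne, hfix, ?_⟩
    have := congrArg (fun u : Lˣ => (u : L)) h
    exact this
  · rintro ⟨-, -, h⟩
    apply Units.ext
    exact h

/-- in characteristic `p` an element of `p`-power order which is not trivial is parabolic -/
theorem isPar_of_pow_eq_one [IsAlgClosed L] (p : ℕ) [hp : Fact p.Prime] [CharP L p]
    (γ : PGL(Fin 2, L)) (k : ℕ) (hk : γ ^ (p ^ k) = 1) (h1 : γ ≠ 1) :
    ∃ x : OnePoint L, IsPar γ x := by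
  obtain ⟨x, hx⟩ := exists_fixed_point γ
  obtain ⟨δ, rfl⟩ := exists_smul_infty_eq x
  refine ⟨δ • (∞ : OnePoint L), ?_⟩
  set γ' : stabilizer (PGL(Fin 2, L)) (δ • (∞ : OnePoint L)) := ⟨γ, mem_stabilizer_iff.mpr hx⟩
  rw [show γ = (γ' : PGL(Fin 2, L)) from rfl, ← chiAt_eq_one_iff δ γ' h1]
  have h2 : (chiAt δ γ') ^ (p ^ k) = 1 := by
    rw [← map_pow]
    have : γ' ^ (p ^ k) = 1 := Subtype.ext hk
    rw [this, map_one]
  have h3 : ((chiAt δ γ' : Lˣ) : L) ^ (p ^ k) = 1 := by
    have := congrArg (fun u : Lˣ => (u : L)) h2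
    simpa using this
  have h4 : (((chiAt δ γ' : Lˣ) : L) - 1) ^ (p ^ k) = 0 := by
    rw [sub_pow_char_pow, h3, one_pow, sub_self]
  apply Units.ext
  have := pow_eq_zero_iff (pow_ne_zero k hp.out.ne_zero) |>.mp h4
  rw [Units.val_one]
  exact sub_eq_zero.mp this

section sub

variable (H : Subgroup (PGL(Fin 2, L)))

theorem isPar_coe_iff (h : ↥H) (x : OnePoint L) :
    IsPar h x ↔ IsPar (h : PGL(Fin 2, L)) x := by
  unfold IsPar
  rw [Ne, Ne, ← OneMemClass.coe_eq_one]
  rfl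

/-- finite subgroups of `PGL₂(L)`, `L` algebraically closed, are Möbius-like -/
theorem mob_subgroup [IsAlgClosed L] [Finite H] : Mob ↥H (OnePoint L) where
  exists_fixed h := exists_fixed_point (h : PGL(Fin 2, L))
  sharp h x y z hxy hxz hyz hx hy hz := by
    apply Subtype.ext
    exact sharp (h : PGL(Fin 2, L)) x y z hxy hxz hyz hx hy hz
  par_mul x g h hg hh := by
    rw [isPar_coe_iff] at hg hh
    rcases par_mul_pgl x _ _ hg hh with h1 | h1
    · left
      apply Subtype.ext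
      exact h1
    · right
      rw [isPar_coe_iff]
      exact h1
  par_comm x g h hg hh := by
    rw [isPar_coe_iff] at hg hh
    apply Subtype.ext
    exact par_comm_pgl x _ _ hg hh
  cyc x hnp := by
    obtain ⟨δ, rfl⟩ := exists_smul_infty_eq x
    let f : stabilizer ↥H (δ • (∞ : OnePoint L)) →* L :=
      (Units.coeHom L).comp ((chiAt δ).comp
        (MonoidHom.mk' (fun h : stabilizer ↥H (δ • (∞ : OnePoint L)) =>
          (⟨((h : ↥H) : PGL(Fin 2, L)), by
            have := mem_stabilizer_iff.mp h.2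
            exact mem_stabilizer_iff.mpr this⟩ :
            stabilizer (PGL(Fin 2, L)) (δ • (∞ : OnePoint L)))) (fun a b => rfl)))
    apply isCyclic_of_injective_ringHom f
    rw [injective_iff_map_eq_one]
    intro h hh
    by_contra h1
    have h1' : (((h : ↥H) : PGL(Fin 2, L))) ≠ 1 := by
      intro e
      apply h1
      apply Subtype.ext
      apply Subtype.ext
      exact e
    have h2 : chiAt δ ⟨((h : ↥H) : PGL(Fin 2, L)), by
        have := mem_stabilizer_iff.mp h.2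
        exact mem_stabilizer_iff.mpr this⟩ = 1 := by
      apply Units.ext
      exact hh
    rw [chiAt_eq_one_iff δ _ h1'] at h2
    exact hnp (h : ↥H) ((isPar_coe_iff H _ _).mpr h2)
  swap g x y hxy h1 h2 := by
    obtain ⟨k1, k2⟩ := swap_pgl (g : PGL(Fin 2, L)) x y hxy h1 h2
    constructor
    · apply Subtype.ext
      exact k1
    · intro h hx hy
      apply Subtype.ext
      exact k2 (h : PGL(Fin 2, L)) hx hy

end sub

end DSub

end Cfsg.Agent.Lib.Helper2
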