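import Mathlib
import Cfsg.Agent.Lib.Helper2.DSubG4

set_option autoImplicit false
set_option linter.unusedSectionVars false
set_option linter.style.haveILetI false

/-!
# Dickson's subgroup theorem: groups acting through an embedding into `PGL₂(L)`
-/

namespace Cfsg.Agent.Lib.Helper2

namespace DSub

open Matrix OnePoint MulAction
open scoped MatrixGroups

variable {L : Type*} [Field L] [DecidableEq L]

attribute [local instance] pglAct

variable {K : Type*} [Group K] [MulAction K (OnePoint L)] (φ : K →* PGL(Fin 2, L))

theorem isPar_map_iff (hφ : Function.Injective φ)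
    (hact : ∀ (k : K) (x : OnePoint L), k • x = φ k • x) (k : K) (x : OnePoint L) :
    IsPar k x ↔ IsPar (φ k) x := by
  unfold IsPar
  rw [Ne, Ne, ← map_eq_one_iff φ hφ]
  simp only [hact]

/-- finite groups embedded in `PGL₂(L)`, `L` algebraically closed, are Möbius-like -/
theorem mob_of_hom [IsAlgClosed L] [Finite K] (hφ : Function.Injective φ)
    (hact : ∀ (k : K) (x : OnePoint L), k • x = φ k • x) : Mob K (OnePoint L) where
  exists_fixed h := by
    obtain ⟨x, hx⟩ := exists_fixed_point (φ h)
    exact ⟨x, by rw [hact]; exact hx⟩
  sharp h x y z hxy hxz hyz hx hy hz := by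
    rw [hact] at hx hy hz
    apply hφ
    rw [map_one]
    exact sharp (φ h) x y z hxy hxz hyz hx hy hz
  par_mul x g h hg hh := by
    rw [isPar_map_iff φ hφ hact] at hg hh
    rcases par_mul_pgl x _ _ hg hh with h1 | h1
    · left
      apply hφ
      rw [map_mul, map_one]
      exact h1
    · right
      rw [isPar_map_iff φ hφ hact, map_mul]
      exact h1
  par_comm x g h hg hh := by
    rw [isPar_map_iff φ hφ hact] at hg hh
    apply hφ
    rw [map_mul, map_mul]
    exact par_comm_pgl x _ _ hg hh
  cyc x hnp := by
    obtain ⟨δ, rfl⟩ := exists_smul_infty_eq x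
    let f : stabilizer K (δ • (∞ : OnePoint L)) →* L :=
      (Units.coeHom L).comp ((chiAt δ).comp
        (MonoidHom.mk' (fun h : stabilizer K (δ • (∞ : OnePoint L)) =>
          (⟨φ (h : K), by
            have := mem_stabilizer_iff.mp h.2
            rw [hact] at this
            exact mem_stabilizer_iff.mpr this⟩ :
            stabilizer (PGL(Fin 2, L)) (δ • (∞ : OnePoint L))))
          (fun a b => by
            apply Subtype.ext
            simp only [Subgroup.coe_mul, map_mul])))
    apply isCyclic_of_injective_ringHom f
    rw [injective_iff_map_eq_one]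
    intro h hh
    by_contra h1
    have h1' : φ (h : K) ≠ 1 := by
      intro e
      apply h1
      apply Subtype.ext
      apply hφ
      rw [e]
      simp
    have h2 : chiAt δ ⟨φ (h : K), by
        have := mem_stabilizer_iff.mp h.2
        rw [hact] at this
        exact mem_stabilizer_iff.mpr this⟩ = 1 := by
      apply Units.ext
      exact hh
    rw [chiAt_eq_one_iff δ _ h1'] at h2
    exact hnp (h : K) ((isPar_map_iff φ hφ hact _ _).mpr h2)
  swap g x y hxy h1 h2 := by
    rw [hact] at h1 h2
    obtain ⟨k1, k2⟩ := swap_pgl (φ g) x y hxy h1 h2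
    constructor
    · apply hφ
      rw [map_mul, map_one]
      exact k1
    · intro h hx hy
      rw [hact] at hx hy
      apply hφ
      rw [map_mul, map_mul, map_inv, map_inv]
      exact k2 (φ h) hx hy

end DSub

end Cfsg.Agent.Lib.Helper2
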