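import Mathlib
import Cfsg.Agent.Lib.Helper2.DSubG5

set_option autoImplicit false
set_option linter.unusedSectionVars false
set_option linter.style.haveILetI false

/-!
# Dickson's subgroup theorem: the translation group and its multiplier field
-/

namespace Cfsg.Agent.Lib.Helper2

namespace DSub

open Matrix OnePoint MulAction
open scoped MatrixGroups

variable {L : Type*} [Field L] [DecidableEq L]

attribute [local instance] pglAct

theorem affB_one : affB (1 : PGL(Fin 2, L)) = 0 := by
  unfold affB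
  rw [one_smul, finPart_coe]

theorem affA_inv (s : PGL(Fin 2, L)) (h : s • (∞ : OnePoint L) = ∞) (ha : affA s = 1) :
    affA s⁻¹ = 1 := by
  have h' : s⁻¹ • (∞ : OnePoint L) = ∞ := by rw [inv_smul_eq_iff, h]
  have := affA_mul s s⁻¹ h h'
  rw [mul_inv_cancel, affA_one, ha, one_mul] at this
  exact this.symm

variable (S : Subgroup (PGL(Fin 2, L)))

/-- the translations in `S` -/
def US : Subgroup (PGL(Fin 2, L)) where
  carrier := {s | s ∈ S ∧ s • (∞ : OnePoint L) = ∞ ∧ affA s = 1}
  one_mem' := ⟨S.one_mem, one_smul _ _, affA_one⟩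
  mul_mem' := by
    rintro a b ⟨ha, ha1, ha2⟩ ⟨hb, hb1, hb2⟩
    refine ⟨S.mul_mem ha hb, by rw [mul_smul, hb1, ha1], ?_⟩
    rw [affA_mul a b ha1 hb1, ha2, hb2, one_mul]
  inv_mem' := by
    rintro a ⟨ha, ha1, ha2⟩
    exact ⟨S.inv_mem ha, by rw [inv_smul_eq_iff, ha1], affA_inv a ha1 ha2⟩

theorem mem_US (s : PGL(Fin 2, L)) :
    s ∈ US S ↔ s ∈ S ∧ s • (∞ : OnePoint L) = ∞ ∧ affA s = 1 := Iff.rfl

theorem US_le : US S ≤ S := fun _ h => h.1

theorem US_smul (s : PGL(Fin 2, L)) (hs : s ∈ US S) (c : L) :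
    s • (c : OnePoint L) = ((c + affB s : L) : OnePoint L) := by
  obtain ⟨-, h1, h2⟩ := hs
  rw [(aff_spec s h1).2, h2, one_mul]

theorem affB_mul_US (a b : PGL(Fin 2, L)) (ha : a ∈ US S) (hb : b ∈ US S) :
    affB (a * b) = affB a + affB b := by
  rw [affB_mul a b ha.2.1 hb.2.1, ha.2.2, one_mul, add_comm]

theorem affB_inv_US (a : PGL(Fin 2, L)) (ha : a ∈ US S) : affB a⁻¹ = - affB a := by
  have := affB_mul_US S a a⁻¹ ha ((US S).inv_mem ha)
  rw [mul_inv_cancel, affB_one] at this
  exact (neg_eq_of_add_eq_zero_right this.symm).symm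

theorem eq_of_affB_eq (a b : PGL(Fin 2, L)) (ha : a ∈ US S) (hb : b ∈ US S)
    (h : affB a = affB b) : a = b := by
  apply eq_of_smul_eq
  intro x
  cases x with
  | infty => rw [ha.2.1, hb.2.1]
  | coe c => rw [US_smul S a ha, US_smul S b hb, h]

/-- the group of translation parts -/
def TT : AddSubgroup L where
  carrier := {b | ∃ s ∈ US S, affB s = b}
  zero_mem' := ⟨1, (US S).one_mem, affB_one⟩
  add_mem' := by
    rintro a b ⟨s, hs, rfl⟩ ⟨t, ht, rfl⟩
    exact ⟨s * t, (US S).mul_mem hs ht, affB_mul_US S s t hs ht⟩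
  neg_mem' := by
    rintro a ⟨s, hs, rfl⟩
    exact ⟨s⁻¹, (US S).inv_mem hs, affB_inv_US S s hs⟩

theorem mem_TT (b : L) : b ∈ TT S ↔ ∃ s ∈ US S, affB s = b := Iff.rfl

/-- `US S` and `TT S` are in bijection -/
noncomputable def equivTT : ↥(US S) ≃ ↥(TT S) :=
  Equiv.ofBijective (fun s => ⟨affB (s : PGL(Fin 2, L)), s, s.2, rfl⟩) (by
    constructor
    · intro a b hab
      apply Subtype.ext
      exact eq_of_affB_eq S a b a.2 b.2 (congrArg Subtype.val hab)
    · rintro ⟨b, s, hs, rfl⟩
      exact ⟨⟨s, hs⟩, rfl⟩)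

theorem card_TT : Nat.card (TT S) = Nat.card (US S) :=
  (Nat.card_congr (equivTT S)).symm

instance finite_US [Finite S] : Finite (US S) :=
  Finite.of_injective (fun s : US S => (⟨s.1, US_le S s.2⟩ : S))
    (fun a b h => Subtype.ext (congrArg (fun z : S => (z : PGL(Fin 2, L))) h))

instance finite_TT [Finite S] : Finite (TT S) :=
  Finite.of_equiv _ (equivTT S)

/-- the multiplier field of the translation group -/
def K0 [Finite S] : Subfield L where
  carrier := {c | ∀ t ∈ TT S, c * t ∈ TT S}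
  mul_mem' := by
    intro a b ha hb t ht
    rw [mul_assoc]
    exact ha _ (hb t ht)
  one_mem' := by
    intro t ht
    rwa [one_mul]
  add_mem' := by
    intro a b ha hb t ht
    rw [add_mul]
    exact (TT S).add_mem (ha t ht) (hb t ht)
  zero_mem' := by
    intro t _
    rw [zero_mul]
    exact (TT S).zero_mem
  neg_mem' := by
    intro a ha t ht
    rw [neg_mul]
    exact (TT S).neg_mem (ha t ht)
  inv_mem' := by
    intro c hc
    by_cases hc0 : c = 0
    · rw [hc0, _root_.inv_zero]
      intro t _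
      rw [zero_mul]
      exact (TT S).zero_mem
    · intro t ht
      let m : ↥(TT S) → ↥(TT S) := fun t => ⟨c * t, hc t t.2⟩
      have hinj : Function.Injective m := by
        intro a b hab
        apply Subtype.ext
        have := congrArg Subtype.val hab
        exact mul_left_cancel₀ hc0 this
      have hsurj := Finite.surjective_of_injective hinj
      obtain ⟨t', ht'⟩ := hsurj ⟨t, ht⟩
      have h1 : c * (t' : L) = t := congrArg Subtype.val ht'
      have h2 : c⁻¹ * t = t' := by
        rw [← h1, ← mul_assoc, inv_mul_cancel₀ hc0, one_mul]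
      rw [h2]
      exact t'.2

theorem mem_K0 [Finite S] (c : L) : c ∈ K0 S ↔ ∀ t ∈ TT S, c * t ∈ TT S := Iff.rfl

end DSub

end Cfsg.Agent.Lib.Helper2
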