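import Mathlib
import Cfsg.Agent.Lib.Helper2.DSubF1

set_option autoImplicit false
set_option linter.unusedSectionVars false
set_option linter.style.haveILetI false

/-!
# Dickson's subgroup theorem: the orbit of `∞` is a projective line over a subfield
-/

namespace Cfsg.Agent.Lib.Helper2

namespace DSub

open Matrix OnePoint MulAction
open scoped MatrixGroups

variable {L : Type*} [Field L] [DecidableEq L]

attribute [local instance] pglAct

variable (S : Subgroup (PGL(Fin 2, L))) [Finite S]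

theorem smul_mem_orbit (s : PGL(Fin 2, L)) (hs : s ∈ S) (x y : OnePoint L)
    (hy : y ∈ orbit S x) : s • y ∈ orbit S x := by
  obtain ⟨t, rfl⟩ := hy
  exact ⟨⟨s, hs⟩ * t, mul_smul (⟨s, hs⟩ : S) t x⟩

theorem coe_mem_orbit_of_mem_TT (h0 : ((0 : L) : OnePoint L) ∈ orbit S (∞ : OnePoint L)) (c : L)
    (hc : c ∈ TT S) : (c : OnePoint L) ∈ orbit S (∞ : OnePoint L) := by
  obtain ⟨u, hu, rfl⟩ := hc
  have := smul_mem_orbit S u (US_le S hu) _ _ h0
  rwa [US_smul S u hu, zero_add] at this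

theorem mem_TT_of_coe_mem_orbit (q₀ : ℕ)
    (hO : Nat.card (orbit S (∞ : OnePoint L)) = q₀ + 1)
    (h0 : ((0 : L) : OnePoint L) ∈ orbit S (∞ : OnePoint L))
    (hU : Nat.card (US S) = q₀) (c : L) (hc : (c : OnePoint L) ∈ orbit S (∞ : OnePoint L)) :
    c ∈ TT S := by
  have hfinO : (orbit S (∞ : OnePoint L)).Finite := by
    unfold orbit
    exact Set.finite_range _
  set A : Set (OnePoint L) := orbit S (∞ : OnePoint L) \ {∞} with hA
  set B : Set (OnePoint L) := (fun t : L => (t : OnePoint L)) '' (TT S : Set L) with hB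
  have hAfin : A.Finite := hfinO.subset Set.sdiff_subset
  have hBA : B ⊆ A := by
    rintro _ ⟨t, ht, rfl⟩
    exact ⟨coe_mem_orbit_of_mem_TT S h0 t ht, OnePoint.coe_ne_infty t⟩
  have hAcard : A.ncard = q₀ := by
    have h1 : A.ncard = (orbit S (∞ : OnePoint L)).ncard - 1 :=
      Set.ncard_sdiff_singleton_of_mem (mem_orbit_self _)
    rw [h1, ← Nat.card_coe_set_eq, hO]
    rfl
  have hBcard : B.ncard = q₀ := by
    rw [hB, Set.ncard_image_of_injective _ OnePoint.coe_injective, ← Nat.card_coe_set_eq]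
    exact (card_TT S).trans hU
  have hAB : B = A := Set.eq_of_subset_of_ncard_le hBA (by rw [hAcard, hBcard]) hAfin
  have : (c : OnePoint L) ∈ B := by
    rw [hAB]
    exact ⟨hc, OnePoint.coe_ne_infty c⟩
  obtain ⟨t, ht, hct⟩ := this
  have := OnePoint.coe_injective hct
  rwa [← this]

theorem affA_mem_K0 (q₀ : ℕ)
    (hO : Nat.card (orbit S (∞ : OnePoint L)) = q₀ + 1)
    (h0 : ((0 : L) : OnePoint L) ∈ orbit S (∞ : OnePoint L))
    (hU : Nat.card (US S) = q₀) (s : PGL(Fin 2, L)) (hs : s ∈ S)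
    (hfix : s • (∞ : OnePoint L) = ∞) : affA s ∈ K0 S := by
  obtain ⟨-, hsp⟩ := aff_spec s hfix
  have key : ∀ t ∈ TT S, affA s * t + affB s ∈ TT S := by
    intro t ht
    apply mem_TT_of_coe_mem_orbit S q₀ hO h0 hU
    rw [← hsp]
    exact smul_mem_orbit S s hs _ _ (coe_mem_orbit_of_mem_TT S h0 t ht)
  have hb : affB s ∈ TT S := by
    have := key 0 (TT S).zero_mem
    rwa [mul_zero, zero_add] at this
  intro t ht
  have := (TT S).sub_mem (key t ht) hb
  rwa [add_sub_cancel_right] at this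

/-- the multiplier homomorphism on the stabilizer of `∞` in `S` -/
noncomputable def psiS : stabilizer S (∞ : OnePoint L) →* Lˣ :=
  chiInf.comp (MonoidHom.mk' (fun s : stabilizer S (∞ : OnePoint L) =>
    (⟨((s : S) : PGL(Fin 2, L)), by
      have := mem_stabilizer_iff.mp s.2
      exact mem_stabilizer_iff.mpr this⟩ : stabilizer (PGL(Fin 2, L)) (∞ : OnePoint L)))
    (fun a b => rfl))

theorem psiS_coe (s : stabilizer S (∞ : OnePoint L)) :
    ((psiS S s : Lˣ) : L) = affA ((s : S) : PGL(Fin 2, L)) := rfl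

theorem card_ker_psiS : Nat.card (psiS S).ker = Nat.card (US S) := by
  apply Nat.card_congr
  refine ⟨fun s => ⟨((s.1 : S) : PGL(Fin 2, L)), ⟨(s.1 : S).2, mem_stabilizer_iff.mp s.1.2, ?_⟩⟩,
    fun u => ⟨⟨⟨u.1, u.2.1⟩, mem_stabilizer_iff.mpr u.2.2.1⟩, ?_⟩, ?_, ?_⟩
  · have := s.2
    rw [MonoidHom.mem_ker] at this
    have h2 := congrArg (fun u : Lˣ => (u : L)) this
    simpa [psiS_coe] using h2
  · rw [MonoidHom.mem_ker]
    apply Units.ext
    rw [psiS_coe]
    exact u.2.2.2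
  · intro s; rfl
  · intro u; rfl

theorem card_range_psiS (q₀ k : ℕ) (hq : 0 < q₀) (hU : Nat.card (US S) = q₀)
    (hst : Nat.card (stabilizer S (∞ : OnePoint L)) = q₀ * k) :
    Nat.card (psiS S).range = k := by
  rw [← Subgroup.index_ker]
  have h1 := Subgroup.index_mul_card (psiS S).ker
  rw [card_ker_psiS, hU, hst, mul_comm] at h1
  exact Nat.eq_of_mul_eq_mul_left hq h1

theorem K0_le_TT (h1 : (1 : L) ∈ TT S) (c : L) (hc : c ∈ K0 S) : c ∈ TT S := by
  have := hc 1 h1
  rwa [mul_one] at this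

theorem finite_K0 (h1 : (1 : L) ∈ TT S) : Finite (K0 S) :=
  Finite.of_injective (fun c : K0 S => (⟨c.1, K0_le_TT S h1 c.1 c.2⟩ : TT S))
    (fun a b h => Subtype.ext (congrArg (fun z : TT S => (z : L)) h))

end DSub

end Cfsg.Agent.Lib.Helper2
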