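import Mathlib
import Cfsg.Agent.Lib.Helper2.DSubF2

set_option autoImplicit false
set_option linter.unusedSectionVars false
set_option linter.style.haveILetI false

/-!
# Dickson's subgroup theorem: the translation group is a subfield
-/

namespace Cfsg.Agent.Lib.Helper2

namespace DSub

open Matrix OnePoint MulAction
open scoped MatrixGroups

variable {L : Type*} [Field L] [DecidableEq L]

attribute [local instance] pglAct

variable (S : Subgroup (PGL(Fin 2, L))) [Finite S]

theorem card_K0_ge (q₀ k : ℕ) (hq : 0 < q₀)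
    (hO : Nat.card (orbit S (∞ : OnePoint L)) = q₀ + 1)
    (h0 : ((0 : L) : OnePoint L) ∈ orbit S (∞ : OnePoint L))
    (h1 : ((1 : L) : OnePoint L) ∈ orbit S (∞ : OnePoint L))
    (hU : Nat.card (US S) = q₀)
    (hst : Nat.card (stabilizer S (∞ : OnePoint L)) = q₀ * k) :
    k + 1 ≤ Nat.card (K0 S) := by
  have h1T : (1 : L) ∈ TT S := mem_TT_of_coe_mem_orbit S q₀ hO h0 hU 1 h1
  haveI := finite_K0 S h1T
  have hmem : ∀ u : (psiS S).range, ((u : Lˣ) : L) ∈ K0 S := by
    rintro ⟨u, s, rfl⟩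
    rw [psiS_coe]
    exact affA_mem_K0 S q₀ hO h0 hU _ (s : S).2 (mem_stabilizer_iff.mp s.2)
  let f : Option (psiS S).range → K0 S := fun o =>
    Option.elim o 0 (fun u => ⟨((u : Lˣ) : L), hmem u⟩)
  have hf : Function.Injective f := by
    intro a b hab
    cases a with
    | none =>
      cases b with
      | none => rfl
      | some v =>
        exfalso
        have h2 : ((0 : K0 S) : L) = ((v : Lˣ) : L) := congrArg Subtype.val hab
        exact (Units.ne_zero (v : Lˣ)) h2.symm
    | some u =>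
      cases b with
      | none =>
        exfalso
        have h2 : ((u : Lˣ) : L) = ((0 : K0 S) : L) := congrArg Subtype.val hab
        exact (Units.ne_zero (u : Lˣ)) h2
      | some v =>
        congr 1
        apply Subtype.ext
        apply Units.ext
        have h2 : ((u : Lˣ) : L) = ((v : Lˣ) : L) := congrArg Subtype.val hab
        exact h2
  have hfin : Finite (psiS S).range :=
    Finite.of_surjective (psiS S).rangeRestrict (MonoidHom.rangeRestrict_surjective _)
  have := Nat.card_le_card_of_injective f hf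
  rw [Finite.card_option, card_range_psiS S q₀ k hq hU hst] at this
  exact this

theorem TT_le_K0 (q₀ k : ℕ) (hq : 2 ≤ q₀) (hk : q₀ ≤ 2 * k + 1)
    (hO : Nat.card (orbit S (∞ : OnePoint L)) = q₀ + 1)
    (h0 : ((0 : L) : OnePoint L) ∈ orbit S (∞ : OnePoint L))
    (h1 : ((1 : L) : OnePoint L) ∈ orbit S (∞ : OnePoint L))
    (hU : Nat.card (US S) = q₀)
    (hst : Nat.card (stabilizer S (∞ : OnePoint L)) = q₀ * k) (t₀ : L) (ht₀ : t₀ ∈ TT S) :
    t₀ ∈ K0 S := by
  have h1T : (1 : L) ∈ TT S := mem_TT_of_coe_mem_orbit S q₀ hO h0 hU 1 h1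
  haveI := finite_K0 S h1T
  by_contra hcon
  let f : K0 S × K0 S → TT S := fun ab =>
    ⟨(ab.1 : L) + (ab.2 : L) * t₀,
      (TT S).add_mem (K0_le_TT S h1T _ ab.1.2) (ab.2.2 t₀ ht₀)⟩
  have hf : Function.Injective f := by
    rintro ⟨a, b⟩ ⟨a', b'⟩ hab
    have e : (a : L) + (b : L) * t₀ = (a' : L) + (b' : L) * t₀ := congrArg Subtype.val hab
    have hb : b = b' := by
      by_contra hne
      apply hcon
      have hne' : (b : L) - (b' : L) ≠ 0 := by
        intro h
        exact hne (Subtype.ext (sub_eq_zero.mp h))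
      have : t₀ = ((a' : L) - (a : L)) * ((b : L) - (b' : L))⁻¹ := by
        field_simp
        linear_combination e
      rw [this]
      exact (K0 S).mul_mem ((K0 S).sub_mem a'.2 a.2) ((K0 S).inv_mem ((K0 S).sub_mem b.2 b'.2))
    subst hb
    have ha : a = a' := by
      apply Subtype.ext
      exact add_right_cancel e
    rw [ha]
  have h2 := Nat.card_le_card_of_injective f hf
  rw [Nat.card_prod, card_TT, hU] at h2
  have h3 := card_K0_ge S q₀ k (by omega) hO h0 h1 hU hst
  nlinarith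

/-- the orbit of `∞` is the projective line over `K0 S` -/
theorem orbit_eq_K0 (q₀ k : ℕ) (hq : 2 ≤ q₀) (hk : q₀ ≤ 2 * k + 1)
    (hO : Nat.card (orbit S (∞ : OnePoint L)) = q₀ + 1)
    (h0 : ((0 : L) : OnePoint L) ∈ orbit S (∞ : OnePoint L))
    (h1 : ((1 : L) : OnePoint L) ∈ orbit S (∞ : OnePoint L))
    (hU : Nat.card (US S) = q₀)
    (hst : Nat.card (stabilizer S (∞ : OnePoint L)) = q₀ * k) :
    (∀ c : L, (c : OnePoint L) ∈ orbit S (∞ : OnePoint L) ↔ c ∈ K0 S) ∧
      Nat.card (K0 S) = q₀ := by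
  have h1T : (1 : L) ∈ TT S := mem_TT_of_coe_mem_orbit S q₀ hO h0 hU 1 h1
  have hTK : ∀ c : L, c ∈ TT S ↔ c ∈ K0 S :=
    fun c => ⟨TT_le_K0 S q₀ k hq hk hO h0 h1 hU hst c, K0_le_TT S h1T c⟩
  constructor
  · intro c
    rw [← hTK]
    exact ⟨mem_TT_of_coe_mem_orbit S q₀ hO h0 hU c, coe_mem_orbit_of_mem_TT S h0 c⟩
  · rw [← hU, ← card_TT]
    apply Nat.card_congr
    exact ⟨fun c => ⟨c.1, (hTK _).mpr c.2⟩, fun c => ⟨c.1, (hTK _).mp c.2⟩, fun _ => rfl,
      fun _ => rfl⟩

end DSub

end Cfsg.Agent.Lib.Helper2
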