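import Mathlib
import Cfsg.Agent.Lib.Helper2.DSubF3

set_option autoImplicit false
set_option linter.unusedSectionVars false
set_option linter.style.haveILetI false

/-!
# Dickson's subgroup theorem: the group lies in `PGL₂` of the subfield
-/

namespace Cfsg.Agent.Lib.Helper2

namespace DSub

open Matrix OnePoint MulAction
open scoped MatrixGroups

variable {L : Type*} [Field L] [DecidableEq L]

attribute [local instance] pglAct

/-- compatibility of the action with field extension -/
theorem map_smul_map {K₀ : Type*} [Field K₀] [DecidableEq K₀] (f : K₀ →+* L)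
    (γ : PGL(Fin 2, K₀)) (z : OnePoint K₀) :
    (ProjGenLinGroup.map f γ) • (OnePoint.map f z) = OnePoint.map f (γ • z) := by
  induction γ using ProjGenLinGroup.induction_on with | mk g =>
  rw [ProjGenLinGroup.map_mk, mk_smul, mk_smul, OnePoint.map_smul]

variable (S : Subgroup (PGL(Fin 2, L))) [Finite S]

theorem le_range_map (q₀ k : ℕ) (hq : 2 ≤ q₀) (hk : q₀ ≤ 2 * k + 1)
    (hO : Nat.card (orbit S (∞ : OnePoint L)) = q₀ + 1)
    (h0 : ((0 : L) : OnePoint L) ∈ orbit S (∞ : OnePoint L))
    (h1 : ((1 : L) : OnePoint L) ∈ orbit S (∞ : OnePoint L))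
    (hU : Nat.card (US S) = q₀)
    (hst : Nat.card (stabilizer S (∞ : OnePoint L)) = q₀ * k) :
    S ≤ (ProjGenLinGroup.map (n := Fin 2) (K0 S).subtype).range := by
  classical
  obtain ⟨horb, -⟩ := orbit_eq_K0 S q₀ k hq hk hO h0 h1 hU hst
  set f : ↥(K0 S) →+* L := (K0 S).subtype with hf
  -- every point of the orbit comes from the small projective line
  have hpre : ∀ x : OnePoint L, x ∈ orbit S (∞ : OnePoint L) →
      ∃ z : OnePoint ↥(K0 S), OnePoint.map f z = x := by
    intro x hx
    cases x with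
    | infty => exact ⟨∞, rfl⟩
    | coe c => exact ⟨((⟨c, (horb c).mp hx⟩ : ↥(K0 S)) : OnePoint ↥(K0 S)), rfl⟩
  have hinj : Function.Injective (OnePoint.map f) := by
    intro a b hab
    cases a with
    | infty =>
      cases b with
      | infty => rfl
      | coe b => exact absurd hab.symm (OnePoint.coe_ne_infty _)
    | coe a =>
      cases b with
      | infty => exact absurd hab (OnePoint.coe_ne_infty _)
      | coe b =>
        have := OnePoint.coe_injective hab
        rw [(Subtype.val_injective this : a = b)]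
  intro s hs
  have hsi : s • (∞ : OnePoint L) ∈ orbit S (∞ : OnePoint L) :=
    smul_mem_orbit S s hs _ _ (mem_orbit_self _)
  have hs0 := smul_mem_orbit S s hs _ _ h0
  have hs1 := smul_mem_orbit S s hs _ _ h1
  obtain ⟨a₀, ha₀⟩ := hpre _ hsi
  obtain ⟨b₀, hb₀⟩ := hpre _ hs0
  obtain ⟨c₀, hc₀⟩ := hpre _ hs1
  have hab : a₀ ≠ b₀ := by
    intro h
    rw [h, hb₀] at ha₀
    exact OnePoint.infty_ne_coe (0 : L) (smul_left_cancel s ha₀.symm)
  have hac : a₀ ≠ c₀ := by
    intro h
    rw [h, hc₀] at ha₀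
    exact OnePoint.infty_ne_coe (1 : L) (smul_left_cancel s ha₀.symm)
  have hbc : b₀ ≠ c₀ := by
    intro h
    rw [h, hc₀] at hb₀
    exact coe_zero_ne_one (smul_left_cancel s hb₀.symm)
  obtain ⟨γ₀, g0, g1, g2⟩ := exists_std a₀ b₀ c₀ hab hac hbc
  refine ⟨γ₀, ?_⟩
  have e0 : (ProjGenLinGroup.map f γ₀) • (∞ : OnePoint L) = s • (∞ : OnePoint L) := by
    have := map_smul_map f γ₀ ∞
    rw [g0, ha₀] at this
    exact this
  have e1 : (ProjGenLinGroup.map f γ₀) • ((0 : L) : OnePoint L) = s • ((0 : L) : OnePoint L) := by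
    have := map_smul_map f γ₀ ((0 : ↥(K0 S)) : OnePoint ↥(K0 S))
    rw [g1, hb₀] at this
    simpa using this
  have e2 : (ProjGenLinGroup.map f γ₀) • ((1 : L) : OnePoint L) = s • ((1 : L) : OnePoint L) := by
    have := map_smul_map f γ₀ ((1 : ↥(K0 S)) : OnePoint ↥(K0 S))
    rw [g2, hc₀] at this
    simpa using this
  have key : s⁻¹ * ProjGenLinGroup.map f γ₀ = 1 := by
    apply eq_one_of_fix_std
    · rw [mul_smul, e0, inv_smul_smul]
    · rw [mul_smul, e1, inv_smul_smul]
    · rw [mul_smul, e2, inv_smul_smul]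
  calc ProjGenLinGroup.map f γ₀ = s * (s⁻¹ * ProjGenLinGroup.map f γ₀) := by group
    _ = s := by rw [key, mul_one]

end DSub

end Cfsg.Agent.Lib.Helper2
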