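import Mathlib
import Cfsg.Agent.Lib.Helper2.DSubF4

set_option autoImplicit false
set_option linter.unusedSectionVars false
set_option linter.style.haveILetI false

/-!
# Dickson's subgroup theorem: moving a point of the subfield case to `∞`
-/

namespace Cfsg.Agent.Lib.Helper2

namespace DSub

open Matrix OnePoint MulAction
open scoped MatrixGroups

variable {L : Type*} [Field L] [DecidableEq L]

attribute [local instance] pglAct

variable {K : Type*} [Group K] [MulAction K (OnePoint L)] (φ : K →* PGL(Fin 2, L))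
  (δ : PGL(Fin 2, L))

/-- the embedding conjugated by `δ⁻¹` -/
def conjHom : K →* PGL(Fin 2, L) where
  toFun k := δ⁻¹ * φ k * δ
  map_one' := by rw [map_one]; group
  map_mul' a b := by rw [map_mul]; group

theorem conjHom_apply (k : K) : conjHom φ δ k = δ⁻¹ * φ k * δ := rfl

theorem conjHom_injective (hφ : Function.Injective φ) : Function.Injective (conjHom φ δ) := by
  intro a b hab
  apply hφ
  rw [conjHom_apply, conjHom_apply] at hab
  calc φ a = δ * (δ⁻¹ * φ a * δ) * δ⁻¹ := by group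
    _ = δ * (δ⁻¹ * φ b * δ) * δ⁻¹ := by rw [hab]
    _ = φ b := by group

theorem conjHom_smul (hact : ∀ (k : K) (x : OnePoint L), k • x = φ k • x) (k : K)
    (z : OnePoint L) : conjHom φ δ k • z = δ⁻¹ • (k • (δ • z)) := by
  rw [conjHom_apply, mul_smul, mul_smul, hact]

theorem conjHom_smul_eq_iff (hact : ∀ (k : K) (x : OnePoint L), k • x = φ k • x) (k : K)
    (z : OnePoint L) : conjHom φ δ k • z = z ↔ k • (δ • z) = δ • z := by
  rw [conjHom_smul φ δ hact, inv_smul_eq_iff]

theorem isPar_conjHom_iff (hφ : Function.Injective φ)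
    (hact : ∀ (k : K) (x : OnePoint L), k • x = φ k • x) (k : K) (z : OnePoint L) :
    IsPar (conjHom φ δ k) z ↔ IsPar k (δ • z) := by
  unfold IsPar
  rw [Ne, Ne, ← map_eq_one_iff (conjHom φ δ) (conjHom_injective φ δ hφ),
    conjHom_smul_eq_iff φ δ hact]
  constructor
  · rintro ⟨h1, h2, h3⟩
    refine ⟨h1, h2, fun y hy => ?_⟩
    have := h3 (δ⁻¹ • y) (by rw [conjHom_smul_eq_iff φ δ hact, smul_inv_smul]; exact hy)
    rw [← this, smul_inv_smul]
  · rintro ⟨h1, h2, h3⟩
    refine ⟨h1, h2, fun y hy => ?_⟩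
    rw [conjHom_smul_eq_iff φ δ hact] at hy
    exact smul_left_cancel δ (h3 _ hy)

theorem card_range_conjHom (hφ : Function.Injective φ) :
    Nat.card (conjHom φ δ).range = Nat.card K :=
  (Nat.card_congr (MonoidHom.ofInjective (conjHom_injective φ δ hφ)).toEquiv).symm

theorem orbit_range_conjHom (hact : ∀ (k : K) (x : OnePoint L), k • x = φ k • x) :
    orbit (conjHom φ δ).range (∞ : OnePoint L) =
      (fun w => δ⁻¹ • w) '' (orbit K (δ • (∞ : OnePoint L))) := by
  ext z
  constructor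
  · rintro ⟨⟨s, k, rfl⟩, rfl⟩
    refine ⟨k • (δ • (∞ : OnePoint L)), mem_orbit _ _, ?_⟩
    exact (conjHom_smul φ δ hact k _).symm
  · rintro ⟨w, ⟨k, rfl⟩, rfl⟩
    refine ⟨⟨conjHom φ δ k, k, rfl⟩, ?_⟩
    exact conjHom_smul φ δ hact k _

theorem card_orbit_range_conjHom (hact : ∀ (k : K) (x : OnePoint L), k • x = φ k • x) :
    Nat.card (orbit (conjHom φ δ).range (∞ : OnePoint L)) =
      Nat.card (orbit K (δ • (∞ : OnePoint L))) := by
  rw [Nat.card_coe_set_eq, Nat.card_coe_set_eq, orbit_range_conjHom φ δ hact,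
    Set.ncard_image_of_injective _ (MulAction.injective δ⁻¹)]

theorem mem_orbit_range_conjHom (hact : ∀ (k : K) (x : OnePoint L), k • x = φ k • x)
    (y : OnePoint L) (hy : δ • y ∈ orbit K (δ • (∞ : OnePoint L))) :
    y ∈ orbit (conjHom φ δ).range (∞ : OnePoint L) := by
  rw [orbit_range_conjHom φ δ hact]
  exact ⟨δ • y, hy, inv_smul_smul _ _⟩

theorem card_stabilizer_range_conjHom (hφ : Function.Injective φ)
    (hact : ∀ (k : K) (x : OnePoint L), k • x = φ k • x) :
    Nat.card (stabilizer (conjHom φ δ).range (∞ : OnePoint L)) =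
      Nat.card (stabilizer K (δ • (∞ : OnePoint L))) := by
  symm
  apply Nat.card_congr
  refine Equiv.ofBijective (fun k => ⟨⟨conjHom φ δ k.1, k.1, rfl⟩, ?_⟩) ⟨?_, ?_⟩
  · rw [mem_stabilizer_iff]
    show conjHom φ δ k.1 • (∞ : OnePoint L) = ∞
    rw [conjHom_smul_eq_iff φ δ hact]
    exact mem_stabilizer_iff.mp k.2
  · intro a b hab
    apply Subtype.ext
    apply conjHom_injective φ δ hφ
    have := congrArg (fun z : stabilizer (conjHom φ δ).range (∞ : OnePoint L) =>
      ((z : (conjHom φ δ).range) : PGL(Fin 2, L))) hab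
    exact this
  · rintro ⟨⟨s, k, rfl⟩, hs⟩
    refine ⟨⟨k, ?_⟩, rfl⟩
    rw [mem_stabilizer_iff] at hs ⊢
    have hs' : conjHom φ δ k • (∞ : OnePoint L) = ∞ := hs
    rwa [conjHom_smul_eq_iff φ δ hact] at hs'

theorem card_US_range_conjHom [Finite K] [IsAlgClosed L] (hφ : Function.Injective φ)
    (hact : ∀ (k : K) (x : OnePoint L), k • x = φ k • x) :
    Nat.card (US (conjHom φ δ).range) =
      Nat.card (Q (mob_of_hom φ hφ hact) (δ • (∞ : OnePoint L))) := by
  symm
  apply Nat.card_congr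
  have key : ∀ k : K, k ∈ Q (mob_of_hom φ hφ hact) (δ • (∞ : OnePoint L)) ↔
      conjHom φ δ k ∈ US (conjHom φ δ).range := by
    intro k
    rw [mem_Q, mem_US, ← isPar_conjHom_iff φ δ hφ hact, isPar_infty_iff]
    constructor
    · rintro (rfl | ⟨h1, h2, h3⟩)
      · rw [map_one]
        exact ⟨Subgroup.one_mem _, one_smul _ _, affA_one⟩
      · exact ⟨⟨k, rfl⟩, h2, h3⟩
    · rintro ⟨-, h2, h3⟩
      by_cases h1 : conjHom φ δ k = 1
      · left
        exact (map_eq_one_iff _ (conjHom_injective φ δ hφ)).mp h1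
      · right
        exact ⟨h1, h2, h3⟩
  refine Equiv.ofBijective (fun k => ⟨conjHom φ δ k.1, (key k.1).mp k.2⟩) ⟨?_, ?_⟩
  · intro a b hab
    apply Subtype.ext
    apply conjHom_injective φ δ hφ
    exact congrArg Subtype.val hab
  · rintro ⟨s, hs⟩
    obtain ⟨k, rfl⟩ := hs.1
    exact ⟨⟨k, (key k).mpr hs⟩, rfl⟩

end DSub

end Cfsg.Agent.Lib.Helper2
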