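import Mathlib
import Cfsg.Agent.Lib.Helper2.DSubF5
import Cfsg.Agent.Lib.Helper1.SLn
import Cfsg.Agent.Lib.Helper1.SLCard
import Cfsg.Agent.Lib.Helper1.SL2Torus

set_option autoImplicit false
set_option linter.unusedSectionVars false
set_option linter.style.haveILetI false

/-!
# Dickson's subgroup theorem: identifying subgroups of `PGL₂` of a finite field by their order
-/

namespace Cfsg.Agent.Lib.Helper2

namespace DSub

open Matrix
open scoped MatrixGroups

/-- field extension is injective on `PGL₂` -/
theorem pgl_map_injective {K₀ L : Type*} [Field K₀] [Field L] (f : K₀ →+* L) :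
    Function.Injective (ProjGenLinGroup.map (n := Fin 2) f) := by
  rw [injective_iff_map_eq_one]
  intro γ hγ
  induction γ using ProjGenLinGroup.induction_on with | mk g =>
  rw [ProjGenLinGroup.map_mk, ProjGenLinGroup.mk_eq_one,
    GeneralLinearGroup.center_eq_range_scalar] at hγ
  obtain ⟨u, hu⟩ := hγ
  have hent : ∀ i j : Fin 2, f (g i j) = (Matrix.scalar (Fin 2) (u : L)) i j := by
    intro i j
    have := congrArg (fun m : GL (Fin 2) L => (m : Matrix (Fin 2) (Fin 2) L) i j) hu
    simp only [GeneralLinearGroup.coe_scalar] at this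
    rw [this]
    rfl
  have h01 : g 0 1 = 0 := by
    have := hent 0 1
    simp at this
    exact this
  have h10 : g 1 0 = 0 := by
    have := hent 1 0
    simp at this
    exact this
  have h11 : g 1 1 = g 0 0 := by
    have a := hent 0 0
    have b := hent 1 1
    simp at a b
    exact f.injective (b.trans a.symm)
  have h00 : g 0 0 ≠ 0 := by
    intro h
    have := g.det_ne_zero
    rw [Matrix.det_fin_two] at this
    apply this
    show g 0 0 * g 1 1 - g 0 1 * g 1 0 = 0
    rw [h, h01]; ring
  rw [ProjGenLinGroup.mk_eq_one, GeneralLinearGroup.center_eq_range_scalar]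
  refine ⟨Units.mk0 (g 0 0) h00, ?_⟩
  apply Units.ext
  rw [GeneralLinearGroup.coe_scalar]
  ext i j
  fin_cases i <;> fin_cases j <;> simp [h01, h10, h11]

section ident

variable {K₀ : Type*} [Field K₀] [Fintype K₀]

theorem transvection_sq (h2 : (2 : K₀) ≠ 0) {i j : Fin 2} (hij : i ≠ j) (c : K₀) :
    SpecialLinearGroup.transvection hij c =
      SpecialLinearGroup.transvection hij (c / 2) * SpecialLinearGroup.transvection hij (c / 2) := by
  have key : Matrix.transvection i j c =
      Matrix.transvection i j (c / 2) * Matrix.transvection i j (c / 2) := by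
    rw [Matrix.transvection_mul_transvection_same i j hij]
    congr 1
    field_simp
    ring
  apply Matrix.SpecialLinearGroup.ext
  intro a b
  exact congrFun (congrFun key a) b

theorem card_PSL_two_ge : Nat.card (SpecialLinearGroup (Fin 2) K₀) ≤
    2 * Nat.card (ProjectiveSpecialLinearGroup (Fin 2) K₀) := by
  have h1 := Subgroup.card_eq_card_quotient_mul_card_subgroup
    (Subgroup.center (SpecialLinearGroup (Fin 2) K₀))
  have h2 := Cfsg.Agent.Lib.Helper1.card_center_SL_field (F := K₀) 2 (by norm_num)
  have h3 : Nat.gcd 2 (Fintype.card K₀ - 1) ≤ 2 := Nat.gcd_le_left _ (by norm_num)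
  rw [h1, h2]
  have : Nat.card (SpecialLinearGroup (Fin 2) K₀ ⧸ Subgroup.center (SpecialLinearGroup (Fin 2) K₀)) =
      Nat.card (ProjectiveSpecialLinearGroup (Fin 2) K₀) := rfl
  rw [this]
  nlinarith

/-- a subgroup of `PGL₂(K₀)` of full order or of index two -/
theorem iso_PGL_or_PSL (T₀ : Subgroup (PGL(Fin 2, K₀)))
    (h : Nat.card T₀ = Nat.card (PGL(Fin 2, K₀)) ∨
      (2 * Nat.card T₀ = Nat.card (PGL(Fin 2, K₀)) ∧ (2 : K₀) ≠ 0)) :
    Nonempty (T₀ ≃* PGL(Fin 2, K₀)) ∨
      Nonempty (T₀ ≃* ProjectiveSpecialLinearGroup (Fin 2) K₀) := by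
  haveI : Finite (PGL(Fin 2, K₀)) := by
    unfold ProjGenLinGroup
    infer_instance
  rcases h with h | ⟨h, h2⟩
  · left
    have : T₀ = ⊤ := Subgroup.card_eq_iff_eq_top T₀ |>.mp h
    rw [this]
    exact ⟨Subgroup.topEquiv⟩
  · right
    have hidx : T₀.index = 2 := by
      have h1 := Subgroup.index_mul_card T₀
      rw [← h] at h1
      have hpos : 0 < Nat.card T₀ := Nat.card_pos
      have : T₀.index * Nat.card T₀ = 2 * Nat.card T₀ := h1
      exact Nat.eq_of_mul_eq_mul_right hpos this
    -- the image of `SL₂` lies in `T₀`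
    have hW : T₀.comap (SpecialLinearGroup.toPGL (n := Fin 2) (R := K₀)) = ⊤ := by
      apply Cfsg.Agent.Lib.Helper1.eq_top_of_transvection_mem
      intro i j hij c
      rw [Subgroup.mem_comap, transvection_sq h2 hij c, map_mul]
      exact Subgroup.mul_self_mem_of_index_two hidx _
    have hR : (ProjectiveSpecialLinearGroup.toPGL (n := Fin 2) (R := K₀)).range ≤ T₀ := by
      rintro _ ⟨x, rfl⟩
      obtain ⟨g, rfl⟩ := QuotientGroup.mk_surjective x
      have : g ∈ T₀.comap (SpecialLinearGroup.toPGL (n := Fin 2) (R := K₀)) := by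
        rw [hW]; exact Subgroup.mem_top _
      rw [Subgroup.mem_comap] at this
      exact this
    have hinj := ProjectiveSpecialLinearGroup.toPGL_injective (n := Fin 2) (R := K₀)
    have hRcard : Nat.card (ProjectiveSpecialLinearGroup.toPGL (n := Fin 2) (R := K₀)).range =
        Nat.card (ProjectiveSpecialLinearGroup (Fin 2) K₀) :=
      (Nat.card_congr (MonoidHom.ofInjective hinj).toEquiv).symm
    have hReq : (ProjectiveSpecialLinearGroup.toPGL (n := Fin 2) (R := K₀)).range = T₀ := by
      apply Subgroup.eq_of_le_of_card_ge hR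
      rw [hRcard]
      have h3 := card_PSL_two_ge (K₀ := K₀)
      have h4 := Cfsg.Agent.Lib.Helper1.card_PGL_eq_card_SL (n := Fin 2) (F := K₀)
      omega
    rw [← hReq]
    exact ⟨(MonoidHom.ofInjective hinj).symm⟩

end ident

end DSub

end Cfsg.Agent.Lib.Helper2
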