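import Mathlib
import Cfsg.Agent.Lib.Helper2.DSubF6
import Cfsg.Agent.Lib.Helper2.DSub3

set_option autoImplicit false
set_option linter.unusedSectionVars false
set_option linter.style.haveILetI false

/-!
# Dickson's subgroup theorem: the subfield case
-/

namespace Cfsg.Agent.Lib.Helper2

namespace DSub

open Matrix OnePoint MulAction
open scoped MatrixGroups

variable {L : Type*} [Field L] [DecidableEq L]

attribute [local instance] pglAct

variable {K : Type*} [Group K] [MulAction K (OnePoint L)] (φ : K →* PGL(Fin 2, L))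

/-- the subfield case: a group with a point whose orbit has `q₀ + 1` elements and a stabilizer
of order `q₀ k`, `k = q₀ - 1` or `2 k = q₀ - 1`, is `PGL₂` or `PSL₂` of a field of order `q₀` -/
theorem subfield_case [IsAlgClosed L] [Finite K] (hφ : Function.Injective φ)
    (hact : ∀ (k : K) (x : OnePoint L), k • x = φ k • x) (x : OnePoint L) (k : ℕ)
    (hq : 3 ≤ Nat.card (Q (mob_of_hom φ hφ hact) x))
    (hO : Nat.card (orbit K x) = Nat.card (Q (mob_of_hom φ hφ hact) x) + 1)
    (hst : Nat.card (stabilizer K x) = Nat.card (Q (mob_of_hom φ hφ hact) x) * k)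
    (hk : k = Nat.card (Q (mob_of_hom φ hφ hact) x) - 1 ∨
      2 * k = Nat.card (Q (mob_of_hom φ hφ hact) x) - 1) :
    ∃ K₀ : Subfield L, Nat.card K₀ = Nat.card (Q (mob_of_hom φ hφ hact) x) ∧
      (Nonempty (K ≃* PGL(Fin 2, K₀)) ∨
        Nonempty (K ≃* ProjectiveSpecialLinearGroup (Fin 2) K₀)) := by
  classical
  -- two more points of the orbit
  have hfin : (orbit K x).Finite := Set.finite_range _
  have hcard : (orbit K x).ncard = Nat.card (Q (mob_of_hom φ hφ hact) x) + 1 := by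
    rw [← Nat.card_coe_set_eq]; exact hO
  have hx : x ∈ orbit K x := mem_orbit_self x
  have h2 : 1 < ((orbit K x) \ {x}).ncard := by
    rw [Set.ncard_sdiff_singleton_of_mem hx, hcard]
    omega
  obtain ⟨y, y', hy, hy', hyy'⟩ := (Set.one_lt_ncard_iff (hfin.subset Set.sdiff_subset)).mp h2
  have hyx : x ≠ y := fun h => hy.2 (by rw [h]; rfl)
  have hy'x : x ≠ y' := fun h => hy'.2 (by rw [h]; rfl)
  obtain ⟨δ, rfl, h0, h1⟩ := exists_std x y y' hyx hy'x hyy'
  set q₀ := Nat.card (Q (mob_of_hom φ hφ hact) (δ • (∞ : OnePoint L))) with hq₀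
  set S : Subgroup (PGL(Fin 2, L)) := (conjHom φ δ).range with hS
  haveI : Finite S := by
    rw [hS]
    exact Finite.of_surjective (conjHom φ δ).rangeRestrict (conjHom φ δ).rangeRestrict_surjective
  have hO' : Nat.card (orbit S (∞ : OnePoint L)) = q₀ + 1 := by
    rw [hS, card_orbit_range_conjHom φ δ hact]; exact hO
  have h0' : ((0 : L) : OnePoint L) ∈ orbit S (∞ : OnePoint L) := by
    apply mem_orbit_range_conjHom φ δ hact
    rw [h0]; exact hy.1
  have h1' : ((1 : L) : OnePoint L) ∈ orbit S (∞ : OnePoint L) := by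
    apply mem_orbit_range_conjHom φ δ hact
    rw [h1]; exact hy'.1
  have hU : Nat.card (US S) = q₀ := card_US_range_conjHom φ δ hφ hact
  have hst' : Nat.card (stabilizer S (∞ : OnePoint L)) = q₀ * k := by
    rw [hS, card_stabilizer_range_conjHom φ δ hφ hact]; exact hst
  have hq2 : 2 ≤ q₀ := by omega
  have hk2 : q₀ ≤ 2 * k + 1 := by omega
  have hle := le_range_map S q₀ k hq2 hk2 hO' h0' h1' hU hst'
  obtain ⟨-, hK0⟩ := orbit_eq_K0 S q₀ k hq2 hk2 hO' h0' h1' hU hst'
  refine ⟨K0 S, hK0, ?_⟩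
  haveI : Finite ↥(K0 S) := Nat.finite_of_card_ne_zero (by rw [hK0]; omega)
  haveI : Fintype ↥(K0 S) := Fintype.ofFinite _
  have hK0' : Fintype.card ↥(K0 S) = q₀ := by rw [← Nat.card_eq_fintype_card]; exact hK0
  -- the order of `S`
  have hcardK : Nat.card K = (q₀ + 1) * (q₀ * k) := by
    rw [← hO, ← hst]
    exact (card_orbit_mul_card_stabilizer _).symm
  have hcardS : Nat.card S = (q₀ + 1) * (q₀ * k) := by
    rw [hS, card_range_conjHom φ δ hφ]; exact hcardK
  -- pull back to the subfield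
  set f : ↥(K0 S) →+* L := (K0 S).subtype with hf
  have hinj := pgl_map_injective (K₀ := ↥(K0 S)) (L := L) f
  set T₀ : Subgroup (PGL(Fin 2, ↥(K0 S))) := S.comap (ProjGenLinGroup.map (n := Fin 2) f) with hT₀
  have hmap : T₀.map (ProjGenLinGroup.map (n := Fin 2) f) = S := by
    rw [hT₀, Subgroup.map_comap_eq_self hle]
  have e1 : T₀ ≃* S := by
    have e := T₀.equivMapOfInjective (ProjGenLinGroup.map (n := Fin 2) f) hinj
    rw [hmap] at e
    exact e
  have e2 : K ≃* S := MonoidHom.ofInjective (conjHom_injective φ δ hφ)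
  have hcardT : Nat.card T₀ = (q₀ + 1) * (q₀ * k) := by
    rw [Nat.card_congr e1.toEquiv]; exact hcardS
  have hPGL : Nat.card (PGL(Fin 2, ↥(K0 S))) = q₀ * (q₀ ^ 2 - 1) := by
    rw [Cfsg.Agent.Lib.Helper1.card_PGL_eq_card_SL, Cfsg.Agent.Lib.Helper1.card_SL2, hK0']
  have hsq : q₀ ^ 2 - 1 = (q₀ + 1) * (q₀ - 1) := by
    obtain ⟨m, hm⟩ : ∃ m, q₀ = m + 1 := ⟨q₀ - 1, by omega⟩
    rw [hm, Nat.add_sub_cancel]
    have : (m + 1) ^ 2 = (m + 1 + 1) * m + 1 := by ring
    rw [this, Nat.add_sub_cancel]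
  have key : Nonempty (T₀ ≃* PGL(Fin 2, ↥(K0 S))) ∨
      Nonempty (T₀ ≃* ProjectiveSpecialLinearGroup (Fin 2) ↥(K0 S)) := by
    apply iso_PGL_or_PSL
    rcases hk with hk | hk
    · left
      rw [hcardT, hPGL, hsq, hk]; ring
    · right
      constructor
      · rw [hcardT, hPGL, hsq, ← hk]; ring
      · intro h20
        have hch : ringChar ↥(K0 S) = 2 :=
          CharP.ringChar_of_prime_eq_zero Nat.prime_two (by exact_mod_cast h20)
        have := FiniteField.even_card_of_char_two hch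
        rw [hK0'] at this
        omega
  rcases key with ⟨⟨e⟩⟩ | ⟨⟨e⟩⟩
  · exact Or.inl ⟨(e2.trans e1.symm).trans e⟩
  · exact Or.inr ⟨(e2.trans e1.symm).trans e⟩

end DSub

end Cfsg.Agent.Lib.Helper2
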