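import Mathlib
import Cfsg.Agent.Lib.Helper5.SL2Torus
import Cfsg.Agent.Lib.Helper5.SL2Class
import Cfsg.Agent.Lib.Helper5.SL2Roots

set_option autoImplicit false
set_option linter.unusedSectionVars false
set_option linter.style.haveILetI false

/-!
# Dickson's subgroup theorem: element orders in `PSL₂(q)`
-/

namespace Cfsg.Agent.Lib.Helper2

namespace DSub

open Matrix

variable {F : Type*} [Field F] [Fintype F]

theorem gcd_two_of_even (h2 : (2 : F) = 0) : Nat.gcd 2 (Fintype.card F - 1) = 1 := by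
  have hch : ringChar F = 2 :=
    CharP.ringChar_of_prime_eq_zero Nat.prime_two (by exact_mod_cast h2)
  have := FiniteField.even_card_of_char_two hch
  have hq : 1 < Fintype.card F := Fintype.one_lt_card
  have hodd : (Fintype.card F - 1) % 2 = 1 := by omega
  rw [Nat.gcd_rec, hodd]
  rfl

theorem gcd_two_of_odd (h2 : (2 : F) ≠ 0) : Nat.gcd 2 (Fintype.card F - 1) = 2 ∧
    Fintype.card F % 2 = 1 := by
  have hch : ringChar F ≠ 2 := by
    intro h
    apply h2
    have := ringChar.spec F 2
    rw [h] at this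
    have h3 := this.mpr dvd_rfl
    exact_mod_cast h3
  have h1 := FiniteField.odd_card_of_char_ne_two hch
  have hq : 1 < Fintype.card F := Fintype.one_lt_card
  refine ⟨?_, h1⟩
  have hev : (Fintype.card F - 1) % 2 = 0 := by omega
  rw [Nat.gcd_rec, hev]
  rfl

/-- the order of an element of `PSL₂(q)` divides `p`, `(q + 1) / d` or `(q - 1) / d` -/
theorem psl_pow_eq_one (p : ℕ) [Fact p.Prime] [CharP F p]
    (h : ProjectiveSpecialLinearGroup (Fin 2) F) :
    h ^ p = 1 ∨ h ^ ((Fintype.card F + 1) / Nat.gcd 2 (Fintype.card F - 1)) = 1 ∨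
      h ^ ((Fintype.card F - 1) / Nat.gcd 2 (Fintype.card F - 1)) = 1 := by
  classical
  obtain ⟨g, rfl⟩ := QuotientGroup.mk_surjective h
  by_cases ht : (g : Matrix (Fin 2) (Fin 2) F).trace ^ 2 = 4
  · left
    exact Cfsg.Agent.Lib.Helper5.mk_pow_char_eq_one p g ht
  right
  have hq : 1 < Fintype.card F := Fintype.one_lt_card
  have hC := Cfsg.Agent.Lib.Helper5.card_centralizer_generic g ht
  have hpow := Cfsg.Agent.Lib.Helper5.pow_card_centralizer_eq_one g
  have key : g ^ (Fintype.card F + 1) = 1 ∨ g ^ (Fintype.card F - 1) = 1 := by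
    rcases Cfsg.Agent.Lib.Helper5.rootCount_eq_zero_or_two _ ht with hr | hr
    · left
      rw [hr, add_zero] at hC
      rw [← hC]; exact hpow
    · right
      rw [hr] at hC
      have : Nat.card (Subgroup.centralizer ({g} : Set (SpecialLinearGroup (Fin 2) F))) =
          Fintype.card F - 1 := by omega
      rw [← this]; exact hpow
  by_cases h2 : (2 : F) = 0
  · rw [gcd_two_of_even h2, Nat.div_one, Nat.div_one,
      Cfsg.Agent.Lib.Helper5.mk_pow_eq_one_iff_even h2,
      Cfsg.Agent.Lib.Helper5.mk_pow_eq_one_iff_even h2]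
    exact key
  · obtain ⟨hd, hodd⟩ := gcd_two_of_odd h2
    rw [hd, Cfsg.Agent.Lib.Helper5.mk_pow_eq_one_iff_odd h2,
      Cfsg.Agent.Lib.Helper5.mk_pow_eq_one_iff_odd h2]
    have e1 : 2 * ((Fintype.card F + 1) / 2) = Fintype.card F + 1 := by omega
    have e2 : 2 * ((Fintype.card F - 1) / 2) = Fintype.card F - 1 := by omega
    rw [e1, e2]
    exact key

end DSub

end Cfsg.Agent.Lib.Helper2
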