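import Mathlib
import Cfsg.Agent.Lib.Helper2.DSub1

set_option autoImplicit false
set_option linter.unusedSectionVars false
set_option linter.style.haveILetI false

/-!
# Dickson's subgroup theorem: the parabolic subgroups are Sylow subgroups
-/

namespace Cfsg.Agent.Lib.Helper2

namespace DSub

open MulAction

variable {H X : Type*} [Group H] [MulAction H X] (M : Mob H X) (p : ℕ) [hp : Fact p.Prime]

theorem isPGroup_Q (hp1 : ∀ (g : H) (x : X), IsPar g x → g ^ p = 1) (x : X) :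
    IsPGroup p (Q M x) := by
  rintro ⟨g, hg⟩
  refine ⟨1, ?_⟩
  apply Subtype.ext
  rw [pow_one]
  show g ^ p = 1
  rcases hg with rfl | hg
  · exact one_pow _
  · exact hp1 g x hg

/-- an element commuting with a parabolic element at `x` fixes `x` -/
theorem smul_eq_of_commute_isPar {z u : H} {x : X} (hz : IsPar z x) (hc : u * z = z * u) :
    u • x = x := by
  apply hz.2.2
  rw [← mul_smul, ← hc, mul_smul, hz.2.1]

theorem le_Q_of_isPGroup [Finite H]
    (hp2 : ∀ (g : H) (k : ℕ), g ^ (p ^ k) = 1 → g ≠ 1 → ∃ x : X, IsPar g x)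
    (P : Subgroup H) (hP : IsPGroup p P) (x : X) (g₀ : H) (hg₀ : g₀ ∈ P) (hpar : IsPar g₀ x) :
    P ≤ Q M x := by
  haveI : Nontrivial ↥P := ⟨⟨⟨g₀, hg₀⟩, 1, fun h => hpar.1 (congrArg Subtype.val h)⟩⟩
  haveI := hP.center_nontrivial
  obtain ⟨⟨z, hz⟩, hz1⟩ := exists_ne (1 : Subgroup.center ↥P)
  have hz1' : (z : H) ≠ 1 := by
    intro h
    apply hz1
    apply Subtype.ext
    apply Subtype.ext
    exact h
  have hcomm : ∀ u : H, u ∈ P → u * (z : H) = (z : H) * u := by
    intro u hu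
    have := Subgroup.mem_center_iff.mp hz ⟨u, hu⟩
    exact congrArg Subtype.val this
  have hpow : ∀ u : H, u ∈ P → ∃ k : ℕ, u ^ (p ^ k) = 1 := by
    intro u hu
    obtain ⟨k, hk⟩ := hP ⟨u, hu⟩
    exact ⟨k, congrArg Subtype.val hk⟩
  obtain ⟨k, hk⟩ := hpow z z.2
  obtain ⟨w, hw⟩ := hp2 z k hk hz1'
  have hwx : w = x := by
    apply hpar.2.2
    exact smul_eq_of_commute_isPar hw (hcomm g₀ hg₀)
  rw [hwx] at hw
  intro u hu
  rw [mem_Q]
  by_cases hu1 : u = 1
  · exact Or.inl hu1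
  · right
    obtain ⟨k', hk'⟩ := hpow u hu
    obtain ⟨w', hw'⟩ := hp2 u k' hk' hu1
    have hux : u • x = x := smul_eq_of_commute_isPar hw (hcomm u hu)
    have : x = w' := hw'.2.2 x hux
    rw [this]
    exact hw'

/-- a nontrivial parabolic subgroup is a Sylow `p`-subgroup -/
theorem exists_sylow_eq_Q [Finite H] (hp1 : ∀ (g : H) (x : X), IsPar g x → g ^ p = 1)
    (hp2 : ∀ (g : H) (k : ℕ), g ^ (p ^ k) = 1 → g ≠ 1 → ∃ x : X, IsPar g x)
    (x : X) (g₀ : H) (hpar : IsPar g₀ x) :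
    ∃ P : Sylow p H, (P : Subgroup H) = Q M x := by
  obtain ⟨P, hP⟩ := (isPGroup_Q M p hp1 x).exists_le_sylow
  refine ⟨P, le_antisymm ?_ hP⟩
  exact le_Q_of_isPGroup M p hp2 P P.2 x g₀ (hP (Or.inr hpar)) hpar

theorem stabilizer_le_normalizer_Q (x : X) :
    stabilizer H x ≤ Subgroup.normalizer ((Q M x : Subgroup H) : Set H) := by
  intro k hk
  rw [mem_stabilizer_iff] at hk
  rw [Subgroup.mem_normalizer_iff]
  intro g
  have := conj_mem_Q_iff M x g k
  rw [hk] at this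
  exact this.symm

end DSub

end Cfsg.Agent.Lib.Helper2
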