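import Mathlib
import Cfsg.Agent.Lib.Helper2.DSubF7
import Cfsg.Agent.Lib.Helper2.DSubS1
import Cfsg.Agent.Lib.Helper2.DSubP1
import Cfsg.Agent.Lib.Helper5.PSL2Aut4

set_option autoImplicit false
set_option linter.unusedSectionVars false
set_option linter.style.haveILetI false
set_option warn.classDefReducibility false

/-!
# Dickson's subgroup theorem: `PSL₂(q)` acting on the projective line over an algebraically
closed field
-/

namespace Cfsg.Agent.Lib.Helper2

namespace DSub

open Matrix OnePoint MulAction
open scoped MatrixGroups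

variable {F : Type*} [Field F] {L : Type*} [Field L] [DecidableEq L] [Algebra F L]

attribute [local instance] pglAct

/-- the embedding of `PSL₂(F)` into `PGL₂(L)` -/
noncomputable def rho : ProjectiveSpecialLinearGroup (Fin 2) F →* PGL(Fin 2, L) :=
  (ProjGenLinGroup.map (n := Fin 2) (algebraMap F L)).comp
    (ProjectiveSpecialLinearGroup.toPGL (n := Fin 2) (R := F))

theorem rho_injective :
    Function.Injective (rho : ProjectiveSpecialLinearGroup (Fin 2) F →* PGL(Fin 2, L)) :=
  (pgl_map_injective (algebraMap F L)).comp ProjectiveSpecialLinearGroup.toPGL_injective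

/-- the action of `PSL₂(F)` on the projective line over `L` -/
noncomputable def pslAct : MulAction (ProjectiveSpecialLinearGroup (Fin 2) F) (OnePoint L) :=
  MulAction.compHom (OnePoint L) (rho : ProjectiveSpecialLinearGroup (Fin 2) F →* PGL(Fin 2, L))

attribute [local instance] pslAct

theorem psl_smul (g : ProjectiveSpecialLinearGroup (Fin 2) F) (x : OnePoint L) :
    g • x = (rho g : PGL(Fin 2, L)) • x := rfl

variable [Finite F] [IsAlgClosed L]

theorem finite_psl : Finite (ProjectiveSpecialLinearGroup (Fin 2) F) := by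
  unfold ProjectiveSpecialLinearGroup
  infer_instance

attribute [local instance] finite_psl

/-- the Möbius structure of `PSL₂(F)` -/
theorem mobG : Mob (ProjectiveSpecialLinearGroup (Fin 2) F) (OnePoint L) :=
  mob_of_hom rho rho_injective psl_smul

variable (p : ℕ) [hp : Fact p.Prime] [CharP L p]

theorem psl_pow_char_of_isPar (g : ProjectiveSpecialLinearGroup (Fin 2) F) (x : OnePoint L)
    (hg : IsPar g x) : g ^ p = 1 := by
  rw [isPar_map_iff rho rho_injective psl_smul] at hg
  apply rho_injective (F := F) (L := L)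
  rw [map_pow, map_one]
  exact pow_char_of_isPar p x _ hg

theorem psl_isPar_of_pow_eq_one (g : ProjectiveSpecialLinearGroup (Fin 2) F) (k : ℕ)
    (hk : g ^ (p ^ k) = 1) (h1 : g ≠ 1) : ∃ x : OnePoint L, IsPar g x := by
  have h1' : (rho g : PGL(Fin 2, L)) ≠ 1 := by
    intro h
    apply h1
    apply rho_injective (F := F) (L := L)
    rw [h, map_one]
  have hk' : (rho g : PGL(Fin 2, L)) ^ (p ^ k) = 1 := by
    rw [← map_pow, hk, map_one]
  obtain ⟨x, hx⟩ := isPar_of_pow_eq_one p _ k hk' h1'
  exact ⟨x, (isPar_map_iff rho rho_injective psl_smul g x).mpr hx⟩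

/-- a nontrivial parabolic subgroup of `PSL₂(F)` is a Sylow `p`-subgroup -/
theorem psl_exists_sylow (x : OnePoint L) (g₀ : ProjectiveSpecialLinearGroup (Fin 2) F)
    (hpar : IsPar g₀ x) :
    ∃ P : Sylow p (ProjectiveSpecialLinearGroup (Fin 2) F),
      (P : Subgroup (ProjectiveSpecialLinearGroup (Fin 2) F)) = Q (mobG (F := F) (L := L)) x :=
  exists_sylow_eq_Q mobG p (psl_pow_char_of_isPar p) (psl_isPar_of_pow_eq_one p) x g₀ hpar

omit [DecidableEq L] [Algebra F L] [IsAlgClosed L] [CharP L p] [Finite F] in
/-- Sylow `p`-subgroups of `PSL₂(q)` have order `q` -/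
theorem card_sylow_psl [Fintype F] [CharP F p]
    (P : Sylow p (ProjectiveSpecialLinearGroup (Fin 2) F)) :
    Nat.card P = Fintype.card F := by
  classical
  obtain ⟨n, -, hn⟩ := FiniteField.card F p
  have hq : 1 < Fintype.card F := Fintype.one_lt_card
  apply Nat.dvd_antisymm
  · obtain ⟨a, ha⟩ := P.2.exists_card_eq
    have h1 : Nat.card P ∣ Fintype.card F * ((Fintype.card F - 1) * (Fintype.card F + 1)) := by
      rw [← mul_assoc]
      exact (Subgroup.card_subgroup_dvd_card _).trans Cfsg.Agent.Lib.Helper5.PSL2Aut.card_PSL2_dvd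
    have hpd : p ∣ Fintype.card F := by
      rw [hn]; exact dvd_pow_self p n.ne_zero
    have hcop : Nat.Coprime (Nat.card P) ((Fintype.card F - 1) * (Fintype.card F + 1)) := by
      rw [ha]
      apply Nat.Coprime.pow_left
      rw [Nat.Prime.coprime_iff_not_dvd hp.out]
      intro hd
      rcases (Nat.Prime.dvd_mul hp.out).mp hd with h | h
      · have : p ∣ Fintype.card F - (Fintype.card F - 1) := Nat.dvd_sub hpd h
        have e : Fintype.card F - (Fintype.card F - 1) = 1 := by omega
        rw [e] at this
        exact hp.out.one_lt.ne' (Nat.dvd_one.mp this)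
      · have : p ∣ Fintype.card F + 1 - Fintype.card F := Nat.dvd_sub h hpd
        have e : Fintype.card F + 1 - Fintype.card F = 1 := by omega
        rw [e] at this
        exact hp.out.one_lt.ne' (Nat.dvd_one.mp this)
    exact hcop.dvd_of_dvd_mul_right h1
  · have hU : IsPGroup p (Cfsg.Agent.Lib.Helper5.PSL2Aut.Uplus (F := F)) :=
      Cfsg.Agent.Lib.Helper5.PSL2Aut.isPGroup_Uplus hn
    obtain ⟨P', hP'⟩ := hU.exists_le_sylow
    have h2 : Nat.card P' = Nat.card P := by
      rw [Sylow.card_eq_multiplicity, Sylow.card_eq_multiplicity]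
    rw [← Cfsg.Agent.Lib.Helper5.PSL2Aut.card_Uplus, ← h2]
    exact Subgroup.card_dvd_of_le hP'

end DSub

end Cfsg.Agent.Lib.Helper2
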