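import Mathlib
import Cfsg.Agent.Lib.Helper2.DSubP2
import Cfsg.Agent.Lib.Helper2.PSLRingEquiv

set_option autoImplicit false
set_option linter.unusedSectionVars false
set_option linter.style.haveILetI false

/-!
# Dickson's subgroup theorem: arithmetic and transport lemmas
-/

namespace Cfsg.Agent.Lib.Helper2

namespace DSub

open Matrix
open scoped MatrixGroups

/-- the arithmetic of the subfield case -/
theorem arith_subfield (p n q₀ k kG : ℕ) (hp : p.Prime) (hq₀ : 3 ≤ q₀) (hdvd : q₀ ∣ p ^ n)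
    (hk : k = q₀ - 1 ∨ 2 * k = q₀ - 1) (h1 : q₀ * k ∣ p ^ n * kG) (h2 : kG ∣ p ^ n - 1) :
    ∃ m : ℕ, q₀ ^ m = p ^ n := by
  obtain ⟨e, hen, rfl⟩ := (Nat.dvd_prime_pow hp).mp hdvd
  have he : 1 ≤ e := by
    rcases Nat.eq_zero_or_pos e with h0 | h0
    · rw [h0, pow_zero] at hq₀; omega
    · exact h0
  have hpe : 2 ≤ p ^ e := by omega
  have hkd : k ∣ p ^ e - 1 := by
    rcases hk with hk | hk
    · rw [hk]
    · exact Dvd.intro_left 2 hk
  have hk2 : p ^ e - 1 ≤ 2 * k := by omega
  have hkpos : 0 < k := by omega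
  have hcop : Nat.Coprime k (p ^ n) := by
    apply Nat.Coprime.pow_right
    rw [Nat.coprime_comm, Nat.Prime.coprime_iff_not_dvd hp]
    intro hd
    have h3 : p ∣ p ^ e - 1 := hd.trans hkd
    have h4 : p ∣ p ^ e := dvd_pow_self p (by omega)
    have h5 : p ∣ p ^ e - (p ^ e - 1) := Nat.dvd_sub h4 h3
    have e5 : p ^ e - (p ^ e - 1) = 1 := by omega
    rw [e5] at h5
    exact hp.one_lt.ne' (Nat.dvd_one.mp h5)
  have hkG : k ∣ kG := by
    have : k ∣ p ^ n * kG := (Dvd.intro_left _ rfl).trans h1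
    exact hcop.dvd_of_dvd_mul_left this
  have hkn : k ∣ p ^ n - 1 := hkG.trans h2
  have hg : k ∣ p ^ (Nat.gcd e n) - 1 := by
    rw [← Nat.pow_sub_one_gcd_pow_sub_one]
    exact Nat.dvd_gcd hkd hkn
  set g := Nat.gcd e n with hgdef
  have hge : g ∣ e := Nat.gcd_dvd_left e n
  have hgn : g ∣ n := Nat.gcd_dvd_right e n
  have hgpos : 0 < g := Nat.gcd_pos_of_pos_left n he
  have hpg : 2 ≤ p ^ g := by
    calc 2 ≤ p := hp.two_le
      _ = p ^ 1 := (pow_one p).symm
      _ ≤ p ^ g := Nat.pow_le_pow_right hp.pos hgpos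
  have hkle : k ≤ p ^ g - 1 := Nat.le_of_dvd (by omega) hg
  have hgeq : g = e := by
    by_contra hne
    obtain ⟨t, ht⟩ := hge
    have ht2 : 2 ≤ t := by
      by_contra hlt
      have h01 : t = 0 ∨ t = 1 := by omega
      rcases h01 with rfl | rfl
      · rw [mul_zero] at ht; omega
      · rw [mul_one] at ht; exact hne ht.symm
    have h6 : p ^ (g * 2) ≤ p ^ e := by
      rw [ht]
      exact Nat.pow_le_pow_right hp.pos (Nat.mul_le_mul_left g ht2)
    rw [pow_mul, pow_two] at h6
    have h7 : p ^ e ≤ 2 * k + 1 := by omega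
    have h8 : k + 1 ≤ p ^ g := by omega
    have h9 : 2 * p ^ g ≤ p ^ g * p ^ g := Nat.mul_le_mul_right (p ^ g) hpg
    omega
  rw [hgeq] at hgn
  obtain ⟨m, hm⟩ := hgn
  exact ⟨m, by rw [← pow_mul, ← hm]⟩

/-- a ring isomorphism induces an isomorphism of projective general linear groups -/
theorem pglEquiv {n : Type*} [Fintype n] [DecidableEq n] {R S : Type*} [CommRing R] [CommRing S]
    (e : R ≃+* S) : Nonempty (PGL(n, R) ≃* PGL(n, S)) := by
  refine ⟨MonoidHom.toMulEquiv (ProjGenLinGroup.map (n := n) e.toRingHom)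
    (ProjGenLinGroup.map (n := n) e.symm.toRingHom) ?_ ?_⟩
  · rw [← ProjGenLinGroup.map_comp]
    have : e.symm.toRingHom.comp e.toRingHom = RingHom.id R := by
      ext x; simp
    rw [this, ProjGenLinGroup.map_id]
  · rw [← ProjGenLinGroup.map_comp]
    have : e.toRingHom.comp e.symm.toRingHom = RingHom.id S := by
      ext x; simp
    rw [this, ProjGenLinGroup.map_id]

/-- a finite field of characteristic `p` can be replaced by a field in `Type` -/
theorem exists_small_field (p : ℕ) [Fact p.Prime] {K₀ : Type*} [Field K₀] [Finite K₀]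
    [CharP K₀ p] :
    ∃ (K : Type) (_ : Field K) (_ : Fintype K), Fintype.card K = Nat.card K₀ ∧
      Nonempty (K₀ ≃+* K) := by
  classical
  haveI : Fintype K₀ := Fintype.ofFinite K₀
  obtain ⟨n, -, hn⟩ := FiniteField.card K₀ p
  haveI : Fintype (GaloisField p n) := Fintype.ofFinite _
  refine ⟨GaloisField p n, inferInstance, inferInstance, ?_, ?_⟩
  · rw [← Nat.card_eq_fintype_card, GaloisField.card p n n.ne_zero, Nat.card_eq_fintype_card, hn]
  · refine ⟨FiniteField.ringEquivOfCardEq ?_⟩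
    rw [hn, ← Nat.card_eq_fintype_card, GaloisField.card p n n.ne_zero]

end DSub

end Cfsg.Agent.Lib.Helper2
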