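import Mathlib
import Cfsg.Agent.Lib.Helper2.DSubP3
import Cfsg.Agent.Lib.Helper2.DSub9

set_option autoImplicit false
set_option linter.unusedSectionVars false
set_option linter.style.haveILetI false

/-!
# Dickson's subgroup theorem: subgroups of `PSL₂(q)`
-/

namespace Cfsg.Agent.Lib.Helper2

namespace DSub

open Matrix OnePoint MulAction
open scoped MatrixGroups

variable {F : Type*} [Field F] {L : Type*} [Field L] [DecidableEq L] [Algebra F L]

attribute [local instance] pglAct pslAct finite_psl

variable (H : Subgroup (ProjectiveSpecialLinearGroup (Fin 2) F))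

/-- the embedding of a subgroup of `PSL₂(F)` into `PGL₂(L)` -/
noncomputable def phiH : ↥H →* PGL(Fin 2, L) := (rho (F := F) (L := L)).comp H.subtype

theorem phiH_injective : Function.Injective (phiH (L := L) H) :=
  (rho_injective (F := F) (L := L)).comp H.subtype_injective

theorem smulH (h : ↥H) (x : OnePoint L) : h • x = (phiH (L := L) H h) • x := rfl

theorem isPar_subtype_iff (h : ↥H) (x : OnePoint L) :
    IsPar h x ↔ IsPar (h : ProjectiveSpecialLinearGroup (Fin 2) F) x := by
  unfold IsPar
  rw [Ne, Ne, ← OneMemClass.coe_eq_one]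
  rfl

variable [IsAlgClosed L]

theorem mobH [Finite F] : Mob ↥H (OnePoint L) :=
  mob_of_hom (phiH H) (phiH_injective H) (smulH H)

variable [Fintype F]

/-- element orders of nonparabolic elements -/
theorem orderOf_dvd_of_not_isPar (p : ℕ) [hp : Fact p.Prime] [CharP L p] [CharP F p]
    (g : ProjectiveSpecialLinearGroup (Fin 2) F) (x : OnePoint L)
    (hfix : g • x = x) (hnp : ¬ IsPar g x) :
    orderOf g ∣ (Fintype.card F + 1) / Nat.gcd 2 (Fintype.card F - 1) ∨
      orderOf g ∣ (Fintype.card F - 1) / Nat.gcd 2 (Fintype.card F - 1) := by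
  rcases psl_pow_eq_one p g with h | h | h
  · by_cases h1 : g = 1
    · left
      rw [h1, orderOf_one]
      exact one_dvd _
    · exfalso
      obtain ⟨w, hw⟩ := psl_isPar_of_pow_eq_one (L := L) p g 1 (by rwa [pow_one]) h1
      have : x = w := hw.2.2 x hfix
      rw [← this] at hw
      exact hnp hw
  · exact Or.inl (orderOf_dvd_of_pow_eq_one h)
  · exact Or.inr (orderOf_dvd_of_pow_eq_one h)

theorem card_dvd_of_cyclic (p : ℕ) [hp : Fact p.Prime] [CharP L p] [CharP F p]
    (C : Subgroup ↥H) (hC : IsCyclic C) (x : OnePoint L)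
    (hfix : ∀ c ∈ C, c • x = x) (hnp : ∀ c : ↥H, ¬ IsPar c x) :
    Nat.card C ∣ (Fintype.card F + 1) / Nat.gcd 2 (Fintype.card F - 1) ∨
      Nat.card C ∣ (Fintype.card F - 1) / Nat.gcd 2 (Fintype.card F - 1) := by
  obtain ⟨c, hc⟩ := hC.exists_generator
  have h1 : orderOf c = Nat.card C := orderOf_eq_card_of_forall_mem_zpowers hc
  have h2 : orderOf ((c : ↥H) : ProjectiveSpecialLinearGroup (Fin 2) F) = Nat.card C := by
    rw [Subgroup.orderOf_coe, Subgroup.orderOf_coe, h1]
  rw [← h2]
  apply orderOf_dvd_of_not_isPar (L := L) p _ x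
  · exact hfix c c.2
  · rw [← isPar_subtype_iff]
    exact hnp c

end DSub

end Cfsg.Agent.Lib.Helper2
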