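import Mathlib
import Cfsg.Agent.Lib.Helper2.DSubP4

set_option autoImplicit false
set_option linter.unusedSectionVars false
set_option linter.style.haveILetI false

/-!
# Dickson's subgroup theorem: subgroups of `PSL₂(q)`, main theorem
-/

namespace Cfsg.Agent.Lib.Helper2

namespace DSub

open Matrix OnePoint MulAction
open scoped MatrixGroups

variable {F : Type*} [Field F] {L : Type*} [Field L] [DecidableEq L] [Algebra F L]

attribute [local instance] pglAct pslAct finite_psl

variable (H : Subgroup (ProjectiveSpecialLinearGroup (Fin 2) F))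

variable [IsAlgClosed L] [Fintype F]

/-- the subfield case for subgroups of `PSL₂(q)`: the field has order `q₀` with `q₀ ^ m = q` -/
theorem subfield_psl (p : ℕ) [hp : Fact p.Prime] [CharP L p] [CharP F p]
    (x : OnePoint L) (k : ℕ)
    (hq : 3 ≤ Nat.card (Q (mobH (L := L) H) x))
    (hO : Nat.card (orbit ↥H x) = Nat.card (Q (mobH (L := L) H) x) + 1)
    (hst : Nat.card (stabilizer ↥H x) = Nat.card (Q (mobH (L := L) H) x) * k)
    (hk : k = Nat.card (Q (mobH (L := L) H) x) - 1 ∨
      2 * k = Nat.card (Q (mobH (L := L) H) x) - 1) :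
    ∃ (K : Type) (_ : Field K) (_ : Fintype K) (m : ℕ), Fintype.card K ^ m = Fintype.card F ∧
      (Nonempty (H ≃* Matrix.ProjectiveSpecialLinearGroup (Fin 2) K) ∨
        Nonempty (H ≃* Matrix.ProjGenLinGroup (Fin 2) K)) := by
  obtain ⟨K₀, hK₀card, hiso⟩ := subfield_case (phiH (L := L) H) (phiH_injective H) (smulH H) x k
    hq hO hst hk
  set MH := mobH (L := L) H
  set q₀ := Nat.card (Q MH x) with hq₀
  -- a parabolic element of `H` at `x`
  haveI : Nontrivial ↥(Q MH x) := by
    rw [← Finite.one_lt_card_iff_nontrivial]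
    omega
  obtain ⟨⟨g₁, hg₁⟩, hne⟩ := exists_ne (1 : ↥(Q MH x))
  have hg₁par : IsPar g₁ x := by
    rcases hg₁ with rfl | h
    · exact absurd rfl hne
    · exact h
  have hg₁' : IsPar (g₁ : ProjectiveSpecialLinearGroup (Fin 2) F) x :=
    (isPar_subtype_iff H g₁ x).mp hg₁par
  obtain ⟨P, hP⟩ := psl_exists_sylow (L := L) p x _ hg₁'
  have hQG : Nat.card (Q (mobG (F := F) (L := L)) x) = Fintype.card F := by
    rw [← hP]; exact card_sylow_psl p P
  -- divisibilities
  have hd1 : q₀ ∣ Fintype.card F := by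
    rw [← hQG, hq₀, ← Subgroup.card_map_of_injective H.subtype_injective]
    apply Subgroup.card_dvd_of_le
    rintro _ ⟨u, hu, rfl⟩
    rcases hu with rfl | hu
    · exact Or.inl rfl
    · exact Or.inr ((isPar_subtype_iff H u x).mp hu)
  have hd2 : Nat.card (stabilizer ↥H x) ∣
      Nat.card (stabilizer (ProjectiveSpecialLinearGroup (Fin 2) F) x) := by
    rw [← Subgroup.card_map_of_injective H.subtype_injective]
    apply Subgroup.card_dvd_of_le
    rintro _ ⟨u, hu, rfl⟩
    exact hu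
  obtain ⟨kG, hkG1, hkG2⟩ := index_dvd (mobG (F := F) (L := L)) x
  rw [hQG] at hkG1 hkG2
  rw [hst, hkG1] at hd2
  obtain ⟨n, -, hn⟩ := FiniteField.card F p
  rw [hn] at hd1 hd2 hkG2
  obtain ⟨m, hm⟩ := arith_subfield p n q₀ k kG hp.out hq hd1 hk hd2 hkG2
  -- transport to a small field
  haveI : Finite ↥K₀ := Nat.finite_of_card_ne_zero (by rw [hK₀card]; omega)
  haveI : CharP ↥K₀ p := (RingHom.charP_iff K₀.subtype K₀.subtype.injective p).mpr inferInstance
  obtain ⟨K, hKf, hKfin, hKcard, ⟨e⟩⟩ := exists_small_field p (K₀ := ↥K₀)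
  refine ⟨K, hKf, hKfin, m, ?_, ?_⟩
  · rw [hKcard, hK₀card, hm, hn]
  · rcases hiso with ⟨⟨f⟩⟩ | ⟨⟨f⟩⟩
    · right
      obtain ⟨e'⟩ := pglEquiv (n := Fin 2) e
      exact ⟨f.trans e'⟩
    · left
      obtain ⟨e'⟩ := PSLRingEquiv.pslEquiv (n := Fin 2) e
      exact ⟨f.trans e'⟩

end DSub

end Cfsg.Agent.Lib.Helper2
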