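import Mathlib
import Cfsg.Agent.Lib.Helper2.DSubP5

set_option autoImplicit false
set_option linter.unusedSectionVars false
set_option linter.style.haveILetI false

/-!
# Dickson's subgroup theorem: subgroups of `PSL₂(q)`, assembly
-/

namespace Cfsg.Agent.Lib.Helper2

namespace DSub

open Matrix OnePoint MulAction
open scoped MatrixGroups

variable {F : Type*} [Field F] (L : Type*) [Field L] [DecidableEq L] [Algebra F L]

attribute [local instance] pglAct pslAct finite_psl

variable [IsAlgClosed L] [Fintype F]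

/-- Dickson's theorem with an auxiliary algebraically closed field -/
theorem dickson_psl_aux (p : ℕ) [hp : Fact p.Prime] [CharP L p] [CharP F p]
    (H : Subgroup (ProjectiveSpecialLinearGroup (Fin 2) F)) :
    (∃ k : ℕ, (k ∣ (Fintype.card F + 1) / Nat.gcd 2 (Fintype.card F - 1) ∨
        k ∣ (Fintype.card F - 1) / Nat.gcd 2 (Fintype.card F - 1)) ∧
      ((IsCyclic H ∧ Nat.card H = k) ∨ Nonempty (H ≃* DihedralGroup k))) ∨
    (∃ (P : Sylow p (Matrix.ProjectiveSpecialLinearGroup (Fin 2) F))
      (K : Subgroup (Matrix.ProjectiveSpecialLinearGroup (Fin 2) F)),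
      K ≤ Subgroup.normalizer ((P : Subgroup (Matrix.ProjectiveSpecialLinearGroup (Fin 2) F)) :
        Set (Matrix.ProjectiveSpecialLinearGroup (Fin 2) F)) ∧ Nonempty (H ≃* K)) ∨
    Nonempty (H ≃* alternatingGroup (Fin 4)) ∨ Nonempty (H ≃* Equiv.Perm (Fin 4)) ∨
    Nonempty (H ≃* alternatingGroup (Fin 5)) ∨
    (∃ (K : Type) (_ : Field K) (_ : Fintype K) (m : ℕ), Fintype.card K ^ m = Fintype.card F ∧
      (Nonempty (H ≃* Matrix.ProjectiveSpecialLinearGroup (Fin 2) K) ∨
        Nonempty (H ≃* Matrix.ProjGenLinGroup (Fin 2) K))) := by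
  set MH := mobH (L := L) H with hMH
  rcases classify MH with ⟨x, hx⟩ | ⟨y, hnp, hiso⟩ | h | h | h | ⟨x, hq, hO, k, hst, hk⟩
  · -- `H` fixes a point
    by_cases hnp : ∀ g : ↥H, ¬ IsPar g x
    · left
      have hcyc := MH.cyc x hnp
      have htop : stabilizer ↥H x = ⊤ := by
        rw [eq_top_iff]
        intro h _
        exact mem_stabilizer_iff.mpr (hx h)
      have hd := card_dvd_of_cyclic (L := L) H p (stabilizer ↥H x) hcyc x
        (fun c hc => mem_stabilizer_iff.mp hc) hnp
      have hcard : Nat.card (stabilizer ↥H x) = Nat.card ↥H := by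
        rw [htop, Subgroup.card_top]
      rw [hcard] at hd
      refine ⟨Nat.card ↥H, hd, Or.inl ⟨?_, rfl⟩⟩
      rw [htop] at hcyc
      exact isCyclic_of_surjective (Subgroup.topEquiv (G := ↥H)).toMonoidHom
        (Subgroup.topEquiv (G := ↥H)).surjective
    · right; left
      push Not at hnp
      obtain ⟨g, hg⟩ := hnp
      have hg' : IsPar (g : ProjectiveSpecialLinearGroup (Fin 2) F) x :=
        (isPar_subtype_iff H g x).mp hg
      obtain ⟨P, hP⟩ := psl_exists_sylow (L := L) p x _ hg'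
      refine ⟨P, H, ?_, ⟨MulEquiv.refl _⟩⟩
      rw [hP]
      intro h hh
      apply stabilizer_le_normalizer_Q (mobG (F := F) (L := L)) x
      exact mem_stabilizer_iff.mpr (hx ⟨h, hh⟩)
  · -- dihedral
    left
    have hcyc := MH.cyc y hnp
    have hd := card_dvd_of_cyclic (L := L) H p (stabilizer ↥H y) hcyc y
      (fun c hc => mem_stabilizer_iff.mp hc) hnp
    exact ⟨_, hd, Or.inr hiso⟩
  · exact Or.inr (Or.inr (Or.inl h))
  · exact Or.inr (Or.inr (Or.inr (Or.inl h)))
  · exact Or.inr (Or.inr (Or.inr (Or.inr (Or.inl h))))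
  · exact Or.inr (Or.inr (Or.inr (Or.inr (Or.inr
      (subfield_psl (L := L) H p x k hq hO hst hk)))))

end DSub

end Cfsg.Agent.Lib.Helper2
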