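import Mathlib
import Cfsg.Agent.Lib.Helper2.DSubP6

set_option autoImplicit false
set_option linter.unusedSectionVars false
set_option linter.style.haveILetI false

/-!
# Dickson's subgroup theorem: the Borel subgroups of `PSL₂(q)` and a strong form of the theorem
-/

namespace Cfsg.Agent.Lib.Helper2

namespace DSub

open Matrix OnePoint MulAction
open scoped MatrixGroups

/-- arithmetic for the orbit of a parabolic point -/
theorem arith_orbit (q r k d : ℕ) (hq : 2 ≤ q) (hd : d = 1 ∨ d = 2) (hk : k ∣ q - 1)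
    (h : (1 + q * r) * (q * k) * d = q * (q - 1) * (q + 1)) : r = 1 ∧ k * d = q - 1 := by
  obtain ⟨s, hs⟩ := hk
  have hkpos : 0 < k := by
    rcases Nat.eq_zero_or_pos k with h0 | h0
    · rw [h0, zero_mul] at hs; omega
    · exact h0
  have hspos : 0 < s := by
    rcases Nat.eq_zero_or_pos s with h0 | h0
    · rw [h0, mul_zero] at hs; omega
    · exact h0
  have hsle : s ≤ q - 1 := by
    rw [hs]; exact Nat.le_mul_of_pos_left s hkpos
  have h1 : (q * k) * ((1 + q * r) * d) = (q * k) * (s * (q + 1)) := by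
    rw [hs] at h
    calc (q * k) * ((1 + q * r) * d) = (1 + q * r) * (q * k) * d := by ring
      _ = q * (k * s) * (q + 1) := h
      _ = (q * k) * (s * (q + 1)) := by ring
  have h2 : (1 + q * r) * d = s * (q + 1) :=
    Nat.eq_of_mul_eq_mul_left (Nat.mul_pos (by omega) hkpos) h1
  have h3 : d + q * (r * d) = s + q * s := by
    calc d + q * (r * d) = (1 + q * r) * d := by ring
      _ = s * (q + 1) := h2
      _ = s + q * s := by ring
  have hsd : s = d := by
    rcases Nat.lt_or_ge s d with hlt | hge
    · -- `s < d`, so `d = 2`, `s = 1`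
      have hd2 : d = 2 := by omega
      have hs1 : s = 1 := by omega
      rw [hd2, hs1] at h3
      have : q * (r * 2) + 1 = q := by omega
      have hle : q * (r * 2) < q := by omega
      have hr0 : r * 2 = 0 := by
        by_contra hne
        have : q * 1 ≤ q * (r * 2) := Nat.mul_le_mul_left q (by omega)
        omega
      rw [hr0] at this
      omega
    · -- `d ≤ s < q`
      obtain ⟨t, ht⟩ := Nat.exists_eq_add_of_le hge
      rw [ht] at h3
      have h4 : q * (r * d) = t + q * (d + t) := by omega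
      have h5 : q ∣ t := by
        have : q ∣ t + q * (d + t) := by rw [← h4]; exact Dvd.intro _ rfl
        exact (Nat.dvd_add_left (Dvd.intro _ rfl)).mp this
      have htlt : t < q := by omega
      have : t = 0 := Nat.eq_zero_of_dvd_of_lt h5 htlt
      omega
  rw [hsd] at h2 hs
  have hdpos : 0 < d := by omega
  have h6 : 1 + q * r = q + 1 := by
    have : d * (1 + q * r) = d * (q + 1) := by rw [mul_comm, h2]
    exact Nat.eq_of_mul_eq_mul_left hdpos this
  have h7 : q * r = q * 1 := by omega
  exact ⟨Nat.eq_of_mul_eq_mul_left (by omega) h7, hs.symm⟩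

variable {F : Type*} [Field F] {L : Type*} [Field L] [DecidableEq L] [Algebra F L]

attribute [local instance] pglAct pslAct finite_psl

variable [IsAlgClosed L] [Fintype F]

omit [DecidableEq L] [Algebra F L] [IsAlgClosed L] in
theorem card_psl_two : Nat.gcd 2 (Fintype.card F - 1) *
    Nat.card (ProjectiveSpecialLinearGroup (Fin 2) F) =
      Fintype.card F * (Fintype.card F - 1) * (Fintype.card F + 1) := by
  classical
  rw [← Cfsg.Agent.Lib.Helper5.card_SL2,
    Subgroup.card_eq_card_quotient_mul_card_subgroup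
      (Subgroup.center (SpecialLinearGroup (Fin 2) F)),
    Cfsg.Agent.Lib.Helper1.card_center_SL_field (F := F) 2 (by norm_num), mul_comm]

/-- a point with a parabolic element has an orbit of `q + 1` points and a stabilizer of order
`q (q - 1) / d` -/
theorem card_orbit_of_isPar (p : ℕ) [hp : Fact p.Prime] [CharP L p] [CharP F p]
    (x : OnePoint L) (g₀ : ProjectiveSpecialLinearGroup (Fin 2) F) (hg₀ : IsPar g₀ x) :
    Nat.card (orbit (ProjectiveSpecialLinearGroup (Fin 2) F) x) = Fintype.card F + 1 ∧
    Nat.gcd 2 (Fintype.card F - 1) *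
      Nat.card (stabilizer (ProjectiveSpecialLinearGroup (Fin 2) F) x) =
        Fintype.card F * (Fintype.card F - 1) := by
  have hq : 2 ≤ Fintype.card F := Fintype.one_lt_card
  obtain ⟨P, hP⟩ := psl_exists_sylow (L := L) p x _ hg₀
  have hQG : Nat.card (Q (mobG (F := F) (L := L)) x) = Fintype.card F := by
    rw [← hP]; exact card_sylow_psl p P
  obtain ⟨r, hr⟩ := card_orbit_modEq (mobG (F := F) (L := L)) x
  obtain ⟨k, hk1, hk2⟩ := index_dvd (mobG (F := F) (L := L)) x
  rw [hQG] at hr hk1 hk2
  have hG := card_psl_two (F := F)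
  rw [← card_orbit_mul_card_stabilizer x, hr, hk1] at hG
  have hd : Nat.gcd 2 (Fintype.card F - 1) = 1 ∨ Nat.gcd 2 (Fintype.card F - 1) = 2 := by
    have h1 : Nat.gcd 2 (Fintype.card F - 1) ∣ 2 := Nat.gcd_dvd_left _ _
    have h2 : Nat.gcd 2 (Fintype.card F - 1) ≤ 2 := Nat.le_of_dvd (by norm_num) h1
    have h3 : 0 < Nat.gcd 2 (Fintype.card F - 1) := Nat.gcd_pos_of_pos_left _ (by norm_num)
    interval_cases (Nat.gcd 2 (Fintype.card F - 1)) <;> simp
  obtain ⟨hr1, hkd⟩ := arith_orbit (Fintype.card F) r k _ hq hd hk2 (by rw [← hG]; ring)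
  constructor
  · rw [hr, hr1, mul_one, add_comm]
  · rw [hk1]
    calc Nat.gcd 2 (Fintype.card F - 1) * (Fintype.card F * k)
        = Fintype.card F * (k * Nat.gcd 2 (Fintype.card F - 1)) := by ring
      _ = Fintype.card F * (Fintype.card F - 1) := by rw [hkd]

/-- parabolic elements exist -/
theorem exists_isPar_psl (p : ℕ) [hp : Fact p.Prime] [CharP L p] [CharP F p] :
    ∃ (g : ProjectiveSpecialLinearGroup (Fin 2) F) (x : OnePoint L), IsPar g x := by
  obtain ⟨n, -, hn⟩ := FiniteField.card F p
  have hq : 2 ≤ Fintype.card F := Fintype.one_lt_card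
  have hpd : p ∣ Nat.card (ProjectiveSpecialLinearGroup (Fin 2) F) := by
    have h1 : p ∣ Nat.gcd 2 (Fintype.card F - 1) *
        Nat.card (ProjectiveSpecialLinearGroup (Fin 2) F) := by
      rw [card_psl_two, hn, mul_assoc]
      exact Dvd.dvd.mul_right (dvd_pow_self p n.ne_zero) _
    rcases (Nat.Prime.dvd_mul hp.out).mp h1 with h | h
    · exfalso
      have h2 : p ∣ Fintype.card F - 1 := h.trans (Nat.gcd_dvd_right _ _)
      have h3 : p ∣ Fintype.card F := by rw [hn]; exact dvd_pow_self p n.ne_zero
      have h4 : p ∣ Fintype.card F - (Fintype.card F - 1) := Nat.dvd_sub h3 h2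
      have e : Fintype.card F - (Fintype.card F - 1) = 1 := by omega
      rw [e] at h4
      exact hp.out.one_lt.ne' (Nat.dvd_one.mp h4)
    · exact h
  obtain ⟨g, hg⟩ := exists_prime_orderOf_dvd_card' p hpd
  have hg1 : g ≠ 1 := by
    intro h
    rw [h, orderOf_one] at hg
    exact hp.out.one_lt.ne hg
  obtain ⟨x, hx⟩ := psl_isPar_of_pow_eq_one (L := L) p g 1
    (by rw [pow_one, ← hg]; exact pow_orderOf_eq_one g) hg1
  exact ⟨g, x, hx⟩

end DSub

end Cfsg.Agent.Lib.Helper2
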