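import Mathlib
import Cfsg.Agent.Lib.Helper2.Sharp3c
import Cfsg.Agent.Lib.Helper2.DSubP7

set_option autoImplicit false
set_option linter.style.haveILetI false
set_option linter.unusedSectionVars false

/-!
# Identification of a permutation group with `PSL₂`
-/

namespace Cfsg.Agent.Lib.Helper2

namespace ZP

open MulAction Matrix Cfsg.Agent.Lib.Helper2.Sharp3
open scoped LinearAlgebra.Projectivization MatrixGroups

section coord

variable {K : Type*} [Field K] {G : Type*} [Group G] {α : Type*} [MulAction G α]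

theorem sl_smul_mk_eq (M : SpecialLinearGroup (Fin 2) K) {v v' : Fin 2 → K} (hv : v ≠ 0)
    (hv' : v' ≠ 0) (c : K) (h : c • v' = (M : Matrix (Fin 2) (Fin 2) K) *ᵥ v) :
    (SpecialLinearGroup.toPGL M : PGL(Fin 2, K)) • Projectivization.mk K v hv =
      Projectivization.mk K v' hv' :=
  smul_mk_eq (SpecialLinearGroup.toGL M) hv hv' c h

/-- every element of a group generated by the maps `x ↦ r² x + b` and `x ↦ -1/x` acts as an
element of `SL₂`. -/
theorem exists_sl_projectivity (w : α) (ι : K → α) (hι : Function.Injective ι)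
    (hιw : ∀ x, ι x ≠ w) (hcover : ∀ a, a = w ∨ ∃ x, a = ι x) (s : G)
    (hΓ : ∀ g : G, g • w = w → ∃ r b : K, r ≠ 0 ∧ ∀ x, g • ι x = ι (r * r * x + b))
    (htr : ∀ b : K, ∃ g : G, g • w = w ∧ g • ι b = ι 0)
    (hsw : s • w = ι 0) (hso : s • ι 0 = w) (hsx : ∀ x, x ≠ 0 → s • ι x = ι (-x⁻¹)) :
    ∃ φ : α ≃ ℙ K (Fin 2 → K), ∀ g : G, ∃ M : SpecialLinearGroup (Fin 2) K, ∀ a : α,
      φ (g • a) = (SpecialLinearGroup.toPGL M : PGL(Fin 2, K)) • φ a := by
  classical
  let e₁ : Option K ≃ α := Equiv.ofBijective (fun o => o.elim w ι) (by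
    constructor
    · intro a b h
      cases a with
      | none =>
        cases b with
        | none => rfl
        | some y => exact absurd h.symm (hιw y)
      | some x =>
        cases b with
        | none => exact absurd h (hιw x)
        | some y => exact congrArg some (hι h)
    · intro a
      rcases hcover a with rfl | ⟨x, rfl⟩
      · exact ⟨none, rfl⟩
      · exact ⟨some x, rfl⟩)
  let φ : α ≃ ℙ K (Fin 2 → K) := e₁.symm.trans optEquivProj
  have hφw : φ w = pinf := by
    have : e₁.symm w = none := by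
      rw [Equiv.symm_apply_eq]
      rfl
    show optEquivProj (e₁.symm w) = pinf
    rw [this]
    rfl
  have hφι : ∀ x, φ (ι x) = aff x := by
    intro x
    have : e₁.symm (ι x) = some x := by
      rw [Equiv.symm_apply_eq]
      rfl
    show optEquivProj (e₁.symm (ι x)) = aff x
    rw [this]
    rfl
  refine ⟨φ, ?_⟩
  let P : G → Prop := fun g => ∃ M : SpecialLinearGroup (Fin 2) K, ∀ a : α,
      φ (g • a) = (SpecialLinearGroup.toPGL M : PGL(Fin 2, K)) • φ a
  have hPmul : ∀ g h, P g → P h → P (g * h) := by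
    rintro g h ⟨M, hM⟩ ⟨N, hN⟩
    refine ⟨M * N, fun a => ?_⟩
    rw [mul_smul, hM, hN, map_mul, mul_smul]
  have hPinv : ∀ g, P g → P g⁻¹ := by
    rintro g ⟨M, hM⟩
    refine ⟨M⁻¹, fun a => ?_⟩
    have := hM (g⁻¹ • a)
    rw [smul_inv_smul] at this
    rw [map_inv, this, inv_smul_smul]
  have hPΓ : ∀ g : G, g • w = w → P g := by
    intro g hg
    obtain ⟨r, b, hr, hab⟩ := hΓ g hg
    have hdet : (!![r, b * r⁻¹; 0, r⁻¹] : Matrix (Fin 2) (Fin 2) K).det = 1 := by
      rw [Matrix.det_fin_two_of]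
      field_simp
      ring
    refine ⟨⟨_, hdet⟩, fun y => ?_⟩
    rcases hcover y with rfl | ⟨x, rfl⟩
    · rw [hg, hφw]
      unfold pinf
      symm
      apply sl_smul_mk_eq _ _ _ r
      ext i
      fin_cases i <;> simp [Matrix.mulVec, dotProduct]
    · rw [hab, hφι, hφι]
      unfold aff
      symm
      apply sl_smul_mk_eq _ _ _ r⁻¹
      ext i
      fin_cases i
      · simp [Matrix.mulVec, dotProduct]
        field_simp
      · simp [Matrix.mulVec, dotProduct]
  have hPs : P s := by
    have hdet : (!![0, -1; 1, 0] : Matrix (Fin 2) (Fin 2) K).det = 1 := by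
      rw [Matrix.det_fin_two_of]
      simp
    refine ⟨⟨_, hdet⟩, fun y => ?_⟩
    rcases hcover y with rfl | ⟨x, rfl⟩
    · rw [hsw, hφw, hφι]
      unfold pinf aff
      symm
      apply sl_smul_mk_eq _ _ _ 1
      ext i
      fin_cases i <;> simp [Matrix.mulVec, dotProduct]
    · by_cases hx : x = 0
      · subst hx
        rw [hso, hφw, hφι]
        unfold pinf aff
        symm
        apply sl_smul_mk_eq _ _ _ (-1)
        ext i
        fin_cases i <;> simp [Matrix.mulVec, dotProduct]
      · rw [hsx x hx, hφι, hφι]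
        unfold aff
        symm
        apply sl_smul_mk_eq _ _ _ x
        ext i
        fin_cases i <;> simp [Matrix.mulVec, dotProduct, hx]
  intro g
  by_cases hg : g • w = w
  · exact hPΓ g hg
  · rcases hcover (g • w) with h | ⟨b, hb⟩
    · exact absurd h hg
    · obtain ⟨h, hhw, hhb⟩ := htr b
      have hγ : (s * h * g) • w = w := by
        rw [mul_smul, mul_smul, hb, hhb, hso]
      have e : g = h⁻¹ * (s⁻¹ * (s * h * g)) := by group
      rw [e]
      exact hPmul _ _ (hPinv _ (hPΓ h hhw)) (hPmul _ _ (hPinv _ hPs) (hPΓ _ hγ))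

end coord

section ident

variable {G : Type*} [Group G] [Finite G] {α : Type*} [MulAction G α] {K : Type*} [Field K]
  [Fintype K]

/-- a faithful group of the right order all of whose elements act as elements of `SL₂` is
`PSL₂`. -/
theorem psl_iso (hfaith : ∀ g : G, (∀ x : α, g • x = x) → g = 1)
    (φ : α ≃ ℙ K (Fin 2 → K))
    (hP : ∀ g : G, ∃ M : SpecialLinearGroup (Fin 2) K, ∀ a : α,
      φ (g • a) = (SpecialLinearGroup.toPGL M : PGL(Fin 2, K)) • φ a)
    (hcard : Nat.card (ProjectiveSpecialLinearGroup (Fin 2) K) ≤ Nat.card G) :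
    Nonempty (G ≃* ProjectiveSpecialLinearGroup (Fin 2) K) := by
  classical
  let ρ : G →* Equiv.Perm α := MulAction.toPermHom G α
  let Ψ : ProjectiveSpecialLinearGroup (Fin 2) K →* Equiv.Perm α :=
    ((φ.symm.permCongrHom).toMonoidHom.comp
      (MulAction.toPermHom (PGL(Fin 2, K)) (ℙ K (Fin 2 → K)))).comp
      (ProjectiveSpecialLinearGroup.toPGL (n := Fin 2) (R := K))
  have hΨ : ∀ (A : ProjectiveSpecialLinearGroup (Fin 2) K) (a : α),
      Ψ A a = φ.symm ((ProjectiveSpecialLinearGroup.toPGL A : PGL(Fin 2, K)) • φ a) := by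
    intro A a
    rfl
  have hρ : ∀ (g : G) (a : α), ρ g a = g • a := fun g a => rfl
  have hρinj : Function.Injective ρ := by
    rw [injective_iff_map_eq_one]
    intro g hg
    apply hfaith
    intro x
    rw [← hρ, hg]
    rfl
  have hΨinj : Function.Injective Ψ := by
    rw [injective_iff_map_eq_one]
    intro A hA
    apply ProjectiveSpecialLinearGroup.toPGL_injective
    rw [map_one]
    have hfix : ∀ p : ℙ K (Fin 2 → K),
        (ProjectiveSpecialLinearGroup.toPGL A : PGL(Fin 2, K)) • p = p := by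
      intro p
      have := hΨ A (φ.symm p)
      rw [hA, Equiv.apply_symm_apply] at this
      have h' : φ.symm ((ProjectiveSpecialLinearGroup.toPGL A : PGL(Fin 2, K)) • p)
          = φ.symm p := this.symm
      exact φ.symm.injective h'
    have h01 : (pinf : ℙ K (Fin 2 → K)) ≠ aff 0 := (aff_ne_pinf 0).symm
    have h02 : (pinf : ℙ K (Fin 2 → K)) ≠ aff 1 := (aff_ne_pinf 1).symm
    have h12 : (aff 0 : ℙ K (Fin 2 → K)) ≠ aff 1 := fun h => zero_ne_one (aff_injective h)
    exact Cfsg.Agent.Lib.Helper1.pgl2_sharp _ pinf (aff 0) (aff 1) h01 h02 h12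
      (hfix _) (hfix _) (hfix _)
  have hsub : ρ.range ≤ Ψ.range := by
    rintro _ ⟨g, rfl⟩
    obtain ⟨M, hM⟩ := hP g
    refine ⟨(QuotientGroup.mk M : ProjectiveSpecialLinearGroup (Fin 2) K), ?_⟩
    ext a
    rw [hΨ, hρ, ProjectiveSpecialLinearGroup.toPGL_mk]
    have h1 : (ProjGenLinGroup.mk (SpecialLinearGroup.toGL M) : PGL(Fin 2, K)) • φ a
        = φ (g • a) := (hM a).symm
    rw [h1, Equiv.symm_apply_apply]
  haveI : Finite (ProjectiveSpecialLinearGroup (Fin 2) K) := by
    unfold ProjectiveSpecialLinearGroup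
    infer_instance
  have hrange : ρ.range = Ψ.range := by
    apply Subgroup.eq_of_le_of_card_ge hsub
    rw [← Nat.card_congr (MonoidHom.ofInjective hρinj).toEquiv,
      ← Nat.card_congr (MonoidHom.ofInjective hΨinj).toEquiv]
    exact hcard
  exact ⟨(MonoidHom.ofInjective hρinj).trans
    ((MulEquiv.subgroupCongr hrange).trans (MonoidHom.ofInjective hΨinj).symm)⟩

end ident

end ZP

end Cfsg.Agent.Lib.Helper2
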