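import Mathlib
import Cfsg.Agent.Lib.Helper2.ZP10
import Cfsg.Agent.Lib.Helper2.ZP11

set_option autoImplicit false
set_option linter.style.haveILetI false
set_option linter.unusedSectionVars false

/-!
# Zassenhaus groups with abelian kernel and two-point stabilizer of order `(q - 1) / 2` are
`PSL₂(q)`
-/

namespace Cfsg.Agent.Lib.Helper2

namespace ZP

open MulAction Cfsg.Agent.Lib.Lead.Zass Cfsg.Agent.Lib.Helper2.FZ

universe u v

section
variable {G : Type u} {Ω : Type v} [Group G] [MulAction G Ω] [Fintype Ω] {a b : Ω}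
  {F : Subgroup G}

theorem PData.psl [Finite G] (P : PData G Ω a b F) :
    ∃ (K : Type) (_ : Field K) (_ : Fintype K), Fintype.card K + 1 = Fintype.card Ω ∧
      Nonempty (G ≃* Matrix.ProjectiveSpecialLinearGroup (Fin 2) K) := by
  classical
  obtain ⟨K, instK, instFK, ι, t, hcard, C, hinv, hta, htb, ht1⟩ := P.exists_normalized
  have hsw := P.swap_act hinv C hcard hta htb ht1
  have hΓ : ∀ g : G, g • a = a → ∃ r b' : K, r ≠ 0 ∧ ∀ x, g • ι x = ι (r * r * x + b') := by
    intro g hg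
    obtain ⟨u, hu, k, hka, hkb, rfl⟩ := P.decomp hg
    obtain ⟨r, hr, hk⟩ := C.E_act k hka hkb
    obtain ⟨y, hy⟩ := C.F_act u hu
    exact ⟨r, y, hr, fun x => by rw [mul_smul, hk, hy]⟩
  have htr : ∀ b' : K, ∃ g : G, g • a = a ∧ g • ι b' = ι 0 := by
    intro b'
    obtain ⟨u, hu, hy⟩ := C.act_F (-b')
    exact ⟨u, P.mem_a hu, by rw [hy, add_neg_cancel]⟩
  obtain ⟨φ, hP⟩ := exists_sl_projectivity a ι C.inj C.ne_a C.cover t hΓ htr
    (by rw [hta, C.zero]) (by rw [C.zero, htb]) hsw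
  refine ⟨K, instK, instFK, hcard, ?_⟩
  apply psl_iso P.Z.faith φ hP
  have h1 := DSub.card_psl_two (F := K)
  have h2 := P.card_G
  have h3 := P.hFcard
  have h4 := P.he
  obtain ⟨e, he⟩ : ∃ e, e = Nat.card ↥(stabilizer G a ⊓ stabilizer G b : Subgroup G) := ⟨_, rfl⟩
  rw [← he] at h2 h4
  have hq : Fintype.card K = 2 * e + 1 := by omega
  have hF : Nat.card F = 2 * e + 1 := by omega
  rw [hq] at h1
  rw [hF] at h2
  have hgcd : Nat.gcd 2 (2 * e + 1 - 1) = 2 := by
    have : 2 * e + 1 - 1 = 2 * e := by omega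
    rw [this]
    exact Nat.gcd_eq_left (dvd_mul_right 2 e)
  rw [hgcd] at h1
  rw [h2]
  have h5 : 2 * e + 1 - 1 = 2 * e := by omega
  rw [h5] at h1
  have h6 : 2 * Nat.card (Matrix.ProjectiveSpecialLinearGroup (Fin 2) K)
      = 2 * ((2 * e + 1 + 1) * (2 * e + 1) * e) := by
    rw [h1]
    ring
  have := Nat.eq_of_mul_eq_mul_left (by norm_num : 0 < 2) h6
  rw [this]

end

end ZP

end Cfsg.Agent.Lib.Helper2
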