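import Mathlib
import Cfsg.Agent.Lib.Helper2.FZ16

set_option autoImplicit false
set_option linter.style.haveILetI false
set_option linter.unusedSectionVars false

/-!
# Zassenhaus groups: the order of the two-point stabilizer divides `n - 2`; the sharply
3-transitive case
-/

namespace Cfsg.Agent.Lib.Helper2

namespace ZP

open MulAction Cfsg.Agent.Lib.Lead.Zass Cfsg.Agent.Lib.Helper2.FZ

section
variable {G Ω : Type*} [Group G] [MulAction G Ω] [Fintype Ω]

theorem card_compl_pair [DecidableEq Ω] {p q : Ω} (hpq : p ≠ q) :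
    Nat.card {y : Ω // y ≠ p ∧ y ≠ q} = Fintype.card Ω - 2 := by
  rw [Nat.card_eq_fintype_card, Fintype.card_subtype]
  have : (Finset.univ.filter (fun y : Ω => y ≠ p ∧ y ≠ q)) = (Finset.univ.erase p).erase q := by
    ext y
    simp only [Finset.mem_filter, Finset.mem_univ, true_and, Finset.mem_erase, and_true]
    tauto
  rw [this, Finset.card_erase_of_mem, Finset.card_erase_of_mem (Finset.mem_univ p),
    Finset.card_univ]
  · omega
  · rw [Finset.mem_erase]
    exact ⟨Ne.symm hpq, Finset.mem_univ q⟩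

/-- the order of the two-point stabilizer divides `n - 2`. -/
theorem two_stab_dvd [Finite G] (Z : ZData G Ω) {a b : Ω} (hab : a ≠ b) :
    Nat.card ↥(stabilizer G a ⊓ stabilizer G b : Subgroup G) ∣ Fintype.card Ω - 2 := by
  classical
  have hEa : ∀ h : ↥(stabilizer G a ⊓ stabilizer G b : Subgroup G), (h : G) • a = a :=
    fun h => ((mem_H_iff a b _).mp h.2).1
  have hEb : ∀ h : ↥(stabilizer G a ⊓ stabilizer G b : Subgroup G), (h : G) • b = b :=
    fun h => ((mem_H_iff a b _).mp h.2).2
  letI inst : MulAction ↥(stabilizer G a ⊓ stabilizer G b : Subgroup G)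
      {y : Ω // y ≠ a ∧ y ≠ b} :=
    { smul := fun h y => ⟨(h : G) • y.1, stab_ne a (hEa h) y.2.1, stab_ne b (hEb h) y.2.2⟩
      one_smul := fun y => Subtype.ext (one_smul G y.1)
      mul_smul := fun h k y => Subtype.ext (mul_smul (h : G) (k : G) y.1) }
  have hsm : ∀ (h : ↥(stabilizer G a ⊓ stabilizer G b : Subgroup G))
      (y : {y : Ω // y ≠ a ∧ y ≠ b}), ((h • y : {y : Ω // y ≠ a ∧ y ≠ b}) : Ω) = (h : G) • y.1 :=
    fun h y => rfl
  have hfree : ∀ y : {y : Ω // y ≠ a ∧ y ≠ b},
      stabilizer ↥(stabilizer G a ⊓ stabilizer G b : Subgroup G) y = ⊥ := by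
    intro y
    rw [eq_bot_iff]
    intro h hh
    rw [mem_stabilizer_iff] at hh
    rw [Subgroup.mem_bot]
    apply Subtype.ext
    rw [Subgroup.coe_one]
    apply Z.three (h : G) a b y.1 hab (Ne.symm y.2.2) (Ne.symm y.2.1) (hEa h) (hEb h)
    rw [← hsm, hh]
  have e := MulAction.selfEquivOrbitsQuotientProd hfree
  have h1 := Nat.card_congr e
  rw [Nat.card_prod, card_compl_pair hab] at h1
  rw [h1]
  exact dvd_mul_left _ _

/-- transitivity of the two-point stabilizers when their order is `n - 2`. -/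
theorem two_stab_trans [Finite G] (Z : ZData G Ω) {a b : Ω} (hab : a ≠ b)
    (he : Nat.card ↥(stabilizer G a ⊓ stabilizer G b : Subgroup G) = Fintype.card Ω - 2)
    {p q : Ω} (hpq : p ≠ q) {c d : Ω} (hcp : c ≠ p) (hcq : c ≠ q) (hdp : d ≠ p) (hdq : d ≠ q) :
    ∃ h : G, h • p = p ∧ h • q = q ∧ h • c = d := by
  classical
  have hEp : ∀ h : ↥(stabilizer G p ⊓ stabilizer G q : Subgroup G), (h : G) • p = p :=
    fun h => ((mem_H_iff p q _).mp h.2).1
  have hEq : ∀ h : ↥(stabilizer G p ⊓ stabilizer G q : Subgroup G), (h : G) • q = q :=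
    fun h => ((mem_H_iff p q _).mp h.2).2
  have hcard : Nat.card {y : Ω // y ≠ p ∧ y ≠ q}
      = Nat.card ↥(stabilizer G p ⊓ stabilizer G q : Subgroup G) := by
    rw [card_compl_pair hpq, card_two_stab Z hab hpq, he]
  have horb : Function.Bijective
      (fun h : ↥(stabilizer G p ⊓ stabilizer G q : Subgroup G) =>
        (⟨(h : G) • c, stab_ne p (hEp h) hcp, stab_ne q (hEq h) hcq⟩ :
          {y : Ω // y ≠ p ∧ y ≠ q})) := by
    apply Function.Injective.bijective_of_nat_card_le
    · intro h k hhk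
      have h1 : (h : G) • c = (k : G) • c := congrArg Subtype.val hhk
      have h2 : ((k : G)⁻¹ * (h : G)) • c = c := by
        rw [mul_smul, h1, inv_smul_smul]
      have h3 : (k : G)⁻¹ * (h : G) = 1 := by
        apply Z.three _ p q c hpq (Ne.symm hcq) (Ne.symm hcp) _ _ h2
        · rw [mul_smul, hEp h, inv_smul_eq_iff, hEp k]
        · rw [mul_smul, hEq h, inv_smul_eq_iff, hEq k]
      apply Subtype.ext
      have : (h : G) = (k : G) * ((k : G)⁻¹ * (h : G)) := by group
      rw [this, h3, mul_one]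
    · exact hcard.le
  obtain ⟨h, hh⟩ := horb.2 ⟨d, hdp, hdq⟩
  exact ⟨(h : G), hEp h, hEq h, congrArg Subtype.val hh⟩

/-- a Zassenhaus group with two-point stabilizer of order `n - 2` is sharply 3-transitive. -/
theorem sharp3_of_card [Finite G] (Z : ZData G Ω) {a b : Ω} (hab : a ≠ b)
    (he : Nat.card ↥(stabilizer G a ⊓ stabilizer G b : Subgroup G) = Fintype.card Ω - 2) :
    MulAction.IsMultiplyPretransitive G Ω 3 ∧ ∀ t : Fin 3 ↪ Ω, MulAction.stabilizer G t = ⊥ := by
  constructor
  · rw [MulAction.isMultiplyPretransitive_iff]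
    intro s t
    have hs01 : s 0 ≠ s 1 := fun h => by simpa using s.injective h
    have hs02 : s 0 ≠ s 2 := fun h => by simpa using s.injective h
    have hs12 : s 1 ≠ s 2 := fun h => by simpa using s.injective h
    have ht01 : t 0 ≠ t 1 := fun h => by simpa using t.injective h
    have ht02 : t 0 ≠ t 2 := fun h => by simpa using t.injective h
    have ht12 : t 1 ≠ t 2 := fun h => by simpa using t.injective h
    obtain ⟨g₁, hg0, hg1⟩ := Z.two hs01 ht01
    have hc0 : g₁ • s 2 ≠ t 0 := by
      rw [← hg0]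
      exact fun h => hs02 (MulAction.injective g₁ h).symm
    have hc1 : g₁ • s 2 ≠ t 1 := by
      rw [← hg1]
      exact fun h => hs12 (MulAction.injective g₁ h).symm
    obtain ⟨h, hh0, hh1, hh2⟩ := two_stab_trans Z hab he ht01 hc0 hc1 (Ne.symm ht02) (Ne.symm ht12)
    refine ⟨h * g₁, ?_⟩
    ext i
    rw [Function.Embedding.smul_apply, mul_smul]
    fin_cases i
    · show h • g₁ • s 0 = t 0
      rw [hg0, hh0]
    · show h • g₁ • s 1 = t 1
      rw [hg1, hh1]
    · show h • g₁ • s 2 = t 2
      exact hh2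
  · intro t
    rw [eq_bot_iff]
    intro g hg
    rw [mem_stabilizer_iff] at hg
    rw [Subgroup.mem_bot]
    have hfix : ∀ i, g • t i = t i := by
      intro i
      rw [← Function.Embedding.smul_apply, hg]
    have ht01 : t 0 ≠ t 1 := fun h => by simpa using t.injective h
    have ht02 : t 0 ≠ t 2 := fun h => by simpa using t.injective h
    have ht12 : t 1 ≠ t 2 := fun h => by simpa using t.injective h
    exact Z.three g (t 0) (t 1) (t 2) ht01 ht12 ht02 (hfix 0) (hfix 1) (hfix 2)

end

end ZP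

end Cfsg.Agent.Lib.Helper2
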