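import Mathlib
import Cfsg.Agent.Lib.Helper2.ZP12
import Cfsg.Agent.Lib.Helper2.ZP13
import Cfsg.Agent.Lib.Lead.Zass5

set_option autoImplicit false
set_option linter.style.haveILetI false
set_option linter.unusedSectionVars false

/-!
# Zassenhaus groups with abelian kernel: the final statements
-/

namespace Cfsg.Agent.Lib.Helper2

namespace ZP

open MulAction Cfsg.Agent.Lib.Lead.Zass Cfsg.Agent.Lib.Helper2.FZ

universe u v

section
variable {G : Type u} {Ω : Type v} [Group G] [MulAction G Ω] [Fintype Ω]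

theorem odd_char {K : Type*} [Field K] [Fintype K] (hodd : Fintype.card K % 2 = 1) :
    ringChar K ≠ 2 := by
  intro h
  have := FiniteField.even_card_of_char_two h
  omega

/-- a Zassenhaus group with an abelian kernel is sharply 3-transitive or `PSL₂(q)`. -/
theorem abelian_kernel [Finite G] (hZ : Cfsg.IsZassenhausGroup G Ω) {a b : Ω} (hab : a ≠ b)
    (F : Subgroup G) (hFa : F ≤ stabilizer G a) (hFcard : Nat.card F + 1 = Fintype.card Ω)
    (hFfix : ∀ u ∈ F, u ≠ 1 → ∀ c : Ω, u • c = c → c = a)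
    (hcomm : ∀ u ∈ F, ∀ v ∈ F, u * v = v * u) :
    (MulAction.IsMultiplyPretransitive G Ω 3 ∧ ∀ t : Fin 3 ↪ Ω, MulAction.stabilizer G t = ⊥) ∨
    ∃ (K : Type) (_ : Field K) (_ : Fintype K), Fintype.card K + 1 = Fintype.card Ω ∧
      Fintype.card K % 2 = 1 ∧
      Nonempty (G ≃* Matrix.ProjectiveSpecialLinearGroup (Fin 2) K) := by
  classical
  have Z := zdata_of hZ
  obtain ⟨h₀, hh₀1, hh₀a, hh₀b, c₀, hc₀a, hc₀b⟩ := exists_ne_one_H hZ hab
  have h3 : 3 ≤ Fintype.card Ω := by
    have h1 : ({a, b, c₀} : Finset Ω).card = 3 := by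
      rw [Finset.card_insert_of_notMem, Finset.card_insert_of_notMem, Finset.card_singleton]
      · rw [Finset.mem_singleton]
        exact Ne.symm hc₀b
      · rw [Finset.mem_insert, Finset.mem_singleton]
        push Not
        exact ⟨hab, Ne.symm hc₀a⟩
    rw [← h1]
    exact Finset.card_le_univ _
  have hdvd := two_stab_dvd Z hab
  have hle : Fintype.card Ω - 2
      ≤ 2 * Nat.card ↥(stabilizer G a ⊓ stabilizer G b : Subgroup G) := by
    rcases Nat.even_or_odd (Nat.card ↥(stabilizer G a ⊓ stabilizer G b : Subgroup G)) with h | h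
    · exact even_bound hZ hab h
    · have FD : FData G Ω a b F := ⟨hZ, hab, h, hFa, hFcard, hFfix⟩
      rcases FData.main_aux (Nat.card G) G F FD rfl with h1 | ⟨-, ⟨x, y, hxy⟩, -⟩
      · omega
      · exfalso
        apply hxy
        apply Subtype.ext
        exact hcomm _ x.2 _ y.2
  obtain ⟨m, hm⟩ := hdvd
  have hepos : 0 < Nat.card ↥(stabilizer G a ⊓ stabilizer G b : Subgroup G) := Nat.card_pos
  have hm0 : m ≠ 0 := by
    rintro rfl
    omega
  have hm2 : m ≤ 2 := by
    by_contra hcon
    push Not at hcon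
    have : Nat.card ↥(stabilizer G a ⊓ stabilizer G b : Subgroup G) * 3
        ≤ Nat.card ↥(stabilizer G a ⊓ stabilizer G b : Subgroup G) * m :=
      Nat.mul_le_mul_left _ hcon
    omega
  have hm12 : m = 1 ∨ m = 2 := by omega
  rcases hm12 with rfl | rfl
  · left
    apply sharp3_of_card Z hab
    omega
  · right
    have he : 2 * Nat.card ↥(stabilizer G a ⊓ stabilizer G b : Subgroup G) + 1 = Nat.card F := by
      omega
    have P : PData G Ω a b F := ⟨hZ, hab, hFa, hFcard, hFfix, hcomm, he⟩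
    obtain ⟨K, instK, instFK, hcardK, hiso⟩ := P.psl
    exact ⟨K, instK, instFK, hcardK, P.card_odd hcardK, hiso⟩

end

end ZP

end Cfsg.Agent.Lib.Helper2
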