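import Mathlib
import Cfsg.Agent.Lib.Helper2.S3T26
import Cfsg.Agent.Lib.Helper2.ZP14

set_option autoImplicit false
set_option linter.style.haveILetI false
set_option linter.unusedSectionVars false

/-!
# Transitive groups of degree `p + 1` and order `(p + 1) p d`: the case without regular normal
subgroups
-/

namespace Cfsg.Agent.Lib.Helper2.S3T

open MulAction Cfsg.Agent.Lib.Lead.Zass Cfsg.Agent.Lib.Helper2.FZ Cfsg.Agent.Lib.Helper2.ZP

universe u v

variable {G : Type u} {Ω : Type v} [Group G] [MulAction G Ω] [Fintype Ω] {a : Ω} {F : Subgroup G}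
  {p : ℕ}

namespace PD

theorem zassenhaus [Finite G] (P : PD G Ω a F p) {b : Ω} (hab : a ≠ b)
    (hnoreg : ∀ N : Subgroup G, N.Normal → IsPretransitive N Ω → ∃ x : Ω, stabilizer N x ≠ ⊥)
    (hd2 : 2 ≤ Nat.card ↥(stabilizer G a ⊓ stabilizer G b : Subgroup G)) :
    Cfsg.IsZassenhausGroup G Ω := by
  refine ⟨⟨?_⟩, ?_, ?_, ?_, hnoreg⟩
  · intro g₁ g₂ h
    have h1 : g₂⁻¹ * g₁ = 1 := by
      apply P.faith
      intro x
      rw [mul_smul, inv_smul_eq_iff]
      exact h x
    calc g₁ = g₂ * (g₂⁻¹ * g₁) := by group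
      _ = g₂ := by rw [h1, mul_one]
  · rw [is_two_pretransitive_iff]
    intro x y x' y' hxy hxy'
    exact P.two_trans hxy hxy'
  · intro g x y w hxy hyw hxw hx hy hw
    exact P.three g hxy hxw hyw hx hy hw
  · have h1 : 1 < Nat.card ↥(stabilizer G a ⊓ stabilizer G b : Subgroup G) := by omega
    haveI : Nontrivial ↥(stabilizer G a ⊓ stabilizer G b : Subgroup G) :=
      Finite.one_lt_card_iff_nontrivial.mp h1
    obtain ⟨γ, hγ⟩ := exists_ne (1 : ↥(stabilizer G a ⊓ stabilizer G b : Subgroup G))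
    exact ⟨(γ : G), fun h => hγ (Subtype.ext h), a, b, hab,
      mem_stabilizer_iff.mp (Subgroup.mem_inf.mp γ.2).1,
      mem_stabilizer_iff.mp (Subgroup.mem_inf.mp γ.2).2⟩

/-- the case without regular normal subgroups -/
theorem caseB [Finite G] (P : PD G Ω a F p) {b : Ω} (hab : a ≠ b)
    (hnoreg : ∀ N : Subgroup G, N.Normal → IsPretransitive N Ω → ∃ x : Ω, stabilizer N x ≠ ⊥)
    (hd2 : 2 ≤ Nat.card ↥(stabilizer G a ⊓ stabilizer G b : Subgroup G)) :
    (Nat.card ↥(stabilizer G a ⊓ stabilizer G b : Subgroup G) = p - 1 ∧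
      MulAction.IsMultiplyPretransitive G Ω 3 ∧ ∀ t : Fin 3 ↪ Ω, MulAction.stabilizer G t = ⊥) ∨
    (2 * Nat.card ↥(stabilizer G a ⊓ stabilizer G b : Subgroup G) = p - 1 ∧
      ∃ (K : Type) (_ : Field K) (_ : Fintype K), Fintype.card K = p ∧
        Nonempty (G ≃* Matrix.ProjectiveSpecialLinearGroup (Fin 2) K)) := by
  classical
  have hZ := P.zassenhaus hab hnoreg hd2
  have Z := zdata_of hZ
  have hp2 := P.hp.two_le
  have hcard := P.hcard
  have hdvd := two_stab_dvd Z hab
  have hle : Fintype.card Ω - 2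
      ≤ 2 * Nat.card ↥(stabilizer G a ⊓ stabilizer G b : Subgroup G) := by
    rcases Nat.even_or_odd (Nat.card ↥(stabilizer G a ⊓ stabilizer G b : Subgroup G)) with h | h
    · exact even_bound hZ hab h
    · have FD : FData G Ω a b F := ⟨hZ, hab, h, P.hFa, P.hFcard', P.hFfix⟩
      have hF1 := P.hFcard
      have hF2 := P.hFcard'
      rcases FData.main_aux (Nat.card G) G F FD rfl with h1 | ⟨-, ⟨x, y, hxy⟩, -⟩
      · omega
      · exfalso
        apply hxy
        apply Subtype.ext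
        exact P.F_comm _ x.2 _ y.2
  obtain ⟨m, hm⟩ := hdvd
  have hepos : 0 < Nat.card ↥(stabilizer G a ⊓ stabilizer G b : Subgroup G) := Nat.card_pos
  have hm0 : m ≠ 0 := by
    rintro rfl
    omega
  have hm2 : m ≤ 2 := by
    by_contra hcon
    push Not at hcon
    have : Nat.card ↥(stabilizer G a ⊓ stabilizer G b : Subgroup G) * 3
        ≤ Nat.card ↥(stabilizer G a ⊓ stabilizer G b : Subgroup G) * m :=
      Nat.mul_le_mul_left _ hcon
    omega
  have hm12 : m = 1 ∨ m = 2 := by omega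
  rcases hm12 with rfl | rfl
  · left
    have he : Nat.card ↥(stabilizer G a ⊓ stabilizer G b : Subgroup G) = Fintype.card Ω - 2 := by
      omega
    exact ⟨by omega, sharp3_of_card Z hab he⟩
  · right
    have he : 2 * Nat.card ↥(stabilizer G a ⊓ stabilizer G b : Subgroup G) + 1 = Nat.card F := by
      rw [P.hFcard]
      omega
    have PP : PData G Ω a b F := ⟨hZ, hab, P.hFa, P.hFcard', P.hFfix, P.F_comm, he⟩
    obtain ⟨K, instK, instFK, hcardK, hiso⟩ := PP.psl
    exact ⟨by omega, K, instK, instFK, by omega, hiso⟩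

end PD

end Cfsg.Agent.Lib.Helper2.S3T
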