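import Mathlib

set_option autoImplicit false
set_option linter.style.haveILetI false
set_option linter.unusedSectionVars false

/-!
# Sharply 3-transitive groups of even degree: the basic data
-/

namespace Cfsg.Agent.Lib.Helper2.S3T

open MulAction

variable {G : Type*} {Ω : Type*} [Group G] [MulAction G Ω]

theorem stab_ne' (a : Ω) {x : G} (hx : x • a = a) {c : Ω} (hc : c ≠ a) : x • c ≠ a := by
  intro h
  apply hc
  rw [← hx] at h
  exact MulAction.injective x h

/-- the data of a sharply 3-transitive group of even degree `q + 1`: two points `a`, `b`, the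
kernel `F` of the stabilizer of `a`, the involution `z` fixing `a` and `b`, and a conjugate `t` of
`z` interchanging `a` and `b`. -/
structure TData (G : Type*) (Ω : Type*) [Group G] [MulAction G Ω] [Fintype Ω]
    (a b : Ω) (F : Subgroup G) (t z : G) (q : ℕ) : Prop where
  three : ∀ g : G, ∀ x y w : Ω, x ≠ y → x ≠ w → y ≠ w → g • x = x → g • y = y → g • w = w →
    g = 1
  trans3 : ∀ x y w x' y' w' : Ω, x ≠ y → x ≠ w → y ≠ w → x' ≠ y' → x' ≠ w' → y' ≠ w' →
    ∃ g : G, g • x = x' ∧ g • y = y' ∧ g • w = w'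
  hab : a ≠ b
  hcard : Fintype.card Ω = q + 1
  hq : 3 ≤ q
  hFa : F ≤ stabilizer G a
  hFcard : Nat.card F = q
  hFfix : ∀ u ∈ F, u ≠ 1 → ∀ c : Ω, u • c = c → c = a
  hFnorm : ∀ g : G, g • a = a → ∀ u ∈ F, g * u * g⁻¹ ∈ F
  hFcomm : ∀ u ∈ F, ∀ v ∈ F, u * v = v * u
  hta : t • a = b
  htb : t • b = a
  hza : z • a = a
  hzb : z • b = b
  hzz : z * z = 1
  hz1 : z ≠ 1
  htz : IsConj z t

variable [Fintype Ω] {a b : Ω} {F : Subgroup G} {t z : G} {q : ℕ}

namespace TData

theorem tt (T : TData G Ω a b F t z q) : t * t = 1 := by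
  obtain ⟨c, hc⟩ := isConj_iff.mp T.htz
  rw [← hc]
  calc c * z * c⁻¹ * (c * z * c⁻¹) = c * (z * z) * c⁻¹ := by group
    _ = 1 := by rw [T.hzz]; group

theorem t_inv (T : TData G Ω a b F t z q) : t⁻¹ = t := inv_eq_of_mul_eq_one_right T.tt

theorem z_inv (T : TData G Ω a b F t z q) : z⁻¹ = z := inv_eq_of_mul_eq_one_right T.hzz

theorem fix_z (T : TData G Ω a b F t z q) {w : Ω} (hw : z • w = w) : w = a ∨ w = b := by
  by_contra hcon
  push Not at hcon
  exact T.hz1 (T.three z a b w T.hab (Ne.symm hcon.1) (Ne.symm hcon.2) T.hza T.hzb hw)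

theorem exists_third (T : TData G Ω a b F t z q) : ∃ c : Ω, c ≠ a ∧ c ≠ b := by
  classical
  have h1 : ({a, b} : Finset Ω).card < (Finset.univ : Finset Ω).card := by
    rw [Finset.card_univ, T.hcard, Finset.card_pair T.hab]
    have := T.hq
    omega
  obtain ⟨c, -, hc⟩ := Finset.exists_mem_notMem_of_card_lt_card h1
  rw [Finset.mem_insert, Finset.mem_singleton, not_or] at hc
  exact ⟨c, hc.1, hc.2⟩

theorem mem_a (T : TData G Ω a b F t z q) {u : G} (hu : u ∈ F) : u • a = a :=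
  mem_stabilizer_iff.mp (T.hFa hu)

theorem F_eq_of_smul (T : TData G Ω a b F t z q) {u v : G} (hu : u ∈ F) (hv : v ∈ F) {c : Ω}
    (hc : c ≠ a) (h : u • c = v • c) : u = v := by
  by_contra hne
  have h1 : (v⁻¹ * u) • c = c := by rw [mul_smul, h, inv_smul_smul]
  have h2 : v⁻¹ * u ≠ 1 := by
    intro h3
    apply hne
    have : u = v * (v⁻¹ * u) := by group
    rw [this, h3, mul_one]
  exact hc (T.hFfix _ (F.mul_mem (F.inv_mem hv) hu) h2 c h1)

theorem F_trans [Finite G] (T : TData G Ω a b F t z q) {c d : Ω} (hc : c ≠ a) (hd : d ≠ a) :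
    ∃ u ∈ F, u • c = d := by
  classical
  have hcardΩ' : Nat.card {c : Ω // c ≠ a} + 1 = Fintype.card Ω := by
    rw [Nat.card_eq_fintype_card, Fintype.card_subtype_compl, Fintype.card_subtype_eq]
    have : 0 < Fintype.card Ω := Fintype.card_pos_iff.mpr ⟨a⟩
    omega
  have hcard : Nat.card {c : Ω // c ≠ a} = Nat.card F := by
    have := T.hcard
    have := T.hFcard
    omega
  have horb : Function.Bijective
      (fun u : F => (⟨(u : G) • c, stab_ne' a (T.mem_a u.2) hc⟩ : {c : Ω // c ≠ a})) := by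
    apply Function.Injective.bijective_of_nat_card_le
    · intro u v huv
      have h1 : (u : G) • c = (v : G) • c := congrArg Subtype.val huv
      exact Subtype.ext (T.F_eq_of_smul u.2 v.2 hc h1)
    · exact hcard.le
  obtain ⟨u, hu⟩ := horb.2 ⟨d, hd⟩
  exact ⟨u, u.2, congrArg Subtype.val hu⟩

theorem decomp [Finite G] (T : TData G Ω a b F t z q) {g : G} (hg : g • a = a) :
    ∃ u ∈ F, ∃ k : G, k • a = a ∧ k • b = b ∧ g = u * k := by
  obtain ⟨u, hu, hub⟩ := T.F_trans (Ne.symm T.hab) (stab_ne' a hg (Ne.symm T.hab))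
  have hua : u • a = a := T.mem_a hu
  refine ⟨u, hu, u⁻¹ * g, ?_, ?_, by group⟩
  · rw [mul_smul, hg, inv_smul_eq_iff, hua]
  · rw [mul_smul, ← hub, inv_smul_smul]

/-- the two-point stabilizer acts semiregularly on the kernel. -/
theorem semi (T : TData G Ω a b F t z q) {h : G} (hha : h • a = a) (hhb : h • b = b) {u : G}
    (hu : u ∈ F) (hu1 : u ≠ 1) (hc : h * u = u * h) : h = 1 := by
  have hba : b ≠ a := Ne.symm T.hab
  have hub : u • b ≠ b := fun h' => hba (T.hFfix u hu hu1 b h')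
  have hua : u • b ≠ a := stab_ne' a (T.mem_a hu) hba
  apply T.three h a b (u • b) T.hab (Ne.symm hua) (Ne.symm hub) hha hhb
  rw [← mul_smul, hc, mul_smul, hhb]

/-- an element of the two-point stabilizer fixing a third point is trivial. -/
theorem H_eq_one (T : TData G Ω a b F t z q) {h : G} (hha : h • a = a) (hhb : h • b = b) {c : Ω}
    (hca : c ≠ a) (hcb : c ≠ b) (hc : h • c = c) : h = 1 :=
  T.three h a b c T.hab (Ne.symm hca) (Ne.symm hcb) hha hhb hc

theorem H_trans (T : TData G Ω a b F t z q) {c d : Ω} (hca : c ≠ a) (hcb : c ≠ b) (hda : d ≠ a)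
    (hdb : d ≠ b) : ∃ h : G, h • a = a ∧ h • b = b ∧ h • c = d :=
  T.trans3 a b c a b d T.hab (Ne.symm hca) (Ne.symm hcb) T.hab (Ne.symm hda) (Ne.symm hdb)

/-- an involution of the two-point stabilizer inverts the kernel. -/
theorem inverts (T : TData G Ω a b F t z q) {j : G} (hja : j • a = a) (hjb : j • b = b)
    (hj1 : j ≠ 1) (hjj : j * j = 1) {u : G} (hu : u ∈ F) : j * u * j⁻¹ = u⁻¹ := by
  by_contra hne
  have hv : j * u * j⁻¹ ∈ F := T.hFnorm j hja u hu
  set w := u * (j * u * j⁻¹) with hw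
  have hwF : w ∈ F := F.mul_mem hu hv
  have hw1 : w ≠ 1 := by
    intro h
    apply hne
    exact eq_inv_of_mul_eq_one_right h
  have hcomm : j * w = w * j := by
    have h1 : j * w = (j * u * j⁻¹) * ((j * j) * u * (j * j)⁻¹) * j := by rw [hw]; group
    rw [h1, hjj, one_mul, inv_one, mul_one, T.hFcomm _ hv _ hu]
  exact hj1 (T.semi hja hjb hwF hw1 hcomm)

theorem exists_ne_one [Finite G] (T : TData G Ω a b F t z q) : ∃ u ∈ F, u ≠ 1 := by
  have h1 : 1 < Nat.card F := by
    rw [T.hFcard]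
    have := T.hq
    omega
  haveI : Nontrivial F := Finite.one_lt_card_iff_nontrivial.mp h1
  obtain ⟨u, hu⟩ := exists_ne (1 : F)
  exact ⟨u, u.2, fun h => hu (Subtype.ext h)⟩

/-- `z` is the only involution in the two-point stabilizer. -/
theorem invol_unique [Finite G] (T : TData G Ω a b F t z q) {j : G} (hja : j • a = a)
    (hjb : j • b = b) (hj1 : j ≠ 1) (hjj : j * j = 1) : j = z := by
  obtain ⟨u, hu, hu1⟩ := T.exists_ne_one
  have h1 := T.inverts hja hjb hj1 hjj hu
  have h2 := T.inverts T.hza T.hzb T.hz1 T.hzz (F.inv_mem hu)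
  rw [inv_inv] at h2
  have h3 : (j * z) * u = u * (j * z) := by
    have h4 : (j * z) * u = j * (z * u⁻¹⁻¹ * z⁻¹) * z := by group
    have h5 : z * u⁻¹⁻¹ * z⁻¹ = u⁻¹ := by
      have := T.inverts T.hza T.hzb T.hz1 T.hzz hu
      rw [inv_inv]; exact this
    rw [h4, h5]
    have h6 : j * u⁻¹ * z = (j * u * j⁻¹)⁻¹ * j * z := by group
    rw [h6, h1, inv_inv, mul_assoc]
  have h4 : j * z = 1 := by
    apply T.semi _ _ hu hu1 h3
    · rw [mul_smul, T.hza, hja]
    · rw [mul_smul, T.hzb, hjb]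
  have h5 : j = z⁻¹ := eq_inv_of_mul_eq_one_left h4
  rw [h5, T.z_inv]

theorem z_comm_t [Finite G] (T : TData G Ω a b F t z q) : t * z = z * t := by
  have h1 : t * z * t⁻¹ = z := by
    apply T.invol_unique
    · rw [mul_smul, mul_smul, T.t_inv, T.hta, T.hzb, T.htb]
    · rw [mul_smul, mul_smul, T.t_inv, T.htb, T.hza, T.hta]
    · intro h
      apply T.hz1
      have : z = t⁻¹ * (t * z * t⁻¹) * t := by group
      rw [this, h]; group
    · calc t * z * t⁻¹ * (t * z * t⁻¹) = t * (z * z) * t⁻¹ := by group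
        _ = 1 := by rw [T.hzz]; group
  calc t * z = (t * z * t⁻¹) * t := by group
    _ = z * t := by rw [h1]

theorem t_conj_a (T : TData G Ω a b F t z q) {h : G} (hha : h • a = a) (hhb : h • b = b) :
    (t * h * t⁻¹) • a = a ∧ (t * h * t⁻¹) • b = b := by
  rw [T.t_inv]
  constructor
  · rw [mul_smul, mul_smul, T.hta, hhb, T.htb]
  · rw [mul_smul, mul_smul, T.htb, hha, T.hta]

end TData

end Cfsg.Agent.Lib.Helper2.S3T
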