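import Mathlib
import Cfsg.Agent.Lib.Helper2.S3T6
import Cfsg.Agent.Lib.Helper2.Sharp3a
import Cfsg.Agent.Lib.Helper2.SharpTwo4

set_option autoImplicit false
set_option linter.style.haveILetI false
set_option linter.unusedSectionVars false

/-!
# The data of a sharply 3-transitive group of even degree
-/

namespace Cfsg.Agent.Lib.Helper2.S3T

open MulAction
open Cfsg.Agent.Lib.Helper2.Sharp3

variable {G : Type*} [Group G] [Finite G] {Ω : Type*} [Fintype Ω] [MulAction G Ω]

/-- an involution of a set of even size fixing a point fixes a second point -/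
theorem inv_fix_second (heven : Even (Fintype.card Ω)) (u : G) (hu : u * u = 1) {a : Ω}
    (ha : u • a = a) : ∃ d : Ω, d ≠ a ∧ u • d = d := by
  classical
  haveI : Fact (Nat.Prime 2) := ⟨Nat.prime_two⟩
  let f : Function.End Ω := fun x => u • x
  have hf : f ^ 2 ^ 1 = 1 := by
    rw [pow_one, sq]
    funext x
    change u • u • x = x
    rw [← mul_smul, hu, one_smul]
  have hmod := Equiv.Perm.card_fixedPoints_modEq (p := 2) (n := 1) hf
  have hevenF : Even (Fintype.card (Function.fixedPoints f)) := by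
    rw [Nat.even_iff] at heven ⊢
    rw [← hmod]
    exact heven
  have haF : a ∈ Function.fixedPoints f := ha
  have hcard : 2 ≤ Fintype.card (Function.fixedPoints f) := by
    have h1 : 0 < Fintype.card (Function.fixedPoints f) := Fintype.card_pos_iff.mpr ⟨⟨a, haF⟩⟩
    rcases hevenF with ⟨k, hk⟩
    omega
  have hex : ∃ c ∈ (Function.fixedPoints f).toFinset, c ∉ ({a} : Finset Ω) := by
    apply Finset.exists_mem_notMem_of_card_lt_card
    rw [Finset.card_singleton, Set.toFinset_card]
    omega
  obtain ⟨c, hcF, hca⟩ := hex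
  rw [Set.mem_toFinset] at hcF
  rw [Finset.mem_singleton] at hca
  exact ⟨c, hca, hcF⟩

/-- the involution fixing two given points -/
theorem exists_z (h3 : IsMultiplyPretransitive G Ω 3)
    (hsharp : ∀ x : Fin 3 ↪ Ω, stabilizer G x = ⊥) (heven : Even (Fintype.card Ω))
    (h4 : 4 ≤ Fintype.card Ω) {a b : Ω} (hab : a ≠ b) :
    ∃ z : G, z • a = a ∧ z • b = b ∧ z * z = 1 ∧ z ≠ 1 := by
  classical
  have hex : ∃ c ∈ (Finset.univ : Finset Ω), c ∉ ({a, b} : Finset Ω) := by
    apply Finset.exists_mem_notMem_of_card_lt_card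
    rw [Finset.card_pair hab, Finset.card_univ]
    omega
  obtain ⟨c, -, hc⟩ := hex
  rw [Finset.mem_insert, Finset.mem_singleton, not_or] at hc
  have hac : a ≠ c := Ne.symm hc.1
  have hbc : b ≠ c := Ne.symm hc.2
  obtain ⟨g, hga, hgb, hgc⟩ := exists_map_triple h3 hab hac hbc hac hab (Ne.symm hbc)
  have hgg : g * g = 1 := by
    apply eq_one_of_fix_three hsharp _ hab hac hbc
    · rw [mul_smul, hga, hga]
    · rw [mul_smul, hgb, hgc]
    · rw [mul_smul, hgc, hgb]
  have hg1 : g ≠ 1 := by
    intro h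
    rw [h, one_smul] at hgb
    exact hbc hgb
  obtain ⟨d, hda, hgd⟩ := inv_fix_second heven g hgg hga
  have hdb : d ≠ b := by
    intro h
    rw [h, hgb] at hgd
    exact hbc hgd.symm
  obtain ⟨x, hxa, hxd, -⟩ := exists_map_triple h3 (Ne.symm hda) hab hdb hab hac hbc
  refine ⟨x * g * x⁻¹, ?_, ?_, ?_, ?_⟩
  · rw [mul_smul, mul_smul, inv_smul_eq_iff.mpr hxa.symm, hga, hxa]
  · rw [mul_smul, mul_smul, inv_smul_eq_iff.mpr hxd.symm, hgd, hxd]
  · calc x * g * x⁻¹ * (x * g * x⁻¹) = x * (g * g) * x⁻¹ := by group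
      _ = 1 := by rw [hgg]; group
  · intro h
    apply hg1
    have : g = x⁻¹ * (x * g * x⁻¹) * x := by group
    rw [this, h]; group

/-- the data attached to a sharply 3-transitive group with an involution fixing two points -/
theorem exists_tdata_of_invol (h3 : IsMultiplyPretransitive G Ω 3)
    (hsharp : ∀ x : Fin 3 ↪ Ω, stabilizer G x = ⊥)
    (h4 : 4 ≤ Fintype.card Ω) {a b : Ω} (hab : a ≠ b) {z : G} (hza : z • a = a) (hzb : z • b = b)
    (hzz : z * z = 1) (hz1 : z ≠ 1) :
    ∃ (F : Subgroup G) (t : G), TData G Ω a b F t z (Fintype.card Ω - 1) := by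
  classical
  have hthree : ∀ g : G, ∀ x y w : Ω, x ≠ y → x ≠ w → y ≠ w → g • x = x → g • y = y →
      g • w = w → g = 1 :=
    fun g x y w hxy hxw hyw hx hy hw => eq_one_of_fix_three hsharp g hxy hxw hyw hx hy hw
  -- the conjugate interchanging `a` and `b`
  have hex : ∃ c ∈ (Finset.univ : Finset Ω), c ∉ ({a, b} : Finset Ω) := by
    apply Finset.exists_mem_notMem_of_card_lt_card
    rw [Finset.card_pair hab, Finset.card_univ]
    omega
  obtain ⟨c, -, hc⟩ := hex
  rw [Finset.mem_insert, Finset.mem_singleton, not_or] at hc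
  have hac : a ≠ c := Ne.symm hc.1
  have hbc : b ≠ c := Ne.symm hc.2
  have hzc : z • c ≠ c := fun h => hz1 (hthree z a b c hab hac hbc hza hzb h)
  have hzca : z • c ≠ a := by
    intro h
    rw [← hza] at h
    exact hac (MulAction.injective z h).symm
  have hzzc : z • z • c = c := by rw [← mul_smul, hzz, one_smul]
  obtain ⟨y, hyc, hyzc, -⟩ := exists_map_triple h3 (Ne.symm hzc) (Ne.symm hac) hzca
    hab hac hbc
  set t := y * z * y⁻¹ with ht
  have hta : t • a = b := by
    rw [ht, mul_smul, mul_smul, inv_smul_eq_iff.mpr hyc.symm, hyzc]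
  have htb : t • b = a := by
    rw [ht, mul_smul, mul_smul, inv_smul_eq_iff.mpr hyzc.symm, hzzc, hyc]
  -- the kernel
  have h3card : 3 ≤ Fintype.card Ω := by omega
  haveI : IsPretransitive G Ω := by
    rw [← is_one_pretransitive_iff]
    exact isMultiplyPretransitive_of_le (n := 3) (by norm_num)
      (by rw [Nat.card_eq_fintype_card]; exact h3card)
  haveI h2 : IsMultiplyPretransitive (stabilizer G a) (SubMulAction.ofStabilizer G a) 2 :=
    SubMulAction.ofStabilizer.isMultiplyPretransitive.mp h3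
  letI : Fintype (SubMulAction.ofStabilizer G a) := Fintype.ofFinite _
  have hcard' : Fintype.card (SubMulAction.ofStabilizer G a) = Fintype.card Ω - 1 := by
    rw [← Nat.card_eq_fintype_card, SubMulAction.nat_card_ofStabilizer_eq,
      Nat.card_eq_fintype_card]
  have hcard : 2 ≤ Fintype.card (SubMulAction.ofStabilizer G a) := by
    rw [hcard']
    omega
  have hsharp2 : ∀ x : Fin 2 ↪ SubMulAction.ofStabilizer G a,
      stabilizer (stabilizer G a) x = ⊥ := by
    intro x
    rw [eq_bot_iff]
    intro g hg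
    rw [mem_stabilizer_iff] at hg
    rw [Subgroup.mem_bot]
    apply Subtype.ext
    have h0 : g • x 0 = x 0 := by
      have := congrArg (fun f : Fin 2 ↪ SubMulAction.ofStabilizer G a => f 0) hg
      simpa [Function.Embedding.smul_apply] using this
    have h1 : g • x 1 = x 1 := by
      have := congrArg (fun f : Fin 2 ↪ SubMulAction.ofStabilizer G a => f 1) hg
      simpa [Function.Embedding.smul_apply] using this
    have h0' : (g : G) • ((x 0 : SubMulAction.ofStabilizer G a) : Ω) = (x 0 : Ω) :=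
      congrArg Subtype.val h0
    have h1' : (g : G) • ((x 1 : SubMulAction.ofStabilizer G a) : Ω) = (x 1 : Ω) :=
      congrArg Subtype.val h1
    have hne : ((x 0 : SubMulAction.ofStabilizer G a) : Ω) ≠ (x 1 : Ω) := by
      intro h
      have := x.injective (Subtype.ext h)
      exact absurd this (by decide)
    exact eq_one_of_fix_three hsharp (g : G)
      (Ne.symm (SubMulAction.neq_of_mem_ofStabilizer G a (x := x 0)))
      (Ne.symm (SubMulAction.neq_of_mem_ofStabilizer G a (x := x 1))) hne g.2 h0' h1'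
  obtain ⟨p, j, N, hp, hj, hpj, hNn, hNcard, hNcomm, -, hNmem, -⟩ :=
    SharpTwo.exists_regular_normal hsharp2 hcard
  refine ⟨N.map (stabilizer G a).subtype, t, ?_⟩
  refine
    { three := hthree
      trans3 := fun x y w x' y' w' hxy hxw hyw hxy' hxw' hyw' =>
        exists_map_triple h3 hxy hxw hyw hxy' hxw' hyw'
      hab := hab
      hcard := by omega
      hq := by omega
      hFa := ?_
      hFcard := ?_
      hFfix := ?_
      hFnorm := ?_
      hFcomm := ?_
      hta := hta
      htb := htb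
      hza := hza
      hzb := hzb
      hzz := hzz
      hz1 := hz1
      htz := isConj_iff.mpr ⟨y, rfl⟩ }
  · rintro u ⟨n, -, rfl⟩
    exact n.2
  · rw [Nat.card_congr (N.equivMapOfInjective _ (Subgroup.subtype_injective _)).toEquiv.symm,
      hNcard, ← hpj, hcard']
  · rintro u ⟨n, hn, rfl⟩ hu1 c' hc'
    by_contra hca
    have hn1 : n ≠ 1 := by
      intro h
      apply hu1
      rw [h]
      rfl
    have hfpf := ((hNmem n).mp hn).resolve_left hn1
    have hmem : c' ∈ SubMulAction.ofStabilizer G a := by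
      rw [SubMulAction.mem_ofStabilizer_iff]
      exact hca
    apply hfpf ⟨c', hmem⟩
    apply Subtype.ext
    exact hc'
  · rintro g hg u ⟨n, hn, rfl⟩
    have hgB : g ∈ stabilizer G a := mem_stabilizer_iff.mpr hg
    have := hNn.conj_mem n hn ⟨g, hgB⟩
    exact ⟨_, this, rfl⟩
  · rintro u ⟨n, hn, rfl⟩ v ⟨n', hn', rfl⟩
    have := hNcomm n hn n' hn'
    have h5 := congrArg (fun x : stabilizer G a => (x : G)) this
    exact h5

/-- the data attached to a sharply 3-transitive group of even degree -/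
theorem exists_tdata (h3 : IsMultiplyPretransitive G Ω 3)
    (hsharp : ∀ x : Fin 3 ↪ Ω, stabilizer G x = ⊥) (heven : Even (Fintype.card Ω))
    (h4 : 4 ≤ Fintype.card Ω) {a b : Ω} (hab : a ≠ b) :
    ∃ (F : Subgroup G) (t z : G), TData G Ω a b F t z (Fintype.card Ω - 1) := by
  obtain ⟨z, hza, hzb, hzz, hz1⟩ := exists_z h3 hsharp heven h4 hab
  obtain ⟨F, t, T⟩ := exists_tdata_of_invol h3 hsharp h4 hab hza hzb hzz hz1
  exact ⟨F, t, z, T⟩

end Cfsg.Agent.Lib.Helper2.S3T
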