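import Mathlib
import Cfsg.Prelude
import Cfsg.Agent.Lib.Helper2.BrauerInd
import Cfsg.Agent.S0161
import Cfsg.Agent.S0146

set_option autoImplicit false

/-! Sections: the `π'`-part map `x ↦ x ^ k` and integrality of section indicators
(Isaacs, Lemma 8.19). -/

namespace Cfsg.Agent.Lib.Helper2.PiSection

open Cfsg Cfsg.Agent.Lib.Helper1 Cfsg.Agent.Lib.Helper4 Cfsg.Agent.Lib.Helper2.BrauerInd
open scoped ComplexConjugate

universe u

section Pow

/-- In a finite nilpotent group, a power map which is trivial or the identity on each Sylow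
subgroup is multiplicative. -/
theorem mul_pow_of_sylow {E : Type*} [Group E] [Finite E] (hn : Group.IsNilpotent E) (k : ℕ)
    (h : ∀ (p : ℕ) (_ : Fact p.Prime) (P : Sylow p E),
      (∀ x ∈ (P : Subgroup E), x ^ k = 1) ∨ (∀ x ∈ (P : Subgroup E), x ^ k = x))
    (x y : E) : (x * y) ^ k = x ^ k * y ^ k := by
  obtain ⟨e⟩ := (Group.isNilpotent_of_finite_tfae.out 0 4).1 hn
  have key : ∀ a b : (∀ p : (Nat.card E).primeFactors, ∀ P : Sylow p E, (P : Subgroup E)),
      (a * b) ^ k = a ^ k * b ^ k := by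
    intro a b
    funext p P
    have hp : Fact (p : ℕ).Prime := ⟨Nat.prime_of_mem_primeFactors p.2⟩
    simp only [Pi.pow_apply, Pi.mul_apply]
    apply Subtype.ext
    rcases h p hp P with h1 | h1
    · rw [Subgroup.coe_pow, h1 _ (a p P * b p P).2, Subgroup.coe_mul, Subgroup.coe_pow,
        Subgroup.coe_pow, h1 _ (a p P).2, h1 _ (b p P).2, mul_one]
    · rw [Subgroup.coe_pow, h1 _ (a p P * b p P).2, Subgroup.coe_mul, Subgroup.coe_mul,
        Subgroup.coe_pow, Subgroup.coe_pow, h1 _ (a p P).2, h1 _ (b p P).2]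
  obtain ⟨a, rfl⟩ := e.surjective x
  obtain ⟨b, rfl⟩ := e.surjective y
  rw [← map_mul, ← map_pow, ← map_pow, ← map_pow, ← map_mul, key]

variable {G : Type u} [Group G]

theorem pow_eq_one_of_dvd {m k : ℕ} (hk0 : k ≡ 0 [MOD m]) {x : G} (hx : orderOf x ∣ m) :
    x ^ k = 1 := by
  apply orderOf_dvd_iff_pow_eq_one.1
  exact hx.trans ((Nat.modEq_zero_iff_dvd).1 hk0)

theorem pow_eq_self_of_dvd {n k : ℕ} (hk1 : k ≡ 1 [MOD n]) {x : G} (hx : orderOf x ∣ n) :
    x ^ k = x := by
  have h1 : x ^ k = x ^ 1 := by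
    rw [pow_eq_pow_iff_modEq]
    exact hk1.of_dvd hx
  rw [h1, pow_one]

/-- the section condition is conjugacy of `x ^ k`. -/
theorem section_iff [Finite G] (m n k : ℕ) (hmn : Nat.card G = m * n) (hcop : m.Coprime n)
    (hk0 : k ≡ 0 [MOD m]) (hk1 : k ≡ 1 [MOD n]) (g x : G) :
    (∃ v : G, IsConj v g ∧ (∃ u : G, x = u * v ∧ Commute u v ∧ Nat.Coprime (orderOf u) n ∧
      Nat.Coprime (orderOf v) m)) ↔ IsConj (x ^ k) g := by
  have hord : ∀ y : G, orderOf y ∣ m * n := fun y => hmn ▸ orderOf_dvd_natCard y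
  constructor
  · rintro ⟨v, hv, u, rfl, hc, hu, hv'⟩
    have hu1 : orderOf u ∣ m := hu.dvd_of_dvd_mul_right (hord u)
    have hv1 : orderOf v ∣ n := hv'.dvd_of_dvd_mul_left (hord v)
    rw [hc.mul_pow, pow_eq_one_of_dvd hk0 hu1, pow_eq_self_of_dvd hk1 hv1, one_mul]
    exact hv
  · intro hx
    have hxk : Commute x (x ^ k) := (Commute.refl x).pow_right k
    refine ⟨x ^ k, hx, x * (x ^ k)⁻¹, ?_, ?_, ?_, ?_⟩
    · rw [inv_mul_cancel_right]
    · exact (hxk.mul_left (Commute.refl (x ^ k)).inv_left)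
    · have h1 : (x * (x ^ k)⁻¹) ^ m = 1 := by
        rw [hxk.inv_right.mul_pow, inv_pow, ← pow_mul, mul_inv_eq_one, pow_eq_pow_iff_modEq]
        have h2 : 1 * m ≡ k * m [MOD n * m] := (hk1.symm).mul_right' m
        rw [one_mul] at h2
        exact h2.of_dvd (by rw [mul_comm n m]; exact hord x)
      exact Nat.Coprime.coprime_dvd_left (orderOf_dvd_of_pow_eq_one h1) hcop
    · have h1 : (x ^ k) ^ n = 1 := by
        rw [← pow_mul]
        apply orderOf_dvd_iff_pow_eq_one.1
        exact (hord x).trans (Nat.mul_dvd_mul_right ((Nat.modEq_zero_iff_dvd).1 hk0) n)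
      exact Nat.Coprime.coprime_dvd_left (orderOf_dvd_of_pow_eq_one h1) hcop.symm

end Pow

section Integral

theorem isIrrCharacter_comp_surjective {H : Type*} {E : Type u} [Group H] [Group E] {χ : E → ℂ}
    (hχ : Cfsg.IsIrrCharacter E χ) (φ : H →* E) (hφ : Function.Surjective φ) :
    Cfsg.IsIrrCharacter H (fun h => χ (φ h)) := by
  obtain ⟨n, ρ, hirr, rfl⟩ := hχ
  exact ⟨n, ρ.comp φ, isIrreducible_comp_surjective ρ hirr φ hφ, rfl⟩

theorem algInt_conj {z : ℂ} (hz : z ∈ Cfsg.AlgInt) : conj z ∈ Cfsg.AlgInt := by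
  have h1 : IsIntegral ℤ z := hz
  exact h1.map ((starRingEnd ℂ).toIntAlgHom)

theorem algInt_char {G : Type*} [Group G] [Finite G] {χ : G → ℂ} (hχ : Cfsg.IsCharacter G χ)
    (g : G) : χ g ∈ Cfsg.AlgInt :=
  Cfsg.Agent.S0161.isIntegral_isCharacter hχ g

/-- A class function inflated from a quotient `B`, all of whose values are integer multiples of
`|B|`, has algebraic-integer multiplicities. -/
theorem classInner_comp_algInt {E B : Type u} [Group E] [Group B] [Fintype E] [Fintype B]
    (φ : E →* B) (hφ : Function.Surjective φ) (γ : B → ℂ) (hγ : Cfsg.IsClassFunction B γ)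
    (hint : ∀ b, ∃ z : ℤ, γ b = z * (Nat.card B : ℂ)) (ψ : E → ℂ)
    (hψ : Cfsg.IsIrrCharacter E ψ) : Cfsg.classInner (fun e => γ (φ e)) ψ ∈ Cfsg.AlgInt := by
  classical
  haveI : Fintype (Cfsg.IrrCharacter B) := Fintype.ofFinite _
  have h1 := class_function_expansion γ hγ
  have h2 : (fun e => γ (φ e))
      = ∑ β : Cfsg.IrrCharacter B, Cfsg.classInner γ β • (fun e => (β : B → ℂ) (φ e)) := by
    funext e
    have h3 := congrFun h1 (φ e)
    rw [Finset.sum_apply] at h3
    rw [Finset.sum_apply]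
    exact h3
  rw [h2, classInner_sum_left]
  apply Subalgebra.sum_mem
  intro β _
  rw [classInner_smul_left]
  apply Subalgebra.mul_mem
  · rw [classInner_def, Finset.mul_sum]
    apply Subalgebra.sum_mem
    intro b _
    obtain ⟨z, hz⟩ := hint b
    have hB0 : (Nat.card B : ℂ) ≠ 0 := Nat.cast_ne_zero.2 Nat.card_pos.ne'
    have h4 : (Nat.card B : ℂ)⁻¹ * (γ b * conj ((β : B → ℂ) b)) = (z : ℂ) * conj ((β : B → ℂ) b) := by
      rw [hz]
      field_simp
    rw [h4]
    apply Subalgebra.mul_mem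
    · exact Subalgebra.intCast_mem _ z
    · exact algInt_conj (algInt_char (isCharacter_of_irr β.2) b)
  · rw [classInner_irr (isIrrCharacter_comp_surjective β.2 φ hφ) hψ]
    split_ifs
    · exact Subalgebra.one_mem _
    · exact Subalgebra.zero_mem _

/-- The `R`-version of Brauer's characterisation: a class function whose restrictions to elementary
subgroups have algebraic-integer multiplicities has algebraic-integer multiplicities. -/
theorem classInner_algInt_of_elementary {G : Type u} [Group G] [Fintype G] (f : G → ℂ)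
    (hf : Cfsg.IsClassFunction G f)
    (hE : ∀ (E : Subgroup G) [Fintype E] (p : ℕ), p.Prime → Cfsg.IsElementary p E → ∀ ψ : E → ℂ,
      Cfsg.IsIrrCharacter E ψ → Cfsg.classInner (fun e : E => f e) ψ ∈ Cfsg.AlgInt)
    (χ : G → ℂ) (hχ : Cfsg.IsIrrCharacter G χ) : Cfsg.classInner f χ ∈ Cfsg.AlgInt := by
  classical
  have key : ∀ h : G → ℂ, h ∈ linSpan (G := G) → Cfsg.classInner (h * f) χ ∈ Cfsg.AlgInt := by
    intro h hh
    induction hh using AddSubgroup.closure_induction with
    | mem h hmem =>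
      obtain ⟨E, lam, ⟨p, hp, hEl⟩, rfl⟩ := hmem
      haveI : Fintype E := Fintype.ofFinite E
      haveI : Fintype (Cfsg.IrrCharacter E) := Fintype.ofFinite _
      rw [Cfsg.Agent.S0177.indFun_mul E _ f hf,
        Cfsg.Agent.S0146.result E _ χ (isClassFunction_irr hχ)]
      have hfE : Cfsg.IsClassFunction E (fun a : E => f a) := fun a b => hf a b
      have hexp := class_function_expansion (fun a : E => f a) hfE
      have h3 : ((fun e : E => ((lam e : ℂˣ) : ℂ)) * fun a : E => f a)
          = ∑ ψ : Cfsg.IrrCharacter E, Cfsg.classInner (fun a : E => f a) ψ •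
              ((fun e : E => ((lam e : ℂˣ) : ℂ)) * (ψ : E → ℂ)) := by
        conv_lhs => rw [hexp]
        rw [Finset.mul_sum]
        refine Finset.sum_congr rfl fun ψ _ => ?_
        rw [mul_smul_comm]
      rw [h3, classInner_sum_left]
      apply Subalgebra.sum_mem
      intro ψ _
      rw [classInner_smul_left]
      apply Subalgebra.mul_mem _ (hE E p hp hEl ψ ψ.2)
      obtain ⟨n, hn⟩ := classInner_char_nat
        (Cfsg.Agent.S0177.isCharacter_mul (isCharacter_of_irr (isIrrCharacter_of_hom lam))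
          (isCharacter_of_irr ψ.2))
        (Cfsg.Agent.S0148.isCharacter_restrict E (isCharacter_of_irr hχ))
      rw [hn]
      exact Subalgebra.natCast_mem _ n
    | zero =>
      rw [zero_mul, classInner_zero_left]
      exact Subalgebra.zero_mem _
    | add x y _ _ hx hy =>
      rw [add_mul, classInner_add_left]
      exact Subalgebra.add_mem _ hx hy
    | neg x _ hx =>
      rw [neg_mul, classInner_neg_left]
      exact Subalgebra.neg_mem _ hx
  have h1 := key _ one_mem_linSpan
  have h2 : (fun _ : G => (1 : ℂ)) * f = f := by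
    funext x
    rw [Pi.mul_apply, one_mul]
  rw [h2] at h1
  exact h1

theorem isClassFunction_comp_pow {G : Type u} [Group G] (k : ℕ) {γ : G → ℂ}
    (hγ : Cfsg.IsClassFunction G γ) : Cfsg.IsClassFunction G (fun x => γ (x ^ k)) := by
  intro x h
  show γ ((h * x * h⁻¹) ^ k) = γ (x ^ k)
  rw [conj_pow]
  exact hγ _ _

/-- Isaacs, Lemma 8.19 in power-map form. -/
theorem section_classInner_algInt {G : Type u} [Group G] [Fintype G] (m n k : ℕ)
    (hmn : Nat.card G = m * n) (hcop : m.Coprime n) (hk0 : k ≡ 0 [MOD m]) (hk1 : k ≡ 1 [MOD n])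
    (γ : G → ℂ) (hγ : Cfsg.IsClassFunction G γ) (hint : ∀ x, ∃ z : ℤ, γ x = z * (n : ℂ))
    (χ : G → ℂ) (hχ : Cfsg.IsIrrCharacter G χ) :
    Cfsg.classInner (fun x => γ (x ^ k)) χ ∈ Cfsg.AlgInt := by
  classical
  apply classInner_algInt_of_elementary _ (isClassFunction_comp_pow k hγ) _ χ hχ
  intro E _ p hp hEl ψ hψ
  haveI : Fact p.Prime := ⟨hp⟩
  have hnil : Group.IsNilpotent E := isNilpotent_of_isElementary hEl
  have hEG : Nat.card E ∣ m * n := hmn ▸ Subgroup.card_subgroup_dvd_card E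
  have hordE : ∀ e : E, orderOf e ∣ m * n := fun e => (orderOf_dvd_natCard e).trans hEG
  have hsyl : ∀ (q : ℕ) (_ : Fact q.Prime) (P : Sylow q E),
      (∀ x ∈ (P : Subgroup E), x ^ k = 1) ∨ (∀ x ∈ (P : Subgroup E), x ^ k = x) := by
    intro q hq P
    obtain ⟨j, hj⟩ := P.2.exists_card_eq
    have hPd : q ^ j ∣ m * n := by
      rw [← hj]
      exact (Subgroup.card_subgroup_dvd_card (P : Subgroup E)).trans hEG
    by_cases hqm : q ∣ m
    · left
      intro x hx
      have h1 : (q ^ j).Coprime n :=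
        Nat.Coprime.pow_left j (Nat.Coprime.coprime_dvd_left hqm hcop)
      have h2 : q ^ j ∣ m := h1.dvd_of_dvd_mul_right hPd
      apply pow_eq_one_of_dvd hk0
      exact ((Subgroup.orderOf_dvd_natCard _ hx).trans (hj ▸ dvd_rfl)).trans h2
    · right
      intro x hx
      have h1 : (q ^ j).Coprime m :=
        Nat.Coprime.pow_left j ((Nat.Prime.coprime_iff_not_dvd hq.out).2 hqm)
      have h2 : q ^ j ∣ n := h1.dvd_of_dvd_mul_left hPd
      apply pow_eq_self_of_dvd hk1
      exact ((Subgroup.orderOf_dvd_natCard _ hx).trans (hj ▸ dvd_rfl)).trans h2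
  let powHom : E →* E :=
    { toFun := fun x => x ^ k
      map_one' := one_pow k
      map_mul' := mul_pow_of_sylow hnil k hsyl }
  let φ : E →* powHom.range := powHom.rangeRestrict
  have hφ : Function.Surjective φ := powHom.rangeRestrict_surjective
  haveI : Fintype powHom.range := Fintype.ofFinite _
  let γ' : powHom.range → ℂ := fun b => γ ((b : E) : G)
  have hγ' : Cfsg.IsClassFunction powHom.range γ' := by
    intro b h
    show γ (((h * b * h⁻¹ : powHom.range) : E) : G) = γ ((b : E) : G)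
    have h1 : ((((h * b * h⁻¹ : powHom.range) : E) : G))
        = ((h : E) : G) * ((b : E) : G) * ((h : E) : G)⁻¹ := by
      simp only [Subgroup.coe_mul, Subgroup.coe_inv]
    rw [h1]
    exact hγ _ _
  have hBn : ∀ b : powHom.range, b ^ n = 1 := by
    intro b
    obtain ⟨e, he⟩ := hφ b
    rw [← he]
    apply Subtype.ext
    show ((powHom e) ^ n : E) = 1
    show (e ^ k) ^ n = 1
    rw [← pow_mul]
    apply orderOf_dvd_iff_pow_eq_one.1
    exact (hordE e).trans (Nat.mul_dvd_mul_right ((Nat.modEq_zero_iff_dvd).1 hk0) n)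
  have hBcop : (Nat.card powHom.range).Coprime m := by
    apply Nat.coprime_of_dvd
    intro q hq hqB hqm
    haveI : Fact q.Prime := ⟨hq⟩
    obtain ⟨b, hb⟩ := exists_prime_orderOf_dvd_card' q hqB
    have h1 : q ∣ n := hb ▸ orderOf_dvd_of_pow_eq_one (hBn b)
    have h2 : q ∣ Nat.gcd m n := Nat.dvd_gcd hqm h1
    rw [hcop] at h2
    exact hq.one_lt.ne' (Nat.dvd_one.1 h2)
  have hBd : Nat.card powHom.range ∣ n := by
    apply hBcop.dvd_of_dvd_mul_left
    exact ((Subgroup.card_subgroup_dvd_card powHom.range)).trans hEG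
  have hint' : ∀ b : powHom.range, ∃ z : ℤ, γ' b = z * (Nat.card powHom.range : ℂ) := by
    intro b
    obtain ⟨z, hz⟩ := hint ((b : E) : G)
    obtain ⟨t, ht⟩ := hBd
    refine ⟨z * t, ?_⟩
    show γ ((b : E) : G) = _
    rw [hz, ht]
    push_cast
    ring
  have h5 : (fun e : E => (fun x => γ (x ^ k)) (e : G)) = fun e => γ' (φ e) := by
    funext e
    show γ ((e : G) ^ k) = γ (((φ e : powHom.range) : E) : G)
    have h6 : (((φ e : powHom.range) : E) : G) = (e : G) ^ k := by
      show ((e ^ k : E) : G) = (e : G) ^ k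
      rw [Subgroup.coe_pow]
    rw [h6]
  rw [h5]
  exact classInner_comp_algInt φ hφ γ' hγ' hint' ψ hψ

end Integral

end Cfsg.Agent.Lib.Helper2.PiSection
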