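import Mathlib
import Cfsg.Agent.Lib.Helper2.ProjExt
import Cfsg.Agent.S0179

set_option autoImplicit false

/-! The finite central extension attached to a projective representation with factor set of
finite order, realised inside `GL(V) × G`. -/

namespace Cfsg.Agent.Lib.Helper2.CentralExt

open Cfsg Cfsg.Agent.Lib.Helper2.ProjExt

section Construction

variable {G : Type*} [Group G] {V : Type*} [AddCommGroup V] [Module ℂ V]

/-- The group of pairs `(a • X g, g)`, `a ∈ A`. -/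
def extGroup (A : Subgroup ℂˣ) (X : G → (Module.End ℂ V)ˣ)
    (hmul : ∀ g h : G, ∃ a ∈ A, X g * X h = sc a * X (g * h))
    (hone : ∃ a ∈ A, X 1 = sc a) : Subgroup ((Module.End ℂ V)ˣ × G) where
  carrier := {x | ∃ a ∈ A, x.1 = sc a * X x.2}
  mul_mem' := by
    rintro x y ⟨a, ha, hx⟩ ⟨b, hb, hy⟩
    obtain ⟨c, hc, hxy⟩ := hmul x.2 y.2
    refine ⟨a * b * c, A.mul_mem (A.mul_mem ha hb) hc, ?_⟩
    show x.1 * y.1 = sc (a * b * c) * X (x.2 * y.2)
    rw [hx, hy, map_mul, map_mul, mul_assoc (sc a * sc b), ← hxy, mul_assoc (sc a), mul_assoc (sc a),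
      ← mul_assoc (X x.2), ← sc_comm b (X x.2)]
    simp only [mul_assoc]
  one_mem' := by
    obtain ⟨a, ha, h1⟩ := hone
    refine ⟨a⁻¹, A.inv_mem ha, ?_⟩
    show (1 : (Module.End ℂ V)ˣ) = sc a⁻¹ * X 1
    rw [h1, ← map_mul, inv_mul_cancel, map_one]
  inv_mem' := by
    rintro x ⟨a, ha, hx⟩
    obtain ⟨a₁, ha₁, h1⟩ := hone
    obtain ⟨c, hc, hxx⟩ := hmul x.2 x.2⁻¹
    rw [mul_inv_cancel, h1, ← map_mul] at hxx
    refine ⟨(c * a₁)⁻¹ * a⁻¹, A.mul_mem (A.inv_mem (A.mul_mem hc ha₁)) (A.inv_mem ha), ?_⟩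
    show x.1⁻¹ = sc ((c * a₁)⁻¹ * a⁻¹) * X x.2⁻¹
    have h2 : X x.2⁻¹ = (X x.2)⁻¹ * sc (c * a₁) := by
      rw [← hxx, inv_mul_cancel_left]
    have h3 : (c * a₁)⁻¹ * a⁻¹ * (c * a₁) = a⁻¹ := by
      rw [mul_comm, ← mul_assoc, mul_inv_cancel, one_mul]
    rw [hx, h2, ← mul_assoc, sc_comm _ (X x.2)⁻¹, mul_assoc, ← map_mul, h3, mul_inv_rev, map_inv]

variable (A : Subgroup ℂˣ) (X : G → (Module.End ℂ V)ˣ)
    (hmul : ∀ g h : G, ∃ a ∈ A, X g * X h = sc a * X (g * h))
    (hone : ∃ a ∈ A, X 1 = sc a)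

theorem mem_extGroup (x : (Module.End ℂ V)ˣ × G) :
    x ∈ extGroup A X hmul hone ↔ ∃ a ∈ A, x.1 = sc a * X x.2 := Iff.rfl

theorem finite_extGroup [Finite G] [Finite A] : Finite (extGroup A X hmul hone) := by
  have h1 : ((extGroup A X hmul hone : Subgroup ((Module.End ℂ V)ˣ × G)) : Set _) ⊆
      Set.range (fun p : A × G => ((sc (p.1 : ℂˣ) * X p.2, p.2) : (Module.End ℂ V)ˣ × G)) := by
    rintro x ⟨a, ha, hx⟩
    exact ⟨(⟨a, ha⟩, x.2), Prod.ext hx.symm rfl⟩
  exact Set.Finite.subset (Set.finite_range _) h1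

/-- The projection to `G`. -/
def proj : extGroup A X hmul hone →* G :=
  (MonoidHom.snd _ _).comp (extGroup A X hmul hone).subtype

theorem proj_surjective : Function.Surjective (proj A X hmul hone) := by
  intro g
  exact ⟨⟨(X g, g), ⟨1, A.one_mem, by rw [map_one, one_mul]⟩⟩, rfl⟩

/-- The tautological representation of the extension on `V`. -/
def rep : Representation ℂ (extGroup A X hmul hone) V :=
  ((Units.coeHom (Module.End ℂ V)).comp (MonoidHom.fst _ _)).comp
    (extGroup A X hmul hone).subtype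

theorem rep_apply (x : extGroup A X hmul hone) :
    rep A X hmul hone x = ((x : (Module.End ℂ V)ˣ × G).1 : Module.End ℂ V) := rfl

end Construction


section Scalar

/-- The degree of an irreducible representation divides the index of any subgroup acting by
scalars. -/
theorem finrank_dvd_index_of_scalar {Γ : Type*} [Group Γ] [Finite Γ] {W : Type*} [AddCommGroup W]
    [Module ℂ W] [FiniteDimensional ℂ W] (τ : Representation ℂ Γ W) [hτ : τ.IsIrreducible]
    (S : Subgroup Γ) (hS : ∀ s ∈ S, ∃ c : ℂ, τ s = c • LinearMap.id) :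
    Module.finrank ℂ W ∣ S.index := by
  classical
  set K := MonoidHom.ker τ with hK
  haveI hKn : K.Normal := MonoidHom.normal_ker τ
  let π : Γ →* Γ ⧸ K := QuotientGroup.mk' K
  have hπ : Function.Surjective π := QuotientGroup.mk'_surjective K
  let σ : Representation ℂ (Γ ⧸ K) W := QuotientGroup.lift K τ le_rfl
  have hσπ : ∀ g : Γ, σ (π g) = τ g := fun g => rfl
  have hcomp : (σ.comp π : Representation ℂ Γ W) = τ := by
    ext g : 1
    exact hσπ g
  haveI hσirr : σ.IsIrreducible := by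
    apply Cfsg.Agent.S0179.isIrreducible_of_comp σ π
    rw [hcomp]
    exact hτ
  have hinj : ∀ a b : Γ, τ a = τ b → π a = π b := by
    intro a b hab
    apply (QuotientGroup.eq).2
    show a⁻¹ * b ∈ MonoidHom.ker τ
    rw [MonoidHom.mem_ker, map_mul, ← hab, ← map_mul, inv_mul_cancel, map_one]
  have hle : S.map π ≤ Subgroup.center (Γ ⧸ K) := by
    rintro _ ⟨s, hs, rfl⟩
    rw [Subgroup.mem_center_iff]
    intro q
    obtain ⟨g, rfl⟩ := hπ q
    rw [← map_mul, ← map_mul]
    apply hinj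
    obtain ⟨c, hc⟩ := hS s hs
    rw [map_mul, map_mul, hc]
    ext v
    simp
  have h1 := Cfsg.Agent.S0179.result σ
  have h2 : (Subgroup.center (Γ ⧸ K)).index ∣ (S.map π).index := Subgroup.index_dvd_of_le hle
  have h3 : (S.map π).index ∣ S.index := Subgroup.index_map_dvd S hπ
  exact h1.trans (h2.trans h3)

end Scalar

end Cfsg.Agent.Lib.Helper2.CentralExt
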