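import Mathlib
import Cfsg.Agent.Lib.Helper2.CentralExt
import Cfsg.Agent.Lib.Helper2.CliffordDeg
import Cfsg.Agent.Lib.Helper4.Gallagher
import Cfsg.Agent.Lib.Helper1.CharFound7
import Cfsg.Agent.S0856
import Cfsg.Agent.S0139
import Cfsg.Agent.S0146
import Cfsg.Agent.S0161

set_option autoImplicit false

/-! The ratio `χ(1)/ϑ(1)` divides `|G : N|` for an irreducible constituent `ϑ` of `χ_N`. -/

namespace Cfsg.Agent.Lib.Helper2.DegRatio

open Cfsg Cfsg.Agent.Lib.Helper1 Cfsg.Agent.Lib.Helper4 Cfsg.Agent.Lib.Helper2.ProjExt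
  Cfsg.Agent.Lib.Helper2.CentralExt
open scoped ComplexConjugate

section Normalised

variable {G : Type*} [Group G] (N : Subgroup G) [hN : N.Normal]
  {V : Type*} [AddCommGroup V] [Module ℂ V] [FiniteDimensional ℂ V]
  (ρ : Representation ℂ N V)

/-- The determinant on units. -/
noncomputable def detU : (Module.End ℂ V)ˣ →* ℂˣ :=
  Units.map (LinearMap.det : Module.End ℂ V →* ℂ)

theorem detU_sc (c : ℂˣ) : detU (V := V) (sc c) = c ^ Module.finrank ℂ V := by
  apply Units.ext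
  rw [Units.val_pow_eq_pow_val]
  exact det_sc c

/-- A projective extension with determinant one. -/
theorem exists_normalised [Finite G] [ρ.IsIrreducible]
    (hinv : ∀ (g : G) (x : N), ρ.character (MulAut.conjNormal g x) = ρ.character x) :
    ∃ (X : G → (Module.End ℂ V)ˣ) (γ : G → ℂˣ) (α : G → G → ℂˣ),
      (∀ (g : G) (n : N), X g * ρ.toHomUnits n * (X g)⁻¹ = ρ.toHomUnits (MulAut.conjNormal g n)) ∧
      (∀ x : N, X x = sc (γ x) * ρ.toHomUnits x) ∧
      (∀ g h : G, X g * X h = sc (α g h) * X (g * h)) ∧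
      (∀ g h : G, α g h ^ Module.finrank ℂ V = 1) ∧
      (∀ x : N, γ x ^ (Module.finrank ℂ V * Nat.card N) = 1) := by
  classical
  haveI := Cfsg.Agent.Lib.Helper1.nontrivial_of_irreducible ρ
  set n := Module.finrank ℂ V with hn
  have hn0 : 0 < n := Module.finrank_pos
  obtain ⟨X₀, hX₀, -, -⟩ := exists_projExt N ρ hinv N le_rfl ρ.toHomUnits (fun _ => rfl)
  obtain ⟨α₀, hα₀⟩ := hX₀.exists_alpha
  have hγ : ∀ g : G, ∃ c : ℂˣ, c ^ n = (detU (X₀ g))⁻¹ := by
    intro g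
    obtain ⟨z, hz⟩ := IsAlgClosed.exists_pow_nat_eq (((detU (X₀ g))⁻¹ : ℂˣ) : ℂ) hn0
    have hz0 : z ≠ 0 := by
      rintro rfl
      rw [zero_pow hn0.ne'] at hz
      exact (Units.ne_zero _) hz.symm
    refine ⟨Units.mk0 z hz0, ?_⟩
    apply Units.ext
    rw [Units.val_pow_eq_pow_val]
    exact hz
  choose γ hγ using hγ
  let X : G → (Module.End ℂ V)ˣ := fun g => sc (γ g) * X₀ g
  have hdet : ∀ g : G, detU (X g) = 1 := by
    intro g
    show detU (sc (γ g) * X₀ g) = 1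
    rw [map_mul, detU_sc, hγ g, inv_mul_cancel]
  let α : G → G → ℂˣ := fun g h => γ g * γ h * α₀ g h * (γ (g * h))⁻¹
  have hα : ∀ g h : G, X g * X h = sc (α g h) * X (g * h) := by
    intro g h
    show sc (γ g) * X₀ g * (sc (γ h) * X₀ h) = sc (γ g * γ h * α₀ g h * (γ (g * h))⁻¹) *
      (sc (γ (g * h)) * X₀ (g * h))
    rw [← mul_assoc (sc _) (sc _), ← map_mul, inv_mul_cancel_right, map_mul, map_mul, mul_assoc,
      mul_assoc, ← hα₀ g h, ← mul_assoc (X₀ g), ← sc_comm (γ h) (X₀ g)]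
    simp only [mul_assoc]
  refine ⟨X, γ, α, ?_, ?_, hα, ?_, ?_⟩
  · intro g x
    show sc (γ g) * X₀ g * ρ.toHomUnits x * (sc (γ g) * X₀ g)⁻¹ = _
    rw [← hX₀.conj g x]
    have h1 : sc (γ g) * X₀ g * ρ.toHomUnits x * (sc (γ g) * X₀ g)⁻¹
        = sc (γ g) * (X₀ g * ρ.toHomUnits x * (X₀ g)⁻¹) * (sc (γ g))⁻¹ := by group
    rw [h1, sc_comm, mul_inv_cancel_right]
  · intro x
    show sc (γ x) * X₀ x = _
    rw [hX₀.res x]
  · intro g h
    have h1 : detU (X g) * detU (X h) = detU (V := V) (sc (α g h)) * detU (X (g * h)) := by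
      rw [← map_mul, ← map_mul, hα]
    rw [hdet, hdet, hdet, mul_one, mul_one, detU_sc] at h1
    exact h1.symm
  · intro x
    have h1 : detU (X x) = γ x ^ n * detU (ρ.toHomUnits x) := by
      show detU (sc (γ x) * X₀ x) = _
      rw [hX₀.res x, map_mul, detU_sc]
    rw [hdet] at h1
    have h2 : detU (ρ.toHomUnits x) ^ Nat.card N = 1 := by
      rw [← map_pow, ← map_pow, pow_card_eq_one', map_one, map_one]
    have h3 : γ x ^ n = (detU (ρ.toHomUnits x))⁻¹ := by
      rw [eq_inv_iff_mul_eq_one]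
      exact h1.symm
    rw [pow_mul, h3, inv_pow, h2, inv_one]

end Normalised


section Invariant

universe u

theorem classInner_comp_mulEquiv' {A B : Type*} [Group A] [Group B] [Fintype A] [Fintype B]
    (e : A ≃* B) (f h : B → ℂ) :
    Cfsg.classInner (fun a => f (e a)) (fun a => h (e a)) = Cfsg.classInner f h := by
  rw [classInner_def, classInner_def, Nat.card_congr e.toEquiv]
  congr 1
  exact Equiv.sum_comp e.toEquiv (fun x => f x * conj (h x))

variable {G : Type u} [Group G] [Fintype G] (N : Subgroup G) [hN : N.Normal] [Fintype N]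

/-- The invariant case: `χ(1) = e ϑ(1)` with `e` dividing the index of `N`. -/
theorem ratio_dvd_of_invariant (χ : G → ℂ) (hχ : Cfsg.IsIrrCharacter G χ) (ϑ : N → ℂ)
    (hϑ : Cfsg.IsIrrCharacter N ϑ)
    (hinv : ∀ (g : G) (n : N), ϑ ⟨g * n * g⁻¹, hN.conj_mem (n : G) n.2 g⟩ = ϑ n)
    (hcon : Cfsg.classInner (fun n : N => χ n) ϑ ≠ 0) :
    ∃ e : ℕ, χ 1 = (e : ℂ) * ϑ 1 ∧ e ∣ N.index := by
  classical
  obtain ⟨n, ρ, hρ, rfl⟩ := hϑ
  haveI := hρ
  have hinv' : ∀ (g : G) (x : N), ρ.character (MulAut.conjNormal g x) = ρ.character x := by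
    intro g x
    have h1 := hinv g x
    have h2 : (MulAut.conjNormal g x : N) = ⟨g * x * g⁻¹, hN.conj_mem (x : G) x.2 g⟩ := by
      apply Subtype.ext
      rw [MulAut.conjNormal_apply]
    rw [h2]
    exact h1
  obtain ⟨X, γ, α, hconj, hres, hα, hαn, hγN⟩ := exists_normalised N ρ hinv'
  have hfr : Module.finrank ℂ (Fin n → ℂ) = n := Module.finrank_fin_fun ℂ
  rw [hfr] at hαn hγN
  haveI := Cfsg.Agent.Lib.Helper1.nontrivial_of_irreducible ρ
  have hn0 : n ≠ 0 := by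
    rw [← hfr]
    exact (Module.finrank_pos (R := ℂ) (M := Fin n → ℂ)).ne'
  set M := n * Nat.card N with hM
  have hM0 : M ≠ 0 := Nat.mul_ne_zero hn0 Nat.card_pos.ne'
  haveI : NeZero M := ⟨hM0⟩
  set A : Subgroup ℂˣ := rootsOfUnity M ℂ with hA
  have hαA : ∀ g h : G, α g h ∈ A := by
    intro g h
    rw [hA, mem_rootsOfUnity, hM, pow_mul, hαn, one_pow]
  have hγA : ∀ x : N, γ x ∈ A := by
    intro x
    rw [hA, mem_rootsOfUnity]
    exact hγN x
  have hmul : ∀ g h : G, ∃ a ∈ A, X g * X h = sc a * X (g * h) :=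
    fun g h => ⟨α g h, hαA g h, hα g h⟩
  have hone : ∃ a ∈ A, X 1 = sc a := by
    refine ⟨γ ((1 : N) : G), hγA 1, ?_⟩
    have h1 := hres 1
    rw [map_one, mul_one] at h1
    exact h1
  let Γ : Subgroup ((Module.End ℂ (Fin n → ℂ))ˣ × G) := extGroup A X hmul hone
  haveI : Finite Γ := finite_extGroup A X hmul hone
  haveI : Fintype Γ := Fintype.ofFinite Γ
  let π : Γ →* G := proj A X hmul hone
  have hπ : Function.Surjective π := proj_surjective A X hmul hone
  let Xh : Representation ℂ Γ (Fin n → ℂ) := rep A X hmul hone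
  let ι : N →* Γ :=
    { toFun := fun x => ⟨(ρ.toHomUnits x, (x : G)), ⟨(γ x)⁻¹, A.inv_mem (hγA x), by
        show ρ.toHomUnits x = sc (γ x)⁻¹ * X x
        rw [hres x, ← mul_assoc, ← map_mul, inv_mul_cancel, map_one, one_mul]⟩⟩
      map_one' := Subtype.ext (Prod.ext (map_one _) rfl)
      map_mul' := fun x y => Subtype.ext (Prod.ext (map_mul _ x y) rfl) }
  have hι1 : ∀ x : N, ((ι x : Γ) : (Module.End ℂ (Fin n → ℂ))ˣ × G).1 = ρ.toHomUnits x :=
    fun x => rfl
  have hι2 : ∀ x : N, ((ι x : Γ) : (Module.End ℂ (Fin n → ℂ))ˣ × G).2 = (x : G) := fun x => rfl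
  have hπι : ∀ x : N, π (ι x) = (x : G) := fun x => rfl
  have hι : Function.Injective ι := by
    intro x y h
    apply Subtype.ext
    have h1 := congrArg π h
    rw [hπι, hπι] at h1
    exact h1
  set Nt : Subgroup Γ := ι.range with hNt
  haveI hNtn : Nt.Normal := by
    refine ⟨fun y hy x => ?_⟩
    obtain ⟨n₀, rfl⟩ := hy
    obtain ⟨⟨T, g⟩, a, ha, hT⟩ := x
    refine ⟨MulAut.conjNormal g n₀, ?_⟩
    apply Subtype.ext
    apply Prod.ext
    · show ρ.toHomUnits (MulAut.conjNormal g n₀) = T * ρ.toHomUnits n₀ * T⁻¹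
      have hT' : T = sc a * X g := hT
      rw [hT', ← hconj g n₀]
      have h1 : sc a * X g * ρ.toHomUnits n₀ * (sc a * X g)⁻¹
          = sc a * (X g * ρ.toHomUnits n₀ * (X g)⁻¹) * (sc a)⁻¹ := by group
      rw [h1, sc_comm, mul_inv_cancel_right]
    · show ((MulAut.conjNormal g n₀ : N) : G) = g * n₀ * g⁻¹
      rw [MulAut.conjNormal_apply]
  haveI : Fintype Nt := Fintype.ofFinite Nt
  let e : N ≃* Nt := MonoidHom.ofInjective hι
  have he : ∀ x : N, ((e x : Nt) : Γ) = ι x := fun x => MonoidHom.ofInjective_apply hι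
  set ϑt : Nt → ℂ := fun y => ρ.character (e.symm y) with hϑt
  have hϑtirr : Cfsg.IsIrrCharacter Nt ϑt := isIrrCharacter_comp_mulEquiv ⟨n, ρ, hρ, rfl⟩ e.symm
  have hXhι : (Xh.comp ι : Representation ℂ N (Fin n → ℂ)) = ρ := by
    apply MonoidHom.ext
    intro x
    rfl
  have hXhirr : Xh.IsIrreducible := by
    apply Cfsg.Agent.S0179.isIrreducible_of_comp Xh ι
    rw [hXhι]
    exact hρ
  set ξ : Γ → ℂ := Xh.character with hξdef
  have hξ : Cfsg.IsIrrCharacter Γ ξ := ⟨n, Xh, hXhirr, rfl⟩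
  have hext : ∀ y : Nt, ξ y = ϑt y := by
    intro y
    obtain ⟨x, rfl⟩ := e.surjective y
    rw [he x]
    show Xh.character (ι x) = ρ.character (e.symm (e x))
    rw [MulEquiv.symm_apply_apply]
    rfl
  have hξcls := isClassFunction_irr hξ
  have hϑtinv : ∀ (g : Γ) (y : Nt), ϑt ⟨g * y * g⁻¹, hNtn.conj_mem (y : Γ) y.2 g⟩ = ϑt y := by
    intro g y
    rw [← hext, ← hext]
    exact hξcls y g
  set φ : Nt → ℂ := fun _ => 1 with hφdef
  have hφ : Cfsg.IsIrrCharacter Nt φ := Cfsg.Agent.S0161.isIrrCharacter_one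
  have hprod : φ * ϑt = ϑt := by
    funext y
    rw [Pi.mul_apply, one_mul]
  set χh : Γ → ℂ := fun x => χ (π x) with hχhdef
  have hχh : Cfsg.IsIrrCharacter Γ χh := by
    obtain ⟨m, σ, hσ, rfl⟩ := hχ
    exact ⟨m, σ.comp π, isIrreducible_comp_surjective σ hσ π hπ, rfl⟩
  have hmem : Cfsg.classInner (Cfsg.indFun Nt (φ * ϑt)) χh ≠ 0 := by
    rw [hprod, Cfsg.Agent.S0146.result Nt ϑt χh (isClassFunction_irr hχh),
      ← classInner_comp_mulEquiv' e ϑt (fun y : Nt => χh y)]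
    have h1 : (fun a : N => ϑt (e a)) = ρ.character := by
      funext a
      show ρ.character (e.symm (e a)) = _
      rw [MulEquiv.symm_apply_apply]
    have h2 : (fun a : N => χh ((e a : Nt) : Γ)) = fun a : N => χ a := by
      funext a
      rw [he a]
      rfl
    rw [h1, h2, ← classInner_conj_symm]
    intro h0
    apply hcon
    have := congrArg conj h0
    rwa [Complex.conj_conj, map_zero] at this
  obtain ⟨β, ⟨hβirr, hβ1⟩, hβeq⟩ := (Cfsg.Agent.S0856.result Nt φ ϑt hφ hϑtirr (fun _ _ => rfl)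
    hϑtinv (by rw [hprod]; exact hϑtirr) ξ hξ hext).surjOn ⟨hχh, hmem⟩
  have hβeq' : β * ξ = χh := hβeq
  have hβNt : ∀ y : Nt, β y = β 1 := by
    have hc : Cfsg.classInner (fun y : Nt => β y) φ ≠ 0 := by
      rw [Cfsg.Agent.S0146.result Nt φ β (isClassFunction_irr hβirr), ← classInner_conj_symm] at hβ1
      intro h0
      apply hβ1
      rw [h0, map_zero]
    intro y
    have h1 := restrict_of_invariant Nt φ hφ (fun _ _ => rfl) β hβirr hc y
    have h2 := restrict_of_invariant Nt φ hφ (fun _ _ => rfl) β hβirr hc 1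
    rw [OneMemClass.coe_one] at h2
    rw [h1, h2]
  obtain ⟨m, τ, hτ, rfl⟩ := hβirr
  haveI := hτ
  have hτ1 : τ.character 1 = (Module.finrank ℂ (Fin m → ℂ) : ℂ) := Representation.char_one τ
  have hτNt : ∀ y : Nt, τ (y : Γ) = LinearMap.id := by
    intro y
    rw [← Cfsg.Agent.S0139.result τ (y : Γ), ← hτ1]
    exact hβNt y
  set S : Subgroup Γ := N.comap π with hS
  have hSsc : ∀ s ∈ S, ∃ c : ℂ, τ s = c • LinearMap.id := by
    intro s hs
    let x : N := ⟨π s, hs⟩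
    set z : Γ := s * (ι x)⁻¹ with hz
    have hzc : ∀ w : Γ, z * w = w * z := by
      intro w
      obtain ⟨a, ha, hsa⟩ := s.2
      have h1 : ((z : Γ) : (Module.End ℂ (Fin n → ℂ))ˣ × G).1 = sc (a * γ x) := by
        show ((s : (Module.End ℂ (Fin n → ℂ))ˣ × G).1) * (ρ.toHomUnits x)⁻¹ = _
        rw [hsa]
        have h2 : X ((s : (Module.End ℂ (Fin n → ℂ))ˣ × G).2) = sc (γ x) * ρ.toHomUnits x :=
          hres x
        rw [h2, map_mul, mul_assoc, mul_assoc, mul_inv_cancel, mul_one]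
      have h3 : ((z : Γ) : (Module.End ℂ (Fin n → ℂ))ˣ × G).2 = 1 := by
        show ((s : (Module.End ℂ (Fin n → ℂ))ˣ × G).2) * ((x : G))⁻¹ = 1
        exact mul_inv_cancel _
      apply Subtype.ext
      apply Prod.ext
      · show ((z : Γ) : (Module.End ℂ (Fin n → ℂ))ˣ × G).1 *
            ((w : Γ) : (Module.End ℂ (Fin n → ℂ))ˣ × G).1 =
          ((w : Γ) : (Module.End ℂ (Fin n → ℂ))ˣ × G).1 *
            ((z : Γ) : (Module.End ℂ (Fin n → ℂ))ˣ × G).1
        rw [h1, sc_comm]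
      · show ((z : Γ) : (Module.End ℂ (Fin n → ℂ))ˣ × G).2 *
            ((w : Γ) : (Module.End ℂ (Fin n → ℂ))ˣ × G).2 =
          ((w : Γ) : (Module.End ℂ (Fin n → ℂ))ˣ × G).2 *
            ((z : Γ) : (Module.End ℂ (Fin n → ℂ))ˣ × G).2
        rw [h3, one_mul, mul_one]
    obtain ⟨c, hc⟩ := Cfsg.Agent.Lib.Helper1.scalar_of_commute τ (τ z) (fun w => by
      show τ z * τ w = τ w * τ z
      rw [← map_mul, ← map_mul, hzc])
    refine ⟨c, ?_⟩
    have h4 : s = z * ι x := by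
      rw [hz, inv_mul_cancel_right]
    have h5 : τ (ι x) = LinearMap.id := hτNt ⟨ι x, ⟨x, rfl⟩⟩
    rw [h4, map_mul, h5, hc]
    rfl
  have hdvd := finrank_dvd_index_of_scalar τ S hSsc
  rw [hS, Subgroup.index_comap_of_surjective N hπ, Module.finrank_fin_fun] at hdvd
  refine ⟨m, ?_, hdvd⟩
  have h6 : χ 1 = χh 1 := by
    show χ 1 = χ (π 1)
    rw [map_one]
  rw [h6, ← hβeq', Pi.mul_apply, hτ1, Module.finrank_fin_fun]
  congr 1
  show Xh.character 1 = ρ.character 1
  rw [Representation.char_one, Representation.char_one]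

end Invariant

end Cfsg.Agent.Lib.Helper2.DegRatio
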