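import Mathlib
import Cfsg.Prelude
import Cfsg.Agent.S0174
import Cfsg.Agent.S0176
import Cfsg.Agent.Lib.Helper1.CliffordCorr
import Cfsg.Agent.Lib.Helper1.CharFound5
import Cfsg.Agent.Lib.Helper4.CharTools
import Cfsg.Agent.Lib.Helper4.Gallagher
import Cfsg.Agent.Lib.Helper4.IndNormal
import Cfsg.Agent.Lib.Helper2.DegRatio

set_option autoImplicit false

/-! Restriction of an invariant irreducible character to an abelian chief factor
(Isaacs, Theorem 6.18). -/

namespace Cfsg.Agent.Lib.Helper2.ChiefRestrict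

open Cfsg Cfsg.Agent.Lib.Helper1 Cfsg.Agent.Lib.Helper4 Cfsg.Agent.S0193 Cfsg.Agent.S0194
open scoped ComplexConjugate

universe u

section Inertia

variable {X : Type u} [Group X] [Fintype X] (Y : Subgroup X) [hY : Y.Normal] [Fintype Y]

/-- restriction of an automorphism preserving `Y`. -/
def resEquiv (σ : X ≃* X) (hσY : ∀ y, σ y ∈ Y ↔ y ∈ Y) : Y ≃* Y where
  toFun y := ⟨σ y, (hσY y).2 y.2⟩
  invFun y := ⟨σ.symm y, (hσY _).1 (by rw [MulEquiv.apply_symm_apply]; exact y.2)⟩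
  left_inv y := Subtype.ext (σ.symm_apply_apply y)
  right_inv y := Subtype.ext (σ.apply_symm_apply y)
  map_mul' a b := Subtype.ext (by simp)

omit [Fintype X] hY [Fintype Y] in
theorem resEquiv_coe (σ : X ≃* X) (hσY : ∀ y, σ y ∈ Y ↔ y ∈ Y) (y : Y) :
    ((resEquiv Y σ hσY y : Y) : X) = σ y := rfl

/-- The inertia group of a constituent of the restriction of an invariant character is invariant,
when the quotient is abelian. -/
theorem inertia_invariant (hab : ∀ a b : X, a⁻¹ * b⁻¹ * a * b ∈ Y) {ϑ : X → ℂ}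
    (hϑ : Cfsg.IsIrrCharacter X ϑ) {φ : Y → ℂ} (hφ : Cfsg.IsIrrCharacter Y φ)
    (hcon : Cfsg.classInner (fun y : Y => ϑ y) φ ≠ 0) (σ : X ≃* X)
    (hσY : ∀ y, σ y ∈ Y ↔ y ∈ Y) (hσϑ : ∀ x, ϑ (σ x) = ϑ x) {t : X} (ht : t ∈ inertia Y φ) :
    σ t ∈ inertia Y φ := by
  classical
  let e := resEquiv Y σ hσY
  let φσ : Y → ℂ := fun y => φ (e y)
  have hφσ : Cfsg.IsIrrCharacter Y φσ := isIrrCharacter_comp_mulEquiv hφ e
  have hcon' : Cfsg.classInner (fun y : Y => ϑ y) φσ ≠ 0 := by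
    have h1 : (fun y : Y => ϑ y) = fun y : Y => (fun z : Y => ϑ z) (e y) := by
      funext y
      show ϑ y = ϑ (σ y)
      rw [hσϑ]
    rw [h1]
    rw [Cfsg.Agent.Lib.Helper2.DegRatio.classInner_comp_mulEquiv' e (fun z : Y => ϑ z) φ]
    exact hcon
  have hex : ∃ x : X, Cfsg.Agent.S0193.conjFun Y φσ x = φ := by
    by_contra hne
    push Not at hne
    exact hcon' (Cfsg.Agent.S0174.classInner_restrict_eq_zero Y ϑ hϑ φ φσ hφ hφσ hcon hne)
  obtain ⟨x, hx⟩ := hex
  have hx' : ∀ y : Y, φ (e ⟨x * y * x⁻¹, hY.conj_mem y y.2 x⟩) = φ y := fun y => congrFun hx y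
  have ht' : ∀ y : Y, φ ⟨t * y * t⁻¹, hY.conj_mem y y.2 t⟩ = φ y := fun y => congrFun ht y
  have hφc := isClassFunction_irr hφ
  rw [mem_inertia]
  funext y
  show φ ⟨σ t * y * (σ t)⁻¹, _⟩ = φ y
  -- y = σ (x y' x⁻¹)
  have hy'mem : x⁻¹ * σ.symm y * x ∈ Y := by
    have h1 : σ.symm y ∈ Y := (hσY _).1 (by rw [MulEquiv.apply_symm_apply]; exact y.2)
    have := hY.conj_mem _ h1 x⁻¹
    rwa [inv_inv] at this
  let y' : Y := ⟨x⁻¹ * σ.symm y * x, hy'mem⟩
  have h1 : e ⟨x * y' * x⁻¹, hY.conj_mem y' y'.2 x⟩ = y := by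
    apply Subtype.ext
    show σ (x * (x⁻¹ * σ.symm y * x) * x⁻¹) = y
    have : x * (x⁻¹ * σ.symm y * x) * x⁻¹ = σ.symm y := by group
    rw [this, MulEquiv.apply_symm_apply]
  have h2 : φ y = φ y' := by
    rw [← hx' y', h1]
  -- c = t⁻¹ x⁻¹ t x ∈ Y
  let c : Y := ⟨t⁻¹ * x⁻¹ * t * x, hab t x⟩
  let y'' : Y := ⟨t * (c * y' * c⁻¹ : Y) * t⁻¹, hY.conj_mem _ (c * y' * c⁻¹ : Y).2 t⟩
  have h3 : e ⟨x * y'' * x⁻¹, hY.conj_mem y'' y''.2 x⟩
      = ⟨σ t * y * (σ t)⁻¹, hY.conj_mem y y.2 (σ t)⟩ := by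
    apply Subtype.ext
    show σ (x * (t * ((t⁻¹ * x⁻¹ * t * x) * (x⁻¹ * σ.symm y * x) * (t⁻¹ * x⁻¹ * t * x)⁻¹) * t⁻¹) * x⁻¹)
      = σ t * y * (σ t)⁻¹
    have : x * (t * ((t⁻¹ * x⁻¹ * t * x) * (x⁻¹ * σ.symm y * x) * (t⁻¹ * x⁻¹ * t * x)⁻¹) * t⁻¹) * x⁻¹
        = t * σ.symm y * t⁻¹ := by group
    rw [this, map_mul, map_mul, map_inv, MulEquiv.apply_symm_apply]
  rw [← h3, hx' y'', h2]
  show φ ⟨t * (c * y' * c⁻¹ : Y) * t⁻¹, _⟩ = φ y'
  rw [ht' (c * y' * c⁻¹), hφc y' c]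

/-- Clifford's theorem in finset form, with the orbit count. -/
theorem clifford_finset {ϑ : X → ℂ} (hϑ : Cfsg.IsIrrCharacter X ϑ) {φ : Y → ℂ}
    (hφ : Cfsg.IsIrrCharacter Y φ) (hcon : Cfsg.classInner (fun y : Y => ϑ y) φ ≠ 0) :
    ∃ F : Finset (Y → ℂ), (∀ ψ ∈ F, Cfsg.IsIrrCharacter Y ψ) ∧ φ ∈ F ∧
      (∀ ψ ∈ F, ∃ g : X, ψ = Cfsg.Agent.S0193.conjFun Y φ g) ∧
      F.card * Nat.card (inertia Y φ) = Nat.card X ∧
      (fun y : Y => ϑ y) = Cfsg.classInner (fun y : Y => ϑ y) φ • ∑ ψ ∈ F, ψ := by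
  classical
  let F : Finset (Y → ℂ) := Finset.univ.image (fun g : X => Cfsg.Agent.S0193.conjFun Y φ g)
  have hFmem : ∀ ψ, ψ ∈ F ↔ ∃ g : X, ψ = Cfsg.Agent.S0193.conjFun Y φ g := by
    intro ψ
    simp only [F, Finset.mem_image, Finset.mem_univ, true_and]
    constructor
    · rintro ⟨g, rfl⟩; exact ⟨g, rfl⟩
    · rintro ⟨g, rfl⟩; exact ⟨g, rfl⟩
  refine ⟨F, ?_, ?_, ?_, ?_, ?_⟩
  · intro ψ hψ
    obtain ⟨g, rfl⟩ := (hFmem ψ).1 hψ
    exact conjFun_irr Y φ hφ g
  · exact (hFmem φ).2 ⟨1, (conjFun_one Y φ).symm⟩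
  · intro ψ hψ
    exact (hFmem ψ).1 hψ
  · have h1 : Nat.card X = ∑ ψ ∈ F, (Finset.univ.filter
        (fun g : X => Cfsg.Agent.S0193.conjFun Y φ g = ψ)).card := by
      rw [Nat.card_eq_fintype_card, ← Finset.card_univ]
      exact Finset.card_eq_sum_card_image _ _
    have h2 : ∀ ψ ∈ F, (Finset.univ.filter
        (fun g : X => Cfsg.Agent.S0193.conjFun Y φ g = ψ)).card = Nat.card (inertia Y φ) := by
      intro ψ hψ
      obtain ⟨g₀, rfl⟩ := (hFmem ψ).1 hψ
      have h3 := card_fiber_conjFn Y φ g₀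
      rw [Nat.card_eq_fintype_card, Fintype.card_subtype] at h3
      rw [show (Finset.univ.filter (fun g : X => Cfsg.Agent.S0193.conjFun Y φ g
          = Cfsg.Agent.S0193.conjFun Y φ g₀)) = (Finset.univ.filter
            (fun g : X => conjFn Y φ g = conjFn Y φ g₀)) from rfl, h3]
      apply Nat.card_congr
      refine Equiv.subtypeEquivRight ?_
      intro g
      rw [mem_inertia]
      constructor
      · intro h; exact funext h
      · intro h y; exact congrFun h y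
    rw [h1, Finset.sum_congr rfl h2, Finset.sum_const, smul_eq_mul]
  · have h1 := Cfsg.Agent.S0174.result Y hY ϑ hϑ φ hφ hcon
    have hset : {ψ : Y → ℂ | ∃ g : X, ψ = fun n : Y => φ ⟨g * n * g⁻¹, hY.conj_mem n n.2 g⟩}
        = ↑F := by
      ext ψ
      rw [Finset.mem_coe, hFmem]
      rfl
    rw [hset, finsum_mem_coe_finset] at h1
    exact h1

end Inertia

section Norm

variable {X : Type u} [Group X] [Fintype X]

/-- the squared norm of a function as a real sum. -/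
noncomputable def nrm (f : X → ℂ) : ℝ := ∑ x : X, Complex.normSq (f x)

theorem nrm_eq (f : X → ℂ) : ((nrm f : ℝ) : ℂ) = (Nat.card X : ℂ) * Cfsg.classInner f f := by
  have hX0 : (Nat.card X : ℂ) ≠ 0 := Nat.cast_ne_zero.2 Nat.card_pos.ne'
  rw [classInner_def, ← mul_assoc, mul_inv_cancel₀ hX0, one_mul]
  unfold nrm
  rw [Complex.ofReal_sum]
  refine Finset.sum_congr rfl fun x _ => ?_
  rw [Complex.mul_conj]

theorem nrm_restrict_le (Y : Subgroup X) [Fintype Y] (f : X → ℂ) :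
    nrm (fun y : Y => f y) ≤ nrm f := by
  classical
  unfold nrm
  have h1 : ∑ y : Y, Complex.normSq (f y)
      = ∑ x ∈ Finset.univ.filter (fun x : X => x ∈ Y), Complex.normSq (f x) := by
    rw [← Finset.sum_subtype (Finset.univ.filter (fun x : X => x ∈ Y))
      (fun x => by simp) (fun x => Complex.normSq (f x))]
  rw [h1]
  exact Finset.sum_le_sum_of_subset_of_nonneg (Finset.subset_univ _)
    (fun x _ _ => Complex.normSq_nonneg _)

theorem nrm_restrict_eq (Y : Subgroup X) [Fintype Y] (f : X → ℂ) (hf : ∀ x, f x ≠ 0 → x ∈ Y) :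
    nrm (fun y : Y => f y) = nrm f := by
  classical
  unfold nrm
  have h1 : ∑ y : Y, Complex.normSq (f y)
      = ∑ x ∈ Finset.univ.filter (fun x : X => x ∈ Y), Complex.normSq (f x) := by
    rw [← Finset.sum_subtype (Finset.univ.filter (fun x : X => x ∈ Y))
      (fun x => by simp) (fun x => Complex.normSq (f x))]
  rw [h1]
  apply Finset.sum_subset (Finset.subset_univ _)
  intro x _ hx
  have hxY : x ∉ Y := fun h => hx (Finset.mem_filter.2 ⟨Finset.mem_univ _, h⟩)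
  have : f x = 0 := by
    by_contra h0
    exact hxY (hf x h0)
  rw [this, map_zero]

/-- the norm of a multiple of a sum of distinct irreducible characters. -/
theorem classInner_smul_sum_irr (e : ℂ) (F : Finset (X → ℂ))
    (hF : ∀ ψ ∈ F, Cfsg.IsIrrCharacter X ψ) :
    Cfsg.classInner (e • ∑ ψ ∈ F, ψ) (e • ∑ ψ ∈ F, ψ) = e * conj e * (F.card : ℂ) := by
  classical
  rw [classInner_smul_left, classInner_smul_right, classInner_sum_left]
  have h1 : ∀ ψ ∈ F, Cfsg.classInner ψ (∑ ψ' ∈ F, ψ') = 1 := by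
    intro ψ hψ
    rw [classInner_sum_right]
    rw [Finset.sum_eq_single ψ]
    · exact classInner_irr_self (hF ψ hψ)
    · intro ψ' hψ' hne
      exact classInner_irr_ne (hF ψ hψ) (hF ψ' hψ') (fun h => hne h.symm)
    · intro h; exact absurd hψ h
  rw [Finset.sum_congr rfl h1, Finset.sum_const, nsmul_eq_mul, mul_one]
  ring

end Norm

section Cases

variable {X : Type u} [Group X] [Fintype X] (Y : Subgroup X) [hY : Y.Normal] [Fintype Y]

omit hY in
theorem nrm_irr {ϑ : X → ℂ} (hϑ : Cfsg.IsIrrCharacter X ϑ) : nrm ϑ = Nat.card X := by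
  have h1 := nrm_eq ϑ
  rw [classInner_irr_self hϑ, mul_one] at h1
  exact_mod_cast h1

/-- inertia group `Y`: the restriction is a sum of `|X : Y|` distinct conjugates. -/
theorem restrict_of_inertia_eq {ϑ : X → ℂ} (hϑ : Cfsg.IsIrrCharacter X ϑ) {φ : Y → ℂ}
    (hφ : Cfsg.IsIrrCharacter Y φ) (hcon : Cfsg.classInner (fun y : Y => ϑ y) φ ≠ 0)
    (hT : inertia Y φ = Y) :
    ∃ F : Finset (Y → ℂ), (∀ ψ ∈ F, Cfsg.IsIrrCharacter Y ψ) ∧ F.card = Y.index ∧
      (fun y : Y => ϑ y) = ∑ ψ ∈ F, ψ := by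
  classical
  obtain ⟨F, hFirr, -, -, hcard, hres⟩ := clifford_finset Y hϑ hφ hcon
  rw [hT] at hcard
  have hidx : F.card = Y.index := by
    have h1 := Subgroup.index_mul_card Y
    rw [← hcard] at h1
    exact (Nat.eq_of_mul_eq_mul_right Nat.card_pos h1).symm
  obtain ⟨m, hm⟩ := classInner_char_irr_nat
    (Cfsg.Agent.S0148.isCharacter_restrict Y (isCharacter_of_irr hϑ)) hφ
  have hm0 : m ≠ 0 := by
    rintro rfl
    exact hcon (by rw [hm]; simp)
  have h2 := nrm_restrict_le Y ϑ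
  rw [nrm_irr hϑ] at h2
  have h3 := nrm_eq (fun y : Y => ϑ y)
  rw [hres, classInner_smul_sum_irr _ F hFirr, ← hres, hm, Complex.conj_natCast] at h3
  have h4 : nrm (fun y : Y => ϑ y) = (Nat.card Y : ℝ) * ((m : ℝ) * (m : ℝ) * (F.card : ℝ)) := by
    exact_mod_cast h3
  rw [h4, ← hcard] at h2
  have h5 : (Nat.card Y * (m * m * F.card) : ℕ) ≤ F.card * Nat.card Y := by exact_mod_cast h2
  have hF0 : 0 < F.card := by
    rw [hidx]
    exact Nat.pos_of_ne_zero Subgroup.index_ne_zero_of_finite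
  have hY0 : 0 < Nat.card Y := Nat.card_pos
  have h6 : m * m ≤ 1 := by
    by_contra hlt
    push Not at hlt
    have : F.card * Nat.card Y < Nat.card Y * (m * m * F.card) := by
      calc F.card * Nat.card Y = Nat.card Y * (1 * F.card) := by ring
        _ < Nat.card Y * (m * m * F.card) := by
          apply Nat.mul_lt_mul_of_pos_left _ hY0
          exact Nat.mul_lt_mul_of_pos_right hlt hF0
    omega
  have hm1 : m = 1 := by
    rcases Nat.lt_or_ge m 2 with h | h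
    · omega
    · nlinarith
  refine ⟨F, hFirr, hidx, ?_⟩
  rw [hres, hm, hm1]
  simp

/-- inertia group `X`: the restriction is a multiple of `φ`. -/
theorem restrict_of_inertia_top {ϑ : X → ℂ} (hϑ : Cfsg.IsIrrCharacter X ϑ) {φ : Y → ℂ}
    (hφ : Cfsg.IsIrrCharacter Y φ) (hcon : Cfsg.classInner (fun y : Y => ϑ y) φ ≠ 0)
    (hT : inertia Y φ = ⊤) :
    ∃ m : ℕ, 0 < m ∧ (fun y : Y => ϑ y) = (m : ℂ) • φ ∧
      Cfsg.classInner (fun y : Y => ϑ y) (fun y : Y => ϑ y) = (m : ℂ) * (m : ℂ) := by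
  classical
  obtain ⟨F, hFirr, hφF, hFconj, -, hres⟩ := clifford_finset Y hϑ hφ hcon
  have hF : F = {φ} := by
    apply Finset.eq_singleton_iff_unique_mem.2
    refine ⟨hφF, ?_⟩
    intro ψ hψ
    obtain ⟨g, rfl⟩ := hFconj ψ hψ
    have hg : g ∈ inertia Y φ := by rw [hT]; exact Subgroup.mem_top g
    exact hg
  obtain ⟨m, hm⟩ := classInner_char_irr_nat
    (Cfsg.Agent.S0148.isCharacter_restrict Y (isCharacter_of_irr hϑ)) hφ
  have hm0 : m ≠ 0 := by
    rintro rfl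
    exact hcon (by rw [hm]; simp)
  rw [hF, Finset.sum_singleton, hm] at hres
  refine ⟨m, Nat.pos_of_ne_zero hm0, hres, ?_⟩
  rw [hres, classInner_smul_left, classInner_smul_right, classInner_irr_self hφ,
    Complex.conj_natCast, mul_one]

/-- fully ramified case: the character vanishes off `Y`. -/
theorem sq_eq_index_of_vanish {ϑ : X → ℂ} (hϑ : Cfsg.IsIrrCharacter X ϑ) {m : ℕ}
    (hnorm : Cfsg.classInner (fun y : Y => ϑ y) (fun y : Y => ϑ y) = (m : ℂ) * (m : ℂ))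
    (hvan : ∀ x, ϑ x ≠ 0 → x ∈ Y) : m ^ 2 = Y.index := by
  have h1 := nrm_restrict_eq Y ϑ hvan
  rw [nrm_irr hϑ] at h1
  have h3 := nrm_eq (fun y : Y => ϑ y)
  rw [hnorm, h1] at h3
  have h4 : Nat.card X = Nat.card Y * (m * m) := by exact_mod_cast h3
  have h5 := Subgroup.index_mul_card Y
  rw [h4, mul_comm] at h5
  have := Nat.eq_of_mul_eq_mul_left Nat.card_pos h5
  rw [sq]
  exact this.symm

/-- unramified case: the support of the character generates `X` modulo `Y`. -/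
theorem sq_le_one_of_generated (hab : ∀ a b : X, a⁻¹ * b⁻¹ * a * b ∈ Y) {ϑ : X → ℂ}
    (hϑ : Cfsg.IsIrrCharacter X ϑ) {m : ℕ}
    (hnorm : Cfsg.classInner (fun y : Y => ϑ y) (fun y : Y => ϑ y) = (m : ℂ) * (m : ℂ))
    (hgen : Subgroup.closure ((Y : Set X) ∪ {x | ϑ x ≠ 0}) = ⊤) : m * m ≤ 1 := by
  classical
  let A := X ⧸ Y
  let q : X →* A := QuotientGroup.mk' Y
  haveI : Fintype A := Fintype.ofFinite A
  haveI : Fintype (Cfsg.IrrCharacter A) := Fintype.ofFinite _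
  have hX0 : (Nat.card X : ℂ) ≠ 0 := Nat.cast_ne_zero.2 Nat.card_pos.ne'
  have hY0 : (Nat.card Y : ℂ) ≠ 0 := Nat.cast_ne_zero.2 Nat.card_pos.ne'
  have hAcomm : ∀ a b : A, a * b = b * a := by
    intro a b
    obtain ⟨x, rfl⟩ := QuotientGroup.mk'_surjective Y a
    obtain ⟨y, rfl⟩ := QuotientGroup.mk'_surjective Y b
    rw [← map_mul, ← map_mul]
    apply (QuotientGroup.eq).2
    have : (x * y)⁻¹ * (y * x) = y⁻¹ * x⁻¹ * y * x := by group
    rw [this]
    exact hab y x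
  have hlin : ∀ lam : Cfsg.IrrCharacter A, ∃ f : A →* ℂˣ, (lam : A → ℂ) = fun a => ((f a : ℂˣ) : ℂ) :=
    fun lam => exists_hom_of_isIrrCharacter lam.2 (Cfsg.Agent.S0176.irr_linear_of_comm hAcomm lam.2)
  choose f hf using hlin
  have hcard : Nat.card A * Nat.card Y = Nat.card X := Subgroup.index_mul_card Y
  -- key1
  have key1 : ∀ x : X, ∑ lam : Cfsg.IrrCharacter A, (lam : A → ℂ) (q x)
      = if x ∈ Y then (Nat.card A : ℂ) else 0 := by
    intro x
    have h1 := column_orthogonality (G := A) 1 (q x)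
    have h2 : ∀ lam : Cfsg.IrrCharacter A, (lam : A → ℂ) (q x) * conj ((lam : A → ℂ) 1)
        = (lam : A → ℂ) (q x) := by
      intro lam
      rw [Cfsg.Agent.S0176.irr_linear_of_comm hAcomm lam.2, map_one, mul_one]
    rw [Finset.sum_congr rfl (fun lam _ => h2 lam)] at h1
    rw [h1]
    have h3 : Subgroup.centralizer ({(1 : A)} : Set A) = ⊤ := by
      rw [Subgroup.centralizer_eq_top_iff_subset]
      intro a ha
      rw [Set.mem_singleton_iff.1 ha]
      exact Subgroup.one_mem _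
    rw [h3, Subgroup.card_top]
    unfold classIndicator
    by_cases hx : x ∈ Y
    · have : q x = 1 := (QuotientGroup.eq_one_iff x).2 hx
      rw [if_pos hx, this, if_pos (IsConj.refl 1), mul_one]
    · have : ¬ IsConj 1 (q x) := by
        intro hc
        exact hx ((QuotientGroup.eq_one_iff x).1 (isConj_one_right.1 hc))
      rw [if_neg hx, if_neg this, mul_zero]
  -- key2
  have key2 : ∑ lam : Cfsg.IrrCharacter A,
      Cfsg.classInner (fun x => (lam : A → ℂ) (q x) * ϑ x) ϑ = (m : ℂ) * (m : ℂ) := by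
    rw [← classInner_sum_left]
    rw [classInner_def]
    have h1 : ∀ x : X, (∑ lam : Cfsg.IrrCharacter A, fun x => (lam : A → ℂ) (q x) * ϑ x) x * conj (ϑ x)
        = if x ∈ Y then (Nat.card A : ℂ) * (ϑ x * conj (ϑ x)) else 0 := by
      intro x
      rw [Finset.sum_apply, ← Finset.sum_mul, key1 x]
      split_ifs
      · ring
      · simp
    rw [Finset.sum_congr rfl (fun x _ => h1 x), ← Finset.sum_filter]
    have h2 : ∑ x ∈ Finset.univ.filter (fun x : X => x ∈ Y), (Nat.card A : ℂ) * (ϑ x * conj (ϑ x))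
        = ∑ y : Y, (Nat.card A : ℂ) * (ϑ y * conj (ϑ y)) := by
      rw [← Finset.sum_subtype (Finset.univ.filter (fun x : X => x ∈ Y))
        (fun x => by simp) (fun x => (Nat.card A : ℂ) * (ϑ x * conj (ϑ x)))]
    rw [h2, ← Finset.mul_sum]
    rw [classInner_def] at hnorm
    have h3 : ∑ y : Y, ϑ y * conj (ϑ y) = (Nat.card Y : ℂ) * ((m : ℂ) * (m : ℂ)) := by
      rw [← hnorm]
      field_simp
    rw [h3]
    have h4 : (Nat.card X : ℂ) = (Nat.card A : ℂ) * (Nat.card Y : ℂ) := by exact_mod_cast hcard.symm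
    rw [h4]
    have hA0 : (Nat.card A : ℂ) ≠ 0 := Nat.cast_ne_zero.2 Nat.card_pos.ne'
    field_simp
  -- key3
  have key3 : ∀ lam : Cfsg.IrrCharacter A,
      Cfsg.classInner (fun x => (lam : A → ℂ) (q x) * ϑ x) ϑ
        = if (fun x => (lam : A → ℂ) (q x) * ϑ x) = ϑ then 1 else 0 := by
    intro lam
    have h1 : Cfsg.IsIrrCharacter X (fun x => (lam : A → ℂ) (q x) * ϑ x) := by
      have := isIrrCharacter_hom_mul ((f lam).comp q) hϑ
      convert this using 2
      rename_i x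
      rw [hf lam]
      rfl
    exact classInner_irr h1 hϑ
  -- key4
  have key4 : ∀ lam : Cfsg.IrrCharacter A, (fun x => (lam : A → ℂ) (q x) * ϑ x) = ϑ →
      (lam : A → ℂ) = fun _ => 1 := by
    intro lam hlam
    have hker : Subgroup.closure ((Y : Set X) ∪ {x | ϑ x ≠ 0}) ≤ ((f lam).comp q).ker := by
      rw [Subgroup.closure_le]
      rintro x (hx | hx)
      · rw [SetLike.mem_coe, MonoidHom.mem_ker, MonoidHom.comp_apply]
        have : q x = 1 := (QuotientGroup.eq_one_iff x).2 hx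
        rw [this, map_one]
      · rw [SetLike.mem_coe, MonoidHom.mem_ker, MonoidHom.comp_apply]
        have h1 := congrFun hlam x
        have h2 : (lam : A → ℂ) (q x) = 1 := by
          have h3 : ((lam : A → ℂ) (q x) - 1) * ϑ x = 0 := by
            rw [sub_mul, one_mul, sub_eq_zero]
            exact h1
          rcases mul_eq_zero.1 h3 with h | h
          · exact sub_eq_zero.1 h
          · exact absurd h hx
        rw [hf lam] at h2
        exact Units.ext h2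
    rw [hgen] at hker
    funext a
    obtain ⟨x, rfl⟩ := QuotientGroup.mk'_surjective Y a
    have h1 : ((f lam).comp q) x = 1 := hker (Subgroup.mem_top x)
    rw [hf lam]
    show (((f lam) (q x) : ℂˣ) : ℂ) = 1
    rw [MonoidHom.comp_apply] at h1
    rw [h1, Units.val_one]
  rw [Finset.sum_congr rfl (fun lam _ => key3 lam), Finset.sum_boole] at key2
  have h5 : (Finset.univ.filter (fun lam : Cfsg.IrrCharacter A =>
      (fun x => (lam : A → ℂ) (q x) * ϑ x) = ϑ)).card ≤ 1 := by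
    rw [Finset.card_le_one]
    intro a ha b hb
    rw [Finset.mem_filter] at ha hb
    apply Subtype.ext
    rw [key4 a ha.2, key4 b hb.2]
  have h6 : m * m = (Finset.univ.filter (fun lam : Cfsg.IrrCharacter A =>
      (fun x => (lam : A → ℂ) (q x) * ϑ x) = ϑ)).card := by exact_mod_cast key2.symm
  rw [h6]
  exact h5

/-- Isaacs, Theorem 6.18, for a group `X` with a set of automorphisms. -/
theorem main (hab : ∀ a b : X, a⁻¹ * b⁻¹ * a * b ∈ Y) {ϑ : X → ℂ}
    (hϑ : Cfsg.IsIrrCharacter X ϑ) (𝒜 : Set (X ≃* X))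
    (hσY : ∀ σ ∈ 𝒜, ∀ y, σ y ∈ Y ↔ y ∈ Y) (hσϑ : ∀ σ ∈ 𝒜, ∀ x, ϑ (σ x) = ϑ x)
    (hchief : ∀ M : Subgroup X, Y ≤ M → (∀ σ ∈ 𝒜, ∀ m ∈ M, σ m ∈ M) → M = Y ∨ M = ⊤) :
    Cfsg.IsIrrCharacter Y (fun y : Y => ϑ y) ∨
    (∃ (φ : Y → ℂ) (e : ℕ), Cfsg.IsIrrCharacter Y φ ∧ (fun y : Y => ϑ y) = (e : ℂ) • φ ∧
      e ^ 2 = Y.index) ∨
    (∃ F : Finset (Y → ℂ), (∀ φ ∈ F, Cfsg.IsIrrCharacter Y φ) ∧ F.card = Y.index ∧
      (fun y : Y => ϑ y) = ∑ φ ∈ F, φ) := by
  classical
  have hχY : Cfsg.IsCharacter Y (fun y : Y => ϑ y) :=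
    Cfsg.Agent.S0148.isCharacter_restrict Y (isCharacter_of_irr hϑ)
  have h1 : (fun y : Y => ϑ y) 1 ≠ 0 := irr_apply_one_ne_zero hϑ
  obtain ⟨φ, hφ, m0, hm0, hm0'⟩ := exists_constituent hχY h1
  have hcon : Cfsg.classInner (fun y : Y => ϑ y) φ ≠ 0 := by
    rw [hm0']
    exact Nat.cast_ne_zero.2 hm0.ne'
  have hTle : Y ≤ inertia Y φ := le_inertia Y (isClassFunction_irr hφ)
  have hTinv : ∀ σ ∈ 𝒜, ∀ t ∈ inertia Y φ, σ t ∈ inertia Y φ := fun σ hσ t ht =>
    inertia_invariant Y hab hϑ hφ hcon σ (hσY σ hσ) (hσϑ σ hσ) ht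
  rcases hchief _ hTle hTinv with hT | hT
  · right; right
    exact restrict_of_inertia_eq Y hϑ hφ hcon hT
  · obtain ⟨m, hm, hres, hnorm⟩ := restrict_of_inertia_top Y hϑ hφ hcon hT
    let M' : Subgroup X := Subgroup.closure ((Y : Set X) ∪ {x | ϑ x ≠ 0})
    have hYM : Y ≤ M' := fun y hy => Subgroup.subset_closure (Or.inl hy)
    have hMinv : ∀ σ ∈ 𝒜, ∀ x ∈ M', σ x ∈ M' := by
      intro σ hσ x hx
      induction hx using Subgroup.closure_induction with
      | mem x hx =>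
        apply Subgroup.subset_closure
        rcases hx with hx | hx
        · exact Or.inl ((hσY σ hσ x).2 hx)
        · right
          show ϑ (σ x) ≠ 0
          rw [hσϑ σ hσ]
          exact hx
      | one => rw [map_one]; exact Subgroup.one_mem _
      | mul x y _ _ hx hy => rw [map_mul]; exact Subgroup.mul_mem _ hx hy
      | inv x _ hx => rw [map_inv]; exact Subgroup.inv_mem _ hx
    rcases hchief M' hYM hMinv with hM | hM
    · right; left
      refine ⟨φ, m, hφ, hres, ?_⟩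
      apply sq_eq_index_of_vanish Y hϑ hnorm
      intro x hx
      rw [← hM]
      exact Subgroup.subset_closure (Or.inr hx)
    · left
      have h2 := sq_le_one_of_generated Y hab hϑ hnorm hM
      have hm1 : m = 1 := by
        rcases Nat.lt_or_ge m 2 with h | h
        · omega
        · nlinarith
      rw [hres, hm1]
      simpa using hφ

end Cases

end Cfsg.Agent.Lib.Helper2.ChiefRestrict
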