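import Mathlib
import Cfsg.Prelude
import Cfsg.Agent.S0857
import Cfsg.Agent.Lib.Helper2.MinNormal
import Cfsg.Agent.Lib.Helper2.ChiefRestrict
import Cfsg.Agent.Lib.Helper2.NilpHall

set_option autoImplicit false

/-! Relative M-groups (Isaacs, Theorem 6.22). -/

namespace Cfsg.Agent.Lib.Helper2.RelMGroup

open Cfsg Cfsg.Agent.Lib.Helper1 Cfsg.Agent.Lib.Helper4
open scoped ComplexConjugate commutatorElement

universe u

section Chief

variable {G : Type u} [Group G]

/-- a chief factor above a normal subgroup with solvable quotient is abelian. -/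
theorem commutator_le_of_chief (N K L : Subgroup G) [N.Normal] [hK : K.Normal] [hL : L.Normal]
    (hsolv : Group.IsSolvable (G ⧸ N)) (hNL : N ≤ L) (hLK : L < K)
    (hchief : ∀ M : Subgroup G, M.Normal → L ≤ M → M ≤ K → M = L ∨ M = K) : ⁅K, K⁆ ≤ L := by
  let q : G →* G ⧸ L := QuotientGroup.mk' L
  have hq : Function.Surjective q := QuotientGroup.mk'_surjective L
  haveI : Group.IsSolvable (G ⧸ L) := by
    have hsurj : Function.Surjective (QuotientGroup.map N L (MonoidHom.id G) hNL) := by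
      intro x
      obtain ⟨g, rfl⟩ := QuotientGroup.mk'_surjective L x
      exact ⟨QuotientGroup.mk' N g, rfl⟩
    exact solvable_of_surjective hsurj
  let Kb : Subgroup (G ⧸ L) := K.map q
  haveI hKbn : Kb.Normal := Subgroup.Normal.map hK q hq
  have hKb : Kb ≠ ⊥ := by
    intro h
    have h1 : K ≤ q.ker := (Subgroup.map_eq_bot_iff K).1 h
    rw [QuotientGroup.ker_mk'] at h1
    exact (not_le_of_gt hLK) h1
  have hmin : ∀ M : Subgroup (G ⧸ L), M.Normal → M ≤ Kb → M = ⊥ ∨ M = Kb := by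
    intro M hMn hMK
    have h1 : L ≤ M.comap q := by
      intro l hl
      rw [Subgroup.mem_comap]
      have : q l = 1 := (QuotientGroup.eq_one_iff l).2 hl
      rw [this]
      exact Subgroup.one_mem M
    have h2 : M.comap q ≤ K := by
      intro x hx
      rw [Subgroup.mem_comap] at hx
      obtain ⟨k, hk, hkx⟩ := hMK hx
      have h3 : k⁻¹ * x ∈ L := (QuotientGroup.eq).1 hkx
      have : x = k * (k⁻¹ * x) := by group
      rw [this]
      exact K.mul_mem hk (hLK.le h3)
    rcases hchief (M.comap q) (hMn.comap q) h1 h2 with h | h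
    · left
      rw [← Subgroup.map_comap_eq_self_of_surjective hq M, h]
      rw [Subgroup.map_eq_bot_iff, QuotientGroup.ker_mk']
    · right
      rw [← Subgroup.map_comap_eq_self_of_surjective hq M, h]
  have hc := Cfsg.Agent.Lib.Helper2.isMulCommutative_of_minNormal_of_solvable Kb hKb hmin
  have h1 : ⁅Kb, Kb⁆ = ⊥ := Subgroup.commutator_self_eq_bot_iff.2 hc
  have h2 : (⁅K, K⁆).map q = ⊥ := by
    rw [Subgroup.map_commutator]
    exact h1
  have h3 := (Subgroup.map_eq_bot_iff _).1 h2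
  rwa [QuotientGroup.ker_mk'] at h3

end Chief

section Hyp

variable {G : Type u} [Group G]

/-- the non-square chief factor hypothesis of Isaacs 6.22. -/
def ChiefHyp (N : Subgroup G) : Prop :=
  ∀ (H K L : Subgroup G), N ≤ L → L < K → K ≤ H → (∀ h ∈ H, ∀ k ∈ K, h * k * h⁻¹ ∈ K) →
    (∀ h ∈ H, ∀ l ∈ L, h * l * h⁻¹ ∈ L) →
    (∀ M : Subgroup G, L ≤ M → M ≤ K → (∀ h ∈ H, ∀ m ∈ M, h * m * h⁻¹ ∈ M) → M = L ∨ M = K) →
    ¬ IsSquare (L.relIndex K)

theorem ChiefHyp.restrict {N : Subgroup G} (h : ChiefHyp N) (T : Subgroup G) (hNT : N ≤ T) :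
    ChiefHyp (N.subgroupOf T) := by
  intro H' K' L' hNL hLK hKH hnK hnL hchief
  have hinj : Function.Injective T.subtype := T.subtype_injective
  have hKT : K'.map T.subtype ≤ T := Subgroup.map_subtype_le K'
  have key := h (H'.map T.subtype) (K'.map T.subtype) (L'.map T.subtype) ?_ ?_ ?_ ?_ ?_ ?_
  · rw [Subgroup.relIndex_map_map_of_injective L' K' hinj] at key
    exact key
  · intro n hn
    exact ⟨⟨n, hNT hn⟩, hNL (Subgroup.mem_subgroupOf.2 hn), rfl⟩
  · exact (Subgroup.map_lt_map_iff_of_injective hinj).2 hLK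
  · exact Subgroup.map_mono hKH
  · rintro _ ⟨h', hh', rfl⟩ _ ⟨k', hk', rfl⟩
    exact ⟨h' * k' * h'⁻¹, hnK h' hh' k' hk', by simp⟩
  · rintro _ ⟨h', hh', rfl⟩ _ ⟨k', hk', rfl⟩
    exact ⟨h' * k' * h'⁻¹, hnL h' hh' k' hk', by simp⟩
  · intro M hLM hMK hnM
    have hMT : M ≤ T := hMK.trans hKT
    have hM : (M.subgroupOf T).map T.subtype = M := Subgroup.map_subgroupOf_eq_of_le hMT
    have h1 : L' ≤ M.subgroupOf T := by
      intro x hx
      rw [Subgroup.mem_subgroupOf]
      exact hLM ⟨x, hx, rfl⟩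
    have h2 : M.subgroupOf T ≤ K' := by
      intro x hx
      rw [Subgroup.mem_subgroupOf] at hx
      obtain ⟨k, hk, hkx⟩ := hMK hx
      have : k = x := Subtype.ext hkx
      rwa [← this]
    have h3 : ∀ h ∈ H', ∀ m ∈ M.subgroupOf T, h * m * h⁻¹ ∈ M.subgroupOf T := by
      intro h' hh' m hm
      rw [Subgroup.mem_subgroupOf] at hm ⊢
      have := hnM (h' : G) ⟨h', hh', rfl⟩ (m : G) hm
      simpa using this
    rcases hchief _ h1 h2 h3 with h4 | h4
    · left; rw [← hM, h4]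
    · right; rw [← hM, h4]

theorem isSolvable_restrict (N : Subgroup G) [N.Normal] (hsolv : Group.IsSolvable (G ⧸ N))
    (T : Subgroup G) : Group.IsSolvable (T ⧸ N.subgroupOf T) := by
  let f : T ⧸ N.subgroupOf T →* G ⧸ N :=
    QuotientGroup.map (N.subgroupOf T) N T.subtype (fun x hx => hx)
  have hf : Function.Injective f := by
    rw [injective_iff_map_eq_one]
    intro x hx
    obtain ⟨t, rfl⟩ := QuotientGroup.mk'_surjective (N.subgroupOf T) x
    have h1 : f (QuotientGroup.mk' (N.subgroupOf T) t) = QuotientGroup.mk' N (t : G) := rfl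
    rw [h1] at hx
    have h2 : (t : G) ∈ N := (QuotientGroup.eq_one_iff _).1 hx
    exact (QuotientGroup.eq_one_iff t).2 (Subgroup.mem_subgroupOf.2 h2)
  exact solvable_of_solvable_injective hf

end Hyp

section Lift

variable {G : Type u} [Group G] [Fintype G]

/-- `χ` is induced from an irreducible character of a subgroup containing `N` with irreducible
restriction to `N`. -/
def RelInduced (N : Subgroup G) (χ : G → ℂ) : Prop :=
  ∃ (H : Subgroup G) (hNH : N ≤ H) (ψ : H → ℂ), Cfsg.IsIrrCharacter H ψ ∧ Cfsg.indFun H ψ = χ ∧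
    Cfsg.IsIrrCharacter N (fun n : N => ψ ⟨(n : G), hNH n.2⟩)

theorem RelInduced.lift (N T : Subgroup G) [Fintype T] (hNT : N ≤ T) (ψ : T → ℂ)
    (h : RelInduced (N.subgroupOf T) ψ) : RelInduced N (Cfsg.indFun T ψ) := by
  obtain ⟨H', hNH', η, hη, hind, hηN⟩ := h
  let H : Subgroup G := H'.map T.subtype
  have hNH : N ≤ H := by
    intro n hn
    exact ⟨⟨n, hNT hn⟩, hNH' (Subgroup.mem_subgroupOf.2 hn), rfl⟩
  let η₂ : H → ℂ := fun y =>
    η ⟨⟨y, (Cfsg.Agent.S0176.mem_of_mem_map_subtype y.2).1⟩,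
      (Cfsg.Agent.S0176.mem_of_mem_map_subtype y.2).2⟩
  let e : H' ≃* H := H'.equivMapOfInjective T.subtype T.subtype_injective
  have hη₂ : η₂ = fun y => η (e.symm y) := by
    funext y
    show η _ = η (e.symm y)
    congr 1
    apply Subtype.ext
    apply Subtype.ext
    have h2 : ((e (e.symm y) : H) : G) = (y : G) := by rw [MulEquiv.apply_symm_apply]
    rw [Subgroup.coe_equivMapOfInjective_apply] at h2
    exact h2.symm
  refine ⟨H, hNH, η₂, ?_, ?_, ?_⟩
  · rw [hη₂]
    exact isIrrCharacter_comp_mulEquiv hη e.symm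
  · rw [← hind, Cfsg.Agent.S0176.indFun_trans_map T H' η]
  · let e' : N ≃* N.subgroupOf T := (Subgroup.subgroupOfEquivOfLe hNT).symm
    have h3 : (fun n : N => η₂ ⟨(n : G), hNH n.2⟩)
        = fun n : N => (fun n' : N.subgroupOf T => η ⟨(n' : T), hNH' n'.2⟩) (e' n) := by
      funext n
      show η _ = η _
      congr 1
    rw [h3]
    exact isIrrCharacter_comp_mulEquiv hηN e'

end Lift

section Main

theorem main_aux : ∀ (n : ℕ) (G : Type u) [Group G] [Fintype G] (N : Subgroup G) [N.Normal],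
    Nat.card G = n → Group.IsSolvable (G ⧸ N) → ChiefHyp N →
    ∀ χ : G → ℂ, Cfsg.IsIrrCharacter G χ → RelInduced N χ := by
  intro n
  induction n using Nat.strong_induction_on with
  | _ n ih =>
  intro G _ _ N _ hcard hsolv hch χ hχ
  classical
  have hχc := isClassFunction_irr hχ
  by_cases hN : Cfsg.IsIrrCharacter N (fun n : N => χ n)
  · refine ⟨⊤, le_top, fun x => χ x, ?_, Cfsg.Agent.S0176.indFun_top χ hχc, hN⟩
    exact isIrrCharacter_comp_mulEquiv hχ Subgroup.topEquiv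
  -- minimal K
  let 𝒦 : Set (Subgroup G) := {K | K.Normal ∧ N ≤ K ∧ Cfsg.IsIrrCharacter K (fun k : K => χ k)}
  have h𝒦 : 𝒦.Nonempty :=
    ⟨⊤, inferInstance, le_top, isIrrCharacter_comp_mulEquiv hχ Subgroup.topEquiv⟩
  obtain ⟨K, hKmin⟩ := (Set.toFinite 𝒦).exists_minimal h𝒦
  obtain ⟨⟨hKn, hNK, hKirr⟩, hKm⟩ := hKmin
  haveI := hKn
  have hNK' : N < K := by
    apply lt_of_le_of_ne hNK
    rintro rfl
    exact hN hKirr
  -- maximal L
  let ℒ : Set (Subgroup G) := {L | L.Normal ∧ N ≤ L ∧ L < K}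
  have hℒ : ℒ.Nonempty := ⟨N, inferInstance, le_rfl, hNK'⟩
  obtain ⟨L, hLmax⟩ := (Set.toFinite ℒ).exists_maximal hℒ
  obtain ⟨⟨hLn, hNL, hLK⟩, hLm⟩ := hLmax
  haveI := hLn
  have hchiefG : ∀ M : Subgroup G, M.Normal → L ≤ M → M ≤ K → M = L ∨ M = K := by
    intro M hMn hLM hMK
    by_cases hMK' : M = K
    · exact Or.inr hMK'
    · left
      have hM : M ∈ ℒ := ⟨hMn, hNL.trans hLM, lt_of_le_of_ne hMK hMK'⟩
      exact le_antisymm (hLm hM hLM) hLM
  have hab := commutator_le_of_chief N K L hsolv hNL hLK hchiefG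
  have hinv : ∀ (g : G) (k : K), (fun k : K => χ k) ⟨g * k * g⁻¹, hKn.conj_mem (k : G) k.2 g⟩
      = (fun k : K => χ k) k := fun g k => hχc k g
  rcases Cfsg.Agent.S0857.result K L hLK hchiefG hab (fun k : K => χ k) hKirr hinv with
    ha | ⟨φ, e, hφ, hres, he⟩ | ⟨F, hFirr, hFcard, hres⟩
  · exfalso
    have hL𝒦 : L ∈ 𝒦 := ⟨hLn, hNL, ha⟩
    exact (not_le_of_gt hLK) (hKm hL𝒦 hLK.le)
  · exfalso
    refine hch ⊤ K L hNL hLK le_top (fun h _ k hk => hKn.conj_mem k hk h)
      (fun h _ l hl => hLn.conj_mem l hl h) ?_ ⟨e, by rw [← he, sq]⟩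
    intro M hLM hMK hMn
    exact hchiefG M ⟨fun m hm g => hMn g (Subgroup.mem_top g) m hm⟩ hLM hMK
  · have hres' : (fun x : L => χ x) = ∑ φ ∈ F, φ := hres
    have hcard2 : 1 < F.card := by
      rw [hFcard]
      have h1 : L.relIndex K ≠ 1 := by
        rw [Ne, Subgroup.relIndex_eq_one]
        exact not_le_of_gt hLK
      have h0 : L.relIndex K ≠ 0 := by
        show (L.subgroupOf K).index ≠ 0
        exact Subgroup.index_ne_zero_of_finite
      omega
    obtain ⟨φ₁, hφ₁F, φ₂, hφ₂F, hne⟩ := Finset.one_lt_card.1 hcard2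
    have hφ₁ := hFirr φ₁ hφ₁F
    have hφ₂ := hFirr φ₂ hφ₂F
    haveI : Fintype L := Fintype.ofFinite L
    have hin : ∀ φ ∈ F, Cfsg.classInner (fun x : L => χ x) φ = 1 := by
      intro φ hφF
      rw [hres', classInner_sum_left, Finset.sum_eq_single φ]
      · exact classInner_irr_self (hFirr φ hφF)
      · intro ψ hψF hψne
        exact classInner_irr_ne (hFirr ψ hψF) (hFirr φ hφF) hψne
      · intro h; exact absurd hφF h
    have hcon : Cfsg.classInner (fun x : L => χ x) φ₁ ≠ 0 := by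
      rw [hin φ₁ hφ₁F]; exact one_ne_zero
    let T : Subgroup G := inertia L φ₁
    have hLT : L ≤ T := le_inertia L (isClassFunction_irr hφ₁)
    have hNT : N ≤ T := hNL.trans hLT
    have hTtop : T ≠ ⊤ := by
      intro hT
      obtain ⟨m, -, hm, -⟩ :=
        Cfsg.Agent.Lib.Helper2.ChiefRestrict.restrict_of_inertia_top L hχ hφ₁ hcon hT
      have h1 := hin φ₂ hφ₂F
      rw [hm, classInner_smul_left, classInner_irr_ne hφ₁ hφ₂ hne, mul_zero] at h1
      exact zero_ne_one h1
    obtain ⟨ψ, hψ, hχind, -⟩ := clifford_correspondence L φ₁ hφ₁ χ hχ hcon T rfl hLT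
    haveI : Fintype T := Fintype.ofFinite T
    have hTlt : Nat.card T < n := by
      rw [← hcard, ← Subgroup.card_top (G := G)]
      exact Cfsg.Agent.Lib.Helper2.NilpHall.card_lt_of_lt (lt_top_iff_ne_top.2 hTtop)
    have hrec := ih (Nat.card T) hTlt T (N.subgroupOf T) rfl (isSolvable_restrict N hsolv T)
      (hch.restrict T hNT) ψ hψ
    rw [hχind]
    exact RelInduced.lift N T hNT ψ hrec

end Main

end Cfsg.Agent.Lib.Helper2.RelMGroup
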