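import Mathlib
import Cfsg.Prelude
import Cfsg.Agent.S0176
import Cfsg.Agent.S0170
import Cfsg.Agent.Lib.Helper2.ChiefRestrict
import Cfsg.Agent.Lib.Helper2.RelMGroup
import Cfsg.Agent.Lib.Helper8.Deflation
import Cfsg.Agent.Lib.Helper8.CharKernel

set_option autoImplicit false

/-! Relative M-groups over a normal subgroup with abelian Sylow subgroups are M-groups
(Isaacs, Theorem 6.23, second half). -/

namespace Cfsg.Agent.Lib.Helper2.RelMAbelian

open Cfsg Cfsg.Agent.Lib.Helper1 Cfsg.Agent.Lib.Helper4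
open scoped ComplexConjugate commutatorElement

universe u

section Taunt

/-- Taunt's lemma: in a finite group with abelian Sylow subgroups, the centre meets the derived
subgroup trivially. -/
theorem taunt {N : Type*} [Group N] [Finite N]
    (hab : ∀ (p : ℕ) [Fact p.Prime] (P : Sylow p N), ∀ a ∈ P, ∀ b ∈ P, a * b = b * a)
    (z : N) (hz : z ∈ Subgroup.center N) (hz' : z ∈ commutator N) : z = 1 := by
  by_contra hne
  have h1 : orderOf z ≠ 1 := fun h => hne (orderOf_eq_one_iff.1 h)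
  obtain ⟨p, hp, hpd⟩ := Nat.exists_prime_and_dvd h1
  haveI : Fact p.Prime := ⟨hp⟩
  obtain ⟨P⟩ : Nonempty (Sylow p N) := inferInstance
  letI : CommGroup (P : Subgroup N) :=
    { (inferInstance : Group (P : Subgroup N)) with
      mul_comm := fun a b => Subtype.ext (hab p P a a.2 b b.2) }
  let T : N →* (P : Subgroup N) := MonoidHom.transfer (MonoidHom.id (P : Subgroup N))
  have key : ∀ (k : ℕ) (g₀ : N), g₀⁻¹ * z ^ k * g₀ ∈ (P : Subgroup N) →
      g₀⁻¹ * z ^ k * g₀ = z ^ k := by
    intro k g₀ _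
    have hzk : z ^ k ∈ Subgroup.center N := Subgroup.pow_mem _ hz k
    rw [mul_assoc, ← (Subgroup.mem_center_iff.1 hzk) g₀, inv_mul_cancel_left]
  have h2 : T z = ⟨z ^ (P : Subgroup N).index, MonoidHom.transfer_eq_pow_aux z key⟩ :=
    MonoidHom.transfer_eq_pow (MonoidHom.id (P : Subgroup N)) z key
  have h3 : T z = 1 := Abelianization.commutator_subset_ker T hz'
  rw [h3] at h2
  have h4 : z ^ (P : Subgroup N).index = 1 := (congrArg Subtype.val h2).symm
  have h5 : orderOf z ∣ (P : Subgroup N).index := orderOf_dvd_of_pow_eq_one h4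
  exact P.not_dvd_index (hpd.trans h5)

end Taunt

section Surj

variable {A B : Type*} [Group A] [Group B] [Fintype A] [Fintype B]

theorem sum_comp_surjective (φ : A →* B) (hφ : Function.Surjective φ) (F : B → ℂ) :
    ∑ a : A, F (φ a) = (Nat.card φ.ker : ℂ) * ∑ b : B, F b := by
  classical
  haveI : Fintype φ.ker := Fintype.ofFinite _
  rw [Finset.sum_comp F (φ : A → B)]
  have himg : (Finset.univ : Finset A).image (φ : A → B) = Finset.univ := by
    apply Finset.eq_univ_of_forall
    intro b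
    obtain ⟨a, rfl⟩ := hφ b
    exact Finset.mem_image_of_mem _ (Finset.mem_univ a)
  rw [himg, Finset.mul_sum]
  refine Finset.sum_congr rfl fun b _ => ?_
  obtain ⟨y, rfl⟩ := hφ b
  have hfil : (Finset.univ.filter fun a : A => φ a = φ y)
      = (Finset.univ : Finset φ.ker).image (fun k : φ.ker => y * k) := by
    ext a
    simp only [Finset.mem_filter, Finset.mem_univ, true_and, Finset.mem_image]
    constructor
    · intro h
      have h1 : y⁻¹ * a ∈ φ.ker := by
        rw [MonoidHom.mem_ker, map_mul, map_inv, h, inv_mul_cancel]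
      exact ⟨⟨y⁻¹ * a, h1⟩, by simp⟩
    · rintro ⟨k, rfl⟩
      rw [map_mul, (MonoidHom.mem_ker).1 k.2, mul_one]
  rw [hfil, Finset.card_image_of_injective _ (fun a b hab => Subtype.ext (mul_left_cancel hab)),
    Finset.card_univ, nsmul_eq_mul, Nat.card_eq_fintype_card]

theorem classInner_comp_surjective (φ : A →* B) (hφ : Function.Surjective φ) (f g : B → ℂ) :
    Cfsg.classInner (fun a => f (φ a)) (fun a => g (φ a)) = Cfsg.classInner f g := by
  rw [classInner_def, classInner_def, sum_comp_surjective φ hφ (fun b => f b * conj (g b))]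
  have h1 : Nat.card A = Nat.card φ.ker * Nat.card B := by
    have h2 := Subgroup.card_eq_card_quotient_mul_card_subgroup φ.ker
    have h3 : Nat.card (A ⧸ φ.ker) = Nat.card B :=
      Nat.card_congr (QuotientGroup.quotientKerEquivOfSurjective φ hφ).toEquiv
    rw [h2, h3, mul_comm]
  rw [h1]
  have hk0 : (Nat.card φ.ker : ℂ) ≠ 0 := Nat.cast_ne_zero.2 Nat.card_pos.ne'
  have hB0 : (Nat.card B : ℂ) ≠ 0 := Nat.cast_ne_zero.2 Nat.card_pos.ne'
  push_cast
  field_simp

end Surj

section Deg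

variable {X : Type u} [Group X] [Fintype X]

/-- a constituent has degree at most the degree of the character, with equality only if equal. -/
theorem degree_le_of_constituent {Θ μ : X → ℂ} (hΘ : Cfsg.IsCharacter X Θ)
    (hμ : Cfsg.IsIrrCharacter X μ) (hcon : Cfsg.classInner Θ μ ≠ 0) {a b : ℕ}
    (ha : Θ 1 = a) (hb : μ 1 = b) : b ≤ a ∧ (a = b → Θ = μ) := by
  classical
  haveI : Fintype (Cfsg.IrrCharacter X) := Fintype.ofFinite _
  have hexp := class_function_expansion Θ (isClassFunction_of_isCharacter hΘ)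
  have hn : ∀ ζ : Cfsg.IrrCharacter X, ∃ n : ℕ, Cfsg.classInner Θ ζ = n :=
    fun ζ => classInner_char_irr_nat hΘ ζ.2
  choose n hn using hn
  have hd : ∀ ζ : Cfsg.IrrCharacter X, ∃ d : ℕ, 0 < d ∧ (ζ : X → ℂ) 1 = d :=
    fun ζ => irr_apply_one_pos ζ.2
  choose d hd0 hd using hd
  let μ' : Cfsg.IrrCharacter X := ⟨μ, hμ⟩
  have hnμ : n μ' ≠ 0 := by
    intro h
    apply hcon
    have := hn μ'
    rw [h] at this
    simpa using this
  have hdμ : d μ' = b := by
    have h1 := hd μ'
    have h2 : (μ' : X → ℂ) 1 = μ 1 := rfl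
    rw [h2, hb] at h1
    exact_mod_cast h1.symm
  have h1 := congrFun hexp 1
  rw [Finset.sum_apply] at h1
  have h2 : (a : ℂ) = ((∑ ζ : Cfsg.IrrCharacter X, n ζ * d ζ : ℕ) : ℂ) := by
    rw [← ha, h1]
    push_cast
    refine Finset.sum_congr rfl fun ζ _ => ?_
    rw [Pi.smul_apply, smul_eq_mul, hn ζ, hd ζ]
  have h3 : a = ∑ ζ : Cfsg.IrrCharacter X, n ζ * d ζ := by exact_mod_cast h2
  have h4 : n μ' * d μ' ≤ a := by
    rw [h3]
    exact Finset.single_le_sum (f := fun ζ => n ζ * d ζ) (fun _ _ => Nat.zero_le _)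
      (Finset.mem_univ μ')
  have hn1 : 1 ≤ n μ' := Nat.one_le_iff_ne_zero.2 hnμ
  refine ⟨?_, ?_⟩
  · calc b = 1 * d μ' := by rw [hdμ, one_mul]
      _ ≤ n μ' * d μ' := Nat.mul_le_mul_right _ hn1
      _ ≤ a := h4
  · intro hab
    have hb0 : 0 < b := hdμ ▸ hd0 μ'
    -- all other terms vanish and n μ' = 1
    have h5 : ∑ ζ : Cfsg.IrrCharacter X, n ζ * d ζ
        = n μ' * d μ' + ∑ ζ ∈ Finset.univ.erase μ', n ζ * d ζ := by
      exact (Finset.add_sum_erase _ (fun ζ => n ζ * d ζ) (Finset.mem_univ μ')).symm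
    have h6 : n μ' = 1 ∧ ∑ ζ ∈ Finset.univ.erase μ', n ζ * d ζ = 0 := by
      rw [h5, hdμ] at h3
      have h7 : n μ' * b ≥ b := by nlinarith
      constructor
      · by_contra hne
        have : 2 ≤ n μ' := by omega
        nlinarith
      · nlinarith
    have h8 : ∀ ζ ∈ Finset.univ.erase μ', n ζ = 0 := by
      intro ζ hζ
      have := (Finset.sum_eq_zero_iff.1 h6.2) ζ hζ
      rcases Nat.mul_eq_zero.1 this with h | h
      · exact h
      · exact absurd h (hd0 ζ).ne'
    rw [hexp]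
    rw [← Finset.add_sum_erase _ (fun ζ : Cfsg.IrrCharacter X => Cfsg.classInner Θ ζ • (ζ : X → ℂ))
      (Finset.mem_univ μ')]
    rw [Finset.sum_eq_zero, add_zero, hn μ', h6.1]
    · simp [μ']
    · intro ζ hζ
      rw [hn ζ, h8 ζ hζ]
      simp

theorem indFun_one_nat (J : Subgroup X) (ξ : J → ℂ) {x : ℕ} (hx : ξ 1 = x) :
    Cfsg.indFun J ξ 1 = ((J.index * x : ℕ) : ℂ) := by
  rw [Cfsg.Agent.S0170.indFun_one, hx]
  have h1 : (Nat.card X : ℂ) = (J.index : ℂ) * (Nat.card J : ℂ) := by
    exact_mod_cast (Subgroup.index_mul_card J).symm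
  have hJ0 : (Nat.card J : ℂ) ≠ 0 := Nat.cast_ne_zero.2 Nat.card_pos.ne'
  rw [h1]
  push_cast
  field_simp

end Deg

section Step1

variable {H : Type u} [Group H] [Fintype H]

/-- If `ψ = ξ^H` is irreducible with irreducible restriction to the normal subgroup `N`, then `ξ`
restricts irreducibly to `J ∩ N`. -/
theorem restrict_irr_of_induced (N J : Subgroup H) [N.Normal] {ξ : J → ℂ}
    (hξ : Cfsg.IsIrrCharacter J ξ) (hψ : Cfsg.IsIrrCharacter H (Cfsg.indFun J ξ))
    (hψN : Cfsg.IsIrrCharacter N (fun n : N => Cfsg.indFun J ξ n)) :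
    Cfsg.IsIrrCharacter (N.subgroupOf J) (fun d : N.subgroupOf J => ξ d) := by
  classical
  haveI : Fintype J := Fintype.ofFinite J
  haveI : Fintype N := Fintype.ofFinite N
  haveI : Fintype (N.subgroupOf J) := Fintype.ofFinite _
  haveI : Fintype (J.subgroupOf N) := Fintype.ofFinite _
  haveI : Fintype (Cfsg.IrrCharacter J) := Fintype.ofFinite _
  set ψ := Cfsg.indFun J ξ with hψdef
  have hψc := isClassFunction_irr hψ
  -- Frobenius reciprocity
  have hF : Cfsg.classInner ξ (fun j : J => ψ j) = 1 := by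
    rw [← Cfsg.Agent.S0146.result J ξ ψ hψc]
    exact classInner_irr_self hψ
  -- a constituent of the restriction of ξ
  have hξD : Cfsg.IsCharacter (N.subgroupOf J) (fun d : N.subgroupOf J => ξ d) :=
    Cfsg.Agent.S0148.isCharacter_restrict _ (isCharacter_of_irr hξ)
  obtain ⟨μ, hμ, m, hm0, hm⟩ := exists_constituent hξD (irr_apply_one_ne_zero hξ)
  -- it is a constituent of the restriction of ψ
  have hψJ : Cfsg.IsCharacter J (fun j : J => ψ j) :=
    Cfsg.Agent.S0148.isCharacter_restrict J (isCharacter_of_irr hψ)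
  have h3 : Cfsg.classInner (fun d : N.subgroupOf J => ψ ((d : J) : H)) μ ≠ 0 := by
    have hexp := class_function_expansion (fun j : J => ψ j) (isClassFunction_of_isCharacter hψJ)
    have hn : ∀ ζ : Cfsg.IrrCharacter J, ∃ n : ℕ, Cfsg.classInner (fun j : J => ψ j) ζ = n :=
      fun ζ => classInner_char_irr_nat hψJ ζ.2
    choose n hn using hn
    have hk : ∀ ζ : Cfsg.IrrCharacter J, ∃ k : ℕ,
        Cfsg.classInner (fun d : N.subgroupOf J => (ζ : J → ℂ) d) μ = k := fun ζ =>
      classInner_char_irr_nat (Cfsg.Agent.S0148.isCharacter_restrict _ (isCharacter_of_irr ζ.2)) hμ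
    choose k hk using hk
    have h4 : (fun d : N.subgroupOf J => ψ ((d : J) : H))
        = ∑ ζ : Cfsg.IrrCharacter J, (n ζ : ℂ) • fun d : N.subgroupOf J => (ζ : J → ℂ) d := by
      funext d
      have := congrFun hexp (d : J)
      rw [Finset.sum_apply] at this
      rw [Finset.sum_apply]
      rw [this]
      refine Finset.sum_congr rfl fun ζ _ => ?_
      rw [Pi.smul_apply, Pi.smul_apply, hn ζ]
    rw [h4, classInner_sum_left]
    simp only [classInner_smul_left, hk]
    let ξ' : Cfsg.IrrCharacter J := ⟨ξ, hξ⟩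
    have hnξ : n ξ' = 1 := by
      have h5 := hn ξ'
      have h6 : Cfsg.classInner (fun j : J => ψ j) (ξ' : J → ℂ) = 1 := by
        rw [← classInner_conj_symm, hF, map_one]
      rw [h6] at h5
      exact_mod_cast h5.symm
    have hkξ : k ξ' = m := by
      have h5 := hk ξ'
      have h6 : (fun d : N.subgroupOf J => (ξ' : J → ℂ) d) = fun d : N.subgroupOf J => ξ d := rfl
      rw [h6, hm] at h5
      exact_mod_cast h5.symm
    have h7 : (∑ ζ : Cfsg.IrrCharacter J, (n ζ : ℂ) * (k ζ : ℂ))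
        = ((∑ ζ : Cfsg.IrrCharacter J, n ζ * k ζ : ℕ) : ℂ) := by push_cast; rfl
    rw [h7]
    have h8 : 0 < ∑ ζ : Cfsg.IrrCharacter J, n ζ * k ζ := by
      apply lt_of_lt_of_le _ (Finset.single_le_sum (f := fun ζ => n ζ * k ζ)
        (fun _ _ => Nat.zero_le _) (Finset.mem_univ ξ'))
      rw [hnξ, hkξ, one_mul]
      exact hm0
    exact Nat.cast_ne_zero.2 h8.ne'
  -- transport to the subgroup of N
  let e : N.subgroupOf J ≃* J.subgroupOf N :=
    { toFun := fun x => ⟨⟨((x : J) : H), Subgroup.mem_subgroupOf.1 x.2⟩,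
        Subgroup.mem_subgroupOf.2 (x : J).2⟩
      invFun := fun y => ⟨⟨((y : N) : H), Subgroup.mem_subgroupOf.1 y.2⟩,
        Subgroup.mem_subgroupOf.2 (y : N).2⟩
      left_inv := fun x => rfl
      right_inv := fun y => rfl
      map_mul' := fun x y => rfl }
  let μ' : J.subgroupOf N → ℂ := fun y => μ (e.symm y)
  have hμ' : Cfsg.IsIrrCharacter (J.subgroupOf N) μ' := isIrrCharacter_comp_mulEquiv hμ e.symm
  have h4 : Cfsg.classInner (fun y : J.subgroupOf N => ψ ((y : N) : H)) μ' ≠ 0 := by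
    rw [← Cfsg.Agent.Lib.Helper2.DegRatio.classInner_comp_mulEquiv' e
      (fun y : J.subgroupOf N => ψ ((y : N) : H)) μ']
    have h5 : (fun a : N.subgroupOf J => μ' (e a)) = μ := by
      funext a
      show μ (e.symm (e a)) = μ a
      rw [MulEquiv.symm_apply_apply]
    rw [h5]
    exact h3
  -- Frobenius in N
  have hϑc : Cfsg.IsClassFunction N (fun n : N => ψ n) := isClassFunction_irr hψN
  have h5 : Cfsg.classInner (Cfsg.indFun (J.subgroupOf N) μ') (fun n : N => ψ n) ≠ 0 := by
    rw [Cfsg.Agent.S0146.result (J.subgroupOf N) μ' (fun n : N => ψ n) hϑc]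
    intro h0
    apply h4
    rw [← classInner_conj_symm, h0, map_zero]
  have hΘ : Cfsg.IsCharacter N (Cfsg.indFun (J.subgroupOf N) μ') :=
    Cfsg.Agent.S0148.result _ μ' (isCharacter_of_irr hμ')
  -- degrees
  obtain ⟨x, hx0, hx⟩ := irr_apply_one_pos hξ
  obtain ⟨y, hy0, hy⟩ := irr_apply_one_pos hμ
  have hy' : μ' 1 = y := by
    show μ (e.symm 1) = y
    rw [map_one, hy]
  have hψ1 : ψ 1 = ((J.index * x : ℕ) : ℂ) := indFun_one_nat J ξ hx
  have hΘ1 : Cfsg.indFun (J.subgroupOf N) μ' 1 = (((J.subgroupOf N).index * y : ℕ) : ℂ) :=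
    indFun_one_nat _ μ' hy'
  have h6 := (degree_le_of_constituent hΘ hψN h5 hΘ1 (b := J.index * x) hψ1).1
  have h7 := degree_le_of_constituent hξD hμ (by rw [hm]; exact Nat.cast_ne_zero.2 hm0.ne')
    (a := x) (b := y) hx hy
  have h8 : (J.subgroupOf N).index ≤ J.index := by
    have h9 : J.relIndex N ≤ J.relIndex ⊤ :=
      Subgroup.relIndex_le_of_le_right le_top (by
        rw [Subgroup.relIndex_top_right]; exact Subgroup.index_ne_zero_of_finite)
    rw [Subgroup.relIndex_top_right] at h9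
    exact h9
  have hi0 : 0 < J.index := Nat.pos_of_ne_zero Subgroup.index_ne_zero_of_finite
  have hxy : x = y := by
    apply le_antisymm _ h7.1
    have h10 : J.index * x ≤ J.index * y :=
      h6.trans (Nat.mul_le_mul_right y h8)
    exact Nat.le_of_mul_le_mul_left h10 hi0
  rw [h7.2 hxy]
  exact hμ

end Step1

section Primitive

theorem exists_min_nat {P : ℕ → Prop} (h : ∃ k, P k) : ∃ k, P k ∧ ∀ i < k, ¬ P i := by
  classical
  exact ⟨Nat.find h, Nat.find_spec h, fun i hi => Nat.find_min h hi⟩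

variable {H : Type u} [Group H] [Fintype H]

/-- For a faithful primitive irreducible character, abelian normal subgroups are central. -/
theorem le_center_of_primitive {ψ : H → ℂ} (hψ : Cfsg.IsIrrCharacter H ψ)
    (hfaith : ∀ g, ψ g = ψ 1 → g = 1)
    (hprim : ∀ (J : Subgroup H) (ξ : J → ℂ), Cfsg.IsIrrCharacter J ξ → ψ = Cfsg.indFun J ξ → J = ⊤)
    (A : Subgroup H) [hA : A.Normal] (hAab : ∀ a ∈ A, ∀ b ∈ A, a * b = b * a) :
    A ≤ Subgroup.center H := by
  classical
  haveI : Fintype A := Fintype.ofFinite A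
  have hres : Cfsg.IsCharacter A (fun a : A => ψ a) :=
    Cfsg.Agent.S0148.isCharacter_restrict A (isCharacter_of_irr hψ)
  obtain ⟨lam, hlam, m0, hm0, hm0'⟩ := exists_constituent hres (irr_apply_one_ne_zero hψ)
  have hcon : Cfsg.classInner (fun a : A => ψ a) lam ≠ 0 := by
    rw [hm0']; exact Nat.cast_ne_zero.2 hm0.ne'
  have hlam1 : lam 1 = 1 :=
    Cfsg.Agent.S0176.irr_linear_of_comm (fun a b => Subtype.ext (hAab a a.2 b b.2)) hlam
  obtain ⟨φ, hφ⟩ := exists_hom_of_isIrrCharacter hlam hlam1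
  have hAT : A ≤ inertia A lam := le_inertia A (isClassFunction_irr hlam)
  obtain ⟨ψ', hψ', hind, -⟩ := clifford_correspondence A lam hlam ψ hψ hcon _ rfl hAT
  have hT : inertia A lam = ⊤ := hprim _ ψ' hψ' hind
  obtain ⟨m, -, hm, -⟩ := Cfsg.Agent.Lib.Helper2.ChiefRestrict.restrict_of_inertia_top A hψ hlam hcon hT
  have hval : ∀ a : A, ψ a = (m : ℂ) * ((φ a : ℂˣ) : ℂ) := by
    intro a
    have := congrFun hm a
    rw [hφ] at this
    exact this
  intro a ha
  rw [Subgroup.mem_center_iff]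
  intro x
  have hxa : x * a * x⁻¹ ∈ A := hA.conj_mem a ha x
  have hinv : φ ⟨x * a * x⁻¹, hxa⟩ = φ ⟨a, ha⟩ := by
    have hx : x ∈ inertia A lam := by rw [hT]; exact Subgroup.mem_top x
    have h1 := congrFun hx ⟨a, ha⟩
    rw [hφ] at h1
    exact Units.ext h1
  let c : A := ⟨x * a * x⁻¹, hxa⟩ * ⟨a, ha⟩⁻¹
  have hc : φ c = 1 := by
    show φ (⟨x * a * x⁻¹, hxa⟩ * ⟨a, ha⟩⁻¹) = 1
    rw [map_mul, map_inv, hinv, mul_inv_cancel]
  have h1 : ψ (c : H) = ψ 1 := by
    have h2 := hval c
    have h3 := hval 1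
    rw [hc] at h2
    rw [map_one] at h3
    rw [h2]
    exact h3.symm
  have h4 : (c : H) = 1 := hfaith _ h1
  have h5 : x * a * x⁻¹ * a⁻¹ = 1 := h4
  have h6 : x * a * x⁻¹ = a := by
    have := mul_inv_eq_one.1 h5
    exact this
  calc x * a = x * a * x⁻¹ * x := by group
    _ = a * x := by rw [h6]

/-- A faithful primitive irreducible character of a solvable group whose restriction to a normal
subgroup with abelian Sylow subgroups is irreducible is linear. -/
theorem linear_of_primitive [hs : Group.IsSolvable H] (N : Subgroup H) [hN : N.Normal]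
    (hab : ∀ (p : ℕ) [Fact p.Prime] (P : Sylow p N), ∀ a ∈ P, ∀ b ∈ P, a * b = b * a)
    {ψ : H → ℂ} (hψ : Cfsg.IsIrrCharacter H ψ) (hfaith : ∀ g, ψ g = ψ 1 → g = 1)
    (hprim : ∀ (J : Subgroup H) (ξ : J → ℂ), Cfsg.IsIrrCharacter J ξ → ψ = Cfsg.indFun J ξ → J = ⊤)
    (hψN : Cfsg.IsIrrCharacter N (fun n : N => ψ n)) : ψ 1 = 1 := by
  classical
  let D : ℕ → Subgroup H := fun i => Nat.rec N (fun _ K => ⁅K, K⁆) i
  have hD0 : D 0 = N := rfl
  have hDs : ∀ i, D (i + 1) = ⁅D i, D i⁆ := fun i => rfl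
  have hDn : ∀ i, (D i).Normal := by
    intro i
    induction i with
    | zero => exact hN
    | succ i ih =>
      rw [hDs]
      exact @Subgroup.commutator_normal _ _ (D i) (D i) ih ih
  have hDle : ∀ i, D i ≤ N := by
    intro i
    induction i with
    | zero => exact le_rfl
    | succ i ih =>
      rw [hDs]
      exact (Subgroup.commutator_le_self (D i)).trans ih
  have hDder : ∀ i, D i ≤ derivedSeries H i := by
    intro i
    induction i with
    | zero => exact le_top
    | succ i ih =>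
      rw [hDs, derivedSeries_succ]
      exact Subgroup.commutator_mono ih ih
  have hex : ∃ k, D k = ⊥ := by
    obtain ⟨k, hk⟩ := hs.solvable
    exact ⟨k, le_bot_iff.1 (hk ▸ hDder k)⟩
  -- the abelian case
  have hlin : (∀ a ∈ N, ∀ b ∈ N, a * b = b * a) → ψ 1 = 1 := by
    intro hc
    have := Cfsg.Agent.S0176.irr_linear_of_comm
      (fun a b : N => Subtype.ext (hc a a.2 b b.2)) hψN
    exact this
  by_cases hN' : ⁅N, N⁆ = ⊥
  · apply hlin
    intro a ha b hb
    have h1 : ⁅a, b⁆ ∈ ⁅N, N⁆ := Subgroup.commutator_mem_commutator ha hb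
    rw [hN', Subgroup.mem_bot] at h1
    exact commutatorElement_eq_one_iff_mul_comm.1 h1
  · exfalso
    obtain ⟨k, hk, hkmin⟩ := exists_min_nat hex
    have hk2 : 2 ≤ k := by
      by_contra hlt
      push Not at hlt
      have h1 : D 1 = ⊥ := by
        rcases Nat.lt_succ_iff.1 hlt with h
        interval_cases hkk : k
        · have h0 : D 0 = ⊥ := hk
          rw [show D 1 = ⁅D 0, D 0⁆ from rfl, h0]
          exact le_bot_iff.1 (Subgroup.commutator_le_self ⊥)
        · exact hk
      exact hN' h1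
    obtain ⟨j, hj⟩ : ∃ j, k = j + 2 := ⟨k - 2, by omega⟩
    let A := D (j + 1)
    haveI hAn : A.Normal := hDn (j + 1)
    have hAne : A ≠ ⊥ := by
      intro h
      exact hkmin (j + 1) (by omega) h
    have hAab : ∀ a ∈ A, ∀ b ∈ A, a * b = b * a := by
      intro a ha b hb
      have h1 : ⁅a, b⁆ ∈ ⁅A, A⁆ := Subgroup.commutator_mem_commutator ha hb
      have h2 : ⁅A, A⁆ = ⊥ := by
        rw [← hDs (j + 1), ← hj]
        exact hk
      rw [h2, Subgroup.mem_bot] at h1
      exact commutatorElement_eq_one_iff_mul_comm.1 h1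
    have hAZ := @le_center_of_primitive H _ _ ψ hψ hfaith hprim A hAn hAab
    have hAN' : A ≤ ⁅N, N⁆ := by
      show D (j + 1) ≤ ⁅N, N⁆
      rw [hDs]
      exact Subgroup.commutator_mono (hDle j) (hDle j)
    apply hAne
    rw [eq_bot_iff]
    intro a ha
    rw [Subgroup.mem_bot]
    have haN : a ∈ N := hDle (j + 1) ha
    have hmap : Subgroup.map N.subtype (⁅(⊤ : Subgroup N), (⊤ : Subgroup N)⁆) = ⁅N, N⁆ := by
      rw [Subgroup.map_commutator, ← MonoidHom.range_eq_map, Subgroup.range_subtype]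
    have h1 : a ∈ Subgroup.map N.subtype (⁅(⊤ : Subgroup N), (⊤ : Subgroup N)⁆) := by
      rw [hmap]; exact hAN' ha
    obtain ⟨a', ha', rfl⟩ := h1
    have hcen : a' ∈ Subgroup.center N := by
      rw [Subgroup.mem_center_iff]
      intro g
      apply Subtype.ext
      exact (Subgroup.mem_center_iff.1 (hAZ ha)) (g : H)
    have h2 := taunt hab a' hcen ha'
    rw [h2]
    rfl

end Primitive

section SylowAb

variable {H : Type u} [Group H] [Finite H]

theorem hab_subgroupOf (N J : Subgroup H)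
    (hab : ∀ (p : ℕ) [Fact p.Prime] (P : Sylow p N), ∀ a ∈ P, ∀ b ∈ P, a * b = b * a)
    (p : ℕ) [Fact p.Prime] (P : Sylow p (N.subgroupOf J)) :
    ∀ a ∈ P, ∀ b ∈ P, a * b = b * a := by
  intro a ha b hb
  let ι : N.subgroupOf J →* N :=
    { toFun := fun x => ⟨((x : J) : H), Subgroup.mem_subgroupOf.1 x.2⟩
      map_one' := rfl
      map_mul' := fun x y => rfl }
  have hι : Function.Injective ι := by
    intro x y hxy
    apply Subtype.ext
    apply Subtype.ext
    exact congrArg (fun z : N => (z : H)) hxy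
  have hp : IsPGroup p ((P : Subgroup (N.subgroupOf J)).map ι) := P.2.map ι
  obtain ⟨Q, hQ⟩ := hp.exists_le_sylow
  have h1 := hab p Q (ι a) (hQ ⟨a, ha, rfl⟩) (ι b) (hQ ⟨b, hb, rfl⟩)
  apply hι
  rw [map_mul, map_mul, h1]

theorem hab_map {H' : Type*} [Group H'] (π : H →* H') (N : Subgroup H)
    (hab : ∀ (p : ℕ) [Fact p.Prime] (P : Sylow p N), ∀ a ∈ P, ∀ b ∈ P, a * b = b * a)
    (p : ℕ) [Fact p.Prime] (P : Sylow p (N.map π)) :
    ∀ a ∈ P, ∀ b ∈ P, a * b = b * a := by
  intro a ha b hb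
  have hφ : Function.Surjective (π.subgroupMap N) := π.subgroupMap_surjective N
  obtain ⟨Q, hQ⟩ := Sylow.mapSurjective_surjective hφ p P
  have hQ' : (P : Subgroup (N.map π)) = (Q : Subgroup N).map (π.subgroupMap N) := by
    rw [← hQ, Sylow.coe_mapSurjective]
  have ha2 : a ∈ (P : Subgroup (N.map π)) := ha
  have hb2 : b ∈ (P : Subgroup (N.map π)) := hb
  rw [hQ'] at ha2 hb2
  obtain ⟨a', ha', rfl⟩ := ha2
  obtain ⟨b', hb', rfl⟩ := hb2
  rw [← map_mul, ← map_mul, hab p Q a' ha' b' hb']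

end SylowAb

section Main

theorem main_aux : ∀ (n : ℕ) (H : Type u) [Group H] [Fintype H] [Group.IsSolvable H]
    (N : Subgroup H) [N.Normal], Nat.card H = n →
    (∀ (p : ℕ) [Fact p.Prime] (P : Sylow p N), ∀ a ∈ P, ∀ b ∈ P, a * b = b * a) →
    ∀ ψ : H → ℂ, Cfsg.IsIrrCharacter H ψ → Cfsg.IsIrrCharacter N (fun n : N => ψ n) →
    ∃ (U : Subgroup H) (lam : U →* ℂˣ), ψ = Cfsg.indFun U (fun u => (lam u : ℂ)) := by
  intro n
  induction n using Nat.strong_induction_on with
  | _ n ih =>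
  intro H _ _ _ N hNn hcard hab ψ hψ hψN
  classical
  obtain ⟨K, hKn, hKmem⟩ := Cfsg.Agent.Lib.Helper8.exists_normal_ker (isCharacter_of_irr hψ)
  by_cases hK : K = ⊥
  · have hfaith : ∀ g, ψ g = ψ 1 → g = 1 := by
      intro g hg
      have := (hKmem g).2 hg
      rw [hK] at this
      exact Subgroup.mem_bot.1 this
    by_cases hprim : ∃ (J : Subgroup H) (ξ : J → ℂ), J ≠ ⊤ ∧ Cfsg.IsIrrCharacter J ξ ∧
        ψ = Cfsg.indFun J ξ
    · obtain ⟨J, ξ, hJ, hξ, hind⟩ := hprim
      haveI : Fintype J := Fintype.ofFinite J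
      have h1 : Cfsg.IsIrrCharacter (N.subgroupOf J) (fun d : N.subgroupOf J => ξ d) := by
        apply restrict_irr_of_induced N J hξ
        · rw [← hind]; exact hψ
        · rw [← hind]; exact hψN
      have hJlt : Nat.card J < n := by
        rw [← hcard]
        have h1 : Nat.card J ≤ Nat.card H := Subgroup.card_le_card_group J
        have h2 : Nat.card J ≠ Nat.card H := fun h => hJ (Subgroup.eq_top_of_card_eq J h)
        omega
      obtain ⟨S, μ, hμ⟩ := ih (Nat.card J) hJlt J (N.subgroupOf J) rfl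
        (fun p _ P => hab_subgroupOf N J hab p P) ξ hξ h1
      have hmem : ∀ y : S.map J.subtype,
          (Subgroup.inclusion (Subgroup.map_subtype_le S) y : J) ∈ S := by
        intro y
        exact (Cfsg.Agent.S0176.mem_of_mem_map_subtype y.2).2
      refine ⟨S.map J.subtype,
        μ.comp ((Subgroup.inclusion (Subgroup.map_subtype_le S)).codRestrict S hmem), ?_⟩
      rw [hind, hμ, Cfsg.Agent.S0176.indFun_trans_map J S (fun s => (μ s : ℂ))]
      rfl
    · have hprim' : ∀ (J : Subgroup H) (ξ : J → ℂ), Cfsg.IsIrrCharacter J ξ →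
          ψ = Cfsg.indFun J ξ → J = ⊤ := by
        intro J ξ hξ hind
        by_contra hJ
        exact hprim ⟨J, ξ, hJ, hξ, hind⟩
      have h1 := linear_of_primitive N hab hψ hfaith hprim' hψN
      obtain ⟨φ, hφ⟩ := exists_hom_of_isIrrCharacter hψ h1
      refine ⟨⊤, φ.comp (⊤ : Subgroup H).subtype, ?_⟩
      have := Cfsg.Agent.S0176.indFun_top ψ (isClassFunction_irr hψ)
      rw [← this, hφ]
      rfl
  · haveI := hKn
    haveI : Fintype (H ⧸ K) := Fintype.ofFinite _
    let π : H →* H ⧸ K := QuotientGroup.mk' K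
    have hπ : Function.Surjective π := QuotientGroup.mk'_surjective K
    obtain ⟨ψb, hψb, hψbπ⟩ := Cfsg.Agent.Lib.Helper8.exists_deflation K hψ
      (fun g hg => (hKmem g).1 hg)
    let Nb : Subgroup (H ⧸ K) := N.map π
    haveI hNbn : Nb.Normal := Subgroup.Normal.map hNn π hπ
    haveI : Fintype N := Fintype.ofFinite N
    haveI : Fintype Nb := Fintype.ofFinite Nb
    have hφ : Function.Surjective (π.subgroupMap N) := π.subgroupMap_surjective N
    have hψbN : Cfsg.IsIrrCharacter Nb (fun x : Nb => ψb x) := by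
      apply isIrrCharacter_of_norm_one
        (Cfsg.Agent.S0148.isCharacter_restrict Nb (isCharacter_of_irr hψb))
      rw [← classInner_comp_surjective (π.subgroupMap N) hφ]
      have h2 : (fun a : N => (fun x : Nb => ψb x) (π.subgroupMap N a)) = fun n : N => ψ n := by
        funext a
        exact hψbπ a
      rw [h2]
      exact classInner_irr_self hψN
    have hlt : Nat.card (H ⧸ K) < n := by
      rw [← hcard, Subgroup.card_eq_card_quotient_mul_card_subgroup K]
      have h1 : 1 < Nat.card K := by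
        rw [Finite.one_lt_card_iff_nontrivial]
        exact (Subgroup.nontrivial_iff_ne_bot K).2 hK
      have h2 : 0 < Nat.card (H ⧸ K) := Nat.card_pos
      nlinarith
    obtain ⟨Ub, lb, hl⟩ := ih (Nat.card (H ⧸ K)) hlt (H ⧸ K) Nb rfl
      (fun p _ P => hab_map π N hab p P) ψb hψb hψbN
    refine ⟨Ub.comap π, lb.comp (π.subgroupComap Ub), ?_⟩
    funext g
    have h1 : ψ g = ψb (π g) := (hψbπ g).symm
    rw [h1, hl, ← Cfsg.Agent.S0176.indFun_comap_quotient K Ub (fun h => (lb h : ℂ)) g]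
    rfl

end Main

end Cfsg.Agent.Lib.Helper2.RelMAbelian
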