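import Mathlib
import Cfsg.Prelude.Def_Characters
import Cfsg.Agent.S0146
import Cfsg.Agent.Lib.Helper1.IndFun
import Cfsg.Agent.Lib.Helper4.Characters

set_option autoImplicit false
set_option linter.style.haveILetI false

/-!
# Mackey's formula for a subgroup with two double cosets
-/

namespace Cfsg.Agent.Lib.Helper2.S3T

open scoped ComplexConjugate
open Cfsg.Agent.Lib.Helper1 Cfsg.Agent.Lib.Helper4

universe u

variable {G : Type u} [Group G] [Fintype G]

/-- the twisted pairing of two functions on a subgroup -/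
noncomputable def tw (B : Subgroup G) (φ φ' : B → ℂ) (w : G) : ℂ :=
  ∑ c : G, Cfsg.extendByZero B φ c * conj (Cfsg.extendByZero B φ' (w⁻¹ * c * w))

omit [Fintype G] in
theorem extendByZero_conj_mem (B : Subgroup G) (φ : B → ℂ) (hφ : Cfsg.IsClassFunction B φ)
    {b : G} (hb : b ∈ B) (c : G) :
    Cfsg.extendByZero B φ (b * c * b⁻¹) = Cfsg.extendByZero B φ c := by
  by_cases hc : c ∈ B
  · have h1 : b * c * b⁻¹ ∈ B := B.mul_mem (B.mul_mem hb hc) (B.inv_mem hb)
    rw [extendByZero_of_mem B φ h1, extendByZero_of_mem B φ hc]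
    exact hφ ⟨c, hc⟩ ⟨b, hb⟩
  · have h1 : b * c * b⁻¹ ∉ B := by
      intro h
      apply hc
      have : c = b⁻¹ * (b * c * b⁻¹) * b := by group
      rw [this]
      exact B.mul_mem (B.mul_mem (B.inv_mem hb) h) hb
    rw [extendByZero_of_notMem B φ h1, extendByZero_of_notMem B φ hc]

theorem tw_mul (B : Subgroup G) (φ φ' : B → ℂ) (hφ : Cfsg.IsClassFunction B φ)
    (hφ' : Cfsg.IsClassFunction B φ') {b₁ b₂ : G} (hb₁ : b₁ ∈ B) (hb₂ : b₂ ∈ B) (w : G) :
    tw B φ φ' (b₁ * w * b₂) = tw B φ φ' w := by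
  unfold tw
  rw [← sum_conj_mul_inv (fun c => Cfsg.extendByZero B φ c *
    conj (Cfsg.extendByZero B φ' (w⁻¹ * c * w))) b₁⁻¹]
  refine Finset.sum_congr rfl fun c _ => ?_
  have h1 : Cfsg.extendByZero B φ (b₁⁻¹ * c * b₁⁻¹⁻¹) = Cfsg.extendByZero B φ c :=
    extendByZero_conj_mem B φ hφ (B.inv_mem hb₁) c
  have h2 : (b₁ * w * b₂)⁻¹ * c * (b₁ * w * b₂)
      = b₂⁻¹ * (w⁻¹ * (b₁⁻¹ * c * b₁⁻¹⁻¹) * w) * b₂⁻¹⁻¹ := by group
  rw [h1, h2, extendByZero_conj_mem B φ' hφ' (B.inv_mem hb₂)]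

theorem tw_of_mem (B : Subgroup G) (φ φ' : B → ℂ) (hφ : Cfsg.IsClassFunction B φ)
    (hφ' : Cfsg.IsClassFunction B φ') {w : G} (hw : w ∈ B) :
    tw B φ φ' w = tw B φ φ' 1 := by
  have := tw_mul B φ φ' hφ hφ' B.one_mem hw 1
  rwa [one_mul, one_mul] at this

theorem tw_one (B : Subgroup G) [Fintype B] (φ φ' : B → ℂ) :
    tw B φ φ' 1 = (Nat.card B : ℂ) * Cfsg.classInner φ φ' := by
  unfold tw
  have h1 : ∀ c : G, Cfsg.extendByZero B φ c * conj (Cfsg.extendByZero B φ' (1⁻¹ * c * 1))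
      = Cfsg.extendByZero B φ c * conj (Cfsg.extendByZero B φ' c) := by
    intro c
    rw [inv_one, one_mul, mul_one]
  rw [Finset.sum_congr rfl fun c _ => h1 c,
    sum_extendByZero_mul B φ (fun c => conj (Cfsg.extendByZero B φ' c)), classInner_def]
  have hB0 : (Nat.card B : ℂ) ≠ 0 := Nat.cast_ne_zero.mpr Nat.card_pos.ne'
  rw [← mul_assoc, mul_inv_cancel₀ hB0, one_mul]
  refine Finset.sum_congr rfl fun b _ => ?_
  rw [extendByZero_coe]

/-- **Mackey's formula** for `G = B ∪ B t B`. -/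
theorem mackey_two (B : Subgroup G) [Fintype B] (t : G)
    (hdc : ∀ g : G, g ∉ B → ∃ b₁ ∈ B, ∃ b₂ ∈ B, g = b₁ * t * b₂)
    (φ φ' : B → ℂ) (hφ : Cfsg.IsClassFunction B φ) (hφ' : Cfsg.IsClassFunction B φ') :
    Cfsg.classInner (Cfsg.indFun B φ) (Cfsg.indFun B φ') = Cfsg.classInner φ φ' +
      (((Nat.card G : ℂ) - (Nat.card B : ℂ)) / ((Nat.card B : ℂ) * (Nat.card B : ℂ))) *
        tw B φ φ' t := by
  classical
  have hB0 : (Nat.card B : ℂ) ≠ 0 := Nat.cast_ne_zero.mpr Nat.card_pos.ne'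
  rw [Cfsg.Agent.S0146.result B φ _ (indFun_isClassFunction B φ'), classInner_def]
  -- rewrite the inner sum
  have h1 : ∀ b : B, φ b * conj (Cfsg.indFun B φ' (b : G))
      = (Nat.card B : ℂ)⁻¹ * ∑ y : G, φ b * conj (Cfsg.extendByZero B φ' (y⁻¹ * (b : G) * y)) := by
    intro b
    rw [indFun_apply, map_mul, map_inv₀, Complex.conj_natCast, map_sum, Finset.mul_sum,
      Finset.mul_sum, Finset.mul_sum]
    refine Finset.sum_congr rfl fun y _ => ?_
    ring
  rw [Finset.sum_congr rfl fun b _ => h1 b, ← Finset.mul_sum, Finset.sum_comm]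
  have h2 : ∀ y : G, ∑ b : B, φ b * conj (Cfsg.extendByZero B φ' (y⁻¹ * (b : G) * y))
      = tw B φ φ' y := by
    intro y
    unfold tw
    rw [sum_extendByZero_mul B φ (fun c => conj (Cfsg.extendByZero B φ' (y⁻¹ * c * y)))]
  rw [Finset.sum_congr rfl fun y _ => h2 y]
  -- split the sum over `y`
  have h3 : ∑ y : G, tw B φ φ' y
      = (Nat.card B : ℂ) * tw B φ φ' 1 +
        ((Nat.card G : ℂ) - (Nat.card B : ℂ)) * tw B φ φ' t := by
    rw [← Finset.sum_filter_add_sum_filter_not Finset.univ (fun y : G => y ∈ B)]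
    congr 1
    · rw [Finset.sum_congr rfl (fun y hy => tw_of_mem B φ φ' hφ hφ' (Finset.mem_filter.mp hy).2),
        Finset.sum_const, nsmul_eq_mul]
      congr 2
      rw [Nat.card_eq_fintype_card, Fintype.card_subtype]
    · have h4 : ∀ y ∈ Finset.univ.filter (fun y : G => ¬ y ∈ B), tw B φ φ' y = tw B φ φ' t := by
        intro y hy
        obtain ⟨b₁, hb₁, b₂, hb₂, rfl⟩ := hdc y (Finset.mem_filter.mp hy).2
        exact tw_mul B φ φ' hφ hφ' hb₁ hb₂ t
      rw [Finset.sum_congr rfl h4, Finset.sum_const, nsmul_eq_mul]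
      congr 1
      have h5 : (Finset.univ.filter (fun y : G => ¬ y ∈ B)).card
          = Fintype.card G - (Finset.univ.filter (fun y : G => y ∈ B)).card := by
        have := Finset.card_filter_add_card_filter_not (s := (Finset.univ : Finset G))
          (fun y : G => y ∈ B)
        rw [Finset.card_univ] at this
        omega
      have h6 : (Finset.univ.filter (fun y : G => y ∈ B)).card ≤ Fintype.card G := by
        rw [← Finset.card_univ]
        exact Finset.card_le_card (Finset.filter_subset _ _)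
      rw [h5, Nat.cast_sub h6, Nat.card_eq_fintype_card, Nat.card_eq_fintype_card,
        Fintype.card_subtype]
  rw [h3, tw_one]
  field_simp

end Cfsg.Agent.Lib.Helper2.S3T
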