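import Mathlib
import Cfsg.Prelude.Def_Characters
import Cfsg.Agent.Lib.Helper1.CharFound3
import Cfsg.Agent.Lib.Helper4.Characters
import Cfsg.Agent.Lib.Helper8.ClassAlgebra

set_option autoImplicit false
set_option linter.style.haveILetI false
set_option linter.unusedSectionVars false

/-!
# The class sum identity and the arithmetic of the degrees
-/

namespace Cfsg.Agent.Lib.Helper2.S3T

open scoped ComplexConjugate
open Cfsg.Agent.Lib.Helper1 Cfsg.Agent.Lib.Helper4 Cfsg.Agent.Lib.Helper8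

universe u

section ClassSum

variable {G : Type u} [Group G] [Fintype G]

/-- the double class sum of an irreducible character. -/
theorem sum_sum_conj {χ : G → ℂ} (hχ : Cfsg.IsIrrCharacter G χ) (z : G) :
    ∑ x : G, ∑ y : G, χ ((x * z * x⁻¹) * (y * z * y⁻¹))
      = (Fintype.card G : ℂ) * (Fintype.card G : ℂ) * χ z * χ z / χ 1 := by
  have hcf := isClassFunction_irr hχ
  have h1 : ∀ x : G, ∑ y : G, χ ((x * z * x⁻¹) * (y * z * y⁻¹))
      = (Fintype.card G : ℂ) * χ z * χ z / χ 1 := by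
    intro x
    rw [sum_irr_mul_conj hχ, hcf]
  rw [Finset.sum_congr rfl fun x _ => h1 x, Finset.sum_const, Finset.card_univ, nsmul_eq_mul]
  ring

end ClassSum

section Arith

/-- the arithmetic of the degrees: the invariant character is linear. -/
theorem degree_arith (Q m a' a'' : ℕ) (hQ : 1 ≤ Q) (hm : 1 ≤ m) (hmQ : m * m ≤ Q)
    (ha : a' + a'' = m)
    (heq : (Q + 1) * (Q + 2) ^ 2 * m ^ 4
      = (m + a' * Q) * (m + a'' * Q) * (4 * (Q + 1) * m ^ 2 + Q ^ 2)) :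
    m = 1 ∧ (a' = 0 ∨ a'' = 0) := by
  -- work over the integers
  have heqZ : ((Q : ℤ) + 1) * ((Q : ℤ) + 2) ^ 2 * (m : ℤ) ^ 4
      = ((m : ℤ) + a' * Q) * ((m : ℤ) + a'' * Q) * (4 * ((Q : ℤ) + 1) * (m : ℤ) ^ 2 + (Q : ℤ) ^ 2) := by
    exact_mod_cast heq
  have haZ : (a' : ℤ) + a'' = m := by exact_mod_cast ha
  set s : ℤ := (a' : ℤ) * a'' with hs
  have hQ0 : (Q : ℤ) ≠ 0 := by
    have : (1 : ℤ) ≤ Q := by exact_mod_cast hQ
    omega
  -- the reduced equation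
  have hred : s * (Q : ℤ) ^ 2
      = ((Q : ℤ) + 1) * ((m : ℤ) ^ 4 - (m : ℤ) ^ 2 - 4 * (m : ℤ) ^ 2 * s) := by
    have h1 : ((m : ℤ) + a' * Q) * ((m : ℤ) + a'' * Q)
        = (m : ℤ) ^ 2 * ((Q : ℤ) + 1) + s * (Q : ℤ) ^ 2 := by
      rw [hs, ← haZ]; ring
    rw [h1] at heqZ
    have h2 : (Q : ℤ) ^ 2 * (s * (Q : ℤ) ^ 2
        - ((Q : ℤ) + 1) * ((m : ℤ) ^ 4 - (m : ℤ) ^ 2 - 4 * (m : ℤ) ^ 2 * s)) = 0 := by
      linear_combination (-1 : ℤ) * heqZ
    have h3 := (mul_eq_zero.mp h2).resolve_left (pow_ne_zero 2 hQ0)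
    linarith
  have hdvd : ((Q : ℤ) + 1) ∣ s := by
    have hcop : IsCoprime ((Q : ℤ) + 1) ((Q : ℤ) ^ 2) := by
      apply IsCoprime.pow_right
      exact ⟨1, -1, by ring⟩
    apply hcop.dvd_of_dvd_mul_right
    exact ⟨_, hred⟩
  have hs0 : 0 ≤ s := by positivity
  have hs4 : 4 * s ≤ Q := by
    have h1 : 4 * s ≤ (m : ℤ) * m := by
      rw [hs, ← haZ]
      nlinarith [sq_nonneg ((a' : ℤ) - a'')]
    have h2 : (m : ℤ) * m ≤ Q := by exact_mod_cast hmQ
    linarith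
  have hszero : s = 0 := by
    apply Int.eq_zero_of_abs_lt_dvd hdvd
    rw [abs_of_nonneg hs0]
    linarith
  rw [hszero] at hred
  have hm0 : (m : ℤ) ≠ 0 := by
    have : (1 : ℤ) ≤ m := by exact_mod_cast hm
    omega
  have hQ1 : (Q : ℤ) + 1 ≠ 0 := by
    have : (1 : ℤ) ≤ Q := by exact_mod_cast hQ
    omega
  have h4 : (m : ℤ) ^ 2 * ((m : ℤ) ^ 2 - 1) = 0 := by
    have h5 : ((Q : ℤ) + 1) * ((m : ℤ) ^ 4 - (m : ℤ) ^ 2 - 4 * (m : ℤ) ^ 2 * 0) = 0 := by
      rw [← hred]; ring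
    have h6 := (mul_eq_zero.mp h5).resolve_left hQ1
    linear_combination h6
  have h5 := (mul_eq_zero.mp h4).resolve_left (pow_ne_zero 2 hm0)
  have hm1 : (m : ℤ) = 1 := by
    have h6 : ((m : ℤ) - 1) * ((m : ℤ) + 1) = 0 := by linear_combination h5
    rcases mul_eq_zero.mp h6 with h | h
    · linarith
    · have : (1 : ℤ) ≤ m := by exact_mod_cast hm
      omega
  refine ⟨by exact_mod_cast hm1, ?_⟩
  have h7 : (a' : ℤ) * a'' = 0 := hszero
  rcases mul_eq_zero.mp h7 with h | h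
  · left; exact_mod_cast h
  · right; exact_mod_cast h

end Arith

end Cfsg.Agent.Lib.Helper2.S3T
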