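import Mathlib
import Cfsg.Prelude.Def_Characters
import Cfsg.Agent.Lib.Helper1.IndFun
import Cfsg.Agent.Lib.Helper1.CharFound3
import Cfsg.Agent.Lib.Helper4.Characters

set_option autoImplicit false
set_option linter.style.haveILetI false

/-!
# Class functions on a split extension orthogonal to the inflated characters
-/

namespace Cfsg.Agent.Lib.Helper2.S3T

open scoped ComplexConjugate
open Cfsg.Agent.Lib.Helper1 Cfsg.Agent.Lib.Helper4

universe u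

variable {Γ : Type u} [Group Γ] {Hq : Type u} [Group Hq]

/-- the product decomposition of a split extension -/
noncomputable def prodEquiv (π : Γ →* Hq) (σ : Hq →* Γ) (hπσ : ∀ h, π (σ h) = h) :
    π.ker × Hq ≃ Γ where
  toFun p := (p.1 : Γ) * σ p.2
  invFun g := (⟨g * (σ (π g))⁻¹, by
    rw [MonoidHom.mem_ker, map_mul, map_inv, hπσ, mul_inv_cancel]⟩, π g)
  left_inv := by
    rintro ⟨u, h⟩
    have h1 : π ((u : Γ) * σ h) = h := by
      rw [map_mul, MonoidHom.mem_ker.mp u.2, one_mul, hπσ]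
    apply Prod.ext
    · apply Subtype.ext
      show (u : Γ) * σ h * (σ (π ((u : Γ) * σ h)))⁻¹ = u
      rw [h1, mul_inv_cancel_right]
    · exact h1
  right_inv := by
    intro g
    show g * (σ (π g))⁻¹ * σ (π g) = g
    rw [inv_mul_cancel_right]

theorem prodEquiv_apply (π : Γ →* Hq) (σ : Hq →* Γ) (hπσ : ∀ h, π (σ h) = h) (p : π.ker × Hq) :
    prodEquiv π σ hπσ p = (p.1 : Γ) * σ p.2 := rfl

theorem pi_prodEquiv (π : Γ →* Hq) (σ : Hq →* Γ) (hπσ : ∀ h, π (σ h) = h) (p : π.ker × Hq) :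
    π (prodEquiv π σ hπσ p) = p.2 := by
  rw [prodEquiv_apply, map_mul, MonoidHom.mem_ker.mp p.1.2, one_mul, hπσ]

variable [Fintype Γ] [Fintype Hq]

noncomputable local instance kerFintype (π : Γ →* Hq) : Fintype π.ker := Fintype.ofFinite _

/-- the sum of a class function over a coset of the kernel -/
noncomputable def cosetSum (π : Γ →* Hq) (σ : Hq →* Γ) (ξ : Γ → ℂ) (h : Hq) : ℂ :=
  ∑ u : π.ker, ξ ((u : Γ) * σ h)

theorem cosetSum_isClassFunction (π : Γ →* Hq) (σ : Hq →* Γ) (ξ : Γ → ℂ)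
    (hξ : Cfsg.IsClassFunction Γ ξ) : Cfsg.IsClassFunction Hq (cosetSum π σ ξ) := by
  intro h k
  unfold cosetSum
  rw [← Equiv.sum_comp (MulAut.conjNormal (σ k) : π.ker ≃* π.ker).toEquiv]
  refine Finset.sum_congr rfl fun u _ => ?_
  have h1 : (((MulAut.conjNormal (σ k) : π.ker ≃* π.ker).toEquiv u : π.ker) : Γ)
      = σ k * (u : Γ) * (σ k)⁻¹ := rfl
  rw [h1, map_mul, map_mul, map_inv]
  have h2 : σ k * (u : Γ) * (σ k)⁻¹ * (σ k * σ h * (σ k)⁻¹)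
      = σ k * ((u : Γ) * σ h) * (σ k)⁻¹ := by group
  rw [h2, hξ]

theorem sum_cosetSum (π : Γ →* Hq) (σ : Hq →* Γ) (hπσ : ∀ h, π (σ h) = h) (ξ : Γ → ℂ)
    (ν : Hq → ℂ) :
    ∑ h : Hq, ν h * conj (cosetSum π σ ξ h) = ∑ g : Γ, ν (π g) * conj (ξ g) := by
  rw [← Equiv.sum_comp (prodEquiv π σ hπσ), Fintype.sum_prod_type, Finset.sum_comm]
  refine Finset.sum_congr rfl fun h _ => ?_
  unfold cosetSum
  rw [map_sum, Finset.mul_sum]
  refine Finset.sum_congr rfl fun u _ => ?_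
  rw [pi_prodEquiv, prodEquiv_apply]

/-- a class function orthogonal to all inflated irreducible characters has vanishing coset
sums. -/
theorem cosetSum_eq_zero (π : Γ →* Hq) (σ : Hq →* Γ) (hπσ : ∀ h, π (σ h) = h) (ξ : Γ → ℂ)
    (hξ : Cfsg.IsClassFunction Γ ξ)
    (horth : ∀ ν : Hq → ℂ, Cfsg.IsIrrCharacter Hq ν →
      Cfsg.classInner (fun g => ν (π g)) ξ = 0) (h : Hq) :
    cosetSum π σ ξ h = 0 := by
  have h1 : cosetSum π σ ξ = 0 := by
    apply eq_zero_of_orth _ (cosetSum_isClassFunction π σ ξ hξ)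
    intro ν hν
    have h2 := horth ν hν
    rw [classInner_def] at h2 ⊢
    have hΓ0 : (Nat.card Γ : ℂ) ≠ 0 := Nat.cast_ne_zero.mpr Nat.card_pos.ne'
    have h3 := (mul_eq_zero.mp h2).resolve_left (inv_ne_zero hΓ0)
    rw [sum_cosetSum π σ hπσ ξ ν, h3, mul_zero]
  rw [h1]
  rfl

/-- for a fixed-point-free element the coset is a single conjugacy class. -/
theorem cosetSum_of_fpf (π : Γ →* Hq) (σ : Hq →* Γ) (ξ : Γ → ℂ)
    (hξ : Cfsg.IsClassFunction Γ ξ) (h : Hq)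
    (hfpf : ∀ u : π.ker, σ h * (u : Γ) = (u : Γ) * σ h → u = 1) :
    cosetSum π σ ξ h = (Nat.card π.ker : ℂ) * ξ (σ h) := by
  classical
  -- the map `v ↦ v * σ h * v⁻¹ * (σ h)⁻¹`
  have hmem : ∀ v : π.ker, (v : Γ) * σ h * (v : Γ)⁻¹ * (σ h)⁻¹ ∈ π.ker := by
    intro v
    have h1 : σ h * (v : Γ)⁻¹ * (σ h)⁻¹ ∈ π.ker :=
      (inferInstance : (π.ker).Normal).conj_mem _ (π.ker.inv_mem v.2) _
    have h2 : (v : Γ) * σ h * (v : Γ)⁻¹ * (σ h)⁻¹ = (v : Γ) * (σ h * (v : Γ)⁻¹ * (σ h)⁻¹) := by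
      group
    rw [h2]
    exact π.ker.mul_mem v.2 h1
  let f : π.ker → π.ker := fun v => ⟨_, hmem v⟩
  have hinj : Function.Injective f := by
    intro v w hvw
    have h1 : (v : Γ) * σ h * (v : Γ)⁻¹ * (σ h)⁻¹ = (w : Γ) * σ h * (w : Γ)⁻¹ * (σ h)⁻¹ :=
      congrArg Subtype.val hvw
    have h2 : (v : Γ) * σ h * (v : Γ)⁻¹ = (w : Γ) * σ h * (w : Γ)⁻¹ := mul_right_cancel h1
    have h3 : σ h * ((w⁻¹ * v : π.ker) : Γ) = ((w⁻¹ * v : π.ker) : Γ) * σ h := by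
      rw [Subgroup.coe_mul, Subgroup.coe_inv]
      calc σ h * ((w : Γ)⁻¹ * (v : Γ))
          = (w : Γ)⁻¹ * ((w : Γ) * σ h * (w : Γ)⁻¹) * (v : Γ) := by group
        _ = (w : Γ)⁻¹ * ((v : Γ) * σ h * (v : Γ)⁻¹) * (v : Γ) := by rw [h2]
        _ = (w : Γ)⁻¹ * (v : Γ) * σ h := by group
    have h4 := hfpf _ h3
    have h5 : v = w * (w⁻¹ * v) := by group
    rw [h5, h4, mul_one]
  have hbij : Function.Bijective f := Finite.injective_iff_bijective.mp hinj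
  unfold cosetSum
  rw [← Equiv.sum_comp (Equiv.ofBijective f hbij)]
  have h1 : ∀ v : π.ker, ξ (((Equiv.ofBijective f hbij v : π.ker) : Γ) * σ h) = ξ (σ h) := by
    intro v
    have h2 : ((Equiv.ofBijective f hbij v : π.ker) : Γ) * σ h = (v : Γ) * σ h * (v : Γ)⁻¹ := by
      show (v : Γ) * σ h * (v : Γ)⁻¹ * (σ h)⁻¹ * σ h = _
      rw [inv_mul_cancel_right]
    rw [h2, hξ]
  rw [Finset.sum_congr rfl fun v _ => h1 v, Finset.sum_const, Finset.card_univ, nsmul_eq_mul,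
    Nat.card_eq_fintype_card]

/-- the vanishing away from the kernel -/
theorem eq_zero_of_fpf (π : Γ →* Hq) (σ : Hq →* Γ) (hπσ : ∀ h, π (σ h) = h) (ξ : Γ → ℂ)
    (hξ : Cfsg.IsClassFunction Γ ξ)
    (horth : ∀ ν : Hq → ℂ, Cfsg.IsIrrCharacter Hq ν →
      Cfsg.classInner (fun g => ν (π g)) ξ = 0) (h : Hq)
    (hfpf : ∀ u : π.ker, σ h * (u : Γ) = (u : Γ) * σ h → u = 1) :
    ξ (σ h) = 0 := by
  have h1 := cosetSum_eq_zero π σ hπσ ξ hξ horth h
  rw [cosetSum_of_fpf π σ ξ hξ h hfpf] at h1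
  have h0 : (Nat.card π.ker : ℂ) ≠ 0 := Nat.cast_ne_zero.mpr Nat.card_pos.ne'
  exact (mul_eq_zero.mp h1).resolve_left h0

/-- the sum over the kernel, when the non-identity elements of the kernel are conjugate. -/
theorem kernel_relation (π : Γ →* Hq) (σ : Hq →* Γ) (hπσ : ∀ h, π (σ h) = h) (ξ : Γ → ℂ)
    (hξ : Cfsg.IsClassFunction Γ ξ)
    (horth : ∀ ν : Hq → ℂ, Cfsg.IsIrrCharacter Hq ν →
      Cfsg.classInner (fun g => ν (π g)) ξ = 0)
    (htr : ∀ u v : π.ker, u ≠ 1 → v ≠ 1 → ∃ g : Γ, g * (u : Γ) * g⁻¹ = v)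
    (u₀ : π.ker) (hu₀ : u₀ ≠ 1) :
    ξ 1 + ((Nat.card π.ker : ℂ) - 1) * ξ (u₀ : Γ) = 0 := by
  classical
  have h1 := cosetSum_eq_zero π σ hπσ ξ hξ horth 1
  unfold cosetSum at h1
  rw [← Finset.add_sum_erase Finset.univ _ (Finset.mem_univ (1 : π.ker))] at h1
  have h2 : ∀ u ∈ (Finset.univ : Finset π.ker).erase 1, ξ ((u : Γ) * σ 1) = ξ (u₀ : Γ) := by
    intro u hu
    rw [map_one, mul_one]
    obtain ⟨g, hg⟩ := htr u₀ u hu₀ (Finset.ne_of_mem_erase hu)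
    rw [← hg, hξ]
  rw [Finset.sum_congr rfl h2, Finset.sum_const, nsmul_eq_mul,
    Finset.card_erase_of_mem (Finset.mem_univ _), Finset.card_univ] at h1
  have h3 : (((Fintype.card π.ker - 1 : ℕ)) : ℂ) = (Nat.card π.ker : ℂ) - 1 := by
    rw [Nat.cast_sub Fintype.card_pos, Nat.card_eq_fintype_card, Nat.cast_one]
  rw [h3] at h1
  simpa using h1

end Cfsg.Agent.Lib.Helper2.S3T
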