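import Mathlib
import Cfsg.Agent.Lib.Helper2.S3T6

set_option autoImplicit false
set_option linter.style.haveILetI false
set_option linter.unusedSectionVars false

/-!
# The projection of the point stabilizer onto the two-point stabilizer
-/

namespace Cfsg.Agent.Lib.Helper2.S3T

open MulAction

variable {G : Type*} {Ω : Type*} [Group G] [MulAction G Ω] [Fintype Ω] {a b : Ω} {F : Subgroup G}
  {t z : G} {q : ℕ}

namespace TData

theorem decomp_unique (T : TData G Ω a b F t z q) {u u' k k' : G} (hu : u ∈ F) (hu' : u' ∈ F)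
    (hkb : k • b = b) (hkb' : k' • b = b) (h : u * k = u' * k') : u = u' ∧ k = k' := by
  have h1 : u • b = u' • b := by
    have := congrArg (fun g : G => g • b) h
    simp only [mul_smul, hkb, hkb'] at this
    exact this
  have h2 : u = u' := T.F_eq_of_smul hu hu' (Ne.symm T.hab) h1
  refine ⟨h2, ?_⟩
  rw [h2] at h
  exact mul_left_cancel h

variable [Finite G]

theorem exists_proj (T : TData G Ω a b F t z q) (g : stabilizer G a) :
    ∃ k : ↥(stabilizer G a ⊓ stabilizer G b : Subgroup G), ∃ u ∈ F, (g : G) = u * (k : G) := by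
  obtain ⟨u, hu, k, hka, hkb, hg⟩ := T.decomp (mem_stabilizer_iff.mp g.2)
  exact ⟨⟨k, Subgroup.mem_inf.mpr ⟨mem_stabilizer_iff.mpr hka, mem_stabilizer_iff.mpr hkb⟩⟩,
    u, hu, hg⟩

/-- the projection, as a function -/
noncomputable def projFun (T : TData G Ω a b F t z q) (g : stabilizer G a) :
    ↥(stabilizer G a ⊓ stabilizer G b : Subgroup G) := Classical.choose (T.exists_proj g)

theorem projFun_spec (T : TData G Ω a b F t z q) (g : stabilizer G a) :
    ∃ u ∈ F, (g : G) = u * (T.projFun g : G) := Classical.choose_spec (T.exists_proj g)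

theorem mem_H_b {k : G} (hk : k ∈ (stabilizer G a ⊓ stabilizer G b : Subgroup G)) : k • b = b :=
  mem_stabilizer_iff.mp (Subgroup.mem_inf.mp hk).2

theorem mem_H_a {k : G} (hk : k ∈ (stabilizer G a ⊓ stabilizer G b : Subgroup G)) : k • a = a :=
  mem_stabilizer_iff.mp (Subgroup.mem_inf.mp hk).1

theorem projFun_eq (T : TData G Ω a b F t z q) (g : stabilizer G a) {u : G} (hu : u ∈ F)
    (k : ↥(stabilizer G a ⊓ stabilizer G b : Subgroup G)) (h : (g : G) = u * (k : G)) :
    T.projFun g = k := by
  obtain ⟨u', hu', h'⟩ := T.projFun_spec g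
  rw [h] at h'
  exact Subtype.ext (T.decomp_unique hu hu' (mem_H_b k.2) (mem_H_b (T.projFun g).2) h').2.symm

/-- the projection of the point stabilizer onto the two-point stabilizer, with kernel `F`. -/
noncomputable def piHom (T : TData G Ω a b F t z q) :
    stabilizer G a →* ↥(stabilizer G a ⊓ stabilizer G b : Subgroup G) :=
  MonoidHom.mk' T.projFun (by
    intro g₁ g₂
    obtain ⟨u₁, hu₁, h₁⟩ := T.projFun_spec g₁
    obtain ⟨u₂, hu₂, h₂⟩ := T.projFun_spec g₂
    apply T.projFun_eq (g₁ * g₂)
      (F.mul_mem hu₁ (T.hFnorm (T.projFun g₁ : G) (mem_H_a (T.projFun g₁).2) u₂ hu₂))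
    rw [Subgroup.coe_mul, Subgroup.coe_mul, h₁, h₂]
    group)

theorem piHom_apply (T : TData G Ω a b F t z q) (g : stabilizer G a) :
    T.piHom g = T.projFun g := rfl

/-- the inclusion of the two-point stabilizer -/
def sigmaHom (a b : Ω) : ↥(stabilizer G a ⊓ stabilizer G b : Subgroup G) →* stabilizer G a :=
  Subgroup.inclusion inf_le_left

omit [Fintype Ω] [Finite G] in
theorem sigmaHom_coe (k : ↥(stabilizer G a ⊓ stabilizer G b : Subgroup G)) :
    ((sigmaHom a b k : stabilizer G a) : G) = (k : G) := rfl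

theorem piHom_sigmaHom (T : TData G Ω a b F t z q)
    (k : ↥(stabilizer G a ⊓ stabilizer G b : Subgroup G)) : T.piHom (sigmaHom a b k) = k := by
  rw [piHom_apply]
  apply T.projFun_eq _ F.one_mem
  rw [one_mul]
  rfl

theorem mem_ker_piHom (T : TData G Ω a b F t z q) (g : stabilizer G a) :
    g ∈ T.piHom.ker ↔ (g : G) ∈ F := by
  rw [MonoidHom.mem_ker, piHom_apply]
  constructor
  · intro h
    obtain ⟨u, hu, hg⟩ := T.projFun_spec g
    rw [h, Subgroup.coe_one, mul_one] at hg
    rw [hg]
    exact hu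
  · intro h
    apply T.projFun_eq g h
    rw [Subgroup.coe_one, mul_one]

theorem ker_piHom (T : TData G Ω a b F t z q) : T.piHom.ker = F.subgroupOf (stabilizer G a) := by
  ext g
  rw [T.mem_ker_piHom, Subgroup.mem_subgroupOf]

theorem card_ker_piHom (T : TData G Ω a b F t z q) : Nat.card T.piHom.ker = q := by
  rw [T.ker_piHom, Nat.card_congr (Subgroup.subgroupOfEquivOfLe T.hFa).toEquiv, T.hFcard]

/-- the two-point stabilizer acts without fixed points on the kernel. -/
theorem ker_fpf (T : TData G Ω a b F t z q)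
    (h : ↥(stabilizer G a ⊓ stabilizer G b : Subgroup G)) (hh : h ≠ 1) (u : T.piHom.ker)
    (hc : sigmaHom a b h * (u : stabilizer G a) = (u : stabilizer G a) * sigmaHom a b h) :
    u = 1 := by
  by_contra hu1
  apply hh
  have huF : ((u : stabilizer G a) : G) ∈ F := (T.mem_ker_piHom _).mp u.2
  have hu1' : ((u : stabilizer G a) : G) ≠ 1 := by
    intro h1
    apply hu1
    apply Subtype.ext
    apply Subtype.ext
    exact h1
  have hc' : (h : G) * ((u : stabilizer G a) : G) = ((u : stabilizer G a) : G) * (h : G) := by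
    have := congrArg (Subtype.val : stabilizer G a → G) hc
    simpa [sigmaHom_coe] using this
  apply Subtype.ext
  exact T.semi (mem_H_a h.2) (mem_H_b h.2) huF hu1' hc'

/-- the non-identity elements of the kernel are conjugate in the point stabilizer. -/
theorem ker_trans (T : TData G Ω a b F t z q) (u v : T.piHom.ker) (hu : u ≠ 1) (hv : v ≠ 1) :
    ∃ g : stabilizer G a, g * (u : stabilizer G a) * g⁻¹ = v := by
  have huF : ((u : stabilizer G a) : G) ∈ F := (T.mem_ker_piHom _).mp u.2
  have hvF : ((v : stabilizer G a) : G) ∈ F := (T.mem_ker_piHom _).mp v.2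
  have hu1 : ((u : stabilizer G a) : G) ≠ 1 := by
    intro h1
    apply hu
    apply Subtype.ext
    apply Subtype.ext
    exact h1
  have hv1 : ((v : stabilizer G a) : G) ≠ 1 := by
    intro h1
    apply hv
    apply Subtype.ext
    apply Subtype.ext
    exact h1
  have hba : b ≠ a := Ne.symm T.hab
  have hub : ((u : stabilizer G a) : G) • b ≠ b := fun h' => hba (T.hFfix _ huF hu1 b h')
  have hua : ((u : stabilizer G a) : G) • b ≠ a := stab_ne' a (T.mem_a huF) hba
  have hvb : ((v : stabilizer G a) : G) • b ≠ b := fun h' => hba (T.hFfix _ hvF hv1 b h')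
  have hva : ((v : stabilizer G a) : G) • b ≠ a := stab_ne' a (T.mem_a hvF) hba
  obtain ⟨h, hha, hhb, hh⟩ := T.H_trans hua hub hva hvb
  refine ⟨⟨h, mem_stabilizer_iff.mpr hha⟩, ?_⟩
  apply Subtype.ext
  show h * ((u : stabilizer G a) : G) * h⁻¹ = ((v : stabilizer G a) : G)
  apply T.F_eq_of_smul (T.hFnorm h hha _ huF) hvF hba
  rw [mul_smul, mul_smul, inv_smul_eq_iff.mpr hhb.symm, hh]

end TData

end Cfsg.Agent.Lib.Helper2.S3T
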