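import Mathlib
import Cfsg.Agent.Lib.Helper2.S3T2
import Cfsg.Agent.Lib.Helper2.S3T7

set_option autoImplicit false
set_option linter.style.haveILetI false
set_option linter.unusedSectionVars false

/-!
# Cardinalities and the double coset decomposition
-/

namespace Cfsg.Agent.Lib.Helper2.S3T

open MulAction

universe u

variable {G : Type u} {Ω : Type*} [Group G] [MulAction G Ω] [Fintype Ω] {a b : Ω}
  {F : Subgroup G} {t z : G} {q : ℕ}

namespace TData

theorem exists_other (T : TData G Ω a b F t z q) (x y : Ω) : ∃ w : Ω, x ≠ w ∧ y ≠ w := by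
  classical
  have h1 : ({x, y} : Finset Ω).card < (Finset.univ : Finset Ω).card := by
    rw [Finset.card_univ, T.hcard]
    have := T.hq
    have := Finset.card_le_two (a := x) (b := y)
    omega
  obtain ⟨w, -, hw⟩ := Finset.exists_mem_notMem_of_card_lt_card h1
  rw [Finset.mem_insert, Finset.mem_singleton, not_or] at hw
  exact ⟨w, Ne.symm hw.1, Ne.symm hw.2⟩

theorem exists_map_pair (T : TData G Ω a b F t z q) {x y x' y' : Ω} (hxy : x ≠ y)
    (hxy' : x' ≠ y') : ∃ g : G, g • x = x' ∧ g • y = y' := by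
  obtain ⟨w, hxw, hyw⟩ := T.exists_other x y
  obtain ⟨w', hxw', hyw'⟩ := T.exists_other x' y'
  obtain ⟨g, h1, h2, -⟩ := T.trans3 x y w x' y' w' hxy hxw hyw hxy' hxw' hyw'
  exact ⟨g, h1, h2⟩

theorem exists_map_point (T : TData G Ω a b F t z q) (x y : Ω) : ∃ g : G, g • x = y := by
  obtain ⟨w, hxw, -⟩ := T.exists_other x x
  obtain ⟨w', hyw', -⟩ := T.exists_other y y
  obtain ⟨g, h1, -⟩ := T.exists_map_pair hxw hyw'
  exact ⟨g, h1⟩

variable [Finite G]

theorem card_H (T : TData G Ω a b F t z q) :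
    Nat.card ↥(stabilizer G a ⊓ stabilizer G b : Subgroup G) = q - 1 := by
  classical
  obtain ⟨c₀, hc₀a, hc₀b⟩ := T.exists_third
  have hcardΩ' : Nat.card {c : Ω // ¬ (c = a ∨ c = b)} = q - 1 := by
    rw [Nat.card_eq_fintype_card, Fintype.card_subtype_compl]
    have h1 : Fintype.card {c : Ω // c = a ∨ c = b} = 2 := by
      rw [Fintype.card_subtype]
      have : (Finset.univ.filter (fun c : Ω => c = a ∨ c = b)) = {a, b} := by
        ext c; simp
      rw [this, Finset.card_pair T.hab]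
    rw [h1, T.hcard]
    omega
  rw [← hcardΩ']
  have hmem : ∀ h : ↥(stabilizer G a ⊓ stabilizer G b : Subgroup G),
      ¬ ((h : G) • c₀ = a ∨ (h : G) • c₀ = b) := by
    intro h hcon
    rcases hcon with h1 | h1
    · exact stab_ne' a (mem_H_a h.2) hc₀a h1
    · exact stab_ne' b (mem_H_b h.2) hc₀b h1
  apply Nat.card_congr
  refine Equiv.ofBijective (fun h => ⟨(h : G) • c₀, hmem h⟩) ⟨?_, ?_⟩
  · intro h k hhk
    have h1 : (h : G) • c₀ = (k : G) • c₀ := congrArg Subtype.val hhk
    have h2 : ((k : G)⁻¹ * (h : G)) • c₀ = c₀ := by rw [mul_smul, h1, inv_smul_smul]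
    have h3 : (k : G)⁻¹ * (h : G) = 1 := by
      apply T.H_eq_one _ _ hc₀a hc₀b h2
      · rw [mul_smul, mem_H_a h.2, inv_smul_eq_iff, mem_H_a k.2]
      · rw [mul_smul, mem_H_b h.2, inv_smul_eq_iff, mem_H_b k.2]
    apply Subtype.ext
    have : (h : G) = (k : G) * ((k : G)⁻¹ * (h : G)) := by group
    rw [this, h3, mul_one]
  · rintro ⟨d, hd⟩
    push Not at hd
    obtain ⟨h, hha, hhb, hh⟩ := T.H_trans hc₀a hc₀b hd.1 hd.2
    exact ⟨⟨h, Subgroup.mem_inf.mpr ⟨mem_stabilizer_iff.mpr hha, mem_stabilizer_iff.mpr hhb⟩⟩,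
      Subtype.ext hh⟩

theorem card_B (T : TData G Ω a b F t z q) : Nat.card (stabilizer G a) = q * (q - 1) := by
  rw [← Nat.card_congr (prodEquiv T.piHom (sigmaHom a b) T.piHom_sigmaHom), Nat.card_prod,
    T.card_ker_piHom, T.card_H]

theorem card_G (T : TData G Ω a b F t z q) : Nat.card G = (q + 1) * (q * (q - 1)) := by
  classical
  haveI : Fintype G := Fintype.ofFinite G
  haveI : Fintype (MulAction.orbit G a) := Fintype.ofFinite _
  haveI : Fintype (stabilizer G a) := Fintype.ofFinite _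
  have h1 := MulAction.card_orbit_mul_card_stabilizer_eq_card_group G a
  have h2 : MulAction.orbit G a = Set.univ := by
    ext x
    simp only [Set.mem_univ, iff_true]
    obtain ⟨g, hg⟩ := T.exists_map_point a x
    exact ⟨g, hg⟩
  rw [Nat.card_eq_fintype_card, ← h1, ← Nat.card_eq_fintype_card (α := stabilizer G a), T.card_B]
  congr 1
  rw [← Nat.card_eq_fintype_card, h2, Nat.card_congr (Equiv.Set.univ Ω), Nat.card_eq_fintype_card,
    T.hcard]

/-- the double coset decomposition. -/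
theorem bruhat (T : TData G Ω a b F t z q) (g : G) (hg : g ∉ stabilizer G a) :
    ∃ b₁ ∈ stabilizer G a, ∃ b₂ ∈ stabilizer G a, g = b₁ * t * b₂ := by
  have hga : g • a ≠ a := fun h => hg (mem_stabilizer_iff.mpr h)
  obtain ⟨u, hu, hub⟩ := T.F_trans (Ne.symm T.hab) hga
  refine ⟨u, T.hFa hu, (u * t)⁻¹ * g, ?_, by group⟩
  rw [mem_stabilizer_iff, mul_smul, inv_smul_eq_iff, mul_smul, T.hta, hub]

end TData

end Cfsg.Agent.Lib.Helper2.S3T
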