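import Mathlib
import Cfsg.Agent.Lib.Helper2.S3T8

set_option autoImplicit false
set_option linter.style.haveILetI false
set_option linter.unusedSectionVars false

/-!
# The stabilizer of the pair `{a, b}`
-/

namespace Cfsg.Agent.Lib.Helper2.S3T

open MulAction

universe u

variable {G : Type u} {Ω : Type*} [Group G] [MulAction G Ω]

/-- the stabilizer of the pair `{a, b}` -/
def pairStab (a b : Ω) : Subgroup G where
  carrier := {g | (g • a = a ∧ g • b = b) ∨ (g • a = b ∧ g • b = a)}
  one_mem' := Or.inl ⟨one_smul _ _, one_smul _ _⟩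
  mul_mem' := by
    rintro g h (⟨hga, hgb⟩ | ⟨hga, hgb⟩) (⟨hha, hhb⟩ | ⟨hha, hhb⟩)
    · left; exact ⟨by rw [mul_smul, hha, hga], by rw [mul_smul, hhb, hgb]⟩
    · right; exact ⟨by rw [mul_smul, hha, hgb], by rw [mul_smul, hhb, hga]⟩
    · right; exact ⟨by rw [mul_smul, hha, hga], by rw [mul_smul, hhb, hgb]⟩
    · left; exact ⟨by rw [mul_smul, hha, hgb], by rw [mul_smul, hhb, hga]⟩
  inv_mem' := by
    rintro g (⟨hga, hgb⟩ | ⟨hga, hgb⟩)
    · left; exact ⟨by rw [inv_smul_eq_iff, hga], by rw [inv_smul_eq_iff, hgb]⟩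
    · right; exact ⟨by rw [inv_smul_eq_iff, hgb], by rw [inv_smul_eq_iff, hga]⟩

theorem mem_pairStab {a b : Ω} {g : G} :
    g ∈ pairStab (G := G) a b ↔ (g • a = a ∧ g • b = b) ∨ (g • a = b ∧ g • b = a) := Iff.rfl

theorem memHa {a b : Ω} {k : G} (hk : k ∈ (stabilizer G a ⊓ stabilizer G b : Subgroup G)) :
    k • a = a :=
  mem_stabilizer_iff.mp (Subgroup.mem_inf.mp hk).1

theorem memHb {a b : Ω} {k : G} (hk : k ∈ (stabilizer G a ⊓ stabilizer G b : Subgroup G)) :
    k • b = b :=
  mem_stabilizer_iff.mp (Subgroup.mem_inf.mp hk).2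

theorem H_le_pairStab (a b : Ω) :
    (stabilizer G a ⊓ stabilizer G b : Subgroup G) ≤ pairStab a b := by
  intro g hg
  exact Or.inl ⟨memHa hg, memHb hg⟩

/-- the inclusion of the two-point stabilizer into the pair stabilizer -/
def iotaD (a b : Ω) : ↥(stabilizer G a ⊓ stabilizer G b : Subgroup G) →* pairStab (G := G) a b :=
  Subgroup.inclusion (H_le_pairStab a b)

theorem iotaD_coe {a b : Ω} (h : ↥(stabilizer G a ⊓ stabilizer G b : Subgroup G)) :
    ((iotaD a b h : pairStab (G := G) a b) : G) = (h : G) := rfl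

theorem iotaD_injective (a b : Ω) : Function.Injective (iotaD (G := G) a b) :=
  Subgroup.inclusion_injective _

variable [Fintype Ω] {a b : Ω} {F : Subgroup G} {t z : G} {q : ℕ}

namespace TData

theorem t_mem (T : TData G Ω a b F t z q) : t ∈ pairStab (G := G) a b :=
  Or.inr ⟨T.hta, T.htb⟩

theorem z_mem (T : TData G Ω a b F t z q) : z ∈ pairStab (G := G) a b :=
  Or.inl ⟨T.hza, T.hzb⟩

/-- `t` as an element of the pair stabilizer -/
def tD (T : TData G Ω a b F t z q) : pairStab (G := G) a b := ⟨t, T.t_mem⟩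

/-- `z` as an element of the pair stabilizer -/
def zD (T : TData G Ω a b F t z q) : pairStab (G := G) a b := ⟨z, T.z_mem⟩

theorem tD_notMem_range (T : TData G Ω a b F t z q)
    (h : ↥(stabilizer G a ⊓ stabilizer G b : Subgroup G)) : iotaD a b h ≠ T.tD := by
  intro hcon
  have h1 : (h : G) = t := congrArg Subtype.val hcon
  have h2 : t • a = a := by rw [← h1]; exact memHa h.2
  rw [T.hta] at h2
  exact T.hab h2.symm

theorem tD_mul_tD (T : TData G Ω a b F t z q) : T.tD * T.tD = 1 := Subtype.ext T.tt

open Classical in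
/-- the pair stabilizer is twice the two-point stabilizer -/
noncomputable def pairStabEquiv (T : TData G Ω a b F t z q) :
    pairStab (G := G) a b ≃ ↥(stabilizer G a ⊓ stabilizer G b : Subgroup G) × Bool where
  toFun g := if h : (g : G) • a = a then
      (⟨g, by
        rcases g.2 with h1 | h1
        · exact Subgroup.mem_inf.mpr ⟨mem_stabilizer_iff.mpr h1.1, mem_stabilizer_iff.mpr h1.2⟩
        · exact absurd (h1.1.symm.trans h) (Ne.symm T.hab)⟩, false)
    else
      (⟨t * g, by
        rcases g.2 with h1 | h1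
        · exact absurd h1.1 h
        · refine Subgroup.mem_inf.mpr ⟨mem_stabilizer_iff.mpr ?_, mem_stabilizer_iff.mpr ?_⟩
          · rw [mul_smul, h1.1, T.htb]
          · rw [mul_smul, h1.2, T.hta]⟩, true)
  invFun p := if p.2 then ⟨t * (p.1 : G), Or.inr
      ⟨by rw [mul_smul, memHa p.1.2, T.hta], by rw [mul_smul, memHb p.1.2, T.htb]⟩⟩
    else ⟨(p.1 : G), H_le_pairStab a b p.1.2⟩
  left_inv := by
    intro g
    by_cases h : (g : G) • a = a
    · simp only [dif_pos h]
      rfl
    · simp only [dif_neg h]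
      apply Subtype.ext
      show t * (t * (g : G)) = g
      rw [← mul_assoc, T.tt, one_mul]
  right_inv := by
    rintro ⟨k, c⟩
    cases c with
    | false =>
      have h : (k : G) • a = a := memHa k.2
      simp only [Bool.false_eq_true, if_false, dif_pos h]
    | true =>
      have h : ¬ (t * (k : G)) • a = a := by
        rw [mul_smul, memHa k.2, T.hta]
        exact Ne.symm T.hab
      simp only [if_true, dif_neg h]
      congr 1
      apply Subtype.ext
      show t * (t * (k : G)) = k
      rw [← mul_assoc, T.tt, one_mul]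

theorem card_D [Finite G] (T : TData G Ω a b F t z q) :
    Nat.card (pairStab (G := G) a b)
      = 2 * Nat.card ↥(stabilizer G a ⊓ stabilizer G b : Subgroup G) := by
  rw [Nat.card_congr T.pairStabEquiv, Nat.card_prod, Nat.card_eq_fintype_card (α := Bool),
    Fintype.card_bool, mul_comm]

/-- the fixed points of `t` -/
theorem exists_fix_t (T : TData G Ω a b F t z q) :
    ∃ p₀ p₁ : Ω, p₀ ≠ p₁ ∧ t • p₀ = p₀ ∧ t • p₁ = p₁ ∧ p₀ ≠ a ∧ p₀ ≠ b ∧ p₁ ≠ a ∧ p₁ ≠ b ∧
      ∀ w : Ω, t • w = w → w = p₀ ∨ w = p₁ := by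
  obtain ⟨c, hc⟩ := isConj_iff.mp T.htz
  have h0 : t • c • a = c • a := by
    rw [← hc, mul_smul, mul_smul, inv_smul_smul, T.hza]
  have h1 : t • c • b = c • b := by
    rw [← hc, mul_smul, mul_smul, inv_smul_smul, T.hzb]
  have hne : c • a ≠ c • b := fun h => T.hab (MulAction.injective c h)
  have ht1 : t ≠ 1 := by
    intro h
    have := T.hta
    rw [h, one_smul] at this
    exact T.hab this
  refine ⟨c • a, c • b, hne, h0, h1, ?_, ?_, ?_, ?_, ?_⟩
  · intro h; rw [h, T.hta] at h0; exact T.hab h0.symm
  · intro h; rw [h, T.htb] at h0; exact T.hab h0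
  · intro h; rw [h, T.hta] at h1; exact T.hab h1.symm
  · intro h; rw [h, T.htb] at h1; exact T.hab h1
  · intro w hw
    by_contra hcon
    push Not at hcon
    exact ht1 (T.three t (c • a) (c • b) w hne (Ne.symm hcon.1) (Ne.symm hcon.2) h0 h1 hw)

/-- the centralizer of `t` in the two-point stabilizer -/
theorem centralizer_t_H [Finite G] (T : TData G Ω a b F t z q) {d : G} (hda : d • a = a)
    (hdb : d • b = b) (hc : d * t = t * d) : d = 1 ∨ d = z := by
  obtain ⟨p₀, p₁, hp, ht0, ht1, hp0a, hp0b, hp1a, hp1b, hfix⟩ := T.exists_fix_t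
  by_cases hd1 : d = 1
  · exact Or.inl hd1
  right
  have hmove : ∀ k : G, k • a = a → k • b = b → k ≠ 1 → k * t = t * k → k • p₀ = p₁ := by
    intro k hka hkb hk1 hkc
    have h1 : t • k • p₀ = k • p₀ := by rw [← mul_smul, ← hkc, mul_smul, ht0]
    rcases hfix _ h1 with h | h
    · exact absurd (T.H_eq_one hka hkb hp0a hp0b h) hk1
    · exact h
  have h1 := hmove d hda hdb hd1 hc
  have h2 := hmove z T.hza T.hzb T.hz1 T.z_comm_t.symm
  have h3 : z⁻¹ * d = 1 := by
    apply T.H_eq_one _ _ hp0a hp0b
    · rw [mul_smul, h1, inv_smul_eq_iff, h2]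
    · rw [mul_smul, hda, inv_smul_eq_iff, T.hza]
    · rw [mul_smul, hdb, inv_smul_eq_iff, T.hzb]
  have : d = z * (z⁻¹ * d) := by group
  rw [this, h3, mul_one]

theorem card_centralizer_tD [Finite G] (T : TData G Ω a b F t z q) :
    Nat.card (Subgroup.centralizer ({T.tD} : Set (pairStab (G := G) a b))) = 4 := by
  classical
  have ht1 : t ≠ 1 := by
    intro h
    have := T.hta
    rw [h, one_smul] at this
    exact T.hab this
  have hset : ((Subgroup.centralizer ({T.tD} : Set (pairStab (G := G) a b)) :
      Subgroup (pairStab (G := G) a b)) : Set (pairStab (G := G) a b))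
      = {1, T.tD, T.zD, T.tD * T.zD} := by
    ext d
    simp only [SetLike.mem_coe, Subgroup.mem_centralizer_iff, Set.mem_singleton_iff, forall_eq,
      Set.mem_insert_iff]
    constructor
    · intro hd
      have hd' : t * (d : G) = (d : G) * t := congrArg Subtype.val hd
      rcases d.2 with h1 | h1
      · rcases T.centralizer_t_H h1.1 h1.2 hd'.symm with h | h
        · left; exact Subtype.ext h
        · right; right; left; exact Subtype.ext h
      · have h2 : (t * (d : G)) • a = a := by rw [mul_smul, h1.1, T.htb]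
        have h3 : (t * (d : G)) • b = b := by rw [mul_smul, h1.2, T.hta]
        have h4 : (t * (d : G)) * t = t * (t * (d : G)) := by rw [mul_assoc, ← hd']
        rcases T.centralizer_t_H h2 h3 h4 with h | h
        · right; left
          apply Subtype.ext
          show (d : G) = t
          have : (d : G) = t * (t * (d : G)) := by rw [← mul_assoc, T.tt, one_mul]
          rw [this, h, mul_one]
        · right; right; right
          apply Subtype.ext
          show (d : G) = t * z
          have : (d : G) = t * (t * (d : G)) := by rw [← mul_assoc, T.tt, one_mul]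
          rw [this, h]
    · rintro (rfl | rfl | rfl | rfl)
      · simp
      · rfl
      · apply Subtype.ext
        show t * z = z * t
        exact T.z_comm_t
      · apply Subtype.ext
        show t * (t * z) = t * z * t
        rw [mul_assoc t z t, ← T.z_comm_t]
  have hz1' : z ≠ 1 := T.hz1
  have h1t : (1 : pairStab (G := G) a b) ≠ T.tD := fun h => ht1 (congrArg Subtype.val h).symm
  have h1z : (1 : pairStab (G := G) a b) ≠ T.zD := fun h => hz1' (congrArg Subtype.val h).symm
  have h1tz : (1 : pairStab (G := G) a b) ≠ T.tD * T.zD := by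
    intro h
    have h2 : (1 : G) = t * z := congrArg Subtype.val h
    have h3 : (t * z) • a = b := by rw [mul_smul, T.hza, T.hta]
    rw [← h2, one_smul] at h3
    exact T.hab h3
  have htz' : T.tD ≠ T.zD := by
    intro h
    have h2 : t = z := congrArg Subtype.val h
    have h3 := T.hta
    rw [h2, T.hza] at h3
    exact T.hab h3
  have httz : T.tD ≠ T.tD * T.zD := by
    intro h
    have h2 : t = t * z := congrArg Subtype.val h
    exact hz1' (mul_left_cancel (a := t) (by rw [← h2, mul_one])).symm
  have hztz : T.zD ≠ T.tD * T.zD := by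
    intro h
    have h2 : z = t * z := congrArg Subtype.val h
    exact ht1 (mul_right_cancel (b := z) (by rw [← h2, one_mul])).symm
  have hcard : Nat.card ↥(Subgroup.centralizer ({T.tD} : Set (pairStab (G := G) a b)))
      = Set.ncard ((Subgroup.centralizer ({T.tD} : Set (pairStab (G := G) a b)) :
      Subgroup (pairStab (G := G) a b)) : Set (pairStab (G := G) a b)) := rfl
  rw [hcard, hset]
  rw [Set.ncard_insert_of_notMem, Set.ncard_insert_of_notMem, Set.ncard_insert_of_notMem,
    Set.ncard_singleton]
  · simp only [Set.mem_singleton_iff]; exact hztz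
  · simp only [Set.mem_insert_iff, Set.mem_singleton_iff, not_or]; exact ⟨htz', httz⟩
  · simp only [Set.mem_insert_iff, Set.mem_singleton_iff, not_or]; exact ⟨h1t, h1z, h1tz⟩

end TData

end Cfsg.Agent.Lib.Helper2.S3T
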