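import Mathlib
import Cfsg.Agent.Lib.Helper2.S3T9
import Cfsg.Agent.Lib.Helper2.S3T5
import Cfsg.Agent.Lib.Helper2.S3T1

set_option autoImplicit false
set_option linter.style.haveILetI false
set_option linter.unusedSectionVars false

/-!
# The double class sum of the involution, evaluated on a function supported on the stabilizer
-/

namespace Cfsg.Agent.Lib.Helper2.S3T

open MulAction
open scoped ComplexConjugate
open Cfsg.Agent.Lib.Helper1 Cfsg.Agent.Lib.Helper4 Cfsg.Agent.Lib.Helper8

universe u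

variable {G : Type u} {Ω : Type*} [Group G] [MulAction G Ω]

/-- the conjugate of `z` by `x` -/
def kap (z x : G) : G := x * z * x⁻¹

theorem kap_mul (z v x : G) : kap z (v * x) = v * kap z x * v⁻¹ := by
  unfold kap; group

theorem kap_sq {z : G} (hzz : z * z = 1) (x : G) : kap z x * kap z x = 1 := by
  unfold kap
  calc x * z * x⁻¹ * (x * z * x⁻¹) = x * (z * z) * x⁻¹ := by group
    _ = 1 := by rw [hzz]; group

theorem kap_inv {z : G} (hzz : z * z = 1) (x : G) : (kap z x)⁻¹ = kap z x :=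
  inv_eq_of_mul_eq_one_right (kap_sq hzz x)

variable [Fintype Ω] [DecidableEq Ω] [Fintype G] {a b : Ω} {F : Subgroup G} {t z : G} {q : ℕ}

/-- the set of `x` such that the conjugate of `z` by `x` maps `a` to `c` -/
def XS (z : G) (a c : Ω) : Finset G := Finset.univ.filter (fun x => kap z x • a = c)

theorem mem_XS {z : G} {a c : Ω} {x : G} : x ∈ XS z a c ↔ kap z x • a = c := by
  unfold XS
  rw [Finset.mem_filter]
  exact ⟨fun h => h.2, fun h => ⟨Finset.mem_univ _, h⟩⟩

namespace TData

theorem mul_mem_XS (T : TData G Ω a b F t z q) {v : G} (hv : v • a = a) {c : Ω} (x : G) :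
    v * x ∈ XS z a (v • c) ↔ x ∈ XS z a c := by
  rw [mem_XS, mem_XS, kap_mul, mul_smul, mul_smul, inv_smul_eq_iff.mpr hv.symm]
  exact ⟨fun h => MulAction.injective v h, fun h => by rw [h]⟩

theorem sum_split (T : TData G Ω a b F t z q) (g : G → ℂ)
    (hg : ∀ v ∈ F, ∀ x, g (v * x) = g x) :
    ∑ x, g x = ∑ x ∈ XS z a a, g x + (q : ℂ) * ∑ x ∈ XS z a b, g x := by
  classical
  rw [← Finset.sum_fiberwise (Finset.univ) (fun x => kap z x • a) g]
  rw [← Finset.add_sum_erase Finset.univ _ (Finset.mem_univ a)]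
  congr 1
  have h1 : ∀ c ∈ (Finset.univ : Finset Ω).erase a,
      ∑ x ∈ Finset.univ with kap z x • a = c, g x = ∑ x ∈ XS z a b, g x := by
    intro c hc
    have hca : c ≠ a := Finset.ne_of_mem_erase hc
    obtain ⟨v, hv, hvb⟩ := T.F_trans (Ne.symm T.hab) hca
    symm
    apply Finset.sum_equiv (Equiv.mulLeft v)
    · intro x
      have := T.mul_mem_XS (T.mem_a hv) (c := b) x
      rw [hvb] at this
      rw [Equiv.coe_mulLeft]
      exact this.symm
    · intro x _
      exact (hg v hv x).symm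
  rw [Finset.sum_congr rfl h1, Finset.sum_const, Finset.card_erase_of_mem (Finset.mem_univ a),
    Finset.card_univ, T.hcard, nsmul_eq_mul]
  simp

theorem mem_XS_a (T : TData G Ω a b F t z q) {x : G} :
    x ∈ XS z a a ↔ x⁻¹ • a = a ∨ x⁻¹ • a = b := by
  rw [mem_XS]
  unfold kap
  rw [mul_smul, mul_smul, smul_eq_iff_eq_inv_smul]
  constructor
  · intro h
    exact T.fix_z h
  · rintro (h | h)
    · rw [h, T.hza]
    · rw [h, T.hzb]

theorem card_XS_a (T : TData G Ω a b F t z q) :
    (XS z a a).card = 2 * Nat.card (stabilizer G a) := by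
  classical
  have h1 : XS z a a = (Finset.univ.filter (fun x : G => x⁻¹ • a = a)) ∪
      (Finset.univ.filter (fun x : G => x⁻¹ • a = b)) := by
    ext x
    rw [T.mem_XS_a, Finset.mem_union, Finset.mem_filter, Finset.mem_filter]
    simp
  have h2 : Disjoint (Finset.univ.filter (fun x : G => x⁻¹ • a = a))
      (Finset.univ.filter (fun x : G => x⁻¹ • a = b)) := by
    rw [Finset.disjoint_left]
    intro x hx hx'
    rw [Finset.mem_filter] at hx hx'
    exact T.hab (hx.2.symm.trans hx'.2)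
  have h3 : (Finset.univ.filter (fun x : G => x⁻¹ • a = a)).card = Nat.card (stabilizer G a) := by
    rw [Nat.card_eq_fintype_card, Fintype.card_subtype]
    congr 1
    ext x
    rw [Finset.mem_filter, Finset.mem_filter, mem_stabilizer_iff, inv_smul_eq_iff]
    exact ⟨fun h => ⟨h.1, h.2.symm⟩, fun h => ⟨h.1, h.2.symm⟩⟩
  have h4 : (Finset.univ.filter (fun x : G => x⁻¹ • a = b)).card
      = (Finset.univ.filter (fun x : G => x⁻¹ • a = a)).card := by
    symm
    apply Finset.card_equiv (Equiv.mulRight t)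
    intro x
    rw [Finset.mem_filter, Finset.mem_filter, Equiv.coe_mulRight, mul_inv_rev, mul_smul, T.t_inv]
    constructor
    · intro h
      exact ⟨Finset.mem_univ _, by rw [h.2, T.hta]⟩
    · intro h
      refine ⟨Finset.mem_univ _, ?_⟩
      have h5 : t • t • x⁻¹ • a = t • b := by rw [h.2]
      rwa [← mul_smul, T.tt, one_smul, T.htb] at h5
  rw [h1, Finset.card_union_of_disjoint h2, h4, h3]
  ring

theorem card_XS_b (T : TData G Ω a b F t z q) :
    2 * Nat.card (stabilizer G a) + q * (XS z a b).card = Nat.card G := by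
  have h1 := T.sum_split (fun _ => 1) (fun _ _ _ => rfl)
  simp only [Finset.sum_const, Finset.card_univ, nsmul_eq_mul, mul_one] at h1
  rw [T.card_XS_a] at h1
  rw [Nat.card_eq_fintype_card (α := G)]
  exact_mod_cast h1.symm

theorem kap_mem_D (T : TData G Ω a b F t z q) {x : G} (hx : x ∈ XS z a b) :
    kap z x ∈ pairStab (G := G) a b := by
  rw [mem_XS] at hx
  right
  refine ⟨hx, ?_⟩
  have := kap_sq T.hzz x
  rw [← hx, ← mul_smul, this, one_smul]

theorem kap_b (T : TData G Ω a b F t z q) {x : G} (hx : x ∈ XS z a b) : kap z x • b = a := by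
  rcases T.kap_mem_D hx with h | h
  · exact absurd (h.1.symm.trans (mem_XS.mp hx)) T.hab
  · exact h.2

open Classical in
/-- the conjugate of `z` by `x` as an element of the pair stabilizer -/
noncomputable def kD (z : G) (a b : Ω) (x : G) : pairStab (G := G) a b :=
  if h : kap z x ∈ pairStab (G := G) a b then ⟨kap z x, h⟩ else 1

theorem kD_coe (T : TData G Ω a b F t z q) {x : G} (hx : x ∈ XS z a b) :
    ((kD z a b x : pairStab (G := G) a b) : G) = kap z x := by
  unfold kD
  rw [dif_pos (T.kap_mem_D hx)]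

theorem D_mul_mem_XS (T : TData G Ω a b F t z q) {d : G} (hd : d ∈ pairStab (G := G) a b)
    {x : G} (hx : x ∈ XS z a b) : d * x ∈ XS z a b := by
  have hxa := mem_XS.mp hx
  have hxb := T.kap_b hx
  rw [mem_XS, kap_mul, mul_smul, mul_smul]
  rcases hd with h | h
  · rw [inv_smul_eq_iff.mpr h.1.symm, hxa, h.2]
  · rw [inv_smul_eq_iff.mpr h.2.symm, hxb, h.1]

theorem D_mul_mem_XS_iff (T : TData G Ω a b F t z q) {d : G} (hd : d ∈ pairStab (G := G) a b)
    (x : G) : x ∈ XS z a b ↔ d * x ∈ XS z a b := by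
  constructor
  · exact T.D_mul_mem_XS hd
  · intro h
    have := T.D_mul_mem_XS ((pairStab (G := G) a b).inv_mem hd) h
    rwa [inv_mul_cancel_left] at this

theorem kD_mul (T : TData G Ω a b F t z q) (d : pairStab (G := G) a b) {x : G}
    (hx : x ∈ XS z a b) : kD z a b ((d : G) * x) = d * kD z a b x * d⁻¹ := by
  apply Subtype.ext
  rw [T.kD_coe (T.D_mul_mem_XS d.2 hx), Subgroup.coe_mul, Subgroup.coe_mul, T.kD_coe hx, kap_mul]
  rfl

/-- the conjugates of `z` interchanging `a` and `b` are conjugate to `t` in the pair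
stabilizer. -/
theorem kD_conj (T : TData G Ω a b F t z q) {x : G} (hx : x ∈ XS z a b) :
    ∃ d : pairStab (G := G) a b, kD z a b x = d * T.tD * d⁻¹ := by
  obtain ⟨p₀, p₁, -, ht0, -, hp0a, hp0b, -, -, -⟩ := T.exists_fix_t
  have hxa := mem_XS.mp hx
  have hxb := T.kap_b hx
  have hfix : kap z x • x • a = x • a := by
    unfold kap
    rw [mul_smul, mul_smul, inv_smul_smul, T.hza]
  have hpa : x • a ≠ a := by
    intro h
    rw [h, hxa] at hfix
    exact T.hab hfix.symm
  have hpb : x • a ≠ b := by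
    intro h
    rw [h, hxb] at hfix
    exact T.hab hfix
  obtain ⟨h, hha, hhb, hhp⟩ := T.H_trans hp0a hp0b hpa hpb
  have hw : (h * t * h⁻¹)⁻¹ * kap z x = 1 := by
    have e : (h * t * h⁻¹)⁻¹ = h * t * h⁻¹ := by
      rw [mul_inv_rev, mul_inv_rev, inv_inv, T.t_inv, mul_assoc]
    rw [e]
    apply T.H_eq_one _ _ hpa hpb
    · rw [mul_smul, hfix, mul_smul, mul_smul, ← hhp, inv_smul_smul, ht0]
    · rw [mul_smul, hxa, mul_smul, mul_smul, inv_smul_eq_iff.mpr hhb.symm, T.htb, hha]
    · rw [mul_smul, hxb, mul_smul, mul_smul, inv_smul_eq_iff.mpr hha.symm, T.hta, hhb]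
  have hk : kap z x = h * t * h⁻¹ := by
    have := inv_mul_eq_one.mp hw
    exact this.symm
  refine ⟨⟨h, Or.inl ⟨hha, hhb⟩⟩, ?_⟩
  apply Subtype.ext
  rw [T.kD_coe hx, hk]
  rfl

/-- the inner sum over the conjugates interchanging `a` and `b` -/
theorem inner_sum_D (T : TData G Ω a b F t z q) (ψ : pairStab (G := G) a b → ℂ)
    (hψ : Cfsg.IsIrrCharacter (pairStab (G := G) a b) ψ) {x : G} (hx : x ∈ XS z a b) :
    ∑ y ∈ XS z a b, ψ (kD z a b x * kD z a b y)
      = ((XS z a b).card : ℂ) * (ψ T.tD * ψ T.tD / ψ 1) := by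
  classical
  haveI : Fintype (pairStab (G := G) a b) := Fintype.ofFinite _
  have hcf := isClassFunction_irr hψ
  have hval : ∀ y ∈ XS z a b, ψ (kD z a b y) = ψ T.tD := by
    intro y hy
    obtain ⟨d, hd⟩ := T.kD_conj hy
    rw [hd, hcf]
  have h1 : ∀ d : pairStab (G := G) a b,
      ∑ y ∈ XS z a b, ψ (kD z a b x * (d * kD z a b y * d⁻¹))
        = ∑ y ∈ XS z a b, ψ (kD z a b x * kD z a b y) := by
    intro d
    apply Finset.sum_equiv (Equiv.mulLeft (d : G))
    · intro y
      rw [Equiv.coe_mulLeft]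
      exact T.D_mul_mem_XS_iff d.2 y
    · intro y hy
      rw [Equiv.coe_mulLeft, T.kD_mul d hy]
  have h2 : ∑ d : pairStab (G := G) a b, ∑ y ∈ XS z a b,
      ψ (kD z a b x * (d * kD z a b y * d⁻¹))
      = (Fintype.card (pairStab (G := G) a b) : ℂ) * ∑ y ∈ XS z a b,
        ψ (kD z a b x * kD z a b y) := by
    rw [Finset.sum_congr rfl fun d _ => h1 d, Finset.sum_const, Finset.card_univ, nsmul_eq_mul]
  rw [Finset.sum_comm] at h2
  have h3 : ∀ y ∈ XS z a b, ∑ d : pairStab (G := G) a b,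
      ψ (kD z a b x * (d * kD z a b y * d⁻¹))
      = (Fintype.card (pairStab (G := G) a b) : ℂ) * (ψ T.tD * ψ T.tD / ψ 1) := by
    intro y hy
    rw [sum_irr_mul_conj hψ, hval y hy, hval x hx]
    ring
  rw [Finset.sum_congr rfl h3, Finset.sum_const, nsmul_eq_mul] at h2
  have hD0 : (Fintype.card (pairStab (G := G) a b) : ℂ) ≠ 0 :=
    Nat.cast_ne_zero.mpr Fintype.card_ne_zero
  have h4 : (Fintype.card (pairStab (G := G) a b) : ℂ) * ∑ y ∈ XS z a b,
        ψ (kD z a b x * kD z a b y)
      = (Fintype.card (pairStab (G := G) a b) : ℂ) *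
        (((XS z a b).card : ℂ) * (ψ T.tD * ψ T.tD / ψ 1)) := by
    rw [← h2]; ring
  exact mul_left_cancel₀ hD0 h4

/-- the double class sum of a function supported on the point stabilizer -/
theorem S_abstract (T : TData G Ω a b F t z q) (f : G → ℂ) (m : ℂ)
    (ψ : pairStab (G := G) a b → ℂ) (hψ : Cfsg.IsIrrCharacter (pairStab (G := G) a b) ψ)
    (hf0 : ∀ g : G, g • a ≠ a → f g = 0)
    (hfB : ∀ v : G, v • a = a → ∀ g, f (v * g * v⁻¹) = f g)
    (hfA : ∀ x y : G, kap z x • a = a → kap z y • a = a → f (kap z x * kap z y) = m)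
    (hfD : ∀ d : pairStab (G := G) a b, (d : G) • a = a → f (d : G) = ψ d) :
    ∑ x : G, ∑ y : G, f (kap z x * kap z y)
      = ((XS z a a).card : ℂ) * (((XS z a a).card : ℂ) * m)
        + (q : ℂ) * (((XS z a b).card : ℂ) * (((XS z a b).card : ℂ) *
          (ψ T.tD * ψ T.tD / ψ 1))) := by
  classical
  have hginv : ∀ v ∈ F, ∀ x, ∑ y, f (kap z (v * x) * kap z y) = ∑ y, f (kap z x * kap z y) := by
    intro v hv x
    rw [← Equiv.sum_comp (Equiv.mulLeft v)]
    refine Finset.sum_congr rfl fun y _ => ?_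
    rw [Equiv.coe_mulLeft, kap_mul, kap_mul]
    have : v * kap z x * v⁻¹ * (v * kap z y * v⁻¹) = v * (kap z x * kap z y) * v⁻¹ := by group
    rw [this, hfB v (T.mem_a hv)]
  rw [T.sum_split (fun x => ∑ y, f (kap z x * kap z y)) hginv]
  have hA : ∀ x ∈ XS z a a, ∑ y, f (kap z x * kap z y) = ((XS z a a).card : ℂ) * m := by
    intro x hx
    rw [mem_XS] at hx
    rw [← Finset.sum_subset (Finset.subset_univ (XS z a a))]
    · rw [Finset.sum_congr rfl (fun y hy => hfA x y hx (mem_XS.mp hy)), Finset.sum_const,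
        nsmul_eq_mul]
    · intro y _ hy
      apply hf0
      intro h
      apply hy
      rw [mem_XS]
      rw [mul_smul] at h
      have h2 : kap z y • a = (kap z x)⁻¹ • a := by rw [eq_inv_smul_iff, h]
      rw [h2, inv_smul_eq_iff, hx]
  have hB : ∀ x ∈ XS z a b, ∑ y, f (kap z x * kap z y)
      = ((XS z a b).card : ℂ) * (ψ T.tD * ψ T.tD / ψ 1) := by
    intro x hx
    have hxa := mem_XS.mp hx
    have hxb := T.kap_b hx
    rw [← Finset.sum_subset (Finset.subset_univ (XS z a b))]
    · rw [← T.inner_sum_D ψ hψ hx]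
      refine Finset.sum_congr rfl fun y hy => ?_
      have hya := mem_XS.mp hy
      have h1 : ((kD z a b x * kD z a b y : pairStab (G := G) a b) : G) = kap z x * kap z y := by
        rw [Subgroup.coe_mul, T.kD_coe hx, T.kD_coe hy]
      rw [← h1]
      apply hfD
      rw [h1, mul_smul, hya, hxb]
    · intro y _ hy
      apply hf0
      intro h
      apply hy
      rw [mem_XS]
      rw [mul_smul] at h
      have h2 : kap z y • a = (kap z x)⁻¹ • a := by rw [eq_inv_smul_iff, h]
      rw [h2, kap_inv T.hzz, hxa]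
  rw [Finset.sum_congr rfl hA, Finset.sum_congr rfl hB, Finset.sum_const, Finset.sum_const,
    nsmul_eq_mul, nsmul_eq_mul]

end TData

end Cfsg.Agent.Lib.Helper2.S3T
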