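import Mathlib
import Cfsg.Prelude.Def_Characters
import Cfsg.Agent.Lib.Helper1.CharFound3
import Cfsg.Agent.Lib.Helper1.CharFound5
import Cfsg.Agent.Lib.Helper1.CharFound6
import Cfsg.Agent.Lib.Helper1.CharFound7
import Cfsg.Agent.Lib.Helper1.LinearChar
import Cfsg.Agent.Lib.Helper4.Characters

set_option autoImplicit false
set_option linter.style.haveILetI false
set_option linter.unusedSectionVars false

/-!
# A local lemma: an involution with centralizer of order four outside a subgroup of index two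
-/

namespace Cfsg.Agent.Lib.Helper2.S3T

open scoped ComplexConjugate
open Cfsg.Agent.Lib.Helper1 Cfsg.Agent.Lib.Helper4

universe u

section Inv

variable {Δ : Type u} [Group Δ]

/-- the value of a character at an involution is an integer. -/
theorem char_involution_int {χ : Δ → ℂ} (hχ : Cfsg.IsCharacter Δ χ) {t : Δ} (htt : t * t = 1) :
    ∃ a : ℤ, χ t = a := by
  obtain ⟨n, ρ, rfl⟩ := hχ
  set T := ρ t with hT
  have hTT : T * T = 1 := by rw [hT, ← map_mul, htt, map_one]
  let e : Module.End ℂ (Fin n → ℂ) := (2⁻¹ : ℂ) • (1 + T)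
  have h2 : (1 + T) * (1 + T) = (2 : ℂ) • (1 + T) := by
    have : (1 + T) * (1 + T) = 1 + T + (T + T * T) := by noncomm_ring
    rw [this, hTT, two_smul]
    abel
  have he : IsIdempotentElem e := by
    show e * e = e
    simp only [e]
    rw [smul_mul_smul_comm, h2, smul_smul]
    congr 1
    norm_num
  have h3 := (LinearMap.IsIdempotentElem.isProj_range e he).trace
  have h4 : LinearMap.trace ℂ (Fin n → ℂ) e = 2⁻¹ * ((n : ℂ) + LinearMap.trace ℂ _ T) := by
    simp only [e]
    rw [map_smul, map_add, smul_eq_mul, LinearMap.trace_one]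
    simp
  refine ⟨2 * (Module.finrank ℂ (LinearMap.range e) : ℤ) - n, ?_⟩
  have h5 : ρ.character t = LinearMap.trace ℂ _ T := rfl
  rw [h5]
  rw [h4] at h3
  push_cast
  rw [← h3]
  ring

/-- the twist of a representation by a linear character -/
noncomputable def twistRep {n : ℕ} (ρ : Representation ℂ Δ (Fin n → ℂ)) (φ : Δ →* ℂˣ) :
    Representation ℂ Δ (Fin n → ℂ) where
  toFun g := ((φ g : ℂˣ) : ℂ) • ρ g
  map_one' := by simp
  map_mul' := by
    intro a b
    rw [map_mul, map_mul, Units.val_mul, smul_mul_smul_comm]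

theorem isCharacter_twist_hom {χ : Δ → ℂ} (hχ : Cfsg.IsCharacter Δ χ) (φ : Δ →* ℂˣ) :
    Cfsg.IsCharacter Δ (fun g => χ g * ((φ g : ℂˣ) : ℂ)) := by
  obtain ⟨n, ρ, rfl⟩ := hχ
  refine ⟨n, twistRep ρ φ, ?_⟩
  funext g
  show LinearMap.trace ℂ _ (((φ g : ℂˣ) : ℂ) • ρ g) = LinearMap.trace ℂ _ (ρ g) * _
  rw [map_smul, smul_eq_mul, mul_comm]

open Classical in
/-- the sign character of a subgroup of index two -/
noncomputable def signHom (K : Subgroup Δ) (hK : K.index = 2) : Δ →* ℂˣ where
  toFun d := if d ∈ K then 1 else -1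
  map_one' := by simp [K.one_mem]
  map_mul' := by
    intro a b
    by_cases ha : a ∈ K <;> by_cases hb : b ∈ K <;>
      simp [ha, hb, Subgroup.mul_mem_iff_of_index_two hK]

theorem signHom_of_mem (K : Subgroup Δ) (hK : K.index = 2) {d : Δ} (hd : d ∈ K) :
    ((signHom K hK d : ℂˣ) : ℂ) = 1 := by
  unfold signHom
  simp [hd]

theorem signHom_of_notMem (K : Subgroup Δ) (hK : K.index = 2) {d : Δ} (hd : d ∉ K) :
    ((signHom K hK d : ℂˣ) : ℂ) = -1 := by
  unfold signHom
  simp [hd]

theorem signHom_mul_conj (K : Subgroup Δ) (hK : K.index = 2) (d : Δ) :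
    ((signHom K hK d : ℂˣ) : ℂ) * conj ((signHom K hK d : ℂˣ) : ℂ) = 1 := by
  by_cases hd : d ∈ K
  · rw [signHom_of_mem K hK hd]; simp
  · rw [signHom_of_notMem K hK hd]; simp

theorem signHom_conj (K : Subgroup Δ) (hK : K.index = 2) (d : Δ) :
    conj ((signHom K hK d : ℂˣ) : ℂ) = ((signHom K hK d : ℂˣ) : ℂ) := by
  by_cases hd : d ∈ K
  · rw [signHom_of_mem K hK hd]; simp
  · rw [signHom_of_notMem K hK hd]; simp

end Inv

end Cfsg.Agent.Lib.Helper2.S3T
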