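import Mathlib
import Cfsg.Agent.Lib.Helper2.S3T3

set_option autoImplicit false
set_option linter.style.haveILetI false
set_option linter.unusedSectionVars false

/-!
# The local character
-/

namespace Cfsg.Agent.Lib.Helper2.S3T

open scoped ComplexConjugate
open Cfsg.Agent.Lib.Helper1 Cfsg.Agent.Lib.Helper4

universe u

variable {Δ : Type u} [Group Δ] [Fintype Δ] {Hq : Type u} [Group Hq] [Fintype Hq]

theorem index_range_eq_two (ι : Hq →* Δ) (hι : Function.Injective ι)
    (hcard : Nat.card Δ = 2 * Nat.card Hq) : ι.range.index = 2 := by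
  have h1 : Nat.card ι.range = Nat.card Hq :=
    Nat.card_congr (MonoidHom.ofInjective hι).toEquiv.symm
  have h2 := ι.range.card_mul_index
  rw [h1, hcard] at h2
  have h3 : 0 < Nat.card Hq := Nat.card_pos
  nlinarith

/-- sums over the image of an injective homomorphism -/
theorem sum_comp_injective (ι : Hq →* Δ) (hι : Function.Injective ι) (f : Δ → ℂ) :
    ∑ h : Hq, f (ι h) = ∑ d : Δ, (by classical exact if d ∈ ι.range then f d else 0) := by
  classical
  rw [← Finset.sum_filter]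
  have h1 : (Finset.univ.filter (fun d : Δ => d ∈ ι.range))
      = Finset.univ.map ⟨ι, hι⟩ := by
    ext d
    simp only [Finset.mem_filter, Finset.mem_univ, true_and, Finset.mem_map,
      Function.Embedding.coeFn_mk, MonoidHom.mem_range]
  rw [h1, Finset.sum_map]
  rfl

theorem exists_local_char (ι : Hq →* Δ) (hι : Function.Injective ι)
    (hcard : Nat.card Δ = 2 * Nat.card Hq) (t : Δ) (ht : ∀ h, ι h ≠ t) (htt : t * t = 1)
    (hC : Nat.card (Subgroup.centralizer ({t} : Set Δ)) = 4) :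
    ∃ ψ : Δ → ℂ, Cfsg.IsIrrCharacter Δ ψ ∧ ψ t * ψ t = 1 ∧
      Cfsg.IsIrrCharacter Hq (fun h => ψ (ι h)) ∧ (fun h => ψ (ι h)) ≠ fun _ => 1 := by
  classical
  haveI : Fintype (Cfsg.IrrCharacter Δ) := Fintype.ofFinite _
  set K : Subgroup Δ := ι.range with hKdef
  have hK2 : K.index = 2 := index_range_eq_two ι hι hcard
  have htK : t ∉ K := by
    rintro ⟨h, hh⟩
    exact ht h hh
  set ε : Δ →* ℂˣ := signHom K hK2 with hεdef
  have hε : Cfsg.IsIrrCharacter Δ (fun d => ((ε d : ℂˣ) : ℂ)) := isIrrCharacter_of_hom ε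
  have hone : Cfsg.IsIrrCharacter Δ (fun _ => (1 : ℂ)) := by
    have := isIrrCharacter_of_hom (1 : Δ →* ℂˣ)
    simpa using this
  have hεt : ((ε t : ℂˣ) : ℂ) = -1 := signHom_of_notMem K hK2 htK
  -- column orthogonality at `t`
  have hcol := column_orthogonality t t
  have hci : classIndicator t t = 1 := by
    unfold classIndicator
    rw [if_pos (IsConj.refl t)]
  rw [hC, hci, mul_one] at hcol
  -- integrality
  have hint : ∀ χ : Cfsg.IrrCharacter Δ, ∃ a : ℤ, (χ : Δ → ℂ) t = a :=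
    fun χ => char_involution_int (isCharacter_of_irr χ.2) htt
  choose a ha using hint
  have hsum : ∑ χ : Cfsg.IrrCharacter Δ, a χ * a χ = 4 := by
    have h1 : ((∑ χ : Cfsg.IrrCharacter Δ, a χ * a χ : ℤ) : ℂ) = ((4 : ℕ) : ℂ) := by
      rw [← hcol]
      push_cast
      refine Finset.sum_congr rfl fun χ _ => ?_
      rw [ha χ, map_intCast]
    exact_mod_cast h1
  -- the two linear characters
  let o₀ : Cfsg.IrrCharacter Δ := ⟨fun _ => 1, hone⟩
  let e₀ : Cfsg.IrrCharacter Δ := ⟨fun d => ((ε d : ℂˣ) : ℂ), hε⟩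
  have hoe : o₀ ≠ e₀ := by
    intro h
    have h1 := congrFun (congrArg Subtype.val h) t
    simp only [o₀, e₀] at h1
    rw [hεt] at h1
    norm_num at h1
  have hao : a o₀ = 1 := by
    have h1 := ha o₀
    simp only [o₀] at h1
    exact_mod_cast h1.symm
  have hae : a e₀ = -1 := by
    have h1 := ha e₀
    simp only [e₀] at h1
    rw [hεt] at h1
    exact_mod_cast h1.symm
  have hsum2 : ∑ χ ∈ (Finset.univ.erase o₀).erase e₀, a χ * a χ = 2 := by
    have h1 := Finset.add_sum_erase Finset.univ (fun χ => a χ * a χ) (Finset.mem_univ o₀)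
    have h2 := Finset.add_sum_erase (Finset.univ.erase o₀) (fun χ => a χ * a χ)
      (Finset.mem_erase.mpr ⟨Ne.symm hoe, Finset.mem_univ e₀⟩)
    rw [hsum, ← h2, hao, hae] at h1
    linarith
  -- a third character not vanishing at `t`
  obtain ⟨χ₁, hχ₁mem, hχ₁⟩ : ∃ χ ∈ (Finset.univ.erase o₀).erase e₀, a χ ≠ 0 := by
    by_contra hcon
    push Not at hcon
    rw [Finset.sum_eq_zero (fun χ hχ => by rw [hcon χ hχ, mul_zero])] at hsum2
    norm_num at hsum2
  have hle : a χ₁ * a χ₁ ≤ 2 := by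
    rw [← hsum2]
    exact Finset.single_le_sum (f := fun χ => a χ * a χ) (fun χ _ => mul_self_nonneg (a χ)) hχ₁mem
  have ha1 : a χ₁ * a χ₁ = 1 := by
    have h1 : a χ₁ ≤ 1 := by nlinarith
    have h2 : -1 ≤ a χ₁ := by nlinarith
    have h3 : a χ₁ = 1 ∨ a χ₁ = -1 := by omega
    rcases h3 with h | h <;> rw [h] <;> norm_num
  have hne_e : χ₁ ≠ e₀ := (Finset.mem_erase.mp hχ₁mem).1
  have hne_o : χ₁ ≠ o₀ := (Finset.mem_erase.mp (Finset.mem_erase.mp hχ₁mem).2).1
  obtain ⟨ψ, hψ⟩ := χ₁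
  have hψt : ψ t = a ⟨ψ, hψ⟩ := ha ⟨ψ, hψ⟩
  have hψtt : ψ t * ψ t = 1 := by
    rw [hψt]
    exact_mod_cast ha1
  have hψt0 : ψ t ≠ 0 := by
    intro h
    rw [h, mul_zero] at hψtt
    exact zero_ne_one hψtt
  -- the twist
  set ψε : Δ → ℂ := fun d => ψ d * ((ε d : ℂˣ) : ℂ) with hψεdef
  have hψεc : Cfsg.IsCharacter Δ ψε := isCharacter_twist_hom (isCharacter_of_irr hψ) ε
  have hψεn : Cfsg.classInner ψε ψε = 1 := by
    rw [← classInner_irr_self hψ, classInner_def, classInner_def]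
    congr 1
    refine Finset.sum_congr rfl fun d _ => ?_
    simp only [hψεdef]
    rw [map_mul]
    have := signHom_mul_conj K hK2 d
    calc ψ d * ((ε d : ℂˣ) : ℂ) * (conj (ψ d) * conj ((ε d : ℂˣ) : ℂ))
        = ψ d * conj (ψ d) * (((ε d : ℂˣ) : ℂ) * conj ((ε d : ℂˣ) : ℂ)) := by ring
      _ = ψ d * conj (ψ d) := by rw [this, mul_one]
  have hψεi : Cfsg.IsIrrCharacter Δ ψε := isIrrCharacter_of_norm_one hψεc hψεn
  have hψεne : ψ ≠ ψε := by
    intro h
    have h1 := congrFun h t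
    simp only [hψεdef] at h1
    rw [hεt] at h1
    apply hψt0
    linear_combination (1 / 2 : ℂ) * h1
  have horth : Cfsg.classInner ψ ψε = 0 := classInner_irr_ne hψ hψεi hψεne
  -- the restriction has norm one
  have hres : Cfsg.classInner (fun h => ψ (ι h)) (fun h => ψ (ι h)) = 1 := by
    rw [classInner_def]
    have h1 : ∑ h : Hq, ψ (ι h) * conj (ψ (ι h))
        = ∑ d : Δ, (if d ∈ ι.range then ψ d * conj (ψ d) else 0) := by
      have := sum_comp_injective ι hι (fun d => ψ d * conj (ψ d))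
      simpa using this
    have h2 : ∀ d : Δ, (if d ∈ ι.range then ψ d * conj (ψ d) else 0)
        = (2⁻¹ : ℂ) * (ψ d * conj (ψ d) + ψ d * conj (ψε d)) := by
      intro d
      simp only [hψεdef]
      rw [map_mul, signHom_conj K hK2 d]
      by_cases hd : d ∈ ι.range
      · rw [if_pos hd, signHom_of_mem K hK2 hd]
        ring
      · rw [if_neg hd, signHom_of_notMem K hK2 hd]
        ring
    rw [h1, Finset.sum_congr rfl fun d _ => h2 d, ← Finset.mul_sum, Finset.sum_add_distrib]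
    have h3 := classInner_irr_self hψ
    rw [classInner_def] at h3 horth
    have hΔ0 : (Nat.card Δ : ℂ) ≠ 0 := Nat.cast_ne_zero.mpr Nat.card_pos.ne'
    have hH0 : (Nat.card Hq : ℂ) ≠ 0 := Nat.cast_ne_zero.mpr Nat.card_pos.ne'
    have h4 : ∑ d : Δ, ψ d * conj (ψ d) = (Nat.card Δ : ℂ) := by
      field_simp at h3
      exact h3
    have h5 : ∑ d : Δ, ψ d * conj (ψε d) = 0 :=
      (mul_eq_zero.mp horth).resolve_left (inv_ne_zero hΔ0)
    rw [h4, h5, add_zero, hcard]
    push_cast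
    field_simp
  have hresc : Cfsg.IsCharacter Hq (fun h => ψ (ι h)) := isCharacter_comp_hom (isCharacter_of_irr hψ) ι
  refine ⟨ψ, hψ, hψtt, isIrrCharacter_of_norm_one hresc hres, ?_⟩
  -- nontriviality
  intro htriv
  have h1 : ψ 1 = 1 := by
    have := congrFun htriv 1
    simpa using this
  obtain ⟨φ, hφ⟩ := exists_hom_of_isIrrCharacter hψ h1
  have hφK : ∀ d ∈ K, ((φ d : ℂˣ) : ℂ) = 1 := by
    rintro d ⟨h, rfl⟩
    have := congrFun htriv h
    rw [hφ] at this
    exact this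
  have hφnK : ∀ d, d ∉ K → ((φ d : ℂˣ) : ℂ) = ((φ t : ℂˣ) : ℂ) := by
    intro d hd
    have h2 : t⁻¹ * d ∈ K := by
      rw [Subgroup.mul_mem_iff_of_index_two hK2]
      constructor
      · intro h; exact absurd (by simpa using K.inv_mem h) htK
      · intro h; exact absurd h hd
    have h3 : d = t * (t⁻¹ * d) := by group
    rw [h3, map_mul, Units.val_mul, hφK _ h2, mul_one]
  have hφt : ((φ t : ℂˣ) : ℂ) = ψ t := by rw [hφ]
  have hcases : ψ t = 1 ∨ ψ t = -1 := by
    have : (ψ t - 1) * (ψ t + 1) = 0 := by linear_combination hψtt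
    rcases mul_eq_zero.mp this with h | h
    · left; linear_combination h
    · right; linear_combination h
  rcases hcases with h | h
  · apply hne_o
    apply Subtype.ext
    funext d
    show ψ d = 1
    rw [hφ]
    by_cases hd : d ∈ K
    · exact hφK d hd
    · show ((φ d : ℂˣ) : ℂ) = 1
      rw [hφnK d hd, hφt, h]
  · apply hne_e
    apply Subtype.ext
    funext d
    show ψ d = ((ε d : ℂˣ) : ℂ)
    rw [hφ]
    by_cases hd : d ∈ K
    · show ((φ d : ℂˣ) : ℂ) = _
      rw [hφK d hd, signHom_of_mem K hK2 hd]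
    · show ((φ d : ℂˣ) : ℂ) = _
      rw [hφnK d hd, hφt, h, signHom_of_notMem K hK2 hd]

end Cfsg.Agent.Lib.Helper2.S3T
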