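import Mathlib
import Cfsg.Agent.Lib.Helper2.S3T10
import Cfsg.Agent.Lib.Helper2.S3T2
import Cfsg.Agent.Lib.Helper2.S3T4
import Cfsg.Agent.Lib.Helper2.RelMAbelian
import Cfsg.Agent.Lib.Helper2.PiSection
import Cfsg.Agent.Lib.Helper1.CharFound7
import Cfsg.Agent.S0148

set_option autoImplicit false
set_option linter.style.haveILetI false
set_option linter.unusedSectionVars false

/-!
# The induced character: norm two and orthogonality (Mackey)
-/

namespace Cfsg.Agent.Lib.Helper2.S3T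

open MulAction
open scoped ComplexConjugate
open Cfsg.Agent.Lib.Helper1 Cfsg.Agent.Lib.Helper4 Cfsg.Agent.Lib.Helper8

universe u

variable {G : Type u} {Ω : Type*} [Group G] [MulAction G Ω] [Fintype Ω]
  {a b : Ω} {F : Subgroup G} {t z : G} {q : ℕ}

namespace TData

/-- conjugation by `t` on the two-point stabilizer -/
def tcHom (T : TData G Ω a b F t z q) :
    ↥(stabilizer G a ⊓ stabilizer G b : Subgroup G) →*
      ↥(stabilizer G a ⊓ stabilizer G b : Subgroup G) where
  toFun h := ⟨t⁻¹ * (h : G) * t, by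
    refine Subgroup.mem_inf.mpr ⟨mem_stabilizer_iff.mpr ?_, mem_stabilizer_iff.mpr ?_⟩
    · rw [mul_smul, mul_smul, T.hta, memHb h.2, inv_smul_eq_iff, T.hta]
    · rw [mul_smul, mul_smul, T.htb, memHa h.2, inv_smul_eq_iff, T.htb]⟩
  map_one' := by
    apply Subtype.ext
    show t⁻¹ * (1 : G) * t = 1
    group
  map_mul' := by
    intro h k
    apply Subtype.ext
    show t⁻¹ * ((h : G) * (k : G)) * t = (t⁻¹ * (h : G) * t) * (t⁻¹ * (k : G) * t)
    group

theorem tcHom_coe (T : TData G Ω a b F t z q)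
    (h : ↥(stabilizer G a ⊓ stabilizer G b : Subgroup G)) :
    ((T.tcHom h : ↥(stabilizer G a ⊓ stabilizer G b : Subgroup G)) : G) = t⁻¹ * (h : G) * t := rfl

theorem tcHom_tcHom (T : TData G Ω a b F t z q)
    (h : ↥(stabilizer G a ⊓ stabilizer G b : Subgroup G)) : T.tcHom (T.tcHom h) = h := by
  apply Subtype.ext
  rw [tcHom_coe, tcHom_coe, T.t_inv]
  calc t * (t * (h : G) * t) * t = (t * t) * (h : G) * (t * t) := by group
    _ = h := by rw [T.tt, one_mul, mul_one]

theorem tcHom_surjective (T : TData G Ω a b F t z q) : Function.Surjective T.tcHom :=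
  fun h => ⟨T.tcHom h, T.tcHom_tcHom h⟩

theorem iotaD_tcHom (T : TData G Ω a b F t z q)
    (h : ↥(stabilizer G a ⊓ stabilizer G b : Subgroup G)) :
    iotaD a b (T.tcHom h) = T.tD⁻¹ * iotaD a b h * T.tD⁻¹⁻¹ := by
  apply Subtype.ext
  rw [inv_inv]
  rfl

variable [Fintype G]

/-- the twisted pairing of two inflated functions -/
theorem tw_eval (T : TData G Ω a b F t z q) [Fintype (stabilizer G a)]
    [Fintype ↥(stabilizer G a ⊓ stabilizer G b : Subgroup G)]
    (μ ν : ↥(stabilizer G a ⊓ stabilizer G b : Subgroup G) → ℂ) :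
    tw (stabilizer G a) (fun β => μ (T.piHom β)) (fun β => ν (T.piHom β)) t
      = ∑ h : ↥(stabilizer G a ⊓ stabilizer G b : Subgroup G), μ h * conj (ν (T.tcHom h)) := by
  unfold tw
  rw [← sum_extendByZero (stabilizer G a ⊓ stabilizer G b : Subgroup G)
    (fun h => μ h * conj (ν (T.tcHom h)))]
  refine Finset.sum_congr rfl fun c _ => ?_
  by_cases hc : c ∈ (stabilizer G a ⊓ stabilizer G b : Subgroup G)
  · have hcB : c ∈ stabilizer G a := (Subgroup.mem_inf.mp hc).1
    have hc' : t⁻¹ * c * t ∈ stabilizer G a := (Subgroup.mem_inf.mp (T.tcHom ⟨c, hc⟩).2).1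
    rw [extendByZero_of_mem _ _ hc, extendByZero_of_mem _ _ hcB, extendByZero_of_mem _ _ hc']
    have h1 : T.piHom ⟨c, hcB⟩ = ⟨c, hc⟩ := T.piHom_sigmaHom ⟨c, hc⟩
    have h2 : T.piHom ⟨t⁻¹ * c * t, hc'⟩ = T.tcHom ⟨c, hc⟩ :=
      T.piHom_sigmaHom (T.tcHom ⟨c, hc⟩)
    rw [h1, h2]
  · rw [extendByZero_of_notMem _ _ hc]
    by_cases hcB : c ∈ stabilizer G a
    · have hcb : c • b ≠ b := by
        intro h
        exact hc (Subgroup.mem_inf.mpr ⟨hcB, mem_stabilizer_iff.mpr h⟩)
      have hc' : t⁻¹ * c * t ∉ stabilizer G a := by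
        rw [mem_stabilizer_iff, mul_smul, mul_smul, T.hta, inv_smul_eq_iff, T.hta]
        exact hcb
      rw [extendByZero_of_notMem _ _ hc', map_zero, mul_zero]
    · rw [extendByZero_of_notMem _ _ hcB, zero_mul]

theorem piHom_surjective (T : TData G Ω a b F t z q) : Function.Surjective T.piHom :=
  fun h => ⟨sigmaHom a b h, T.piHom_sigmaHom h⟩

omit [Fintype G] in
theorem inflate_isClassFunction [Finite G] (T : TData G Ω a b F t z q)
    {μ : ↥(stabilizer G a ⊓ stabilizer G b : Subgroup G) → ℂ}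
    (hμ : Cfsg.IsClassFunction _ μ) :
    Cfsg.IsClassFunction (stabilizer G a) (fun β => μ (T.piHom β)) := by
  intro g h
  show μ (T.piHom (h * g * h⁻¹)) = μ (T.piHom g)
  rw [map_mul, map_mul, map_inv]
  exact hμ _ _

theorem mackey_coef (T : TData G Ω a b F t z q) :
    (((Nat.card G : ℂ) - (Nat.card (stabilizer G a) : ℂ)) /
      ((Nat.card (stabilizer G a) : ℂ) * (Nat.card (stabilizer G a) : ℂ))) *
      (Nat.card ↥(stabilizer G a ⊓ stabilizer G b : Subgroup G) : ℂ) = 1 := by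
  rw [T.card_G, T.card_B, T.card_H]
  have hq := T.hq
  obtain ⟨Q, rfl⟩ : ∃ Q, q = Q + 1 := ⟨q - 1, by omega⟩
  have hQ : (Q : ℂ) ≠ 0 := by
    have : Q ≠ 0 := by omega
    exact_mod_cast this
  have hQ1 : ((Q : ℂ) + 1) ≠ 0 := by exact_mod_cast Nat.succ_ne_zero Q
  rw [Nat.add_sub_cancel]
  push_cast
  field_simp
  ring

/-- Mackey's formula for the characters induced from the inflated characters -/
theorem classInner_ind (T : TData G Ω a b F t z q) [Fintype (stabilizer G a)]
    [Fintype ↥(stabilizer G a ⊓ stabilizer G b : Subgroup G)]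
    (μ ν : ↥(stabilizer G a ⊓ stabilizer G b : Subgroup G) → ℂ)
    (hμ : Cfsg.IsClassFunction _ μ) (hν : Cfsg.IsClassFunction _ ν) :
    Cfsg.classInner (Cfsg.indFun (stabilizer G a) (fun β => μ (T.piHom β)))
        (Cfsg.indFun (stabilizer G a) (fun β => ν (T.piHom β)))
      = Cfsg.classInner μ ν + Cfsg.classInner μ (fun h => ν (T.tcHom h)) := by
  rw [mackey_two (stabilizer G a) t T.bruhat _ _ (T.inflate_isClassFunction hμ)
    (T.inflate_isClassFunction hν), T.tw_eval,
    Cfsg.Agent.Lib.Helper2.RelMAbelian.classInner_comp_surjective T.piHom T.piHom_surjective μ ν]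
  congr 1
  rw [classInner_def]
  have hH0 : (Nat.card ↥(stabilizer G a ⊓ stabilizer G b : Subgroup G) : ℂ) ≠ 0 :=
    Nat.cast_ne_zero.mpr Nat.card_pos.ne'
  have h1 := T.mackey_coef
  calc _ = ((((Nat.card G : ℂ) - (Nat.card (stabilizer G a) : ℂ)) /
      ((Nat.card (stabilizer G a) : ℂ) * (Nat.card (stabilizer G a) : ℂ))) *
      (Nat.card ↥(stabilizer G a ⊓ stabilizer G b : Subgroup G) : ℂ)) *
      ((Nat.card ↥(stabilizer G a ⊓ stabilizer G b : Subgroup G) : ℂ)⁻¹ *
        ∑ h, μ h * conj (ν (T.tcHom h))) := by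
        field_simp
    _ = _ := by rw [h1, one_mul]

end TData

end Cfsg.Agent.Lib.Helper2.S3T
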