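import Mathlib
import Cfsg.Agent.Lib.Helper2.S3T11
import Cfsg.Agent.Lib.Helper2.TIFN
import Cfsg.Agent.Lib.Helper1.CharCenter
import Cfsg.Agent.Lib.Helper4.CharTools
import Cfsg.Agent.S0161

set_option autoImplicit false
set_option linter.style.haveILetI false
set_option linter.unusedSectionVars false

/-!
# The constituents of the induced character
-/

namespace Cfsg.Agent.Lib.Helper2.S3T

open MulAction
open scoped ComplexConjugate
open Cfsg.Agent.Lib.Helper1 Cfsg.Agent.Lib.Helper4 Cfsg.Agent.Lib.Helper8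

universe u

section Gen

variable {Δ : Type u} [Group Δ]

/-- the value of an irreducible character at a central involution -/
theorem irr_central_invol_sq {μ : Δ → ℂ} (hμ : Cfsg.IsIrrCharacter Δ μ) {z : Δ}
    (hz : z ∈ Subgroup.center Δ) (hzz : z * z = 1) : μ z * μ z = μ 1 * μ 1 := by
  obtain ⟨n, ρ, hirr, rfl⟩ := hμ
  haveI := hirr
  have hn := finrank_ne_zero_of_irreducible ρ
  have h1 := map_mul (centralHom ρ) ⟨z, hz⟩ ⟨z, hz⟩
  have h2 : (⟨z, hz⟩ * ⟨z, hz⟩ : Subgroup.center Δ) = 1 := Subtype.ext hzz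
  rw [h2, map_one, centralHom_apply] at h1
  have h3 : ρ.character 1 = (Module.finrank ℂ (Fin n → ℂ) : ℂ) := by
    rw [Representation.char_one]
  rw [h3]
  field_simp at h1
  have h4 : ρ.character z * ρ.character z = ρ.character z ^ 2 := by ring
  have h5 : (Module.finrank ℂ (Fin n → ℂ) : ℂ) * (Module.finrank ℂ (Fin n → ℂ) : ℂ)
      = (Module.finrank ℂ (Fin n → ℂ) : ℂ) ^ 2 := by ring
  rw [h4, h5]
  exact h1.symm

/-- the degree of an irreducible character is at most the square root of the order -/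
theorem irr_degree_sq_le [Fintype Δ] {μ : Δ → ℂ} (hμ : Cfsg.IsIrrCharacter Δ μ) {m : ℕ}
    (hm : μ 1 = m) : m * m ≤ Nat.card Δ := by
  have h1 := sum_norm_sq_irr hμ
  have h2 : ‖μ 1‖ ^ 2 ≤ ∑ g : Δ, ‖μ g‖ ^ 2 :=
    Finset.single_le_sum (f := fun g => ‖μ g‖ ^ 2) (fun g _ => sq_nonneg _) (Finset.mem_univ 1)
  rw [h1, hm, Complex.norm_natCast] at h2
  have h3 : ((m * m : ℕ) : ℝ) ≤ (Nat.card Δ : ℝ) := by
    push_cast
    nlinarith
  exact_mod_cast h3

end Gen

section Main

variable {G : Type u} {Ω : Type*} [Group G] [MulAction G Ω] [Fintype Ω]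
  {a b : Ω} {F : Subgroup G} {t z : G} {q : ℕ} [Fintype G]

namespace TData

/-- a constituent of multiplicity one of the induced character, orthogonal to the other induced
characters: its values on the two-point stabilizer and its degree -/
theorem constituent (T : TData G Ω a b F t z q) [Fintype (stabilizer G a)]
    [Fintype ↥(stabilizer G a ⊓ stabilizer G b : Subgroup G)]
    (μ : ↥(stabilizer G a ⊓ stabilizer G b : Subgroup G) → ℂ)
    (hμ : Cfsg.IsIrrCharacter _ μ) (χ : G → ℂ) (hχ : Cfsg.IsIrrCharacter G χ)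
    (h1 : Cfsg.classInner (Cfsg.indFun (stabilizer G a) (fun β => μ (T.piHom β))) χ = 1)
    (h0 : ∀ ν : ↥(stabilizer G a ⊓ stabilizer G b : Subgroup G) → ℂ, Cfsg.IsIrrCharacter _ ν →
      ν ≠ μ → Cfsg.classInner (Cfsg.indFun (stabilizer G a) (fun β => ν (T.piHom β))) χ = 0) :
    (∀ h : ↥(stabilizer G a ⊓ stabilizer G b : Subgroup G), h ≠ 1 → χ (h : G) = μ h) ∧
      ∃ a' : ℕ, χ 1 = μ 1 + (a' : ℂ) * ((q : ℂ) - 1) := by
  classical
  have hχcf := isClassFunction_irr hχ
  have hμcf := isClassFunction_irr hμ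
  set ξ : stabilizer G a → ℂ := (fun β : stabilizer G a => χ (β : G)) -
    (fun β : stabilizer G a => μ (T.piHom β)) with hξdef
  have hξ : Cfsg.IsClassFunction (stabilizer G a) ξ := by
    apply isClassFunction_sub
    · intro g h
      exact hχcf g h
    · exact T.inflate_isClassFunction hμcf
  have horth : ∀ ν : ↥(stabilizer G a ⊓ stabilizer G b : Subgroup G) → ℂ,
      Cfsg.IsIrrCharacter _ ν → Cfsg.classInner (fun g => ν (T.piHom g)) ξ = 0 := by
    intro ν hν
    rw [hξdef, classInner_sub_right,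
      ← Cfsg.Agent.S0146.result (stabilizer G a) (fun g => ν (T.piHom g)) χ hχcf,
      Cfsg.Agent.Lib.Helper2.RelMAbelian.classInner_comp_surjective T.piHom T.piHom_surjective ν μ]
    by_cases hνμ : ν = μ
    · rw [hνμ, h1, classInner_irr_self hμ, sub_self]
    · rw [h0 ν hν hνμ, classInner_irr_ne hν hμ hνμ, sub_self]
  have hval : ∀ h : ↥(stabilizer G a ⊓ stabilizer G b : Subgroup G), h ≠ 1 →
      χ (h : G) = μ h := by
    intro h hh
    have h2 := eq_zero_of_fpf T.piHom (sigmaHom a b) T.piHom_sigmaHom ξ hξ horth h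
      (fun u hu => T.ker_fpf h hh u hu)
    rw [hξdef, Pi.sub_apply, T.piHom_sigmaHom, sub_eq_zero] at h2
    exact h2
  refine ⟨hval, ?_⟩
  -- the degree
  obtain ⟨u, hu, hu1⟩ := T.exists_ne_one
  have huB : u ∈ stabilizer G a := T.hFa hu
  have huk : (⟨u, huB⟩ : stabilizer G a) ∈ T.piHom.ker := (T.mem_ker_piHom _).mpr hu
  set u₀ : T.piHom.ker := ⟨⟨u, huB⟩, huk⟩ with hu₀
  have hu₀1 : u₀ ≠ 1 := by
    intro h
    apply hu1
    have := congrArg (fun x : T.piHom.ker => ((x : stabilizer G a) : G)) h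
    exact this
  have hrel := kernel_relation T.piHom (sigmaHom a b) T.piHom_sigmaHom ξ hξ horth
    T.ker_trans u₀ hu₀1
  rw [T.card_ker_piHom] at hrel
  have hξ1 : ξ 1 = χ 1 - μ 1 := by
    rw [hξdef, Pi.sub_apply, map_one]
    rfl
  have hξu : ξ (u₀ : stabilizer G a) = χ u - μ 1 := by
    rw [hξdef, Pi.sub_apply, MonoidHom.mem_ker.mp huk]
  rw [hξ1, hξu] at hrel
  obtain ⟨m, hm0, hm⟩ := irr_apply_one_pos hμ
  obtain ⟨d, hd0, hd⟩ := irr_apply_one_pos hχ
  have hmm := irr_degree_sq_le hμ hm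
  rw [T.card_H] at hmm
  have hq := T.hq
  have hq1 : ((q : ℂ) - 1) ≠ 0 := by
    have : (q : ℂ) ≠ 1 := by
      have : q ≠ 1 := by omega
      exact_mod_cast this
    exact sub_ne_zero.mpr this
  -- the algebraic integer
  have hint : IsIntegral ℤ ((m : ℂ) - χ u) := by
    apply IsIntegral.sub
    · exact isIntegral_algebraMap (R := ℤ) (A := ℂ) (x := (m : ℤ)) |> fun h => by simpa using h
    · exact Cfsg.Agent.S0161.isIntegral_isCharacter (isCharacter_of_irr hχ) u
  have hrat : (m : ℂ) - χ u = (((d : ℚ) - m) / ((q : ℚ) - 1) : ℚ) := by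
    push_cast
    rw [eq_div_iff hq1]
    rw [hm, hd] at hrel
    linear_combination (-1 : ℂ) * hrel
  rw [hrat] at hint
  obtain ⟨k, hk⟩ := Cfsg.Agent.Lib.Helper2.TIFN.int_of_rat_isIntegral _ hint
  have hk' : (d : ℂ) = m + (k : ℂ) * ((q : ℂ) - 1) := by
    have : ((((d : ℚ) - m) / ((q : ℚ) - 1) : ℚ) : ℂ) = ((d : ℂ) - m) / ((q : ℂ) - 1) := by
      push_cast; rfl
    rw [this, div_eq_iff hq1] at hk
    linear_combination hk
  have hkZ : (d : ℤ) = m + k * ((q : ℤ) - 1) := by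
    have : ((d : ℤ) : ℂ) = ((m + k * ((q : ℤ) - 1) : ℤ) : ℂ) := by
      push_cast
      exact hk'
    exact_mod_cast this
  have hk0 : 0 ≤ k := by
    by_contra hneg
    push Not at hneg
    have h5 : (m : ℤ) ≤ (q : ℤ) - 1 := by
      have h6 : m ≤ m * m := Nat.le_mul_self m
      have h7 : m ≤ q - 1 := h6.trans hmm
      omega
    have h8 : (0 : ℤ) < d := by exact_mod_cast hd0
    have h9 : k * ((q : ℤ) - 1) ≤ -((q : ℤ) - 1) := by
      have : (0 : ℤ) ≤ (q : ℤ) - 1 := by omega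
      nlinarith
    omega
  refine ⟨k.toNat, ?_⟩
  rw [hd, hk', hm]
  congr 2
  have : ((k.toNat : ℤ) : ℂ) = (k : ℂ) := by rw [Int.toNat_of_nonneg hk0]
  exact_mod_cast this.symm

end TData

end Main

end Cfsg.Agent.Lib.Helper2.S3T
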