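import Mathlib
import Cfsg.Agent.Lib.Helper2.S3T12
import Cfsg.Agent.Lib.Helper4.VirtualChar

set_option autoImplicit false
set_option linter.style.haveILetI false
set_option linter.unusedSectionVars false

/-!
# Characters of norm two, the class sum of an induced function, and the arithmetic
-/

namespace Cfsg.Agent.Lib.Helper2.S3T

open MulAction
open scoped ComplexConjugate
open Cfsg.Agent.Lib.Helper1 Cfsg.Agent.Lib.Helper4 Cfsg.Agent.Lib.Helper8

universe u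

section Gen

variable {G : Type u} [Group G] [Fintype G]

/-- a character of norm two is the sum of two distinct irreducible characters -/
theorem char_norm_two {R : G → ℂ} (hR : Cfsg.IsCharacter G R) (h2 : Cfsg.classInner R R = 2) :
    ∃ χ₁ χ₂ : G → ℂ, Cfsg.IsIrrCharacter G χ₁ ∧ Cfsg.IsIrrCharacter G χ₂ ∧ χ₁ ≠ χ₂ ∧
      R = χ₁ + χ₂ := by
  have hgen : Cfsg.IsGeneralizedCharacter G R := ⟨R, 0, hR, isCharacter_zero, (sub_zero R).symm⟩
  obtain ⟨ψ₁, ψ₂, hψ₁, hψ₂, hne, a₁, a₂, ha₁, ha₂, hRe⟩ := genChar_norm_two hgen h2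
  have h1 : Cfsg.classInner R ψ₁ = a₁ := by
    rw [hRe, classInner_add_left, classInner_smul_left, classInner_smul_left,
      classInner_irr_self hψ₁, classInner_irr_ne hψ₂ hψ₁ (Ne.symm hne)]
    ring
  have h2' : Cfsg.classInner R ψ₂ = a₂ := by
    rw [hRe, classInner_add_left, classInner_smul_left, classInner_smul_left,
      classInner_irr_self hψ₂, classInner_irr_ne hψ₁ hψ₂ hne]
    ring
  obtain ⟨n₁, hn₁⟩ := classInner_char_irr_nat hR hψ₁
  obtain ⟨n₂, hn₂⟩ := classInner_char_irr_nat hR hψ₂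
  have e₁ : a₁ = 1 := by
    rcases ha₁ with h | h
    · exact h
    · exfalso
      rw [h1, h] at hn₁
      have : ((n₁ : ℂ)).re = (-1 : ℂ).re := by rw [← hn₁]
      simp at this
      have h0 : (0 : ℝ) ≤ n₁ := Nat.cast_nonneg _
      linarith
  have e₂ : a₂ = 1 := by
    rcases ha₂ with h | h
    · exact h
    · exfalso
      rw [h2', h] at hn₂
      have : ((n₂ : ℂ)).re = (-1 : ℂ).re := by rw [← hn₂]
      simp at this
      have h0 : (0 : ℝ) ≤ n₂ := Nat.cast_nonneg _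
      linarith
  refine ⟨ψ₁, ψ₂, hψ₁, hψ₂, hne, ?_⟩
  rw [hRe, e₁, e₂, one_smul, one_smul]

/-- the double class sum of an induced function -/
theorem class_sum_ind (B : Subgroup G) (φ : B → ℂ) (z : G) :
    ∑ x : G, ∑ y : G, Cfsg.indFun B φ (kap z x * kap z y)
      = (Nat.card B : ℂ)⁻¹ * ((Fintype.card G : ℂ) *
        ∑ x : G, ∑ y : G, Cfsg.extendByZero B φ (kap z x * kap z y)) := by
  have h1 : ∀ x y : G, Cfsg.indFun B φ (kap z x * kap z y) = (Nat.card B : ℂ)⁻¹ *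
      ∑ w : G, Cfsg.extendByZero B φ (kap z (w⁻¹ * x) * kap z (w⁻¹ * y)) := by
    intro x y
    rw [indFun_apply]
    congr 1
    refine Finset.sum_congr rfl fun w _ => ?_
    congr 1
    rw [kap_mul, kap_mul]
    group
  have h2 : ∑ x : G, ∑ y : G, Cfsg.indFun B φ (kap z x * kap z y)
      = (Nat.card B : ℂ)⁻¹ * ∑ w : G, ∑ x : G, ∑ y : G,
        Cfsg.extendByZero B φ (kap z (w⁻¹ * x) * kap z (w⁻¹ * y)) := by
    rw [Finset.sum_congr rfl fun x _ => Finset.sum_congr rfl fun y _ => h1 x y]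
    simp only [← Finset.mul_sum]
    congr 1
    rw [Finset.sum_congr rfl fun x _ => Finset.sum_comm]
    rw [Finset.sum_comm]
  rw [h2]
  congr 1
  have h3 : ∀ w : G, ∑ x : G, ∑ y : G,
      Cfsg.extendByZero B φ (kap z (w⁻¹ * x) * kap z (w⁻¹ * y))
      = ∑ x : G, ∑ y : G, Cfsg.extendByZero B φ (kap z x * kap z y) := by
    intro w
    rw [← Equiv.sum_comp (Equiv.mulLeft w⁻¹)
      (fun x => ∑ y : G, Cfsg.extendByZero B φ (kap z x * kap z y))]
    refine Finset.sum_congr rfl fun x _ => ?_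
    rw [← Equiv.sum_comp (Equiv.mulLeft w⁻¹)
      (fun y => Cfsg.extendByZero B φ (kap z (Equiv.mulLeft w⁻¹ x) * kap z y))]
    rfl
  rw [Finset.sum_congr rfl fun w _ => h3 w, Finset.sum_const, Finset.card_univ, nsmul_eq_mul]

end Gen

/-- the arithmetic of the class sum identity -/
theorem arith_key (Q m d' d'' X' X'' S : ℂ) (hQ : Q ≠ 0) (hQ1 : Q + 1 ≠ 0) (hQ2 : Q + 2 ≠ 0)
    (e1 : X' * d' = ((Q + 2) * ((Q + 1) * Q)) ^ 2 * m ^ 2)
    (e2 : X'' * d'' = ((Q + 2) * ((Q + 1) * Q)) ^ 2 * m ^ 2)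
    (e3 : ((Q + 1) * Q) * (X' + X'') = ((Q + 2) * ((Q + 1) * Q)) * S)
    (e4 : S * m = 4 * ((Q + 1) * Q) ^ 2 * m ^ 2 + (Q + 1) * Q ^ 4)
    (e5 : d' + d'' = (Q + 2) * m) :
    (Q + 1) * (Q + 2) ^ 2 * m ^ 4 = d' * d'' * (4 * (Q + 1) * m ^ 2 + Q ^ 2) := by
  have hc : (Q + 2) * ((Q + 1) * Q) * (Q + 1) * Q ^ 2 ≠ 0 := by
    refine mul_ne_zero (mul_ne_zero (mul_ne_zero hQ2 (mul_ne_zero hQ1 hQ)) hQ1) (pow_ne_zero _ hQ)
  apply mul_left_cancel₀ hc
  linear_combination (-1 : ℂ) * (((Q + 1) * Q) * m * d'' * e1 + ((Q + 1) * Q) * m * d' * e2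
    - m * d' * d'' * e3 - d' * d'' * ((Q + 2) * ((Q + 1) * Q)) * e4
    + ((Q + 1) * Q) * ((Q + 2) * ((Q + 1) * Q)) ^ 2 * m ^ 3 * e5)

end Cfsg.Agent.Lib.Helper2.S3T
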