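import Mathlib
import Cfsg.Agent.Lib.Helper2.S3T13
import Cfsg.Agent.Lib.Helper1.LinearChar
import Cfsg.Agent.S0170

set_option autoImplicit false
set_option linter.style.haveILetI false
set_option linter.unusedSectionVars false

/-!
# A sharply 3-transitive group of even degree has a linear character which is non-trivial on the
two-point stabilizer
-/

namespace Cfsg.Agent.Lib.Helper2.S3T

open MulAction
open scoped ComplexConjugate
open Cfsg.Agent.Lib.Helper1 Cfsg.Agent.Lib.Helper4 Cfsg.Agent.Lib.Helper8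

universe u

variable {G : Type u} {Ω : Type*} [Group G] [MulAction G Ω] [Fintype Ω]
  {a b : Ω} {F : Subgroup G} {t z : G} {q : ℕ}

namespace TData

/-- `z` as an element of the two-point stabilizer -/
def zH (T : TData G Ω a b F t z q) : ↥(stabilizer G a ⊓ stabilizer G b : Subgroup G) :=
  ⟨z, Subgroup.mem_inf.mpr ⟨mem_stabilizer_iff.mpr T.hza, mem_stabilizer_iff.mpr T.hzb⟩⟩

theorem zH_ne_one (T : TData G Ω a b F t z q) : T.zH ≠ 1 := by
  intro h
  exact T.hz1 (congrArg Subtype.val h)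

theorem zH_mul_zH (T : TData G Ω a b F t z q) : T.zH * T.zH = 1 := Subtype.ext T.hzz

theorem zH_central [Finite G] (T : TData G Ω a b F t z q) : T.zH ∈ Subgroup.center _ := by
  rw [Subgroup.mem_center_iff]
  intro h
  have h1 : (h : G) * z * (h : G)⁻¹ = z := by
    apply T.invol_unique
    · rw [mul_smul, mul_smul, inv_smul_eq_iff.mpr (memHa h.2).symm, T.hza, memHa h.2]
    · rw [mul_smul, mul_smul, inv_smul_eq_iff.mpr (memHb h.2).symm, T.hzb, memHb h.2]
    · intro h2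
      apply T.hz1
      have : z = (h : G)⁻¹ * ((h : G) * z * (h : G)⁻¹) * (h : G) := by group
      rw [this, h2]; group
    · calc (h : G) * z * (h : G)⁻¹ * ((h : G) * z * (h : G)⁻¹)
          = (h : G) * (z * z) * (h : G)⁻¹ := by group
        _ = 1 := by rw [T.hzz]; group
  apply Subtype.ext
  show (h : G) * z = z * (h : G)
  calc (h : G) * z = ((h : G) * z * (h : G)⁻¹) * (h : G) := by group
    _ = z * (h : G) := by rw [h1]

theorem kap_ne_one (T : TData G Ω a b F t z q) (x : G) : kap z x ≠ 1 := by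
  intro h
  apply T.hz1
  unfold kap at h
  have : z = x⁻¹ * (x * z * x⁻¹) * x := by group
  rw [this, h]; group

/-- the image in the two-point stabilizer of a conjugate of `z` fixing `a` -/
theorem piHom_kap [Finite G] (T : TData G Ω a b F t z q) {x : G} (hx : kap z x • a = a) :
    T.piHom ⟨kap z x, mem_stabilizer_iff.mpr hx⟩ = T.zH := by
  set j := T.piHom ⟨kap z x, mem_stabilizer_iff.mpr hx⟩ with hj
  have hjj : j * j = 1 := by
    rw [hj, ← map_mul]
    have : (⟨kap z x, mem_stabilizer_iff.mpr hx⟩ * ⟨kap z x, mem_stabilizer_iff.mpr hx⟩ :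
        stabilizer G a) = 1 := Subtype.ext (kap_sq T.hzz x)
    rw [this, map_one]
  have hj1 : j ≠ 1 := by
    intro h
    have hker : (⟨kap z x, mem_stabilizer_iff.mpr hx⟩ : stabilizer G a) ∈ T.piHom.ker :=
      MonoidHom.mem_ker.mpr h
    have hF : kap z x ∈ F := (T.mem_ker_piHom _).mp hker
    have hfa : kap z x • x • a = x • a := by
      unfold kap
      rw [mul_smul, mul_smul, inv_smul_smul, T.hza]
    have hfb : kap z x • x • b = x • b := by
      unfold kap
      rw [mul_smul, mul_smul, inv_smul_smul, T.hzb]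
    have h1 := T.hFfix _ hF (T.kap_ne_one x) _ hfa
    have h2 := T.hFfix _ hF (T.kap_ne_one x) _ hfb
    exact T.hab (MulAction.injective x (h1.trans h2.symm))
  apply Subtype.ext
  show (j : G) = z
  apply T.invol_unique (memHa j.2) (memHb j.2)
  · intro h
    exact hj1 (Subtype.ext h)
  · have := congrArg Subtype.val hjj
    exact this

variable [Fintype G] [DecidableEq Ω]

/-- the double class sum of the extension by zero of the inflated character -/
theorem S_eval (T : TData G Ω a b F t z q) (ψ : pairStab (G := G) a b → ℂ)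
    (hψ : Cfsg.IsIrrCharacter (pairStab (G := G) a b) ψ) :
    ∑ x : G, ∑ y : G, Cfsg.extendByZero (stabilizer G a)
        (fun β => ψ (iotaD a b (T.piHom β))) (kap z x * kap z y)
      = ((XS z a a).card : ℂ) * (((XS z a a).card : ℂ) * ψ 1)
        + (q : ℂ) * (((XS z a b).card : ℂ) * (((XS z a b).card : ℂ) *
          (ψ T.tD * ψ T.tD / ψ 1))) := by
  have hcf : Cfsg.IsClassFunction (stabilizer G a)
      (fun β => ψ (iotaD a b (T.piHom β))) := by
    intro g h
    show ψ (iotaD a b (T.piHom (h * g * h⁻¹))) = ψ (iotaD a b (T.piHom g))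
    rw [map_mul, map_mul, map_inv, map_mul, map_mul, map_inv]
    exact isClassFunction_irr hψ _ _
  apply T.S_abstract _ _ ψ hψ
  · intro g hg
    exact extendByZero_of_notMem _ _ (fun h => hg (mem_stabilizer_iff.mp h))
  · intro v hv g
    exact extendByZero_conj_mem _ _ hcf (mem_stabilizer_iff.mpr hv) g
  · intro x y hx hy
    have hxy : kap z x * kap z y ∈ stabilizer G a := by
      rw [mem_stabilizer_iff, mul_smul, hy, hx]
    rw [extendByZero_of_mem _ _ hxy]
    have h1 : (⟨kap z x * kap z y, hxy⟩ : stabilizer G a)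
        = ⟨kap z x, mem_stabilizer_iff.mpr hx⟩ * ⟨kap z y, mem_stabilizer_iff.mpr hy⟩ := rfl
    show ψ (iotaD a b (T.piHom ⟨kap z x * kap z y, hxy⟩)) = ψ 1
    rw [h1, map_mul, T.piHom_kap hx, T.piHom_kap hy, T.zH_mul_zH, map_one]
  · intro d hd
    have hdb : (d : G) • b = b := by
      rcases d.2 with h | h
      · exact h.2
      · exact absurd (hd.symm.trans h.1) T.hab
    have hdB : (d : G) ∈ stabilizer G a := mem_stabilizer_iff.mpr hd
    have hdH : (d : G) ∈ (stabilizer G a ⊓ stabilizer G b : Subgroup G) :=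
      Subgroup.mem_inf.mpr ⟨hdB, mem_stabilizer_iff.mpr hdb⟩
    rw [extendByZero_of_mem _ _ hdB]
    show ψ (iotaD a b (T.piHom ⟨(d : G), hdB⟩)) = ψ d
    have h1 : T.piHom ⟨(d : G), hdB⟩ = ⟨(d : G), hdH⟩ := T.piHom_sigmaHom ⟨(d : G), hdH⟩
    rw [h1]
    rfl

/-- the main character-theoretic argument -/
theorem exists_linear (T : TData G Ω a b F t z q) (ψ : pairStab (G := G) a b → ℂ)
    (hψ : Cfsg.IsIrrCharacter (pairStab (G := G) a b) ψ) (hψt : ψ T.tD * ψ T.tD = 1)
    (hμ : Cfsg.IsIrrCharacter ↥(stabilizer G a ⊓ stabilizer G b : Subgroup G)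
      (fun h => ψ (iotaD a b h)))
    (hμ1 : (fun h : ↥(stabilizer G a ⊓ stabilizer G b : Subgroup G) => ψ (iotaD a b h))
      ≠ fun _ => 1) :
    ∃ χ : G → ℂ, Cfsg.IsIrrCharacter G χ ∧ χ 1 = 1 ∧
      ∃ h : ↥(stabilizer G a ⊓ stabilizer G b : Subgroup G), χ (h : G) ≠ 1 := by
  classical
  haveI : Fintype (stabilizer G a) := Fintype.ofFinite _
  haveI : Fintype ↥(stabilizer G a ⊓ stabilizer G b : Subgroup G) := Fintype.ofFinite _
  set μ : ↥(stabilizer G a ⊓ stabilizer G b : Subgroup G) → ℂ := fun h => ψ (iotaD a b h)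
    with hμdef
  have hψcf := isClassFunction_irr hψ
  have hμcf := isClassFunction_irr hμ
  have hμtc : (fun h => μ (T.tcHom h)) = μ := by
    funext h
    show ψ (iotaD a b (T.tcHom h)) = ψ (iotaD a b h)
    rw [T.iotaD_tcHom, hψcf]
  set R := Cfsg.indFun (stabilizer G a) (fun β => μ (T.piHom β)) with hRdef
  have hR : Cfsg.IsCharacter G R :=
    Cfsg.Agent.S0148.result _ _ (isCharacter_comp_hom (isCharacter_of_irr hμ) T.piHom)
  have hnorm : Cfsg.classInner R R = 2 := by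
    rw [hRdef, T.classInner_ind μ μ hμcf hμcf, hμtc, classInner_irr_self hμ]
    norm_num
  obtain ⟨χ₁, χ₂, hχ₁, hχ₂, hne, hRsum⟩ := char_norm_two hR hnorm
  have hR1 : Cfsg.classInner R χ₁ = 1 := by
    rw [hRsum, classInner_add_left, classInner_irr_self hχ₁,
      classInner_irr_ne hχ₂ hχ₁ hne.symm, add_zero]
  have hR2 : Cfsg.classInner R χ₂ = 1 := by
    rw [hRsum, classInner_add_left, classInner_irr_self hχ₂,
      classInner_irr_ne hχ₁ hχ₂ hne, zero_add]
  have horth : ∀ ν : ↥(stabilizer G a ⊓ stabilizer G b : Subgroup G) → ℂ,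
      Cfsg.IsIrrCharacter _ ν → ν ≠ μ →
      Cfsg.classInner (Cfsg.indFun (stabilizer G a) (fun β => ν (T.piHom β))) χ₁ = 0 ∧
      Cfsg.classInner (Cfsg.indFun (stabilizer G a) (fun β => ν (T.piHom β))) χ₂ = 0 := by
    intro ν hν hνμ
    have hνcf := isClassFunction_irr hν
    have hRν : Cfsg.IsCharacter G (Cfsg.indFun (stabilizer G a) (fun β => ν (T.piHom β))) :=
      Cfsg.Agent.S0148.result _ _ (isCharacter_comp_hom (isCharacter_of_irr hν) T.piHom)
    have h0 : Cfsg.classInner R (Cfsg.indFun (stabilizer G a) (fun β => ν (T.piHom β))) = 0 := by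
      rw [hRdef, T.classInner_ind μ ν hμcf hνcf, classInner_irr_ne hμ hν (Ne.symm hνμ), zero_add]
      have hνtc : Cfsg.IsIrrCharacter _ (fun h => ν (T.tcHom h)) :=
        Cfsg.Agent.Lib.Helper2.PiSection.isIrrCharacter_comp_surjective hν T.tcHom
          T.tcHom_surjective
      apply classInner_irr_ne hμ hνtc
      intro heq
      apply hνμ
      funext h
      have h3 := congrFun heq (T.tcHom h)
      simp only [T.tcHom_tcHom] at h3
      rw [← h3]
      exact congrFun hμtc h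
    obtain ⟨n₁, hn₁⟩ := classInner_char_irr_nat hRν hχ₁
    obtain ⟨n₂, hn₂⟩ := classInner_char_irr_nat hRν hχ₂
    have h0' := classInner_eq_zero_symm h0
    rw [hRsum, classInner_add_right, hn₁, hn₂] at h0'
    have h4 : n₁ + n₂ = 0 := by exact_mod_cast h0'
    have h5 : n₁ = 0 := by omega
    have h6 : n₂ = 0 := by omega
    rw [hn₁, hn₂, h5, h6]
    simp
  obtain ⟨hv₁, a₁, hd₁⟩ := T.constituent μ hμ χ₁ hχ₁ hR1 (fun ν hν hn => (horth ν hν hn).1)
  obtain ⟨hv₂, a₂, hd₂⟩ := T.constituent μ hμ χ₂ hχ₂ hR2 (fun ν hν hn => (horth ν hν hn).2)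
  obtain ⟨m, hm0, hm⟩ := irr_apply_one_pos hμ
  have hmm := irr_degree_sq_le hμ hm
  rw [T.card_H] at hmm
  have hψ1 : ψ 1 = m := by
    rw [← hm]
    show ψ 1 = ψ (iotaD a b 1)
    rw [map_one]
  -- the cardinalities
  have hq := T.hq
  have hcG := T.card_G
  have hcB := T.card_B
  have hcA := T.card_XS_a
  have hcXb := T.card_XS_b
  obtain ⟨Q, rfl⟩ : ∃ Q, q = Q + 1 := ⟨q - 1, by omega⟩
  rw [Nat.add_sub_cancel] at hmm hcG hcB
  have hQpos : 1 ≤ Q := by omega
  have hnB : (XS z a b).card = Q * Q := by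
    rw [hcB, hcG] at hcXb
    have h1 : (Q + 1) * (XS z a b).card = (Q + 1) * (Q * Q) := by nlinarith
    exact Nat.eq_of_mul_eq_mul_left (Nat.succ_pos Q) h1
  have hnA : (XS z a a).card = 2 * ((Q + 1) * Q) := by rw [hcA, hcB]
  -- the degree sum
  have hdsum : a₁ + a₂ = m := by
    have h1 : R 1 = χ₁ 1 + χ₂ 1 := by rw [hRsum]; rfl
    rw [hRdef, Cfsg.Agent.S0170.indFun_one, map_one, hm, hcB, hcG, hd₁, hd₂, hm] at h1
    have hB0 : (((Q + 1) * Q : ℕ) : ℂ) ≠ 0 := by
      have : (Q + 1) * Q ≠ 0 := by positivity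
      exact_mod_cast this
    have hQ0' : (Q : ℂ) ≠ 0 := by
      have : Q ≠ 0 := by omega
      exact_mod_cast this
    have hQ1' : (Q : ℂ) + 1 ≠ 0 := by exact_mod_cast Nat.succ_ne_zero Q
    have h2 : ((((Q + 1) * Q : ℕ) : ℂ))⁻¹ * ((((Q + 1 + 1) * ((Q + 1) * Q) : ℕ) : ℂ) * (m : ℂ))
        = ((Q : ℂ) + 2) * m := by
      push_cast
      field_simp
      ring
    rw [h2] at h1
    have h3 : ((a₁ : ℂ) + a₂) * (Q : ℂ) = (m : ℂ) * Q := by
      push_cast at h1
      linear_combination (-1 : ℂ) * h1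
    have hQ0 : (Q : ℂ) ≠ 0 := by
      have : Q ≠ 0 := by omega
      exact_mod_cast this
    have h4 := mul_right_cancel₀ hQ0 h3
    exact_mod_cast h4
  -- the values at z
  have hz₁ : χ₁ z * χ₁ z = (m : ℂ) * m := by
    have := hv₁ T.zH T.zH_ne_one
    have h1 : χ₁ z = μ T.zH := this
    rw [h1, irr_central_invol_sq hμ T.zH_central T.zH_mul_zH, hm]
  have hz₂ : χ₂ z * χ₂ z = (m : ℂ) * m := by
    have := hv₂ T.zH T.zH_ne_one
    have h1 : χ₂ z = μ T.zH := this
    rw [h1, irr_central_invol_sq hμ T.zH_central T.zH_mul_zH, hm]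
  -- the class sums
  have hX₁ := sum_sum_conj hχ₁ z
  have hX₂ := sum_sum_conj hχ₂ z
  have hXR := class_sum_ind (stabilizer G a) (fun β => μ (T.piHom β)) z
  rw [T.S_eval ψ hψ, hψt, hψ1, hnA, hnB, hcB, ← Nat.card_eq_fintype_card, hcG] at hXR
  rw [← Nat.card_eq_fintype_card, hcG, mul_assoc, mul_assoc, hz₁] at hX₁
  rw [← Nat.card_eq_fintype_card, hcG, mul_assoc, mul_assoc, hz₂] at hX₂
  have hXsum : ∑ x : G, ∑ y : G, R (kap z x * kap z y)
      = ∑ x : G, ∑ y : G, χ₁ ((x * z * x⁻¹) * (y * z * y⁻¹))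
        + ∑ x : G, ∑ y : G, χ₂ ((x * z * x⁻¹) * (y * z * y⁻¹)) := by
    rw [← Finset.sum_add_distrib]
    refine Finset.sum_congr rfl fun x _ => ?_
    rw [← Finset.sum_add_distrib]
    refine Finset.sum_congr rfl fun y _ => ?_
    rw [hRsum]
    rfl
  rw [hRdef] at hXsum
  rw [hXsum] at hXR
  have hm0' : (m : ℂ) ≠ 0 := by
    have : m ≠ 0 := by omega
    exact_mod_cast this
  have hQ0 : (Q : ℂ) ≠ 0 := by
    have : Q ≠ 0 := by omega
    exact_mod_cast this
  have hQ1 : (Q : ℂ) + 1 ≠ 0 := by exact_mod_cast Nat.succ_ne_zero Q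
  have hQ2 : (Q : ℂ) + 2 ≠ 0 := by exact_mod_cast Nat.succ_ne_zero (Q + 1)
  have hd₁0 : χ₁ 1 ≠ 0 := irr_apply_one_ne_zero hχ₁
  have hd₂0 : χ₂ 1 ≠ 0 := irr_apply_one_ne_zero hχ₂
  have hkey := arith_key (Q : ℂ) (m : ℂ) (χ₁ 1) (χ₂ 1)
    (∑ x : G, ∑ y : G, χ₁ ((x * z * x⁻¹) * (y * z * y⁻¹)))
    (∑ x : G, ∑ y : G, χ₂ ((x * z * x⁻¹) * (y * z * y⁻¹)))
    ((2 * (((Q : ℂ) + 1) * Q)) * ((2 * (((Q : ℂ) + 1) * Q)) * m)
      + ((Q : ℂ) + 1) * (((Q : ℂ) * Q) * (((Q : ℂ) * Q) * (1 / m))))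
    hQ0 hQ1 hQ2
    (by rw [hX₁]; push_cast; field_simp; ring)
    (by rw [hX₂]; push_cast; field_simp; ring)
    (by
      rw [hXR]
      push_cast
      field_simp
      ring)
    (by field_simp; ring)
    (by
      rw [hd₁, hd₂, hm]
      have : ((a₁ : ℂ) + a₂) = m := by exact_mod_cast hdsum
      push_cast
      linear_combination ((Q : ℂ)) * this)
  rw [hd₁, hd₂, hm] at hkey
  have hkeyN : (Q + 1) * (Q + 2) ^ 2 * m ^ 4
      = (m + a₁ * Q) * (m + a₂ * Q) * (4 * (Q + 1) * m ^ 2 + Q ^ 2) := by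
    have : (((Q + 1) * (Q + 2) ^ 2 * m ^ 4 : ℕ) : ℂ)
        = (((m + a₁ * Q) * (m + a₂ * Q) * (4 * (Q + 1) * m ^ 2 + Q ^ 2) : ℕ) : ℂ) := by
      push_cast
      push_cast at hkey
      linear_combination hkey
    exact_mod_cast this
  obtain ⟨hm1, ha⟩ := degree_arith Q m a₁ a₂ hQpos hm0 hmm hdsum hkeyN
  subst hm1
  -- a non-trivial value of μ
  have hex : ∃ h : ↥(stabilizer G a ⊓ stabilizer G b : Subgroup G), μ h ≠ 1 := by
    by_contra hcon
    push Not at hcon
    exact hμ1 (funext hcon)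
  obtain ⟨h, hh⟩ := hex
  have hh1 : h ≠ 1 := by
    intro h1
    apply hh
    rw [h1, hm]
    simp
  rcases ha with ha | ha
  · refine ⟨χ₁, hχ₁, ?_, h, ?_⟩
    · rw [hd₁, hm, ha]; simp
    · rw [hv₁ h hh1]; exact hh
  · refine ⟨χ₂, hχ₂, ?_, h, ?_⟩
    · rw [hd₂, hm, ha]; simp
    · rw [hv₂ h hh1]; exact hh

omit [DecidableEq Ω] in
/-- a sharply 3-transitive group of even degree has a linear character which is non-trivial on
the two-point stabilizer -/
theorem exists_linear_char (T : TData G Ω a b F t z q) :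
    ∃ φ : G →* ℂˣ, ∃ h : G, h • a = a ∧ h • b = b ∧ φ h ≠ 1 := by
  classical
  haveI : Fintype (pairStab (G := G) a b) := Fintype.ofFinite _
  haveI : Fintype ↥(stabilizer G a ⊓ stabilizer G b : Subgroup G) := Fintype.ofFinite _
  obtain ⟨ψ, hψ, hψt, hμ, hμ1⟩ := exists_local_char (iotaD (G := G) a b) (iotaD_injective a b)
    T.card_D T.tD T.tD_notMem_range T.tD_mul_tD T.card_centralizer_tD
  obtain ⟨χ, hχ, hχ1, h, hh⟩ := T.exists_linear ψ hψ hψt hμ hμ1
  obtain ⟨φ, hφ⟩ := exists_hom_of_isIrrCharacter hχ hχ1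
  refine ⟨φ, (h : G), memHa h.2, memHb h.2, ?_⟩
  intro h1
  apply hh
  rw [hφ]
  show ((φ (h : G) : ℂˣ) : ℂ) = 1
  rw [h1]
  simp

end TData

end Cfsg.Agent.Lib.Helper2.S3T
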