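import Mathlib
import Cfsg.Agent.Lib.Helper2.S3T14
import Cfsg.Agent.Lib.Helper2.S3T15

set_option autoImplicit false
set_option linter.style.haveILetI false
set_option linter.unusedSectionVars false

/-!
# The subgroup of index two of the two-point stabilizer
-/

namespace Cfsg.Agent.Lib.Helper2.S3T

open MulAction

universe u

variable {G : Type u} {Ω : Type*} [Group G] [MulAction G Ω] [Fintype Ω]
  {a b : Ω} {F : Subgroup G} {t z : G} {q : ℕ} [Finite G]

namespace TData

/-- the kernel of a linear character which is non-trivial on the two-point stabilizer meets it in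
a subgroup of index two -/
theorem relIndex_ker (T : TData G Ω a b F t z q) (φ : G →* ℂˣ) {h₀ : G} (h₀a : h₀ • a = a)
    (h₀b : h₀ • b = b) (hφ : φ h₀ ≠ 1) :
    (φ.ker ⊓ (stabilizer G a ⊓ stabilizer G b)).relIndex (stabilizer G a ⊓ stabilizer G b) = 2 := by
  classical
  haveI : Fintype G := Fintype.ofFinite G
  haveI : Fintype ↥(stabilizer G a ⊓ stabilizer G b : Subgroup G) := Fintype.ofFinite _
  set H : Subgroup G := stabilizer G a ⊓ stabilizer G b with hH
  set K : Subgroup H := (φ.ker ⊓ H).subgroupOf H with hK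
  have hKmem : ∀ h : H, h ∈ K ↔ φ (h : G) = 1 := by
    intro h
    rw [hK, Subgroup.mem_subgroupOf, Subgroup.mem_inf, MonoidHom.mem_ker]
    exact ⟨fun h1 => h1.1, fun h1 => ⟨h1, h.2⟩⟩
  show K.index = 2
  -- the commutator map
  let c : H → H := fun h => ⟨t * (h : G) * t⁻¹ * (h : G)⁻¹, by
    have h1 := T.t_conj_a (memHa h.2) (memHb h.2)
    have h2 : t * (h : G) * t⁻¹ ∈ H :=
      Subgroup.mem_inf.mpr ⟨mem_stabilizer_iff.mpr h1.1, mem_stabilizer_iff.mpr h1.2⟩
    exact H.mul_mem h2 (H.inv_mem h.2)⟩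
  have hcK : ∀ h : H, c h ∈ K := by
    intro h
    rw [hKmem]
    show φ (t * (h : G) * t⁻¹ * (h : G)⁻¹) = 1
    rw [map_mul, map_mul, map_mul, map_inv, map_inv]
    rw [mul_comm (φ t) (φ (h : G)), mul_assoc (φ (h : G)), mul_inv_cancel, mul_one, mul_inv_cancel]
  have hfib : ∀ y ∈ (Finset.univ : Finset H).image c,
      ((Finset.univ : Finset H).filter fun x => c x = y).card ≤ 2 := by
    intro y hy
    obtain ⟨h', -, rfl⟩ := Finset.mem_image.mp hy
    have hsub : ((Finset.univ : Finset H).filter fun x => c x = c h')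
        ⊆ {h', h' * ⟨z, Subgroup.mem_inf.mpr ⟨mem_stabilizer_iff.mpr T.hza,
          mem_stabilizer_iff.mpr T.hzb⟩⟩} := by
      intro h hh
      rw [Finset.mem_filter] at hh
      have h1 : t * (h : G) * t⁻¹ * (h : G)⁻¹ = t * (h' : G) * t⁻¹ * (h' : G)⁻¹ :=
        congrArg Subtype.val hh.2
      have h2 : ((h' : G)⁻¹ * (h : G)) * t = t * ((h' : G)⁻¹ * (h : G)) := by
        have e1 : (h : G) * t⁻¹ * (h : G)⁻¹ = (h' : G) * t⁻¹ * (h' : G)⁻¹ := by
          have : t⁻¹ * (t * (h : G) * t⁻¹ * (h : G)⁻¹) = t⁻¹ * (t * (h' : G) * t⁻¹ * (h' : G)⁻¹) := by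
            rw [h1]
          calc (h : G) * t⁻¹ * (h : G)⁻¹ = t⁻¹ * (t * (h : G) * t⁻¹ * (h : G)⁻¹) := by group
            _ = t⁻¹ * (t * (h' : G) * t⁻¹ * (h' : G)⁻¹) := this
            _ = (h' : G) * t⁻¹ * (h' : G)⁻¹ := by group
        rw [T.t_inv] at e1
        calc ((h' : G)⁻¹ * (h : G)) * t = (h' : G)⁻¹ * ((h : G) * t * (h : G)⁻¹) * (h : G) := by
              group
          _ = (h' : G)⁻¹ * ((h' : G) * t * (h' : G)⁻¹) * (h : G) := by rw [e1]
          _ = t * ((h' : G)⁻¹ * (h : G)) := by group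
      have h3 : ((h' : G)⁻¹ * (h : G)) • a = a := by
        rw [mul_smul, memHa h.2, inv_smul_eq_iff, memHa h'.2]
      have h4 : ((h' : G)⁻¹ * (h : G)) • b = b := by
        rw [mul_smul, memHb h.2, inv_smul_eq_iff, memHb h'.2]
      rw [Finset.mem_insert, Finset.mem_singleton]
      rcases T.centralizer_t_H h3 h4 h2 with h5 | h5
      · left
        apply Subtype.ext
        have : (h : G) = (h' : G) * ((h' : G)⁻¹ * (h : G)) := by group
        rw [this, h5, mul_one]
      · right
        apply Subtype.ext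
        have : (h : G) = (h' : G) * ((h' : G)⁻¹ * (h : G)) := by group
        rw [this, h5]
        rfl
    exact (Finset.card_le_card hsub).trans Finset.card_le_two
  have h1 := Finset.card_le_mul_card_image (Finset.univ : Finset H) 2 hfib
  have h2 : ((Finset.univ : Finset H).image c).card ≤ Nat.card K := by
    rw [Nat.card_eq_fintype_card, ← Finset.card_univ (α := K)]
    have : (Finset.univ : Finset H).image c ⊆ (Finset.univ : Finset K).map
        ⟨Subtype.val, Subtype.val_injective⟩ := by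
      intro y hy
      obtain ⟨h, -, rfl⟩ := Finset.mem_image.mp hy
      rw [Finset.mem_map]
      exact ⟨⟨c h, hcK h⟩, Finset.mem_univ _, rfl⟩
    have := Finset.card_le_card this
    rwa [Finset.card_map] at this
  rw [Finset.card_univ, ← Nat.card_eq_fintype_card] at h1
  have h3 : Nat.card H ≤ 2 * Nat.card K := h1.trans (Nat.mul_le_mul_left 2 h2)
  have h4 := K.card_mul_index
  have hK0 : 0 < Nat.card K := Nat.card_pos
  have hidx1 : K.index ≠ 1 := by
    intro h
    rw [Subgroup.index_eq_one] at h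
    have : (⟨h₀, Subgroup.mem_inf.mpr ⟨mem_stabilizer_iff.mpr h₀a,
        mem_stabilizer_iff.mpr h₀b⟩⟩ : H) ∈ K := by rw [h]; trivial
    rw [hKmem] at this
    exact hφ this
  have hidx0 : K.index ≠ 0 := Subgroup.index_ne_zero_of_finite
  have hle : K.index ≤ 2 := by
    by_contra hcon
    push Not at hcon
    have : Nat.card K * 3 ≤ Nat.card K * K.index := Nat.mul_le_mul_left _ hcon
    omega
  omega

/-- a sharply 3-transitive group of even degree is not simple -/
theorem not_simple (T : TData G Ω a b F t z q) [IsSimpleGroup G] : False := by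
  haveI : Fintype G := Fintype.ofFinite G
  obtain ⟨φ, h₀, h₀a, h₀b, hφ⟩ := T.exists_linear_char
  haveI : φ.ker.Normal := MonoidHom.normal_ker φ
  rcases (MonoidHom.normal_ker φ).eq_bot_or_eq_top with h | h
  · obtain ⟨u, hu, hu1⟩ := T.exists_ne_one
    have hinj : Function.Injective φ := (MonoidHom.ker_eq_bot_iff φ).mp h
    have h1 := T.inverts T.hza T.hzb T.hz1 T.hzz hu
    have h2 : φ (z * u * z⁻¹) = φ u := by
      rw [map_mul, map_mul, map_inv, mul_comm (φ z), mul_assoc, mul_inv_cancel, mul_one]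
    have h3 : z * u * z⁻¹ = u := hinj h2
    have h4 : z * u = u * z := by
      calc z * u = (z * u * z⁻¹) * z := by group
        _ = u * z := by rw [h3]
    exact T.hz1 (T.semi T.hza T.hzb hu hu1 h4)
  · apply hφ
    have : h₀ ∈ φ.ker := by rw [h]; trivial
    exact MonoidHom.mem_ker.mp this

end TData

end Cfsg.Agent.Lib.Helper2.S3T
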