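import Mathlib
import Cfsg.Agent.Lib.Helper2.S3T8

set_option autoImplicit false
set_option linter.style.haveILetI false
set_option linter.unusedSectionVars false

/-!
# Normal subgroups containing the kernel: double transitivity, no regular normal subgroups
-/

namespace Cfsg.Agent.Lib.Helper2.S3T

open MulAction

universe u

variable {G : Type u} {Ω : Type*} [Group G] [MulAction G Ω] [Fintype Ω]
  {a b : Ω} {F : Subgroup G} {t z : G} {q : ℕ} [Finite G]

namespace TData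

/-- a normal subgroup containing the kernel: the stabilizer of a point is transitive on the other
points -/
theorem normal_stab_trans (T : TData G Ω a b F t z q) (Γ : Subgroup G) [Γ.Normal] (hFΓ : F ≤ Γ)
    {x c d : Ω} (hc : c ≠ x) (hd : d ≠ x) : ∃ γ ∈ Γ, γ • x = x ∧ γ • c = d := by
  obtain ⟨g, hg⟩ := T.exists_map_point a x
  have hc' : g⁻¹ • c ≠ a := by
    intro h
    apply hc
    rw [← hg, ← h, smul_inv_smul]
  have hd' : g⁻¹ • d ≠ a := by
    intro h
    apply hd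
    rw [← hg, ← h, smul_inv_smul]
  obtain ⟨u, hu, huc⟩ := T.F_trans hc' hd'
  refine ⟨g * u * g⁻¹, ‹Γ.Normal›.conj_mem u (hFΓ hu) g, ?_, ?_⟩
  · rw [mul_smul, mul_smul, inv_smul_eq_iff.mpr hg.symm, T.mem_a hu, hg]
  · rw [mul_smul, mul_smul, huc, smul_inv_smul]

/-- a normal subgroup containing the kernel is doubly transitive -/
theorem normal_two_trans (T : TData G Ω a b F t z q) (Γ : Subgroup G) [Γ.Normal] (hFΓ : F ≤ Γ)
    {x y x' y' : Ω} (hxy : x ≠ y) (hxy' : x' ≠ y') : ∃ γ ∈ Γ, γ • x = x' ∧ γ • y = y' := by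
  have h1 : ∃ γ₁ ∈ Γ, γ₁ • x = x' := by
    by_cases hxx : x = x'
    · exact ⟨1, Γ.one_mem, by rw [one_smul, hxx]⟩
    · obtain ⟨w, hxw, hxw'⟩ := T.exists_other x x'
      obtain ⟨γ, hγ, -, h2⟩ := T.normal_stab_trans Γ hFΓ hxw hxw'
      exact ⟨γ, hγ, h2⟩
  obtain ⟨γ₁, hγ₁, hγ₁x⟩ := h1
  have hy1 : γ₁ • y ≠ x' := by
    rw [← hγ₁x]
    exact fun h => hxy (MulAction.injective γ₁ h).symm
  obtain ⟨γ₂, hγ₂, hγ₂x, hγ₂y⟩ := T.normal_stab_trans Γ hFΓ hy1 (Ne.symm hxy')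
  exact ⟨γ₂ * γ₁, Γ.mul_mem hγ₂ hγ₁, by rw [mul_smul, hγ₁x, hγ₂x], by rw [mul_smul, hγ₂y]⟩

theorem faithful (T : TData G Ω a b F t z q) {g : G} (hg : ∀ x : Ω, g • x = x) : g = 1 := by
  obtain ⟨c, hca, hcb⟩ := T.exists_third
  exact T.three g a b c T.hab (Ne.symm hca) (Ne.symm hcb) (hg a) (hg b) (hg c)

end TData

/-- a regular subgroup normalized by a subgroup `Γ` containing it and the kernel -/
structure RegSub (Γ : Subgroup G) (Ω : Type*) [MulAction G Ω] (R : Subgroup G) : Prop where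
  le : R ≤ Γ
  norm : ∀ γ ∈ Γ, ∀ r ∈ R, γ * r * γ⁻¹ ∈ R
  trans : ∀ x y : Ω, ∃ r ∈ R, r • x = y
  free : ∀ r ∈ R, ∀ x : Ω, r • x = x → r = 1

namespace RegSub

variable {Γ R : Subgroup G}

omit [Fintype Ω] [Finite G] in
theorem eq_of_smul (hR : RegSub Γ Ω R) {r r' : G} (hr : r ∈ R) (hr' : r' ∈ R) {x : Ω}
    (h : r • x = r' • x) : r = r' := by
  have h1 : (r'⁻¹ * r) • x = x := by rw [mul_smul, h, inv_smul_smul]
  have h2 := hR.free _ (R.mul_mem (R.inv_mem hr') hr) x h1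
  have : r = r' * (r'⁻¹ * r) := by group
  rw [this, h2, mul_one]

/-- the non-identity elements are conjugate under the kernel -/
theorem conj (T : TData G Ω a b F t z q) (hFΓ : F ≤ Γ) (hR : RegSub Γ Ω R) {r r' : G}
    (hr : r ∈ R) (hr' : r' ∈ R) (hr1 : r ≠ 1) (hr1' : r' ≠ 1) : ∃ u ∈ F, u * r * u⁻¹ = r' := by
  have h1 : r • a ≠ a := fun h => hr1 (hR.free r hr a h)
  have h2 : r' • a ≠ a := fun h => hr1' (hR.free r' hr' a h)
  obtain ⟨u, hu, hu'⟩ := T.F_trans h1 h2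
  refine ⟨u, hu, ?_⟩
  apply hR.eq_of_smul (hR.norm u (hFΓ hu) r hr) hr' (x := a)
  rw [mul_smul, mul_smul, inv_smul_eq_iff.mpr (T.mem_a hu).symm, hu']

theorem card_eq (hR : RegSub Γ Ω R) (x₀ : Ω) : Nat.card R = Fintype.card Ω := by
  rw [← Nat.card_eq_fintype_card]
  apply Nat.card_congr
  refine Equiv.ofBijective (fun r : R => (r : G) • x₀) ⟨?_, ?_⟩
  · intro r r' h
    exact Subtype.ext (hR.eq_of_smul r.2 r'.2 h)
  · intro y
    obtain ⟨r, hr, hry⟩ := hR.trans x₀ y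
    exact ⟨⟨r, hr⟩, hry⟩

/-- the elements are involutions -/
theorem sq (T : TData G Ω a b F t z q) (hFΓ : F ≤ Γ) (hR : RegSub Γ Ω R) (hqodd : Odd q)
    {r : G} (hr : r ∈ R) : r * r = 1 := by
  haveI : Fact (Nat.Prime 2) := ⟨Nat.prime_two⟩
  have hcard : 2 ∣ Nat.card R := by
    rw [hR.card_eq a, T.hcard]
    obtain ⟨k, hk⟩ := hqodd
    omega
  obtain ⟨r₀, hr₀⟩ := exists_prime_orderOf_dvd_card' (G := R) 2 hcard
  have hr₀1 : (r₀ : G) ≠ 1 := by
    intro h
    have : r₀ = 1 := Subtype.ext h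
    rw [this, orderOf_one] at hr₀
    omega
  have hr₀sq : (r₀ : G) * (r₀ : G) = 1 := by
    have := pow_orderOf_eq_one r₀
    rw [hr₀, _root_.sq] at this
    exact congrArg Subtype.val this
  by_cases hr1 : r = 1
  · rw [hr1, one_mul]
  · obtain ⟨u, -, hu⟩ := hR.conj T hFΓ r₀.2 hr hr₀1 hr1
    rw [← hu]
    calc u * (r₀ : G) * u⁻¹ * (u * (r₀ : G) * u⁻¹) = u * ((r₀ : G) * (r₀ : G)) * u⁻¹ := by group
      _ = 1 := by rw [hr₀sq]; group

theorem comm (T : TData G Ω a b F t z q) (hFΓ : F ≤ Γ) (hR : RegSub Γ Ω R) (hqodd : Odd q)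
    {r r' : G} (hr : r ∈ R) (hr' : r' ∈ R) : r * r' = r' * r := by
  have h1 := hR.sq T hFΓ hqodd hr
  have h2 := hR.sq T hFΓ hqodd hr'
  have h3 := hR.sq T hFΓ hqodd (R.mul_mem hr hr')
  have hi : r⁻¹ = r := inv_eq_of_mul_eq_one_right h1
  have hi' : r'⁻¹ = r' := inv_eq_of_mul_eq_one_right h2
  have hi3 : (r * r')⁻¹ = r * r' := inv_eq_of_mul_eq_one_right h3
  calc r * r' = (r * r')⁻¹ := hi3.symm
    _ = r'⁻¹ * r⁻¹ := mul_inv_rev _ _
    _ = r' * r := by rw [hi, hi']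

end RegSub

theorem TData.q_odd (T : TData G Ω a b F t z q) : Odd q := by
  have h1 := T.card_H
  have hz : z ∈ (stabilizer G a ⊓ stabilizer G b : Subgroup G) :=
    Subgroup.mem_inf.mpr ⟨mem_stabilizer_iff.mpr T.hza, mem_stabilizer_iff.mpr T.hzb⟩
  have h2 : orderOf (⟨z, hz⟩ : ↥(stabilizer G a ⊓ stabilizer G b : Subgroup G)) = 2 := by
    apply orderOf_eq_prime
    · apply Subtype.ext
      rw [_root_.sq]
      exact T.hzz
    · intro h
      exact T.hz1 (congrArg Subtype.val h)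
  have h3 := orderOf_dvd_natCard (⟨z, hz⟩ : ↥(stabilizer G a ⊓ stabilizer G b : Subgroup G))
  rw [h2, h1] at h3
  have := T.hq
  rw [Nat.odd_iff]
  omega

namespace RegSub

variable {Γ R R₁ R₂ : Subgroup G}

/-- a regular normal subgroup is unique -/
theorem unique (T : TData G Ω a b F t z q) (hFΓ : F ≤ Γ) (hR₁ : RegSub Γ Ω R₁)
    (hR₂ : RegSub Γ Ω R₂) : R₁ = R₂ := by
  have hqodd := T.q_odd
  by_cases hK : ∃ k ∈ R₁, k ∈ R₂ ∧ k ≠ 1
  · obtain ⟨k, hk1, hk2, hk⟩ := hK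
    apply le_antisymm
    · intro r hr
      by_cases hr1 : r = 1
      · rw [hr1]; exact R₂.one_mem
      · obtain ⟨u, hu, hur⟩ := hR₁.conj T hFΓ hk1 hr hk hr1
        rw [← hur]
        exact hR₂.norm u (hFΓ hu) k hk2
    · intro r hr
      by_cases hr1 : r = 1
      · rw [hr1]; exact R₁.one_mem
      · obtain ⟨u, hu, hur⟩ := hR₂.conj T hFΓ hk2 hr hk hr1
        rw [← hur]
        exact hR₁.norm u (hFΓ hu) k hk1
  · exfalso
    push Not at hK
    obtain ⟨r₂, hr₂, hr₂b⟩ := hR₂.trans a b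
    obtain ⟨r₁, hr₁, hr₁b⟩ := hR₁.trans a b
    have hcomm : ∀ r ∈ R₁, r * r₂ = r₂ * r := by
      intro r hr
      have h1 : r * r₂ * r⁻¹ * r₂⁻¹ ∈ R₁ := by
        have := hR₁.norm r₂ (hR₂.le hr₂) r⁻¹ (R₁.inv_mem hr)
        have h2 : r * r₂ * r⁻¹ * r₂⁻¹ = r * (r₂ * r⁻¹ * r₂⁻¹) := by group
        rw [h2]
        exact R₁.mul_mem hr this
      have h2 : r * r₂ * r⁻¹ * r₂⁻¹ ∈ R₂ :=
        R₂.mul_mem (hR₂.norm r (hR₁.le hr) r₂ hr₂) (R₂.inv_mem hr₂)
      have h3 := hK _ h1 h2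
      calc r * r₂ = (r * r₂ * r⁻¹ * r₂⁻¹) * r₂ * r := by group
        _ = r₂ * r := by rw [h3, one_mul]
    have hg : r₁⁻¹ * r₂ = 1 := by
      apply T.faithful
      intro x
      obtain ⟨r, hr, hrx⟩ := hR₁.trans a x
      rw [← hrx, ← mul_smul, mul_assoc, ← hcomm r hr, ← mul_assoc,
        hR₁.comm T hFΓ hqodd (R₁.inv_mem hr₁) hr, mul_assoc, mul_smul, mul_smul, hr₂b,
        inv_smul_eq_iff.mpr hr₁b.symm]
    have h12 : r₂ = r₁ := by
      have : r₂ = r₁ * (r₁⁻¹ * r₂) := by group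
      rw [this, hg, mul_one]
    have h4 := hK r₂ (h12 ▸ hr₁) hr₂
    rw [h4, one_smul] at hr₂b
    exact T.hab hr₂b

/-- there is no regular normal subgroup when there are more than four points -/
theorem absurd (T : TData G Ω a b F t z q) (hq4 : 4 ≤ q) [hΓn : Γ.Normal] (hFΓ : F ≤ Γ)
    (hR : RegSub Γ Ω R) : False := by
  classical
  haveI : Fintype R := Fintype.ofFinite _
  have hqodd := T.q_odd
  have hzi : z⁻¹ = z := T.z_inv
  -- the conjugate of `R` by `z`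
  have hR' : RegSub Γ Ω (R.map (MulAut.conj z).toMonoidHom) := by
    refine ⟨?_, ?_, ?_, ?_⟩
    · rintro _ ⟨r, hr, rfl⟩
      exact hΓn.conj_mem r (hR.le hr) z
    · rintro γ hγ _ ⟨r, hr, rfl⟩
      refine ⟨(z⁻¹ * γ * z) * r * (z⁻¹ * γ * z)⁻¹, ?_, ?_⟩
      · apply hR.norm _ _ r hr
        have := hΓn.conj_mem γ hγ z⁻¹
        rwa [inv_inv] at this
      · show z * ((z⁻¹ * γ * z) * r * (z⁻¹ * γ * z)⁻¹) * z⁻¹ = γ * (z * r * z⁻¹) * γ⁻¹
        group
    · intro x y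
      obtain ⟨r, hr, hrx⟩ := hR.trans (z⁻¹ • x) (z⁻¹ • y)
      refine ⟨z * r * z⁻¹, ⟨r, hr, rfl⟩, ?_⟩
      rw [mul_smul, mul_smul, hrx, smul_inv_smul]
    · rintro _ ⟨r, hr, rfl⟩ x hx
      have h1 : r • z⁻¹ • x = z⁻¹ • x := by
        have h2 : (z * r * z⁻¹) • x = x := hx
        rw [mul_smul, mul_smul] at h2
        rw [eq_inv_smul_iff, h2]
      have := hR.free r hr _ h1
      show z * r * z⁻¹ = 1
      rw [this]; group
  have heq := unique T hFΓ hR' hR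
  have hzR : ∀ r ∈ R, z * r * z⁻¹ ∈ R := by
    intro r hr
    rw [← heq]
    exact ⟨r, hr, rfl⟩
  obtain ⟨rb, hrb, hrbb⟩ := hR.trans a b
  -- the elements centralized by `z`
  have hC : ∀ r ∈ R, z * r * z⁻¹ = r → r = 1 ∨ r = rb := by
    intro r hr h
    have h1 : z • r • a = r • a := by
      have h2 : (z * r * z⁻¹) • a = r • a := by rw [h]
      rwa [mul_smul, mul_smul, inv_smul_eq_iff.mpr T.hza.symm] at h2
    rcases T.fix_z h1 with h2 | h2
    · left; exact hR.free r hr a h2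
    · right; exact hR.eq_of_smul hr hrb (h2.trans hrbb.symm)
  let c : R → R := fun r => ⟨z * (r : G) * z⁻¹ * (r : G)⁻¹, R.mul_mem (hzR r r.2) (R.inv_mem r.2)⟩
  have hcC : ∀ r : R, z * ((c r : R) : G) * z⁻¹ = ((c r : R) : G) := by
    intro r
    have h1 := hR.sq T hFΓ hqodd r.2
    have hri : (r : G)⁻¹ = r := inv_eq_of_mul_eq_one_right h1
    have h2 := hR.comm T hFΓ hqodd r.2 (hzR r r.2)
    show z * (z * (r : G) * z⁻¹ * (r : G)⁻¹) * z⁻¹ = z * (r : G) * z⁻¹ * (r : G)⁻¹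
    rw [hri, hzi]
    calc z * (z * (r : G) * z * (r : G)) * z = (z * z) * (r : G) * (z * (r : G) * z) := by group
      _ = (r : G) * (z * (r : G) * z) := by rw [T.hzz, one_mul]
      _ = z * (r : G) * z * (r : G) := by
          rw [hzi] at h2
          rw [h2]
  have himg : (Finset.univ : Finset R).image c ⊆ {1, ⟨rb, hrb⟩} := by
    intro y hy
    obtain ⟨r, -, rfl⟩ := Finset.mem_image.mp hy
    rw [Finset.mem_insert, Finset.mem_singleton]
    rcases hC _ (c r).2 (hcC r) with h | h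
    · left; exact Subtype.ext h
    · right; exact Subtype.ext h
  have hfib : ∀ y ∈ (Finset.univ : Finset R).image c,
      ((Finset.univ : Finset R).filter fun x => c x = y).card ≤ 2 := by
    intro y hy
    obtain ⟨r', -, rfl⟩ := Finset.mem_image.mp hy
    have hsub : ((Finset.univ : Finset R).filter fun x => c x = c r')
        ⊆ {r', r' * ⟨rb, hrb⟩} := by
      intro r hr
      rw [Finset.mem_filter] at hr
      have h1 : z * (r : G) * z⁻¹ * (r : G)⁻¹ = z * (r' : G) * z⁻¹ * (r' : G)⁻¹ :=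
        congrArg (fun x : R => (x : G)) hr.2
      have h2 : z * ((r' : G)⁻¹ * (r : G)) * z⁻¹ = (r' : G)⁻¹ * (r : G) := by
        calc z * ((r' : G)⁻¹ * (r : G)) * z⁻¹
            = (z * (r' : G) * z⁻¹)⁻¹ * ((z * (r : G) * z⁻¹ * (r : G)⁻¹) * (r : G)) := by group
          _ = (z * (r' : G) * z⁻¹)⁻¹ * ((z * (r' : G) * z⁻¹ * (r' : G)⁻¹) * (r : G)) := by rw [h1]
          _ = (r' : G)⁻¹ * (r : G) := by group
      rw [Finset.mem_insert, Finset.mem_singleton]
      rcases hC _ (R.mul_mem (R.inv_mem r'.2) r.2) h2 with h | h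
      · left
        apply Subtype.ext
        have : (r : G) = (r' : G) * ((r' : G)⁻¹ * (r : G)) := by group
        rw [this, h, mul_one]
      · right
        apply Subtype.ext
        have : (r : G) = (r' : G) * ((r' : G)⁻¹ * (r : G)) := by group
        rw [this, h]
        rfl
    exact (Finset.card_le_card hsub).trans Finset.card_le_two
  have h1 := Finset.card_le_mul_card_image (Finset.univ : Finset R) 2 hfib
  have h2 : ((Finset.univ : Finset R).image c).card ≤ 2 :=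
    (Finset.card_le_card himg).trans Finset.card_le_two
  rw [Finset.card_univ, ← Nat.card_eq_fintype_card, hR.card_eq a, T.hcard] at h1
  have : 2 * ((Finset.univ : Finset R).image c).card ≤ 2 * 2 := Nat.mul_le_mul_left 2 h2
  omega

end RegSub

end Cfsg.Agent.Lib.Helper2.S3T
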