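import Mathlib
import Cfsg.Agent.Lib.Helper2.S3T16
import Cfsg.Agent.Lib.Helper2.S3T18
import Cfsg.Agent.Lib.Helper2.ZP14

set_option autoImplicit false
set_option linter.style.haveILetI false
set_option linter.unusedSectionVars false

/-!
# The kernel of the linear character is a Zassenhaus group
-/

namespace Cfsg.Agent.Lib.Helper2.S3T

open MulAction Cfsg.Agent.Lib.Helper2.ZP

universe u

variable {G : Type u} {Ω : Type*} [Group G] [MulAction G Ω] [Fintype Ω]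
  {a b : Ω} {F : Subgroup G} {t z : G} {q : ℕ} [Finite G]

namespace TData

/-- the kernel `F` lies in the kernel of every linear character -/
theorem F_le_ker (T : TData G Ω a b F t z q) (φ : G →* ℂˣ) : F ≤ φ.ker := by
  intro u hu
  rw [MonoidHom.mem_ker]
  have h1 := T.inverts T.hza T.hzb T.hz1 T.hzz hu
  have h2 : φ (z * u * z⁻¹) = φ u := by
    rw [map_mul, map_mul, map_inv, mul_comm (φ z), mul_assoc, mul_inv_cancel, mul_one]
  rw [h1, map_inv] at h2
  have h3 : φ u ^ 2 = 1 := by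
    rw [sq]
    calc φ u * φ u = (φ u)⁻¹ * φ u := by rw [h2]
      _ = 1 := inv_mul_cancel _
  have h4 : orderOf (φ u) ∣ 2 := orderOf_dvd_of_pow_eq_one h3
  have h5 : orderOf (φ u) ∣ q := by
    rw [← T.hFcard]
    exact (orderOf_map_dvd φ u).trans (Subgroup.orderOf_dvd_natCard F hu)
  have h6 : Nat.Coprime 2 q := by
    rw [Nat.coprime_two_left]
    exact T.q_odd
  have h7 : orderOf (φ u) = 1 := Nat.eq_one_of_dvd_coprimes h6 h4 h5
  exact orderOf_eq_one_iff.mp h7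

variable (φ : G →* ℂˣ)

omit [Fintype Ω] [Finite G] in
theorem ker_smul_def (γ : φ.ker) (x : Ω) : γ • x = (γ : G) • x := rfl

/-- the two-point stabilizer in the kernel of the character -/
def kerStabEquiv (a b : Ω) :
    ↥(stabilizer φ.ker a ⊓ stabilizer φ.ker b : Subgroup φ.ker) ≃
      ↥(φ.ker ⊓ (stabilizer G a ⊓ stabilizer G b) : Subgroup G) where
  toFun γ := ⟨((γ : φ.ker) : G), Subgroup.mem_inf.mpr ⟨(γ : φ.ker).2, Subgroup.mem_inf.mpr
    ⟨mem_stabilizer_iff.mpr (mem_stabilizer_iff.mp (Subgroup.mem_inf.mp γ.2).1),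
      mem_stabilizer_iff.mpr (mem_stabilizer_iff.mp (Subgroup.mem_inf.mp γ.2).2)⟩⟩⟩
  invFun g := ⟨⟨(g : G), (Subgroup.mem_inf.mp g.2).1⟩, Subgroup.mem_inf.mpr
    ⟨mem_stabilizer_iff.mpr (mem_stabilizer_iff.mp (Subgroup.mem_inf.mp (Subgroup.mem_inf.mp g.2).2).1),
      mem_stabilizer_iff.mpr (mem_stabilizer_iff.mp (Subgroup.mem_inf.mp (Subgroup.mem_inf.mp g.2).2).2)⟩⟩
  left_inv _ := rfl
  right_inv _ := rfl

theorem card_kerStab (T : TData G Ω a b F t z q) {h₀ : G} (h₀a : h₀ • a = a)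
    (h₀b : h₀ • b = b) (hφ : φ h₀ ≠ 1) :
    2 * Nat.card ↥(stabilizer φ.ker a ⊓ stabilizer φ.ker b : Subgroup φ.ker) + 1 = q := by
  have h1 := T.relIndex_ker φ h₀a h₀b hφ
  have h2 := ((φ.ker ⊓ (stabilizer G a ⊓ stabilizer G b)).subgroupOf
    (stabilizer G a ⊓ stabilizer G b)).card_mul_index
  have h3 : ((φ.ker ⊓ (stabilizer G a ⊓ stabilizer G b)).subgroupOf
      (stabilizer G a ⊓ stabilizer G b)).index = 2 := h1
  rw [h3, Nat.card_congr (Subgroup.subgroupOfEquivOfLe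
    (inf_le_right : φ.ker ⊓ (stabilizer G a ⊓ stabilizer G b) ≤ _)).toEquiv, T.card_H,
    ← Nat.card_congr (kerStabEquiv φ a b)] at h2
  have := T.hq
  omega

/-- the kernel of the character is a Zassenhaus group -/
theorem zassenhaus_ker (T : TData G Ω a b F t z q) (hq5 : 5 ≤ q) {h₀ : G} (h₀a : h₀ • a = a)
    (h₀b : h₀ • b = b) (hφ : φ h₀ ≠ 1) : Cfsg.IsZassenhausGroup φ.ker Ω := by
  have hFΓ := T.F_le_ker φ
  haveI : φ.ker.Normal := MonoidHom.normal_ker φ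
  refine ⟨⟨?_⟩, ?_, ?_, ?_, ?_⟩
  · intro γ₁ γ₂ h
    have h1 : ((γ₂⁻¹ * γ₁ : φ.ker) : G) = 1 := by
      apply T.faithful
      intro x
      rw [Subgroup.coe_mul, Subgroup.coe_inv, mul_smul, inv_smul_eq_iff]
      exact h x
    have h2 : γ₂⁻¹ * γ₁ = 1 := Subtype.ext h1
    calc γ₁ = γ₂ * (γ₂⁻¹ * γ₁) := by group
      _ = γ₂ := by rw [h2, mul_one]
  · rw [is_two_pretransitive_iff]
    intro x y x' y' hxy hxy'
    obtain ⟨γ, hγ, h1, h2⟩ := T.normal_two_trans φ.ker hFΓ hxy hxy'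
    exact ⟨⟨γ, hγ⟩, h1, h2⟩
  · intro γ x y w hxy hyw hxw hx hy hw
    apply Subtype.ext
    exact T.three (γ : G) x y w hxy hxw hyw hx hy hw
  · have hc := T.card_kerStab φ h₀a h₀b hφ
    have h1 : 1 < Nat.card ↥(stabilizer φ.ker a ⊓ stabilizer φ.ker b : Subgroup φ.ker) := by
      omega
    haveI : Nontrivial ↥(stabilizer φ.ker a ⊓ stabilizer φ.ker b : Subgroup φ.ker) :=
      Finite.one_lt_card_iff_nontrivial.mp h1
    obtain ⟨γ, hγ⟩ := exists_ne (1 : ↥(stabilizer φ.ker a ⊓ stabilizer φ.ker b : Subgroup φ.ker))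
    refine ⟨(γ : φ.ker), fun h => hγ (Subtype.ext h), a, b, T.hab,
      mem_stabilizer_iff.mp (Subgroup.mem_inf.mp γ.2).1,
      mem_stabilizer_iff.mp (Subgroup.mem_inf.mp γ.2).2⟩
  · intro R hRn hRt
    by_contra hcon
    push Not at hcon
    have hreg : RegSub φ.ker Ω (R.map φ.ker.subtype) := by
      refine ⟨?_, ?_, ?_, ?_⟩
      · rintro _ ⟨r, -, rfl⟩
        exact r.2
      · rintro γ hγ _ ⟨r, hr, rfl⟩
        exact ⟨⟨γ, hγ⟩ * r * ⟨γ, hγ⟩⁻¹, hRn.conj_mem r hr ⟨γ, hγ⟩, rfl⟩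
      · intro x y
        obtain ⟨r, hr⟩ := hRt.exists_smul_eq x y
        exact ⟨((r : φ.ker) : G), ⟨(r : φ.ker), r.2, rfl⟩, hr⟩
      · rintro _ ⟨r, hr, rfl⟩ x hx
        have h1 : (⟨r, hr⟩ : R) ∈ stabilizer R x := by
          rw [mem_stabilizer_iff]
          exact hx
        rw [hcon x, Subgroup.mem_bot] at h1
        have h2 : r = 1 := congrArg Subtype.val h1
        rw [h2]
        rfl
    exact hreg.absurd T (by omega) hFΓ

end TData

end Cfsg.Agent.Lib.Helper2.S3T
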