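import Mathlib

set_option autoImplicit false
set_option linter.style.haveILetI false
set_option linter.unusedSectionVars false

/-!
# An involutory automorphism of a finite field of order `p ^ f`, `f` odd, is trivial
-/

namespace Cfsg.Agent.Lib.Helper2.S3T

variable {K : Type*} [Field K] [Fintype K]

theorem involution_trivial (τ : K → K) (hadd : ∀ x y, τ (x + y) = τ x + τ y)
    (hmul : ∀ x y, τ (x * y) = τ x * τ y) (h1 : τ 1 = 1) (hinv : ∀ x, τ (τ x) = x)
    (h2 : (2 : K) ≠ 0) {p f : ℕ} (hp : p.Prime) (hf : Odd f) (hcard : Fintype.card K = p ^ f) :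
    ∀ x, τ x = x := by
  classical
  by_contra hcon
  push Not at hcon
  obtain ⟨e, he⟩ := hcon
  have h0 : τ 0 = 0 := by
    have := hadd 0 0
    rw [add_zero] at this
    exact left_eq_add.mp this
  have hneg : ∀ x, τ (-x) = -τ x := by
    intro x
    have := hadd x (-x)
    rw [add_neg_cancel, h0] at this
    exact eq_neg_of_add_eq_zero_right this.symm
  have hsub : ∀ x y, τ (x - y) = τ x - τ y := by
    intro x y
    rw [sub_eq_add_neg, hadd, hneg, ← sub_eq_add_neg]
  set e₁ := e - τ e with he₁
  have he₁0 : e₁ ≠ 0 := sub_ne_zero.mpr (Ne.symm he)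
  have hτe₁ : τ e₁ = -e₁ := by
    rw [he₁, hsub, hinv]; ring
  have hτ2 : τ 2 = 2 := by
    have : (2 : K) = 1 + 1 := by norm_num
    rw [this, hadd, h1]
  have hτinv : ∀ x, x ≠ 0 → τ x⁻¹ = (τ x)⁻¹ := by
    intro x hx
    have := hmul x x⁻¹
    rw [mul_inv_cancel₀ hx, h1] at this
    exact eq_inv_of_mul_eq_one_right this.symm
  -- the decomposition
  let A := {x : K // τ x = x}
  let B := {x : K // τ x = -x}
  let eAB : A ≃ B :=
    { toFun := fun x => ⟨e₁ * x.1, by rw [hmul, hτe₁, x.2]; ring⟩
      invFun := fun y => ⟨e₁⁻¹ * y.1, by rw [hmul, hτinv e₁ he₁0, hτe₁, y.2, inv_neg]; ring⟩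
      left_inv := fun x => Subtype.ext (by
        show e₁⁻¹ * (e₁ * x.1) = x.1
        rw [← mul_assoc, inv_mul_cancel₀ he₁0, one_mul])
      right_inv := fun y => Subtype.ext (by
        show e₁ * (e₁⁻¹ * y.1) = y.1
        rw [← mul_assoc, mul_inv_cancel₀ he₁0, one_mul]) }
  let eK : K ≃ A × B :=
    { toFun := fun x => (⟨(x + τ x) * 2⁻¹, by
          rw [hmul, hadd, hinv, hτinv 2 h2, hτ2]; ring⟩,
        ⟨(x - τ x) * 2⁻¹, by
          rw [hmul, hsub, hinv, hτinv 2 h2, hτ2]; ring⟩)
      invFun := fun p => p.1.1 + p.2.1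
      left_inv := fun x => by
        show (x + τ x) * 2⁻¹ + (x - τ x) * 2⁻¹ = x
        field_simp
        ring
      right_inv := fun p => by
        obtain ⟨⟨x, hx⟩, ⟨y, hy⟩⟩ := p
        apply Prod.ext
        · apply Subtype.ext
          show (x + y + τ (x + y)) * 2⁻¹ = x
          rw [hadd, hx, hy]
          field_simp
          ring
        · apply Subtype.ext
          show (x + y - τ (x + y)) * 2⁻¹ = y
          rw [hadd, hx, hy]
          field_simp
          ring }
  have hc : Fintype.card K = Fintype.card A * Fintype.card A := by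
    rw [Fintype.card_congr eK, Fintype.card_prod, ← Fintype.card_congr eAB]
  rw [hcard] at hc
  have hfac : (p ^ f).factorization p = (Fintype.card A * Fintype.card A).factorization p := by
    rw [hc]
  haveI : Nonempty A := ⟨⟨0, h0⟩⟩
  have hA0 : Fintype.card A ≠ 0 := Fintype.card_ne_zero
  rw [Nat.factorization_mul hA0 hA0, hp.factorization_pow] at hfac
  simp only [Finsupp.single_eq_same, Finsupp.add_apply] at hfac
  obtain ⟨k, hk⟩ := hf
  omega

end Cfsg.Agent.Lib.Helper2.S3T
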