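import Mathlib
import Cfsg.Agent.Lib.Helper2.S3T19
import Cfsg.Agent.Lib.Helper2.S3T20

set_option autoImplicit false
set_option linter.style.haveILetI false
set_option linter.unusedSectionVars false

/-!
# The two-point stabilizer acts linearly on the coordinates
-/

namespace Cfsg.Agent.Lib.Helper2.S3T

open MulAction Cfsg.Agent.Lib.Helper2.ZP

universe u

variable {G : Type u} {Ω : Type*} [Group G] [MulAction G Ω] [Fintype Ω]
  {a b : Ω} {F : Subgroup G} {t z : G} {q : ℕ} [Finite G]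

namespace TData

variable (φ : G →* ℂˣ)

/-- the data of the kernel of the character -/
theorem pdata_ker (T : TData G Ω a b F t z q) (hq5 : 5 ≤ q) {h₀ : G} (h₀a : h₀ • a = a)
    (h₀b : h₀ • b = b) (hφ : φ h₀ ≠ 1) : PData φ.ker Ω a b (F.subgroupOf φ.ker) := by
  have hFΓ := T.F_le_ker φ
  have hcardF : Nat.card (F.subgroupOf φ.ker) = q := by
    rw [Nat.card_congr (Subgroup.subgroupOfEquivOfLe hFΓ).toEquiv, T.hFcard]
  refine ⟨T.zassenhaus_ker φ hq5 h₀a h₀b hφ, T.hab, ?_, ?_, ?_, ?_, ?_⟩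
  · intro u hu
    rw [mem_stabilizer_iff]
    exact T.mem_a (Subgroup.mem_subgroupOf.mp hu)
  · rw [hcardF, T.hcard]
  · intro u hu hu1 c hc
    apply T.hFfix (u : G) (Subgroup.mem_subgroupOf.mp hu) _ c hc
    intro h
    exact hu1 (Subtype.ext h)
  · intro u hu v hv
    apply Subtype.ext
    exact T.hFcomm _ (Subgroup.mem_subgroupOf.mp hu) _ (Subgroup.mem_subgroupOf.mp hv)
  · rw [hcardF]
    exact T.card_kerStab φ h₀a h₀b hφ

/-- squares of elements of the two-point stabilizer lie in the kernel of the character -/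
theorem sq_mem_ker (T : TData G Ω a b F t z q) {h₀ : G} (h₀a : h₀ • a = a)
    (h₀b : h₀ • b = b) (hφ : φ h₀ ≠ 1) {h : G} (hha : h • a = a) (hhb : h • b = b) :
    h * h ∈ φ.ker := by
  have h1 := T.relIndex_ker φ h₀a h₀b hφ
  have hH : h ∈ (stabilizer G a ⊓ stabilizer G b : Subgroup G) :=
    Subgroup.mem_inf.mpr ⟨mem_stabilizer_iff.mpr hha, mem_stabilizer_iff.mpr hhb⟩
  have h2 := Subgroup.mul_self_mem_of_index_two (H := (φ.ker ⊓ (stabilizer G a ⊓
    stabilizer G b)).subgroupOf (stabilizer G a ⊓ stabilizer G b)) h1 ⟨h, hH⟩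
  rw [Subgroup.mem_subgroupOf] at h2
  exact (Subgroup.mem_inf.mp h2).1

/-- the two-point stabilizer acts by multiplications on the coordinates -/
theorem H_act_linear (T : TData G Ω a b F t z q) {h₀ : G} (h₀a : h₀ • a = a)
    (h₀b : h₀ • b = b) (hφ : φ h₀ ≠ 1) {K : Type*} [Field K] [Fintype K] {ι : K → Ω}
    (C : Coord a b (F.subgroupOf φ.ker) ι) (h2 : (2 : K) ≠ 0) {p f : ℕ} (hp : p.Prime)
    (hf : Odd f) (hcard : Fintype.card K = p ^ f) {h : G} (hha : h • a = a) (hhb : h • b = b) :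
    ∃ c : K, c ≠ 0 ∧ ∀ x, h • ι x = ι (c * x) := by
  classical
  have hFΓ := T.F_le_ker φ
  haveI hΓn : φ.ker.Normal := MonoidHom.normal_ker φ
  have hhia : h⁻¹ • a = a := inv_smul_eq_iff.mpr hha.symm
  have hhib : h⁻¹ • b = b := inv_smul_eq_iff.mpr hhb.symm
  have hσ : ∀ x, ∃ y, h • ι x = ι y := by
    intro x
    rcases C.cover (h • ι x) with h1 | ⟨y, hy⟩
    · exfalso
      rw [← hha] at h1
      exact C.ne_a x (MulAction.injective h h1)
    · exact ⟨y, hy⟩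
  choose σ hσ using hσ
  have hσinj : Function.Injective σ := by
    intro x y hxy
    have : h • ι x = h • ι y := by rw [hσ, hσ, hxy]
    exact C.inj (MulAction.injective h this)
  have hσ0 : σ 0 = 0 := by
    apply C.inj
    rw [← hσ, C.zero, hhb]
  -- additivity
  have hσadd : ∀ x y, σ (x + y) = σ x + σ y := by
    intro x y
    obtain ⟨u, hu, huy⟩ := C.act_F y
    have huF : (u : G) ∈ F := Subgroup.mem_subgroupOf.mp hu
    have hwF : h * (u : G) * h⁻¹ ∈ F := T.hFnorm h hha u huF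
    obtain ⟨y', hy'⟩ := C.F_act ⟨h * (u : G) * h⁻¹, hFΓ hwF⟩ (Subgroup.mem_subgroupOf.mpr hwF)
    have huy' : ∀ x, (u : G) • ι x = ι (x + y) := huy
    have hy'' : ∀ x, (h * (u : G) * h⁻¹) • ι x = ι (x + y') := hy'
    have e1 : y' = σ y := by
      have h1 := hy'' 0
      rw [mul_smul, mul_smul, C.zero, hhib, ← C.zero, huy', hσ, zero_add, zero_add] at h1
      exact (C.inj h1).symm
    apply C.inj
    rw [← hσ, ← huy', ← e1, ← hy'', ← hσ, ← mul_smul, ← mul_smul]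
    congr 1
    group
  -- scaling by squares
  have hσsq : ∀ r : K, r ≠ 0 → ∃ s' : K, ∀ x, σ (r * r * x) = s' * σ x := by
    intro r hr
    obtain ⟨n, hna, hnb, hn⟩ := C.act_E r hr
    have hn' : ∀ x, (n : G) • ι x = ι (r * r * x) := hn
    have hna' : (n : G) • a = a := hna
    have hnb' : (n : G) • b = b := hnb
    have hmΓ : h * (n : G) * h⁻¹ ∈ φ.ker := hΓn.conj_mem n n.2 h
    have hma : (⟨h * (n : G) * h⁻¹, hmΓ⟩ : φ.ker) • a = a := by
      show (h * (n : G) * h⁻¹) • a = a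
      rw [mul_smul, mul_smul, hhia, hna', hha]
    have hmb : (⟨h * (n : G) * h⁻¹, hmΓ⟩ : φ.ker) • b = b := by
      show (h * (n : G) * h⁻¹) • b = b
      rw [mul_smul, mul_smul, hhib, hnb', hhb]
    obtain ⟨r', -, hr'⟩ := C.E_act ⟨h * (n : G) * h⁻¹, hmΓ⟩ hma hmb
    have hr'' : ∀ x, (h * (n : G) * h⁻¹) • ι x = ι (r' * r' * x) := hr'
    refine ⟨r' * r', fun x => ?_⟩
    apply C.inj
    rw [← hσ, ← hn', ← hr'', ← hσ, ← mul_smul, ← mul_smul]
    congr 1
    group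
  set c := σ 1 with hc
  have hc0 : c ≠ 0 := by
    intro h0
    have : σ 1 = σ 0 := by rw [← hc, h0, hσ0]
    exact one_ne_zero (hσinj this)
  set τ : K → K := fun x => c⁻¹ * σ x with hτ
  have hτadd : ∀ x y, τ (x + y) = τ x + τ y := by
    intro x y
    show c⁻¹ * σ (x + y) = c⁻¹ * σ x + c⁻¹ * σ y
    rw [hσadd, mul_add]
  have hτ1 : τ 1 = 1 := by
    show c⁻¹ * σ 1 = 1
    rw [← hc, inv_mul_cancel₀ hc0]
  have hτ0 : τ 0 = 0 := by
    show c⁻¹ * σ 0 = 0
    rw [hσ0, mul_zero]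
  have hτsq : ∀ r x : K, τ (r * r * x) = τ (r * r) * τ x := by
    intro r x
    by_cases hr : r = 0
    · rw [hr, zero_mul, zero_mul, hτ0, zero_mul]
    · obtain ⟨s', hs'⟩ := hσsq r hr
      have h1 := hs' 1
      rw [mul_one, ← hc] at h1
      show c⁻¹ * σ (r * r * x) = c⁻¹ * σ (r * r) * (c⁻¹ * σ x)
      rw [hs', h1]
      field_simp
  have hτneg : ∀ x, τ (-x) = -τ x := by
    intro x
    have := hτadd x (-x)
    rw [add_neg_cancel, hτ0] at this
    exact eq_neg_of_add_eq_zero_right this.symm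
  have hτsub : ∀ x y, τ (x - y) = τ x - τ y := by
    intro x y
    rw [sub_eq_add_neg, hτadd, hτneg, ← sub_eq_add_neg]
  have hτmul : ∀ y x, τ (y * x) = τ y * τ x := by
    intro y x
    have e : y = ((y + 1) * 2⁻¹) * ((y + 1) * 2⁻¹) - ((y - 1) * 2⁻¹) * ((y - 1) * 2⁻¹) := by
      field_simp
      ring
    have e2 : y * x = ((y + 1) * 2⁻¹) * ((y + 1) * 2⁻¹) * x
        - ((y - 1) * 2⁻¹) * ((y - 1) * 2⁻¹) * x := by
      rw [← sub_mul, ← e]
    rw [e2, hτsub, hτsq, hτsq, ← sub_mul, ← hτsub, ← e]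
  -- the square of `h`
  have hhh := T.sq_mem_ker φ h₀a h₀b hφ hha hhb
  have hhha : (⟨h * h, hhh⟩ : φ.ker) • a = a := by
    show (h * h) • a = a
    rw [mul_smul, hha, hha]
  have hhhb : (⟨h * h, hhh⟩ : φ.ker) • b = b := by
    show (h * h) • b = b
    rw [mul_smul, hhb, hhb]
  obtain ⟨r₂, -, hr₂⟩ := C.E_act ⟨h * h, hhh⟩ hhha hhhb
  have hr₂' : ∀ x, (h * h) • ι x = ι (r₂ * r₂ * x) := hr₂
  have hσσ : ∀ x, σ (σ x) = r₂ * r₂ * x := by
    intro x
    apply C.inj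
    rw [← hr₂', mul_smul, hσ, hσ]
  have hττ : ∀ x, τ (τ x) = x := by
    have key : ∀ x, τ (τ x) = τ c⁻¹ * c⁻¹ * (r₂ * r₂) * x := by
      intro x
      have : τ (τ x) = τ (c⁻¹ * σ x) := rfl
      rw [this, hτmul]
      show τ c⁻¹ * (c⁻¹ * σ (σ x)) = _
      rw [hσσ]
      ring
    have k1 := key 1
    rw [hτ1, hτ1, mul_one] at k1
    intro x
    rw [key, ← k1, one_mul]
  have htriv := involution_trivial τ hτadd hτmul hτ1 hττ h2 hp hf hcard
  refine ⟨c, hc0, fun x => ?_⟩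
  rw [hσ]
  congr 1
  have := htriv x
  have h3 : c⁻¹ * σ x = x := this
  calc σ x = c * (c⁻¹ * σ x) := by rw [← mul_assoc, mul_inv_cancel₀ hc0, one_mul]
    _ = c * x := by rw [h3]

end TData

end Cfsg.Agent.Lib.Helper2.S3T
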