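import Mathlib
import Cfsg.Agent.Lib.Helper2.S3T21
import Cfsg.Agent.Lib.Helper2.Sharp3c

set_option autoImplicit false
set_option linter.style.haveILetI false
set_option linter.unusedSectionVars false

/-!
# Sharply 3-transitive groups of degree `p ^ f + 1`, `f` odd, at least `6`
-/

namespace Cfsg.Agent.Lib.Helper2.S3T

open MulAction Cfsg.Agent.Lib.Helper2.ZP Cfsg.Agent.Lib.Helper2.Sharp3 Matrix
open scoped LinearAlgebra.Projectivization MatrixGroups

universe u

variable {G : Type u} {Ω : Type*} [Group G] [MulAction G Ω] [Fintype Ω]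
  {a b : Ω} {F : Subgroup G} {t z : G} {q : ℕ} [Finite G]

namespace TData

theorem pgl_of_odd_exp (T : TData G Ω a b F t z q) (h3 : IsMultiplyPretransitive G Ω 3)
    (hsharp : ∀ x : Fin 3 ↪ Ω, stabilizer G x = ⊥) (hq5 : 5 ≤ q) {p f : ℕ} (hp : p.Prime)
    (hf : Odd f) (hq : q = p ^ f) :
    ∃ (K : Type) (_ : Field K) (_ : Fintype K), Fintype.card K = p ^ f ∧
      Nonempty (G ≃* PGL(Fin 2, K)) := by
  classical
  haveI : Fintype G := Fintype.ofFinite G
  obtain ⟨φ, h₀, h₀a, h₀b, hφ⟩ := T.exists_linear_char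
  have hFΓ := T.F_le_ker φ
  have P := T.pdata_ker φ hq5 h₀a h₀b hφ
  obtain ⟨K, instK, instFK, ι, t', hcard, C, hinv, hta, htb, ht1⟩ := P.exists_normalized
  have hsw := P.swap_act hinv C hcard hta htb ht1
  have hcardK : Fintype.card K = p ^ f := by
    have := T.hcard
    omega
  have h2 : (2 : K) ≠ 0 := Ring.two_ne_zero (odd_char (P.card_odd hcard))
  have hlin : ∀ h : G, h • a = a → h • b = b → ∃ c : K, c ≠ 0 ∧ ∀ x, h • ι x = ι (c * x) :=
    fun h hha hhb => T.H_act_linear φ h₀a h₀b hφ C h2 hp hf hcardK hha hhb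
  -- the involution acts as negation
  have hzneg : ∀ x, z • ι x = ι (-x) := by
    obtain ⟨c, hc0, hc⟩ := hlin z T.hza T.hzb
    have h1 : c * c = 1 := by
      have := hc (c * 1)
      rw [← hc, ← mul_smul, T.hzz, one_smul] at this
      have h4 := C.inj this
      rw [mul_one] at h4
      exact h4.symm
    rcases mul_self_eq_one_iff.mp h1 with h | h
    · exfalso
      apply T.hz1
      apply T.faithful
      intro y
      rcases C.cover y with rfl | ⟨x, rfl⟩
      · exact T.hza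
      · rw [hc, h, one_mul]
    · intro x
      rw [hc, h, neg_one_mul]
  have hΓ' : ∀ g : G, g • a = a → ∃ c d : K, c ≠ 0 ∧ ∀ x, g • ι x = ι (c * x + d) := by
    intro g hg
    obtain ⟨u, hu, k, hka, hkb, rfl⟩ := T.decomp hg
    obtain ⟨c, hc0, hc⟩ := hlin k hka hkb
    obtain ⟨d, hd⟩ := C.F_act ⟨u, hFΓ hu⟩ (Subgroup.mem_subgroupOf.mpr hu)
    have hd' : ∀ x, u • ι x = ι (x + d) := hd
    exact ⟨c, d, hc0, fun x => by rw [mul_smul, hc, hd']⟩
  have htr : ∀ d : K, ∃ g : G, g • a = a ∧ g • ι d = ι 0 := by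
    intro d
    obtain ⟨u, hu, hud⟩ := C.act_F (-d)
    have hud' : ∀ x, (u : G) • ι x = ι (x + -d) := hud
    exact ⟨(u : G), T.mem_a (Subgroup.mem_subgroupOf.mp hu), by rw [hud', add_neg_cancel]⟩
  have hta' : (t' : G) • a = b := hta
  have htb' : (t' : G) • b = a := htb
  have hsw' : ∀ x : K, x ≠ 0 → (t' : G) • ι x = ι (-x⁻¹) := hsw
  obtain ⟨φ', hP⟩ := exists_projectivity a ι C.inj C.ne_a C.cover ((t' : G) * z) hΓ' htr
    (by rw [mul_smul, T.hza, hta', C.zero])
    (by rw [mul_smul, C.zero, T.hzb, htb'])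
    (by
      intro x hx
      rw [mul_smul, hzneg, hsw' (-x) (neg_ne_zero.mpr hx), inv_neg, neg_neg])
  have h01 : ι 0 ≠ ι 1 := fun h => zero_ne_one (C.inj h)
  exact ⟨K, instK, instFK, hcardK,
    pgl_iso h3 hsharp φ' (Ne.symm (C.ne_a 0)) (Ne.symm (C.ne_a 1)) h01 hP⟩

end TData

end Cfsg.Agent.Lib.Helper2.S3T
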