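import Mathlib
import Cfsg.Agent.Lib.Helper2.Sharp3c
import Cfsg.Agent.Lib.Helper1.PGL2

set_option autoImplicit false
set_option linter.style.haveILetI false
set_option linter.unusedSectionVars false

/-!
# Sharply 3-transitive groups of degree four
-/

namespace Cfsg.Agent.Lib.Helper2.S3T

open MulAction Cfsg.Agent.Lib.Helper2.Sharp3 Cfsg.Agent.Lib.Helper1 Matrix
open scoped LinearAlgebra.Projectivization MatrixGroups

/-- two injective self-maps of a set with four elements agreeing at three points are equal -/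
theorem eq_of_agree_three {S : Type*} [Fintype S] [DecidableEq S] (hS : Fintype.card S = 4)
    (f g : S → S) (hf : Function.Injective f) (hg : Function.Injective g) {p₀ p₁ p₂ : S}
    (h01 : p₀ ≠ p₁) (h02 : p₀ ≠ p₂) (h12 : p₁ ≠ p₂) (e0 : f p₀ = g p₀) (e1 : f p₁ = g p₁)
    (e2 : f p₂ = g p₂) (x : S) : f x = g x := by
  by_cases hx0 : x = p₀
  · rw [hx0, e0]
  by_cases hx1 : x = p₁
  · rw [hx1, e1]
  by_cases hx2 : x = p₂
  · rw [hx2, e2]
  have hcard3 : ({f p₀, f p₁, f p₂} : Finset S).card = 3 := by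
    rw [Finset.card_insert_of_notMem, Finset.card_insert_of_notMem, Finset.card_singleton]
    · rw [Finset.mem_singleton]
      exact fun h => h12 (hf h)
    · rw [Finset.mem_insert, Finset.mem_singleton]
      push Not
      exact ⟨fun h => h01 (hf h), fun h => h02 (hf h)⟩
  have hc : (Finset.univ \ ({f p₀, f p₁, f p₂} : Finset S)).card = 1 := by
    rw [Finset.card_sdiff_of_subset (Finset.subset_univ _), Finset.card_univ, hS, hcard3]
  obtain ⟨y, hy⟩ := Finset.card_eq_one.mp hc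
  have hfx : f x ∈ Finset.univ \ ({f p₀, f p₁, f p₂} : Finset S) := by
    rw [Finset.mem_sdiff, Finset.mem_insert, Finset.mem_insert, Finset.mem_singleton]
    refine ⟨Finset.mem_univ _, ?_⟩
    push Not
    exact ⟨fun h => hx0 (hf h), fun h => hx1 (hf h), fun h => hx2 (hf h)⟩
  have hgx : g x ∈ Finset.univ \ ({f p₀, f p₁, f p₂} : Finset S) := by
    rw [Finset.mem_sdiff, Finset.mem_insert, Finset.mem_insert, Finset.mem_singleton, e0, e1, e2]
    refine ⟨Finset.mem_univ _, ?_⟩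
    push Not
    exact ⟨fun h => hx0 (hg h), fun h => hx1 (hg h), fun h => hx2 (hg h)⟩
  rw [hy, Finset.mem_singleton] at hfx hgx
  rw [hfx, hgx]

variable {G : Type*} [Group G] {Ω : Type*} [Fintype Ω] [MulAction G Ω]

/-- a sharply 3-transitive group of degree four is `PGL₂(3)` -/
theorem pgl_of_card_four (h3 : IsMultiplyPretransitive G Ω 3)
    (hsharp : ∀ x : Fin 3 ↪ Ω, stabilizer G x = ⊥) (hcard : Fintype.card Ω = 4) :
    ∃ (K : Type) (_ : Field K) (_ : Fintype K), Fintype.card K = 3 ∧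
      Nonempty (G ≃* PGL(Fin 2, K)) := by
  classical
  haveI : Fact (Nat.Prime 3) := ⟨Nat.prime_three⟩
  letI : Fintype (ℙ (ZMod 3) (Fin 2 → ZMod 3)) := Fintype.ofFinite _
  have hP4 : Fintype.card (ℙ (ZMod 3) (Fin 2 → ZMod 3)) = 4 := by
    rw [← Fintype.card_congr (optEquivProj (K := ZMod 3)), Fintype.card_option, ZMod.card]
  let φ : Ω ≃ ℙ (ZMod 3) (Fin 2 → ZMod 3) := Fintype.equivOfCardEq (by rw [hcard, hP4])
  -- three distinct points
  have hex : ∃ p₀ p₁ p₂ : Ω, p₀ ≠ p₁ ∧ p₀ ≠ p₂ ∧ p₁ ≠ p₂ := by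
    have h2 : 2 < Fintype.card Ω := by omega
    obtain ⟨p₀, p₁, p₂, h⟩ := Fintype.two_lt_card_iff.mp h2
    exact ⟨p₀, p₁, p₂, h⟩
  obtain ⟨p₀, p₁, p₂, h01, h02, h12⟩ := hex
  refine ⟨ZMod 3, inferInstance, inferInstance, ZMod.card 3, ?_⟩
  apply pgl_iso h3 hsharp φ h01 h02 h12
  intro g
  have hφ01 : φ p₀ ≠ φ p₁ := fun h => h01 (φ.injective h)
  have hφ02 : φ p₀ ≠ φ p₂ := fun h => h02 (φ.injective h)
  have hφ12 : φ p₁ ≠ φ p₂ := fun h => h12 (φ.injective h)
  have hg01 : φ (g • p₀) ≠ φ (g • p₁) := fun h => h01 (MulAction.injective g (φ.injective h))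
  have hg02 : φ (g • p₀) ≠ φ (g • p₂) := fun h => h02 (MulAction.injective g (φ.injective h))
  have hg12 : φ (g • p₁) ≠ φ (g • p₂) := fun h => h12 (MulAction.injective g (φ.injective h))
  obtain ⟨A, hA⟩ := (pgl2_three_pretransitive (F := ZMod 3)).exists_smul_eq
    (emb3 (φ p₀) (φ p₁) (φ p₂) hφ01 hφ02 hφ12)
    (emb3 (φ (g • p₀)) (φ (g • p₁)) (φ (g • p₂)) hg01 hg02 hg12)
  have hA0 : A • φ p₀ = φ (g • p₀) := by
    have := congrArg (fun f : Fin 3 ↪ ℙ (ZMod 3) (Fin 2 → ZMod 3) => f 0) hA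
    exact this
  have hA1 : A • φ p₁ = φ (g • p₁) := by
    have := congrArg (fun f : Fin 3 ↪ ℙ (ZMod 3) (Fin 2 → ZMod 3) => f 1) hA
    exact this
  have hA2 : A • φ p₂ = φ (g • p₂) := by
    have := congrArg (fun f : Fin 3 ↪ ℙ (ZMod 3) (Fin 2 → ZMod 3) => f 2) hA
    exact this
  obtain ⟨M, rfl⟩ := ProjGenLinGroup.mk_surjective A
  refine ⟨M, fun x => ?_⟩
  have key := eq_of_agree_three hP4
    (fun y => (ProjGenLinGroup.mk M : PGL(Fin 2, ZMod 3)) • y)
    (fun y => φ (g • φ.symm y))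
    (MulAction.injective _)
    (fun y y' h => by
      have := MulAction.injective g (φ.injective h)
      exact φ.symm.injective this)
    hφ01 hφ02 hφ12
    (by simp only [Equiv.symm_apply_apply]; exact hA0)
    (by simp only [Equiv.symm_apply_apply]; exact hA1)
    (by simp only [Equiv.symm_apply_apply]; exact hA2)
    (φ x)
  simp only [Equiv.symm_apply_apply] at key
  exact key.symm

end Cfsg.Agent.Lib.Helper2.S3T
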