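import Mathlib
import Cfsg.Agent.Lib.Helper2.S3T26
import Cfsg.Agent.Lib.Helper2.S3T22
import Cfsg.Agent.Lib.Helper2.S3T23
import Cfsg.Agent.Lib.Helper2.S3T15
import Cfsg.Agent.Lib.Helper2.Sharp3d
import Cfsg.Agent.Lib.Helper2.ZP13

set_option autoImplicit false
set_option linter.style.haveILetI false
set_option linter.unusedSectionVars false

/-!
# Transitive groups of degree `p + 1` and order `(p + 1) p (p - 1)`
-/

namespace Cfsg.Agent.Lib.Helper2.S3T

open MulAction Cfsg.Agent.Lib.Helper2.FZ Cfsg.Agent.Lib.Helper2.ZP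

universe u v

variable {G : Type u} {Ω : Type v} [Group G] [MulAction G Ω] [Fintype Ω] {a : Ω} {F : Subgroup G}
  {p : ℕ}

namespace PD

/-- the two point stabilizer is transitive on the remaining points when its order is `p - 1` -/
theorem H_trans [Finite G] (P : PD G Ω a F p) {b : Ω} (hab : a ≠ b)
    (he : Nat.card ↥(stabilizer G a ⊓ stabilizer G b : Subgroup G) = p - 1)
    {c d : Ω} (hca : c ≠ a) (hcb : c ≠ b) (hda : d ≠ a) (hdb : d ≠ b) :
    ∃ h : G, h • a = a ∧ h • b = b ∧ h • c = d := by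
  classical
  have hEp : ∀ h : ↥(stabilizer G a ⊓ stabilizer G b : Subgroup G), (h : G) • a = a :=
    fun h => mem_stabilizer_iff.mp (Subgroup.mem_inf.mp h.2).1
  have hEq : ∀ h : ↥(stabilizer G a ⊓ stabilizer G b : Subgroup G), (h : G) • b = b :=
    fun h => mem_stabilizer_iff.mp (Subgroup.mem_inf.mp h.2).2
  have hcard : Nat.card {y : Ω // y ≠ a ∧ y ≠ b}
      = Nat.card ↥(stabilizer G a ⊓ stabilizer G b : Subgroup G) := by
    rw [card_compl_pair hab, he, P.hcard]
    omega
  have horb : Function.Bijective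
      (fun h : ↥(stabilizer G a ⊓ stabilizer G b : Subgroup G) =>
        (⟨(h : G) • c, stab_ne a (hEp h) hca, stab_ne b (hEq h) hcb⟩ :
          {y : Ω // y ≠ a ∧ y ≠ b})) := by
    apply Function.Injective.bijective_of_nat_card_le
    · intro h k hhk
      have h1 : (h : G) • c = (k : G) • c := congrArg Subtype.val hhk
      have h2 : ((k : G)⁻¹ * (h : G)) • c = c := by
        rw [mul_smul, h1, inv_smul_smul]
      have h3 : (k : G)⁻¹ * (h : G) = 1 := by
        apply P.three _ hab (Ne.symm hca) (Ne.symm hcb) _ _ h2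
        · rw [mul_smul, hEp h, inv_smul_eq_iff, hEp k]
        · rw [mul_smul, hEq h, inv_smul_eq_iff, hEq k]
      apply Subtype.ext
      have : (h : G) = (k : G) * ((k : G)⁻¹ * (h : G)) := by group
      rw [this, h3, mul_one]
    · exact hcard.le
  obtain ⟨h, hh⟩ := horb.2 ⟨d, hda, hdb⟩
  exact ⟨(h : G), hEp h, hEq h, congrArg Subtype.val hh⟩

/-- sharp triple transitivity when the two point stabilizer has order `p - 1` -/
theorem sharp3 [Finite G] (P : PD G Ω a F p) {b : Ω} (hab : a ≠ b)
    (he : Nat.card ↥(stabilizer G a ⊓ stabilizer G b : Subgroup G) = p - 1) :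
    MulAction.IsMultiplyPretransitive G Ω 3 ∧ ∀ t : Fin 3 ↪ Ω, MulAction.stabilizer G t = ⊥ := by
  constructor
  · rw [MulAction.isMultiplyPretransitive_iff]
    intro s t
    have hs01 : s 0 ≠ s 1 := fun h => by simpa using s.injective h
    have hs02 : s 0 ≠ s 2 := fun h => by simpa using s.injective h
    have hs12 : s 1 ≠ s 2 := fun h => by simpa using s.injective h
    have ht01 : t 0 ≠ t 1 := fun h => by simpa using t.injective h
    have ht02 : t 0 ≠ t 2 := fun h => by simpa using t.injective h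
    have ht12 : t 1 ≠ t 2 := fun h => by simpa using t.injective h
    obtain ⟨g₁, hg0, hg1⟩ := P.two_trans hs01 hab
    obtain ⟨g₂, hk0, hk1⟩ := P.two_trans ht01 hab
    have hc0 : g₁ • s 2 ≠ a := by
      rw [← hg0]
      exact fun h => hs02 (MulAction.injective g₁ h).symm
    have hc1 : g₁ • s 2 ≠ b := by
      rw [← hg1]
      exact fun h => hs12 (MulAction.injective g₁ h).symm
    have hd0 : g₂ • t 2 ≠ a := by
      rw [← hk0]
      exact fun h => ht02 (MulAction.injective g₂ h).symm
    have hd1 : g₂ • t 2 ≠ b := by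
      rw [← hk1]
      exact fun h => ht12 (MulAction.injective g₂ h).symm
    obtain ⟨h, hh0, hh1, hh2⟩ := P.H_trans hab he hc0 hc1 hd0 hd1
    refine ⟨g₂⁻¹ * h * g₁, ?_⟩
    ext i
    rw [Function.Embedding.smul_apply, mul_smul, mul_smul]
    fin_cases i
    · show g₂⁻¹ • h • g₁ • s 0 = t 0
      rw [hg0, hh0, inv_smul_eq_iff, hk0]
    · show g₂⁻¹ • h • g₁ • s 1 = t 1
      rw [hg1, hh1, inv_smul_eq_iff, hk1]
    · show g₂⁻¹ • h • g₁ • s 2 = t 2
      rw [hh2, inv_smul_smul]
  · intro t
    rw [eq_bot_iff]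
    intro g hg
    rw [mem_stabilizer_iff] at hg
    rw [Subgroup.mem_bot]
    have hfix : ∀ i, g • t i = t i := by
      intro i
      rw [← Function.Embedding.smul_apply, hg]
    have ht01 : t 0 ≠ t 1 := fun h => by simpa using t.injective h
    have ht02 : t 0 ≠ t 2 := fun h => by simpa using t.injective h
    have ht12 : t 1 ≠ t 2 := fun h => by simpa using t.injective h
    exact P.three g ht01 ht02 ht12 (hfix 0) (hfix 1) (hfix 2)

/-- the group is `PGL₂(p)` when the two point stabilizer has order `p - 1` -/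
theorem pgl [Finite G] (P : PD G Ω a F p) {b : Ω} (hab : a ≠ b)
    (he : Nat.card ↥(stabilizer G a ⊓ stabilizer G b : Subgroup G) = p - 1) :
    ∃ (K : Type) (_ : Field K) (_ : Fintype K), Fintype.card K = p ∧
      Nonempty (G ≃* Matrix.ProjGenLinGroup (Fin 2) K) := by
  classical
  obtain ⟨h3, hsharp⟩ := P.sharp3 hab he
  have hp2 := P.hp.two_le
  have hcard := P.hcard
  by_cases h2 : p = 2
  · subst h2
    exact Sharp3.sharp3_odd_degree h3 hsharp (le_refl 2) (by decide) hcard
  by_cases h3' : p = 3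
  · subst h3'
    exact pgl_of_card_four h3 hsharp hcard
  have hodd : Odd p := P.hp.odd_of_ne_two h2
  have hp5 : 5 ≤ p := by
    rcases hodd with ⟨k, hk⟩
    have : p ≠ 4 := by
      rintro h4
      rw [h4] at hk
      omega
    omega
  have heven : Even (Fintype.card Ω) := by
    rw [hcard]
    exact hodd.add_one
  obtain ⟨F', t, z, T⟩ := exists_tdata h3 hsharp heven (by omega) hab
  have hq : Fintype.card Ω - 1 = p ^ 1 := by
    rw [hcard, pow_one]
    omega
  obtain ⟨K, i1, i2, hK, hiso⟩ := T.pgl_of_odd_exp h3 hsharp (by omega) P.hp (by decide) hq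
  exact ⟨K, i1, i2, by rw [hK, pow_one], hiso⟩

end PD

end Cfsg.Agent.Lib.Helper2.S3T
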