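import Mathlib
import Cfsg.Agent.Lib.Helper2.S3T27
import Cfsg.Agent.Lib.Helper2.S3T29
import Cfsg.Agent.Lib.Helper2.SharpTwo4

set_option autoImplicit false
set_option linter.style.haveILetI false
set_option linter.unusedSectionVars false

/-!
# Transitive groups of degree `p + 1` and order `(p + 1) p d`: no regular normal subgroup
-/

namespace Cfsg.Agent.Lib.Helper2.S3T

open MulAction Cfsg.Agent.Lib.Helper2.FZ Cfsg.Agent.Lib.Helper2.ZP

universe u v

variable {G : Type u} {Ω : Type v} [Group G] [MulAction G Ω] [Fintype Ω] {a : Ω} {F : Subgroup G}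
  {p : ℕ}

namespace PD

/-- a trivial two point stabilizer forces a regular normal subgroup -/
theorem reg_of_card_one [Finite G] (P : PD G Ω a F p) {b : Ω} (hab : a ≠ b)
    (h1 : Nat.card ↥(stabilizer G a ⊓ stabilizer G b : Subgroup G) = 1) :
    ∃ N : Subgroup G, N.Normal ∧ IsPretransitive N Ω ∧ ∀ x : Ω, stabilizer N x = ⊥ := by
  classical
  have hH : ∀ g : G, g • a = a → g • b = b → g = 1 := by
    intro g hga hgb
    have hmem : g ∈ (stabilizer G a ⊓ stabilizer G b : Subgroup G) :=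
      Subgroup.mem_inf.mpr ⟨mem_stabilizer_iff.mpr hga, mem_stabilizer_iff.mpr hgb⟩
    haveI : Subsingleton ↥(stabilizer G a ⊓ stabilizer G b : Subgroup G) :=
      (Nat.card_eq_one_iff_unique.mp h1).1
    have := Subsingleton.elim (⟨g, hmem⟩ : ↥(stabilizer G a ⊓ stabilizer G b : Subgroup G)) 1
    exact congrArg Subtype.val this
  haveI h2t : IsMultiplyPretransitive G Ω 2 := by
    rw [is_two_pretransitive_iff]
    intro x y x' y' hxy hxy'
    exact P.two_trans hxy hxy'
  have hsharp : ∀ x : Fin 2 ↪ Ω, stabilizer G x = ⊥ := by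
    intro x
    rw [eq_bot_iff]
    intro g hg
    rw [mem_stabilizer_iff] at hg
    rw [Subgroup.mem_bot]
    have hfix : ∀ i, g • x i = x i := by
      intro i
      rw [← Function.Embedding.smul_apply, hg]
    have h01 : x 0 ≠ x 1 := fun h => by simpa using x.injective h
    obtain ⟨k, hk0, hk1⟩ := P.two_trans h01 hab
    have h3 : k * g * k⁻¹ = 1 := by
      apply hH
      · rw [mul_smul, mul_smul, inv_smul_eq_iff.mpr hk0.symm, hfix 0, hk0]
      · rw [mul_smul, mul_smul, inv_smul_eq_iff.mpr hk1.symm, hfix 1, hk1]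
    calc g = k⁻¹ * (k * g * k⁻¹) * k := by group
      _ = 1 := by rw [h3]; group
  have hc2 : 2 ≤ Fintype.card Ω := by
    rw [P.hcard]
    have := P.hp.two_le
    omega
  obtain ⟨r, j, N, -, -, -, hnorm, -, -, -, hmem, htrans⟩ :=
    SharpTwo.exists_regular_normal (Γ := G) (α := Ω) hsharp hc2
  refine ⟨N, hnorm, ⟨fun x y => ?_⟩, fun x => ?_⟩
  · obtain ⟨g, hg, hgx⟩ := htrans x y
    exact ⟨⟨g, hg⟩, hgx⟩
  · rw [eq_bot_iff]
    intro n hn
    rw [mem_stabilizer_iff] at hn
    rw [Subgroup.mem_bot]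
    rcases (hmem (n : G)).mp n.2 with h | h
    · exact Subtype.ext h
    · exact absurd hn (h x)

/-- the case without regular normal subgroups -/
theorem caseB' [Finite G] (P : PD G Ω a F p) {b : Ω} (hab : a ≠ b)
    (hnoreg : ∀ N : Subgroup G, N.Normal → IsPretransitive N Ω → ∃ x : Ω, stabilizer N x ≠ ⊥) :
    (Nat.card ↥(stabilizer G a ⊓ stabilizer G b : Subgroup G) = p - 1 ∧
      ∃ (K : Type) (_ : Field K) (_ : Fintype K), Fintype.card K = p ∧
        Nonempty (G ≃* Matrix.ProjGenLinGroup (Fin 2) K)) ∨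
    (2 * Nat.card ↥(stabilizer G a ⊓ stabilizer G b : Subgroup G) = p - 1 ∧
      ∃ (K : Type) (_ : Field K) (_ : Fintype K), Fintype.card K = p ∧
        Nonempty (G ≃* Matrix.ProjectiveSpecialLinearGroup (Fin 2) K)) := by
  have hpos : 0 < Nat.card ↥(stabilizer G a ⊓ stabilizer G b : Subgroup G) := Nat.card_pos
  by_cases h1 : Nat.card ↥(stabilizer G a ⊓ stabilizer G b : Subgroup G) = 1
  · exfalso
    obtain ⟨N, hN, hNt, hNf⟩ := P.reg_of_card_one hab h1
    obtain ⟨x, hx⟩ := hnoreg N hN hNt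
    exact hx (hNf x)
  · rcases P.caseB hab hnoreg (by omega) with ⟨he, -, -⟩ | h
    · left
      exact ⟨he, P.pgl hab he⟩
    · right
      exact h

end PD

end Cfsg.Agent.Lib.Helper2.S3T
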