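import Mathlib
import Cfsg.Agent.Lib.Helper2.NearFieldData

set_option autoImplicit false
set_option linter.style.haveILetI false
set_option linter.unusedSectionVars false

/-!
# The near-field of a sharply doubly transitive group with abelian point stabilizer is a field
-/

namespace Cfsg.Agent.Lib.Helper2.S3T

open MulAction Cfsg.Agent.Lib.Helper2.SharpTwo

variable {Γ : Type*} {α : Type*} [Group Γ] [MulAction Γ α]

/-- the field structure attached to near-field data with commuting multiplications -/
theorem exists_field_of_nfData (D : NFData Γ α)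
    (hmcomm : ∀ a b, a ≠ D.o → b ≠ D.o → D.m a * D.m b = D.m b * D.m a) :
    ∃ (_ : Field α), (0 : α) = D.o ∧ (1 : α) = D.e ∧
      (∀ b x : α, D.t b • x = x + b) ∧ (∀ a x : α, a ≠ D.o → D.m a • x = a * x) := by
  classical
  have hmulcomm : ∀ x a : α, D.mul x a = D.mul a x := by
    intro x a
    by_cases ha : a = D.o
    · subst ha
      rw [D.mul_o]
      by_cases hx : x = D.o
      · subst hx
        rw [D.mul_o]
      · rw [D.mul_ne hx, D.m_fix x hx]
    · by_cases hx : x = D.o
      · subst hx
        rw [D.mul_o, D.mul_ne ha, D.m_fix a ha]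
      · rw [D.mul_ne ha, D.mul_ne hx]
        conv_lhs => rw [← D.m_smul x hx]
        conv_rhs => rw [← D.m_smul a ha]
        rw [← mul_smul, ← mul_smul, hmcomm a x ha hx]
  letI nf : Cfsg.NearField α := D.nearField
  letI : Inv α := ⟨fun x => if x = D.o then D.o else (D.m x)⁻¹ • D.e⟩
  have hinv_ne : ∀ x : α, x ≠ D.o → x⁻¹ = (D.m x)⁻¹ • D.e := by
    intro x hx
    show (if x = D.o then D.o else (D.m x)⁻¹ • D.e) = _
    rw [if_neg hx]
  have hmul_comm' : ∀ a b : α, a * b = b * a := hmulcomm
  let F : Field α :=
    Field.ofMinimalAxioms α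
      (fun a b c => add_assoc a b c) (fun a => zero_add a) (fun a => neg_add_cancel a)
      (fun a b c => mul_assoc a b c) hmul_comm' (fun a => one_mul a)
      (by
        intro a ha
        have ha' : a ≠ D.o := ha
        rw [hinv_ne a ha']
        have hb : (D.m a)⁻¹ • D.e ≠ D.o := by
          intro h
          apply D.hoe
          rw [inv_smul_eq_iff, D.m_fix a ha'] at h
          exact h.symm
        have hmb : D.m ((D.m a)⁻¹ • D.e) = (D.m a)⁻¹ := by
          symm
          apply D.m_uniq
          · rw [inv_smul_eq_iff, D.m_fix a ha']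
          · rfl
        show D.mul a ((D.m a)⁻¹ • D.e) = D.e
        rw [D.mul_ne hb, hmb, inv_smul_eq_iff, D.m_smul a ha'])
      (by
        show (if D.o = D.o then D.o else (D.m D.o)⁻¹ • D.e) = D.o
        rw [if_pos rfl])
      (by
        intro a b c
        rw [hmul_comm' a (b + c), hmul_comm' a b, hmul_comm' a c]
        exact nf.right_distrib b c a)
      ⟨D.o, D.e, D.hoe⟩
  refine ⟨F, rfl, rfl, ?_, ?_⟩
  · intro b x
    show D.t b • x = D.add x b
    rw [D.add_comm']
    rfl
  · intro a x ha
    show D.m a • x = D.mul a x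
    rw [hmulcomm a x, D.mul_ne ha]

end Cfsg.Agent.Lib.Helper2.S3T
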