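import Mathlib
import Cfsg.Agent.Lib.Helper2.S3T26
import Cfsg.Agent.Lib.Helper2.S3T18

set_option autoImplicit false
set_option linter.style.haveILetI false
set_option linter.unusedSectionVars false

/-!
# Transitive groups of degree `p + 1` and order `(p + 1) p d`: regular normal subgroups
-/

namespace Cfsg.Agent.Lib.Helper2.S3T

open MulAction

universe u v

variable {G : Type u} {Ω : Type v} [Group G] [MulAction G Ω] [Fintype Ω] {a : Ω} {F : Subgroup G}
  {p : ℕ} {N : Subgroup G}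

namespace PD

/-- the non-identity elements are conjugate under the kernel -/
theorem reg_conj [Finite G] (P : PD G Ω a F p) (hR : RegSub ⊤ Ω N) {r r' : G}
    (hr : r ∈ N) (hr' : r' ∈ N) (hr1 : r ≠ 1) (hr1' : r' ≠ 1) : ∃ u ∈ F, u * r * u⁻¹ = r' := by
  have h1 : r • a ≠ a := fun h => hr1 (hR.free r hr a h)
  have h2 : r' • a ≠ a := fun h => hr1' (hR.free r' hr' a h)
  obtain ⟨u, hu, hu'⟩ := P.F_trans h1 h2
  refine ⟨u, hu, ?_⟩
  apply hR.eq_of_smul (hR.norm u (Subgroup.mem_top u) r hr) hr' (x := a)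
  rw [mul_smul, mul_smul, inv_smul_eq_iff.mpr (P.mem_a hu).symm, hu']

/-- the elements are involutions -/
theorem reg_sq [Finite G] (P : PD G Ω a F p) (hR : RegSub ⊤ Ω N) (hp2 : p ≠ 2)
    {r : G} (hr : r ∈ N) : r * r = 1 := by
  haveI : Fact (Nat.Prime 2) := ⟨Nat.prime_two⟩
  have hcard : 2 ∣ Nat.card N := by
    rw [hR.card_eq a, P.hcard]
    obtain ⟨k, hk⟩ := P.hp.odd_of_ne_two hp2
    omega
  obtain ⟨r₀, hr₀⟩ := exists_prime_orderOf_dvd_card' (G := N) 2 hcard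
  have hr₀1 : (r₀ : G) ≠ 1 := by
    intro h
    have : r₀ = 1 := Subtype.ext h
    rw [this, orderOf_one] at hr₀
    omega
  have hr₀sq : (r₀ : G) * (r₀ : G) = 1 := by
    have := pow_orderOf_eq_one r₀
    rw [hr₀, _root_.sq] at this
    exact congrArg Subtype.val this
  by_cases hr1 : r = 1
  · rw [hr1, one_mul]
  · obtain ⟨u, -, hu⟩ := P.reg_conj hR r₀.2 hr hr₀1 hr1
    rw [← hu]
    calc u * (r₀ : G) * u⁻¹ * (u * (r₀ : G) * u⁻¹) = u * ((r₀ : G) * (r₀ : G)) * u⁻¹ := by group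
      _ = 1 := by rw [hr₀sq]; group

theorem reg_comm [Finite G] (P : PD G Ω a F p) (hR : RegSub ⊤ Ω N) (hp2 : p ≠ 2)
    {r r' : G} (hr : r ∈ N) (hr' : r' ∈ N) : r * r' = r' * r := by
  have h1 := P.reg_sq hR hp2 hr
  have h2 := P.reg_sq hR hp2 hr'
  have h3 := P.reg_sq hR hp2 (N.mul_mem hr hr')
  have hi : r⁻¹ = r := inv_eq_of_mul_eq_one_right h1
  have hi' : r'⁻¹ = r' := inv_eq_of_mul_eq_one_right h2
  have hi3 : (r * r')⁻¹ = r * r' := inv_eq_of_mul_eq_one_right h3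
  calc r * r' = (r * r')⁻¹ := hi3.symm
    _ = r'⁻¹ * r⁻¹ := mul_inv_rev _ _
    _ = r' * r := by rw [hi, hi']

/-- the degree is a power of two with prime exponent -/
theorem reg_pow [Finite G] (P : PD G Ω a F p) (hR : RegSub ⊤ Ω N) (hp2 : p ≠ 2) :
    ∃ k : ℕ, k.Prime ∧ p + 1 = 2 ^ k := by
  haveI : Fact (Nat.Prime 2) := ⟨Nat.prime_two⟩
  have hpg : IsPGroup 2 N := by
    intro r
    refine ⟨1, ?_⟩
    apply Subtype.ext
    rw [pow_one, _root_.sq]
    exact P.reg_sq hR hp2 r.2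
  obtain ⟨k, hk⟩ := IsPGroup.iff_card.mp hpg
  rw [hR.card_eq a, P.hcard] at hk
  refine ⟨k, ?_, hk⟩
  have hprime : (2 ^ k - 1).Prime := by
    rw [← hk]
    exact P.hp
  have hk1 : k ≠ 1 := by
    rintro rfl
    rw [pow_one] at hk
    have := P.hp.two_le
    omega
  exact (Nat.prime_of_pow_sub_one_prime hk1 hprime).2

end PD

end Cfsg.Agent.Lib.Helper2.S3T
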