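import Mathlib
import Cfsg.Agent.Lib.Helper2.S3T31
import Cfsg.Agent.Lib.Helper2.S3T24

set_option autoImplicit false
set_option linter.style.haveILetI false
set_option linter.unusedSectionVars false

/-!
# Transitive groups of degree `p + 1` and order `(p + 1) p d`: the field structure on the points
-/

namespace Cfsg.Agent.Lib.Helper2.S3T

open MulAction Cfsg.Agent.Lib.Helper2.SharpTwo

universe u v

variable {G : Type u} {Ω : Type v} [Group G] [MulAction G Ω] [Fintype Ω] {a : Ω} {F : Subgroup G}
  {p : ℕ} {N : Subgroup G}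

namespace PD

/-- the field structure on the points -/
theorem exists_field [Finite G] (P : PD G Ω a F p) (hR : RegSub ⊤ Ω N) (hp2 : p ≠ 2) {b : Ω}
    (hab : a ≠ b) :
    ∃ (_ : Field Ω), (0 : Ω) = a ∧ (1 : Ω) = b ∧ (∀ n ∈ N, ∀ x : Ω, n • x = x + n • a) ∧
      (∀ u ∈ F, ∀ x : Ω, u • x = u • b * x) := by
  classical
  haveI hNn : N.Normal := ⟨fun n hn g => hR.norm g (Subgroup.mem_top g) n hn⟩
  have hdecomp : ∀ g ∈ N ⊔ F, ∃ n ∈ N, ∃ u ∈ F, g = n * u := by
    intro g hg
    have h1 : g ∈ ((N ⊔ F : Subgroup G) : Set G) := hg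
    rw [Subgroup.normal_mul] at h1
    obtain ⟨n, hn, u, hu, rfl⟩ := Set.mem_mul.mp h1
    exact ⟨n, hn, u, hu, rfl⟩
  have htex : ∀ x : Ω, ∃ n ∈ N, n • a = x := fun x => hR.trans a x
  choose tt httN htta using htex
  have hmex : ∀ x : Ω, x ≠ a → ∃ u ∈ F, u • b = x := fun x hx => P.F_trans (Ne.symm hab) hx
  let mm : Ω → G := fun x => if h : x ≠ a then (hmex x h).choose else 1
  have hmmF : ∀ x, mm x ∈ F := by
    intro x
    by_cases h : x ≠ a
    · simp only [mm, dif_pos h]
      exact (hmex x h).choose_spec.1
    · simp only [mm, dif_neg h]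
      exact F.one_mem
  have hmmb : ∀ x, x ≠ a → mm x • b = x := by
    intro x h
    simp only [mm, dif_pos h]
    exact (hmex x h).choose_spec.2
  let D : NFData ↥(N ⊔ F) Ω :=
    { N := N.subgroupOf (N ⊔ F)
      o := a
      e := b
      t := fun x => ⟨tt x, Subgroup.mem_sup_left (httN x)⟩
      m := fun x => ⟨mm x, Subgroup.mem_sup_right (hmmF x)⟩
      hoe := hab
      comm := by
        intro y hy z hz
        apply Subtype.ext
        exact P.reg_comm hR hp2 (Subgroup.mem_subgroupOf.mp hy) (Subgroup.mem_subgroupOf.mp hz)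
      normal := by
        intro n hn g
        rw [Subgroup.mem_subgroupOf]
        exact hNn.conj_mem _ (Subgroup.mem_subgroupOf.mp hn) _
      tN := fun x => Subgroup.mem_subgroupOf.mpr (httN x)
      t_smul := fun x => htta x
      t_uniq := by
        intro n hn x hnx
        apply Subtype.ext
        apply hR.eq_of_smul (Subgroup.mem_subgroupOf.mp hn) (httN x) (x := a)
        rw [htta x]
        exact hnx
      m_fix := fun x _ => P.mem_a (hmmF x)
      m_smul := fun x hx => hmmb x hx
      m_uniq := by
        intro g x hga hgb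
        apply Subtype.ext
        obtain ⟨n, hn, u, hu, hg⟩ := hdecomp (g : G) g.2
        have hga' : (g : G) • a = a := hga
        have hgb' : (g : G) • b = x := hgb
        have hn1 : n = 1 := by
          apply hR.free n hn a
          rw [hg, mul_smul, P.mem_a hu] at hga'
          exact hga'
        rw [hn1, one_mul] at hg
        have hxa : x ≠ a := by
          rw [← hgb', hg]
          intro h
          apply hab
          have h2 : u • b = u • a := by rw [h, P.mem_a hu]
          exact (MulAction.injective u h2).symm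
        show (g : G) = mm x
        rw [hg]
        apply P.F_eq_of_smul hu (hmmF x) (Ne.symm hab)
        rw [hmmb x hxa, ← hg, hgb'] }
  have hmcomm : ∀ x y, x ≠ D.o → y ≠ D.o → D.m x * D.m y = D.m y * D.m x := by
    intro x y _ _
    apply Subtype.ext
    exact P.F_comm _ (hmmF x) _ (hmmF y)
  obtain ⟨inst, h0, h1, hadd, hmul⟩ := exists_field_of_nfData D hmcomm
  refine ⟨inst, h0, h1, ?_, ?_⟩
  · intro n hn x
    have h2 : n = tt (n • a) := by
      apply hR.eq_of_smul hn (httN _) (x := a)
      rw [htta]
    have h3 := hadd (n • a) x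
    have h4 : D.t (n • a) • x = tt (n • a) • x := rfl
    rw [h4, ← h2] at h3
    exact h3
  · intro u hu x
    have hne : u • b ≠ a := by
      intro h
      apply hab
      have h2 : u • b = u • a := by rw [h, P.mem_a hu]
      exact (MulAction.injective u h2).symm
    have h2 : u = mm (u • b) := by
      apply P.F_eq_of_smul hu (hmmF _) (Ne.symm hab)
      rw [hmmb _ hne]
    have h3 := hmul (u • b) x hne
    have h4 : D.m (u • b) • x = mm (u • b) • x := rfl
    rw [h4, ← h2] at h3
    exact h3

end PD

end Cfsg.Agent.Lib.Helper2.S3T
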