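import Mathlib
import Cfsg.Agent.Lib.Helper2.S3T32

set_option autoImplicit false
set_option linter.style.haveILetI false
set_option linter.unusedSectionVars false

/-!
# Transitive groups of degree `p + 1` and order `(p + 1) p d`: the semiaffine structure
-/

namespace Cfsg.Agent.Lib.Helper2.S3T

open MulAction

universe u v

/-- the affine coordinates -/
structure AffD (G : Type*) (Ω : Type*) [Group G] [MulAction G Ω] [Field Ω] (a b : Ω)
    (F N : Subgroup G) : Prop where
  h0 : (0 : Ω) = a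
  h1 : (1 : Ω) = b
  hadd : ∀ n ∈ N, ∀ x : Ω, n • x = x + n • a
  hmul : ∀ u ∈ F, ∀ x : Ω, u • x = u • b * x

variable {G : Type u} {Ω : Type v} [Group G] [MulAction G Ω] [Fintype Ω] {a b : Ω}
  {F : Subgroup G} {p : ℕ} {N : Subgroup G} [Field Ω]

namespace AffD

theorem stab_add [Finite G] (A : AffD G Ω a b F N) (P : PD G Ω a F p) (hR : RegSub ⊤ Ω N)
    {h : G} (ha : h • a = a) (x y : Ω) : h • (x + y) = h • x + h • y := by
  obtain ⟨n, hn, hny⟩ := hR.trans a y
  have h1 : x + y = n • x := by rw [A.hadd n hn x, hny]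
  have h2 : h * n * h⁻¹ ∈ N := hR.norm h (Subgroup.mem_top h) n hn
  have h3 : h • n • x = (h * n * h⁻¹) • h • x := by
    rw [mul_smul, mul_smul, inv_smul_smul]
  rw [h1, h3, A.hadd _ h2, mul_smul, mul_smul, inv_smul_eq_iff.mpr ha.symm, hny]

theorem stab_mul [Finite G] (A : AffD G Ω a b F N) (P : PD G Ω a F p)
    {h : G} (ha : h • a = a) (hb : h • b = b) (x y : Ω) : h • (x * y) = h • x * h • y := by
  by_cases hx : x = a
  · have hx0 : x = 0 := by rw [hx, A.h0]
    have h0 : h • (0 : Ω) = 0 := by rw [A.h0, ha]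
    rw [hx0, zero_mul, h0, zero_mul]
  · have hab : a ≠ b := by
      rw [← A.h0, ← A.h1]
      exact zero_ne_one
    obtain ⟨u, hu, hux⟩ := P.F_trans (Ne.symm hab) hx
    have h1 : x * y = u • y := by rw [A.hmul u hu y, hux]
    have h2 : h * u * h⁻¹ ∈ F := P.hFnorm h ha u hu
    have h3 : h • u • y = (h * u * h⁻¹) • h • y := by
      rw [mul_smul, mul_smul, inv_smul_smul]
    rw [h1, h3, A.hmul _ h2, mul_smul, mul_smul, inv_smul_eq_iff.mpr hb.symm, hux]

/-- the field automorphism attached to an element of the two point stabilizer -/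
noncomputable def ringAutOf [Finite G] (A : AffD G Ω a b F N) (P : PD G Ω a F p)
    (hR : RegSub ⊤ Ω N) (h : G) (ha : h • a = a) (hb : h • b = b) : Ω ≃+* Ω :=
  { MulAction.toPerm h with
    map_mul' := fun x y => A.stab_mul P ha hb x y
    map_add' := fun x y => A.stab_add P hR ha x y }

theorem ringAutOf_apply [Finite G] (A : AffD G Ω a b F N) (P : PD G Ω a F p)
    (hR : RegSub ⊤ Ω N) (h : G) (ha : h • a = a) (hb : h • b = b) (x : Ω) :
    A.ringAutOf P hR h ha hb x = h • x := rfl

/-- the two point stabilizer embeds in the automorphism group of the field -/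
theorem card_dvd [Finite G] (A : AffD G Ω a b F N) (P : PD G Ω a F p) (hR : RegSub ⊤ Ω N) :
    Nat.card ↥(stabilizer G a ⊓ stabilizer G b : Subgroup G) ∣ Nat.card (Ω ≃+* Ω) := by
  have hEa : ∀ h : ↥(stabilizer G a ⊓ stabilizer G b : Subgroup G), (h : G) • a = a :=
    fun h => mem_stabilizer_iff.mp (Subgroup.mem_inf.mp h.2).1
  have hEb : ∀ h : ↥(stabilizer G a ⊓ stabilizer G b : Subgroup G), (h : G) • b = b :=
    fun h => mem_stabilizer_iff.mp (Subgroup.mem_inf.mp h.2).2
  let ψ : ↥(stabilizer G a ⊓ stabilizer G b : Subgroup G) →* (Ω ≃+* Ω) :=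
    { toFun := fun h => A.ringAutOf P hR (h : G) (hEa h) (hEb h)
      map_one' := by
        apply RingEquiv.ext
        intro x
        show ((1 : ↥(stabilizer G a ⊓ stabilizer G b : Subgroup G)) : G) • x = x
        rw [Subgroup.coe_one, one_smul]
      map_mul' := by
        intro h k
        apply RingEquiv.ext
        intro x
        show ((h * k : ↥(stabilizer G a ⊓ stabilizer G b : Subgroup G)) : G) • x
          = (h : G) • (k : G) • x
        rw [Subgroup.coe_mul, mul_smul] }
  apply Subgroup.card_dvd_of_injective ψ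
  intro h k hhk
  apply Subtype.ext
  have h1 : ∀ x : Ω, (h : G) • x = (k : G) • x := by
    intro x
    have := congrArg (fun σ : Ω ≃+* Ω => σ x) hhk
    exact this
  have h2 : (k : G)⁻¹ * (h : G) = 1 := by
    apply P.faith
    intro x
    rw [mul_smul, h1, inv_smul_smul]
  calc (h : G) = (k : G) * ((k : G)⁻¹ * (h : G)) := by group
    _ = (k : G) := by rw [h2, mul_one]

/-- every element acts semiaffinely -/
theorem semiaffine [Finite G] (A : AffD G Ω a b F N) (P : PD G Ω a F p) (hR : RegSub ⊤ Ω N)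
    (g : G) : ∃ (c : Ωˣ) (b' : Ω) (φ : Ω ≃+* Ω), ∀ x : Ω, g • x = (c : Ω) * φ x + b' := by
  have hab : a ≠ b := by
    rw [← A.h0, ← A.h1]
    exact zero_ne_one
  obtain ⟨n, hn, hny⟩ := hR.trans a (g • a)
  have h1 : (n⁻¹ * g) • a = a := by
    rw [mul_smul, inv_smul_eq_iff, hny]
  have hc : (n⁻¹ * g) • b ≠ a := by
    intro h
    apply hab
    have h2 : (n⁻¹ * g) • b = (n⁻¹ * g) • a := by rw [h, h1]
    exact (MulAction.injective _ h2).symm
  obtain ⟨u, hu, hub⟩ := P.F_trans (Ne.symm hab) hc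
  have h2 : (u⁻¹ * (n⁻¹ * g)) • a = a := by
    rw [mul_smul, h1, inv_smul_eq_iff, P.mem_a hu]
  have h3 : (u⁻¹ * (n⁻¹ * g)) • b = b := by
    rw [mul_smul, inv_smul_eq_iff, hub]
  have hc0 : u • b ≠ 0 := by
    rw [hub, A.h0]
    exact hc
  refine ⟨Units.mk0 (u • b) hc0, g • a, A.ringAutOf P hR _ h2 h3, ?_⟩
  intro x
  rw [ringAutOf_apply, Units.val_mk0, ← A.hmul u hu, ← hny, ← A.hadd n hn, ← mul_smul, ← mul_smul]
  congr 1
  group

end AffD

/-- the number of automorphisms of a finite field of characteristic two -/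
theorem card_ringAut_two {K : Type*} [Field K] [Fintype K] {n : ℕ}
    (hK : Fintype.card K = 2 ^ n) (hn : n ≠ 0) : Nat.card (K ≃+* K) = n := by
  haveI : Fact (Nat.Prime 2) := ⟨Nat.prime_two⟩
  haveI : CharP K 2 := by
    rw [CharP.charP_iff_prime_eq_zero Nat.prime_two]
    have h1 := Nat.cast_card_eq_zero K
    rw [hK, Nat.cast_pow] at h1
    exact pow_eq_zero_iff hn |>.mp h1
  letI : Algebra (ZMod 2) K := ZMod.algebra K 2
  let e : (K ≃+* K) ≃ (K ≃ₐ[ZMod 2] K) :=
    { toFun := fun σ => AlgEquiv.ofRingEquiv (f := σ) (by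
        intro x
        have : (σ : K →+* K).comp (algebraMap (ZMod 2) K) = algebraMap (ZMod 2) K :=
          Subsingleton.elim _ _
        exact congrFun (congrArg DFunLike.coe this) x)
      invFun := fun τ => τ.toRingEquiv
      left_inv := fun σ => by ext x; rfl
      right_inv := fun τ => by ext x; rfl }
  rw [Nat.card_congr e]
  have h1 := FiniteField.bijective_frobeniusAlgEquivOfAlgebraic_pow (ZMod 2) K
  rw [← Nat.card_congr (Equiv.ofBijective _ h1), Nat.card_eq_fintype_card, Fintype.card_fin]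
  have h2 := Module.card_eq_pow_finrank (K := ZMod 2) (V := K)
  rw [ZMod.card, ← Nat.card_eq_fintype_card, Nat.card_eq_fintype_card, hK] at h2
  exact (Nat.pow_right_injective (le_refl 2) h2).symm

end Cfsg.Agent.Lib.Helper2.S3T
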