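import Mathlib
import Cfsg.Agent.Lib.Helper2.S3T33
import Cfsg.Agent.Lib.Helper2.S3T30
import Cfsg.Agent.Lib.Helper2.S3T28

set_option autoImplicit false
set_option linter.style.haveILetI false
set_option linter.unusedSectionVars false

/-!
# Transitive groups of degree `p + 1` and order `(p + 1) p d` with `d < p`
-/

namespace Cfsg.Agent.Lib.Helper2.S3T

open MulAction

universe u v

variable {G : Type u} {Ω : Type v} [Group G] [MulAction G Ω] [Fintype Ω] {p : ℕ}

theorem degree_prime_add_one [Finite G] (faith : ∀ g : G, (∀ x : Ω, g • x = x) → g = 1)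
    (hp : p.Prime) (hcard : Fintype.card Ω = p + 1) [IsPretransitive G Ω] {d : ℕ}
    (hG : Nat.card G = (p + 1) * p * d) (hd : d < p) :
    (d = p - 1 ∧ Nonempty (G ≃* Matrix.ProjGenLinGroup (Fin 2) (ZMod p))) ∨
    (2 * d = p - 1 ∧ Nonempty (G ≃* Matrix.ProjectiveSpecialLinearGroup (Fin 2) (ZMod p))) ∨
    (∃ q : ℕ, q.Prime ∧ p + 1 = 2 ^ q ∧ (d = 1 ∨ d = q) ∧ ∃ e : Ω ≃ GaloisField 2 q, ∀ g : G,
      ∃ (c : (GaloisField 2 q)ˣ) (b' : GaloisField 2 q) (φ : GaloisField 2 q ≃+* GaloisField 2 q),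
        ∀ y : GaloisField 2 q, e (g • e.symm y) = (c : GaloisField 2 q) * φ y + b') := by
  classical
  have hp2 := hp.two_le
  have h1lt : 1 < Fintype.card Ω := by omega
  obtain ⟨a, b, hab⟩ := Fintype.exists_pair_of_one_lt_card h1lt
  obtain ⟨F, P⟩ := exists_pd faith hp hcard hG hd a
  have hH : Nat.card ↥(stabilizer G a ⊓ stabilizer G b : Subgroup G) = d := by
    have h1 := card_stab_of_transitive (G := G) a
    rw [P.card_stab (Ne.symm hab), hcard, hG] at h1
    have hpos : 0 < (p + 1) * p := by positivity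
    apply Nat.eq_of_mul_eq_mul_left hpos
    rw [← h1]
    ring
  by_cases hd1 : d = p - 1
  · left
    obtain ⟨K, i1, i2, hK, ⟨e⟩⟩ := P.pgl hab (hH.trans hd1)
    obtain ⟨e'⟩ := pgl_zmod hp hK
    exact ⟨hd1, ⟨e.trans e'⟩⟩
  by_cases hreg : ∃ N : Subgroup G, N.Normal ∧ IsPretransitive N Ω ∧ ∀ x : Ω, stabilizer N x = ⊥
  · right
    right
    obtain ⟨N, hNn, hNt, hNf⟩ := hreg
    have hR : RegSub ⊤ Ω N := by
      refine ⟨le_top, fun γ _ r hr => hNn.conj_mem r hr γ, fun x y => ?_, fun r hr x hx => ?_⟩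
      · obtain ⟨n, hn⟩ := hNt.exists_smul_eq x y
        exact ⟨(n : G), n.2, hn⟩
      · have h1 : (⟨r, hr⟩ : N) ∈ stabilizer N x := mem_stabilizer_iff.mpr hx
        rw [hNf x, Subgroup.mem_bot] at h1
        exact congrArg Subtype.val h1
    have hd0 : d ≠ 0 := by
      rintro rfl
      rw [mul_zero] at hG
      exact Nat.card_pos.ne' hG
    have hp2' : p ≠ 2 := by
      rintro rfl
      omega
    obtain ⟨k, hk, hpk⟩ := P.reg_pow hR hp2'
    obtain ⟨inst, h0, h1, hadd, hmul⟩ := P.exists_field hR hp2' hab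
    have A : AffD G Ω a b F N := ⟨h0, h1, hadd, hmul⟩
    have hcardΩ : Fintype.card Ω = 2 ^ k := by rw [hcard, hpk]
    have hdk : d ∣ k := by
      have h2 := A.card_dvd P hR
      rw [hH, card_ringAut_two hcardΩ hk.ne_zero] at h2
      exact h2
    haveI : Fact (Nat.Prime 2) := ⟨Nat.prime_two⟩
    letI : Fintype (GaloisField 2 k) := Fintype.ofFinite _
    have hcardGF : Fintype.card Ω = Fintype.card (GaloisField 2 k) := by
      rw [hcardΩ, ← Nat.card_eq_fintype_card, GaloisField.card 2 k hk.ne_zero]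
    let ε : Ω ≃+* GaloisField 2 k := FiniteField.ringEquivOfCardEq hcardGF
    refine ⟨k, hk, hpk, (Nat.dvd_prime hk).mp hdk, ε.toEquiv, ?_⟩
    intro g
    obtain ⟨c, b', φ, hg⟩ := A.semiaffine P hR g
    refine ⟨Units.map ε.toRingHom.toMonoidHom c, ε b', ε.symm.trans (φ.trans ε), ?_⟩
    intro y
    show ε (g • ε.symm y) = ε (c : Ω) * ε (φ (ε.symm y)) + ε b'
    rw [hg, map_add, map_mul]
  · right
    left
    have hnoreg : ∀ N : Subgroup G, N.Normal → IsPretransitive N Ω →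
        ∃ x : Ω, stabilizer N x ≠ ⊥ := by
      intro N hN hNt
      by_contra hcon
      push Not at hcon
      exact hreg ⟨N, hN, hNt, hcon⟩
    rcases P.caseB' hab hnoreg with ⟨he, -⟩ | ⟨he, K, i1, i2, hK, ⟨e⟩⟩
    · exact absurd (hH.symm.trans he) hd1
    · obtain ⟨e'⟩ := psl_zmod hp hK
      rw [hH] at he
      exact ⟨he, ⟨e.trans e'⟩⟩

end Cfsg.Agent.Lib.Helper2.S3T
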