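import Mathlib
import Cfsg.Prelude

set_option autoImplicit false
open Matrix

namespace Cfsg.Agent.Lib.Helper2.Herm

variable {F : Type*} [Field F] {q : ℕ}

section
variable [Fintype F]

/-- if `|F| = q^2` then `q` is a power of the characteristic: the `q`-power map is additive. -/
theorem add_pow_q (hF : Fintype.card F = q ^ 2) (a b : F) : (a + b) ^ q = a ^ q + b ^ q := by
  obtain ⟨p, hp⟩ := CharP.exists F
  obtain ⟨n, hpp, hn⟩ := FiniteField.card F p
  haveI : Fact p.Prime := ⟨hpp⟩
  have hq : q ∣ p ^ (n : ℕ) := by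
    rw [← hn, hF]; exact dvd_pow_self q (by norm_num)
  obtain ⟨k, _, rfl⟩ := (Nat.dvd_prime_pow hpp).mp hq
  exact add_pow_char_pow a b p k

theorem sum_pow_q (hF : Fintype.card F = q ^ 2) {ι : Type*} (s : Finset ι) (f : ι → F) :
    (∑ i ∈ s, f i) ^ q = ∑ i ∈ s, f i ^ q := by
  obtain ⟨p, hp⟩ := CharP.exists F
  obtain ⟨n, hpp, hn⟩ := FiniteField.card F p
  haveI : Fact p.Prime := ⟨hpp⟩
  have hq : q ∣ p ^ (n : ℕ) := by
    rw [← hn, hF]; exact dvd_pow_self q (by norm_num)
  obtain ⟨k, _, rfl⟩ := (Nat.dvd_prime_pow hpp).mp hq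
  exact sum_pow_char_pow p k s f

theorem pow_q_pow_q (hF : Fintype.card F = q ^ 2) (a : F) : (a ^ q) ^ q = a := by
  rw [← pow_mul, ← sq, ← hF, FiniteField.pow_card]

end

variable {n : ℕ}

theorem herm_add_left (u u' w : Fin n → F) :
    Cfsg.hermForm n F q (u + u') w = Cfsg.hermForm n F q u w + Cfsg.hermForm n F q u' w := by
  unfold Cfsg.hermForm
  rw [← Finset.sum_add_distrib]
  apply Finset.sum_congr rfl
  intro i _
  rw [Pi.add_apply, add_mul]

theorem herm_smul_left (a : F) (u w : Fin n → F) :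
    Cfsg.hermForm n F q (a • u) w = a * Cfsg.hermForm n F q u w := by
  unfold Cfsg.hermForm
  rw [Finset.mul_sum]
  apply Finset.sum_congr rfl
  intro i _
  rw [Pi.smul_apply, smul_eq_mul, mul_assoc]

theorem herm_add_right [Fintype F] (hF : Fintype.card F = q ^ 2) (u w w' : Fin n → F) :
    Cfsg.hermForm n F q u (w + w') = Cfsg.hermForm n F q u w + Cfsg.hermForm n F q u w' := by
  unfold Cfsg.hermForm
  rw [← Finset.sum_add_distrib]
  apply Finset.sum_congr rfl
  intro i _
  rw [Pi.add_apply, add_pow_q hF, mul_add]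

theorem herm_smul_right (a : F) (u w : Fin n → F) :
    Cfsg.hermForm n F q u (a • w) = a ^ q * Cfsg.hermForm n F q u w := by
  unfold Cfsg.hermForm
  rw [Finset.mul_sum]
  apply Finset.sum_congr rfl
  intro i _
  rw [Pi.smul_apply, smul_eq_mul, mul_pow]
  ring

theorem herm_conj [Fintype F] (hF : Fintype.card F = q ^ 2) (u w : Fin n → F) :
    (Cfsg.hermForm n F q u w) ^ q = Cfsg.hermForm n F q w u := by
  unfold Cfsg.hermForm
  rw [sum_pow_q hF]
  apply Finset.sum_congr rfl
  intro i _
  rw [mul_pow, pow_q_pow_q hF, mul_comm]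

theorem unitaryTransvection_mulVec (v : Fin n → F) (c : F) (x : Fin n → F) :
    Cfsg.unitaryTransvection n q v c *ᵥ x = x + (c * Cfsg.hermForm n F q x v) • v := by
  unfold Cfsg.unitaryTransvection
  rw [Matrix.add_mulVec, Matrix.one_mulVec, Matrix.smul_mulVec, Matrix.vecMulVec_mulVec,
    op_smul_eq_smul, smul_smul]
  congr 3
  unfold Cfsg.hermForm dotProduct
  apply Finset.sum_congr rfl
  intro i _
  exact mul_comm _ _

theorem herm_transvection [Fintype F] (hF : Fintype.card F = q ^ 2) (v : Fin n → F)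
    (hv0 : Cfsg.hermForm n F q v v = 0) (c : F) (x y : Fin n → F) :
    Cfsg.hermForm n F q (Cfsg.unitaryTransvection n q v c *ᵥ x)
      (Cfsg.unitaryTransvection n q v c *ᵥ y) =
    Cfsg.hermForm n F q x y +
      (c ^ q + c) * (Cfsg.hermForm n F q x v * Cfsg.hermForm n F q v y) := by
  rw [unitaryTransvection_mulVec, unitaryTransvection_mulVec, herm_add_left, herm_add_right hF,
    herm_add_right hF, herm_smul_left, herm_smul_left, herm_smul_right, herm_smul_right, hv0,
    mul_pow, herm_conj hF]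
  ring

end Cfsg.Agent.Lib.Helper2.Herm
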