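import Mathlib

set_option autoImplicit false

namespace Cfsg.Agent.Lib.Helper2

namespace IsomDecomp

variable {F : Type*} [Field F] {V : Type*} [AddCommGroup V] [Module F V]

/-- linear automorphisms preserving a two-variable function -/
def isom (f : V → V → F) : Subgroup (V ≃ₗ[F] V) where
  carrier := {g | ∀ x y, f (g x) (g y) = f x y}
  one_mem' := fun _ _ => rfl
  mul_mem' := by
    intro a b ha hb x y
    rw [LinearEquiv.mul_apply, LinearEquiv.mul_apply, ha, hb]
  inv_mem' := by
    intro a ha x y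
    have := ha (a⁻¹ x) (a⁻¹ y)
    rw [← LinearEquiv.mul_apply, ← LinearEquiv.mul_apply, mul_inv_cancel] at this
    exact this.symm

/-- linear automorphisms stabilizing a subspace -/
def stab (W : Submodule F V) : Subgroup (V ≃ₗ[F] V) where
  carrier := {g | ∀ v, v ∈ W ↔ g v ∈ W}
  one_mem' := fun _ => Iff.rfl
  mul_mem' := by
    intro a b ha hb v
    rw [LinearEquiv.mul_apply]
    exact (hb v).trans (ha _)
  inv_mem' := by
    intro a ha v
    have := ha (a⁻¹ v)
    rw [← LinearEquiv.mul_apply, mul_inv_cancel] at this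
    exact this.symm

/-- isometries of a subspace -/
def isomSub (f : V → V → F) (U : Submodule F V) : Subgroup (U ≃ₗ[F] U) where
  carrier := {g | ∀ x y : U, f (g x : V) (g y : V) = f (x : V) (y : V)}
  one_mem' := fun _ _ => rfl
  mul_mem' := by
    intro a b ha hb x y
    rw [LinearEquiv.mul_apply, LinearEquiv.mul_apply, ha, hb]
  inv_mem' := by
    intro a ha x y
    have := ha (a⁻¹ x) (a⁻¹ y)
    rw [← LinearEquiv.mul_apply, ← LinearEquiv.mul_apply, mul_inv_cancel] at this
    exact this.symm

theorem map_eq_of_stab {W : Submodule F V} {g : V ≃ₗ[F] V} (hg : g ∈ stab W) :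
    W.map (g : V →ₗ[F] V) = W := by
  ext v
  constructor
  · rintro ⟨w, hw, rfl⟩
    exact (hg w).mp hw
  · intro hv
    refine ⟨g⁻¹ v, ?_, ?_⟩
    · exact ((stab W).inv_mem hg v).mp hv
    · show g (g⁻¹ v) = v
      rw [← LinearEquiv.mul_apply, mul_inv_cancel]; rfl

section decomp

variable (f : V → V → F) (W W' : Submodule F V)

/-- the hypotheses on an orthogonal decomposition -/
structure OrthoDecomp : Prop where
  compl : IsCompl W W'
  add_left : ∀ x y z, f (x + y) z = f x z + f y z
  add_right : ∀ x y z, f x (y + z) = f x y + f x z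
  ortho : ∀ w ∈ W, ∀ w' ∈ W', f w w' = 0
  ortho' : ∀ w ∈ W, ∀ w' ∈ W', f w' w = 0
  mem' : ∀ v, (∀ w ∈ W, f w v = 0) → v ∈ W'

variable {f W W'}

theorem stab' (h : OrthoDecomp f W W') {g : V ≃ₗ[F] V} (hg : g ∈ isom f ⊓ stab W) :
    g ∈ stab W' := by
  have key : ∀ a : V ≃ₗ[F] V, a ∈ isom f ⊓ stab W → ∀ v ∈ W', a v ∈ W' := by
    intro a ha v hv
    apply h.mem'
    intro w hw
    have h1 := ha.1 (a⁻¹ w) v
    have h2 : a (a⁻¹ w) = w := by
      rw [← LinearEquiv.mul_apply, mul_inv_cancel]; rfl
    rw [h2] at h1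
    rw [h1]
    exact h.ortho _ (((stab W).inv_mem ha.2 w).mp hw) v hv
  intro v
  constructor
  · exact key g hg v
  · intro hv
    have := key g⁻¹ ((isom f ⊓ stab W).inv_mem hg) (g v) hv
    rwa [← LinearEquiv.mul_apply, inv_mul_cancel] at this

/-- gluing two automorphisms of complementary subspaces -/
noncomputable def glue (h : OrthoDecomp f W W') (g₁ : W ≃ₗ[F] W) (g₂ : W' ≃ₗ[F] W') : V ≃ₗ[F] V :=
  (Submodule.prodEquivOfIsCompl W W' h.compl).symm.trans
    ((g₁.prodCongr g₂).trans (Submodule.prodEquivOfIsCompl W W' h.compl))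

theorem glue_apply (h : OrthoDecomp f W W') (g₁ : W ≃ₗ[F] W) (g₂ : W' ≃ₗ[F] W') (w : W) (w' : W') :
    glue h g₁ g₂ ((w : V) + (w' : V)) = (g₁ w : V) + (g₂ w' : V) := by
  unfold glue
  have h1 : (w : V) + (w' : V) = Submodule.prodEquivOfIsCompl W W' h.compl (w, w') := by
    rw [Submodule.coe_prodEquivOfIsCompl']
  rw [h1, LinearEquiv.trans_apply, LinearEquiv.symm_apply_apply, LinearEquiv.trans_apply,
    Submodule.coe_prodEquivOfIsCompl']
  rfl

theorem exists_decomp (h : OrthoDecomp f W W') (v : V) : ∃ (w : W) (w' : W'), v = (w : V) + (w' : V) := by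
  obtain ⟨p, hp⟩ := (Submodule.prodEquivOfIsCompl W W' h.compl).surjective v
  refine ⟨p.1, p.2, ?_⟩
  rw [← hp, Submodule.coe_prodEquivOfIsCompl']

theorem glue_mem (h : OrthoDecomp f W W') {g₁ : W ≃ₗ[F] W} {g₂ : W' ≃ₗ[F] W'}
    (h₁ : g₁ ∈ isomSub f W) (h₂ : g₂ ∈ isomSub f W') : glue h g₁ g₂ ∈ isom f ⊓ stab W := by
  constructor
  · intro x y
    obtain ⟨w, w', rfl⟩ := exists_decomp h x
    obtain ⟨u, u', rfl⟩ := exists_decomp h y
    rw [glue_apply, glue_apply]
    simp only [h.add_left, h.add_right]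
    rw [h₁ w u, h₂ w' u', h.ortho _ (g₁ w).2 _ (g₂ u').2, h.ortho' _ (g₁ u).2 _ (g₂ w').2,
      h.ortho _ w.2 _ u'.2, h.ortho' _ u.2 _ w'.2]
  · intro v
    obtain ⟨w, w', rfl⟩ := exists_decomp h v
    rw [glue_apply]
    have e1 : ∀ (a : W) (b : W'), (a : V) + (b : V) ∈ W ↔ b = 0 := by
      intro a b
      constructor
      · intro hab
        have hb : (b : V) ∈ W := by
          have := W.sub_mem hab a.2
          simpa using this
        have hb0 : (b : V) ∈ W ⊓ W' := ⟨hb, b.2⟩
        rw [h.compl.inf_eq_bot, Submodule.mem_bot] at hb0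
        exact Subtype.ext hb0
      · rintro rfl
        simpa using a.2
    rw [e1, e1]
    constructor
    · rintro rfl; exact map_zero g₂
    · intro h0
      exact g₂.injective (h0.trans (map_zero g₂).symm)

/-- the decomposition of the stabilizer of a nondegenerate subspace -/
noncomputable def decompEquiv (h : OrthoDecomp f W W') :
    ↥(isom f ⊓ stab W) ≃* ↥(isomSub f W) × ↥(isomSub f W') where
  toFun g :=
    (⟨(g : V ≃ₗ[F] V).ofSubmodules W W (map_eq_of_stab g.2.2), fun x y => by
        rw [LinearEquiv.ofSubmodules_apply, LinearEquiv.ofSubmodules_apply]; exact g.2.1 _ _⟩,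
     ⟨(g : V ≃ₗ[F] V).ofSubmodules W' W' (map_eq_of_stab (stab' h g.2)), fun x y => by
        rw [LinearEquiv.ofSubmodules_apply, LinearEquiv.ofSubmodules_apply]; exact g.2.1 _ _⟩)
  invFun p := ⟨glue h p.1 p.2, glue_mem h p.1.2 p.2.2⟩
  left_inv g := by
    apply Subtype.ext
    apply LinearEquiv.ext
    intro v
    obtain ⟨w, w', rfl⟩ := exists_decomp h v
    simp only
    rw [glue_apply, LinearEquiv.ofSubmodules_apply, LinearEquiv.ofSubmodules_apply, map_add]
  right_inv p := by
    apply Prod.ext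
    · apply Subtype.ext
      apply LinearEquiv.ext
      intro w
      apply Subtype.ext
      simp only
      rw [LinearEquiv.ofSubmodules_apply]
      have := glue_apply h p.1 p.2 w 0
      simpa using this
    · apply Subtype.ext
      apply LinearEquiv.ext
      intro w'
      apply Subtype.ext
      simp only
      rw [LinearEquiv.ofSubmodules_apply]
      have := glue_apply h p.1 p.2 0 w'
      simpa using this
  map_mul' g g' := by
    apply Prod.ext
    · apply Subtype.ext
      apply LinearEquiv.ext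
      intro w
      apply Subtype.ext
      rfl
    · apply Subtype.ext
      apply LinearEquiv.ext
      intro w
      apply Subtype.ext
      rfl

end decomp

end IsomDecomp

end Cfsg.Agent.Lib.Helper2
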