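import Mathlib
import Cfsg.Agent.Lib.Helper2.IsomDecomp
import Cfsg.Agent.Lib.Helper5.PSLCoset5

set_option autoImplicit false

namespace Cfsg.Agent.Lib.Helper2

namespace HermDecomp

open Module IsomDecomp Cfsg.Agent.Lib.Helper5.PSLCoset

section sigma
variable {F : Type*} [Field F] [Fintype F]

/-- the involutory automorphism of a field with `q^2` elements -/
theorem exists_sigma {q : ℕ} (hF : Fintype.card F = q ^ 2) :
    ∃ σ : F ≃+* F, orderOf σ = 2 ∧ ∀ a : F, σ a = a ^ q := by
  classical
  obtain ⟨p, hchar⟩ := CharP.exists F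
  obtain ⟨n, hp, hn⟩ := FiniteField.card F p
  haveI : Fact p.Prime := ⟨hp⟩
  have hq : q ∣ p ^ (n : ℕ) := by
    rw [← hn, hF, pow_two]
    exact Dvd.intro _ rfl
  obtain ⟨a, ha, rfl⟩ := (Nat.dvd_prime_pow hp).1 hq
  have hbij : Function.Bijective (iterateFrobenius F p a) :=
    Finite.injective_iff_bijective.1 (iterateFrobenius F p a).injective
  obtain ⟨φ, hφ⟩ : ∃ φ : F ≃+* F, φ = RingEquiv.ofBijective (iterateFrobenius F p a) hbij :=
    ⟨_, rfl⟩
  have hφa : ∀ x : F, φ x = x ^ (p ^ a) := by
    intro x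
    rw [hφ]
    rfl
  have hq2 : 2 ≤ p ^ a := by
    have h1 : 1 < Fintype.card F := Fintype.one_lt_card
    rw [hF] at h1
    by_contra hlt
    have : p ^ a ≤ 1 := by omega
    have h2 : (p ^ a) ^ 2 ≤ 1 := by
      calc (p ^ a) ^ 2 ≤ 1 ^ 2 := Nat.pow_le_pow_left this 2
        _ = 1 := one_pow 2
    omega
  have hφ2 : φ ^ 2 = 1 := by
    apply RingEquiv.ext
    intro x
    rw [pow_two]
    show φ (φ x) = x
    rw [hφa, hφa, ← pow_mul, ← pow_two, ← hF]
    exact FiniteField.pow_card x
  have hφ1 : φ ≠ 1 := by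
    intro h1
    obtain ⟨g, hg⟩ := IsCyclic.exists_ofOrder_eq_natCard (α := Fˣ)
    have h2 : (g : F) ^ (p ^ a) = g := by
      rw [← hφa, h1]
      rfl
    have h3 : g ^ (p ^ a - 1) = 1 := by
      apply Units.ext
      rw [Units.val_pow_eq_pow_val, Units.val_one]
      have hg0 : (g : F) ≠ 0 := g.ne_zero
      have h4 : (g : F) ^ (p ^ a - 1) * g = 1 * g := by
        rw [← pow_succ, Nat.sub_add_cancel (by omega), h2, one_mul]
      exact mul_right_cancel₀ hg0 h4
    have h5 : orderOf g ∣ p ^ a - 1 := orderOf_dvd_of_pow_eq_one h3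
    rw [hg, Nat.card_eq_fintype_card, Fintype.card_units, hF] at h5
    have h6 : (p ^ a) ^ 2 - 1 ≤ p ^ a - 1 := Nat.le_of_dvd (by omega) h5
    have h7 : p ^ a < (p ^ a) ^ 2 := by nlinarith
    omega
  exact ⟨φ, orderOf_eq_prime hφ2 hφ1, hφa⟩

end sigma

section generic

variable {F : Type*} [Field F] {σ : F ≃+* F} {V : Type*} [AddCommGroup V] [Module F V]
  {H : V → V → F}

theorem sum_left (h : IsHerm σ H) {ι : Type*} (s : Finset ι) (c : ι → F) (e : ι → V) (w : V) :
    H (∑ i ∈ s, c i • e i) w = ∑ i ∈ s, c i * H (e i) w := by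
  have h1 : H (∑ i ∈ s, c i • e i) w = h.toDual w (∑ i ∈ s, c i • e i) := rfl
  rw [h1, map_sum]
  apply Finset.sum_congr rfl
  intro i _
  rw [map_smul]
  rfl

/-- the orthogonal complement -/
def orthoCompl (h : IsHerm σ H) (W : Submodule F V) : Submodule F V where
  carrier := {v | ∀ w ∈ W, H w v = 0}
  add_mem' := by
    intro a b ha hb w hw
    rw [h.add_right, ha w hw, hb w hw, add_zero]
  zero_mem' := by
    intro w _
    exact h.zero_right w
  smul_mem' := by
    intro c x hx w hw
    rw [h.smul_right, hx w hw, mul_zero]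

theorem mem_orthoCompl (h : IsHerm σ H) (W : Submodule F V) (v : V) :
    v ∈ orthoCompl h W ↔ ∀ w ∈ W, H w v = 0 := Iff.rfl

/-- restriction of a Hermitian form to a subspace -/
theorem isHerm_restrict (h : IsHerm σ H) (U : Submodule F V) :
    IsHerm σ (fun x y : U => H (x : V) (y : V)) where
  add_left := fun u v w => h.add_left _ _ _
  smul_left := fun a v w => h.smul_left _ _ _
  symm := fun v w => h.symm _ _

variable [Finite F]

/-- orthonormal bases of nondegenerate Hermitian spaces over finite fields -/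
theorem exists_onb (hσ : orderOf σ = 2) (h : IsHerm σ H) [FiniteDimensional F V]
    (hnd : ∀ v, (∀ w, H v w = 0) → v = 0) {k : ℕ} (hk : Module.finrank F V = k) :
    ∃ b : Basis (Fin k) F V, ∀ i j, H (b i) (b j) = if i = j then 1 else 0 := by
  classical
  obtain ⟨e, he⟩ := exists_orthonormal hσ k V H h
    (by
      intro v hv
      by_contra hcon
      push Not at hcon
      exact hv (hnd v hcon)) hk
  have hli : LinearIndependent F e := by
    rw [linearIndependent_iff']
    intro s c hc j hj
    have h1 : H (∑ i ∈ s, c i • e i) (e j) = 0 := by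
      rw [hc]
      exact h.zero_left _
    rw [sum_left h] at h1
    simp only [he, mul_ite, mul_one, mul_zero] at h1
    rw [Finset.sum_ite_eq' s j] at h1
    simpa [hj] using h1
  have hcard : Fintype.card (Fin k) = Module.finrank F V := by
    rw [Fintype.card_fin, hk]
  have hsp : Submodule.span F (Set.range e) = ⊤ := hli.span_eq_top_of_card_eq_finrank' hcard
  refine ⟨Basis.mk hli (by rw [hsp]), ?_⟩
  intro i j
  rw [Basis.coe_mk]
  exact he i j

/-- vanishing against a basis -/
theorem eq_zero_of_basis (h : IsHerm σ H) {k : ℕ} (U : Submodule F V) (b : Basis (Fin k) F U)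
    (x : V) (hx : ∀ j, H (b j : V) x = 0) : ∀ w ∈ U, H w x = 0 := by
  intro w hw
  have h1 : (⟨w, hw⟩ : U) = ∑ j, (b.repr ⟨w, hw⟩ j) • b j := (b.sum_repr ⟨w, hw⟩).symm
  have h2 : w = ∑ j, (b.repr ⟨w, hw⟩ j) • (b j : V) := by
    have h3 : ((⟨w, hw⟩ : U) : V) = ((∑ j, (b.repr ⟨w, hw⟩ j) • b j : U) : V) :=
      congrArg Subtype.val h1
    rw [Submodule.coe_sum] at h3
    exact h3
  rw [h2, sum_left h]
  apply Finset.sum_eq_zero
  intro j _
  rw [hx j, mul_zero]

/-- the orthogonal decomposition for a nondegenerate subspace -/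
theorem orthoDecomp (hσ : orderOf σ = 2) (h : IsHerm σ H) [FiniteDimensional F V]
    (W : Submodule F V) (hW : ∀ u ∈ W, (∀ v ∈ W, H u v = 0) → u = 0) :
    OrthoDecomp H W (orthoCompl h W) := by
  classical
  have hσ2 : ∀ a : F, σ (σ a) = a := by
    intro a
    have h2 : σ ^ 2 = 1 := by
      rw [← hσ]
      exact pow_orderOf_eq_one σ
    have := DFunLike.congr_fun h2 a
    rwa [pow_two] at this
  have hdisj : Disjoint W (orthoCompl h W) := by
    rw [Submodule.disjoint_def]
    intro x hx hx'
    apply hW x hx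
    intro v hv
    rw [h.symm v x, hx' v hv, map_zero]
  have hcod : Codisjoint W (orthoCompl h W) := by
    rw [codisjoint_iff, Submodule.eq_top_iff']
    intro v
    obtain ⟨b, hb⟩ := exists_onb (V := W) (H := fun x y : W => H (x : V) (y : V)) hσ
      (isHerm_restrict h W)
      (by
        intro u hu
        apply Subtype.ext
        apply hW u u.2
        intro v hv
        exact hu ⟨v, hv⟩) (k := Module.finrank F W) rfl
    rw [Submodule.mem_sup]
    set P : V := ∑ i, H v (b i : V) • (b i : V) with hP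
    have hPW : P ∈ W := by
      rw [hP]
      apply Submodule.sum_mem
      intro i _
      exact W.smul_mem _ (b i).2
    refine ⟨P, hPW, v - P, ?_, by abel⟩
    rw [mem_orthoCompl]
    apply eq_zero_of_basis h W b
    intro j
    rw [h.sub_right]
    have h1 : H P (b j : V) = H v (b j : V) := by
      rw [hP, sum_left h]
      have : ∀ i, H (b i : V) (b j : V) = if i = j then 1 else 0 := fun i => hb i j
      simp only [this, mul_ite, mul_one, mul_zero]
      rw [Finset.sum_ite_eq' Finset.univ j]
      simp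
    rw [h.symm P (b j : V), h1, ← h.symm, sub_self]
  exact
    { compl := ⟨hdisj, hcod⟩
      add_left := h.add_left
      add_right := h.add_right
      ortho := fun w hw w' hw' => hw' w hw
      ortho' := fun w hw w' hw' => by rw [h.symm w w', hw' w hw, map_zero]
      mem' := fun v hv => hv }

omit [Finite F] in
/-- nondegeneracy of the complement -/
theorem nondeg_orthoCompl (h : IsHerm σ H) (W : Submodule F V)
    (hd : OrthoDecomp H W (orthoCompl h W)) (hnd : ∀ v, (∀ w, H v w = 0) → v = 0) :
    ∀ u ∈ orthoCompl h W, (∀ v ∈ orthoCompl h W, H u v = 0) → u = 0 := by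
  intro u hu hu'
  apply hnd
  intro v
  obtain ⟨w, w', rfl⟩ := exists_decomp hd v
  rw [h.add_right, hu' _ w'.2, add_zero, h.symm, hu w w.2, map_zero]

omit [Finite F] in
/-- the form in orthonormal coordinates -/
theorem form_eq_sum (h : IsHerm σ H) {k : ℕ} (b : Basis (Fin k) F V)
    (hb : ∀ i j, H (b i) (b j) = if i = j then 1 else 0) (u v : V) :
    H u v = ∑ i, b.repr u i * σ (b.repr v i) := by
  classical
  have h1 : ∀ (x : V) (j : Fin k), H x (b j) = b.repr x j := by
    intro x j
    conv_lhs => rw [← b.sum_repr x]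
    rw [sum_left h]
    simp only [hb, mul_ite, mul_one, mul_zero]
    rw [Finset.sum_ite_eq' Finset.univ j]
    simp
  conv_lhs => rw [← b.sum_repr u]
  rw [sum_left h]
  apply Finset.sum_congr rfl
  intro i _
  rw [h.symm v (b i), h1]

end generic

end HermDecomp

end Cfsg.Agent.Lib.Helper2
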