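import Mathlib
import Cfsg.Prelude.Def_LieClassical
import Cfsg.Prelude.Def_ClassicalGeometry
import Cfsg.Agent.Lib.Helper2.HermDecomp

set_option autoImplicit false

namespace Cfsg.Agent.Lib.Helper2

namespace GUIsom

open Matrix Module IsomDecomp HermDecomp Cfsg.Agent.Lib.Helper5.PSLCoset

section grp

variable {G G' : Type*} [Group G] [Group G']

/-- transport of a subgroup along an isomorphism -/
def equivOfMemIff (E : G ≃* G') (S : Subgroup G) (S' : Subgroup G')
    (h : ∀ g, g ∈ S ↔ E g ∈ S') : S ≃* S' where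
  toFun g := ⟨E g, (h g).1 g.2⟩
  invFun g := ⟨E.symm g, (h _).2 (by rw [E.apply_symm_apply]; exact g.2)⟩
  left_inv g := Subtype.ext (E.symm_apply_apply (g : G))
  right_inv g := Subtype.ext (E.apply_symm_apply (g : G'))
  map_mul' a b := Subtype.ext (map_mul E (a : G) (b : G))

/-- `S.subgroupOf K` as the intersection -/
def subgroupOfEquivInf (S K : Subgroup G) : ↥(S.subgroupOf K) ≃* ↥(K ⊓ S) where
  toFun x := ⟨x.1.1, ⟨x.1.2, Subgroup.mem_subgroupOf.1 x.2⟩⟩
  invFun x := ⟨⟨x.1, x.2.1⟩, Subgroup.mem_subgroupOf.2 x.2.2⟩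
  left_inv _ := rfl
  right_inv _ := rfl
  map_mul' _ _ := rfl

end grp

variable {F : Type*} [Field F]

theorem isHerm_hermForm (n q : ℕ) (σ : F ≃+* F) (hσ2 : ∀ a : F, σ (σ a) = a)
    (hσq : ∀ a : F, σ a = a ^ q) : IsHerm σ (Cfsg.hermForm n F q) where
  add_left := by
    intro u v w
    unfold Cfsg.hermForm
    rw [← Finset.sum_add_distrib]
    apply Finset.sum_congr rfl
    intro i _
    rw [Pi.add_apply, add_mul]
  smul_left := by
    intro a v w
    unfold Cfsg.hermForm
    rw [Finset.mul_sum]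
    apply Finset.sum_congr rfl
    intro i _
    rw [Pi.smul_apply, smul_eq_mul, mul_assoc]
  symm := by
    intro v w
    unfold Cfsg.hermForm
    rw [map_sum]
    apply Finset.sum_congr rfl
    intro i _
    rw [map_mul, ← hσq (w i), hσ2, ← hσq, mul_comm]

theorem hermForm_nondeg (n q : ℕ) (hq : q ≠ 0) (v : Fin n → F)
    (hv : ∀ w, Cfsg.hermForm n F q v w = 0) : v = 0 := by
  classical
  funext i
  have := hv (Pi.single i 1)
  unfold Cfsg.hermForm at this
  rw [Finset.sum_eq_single i] at this
  · rw [Pi.single_eq_same, one_pow, mul_one] at this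
    exact this
  · intro j _ hj
    rw [Pi.single_eq_of_ne hj, zero_pow hq, mul_zero]
  · intro h
    exact absurd (Finset.mem_univ i) h

/-- invertible matrices as linear automorphisms -/
noncomputable def glLin (n : ℕ) (F : Type*) [Field F] :
    GL (Fin n) F ≃* ((Fin n → F) ≃ₗ[F] (Fin n → F)) :=
  Matrix.GeneralLinearGroup.toLin.trans (LinearMap.GeneralLinearGroup.generalLinearEquiv F (Fin n → F))

theorem glLin_apply (n : ℕ) (g : GL (Fin n) F) (x : Fin n → F) :
    glLin n F g x = (g : Matrix (Fin n) (Fin n) F) *ᵥ x := rfl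

/-- the stabilizer of a subspace in the unitary group, as a group of linear automorphisms -/
noncomputable def stabEquivGU (n q : ℕ) (W : Submodule F (Fin n → F)) :
    ↥((Cfsg.stabilizing (Cfsg.glToMat (Fin n) F) (W : Set (Fin n → F))).subgroupOf
      (Cfsg.GU n F q)) ≃* ↥(isom (Cfsg.hermForm n F q) ⊓ stab W) :=
  (subgroupOfEquivInf _ _).trans (equivOfMemIff (glLin n F) _ _ (fun _ => Iff.rfl))

/-- automorphisms of a space with a basis as invertible matrices -/
noncomputable def basisGL {V : Type*} [AddCommGroup V] [Module F V] {k : ℕ} (b : Basis (Fin k) F V) :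
    (V ≃ₗ[F] V) ≃* GL (Fin k) F :=
  (LinearMap.GeneralLinearGroup.generalLinearEquiv F V).symm.trans
    (Units.mapEquiv (LinearMap.toMatrixAlgEquiv b).toMulEquiv)

theorem basisGL_coe {V : Type*} [AddCommGroup V] [Module F V] {k : ℕ} (b : Basis (Fin k) F V)
    (g : V ≃ₗ[F] V) :
    ((basisGL b g : GL (Fin k) F) : Matrix (Fin k) (Fin k) F) = LinearMap.toMatrix b b (g : V →ₗ[F] V) :=
  rfl

/-- the isometry group of a subspace with an orthonormal basis is the unitary matrix group -/
noncomputable def isomSubEquivGU {n q k : ℕ} (σ : F ≃+* F) (hσ2 : ∀ a : F, σ (σ a) = a)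
    (hσq : ∀ a : F, σ a = a ^ q) (U : Submodule F (Fin n → F))
    (b : Basis (Fin k) F U)
    (hb : ∀ i j, Cfsg.hermForm n F q (b i : Fin n → F) (b j : Fin n → F) = if i = j then 1 else 0) :
    ↥(isomSub (Cfsg.hermForm n F q) U) ≃* ↥(Cfsg.GU k F q) := by
  classical
  have hform : ∀ u v : U, Cfsg.hermForm n F q (u : Fin n → F) (v : Fin n → F) =
      Cfsg.hermForm k F q (b.repr u) (b.repr v) := by
    intro u v
    have h1 := form_eq_sum (isHerm_restrict (isHerm_hermForm n q σ hσ2 hσq) U) b hb u v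
    rw [h1]
    unfold Cfsg.hermForm
    apply Finset.sum_congr rfl
    intro i _
    rw [hσq]
  refine equivOfMemIff (basisGL b) _ _ ?_
  intro g
  have e : ∀ z : U, (b.repr (g z) : Fin k → F) =
      ((basisGL b g : GL (Fin k) F) : Matrix (Fin k) (Fin k) F) *ᵥ (b.repr z) := by
    intro z
    rw [basisGL_coe, LinearMap.toMatrix_mulVec_repr]
    rfl
  constructor
  · intro hg x y
    show Cfsg.hermForm k F q (((basisGL b g : GL (Fin k) F) : Matrix (Fin k) (Fin k) F) *ᵥ x)
      (((basisGL b g : GL (Fin k) F) : Matrix (Fin k) (Fin k) F) *ᵥ y) = Cfsg.hermForm k F q x y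
    have hx : x = b.repr (b.equivFun.symm x) := by
      have := b.equivFun.apply_symm_apply x
      exact this.symm
    have hy : y = b.repr (b.equivFun.symm y) := by
      have := b.equivFun.apply_symm_apply y
      exact this.symm
    set u := b.equivFun.symm x with hu
    set v := b.equivFun.symm y with hv
    rw [hx, hy, ← e, ← e, ← hform, ← hform]
    exact hg u v
  · intro hg x y
    have h1 : ∀ x y : Fin k → F,
        Cfsg.hermForm k F q (((basisGL b g : GL (Fin k) F) : Matrix (Fin k) (Fin k) F) *ᵥ x)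
      (((basisGL b g : GL (Fin k) F) : Matrix (Fin k) (Fin k) F) *ᵥ y) = Cfsg.hermForm k F q x y := hg
    rw [hform, hform, e, e]
    exact h1 _ _

end GUIsom

end Cfsg.Agent.Lib.Helper2
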