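import Mathlib
import Cfsg.Agent.Lib.Helper2.IsomDecomp
import Cfsg.Agent.Lib.Helper1.StabCard

set_option autoImplicit false

namespace Cfsg.Agent.Lib.Helper2

namespace IsoFrames

open Module IsomDecomp

variable {F : Type*} [Field F] {V : Type*} [AddCommGroup V] [Module F V]

/-- isotropic frames of length `k` -/
def Frame (f : V → V → F) (k : ℕ) : Set (Fin k → V) :=
  {u | LinearIndependent F u ∧ ∀ i j, f (u i) (u j) = 0}

/-- the possible extensions of a frame -/
def Extn (f : V → V → F) {k : ℕ} (u : Fin k → V) : Set V :=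
  {v | v ∉ Submodule.span F (Set.range u) ∧ f v v = 0 ∧ ∀ i, f (u i) v = 0 ∧ f v (u i) = 0}

theorem cons_mem_iff (f : V → V → F) {k : ℕ} (u : Fin k → V) (v : V) :
    (Fin.cons v u : Fin (k + 1) → V) ∈ Frame f (k + 1) ↔ u ∈ Frame f k ∧ v ∈ Extn f u := by
  unfold Frame Extn
  simp only [Set.mem_setOf_eq]
  rw [linearIndependent_finCons]
  constructor
  · rintro ⟨⟨h1, h2⟩, h3⟩
    refine ⟨⟨h1, fun i j => ?_⟩, h2, ?_, fun i => ⟨?_, ?_⟩⟩
    · have := h3 i.succ j.succ
      simpa using this
    · have := h3 0 0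
      simpa using this
    · have := h3 i.succ 0
      simpa using this
    · have := h3 0 i.succ
      simpa using this
  · rintro ⟨⟨h1, h2⟩, h3, h4, h5⟩
    refine ⟨⟨h1, h3⟩, ?_⟩
    intro i j
    refine Fin.cases ?_ (fun i' => ?_) i <;> refine Fin.cases ?_ (fun j' => ?_) j
    · simpa using h4
    · simpa using (h5 j').2
    · simpa using (h5 i').1
    · simpa using h2 i' j'

/-- peeling off the first vector of a frame -/
def frameEquiv (f : V → V → F) (k : ℕ) :
    ↥(Frame f (k + 1)) ≃ Σ u : ↥(Frame f k), ↥(Extn f (u : Fin k → V)) where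
  toFun s :=
    have h : Fin.tail s.1 ∈ Frame f k ∧ s.1 0 ∈ Extn f (Fin.tail s.1) := by
      rw [← cons_mem_iff, Fin.cons_self_tail]
      exact s.2
    ⟨⟨Fin.tail s.1, h.1⟩, ⟨s.1 0, h.2⟩⟩
  invFun s := ⟨Fin.cons s.2.1 s.1.1, (cons_mem_iff f s.1.1 s.2.1).2 ⟨s.1.2, s.2.2⟩⟩
  left_inv s := by
    apply Subtype.ext
    simp only [Fin.cons_self_tail]
  right_inv := fun ⟨⟨u, hu⟩, ⟨v, hv⟩⟩ => by
    simp only [Fin.cons_zero, Fin.tail_cons]
    rfl

theorem card_frame [Finite V] (f : V → V → F) (c : ℕ → ℕ) (k : ℕ)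
    (hc : ∀ j < k, ∀ u ∈ Frame f j, Nat.card ↥(Extn f u) = c j) :
    Nat.card ↥(Frame f k) = ∏ j ∈ Finset.range k, c j := by
  induction k with
  | zero =>
    have : Frame f 0 = Set.univ := by
      ext u
      simp only [Frame, Set.mem_ofPred_eq, Set.mem_univ, iff_true]
      exact ⟨linearIndependent_empty_type, fun i => i.elim0⟩
    rw [this, Finset.range_zero, Finset.prod_empty, Nat.card_congr (Equiv.Set.univ _)]
    simp
  | succ k ih =>
    letI : Fintype ↥(Frame f k) := Fintype.ofFinite _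
    rw [Nat.card_congr (frameEquiv f k), Nat.card_sigma, Finset.prod_range_succ,
      ← ih (fun j hj => hc j (Nat.lt_succ_of_lt hj))]
    rw [Finset.sum_congr rfl (fun u _ => hc k (Nat.lt_succ_self k) u.1 u.2)]
    rw [Finset.sum_const, Finset.card_univ, smul_eq_mul, Nat.card_eq_fintype_card]

theorem smul_mem_frame {f : V → V → F} {k : ℕ} {g : V ≃ₗ[F] V} (hg : g ∈ isom f)
    {u : Fin k → V} (hu : u ∈ Frame f k) : g • u ∈ Frame f k := by
  refine ⟨?_, fun i j => ?_⟩
  · exact hu.1.map' (g : V →ₗ[F] V) (LinearEquiv.ker g)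
  · show f (g (u i)) (g (u j)) = 0
    rw [hg]
    exact hu.2 i j

/-- bases of a subspace, as tuples of vectors of the ambient space -/
def BasesOf (W : Submodule F V) (k : ℕ) : Set (Fin k → V) :=
  {u | LinearIndependent F u ∧ ∀ i, u i ∈ W}

theorem ncard_basesOf (W : Submodule F V) (k : ℕ) :
    (BasesOf W k).ncard = Nat.card {s : Fin k → W // LinearIndependent F s} := by
  rw [← Nat.card_coe_set_eq]
  apply Nat.card_congr
  refine ⟨fun u => ⟨fun i => ⟨u.1 i, u.2.2 i⟩, ?_⟩, fun s => ⟨fun i => (s.1 i : V), ?_, ?_⟩, ?_, ?_⟩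
  · apply LinearIndependent.of_comp W.subtype
    exact u.2.1
  · exact s.2.map' W.subtype (Submodule.ker_subtype W)
  · intro i
    exact (s.1 i).2
  · intro u
    rfl
  · intro s
    rfl

theorem span_eq_of_mem_basesOf [FiniteDimensional F V] {W : Submodule F V} {k : ℕ}
    (hk : finrank F W = k) {u : Fin k → V} (hu : u ∈ BasesOf W k) :
    Submodule.span F (Set.range u) = W := by
  have h1 : LinearIndependent F (fun i => (⟨u i, hu.2 i⟩ : W)) := by
    apply LinearIndependent.of_comp W.subtype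
    exact hu.1
  have h2 := h1.span_eq_top_of_card_eq_finrank' (by rw [Fintype.card_fin, hk])
  have h3 := congrArg (Submodule.map W.subtype) h2
  rw [Submodule.map_span, Submodule.map_top, Submodule.range_subtype, ← Set.range_comp] at h3
  exact h3

theorem mem_stab_of_map {W : Submodule F V} {g : V ≃ₗ[F] V}
    (h : W.map (g : V →ₗ[F] V) = W) : g ∈ stab W := by
  intro v
  constructor
  · intro hv
    rw [← h]
    exact ⟨v, hv, rfl⟩
  · intro hv
    rw [← h] at hv
    obtain ⟨w, hw, hwv⟩ := hv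
    have : w = v := g.injective hwv
    rw [← this]
    exact hw

/-- the orbit-stabilizer count for the stabilizer of a totally isotropic subspace -/
theorem card_stab_mul [FiniteDimensional F V] (f : V → V → F) (k : ℕ)
    (htrans : ∀ u ∈ Frame f k, ∀ u' ∈ Frame f k, ∃ g ∈ isom f, ∀ i, g (u i) = u' i)
    (W : Submodule F V) (hWk : finrank F W = k) (hW : ∀ x ∈ W, ∀ y ∈ W, f x y = 0) :
    Nat.card ↥(isom f ⊓ stab W) * (Frame f k).ncard =
      Nat.card {s : Fin k → W // LinearIndependent F s} * Nat.card ↥(isom f) := by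
  classical
  let b : Basis (Fin k) F W := finBasisOfFinrankEq F W hWk
  set u₀ : Fin k → V := fun i => (b i : V) with hu₀
  have hu₀B : u₀ ∈ BasesOf W k :=
    ⟨b.linearIndependent.map' W.subtype (Submodule.ker_subtype W), fun i => (b i).2⟩
  have hBF : ∀ u, u ∈ BasesOf W k → u ∈ Frame f k :=
    fun u hu => ⟨hu.1, fun i j => hW _ (hu.2 i) _ (hu.2 j)⟩
  have hu₀F : u₀ ∈ Frame f k := hBF u₀ hu₀B
  have hspan₀ := span_eq_of_mem_basesOf hWk hu₀B
  have h1 := Cfsg.Agent.Lib.Helper1.StabCard.card_subgroup_eq_orbit_mul (isom f) u₀ (Frame f k)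
    (by
      intro r
      constructor
      · intro hr
        obtain ⟨g, hg, hgu⟩ := htrans u₀ hu₀F r hr
        exact ⟨g, hg, funext hgu⟩
      · rintro ⟨g, hg, rfl⟩
        exact smul_mem_frame hg hu₀F)
  have h2 := Cfsg.Agent.Lib.Helper1.StabCard.card_subgroup_eq_orbit_mul (isom f ⊓ stab W) u₀
    (BasesOf W k)
    (by
      intro r
      constructor
      · intro hr
        obtain ⟨g, hg, hgu⟩ := htrans u₀ hu₀F r (hBF r hr)
        refine ⟨g, ⟨hg, ?_⟩, funext hgu⟩
        apply mem_stab_of_map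
        have : (⇑(g : V →ₗ[F] V) ∘ u₀) = r := funext hgu
        conv_lhs => rw [← hspan₀]
        rw [Submodule.map_span, ← Set.range_comp, this]
        exact span_eq_of_mem_basesOf hWk hr
      · rintro ⟨g, hg, rfl⟩
        refine ⟨hu₀B.1.map' (g : V →ₗ[F] V) (LinearEquiv.ker g), fun i => ?_⟩
        exact (hg.2 (u₀ i)).1 (hu₀B.2 i))
  have h3 : (isom f ⊓ stab W) ⊓ MulAction.stabilizer (V ≃ₗ[F] V) u₀ =
      isom f ⊓ MulAction.stabilizer (V ≃ₗ[F] V) u₀ := by
    apply le_antisymm
    · exact inf_le_inf_right _ inf_le_left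
    · rintro g ⟨hg1, hg2⟩
      refine ⟨⟨hg1, ?_⟩, hg2⟩
      replace hg2 : g • u₀ = u₀ := MulAction.mem_stabilizer_iff.1 hg2
      have hfix : ∀ w ∈ W, g w = w := by
        intro w hw
        rw [← hspan₀] at hw
        induction hw using Submodule.span_induction with
        | mem x hx =>
          obtain ⟨i, rfl⟩ := hx
          exact congrFun hg2 i
        | zero => exact map_zero g
        | add x y _ _ hx hy => rw [map_add, hx, hy]
        | smul c x _ hx => rw [map_smul, hx]
      intro v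
      constructor
      · intro hv
        rw [hfix v hv]
        exact hv
      · intro hv
        have := hfix _ hv
        rw [g.injective this] at hv
        exact hv
  rw [h2, h3, ncard_basesOf, h1]
  ring

end IsoFrames

end Cfsg.Agent.Lib.Helper2
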