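import Mathlib
import Cfsg.Agent.Lib.Helper2.IsoFrames

set_option autoImplicit false

namespace Cfsg.Agent.Lib.Helper2

namespace IsoFrames

open Module IsomDecomp

variable {F : Type*} [Field F] {V : Type*} [AddCommGroup V] [Module F V]

/-- totally isotropic subspaces of dimension `k` -/
def TI (f : V → V → F) (k : ℕ) : Set (Submodule F V) :=
  {W | finrank F W = k ∧ ∀ x ∈ W, ∀ y ∈ W, f x y = 0}

theorem ncard_submodule [Fintype F] [Finite V] (U : Submodule F V) :
    (U : Set V).ncard = Fintype.card F ^ finrank F U := by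
  rw [← Nat.card_coe_set_eq]
  show Nat.card ↥U = _
  rw [Module.natCard_eq_pow_finrank (K := F), Nat.card_eq_fintype_card]

/-- frames versus subspaces -/
theorem ncard_frame_eq [Fintype F] [Finite V] (f : V → V → F) (k : ℕ)
    (hspan : ∀ u ∈ Frame f k, ∀ x ∈ Submodule.span F (Set.range u),
      ∀ y ∈ Submodule.span F (Set.range u), f x y = 0) :
    (Frame f k).ncard =
      (TI f k).ncard * ∏ i : Fin k, (Fintype.card F ^ k - Fintype.card F ^ (i : ℕ)) := by
  classical
  haveI : FiniteDimensional F V := Module.Finite.of_finite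
  let φ : ↥(Frame f k) → ↥(TI f k) := fun u =>
    ⟨Submodule.span F (Set.range u.1),
      by rw [finrank_span_eq_card u.2.1, Fintype.card_fin], hspan u.1 u.2⟩
  letI : Fintype ↥(TI f k) := Fintype.ofFinite _
  rw [← Nat.card_coe_set_eq, ← Nat.card_congr (Equiv.sigmaFiberEquiv φ), Nat.card_sigma]
  have hfib : ∀ W : ↥(TI f k), Nat.card {u // φ u = W} =
      ∏ i : Fin k, (Fintype.card F ^ k - Fintype.card F ^ (i : ℕ)) := by
    intro W
    have e : {u // φ u = W} ≃ ↥(BasesOf W.1 k) :=
      { toFun := fun u => ⟨u.1.1, u.1.2.1, fun i => by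
          have := congrArg Subtype.val u.2
          rw [← this]
          exact Submodule.subset_span ⟨i, rfl⟩⟩
        invFun := fun b => ⟨⟨b.1, b.2.1, fun i j => W.2.2 _ (b.2.2 i) _ (b.2.2 j)⟩,
          Subtype.ext (span_eq_of_mem_basesOf W.2.1 b.2)⟩
        left_inv := fun u => rfl
        right_inv := fun b => rfl }
    rw [Nat.card_congr e, Nat.card_coe_set_eq, ncard_basesOf,
      card_linearIndependent (le_of_eq W.2.1.symm), W.2.1]
  rw [Finset.sum_congr rfl (fun W _ => hfib W), Finset.sum_const, Finset.card_univ, smul_eq_mul,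
    ← Nat.card_eq_fintype_card, Nat.card_coe_set_eq]

/-- extensions of a frame versus subspaces containing its span -/
theorem ncard_extn_eq [Fintype F] [Finite V] (f : V → V → F) {j : ℕ} (u : Fin j → V)
    (hu : u ∈ Frame f j)
    (hspan : ∀ u ∈ Frame f (j + 1), ∀ x ∈ Submodule.span F (Set.range u),
      ∀ y ∈ Submodule.span F (Set.range u), f x y = 0) :
    (Extn f u).ncard =
      {W | W ∈ TI f (j + 1) ∧ Submodule.span F (Set.range u) ≤ W}.ncard *
        (Fintype.card F ^ (j + 1) - Fintype.card F ^ j) := by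
  classical
  haveI : FiniteDimensional F V := Module.Finite.of_finite
  set T : Set (Submodule F V) := {W | W ∈ TI f (j + 1) ∧ Submodule.span F (Set.range u) ≤ W}
    with hT
  have hcons : ∀ w ∈ Extn f u, (Fin.cons w u : Fin (j + 1) → V) ∈ Frame f (j + 1) :=
    fun w hw => (cons_mem_iff f u w).2 ⟨hu, hw⟩
  let φ : ↥(Extn f u) → ↥T := fun w =>
    ⟨Submodule.span F (Set.range (Fin.cons w.1 u : Fin (j + 1) → V)),
      ⟨by rw [finrank_span_eq_card (hcons w.1 w.2).1, Fintype.card_fin],
        hspan _ (hcons w.1 w.2)⟩, by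
        apply Submodule.span_mono
        rintro _ ⟨i, rfl⟩
        exact ⟨i.succ, by simp⟩⟩
  letI : Fintype ↥T := Fintype.ofFinite _
  rw [← Nat.card_coe_set_eq, ← Nat.card_congr (Equiv.sigmaFiberEquiv φ), Nat.card_sigma]
  have hfib : ∀ W : ↥T, Nat.card {w // φ w = W} =
      Fintype.card F ^ (j + 1) - Fintype.card F ^ j := by
    intro W
    have e : {w // φ w = W} ≃
        ↥(((W.1 : Submodule F V) : Set V) \ (Submodule.span F (Set.range u) : Submodule F V)) :=
      { toFun := fun w => ⟨w.1.1, by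
          have := congrArg Subtype.val w.2
          refine ⟨?_, w.1.2.1⟩
          rw [← this]
          exact Submodule.subset_span ⟨0, by simp⟩⟩
        invFun := fun w =>
          have hw : w.1 ∈ Extn f u := ⟨w.2.2, W.2.1.2 _ w.2.1 _ w.2.1, fun i =>
            ⟨W.2.1.2 _ (W.2.2 (Submodule.subset_span ⟨i, rfl⟩)) _ w.2.1,
              W.2.1.2 _ w.2.1 _ (W.2.2 (Submodule.subset_span ⟨i, rfl⟩))⟩⟩
          ⟨⟨w.1, hw⟩, Subtype.ext (span_eq_of_mem_basesOf W.2.1.1
            ⟨(hcons w.1 hw).1, fun i => by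
              refine Fin.cases ?_ (fun i' => ?_) i
              · simpa using w.2.1
              · simpa using W.2.2 (Submodule.subset_span ⟨i', rfl⟩)⟩)⟩
        left_inv := fun w => rfl
        right_inv := fun w => rfl }
    rw [Nat.card_congr e, Nat.card_coe_set_eq, Set.ncard_sdiff (fun x hx => W.2.2 hx),
      ncard_submodule, ncard_submodule, W.2.1.1, finrank_span_eq_card hu.1, Fintype.card_fin]
  rw [Finset.sum_congr rfl (fun W _ => hfib W), Finset.sum_const, Finset.card_univ, smul_eq_mul,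
    ← Nat.card_eq_fintype_card, Nat.card_coe_set_eq]

/-- orbit-stabilizer for a subgroup containing the stabilizer of a frame -/
theorem card_mul_of_stabilizer_le [FiniteDimensional F V] (f : V → V → F) (k : ℕ)
    (htrans : ∀ u ∈ Frame f k, ∀ u' ∈ Frame f k, ∃ g ∈ isom f, ∀ i, g (u i) = u' i)
    (H : Subgroup (V ≃ₗ[F] V)) (hH : H ≤ isom f) (u₀ : Fin k → V) (hu₀ : u₀ ∈ Frame f k)
    (hle : isom f ⊓ MulAction.stabilizer (V ≃ₗ[F] V) u₀ ≤ H) (O : Set (Fin k → V))
    (hO : ∀ r, r ∈ O ↔ ∃ g ∈ H, g • u₀ = r) :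
    Nat.card ↥H * (Frame f k).ncard = O.ncard * Nat.card ↥(isom f) := by
  have h1 := Cfsg.Agent.Lib.Helper1.StabCard.card_subgroup_eq_orbit_mul (isom f) u₀ (Frame f k)
    (by
      intro r
      constructor
      · intro hr
        obtain ⟨g, hg, hgu⟩ := htrans u₀ hu₀ r hr
        exact ⟨g, hg, funext hgu⟩
      · rintro ⟨g, hg, rfl⟩
        exact smul_mem_frame hg hu₀)
  have h2 := Cfsg.Agent.Lib.Helper1.StabCard.card_subgroup_eq_orbit_mul H u₀ O hO
  have h3 : H ⊓ MulAction.stabilizer (V ≃ₗ[F] V) u₀ =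
      isom f ⊓ MulAction.stabilizer (V ≃ₗ[F] V) u₀ := by
    apply le_antisymm
    · exact inf_le_inf_right _ hH
    · exact le_inf hle inf_le_right
  rw [h2, h3, h1]
  ring

end IsoFrames

end Cfsg.Agent.Lib.Helper2
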