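import Mathlib
import Cfsg.Agent.Lib.Helper2.HermDecomp

set_option autoImplicit false

namespace Cfsg.Agent.Lib.Helper2

namespace WittHerm

open Module IsomDecomp HermDecomp Cfsg.Agent.Lib.Helper5.PSLCoset

universe u v

variable {F : Type u} [Field F] {σ : F ≃+* F} {V : Type v} [AddCommGroup V] [Module F V]
  {H : V → V → F}

theorem sigma_sigma (hσ : orderOf σ = 2) (a : F) : σ (σ a) = a := by
  have h2 : σ ^ 2 = 1 := by
    rw [← hσ]
    exact pow_orderOf_eq_one σ
  have := DFunLike.congr_fun h2 a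
  rwa [pow_two] at this

/-- surjectivity of the trace -/
theorem exists_trace (hσ : orderOf σ = 2) (c : F) (hc : σ c = c) : ∃ a : F, a + σ a = c := by
  have hσ2 := sigma_sigma hσ
  have hσ1 : σ ≠ 1 := by
    intro h1
    rw [h1, orderOf_one] at hσ
    omega
  obtain ⟨μ, hμ⟩ : ∃ μ : F, μ + σ μ ≠ 0 := by
    by_cases h2 : (1 : F) + 1 = 0
    · have hne : ∃ μ : F, σ μ ≠ μ := by
        by_contra hcon
        push Not at hcon
        apply hσ1
        apply RingEquiv.ext
        intro x
        exact hcon x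
      obtain ⟨μ, hμ⟩ := hne
      refine ⟨μ, ?_⟩
      intro h0
      apply hμ
      have h3 : μ + μ = 0 := by
        have : μ + μ = μ * (1 + 1) := by ring
        rw [this, h2, mul_zero]
      have h4 : μ + σ μ = μ + μ := by rw [h0, h3]
      exact add_left_cancel h4
    · exact ⟨1, by rw [map_one]; exact h2⟩
  set t := μ + σ μ with ht
  have hσt : σ t = t := by rw [ht, map_add, hσ2, add_comm]
  refine ⟨c * μ / t, ?_⟩
  rw [map_div₀, map_mul, hc, hσt]
  field_simp
  rw [ht]

theorem self_fixed (h : IsHerm σ H) (v : V) : σ (H v v) = H v v := (h.symm v v).symm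

variable [Finite F] [FiniteDimensional F V]

/-- Riesz representation -/
theorem riesz (hσ : orderOf σ = 2) (h : IsHerm σ H) (hnd : ∀ v, (∀ w, H v w = 0) → v = 0)
    (l : Module.Dual F V) : ∃ w : V, ∀ u, H u w = l u := by
  classical
  have hσ2 := sigma_sigma hσ
  obtain ⟨b, hb⟩ := exists_onb hσ h hnd (k := finrank F V) rfl
  refine ⟨∑ i, σ (l (b i)) • b i, ?_⟩
  intro u
  rw [h.symm, sum_left h, map_sum]
  have h1 : ∀ i, σ (σ (l (b i)) * H (b i) u) = l (b i) * H u (b i) := by
    intro i
    rw [map_mul, hσ2, ← h.symm]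
  simp only [h1]
  have h2 : ∀ i, H u (b i) = b.repr u i := by
    intro i
    have := form_eq_sum h b hb u (b i)
    rw [this]
    simp only [Basis.repr_self, Finsupp.single_apply]
    rw [Finset.sum_eq_single i]
    · rw [if_pos rfl, map_one, mul_one]
    · intro j _ hj
      rw [if_neg (Ne.symm hj), map_zero, mul_zero]
    · intro hi
      exact absurd (Finset.mem_univ i) hi
  simp only [h2]
  conv_rhs => rw [← b.sum_repr u]
  rw [map_sum]
  apply Finset.sum_congr rfl
  intro i _
  rw [map_smul, smul_eq_mul, mul_comm]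

/-- the one-step extension -/
theorem exists_ext_vectors (hσ : orderOf σ = 2) (h : IsHerm σ H)
    (hnd : ∀ v, (∀ w, H v w = 0) → v = 0)
    {U : Type*} [AddCommGroup U] [Module F U] [FiniteDimensional F U] (f₁ f₂ : U →ₗ[F] V)
    (h₁ : Function.Injective f₁) (h₂ : Function.Injective f₂)
    (hiso : ∀ a b, H (f₁ a) (f₁ b) = H (f₂ a) (f₂ b))
    (hne : LinearMap.range f₁ ≠ ⊤) :
    ∃ v w : V, v ∉ LinearMap.range f₁ ∧ w ∉ LinearMap.range f₂ ∧
      (∀ a, H (f₁ a) v = H (f₂ a) w) ∧ H v v = H w w := by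
  classical
  have hσ2 := sigma_sigma hσ
  by_cases hrad : ∃ a₀ : U, a₀ ≠ 0 ∧ ∀ a, H (f₁ a) (f₁ a₀) = 0
  · obtain ⟨a₀, ha₀, hrad⟩ := hrad
    -- a functional
    obtain ⟨l, hl⟩ : ∃ l : Module.Dual F U, l a₀ = 1 := by
      have : ¬ ∀ φ : Module.Dual F U, φ a₀ = 0 := fun hcon =>
        ha₀ ((Module.forall_dual_apply_eq_zero_iff F a₀).1 hcon)
      push Not at this
      obtain ⟨φ, hφ⟩ := this
      refine ⟨(φ a₀)⁻¹ • φ, ?_⟩
      rw [LinearMap.smul_apply, smul_eq_mul, inv_mul_cancel₀ hφ]
    have key : ∀ (f : U →ₗ[F] V), Function.Injective f → (∀ a, H (f a) (f a₀) = 0) →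
        ∃ v : V, v ∉ LinearMap.range f ∧ (∀ a, H (f a) v = l a) ∧ H v v = 0 := by
      intro f hf hr
      obtain ⟨r, hr'⟩ := LinearMap.exists_leftInverse_of_injective f (LinearMap.ker_eq_bot.mpr hf)
      have hrf : ∀ a, r (f a) = a := by
        intro a
        have := congrArg (fun φ => φ a) hr'
        simpa using this
      obtain ⟨v₀, hv₀⟩ := riesz hσ h hnd (l.comp r)
      have hv₀' : ∀ a, H (f a) v₀ = l a := by
        intro a
        rw [hv₀, LinearMap.comp_apply, hrf]
      obtain ⟨c, hc⟩ := exists_trace hσ (-H v₀ v₀) (by rw [map_neg, self_fixed h])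
      refine ⟨v₀ + c • f a₀, ?_, ?_, ?_⟩
      · rintro ⟨a', ha'⟩
        have h3 : H (f a₀) (v₀ + c • f a₀) = 1 := by
          rw [h.add_right, h.smul_right, hr a₀, mul_zero, add_zero, hv₀', hl]
        rw [← ha', h.symm, hr a', map_zero] at h3
        exact zero_ne_one h3
      · intro a
        rw [h.add_right, h.smul_right, hr a, mul_zero, add_zero, hv₀']
      · rw [h.add_left, h.add_right, h.add_right, h.smul_left, h.smul_left, h.smul_right,
          h.smul_right, hr a₀, hv₀' a₀, hl, h.symm (f a₀) v₀, hv₀' a₀, hl, map_one]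
        linear_combination hc
    obtain ⟨v, hv1, hv2, hv3⟩ := key f₁ h₁ hrad
    obtain ⟨w, hw1, hw2, hw3⟩ := key f₂ h₂ (fun a => by rw [← hiso]; exact hrad a)
    exact ⟨v, w, hv1, hw1, fun a => by rw [hv2, hw2], by rw [hv3, hw3]⟩
  · push Not at hrad
    have hrad' : ∀ a₀ : U, (∀ a, H (f₁ a) (f₁ a₀) = 0) → a₀ = 0 := by
      intro a₀ ha₀
      by_contra hne0
      obtain ⟨a, ha⟩ := hrad a₀ hne0
      exact ha (ha₀ a)
    have key : ∀ (f : U →ₗ[F] V), Function.Injective f → LinearMap.range f ≠ ⊤ →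
        (∀ a₀ : U, (∀ a, H (f a) (f a₀) = 0) → a₀ = 0) →
        ∃ v : V, v ∉ LinearMap.range f ∧ (∀ a, H (f a) v = 0) ∧ H v v = 1 := by
      intro f hf hne' hr
      set X := LinearMap.range f with hX
      have hXnd : ∀ u ∈ X, (∀ v ∈ X, H u v = 0) → u = 0 := by
        rintro _ ⟨a₀, rfl⟩ hu
        have : a₀ = 0 := by
          apply hr
          intro a
          rw [h.symm, hu _ ⟨a, rfl⟩, map_zero]
        rw [this, map_zero]
      have hdec := orthoDecomp hσ h X hXnd
      have hnd' := nondeg_orthoCompl h X hdec hnd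
      have hpos : 0 < finrank F (orthoCompl h X) := by
        rw [Module.finrank_pos_iff_exists_ne_zero]
        by_contra hcon
        push Not at hcon
        apply hne'
        have hbot : orthoCompl h X = ⊥ := by
          rw [Submodule.eq_bot_iff]
          intro x hx
          have := hcon ⟨x, hx⟩
          exact congrArg Subtype.val this
        have := hdec.compl.sup_eq_top
        rwa [hbot, sup_bot_eq] at this
      obtain ⟨b, hb⟩ := exists_onb (V := orthoCompl h X)
        (H := fun x y : orthoCompl h X => H (x : V) (y : V)) hσ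
        (isHerm_restrict h (orthoCompl h X))
        (by
          intro u hu
          apply Subtype.ext
          apply hnd' u u.2
          intro v hv
          exact hu ⟨v, hv⟩) (k := finrank F (orthoCompl h X)) rfl
      set i₀ : Fin (finrank F (orthoCompl h X)) := ⟨0, hpos⟩
      refine ⟨(b i₀ : V), ?_, ?_, ?_⟩
      · intro hmem
        have h0 : (b i₀ : V) ∈ X ⊓ orthoCompl h X := ⟨hmem, (b i₀).2⟩
        rw [hdec.compl.inf_eq_bot, Submodule.mem_bot] at h0
        have h1 := hb i₀ i₀
        rw [if_pos rfl] at h1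
        have h2 : H (b i₀ : V) (b i₀ : V) = 1 := h1
        rw [h0, h.zero_left] at h2
        exact zero_ne_one h2
      · intro a
        exact (b i₀).2 _ ⟨a, rfl⟩
      · have h1 := hb i₀ i₀
        rw [if_pos rfl] at h1
        exact h1
    have hne₂ : LinearMap.range f₂ ≠ ⊤ := by
      intro htop
      apply hne
      apply Submodule.eq_top_of_finrank_eq
      rw [LinearMap.finrank_range_of_inj h₁, ← LinearMap.finrank_range_of_inj h₂, htop, finrank_top]
    obtain ⟨v, hv1, hv2, hv3⟩ := key f₁ h₁ hne hrad'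
    obtain ⟨w, hw1, hw2, hw3⟩ := key f₂ h₂ hne₂
      (fun a₀ ha₀ => hrad' a₀ (fun a => by rw [hiso]; exact ha₀ a))
    exact ⟨v, w, hv1, hw1, fun a => by rw [hv2, hw2], by rw [hv3, hw3]⟩

/-- **Witt's lemma** for Hermitian forms over finite fields, for pairs of injective maps -/
theorem witt_aux (hσ : orderOf σ = 2) (h : IsHerm σ H) (hnd : ∀ v, (∀ w, H v w = 0) → v = 0) :
    ∀ (n : ℕ) (U : Type (max v u)) [AddCommGroup U] [Module F U] [FiniteDimensional F U]
      (f₁ f₂ : U →ₗ[F] V), finrank F V - finrank F U = n → Function.Injective f₁ →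
      Function.Injective f₂ → (∀ a b, H (f₁ a) (f₁ b) = H (f₂ a) (f₂ b)) →
      ∃ g : V ≃ₗ[F] V, (∀ x y, H (g x) (g y) = H x y) ∧ ∀ a, g (f₁ a) = f₂ a := by
  intro n
  induction n with
  | zero =>
    intro U _ _ _ f₁ f₂ hn h₁ h₂ hiso
    have hle : finrank F U ≤ finrank F V := LinearMap.finrank_le_finrank_of_injective h₁
    have heq : finrank F U = finrank F V := by omega
    have hs₁ : Function.Surjective f₁ :=
      (LinearMap.injective_iff_surjective_of_finrank_eq_finrank heq).mp h₁
    have hs₂ : Function.Surjective f₂ :=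
      (LinearMap.injective_iff_surjective_of_finrank_eq_finrank heq).mp h₂
    set e₁ := LinearEquiv.ofBijective f₁ ⟨h₁, hs₁⟩ with he₁
    set e₂ := LinearEquiv.ofBijective f₂ ⟨h₂, hs₂⟩ with he₂
    have hg : ∀ a, (e₁.symm.trans e₂) (f₁ a) = f₂ a := by
      intro a
      have : e₁.symm (f₁ a) = a := by
        rw [LinearEquiv.symm_apply_eq]; rfl
      rw [LinearEquiv.trans_apply, this]
      rfl
    refine ⟨e₁.symm.trans e₂, ?_, hg⟩
    intro x y
    obtain ⟨a, rfl⟩ := hs₁ x
    obtain ⟨b, rfl⟩ := hs₁ y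
    rw [hg, hg, hiso]
  | succ n ih =>
    intro U _ _ _ f₁ f₂ hn h₁ h₂ hiso
    have hne : LinearMap.range f₁ ≠ ⊤ := by
      intro htop
      have h3 : finrank F ↥(LinearMap.range f₁) = finrank F U := LinearMap.finrank_range_of_inj h₁
      rw [htop, finrank_top] at h3
      omega
    obtain ⟨v, w, hv, hw, hvw, hvv⟩ := exists_ext_vectors hσ h hnd f₁ f₂ h₁ h₂ hiso hne
    set f₁' : U × F →ₗ[F] V := f₁.coprod (LinearMap.toSpanSingleton F V v) with hf₁'
    set f₂' : U × F →ₗ[F] V := f₂.coprod (LinearMap.toSpanSingleton F V w) with hf₂'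
    have hf₁a : ∀ p : U × F, f₁' p = f₁ p.1 + p.2 • v := by
      intro p
      rw [hf₁', LinearMap.coprod_apply, LinearMap.toSpanSingleton_apply]
    have hf₂a : ∀ p : U × F, f₂' p = f₂ p.1 + p.2 • w := by
      intro p
      rw [hf₂', LinearMap.coprod_apply, LinearMap.toSpanSingleton_apply]
    have hinj : ∀ (f : U →ₗ[F] V) (z : V), Function.Injective f → z ∉ LinearMap.range f →
        Function.Injective (f.coprod (LinearMap.toSpanSingleton F V z)) := by
      intro f z hf hz
      rw [← LinearMap.ker_eq_bot, LinearMap.ker_eq_bot']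
      rintro ⟨a, c⟩ hac
      rw [LinearMap.coprod_apply, LinearMap.toSpanSingleton_apply] at hac
      simp only at hac
      have hc : c = 0 := by
        by_contra hc
        apply hz
        refine ⟨-(c⁻¹ • a), ?_⟩
        have h3 : c • z = -f a := eq_neg_of_add_eq_zero_right hac
        rw [map_neg, map_smul, neg_eq_iff_eq_neg]
        calc c⁻¹ • f a = c⁻¹ • (-(c • z)) := by rw [h3, neg_neg]
          _ = -z := by rw [smul_neg, smul_smul, inv_mul_cancel₀ hc, one_smul]
      rw [hc, zero_smul, add_zero] at hac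
      have ha : a = 0 := hf (by rw [hac, map_zero])
      rw [ha, hc]
      rfl
    have hrank : finrank F V - finrank F (U × F) = n := by
      rw [Module.finrank_prod, Module.finrank_self]
      omega
    have hiso' : ∀ p q : U × F, H (f₁' p) (f₁' q) = H (f₂' p) (f₂' q) := by
      intro p q
      rw [hf₁a, hf₁a, hf₂a, hf₂a]
      simp only [h.add_left, h.add_right, h.smul_left, h.smul_right]
      rw [hiso, hvw p.1, h.symm (f₁ q.1) v, h.symm (f₂ q.1) w, hvw q.1, hvv]
    obtain ⟨g, hg1, hg2⟩ := ih (U × F) f₁' f₂' hrank (hinj f₁ v h₁ hv) (hinj f₂ w h₂ hw) hiso'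
    refine ⟨g, hg1, fun a => ?_⟩
    have := hg2 (a, 0)
    rw [hf₁a, hf₂a] at this
    simpa using this

end WittHerm

end Cfsg.Agent.Lib.Helper2
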