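import Mathlib
import Cfsg.Agent.Lib.Helper2.HermDecomp
import Cfsg.Agent.Lib.Helper2.WittHerm
import Cfsg.Agent.Lib.Helper2.IsoFrames2
import Cfsg.Prelude
import Cfsg.Agent.Lib.Helper2.GUIsom
import Cfsg.Agent.S0285

set_option autoImplicit false

namespace Cfsg.Agent.Lib.Helper2

namespace HermFrames

open Module IsomDecomp IsoFrames HermDecomp Cfsg.Agent.Lib.Helper5.PSLCoset

section generic

variable {F : Type*} [Field F] {σ : F ≃+* F} {V : Type*} [AddCommGroup V] [Module F V]
  {H : V → V → F}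

theorem sum_right (h : IsHerm σ H) {ι : Type*} (s : Finset ι) (c : ι → F) (e : ι → V) (w : V) :
    H w (∑ i ∈ s, c i • e i) = ∑ i ∈ s, σ (c i) * H w (e i) := by
  rw [h.symm, sum_left h, map_sum]
  apply Finset.sum_congr rfl
  intro i _
  rw [map_mul, ← h.symm]

theorem eq_zero_of_symm (h : IsHerm σ H) {x y : V} (hxy : H x y = 0) : H y x = 0 := by
  rw [h.symm, hxy, map_zero]

/-- vanishing against a spanning family -/
theorem ortho_span (h : IsHerm σ H) {ι : Type*} (u : ι → V) (v : V) (hv : ∀ i, H (u i) v = 0) :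
    ∀ w ∈ Submodule.span F (Set.range u), H w v = 0 := by
  intro w hw
  induction hw using Submodule.span_induction with
  | mem x hx =>
    obtain ⟨i, rfl⟩ := hx
    exact hv i
  | zero => exact h.zero_left v
  | add x y _ _ hx hy => rw [h.add_left, hx, hy, add_zero]
  | smul c x _ hx => rw [h.smul_left, hx, mul_zero]

/-- the span of an isotropic family is totally isotropic -/
theorem span_isotropic (h : IsHerm σ H) {ι : Type*} (u : ι → V) (hu : ∀ i j, H (u i) (u j) = 0) :
    ∀ x ∈ Submodule.span F (Set.range u), ∀ y ∈ Submodule.span F (Set.range u), H x y = 0 := by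
  intro x hx y hy
  apply ortho_span h u y _ x hx
  intro i
  apply eq_zero_of_symm h
  apply ortho_span h u (u i) _ y hy
  intro j
  exact hu j i

variable [FiniteDimensional F V] [Finite F]

theorem finrank_orthoCompl (hσ : orderOf σ = 2) (h : IsHerm σ H)
    (hnd : ∀ v, (∀ w, H v w = 0) → v = 0) (W : Submodule F V) :
    finrank F W + finrank F (orthoCompl h W) = finrank F V := by
  classical
  have hσ2 := WittHerm.sigma_sigma hσ
  set j := finrank F W with hj
  let b : Basis (Fin j) F W := finBasisOfFinrankEq F W hj.symm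
  set φ : Fin j → Module.Dual F V := fun i => h.toDual (b i : V) with hφ
  have hli : LinearIndependent F φ := by
    rw [Fintype.linearIndependent_iff]
    intro c hc
    have h1 : ∀ u, H u (∑ i, σ (c i) • (b i : V)) = 0 := by
      intro u
      rw [sum_right h]
      have h2 := LinearMap.congr_fun hc u
      rw [LinearMap.sum_apply] at h2
      simp only [LinearMap.smul_apply, smul_eq_mul, LinearMap.zero_apply] at h2
      rw [← h2]
      apply Finset.sum_congr rfl
      intro i _
      rw [hσ2]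
      rfl
    have h3 : (∑ i, σ (c i) • (b i : V)) = 0 := by
      apply hnd
      intro w
      exact eq_zero_of_symm h (h1 w)
    have h4 : (∑ i, σ (c i) • b i : W) = 0 := by
      apply Subtype.ext
      rw [Submodule.coe_sum]
      simpa using h3
    have h5 := Fintype.linearIndependent_iff.1 b.linearIndependent _ h4
    intro i
    have := h5 i
    rwa [map_eq_zero_iff σ σ.injective] at this
  set Ψ : Subspace F (Module.Dual F V) := Submodule.span F (Set.range φ) with hΨ
  have h1 : finrank F Ψ = j := by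
    rw [hΨ, finrank_span_eq_card hli, Fintype.card_fin]
  have h2 := Subspace.finrank_add_finrank_dualCoannihilator_eq Ψ
  have h3 : Ψ.dualCoannihilator = orthoCompl h W := by
    ext v
    rw [Submodule.mem_dualCoannihilator, mem_orthoCompl]
    constructor
    · intro hv
      apply eq_zero_of_basis h W b v
      intro i
      apply eq_zero_of_symm h
      exact hv (φ i) (Submodule.subset_span ⟨i, rfl⟩)
    · intro hv ψ hψ
      induction hψ using Submodule.span_induction with
      | mem x hx =>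
        obtain ⟨i, rfl⟩ := hx
        exact eq_zero_of_symm h (hv _ (b i).2)
      | zero => rfl
      | add x y _ _ hx hy => rw [LinearMap.add_apply, hx, hy, add_zero]
      | smul c x _ hx => rw [LinearMap.smul_apply, hx, smul_zero]
  rw [h3, h1] at h2
  exact h2

omit [FiniteDimensional F V] [Finite F] in
theorem le_orthoCompl_orthoCompl (h : IsHerm σ H) (W : Submodule F V) :
    W ≤ orthoCompl h (orthoCompl h W) := by
  intro w hw v hv
  exact eq_zero_of_symm h (hv w hw)

theorem orthoCompl_orthoCompl (hσ : orderOf σ = 2) (h : IsHerm σ H)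
    (hnd : ∀ v, (∀ w, H v w = 0) → v = 0) (W : Submodule F V) :
    orthoCompl h (orthoCompl h W) = W := by
  symm
  apply Submodule.eq_of_le_of_finrank_eq (le_orthoCompl_orthoCompl h W)
  have h1 := finrank_orthoCompl hσ h hnd W
  have h2 := finrank_orthoCompl hσ h hnd (orthoCompl h W)
  omega

/-- a nondegenerate complement of a totally isotropic subspace in its orthogonal -/
theorem exists_compl (hσ : orderOf σ = 2) (h : IsHerm σ H)
    (hnd : ∀ v, (∀ w, H v w = 0) → v = 0) (W : Submodule F V)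
    (hW : ∀ x ∈ W, ∀ y ∈ W, H x y = 0) :
    ∃ H₀ : Submodule F V, H₀ ≤ orthoCompl h W ∧ W ⊓ H₀ = ⊥ ∧ W ⊔ H₀ = orthoCompl h W ∧
      (∀ x ∈ H₀, (∀ y ∈ H₀, H x y = 0) → x = 0) ∧
      finrank F H₀ + 2 * finrank F W = finrank F V := by
  obtain ⟨C, hC⟩ := Submodule.exists_isCompl W
  have hle : W ≤ orthoCompl h W := fun x hx y hy => hW y hy x hx
  refine ⟨C ⊓ orthoCompl h W, inf_le_right, ?_, ?_, ?_, ?_⟩
  · rw [← inf_assoc, hC.inf_eq_bot, bot_inf_eq]
  · rw [← sup_inf_assoc_of_le C hle, hC.sup_eq_top, top_inf_eq]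
  · intro x hx hx'
    have h1 : x ∈ orthoCompl h (orthoCompl h W) := by
      intro v hv
      have hv' : v ∈ W ⊔ (C ⊓ orthoCompl h W) := by
        rw [← sup_inf_assoc_of_le C hle, hC.sup_eq_top, top_inf_eq]
        exact hv
      obtain ⟨w, hw, c, hc, rfl⟩ := Submodule.mem_sup.1 hv'
      rw [h.add_left, hx.2 w hw, zero_add]
      exact eq_zero_of_symm h (hx' c hc)
    rw [orthoCompl_orthoCompl hσ h hnd] at h1
    have h2 : x ∈ W ⊓ C := ⟨h1, hx.1⟩
    rw [hC.inf_eq_bot] at h2
    exact (Submodule.mem_bot F).1 h2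
  · have h1 := Submodule.finrank_sup_add_finrank_inf_eq W (C ⊓ orthoCompl h W)
    have h2 : W ⊓ (C ⊓ orthoCompl h W) = ⊥ := by
      rw [← inf_assoc, hC.inf_eq_bot, bot_inf_eq]
    have h3 : W ⊔ (C ⊓ orthoCompl h W) = orthoCompl h W := by
      rw [← sup_inf_assoc_of_le C hle, hC.sup_eq_top, top_inf_eq]
    rw [h2, h3, finrank_bot, add_zero] at h1
    have h4 := finrank_orthoCompl hσ h hnd W
    omega

/-- isotropic vectors of a nondegenerate subspace, counted in orthonormal coordinates -/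
theorem card_isotropic_sub (hσ : orderOf σ = 2) (h : IsHerm σ H) {q : ℕ}
    (hσq : ∀ a, σ a = a ^ q) (U : Submodule F V)
    (hU : ∀ x ∈ U, (∀ y ∈ U, H x y = 0) → x = 0) {d : ℕ} (hd : finrank F U = d) :
    Nat.card {x : U // H (x : V) (x : V) = 0} =
      Nat.card {v : Fin d → F // Cfsg.hermForm d F q v v = 0} := by
  have hr := isHerm_restrict h U
  obtain ⟨b, hb⟩ := exists_onb hσ hr
    (fun v hv => Subtype.ext (hU v v.2 (fun y hy => hv ⟨y, hy⟩))) hd
  apply Nat.card_congr
  refine Equiv.subtypeEquiv b.equivFun.toEquiv ?_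
  intro x
  have h1 := form_eq_sum hr b hb x x
  simp only [hσq] at h1
  rw [h1]
  rfl

/-- the number of ways to extend an isotropic frame -/
theorem card_extn [Fintype F] (hσ : orderOf σ = 2) (h : IsHerm σ H)
    (hnd : ∀ v, (∀ w, H v w = 0) → v = 0) {q : ℕ} (hσq : ∀ a, σ a = a ^ q) {j : ℕ}
    (u : Fin j → V) (hu : u ∈ Frame H j) {d : ℕ} (hd : d + 2 * j = finrank F V) :
    Nat.card ↥(Extn H u) = Fintype.card F ^ j *
      (Nat.card {v : Fin d → F // Cfsg.hermForm d F q v v = 0} - 1) := by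
  classical
  haveI : Finite V := Module.finite_of_finite F
  set W := Submodule.span F (Set.range u) with hW
  have hWti := span_isotropic h u hu.2
  have hWj : finrank F W = j := by
    rw [hW, finrank_span_eq_card hu.1, Fintype.card_fin]
  obtain ⟨H₀, hle, hinf, hsup, hnd₀, hfr⟩ := exists_compl hσ h hnd W hWti
  have hH₀d : finrank F H₀ = d := by omega
  have hdisj : ∀ x, x ∈ W → x ∈ H₀ → x = 0 := by
    intro x hx1 hx2
    have : x ∈ W ⊓ H₀ := ⟨hx1, hx2⟩
    rw [hinf] at this
    exact (Submodule.mem_bot F).1 this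
  have hnorm : ∀ w ∈ W, ∀ x ∈ H₀, H (w + x) (w + x) = H x x := by
    intro w hw x hx
    have h1 : H w x = 0 := hle hx w hw
    rw [h.add_left, h.add_right, h.add_right, hWti w hw w hw, h1, eq_zero_of_symm h h1]
    ring
  set S₀ : Set ↥H₀ := {x | H (x : V) (x : V) = 0 ∧ x ≠ 0} with hS₀
  let Φ : ↥W × ↥S₀ → ↥(Extn H u) := fun p =>
    ⟨(p.1 : V) + ((p.2 : ↥H₀) : V), by
      refine ⟨?_, ?_, fun i => ?_⟩
      · intro hmem
        have h1 : ((p.2 : ↥H₀) : V) ∈ W := by
          have := W.sub_mem hmem p.1.2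
          rwa [add_sub_cancel_left] at this
        have h2 := hdisj _ h1 (p.2 : ↥H₀).2
        exact p.2.2.2 (Subtype.ext h2)
      · rw [hnorm _ p.1.2 _ (p.2 : ↥H₀).2]
        exact p.2.2.1
      · have h1 : H (u i) ((p.1 : V) + ((p.2 : ↥H₀) : V)) = 0 := by
          rw [h.add_right, hWti _ (Submodule.subset_span ⟨i, rfl⟩) _ p.1.2,
            hle (p.2 : ↥H₀).2 _ (Submodule.subset_span ⟨i, rfl⟩), add_zero]
        exact ⟨h1, eq_zero_of_symm h h1⟩⟩
  have hΦ : Function.Bijective Φ := by
    constructor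
    · rintro ⟨w, x⟩ ⟨w', x'⟩ hp
      have h1 : (w : V) + ((x : ↥H₀) : V) = (w' : V) + ((x' : ↥H₀) : V) :=
        congrArg Subtype.val hp
      have h2 : (w : V) - (w' : V) = ((x' : ↥H₀) : V) - ((x : ↥H₀) : V) := by
        rw [sub_eq_sub_iff_add_eq_add, h1]
        abel
      have h3 : (w : V) - (w' : V) = 0 := by
        apply hdisj _ (W.sub_mem w.2 w'.2)
        rw [h2]
        exact H₀.sub_mem (x' : ↥H₀).2 (x : ↥H₀).2
      have h4 : ((x' : ↥H₀) : V) - ((x : ↥H₀) : V) = 0 := by rw [← h2, h3]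
      have h5 : w = w' := Subtype.ext (sub_eq_zero.1 h3)
      have h6 : x = x' := Subtype.ext (Subtype.ext (sub_eq_zero.1 h4).symm)
      rw [h5, h6]
    · rintro ⟨v, hv⟩
      have h1 : v ∈ W ⊔ H₀ := by
        rw [hsup]
        exact ortho_span h u v (fun i => (hv.2.2 i).1)
      obtain ⟨w, hw, x, hx, rfl⟩ := Submodule.mem_sup.1 h1
      have hx0 : (⟨x, hx⟩ : ↥H₀) ≠ 0 := by
        intro h0
        have : x = 0 := congrArg Subtype.val h0
        apply hv.1
        rw [this, add_zero]
        exact hw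
      have hxx : H x x = 0 := by
        rw [← hnorm w hw x hx]
        exact hv.2.1
      exact ⟨(⟨w, hw⟩, ⟨⟨x, hx⟩, hxx, hx0⟩), rfl⟩
  rw [← Nat.card_congr (Equiv.ofBijective Φ hΦ), Nat.card_prod]
  congr 1
  · rw [Module.natCard_eq_pow_finrank (K := F), hWj, Nat.card_eq_fintype_card]
  · rw [Nat.card_coe_set_eq, ← card_isotropic_sub hσ h hσq H₀ hnd₀ hH₀d]
    have h1 : S₀ = {x : ↥H₀ | H (x : V) (x : V) = 0} \ {0} := by
      ext x
      simp [hS₀]
    rw [h1, Set.ncard_sdiff_singleton_of_mem, ← Nat.card_coe_set_eq]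
    · rfl
    · show H ((0 : ↥H₀) : V) ((0 : ↥H₀) : V) = 0
      exact h.zero_left _

end generic

section concrete

variable {F : Type*} [Field F] [Fintype F]

/-- the number of nonzero isotropic vectors in a unitary space of dimension `d` -/
def isoCount (q d : ℕ) : ℕ :=
  if Even d then (q ^ d - 1) * (q ^ (d - 1) + 1) else (q ^ d + 1) * (q ^ (d - 1) - 1)

theorem exists_data {q : ℕ} (hF : Fintype.card F = q ^ 2) (n : ℕ) :
    ∃ σ : F ≃+* F, orderOf σ = 2 ∧ (∀ a : F, σ a = a ^ q) ∧
      IsHerm σ (Cfsg.hermForm n F q) ∧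
      ∀ v, (∀ w, Cfsg.hermForm n F q v w = 0) → v = 0 := by
  obtain ⟨σ, hσ, hσq⟩ := exists_sigma hF
  have hq : q ≠ 0 := by
    rintro rfl
    have : 0 < Fintype.card F := Fintype.card_pos
    rw [hF] at this
    simp at this
  exact ⟨σ, hσ, hσq, GUIsom.isHerm_hermForm n q σ (WittHerm.sigma_sigma hσ) hσq,
    GUIsom.hermForm_nondeg n q hq⟩

theorem two_mul_le_of_frame {q : ℕ} (hF : Fintype.card F = q ^ 2) (n : ℕ) {j : ℕ}
    (u : Fin j → (Fin n → F)) (hu : u ∈ Frame (Cfsg.hermForm n F q) j) : 2 * j ≤ n := by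
  obtain ⟨σ, hσ, hσq, h, hnd⟩ := exists_data hF n
  set W := Submodule.span F (Set.range u) with hW
  have hWti := span_isotropic h u hu.2
  have hWj : finrank F W = j := by
    rw [hW, finrank_span_eq_card hu.1, Fintype.card_fin]
  have h1 := finrank_orthoCompl hσ h hnd W
  have hle : W ≤ orthoCompl h W := fun x hx y hy => hWti y hy x hx
  have h2 := Submodule.finrank_mono hle
  rw [Module.finrank_fin_fun] at h1
  omega

theorem card_ext_herm {q : ℕ} (hF : Fintype.card F = q ^ 2) (n : ℕ) {j : ℕ}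
    (u : Fin j → (Fin n → F)) (hu : u ∈ Frame (Cfsg.hermForm n F q) j) :
    Nat.card ↥(Extn (Cfsg.hermForm n F q) u) = (q ^ 2) ^ j * isoCount q (n - 2 * j) := by
  obtain ⟨σ, hσ, hσq, h, hnd⟩ := exists_data hF n
  have hle := two_mul_le_of_frame hF n u hu
  rw [card_extn hσ h hnd hσq u hu (d := n - 2 * j)
    (by rw [Module.finrank_fin_fun]; omega), hF, Cfsg.Agent.S0285.result hF (n - 2 * j),
    Nat.add_sub_cancel]
  rfl

theorem ncard_frame_herm {q : ℕ} (hF : Fintype.card F = q ^ 2) (n k : ℕ) :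
    (Frame (Cfsg.hermForm n F q) k).ncard =
      ∏ j ∈ Finset.range k, ((q ^ 2) ^ j * isoCount q (n - 2 * j)) := by
  rw [← Nat.card_coe_set_eq]
  exact card_frame (Cfsg.hermForm n F q) (fun j => (q ^ 2) ^ j * isoCount q (n - 2 * j)) k
    (fun j _ u hu => card_ext_herm hF n u hu)

theorem span_isotropic_herm {q : ℕ} (hF : Fintype.card F = q ^ 2) (n k : ℕ) :
    ∀ u ∈ Frame (Cfsg.hermForm n F q) k, ∀ x ∈ Submodule.span F (Set.range u),
      ∀ y ∈ Submodule.span F (Set.range u), Cfsg.hermForm n F q x y = 0 := by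
  obtain ⟨σ, hσ, hσq, h, hnd⟩ := exists_data hF n
  intro u hu
  exact span_isotropic h u hu.2

/-- totally isotropic subspaces versus frames -/
theorem ncard_TI_mul {q : ℕ} (hF : Fintype.card F = q ^ 2) (n k : ℕ) :
    (TI (Cfsg.hermForm n F q) k).ncard * ∏ i : Fin k, ((q ^ 2) ^ k - (q ^ 2) ^ (i : ℕ)) =
      ∏ j ∈ Finset.range k, ((q ^ 2) ^ j * isoCount q (n - 2 * j)) := by
  have h1 := ncard_frame_eq (Cfsg.hermForm n F q) k (span_isotropic_herm hF n k)
  rw [ncard_frame_herm hF, hF] at h1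
  exact h1.symm

end concrete

end HermFrames

end Cfsg.Agent.Lib.Helper2
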