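import Mathlib
import Cfsg.Prelude

set_option autoImplicit false
open Matrix

namespace Cfsg.Agent.Lib.Helper2.Symp

variable {F : Type*} [CommRing F] {m : ℕ}

theorem J_mulVec_apply_inl (v : Fin m ⊕ Fin m → F) (i : Fin m) :
    (Matrix.J (Fin m) F *ᵥ v) (Sum.inl i) = - v (Sum.inr i) := by
  simp [Matrix.J, Matrix.mulVec, dotProduct, Fintype.sum_sum_type, Matrix.one_apply]

theorem J_mulVec_apply_inr (v : Fin m ⊕ Fin m → F) (i : Fin m) :
    (Matrix.J (Fin m) F *ᵥ v) (Sum.inr i) = v (Sum.inl i) := by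
  simp [Matrix.J, Matrix.mulVec, dotProduct, Fintype.sum_sum_type, Matrix.one_apply]

theorem dot_J_self (v : Fin m ⊕ Fin m → F) : v ⬝ᵥ (Matrix.J (Fin m) F *ᵥ v) = 0 := by
  rw [dotProduct, Fintype.sum_sum_type]
  simp only [J_mulVec_apply_inl, J_mulVec_apply_inr]
  rw [← Finset.sum_add_distrib]
  apply Finset.sum_eq_zero
  intro i _
  ring

theorem J_mulVec_J_mulVec (v : Fin m ⊕ Fin m → F) :
    Matrix.J (Fin m) F *ᵥ (Matrix.J (Fin m) F *ᵥ v) = -v := by
  rw [Matrix.mulVec_mulVec, Matrix.J_squared, Matrix.neg_mulVec, Matrix.one_mulVec]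

theorem vecMul_J (w : Fin m ⊕ Fin m → F) :
    w ᵥ* Matrix.J (Fin m) F = -(Matrix.J (Fin m) F *ᵥ w) := by
  rw [← Matrix.mulVec_transpose, Matrix.J_transpose, Matrix.neg_mulVec]

theorem sympForm_self (v : Fin m ⊕ Fin m → F) : Cfsg.sympForm m F v v = 0 := dot_J_self v

theorem sympForm_swap (u v : Fin m ⊕ Fin m → F) :
    Cfsg.sympForm m F u v = - Cfsg.sympForm m F v u := by
  unfold Cfsg.sympForm
  rw [Matrix.dotProduct_mulVec, vecMul_J, neg_dotProduct, dotProduct_comm]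

theorem sympTransvection_mulVec (v : Fin m ⊕ Fin m → F) (c : F) (x : Fin m ⊕ Fin m → F) :
    Cfsg.sympTransvection m v c *ᵥ x = x + (c * Cfsg.sympForm m F x v) • v := by
  unfold Cfsg.sympTransvection Cfsg.sympForm
  rw [Matrix.add_mulVec, Matrix.one_mulVec, Matrix.smul_mulVec, Matrix.vecMulVec_mulVec,
    dotProduct_comm, op_smul_eq_smul, smul_smul]

theorem sympTransvection_mul (v : Fin m ⊕ Fin m → F) (c d : F) :
    Cfsg.sympTransvection m v c * Cfsg.sympTransvection m v d =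
      Cfsg.sympTransvection m v (c + d) := by
  unfold Cfsg.sympTransvection
  rw [mul_add, add_mul, one_mul, mul_one, add_mul, one_mul, smul_mul_smul_comm,
    Matrix.vecMulVec_mul_vecMulVec, dotProduct_comm, dot_J_self, zero_smul, Matrix.vecMulVec_zero,
    smul_zero, add_zero, add_smul, add_assoc]

theorem sympTransvection_mem (v : Fin m ⊕ Fin m → F) (c : F) :
    Cfsg.sympTransvection m v c ∈ Matrix.symplecticGroup (Fin m) F := by
  rw [SymplecticGroup.mem_iff]
  unfold Cfsg.sympTransvection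
  rw [Matrix.transpose_add, Matrix.transpose_one, Matrix.transpose_smul,
    Matrix.transpose_vecMulVec]
  set w := Matrix.J (Fin m) F *ᵥ v with hw
  have h1 : Matrix.vecMulVec v w * Matrix.J (Fin m) F = Matrix.vecMulVec v v := by
    rw [Matrix.vecMulVec_mul, vecMul_J, hw, J_mulVec_J_mulVec, neg_neg]
  have h2 : Matrix.J (Fin m) F * Matrix.vecMulVec w v = - Matrix.vecMulVec v v := by
    rw [Matrix.mul_vecMulVec, hw, J_mulVec_J_mulVec, Matrix.neg_vecMulVec]
  have h3 : Matrix.vecMulVec v v * Matrix.vecMulVec w v = 0 := by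
    rw [Matrix.vecMulVec_mul_vecMulVec, hw, dot_J_self, zero_smul, Matrix.vecMulVec_zero]
  rw [add_mul, one_mul, smul_mul_assoc, h1, mul_add, mul_one, add_mul, mul_smul_comm, h2,
    smul_mul_smul_comm, h3, smul_zero, add_zero, smul_neg]
  abel

theorem sympTransvection_conj (v : Fin m ⊕ Fin m → F)
    (A : Matrix (Fin m ⊕ Fin m) (Fin m ⊕ Fin m) F) (a : F)
    (hA : A ∈ Matrix.symplecticGroup (Fin m) F) (hAv : A *ᵥ v = a • v) (c : F) :
    A * Cfsg.sympTransvection m v c * A⁻¹ = Cfsg.sympTransvection m v (c * a * a) := by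
  have hdet : IsUnit A.det := SymplecticGroup.symplectic_det hA
  unfold Cfsg.sympTransvection
  set w := Matrix.J (Fin m) F *ᵥ v with hw
  have hwA : w ᵥ* A⁻¹ = a • w := by
    have e1 : w ᵥ* (-Matrix.J (Fin m) F) = -v := by
      rw [Matrix.vecMul_neg, vecMul_J, neg_neg, hw, J_mulVec_J_mulVec]
    have e2 : (-v) ᵥ* Aᵀ = -(a • v) := by
      rw [Matrix.vecMul_transpose, Matrix.mulVec_neg, hAv]
    have e3 : (-(a • v)) ᵥ* Matrix.J (Fin m) F = a • w := by
      rw [vecMul_J, Matrix.mulVec_neg, neg_neg, Matrix.mulVec_smul]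
    rw [SymplecticGroup.inv_eq_symplectic_inv A hA, ← Matrix.vecMul_vecMul, ← Matrix.vecMul_vecMul,
      e1, e2, e3]
  rw [mul_add, add_mul, mul_one, Matrix.mul_nonsing_inv A hdet, Matrix.mul_smul,
    Matrix.smul_mul, Matrix.mul_vecMulVec, Matrix.vecMulVec_mul, hAv, hwA, Matrix.smul_vecMulVec,
    Matrix.vecMulVec_smul, smul_smul, smul_smul]

end Cfsg.Agent.Lib.Helper2.Symp
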