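import Mathlib
import Cfsg.Prelude
import Cfsg.Agent.Lib.Helper2.Symp

set_option autoImplicit false
open Matrix

namespace Cfsg.Agent.Lib.Helper2.Symp

variable {K : Type*} [Field K] {m : ℕ}

theorem sympForm_add_left (x y z : Fin m ⊕ Fin m → K) :
    Cfsg.sympForm m K (x + y) z = Cfsg.sympForm m K x z + Cfsg.sympForm m K y z := by
  unfold Cfsg.sympForm; rw [add_dotProduct]

theorem sympForm_add_right (x y z : Fin m ⊕ Fin m → K) :
    Cfsg.sympForm m K x (y + z) = Cfsg.sympForm m K x y + Cfsg.sympForm m K x z := by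
  unfold Cfsg.sympForm; rw [Matrix.mulVec_add, dotProduct_add]

theorem sympForm_sub_left (x y z : Fin m ⊕ Fin m → K) :
    Cfsg.sympForm m K (x - y) z = Cfsg.sympForm m K x z - Cfsg.sympForm m K y z := by
  unfold Cfsg.sympForm; rw [sub_dotProduct]

theorem sympForm_sub_right (x y z : Fin m ⊕ Fin m → K) :
    Cfsg.sympForm m K x (y - z) = Cfsg.sympForm m K x y - Cfsg.sympForm m K x z := by
  unfold Cfsg.sympForm; rw [Matrix.mulVec_sub, dotProduct_sub]

theorem sympForm_smul_left (c : K) (x z : Fin m ⊕ Fin m → K) :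
    Cfsg.sympForm m K (c • x) z = c * Cfsg.sympForm m K x z := by
  unfold Cfsg.sympForm; rw [smul_dotProduct, smul_eq_mul]

theorem sympForm_smul_right (c : K) (x z : Fin m ⊕ Fin m → K) :
    Cfsg.sympForm m K x (c • z) = c * Cfsg.sympForm m K x z := by
  unfold Cfsg.sympForm; rw [Matrix.mulVec_smul, dotProduct_smul, smul_eq_mul]

theorem sympForm_mulVec (A : Matrix (Fin m ⊕ Fin m) (Fin m ⊕ Fin m) K)
    (hA : A ∈ Matrix.symplecticGroup (Fin m) K) (x y : Fin m ⊕ Fin m → K) :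
    Cfsg.sympForm m K (A *ᵥ x) (A *ᵥ y) = Cfsg.sympForm m K x y := by
  unfold Cfsg.sympForm
  have h := SymplecticGroup.mem_iff'.mp hA
  rw [Matrix.mulVec_mulVec, ← Matrix.vecMul_transpose A x, ← Matrix.dotProduct_mulVec,
    Matrix.mulVec_mulVec, ← Matrix.mul_assoc, h]

/-- the subgroup of the symplectic group generated by the symplectic transvections -/
def transvGroup (m : ℕ) (K : Type*) [Field K] : Subgroup (Matrix.symplecticGroup (Fin m) K) :=
  Subgroup.closure {A | ∃ (w : Fin m ⊕ Fin m → K) (c : K),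
    (A : Matrix (Fin m ⊕ Fin m) (Fin m ⊕ Fin m) K) = Cfsg.sympTransvection m w c}

theorem transv_mem (w : Fin m ⊕ Fin m → K) (c : K) :
    (⟨Cfsg.sympTransvection m w c, sympTransvection_mem w c⟩ :
      Matrix.symplecticGroup (Fin m) K) ∈ transvGroup m K :=
  Subgroup.subset_closure ⟨w, c, rfl⟩

/-- one transvection moving `x` to `y` when `f(x,y) ≠ 0`, fixing everything orthogonal to `x-y`. -/
theorem step (x y : Fin m ⊕ Fin m → K) (h : Cfsg.sympForm m K x y ≠ 0) :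
    ∃ A ∈ transvGroup m K,
      (A : Matrix (Fin m ⊕ Fin m) (Fin m ⊕ Fin m) K) *ᵥ x = y ∧
      ∀ z, Cfsg.sympForm m K z (x - y) = 0 →
        (A : Matrix (Fin m ⊕ Fin m) (Fin m ⊕ Fin m) K) *ᵥ z = z := by
  set w := x - y with hw
  have hs : Cfsg.sympForm m K x w = - Cfsg.sympForm m K x y := by
    rw [hw, sympForm_sub_right, sympForm_self, zero_sub]
  have hs0 : Cfsg.sympForm m K x w ≠ 0 := by rw [hs]; exact neg_ne_zero.mpr h
  refine ⟨⟨Cfsg.sympTransvection m w (-(Cfsg.sympForm m K x w)⁻¹), sympTransvection_mem _ _⟩,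
    transv_mem _ _, ?_, ?_⟩
  · show Cfsg.sympTransvection m w (-(Cfsg.sympForm m K x w)⁻¹) *ᵥ x = y
    rw [sympTransvection_mulVec, neg_mul, inv_mul_cancel₀ hs0, neg_one_smul, hw]
    abel
  · intro z hz
    show Cfsg.sympTransvection m w (-(Cfsg.sympForm m K x w)⁻¹) *ᵥ z = z
    rw [sympTransvection_mulVec, hz, mul_zero, zero_smul, add_zero]

/-- transvections are transitive on nonzero vectors (here: first members of hyperbolic pairs) -/
theorem exists_move_first (u v u' v' : Fin m ⊕ Fin m → K) (h : Cfsg.sympForm m K u v = 1)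
    (h' : Cfsg.sympForm m K u' v' = 1) :
    ∃ A ∈ transvGroup m K, (A : Matrix (Fin m ⊕ Fin m) (Fin m ⊕ Fin m) K) *ᵥ u = u' := by
  -- it suffices to find x with f(u,x) ≠ 0 and f(x,u') ≠ 0
  have key : ∀ x, Cfsg.sympForm m K u x ≠ 0 → Cfsg.sympForm m K x u' ≠ 0 →
      ∃ A ∈ transvGroup m K, (A : Matrix (Fin m ⊕ Fin m) (Fin m ⊕ Fin m) K) *ᵥ u = u' := by
    intro x h1 h2
    obtain ⟨A, hA, hAu, _⟩ := step u x h1
    obtain ⟨B, hB, hBx, _⟩ := step x u' h2
    refine ⟨B * A, Subgroup.mul_mem _ hB hA, ?_⟩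
    show ((B : Matrix (Fin m ⊕ Fin m) (Fin m ⊕ Fin m) K) * (A : Matrix (Fin m ⊕ Fin m) (Fin m ⊕ Fin m) K)) *ᵥ u = u'
    rw [← Matrix.mulVec_mulVec, hAu, hBx]
  by_cases h1 : Cfsg.sympForm m K u u' = 0
  · by_cases h2 : Cfsg.sympForm m K u v' = 0
    · by_cases h3 : Cfsg.sympForm m K v u' = 0
      · apply key (v + v')
        · rw [sympForm_add_right, h, h2, add_zero]; exact one_ne_zero
        · rw [sympForm_add_left, h3, zero_add, sympForm_swap, h']
          exact neg_ne_zero.mpr one_ne_zero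
      · apply key v
        · rw [h]; exact one_ne_zero
        · exact h3
    · apply key v' h2
      rw [sympForm_swap, h']
      exact neg_ne_zero.mpr one_ne_zero
  · obtain ⟨A, hA, hAu, _⟩ := step u u' h1
    exact ⟨A, hA, hAu⟩

/-- transvections fixing `u` are transitive on hyperbolic partners of `u` -/
theorem exists_move_second (u v v' : Fin m ⊕ Fin m → K) (h : Cfsg.sympForm m K u v = 1)
    (h' : Cfsg.sympForm m K u v' = 1) :
    ∃ A ∈ transvGroup m K, (A : Matrix (Fin m ⊕ Fin m) (Fin m ⊕ Fin m) K) *ᵥ u = u ∧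
      (A : Matrix (Fin m ⊕ Fin m) (Fin m ⊕ Fin m) K) *ᵥ v = v' := by
  by_cases h1 : Cfsg.sympForm m K v v' = 0
  · have e1 : Cfsg.sympForm m K v (v + u) ≠ 0 := by
      rw [sympForm_add_right, sympForm_self, zero_add, sympForm_swap, h]
      exact neg_ne_zero.mpr one_ne_zero
    have e2 : Cfsg.sympForm m K (v + u) v' ≠ 0 := by
      rw [sympForm_add_left, h1, zero_add, h']; exact one_ne_zero
    obtain ⟨A, hA, hAv, hAfix⟩ := step v (v + u) e1
    obtain ⟨B, hB, hBv, hBfix⟩ := step (v + u) v' e2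
    have hAu : (A : Matrix (Fin m ⊕ Fin m) (Fin m ⊕ Fin m) K) *ᵥ u = u := by
      apply hAfix
      rw [sympForm_sub_right, sympForm_add_right, h, sympForm_self]; ring
    have hBu : (B : Matrix (Fin m ⊕ Fin m) (Fin m ⊕ Fin m) K) *ᵥ u = u := by
      apply hBfix
      rw [sympForm_sub_right, sympForm_add_right, h, sympForm_self, h']; ring
    refine ⟨B * A, Subgroup.mul_mem _ hB hA, ?_, ?_⟩
    · show ((B : Matrix (Fin m ⊕ Fin m) (Fin m ⊕ Fin m) K) * (A : Matrix (Fin m ⊕ Fin m) (Fin m ⊕ Fin m) K)) *ᵥ u = u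
      rw [← Matrix.mulVec_mulVec, hAu, hBu]
    · show ((B : Matrix (Fin m ⊕ Fin m) (Fin m ⊕ Fin m) K) * (A : Matrix (Fin m ⊕ Fin m) (Fin m ⊕ Fin m) K)) *ᵥ v = v'
      rw [← Matrix.mulVec_mulVec, hAv, hBv]
  · obtain ⟨A, hA, hAv, hAfix⟩ := step v v' h1
    refine ⟨A, hA, ?_, hAv⟩
    apply hAfix
    rw [sympForm_sub_right, h, h']; ring

/-- the group generated by symplectic transvections is transitive on hyperbolic pairs -/
theorem transitive_on_hyperbolic_pairs (u v u' v' : Fin m ⊕ Fin m → K)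
    (h : Cfsg.sympForm m K u v = 1) (h' : Cfsg.sympForm m K u' v' = 1) :
    ∃ A ∈ transvGroup m K, (A : Matrix (Fin m ⊕ Fin m) (Fin m ⊕ Fin m) K) *ᵥ u = u' ∧
      (A : Matrix (Fin m ⊕ Fin m) (Fin m ⊕ Fin m) K) *ᵥ v = v' := by
  obtain ⟨A, hA, hAu⟩ := exists_move_first u v u' v' h h'
  have h1 : Cfsg.sympForm m K u' ((A : Matrix (Fin m ⊕ Fin m) (Fin m ⊕ Fin m) K) *ᵥ v) = 1 := by
    rw [← hAu, sympForm_mulVec _ A.2, h]
  obtain ⟨B, hB, hBu, hBv⟩ := exists_move_second u' _ v' h1 h'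
  refine ⟨B * A, Subgroup.mul_mem _ hB hA, ?_, ?_⟩
  · show ((B : Matrix (Fin m ⊕ Fin m) (Fin m ⊕ Fin m) K) * (A : Matrix (Fin m ⊕ Fin m) (Fin m ⊕ Fin m) K)) *ᵥ u = u'
    rw [← Matrix.mulVec_mulVec, hAu, hBu]
  · show ((B : Matrix (Fin m ⊕ Fin m) (Fin m ⊕ Fin m) K) * (A : Matrix (Fin m ⊕ Fin m) (Fin m ⊕ Fin m) K)) *ᵥ v = v'
    rw [← Matrix.mulVec_mulVec, hBv]

end Cfsg.Agent.Lib.Helper2.Symp
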