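import Mathlib
import Cfsg.Prelude
import Cfsg.Agent.Lib.Helper2.Symp2

set_option autoImplicit false
open Matrix

namespace Cfsg.Agent.Lib.Helper2.Symp

variable {K : Type*} [Field K] {m : ℕ}

local notation "V" => Fin m ⊕ Fin m → K
local notation "Mat" => Matrix (Fin m ⊕ Fin m) (Fin m ⊕ Fin m) K

/-- transitivity on first members, with control of fixed vectors -/
theorem exists_move_first' (u v u' v' : Fin m ⊕ Fin m → K) (h : Cfsg.sympForm m K u v = 1)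
    (h' : Cfsg.sympForm m K u' v' = 1) :
    ∃ A ∈ transvGroup m K, (A : Matrix (Fin m ⊕ Fin m) (Fin m ⊕ Fin m) K) *ᵥ u = u' ∧
      ∀ z, Cfsg.sympForm m K z u = 0 → Cfsg.sympForm m K z v = 0 →
        Cfsg.sympForm m K z u' = 0 → Cfsg.sympForm m K z v' = 0 →
        (A : Matrix (Fin m ⊕ Fin m) (Fin m ⊕ Fin m) K) *ᵥ z = z := by
  have key : ∀ x, Cfsg.sympForm m K u x ≠ 0 → Cfsg.sympForm m K x u' ≠ 0 →
      (∀ z, Cfsg.sympForm m K z u = 0 → Cfsg.sympForm m K z v = 0 →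
        Cfsg.sympForm m K z u' = 0 → Cfsg.sympForm m K z v' = 0 → Cfsg.sympForm m K z x = 0) →
      ∃ A ∈ transvGroup m K, (A : Matrix (Fin m ⊕ Fin m) (Fin m ⊕ Fin m) K) *ᵥ u = u' ∧
      ∀ z, Cfsg.sympForm m K z u = 0 → Cfsg.sympForm m K z v = 0 →
        Cfsg.sympForm m K z u' = 0 → Cfsg.sympForm m K z v' = 0 →
        (A : Matrix (Fin m ⊕ Fin m) (Fin m ⊕ Fin m) K) *ᵥ z = z := by
    intro x h1 h2 hx
    obtain ⟨A, hA, hAu, hAfix⟩ := step u x h1
    obtain ⟨B, hB, hBx, hBfix⟩ := step x u' h2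
    refine ⟨B * A, Subgroup.mul_mem _ hB hA, ?_, ?_⟩
    · show ((B : Matrix (Fin m ⊕ Fin m) (Fin m ⊕ Fin m) K) *
        (A : Matrix (Fin m ⊕ Fin m) (Fin m ⊕ Fin m) K)) *ᵥ u = u'
      rw [← Matrix.mulVec_mulVec, hAu, hBx]
    · intro z z1 z2 z3 z4
      show ((B : Matrix (Fin m ⊕ Fin m) (Fin m ⊕ Fin m) K) *
        (A : Matrix (Fin m ⊕ Fin m) (Fin m ⊕ Fin m) K)) *ᵥ z = z
      have zx := hx z z1 z2 z3 z4
      rw [← Matrix.mulVec_mulVec, hAfix z (by rw [sympForm_sub_right, z1, zx, sub_zero]),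
        hBfix z (by rw [sympForm_sub_right, z3, zx, sub_zero])]
  by_cases h1 : Cfsg.sympForm m K u u' = 0
  · by_cases h2 : Cfsg.sympForm m K u v' = 0
    · by_cases h3 : Cfsg.sympForm m K v u' = 0
      · apply key (v + v')
        · rw [sympForm_add_right, h, h2, add_zero]; exact one_ne_zero
        · rw [sympForm_add_left, h3, zero_add, sympForm_swap, h']
          exact neg_ne_zero.mpr one_ne_zero
        · intro z z1 z2 z3 z4
          rw [sympForm_add_right, z2, z4, add_zero]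
      · apply key v
        · rw [h]; exact one_ne_zero
        · exact h3
        · intro z z1 z2 z3 z4; exact z2
    · apply key v' h2
      · rw [sympForm_swap, h']
        exact neg_ne_zero.mpr one_ne_zero
      · intro z z1 z2 z3 z4; exact z4
  · obtain ⟨A, hA, hAu, hAfix⟩ := step u u' h1
    refine ⟨A, hA, hAu, ?_⟩
    intro z z1 z2 z3 z4
    exact hAfix z (by rw [sympForm_sub_right, z1, z3, sub_zero])

/-- transitivity on partners, with control of fixed vectors -/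
theorem exists_move_second' (u v v' : Fin m ⊕ Fin m → K) (h : Cfsg.sympForm m K u v = 1)
    (h' : Cfsg.sympForm m K u v' = 1) :
    ∃ A ∈ transvGroup m K, (A : Matrix (Fin m ⊕ Fin m) (Fin m ⊕ Fin m) K) *ᵥ u = u ∧
      (A : Matrix (Fin m ⊕ Fin m) (Fin m ⊕ Fin m) K) *ᵥ v = v' ∧
      ∀ z, Cfsg.sympForm m K z u = 0 → Cfsg.sympForm m K z v = 0 →
        Cfsg.sympForm m K z v' = 0 →
        (A : Matrix (Fin m ⊕ Fin m) (Fin m ⊕ Fin m) K) *ᵥ z = z := by
  by_cases h1 : Cfsg.sympForm m K v v' = 0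
  · have e1 : Cfsg.sympForm m K v (v + u) ≠ 0 := by
      rw [sympForm_add_right, sympForm_self, zero_add, sympForm_swap, h]
      exact neg_ne_zero.mpr one_ne_zero
    have e2 : Cfsg.sympForm m K (v + u) v' ≠ 0 := by
      rw [sympForm_add_left, h1, zero_add, h']; exact one_ne_zero
    obtain ⟨A, hA, hAv, hAfix⟩ := step v (v + u) e1
    obtain ⟨B, hB, hBv, hBfix⟩ := step (v + u) v' e2
    have hAu : (A : Matrix (Fin m ⊕ Fin m) (Fin m ⊕ Fin m) K) *ᵥ u = u := by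
      apply hAfix
      rw [sympForm_sub_right, sympForm_add_right, h, sympForm_self]; ring
    have hBu : (B : Matrix (Fin m ⊕ Fin m) (Fin m ⊕ Fin m) K) *ᵥ u = u := by
      apply hBfix
      rw [sympForm_sub_right, sympForm_add_right, h, sympForm_self, h']; ring
    refine ⟨B * A, Subgroup.mul_mem _ hB hA, ?_, ?_, ?_⟩
    · show ((B : Matrix (Fin m ⊕ Fin m) (Fin m ⊕ Fin m) K) *
        (A : Matrix (Fin m ⊕ Fin m) (Fin m ⊕ Fin m) K)) *ᵥ u = u
      rw [← Matrix.mulVec_mulVec, hAu, hBu]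
    · show ((B : Matrix (Fin m ⊕ Fin m) (Fin m ⊕ Fin m) K) *
        (A : Matrix (Fin m ⊕ Fin m) (Fin m ⊕ Fin m) K)) *ᵥ v = v'
      rw [← Matrix.mulVec_mulVec, hAv, hBv]
    · intro z z1 z2 z3
      show ((B : Matrix (Fin m ⊕ Fin m) (Fin m ⊕ Fin m) K) *
        (A : Matrix (Fin m ⊕ Fin m) (Fin m ⊕ Fin m) K)) *ᵥ z = z
      rw [← Matrix.mulVec_mulVec,
        hAfix z (by rw [sympForm_sub_right, sympForm_add_right, z1, z2]; ring),
        hBfix z (by rw [sympForm_sub_right, sympForm_add_right, z1, z2, z3]; ring)]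
  · obtain ⟨A, hA, hAv, hAfix⟩ := step v v' h1
    refine ⟨A, hA, ?_, hAv, ?_⟩
    · apply hAfix
      rw [sympForm_sub_right, h, h']; ring
    · intro z z1 z2 z3
      exact hAfix z (by rw [sympForm_sub_right, z2, z3, sub_zero])

/-- transitivity on hyperbolic pairs, with control of fixed vectors -/
theorem transitive_on_hyperbolic_pairs' (u v u' v' : Fin m ⊕ Fin m → K)
    (h : Cfsg.sympForm m K u v = 1) (h' : Cfsg.sympForm m K u' v' = 1) :
    ∃ A ∈ transvGroup m K, (A : Matrix (Fin m ⊕ Fin m) (Fin m ⊕ Fin m) K) *ᵥ u = u' ∧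
      (A : Matrix (Fin m ⊕ Fin m) (Fin m ⊕ Fin m) K) *ᵥ v = v' ∧
      ∀ z, Cfsg.sympForm m K z u = 0 → Cfsg.sympForm m K z v = 0 →
        Cfsg.sympForm m K z u' = 0 → Cfsg.sympForm m K z v' = 0 →
        (A : Matrix (Fin m ⊕ Fin m) (Fin m ⊕ Fin m) K) *ᵥ z = z := by
  obtain ⟨A, hA, hAu, hAfix⟩ := exists_move_first' u v u' v' h h'
  have h1 : Cfsg.sympForm m K u' ((A : Matrix (Fin m ⊕ Fin m) (Fin m ⊕ Fin m) K) *ᵥ v) = 1 := by
    rw [← hAu, sympForm_mulVec _ A.2, h]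
  obtain ⟨B, hB, hBu, hBv, hBfix⟩ := exists_move_second' u' _ v' h1 h'
  refine ⟨B * A, Subgroup.mul_mem _ hB hA, ?_, ?_, ?_⟩
  · show ((B : Matrix (Fin m ⊕ Fin m) (Fin m ⊕ Fin m) K) *
      (A : Matrix (Fin m ⊕ Fin m) (Fin m ⊕ Fin m) K)) *ᵥ u = u'
    rw [← Matrix.mulVec_mulVec, hAu, hBu]
  · show ((B : Matrix (Fin m ⊕ Fin m) (Fin m ⊕ Fin m) K) *
      (A : Matrix (Fin m ⊕ Fin m) (Fin m ⊕ Fin m) K)) *ᵥ v = v'
    rw [← Matrix.mulVec_mulVec, hBv]
  · intro z z1 z2 z3 z4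
    show ((B : Matrix (Fin m ⊕ Fin m) (Fin m ⊕ Fin m) K) *
      (A : Matrix (Fin m ⊕ Fin m) (Fin m ⊕ Fin m) K)) *ᵥ z = z
    have hAz := hAfix z z1 z2 z3 z4
    rw [← Matrix.mulVec_mulVec, hAz]
    apply hBfix z z3 _ z4
    have := sympForm_mulVec _ A.2 z v
    rw [hAz] at this
    rw [this, z2]

end Cfsg.Agent.Lib.Helper2.Symp
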