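import Mathlib
import Cfsg.Prelude
import Cfsg.Agent.Lib.Helper2.Symp3

set_option autoImplicit false
open Matrix

namespace Cfsg.Agent.Lib.Helper2.Symp

variable {K : Type*} [Field K] {m : ℕ}

theorem sympForm_single_inl (x : Fin m ⊕ Fin m → K) (j : Fin m) :
    Cfsg.sympForm m K x (Pi.single (Sum.inl j) 1) = x (Sum.inr j) := by
  unfold Cfsg.sympForm
  have : Matrix.J (Fin m) K *ᵥ (Pi.single (Sum.inl j) 1) = Pi.single (Sum.inr j) 1 := by
    funext i
    rcases i with i | i
    · rw [J_mulVec_apply_inl]; simp
    · rw [J_mulVec_apply_inr]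
      by_cases hij : i = j
      · subst hij; simp
      · rw [Pi.single_eq_of_ne, Pi.single_eq_of_ne]
        · simpa using hij
        · simpa using hij
  rw [this, dotProduct_single, mul_one]

theorem sympForm_single_inr (x : Fin m ⊕ Fin m → K) (j : Fin m) :
    Cfsg.sympForm m K x (Pi.single (Sum.inr j) 1) = - x (Sum.inl j) := by
  unfold Cfsg.sympForm
  have : Matrix.J (Fin m) K *ᵥ (Pi.single (Sum.inr j) 1) = - Pi.single (Sum.inl j) 1 := by
    funext i
    rcases i with i | i
    · rw [J_mulVec_apply_inl]
      by_cases hij : i = j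
      · subst hij; simp
      · rw [Pi.neg_apply, Pi.single_eq_of_ne, Pi.single_eq_of_ne]
        · simpa using hij
        · simpa using hij
    · rw [J_mulVec_apply_inr]; simp
  rw [this, dotProduct_neg, dotProduct_single, mul_one]

theorem eq_one_of_fix_basis (A : Matrix (Fin m ⊕ Fin m) (Fin m ⊕ Fin m) K)
    (h : ∀ j, A *ᵥ Pi.single j 1 = Pi.single j 1) : A = 1 := by
  ext i j
  have := congrFun (h j) i
  rw [Matrix.mulVec_single_one] at this
  rw [Matrix.one_apply]
  rw [Pi.single_apply] at this
  exact this

theorem mem_transvGroup_of_fix (k : ℕ) :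
    ∀ A : Matrix.symplecticGroup (Fin m) K,
      (∀ i : Fin m, k ≤ (i : ℕ) →
        (A : Matrix (Fin m ⊕ Fin m) (Fin m ⊕ Fin m) K) *ᵥ Pi.single (Sum.inl i) 1 =
          Pi.single (Sum.inl i) 1 ∧
        (A : Matrix (Fin m ⊕ Fin m) (Fin m ⊕ Fin m) K) *ᵥ Pi.single (Sum.inr i) 1 =
          Pi.single (Sum.inr i) 1) → A ∈ transvGroup m K := by
  induction k with
  | zero =>
    intro A hA
    have : A = 1 := by
      apply Subtype.ext
      apply eq_one_of_fix_basis
      intro j
      rcases j with j | j
      · exact (hA j (Nat.zero_le _)).1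
      · exact (hA j (Nat.zero_le _)).2
    rw [this]; exact Subgroup.one_mem _
  | succ k ih =>
    intro A hA
    by_cases hk : k < m
    · set kk : Fin m := ⟨k, hk⟩ with hkk
      set AM : Matrix (Fin m ⊕ Fin m) (Fin m ⊕ Fin m) K := A.1 with hAM
      set u := AM *ᵥ Pi.single (Sum.inr kk) 1 with hu
      set v := AM *ᵥ Pi.single (Sum.inl kk) 1 with hv
      have huv : Cfsg.sympForm m K u v = 1 := by
        rw [hu, hv, sympForm_mulVec _ A.2, sympForm_single_inl]; simp
      have h' : Cfsg.sympForm m K (Pi.single (Sum.inr kk) (1 : K)) (Pi.single (Sum.inl kk) 1) = 1 := by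
        rw [sympForm_single_inl]; simp
      obtain ⟨B, hB, hBu, hBv, hBfix⟩ :=
        transitive_on_hyperbolic_pairs' u v _ _ huv h'
      have hBA : B * A ∈ transvGroup m K := by
        apply ih
        intro i hi
        show ((B : Matrix (Fin m ⊕ Fin m) (Fin m ⊕ Fin m) K) * AM) *ᵥ _ = _ ∧
          ((B : Matrix (Fin m ⊕ Fin m) (Fin m ⊕ Fin m) K) * AM) *ᵥ _ = _
        rw [← Matrix.mulVec_mulVec, ← Matrix.mulVec_mulVec]
        by_cases hik : i = kk
        · subst hik
          exact ⟨hBv, hBu⟩
        · have hik' : k + 1 ≤ (i : ℕ) := by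
            have : (i : ℕ) ≠ k := fun h => hik (Fin.ext h)
            omega
          obtain ⟨hAe, hAf⟩ := hA i hik'
          rw [hAe, hAf]
          have hne : kk ≠ i := fun h => hik h.symm
          constructor
          · apply hBfix
            · rw [hu, ← hAe, sympForm_mulVec _ A.2, sympForm_single_inr]
              simp [hik]
            · rw [hv, ← hAe, sympForm_mulVec _ A.2, sympForm_single_inl]
              simp
            · rw [sympForm_single_inr]; simp [hik]
            · rw [sympForm_single_inl]; simp
          · apply hBfix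
            · rw [hu, ← hAf, sympForm_mulVec _ A.2, sympForm_single_inr]
              simp
            · rw [hv, ← hAf, sympForm_mulVec _ A.2, sympForm_single_inl]
              simp [hik]
            · rw [sympForm_single_inr]; simp
            · rw [sympForm_single_inl]; simp [hik]
      have : A = B⁻¹ * (B * A) := by group
      rw [this]
      exact Subgroup.mul_mem _ (Subgroup.inv_mem _ hB) hBA
    · apply ih
      intro i hi
      exact absurd i.2 (by omega)

theorem transvGroup_eq_top : transvGroup m K = ⊤ := by
  rw [eq_top_iff]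
  intro A _
  apply mem_transvGroup_of_fix m A
  intro i hi
  exact absurd i.2 (by omega)

end Cfsg.Agent.Lib.Helper2.Symp
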