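import Mathlib
import Cfsg.Agent.Lib.Helper2.IsomDecomp
import Cfsg.Agent.Lib.Helper2.Symp4
import Cfsg.Agent.Lib.Helper5.AltForm2

set_option autoImplicit false

namespace Cfsg.Agent.Lib.Helper2

namespace SpIsom

open Matrix Module IsomDecomp Cfsg.Agent.Lib.Helper2.Symp Cfsg.Agent.Lib.Helper1.SpBasic

variable {F : Type*} [Field F] {m : ℕ}

/-- the standard symplectic form as a bilinear form -/
def sympBilin (m : ℕ) (F : Type*) [Field F] : LinearMap.BilinForm F (Fin m ⊕ Fin m → F) :=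
  Matrix.toBilin' (Matrix.J (Fin m) F)

theorem sympBilin_apply (u v : Fin m ⊕ Fin m → F) : sympBilin m F u v = Cfsg.sympForm m F u v := by
  unfold sympBilin Cfsg.sympForm
  rw [Matrix.toBilin'_apply']

theorem sympBilin_isAlt : (sympBilin m F).IsAlt := by
  intro x
  rw [sympBilin_apply]
  exact sympForm_self x

theorem sympForm_nondeg (x : Fin m ⊕ Fin m → F) (hx : ∀ y, Cfsg.sympForm m F x y = 0) : x = 0 := by
  funext i
  rcases i with j | j
  · have := hx (Pi.single (Sum.inr j) 1)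
    rw [sympForm_single_inr, neg_eq_zero] at this
    exact this
  · have := hx (Pi.single (Sum.inl j) 1)
    rw [sympForm_single_inl] at this
    exact this

/-- a symplectic matrix as a linear automorphism -/
def spEquiv (A : Matrix.symplecticGroup (Fin m) F) :
    (Fin m ⊕ Fin m → F) ≃ₗ[F] (Fin m ⊕ Fin m → F) where
  toFun x := (A : Matrix (Fin m ⊕ Fin m) (Fin m ⊕ Fin m) F) *ᵥ x
  invFun x := ((A⁻¹ : Matrix.symplecticGroup (Fin m) F) : Matrix (Fin m ⊕ Fin m) (Fin m ⊕ Fin m) F) *ᵥ x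
  map_add' x y := Matrix.mulVec_add _ x y
  map_smul' c x := Matrix.mulVec_smul _ c x
  left_inv x := inv_mulVec_mulVec A x
  right_inv x := mulVec_inv_mulVec A x

theorem spEquiv_apply (A : Matrix.symplecticGroup (Fin m) F) (x : Fin m ⊕ Fin m → F) :
    spEquiv A x = (A : Matrix (Fin m ⊕ Fin m) (Fin m ⊕ Fin m) F) *ᵥ x := rfl

/-- the homomorphism to linear automorphisms -/
def spHom (m : ℕ) (F : Type*) [Field F] :
    Matrix.symplecticGroup (Fin m) F →* ((Fin m ⊕ Fin m → F) ≃ₗ[F] (Fin m ⊕ Fin m → F)) where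
  toFun := spEquiv
  map_one' := by
    apply LinearEquiv.ext
    intro x
    rw [spEquiv_apply, coe_one_mulVec]
    rfl
  map_mul' A B := by
    apply LinearEquiv.ext
    intro x
    rw [spEquiv_apply, coe_mul_mulVec]
    rfl

/-- the stabilizer of a subspace in the matrix group, as a group of linear automorphisms -/
noncomputable def stabEquiv (W : Submodule F (Fin m ⊕ Fin m → F)) :
    ↥(Cfsg.stabilizing (Cfsg.spToMat m F) (W : Set (Fin m ⊕ Fin m → F))) ≃*
      ↥(isom (Cfsg.sympForm m F) ⊓ stab W) := by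
  refine MulEquiv.ofBijective
    ({ toFun := fun A => ⟨spHom m F A.1, ⟨fun x y => form_mulVec A.1 x y, fun v => A.2 v⟩⟩
       map_one' := by
         apply Subtype.ext
         exact map_one (spHom m F)
       map_mul' := by
         intro A B
         apply Subtype.ext
         exact map_mul (spHom m F) A.1 B.1 } :
      ↥(Cfsg.stabilizing (Cfsg.spToMat m F) (W : Set (Fin m ⊕ Fin m → F))) →*
        ↥(isom (Cfsg.sympForm m F) ⊓ stab W)) ⟨?_, ?_⟩
  · intro A B hAB
    apply Subtype.ext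
    apply ext_mulVec
    intro x
    have h1 := congrArg (fun g : ↥(isom (Cfsg.sympForm m F) ⊓ stab W) =>
      (g : (Fin m ⊕ Fin m → F) ≃ₗ[F] (Fin m ⊕ Fin m → F)) x) hAB
    exact h1
  · rintro ⟨g, hg1, hg2⟩
    classical
    set M : Matrix (Fin m ⊕ Fin m) (Fin m ⊕ Fin m) F :=
      LinearMap.toMatrix' (g : (Fin m ⊕ Fin m → F) →ₗ[F] (Fin m ⊕ Fin m → F)) with hM
    have hMv : ∀ x, M *ᵥ x = g x := by
      intro x
      rw [hM, LinearMap.toMatrix'_mulVec]
      rfl
    have hMs : M ∈ Matrix.symplecticGroup (Fin m) F := by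
      rw [Cfsg.Agent.Lib.Helper1.SpCard.mem_symplectic_iff_form]
      intro x y
      rw [hMv, hMv]
      exact hg1 x y
    have hMst : (⟨M, hMs⟩ : Matrix.symplecticGroup (Fin m) F) ∈
        Cfsg.stabilizing (Cfsg.spToMat m F) (W : Set (Fin m ⊕ Fin m → F)) := by
      intro v
      show v ∈ W ↔ M *ᵥ v ∈ W
      rw [hMv]
      exact hg2 v
    refine ⟨⟨⟨M, hMs⟩, hMst⟩, ?_⟩
    apply Subtype.ext
    apply LinearEquiv.ext
    intro x
    exact hMv x

/-- the isometry group of a subspace with a symplectic basis is the symplectic matrix group -/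
noncomputable def isomSubEquiv {k : ℕ} (U : Submodule F (Fin m ⊕ Fin m → F))
    (b : Basis (Fin k ⊕ Fin k) F U)
    (hb : ∀ x y, Cfsg.sympForm m F (b x : Fin m ⊕ Fin m → F) (b y : Fin m ⊕ Fin m → F) =
      Matrix.J (Fin k) F x y) :
    ↥(isomSub (Cfsg.sympForm m F) U) ≃* Matrix.symplecticGroup (Fin k) F := by
  classical
  have hform : ∀ u v : U, Cfsg.sympForm m F (u : Fin m ⊕ Fin m → F) (v : Fin m ⊕ Fin m → F) =
      Cfsg.sympForm k F (b.repr u) (b.repr v) := by
    intro u v
    have h1 := Cfsg.Agent.Lib.Helper5.AltForm.form_eq_sympForm ((sympBilin m F).restrict U) b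
      (by
        intro x y
        show sympBilin m F (b x : Fin m ⊕ Fin m → F) (b y : Fin m ⊕ Fin m → F) = _
        rw [sympBilin_apply]
        exact hb x y) u v
    have h2 : sympBilin m F (u : Fin m ⊕ Fin m → F) (v : Fin m ⊕ Fin m → F) =
        Cfsg.sympForm k F (b.repr u) (b.repr v) := h1
    rw [sympBilin_apply] at h2
    exact h2
  have hmem : ∀ g : ↥(isomSub (Cfsg.sympForm m F) U),
      LinearMap.toMatrix b b ((g : U ≃ₗ[F] U) : U →ₗ[F] U) ∈ Matrix.symplecticGroup (Fin k) F := by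
    intro g
    rw [Cfsg.Agent.Lib.Helper1.SpCard.mem_symplectic_iff_form]
    intro x y
    have hx : x = b.repr (b.repr.symm (Finsupp.equivFunOnFinite.symm x)) := by simp
    have hy : y = b.repr (b.repr.symm (Finsupp.equivFunOnFinite.symm y)) := by simp
    set u := b.repr.symm (Finsupp.equivFunOnFinite.symm x) with hu
    set v := b.repr.symm (Finsupp.equivFunOnFinite.symm y) with hv
    rw [hx, hy, LinearMap.toMatrix_mulVec_repr, LinearMap.toMatrix_mulVec_repr, ← hform, ← hform]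
    exact g.2 u v
  refine MulEquiv.ofBijective
    ({ toFun := fun g => ⟨LinearMap.toMatrix b b ((g : U ≃ₗ[F] U) : U →ₗ[F] U), hmem g⟩
       map_one' := by
         apply Subtype.ext
         show LinearMap.toMatrix b b (((1 : ↥(isomSub (Cfsg.sympForm m F) U)) : U ≃ₗ[F] U) : U →ₗ[F] U) = 1
         exact LinearMap.toMatrix_id b
       map_mul' := by
         intro g h
         apply Subtype.ext
         show LinearMap.toMatrix b b (((g * h : ↥(isomSub (Cfsg.sympForm m F) U)) : U ≃ₗ[F] U) : U →ₗ[F] U) =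
           LinearMap.toMatrix b b ((g : U ≃ₗ[F] U) : U →ₗ[F] U) *
             LinearMap.toMatrix b b ((h : U ≃ₗ[F] U) : U →ₗ[F] U)
         rw [← LinearMap.toMatrix_mul]
         rfl } : ↥(isomSub (Cfsg.sympForm m F) U) →* Matrix.symplecticGroup (Fin k) F) ⟨?_, ?_⟩
  · intro g h hgh
    have h1 : LinearMap.toMatrix b b ((g : U ≃ₗ[F] U) : U →ₗ[F] U) =
        LinearMap.toMatrix b b ((h : U ≃ₗ[F] U) : U →ₗ[F] U) := congrArg Subtype.val hgh
    have h2 := (LinearMap.toMatrix b b).injective h1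
    apply Subtype.ext
    apply LinearEquiv.ext
    intro x
    exact congrArg (fun φ : U →ₗ[F] U => φ x) h2
  · intro M
    have hMM : (M : Matrix (Fin k ⊕ Fin k) (Fin k ⊕ Fin k) F) *
        ((M⁻¹ : Matrix.symplecticGroup (Fin k) F) : Matrix (Fin k ⊕ Fin k) (Fin k ⊕ Fin k) F) = 1 := by
      rw [← Submonoid.coe_mul, mul_inv_cancel]; rfl
    have hMM' : ((M⁻¹ : Matrix.symplecticGroup (Fin k) F) : Matrix (Fin k ⊕ Fin k) (Fin k ⊕ Fin k) F) *
        (M : Matrix (Fin k ⊕ Fin k) (Fin k ⊕ Fin k) F) = 1 := by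
      rw [← Submonoid.coe_mul, inv_mul_cancel]; rfl
    set g : U ≃ₗ[F] U := LinearEquiv.ofLinearMap
      (Matrix.toLin b b (M : Matrix (Fin k ⊕ Fin k) (Fin k ⊕ Fin k) F))
      (Matrix.toLin b b ((M⁻¹ : Matrix.symplecticGroup (Fin k) F) :
        Matrix (Fin k ⊕ Fin k) (Fin k ⊕ Fin k) F))
      (by rw [← Matrix.toLin_mul, hMM, Matrix.toLin_one])
      (by rw [← Matrix.toLin_mul, hMM', Matrix.toLin_one]) with hg
    have hgM : LinearMap.toMatrix b b ((g : U ≃ₗ[F] U) : U →ₗ[F] U) =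
        (M : Matrix (Fin k ⊕ Fin k) (Fin k ⊕ Fin k) F) := by
      show LinearMap.toMatrix b b (Matrix.toLin b b (M : Matrix (Fin k ⊕ Fin k) (Fin k ⊕ Fin k) F)) = _
      rw [LinearMap.toMatrix_toLin]
    have hgmem : g ∈ isomSub (Cfsg.sympForm m F) U := by
      intro x y
      have e : ∀ z : U, (b.repr (g z) : Fin k ⊕ Fin k → F) =
          (M : Matrix (Fin k ⊕ Fin k) (Fin k ⊕ Fin k) F) *ᵥ (b.repr z) := by
        intro z
        rw [← hgM, LinearMap.toMatrix_mulVec_repr]
        rfl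
      rw [hform, hform, e x, e y]
      exact form_mulVec M _ _
    refine ⟨⟨g, hgmem⟩, ?_⟩
    apply Subtype.ext
    exact hgM

end SpIsom

end Cfsg.Agent.Lib.Helper2
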