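import Mathlib

set_option autoImplicit false

universe u v

namespace Cfsg.Agent.Lib.Helper2

namespace WittAlt

open LinearMap LinearMap.BilinForm Module

variable {F : Type u} {V : Type v} [Field F] [AddCommGroup V] [Module F V] [FiniteDimensional F V]

/-- the orthogonal complements of isometric subspaces are simultaneously contained in them -/
theorem orthogonal_le_of_isometric {B : LinearMap.BilinForm F V} (hB : B.Nondegenerate)
    {U : Type*} [AddCommGroup U] [Module F U] [FiniteDimensional F U] (f₁ f₂ : U →ₗ[F] V)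
    (h₁ : Function.Injective f₁) (h₂ : Function.Injective f₂)
    (hiso : ∀ a b, B (f₁ a) (f₁ b) = B (f₂ a) (f₂ b))
    (hY : B.orthogonal (LinearMap.range f₂) ≤ LinearMap.range f₂) :
    B.orthogonal (LinearMap.range f₁) ≤ LinearMap.range f₁ := by
  set X := LinearMap.range f₁ with hX
  set Y := LinearMap.range f₂ with hYdef
  -- the common preimage of the radicals
  set K : Submodule F U := (B.orthogonal X).comap f₁ with hK
  have hK2 : K = (B.orthogonal Y).comap f₂ := by
    ext a
    rw [hK, Submodule.mem_comap, Submodule.mem_comap, mem_orthogonal_iff, mem_orthogonal_iff]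
    constructor
    · rintro h _ ⟨b, rfl⟩
      rw [← hiso]
      exact h _ ⟨b, rfl⟩
    · rintro h _ ⟨b, rfl⟩
      rw [hiso]
      exact h _ ⟨b, rfl⟩
  have hmap1 : K.map f₁ = X ⊓ B.orthogonal X := by
    ext x
    constructor
    · rintro ⟨a, ha, rfl⟩
      exact ⟨⟨a, rfl⟩, ha⟩
    · rintro ⟨⟨a, rfl⟩, hx⟩
      exact ⟨a, hx, rfl⟩
  have hmap2 : K.map f₂ = Y ⊓ B.orthogonal Y := by
    rw [hK2]
    ext x
    constructor
    · rintro ⟨a, ha, rfl⟩
      exact ⟨⟨a, rfl⟩, ha⟩
    · rintro ⟨⟨a, rfl⟩, hx⟩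
      exact ⟨a, hx, rfl⟩
  have hr1 : finrank F ↥(X ⊓ B.orthogonal X) = finrank F ↥K := by
    rw [← hmap1]
    exact (Submodule.equivMapOfInjective f₁ h₁ K).finrank_eq.symm
  have hr2 : finrank F ↥(Y ⊓ B.orthogonal Y) = finrank F ↥K := by
    rw [← hmap2]
    exact (Submodule.equivMapOfInjective f₂ h₂ K).finrank_eq.symm
  have hXU : finrank F ↥X = finrank F U := LinearMap.finrank_range_of_inj h₁
  have hYU : finrank F ↥Y = finrank F U := LinearMap.finrank_range_of_inj h₂
  have hoX : finrank F ↥(B.orthogonal X) = finrank F V - finrank F ↥X := finrank_orthogonal hB X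
  have hoY : finrank F ↥(B.orthogonal Y) = finrank F V - finrank F ↥Y := finrank_orthogonal hB Y
  have hYY : Y ⊓ B.orthogonal Y = B.orthogonal Y := inf_eq_right.mpr hY
  rw [hYY] at hr2
  have heq : X ⊓ B.orthogonal X = B.orthogonal X := by
    apply Submodule.eq_of_le_of_finrank_eq inf_le_right
    rw [hr1, ← hr2, hoX, hoY, hXU, hYU]
  rw [← heq]
  exact inf_le_left

/-- finding the extension vectors -/
theorem exists_ext_vectors {B : LinearMap.BilinForm F V} (hB : B.Nondegenerate) (hA : B.IsAlt)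
    {U : Type*} [AddCommGroup U] [Module F U] [FiniteDimensional F U] (f₁ f₂ : U →ₗ[F] V)
    (h₁ : Function.Injective f₁) (h₂ : Function.Injective f₂)
    (hiso : ∀ a b, B (f₁ a) (f₁ b) = B (f₂ a) (f₂ b))
    (hne : LinearMap.range f₁ ≠ ⊤) :
    ∃ v w : V, v ∉ LinearMap.range f₁ ∧ w ∉ LinearMap.range f₂ ∧
      ∀ a, B v (f₁ a) = B w (f₂ a) := by
  by_cases hX : B.orthogonal (LinearMap.range f₁) ≤ LinearMap.range f₁
  · -- coisotropic case
    obtain ⟨v, hv⟩ : ∃ v : V, v ∉ LinearMap.range f₁ := by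
      by_contra hcon
      push Not at hcon
      exact hne (eq_top_iff.mpr fun x _ => hcon x)
    obtain ⟨r, hr⟩ := LinearMap.exists_leftInverse_of_injective f₂ (LinearMap.ker_eq_bot.mpr h₂)
    set μ : V →ₗ[F] F := ((B v).comp f₁).comp r with hμ
    set w : V := (B.toDual hB).symm μ with hw
    have hwB : ∀ y, B w y = μ y := fun y => apply_toDual_symm_apply μ y
    have hwf : ∀ a, B w (f₂ a) = B v (f₁ a) := by
      intro a
      rw [hwB, hμ, LinearMap.comp_apply, LinearMap.comp_apply]
      have : r (f₂ a) = a := by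
        have := congrArg (fun φ => φ a) hr
        simpa using this
      rw [this]
    refine ⟨v, w, hv, ?_, fun a => (hwf a).symm⟩
    rintro ⟨a₀, ha₀⟩
    apply hv
    have h3 : v - f₁ a₀ ∈ B.orthogonal (LinearMap.range f₁) := by
      rw [mem_orthogonal_iff]
      rintro _ ⟨a, rfl⟩
      rw [← hA.neg_eq, neg_eq_zero, map_sub, LinearMap.sub_apply, hiso, ha₀, hwf, sub_self]
    have h4 := hX h3
    have h5 : v = (v - f₁ a₀) + f₁ a₀ := by abel
    rw [h5]
    exact Submodule.add_mem _ h4 ⟨a₀, rfl⟩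
  · -- there is a vector orthogonal to the range outside of it, on both sides
    have hY : ¬ B.orthogonal (LinearMap.range f₂) ≤ LinearMap.range f₂ := fun h =>
      hX (orthogonal_le_of_isometric hB f₁ f₂ h₁ h₂ hiso h)
    rw [SetLike.not_le_iff_exists] at hX hY
    obtain ⟨v, hv1, hv2⟩ := hX
    obtain ⟨w, hw1, hw2⟩ := hY
    refine ⟨v, w, hv2, hw2, fun a => ?_⟩
    rw [mem_orthogonal_iff] at hv1 hw1
    have e1 : B v (f₁ a) = 0 := by rw [← hA.neg_eq, hv1 _ ⟨a, rfl⟩, neg_zero]
    have e2 : B w (f₂ a) = 0 := by rw [← hA.neg_eq, hw1 _ ⟨a, rfl⟩, neg_zero]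
    rw [e1, e2]

/-- **Witt's lemma** for alternating forms, in the form for pairs of injective maps -/
theorem witt_aux (B : LinearMap.BilinForm F V) (hB : B.Nondegenerate) (hA : B.IsAlt) :
    ∀ (n : ℕ) (U : Type (max v u)) [AddCommGroup U] [Module F U] [FiniteDimensional F U]
      (f₁ f₂ : U →ₗ[F] V), finrank F V - finrank F U = n → Function.Injective f₁ →
      Function.Injective f₂ → (∀ a b, B (f₁ a) (f₁ b) = B (f₂ a) (f₂ b)) →
      ∃ g : V ≃ₗ[F] V, (∀ x y, B (g x) (g y) = B x y) ∧ ∀ a, g (f₁ a) = f₂ a := by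
  intro n
  induction n with
  | zero =>
    intro U _ _ _ f₁ f₂ hn h₁ h₂ hiso
    have hle : finrank F U ≤ finrank F V := LinearMap.finrank_le_finrank_of_injective h₁
    have heq : finrank F U = finrank F V := by omega
    have hs₁ : Function.Surjective f₁ :=
      (LinearMap.injective_iff_surjective_of_finrank_eq_finrank heq).mp h₁
    have hs₂ : Function.Surjective f₂ :=
      (LinearMap.injective_iff_surjective_of_finrank_eq_finrank heq).mp h₂
    set e₁ := LinearEquiv.ofBijective f₁ ⟨h₁, hs₁⟩ with he₁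
    set e₂ := LinearEquiv.ofBijective f₂ ⟨h₂, hs₂⟩ with he₂
    have hg : ∀ a, (e₁.symm.trans e₂) (f₁ a) = f₂ a := by
      intro a
      have : e₁.symm (f₁ a) = a := by
        rw [LinearEquiv.symm_apply_eq]; rfl
      rw [LinearEquiv.trans_apply, this]
      rfl
    refine ⟨e₁.symm.trans e₂, ?_, hg⟩
    intro x y
    obtain ⟨a, rfl⟩ := hs₁ x
    obtain ⟨b, rfl⟩ := hs₁ y
    rw [hg, hg, hiso]
  | succ n ih =>
    intro U _ _ _ f₁ f₂ hn h₁ h₂ hiso
    have hne : LinearMap.range f₁ ≠ ⊤ := by
      intro htop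
      have h3 : finrank F ↥(LinearMap.range f₁) = finrank F U := LinearMap.finrank_range_of_inj h₁
      rw [htop, finrank_top] at h3
      omega
    obtain ⟨v, w, hv, hw, hvw⟩ := exists_ext_vectors hB hA f₁ f₂ h₁ h₂ hiso hne
    set f₁' : U × F →ₗ[F] V := f₁.coprod (LinearMap.toSpanSingleton F V v) with hf₁'
    set f₂' : U × F →ₗ[F] V := f₂.coprod (LinearMap.toSpanSingleton F V w) with hf₂'
    have hf₁a : ∀ p : U × F, f₁' p = f₁ p.1 + p.2 • v := by
      intro p
      rw [hf₁', LinearMap.coprod_apply, LinearMap.toSpanSingleton_apply]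
    have hf₂a : ∀ p : U × F, f₂' p = f₂ p.1 + p.2 • w := by
      intro p
      rw [hf₂', LinearMap.coprod_apply, LinearMap.toSpanSingleton_apply]
    have hinj : ∀ (f : U →ₗ[F] V) (z : V), Function.Injective f → z ∉ LinearMap.range f →
        Function.Injective (f.coprod (LinearMap.toSpanSingleton F V z)) := by
      intro f z hf hz
      rw [← LinearMap.ker_eq_bot, LinearMap.ker_eq_bot']
      rintro ⟨a, c⟩ hac
      rw [LinearMap.coprod_apply, LinearMap.toSpanSingleton_apply] at hac
      simp only at hac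
      have hc : c = 0 := by
        by_contra hc
        apply hz
        refine ⟨-(c⁻¹ • a), ?_⟩
        have h3 : c • z = -f a := eq_neg_of_add_eq_zero_right hac
        rw [map_neg, map_smul, neg_eq_iff_eq_neg]
        calc c⁻¹ • f a = c⁻¹ • (-(c • z)) := by rw [h3, neg_neg]
          _ = -z := by rw [smul_neg, smul_smul, inv_mul_cancel₀ hc, one_smul]
      rw [hc, zero_smul, add_zero] at hac
      have ha : a = 0 := hf (by rw [hac, map_zero])
      rw [ha, hc]
      rfl
    have hrank : finrank F V - finrank F (U × F) = n := by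
      rw [Module.finrank_prod, Module.finrank_self]
      omega
    have hiso' : ∀ p q : U × F, B (f₁' p) (f₁' q) = B (f₂' p) (f₂' q) := by
      intro p q
      rw [hf₁a, hf₁a, hf₂a, hf₂a]
      simp only [map_add, map_smul, LinearMap.add_apply, LinearMap.smul_apply, smul_eq_mul]
      have hvw' : ∀ a, B (f₁ a) v = B (f₂ a) w := by
        intro a
        rw [← hA.neg_eq v, ← hA.neg_eq w, hvw]
      rw [hA v, hA w, hiso, hvw q.1, hvw' p.1]
    obtain ⟨g, hg1, hg2⟩ := ih (U × F) f₁' f₂' hrank (hinj f₁ v h₁ hv) (hinj f₂ w h₂ hw) hiso'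
    refine ⟨g, hg1, fun a => ?_⟩
    have := hg2 (a, 0)
    rw [hf₁a, hf₂a] at this
    simpa using this

end WittAlt

end Cfsg.Agent.Lib.Helper2
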