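import Mathlib
import Cfsg.Agent.Lib.Helper2.IsoFrames
import Cfsg.Agent.Lib.Helper2.IsoFrames2
import Cfsg.Agent.Lib.Helper2.SpIsom
import Cfsg.Agent.Lib.Helper2.WittAlt
import Cfsg.Agent.S0245

set_option autoImplicit false

namespace Cfsg.Agent.Lib.Helper2

namespace SpFrames

open Module IsomDecomp IsoFrames SpIsom Cfsg.Agent.Lib.Helper2.Symp

variable {F : Type*} [Field F] {m : ℕ}

theorem sympBilin_nondeg : (sympBilin m F).Nondegenerate := by
  constructor
  · intro x hx
    apply sympForm_nondeg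
    intro y
    rw [← sympBilin_apply]
    exact hx y
  · intro y hy
    apply sympForm_nondeg
    intro x
    rw [sympForm_swap, ← sympBilin_apply, hy x, neg_zero]

theorem sympBilin_swap (x y : Fin m ⊕ Fin m → F) : sympBilin m F x y = -sympBilin m F y x := by
  rw [sympBilin_apply, sympBilin_apply, sympForm_swap]

/-- the form vanishes on the span of a frame -/
theorem form_span_eq_zero {k : ℕ} {u : Fin k → (Fin m ⊕ Fin m → F)}
    (hu : u ∈ Frame (Cfsg.sympForm m F) k) (a b : Fin k → F) :
    sympBilin m F (Fintype.linearCombination F u a) (Fintype.linearCombination F u b) = 0 := by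
  rw [Fintype.linearCombination_apply, Fintype.linearCombination_apply, LinearMap.BilinForm.sum_left]
  apply Finset.sum_eq_zero
  intro i _
  rw [LinearMap.BilinForm.sum_right]
  apply Finset.sum_eq_zero
  intro j _
  rw [LinearMap.BilinForm.smul_left, LinearMap.BilinForm.smul_right, sympBilin_apply, hu.2 i j,
    mul_zero, mul_zero]

theorem frame_trans {k : ℕ} (u : Fin k → (Fin m ⊕ Fin m → F))
    (hu : u ∈ Frame (Cfsg.sympForm m F) k) (u' : Fin k → (Fin m ⊕ Fin m → F))
    (hu' : u' ∈ Frame (Cfsg.sympForm m F) k) :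
    ∃ g ∈ isom (Cfsg.sympForm m F), ∀ i, g (u i) = u' i := by
  classical
  obtain ⟨g, hg1, hg2⟩ := WittAlt.witt_aux (sympBilin m F) sympBilin_nondeg sympBilin_isAlt _
    (Fin k → F) (Fintype.linearCombination F u) (Fintype.linearCombination F u') rfl
    (linearIndependent_iff_injective_fintypeLinearCombination.1 hu.1)
    (linearIndependent_iff_injective_fintypeLinearCombination.1 hu'.1)
    (fun a b => by rw [form_span_eq_zero hu, form_span_eq_zero hu'])
  refine ⟨g, fun x y => ?_, fun i => ?_⟩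
  · rw [← sympBilin_apply, ← sympBilin_apply]
    exact hg1 x y
  · have := hg2 (Pi.single i 1)
    simpa [Fintype.linearCombination_apply, Pi.single_apply] using this

theorem ext_eq {j : ℕ} (u : Fin j → (Fin m ⊕ Fin m → F)) :
    Extn (Cfsg.sympForm m F) u =
      (((sympBilin m F).orthogonal (Submodule.span F (Set.range u)) :
        Submodule F (Fin m ⊕ Fin m → F)) : Set (Fin m ⊕ Fin m → F)) \
        ((Submodule.span F (Set.range u) : Submodule F (Fin m ⊕ Fin m → F)) :
          Set (Fin m ⊕ Fin m → F)) := by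
  ext v
  simp only [Extn, Set.mem_sdiff, SetLike.mem_coe, LinearMap.BilinForm.mem_orthogonal_iff]
  constructor
  · rintro ⟨h1, -, h3⟩
    refine ⟨?_, h1⟩
    intro n hn
    induction hn using Submodule.span_induction with
    | mem x hx =>
      obtain ⟨i, rfl⟩ := hx
      rw [sympBilin_apply]
      exact (h3 i).1
    | zero => rw [map_zero, LinearMap.zero_apply]
    | add x y _ _ hx hy => rw [map_add, LinearMap.add_apply, hx, hy, add_zero]
    | smul c x _ hx => rw [map_smul, LinearMap.smul_apply, hx, smul_zero]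
  · rintro ⟨h1, h2⟩
    refine ⟨h2, sympForm_self v, fun i => ?_⟩
    have := h1 (u i) (Submodule.subset_span ⟨i, rfl⟩)
    rw [sympBilin_apply] at this
    refine ⟨this, ?_⟩
    rw [sympForm_swap, this, neg_zero]

theorem card_ext [Fintype F] {q : ℕ} (hF : Fintype.card F = q) {j : ℕ}
    (u : Fin j → (Fin m ⊕ Fin m → F)) (hu : u ∈ Frame (Cfsg.sympForm m F) j) :
    Nat.card ↥(Extn (Cfsg.sympForm m F) u) = q ^ (2 * m - j) - q ^ j := by
  classical
  set W := Submodule.span F (Set.range u) with hW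
  have hle : (W : Set (Fin m ⊕ Fin m → F)) ⊆ ((sympBilin m F).orthogonal W : Submodule F _) := by
    intro x hx
    rw [SetLike.mem_coe, LinearMap.BilinForm.mem_orthogonal_iff]
    intro n hn
    rw [hW, ← Fintype.range_linearCombination] at hx hn
    obtain ⟨a, rfl⟩ := hx
    obtain ⟨b, rfl⟩ := hn
    exact form_span_eq_zero hu b a
  rw [ext_eq, Nat.card_coe_set_eq, Set.ncard_sdiff hle]
  have h1 : finrank F W = j := by
    rw [hW, finrank_span_eq_card hu.1, Fintype.card_fin]
  have h2 : finrank F ((sympBilin m F).orthogonal W) = 2 * m - j := by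
    rw [LinearMap.BilinForm.finrank_orthogonal sympBilin_nondeg, h1,
      Module.finrank_fintype_fun_eq_card, Fintype.card_sum, Fintype.card_fin, two_mul]
  have h3 : ∀ U : Submodule F (Fin m ⊕ Fin m → F), (U : Set (Fin m ⊕ Fin m → F)).ncard =
      q ^ finrank F U := by
    intro U
    rw [← Nat.card_coe_set_eq]
    show Nat.card ↥U = _
    rw [Module.natCard_eq_pow_finrank (K := F), Nat.card_eq_fintype_card, hF]
  rw [h3, h3, h1, h2]

theorem ncard_frame [Fintype F] {q : ℕ} (hF : Fintype.card F = q) (k : ℕ) :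
    (Frame (Cfsg.sympForm m F) k).ncard = ∏ j ∈ Finset.range k, (q ^ (2 * m - j) - q ^ j) := by
  rw [← Nat.card_coe_set_eq]
  exact card_frame (Cfsg.sympForm m F) (fun j => q ^ (2 * m - j) - q ^ j) k
    (fun j _ u hu => card_ext hF u hu)

theorem card_isom : Nat.card ↥(isom (Cfsg.sympForm m F)) =
    Nat.card (Matrix.symplecticGroup (Fin m) F) := by
  have h1 : Cfsg.stabilizing (Cfsg.spToMat m F)
      (((⊤ : Submodule F (Fin m ⊕ Fin m → F)) : Set (Fin m ⊕ Fin m → F))) = ⊤ := by
    rw [eq_top_iff]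
    intro g _ v
    simp
  have h2 : isom (Cfsg.sympForm m F) ⊓ stab (⊤ : Submodule F (Fin m ⊕ Fin m → F)) =
      isom (Cfsg.sympForm m F) := by
    apply inf_eq_left.2
    intro g _ v
    simp
  rw [← Subgroup.card_top (G := Matrix.symplecticGroup (Fin m) F), ← h1,
    Nat.card_congr (stabEquiv (⊤ : Submodule F (Fin m ⊕ Fin m → F))).toEquiv, h2]

/-- the counting identity for the stabilizer of a totally isotropic subspace -/
theorem card_stab_mul_sp [Fintype F] {q : ℕ} (hF : Fintype.card F = q) (k : ℕ)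
    (W : Submodule F (Fin m ⊕ Fin m → F)) (hWk : finrank F W = k)
    (hW : ∀ u ∈ W, ∀ v ∈ W, Cfsg.sympForm m F u v = 0) :
    Nat.card ↥(Cfsg.stabilizing (Cfsg.spToMat m F) (W : Set (Fin m ⊕ Fin m → F))) *
      ∏ j ∈ Finset.range k, (q ^ (2 * m - j) - q ^ j) =
    (∏ i : Fin k, (q ^ k - q ^ (i : ℕ))) * Nat.card (Matrix.symplecticGroup (Fin m) F) := by
  have h := card_stab_mul (Cfsg.sympForm m F) k (fun u hu u' hu' => frame_trans u hu u' hu')
    W hWk hW
  rw [ncard_frame hF, card_isom, card_linearIndependent (le_of_eq hWk.symm), hWk, hF,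
    ← Nat.card_congr (stabEquiv W).toEquiv] at h
  exact h

/-- the form vanishes on the span of a frame, in terms of membership -/
theorem span_isotropic {k : ℕ} (u : Fin k → (Fin m ⊕ Fin m → F))
    (hu : u ∈ Frame (Cfsg.sympForm m F) k) :
    ∀ x ∈ Submodule.span F (Set.range u), ∀ y ∈ Submodule.span F (Set.range u),
      Cfsg.sympForm m F x y = 0 := by
  intro x hx y hy
  rw [← Fintype.range_linearCombination] at hx hy
  obtain ⟨a, rfl⟩ := hx
  obtain ⟨b, rfl⟩ := hy
  rw [← sympBilin_apply]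
  exact form_span_eq_zero hu a b

theorem spHom_injective : Function.Injective (spHom m F) := by
  intro A B hAB
  apply Cfsg.Agent.Lib.Helper1.SpBasic.ext_mulVec
  intro x
  have h1 := congrArg (fun g : (Fin m ⊕ Fin m → F) ≃ₗ[F] (Fin m ⊕ Fin m → F) => g x) hAB
  exact h1

theorem spHom_mem_isom (A : Matrix.symplecticGroup (Fin m) F) :
    spHom m F A ∈ isom (Cfsg.sympForm m F) :=
  fun x y => Cfsg.Agent.Lib.Helper1.SpBasic.form_mulVec A x y

theorem exists_sp_of_isom {g : (Fin m ⊕ Fin m → F) ≃ₗ[F] (Fin m ⊕ Fin m → F)}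
    (hg : g ∈ isom (Cfsg.sympForm m F)) :
    ∃ A : Matrix.symplecticGroup (Fin m) F, spHom m F A = g := by
  classical
  set M : Matrix (Fin m ⊕ Fin m) (Fin m ⊕ Fin m) F :=
    LinearMap.toMatrix' (g : (Fin m ⊕ Fin m → F) →ₗ[F] (Fin m ⊕ Fin m → F)) with hM
  have hMv : ∀ x, M.mulVec x = g x := by
    intro x
    rw [hM, LinearMap.toMatrix'_mulVec]
    rfl
  have hMs : M ∈ Matrix.symplecticGroup (Fin m) F := by
    rw [Cfsg.Agent.Lib.Helper1.SpCard.mem_symplectic_iff_form]
    intro x y
    rw [hMv, hMv]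
    exact hg x y
  refine ⟨⟨M, hMs⟩, ?_⟩
  apply LinearEquiv.ext
  intro x
  exact hMv x

theorem spHom_apply (A : Matrix.symplecticGroup (Fin m) F) (x : Fin m ⊕ Fin m → F) :
    spHom m F A x = (A : Matrix (Fin m ⊕ Fin m) (Fin m ⊕ Fin m) F).mulVec x := rfl

end SpFrames

end Cfsg.Agent.Lib.Helper2
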