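import Mathlib
import Cfsg.Agent.Lib.Helper2.SpFrames

set_option autoImplicit false

namespace Cfsg.Agent.Lib.Helper2

namespace SpTorus

open Matrix Module IsomDecomp IsoFrames SpIsom SpFrames Cfsg.Agent.Lib.Helper2.Symp
  Cfsg.Agent.Lib.Helper1.SpBasic

variable {F : Type*} [Field F] {m : ℕ}

/-- the standard basis vectors -/
def e (p : Fin m ⊕ Fin m) : Fin m ⊕ Fin m → F := Pi.single p 1

/-- the sign of the form on the standard hyperbolic pairs -/
def eps (p : Fin m ⊕ Fin m) : F := Sum.elim (fun _ => -1) (fun _ => 1) p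

theorem eps_ne_zero (p : Fin m ⊕ Fin m) : (eps p : F) ≠ 0 := by
  rcases p with i | i
  · exact neg_ne_zero.2 one_ne_zero
  · exact one_ne_zero

theorem eps_swap (p : Fin m ⊕ Fin m) : (eps p.swap : F) = -eps p := by
  rcases p with i | i <;> simp [eps]

theorem e_apply (p r : Fin m ⊕ Fin m) : (e p : Fin m ⊕ Fin m → F) r = if r = p then 1 else 0 := by
  unfold e
  rw [Pi.single_apply]

theorem e_ne_zero (p : Fin m ⊕ Fin m) : (e p : Fin m ⊕ Fin m → F) ≠ 0 := by
  intro h
  have := congrFun h p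
  rw [e_apply, if_pos rfl] at this
  exact one_ne_zero this

theorem form_e (a b : Fin m ⊕ Fin m) :
    Cfsg.sympForm m F (e a) (e b) = if b = a.swap then eps a else 0 := by
  rcases b with j | j
  · unfold e
    rw [sympForm_single_inl, Pi.single_apply]
    rcases a with i | i
    · simp
    · by_cases h : j = i
      · subst h; simp [eps]
      · have h' : ¬ i = j := fun h' => h h'.symm
        simp [h, h']
  · unfold e
    rw [sympForm_single_inr, Pi.single_apply]
    rcases a with i | i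
    · by_cases h : j = i
      · subst h; simp [eps]
      · have h' : ¬ i = j := fun h' => h h'.symm
        simp [h, h']
    · simp

theorem form_smul_e (a b : Fin m ⊕ Fin m) (c d : F) :
    Cfsg.sympForm m F (c • e a) (d • e b) = if b = a.swap then c * d * eps a else 0 := by
  rw [sympForm_smul_left, sympForm_smul_right, form_e]
  split_ifs <;> ring

/-- membership in the symplectic group can be tested on the standard basis -/
theorem mem_sp_iff_basis (A : Matrix (Fin m ⊕ Fin m) (Fin m ⊕ Fin m) F) :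
    A ∈ Matrix.symplecticGroup (Fin m) F ↔
      ∀ a b, Cfsg.sympForm m F (A *ᵥ e a) (A *ᵥ e b) = Cfsg.sympForm m F (e a) (e b) := by
  rw [Cfsg.Agent.Lib.Helper1.SpCard.mem_symplectic_iff_form]
  constructor
  · intro h a b
    exact h _ _
  · intro h x y
    have h1 : (sympBilin m F).compl₁₂ (Matrix.toLin' A) (Matrix.toLin' A) = sympBilin m F := by
      apply LinearMap.ext_basis (Pi.basisFun F (Fin m ⊕ Fin m)) (Pi.basisFun F (Fin m ⊕ Fin m))
      intro a b
      rw [LinearMap.compl₁₂_apply, Matrix.toLin'_apply, Matrix.toLin'_apply, sympBilin_apply,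
        sympBilin_apply]
      simp only [Pi.basisFun_apply]
      exact h a b
    have h2 := LinearMap.congr_fun₂ h1 x y
    rw [LinearMap.compl₁₂_apply, Matrix.toLin'_apply, Matrix.toLin'_apply, sympBilin_apply,
      sympBilin_apply] at h2
    exact h2

section perm
open Equiv Equiv.Perm

/-- the pairing involution as a permutation -/
def swapPerm (m : ℕ) : Perm (Fin m ⊕ Fin m) := Equiv.sumComm (Fin m) (Fin m)

theorem swapPerm_apply (m : ℕ) (p : Fin m ⊕ Fin m) : swapPerm m p = p.swap := rfl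

theorem cycleType_swapPerm (m : ℕ) :
    (swapPerm m).cycleType = Multiset.replicate m 2 := by
  set τ : Perm (Fin m ⊕ Fin m) := swapPerm m with hτ
  rcases Nat.eq_zero_or_pos m with hm | hm
  · subst hm
    have : τ = 1 := Subsingleton.elim _ _
    rw [this, cycleType_one]
    rfl
  · have hsq : τ ^ 2 = 1 := by
      ext p
      rcases p with i | i <;> simp [hτ, pow_two, swapPerm_apply]
    have hne : τ ≠ 1 := by
      intro h
      have := congrArg (fun f : Perm (Fin m ⊕ Fin m) => f (Sum.inl ⟨0, hm⟩)) h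
      simp [hτ, swapPerm_apply] at this
    have hord : orderOf τ = 2 := orderOf_eq_prime hsq hne
    obtain ⟨n, hn⟩ := cycleType_prime_order (σ := τ) (by rw [hord]; exact Nat.prime_two)
    rw [hord] at hn
    have hsum := sum_cycleType τ
    have hsupp : τ.support = Finset.univ := by
      ext p
      simp only [mem_support, Finset.mem_univ, iff_true]
      rcases p with i | i <;> simp [hτ, swapPerm_apply]
    rw [hn, hsupp, Multiset.sum_replicate, Finset.card_univ, Fintype.card_sum, Fintype.card_fin,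
      smul_eq_mul] at hsum
    have : n + 1 = m := by omega
    rw [hn, this]

theorem card_centralizer_swapPerm (m : ℕ) :
    Nat.card (Subgroup.centralizer {swapPerm m}) = 2 ^ m * Nat.factorial m := by
  rw [nat_card_centralizer, cycleType_swapPerm, Multiset.sum_replicate, Multiset.prod_replicate,
    Fintype.card_sum, Fintype.card_fin, smul_eq_mul]
  have h1 : m + m - m * 2 = 0 := by omega
  rw [h1, Nat.factorial_zero, one_mul]
  rcases Nat.eq_zero_or_pos m with hm | hm
  · subst hm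
    simp
  · have h2 : (Multiset.replicate m 2).toFinset = {2} := by
      rw [Multiset.toFinset_replicate, if_neg (by omega)]
    rw [h2, Finset.prod_singleton, Multiset.count_replicate_self]

theorem mem_centralizer_swapPerm (π : Perm (Fin m ⊕ Fin m)) :
    π ∈ Subgroup.centralizer {swapPerm m} ↔ ∀ p, π p.swap = (π p).swap := by
  rw [Subgroup.mem_centralizer_iff]
  constructor
  · intro h p
    have h1 := h (swapPerm m) rfl
    have h2 := congrArg (fun f : Perm (Fin m ⊕ Fin m) => f p) h1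
    simp only [Perm.mul_apply, swapPerm_apply] at h2
    exact h2.symm
  · intro h τ hτ
    rw [Set.mem_singleton_iff] at hτ
    subst hτ
    ext p
    simp only [Perm.mul_apply, swapPerm_apply]
    exact (h p).symm

end perm

/-- the torus: the stabilizer of all coordinate axes -/
def Tor (m : ℕ) (F : Type*) [Field F] : Subgroup (Matrix.symplecticGroup (Fin m) F) :=
  ⨅ i : Fin m ⊕ Fin m, Cfsg.stabilizing (Cfsg.spToMat m F)
    ((Submodule.span F {(Pi.single i (1 : F) : Fin m ⊕ Fin m → F)} :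
      Submodule F (Fin m ⊕ Fin m → F)) : Set (Fin m ⊕ Fin m → F))

theorem mem_stabilizing_iff (A : Matrix.symplecticGroup (Fin m) F)
    (W : Submodule F (Fin m ⊕ Fin m → F)) :
    A ∈ Cfsg.stabilizing (Cfsg.spToMat m F) (W : Set (Fin m ⊕ Fin m → F)) ↔
      spHom m F A ∈ stab W := Iff.rfl

theorem mem_stabilizing_span_iff (A : Matrix.symplecticGroup (Fin m) F) (p : Fin m ⊕ Fin m) :
    A ∈ Cfsg.stabilizing (Cfsg.spToMat m F)
      ((Submodule.span F {(Pi.single p (1 : F) : Fin m ⊕ Fin m → F)} :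
        Submodule F (Fin m ⊕ Fin m → F)) : Set (Fin m ⊕ Fin m → F)) ↔
      ∃ c : F, (A : Matrix (Fin m ⊕ Fin m) (Fin m ⊕ Fin m) F) *ᵥ e p = c • e p := by
  constructor
  · intro hA
    have h1 := (hA (e p)).1 (Submodule.mem_span_singleton_self _)
    obtain ⟨c, hc⟩ := Submodule.mem_span_singleton.1 h1
    exact ⟨c, hc.symm⟩
  · rintro ⟨c, hc⟩
    rw [mem_stabilizing_iff]
    apply mem_stab_of_map
    apply Submodule.eq_of_le_of_finrank_eq
    · rintro _ ⟨x, hx, rfl⟩
      obtain ⟨d, rfl⟩ := Submodule.mem_span_singleton.1 hx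
      show spHom m F A (d • Pi.single p 1) ∈ _
      rw [map_smul, spHom_apply]
      have : (A : Matrix (Fin m ⊕ Fin m) (Fin m ⊕ Fin m) F) *ᵥ Pi.single p 1 = c • e p := hc
      rw [this]
      exact Submodule.smul_mem _ _ (Submodule.smul_mem _ _ (Submodule.mem_span_singleton_self _))
    · exact LinearEquiv.finrank_map_eq (spHom m F A) _

theorem mem_Tor_iff (A : Matrix.symplecticGroup (Fin m) F) :
    A ∈ Tor m F ↔
      ∀ p, ∃ c : F, (A : Matrix (Fin m ⊕ Fin m) (Fin m ⊕ Fin m) F) *ᵥ e p = c • e p := by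
  unfold Tor
  rw [Subgroup.mem_iInf]
  exact forall_congr' (fun p => mem_stabilizing_span_iff A p)

/-- monomial symplectic matrices -/
def IsMono (A : Matrix.symplecticGroup (Fin m) F) : Prop :=
  ∀ p, ∃ (p' : Fin m ⊕ Fin m) (c : F),
    (A : Matrix (Fin m ⊕ Fin m) (Fin m ⊕ Fin m) F) *ᵥ e p = c • e p'

theorem mulVec_ne_zero (A : Matrix.symplecticGroup (Fin m) F) {x : Fin m ⊕ Fin m → F}
    (hx : x ≠ 0) : (A : Matrix (Fin m ⊕ Fin m) (Fin m ⊕ Fin m) F) *ᵥ x ≠ 0 := by
  intro h
  apply hx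
  have := inv_mulVec_mulVec A x
  rw [h, Matrix.mulVec_zero] at this
  exact this.symm

theorem smul_e_eq {c d : F} {p p' : Fin m ⊕ Fin m} (hc : c ≠ 0)
    (h : c • (e p : Fin m ⊕ Fin m → F) = d • e p') : p = p' ∧ c = d := by
  have h1 := congrFun h p
  rw [Pi.smul_apply, Pi.smul_apply, e_apply, e_apply, if_pos rfl, smul_eq_mul, smul_eq_mul,
    mul_one] at h1
  by_cases hp : p = p'
  · rw [if_pos hp, mul_one] at h1
    exact ⟨hp, h1⟩
  · rw [if_neg hp, mul_zero] at h1
    exact absurd h1 hc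

/-- the data of a monomial matrix -/
theorem exists_perm_of_mono {A : Matrix.symplecticGroup (Fin m) F} (hA : IsMono A) :
    ∃ (π : Equiv.Perm (Fin m ⊕ Fin m)) (c : Fin m ⊕ Fin m → F), (∀ p, c p ≠ 0) ∧
      ∀ p, (A : Matrix (Fin m ⊕ Fin m) (Fin m ⊕ Fin m) F) *ᵥ e p = c p • e (π p) := by
  classical
  choose π c hπc using hA
  have hc : ∀ p, c p ≠ 0 := by
    intro p h0
    have := hπc p
    rw [h0, zero_smul] at this
    exact mulVec_ne_zero A (e_ne_zero p) this
  have hinj : Function.Injective π := by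
    intro p p' hpp'
    have h1 : (A : Matrix (Fin m ⊕ Fin m) (Fin m ⊕ Fin m) F) *ᵥ
        (c p' • e p - c p • e p') = 0 := by
      rw [Matrix.mulVec_sub, Matrix.mulVec_smul, Matrix.mulVec_smul, hπc, hπc, hpp', smul_smul,
        smul_smul, mul_comm, sub_self]
    have h2 : c p' • (e p : Fin m ⊕ Fin m → F) - c p • e p' = 0 := by
      by_contra hne
      exact mulVec_ne_zero A hne h1
    exact (smul_e_eq (hc p') (sub_eq_zero.1 h2)).1
  have hbij : Function.Bijective π := Finite.injective_iff_bijective.1 hinj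
  exact ⟨Equiv.ofBijective π hbij, c, hc, hπc⟩

theorem mono_inv {A : Matrix.symplecticGroup (Fin m) F} (hA : IsMono A) : IsMono A⁻¹ := by
  obtain ⟨π, c, hc, hπc⟩ := exists_perm_of_mono hA
  intro r
  refine ⟨π.symm r, (c (π.symm r))⁻¹, ?_⟩
  have h1 := hπc (π.symm r)
  rw [Equiv.apply_symm_apply] at h1
  have h2 : (e r : Fin m ⊕ Fin m → F) = (c (π.symm r))⁻¹ •
      ((A : Matrix (Fin m ⊕ Fin m) (Fin m ⊕ Fin m) F) *ᵥ e (π.symm r)) := by
    rw [h1, smul_smul, inv_mul_cancel₀ (hc _), one_smul]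
  conv_lhs => rw [h2]
  rw [Matrix.mulVec_smul, inv_mulVec_mulVec]

theorem conj_mem_Tor {g : Matrix.symplecticGroup (Fin m) F} (hg : IsMono g)
    {h : Matrix.symplecticGroup (Fin m) F} (hh : h ∈ Tor m F) : g * h * g⁻¹ ∈ Tor m F := by
  obtain ⟨π, c, hc, hπc⟩ := exists_perm_of_mono hg
  rw [mem_Tor_iff] at hh ⊢
  intro r
  obtain ⟨t, ht⟩ := hh (π.symm r)
  refine ⟨t, ?_⟩
  have h1 := hπc (π.symm r)
  rw [Equiv.apply_symm_apply] at h1
  have h2 : ((g⁻¹ : Matrix.symplecticGroup (Fin m) F) :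
      Matrix (Fin m ⊕ Fin m) (Fin m ⊕ Fin m) F) *ᵥ e r = (c (π.symm r))⁻¹ • e (π.symm r) := by
    have h3 : (e r : Fin m ⊕ Fin m → F) = (c (π.symm r))⁻¹ •
        ((g : Matrix (Fin m ⊕ Fin m) (Fin m ⊕ Fin m) F) *ᵥ e (π.symm r)) := by
      rw [h1, smul_smul, inv_mul_cancel₀ (hc _), one_smul]
    conv_lhs => rw [h3]
    rw [Matrix.mulVec_smul, inv_mulVec_mulVec]
  rw [coe_mul_mulVec, coe_mul_mulVec, h2, Matrix.mulVec_smul, ht, Matrix.mulVec_smul,
    Matrix.mulVec_smul, h1, smul_smul, smul_smul]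
  congr 1
  have := hc (π.symm r)
  field_simp

theorem mono_mem_normalizer {g : Matrix.symplecticGroup (Fin m) F} (hg : IsMono g) :
    g ∈ Subgroup.normalizer (Tor m F : Set (Matrix.symplecticGroup (Fin m) F)) := by
  rw [Subgroup.mem_normalizer_iff]
  intro h
  constructor
  · exact conj_mem_Tor hg
  · intro hh
    have := conj_mem_Tor (mono_inv hg) hh
    have e1 : g⁻¹ * (g * h * g⁻¹) * g⁻¹⁻¹ = h := by group
    rwa [e1] at this

theorem diagonal_mulVec_e (d : Fin m ⊕ Fin m → F) (p : Fin m ⊕ Fin m) :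
    Matrix.diagonal d *ᵥ (e p : Fin m ⊕ Fin m → F) = d p • e p := by
  funext r
  rw [Matrix.mulVec_diagonal, Pi.smul_apply, e_apply, smul_eq_mul]
  by_cases h : r = p
  · rw [h]
  · rw [if_neg h, mul_zero, mul_zero]

/-- diagonal symplectic matrices -/
def diagSp (d : Fin m ⊕ Fin m → F) (hd : ∀ p, d p * d p.swap = 1) :
    Matrix.symplecticGroup (Fin m) F :=
  ⟨Matrix.diagonal d, by
    rw [mem_sp_iff_basis]
    intro a b
    rw [diagonal_mulVec_e, diagonal_mulVec_e, form_smul_e, form_e]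
    by_cases h : b = a.swap
    · rw [if_pos h, if_pos h, h, hd, one_mul]
    · rw [if_neg h, if_neg h]⟩

theorem diagSp_mulVec_e (d : Fin m ⊕ Fin m → F) (hd : ∀ p, d p * d p.swap = 1)
    (p : Fin m ⊕ Fin m) :
    ((diagSp d hd : Matrix.symplecticGroup (Fin m) F) :
      Matrix (Fin m ⊕ Fin m) (Fin m ⊕ Fin m) F) *ᵥ e p = d p • e p := diagonal_mulVec_e d p

theorem diagSp_mem_Tor (d : Fin m ⊕ Fin m → F) (hd : ∀ p, d p * d p.swap = 1) :
    diagSp d hd ∈ Tor m F := by
  rw [mem_Tor_iff]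
  intro p
  exact ⟨d p, diagSp_mulVec_e d hd p⟩

theorem swap_ne (p : Fin m ⊕ Fin m) : p.swap ≠ p := by
  rcases p with i | i <;> simp

/-- elements of the normalizer of the torus are monomial -/
theorem mono_of_mem_normalizer (hF : ∃ a : F, a ≠ 0 ∧ a * a ≠ 1)
    {g : Matrix.symplecticGroup (Fin m) F}
    (hg : g ∈ Subgroup.normalizer (Tor m F : Set (Matrix.symplecticGroup (Fin m) F))) :
    IsMono g := by
  classical
  obtain ⟨a, ha0, ha1⟩ := hF
  have ha' : a ≠ 1 := by
    rintro rfl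
    exact ha1 (one_mul 1)
  have haa : a ≠ a⁻¹ := by
    intro h
    apply ha1
    nth_rewrite 2 [h]
    exact mul_inv_cancel₀ ha0
  intro p
  set w := (g : Matrix (Fin m ⊕ Fin m) (Fin m ⊕ Fin m) F) *ᵥ e p with hw
  have hw0 : w ≠ 0 := mulVec_ne_zero g (e_ne_zero p)
  obtain ⟨p₁, hp₁⟩ : ∃ p₁, w p₁ ≠ 0 := by
    by_contra hcon
    push Not at hcon
    exact hw0 (funext hcon)
  refine ⟨p₁, w p₁, ?_⟩
  funext p₂
  rw [Pi.smul_apply, e_apply, smul_eq_mul]
  by_cases h12 : p₂ = p₁
  · rw [if_pos h12, mul_one, h12]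
  · rw [if_neg h12, mul_zero]
    by_contra hp₂
    set d : Fin m ⊕ Fin m → F := fun r => if r = p₁ then a else if r = p₁.swap then a⁻¹ else 1
      with hd
    have hdd : ∀ r, d r * d r.swap = 1 := by
      intro r
      simp only [hd]
      by_cases h1 : r = p₁
      · rw [if_pos h1, h1, if_neg (swap_ne p₁), if_pos rfl, mul_inv_cancel₀ ha0]
      · rw [if_neg h1]
        by_cases h2 : r = p₁.swap
        · rw [if_pos h2, h2, Sum.swap_swap, if_pos rfl, inv_mul_cancel₀ ha0]
        · rw [if_neg h2]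
          have h3 : r.swap ≠ p₁ := by
            intro h3
            apply h2
            rw [← h3, Sum.swap_swap]
          have h4 : r.swap ≠ p₁.swap := by
            intro h4
            apply h1
            have := congrArg Sum.swap h4
            rwa [Sum.swap_swap, Sum.swap_swap] at this
          rw [if_neg h3, if_neg h4, mul_one]
    have hD := diagSp_mem_Tor d hdd
    have hconj : g⁻¹ * diagSp d hdd * g ∈ Tor m F := by
      rw [Subgroup.mem_normalizer_iff] at hg
      rw [hg (g⁻¹ * diagSp d hdd * g)]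
      have : g * (g⁻¹ * diagSp d hdd * g) * g⁻¹ = diagSp d hdd := by group
      rw [this]
      exact hD
    rw [mem_Tor_iff] at hconj
    obtain ⟨c, hc⟩ := hconj p
    have h5 : Matrix.diagonal d *ᵥ w = c • w := by
      have h6 : (g : Matrix (Fin m ⊕ Fin m) (Fin m ⊕ Fin m) F) *ᵥ
          (((g⁻¹ * diagSp d hdd * g : Matrix.symplecticGroup (Fin m) F) :
            Matrix (Fin m ⊕ Fin m) (Fin m ⊕ Fin m) F) *ᵥ e p) =
          (g : Matrix (Fin m ⊕ Fin m) (Fin m ⊕ Fin m) F) *ᵥ (c • e p) := congrArg _ hc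
      rw [coe_mul_mulVec, coe_mul_mulVec, mulVec_inv_mulVec, Matrix.mulVec_smul] at h6
      exact h6
    have h7 := congrFun h5 p₁
    have h8 := congrFun h5 p₂
    rw [Matrix.mulVec_diagonal, Pi.smul_apply, smul_eq_mul] at h7 h8
    have h9 : d p₁ = c := mul_right_cancel₀ hp₁ h7
    have h10 : d p₂ = c := mul_right_cancel₀ hp₂ h8
    have h11 : d p₁ = a := by
      show (if p₁ = p₁ then a else if p₁ = p₁.swap then a⁻¹ else 1) = a
      rw [if_pos rfl]
    have h12' : d p₂ = a := by rw [h10, ← h9, h11]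
    replace h12' : (if p₂ = p₁ then a else if p₂ = p₁.swap then a⁻¹ else 1) = a := h12'
    rw [if_neg h12] at h12'
    by_cases h13 : p₂ = p₁.swap
    · rw [if_pos h13] at h12'
      exact haa h12'.symm
    · rw [if_neg h13] at h12'
      exact ha' h12'.symm

theorem perm_comm_swap {A : Matrix.symplecticGroup (Fin m) F} (π : Equiv.Perm (Fin m ⊕ Fin m))
    (c : Fin m ⊕ Fin m → F)
    (hπc : ∀ p, (A : Matrix (Fin m ⊕ Fin m) (Fin m ⊕ Fin m) F) *ᵥ e p = c p • e (π p)) :
    ∀ p, π p.swap = (π p).swap := by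
  intro p
  have h1 := form_mulVec A (e p) (e p.swap)
  rw [hπc, hπc, form_smul_e, form_e, if_pos rfl] at h1
  by_contra hne
  rw [if_neg hne] at h1
  exact eps_ne_zero p h1.symm

theorem mulVec_e_apply (M : Matrix (Fin m ⊕ Fin m) (Fin m ⊕ Fin m) F) (p r : Fin m ⊕ Fin m) :
    (M *ᵥ (e p : Fin m ⊕ Fin m → F)) r = M r p := by
  unfold e
  rw [Matrix.mulVec_single_one]
  rfl

/-- the sign vector making a permutation matrix symplectic -/
noncomputable def sgn (F : Type*) [Field F] (π : Equiv.Perm (Fin m ⊕ Fin m))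
    (p : Fin m ⊕ Fin m) : F :=
  Sum.elim (fun _ => 1) (fun i => eps (Sum.inl i : Fin m ⊕ Fin m) / eps (π (Sum.inl i))) p

theorem sgn_ne_zero (π : Equiv.Perm (Fin m ⊕ Fin m)) (p : Fin m ⊕ Fin m) :
    sgn F π p ≠ 0 := by
  rcases p with i | i
  · exact one_ne_zero
  · exact div_ne_zero (eps_ne_zero _) (eps_ne_zero _)

theorem sgn_mul (π : Equiv.Perm (Fin m ⊕ Fin m)) (hπ : ∀ p, π p.swap = (π p).swap)
    (a : Fin m ⊕ Fin m) : sgn F π a * sgn F π a.swap * eps (π a) = eps a := by
  rcases a with i | i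
  · show (1 : F) * (eps (Sum.inl i : Fin m ⊕ Fin m) / eps (π (Sum.inl i))) * eps (π (Sum.inl i)) =
      eps (Sum.inl i : Fin m ⊕ Fin m)
    have := eps_ne_zero (F := F) (π (Sum.inl i))
    field_simp
  · show (eps (Sum.inl i : Fin m ⊕ Fin m) / eps (π (Sum.inl i))) * (1 : F) * eps (π (Sum.inr i)) =
      eps (Sum.inr i : Fin m ⊕ Fin m)
    have h1 : π (Sum.inr i) = (π (Sum.inl i)).swap := hπ (Sum.inl i)
    rw [h1, eps_swap]
    have := eps_ne_zero (F := F) (π (Sum.inl i))
    have h2 : (eps (Sum.inr i : Fin m ⊕ Fin m) : F) = -eps (Sum.inl i : Fin m ⊕ Fin m) := by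
      simp [eps]
    rw [h2]
    field_simp

/-- the signed permutation matrix -/
noncomputable def permMat (F : Type*) [Field F] (π : Equiv.Perm (Fin m ⊕ Fin m)) :
    Matrix (Fin m ⊕ Fin m) (Fin m ⊕ Fin m) F :=
  fun r p => if r = π p then sgn F π p else 0

theorem permMat_mulVec_e (π : Equiv.Perm (Fin m ⊕ Fin m)) (p : Fin m ⊕ Fin m) :
    permMat F π *ᵥ e p = sgn F π p • e (π p) := by
  funext r
  rw [mulVec_e_apply, Pi.smul_apply, e_apply, smul_eq_mul, mul_ite, mul_one, mul_zero]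
  rfl

/-- the signed permutation matrix of a permutation commuting with the pairing -/
noncomputable def permSp (π : Equiv.Perm (Fin m ⊕ Fin m)) (hπ : ∀ p, π p.swap = (π p).swap) :
    Matrix.symplecticGroup (Fin m) F :=
  ⟨permMat F π, by
    rw [mem_sp_iff_basis]
    intro a b
    rw [permMat_mulVec_e, permMat_mulVec_e, form_smul_e, form_e]
    by_cases h : b = a.swap
    · rw [if_pos h, h, if_pos (hπ a), sgn_mul π hπ]
    · rw [if_neg h, if_neg]
      intro h'
      apply h
      rw [← hπ a] at h'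
      exact π.injective h'⟩

theorem permSp_mulVec_e (π : Equiv.Perm (Fin m ⊕ Fin m)) (hπ : ∀ p, π p.swap = (π p).swap)
    (p : Fin m ⊕ Fin m) :
    ((permSp π hπ : Matrix.symplecticGroup (Fin m) F) :
      Matrix (Fin m ⊕ Fin m) (Fin m ⊕ Fin m) F) *ᵥ e p = sgn F π p • e (π p) :=
  permMat_mulVec_e π p

theorem permSp_mono (π : Equiv.Perm (Fin m ⊕ Fin m)) (hπ : ∀ p, π p.swap = (π p).swap) :
    IsMono (permSp π hπ : Matrix.symplecticGroup (Fin m) F) :=
  fun p => ⟨π p, sgn F π p, permSp_mulVec_e π hπ p⟩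

theorem ext_e {A B : Matrix.symplecticGroup (Fin m) F}
    (h : ∀ p, (A : Matrix (Fin m ⊕ Fin m) (Fin m ⊕ Fin m) F) *ᵥ e p =
      (B : Matrix (Fin m ⊕ Fin m) (Fin m ⊕ Fin m) F) *ᵥ e p) : A = B := by
  apply Subtype.ext
  ext r p
  have h1 := congrFun (h p) r
  rw [mulVec_e_apply, mulVec_e_apply] at h1
  exact h1

theorem tor_mulVec {A : Matrix.symplecticGroup (Fin m) F} (hA : A ∈ Tor m F)
    (p : Fin m ⊕ Fin m) :
    (A : Matrix (Fin m ⊕ Fin m) (Fin m ⊕ Fin m) F) *ᵥ e p =
      (A : Matrix (Fin m ⊕ Fin m) (Fin m ⊕ Fin m) F) p p • e p := by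
  obtain ⟨c, hc⟩ := (mem_Tor_iff A).1 hA p
  have h1 := congrFun hc p
  rw [mulVec_e_apply, Pi.smul_apply, e_apply, if_pos rfl, smul_eq_mul, mul_one] at h1
  rw [h1]
  exact hc

theorem tor_diag_mul {A : Matrix.symplecticGroup (Fin m) F} (hA : A ∈ Tor m F)
    (p : Fin m ⊕ Fin m) :
    (A : Matrix (Fin m ⊕ Fin m) (Fin m ⊕ Fin m) F) p p *
      (A : Matrix (Fin m ⊕ Fin m) (Fin m ⊕ Fin m) F) p.swap p.swap = 1 := by
  have h1 := form_mulVec A (e p) (e p.swap)
  rw [tor_mulVec hA, tor_mulVec hA, form_smul_e, form_e, if_pos rfl, if_pos rfl] at h1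
  exact mul_right_cancel₀ (eps_ne_zero p) (h1.trans (one_mul _).symm)

/-- the torus is parametrized by `m` nonzero scalars -/
noncomputable def torEquiv : ↥(Tor m F) ≃ (Fin m → Fˣ) where
  toFun A := fun i => Units.mk0 ((A.1 : Matrix (Fin m ⊕ Fin m) (Fin m ⊕ Fin m) F)
    (Sum.inl i) (Sum.inl i)) (fun h0 => by
      have := tor_diag_mul A.2 (Sum.inl i)
      rw [h0, zero_mul] at this
      exact zero_ne_one this)
  invFun s := ⟨diagSp (Sum.elim (fun i => (s i : F)) (fun i => ((s i)⁻¹ : Fˣ))) (by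
      intro p
      rcases p with i | i <;> simp), diagSp_mem_Tor _ _⟩
  left_inv A := by
    apply Subtype.ext
    apply ext_e
    intro p
    rw [diagSp_mulVec_e, tor_mulVec A.2]
    congr 1
    rcases p with i | i
    · rfl
    · simp only [Sum.elim_inr, Units.val_inv_eq_inv_val, Units.val_mk0]
      have := tor_diag_mul A.2 (Sum.inl i)
      exact inv_eq_of_mul_eq_one_right this
  right_inv s := by
    funext i
    apply Units.ext
    simp [diagSp]

theorem card_Tor [Fintype F] {q : ℕ} (hF : Fintype.card F = q) :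
    Nat.card ↥(Tor m F) = (q - 1) ^ m := by
  classical
  rw [Nat.card_congr torEquiv, Nat.card_eq_fintype_card, Fintype.card_fun, Fintype.card_fin,
    Fintype.card_units, hF]

/-- tuples of sets of vectors, acted on by the symplectic group -/
def Axes (m : ℕ) (F : Type*) [Field F] : Type _ := Fin m ⊕ Fin m → Set (Fin m ⊕ Fin m → F)

instance : MulAction (Matrix.symplecticGroup (Fin m) F) (Axes m F) where
  smul g x := fun p => (fun v => (g : Matrix (Fin m ⊕ Fin m) (Fin m ⊕ Fin m) F) *ᵥ v) '' (x p)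
  one_smul x := by
    funext p
    show (fun v => ((1 : Matrix.symplecticGroup (Fin m) F) :
      Matrix (Fin m ⊕ Fin m) (Fin m ⊕ Fin m) F) *ᵥ v) '' (x p) = x p
    simp only [coe_one_mulVec, Set.image_id']
  mul_smul g h x := by
    funext p
    show (fun v => ((g * h : Matrix.symplecticGroup (Fin m) F) :
      Matrix (Fin m ⊕ Fin m) (Fin m ⊕ Fin m) F) *ᵥ v) '' (x p) =
      (fun v => (g : Matrix (Fin m ⊕ Fin m) (Fin m ⊕ Fin m) F) *ᵥ v) ''
        ((fun v => (h : Matrix (Fin m ⊕ Fin m) (Fin m ⊕ Fin m) F) *ᵥ v) '' (x p))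
    rw [Set.image_image]
    simp only [coe_mul_mulVec]

theorem smul_axes_apply (g : Matrix.symplecticGroup (Fin m) F) (x : Axes m F)
    (p : Fin m ⊕ Fin m) :
    (g • x) p = (fun v => (g : Matrix (Fin m ⊕ Fin m) (Fin m ⊕ Fin m) F) *ᵥ v) '' (x p) := rfl

/-- the coordinate axes -/
def axis (m : ℕ) (F : Type*) [Field F] (p : Fin m ⊕ Fin m) : Set (Fin m ⊕ Fin m → F) :=
  ((Submodule.span F {(e p : Fin m ⊕ Fin m → F)} : Submodule F (Fin m ⊕ Fin m → F)) :
    Set (Fin m ⊕ Fin m → F))

/-- the standard tuple of axes -/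
def x₀ (m : ℕ) (F : Type*) [Field F] : Axes m F := fun p => axis m F p

theorem image_axis (g : Matrix.symplecticGroup (Fin m) F) (p p' : Fin m ⊕ Fin m) (c : F)
    (hc : c ≠ 0)
    (h : (g : Matrix (Fin m ⊕ Fin m) (Fin m ⊕ Fin m) F) *ᵥ e p = c • e p') :
    (fun v => (g : Matrix (Fin m ⊕ Fin m) (Fin m ⊕ Fin m) F) *ᵥ v) '' (axis m F p) =
      axis m F p' := by
  unfold axis
  ext v
  simp only [Set.mem_image, SetLike.mem_coe, Submodule.mem_span_singleton]
  constructor
  · rintro ⟨_, ⟨d, rfl⟩, rfl⟩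
    refine ⟨d * c, ?_⟩
    rw [Matrix.mulVec_smul, h, smul_smul]
  · rintro ⟨d, rfl⟩
    refine ⟨(d * c⁻¹) • e p, ⟨d * c⁻¹, rfl⟩, ?_⟩
    rw [Matrix.mulVec_smul, h, smul_smul, mul_assoc, inv_mul_cancel₀ hc, mul_one]

theorem axis_injective : Function.Injective (axis m F) := by
  intro p p' h
  have h1 : (e p : Fin m ⊕ Fin m → F) ∈ axis m F p' := by
    rw [← h]
    exact Submodule.mem_span_singleton_self _
  obtain ⟨c, hc⟩ := Submodule.mem_span_singleton.1 h1
  have h2 : (1 : F) • (e p : Fin m ⊕ Fin m → F) = c • e p' := by rw [one_smul, hc]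
  exact (smul_e_eq one_ne_zero h2).1

theorem stabilizer_x₀ :
    MulAction.stabilizer (Matrix.symplecticGroup (Fin m) F) (x₀ m F) = Tor m F := by
  ext g
  rw [MulAction.mem_stabilizer_iff, mem_Tor_iff]
  constructor
  · intro h p
    have h1 := congrFun h p
    rw [smul_axes_apply] at h1
    have h2 : (g : Matrix (Fin m ⊕ Fin m) (Fin m ⊕ Fin m) F) *ᵥ e p ∈ x₀ m F p := by
      rw [← h1]
      exact ⟨e p, Submodule.mem_span_singleton_self _, rfl⟩
    obtain ⟨c, hc⟩ := Submodule.mem_span_singleton.1 h2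
    exact ⟨c, hc.symm⟩
  · intro h
    funext p
    obtain ⟨c, hc⟩ := h p
    have hc0 : c ≠ 0 := by
      rintro rfl
      rw [zero_smul] at hc
      exact mulVec_ne_zero g (e_ne_zero p) hc
    rw [smul_axes_apply]
    exact image_axis g p p c hc0 hc

/-- the order of the normalizer of the torus -/
theorem card_normalizer [Fintype F] {q : ℕ} (hF : Fintype.card F = q) (hq : 4 ≤ q) :
    Nat.card ↥(Subgroup.normalizer (Tor m F : Set (Matrix.symplecticGroup (Fin m) F))) =
      2 ^ m * Nat.factorial m * (q - 1) ^ m := by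
  classical
  have hF' : ∃ a : F, a ≠ 0 ∧ a * a ≠ 1 := by
    have hcard : ({0, 1, -1} : Finset F).card < Fintype.card F := by
      calc ({0, 1, -1} : Finset F).card ≤ 3 := Finset.card_le_three
        _ < Fintype.card F := by omega
    obtain ⟨a, -, ha⟩ := Finset.exists_mem_notMem_of_card_lt_card
      (s := ({0, 1, -1} : Finset F)) (t := Finset.univ) (by rwa [Finset.card_univ])
    simp only [Finset.mem_insert, Finset.mem_singleton, not_or] at ha
    refine ⟨a, ha.1, fun h => ?_⟩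
    have h1 : (a - 1) * (a + 1) = 0 := by linear_combination h
    rcases mul_eq_zero.1 h1 with h2 | h2
    · exact ha.2.1 (sub_eq_zero.1 h2)
    · exact ha.2.2 (eq_neg_of_add_eq_zero_left h2)
  set N := Subgroup.normalizer (Tor m F : Set (Matrix.symplecticGroup (Fin m) F)) with hN
  let ψ : ↥(Subgroup.centralizer {swapPerm m}) → Axes m F := fun π p => axis m F (π.1 p)
  have hψ : Function.Injective ψ := by
    intro π π' h
    apply Subtype.ext
    ext p
    exact axis_injective (congrFun h p)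
  have hO : ∀ r, r ∈ Set.range ψ ↔ ∃ g ∈ N, g • x₀ m F = r := by
    intro r
    constructor
    · rintro ⟨π, rfl⟩
      have hπ := (mem_centralizer_swapPerm π.1).1 π.2
      refine ⟨permSp π.1 hπ, mono_mem_normalizer (permSp_mono π.1 hπ), ?_⟩
      funext p
      rw [smul_axes_apply]
      exact image_axis _ p (π.1 p) _ (sgn_ne_zero π.1 p) (permSp_mulVec_e π.1 hπ p)
    · rintro ⟨g, hg, rfl⟩
      obtain ⟨π, c, hc, hπc⟩ := exists_perm_of_mono (mono_of_mem_normalizer hF' hg)
      have hπ := perm_comm_swap π c hπc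
      refine ⟨⟨π, (mem_centralizer_swapPerm π).2 hπ⟩, ?_⟩
      funext p
      rw [smul_axes_apply]
      exact (image_axis g p (π p) (c p) (hc p) (hπc p)).symm
  have h := Cfsg.Agent.Lib.Helper1.StabCard.card_subgroup_eq_orbit_mul N (x₀ m F)
    (Set.range ψ) hO
  have h2 : N ⊓ MulAction.stabilizer (Matrix.symplecticGroup (Fin m) F) (x₀ m F) = Tor m F := by
    rw [stabilizer_x₀]
    exact inf_eq_right.2 Subgroup.le_normalizer
  rw [h, h2, card_Tor hF, ← Nat.card_coe_set_eq, Nat.card_range_of_injective hψ,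
    card_centralizer_swapPerm]

end SpTorus

end Cfsg.Agent.Lib.Helper2
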