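import Mathlib
import Cfsg.Prelude

set_option autoImplicit false
open Matrix

namespace Cfsg.Agent.Lib.Helper2.ReflGen

variable {F : Type*} [Field F] {ι : Type} [Fintype ι] [DecidableEq ι]

theorem polarVec_dot (Q : QuadraticForm F (ι → F)) (v x : ι → F) :
    Cfsg.polarVec (⇑Q) v ⬝ᵥ x = QuadraticMap.polar (⇑Q) v x := by
  have h1 : QuadraticMap.polar (⇑Q) v x = (QuadraticMap.polarBilin Q v) x := rfl
  rw [h1, LinearMap.pi_apply_eq_sum_univ (QuadraticMap.polarBilin Q v) x, dotProduct]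
  apply Finset.sum_congr rfl
  intro i _
  rw [smul_eq_mul, mul_comm]
  congr 1
  show QuadraticMap.polar (⇑Q) v (Pi.single i 1) = QuadraticMap.polar (⇑Q) v _
  congr 1
  funext j
  rw [Pi.single_apply]
  by_cases h : i = j
  · simp [h]
  · have : ¬ j = i := fun h' => h h'.symm
    simp [h, this]

theorem vecMulVec_polarVec_mulVec (Q : QuadraticForm F (ι → F)) (u v x : ι → F) :
    Matrix.vecMulVec u (Cfsg.polarVec (⇑Q) v) *ᵥ x = QuadraticMap.polar (⇑Q) v x • u := by
  rw [Matrix.vecMulVec_mulVec, polarVec_dot, op_smul_eq_smul]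

theorem reflectionMatrix_mulVec (Q : QuadraticForm F (ι → F)) (v x : ι → F) :
    Cfsg.reflectionMatrix (⇑Q) v *ᵥ x = x - ((Q v)⁻¹ * QuadraticMap.polar (⇑Q) v x) • v := by
  unfold Cfsg.reflectionMatrix
  rw [Matrix.sub_mulVec, Matrix.one_mulVec, Matrix.smul_mulVec, vecMulVec_polarVec_mulVec,
    smul_smul]

theorem siegelMatrix_mulVec (Q : QuadraticForm F (ι → F)) (u v : ι → F) (c : F)
    (x : ι → F) :
    Cfsg.siegelMatrix (⇑Q) u v c *ᵥ x =
      x + c • (QuadraticMap.polar (⇑Q) u x • v - QuadraticMap.polar (⇑Q) v x • u) := by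
  unfold Cfsg.siegelMatrix
  rw [Matrix.add_mulVec, Matrix.one_mulVec, Matrix.smul_mulVec, Matrix.sub_mulVec,
    vecMulVec_polarVec_mulVec, vecMulVec_polarVec_mulVec]

theorem det_one_add_vecMulVec (u w : ι → F) :
    (1 + Matrix.vecMulVec u w).det = 1 + w ⬝ᵥ u := by
  rw [Matrix.vecMulVec_eq (ι := Unit), Matrix.det_one_add_replicateCol_mul_replicateRow]

theorem polar_self (Q : QuadraticForm F (ι → F)) (v : ι → F) :
    QuadraticMap.polar (⇑Q) v v = 2 * Q v := by
  rw [QuadraticMap.polar_self]; simp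

theorem map_add_smul (Q : QuadraticForm F (ι → F)) (x v : ι → F) (c : F) :
    Q (x + c • v) = Q x + c * c * Q v + c * QuadraticMap.polar (⇑Q) x v := by
  have h := QuadraticMap.map_add Q x (c • v)
  rw [h, QuadraticMap.map_smul, QuadraticMap.polar_smul_right, smul_eq_mul, smul_eq_mul]


/-- general index type version of the reflection facts -/
theorem reflection_facts (Q : QuadraticForm F (ι → F)) (v : ι → F) (hv : Q v ≠ 0) :
    (∀ x, Q ((Cfsg.reflectionMatrix ⇑Q v).mulVec x) = Q x) ∧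
    (Cfsg.reflectionMatrix ⇑Q v).mulVec v = -v ∧
    (∀ x, QuadraticMap.polar ⇑Q v x = 0 → (Cfsg.reflectionMatrix ⇑Q v).mulVec x = x) ∧
    (Cfsg.reflectionMatrix ⇑Q v).det = -1 := by
  refine ⟨?_, ?_, ?_, ?_⟩
  · intro x
    rw [reflectionMatrix_mulVec, sub_eq_add_neg, ← neg_smul, map_add_smul,
      QuadraticMap.polar_comm (⇑Q) x v]
    field_simp
    ring
  · rw [reflectionMatrix_mulVec, polar_self]
    have : (Q v)⁻¹ * (2 * Q v) = 2 := by field_simp
    rw [this, two_smul]
    abel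
  · intro x hx
    rw [reflectionMatrix_mulVec, hx, mul_zero, zero_smul, sub_zero]
  · unfold Cfsg.reflectionMatrix
    rw [sub_eq_add_neg, ← neg_smul, ← Matrix.smul_vecMulVec, det_one_add_vecMulVec,
      dotProduct_smul, polarVec_dot, polar_self, smul_eq_mul]
    field_simp
    ring

end Cfsg.Agent.Lib.Helper2.ReflGen
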