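import Mathlib
import Cfsg.Agent.Lib.Helper2.CDGen

set_option autoImplicit false

namespace Cfsg.Agent.Lib.Helper2

namespace Spinor

open Matrix Cfsg.Agent.Lib.Helper2.ReflGen Cfsg.Agent.Lib.Helper2.CDG

/-- the sign of an involution -/
theorem sign_of_mul_self {α : Type*} [Fintype α] [DecidableEq α] (τ : Equiv.Perm α)
    (h : τ * τ = 1) : Equiv.Perm.sign τ = (-1) ^ (τ.support.card / 2) := by
  have h2 : ∀ k ∈ τ.cycleType, k = 2 := by
    intro k hk
    have h3 := Equiv.Perm.dvd_of_mem_cycleType hk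
    have h4 : orderOf τ ∣ 2 := orderOf_dvd_of_pow_eq_one (by rw [pow_two]; exact h)
    have h5 := Equiv.Perm.two_le_of_mem_cycleType hk
    have h6 : k ∣ 2 := h3.trans h4
    have := Nat.le_of_dvd (by norm_num) h6
    omega
  have h3 : τ.cycleType = Multiset.replicate (Multiset.card τ.cycleType) 2 :=
    Multiset.eq_replicate_card.2 h2
  have h4 : τ.support.card = 2 * Multiset.card τ.cycleType := by
    rw [← Equiv.Perm.sum_cycleType, h3, Multiset.sum_replicate, Multiset.card_replicate,
      smul_eq_mul, mul_comm]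
  rw [Equiv.Perm.sign_of_cycleType, h4, Nat.mul_div_cancel_left _ (by norm_num : 0 < 2)]
  rw [h3, Multiset.sum_replicate, Multiset.card_replicate, smul_eq_mul, pow_add, pow_mul]
  simp

variable {F : Type*} [Field F] [Fintype F] [DecidableEq F] {ι : Type} [Fintype ι] [DecidableEq ι]
variable (Q : QuadraticForm F (ι → F))

/-- the permutation action of the isometry group on a level set -/
noncomputable def levPerm (c : F) :
    ↥(Cfsg.isometryGroup F ⇑Q) →* Equiv.Perm {x : ι → F // Q x = c} where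
  toFun g :=
    { toFun := fun x => ⟨((g : Matrix.GeneralLinearGroup ι F) : Matrix ι ι F) *ᵥ x.1, by
        rw [iso_Q]; exact x.2⟩
      invFun := fun x => ⟨((g⁻¹ : ↥(Cfsg.isometryGroup F ⇑Q)) : Matrix.GeneralLinearGroup ι F).1 *ᵥ x.1,
        by rw [iso_Q]; exact x.2⟩
      left_inv := fun x => Subtype.ext (by
        show ((g⁻¹ : ↥(Cfsg.isometryGroup F ⇑Q)) : Matrix.GeneralLinearGroup ι F).1 *ᵥ
          (((g : Matrix.GeneralLinearGroup ι F) : Matrix ι ι F) *ᵥ x.1) = x.1
        rw [← mul_mulVec, inv_mul_cancel, one_mulVec'])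
      right_inv := fun x => Subtype.ext (by
        show ((g : Matrix.GeneralLinearGroup ι F) : Matrix ι ι F) *ᵥ
          (((g⁻¹ : ↥(Cfsg.isometryGroup F ⇑Q)) : Matrix.GeneralLinearGroup ι F).1 *ᵥ x.1) = x.1
        rw [← mul_mulVec, mul_inv_cancel, one_mulVec']) }
  map_one' := Equiv.ext fun x => Subtype.ext (one_mulVec' x.1)
  map_mul' g h := Equiv.ext fun x => Subtype.ext (mul_mulVec g h x.1)

theorem levPerm_apply (c : F) (g : ↥(Cfsg.isometryGroup F ⇑Q)) (x : {x : ι → F // Q x = c}) :
    ((levPerm Q c g) x : ι → F) =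
      ((g : Matrix.GeneralLinearGroup ι F) : Matrix ι ι F) *ᵥ x.1 := rfl

/-- the sign of the action on a level set -/
noncomputable def levSign (c : F) : ↥(Cfsg.isometryGroup F ⇑Q) →* ℤˣ :=
  Equiv.Perm.sign.comp (levPerm Q c)

theorem levSign_apply (c : F) (g : ↥(Cfsg.isometryGroup F ⇑Q)) :
    levSign Q c g = Equiv.Perm.sign (levPerm Q c g) := rfl

/-- `-1` as an isometry -/
noncomputable def negOne : ↥(Cfsg.isometryGroup F ⇑Q) :=
  ⟨-1, fun u _ => by
    show Q (((-1 : Matrix.GeneralLinearGroup ι F) : Matrix ι ι F) *ᵥ u) = Q u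
    rw [Units.val_neg, Units.val_one, Matrix.neg_mulVec, Matrix.one_mulVec, QuadraticMap.map_neg]⟩

theorem negOne_mulVec (x : ι → F) :
    ((negOne Q : Matrix.GeneralLinearGroup ι F) : Matrix ι ι F) *ᵥ x = -x := by
  show ((-1 : Matrix.GeneralLinearGroup ι F) : Matrix ι ι F) *ᵥ x = -x
  rw [Units.val_neg, Units.val_one, Matrix.neg_mulVec, Matrix.one_mulVec]

theorem negOne_coe :
    ((negOne Q : Matrix.GeneralLinearGroup ι F) : Matrix ι ι F) = -1 := by
  show ((-1 : Matrix.GeneralLinearGroup ι F) : Matrix ι ι F) = -1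
  rw [Units.val_neg, Units.val_one]

theorem negOne_mul_self : negOne Q * negOne Q = 1 := by
  apply iso_ext
  intro x
  rw [mul_mulVec, negOne_mulVec, negOne_mulVec, neg_neg, one_mulVec']

variable {Q}

theorem ne_neg_of_level (h2 : (2 : F) ≠ 0) {c : F} (hc : c ≠ 0) (x : {x : ι → F // Q x = c}) :
    -x.1 ≠ x.1 := by
  intro h
  have h1 : (2 : F) • x.1 = 0 := by
    rw [two_smul]
    nth_rewrite 1 [← h]
    exact neg_add_cancel _
  have h3 : x.1 = 0 := by
    rcases smul_eq_zero.1 h1 with h | h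
    · exact absurd h h2
    · exact h
  have := x.2
  rw [h3, QuadraticMap.map_zero] at this
  exact hc this.symm

theorem levSign_negOne (h2 : (2 : F) ≠ 0) {c : F} (hc : c ≠ 0) :
    levSign Q c (negOne Q) = (-1) ^ (Fintype.card {x : ι → F // Q x = c} / 2) := by
  rw [levSign_apply, sign_of_mul_self _ (by rw [← map_mul, negOne_mul_self, map_one])]
  have : (levPerm Q c (negOne Q)).support = Finset.univ := by
    ext x
    simp only [Equiv.Perm.mem_support, Finset.mem_univ, iff_true]
    intro h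
    have h1 := congrArg Subtype.val h
    rw [levPerm_apply, negOne_mulVec] at h1
    exact ne_neg_of_level h2 hc x h1
  rw [this, Finset.card_univ]

theorem even_card_level (h2 : (2 : F) ≠ 0) {c : F} (hc : c ≠ 0) :
    Even (Fintype.card {x : ι → F // Q x = c}) := by
  have h1 : (levPerm Q c (negOne Q)).support = Finset.univ := by
    ext x
    simp only [Equiv.Perm.mem_support, Finset.mem_univ, iff_true]
    intro h
    have h1 := congrArg Subtype.val h
    rw [levPerm_apply, negOne_mulVec] at h1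
    exact ne_neg_of_level h2 hc x h1
  have h3 := Equiv.Perm.two_dvd_card_support (σ := levPerm Q c (negOne Q))
    (by rw [pow_two, ← map_mul, negOne_mul_self, map_one])
  rw [h1, Finset.card_univ] at h3
  exact even_iff_two_dvd.2 h3

end Spinor

end Cfsg.Agent.Lib.Helper2
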