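import Mathlib
import Cfsg.Agent.Lib.Helper2.Spinor1

set_option autoImplicit false

namespace Cfsg.Agent.Lib.Helper2

namespace Spinor

open Matrix Cfsg.Agent.Lib.Helper2.ReflGen Cfsg.Agent.Lib.Helper2.CDG

variable {F : Type*} [Field F] [Fintype F] [DecidableEq F] {ι : Type} [Fintype ι] [DecidableEq ι]
variable {Q : QuadraticForm F (ι → F)}

theorem refl_smul (v : ι → F) (hv : Q v ≠ 0) (t : F) :
    ((refl Q v hv : Matrix.GeneralLinearGroup ι F) : Matrix ι ι F) *ᵥ (t • v) = -(t • v) := by
  rw [refl_mulVec, QuadraticMap.polar_smul_right, polar_self, smul_eq_mul]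
  have : (Q v)⁻¹ * (t * (2 * Q v)) = 2 * t := by field_simp
  rw [this, mul_smul, two_smul]
  abel

theorem negrefl_fixed_iff (h2 : (2 : F) ≠ 0) (v : ι → F) (hv : Q v ≠ 0) (x : ι → F) :
    -(((refl Q v hv : Matrix.GeneralLinearGroup ι F) : Matrix ι ι F) *ᵥ x) = x ↔
      ∃ t : F, x = t • v := by
  constructor
  · intro h
    rw [refl_mulVec] at h
    refine ⟨2⁻¹ * ((Q v)⁻¹ * QuadraticMap.polar (⇑Q) v x), ?_⟩
    have h1 : (2 : F) • x = ((Q v)⁻¹ * QuadraticMap.polar (⇑Q) v x) • v := by
      rw [two_smul]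
      nth_rewrite 1 [← h]
      abel
    rw [mul_smul, ← h1, smul_smul, inv_mul_cancel₀ h2, one_smul]
  · rintro ⟨t, rfl⟩
    rw [refl_smul, neg_neg]

theorem negrefl_mul_self (v : ι → F) (hv : Q v ≠ 0) :
    (negOne Q * refl Q v hv) * (negOne Q * refl Q v hv) = 1 := by
  apply iso_ext
  intro x
  rw [mul_mulVec, mul_mulVec, mul_mulVec, negOne_mulVec, negOne_mulVec, Matrix.mulVec_neg, neg_neg,
    ← mul_mulVec, refl_mul_self, one_mulVec']

omit [Fintype F] [DecidableEq F] [Fintype ι] [DecidableEq ι] in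
theorem map_smul_self (v : ι → F) (t : F) : Q (t • v) = t * t * Q v := by
  rw [QuadraticMap.map_smul, smul_eq_mul]

theorem levSign_refl (h2 : (2 : F) ≠ 0) {c : F} (hc : c ≠ 0) (v : ι → F) (hv : Q v ≠ 0) :
    levSign Q c (refl Q v hv) = if ∃ t : F, t * t * Q v = c then -1 else 1 := by
  have hdecomp : refl Q v hv = negOne Q * (negOne Q * refl Q v hv) := by
    rw [← mul_assoc, negOne_mul_self, one_mul]
  have hsupp : ∀ x : {x : ι → F // Q x = c},
      x ∈ (levPerm Q c (negOne Q * refl Q v hv)).support ↔ ¬ ∃ t : F, x.1 = t • v := by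
    intro x
    rw [Equiv.Perm.mem_support, ← negrefl_fixed_iff h2 v hv x.1, not_iff_not]
    constructor
    · intro h
      have h1 := congrArg Subtype.val h
      rw [levPerm_apply, mul_mulVec, negOne_mulVec] at h1
      exact h1
    · intro h
      apply Subtype.ext
      rw [levPerm_apply, mul_mulVec, negOne_mulVec]
      exact h
  have heven := even_card_level (Q := Q) h2 hc
  obtain ⟨k, hk⟩ := heven
  conv_lhs => rw [hdecomp]
  rw [map_mul, levSign_negOne h2 hc, levSign_apply,
    sign_of_mul_self _ (by rw [← map_mul, negrefl_mul_self, map_one])]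
  by_cases hex : ∃ t : F, t * t * Q v = c
  · rw [if_pos hex]
    obtain ⟨t₀, ht₀⟩ := hex
    have ht0 : t₀ ≠ 0 := by
      rintro rfl
      rw [zero_mul, zero_mul] at ht₀
      exact hc ht₀.symm
    let x₁ : {x : ι → F // Q x = c} := ⟨t₀ • v, by rw [map_smul_self, ht₀]⟩
    let x₂ : {x : ι → F // Q x = c} := ⟨(-t₀) • v, by rw [map_smul_self, ← ht₀]; ring⟩
    have hne : x₁ ≠ x₂ := by
      intro h
      have h1 : t₀ • v = (-t₀) • v := congrArg Subtype.val h
      rw [neg_smul] at h1
      exact ne_neg_of_level h2 hc x₁ h1.symm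
    have hS : (levPerm Q c (negOne Q * refl Q v hv)).support = Finset.univ \ {x₁, x₂} := by
      ext x
      rw [hsupp, Finset.mem_sdiff, Finset.mem_insert, Finset.mem_singleton]
      simp only [Finset.mem_univ, true_and]
      rw [not_iff_not]
      constructor
      · rintro ⟨t, ht⟩
        have h1 : t * t * Q v = c := by rw [← map_smul_self, ← ht]; exact x.2
        have h3 : (t - t₀) * (t + t₀) = 0 := by
          have h4 : (t * t - t₀ * t₀) * Q v = 0 := by rw [sub_mul, h1, ht₀, sub_self]
          rcases mul_eq_zero.1 h4 with h | h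
          · rw [← h]; ring
          · exact absurd h hv
        rcases mul_eq_zero.1 h3 with h | h
        · left
          apply Subtype.ext
          rw [ht, sub_eq_zero.1 h]
        · right
          apply Subtype.ext
          rw [ht, eq_neg_of_add_eq_zero_left h]
      · rintro (h | h)
        · exact ⟨t₀, by rw [h]⟩
        · exact ⟨-t₀, by rw [h]⟩
    have hcard : ({x₁, x₂} : Finset {x : ι → F // Q x = c}).card = 2 := Finset.card_pair hne
    rw [hS, Finset.card_sdiff_of_subset (Finset.subset_univ _), Finset.card_univ, hcard, hk]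
    have hk1 : 1 ≤ k := by
      have h5 : ({x₁, x₂} : Finset {x : ι → F // Q x = c}).card ≤
          Fintype.card {x : ι → F // Q x = c} := Finset.card_le_univ _
      rw [hcard, hk] at h5
      omega
    obtain ⟨j, rfl⟩ : ∃ j, k = j + 1 := ⟨k - 1, by omega⟩
    have e1 : (j + 1 + (j + 1)) / 2 = j + 1 := by omega
    have e2 : (j + 1 + (j + 1) - 2) / 2 = j := by omega
    rw [e1, e2, pow_succ, mul_comm ((-1 : ℤˣ) ^ j), mul_assoc, ← pow_add, ← two_mul, pow_mul]
    simp
  · rw [if_neg hex]
    have hS : (levPerm Q c (negOne Q * refl Q v hv)).support = Finset.univ := by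
      ext x
      rw [hsupp]
      simp only [Finset.mem_univ, iff_true]
      rintro ⟨t, ht⟩
      apply hex
      exact ⟨t, by rw [← map_smul_self, ← ht]; exact x.2⟩
    rw [hS, Finset.card_univ, ← pow_add, hk]
    have e1 : (k + k) / 2 = k := by omega
    rw [e1, ← two_mul, pow_mul]
    simp

end Spinor

end Cfsg.Agent.Lib.Helper2
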