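import Mathlib
import Cfsg.Agent.Lib.Helper2.Spinor2
import Cfsg.Agent.Lib.Helper5.QuadFin

set_option autoImplicit false

namespace Cfsg.Agent.Lib.Helper2

namespace Spinor

open Matrix Cfsg.Agent.Lib.Helper2.ReflGen Cfsg.Agent.Lib.Helper2.CDG

variable {F : Type*} [Field F] {ι : Type} [Fintype ι] [DecidableEq ι]
variable {Q : QuadraticForm F (ι → F)}

theorem eq_refl_of_coe (g : ↥(Cfsg.isometryGroup F ⇑Q)) (v : ι → F) (hv : Q v ≠ 0)
    (hg : ((g : Matrix.GeneralLinearGroup ι F) : Matrix ι ι F) = Cfsg.reflectionMatrix ⇑Q v) :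
    g = refl Q v hv := by
  apply Subtype.ext
  apply Units.ext
  rw [hg, refl_coe]

theorem conj_refl (g : ↥(Cfsg.isometryGroup F ⇑Q)) (v : ι → F) (hv : Q v ≠ 0) :
    g * refl Q v hv * g⁻¹ =
      refl Q (((g : Matrix.GeneralLinearGroup ι F) : Matrix ι ι F) *ᵥ v)
        (by rw [iso_Q]; exact hv) := by
  apply iso_ext
  intro x
  rw [mul_mulVec, mul_mulVec, refl_mulVec, refl_mulVec, Matrix.mulVec_sub, Matrix.mulVec_smul,
    ← mul_mulVec, mul_inv_cancel, one_mulVec', iso_Q]
  congr 3
  have h := iso_polar g v (((g⁻¹ : ↥(Cfsg.isometryGroup F ⇑Q)) : Matrix.GeneralLinearGroup ι F).1 *ᵥ x)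
  rw [← mul_mulVec, mul_inv_cancel, one_mulVec'] at h
  exact h.symm

theorem refl_smul_eq (v : ι → F) (hv : Q v ≠ 0) (t : F) (ht : t ≠ 0) :
    refl Q (t • v) (by rw [map_smul_self]; exact mul_ne_zero (mul_ne_zero ht ht) hv) =
      refl Q v hv := by
  apply iso_ext
  intro x
  rw [refl_mulVec, refl_mulVec, map_smul_self, QuadraticMap.polar_smul_left, smul_smul, smul_eq_mul]
  congr 2
  field_simp

/-- reflections in vectors of the same norm have the same image in the abelianization -/
theorem ab_refl_eq (h2 : (2 : F) ≠ 0) (u w : ι → F) (hu : Q u ≠ 0) (hw : Q w ≠ 0)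
    (huw : Q u = Q w) :
    Abelianization.of (refl Q u hu) = Abelianization.of (refl Q w hw) := by
  have hsub : Q (u - w) = 2 * Q u - QuadraticMap.polar (⇑Q) u w := by
    have h1 : u - w = u + (-1 : F) • w := by rw [neg_one_smul, sub_eq_add_neg]
    rw [h1, map_add_smul, ← huw]
    ring
  have hadd : Q (u + w) = 2 * Q u + QuadraticMap.polar (⇑Q) u w := by
    have h1 : u + w = u + (1 : F) • w := by rw [one_smul]
    rw [h1, map_add_smul, ← huw]
    ring
  by_cases hc : Q (u - w) = 0
  · have hpol : QuadraticMap.polar (⇑Q) u w = 2 * Q u := by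
      rw [hsub] at hc
      linear_combination -hc
    have hne : Q (u + w) ≠ 0 := by
      rw [hadd, hpol]
      have : 2 * Q u + 2 * Q u = 2 * 2 * Q u := by ring
      rw [this]
      exact mul_ne_zero (mul_ne_zero h2 h2) hu
    have hmv : ((refl Q (u + w) hne : Matrix.GeneralLinearGroup ι F) : Matrix ι ι F) *ᵥ u =
        (-1 : F) • w := by
      rw [refl_mulVec, QuadraticMap.polar_add_left, polar_self, QuadraticMap.polar_comm (⇑Q) w u]
      have : (Q (u + w))⁻¹ * (2 * Q u + QuadraticMap.polar (⇑Q) u w) = 1 := by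
        rw [← hadd]
        exact inv_mul_cancel₀ hne
      rw [this, one_smul, neg_one_smul]
      abel
    have h3 := conj_refl (refl Q (u + w) hne) u hu
    have h4 : refl Q (((refl Q (u + w) hne : Matrix.GeneralLinearGroup ι F) : Matrix ι ι F) *ᵥ u)
        (by rw [iso_Q]; exact hu) = refl Q w hw := by
      rw [← refl_smul_eq w hw (-1) (neg_ne_zero.2 one_ne_zero)]
      congr 1
    rw [h4] at h3
    rw [← h3, map_mul, map_mul, mul_comm, ← mul_assoc, ← map_mul, inv_mul_cancel, map_one, one_mul]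
  · have hmv : ((refl Q (u - w) hc : Matrix.GeneralLinearGroup ι F) : Matrix ι ι F) *ᵥ u = w := by
      rw [refl_mulVec, QuadraticMap.polar_sub_left, polar_self, QuadraticMap.polar_comm (⇑Q) w u]
      have : (Q (u - w))⁻¹ * (2 * Q u - QuadraticMap.polar (⇑Q) u w) = 1 := by
        rw [← hsub]
        exact inv_mul_cancel₀ hc
      rw [this, one_smul]
      abel
    have h3 := conj_refl (refl Q (u - w) hc) u hu
    have h4 : refl Q (((refl Q (u - w) hc : Matrix.GeneralLinearGroup ι F) : Matrix ι ι F) *ᵥ u)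
        (by rw [iso_Q]; exact hu) = refl Q w hw := by
      congr 1
    rw [h4] at h3
    rw [← h3, map_mul, map_mul, mul_comm, ← mul_assoc, ← map_mul, inv_mul_cancel, map_one, one_mul]

/-- reflections in vectors whose norms differ by a square have the same image -/
theorem ab_refl_eq' (h2 : (2 : F) ≠ 0) (u w : ι → F) (hu : Q u ≠ 0) (hw : Q w ≠ 0)
    (t : F) (huw : Q u = t * t * Q w) :
    Abelianization.of (refl Q u hu) = Abelianization.of (refl Q w hw) := by
  have ht : t ≠ 0 := by
    rintro rfl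
    rw [zero_mul, zero_mul] at huw
    exact hu huw
  rw [← refl_smul_eq w hw t ht]
  exact ab_refl_eq h2 u (t • w) hu _ (by rw [map_smul_self, huw])

end Spinor

end Cfsg.Agent.Lib.Helper2
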