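import Mathlib
import Cfsg.Agent.Lib.Helper2.Spinor3
import Cfsg.Agent.Lib.Helper5.QuadFin

set_option autoImplicit false

namespace Cfsg.Agent.Lib.Helper2

namespace CentO

open Matrix Cfsg.Agent.Lib.Helper2.ReflGen Cfsg.Agent.Lib.Helper2.CDG

variable {F : Type*} [Field F] {ι : Type} [Fintype ι] [DecidableEq ι]
variable {Q : QuadraticForm F (ι → F)}

/-- singular vectors in the kernel of a linear map to a small space -/
theorem exists_singular_ker [Finite F] {k : ℕ} (L : (ι → F) →ₗ[F] (Fin k → F))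
    (h : k + 3 ≤ Fintype.card ι) : ∃ s : ι → F, s ≠ 0 ∧ Q s = 0 ∧ L s = 0 := by
  have h1 : Module.finrank F (LinearMap.range L) + Module.finrank F (LinearMap.ker L) =
      Module.finrank F (ι → F) := LinearMap.finrank_range_add_finrank_ker L
  have h2 : Module.finrank F (LinearMap.range L) ≤ k := by
    calc Module.finrank F (LinearMap.range L) ≤ Module.finrank F (Fin k → F) :=
          Submodule.finrank_le _
      _ = k := by simp
  have h3 : 3 ≤ Module.finrank F (LinearMap.ker L) := by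
    rw [Module.finrank_fintype_fun_eq_card] at h1; omega
  obtain ⟨v, hv0, hv⟩ := Cfsg.Agent.Lib.Helper5.exists_singular_of_finrank
    (Q.comp (LinearMap.ker L).subtype) h3
  exact ⟨v.1, fun h => hv0 (Subtype.ext h), hv, v.2⟩

/-- nonzero singular vectors orthogonal to `k` given vectors -/
theorem exists_singular_perp [Finite F] {k : ℕ} (a : Fin k → ι → F)
    (h : k + 3 ≤ Fintype.card ι) :
    ∃ s : ι → F, s ≠ 0 ∧ Q s = 0 ∧ ∀ i, QuadraticMap.polar (⇑Q) (a i) s = 0 := by
  obtain ⟨s, hs0, hs, hL⟩ := exists_singular_ker (Q := Q)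
    (LinearMap.pi (fun i => QuadraticMap.polarBilin Q (a i))) h
  refine ⟨s, hs0, hs, fun i => ?_⟩
  have := congrFun hL i
  simpa using this

/-- if `u ∉ ⟨u'⟩` then `r_u r_{u'}` moves some `x` by a nonzero multiple of `u` -/
theorem exists_image (hQ : (QuadraticMap.polarBilin Q).Nondegenerate) (u u' : ι → F)
    (hu : Q u ≠ 0) (hu' : Q u' ≠ 0) (hind : ∀ t : F, u ≠ t • u') :
    ∃ x : ι → F, ∃ s : F, s ≠ 0 ∧
      ((refl Q u hu * refl Q u' hu' : ↥(Cfsg.isometryGroup F ⇑Q)) :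
        Matrix.GeneralLinearGroup ι F).1 *ᵥ x = x + s • u := by
  have hu'0 : u' ≠ 0 := by rintro rfl; exact hu' (QuadraticMap.map_zero Q)
  obtain ⟨y, hy⟩ : ∃ y, QuadraticMap.polar (⇑Q) u' y ≠ 0 := by
    by_contra hcon
    push Not at hcon
    exact hu'0 (hQ.1 u' hcon)
  obtain ⟨x, hx1, hx2⟩ : ∃ x, QuadraticMap.polar (⇑Q) u' x = 0 ∧
      QuadraticMap.polar (⇑Q) u x ≠ 0 := by
    by_contra hcon
    push Not at hcon
    apply hind (QuadraticMap.polar (⇑Q) u y / QuadraticMap.polar (⇑Q) u' y)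
    have h1 : u - (QuadraticMap.polar (⇑Q) u y / QuadraticMap.polar (⇑Q) u' y) • u' = 0 := by
      apply hQ.1
      intro x
      show QuadraticMap.polar (⇑Q)
        (u - (QuadraticMap.polar (⇑Q) u y / QuadraticMap.polar (⇑Q) u' y) • u') x = 0
      have h2 := hcon (x - (QuadraticMap.polar (⇑Q) u' x / QuadraticMap.polar (⇑Q) u' y) • y)
        (by
          rw [QuadraticMap.polar_sub_right, QuadraticMap.polar_smul_right, smul_eq_mul]
          field_simp
          ring)
      rw [QuadraticMap.polar_sub_right, QuadraticMap.polar_smul_right, smul_eq_mul] at h2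
      rw [QuadraticMap.polar_sub_left, QuadraticMap.polar_smul_left, smul_eq_mul]
      field_simp
      field_simp at h2
      linear_combination h2
    exact sub_eq_zero.1 h1
  refine ⟨x, -((Q u)⁻¹ * QuadraticMap.polar (⇑Q) u x), ?_, ?_⟩
  · exact neg_ne_zero.2 (mul_ne_zero (inv_ne_zero hu) hx2)
  · rw [mul_mulVec, refl_fix u' hu' x hx1, refl_mulVec, neg_smul, sub_eq_add_neg]

/-- if `r_u r_{u'} = r_w r_{w'}` and `u ∉ ⟨u'⟩` then `u ∈ ⟨w, w'⟩` -/
theorem mem_plane (hQ : (QuadraticMap.polarBilin Q).Nondegenerate) (u u' w w' : ι → F)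
    (hu : Q u ≠ 0) (hu' : Q u' ≠ 0) (hw : Q w ≠ 0) (hw' : Q w' ≠ 0)
    (hind : ∀ t : F, u ≠ t • u')
    (heq : refl Q u hu * refl Q u' hu' = refl Q w hw * refl Q w' hw') :
    ∃ a b : F, u = a • w + b • w' := by
  obtain ⟨x, s, hs, hx⟩ := exists_image hQ u u' hu hu' hind
  rw [heq, mul_mulVec, refl_mulVec, refl_mulVec] at hx
  obtain ⟨α, hα⟩ : ∃ α, α = (Q w')⁻¹ * QuadraticMap.polar (⇑Q) w' x := ⟨_, rfl⟩
  rw [← hα] at hx
  obtain ⟨β, hβ⟩ : ∃ β, β = (Q w)⁻¹ * QuadraticMap.polar (⇑Q) w (x - α • w') := ⟨_, rfl⟩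
  rw [← hβ] at hx
  refine ⟨-(s⁻¹ * β), -(s⁻¹ * α), ?_⟩
  have h1 : s • u = -(β • w) - α • w' := by
    have : s • u = (x + s • u) - x := by abel
    rw [this, ← hx]; abel
  have h2 : u = s⁻¹ • (s • u) := by rw [smul_smul, inv_mul_cancel₀ hs, one_smul]
  rw [h2, h1, smul_sub, smul_neg, smul_smul, smul_smul, neg_smul, neg_smul]
  abel

/-- a product of two reflections is not trivial when the vectors are independent -/
theorem mul_ne_one (hQ : (QuadraticMap.polarBilin Q).Nondegenerate) (u u' : ι → F)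
    (hu : Q u ≠ 0) (hu' : Q u' ≠ 0) (hind : ∀ t : F, u ≠ t • u') :
    refl Q u hu * refl Q u' hu' ≠ 1 := by
  intro h1
  obtain ⟨x, s, hs, hx⟩ := exists_image hQ u u' hu hu' hind
  rw [h1, one_mulVec'] at hx
  have hu0 : u ≠ 0 := by rintro rfl; exact hu (QuadraticMap.map_zero Q)
  have : s • u = 0 := by
    have h2 : s • u = (x + s • u) - x := by abel
    rw [h2, ← hx]; abel
  rcases smul_eq_zero.1 this with h | h
  · exact hs h
  · exact hu0 h

end CentO

end Cfsg.Agent.Lib.Helper2
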