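import Mathlib
import Cfsg.Agent.Lib.Helper2.CentOmega1

set_option autoImplicit false

namespace Cfsg.Agent.Lib.Helper2

namespace CentO

open Matrix Cfsg.Agent.Lib.Helper2.ReflGen Cfsg.Agent.Lib.Helper2.CDG

variable {F : Type*} [Field F] {ι : Type} [Fintype ι] [DecidableEq ι]
variable {Q : QuadraticForm F (ι → F)}

theorem refl_congr {v v' : ι → F} (h : v = v') (hv : Q v ≠ 0) (hv' : Q v' ≠ 0) :
    refl Q v hv = refl Q v' hv' := by
  subst h; rfl

omit [Fintype ι] [DecidableEq ι] in
theorem ind_symm {x y : ι → F} (hx : x ≠ 0) (h : ∀ t : F, y ≠ t • x) : ∀ t : F, x ≠ t • y := by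
  intro t ht
  have ht0 : t ≠ 0 := by
    rintro rfl
    rw [zero_smul] at ht
    exact hx ht
  apply h t⁻¹
  rw [ht, smul_smul, inv_mul_cancel₀ ht0, one_smul]

/-- the vectors of a given nonzero norm are not contained in a plane -/
theorem exists_not_mem_plane [Finite F] (hQ : (QuadraticMap.polarBilin Q).Nondegenerate)
    (hn : 6 ≤ Fintype.card ι) (u : ι → F) (hu : Q u ≠ 0) (a b : ι → F) :
    ∃ w, Q w = Q u ∧ ∀ α β : F, w ≠ α • a + β • b := by
  classical
  obtain ⟨s₁, hs₁0, hs₁, hp₁⟩ := exists_singular_perp (Q := Q) (k := 1) (fun _ => u) (by omega)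
  have hus₁ : QuadraticMap.polar (⇑Q) u s₁ = 0 := hp₁ 0
  obtain ⟨y₁, hy₁, hy₁Q⟩ := Cfsg.Agent.Lib.Helper5.exists_partner Q hQ hs₁0 hs₁
  obtain ⟨s₂, hs₂0, hs₂, hp₂⟩ := exists_singular_perp (Q := Q) (k := 3) ![u, s₁, y₁] (by omega)
  have hus₂ : QuadraticMap.polar (⇑Q) u s₂ = 0 := hp₂ 0
  have hs₁s₂ : QuadraticMap.polar (⇑Q) s₁ s₂ = 0 := hp₂ 1
  have hy₁s₂ : QuadraticMap.polar (⇑Q) y₁ s₂ = 0 := hp₂ 2
  by_contra hcon
  push Not at hcon
  have hmem : ∀ w, Q w = Q u → w ∈ Submodule.span F ({a, b} : Set (ι → F)) := by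
    intro w hw
    obtain ⟨α, β, h⟩ := hcon w hw
    rw [h]
    exact Submodule.add_mem _ (Submodule.smul_mem _ _ (Submodule.subset_span (by simp)))
      (Submodule.smul_mem _ _ (Submodule.subset_span (by simp)))
  have h1 : u ∈ Submodule.span F ({a, b} : Set (ι → F)) := hmem u rfl
  have h2 : s₁ ∈ Submodule.span F ({a, b} : Set (ι → F)) := by
    have h := hmem (u + s₁) (by rw [QuadraticMap.map_add (⇑Q), hs₁, hus₁]; ring)
    have e : s₁ = (u + s₁) - u := by abel
    rw [e]; exact Submodule.sub_mem _ h h1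
  have h3 : s₂ ∈ Submodule.span F ({a, b} : Set (ι → F)) := by
    have h := hmem (u + s₂) (by rw [QuadraticMap.map_add (⇑Q), hs₂, hus₂]; ring)
    have e : s₂ = (u + s₂) - u := by abel
    rw [e]; exact Submodule.sub_mem _ h h1
  have hli : LinearIndependent F ![u, s₁, s₂] := by
    rw [Fintype.linearIndependent_iff]
    intro g hg
    rw [Fin.sum_univ_three] at hg
    simp only [Matrix.cons_val_zero, Matrix.cons_val_one, Matrix.cons_val_two,
      Matrix.head_cons, Matrix.tail_cons] at hg
    have hg0 : g 0 = 0 := by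
      have h := congrArg Q hg
      rw [Cfsg.Agent.Lib.Helper5.map_lin3, hs₁, hs₂, hus₁, hus₂, hs₁s₂,
        QuadraticMap.map_zero] at h
      have h' : Q u * g 0 ^ 2 = 0 := by linear_combination h
      rcases mul_eq_zero.1 h' with h'' | h''
      · exact absurd h'' hu
      · exact pow_eq_zero_iff (two_ne_zero) |>.1 h''
    rw [hg0, zero_smul, zero_add] at hg
    have hg1 : g 1 = 0 := by
      have h := congrArg (QuadraticMap.polar (⇑Q) y₁) hg
      rw [QuadraticMap.polar_add_right, QuadraticMap.polar_smul_right,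
        QuadraticMap.polar_smul_right, hy₁s₂, QuadraticMap.polar_comm (⇑Q) y₁ s₁, hy₁] at h
      simpa [QuadraticMap.polar] using h
    rw [hg1, zero_smul, zero_add] at hg
    have hg2 : g 2 = 0 := by
      rcases smul_eq_zero.1 hg with h | h
      · exact h
      · exact absurd h hs₂0
    intro i
    fin_cases i
    · exact hg0
    · exact hg1
    · exact hg2
  have hall : ∀ i, ![u, s₁, s₂] i ∈ Submodule.span F ({a, b} : Set (ι → F)) := by
    intro i
    fin_cases i
    · exact h1
    · exact h2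
    · exact h3
  have hli' : LinearIndependent F
      (fun i : Fin 3 => (⟨![u, s₁, s₂] i, hall i⟩ : Submodule.span F ({a, b} : Set (ι → F)))) := by
    apply LinearIndependent.of_comp (Submodule.span F ({a, b} : Set (ι → F))).subtype
    exact hli
  have hle := hli'.fintype_card_le_finrank
  rw [Fintype.card_fin] at hle
  have hge : Module.finrank F (Submodule.span F ({a, b} : Set (ι → F))) ≤ 2 := by
    have h := finrank_span_finset_le_card (R := F) ({a, b} : Finset (ι → F))
    rw [Finset.coe_insert, Finset.coe_singleton] at h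
    exact h.trans Finset.card_le_two
  omega

end CentO

end Cfsg.Agent.Lib.Helper2
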