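import Mathlib
import Cfsg.Agent.Lib.Helper2.CentOmega2

set_option autoImplicit false

namespace Cfsg.Agent.Lib.Helper2

namespace CentO

open Matrix Cfsg.Agent.Lib.Helper2.ReflGen Cfsg.Agent.Lib.Helper2.CDG

variable {F : Type*} [Field F] {ι : Type} [Fintype ι] [DecidableEq ι]
variable {Q : QuadraticForm F (ι → F)}

/-- an isometry commuting with all products `r_u r_w`, `Q w = Q u`, stabilises the point `⟨u⟩` -/
theorem smul_of_commute [Finite F] (hQ : (QuadraticMap.polarBilin Q).Nondegenerate)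
    (hn : 6 ≤ Fintype.card ι) (z : ↥(Cfsg.isometryGroup F ⇑Q)) (u : ι → F) (hu : Q u ≠ 0)
    (hcomm : ∀ w (hw : Q w ≠ 0), Q w = Q u →
      z * (refl Q u hu * refl Q w hw) = (refl Q u hu * refl Q w hw) * z) :
    ∃ t : F, ((z : Matrix.GeneralLinearGroup ι F) : Matrix ι ι F) *ᵥ u = t • u := by
  by_contra hcon
  push Not at hcon
  obtain ⟨zu, hzudef⟩ : ∃ zu, zu = ((z : Matrix.GeneralLinearGroup ι F) : Matrix ι ι F) *ᵥ u :=
    ⟨_, rfl⟩
  rw [← hzudef] at hcon
  have hzu : Q zu ≠ 0 := by rw [hzudef, iso_Q]; exact hu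
  have hu0 : u ≠ 0 := by rintro rfl; exact hu (QuadraticMap.map_zero Q)
  have hind : ∀ t : F, u ≠ t • zu := ind_symm hu0 hcon
  have hkey : ∀ w (hw : Q w ≠ 0), Q w = Q u →
      refl Q u hu * refl Q zu hzu = refl Q w hw *
        refl Q (((z : Matrix.GeneralLinearGroup ι F) : Matrix ι ι F) *ᵥ w)
          (by rw [iso_Q]; exact hw) := by
    intro w hw hwu
    have h1 := hcomm w hw hwu
    have h2 : (z * refl Q u hu * z⁻¹) * (z * refl Q w hw * z⁻¹) =
        refl Q u hu * refl Q w hw := by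
      calc (z * refl Q u hu * z⁻¹) * (z * refl Q w hw * z⁻¹)
          = z * (refl Q u hu * refl Q w hw) * z⁻¹ := by group
        _ = (refl Q u hu * refl Q w hw) * z * z⁻¹ := by rw [h1]
        _ = refl Q u hu * refl Q w hw := by group
    rw [Spinor.conj_refl, Spinor.conj_refl] at h2
    have e1 : refl Q (((z : Matrix.GeneralLinearGroup ι F) : Matrix ι ι F) *ᵥ u)
        (by rw [iso_Q]; exact hu) = refl Q zu hzu := refl_congr hzudef.symm _ _
    rw [e1] at h2
    calc refl Q u hu * refl Q zu hzu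
        = refl Q u hu * (refl Q zu hzu *
            refl Q (((z : Matrix.GeneralLinearGroup ι F) : Matrix ι ι F) *ᵥ w)
              (by rw [iso_Q]; exact hw)) *
            refl Q (((z : Matrix.GeneralLinearGroup ι F) : Matrix ι ι F) *ᵥ w)
              (by rw [iso_Q]; exact hw) := by
          rw [mul_assoc, mul_assoc, refl_mul_self, mul_one]
      _ = refl Q u hu * (refl Q u hu * refl Q w hw) *
            refl Q (((z : Matrix.GeneralLinearGroup ι F) : Matrix ι ι F) *ᵥ w)
              (by rw [iso_Q]; exact hw) := by rw [h2]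
      _ = refl Q w hw * refl Q (((z : Matrix.GeneralLinearGroup ι F) : Matrix ι ι F) *ᵥ w)
              (by rw [iso_Q]; exact hw) := by
          rw [← mul_assoc, refl_mul_self, one_mul]
  obtain ⟨w, hwu, hw⟩ := exists_not_mem_plane hQ hn u hu u zu
  have hwQ : Q w ≠ 0 := by rw [hwu]; exact hu
  have hw0 : w ≠ 0 := by rintro rfl; exact hwQ (QuadraticMap.map_zero Q)
  have hk := hkey w hwQ hwu
  by_cases hzw : ∃ t : F, ((z : Matrix.GeneralLinearGroup ι F) : Matrix ι ι F) *ᵥ w = t • w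
  · obtain ⟨t, ht⟩ := hzw
    have ht0 : t ≠ 0 := by
      rintro rfl
      rw [zero_smul] at ht
      have : Q (((z : Matrix.GeneralLinearGroup ι F) : Matrix ι ι F) *ᵥ w) = Q w := iso_Q z w
      rw [ht, QuadraticMap.map_zero] at this
      exact hwQ this.symm
    have e2 : refl Q (((z : Matrix.GeneralLinearGroup ι F) : Matrix ι ι F) *ᵥ w)
        (by rw [iso_Q]; exact hwQ) = refl Q w hwQ := by
      rw [refl_congr ht _ (by rw [Spinor.map_smul_self]; exact mul_ne_zero (mul_ne_zero ht0 ht0) hwQ)]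
      exact Spinor.refl_smul_eq w hwQ t ht0
    rw [e2, refl_mul_self] at hk
    exact mul_ne_one hQ u zu hu hzu hind hk
  · push Not at hzw
    have hind' : ∀ t : F, w ≠ t • (((z : Matrix.GeneralLinearGroup ι F) : Matrix ι ι F) *ᵥ w) :=
      ind_symm hw0 hzw
    obtain ⟨α, β, h⟩ := mem_plane hQ w (((z : Matrix.GeneralLinearGroup ι F) : Matrix ι ι F) *ᵥ w)
      u zu hwQ (by rw [iso_Q]; exact hwQ) hu hzu hind' hk.symm
    exact hw α β h

end CentO

end Cfsg.Agent.Lib.Helper2
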