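import Mathlib
import Cfsg.Agent.Lib.Helper2.CentOmega3

set_option autoImplicit false

namespace Cfsg.Agent.Lib.Helper2

namespace CentO

open Matrix Cfsg.Agent.Lib.Helper2.ReflGen Cfsg.Agent.Lib.Helper2.CDG

variable {F : Type*} [Field F] {ι : Type} [Fintype ι] [DecidableEq ι]
variable {Q : QuadraticForm F (ι → F)}

/-- step 1: the eigenvalue on a nonsingular `u` is also the eigenvalue on singular vectors in
`u^⊥` -/
theorem fix_singular (z : ↥(Cfsg.isometryGroup F ⇑Q))
    (hfix : ∀ u, Q u ≠ 0 → ∃ t : F, ((z : Matrix.GeneralLinearGroup ι F) : Matrix ι ι F) *ᵥ u = t • u)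
    (u : ι → F) (t : F) (hu : Q u ≠ 0)
    (ht : ((z : Matrix.GeneralLinearGroup ι F) : Matrix ι ι F) *ᵥ u = t • u)
    (s : ι → F) (hs : Q s = 0) (hus : QuadraticMap.polar (⇑Q) u s = 0) :
    ((z : Matrix.GeneralLinearGroup ι F) : Matrix ι ι F) *ᵥ s = t • s := by
  have hus' : Q (u + s) ≠ 0 := by
    rw [QuadraticMap.map_add (⇑Q), hs, hus, add_zero, add_zero]; exact hu
  obtain ⟨t', ht'⟩ := hfix (u + s) hus'
  rw [Matrix.mulVec_add, ht] at ht'
  have h1 : ((z : Matrix.GeneralLinearGroup ι F) : Matrix ι ι F) *ᵥ s = (t' - t) • u + t' • s := by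
    have : ((z : Matrix.GeneralLinearGroup ι F) : Matrix ι ι F) *ᵥ s =
        (t • u + ((z : Matrix.GeneralLinearGroup ι F) : Matrix ι ι F) *ᵥ s) - t • u := by abel
    rw [this, ht', smul_add, sub_smul]; abel
  have h2 : Q (((z : Matrix.GeneralLinearGroup ι F) : Matrix ι ι F) *ᵥ s) = 0 := by
    rw [iso_Q]; exact hs
  rw [h1, Cfsg.Agent.Lib.Helper5.map_lin2, hs, hus] at h2
  have h3 : (t' - t) ^ 2 * Q u = 0 := by linear_combination h2
  have h4 : t' - t = 0 := by
    rcases mul_eq_zero.1 h3 with h | h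
    · exact pow_eq_zero_iff (two_ne_zero) |>.1 h
    · exact absurd h hu
  rw [h1, h4, zero_smul, zero_add, sub_eq_zero.1 h4]

/-- an isometry fixing all nonsingular points is `±1` -/
theorem scalar_of_fix [Finite F] (hQ : (QuadraticMap.polarBilin Q).Nondegenerate)
    (hn : 5 ≤ Fintype.card ι) (z : ↥(Cfsg.isometryGroup F ⇑Q))
    (hfix : ∀ u, Q u ≠ 0 →
      ∃ t : F, ((z : Matrix.GeneralLinearGroup ι F) : Matrix ι ι F) *ᵥ u = t • u) :
    ∃ t : F, t * t = 1 ∧
      ∀ v, ((z : Matrix.GeneralLinearGroup ι F) : Matrix ι ι F) *ᵥ v = t • v := by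
  have hfr : 2 ≤ Module.finrank F (ι → F) := by
    rw [Module.finrank_fintype_fun_eq_card]; omega
  obtain ⟨u₀, hu₀1⟩ := Cfsg.Agent.Lib.Helper5.exists_represents_one Q hQ hfr
  have hu₀ : Q u₀ ≠ 0 := by rw [hu₀1]; exact one_ne_zero
  obtain ⟨t₀, ht₀⟩ := hfix u₀ hu₀
  have ht₀sq : t₀ * t₀ = 1 := by
    have h := iso_Q z u₀
    rw [ht₀, Spinor.map_smul_self, hu₀1] at h
    linear_combination h
  -- step 3
  have hns : ∀ u, Q u ≠ 0 →
      ((z : Matrix.GeneralLinearGroup ι F) : Matrix ι ι F) *ᵥ u = t₀ • u := by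
    intro u hu
    obtain ⟨t, ht⟩ := hfix u hu
    obtain ⟨s, hs0, hs, hp⟩ := exists_singular_perp (Q := Q) (k := 2) ![u, u₀] (by omega)
    have h1 := fix_singular z hfix u t hu ht s hs (hp 0)
    have h2 := fix_singular z hfix u₀ t₀ hu₀ ht₀ s hs (hp 1)
    rw [h1] at h2
    have h3 : (t - t₀) • s = 0 := by rw [sub_smul, h2, sub_self]
    rcases smul_eq_zero.1 h3 with h | h
    · rw [ht, sub_eq_zero.1 h]
    · exact absurd h hs0
  refine ⟨t₀, ht₀sq, fun v => ?_⟩
  by_cases hv : Q v = 0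
  · by_cases hv0 : v = 0
    · rw [hv0, Matrix.mulVec_zero, smul_zero]
    · -- find a nonsingular vector orthogonal to v
      obtain ⟨y, hy, hyQ⟩ := Cfsg.Agent.Lib.Helper5.exists_partner Q hQ hv0 hv
      obtain ⟨s', hs'0, hs', hp'⟩ := exists_singular_perp (Q := Q) (k := 2) ![v, y] (by omega)
      have hvs' : QuadraticMap.polar (⇑Q) v s' = 0 := hp' 0
      have hys' : QuadraticMap.polar (⇑Q) y s' = 0 := hp' 1
      obtain ⟨y', hy', hy'Q⟩ := Cfsg.Agent.Lib.Helper5.exists_partner Q hQ hs'0 hs'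
      obtain ⟨y'', hy''⟩ : ∃ y'', y'' = y' - QuadraticMap.polar (⇑Q) y y' • v -
          QuadraticMap.polar (⇑Q) v y' • y := ⟨_, rfl⟩
      have hvv : QuadraticMap.polar (⇑Q) v v = 0 :=
        Cfsg.Agent.Lib.Helper5.polar_self_of_singular Q hv
      have hvy'' : QuadraticMap.polar (⇑Q) v y'' = 0 := by
        rw [hy'', QuadraticMap.polar_sub_right, QuadraticMap.polar_sub_right,
          QuadraticMap.polar_smul_right, QuadraticMap.polar_smul_right, hvv, hy]
        simp
      have hs'y'' : QuadraticMap.polar (⇑Q) s' y'' = 1 := by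
        rw [hy'', QuadraticMap.polar_sub_right, QuadraticMap.polar_sub_right,
          QuadraticMap.polar_smul_right, QuadraticMap.polar_smul_right,
          QuadraticMap.polar_comm (⇑Q) s' v, QuadraticMap.polar_comm (⇑Q) s' y, hvs', hys', hy']
        simp
      by_cases hc : Q y'' = 0
      · have hne : Q (s' + y'') ≠ 0 := by
          rw [QuadraticMap.map_add (⇑Q), hs', hc, hs'y'']; simp
        have hperp : QuadraticMap.polar (⇑Q) (s' + y'') v = 0 := by
          rw [QuadraticMap.polar_add_left, QuadraticMap.polar_comm (⇑Q) s' v,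
            QuadraticMap.polar_comm (⇑Q) y'' v, hvs', hvy'', add_zero]
        exact fix_singular z hfix _ t₀ hne (hns _ hne) v hv hperp
      · have hperp : QuadraticMap.polar (⇑Q) y'' v = 0 := by
          rw [QuadraticMap.polar_comm, hvy'']
        exact fix_singular z hfix _ t₀ hc (hns _ hc) v hv hperp
  · exact hns v hv

/-- an isometry commuting with all products `r_u r_w` with `Q u = Q w` is `±1` -/
theorem centralizer_scalar [Finite F] (hQ : (QuadraticMap.polarBilin Q).Nondegenerate)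
    (hn : 6 ≤ Fintype.card ι) (z : ↥(Cfsg.isometryGroup F ⇑Q))
    (hcomm : ∀ u w (hu : Q u ≠ 0) (hw : Q w ≠ 0), Q w = Q u →
      z * (refl Q u hu * refl Q w hw) = (refl Q u hu * refl Q w hw) * z) :
    ∃ t : F, t * t = 1 ∧
      ∀ v, ((z : Matrix.GeneralLinearGroup ι F) : Matrix ι ι F) *ᵥ v = t • v :=
  scalar_of_fix hQ (by omega) z
    (fun u hu => smul_of_commute hQ hn z u hu (fun w hw hwu => hcomm u w hu hw hwu))

end CentO

end Cfsg.Agent.Lib.Helper2
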