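import Mathlib
import Cfsg.Agent.Lib.Helper2.CDGen

set_option autoImplicit false

namespace Cfsg.Agent.Lib.Helper2

namespace Dickson

open Matrix Cfsg.Agent.Lib.Helper2.ReflGen Cfsg.Agent.Lib.Helper2.CDG

variable {F : Type*} [Field F] {ι : Type} [Fintype ι] [DecidableEq ι]
variable {Q : QuadraticForm F (ι → F)}

/-- the fixed space of an isometry -/
def Fix (g : ↥(Cfsg.isometryGroup F ⇑Q)) : Submodule F (ι → F) where
  carrier := {x | ((g : Matrix.GeneralLinearGroup ι F) : Matrix ι ι F) *ᵥ x = x}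
  add_mem' := by
    intro a b ha hb
    show _ *ᵥ (a + b) = a + b
    rw [Matrix.mulVec_add, ha, hb]
  zero_mem' := Matrix.mulVec_zero _
  smul_mem' := by
    intro c a ha
    show _ *ᵥ (c • a) = c • a
    rw [Matrix.mulVec_smul, ha]

theorem mem_Fix (g : ↥(Cfsg.isometryGroup F ⇑Q)) (x : ι → F) :
    x ∈ Fix g ↔ ((g : Matrix.GeneralLinearGroup ι F) : Matrix ι ι F) *ᵥ x = x := Iff.rfl

/-- fixed vectors are orthogonal to `x - g x` -/
theorem polar_fix_sub (g : ↥(Cfsg.isometryGroup F ⇑Q)) (y x : ι → F) (hy : y ∈ Fix g) :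
    QuadraticMap.polar (⇑Q) y
      (x - ((g : Matrix.GeneralLinearGroup ι F) : Matrix ι ι F) *ᵥ x) = 0 := by
  rw [QuadraticMap.polar_sub_right]
  have h := iso_polar g y x
  rw [(mem_Fix g y).1 hy] at h
  rw [h, sub_self]

/-- case A: some fixed vector is not orthogonal to `v` -/
theorem finrank_fix_refl_mul (g : ↥(Cfsg.isometryGroup F ⇑Q)) (v : ι → F) (hv : Q v ≠ 0)
    (y₀ : ι → F) (hy₀ : y₀ ∈ Fix g) (hy₀v : QuadraticMap.polar (⇑Q) v y₀ ≠ 0) :
    Module.finrank F (Fix (refl Q v hv * g)) + 1 = Module.finrank F (Fix g) := by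
  -- the functional `B(v, ·)` on `Fix g`
  let φ : ↥(Fix g) →ₗ[F] F := (QuadraticMap.polarBilin Q v).comp (Fix g).subtype
  have hφ : ∀ x : ↥(Fix g), φ x = QuadraticMap.polar (⇑Q) v x.1 := fun x => rfl
  have hsurj : LinearMap.range φ = ⊤ := by
    rw [eq_top_iff]
    intro c _
    refine ⟨(c * (QuadraticMap.polar (⇑Q) v y₀)⁻¹) • ⟨y₀, hy₀⟩, ?_⟩
    rw [map_smul, hφ, smul_eq_mul, mul_assoc, inv_mul_cancel₀ hy₀v, mul_one]
  have hrn := LinearMap.finrank_range_add_finrank_ker φ
  rw [hsurj, finrank_top, Module.finrank_self] at hrn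
  have hmap : Submodule.map (Fix g).subtype (LinearMap.ker φ) = Fix (refl Q v hv * g) := by
    ext x
    constructor
    · rintro ⟨y, hy, rfl⟩
      have hy' : φ y = 0 := hy
      rw [hφ] at hy'
      rw [mem_Fix, mul_mulVec]
      show _ *ᵥ (_ *ᵥ (y : ι → F)) = (y : ι → F)
      rw [(mem_Fix g y.1).1 y.2, refl_fix v hv y.1 hy']
    · intro hx
      rw [mem_Fix, mul_mulVec, refl_mulVec] at hx
      set gx := ((g : Matrix.GeneralLinearGroup ι F) : Matrix ι ι F) *ᵥ x with hgx
      set l := (Q v)⁻¹ * QuadraticMap.polar (⇑Q) v gx with hl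
      have h1 : x - gx = -(l • v) := by rw [← hx]; abel
      have h3 := polar_fix_sub g y₀ x hy₀
      rw [← hgx, h1, QuadraticMap.polar_neg_right, QuadraticMap.polar_smul_right,
        QuadraticMap.polar_comm (⇑Q) y₀ v, smul_eq_mul, neg_eq_zero] at h3
      have hl0 : l = 0 := by
        rcases mul_eq_zero.1 h3 with h | h
        · exact h
        · exact absurd h hy₀v
      have hgxx : gx = x := by
        rw [hl0, zero_smul, neg_zero] at h1
        exact (sub_eq_zero.1 h1).symm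
      have hxF : x ∈ Fix g := by rw [mem_Fix, ← hgx, hgxx]
      refine ⟨⟨x, hxF⟩, ?_, rfl⟩
      show φ ⟨x, hxF⟩ = 0
      rw [hφ]
      show QuadraticMap.polar (⇑Q) v x = 0
      rw [hl, hgxx] at hl0
      rcases mul_eq_zero.1 hl0 with h | h
      · exact absurd h (inv_ne_zero hv)
      · exact h
  rw [← hmap, Submodule.finrank_map_subtype_eq]
  omega

end Dickson

end Cfsg.Agent.Lib.Helper2
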