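import Mathlib
import Cfsg.Agent.Lib.Helper2.Dickson1

set_option autoImplicit false

namespace Cfsg.Agent.Lib.Helper2

namespace Dickson

open Matrix Cfsg.Agent.Lib.Helper2.ReflGen Cfsg.Agent.Lib.Helper2.CDG

variable {F : Type*} [Field F] {ι : Type} [Fintype ι] [DecidableEq ι]
variable {Q : QuadraticForm F (ι → F)}

/-- a vector orthogonal to the fixed space lies in the image of `1 - g` -/
theorem exists_sub_eq (hQ : (QuadraticMap.polarBilin Q).Nondegenerate)
    (g : ↥(Cfsg.isometryGroup F ⇑Q)) (v : ι → F)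
    (hv : ∀ y ∈ Fix g, QuadraticMap.polar (⇑Q) y v = 0) :
    ∃ x, x - ((g : Matrix.GeneralLinearGroup ι F) : Matrix ι ι F) *ᵥ x = v := by
  obtain ⟨B, hBdef⟩ : ∃ B : LinearMap.BilinForm F (ι → F), B = QuadraticMap.polarBilin Q :=
    ⟨_, rfl⟩
  have hBap : ∀ a b, B a b = QuadraticMap.polar (⇑Q) a b := by
    intro a b; rw [hBdef]; rfl
  have hBnd : B.Nondegenerate := by rw [hBdef]; exact hQ
  obtain ⟨L, hL⟩ : ∃ L : (ι → F) →ₗ[F] (ι → F),
      L = Matrix.mulVecLin (1 - ((g : Matrix.GeneralLinearGroup ι F) : Matrix ι ι F)) := ⟨_, rfl⟩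
  have hLap : ∀ x, L x = x - ((g : Matrix.GeneralLinearGroup ι F) : Matrix ι ι F) *ᵥ x := by
    intro x
    rw [hL, Matrix.mulVecLin_apply, Matrix.sub_mulVec, Matrix.one_mulVec]
  have hker : LinearMap.ker L = Fix g := by
    ext x
    rw [LinearMap.mem_ker, hLap, mem_Fix, sub_eq_zero, eq_comm]
  have hle : LinearMap.range L ≤ LinearMap.BilinForm.orthogonal B (Fix g) := by
    rintro _ ⟨x, rfl⟩
    rw [LinearMap.BilinForm.mem_orthogonal_iff]
    intro y hy
    show B y (L x) = 0
    rw [hBap, hLap]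
    exact polar_fix_sub g y x hy
  have hrn := LinearMap.finrank_range_add_finrank_ker L
  have hort := LinearMap.BilinForm.finrank_orthogonal (B := B) hBnd (Fix g)
  have hFle : Module.finrank F (Fix g) ≤ Module.finrank F (ι → F) := Submodule.finrank_le _
  rw [hker] at hrn
  have heq : LinearMap.range L = LinearMap.BilinForm.orthogonal B (Fix g) := by
    apply Submodule.eq_of_le_of_finrank_eq hle
    omega
  have hvmem : v ∈ LinearMap.BilinForm.orthogonal B (Fix g) := by
    rw [LinearMap.BilinForm.mem_orthogonal_iff]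
    intro y hy
    show B y v = 0
    rw [hBap]
    exact hv y hy
  rw [← heq] at hvmem
  obtain ⟨x, hx⟩ := hvmem
  exact ⟨x, by rw [← hLap, hx]⟩

/-- `x - g x = v` implies that `x` is fixed by `r_v g` -/
theorem mem_fix_of_sub_eq (g : ↥(Cfsg.isometryGroup F ⇑Q)) (v : ι → F) (hv : Q v ≠ 0)
    (x : ι → F) (hx : x - ((g : Matrix.GeneralLinearGroup ι F) : Matrix ι ι F) *ᵥ x = v) :
    x ∈ Fix (refl Q v hv * g) ∧ QuadraticMap.polar (⇑Q) v x = Q v := by
  set gx := ((g : Matrix.GeneralLinearGroup ι F) : Matrix ι ι F) *ᵥ x with hgx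
  have hQg : Q gx = Q x := iso_Q g x
  have hpol : QuadraticMap.polar (⇑Q) v x = Q v := by
    have h1 : Q v = Q x + Q gx - QuadraticMap.polar (⇑Q) x gx := by
      rw [← hx]
      have e : x - gx = x + (-1 : F) • gx := by rw [neg_one_smul, sub_eq_add_neg]
      rw [e, map_add_smul]
      ring
    rw [← hx, QuadraticMap.polar_sub_left, polar_self, QuadraticMap.polar_comm (⇑Q) gx x]
    rw [hQg] at h1
    rw [← hx] at h1
    linear_combination -h1
  refine ⟨?_, hpol⟩
  rw [mem_Fix, mul_mulVec, ← hgx]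
  have hgx' : gx = x - v := by rw [← hx]; abel
  rw [hgx', refl_mulVec, QuadraticMap.polar_sub_right, polar_self, hpol]
  have : (Q v)⁻¹ * (Q v - 2 * Q v) = -1 := by field_simp; ring
  rw [this, neg_one_smul]
  abel

/-- the parity of the dimension of the fixed space changes under multiplication by a reflection -/
theorem finrank_fix_parity (hQ : (QuadraticMap.polarBilin Q).Nondegenerate)
    (g : ↥(Cfsg.isometryGroup F ⇑Q)) (v : ι → F) (hv : Q v ≠ 0) :
    (Module.finrank F (Fix (refl Q v hv * g)) : ZMod 2) = Module.finrank F (Fix g) + 1 := by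
  have h11 : (1 : ZMod 2) + 1 = 0 := by decide
  by_cases hA : ∃ y₀ ∈ Fix g, QuadraticMap.polar (⇑Q) v y₀ ≠ 0
  · obtain ⟨y₀, hy₀, hy₀v⟩ := hA
    have h := finrank_fix_refl_mul g v hv y₀ hy₀ hy₀v
    rw [← h]
    push_cast
    linear_combination -(Module.finrank F (Fix (refl Q v hv * g)) : ZMod 2) * 0 - h11
  · push Not at hA
    have hgg : refl Q v hv * (refl Q v hv * g) = g := by
      rw [← mul_assoc, refl_mul_self, one_mul]
    by_cases hB : ∃ y₀ ∈ Fix (refl Q v hv * g), QuadraticMap.polar (⇑Q) v y₀ ≠ 0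
    · obtain ⟨y₀, hy₀, hy₀v⟩ := hB
      have h := finrank_fix_refl_mul (refl Q v hv * g) v hv y₀ hy₀ hy₀v
      rw [hgg] at h
      rw [← h]
      push_cast
      ring
    · exfalso
      push Not at hB
      obtain ⟨x, hx⟩ := exists_sub_eq hQ g v
        (fun y hy => by rw [QuadraticMap.polar_comm]; exact hA y hy)
      obtain ⟨hx1, hx2⟩ := mem_fix_of_sub_eq g v hv x hx
      have := hB x hx1
      rw [hx2] at this
      exact hv this

end Dickson

end Cfsg.Agent.Lib.Helper2
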