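import Mathlib
import Cfsg.Agent.Lib.Helper2.Dickson2

set_option autoImplicit false

namespace Cfsg.Agent.Lib.Helper2

namespace Dickson

open Matrix Cfsg.Agent.Lib.Helper2.ReflGen Cfsg.Agent.Lib.Helper2.CDG

variable {F : Type*} [Field F] {ι : Type} [Fintype ι] [DecidableEq ι]
variable {Q : QuadraticForm F (ι → F)}

/-- the Dickson invariant as a function -/
noncomputable def dfun (g : ↥(Cfsg.isometryGroup F ⇑Q)) : ZMod 2 :=
  (Module.finrank F (Fix g) : ZMod 2) + (Fintype.card ι : ZMod 2)

theorem dfun_one : dfun (1 : ↥(Cfsg.isometryGroup F ⇑Q)) = 0 := by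
  unfold dfun
  have : Fix (1 : ↥(Cfsg.isometryGroup F ⇑Q)) = ⊤ := by
    rw [eq_top_iff]
    intro x _
    rw [mem_Fix]
    exact one_mulVec' x
  rw [this, finrank_top, Module.finrank_fintype_fun_eq_card]
  have h : ∀ a : ZMod 2, a + a = 0 := by decide
  exact h _

theorem dfun_refl_mul (hQ : (QuadraticMap.polarBilin Q).Nondegenerate)
    (g : ↥(Cfsg.isometryGroup F ⇑Q)) (v : ι → F) (hv : Q v ≠ 0) :
    dfun (refl Q v hv * g) = dfun g + 1 := by
  unfold dfun
  rw [finrank_fix_parity hQ g v hv]
  ring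

theorem dfun_refl (hQ : (QuadraticMap.polarBilin Q).Nondegenerate) (v : ι → F) (hv : Q v ≠ 0) :
    dfun (refl Q v hv) = 1 := by
  have := dfun_refl_mul hQ 1 v hv
  rw [mul_one, dfun_one, zero_add] at this
  exact this

theorem dfun_mul (hQ : (QuadraticMap.polarBilin Q).Nondegenerate)
    (hgen : Subgroup.closure (R Q) = ⊤) (g h : ↥(Cfsg.isometryGroup F ⇑Q)) :
    dfun (g * h) = dfun g + dfun h := by
  have hg : g ∈ Subgroup.closure (R Q) := by rw [hgen]; trivial
  induction hg using Subgroup.closure_induction generalizing h with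
  | mem g hg =>
    obtain ⟨v, hv, hgv⟩ := hg
    have : g = refl Q v hv := by
      apply Subtype.ext
      apply Units.ext
      rw [hgv, refl_coe]
    rw [this, dfun_refl_mul hQ, dfun_refl hQ]
    ring
  | one => rw [one_mul, dfun_one, zero_add]
  | mul x y _ _ hx hy =>
    rw [mul_assoc, hx, hy, hx]
    ring
  | inv x _ hx =>
    have h1 := hx (x⁻¹ * h)
    rw [mul_inv_cancel_left] at h1
    have h3 := hx x⁻¹
    rw [mul_inv_cancel, dfun_one] at h3
    have h4 : ∀ a : ZMod 2, a + a = 0 := by decide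
    have h5 : dfun x⁻¹ = dfun x := by
      have : dfun x⁻¹ = -dfun x := by linear_combination -h3
      rw [this]
      exact neg_eq_of_add_eq_zero_left (h4 _)
    rw [h5]
    have : dfun (x⁻¹ * h) = dfun h - dfun x := by linear_combination -h1
    rw [this]
    linear_combination -(h4 (dfun x))

/-- the Dickson invariant as a homomorphism, given generation by reflections -/
noncomputable def dickson (hQ : (QuadraticMap.polarBilin Q).Nondegenerate)
    (hgen : Subgroup.closure (R Q) = ⊤) :
    ↥(Cfsg.isometryGroup F ⇑Q) →* Multiplicative (ZMod 2) where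
  toFun g := Multiplicative.ofAdd (dfun g)
  map_one' := by rw [dfun_one]; rfl
  map_mul' g h := by rw [dfun_mul hQ hgen, ofAdd_add]

theorem dickson_refl (hQ : (QuadraticMap.polarBilin Q).Nondegenerate)
    (hgen : Subgroup.closure (R Q) = ⊤) (v : ι → F) (hv : Q v ≠ 0) :
    dickson hQ hgen (refl Q v hv) = Multiplicative.ofAdd 1 := by
  show Multiplicative.ofAdd (dfun (refl Q v hv)) = _
  rw [dfun_refl hQ]

end Dickson

end Cfsg.Agent.Lib.Helper2
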