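import Mathlib
import Cfsg.Agent.S0765
import Cfsg.Agent.Lib.Helper2.Symp
import Cfsg.Agent.Lib.Helper5.AltForm2

set_option autoImplicit false

namespace Cfsg.Agent.Lib.Helper2

namespace AbsSp

open Matrix Module

variable {F : Type*} [Field F] {W : Type*} [AddCommGroup W] [Module F W]

/-- abstract symplectic transvections -/
def IsTransv (B : LinearMap.BilinForm F W) (τ : W ≃ₗ[F] W) : Prop :=
  ∃ (w : W) (c : F), ∀ x, τ x = x + (c * B x w) • w

/-- the linear automorphism attached to a symplectic matrix in a basis -/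
noncomputable def Psi {m : ℕ} (b : Basis (Fin m ⊕ Fin m) F W) :
    Matrix.symplecticGroup (Fin m) F →* (W ≃ₗ[F] W) where
  toFun A := LinearEquiv.ofLinear (Matrix.toLin b b A.1)
    (Matrix.toLin b b (A⁻¹ : Matrix.symplecticGroup (Fin m) F).1)
    (by
      rw [← Matrix.toLin_mul b b b]
      have : A.1 * (A⁻¹ : Matrix.symplecticGroup (Fin m) F).1 =
        ((A * A⁻¹ : Matrix.symplecticGroup (Fin m) F) : Matrix _ _ F) := rfl
      rw [this, mul_inv_cancel]
      exact Matrix.toLin_one b)
    (by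
      rw [← Matrix.toLin_mul b b b]
      have : (A⁻¹ : Matrix.symplecticGroup (Fin m) F).1 * A.1 =
        ((A⁻¹ * A : Matrix.symplecticGroup (Fin m) F) : Matrix _ _ F) := rfl
      rw [this, inv_mul_cancel]
      exact Matrix.toLin_one b)
  map_one' := by
    apply LinearEquiv.ext
    intro x
    show Matrix.toLin b b (1 : Matrix _ _ F) x = x
    rw [Matrix.toLin_one]
    rfl
  map_mul' A A' := by
    apply LinearEquiv.ext
    intro x
    show Matrix.toLin b b (A.1 * A'.1) x = Matrix.toLin b b A.1 (Matrix.toLin b b A'.1 x)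
    rw [Matrix.toLin_mul b b b]
    rfl

theorem Psi_apply {m : ℕ} (b : Basis (Fin m ⊕ Fin m) F W)
    (A : Matrix.symplecticGroup (Fin m) F) (x : W) :
    Psi b A x = Matrix.toLin b b A.1 x := rfl

theorem equivFun_Psi {m : ℕ} (b : Basis (Fin m ⊕ Fin m) F W)
    (A : Matrix.symplecticGroup (Fin m) F) (x : W) :
    b.equivFun (Psi b A x) = A.1 *ᵥ b.equivFun x := by
  rw [Psi_apply]
  have h := LinearMap.toMatrix_mulVec_repr b b (Matrix.toLin b b A.1) x
  rw [LinearMap.toMatrix_toLin] at h
  rw [Basis.equivFun_apply, Basis.equivFun_apply]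
  exact h.symm

/-- the abstract symplectic group of a non-degenerate alternating form is generated by
transvections -/
theorem mem_closure_transv [FiniteDimensional F W] (B : LinearMap.BilinForm F W) (hB : B.IsAlt)
    (hnd : ∀ x, (∀ y, B x y = 0) → x = 0) (f : W ≃ₗ[F] W)
    (hf : ∀ x y, B (f x) (f y) = B x y) :
    f ∈ Subgroup.closure {τ : W ≃ₗ[F] W | IsTransv B τ} := by
  classical
  obtain ⟨m, b, hm, hb⟩ := Cfsg.Agent.Lib.Helper5.AltForm.exists_symplectic_basis hB hnd
  have hform := Cfsg.Agent.Lib.Helper5.AltForm.form_eq_sympForm B b hb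
  have hmem : LinearMap.toMatrix b b (f : W →ₗ[F] W) ∈ Matrix.symplecticGroup (Fin m) F := by
    rw [Cfsg.Agent.Lib.Helper1.SpCard.mem_symplectic_iff_form]
    intro x y
    have hx : x = b.repr (b.repr.symm (Finsupp.equivFunOnFinite.symm x)) := by simp
    have hy : y = b.repr (b.repr.symm (Finsupp.equivFunOnFinite.symm y)) := by simp
    set u := b.repr.symm (Finsupp.equivFunOnFinite.symm x) with hu
    set v := b.repr.symm (Finsupp.equivFunOnFinite.symm y) with hv
    rw [hx, hy, LinearMap.toMatrix_mulVec_repr, LinearMap.toMatrix_mulVec_repr,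
      ← hform, ← hform]
    exact hf u v
  have hfPsi : f = Psi b ⟨LinearMap.toMatrix b b (f : W →ₗ[F] W), hmem⟩ := by
    apply LinearEquiv.ext
    intro x
    rw [Psi_apply]
    show f x = Matrix.toLin b b (LinearMap.toMatrix b b (f : W →ₗ[F] W)) x
    rw [Matrix.toLin_toMatrix]
    rfl
  have htop := Cfsg.Agent.S0765.result (F := F) m
  have hin : (⟨LinearMap.toMatrix b b (f : W →ₗ[F] W), hmem⟩ : Matrix.symplecticGroup (Fin m) F) ∈
      Subgroup.closure {A : Matrix.symplecticGroup (Fin m) F |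
        ∃ (w : Fin m ⊕ Fin m → F) (c : F),
          (A : Matrix (Fin m ⊕ Fin m) (Fin m ⊕ Fin m) F) = Cfsg.sympTransvection m w c} := by
    rw [htop]; trivial
  rw [hfPsi]
  have hmap := Subgroup.mem_map_of_mem (Psi b) hin
  rw [MonoidHom.map_closure] at hmap
  refine Subgroup.closure_mono ?_ hmap
  rintro τ ⟨A, ⟨w, c, hA⟩, rfl⟩
  refine ⟨b.equivFun.symm w, c, ?_⟩
  intro x
  apply b.equivFun.injective
  rw [equivFun_Psi, hA, Cfsg.Agent.Lib.Helper2.Symp.sympTransvection_mulVec, map_add, map_smul, LinearEquiv.apply_symm_apply,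
    hform]
  congr 3
  have e : (⇑(b.repr (b.equivFun.symm w)) : Fin m ⊕ Fin m → F) = w := by
    rw [← Basis.equivFun_apply, LinearEquiv.apply_symm_apply]
  rw [e]
  rfl

end AbsSp

end Cfsg.Agent.Lib.Helper2
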