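import Mathlib
import Cfsg.Agent.Lib.Helper2.CDGen
import Cfsg.Agent.Lib.Helper5.QuadFin

set_option autoImplicit false

namespace Cfsg.Agent.Lib.Helper2

namespace OrthTwo

open Matrix Cfsg.Agent.Lib.Helper2.ReflGen Cfsg.Agent.Lib.Helper2.CDG

variable {F : Type*} [Field F] {ι : Type} [Fintype ι] [DecidableEq ι]
variable {Q : QuadraticForm F (ι → F)}

theorem neg_eq₂ (h2 : (2 : F) = 0) (x : F) : -x = x := by
  have : x + x = 0 := by rw [← two_mul, h2, zero_mul]
  exact neg_eq_of_add_eq_zero_left this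

theorem vadd_self₂ (h2 : (2 : F) = 0) (v : ι → F) : v + v = 0 := by
  funext i
  show v i + v i = 0
  rw [← two_mul, h2, zero_mul]

theorem vneg₂ (h2 : (2 : F) = 0) (v : ι → F) : -v = v :=
  neg_eq_of_add_eq_zero_left (vadd_self₂ h2 v)

theorem vsub₂ (h2 : (2 : F) = 0) (v w : ι → F) : v - w = v + w := by
  rw [sub_eq_add_neg, vneg₂ h2]

theorem polar_self₂ (h2 : (2 : F) = 0) (v : ι → F) : QuadraticMap.polar (⇑Q) v v = 0 := by
  rw [polar_self, h2, zero_mul]

theorem Q_add (x y : ι → F) : Q (x + y) = Q x + Q y + QuadraticMap.polar (⇑Q) x y :=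
  QuadraticMap.map_add Q x y

/-- in characteristic two the reflection is `x ↦ x + Q(v)⁻¹ B(v, x) v` -/
theorem refl_mulVec₂ (h2 : (2 : F) = 0) (v : ι → F) (hv : Q v ≠ 0) (x : ι → F) :
    ((refl Q v hv : Matrix.GeneralLinearGroup ι F) : Matrix ι ι F) *ᵥ x =
      x + ((Q v)⁻¹ * QuadraticMap.polar (⇑Q) v x) • v := by
  rw [refl_mulVec, vsub₂ h2]

/-- two vectors of the same norm with non-orthogonal... are swapped by the reflection in their sum -/
theorem refl_add_apply (h2 : (2 : F) = 0) (x y : ι → F) (hxy : Q x = Q y)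
    (hB : QuadraticMap.polar (⇑Q) x y ≠ 0) :
    ∃ h : Q (x + y) ≠ 0,
      ((refl Q (x + y) h : Matrix.GeneralLinearGroup ι F) : Matrix ι ι F) *ᵥ x = y := by
  have hQ : Q (x + y) = QuadraticMap.polar (⇑Q) x y := by
    rw [Q_add, hxy, ← two_mul, h2, zero_mul, zero_add]
  have h : Q (x + y) ≠ 0 := by rw [hQ]; exact hB
  refine ⟨h, ?_⟩
  rw [refl_mulVec₂ h2, hQ, QuadraticMap.polar_add_left, polar_self₂ h2, zero_add,
    QuadraticMap.polar_comm (⇑Q) y x, inv_mul_cancel₀ hB, one_smul, ← add_assoc, vadd_self₂ h2,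
    zero_add]

end OrthTwo

end Cfsg.Agent.Lib.Helper2
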