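import Mathlib
import Cfsg.Agent.Lib.Helper2.OrthTwo1

set_option autoImplicit false

namespace Cfsg.Agent.Lib.Helper2

namespace OrthTwo

open Matrix Cfsg.Agent.Lib.Helper2.ReflGen Cfsg.Agent.Lib.Helper2.CDG

variable {F : Type*} [Field F] {ι : Type} [Fintype ι] [DecidableEq ι]
variable {Q : QuadraticForm F (ι → F)}

/-- a vector outside two hyperplanes -/
theorem exists_off_hyperplanes (hQ : (QuadraticMap.polarBilin Q).Nondegenerate) (x y : ι → F)
    (hx : x ≠ 0) (hy : y ≠ 0) :
    ∃ w, QuadraticMap.polar (⇑Q) x w ≠ 0 ∧ QuadraticMap.polar (⇑Q) y w ≠ 0 := by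
  have hxa : ∃ a, QuadraticMap.polar (⇑Q) x a ≠ 0 := by
    by_contra h
    push Not at h
    exact hx (hQ.1 x h)
  have hyb : ∃ b, QuadraticMap.polar (⇑Q) y b ≠ 0 := by
    by_contra h
    push Not at h
    exact hy (hQ.1 y h)
  obtain ⟨a, ha⟩ := hxa
  obtain ⟨b, hb⟩ := hyb
  by_cases h1 : QuadraticMap.polar (⇑Q) y a = 0
  · by_cases h3 : QuadraticMap.polar (⇑Q) x b = 0
    · refine ⟨a + b, ?_, ?_⟩
      · rw [QuadraticMap.polar_add_right, h3, add_zero]; exact ha
      · rw [QuadraticMap.polar_add_right, h1, zero_add]; exact hb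
    · exact ⟨b, h3, hb⟩
  · exact ⟨a, ha, h1⟩

/-- the key existence statement: a non-singular vector off the two hyperplanes -/
theorem exists_nonsingular_off [Fintype F] (h2 : (2 : F) = 0)
    (hQ : (QuadraticMap.polarBilin Q).Nondegenerate)
    (hex : Fintype.card F ≠ 2 ∨ Fintype.card ι ≠ 4) (x y : ι → F) (hxy : x ≠ y)
    (hQx : Q x ≠ 0) (hQxy : Q x = Q y) (hB : QuadraticMap.polar (⇑Q) x y = 0) :
    ∃ w, Q w ≠ 0 ∧ QuadraticMap.polar (⇑Q) x w ≠ 0 ∧ QuadraticMap.polar (⇑Q) y w ≠ 0 := by
  have hx0 : x ≠ 0 := by rintro rfl; exact hQx (QuadraticMap.map_zero Q)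
  have hy0 : y ≠ 0 := by
    rintro rfl
    rw [QuadraticMap.map_zero] at hQxy
    exact hQx hQxy
  obtain ⟨w₁, hw₁x, hw₁y⟩ := exists_off_hyperplanes hQ x y hx0 hy0
  by_contra hcon
  push Not at hcon
  -- every vector off the two hyperplanes is singular
  have hsing : ∀ w, QuadraticMap.polar (⇑Q) x w ≠ 0 → QuadraticMap.polar (⇑Q) y w ≠ 0 → Q w = 0 := by
    intro w h1 h3
    by_contra h
    exact h3 (hcon w h h1)
  have hw₁ : Q w₁ = 0 := hsing w₁ hw₁x hw₁y
  -- shifting by elements of `H`
  have hshift : ∀ (t : F) (h : ι → F), t ≠ 0 → QuadraticMap.polar (⇑Q) x h = 0 →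
      QuadraticMap.polar (⇑Q) y h = 0 → Q h + t * QuadraticMap.polar (⇑Q) w₁ h = 0 := by
    intro t h ht hxh hyh
    have h1 : QuadraticMap.polar (⇑Q) x (t • w₁ + h) ≠ 0 := by
      rw [QuadraticMap.polar_add_right, QuadraticMap.polar_smul_right, hxh, add_zero, smul_eq_mul]
      exact mul_ne_zero ht hw₁x
    have h3 : QuadraticMap.polar (⇑Q) y (t • w₁ + h) ≠ 0 := by
      rw [QuadraticMap.polar_add_right, QuadraticMap.polar_smul_right, hyh, add_zero, smul_eq_mul]
      exact mul_ne_zero ht hw₁y
    have h4 := hsing _ h1 h3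
    rw [Q_add, QuadraticMap.map_smul, hw₁, QuadraticMap.polar_smul_left, smul_eq_mul,
      smul_eq_mul] at h4
    linear_combination h4
  rcases hex with hq | hn
  · -- more than two elements in the field
    have hcard : 2 < Fintype.card F := by
      have : 1 < Fintype.card F := Fintype.one_lt_card
      omega
    obtain ⟨a, b, c, hab, hac, hbc⟩ := Fintype.two_lt_card_iff.1 hcard
    obtain ⟨t, ht0, ht1⟩ : ∃ t : F, t ≠ 0 ∧ t ≠ 1 := by
      by_cases ha0 : a = 0
      · by_cases hb1 : b = 1
        · refine ⟨c, ?_, ?_⟩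
          · rw [← ha0]; exact Ne.symm hac
          · rw [← hb1]; exact Ne.symm hbc
        · exact ⟨b, by rw [← ha0]; exact Ne.symm hab, hb1⟩
      · by_cases ha1 : a = 1
        · by_cases hb0 : b = 0
          · refine ⟨c, ?_, ?_⟩
            · rw [← hb0]; exact Ne.symm hbc
            · rw [← ha1]; exact Ne.symm hac
          · exact ⟨b, hb0, by rw [← ha1]; exact Ne.symm hab⟩
        · exact ⟨a, ha0, ha1⟩
    have e1 := hshift 1 x one_ne_zero (polar_self₂ h2 x) (by rw [QuadraticMap.polar_comm]; exact hB)
    have e2 := hshift t x ht0 (polar_self₂ h2 x) (by rw [QuadraticMap.polar_comm]; exact hB)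
    have e3 : (t - 1) * QuadraticMap.polar (⇑Q) w₁ x = 0 := by linear_combination e2 - e1
    rcases mul_eq_zero.1 e3 with h | h
    · exact ht1 (sub_eq_zero.1 h)
    · rw [h, mul_zero, add_zero] at e1
      exact hQx e1
  · -- dimension different from four
    obtain ⟨B, hBdef⟩ : ∃ B : LinearMap.BilinForm F (ι → F), B = QuadraticMap.polarBilin Q :=
      ⟨_, rfl⟩
    have hBap : ∀ a b, B a b = QuadraticMap.polar (⇑Q) a b := by
      intro a b; rw [hBdef]; rfl
    have hBnd : B.Nondegenerate := by rw [hBdef]; exact hQ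
    have hQh : ∀ h : ι → F, QuadraticMap.polar (⇑Q) x h = 0 → QuadraticMap.polar (⇑Q) y h = 0 →
        Q h = QuadraticMap.polar (⇑Q) w₁ h := by
      intro h hxh hyh
      have := hshift 1 h one_ne_zero hxh hyh
      rw [one_mul] at this
      have e : Q h = -QuadraticMap.polar (⇑Q) w₁ h := by linear_combination this
      rw [e, neg_eq₂ h2]
    obtain ⟨H, hHdef⟩ : ∃ H : Submodule F (ι → F),
        H = LinearMap.BilinForm.orthogonal B (Submodule.span F {x, y}) := ⟨_, rfl⟩
    have hHmem : ∀ h, h ∈ H ↔ QuadraticMap.polar (⇑Q) x h = 0 ∧ QuadraticMap.polar (⇑Q) y h = 0 := by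
      intro h
      rw [hHdef, LinearMap.BilinForm.mem_orthogonal_iff]
      constructor
      · intro hh
        have e1 := hh x (Submodule.subset_span (by simp))
        have e2 := hh y (Submodule.subset_span (by simp))
        rw [hBap] at e1 e2
        exact ⟨e1, e2⟩
      · rintro ⟨h1, h3⟩ z hz
        refine Submodule.span_induction ?_ ?_ ?_ ?_ hz
        · intro z hz
          rcases hz with rfl | rfl
          · rw [hBap]; exact h1
          · rw [hBap]; exact h3
        · simp
        · intro a b _ _ ha hb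
          rw [map_add, LinearMap.add_apply, ha, hb, add_zero]
        · intro c a _ ha
          rw [map_smul, LinearMap.smul_apply, ha, smul_zero]
    have hHiso : H ≤ LinearMap.BilinForm.orthogonal B H := by
      intro h hh
      rw [LinearMap.BilinForm.mem_orthogonal_iff]
      intro k hk
      rw [hBap]
      obtain ⟨hk1, hk2⟩ := (hHmem k).1 hk
      obtain ⟨hh1, hh2⟩ := (hHmem h).1 hh
      have hkh : Q (k + h) = QuadraticMap.polar (⇑Q) w₁ (k + h) :=
        hQh _ (by rw [QuadraticMap.polar_add_right, hk1, hh1, add_zero])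
          (by rw [QuadraticMap.polar_add_right, hk2, hh2, add_zero])
      rw [Q_add, hQh k hk1 hk2, hQh h hh1 hh2, QuadraticMap.polar_add_right] at hkh
      linear_combination hkh
    have hli : LinearIndependent F ![x, y] := by
      rw [LinearIndependent.pair_iff]
      intro s t hst
      by_cases hs : s = 0
      · subst hs
        rw [zero_smul, zero_add] at hst
        rcases smul_eq_zero.1 hst with h | h
        · exact ⟨rfl, h⟩
        · exact absurd h hy0
      · exfalso
        have hxe : x = (s⁻¹ * t) • y := by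
          have : s • x = t • y := by
            have := eq_neg_of_add_eq_zero_left hst
            rw [this, vneg₂ h2]
          rw [mul_smul, ← this, smul_smul, inv_mul_cancel₀ hs, one_smul]
        have hQe : Q x = (s⁻¹ * t) * (s⁻¹ * t) * Q y := by
          conv_lhs => rw [hxe]
          rw [QuadraticMap.map_smul, smul_eq_mul]
        rw [← hQxy] at hQe
        have h1 : ((s⁻¹ * t) - 1) * ((s⁻¹ * t) - 1) = 0 := by
          have h5 : ((s⁻¹ * t) * (s⁻¹ * t) - 1) * Q x = 0 := by linear_combination -hQe
          rcases mul_eq_zero.1 h5 with h | h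
          · have h22 : (s⁻¹ * t) + (s⁻¹ * t) = 0 := by rw [← two_mul, h2, zero_mul]
            linear_combination h - h22 + h2
          · exact absurd h hQx
        have h3 : s⁻¹ * t = 1 := by
          rcases mul_eq_zero.1 h1 with h | h <;> exact sub_eq_zero.1 h
        rw [h3, one_smul] at hxe
        exact hxy hxe
    have hspan2 : Module.finrank F (Submodule.span F ({x, y} : Set (ι → F))) = 2 := by
      have := finrank_span_eq_card hli
      have e : Set.range ![x, y] = {x, y} := by
        ext z; simp [eq_comm, or_comm]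
      rw [e] at this
      simpa using this
    have hfH : Module.finrank F H = Fintype.card ι - 2 := by
      have := LinearMap.BilinForm.finrank_orthogonal (B := B) hBnd (Submodule.span F {x, y})
      rw [hspan2, Module.finrank_fintype_fun_eq_card, ← hHdef] at this
      exact this
    have hfH2 : Module.finrank F (LinearMap.BilinForm.orthogonal B H) =
        Fintype.card ι - Module.finrank F H := by
      have := LinearMap.BilinForm.finrank_orthogonal (B := B) hBnd H
      rw [Module.finrank_fintype_fun_eq_card] at this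
      exact this
    have hle := Submodule.finrank_mono hHiso
    have hspanH : Submodule.span F ({x, y} : Set (ι → F)) ≤ H := by
      rw [Submodule.span_le]
      intro z hz
      rcases hz with rfl | rfl
      · exact (hHmem _).2 ⟨polar_self₂ h2 _, by rw [QuadraticMap.polar_comm]; exact hB⟩
      · exact (hHmem _).2 ⟨hB, polar_self₂ h2 _⟩
    have h2H := Submodule.finrank_mono hspanH
    have hHle : Module.finrank F H ≤ Fintype.card ι := by
      have := Submodule.finrank_le H
      rw [Module.finrank_fintype_fun_eq_card] at this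
      exact this
    rw [hspan2] at h2H
    omega

end OrthTwo

end Cfsg.Agent.Lib.Helper2
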