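import Mathlib
import Cfsg.Agent.Lib.Helper2.OrthTwo2

set_option autoImplicit false

namespace Cfsg.Agent.Lib.Helper2

namespace OrthTwo

open Matrix Cfsg.Agent.Lib.Helper2.ReflGen Cfsg.Agent.Lib.Helper2.CDG

variable {F : Type*} [Field F] {ι : Type} [Fintype ι] [DecidableEq ι]
variable {Q : QuadraticForm F (ι → F)}

/-- the group generated by reflections is transitive on vectors of a given non-zero norm -/
theorem exists_closure_map [Fintype F] (h2 : (2 : F) = 0)
    (hQ : (QuadraticMap.polarBilin Q).Nondegenerate)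
    (hex : Fintype.card F ≠ 2 ∨ Fintype.card ι ≠ 4) (x y : ι → F)
    (hQx : Q x ≠ 0) (hQxy : Q x = Q y) :
    ∃ ρ ∈ Subgroup.closure (R Q),
      ((ρ : Matrix.GeneralLinearGroup ι F) : Matrix ι ι F) *ᵥ x = y := by
  by_cases hxy : x = y
  · exact ⟨1, Subgroup.one_mem _, by rw [one_mulVec', hxy]⟩
  · by_cases hB : QuadraticMap.polar (⇑Q) x y = 0
    · obtain ⟨w, hw, hwx, hwy⟩ := exists_nonsingular_off h2 hQ hex x y hxy hQx hQxy hB
      obtain ⟨z, hz⟩ : ∃ z, z = ((refl Q w hw : Matrix.GeneralLinearGroup ι F) : Matrix ι ι F) *ᵥ x :=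
        ⟨_, rfl⟩
      have hQz : Q z = Q y := by rw [hz, iso_Q, hQxy]
      have hzy : QuadraticMap.polar (⇑Q) z y ≠ 0 := by
        rw [hz, refl_mulVec₂ h2, QuadraticMap.polar_add_left, hB, zero_add,
          QuadraticMap.polar_smul_left, smul_eq_mul]
        refine mul_ne_zero (mul_ne_zero (inv_ne_zero hw) ?_) ?_
        · rw [QuadraticMap.polar_comm]; exact hwx
        · rw [QuadraticMap.polar_comm]; exact hwy
      obtain ⟨h, hh⟩ := refl_add_apply h2 z y hQz hzy
      refine ⟨refl Q (z + y) h * refl Q w hw, Subgroup.mul_mem _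
        (Subgroup.subset_closure (refl_mem_R Q _ h)) (Subgroup.subset_closure (refl_mem_R Q _ hw)), ?_⟩
      rw [mul_mulVec, ← hz, hh]
    · obtain ⟨h, hh⟩ := refl_add_apply h2 x y hQxy hB
      exact ⟨refl Q (x + y) h, Subgroup.subset_closure (refl_mem_R Q _ h), hh⟩

end OrthTwo

end Cfsg.Agent.Lib.Helper2
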