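import Mathlib
import Cfsg.Agent.Lib.Helper2.OrthTwo3

set_option autoImplicit false

namespace Cfsg.Agent.Lib.Helper2

namespace OrthTwo

open Matrix Cfsg.Agent.Lib.Helper2.ReflGen Cfsg.Agent.Lib.Helper2.CDG

variable {F : Type*} [Field F] {ι : Type} [Fintype ι] [DecidableEq ι]
variable (Q : QuadraticForm F (ι → F))

/-- the orthogonal complement of the plane `⟨u, u'⟩` -/
def V0 (u u' : ι → F) : Submodule F (ι → F) where
  carrier := {x | QuadraticMap.polar (⇑Q) u x = 0 ∧ QuadraticMap.polar (⇑Q) u' x = 0}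
  add_mem' := by
    rintro a b ⟨ha1, ha2⟩ ⟨hb1, hb2⟩
    exact ⟨by rw [QuadraticMap.polar_add_right, ha1, hb1, add_zero],
      by rw [QuadraticMap.polar_add_right, ha2, hb2, add_zero]⟩
  zero_mem' := by
    constructor <;> simp [QuadraticMap.polar]
  smul_mem' := by
    rintro c a ⟨ha1, ha2⟩
    exact ⟨by rw [QuadraticMap.polar_smul_right, ha1, smul_zero],
      by rw [QuadraticMap.polar_smul_right, ha2, smul_zero]⟩

variable {Q}

theorem mem_V0 (u u' x : ι → F) :
    x ∈ V0 Q u u' ↔ QuadraticMap.polar (⇑Q) u x = 0 ∧ QuadraticMap.polar (⇑Q) u' x = 0 := Iff.rfl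

/-- the projection to `V0` -/
theorem proj_mem (h2 : (2 : F) = 0) (u u' : ι → F) (huu' : QuadraticMap.polar (⇑Q) u u' = 1)
    (z : ι → F) :
    z + (QuadraticMap.polar (⇑Q) u' z • u + QuadraticMap.polar (⇑Q) u z • u') ∈ V0 Q u u' := by
  rw [mem_V0]
  constructor
  · rw [QuadraticMap.polar_add_right, QuadraticMap.polar_add_right, QuadraticMap.polar_smul_right,
      QuadraticMap.polar_smul_right, polar_self₂ h2, huu', smul_zero, zero_add, smul_eq_mul,
      mul_one, ← two_mul, h2, zero_mul]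
  · rw [QuadraticMap.polar_add_right, QuadraticMap.polar_add_right, QuadraticMap.polar_smul_right,
      QuadraticMap.polar_smul_right, polar_self₂ h2, QuadraticMap.polar_comm (⇑Q) u' u, huu',
      smul_zero, add_zero, smul_eq_mul, mul_one, ← two_mul, h2, zero_mul]

theorem decomp (h2 : (2 : F) = 0) (u u' : ι → F) (z : ι → F) :
    z = (z + (QuadraticMap.polar (⇑Q) u' z • u + QuadraticMap.polar (⇑Q) u z • u')) +
      (QuadraticMap.polar (⇑Q) u' z • u + QuadraticMap.polar (⇑Q) u z • u') := by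
  rw [add_assoc, vadd_self₂ h2, add_zero]

/-- the restricted form on `V0` is non-degenerate -/
theorem V0_nondeg (h2 : (2 : F) = 0) (hQ : (QuadraticMap.polarBilin Q).Nondegenerate)
    (u u' : ι → F) (huu' : QuadraticMap.polar (⇑Q) u u' = 1) (x : ι → F) (hx : x ∈ V0 Q u u')
    (h : ∀ y ∈ V0 Q u u', QuadraticMap.polar (⇑Q) x y = 0) : x = 0 := by
  apply hQ.1
  intro z
  show QuadraticMap.polar (⇑Q) x z = 0
  rw [decomp h2 u u' z, QuadraticMap.polar_add_right, h _ (proj_mem h2 u u' huu' z),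
    QuadraticMap.polar_add_right, QuadraticMap.polar_smul_right, QuadraticMap.polar_smul_right,
    QuadraticMap.polar_comm (⇑Q) x u, QuadraticMap.polar_comm (⇑Q) x u', hx.1, hx.2]
  simp

/-- the stabilizer of a vector in the isometry group -/
def Stab (Q : QuadraticForm F (ι → F)) (u : ι → F) : Subgroup ↥(Cfsg.isometryGroup F ⇑Q) where
  carrier := {g | ((g : Matrix.GeneralLinearGroup ι F) : Matrix ι ι F) *ᵥ u = u}
  mul_mem' := by
    intro a b ha hb
    show _ = u
    rw [mul_mulVec, hb, ha]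
  one_mem' := one_mulVec' u
  inv_mem' := by
    intro a ha
    show _ = u
    have h1 : ((a : Matrix.GeneralLinearGroup ι F) : Matrix ι ι F) *ᵥ u = u := ha
    nth_rewrite 1 [← h1]
    rw [← mul_mulVec, inv_mul_cancel, one_mulVec']

theorem mem_Stab (u : ι → F) (g : ↥(Cfsg.isometryGroup F ⇑Q)) :
    g ∈ Stab Q u ↔ ((g : Matrix.GeneralLinearGroup ι F) : Matrix ι ι F) *ᵥ u = u := Iff.rfl

end OrthTwo

end Cfsg.Agent.Lib.Helper2
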