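import Mathlib
import Cfsg.Agent.Lib.Helper2.OrthTwo4

set_option autoImplicit false

namespace Cfsg.Agent.Lib.Helper2

namespace OrthTwo

open Matrix Cfsg.Agent.Lib.Helper2.ReflGen Cfsg.Agent.Lib.Helper2.CDG

variable {F : Type*} [Field F] {ι : Type} [Fintype ι] [DecidableEq ι]
variable {Q : QuadraticForm F (ι → F)}

theorem stab_polar (u : ι → F) (g : ↥(Stab Q u)) (x : ι → F) :
    QuadraticMap.polar (⇑Q) u
      (((g : ↥(Cfsg.isometryGroup F ⇑Q)) : Matrix.GeneralLinearGroup ι F).1 *ᵥ x) =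
      QuadraticMap.polar (⇑Q) u x := by
  have h := iso_polar (g : ↥(Cfsg.isometryGroup F ⇑Q)) u x
  have hg : ((g : ↥(Cfsg.isometryGroup F ⇑Q)) : Matrix.GeneralLinearGroup ι F).1 *ᵥ u = u := g.2
  rw [hg] at h
  exact h

/-- the induced map on `V0` -/
noncomputable def rho0 (h2 : (2 : F) = 0) (u u' : ι → F)
    (huu' : QuadraticMap.polar (⇑Q) u u' = 1) (g : ↥(Stab Q u)) :
    ↥(V0 Q u u') →ₗ[F] ↥(V0 Q u u') where
  toFun x := ⟨((g : ↥(Cfsg.isometryGroup F ⇑Q)) : Matrix.GeneralLinearGroup ι F).1 *ᵥ x.1 +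
    QuadraticMap.polar (⇑Q) u'
      (((g : ↥(Cfsg.isometryGroup F ⇑Q)) : Matrix.GeneralLinearGroup ι F).1 *ᵥ x.1) • u, by
    have h := proj_mem h2 u u' huu'
      (((g : ↥(Cfsg.isometryGroup F ⇑Q)) : Matrix.GeneralLinearGroup ι F).1 *ᵥ x.1)
    rw [stab_polar u g x.1, x.2.1, zero_smul, add_zero] at h
    exact h⟩
  map_add' x y := by
    apply Subtype.ext
    show _ = (_ + _ : ι → F) + (_ + _)
    simp only [Submodule.coe_add, Matrix.mulVec_add, QuadraticMap.polar_add_right, add_smul]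
    abel
  map_smul' c x := by
    apply Subtype.ext
    show _ = c • ((_ : ι → F) + _)
    simp only [Submodule.coe_smul, Matrix.mulVec_smul, QuadraticMap.polar_smul_right, smul_eq_mul,
      RingHom.id_apply, smul_add, smul_smul]

theorem rho0_apply (h2 : (2 : F) = 0) (u u' : ι → F)
    (huu' : QuadraticMap.polar (⇑Q) u u' = 1) (g : ↥(Stab Q u)) (x : ↥(V0 Q u u')) :
    ((rho0 h2 u u' huu' g x : ↥(V0 Q u u')) : ι → F) =
      ((g : ↥(Cfsg.isometryGroup F ⇑Q)) : Matrix.GeneralLinearGroup ι F).1 *ᵥ x.1 +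
      QuadraticMap.polar (⇑Q) u'
        (((g : ↥(Cfsg.isometryGroup F ⇑Q)) : Matrix.GeneralLinearGroup ι F).1 *ᵥ x.1) • u := rfl

theorem rho0_one (h2 : (2 : F) = 0) (u u' : ι → F)
    (huu' : QuadraticMap.polar (⇑Q) u u' = 1) :
    rho0 h2 u u' huu' (1 : ↥(Stab Q u)) = LinearMap.id := by
  apply LinearMap.ext
  intro x
  apply Subtype.ext
  rw [rho0_apply]
  show ((1 : ↥(Cfsg.isometryGroup F ⇑Q)) : Matrix.GeneralLinearGroup ι F).1 *ᵥ x.1 +
    QuadraticMap.polar (⇑Q) u'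
      (((1 : ↥(Cfsg.isometryGroup F ⇑Q)) : Matrix.GeneralLinearGroup ι F).1 *ᵥ x.1) • u = x.1
  rw [one_mulVec', x.2.2, zero_smul, add_zero]

theorem rho0_mul (h2 : (2 : F) = 0) (u u' : ι → F)
    (huu' : QuadraticMap.polar (⇑Q) u u' = 1) (g h : ↥(Stab Q u)) :
    rho0 h2 u u' huu' (g * h) = (rho0 h2 u u' huu' g).comp (rho0 h2 u u' huu' h) := by
  apply LinearMap.ext
  intro x
  apply Subtype.ext
  rw [LinearMap.comp_apply, rho0_apply, rho0_apply, rho0_apply]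
  have hgu : ((g : ↥(Cfsg.isometryGroup F ⇑Q)) : Matrix.GeneralLinearGroup ι F).1 *ᵥ u = u := g.2
  show (((g : ↥(Cfsg.isometryGroup F ⇑Q)) * (h : ↥(Cfsg.isometryGroup F ⇑Q)) :
      ↥(Cfsg.isometryGroup F ⇑Q)) : Matrix.GeneralLinearGroup ι F).1 *ᵥ x.1 +
    QuadraticMap.polar (⇑Q) u'
      ((((g : ↥(Cfsg.isometryGroup F ⇑Q)) * (h : ↥(Cfsg.isometryGroup F ⇑Q)) :
      ↥(Cfsg.isometryGroup F ⇑Q)) : Matrix.GeneralLinearGroup ι F).1 *ᵥ x.1) • u = _
  rw [mul_mulVec, Matrix.mulVec_add, Matrix.mulVec_smul, hgu, QuadraticMap.polar_add_right,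
    QuadraticMap.polar_smul_right, QuadraticMap.polar_comm (⇑Q) u' u, huu', smul_eq_mul, mul_one,
    add_smul]
  set a := QuadraticMap.polar (⇑Q) u' (((h : ↥(Cfsg.isometryGroup F ⇑Q)) :
    Matrix.GeneralLinearGroup ι F).1 *ᵥ x.1) • u with ha
  have : a + a = 0 := vadd_self₂ h2 a
  rw [add_assoc _ a, add_comm _ a, ← add_assoc a, this, zero_add]

/-- the induced action as a group homomorphism -/
noncomputable def rho (h2 : (2 : F) = 0) (u u' : ι → F)
    (huu' : QuadraticMap.polar (⇑Q) u u' = 1) :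
    ↥(Stab Q u) →* (↥(V0 Q u u') ≃ₗ[F] ↥(V0 Q u u')) where
  toFun g := LinearEquiv.ofLinear (rho0 h2 u u' huu' g) (rho0 h2 u u' huu' g⁻¹)
    (by rw [← rho0_mul, mul_inv_cancel, rho0_one])
    (by rw [← rho0_mul, inv_mul_cancel, rho0_one])
  map_one' := by
    apply LinearEquiv.ext
    intro x
    show rho0 h2 u u' huu' 1 x = x
    rw [rho0_one]
    rfl
  map_mul' g h := by
    apply LinearEquiv.ext
    intro x
    show rho0 h2 u u' huu' (g * h) x = rho0 h2 u u' huu' g (rho0 h2 u u' huu' h x)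
    rw [rho0_mul]
    rfl

theorem rho_apply (h2 : (2 : F) = 0) (u u' : ι → F)
    (huu' : QuadraticMap.polar (⇑Q) u u' = 1) (g : ↥(Stab Q u)) (x : ↥(V0 Q u u')) :
    ((rho h2 u u' huu' g x : ↥(V0 Q u u')) : ι → F) =
      ((g : ↥(Cfsg.isometryGroup F ⇑Q)) : Matrix.GeneralLinearGroup ι F).1 *ᵥ x.1 +
      QuadraticMap.polar (⇑Q) u'
        (((g : ↥(Cfsg.isometryGroup F ⇑Q)) : Matrix.GeneralLinearGroup ι F).1 *ᵥ x.1) • u := rfl

theorem rho_polar (h2 : (2 : F) = 0) (u u' : ι → F)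
    (huu' : QuadraticMap.polar (⇑Q) u u' = 1) (g : ↥(Stab Q u)) (x y : ↥(V0 Q u u')) :
    QuadraticMap.polar (⇑Q) (rho h2 u u' huu' g x : ↥(V0 Q u u')).1
      (rho h2 u u' huu' g y : ↥(V0 Q u u')).1 = QuadraticMap.polar (⇑Q) x.1 y.1 := by
  rw [rho_apply, rho_apply, QuadraticMap.polar_add_left, QuadraticMap.polar_add_right,
    QuadraticMap.polar_add_right, QuadraticMap.polar_smul_left, QuadraticMap.polar_smul_left,
    QuadraticMap.polar_smul_right, QuadraticMap.polar_smul_right, polar_self₂ h2,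
    stab_polar u g y.1, y.2.1, QuadraticMap.polar_comm (⇑Q) _ u, stab_polar u g x.1, x.2.1,
    iso_polar]
  simp

end OrthTwo

end Cfsg.Agent.Lib.Helper2
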