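import Mathlib
import Cfsg.Agent.Lib.Helper2.OrthTwo5

set_option autoImplicit false

namespace Cfsg.Agent.Lib.Helper2

namespace OrthTwo

open Matrix Cfsg.Agent.Lib.Helper2.ReflGen Cfsg.Agent.Lib.Helper2.CDG

variable {F : Type*} [Field F] {ι : Type} [Fintype ι] [DecidableEq ι]
variable {Q : QuadraticForm F (ι → F)}

theorem exists_sq [Fintype F] (h2 : (2 : F) = 0) (a : F) : ∃ l : F, l * l = a := by
  haveI : CharP F 2 := CharTwo.of_one_ne_zero_of_two_eq_zero one_ne_zero h2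
  have h := FiniteField.isSquare_of_char_two (ringChar.eq F 2) a
  obtain ⟨l, hl⟩ := h
  exact ⟨l, hl.symm⟩

theorem refl_mem_Stab (h2 : (2 : F) = 0) (u v : ι → F) (hv : Q v ≠ 0)
    (huv : QuadraticMap.polar (⇑Q) u v = 0) : refl Q v hv ∈ Stab Q u := by
  rw [mem_Stab, refl_mulVec₂ h2, QuadraticMap.polar_comm, huv, mul_zero, zero_smul, add_zero]

/-- lifting a transvection of `V0` to a reflection fixing `u` -/
theorem exists_lift [Fintype F] (h2 : (2 : F) = 0) (u u' : ι → F) (hu : Q u ≠ 0)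
    (huu' : QuadraticMap.polar (⇑Q) u u' = 1) (w : ↥(V0 Q u u')) (c : F) :
    ∃ h : ↥(Stab Q u), (h : ↥(Cfsg.isometryGroup F ⇑Q)) ∈ Subgroup.closure (R Q) ∧
      ∀ x : ↥(V0 Q u u'), ((rho h2 u u' huu' h x : ↥(V0 Q u u')) : ι → F) =
        x.1 + (c * QuadraticMap.polar (⇑Q) x.1 w.1) • w.1 := by
  by_cases hc : c = 0
  · refine ⟨1, Subgroup.one_mem _, ?_⟩
    intro x
    rw [map_one, hc, zero_mul, zero_smul, add_zero]
    rfl
  · obtain ⟨l, hl⟩ := exists_sq h2 ((c⁻¹ + Q w.1) * (Q u)⁻¹)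
    obtain ⟨v, hv⟩ : ∃ v, v = w.1 + l • u := ⟨_, rfl⟩
    have hQv : Q v = c⁻¹ := by
      rw [hv, Q_add, QuadraticMap.map_smul, QuadraticMap.polar_smul_right,
        QuadraticMap.polar_comm (⇑Q) w.1 u, w.2.1, smul_zero, add_zero, smul_eq_mul, hl]
      have e : Q w.1 + Q w.1 = 0 := by rw [← two_mul, h2, zero_mul]
      field_simp
      linear_combination c * e
    have hQv0 : Q v ≠ 0 := by rw [hQv]; exact inv_ne_zero hc
    have huv : QuadraticMap.polar (⇑Q) u v = 0 := by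
      rw [hv, QuadraticMap.polar_add_right, QuadraticMap.polar_smul_right, w.2.1, polar_self₂ h2,
        smul_zero, add_zero]
    refine ⟨⟨refl Q v hQv0, refl_mem_Stab h2 u v hQv0 huv⟩,
      Subgroup.subset_closure (refl_mem_R Q v hQv0), ?_⟩
    intro x
    rw [rho_apply]
    show ((refl Q v hQv0 : Matrix.GeneralLinearGroup ι F) : Matrix ι ι F) *ᵥ x.1 +
      QuadraticMap.polar (⇑Q) u'
        (((refl Q v hQv0 : Matrix.GeneralLinearGroup ι F) : Matrix ι ι F) *ᵥ x.1) • u = _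
    rw [refl_mulVec₂ h2, hQv, inv_inv]
    have hpv : QuadraticMap.polar (⇑Q) v x.1 = QuadraticMap.polar (⇑Q) x.1 w.1 := by
      rw [hv, QuadraticMap.polar_add_left, QuadraticMap.polar_smul_left, x.2.1, smul_zero, add_zero,
        QuadraticMap.polar_comm]
    rw [hpv, QuadraticMap.polar_add_right, x.2.2, zero_add, QuadraticMap.polar_smul_right, hv,
      QuadraticMap.polar_add_right, w.2.2, zero_add, QuadraticMap.polar_smul_right,
      QuadraticMap.polar_comm (⇑Q) u' u, huu']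
    simp only [smul_eq_mul, mul_one, smul_add, smul_smul]
    rw [add_assoc, add_assoc, vadd_self₂ h2, add_zero]

end OrthTwo

end Cfsg.Agent.Lib.Helper2
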