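import Mathlib
import Cfsg.Agent.Lib.Helper2.OrthTwo6
import Cfsg.Agent.Lib.Helper2.AbsSp

set_option autoImplicit false

namespace Cfsg.Agent.Lib.Helper2

namespace OrthTwo

open Matrix Cfsg.Agent.Lib.Helper2.ReflGen Cfsg.Agent.Lib.Helper2.CDG

variable {F : Type*} [Field F] {ι : Type} [Fintype ι] [DecidableEq ι]
variable {Q : QuadraticForm F (ι → F)}

/-- the kernel of `rho` consists of the identity and the reflection in `u` -/
theorem ker_rho (h2 : (2 : F) = 0) (hQ : (QuadraticMap.polarBilin Q).Nondegenerate)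
    (u u' : ι → F) (hu : Q u ≠ 0)
    (huu' : QuadraticMap.polar (⇑Q) u u' = 1) (k : ↥(Stab Q u))
    (hk : ∀ x : ↥(V0 Q u u'), ((rho h2 u u' huu' k x : ↥(V0 Q u u')) : ι → F) = x.1) :
    (k : ↥(Cfsg.isometryGroup F ⇑Q)) = 1 ∨ (k : ↥(Cfsg.isometryGroup F ⇑Q)) = refl Q u hu := by
  obtain ⟨K, hK⟩ : ∃ K : Matrix ι ι F,
      K = ((k : ↥(Cfsg.isometryGroup F ⇑Q)) : Matrix.GeneralLinearGroup ι F).1 := ⟨_, rfl⟩
  have hKu : K *ᵥ u = u := by rw [hK]; exact k.2
  have hKQ : ∀ x, Q (K *ᵥ x) = Q x := by intro x; rw [hK]; exact iso_Q _ x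
  have hKp : ∀ x y, QuadraticMap.polar (⇑Q) (K *ᵥ x) (K *ᵥ y) = QuadraticMap.polar (⇑Q) x y := by
    intro x y; rw [hK]; exact iso_polar _ x y
  -- `k` fixes `V0` pointwise
  have hfix : ∀ x ∈ V0 Q u u', K *ᵥ x = x := by
    intro x hx
    have h1 := hk ⟨x, hx⟩
    rw [rho_apply, ← hK] at h1
    simp only at h1
    set μ := QuadraticMap.polar (⇑Q) u' (K *ᵥ x) with hμ
    have h3 : K *ᵥ x = x + μ • u := by
      have : K *ᵥ x + μ • u + μ • u = x + μ • u := by rw [h1]
      rw [add_assoc, vadd_self₂ h2, add_zero] at this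
      exact this
    have h4 := hKQ x
    rw [h3, Q_add, QuadraticMap.map_smul, QuadraticMap.polar_smul_right,
      QuadraticMap.polar_comm (⇑Q) x u, hx.1, smul_zero, add_zero, smul_eq_mul] at h4
    have h5 : μ * μ * Q u = 0 := by linear_combination h4
    have h6 : μ = 0 := by
      rcases mul_eq_zero.1 h5 with h | h
      · rcases mul_eq_zero.1 h with h | h <;> exact h
      · exact absurd h hu
    rw [h3, h6, zero_smul, add_zero]
  -- the image of `u'`
  obtain ⟨z, hz⟩ : ∃ z, z = K *ᵥ u' + u' := ⟨_, rfl⟩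
  have hzu : QuadraticMap.polar (⇑Q) u z = 0 := by
    rw [hz, QuadraticMap.polar_add_right]
    nth_rewrite 1 [← hKu]
    rw [hKp, huu', ← two_mul, h2, zero_mul]
  have hzV : ∀ x ∈ V0 Q u u', QuadraticMap.polar (⇑Q) z x = 0 := by
    intro x hx
    rw [hz, QuadraticMap.polar_add_left, hx.2]
    nth_rewrite 1 [← hfix x hx]
    rw [hKp, hx.2, add_zero]
  obtain ⟨α, hα⟩ : ∃ α, α = QuadraticMap.polar (⇑Q) u' z := ⟨_, rfl⟩
  have hzα : z = α • u := by
    have hd := decomp (Q := Q) h2 u u' z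
    rw [hzu, zero_smul, add_zero, ← hα] at hd
    have hz0 : z + α • u = 0 := by
      apply V0_nondeg h2 hQ u u' huu'
      · have := proj_mem (Q := Q) h2 u u' huu' z
        rw [hzu, zero_smul, add_zero, ← hα] at this
        exact this
      · intro y hy
        rw [QuadraticMap.polar_add_left, hzV y hy, QuadraticMap.polar_smul_left, hy.1, smul_zero,
          add_zero]
    rw [hz0, zero_add] at hd
    exact hd
  have hKu' : K *ᵥ u' = u' + α • u := by
    have : K *ᵥ u' + u' + u' = α • u + u' := by rw [← hz, hzα]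
    rw [add_assoc, vadd_self₂ h2, add_zero] at this
    rw [this, add_comm]
  have hα2 : α * (α * Q u + 1) = 0 := by
    have h4 := hKQ u'
    rw [hKu', Q_add, QuadraticMap.map_smul, QuadraticMap.polar_smul_right,
      QuadraticMap.polar_comm (⇑Q) u' u, huu', smul_eq_mul, smul_eq_mul] at h4
    linear_combination h4
  have hspan : ∀ (M N : Matrix ι ι F), M *ᵥ u = N *ᵥ u → M *ᵥ u' = N *ᵥ u' →
      (∀ x ∈ V0 Q u u', M *ᵥ x = N *ᵥ x) → ∀ y, M *ᵥ y = N *ᵥ y := by
    intro M N h1 h3 h4 y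
    have hp := h4 _ (proj_mem h2 u u' huu' y)
    have hs : M *ᵥ (QuadraticMap.polar (⇑Q) u' y • u + QuadraticMap.polar (⇑Q) u y • u') =
        N *ᵥ (QuadraticMap.polar (⇑Q) u' y • u + QuadraticMap.polar (⇑Q) u y • u') := by
      simp only [Matrix.mulVec_add, Matrix.mulVec_smul, h1, h3]
    have hy := decomp (Q := Q) h2 u u' y
    calc M *ᵥ y = M *ᵥ ((y + (QuadraticMap.polar (⇑Q) u' y • u + QuadraticMap.polar (⇑Q) u y • u')) +
          (QuadraticMap.polar (⇑Q) u' y • u + QuadraticMap.polar (⇑Q) u y • u')) := by rw [← hy]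
      _ = N *ᵥ ((y + (QuadraticMap.polar (⇑Q) u' y • u + QuadraticMap.polar (⇑Q) u y • u')) +
          (QuadraticMap.polar (⇑Q) u' y • u + QuadraticMap.polar (⇑Q) u y • u')) := by
        rw [Matrix.mulVec_add, Matrix.mulVec_add _ (y + _), hp, hs]
      _ = N *ᵥ y := by rw [← hy]
  rcases mul_eq_zero.1 hα2 with h | h
  · left
    apply iso_ext
    intro y
    rw [one_mulVec', ← hK]
    have := hspan K 1 (by rw [hKu, Matrix.one_mulVec])
      (by rw [hKu', h, zero_smul, add_zero, Matrix.one_mulVec])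
      (fun x hx => by rw [hfix x hx, Matrix.one_mulVec]) y
    rw [this, Matrix.one_mulVec]
  · right
    apply iso_ext
    intro y
    rw [← hK]
    have hα' : α = (Q u)⁻¹ := by
      have : α * Q u = -1 := by linear_combination h
      rw [neg_eq₂ h2] at this
      exact eq_inv_of_mul_eq_one_left this
    refine hspan K _ ?_ ?_ ?_ y
    · rw [hKu, refl_mulVec₂ h2, polar_self₂ h2, mul_zero, zero_smul, add_zero]
    · rw [hKu', refl_mulVec₂ h2, huu', mul_one, hα']
    · intro x hx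
      rw [hfix x hx, refl_mulVec₂ h2, hx.1, mul_zero, zero_smul, add_zero]

end OrthTwo

end Cfsg.Agent.Lib.Helper2
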