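import Mathlib
import Cfsg.Agent.Lib.Helper2.OrthTwo7

set_option autoImplicit false

namespace Cfsg.Agent.Lib.Helper2

namespace OrthTwo

open Matrix Cfsg.Agent.Lib.Helper2.ReflGen Cfsg.Agent.Lib.Helper2.CDG

variable {F : Type*} [Field F] {ι : Type} [Fintype ι] [DecidableEq ι]
variable {Q : QuadraticForm F (ι → F)}

/-- the stabilizer of a non-singular vector is generated by reflections -/
theorem stab_le_closure [Fintype F] (h2 : (2 : F) = 0)
    (hQ : (QuadraticMap.polarBilin Q).Nondegenerate) (u u' : ι → F) (hu : Q u ≠ 0)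
    (huu' : QuadraticMap.polar (⇑Q) u u' = 1) (g : ↥(Stab Q u)) :
    (g : ↥(Cfsg.isometryGroup F ⇑Q)) ∈ Subgroup.closure (R Q) := by
  obtain ⟨B₀, hB₀⟩ : ∃ B₀ : LinearMap.BilinForm F ↥(V0 Q u u'),
      B₀ = LinearMap.BilinForm.restrict (QuadraticMap.polarBilin Q) (V0 Q u u') := ⟨_, rfl⟩
  have hB₀ap : ∀ x y : ↥(V0 Q u u'), B₀ x y = QuadraticMap.polar (⇑Q) x.1 y.1 := by
    intro x y; rw [hB₀]; rfl
  have halt : B₀.IsAlt := by
    intro x
    rw [hB₀ap, polar_self₂ h2]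
  have hnd : ∀ x : ↥(V0 Q u u'), (∀ y, B₀ x y = 0) → x = 0 := by
    intro x hx
    apply Subtype.ext
    apply V0_nondeg h2 hQ u u' huu' x.1 x.2
    intro y hy
    have := hx ⟨y, hy⟩
    rw [hB₀ap] at this
    exact this
  have hf : ∀ x y : ↥(V0 Q u u'), B₀ (rho h2 u u' huu' g x) (rho h2 u u' huu' g y) = B₀ x y := by
    intro x y
    rw [hB₀ap, hB₀ap, rho_polar]
  have hcl := AbsSp.mem_closure_transv B₀ halt hnd (rho h2 u u' huu' g) hf
  have key : ∀ A ∈ Subgroup.closure {τ : ↥(V0 Q u u') ≃ₗ[F] ↥(V0 Q u u') | AbsSp.IsTransv B₀ τ},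
      ∃ h : ↥(Stab Q u), (h : ↥(Cfsg.isometryGroup F ⇑Q)) ∈ Subgroup.closure (R Q) ∧
        rho h2 u u' huu' h = A := by
    intro A hA
    induction hA using Subgroup.closure_induction with
    | mem A hA =>
      obtain ⟨w, c, hA⟩ := hA
      obtain ⟨h, hh1, hh2⟩ := exists_lift h2 u u' hu huu' w c
      refine ⟨h, hh1, ?_⟩
      apply LinearEquiv.ext
      intro x
      apply Subtype.ext
      rw [hh2 x, hA x, hB₀ap]
      rfl
    | one => exact ⟨1, Subgroup.one_mem _, map_one _⟩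
    | mul A A' _ _ hA hA' =>
      obtain ⟨h, hh1, hh2⟩ := hA
      obtain ⟨h', hh1', hh2'⟩ := hA'
      exact ⟨h * h', Subgroup.mul_mem _ hh1 hh1', by rw [map_mul, hh2, hh2']⟩
    | inv A _ hA =>
      obtain ⟨h, hh1, hh2⟩ := hA
      exact ⟨h⁻¹, Subgroup.inv_mem _ hh1, by rw [map_inv, hh2]⟩
  obtain ⟨h, hh1, hh2⟩ := key _ hcl
  have hk : ∀ x : ↥(V0 Q u u'),
      ((rho h2 u u' huu' (g * h⁻¹) x : ↥(V0 Q u u')) : ι → F) = x.1 := by
    intro x
    rw [map_mul, map_inv, hh2, mul_inv_cancel]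
    rfl
  rcases ker_rho h2 hQ u u' hu huu' (g * h⁻¹) hk with h1 | h1
  · have : (g : ↥(Cfsg.isometryGroup F ⇑Q)) = (h : ↥(Cfsg.isometryGroup F ⇑Q)) := by
      have h3 : (g : ↥(Cfsg.isometryGroup F ⇑Q)) * (h : ↥(Cfsg.isometryGroup F ⇑Q))⁻¹ = 1 := h1
      exact mul_inv_eq_one.1 h3
    rw [this]
    exact hh1
  · have : (g : ↥(Cfsg.isometryGroup F ⇑Q)) = refl Q u hu * (h : ↥(Cfsg.isometryGroup F ⇑Q)) := by
      have h3 : (g : ↥(Cfsg.isometryGroup F ⇑Q)) * (h : ↥(Cfsg.isometryGroup F ⇑Q))⁻¹ =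
        refl Q u hu := h1
      rw [← h3, inv_mul_cancel_right]
    rw [this]
    exact Subgroup.mul_mem _ (Subgroup.subset_closure (refl_mem_R Q u hu)) hh1

/-- generation by reflections in characteristic two -/
theorem closure_R_eq_top₂ [Fintype F] (h2 : (2 : F) = 0)
    (hQ : (QuadraticMap.polarBilin Q).Nondegenerate)
    (hex : Fintype.card F ≠ 2 ∨ Fintype.card ι ≠ 4) (hn : 2 ≤ Fintype.card ι) :
    Subgroup.closure (R Q) = ⊤ := by
  have hfr : 2 ≤ Module.finrank F (ι → F) := by rw [Module.finrank_fintype_fun_eq_card]; exact hn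
  obtain ⟨u, hu1⟩ := Cfsg.Agent.Lib.Helper5.exists_represents_one Q hQ hfr
  have hu : Q u ≠ 0 := by rw [hu1]; exact one_ne_zero
  have hu0 : u ≠ 0 := by rintro rfl; exact hu (QuadraticMap.map_zero Q)
  have hex' : ∃ a, QuadraticMap.polar (⇑Q) u a ≠ 0 := by
    by_contra h
    push Not at h
    exact hu0 (hQ.1 u h)
  obtain ⟨a, ha⟩ := hex'
  obtain ⟨u', hu'⟩ : ∃ u', u' = (QuadraticMap.polar (⇑Q) u a)⁻¹ • a := ⟨_, rfl⟩
  have huu' : QuadraticMap.polar (⇑Q) u u' = 1 := by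
    rw [hu', QuadraticMap.polar_smul_right, smul_eq_mul, inv_mul_cancel₀ ha]
  rw [eq_top_iff]
  intro g _
  have hgu : Q (((g : Matrix.GeneralLinearGroup ι F) : Matrix ι ι F) *ᵥ u) = Q u := iso_Q g u
  obtain ⟨ρ, hρ, hρu⟩ := exists_closure_map h2 hQ hex
    (((g : Matrix.GeneralLinearGroup ι F) : Matrix ι ι F) *ᵥ u) u (by rw [hgu]; exact hu) hgu
  have hmem : ρ * g ∈ Stab Q u := by
    rw [mem_Stab, mul_mulVec, hρu]
  have h1 := stab_le_closure h2 hQ u u' hu huu' ⟨ρ * g, hmem⟩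
  have : g = ρ⁻¹ * (ρ * g) := by group
  rw [this]
  exact Subgroup.mul_mem _ (Subgroup.inv_mem _ hρ) h1

end OrthTwo

end Cfsg.Agent.Lib.Helper2
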