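import Mathlib
import Cfsg.Agent.Lib.Helper2.Dickson3
import Cfsg.Agent.Lib.Helper2.OrthTwo8
import Cfsg.Agent.Lib.Helper2.Spinor3

set_option autoImplicit false

namespace Cfsg.Agent.Lib.Helper2

namespace Dickson

open Matrix Cfsg.Agent.Lib.Helper2.ReflGen Cfsg.Agent.Lib.Helper2.CDG

variable {F : Type*} [Field F] {ι : Type} [Fintype ι] [DecidableEq ι]
variable {Q : QuadraticForm F (ι → F)}

/-- in characteristic two all reflections have the same image in the abelianization -/
theorem ab_refl_eq₂ [Fintype F] (h2 : (2 : F) = 0)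
    (hQ : (QuadraticMap.polarBilin Q).Nondegenerate)
    (hex : Fintype.card F ≠ 2 ∨ Fintype.card ι ≠ 4) (u v : ι → F) (hu : Q u ≠ 0) (hv : Q v ≠ 0) :
    Abelianization.of (refl Q v hv) = Abelianization.of (refl Q u hu) := by
  -- normalise both vectors to norm one
  have key : ∀ (x y : ι → F) (hx : Q x ≠ 0) (hy : Q y ≠ 0), Q x = Q y →
      Abelianization.of (refl Q x hx) = Abelianization.of (refl Q y hy) := by
    intro x y hx hy hxy
    obtain ⟨ρ, -, hρ⟩ := OrthTwo.exists_closure_map h2 hQ hex x y hx hxy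
    have h3 := Spinor.conj_refl ρ x hx
    have h4 : refl Q (((ρ : Matrix.GeneralLinearGroup ι F) : Matrix ι ι F) *ᵥ x)
        (by rw [iso_Q]; exact hx) = refl Q y hy := by
      congr 1
    rw [h4] at h3
    rw [← h3, map_mul, map_mul, mul_comm, ← mul_assoc, ← map_mul, inv_mul_cancel, map_one, one_mul]
  obtain ⟨s, hs⟩ := OrthTwo.exists_sq h2 (Q u)
  obtain ⟨t, ht⟩ := OrthTwo.exists_sq h2 (Q v)
  have hs0 : s ≠ 0 := by rintro rfl; rw [zero_mul] at hs; exact hu hs.symm
  have ht0 : t ≠ 0 := by rintro rfl; rw [zero_mul] at ht; exact hv ht.symm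
  have hQu' : Q (s⁻¹ • u) = 1 := by
    rw [Spinor.map_smul_self, ← hs]; field_simp
  have hQv' : Q (t⁻¹ • v) = 1 := by
    rw [Spinor.map_smul_self, ← ht]; field_simp
  rw [← Spinor.refl_smul_eq v hv t⁻¹ (inv_ne_zero ht0), ← Spinor.refl_smul_eq u hu s⁻¹ (inv_ne_zero hs0)]
  exact key _ _ _ _ (by rw [hQu', hQv'])

/-- the abelianization of the orthogonal group in characteristic two has order two -/
theorem card_abelianization₂ [Fintype F] (h2 : (2 : F) = 0)
    (hQ : (QuadraticMap.polarBilin Q).Nondegenerate)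
    (hex : Fintype.card F ≠ 2 ∨ Fintype.card ι ≠ 4) (hn : 2 ≤ Fintype.card ι) :
    Nat.card (Abelianization ↥(Cfsg.isometryGroup F ⇑Q)) = 2 := by
  have hgen := OrthTwo.closure_R_eq_top₂ h2 hQ hex hn
  have hfr : 2 ≤ Module.finrank F (ι → F) := by rw [Module.finrank_fintype_fun_eq_card]; exact hn
  obtain ⟨u, hu1⟩ := Cfsg.Agent.Lib.Helper5.exists_represents_one Q hQ hfr
  have hu : Q u ≠ 0 := by rw [hu1]; exact one_ne_zero
  set a : Abelianization ↥(Cfsg.isometryGroup F ⇑Q) := Abelianization.of (refl Q u hu) with ha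
  have haa : a * a = 1 := by rw [ha, ← map_mul, refl_mul_self, map_one]
  have hall' : ∀ g : ↥(Cfsg.isometryGroup F ⇑Q), Abelianization.of g = 1 ∨
      Abelianization.of g = a := by
    intro g
    have hg : g ∈ Subgroup.closure (R Q) := by rw [hgen]; trivial
    induction hg using Subgroup.closure_induction with
    | mem g hg =>
      obtain ⟨v, hv, hgv⟩ := hg
      right
      have : g = refl Q v hv := by
        apply Subtype.ext
        apply Units.ext
        rw [hgv, refl_coe]
      rw [this]
      exact ab_refl_eq₂ h2 hQ hex u v hu hv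
    | one => left; exact map_one _
    | mul x y _ _ hx hy =>
      rw [map_mul]
      rcases hx with hx | hx <;> rcases hy with hy | hy <;> rw [hx, hy]
      · left; exact one_mul _
      · right; exact one_mul _
      · right; exact mul_one _
      · left; exact haa
    | inv x _ hx =>
      rw [map_inv]
      rcases hx with hx | hx <;> rw [hx]
      · left; exact inv_one
      · right; exact inv_eq_of_mul_eq_one_left haa
  have hall : ∀ x : Abelianization ↥(Cfsg.isometryGroup F ⇑Q), x = 1 ∨ x = a := by
    intro x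
    obtain ⟨g, rfl⟩ := QuotientGroup.mk_surjective x
    exact hall' g
  have hne : a ≠ 1 := by
    intro h
    have h1 : Abelianization.lift (dickson hQ hgen) a = Multiplicative.ofAdd 1 := by
      rw [ha, Abelianization.lift_apply_of, dickson_refl]
    rw [h, map_one] at h1
    have : (Multiplicative.ofAdd (1 : ZMod 2)) ≠ 1 := by decide
    exact this h1.symm
  rw [Nat.card_eq_two_iff]
  refine ⟨1, a, Ne.symm hne, ?_⟩
  ext x
  simp only [Set.mem_insert_iff, Set.mem_singleton_iff, Set.mem_univ, iff_true]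
  exact hall x

end Dickson

end Cfsg.Agent.Lib.Helper2
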