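import Mathlib
import Cfsg.Agent.Lib.Helper2.Spinor3

set_option autoImplicit false

namespace Cfsg.Agent.Lib.Helper2

namespace Spinor

open Matrix Cfsg.Agent.Lib.Helper2.ReflGen Cfsg.Agent.Lib.Helper2.CDG

variable {F : Type*} [Field F] [Fintype F] [DecidableEq F] {ι : Type} [Fintype ι] [DecidableEq ι]
variable (Q : QuadraticForm F (ι → F))

/-- determinant together with the sign on the unit sphere -/
noncomputable def Phi : ↥(Cfsg.isometryGroup F ⇑Q) →* Fˣ × ℤˣ :=
  (Matrix.GeneralLinearGroup.det.comp (Cfsg.isometryGroup F ⇑Q).subtype).prod (levSign Q 1)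

variable {Q}

theorem Phi_refl (h2 : (2 : F) ≠ 0) (v : ι → F) (hv : Q v ≠ 0) :
    Phi Q (refl Q v hv) = (-1, if ∃ t : F, t * t * Q v = 1 then -1 else 1) := by
  unfold Phi
  rw [MonoidHom.prod_apply, levSign_refl h2 one_ne_zero]
  congr 1
  apply Units.ext
  rw [MonoidHom.comp_apply, Subgroup.coe_subtype, Matrix.GeneralLinearGroup.val_det_apply, det_refl]
  simp

omit [Fintype F] [DecidableEq F] in
theorem exists_value [Finite F] (hQ : (QuadraticMap.polarBilin Q).Nondegenerate)
    (hn : 2 ≤ Fintype.card ι) (d : F) (hd : d ≠ 0) : ∃ v : ι → F, Q v = d := by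
  have hfr : 2 ≤ Module.finrank F (ι → F) := by rw [Module.finrank_fintype_fun_eq_card]; exact hn
  have hQ' : (QuadraticMap.polarBilin (d⁻¹ • Q)).Nondegenerate := by
    constructor
    · intro x hx
      apply hQ.1 x
      intro y
      have h1 := hx y
      have h3 : (QuadraticMap.polarBilin (d⁻¹ • Q)) x y = d⁻¹ * QuadraticMap.polar (⇑Q) x y := by
        show QuadraticMap.polar (⇑(d⁻¹ • Q)) x y = _
        simp [QuadraticMap.polar]
        ring
      rw [h3] at h1
      rcases mul_eq_zero.1 h1 with h | h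
      · exact absurd h (inv_ne_zero hd)
      · exact h
    · intro y hy
      apply hQ.2 y
      intro x
      have h1 := hy x
      have h3 : (QuadraticMap.polarBilin (d⁻¹ • Q)) x y = d⁻¹ * QuadraticMap.polar (⇑Q) x y := by
        show QuadraticMap.polar (⇑(d⁻¹ • Q)) x y = _
        simp [QuadraticMap.polar]
        ring
      rw [h3] at h1
      rcases mul_eq_zero.1 h1 with h | h
      · exact absurd h (inv_ne_zero hd)
      · exact h
  obtain ⟨v, hv⟩ := Cfsg.Agent.Lib.Helper5.exists_represents_one (d⁻¹ • Q) hQ' hfr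
  refine ⟨v, ?_⟩
  have h1 : d⁻¹ * Q v = 1 := hv
  field_simp at h1
  exact h1

omit [DecidableEq F] in
theorem exists_nonsquare' (h2 : (2 : F) ≠ 0) : ∃ d : F, ¬ IsSquare d := by
  apply FiniteField.exists_nonsquare
  intro h
  apply h2
  have := CharP.cast_eq_zero F (ringChar F)
  rw [h] at this
  exact_mod_cast this

omit [DecidableEq F] in
theorem isSquare_mul_inv_of_nonsquare (h2 : (2 : F) ≠ 0) {a d : F} (ha : ¬ IsSquare a)
    (hd : ¬ IsSquare d) : IsSquare (a * d⁻¹) := by
  classical
  have hF : ringChar F ≠ 2 := by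
    intro h
    apply h2
    have := CharP.cast_eq_zero F (ringChar F)
    rw [h] at this
    exact_mod_cast this
  have ha0 : a ≠ 0 := by rintro rfl; exact ha ⟨0, by simp⟩
  have hd0 : d ≠ 0 := by rintro rfl; exact hd ⟨0, by simp⟩
  rw [← quadraticChar_one_iff_isSquare (mul_ne_zero ha0 (inv_ne_zero hd0)), map_mul]
  have h1 : quadraticChar F a = -1 := quadraticChar_neg_one_iff_not_isSquare.2 ha
  have h3 : quadraticChar F d = -1 := quadraticChar_neg_one_iff_not_isSquare.2 hd
  have h4 : quadraticChar F d⁻¹ * quadraticChar F d = 1 := by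
    rw [← map_mul, inv_mul_cancel₀ hd0, map_one]
  rw [h3] at h4
  rw [h1]
  linarith

end Spinor

end Cfsg.Agent.Lib.Helper2
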