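import Mathlib
import Cfsg.Agent.Lib.Helper2.Spinor4

set_option autoImplicit false

namespace Cfsg.Agent.Lib.Helper2

namespace Spinor

open Matrix Cfsg.Agent.Lib.Helper2.ReflGen Cfsg.Agent.Lib.Helper2.CDG

variable {F : Type*} [Field F] [Fintype F] [DecidableEq F] {ι : Type} [Fintype ι] [DecidableEq ι]
variable {Q : QuadraticForm F (ι → F)}

/-- structure of the abelianization of the isometry group: it is the image of `Bool × Bool`
under an explicit bijection on which `Phi` is injective -/
theorem exists_ab_structure (h2 : (2 : F) ≠ 0) (hQ : (QuadraticMap.polarBilin Q).Nondegenerate)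
    (hn : 2 ≤ Fintype.card ι) :
    ∃ f : Bool × Bool → Abelianization ↥(Cfsg.isometryGroup F ⇑Q),
      Function.Surjective f ∧
      Function.Injective (fun p => Abelianization.lift (Phi Q) (f p)) ∧
      (∀ p, f p * f p = 1) := by
  classical
  obtain ⟨d, hd⟩ := exists_nonsquare' (F := F) h2
  have hd0 : d ≠ 0 := by rintro rfl; exact hd ⟨0, by simp⟩
  obtain ⟨vp, hvp⟩ := exists_value hQ hn 1 one_ne_zero
  obtain ⟨vm, hvm⟩ := exists_value hQ hn d hd0
  have hvp0 : Q vp ≠ 0 := by rw [hvp]; exact one_ne_zero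
  have hvm0 : Q vm ≠ 0 := by rw [hvm]; exact hd0
  set a : Abelianization ↥(Cfsg.isometryGroup F ⇑Q) := Abelianization.of (refl Q vp hvp0) with ha_def
  set b : Abelianization ↥(Cfsg.isometryGroup F ⇑Q) := Abelianization.of (refl Q vm hvm0) with hb_def
  have ha : a * a = 1 := by rw [ha_def, ← map_mul, refl_mul_self, map_one]
  have hb : b * b = 1 := by rw [hb_def, ← map_mul, refl_mul_self, map_one]
  let f : Bool × Bool → Abelianization ↥(Cfsg.isometryGroup F ⇑Q) :=
    fun p => (if p.1 then a else 1) * (if p.2 then b else 1)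
  have hfmul : ∀ p p' : Bool × Bool, f p * f p' = f (xor p.1 p'.1, xor p.2 p'.2) := by
    intro p p'
    show (if p.1 then a else 1) * (if p.2 then b else 1) *
      ((if p'.1 then a else 1) * (if p'.2 then b else 1)) =
      (if xor p.1 p'.1 then a else 1) * (if xor p.2 p'.2 then b else 1)
    rw [mul_mul_mul_comm]
    congr 1
    · rcases p with ⟨_ | _, _⟩ <;> rcases p' with ⟨_ | _, _⟩ <;> simp [ha]
    · rcases p with ⟨_, _ | _⟩ <;> rcases p' with ⟨_, _ | _⟩ <;> simp [hb]
  have hfsq : ∀ p, f p * f p = 1 := by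
    intro p
    rw [hfmul]
    simp [f]
  have hR : ∀ (v : ι → F) (hv : Q v ≠ 0), Abelianization.of (refl Q v hv) = a ∨
      Abelianization.of (refl Q v hv) = b := by
    intro v hv
    by_cases hs : IsSquare (Q v)
    · left
      obtain ⟨s, hs⟩ := hs
      exact ab_refl_eq' h2 v vp hv hvp0 s (by rw [hvp, mul_one]; exact hs)
    · right
      obtain ⟨s, hs⟩ := isSquare_mul_inv_of_nonsquare h2 hs hd
      refine ab_refl_eq' h2 v vm hv hvm0 s ?_
      rw [hvm, ← hs]
      field_simp
  have hsurj : Function.Surjective f := by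
    intro x
    obtain ⟨g, rfl⟩ := QuotientGroup.mk_surjective x
    have hg : g ∈ Subgroup.closure (R Q) := by rw [closure_R_eq_top h2 hQ]; trivial
    induction hg using Subgroup.closure_induction with
    | mem g hg =>
      obtain ⟨v, hv, hgv⟩ := hg
      rw [eq_refl_of_coe g v hv hgv]
      rcases hR v hv with h | h
      · exact ⟨(true, false), by simp [f]; exact h.symm⟩
      · exact ⟨(false, true), by simp [f]; exact h.symm⟩
    | one => exact ⟨(false, false), by simp [f]; rfl⟩
    | mul x y _ _ hx hy =>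
      obtain ⟨p, hp⟩ := hx
      obtain ⟨p', hp'⟩ := hy
      refine ⟨(xor p.1 p'.1, xor p.2 p'.2), ?_⟩
      rw [← hfmul, hp, hp']
      rfl
    | inv x _ hx =>
      obtain ⟨p, hp⟩ := hx
      refine ⟨p, ?_⟩
      rw [hp]
      have h5 : (QuotientGroup.mk x : Abelianization ↥(Cfsg.isometryGroup F ⇑Q)) *
          QuotientGroup.mk x = 1 := by
        rw [← hp]; exact hfsq p
      rw [QuotientGroup.mk_inv]
      exact (inv_eq_of_mul_eq_one_left h5).symm
  refine ⟨f, hsurj, ?_, hfsq⟩
  have hm1 : (-1 : Fˣ) ≠ 1 := by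
    intro h
    have h1 := congrArg Units.val h
    rw [Units.val_neg, Units.val_one] at h1
    apply h2
    linear_combination -h1
  have hPa : Abelianization.lift (Phi Q) a = (-1, -1) := by
    rw [ha_def, Abelianization.lift_apply_of, Phi_refl h2, if_pos ⟨1, by rw [hvp]; ring⟩]
  have hPb : Abelianization.lift (Phi Q) b = (-1, 1) := by
    rw [hb_def, Abelianization.lift_apply_of, Phi_refl h2, if_neg]
    rintro ⟨t, ht⟩
    rw [hvm] at ht
    apply hd
    have ht0 : t ≠ 0 := by
      rintro rfl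
      rw [zero_mul, zero_mul] at ht
      exact zero_ne_one ht
    refine ⟨t⁻¹, ?_⟩
    rw [← mul_inv]
    exact eq_inv_of_mul_eq_one_right ht
  have hPf : ∀ p : Bool × Bool, Abelianization.lift (Phi Q) (f p) =
      ((if p.1 then (-1, -1) else 1) * (if p.2 then (-1, 1) else 1) : Fˣ × ℤˣ) := by
    intro p
    show Abelianization.lift (Phi Q) ((if p.1 then a else 1) * (if p.2 then b else 1)) = _
    rw [map_mul]
    congr 1
    · rcases p with ⟨_ | _, _⟩ <;> simp [hPa]
    · rcases p with ⟨_, _ | _⟩ <;> simp [hPb]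
  intro p p' hpp
  simp only [hPf] at hpp
  have hz : (-1 : ℤˣ) ≠ 1 := by decide
  rcases p with ⟨_ | _, _ | _⟩ <;> rcases p' with ⟨_ | _, _ | _⟩ <;>
    simp [Prod.ext_iff, hm1, hm1.symm, hz, hz.symm] at hpp ⊢

end Spinor

end Cfsg.Agent.Lib.Helper2
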