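import Mathlib
import Cfsg.Agent.Lib.Helper2.Spinor5

set_option autoImplicit false

namespace Cfsg.Agent.Lib.Helper2

namespace Spinor

open Matrix Cfsg.Agent.Lib.Helper2.ReflGen Cfsg.Agent.Lib.Helper2.CDG

variable {F : Type*} [Field F] [Fintype F] [DecidableEq F] {ι : Type} [Fintype ι] [DecidableEq ι]
variable {Q : QuadraticForm F (ι → F)}

/-- the commutator subgroup of the isometry group is the kernel of `Phi` -/
theorem mem_commutator_iff (h2 : (2 : F) ≠ 0) (hQ : (QuadraticMap.polarBilin Q).Nondegenerate)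
    (hn : 2 ≤ Fintype.card ι) (g : ↥(Cfsg.isometryGroup F ⇑Q)) :
    g ∈ commutator ↥(Cfsg.isometryGroup F ⇑Q) ↔ Phi Q g = 1 := by
  constructor
  · intro hg
    exact Abelianization.commutator_subset_ker (Phi Q) hg
  · intro hg
    obtain ⟨f, hsurj, hinj, hsq⟩ := exists_ab_structure h2 hQ hn
    obtain ⟨p, hp⟩ := hsurj (Abelianization.of g)
    obtain ⟨p₀, hp₀⟩ := hsurj 1
    have h1 : Abelianization.lift (Phi Q) (f p) = Abelianization.lift (Phi Q) (f p₀) := by
      rw [hp, hp₀, Abelianization.lift_apply_of, hg, map_one]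
    have h3 : p = p₀ := hinj h1
    have h4 : Abelianization.of g = 1 := by rw [← hp, h3, hp₀]
    rw [← Abelianization.ker_of]
    exact h4

theorem det_negOne (heven : Even (Fintype.card ι)) :
    Matrix.GeneralLinearGroup.det ((negOne Q : ↥(Cfsg.isometryGroup F ⇑Q)) :
      Matrix.GeneralLinearGroup ι F) = 1 := by
  apply Units.ext
  rw [Matrix.GeneralLinearGroup.val_det_apply, negOne_coe, Matrix.det_neg, Matrix.det_one, mul_one,
    Units.val_one]
  exact heven.neg_one_pow

/-- `-1` lies in `Ω` iff the number of vectors of norm one is divisible by four -/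
theorem negOne_mem_commutator_iff (h2 : (2 : F) ≠ 0)
    (hQ : (QuadraticMap.polarBilin Q).Nondegenerate)
    (hn : 2 ≤ Fintype.card ι) (heven : Even (Fintype.card ι)) :
    negOne Q ∈ commutator ↥(Cfsg.isometryGroup F ⇑Q) ↔
      4 ∣ Fintype.card {x : ι → F // Q x = 1} := by
  rw [mem_commutator_iff h2 hQ hn]
  unfold Phi
  rw [MonoidHom.prod_apply, Prod.mk_eq_one, MonoidHom.comp_apply, Subgroup.coe_subtype,
    det_negOne heven, levSign_negOne h2 one_ne_zero]
  obtain ⟨k, hk⟩ := even_card_level (Q := Q) h2 (one_ne_zero)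
  rw [hk]
  have e1 : (k + k) / 2 = k := by omega
  rw [e1]
  constructor
  · rintro ⟨-, h⟩
    rcases Nat.even_or_odd k with hk' | hk'
    · obtain ⟨j, rfl⟩ := hk'
      exact ⟨j, by ring⟩
    · rw [hk'.neg_one_pow] at h
      exact absurd h (by decide)
  · rintro ⟨j, hj⟩
    refine ⟨rfl, ?_⟩
    have : k = 2 * j := by omega
    rw [this, pow_mul]
    simp

/-- the element of the statement: an isometry with matrix `-1` is `negOne` -/
theorem eq_negOne_of_coe (g : ↥(Cfsg.isometryGroup F ⇑Q))
    (hg : ((g : Matrix.GeneralLinearGroup ι F) : Matrix ι ι F) = -1) : g = negOne Q := by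
  apply Subtype.ext
  apply Units.ext
  rw [hg, negOne_coe]

end Spinor

end Cfsg.Agent.Lib.Helper2
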