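import Mathlib
import Cfsg.Agent.Lib.Helper2.CentOmega4
import Cfsg.Agent.Lib.Helper2.Spinor6
import Cfsg.Agent.Lib.Helper2.Dickson4

set_option autoImplicit false

namespace Cfsg.Agent.Lib.Helper2

namespace CentO

open Matrix Cfsg.Agent.Lib.Helper2.ReflGen Cfsg.Agent.Lib.Helper2.CDG

variable {F : Type*} [Field F] [Fintype F] {ι : Type} [Fintype ι] [DecidableEq ι]
variable {Q : QuadraticForm F (ι → F)}

/-- products of two reflections in vectors of the same norm lie in `Ω` -/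
theorem refl_mul_refl_mem (hQ : (QuadraticMap.polarBilin Q).Nondegenerate)
    (hn : 5 ≤ Fintype.card ι) (u w : ι → F) (hu : Q u ≠ 0) (hw : Q w ≠ 0) (huw : Q u = Q w) :
    refl Q u hu * refl Q w hw ∈ commutator ↥(Cfsg.isometryGroup F ⇑Q) := by
  classical
  rw [← Abelianization.ker_of, MonoidHom.mem_ker, map_mul]
  by_cases h2 : (2 : F) = 0
  · rw [Dickson.ab_refl_eq₂ h2 hQ (Or.inr (by omega)) u w hu hw, ← map_mul, refl_mul_self, map_one]
  · rw [Spinor.ab_refl_eq h2 u w hu hw huw, ← map_mul, refl_mul_self, map_one]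

/-- the centre of `Ω` consists of scalars `±1` -/
theorem center_scalar (hQ : (QuadraticMap.polarBilin Q).Nondegenerate)
    (hn : 6 ≤ Fintype.card ι) (z : ↥(Cfsg.Omega F ⇑Q))
    (hz : z ∈ Subgroup.center ↥(Cfsg.Omega F ⇑Q)) :
    ∃ t : F, t * t = 1 ∧ ∀ v,
      (((z : ↥(Cfsg.isometryGroup F ⇑Q)) : Matrix.GeneralLinearGroup ι F) : Matrix ι ι F) *ᵥ v =
        t • v := by
  apply centralizer_scalar hQ hn
  intro u w hu hw hwu
  have hmem := refl_mul_refl_mem hQ (by omega) u w hu hw hwu.symm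
  have h := (Subgroup.mem_center_iff.1 hz) ⟨refl Q u hu * refl Q w hw, hmem⟩
  have h' := congrArg Subtype.val h
  exact h'.symm

end CentO

end Cfsg.Agent.Lib.Helper2
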