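import Mathlib
import Cfsg.Agent.Lib.Helper2.CentOmega5

set_option autoImplicit false

namespace Cfsg.Agent.Lib.Helper2

namespace CentO

open Matrix Cfsg.Agent.Lib.Helper2.ReflGen Cfsg.Agent.Lib.Helper2.CDG

variable {F : Type*} [Field F] [Fintype F] [DecidableEq F] {ι : Type} [Fintype ι] [DecidableEq ι]
variable {Q : QuadraticForm F (ι → F)}

theorem negOne_central (g : ↥(Cfsg.isometryGroup F ⇑Q)) :
    Spinor.negOne Q * g = g * Spinor.negOne Q := by
  apply iso_ext
  intro v
  rw [mul_mulVec, mul_mulVec, Spinor.negOne_mulVec, Spinor.negOne_mulVec, Matrix.mulVec_neg]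

/-- the centre of `Ω` is trivial unless `-1 ≠ 1` lies in `Ω` -/
theorem card_center_of_not (hQ : (QuadraticMap.polarBilin Q).Nondegenerate)
    (hn : 6 ≤ Fintype.card ι)
    (hneg : (2 : F) = 0 ∨ Spinor.negOne Q ∉ Cfsg.Omega F ⇑Q) :
    Nat.card ↥(Subgroup.center ↥(Cfsg.Omega F ⇑Q)) = 1 := by
  have hbot : Subgroup.center ↥(Cfsg.Omega F ⇑Q) = ⊥ := by
    rw [Subgroup.eq_bot_iff_forall]
    intro z hz
    obtain ⟨t, ht, hzv⟩ := center_scalar hQ hn z hz
    rcases mul_self_eq_one_iff.1 ht with rfl | rfl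
    · apply Subtype.ext
      apply iso_ext
      intro v
      rw [hzv, one_smul]
      exact (one_mulVec' v).symm
    · rcases hneg with h2 | hneg
      · have h1 : (-1 : F) = 1 := by linear_combination (-1 : F) * h2
        apply Subtype.ext
        apply iso_ext
        intro v
        rw [hzv, h1, one_smul]
        exact (one_mulVec' v).symm
      · exfalso
        apply hneg
        have h1 : (z : ↥(Cfsg.isometryGroup F ⇑Q)) = Spinor.negOne Q := by
          apply iso_ext
          intro v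
          rw [hzv, Spinor.negOne_mulVec, neg_one_smul]
        rw [← h1]
        exact z.2
  rw [hbot, Subgroup.card_bot]

/-- the centre of `Ω` has order two when `-1 ≠ 1` lies in `Ω` -/
theorem card_center_of_mem (hQ : (QuadraticMap.polarBilin Q).Nondegenerate)
    (hn : 6 ≤ Fintype.card ι) (h2 : (2 : F) ≠ 0)
    (hneg : Spinor.negOne Q ∈ Cfsg.Omega F ⇑Q) :
    Nat.card ↥(Subgroup.center ↥(Cfsg.Omega F ⇑Q)) = 2 := by
  have hc : (⟨Spinor.negOne Q, hneg⟩ : ↥(Cfsg.Omega F ⇑Q)) ∈
      Subgroup.center ↥(Cfsg.Omega F ⇑Q) := by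
    rw [Subgroup.mem_center_iff]
    intro g
    apply Subtype.ext
    exact (negOne_central g.1).symm
  rw [Nat.card_eq_two_iff]
  refine ⟨1, ⟨⟨Spinor.negOne Q, hneg⟩, hc⟩, ?_, ?_⟩
  · intro h
    have h1 : (1 : ↥(Cfsg.isometryGroup F ⇑Q)) = Spinor.negOne Q := by
      have := congrArg (fun x : ↥(Subgroup.center ↥(Cfsg.Omega F ⇑Q)) =>
        ((x : ↥(Cfsg.Omega F ⇑Q)) : ↥(Cfsg.isometryGroup F ⇑Q))) h
      exact this
    have hfr : 2 ≤ Module.finrank F (ι → F) := by
      rw [Module.finrank_fintype_fun_eq_card]; omega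
    obtain ⟨u₀, hu₀1⟩ := Cfsg.Agent.Lib.Helper5.exists_represents_one Q hQ hfr
    have h3 : u₀ = -u₀ := by
      have h4 := Spinor.negOne_mulVec Q u₀
      rw [← h1, one_mulVec'] at h4
      exact h4
    have h5 : (2 : F) • u₀ = 0 := by
      rw [two_smul]
      nth_rewrite 1 [h3]
      exact neg_add_cancel u₀
    rcases smul_eq_zero.1 h5 with h | h
    · exact h2 h
    · rw [h, QuadraticMap.map_zero] at hu₀1
      exact zero_ne_one hu₀1
  · rw [Set.eq_univ_iff_forall]
    intro z
    obtain ⟨t, ht, hzv⟩ := center_scalar hQ hn z.1 z.2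
    rcases mul_self_eq_one_iff.1 ht with rfl | rfl
    · left
      apply Subtype.ext
      apply Subtype.ext
      apply iso_ext
      intro v
      rw [hzv, one_smul]
      exact (one_mulVec' v).symm
    · right
      rw [Set.mem_singleton_iff]
      apply Subtype.ext
      apply Subtype.ext
      apply iso_ext
      intro v
      rw [hzv, neg_one_smul]
      exact (Spinor.negOne_mulVec Q v).symm

/-- the order formula for `PΩ` -/
theorem card_eq : Nat.card (Cfsg.POmega F ⇑Q) *
      Nat.card ↥(Subgroup.center ↥(Cfsg.Omega F ⇑Q)) * (Cfsg.Omega F ⇑Q).index =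
    Nat.card ↥(Cfsg.isometryGroup F ⇑Q) := by
  rw [← Subgroup.card_mul_index (Cfsg.Omega F ⇑Q),
    Subgroup.card_eq_card_quotient_mul_card_subgroup (Subgroup.center ↥(Cfsg.Omega F ⇑Q))]

/-- index four in odd characteristic (general index type) -/
theorem index_odd (h2 : (2 : F) ≠ 0) (hQ : (QuadraticMap.polarBilin Q).Nondegenerate)
    (hn : 2 ≤ Fintype.card ι) : (Cfsg.Omega F ⇑Q).index = 4 := by
  classical
  obtain ⟨f, hsurj, hinj, -⟩ := Spinor.exists_ab_structure h2 hQ hn
  have hfinj : Function.Injective f := by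
    intro p p' h
    apply hinj
    show Abelianization.lift _ (f p) = Abelianization.lift _ (f p')
    rw [h]
  have hbij : Function.Bijective f := ⟨hfinj, hsurj⟩
  show (commutator ↥(Cfsg.isometryGroup F ⇑Q)).index = 4
  rw [Subgroup.index_eq_card]
  have h1 : Nat.card (Abelianization ↥(Cfsg.isometryGroup F ⇑Q)) = Nat.card (Bool × Bool) :=
    (Nat.card_congr (Equiv.ofBijective f hbij)).symm
  have h3 : Nat.card (Bool × Bool) = 4 := by
    rw [Nat.card_eq_fintype_card]
    rfl
  rw [← h3, ← h1]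
  rfl

/-- index two in characteristic two (general index type) -/
theorem index_two (h2 : (2 : F) = 0) (hQ : (QuadraticMap.polarBilin Q).Nondegenerate)
    (hex : Fintype.card F ≠ 2 ∨ Fintype.card ι ≠ 4) (hn : 2 ≤ Fintype.card ι) :
    (Cfsg.Omega F ⇑Q).index = 2 := by
  have hc := Dickson.card_abelianization₂ h2 hQ hex hn
  show (commutator ↥(Cfsg.isometryGroup F ⇑Q)).index = 2
  rw [Subgroup.index_eq_card, ← hc]
  rfl

end CentO

end Cfsg.Agent.Lib.Helper2
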