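import Mathlib
import Cfsg.Agent.Lib.Helper2.CDGen

set_option autoImplicit false

namespace Cfsg.Agent.Lib.Helper2

namespace Siegel

open Matrix Cfsg.Agent.Lib.Helper2.ReflGen Cfsg.Agent.Lib.Helper2.CDG

variable {F : Type*} [Field F] {ι : Type} [Fintype ι] [DecidableEq ι]
variable {Q : QuadraticForm F (ι → F)}

theorem polar_of_preserves (M : Matrix ι ι F) (hM : ∀ x, Q (M *ᵥ x) = Q x) (x y : ι → F) :
    QuadraticMap.polar (⇑Q) (M *ᵥ x) (M *ᵥ y) = QuadraticMap.polar (⇑Q) x y := by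
  unfold QuadraticMap.polar
  rw [← Matrix.mulVec_add, hM, hM, hM]

theorem det_ne_zero_of_preserves (hQ : (QuadraticMap.polarBilin Q).Nondegenerate)
    (M : Matrix ι ι F) (hM : ∀ x, Q (M *ᵥ x) = Q x) : M.det ≠ 0 := by
  have hinj : Function.Injective M.mulVec := by
    intro x y hxy
    have h1 : M *ᵥ (x - y) = 0 := by rw [Matrix.mulVec_sub]; exact sub_eq_zero.2 hxy
    have h3 : x - y = 0 := by
      apply hQ.1
      intro z
      show QuadraticMap.polar (⇑Q) (x - y) z = 0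
      rw [← polar_of_preserves M hM, h1]
      simp [QuadraticMap.polar]
    exact sub_eq_zero.1 h3
  have h3 := Matrix.mulVec_injective_iff_isUnit.1 hinj
  exact ((Matrix.isUnit_iff_isUnit_det M).1 h3).ne_zero

/-- an isometry from a matrix preserving a nondegenerate form -/
noncomputable def mkIso (hQ : (QuadraticMap.polarBilin Q).Nondegenerate)
    (M : Matrix ι ι F) (hM : ∀ x, Q (M *ᵥ x) = Q x) : ↥(Cfsg.isometryGroup F ⇑Q) :=
  ⟨Matrix.GeneralLinearGroup.mkOfDetNeZero M (det_ne_zero_of_preserves hQ M hM), fun u _ => hM u⟩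

theorem mkIso_coe (hQ : (QuadraticMap.polarBilin Q).Nondegenerate)
    (M : Matrix ι ι F) (hM : ∀ x, Q (M *ᵥ x) = Q x) :
    ((mkIso hQ M hM : Matrix.GeneralLinearGroup ι F) : Matrix ι ι F) = M := rfl

theorem siegel_preserves (u v : ι → F) (hu : Q u = 0) (hv : Q v = 0)
    (huv : QuadraticMap.polar (⇑Q) u v = 0) (c : F) (x : ι → F) :
    Q (Cfsg.siegelMatrix (⇑Q) u v c *ᵥ x) = Q x := by
  rw [siegelMatrix_mulVec, map_add_smul]
  have h1 : Q (QuadraticMap.polar (⇑Q) u x • v - QuadraticMap.polar (⇑Q) v x • u) = 0 := by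
    have e : QuadraticMap.polar (⇑Q) u x • v - QuadraticMap.polar (⇑Q) v x • u =
        QuadraticMap.polar (⇑Q) u x • v + (-QuadraticMap.polar (⇑Q) v x) • u := by
      rw [neg_smul, sub_eq_add_neg]
    rw [e, map_add_smul, QuadraticMap.map_smul, hv, hu, QuadraticMap.polar_smul_left,
      QuadraticMap.polar_comm (⇑Q) v u, huv]
    simp
  rw [h1, QuadraticMap.polar_sub_right, QuadraticMap.polar_smul_right,
    QuadraticMap.polar_smul_right, QuadraticMap.polar_comm (⇑Q) x v,
    QuadraticMap.polar_comm (⇑Q) x u]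
  simp only [smul_eq_mul]
  ring

/-- the matrix of `-1` on the hyperbolic plane `⟨u, u'⟩` -/
def hmat (Q : QuadraticForm F (ι → F)) (u u' : ι → F) : Matrix ι ι F :=
  1 - (2 : F) • (Matrix.vecMulVec u (Cfsg.polarVec (⇑Q) u') +
    Matrix.vecMulVec u' (Cfsg.polarVec (⇑Q) u))

theorem hmat_mulVec (u u' x : ι → F) :
    hmat Q u u' *ᵥ x = x - (2 : F) • (QuadraticMap.polar (⇑Q) u' x • u +
      QuadraticMap.polar (⇑Q) u x • u') := by
  unfold hmat
  rw [Matrix.sub_mulVec, Matrix.one_mulVec, Matrix.smul_mulVec, Matrix.add_mulVec,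
    vecMulVec_polarVec_mulVec, vecMulVec_polarVec_mulVec]

theorem hmat_preserves (u u' : ι → F) (hu : Q u = 0) (hu' : Q u' = 0)
    (huu' : QuadraticMap.polar (⇑Q) u u' = 1) (x : ι → F) :
    Q (hmat Q u u' *ᵥ x) = Q x := by
  rw [hmat_mulVec]
  have e : x - (2 : F) • (QuadraticMap.polar (⇑Q) u' x • u + QuadraticMap.polar (⇑Q) u x • u') =
      x + (-2 : F) • (QuadraticMap.polar (⇑Q) u' x • u + QuadraticMap.polar (⇑Q) u x • u') := by
    rw [neg_smul, sub_eq_add_neg]
  rw [e, map_add_smul]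
  have h1 : Q (QuadraticMap.polar (⇑Q) u' x • u + QuadraticMap.polar (⇑Q) u x • u') =
      QuadraticMap.polar (⇑Q) u' x * QuadraticMap.polar (⇑Q) u x := by
    rw [map_add_smul, QuadraticMap.map_smul, hu, hu', QuadraticMap.polar_smul_left, huu']
    simp only [smul_eq_mul]
    ring
  rw [h1, QuadraticMap.polar_add_right, QuadraticMap.polar_smul_right,
    QuadraticMap.polar_smul_right, QuadraticMap.polar_comm (⇑Q) x u,
    QuadraticMap.polar_comm (⇑Q) x u']
  simp only [smul_eq_mul]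
  ring

end Siegel

end Cfsg.Agent.Lib.Helper2
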