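import Mathlib
import Cfsg.Agent.Lib.Helper2.Siegel

set_option autoImplicit false

namespace Cfsg.Agent.Lib.Helper2

namespace Siegel

open Matrix Cfsg.Agent.Lib.Helper2.ReflGen Cfsg.Agent.Lib.Helper2.CDG

variable {F : Type*} [Field F] {ι : Type} [Fintype ι] [DecidableEq ι]
variable {Q : QuadraticForm F (ι → F)}

theorem polar_self_zero (u : ι → F) (hu : Q u = 0) : QuadraticMap.polar (⇑Q) u u = 0 := by
  rw [polar_self, hu, mul_zero]

/-- degenerate case: the Siegel matrix is the identity -/
theorem siegel_trivial (hQ : (QuadraticMap.polarBilin Q).Nondegenerate) (u v : ι → F)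
    (h : ∀ w, QuadraticMap.polar (⇑Q) v w = 0 → QuadraticMap.polar (⇑Q) u w = 0) (x : ι → F) :
    QuadraticMap.polar (⇑Q) u x • v - QuadraticMap.polar (⇑Q) v x • u = 0 := by
  by_cases hv0 : ∀ w, QuadraticMap.polar (⇑Q) v w = 0
  · have hv : v = 0 := hQ.1 v hv0
    have hu : u = 0 := hQ.1 u (fun w => h w (hv0 w))
    rw [hv, hu]
    simp
  · push Not at hv0
    obtain ⟨x₀, hx₀⟩ := hv0
    obtain ⟨t, ht⟩ : ∃ t, t = QuadraticMap.polar (⇑Q) u x₀ / QuadraticMap.polar (⇑Q) v x₀ :=
      ⟨_, rfl⟩
    have hux : ∀ y, QuadraticMap.polar (⇑Q) u y = t * QuadraticMap.polar (⇑Q) v y := by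
      intro y
      have h1 : QuadraticMap.polar (⇑Q) v
          (y - (QuadraticMap.polar (⇑Q) v y / QuadraticMap.polar (⇑Q) v x₀) • x₀) = 0 := by
        rw [QuadraticMap.polar_sub_right, QuadraticMap.polar_smul_right, smul_eq_mul]
        field_simp
        ring
      have h3 := h _ h1
      rw [QuadraticMap.polar_sub_right, QuadraticMap.polar_smul_right, smul_eq_mul] at h3
      rw [ht, sub_eq_zero.1 h3]
      ring
    have hutv : u = t • v := by
      have h1 : u - t • v = 0 := by
        apply hQ.1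
        intro y
        show QuadraticMap.polar (⇑Q) (u - t • v) y = 0
        rw [QuadraticMap.polar_sub_left, QuadraticMap.polar_smul_left, hux y, smul_eq_mul, sub_self]
      exact sub_eq_zero.1 h1
    rw [hux x, hutv, smul_smul, mul_comm, sub_self]

theorem iso_mulVec_inj {g h : ↥(Cfsg.isometryGroup F ⇑Q)}
    (hgh : ∀ x, ((g : Matrix.GeneralLinearGroup ι F) : Matrix ι ι F) *ᵥ x =
      ((h : Matrix.GeneralLinearGroup ι F) : Matrix ι ι F) *ᵥ x) : g = h := iso_ext hgh

/-- a Siegel transformation is a commutator in the isometry group (odd characteristic) -/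
theorem siegel_mem_commutatorSet (h2 : (2 : F) ≠ 0)
    (hQ : (QuadraticMap.polarBilin Q).Nondegenerate) (u v : ι → F) (hu : Q u = 0) (hv : Q v = 0)
    (huv : QuadraticMap.polar (⇑Q) u v = 0) (c : F) (g : ↥(Cfsg.isometryGroup F ⇑Q))
    (hg : ((g : Matrix.GeneralLinearGroup ι F) : Matrix ι ι F) = Cfsg.siegelMatrix (⇑Q) u v c) :
    g ∈ commutatorSet ↥(Cfsg.isometryGroup F ⇑Q) := by
  by_cases hcase : ∃ w, QuadraticMap.polar (⇑Q) u w ≠ 0 ∧ QuadraticMap.polar (⇑Q) v w = 0
  · obtain ⟨w, hw1, hw2⟩ := hcase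
    obtain ⟨w₁, hw₁⟩ : ∃ w₁, w₁ = (QuadraticMap.polar (⇑Q) u w)⁻¹ • w := ⟨_, rfl⟩
    have hw₁u : QuadraticMap.polar (⇑Q) u w₁ = 1 := by
      rw [hw₁, QuadraticMap.polar_smul_right, smul_eq_mul, inv_mul_cancel₀ hw1]
    have hw₁v : QuadraticMap.polar (⇑Q) v w₁ = 0 := by
      rw [hw₁, QuadraticMap.polar_smul_right, hw2, smul_zero]
    obtain ⟨u', hu'⟩ : ∃ u', u' = w₁ + (-(Q w₁)) • u := ⟨_, rfl⟩
    have hQu' : Q u' = 0 := by
      rw [hu', map_add_smul, hu, QuadraticMap.polar_comm (⇑Q) w₁ u, hw₁u]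
      ring
    have huu' : QuadraticMap.polar (⇑Q) u u' = 1 := by
      rw [hu', QuadraticMap.polar_add_right, QuadraticMap.polar_smul_right, polar_self_zero u hu,
        hw₁u, smul_zero, add_zero]
    have hvu' : QuadraticMap.polar (⇑Q) v u' = 0 := by
      rw [hu', QuadraticMap.polar_add_right, QuadraticMap.polar_smul_right, hw₁v,
        QuadraticMap.polar_comm (⇑Q) v u, huv, smul_zero, add_zero]
    obtain ⟨c', hc'⟩ : ∃ c' : F, c' = -(2⁻¹ * c) := ⟨_, rfl⟩
    have hcc' : 2 * c' = -c := by rw [hc']; field_simp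
    let h : ↥(Cfsg.isometryGroup F ⇑Q) := mkIso hQ (hmat Q u u') (hmat_preserves u u' hu hQu' huu')
    let t : ↥(Cfsg.isometryGroup F ⇑Q) :=
      mkIso hQ (Cfsg.siegelMatrix (⇑Q) u v c') (siegel_preserves u v hu hv huv c')
    have hh : ∀ x, ((h : Matrix.GeneralLinearGroup ι F) : Matrix ι ι F) *ᵥ x =
        x - (2 : F) • (QuadraticMap.polar (⇑Q) u' x • u + QuadraticMap.polar (⇑Q) u x • u') :=
      fun x => hmat_mulVec u u' x
    have ht : ∀ x, ((t : Matrix.GeneralLinearGroup ι F) : Matrix ι ι F) *ᵥ x =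
        x + c' • (QuadraticMap.polar (⇑Q) u x • v - QuadraticMap.polar (⇑Q) v x • u) :=
      fun x => siegelMatrix_mulVec Q u v c' x
    have hgx : ∀ x, ((g : Matrix.GeneralLinearGroup ι F) : Matrix ι ι F) *ᵥ x =
        x + c • (QuadraticMap.polar (⇑Q) u x • v - QuadraticMap.polar (⇑Q) v x • u) := by
      intro x
      rw [hg]
      exact siegelMatrix_mulVec Q u v c x
    have hhu : ((h : Matrix.GeneralLinearGroup ι F) : Matrix ι ι F) *ᵥ u = -u := by
      rw [hh, polar_self_zero u hu, QuadraticMap.polar_comm (⇑Q) u' u, huu']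
      module
    have hhv : ((h : Matrix.GeneralLinearGroup ι F) : Matrix ι ι F) *ᵥ v = v := by
      rw [hh, huv, QuadraticMap.polar_comm (⇑Q) u' v, hvu']
      module
    have hpu : ∀ x, QuadraticMap.polar (⇑Q) u
        (((h : Matrix.GeneralLinearGroup ι F) : Matrix ι ι F) *ᵥ x) =
        -QuadraticMap.polar (⇑Q) u x := by
      intro x
      rw [hh, QuadraticMap.polar_sub_right, QuadraticMap.polar_smul_right,
        QuadraticMap.polar_add_right, QuadraticMap.polar_smul_right,
        QuadraticMap.polar_smul_right, polar_self_zero u hu, huu']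
      simp only [smul_eq_mul]
      ring
    have hpv : ∀ x, QuadraticMap.polar (⇑Q) v
        (((h : Matrix.GeneralLinearGroup ι F) : Matrix ι ι F) *ᵥ x) =
        QuadraticMap.polar (⇑Q) v x := by
      intro x
      rw [hh, QuadraticMap.polar_sub_right, QuadraticMap.polar_smul_right,
        QuadraticMap.polar_add_right, QuadraticMap.polar_smul_right,
        QuadraticMap.polar_smul_right, QuadraticMap.polar_comm (⇑Q) v u, huv, hvu']
      simp only [smul_eq_mul]
      ring
    have hkey : h * t = g * t * h := by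
      apply iso_ext
      intro x
      rw [mul_mulVec, mul_mulVec, mul_mulVec, ht x, Matrix.mulVec_add, Matrix.mulVec_smul,
        Matrix.mulVec_sub, Matrix.mulVec_smul, Matrix.mulVec_smul, hhu, hhv, ht, hgx, hpu, hpv]
      set y := ((h : Matrix.GeneralLinearGroup ι F) : Matrix ι ι F) *ᵥ x with hy
      rw [QuadraticMap.polar_add_right, QuadraticMap.polar_add_right,
        QuadraticMap.polar_smul_right, QuadraticMap.polar_smul_right,
        QuadraticMap.polar_sub_right, QuadraticMap.polar_sub_right,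
        QuadraticMap.polar_smul_right, QuadraticMap.polar_smul_right,
        QuadraticMap.polar_smul_right, QuadraticMap.polar_smul_right,
        polar_self_zero u hu, polar_self_zero v hv, huv, QuadraticMap.polar_comm (⇑Q) v u, huv,
        hpu, hpv]
      simp only [smul_eq_mul, mul_zero, sub_zero, add_zero]
      have e : c = -(2 * c') := by rw [hcc']; ring
      rw [e]
      module
    refine ⟨h, t, ?_⟩
    rw [commutatorElement_def, hkey]
    group
  · push Not at hcase
    have hg1 : g = 1 := by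
      apply iso_ext
      intro x
      rw [one_mulVec', hg, siegelMatrix_mulVec,
        siegel_trivial hQ u v (fun w hw => by
          by_contra hne
          exact hcase w hne hw) x, smul_zero, add_zero]
    rw [hg1]
    exact one_mem_commutatorSet _

end Siegel

end Cfsg.Agent.Lib.Helper2
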