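import Mathlib
import Cfsg.Agent.Lib.Helper2.Siegel2
import Cfsg.Agent.Lib.Helper5.QuadFin

set_option autoImplicit false

namespace Cfsg.Agent.Lib.Helper2

namespace HypTrans

open Matrix Cfsg.Agent.Lib.Helper2.ReflGen Cfsg.Agent.Lib.Helper2.CDG

variable {F : Type*} [Field F] {ι : Type} [Fintype ι] [DecidableEq ι]
variable {Q : QuadraticForm F (ι → F)}

theorem polar_self_sing (u : ι → F) (hu : Q u = 0) : QuadraticMap.polar (⇑Q) u u = 0 := by
  rw [polar_self, hu, mul_zero]

/-- one reflection maps `e` to `e'` when they are singular and not orthogonal -/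
theorem exists_map_of_polar_ne (e e' : ι → F) (he : Q e = 0) (he' : Q e' = 0)
    (hp : QuadraticMap.polar (⇑Q) e e' ≠ 0) :
    ∃ g : ↥(Cfsg.isometryGroup F ⇑Q),
      ((g : Matrix.GeneralLinearGroup ι F) : Matrix ι ι F) *ᵥ e = e' := by
  have hd : Q (e - e') = -QuadraticMap.polar (⇑Q) e e' := by
    have h1 : e - e' = e + (-1 : F) • e' := by rw [neg_one_smul, sub_eq_add_neg]
    rw [h1, map_add_smul, he, he']
    ring
  have hd0 : Q (e - e') ≠ 0 := by rw [hd]; exact neg_ne_zero.2 hp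
  refine ⟨refl Q (e - e') hd0, ?_⟩
  rw [refl_mulVec, QuadraticMap.polar_sub_left, polar_self_sing e he,
    QuadraticMap.polar_comm (⇑Q) e' e, hd]
  have : (-QuadraticMap.polar (⇑Q) e e')⁻¹ * (0 - QuadraticMap.polar (⇑Q) e e') = 1 := by
    field_simp
    ring
  rw [this, one_smul]
  abel

/-- a singular vector not orthogonal to two given singular vectors -/
theorem exists_bridge (hQ : (QuadraticMap.polarBilin Q).Nondegenerate) (e e' : ι → F)
    (he0 : e ≠ 0) (he'0 : e' ≠ 0) (he : Q e = 0) (he' : Q e' = 0)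
    (hp : QuadraticMap.polar (⇑Q) e e' = 0) :
    ∃ x : ι → F, Q x = 0 ∧ QuadraticMap.polar (⇑Q) e x ≠ 0 ∧ QuadraticMap.polar (⇑Q) x e' ≠ 0 := by
  obtain ⟨f, hf1, hf⟩ := Cfsg.Agent.Lib.Helper5.exists_partner Q hQ he0 he
  by_cases h : QuadraticMap.polar (⇑Q) f e' = 0
  · obtain ⟨f₂, hf₂1, hf₂⟩ := Cfsg.Agent.Lib.Helper5.exists_partner Q hQ he'0 he'
    obtain ⟨α, hα⟩ : ∃ α, α = QuadraticMap.polar (⇑Q) f₂ f := ⟨_, rfl⟩
    obtain ⟨β, hβ⟩ : ∃ β, β = QuadraticMap.polar (⇑Q) f₂ e := ⟨_, rfl⟩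
    have hee := polar_self_sing e he
    have he'e' := polar_self_sing e' he'
    have hff := polar_self_sing f hf
    have hf₂f₂ := polar_self_sing f₂ hf₂
    have hfe : QuadraticMap.polar (⇑Q) f e = 1 := by rw [QuadraticMap.polar_comm]; exact hf1
    have he'e : QuadraticMap.polar (⇑Q) e' e = 0 := by rw [QuadraticMap.polar_comm]; exact hp
    have he'f : QuadraticMap.polar (⇑Q) e' f = 0 := by rw [QuadraticMap.polar_comm]; exact h
    have hf₂e' : QuadraticMap.polar (⇑Q) f₂ e' = 1 := by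
      rw [QuadraticMap.polar_comm]; exact hf₂1
    have hef₂ : QuadraticMap.polar (⇑Q) e f₂ = β := by rw [QuadraticMap.polar_comm, hβ]
    have hff₂ : QuadraticMap.polar (⇑Q) f f₂ = α := by rw [QuadraticMap.polar_comm, hα]
    -- x = f + (f₂ - α e - β f + αβ e')
    refine ⟨f + (f₂ - α • e - β • f + (α * β) • e'), ?_, ?_, ?_⟩
    · have h1 : f + (f₂ - α • e - β • f + (α * β) • e') =
          ((1 - β) • f + (1 : F) • f₂) + ((-α) • e + (α * β) • e') := by
        module
      rw [h1, QuadraticMap.map_add (⇑Q), Cfsg.Agent.Lib.Helper5.map_lin2,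
        Cfsg.Agent.Lib.Helper5.map_lin2, hf, hf₂, he, he', hff₂, hp]
      simp only [QuadraticMap.polar_add_left, QuadraticMap.polar_add_right,
        QuadraticMap.polar_smul_left, QuadraticMap.polar_smul_right, smul_eq_mul, hfe, h,
        ← hα, ← hβ, hf₂e']
      ring
    · simp only [QuadraticMap.polar_add_right, QuadraticMap.polar_sub_right,
        QuadraticMap.polar_smul_right, smul_eq_mul, hf1, hee, hp, hef₂]
      intro h0
      have : (1 : F) = 0 := by linear_combination h0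
      exact one_ne_zero this
    · simp only [QuadraticMap.polar_add_left, QuadraticMap.polar_sub_left,
        QuadraticMap.polar_smul_left, smul_eq_mul, h, hf₂e', hp, he'e']
      intro h0
      have : (1 : F) = 0 := by linear_combination h0
      exact one_ne_zero this
  · exact ⟨f, hf, by rw [hf1]; exact one_ne_zero, h⟩

/-- the isometry group is transitive on nonzero singular vectors -/
theorem exists_map_singular (hQ : (QuadraticMap.polarBilin Q).Nondegenerate) (e e' : ι → F)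
    (he0 : e ≠ 0) (he'0 : e' ≠ 0) (he : Q e = 0) (he' : Q e' = 0) :
    ∃ g : ↥(Cfsg.isometryGroup F ⇑Q),
      ((g : Matrix.GeneralLinearGroup ι F) : Matrix ι ι F) *ᵥ e = e' := by
  by_cases hp : QuadraticMap.polar (⇑Q) e e' = 0
  · obtain ⟨x, hx, h1, h3⟩ := exists_bridge hQ e e' he0 he'0 he he' hp
    obtain ⟨g₁, hg₁⟩ := exists_map_of_polar_ne e x he hx h1
    obtain ⟨g₂, hg₂⟩ := exists_map_of_polar_ne x e' hx he' h3
    refine ⟨g₂ * g₁, ?_⟩
    rw [mul_mulVec, hg₁, hg₂]
  · exact exists_map_of_polar_ne e e' he he' hp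

/-- the stabilizer of a singular vector is transitive on its hyperbolic partners -/
theorem exists_map_partner (hQ : (QuadraticMap.polarBilin Q).Nondegenerate) (e f f' : ι → F)
    (he : Q e = 0) (hf : Q f = 0) (hf' : Q f' = 0)
    (hef : QuadraticMap.polar (⇑Q) e f = 1) (hef' : QuadraticMap.polar (⇑Q) e f' = 1) :
    ∃ g : ↥(Cfsg.isometryGroup F ⇑Q),
      ((g : Matrix.GeneralLinearGroup ι F) : Matrix ι ι F) *ᵥ e = e ∧
      ((g : Matrix.GeneralLinearGroup ι F) : Matrix ι ι F) *ᵥ f = f' := by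
  have hd : Q (f' - f) = -QuadraticMap.polar (⇑Q) f f' := by
    have h1 : f' - f = f' + (-1 : F) • f := by rw [neg_one_smul, sub_eq_add_neg]
    rw [h1, map_add_smul, hf, hf', QuadraticMap.polar_comm (⇑Q) f' f]
    ring
  have hde : QuadraticMap.polar (⇑Q) (f' - f) e = 0 := by
    rw [QuadraticMap.polar_sub_left, QuadraticMap.polar_comm (⇑Q) f' e,
      QuadraticMap.polar_comm (⇑Q) f e, hef, hef', sub_self]
  have hdf : QuadraticMap.polar (⇑Q) (f' - f) f = QuadraticMap.polar (⇑Q) f f' := by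
    rw [QuadraticMap.polar_sub_left, polar_self_sing f hf, sub_zero, QuadraticMap.polar_comm]
  by_cases h0 : Q (f' - f) = 0
  · -- Siegel transformation
    have hed : QuadraticMap.polar (⇑Q) e (f' - f) = 0 := by
      rw [QuadraticMap.polar_comm]; exact hde
    refine ⟨Siegel.mkIso hQ (Cfsg.siegelMatrix (⇑Q) e (f' - f) 1)
      (Siegel.siegel_preserves e (f' - f) he h0 hed 1), ?_, ?_⟩
    · rw [Siegel.mkIso_coe, siegelMatrix_mulVec, polar_self_sing e he, hde]
      simp
    · rw [Siegel.mkIso_coe, siegelMatrix_mulVec, hef, hdf]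
      have : QuadraticMap.polar (⇑Q) f f' = 0 := by
        rw [hd] at h0
        exact neg_eq_zero.1 h0
      rw [this]
      simp
  · refine ⟨refl Q (f' - f) h0, ?_, ?_⟩
    · rw [refl_mulVec, hde, mul_zero, zero_smul, sub_zero]
    · rw [refl_mulVec, hdf, hd]
      have hp : QuadraticMap.polar (⇑Q) f f' ≠ 0 := by
        intro h
        apply h0
        rw [hd, h, neg_zero]
      have : (-QuadraticMap.polar (⇑Q) f f')⁻¹ * QuadraticMap.polar (⇑Q) f f' = -1 := by
        field_simp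
      rw [this, neg_one_smul]
      abel

/-- the isometry group is transitive on hyperbolic pairs -/
theorem exists_map_pair (hQ : (QuadraticMap.polarBilin Q).Nondegenerate) (e f e' f' : ι → F)
    (he : Q e = 0) (hf : Q f = 0) (he' : Q e' = 0) (hf' : Q f' = 0)
    (hef : QuadraticMap.polar (⇑Q) e f = 1) (hef' : QuadraticMap.polar (⇑Q) e' f' = 1) :
    ∃ g : ↥(Cfsg.isometryGroup F ⇑Q),
      ((g : Matrix.GeneralLinearGroup ι F) : Matrix ι ι F) *ᵥ e = e' ∧
      ((g : Matrix.GeneralLinearGroup ι F) : Matrix ι ι F) *ᵥ f = f' := by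
  have he0 : e ≠ 0 := by
    rintro rfl
    rw [QuadraticMap.polar_zero_left] at hef
    exact zero_ne_one hef
  have he'0 : e' ≠ 0 := by
    rintro rfl
    rw [QuadraticMap.polar_zero_left] at hef'
    exact zero_ne_one hef'
  obtain ⟨g₁, hg₁⟩ := exists_map_singular hQ e e' he0 he'0 he he'
  have h1 : Q (((g₁ : Matrix.GeneralLinearGroup ι F) : Matrix ι ι F) *ᵥ f) = 0 := by
    rw [iso_Q, hf]
  have h3 : QuadraticMap.polar (⇑Q) e'
      (((g₁ : Matrix.GeneralLinearGroup ι F) : Matrix ι ι F) *ᵥ f) = 1 := by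
    rw [← hg₁, iso_polar, hef]
  obtain ⟨g₂, hg₂e, hg₂f⟩ := exists_map_partner hQ e' _ f' he' h1 hf' h3 hef'
  refine ⟨g₂ * g₁, ?_, ?_⟩
  · rw [mul_mulVec, hg₁, hg₂e]
  · rw [mul_mulVec, hg₂f]

end HypTrans

end Cfsg.Agent.Lib.Helper2
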