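import Mathlib
import Cfsg.Agent.Lib.Helper2.HypTrans

set_option autoImplicit false

namespace Cfsg.Agent.Lib.Helper2

namespace HypExt

open Matrix Cfsg.Agent.Lib.Helper2.ReflGen Cfsg.Agent.Lib.Helper2.CDG

variable {F : Type*} [Field F] {κ : Type} [Fintype κ] [DecidableEq κ]

/-- the orthogonal sum of a hyperbolic plane and `Q'` -/
noncomputable def HQ (Q' : QuadraticForm F (κ → F)) : QuadraticForm F (Fin 2 ⊕ κ → F) :=
  QuadraticMap.linMulLin (LinearMap.proj (Sum.inl 0)) (LinearMap.proj (Sum.inl 1)) +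
    Q'.comp (LinearMap.funLeft F F Sum.inr)

/-- the last coordinates -/
def tl (v : Fin 2 ⊕ κ → F) : κ → F := fun k => v (Sum.inr k)

omit [Fintype κ] [DecidableEq κ] in
theorem tl_add (v v' : Fin 2 ⊕ κ → F) : tl (v + v') = tl v + tl v' := rfl

omit [Fintype κ] [DecidableEq κ] in
theorem tl_smul (c : F) (v : Fin 2 ⊕ κ → F) : tl (c • v) = c • tl v := rfl

omit [Fintype κ] [DecidableEq κ] in
theorem HQ_apply (Q' : QuadraticForm F (κ → F)) (v : Fin 2 ⊕ κ → F) :
    HQ Q' v = v (Sum.inl 0) * v (Sum.inl 1) + Q' (tl v) := rfl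

omit [Fintype κ] [DecidableEq κ] in
theorem HQ_polar (Q' : QuadraticForm F (κ → F)) (v v' : Fin 2 ⊕ κ → F) :
    QuadraticMap.polar (⇑(HQ Q')) v v' = v (Sum.inl 0) * v' (Sum.inl 1) +
      v' (Sum.inl 0) * v (Sum.inl 1) + QuadraticMap.polar (⇑Q') (tl v) (tl v') := by
  unfold QuadraticMap.polar
  rw [HQ_apply, HQ_apply, HQ_apply, tl_add]
  simp only [Pi.add_apply]
  ring

/-- assemble a vector -/
def mk3 (x y : F) (w : κ → F) : Fin 2 ⊕ κ → F := Sum.elim ![x, y] w

omit [Fintype κ] [DecidableEq κ] in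
@[simp] theorem mk3_zero (x y : F) (w : κ → F) : mk3 x y w (Sum.inl 0) = x := rfl
omit [Fintype κ] [DecidableEq κ] in
@[simp] theorem mk3_one (x y : F) (w : κ → F) : mk3 x y w (Sum.inl 1) = y := rfl
omit [Fintype κ] [DecidableEq κ] in
@[simp] theorem mk3_inr (x y : F) (w : κ → F) (k : κ) : mk3 x y w (Sum.inr k) = w k := rfl
omit [Fintype κ] [DecidableEq κ] in
@[simp] theorem tl_mk3 (x y : F) (w : κ → F) : tl (mk3 x y w) = w := rfl

omit [Fintype κ] [DecidableEq κ] in
theorem mk3_eta (v : Fin 2 ⊕ κ → F) : mk3 (v (Sum.inl 0)) (v (Sum.inl 1)) (tl v) = v := by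
  funext i
  rcases i with i | k
  · fin_cases i
    · rfl
    · rfl
  · rfl

omit [Fintype κ] [DecidableEq κ] in
theorem ext3 {v v' : Fin 2 ⊕ κ → F} (h0 : v (Sum.inl 0) = v' (Sum.inl 0))
    (h1 : v (Sum.inl 1) = v' (Sum.inl 1)) (h2 : tl v = tl v') : v = v' := by
  rw [← mk3_eta v, ← mk3_eta v', h0, h1, h2]

omit [Fintype κ] [DecidableEq κ] in
theorem HQ_nondeg (Q' : QuadraticForm F (κ → F))
    (hQ' : (QuadraticMap.polarBilin Q').Nondegenerate) :
    (QuadraticMap.polarBilin (HQ Q')).Nondegenerate := by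
  have hleft : ∀ v : Fin 2 ⊕ κ → F,
      (∀ v', QuadraticMap.polar (⇑(HQ Q')) v v' = 0) → v = 0 := by
    intro v hv
    have h0 := hv (mk3 0 1 0)
    have h1 := hv (mk3 1 0 0)
    rw [HQ_polar] at h0 h1
    simp only [mk3_zero, mk3_one, tl_mk3, QuadraticMap.polar_zero_right] at h0 h1
    have h2 : tl v = 0 := by
      apply hQ'.1
      intro w'
      have := hv (mk3 0 0 w')
      rw [HQ_polar] at this
      simp only [mk3_zero, mk3_one, tl_mk3] at this
      show QuadraticMap.polar (⇑Q') (tl v) w' = 0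
      linear_combination this
    apply ext3
    · show v (Sum.inl 0) = 0
      linear_combination h0
    · show v (Sum.inl 1) = 0
      linear_combination h1
    · exact h2
  constructor
  · intro v hv
    exact hleft v hv
  · intro v hv
    apply hleft v
    intro v'
    rw [QuadraticMap.polar_comm]
    exact hv v'

end HypExt

end Cfsg.Agent.Lib.Helper2
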