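import Mathlib
import Cfsg.Agent.Lib.Helper2.HypExt1

set_option autoImplicit false

namespace Cfsg.Agent.Lib.Helper2

namespace HypExt

open Matrix Cfsg.Agent.Lib.Helper2.ReflGen Cfsg.Agent.Lib.Helper2.CDG

variable {F : Type*} [Field F] {κ : Type} [Fintype κ] [DecidableEq κ]

/-- block diagonal embedding -/
def emb (A : Matrix κ κ F) : Matrix (Fin 2 ⊕ κ) (Fin 2 ⊕ κ) F := Matrix.fromBlocks 1 0 0 A

theorem emb_mulVec_inl (A : Matrix κ κ F) (v : Fin 2 ⊕ κ → F) (i : Fin 2) :
    (emb A *ᵥ v) (Sum.inl i) = v (Sum.inl i) := by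
  unfold emb
  simp [Matrix.mulVec, dotProduct, Fintype.sum_sum_type, Matrix.one_apply]

theorem tl_emb_mulVec (A : Matrix κ κ F) (v : Fin 2 ⊕ κ → F) :
    tl (emb A *ᵥ v) = A *ᵥ tl v := by
  funext k
  unfold emb tl
  simp [Matrix.mulVec, dotProduct, Fintype.sum_sum_type]

theorem emb_preserves (Q' : QuadraticForm F (κ → F)) (A : Matrix κ κ F)
    (hA : ∀ w, Q' (A *ᵥ w) = Q' w) (v : Fin 2 ⊕ κ → F) : HQ Q' (emb A *ᵥ v) = HQ Q' v := by
  rw [HQ_apply, HQ_apply, emb_mulVec_inl, emb_mulVec_inl, tl_emb_mulVec, hA]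

theorem emb_injective : Function.Injective (emb : Matrix κ κ F → _) := by
  intro A B h
  ext k l
  have := congrFun (congrFun h (Sum.inr k)) (Sum.inr l)
  unfold emb at this
  simpa using this

theorem emb_mulVec_e (A : Matrix κ κ F) (x y : F) : emb A *ᵥ mk3 x y 0 = mk3 x y 0 := by
  apply ext3
  · rw [emb_mulVec_inl]
  · rw [emb_mulVec_inl]
  · rw [tl_emb_mulVec, tl_mk3, Matrix.mulVec_zero]

/-- the structure of a matrix preserving the form and fixing the standard hyperbolic pair -/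
theorem eq_emb_cut (Q' : QuadraticForm F (κ → F)) (M : Matrix (Fin 2 ⊕ κ) (Fin 2 ⊕ κ) F)
    (hM : ∀ v, HQ Q' (M *ᵥ v) = HQ Q' v) (he : M *ᵥ mk3 1 0 0 = mk3 1 0 0)
    (hf : M *ᵥ mk3 0 1 0 = mk3 0 1 0) :
    (∀ w, Q' (M.submatrix Sum.inr Sum.inr *ᵥ w) = Q' w) ∧
      M = emb (M.submatrix Sum.inr Sum.inr) := by
  have hpol := Siegel.polar_of_preserves (Q := HQ Q') M hM
  have h0 : ∀ v, (M *ᵥ v) (Sum.inl 0) = v (Sum.inl 0) := by
    intro v
    have := hpol (mk3 0 1 0) v
    rw [hf, HQ_polar, HQ_polar] at this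
    simp only [mk3_zero, mk3_one, tl_mk3, QuadraticMap.polar_zero_left] at this
    linear_combination this
  have h1 : ∀ v, (M *ᵥ v) (Sum.inl 1) = v (Sum.inl 1) := by
    intro v
    have := hpol (mk3 1 0 0) v
    rw [he, HQ_polar, HQ_polar] at this
    simp only [mk3_zero, mk3_one, tl_mk3, QuadraticMap.polar_zero_left] at this
    linear_combination this
  have hinl : ∀ (v : Fin 2 ⊕ κ → F) (i : Fin 2), (M *ᵥ v) (Sum.inl i) = v (Sum.inl i) := by
    intro v i
    fin_cases i
    · exact h0 v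
    · exact h1 v
  have hcol : ∀ j : Fin 2 ⊕ κ, M *ᵥ Pi.single j 1 = fun i => M i j := by
    intro j
    funext i
    simp [Matrix.mulVec, dotProduct, Pi.single_apply]
  have hs0 : (Pi.single (Sum.inl 0) 1 : Fin 2 ⊕ κ → F) = mk3 1 0 0 := by
    apply ext3
    · simp
    · simp
    · funext k; simp [tl]
  have hs1 : (Pi.single (Sum.inl 1) 1 : Fin 2 ⊕ κ → F) = mk3 0 1 0 := by
    apply ext3
    · simp
    · simp
    · funext k; simp [tl]
  have hstruct : M = emb (M.submatrix Sum.inr Sum.inr) := by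
    ext a b
    rcases a with i | k <;> rcases b with j | l
    · have := hinl (Pi.single (Sum.inl j) 1) i
      rw [hcol] at this
      have this' : M (Sum.inl i) (Sum.inl j) =
        (Pi.single (Sum.inl j) 1 : Fin 2 ⊕ κ → F) (Sum.inl i) := this
      rw [this']
      unfold emb
      simp [Pi.single_apply, Matrix.one_apply, eq_comm]
    · have := hinl (Pi.single (Sum.inr l) 1) i
      rw [hcol] at this
      have this' : M (Sum.inl i) (Sum.inr l) =
        (Pi.single (Sum.inr l) 1 : Fin 2 ⊕ κ → F) (Sum.inl i) := this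
      rw [this']
      unfold emb
      simp
    · unfold emb
      simp only [Matrix.fromBlocks_apply₂₁, Matrix.zero_apply]
      fin_cases j
      · have := congrFun he (Sum.inr k)
        rw [← hs0, hcol] at this
        simpa using this
      · have := congrFun hf (Sum.inr k)
        rw [← hs1, hcol] at this
        simpa using this
    · unfold emb
      simp
  refine ⟨?_, hstruct⟩
  intro w
  have h3 := hM (mk3 0 0 w)
  rw [HQ_apply, HQ_apply, h0, h1] at h3
  simp only [mk3_zero, mk3_one, tl_mk3, mul_zero, zero_add] at h3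
  rw [← h3]
  congr 1
  conv_rhs => rw [hstruct]
  rw [tl_emb_mulVec, tl_mk3]

end HypExt

end Cfsg.Agent.Lib.Helper2
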