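import Mathlib
import Cfsg.Agent.Lib.Helper2.HypExt2
import Cfsg.Agent.Lib.Helper1.StabCard

set_option autoImplicit false

namespace Cfsg.Agent.Lib.Helper2

namespace HypExt

open Matrix Cfsg.Agent.Lib.Helper2.ReflGen Cfsg.Agent.Lib.Helper2.CDG

/-- a wrapped copy of the space of vectors, to carry the action. -/
@[ext] structure VecW (ι : Type) (F : Type*) where
  v : ι → F

/-- the action of an isometry group on vectors. -/
@[reducible] def vecAction {ι : Type} [Fintype ι] [DecidableEq ι] {F : Type*} [Field F]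
    (Q : (ι → F) → F) : MulAction ↥(Cfsg.isometryGroup F Q) (VecW ι F) where
  smul g w := ⟨((g : Matrix.GeneralLinearGroup ι F) : Matrix ι ι F) *ᵥ w.v⟩
  one_smul w := by
    change (⟨(((1 : ↥(Cfsg.isometryGroup F Q)) : Matrix.GeneralLinearGroup ι F) :
      Matrix ι ι F) *ᵥ w.v⟩ : VecW ι F) = w
    simp
  mul_smul g h w := by
    change (⟨(((g * h : ↥(Cfsg.isometryGroup F Q)) : Matrix.GeneralLinearGroup ι F) :
      Matrix ι ι F) *ᵥ w.v⟩ : VecW ι F) =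
      ⟨((g : Matrix.GeneralLinearGroup ι F) : Matrix ι ι F) *ᵥ
        (((h : Matrix.GeneralLinearGroup ι F) : Matrix ι ι F) *ᵥ w.v)⟩
    rw [Subgroup.coe_mul, Units.val_mul, Matrix.mulVec_mulVec]

attribute [local instance] vecAction

theorem smul_def {ι : Type} [Fintype ι] [DecidableEq ι] {F : Type*} [Field F]
    (Q : (ι → F) → F) (g : ↥(Cfsg.isometryGroup F Q)) (w : VecW ι F) :
    g • w = ⟨((g : Matrix.GeneralLinearGroup ι F) : Matrix ι ι F) *ᵥ w.v⟩ := rfl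

variable {F : Type*} [Field F] {κ : Type} [Fintype κ] [DecidableEq κ]

theorem HQ_e (Q' : QuadraticForm F (κ → F)) (x y : F) : HQ Q' (mk3 x y 0) = x * y := by
  rw [HQ_apply]
  simp

theorem polar_e (Q' : QuadraticForm F (κ → F)) (v : Fin 2 ⊕ κ → F) :
    QuadraticMap.polar (⇑(HQ Q')) (mk3 1 0 0) v = v (Sum.inl 1) := by
  rw [HQ_polar]
  simp

theorem orbit_e (Q' : QuadraticForm F (κ → F))
    (hQ' : (QuadraticMap.polarBilin Q').Nondegenerate) :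
    MulAction.orbit ↥(Cfsg.isometryGroup F ⇑(HQ Q')) (⟨mk3 1 0 0⟩ : VecW (Fin 2 ⊕ κ) F) =
      {w | w.v ≠ 0 ∧ HQ Q' w.v = 0} := by
  have hQ := HQ_nondeg Q' hQ'
  have he0 : (mk3 1 0 0 : Fin 2 ⊕ κ → F) ≠ 0 := by
    intro h
    have := congrFun h (Sum.inl 0)
    simp at this
  ext w
  constructor
  · rintro ⟨g, rfl⟩
    refine ⟨?_, ?_⟩
    · intro h
      have h1 : ((g : Matrix.GeneralLinearGroup (Fin 2 ⊕ κ) F) : Matrix (Fin 2 ⊕ κ) (Fin 2 ⊕ κ) F) *ᵥ mk3 1 0 0 = 0 := h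
      have h3 := iso_polar g (mk3 1 0 0) (mk3 0 1 0)
      rw [h1, QuadraticMap.polar_zero_left, polar_e] at h3
      simp at h3
    · show HQ Q' (((g : Matrix.GeneralLinearGroup (Fin 2 ⊕ κ) F) : Matrix (Fin 2 ⊕ κ) (Fin 2 ⊕ κ) F) *ᵥ mk3 1 0 0) = 0
      rw [iso_Q, HQ_e, mul_zero]
  · rintro ⟨hw0, hw⟩
    obtain ⟨g, hg⟩ := HypTrans.exists_map_singular hQ (mk3 1 0 0) w.v he0 hw0
      (by rw [HQ_e, mul_zero]) hw
    exact ⟨g, VecW.ext hg⟩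

theorem ncard_singular [Fintype F] (Q' : QuadraticForm F (κ → F)) :
    ({w | w.v ≠ 0 ∧ HQ Q' w.v = 0} : Set (VecW (Fin 2 ⊕ κ) F)).ncard =
      Nat.card {v : Fin 2 ⊕ κ → F // HQ Q' v = 0} - 1 := by
  classical
  have h1 : Nat.card {v : Fin 2 ⊕ κ → F // HQ Q' v = 0} =
      ({v | HQ Q' v = 0} : Set (Fin 2 ⊕ κ → F)).ncard := by
    rw [← Nat.card_coe_set_eq]
    rfl
  have h2 : ({v | HQ Q' v = 0} : Set (Fin 2 ⊕ κ → F)) =
      insert 0 {v | v ≠ 0 ∧ HQ Q' v = 0} := by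
    ext v
    simp only [Set.mem_ofPred_eq, Set.mem_insert_iff]
    constructor
    · intro h
      by_cases hv : v = 0
      · left; exact hv
      · right; exact ⟨hv, h⟩
    · rintro (rfl | h)
      · exact map_zero _
      · exact h.2
  have h3 : (0 : Fin 2 ⊕ κ → F) ∉ ({v | v ≠ 0 ∧ HQ Q' v = 0} : Set (Fin 2 ⊕ κ → F)) := by
    intro h
    exact h.1 rfl
  have h4 : ({w | w.v ≠ 0 ∧ HQ Q' w.v = 0} : Set (VecW (Fin 2 ⊕ κ) F)).ncard =
      ({v | v ≠ 0 ∧ HQ Q' v = 0} : Set (Fin 2 ⊕ κ → F)).ncard := by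
    have hinj : Function.Injective (VecW.v : VecW (Fin 2 ⊕ κ) F → _) := fun a b h => VecW.ext h
    rw [← Set.ncard_image_of_injective _ hinj]
    congr 1
    ext v
    constructor
    · rintro ⟨w, hw, rfl⟩
      exact hw
    · intro hv
      exact ⟨⟨v⟩, hv, rfl⟩
  rw [h4, h1, h2, Set.ncard_insert_of_notMem h3 (Set.toFinite _)]
  omega

theorem orbit_f (Q' : QuadraticForm F (κ → F))
    (hQ' : (QuadraticMap.polarBilin Q').Nondegenerate) (r : VecW (Fin 2 ⊕ κ) F) :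
    r ∈ ({w | HQ Q' w.v = 0 ∧ w.v (Sum.inl 1) = 1} : Set (VecW (Fin 2 ⊕ κ) F)) ↔
      ∃ g ∈ MulAction.stabilizer ↥(Cfsg.isometryGroup F ⇑(HQ Q'))
        (⟨mk3 1 0 0⟩ : VecW (Fin 2 ⊕ κ) F), g • (⟨mk3 0 1 0⟩ : VecW (Fin 2 ⊕ κ) F) = r := by
  have hQ := HQ_nondeg Q' hQ'
  constructor
  · rintro ⟨hr, hr1⟩
    obtain ⟨g, hge, hgf⟩ := HypTrans.exists_map_partner hQ (mk3 1 0 0) (mk3 0 1 0) r.v
      (by rw [HQ_e, mul_zero]) (by rw [HQ_e, zero_mul]) hr (by rw [polar_e]; simp)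
      (by rw [polar_e]; exact hr1)
    refine ⟨g, ?_, VecW.ext hgf⟩
    rw [MulAction.mem_stabilizer_iff]
    exact VecW.ext hge
  · rintro ⟨g, hg, rfl⟩
    rw [MulAction.mem_stabilizer_iff] at hg
    have hge : ((g : Matrix.GeneralLinearGroup (Fin 2 ⊕ κ) F) : Matrix (Fin 2 ⊕ κ) (Fin 2 ⊕ κ) F) *ᵥ mk3 1 0 0 =
        mk3 1 0 0 := congrArg VecW.v hg
    refine ⟨?_, ?_⟩
    · show HQ Q' (((g : Matrix.GeneralLinearGroup (Fin 2 ⊕ κ) F) : Matrix (Fin 2 ⊕ κ) (Fin 2 ⊕ κ) F) *ᵥ mk3 0 1 0) = 0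
      rw [iso_Q, HQ_e, zero_mul]
    · show (((g : Matrix.GeneralLinearGroup (Fin 2 ⊕ κ) F) : Matrix (Fin 2 ⊕ κ) (Fin 2 ⊕ κ) F) *ᵥ mk3 0 1 0)
        (Sum.inl 1) = 1
      have h := iso_polar g (mk3 1 0 0) (mk3 0 1 0)
      rw [hge, polar_e, polar_e] at h
      simpa using h

theorem ncard_partners [Fintype F] (Q' : QuadraticForm F (κ → F)) :
    ({w | HQ Q' w.v = 0 ∧ w.v (Sum.inl 1) = 1} : Set (VecW (Fin 2 ⊕ κ) F)).ncard =
      Fintype.card F ^ Fintype.card κ := by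
  classical
  have hcard : Fintype.card F ^ Fintype.card κ = Nat.card (κ → F) := by
    rw [Nat.card_eq_fintype_card, Fintype.card_fun]
  rw [← Nat.card_coe_set_eq, hcard]
  apply Nat.card_congr
  refine ⟨fun w => tl w.1.v, fun z => ⟨⟨mk3 (-Q' z) 1 z⟩, ?_, ?_⟩, ?_, ?_⟩
  · show HQ Q' (mk3 (-Q' z) 1 z) = 0
    rw [HQ_apply]
    simp
  · show mk3 (-Q' z) 1 z (Sum.inl 1) = 1
    simp
  · rintro ⟨w, hw, hw1⟩
    apply Subtype.ext
    apply VecW.ext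
    show mk3 (-Q' (tl w.v)) 1 (tl w.v) = w.v
    apply ext3
    · rw [mk3_zero]
      have hw' : HQ Q' w.v = 0 := hw
      have hw1' : w.v (Sum.inl 1) = 1 := hw1
      rw [HQ_apply, hw1'] at hw'
      linear_combination -hw'
    · rw [mk3_one]
      exact hw1.symm
    · rw [tl_mk3]
  · intro z
    rfl

theorem card_stab [Fintype F] (Q' : QuadraticForm F (κ → F))
    (hQ' : (QuadraticMap.polarBilin Q').Nondegenerate) :
    Nat.card ↥(MulAction.stabilizer ↥(Cfsg.isometryGroup F ⇑(HQ Q'))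
        (⟨mk3 1 0 0⟩ : VecW (Fin 2 ⊕ κ) F) ⊓
      MulAction.stabilizer ↥(Cfsg.isometryGroup F ⇑(HQ Q'))
        (⟨mk3 0 1 0⟩ : VecW (Fin 2 ⊕ κ) F)) = Nat.card ↥(Cfsg.isometryGroup F ⇑Q') := by
  have hQ := HQ_nondeg Q' hQ'
  symm
  apply Nat.card_congr
  refine Equiv.ofBijective (fun A => ⟨Siegel.mkIso hQ (emb ((A : Matrix.GeneralLinearGroup κ F) :
    Matrix κ κ F)) (emb_preserves Q' _ (fun w => iso_Q A w)),
    Subgroup.mem_inf.2 ⟨?_, ?_⟩⟩) ⟨?_, ?_⟩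
  · rw [MulAction.mem_stabilizer_iff, smul_def]
    apply VecW.ext
    show emb _ *ᵥ mk3 1 0 0 = mk3 1 0 0
    exact emb_mulVec_e _ 1 0
  · rw [MulAction.mem_stabilizer_iff, smul_def]
    apply VecW.ext
    show emb _ *ᵥ mk3 0 1 0 = mk3 0 1 0
    exact emb_mulVec_e _ 0 1
  · intro A B h
    have h1 := congrArg (fun z => ((z.1 : Matrix.GeneralLinearGroup (Fin 2 ⊕ κ) F) :
      Matrix (Fin 2 ⊕ κ) (Fin 2 ⊕ κ) F)) h
    simp only [Siegel.mkIso_coe] at h1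
    apply Subtype.ext
    apply Units.ext
    exact emb_injective h1
  · rintro ⟨g, hg⟩
    obtain ⟨hge, hgf⟩ := Subgroup.mem_inf.1 hg
    rw [MulAction.mem_stabilizer_iff, smul_def] at hge hgf
    have hge' : ((g : Matrix.GeneralLinearGroup (Fin 2 ⊕ κ) F) :
        Matrix (Fin 2 ⊕ κ) (Fin 2 ⊕ κ) F) *ᵥ mk3 1 0 0 = mk3 1 0 0 := congrArg VecW.v hge
    have hgf' : ((g : Matrix.GeneralLinearGroup (Fin 2 ⊕ κ) F) :
        Matrix (Fin 2 ⊕ κ) (Fin 2 ⊕ κ) F) *ᵥ mk3 0 1 0 = mk3 0 1 0 := congrArg VecW.v hgf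
    obtain ⟨h1, h3⟩ := eq_emb_cut Q' _ (fun v => iso_Q g v) hge' hgf'
    refine ⟨Siegel.mkIso hQ' _ h1, ?_⟩
    apply Subtype.ext
    apply Subtype.ext
    apply Units.ext
    show emb _ = _
    rw [Siegel.mkIso_coe]
    exact h3.symm

/-- peeling off a hyperbolic plane -/
theorem card_HQ [Fintype F] (Q' : QuadraticForm F (κ → F))
    (hQ' : (QuadraticMap.polarBilin Q').Nondegenerate) :
    Nat.card ↥(Cfsg.isometryGroup F ⇑(HQ Q')) =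
      (Nat.card {v : Fin 2 ⊕ κ → F // HQ Q' v = 0} - 1) *
        (Fintype.card F ^ Fintype.card κ * Nat.card ↥(Cfsg.isometryGroup F ⇑Q')) := by
  have h1 := Cfsg.Agent.Lib.Helper1.StabCard.card_eq_ncard_orbit_mul
    (G := ↥(Cfsg.isometryGroup F ⇑(HQ Q'))) (⟨mk3 1 0 0⟩ : VecW (Fin 2 ⊕ κ) F)
  have h3 := Cfsg.Agent.Lib.Helper1.StabCard.card_subgroup_eq_orbit_mul
    (MulAction.stabilizer ↥(Cfsg.isometryGroup F ⇑(HQ Q')) (⟨mk3 1 0 0⟩ : VecW (Fin 2 ⊕ κ) F))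
    (⟨mk3 0 1 0⟩ : VecW (Fin 2 ⊕ κ) F) _ (orbit_f Q' hQ')
  rw [h1, orbit_e Q' hQ', ncard_singular, h3, ncard_partners, card_stab Q' hQ']

end HypExt

end Cfsg.Agent.Lib.Helper2
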