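import Mathlib
import Cfsg.Agent.Lib.Helper2.GUIsom

set_option autoImplicit false

namespace Cfsg.Agent.Lib.Helper2

namespace IsoReindex

open Matrix

variable {ι ι' : Type} [Fintype ι] [DecidableEq ι] [Fintype ι'] [DecidableEq ι']
variable {F : Type*} [Field F]

/-- reindexing invertible matrices -/
def glReindex (F : Type*) [Field F] (σ : ι ≃ ι') :
    Matrix.GeneralLinearGroup ι F ≃* Matrix.GeneralLinearGroup ι' F :=
  Units.mapEquiv (Matrix.reindexAlgEquiv F F σ).toMulEquiv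

theorem glReindex_coe (σ : ι ≃ ι') (g : Matrix.GeneralLinearGroup ι F) :
    ((glReindex F σ g : Matrix.GeneralLinearGroup ι' F) : Matrix ι' ι' F) =
      (g : Matrix ι ι F).submatrix σ.symm σ.symm := rfl

theorem glReindex_mulVec (σ : ι ≃ ι') (g : Matrix.GeneralLinearGroup ι F) (v : ι' → F) :
    ((glReindex F σ g : Matrix.GeneralLinearGroup ι' F) : Matrix ι' ι' F) *ᵥ v =
      ((g : Matrix ι ι F) *ᵥ (v ∘ σ)) ∘ σ.symm := by
  rw [glReindex_coe, Matrix.submatrix_mulVec_equiv]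
  rfl

theorem mem_iff (σ : ι ≃ ι') (Q : (ι → F) → F) (Q₂ : (ι' → F) → F)
    (hQ : ∀ v : ι' → F, Q₂ v = Q (v ∘ σ)) (g : Matrix.GeneralLinearGroup ι F) :
    g ∈ Cfsg.isometryGroup F Q ↔ glReindex F σ g ∈ Cfsg.isometryGroup F Q₂ := by
  constructor
  · intro hg v _
    show Q₂ (((glReindex F σ g : Matrix.GeneralLinearGroup ι' F) : Matrix ι' ι' F) *ᵥ v) = Q₂ v
    rw [glReindex_mulVec, hQ, hQ]
    have h1 : (((g : Matrix ι ι F) *ᵥ (v ∘ σ)) ∘ σ.symm) ∘ σ = (g : Matrix ι ι F) *ᵥ (v ∘ σ) := by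
      funext i
      simp
    rw [h1]
    exact hg (v ∘ σ) (v ∘ σ)
  · intro hg u _
    show Q ((g : Matrix ι ι F) *ᵥ u) = Q u
    have h1 := hg (u ∘ σ.symm) (u ∘ σ.symm)
    have h3 : Q₂ (((glReindex F σ g : Matrix.GeneralLinearGroup ι' F) : Matrix ι' ι' F) *ᵥ
        (u ∘ σ.symm)) = Q₂ (u ∘ σ.symm) := h1
    rw [glReindex_mulVec, hQ, hQ] at h3
    have h4 : (u ∘ σ.symm) ∘ σ = u := by
      funext i
      simp
    have h5 : (((g : Matrix ι ι F) *ᵥ ((u ∘ σ.symm) ∘ σ)) ∘ σ.symm) ∘ σ =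
        (g : Matrix ι ι F) *ᵥ ((u ∘ σ.symm) ∘ σ) := by
      funext i
      simp
    rw [h5, h4] at h3
    exact h3

theorem card_reindex (σ : ι ≃ ι') (Q : (ι → F) → F) (Q₂ : (ι' → F) → F)
    (hQ : ∀ v : ι' → F, Q₂ v = Q (v ∘ σ)) :
    Nat.card ↥(Cfsg.isometryGroup F Q₂) = Nat.card ↥(Cfsg.isometryGroup F Q) :=
  (Nat.card_congr (GUIsom.equivOfMemIff (glReindex F σ) _ _ (mem_iff σ Q Q₂ hQ)).toEquiv).symm

omit [Fintype ι] [DecidableEq ι] [Fintype ι'] [DecidableEq ι'] in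
theorem card_zero_reindex (σ : ι ≃ ι') (Q : (ι → F) → F) (Q₂ : (ι' → F) → F)
    (hQ : ∀ v : ι' → F, Q₂ v = Q (v ∘ σ)) :
    Nat.card {v : ι' → F // Q₂ v = 0} = Nat.card {v : ι → F // Q v = 0} := by
  apply Nat.card_congr
  refine ⟨fun v => ⟨v.1 ∘ σ, by rw [← hQ]; exact v.2⟩,
    fun u => ⟨u.1 ∘ σ.symm, by
      rw [hQ]
      have : (u.1 ∘ σ.symm) ∘ σ = u.1 := by funext i; simp
      rw [this]
      exact u.2⟩, ?_, ?_⟩
  · intro v
    apply Subtype.ext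
    funext i
    simp
  · intro u
    apply Subtype.ext
    funext i
    simp

end IsoReindex

end Cfsg.Agent.Lib.Helper2
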