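import Mathlib
import Cfsg.Agent.Lib.Helper5.QuadFin

set_option autoImplicit false

namespace Cfsg.Agent.Lib.Helper2

namespace BinaryNorm

variable {F : Type*} [Field F]

/-- the binary form `z₁² + a z₁ z₂ + b z₂²` -/
def N (a b : F) (w : Fin 2 → F) : F := w 0 ^ 2 + a * w 0 * w 1 + b * w 1 ^ 2

/-- multiplication in `F[ω]`, `ω² = -a ω - b`... chosen so that `N` is multiplicative -/
def mulP (a b : F) (u w : Fin 2 → F) : Fin 2 → F :=
  ![u 0 * w 0 - b * u 1 * w 1, u 0 * w 1 + u 1 * w 0 + a * u 1 * w 1]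

theorem N_mulP (a b : F) (u w : Fin 2 → F) : N a b (mulP a b u w) = N a b u * N a b w := by
  simp only [N, mulP, Matrix.cons_val_zero, Matrix.cons_val_one]
  ring

theorem mulP_sub (a b : F) (u w w' : Fin 2 → F) :
    mulP a b u (w - w') = mulP a b u w - mulP a b u w' := by
  funext i
  fin_cases i
  · simp only [mulP, Pi.sub_apply, Fin.zero_eta, Matrix.cons_val_zero]
    ring
  · simp only [mulP, Pi.sub_apply, Fin.mk_one, Matrix.cons_val_one, Matrix.cons_val_zero]
    ring

theorem eq_zero_of_N (a b : F) (hab : ∀ z₁ z₂ : F, z₁ ^ 2 + a * z₁ * z₂ + b * z₂ ^ 2 = 0 → z₁ = 0 ∧ z₂ = 0)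
    (w : Fin 2 → F) (h : N a b w = 0) : w = 0 := by
  obtain ⟨h0, h1⟩ := hab _ _ h
  funext i
  fin_cases i
  · exact h0
  · exact h1

theorem exists_N_eq [Finite F] (a b : F)
    (hab : ∀ z₁ z₂ : F, z₁ ^ 2 + a * z₁ * z₂ + b * z₂ ^ 2 = 0 → z₁ = 0 ∧ z₂ = 0) (d : F) :
    ∃ u : Fin 2 → F, N a b u = d := by
  obtain ⟨x, hx0, hx⟩ := Cfsg.Agent.Lib.Helper5.exists_ternary_zero (1 : F) b (-d) a 0 0
  have hx2 : x 2 ≠ 0 := by
    intro h
    rw [h] at hx
    have h2 := hab (x 0) (x 1) (by linear_combination hx)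
    apply hx0
    funext i
    fin_cases i
    · exact h2.1
    · exact h2.2
    · exact h
  refine ⟨![x 0 / x 2, x 1 / x 2], ?_⟩
  simp only [N, Matrix.cons_val_zero, Matrix.cons_val_one]
  field_simp
  linear_combination hx

variable [Fintype F] [DecidableEq F]

theorem card_N_le (a b : F)
    (hab : ∀ z₁ z₂ : F, z₁ ^ 2 + a * z₁ * z₂ + b * z₂ ^ 2 = 0 → z₁ = 0 ∧ z₂ = 0) (c d : F)
    (hc : c ≠ 0) :
    (Finset.univ.filter (fun w : Fin 2 → F => N a b w = d)).card ≤
      (Finset.univ.filter (fun w : Fin 2 → F => N a b w = c * d)).card := by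
  obtain ⟨u, hu⟩ := exists_N_eq a b hab c
  apply Finset.card_le_card_of_injOn (mulP a b u)
  · intro w hw
    have hw' : N a b w = d := by simpa using hw
    simp only [Finset.coe_filter, Finset.mem_univ, true_and, Set.mem_ofPred_eq]
    rw [N_mulP, hu, hw']
  · intro w _ w' _ h
    have h1 : mulP a b u (w - w') = 0 := by rw [mulP_sub, h, sub_self]
    have h3 : N a b (mulP a b u (w - w')) = 0 := by rw [h1]; simp [N]
    rw [N_mulP, hu] at h3
    rcases mul_eq_zero.1 h3 with h | h
    · exact absurd h hc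
    · exact sub_eq_zero.1 (eq_zero_of_N a b hab _ h)

theorem card_N_eq_one (a b : F)
    (hab : ∀ z₁ z₂ : F, z₁ ^ 2 + a * z₁ * z₂ + b * z₂ ^ 2 = 0 → z₁ = 0 ∧ z₂ = 0) (c : F)
    (hc : c ≠ 0) :
    (Finset.univ.filter (fun w : Fin 2 → F => N a b w = c)).card =
      (Finset.univ.filter (fun w : Fin 2 → F => N a b w = 1)).card := by
  apply le_antisymm
  · have h := card_N_le a b hab c⁻¹ c (inv_ne_zero hc)
    rw [inv_mul_cancel₀ hc] at h
    exact h
  · have h := card_N_le a b hab c 1 hc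
    rw [mul_one] at h
    exact h

/-- an anisotropic binary form over the field of `q` elements takes each non-zero value `q + 1`
times -/
theorem card_N_eq (a b : F)
    (hab : ∀ z₁ z₂ : F, z₁ ^ 2 + a * z₁ * z₂ + b * z₂ ^ 2 = 0 → z₁ = 0 ∧ z₂ = 0) (c : F)
    (hc : c ≠ 0) :
    (Finset.univ.filter (fun w : Fin 2 → F => N a b w = c)).card = Fintype.card F + 1 := by
  rw [card_N_eq_one a b hab c hc]
  set n1 := (Finset.univ.filter (fun w : Fin 2 → F => N a b w = 1)).card with hn1
  have htot : (Finset.univ : Finset (Fin 2 → F)).card =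
      ∑ d : F, (Finset.univ.filter (fun w : Fin 2 → F => N a b w = d)).card :=
    Finset.card_eq_sum_card_fiberwise (fun w _ => Finset.mem_univ (N a b w))
  rw [Finset.card_univ, Fintype.card_fun, Fintype.card_fin,
    ← Finset.add_sum_erase Finset.univ _ (Finset.mem_univ (0 : F))] at htot
  have h0 : (Finset.univ.filter (fun w : Fin 2 → F => N a b w = 0)).card = 1 := by
    rw [Finset.card_eq_one]
    refine ⟨0, ?_⟩
    ext w
    simp only [Finset.mem_filter, Finset.mem_univ, true_and, Finset.mem_singleton]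
    constructor
    · exact eq_zero_of_N a b hab w
    · rintro rfl; simp [N]
  rw [h0, Finset.sum_congr rfl (fun d hd => card_N_eq_one a b hab d (Finset.ne_of_mem_erase hd)),
    Finset.sum_const, Finset.card_erase_of_mem (Finset.mem_univ _), Finset.card_univ,
    smul_eq_mul, ← hn1] at htot
  have hq : 2 ≤ Fintype.card F := Fintype.one_lt_card
  obtain ⟨q', hq'⟩ : ∃ q', Fintype.card F = q' + 1 := ⟨Fintype.card F - 1, by omega⟩
  rw [hq'] at htot ⊢
  simp only [Nat.add_sub_cancel] at htot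
  have hq'pos : 0 < q' := by omega
  have : q' * n1 = q' * (q' + 2) := by
    have e : (q' + 1) ^ 2 = 1 + q' * (q' + 2) := by ring
    rw [e] at htot
    omega
  have := Nat.eq_of_mul_eq_mul_left hq'pos this
  omega

end BinaryNorm

end Cfsg.Agent.Lib.Helper2
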