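import Mathlib
import Cfsg.Agent.Lib.Helper5.QuadGlue
import Cfsg.Agent.Lib.Helper1.QuadCount
import Cfsg.Agent.Lib.Helper2.BinaryNorm

set_option autoImplicit false

namespace Cfsg.Agent.Lib.Helper2

namespace QuadStd

open Cfsg.Agent.Lib.Helper5.QuadGlue

variable {F : Type*} [Field F]

theorem QP_coe (m : ℕ) : ⇑(QP m F) = Cfsg.quadFormPlus m F := funext (QP_apply m)

theorem QM_coe (k : ℕ) (a b : F) : ⇑(QM k F a b) = Cfsg.quadFormMinus k F a b :=
  funext (QM_apply k a b)

theorem polar_plus (m : ℕ) (u v : Fin m ⊕ Fin m → F) :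
    QuadraticMap.polar (⇑(QP m F)) u v =
      ∑ i : Fin m, (u (.inl i) * v (.inr i) + v (.inl i) * u (.inr i)) := by
  rw [QP_coe]
  unfold QuadraticMap.polar Cfsg.quadFormPlus
  rw [← Finset.sum_sub_distrib, ← Finset.sum_sub_distrib]
  apply Finset.sum_congr rfl
  intro i _
  simp only [Pi.add_apply]
  ring

theorem polar_minus (k : ℕ) (a b : F) (u v : (Fin k ⊕ Fin k) ⊕ Fin 2 → F) :
    QuadraticMap.polar (⇑(QM k F a b)) u v =
      ∑ i : Fin k, (u (.inl (.inl i)) * v (.inl (.inr i)) + v (.inl (.inl i)) * u (.inl (.inr i))) +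
      (2 * u (.inr 0) * v (.inr 0) + a * (u (.inr 0) * v (.inr 1) + u (.inr 1) * v (.inr 0)) +
        2 * b * u (.inr 1) * v (.inr 1)) := by
  rw [QM_coe]
  unfold QuadraticMap.polar Cfsg.quadFormMinus
  have h : ∀ (A B C D E G : F), A + B - (C + D) - (E + G) = (A - C - E) + (B - D - G) := by
    intros; ring
  rw [h, ← Finset.sum_sub_distrib, ← Finset.sum_sub_distrib]
  congr 1
  · apply Finset.sum_congr rfl
    intro i _
    simp only [Pi.add_apply]
    ring
  · simp only [Pi.add_apply]
    ring

theorem QP_nondeg (m : ℕ) : (QuadraticMap.polarBilin (QP m F)).Nondegenerate := by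
  classical
  have hleft : ∀ u : Fin m ⊕ Fin m → F,
      (∀ v, QuadraticMap.polar (⇑(QP m F)) u v = 0) → u = 0 := by
    intro u hu
    funext j
    rcases j with i | i
    · have h := hu (Pi.single (Sum.inr i) 1)
      rw [polar_plus, Finset.sum_eq_single i] at h
      · simpa using h
      · intro j _ hji
        simp [Pi.single_apply, hji]
      · intro h'; exact absurd (Finset.mem_univ _) h'
    · have h := hu (Pi.single (Sum.inl i) 1)
      rw [polar_plus, Finset.sum_eq_single i] at h
      · simpa using h
      · intro j _ hji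
        simp [Pi.single_apply, hji]
      · intro h'; exact absurd (Finset.mem_univ _) h'
  constructor
  · intro u hu
    exact hleft u hu
  · intro v hv
    apply hleft v
    intro u
    rw [QuadraticMap.polar_comm]
    exact hv u

theorem QM_nondeg (h2 : (2 : F) ≠ 0) (k : ℕ) (a b : F)
    (hab : ∀ z₁ z₂ : F, z₁ ^ 2 + a * z₁ * z₂ + b * z₂ ^ 2 = 0 → z₁ = 0 ∧ z₂ = 0) :
    (QuadraticMap.polarBilin (QM k F a b)).Nondegenerate := by
  classical
  have hleft : ∀ u : (Fin k ⊕ Fin k) ⊕ Fin 2 → F,
      (∀ v, QuadraticMap.polar (⇑(QM k F a b)) u v = 0) → u = 0 := by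
    intro u hu
    have hself := hu u
    rw [QuadraticMap.polar_self] at hself
    have hQu : (QM k F a b) u = 0 := by
      have : (2 : F) * (QM k F a b) u = 0 := by simpa using hself
      rcases mul_eq_zero.1 this with h | h
      · exact absurd h h2
      · exact h
    have hx : ∀ j : Fin k ⊕ Fin k, u (Sum.inl j) = 0 := by
      intro j
      rcases j with i | i
      · have h := hu (Pi.single (Sum.inl (Sum.inr i)) 1)
        rw [polar_minus, Finset.sum_eq_single i] at h
        · simpa using h
        · intro j _ hji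
          simp [Pi.single_apply, hji]
        · intro h'; exact absurd (Finset.mem_univ _) h'
      · have h := hu (Pi.single (Sum.inl (Sum.inl i)) 1)
        rw [polar_minus, Finset.sum_eq_single i] at h
        · simpa using h
        · intro j _ hji
          simp [Pi.single_apply, hji]
        · intro h'; exact absurd (Finset.mem_univ _) h'
    rw [QM_apply] at hQu
    unfold Cfsg.quadFormMinus at hQu
    rw [Finset.sum_eq_zero (fun i _ => by rw [hx, zero_mul]), zero_add] at hQu
    obtain ⟨h0, h1⟩ := hab _ _ hQu
    funext j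
    rcases j with j | j
    · exact hx j
    · fin_cases j
      · exact h0
      · exact h1
  constructor
  · intro u hu
    exact hleft u hu
  · intro v hv
    apply hleft v
    intro u
    rw [QuadraticMap.polar_comm]
    exact hv u

end QuadStd

end Cfsg.Agent.Lib.Helper2
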