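import Mathlib
import Cfsg.Agent.Lib.Helper2.QuadStd

set_option autoImplicit false

namespace Cfsg.Agent.Lib.Helper2

namespace OrthSum

variable {F : Type*} [Field F] {α β : Type}

/-- the orthogonal sum of two quadratic forms on coordinate spaces -/
noncomputable def osum (Q₁ : QuadraticForm F (α → F)) (Q₂ : QuadraticForm F (β → F)) :
    QuadraticForm F (α ⊕ β → F) :=
  Q₁.comp (LinearMap.funLeft F F Sum.inl) + Q₂.comp (LinearMap.funLeft F F Sum.inr)

theorem osum_apply (Q₁ : QuadraticForm F (α → F)) (Q₂ : QuadraticForm F (β → F))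
    (v : α ⊕ β → F) :
    osum Q₁ Q₂ v = Q₁ (fun i => v (Sum.inl i)) + Q₂ (fun j => v (Sum.inr j)) := rfl

theorem osum_polar (Q₁ : QuadraticForm F (α → F)) (Q₂ : QuadraticForm F (β → F))
    (v v' : α ⊕ β → F) :
    QuadraticMap.polar (⇑(osum Q₁ Q₂)) v v' =
      QuadraticMap.polar (⇑Q₁) (fun i => v (Sum.inl i)) (fun i => v' (Sum.inl i)) +
      QuadraticMap.polar (⇑Q₂) (fun j => v (Sum.inr j)) (fun j => v' (Sum.inr j)) := by
  unfold QuadraticMap.polar
  rw [osum_apply, osum_apply, osum_apply]
  have h1 : (fun i => (v + v') (Sum.inl i)) =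
      (fun i => v (Sum.inl i)) + (fun i => v' (Sum.inl i)) := rfl
  have h2 : (fun j => (v + v') (Sum.inr j)) =
      (fun j => v (Sum.inr j)) + (fun j => v' (Sum.inr j)) := rfl
  rw [h1, h2]
  ring

theorem osum_nondeg (Q₁ : QuadraticForm F (α → F)) (Q₂ : QuadraticForm F (β → F))
    (h₁ : (QuadraticMap.polarBilin Q₁).Nondegenerate)
    (h₂ : (QuadraticMap.polarBilin Q₂).Nondegenerate) :
    (QuadraticMap.polarBilin (osum Q₁ Q₂)).Nondegenerate := by
  have hleft : ∀ v : α ⊕ β → F,
      (∀ v', QuadraticMap.polar (⇑(osum Q₁ Q₂)) v v' = 0) → v = 0 := by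
    intro v hv
    have e1 : (fun i => v (Sum.inl i)) = 0 := by
      apply h₁.1
      intro w
      have := hv (Sum.elim w 0)
      rw [osum_polar] at this
      simp only [Sum.elim_inl, Sum.elim_inr, Pi.zero_apply] at this
      have h0 : QuadraticMap.polar (⇑Q₂) (fun j => v (Sum.inr j)) (fun _ => (0 : F)) = 0 :=
        QuadraticMap.polar_zero_right _ _
      rw [h0, add_zero] at this
      exact this
    have e2 : (fun j => v (Sum.inr j)) = 0 := by
      apply h₂.1
      intro w
      have := hv (Sum.elim 0 w)
      rw [osum_polar] at this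
      simp only [Sum.elim_inl, Sum.elim_inr, Pi.zero_apply] at this
      have h0 : QuadraticMap.polar (⇑Q₁) (fun i => v (Sum.inl i)) (fun _ => (0 : F)) = 0 :=
        QuadraticMap.polar_zero_right _ _
      rw [h0, zero_add] at this
      exact this
    funext i
    rcases i with i | j
    · exact congrFun e1 i
    · exact congrFun e2 j
  constructor
  · intro v hv
    exact hleft v hv
  · intro v hv
    apply hleft v
    intro v'
    rw [QuadraticMap.polar_comm]
    exact hv v'

/-- the unary form `x²` -/
noncomputable def sq (F : Type*) [Field F] : QuadraticForm F (Unit → F) :=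
  QuadraticMap.linMulLin (LinearMap.proj ()) (LinearMap.proj ())

theorem sq_apply (v : Unit → F) : sq F v = v () * v () := rfl

theorem sq_nondeg (h2 : (2 : F) ≠ 0) : (QuadraticMap.polarBilin (sq F)).Nondegenerate := by
  have hleft : ∀ v : Unit → F, (∀ v', QuadraticMap.polar (⇑(sq F)) v v' = 0) → v = 0 := by
    intro v hv
    have := hv (fun _ => 1)
    unfold QuadraticMap.polar at this
    rw [sq_apply, sq_apply, sq_apply] at this
    simp only [Pi.add_apply] at this
    have h3 : 2 * v () = 0 := by linear_combination this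
    funext u
    rcases mul_eq_zero.1 h3 with h | h
    · exact absurd h h2
    · exact h
  constructor
  · intro v hv
    exact hleft v hv
  · intro v hv
    apply hleft v
    intro v'
    rw [QuadraticMap.polar_comm]
    exact hv v'

/-- the binary form `x² + a x y + b y²` -/
noncomputable def bin (a b : F) : QuadraticForm F (Fin 2 → F) :=
  QuadraticMap.linMulLin (LinearMap.proj 0) (LinearMap.proj 0) +
    a • QuadraticMap.linMulLin (LinearMap.proj 0) (LinearMap.proj 1) +
    b • QuadraticMap.linMulLin (LinearMap.proj 1) (LinearMap.proj 1)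

theorem bin_apply (a b : F) (v : Fin 2 → F) :
    bin a b v = v 0 * v 0 + a * (v 0 * v 1) + b * (v 1 * v 1) := rfl

theorem bin_nondeg (a b : F) (hD : a ^ 2 - 4 * b ≠ 0) :
    (QuadraticMap.polarBilin (bin a b)).Nondegenerate := by
  have hleft : ∀ v : Fin 2 → F, (∀ v', QuadraticMap.polar (⇑(bin a b)) v v' = 0) → v = 0 := by
    intro v hv
    have e0 := hv ![1, 0]
    have e1 := hv ![0, 1]
    unfold QuadraticMap.polar at e0 e1
    rw [bin_apply, bin_apply, bin_apply] at e0 e1
    simp only [Pi.add_apply, Matrix.cons_val_zero, Matrix.cons_val_one] at e0 e1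
    have h0 : (a ^ 2 - 4 * b) * v 0 = 0 := by linear_combination a * e1 - 2 * b * e0
    have h1 : (a ^ 2 - 4 * b) * v 1 = 0 := by linear_combination a * e0 - 2 * e1
    funext i
    fin_cases i
    · rcases mul_eq_zero.1 h0 with h | h
      · exact absurd h hD
      · exact h
    · rcases mul_eq_zero.1 h1 with h | h
      · exact absurd h hD
      · exact h
  constructor
  · intro v hv
    exact hleft v hv
  · intro v hv
    apply hleft v
    intro v'
    rw [QuadraticMap.polar_comm]
    exact hv v'

/-- an anisotropic binary form over a finite field has nonzero discriminant -/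
theorem disc_ne_zero [Finite F] (a b : F)
    (hab : ∀ z₁ z₂ : F, z₁ ^ 2 + a * z₁ * z₂ + b * z₂ ^ 2 = 0 → z₁ = 0 ∧ z₂ = 0) :
    a ^ 2 - 4 * b ≠ 0 := by
  intro hD
  by_cases h2 : (2 : F) = 0
  · have ha : a = 0 := by
      have : a ^ 2 = 0 := by linear_combination hD + 2 * b * h2
      exact pow_eq_zero_iff two_ne_zero |>.1 this
    have hch : ringChar F = 2 :=
      CharP.ringChar_of_prime_eq_zero Nat.prime_two (by exact_mod_cast h2)
    obtain ⟨r, hr⟩ := FiniteField.isSquare_of_char_two hch b
    have := hab r 1 (by rw [ha, hr]; linear_combination (r * r) * h2)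
    exact one_ne_zero this.2
  · have := hab (-a) 2 (by linear_combination -hD)
    exact h2 this.2

end OrthSum

end Cfsg.Agent.Lib.Helper2
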