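import Mathlib
import Cfsg.Agent.Lib.Helper2.HypExt3
import Cfsg.Agent.Lib.Helper2.OrthSum
import Cfsg.Agent.Lib.Helper2.IsoReindex

set_option autoImplicit false

namespace Cfsg.Agent.Lib.Helper2

namespace OrthCard

open Matrix HypExt OrthSum Cfsg.Agent.Lib.Helper5.QuadGlue

variable {F : Type*} [Field F]

/-- peeling a hyperbolic plane off a reindexed form -/
theorem card_peel [Fintype F] {κ ι' : Type} [Fintype κ] [DecidableEq κ] [Fintype ι']
    [DecidableEq ι'] (σ : Fin 2 ⊕ κ ≃ ι') (Q' : QuadraticForm F (κ → F))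
    (hQ' : (QuadraticMap.polarBilin Q').Nondegenerate) (Q₂ : (ι' → F) → F)
    (h : ∀ v : ι' → F, Q₂ v = HQ Q' (v ∘ σ)) :
    Nat.card ↥(Cfsg.isometryGroup F Q₂) = (Nat.card {v : ι' → F // Q₂ v = 0} - 1) *
      (Fintype.card F ^ Fintype.card κ * Nat.card ↥(Cfsg.isometryGroup F ⇑Q')) := by
  rw [IsoReindex.card_reindex σ (⇑(HQ Q')) Q₂ h, IsoReindex.card_zero_reindex σ (⇑(HQ Q')) Q₂ h,
    card_HQ Q' hQ']

/-- reindexing for the plus type forms -/
def sigmaPlus (m : ℕ) : Fin 2 ⊕ (Fin m ⊕ Fin m) ≃ Fin (m + 1) ⊕ Fin (m + 1) where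
  toFun := Sum.elim ![Sum.inl 0, Sum.inr 0]
    (Sum.elim (fun i => Sum.inl i.succ) (fun i => Sum.inr i.succ))
  invFun := Sum.elim (Fin.cases (Sum.inl 0) (fun i => Sum.inr (Sum.inl i)))
    (Fin.cases (Sum.inl 1) (fun i => Sum.inr (Sum.inr i)))
  left_inv := by
    intro x
    rcases x with i | (i | i)
    · fin_cases i
      · rfl
      · rfl
    · simp
    · simp
  right_inv := by
    intro x
    rcases x with j | j
    · refine Fin.cases ?_ (fun i => ?_) j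
      · rfl
      · simp
    · refine Fin.cases ?_ (fun i => ?_) j
      · rfl
      · simp

@[simp] theorem sigmaPlus_inl_zero (m : ℕ) : sigmaPlus m (Sum.inl 0) = Sum.inl 0 := rfl
@[simp] theorem sigmaPlus_inl_one (m : ℕ) : sigmaPlus m (Sum.inl 1) = Sum.inr 0 := rfl
@[simp] theorem sigmaPlus_inr_inl (m : ℕ) (i : Fin m) :
    sigmaPlus m (Sum.inr (Sum.inl i)) = Sum.inl i.succ := rfl
@[simp] theorem sigmaPlus_inr_inr (m : ℕ) (i : Fin m) :
    sigmaPlus m (Sum.inr (Sum.inr i)) = Sum.inr i.succ := rfl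

theorem plus_reindex (m : ℕ) (v : Fin (m + 1) ⊕ Fin (m + 1) → F) :
    Cfsg.quadFormPlus (m + 1) F v = HQ (QP m F) (v ∘ sigmaPlus m) := by
  rw [HQ_apply, QP_apply]
  unfold Cfsg.quadFormPlus tl
  rw [Fin.sum_univ_succ]
  simp only [Function.comp_apply, sigmaPlus_inl_zero, sigmaPlus_inl_one, sigmaPlus_inr_inl,
    sigmaPlus_inr_inr]

theorem card_plus_succ [Fintype F] (m : ℕ) :
    Nat.card ↥(Cfsg.isometryGroup F (Cfsg.quadFormPlus (m + 1) F)) =
      (Nat.card {v : Fin (m + 1) ⊕ Fin (m + 1) → F // Cfsg.quadFormPlus (m + 1) F v = 0} - 1) *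
        (Fintype.card F ^ (2 * m) *
          Nat.card ↥(Cfsg.isometryGroup F (Cfsg.quadFormPlus m F))) := by
  have h := card_peel (sigmaPlus m) (QP m F) (QuadStd.QP_nondeg m) (Cfsg.quadFormPlus (m + 1) F)
    (plus_reindex m)
  rw [QuadStd.QP_coe] at h
  rw [h, Fintype.card_sum, Fintype.card_fin, two_mul]

/-- the minus type form as a quadratic form -/
noncomputable def QMn (m : ℕ) (a b : F) : QuadraticForm F ((Fin m ⊕ Fin m) ⊕ Fin 2 → F) :=
  osum (QP m F) (bin a b)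

theorem QMn_coe (m : ℕ) (a b : F) : ⇑(QMn m a b) = Cfsg.quadFormMinus m F a b := by
  funext v
  unfold QMn
  rw [osum_apply, QP_apply, bin_apply]
  unfold Cfsg.quadFormMinus Cfsg.quadFormPlus
  ring

theorem QMn_nondeg [Finite F] (m : ℕ) (a b : F)
    (hab : ∀ z₁ z₂ : F, z₁ ^ 2 + a * z₁ * z₂ + b * z₂ ^ 2 = 0 → z₁ = 0 ∧ z₂ = 0) :
    (QuadraticMap.polarBilin (QMn m a b)).Nondegenerate :=
  osum_nondeg _ _ (QuadStd.QP_nondeg m) (bin_nondeg a b (disc_ne_zero a b hab))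

/-- reindexing for the minus type forms -/
def sigmaMinus (m : ℕ) :
    Fin 2 ⊕ ((Fin m ⊕ Fin m) ⊕ Fin 2) ≃ (Fin (m + 1) ⊕ Fin (m + 1)) ⊕ Fin 2 :=
  (Equiv.sumAssoc _ _ _).symm.trans (Equiv.sumCongr (sigmaPlus m) (Equiv.refl _))

theorem minus_reindex (m : ℕ) (a b : F) (v : (Fin (m + 1) ⊕ Fin (m + 1)) ⊕ Fin 2 → F) :
    Cfsg.quadFormMinus (m + 1) F a b v = HQ (QMn m a b) (v ∘ sigmaMinus m) := by
  rw [HQ_apply]
  unfold QMn
  rw [osum_apply, QP_apply, bin_apply]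
  unfold Cfsg.quadFormMinus Cfsg.quadFormPlus tl
  rw [Fin.sum_univ_succ]
  simp only [Function.comp_apply, sigmaMinus, Equiv.trans_apply, Equiv.sumAssoc_symm_apply_inl,
    Equiv.sumAssoc_symm_apply_inr_inl, Equiv.sumAssoc_symm_apply_inr_inr, Equiv.sumCongr_apply,
    Sum.map_inl, Sum.map_inr, sigmaPlus_inl_zero, sigmaPlus_inl_one, sigmaPlus_inr_inl,
    sigmaPlus_inr_inr, Equiv.refl_apply]
  ring

theorem card_minus_succ [Fintype F] (m : ℕ) (a b : F)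
    (hab : ∀ z₁ z₂ : F, z₁ ^ 2 + a * z₁ * z₂ + b * z₂ ^ 2 = 0 → z₁ = 0 ∧ z₂ = 0) :
    Nat.card ↥(Cfsg.isometryGroup F (Cfsg.quadFormMinus (m + 1) F a b)) =
      (Nat.card {v : (Fin (m + 1) ⊕ Fin (m + 1)) ⊕ Fin 2 → F //
        Cfsg.quadFormMinus (m + 1) F a b v = 0} - 1) *
        (Fintype.card F ^ (2 * m + 2) *
          Nat.card ↥(Cfsg.isometryGroup F (Cfsg.quadFormMinus m F a b))) := by
  have h := card_peel (sigmaMinus m) (QMn m a b) (QMn_nondeg m a b hab)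
    (Cfsg.quadFormMinus (m + 1) F a b) (minus_reindex m a b)
  rw [QMn_coe] at h
  rw [h, Fintype.card_sum, Fintype.card_sum, Fintype.card_fin, Fintype.card_fin, two_mul]

/-- the odd dimensional form as a quadratic form -/
noncomputable def QOd (m : ℕ) (F : Type*) [Field F] :
    QuadraticForm F (Unit ⊕ (Fin m ⊕ Fin m) → F) :=
  osum (sq F) (QP m F)

theorem QOd_coe (m : ℕ) : ⇑(QOd m F) = Cfsg.quadFormOdd m F := by
  funext v
  unfold QOd
  rw [osum_apply, QP_apply, sq_apply]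
  unfold Cfsg.quadFormOdd Cfsg.quadFormPlus
  ring

theorem QOd_nondeg (h2 : (2 : F) ≠ 0) (m : ℕ) :
    (QuadraticMap.polarBilin (QOd m F)).Nondegenerate :=
  osum_nondeg _ _ (sq_nondeg h2) (QuadStd.QP_nondeg m)

/-- reindexing for the odd dimensional forms -/
def sigmaOdd (m : ℕ) :
    Fin 2 ⊕ (Unit ⊕ (Fin m ⊕ Fin m)) ≃ Unit ⊕ (Fin (m + 1) ⊕ Fin (m + 1)) :=
  ((Equiv.sumAssoc _ _ _).symm.trans
    ((Equiv.sumCongr (Equiv.sumComm _ _) (Equiv.refl _)).trans (Equiv.sumAssoc _ _ _))).trans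
    (Equiv.sumCongr (Equiv.refl _) (sigmaPlus m))

theorem odd_reindex (m : ℕ) (v : Unit ⊕ (Fin (m + 1) ⊕ Fin (m + 1)) → F) :
    Cfsg.quadFormOdd (m + 1) F v = HQ (QOd m F) (v ∘ sigmaOdd m) := by
  rw [HQ_apply]
  unfold QOd
  rw [osum_apply, QP_apply, sq_apply]
  unfold Cfsg.quadFormOdd Cfsg.quadFormPlus tl
  rw [Fin.sum_univ_succ]
  simp only [Function.comp_apply, sigmaOdd, Equiv.trans_apply, Equiv.sumAssoc_symm_apply_inl,
    Equiv.sumAssoc_symm_apply_inr_inl, Equiv.sumAssoc_symm_apply_inr_inr, Equiv.sumCongr_apply,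
    Sum.map_inl, Sum.map_inr, sigmaPlus_inl_zero, sigmaPlus_inl_one, sigmaPlus_inr_inl,
    sigmaPlus_inr_inr, Equiv.refl_apply, Equiv.sumComm_apply, Sum.swap_inl, Sum.swap_inr,
    Equiv.sumAssoc_apply_inl_inl, Equiv.sumAssoc_apply_inl_inr, Equiv.sumAssoc_apply_inr]
  ring

theorem card_odd_succ [Fintype F] (h2 : (2 : F) ≠ 0) (m : ℕ) :
    Nat.card ↥(Cfsg.isometryGroup F (Cfsg.quadFormOdd (m + 1) F)) =
      (Nat.card {v : Unit ⊕ (Fin (m + 1) ⊕ Fin (m + 1)) → F //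
        Cfsg.quadFormOdd (m + 1) F v = 0} - 1) *
        (Fintype.card F ^ (2 * m + 1) *
          Nat.card ↥(Cfsg.isometryGroup F (Cfsg.quadFormOdd m F))) := by
  have h := card_peel (sigmaOdd m) (QOd m F) (QOd_nondeg h2 m)
    (Cfsg.quadFormOdd (m + 1) F) (odd_reindex m)
  rw [QOd_coe] at h
  rw [h, Fintype.card_sum, Fintype.card_sum, Fintype.card_fin, Fintype.card_unit]
  congr 3
  ring

end OrthCard

end Cfsg.Agent.Lib.Helper2
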