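import Mathlib

set_option autoImplicit false

namespace Cfsg.Agent.Lib.Helper2

namespace Witt

variable {F V : Type*} [Field F] [AddCommGroup V] [Module F V]
variable (Q : QuadraticForm F V)

/-- expansion of `Q (x + t • y)` -/
theorem map_add_smul_abs (x y : V) (t : F) :
    Q (x + t • y) = Q x + t * t * Q y + t * QuadraticMap.polar (⇑Q) x y := by
  have h := QuadraticMap.map_add Q x (t • y)
  rw [h, QuadraticMap.map_smul, QuadraticMap.polar_smul_right, smul_eq_mul, smul_eq_mul]

theorem polar_of_isometry (f : V →ₗ[F] V) (hf : ∀ v, Q (f v) = Q v) (x y : V) :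
    QuadraticMap.polar (⇑Q) (f x) (f y) = QuadraticMap.polar (⇑Q) x y := by
  unfold QuadraticMap.polar
  rw [← map_add, hf, hf, hf]

theorem injective_of_isometry (hQ : (QuadraticMap.polarBilin Q).Nondegenerate)
    (f : V →ₗ[F] V) (hf : ∀ v, Q (f v) = Q v) : Function.Injective f := by
  rw [← LinearMap.ker_eq_bot, LinearMap.ker_eq_bot']
  intro v hv
  apply hQ.1
  intro w
  show QuadraticMap.polar (⇑Q) v w = 0
  rw [← polar_of_isometry Q f hf, hv]
  simp [QuadraticMap.polar]

/-- an isometric endomorphism of a nondegenerate finite-dimensional quadratic space is an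
automorphism -/
theorem exists_equiv_of_isometry [FiniteDimensional F V]
    (hQ : (QuadraticMap.polarBilin Q).Nondegenerate)
    (f : V →ₗ[F] V) (hf : ∀ v, Q (f v) = Q v) :
    ∃ g : V ≃ₗ[F] V, ∀ v, g v = f v :=
  ⟨LinearEquiv.ofInjectiveEndo f (injective_of_isometry Q hQ f hf), fun v => by simp⟩

/-- Riesz representation for the polar form -/
theorem exists_riesz [FiniteDimensional F V] (hQ : (QuadraticMap.polarBilin Q).Nondegenerate)
    (l : V →ₗ[F] F) : ∃ e : V, ∀ z, QuadraticMap.polar (⇑Q) e z = l z := by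
  refine ⟨(LinearMap.BilinForm.toDual (QuadraticMap.polarBilin Q) hQ).symm l, fun z => ?_⟩
  exact LinearMap.BilinForm.apply_toDual_symm_apply (B := QuadraticMap.polarBilin Q) (hB := hQ) l z

/-- the reflection in a nonsingular vector as a linear map -/
noncomputable def reflMap (p : V) : V →ₗ[F] V :=
  LinearMap.id - ((QuadraticMap.polarBilin Q).flip p).smulRight ((Q p)⁻¹ • p)

theorem reflMap_apply (p x : V) :
    reflMap Q p x = x - (QuadraticMap.polar (⇑Q) x p * (Q p)⁻¹) • p := by
  unfold reflMap
  simp [smul_smul]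

theorem reflMap_isometry (p : V) (hp : Q p ≠ 0) (x : V) : Q (reflMap Q p x) = Q x := by
  rw [reflMap_apply, sub_eq_add_neg, ← neg_smul, map_add_smul_abs]
  field_simp
  ring

end Witt

end Cfsg.Agent.Lib.Helper2
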