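import Mathlib
import Cfsg.Agent.Lib.Helper2.Witt1

set_option autoImplicit false

namespace Cfsg.Agent.Lib.Helper2

namespace Witt

variable {F V : Type*} [Field F] [AddCommGroup V] [Module F V]
variable (Q : QuadraticForm F V)

/-- extension of an isometry from the hyperplane `p^⊥` to the whole space -/
theorem hyperplane_ext (p v v' : V) (β : V →ₗ[F] V)
    (h1 : ∀ w, QuadraticMap.polar (⇑Q) p w = 0 → Q (β w) = Q w)
    (h2 : ∀ w, QuadraticMap.polar (⇑Q) p w = 0 →
      QuadraticMap.polar (⇑Q) (β w) v' = QuadraticMap.polar (⇑Q) w v)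
    (h3 : Q v' = Q v) (h4 : QuadraticMap.polar (⇑Q) p v = 1) (x : V) :
    Q (β (x - QuadraticMap.polar (⇑Q) p x • v) + QuadraticMap.polar (⇑Q) p x • v') = Q x := by
  obtain ⟨t, ht⟩ : ∃ t, t = QuadraticMap.polar (⇑Q) p x := ⟨_, rfl⟩
  rw [← ht]
  have hw : QuadraticMap.polar (⇑Q) p (x - t • v) = 0 := by
    rw [QuadraticMap.polar_sub_right, QuadraticMap.polar_smul_right, h4, ← ht]
    simp
  rw [map_add_smul_abs, h1 _ hw, h2 _ hw, h3]
  have hx : x = (x - t • v) + t • v := by abel
  conv_rhs => rw [hx, map_add_smul_abs]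

/-- `y ↦ y + lam y • p` -/
def betaMap (p : V) (lam : V →ₗ[F] F) : V →ₗ[F] V := LinearMap.id + lam.smulRight p

omit Q in
theorem betaMap_apply (p : V) (lam : V →ₗ[F] F) (y : V) : betaMap p lam y = y + lam y • p := by
  simp [betaMap]

/-- the linear map used in the singular case -/
noncomputable def singMap (p v v' : V) (lam : V →ₗ[F] F) : V →ₗ[F] V :=
  (betaMap p lam) ∘ₗ
      (LinearMap.id - ((QuadraticMap.polarBilin Q) p).smulRight v) +
    ((QuadraticMap.polarBilin Q) p).smulRight v'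

theorem singMap_apply (p v v' : V) (lam : V →ₗ[F] F) (x : V) :
    singMap Q p v v' lam x =
      betaMap p lam (x - QuadraticMap.polar (⇑Q) p x • v) +
        QuadraticMap.polar (⇑Q) p x • v' := by
  unfold singMap
  simp

theorem singMap_isometry (p v e : V) (lam : V →ₗ[F] F) (hp : Q p = 0)
    (he : ∀ z, QuadraticMap.polar (⇑Q) e z = lam z) (hc : 1 + lam p ≠ 0)
    (hv : QuadraticMap.polar (⇑Q) p v = 1) (x : V) :
    Q (singMap Q p v
        ((v - (1 + lam p)⁻¹ • e) + ((Q v - Q (v - (1 + lam p)⁻¹ • e)) * (1 + lam p)) • p)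
        lam x) = Q x := by
  rw [singMap_apply]
  obtain ⟨c, hcdef⟩ : ∃ c, c = 1 + lam p := ⟨_, rfl⟩
  rw [← hcdef] at hc ⊢
  have hlp : lam p = c - 1 := by rw [hcdef]; ring
  obtain ⟨v'', hv''⟩ : ∃ v'', v'' = v - c⁻¹ • e := ⟨_, rfl⟩
  rw [← hv'']
  have hpp : QuadraticMap.polar (⇑Q) p p = 0 := by
    rw [QuadraticMap.polar_self, hp]; simp
  have hpe : QuadraticMap.polar (⇑Q) p e = c - 1 := by
    rw [QuadraticMap.polar_comm, he, hlp]
  have hpv'' : QuadraticMap.polar (⇑Q) p v'' = c⁻¹ := by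
    rw [hv'', QuadraticMap.polar_sub_right, QuadraticMap.polar_smul_right, hv, hpe, smul_eq_mul]
    field_simp
    ring
  apply hyperplane_ext
  · intro w hw
    have hwp : QuadraticMap.polar (⇑Q) w p = 0 := by rw [QuadraticMap.polar_comm]; exact hw
    rw [betaMap_apply, map_add_smul_abs, hp, hwp]
    ring
  · intro w hw
    have hwp : QuadraticMap.polar (⇑Q) w p = 0 := by rw [QuadraticMap.polar_comm]; exact hw
    have hwe : QuadraticMap.polar (⇑Q) w e = lam w := by rw [QuadraticMap.polar_comm, he]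
    rw [betaMap_apply, QuadraticMap.polar_add_left, QuadraticMap.polar_smul_left,
      QuadraticMap.polar_add_right, QuadraticMap.polar_add_right,
      QuadraticMap.polar_smul_right, QuadraticMap.polar_smul_right, hwp, hpp, hpv'', hv'',
      QuadraticMap.polar_sub_right, QuadraticMap.polar_smul_right, hwe]
    simp only [smul_eq_mul]
    field_simp
    ring
  · rw [map_add_smul_abs, hp, QuadraticMap.polar_comm, hpv'']
    field_simp
    ring
  · exact hv

end Witt

end Cfsg.Agent.Lib.Helper2
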