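import Mathlib
import Cfsg.Agent.Lib.Helper2.Witt2

set_option autoImplicit false

namespace Cfsg.Agent.Lib.Helper2

namespace Witt

variable {F V : Type*} [Field F] [AddCommGroup V] [Module F V] [FiniteDimensional F V]
variable (Q : QuadraticForm F V)

/-- key step: an isometry of `X` fixing a hyperplane `X ∩ ker l` of `X` pointwise extends -/
theorem key (hQ : (QuadraticMap.polarBilin Q).Nondegenerate) (X : Submodule F V)
    (α : V →ₗ[F] V) (u : V) (hu : u ∈ X) (l : V →ₗ[F] F) (hlu : l u = 1)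
    (hfix : ∀ x ∈ X, l x = 0 → α x = x) (hiso : ∀ x ∈ X, Q (α x) = Q x)
    (hinj : ∀ x ∈ X, α x = 0 → x = 0) :
    ∃ g : V ≃ₗ[F] V, (∀ v, Q (g v) = Q v) ∧ ∀ x ∈ X, g x = α x := by
  obtain ⟨p, hp⟩ : ∃ p, p = α u - u := ⟨_, rfl⟩
  have hα : ∀ x ∈ X, α x = x + l x • p := by
    intro x hx
    have h1 : x - l x • u ∈ X := X.sub_mem hx (X.smul_mem _ hu)
    have h2 : l (x - l x • u) = 0 := by simp [hlu]
    have h3 := hfix _ h1 h2
    rw [map_sub, map_smul] at h3
    rw [hp, smul_sub]
    have h4 : α x = x - l x • u + l x • α u := by rw [← h3]; abel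
    rw [h4]; abel
  have hstar : ∀ x ∈ X, l x * (QuadraticMap.polar (⇑Q) x p + l x * Q p) = 0 := by
    intro x hx
    have h1 := hiso x hx
    rw [hα x hx, map_add_smul_abs] at h1
    linear_combination h1
  have hu1 : QuadraticMap.polar (⇑Q) u p + Q p = 0 := by
    have := hstar u hu
    rw [hlu] at this
    linear_combination this
  have hpol : ∀ x ∈ X, QuadraticMap.polar (⇑Q) x p = -(l x * Q p) := by
    intro x hx
    by_cases hlx : l x = 0
    · have h1 := hstar (x + u) (X.add_mem hx hu)
      rw [map_add, hlx, hlu, QuadraticMap.polar_add_left] at h1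
      rw [hlx]
      linear_combination h1 - hu1
    · have h1 := hstar x hx
      have h2 := (mul_eq_zero.1 h1).resolve_left hlx
      linear_combination h2
  by_cases hQp : Q p = 0
  · by_cases hp0 : p = 0
    · refine ⟨LinearEquiv.refl F V, fun v => rfl, fun x hx => ?_⟩
      rw [hα x hx, hp0]; simp
    · have hperp : ∀ x ∈ X, QuadraticMap.polar (⇑Q) x p = 0 := by
        intro x hx
        rw [hpol x hx, hQp]; simp
      obtain ⟨lam, hlamX, hlamp⟩ : ∃ lam : V →ₗ[F] F, (∀ x ∈ X, lam x = l x) ∧ 1 + lam p ≠ 0 := by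
        by_cases h1 : 1 + l p = 0
        · have hpX : p ∉ X := by
            intro hpX
            apply hp0
            apply hinj p hpX
            rw [hα p hpX]
            have : p + l p • p = (1 + l p) • p := by rw [add_smul, one_smul]
            rw [this, h1, zero_smul]
          obtain ⟨f, hfp, hXf⟩ := Submodule.exists_le_ker_of_notMem hpX
          refine ⟨l + f, fun x hx => ?_, ?_⟩
          · have : f x = 0 := hXf hx
            simp [this]
          · rw [LinearMap.add_apply, ← add_assoc, h1, zero_add]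
            exact hfp
        · exact ⟨l, fun x _ => rfl, h1⟩
      obtain ⟨e, he⟩ := exists_riesz Q hQ lam
      obtain ⟨v, hv⟩ : ∃ v, QuadraticMap.polar (⇑Q) p v = 1 := by
        have h1 : ∃ y, QuadraticMap.polar (⇑Q) p y ≠ 0 := by
          by_contra hcon
          push Not at hcon
          exact hp0 (hQ.1 p hcon)
        obtain ⟨y, hy⟩ := h1
        refine ⟨(QuadraticMap.polar (⇑Q) p y)⁻¹ • y, ?_⟩
        rw [QuadraticMap.polar_smul_right, smul_eq_mul, inv_mul_cancel₀ hy]
      obtain ⟨g, hg⟩ := exists_equiv_of_isometry Q hQ _ (singMap_isometry Q p v e lam hQp he hlamp hv)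
      refine ⟨g, fun x => ?_, fun x hx => ?_⟩
      · rw [hg]; exact singMap_isometry Q p v e lam hQp he hlamp hv x
      · rw [hg, singMap_apply, QuadraticMap.polar_comm, hperp x hx, hα x hx, betaMap_apply]
        simp [hlamX x hx]
  · obtain ⟨g, hg⟩ := exists_equiv_of_isometry Q hQ _ (reflMap_isometry Q p hQp)
    refine ⟨g, fun x => ?_, fun x hx => ?_⟩
    · rw [hg]; exact reflMap_isometry Q p hQp x
    · rw [hg, reflMap_apply, hα x hx, hpol x hx]
      have : -(l x * Q p) * (Q p)⁻¹ = -(l x) := by field_simp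
      rw [this, neg_smul, sub_neg_eq_add]

/-- **Witt's lemma** (global form): a linear map which is isometric and injective on a subspace
`X` agrees on `X` with an isometry of the whole space. -/
theorem witt (hQ : (QuadraticMap.polarBilin Q).Nondegenerate) (X : Submodule F V)
    (α : V →ₗ[F] V) (hiso : ∀ x ∈ X, Q (α x) = Q x) (hinj : ∀ x ∈ X, α x = 0 → x = 0) :
    ∃ g : V ≃ₗ[F] V, (∀ v, Q (g v) = Q v) ∧ ∀ x ∈ X, g x = α x := by
  obtain ⟨n, hn⟩ : ∃ n, Module.finrank F X = n := ⟨_, rfl⟩
  induction n using Nat.strong_induction_on generalizing X α with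
  | _ n ih =>
    by_cases hX : X = ⊥
    · refine ⟨LinearEquiv.refl F V, fun v => rfl, fun x hx => ?_⟩
      rw [hX, Submodule.mem_bot] at hx
      rw [hx]; simp
    · obtain ⟨u, huX, hu0⟩ := Submodule.exists_mem_ne_zero_of_ne_bot hX
      obtain ⟨l₀, hl₀⟩ : ∃ l₀ : Module.Dual F V, l₀ u ≠ 0 := by
        by_contra hcon
        push Not at hcon
        exact hu0 ((Module.forall_dual_apply_eq_zero_iff F u).1 hcon)
      obtain ⟨l, hl⟩ : ∃ l : V →ₗ[F] F, l = (l₀ u)⁻¹ • l₀ := ⟨_, rfl⟩
      have hlu : l u = 1 := by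
        rw [hl, LinearMap.smul_apply, smul_eq_mul, inv_mul_cancel₀ hl₀]
      have hHlt : X ⊓ LinearMap.ker l < X := by
        refine lt_of_le_of_ne inf_le_left ?_
        intro heq
        have : u ∈ X ⊓ LinearMap.ker l := by rw [heq]; exact huX
        have h2 : l u = 0 := LinearMap.mem_ker.1 this.2
        rw [hlu] at h2
        exact one_ne_zero h2
      have hlt := Submodule.finrank_lt_finrank_of_lt hHlt
      rw [hn] at hlt
      obtain ⟨g₁, hg₁, hg₁X⟩ := ih _ hlt (X ⊓ LinearMap.ker l) α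
        (fun x hx => hiso x hx.1) (fun x hx => hinj x hx.1) rfl
      have hg₁s : ∀ y, Q (g₁.symm y) = Q y := by
        intro y
        rw [← hg₁ (g₁.symm y), LinearEquiv.apply_symm_apply]
      obtain ⟨g₂, hg₂, hg₂X⟩ := key Q hQ X (g₁.symm.toLinearMap ∘ₗ α) u huX l hlu
        (fun x hx hlx => by
          have h1 := hg₁X x ⟨hx, LinearMap.mem_ker.2 hlx⟩
          show g₁.symm (α x) = x
          rw [← h1, LinearEquiv.symm_apply_apply])
        (fun x hx => by
          show Q (g₁.symm (α x)) = Q x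
          rw [hg₁s, hiso x hx])
        (fun x hx h0 => by
          have h1 : g₁.symm (α x) = 0 := h0
          have h2 : α x = 0 := by
            have := congrArg g₁ h1
            rwa [LinearEquiv.apply_symm_apply, map_zero] at this
          exact hinj x hx h2)
      refine ⟨g₂.trans g₁, fun v => ?_, fun x hx => ?_⟩
      · show Q (g₁ (g₂ v)) = Q v
        rw [hg₁, hg₂]
      · show g₁ (g₂ x) = α x
        rw [hg₂X x hx]
        show g₁ (g₁.symm (α x)) = α x
        rw [LinearEquiv.apply_symm_apply]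

/-- **Witt's lemma** for a `Q`-preserving linear equivalence between subspaces. -/
theorem witt_equiv (hQ : (QuadraticMap.polarBilin Q).Nondegenerate) (X Y : Submodule F V)
    (φ : X ≃ₗ[F] Y) (hφ : ∀ x : X, Q (φ x : V) = Q (x : V)) :
    ∃ g : V ≃ₗ[F] V, (∀ v : V, Q (g v) = Q v) ∧ ∀ x : X, g (x : V) = (φ x : V) := by
  obtain ⟨α, hα⟩ := LinearMap.exists_extend (Y.subtype ∘ₗ φ.toLinearMap)
  have hαx : ∀ x : X, α (x : V) = (φ x : V) := by
    intro x
    have := LinearMap.congr_fun hα x
    simpa using this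
  obtain ⟨g, hg, hgX⟩ := witt Q hQ X α
    (fun x hx => by rw [hαx ⟨x, hx⟩]; exact hφ ⟨x, hx⟩)
    (fun x hx h0 => by
      rw [hαx ⟨x, hx⟩] at h0
      have h1 : φ ⟨x, hx⟩ = 0 := Subtype.ext h0
      have h2 : (⟨x, hx⟩ : X) = 0 := by
        rwa [LinearEquiv.map_eq_zero_iff] at h1
      exact congrArg Subtype.val h2)
  exact ⟨g, hg, fun x => by rw [hgX x x.2, hαx]⟩

end Witt

end Cfsg.Agent.Lib.Helper2
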