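import Mathlib
import Cfsg.Agent.Lib.Helper2.BinaryNorm
import Cfsg.Agent.Lib.Helper2.GUIsom
import Cfsg.Agent.Lib.Helper1.DihedralIso

set_option autoImplicit false

namespace Cfsg.Agent.Lib.Helper2

namespace MinusTwo

open Module QuadraticAlgebra

variable {F : Type*} [Field F] {a b : F}

/-- conjugation as a linear automorphism -/
def sigma (a b : F) : QuadraticAlgebra F a b ≃ₗ[F] QuadraticAlgebra F a b where
  toFun := star
  invFun := star
  map_add' := star_add
  map_smul' c z := by
    ext
    · simp only [re_star, re_smul, im_smul, smul_eq_mul, RingHom.id_apply]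
      ring
    · simp only [im_star, im_smul, smul_eq_mul, RingHom.id_apply]
      ring
  left_inv := star_star
  right_inv := star_star

theorem sigma_apply (z : QuadraticAlgebra F a b) : sigma a b z = star z := rfl

theorem sigma_mul_self : sigma a b * sigma a b = 1 := by
  apply LinearEquiv.ext
  intro z
  rw [LinearEquiv.mul_apply, sigma_apply, sigma_apply, star_star]
  rfl

/-- norm preserving linear automorphisms -/
def A (a b : F) : Subgroup (QuadraticAlgebra F a b ≃ₗ[F] QuadraticAlgebra F a b) where
  carrier := {T | ∀ z, norm (T z) = norm z}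
  one_mem' := fun _ => rfl
  mul_mem' := by
    intro S T hS hT z
    rw [LinearEquiv.mul_apply, hS, hT]
  inv_mem' := by
    intro T hT z
    have := hT (T⁻¹ z)
    rw [← LinearEquiv.mul_apply, mul_inv_cancel] at this
    exact this.symm

theorem sigma_mem : sigma a b ∈ A a b := by
  intro z
  rw [sigma_apply, QuadraticAlgebra.norm_star]

variable [Hab : Fact (∀ r, r ^ 2 ≠ a + b * r)]

/-- multiplication by a unit as a linear automorphism -/
def L (a b : F) [Fact (∀ r, r ^ 2 ≠ a + b * r)] :
    (QuadraticAlgebra F a b)ˣ →* (QuadraticAlgebra F a b ≃ₗ[F] QuadraticAlgebra F a b) where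
  toFun u :=
    { toFun := fun z => (u : QuadraticAlgebra F a b) * z
      invFun := fun z => ((u⁻¹ : (QuadraticAlgebra F a b)ˣ) : QuadraticAlgebra F a b) * z
      map_add' := fun z w => mul_add _ z w
      map_smul' := fun c z => by
        simp only [RingHom.id_apply]
        rw [mul_smul_comm]
      left_inv := fun z => by
        show ((u⁻¹ : (QuadraticAlgebra F a b)ˣ) : QuadraticAlgebra F a b) * (u * z) = z
        rw [← mul_assoc, Units.inv_mul, one_mul]
      right_inv := fun z => by
        show (u : QuadraticAlgebra F a b) * (((u⁻¹ : (QuadraticAlgebra F a b)ˣ) :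
          QuadraticAlgebra F a b) * z) = z
        rw [← mul_assoc, Units.mul_inv, one_mul] }
  map_one' := by
    apply LinearEquiv.ext
    intro z
    show ((1 : (QuadraticAlgebra F a b)ˣ) : QuadraticAlgebra F a b) * z = z
    rw [Units.val_one, one_mul]
  map_mul' u v := by
    apply LinearEquiv.ext
    intro z
    show ((u * v : (QuadraticAlgebra F a b)ˣ) : QuadraticAlgebra F a b) * z = u * (v * z)
    rw [Units.val_mul, mul_assoc]

theorem L_apply (u : (QuadraticAlgebra F a b)ˣ) (z : QuadraticAlgebra F a b) :
    L a b u z = (u : QuadraticAlgebra F a b) * z := rfl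

theorem L_injective : Function.Injective (L a b) := by
  intro u v huv
  have := LinearEquiv.congr_fun huv 1
  rw [L_apply, L_apply, mul_one, mul_one] at this
  exact Units.ext this

/-- norm one units -/
def U (a b : F) [Fact (∀ r, r ^ 2 ≠ a + b * r)] : Subgroup (QuadraticAlgebra F a b)ˣ :=
  (Units.map (norm : QuadraticAlgebra F a b →* F)).ker

theorem mem_U (u : (QuadraticAlgebra F a b)ˣ) :
    u ∈ U a b ↔ norm (u : QuadraticAlgebra F a b) = 1 := by
  unfold U
  rw [MonoidHom.mem_ker, Units.ext_iff]
  rfl

theorem L_mem (u : (QuadraticAlgebra F a b)ˣ) (hu : u ∈ U a b) : L a b u ∈ A a b := by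
  intro z
  rw [L_apply, map_mul, (mem_U u).1 hu, one_mul]

theorem sigma_conj (u : (QuadraticAlgebra F a b)ˣ) (hu : u ∈ U a b) :
    sigma a b * L a b u * sigma a b = L a b u⁻¹ := by
  apply LinearEquiv.ext
  intro z
  rw [LinearEquiv.mul_apply, LinearEquiv.mul_apply, sigma_apply, sigma_apply, L_apply, L_apply,
    star_mul, star_star]
  have h1 : (u : QuadraticAlgebra F a b) * star (u : QuadraticAlgebra F a b) = 1 := by
    rw [← algebraMap_norm_eq_mul_star, (mem_U u).1 hu, map_one]
  have h3 : star (u : QuadraticAlgebra F a b) = ((u⁻¹ : (QuadraticAlgebra F a b)ˣ) :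
      QuadraticAlgebra F a b) := (Units.inv_eq_of_mul_eq_one_right h1).symm
  rw [h3, mul_comm]

end MinusTwo

end Cfsg.Agent.Lib.Helper2
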