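import Mathlib
import Cfsg.Agent.Lib.Helper2.MinusTwo1

set_option autoImplicit false

namespace Cfsg.Agent.Lib.Helper2

namespace MinusTwo

open Module QuadraticAlgebra

variable {F : Type*} [Field F] {a b : F}

instance instFiniteQA [Finite F] : Finite (QuadraticAlgebra F a b) :=
  Finite.of_equiv _ (equivProd a b).symm

theorem card_K [Finite F] : Nat.card (QuadraticAlgebra F a b) = Nat.card F ^ 2 := by
  rw [Nat.card_congr (equivProd a b), Nat.card_prod]
  ring

theorem decomp (z : QuadraticAlgebra F a b) :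
    z = z.re • (1 : QuadraticAlgebra F a b) + z.im • (⟨0, 1⟩ : QuadraticAlgebra F a b) := by
  ext <;> simp

theorem star_decomp (z : QuadraticAlgebra F a b) :
    star z = z.re • (1 : QuadraticAlgebra F a b) +
      z.im • star (⟨0, 1⟩ : QuadraticAlgebra F a b) := by
  ext <;> simp <;> ring

variable [Hab : Fact (∀ r, r ^ 2 ≠ a + b * r)]

/-- a norm preserving automorphism fixing `1` is the identity or the conjugation -/
theorem eq_one_or_sigma (T : QuadraticAlgebra F a b ≃ₗ[F] QuadraticAlgebra F a b)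
    (hT : T ∈ A a b) (h1 : T 1 = 1) : T = 1 ∨ T = sigma a b := by
  obtain ⟨om, hom⟩ : ∃ om : QuadraticAlgebra F a b, om = ⟨0, 1⟩ := ⟨_, rfl⟩
  obtain ⟨w, hw⟩ : ∃ w, w = T om := ⟨_, rfl⟩
  have hn1 : norm w = norm om := by rw [hw]; exact hT om
  have hn2 : norm (1 + w) = norm (1 + om) := by
    rw [hw, ← h1, ← map_add, h1]
    exact hT _
  have e1 : w * star w = om * star om := by
    rw [← algebraMap_norm_eq_mul_star, ← algebraMap_norm_eq_mul_star, hn1]
  have e2 : (1 + w) * star (1 + w) = (1 + om) * star (1 + om) := by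
    rw [← algebraMap_norm_eq_mul_star, ← algebraMap_norm_eq_mul_star, hn2]
  rw [star_add, star_add, star_one] at e2
  have e3 : w + star w = om + star om := by linear_combination e2 - e1
  have e4 : (w - om) * (w - star om) = 0 := by
    linear_combination w * e3 - e1
  rcases mul_eq_zero.1 e4 with h | h
  · left
    apply LinearEquiv.ext
    intro z
    conv_lhs => rw [decomp z]
    rw [map_add, map_smul, map_smul, h1, ← hom, ← hw, sub_eq_zero.1 h, hom]
    exact (decomp z).symm
  · right
    apply LinearEquiv.ext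
    intro z
    conv_lhs => rw [decomp z]
    rw [map_add, map_smul, map_smul, h1, ← hom, ← hw, sub_eq_zero.1 h, hom, sigma_apply]
    exact (star_decomp z).symm

theorem sigma_ne_one [Finite F] : sigma a b ≠ 1 := by
  intro h
  have h1 := LinearEquiv.congr_fun h (⟨0, 1⟩ : QuadraticAlgebra F a b)
  rw [sigma_apply] at h1
  have h3 := congrArg QuadraticAlgebra.re h1
  have h4 := congrArg QuadraticAlgebra.im h1
  simp at h3 h4
  have h2 : (2 : F) = 0 := by linear_combination -h4
  have hch : ringChar F = 2 := CharP.ringChar_of_prime_eq_zero Nat.prime_two (by exact_mod_cast h2)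
  obtain ⟨r, hr⟩ := FiniteField.isSquare_of_char_two hch a
  apply Hab.out r
  rw [h3, zero_mul, add_zero, hr]
  ring

theorem hab' (z₁ z₂ : F) (h : z₁ ^ 2 + b * z₁ * z₂ + (-a) * z₂ ^ 2 = 0) : z₁ = 0 ∧ z₂ = 0 := by
  have h1 : norm (⟨z₁, z₂⟩ : QuadraticAlgebra F a b) = 0 := by
    rw [norm_def]
    linear_combination h
  have h3 := norm_eq_zero_iff_eq_zero.1 h1
  exact ⟨congrArg QuadraticAlgebra.re h3, congrArg QuadraticAlgebra.im h3⟩

theorem norm_surjective [Finite F] :
    Function.Surjective (Units.map (norm : QuadraticAlgebra F a b →* F)) := by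
  intro d
  obtain ⟨u, hu⟩ := BinaryNorm.exists_N_eq b (-a) hab' (d : F)
  have hn : norm (⟨u 0, u 1⟩ : QuadraticAlgebra F a b) = d := by
    rw [norm_def, ← hu]
    simp only [BinaryNorm.N]
    ring
  have hz : (⟨u 0, u 1⟩ : QuadraticAlgebra F a b) ≠ 0 := by
    intro h
    rw [h, QuadraticAlgebra.norm_zero] at hn
    exact d.ne_zero hn.symm
  refine ⟨Units.mk0 _ hz, ?_⟩
  apply Units.ext
  exact hn

theorem card_U [Finite F] : Nat.card (U a b) = Nat.card F + 1 := by
  have h1 := Subgroup.card_mul_index (U a b)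
  unfold U at h1 ⊢
  rw [Subgroup.index_ker, MonoidHom.range_eq_top.2 norm_surjective, Subgroup.card_top,
    Nat.card_units, Nat.card_units, card_K] at h1
  have hq : 1 < Nat.card F := Finite.one_lt_card
  have h3 : Nat.card F ^ 2 - 1 = (Nat.card F + 1) * (Nat.card F - 1) := by
    obtain ⟨k, hk⟩ : ∃ k, Nat.card F = k + 2 := ⟨Nat.card F - 2, by omega⟩
    rw [hk]
    have : k + 2 - 1 = k + 1 := by omega
    rw [this]
    have : (k + 2) ^ 2 - 1 = (k + 2 + 1) * (k + 1) := by
      have : (k + 2) ^ 2 = (k + 2 + 1) * (k + 1) + 1 := by ring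
      omega
    exact this
  rw [h3] at h1
  exact Nat.eq_of_mul_eq_mul_right (by omega) h1

theorem exists_generator [Finite F] :
    ∃ ζ : (QuadraticAlgebra F a b)ˣ, ζ ∈ U a b ∧ orderOf ζ = Nat.card F + 1 ∧
      ∀ u ∈ U a b, ∃ k : ℤ, u = ζ ^ k := by
  have : IsCyclic (U a b) := Subgroup.isCyclic _
  obtain ⟨g, hg⟩ := IsCyclic.exists_generator (α := U a b)
  refine ⟨g.1, g.2, ?_, ?_⟩
  · rw [Subgroup.orderOf_coe, orderOf_eq_card_of_forall_mem_zpowers hg, card_U]
  · intro u hu
    obtain ⟨k, hk⟩ := Subgroup.mem_zpowers_iff.1 (hg ⟨u, hu⟩)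
    refine ⟨k, ?_⟩
    have := congrArg Subtype.val hk
    rw [Subgroup.coe_zpow] at this
    exact this.symm

end MinusTwo

end Cfsg.Agent.Lib.Helper2
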