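import Mathlib
import Cfsg.Agent.Lib.Helper2.MinusTwo2

set_option autoImplicit false

namespace Cfsg.Agent.Lib.Helper2

namespace MinusTwo

open Module QuadraticAlgebra

variable {F : Type*} [Field F] {a b : F} [Hab : Fact (∀ r, r ^ 2 ≠ a + b * r)]

theorem A_equiv_dihedral [Finite F] :
    Nonempty (↥(A a b) ≃* DihedralGroup (Nat.card F + 1)) := by
  obtain ⟨ζ, hζU, hζord, hζgen⟩ := exists_generator (a := a) (b := b)
  obtain ⟨x, hx⟩ : ∃ x : A a b, x = ⟨sigma a b, sigma_mem⟩ := ⟨_, rfl⟩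
  obtain ⟨ρ, hρ⟩ : ∃ ρ : A a b, ρ = ⟨L a b ζ, L_mem ζ hζU⟩ := ⟨_, rfl⟩
  have hxv : (x : QuadraticAlgebra F a b ≃ₗ[F] QuadraticAlgebra F a b) = sigma a b := by rw [hx]
  have hρv : (ρ : QuadraticAlgebra F a b ≃ₗ[F] QuadraticAlgebra F a b) = L a b ζ := by rw [hρ]
  have hq : 1 < Nat.card F := Finite.one_lt_card
  have hxx : x * x = 1 := by
    apply Subtype.ext
    rw [Subgroup.coe_mul, hxv]
    exact sigma_mul_self
  have hx1 : x ≠ 1 := by
    intro h
    apply sigma_ne_one (a := a) (b := b)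
    rw [← hxv, h]
    rfl
  have hxo : orderOf x = 2 := orderOf_eq_prime (by rw [pow_two]; exact hxx) hx1
  have hρord : orderOf ρ = Nat.card F + 1 := by
    rw [← Subgroup.orderOf_coe, hρv, orderOf_injective (L a b) L_injective, hζord]
  obtain ⟨y, hy⟩ : ∃ y : A a b, y = x * ρ := ⟨_, rfl⟩
  have hyy : y * y = 1 := by
    rw [hy]
    apply Subtype.ext
    rw [Subgroup.coe_mul, Subgroup.coe_mul, hxv, hρv]
    rw [← mul_assoc, sigma_conj ζ hζU, ← map_mul, inv_mul_cancel, map_one]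
    rfl
  have hy1 : y ≠ 1 := by
    intro h
    rw [hy] at h
    have h1 : ρ = x := by
      have : x * (x * ρ) = x * 1 := by rw [h]
      rw [← mul_assoc, hxx, one_mul, mul_one] at this
      exact this
    have h3 : (ρ : QuadraticAlgebra F a b ≃ₗ[F] QuadraticAlgebra F a b) 1 =
        (x : QuadraticAlgebra F a b ≃ₗ[F] QuadraticAlgebra F a b) 1 := by rw [h1]
    rw [hρv, hxv, L_apply, sigma_apply, mul_one, star_one] at h3
    have : ζ = 1 := Units.ext h3
    rw [this, orderOf_one] at hζord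
    omega
  have hyo : orderOf y = 2 := orderOf_eq_prime (by rw [pow_two]; exact hyy) hy1
  have hxy : x * y = ρ := by rw [hy, ← mul_assoc, hxx, one_mul]
  have hn : orderOf (x * y) ≠ 0 := by rw [hxy, hρord]; omega
  obtain ⟨e⟩ := Cfsg.Agent.Lib.Helper1.DihedralIso.closure_equiv_dihedral x y hxo hyo hn
  have e' : Nonempty (↥(Subgroup.closure ({x, y} : Set (A a b))) ≃*
      DihedralGroup (Nat.card F + 1)) := by
    rw [← hρord, ← hxy]
    exact ⟨e⟩
  obtain ⟨e'⟩ := e'
  have htop : Subgroup.closure ({x, y} : Set (A a b)) = ⊤ := by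
    rw [eq_top_iff]
    intro T _
    have hxm : x ∈ Subgroup.closure ({x, y} : Set (A a b)) :=
      Subgroup.subset_closure (by simp)
    have hym : y ∈ Subgroup.closure ({x, y} : Set (A a b)) :=
      Subgroup.subset_closure (by simp)
    have hρm : ρ ∈ Subgroup.closure ({x, y} : Set (A a b)) := by
      rw [← hxy]
      exact Subgroup.mul_mem _ hxm hym
    have hu1 : norm ((T : QuadraticAlgebra F a b ≃ₗ[F] QuadraticAlgebra F a b) 1) = 1 := by
      rw [T.2 1]
      exact QuadraticAlgebra.norm_one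
    have hu0 : (T : QuadraticAlgebra F a b ≃ₗ[F] QuadraticAlgebra F a b) 1 ≠ 0 := by
      intro h
      rw [h, QuadraticAlgebra.norm_zero] at hu1
      exact zero_ne_one hu1
    obtain ⟨u, hu⟩ : ∃ u : (QuadraticAlgebra F a b)ˣ, u = Units.mk0 _ hu0 := ⟨_, rfl⟩
    have huv : (u : QuadraticAlgebra F a b) =
        (T : QuadraticAlgebra F a b ≃ₗ[F] QuadraticAlgebra F a b) 1 := by rw [hu]; rfl
    have huU : u ∈ U a b := (mem_U u).2 (by rw [huv]; exact hu1)
    obtain ⟨k, hk⟩ := hζgen u huU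
    have hT' : (L a b u)⁻¹ * (T : QuadraticAlgebra F a b ≃ₗ[F] QuadraticAlgebra F a b) ∈ A a b :=
      Subgroup.mul_mem _ (Subgroup.inv_mem _ (L_mem u huU)) T.2
    have hT'1 : ((L a b u)⁻¹ * (T : QuadraticAlgebra F a b ≃ₗ[F] QuadraticAlgebra F a b)) 1 = 1 := by
      rw [LinearEquiv.mul_apply, ← map_inv, L_apply, ← huv, Units.inv_mul]
    rcases eq_one_or_sigma _ hT' hT'1 with h | h
    · have hT : T = ρ ^ k := by
        apply Subtype.ext
        rw [Subgroup.coe_zpow, hρv, ← map_zpow, ← hk]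
        exact (inv_mul_eq_one.1 h).symm
      rw [hT]
      exact Subgroup.zpow_mem _ hρm k
    · have hT : T = ρ ^ k * x := by
        apply Subtype.ext
        rw [Subgroup.coe_mul, Subgroup.coe_zpow, hρv, hxv, ← map_zpow, ← hk, ← h,
          mul_inv_cancel_left]
      rw [hT]
      exact Subgroup.mul_mem _ (Subgroup.zpow_mem _ hρm k) hxm
  exact ⟨(Subgroup.topEquiv.symm.trans (MulEquiv.subgroupCongr htop.symm)).trans e'⟩

end MinusTwo

end Cfsg.Agent.Lib.Helper2
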