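import Mathlib
import Cfsg.Agent.Lib.Helper2.MinusTwo3

set_option autoImplicit false

namespace Cfsg.Agent.Lib.Helper2

namespace MinusTwo

open Module QuadraticAlgebra Matrix

variable {F : Type*} [Field F]

/-- coordinates -/
def phi (a b : F) : QuadraticAlgebra F a b ≃ₗ[F] ((Fin 0 ⊕ Fin 0) ⊕ Fin 2 → F) where
  toFun z := Sum.elim (fun e => Sum.elim (fun i => Fin.elim0 i) (fun i => Fin.elim0 i) e)
    ![z.re, z.im]
  invFun v := ⟨v (Sum.inr 0), v (Sum.inr 1)⟩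
  map_add' z w := by
    funext j
    rcases j with (i | i) | j
    · exact Fin.elim0 i
    · exact Fin.elim0 i
    · fin_cases j <;> simp
  map_smul' c z := by
    funext j
    rcases j with (i | i) | j
    · exact Fin.elim0 i
    · exact Fin.elim0 i
    · fin_cases j <;> simp
  left_inv z := by
    ext <;> simp
  right_inv v := by
    funext j
    rcases j with (i | i) | j
    · exact Fin.elim0 i
    · exact Fin.elim0 i
    · fin_cases j <;> simp

theorem minus_phi (a₀ b₀ : F) (z : QuadraticAlgebra F (-b₀) a₀) :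
    Cfsg.quadFormMinus 0 F a₀ b₀ (phi (-b₀) a₀ z) = norm z := by
  unfold Cfsg.quadFormMinus
  rw [QuadraticAlgebra.norm_def]
  have h0 : (phi (-b₀) a₀ z) (Sum.inr 0) = z.re := rfl
  have h1 : (phi (-b₀) a₀ z) (Sum.inr 1) = z.im := rfl
  rw [h0, h1, Finset.univ_eq_empty, Finset.sum_empty]
  ring

/-- automorphisms of a space with a basis as invertible matrices, general index type -/
noncomputable def basisGL' {V : Type*} [AddCommGroup V] [Module F V] {ι : Type} [Fintype ι]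
    [DecidableEq ι] (bs : Basis ι F V) : (V ≃ₗ[F] V) ≃* Matrix.GeneralLinearGroup ι F :=
  (LinearMap.GeneralLinearGroup.generalLinearEquiv F V).symm.trans
    (Units.mapEquiv (LinearMap.toMatrixAlgEquiv bs).toMulEquiv)

theorem basisGL'_coe {V : Type*} [AddCommGroup V] [Module F V] {ι : Type} [Fintype ι]
    [DecidableEq ι] (bs : Basis ι F V) (g : V ≃ₗ[F] V) :
    ((basisGL' bs g : Matrix.GeneralLinearGroup ι F) : Matrix ι ι F) =
      LinearMap.toMatrix bs bs (g : V →ₗ[F] V) := rfl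

theorem basisGL'_mulVec {V : Type*} [AddCommGroup V] [Module F V] {ι : Type} [Fintype ι]
    [DecidableEq ι] (e : V ≃ₗ[F] (ι → F)) (g : V ≃ₗ[F] V) (z : V) :
    ((basisGL' (Basis.ofEquivFun e) g : Matrix.GeneralLinearGroup ι F) : Matrix ι ι F) *ᵥ (e z) =
      e (g z) := by
  rw [basisGL'_coe]
  have h := LinearMap.toMatrix_mulVec_repr (Basis.ofEquivFun e) (Basis.ofEquivFun e)
    (g : V →ₗ[F] V) z
  have h1 : ∀ w : V, ⇑((Basis.ofEquivFun e).repr w) = e w := by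
    intro w
    funext i
    exact Basis.ofEquivFun_repr_apply e w i
  rw [h1, h1] at h
  exact h

theorem mem_iff (a₀ b₀ : F) (T : QuadraticAlgebra F (-b₀) a₀ ≃ₗ[F] QuadraticAlgebra F (-b₀) a₀) :
    T ∈ A (-b₀) a₀ ↔ basisGL' (Basis.ofEquivFun (phi (-b₀) a₀)) T ∈
      Cfsg.isometryGroup F (Cfsg.quadFormMinus 0 F a₀ b₀) := by
  constructor
  · intro hT u _
    show Cfsg.quadFormMinus 0 F a₀ b₀ (_ *ᵥ u) = Cfsg.quadFormMinus 0 F a₀ b₀ u
    obtain ⟨z, rfl⟩ := (phi (-b₀) a₀).surjective u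
    have := basisGL'_mulVec (phi (-b₀) a₀) T z
    erw [this]
    rw [minus_phi, minus_phi]
    exact hT z
  · intro hT z
    have h1 := hT (phi (-b₀) a₀ z) (phi (-b₀) a₀ z)
    have h3 : Cfsg.quadFormMinus 0 F a₀ b₀
        (((basisGL' (Basis.ofEquivFun (phi (-b₀) a₀)) T :
          Matrix.GeneralLinearGroup ((Fin 0 ⊕ Fin 0) ⊕ Fin 2) F) :
          Matrix ((Fin 0 ⊕ Fin 0) ⊕ Fin 2) ((Fin 0 ⊕ Fin 0) ⊕ Fin 2) F) *ᵥ (phi (-b₀) a₀ z)) =
        Cfsg.quadFormMinus 0 F a₀ b₀ (phi (-b₀) a₀ z) := h1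
    rw [basisGL'_mulVec, minus_phi, minus_phi] at h3
    exact h3

theorem main [Fintype F] (a₀ b₀ : F)
    (hab : ∀ z₁ z₂ : F, z₁ ^ 2 + a₀ * z₁ * z₂ + b₀ * z₂ ^ 2 = 0 → z₁ = 0 ∧ z₂ = 0) :
    Nonempty (↥(Cfsg.isometryGroup F (Cfsg.quadFormMinus 0 F a₀ b₀)) ≃*
      DihedralGroup (Fintype.card F + 1)) := by
  have : Fact (∀ r : F, r ^ 2 ≠ -b₀ + a₀ * r) := by
    constructor
    intro r hr
    have h1 := hab r (-1) (by linear_combination hr)
    have : (1 : F) = 0 := by linear_combination -h1.2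
    exact one_ne_zero this
  obtain ⟨e⟩ := A_equiv_dihedral (F := F) (a := -b₀) (b := a₀)
  rw [Nat.card_eq_fintype_card] at e
  exact ⟨(GUIsom.equivOfMemIff (basisGL' (Basis.ofEquivFun (phi (-b₀) a₀))) _ _
    (mem_iff a₀ b₀)).symm.trans e⟩

end MinusTwo

end Cfsg.Agent.Lib.Helper2
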