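import Mathlib
import Cfsg.Agent.Lib.Helper2.OrthCard1
import Cfsg.Agent.S0289
import Cfsg.Agent.S0290
import Cfsg.Agent.S0291
import Cfsg.Agent.S0306

set_option autoImplicit false

namespace Cfsg.Agent.Lib.Helper2

namespace OrthCard

open Matrix HypExt OrthSum Cfsg.Agent.Lib.Helper5.QuadGlue

variable {F : Type*} [Field F]

theorem card_plus_zero : Nat.card ↥(Cfsg.isometryGroup F (Cfsg.quadFormPlus 0 F)) = 1 := by
  have : Subsingleton ↥(Cfsg.isometryGroup F (Cfsg.quadFormPlus 0 F)) := by
    constructor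
    intro g h
    apply Subtype.ext
    apply Units.ext
    ext i j
    rcases i with i | i <;> exact Fin.elim0 i
  exact Nat.card_unique

/-- arithmetic step shared by the plus and minus recursions -/
theorem arith_plus (q x A P e : ℕ) (hx : 1 ≤ x) (hq : 1 ≤ q)
    (hA : A = 2 * e * (x - 1) * P) :
    (q * (x * x) + q * x - x - 1) * (x * x * A) =
      2 * (e * (x * x)) * (q * x - 1) * (P * (x * x - 1)) := by
  have h1 : x ≤ q * (x * x) + q * x := by nlinarith
  have h2 : 1 ≤ q * (x * x) + q * x - x := by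
    have : x + 1 ≤ q * (x * x) + q * x := by nlinarith
    omega
  have h3 : 1 ≤ q * x := by nlinarith
  have h4 : 1 ≤ x * x := by nlinarith
  subst hA
  apply Nat.cast_injective (R := ℤ)
  push_cast [Nat.cast_sub hx, Nat.cast_sub h1, Nat.cast_sub h2, Nat.cast_sub h3, Nat.cast_sub h4]
  ring

theorem arith_minus (q x A P e : ℕ) (hx : 1 ≤ x) (hq : 1 ≤ q)
    (hA : A = 2 * e * (x + 1) * P) :
    (q * (x * x) + x - q * x - 1) * (x * x * A) =
      2 * (e * (x * x)) * (q * x + 1) * (P * (x * x - 1)) := by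
  have h0 : q * x ≤ q * (x * x) := by
    calc q * x = q * x * 1 := by ring
      _ ≤ q * x * x := Nat.mul_le_mul_left _ hx
      _ = q * (x * x) := by ring
  have h1 : q * x ≤ q * (x * x) + x := by omega
  have h2 : 1 ≤ q * (x * x) + x - q * x := by omega
  have h4 : 1 ≤ x * x := by nlinarith
  subst hA
  apply Nat.cast_injective (R := ℤ)
  push_cast [Nat.cast_sub h1, Nat.cast_sub h2, Nat.cast_sub h4]
  ring

end OrthCard

end Cfsg.Agent.Lib.Helper2
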