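import Mathlib
import Cfsg.Agent.Lib.Helper2.OrthCard2

set_option autoImplicit false

namespace Cfsg.Agent.Lib.Helper2

namespace OrthCard

open Matrix HypExt OrthSum Cfsg.Agent.Lib.Helper5.QuadGlue

variable {F : Type*} [Field F] [Fintype F]

theorem one_le_q : 1 ≤ Fintype.card F := Fintype.card_pos

theorem pow_facts (q k : ℕ) :
    q ^ (2 * (k + 2) - 1) = q * (q ^ (k + 1) * q ^ (k + 1)) ∧ q ^ (k + 2) = q * q ^ (k + 1) ∧
    q ^ (k + 2 - 1) = q ^ (k + 1) ∧ q ^ (2 * (k + 1)) = q ^ (k + 1) * q ^ (k + 1) ∧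
    q ^ ((k + 2) * (k + 1)) = q ^ ((k + 1) * k) * (q ^ (k + 1) * q ^ (k + 1)) := by
  refine ⟨?_, ?_, ?_, ?_, ?_⟩
  · have : 2 * (k + 2) - 1 = 1 + ((k + 1) + (k + 1)) := by omega
    rw [this, pow_add, pow_add, pow_one]
  · rw [pow_succ]; ring
  · rfl
  · rw [two_mul, pow_add]
  · have : (k + 2) * (k + 1) = (k + 1) * k + ((k + 1) + (k + 1)) := by ring
    rw [this, pow_add, pow_add]

theorem card_plus (k : ℕ) :
    Nat.card ↥(Cfsg.isometryGroup F (Cfsg.quadFormPlus (k + 1) F)) =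
      2 * Fintype.card F ^ ((k + 1) * k) * (Fintype.card F ^ (k + 1) - 1) *
        ∏ i ∈ Finset.range k, (Fintype.card F ^ (2 * (i + 1)) - 1) := by
  induction k with
  | zero =>
    rw [card_plus_succ 0, card_plus_zero, Cfsg.Agent.S0289.result (F := F) rfl 1 le_rfl]
    simp
    have := one_le_q (F := F)
    omega
  | succ k ih =>
    rw [card_plus_succ (k + 1), Cfsg.Agent.S0289.result (F := F) rfl (k + 2) (by omega)]
    obtain ⟨e1, e2, e3, e4, e5⟩ := pow_facts (Fintype.card F) k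
    rw [e1, e2, e3, e4, e5, Finset.prod_range_succ, e4]
    exact arith_plus _ _ _ _ _ (Nat.one_le_pow _ _ one_le_q) one_le_q ih

theorem card_minus_zero (a b : F)
    (hab : ∀ z₁ z₂ : F, z₁ ^ 2 + a * z₁ * z₂ + b * z₂ ^ 2 = 0 → z₁ = 0 ∧ z₂ = 0) :
    Nat.card ↥(Cfsg.isometryGroup F (Cfsg.quadFormMinus 0 F a b)) = 2 * (Fintype.card F + 1) := by
  obtain ⟨e⟩ := Cfsg.Agent.S0306.result (F := F) rfl a b hab
  rw [Nat.card_congr e.toEquiv, DihedralGroup.nat_card]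

theorem card_minus (a b : F)
    (hab : ∀ z₁ z₂ : F, z₁ ^ 2 + a * z₁ * z₂ + b * z₂ ^ 2 = 0 → z₁ = 0 ∧ z₂ = 0) (k : ℕ) :
    Nat.card ↥(Cfsg.isometryGroup F (Cfsg.quadFormMinus k F a b)) =
      2 * Fintype.card F ^ ((k + 1) * k) * (Fintype.card F ^ (k + 1) + 1) *
        ∏ i ∈ Finset.range k, (Fintype.card F ^ (2 * (i + 1)) - 1) := by
  induction k with
  | zero =>
    rw [card_minus_zero a b hab]
    simp
  | succ k ih =>
    have hZ : Nat.card {v : (Fin (k + 1) ⊕ Fin (k + 1)) ⊕ Fin 2 → F //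
        Cfsg.quadFormMinus (k + 1) F a b v = 0} =
        Fintype.card F ^ (2 * (k + 2) - 1) + Fintype.card F ^ (k + 2 - 1) -
          Fintype.card F ^ (k + 2) :=
      Cfsg.Agent.S0290.result (F := F) rfl (k + 2) (by omega) a b hab
    rw [card_minus_succ k a b hab, hZ]
    obtain ⟨e1, e2, e3, e4, e5⟩ := pow_facts (Fintype.card F) k
    have e6 : Fintype.card F ^ (2 * k + 2) = Fintype.card F ^ (k + 1) * Fintype.card F ^ (k + 1) := by
      rw [← e4]
      congr 1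
    rw [e1, e2, e3, e6, e5, Finset.prod_range_succ, e4]
    exact arith_minus _ _ _ _ _ (Nat.one_le_pow _ _ one_le_q) one_le_q ih

end OrthCard

end Cfsg.Agent.Lib.Helper2
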