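import Cfsg.Agent.Lib.Helper2.RigidOut3

set_option autoImplicit false

/-! # Outer automorphisms from a rigid pair of generators of a Sylow normalizer -/

namespace Cfsg.Agent.Lib.Helper2.RigidOut

open Cfsg.Agent.Lib.Helper1
open scoped Pointwise

variable {G : Type*} [Group G]

/-- the inverse of a power of an element of a finite group is a power -/
theorem exists_pow_eq_inv_pow [Finite G] (h : G) (j : ℕ) : ∃ j' : ℕ, (h ^ j)⁻¹ = h ^ j' := by
  refine ⟨j * (orderOf h - 1), ?_⟩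
  apply inv_eq_of_mul_eq_one_right
  rw [← pow_add]
  have h0 : 0 < orderOf h := orderOf_pos h
  have : j + j * (orderOf h - 1) = orderOf h * j := by
    have : orderOf h = (orderOf h - 1) + 1 := by omega
    conv_rhs => rw [this]
    ring
  rw [this, pow_mul, pow_orderOf_eq_one, one_pow]

/-- the normalizer of the subgroup generated by `p`, from the centralizer of `p` and the
absence of elements conjugating `p` to the other classes of powers -/
theorem normalizer_of_transporters [Finite G] (q r : ℕ) (E : List ℕ) (p h : G) (hq1 : 1 < q)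
    (hp : orderOf p = q) (hph : h⁻¹ * p * h = p ^ r)
    (hE : ∀ k < q, 0 < k → ∃ j, ∃ ε ∈ E, r ^ j * k % q = ε % q)
    (hC : ∀ g : G, g⁻¹ * p * g = p → ∃ i : ℕ, g = p ^ i)
    (hT : ∀ ε ∈ E, ε % q ≠ 1 % q → ∀ g : G, g⁻¹ * p * g ≠ p ^ ε) :
    ∀ n : G, (∃ k : ℕ, n⁻¹ * p * n = p ^ k) → ∃ i j : ℕ, n = p ^ i * h ^ j := by
  have hp1 : p ≠ 1 := by
    intro h1
    rw [h1, orderOf_one] at hp
    omega
  rintro n ⟨k, hk⟩
  have hk' : n⁻¹ * p * n = p ^ (k % q) := by rw [hk, ← hp, pow_mod_orderOf]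
  have hk0 : 0 < k % q := by
    rcases Nat.eq_zero_or_pos (k % q) with h0 | h0
    · exfalso
      rw [h0, pow_zero] at hk'
      apply hp1
      have : p = n * (n⁻¹ * p * n) * n⁻¹ := by group
      rw [this, hk']
      group
    · exact h0
  obtain ⟨j, ε, hεE, hj⟩ := hE (k % q) (Nat.mod_lt _ (by omega)) hk0
  have e1 : (n * h ^ j)⁻¹ * p * (n * h ^ j) = p ^ ε := by
    have : (n * h ^ j)⁻¹ * p * (n * h ^ j) = (h ^ j)⁻¹ * (n⁻¹ * p * n) * h ^ j := by group
    rw [this, hk', conj_rel_pow_pow hph, pow_eq_pow_iff_modEq, hp]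
    exact hj
  by_cases hε : ε % q = 1 % q
  · have e2 : (n * h ^ j)⁻¹ * p * (n * h ^ j) = p := by
      rw [e1]
      conv_rhs => rw [← pow_one p]
      rw [pow_eq_pow_iff_modEq, hp]
      exact hε
    obtain ⟨i, hi⟩ := hC _ e2
    obtain ⟨j', hj'⟩ := exists_pow_eq_inv_pow h j
    refine ⟨i, j', ?_⟩
    rw [← hj', ← hi]
    group
  · exact absurd e1 (hT ε hεE hε _)

/-- the normalization of an automorphism on the two generators of the normalizer -/
theorem rigid_normalize_two [Finite G] (q r e m μ : ℕ) [hq : Fact q.Prime] (E : List ℕ) (p h : G)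
    (hcard : Nat.card G = q * m) (hm : ¬ q ∣ m)
    (hp : orderOf p = q) (hh : orderOf h = e) (he : 0 < e)
    (hph : h⁻¹ * p * h = p ^ r)
    (hr1 : r ^ e % q = 1 % q)
    (hord : ∀ j < e, r ^ j % q = r % q → j = 1)
    (hE : ∀ k < q, 0 < k → ∃ j, ∃ ε ∈ E, r ^ j * k % q = ε % q)
    (hEc : ∀ ε ∈ E, Nat.Coprime ε q)
    (hμ : r * (μ + 1) % q = μ % q)
    (hN : ∀ n : G, (∃ k : ℕ, n⁻¹ * p * n = p ^ k) → ∃ i j : ℕ, n = p ^ i * h ^ j)
    (α : MulAut G) :
    ∃ g : G, ∃ ε ∈ E, (MulAut.conj g * α) p = p ^ ε ∧ (MulAut.conj g * α) h = h := by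
  have hq1 : 1 < q := hq.out.one_lt
  have hp1 : p ≠ 1 := by
    intro h1
    rw [h1, orderOf_one] at hp
    omega
  have hshape : ∀ (n : G) (k : ℕ), n⁻¹ * p * n = p ^ k → ∃ i j : ℕ, n = p ^ i * h ^ j ∧
      r ^ j % q = k % q := by
    intro n k hk
    obtain ⟨i, j, rfl⟩ := hN n ⟨k, hk⟩
    refine ⟨i, j, rfl, ?_⟩
    have e1 : (p ^ i * h ^ j)⁻¹ * p * (p ^ i * h ^ j) = (h ^ j)⁻¹ * p ^ 1 * h ^ j := by
      rw [mul_inv_rev, pow_one]
      have : (p ^ i)⁻¹ * p * p ^ i = p := by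
        rw [mul_assoc, (Commute.self_pow p i).eq, ← mul_assoc, inv_mul_cancel, one_mul]
      calc (h ^ j)⁻¹ * (p ^ i)⁻¹ * p * (p ^ i * h ^ j)
          = (h ^ j)⁻¹ * ((p ^ i)⁻¹ * p * p ^ i) * h ^ j := by group
        _ = (h ^ j)⁻¹ * p * h ^ j := by rw [this]
    rw [e1, conj_rel_pow_pow hph, mul_one] at hk
    have := (pow_eq_pow_iff_modEq).mp hk
    rw [hp] at this
    exact this
  have hph' : ∀ i : ℕ, p ^ i * h = h * p ^ (r * i) := by
    intro i
    have := conj_rel_pow hph i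
    rw [← this]
    group
  obtain ⟨g, k, hkq, hgk⟩ := exists_conj_pow' q p m hcard hm hp α
  have hk0 : 0 < k := by
    rcases Nat.eq_zero_or_pos k with rfl | h0
    · exfalso
      rw [pow_zero] at hgk
      have : α p = 1 := by
        have : α p = g⁻¹ * (g * α p * g⁻¹) * g := by group
        rw [this, hgk]
        group
      exact hp1 (by simpa using this)
    · exact h0
  obtain ⟨j, ε, hεE, hj⟩ := hE k hkq hk0
  set α₂ : MulAut G := MulAut.conj ((h ^ j)⁻¹) * (MulAut.conj g * α) with hα₂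
  have hα₂p : α₂ p = p ^ ε := by
    rw [hα₂, MulAut.mul_apply, MulAut.mul_apply, MulAut.conj_apply, MulAut.conj_apply, hgk, inv_inv,
      conj_rel_pow_pow hph, pow_eq_pow_iff_modEq, hp]
    exact hj
  have e1 : (α₂ h)⁻¹ * p ^ ε * α₂ h = p ^ (ε * r) := by
    have : α₂ (h⁻¹ * p * h) = α₂ (p ^ r) := by rw [hph]
    rw [map_mul, map_mul, map_inv, map_pow, hα₂p, ← pow_mul] at this
    exact this
  obtain ⟨ε', -, hε'⟩ := Nat.exists_mul_mod_eq_one_of_coprime (hEc ε hεE) hq1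
  have e2 : (α₂ h)⁻¹ * p * α₂ h = p ^ (ε * r * ε') := by
    have h1 : p = (p ^ ε) ^ ε' := by
      rw [← pow_mul]
      conv_lhs => rw [← pow_one p]
      rw [pow_eq_pow_iff_modEq, hp]
      show 1 % q = (ε * ε') % q
      rw [hε', Nat.mod_eq_of_lt hq1]
    have h2 : ((α₂ h)⁻¹ * p ^ ε * (α₂ h)⁻¹⁻¹) ^ ε' = (α₂ h)⁻¹ * (p ^ ε) ^ ε' * (α₂ h)⁻¹⁻¹ := conj_pow
    rw [inv_inv] at h2
    conv_lhs => rw [h1]
    rw [← h2, e1, ← pow_mul]
  obtain ⟨i, j', hij, hj'⟩ := hshape (α₂ h) _ e2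
  have hj1 : r ^ j' % q = r % q := by
    rw [hj']
    have : ε * r * ε' = r * (ε * ε') := by ring
    rw [this, Nat.mul_mod, hε', Nat.mul_one, Nat.mod_mod]
  have hj2 : j' % e = 1 := by
    apply hord (j' % e) (Nat.mod_lt _ he)
    rw [← pow_mod_period hr1, hj1]
  have hhj : h ^ j' = h := by
    rw [← pow_mod_orderOf, hh, hj2, pow_one]
  rw [hhj] at hij
  set α₃ : MulAut G := MulAut.conj (p ^ (μ * i)) * α₂ with hα₃
  have hα₃p : α₃ p = p ^ ε := by
    rw [hα₃, MulAut.mul_apply, MulAut.conj_apply, hα₂p, ← pow_add, add_comm, pow_add, mul_assoc,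
      mul_inv_cancel, mul_one]
  have hα₃h : α₃ h = h := by
    rw [hα₃, MulAut.mul_apply, MulAut.conj_apply, hij]
    have e3 : p ^ (μ * i) * (p ^ i * h) = p ^ (μ * i + i) * h := by
      rw [← mul_assoc, ← pow_add]
    have e4 : p ^ (r * (μ * i + i)) = p ^ (μ * i) := by
      rw [pow_eq_pow_iff_modEq, hp]
      show (r * (μ * i + i)) % q = (μ * i) % q
      have : r * (μ * i + i) = (r * (μ + 1)) * i := by ring
      rw [this, Nat.mul_mod, hμ, ← Nat.mul_mod]
    rw [e3, hph' (μ * i + i), e4, mul_assoc, mul_inv_cancel, mul_one]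
  refine ⟨p ^ (μ * i) * ((h ^ j)⁻¹ * g), ε, hεE, ?_⟩
  have e5 : MulAut.conj (p ^ (μ * i) * ((h ^ j)⁻¹ * g)) * α = α₃ := by
    rw [hα₃, hα₂, map_mul, map_mul]
    simp only [mul_assoc]
  rw [e5]
  exact ⟨hα₃p, hα₃h⟩

/-- the outer automorphism group has order two, from the classification of the normalized
automorphisms -/
theorem card_out_two_of_normalized_two (E : List ℕ) (p h : G) (β : MulAut G)
    (hβ : β ∉ (MulAut.conj : G →* MulAut G).range)
    (hnorm : ∀ α : MulAut G, ∃ g : G, ∃ ε ∈ E, (MulAut.conj g * α) p = p ^ ε ∧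
      (MulAut.conj g * α) h = h)
    (hclass : ∀ (α : MulAut G) (ε : ℕ), ε ∈ E → α p = p ^ ε → α h = h → α = 1 ∨ α = β) :
    Nat.card (Cfsg.Out G) = 2 := by
  refine card_out_eq_two β hβ ?_
  intro α hα
  obtain ⟨g, ε, hε, h1, h2⟩ := hnorm α
  rcases hclass _ ε hε h1 h2 with h4 | h4
  · exfalso
    apply hα
    have : α = (MulAut.conj g)⁻¹ := eq_inv_of_mul_eq_one_right h4
    rw [this]
    exact Subgroup.inv_mem _ ⟨g, rfl⟩
  · have : α * β⁻¹ = (MulAut.conj g)⁻¹ := by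
      rw [← h4]
      group
    rw [this]
    exact Subgroup.inv_mem _ ⟨g, rfl⟩

/-- the outer automorphism group is trivial, from the classification of the normalized
automorphisms -/
theorem card_out_one_of_normalized_two (E : List ℕ) (p h : G)
    (hnorm : ∀ α : MulAut G, ∃ g : G, ∃ ε ∈ E, (MulAut.conj g * α) p = p ^ ε ∧
      (MulAut.conj g * α) h = h)
    (hclass : ∀ (α : MulAut G) (ε : ℕ), ε ∈ E → α p = p ^ ε → α h = h → α = 1) :
    Nat.card (Cfsg.Out G) = 1 := by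
  refine card_out_eq_one ?_
  intro α
  obtain ⟨g, ε, hε, h1, h2⟩ := hnorm α
  have h4 := hclass _ ε hε h1 h2
  have : α = (MulAut.conj g)⁻¹ := eq_inv_of_mul_eq_one_right h4
  rw [this]
  exact Subgroup.inv_mem _ ⟨g, rfl⟩

/-- an automorphism mapping `p` to a power to which it is not conjugate is not inner -/
theorem not_inner_of_pow (p : G) (ε : ℕ) (hT : ∀ g : G, g⁻¹ * p * g ≠ p ^ ε) (β : MulAut G)
    (hβ : β p = p ^ ε) : β ∉ (MulAut.conj : G →* MulAut G).range := by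
  rintro ⟨k, hk⟩
  apply hT k⁻¹
  rw [inv_inv, ← MulAut.conj_apply, hk, hβ]

end Cfsg.Agent.Lib.Helper2.RigidOut
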