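import Mathlib
import Cfsg.Prelude.Def_Transfer

/-!
# S4415, abstract setting (Theorem T of `notes/S4415_paper_helper2.md`), part A

The structure `Setup`, the linear algebra of `N = ρ b - 1`, generation by conjugates of `b`.
-/

set_option autoImplicit false

namespace Cfsg.Agent.Lib.Helper2.Cub

variable {G : Type*} [Group G] {W : Type*} [AddCommGroup W] [Module (ZMod 3) W]

theorem cubA_three (w : W) : w + w + w = 0 := by
  have h : ((1 : ZMod 3) + 1 + 1) • w = 0 := by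
    rw [show ((1 : ZMod 3) + 1 + 1) = 0 from by decide, zero_smul]
  rwa [add_smul, add_smul, one_smul] at h

theorem cubA_neg_two (w : W) : -w - w = w := by
  have := cubA_three w
  calc -w - w = -w - w + (w + w + w) := by rw [this, add_zero]
    _ = w := by abel

/-- The operator `N = ρ b - 1`. -/
def nOp (ρ : Representation (ZMod 3) G W) (b : G) : W →ₗ[ZMod 3] W := ρ b - 1

theorem nOp_apply (ρ : Representation (ZMod 3) G W) (b : G) (v : W) : nOp ρ b v = ρ b v - v := by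
  simp [nOp]

theorem rho_mul_apply (ρ : Representation (ZMod 3) G W) (g h : G) (v : W) :
    ρ (g * h) v = ρ g (ρ h v) := by
  rw [map_mul]; rfl

theorem rho_one_apply (ρ : Representation (ZMod 3) G W) (v : W) : ρ 1 v = v := by
  rw [map_one]; rfl

theorem rho_inv_apply (ρ : Representation (ZMod 3) G W) (g : G) (v : W) : ρ g⁻¹ (ρ g v) = v := by
  rw [← rho_mul_apply, inv_mul_cancel, rho_one_apply]

theorem rho_apply_inv (ρ : Representation (ZMod 3) G W) (g : G) (v : W) : ρ g (ρ g⁻¹ v) = v := by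
  rw [← rho_mul_apply, mul_inv_cancel, rho_one_apply]

theorem rho_injective (ρ : Representation (ZMod 3) G W) (g : G) : Function.Injective (ρ g) := by
  intro v w h
  have := congrArg (ρ g⁻¹) h
  rwa [rho_inv_apply, rho_inv_apply] at this

theorem rho_cube (ρ : Representation (ZMod 3) G W) {b : G} (hb3 : b ^ 3 = 1) (v : W) :
    ρ b (ρ b (ρ b v)) = v := by
  rw [← rho_mul_apply, ← rho_mul_apply, show b * b * b = b ^ 3 from by rw [pow_succ, pow_two], hb3, rho_one_apply]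

theorem nOp_sq_apply (ρ : Representation (ZMod 3) G W) (b : G) (v : W) :
    nOp ρ b (nOp ρ b v) = ρ b (ρ b v) + ρ b v + v := by
  simp only [nOp_apply, map_sub]
  have := cubA_neg_two (ρ b v)
  calc ρ b (ρ b v) - ρ b v - (ρ b v - v) = ρ b (ρ b v) + (-(ρ b v) - ρ b v) + v := by abel
    _ = ρ b (ρ b v) + ρ b v + v := by rw [this]

theorem nOp_cube (ρ : Representation (ZMod 3) G W) {b : G} (hb3 : b ^ 3 = 1) (v : W) :
    nOp ρ b (nOp ρ b (nOp ρ b v)) = 0 := by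
  rw [nOp_sq_apply, nOp_apply, map_sub, map_sub, rho_cube ρ hb3]
  abel

theorem nOp_comm_rho (ρ : Representation (ZMod 3) G W) (b : G) (v : W) :
    nOp ρ b (ρ b v) = ρ b (nOp ρ b v) := by
  simp only [nOp_apply, map_sub]

/-- The abstract setting of Theorem T. -/
structure Setup [Finite G] [Finite W] (ρ : Representation (ZMod 3) G W) (R Q : Subgroup G) (b : G) :
    Prop where
  faithful : Function.Injective ρ
  normalR : R.Normal
  solv : Group.IsSolvable G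
  coprimeR : (Nat.card R).Coprime 3
  b3 : b ^ 3 = 1
  gen : ∀ g : G, ∃ x ∈ R, ∃ i : ℕ, g = x * b ^ i
  comm : R ≤ Subgroup.closure {g | ∃ x ∈ R, g = x⁻¹ * b⁻¹ * x * b}
  imN : Nat.card (LinearMap.range (nOp ρ b)) ≤ 9
  N2 : ∃ v, nOp ρ b (nOp ρ b v) ≠ 0
  fixR : ∀ v, (∀ x ∈ R, ρ x v = v) → v = 0
  QleR : Q ≤ R
  Qcard : Nat.card Q = 4
  Qsq : ∀ q ∈ Q, q * q = 1
  Qnorm : ∀ q ∈ Q, b * q * b⁻¹ ∈ Q
  Qnc : ∃ q ∈ Q, b * q * b⁻¹ ≠ q

variable [Finite G] [Finite W] {ρ : Representation (ZMod 3) G W} {R Q : Subgroup G} {b : G}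

/-- `im N` is spanned by `N v, N² v` whenever `N² v ≠ 0`. -/
theorem Setup.range_N (h : Setup ρ R Q b) {v : W} (hv : nOp ρ b (nOp ρ b v) ≠ 0) (w : W) :
    ∃ α β : ZMod 3, nOp ρ b w = α • nOp ρ b v + β • nOp ρ b (nOp ρ b v) := by
  classical
  let f : ZMod 3 × ZMod 3 → LinearMap.range (nOp ρ b) := fun p =>
    ⟨p.1 • nOp ρ b v + p.2 • nOp ρ b (nOp ρ b v), by
      refine ⟨p.1 • v + p.2 • nOp ρ b v, ?_⟩
      simp only [map_add, map_smul]⟩
  have hinj : Function.Injective f := by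
    intro p p' hpp
    have h1 : p.1 • nOp ρ b v + p.2 • nOp ρ b (nOp ρ b v)
        = p'.1 • nOp ρ b v + p'.2 • nOp ρ b (nOp ρ b v) := congrArg Subtype.val hpp
    have h2 : (p.1 - p'.1) • nOp ρ b v + (p.2 - p'.2) • nOp ρ b (nOp ρ b v) = 0 := by
      rw [sub_smul, sub_smul]
      calc p.1 • nOp ρ b v - p'.1 • nOp ρ b v + (p.2 • nOp ρ b (nOp ρ b v) - p'.2 • nOp ρ b (nOp ρ b v))
          = (p.1 • nOp ρ b v + p.2 • nOp ρ b (nOp ρ b v))
            - (p'.1 • nOp ρ b v + p'.2 • nOp ρ b (nOp ρ b v)) := by abel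
        _ = 0 := by rw [h1, sub_self]
    have h3 := congrArg (nOp ρ b) h2
    simp only [map_add, map_smul, map_zero, nOp_cube ρ h.b3, smul_zero, add_zero] at h3
    have h4 : p.1 - p'.1 = 0 := (smul_eq_zero.mp h3).resolve_right hv
    rw [h4, zero_smul, zero_add] at h2
    have h5 : p.2 - p'.2 = 0 := (smul_eq_zero.mp h2).resolve_right hv
    exact Prod.ext (sub_eq_zero.mp h4) (sub_eq_zero.mp h5)
  have hcard : Nat.card (LinearMap.range (nOp ρ b)) ≤ Nat.card (ZMod 3 × ZMod 3) := by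
    have : Nat.card (ZMod 3 × ZMod 3) = 9 := by
      rw [Nat.card_prod, Nat.card_eq_fintype_card, ZMod.card]
    rw [this]; exact h.imN
  have hbij := hinj.bijective_of_nat_card_le hcard
  obtain ⟨p, hp⟩ := hbij.2 ⟨nOp ρ b w, w, rfl⟩
  exact ⟨p.1, p.2, (congrArg Subtype.val hp).symm⟩

theorem Setup.Nsq_multiple (h : Setup ρ R Q b) {v : W} (hv : nOp ρ b (nOp ρ b v) ≠ 0) (w : W) :
    ∃ α : ZMod 3, nOp ρ b (nOp ρ b w) = α • nOp ρ b (nOp ρ b v) := by
  obtain ⟨α, β, hαβ⟩ := h.range_N hv w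
  refine ⟨α, ?_⟩
  rw [hαβ, map_add, map_smul, map_smul, nOp_cube ρ h.b3, smul_zero, add_zero]

/-- (B0): `b` is trivial on one of two complementary `b`-invariant subspaces. -/
theorem Setup.triv_or_triv (h : Setup ρ R Q b) (W1 W2 : Submodule (ZMod 3) W) (hdisj : W1 ⊓ W2 = ⊥)
    (hsup : W1 ⊔ W2 = ⊤) (h1 : ∀ v ∈ W1, ρ b v ∈ W1) (h2 : ∀ v ∈ W2, ρ b v ∈ W2) :
    (∀ v ∈ W1, ρ b v = v) ∨ (∀ v ∈ W2, ρ b v = v) := by
  obtain ⟨v, hv⟩ := h.N2
  have hvmem : v ∈ W1 ⊔ W2 := by rw [hsup]; trivial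
  obtain ⟨v1, hv1, v2, hv2, rfl⟩ := Submodule.mem_sup.mp hvmem
  have hN1 : ∀ u ∈ W1, nOp ρ b u ∈ W1 := fun u hu => by
    rw [nOp_apply]; exact W1.sub_mem (h1 u hu) hu
  have hN2 : ∀ u ∈ W2, nOp ρ b u ∈ W2 := fun u hu => by
    rw [nOp_apply]; exact W2.sub_mem (h2 u hu) hu
  have key : ∀ (A B : Submodule (ZMod 3) W), A ⊓ B = ⊥ → (∀ u ∈ A, nOp ρ b u ∈ A) →
      (∀ u ∈ B, nOp ρ b u ∈ B) → ∀ a ∈ A, nOp ρ b (nOp ρ b a) ≠ 0 → ∀ u ∈ B, ρ b u = u := by
    intro A B hAB hA hB a ha hne u hu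
    obtain ⟨α, β, hαβ⟩ := h.range_N hne u
    have hmemA : nOp ρ b u ∈ A := by
      rw [hαβ]
      exact A.add_mem (A.smul_mem _ (hA a ha)) (A.smul_mem _ (hA _ (hA a ha)))
    have hmem : nOp ρ b u ∈ A ⊓ B := ⟨hmemA, hB u hu⟩
    rw [hAB, Submodule.mem_bot, nOp_apply, sub_eq_zero] at hmem
    exact hmem
  by_cases hc : nOp ρ b (nOp ρ b v1) = 0
  · left
    have hne2 : nOp ρ b (nOp ρ b v2) ≠ 0 := by
      intro h0
      apply hv
      rw [map_add, map_add, hc, h0, add_zero]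
    exact key W2 W1 (by rw [inf_comm]; exact hdisj) hN2 hN1 v2 hv2 hne2
  · right
    exact key W1 W2 hdisj hN1 hN2 v1 hv1 hc

theorem Setup.b_mem_normalClosure (_h : Setup ρ R Q b) : b ∈ Subgroup.normalClosure ({b} : Set G) :=
  Subgroup.subset_normalClosure (Set.mem_singleton b)

theorem Setup.R_le_of_normal (h : Setup ρ R Q b) (H : Subgroup G) [H.Normal] (hb : b ∈ H) : R ≤ H := by
  refine le_trans h.comm ?_
  rw [Subgroup.closure_le]
  rintro g ⟨x, _, rfl⟩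
  have h1 : x⁻¹ * b⁻¹ * x ∈ H := by
    have := ‹H.Normal›.conj_mem b⁻¹ (H.inv_mem hb) x⁻¹
    simpa using this
  exact H.mul_mem h1 hb

/-- (G0): a normal subgroup containing `b` is everything. -/
theorem Setup.eq_top_of_normal (h : Setup ρ R Q b) (H : Subgroup G) [H.Normal] (hb : b ∈ H) : H = ⊤ := by
  rw [eq_top_iff]
  intro g _
  obtain ⟨x, hx, i, rfl⟩ := h.gen g
  exact H.mul_mem (h.R_le_of_normal H hb hx) (H.pow_mem hb i)

theorem Setup.normalClosure_eq_top (h : Setup ρ R Q b) : Subgroup.normalClosure ({b} : Set G) = ⊤ :=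
  h.eq_top_of_normal _ h.b_mem_normalClosure

/-- If `b` is trivial on a `G`-invariant subspace then so is `R`. -/
theorem Setup.R_triv_of_b_triv (h : Setup ρ R Q b) (M : Submodule (ZMod 3) W)
    (hinv : ∀ g : G, ∀ v ∈ M, ρ g v ∈ M) (hb : ∀ v ∈ M, ρ b v = v) :
    ∀ x ∈ R, ∀ v ∈ M, ρ x v = v := by
  let H : Subgroup G :=
    { carrier := {g | ∀ v ∈ M, ρ g v = v}
      one_mem' := fun v _ => rho_one_apply ρ v
      mul_mem' := fun {a c} ha hc v hv => by
        rw [rho_mul_apply, hc v hv, ha v hv]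
      inv_mem' := fun {a} ha v hv => by
        have := rho_inv_apply ρ a v
        rwa [ha v hv] at this }
  have hle : R ≤ H := by
    refine le_trans h.comm ?_
    rw [Subgroup.closure_le]
    rintro g ⟨x, _, rfl⟩ v hv
    have hbinv : ∀ u ∈ M, ρ b⁻¹ u = u := fun u hu => by
      have := rho_inv_apply ρ b u
      rwa [hb u hu] at this
    rw [rho_mul_apply, rho_mul_apply, rho_mul_apply, hb v hv, hbinv _ (hinv x v hv), rho_inv_apply]
  intro x hx v hv
  exact hle hx v hv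

/-- If `b` is trivial on `W / M` (`M` a `G`-invariant subspace) then so is `R`. -/
theorem Setup.R_triv_quot_of_b_triv (h : Setup ρ R Q b) (M : Submodule (ZMod 3) W)
    (hinv : ∀ g : G, ∀ v ∈ M, ρ g v ∈ M) (hb : ∀ v : W, ρ b v - v ∈ M) :
    ∀ x ∈ R, ∀ v : W, ρ x v - v ∈ M := by
  let H : Subgroup G :=
    { carrier := {g | ∀ v : W, ρ g v - v ∈ M}
      one_mem' := fun v => by rw [rho_one_apply, sub_self]; exact M.zero_mem
      mul_mem' := fun {a c} ha hc v => by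
        rw [rho_mul_apply]
        have h1 : ρ a (ρ c v) - v = (ρ a (ρ c v) - ρ c v) + (ρ c v - v) := by abel
        rw [h1]
        exact M.add_mem (ha _) (hc v)
      inv_mem' := fun {a} ha v => by
        have h1 := ha (ρ a⁻¹ v)
        rw [rho_apply_inv] at h1
        have h2 : ρ a⁻¹ v - v = -(v - ρ a⁻¹ v) := by abel
        rw [h2]
        exact M.neg_mem h1 }
  have hbH : b ∈ H := hb
  have hle : R ≤ H := by
    refine le_trans h.comm ?_
    rw [Subgroup.closure_le]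
    rintro g ⟨x, _, rfl⟩ v
    -- x⁻¹ b⁻¹ x b v - v = x⁻¹ (b⁻¹ (x b v) - x b v) + x⁻¹ x (b v - v)
    have hbinv : b⁻¹ ∈ H := H.inv_mem hbH
    rw [rho_mul_apply, rho_mul_apply, rho_mul_apply]
    have h1 : ρ x⁻¹ (ρ b⁻¹ (ρ x (ρ b v))) - v
        = ρ x⁻¹ (ρ b⁻¹ (ρ x (ρ b v)) - ρ x (ρ b v)) + ρ x⁻¹ (ρ x (ρ b v - v)) := by
      rw [map_sub, map_sub, map_sub, rho_inv_apply, rho_inv_apply]
      abel
    rw [h1]
    exact M.add_mem (hinv _ _ (hbinv _)) (hinv _ _ (hinv _ _ (hb v)))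
  intro x hx v
  exact hle hx v

/-- `W = [W, R]`: a `G`-invariant subspace `M` with `R` trivial on `W / M` is everything. -/
theorem Setup.eq_top_of_R_triv_quot (h : Setup ρ R Q b) (M : Submodule (ZMod 3) W)
    (hR : ∀ x ∈ R, ∀ v : W, ρ x v - v ∈ M) : M = ⊤ := by
  classical
  letI : Fintype R := Fintype.ofFinite R
  rw [eq_top_iff]
  intro w _
  -- the sum over R of x w is fixed by R, hence zero
  have hfix : (∑ x : R, ρ (x : G) w) = 0 := by
    apply h.fixR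
    intro y hy
    rw [map_sum]
    have : ∀ x : R, ρ y (ρ (x : G) w) = ρ ((⟨y, hy⟩ * x : R) : G) w := by
      intro x
      rw [Subgroup.coe_mul, rho_mul_apply]
    simp_rw [this]
    exact Fintype.sum_bijective (fun x : R => (⟨y, hy⟩ : R) * x)
      (Group.mulLeft_bijective _) _ _ (fun _ => rfl)
  have hsum : (∑ x : R, (ρ (x : G) w - w)) ∈ M :=
    M.sum_mem (fun x _ => hR x x.2 w)
  rw [Finset.sum_sub_distrib, hfix, zero_sub, Finset.sum_const, Finset.card_univ] at hsum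
  have hsum' : (Fintype.card R) • w ∈ M := by
    have := M.neg_mem hsum
    rwa [neg_neg] at this
  rw [← Nat.card_eq_fintype_card] at hsum'
  -- |R| is invertible mod 3
  have hunit : IsUnit ((Nat.card R : ℕ) : ZMod 3) := by
    rw [ZMod.isUnit_iff_coprime]
    exact h.coprimeR
  obtain ⟨u, hu⟩ := hunit
  have h1 : ((Nat.card R : ℕ) : ZMod 3) • w ∈ M := by
    rw [Nat.cast_smul_eq_nsmul]; exact hsum'
  have h2 : (↑u⁻¹ : ZMod 3) • (((Nat.card R : ℕ) : ZMod 3) • w) ∈ M := M.smul_mem _ h1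
  rwa [smul_smul, ← hu, Units.inv_mul, one_smul] at h2

end Cfsg.Agent.Lib.Helper2.Cub
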