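import Mathlib
import Cfsg.Agent.Lib.Helper2.CubA

/-!
# S4415, abstract setting, part B: the frame given by the four-group `Q`
-/

set_option autoImplicit false

namespace Cfsg.Agent.Lib.Helper2.Cub

variable {G : Type*} [Group G] {W : Type*} [AddCommGroup W] [Module (ZMod 3) W]

theorem cubB_two_eq_zero {w : W} (h : w + w = 0) : w = 0 := by
  have h3 := cubA_three w
  calc w = (w + w + w) - (w + w) := by abel
    _ = 0 := by rw [h3, h, sub_zero]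

theorem cubB_conj (ρ : Representation (ZMod 3) G W) (g q : G) (u : W) :
    ρ q (ρ g u) = ρ g (ρ (g⁻¹ * q * g) u) := by
  rw [← rho_mul_apply, ← rho_mul_apply]
  congr 2
  group

/-- The frame without the decomposition: `Q = {1, q1, q2, q3}` cyclically permuted by `b`, weight
vectors `e1, e2, e3`. -/
structure PreFrame (ρ : Representation (ZMod 3) G W) (Q : Subgroup G) (b : G) (q1 q2 q3 : G)
    (e1 e2 e3 : W) : Prop where
  hq1 : q1 ∈ Q
  hq2 : q2 ∈ Q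
  hq3 : q3 ∈ Q
  hQ : ∀ q ∈ Q, q = 1 ∨ q = q1 ∨ q = q2 ∨ q = q3
  c1 : b * q1 * b⁻¹ = q2
  c2 : b * q2 * b⁻¹ = q3
  c3 : b * q3 * b⁻¹ = q1
  m12 : q1 * q2 = q3
  m21 : q2 * q1 = q3
  s1 : q1 * q1 = 1
  s2 : q2 * q2 = 1
  s3 : q3 * q3 = 1
  ne1 : q1 ≠ 1
  ne2 : q2 ≠ 1
  ne3 : q3 ≠ 1
  ne12 : q1 ≠ q2
  ne13 : q1 ≠ q3
  ne23 : q2 ≠ q3
  e1ne : e1 ≠ 0
  be1 : ρ b e1 = e2
  be2 : ρ b e2 = e3
  be3 : ρ b e3 = e1
  q1e1 : ρ q1 e1 = e1
  q1e2 : ρ q1 e2 = -e2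
  q1e3 : ρ q1 e3 = -e3
  q2e1 : ρ q2 e1 = -e1
  q2e2 : ρ q2 e2 = e2
  q2e3 : ρ q2 e3 = -e3
  q3e1 : ρ q3 e1 = -e1
  q3e2 : ρ q3 e2 = -e2
  q3e3 : ρ q3 e3 = e3

/-- The frame: a `PreFrame` together with the decomposition `W = ⟨e1, e2, e3⟩ ⊕ C_W(Q)` and the
triviality of `b` on `C_W(Q)`. -/
structure Frame (ρ : Representation (ZMod 3) G W) (Q : Subgroup G) (b : G) (q1 q2 q3 : G)
    (e1 e2 e3 : W) : Prop extends PreFrame ρ Q b q1 q2 q3 e1 e2 e3 where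
  decomp : ∀ w : W, ∃ a1 a2 a3 : ZMod 3, ∃ w0 : W,
    w = a1 • e1 + a2 • e2 + a3 • e3 + w0 ∧ ρ q1 w0 = w0 ∧ ρ q2 w0 = w0
  bfix : ∀ w0 : W, ρ q1 w0 = w0 → ρ q2 w0 = w0 → ρ b w0 = w0

section

variable {ρ : Representation (ZMod 3) G W} {Q : Subgroup G} {b : G} {q1 q2 q3 : G} {e1 e2 e3 : W}

theorem PreFrame.q3fix (F : PreFrame ρ Q b q1 q2 q3 e1 e2 e3) {w0 : W} (h1 : ρ q1 w0 = w0)
    (h2 : ρ q2 w0 = w0) : ρ q3 w0 = w0 := by
  rw [← F.m12, rho_mul_apply, h2, h1]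

theorem PreFrame.e2ne (F : PreFrame ρ Q b q1 q2 q3 e1 e2 e3) : e2 ≠ 0 := by
  intro h
  apply F.e1ne
  have := F.be1
  rw [h] at this
  exact rho_injective ρ b (by rw [this, map_zero])

theorem PreFrame.e3ne (F : PreFrame ρ Q b q1 q2 q3 e1 e2 e3) : e3 ≠ 0 := by
  intro h
  apply F.e2ne
  have := F.be2
  rw [h] at this
  exact rho_injective ρ b (by rw [this, map_zero])

/-- Independence of `e1, e2, e3` and the `Q`-fixed part. -/
theorem PreFrame.indep (F : PreFrame ρ Q b q1 q2 q3 e1 e2 e3) {a1 a2 a3 : ZMod 3} {w0 : W}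
    (h1 : ρ q1 w0 = w0) (h2 : ρ q2 w0 = w0) (h0 : a1 • e1 + a2 • e2 + a3 • e3 + w0 = 0) :
    a1 = 0 ∧ a2 = 0 ∧ a3 = 0 ∧ w0 = 0 := by
  have hq1 := congrArg (ρ q1) h0
  have hq2 := congrArg (ρ q2) h0
  simp only [map_add, map_smul, map_zero, F.q1e1, F.q1e2, F.q1e3, F.q2e1, F.q2e2, F.q2e3, h1, h2,
    smul_neg] at hq1 hq2
  -- h0 : x1 + x2 + x3 + w0 = 0 ; hq1 : x1 - x2 - x3 + w0 = 0 ; hq2 : -x1 + x2 - x3 + w0 = 0
  have hA : (a2 • e2 + a3 • e3) + (a2 • e2 + a3 • e3) = 0 := by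
    have : (a1 • e1 + a2 • e2 + a3 • e3 + w0) - (a1 • e1 + -(a2 • e2) + -(a3 • e3) + w0) = 0 := by
      rw [h0, hq1, sub_zero]
    rw [← this]; abel
  have hA' := cubB_two_eq_zero hA
  have hB : (a1 • e1 + a3 • e3) + (a1 • e1 + a3 • e3) = 0 := by
    have : (a1 • e1 + a2 • e2 + a3 • e3 + w0) - (-(a1 • e1) + a2 • e2 + -(a3 • e3) + w0) = 0 := by
      rw [h0, hq2, sub_zero]
    rw [← this]; abel
  have hB' := cubB_two_eq_zero hB
  -- from hA', hB' and h0: a1 e1 + w0 = 0 and a2 e2 + w0 = 0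
  have hC : a1 • e1 + w0 = 0 := by
    calc a1 • e1 + w0 = (a1 • e1 + a2 • e2 + a3 • e3 + w0) - (a2 • e2 + a3 • e3) := by abel
      _ = 0 := by rw [h0, hA', sub_zero]
  have hD : a2 • e2 + w0 = 0 := by
    calc a2 • e2 + w0 = (a1 • e1 + a2 • e2 + a3 • e3 + w0) - (a1 • e1 + a3 • e3) := by abel
      _ = 0 := by rw [h0, hB', sub_zero]
  -- apply q2 to hC: -a1 e1 + w0 = 0
  have hC2 := congrArg (ρ q2) hC
  simp only [map_add, map_smul, map_zero, F.q2e1, h2, smul_neg] at hC2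
  have hw : w0 + w0 = 0 := by
    calc w0 + w0 = (a1 • e1 + w0) + (-(a1 • e1) + w0) := by abel
      _ = 0 := by rw [hC, hC2, add_zero]
  have hw0 := cubB_two_eq_zero hw
  rw [hw0, add_zero] at hC hD
  have ha1 : a1 = 0 := (smul_eq_zero.mp hC).resolve_right F.e1ne
  have ha2 : a2 = 0 := (smul_eq_zero.mp hD).resolve_right F.e2ne
  rw [ha2, zero_smul, zero_add] at hA'
  have ha3 : a3 = 0 := (smul_eq_zero.mp hA').resolve_right F.e3ne
  exact ⟨ha1, ha2, ha3, hw0⟩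

end

variable [Finite G] [Finite W] {ρ : Representation (ZMod 3) G W} {R Q : Subgroup G} {b : G}

/-- The group-theoretic part of the frame. -/
theorem Setup.exists_q (h : Setup ρ R Q b) : ∃ q1 q2 q3 : G, q1 ∈ Q ∧ q2 ∈ Q ∧ q3 ∈ Q ∧
    (∀ q ∈ Q, q = 1 ∨ q = q1 ∨ q = q2 ∨ q = q3) ∧
    b * q1 * b⁻¹ = q2 ∧ b * q2 * b⁻¹ = q3 ∧ b * q3 * b⁻¹ = q1 ∧ q1 * q2 = q3 ∧ q2 * q1 = q3 ∧
    q1 * q1 = 1 ∧ q2 * q2 = 1 ∧ q3 * q3 = 1 ∧ q1 ≠ 1 ∧ q2 ≠ 1 ∧ q3 ≠ 1 ∧ q1 ≠ q2 ∧ q1 ≠ q3 ∧ q2 ≠ q3 := by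
  classical
  obtain ⟨q1, hq1, hne⟩ := h.Qnc
  have hq2 : b * q1 * b⁻¹ ∈ Q := h.Qnorm q1 hq1
  have hq3 : b * (b * q1 * b⁻¹) * b⁻¹ ∈ Q := h.Qnorm _ hq2
  set q2 := b * q1 * b⁻¹ with hq2def
  set q3 := b * q2 * b⁻¹ with hq3def
  have hbinv : b⁻¹ = b * b := by
    have : b * b * b = 1 := by rw [← h.b3, pow_succ, pow_two]
    calc b⁻¹ = b⁻¹ * (b * b * b) := by rw [this, mul_one]
      _ = b * b := by group
  have hc3 : b * q3 * b⁻¹ = q1 := by
    rw [hq3def, hq2def]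
    have : b * (b * (b * q1 * b⁻¹) * b⁻¹) * b⁻¹ = (b * b * b) * q1 * (b * b * b)⁻¹ := by group
    rw [this]
    have h3 : b * b * b = 1 := by rw [← h.b3, pow_succ, pow_two]
    rw [h3]; group
  have hq1ne : q1 ≠ 1 := by
    intro h1
    apply hne
    rw [hq2def, h1]; group
  have h12 : q1 ≠ q2 := fun h12 => hne h12.symm
  have h23 : q2 ≠ q3 := by
    intro h23
    apply h12
    -- conjugate back by b⁻¹
    have : b⁻¹ * q2 * b = b⁻¹ * q3 * b := by rw [← h23]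
    rw [hq3def] at this
    have e1 : b⁻¹ * q2 * b = q1 := by rw [hq2def]; group
    have e2 : b⁻¹ * (b * q2 * b⁻¹) * b = q2 := by group
    rw [e1, e2] at this
    exact this
  have h13 : q1 ≠ q3 := by
    intro h13
    -- then b centralizes... q1 = b q3 b⁻¹ = b q1 b⁻¹ = q2
    apply h12
    calc q1 = b * q3 * b⁻¹ := hc3.symm
      _ = b * q1 * b⁻¹ := by rw [← h13]
      _ = q2 := rfl
  have hq2ne : q2 ≠ 1 := by
    intro h1
    apply hq1ne
    have : b⁻¹ * q2 * b = q1 := by rw [hq2def]; group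
    rw [← this, h1]; group
  have hq3ne : q3 ≠ 1 := by
    intro h1
    apply hq2ne
    have : b⁻¹ * q3 * b = q2 := by rw [hq3def]; group
    rw [← this, h1]; group
  -- Q = {1, q1, q2, q3}
  have hQall : ∀ q ∈ Q, q = 1 ∨ q = q1 ∨ q = q2 ∨ q = q3 := by
    intro q hq
    by_contra hcon
    push Not at hcon
    obtain ⟨n1, n2, n3, n4⟩ := hcon
    letI : Fintype Q := Fintype.ofFinite Q
    have hcard : Fintype.card Q = 4 := by rw [← Nat.card_eq_fintype_card]; exact h.Qcard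
    let s : Finset Q := {⟨1, Q.one_mem⟩, ⟨q1, hq1⟩, ⟨q2, hq2⟩, ⟨q3, hq3⟩, ⟨q, hq⟩}
    have hs : s.card = 5 := by
      rw [Finset.card_insert_of_notMem, Finset.card_insert_of_notMem, Finset.card_insert_of_notMem,
        Finset.card_insert_of_notMem, Finset.card_singleton]
      · simp only [Finset.mem_singleton, Subtype.mk.injEq]; exact fun e => n4 e.symm
      · simp only [Finset.mem_insert, Finset.mem_singleton, Subtype.mk.injEq]
        rintro (e | e)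
        · exact h23 e
        · exact n3 e.symm
      · simp only [Finset.mem_insert, Finset.mem_singleton, Subtype.mk.injEq]
        rintro (e | e | e)
        · exact h12 e
        · exact h13 e
        · exact n2 e.symm
      · simp only [Finset.mem_insert, Finset.mem_singleton, Subtype.mk.injEq]
        rintro (e | e | e | e)
        · exact hq1ne e.symm
        · exact hq2ne e.symm
        · exact hq3ne e.symm
        · exact n1 e.symm
    have := Finset.card_le_univ s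
    omega
  have hs1 := h.Qsq q1 hq1
  have hs2 := h.Qsq q2 hq2
  have hs3 := h.Qsq q3 hq3
  have hprod : ∀ x ∈ Q, ∀ y ∈ Q, x * y = y * x := by
    intro x hx y hy
    have hxy := h.Qsq (x * y) (Q.mul_mem hx hy)
    have hx2 := h.Qsq x hx
    have hy2 := h.Qsq y hy
    calc x * y = x * y * ((y * x) * (y * x))⁻¹ * ((y * x) * (y * x)) := by group
      _ = x * y * (y * x * (y * x))⁻¹ * (y * x) * (y * x) := by group
      _ = (x * (y * y) * x) * ((y * x) * (y * x))⁻¹⁻¹⁻¹ * (y * x) * (y * x) * (y * x)⁻¹ * (y*x)⁻¹ * (y * x) := by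
          group
      _ = y * x := by
          rw [hy2, mul_one, hx2, h.Qsq (y * x) (Q.mul_mem hy hx)]
          group
  have hm12 : q1 * q2 = q3 := by
    rcases hQall (q1 * q2) (Q.mul_mem hq1 hq2) with e | e | e | e
    · exfalso
      apply h12
      calc q1 = q1 * (q2 * q2) := by rw [hs2, mul_one]
        _ = (q1 * q2) * q2 := by group
        _ = q2 := by rw [e, one_mul]
    · exfalso
      apply hq2ne
      calc q2 = q1⁻¹ * (q1 * q2) := by group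
        _ = 1 := by rw [e]; group
    · exfalso
      apply hq1ne
      calc q1 = (q1 * q2) * q2⁻¹ := by group
        _ = 1 := by rw [e]; group
    · exact e
  exact ⟨q1, q2, q3, hq1, hq2, hq3, hQall, rfl, rfl, hc3, hm12,
    by rw [← hprod q1 hq1 q2 hq2]; exact hm12, hs1, hs2, hs3, hq1ne, hq2ne, hq3ne, h12, h13, h23⟩


omit [Finite G] [Finite W] in
/-- The span of three vectors, as an explicit submodule. -/
def spanThree (e1 e2 e3 : W) : Submodule (ZMod 3) W where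
  carrier := {w | ∃ a1 a2 a3 : ZMod 3, w = a1 • e1 + a2 • e2 + a3 • e3}
  add_mem' := by
    rintro _ _ ⟨a1, a2, a3, rfl⟩ ⟨c1, c2, c3, rfl⟩
    exact ⟨a1 + c1, a2 + c2, a3 + c3, by simp only [add_smul]; abel⟩
  zero_mem' := ⟨0, 0, 0, by simp⟩
  smul_mem' := by
    rintro c _ ⟨a1, a2, a3, rfl⟩
    exact ⟨c * a1, c * a2, c * a3, by simp only [smul_add, smul_smul]⟩

omit [Finite G] [Finite W] in
theorem mem_spanThree {e1 e2 e3 w : W} :
    w ∈ spanThree e1 e2 e3 ↔ ∃ a1 a2 a3 : ZMod 3, w = a1 • e1 + a2 • e2 + a3 • e3 := Iff.rfl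

/-- The common fixed points of two elements. -/
def fixTwo (ρ : Representation (ZMod 3) G W) (q1 q2 : G) : Submodule (ZMod 3) W where
  carrier := {w | ρ q1 w = w ∧ ρ q2 w = w}
  add_mem' := by
    rintro u v ⟨hu1, hu2⟩ ⟨hv1, hv2⟩
    exact ⟨by rw [map_add, hu1, hv1], by rw [map_add, hu2, hv2]⟩
  zero_mem' := ⟨map_zero _, map_zero _⟩
  smul_mem' := by
    rintro c u ⟨hu1, hu2⟩
    exact ⟨by rw [map_smul, hu1], by rw [map_smul, hu2]⟩

omit [Finite G] [Finite W] in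
theorem mem_fixTwo {ρ : Representation (ZMod 3) G W} {q1 q2 : G} {w : W} :
    w ∈ fixTwo ρ q1 q2 ↔ ρ q1 w = w ∧ ρ q2 w = w := Iff.rfl

/-- Existence of the frame. -/
theorem Setup.exists_frame (h : Setup ρ R Q b) :
    ∃ (q1 q2 q3 : G) (e1 e2 e3 : W), Frame ρ Q b q1 q2 q3 e1 e2 e3 := by
  classical
  obtain ⟨q1, q2, q3, hq1, hq2, hq3, hQall, c1, c2, c3, m12, m21, s1, s2, s3, n1, n2, n3, n12, n13,
    n23⟩ := h.exists_q
  have m13 : q1 * q3 = q2 := by rw [← m12, ← mul_assoc, s1, one_mul]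
  have m23 : q2 * q3 = q1 := by rw [← m21, ← mul_assoc, s2, one_mul]
  have m31 : q3 * q1 = q2 := by rw [← m21, mul_assoc, s1, mul_one]
  have m32 : q3 * q2 = q1 := by rw [← m12, mul_assoc, s2, mul_one]
  have d1 : b⁻¹ * q1 * b = q3 := by rw [← c3]; group
  have d2 : b⁻¹ * q2 * b = q1 := by rw [← c1]; group
  have d3 : b⁻¹ * q3 * b = q2 := by rw [← c2]; group
  -- products of operators
  have r11 : ∀ w : W, ρ q1 (ρ q1 w) = w := fun w => by rw [← rho_mul_apply, s1, rho_one_apply]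
  have r22 : ∀ w : W, ρ q2 (ρ q2 w) = w := fun w => by rw [← rho_mul_apply, s2, rho_one_apply]
  have r12 : ∀ w : W, ρ q1 (ρ q2 w) = ρ q3 w := fun w => by rw [← rho_mul_apply, m12]
  have r13 : ∀ w : W, ρ q1 (ρ q3 w) = ρ q2 w := fun w => by rw [← rho_mul_apply, m13]
  have r21 : ∀ w : W, ρ q2 (ρ q1 w) = ρ q3 w := fun w => by rw [← rho_mul_apply, m21]
  have r23 : ∀ w : W, ρ q2 (ρ q3 w) = ρ q1 w := fun w => by rw [← rho_mul_apply, m23]
  -- the weight space W1 and its transport under b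
  have hW1b : ∀ u : W, ρ q1 u = u → ρ q2 u = -u → ρ q1 (ρ b u) = -(ρ b u) ∧ ρ q2 (ρ b u) = ρ b u := by
    intro u hu1 hu2
    have hu3 : ρ q3 u = -u := by rw [← m12, rho_mul_apply, hu2, map_neg, hu1]
    constructor
    · rw [cubB_conj, d1, hu3, map_neg]
    · rw [cubB_conj, d2, hu1]
  have hW2b : ∀ u : W, ρ q1 u = -u → ρ q2 u = u → ρ q1 (ρ b u) = -(ρ b u) ∧ ρ q2 (ρ b u) = -(ρ b u) := by
    intro u hu1 hu2
    have hu3 : ρ q3 u = -u := by rw [← m12, rho_mul_apply, hu2, hu1]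
    constructor
    · rw [cubB_conj, d1, hu3, map_neg]
    · rw [cubB_conj, d2, hu1, map_neg]
  have hW3b : ∀ u : W, ρ q1 u = -u → ρ q2 u = -u → ρ q1 (ρ b u) = ρ b u ∧ ρ q2 (ρ b u) = -(ρ b u) := by
    intro u hu1 hu2
    have hu3 : ρ q3 u = u := by rw [← m12, rho_mul_apply, hu2, map_neg, hu1, neg_neg]
    constructor
    · rw [cubB_conj, d1, hu3]
    · rw [cubB_conj, d2, hu1, map_neg]
  -- projections
  have hp1 : ∀ w : W, ρ q1 (w + ρ q1 w - ρ q2 w - ρ q3 w) = w + ρ q1 w - ρ q2 w - ρ q3 w ∧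
      ρ q2 (w + ρ q1 w - ρ q2 w - ρ q3 w) = -(w + ρ q1 w - ρ q2 w - ρ q3 w) := by
    intro w
    constructor
    · simp only [map_add, map_sub, r11, r12, r13]; abel
    · simp only [map_add, map_sub, r21, r22, r23]; abel
  have hp2 : ∀ w : W, ρ q1 (w - ρ q1 w + ρ q2 w - ρ q3 w) = -(w - ρ q1 w + ρ q2 w - ρ q3 w) ∧
      ρ q2 (w - ρ q1 w + ρ q2 w - ρ q3 w) = w - ρ q1 w + ρ q2 w - ρ q3 w := by
    intro w
    constructor
    · simp only [map_add, map_sub, r11, r12, r13]; abel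
    · simp only [map_add, map_sub, r21, r22, r23]; abel
  have hp3 : ∀ w : W, ρ q1 (w - ρ q1 w - ρ q2 w + ρ q3 w) = -(w - ρ q1 w - ρ q2 w + ρ q3 w) ∧
      ρ q2 (w - ρ q1 w - ρ q2 w + ρ q3 w) = -(w - ρ q1 w - ρ q2 w + ρ q3 w) := by
    intro w
    constructor
    · simp only [map_add, map_sub, r11, r12, r13]; abel
    · simp only [map_add, map_sub, r21, r22, r23]; abel
  have hp0 : ∀ w : W, ρ q1 (w + ρ q1 w + ρ q2 w + ρ q3 w) = w + ρ q1 w + ρ q2 w + ρ q3 w ∧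
      ρ q2 (w + ρ q1 w + ρ q2 w + ρ q3 w) = w + ρ q1 w + ρ q2 w + ρ q3 w := by
    intro w
    constructor
    · simp only [map_add, r11, r12, r13]; abel
    · simp only [map_add, r21, r22, r23]; abel
  have hsum : ∀ w : W, w = (w + ρ q1 w + ρ q2 w + ρ q3 w) + (w + ρ q1 w - ρ q2 w - ρ q3 w)
      + (w - ρ q1 w + ρ q2 w - ρ q3 w) + (w - ρ q1 w - ρ q2 w + ρ q3 w) := by
    intro w
    have h3 := cubA_three w
    calc w = w + (w + w + w) := by rw [h3, add_zero]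
      _ = _ := by abel
  -- W1 is nonzero
  have hex : ∃ u : W, u ≠ 0 ∧ ρ q1 u = u ∧ ρ q2 u = -u := by
    by_contra hcon
    push Not at hcon
    have hz1 : ∀ u : W, ρ q1 u = u → ρ q2 u = -u → u = 0 := fun u h1 h2 => by
      by_contra hne; exact hcon u hne h1 h2
    have hz2 : ∀ u : W, ρ q1 u = -u → ρ q2 u = u → u = 0 := by
      intro u h1 h2
      -- b² u lies in W1
      obtain ⟨a1, a2⟩ := hW2b u h1 h2
      obtain ⟨a3, a4⟩ := hW3b _ a1 a2
      have := hz1 _ a3 a4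
      have h0 : ρ b (ρ b u) = ρ b (ρ b 0) := by rw [this, map_zero, map_zero]
      exact rho_injective ρ b (rho_injective ρ b h0)
    have hz3 : ∀ u : W, ρ q1 u = -u → ρ q2 u = -u → u = 0 := by
      intro u h1 h2
      obtain ⟨a3, a4⟩ := hW3b _ h1 h2
      have := hz1 _ a3 a4
      exact rho_injective ρ b (by rw [this, map_zero])
    -- so every w is fixed by q1
    have hall : ∀ w : W, ρ q1 w = w := by
      intro w
      have e1 := hz1 _ (hp1 w).1 (hp1 w).2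
      have e2 := hz2 _ (hp2 w).1 (hp2 w).2
      have e3 := hz3 _ (hp3 w).1 (hp3 w).2
      have hw := hsum w
      rw [e1, e2, e3, add_zero, add_zero, add_zero] at hw
      rw [hw]
      exact (hp0 w).1
    apply n1
    apply h.faithful
    ext w
    rw [hall w, map_one]; rfl
  obtain ⟨e1, e1ne, q1e1, q2e1⟩ := hex
  obtain ⟨q1e2, q2e2⟩ := hW1b e1 q1e1 q2e1
  obtain ⟨q1e3, q2e3⟩ := hW2b _ q1e2 q2e2
  have be3 : ρ b (ρ b (ρ b e1)) = e1 := rho_cube ρ h.b3 e1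
  have q3e1 : ρ q3 e1 = -e1 := by rw [← m12, rho_mul_apply, q2e1, map_neg, q1e1]
  have q3e2 : ρ q3 (ρ b e1) = -(ρ b e1) := by rw [← m12, rho_mul_apply, q2e2, q1e2]
  have q3e3 : ρ q3 (ρ b (ρ b e1)) = ρ b (ρ b e1) := by
    rw [← m12, rho_mul_apply, q2e3, map_neg, q1e3, neg_neg]
  have PF : PreFrame ρ Q b q1 q2 q3 e1 (ρ b e1) (ρ b (ρ b e1)) :=
    { hq1 := hq1, hq2 := hq2, hq3 := hq3, hQ := hQall, c1 := c1, c2 := c2, c3 := c3, m12 := m12,
      m21 := m21, s1 := s1, s2 := s2, s3 := s3, ne1 := n1, ne2 := n2, ne3 := n3, ne12 := n12,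
      ne13 := n13, ne23 := n23, e1ne := e1ne, be1 := rfl, be2 := rfl, be3 := be3, q1e1 := q1e1,
      q1e2 := q1e2, q1e3 := q1e3, q2e1 := q2e1, q2e2 := q2e2, q2e3 := q2e3, q3e1 := q3e1,
      q3e2 := q3e2, q3e3 := q3e3 }
  -- N² e1 ≠ 0
  have hN2e1 : nOp ρ b (nOp ρ b e1) ≠ 0 := by
    rw [nOp_sq_apply]
    intro h0
    have := PF.indep (a1 := 1) (a2 := 1) (a3 := 1) (w0 := 0) (map_zero _) (map_zero _)
      (by rw [one_smul, one_smul, one_smul, add_zero]; rw [← h0]; abel)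
    exact one_ne_zero this.1
  -- W1 = ⟨e1⟩
  have hW1 : ∀ u : W, ρ q1 u = u → ρ q2 u = -u → ∃ a : ZMod 3, u = a • e1 := by
    intro u hu1 hu2
    obtain ⟨α, hα⟩ := h.Nsq_multiple hN2e1 u
    refine ⟨α, ?_⟩
    set u' := u - α • e1 with hu'
    have hu'1 : ρ q1 u' = u' := by rw [hu', map_sub, map_smul, hu1, q1e1]
    have hu'2 : ρ q2 u' = -u' := by rw [hu', map_sub, map_smul, hu2, q2e1]; simp only [smul_neg]; abel
    have hN : nOp ρ b (nOp ρ b u') = 0 := by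
      rw [hu', map_sub, map_sub, map_smul, map_smul, hα, sub_self]
    rw [nOp_sq_apply] at hN
    obtain ⟨x1, x2⟩ := hW1b u' hu'1 hu'2
    obtain ⟨y1, y2⟩ := hW2b _ x1 x2
    have hN' := congrArg (ρ q1) hN
    rw [map_add, map_add, y1, x1, hu'1, map_zero] at hN'
    have h2 : u' + u' = 0 := by
      calc u' + u' = (ρ b (ρ b u') + ρ b u' + u') + (-(ρ b (ρ b u')) + -(ρ b u') + u') := by abel
        _ = 0 := by rw [hN, hN', add_zero]
    have := cubB_two_eq_zero h2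
    rw [hu', sub_eq_zero] at this
    exact this
  -- decomposition
  have hdec : ∀ w : W, ∃ a1 a2 a3 : ZMod 3, ∃ w0 : W,
      w = a1 • e1 + a2 • (ρ b e1) + a3 • (ρ b (ρ b e1)) + w0 ∧ ρ q1 w0 = w0 ∧ ρ q2 w0 = w0 := by
    intro w
    obtain ⟨a1, ha1⟩ := hW1 _ (hp1 w).1 (hp1 w).2
    -- p2 w ∈ W2: b² (p2 w) ∈ W1
    obtain ⟨x1, x2⟩ := hW2b _ (hp2 w).1 (hp2 w).2
    obtain ⟨x3, x4⟩ := hW3b _ x1 x2
    obtain ⟨a2, ha2⟩ := hW1 _ x3 x4
    have ha2' : w - ρ q1 w + ρ q2 w - ρ q3 w = a2 • ρ b e1 := by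
      have := congrArg (ρ b) ha2
      rw [rho_cube ρ h.b3, map_smul] at this
      exact this
    obtain ⟨y3, y4⟩ := hW3b _ (hp3 w).1 (hp3 w).2
    obtain ⟨a3, ha3⟩ := hW1 _ y3 y4
    have ha3' : w - ρ q1 w - ρ q2 w + ρ q3 w = a3 • ρ b (ρ b e1) := by
      have := congrArg (fun x => ρ b (ρ b x)) ha3
      simp only [rho_cube ρ h.b3, map_smul] at this
      exact this
    refine ⟨a1, a2, a3, w + ρ q1 w + ρ q2 w + ρ q3 w, ?_, (hp0 w).1, (hp0 w).2⟩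
    rw [← ha1, ← ha2', ← ha3']
    have := hsum w
    calc w = _ := this
      _ = _ := by abel
  -- b is trivial on the Q-fixed part
  have hbfix : ∀ w0 : W, ρ q1 w0 = w0 → ρ q2 w0 = w0 → ρ b w0 = w0 := by
    have hdisj : spanThree e1 (ρ b e1) (ρ b (ρ b e1)) ⊓ fixTwo ρ q1 q2 = ⊥ := by
      rw [eq_bot_iff]
      rintro u ⟨⟨a1, a2, a3, rfl⟩, hf1, hf2⟩
      rw [Submodule.mem_bot]
      have hf1' : ρ q1 (-(a1 • e1 + a2 • ρ b e1 + a3 • ρ b (ρ b e1))) =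
          -(a1 • e1 + a2 • ρ b e1 + a3 • ρ b (ρ b e1)) := by rw [map_neg, hf1]
      have hf2' : ρ q2 (-(a1 • e1 + a2 • ρ b e1 + a3 • ρ b (ρ b e1))) =
          -(a1 • e1 + a2 • ρ b e1 + a3 • ρ b (ρ b e1)) := by rw [map_neg, hf2]
      have := PF.indep (a1 := a1) (a2 := a2) (a3 := a3) hf1' hf2' (by abel)
      rw [this.1, this.2.1, this.2.2.1]; simp
    have hsup : spanThree e1 (ρ b e1) (ρ b (ρ b e1)) ⊔ fixTwo ρ q1 q2 = ⊤ := by
      rw [eq_top_iff]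
      intro w _
      obtain ⟨a1, a2, a3, w0, hw, hw1, hw2⟩ := hdec w
      rw [hw]
      exact Submodule.add_mem_sup ⟨a1, a2, a3, rfl⟩ ⟨hw1, hw2⟩
    have hinv1 : ∀ v ∈ spanThree e1 (ρ b e1) (ρ b (ρ b e1)),
        ρ b v ∈ spanThree e1 (ρ b e1) (ρ b (ρ b e1)) := by
      rintro _ ⟨a1, a2, a3, rfl⟩
      refine ⟨a3, a1, a2, ?_⟩
      simp only [map_add, map_smul, be3]
      abel
    have hinv2 : ∀ v ∈ fixTwo ρ q1 q2, ρ b v ∈ fixTwo ρ q1 q2 := by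
      rintro v ⟨hv1, hv2⟩
      have hv3 : ρ q3 v = v := by rw [← m12, rho_mul_apply, hv2, hv1]
      exact ⟨by rw [cubB_conj, d1, hv3], by rw [cubB_conj, d2, hv1]⟩
    rcases h.triv_or_triv _ _ hdisj hsup hinv1 hinv2 with ht | ht
    · exfalso
      have := ht e1 ⟨1, 0, 0, by simp⟩
      -- then e2 = e1, contradiction with weights
      have h1 : ρ q2 (ρ b e1) = ρ b e1 := q2e2
      rw [this, q2e1] at h1
      apply e1ne
      apply cubB_two_eq_zero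
      calc e1 + e1 = e1 - (-e1) := by abel
        _ = 0 := by rw [h1, sub_self]
    · intro w0 h1 h2
      exact ht w0 ⟨h1, h2⟩
  exact ⟨q1, q2, q3, e1, ρ b e1, ρ b (ρ b e1), { toPreFrame := PF, decomp := hdec, bfix := hbfix }⟩

end Cfsg.Agent.Lib.Helper2.Cub
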