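import Mathlib
import Cfsg.Agent.Lib.Helper2.CubB

/-!
# S4415, abstract setting, part C: irreducibility, central elements
-/

set_option autoImplicit false

namespace Cfsg.Agent.Lib.Helper2.Cub

variable {G : Type*} [Group G] {W : Type*} [AddCommGroup W] [Module (ZMod 3) W]

section

variable {ρ : Representation (ZMod 3) G W} {Q : Subgroup G} {b : G} {q1 q2 q3 : G} {e1 e2 e3 : W}

theorem cubC_four (w : W) : w + w + w + w = w := by
  rw [cubA_three, zero_add]

/-- The four weight components of a vector of a `Q`-invariant subspace lie in it. -/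
theorem PreFrame.comp_mem (F : PreFrame ρ Q b q1 q2 q3 e1 e2 e3) (M : Submodule (ZMod 3) W)
    (hq : ∀ q ∈ Q, ∀ v ∈ M, ρ q v ∈ M) {a1 a2 a3 : ZMod 3} {w0 : W}
    (hv : a1 • e1 + a2 • e2 + a3 • e3 + w0 ∈ M) (h1 : ρ q1 w0 = w0) (h2 : ρ q2 w0 = w0) :
    a1 • e1 ∈ M ∧ a2 • e2 ∈ M ∧ a3 • e3 ∈ M ∧ w0 ∈ M := by
  have h3 := F.q3fix h1 h2
  set v := a1 • e1 + a2 • e2 + a3 • e3 + w0 with hvdef
  have e1v : ρ q1 v = a1 • e1 - a2 • e2 - a3 • e3 + w0 := by
    rw [hvdef]
    simp only [map_add, map_smul, F.q1e1, F.q1e2, F.q1e3, h1, smul_neg]; abel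
  have e2v : ρ q2 v = -(a1 • e1) + a2 • e2 - a3 • e3 + w0 := by
    rw [hvdef]
    simp only [map_add, map_smul, F.q2e1, F.q2e2, F.q2e3, h2, smul_neg]; abel
  have e3v : ρ q3 v = -(a1 • e1) - a2 • e2 + a3 • e3 + w0 := by
    rw [hvdef]
    simp only [map_add, map_smul, F.q3e1, F.q3e2, F.q3e3, h3, smul_neg]; abel
  have m1 := hq q1 F.hq1 v hv
  have m2 := hq q2 F.hq2 v hv
  have m3 := hq q3 F.hq3 v hv
  refine ⟨?_, ?_, ?_, ?_⟩
  · have : a1 • e1 = v + ρ q1 v - ρ q2 v - ρ q3 v := by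
      rw [e1v, e2v, e3v, hvdef]
      have := cubC_four (a1 • e1)
      calc a1 • e1 = a1 • e1 + a1 • e1 + a1 • e1 + a1 • e1 := this.symm
        _ = _ := by abel
    rw [this]
    exact M.sub_mem (M.sub_mem (M.add_mem hv m1) m2) m3
  · have : a2 • e2 = v - ρ q1 v + ρ q2 v - ρ q3 v := by
      rw [e1v, e2v, e3v, hvdef]
      have := cubC_four (a2 • e2)
      calc a2 • e2 = a2 • e2 + a2 • e2 + a2 • e2 + a2 • e2 := this.symm
        _ = _ := by abel
    rw [this]
    exact M.sub_mem (M.add_mem (M.sub_mem hv m1) m2) m3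
  · have : a3 • e3 = v - ρ q1 v - ρ q2 v + ρ q3 v := by
      rw [e1v, e2v, e3v, hvdef]
      have := cubC_four (a3 • e3)
      calc a3 • e3 = a3 • e3 + a3 • e3 + a3 • e3 + a3 • e3 := this.symm
        _ = _ := by abel
    rw [this]
    exact M.add_mem (M.sub_mem (M.sub_mem hv m1) m2) m3
  · have : w0 = v + ρ q1 v + ρ q2 v + ρ q3 v := by
      rw [e1v, e2v, e3v, hvdef]
      have := cubC_four w0
      calc w0 = w0 + w0 + w0 + w0 := this.symm
        _ = _ := by abel
    rw [this]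
    exact M.add_mem (M.add_mem (M.add_mem hv m1) m2) m3

/-- The weight space `W1` is spanned by `e1`. -/
theorem Frame.W1_eq (F : Frame ρ Q b q1 q2 q3 e1 e2 e3) {u : W} (hu1 : ρ q1 u = u)
    (hu2 : ρ q2 u = -u) : ∃ a : ZMod 3, u = a • e1 := by
  obtain ⟨a1, a2, a3, w0, hu, h1, h2⟩ := F.decomp u
  refine ⟨a1, ?_⟩
  have e1v : ρ q1 u = a1 • e1 - a2 • e2 - a3 • e3 + w0 := by
    rw [hu]
    simp only [map_add, map_smul, F.q1e1, F.q1e2, F.q1e3, h1, smul_neg]; abel
  have e2v : ρ q2 u = -(a1 • e1) + a2 • e2 - a3 • e3 + w0 := by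
    rw [hu]
    simp only [map_add, map_smul, F.q2e1, F.q2e2, F.q2e3, h2, smul_neg]; abel
  -- u - q1 u = 2 (a2 e2 + a3 e3) = 0
  have hA0 : (a2 • e2 + a3 • e3) + (a2 • e2 + a3 • e3) = 0 := by
    have : u - ρ q1 u = 0 := by rw [hu1, sub_self]
    rw [e1v, hu] at this
    calc (a2 • e2 + a3 • e3) + (a2 • e2 + a3 • e3)
        = a1 • e1 + a2 • e2 + a3 • e3 + w0 - (a1 • e1 - a2 • e2 - a3 • e3 + w0) := by abel
      _ = 0 := this
  have hA1 := cubB_two_eq_zero hA0
  have hA : (0 : ZMod 3) • e1 + a2 • e2 + a3 • e3 + 0 = 0 := by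
    rw [zero_smul, zero_add, add_zero]; exact hA1
  have hA' := F.toPreFrame.indep (map_zero _) (map_zero _) hA
  have ha2 : a2 = 0 := hA'.2.1
  have ha3 : a3 = 0 := hA'.2.2.1
  -- u + q2 u = 2 w0 = 0
  have hB : w0 + w0 = 0 := by
    have : u + ρ q2 u = 0 := by rw [hu2, add_neg_cancel]
    rw [e2v, hu, ha2, ha3] at this
    rw [← this]
    simp only [zero_smul]; abel
  have hw0 := cubB_two_eq_zero hB
  rw [hu, ha2, ha3, hw0]
  simp

end

variable [Finite G] [Finite W] {ρ : Representation (ZMod 3) G W} {R Q : Subgroup G} {b : G}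

/-- §2: `W` is an irreducible `G`-module. -/
theorem Setup.irreducible (h : Setup ρ R Q b) (M : Submodule (ZMod 3) W)
    (hinv : ∀ g : G, ∀ v ∈ M, ρ g v ∈ M) : M = ⊥ ∨ M = ⊤ := by
  obtain ⟨q1, q2, q3, e1, e2, e3, F⟩ := h.exists_frame
  have hq : ∀ q ∈ Q, ∀ v ∈ M, ρ q v ∈ M := fun q _ v hv => hinv q v hv
  by_cases he : e1 ∈ M
  · right
    have he2 : e2 ∈ M := by rw [← F.be1]; exact hinv b e1 he
    have he3 : e3 ∈ M := by rw [← F.be2]; exact hinv b e2 he2
    apply h.eq_top_of_R_triv_quot M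
    apply h.R_triv_quot_of_b_triv M hinv
    intro w
    obtain ⟨a1, a2, a3, w0, hw, h1, h2⟩ := F.decomp w
    rw [hw]
    simp only [map_add, map_smul, F.be1, F.be2, F.be3, F.bfix w0 h1 h2]
    have : a1 • e2 + a2 • e3 + a3 • e1 + w0 - (a1 • e1 + a2 • e2 + a3 • e3 + w0)
        = a1 • e2 + a2 • e3 + a3 • e1 - (a1 • e1 + a2 • e2 + a3 • e3) := by abel
    rw [this]
    exact M.sub_mem (M.add_mem (M.add_mem (M.smul_mem _ he2) (M.smul_mem _ he3)) (M.smul_mem _ he))
      (M.add_mem (M.add_mem (M.smul_mem _ he) (M.smul_mem _ he2)) (M.smul_mem _ he3))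
  · left
    -- every vector of M is Q-fixed, hence b-fixed
    have hcoef : ∀ v ∈ M, ρ q1 v = v ∧ ρ q2 v = v := by
      intro v hv
      obtain ⟨a1, a2, a3, w0, hw, h1, h2⟩ := F.decomp v
      rw [hw] at hv
      obtain ⟨m1, m2, m3, _⟩ := F.toPreFrame.comp_mem M hq hv h1 h2
      have ha1 : a1 = 0 := by
        by_contra hne
        apply he
        have := M.smul_mem a1⁻¹ m1
        rwa [smul_smul, inv_mul_cancel₀ hne, one_smul] at this
      have ha2 : a2 = 0 := by
        by_contra hne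
        apply he
        have hm : e2 ∈ M := by
          have := M.smul_mem a2⁻¹ m2
          rwa [smul_smul, inv_mul_cancel₀ hne, one_smul] at this
        have h3 : e3 ∈ M := by rw [← F.be2]; exact hinv b e2 hm
        rw [← F.be3]; exact hinv b e3 h3
      have ha3 : a3 = 0 := by
        by_contra hne
        apply he
        have hm : e3 ∈ M := by
          have := M.smul_mem a3⁻¹ m3
          rwa [smul_smul, inv_mul_cancel₀ hne, one_smul] at this
        rw [← F.be3]; exact hinv b e3 hm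
      rw [hw, ha1, ha2, ha3]
      simp only [zero_smul, zero_add]
      exact ⟨h1, h2⟩
    have hb : ∀ v ∈ M, ρ b v = v := fun v hv => F.bfix v (hcoef v hv).1 (hcoef v hv).2
    have hR := h.R_triv_of_b_triv M hinv hb
    rw [eq_bot_iff]
    intro v hv
    rw [Submodule.mem_bot]
    exact h.fixR v (fun x hx => hR x hx v hv)

/-- §3: a central element acts as `1` or `-1`. -/
theorem Setup.central_scalar (h : Setup ρ R Q b) (c : G) (hc : ∀ g : G, c * g = g * c) :
    (∀ w : W, ρ c w = w) ∨ (∀ w : W, ρ c w = -w) := by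
  obtain ⟨q1, q2, q3, e1, e2, e3, F⟩ := h.exists_frame
  have hcomm : ∀ (g : G) (w : W), ρ g (ρ c w) = ρ c (ρ g w) := by
    intro g w
    rw [← rho_mul_apply, ← rho_mul_apply, hc g]
  have h1 : ρ q1 (ρ c e1) = ρ c e1 := by rw [hcomm, F.q1e1]
  have h2 : ρ q2 (ρ c e1) = -(ρ c e1) := by rw [hcomm, F.q2e1, map_neg]
  obtain ⟨a, ha⟩ := F.W1_eq h1 h2
  have hane : a ≠ 0 := by
    intro h0
    rw [h0, zero_smul] at ha
    exact F.e1ne (rho_injective ρ c (by rw [ha, map_zero]))
  let M : Submodule (ZMod 3) W :=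
    { carrier := {w | ρ c w = a • w}
      add_mem' := fun {u v} hu hv => by
        show ρ c (u + v) = a • (u + v)
        rw [map_add, hu, hv, smul_add]
      zero_mem' := by show ρ c 0 = a • (0 : W); rw [map_zero, smul_zero]
      smul_mem' := fun r u hu => by
        show ρ c (r • u) = a • (r • u)
        rw [map_smul, hu, smul_comm] }
  have hMinv : ∀ g : G, ∀ v ∈ M, ρ g v ∈ M := by
    intro g v hv
    show ρ c (ρ g v) = a • ρ g v
    rw [← hcomm, hv, map_smul]
  have hM : M = ⊤ := by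
    rcases h.irreducible M hMinv with hbot | htop
    · exfalso
      have : e1 ∈ M := ha
      rw [hbot, Submodule.mem_bot] at this
      exact F.e1ne this
    · exact htop
  have hall : ∀ w : W, ρ c w = a • w := by
    intro w
    have : w ∈ M := by rw [hM]; trivial
    exact this
  have ha' : a = 1 ∨ a = -1 := by
    have hdec : ∀ x : ZMod 3, x ≠ 0 → x = 1 ∨ x = -1 := by decide
    exact hdec a hane
  rcases ha' with rfl | rfl
  · left; intro w; rw [hall, one_smul]
  · right; intro w; rw [hall, neg_smul, one_smul]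

/-- A central element acting trivially is `1`; two nontrivial central elements coincide. -/
theorem Setup.central_eq (h : Setup ρ R Q b) {c d : G} (hc : ∀ g : G, c * g = g * c)
    (hd : ∀ g : G, d * g = g * d) (hc1 : c ≠ 1) (hd1 : d ≠ 1) : c = d := by
  have key : ∀ x : G, (∀ g : G, x * g = g * x) → x ≠ 1 → ∀ w : W, ρ x w = -w := by
    intro x hx hx1
    rcases h.central_scalar x hx with h1 | h1
    · exfalso
      apply hx1
      apply h.faithful
      ext w
      rw [h1 w, map_one]; rfl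
    · exact h1
  apply h.faithful
  ext w
  rw [key c hc hc1 w, key d hd hd1 w]

end Cfsg.Agent.Lib.Helper2.Cub
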