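import Mathlib
import Cfsg.Agent.Lib.Helper2.CubC

/-!
# S4415, abstract setting: the two shared definitions `CaseC` and `Concl32`
-/

set_option autoImplicit false
open Cfsg

namespace Cfsg.Agent.Lib.Helper2.Cub

/-- Case C' hypothesis: every normal subgroup of exponent 2 is central. -/
def CaseC (G : Type*) [Group G] : Prop :=
  ∀ E : Subgroup G, E.Normal → (∀ a ∈ E, a * a = 1) → ∀ a ∈ E, ∀ g : G, a * g = g * a

/-- The conclusion about `R` in the second alternative of Theorem T. -/
def Concl32 {G : Type*} [Group G] (R : Subgroup G) : Prop :=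
  IsExtraspecial 2 R ∧ Nat.card R = 32 ∧
    ∃ A : Subgroup G, A ≤ R ∧ IsElementaryAbelian 2 A ∧ Nat.card A = 8

end Cfsg.Agent.Lib.Helper2.Cub
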