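import Mathlib
import Cfsg.Agent.Lib.Lead.Quad14
import Cfsg.Agent.Lib.Lead.SL2w
import Cfsg.Agent.Lib.Helper1.SL2Quat
import Cfsg.Agent.Lib.Helper7.PSolvable
import Cfsg.Prelude.Def_Local

set_option autoImplicit false

universe u v

namespace Cfsg.Agent.Lib.Helper2

namespace SL2Sections

open Cfsg Cfsg.Agent.Lib.Lead Cfsg.Agent.Lib.Helper9
open scoped Pointwise

/-- every `2`-subgroup is abelian -/
def AbTwo (X : Type u) [Group X] : Prop :=
  ∀ Q : Subgroup X, IsPGroup 2 ↥Q → ∀ x ∈ Q, ∀ y ∈ Q, x * y = y * x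

section abtwo

variable {G : Type u} [Group G]

theorem abTwo_of_one_sylow [Finite G] (T : Sylow 2 G) (h : IsMulCommutative ↥(T : Subgroup G)) :
    AbTwo G := by
  haveI : Fact (Nat.Prime 2) := ⟨Nat.prime_two⟩
  intro Q hQ x hx y hy
  obtain ⟨P, hP⟩ := hQ.exists_le_sylow
  obtain ⟨g, hg⟩ := MulAction.exists_smul_eq G P T
  have key : ∀ v ∈ Q, g * v * g⁻¹ ∈ (T : Subgroup G) := by
    intro v hv
    have hvP : v ∈ (P : Subgroup G) := hP hv
    rw [← hg, Sylow.smul_def, Sylow.pointwise_smul_def]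
    have := Subgroup.smul_mem_pointwise_smul v (MulAut.conj g) (P : Subgroup G) hvP
    simpa [MulAut.smul_def] using this
  have h1 := h.is_comm.comm (⟨g * x * g⁻¹, key x hx⟩ : ↥(T : Subgroup G)) ⟨g * y * g⁻¹, key y hy⟩
  have h2 : g * x * g⁻¹ * (g * y * g⁻¹) = g * y * g⁻¹ * (g * x * g⁻¹) := congrArg Subtype.val h1
  have h3 : g * (x * y) * g⁻¹ = g * (y * x) * g⁻¹ := by
    calc g * (x * y) * g⁻¹ = g * x * g⁻¹ * (g * y * g⁻¹) := by group
      _ = g * y * g⁻¹ * (g * x * g⁻¹) := h2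
      _ = g * (y * x) * g⁻¹ := by group
  exact mul_left_cancel (mul_right_cancel h3)

theorem abTwo_of_sylow [Finite G] (h : ∀ T : Sylow 2 G, IsMulCommutative ↥(T : Subgroup G)) :
    AbTwo G := by
  haveI : Fact (Nat.Prime 2) := ⟨Nat.prime_two⟩
  obtain ⟨T⟩ : Nonempty (Sylow 2 G) := inferInstance
  exact abTwo_of_one_sylow T (h T)

theorem AbTwo.of_isSectionOf [Finite G] {A : Type v} [Group A] (h : AbTwo G)
    (hs : IsSectionOf A G) : AbTwo A := by
  haveI : Fact (Nat.Prime 2) := ⟨Nat.prime_two⟩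
  obtain ⟨K, f, hf⟩ := hs
  intro Q hQ x hx y hy
  obtain ⟨T, hTp, hTmap, -⟩ := Quad.exists_lift_normalizer (p := 2) f hf Q hQ
  rw [← hTmap] at hx hy
  obtain ⟨x', hx', rfl⟩ := hx
  obtain ⟨y', hy', rfl⟩ := hy
  have hTG : IsPGroup 2 ↥(T.map K.subtype) := hTp.map K.subtype
  have h1 := h (T.map K.subtype) hTG (x' : G) ⟨x', hx', rfl⟩ (y' : G) ⟨y', hy', rfl⟩
  have h2 : x' * y' = y' * x' := Subtype.ext h1
  rw [← map_mul, h2, map_mul]

theorem not_abTwo_SL2 {F : Type u} [Field F] [Finite F] (h2 : (2 : F) ≠ 0) :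
    ¬ AbTwo (Matrix.SpecialLinearGroup (Fin 2) F) := by
  intro h
  obtain ⟨H, hH, x, hx, y, hy, hxy⟩ := Cfsg.Agent.Lib.Helper1.exists_noncomm_two_subgroup (F := F) h2
  exact hxy (h H hH x hx y hy)

theorem two_ne_zero_zmod {p : ℕ} [Fact p.Prime] (hp : p ≠ 2) : (2 : ZMod p) ≠ 0 := by
  intro h
  have h1 : ((2 : ℕ) : ZMod p) = 0 := by exact_mod_cast h
  rw [ZMod.natCast_eq_zero_iff] at h1
  have := (Nat.prime_dvd_prime_iff_eq (Fact.out : p.Prime) Nat.prime_two).mp h1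
  exact hp this

/-- a finite group with abelian Sylow `2`-subgroups has no section `SL₂(p)`, `p` odd -/
theorem not_hasSL2Section_of_abTwo [Finite G] {p : ℕ} [Fact p.Prime] (hp : p ≠ 2) (h : AbTwo G) :
    ¬ Quad.HasSL2Section p G := by
  intro hs
  rw [Quad.hasSL2Section_iff_isSectionOf] at hs
  exact not_abTwo_SL2 (two_ne_zero_zmod hp) (h.of_isSectionOf hs)

end abtwo

end SL2Sections

end Cfsg.Agent.Lib.Helper2
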