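import Mathlib
import Cfsg.Agent.Lib.Helper2.SL2Sections

set_option autoImplicit false

universe u v

namespace Cfsg.Agent.Lib.Helper2

namespace SL2Sections

open Cfsg Cfsg.Agent.Lib.Lead Cfsg.Agent.Lib.Helper9 Cfsg.Agent.Lib.Lead.SL2
open Matrix

section psolv

variable {G : Type u} [Group G]

theorem isPSolvable_of_surj {G' : Type v} [Group G'] {p : ℕ} [Fact p.Prime]
    (f : G →* G') (hf : Function.Surjective f) (hG : IsPSolvable p G) : IsPSolvable p G' := by
  obtain ⟨n, H, h0, hn, hmono, hnormal, hfac⟩ := hG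
  refine ⟨n, fun i => (H i).map f, ?_, ?_, ?_, ?_, ?_⟩
  · simp only [h0, Subgroup.map_bot]
  · simp only [hn]
    exact Subgroup.map_top_of_surjective _ hf
  · intro i j hij
    exact Subgroup.map_mono (hmono hij)
  · intro i
    exact (hnormal i).map _ hf
  · intro i
    have hd := Cfsg.Agent.Lib.Helper7.relIndex_map_map_dvd f (H i.castSucc) (H i.succ)
    rcases hfac i with ⟨m, hm⟩ | hc
    · left
      rw [hm] at hd
      obtain ⟨k, -, hk⟩ := (Nat.dvd_prime_pow (Fact.out : p.Prime)).mp hd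
      exact ⟨k, hk⟩
    · right
      exact Nat.Coprime.coprime_dvd_left hd hc

theorem relIndex_subgroupOf_dvd (A B K : Subgroup G) [A.Normal] :
    (A.subgroupOf K).relIndex (B.subgroupOf K) ∣ A.relIndex B := by
  have h1 : (A.subgroupOf K).relIndex (B.subgroupOf K) = A.relIndex (B ⊓ K) := by
    rw [Subgroup.subgroupOf, Subgroup.subgroupOf, Subgroup.relIndex_comap, Subgroup.map_comap_eq,
      Subgroup.range_subtype, inf_comm]
  rw [h1]
  -- `A.relIndex (B ⊓ K) ∣ A.relIndex B`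
  rw [← Subgroup.relIndex_sup_right (B ⊓ K) A, ← Subgroup.relIndex_sup_right B A]
  have h2 := Subgroup.relIndex_mul_relIndex A ((B ⊓ K) ⊔ A) (B ⊔ A) le_sup_right
    (sup_le_sup_right inf_le_left A)
  exact Dvd.intro _ h2

theorem isPSolvable_subgroup {p : ℕ} [Fact p.Prime] (hG : IsPSolvable p G) (K : Subgroup G) :
    IsPSolvable p ↥K := by
  obtain ⟨n, H, h0, hn, hmono, hnormal, hfac⟩ := hG
  refine ⟨n, fun i => (H i).subgroupOf K, ?_, ?_, ?_, ?_, ?_⟩
  · simp only [h0, Subgroup.bot_subgroupOf]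
  · simp only [hn, Subgroup.top_subgroupOf]
  · intro i j hij
    exact Subgroup.comap_mono (hmono hij)
  · intro i
    haveI := hnormal i
    exact Subgroup.Normal.subgroupOf (hnormal i) K
  · intro i
    haveI := hnormal i.castSucc
    have hd := relIndex_subgroupOf_dvd (H i.castSucc) (H i.succ) K
    rcases hfac i with ⟨m, hm⟩ | hc
    · left
      rw [hm] at hd
      obtain ⟨k, -, hk⟩ := (Nat.dvd_prime_pow (Fact.out : p.Prime)).mp hd
      exact ⟨k, hk⟩
    · right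
      exact Nat.Coprime.coprime_dvd_left hd hc

theorem isPSolvable_of_isSectionOf {A : Type v} [Group A] {p : ℕ} [Fact p.Prime]
    (hG : IsPSolvable p G) (hs : IsSectionOf A G) : IsPSolvable p A := by
  obtain ⟨K, f, hf⟩ := hs
  exact isPSolvable_of_surj f hf (isPSolvable_subgroup hG K)

end psolv

section sl2

variable (p : ℕ) [Fact p.Prime]

/-- the diagonal element `diag(2, 2⁻¹)` -/
def dd (h2 : (2 : ZMod p) ≠ 0) : Matrix.SpecialLinearGroup (Fin 2) (ZMod p) :=
  ⟨!![2, 0; 0, 2⁻¹], by simp [Matrix.det_fin_two, h2]⟩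

theorem dd_pow (h2 : (2 : ZMod p) ≠ 0) (n : ℕ) :
    ((dd p h2 ^ n : Matrix.SpecialLinearGroup (Fin 2) (ZMod p)) : Matrix (Fin 2) (Fin 2) (ZMod p)) =
      !![2 ^ n, 0; 0, (2⁻¹) ^ n] := by
  induction n with
  | zero =>
    ext i j
    fin_cases i <;> fin_cases j <;> simp
  | succ n ih =>
    rw [pow_succ, Matrix.SpecialLinearGroup.coe_mul, ih]
    show !![2 ^ n, 0; 0, (2⁻¹ : ZMod p) ^ n] * !![2, 0; 0, 2⁻¹] = _
    ext i j
    fin_cases i <;> fin_cases j <;> simp [Matrix.mul_apply, Fin.sum_univ_two, pow_succ]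

theorem dd_pow_pred (h2 : (2 : ZMod p) ≠ 0) : dd p h2 ^ (p - 1) = 1 := by
  apply Matrix.SpecialLinearGroup.ext
  intro i j
  rw [dd_pow, inv_pow, ZMod.pow_card_sub_one_eq_one h2, inv_one]
  fin_cases i <;> fin_cases j <;> simp

theorem dd_mul_xs (h2 : (2 : ZMod p) ≠ 0) (c : ZMod p) : dd p h2 * xs c = xs (4 * c) * dd p h2 := by
  apply Subtype.ext
  show !![2, 0; 0, (2⁻¹ : ZMod p)] * !![1, c; 0, 1] = !![1, 4 * c; 0, 1] * !![2, 0; 0, 2⁻¹]
  have h4 : (4 : ZMod p) * c * 2⁻¹ = 2 * c := by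
    field_simp
    ring
  ext i j
  fin_cases i <;> fin_cases j <;> simp [Matrix.mul_apply, Fin.sum_univ_two, h4]

theorem dd_mul_ys (h2 : (2 : ZMod p) ≠ 0) (e : ZMod p) : dd p h2 * ys (4 * e) = ys e * dd p h2 := by
  apply Subtype.ext
  show !![2, 0; 0, (2⁻¹ : ZMod p)] * !![1, 0; 4 * e, 1] = !![1, 0; e, 1] * !![2, 0; 0, 2⁻¹]
  have h4 : (2⁻¹ : ZMod p) * (4 * e) = e * 2 := by
    field_simp
    ring
  ext i j
  fin_cases i <;> fin_cases j <;> simp [Matrix.mul_apply, Fin.sum_univ_two, h4]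

theorem xs_pow_p : xs (1 : ZMod p) ^ p = 1 := by
  rw [← xs_natCast, ZMod.natCast_self, xs_zero]

theorem ys_pow_p : ys (1 : ZMod p) ^ p = 1 := by
  rw [← ys_natCast, ZMod.natCast_self, ys_zero]

theorem xs_neg (c : ZMod p) : xs (-c) = (xs c)⁻¹ := by
  rw [eq_inv_iff_mul_eq_one, ← xs_add, neg_add_cancel, xs_zero]

theorem ys_neg (c : ZMod p) : ys (-c) = (ys c)⁻¹ := by
  rw [eq_inv_iff_mul_eq_one, ← ys_add, neg_add_cancel, ys_zero]

theorem mem_of_pow_of_coprime {X : Type u} [Group X] (N : Subgroup X) [N.Normal] (g : X) (k : ℕ)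
    (hg : g ^ k = 1) (hc : (N.index).Coprime k) : g ∈ N := by
  have h1 : (QuotientGroup.mk g : X ⧸ N) ^ k = 1 := by
    rw [← QuotientGroup.mk_pow, hg, QuotientGroup.mk_one]
  have h2 : (QuotientGroup.mk g : X ⧸ N) ^ N.index = 1 := by
    rw [← QuotientGroup.mk_pow, QuotientGroup.eq_one_iff]
    exact Subgroup.pow_index_mem N g
  have h3 : orderOf (QuotientGroup.mk g : X ⧸ N) ∣ Nat.gcd N.index k :=
    Nat.dvd_gcd (orderOf_dvd_of_pow_eq_one h2) (orderOf_dvd_of_pow_eq_one h1)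
  rw [hc, Nat.dvd_one, orderOf_eq_one_iff, QuotientGroup.eq_one_iff] at h3
  exact h3

theorem three_ne_zero_zmod (hp : 5 ≤ p) : (3 : ZMod p) ≠ 0 := by
  intro h
  have h1 : ((3 : ℕ) : ZMod p) = 0 := by exact_mod_cast h
  rw [ZMod.natCast_eq_zero_iff] at h1
  have := (Nat.prime_dvd_prime_iff_eq (Fact.out : p.Prime) Nat.prime_three).mp h1
  omega

/-- a normal subgroup of `SL₂(p)`, `p ≥ 5`, of index a power of `p` or prime to `p` is the whole
group -/
theorem eq_top_of_index (hp : 5 ≤ p) (N : Subgroup (Matrix.SpecialLinearGroup (Fin 2) (ZMod p)))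
    [N.Normal] (h : (∃ m : ℕ, N.index = p ^ m) ∨ (N.index).Coprime p) : N = ⊤ := by
  have hp2 : p ≠ 2 := by omega
  have h2 := two_ne_zero_zmod hp2
  have h3 := three_ne_zero_zmod p hp
  have hgen : xs (1 : ZMod p) ∈ N → ys (1 : ZMod p) ∈ N → N = ⊤ := by
    intro hx hy
    rw [eq_top_iff, ← closure_xs_ys_zmod p, Subgroup.closure_le]
    rintro g (rfl | rfl)
    · exact hx
    · exact hy
  rcases h with ⟨m, hm⟩ | hc
  · have hd : dd p h2 ∈ N := by
      apply mem_of_pow_of_coprime N _ (p - 1) (dd_pow_pred p h2)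
      rw [hm]
      apply Nat.Coprime.pow_left
      rw [(Fact.out : p.Prime).coprime_iff_not_dvd]
      exact Nat.not_dvd_of_pos_of_lt (by omega) (by omega)
    have hdi : (dd p h2)⁻¹ ∈ N := N.inv_mem hd
    apply hgen
    · have e1 : xs (1 : ZMod p) = dd p h2 * (xs (3⁻¹) * (dd p h2)⁻¹ * (xs (3⁻¹))⁻¹) := by
        have e2 : xs (4 * (3⁻¹ : ZMod p)) = dd p h2 * xs (3⁻¹) * (dd p h2)⁻¹ := by
          rw [dd_mul_xs, mul_inv_cancel_right]
        have e3 : (1 : ZMod p) = 4 * 3⁻¹ + -(3⁻¹) := by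
          field_simp
          ring
        conv_lhs => rw [e3]
        rw [xs_add, e2, xs_neg]
        group
      rw [e1]
      exact N.mul_mem hd (‹N.Normal›.conj_mem _ hdi _)
    · have e1 : ys (1 : ZMod p) = (dd p h2)⁻¹ * (ys (3⁻¹) * dd p h2 * (ys (3⁻¹))⁻¹) := by
        have e2 : ys (4 * (3⁻¹ : ZMod p)) = (dd p h2)⁻¹ * ys (3⁻¹) * dd p h2 := by
          rw [mul_assoc, ← dd_mul_ys, inv_mul_cancel_left]
        have e3 : (1 : ZMod p) = 4 * 3⁻¹ + -(3⁻¹) := by
          field_simp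
          ring
        conv_lhs => rw [e3]
        rw [ys_add, e2, ys_neg]
        group
      rw [e1]
      exact N.mul_mem hdi (‹N.Normal›.conj_mem _ hd _)
  · exact hgen (mem_of_pow_of_coprime N _ p (xs_pow_p p) hc)
      (mem_of_pow_of_coprime N _ p (ys_pow_p p) hc)

theorem xs_one_ne_one : xs (1 : ZMod p) ≠ 1 := by
  intro h
  have h1 := congrArg (fun M : Matrix.SpecialLinearGroup (Fin 2) (ZMod p) =>
    (M : Matrix (Fin 2) (Fin 2) (ZMod p)) 0 1) h
  simp [xs] at h1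

/-- `SL₂(p)` is not `p`-solvable for `p ≥ 5` -/
theorem not_isPSolvable_SL2 (hp : 5 ≤ p) :
    ¬ IsPSolvable p (Matrix.SpecialLinearGroup (Fin 2) (ZMod p)) := by
  rintro ⟨n, H, h0, hn, hmono, hnormal, hfac⟩
  have key : ∀ i : Fin (n + 1), H i = ⊤ := by
    intro i
    induction i using Fin.reverseInduction with
    | last => exact hn
    | cast i ih =>
      haveI := hnormal i.castSucc
      have := hfac i
      rw [ih, Subgroup.relIndex_top_right] at this
      exact eq_top_of_index p hp _ this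
  have h1 := key 0
  rw [h0] at h1
  have h2 : xs (1 : ZMod p) ∈ (⊥ : Subgroup (Matrix.SpecialLinearGroup (Fin 2) (ZMod p))) := by
    rw [h1]; trivial
  rw [Subgroup.mem_bot] at h2
  exact xs_one_ne_one p h2

/-- a `p`-solvable finite group has no section `SL₂(p)` when `p ≥ 5` -/
theorem not_hasSL2Section_of_isPSolvable {G : Type u} [Group G] (hp : 5 ≤ p)
    (h : IsPSolvable p G) : ¬ Quad.HasSL2Section p G := by
  intro hs
  rw [Quad.hasSL2Section_iff_isSectionOf] at hs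
  exact not_isPSolvable_SL2 p hp (isPSolvable_of_isSectionOf h hs)

end sl2

end SL2Sections

end Cfsg.Agent.Lib.Helper2
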