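import Mathlib
import Cfsg.Agent.Lib.Helper2.CubD0
import Cfsg.Agent.Lib.Helper7.WtOrbE

/-!
# S4415, abstract setting, part D: weights of a normal subgroup of exponent 2
-/

set_option autoImplicit false
open Cfsg

namespace Cfsg.Agent.Lib.Helper2.Cub

open Cfsg.Agent.Lib.Helper7.WtOrb (wt mem_wt twist twist_map wt_indep WtIdx wtIdxAction
  wtIdx_smul_val twist_ne_bot wt_eq rho_commute)

variable {G : Type*} [Group G] {W : Type*} [AddCommGroup W] [Module (ZMod 3) W]

/-- A subgroup of exponent 2 is commutative. -/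
theorem cubD_comm_of_sq (E : Subgroup G) (hE2 : ∀ a ∈ E, a * a = 1) :
    ∀ a ∈ E, ∀ c ∈ E, a * c = c * a := by
  intro a ha c hc
  have h1 := hE2 (a * c) (E.mul_mem ha hc)
  have h2 := hE2 a ha
  have h3 := hE2 c hc
  calc a * c = a * (a * c * (a * c)) * c := by rw [h1, mul_one]
    _ = (a * a) * c * a * (c * c) := by group
    _ = c * a := by rw [h2, h3, one_mul, mul_one]

theorem cubD_card_ne_zero (E : Subgroup G) [Finite E] (hE2 : ∀ a ∈ E, a * a = 1) :
    ((Nat.card E : ℕ) : ZMod 3) ≠ 0 := by
  have hp : IsPGroup 2 E := by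
    intro a
    refine ⟨1, ?_⟩
    rw [pow_one, pow_two]
    exact Subtype.ext (hE2 a a.2)
  obtain ⟨n, hn⟩ := IsPGroup.iff_card.mp hp
  rw [hn, Ne, ZMod.natCast_eq_zero_iff]
  intro hdvd
  have : (3 : ℕ) ∣ 2 := (Nat.Prime.dvd_of_dvd_pow Nat.prime_three hdvd)
  omega

/-- The weight spaces of a subgroup of exponent 2 span `W`. -/
theorem cubD_wt_iSup [Finite W] (ρ : Representation (ZMod 3) G W) (E : Subgroup G) [Finite E]
    (hE2 : ∀ a ∈ E, a * a = 1) : ⨆ χ : E → ZMod 3, wt ρ E χ = ⊤ := by
  have hab := cubD_comm_of_sq E hE2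
  have hVK := cubD_card_ne_zero E hE2
  have h := Module.End.iSup_iInf_maxGenEigenspace_eq_top_of_iSup_maxGenEigenspace_eq_top_of_commute
    (fun y : E => ρ (y : G))
    (fun i j _ => rho_commute ρ E hab i j)
    (fun y => by
      rw [eq_top_iff]
      intro v _
      have hyy : ρ (y : G) (ρ (y : G) v) = v := by
        rw [← rho_mul_apply, hE2 y y.2, rho_one_apply]
      have h1 : v + ρ (y : G) v ∈ Module.End.maxGenEigenspace (ρ (y : G)) 1 := by
        apply Module.End.eigenspace_le_maxGenEigenspace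
        rw [Module.End.mem_eigenspace_iff, map_add, hyy, one_smul, add_comm]
      have h2 : v - ρ (y : G) v ∈ Module.End.maxGenEigenspace (ρ (y : G)) (-1) := by
        apply Module.End.eigenspace_le_maxGenEigenspace
        rw [Module.End.mem_eigenspace_iff, map_sub, hyy, neg_smul, one_smul]
        abel
      have hv : v = -((v + ρ (y : G) v) + (v - ρ (y : G) v)) := by
        have := cubA_neg_two v
        calc v = -v - v := this.symm
          _ = _ := by abel
      rw [hv]
      apply Submodule.neg_mem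
      exact Submodule.add_mem _ (Submodule.mem_iSup_of_mem 1 h1) (Submodule.mem_iSup_of_mem (-1) h2))
  have : wt ρ E = fun χ : E → ZMod 3 =>
      ⨅ y : E, Module.End.maxGenEigenspace (ρ (y : G)) (χ y) := by
    funext χ
    exact wt_eq ρ E hVK χ
  rw [this]
  exact h

variable [Finite G] [Finite W] {ρ : Representation (ZMod 3) G W} {R Q : Subgroup G} {b : G}

/-- The sum of the weight spaces indexed by the nonzero ones is everything. -/
theorem cubD_idx_iSup (ρ : Representation (ZMod 3) G W) (E : Subgroup G)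
    (hE2 : ∀ a ∈ E, a * a = 1) : ⨆ i : WtIdx ρ E, wt ρ E i.1 = ⊤ := by
  rw [eq_top_iff, ← cubD_wt_iSup ρ E hE2]
  apply iSup_le
  intro χ
  by_cases hχ : wt ρ E χ = ⊥
  · rw [hχ]; exact bot_le
  · exact le_iSup (fun i : WtIdx ρ E => wt ρ E i.1) ⟨χ, hχ⟩

/-- `G` is transitive on the weights of a normal subgroup of exponent 2. -/
theorem Setup.wt_transitive (h : Setup ρ R Q b) (E : Subgroup G) [E.Normal]
    (hE2 : ∀ a ∈ E, a * a = 1) (i j : WtIdx ρ E) : ∃ g : G, g • i = j := by
  classical
  by_contra hcon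
  push Not at hcon
  have hab := cubD_comm_of_sq E hE2
  have hVK := cubD_card_ne_zero E hE2
  have hind := wt_indep ρ E hab hVK
  -- the sum over the orbit of i
  let M : Submodule (ZMod 3) W := ⨆ g : G, wt ρ E (g • i).1
  have hMinv : ∀ g : G, ∀ v ∈ M, ρ g v ∈ M := by
    intro g v hv
    have hle : M ≤ M.comap (ρ g) := by
      apply iSup_le
      intro g' u hu
      show ρ g u ∈ M
      have h1 : ρ g u ∈ wt ρ E ((g * g') • i).1 := by
        rw [mul_smul, wtIdx_smul_val]
        exact twist_map ρ E g _ u hu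
      exact Submodule.mem_iSup_of_mem (g * g') h1
    exact hle hv
  have hMne : M ≠ ⊥ := by
    intro hbot
    have : wt ρ E ((1 : G) • i).1 ≤ M := le_iSup (fun g : G => wt ρ E (g • i).1) 1
    rw [hbot, le_bot_iff, one_smul] at this
    exact i.2 this
  have hMtop : M = ⊤ := (h.irreducible M hMinv).resolve_left hMne
  -- but M is inside the sum of the weight spaces different from j
  have hle : M ≤ ⨆ (χ : E → ZMod 3) (_ : χ ≠ j.1), wt ρ E χ := by
    apply iSup_le
    intro g
    have hne : (g • i).1 ≠ j.1 := fun e => hcon g (Subtype.ext e)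
    exact le_iSup₂ (f := fun (χ : E → ZMod 3) (_ : χ ≠ j.1) => wt ρ E χ) (g • i).1 hne
  have hdisj := hind j.1
  rw [hMtop, top_le_iff] at hle
  rw [hle, disjoint_top] at hdisj
  exact j.2 hdisj

/-- If `b` fixes all weights of a normal subgroup `E` of exponent 2, then `E` is central. -/
theorem Setup.central_of_fixed (h : Setup ρ R Q b) (E : Subgroup G) [E.Normal]
    (hE2 : ∀ a ∈ E, a * a = 1) (hfix : ∀ i : WtIdx ρ E, b • i = i) :
    ∀ a ∈ E, ∀ g : G, a * g = g * a := by
  classical
  -- every element of G fixes every weight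
  let H : Subgroup G :=
    { carrier := {g | ∀ i : WtIdx ρ E, g • i = i}
      one_mem' := fun i => one_smul _ _
      mul_mem' := fun {x y} hx hy i => by rw [mul_smul, hy i, hx i]
      inv_mem' := fun {x} hx i => by
        have := hx i
        calc x⁻¹ • i = x⁻¹ • (x • i) := by rw [this]
          _ = i := by rw [← mul_smul, inv_mul_cancel, one_smul] }
  haveI : H.Normal := by
    constructor
    intro x hx g i
    have := hx (g⁻¹ • i)
    calc (g * x * g⁻¹) • i = g • (x • (g⁻¹ • i)) := by rw [mul_smul, mul_smul]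
      _ = g • (g⁻¹ • i) := by rw [this]
      _ = i := by rw [← mul_smul, mul_inv_cancel, one_smul]
  have hH : H = ⊤ := h.eq_top_of_normal H hfix
  have hallfix : ∀ (g : G) (i : WtIdx ρ E), g • i = i := by
    intro g i
    have : g ∈ H := by rw [hH]; trivial
    exact this i
  -- hence there is at most one weight
  have hsub : ∀ i j : WtIdx ρ E, i = j := by
    intro i j
    obtain ⟨g, hg⟩ := h.wt_transitive E hE2 i j
    rw [← hg, hallfix]
  -- E acts by scalars
  have hscal : ∀ a ∈ E, ∃ c : ZMod 3, ∀ w : W, ρ a w = c • w := by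
    intro a ha
    by_cases hne : Nonempty (WtIdx ρ E)
    · obtain ⟨i⟩ := hne
      refine ⟨i.1 ⟨a, ha⟩, ?_⟩
      have htop : wt ρ E i.1 = ⊤ := by
        rw [eq_top_iff, ← cubD_idx_iSup ρ E hE2]
        apply iSup_le
        intro j
        rw [hsub j i]
      intro w
      have hw : w ∈ wt ρ E i.1 := by rw [htop]; trivial
      exact (mem_wt ρ E i.1 w).mp hw ⟨a, ha⟩
    · refine ⟨1, ?_⟩
      intro w
      have htop : (⊤ : Submodule (ZMod 3) W) = ⊥ := by
        rw [← cubD_idx_iSup ρ E hE2]
        rw [not_nonempty_iff] at hne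
        exact iSup_of_empty _
      have hw : w ∈ (⊤ : Submodule (ZMod 3) W) := trivial
      rw [htop, Submodule.mem_bot] at hw
      rw [hw, map_zero, smul_zero]
  intro a ha g
  obtain ⟨c, hc⟩ := hscal a ha
  apply h.faithful
  ext w
  rw [rho_mul_apply, rho_mul_apply, hc, hc, map_smul]

/-- The dichotomy of §4: a normal subgroup of exponent 2 is central, or `b` moves one of its
weights. -/
theorem Setup.dichotomy (h : Setup ρ R Q b) (E : Subgroup G) [E.Normal]
    (hE2 : ∀ a ∈ E, a * a = 1) :
    (∀ a ∈ E, ∀ g : G, a * g = g * a) ∨ ∃ i : WtIdx ρ E, b • i ≠ i := by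
  by_cases hex : ∃ i : WtIdx ρ E, b • i ≠ i
  · exact Or.inr hex
  · left
    push Not at hex
    exact h.central_of_fixed E hE2 hex

end Cfsg.Agent.Lib.Helper2.Cub
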