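import Mathlib
import Cfsg.Agent.Lib.Helper2.CubD

/-!
# S4415, Case N, part 1: the monomial structure coming from a moved weight
-/

set_option autoImplicit false
open Cfsg

namespace Cfsg.Agent.Lib.Helper2.Cub

open Cfsg.Agent.Lib.Helper7.WtOrb (wt mem_wt twist twist_map wt_indep WtIdx wtIdxAction
  wtIdx_smul_val twist_ne_bot wt_eq rho_commute)

variable {G : Type*} [Group G] {W : Type*} [AddCommGroup W] [Module (ZMod 3) W]

/-- The monomial structure: a basis of lines permuted transitively by `G`, `b` acting as a 3-cycle on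
the lines and trivially on the lines it fixes. -/
structure Mono (ρ : Representation (ZMod 3) G W) (b : G) (ι : Type*) [MulAction G ι] (f : ι → W)
    (i1 i2 i3 : ι) : Prop where
  li : LinearIndependent (ZMod 3) f
  sp : ⊤ ≤ Submodule.span (ZMod 3) (Set.range f)
  mono : ∀ (g : G) (i : ι), ∃ c : ZMod 3, ρ g (f i) = c • f (g • i)
  trans : ∀ i j : ι, ∃ g : G, g • i = j
  h12 : i1 ≠ i2
  h23 : i2 ≠ i3
  h13 : i1 ≠ i3
  b1 : b • i1 = i2
  b2 : b • i2 = i3
  b3 : b • i3 = i1
  bfix : ∀ j, j ≠ i1 → j ≠ i2 → j ≠ i3 → b • j = j ∧ ρ b (f j) = f j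
  sep : ∀ i j : ι, i ≠ j → ∃ a : G, a * a = 1 ∧ (∀ k : ι, a • k = k) ∧
    ∃ ci cj : ZMod 3, ci ≠ cj ∧ ρ a (f i) = ci • f i ∧ ρ a (f j) = cj • f j

/-- Independence: a vector of one family member which is minus a vector of the span of others is zero. -/
theorem cubN_indep {ι : Type*} {t : ι → Submodule (ZMod 3) W} (ht : iSupIndep t) {x : ι} {y : Set ι}
    (hx : x ∉ y) {u v : W} (hu : u ∈ t x) (hv : v ∈ ⨆ i ∈ y, t i) (h0 : u + v = 0) : u = 0 := by
  have hdisj := ht.disjoint_biSup hx
  have hu' : u ∈ ⨆ i ∈ y, t i := by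
    have : u = -v := eq_neg_of_add_eq_zero_left h0
    rw [this]
    exact Submodule.neg_mem _ hv
  have := Submodule.disjoint_def.mp hdisj u hu hu'
  exact this

variable [Finite G] [Finite W] {ρ : Representation (ZMod 3) G W} {R Q : Subgroup G} {b : G}

theorem cubN_b_cube (h : Setup ρ R Q b) {ι : Type*} [MulAction G ι] (i : ι) : b • b • b • i = i := by
  rw [← mul_smul, ← mul_smul, show b * b * b = b ^ 3 from by rw [pow_succ, pow_two],
    h.b3, one_smul]

/-- The monomial structure attached to a normal subgroup of exponent 2 with a weight moved by `b`. -/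
theorem Setup.mono_of_moved (h : Setup ρ R Q b) (E : Subgroup G) [E.Normal]
    (hE2 : ∀ a ∈ E, a * a = 1) (i1 : WtIdx ρ E) (hmove : b • i1 ≠ i1) :
    ∃ f : WtIdx ρ E → W, Mono ρ b (WtIdx ρ E) f i1 (b • i1) (b • b • i1) := by
  classical
  have hab := cubD_comm_of_sq E hE2
  have hVK := cubD_card_ne_zero E hE2
  have hind0 := wt_indep ρ E hab hVK
  have hind : iSupIndep (fun i : WtIdx ρ E => wt ρ E i.1) :=
    hind0.comp (f := fun i : WtIdx ρ E => i.1) Subtype.val_injective
  have hb3 : ∀ i : WtIdx ρ E, b • b • b • i = i := fun i => cubN_b_cube h i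
  set i2 := b • i1 with hi2
  set i3 := b • i2 with hi3
  have h31 : b • i3 = i1 := hb3 i1
  have h12 : i1 ≠ i2 := fun e => hmove e.symm
  have h23 : i2 ≠ i3 := by
    intro e
    apply h12
    have := congrArg (fun j => b⁻¹ • j) e
    simpa [hi2, hi3, inv_smul_smul] using this
  have h13 : i1 ≠ i3 := by
    intro e
    apply hmove
    calc b • i1 = b • i3 := by rw [← e]
      _ = i1 := h31
  -- membership transport
  have hmap : ∀ (g : G) (i : WtIdx ρ E) (w : W), w ∈ wt ρ E i.1 → ρ g w ∈ wt ρ E (g • i).1 := by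
    intro g i w hw
    rw [wtIdx_smul_val]
    exact twist_map ρ E g _ w hw
  -- a nonzero vector of the weight space of i1
  obtain ⟨f1, hf1, hf1ne⟩ := (Submodule.ne_bot_iff _).mp i1.2
  -- N² f1 ≠ 0
  have hsq : ∀ (j : WtIdx ρ E), b • j ≠ j → ∀ w ∈ wt ρ E j.1,
      nOp ρ b (nOp ρ b w) = 0 → w = 0 := by
    intro j hj w hw h0
    rw [nOp_sq_apply] at h0
    have hj2 : b • b • j ≠ j := by
      intro e
      apply hj
      calc b • j = b • (b • b • j) := by rw [e]
        _ = j := hb3 j
    have hx : j ∉ ({b • j, b • b • j} : Set (WtIdx ρ E)) := by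
      simp only [Set.mem_insert_iff, Set.mem_singleton_iff, not_or]
      exact ⟨fun e => hj e.symm, fun e => hj2 e.symm⟩
    have hv : ρ b (ρ b w) + ρ b w ∈ ⨆ i ∈ ({b • j, b • b • j} : Set (WtIdx ρ E)), wt ρ E i.1 := by
      apply Submodule.add_mem
      · exact Submodule.mem_iSup_of_mem (b • b • j)
          (Submodule.mem_iSup_of_mem (by simp) (hmap b _ _ (hmap b _ _ hw)))
      · exact Submodule.mem_iSup_of_mem (b • j)
          (Submodule.mem_iSup_of_mem (by simp) (hmap b _ _ hw))
    exact cubN_indep hind hx hw hv (by rw [← h0]; abel)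
  have hN2f1 : nOp ρ b (nOp ρ b f1) ≠ 0 := fun h0 => hf1ne (hsq i1 hmove f1 hf1 h0)
  -- the weight space of i1 is the line through f1
  have hline1 : ∀ w ∈ wt ρ E i1.1, ∃ a : ZMod 3, w = a • f1 := by
    intro w hw
    obtain ⟨α, hα⟩ := h.Nsq_multiple hN2f1 w
    refine ⟨α, ?_⟩
    have hmem : w - α • f1 ∈ wt ρ E i1.1 := Submodule.sub_mem _ hw (Submodule.smul_mem _ _ hf1)
    have h0 : nOp ρ b (nOp ρ b (w - α • f1)) = 0 := by
      rw [map_sub, map_sub, map_smul, map_smul, hα, sub_self]
    exact sub_eq_zero.mp (hsq i1 hmove _ hmem h0)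
  -- every weight space is a line
  have hlines : ∀ i : WtIdx ρ E, ∃ fi : W, fi ∈ wt ρ E i.1 ∧ fi ≠ 0 ∧
      ∀ w ∈ wt ρ E i.1, ∃ a : ZMod 3, w = a • fi := by
    intro i
    obtain ⟨g, hg⟩ := h.wt_transitive E hE2 i1 i
    refine ⟨ρ g f1, by rw [← hg]; exact hmap g i1 f1 hf1, ?_, ?_⟩
    · intro h0
      exact hf1ne (rho_injective ρ g (by rw [h0, map_zero]))
    · intro w hw
      have hw' : ρ g⁻¹ w ∈ wt ρ E i1.1 := by
        have := hmap g⁻¹ i w hw
        rwa [← hg, inv_smul_smul] at this
      obtain ⟨a, ha⟩ := hline1 _ hw'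
      refine ⟨a, ?_⟩
      have := congrArg (ρ g) ha
      rwa [rho_apply_inv, map_smul] at this
  choose f hfmem hfne hfline using hlines
  refine ⟨f, ?_⟩
  have hmono : ∀ (g : G) (i : WtIdx ρ E), ∃ c : ZMod 3, ρ g (f i) = c • f (g • i) :=
    fun g i => hfline (g • i) _ (hmap g i _ (hfmem i))
  refine
    { li := iSupIndep.linearIndependent _ hind hfmem hfne
      sp := ?_
      mono := hmono
      trans := h.wt_transitive E hE2
      h12 := h12
      h23 := h23
      h13 := h13
      b1 := rfl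
      b2 := rfl
      b3 := h31
      bfix := ?_
      sep := ?_ }
  · rw [← cubD_idx_iSup ρ E hE2]
    apply iSup_le
    intro i w hw
    obtain ⟨a, ha⟩ := hfline i w hw
    rw [ha]
    exact Submodule.smul_mem _ _ (Submodule.subset_span ⟨i, rfl⟩)
  · intro j hj1 hj2 hj3
    have hbj : b • j = j := by
      by_contra hne
      have hj2' : b • b • j ≠ j := by
        intro e
        apply hne
        calc b • j = b • (b • b • j) := by rw [e]
          _ = j := hb3 j
      -- N² (f j) = α N² f1 contradicts independence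
      obtain ⟨α, hα⟩ := h.Nsq_multiple hN2f1 (f j)
      rw [nOp_sq_apply, nOp_sq_apply] at hα
      have hx : j ∉ ({b • j, b • b • j, i1, i2, i3} : Set (WtIdx ρ E)) := by
        simp only [Set.mem_insert_iff, Set.mem_singleton_iff, not_or]
        exact ⟨fun e => hne e.symm, fun e => hj2' e.symm, hj1, hj2, hj3⟩
      have hv : ρ b (ρ b (f j)) + ρ b (f j) - α • (ρ b (ρ b f1) + ρ b f1 + f1) ∈
          ⨆ i ∈ ({b • j, b • b • j, i1, i2, i3} : Set (WtIdx ρ E)), wt ρ E i.1 := by
        apply Submodule.sub_mem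
        · apply Submodule.add_mem
          · exact Submodule.mem_iSup_of_mem (b • b • j)
              (Submodule.mem_iSup_of_mem (by simp) (hmap b _ _ (hmap b _ _ (hfmem j))))
          · exact Submodule.mem_iSup_of_mem (b • j)
              (Submodule.mem_iSup_of_mem (by simp) (hmap b _ _ (hfmem j)))
        · apply Submodule.smul_mem
          apply Submodule.add_mem
          · apply Submodule.add_mem
            · exact Submodule.mem_iSup_of_mem i3
                (Submodule.mem_iSup_of_mem (by simp) (hmap b _ _ (hmap b _ _ hf1)))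
            · exact Submodule.mem_iSup_of_mem i2
                (Submodule.mem_iSup_of_mem (by simp) (hmap b _ _ hf1))
          · exact Submodule.mem_iSup_of_mem i1 (Submodule.mem_iSup_of_mem (by simp) hf1)
      have := cubN_indep hind hx (hfmem j) hv (by rw [← sub_eq_zero] at hα; rw [← hα]; abel)
      exact hfne j this
    refine ⟨hbj, ?_⟩
    obtain ⟨c, hc⟩ := hmono b j
    rw [hbj] at hc
    have h3 : ρ b (ρ b (ρ b (f j))) = f j := rho_cube ρ h.b3 (f j)
    rw [hc, map_smul, hc, map_smul, map_smul, hc, smul_smul, smul_smul] at h3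
    have hc1 : c * c * c = 1 := by
      have h4 : (c * c * c - 1) • f j = 0 := by rw [sub_smul, h3, one_smul, sub_self]
      exact sub_eq_zero.mp ((smul_eq_zero.mp h4).resolve_right (hfne j))
    have hc' : c = 1 := by
      have hdec : ∀ x : ZMod 3, x * x * x = 1 → x = 1 := by decide
      exact hdec c hc1
    rw [hc, hc', one_smul]
  · intro i j hij
    have hne : i.1 ≠ j.1 := fun e => hij (Subtype.ext e)
    obtain ⟨y, hy⟩ := Function.ne_iff.mp hne
    refine ⟨(y : G), hE2 y y.2, ?_, i.1 y, j.1 y, hy, ?_, ?_⟩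
    · intro k
      apply Subtype.ext
      rw [wtIdx_smul_val]
      funext y'
      show k.1 (MulAut.conjNormal (y : G)⁻¹ y') = k.1 y'
      have he : MulAut.conjNormal (y : G)⁻¹ y' = y' := by
        apply Subtype.ext
        rw [MulAut.conjNormal_apply]
        have hc := hab y y.2 y' y'.2
        calc (y : G)⁻¹ * y' * ((y : G)⁻¹)⁻¹ = (y : G)⁻¹ * ((y' : G) * y) := by group
          _ = (y : G)⁻¹ * ((y : G) * y') := by rw [hc]
          _ = y' := by group
      rw [he]
    · exact (mem_wt ρ E i.1 (f i)).mp (hfmem i) y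
    · exact (mem_wt ρ E j.1 (f j)).mp (hfmem j) y

end Cfsg.Agent.Lib.Helper2.Cub
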