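import Mathlib
import Cfsg.Agent.Lib.Helper2.CubN1

/-!
# S4415, Case N, part 2: the sign functions of a monomial structure
-/

set_option autoImplicit false
open Cfsg

namespace Cfsg.Agent.Lib.Helper2.Cub

variable {G : Type*} [Group G] {W : Type*} [AddCommGroup W] [Module (ZMod 3) W]
variable {ρ : Representation (ZMod 3) G W} {b : G} {ι : Type*} [MulAction G ι] {f : ι → W}
  {i1 i2 i3 : ι}

theorem cubN_sq_one : ∀ c : ZMod 3, c ≠ 0 → c * c = 1 := by decide

theorem Mono.f_ne (M : Mono ρ b ι f i1 i2 i3) (i : ι) : f i ≠ 0 := M.li.ne_zero i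

/-- The sign of `g` at the line `i`. -/
noncomputable def Mono.eps (M : Mono ρ b ι f i1 i2 i3) (g : G) (i : ι) : ZMod 3 :=
  Classical.choose (M.mono g i)

theorem Mono.eps_spec (M : Mono ρ b ι f i1 i2 i3) (g : G) (i : ι) :
    ρ g (f i) = M.eps g i • f (g • i) := Classical.choose_spec (M.mono g i)

theorem Mono.eps_unique (M : Mono ρ b ι f i1 i2 i3) {g : G} {i : ι} {c : ZMod 3}
    (hc : ρ g (f i) = c • f (g • i)) : c = M.eps g i := by
  have h1 := M.eps_spec g i
  rw [hc] at h1
  have h2 : (c - M.eps g i) • f (g • i) = 0 := by rw [sub_smul, h1, sub_self]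
  exact sub_eq_zero.mp ((smul_eq_zero.mp h2).resolve_right (M.f_ne _))

theorem Mono.eps_ne_zero (M : Mono ρ b ι f i1 i2 i3) (g : G) (i : ι) : M.eps g i ≠ 0 := by
  intro h0
  have h1 := M.eps_spec g i
  rw [h0, zero_smul] at h1
  exact M.f_ne i (rho_injective ρ g (by rw [h1, map_zero]))

theorem Mono.eps_sq (M : Mono ρ b ι f i1 i2 i3) (g : G) (i : ι) : M.eps g i * M.eps g i = 1 :=
  cubN_sq_one _ (M.eps_ne_zero g i)

theorem Mono.eps_mul (M : Mono ρ b ι f i1 i2 i3) (g h : G) (i : ι) :
    M.eps (g * h) i = M.eps g (h • i) * M.eps h i := by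
  symm
  apply M.eps_unique
  rw [rho_mul_apply, M.eps_spec h i, map_smul, M.eps_spec g (h • i), smul_smul, mul_smul (α := G),
    mul_comm]

theorem Mono.eps_one (M : Mono ρ b ι f i1 i2 i3) (i : ι) : M.eps 1 i = 1 := by
  symm
  apply M.eps_unique
  rw [rho_one_apply, one_smul, one_smul]

/-- Faithfulness in monomial coordinates. -/
theorem Mono.eq_one_of_eps (M : Mono ρ b ι f i1 i2 i3) (hf : Function.Injective ρ) (g : G)
    (hg : ∀ i : ι, g • i = i ∧ M.eps g i = 1) : g = 1 := by
  apply hf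
  apply LinearMap.ext_on_range (top_le_iff.mp M.sp)
  intro i
  rw [M.eps_spec g i, (hg i).1, (hg i).2, one_smul, map_one, Module.End.one_apply]

section Delta

variable [Fintype ι]

/-- The product of all signs. -/
noncomputable def Mono.delta (M : Mono ρ b ι f i1 i2 i3) (g : G) : ZMod 3 := ∏ i, M.eps g i

theorem Mono.delta_mul (M : Mono ρ b ι f i1 i2 i3) (g h : G) :
    M.delta (g * h) = M.delta g * M.delta h := by
  unfold Mono.delta
  simp_rw [M.eps_mul]
  rw [Finset.prod_mul_distrib]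
  congr 1
  exact Equiv.prod_comp (MulAction.toPerm h) (fun i => M.eps g i)

theorem Mono.delta_one (M : Mono ρ b ι f i1 i2 i3) : M.delta 1 = 1 := by
  unfold Mono.delta
  simp_rw [M.eps_one]
  exact Finset.prod_const_one

theorem Mono.delta_sq (M : Mono ρ b ι f i1 i2 i3) (g : G) : M.delta g * M.delta g = 1 := by
  unfold Mono.delta
  rw [← Finset.prod_mul_distrib]
  simp_rw [M.eps_sq]
  exact Finset.prod_const_one

/-- The kernel of `delta`. -/
noncomputable def Mono.deltaKer (M : Mono ρ b ι f i1 i2 i3) : Subgroup G where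
  carrier := {g | M.delta g = 1}
  mul_mem' := by
    intro x y hx hy
    simp only [Set.mem_ofPred_eq] at *
    rw [M.delta_mul, hx, hy, mul_one]
  one_mem' := M.delta_one
  inv_mem' := by
    intro x hx
    simp only [Set.mem_ofPred_eq] at *
    have h1 := M.delta_mul x⁻¹ x
    rw [inv_mul_cancel, M.delta_one, hx, mul_one] at h1
    exact h1.symm

theorem Mono.mem_deltaKer (M : Mono ρ b ι f i1 i2 i3) (g : G) :
    g ∈ M.deltaKer ↔ M.delta g = 1 := Iff.rfl

theorem Mono.deltaKer_normal (M : Mono ρ b ι f i1 i2 i3) : M.deltaKer.Normal := by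
  constructor
  intro a ha g
  rw [M.mem_deltaKer] at *
  rw [M.delta_mul, M.delta_mul, ha, mul_one, ← M.delta_mul, mul_inv_cancel, M.delta_one]

theorem Mono.delta_b (M : Mono ρ b ι f i1 i2 i3) (hb3 : b ^ 3 = 1) : M.delta b = 1 := by
  have h1 : M.delta (b ^ 3) = 1 := by rw [hb3, M.delta_one]
  rw [pow_succ, pow_two, M.delta_mul, M.delta_mul, M.delta_sq, one_mul] at h1
  exact h1

end Delta

end Cfsg.Agent.Lib.Helper2.Cub
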