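import Mathlib
import Cfsg.Agent.Lib.Helper2.CubN2
import Cfsg.Agent.Lib.Helper9.CubF1
import Cfsg.Agent.Lib.Helper9.CubF2b

/-!
# S4415, Case N, part 3: `delta = 1`, at most four lines, and the case of three lines
-/

set_option autoImplicit false
open Cfsg

namespace Cfsg.Agent.Lib.Helper2.Cub

variable {G : Type*} [Group G] {W : Type*} [AddCommGroup W] [Module (ZMod 3) W]
variable [Finite G] [Finite W] {ρ : Representation (ZMod 3) G W} {R Q : Subgroup G} {b : G}
variable {ι : Type*} [MulAction G ι] {f : ι → W} {i1 i2 i3 : ι}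

/-- `delta` is trivial on `G`. -/
theorem Setup.delta_eq_one (h : Setup ρ R Q b) [Fintype ι] (M : Mono ρ b ι f i1 i2 i3) (g : G) :
    M.delta g = 1 := by
  have := M.deltaKer_normal
  have htop := h.eq_top_of_normal M.deltaKer ((M.mem_deltaKer b).mpr (M.delta_b h.b3))
  have : g ∈ M.deltaKer := by rw [htop]; exact Subgroup.mem_top g
  exact (M.mem_deltaKer g).mp this

/-- At most four lines. -/
theorem Setup.mono_card_le (h : Setup ρ R Q b) [Finite ι] (M : Mono ρ b ι f i1 i2 i3) :
    Nat.card ι ≤ 4 := by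
  have := h.solv
  have : MulAction.IsPretransitive G ι := ⟨M.trans⟩
  exact f1_card_le_four b h.normalClosure_eq_top i1 i2 i3 M.h12 M.h23 M.h13 M.b1 M.b2 M.b3
    (fun l h1 h2 h3 => (M.bfix l h1 h2 h3).1)

/-- Involutions lie in `R`. -/
theorem Setup.mem_R_of_sq (h : Setup ρ R Q b) (a : G) (ha : a * a = 1) : a ∈ R := by
  have := h.normalR
  obtain ⟨x, hx, i, rfl⟩ := h.gen a
  set y := b ^ i with hy
  have hy3 : y * y * y = 1 := by
    rw [hy, ← pow_two, ← pow_succ, ← pow_mul, mul_comm, pow_mul, h.b3, one_pow]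
  have hyy : y * y = (y * x⁻¹ * y⁻¹) * x⁻¹ := by
    have h1 : y = x⁻¹ * y⁻¹ * x⁻¹ := by
      calc y = x⁻¹ * (x * y * (x * y)) * y⁻¹ * x⁻¹ := by group
        _ = x⁻¹ * y⁻¹ * x⁻¹ := by rw [ha]; group
    calc y * y = y * (x⁻¹ * y⁻¹ * x⁻¹) := by rw [← h1]
      _ = (y * x⁻¹ * y⁻¹) * x⁻¹ := by group
  have hyyR : y * y ∈ R := by
    rw [hyy]
    exact R.mul_mem (h.normalR.conj_mem _ (R.inv_mem hx) y) (R.inv_mem hx)
  have hyR : y ∈ R := by
    have h2 : y = (y * y)⁻¹ := by
      rw [eq_inv_iff_mul_eq_one, ← mul_assoc]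
      exact hy3
    rw [h2]
    exact R.inv_mem hyyR
  exact R.mul_mem hx hyR

omit [Finite G] in
/-- Powers of `b` fix what `b` fixes. -/
theorem cubN_pow_smul {j : ι} (hb : b • j = j) (k : ℕ) : b ^ k • j = j := by
  induction k with
  | zero => rw [pow_zero, one_smul]
  | succ n ih => rw [pow_succ, mul_smul, hb, ih]

theorem cubN_bool_aux : ∀ c d : ZMod 3, c ≠ 0 → d ≠ 0 → (decide (c = 1) = decide (d = 1)) → c = d := by
  decide

theorem cubN_third_aux : ∀ c1 c2 c3 d3 : ZMod 3, c1 * c2 * c3 = 1 → c1 * c2 * d3 = 1 → c3 = d3 := by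
  decide

/-- The case of three lines: `R = Q`. -/
theorem Setup.mono_three (h : Setup ρ R Q b) [Finite ι] (M : Mono ρ b ι f i1 i2 i3)
    (hall : ∀ l : ι, l = i1 ∨ l = i2 ∨ l = i3) : R = Q := by
  classical
  haveI := Fintype.ofFinite ι
  have := h.normalR
  have hfix : ∀ x ∈ R, ∀ l : ι, x • l = l := fun x hx =>
    f2b_three R h.coprimeR b (fun x hx => h.normalR.conj_mem x hx b) i1 i2 i3 hall M.h12 M.h13 M.h23
      M.b1 M.b2 M.b3 x hx
  have huniv : (Finset.univ : Finset ι) = {i1, i2, i3} := by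
    ext l
    simp only [Finset.mem_univ, Finset.mem_insert, Finset.mem_singleton, true_iff]
    exact hall l
  have hprod : ∀ g : G, M.eps g i1 * M.eps g i2 * M.eps g i3 = 1 := by
    intro g
    have h1 := h.delta_eq_one M g
    unfold Mono.delta at h1
    rw [huniv, Finset.prod_insert (by simp [M.h12, M.h13]), Finset.prod_insert (by simp [M.h23]),
      Finset.prod_singleton, ← mul_assoc] at h1
    exact h1
  have hinj : Function.Injective
      (fun x : R => (decide (M.eps (x : G) i1 = 1), decide (M.eps (x : G) i2 = 1))) := by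
    intro x y hxy
    simp only [Prod.mk.injEq] at hxy
    have e1 := cubN_bool_aux _ _ (M.eps_ne_zero x i1) (M.eps_ne_zero y i1) hxy.1
    have e2 := cubN_bool_aux _ _ (M.eps_ne_zero x i2) (M.eps_ne_zero y i2) hxy.2
    have e3 : M.eps (x : G) i3 = M.eps (y : G) i3 := by
      have hx := hprod x
      have hy := hprod y
      rw [← e1, ← e2] at hy
      exact cubN_third_aux _ _ _ _ hx hy
    apply Subtype.ext
    apply h.faithful
    apply LinearMap.ext_on_range (top_le_iff.mp M.sp)
    intro l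
    rw [M.eps_spec, M.eps_spec, hfix x x.2, hfix y y.2]
    rcases hall l with rfl | rfl | rfl
    · rw [e1]
    · rw [e2]
    · rw [e3]
  have hcard : Nat.card R ≤ 4 := by
    have := Nat.card_le_card_of_injective _ hinj
    simpa using this
  exact (Subgroup.eq_of_le_of_card_ge h.QleR (by rw [h.Qcard]; exact hcard)).symm

end Cfsg.Agent.Lib.Helper2.Cub
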