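import Mathlib
import Cfsg.Agent.Lib.Helper2.CubN3
import Cfsg.Agent.Lib.Helper9.CubF2
import Cfsg.Agent.Lib.Helper4.CubN4

/-!
# S4415, Case N, part 5: the case of four lines and the conclusion of Case N
-/

set_option autoImplicit false
open Cfsg

namespace Cfsg.Agent.Lib.Helper2.Cub

open Cfsg.Agent.Lib.Helper7.WtOrb (WtIdx wtIdxAction)

variable {G : Type*} [Group G] {W : Type*} [AddCommGroup W] [Module (ZMod 3) W]
variable [Finite G] [Finite W] {ρ : Representation (ZMod 3) G W} {R Q : Subgroup G} {b : G}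
variable {ι : Type*} [MulAction G ι] {f : ι → W} {i1 i2 i3 : ι}

/-- The case of four lines. -/
theorem Setup.mono_four (h : Setup ρ R Q b) [Finite ι] (M : Mono ρ b ι f i1 i2 i3) (i4 : ι)
    (h14 : i1 ≠ i4) (h24 : i2 ≠ i4) (h34 : i3 ≠ i4)
    (hall : ∀ l : ι, l = i1 ∨ l = i2 ∨ l = i3 ∨ l = i4) : Concl32 R := by
  classical
  haveI := Fintype.ofFinite ι
  have := h.normalR
  have hb4 : b • i4 = i4 := (M.bfix i4 (Ne.symm h14) (Ne.symm h24) (Ne.symm h34)).1
  have huniv : (Finset.univ : Finset ι) = {i1, i2, i3, i4} := by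
    ext l
    simp only [Finset.mem_univ, Finset.mem_insert, Finset.mem_singleton, true_iff]
    exact hall l
  have hprod : ∀ g : G, M.eps g i1 * M.eps g i2 * M.eps g i3 * M.eps g i4 = 1 := by
    intro g
    have h1 := h.delta_eq_one M g
    unfold Mono.delta at h1
    rw [huniv, Finset.prod_insert (by simp [M.h12, M.h13, h14]),
      Finset.prod_insert (by simp [M.h23, h24]), Finset.prod_insert (by simp [h34]),
      Finset.prod_singleton, ← mul_assoc, ← mul_assoc] at h1
    exact h1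
  refine n4_concl32 R b M.eps i1 i2 i3 i4 hall M.h12 M.h13 h14 M.h23 h24 h34 M.b1 M.b2 M.b3 hb4
    M.eps_ne_zero M.eps_mul (M.eq_one_of_eps h.faithful) hprod ?_ ?_ ?_
  · intro x hx
    exact f2_klein R h.coprimeR b (fun x hx => h.normalR.conj_mem x hx b) i1 i2 i3 i4 hall M.h12
      M.h13 h14 M.h23 h24 h34 M.b1 M.b2 M.b3 hb4 x hx
  · intro j
    obtain ⟨g, hg⟩ := M.trans i4 j
    obtain ⟨x, hx, k, rfl⟩ := h.gen g
    refine ⟨x, hx, ?_⟩
    rw [mul_smul, cubN_pow_smul hb4] at hg
    exact hg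
  · obtain ⟨a, haa, hafix, ci, cj, hne, h1, h4⟩ := M.sep i1 i4 h14
    refine ⟨a, h.mem_R_of_sq a haa, hafix, ?_⟩
    have e1 : ci = M.eps a i1 := M.eps_unique (by rw [hafix]; exact h1)
    have e4 : cj = M.eps a i4 := M.eps_unique (by rw [hafix]; exact h4)
    rw [← e1, ← e4]
    exact hne

/-- A monomial structure gives the conclusion of Theorem T. -/
theorem Setup.mono_main (h : Setup ρ R Q b) [Finite ι] (M : Mono ρ b ι f i1 i2 i3) :
    R = Q ∨ Concl32 R := by
  classical
  by_cases hex : ∃ i4 : ι, i1 ≠ i4 ∧ i2 ≠ i4 ∧ i3 ≠ i4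
  · obtain ⟨i4, h14, h24, h34⟩ := hex
    right
    refine h.mono_four M i4 h14 h24 h34 ?_
    intro l
    by_contra hl
    push Not at hl
    obtain ⟨hl1, hl2, hl3, hl4⟩ := hl
    haveI := Fintype.ofFinite ι
    have hcard := h.mono_card_le M
    rw [Nat.card_eq_fintype_card] at hcard
    have h5 : ({i1, i2, i3, i4, l} : Finset ι).card = 5 := by
      rw [Finset.card_insert_of_notMem, Finset.card_insert_of_notMem, Finset.card_insert_of_notMem,
        Finset.card_insert_of_notMem, Finset.card_singleton]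
      · simp [Ne.symm hl4]
      · simp [h34, Ne.symm hl3]
      · simp [M.h23, h24, Ne.symm hl2]
      · simp [M.h12, M.h13, h14, Ne.symm hl1]
    have := Finset.card_le_univ ({i1, i2, i3, i4, l} : Finset ι)
    omega
  · left
    push Not at hex
    refine h.mono_three M ?_
    intro l
    by_contra hl
    push Not at hl
    exact hl.2.2 (hex l (Ne.symm hl.1) (Ne.symm hl.2.1)).symm

/-- Case N: a normal subgroup of exponent 2 with a weight moved by `b`. -/
theorem Setup.caseN (h : Setup ρ R Q b) (E : Subgroup G) [E.Normal]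
    (hE2 : ∀ a ∈ E, a * a = 1) (i : WtIdx ρ E) (hmove : b • i ≠ i) : R = Q ∨ Concl32 R := by
  obtain ⟨f, M⟩ := h.mono_of_moved E hE2 i hmove
  exact h.mono_main M

end Cfsg.Agent.Lib.Helper2.Cub
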