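import Mathlib
import Cfsg.Agent.Lib.Helper2.CubD0
import Cfsg.Agent.Lib.Helper1.CubF5

/-!
# S4415, Case C', PC7E: an extraspecial `R` of order at most 32 containing `Q × ⟨z⟩` has order 32
-/

set_option autoImplicit false
open Cfsg

namespace Cfsg.Agent.Lib.Helper2.Cub

variable {G : Type*} [Group G] {W : Type*} [AddCommGroup W] [Module (ZMod 3) W]
variable [Finite G] [Finite W] {ρ : Representation (ZMod 3) G W} {R Q : Subgroup G} {b : G}

/-- The subgroup `Q × ⟨z⟩` for a central involution `z`. -/
def cubQZ (Q : Subgroup G) (z : G) (hzc : ∀ g : G, z * g = g * z) (hzz : z * z = 1) : Subgroup G where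
  carrier := {g | g ∈ Q ∨ g * z ∈ Q}
  mul_mem' := by
    intro x y hx hy
    rcases hx with hx | hx <;> rcases hy with hy | hy
    · exact Or.inl (Q.mul_mem hx hy)
    · right
      rw [mul_assoc]
      exact Q.mul_mem hx hy
    · right
      have : x * y * z = x * z * y := by rw [mul_assoc, mul_assoc, ← hzc y]
      rw [this]
      exact Q.mul_mem hx hy
    · left
      have : x * y = x * z * (y * z) := by
        rw [mul_assoc x z, ← mul_assoc z y, hzc y, mul_assoc y z, hzz, mul_one]
      rw [this]
      exact Q.mul_mem hx hy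
  one_mem' := Or.inl Q.one_mem
  inv_mem' := by
    intro x hx
    rcases hx with hx | hx
    · exact Or.inl (Q.inv_mem hx)
    · right
      have hzinv : z⁻¹ = z := inv_eq_of_mul_eq_one_left hzz
      have : x⁻¹ * z = (x * z)⁻¹ := by rw [mul_inv_rev, hzinv, hzc]
      rw [this]
      exact Q.inv_mem hx

omit [Finite G] in
theorem mem_cubQZ (Q : Subgroup G) (z : G) (hzc : ∀ g : G, z * g = g * z) (hzz : z * z = 1) (g : G) :
    g ∈ cubQZ Q z hzc hzz ↔ g ∈ Q ∨ g * z ∈ Q := Iff.rfl

/-- PC7E. -/
theorem Setup.pc7e_concl (h : Setup ρ R Q b) {z : G} (hzR : z ∈ R) (hz1 : z ≠ 1)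
    (hzc : ∀ g : G, z * g = g * z) (hR : IsExtraspecial 2 R) (hR32 : Nat.card R ≤ 32) :
    Concl32 R := by
  classical
  have : Fact (Nat.Prime 2) := ⟨Nat.prime_two⟩
  -- `z * z = 1`
  have hzz : z * z = 1 := by
    rcases h.central_scalar z hzc with h1 | h1
    · exfalso
      apply hz1
      apply h.faithful
      ext w
      rw [h1 w, map_one]; rfl
    · apply h.faithful
      ext w
      rw [map_mul, Module.End.mul_apply, h1, h1, neg_neg, map_one]; rfl
  -- `z ∉ Q`
  obtain ⟨q1, q2, q3, hq1, hq2, hq3, hQ, c1, c2, c3, -, -, -, -, -, -, -, -, n12, n13, n23⟩ :=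
    h.exists_q
  have hbz : b * z * b⁻¹ = z := by rw [← hzc b, mul_assoc, mul_inv_cancel, mul_one]
  have hzQ : z ∉ Q := by
    intro hz
    rcases hQ z hz with e | e | e | e
    · exact hz1 e
    · rw [e, c1] at hbz; exact n12 hbz.symm
    · rw [e, c2] at hbz; exact n23 hbz.symm
    · rw [e, c3] at hbz; exact n13 hbz
  set A := cubQZ Q z hzc hzz with hA
  -- `A ≤ R`
  have hAR : A ≤ R := by
    intro g hg
    rcases hg with hg | hg
    · exact h.QleR hg
    · have : g = g * z * z := by rw [mul_assoc, hzz, mul_one]
      rw [this]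
      exact R.mul_mem (h.QleR hg) hzR
  -- exponent 2
  have hA2 : ∀ a ∈ A, a * a = 1 := by
    intro a ha
    rcases ha with ha | ha
    · exact h.Qsq a ha
    · have h1 := h.Qsq _ ha
      have : a * z * (a * z) = a * a := by
        rw [mul_assoc a z, ← mul_assoc z a, hzc a, mul_assoc a z, hzz, mul_one]
      rw [← this]; exact h1
  have hAcomm : ∀ x ∈ A, ∀ y ∈ A, x * y = y * x := by
    intro x hx y hy
    have hxy := hA2 _ (A.mul_mem hx hy)
    have hx2 := hA2 x hx
    have hy2 := hA2 y hy
    calc x * y = x * (x * y * (x * y)) * y := by rw [hxy, mul_one]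
      _ = (x * x) * y * x * (y * y) := by group
      _ = y * x := by rw [hx2, hy2, one_mul, mul_one]
  -- `|A| = 8`
  have hAcard : Nat.card A = 8 := by
    have hset : (A : Set G) = (Q : Set G) ∪ (fun g => g * z) '' (Q : Set G) := by
      ext g
      simp only [Set.mem_union, Set.mem_image, SetLike.mem_coe]
      constructor
      · rintro (hg | hg)
        · exact Or.inl hg
        · exact Or.inr ⟨g * z, hg, by rw [mul_assoc, hzz, mul_one]⟩
      · rintro (hg | ⟨q, hq, rfl⟩)
        · exact Or.inl hg
        · right
          rw [mul_assoc, hzz, mul_one]; exact hq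
    have hdisj : Disjoint (Q : Set G) ((fun g => g * z) '' (Q : Set G)) := by
      rw [Set.disjoint_left]
      rintro g hg ⟨q, hq, hqg⟩
      apply hzQ
      have : z = q⁻¹ * g := by rw [← hqg]; group
      rw [this]
      exact Q.mul_mem (Q.inv_mem hq) hg
    have hQn : (Q : Set G).ncard = 4 := by
      rw [← Nat.card_coe_set_eq]; exact h.Qcard
    have h1 : Nat.card A = (A : Set G).ncard := (Nat.card_coe_set_eq (A : Set G)).symm
    rw [h1, hset, Set.ncard_union_eq hdisj (Set.toFinite _) (Set.toFinite _),
      Set.ncard_image_of_injective _ (mul_left_injective z), hQn]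
  -- the order of `R`
  obtain ⟨m, hm⟩ := IsPGroup.iff_card.mp hR.1.1
  have h8 : 8 ≤ Nat.card R := by rw [← hAcard]; exact Subgroup.card_le_of_le hAR
  have hm3 : 3 ≤ m := by
    by_contra hlt
    push Not at hlt
    have : 2 ^ m ≤ 2 ^ 2 := Nat.pow_le_pow_right (by norm_num) (by omega)
    omega
  have hm5 : m ≤ 5 := by
    by_contra hlt
    push Not at hlt
    have : 2 ^ 6 ≤ 2 ^ m := Nat.pow_le_pow_right (by norm_num) (by omega)
    omega
  -- elementwise data of the extraspecial group `↥R`
  have hzcen : (⟨z, hzR⟩ : R) ∈ Subgroup.center R := by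
    rw [Subgroup.mem_center_iff]
    intro y
    apply Subtype.ext
    exact (hzc y).symm
  have hz1' : (⟨z, hzR⟩ : R) ≠ 1 := fun e => hz1 (congrArg Subtype.val e)
  have d := f5Data_of_isExtraspecial hR ⟨z, hzR⟩ hzcen hz1'
  have hcard32 : Nat.card R = 32 := by
    interval_cases m
    · -- `|R| = 8`: then `R = A` is abelian
      exfalso
      have hAeq : A = R := Subgroup.eq_of_le_of_card_ge hAR (by rw [hAcard, hm]; norm_num)
      have hcen : Subgroup.center R = ⊤ := by
        rw [eq_top_iff]
        intro x _
        rw [Subgroup.mem_center_iff]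
        intro y
        apply Subtype.ext
        exact hAcomm y.1 (by rw [hAeq]; exact y.2) x.1 (by rw [hAeq]; exact x.2)
      have h2 := hR.2
      rw [hcen, Subgroup.card_top, hm] at h2
      norm_num at h2
    · -- `|R| = 16`
      exfalso
      set A' : Subgroup R := A.subgroupOf R with hA'
      have hA'card : Nat.card A' = 8 := by
        rw [← hAcard]
        exact Nat.card_congr (Subgroup.subgroupOfEquivOfLe hAR).toEquiv
      have hex : ∃ x : R, x ∉ A' := by
        by_contra hno
        push Not at hno
        have : A' = ⊤ := by rw [eq_top_iff]; intro x _; exact hno x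
        rw [this, Subgroup.card_top, hm] at hA'card
        norm_num at hA'card
      obtain ⟨x, hx⟩ := hex
      have hK := d.card_le_two_mul_inf A' x
      have hKle : A' ⊓ Subgroup.centralizer ({x} : Set R) ≤ Subgroup.center R := by
        intro k hk
        obtain ⟨hkA, hkx⟩ := Subgroup.mem_inf.mp hk
        -- the centralizer of `k` contains `A'` and `x`
        have hAC : A' ≤ Subgroup.centralizer ({k} : Set R) := by
          intro a ha
          rw [F5Data.mem_cent]
          apply Subtype.ext
          exact hAcomm k.1 hkA a.1 ha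
        have hxC : x ∈ Subgroup.centralizer ({k} : Set R) := by
          rw [F5Data.mem_cent]
          rw [F5Data.mem_cent] at hkx
          exact hkx.symm
        have hlt : Nat.card A' < Nat.card (Subgroup.centralizer ({k} : Set R)) := by
          by_contra hge
          push Not at hge
          have e := Subgroup.eq_of_le_of_card_ge hAC hge
          exact hx (e ▸ hxC)
        have hd1 : Nat.card A' ∣ Nat.card (Subgroup.centralizer ({k} : Set R)) :=
          Subgroup.card_dvd_of_le hAC
        have hd2 : Nat.card (Subgroup.centralizer ({k} : Set R)) ∣ Nat.card R :=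
          Subgroup.card_subgroup_dvd_card _
        rw [hA'card] at hlt hd1
        rw [hm] at hd2
        have hc16 : Nat.card (Subgroup.centralizer ({k} : Set R)) = 16 := by
          obtain ⟨c, hc⟩ := hd1
          obtain ⟨e, he⟩ := hd2
          have : c = 2 := by
            rcases c with _ | _ | _ | c
            · omega
            · omega
            · rfl
            · exfalso
              rw [hc] at he
              have : e = 0 ∨ 1 ≤ e := by omega
              rcases this with rfl | h1
              · omega
              · nlinarith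
          rw [hc, this]
        have htop : Subgroup.centralizer ({k} : Set R) = ⊤ :=
          Subgroup.eq_top_of_card_eq _ (by rw [hc16, hm]; norm_num)
        rw [Subgroup.mem_center_iff]
        intro y
        have hy : y ∈ Subgroup.centralizer ({k} : Set R) := by rw [htop]; exact Subgroup.mem_top y
        rw [F5Data.mem_cent] at hy
        exact hy.symm
      have hle := Subgroup.card_le_of_le hKle
      rw [hR.2] at hle
      rw [hA'card] at hK
      omega
    · exact hm
  refine ⟨hR, hcard32, A, hAR, ⟨⟨⟨fun x y => Subtype.ext (hAcomm x.1 x.2 y.1 y.2)⟩⟩, ?_⟩, hAcard⟩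
  intro a ha
  rw [pow_two]
  exact hA2 a ha

end Cfsg.Agent.Lib.Helper2.Cub
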