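import Mathlib
import Cfsg.Agent.Lib.Helper2.CubD0
import Cfsg.Agent.Lib.Helper9.CubPC4
import Cfsg.Agent.Lib.Helper1.CubPC5b
import Cfsg.Agent.Lib.Helper8.CubPC6bCore
import Cfsg.Agent.Lib.Helper4.CubPC7K
import Cfsg.Agent.Lib.Helper9.CubPC23w
import Cfsg.Agent.Lib.Helper1.CubPC7S
import Cfsg.Agent.Lib.Helper2.CubPC7E
import Cfsg.Agent.Lib.Helper6.CubPC5aW

/-!
# S4415, Case C': the endgame (PC6a, PC7F and the assembly of PC7)
-/

set_option autoImplicit false
open Cfsg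

namespace Cfsg.Agent.Lib.Helper2.Cub

variable {G : Type*} [Group G] {W : Type*} [AddCommGroup W] [Module (ZMod 3) W]
variable [Finite G] [Finite W] {ρ : Representation (ZMod 3) G W} {R Q : Subgroup G} {b : G}

theorem cubPC7_pow_five : ∀ α : ZMod 3, α ^ 5 = 1 → α = 1 := by decide

/-- PC7F: an element of order 5 commuting with `b` fixes a nonzero vector (a generator of `im N²`). -/
theorem Setup.pc7f_fixed (h : Setup ρ R Q b) (a : G) (ha : a ^ 5 = 1) (hab : a * b = b * a) :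
    ∃ w : W, w ≠ 0 ∧ ρ a w = w := by
  obtain ⟨v, hv⟩ := h.N2
  have hcomm : ∀ w, ρ a (nOp ρ b w) = nOp ρ b (ρ a w) := by
    intro w
    rw [nOp_apply, nOp_apply, map_sub, ← rho_mul_apply, hab, rho_mul_apply]
  obtain ⟨α, hα⟩ := h.Nsq_multiple hv (ρ a v)
  have hau : ρ a (nOp ρ b (nOp ρ b v)) = α • nOp ρ b (nOp ρ b v) := by
    rw [hcomm, hcomm]
    exact hα
  refine ⟨nOp ρ b (nOp ρ b v), hv, ?_⟩
  have hpow : ∀ k : ℕ, ρ (a ^ k) (nOp ρ b (nOp ρ b v)) = α ^ k • nOp ρ b (nOp ρ b v) := by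
    intro k
    induction k with
    | zero => rw [pow_zero, pow_zero, one_smul, rho_one_apply]
    | succ n ih => rw [pow_succ, rho_mul_apply, hau, map_smul, ih, smul_smul, pow_succ, mul_comm]
  have h5 := hpow 5
  rw [ha, rho_one_apply] at h5
  have hα5 : α ^ 5 = 1 := by
    have h4 : (α ^ 5 - 1) • nOp ρ b (nOp ρ b v) = 0 := by rw [sub_smul, ← h5, one_smul, sub_self]
    exact sub_eq_zero.mp ((smul_eq_zero.mp h4).resolve_right hv)
  rw [hau, cubPC7_pow_five α hα5, one_smul]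

/-- An extraspecial group has more than two elements. -/
theorem cubPC7_two_lt {T : Type*} [Group T] [Finite T] (hT : IsExtraspecial 2 T) : 2 < Nat.card T := by
  obtain ⟨⟨-, -, hcomm⟩, hcard⟩ := hT
  have hle : Nat.card (Subgroup.center T) ≤ Nat.card T := Subgroup.card_le_card_group _
  by_contra hlt
  push Not at hlt
  have heq : Nat.card (Subgroup.center T) = Nat.card T := by omega
  have htop : Subgroup.center T = ⊤ := Subgroup.eq_top_of_card_eq _ heq
  have hc : commutator T = ⊥ := by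
    rw [commutator_def, Subgroup.commutator_eq_bot_iff_le_centralizer, Subgroup.coe_top,
      Subgroup.centralizer_univ, htop]
  rw [hc] at hcomm
  rw [← hcomm, Subgroup.card_bot] at hcard
  omega

/-- PC6a: the central involution `z`, `|W| = 81`, and a maximal normal 2-subgroup `O ≤ R`. -/
theorem Setup.pc6a_exists_O (h : Setup ρ R Q b) (hC : CaseC G) :
    ∃ (z : G) (O : Subgroup G), z ∈ R ∧ z ≠ 1 ∧ (∀ g : G, z * g = g * z) ∧ (∀ w : W, ρ z w = -w) ∧
      Nat.card W = 81 ∧ O.Normal ∧ O ≤ R ∧ z ∈ O ∧ IsExtraspecial 2 O ∧ Nat.card O ≤ 32 ∧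
      (∀ O' : Subgroup G, O'.Normal → IsPGroup 2 O' → O' ≤ R → O ≤ O' → O' = O) := by
  classical
  obtain ⟨z, hzR, hz1, hzc, hz⟩ := h.pc2_exists_z hC
  obtain ⟨T, hTn, hTR, hzT, hT⟩ := h.pc3_exists_T hC hzR hz1 hzc
  have hW := h.pc4_card_W hzc hz T hTn hTR hzT hT
  -- choose `O ⊇ T` of maximal order
  let S : Set (Subgroup G) := {O | O.Normal ∧ IsPGroup 2 O ∧ O ≤ R ∧ T ≤ O}
  have hSne : S.Nonempty := ⟨T, hTn, hT.1.1, hTR, le_rfl⟩
  have hSfin : S.Finite := Set.toFinite S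
  obtain ⟨O, hOS, hOmax⟩ := Set.exists_max_image S (fun O => Nat.card O) hSfin hSne
  obtain ⟨hOn, hO2, hOR, hTO⟩ := hOS
  have hbig : 2 < Nat.card O := lt_of_lt_of_le (cubPC7_two_lt hT) (Subgroup.card_le_of_le hTO)
  have hO := h.pc5a_extraspecial hC O hOn hO2 hOR hbig
  refine ⟨z, O, hzR, hz1, hzc, hz, hW, hOn, hOR, hTO hzT, hO,
    h.pc5b_card_le hW hz O (hTO hzT) hO, ?_⟩
  intro O' hO'n hO'2 hO'R hOO'
  have hle := hOmax O' ⟨hO'n, hO'2, hO'R, hTO.trans hOO'⟩
  exact (Subgroup.eq_of_le_of_card_ge hOO' hle).symm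

/-- PC7 = (C6)+(C7): the endgame of Case C'. -/
theorem Setup.pc7_final (h : Setup ρ R Q b) (hC : CaseC G) : Concl32 R := by
  classical
  obtain ⟨z, O, hzR, hz1, hzc, hz, hW, hOn, hOR, hzO, hO, hO32, hmax⟩ := h.pc6a_exists_O hC
  have hcent := h.pc6b_core (fun A hA hab hAR => h.pc1_abelian_central hC A hA hab hAR) hz1 hzc O
    hOn hOR hO.1.1 hmax
  have hK := h.pc7k_order_five hW hz1 hzc O hOn hzO hO.1.1 hO32 hcent
  -- `R = O`
  have hRO : R = O := by
    by_contra hne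
    -- `R` is not a 2-group
    have hR2 : ¬ IsPGroup 2 R := fun hR2 => hne (hmax R h.normalR hR2 le_rfl hOR)
    -- a prime `r ≥ 5` dividing `|R|`
    have hex : ∃ r : ℕ, r.Prime ∧ r ∣ Nat.card R ∧ 5 ≤ r := by
      by_contra hno
      push Not at hno
      apply hR2
      have hpos : Nat.card R ≠ 0 := Nat.card_pos.ne'
      have hall : ∀ r : ℕ, r.Prime → r ∣ Nat.card R → r = 2 := by
        intro r hr hrd
        have hlt := hno r hr hrd
        have h3 : r ≠ 3 := by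
          rintro rfl
          have := h.coprimeR
          rw [Nat.coprime_comm, Nat.Prime.coprime_iff_not_dvd Nat.prime_three] at this
          exact this hrd
        have h2 := hr.two_le
        have h4 : r ≠ 4 := by
          rintro rfl
          exact absurd hr (by decide)
        omega
      rw [IsPGroup.iff_card]
      exact ⟨(Nat.card R).primeFactorsList.length,
        (Nat.eq_prime_pow_of_unique_prime_dvd hpos (fun {r} hr hrd => hall r hr hrd))⟩
    obtain ⟨r, hr, hrd, hr5⟩ := hex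
    have : Fact r.Prime := ⟨hr⟩
    obtain ⟨g, hg⟩ := exists_prime_orderOf_dvd_card' r hrd
    have hgG : orderOf (g : G) = r := by rw [Subgroup.orderOf_coe]; exact hg
    obtain ⟨hr5', hfpf⟩ := hK r hr hr5 (g : G) g.2 hgG
    subst hr5'
    have hfpf_all : ∀ g' ∈ R, orderOf g' = 5 → ∀ w : W, ρ g' w = w → w = 0 := by
      intro g' hg'R hg'
      exact (hK 5 hr le_rfl g' hg'R hg').2
    obtain ⟨a, haR, ha5, hab⟩ := h.pc7s_exists_comm ⟨(g : G), g.2, hgG⟩ hfpf_all
    have ha5' : a ^ 5 = 1 := by rw [← ha5]; exact pow_orderOf_eq_one a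
    obtain ⟨w, hw0, hw⟩ := h.pc7f_fixed a ha5' hab
    exact hw0 (hfpf_all a haR ha5 w hw)
  subst hRO
  exact h.pc7e_concl hzR hz1 hzc hO hO32

end Cfsg.Agent.Lib.Helper2.Cub
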