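import Mathlib
import Cfsg.Agent.Lib.Helper2.CubN5
import Cfsg.Agent.Lib.Helper2.CubPC7

/-!
# S4415: Theorem T of the abstract setting
-/

set_option autoImplicit false
open Cfsg

namespace Cfsg.Agent.Lib.Helper2.Cub

open Cfsg.Agent.Lib.Helper7.WtOrb (WtIdx wtIdxAction)

variable {G : Type*} [Group G] {W : Type*} [AddCommGroup W] [Module (ZMod 3) W]
variable [Finite G] [Finite W] {ρ : Representation (ZMod 3) G W} {R Q : Subgroup G} {b : G}

/-- Theorem T. -/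
theorem Setup.main_T (h : Setup ρ R Q b) :
    (∀ M : Submodule (ZMod 3) W, (∀ g : G, ∀ v ∈ M, ρ g v ∈ M) → M = ⊥ ∨ M = ⊤) ∧
      (R = Q ∨ Concl32 R) := by
  refine ⟨fun M hM => h.irreducible M hM, ?_⟩
  by_cases hN : ∃ (E : Subgroup G) (_ : E.Normal) (_ : ∀ a ∈ E, a * a = 1) (i : WtIdx ρ E),
      b • i ≠ i
  · obtain ⟨E, hEn, hE2, i, hi⟩ := hN
    exact h.caseN E hE2 i hi
  · right
    apply h.pc7_final
    intro E hEn hE2
    have := hEn
    rcases h.dichotomy E hE2 with hc | ⟨i, hi⟩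
    · exact hc
    · exact absurd ⟨E, hEn, hE2, i, hi⟩ hN

end Cfsg.Agent.Lib.Helper2.Cub
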