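import Mathlib
import Cfsg.Prelude.Def_Local

set_option autoImplicit false

/-!
# Gross's bound `l_2 ≤ 2e - 1` (S3801): definitions

* `lowSub N` : the preimage in `H` of `O_{2,2',2}(H / N)`.
* `Exc X n` : the endomorphism `X` satisfies `X ^ 2 ^ n = 1` and `(X - 1) ^ (2 ^ n - 1) = 0`
  ("exceptional of level `n`" in characteristic `2`).
* `PlaneType X m` : `X` is the identity on a complement of a plane `P`, leaves `P` invariant and
  `X ^ m = -1` on `P`.
-/

namespace Cfsg.Agent.Lib.Helper2.G2L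

open Cfsg

universe u v

/-- the commutator `a⁻¹ b⁻¹ a b` -/
def cm {G : Type*} [Group G] (a b : G) : G := a⁻¹ * b⁻¹ * a * b

/-- the preimage in `H` of `O_{2,2',2}(H / N)` -/
noncomputable def lowSub {H : Type u} [Group H] (N : Subgroup H) [N.Normal] : Subgroup H :=
  ((pPrimePCore 2 ((H ⧸ N) ⧸ pCore 2 (H ⧸ N))).comap
    (QuotientGroup.mk' (pCore 2 (H ⧸ N)))).comap (QuotientGroup.mk' N)

/-- exceptional of level `n` -/
def Exc {K : Type*} [Field K] {V : Type*} [AddCommGroup V] [Module K V] (X : Module.End K V)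
    (n : ℕ) : Prop :=
  X ^ 2 ^ n = 1 ∧ (X - 1) ^ (2 ^ n - 1) = 0

/-- plane type -/
def PlaneType {K : Type*} [Field K] {U : Type*} [AddCommGroup U] [Module K U]
    (X : Module.End K U) (m : ℕ) : Prop :=
  ∃ P C : Submodule K U, IsCompl P C ∧ Module.finrank K P = 2 ∧ (∀ v ∈ C, X v = v) ∧
    (∀ v ∈ P, X v ∈ P) ∧ ∀ v ∈ P, (X ^ m) v = -v

/-- the statement proved by induction on the dimension -/
def RStmt (K : Type*) [Field K] (d : ℕ) : Prop :=
  ∀ (H : Type u) [Group H] [Finite H] (V : Type v) [AddCommGroup V] [Module K V]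
    [FiniteDimensional K V] (ρ : Representation K H V), Module.finrank K V = d →
    Group.IsSolvable H → ∀ (g : H) (n : ℕ), 1 ≤ n → Exc (ρ g) n →
      g ^ 2 ^ (n - 1) ∈ lowSub (MonoidHom.ker ρ)

end Cfsg.Agent.Lib.Helper2.G2L
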