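import Cfsg.Agent.Lib.Helper2.GlFix1

/-!
# Counting tools for S3067, step (S5)

* `GlFix.card_eq_of_rel`: double counting with a relation whose fibres on both sides have the same
  size.
* `GlFix.card_inverted_coset`: `X` odd, `t` an involution normalising `X` and `B ≤ X`,
  `C_X(t) ≤ B`: for every `o ∈ X` the number of `t`-inverted elements of `X` in the coset `B o`
  equals the number of `t`-inverted elements of `B`.
-/

set_option autoImplicit false

namespace Cfsg.Agent.Lib.Helper2.GlFix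

open Finset

/-- Double counting: `R` relates `T` and `S`, every element on each side is related to something,
and whenever `R t s` the `R`-fibre of `s` in `T` and the `R`-fibre of `t` in `S` have the same size.
Then `S` and `T` have the same size. -/
theorem card_eq_of_rel {α β : Type*} (S : Finset α) (T : Finset β) (R : β → α → Prop)
    [DecidableRel R] (h1 : ∀ s ∈ S, ∃ t ∈ T, R t s) (h3 : ∀ t ∈ T, ∃ s ∈ S, R t s)
    (h2 : ∀ t ∈ T, ∀ s ∈ S, R t s →
      (T.filter (fun t' => R t' s)).card = (S.filter (fun s' => R t s')).card) :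
    S.card = T.card := by
  have key : (S.card : ℚ) = (T.card : ℚ) := by
    have e1 : (S.card : ℚ) = ∑ s ∈ S, ∑ t ∈ T.filter (fun t' => R t' s),
        (1 : ℚ) / ((S.filter (fun s' => R t s')).card : ℚ) := by
      rw [Finset.card_eq_sum_ones, Nat.cast_sum]
      apply Finset.sum_congr rfl
      intro s hs
      obtain ⟨t0, ht0, hR0⟩ := h1 s hs
      have hpos : 0 < (T.filter (fun t' => R t' s)).card :=
        Finset.card_pos.mpr ⟨t0, Finset.mem_filter.mpr ⟨ht0, hR0⟩⟩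
      have : ∀ t ∈ T.filter (fun t' => R t' s),
          (1 : ℚ) / ((S.filter (fun s' => R t s')).card : ℚ) =
            (1 : ℚ) / ((T.filter (fun t' => R t' s)).card : ℚ) := by
        intro t ht
        obtain ⟨htT, hR⟩ := Finset.mem_filter.mp ht
        rw [h2 t htT s hs hR]
      rw [Finset.sum_congr rfl this, Finset.sum_const, nsmul_eq_mul]
      have hne : ((T.filter (fun t' => R t' s)).card : ℚ) ≠ 0 := by
        exact_mod_cast hpos.ne'
      push_cast
      field_simp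
    have e2 : (T.card : ℚ) = ∑ t ∈ T, ∑ s ∈ S.filter (fun s' => R t s'),
        (1 : ℚ) / ((S.filter (fun s' => R t s')).card : ℚ) := by
      rw [Finset.card_eq_sum_ones, Nat.cast_sum]
      apply Finset.sum_congr rfl
      intro t ht
      obtain ⟨s0, hs0, hR0⟩ := h3 t ht
      have hpos : 0 < (S.filter (fun s' => R t s')).card :=
        Finset.card_pos.mpr ⟨s0, Finset.mem_filter.mpr ⟨hs0, hR0⟩⟩
      rw [Finset.sum_const, nsmul_eq_mul]
      have hne : ((S.filter (fun s' => R t s')).card : ℚ) ≠ 0 := by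
        exact_mod_cast hpos.ne'
      push_cast
      field_simp
    rw [e1, e2]
    simp only [Finset.sum_filter]
    rw [Finset.sum_comm]
  exact_mod_cast key


variable {Γ : Type*} [Group Γ]

/-- `X` odd, `t` an involution normalising `X`, `B ≤ X` a subgroup containing `C_X(t)`, `o ∈ X`:
the `t`-inverted elements of `X` lying in the coset `B o` are in bijection with the `t`-inverted
elements of `B`. -/
theorem card_inverted_coset {X B : Subgroup Γ} [Finite X] (hodd : Odd (Nat.card X)) {t : Γ}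
    (ht : t * t = 1) (hN : ∀ x ∈ X, t * x * t⁻¹ ∈ X) (hBX : B ≤ X)
    (hCB : ∀ c ∈ X, Commute c t → c ∈ B) {o : Γ} (ho : o ∈ X) :
    Nat.card {z : Γ // z ∈ X ∧ t * z * t⁻¹ = z⁻¹ ∧ z * o⁻¹ ∈ B} =
      Nat.card {z : Γ // z ∈ B ∧ t * z * t⁻¹ = z⁻¹} := by
  classical
  -- the forward map `β ↦` inverted element of the coset `C (β o)`
  have hφ : ∀ β : {z : Γ // z ∈ B ∧ t * z * t⁻¹ = z⁻¹},
      ∃! z, z ∈ X ∧ t * z * t⁻¹ = z⁻¹ ∧ Commute ((β.1 * o) * z⁻¹) t :=
    fun β => exists_unique_inverted hodd ht hN (X.mul_mem (hBX β.2.1) ho)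
  have hψ : ∀ z : {z : Γ // z ∈ X ∧ t * z * t⁻¹ = z⁻¹ ∧ z * o⁻¹ ∈ B},
      ∃! β, β ∈ X ∧ t * β * t⁻¹ = β⁻¹ ∧ Commute ((z.1 * o⁻¹) * β⁻¹) t :=
    fun z => exists_unique_inverted hodd ht hN (hBX z.2.2.2)
  symm
  refine Nat.card_congr
    { toFun := fun β => ⟨(hφ β).exists.choose, ?_⟩
      invFun := fun z => ⟨(hψ z).exists.choose, ?_⟩
      left_inv := ?_
      right_inv := ?_ }
  · obtain ⟨h1, h2, h3⟩ := (hφ β).exists.choose_spec
    refine ⟨h1, h2, ?_⟩
    -- z o⁻¹ = c⁻¹ β with c = β o z⁻¹ ∈ B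
    have hc : (β.1 * o) * ((hφ β).exists.choose)⁻¹ ∈ B :=
      hCB _ (X.mul_mem (X.mul_mem (hBX β.2.1) ho) (X.inv_mem h1)) h3
    have : (hφ β).exists.choose * o⁻¹ = ((β.1 * o) * ((hφ β).exists.choose)⁻¹)⁻¹ * β.1 := by group
    rw [this]
    exact B.mul_mem (B.inv_mem hc) β.2.1
  · obtain ⟨h1, h2, h3⟩ := (hψ z).exists.choose_spec
    refine ⟨?_, h2⟩
    have hc : (z.1 * o⁻¹) * ((hψ z).exists.choose)⁻¹ ∈ B :=
      hCB _ (X.mul_mem (hBX z.2.2.2) (X.inv_mem h1)) h3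
    have : (hψ z).exists.choose = ((z.1 * o⁻¹) * ((hψ z).exists.choose)⁻¹)⁻¹ * (z.1 * o⁻¹) := by
      group
    rw [this]
    exact B.mul_mem (B.inv_mem hc) z.2.2.2
  · intro β
    apply Subtype.ext
    -- uniqueness for `hψ ⟨φ β, _⟩`: `β` itself works
    set z := (hφ β).exists.choose with hz
    obtain ⟨h1, h2, h3⟩ := (hφ β).exists.choose_spec
    have hzmem : z ∈ X ∧ t * z * t⁻¹ = z⁻¹ ∧ z * o⁻¹ ∈ B := by
      refine ⟨h1, h2, ?_⟩
      have hc : (β.1 * o) * z⁻¹ ∈ B :=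
        hCB _ (X.mul_mem (X.mul_mem (hBX β.2.1) ho) (X.inv_mem h1)) h3
      have : z * o⁻¹ = ((β.1 * o) * z⁻¹)⁻¹ * β.1 := by group
      rw [this]
      exact B.mul_mem (B.inv_mem hc) β.2.1
    have hβ : β.1 ∈ X ∧ t * β.1 * t⁻¹ = β.1⁻¹ ∧ Commute ((z * o⁻¹) * β.1⁻¹) t := by
      refine ⟨hBX β.2.1, β.2.2, ?_⟩
      have : (z * o⁻¹) * β.1⁻¹ = ((β.1 * o) * z⁻¹)⁻¹ := by group
      rw [this]
      exact h3.inv_left
    exact ((hψ ⟨z, hzmem⟩).unique (hψ ⟨z, hzmem⟩).exists.choose_spec hβ)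
  · intro z
    apply Subtype.ext
    set β := (hψ z).exists.choose with hβdef
    obtain ⟨h1, h2, h3⟩ := (hψ z).exists.choose_spec
    have hβmem : β ∈ B ∧ t * β * t⁻¹ = β⁻¹ := by
      refine ⟨?_, h2⟩
      have hc : (z.1 * o⁻¹) * β⁻¹ ∈ B :=
        hCB _ (X.mul_mem (hBX z.2.2.2) (X.inv_mem h1)) h3
      have : β = ((z.1 * o⁻¹) * β⁻¹)⁻¹ * (z.1 * o⁻¹) := by group
      rw [this]
      exact B.mul_mem (B.inv_mem hc) z.2.2.2
    have hz : z.1 ∈ X ∧ t * z.1 * t⁻¹ = z.1⁻¹ ∧ Commute ((β * o) * z.1⁻¹) t := by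
      refine ⟨z.2.1, z.2.2.1, ?_⟩
      have : (β * o) * z.1⁻¹ = ((z.1 * o⁻¹) * β⁻¹)⁻¹ := by group
      rw [this]
      exact h3.inv_left
    exact ((hφ ⟨β, hβmem⟩).unique (hφ ⟨β, hβmem⟩).exists.choose_spec hz)

end Cfsg.Agent.Lib.Helper2.GlFix
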