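import Cfsg.Agent.Lib.Helper1.GC0
import Cfsg.Agent.Lib.Helper2.GlFix2

/-!
# S3067, step (S5): `|S_b| = |T_b|`

`X = Lam0 G a b` of odd order, `S_b = {u ∈ K | u⁻¹ a u = b}`, `T_b = {t ∈ K_a | t normalises X}`.
Given (S2) (every `u ∈ S_b` normalises `X` and lies in a coset `X t`, `t ∈ K_a`) and the line lemma
(`b = o⁻¹ a o` with `o ∈ X`), the two sets have the same cardinality.
-/

set_option autoImplicit false

namespace Cfsg.Agent.Lib.Helper2.GlFix

open Cfsg.Agent.Lib.Helper1.GC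

universe u
variable {Γ : Type u} [Group Γ] [Finite Γ] {G : Subgroup Γ} {a τ : Γ} {r : ℕ}

/-- `t * z` is an involution in `K` when `t ∈ K` normalises the odd-order subgroup `X ≤ G` and
`z ∈ X` is inverted by `t`. -/
theorem isK_mul_inverted (h : Hyp G a τ r) {X : Subgroup Γ} (hXG : X ≤ G)
    (hodd : Odd (Nat.card X)) {t z : Γ} (ht : IsK G τ t) (hz : z ∈ X)
    (hzinv : t * z * t⁻¹ = z⁻¹) : IsK G τ (t * z) := by
  have hti : t⁻¹ = t := ht.inv_eq h
  have htt : t * t = 1 := ht.mul_self h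
  obtain ⟨n, hn⟩ := exists_sqrt hodd hz
  have hkinv : t * z ^ n * t⁻¹ = (z ^ n)⁻¹ := by
    have : t * z ^ n * t⁻¹ = (t * z * t⁻¹) ^ n := by rw [conj_pow]
    rw [this, hzinv, inv_pow]
  have hv : (z ^ n)⁻¹ * t * z ^ n = t * z := by
    have e1 : (z ^ n)⁻¹ * t = t * z ^ n := by
      have : (z ^ n)⁻¹ = t * z ^ n * t⁻¹ := hkinv.symm
      rw [this, hti]
      calc t * z ^ n * t * t = t * z ^ n * (t * t) := by group
        _ = t * z ^ n := by rw [htt, mul_one]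
    rw [e1, mul_assoc, hn]
  rw [← hv]
  exact ht.conj (hXG (X.pow_mem hz n))

/-- **(S5), per line**: `|S_b| = |T_b|`. -/
theorem card_S_eq_card_T (h : Hyp G a τ r) {b : Γ} (hS1 : Odd (Nat.card (Lam0 G a b)))
    (hline : ∃ o ∈ Lam0 G a b, b = o⁻¹ * a * o)
    (hS2 : ∀ u, IsK G τ u → u⁻¹ * a * u = b →
      (∀ x ∈ Lam0 G a b, u⁻¹ * x * u ∈ Lam0 G a b) ∧
        ∃ t, IsK G τ t ∧ Commute t a ∧ t * u⁻¹ ∈ Lam0 G a b) :
    Nat.card {u : Γ // IsK G τ u ∧ u⁻¹ * a * u = b} =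
      Nat.card {t : Γ // IsK G τ t ∧ Commute t a ∧
        ∀ x ∈ Lam0 G a b, t⁻¹ * x * t ∈ Lam0 G a b} := by
  classical
  haveI : Fintype Γ := Fintype.ofFinite Γ
  obtain ⟨X, hX⟩ : ∃ X : Subgroup Γ, X = Lam0 G a b := ⟨_, rfl⟩
  rw [← hX] at hS1 hline hS2 ⊢
  have hXG : X ≤ G := by rw [hX]; exact inf_le_right
  obtain ⟨o, hoX, hbo⟩ := hline
  -- the subgroup `B = X ⊓ C(a)`
  obtain ⟨B, hB⟩ : ∃ B : Subgroup Γ, B = X ⊓ Subgroup.centralizer ({a} : Set Γ) := ⟨_, rfl⟩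
  have hBX : B ≤ X := by rw [hB]; exact inf_le_left
  have hmemB : ∀ x, x ∈ B ↔ x ∈ X ∧ Commute x a := by
    intro x
    rw [hB, Subgroup.mem_inf, Subgroup.mem_centralizer_singleton_iff]
    constructor
    · rintro ⟨h1, h2⟩
      refine ⟨h1, ?_⟩
      show x * a = a * x
      exact h2
    · rintro ⟨h1, h2⟩
      refine ⟨h1, ?_⟩
      have h3 : x * a = a * x := h2
      exact h3
  -- predicates
  let PS : Γ → Prop := fun u => IsK G τ u ∧ u⁻¹ * a * u = b
  let PT : Γ → Prop := fun t => IsK G τ t ∧ Commute t a ∧ ∀ x ∈ X, t⁻¹ * x * t ∈ X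
  let R : Γ → Γ → Prop := fun t u => t * u⁻¹ ∈ X
  have hcardS : Nat.card {u : Γ // PS u} = (Finset.univ.filter PS).card := by
    rw [Nat.card_eq_fintype_card, Fintype.card_subtype]
  have hcardT : Nat.card {t : Γ // PT t} = (Finset.univ.filter PT).card := by
    rw [Nat.card_eq_fintype_card, Fintype.card_subtype]
  show Nat.card {u : Γ // PS u} = Nat.card {t : Γ // PT t}
  rw [hcardS, hcardT]
  -- facts about elements of `T`
  have hTfacts : ∀ t, PT t → t⁻¹ = t ∧ t * t = 1 ∧ (∀ x ∈ X, t * x * t⁻¹ ∈ X) ∧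
      (∀ c ∈ X, Commute c t → c ∈ B) := by
    rintro t ⟨htK, hta, htN⟩
    have hti : t⁻¹ = t := htK.inv_eq h
    refine ⟨hti, htK.mul_self h, ?_, ?_⟩
    · intro x hx
      have := htN x hx
      rw [hti] at this ⊢
      exact this
    · intro c hc hct
      exact (hmemB c).2 ⟨hc, h.cent_le htK hta (hXG hc) hct⟩
  apply card_eq_of_rel (Finset.univ.filter PS) (Finset.univ.filter PT) R
  · -- h1 : every `u ∈ S` lies in a coset `X t`
    intro u hu
    obtain ⟨huK, hub⟩ := (Finset.mem_filter.mp hu).2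
    obtain ⟨huN, t, htK, hta, htu⟩ := hS2 u huK hub
    refine ⟨t, Finset.mem_filter.mpr ⟨Finset.mem_univ _, htK, hta, ?_⟩, htu⟩
    intro x hx
    -- t = (t u⁻¹) u
    have e : t⁻¹ * x * t = u⁻¹ * ((t * u⁻¹)⁻¹ * x * (t * u⁻¹)) * u := by group
    rw [e]
    exact huN _ (X.mul_mem (X.mul_mem (X.inv_mem htu) hx) htu)
  · -- h3 : every coset `X t` meets `S`
    intro t ht
    have htP : PT t := (Finset.mem_filter.mp ht).2
    obtain ⟨hti, htt, htN, hCB⟩ := hTfacts t htP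
    obtain ⟨htK, hta, htN'⟩ := htP
    obtain ⟨z, ⟨hzX, hzinv, hzc⟩, -⟩ := exists_unique_inverted hS1 htt htN hoX
    have hcB : o * z⁻¹ ∈ B := hCB _ (X.mul_mem hoX (X.inv_mem hzX)) hzc
    have hca : Commute (o * z⁻¹) a := ((hmemB _).1 hcB).2
    refine ⟨t * z, Finset.mem_filter.mpr ⟨Finset.mem_univ _,
      isK_mul_inverted h hXG hS1 htK hzX hzinv, ?_⟩, ?_⟩
    · -- (t z)⁻¹ a (t z) = z⁻¹ a z = o⁻¹ a o
      have e1 : (t * z)⁻¹ * a * (t * z) = z⁻¹ * (t⁻¹ * a * t) * z := by group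
      have e2 : t⁻¹ * a * t = a := by
        have := hta.eq
        calc t⁻¹ * a * t = t⁻¹ * (a * t) := by group
          _ = t⁻¹ * (t * a) := by rw [this]
          _ = a := by group
      have e3 : z⁻¹ * a * z = o⁻¹ * ((o * z⁻¹) * a * (o * z⁻¹)⁻¹) * o := by group
      have e4 : (o * z⁻¹) * a * (o * z⁻¹)⁻¹ = a := by
        have := hca.eq
        calc (o * z⁻¹) * a * (o * z⁻¹)⁻¹ = (a * (o * z⁻¹)) * (o * z⁻¹)⁻¹ := by rw [this]
          _ = a := by group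
      rw [e1, e2, e3, e4, hbo]
    · show t * (t * z)⁻¹ ∈ X
      have e : t * (t * z)⁻¹ = (t * z * t⁻¹)⁻¹ := by group
      rw [e, hzinv, inv_inv]; exact hzX
  · -- h2 : fibres have equal size
    intro t ht u hu hR
    have htP : PT t := (Finset.mem_filter.mp ht).2
    obtain ⟨hti, htt, htN, hCB⟩ := hTfacts t htP
    obtain ⟨htK, hta, htN'⟩ := htP
    have e2t : t⁻¹ * a * t = a := by
      have := hta.eq
      calc t⁻¹ * a * t = t⁻¹ * (a * t) := by group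
        _ = t⁻¹ * (t * a) := by rw [this]
        _ = a := by group
    -- left fibre ↔ inverted elements of `B`
    have hL : ((Finset.univ.filter PT).filter (fun t' => R t' u)).card =
        Nat.card {z : Γ // z ∈ B ∧ t * z * t⁻¹ = z⁻¹} := by
      rw [Finset.filter_filter, ← Fintype.card_subtype, ← Nat.card_eq_fintype_card]
      refine Nat.card_congr
        { toFun := fun t' => ⟨t⁻¹ * t'.1, ?_⟩
          invFun := fun z => ⟨t * z.1, ?_⟩
          left_inv := fun t' => by apply Subtype.ext; simp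
          right_inv := fun z => by apply Subtype.ext; simp }
      · obtain ⟨⟨ht'K, ht'a, ht'N⟩, ht'R⟩ := t'.2
        have ht'i : t'.1⁻¹ = t'.1 := ht'K.inv_eq h
        -- t' t⁻¹ ∈ X
        have h1 : t'.1 * t⁻¹ ∈ X := by
          have e : t'.1 * t⁻¹ = (t'.1 * u⁻¹) * (t * u⁻¹)⁻¹ := by group
          rw [e]; exact X.mul_mem ht'R (X.inv_mem hR)
        have h2 : t⁻¹ * t'.1 ∈ X := by
          have e : t⁻¹ * t'.1 = t⁻¹ * (t'.1 * t⁻¹) * t := by group
          rw [e]; exact htN' _ h1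
        refine ⟨(hmemB _).2 ⟨h2, (hta.inv_left).mul_left ht'a⟩, ?_⟩
        have e1 : t * (t⁻¹ * t'.1) * t⁻¹ = t'.1 * t⁻¹ := by group
        have e2 : (t⁻¹ * t'.1)⁻¹ = t'.1⁻¹ * t := by group
        rw [e1, e2, ht'i, hti]
      · obtain ⟨hzB, hzinv⟩ := z.2
        obtain ⟨hzX, hza⟩ := (hmemB _).1 hzB
        refine ⟨⟨isK_mul_inverted h hXG hS1 htK hzX hzinv, hta.mul_left hza, ?_⟩, ?_⟩
        · intro x hx
          have e : (t * z.1)⁻¹ * x * (t * z.1) = z.1⁻¹ * (t⁻¹ * x * t) * z.1 := by group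
          rw [e]
          exact X.mul_mem (X.mul_mem (X.inv_mem hzX) (htN' x hx)) hzX
        · show t * z.1 * u⁻¹ ∈ X
          have e : t * z.1 * u⁻¹ = (t * z.1 * t⁻¹) * (t * u⁻¹) := by group
          rw [e, hzinv]
          exact X.mul_mem (X.inv_mem hzX) hR
    -- right fibre ↔ inverted elements of `X` in the coset `B o`
    have hRr : ((Finset.univ.filter PS).filter (fun u' => R t u')).card =
        Nat.card {z : Γ // z ∈ X ∧ t * z * t⁻¹ = z⁻¹ ∧ z * o⁻¹ ∈ B} := by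
      rw [Finset.filter_filter, ← Fintype.card_subtype, ← Nat.card_eq_fintype_card]
      refine Nat.card_congr
        { toFun := fun u' => ⟨t⁻¹ * u'.1, ?_⟩
          invFun := fun z => ⟨t * z.1, ?_⟩
          left_inv := fun u' => by apply Subtype.ext; simp
          right_inv := fun z => by apply Subtype.ext; simp }
      · obtain ⟨⟨hu'K, hu'b⟩, hu'R⟩ := u'.2
        have hu'i : u'.1⁻¹ = u'.1 := hu'K.inv_eq h
        have h1 : u'.1 * t⁻¹ ∈ X := by
          have e : u'.1 * t⁻¹ = (t * u'.1⁻¹)⁻¹ := by group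
          rw [e]; exact X.inv_mem hu'R
        have h2 : t⁻¹ * u'.1 ∈ X := by
          have e : t⁻¹ * u'.1 = t⁻¹ * (u'.1 * t⁻¹) * t := by group
          rw [e]; exact htN' _ h1
        refine ⟨h2, ?_, ?_⟩
        · have e1 : t * (t⁻¹ * u'.1) * t⁻¹ = u'.1 * t⁻¹ := by group
          have e2 : (t⁻¹ * u'.1)⁻¹ = u'.1⁻¹ * t := by group
          rw [e1, e2, hu'i, hti]
        · refine (hmemB _).2 ⟨X.mul_mem h2 (X.inv_mem hoX), ?_⟩
          -- (z o⁻¹) commutes with a, z = t⁻¹ u'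
          have e3 : u'.1⁻¹ * a * u'.1 = o⁻¹ * a * o := by rw [hu'b, hbo]
          show t⁻¹ * u'.1 * o⁻¹ * a = a * (t⁻¹ * u'.1 * o⁻¹)
          have e4 : a * u'.1 = u'.1 * (o⁻¹ * a * o) := by rw [← e3]; group
          have e5 : t⁻¹ * a = a * t⁻¹ := by
            have := e2t
            calc t⁻¹ * a = (t⁻¹ * a * t) * t⁻¹ := by group
              _ = a * t⁻¹ := by rw [this]
          calc t⁻¹ * u'.1 * o⁻¹ * a = t⁻¹ * (u'.1 * (o⁻¹ * a * o)) * o⁻¹ := by group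
            _ = t⁻¹ * (a * u'.1) * o⁻¹ := by rw [e4]
            _ = (t⁻¹ * a) * u'.1 * o⁻¹ := by group
            _ = a * (t⁻¹ * u'.1 * o⁻¹) := by rw [e5]; group
      · obtain ⟨hzX, hzinv, hzB⟩ := z.2
        have hza : Commute (z.1 * o⁻¹) a := ((hmemB _).1 hzB).2
        refine ⟨⟨isK_mul_inverted h hXG hS1 htK hzX hzinv, ?_⟩, ?_⟩
        · have e1 : (t * z.1)⁻¹ * a * (t * z.1) = z.1⁻¹ * (t⁻¹ * a * t) * z.1 := by group
          have e3 : z.1⁻¹ * a * z.1 = o⁻¹ * ((z.1 * o⁻¹)⁻¹ * a * (z.1 * o⁻¹)) * o := by group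
          have e4 : (z.1 * o⁻¹)⁻¹ * a * (z.1 * o⁻¹) = a := by
            have := hza.eq
            calc (z.1 * o⁻¹)⁻¹ * a * (z.1 * o⁻¹) = (z.1 * o⁻¹)⁻¹ * (a * (z.1 * o⁻¹)) := by group
              _ = (z.1 * o⁻¹)⁻¹ * ((z.1 * o⁻¹) * a) := by rw [this]
              _ = a := by group
          rw [e1, e2t, e3, e4, hbo]
        · show t * (t * z.1)⁻¹ ∈ X
          have e : t * (t * z.1)⁻¹ = (t * z.1 * t⁻¹)⁻¹ := by group
          rw [e, hzinv, inv_inv]; exact hzX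
    rw [hL, hRr]
    exact (card_inverted_coset hS1 htt htN hBX hCB hoX).symm

end Cfsg.Agent.Lib.Helper2.GlFix
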