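import Mathlib

/-!
# Tools for S3067 (Glauberman: fixed points containing the centraliser of an involution)

`X` is a finite subgroup of odd order of an ambient group `Γ`, `t : Γ` an involution normalising `X`.

* `GlFix.exists_unique_inverted`: every `x ∈ X` is uniquely `x = c * z` with `c ∈ X` commuting with
  `t` and `z ∈ X` inverted by `t`.
* `GlFix.four_group_factor` (Lemma (L)): if `t, t'` are commuting involutions normalising `X` then
  `X = C_X(t) C_X(t') C_X(t t')`.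
-/

set_option autoImplicit false

namespace Cfsg.Agent.Lib.Helper2.GlFix

variable {Γ : Type*} [Group Γ]

/-- In a finite subgroup of odd order, an element is the `(n+1)/2`-th power of its square. -/
theorem eq_pow_of_sq {X : Subgroup Γ} [Finite X] (hodd : Odd (Nat.card X)) {x : Γ} (hx : x ∈ X) :
    x = (x * x) ^ ((Nat.card X + 1) / 2) := by
  obtain ⟨k, hk⟩ := hodd
  have h1 : x ^ Nat.card X = 1 := by
    have := pow_card_eq_one' (G := X) (x := ⟨x, hx⟩)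
    exact congrArg Subtype.val this
  have h2 : (Nat.card X + 1) / 2 = k + 1 := by omega
  rw [h2, ← pow_two, ← pow_mul]
  have h3 : 2 * (k + 1) = Nat.card X + 1 := by omega
  rw [h3, pow_succ, h1, one_mul]

/-- Squaring is injective on a finite subgroup of odd order. -/
theorem sq_inj {X : Subgroup Γ} [Finite X] (hodd : Odd (Nat.card X)) {x y : Γ} (hx : x ∈ X)
    (hy : y ∈ X) (h : x * x = y * y) : x = y := by
  rw [eq_pow_of_sq hodd hx, eq_pow_of_sq hodd hy, h]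

/-- Square roots in a finite subgroup of odd order: a power of `w`. -/
theorem exists_sqrt {X : Subgroup Γ} [Finite X] (hodd : Odd (Nat.card X)) {w : Γ} (hw : w ∈ X) :
    ∃ n : ℕ, (w ^ n) * (w ^ n) = w := by
  obtain ⟨k, hk⟩ := hodd
  have h1 : w ^ Nat.card X = 1 := by
    have := pow_card_eq_one' (G := X) (x := ⟨w, hw⟩)
    exact congrArg Subtype.val this
  refine ⟨k + 1, ?_⟩
  rw [← pow_add]
  have h3 : k + 1 + (k + 1) = Nat.card X + 1 := by omega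
  rw [h3, pow_succ, h1, one_mul]


/-- `X` odd, `t` an involution normalising `X`: every `x ∈ X` is uniquely `c * z` with `z ∈ X`
inverted by `t` and `c = x * z⁻¹` commuting with `t`. -/
theorem exists_unique_inverted {X : Subgroup Γ} [Finite X] (hodd : Odd (Nat.card X)) {t : Γ}
    (ht : t * t = 1) (hN : ∀ x ∈ X, t * x * t⁻¹ ∈ X) {x : Γ} (hx : x ∈ X) :
    ∃! z, z ∈ X ∧ t * z * t⁻¹ = z⁻¹ ∧ Commute (x * z⁻¹) t := by
  have hti : t⁻¹ = t := inv_eq_of_mul_eq_one_right ht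
  obtain ⟨w, hwdef⟩ : ∃ w : Γ, w = t * x⁻¹ * t⁻¹ * x := ⟨_, rfl⟩
  have hwX : w ∈ X := by
    rw [hwdef]; exact X.mul_mem (hN _ (X.inv_mem hx)) hx
  have hwinv : t * w * t⁻¹ = w⁻¹ := by
    rw [hwdef, hti]
    have e1 : t * (t * x⁻¹ * t * x) * t = (t * t) * x⁻¹ * t * x * t := by group
    have e2 : (t * x⁻¹ * t * x)⁻¹ = x⁻¹ * t⁻¹ * x * t⁻¹ := by group
    rw [e1, e2, ht, hti, one_mul]
  obtain ⟨n, hn⟩ := exists_sqrt hodd hwX
  have hzX : w ^ n ∈ X := X.pow_mem hwX n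
  have hzinv : t * w ^ n * t⁻¹ = (w ^ n)⁻¹ := by
    have : t * w ^ n * t⁻¹ = (t * w * t⁻¹) ^ n := by rw [conj_pow]
    rw [this, hwinv, inv_pow]
  refine ⟨w ^ n, ⟨hzX, hzinv, ?_⟩, ?_⟩
  · -- commutation
    have hzz : (w ^ n)⁻¹ * (w ^ n)⁻¹ = w⁻¹ := by
      rw [← mul_inv_rev, hn]
    have key : t * (x * (w ^ n)⁻¹) * t⁻¹ = x * (w ^ n)⁻¹ := by
      have e1 : t * (x * (w ^ n)⁻¹) * t⁻¹ = (t * x * t⁻¹) * (t * w ^ n * t⁻¹)⁻¹ := by group
      rw [e1, hzinv, inv_inv]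
      have e2 : t * x * t⁻¹ = x * w⁻¹ := by rw [hwdef]; group
      rw [e2, ← hzz]
      group
    have : t * (x * (w ^ n)⁻¹) = x * (w ^ n)⁻¹ * t := by
      calc t * (x * (w ^ n)⁻¹) = t * (x * (w ^ n)⁻¹) * t⁻¹ * t := by group
        _ = x * (w ^ n)⁻¹ * t := by rw [key]
    exact this.symm
  · rintro z ⟨hzX', hzinv', hcomm⟩
    apply sq_inj hodd hzX' hzX
    rw [hn]
    have h1 : t * (x * z⁻¹) * t⁻¹ = x * z⁻¹ := by
      have := hcomm.eq
      calc t * (x * z⁻¹) * t⁻¹ = (x * z⁻¹ * t) * t⁻¹ := by rw [this]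
        _ = x * z⁻¹ := by group
    have h2 : t * (x * z⁻¹) * t⁻¹ = (t * x * t⁻¹) * (t * z * t⁻¹)⁻¹ := by group
    rw [h2, hzinv', inv_inv] at h1
    -- (t x t⁻¹) z = x z⁻¹
    rw [hwdef]
    have h3 : z = (t * x * t⁻¹)⁻¹ * (x * z⁻¹) := by rw [← h1]; group
    calc z * z = (t * x * t⁻¹)⁻¹ * (x * z⁻¹) * z := by rw [← h3]
      _ = t * x⁻¹ * t⁻¹ * x := by group


/-- An involution `e = t' * y` (`y ∈ X`, `X` odd, `t'` an involution) is an `X`-conjugate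
`c⁻¹ * t' * c` of `t'`, with `c` a power of `y`; in particular `c` commutes with everything that
commutes with `t'` and `e`. -/
theorem involution_coset_conj {X : Subgroup Γ} [Finite X] (hodd : Odd (Nat.card X)) {t' : Γ}
    (ht' : t' * t' = 1) {y e v : Γ} (hy : y ∈ X) (he : e = t' * y) (hee : e * e = 1)
    (hvt : Commute v t') (hve : Commute v e) :
    ∃ c ∈ X, Commute c v ∧ e = c⁻¹ * t' * c := by
  have hti : t'⁻¹ = t' := inv_eq_of_mul_eq_one_right ht'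
  have hyinv : t' * y * t'⁻¹ = y⁻¹ := by
    have h1 : t' * y * (t' * y) = 1 := by rw [← he]; exact hee
    have h2 : t' * y * t' = y⁻¹ := by
      have : t' * y * t' * y = 1 := by rw [← h1]; group
      exact eq_inv_of_mul_eq_one_left this
    rw [hti, h2]
  have hvy : Commute v y := by
    have : y = t'⁻¹ * e := by rw [he]; group
    rw [this]
    exact (hvt.inv_right).mul_right hve
  obtain ⟨n, hn⟩ := exists_sqrt hodd hy
  refine ⟨y ^ n, X.pow_mem hy n, (hvy.pow_right n).symm, ?_⟩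
  have hcinv : t' * y ^ n * t'⁻¹ = (y ^ n)⁻¹ := by
    have : t' * y ^ n * t'⁻¹ = (t' * y * t'⁻¹) ^ n := by rw [conj_pow]
    rw [this, hyinv, inv_pow]
  have h3 : t'⁻¹ * (y ^ n)⁻¹ * t' = y ^ n := by
    have e1 : t'⁻¹ * (y ^ n)⁻¹ * t' = t' * (y ^ n)⁻¹ * t'⁻¹ := by rw [hti]
    have e2 : t' * (y ^ n)⁻¹ * t'⁻¹ = (t' * y ^ n * t'⁻¹)⁻¹ := by group
    rw [e1, e2, hcinv, inv_inv]
  calc e = t' * (y ^ n * y ^ n) := by rw [hn, he]
    _ = t' * (t'⁻¹ * (y ^ n)⁻¹ * t') * y ^ n := by rw [h3]; group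
    _ = (y ^ n)⁻¹ * t' * y ^ n := by group

/-- Powers of an element of the coset `t' X` (where `t'` normalises `X`). -/
theorem pow_mem_coset {X : Subgroup Γ} {t' : Γ} (hN' : ∀ x ∈ X, t'⁻¹ * x * t' ∈ X) {g y : Γ}
    (hy : y ∈ X) (hg : g = t' * y) (n : ℕ) : ∃ z ∈ X, g ^ n = t' ^ n * z := by
  induction n with
  | zero => exact ⟨1, X.one_mem, by simp⟩
  | succ n ih =>
    obtain ⟨z, hz, hzn⟩ := ih
    refine ⟨t'⁻¹ * z * t' * y, X.mul_mem (hN' z hz) hy, ?_⟩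
    rw [pow_succ, hzn, hg, pow_succ]
    group

/-- **Lemma (L)**: a four-group `{1, t, t', t t'}` acting on a finite subgroup `X` of odd order:
`X = C_X(t) C_X(t') C_X(t t')`. -/
theorem four_group_factor {X : Subgroup Γ} [Finite X] (hodd : Odd (Nat.card X)) {t t' : Γ}
    (ht : t * t = 1) (ht' : t' * t' = 1) (htt : Commute t t')
    (hN : ∀ x ∈ X, t * x * t⁻¹ ∈ X) (hN' : ∀ x ∈ X, t' * x * t'⁻¹ ∈ X) {x : Γ} (hx : x ∈ X) :
    ∃ c ∈ X, ∃ c' ∈ X, ∃ d ∈ X, Commute c t ∧ Commute c' t' ∧ Commute d (t * t') ∧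
      x = c * c' * d := by
  have hti : t⁻¹ = t := inv_eq_of_mul_eq_one_right ht
  have hti' : t'⁻¹ = t' := inv_eq_of_mul_eq_one_right ht'
  have hN'' : ∀ x ∈ X, t'⁻¹ * x * t' ∈ X := by
    intro x hx
    have := hN' x hx
    rwa [hti'] at this ⊢
  -- work with `x⁻¹`
  obtain ⟨u, hu⟩ : ∃ u : Γ, u = x⁻¹ := ⟨_, rfl⟩
  have huX : u ∈ X := by rw [hu]; exact X.inv_mem hx
  obtain ⟨s, hs⟩ : ∃ s : Γ, s = t * t' := ⟨_, rfl⟩
  have hss : s * s = 1 := by
    rw [hs]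
    calc t * t' * (t * t') = t * (t' * t) * t' := by group
      _ = t * (t * t') * t' := by rw [htt.eq]
      _ = (t * t) * (t' * t') := by group
      _ = 1 := by rw [ht, ht', one_mul]
  have hsi : s⁻¹ = s := inv_eq_of_mul_eq_one_right hss
  have hst' : Commute s t' := by
    rw [hs]; exact (htt.mul_left (Commute.refl t'))
  obtain ⟨σ, hσ⟩ : ∃ σ : Γ, σ = u⁻¹ * s * u := ⟨_, rfl⟩
  have hσσ : σ * σ = 1 := by
    rw [hσ]
    calc u⁻¹ * s * u * (u⁻¹ * s * u) = u⁻¹ * (s * s) * u := by group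
      _ = 1 := by rw [hss]; group
  have hσi : σ⁻¹ = σ := inv_eq_of_mul_eq_one_right hσσ
  obtain ⟨g, hg⟩ : ∃ g : Γ, g = t * σ := ⟨_, rfl⟩
  -- `g ∈ t' X`
  obtain ⟨y, hy⟩ : ∃ y : Γ, y = t' * (t * u⁻¹ * t⁻¹) * t'⁻¹ * u := ⟨_, rfl⟩
  have hyX : y ∈ X := by
    rw [hy]
    exact X.mul_mem (hN' _ (hN _ (X.inv_mem huX))) huX
  have hgy : g = t' * y := by
    rw [hg, hσ, hy, hs, hti, hti']
    have e1 : t' * (t' * (t * u⁻¹ * t) * t' * u) = (t' * t') * (t * u⁻¹ * t) * t' * u := by group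
    rw [e1, ht', one_mul]
    group
  -- `g * g ∈ X`
  have hggX : g * g ∈ X := by
    have : g * g = (t' * y * t'⁻¹) * y := by
      rw [hgy, hti']
      calc t' * y * (t' * y) = t' * y * t' * y := by group
        _ = t' * y * t' * y := rfl
    rw [this]
    exact X.mul_mem (hN' y hyX) hyX
  -- `e := g ^ |X|`
  obtain ⟨k, hk⟩ := hodd
  obtain ⟨e, hedef⟩ : ∃ e : Γ, e = g ^ Nat.card X := ⟨_, rfl⟩
  have hee : e * e = 1 := by
    have h1 : (g * g) ^ Nat.card X = 1 := by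
      have := pow_card_eq_one' (G := X) (x := ⟨g * g, hggX⟩)
      exact congrArg Subtype.val this
    rw [hedef, ← pow_add, ← two_mul, pow_mul, pow_two]
    exact h1
  have hei : e⁻¹ = e := inv_eq_of_mul_eq_one_right hee
  obtain ⟨ye, hyeX, hye⟩ := pow_mem_coset hN'' hyX hgy (Nat.card X)
  have htpow : t' ^ Nat.card X = t' := by
    rw [hk, pow_succ, pow_mul, pow_two, ht', one_pow, one_mul]
  have hey : e = t' * ye := by rw [hedef, hye, htpow]
  -- `t` and `σ` invert `g`, hence commute with `e`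
  have htg : t * g * t⁻¹ = g⁻¹ := by
    rw [hg, hti]
    have : (t * σ)⁻¹ = σ⁻¹ * t⁻¹ := by group
    rw [this, hσi, hti]
    calc t * (t * σ) * t = (t * t) * σ * t := by group
      _ = σ * t := by rw [ht, one_mul]
  have hσg : σ * g * σ⁻¹ = g⁻¹ := by
    rw [hg, hσi]
    have : (t * σ)⁻¹ = σ⁻¹ * t⁻¹ := by group
    rw [this, hσi, hti]
    calc σ * (t * σ) * σ = σ * t * (σ * σ) := by group
      _ = σ * t := by rw [hσσ, mul_one]
  have hte : Commute t e := by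
    have h1 : t * e * t⁻¹ = e := by
      rw [hedef]
      have : t * g ^ Nat.card X * t⁻¹ = (t * g * t⁻¹) ^ Nat.card X := by rw [conj_pow]
      rw [this, htg, inv_pow, ← hedef, hei]
    calc t * e = t * e * t⁻¹ * t := by group
      _ = e * t := by rw [h1]
  have hσe : Commute σ e := by
    have h1 : σ * e * σ⁻¹ = e := by
      rw [hedef]
      have : σ * g ^ Nat.card X * σ⁻¹ = (σ * g * σ⁻¹) ^ Nat.card X := by rw [conj_pow]
      rw [this, hσg, inv_pow, ← hedef, hei]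
    calc σ * e = σ * e * σ⁻¹ * σ := by group
      _ = e * σ := by rw [h1]
  -- first conjugation: `e = c⁻¹ t' c`, `c ∈ C_X(t)`
  obtain ⟨c, hcX, hct, hec⟩ := involution_coset_conj (⟨k, hk⟩ : Odd (Nat.card X)) ht' hyeX hey
    hee htt hte
  -- second: `e₁ := u e u⁻¹` commutes with `s`
  obtain ⟨e₁, he₁⟩ : ∃ e₁ : Γ, e₁ = u * e * u⁻¹ := ⟨_, rfl⟩
  have he₁e₁ : e₁ * e₁ = 1 := by
    rw [he₁]
    calc u * e * u⁻¹ * (u * e * u⁻¹) = u * (e * e) * u⁻¹ := by group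
      _ = 1 := by rw [hee]; group
  have hse₁ : Commute s e₁ := by
    have h1 : σ * e = e * σ := hσe.eq
    have h2 : s = u * σ * u⁻¹ := by rw [hσ]; group
    show s * e₁ = e₁ * s
    rw [h2, he₁]
    calc u * σ * u⁻¹ * (u * e * u⁻¹) = u * (σ * e) * u⁻¹ := by group
      _ = u * (e * σ) * u⁻¹ := by rw [h1]
      _ = u * e * u⁻¹ * (u * σ * u⁻¹) := by group
  obtain ⟨y₁, hy₁⟩ : ∃ y₁ : Γ, y₁ = t'⁻¹ * u * t' * ye * u⁻¹ := ⟨_, rfl⟩
  have hy₁X : y₁ ∈ X := by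
    rw [hy₁]
    exact X.mul_mem (X.mul_mem (hN'' u huX) hyeX) (X.inv_mem huX)
  have he₁y : e₁ = t' * y₁ := by
    rw [he₁, hey, hy₁]; group
  obtain ⟨d, hdX, hds, hed⟩ := involution_coset_conj (⟨k, hk⟩ : Odd (Nat.card X)) ht' hy₁X he₁y
    he₁e₁ hst' hse₁
  -- `c' := d u c⁻¹` commutes with `t'`
  have hc' : Commute (d * u * c⁻¹) t' := by
    have h1 : e = u⁻¹ * e₁ * u := by rw [he₁]; group
    rw [hed] at h1
    rw [hec] at h1
    -- c⁻¹ t' c = u⁻¹ d⁻¹ t' d u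
    show d * u * c⁻¹ * t' = t' * (d * u * c⁻¹)
    have h2 : t' = c * (u⁻¹ * (d⁻¹ * t' * d) * u) * c⁻¹ := by rw [← h1]; group
    calc d * u * c⁻¹ * t' = d * u * c⁻¹ * (c * (u⁻¹ * (d⁻¹ * t' * d) * u) * c⁻¹) := by rw [← h2]
      _ = t' * (d * u * c⁻¹) := by group
  -- conclusion: x = u⁻¹ = c⁻¹ (d u c⁻¹)⁻¹ d
  refine ⟨c⁻¹, X.inv_mem hcX, (d * u * c⁻¹)⁻¹, X.inv_mem (X.mul_mem (X.mul_mem hdX huX)
    (X.inv_mem hcX)), d, hdX, hct.inv_left, hc'.inv_left, ?_, ?_⟩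
  · rw [← hs]; exact hds
  · rw [hu]; group

end Cfsg.Agent.Lib.Helper2.GlFix
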