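import Cfsg.Agent.Lib.Helper2.GlFix5
import Cfsg.Agent.Lib.Helper2.GlFix6
import Cfsg.Agent.Lib.Helper4.GlFixP1a
import Cfsg.Agent.Lib.Helper4.GlFixS2
import Cfsg.Agent.Lib.Lead.GlFixSum

/-!
# S3067, step (S5): assembly

From (S1) (all `Lam0 G a b`, `b ≠ a` a point, have odd order) we get the stub statement (S5):
every `t ∈ K_a` normalises every `Lam0 G a b`, and `b` is `Lam0 G a b`-conjugate to `a`.
-/

set_option autoImplicit false

namespace Cfsg.Agent.Lib.Helper2.GlFix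

open Cfsg.Agent.Lib.Helper1.GC

universe u
variable {Γ : Type u} [Group Γ] [Finite Γ] {G : Subgroup Γ} {a τ : Γ} {r : ℕ}

/-- The line lemma in stub shape: every point `b` is `Lam0 G a b`-conjugate to `a`. -/
theorem exists_conj_in_Lam0' (h : Hyp G a τ r) {b : Γ} (hb : IsPt G a b) :
    ∃ x ∈ Lam0 G a b, b = x⁻¹ * a * x :=
  exists_conj_in_Lam0 h (fun S hS hr => Cfsg.Agent.Lib.Helper4.GlFixP1a.fp h S hS hr) hb

/-- (S5) per line, from (S1) for that line. -/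
theorem card_S_eq_card_T' (h : Hyp G a τ r) {b : Γ} (hb : IsPt G a b)
    (hS1 : Odd (Nat.card (Lam0 G a b))) :
    Nat.card {u : Γ // IsK G τ u ∧ u⁻¹ * a * u = b} =
      Nat.card {t : Γ // IsK G τ t ∧ Commute t a ∧
        ∀ x ∈ Lam0 G a b, t⁻¹ * x * t ∈ Lam0 G a b} :=
  card_S_eq_card_T h hS1 (exists_conj_in_Lam0' h hb)
    (fun _ hu hub => Cfsg.Agent.Lib.Helper4.GlFixS2.S2' h hS1 hu hub)

/-- **(S5)** in stub shape, with (S1) as a hypothesis. -/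
theorem S5_of_S1 (h : Hyp G a τ r)
    (hS1 : ∀ b, IsPt G a b → b ≠ a → Odd (Nat.card (Lam0 G a b)))
    {t b : Γ} (ht : IsK G τ t) (hta : Commute t a) (hb : IsPt G a b) (hba : b ≠ a) :
    (∀ x ∈ Lam0 G a b, t⁻¹ * x * t ∈ Lam0 G a b) ∧ ∃ x ∈ Lam0 G a b, b = x⁻¹ * a * x :=
  ⟨Cfsg.Agent.Lib.Lead.GlFixSum.normalizes_of_card_eq h
      (fun b' hb' hba' => card_S_eq_card_T' h hb' (hS1 b' hb' hba')) ht hta hb hba,
    exists_conj_in_Lam0' h hb⟩

end Cfsg.Agent.Lib.Helper2.GlFix
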