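import Mathlib
import Cfsg.Agent.S0220

set_option autoImplicit false

/-!
# Generalized quaternion subgroups: abstract presentation data
-/

namespace Cfsg.Agent.Lib.Helper2.QuatSylow

/-- Abstract data of a generalized quaternion subgroup `S = ⟨α, β⟩` of order `4m`. -/
structure QData {G : Type*} [Group G] (S : Subgroup G) (m : ℕ) (α β : G) : Prop where
  hα : α ∈ S
  hβ : β ∈ S
  ord : orderOf α = 2 * m
  conj : β * α * β⁻¹ = α⁻¹
  sq : β * β = α ^ m
  cover : ∀ s ∈ S, s ∈ Subgroup.zpowers α ∨ ∃ z ∈ Subgroup.zpowers α, s = β * z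
  card : Nat.card S = 4 * m

section Quat
open QuaternionGroup

theorem inv_xa' (m : ℕ) (i : ZMod (2 * m)) :
    (xa i : QuaternionGroup m)⁻¹ = xa ((m : ZMod (2 * m)) + i) := rfl

theorem two_m (m : ℕ) : (m : ZMod (2 * m)) + m = 0 := by
  have := ZMod.natCast_self (2 * m)
  push_cast at this
  calc (m : ZMod (2 * m)) + m = 2 * m := by ring
    _ = 0 := this

theorem conj_q (m : ℕ) : (xa 0 : QuaternionGroup m) * a 1 * (xa 0)⁻¹ = (a 1)⁻¹ := by
  rw [inv_xa', xa_mul_a, xa_mul_xa]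
  show a _ = a (-1)
  congr 1
  have := two_m m
  linear_combination this

theorem sq_q (m : ℕ) : (xa 0 : QuaternionGroup m) * xa 0 = (a 1) ^ m := by
  rw [xa_mul_xa, a_one_pow]
  congr 1
  ring

theorem a_mem (m : ℕ) [NeZero m] (i : ZMod (2 * m)) :
    (a i : QuaternionGroup m) ∈ Subgroup.zpowers (a 1 : QuaternionGroup m) := by
  have : (a i : QuaternionGroup m) = (a 1) ^ i.val := by
    rw [a_one_pow, ZMod.natCast_zmod_val]
  rw [this]
  exact Subgroup.pow_mem _ (Subgroup.mem_zpowers _) _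

end Quat

open QuaternionGroup in
theorem exists_qdata {G : Type*} [Group G] (S : Subgroup G) (m : ℕ) [NeZero m]
    (e : S ≃* QuaternionGroup m) : ∃ α β : G, QData S m α β := by
  refine ⟨(e.symm (a 1) : G), (e.symm (xa 0) : G),
    ⟨(e.symm (a 1)).2, (e.symm (xa 0)).2, ?_, ?_, ?_, ?_, ?_⟩⟩
  · rw [Subgroup.orderOf_coe, MulEquiv.orderOf_eq, orderOf_a_one]
  · have h := congrArg e.symm (conj_q m)
    rw [map_mul, map_mul, map_inv, map_inv] at h
    have h' := congrArg Subtype.val h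
    simpa only [Subgroup.coe_mul, Subgroup.coe_inv] using h'
  · have h := congrArg e.symm (sq_q m)
    rw [map_mul, map_pow] at h
    have h' := congrArg Subtype.val h
    simpa only [Subgroup.coe_mul, Subgroup.coe_pow] using h'
  · intro s hs
    have hs' : (⟨s, hs⟩ : S) = e.symm (e ⟨s, hs⟩) := (e.symm_apply_apply _).symm
    rcases hq : e ⟨s, hs⟩ with i | i
    · left
      rw [hq] at hs'
      have h1 := a_mem m i
      rw [Subgroup.mem_zpowers_iff] at h1 ⊢
      obtain ⟨k, hk⟩ := h1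
      refine ⟨k, ?_⟩
      have h2 := congrArg (fun x => ((e.symm x : S) : G)) hk
      simp only [map_zpow, Subgroup.coe_zpow] at h2
      rw [h2]
      exact (congrArg Subtype.val hs').symm
    · right
      rw [hq] at hs'
      have h1 := a_mem m i
      rw [Subgroup.mem_zpowers_iff] at h1
      obtain ⟨k, hk⟩ := h1
      refine ⟨((e.symm (a 1) : S) : G) ^ k, zpow_mem (Subgroup.mem_zpowers _) k, ?_⟩
      have h3 : (xa i : QuaternionGroup m) = xa 0 * (a 1) ^ k := by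
        rw [hk, xa_mul_a, zero_add]
      have h2 := congrArg (fun x => ((e.symm x : S) : G)) h3
      simp only [map_mul, map_zpow, Subgroup.coe_mul, Subgroup.coe_zpow] at h2
      rw [← h2]
      exact congrArg Subtype.val hs'
  · rw [Nat.card_congr e.toEquiv, Nat.card_eq_fintype_card, QuaternionGroup.card]


namespace QData

open scoped commutatorElement

variable {G : Type*} [Group G] {S : Subgroup G} {m : ℕ} {α β : G}

theorem conj_zpow' (h : QData S m α β) (k : ℤ) : β * α ^ k * β⁻¹ = α ^ (-k) := by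
  have : β * α ^ k * β⁻¹ = (β * α * β⁻¹) ^ k := by rw [conj_zpow]
  rw [this, h.conj, inv_zpow, zpow_neg]

theorem beta_mul (h : QData S m α β) (k : ℤ) : β * α ^ k = α ^ (-k) * β := by
  rw [← h.conj_zpow' k]; group

theorem cover' (h : QData S m α β) {s : G} (hs : s ∈ S) :
    ∃ k : ℤ, s = α ^ k ∨ s = β * α ^ k := by
  rcases h.cover s hs with h1 | ⟨z, hz, rfl⟩
  · obtain ⟨k, rfl⟩ := Subgroup.mem_zpowers_iff.mp h1
    exact ⟨k, Or.inl rfl⟩
  · obtain ⟨k, rfl⟩ := Subgroup.mem_zpowers_iff.mp hz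
    exact ⟨k, Or.inr rfl⟩

theorem zpow_mem_S (h : QData S m α β) (k : ℤ) : α ^ k ∈ S := S.zpow_mem h.hα k

theorem beta_zpow_mem_S (h : QData S m α β) (k : ℤ) : β * α ^ k ∈ S :=
  S.mul_mem h.hβ (h.zpow_mem_S k)

theorem alpha_pow_two_m (h : QData S m α β) : α ^ (2 * m) = 1 := by
  rw [← h.ord]; exact pow_orderOf_eq_one α

theorem sq_beta_mul (h : QData S m α β) (k : ℤ) : (β * α ^ k) * (β * α ^ k) = α ^ m := by
  have e1 : (β * α ^ k) * (β * α ^ k) = (β * α ^ k * β⁻¹) * (β * β) * α ^ k := by group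
  rw [e1, h.conj_zpow', h.sq, ← zpow_natCast α m, ← zpow_add, ← zpow_add]
  congr 1
  ring

theorem alpha_pow_m_ne_one (h : QData S m α β) (hm : 0 < m) : α ^ m ≠ 1 := by
  intro h1
  have := orderOf_dvd_of_pow_eq_one h1
  rw [h.ord] at this
  have := Nat.le_of_dvd hm this
  omega

theorem orderOf_alpha_sq (h : QData S m α β) (hm : 0 < m) : orderOf (α ^ 2) = m := by
  rw [orderOf_pow' α (by norm_num : (2 : ℕ) ≠ 0), h.ord, Nat.gcd_mul_right_left]
  exact Nat.mul_div_cancel_left m (by norm_num)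

theorem card_zpowers_sq (h : QData S m α β) (hm : 0 < m) :
    Nat.card (Subgroup.zpowers (α ^ 2)) = m := by
  rw [Nat.card_zpowers, h.orderOf_alpha_sq hm]

theorem card_zpowers (h : QData S m α β) : Nat.card (Subgroup.zpowers α) = 2 * m := by
  rw [Nat.card_zpowers, h.ord]

theorem zpowers_le (h : QData S m α β) : Subgroup.zpowers α ≤ S := by
  rw [Subgroup.zpowers_le]; exact h.hα

/-- commutators land in `⟨α²⟩` -/
theorem commutator_mem (h : QData S m α β) {x y : G} (hx : x ∈ S) (hy : y ∈ S) :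
    ⁅x, y⁆ ∈ Subgroup.zpowers (α ^ 2) := by
  have key : ∀ j : ℤ, α ^ (2 * j) ∈ Subgroup.zpowers (α ^ 2) := by
    intro j
    rw [Subgroup.mem_zpowers_iff]
    refine ⟨j, ?_⟩
    rw [← zpow_natCast α 2, ← zpow_mul]
    norm_num
  obtain ⟨i, hi | hi⟩ := h.cover' hx <;> obtain ⟨j, hj | hj⟩ := h.cover' hy
  · rw [hi, hj, commutatorElement_def]
    have : α ^ i * α ^ j * (α ^ i)⁻¹ * (α ^ j)⁻¹ = 1 := by group
    rw [this]; exact Subgroup.one_mem _
  · -- x = α^i, y = β α^j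
    rw [hi, hj]
    have e1 : ⁅α ^ i, β * α ^ j⁆ = α ^ i * (β * α ^ (-i) * β⁻¹) := by
      rw [commutatorElement_def]; group
    rw [e1, h.conj_zpow', ← zpow_add]
    have : i + - -i = 2 * i := by ring
    rw [this]; exact key i
  · rw [hi, hj]
    have e1 : ⁅β * α ^ i, α ^ j⁆ = (β * α ^ j * β⁻¹) * α ^ (-j) := by
      rw [commutatorElement_def]; group
    rw [e1, h.conj_zpow', ← zpow_add]
    have : -j + -j = 2 * (-j) := by ring
    rw [this]; exact key (-j)
  · rw [hi, hj]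
    have e1 : ⁅β * α ^ i, β * α ^ j⁆ = ((β * α ^ i) * (β * α ^ j)) * ((β * α ^ j) * (β * α ^ i))⁻¹ := by
      rw [commutatorElement_def]; group
    have e2 : (β * α ^ i) * (β * α ^ j) = (β * α ^ i * β⁻¹) * (β * β) * α ^ j := by group
    have e3 : (β * α ^ j) * (β * α ^ i) = (β * α ^ j * β⁻¹) * (β * β) * α ^ i := by group
    rw [e1, e2, e3, h.conj_zpow', h.conj_zpow', h.sq, ← zpow_natCast α m, ← zpow_add, ← zpow_add,
      ← zpow_add, ← zpow_add, ← zpow_neg, ← zpow_add]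
    have : -i + (m : ℤ) + j + -(-j + (m : ℤ) + i) = 2 * (j - i) := by ring
    rw [this]; exact key (j - i)

/-- `[S,S] = ⟨α²⟩` -/
theorem commutator_eq (h : QData S m α β) : ⁅S, S⁆ = Subgroup.zpowers (α ^ 2) := by
  apply le_antisymm
  · rw [Subgroup.commutator_le]
    intro x hx y hy
    exact h.commutator_mem hx hy
  · rw [Subgroup.zpowers_le]
    have h1 : ⁅α, β⁆ ∈ ⁅S, S⁆ := Subgroup.commutator_mem_commutator h.hα h.hβ
    have e1 : ⁅α, β⁆ = α * (β * α ^ (-1 : ℤ) * β⁻¹) := by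
      rw [commutatorElement_def]; group
    rw [e1, h.conj_zpow'] at h1
    have : α * α ^ (- (-1 : ℤ)) = α ^ 2 := by
      rw [neg_neg, zpow_one, pow_two]
    rwa [this] at h1

theorem conj_alpha_sq_mem (h : QData S m α β) {s : G} (hs : s ∈ S) :
    s * α ^ 2 * s⁻¹ = α ^ 2 ∨ s * α ^ 2 * s⁻¹ = (α ^ 2)⁻¹ := by
  obtain ⟨k, hk | hk⟩ := h.cover' hs
  · left
    rw [hk]; group
  · right
    rw [hk]
    have e1 : β * α ^ k * α ^ 2 * (β * α ^ k)⁻¹ = β * α ^ (2 : ℤ) * β⁻¹ := by group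
    rw [e1, h.conj_zpow', zpow_neg]
    norm_cast

/-- `S` normalizes `⟨α²⟩`. -/
theorem le_normalizer (h : QData S m α β) [Finite G] :
    S ≤ Subgroup.normalizer (Subgroup.zpowers (α ^ 2) : Set G) := by
  intro s hs
  apply Subgroup.mem_normalizer_fintype
  intro n hn
  obtain ⟨j, rfl⟩ := Subgroup.mem_zpowers_iff.mp hn
  have : s * (α ^ 2) ^ j * s⁻¹ = (s * α ^ 2 * s⁻¹) ^ j := by rw [conj_zpow]
  show s * (α ^ 2) ^ j * s⁻¹ ∈ Subgroup.zpowers (α ^ 2)
  rw [this]
  rcases h.conj_alpha_sq_mem hs with h1 | h1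
  · rw [h1]; exact Subgroup.zpow_mem _ (Subgroup.mem_zpowers _) _
  · rw [h1]; exact Subgroup.zpow_mem _ (Subgroup.inv_mem _ (Subgroup.mem_zpowers _)) _

/-- `C_S(⟨α²⟩) = ⟨α⟩` when `m > 2`. -/
theorem inf_centralizer (h : QData S m α β) (hm : 2 < m) :
    S ⊓ Subgroup.centralizer (Subgroup.zpowers (α ^ 2) : Set G) = Subgroup.zpowers α := by
  apply le_antisymm
  · intro s hs
    obtain ⟨hsS, hsC⟩ := Subgroup.mem_inf.mp hs
    obtain ⟨k, hk | hk⟩ := h.cover' hsS
    · rw [hk]; exact Subgroup.zpow_mem _ (Subgroup.mem_zpowers _) _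
    · exfalso
      rw [Subgroup.mem_centralizer_iff] at hsC
      have h1 := hsC (α ^ 2) (Subgroup.mem_zpowers _)
      rw [hk] at h1
      -- α^2 * (β α^k) = β α^k α^2 → β α^(2) β⁻¹ = ... derive α^4 = 1
      have h2 : β * α ^ (2 : ℤ) * β⁻¹ = α ^ (2 : ℤ) := by
        have : β * α ^ (2 : ℤ) * β⁻¹ = (β * α ^ k * α ^ 2) * (β * α ^ k)⁻¹ := by group
        rw [this, ← h1]; group
      rw [h.conj_zpow'] at h2
      have h3 : α ^ (4 : ℕ) = 1 := by
        have : α ^ (2 : ℤ) * α ^ (2 : ℤ) = α ^ (2 : ℤ) * α ^ (-2 : ℤ) := by rw [h2]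
        rw [← zpow_add, ← zpow_add] at this
        norm_num at this
        rw [← zpow_natCast]
        exact_mod_cast this
      have := orderOf_dvd_of_pow_eq_one h3
      rw [h.ord] at this
      have := Nat.le_of_dvd (by norm_num) this
      omega
  · intro s hs
    obtain ⟨k, rfl⟩ := Subgroup.mem_zpowers_iff.mp hs
    refine Subgroup.mem_inf.mpr ⟨h.zpow_mem_S k, ?_⟩
    rw [Subgroup.mem_centralizer_iff]
    intro z hz
    obtain ⟨j, rfl⟩ := Subgroup.mem_zpowers_iff.mp hz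
    group

/-- The unique involution. -/
theorem involution_eq (h : QData S m α β) (hm : 0 < m) {s : G} (hs : s ∈ S)
    (h2 : orderOf s = 2) : s = α ^ m := by
  have hs2 : s * s = 1 := by
    have := pow_orderOf_eq_one s
    rwa [h2, pow_two] at this
  have hs1 : s ≠ 1 := by
    intro h1
    rw [h1, orderOf_one] at h2
    norm_num at h2
  obtain ⟨k, hk | hk⟩ := h.cover' hs
  · -- in the cyclic group ⟨α⟩
    haveI : Finite (Subgroup.zpowers α) := by
      apply Nat.finite_of_card_ne_zero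
      rw [h.card_zpowers]; omega
    have hmem1 : s ∈ Subgroup.zpowers α := by rw [hk]; exact Subgroup.zpow_mem _ (Subgroup.mem_zpowers _) _
    have hmem2 : α ^ m ∈ Subgroup.zpowers α := Subgroup.pow_mem _ (Subgroup.mem_zpowers _) _
    have := Cfsg.Agent.S0220.cyclic_unique_involution
      (A := Subgroup.zpowers α) ⟨s, hmem1⟩ ⟨α ^ m, hmem2⟩
      (by apply Subtype.ext; exact hs2)
      (by
        apply Subtype.ext
        show α ^ m * α ^ m = 1
        rw [← pow_add, ← two_mul]; exact h.alpha_pow_two_m)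
      (by intro h1; exact hs1 (congrArg Subtype.val h1))
      (by intro h1; exact h.alpha_pow_m_ne_one hm (congrArg Subtype.val h1))
    exact congrArg Subtype.val this
  · exfalso
    rw [hk, h.sq_beta_mul] at hs2
    exact h.alpha_pow_m_ne_one hm hs2

/-- A subgroup of `S` normalized by `S` and not containing `α²` lies in `⟨α⟩`. -/
theorem le_zpowers_of_normal (h : QData S m α β) {R : Subgroup G} (hRS : R ≤ S)
    (hnorm : S ≤ Subgroup.normalizer (R : Set G)) (hα2 : α ^ 2 ∉ R) : R ≤ Subgroup.zpowers α := by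
  intro r hr
  obtain ⟨k, hk | hk⟩ := h.cover' (hRS hr)
  · rw [hk]; exact Subgroup.zpow_mem _ (Subgroup.mem_zpowers _) _
  · exfalso
    apply hα2
    -- α⁻¹ r α r⁻¹ ∈ R
    have h1 : α⁻¹ * r * α⁻¹⁻¹ ∈ R :=
      (Subgroup.mem_normalizer_iff.mp (hnorm (S.inv_mem h.hα)) r).mp hr
    have h2 : r⁻¹ * (α⁻¹ * r * α⁻¹⁻¹) ∈ R := R.mul_mem (R.inv_mem hr) h1
    have e1 : r⁻¹ * (α⁻¹ * r * α⁻¹⁻¹) = α ^ 2 := by
      rw [hk]
      have : (β * α ^ k)⁻¹ * (α⁻¹ * (β * α ^ k) * α⁻¹⁻¹)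
          = α ^ (-k) * (β⁻¹ * α ^ (-1 : ℤ) * β) * α ^ k * α := by group
      rw [this]
      have hb : β⁻¹ * α ^ (-1 : ℤ) * β = α ^ (1 : ℤ) := by
        have := h.conj_zpow' 1
        have e : β⁻¹ * α ^ (-1 : ℤ) * β = β⁻¹ * (β * α ^ (1 : ℤ) * β⁻¹) * β := by rw [this]
        rw [e]; group
      rw [hb]
      group
    rwa [e1] at h2

end QData

end Cfsg.Agent.Lib.Helper2.QuatSylow
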