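import Mathlib
import Cfsg.Agent.Lib.Helper2.QuatSylow
import Cfsg.Agent.Lib.Helper2.Basic
import Cfsg.Agent.Lib.Helper2.ComplementSystem
import Cfsg.Agent.Lib.Helper2.PCore
import Cfsg.Agent.Lib.Helper3.NC
import Cfsg.Agent.Lib.Helper6.QuatAut

set_option autoImplicit false

/-!
# Local structure around `D = [S,S]` for a generalized quaternion Sylow 2-subgroup `S`
-/

namespace Cfsg.Agent.Lib.Helper2.QuatSylow

open Cfsg.Agent.Lib.Helper2

variable {G : Type*} [Group G]

/-- The local structure: `K` is the normal 2-complement of `C = C_G(D)`, `D = ⟨α²⟩`. -/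
structure Local (S : Subgroup G) (α : G) (K : Subgroup G) : Prop where
  odd : Odd (Nat.card K)
  le_C : K ≤ Subgroup.centralizer (Subgroup.zpowers (α ^ 2) : Set G)
  norm : Subgroup.normalizer (Subgroup.zpowers (α ^ 2) : Set G) ≤ Subgroup.normalizer (K : Set G)
  sup_A : K ⊔ Subgroup.zpowers α = Subgroup.centralizer (Subgroup.zpowers (α ^ 2) : Set G)
  sup_S : K ⊔ S = Subgroup.normalizer (Subgroup.zpowers (α ^ 2) : Set G)
  index : ((Subgroup.centralizer (Subgroup.zpowers (α ^ 2) : Set G)).subgroupOf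
    (Subgroup.normalizer (Subgroup.zpowers (α ^ 2) : Set G))).index = 2
  odd_mem : ∀ c ∈ Subgroup.centralizer (Subgroup.zpowers (α ^ 2) : Set G),
    Odd (orderOf c) → c ∈ K
  inf_A : K ⊓ Subgroup.zpowers α = ⊥
  conj_mem : ∀ y ∈ Subgroup.centralizer (Subgroup.zpowers (α ^ 2) : Set G),
    (∃ j : ℕ, orderOf y = 2 ^ j) →
      ∃ c ∈ Subgroup.centralizer (Subgroup.zpowers (α ^ 2) : Set G),
        c * y * c⁻¹ ∈ Subgroup.zpowers α

theorem exists_local [Finite G] (S : Sylow 2 G) {m : ℕ} {α β : G}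
    (h : QData (S : Subgroup G) m α β) (hm : ∃ k, m = 2 ^ (k + 2)) :
    ∃ K : Subgroup G, Local (S : Subgroup G) α K := by
  classical
  haveI : Fact (Nat.Prime 2) := ⟨Nat.prime_two⟩
  obtain ⟨k, rfl⟩ := hm
  set D := Subgroup.zpowers (α ^ 2) with hD
  set C := Subgroup.centralizer (D : Set G) with hC
  set N := Subgroup.normalizer (D : Set G) with hN
  have hmpos : 0 < 2 ^ (k + 2) := by positivity
  have hm2 : 2 < 2 ^ (k + 2) := by
    have : 2 ^ 2 ≤ 2 ^ (k + 2) := Nat.pow_le_pow_right (by norm_num) (by omega)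
    omega
  have hSN : (S : Subgroup G) ≤ N := h.le_normalizer
  have hCN : C ≤ N := Subgroup.centralizer_le_normalizer _
  have hNC : N ≤ Subgroup.normalizer (C : Set G) := normalizer_le_normalizer_centralizer D
  have hA : (S : Subgroup G) ⊓ C = Subgroup.zpowers α := h.inf_centralizer hm2
  have hAC : Subgroup.zpowers α ≤ C := hA ▸ inf_le_right
  have hAS : Subgroup.zpowers α ≤ (S : Subgroup G) := h.zpowers_le
  -- Sylow subgroup of C
  have hidx : ¬ 2 ∣ ((Subgroup.zpowers α).subgroupOf C).index := by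
    show ¬ 2 ∣ (Subgroup.zpowers α).relIndex C
    rw [← hA, Subgroup.inf_relIndex_right,
      ← relIndex_sup_left_of_le_normalizer (S : Subgroup G) C (hSN.trans hNC)]
    intro hdvd
    exact S.not_dvd_index (hdvd.trans (Subgroup.relIndex_dvd_index_of_le le_sup_left))
  have hAp : IsPGroup 2 ((Subgroup.zpowers α).subgroupOf C) := by
    apply IsPGroup.of_card (n := k + 3)
    rw [card_subgroupOf_of_le hAC, h.card_zpowers]
    ring
  set P : Sylow 2 C := hAp.toSylow hidx with hP
  have hPcoe : (P : Subgroup C) = (Subgroup.zpowers α).subgroupOf C := rfl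
  have hPcyc : IsCyclic P := by
    have e := Subgroup.subgroupOfEquivOfLe hAC
    exact isCyclic_of_surjective e.symm e.symm.surjective
  have hcardP : Nat.card P = 2 ^ (k + 3) := by
    show Nat.card ((Subgroup.zpowers α).subgroupOf C) = _
    rw [card_subgroupOf_of_le hAC, h.card_zpowers]
    ring
  have h2C : 2 ∣ Nat.card C := by
    have h1 : Nat.card P ∣ Nat.card C := Subgroup.card_subgroup_dvd_card _
    rw [hcardP] at h1
    exact (dvd_pow_self 2 (by omega)).trans h1
  have hminFac : (Nat.card C).minFac = 2 := by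
    rw [Nat.minFac_eq_two_iff]; exact h2C
  have hNCP := IsCyclic.normalizer_le_centralizer hminFac hPcyc
  set τ := MonoidHom.transferSylow P hNCP with hτ
  have hcompl : Subgroup.IsComplement' τ.ker (P : Subgroup C) :=
    MonoidHom.ker_transferSylow_isComplement' P hNCP
  set K := τ.ker.map C.subtype with hK
  have hKC : K ≤ C := by
    rintro _ ⟨x, _, rfl⟩
    exact x.2
  have hcardK : Nat.card K = Nat.card τ.ker := by
    rw [hK]
    exact Subgroup.card_map_of_injective C.subtype_injective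
  have hKodd : ¬ 2 ∣ Nat.card K := by
    rw [hcardK, ← hcompl.index_eq_card]
    exact P.not_dvd_index
  -- odd order elements of C lie in K
  have hoddmem : ∀ c ∈ C, Odd (orderOf c) → c ∈ K := by
    intro c hc hodd
    refine ⟨⟨c, hc⟩, ?_, rfl⟩
    rw [SetLike.mem_coe, MonoidHom.mem_ker]
    have h1 : orderOf (τ ⟨c, hc⟩) ∣ orderOf c := by
      have := orderOf_map_dvd τ (⟨c, hc⟩ : C)
      have e : orderOf (⟨c, hc⟩ : C) = orderOf c := by rw [← Subgroup.orderOf_coe]
      rw [e] at this
      exact this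
    have h2 : orderOf (τ ⟨c, hc⟩) ∣ 2 ^ (k + 3) := by
      rw [← hcardP]; exact orderOf_dvd_natCard _
    have h3 : orderOf (τ ⟨c, hc⟩) = 1 := by
      have hcop : Nat.Coprime (orderOf c) (2 ^ (k + 3)) :=
        Nat.Coprime.pow_right _ (Nat.coprime_two_right.mpr hodd)
      exact Nat.eq_one_of_dvd_coprimes hcop h1 h2
    exact orderOf_eq_one_iff.mp h3
  -- elements of K have odd order
  have hKord : ∀ x ∈ K, Odd (orderOf x) := by
    intro x hx
    rw [← Nat.not_even_iff_odd, even_iff_two_dvd]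
    intro h2
    apply hKodd
    have : orderOf (⟨x, hx⟩ : K) ∣ Nat.card K := orderOf_dvd_natCard _
    rw [Subgroup.orderOf_mk] at this
    exact h2.trans this
  -- N normalizes K
  have hNK : N ≤ Subgroup.normalizer (K : Set G) := by
    intro g hg
    apply Subgroup.mem_normalizer_fintype
    intro x hx
    have hxC : x ∈ C := hKC hx
    have hgx : g * x * g⁻¹ ∈ C := (Subgroup.mem_normalizer_iff.mp (hNC hg) x).mp hxC
    apply hoddmem _ hgx
    have : orderOf (g * x * g⁻¹) = orderOf x := by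
      have := orderOf_injective (MulAut.conj g).toMonoidHom (MulAut.conj g).injective x
      simpa using this
    rw [this]
    exact hKord x hx
  -- K ⊔ A = C
  have hsupA : K ⊔ Subgroup.zpowers α = C := by
    have h1 : τ.ker ⊔ (Subgroup.zpowers α).subgroupOf C = ⊤ := hcompl.sup_eq_top
    have h2 := congrArg (Subgroup.map C.subtype) h1
    rw [Subgroup.map_sup, Subgroup.map_subgroupOf_eq_of_le hAC, ← MonoidHom.range_eq_map,
      Subgroup.range_subtype] at h2
    exact h2
  have hinfA : K ⊓ Subgroup.zpowers α = ⊥ := by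
    have h1 : τ.ker ⊓ (Subgroup.zpowers α).subgroupOf C = ⊥ := disjoint_iff.mp hcompl.disjoint
    have h2 := congrArg (Subgroup.map C.subtype) h1
    rw [Subgroup.map_inf _ _ _ C.subtype_injective, Subgroup.map_subgroupOf_eq_of_le hAC,
      Subgroup.map_bot] at h2
    exact h2
  -- N = C ⊔ S
  have hCS : C ⊔ (S : Subgroup G) = N := by
    apply le_antisymm (sup_le hCN hSN)
    -- index argument
    have hle : C ⊔ (S : Subgroup G) ≤ N := sup_le hCN hSN
    have h1 : (C ⊔ (S : Subgroup G)).relIndex N ∣ C.relIndex N :=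
      Subgroup.relIndex_dvd_of_le_left N le_sup_left
    have h2 : (C ⊔ (S : Subgroup G)).relIndex N ∣ (S : Subgroup G).relIndex N :=
      Subgroup.relIndex_dvd_of_le_left N le_sup_right
    haveI : Finite D := inferInstance
    have hDp : IsPGroup 2 D := by
      apply IsPGroup.of_card (n := k + 2)
      exact h.card_zpowers_sq hmpos
    haveI : IsCyclic D := by rw [hD]; infer_instance
    have h3 : C.relIndex N ∣ Nat.card (MulAut D) :=
      Cfsg.Agent.Lib.Helper3.relIndex_centralizer_normalizer_dvd_card_mulAut D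
    obtain ⟨j, hj⟩ := IsPGroup.iff_card.mp (Cfsg.Agent.Lib.Helper6.isPGroup_mulAut_of_isCyclic hDp)
    rw [hj] at h3
    have h4 : ¬ 2 ∣ (S : Subgroup G).relIndex N := by
      intro hdvd
      exact S.not_dvd_index (hdvd.trans (Subgroup.relIndex_dvd_index_of_le hSN))
    have h5 : (C ⊔ (S : Subgroup G)).relIndex N = 1 := by
      have hcop : Nat.Coprime (2 ^ j) ((S : Subgroup G).relIndex N) :=
        Nat.Coprime.pow_left _ ((Nat.Prime.coprime_iff_not_dvd Nat.prime_two).mpr h4)
      exact Nat.eq_one_of_dvd_coprimes hcop (h1.trans h3) h2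
    exact Subgroup.relIndex_eq_one.mp h5
  have hsupS : K ⊔ (S : Subgroup G) = N := by
    rw [← hCS, ← hsupA, sup_assoc, sup_eq_right.mpr hAS]
  -- index 2
  have hindex : (C.subgroupOf N).index = 2 := by
    show C.relIndex N = 2
    have h1 : C.relIndex ((S : Subgroup G) ⊔ C) = C.relIndex (S : Subgroup G) :=
      relIndex_sup_right_of_le_normalizer (S : Subgroup G) C (hSN.trans hNC)
    rw [sup_comm, hCS] at h1
    have e2 : C.relIndex (S : Subgroup G) = (Subgroup.zpowers α).relIndex (S : Subgroup G) := by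
      rw [← hA, Subgroup.inf_relIndex_left]
    rw [h1, e2]
    have h2 := Subgroup.relIndex_mul_relIndex ⊥ (Subgroup.zpowers α) (S : Subgroup G) bot_le hAS
    rw [Subgroup.relIndex_bot_left, Subgroup.relIndex_bot_left, h.card_zpowers, h.card] at h2
    have : 2 * 2 ^ (k + 2) * (Subgroup.zpowers α).relIndex (S : Subgroup G) = 2 * 2 ^ (k + 2) * 2 := by
      rw [h2]; ring
    exact Nat.eq_of_mul_eq_mul_left (by positivity) this
  have hconj : ∀ y ∈ C, (∃ j : ℕ, orderOf y = 2 ^ j) → ∃ c ∈ C, c * y * c⁻¹ ∈ Subgroup.zpowers α := by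
    rintro y hy ⟨j, hj⟩
    have hj' : orderOf (⟨y, hy⟩ : C) = 2 ^ j := by rw [← Subgroup.orderOf_coe]; exact hj
    have hp : IsPGroup 2 (Subgroup.zpowers (⟨y, hy⟩ : C)) := by
      apply IsPGroup.of_card (n := j)
      rw [Nat.card_zpowers, hj']
    obtain ⟨Q, hQ⟩ := hp.exists_le_sylow
    obtain ⟨c, hc⟩ := MulAction.exists_smul_eq C Q P
    refine ⟨c, c.2, ?_⟩
    have hyQ : (⟨y, hy⟩ : C) ∈ (Q : Subgroup C) := hQ (Subgroup.mem_zpowers _)
    have h1 : c * ⟨y, hy⟩ * c⁻¹ ∈ (P : Subgroup C) := by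
      rw [← hc, Sylow.smul_def, Sylow.pointwise_smul_def]
      have := Subgroup.smul_mem_pointwise_smul _ (MulAut.conj c) (Q : Subgroup C) hyQ
      simpa [MulAut.smul_def] using this
    exact h1
  refine ⟨K, ⟨?_, hKC, hNK, hsupA, hsupS, hindex, hoddmem, hinfA, hconj⟩⟩
  rw [← Nat.not_even_iff_odd, even_iff_two_dvd]
  exact hKodd

end Cfsg.Agent.Lib.Helper2.QuatSylow
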