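import Mathlib
import Cfsg.Agent.Lib.Helper2.QuatSylow2

set_option autoImplicit false

/-!
# The T.I. property of the elements of `C_G(D)` of order divisible by `|D|`
-/

namespace Cfsg.Agent.Lib.Helper2.QuatSylow

variable {G : Type*} [Group G]

/-- In a finite cyclic group, an element whose order divides the order of `u` is a power of `u`. -/
theorem mem_zpowers_of_orderOf_dvd_aux {Y : Type*} [Group Y] [Finite Y] [IsCyclic Y] (u v : Y)
    (h : orderOf v ∣ orderOf u) : v ∈ Subgroup.zpowers u := by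
  classical
  haveI := Fintype.ofFinite Y
  set d := orderOf u with hd
  have hdpos : 0 < d := orderOf_pos u
  have h1 := IsCyclic.card_pow_eq_one_le (α := Y) hdpos
  set F := Finset.univ.filter (fun b : Y => b ^ d = 1) with hF
  set Z : Finset Y := (Subgroup.zpowers u : Set Y).toFinset with hZ
  have hZF : Z ⊆ F := by
    intro b hb
    rw [hZ, Set.mem_toFinset] at hb
    rw [hF, Finset.mem_filter]
    refine ⟨Finset.mem_univ _, ?_⟩
    obtain ⟨i, rfl⟩ := Subgroup.mem_zpowers_iff.mp hb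
    rw [← zpow_natCast, ← zpow_mul, mul_comm, zpow_mul, zpow_natCast, hd, pow_orderOf_eq_one, one_zpow]
  have hZcard : Z.card = d := by
    rw [hZ, Set.toFinset_card, ← Nat.card_eq_fintype_card]
    exact Nat.card_zpowers u
  have hFZ : F = Z := (Finset.eq_of_subset_of_card_le hZF (by rw [hZcard]; exact h1)).symm
  have hvF : v ∈ F := by
    rw [hF, Finset.mem_filter]
    refine ⟨Finset.mem_univ _, ?_⟩
    exact orderOf_dvd_iff_pow_eq_one.mp h
  rw [hFZ, hZ, Set.mem_toFinset] at hvF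
  exact hvF

theorem mem_zpowers_of_orderOf_dvd [Finite G] {w u v : G} (hu : u ∈ Subgroup.zpowers w)
    (hv : v ∈ Subgroup.zpowers w) (h : orderOf v ∣ orderOf u) : v ∈ Subgroup.zpowers u := by
  have h' : orderOf (⟨v, hv⟩ : Subgroup.zpowers w) ∣ orderOf (⟨u, hu⟩ : Subgroup.zpowers w) := by
    rw [← Subgroup.orderOf_coe, ← Subgroup.orderOf_coe]
    exact h
  have := mem_zpowers_of_orderOf_dvd_aux (⟨u, hu⟩ : Subgroup.zpowers w) ⟨v, hv⟩ h'
  obtain ⟨i, hi⟩ := Subgroup.mem_zpowers_iff.mp this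
  rw [Subgroup.mem_zpowers_iff]
  refine ⟨i, ?_⟩
  have := congrArg Subtype.val hi
  simpa using this

variable [Finite G] {S : Subgroup G} {m : ℕ} {α β : G} {K : Subgroup G}

/-- (a): `D ≤ ⟨y⟩` for `y ∈ C` of order divisible by `|D|`. -/
theorem ti_a (h : QData S m α β) (hK : Local S α K) (hm : ∃ k, m = 2 ^ (k + 2)) {y : G}
    (hy : y ∈ Subgroup.centralizer (Subgroup.zpowers (α ^ 2) : Set G)) (hdvd : m ∣ orderOf y) :
    α ^ 2 ∈ Subgroup.zpowers y := by
  obtain ⟨k, rfl⟩ := hm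
  have hmpos : 0 < 2 ^ (k + 2) := by positivity
  obtain ⟨a, r, hr, hor⟩ := Nat.exists_eq_two_pow_mul_odd (orderOf_pos y).ne'
  have hrpos : 0 < r := hr.pos
  have hy' : y ^ r ∈ Subgroup.centralizer (Subgroup.zpowers (α ^ 2) : Set G) :=
    Subgroup.pow_mem _ hy r
  have hord : orderOf (y ^ r) = 2 ^ a := by
    rw [orderOf_pow' y hrpos.ne', hor, Nat.gcd_mul_left_left]
    exact Nat.mul_div_cancel _ hrpos
  have hma : 2 ^ (k + 2) ∣ 2 ^ a := by
    rw [hor] at hdvd
    exact (Nat.Coprime.pow_left _ (Nat.coprime_two_left.mpr hr)).dvd_of_dvd_mul_right hdvd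
  obtain ⟨c, hc, hz⟩ := hK.conj_mem (y ^ r) hy' ⟨a, hord⟩
  have hzord : orderOf (c * y ^ r * c⁻¹) = 2 ^ a := by
    have := orderOf_injective (MulAut.conj c).toMonoidHom (MulAut.conj c).injective (y ^ r)
    rw [← hord, ← this]
    rfl
  have hα2 : α ^ 2 ∈ Subgroup.zpowers α := Subgroup.pow_mem _ (Subgroup.mem_zpowers _) _
  have hmem : α ^ 2 ∈ Subgroup.zpowers (c * y ^ r * c⁻¹) := by
    apply mem_zpowers_of_orderOf_dvd hz hα2
    rw [h.orderOf_alpha_sq hmpos, hzord]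
    exact hma
  obtain ⟨i, hi⟩ := Subgroup.mem_zpowers_iff.mp hmem
  rw [conj_zpow] at hi
  -- c commutes with α^2
  have hcomm : α ^ 2 * c = c * α ^ 2 :=
    (Subgroup.mem_centralizer_iff.mp hc) (α ^ 2) (Subgroup.mem_zpowers _)
  have hfin : (y ^ r) ^ i = α ^ 2 := by
    have : (y ^ r) ^ i = c⁻¹ * (c * (y ^ r) ^ i * c⁻¹) * c := by group
    rw [this, hi, mul_assoc, hcomm]
    group
  rw [← hfin, ← zpow_natCast y r, ← zpow_mul]
  exact Subgroup.zpow_mem _ (Subgroup.mem_zpowers _) _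

/-- (b): the T.I. property. -/
theorem ti_b (h : QData S m α β) (hK : Local S α K) (hm : ∃ k, m = 2 ^ (k + 2)) {g y : G}
    (hy : y ∈ Subgroup.centralizer (Subgroup.zpowers (α ^ 2) : Set G)) (hdvd : m ∣ orderOf y)
    (hgy : g * y * g⁻¹ ∈ Subgroup.centralizer (Subgroup.zpowers (α ^ 2) : Set G)) :
    g ∈ Subgroup.normalizer (Subgroup.zpowers (α ^ 2) : Set G) := by
  have hord : orderOf (g * y * g⁻¹) = orderOf y := by
    have := orderOf_injective (MulAut.conj g).toMonoidHom (MulAut.conj g).injective y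
    rw [← this]
    rfl
  have h1 := ti_a h hK hm hy hdvd
  have h2 := ti_a h hK hm hgy (by rw [hord]; exact hdvd)
  -- g α² g⁻¹ ∈ ⟨g y g⁻¹⟩
  have h3 : g * α ^ 2 * g⁻¹ ∈ Subgroup.zpowers (g * y * g⁻¹) := by
    obtain ⟨i, hi⟩ := Subgroup.mem_zpowers_iff.mp h1
    rw [← hi, ← conj_zpow]
    exact Subgroup.zpow_mem _ (Subgroup.mem_zpowers _) _
  have hord2 : orderOf (g * α ^ 2 * g⁻¹) = orderOf (α ^ 2) := by
    have := orderOf_injective (MulAut.conj g).toMonoidHom (MulAut.conj g).injective (α ^ 2)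
    rw [← this]
    rfl
  have h4 : g * α ^ 2 * g⁻¹ ∈ Subgroup.zpowers (α ^ 2) :=
    mem_zpowers_of_orderOf_dvd h2 h3 (by rw [hord2])
  apply Subgroup.mem_normalizer_fintype
  intro d hd
  obtain ⟨i, rfl⟩ := Subgroup.mem_zpowers_iff.mp hd
  show g * (α ^ 2) ^ i * g⁻¹ ∈ Subgroup.zpowers (α ^ 2)
  rw [← conj_zpow]
  exact Subgroup.zpow_mem _ h4 _

/-- (c): the normalizer of `D` permutes these elements. -/
theorem ti_c {g y : G}
    (hg : g ∈ Subgroup.normalizer (Subgroup.zpowers (α ^ 2) : Set G))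
    (hy : y ∈ Subgroup.centralizer (Subgroup.zpowers (α ^ 2) : Set G)) :
    g * y * g⁻¹ ∈ Subgroup.centralizer (Subgroup.zpowers (α ^ 2) : Set G) ∧
      orderOf (g * y * g⁻¹) = orderOf y := by
  refine ⟨?_, ?_⟩
  · have := Cfsg.Agent.Lib.Helper2.normalizer_le_normalizer_centralizer (Subgroup.zpowers (α ^ 2)) hg
    exact (Subgroup.mem_normalizer_iff.mp this y).mp hy
  · have := orderOf_injective (MulAut.conj g).toMonoidHom (MulAut.conj g).injective y
    rw [← this]
    rfl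

end Cfsg.Agent.Lib.Helper2.QuatSylow
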