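import Mathlib
import Cfsg.Agent.Lib.Helper2.QuatSylow3

set_option autoImplicit false

/-!
# The linear character `ν` of order 4 of `C = C_G(D)`
-/

namespace Cfsg.Agent.Lib.Helper2.QuatSylow

open Cfsg.Agent.Lib.Helper2

variable {G : Type*} [Group G] [Finite G] {S : Subgroup G} {m : ℕ} {α β : G} {K : Subgroup G}

/-- The unit `i`. -/
noncomputable def Iunit : ℂˣ := Units.mk0 Complex.I Complex.I_ne_zero

theorem Iunit_sq : Iunit ^ 2 = -1 := by
  apply Units.ext
  simp [Iunit]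

theorem Iunit_pow_four : Iunit ^ 4 = 1 := by
  have : Iunit ^ 4 = (Iunit ^ 2) ^ 2 := by rw [← pow_mul]
  rw [this, Iunit_sq]
  norm_num

theorem alpha_mem_C : α ∈ Subgroup.centralizer (Subgroup.zpowers (α ^ 2) : Set G) := by
  rw [Subgroup.mem_centralizer_iff]
  intro z hz
  obtain ⟨j, rfl⟩ := Subgroup.mem_zpowers_iff.mp hz
  group

/-- The properties of the linear character `ν`. -/
structure NuSpec (α : G) (K : Subgroup G) (m : ℕ)
    (ν : ↥(Subgroup.centralizer (Subgroup.zpowers (α ^ 2) : Set G)) →* ℂˣ) : Prop where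
  pow_four : ∀ c, ν c ^ 4 = 1
  alpha_sq : ν ⟨α, alpha_mem_C⟩ ^ 2 = -1
  ker : ∀ c : ↥(Subgroup.centralizer (Subgroup.zpowers (α ^ 2) : Set G)), (c : G) ∈ K → ν c = 1
  dvd : ∀ c : ↥(Subgroup.centralizer (Subgroup.zpowers (α ^ 2) : Set G)), ν c ≠ 1 →
    m ∣ orderOf (c : G)

theorem exists_nu (h : QData S m α β) (hK : Local S α K) (hm : ∃ k, m = 2 ^ (k + 2)) :
    ∃ ν : ↥(Subgroup.centralizer (Subgroup.zpowers (α ^ 2) : Set G)) →* ℂˣ, NuSpec α K m ν := by
  classical
  obtain ⟨k, rfl⟩ := hm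
  set C := Subgroup.centralizer (Subgroup.zpowers (α ^ 2) : Set G) with hC
  set KC : Subgroup C := K.subgroupOf C with hKC
  set AC : Subgroup C := (Subgroup.zpowers α).subgroupOf C with hAC
  have hAleC : Subgroup.zpowers α ≤ C := le_sup_right.trans hK.sup_A.le
  have hCN : C ≤ Subgroup.normalizer (Subgroup.zpowers (α ^ 2) : Set G) :=
    Subgroup.centralizer_le_normalizer _
  haveI hKCn : KC.Normal := Subgroup.normal_subgroupOf_of_le_normalizer (hCN.trans hK.norm)
  -- complement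
  have hdisj : Disjoint AC KC := by
    rw [disjoint_iff, eq_bot_iff]
    intro x hx
    obtain ⟨hxA, hxK⟩ := Subgroup.mem_inf.mp hx
    have hx1 : (x : G) ∈ K ⊓ Subgroup.zpowers α := Subgroup.mem_inf.mpr ⟨hxK, hxA⟩
    rw [hK.inf_A, Subgroup.mem_bot] at hx1
    rw [Subgroup.mem_bot]
    exact Subtype.ext hx1
  have hsup : AC ⊔ KC = ⊤ := by
    rw [hAC, hKC, ← Subgroup.subgroupOf_sup hAleC hK.le_C, sup_comm, hK.sup_A]
    exact Subgroup.subgroupOf_self _
  have hcompl : Subgroup.IsComplement' AC KC := by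
    apply Subgroup.isComplement'_of_disjoint_and_mul_eq_univ hdisj
    rw [← Subgroup.mul_normal, hsup]
    rfl
  set π : C →* AC := (hcompl.QuotientMulEquiv.toMonoidHom).comp (QuotientGroup.mk' KC) with hπ
  have hπK : ∀ c : C, (c : G) ∈ K → π c = 1 := by
    intro c hc
    have : (QuotientGroup.mk' KC) c = 1 := by
      rw [QuotientGroup.mk'_apply, QuotientGroup.eq_one_iff]
      exact hc
    rw [hπ, MonoidHom.comp_apply, this, map_one]
  have hπA : ∀ a : AC, π (a : C) = a := by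
    intro a
    rw [hπ, MonoidHom.comp_apply]
    show hcompl.QuotientMulEquiv (QuotientGroup.mk (a : C)) = a
    rw [← MulEquiv.eq_symm_apply]
    rfl
  -- generator of AC
  set a₀ : AC := ⟨⟨α, alpha_mem_C⟩, Subgroup.mem_zpowers α⟩ with ha₀
  have hgen : ∀ x : AC, x ∈ Subgroup.zpowers a₀ := by
    intro x
    have hx : ((x : C) : G) ∈ Subgroup.zpowers α := x.2
    obtain ⟨i, hi⟩ := Subgroup.mem_zpowers_iff.mp hx
    rw [Subgroup.mem_zpowers_iff]
    refine ⟨i, ?_⟩
    apply Subtype.ext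
    apply Subtype.ext
    rw [Subgroup.coe_zpow, Subgroup.coe_zpow]
    exact hi
  have horda₀ : orderOf a₀ = 2 ^ (k + 3) := by
    rw [← Subgroup.orderOf_coe, ← Subgroup.orderOf_coe]
    show orderOf α = _
    rw [h.ord]; ring
  have hdvd4 : orderOf Iunit ∣ orderOf a₀ := by
    rw [horda₀]
    refine (orderOf_dvd_of_pow_eq_one Iunit_pow_four).trans ?_
    exact pow_dvd_pow 2 (by omega : 2 ≤ k + 3)
  set μ : AC →* ℂˣ := monoidHomOfForallMemZpowers hgen hdvd4 with hμ
  have hμa₀ : μ a₀ = Iunit := monoidHomOfForallMemZpowers_apply_gen hgen hdvd4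
  have hμ4 : ∀ x : AC, μ x ^ 4 = 1 := by
    intro x
    obtain ⟨i, rfl⟩ := Subgroup.mem_zpowers_iff.mp (hgen x)
    rw [map_zpow, hμa₀, ← zpow_natCast, ← zpow_mul, mul_comm, zpow_mul, zpow_natCast,
      Iunit_pow_four, one_zpow]
  -- kernel of μ
  have hμker : ∀ x : AC, x ^ (2 ^ (k + 1)) = 1 → μ x = 1 := by
    intro x hx
    have hxmem := hgen x
    rw [← (isOfFinOrder_of_finite a₀).mem_powers_iff_mem_zpowers, Submonoid.mem_powers_iff] at hxmem
    obtain ⟨i, rfl⟩ := hxmem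
    rw [← pow_mul] at hx
    have h1 := orderOf_dvd_of_pow_eq_one hx
    rw [horda₀] at h1
    have h2 : 4 ∣ i := by
      have e1 : 2 ^ (k + 3) = 2 ^ (k + 1) * 4 := by ring
      rw [e1, mul_comm i] at h1
      exact Nat.dvd_of_mul_dvd_mul_left (by positivity) h1
    obtain ⟨j, rfl⟩ := h2
    rw [map_pow, hμa₀, pow_mul, Iunit_pow_four, one_pow]
  refine ⟨μ.comp π, ⟨?_, ?_, ?_, ?_⟩⟩
  · intro c
    rw [MonoidHom.comp_apply]
    exact hμ4 _
  · have : π ⟨α, alpha_mem_C⟩ = a₀ := hπA a₀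
    rw [MonoidHom.comp_apply, this, hμa₀, Iunit_sq]
  · intro c hc
    rw [MonoidHom.comp_apply, hπK c hc, map_one]
  · intro c hc
    rw [MonoidHom.comp_apply] at hc
    -- order of π c
    have h1 : orderOf (π c) ∣ orderOf (c : G) := by
      rw [Subgroup.orderOf_coe]
      exact orderOf_map_dvd π c
    refine Dvd.dvd.trans ?_ h1
    have h2 : orderOf (π c) ∣ 2 ^ (k + 3) := by
      rw [← horda₀]
      have := orderOf_dvd_natCard (π c)
      have hcard : Nat.card AC = orderOf a₀ := by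
        rw [← Nat.card_zpowers a₀]
        have : Subgroup.zpowers a₀ = ⊤ := by
          rw [eq_top_iff]; intro x _; exact hgen x
        rw [this]
        exact (Nat.card_congr Subgroup.topEquiv.toEquiv).symm
      rwa [hcard] at this
    obtain ⟨j, hj, hjeq⟩ := (Nat.dvd_prime_pow Nat.prime_two).mp h2
    rw [hjeq]
    apply pow_dvd_pow
    by_contra hlt
    push Not at hlt
    apply hc
    apply hμker
    have : orderOf (π c) ∣ 2 ^ (k + 1) := by
      rw [hjeq]; exact pow_dvd_pow 2 (by omega)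
    exact orderOf_dvd_iff_pow_eq_one.mp this

end Cfsg.Agent.Lib.Helper2.QuatSylow
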