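import Mathlib
import Cfsg.Agent.Lib.Helper2.QuatSylow4
import Cfsg.Agent.Lib.Helper1.IndFun
import Cfsg.Agent.Lib.Helper1.LinearChar
import Cfsg.Agent.Lib.Helper4.Characters
import Cfsg.Agent.Lib.Helper4.VirtualChar
import Cfsg.Agent.S0146
import Cfsg.Agent.S0148
import Cfsg.Agent.S0161
import Cfsg.Agent.S0170

set_option autoImplicit false

/-!
# The generalized character `Θ = (1_C - ν)^G`
-/

namespace Cfsg.Agent.Lib.Helper2.QuatSylow

open Cfsg Cfsg.Agent.Lib.Helper1 Cfsg.Agent.Lib.Helper4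
open scoped ComplexConjugate

variable {G : Type*} [Group G] {S : Subgroup G} {m : ℕ} {α β : G} {K : Subgroup G}

/-- Elements of `K ⊔ A` are products when `A` normalizes `K`. -/
theorem exists_mul_of_mem_sup {K A : Subgroup G} (hAK : A ≤ Subgroup.normalizer (K : Set G))
    {x : G} (hx : x ∈ K ⊔ A) : ∃ κ ∈ K, ∃ a ∈ A, x = κ * a := by
  let T : Subgroup G :=
    { carrier := {x | ∃ κ ∈ K, ∃ a ∈ A, x = κ * a}
      one_mem' := ⟨1, K.one_mem, 1, A.one_mem, by simp⟩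
      mul_mem' := by
        rintro _ _ ⟨κ, hκ, a, ha, rfl⟩ ⟨κ', hκ', a', ha', rfl⟩
        refine ⟨κ * (a * κ' * a⁻¹), K.mul_mem hκ ?_, a * a', A.mul_mem ha ha', by group⟩
        exact (Subgroup.mem_normalizer_iff.mp (hAK ha) κ').mp hκ'
      inv_mem' := by
        rintro _ ⟨κ, hκ, a, ha, rfl⟩
        refine ⟨a⁻¹ * κ⁻¹ * a⁻¹⁻¹, ?_, a⁻¹, A.inv_mem ha, by group⟩
        exact (Subgroup.mem_normalizer_iff.mp (hAK (A.inv_mem ha)) κ⁻¹).mp (K.inv_mem hκ) }
  have hle : K ⊔ A ≤ T := by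
    apply sup_le
    · intro κ hκ
      exact ⟨κ, hκ, 1, A.one_mem, by simp⟩
    · intro a ha
      exact ⟨1, K.one_mem, a, ha, by simp⟩
  exact hle hx

section Conj
variable [Finite G]
variable {ν : ↥(Subgroup.centralizer (Subgroup.zpowers (α ^ 2) : Set G)) →* ℂˣ}

theorem nu_conj_C (g : G) (hg : g ∈ Subgroup.centralizer (Subgroup.zpowers (α ^ 2) : Set G))
    (c : ↥(Subgroup.centralizer (Subgroup.zpowers (α ^ 2) : Set G)))
    (hmem : g * c * g⁻¹ ∈ Subgroup.centralizer (Subgroup.zpowers (α ^ 2) : Set G)) :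
    ν ⟨g * c * g⁻¹, hmem⟩ = ν c := by
  have : (⟨g * c * g⁻¹, hmem⟩ : ↥(Subgroup.centralizer (Subgroup.zpowers (α ^ 2) : Set G)))
      = ⟨g, hg⟩ * c * ⟨g, hg⟩⁻¹ := by
    apply Subtype.ext
    simp
  rw [this, map_mul, map_mul, map_inv, mul_comm (ν ⟨g, hg⟩), mul_assoc, mul_inv_cancel, mul_one]

theorem beta_notMem_C (h : QData S m α β) (hm : 2 < m) :
    β ∉ Subgroup.centralizer (Subgroup.zpowers (α ^ 2) : Set G) := by
  intro hβ
  have h1 : β ∈ S ⊓ Subgroup.centralizer (Subgroup.zpowers (α ^ 2) : Set G) :=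
    Subgroup.mem_inf.mpr ⟨h.hβ, hβ⟩
  rw [h.inf_centralizer hm] at h1
  obtain ⟨i, hi⟩ := Subgroup.mem_zpowers_iff.mp h1
  -- β commutes with α, so α = α⁻¹
  have h2 := h.conj
  rw [← hi] at h2
  have h3 : α ^ i * α * (α ^ i)⁻¹ = α := by group
  rw [h3] at h2
  have h4 : α ^ 2 = 1 := by
    rw [pow_two]
    nth_rw 1 [h2]
    exact inv_mul_cancel α
  have := orderOf_dvd_of_pow_eq_one h4
  rw [h.ord] at this
  have := Nat.le_of_dvd (by norm_num) this
  omega

theorem nu_conj_beta (h : QData S m α β) (hK : Local S α K) (hν : NuSpec α K m ν)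
    (c : ↥(Subgroup.centralizer (Subgroup.zpowers (α ^ 2) : Set G)))
    (hmem : β * c * β⁻¹ ∈ Subgroup.centralizer (Subgroup.zpowers (α ^ 2) : Set G)) :
    ν ⟨β * c * β⁻¹, hmem⟩ = (ν c)⁻¹ := by
  classical
  -- decompose c = κ a
  have hcmem : (c : G) ∈ K ⊔ Subgroup.zpowers α := by rw [hK.sup_A]; exact c.2
  have hCN : Subgroup.centralizer (Subgroup.zpowers (α ^ 2) : Set G) ≤ Subgroup.normalizer (Subgroup.zpowers (α ^ 2) : Set G) :=
    Subgroup.centralizer_le_normalizer _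
  have hAleC : Subgroup.zpowers α ≤ Subgroup.centralizer (Subgroup.zpowers (α ^ 2) : Set G) := le_sup_right.trans hK.sup_A.le
  -- use closure-induction free route: K ⊔ A = K * A as sets since A normalizes K
  have hAK : Subgroup.zpowers α ≤ Subgroup.normalizer (K : Set G) :=
    hAleC.trans (hCN.trans hK.norm)
  have hmul : ∃ κ ∈ K, ∃ a ∈ Subgroup.zpowers α, (c : G) = κ * a :=
    exists_mul_of_mem_sup hAK hcmem
  obtain ⟨κ, hκ, a, ha, hca⟩ := hmul
  obtain ⟨i, rfl⟩ := Subgroup.mem_zpowers_iff.mp ha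
  have hκC : κ ∈ Subgroup.centralizer (Subgroup.zpowers (α ^ 2) : Set G) := hK.le_C hκ
  have haC : α ^ i ∈ Subgroup.centralizer (Subgroup.zpowers (α ^ 2) : Set G) := hAleC (Subgroup.zpow_mem _ (Subgroup.mem_zpowers _) _)
  have hβN : β ∈ Subgroup.normalizer (K : Set G) :=
    hK.norm (hK.sup_S ▸ (le_sup_right : S ≤ K ⊔ S) h.hβ)
  have hκ' : β * κ * β⁻¹ ∈ K := (Subgroup.mem_normalizer_iff.mp hβN κ).mp hκ
  have hc_eq : c = ⟨κ, hκC⟩ * ⟨α ^ i, haC⟩ := Subtype.ext hca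
  have hconj_eq : (⟨β * c * β⁻¹, hmem⟩ : ↥(Subgroup.centralizer (Subgroup.zpowers (α ^ 2) : Set G)))
      = ⟨β * κ * β⁻¹, hK.le_C hκ'⟩ * ⟨α ^ (-i), hAleC (Subgroup.zpow_mem _ (Subgroup.mem_zpowers _) _)⟩ := by
    apply Subtype.ext
    show β * c * β⁻¹ = β * κ * β⁻¹ * α ^ (-i)
    rw [hca, ← h.conj_zpow' i]
    group
  rw [hconj_eq, hc_eq, map_mul, map_mul, hν.ker ⟨β * κ * β⁻¹, hK.le_C hκ'⟩ hκ', hν.ker ⟨κ, hκC⟩ hκ,
    one_mul, one_mul]
  have : (⟨α ^ (-i), hAleC (Subgroup.zpow_mem _ (Subgroup.mem_zpowers _) _)⟩ : ↥(Subgroup.centralizer (Subgroup.zpowers (α ^ 2) : Set G)))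
      = (⟨α ^ i, haC⟩ : ↥(Subgroup.centralizer (Subgroup.zpowers (α ^ 2) : Set G)))⁻¹ := by
    apply Subtype.ext
    simp
  rw [this, map_inv]

theorem nu_conj_N (h : QData S m α β) (hK : Local S α K) (hν : NuSpec α K m ν) (hm : 2 < m)
    {g : G} (hg : g ∈ Subgroup.normalizer (Subgroup.zpowers (α ^ 2) : Set G))
    (hgC : g ∉ Subgroup.centralizer (Subgroup.zpowers (α ^ 2) : Set G))
    (c : ↥(Subgroup.centralizer (Subgroup.zpowers (α ^ 2) : Set G)))
    (hmem : g * c * g⁻¹ ∈ Subgroup.centralizer (Subgroup.zpowers (α ^ 2) : Set G)) :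
    ν ⟨g * c * g⁻¹, hmem⟩ = (ν c)⁻¹ := by
  have hβN : β ∈ Subgroup.normalizer (Subgroup.zpowers (α ^ 2) : Set G) :=
    hK.sup_S ▸ (le_sup_right : S ≤ K ⊔ S) h.hβ
  have hβC := beta_notMem_C h hm
  -- β⁻¹ g ∈ C
  have hc₁ : β⁻¹ * g ∈ Subgroup.centralizer (Subgroup.zpowers (α ^ 2) : Set G) := by
    have h2 := Subgroup.mul_mem_iff_of_index_two hK.index
      (a := (⟨β⁻¹, Subgroup.inv_mem _ hβN⟩ : ↥(Subgroup.normalizer (Subgroup.zpowers (α ^ 2) : Set G))))
      (b := ⟨g, hg⟩)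
    have h3 : (⟨β⁻¹, Subgroup.inv_mem _ hβN⟩ * ⟨g, hg⟩ :
        ↥(Subgroup.normalizer (Subgroup.zpowers (α ^ 2) : Set G))) ∈
        (Subgroup.centralizer (Subgroup.zpowers (α ^ 2) : Set G)).subgroupOf
          (Subgroup.normalizer (Subgroup.zpowers (α ^ 2) : Set G)) := by
      rw [h2]
      constructor
      · intro h4
        exfalso
        apply hβC
        have h5 : β⁻¹ ∈ Subgroup.centralizer (Subgroup.zpowers (α ^ 2) : Set G) :=
          Subgroup.mem_subgroupOf.mp h4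
        simpa using Subgroup.inv_mem _ h5
      · intro h4
        exact absurd (Subgroup.mem_subgroupOf.mp h4) hgC
    exact Subgroup.mem_subgroupOf.mp h3
  have hNC := Cfsg.Agent.Lib.Helper2.normalizer_le_normalizer_centralizer (Subgroup.zpowers (α ^ 2))
  have hmem1 : (β⁻¹ * g) * c * (β⁻¹ * g)⁻¹ ∈
      Subgroup.centralizer (Subgroup.zpowers (α ^ 2) : Set G) :=
    Subgroup.mul_mem _ (Subgroup.mul_mem _ hc₁ c.2) (Subgroup.inv_mem _ hc₁)
  have e1 : g * c * g⁻¹ = β * ((β⁻¹ * g) * c * (β⁻¹ * g)⁻¹) * β⁻¹ := by group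
  have hmem2 : β * ((⟨(β⁻¹ * g) * c * (β⁻¹ * g)⁻¹, hmem1⟩ :
      ↥(Subgroup.centralizer (Subgroup.zpowers (α ^ 2) : Set G))) : G) * β⁻¹ ∈
      Subgroup.centralizer (Subgroup.zpowers (α ^ 2) : Set G) := by
    show β * ((β⁻¹ * g) * c * (β⁻¹ * g)⁻¹) * β⁻¹ ∈ _
    rw [← e1]; exact hmem
  have e2 : (⟨g * c * g⁻¹, hmem⟩ : ↥(Subgroup.centralizer (Subgroup.zpowers (α ^ 2) : Set G)))
      = ⟨β * ((⟨(β⁻¹ * g) * c * (β⁻¹ * g)⁻¹, hmem1⟩ :
      ↥(Subgroup.centralizer (Subgroup.zpowers (α ^ 2) : Set G))) : G) * β⁻¹, hmem2⟩ :=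
    Subtype.ext e1
  rw [e2, nu_conj_beta h hK hν _ hmem2, nu_conj_C (β⁻¹ * g) hc₁ c hmem1]

end Conj

section Theta

variable [Fintype G]
variable {ν : ↥(Subgroup.centralizer (Subgroup.zpowers (α ^ 2) : Set G)) →* ℂˣ}

/-- The class function `1 - ν` on `C`. -/
noncomputable def fnu (ν : ↥(Subgroup.centralizer (Subgroup.zpowers (α ^ 2) : Set G)) →* ℂˣ) :
    ↥(Subgroup.centralizer (Subgroup.zpowers (α ^ 2) : Set G)) → ℂ :=
  fun c => 1 - (ν c : ℂ)

/-- `Θ = (1 - ν)^G`. -/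
noncomputable def Theta (ν : ↥(Subgroup.centralizer (Subgroup.zpowers (α ^ 2) : Set G)) →* ℂˣ) :
    G → ℂ :=
  Cfsg.indFun (Subgroup.centralizer (Subgroup.zpowers (α ^ 2) : Set G)) (fnu ν)

/-- A term of the induction sum vanishes unless the conjugate lies in `X`. -/
theorem ext_fnu_ne_zero (hν : NuSpec α K m ν) {x : G}
    (hx : Cfsg.extendByZero (Subgroup.centralizer (Subgroup.zpowers (α ^ 2) : Set G)) (fnu ν) x ≠ 0) :
    x ∈ Subgroup.centralizer (Subgroup.zpowers (α ^ 2) : Set G) ∧ m ∣ orderOf x := by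
  have hxC : x ∈ Subgroup.centralizer (Subgroup.zpowers (α ^ 2) : Set G) := by
    by_contra hn
    exact hx (extendByZero_of_notMem _ _ hn)
  refine ⟨hxC, ?_⟩
  rw [extendByZero_of_mem _ _ hxC] at hx
  apply hν.dvd ⟨x, hxC⟩
  intro h1
  apply hx
  simp [fnu, h1]

/-- `Θ` vanishes on elements whose order is not divisible by `m`. -/
theorem Theta_eq_zero (hν : NuSpec α K m ν) {g : G} (hg : ¬ m ∣ orderOf g) : Theta ν g = 0 := by
  unfold Theta
  rw [indFun_apply]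
  have : ∀ x : G, Cfsg.extendByZero (Subgroup.centralizer (Subgroup.zpowers (α ^ 2) : Set G))
      (fnu ν) (x⁻¹ * g * x) = 0 := by
    intro x
    by_contra hne
    obtain ⟨_, hdvd⟩ := ext_fnu_ne_zero hν hne
    apply hg
    have hord : orderOf (x⁻¹ * g * x) = orderOf g := by
      have := orderOf_injective (MulAut.conj x⁻¹).toMonoidHom (MulAut.conj x⁻¹).injective g
      rw [← this]
      simp [MulAut.conj_apply]
    rwa [hord] at hdvd
  simp [this]

/-- The value of `Θ` on `C`. -/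
theorem Theta_apply_C (h : QData S m α β) (hK : Local S α K) (hν : NuSpec α K m ν)
    (hm : ∃ k, m = 2 ^ (k + 2))
    (c : ↥(Subgroup.centralizer (Subgroup.zpowers (α ^ 2) : Set G))) :
    Theta ν (c : G) = (1 - (ν c : ℂ)) + (1 - ((ν c)⁻¹ : ℂˣ)) := by
  classical
  have hm2 : 2 < m := by
    obtain ⟨k, rfl⟩ := hm
    have : 2 ^ 2 ≤ 2 ^ (k + 2) := Nat.pow_le_pow_right (by norm_num) (by omega)
    omega
  have hCN : Subgroup.centralizer (Subgroup.zpowers (α ^ 2) : Set G) ≤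
      Subgroup.normalizer (Subgroup.zpowers (α ^ 2) : Set G) := Subgroup.centralizer_le_normalizer _
  have hNC := Cfsg.Agent.Lib.Helper2.normalizer_le_normalizer_centralizer (Subgroup.zpowers (α ^ 2))
  unfold Theta
  rw [indFun_apply]
  have hterm : ∀ g : G, Cfsg.extendByZero (Subgroup.centralizer (Subgroup.zpowers (α ^ 2) : Set G))
      (fnu ν) (g⁻¹ * c * g) =
      (if g ∈ Subgroup.centralizer (Subgroup.zpowers (α ^ 2) : Set G) then
        ((1 - (ν c : ℂ)) - (1 - ((ν c)⁻¹ : ℂˣ))) else 0) +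
      (if g ∈ Subgroup.normalizer (Subgroup.zpowers (α ^ 2) : Set G) then
        (1 - (((ν c)⁻¹ : ℂˣ) : ℂ)) else 0) := by
    intro g
    by_cases hgN : g ∈ Subgroup.normalizer (Subgroup.zpowers (α ^ 2) : Set G)
    · have hginv : g⁻¹ ∈ Subgroup.normalizer (Subgroup.zpowers (α ^ 2) : Set G) :=
        Subgroup.inv_mem _ hgN
      have hmem : g⁻¹ * c * g⁻¹⁻¹ ∈ Subgroup.centralizer (Subgroup.zpowers (α ^ 2) : Set G) :=
        (Subgroup.mem_normalizer_iff.mp (hNC hginv) c).mp c.2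
      have e0 : g⁻¹ * (c : G) * g = g⁻¹ * c * g⁻¹⁻¹ := by rw [inv_inv]
      rw [e0, extendByZero_of_mem _ _ hmem, if_pos hgN]
      by_cases hgC : g ∈ Subgroup.centralizer (Subgroup.zpowers (α ^ 2) : Set G)
      · rw [if_pos hgC]
        unfold fnu
        rw [nu_conj_C g⁻¹ (Subgroup.inv_mem _ hgC) c hmem]
        ring
      · rw [if_neg hgC, zero_add]
        unfold fnu
        have hgC' : g⁻¹ ∉ Subgroup.centralizer (Subgroup.zpowers (α ^ 2) : Set G) := by
          intro h1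
          apply hgC
          simpa using Subgroup.inv_mem _ h1
        rw [nu_conj_N h hK hν hm2 hginv hgC' c hmem]
    · have hgC : g ∉ Subgroup.centralizer (Subgroup.zpowers (α ^ 2) : Set G) := fun h1 => hgN (hCN h1)
      rw [if_neg hgN, if_neg hgC, add_zero]
      by_contra hne
      obtain ⟨hxC, hdvd⟩ := ext_fnu_ne_zero hν hne
      apply hgN
      apply ti_b h hK hm hxC hdvd
      have : g * (g⁻¹ * (c : G) * g) * g⁻¹ = c := by group
      rw [this]
      exact c.2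
  rw [Finset.sum_congr rfl fun g _ => hterm g, Finset.sum_add_distrib, Finset.sum_ite,
    Finset.sum_ite, Finset.sum_const_zero, Finset.sum_const_zero, add_zero, add_zero,
    Finset.sum_const, Finset.sum_const, nsmul_eq_mul, nsmul_eq_mul]
  have hcardC : (Finset.univ.filter fun g : G =>
      g ∈ Subgroup.centralizer (Subgroup.zpowers (α ^ 2) : Set G)).card =
      Nat.card (Subgroup.centralizer (Subgroup.zpowers (α ^ 2) : Set G)) := by
    rw [Nat.card_eq_fintype_card, Fintype.card_subtype]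
  have hcardN : (Finset.univ.filter fun g : G =>
      g ∈ Subgroup.normalizer (Subgroup.zpowers (α ^ 2) : Set G)).card =
      Nat.card (Subgroup.normalizer (Subgroup.zpowers (α ^ 2) : Set G)) := by
    rw [Nat.card_eq_fintype_card, Fintype.card_subtype]
  have hNC2 : Nat.card (Subgroup.normalizer (Subgroup.zpowers (α ^ 2) : Set G)) =
      Nat.card (Subgroup.centralizer (Subgroup.zpowers (α ^ 2) : Set G)) * 2 := by
    have := Subgroup.card_mul_index ((Subgroup.centralizer (Subgroup.zpowers (α ^ 2) : Set G)).subgroupOf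
      (Subgroup.normalizer (Subgroup.zpowers (α ^ 2) : Set G)))
    rw [hK.index, Cfsg.Agent.Lib.Helper2.card_subgroupOf_of_le hCN] at this
    exact this.symm
  rw [hcardC, hcardN, hNC2]
  have hC0 : (Nat.card (Subgroup.centralizer (Subgroup.zpowers (α ^ 2) : Set G)) : ℂ) ≠ 0 :=
    Nat.cast_ne_zero.mpr Nat.card_pos.ne'
  push_cast
  field_simp
  ring

end Theta

end Cfsg.Agent.Lib.Helper2.QuatSylow
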