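import Mathlib
import Cfsg.Agent.Lib.Helper2.QuatSylow5
import Cfsg.Agent.Lib.Helper1.CharFound3

set_option autoImplicit false

/-!
# The exceptional characters of a group with generalized quaternion Sylow 2-subgroups
-/

namespace Cfsg.Agent.Lib.Helper2.QuatSylow

open Cfsg Cfsg.Agent.Lib.Helper1 Cfsg.Agent.Lib.Helper4
open scoped ComplexConjugate

variable {G : Type*} [Group G] [Fintype G] {S : Subgroup G} {m : ℕ} {α β : G} {K : Subgroup G}
variable {ν : ↥(Subgroup.centralizer (Subgroup.zpowers (α ^ 2) : Set G)) →* ℂˣ}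

theorem fnu_eq (ν : ↥(Subgroup.centralizer (Subgroup.zpowers (α ^ 2) : Set G)) →* ℂˣ) :
    fnu ν = (fun _ => (1 : ℂ)) - (fun c => (ν c : ℂ)) := rfl

theorem Theta_isGenChar (ν : ↥(Subgroup.centralizer (Subgroup.zpowers (α ^ 2) : Set G)) →* ℂˣ) :
    Cfsg.IsGeneralizedCharacter G (Theta ν) := by
  unfold Theta
  rw [fnu_eq, Cfsg.Agent.S0170.indFun_sub]
  exact isGenChar_sub
    (isGenChar_of_isCharacter (Cfsg.Agent.S0148.result _ _
      (isCharacter_of_irr Cfsg.Agent.S0161.isIrrCharacter_one)))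
    (isGenChar_of_isCharacter (Cfsg.Agent.S0148.result _ _
      (isCharacter_of_irr (isIrrCharacter_of_hom ν))))

theorem Theta_one (ν : ↥(Subgroup.centralizer (Subgroup.zpowers (α ^ 2) : Set G)) →* ℂˣ) :
    Theta ν 1 = 0 := by
  unfold Theta
  rw [Cfsg.Agent.S0170.indFun_one]
  simp [fnu]

theorem nu_alpha_ne (hν : NuSpec α K m ν) :
    ((ν ⟨α, alpha_mem_C⟩ : ℂˣ) : ℂ) ^ 2 = -1 := by
  have := congrArg (fun u : ℂˣ => (u : ℂ)) hν.alpha_sq
  simpa using this

/-- The three linear characters `1, ν, ν⁻¹` are pairwise distinct. -/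
theorem three_distinct (hν : NuSpec α K m ν) :
    (fun _ => (1 : ℂ)) ≠ (fun c => (ν c : ℂ)) ∧ (fun _ => (1 : ℂ)) ≠ (fun c => ((ν⁻¹) c : ℂ)) ∧
      (fun c => (ν c : ℂ)) ≠ (fun c => ((ν⁻¹) c : ℂ)) := by
  have h2 := nu_alpha_ne hν
  refine ⟨?_, ?_, ?_⟩
  · intro h
    have := congrFun h ⟨α, alpha_mem_C⟩
    rw [← this] at h2
    norm_num at h2
  · intro h
    have := congrFun h ⟨α, alpha_mem_C⟩
    simp only [MonoidHom.inv_apply, Units.val_inv_eq_inv_val] at this
    have h3 : ((ν ⟨α, alpha_mem_C⟩ : ℂˣ) : ℂ) = 1 := by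
      have := inv_eq_one.mp this.symm
      exact this
    rw [h3] at h2
    norm_num at h2
  · intro h
    have := congrFun h ⟨α, alpha_mem_C⟩
    simp only [MonoidHom.inv_apply, Units.val_inv_eq_inv_val] at this
    have hne : ((ν ⟨α, alpha_mem_C⟩ : ℂˣ) : ℂ) ≠ 0 := Units.ne_zero _
    have h3 : ((ν ⟨α, alpha_mem_C⟩ : ℂˣ) : ℂ) ^ 2 = 1 := by
      rw [pow_two]
      nth_rw 2 [this]
      exact mul_inv_cancel₀ hne
    rw [h3] at h2
    norm_num at h2

theorem Theta_inner_one [Fintype ↥(Subgroup.centralizer (Subgroup.zpowers (α ^ 2) : Set G))]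
    (hν : NuSpec α K m ν) :
    Cfsg.classInner (Theta ν) (fun _ => (1 : ℂ)) = 1 := by
  unfold Theta
  rw [Cfsg.Agent.S0146.result _ _ _ (isClassFunction_irr Cfsg.Agent.S0161.isIrrCharacter_one),
    fnu_eq, classInner_sub_left]
  have h1 : Cfsg.classInner (fun _ : ↥(Subgroup.centralizer (Subgroup.zpowers (α ^ 2) : Set G)) => (1 : ℂ))
      (fun _ => (1 : ℂ)) = 1 := classInner_irr_self Cfsg.Agent.S0161.isIrrCharacter_one
  have h2 : Cfsg.classInner (fun c : ↥(Subgroup.centralizer (Subgroup.zpowers (α ^ 2) : Set G)) => (ν c : ℂ))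
      (fun _ => (1 : ℂ)) = 0 :=
    classInner_irr_ne (isIrrCharacter_of_hom ν) Cfsg.Agent.S0161.isIrrCharacter_one
      (three_distinct hν).1.symm
  rw [h1, h2, sub_zero]

theorem Theta_norm [Fintype ↥(Subgroup.centralizer (Subgroup.zpowers (α ^ 2) : Set G))]
    (h : QData S m α β) (hK : Local S α K) (hν : NuSpec α K m ν) (hm : ∃ k, m = 2 ^ (k + 2)) :
    Cfsg.classInner (Theta ν) (Theta ν) = 3 := by
  have hcf : Cfsg.IsClassFunction G (Theta ν) := isGenChar_isClassFunction (Theta_isGenChar ν)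
  have hres : (fun c : ↥(Subgroup.centralizer (Subgroup.zpowers (α ^ 2) : Set G)) => Theta ν (c : G))
      = (fun _ => (1 : ℂ)) + (fun _ => (1 : ℂ)) - (fun c => (ν c : ℂ)) - (fun c => ((ν⁻¹) c : ℂ)) := by
    funext c
    rw [Theta_apply_C h hK hν hm c]
    simp only [Pi.sub_apply, Pi.add_apply, MonoidHom.inv_apply]
    ring
  show Cfsg.classInner (Cfsg.indFun (Subgroup.centralizer (Subgroup.zpowers (α ^ 2) : Set G)) (fnu ν))
    (Theta ν) = 3
  rw [Cfsg.Agent.S0146.result _ _ _ hcf, hres, fnu_eq]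
  obtain ⟨d1, d2, d3⟩ := three_distinct hν
  have i1 := Cfsg.Agent.S0161.isIrrCharacter_one
    (G := ↥(Subgroup.centralizer (Subgroup.zpowers (α ^ 2) : Set G)))
  have i2 := isIrrCharacter_of_hom ν
  have i3 := isIrrCharacter_of_hom ν⁻¹
  simp only [classInner_sub_left, classInner_sub_right, classInner_add_right]
  rw [classInner_irr_self i1, classInner_irr_self i2, classInner_irr_ne i1 i2 d1,
    classInner_irr_ne i1 i3 d2, classInner_irr_ne i2 i1 d1.symm, classInner_irr_ne i2 i3 d3]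
  norm_num

/-- The exceptional characters. -/
theorem exists_exceptional (S : Sylow 2 G) (h : QData (S : Subgroup G) m α β)
    (hm : ∃ k, m = 2 ^ (k + 2)) :
    ∃ χ₁ χ₂ : G → ℂ, Cfsg.IsIrrCharacter G χ₁ ∧ Cfsg.IsIrrCharacter G χ₂ ∧
      χ₁ ≠ (fun _ => 1) ∧ χ₂ ≠ (fun _ => 1) ∧ χ₁ 1 = χ₂ 1 + 1 ∧
      (∀ g : G, ¬ m ∣ orderOf g → χ₁ g - χ₂ g = 1) ∧ χ₁ (α ^ 2) - χ₂ (α ^ 2) ≠ 1 := by
  classical
  haveI : Fintype ↥(Subgroup.centralizer (Subgroup.zpowers (α ^ 2) : Set G)) := Fintype.ofFinite _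
  obtain ⟨K, hK⟩ := exists_local S h hm
  obtain ⟨ν, hν⟩ := exists_nu h hK hm
  have hgen := Theta_isGenChar ν
  have h1G := Cfsg.Agent.S0161.isIrrCharacter_one (G := G)
  set Ξ : G → ℂ := Theta ν - (fun _ => (1 : ℂ)) with hΞ
  have hΞgen : Cfsg.IsGeneralizedCharacter G Ξ := isGenChar_sub hgen (isGenChar_of_irr h1G)
  have hin1 := Theta_inner_one hν
  have hin1' : Cfsg.classInner (fun _ : G => (1 : ℂ)) (Theta ν) = 1 := by
    rw [← classInner_conj_symm, hin1, map_one]
  have hΞnorm : Cfsg.classInner Ξ Ξ = 2 := by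
    rw [hΞ, classInner_sub_left, classInner_sub_right, classInner_sub_right,
      Theta_norm h hK hν hm, hin1, hin1', classInner_irr_self h1G]
    norm_num
  have hΞ1 : Cfsg.classInner Ξ (fun _ => (1 : ℂ)) = 0 := by
    rw [hΞ, classInner_sub_left, hin1, classInner_irr_self h1G, sub_self]
  have hΞval : Ξ 1 = -1 := by
    rw [hΞ, Pi.sub_apply, Theta_one]
    norm_num
  obtain ⟨ψ₁, ψ₂, hψ₁, hψ₂, hne, a₁, a₂, ha₁, ha₂, hΞeq⟩ := genChar_norm_two hΞgen hΞnorm
  obtain ⟨d₁, hd₁, e₁⟩ := irr_apply_one_pos hψ₁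
  obtain ⟨d₂, hd₂, e₂⟩ := irr_apply_one_pos hψ₂
  -- neither is principal
  have hψ₁ne : ψ₁ ≠ fun _ => 1 := by
    intro h1
    rw [hΞeq, classInner_add_left, classInner_smul_left, classInner_smul_left, h1,
      classInner_irr_self h1G, classInner_irr_ne hψ₂ h1G (fun h2 => hne (h1.trans h2.symm)),
      mul_one, mul_zero, add_zero] at hΞ1
    rcases ha₁ with rfl | rfl <;> norm_num at hΞ1
  have hψ₂ne : ψ₂ ≠ fun _ => 1 := by
    intro h1
    rw [hΞeq, classInner_add_left, classInner_smul_left, classInner_smul_left, h1,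
      classInner_irr_self h1G, classInner_irr_ne hψ₁ h1G (fun h2 => hne (h2.trans h1.symm)),
      mul_one, mul_zero, zero_add] at hΞ1
    rcases ha₂ with rfl | rfl <;> norm_num at hΞ1
  -- the value at one
  have hval : a₁ * d₁ + a₂ * d₂ = -1 := by
    have := congrFun hΞeq 1
    rw [hΞval, Pi.add_apply, Pi.smul_apply, Pi.smul_apply, e₁, e₂, smul_eq_mul, smul_eq_mul] at this
    exact this.symm
  -- Θ values
  have hΘval : ∀ g, Theta ν g = 1 + Ξ g := by
    intro g
    rw [hΞ, Pi.sub_apply]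
    ring
  have hzero : ∀ g : G, ¬ m ∣ orderOf g → Ξ g = -1 := by
    intro g hg
    have := Theta_eq_zero hν hg
    rw [hΘval] at this
    linear_combination this
  have hα2C : α ^ 2 ∈ Subgroup.centralizer (Subgroup.zpowers (α ^ 2) : Set G) :=
    Subgroup.pow_mem _ alpha_mem_C 2
  have hα2 : Ξ (α ^ 2) = 3 := by
    have h1 := Theta_apply_C h hK hν hm ⟨α ^ 2, hα2C⟩
    have h2 : ν ⟨α ^ 2, hα2C⟩ = -1 := by
      have : (⟨α ^ 2, hα2C⟩ : ↥(Subgroup.centralizer (Subgroup.zpowers (α ^ 2) : Set G)))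
          = ⟨α, alpha_mem_C⟩ ^ 2 := by
        apply Subtype.ext
        simp
      rw [this, map_pow, hν.alpha_sq]
    rw [h2] at h1
    have h3 : Theta ν (α ^ 2) = 4 := by
      have : ((⟨α ^ 2, hα2C⟩ : ↥(Subgroup.centralizer (Subgroup.zpowers (α ^ 2) : Set G))) : G)
          = α ^ 2 := rfl
      rw [this] at h1
      rw [h1]
      norm_num
    rw [hΘval] at h3
    linear_combination h3
  rcases ha₁ with rfl | rfl <;> rcases ha₂ with rfl | rfl
  · exfalso
    have : ((d₁ + d₂ + 1 : ℕ) : ℂ) = 0 := by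
      push_cast
      linear_combination hval
    have : d₁ + d₂ + 1 = 0 := by exact_mod_cast this
    omega
  · -- Ξ = ψ₁ - ψ₂ : χ₁ = ψ₂, χ₂ = ψ₁
    refine ⟨ψ₂, ψ₁, hψ₂, hψ₁, hψ₂ne, hψ₁ne, ?_, ?_, ?_⟩
    · rw [e₁, e₂]; linear_combination -hval
    · intro g hg
      have := hzero g hg
      rw [hΞeq] at this
      simp only [Pi.add_apply, Pi.smul_apply, smul_eq_mul] at this
      linear_combination -this
    · intro hcon
      have := hα2
      rw [hΞeq] at this
      simp only [Pi.add_apply, Pi.smul_apply, smul_eq_mul] at this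
      have h4 : (3 : ℂ) = -1 := by linear_combination -this - hcon
      norm_num at h4
  · refine ⟨ψ₁, ψ₂, hψ₁, hψ₂, hψ₁ne, hψ₂ne, ?_, ?_, ?_⟩
    · rw [e₁, e₂]; linear_combination -hval
    · intro g hg
      have := hzero g hg
      rw [hΞeq] at this
      simp only [Pi.add_apply, Pi.smul_apply, smul_eq_mul] at this
      linear_combination -this
    · intro hcon
      have := hα2
      rw [hΞeq] at this
      simp only [Pi.add_apply, Pi.smul_apply, smul_eq_mul] at this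
      have h4 : (3 : ℂ) = -1 := by linear_combination -this - hcon
      norm_num at h4
  · exfalso
    have : ((d₁ + d₂ : ℕ) : ℂ) = 1 := by
      push_cast
      linear_combination -hval
    have : d₁ + d₂ = 1 := by exact_mod_cast this
    omega

end Cfsg.Agent.Lib.Helper2.QuatSylow
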