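import Mathlib
import Cfsg.Agent.Lib.Helper2.QuatSylow6
import Cfsg.Agent.Lib.Helper8.ClassAlgebra
import Cfsg.Agent.Lib.Helper8.CharKernel

set_option autoImplicit false

/-!
# Brauer–Suzuki for generalized quaternion Sylow 2-subgroups of order at least 16:
the normal subgroup `M = ker χ₁ ⊓ ker χ₂`
-/

namespace Cfsg.Agent.Lib.Helper2.QuatSylow

open Cfsg Cfsg.Agent.Lib.Helper1 Cfsg.Agent.Lib.Helper4

variable {G : Type*} [Group G] [Finite G] {m : ℕ} {α β : G}

theorem orderOf_conj' (g x : G) : orderOf (g * x * g⁻¹) = orderOf x := by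
  have := orderOf_injective (MulAut.conj g).toMonoidHom (MulAut.conj g).injective x
  rw [← this]
  rfl

theorem orderOf_t (S : Subgroup G) (h : QData S m α β) (hm : 0 < m) : orderOf (α ^ m) = 2 := by
  rw [orderOf_pow' α hm.ne', h.ord, Nat.gcd_mul_left_left]
  exact Nat.mul_div_cancel 2 hm

/-- Every 2-subgroup is conjugate into `S`. -/
theorem exists_conj_le (S : Sylow 2 G) {V : Subgroup G} (hV : IsPGroup 2 V) :
    ∃ g : G, ∀ v ∈ V, g * v * g⁻¹ ∈ (S : Subgroup G) := by
  haveI : Fact (Nat.Prime 2) := ⟨Nat.prime_two⟩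
  obtain ⟨Q, hQ⟩ := hV.exists_le_sylow
  obtain ⟨g, hg⟩ := MulAction.exists_smul_eq G Q S
  refine ⟨g, fun v hv => ?_⟩
  have hvQ : v ∈ (Q : Subgroup G) := hQ hv
  rw [← hg, Sylow.smul_def, Sylow.pointwise_smul_def]
  have := Subgroup.smul_mem_pointwise_smul v (MulAut.conj g) (Q : Subgroup G) hvQ
  simpa [MulAut.smul_def] using this

/-- Every involution is conjugate to `t = α ^ m`. -/
theorem involution_conj (S : Sylow 2 G) (h : QData (S : Subgroup G) m α β) (hm : 0 < m) {u : G}
    (hu : orderOf u = 2) : ∃ g : G, g * u * g⁻¹ = α ^ m := by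
  have hV : IsPGroup 2 (Subgroup.zpowers u) := by
    apply IsPGroup.of_card (n := 1)
    rw [Nat.card_zpowers, hu, pow_one]
  obtain ⟨g, hg⟩ := exists_conj_le S hV
  refine ⟨g, ?_⟩
  apply h.involution_eq hm (hg u (Subgroup.mem_zpowers u))
  rw [orderOf_conj', hu]

/-- Commuting involutions are equal. -/
theorem commuting_involutions_eq (S : Sylow 2 G) (h : QData (S : Subgroup G) m α β) (hm : 0 < m)
    {u z : G} (hu : orderOf u = 2) (hz : orderOf z = 2) (hc : u * z = z * u) : u = z := by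
  have hVu : IsPGroup 2 (Subgroup.zpowers u) := by
    apply IsPGroup.of_card (n := 1)
    rw [Nat.card_zpowers, hu, pow_one]
  have hVz : IsPGroup 2 (Subgroup.zpowers z) := by
    apply IsPGroup.of_card (n := 1)
    rw [Nat.card_zpowers, hz, pow_one]
  have hnorm : Subgroup.zpowers u ≤ Subgroup.normalizer (Subgroup.zpowers z : Set G) := by
    rw [Subgroup.zpowers_le]
    apply Cfsg.Agent.Lib.Helper2.mem_normalizer_of_commute
    intro n hn
    obtain ⟨i, rfl⟩ := Subgroup.mem_zpowers_iff.mp hn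
    exact ((Commute.zpow_right (show Commute u z from hc) i)).eq
  have hV := IsPGroup.to_sup_of_normal_right' hVu hVz hnorm
  obtain ⟨g, hg⟩ := exists_conj_le S hV
  have h1 := h.involution_eq hm (hg u (le_sup_left (a := Subgroup.zpowers u) (Subgroup.mem_zpowers u)))
    (by rw [orderOf_conj', hu])
  have h2 := h.involution_eq hm (hg z (le_sup_right (b := Subgroup.zpowers z) (Subgroup.mem_zpowers z)))
    (by rw [orderOf_conj', hz])
  have : g * u * g⁻¹ = g * z * g⁻¹ := h1.trans h2.symm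
  exact mul_left_cancel (mul_right_cancel this)

/-- The product of two involutions has odd order. -/
theorem odd_orderOf_mul_involutions (S : Sylow 2 G) (h : QData (S : Subgroup G) m α β) (hm : 0 < m)
    {u v : G} (hu : orderOf u = 2) (hv : orderOf v = 2) : ¬ 2 ∣ orderOf (u * v) := by
  intro hdvd
  obtain ⟨j, hj⟩ := hdvd
  have hu2 : u * u = 1 := by
    have := pow_orderOf_eq_one u
    rwa [hu, pow_two] at this
  have hv2 : v * v = 1 := by
    have := pow_orderOf_eq_one v
    rwa [hv, pow_two] at this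
  have huinv : u⁻¹ = u := inv_eq_of_mul_eq_one_left hu2
  have hvinv : v⁻¹ = v := inv_eq_of_mul_eq_one_left hv2
  have hv1 : v ≠ 1 := by
    intro h1
    rw [h1, orderOf_one] at hv
    norm_num at hv
  set w := u * v with hw
  have hjpos : 0 < j := by
    rcases Nat.eq_zero_or_pos j with h0 | h0
    · exfalso
      rw [h0, mul_zero] at hj
      exact (orderOf_pos w).ne' hj
    · exact h0
  set z := w ^ j with hz
  have hzord : orderOf z = 2 := by
    rw [hz, orderOf_pow' w hjpos.ne', hj, Nat.gcd_mul_left_left]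
    exact Nat.mul_div_cancel 2 hjpos
  -- u inverts w
  have hconj : u * w * u⁻¹ = w⁻¹ := by
    rw [hw, huinv, mul_inv_rev, huinv, hvinv]
    calc u * (u * v) * u = (u * u) * v * u := by group
      _ = v * u := by rw [hu2, one_mul]
  have hconjz : u * z * u⁻¹ = z := by
    rw [hz, ← conj_pow, hconj, inv_pow]
    -- (w^j)⁻¹ = w^j since (w^j)^2 = 1
    have hz2 : z * z = 1 := by
      have := pow_orderOf_eq_one z
      rwa [hzord, pow_two] at this
    exact inv_eq_of_mul_eq_one_left hz2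
  have hcomm : u * z = z * u := by
    have : u * z = (u * z * u⁻¹) * u := by group
    rw [this, hconjz]
  have huz := commuting_involutions_eq S h hm hu hzord hcomm
  -- then u commutes with w
  have hcw : u * w = w * u := by
    rw [huz, hz]
    exact ((Commute.refl w).pow_left j).eq
  have hww : w = w⁻¹ := by
    have : u * w * u⁻¹ = w := by rw [hcw]; group
    exact this.symm.trans hconj
  have hw2 : w ^ 2 = 1 := by
    rw [pow_two]
    nth_rw 2 [hww]
    exact mul_inv_cancel w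
  have h2 := orderOf_dvd_of_pow_eq_one hw2
  rw [hj] at h2
  have hj1 : j = 1 := by
    have := Nat.le_of_dvd (by norm_num) h2
    omega
  rw [hj1, pow_one] at hz
  -- z = w = u v and z = u, so v = 1
  apply hv1
  have : u * v = u := by rw [← hw, ← hz, ← huz]
  exact mul_left_cancel (this.trans (mul_one u).symm)

/-- The normal subgroup `M`. -/
theorem exists_M (S : Sylow 2 G) (h : QData (S : Subgroup G) m α β)
    (hm : ∃ k, m = 2 ^ (k + 2)) :
    ∃ M : Subgroup G, M.Normal ∧ α ^ m ∈ M ∧ α ^ 2 ∉ M := by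
  classical
  haveI := Fintype.ofFinite G
  have hmpos : 0 < m := by
    obtain ⟨k, rfl⟩ := hm
    positivity
  have hm4 : 4 ≤ m := by
    obtain ⟨k, rfl⟩ := hm
    have : 2 ^ 2 ≤ 2 ^ (k + 2) := Nat.pow_le_pow_right (by norm_num) (by omega)
    omega
  have hmeven : 2 ∣ m := by
    obtain ⟨k, rfl⟩ := hm
    exact dvd_pow_self 2 (by omega)
  obtain ⟨χ₁, χ₂, hχ₁, hχ₂, -, -, hdeg, hvan, hα2⟩ := exists_exceptional S h hm
  set t := α ^ m with ht
  have htord : orderOf t = 2 := orderOf_t _ h hmpos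
  obtain ⟨d, hd, hd1⟩ := irr_apply_one_pos hχ₂
  have hd0 : (d : ℂ) ≠ 0 := Nat.cast_ne_zero.mpr hd.ne'
  have hd10 : (d : ℂ) + 1 ≠ 0 := by
    have : ((d + 1 : ℕ) : ℂ) ≠ 0 := Nat.cast_ne_zero.mpr (by omega)
    simpa using this
  -- χ₁ t = χ₂ t + 1
  have ht1 : χ₁ t - χ₂ t = 1 := by
    apply hvan
    rw [htord]
    intro hdvd
    have := Nat.le_of_dvd (by norm_num) hdvd
    omega
  -- the class sum
  have hsum : ∀ y : G, χ₁ (t * (y * t * y⁻¹)) - χ₂ (t * (y * t * y⁻¹)) = 1 := by
    intro y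
    apply hvan
    intro hdvd
    have hodd := odd_orderOf_mul_involutions S h hmpos htord
      (show orderOf (y * t * y⁻¹) = 2 by rw [orderOf_conj', htord])
    exact hodd (hmeven.trans hdvd)
  have hs1 := Cfsg.Agent.Lib.Helper8.sum_irr_mul_conj hχ₁ t t
  have hs2 := Cfsg.Agent.Lib.Helper8.sum_irr_mul_conj hχ₂ t t
  have hG0 : (Fintype.card G : ℂ) ≠ 0 := Nat.cast_ne_zero.mpr Fintype.card_ne_zero
  have hdiff : (Fintype.card G : ℂ) * χ₁ t * χ₁ t / χ₁ 1 - (Fintype.card G : ℂ) * χ₂ t * χ₂ t / χ₂ 1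
      = (Fintype.card G : ℂ) := by
    rw [← hs1, ← hs2, ← Finset.sum_sub_distrib, Finset.sum_congr rfl fun y _ => hsum y]
    simp
  set a := χ₂ t with ha
  have hχ₁t : χ₁ t = a + 1 := by linear_combination ht1
  rw [hχ₁t, hdeg, hd1] at hdiff
  have hkey : (a - d) ^ 2 = 0 := by
    field_simp at hdiff
    linear_combination -hdiff
  have had : a = d := by
    have := pow_eq_zero_iff (two_ne_zero) |>.mp hkey
    linear_combination this
  -- kernels
  obtain ⟨M₁, hM₁n, hM₁⟩ := Cfsg.Agent.Lib.Helper8.exists_normal_ker (isCharacter_of_irr hχ₁)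
  obtain ⟨M₂, hM₂n, hM₂⟩ := Cfsg.Agent.Lib.Helper8.exists_normal_ker (isCharacter_of_irr hχ₂)
  refine ⟨M₁ ⊓ M₂, inferInstance, ?_, ?_⟩
  · refine Subgroup.mem_inf.mpr ⟨?_, ?_⟩
    · rw [hM₁, hχ₁t, had, hdeg, hd1]
    · rw [hM₂, ← ha, had, hd1]
  · intro hmem
    obtain ⟨h1, h2⟩ := Subgroup.mem_inf.mp hmem
    rw [hM₁] at h1
    rw [hM₂] at h2
    apply hα2
    rw [h1, h2, hdeg]
    ring

end Cfsg.Agent.Lib.Helper2.QuatSylow
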