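import Mathlib

set_option autoImplicit false

namespace Cfsg.Agent.Lib.Helper2.TwoComplement

/-- A finite group with a cyclic Sylow 2-subgroup has a normal 2-complement consisting of all
elements of odd order. -/
theorem exists_odd_normal {H : Type*} [Group H] [Finite H] (P : Sylow 2 H)
    (hP : IsCyclic P) :
    ∃ N : Subgroup H, N.Normal ∧ Odd (Nat.card N) ∧ (∀ x : H, Odd (orderOf x) → x ∈ N) ∧
      Nat.card N * Nat.card P = Nat.card H := by
  classical
  haveI : Fact (Nat.Prime 2) := ⟨Nat.prime_two⟩
  by_cases hev : 2 ∣ Nat.card H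
  · have hmin : (Nat.card H).minFac = 2 := (Nat.minFac_eq_two_iff _).mpr hev
    have hNC := hP.normalizer_le_centralizer hmin
    refine ⟨(MonoidHom.transferSylow P hNC).ker, inferInstance, ?_, ?_, ?_⟩
    · have := MonoidHom.not_dvd_card_ker_transferSylow P hNC
      rw [← Nat.not_even_iff_odd, even_iff_two_dvd]
      exact this
    · intro x hx
      rw [MonoidHom.mem_ker]
      obtain ⟨k, hk⟩ := P.2 (MonoidHom.transferSylow P hNC x)
      have h1 : orderOf (MonoidHom.transferSylow P hNC x) ∣ 2 ^ k := orderOf_dvd_of_pow_eq_one hk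
      have h2 : orderOf (MonoidHom.transferSylow P hNC x) ∣ orderOf x := orderOf_map_dvd _ x
      have hcop : Nat.Coprime (orderOf x) (2 ^ k) := by
        apply Nat.Coprime.pow_right
        exact Nat.coprime_two_right.mpr hx
      have := Nat.eq_one_of_dvd_coprimes hcop h2 h1
      exact orderOf_eq_one_iff.mp this
    · exact (MonoidHom.ker_transferSylow_isComplement' P hNC).card_mul_card
  · have hodd : Odd (Nat.card H) := by
      rw [← Nat.not_even_iff_odd, even_iff_two_dvd]; exact hev
    have hP1 : Nat.card P = 1 := by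
      obtain ⟨k, hk⟩ := P.2.exists_card_eq
      have hdvd : Nat.card P ∣ Nat.card H := Subgroup.card_subgroup_dvd_card _
      rcases Nat.eq_zero_or_pos k with h0 | h0
      · rw [hk, h0, pow_zero]
      · exfalso
        apply hev
        refine dvd_trans ?_ hdvd
        rw [hk]
        exact dvd_pow_self 2 h0.ne'
    refine ⟨⊤, inferInstance, ?_, fun x _ => Subgroup.mem_top x, ?_⟩
    · rw [Subgroup.card_top]; exact hodd
    · rw [Subgroup.card_top, hP1, mul_one]

end Cfsg.Agent.Lib.Helper2.TwoComplement
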