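import Mathlib
import Cfsg.Agent.Lib.Helper2.QuatSylow7
import Cfsg.Agent.Lib.Helper2.TwoComplement

set_option autoImplicit false

/-!
# Brauer–Suzuki for generalized quaternion Sylow 2-subgroups of order at least 16:
the centre has order 2 when `O(G) = 1`.
-/

namespace Cfsg.Agent.Lib.Helper2.QuatSylow

variable {G : Type*} [Group G] [Finite G] {m : ℕ} {α β : G}

/-- A 2-subgroup of a normal subgroup `M` not containing `α ^ 2` is conjugate into `⟨α⟩`. -/
theorem exists_conj_le_zpowers (S : Sylow 2 G) (h : QData (S : Subgroup G) m α β)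
    {M : Subgroup G} (hMn : M.Normal) (hα2M : α ^ 2 ∉ M) {V : Subgroup G} (hV : IsPGroup 2 V)
    (hVM : V ≤ M) : ∃ g : G, ∀ v ∈ V, g * v * g⁻¹ ∈ Subgroup.zpowers α := by
  obtain ⟨g, hg⟩ := exists_conj_le S hV
  have hRle : (S : Subgroup G) ⊓ M ≤ Subgroup.zpowers α := by
    apply h.le_zpowers_of_normal inf_le_left
    · intro s hs
      apply Subgroup.mem_normalizer_fintype
      intro r hr
      have hr' : r ∈ (S : Subgroup G) ⊓ M := hr
      rw [Subgroup.mem_inf] at hr'
      show s * r * s⁻¹ ∈ (S : Subgroup G) ⊓ M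
      rw [Subgroup.mem_inf]
      exact ⟨Subgroup.mul_mem _ (Subgroup.mul_mem _ hs hr'.1) (Subgroup.inv_mem _ hs),
        hMn.conj_mem _ hr'.2 s⟩
    · intro hmem
      rw [Subgroup.mem_inf] at hmem
      exact hα2M hmem.2
  refine ⟨g, fun v hv => hRle ?_⟩
  rw [Subgroup.mem_inf]
  exact ⟨hg v hv, hMn.conj_mem _ (hVM hv) g⟩

/-- Sylow 2-subgroups of `M` are cyclic. -/
theorem isCyclic_sylow_of_normal (S : Sylow 2 G) (h : QData (S : Subgroup G) m α β)
    {M : Subgroup G} (hMn : M.Normal) (hα2M : α ^ 2 ∉ M) (P : Sylow 2 ↥M) : IsCyclic P := by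
  have hP2 : IsPGroup 2 ((P : Subgroup ↥M).map M.subtype) := P.isPGroup'.map _
  have hle : (P : Subgroup ↥M).map M.subtype ≤ M := by
    rintro _ ⟨x, _, rfl⟩
    exact x.2
  obtain ⟨g, hg⟩ := exists_conj_le_zpowers S h hMn hα2M hP2 hle
  have hmemz : ∀ q : ↥(P : Subgroup ↥M),
      ((MulAut.conj g).toMonoidHom.comp (M.subtype.comp (P : Subgroup ↥M).subtype)) q
        ∈ Subgroup.zpowers α := by
    intro q
    apply hg
    exact ⟨q.1, q.2, rfl⟩
  let φ := ((MulAut.conj g).toMonoidHom.comp
      (M.subtype.comp (P : Subgroup ↥M).subtype)).codRestrict (Subgroup.zpowers α) hmemz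
  have hφ : Function.Injective φ := by
    intro x y hxy
    have h1 : g * ((x : ↥M) : G) * g⁻¹ = g * ((y : ↥M) : G) * g⁻¹ :=
      congrArg Subtype.val hxy
    have h2 : ((x : ↥M) : G) = ((y : ↥M) : G) :=
      mul_left_cancel (mul_right_cancel h1)
    exact Subtype.ext (Subtype.ext h2)
  exact isCyclic_of_injective φ hφ

/-- If `O(G) = 1`, then `M` is a 2-group. -/
theorem isPGroup_of_normal (S : Sylow 2 G) (h : QData (S : Subgroup G) m α β)
    {M : Subgroup G} (hMn : M.Normal) (hα2M : α ^ 2 ∉ M)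
    (hO : ∀ N : Subgroup G, N.Normal → Odd (Nat.card N) → N = ⊥) : IsPGroup 2 M := by
  haveI : Fact (Nat.Prime 2) := ⟨Nat.prime_two⟩
  obtain ⟨P⟩ : Nonempty (Sylow 2 ↥M) := inferInstance
  have hcyc := isCyclic_sylow_of_normal S h hMn hα2M P
  obtain ⟨N, hNn, hNodd, hNmem, hNcard⟩ := TwoComplement.exists_odd_normal P hcyc
  have hcardmap : Nat.card (N.map M.subtype) = Nat.card N :=
    Subgroup.card_map_of_injective M.subtype_injective
  have hnormal : (N.map M.subtype).Normal := by
    constructor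
    rintro _ ⟨x, hx, rfl⟩ g
    have hmem : g * (x : G) * g⁻¹ ∈ M := hMn.conj_mem _ x.2 g
    refine ⟨⟨g * (x : G) * g⁻¹, hmem⟩, ?_, rfl⟩
    apply hNmem
    rw [← Subgroup.orderOf_coe]
    show Odd (orderOf (g * (x : G) * g⁻¹))
    rw [orderOf_conj', Subgroup.orderOf_coe]
    have h1 : orderOf (⟨x, hx⟩ : N) ∣ Nat.card N := orderOf_dvd_natCard _
    rw [← Subgroup.orderOf_coe] at h1
    exact Odd.of_dvd_nat hNodd h1
  have hbot := hO _ hnormal (by rw [hcardmap]; exact hNodd)
  have hN1 : Nat.card N = 1 := by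
    rw [← hcardmap, hbot, Subgroup.card_bot]
  rw [hN1, one_mul] at hNcard
  obtain ⟨k, hk⟩ := P.2.exists_card_eq
  apply IsPGroup.of_card (n := k)
  rw [← hNcard, hk]

/-- If `O(G) = 1`, then the centre of `G` is `⟨α ^ m⟩`. -/
theorem center_eq (S : Sylow 2 G) (h : QData (S : Subgroup G) m α β)
    (hm : ∃ k, m = 2 ^ (k + 2))
    (hO : ∀ N : Subgroup G, N.Normal → Odd (Nat.card N) → N = ⊥) :
    Subgroup.center G = Subgroup.zpowers (α ^ m) := by
  haveI : Fact (Nat.Prime 2) := ⟨Nat.prime_two⟩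
  have hmpos : 0 < m := by
    obtain ⟨k, rfl⟩ := hm
    positivity
  have hm4 : 4 ≤ m := by
    obtain ⟨k, rfl⟩ := hm
    calc 4 = 2 ^ 2 := by norm_num
      _ ≤ 2 ^ (k + 2) := Nat.pow_le_pow_right (by norm_num) (by omega)
  obtain ⟨M, hMn, htM, hα2M⟩ := exists_M S h hm
  have hM2 := isPGroup_of_normal S h hMn hα2M hO
  have ht2 := orderOf_t (S : Subgroup G) h hmpos
  -- normal 2-subgroups lie in S
  have hnormal_le : ∀ V : Subgroup G, IsPGroup 2 V → V.Normal → V ≤ (S : Subgroup G) := by
    intro V hV hVn v hv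
    obtain ⟨g, hg⟩ := exists_conj_le S hV
    have h1 := hg _ (hVn.conj_mem v hv g⁻¹)
    have h2 : g * (g⁻¹ * v * g⁻¹⁻¹) * g⁻¹ = v := by group
    rwa [h2] at h1
  have hMS := hnormal_le M hM2 hMn
  -- t is central
  have htc : α ^ m ∈ Subgroup.center G := by
    rw [Subgroup.mem_center_iff]
    intro g
    have h1 : g * α ^ m * g⁻¹ = α ^ m := by
      apply h.involution_eq hmpos (hMS (hMn.conj_mem _ htM g))
      rw [orderOf_conj', ht2]
    calc g * α ^ m = (g * α ^ m * g⁻¹) * g := by group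
      _ = α ^ m * g := by rw [h1]
  apply le_antisymm
  · intro z hz
    have hzc : ∀ g : G, g * z = z * g := Subgroup.mem_center_iff.mp hz
    -- z has 2-power order
    obtain ⟨a, b, hb, hab⟩ := Nat.exists_eq_two_pow_mul_odd (orderOf_pos z).ne'
    have hy : z ^ (2 ^ a) ∈ Subgroup.center G := Subgroup.pow_mem _ hz _
    have hyn : (Subgroup.zpowers (z ^ (2 ^ a))).Normal := by
      constructor
      intro n hn g
      have hnc : n ∈ Subgroup.center G := (Subgroup.zpowers_le.mpr hy) hn
      have : g * n * g⁻¹ = n := by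
        rw [Subgroup.mem_center_iff.mp hnc g]; group
      rw [this]; exact hn
    have hyodd : Odd (Nat.card (Subgroup.zpowers (z ^ (2 ^ a)))) := by
      rw [Nat.card_zpowers]
      apply Odd.of_dvd_nat hb
      apply orderOf_dvd_of_pow_eq_one
      rw [← pow_mul, ← hab, pow_orderOf_eq_one]
    have hybot := hO _ hyn hyodd
    have hy1 : z ^ (2 ^ a) = 1 := by
      have : z ^ (2 ^ a) ∈ Subgroup.zpowers (z ^ (2 ^ a)) := Subgroup.mem_zpowers _
      rw [hybot, Subgroup.mem_bot] at this
      exact this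
    have hz2 : IsPGroup 2 (Subgroup.zpowers z) := by
      obtain ⟨j, _, hj⟩ := (Nat.dvd_prime_pow Nat.prime_two).mp (orderOf_dvd_of_pow_eq_one hy1)
      apply IsPGroup.of_card (n := j)
      rw [Nat.card_zpowers, hj]
    have hzn : (Subgroup.zpowers z).Normal := by
      constructor
      intro n hn g
      have hnc : n ∈ Subgroup.center G := (Subgroup.zpowers_le.mpr hz) hn
      have : g * n * g⁻¹ = n := by
        rw [Subgroup.mem_center_iff.mp hnc g]; group
      rw [this]; exact hn
    have hzS : z ∈ (S : Subgroup G) := hnormal_le _ hz2 hzn (Subgroup.mem_zpowers z)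
    obtain ⟨k, hk | hk⟩ := h.cover' hzS
    · -- z = α^k commutes with β
      have h1 : β * z * β⁻¹ = z := by rw [hzc β]; group
      rw [hk, h.conj_zpow'] at h1
      have hzz : z * z = 1 := by
        rw [hk]
        nth_rw 1 [← h1]
        rw [← zpow_add]
        simp
      by_cases hz1 : z = 1
      · rw [hz1]; exact Subgroup.one_mem _
      · have hord : orderOf z = 2 := orderOf_eq_prime (by rw [pow_two]; exact hzz) hz1
        rw [h.involution_eq hmpos hzS hord]
        exact Subgroup.mem_zpowers _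
    · -- z = β α^k cannot commute with α
      exfalso
      have h1 : α * z * α⁻¹ = z := by rw [hzc α]; group
      rw [hk] at h1
      have h2 : α * β = β * α := by
        have e1 : α * (β * α ^ k) * α⁻¹ = (α * β * α⁻¹) * α ^ k := by group
        rw [e1] at h1
        have h3 := mul_right_cancel h1
        calc α * β = (α * β * α⁻¹) * α := by group
          _ = β * α := by rw [h3]
      have h4 : β * α * β⁻¹ = α := by rw [← h2]; group
      rw [h.conj] at h4
      have h5 : α ^ 2 = 1 := by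
        rw [pow_two]
        nth_rw 1 [← h4]
        exact inv_mul_cancel α
      have h6 := orderOf_dvd_of_pow_eq_one h5
      rw [h.ord] at h6
      have := Nat.le_of_dvd (by norm_num) h6
      omega
  · rw [Subgroup.zpowers_le]
    exact htc

theorem card_center (S : Sylow 2 G) (h : QData (S : Subgroup G) m α β)
    (hm : ∃ k, m = 2 ^ (k + 2))
    (hO : ∀ N : Subgroup G, N.Normal → Odd (Nat.card N) → N = ⊥) :
    Nat.card (Subgroup.center G) = 2 := by
  have hmpos : 0 < m := by
    obtain ⟨k, rfl⟩ := hm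
    positivity
  rw [center_eq S h hm hO, Nat.card_zpowers]
  exact orderOf_t (S : Subgroup G) h hmpos

end Cfsg.Agent.Lib.Helper2.QuatSylow
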