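import Mathlib

set_option autoImplicit false

namespace Cfsg.Agent.Lib.Helper2

namespace ExcIso

/-- two surjections with the same kernel have isomorphic targets -/
theorem nonempty_mulEquiv_of_ker_eq {G H₁ H₂ : Type*} [Group G] [Group H₁] [Group H₂]
    (φ₁ : G →* H₁) (φ₂ : G →* H₂) (h₁ : Function.Surjective φ₁) (h₂ : Function.Surjective φ₂)
    (hk : φ₁.ker = φ₂.ker) : Nonempty (H₁ ≃* H₂) :=
  ⟨(QuotientGroup.quotientKerEquivOfSurjective φ₁ h₁).symm.trans
    ((QuotientGroup.quotientMulEquivOfEq hk).trans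
      (QuotientGroup.quotientKerEquivOfSurjective φ₂ h₂))⟩

/-- a hom onto a subgroup `N`, and a surjection whose kernel is the preimage of the centre of the
image, identify `N / Z(N)` with the target of the surjection -/
theorem quotient_center_equiv {G O P : Type*} [Group G] [Group O] [Group P] (N : Subgroup O)
    (ρ : G →* O) (hρ : ρ.range = N) (π : G →* P) (hπ : Function.Surjective π)
    (hker : ∀ g : G, g ∈ π.ker ↔ ∀ h : G, ρ g * ρ h = ρ h * ρ g) :
    Nonempty ((↥N ⧸ Subgroup.center ↥N) ≃* P) := by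
  have hmem : ∀ g : G, ρ g ∈ N := fun g => by rw [← hρ]; exact ⟨g, rfl⟩
  let ρ' : G →* ↥N := ρ.codRestrict N hmem
  have hρ'surj : Function.Surjective ρ' := by
    rintro ⟨n, hn⟩
    rw [← hρ] at hn
    obtain ⟨g, rfl⟩ := hn
    exact ⟨g, rfl⟩
  let ψ : G →* (↥N ⧸ Subgroup.center ↥N) := (QuotientGroup.mk' (Subgroup.center ↥N)).comp ρ'
  have hψsurj : Function.Surjective ψ :=
    (QuotientGroup.mk'_surjective _).comp hρ'surj
  refine nonempty_mulEquiv_of_ker_eq ψ π hψsurj hπ ?_
  ext g
  rw [hker g, MonoidHom.mem_ker, MonoidHom.comp_apply, QuotientGroup.mk'_apply,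
    QuotientGroup.eq_one_iff, Subgroup.mem_center_iff]
  constructor
  · intro h k
    have := h (ρ' k)
    have h2 := congrArg Subtype.val this
    exact h2.symm
  · intro h n
    obtain ⟨k, rfl⟩ := hρ'surj n
    apply Subtype.ext
    exact (h k).symm

/-- a hom whose range lies in `N` is onto `N` as soon as the orders match -/
theorem range_eq_of_card {G O : Type*} [Group G] [Finite G] [Group O] (N : Subgroup O)
    (ρ : G →* O) (hle : ρ.range ≤ N)
    (hcard : Nat.card G = Nat.card ↥ρ.ker * Nat.card ↥N) : ρ.range = N := by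
  have h1 : Nat.card G = Nat.card ↥ρ.range * Nat.card ↥ρ.ker := by
    rw [Subgroup.card_eq_card_quotient_mul_card_subgroup ρ.ker,
      Nat.card_congr (QuotientGroup.quotientKerEquivRange ρ).toEquiv]
  have hpos : 0 < Nat.card ↥ρ.ker := Nat.card_pos
  have h2 : Nat.card ↥ρ.range = Nat.card ↥N := by
    rw [h1, mul_comm] at hcard
    exact Nat.eq_of_mul_eq_mul_left hpos hcard
  have hR : Finite ↥ρ.range := Finite.of_surjective ρ.rangeRestrict ρ.rangeRestrict_surjective
  have hN : Finite ↥N := by
    apply Nat.finite_of_card_ne_zero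
    rw [← h2]
    exact Nat.card_pos.ne'
  exact Subgroup.eq_of_le_of_card_ge hle (le_of_eq h2.symm)

end ExcIso

end Cfsg.Agent.Lib.Helper2
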