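import Mathlib
import Cfsg.Agent.Lib.Helper2.ExcIso
import Cfsg.Agent.Lib.Helper1.SLn

set_option autoImplicit false

namespace Cfsg.Agent.Lib.Helper2

namespace ExcIso

/-- fourth powers lie in a normal subgroup of index four -/
theorem pow_four_mem' {O : Type*} [Group O] (N : Subgroup O) [N.Normal] (h : N.index = 4) (x : O) :
    x ^ 4 ∈ N := by
  rw [← h]
  exact Subgroup.pow_index_mem N x

/-- a transvection in odd characteristic is a fourth power -/
theorem transvection_eq_pow_four' {F : Type*} [Field F] {ι : Type*} [DecidableEq ι] [Fintype ι]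
    (h2 : (2 : F) ≠ 0) {i j : ι} (hij : i ≠ j) (c : F) :
    Matrix.SpecialLinearGroup.transvection hij c =
      (Matrix.SpecialLinearGroup.transvection hij (c / 4)) ^ 4 := by
  have h4 : (4 : F) ≠ 0 := by
    have : (4 : F) = 2 * 2 := by norm_num
    rw [this]
    exact mul_ne_zero h2 h2
  have : c = c / 4 + c / 4 + c / 4 + c / 4 := by field_simp; ring
  conv_lhs => rw [this]
  rw [Matrix.SpecialLinearGroup.transvection_add, Matrix.SpecialLinearGroup.transvection_add,
    Matrix.SpecialLinearGroup.transvection_add]
  rw [pow_succ, pow_succ, pow_succ, pow_one]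

/-- in odd characteristic, any hom from `SL` to a group whose commutator subgroup has index four
lands in the commutator subgroup -/
theorem SL_map_mem_commutator {F : Type*} [Field F] {ι : Type*} [DecidableEq ι] [Fintype ι]
    [Nontrivial ι] (h2 : (2 : F) ≠ 0) {O : Type*} [Group O] (hidx : (commutator O).index = 4)
    (φ : Matrix.SpecialLinearGroup ι F →* O) (g : Matrix.SpecialLinearGroup ι F) :
    φ g ∈ commutator O := by
  have hH : (commutator O).comap φ = ⊤ := by
    apply Cfsg.Agent.Lib.Helper1.eq_top_of_transvection_mem
    intro i j hij c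
    rw [Subgroup.mem_comap, transvection_eq_pow_four' h2 hij c, map_pow]
    exact pow_four_mem' _ hidx _
  have : g ∈ (commutator O).comap φ := by rw [hH]; trivial
  exact this

/-- a hom from a perfect group lands in the commutator subgroup -/
theorem map_mem_commutator_of_perfect {G O : Type*} [Group G] [Group O] (hG : commutator G = ⊤)
    (φ : G →* O) (g : G) : φ g ∈ commutator O := by
  have h1 : φ g ∈ (commutator G).map φ := ⟨g, by rw [hG]; trivial, rfl⟩
  rw [commutator_def, Subgroup.map_commutator] at h1
  exact Subgroup.commutator_mono le_top le_top h1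

/-- in characteristic two with at least three elements, `SL₂` is perfect -/
theorem SL2_perfect_of_char_two {F : Type*} [Field F] [Fintype F] (h2 : (2 : F) = 0)
    (hF : 3 ≤ Fintype.card F) : commutator (Matrix.SpecialLinearGroup (Fin 2) F) = ⊤ := by
  classical
  obtain ⟨a, ha0, ha1⟩ : ∃ a : F, a ≠ 0 ∧ a ≠ 1 := by
    by_contra hcon
    push Not at hcon
    have hsub : (Finset.univ : Finset F) ⊆ {0, 1} := by
      intro x _
      by_cases hx : x = 0
      · simp [hx]
      · simp [hcon x hx]
    have h1 := Finset.card_le_card hsub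
    have h3 : ({0, 1} : Finset F).card ≤ 2 := Finset.card_le_two
    rw [Finset.card_univ] at h1
    omega
  apply Matrix.SL2.commutator_eq_top ha0
  intro h
  apply ha1
  have h3 : (a - 1) ^ 2 = 0 := by
    have : (a - 1) ^ 2 = a ^ 2 - 2 * a + 1 := by ring
    rw [this, h, h2]; ring_nf
    exact h2
  have := pow_eq_zero_iff (two_ne_zero) |>.1 h3
  exact sub_eq_zero.1 this

end ExcIso

end Cfsg.Agent.Lib.Helper2
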