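import Mathlib
import Cfsg.Agent.Lib.Helper2.ExcIso2

set_option autoImplicit false

namespace Cfsg.Agent.Lib.Helper2

namespace ExcIso

open scoped commutatorElement

/-- in a perfect group, an element whose commutators are all central is central -/
theorem mem_center_of_perfect {G : Type*} [Group G] (hG : commutator G = ⊤) (g : G)
    (h : ∀ x : G, ⁅g, x⁆ ∈ Subgroup.center G) : g ∈ Subgroup.center G := by
  let φ : G →* ↥(Subgroup.center G) :=
    { toFun := fun x => ⟨⁅g, x⁆, h x⟩
      map_one' := by
        apply Subtype.ext
        simp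
      map_mul' := by
        intro x y
        apply Subtype.ext
        show ⁅g, x * y⁆ = ⁅g, x⁆ * ⁅g, y⁆
        have hy := Subgroup.mem_center_iff.1 (h y)
        rw [commutatorElement_def, commutatorElement_def]
        have e : g * (x * y) * g⁻¹ * (x * y)⁻¹ = g * x * g⁻¹ * x⁻¹ * (x * ⁅g, y⁆ * x⁻¹) := by
          rw [commutatorElement_def]; group
        rw [e, hy x, mul_assoc ⁅g, y⁆, mul_inv_cancel, mul_one, commutatorElement_def] }
  have hker : φ.ker = ⊤ := by
    rw [eq_top_iff, ← hG, commutator_eq_closure, Subgroup.closure_le]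
    rintro _ ⟨a, b, rfl⟩
    rw [SetLike.mem_coe, MonoidHom.mem_ker, map_commutatorElement,
      commutatorElement_eq_one_iff_commute]
    exact Subtype.ext (Subgroup.mem_center_iff.1 (φ a).2 (φ b).1).symm
  rw [Subgroup.mem_center_iff]
  intro x
  have hx : x ∈ φ.ker := by rw [hker]; trivial
  rw [MonoidHom.mem_ker] at hx
  have h1 : ⁅g, x⁆ = 1 := congrArg Subtype.val hx
  rw [commutatorElement_eq_one_iff_commute] at h1
  exact h1.eq.symm

/-- for a hom from a perfect group with central kernel, the preimage of the centre of the image is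
the centre -/
theorem center_iff_of_perfect {G O : Type*} [Group G] [Group O] (hG : commutator G = ⊤)
    (ρ : G →* O) (hker : ρ.ker ≤ Subgroup.center G) (g : G) :
    g ∈ Subgroup.center G ↔ ∀ h : G, ρ g * ρ h = ρ h * ρ g := by
  constructor
  · intro hg h
    rw [← map_mul, ← map_mul, Subgroup.mem_center_iff.1 hg h]
  · intro hc
    apply mem_center_of_perfect hG
    intro x
    apply hker
    rw [MonoidHom.mem_ker, map_commutatorElement, commutatorElement_eq_one_iff_commute]
    exact hc x

end ExcIso

end Cfsg.Agent.Lib.Helper2
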