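import Mathlib
import Cfsg.Agent.Lib.Helper2.ExcIso3

set_option autoImplicit false

namespace Cfsg.Agent.Lib.Helper2

namespace ExcIso

open scoped commutatorElement

/-- a subgroup of index two contains the commutator subgroup -/
theorem commutator_le_of_index_two {O : Type*} [Group O] (H : Subgroup O) (h : H.index = 2) :
    commutator O ≤ H := by
  haveI : H.Normal := Subgroup.normal_of_index_eq_two h
  have hcard : Nat.card (O ⧸ H) = 2 := by rw [← Subgroup.index_eq_card]; exact h
  haveI : Fact (Nat.Prime 2) := ⟨Nat.prime_two⟩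
  haveI : IsCyclic (O ⧸ H) := isCyclic_of_prime_card hcard
  rw [commutator_eq_closure, Subgroup.closure_le]
  rintro _ ⟨x, y, rfl⟩
  rw [SetLike.mem_coe, ← QuotientGroup.eq_one_iff]
  have : ((⁅x, y⁆ : O) : O ⧸ H) = ⁅(x : O ⧸ H), (y : O ⧸ H)⁆ :=
    map_commutatorElement (QuotientGroup.mk' H) x y
  rw [this, commutatorElement_eq_one_iff_commute]
  have hc : ∀ u v : O ⧸ H, u * v = v * u := by
    obtain ⟨g, hg⟩ := IsCyclic.exists_generator (α := O ⧸ H)
    intro u v
    obtain ⟨m, rfl⟩ := Subgroup.mem_zpowers_iff.1 (hg u)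
    obtain ⟨n, rfl⟩ := Subgroup.mem_zpowers_iff.1 (hg v)
    rw [← zpow_add, ← zpow_add, add_comm]
  exact hc _ _

/-- a hom into the commutator subgroup whose image has index two is onto it -/
theorem range_eq_commutator_of_two_mul {G O : Type*} [Group G] [Finite G] [Group O] [Finite O]
    (ρ : G →* O) (hle : ρ.range ≤ commutator O)
    (hcard : 2 * Nat.card G = Nat.card ↥ρ.ker * Nat.card O) : ρ.range = commutator O := by
  have h1 : Nat.card G = Nat.card ↥ρ.range * Nat.card ↥ρ.ker := by
    rw [Subgroup.card_eq_card_quotient_mul_card_subgroup ρ.ker,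
      Nat.card_congr (QuotientGroup.quotientKerEquivRange ρ).toEquiv]
  have hpos : 0 < Nat.card ↥ρ.ker := Nat.card_pos
  have h2 : 2 * Nat.card ↥ρ.range = Nat.card O := by
    rw [h1] at hcard
    apply Nat.eq_of_mul_eq_mul_left hpos
    rw [← hcard]; ring
  have h3 : ρ.range.index = 2 := by
    have := Subgroup.card_mul_index ρ.range
    rw [← h2] at this
    have hpos' : 0 < Nat.card ↥ρ.range := Nat.card_pos
    apply Nat.eq_of_mul_eq_mul_left hpos'
    rw [this]; ring
  exact le_antisymm hle (commutator_le_of_index_two _ h3)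

/-- `SL₂` over a field with at least four elements is perfect -/
theorem SL2_perfect_of_four_le {K : Type*} [Field K] [Fintype K] (hK : 4 ≤ Fintype.card K) :
    commutator (Matrix.SpecialLinearGroup (Fin 2) K) = ⊤ := by
  classical
  obtain ⟨c, hc0, hc1, hc2⟩ : ∃ c : K, c ≠ 0 ∧ c ≠ 1 ∧ c ≠ -1 := by
    by_contra hcon
    push Not at hcon
    have hsub : (Finset.univ : Finset K) ⊆ {0, 1, -1} := by
      intro x _
      by_cases hx : x = 0
      · simp [hx]
      · by_cases hx1 : x = 1
        · simp [hx1]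
        · simp [hcon x hx hx1]
    have h1 := Finset.card_le_card hsub
    have h3 : ({0, 1, -1} : Finset K).card ≤ 3 := Finset.card_le_three
    rw [Finset.card_univ] at h1
    omega
  apply Matrix.SL2.commutator_eq_top hc0
  intro h
  have h3 : (c - 1) * (c + 1) = 0 := by ring_nf; rw [h]; ring
  rcases mul_eq_zero.1 h3 with h | h
  · exact hc1 (sub_eq_zero.1 h)
  · exact hc2 (eq_neg_of_add_eq_zero_left h)

end ExcIso

end Cfsg.Agent.Lib.Helper2
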