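import Mathlib
import Cfsg.Agent.Lib.Helper6.GlAutF
import Cfsg.Agent.Lib.Helper5.GlAutT
import Cfsg.Agent.Lib.Helper6.GlAutU

/-!
# Theorem G (Glauberman 1966, 2-nilpotent part), package P2: Step 2 (reduction to `K` simple)

`step2A`: there is a `Γ`-normal `M` with `1 < M < K`.  `step2B`: `K` is minimal normal in `Γ` but not simple.
Paper proof: notes/S1301_core_helper8.md (Step 2, via lemma (U)).
-/

set_option autoImplicit false
open scoped commutatorElement

namespace Cfsg.Agent.Lib.Helper8.GlAut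

open Cfsg.Agent.Lib.Helper6.GlAutF

universe u

variable {Γ : Type u} [Group Γ]

/-- if `c` centralizes `M` and `k` normalizes `M` then `⁅c, k⁆` centralizes `M` -/
theorem p2_comm_mem_centralizer {M : Subgroup Γ} {c k : Γ}
    (hc : c ∈ Subgroup.centralizer (M : Set Γ)) (hk : k ∈ Subgroup.normalizer (M : Set Γ)) :
    ⁅c, k⁆ ∈ Subgroup.centralizer (M : Set Γ) := by
  rw [Subgroup.mem_centralizer_iff] at hc ⊢
  intro m hm
  have hm' : k⁻¹ * m * k ∈ M := by
    have := (Subgroup.mem_normalizer_iff.1 hk) (k⁻¹ * m * k)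
    rw [this]
    have e : k * (k⁻¹ * m * k) * k⁻¹ = m := by group
    rw [e]; exact hm
  have h2 := hc m hm
  have h3 := hc _ hm'
  have h3' : c⁻¹ * (k⁻¹ * m * k) = (k⁻¹ * m * k) * c⁻¹ := by
    calc c⁻¹ * (k⁻¹ * m * k) = c⁻¹ * ((k⁻¹ * m * k) * c) * c⁻¹ := by group
      _ = c⁻¹ * (c * (k⁻¹ * m * k)) * c⁻¹ := by rw [h3]
      _ = (k⁻¹ * m * k) * c⁻¹ := by group
  rw [commutatorElement_def]
  calc m * (c * k * c⁻¹ * k⁻¹) = (m * c) * k * c⁻¹ * k⁻¹ := by group
    _ = (c * m) * k * c⁻¹ * k⁻¹ := by rw [h2]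
    _ = c * k * ((k⁻¹ * m * k) * c⁻¹) * k⁻¹ := by group
    _ = c * k * (c⁻¹ * (k⁻¹ * m * k)) * k⁻¹ := by rw [h3']
    _ = c * k * c⁻¹ * k⁻¹ * m := by group

/-- `⁅c, m⁆ = 1` means that `m` and `c` commute -/
theorem p2_comm_of_comm_eq_one {c m : Γ} (h : ⁅c, m⁆ = 1) : m * c = c * m := by
  rw [commutatorElement_def] at h
  calc m * c = (c * m * c⁻¹ * m⁻¹)⁻¹ * (c * m) := by group
    _ = c * m := by rw [h, inv_one, one_mul]

theorem p2_comm_eq_one_of_comm {c m : Γ} (h : m * c = c * m) : ⁅c, m⁆ = 1 := by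
  rw [commutatorElement_def]
  calc c * m * c⁻¹ * m⁻¹ = (c * m) * c⁻¹ * m⁻¹ := by group
    _ = (m * c) * c⁻¹ * m⁻¹ := by rw [h]
    _ = 1 := by group

/-- a Sylow 2-subgroup of `K` lies in every normal subgroup of odd index -/
theorem p2_sylMax_le_of_odd_relIndex [Finite Γ] {S K M : Subgroup Γ} (h : SylMax S K) (hMK : M ≤ K)
    (hn : K ≤ Subgroup.normalizer (M : Set Γ)) (hodd : Odd (M.relIndex K)) : S ≤ M := by
  have h1 : SylMax (S ⊓ M) M := h.inf_normal hMK hn
  have h2 : Odd ((S ⊓ M).relIndex K) := by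
    rw [← Subgroup.relIndex_mul_relIndex (S ⊓ M) M K inf_le_right hMK]
    exact h1.odd_relIndex.mul hodd
  have h3 : SylMax (S ⊓ M) K :=
    SylMax.of_odd_relIndex (inf_le_right.trans hMK) (h.isPGroup.to_le inf_le_left) h2
  have h4 : S = S ⊓ M := h3.2.2 S h.isPGroup inf_le_left h.le
  rw [h4]; exact inf_le_right

/-- Step 2A: there is a `Γ`-normal `M` with `1 < M < K` -/
theorem step2A {n : ℕ} (ih : IH.{u} n) [Finite Γ] {K : Subgroup Γ} [K.Normal] {S Q : Subgroup Γ} {x : Γ}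
    (hn : Nat.card ↥K = n) (hyp : Hyp K S Q x) (h1 : oc K = ⊥)
    (M : Subgroup Γ) [M.Normal] (hMK : M ≤ K) (hM : M ≠ ⊥) (hMne : M ≠ K) : Concl K Q x := by
  intro q hq k hk
  obtain ⟨M₁, hM₁n, hMM₁, hM₁K, hodd, hc⟩ := IH.quot ih hn hyp M hMK hM
  have := hM₁n
  have hnM : ∀ N : Subgroup Γ, N.Normal → K ≤ Subgroup.normalizer (N : Set Γ) := by
    intro N hN
    rw [Subgroup.normalizer_eq_top_iff.2 hN]
    exact le_top
  by_cases hM₁ : M₁ = K
  · rw [hM₁] at hodd
    have hSM : S ≤ M := p2_sylMax_le_of_odd_relIndex hyp.syl hMK (hnM M inferInstance) hodd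
    have hltM : Nat.card ↥M < n := by
      rw [← hn]
      by_contra hcon
      exact hMne (Subgroup.eq_of_le_of_card_ge hMK (not_lt.mp hcon))
    have hypM : Hyp M (S ⊓ M) Q x :=
      ⟨hyp.syl.inf_normal hMK (hnM M inferInstance), hyp.hQ2,
        hyp.hQS.trans (Subgroup.centralizer_le inf_le_left), hyp.hx,
        Subgroup.centralizer_le inf_le_left hyp.hxS, hyp.hxQ⟩
    have hcM : Concl M Q x := ih Γ M (S ⊓ M) Q x hltM hypM
    have hocM : oc M = ⊥ := by
      have := oc_le_oc hMK (hnM M inferInstance)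
      rw [h1] at this
      exact le_bot_iff.mp this
    have hcent : ⁅q, x⁆ ∈ Subgroup.centralizer (M : Set Γ) := by
      rw [Subgroup.mem_centralizer_iff]
      intro m hm
      have := hcM q hq m hm
      rw [hocM, Subgroup.mem_bot] at this
      exact p2_comm_of_comm_eq_one this
    have hCn : (Subgroup.centralizer (M : Set Γ)).Normal := Subgroup.normal_centralizer
    have hC1n : (K ⊓ Subgroup.centralizer (M : Set Γ)).Normal := Subgroup.normal_inf_normal _ _
    by_cases hC1 : K ⊓ Subgroup.centralizer (M : Set Γ) = K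
    · exfalso
      have hKM : K ≤ Subgroup.centralizer (M : Set Γ) := inf_eq_left.mp hC1
      have hKS : K ≤ Subgroup.centralizer (S : Set Γ) := hKM.trans (Subgroup.centralizer_le hSM)
      have hKeq : K = S := eq_of_le_centralizer_sylMax hyp.syl h1 hKS
      apply hMne
      apply le_antisymm hMK
      rw [hKeq]
      exact hSM
    · have hW : ∀ k ∈ K, ⁅⁅q, x⁆, k⁆ ∈ K ⊓ Subgroup.centralizer (M : Set Γ) := by
        intro k hk
        refine ⟨?_, p2_comm_mem_centralizer hcent ?_⟩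
        · rw [commutatorElement_def]
          exact K.mul_mem (‹K.Normal›.conj_mem k hk _) (K.inv_mem hk)
        · rw [Subgroup.normalizer_eq_top_iff.2 (inferInstance : M.Normal)]
          exact Subgroup.mem_top k
      have := comm_eq_one_of_comm_mem_proper ih hn hyp h1 (K ⊓ Subgroup.centralizer (M : Set Γ))
        inf_le_left hC1 hq hW k hk
      rw [this]
      exact one_mem _
  · have := comm_eq_one_of_comm_mem_proper ih hn hyp h1 M₁ hM₁K hM₁ hq (hc q hq) k hk
    rw [this]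
    exact one_mem _

/-- the family of nontrivial subgroups of `K` normalized by `K` -/
def p2fam (K : Subgroup Γ) : Set (Subgroup Γ) :=
  {F | F ≤ K ∧ K ≤ Subgroup.normalizer (F : Set Γ) ∧ F ≠ ⊥}

theorem p2fam_cj {K : Subgroup Γ} [K.Normal] {F : Subgroup Γ} (hF : F ∈ p2fam K) (a : Γ) :
    cj a F ∈ p2fam K := by
  obtain ⟨hFK, hFn, hFne⟩ := hF
  refine ⟨?_, ?_, ?_⟩
  · intro y hy
    rw [mem_cj] at hy
    have h1 := hFK hy
    have h2 := ‹K.Normal›.conj_mem _ h1 a
    have e : a * (a⁻¹ * y * a) * a⁻¹ = y := by group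
    rwa [e] at h2
  · intro k hk
    have h1 : a⁻¹ * k * a ∈ K := by
      have := ‹K.Normal›.conj_mem k hk a⁻¹
      rwa [inv_inv] at this
    have h2 : a⁻¹ * k * a ∈ Subgroup.normalizer (F : Set Γ) := hFn h1
    have h3 : a * (a⁻¹ * k * a) * a⁻¹ ∈ cj a (Subgroup.normalizer (F : Set Γ)) := conj_mem_cj h2
    rw [cj_normalizer] at h3
    have e : a * (a⁻¹ * k * a) * a⁻¹ = k := by group
    rwa [e] at h3
  · intro h
    apply hFne
    have := card_cj a F
    rw [h] at this
    exact (Subgroup.card_eq_one.mp (by rw [← this]; exact Subgroup.card_bot))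

/-- an element centralizing the Sylow 2-subgroup `S` of `K` normalizes every minimal normal subgroup of `K`
(`O(K) = 1`) -/
theorem p2_cj_eq_of_minimal [Finite Γ] {K S F : Subgroup Γ} [K.Normal] (hS : SylMax S K) (h1 : oc K = ⊥)
    (hF : F ∈ p2fam K) (hmin : ∀ F' ∈ p2fam K, F' ≤ F → F' = F) {w : Γ}
    (hw : w ∈ Subgroup.centralizer (S : Set Γ)) : cj w F = F := by
  obtain ⟨hFK, hFn, hFne⟩ := hF
  have hocF : oc F = ⊥ := by
    have := oc_le_oc hFK hFn
    rw [h1] at this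
    exact le_bot_iff.mp this
  have hSF : SylMax (S ⊓ F) F := hS.inf_normal hFK hFn
  have hSFne : S ⊓ F ≠ ⊥ := hSF.ne_bot hocF hFne
  have hwF : cj w F ∈ p2fam K := p2fam_cj ⟨hFK, hFn, hFne⟩ w
  have hsub : S ⊓ F ≤ cj w F ⊓ F := by
    intro s hs
    have hc := (Subgroup.mem_centralizer_iff.1 hw) s hs.1
    have e : w⁻¹ * s * w = s := by
      calc w⁻¹ * s * w = w⁻¹ * (s * w) := by group
        _ = w⁻¹ * (w * s) := by rw [hc]
        _ = s := by group
    have hs1 : s ∈ cj w F := by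
      rw [mem_cj, e]; exact hs.2
    exact ⟨hs1, hs.2⟩
  have hmem : cj w F ⊓ F ∈ p2fam K := by
    refine ⟨inf_le_right.trans hFK, ?_, ?_⟩
    · intro k hk
      have h2 := hwF.2.1 hk
      have h3 := hFn hk
      rw [Subgroup.mem_normalizer_iff] at h2 h3 ⊢
      intro b
      constructor
      · intro hb
        exact ⟨(h2 b).1 hb.1, (h3 b).1 hb.2⟩
      · intro hb
        exact ⟨(h2 b).2 hb.1, (h3 b).2 hb.2⟩
    · intro h
      apply hSFne
      rw [h] at hsub
      exact le_bot_iff.mp hsub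
  have heq : cj w F ⊓ F = F := hmin _ hmem inf_le_right
  have hle : F ≤ cj w F := by
    intro y hy
    have hy' : y ∈ cj w F ⊓ F := by rw [heq]; exact hy
    exact hy'.1
  symm
  exact Subgroup.eq_of_le_of_card_ge hle (le_of_eq (card_cj w F))

/-- Step 2B: `K` is minimal normal in `Γ` but not simple -/
theorem step2B {n : ℕ} (ih : IH.{u} n) [Finite Γ] {K : Subgroup Γ} [K.Normal] {S Q : Subgroup Γ} {x : Γ}
    (hn : Nat.card ↥K = n) (hyp : Hyp K S Q x) (h1 : oc K = ⊥)
    (hmin : ∀ M : Subgroup Γ, M.Normal → M ≤ K → M = ⊥ ∨ M = K)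
    (E : Subgroup Γ) (hEK : E ≤ K) (hEn : K ≤ Subgroup.normalizer (E : Set Γ)) (hE : E ≠ ⊥)
    (hEne : E ≠ K) : Concl K Q x := by
  classical
  intro q hq k hk
  -- a member of the family of minimal cardinality
  have hEfam : E ∈ p2fam K := ⟨hEK, hEn, hE⟩
  obtain ⟨E₀, hE₀, hE₀min⟩ :=
    WellFounded.has_min (measure (fun F : Subgroup Γ => Nat.card ↥F)).wf (p2fam K) ⟨E, hEfam⟩
  have hcardE₀ : Nat.card ↥E₀ ≤ Nat.card ↥E := by
    by_contra hcon
    exact hE₀min E hEfam (not_le.mp hcon)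
  have hcardEK : Nat.card ↥E < Nat.card ↥K := by
    by_contra hcon
    exact hEne (Subgroup.eq_of_le_of_card_ge hEK (not_lt.mp hcon))
  -- every conjugate of `E₀` is a minimal member of the family
  have hconjmin : ∀ a : Γ, ∀ F' ∈ p2fam K, F' ≤ cj a E₀ → F' = cj a E₀ := by
    intro a F' hF' hle
    have h2 : ¬ Nat.card ↥F' < Nat.card ↥E₀ := hE₀min F' hF'
    refine Subgroup.eq_of_le_of_card_ge hle ?_
    rw [card_cj]
    exact not_lt.mp h2
  -- `⁅q, x⁆` centralizes every conjugate of `E₀`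
  have hcentconj : ∀ a : Γ, ∀ e ∈ cj a E₀, e * ⁅q, x⁆ = ⁅q, x⁆ * e := by
    intro a e he
    have hFa : cj a E₀ ∈ p2fam K := p2fam_cj hE₀ a
    have hnorm : ∀ w ∈ Subgroup.centralizer (S : Set Γ),
        w ∈ Subgroup.normalizer ((cj a E₀ : Subgroup Γ) : Set Γ) := by
      intro w hw
      exact mem_normalizer_of_cj_eq (p2_cj_eq_of_minimal hyp.syl h1 hFa (hconjmin a) hw)
    have hQn : Q ≤ Subgroup.normalizer ((cj a E₀ : Subgroup Γ) : Set Γ) := fun w hw => hnorm w (hyp.hQS hw)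
    have hxn : x ∈ Subgroup.normalizer ((cj a E₀ : Subgroup Γ) : Set Γ) := hnorm x hyp.hxS
    have hlt : Nat.card ↥(cj a E₀) < n := by
      rw [card_cj, ← hn]
      exact lt_of_le_of_lt hcardE₀ hcardEK
    have hypa : Hyp (cj a E₀) (S ⊓ cj a E₀) Q x :=
      ⟨hyp.syl.inf_normal hFa.1 hFa.2.1, hyp.hQ2,
        hyp.hQS.trans (Subgroup.centralizer_le inf_le_left), hyp.hx,
        Subgroup.centralizer_le inf_le_left hyp.hxS, hyp.hxQ⟩
    have hca : Concl (cj a E₀) Q x := IH.sub ih hQn hxn hlt hypa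
    have hoca : oc (cj a E₀) = ⊥ := by
      have := oc_le_oc hFa.1 hFa.2.1
      rw [h1] at this
      exact le_bot_iff.mp this
    have := hca q hq e he
    rw [hoca, Subgroup.mem_bot] at this
    exact p2_comm_of_comm_eq_one this
  -- the normal closure of `E₀` is `K`
  have hNC : Subgroup.normalClosure (E₀ : Set Γ) = K := by
    have hle : Subgroup.normalClosure (E₀ : Set Γ) ≤ K := Subgroup.normalClosure_le_normal hE₀.1
    rcases hmin _ Subgroup.normalClosure_normal hle with h | h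
    · exfalso
      apply hE₀.2.2
      have : E₀ ≤ Subgroup.normalClosure (E₀ : Set Γ) := Subgroup.le_normalClosure
      rw [h] at this
      exact le_bot_iff.mp this
    · exact h
  have hKc : K ≤ Subgroup.centralizer ({⁅q, x⁆} : Set Γ) := by
    rw [← hNC, Subgroup.normalClosure, Subgroup.closure_le]
    intro y hy
    rw [Group.mem_conjugatesOfSet_iff] at hy
    obtain ⟨b, hb, hconj⟩ := hy
    rw [isConj_iff] at hconj
    obtain ⟨a, rfl⟩ := hconj
    have hmem : a * b * a⁻¹ ∈ cj a E₀ := conj_mem_cj hb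
    have := hcentconj a _ hmem
    rw [SetLike.mem_coe, Subgroup.mem_centralizer_iff]
    intro c hc
    rw [Set.mem_singleton_iff] at hc
    rw [hc]
    exact this.symm
  have hkc := hKc hk
  rw [Subgroup.mem_centralizer_iff] at hkc
  have hcomm : k * ⁅q, x⁆ = ⁅q, x⁆ * k := (hkc _ (Set.mem_singleton _)).symm
  rw [p2_comm_eq_one_of_comm hcomm]
  exact one_mem _

end Cfsg.Agent.Lib.Helper8.GlAut
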