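import Mathlib

set_option autoImplicit false

/-!
# Connectivity of injective tuples under single-coordinate changes

If `R` is a reflexive transitive relation on injective `ι`-tuples of points of `α` that relates any
two tuples differing in at most one coordinate, and `α` has more points than `ι`, then `R` relates
all pairs of tuples.  This is the combinatorial core of several multiple-transitivity criteria.
-/

namespace Cfsg.Agent.Lib.Helper2.TupleConn

variable {ι α : Type*} [DecidableEq ι]

/-- Replace the `i`-th coordinate of an injective tuple by a value not used elsewhere. -/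
def upd (x : ι ↪ α) (i : ι) (v : α) (hv : ∀ j, j ≠ i → x j ≠ v) : ι ↪ α where
  toFun := Function.update x i v
  inj' := by
    intro a b hab
    by_cases ha : a = i
    · by_cases hb : b = i
      · rw [ha, hb]
      · exfalso
        rw [ha, Function.update_self, Function.update_of_ne hb] at hab
        exact hv b hb hab.symm
    · by_cases hb : b = i
      · exfalso
        rw [hb, Function.update_self, Function.update_of_ne ha] at hab
        exact hv a ha hab
      · rw [Function.update_of_ne ha, Function.update_of_ne hb] at hab
        exact x.injective hab

@[simp] theorem upd_self (x : ι ↪ α) (i : ι) (v : α) (hv : ∀ j, j ≠ i → x j ≠ v) :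
    upd x i v hv i = v := by
  change Function.update x i v i = v
  rw [Function.update_self]

theorem upd_of_ne (x : ι ↪ α) (i : ι) (v : α) (hv : ∀ j, j ≠ i → x j ≠ v) {j : ι} (hj : j ≠ i) :
    upd x i v hv j = x j := by
  change Function.update x i v j = x j
  rw [Function.update_of_ne hj]

variable [Fintype ι] [DecidableEq α]

/-- The number of coordinates where two tuples differ. -/
def dist (x y : ι ↪ α) : ℕ := (Finset.univ.filter (fun i => x i ≠ y i)).card

theorem eq_of_dist_eq_zero {x y : ι ↪ α} (h : dist x y = 0) : x = y := by
  unfold dist at h
  rw [Finset.card_eq_zero, Finset.filter_eq_empty_iff] at h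
  ext i
  have := h (Finset.mem_univ i)
  simpa using this

theorem tuple_conn [Fintype α] (hk : Fintype.card ι < Fintype.card α)
    (R : (ι ↪ α) → (ι ↪ α) → Prop) (hrefl : ∀ x, R x x)
    (htrans : ∀ x y z, R x y → R y z → R x z)
    (hstep : ∀ (x y : ι ↪ α) (i : ι), (∀ j, j ≠ i → x j = y j) → R x y) :
    ∀ x y, R x y := by
  have main : ∀ n : ℕ, ∀ x y : ι ↪ α, dist x y = n → R x y := by
    intro n
    induction n using Nat.strong_induction_on with
    | _ n ih =>
      intro x y hd
      by_cases hn : n = 0
      · subst hn
        rw [eq_of_dist_eq_zero hd]; exact hrefl y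
      · have hpos : 0 < dist x y := by omega
        unfold dist at hpos
        obtain ⟨i, hi⟩ := Finset.card_pos.mp hpos
        rw [Finset.mem_filter] at hi
        have hxi : x i ≠ y i := hi.2
        -- a general decreasing lemma
        have hdec : ∀ (x' : ι ↪ α), x' i = y i →
            (∀ j, j ≠ i → x j = y j → x' j = y j) → dist x' y < dist x y := by
          intro x' h1 h2
          unfold dist
          apply Finset.card_lt_card
          rw [Finset.ssubset_iff_of_subset]
          · refine ⟨i, ?_, ?_⟩
            · rw [Finset.mem_filter]; exact ⟨Finset.mem_univ _, hxi⟩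
            · rw [Finset.mem_filter]; push Not; intro _; exact h1
          · intro j hj
            rw [Finset.mem_filter] at hj ⊢
            refine ⟨Finset.mem_univ _, ?_⟩
            intro hxy
            by_cases hji : j = i
            · subst hji; exact hj.2 h1
            · exact hj.2 (h2 j hji hxy)
        by_cases hyi : ∃ j, x j = y i
        · obtain ⟨j, hj⟩ := hyi
          have hji : j ≠ i := by
            rintro rfl; exact hxi hj
          -- a free point
          obtain ⟨c, hc⟩ : ∃ c : α, c ∉ Set.range x := by
            by_contra hcon
            push Not at hcon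
            have hsurj : Function.Surjective x := fun c => hcon c
            have := Fintype.card_le_of_surjective x hsurj
            omega
          have hc' : ∀ l, x l ≠ c := fun l hl => hc ⟨l, hl⟩
          set x1 := upd x j c (fun l _ => hc' l) with hx1
          have hR1 : R x x1 := hstep x x1 j (fun l hl => (upd_of_ne x j c _ hl).symm)
          have hv2 : ∀ l, l ≠ i → x1 l ≠ y i := by
            intro l hl
            by_cases hlj : l = j
            · subst hlj
              rw [hx1, upd_self]
              rw [← hj]
              exact fun h => hc' l h.symm
            · rw [hx1, upd_of_ne x j c _ hlj, ← hj]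
              exact fun h => hlj (x.injective h)
          set x2 := upd x1 i (y i) hv2 with hx2
          have hR2 : R x1 x2 := hstep x1 x2 i (fun l hl => (upd_of_ne x1 i (y i) _ hl).symm)
          have hlt : dist x2 y < dist x y := by
            apply hdec x2 (by rw [hx2, upd_self])
            intro l hl hxl
            rw [hx2, upd_of_ne x1 i (y i) _ hl]
            have hlj : l ≠ j := by
              rintro rfl
              -- x l = y i and x l = y l gives y i = y l, so i = l
              have : y i = y l := by rw [← hj, hxl]
              exact hl (y.injective this).symm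
            rw [hx1, upd_of_ne x j c _ hlj]; exact hxl
          have hR3 : R x2 y := ih (dist x2 y) (by omega) x2 y rfl
          exact htrans _ _ _ hR1 (htrans _ _ _ hR2 hR3)
        · push Not at hyi
          set x1 := upd x i (y i) (fun l _ => hyi l) with hx1
          have hR1 : R x x1 := hstep x x1 i (fun l hl => (upd_of_ne x i (y i) _ hl).symm)
          have hlt : dist x1 y < dist x y := by
            apply hdec x1 (by rw [hx1, upd_self])
            intro l hl hxl
            rw [hx1, upd_of_ne x i (y i) _ hl]; exact hxl
          have hR3 : R x1 y := ih (dist x1 y) (by omega) x1 y rfl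
          exact htrans _ _ _ hR1 hR3
  intro x y
  exact main _ x y rfl

/-- A permutation group that can move any coordinate of an injective `k`-tuple to any free point,
fixing the other coordinates, is `k`-transitive (degree larger than `k`). -/
theorem isMultiplyPretransitive_of_step {α : Type*} [Fintype α] [DecidableEq α]
    (G : Subgroup (Equiv.Perm α)) {k : ℕ} (hk : k < Fintype.card α)
    (hstep : ∀ (x : Fin k ↪ α) (i : Fin k) (v : α), v ∉ Set.range x →
      ∃ g ∈ G, g (x i) = v ∧ ∀ j, j ≠ i → g (x j) = x j) :
    MulAction.IsMultiplyPretransitive G α k := by
  rw [MulAction.isMultiplyPretransitive_iff]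
  apply tuple_conn (by simpa using hk) (fun x y : Fin k ↪ α => ∃ g : G, g • x = y)
  · intro x; exact ⟨1, one_smul _ _⟩
  · rintro x y z ⟨g, rfl⟩ ⟨h, rfl⟩
    exact ⟨h * g, mul_smul _ _ _⟩
  · intro x y i hxy
    by_cases hi : x i = y i
    · refine ⟨1, ?_⟩
      ext j
      change x j = y j
      by_cases hj : j = i
      · rw [hj, hi]
      · exact hxy j hj
    · have hv : y i ∉ Set.range x := by
        rintro ⟨j, hj⟩
        by_cases hji : j = i
        · rw [hji] at hj; exact hi hj
        · rw [hxy j hji] at hj
          exact hji (y.injective hj)
      obtain ⟨g, hg, hgi, hgj⟩ := hstep x i (y i) hv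
      refine ⟨⟨g, hg⟩, ?_⟩
      ext j
      change g (x j) = y j
      by_cases hj : j = i
      · rw [hj, hgi]
      · rw [hgj j hj, hxy j hj]

end Cfsg.Agent.Lib.Helper2.TupleConn
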