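import Mathlib
import Cfsg.Agent.Lib.Helper1.LW.Basic
import Cfsg.Agent.Lib.Helper2.TupleConn

/-!
# Livingstone–Wagner (S0746): package N (the numerical invariants `r`, `s`)
-/

set_option autoImplicit false
open scoped Pointwise

namespace Cfsg.Agent.Lib.Helper1.LW

variable {α : Type*} [Fintype α] [DecidableEq α] {G : Subgroup (Equiv.Perm α)} {k : ℕ}

omit [Fintype α] [DecidableEq α] in
theorem nk_mem_fix (Γ : Finset α) (u : G) :
    u ∈ fixingSubgroup G (Γ : Set α) ↔ FixOn (u : Equiv.Perm α) Γ := by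
  rw [mem_fixingSubgroup_iff]
  constructor
  · intro hu x hx
    exact hu x (Finset.mem_coe.mpr hx)
  · intro hu x hx
    exact hu x (Finset.mem_coe.mp hx)

omit [Fintype α] [DecidableEq α] in
/-- conjugate subsets have fixing subgroups of the same order -/
theorem nk_card_fix_of_map (G : Subgroup (Equiv.Perm α)) (g : Equiv.Perm α) (hgG : g ∈ G)
    (s s' : Finset α) (hg : ∀ x, x ∈ s ↔ g x ∈ s') :
    Nat.card (fixingSubgroup G (s : Set α)) = Nat.card (fixingSubgroup G (s' : Set α)) := by
  refine Nat.card_congr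
    { toFun := fun u => ⟨⟨g, hgG⟩ * u.1 * ⟨g, hgG⟩⁻¹, ?_⟩
      invFun := fun u => ⟨⟨g, hgG⟩⁻¹ * u.1 * ⟨g, hgG⟩, ?_⟩
      left_inv := fun u => by apply Subtype.ext; simp [mul_assoc]
      right_inv := fun u => by apply Subtype.ext; simp [mul_assoc] }
  · rw [nk_mem_fix]
    intro y hy
    have hu := (nk_mem_fix s u.1).mp u.2
    have h1 : g⁻¹ y ∈ s := by
      rw [hg]; simpa using hy
    show g ((u.1 : Equiv.Perm α) (g⁻¹ y)) = y
    rw [hu _ h1]; simp
  · rw [nk_mem_fix]
    intro y hy
    have hu := (nk_mem_fix s' u.1).mp u.2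
    have h1 : g y ∈ s' := (hg y).mp hy
    show g⁻¹ ((u.1 : Equiv.Perm α) (g y)) = y
    rw [hu _ h1]; simp

/-- the pointwise stabiliser of `k-2` points acts freely on the other points -/
theorem nk_free (h : Cfg G k) (Γ : Finset α) (hΓ : Γ.card + 2 = k)
    (u : G) (hu : u ∈ fixingSubgroup G (Γ : Set α)) (x : α) (hx : x ∉ Γ)
    (hux : (u : Equiv.Perm α) x = x) : u = 1 := by
  have hfix : FixOn (u : Equiv.Perm α) (insert x Γ) := ((nk_mem_fix Γ u).mp hu).insert hux
  have hcard : (insert x Γ).card = k - 1 := by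
    rw [Finset.card_insert_of_notMem hx]; omega
  have := h.free _ u.2 _ hcard hfix
  exact Subtype.ext this

/-- number of orbits of the pointwise stabiliser of `Γ` on the complement of `Γ` -/
noncomputable def nkOrb (G : Subgroup (Equiv.Perm α)) (Γ : Finset α) : ℕ :=
  Nat.card (Quotient (MulAction.orbitRel (fixingSubgroup G (Γ : Set α))
    (SubMulAction.ofFixingSubgroup G (Γ : Set α))))

omit [DecidableEq α] in
theorem nk_card_compl (Γ : Finset α) :
    Nat.card (SubMulAction.ofFixingSubgroup G (Γ : Set α)) = Fintype.card α - Γ.card := by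
  have h1 : Nat.card (SubMulAction.ofFixingSubgroup G (Γ : Set α)) = ((Γ : Set α)ᶜ).ncard :=
    Nat.card_coe_set_eq _
  rw [h1, Set.ncard_compl, Set.ncard_coe_finset, Nat.card_eq_fintype_card]

theorem nk_orbits (h : Cfg G k) (Γ : Finset α) (hΓ : Γ.card + 2 = k) :
    nkOrb G Γ * Nat.card (fixingSubgroup G (Γ : Set α)) = Fintype.card α + 2 - k := by
  have hstab : ∀ b : SubMulAction.ofFixingSubgroup G (Γ : Set α),
      MulAction.stabilizer (fixingSubgroup G (Γ : Set α)) b = ⊥ := by
    intro b
    rw [eq_bot_iff]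
    intro u hu
    rw [Subgroup.mem_bot]
    have hb : (b : α) ∉ Γ := fun hmem => b.2 (Finset.mem_coe.mpr hmem)
    have hub : ((u : G) : Equiv.Perm α) (b : α) = (b : α) := by
      have := congrArg Subtype.val (MulAction.mem_stabilizer_iff.mp hu)
      exact this
    have := nk_free h Γ hΓ (u : G) u.2 (b : α) hb hub
    exact Subtype.ext this
  have e := MulAction.selfEquivOrbitsQuotientProd hstab
  have hc := Nat.card_congr e
  rw [Nat.card_prod, nk_card_compl] at hc
  unfold nkOrb
  rw [← hc]
  omega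

omit [Fintype α] [DecidableEq α] in
/-- if there is only one orbit, the pointwise stabiliser is transitive on the complement -/
theorem nk_trans_of_one (Γ : Finset α) (h1 : nkOrb G Γ = 1) (x y : α) (hx : x ∉ Γ) (hy : y ∉ Γ) :
    ∃ g ∈ G, FixOn g Γ ∧ g x = y := by
  unfold nkOrb at h1
  have hsub : Subsingleton (Quotient (MulAction.orbitRel (fixingSubgroup G (Γ : Set α))
      (SubMulAction.ofFixingSubgroup G (Γ : Set α)))) := (Nat.card_eq_one_iff_unique.mp h1).1
  let x' : SubMulAction.ofFixingSubgroup G (Γ : Set α) :=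
    ⟨x, fun hmem => hx (Finset.mem_coe.mp hmem)⟩
  let y' : SubMulAction.ofFixingSubgroup G (Γ : Set α) :=
    ⟨y, fun hmem => hy (Finset.mem_coe.mp hmem)⟩
  have hq : (Quotient.mk'' y' : Quotient (MulAction.orbitRel (fixingSubgroup G (Γ : Set α))
      (SubMulAction.ofFixingSubgroup G (Γ : Set α)))) = Quotient.mk'' x' := Subsingleton.elim _ _
  have hrel := Quotient.exact' hq
  rw [MulAction.orbitRel_apply] at hrel
  obtain ⟨u, hu⟩ := hrel
  refine ⟨((u : G) : Equiv.Perm α), (u : G).2, (nk_mem_fix Γ (u : G)).mp u.2, ?_⟩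
  have := congrArg Subtype.val hu
  exact this

theorem nk_exists_set (h : Cfg G k) : ∃ Γ₀ : Finset α, Γ₀.card + 2 = k := by
  have hk := h.hk
  have hkn := h.hkn
  obtain ⟨Γ₀, -, hΓ₀⟩ := Finset.exists_subset_card_eq (s := (Finset.univ : Finset α))
    (n := k - 2) (by rw [Finset.card_univ]; omega)
  exact ⟨Γ₀, by omega⟩

/-- the order of `G` -/
theorem nk_card_G (h : Cfg G k) (Γ : Finset α) (hΓ : Γ.card + 2 = k) :
    Nat.card G * (Fintype.card α + 2 - k).factorial =
      Nat.card (fixingSubgroup G (Γ : Set α)) * (Fintype.card α).factorial := by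
  have hk := h.hk
  have htr : MulAction.IsMultiplyPretransitive G α (k - 2) := h.trans
  have hnc : (Γ : Set α).ncard = k - 2 := by rw [Set.ncard_coe_finset]; omega
  have h1 := htr.index_of_fixingSubgroup_mul hnc
  rw [Nat.card_eq_fintype_card] at h1
  have h2 := Subgroup.card_mul_index (fixingSubgroup G (Γ : Set α))
  have h3 : Fintype.card α - (k - 2) = Fintype.card α + 2 - k := by omega
  rw [h3] at h1
  rw [← h2, mul_assoc, h1]

/-- orbit-stabiliser for homogeneous actions -/
theorem nk_choose_dvd (G : Subgroup (Equiv.Perm α)) {j : ℕ} (hj : j ≤ Fintype.card α)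
    (hh : MulAction.IsPretransitive G (Set.powersetCard α j)) :
    ∃ e : ℕ, Nat.card G = e * (Fintype.card α).choose j := by
  obtain ⟨S, -, hS⟩ := Finset.exists_subset_card_eq (s := (Finset.univ : Finset α))
    (n := j) (by rw [Finset.card_univ]; exact hj)
  let S' : Set.powersetCard α j := ⟨S, Set.powersetCard.mem_iff.mpr hS⟩
  have h1 := MulAction.index_stabilizer_of_transitive G S'
  have h2 := Subgroup.card_mul_index (MulAction.stabilizer G S')
  rw [h1, Set.powersetCard.card] at h2
  rw [Nat.card_eq_fintype_card (α := α)] at h2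
  exact ⟨_, h2.symm⟩

/-- pure arithmetic behind `hr1`, `hr2` -/
theorem nk_arith {n k r s N e d : ℕ} (hk : 3 ≤ k) (hkn : 2 * k ≤ n) (hs : 0 < s)
    (hrs : r * s = n + 2 - k)
    (hN : N * (n + 2 - k).factorial = s * n.factorial)
    (he : N = e * n.choose (k - 1)) (hd : N = d * n.choose k) :
    r ∣ (k - 1).factorial ∧ r * (n + 1 - k) ∣ k.factorial := by
  obtain ⟨m, hm⟩ : ∃ m, n + 2 - k = m + 2 := ⟨n - k, by omega⟩
  have hm1 : n - (k - 1) = m + 1 := by omega
  have hm2 : n - k = m := by omega
  have hm3 : n + 1 - k = m + 1 := by omega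
  have c1 := Nat.choose_mul_factorial_mul_factorial (n := n) (k := k - 1) (by omega)
  have c2 := Nat.choose_mul_factorial_mul_factorial (n := n) (k := k) (by omega)
  rw [hm1] at c1
  rw [hm2] at c2
  rw [hm] at hN hrs
  have f2 : (m + 2).factorial = (m + 2) * (m + 1).factorial := Nat.factorial_succ (m + 1)
  have f1 : (m + 1).factorial = (m + 1) * m.factorial := Nat.factorial_succ m
  have hC1 : 0 < n.choose (k - 1) := Nat.choose_pos (by omega)
  have hC2 : 0 < n.choose k := Nat.choose_pos (by omega)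
  have hf1 : 0 < (m + 1).factorial := Nat.factorial_pos _
  have hf0 : 0 < m.factorial := Nat.factorial_pos _
  constructor
  · -- e * (m+2) = s * (k-1)!
    have h1 : e * (m + 2) = s * (k - 1).factorial := by
      have : (e * (m + 2)) * (n.choose (k - 1) * (m + 1).factorial) =
          (s * (k - 1).factorial) * (n.choose (k - 1) * (m + 1).factorial) := by
        calc (e * (m + 2)) * (n.choose (k - 1) * (m + 1).factorial)
            = (e * n.choose (k - 1)) * ((m + 2) * (m + 1).factorial) := by ring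
          _ = N * (m + 2).factorial := by rw [← he, ← f2]
          _ = s * n.factorial := hN
          _ = s * (n.choose (k - 1) * (k - 1).factorial * (m + 1).factorial) := by rw [c1]
          _ = (s * (k - 1).factorial) * (n.choose (k - 1) * (m + 1).factorial) := by ring
      exact Nat.eq_of_mul_eq_mul_right (Nat.mul_pos hC1 hf1) this
    rw [← hrs] at h1
    have h2 : e * r = (k - 1).factorial := by
      have : (e * r) * s = (k - 1).factorial * s := by
        calc (e * r) * s = e * (r * s) := by ring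
          _ = s * (k - 1).factorial := h1
          _ = (k - 1).factorial * s := by ring
      exact Nat.eq_of_mul_eq_mul_right hs this
    exact ⟨e, by rw [← h2]; ring⟩
  · -- d * (m+2) * (m+1) = s * k!
    have h1 : d * ((m + 2) * (m + 1)) = s * k.factorial := by
      have : (d * ((m + 2) * (m + 1))) * (n.choose k * m.factorial) =
          (s * k.factorial) * (n.choose k * m.factorial) := by
        calc (d * ((m + 2) * (m + 1))) * (n.choose k * m.factorial)
            = (d * n.choose k) * ((m + 2) * ((m + 1) * m.factorial)) := by ring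
          _ = N * (m + 2).factorial := by rw [← hd, ← f1, ← f2]
          _ = s * n.factorial := hN
          _ = s * (n.choose k * k.factorial * m.factorial) := by rw [c2]
          _ = (s * k.factorial) * (n.choose k * m.factorial) := by ring
      exact Nat.eq_of_mul_eq_mul_right (Nat.mul_pos hC2 hf0) this
    rw [← hrs] at h1
    have h2 : d * (r * (m + 1)) = k.factorial := by
      have : (d * (r * (m + 1))) * s = k.factorial * s := by
        calc (d * (r * (m + 1))) * s = d * ((r * s) * (m + 1)) := by ring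
          _ = s * k.factorial := h1
          _ = k.factorial * s := by ring
      exact Nat.eq_of_mul_eq_mul_right hs this
    rw [hm3]
    exact ⟨d, by rw [← h2]; ring⟩

theorem nk_of_cfg (h : Cfg G k) (w : WK G k) : ∃ r s : ℕ, NK G k r s := by
  have hk := h.hk
  have hkn := h.hkn
  obtain ⟨Γ₀, hΓ₀⟩ := nk_exists_set h
  set s := Nat.card (fixingSubgroup G (Γ₀ : Set α)) with hs
  set r := nkOrb G Γ₀ with hr
  have hs_all : ∀ Γ : Finset α, Γ.card + 2 = k →
      Nat.card (fixingSubgroup G (Γ : Set α)) = s := by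
    intro Γ hΓ
    obtain ⟨g, hgG, hg⟩ := w.conj2 Γ Γ₀ hΓ hΓ₀
    exact nk_card_fix_of_map G g hgG Γ Γ₀ hg
  have hspos : 0 < s := Nat.card_pos
  have hrs0 : r * s = Fintype.card α + 2 - k := nk_orbits h Γ₀ hΓ₀
  have hN := nk_card_G h Γ₀ hΓ₀
  obtain ⟨e, he⟩ := nk_choose_dvd G (by omega) h.homog1
  obtain ⟨d, hd⟩ := nk_choose_dvd G (by omega) h.homog
  obtain ⟨hr1, hr2⟩ := nk_arith hk hkn hspos hrs0 hN he hd
  refine ⟨r, s, ⟨hs_all, ?_, ?_, ?_, hr1, hr2, hN⟩⟩
  · -- hpow
    intro g hg Γ hΓ hfix
    have hmem : (⟨g, hg⟩ : G) ∈ fixingSubgroup G (Γ : Set α) := (nk_mem_fix Γ ⟨g, hg⟩).mpr hfix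
    have h1 : (⟨⟨g, hg⟩, hmem⟩ : fixingSubgroup G (Γ : Set α)) ^
        Nat.card (fixingSubgroup G (Γ : Set α)) = 1 := pow_card_eq_one'
    rw [hs_all Γ hΓ] at h1
    have h2 := congrArg (fun u : fixingSubgroup G (Γ : Set α) => ((u : G) : Equiv.Perm α)) h1
    simpa using h2
  · -- hrs
    have : s * r = Fintype.card α + 2 - k := by rw [mul_comm]; exact hrs0
    omega
  · -- hr
    by_contra hlt
    have hr1' : r = 1 := by
      have : r ≠ 0 := by
        intro h0
        rw [h0, zero_mul] at hrs0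
        omega
      omega
    -- every pointwise stabiliser of k-2 points is transitive on the complement
    have hall : ∀ Γ : Finset α, Γ.card + 2 = k → nkOrb G Γ = 1 := by
      intro Γ hΓ
      have h1 := nk_orbits h Γ hΓ
      rw [hs_all Γ hΓ, ← hrs0, hr1', one_mul] at h1
      have : nkOrb G Γ * s = 1 * s := by rw [h1, one_mul]
      exact Nat.eq_of_mul_eq_mul_right hspos this
    apply h.ntrans
    apply Cfsg.Agent.Lib.Helper2.TupleConn.isMultiplyPretransitive_of_step G (by omega)
    intro x i v hv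
    set Γ : Finset α := (Finset.univ.erase i).image x with hΓdef
    have hΓcard : Γ.card + 2 = k := by
      rw [hΓdef, Finset.card_image_of_injective _ x.injective, Finset.card_erase_of_mem
        (Finset.mem_univ i), Finset.card_univ, Fintype.card_fin]
      omega
    have hxi : x i ∉ Γ := by
      rw [hΓdef, Finset.mem_image]
      rintro ⟨j, hj, hji⟩
      exact (Finset.mem_erase.mp hj).1 (x.injective hji)
    have hvΓ : v ∉ Γ := by
      rw [hΓdef, Finset.mem_image]
      rintro ⟨j, -, hjv⟩
      exact hv ⟨j, hjv⟩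
    obtain ⟨g, hgG, hfix, hgx⟩ := nk_trans_of_one Γ (hall Γ hΓcard) (x i) v hxi hvΓ
    refine ⟨g, hgG, hgx, fun j hj => hfix _ ?_⟩
    rw [hΓdef]
    exact Finset.mem_image.mpr ⟨j, Finset.mem_erase.mpr ⟨hj, Finset.mem_univ j⟩, rfl⟩

theorem odd_s {r s : ℕ} (h : Cfg G k) (sk : SK G k) (nk : NK G k r s) : Odd s := by
  by_contra hodd
  have heven : 2 ∣ s := by
    rcases Nat.even_or_odd s with he | ho
    · exact even_iff_two_dvd.mp he
    · exact absurd ho hodd
  obtain ⟨Γ₀, hΓ₀⟩ := nk_exists_set h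
  have : Fact (Nat.Prime 2) := ⟨Nat.prime_two⟩
  rw [← nk.hs Γ₀ hΓ₀] at heven
  obtain ⟨u, hu⟩ := exists_prime_orderOf_dvd_card' 2 heven
  have hu2 : u ^ 2 = 1 := by rw [← hu]; exact pow_orderOf_eq_one u
  have hu1 : u ≠ 1 := by
    intro h1
    rw [h1, orderOf_one] at hu
    omega
  apply sk.noInv (((u : G) : Equiv.Perm α)) (u : G).2 ?_ ?_ Γ₀ hΓ₀ ((nk_mem_fix Γ₀ (u : G)).mp u.2)
  · intro h1
    apply hu1
    apply Subtype.ext
    apply Subtype.ext
    exact h1
  · have := congrArg (fun v : fixingSubgroup G (Γ₀ : Set α) => ((v : G) : Equiv.Perm α)) hu2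
    simpa [pow_two] using this

end Cfsg.Agent.Lib.Helper1.LW
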