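import Mathlib

set_option autoImplicit false

/-!
# `k`-homogeneous implies `(k-1)`-homogeneous (design divisibility conditions)
-/

namespace Cfsg.Agent.Lib.Helper2.HomogDown

open Finset
open scoped Pointwise

section kummer

/-- no carries when adding `q - 1` and a multiple of `q = p ^ e` -/
theorem not_dvd_choose {p e k : ℕ} (hp : p.Prime) (hk : p ^ e ∣ k) :
    ¬ p ∣ Nat.choose (k + (p ^ e - 1)) (p ^ e - 1) := by
  haveI : Fact p.Prime := ⟨hp⟩
  intro hdvd
  have hpos : Nat.choose (k + (p ^ e - 1)) (p ^ e - 1) ≠ 0 :=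
    (Nat.choose_pos (Nat.le_add_left _ _)).ne'
  have h1 : 1 ≤ padicValNat p (Nat.choose (k + (p ^ e - 1)) (p ^ e - 1)) :=
    one_le_padicValNat_of_dvd hpos hdvd
  rw [padicValNat_choose' (Nat.lt_succ_self _)] at h1
  have hempty : ({i ∈ Finset.Ico 1 (Nat.log p (k + (p ^ e - 1))).succ |
      p ^ i ≤ (p ^ e - 1) % p ^ i + k % p ^ i} : Finset ℕ) = ∅ := by
    rw [Finset.filter_eq_empty_iff]
    intro i _
    rw [not_le]
    have hpi : 0 < p ^ i := pow_pos hp.pos i
    have hpe : 0 < p ^ e := pow_pos hp.pos e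
    rcases le_total e i with hei | hie
    · -- `p ^ e ∣ p ^ i`
      have hd : p ^ e ∣ p ^ i := pow_dvd_pow p hei
      have h2 : p ^ e ∣ k % p ^ i := (Nat.dvd_mod_iff hd).mpr hk
      have h3 : k % p ^ i < p ^ i := Nat.mod_lt _ hpi
      have h4 : (p ^ e - 1) % p ^ i ≤ p ^ e - 1 := Nat.mod_le _ _
      obtain ⟨a, ha⟩ := h2
      obtain ⟨b, hb⟩ := hd
      rw [ha, hb] at h3 ⊢
      have hab : a < b := lt_of_mul_lt_mul_left h3 (Nat.zero_le _)
      have : p ^ e * a + p ^ e ≤ p ^ e * b := by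
        calc p ^ e * a + p ^ e = p ^ e * (a + 1) := by ring
          _ ≤ p ^ e * b := Nat.mul_le_mul_left _ hab
      rw [hb] at h4
      omega
    · have hd : p ^ i ∣ k := dvd_trans (pow_dvd_pow p hie) hk
      rw [Nat.mod_eq_zero_of_dvd hd, add_zero]
      exact Nat.mod_lt _ hpi
  rw [hempty, Finset.card_empty] at h1
  exact absurd h1 (by norm_num)

end kummer

section count

variable {α : Type*} [DecidableEq α]

/-- the number of `(c+1)`-subsets of `W` containing a given `c`-subset -/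
theorem card_filter_superset (W Δ : Finset α) (hΔW : Δ ⊆ W) :
    #{Γ ∈ W.powersetCard (#Δ + 1) | Δ ⊆ Γ} = #W - #Δ := by
  have h1 : ({Γ ∈ W.powersetCard (#Δ + 1) | Δ ⊆ Γ} : Finset (Finset α)) =
      (W \ Δ).image (fun x => insert x Δ) := by
    ext Γ
    rw [Finset.mem_filter, Finset.mem_powersetCard, Finset.mem_image]
    constructor
    · rintro ⟨⟨hΓW, hΓc⟩, hΔΓ⟩
      have h2 : #(Γ \ Δ) = 1 := by
        rw [Finset.card_sdiff_of_subset hΔΓ, hΓc]
        omega
      rw [Finset.card_eq_one] at h2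
      obtain ⟨x, hx⟩ := h2
      have hxm : x ∈ Γ \ Δ := by
        rw [hx]
        exact Finset.mem_singleton_self x
      rw [Finset.mem_sdiff] at hxm
      refine ⟨x, Finset.mem_sdiff.mpr ⟨hΓW hxm.1, hxm.2⟩, ?_⟩
      rw [Finset.insert_eq, ← hx, Finset.sdiff_union_of_subset hΔΓ]
    · rintro ⟨x, hx, rfl⟩
      rw [Finset.mem_sdiff] at hx
      refine ⟨⟨?_, Finset.card_insert_of_notMem hx.2⟩, Finset.subset_insert _ _⟩
      exact Finset.insert_subset hx.1 hΔW
  rw [h1, Finset.card_image_of_injOn, Finset.card_sdiff_of_subset hΔW]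
  intro x hx y hy hxy
  rw [Finset.mem_coe, Finset.mem_sdiff] at hx hy
  simp only at hxy
  have : x ∈ insert y Δ := by
    rw [← hxy]
    exact Finset.mem_insert_self _ _
  rw [Finset.mem_insert] at this
  rcases this with h | h
  · exact h
  · exact absurd h hx.2

/-- double counting of flags `Δ ⊆ Γ ⊆ W` -/
theorem double_count (c : ℕ) (W : Finset α) (inO : Finset α → Prop) [DecidablePred inO] :
    ∑ Γ ∈ W.powersetCard (c + 1), #{Δ ∈ Γ.powersetCard c | inO Δ} =
      (#W - c) * #{Δ ∈ W.powersetCard c | inO Δ} := by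
  have h := Finset.sum_card_bipartiteAbove_eq_sum_card_bipartiteBelow
    (fun (Γ : Finset α) (Δ : Finset α) => Δ ⊆ Γ) (s := W.powersetCard (c + 1))
    (t := {Δ ∈ W.powersetCard c | inO Δ})
  have hL : ∀ Γ ∈ W.powersetCard (c + 1),
      #(Finset.bipartiteAbove (fun (Γ : Finset α) (Δ : Finset α) => Δ ⊆ Γ)
        {Δ ∈ W.powersetCard c | inO Δ} Γ) = #{Δ ∈ Γ.powersetCard c | inO Δ} := by
    intro Γ hΓ
    rw [Finset.mem_powersetCard] at hΓ
    congr 1
    ext Δ
    simp only [Finset.bipartiteAbove, Finset.mem_filter, Finset.mem_powersetCard]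
    constructor
    · rintro ⟨⟨⟨_, h2⟩, h3⟩, h4⟩
      exact ⟨⟨h4, h2⟩, h3⟩
    · rintro ⟨⟨h1, h2⟩, h3⟩
      exact ⟨⟨⟨h1.trans hΓ.1, h2⟩, h3⟩, h1⟩
  have hR : ∀ Δ ∈ ({Δ ∈ W.powersetCard c | inO Δ} : Finset (Finset α)),
      #(Finset.bipartiteBelow (fun (Γ : Finset α) (Δ : Finset α) => Δ ⊆ Γ)
        (W.powersetCard (c + 1)) Δ) = #W - c := by
    intro Δ hΔ
    rw [Finset.mem_filter, Finset.mem_powersetCard] at hΔ
    have := card_filter_superset W Δ hΔ.1.1
    rw [hΔ.1.2] at this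
    rw [← this]
    rfl
  rw [Finset.sum_congr rfl hL, Finset.sum_congr rfl hR, Finset.sum_const, smul_eq_mul,
    mul_comm] at h
  exact h

end count

section main

variable {G : Type*} [Group G] {α : Type*} [Fintype α] [DecidableEq α] [MulAction G α]

/-- a `k`-homogeneous group of degree `n` with `k + q - 1 ≤ n` for all prime powers `q ∣ k`
is `(k-1)`-homogeneous -/
theorem pred_homog {k : ℕ} (hk : 2 ≤ k)
    (hG : ∀ Γ Γ' : Finset α, #Γ = k → #Γ' = k → ∃ g : G, g • Γ = Γ')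
    (hq : ∀ q : ℕ, IsPrimePow q → q ∣ k → k + q - 1 ≤ Fintype.card α)
    (Δ₁ Δ₂ : Finset α) (h₁ : #Δ₁ = k - 1) (h₂ : #Δ₂ = k - 1) : ∃ g : G, g • Δ₁ = Δ₂ := by
  classical
  obtain ⟨c, rfl⟩ : ∃ c, k = c + 1 := ⟨k - 1, by omega⟩
  simp only [Nat.add_sub_cancel] at h₁ h₂
  let inO : Finset α → Prop := fun Δ => ∃ g : G, g • Δ₁ = Δ
  let T : Finset α → ℕ := fun Γ => #{Δ ∈ Γ.powersetCard c | inO Δ}
  have hinv : ∀ (g : G) (Δ : Finset α), inO Δ → inO (g • Δ) := by
    rintro g Δ ⟨h, rfl⟩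
    exact ⟨g * h, mul_smul g h Δ₁⟩
  have hT : ∀ Γ Γ' : Finset α, #Γ = c + 1 → #Γ' = c + 1 → T Γ ≤ T Γ' := by
    intro Γ Γ' hΓ hΓ'
    obtain ⟨g, rfl⟩ := hG Γ Γ' hΓ hΓ'
    apply Finset.card_le_card_of_injOn (fun Δ => g • Δ)
    · intro Δ hΔ
      rw [Finset.mem_coe, Finset.mem_filter, Finset.mem_powersetCard] at hΔ ⊢
      refine ⟨⟨?_, ?_⟩, hinv g Δ hΔ.2⟩
      · exact Finset.smul_finset_subset_smul_finset hΔ.1.1
      · rw [Finset.card_smul_finset, hΔ.1.2]
    · intro Δ _ Δ' _ h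
      exact smul_left_cancel g h
  have hT' : ∀ Γ Γ' : Finset α, #Γ = c + 1 → #Γ' = c + 1 → T Γ = T Γ' :=
    fun Γ Γ' hΓ hΓ' => le_antisymm (hT Γ Γ' hΓ hΓ') (hT Γ' Γ hΓ' hΓ)
  -- the degree is at least `k`
  have hcard : c + 1 ≤ Fintype.card α := by
    have h1 : (c + 1).minFac.Prime := Nat.minFac_prime (by omega)
    have := hq (c + 1).minFac h1.isPrimePow (Nat.minFac_dvd _)
    have := h1.pos
    omega
  obtain ⟨Γ₀, hΔΓ₀, _, hΓ₀⟩ := Finset.exists_subsuperset_card_eq (Finset.subset_univ Δ₁)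
    (by omega : #Δ₁ ≤ c + 1) (by rw [Finset.card_univ]; exact hcard)
  obtain ⟨Γ₂, hΔΓ₂, _, hΓ₂⟩ := Finset.exists_subsuperset_card_eq (Finset.subset_univ Δ₂)
    (by omega : #Δ₂ ≤ c + 1) (by rw [Finset.card_univ]; exact hcard)
  set t := T Γ₀ with ht
  have ht1 : 1 ≤ t := by
    rw [ht]
    apply Finset.card_pos.mpr
    refine ⟨Δ₁, ?_⟩
    rw [Finset.mem_filter, Finset.mem_powersetCard]
    exact ⟨⟨hΔΓ₀, h₁⟩, 1, one_smul G Δ₁⟩
  have htk : t ≤ c + 1 := by
    rw [ht]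
    refine (Finset.card_filter_le _ _).trans ?_
    rw [Finset.card_powersetCard, hΓ₀, Nat.choose_succ_self_right]
  -- divisibility by prime powers
  have hdiv : ∀ p : ℕ, p.Prime → (c + 1).factorization p ≤ t.factorization p := by
    intro p hp
    by_cases hpk : p ∣ c + 1
    · set e := (c + 1).factorization p with he
      have he1 : 1 ≤ e := (hp.dvd_iff_one_le_factorization (by omega)).mp hpk
      have hqk : p ^ e ∣ c + 1 := Nat.ordProj_dvd _ _
      have hqpp : IsPrimePow (p ^ e) := hp.isPrimePow.pow (by omega)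
      have hn := hq (p ^ e) hqpp hqk
      have hqpos : 0 < p ^ e := pow_pos hp.pos e
      obtain ⟨W, _, hW⟩ := Finset.exists_subset_card_eq
        (s := (Finset.univ : Finset α)) (n := c + 1 + (p ^ e - 1))
        (by rw [Finset.card_univ]; omega)
      have hdc := double_count c W inO
      have hsum : ∑ Γ ∈ W.powersetCard (c + 1), #{Δ ∈ Γ.powersetCard c | inO Δ} =
          (c + 1 + (p ^ e - 1)).choose (c + 1) * t := by
        rw [Finset.sum_congr rfl (fun Γ hΓ => hT' Γ Γ₀ (Finset.mem_powersetCard.mp hΓ).2 hΓ₀),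
          Finset.sum_const, smul_eq_mul, Finset.card_powersetCard, hW]
      rw [hsum, hW] at hdc
      have hWc : c + 1 + (p ^ e - 1) - c = p ^ e := by omega
      rw [hWc, Nat.choose_symm_add] at hdc
      have hcop : (p ^ e).Coprime ((c + 1 + (p ^ e - 1)).choose (p ^ e - 1)) :=
        Nat.Coprime.pow_left e ((Nat.Prime.coprime_iff_not_dvd hp).mpr (not_dvd_choose hp hqk))
      have hqt : p ^ e ∣ t := hcop.dvd_of_dvd_mul_left (Dvd.intro _ hdc.symm)
      exact (hp.pow_dvd_iff_le_factorization (by omega)).mp hqt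
    · rw [Nat.factorization_eq_zero_of_not_dvd hpk]
      exact Nat.zero_le _
  have hkt : c + 1 ∣ t :=
    (Nat.factorization_prime_le_iff_dvd (by omega) (by omega)).mp hdiv
  have hteq : t = c + 1 := le_antisymm htk (Nat.le_of_dvd (by omega) hkt)
  -- conclusion
  have hT2 : T Γ₂ = #(Γ₂.powersetCard c) := by
    rw [hT' Γ₂ Γ₀ hΓ₂ hΓ₀, ← ht, hteq, Finset.card_powersetCard, hΓ₂, Nat.choose_succ_self_right]
  have := (Finset.card_filter_eq_iff).mp hT2 Δ₂ (Finset.mem_powersetCard.mpr ⟨hΔΓ₂, h₂⟩)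
  exact this

end main

end Cfsg.Agent.Lib.Helper2.HomogDown
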