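import Mathlib

set_option autoImplicit false

/-!
# Gleason's lemma (relative form)

If `H` acts on a finite set, and two `p`-subgroups `Pa, Pb ≤ H` have, inside the `H`-orbit `O` of `b`,
fixed points at most `{a}` and exactly `{b}` respectively, then `a ∈ O`.
-/

namespace Cfsg.Agent.Lib.Helper2.Gleason

open MulAction

variable {G : Type*} [Group G] {α : Type*} [MulAction G α] [Finite α] {p : ℕ} [hp : Fact p.Prime]

theorem card_modEq_inter_fixedPoints (P : Subgroup G) (hP : IsPGroup p P) (O : Set α)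
    (hO : ∀ q ∈ P, ∀ y ∈ O, q • y ∈ O) :
    Nat.card O ≡ Nat.card ↥(O ∩ fixedPoints P α) [MOD p] := by
  let S : SubMulAction P α :=
    { carrier := O
      smul_mem' := fun q y hy => hO q.1 q.2 y hy }
  have h1 := hP.card_modEq_card_fixedPoints S
  have e : fixedPoints P S ≃ ↥(O ∩ fixedPoints P α) :=
    { toFun := fun y => ⟨(y.1 : α), y.1.2, fun q => by
        have := y.2 q
        exact congrArg Subtype.val this⟩
      invFun := fun y => ⟨⟨y.1, y.2.1⟩, fun q => Subtype.ext (y.2.2 q)⟩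
      left_inv := fun y => rfl
      right_inv := fun y => rfl }
  have h2 : Nat.card S = Nat.card O := rfl
  rw [← h2, ← Nat.card_congr e]
  exact h1

theorem gleason (H : Subgroup G) (a b : α) (Pa Pb : Subgroup G) (hPa : IsPGroup p Pa)
    (hPb : IsPGroup p Pb) (hPaH : Pa ≤ H) (hPbH : Pb ≤ H)
    (hfa : ∀ y ∈ orbit H b, y ∈ fixedPoints Pa α → y = a)
    (hfb : ∀ y ∈ orbit H b, y ∈ fixedPoints Pb α ↔ y = b) :
    a ∈ orbit H b := by
  by_contra ha
  have hinv : ∀ P : Subgroup G, P ≤ H → ∀ q ∈ P, ∀ y ∈ orbit H b, q • y ∈ orbit H b := by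
    intro P hPH q hq y hy
    obtain ⟨h, rfl⟩ := hy
    refine ⟨⟨q, hPH hq⟩ * h, ?_⟩
    change (⟨q, hPH hq⟩ * h : H) • b = q • (h • b)
    rw [mul_smul]; rfl
  have h1 := card_modEq_inter_fixedPoints Pa hPa (orbit H b) (hinv Pa hPaH)
  have h2 := card_modEq_inter_fixedPoints Pb hPb (orbit H b) (hinv Pb hPbH)
  have e1 : (orbit H b ∩ fixedPoints Pa α) = ∅ := by
    ext y
    simp only [Set.mem_inter_iff, Set.mem_empty_iff_false, iff_false, not_and]
    intro hy hy'
    exact ha (hfa y hy hy' ▸ hy)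
  have e2 : (orbit H b ∩ fixedPoints Pb α) = {b} := by
    ext y
    simp only [Set.mem_inter_iff, Set.mem_singleton_iff]
    constructor
    · rintro ⟨hy, hy'⟩
      exact (hfb y hy).mp hy'
    · rintro rfl
      exact ⟨mem_orbit_self _, (hfb y (mem_orbit_self _)).mpr rfl⟩
  rw [e1] at h1
  rw [e2] at h2
  simp only [Nat.card_eq_fintype_card, Fintype.card_ofIsEmpty, Nat.card_unique] at h1 h2
  have h3 : (0 : ℕ) ≡ 1 [MOD p] := h1.symm.trans h2
  have h4 : p ∣ 1 := (Nat.modEq_zero_iff_dvd.mp h3.symm)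
  exact hp.out.one_lt.ne' (Nat.dvd_one.mp h4)

end Cfsg.Agent.Lib.Helper2.Gleason
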