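import Mathlib
import Cfsg.Prelude
import Cfsg.Agent.Lib.Helper2.Schmidt3
import Cfsg.Agent.Lib.Helper2.CoreFree
import Cfsg.Agent.Lib.Lead.ThompsonPQ
import Cfsg.Agent.Lib.Lead.Frattini
import Cfsg.Agent.Lib.Lead.CoprimeFrattini

set_option autoImplicit false
open Pointwise
open scoped commutatorElement

namespace Cfsg.Agent.Lib.Helper2.FrattiniSocle

open Cfsg.Agent.Lib.Lead Cfsg.Agent.Lib.Helper2.Schmidt

section
variable {G : Type*} [Group G]

/-- elementwise factorization in a join with a normal left factor -/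
theorem exists_mul_of_mem_normal_sup {N K : Subgroup G} [N.Normal] {g : G} (hg : g ∈ N ⊔ K) :
    ∃ n ∈ N, ∃ k ∈ K, g = n * k := by
  have : g ∈ ((N ⊔ K : Subgroup G) : Set G) := hg
  rw [Subgroup.normal_mul] at this
  obtain ⟨n, hn, k, hk, rfl⟩ := this
  exact ⟨n, hn, k, hk, rfl⟩

/-- The Frattini subgroup of a normal subgroup lies in the Frattini subgroup of the group. -/
theorem frattini_map_subtype_le [Finite G] (N : Subgroup G) [hN : N.Normal] :
    (frattini N).map N.subtype ≤ frattini G := by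
  rw [le_frattini_iff]
  intro M hM
  by_contra hle
  set Φ := (frattini N).map N.subtype with hΦ
  have hΦN : Φ ≤ N := Subgroup.map_subtype_le _
  have hΦn : Φ.Normal := by
    rw [← Subgroup.normalizer_eq_top_iff, eq_top_iff]
    refine le_trans ?_ (le_normalizer_map_characteristic N (frattini N))
    rw [Subgroup.normalizer_eq_top_iff.mpr hN]
  have htop : Φ ⊔ M = ⊤ := by
    by_contra hne
    have h1 : M ≤ Φ ⊔ M := le_sup_right
    rcases eq_or_lt_of_le h1 with h2 | h2
    · apply hle
      rw [h2]; exact le_sup_left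
    · exact hne (hM.2 _ h2)
  have h3 : M.subgroupOf N ⊔ frattini N = ⊤ := by
    rw [eq_top_iff]
    intro x _
    have hx : (x : G) ∈ Φ ⊔ M := by rw [htop]; trivial
    obtain ⟨f, hf, m, hm, hxe⟩ := exists_mul_of_mem_normal_sup hx
    have hfN : f ∈ N := hΦN hf
    have hmN : m ∈ N := by
      have : m = f⁻¹ * (x : G) := by rw [hxe]; group
      rw [this]; exact N.mul_mem (N.inv_mem hfN) x.2
    have hx' : x = (⟨f, hfN⟩ : N) * ⟨m, hmN⟩ := Subtype.ext hxe
    rw [hx']
    apply Subgroup.mul_mem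
    · apply Subgroup.mem_sup_right
      obtain ⟨y, hy, hyf⟩ := hf
      have : y = ⟨f, hfN⟩ := Subtype.ext hyf
      rw [← this]; exact hy
    · apply Subgroup.mem_sup_left
      rw [Subgroup.mem_subgroupOf]; exact hm
  have h4 := frattini_nongenerating h3
  rw [Subgroup.subgroupOf_eq_top] at h4
  exact hle (hΦN.trans h4)

/-- In a finite nilpotent group the derived subgroup lies in the Frattini subgroup. -/
theorem commutator_le_frattini_of_nilpotent [Finite G] [hnil : Group.IsNilpotent G] :
    commutator G ≤ frattini G := by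
  rw [le_frattini_iff]
  intro M hM
  have hn : ∀ H : Subgroup G, IsCoatom H → H.Normal :=
    ((Group.isNilpotent_of_finite_tfae (G := G)).out 0 2).mp hnil
  haveI hMn : M.Normal := hn M hM
  apply commutator_le_of_quotient_comm M
  -- G ⧸ M is cyclic
  have hne : ∃ g : G, g ∉ M := by
    by_contra hcon
    push Not at hcon
    apply hM.1
    rw [eq_top_iff]; intro x _; exact hcon x
  obtain ⟨g, hg⟩ := hne
  have hK : (Subgroup.zpowers (QuotientGroup.mk g : G ⧸ M)).comap (QuotientGroup.mk' M) = ⊤ := by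
    apply hM.2
    refine lt_of_le_of_ne (Cfsg.Agent.Lib.Helper2.le_comap_mk M _) ?_
    intro heq
    apply hg
    rw [heq, Subgroup.mem_comap]
    exact Subgroup.mem_zpowers _
  intro a b
  obtain ⟨a', rfl⟩ := QuotientGroup.mk_surjective a
  obtain ⟨b', rfl⟩ := QuotientGroup.mk_surjective b
  have ha : a' ∈ (Subgroup.zpowers (QuotientGroup.mk g : G ⧸ M)).comap (QuotientGroup.mk' M) := by
    rw [hK]; trivial
  have hb : b' ∈ (Subgroup.zpowers (QuotientGroup.mk g : G ⧸ M)).comap (QuotientGroup.mk' M) := by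
    rw [hK]; trivial
  rw [Subgroup.mem_comap] at ha hb
  obtain ⟨i, hi⟩ := ha
  obtain ⟨j, hj⟩ := hb
  rw [QuotientGroup.mk'_apply] at hi hj
  rw [← hi, ← hj]
  exact (Commute.zpow_zpow_self _ i j).eq

/-- A nilpotent normal subgroup of a group with trivial Frattini subgroup is abelian. -/
theorem isMulCommutative_of_nilpotent_normal [Finite G] (hΦ : frattini G = ⊥)
    (N : Subgroup G) [N.Normal] (hnil : Group.IsNilpotent N) : IsMulCommutative N := by
  have h1 : (commutator N).map N.subtype ≤ frattini G :=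
    (Subgroup.map_mono commutator_le_frattini_of_nilpotent).trans (frattini_map_subtype_le N)
  rw [hΦ, le_bot_iff, Subgroup.map_eq_bot_iff_of_injective _ N.subtype_injective] at h1
  rw [← Subgroup.center_eq_top_iff]
  rw [eq_top_iff]
  intro x _
  rw [Subgroup.mem_center_iff]
  intro y
  have h2 : ⁅y, x⁆ ∈ commutator N := by
    rw [commutator_def]
    exact Subgroup.commutator_mem_commutator (Subgroup.mem_top _) (Subgroup.mem_top _)
  rw [h1, Subgroup.mem_bot, commutatorElement_eq_one_iff_mul_comm] at h2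
  exact h2

/-- If `Φ(G) = 1`, every abelian normal subgroup has a complement. -/
theorem exists_complement_of_abelian_normal [Finite G] (hΦ : frattini G = ⊥)
    (N : Subgroup G) [hN : N.Normal] [hc : IsMulCommutative N] :
    ∃ K : Subgroup G, N ⊔ K = ⊤ ∧ N ⊓ K = ⊥ := by
  obtain ⟨K, hK⟩ := exists_minimal_of_wellFoundedLT
    (fun K : Subgroup G => N ⊔ K = ⊤) ⟨⊤, sup_top_eq N⟩
  have hsup : N ⊔ K = ⊤ := hK.prop
  refine ⟨K, hsup, ?_⟩
  by_contra hD
  set D := N ⊓ K with hDdef
  have hDn : D.Normal := by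
    rw [← Subgroup.normalizer_eq_top_iff, eq_top_iff, ← hsup]
    apply sup_le
    · intro n hn
      apply Cfsg.Agent.Lib.Helper2.mem_normalizer_of_commute
      intro d hd
      have := mul_comm' (⟨n, hn⟩ : N) ⟨d, hd.1⟩
      exact congrArg Subtype.val this
    · intro k hk
      rw [Subgroup.mem_normalizer_iff]
      intro d
      constructor
      · rintro ⟨h1, h2⟩
        exact ⟨hN.conj_mem d h1 k, K.mul_mem (K.mul_mem hk h2) (K.inv_mem hk)⟩
      · rintro ⟨h1, h2⟩
        constructor
        · have := hN.conj_mem _ h1 k⁻¹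
          simpa [mul_assoc] using this
        · have := K.mul_mem (K.mul_mem (K.inv_mem hk) h2) hk
          simpa [mul_assoc] using this
  have hDΦ : ¬ D ≤ frattini G := by
    rw [hΦ, le_bot_iff]; exact hD
  rw [le_frattini_iff] at hDΦ
  push Not at hDΦ
  obtain ⟨M, hM, hDM⟩ := hDΦ
  have htop : D ⊔ M = ⊤ := by
    by_contra hne
    have h1 : M ≤ D ⊔ M := le_sup_right
    rcases eq_or_lt_of_le h1 with h2 | h2
    · apply hDM
      rw [h2]; exact le_sup_left
    · exact hne (hM.2 _ h2)
  have hsup' : N ⊔ (K ⊓ M) = ⊤ := by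
    rw [eq_top_iff]
    intro g _
    have hg : g ∈ N ⊔ K := by rw [hsup]; trivial
    obtain ⟨n, hn, k, hk, rfl⟩ := exists_mul_of_mem_normal_sup hg
    have hk' : k ∈ D ⊔ M := by rw [htop]; trivial
    obtain ⟨d, hd, m, hm, rfl⟩ := exists_mul_of_mem_normal_sup hk'
    have hmK : m ∈ K := by
      have : m = d⁻¹ * (d * m) := by group
      rw [this]; exact K.mul_mem (K.inv_mem hd.2) hk
    rw [← mul_assoc]
    exact Subgroup.mul_mem _ (Subgroup.mem_sup_left (N.mul_mem hn hd.1))
      (Subgroup.mem_sup_right ⟨hmK, hm⟩)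
  have hKM : K ≤ K ⊓ M := hK.le_of_le hsup' inf_le_left
  exact hDM (inf_le_right.trans (hKM.trans inf_le_right))

/-- **S0586**: if `Φ(G) = 1`, the Fitting subgroup is the join of the abelian minimal normal
subgroups. -/
theorem fitting_eq_abelian_socle [Finite G] (hΦ : frattini G = ⊥) :
    Cfsg.fittingSubgroup G = sSup {N : Subgroup G | N.Normal ∧ N ≠ ⊥ ∧ IsMulCommutative N ∧
      ∀ K : Subgroup G, K.Normal → K ≤ N → K = ⊥ ∨ K = N} := by
  set 𝒮 := {N : Subgroup G | N.Normal ∧ N ≠ ⊥ ∧ IsMulCommutative N ∧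
      ∀ K : Subgroup G, K.Normal → K ≤ N → K = ⊥ ∨ K = N} with h𝒮
  set F := Cfsg.fittingSubgroup G with hF
  set S := sSup 𝒮 with hS
  haveI hFn : F.Normal := fittingSubgroup_normal
  have hFc : IsMulCommutative F :=
    isMulCommutative_of_nilpotent_normal hΦ F fittingSubgroup_isNilpotent
  have hSF : S ≤ F := by
    apply sSup_le
    rintro N ⟨hNn, -, hNc, -⟩
    exact le_fittingSubgroup hNn (isNilpotent_of_isMulCommutative hNc)
  apply le_antisymm _ hSF
  haveI hSn : S.Normal := Subgroup.sSup_normal _ (fun N hN => hN.1)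
  haveI hSc : IsMulCommutative S := by
    refine ⟨⟨fun a b => Subtype.ext ?_⟩⟩
    have := mul_comm' (⟨a, hSF a.2⟩ : F) ⟨b, hSF b.2⟩
    show (a : G) * (b : G) = (b : G) * (a : G)
    exact congrArg Subtype.val this
  obtain ⟨K, hsup, hinf⟩ := exists_complement_of_abelian_normal hΦ S
  set E := F ⊓ K with hE
  have hEn : E.Normal := by
    rw [← Subgroup.normalizer_eq_top_iff, eq_top_iff, ← hsup]
    apply sup_le
    · intro n hn
      apply Cfsg.Agent.Lib.Helper2.mem_normalizer_of_commute
      intro d hd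
      have := mul_comm' (⟨n, hSF hn⟩ : F) ⟨d, hd.1⟩
      exact congrArg Subtype.val this
    · intro k hk
      rw [Subgroup.mem_normalizer_iff]
      intro d
      constructor
      · rintro ⟨h1, h2⟩
        exact ⟨hFn.conj_mem d h1 k, K.mul_mem (K.mul_mem hk h2) (K.inv_mem hk)⟩
      · rintro ⟨h1, h2⟩
        constructor
        · have := hFn.conj_mem _ h1 k⁻¹
          simpa [mul_assoc] using this
        · have := K.mul_mem (K.mul_mem (K.inv_mem hk) h2) hk
          simpa [mul_assoc] using this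
  have hEbot : E = ⊥ := by
    by_contra hne
    haveI := hEn
    obtain ⟨M, hME, hMn, hMbot, hMmin⟩ := Cfsg.Agent.Lib.Helper2.exists_minNormal_le E hne
    have hMc : IsMulCommutative M := by
      refine ⟨⟨fun a b => Subtype.ext ?_⟩⟩
      have := mul_comm' (⟨a, (hME a.2).1⟩ : F) ⟨b, (hME b.2).1⟩
      show (a : G) * (b : G) = (b : G) * (a : G)
      exact congrArg Subtype.val this
    have hMS : M ≤ S := le_sSup ⟨hMn, hMbot, hMc, hMmin⟩
    apply hMbot
    rw [eq_bot_iff, ← hinf]
    exact le_inf hMS (hME.trans inf_le_right)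
  intro f hf
  have hf' : f ∈ S ⊔ K := by rw [hsup]; trivial
  obtain ⟨s, hs, k, hk, rfl⟩ := exists_mul_of_mem_normal_sup hf'
  have hkF : k ∈ F := by
    have : k = s⁻¹ * (s * k) := by group
    rw [this]; exact F.mul_mem (F.inv_mem (hSF hs)) hf
  have hkE : k ∈ E := ⟨hkF, hk⟩
  rw [hEbot, Subgroup.mem_bot] at hkE
  rw [hkE, mul_one]; exact hs

end

end Cfsg.Agent.Lib.Helper2.FrattiniSocle
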