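import Mathlib
import Cfsg.Agent.Lib.Helper2.SpIsom
import Cfsg.Agent.Lib.Helper1.SpCard

set_option autoImplicit false

namespace Cfsg.Agent.Lib.Helper2

namespace OddSp

open Matrix Cfsg.Agent.Lib.Helper2.Symp

variable {F : Type*} [Field F] {m : ℕ}

theorem sympForm_sum (u v : Fin m ⊕ Fin m → F) :
    Cfsg.sympForm m F u v =
      ∑ i : Fin m, (u (Sum.inr i) * v (Sum.inl i) - u (Sum.inl i) * v (Sum.inr i)) := by
  unfold Cfsg.sympForm
  rw [dotProduct, Fintype.sum_sum_type]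
  simp only [J_mulVec_apply_inl, J_mulVec_apply_inr]
  rw [← Finset.sum_add_distrib]
  apply Finset.sum_congr rfl
  intro i _
  ring

/-- polarization of the plus form in characteristic two -/
theorem plus_add (h2 : (2 : F) = 0) (z z' : Fin m ⊕ Fin m → F) :
    Cfsg.quadFormPlus m F (z + z') =
      Cfsg.quadFormPlus m F z + Cfsg.quadFormPlus m F z' + Cfsg.sympForm m F z z' := by
  rw [sympForm_sum]
  unfold Cfsg.quadFormPlus
  rw [← Finset.sum_add_distrib, ← Finset.sum_add_distrib]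
  apply Finset.sum_congr rfl
  intro i _
  simp only [Pi.add_apply]
  linear_combination (z (Sum.inl i) * z' (Sum.inr i)) * h2

theorem plus_smul (c : F) (z : Fin m ⊕ Fin m → F) :
    Cfsg.quadFormPlus m F (c • z) = c ^ 2 * Cfsg.quadFormPlus m F z := by
  unfold Cfsg.quadFormPlus
  rw [Finset.mul_sum]
  apply Finset.sum_congr rfl
  intro i _
  simp only [Pi.smul_apply, smul_eq_mul]
  ring

theorem plus_zero : Cfsg.quadFormPlus m F 0 = 0 := by
  unfold Cfsg.quadFormPlus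
  simp

/-- first coordinate -/
def hd (v : Unit ⊕ (Fin m ⊕ Fin m) → F) : F := v (Sum.inl ())

/-- remaining coordinates -/
def tl (v : Unit ⊕ (Fin m ⊕ Fin m) → F) : Fin m ⊕ Fin m → F := fun i => v (Sum.inr i)

/-- assemble a vector -/
def mk (a : F) (z : Fin m ⊕ Fin m → F) : Unit ⊕ (Fin m ⊕ Fin m) → F := Sum.elim (fun _ => a) z

@[simp] theorem hd_mk (a : F) (z : Fin m ⊕ Fin m → F) : hd (mk a z) = a := rfl
@[simp] theorem tl_mk (a : F) (z : Fin m ⊕ Fin m → F) : tl (mk a z) = z := rfl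

theorem mk_hd_tl (v : Unit ⊕ (Fin m ⊕ Fin m) → F) : mk (hd v) (tl v) = v := by
  funext i
  rcases i with u | i
  · rfl
  · rfl

theorem odd_eq (v : Unit ⊕ (Fin m ⊕ Fin m) → F) :
    Cfsg.quadFormOdd m F v = hd v ^ 2 + Cfsg.quadFormPlus m F (tl v) := rfl

theorem hd_add (v w : Unit ⊕ (Fin m ⊕ Fin m) → F) : hd (v + w) = hd v + hd w := rfl
theorem tl_add (v w : Unit ⊕ (Fin m ⊕ Fin m) → F) : tl (v + w) = tl v + tl w := rfl

theorem hd_mulVec (M : Matrix (Unit ⊕ (Fin m ⊕ Fin m)) (Unit ⊕ (Fin m ⊕ Fin m)) F)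
    (v : Unit ⊕ (Fin m ⊕ Fin m) → F) :
    hd (M *ᵥ v) = M (Sum.inl ()) (Sum.inl ()) * hd v +
      (fun j => M (Sum.inl ()) (Sum.inr j)) ⬝ᵥ tl v := by
  unfold hd tl
  simp [Matrix.mulVec, dotProduct, Fintype.sum_sum_type]

theorem tl_mulVec (M : Matrix (Unit ⊕ (Fin m ⊕ Fin m)) (Unit ⊕ (Fin m ⊕ Fin m)) F)
    (v : Unit ⊕ (Fin m ⊕ Fin m) → F) :
    tl (M *ᵥ v) = hd v • (fun i => M (Sum.inr i) (Sum.inl ())) +
      (M.submatrix Sum.inr Sum.inr) *ᵥ tl v := by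
  funext i
  unfold hd tl
  simp [Matrix.mulVec, dotProduct, Fintype.sum_sum_type]
  ring

section iso

variable {ι : Type} [Fintype ι] [DecidableEq ι] {Q : (ι → F) → F}

theorem iso_Q' (g : ↥(Cfsg.isometryGroup F Q)) (x : ι → F) :
    Q (((g : Matrix.GeneralLinearGroup ι F) : Matrix ι ι F) *ᵥ x) = Q x := g.2 x x

theorem mul_inv_mulVec (g : ↥(Cfsg.isometryGroup F Q)) (x : ι → F) :
    ((g : Matrix.GeneralLinearGroup ι F) : Matrix ι ι F) *ᵥ
      ((((g⁻¹ : ↥(Cfsg.isometryGroup F Q)) : Matrix.GeneralLinearGroup ι F) : Matrix ι ι F) *ᵥ x) =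
      x := by
  rw [Matrix.mulVec_mulVec]
  have : ((g : Matrix.GeneralLinearGroup ι F) : Matrix ι ι F) *
      (((g⁻¹ : ↥(Cfsg.isometryGroup F Q)) : Matrix.GeneralLinearGroup ι F) : Matrix ι ι F) = 1 := by
    have h1 : (g * g⁻¹ : ↥(Cfsg.isometryGroup F Q)) = 1 := mul_inv_cancel g
    have h2 := congrArg (fun a : ↥(Cfsg.isometryGroup F Q) =>
      ((a : Matrix.GeneralLinearGroup ι F) : Matrix ι ι F)) h1
    exact h2
  rw [this, Matrix.one_mulVec]

end iso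

/-- the first column of an isometry of the odd-dimensional form in characteristic two -/
theorem first_col (h2 : (2 : F) = 0) (g : ↥(Cfsg.isometryGroup F (Cfsg.quadFormOdd m F))) :
    (∀ i, ((g : Matrix.GeneralLinearGroup (Unit ⊕ (Fin m ⊕ Fin m)) F) :
        Matrix (Unit ⊕ (Fin m ⊕ Fin m)) (Unit ⊕ (Fin m ⊕ Fin m)) F) (Sum.inr i) (Sum.inl ()) = 0) ∧
      ((g : Matrix.GeneralLinearGroup (Unit ⊕ (Fin m ⊕ Fin m)) F) :
        Matrix (Unit ⊕ (Fin m ⊕ Fin m)) (Unit ⊕ (Fin m ⊕ Fin m)) F) (Sum.inl ()) (Sum.inl ()) = 1 := by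
  obtain ⟨M, hM⟩ : ∃ M : Matrix (Unit ⊕ (Fin m ⊕ Fin m)) (Unit ⊕ (Fin m ⊕ Fin m)) F,
      M = ((g : Matrix.GeneralLinearGroup (Unit ⊕ (Fin m ⊕ Fin m)) F) :
        Matrix (Unit ⊕ (Fin m ⊕ Fin m)) (Unit ⊕ (Fin m ⊕ Fin m)) F) := ⟨_, rfl⟩
  rw [← hM]
  obtain ⟨e, he⟩ : ∃ e, e = M *ᵥ (mk 1 0) := ⟨_, rfl⟩
  have hadd1 : ∀ x : Unit ⊕ (Fin m ⊕ Fin m) → F,
      Cfsg.quadFormOdd m F (x + mk 1 0) = Cfsg.quadFormOdd m F x + 1 := by
    intro x
    rw [odd_eq, odd_eq, hd_add, tl_add, hd_mk, tl_mk, add_zero]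
    linear_combination (hd x) * h2
  have hshift : ∀ y, Cfsg.quadFormOdd m F (y + e) = Cfsg.quadFormOdd m F y + 1 := by
    intro y
    obtain ⟨x', hx'⟩ : ∃ x', x' = (((g⁻¹ : ↥(Cfsg.isometryGroup F (Cfsg.quadFormOdd m F))) :
        Matrix.GeneralLinearGroup (Unit ⊕ (Fin m ⊕ Fin m)) F) :
        Matrix (Unit ⊕ (Fin m ⊕ Fin m)) (Unit ⊕ (Fin m ⊕ Fin m)) F) *ᵥ y := ⟨_, rfl⟩
    have h1 : M *ᵥ x' = y := by rw [hx', hM]; exact mul_inv_mulVec g y
    have e1 : Cfsg.quadFormOdd m F (M *ᵥ (x' + mk 1 0)) = Cfsg.quadFormOdd m F (x' + mk 1 0) := by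
      rw [hM]; exact iso_Q' g _
    have e2 : Cfsg.quadFormOdd m F (M *ᵥ x') = Cfsg.quadFormOdd m F x' := by
      rw [hM]; exact iso_Q' g _
    rw [Matrix.mulVec_add, h1, ← he] at e1
    rw [h1] at e2
    rw [e1, hadd1, e2]
  have hQ0 : Cfsg.quadFormOdd m F 0 = 0 := by
    rw [odd_eq]
    have : tl (0 : Unit ⊕ (Fin m ⊕ Fin m) → F) = 0 := rfl
    rw [this, plus_zero]
    show (0 : F) ^ 2 + 0 = 0
    ring
  have hQe : Cfsg.quadFormOdd m F e = 1 := by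
    have := hshift 0
    rw [zero_add, hQ0, zero_add] at this
    exact this
  have hperp : ∀ z, Cfsg.sympForm m F z (tl e) = 0 := by
    intro z
    have h1 := hshift (mk 0 z)
    rw [odd_eq, odd_eq, hd_add, tl_add, hd_mk, tl_mk, plus_add h2] at h1
    rw [odd_eq] at hQe
    linear_combination h1 - hQe
  have htl : tl e = 0 := by
    apply SpIsom.sympForm_nondeg
    intro y
    rw [sympForm_swap, hperp, neg_zero]
  have hcol : ∀ i, M (Sum.inr i) (Sum.inl ()) = tl e i := by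
    intro i
    rw [he]
    unfold tl mk
    simp [Matrix.mulVec, dotProduct, Fintype.sum_sum_type]
  have hcol0 : M (Sum.inl ()) (Sum.inl ()) = hd e := by
    rw [he]
    unfold hd mk
    simp [Matrix.mulVec, dotProduct, Fintype.sum_sum_type]
  refine ⟨fun i => by rw [hcol, htl]; rfl, ?_⟩
  rw [hcol0]
  rw [odd_eq, htl, plus_zero, add_zero] at hQe
  have h3 : (hd e - 1) ^ 2 = 0 := by linear_combination hQe + (1 - hd e) * h2
  have := pow_eq_zero_iff (two_ne_zero) |>.1 h3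
  exact sub_eq_zero.1 this

end OddSp

end Cfsg.Agent.Lib.Helper2
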