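import Mathlib
import Cfsg.Prelude.Def_FusionSystem
import Cfsg.Prelude.Def_Solvable

/-! Definitions for S5121 (normal subsystems of the fusion system of a group of characteristic `p`
correspond to normal subgroups).  See `notes/S5121_plan_helper2.md`. -/

set_option autoImplicit false

namespace Cfsg.Agent.Lib.Helper2.NSub

open Cfsg

/-- the setting: `G` of characteristic `p`, `S` a Sylow `p`-subgroup, `T ≤ S` strongly closed in `S`
with respect to `G` -/
structure Setting (p : ℕ) [Fact p.Prime] (G : Type*) [Group G] where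
  S : Sylow p G
  T : Subgroup G
  hTS : T ≤ (S : Subgroup G)
  hchar : Subgroup.centralizer ((Cfsg.pCore p G : Subgroup G) : Set G) ≤ Cfsg.pCore p G
  hsc : ∀ g t : G, t ∈ T → g * t * g⁻¹ ∈ (S : Subgroup G) → g * t * g⁻¹ ∈ T

variable {p : ℕ} [Fact p.Prime] {G : Type*} [Group G]

namespace Setting

/-- `Q = O_p(G)` -/
def Q (_D : Setting p G) : Subgroup G := Cfsg.pCore p G

variable (D : Setting p G)

/-- `R = T ∩ O_p(G)` -/
def R : Subgroup G := D.T ⊓ D.Q

/-- `C = C_G(R)` -/
def C : Subgroup G := Subgroup.centralizer (D.R : Set G)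

instance Q_normal : D.Q.Normal := by unfold Q; infer_instance

/-- `N₁ = C_G(Q/R)`: the elements `g` with `[Q, g] ≤ R`, as a set -/
def N₁set : Set G := {g | ∀ q ∈ D.Q, g * q * g⁻¹ * q⁻¹ ∈ D.R}

/-- for a subgroup `H₁`: the set of elements of `H₁ ∩ N₁` of order prime to `p` -/
def pPrimeElts (H₁ : Subgroup G) : Set G := {x | x ∈ H₁ ∧ x ∈ D.N₁set ∧ (orderOf x).Coprime p}

/-- `X = O^p(H₁ ∩ N₁)` -/
def X (H₁ : Subgroup G) : Subgroup G := Subgroup.closure (D.pPrimeElts H₁)

/-- the candidate normal subgroup `H = T · O^p(H₁ ∩ N₁)` -/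
def H (H₁ : Subgroup G) : Subgroup G := D.T ⊔ D.X H₁

end Setting

end Cfsg.Agent.Lib.Helper2.NSub
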