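import Mathlib
import Cfsg.Agent.Lib.Helper2.NSub0
import Cfsg.Agent.Lib.Helper6.PCore
import Cfsg.Agent.Lib.Helper6.PStE1

/-! S5121, package A: basic group theory of a strongly closed subgroup `T` of a Sylow subgroup of a
group of characteristic `p`; `R = T ∩ O_p(G)`, `C = C_G(R)`. -/

set_option autoImplicit false

namespace Cfsg.Agent.Lib.Helper2.NSub

open Cfsg

variable {p : ℕ} [Fact p.Prime] {G : Type*} [Group G]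

namespace Setting

variable (D : Setting p G)

theorem Q_le_S : D.Q ≤ (D.S : Subgroup G) := Cfsg.Agent.Lib.Helper6.pCore_le_sylow D.S

theorem R_le_T : D.R ≤ D.T := inf_le_left

theorem R_le_Q : D.R ≤ D.Q := inf_le_right

theorem Q_conj_mem (g q : G) (hq : q ∈ D.Q) : g * q * g⁻¹ ∈ D.Q :=
  D.Q_normal.conj_mem q hq g

/-- `T ⊴ S` -/
theorem T_conj_mem_of_mem_S (s t : G) (hs : s ∈ (D.S : Subgroup G)) (ht : t ∈ D.T) :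
    s * t * s⁻¹ ∈ D.T :=
  D.hsc s t ht (Subgroup.mul_mem _ (Subgroup.mul_mem _ hs (D.hTS ht)) (Subgroup.inv_mem _ hs))

/-- A1 -/
theorem R_conj_mem (g r : G) (hr : r ∈ D.R) : g * r * g⁻¹ ∈ D.R := by
  have hq : g * r * g⁻¹ ∈ D.Q := D.Q_conj_mem g r hr.2
  exact ⟨D.hsc g r hr.1 (D.Q_le_S hq), hq⟩

instance R_normal : D.R.Normal := ⟨fun r hr g => D.R_conj_mem g r hr⟩

instance C_normal : D.C.Normal := by unfold C; infer_instance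

theorem mem_C_iff (c : G) : c ∈ D.C ↔ ∀ r ∈ D.R, r * c = c * r := Subgroup.mem_centralizer_iff

/-- `[Q, T] ≤ R` -/
theorem T_le_N₁ (t : G) (ht : t ∈ D.T) : t ∈ D.N₁set := by
  intro q hq
  have hqS : q ∈ (D.S : Subgroup G) := D.Q_le_S hq
  refine ⟨?_, ?_⟩
  · -- t * (q t⁻¹ q⁻¹) ∈ T
    have h1 : q * t⁻¹ * q⁻¹ ∈ D.T := D.T_conj_mem_of_mem_S q t⁻¹ hqS (D.T.inv_mem ht)
    have e : t * q * t⁻¹ * q⁻¹ = t * (q * t⁻¹ * q⁻¹) := by group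
    rw [e]; exact D.T.mul_mem ht h1
  · have h1 : t * q * t⁻¹ ∈ D.Q := D.Q_conj_mem t q hq
    exact D.Q.mul_mem h1 (D.Q.inv_mem hq)

theorem N₁_mul (g h : G) (hg : g ∈ D.N₁set) (hh : h ∈ D.N₁set) : g * h ∈ D.N₁set := by
  intro q hq
  have e : g * h * q * (g * h)⁻¹ * q⁻¹ = g * (h * q * h⁻¹ * q⁻¹) * g⁻¹ * (g * q * g⁻¹ * q⁻¹) := by
    group
  rw [e]
  exact D.R.mul_mem (D.R_conj_mem g _ (hh q hq)) (hg q hq)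

theorem one_mem_N₁ : (1 : G) ∈ D.N₁set := by
  intro q _
  simp

theorem N₁_inv (g : G) (hg : g ∈ D.N₁set) : g⁻¹ ∈ D.N₁set := by
  intro q hq
  -- g⁻¹ q g q⁻¹ = g⁻¹ (g q' g⁻¹ q'⁻¹)⁻¹ g  with q' = g⁻¹ q g ... use q'' := g⁻¹ q g ∈ Q
  have hq' : g⁻¹ * q * g⁻¹⁻¹ ∈ D.Q := D.Q_conj_mem g⁻¹ q hq
  have h1 := hg (g⁻¹ * q * g⁻¹⁻¹) hq'
  have h2 : (g * (g⁻¹ * q * g⁻¹⁻¹) * g⁻¹ * (g⁻¹ * q * g⁻¹⁻¹)⁻¹)⁻¹ ∈ D.R := D.R.inv_mem h1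
  have e : g⁻¹ * q * g⁻¹⁻¹ * q⁻¹ =
      (g * (g⁻¹ * q * g⁻¹⁻¹) * g⁻¹ * (g⁻¹ * q * g⁻¹⁻¹)⁻¹)⁻¹ := by group
  rw [e]; exact h2

theorem N₁_conj (g h : G) (hh : h ∈ D.N₁set) : g * h * g⁻¹ ∈ D.N₁set := by
  intro q hq
  have hq' : g⁻¹ * q * g⁻¹⁻¹ ∈ D.Q := D.Q_conj_mem g⁻¹ q hq
  have h1 := D.R_conj_mem g _ (hh _ hq')
  have e : g * h * g⁻¹ * q * (g * h * g⁻¹)⁻¹ * q⁻¹ =
      g * (h * (g⁻¹ * q * g⁻¹⁻¹) * h⁻¹ * (g⁻¹ * q * g⁻¹⁻¹)⁻¹) * g⁻¹ := by group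
  rw [e]; exact h1

/-- `N₁` as a subgroup -/
def N₁ : Subgroup G where
  carrier := D.N₁set
  mul_mem' := fun {a b} ha hb => D.N₁_mul a b ha hb
  one_mem' := D.one_mem_N₁
  inv_mem' := fun {a} ha => D.N₁_inv a ha

theorem mem_N₁ (g : G) : g ∈ D.N₁ ↔ g ∈ D.N₁set := Iff.rfl

instance N₁_normal : D.N₁.Normal := ⟨fun h hh g => D.N₁_conj g h hh⟩

variable [Finite G]

/-- the stabilizer of `Q ≥ R ≥ 1` -/
def Stab : Subgroup G := D.N₁ ⊓ D.C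

instance Stab_normal : D.Stab.Normal := by unfold Stab; infer_instance

theorem Stab_isPGroup : IsPGroup p D.Stab := by
  rintro ⟨x, hx⟩
  have hx1 : x ∈ D.N₁set := hx.1
  have hx2 : x ∈ D.C := hx.2
  have hxR : ∀ v ∈ D.R, x * v = v * x := fun v hv => ((D.mem_C_iff x).mp hx2 v hv).symm
  have h1 : x ^ Nat.card D.R ∈ Subgroup.centralizer (D.Q : Set G) :=
    Cfsg.Agent.Lib.Helper6.PStE1.pow_card_mem_centralizer hxR hx1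
  have h2 : x ^ Nat.card D.R ∈ D.Q := D.hchar h1
  have hQp : IsPGroup p D.Q := Cfsg.Agent.Lib.Helper6.pCore_isPGroup p
  have hRp : IsPGroup p D.R := hQp.to_le D.R_le_Q
  obtain ⟨a, ha⟩ := IsPGroup.iff_card.mp hRp
  obtain ⟨b, hb⟩ := hQp ⟨x ^ Nat.card D.R, h2⟩
  refine ⟨a + b, ?_⟩
  have hb' : (x ^ Nat.card D.R) ^ p ^ b = 1 := by
    have := congrArg Subtype.val hb
    simpa using this
  apply Subtype.ext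
  simp only [Subgroup.coe_pow, Subgroup.coe_one]
  rw [pow_add, pow_mul, ← ha]
  exact hb'

/-- A2 -/
theorem stab_le (x : G) (h1 : x ∈ D.N₁set) (h2 : x ∈ D.C) : x ∈ D.Q :=
  Cfsg.Agent.Lib.Helper6.le_pCore D.Stab_normal D.Stab_isPGroup ⟨h1, h2⟩

/-- A3 -/
theorem cent_T_le (t : G) (ht : t ∈ D.T) (hc : t ∈ D.C) : t ∈ D.R :=
  ⟨ht, D.stab_le t (D.T_le_N₁ t ht) hc⟩

/-- A4 -/
theorem comm_T_C (t c : G) (ht : t ∈ D.T) (hc : c ∈ D.C) :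
    t * c * t⁻¹ * c⁻¹ ∈ D.R ∧ t * c * t⁻¹ * c⁻¹ ∈ D.C := by
  have hyC : t * c * t⁻¹ * c⁻¹ ∈ D.C :=
    D.C.mul_mem (D.C_normal.conj_mem c hc t) (D.C.inv_mem hc)
  -- y is trivial on Q / R
  have hyN : t * c * t⁻¹ * c⁻¹ ∈ D.N₁set := by
    have h1 : t ∈ D.N₁ := D.T_le_N₁ t ht
    have h2 : c * t⁻¹ * c⁻¹ ∈ D.N₁ := D.N₁_normal.conj_mem _ (D.N₁.inv_mem h1) c
    have e : t * c * t⁻¹ * c⁻¹ = t * (c * t⁻¹ * c⁻¹) := by group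
    rw [e]
    exact D.N₁.mul_mem h1 h2
  have hyQ : t * c * t⁻¹ * c⁻¹ ∈ D.Q := D.stab_le _ hyN hyC
  -- c t⁻¹ c⁻¹ = t⁻¹ y ∈ S
  have h3 : c * t⁻¹ * c⁻¹ ∈ (D.S : Subgroup G) := by
    have e : c * t⁻¹ * c⁻¹ = t⁻¹ * (t * c * t⁻¹ * c⁻¹) := by group
    rw [e]
    exact Subgroup.mul_mem _ (Subgroup.inv_mem _ (D.hTS ht)) (D.Q_le_S hyQ)
  have h4 : c * t⁻¹ * c⁻¹ ∈ D.T := D.hsc c t⁻¹ (D.T.inv_mem ht) h3
  have hyT : t * c * t⁻¹ * c⁻¹ ∈ D.T := by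
    have e : t * c * t⁻¹ * c⁻¹ = t * (c * t⁻¹ * c⁻¹) := by group
    rw [e]; exact D.T.mul_mem ht h4
  exact ⟨D.cent_T_le _ hyT hyC, hyC⟩

/-- consequence of A4: `c ∈ C` moves `d ∈ T` by an element of `Z(R)` -/
theorem conj_C_T (c d : G) (hc : c ∈ D.C) (hd : d ∈ D.T) :
    ∃ z ∈ D.R, z ∈ D.C ∧ c * d * c⁻¹ = z * d := by
  obtain ⟨h1, h2⟩ := D.comm_T_C d⁻¹ c⁻¹ (D.T.inv_mem hd) (D.C.inv_mem hc)
  -- (d⁻¹ c⁻¹ d c) ∈ Z(R); c d c⁻¹ = (c d c⁻¹ d⁻¹) d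
  obtain ⟨h3, h4⟩ := D.comm_T_C d c hd hc
  refine ⟨(d * c * d⁻¹ * c⁻¹)⁻¹, D.R.inv_mem h3, D.C.inv_mem h4, ?_⟩
  group

end Setting

end Cfsg.Agent.Lib.Helper2.NSub
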