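import Mathlib
import Cfsg.Agent.Lib.Helper2.NSubA

/-! S5121, package B6: a `p'`-element `g` normalizing `T` and `T·C_S(T)`, trivial on `C_S(T)` modulo
`Z(T)`, with `[Q, g] ≤ T·C_S(T)`, satisfies `[Q, g] ≤ R`. -/

set_option autoImplicit false

namespace Cfsg.Agent.Lib.Helper2.NSub

open Cfsg

variable {p : ℕ} [Fact p.Prime] {G : Type*} [Group G] [Finite G]

/-- an element of `p`-power order whose `n`-th power is trivial, `n` prime to `p`, is trivial -/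
theorem eq_one_of_pow_eq_one_of_coprime {K : Type*} [Group K] {d : K} {n a : ℕ}
    (hn : n.Coprime p) (h1 : d ^ n = 1) (h2 : d ^ p ^ a = 1) : d = 1 := by
  have h3 : orderOf d ∣ n := orderOf_dvd_of_pow_eq_one h1
  have h4 : orderOf d ∣ p ^ a := orderOf_dvd_of_pow_eq_one h2
  have h5 : orderOf d ∣ Nat.gcd n (p ^ a) := Nat.dvd_gcd h3 h4
  have h6 : Nat.gcd n (p ^ a) = 1 := Nat.Coprime.pow_right a hn
  rw [h6] at h5
  exact orderOf_eq_one_iff.mp (Nat.dvd_one.mp h5)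

/-- B6 -/
theorem comm_Q_le (D : Setting p G) (g : G) (hg : (orderOf g).Coprime p)
    (hgT : ∀ t ∈ D.T, g * t * g⁻¹ ∈ D.T)
    (hgC : ∀ c ∈ (D.S : Subgroup G) ⊓ Subgroup.centralizer (D.T : Set G),
      g * c * g⁻¹ * c⁻¹ ∈ D.T ⊓ Subgroup.centralizer (D.T : Set G))
    (hQ : ∀ u ∈ D.Q, u * g * u⁻¹ * g⁻¹ ∈
      D.T ⊔ ((D.S : Subgroup G) ⊓ Subgroup.centralizer (D.T : Set G))) :
    g ∈ D.N₁set := by
  classical
  -- `[g, m] ∈ T` for `m ∈ M`
  let M' : Subgroup G :=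
    { carrier := {m | m ∈ (D.S : Subgroup G) ∧ g * m * g⁻¹ * m⁻¹ ∈ D.T}
      one_mem' := ⟨Subgroup.one_mem _, by simp⟩
      mul_mem' := by
        rintro x y ⟨hx1, hx2⟩ ⟨hy1, hy2⟩
        refine ⟨Subgroup.mul_mem _ hx1 hy1, ?_⟩
        have e : g * (x * y) * g⁻¹ * (x * y)⁻¹ =
            (g * x * g⁻¹ * x⁻¹) * (x * (g * y * g⁻¹ * y⁻¹) * x⁻¹) := by group
        rw [e]
        exact D.T.mul_mem hx2 (D.T_conj_mem_of_mem_S x _ hx1 hy2)
      inv_mem' := by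
        rintro x ⟨hx1, hx2⟩
        refine ⟨Subgroup.inv_mem _ hx1, ?_⟩
        have e : g * x⁻¹ * g⁻¹ * x⁻¹⁻¹ = x⁻¹ * (g * x * g⁻¹ * x⁻¹)⁻¹ * x⁻¹⁻¹ := by group
        rw [e]
        exact D.T_conj_mem_of_mem_S x⁻¹ _ (Subgroup.inv_mem _ hx1) (D.T.inv_mem hx2) }
  have hTM' : D.T ≤ M' := fun x hx => ⟨D.hTS hx, D.T.mul_mem (hgT x hx) (D.T.inv_mem hx)⟩
  have hKM' : (D.S : Subgroup G) ⊓ Subgroup.centralizer (D.T : Set G) ≤ M' :=
    fun x hx => ⟨hx.1, (hgC x hx).1⟩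
  have hM : ∀ m ∈ D.T ⊔ ((D.S : Subgroup G) ⊓ Subgroup.centralizer (D.T : Set G)),
      m ∈ (D.S : Subgroup G) ∧ g * m * g⁻¹ * m⁻¹ ∈ D.T :=
    fun m hm => (sup_le hTM' hKM') hm
  intro u hu
  -- d = [g, u]
  set d := g * u * g⁻¹ * u⁻¹ with hd
  have hdQ : d ∈ D.Q := D.Q.mul_mem (D.Q_conj_mem g u hu) (D.Q.inv_mem hu)
  have hdM : d ∈ D.T ⊔ ((D.S : Subgroup G) ⊓ Subgroup.centralizer (D.T : Set G)) := by
    have := Subgroup.inv_mem _ (hQ u hu)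
    have e : (u * g * u⁻¹ * g⁻¹)⁻¹ = d := by rw [hd]; group
    rwa [e] at this
  -- `[g, d] ∈ R`
  have hgd : g * d * g⁻¹ * d⁻¹ ∈ D.R :=
    ⟨(hM d hdM).2, D.Q.mul_mem (D.Q_conj_mem g d hdQ) (D.Q.inv_mem hdQ)⟩
  -- pass to `G ⧸ R`
  let π := QuotientGroup.mk' D.R
  have h1 : π g * π u * (π g)⁻¹ = π d * π u := by
    rw [← map_inv, ← map_mul, ← map_mul, ← map_mul]
    congr 1
    rw [hd]; group
  have h2 : π g * π d = π d * π g := by
    have : π (g * d * g⁻¹ * d⁻¹) = 1 := (QuotientGroup.eq_one_iff _).mpr hgd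
    rw [map_mul, map_mul, map_mul, map_inv, map_inv] at this
    calc π g * π d = (π g * π d * (π g)⁻¹ * (π d)⁻¹) * π d * π g := by group
      _ = π d * π g := by rw [this, one_mul]
  have h3 := Cfsg.Agent.Lib.Helper6.PStE1.conj_pow_of_commute h1 h2 (orderOf g)
  have h4 : π g ^ orderOf g = 1 := by rw [← map_pow, pow_orderOf_eq_one, map_one]
  rw [h4, inv_one, one_mul, mul_one] at h3
  have h5 : π d ^ orderOf g = 1 := by
    have : π d ^ orderOf g * π u = 1 * π u := by rw [one_mul]; exact h3.symm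
    exact mul_right_cancel this
  -- `d` has `p`-power order
  have hQp : IsPGroup p D.Q := Cfsg.Agent.Lib.Helper6.pCore_isPGroup p
  obtain ⟨a, ha⟩ := hQp ⟨d, hdQ⟩
  have ha' : d ^ p ^ a = 1 := by
    have := congrArg Subtype.val ha
    simpa using this
  have h6 : π d ^ p ^ a = 1 := by rw [← map_pow, ha', map_one]
  have h7 : π d = 1 := eq_one_of_pow_eq_one_of_coprime (p := p) hg h5 h6
  exact (QuotientGroup.eq_one_iff _).mp h7

end Cfsg.Agent.Lib.Helper2.NSub
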