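import Mathlib
import Cfsg.Agent.Lib.Helper2.NSubA
import Cfsg.Agent.Lib.Helper2.NSubB6
import Cfsg.Agent.Lib.Helper6.NSubF

/-! S5121, package C3: the lifting step (receptivity of `R`, `Inn(T)` is the unique Sylow
`p`-subgroup of `Aut_E(T)`, the extension condition, and B6). -/

set_option autoImplicit false

namespace Cfsg.Agent.Lib.Helper2.NSubC3

open Cfsg Cfsg.FusionSystem Cfsg.Agent.Lib.Helper2.NSub Cfsg.Agent.Lib.Helper6.NSubF
  Cfsg.Agent.Lib.Helper9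

/-- `p`-part and `p'`-part of an element of finite order, as natural powers -/
theorem exists_parts (p : ℕ) [hp : Fact p.Prime] {A : Type*} [Group A] (g : A)
    (hg : IsOfFinOrder g) :
    ∃ a b : ℕ, g = g ^ b * g ^ a ∧ (orderOf (g ^ a)).Coprime p ∧ ∃ k : ℕ, (g ^ b) ^ p ^ k = 1 := by
  obtain ⟨n, hn⟩ : ∃ n, n = orderOf g := ⟨_, rfl⟩
  have hn0 : n ≠ 0 := by rw [hn]; exact (orderOf_pos_iff.mpr hg).ne'
  obtain ⟨k, hk⟩ : ∃ k, k = n.factorization p := ⟨_, rfl⟩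
  obtain ⟨m, hm⟩ : ∃ m, m = n / p ^ k := ⟨_, rfl⟩
  have hnm : p ^ k * m = n := by rw [hm, hk]; exact Nat.ordProj_mul_ordCompl_eq_self n p
  have hcop : Nat.Coprime (p ^ k) m := by
    rw [hm, hk]
    exact Nat.Coprime.pow_left _ (Nat.coprime_ordCompl hp.out hn0)
  have hbez := Nat.gcd_eq_gcd_ab (p ^ k) m
  rw [hcop] at hbez
  -- `u = g ^ (p^k * A)`, `v = g ^ (m * B)` as integer powers
  obtain ⟨u, hu⟩ : ∃ u : A, u = g ^ (((p ^ k : ℕ) : ℤ) * Nat.gcdA (p ^ k) m) := ⟨_, rfl⟩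
  obtain ⟨v, hv⟩ : ∃ v : A, v = g ^ ((m : ℤ) * Nat.gcdB (p ^ k) m) := ⟨_, rfl⟩
  have hguv : g = v * u := by
    rw [hu, hv, ← zpow_add]
    have : (m : ℤ) * Nat.gcdB (p ^ k) m + ((p ^ k : ℕ) : ℤ) * Nat.gcdA (p ^ k) m = 1 := by
      rw [add_comm]; exact_mod_cast hbez.symm
    rw [this, zpow_one]
  have hum : u ^ m = 1 := by
    rw [hu, ← zpow_natCast, ← zpow_mul]
    have : ((p ^ k : ℕ) : ℤ) * Nat.gcdA (p ^ k) m * (m : ℤ) = ((n : ℕ) : ℤ) * Nat.gcdA (p ^ k) m := by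
      rw [← hnm]; push_cast; ring
    rw [this, zpow_mul, zpow_natCast, hn, pow_orderOf_eq_one, one_zpow]
  have hvp : v ^ p ^ k = 1 := by
    rw [hv, ← zpow_natCast, ← zpow_mul]
    have : (m : ℤ) * Nat.gcdB (p ^ k) m * ((p ^ k : ℕ) : ℤ) = ((n : ℕ) : ℤ) * Nat.gcdB (p ^ k) m := by
      rw [← hnm]; push_cast; ring
    rw [this, zpow_mul, zpow_natCast, hn, pow_orderOf_eq_one, one_zpow]
  have huz : u ∈ Subgroup.zpowers g := by rw [hu]; exact Subgroup.zpow_mem_zpowers g _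
  have hvz : v ∈ Subgroup.zpowers g := by rw [hv]; exact Subgroup.zpow_mem_zpowers g _
  rw [← hg.mem_powers_iff_mem_zpowers] at huz hvz
  obtain ⟨a, ha⟩ := huz
  obtain ⟨b, hb⟩ := hvz
  refine ⟨a, b, ?_, ?_, k, ?_⟩
  · show g = g ^ b * g ^ a
    have h1 : g ^ a = u := ha
    have h2 : g ^ b = v := hb
    rw [h1, h2]; exact hguv
  · have h1 : g ^ a = u := ha
    rw [h1]
    have hdvd : orderOf u ∣ m := orderOf_dvd_of_pow_eq_one hum
    have hmp : m.Coprime p := by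
      rw [hm, hk]; exact (Nat.coprime_ordCompl hp.out hn0).symm
    exact Nat.Coprime.coprime_dvd_left hdvd hmp
  · have h2 : g ^ b = v := hb
    rw [h2]; exact hvp

variable {p : ℕ} [Fact p.Prime] {G : Type*} [Group G] [Finite G]

set_option linter.unusedSectionVars false
set_option linter.unusedVariables false

section good

variable (S T : Subgroup G)

/-- `x` normalizes `T` and `[x, C_S(T)] ≤ Z(T)` -/
def Good (x : G) : Prop :=
  (∀ t ∈ T, x * t * x⁻¹ ∈ T) ∧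
    ∀ c ∈ S ⊓ Subgroup.centralizer (T : Set G), x * c * x⁻¹ * c⁻¹ ∈ T ⊓ Subgroup.centralizer (T : Set G)

theorem good_one : Good S T 1 := by
  refine ⟨fun t ht => by simpa using ht, fun c _ => ?_⟩
  have : (1 : G) * c * 1⁻¹ * c⁻¹ = 1 := by group
  rw [this]; exact Subgroup.one_mem _

theorem good_mul {x y : G} (hx : Good S T x) (hy : Good S T y) : Good S T (x * y) := by
  refine ⟨fun t ht => ?_, fun c hc => ?_⟩
  · have e : x * y * t * (x * y)⁻¹ = x * (y * t * y⁻¹) * x⁻¹ := by group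
    rw [e]; exact hx.1 _ (hy.1 t ht)
  · have hz := hy.2 c hc
    have e : x * y * c * (x * y)⁻¹ * c⁻¹ = x * (y * c * y⁻¹ * c⁻¹) * x⁻¹ * (x * c * x⁻¹ * c⁻¹) := by
      group
    rw [e]
    refine Subgroup.mul_mem _ ⟨hx.1 _ hz.1, ?_⟩ (hx.2 c hc)
    refine Subgroup.mem_centralizer_iff.mpr ?_
    intro t ht
    have ht' : x⁻¹ * t * x ∈ T := inv_conj_mem_of_conj_mem hx.1 t ht
    have hcomm := (Subgroup.mem_centralizer_iff.mp hz.2) _ ht'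
    have e1 : t * (x * (y * c * y⁻¹ * c⁻¹) * x⁻¹) = x * ((x⁻¹ * t * x) * (y * c * y⁻¹ * c⁻¹)) * x⁻¹ := by
      group
    have e2 : x * (y * c * y⁻¹ * c⁻¹) * x⁻¹ * t = x * ((y * c * y⁻¹ * c⁻¹) * (x⁻¹ * t * x)) * x⁻¹ := by
      group
    rw [e1, e2, hcomm]

theorem good_pow {x : G} (hx : Good S T x) (n : ℕ) : Good S T (x ^ n) := by
  induction n with
  | zero => rw [pow_zero]; exact good_one S T
  | succ n ih => rw [pow_succ]; exact good_mul S T ih hx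

end good

section C3

variable (D : Setting p G) (E : Cfsg.FusionSystem D.T)
  (hE : E.IsNormalIn (Cfsg.groupFusionSystem (D.S : Subgroup G)) p)
include hE

theorem inE_T_conj_mem {g : G} (hg : InE E D.T g) : ∀ t ∈ D.T, g * t * g⁻¹ ∈ D.T :=
  conj_mem_of_weaklyClosed hE (T_weaklyClosed D E hE) hg

theorem inE_T_pow {g : G} (hg : InE E D.T g) (n : ℕ) : InE E D.T (g ^ n) := by
  induction n with
  | zero => rw [pow_zero]; exact inE_one E le_rfl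
  | succ n ih =>
    rw [pow_succ]
    exact inE_mul E hg ih (inE_T_conj_mem D E hE hg)

/-- a `p`-element of `S` inducing an `E`-automorphism on `T` lies in `T · C_S(T)` -/
theorem mem_sup_of_pElement {y : G} (hyS : y ∈ (D.S : Subgroup G)) (hy : InE E D.T y) :
    y ∈ D.T ⊔ ((D.S : Subgroup G) ⊓ Subgroup.centralizer (D.T : Set G)) := by
  obtain ⟨k, hk⟩ := (D.S.isPGroup') ⟨y, hyS⟩
  have hk' : y ^ p ^ k = 1 := by
    have := congrArg Subtype.val hk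
    simpa using this
  obtain ⟨t, ht, Ht⟩ := exists_mem_of_pElement hE (T_weaklyClosed D E hE) hy
    (inE_T_conj_mem D E hE hy) k (fun w _ => by rw [hk']; group)
  have hc : t⁻¹ * y ∈ (D.S : Subgroup G) ⊓ Subgroup.centralizer (D.T : Set G) := by
    refine ⟨Subgroup.mul_mem _ (Subgroup.inv_mem _ (D.hTS ht)) hyS, ?_⟩
    refine Subgroup.mem_centralizer_iff.mpr ?_
    intro w hw
    have h1 := Ht w hw
    have e : t⁻¹ * y * w = t⁻¹ * (y * w * y⁻¹) * y := by group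
    rw [e, h1]; group
  have e : y = t * (t⁻¹ * y) := by group
  rw [e]
  exact Subgroup.mul_mem_sup ht hc

/-- C3 -/
theorem lift_normalizer (H₁ : Subgroup G) (hH₁ : ∀ g : G, g ∈ H₁ ↔ conjHom D.R g ∈ E.Hom D.R)
    (hsyl : (D.S : Subgroup G) ⊓ H₁ ≤ D.T ⊔ D.C) :
    ∀ g ∈ H₁, (∀ s ∈ (D.S : Subgroup G) ⊓ H₁, g * s * g⁻¹ ∈ (D.S : Subgroup G)) →
      ∃ h ∈ H₁, h ∈ D.N₁set ∧ h⁻¹ * g ∈ D.C := by
  intro g hg hnorm
  have hgR : InE E D.R g := (hH₁ g).mp hg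
  have hTH₁ : D.T ≤ H₁ := fun t ht => (hH₁ t).mpr (inE_of_mem E D.R_le_T ht)
  -- step 1: receptivity of `R`
  obtain ⟨g₁, hg₁, Hg₁⟩ := receptive_extend_conj hE (R_weaklyClosed D E hE) hgR (P := D.T) le_rfl
    (fun y _ w hw => D.R_conj_mem y w hw)
    (fun y hy => ⟨g * y * g⁻¹, D.hsc g y hy (hnorm y ⟨D.hTS hy, hTH₁ hy⟩), fun w _ => by group⟩)
  have hg₁T := inE_T_conj_mem D E hE hg₁
  -- step 2: the extension condition
  have hg₁N : g₁ ∈ Subgroup.normalizer (D.T : Set G) := mem_normalizer_of_conj_mem hg₁T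
  obtain ⟨α, hαdef⟩ : ∃ α : MulAut D.T, α = D.T.normalizerMonoidHom ⟨g₁, hg₁N⟩ := ⟨_, rfl⟩
  have hαx : ∀ x : D.T, ((α x : D.T) : G) = g₁ * x * g₁⁻¹ := by
    intro x; rw [hαdef]; rfl
  have hαA : α ∈ E.autGroup D.T := by
    rw [mem_autGroup_iff E le_rfl]
    have e : D.T.subtype.comp α.toMonoidHom = conjHom D.T g₁ := by
      ext x; exact hαx x
    rw [e]; exact hg₁
  obtain ⟨β, hβ, Hβ1, Hβ2⟩ := hE.2 α hαA
  have hM : D.T ⊔ centralizerIn (D.S : Subgroup G) D.T ≤ (D.S : Subgroup G) :=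
    sup_le D.hTS inf_le_left
  rw [mem_autGroup_iff _ hM] at hβ
  obtain ⟨-, -, g₂, hg₂⟩ := hβ
  have hg₂' : ∀ x : ↥(D.T ⊔ centralizerIn (D.S : Subgroup G) D.T),
      ((β x : ↥(D.T ⊔ centralizerIn (D.S : Subgroup G) D.T)) : G) = g₂ * x * g₂⁻¹ := fun x => hg₂ x
  -- `g₂` acts on `T` as `g₁`
  have hg₂T : ∀ t ∈ D.T, g₂ * t * g₂⁻¹ = g₁ * t * g₁⁻¹ := by
    intro t ht
    have h1 := Hβ1 ⟨t, ht⟩
    rw [hg₂', hαx] at h1
    exact h1
  have hg₂E : InE E D.T g₂ := inE_congr E (fun x hx => (hg₂T x hx).symm) hg₁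
  have hgood : Good (D.S : Subgroup G) D.T g₂ := by
    refine ⟨fun t ht => by rw [hg₂T t ht]; exact hg₁T t ht, fun c hc => ?_⟩
    have hcM : c ∈ D.T ⊔ centralizerIn (D.S : Subgroup G) D.T :=
      (le_sup_right : centralizerIn (D.S : Subgroup G) D.T ≤ _) hc
    have h1 := Hβ2 ⟨c, hcM⟩ hc
    rw [hg₂'] at h1
    -- `g₂ c g₂⁻¹ c⁻¹ = c (c⁻¹ g₂ c g₂⁻¹) c⁻¹ = c⁻¹ g₂ c g₂⁻¹`
    have h2 : c * (c⁻¹ * (g₂ * c * g₂⁻¹)) = (c⁻¹ * (g₂ * c * g₂⁻¹)) * c := by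
      have := (Subgroup.mem_centralizer_iff.mp hc.2) _ h1.1
      exact this.symm
    have e : g₂ * c * g₂⁻¹ * c⁻¹ = c * (c⁻¹ * (g₂ * c * g₂⁻¹)) * c⁻¹ := by group
    rw [e, h2]
    have e' : c⁻¹ * (g₂ * c * g₂⁻¹) * c * c⁻¹ = c⁻¹ * (g₂ * c * g₂⁻¹) := by group
    rw [e']; exact h1
  -- step 3: `p`- and `p'`-parts of `g₂`
  obtain ⟨a, b, hab, hacop, k, hbk⟩ := exists_parts p g₂ (isOfFinOrder_of_finite g₂)
  have huE : InE E D.T (g₂ ^ a) := inE_T_pow D E hE hg₂E a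
  have hvE : InE E D.T (g₂ ^ b) := inE_T_pow D E hE hg₂E b
  have hugood := good_pow (D.S : Subgroup G) D.T hgood a
  have hvgood := good_pow (D.S : Subgroup G) D.T hgood b
  obtain ⟨t', ht', Ht'⟩ := exists_mem_of_pElement hE (T_weaklyClosed D E hE) hvE hvgood.1 k
    (fun w _ => by rw [hbk]; group)
  -- step 4: B6 for `u = g₂ ^ a`
  have huN : g₂ ^ a ∈ D.N₁set := by
    refine comm_Q_le D (g₂ ^ a) hacop hugood.1 hugood.2 ?_
    intro q hq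
    have hqS : q ∈ (D.S : Subgroup G) := D.Q_le_S hq
    have h1 : InE E D.T (q * g₂ ^ a * q⁻¹) :=
      inE_conj_of_normalizes hE (fun y hy => D.T_conj_mem_of_mem_S q y hqS hy) hugood.1 huE
    have h2 : InE E D.T (g₂ ^ a)⁻¹ :=
      inE_inv E huE (fun x hx => inv_conj_mem_of_conj_mem hugood.1 x hx)
    have h3 : InE E D.T (q * g₂ ^ a * q⁻¹ * (g₂ ^ a)⁻¹) := by
      refine inE_mul E h2 h1 ?_
      intro x hx
      rw [inv_inv]
      exact inv_conj_mem_of_conj_mem hugood.1 x hx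
    have hyQ : q * g₂ ^ a * q⁻¹ * (g₂ ^ a)⁻¹ ∈ D.Q := by
      have e : q * g₂ ^ a * q⁻¹ * (g₂ ^ a)⁻¹ = q * (g₂ ^ a * q⁻¹ * (g₂ ^ a)⁻¹) := by group
      rw [e]
      exact D.Q.mul_mem hq (D.Q_conj_mem _ _ (D.Q.inv_mem hq))
    exact mem_sup_of_pElement D E hE (D.Q_le_S hyQ) h3
  -- the element `h = t' u`
  have hhC : (t' * g₂ ^ a)⁻¹ * g ∈ D.C := by
    rw [D.mem_C_iff]
    intro r hr
    have hrT : r ∈ D.T := D.R_le_T hr
    -- `g r g⁻¹ = t' u r u⁻¹ t'⁻¹`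
    have hur : g₂ ^ a * r * (g₂ ^ a)⁻¹ ∈ D.T := hugood.1 r hrT
    have h1 : g * r * g⁻¹ = t' * (g₂ ^ a * r * (g₂ ^ a)⁻¹) * t'⁻¹ := by
      rw [← Ht' _ hur, ← Hg₁ r hr hrT, ← hg₂T r hrT]
      have e : g₂ ^ b * (g₂ ^ a * r * (g₂ ^ a)⁻¹) * (g₂ ^ b)⁻¹ =
          (g₂ ^ b * g₂ ^ a) * r * (g₂ ^ b * g₂ ^ a)⁻¹ := by group
      rw [e, ← hab]
    have e1 : r * ((t' * g₂ ^ a)⁻¹ * g) = (t' * g₂ ^ a)⁻¹ * (t' * (g₂ ^ a * r * (g₂ ^ a)⁻¹) * t'⁻¹) * g := by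
      group
    rw [e1, ← h1]; group
  refine ⟨t' * g₂ ^ a, ?_, D.N₁_mul _ _ (D.T_le_N₁ t' ht') huN, hhC⟩
  rw [hH₁]
  refine inE_congr E ?_ hgR
  intro x hx
  have h1 := (D.mem_C_iff _).mp hhC x hx
  -- `x c = c x` with `c = h⁻¹ g`: `g x g⁻¹ = h x h⁻¹`
  have e : g * x * g⁻¹ = (t' * g₂ ^ a) * (((t' * g₂ ^ a)⁻¹ * g) * x) * g⁻¹ := by group
  rw [e, ← h1]; group

end C3

end Cfsg.Agent.Lib.Helper2.NSubC3
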