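import Mathlib
import Cfsg.Agent.Lib.Helper2.Siegel2
import Cfsg.Agent.Lib.Helper2.Spinor3

set_option autoImplicit false

namespace Cfsg.Agent.Lib.Helper2

namespace LongRoot

open Matrix Cfsg.Agent.Lib.Helper2.ReflGen Cfsg.Agent.Lib.Helper2.CDG
open Cfsg.Agent.Lib.Helper2.Siegel

variable {F : Type*} [Field F] {ι : Type} [Fintype ι] [DecidableEq ι]
variable {Q : QuadraticForm F (ι → F)}

/-- the long root element `T_{u,v}(c)` as an isometry -/
noncomputable def LR (hQ : (QuadraticMap.polarBilin Q).Nondegenerate) (u v : ι → F)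
    (hu : Q u = 0) (hv : Q v = 0) (huv : QuadraticMap.polar (⇑Q) u v = 0) (c : F) :
    ↥(Cfsg.isometryGroup F ⇑Q) :=
  mkIso hQ (Cfsg.siegelMatrix (⇑Q) u v c) (siegel_preserves u v hu hv huv c)

theorem LR_coe (hQ : (QuadraticMap.polarBilin Q).Nondegenerate) (u v : ι → F)
    (hu : Q u = 0) (hv : Q v = 0) (huv : QuadraticMap.polar (⇑Q) u v = 0) (c : F) :
    ((LR hQ u v hu hv huv c : Matrix.GeneralLinearGroup ι F) : Matrix ι ι F) =
      Cfsg.siegelMatrix (⇑Q) u v c := rfl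

theorem LR_mulVec (hQ : (QuadraticMap.polarBilin Q).Nondegenerate) (u v : ι → F)
    (hu : Q u = 0) (hv : Q v = 0) (huv : QuadraticMap.polar (⇑Q) u v = 0) (c : F) (x : ι → F) :
    ((LR hQ u v hu hv huv c : Matrix.GeneralLinearGroup ι F) : Matrix ι ι F) *ᵥ x =
      x + c • (QuadraticMap.polar (⇑Q) u x • v - QuadraticMap.polar (⇑Q) v x • u) := by
  rw [LR_coe, siegelMatrix_mulVec]

theorem LR_congr (hQ : (QuadraticMap.polarBilin Q).Nondegenerate) {u v u' v' : ι → F}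
    (h1 : u = u') (h2 : v = v')
    (hu : Q u = 0) (hv : Q v = 0) (huv : QuadraticMap.polar (⇑Q) u v = 0)
    (hu' : Q u' = 0) (hv' : Q v' = 0) (huv' : QuadraticMap.polar (⇑Q) u' v' = 0) (c : F) :
    LR hQ u v hu hv huv c = LR hQ u' v' hu' hv' huv' c := by
  subst h1; subst h2; rfl

/-- the generating set of long root elements -/
def S (Q : QuadraticForm F (ι → F)) : Set ↥(Cfsg.isometryGroup F ⇑Q) :=
  {g | ∃ (u v : ι → F) (c : F), Q u = 0 ∧ Q v = 0 ∧ QuadraticMap.polar (⇑Q) u v = 0 ∧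
    ((g : Matrix.GeneralLinearGroup ι F) : Matrix ι ι F) = Cfsg.siegelMatrix (⇑Q) u v c}

theorem LR_mem_S (hQ : (QuadraticMap.polarBilin Q).Nondegenerate) (u v : ι → F)
    (hu : Q u = 0) (hv : Q v = 0) (huv : QuadraticMap.polar (⇑Q) u v = 0) (c : F) :
    LR hQ u v hu hv huv c ∈ S Q := ⟨u, v, c, hu, hv, huv, rfl⟩

theorem eq_LR_of_coe (hQ : (QuadraticMap.polarBilin Q).Nondegenerate)
    (g : ↥(Cfsg.isometryGroup F ⇑Q)) (u v : ι → F)
    (hu : Q u = 0) (hv : Q v = 0) (huv : QuadraticMap.polar (⇑Q) u v = 0) (c : F)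
    (hg : ((g : Matrix.GeneralLinearGroup ι F) : Matrix ι ι F) = Cfsg.siegelMatrix (⇑Q) u v c) :
    g = LR hQ u v hu hv huv c := by
  apply Subtype.ext
  apply Units.ext
  rw [hg, LR_coe]

/-- the subgroup generated by the long root elements -/
def T (Q : QuadraticForm F (ι → F)) : Subgroup ↥(Cfsg.isometryGroup F ⇑Q) :=
  Subgroup.closure (S Q)

theorem LR_mem_T (hQ : (QuadraticMap.polarBilin Q).Nondegenerate) (u v : ι → F)
    (hu : Q u = 0) (hv : Q v = 0) (huv : QuadraticMap.polar (⇑Q) u v = 0) (c : F) :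
    LR hQ u v hu hv huv c ∈ T Q := Subgroup.subset_closure (LR_mem_S hQ u v hu hv huv c)

theorem conj_LR (hQ : (QuadraticMap.polarBilin Q).Nondegenerate)
    (g : ↥(Cfsg.isometryGroup F ⇑Q)) (u v : ι → F)
    (hu : Q u = 0) (hv : Q v = 0) (huv : QuadraticMap.polar (⇑Q) u v = 0) (c : F) :
    g * LR hQ u v hu hv huv c * g⁻¹ =
      LR hQ (((g : Matrix.GeneralLinearGroup ι F) : Matrix ι ι F) *ᵥ u)
        (((g : Matrix.GeneralLinearGroup ι F) : Matrix ι ι F) *ᵥ v)
        (by rw [iso_Q]; exact hu) (by rw [iso_Q]; exact hv) (by rw [iso_polar]; exact huv) c := by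
  apply iso_ext
  intro x
  have h1 : ∀ w : ι → F, QuadraticMap.polar (⇑Q) w
      (((g⁻¹ : ↥(Cfsg.isometryGroup F ⇑Q)) : Matrix.GeneralLinearGroup ι F).1 *ᵥ x) =
      QuadraticMap.polar (⇑Q) (((g : Matrix.GeneralLinearGroup ι F) : Matrix ι ι F) *ᵥ w) x := by
    intro w
    have h := iso_polar g w
      (((g⁻¹ : ↥(Cfsg.isometryGroup F ⇑Q)) : Matrix.GeneralLinearGroup ι F).1 *ᵥ x)
    rw [← mul_mulVec, mul_inv_cancel, one_mulVec'] at h
    exact h.symm
  rw [mul_mulVec, mul_mulVec, LR_mulVec, LR_mulVec, Matrix.mulVec_add, Matrix.mulVec_smul,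
    Matrix.mulVec_sub, Matrix.mulVec_smul, Matrix.mulVec_smul,
    ← mul_mulVec, mul_inv_cancel, one_mulVec', h1, h1]

theorem T_normal (hQ : (QuadraticMap.polarBilin Q).Nondegenerate) : (T Q).Normal := by
  have hconj : Group.conjugatesOfSet (S Q) ⊆ S Q := by
    intro x hx
    obtain ⟨a, ha, hax⟩ := Group.mem_conjugatesOfSet_iff.1 hx
    obtain ⟨u, v, c, hu, hv, huv, hg⟩ := ha
    obtain ⟨g, hgc⟩ := isConj_iff.1 hax
    have ha' : a = LR hQ u v hu hv huv c := eq_LR_of_coe hQ a u v hu hv huv c hg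
    rw [← hgc, ha', conj_LR hQ g u v hu hv huv c]
    exact LR_mem_S hQ _ _ _ _ _ c
  have h1 : T Q = Subgroup.normalClosure (S Q) := by
    apply le_antisymm
    · exact Subgroup.closure_le_normalClosure
    · unfold Subgroup.normalClosure T
      exact Subgroup.closure_mono hconj
  rw [h1]
  exact Subgroup.normalClosure_normal

end LongRoot

end Cfsg.Agent.Lib.Helper2
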