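import Mathlib
import Cfsg.Agent.Lib.Helper2.LongRoot1
import Cfsg.Agent.Lib.Helper2.Witt3
import Cfsg.Agent.Lib.Helper5.QuadFin

set_option autoImplicit false

namespace Cfsg.Agent.Lib.Helper2

namespace LongRoot

open Matrix Cfsg.Agent.Lib.Helper2.ReflGen Cfsg.Agent.Lib.Helper2.CDG
open Cfsg.Agent.Lib.Helper2.Siegel Cfsg.Agent.Lib.Helper5

variable {F : Type*} [Field F] {ι : Type} [Fintype ι] [DecidableEq ι]
variable {Q : QuadraticForm F (ι → F)}

/-- Witt's lemma in matrix form -/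
theorem witt_mat (hQ : (QuadraticMap.polarBilin Q).Nondegenerate) (X : Submodule F (ι → F))
    (α : (ι → F) →ₗ[F] (ι → F)) (hiso : ∀ x ∈ X, Q (α x) = Q x)
    (hinj : ∀ x ∈ X, α x = 0 → x = 0) :
    ∃ g : ↥(Cfsg.isometryGroup F ⇑Q), ∀ x ∈ X,
      ((g : Matrix.GeneralLinearGroup ι F) : Matrix ι ι F) *ᵥ x = α x := by
  obtain ⟨g, hg, hgX⟩ := Witt.witt Q hQ X α hiso hinj
  have hM : ∀ x, Q (LinearMap.toMatrix' g.toLinearMap *ᵥ x) = Q x := by
    intro x
    rw [LinearMap.toMatrix'_mulVec]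
    exact hg x
  refine ⟨mkIso hQ _ hM, fun x hx => ?_⟩
  rw [mkIso_coe, LinearMap.toMatrix'_mulVec]
  exact hgX x hx

/-- transport of one vector -/
theorem transport1 (hQ : (QuadraticMap.polarBilin Q).Nondegenerate) (a b : ι → F)
    (l : (ι → F) →ₗ[F] F) (hl : l a = 1) (hab : Q b = Q a) (hb : b ≠ 0) :
    ∃ g : ↥(Cfsg.isometryGroup F ⇑Q),
      ((g : Matrix.GeneralLinearGroup ι F) : Matrix ι ι F) *ᵥ a = b := by
  have hls : ∀ s : F, (l.smulRight b) (s • a) = s • b := by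
    intro s
    rw [LinearMap.smulRight_apply, LinearMap.map_smul, hl, smul_eq_mul, mul_one]
  obtain ⟨g, hg⟩ := witt_mat hQ (Submodule.span F {a}) (l.smulRight b)
    (fun x hx => by
      obtain ⟨s, rfl⟩ := Submodule.mem_span_singleton.1 hx
      rw [hls, QuadraticMap.map_smul, QuadraticMap.map_smul, hab])
    (fun x hx h0 => by
      obtain ⟨s, rfl⟩ := Submodule.mem_span_singleton.1 hx
      rw [hls] at h0
      rcases smul_eq_zero.1 h0 with h | h
      · rw [h, zero_smul]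
      · exact absurd h hb)
  refine ⟨g, ?_⟩
  have h1 := hls 1
  rw [one_smul, one_smul] at h1
  rw [hg a (Submodule.mem_span_singleton_self a), h1]

/-- transport of two vectors -/
theorem transport2 (hQ : (QuadraticMap.polarBilin Q).Nondegenerate) (a₁ a₂ b₁ b₂ : ι → F)
    (l₁ l₂ : (ι → F) →ₗ[F] F) (h11 : l₁ a₁ = 1) (h12 : l₁ a₂ = 0) (h21 : l₂ a₁ = 0)
    (h22 : l₂ a₂ = 1)
    (hQab : ∀ s t : F, Q (s • b₁ + t • b₂) = Q (s • a₁ + t • a₂))
    (hind : ∀ s t : F, s • b₁ + t • b₂ = 0 → s = 0 ∧ t = 0) :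
    ∃ g : ↥(Cfsg.isometryGroup F ⇑Q),
      ((g : Matrix.GeneralLinearGroup ι F) : Matrix ι ι F) *ᵥ a₁ = b₁ ∧
      ((g : Matrix.GeneralLinearGroup ι F) : Matrix ι ι F) *ᵥ a₂ = b₂ := by
  have hα : ∀ s t : F, (l₁.smulRight b₁ + l₂.smulRight b₂) (s • a₁ + t • a₂) =
      s • b₁ + t • b₂ := by
    intro s t
    simp only [LinearMap.add_apply, LinearMap.smulRight_apply, map_add, LinearMap.map_smul, h11,
      h12, h21, h22, one_smul, zero_smul, smul_zero, add_zero, zero_add]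
  obtain ⟨g, hg⟩ := witt_mat hQ (Submodule.span F {a₁, a₂}) (l₁.smulRight b₁ + l₂.smulRight b₂)
    (fun x hx => by
      obtain ⟨s, t, rfl⟩ := Submodule.mem_span_pair.1 hx
      rw [hα, hQab])
    (fun x hx h0 => by
      obtain ⟨s, t, rfl⟩ := Submodule.mem_span_pair.1 hx
      rw [hα] at h0
      obtain ⟨hs, ht⟩ := hind s t h0
      rw [hs, ht, zero_smul, zero_smul, add_zero])
  refine ⟨g, ?_, ?_⟩
  · have h := hg a₁ (Submodule.subset_span (by simp))
    have h' := hα 1 0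
    rw [one_smul, zero_smul, add_zero, zero_smul, add_zero, one_smul] at h'
    rw [h, h']
  · have h := hg a₂ (Submodule.subset_span (by simp))
    have h' := hα 0 1
    rw [one_smul, zero_smul, zero_add, zero_smul, zero_add, one_smul] at h'
    rw [h, h']

/-- a hyperbolic family of prescribed length -/
theorem exists_hyp [Finite F] (hQ : (QuadraticMap.polarBilin Q).Nondegenerate) (j : ℕ)
    (h : 2 * j + 1 ≤ Fintype.card ι) : ∃ e f : Fin j → ι → F, HypFam Q e f := by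
  obtain ⟨k, e, f, W, hH, -, hd, hW2, -⟩ := exists_witt Q hQ
  rw [Module.finrank_fintype_fun_eq_card] at hd
  have hk : j ≤ k := by omega
  refine ⟨fun i => e (Fin.castLE hk i), fun i => f (Fin.castLE hk i), ?_⟩
  constructor
  · intro i; exact hH.qe _
  · intro i; exact hH.qf _
  · intro i i'
    rw [hH.ef]
    simp only [Fin.castLE_inj]
  · intro i i'; exact hH.ee _ _
  · intro i i'; exact hH.ff _ _

omit [Fintype ι] [DecidableEq ι] in
theorem hyp_fe {k : ℕ} {e f : Fin k → ι → F} (h : HypFam Q e f) (i i' : Fin k) :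
    QuadraticMap.polar (⇑Q) (f i) (e i') = if i = i' then 1 else 0 := by
  rw [QuadraticMap.polar_comm, h.ef]
  simp only [eq_comm]

end LongRoot

end Cfsg.Agent.Lib.Helper2
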