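import Mathlib
import Cfsg.Agent.Lib.Helper2.LongRoot2

set_option autoImplicit false

namespace Cfsg.Agent.Lib.Helper2

namespace LongRoot

open Matrix Cfsg.Agent.Lib.Helper2.ReflGen Cfsg.Agent.Lib.Helper2.CDG
open Cfsg.Agent.Lib.Helper2.Siegel Cfsg.Agent.Lib.Helper5

variable {F : Type*} [Field F] {ι : Type}
variable {Q : QuadraticForm F (ι → F)}

/-- linear combinations of the vectors of a hyperbolic family -/
def comb {k : ℕ} (e f : Fin k → ι → F) (a b : Fin k → F) : ι → F :=
  ∑ i, a i • e i + ∑ i, b i • f i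

theorem comb_add {k : ℕ} (e f : Fin k → ι → F) (a b a' b' : Fin k → F) :
    comb e f a b + comb e f a' b' = comb e f (a + a') (b + b') := by
  unfold comb
  simp only [Pi.add_apply, add_smul, Finset.sum_add_distrib]
  abel

theorem comb_smul {k : ℕ} (e f : Fin k → ι → F) (c : F) (a b : Fin k → F) :
    c • comb e f a b = comb e f (c • a) (c • b) := by
  unfold comb
  simp only [Pi.smul_apply, smul_eq_mul, smul_add, Finset.smul_sum, smul_smul]

theorem comb_sub {k : ℕ} (e f : Fin k → ι → F) (a b a' b' : Fin k → F) :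
    comb e f a b - comb e f a' b' = comb e f (a - a') (b - b') := by
  unfold comb
  simp only [Pi.sub_apply, sub_smul, Finset.sum_sub_distrib]
  abel

theorem e_eq_comb {k : ℕ} (e f : Fin k → ι → F) (i : Fin k) :
    e i = comb e f (Pi.single i 1) 0 := by
  classical
  unfold comb
  simp [Pi.single_apply, ite_smul]

theorem f_eq_comb {k : ℕ} (e f : Fin k → ι → F) (i : Fin k) :
    f i = comb e f 0 (Pi.single i 1) := by
  classical
  unfold comb
  simp [Pi.single_apply, ite_smul]

theorem hyp_Q_sum_e {k : ℕ} {e f : Fin k → ι → F} (h : HypFam Q e f) (a : Fin k → F)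
    (s : Finset (Fin k)) : Q (∑ i ∈ s, a i • e i) = 0 := by
  classical
  induction s using Finset.induction_on with
  | empty => simp
  | insert j s hj ih =>
    rw [Finset.sum_insert hj, QuadraticMap.map_add (⇑Q), ih, QuadraticMap.map_smul, h.qe,
      QuadraticMap.polar_smul_left, polar_sum_right]
    simp [h.ee]

theorem hyp_Q_sum_f {k : ℕ} {e f : Fin k → ι → F} (h : HypFam Q e f) (b : Fin k → F)
    (s : Finset (Fin k)) : Q (∑ i ∈ s, b i • f i) = 0 := by
  classical
  induction s using Finset.induction_on with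
  | empty => simp
  | insert j s hj ih =>
    rw [Finset.sum_insert hj, QuadraticMap.map_add (⇑Q), ih, QuadraticMap.map_smul, h.qf,
      QuadraticMap.polar_smul_left, polar_sum_right]
    simp [h.ff]

theorem hyp_polar_sum_ef {k : ℕ} {e f : Fin k → ι → F} (h : HypFam Q e f) (a b : Fin k → F) :
    QuadraticMap.polar (⇑Q) (∑ i, a i • e i) (∑ i, b i • f i) = ∑ i, a i * b i := by
  classical
  rw [polar_sum_left]
  apply Finset.sum_congr rfl
  intro i _
  rw [polar_sum_right]
  simp [h.ef]

theorem hyp_polar_sum_ee {k : ℕ} {e f : Fin k → ι → F} (h : HypFam Q e f) (a b : Fin k → F) :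
    QuadraticMap.polar (⇑Q) (∑ i, a i • e i) (∑ i, b i • e i) = 0 := by
  rw [polar_sum_left]
  apply Finset.sum_eq_zero
  intro i _
  rw [polar_sum_right]
  simp [h.ee]

theorem hyp_polar_sum_ff {k : ℕ} {e f : Fin k → ι → F} (h : HypFam Q e f) (a b : Fin k → F) :
    QuadraticMap.polar (⇑Q) (∑ i, a i • f i) (∑ i, b i • f i) = 0 := by
  rw [polar_sum_left]
  apply Finset.sum_eq_zero
  intro i _
  rw [polar_sum_right]
  simp [h.ff]

theorem hyp_Q_comb {k : ℕ} {e f : Fin k → ι → F} (h : HypFam Q e f) (a b : Fin k → F) :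
    Q (comb e f a b) = ∑ i, a i * b i := by
  unfold comb
  rw [QuadraticMap.map_add (⇑Q), hyp_Q_sum_e h, hyp_Q_sum_f h, hyp_polar_sum_ef h, zero_add, zero_add]

theorem hyp_polar_comb {k : ℕ} {e f : Fin k → ι → F} (h : HypFam Q e f)
    (a b a' b' : Fin k → F) :
    QuadraticMap.polar (⇑Q) (comb e f a b) (comb e f a' b') =
      ∑ i, (a i * b' i + a' i * b i) := by
  unfold comb
  rw [QuadraticMap.polar_add_left, QuadraticMap.polar_add_right, QuadraticMap.polar_add_right,
    hyp_polar_sum_ee h, hyp_polar_sum_ff h, hyp_polar_sum_ef h,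
    QuadraticMap.polar_comm (⇑Q) (∑ i, b i • f i), hyp_polar_sum_ef h, Finset.sum_add_distrib]
  ring

end LongRoot

end Cfsg.Agent.Lib.Helper2
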