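import Mathlib
import Cfsg.Agent.Lib.Helper2.LongRoot3

set_option autoImplicit false

namespace Cfsg.Agent.Lib.Helper2

namespace LongRoot

open Matrix Cfsg.Agent.Lib.Helper2.ReflGen Cfsg.Agent.Lib.Helper2.CDG
open Cfsg.Agent.Lib.Helper2.Siegel Cfsg.Agent.Lib.Helper5

variable {F : Type*} [Field F] {ι : Type} [Fintype ι] [DecidableEq ι]
variable {Q : QuadraticForm F (ι → F)}

theorem LR_comb (hQ : (QuadraticMap.polarBilin Q).Nondegenerate) {k : ℕ} {e f : Fin k → ι → F}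
    (h : HypFam Q e f) (au bu av bv ax bx : Fin k → F)
    (hu : Q (comb e f au bu) = 0) (hv : Q (comb e f av bv) = 0)
    (huv : QuadraticMap.polar (⇑Q) (comb e f au bu) (comb e f av bv) = 0) (c : F) :
    ((LR hQ (comb e f au bu) (comb e f av bv) hu hv huv c : Matrix.GeneralLinearGroup ι F) :
      Matrix ι ι F) *ᵥ comb e f ax bx =
    comb e f (ax + c • ((∑ i, (au i * bx i + ax i * bu i)) • av -
        (∑ i, (av i * bx i + ax i * bv i)) • au))
      (bx + c • ((∑ i, (au i * bx i + ax i * bu i)) • bv -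
        (∑ i, (av i * bx i + ax i * bv i)) • bu)) := by
  rw [LR_mulVec, hyp_polar_comb h, hyp_polar_comb h, comb_smul, comb_smul, comb_sub, comb_smul,
    comb_add]

/-- the standard move: `e₀ + d f₀ ↦ e₀ + (p - d) f₀ + e₁ + (2d - p) f₁` by an element of `T` -/
theorem std_move (hQ : (QuadraticMap.polarBilin Q).Nondegenerate) {e f : Fin 2 → ι → F}
    (h : HypFam Q e f) (d p : F) (hd : d ≠ 0) :
    ∃ t ∈ T Q, ((t : Matrix.GeneralLinearGroup ι F) : Matrix ι ι F) *ᵥ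
        comb e f ![1, 0] ![d, 0] = comb e f ![1, 1] ![p - d, 2 * d - p] := by
  have hu1 : Q (comb e f ![1, 0] ![0, 0]) = 0 := by
    rw [hyp_Q_comb h]; simp [Fin.sum_univ_two]
  have hv1 : Q (comb e f ![0, 0] ![0, 1]) = 0 := by
    rw [hyp_Q_comb h]; simp [Fin.sum_univ_two]
  have huv1 : QuadraticMap.polar (⇑Q) (comb e f ![1, 0] ![0, 0]) (comb e f ![0, 0] ![0, 1]) = 0 := by
    rw [hyp_polar_comb h]; simp [Fin.sum_univ_two]
  have hu2 : Q (comb e f ![0, 0] ![1, 0]) = 0 := by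
    rw [hyp_Q_comb h]; simp [Fin.sum_univ_two]
  have hv2 : Q (comb e f ![0, 1] ![-(2 * d - p), 0]) = 0 := by
    rw [hyp_Q_comb h]; simp [Fin.sum_univ_two]
  have huv2 : QuadraticMap.polar (⇑Q) (comb e f ![0, 0] ![1, 0])
      (comb e f ![0, 1] ![-(2 * d - p), 0]) = 0 := by
    rw [hyp_polar_comb h]; simp [Fin.sum_univ_two]
  refine ⟨LR hQ _ _ hu2 hv2 huv2 1 * LR hQ _ _ hu1 hv1 huv1 ((2 * d - p) / d),
    (T Q).mul_mem (LR_mem_T hQ _ _ _ _ _ _) (LR_mem_T hQ _ _ _ _ _ _), ?_⟩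
  rw [mul_mulVec, LR_comb hQ h, LR_comb hQ h]
  congr 1
  · ext i
    fin_cases i
    · simp [Fin.sum_univ_two]
    · simp [Fin.sum_univ_two]
  · ext i
    fin_cases i
    · simp [Fin.sum_univ_two]
      field_simp
      ring
    · simp [Fin.sum_univ_two]
      field_simp

end LongRoot

end Cfsg.Agent.Lib.Helper2
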