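import Mathlib
import Cfsg.Agent.Lib.Helper2.LongRoot4
import Cfsg.Agent.Lib.Helper2.CentOmega1

set_option autoImplicit false

namespace Cfsg.Agent.Lib.Helper2

namespace LongRoot

open Matrix Cfsg.Agent.Lib.Helper2.ReflGen Cfsg.Agent.Lib.Helper2.CDG
open Cfsg.Agent.Lib.Helper2.Siegel Cfsg.Agent.Lib.Helper5

variable {F : Type*} [Field F] {ι : Type} [Fintype ι] [DecidableEq ι]
variable {Q : QuadraticForm F (ι → F)}

/-- `T` is transitive on independent pairs of vectors of the same nonzero norm -/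
theorem T_trans_indep (hQ : (QuadraticMap.polarBilin Q).Nondegenerate) {e f : Fin 2 → ι → F}
    (h : HypFam Q e f) (x y : ι → F) (d : F) (hd : d ≠ 0) (hx : Q x = d) (hy : Q y = d)
    (hind : ∀ s t : F, s • x + t • y = 0 → s = 0 ∧ t = 0) :
    ∃ t ∈ T Q, ((t : Matrix.GeneralLinearGroup ι F) : Matrix ι ι F) *ᵥ x = y := by
  obtain ⟨p, hp⟩ : ∃ p, p = QuadraticMap.polar (⇑Q) x y := ⟨_, rfl⟩
  obtain ⟨t₀, ht₀, ht₀x⟩ := std_move hQ h d p hd
  have hf0 : f 0 = comb e f 0 (Pi.single 0 1) := f_eq_comb e f 0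
  have hf1 : f 1 = comb e f 0 (Pi.single 1 1) := f_eq_comb e f 1
  obtain ⟨g, hgx, hgy⟩ := transport2 hQ (comb e f ![1, 0] ![d, 0])
    (comb e f ![1, 1] ![p - d, 2 * d - p]) x y
    (QuadraticMap.polarBilin Q (f 0) - QuadraticMap.polarBilin Q (f 1))
    (QuadraticMap.polarBilin Q (f 1))
    (by
      show QuadraticMap.polar (⇑Q) (f 0) _ - QuadraticMap.polar (⇑Q) (f 1) _ = 1
      rw [hf0, hf1, hyp_polar_comb h, hyp_polar_comb h]
      simp [Fin.sum_univ_two])
    (by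
      show QuadraticMap.polar (⇑Q) (f 0) _ - QuadraticMap.polar (⇑Q) (f 1) _ = 0
      rw [hf0, hf1, hyp_polar_comb h, hyp_polar_comb h]
      simp [Fin.sum_univ_two])
    (by
      show QuadraticMap.polar (⇑Q) (f 1) _ = 0
      rw [hf1, hyp_polar_comb h]
      simp [Fin.sum_univ_two])
    (by
      show QuadraticMap.polar (⇑Q) (f 1) _ = 1
      rw [hf1, hyp_polar_comb h]
      simp [Fin.sum_univ_two])
    (by
      intro s t
      rw [map_lin2, map_lin2, hx, hy, ← hp, hyp_Q_comb h, hyp_Q_comb h, hyp_polar_comb h]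
      simp only [Fin.sum_univ_two, Matrix.cons_val_zero, Matrix.cons_val_one]
      ring)
    hind
  have hTn := T_normal (Q := Q) hQ
  refine ⟨g * t₀ * g⁻¹, hTn.conj_mem t₀ ht₀ g, ?_⟩
  have hginv : ((g⁻¹ : ↥(Cfsg.isometryGroup F ⇑Q)) : Matrix.GeneralLinearGroup ι F).1 *ᵥ x =
      comb e f ![1, 0] ![d, 0] := by
    rw [← hgx, ← mul_mulVec, inv_mul_cancel, one_mulVec']
  rw [mul_mulVec, mul_mulVec, hginv, ht₀x, hgy]

end LongRoot

end Cfsg.Agent.Lib.Helper2
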