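import Mathlib
import Cfsg.Agent.Lib.Helper2.LongRoot5
import Cfsg.Agent.Lib.Helper2.CentOmega3
import Cfsg.Agent.Lib.Helper2.Spinor4
import Cfsg.Agent.Lib.Helper2.OrthTwo8

set_option autoImplicit false

namespace Cfsg.Agent.Lib.Helper2

namespace LongRoot

open Matrix Cfsg.Agent.Lib.Helper2.ReflGen Cfsg.Agent.Lib.Helper2.CDG
open Cfsg.Agent.Lib.Helper2.Siegel Cfsg.Agent.Lib.Helper5

variable {F : Type*} [Field F] {ι : Type} [Fintype ι] [DecidableEq ι]
variable {Q : QuadraticForm F (ι → F)}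

omit [Fintype ι] [DecidableEq ι] in
theorem indep_of_sing (x w : ι → F) (hx : Q x ≠ 0) (hw : Q w = 0) (hw0 : w ≠ 0)
    (hxw : QuadraticMap.polar (⇑Q) x w = 0) (a b : F) (hab : a • x + b • w = 0) :
    a = 0 ∧ b = 0 := by
  have h1 := congrArg Q hab
  rw [map_lin2, hw, hxw, QuadraticMap.map_zero] at h1
  have h3 : a ^ 2 * Q x = 0 := by linear_combination h1
  have ha : a = 0 := by
    rcases mul_eq_zero.1 h3 with h | h
    · exact pow_eq_zero_iff (two_ne_zero) |>.1 h
    · exact absurd h hx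
  rw [ha, zero_smul, zero_add] at hab
  rcases smul_eq_zero.1 hab with h | h
  · exact ⟨ha, h⟩
  · exact absurd h hw0

/-- `T` is transitive on the vectors of a given nonzero norm -/
theorem T_trans [Finite F] (hQ : (QuadraticMap.polarBilin Q).Nondegenerate)
    (hn : 5 ≤ Fintype.card ι) (x y : ι → F) (hx : Q x ≠ 0) (hxy : Q y = Q x) :
    ∃ t ∈ T Q, ((t : Matrix.GeneralLinearGroup ι F) : Matrix ι ι F) *ᵥ x = y := by
  obtain ⟨e, f, h⟩ := exists_hyp hQ 2 (by omega)
  by_cases hind : ∀ s t : F, s • x + t • y = 0 → s = 0 ∧ t = 0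
  · exact T_trans_indep hQ h x y (Q x) hx rfl hxy hind
  · push Not at hind
    obtain ⟨s, t, hst, hne⟩ := hind
    have hx0 : x ≠ 0 := by rintro rfl; exact hx (QuadraticMap.map_zero Q)
    have ht : t ≠ 0 := by
      intro ht
      rw [ht, zero_smul, add_zero] at hst
      rcases smul_eq_zero.1 hst with h' | h'
      · exact hne h' ht
      · exact hx0 h'
    obtain ⟨c, hc⟩ : ∃ c : F, y = c • x := by
      refine ⟨-(t⁻¹ * s), ?_⟩
      have h1 : t • y = -(s • x) := eq_neg_of_add_eq_zero_right hst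
      have h2 : y = t⁻¹ • (t • y) := by rw [smul_smul, inv_mul_cancel₀ ht, one_smul]
      rw [h2, h1, smul_neg, smul_smul, neg_smul]
    have hc0 : c ≠ 0 := by
      rintro rfl
      rw [zero_smul] at hc
      rw [hc, QuadraticMap.map_zero] at hxy
      exact hx hxy.symm
    obtain ⟨w, hw0, hw, hp⟩ := CentO.exists_singular_perp (Q := Q) (k := 1) (fun _ => x)
      (by omega)
    have hxw : QuadraticMap.polar (⇑Q) x w = 0 := hp 0
    have hy' : Q (x + w) = Q x := by
      rw [QuadraticMap.map_add (⇑Q), hw, hxw, add_zero, add_zero]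
    obtain ⟨t₁, ht₁, ht₁x⟩ := T_trans_indep hQ h x (x + w) (Q x) hx rfl hy' (by
      intro a b hab
      have h1 : (a + b) • x + b • w = 0 := by
        rw [← hab, add_smul, smul_add]; abel
      obtain ⟨h3, h4⟩ := indep_of_sing x w hx hw hw0 hxw _ _ h1
      rw [h4, add_zero] at h3
      exact ⟨h3, h4⟩)
    obtain ⟨t₂, ht₂, ht₂x⟩ := T_trans_indep hQ h (x + w) y (Q x) hx hy' hxy (by
      intro a b hab
      have h1 : (a + b * c) • x + a • w = 0 := by
        rw [← hab, hc, add_smul, smul_add, smul_smul]; abel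
      obtain ⟨h3, h4⟩ := indep_of_sing x w hx hw hw0 hxw _ _ h1
      rw [h4, zero_add] at h3
      rcases mul_eq_zero.1 h3 with h5 | h5
      · exact ⟨h4, h5⟩
      · exact absurd h5 hc0)
    refine ⟨t₂ * t₁, (T Q).mul_mem ht₂ ht₁, ?_⟩
    rw [mul_mulVec, ht₁x, ht₂x]

/-- products of two reflections in vectors of the same norm lie in `T` -/
theorem refl_mul_refl_mem_T [Finite F] (hQ : (QuadraticMap.polarBilin Q).Nondegenerate)
    (hn : 5 ≤ Fintype.card ι) (x y : ι → F) (hx : Q x ≠ 0) (hy : Q y ≠ 0) (hxy : Q y = Q x) :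
    refl Q x hx * refl Q y hy ∈ T Q := by
  obtain ⟨t, ht, htx⟩ := T_trans hQ hn x y hx hxy
  have h1 : refl Q y hy = t * refl Q x hx * t⁻¹ := by
    rw [Spinor.conj_refl]
    exact CentO.refl_congr htx.symm _ _
  have hTn := T_normal (Q := Q) hQ
  have h2 : refl Q x hx * refl Q y hy = (refl Q x hx * t * (refl Q x hx)⁻¹) * t⁻¹ := by
    rw [h1, refl_inv]; group
  rw [h2]
  exact (T Q).mul_mem (hTn.conj_mem t ht _) ((T Q).inv_mem ht)

end LongRoot

end Cfsg.Agent.Lib.Helper2
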