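import Mathlib
import Cfsg.Agent.Lib.Helper2.LongRoot6
import Cfsg.Agent.Lib.Helper5.OmegaCrit

set_option autoImplicit false

namespace Cfsg.Agent.Lib.Helper2

namespace LongRoot

open Matrix Cfsg.Agent.Lib.Helper2.ReflGen Cfsg.Agent.Lib.Helper2.CDG
open Cfsg.Agent.Lib.Helper2.Siegel Cfsg.Agent.Lib.Helper5

variable {F : Type*} [Field F] [Fintype F] {ι : Type} [Fintype ι] [DecidableEq ι]
variable {Q : QuadraticForm F (ι → F)}

omit [Fintype ι] [DecidableEq ι] in
/-- a representative `δ` of the second square class (or `1` in characteristic two) -/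
theorem exists_delta : ∃ δ : F, δ ≠ 0 ∧ ∀ d : F, d ≠ 0 →
    (∃ c : F, c ≠ 0 ∧ d = c * c) ∨ (∃ c : F, c ≠ 0 ∧ d = c * c * δ) := by
  classical
  by_cases h2 : (2 : F) = 0
  · refine ⟨1, one_ne_zero, fun d hd => Or.inl ?_⟩
    have hch : ringChar F = 2 :=
      CharP.ringChar_of_prime_eq_zero Nat.prime_two (by exact_mod_cast h2)
    obtain ⟨c, hc⟩ := FiniteField.isSquare_of_char_two hch d
    refine ⟨c, ?_, hc⟩
    rintro rfl
    rw [mul_zero] at hc
    exact hd hc
  · obtain ⟨δ, hδ⟩ := Spinor.exists_nonsquare' (F := F) h2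
    have hδ0 : δ ≠ 0 := by rintro rfl; exact hδ ⟨0, by simp⟩
    refine ⟨δ, hδ0, fun d hd => ?_⟩
    by_cases hsq : IsSquare d
    · obtain ⟨c, hc⟩ := hsq
      refine Or.inl ⟨c, ?_, hc⟩
      rintro rfl
      rw [mul_zero] at hc
      exact hd hc
    · obtain ⟨c, hc⟩ := Spinor.isSquare_mul_inv_of_nonsquare h2 hsq hδ
      have hd' : d = c * c * δ := by
        rw [← hc, mul_assoc, inv_mul_cancel₀ hδ0, mul_one]
      refine Or.inr ⟨c, ?_, hd'⟩
      rintro rfl
      rw [mul_zero, zero_mul] at hd'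
      exact hd hd'

/-- the commutator subgroup of the isometry group is contained in `T` -/
theorem commutator_le_T (hQ : (QuadraticMap.polarBilin Q).Nondegenerate)
    (hn : 5 ≤ Fintype.card ι) : commutator ↥(Cfsg.isometryGroup F ⇑Q) ≤ T Q := by
  classical
  obtain ⟨e, f, h⟩ := exists_hyp hQ 2 (by omega)
  obtain ⟨δ, hδ0, hδ⟩ := exists_delta (F := F)
  have haQ : Q (comb e f ![1, 0] ![1, 0]) = 1 := by
    rw [hyp_Q_comb h]; simp [Fin.sum_univ_two]
  have hbQ : Q (comb e f ![0, 1] ![0, δ]) = δ := by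
    rw [hyp_Q_comb h]; simp [Fin.sum_univ_two]
  have hab : QuadraticMap.polar (⇑Q) (comb e f ![1, 0] ![1, 0]) (comb e f ![0, 1] ![0, δ]) = 0 := by
    rw [hyp_polar_comb h]; simp [Fin.sum_univ_two]
  have ha : Q (comb e f ![1, 0] ![1, 0]) ≠ 0 := by rw [haQ]; exact one_ne_zero
  have hb : Q (comb e f ![0, 1] ![0, δ]) ≠ 0 := by rw [hbQ]; exact hδ0
  haveI := T_normal (Q := Q) hQ
  have hcomm : refl Q _ ha * refl Q _ hb = refl Q _ hb * refl Q _ ha := by
    apply iso_ext
    intro x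
    rw [mul_mulVec, mul_mulVec, refl_mulVec, refl_mulVec, refl_mulVec, refl_mulVec,
      QuadraticMap.polar_sub_right, QuadraticMap.polar_sub_right,
      QuadraticMap.polar_smul_right, QuadraticMap.polar_smul_right, hab,
      QuadraticMap.polar_comm (⇑Q) (comb e f ![0, 1] ![0, δ]) (comb e f ![1, 0] ![1, 0]), hab]
    simp only [smul_zero, sub_zero]
    abel
  have hH : IsMulCommutative ↥(Subgroup.closure
      ({refl Q _ ha, refl Q _ hb} : Set ↥(Cfsg.isometryGroup F ⇑Q))) := by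
    apply Subgroup.isMulCommutative_closure
    intro x hx y hy
    rcases hx with rfl | rfl <;> rcases hy with rfl | rfl
    · rfl
    · exact hcomm
    · exact hcomm.symm
    · rfl
  apply Subgroup.Normal.commutator_le_of_self_sup_commutative_eq_top _ hH
  rw [eq_top_iff, ← OmegaCrit.closure_R_all hQ (Or.inr (by omega)) (by omega), Subgroup.closure_le]
  rintro g ⟨v, hv, hg⟩
  have hg' : g = refl Q v hv := Spinor.eq_refl_of_coe g v hv hg
  rw [hg']
  have hv0 : Q v ≠ 0 := hv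
  rcases hδ (Q v) hv0 with ⟨c, hc0, hc⟩ | ⟨c, hc0, hc⟩
  · -- same class as a
    have hcv : Q (c⁻¹ • v) = Q (comb e f ![1, 0] ![1, 0]) := by
      rw [haQ, Spinor.map_smul_self, hc]; field_simp
    have hcv0 : Q (c⁻¹ • v) ≠ 0 := by rw [hcv]; exact ha
    have h1 : refl Q v hv = refl Q (c⁻¹ • v) hcv0 :=
      (Spinor.refl_smul_eq v hv c⁻¹ (inv_ne_zero hc0)).symm
    have h3 := refl_mul_refl_mem_T hQ hn _ _ hcv0 ha hcv.symm
    have h4 : refl Q v hv = (refl Q (c⁻¹ • v) hcv0 * refl Q _ ha) * refl Q _ ha := by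
      rw [mul_assoc, refl_mul_self, mul_one, h1]
    rw [h4]
    exact Subgroup.mul_mem _ (Subgroup.mem_sup_left h3)
      (Subgroup.mem_sup_right (Subgroup.subset_closure (by simp)))
  · have hcv : Q (c⁻¹ • v) = Q (comb e f ![0, 1] ![0, δ]) := by
      rw [hbQ, Spinor.map_smul_self, hc]; field_simp
    have hcv0 : Q (c⁻¹ • v) ≠ 0 := by rw [hcv]; exact hb
    have h1 : refl Q v hv = refl Q (c⁻¹ • v) hcv0 :=
      (Spinor.refl_smul_eq v hv c⁻¹ (inv_ne_zero hc0)).symm
    have h3 := refl_mul_refl_mem_T hQ hn _ _ hcv0 hb hcv.symm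
    have h4 : refl Q v hv = (refl Q (c⁻¹ • v) hcv0 * refl Q _ hb) * refl Q _ hb := by
      rw [mul_assoc, refl_mul_self, mul_one, h1]
    rw [h4]
    exact Subgroup.mul_mem _ (Subgroup.mem_sup_left h3)
      (Subgroup.mem_sup_right (Subgroup.subset_closure (by simp)))

end LongRoot

end Cfsg.Agent.Lib.Helper2
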