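import Mathlib
import Cfsg.Agent.Lib.Helper2.LongRoot7

set_option autoImplicit false

namespace Cfsg.Agent.Lib.Helper2

namespace LongRoot

open Matrix Cfsg.Agent.Lib.Helper2.ReflGen Cfsg.Agent.Lib.Helper2.CDG
open Cfsg.Agent.Lib.Helper2.Siegel Cfsg.Agent.Lib.Helper5

variable {F : Type*} [Field F] {ι : Type} [Fintype ι] [DecidableEq ι]
variable {Q : QuadraticForm F (ι → F)}

/-- the Chevalley commutator relation for long root elements -/
theorem chevalley (hQ : (QuadraticMap.polarBilin Q).Nondegenerate) (u v w w' : ι → F)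
    (hu : Q u = 0) (hv : Q v = 0) (hw : Q w = 0) (hw' : Q w' = 0)
    (huv : QuadraticMap.polar (⇑Q) u v = 0) (huw : QuadraticMap.polar (⇑Q) u w = 0)
    (huw' : QuadraticMap.polar (⇑Q) u w' = 0) (hwv : QuadraticMap.polar (⇑Q) w v = 0)
    (hvw' : QuadraticMap.polar (⇑Q) v w' = 0) (hww' : QuadraticMap.polar (⇑Q) w w' = 1)
    (a b : F) :
    LR hQ u w' hu hw' huw' a * LR hQ w v hw hv hwv b =
      LR hQ u v hu hv huv (-(a * b)) * (LR hQ w v hw hv hwv b * LR hQ u w' hu hw' huw' a) := by
  have huu : QuadraticMap.polar (⇑Q) u u = 0 := polar_self_zero u hu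
  have hvv : QuadraticMap.polar (⇑Q) v v = 0 := polar_self_zero v hv
  have hwwz : QuadraticMap.polar (⇑Q) w w = 0 := polar_self_zero w hw
  have hw'w' : QuadraticMap.polar (⇑Q) w' w' = 0 := polar_self_zero w' hw'
  have hvu : QuadraticMap.polar (⇑Q) v u = 0 := by rw [QuadraticMap.polar_comm]; exact huv
  have hwu : QuadraticMap.polar (⇑Q) w u = 0 := by rw [QuadraticMap.polar_comm]; exact huw
  have hw'u : QuadraticMap.polar (⇑Q) w' u = 0 := by rw [QuadraticMap.polar_comm]; exact huw'
  have hvw : QuadraticMap.polar (⇑Q) v w = 0 := by rw [QuadraticMap.polar_comm]; exact hwv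
  have hw'v : QuadraticMap.polar (⇑Q) w' v = 0 := by rw [QuadraticMap.polar_comm]; exact hvw'
  have hw'w : QuadraticMap.polar (⇑Q) w' w = 1 := by rw [QuadraticMap.polar_comm]; exact hww'
  apply iso_ext
  intro x
  simp only [mul_mulVec, LR_mulVec, QuadraticMap.polar_add_right, QuadraticMap.polar_sub_right,
    QuadraticMap.polar_smul_right, huu, hvv, hwwz, hw'w', huv, huw, huw', hwv, hvw', hww', hvu,
    hwu, hw'u, hvw, hw'v, hw'w, smul_eq_mul, mul_zero, mul_one, sub_zero, add_zero, zero_sub,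
    zero_add]
  module

/-- a long root element on dependent vectors is trivial -/
theorem LR_trivial (hQ : (QuadraticMap.polarBilin Q).Nondegenerate) (u v : ι → F)
    (hu : Q u = 0) (hv : Q v = 0) (huv : QuadraticMap.polar (⇑Q) u v = 0) (c : F)
    (s t : F) (hst : s • u + t • v = 0) (hne : ¬ (s = 0 ∧ t = 0)) :
    LR hQ u v hu hv huv c = 1 := by
  apply iso_ext
  intro x
  rw [LR_mulVec, one_mulVec']
  by_cases ht : t = 0
  · have hs : s ≠ 0 := fun hs => hne ⟨hs, ht⟩
    rw [ht, zero_smul, add_zero] at hst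
    have hu0 : u = 0 := by
      rcases smul_eq_zero.1 hst with h | h
      · exact absurd h hs
      · exact h
    rw [hu0]
    simp
  · have hv' : v = (-(t⁻¹ * s)) • u := by
      have h1 : t • v = -(s • u) := eq_neg_of_add_eq_zero_right hst
      have h2 : v = t⁻¹ • (t • v) := by rw [smul_smul, inv_mul_cancel₀ ht, one_smul]
      rw [h2, h1, smul_neg, smul_smul, neg_smul]
    rw [hv', QuadraticMap.polar_smul_left, smul_eq_mul]
    module

end LongRoot

end Cfsg.Agent.Lib.Helper2
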