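import Mathlib
import Cfsg.Agent.Lib.Helper2.LongRoot8

set_option autoImplicit false

namespace Cfsg.Agent.Lib.Helper2

namespace LongRoot

open Matrix Cfsg.Agent.Lib.Helper2.ReflGen Cfsg.Agent.Lib.Helper2.CDG
open Cfsg.Agent.Lib.Helper2.Siegel Cfsg.Agent.Lib.Helper5
open scoped commutatorElement

variable {F : Type*} [Field F] {ι : Type} [Fintype ι] [DecidableEq ι]
variable {Q : QuadraticForm F (ι → F)}

/-- every long root element is a commutator of elements of `T` -/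
theorem LR_mem_comm [Finite F] (hQ : (QuadraticMap.polarBilin Q).Nondegenerate)
    (hn : 7 ≤ Fintype.card ι) (u v : ι → F)
    (hu : Q u = 0) (hv : Q v = 0) (huv : QuadraticMap.polar (⇑Q) u v = 0) (c : F) :
    LR hQ u v hu hv huv c ∈ ⁅T Q, T Q⁆ := by
  by_cases hind : ∀ s t : F, s • u + t • v = 0 → s = 0 ∧ t = 0
  · obtain ⟨e, f, h⟩ := exists_hyp hQ 3 (by omega)
    haveI := T_normal (Q := Q) hQ
    have hee : ∀ i j, QuadraticMap.polar (⇑Q) (e i) (e j) = 0 := h.ee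
    have h02 : QuadraticMap.polar (⇑Q) (e 0) (f 2) = 0 := by rw [h.ef]; simp
    have h12 : QuadraticMap.polar (⇑Q) (e 1) (f 2) = 0 := by rw [h.ef]; simp
    have h22 : QuadraticMap.polar (⇑Q) (e 2) (f 2) = 1 := by rw [h.ef]; simp
    have hch := chevalley hQ (e 0) (e 1) (e 2) (f 2) (h.qe 0) (h.qe 1) (h.qe 2) (h.qf 2)
      (hee 0 1) (hee 0 2) h02 (hee 2 1) h12 h22 (-c) 1
    have hstd : LR hQ (e 0) (e 1) (h.qe 0) (h.qe 1) (hee 0 1) c ∈ ⁅T Q, T Q⁆ := by
      have h1 : LR hQ (e 0) (e 1) (h.qe 0) (h.qe 1) (hee 0 1) c =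
          ⁅LR hQ (e 0) (f 2) (h.qe 0) (h.qf 2) h02 (-c),
            LR hQ (e 2) (e 1) (h.qe 2) (h.qe 1) (hee 2 1) 1⁆ := by
        rw [commutatorElement_def, hch]
        have : -(-c * 1) = c := by ring
        rw [this]
        group
      rw [h1]
      exact Subgroup.commutator_mem_commutator (LR_mem_T hQ _ _ _ _ _ _) (LR_mem_T hQ _ _ _ _ _ _)
    obtain ⟨g, hg0, hg1⟩ := transport2 hQ (e 0) (e 1) u v
      (QuadraticMap.polarBilin Q (f 0)) (QuadraticMap.polarBilin Q (f 1))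
      (by show QuadraticMap.polar (⇑Q) (f 0) (e 0) = 1; rw [hyp_fe h]; simp)
      (by show QuadraticMap.polar (⇑Q) (f 0) (e 1) = 0; rw [hyp_fe h]; simp)
      (by show QuadraticMap.polar (⇑Q) (f 1) (e 0) = 0; rw [hyp_fe h]; simp)
      (by show QuadraticMap.polar (⇑Q) (f 1) (e 1) = 1; rw [hyp_fe h]; simp)
      (by
        intro s t
        rw [map_lin2, map_lin2, hu, hv, huv, h.qe, h.qe, hee])
      hind
    have hconj := conj_LR hQ g (e 0) (e 1) (h.qe 0) (h.qe 1) (hee 0 1) c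
    have hcongr : LR hQ (((g : Matrix.GeneralLinearGroup ι F) : Matrix ι ι F) *ᵥ e 0)
        (((g : Matrix.GeneralLinearGroup ι F) : Matrix ι ι F) *ᵥ e 1)
        (by rw [iso_Q]; exact h.qe 0) (by rw [iso_Q]; exact h.qe 1)
        (by rw [iso_polar]; exact hee 0 1) c = LR hQ u v hu hv huv c :=
      LR_congr hQ hg0 hg1 _ _ _ _ _ _ c
    rw [← hcongr, ← hconj]
    have hN : (⁅T Q, T Q⁆).Normal := inferInstance
    exact hN.conj_mem _ hstd g
  · push Not at hind
    obtain ⟨s, t, hst, hne⟩ := hind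
    rw [LR_trivial hQ u v hu hv huv c s t hst (fun h => hne h.1 h.2)]
    exact Subgroup.one_mem _

theorem T_le_comm [Finite F] (hQ : (QuadraticMap.polarBilin Q).Nondegenerate)
    (hn : 7 ≤ Fintype.card ι) : T Q ≤ ⁅T Q, T Q⁆ := by
  unfold T
  rw [Subgroup.closure_le]
  rintro g ⟨u, v, c, hu, hv, huv, hg⟩
  rw [eq_LR_of_coe hQ g u v hu hv huv c hg]
  exact LR_mem_comm hQ hn u v hu hv huv c

/-- `T = Ω` -/
theorem T_eq_Omega [Fintype F] (hQ : (QuadraticMap.polarBilin Q).Nondegenerate)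
    (hn : 7 ≤ Fintype.card ι) : T Q = Cfsg.Omega F ⇑Q := by
  apply le_antisymm
  · refine (T_le_comm hQ hn).trans ?_
    show ⁅T Q, T Q⁆ ≤ commutator ↥(Cfsg.isometryGroup F ⇑Q)
    rw [commutator_def]
    exact Subgroup.commutator_mono le_top le_top
  · exact commutator_le_T hQ (by omega)

/-- `T` is perfect -/
theorem commutator_T [Finite F] (hQ : (QuadraticMap.polarBilin Q).Nondegenerate)
    (hn : 7 ≤ Fintype.card ι) : commutator ↥(T Q) = ⊤ := by
  have h1 := Subgroup.map_subtype_commutator (T Q)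
  have h2 : ⁅T Q, T Q⁆ = T Q := le_antisymm (Subgroup.commutator_le_self (T Q)) (T_le_comm hQ hn)
  rw [h2] at h1
  rw [eq_top_iff]
  intro x _
  have hx : (x : ↥(Cfsg.isometryGroup F ⇑Q)) ∈ (commutator ↥(T Q)).map (T Q).subtype := by
    rw [h1]; exact x.2
  obtain ⟨y, hy, hyx⟩ := hx
  have : y = x := Subtype.ext hyx
  rw [← this]; exact hy

end LongRoot

end Cfsg.Agent.Lib.Helper2
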