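import Mathlib
import Cfsg.Agent.Lib.Helper2.LongRoot9
import Cfsg.Agent.Lib.Helper2.HypTrans

set_option autoImplicit false

namespace Cfsg.Agent.Lib.Helper2

namespace LongRoot

open Matrix Cfsg.Agent.Lib.Helper2.ReflGen Cfsg.Agent.Lib.Helper2.CDG
open Cfsg.Agent.Lib.Helper2.Siegel Cfsg.Agent.Lib.Helper5

variable {F : Type*} [Field F] [Fintype F] {ι : Type} [Fintype ι] [DecidableEq ι]
variable {Q : QuadraticForm F (ι → F)}

/-- `O = T · ⟨r_a, r_b⟩` for any `a`, `b` of norms `1` and `δ` -/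
theorem T_sup_eq_top (hQ : (QuadraticMap.polarBilin Q).Nondegenerate)
    (hn : 5 ≤ Fintype.card ι) (δ : F)
    (hδ : ∀ d : F, d ≠ 0 → (∃ c : F, c ≠ 0 ∧ d = c * c) ∨ (∃ c : F, c ≠ 0 ∧ d = c * c * δ))
    (a b : ι → F) (ha : Q a ≠ 0) (hb : Q b ≠ 0) (haQ : Q a = 1) (hbQ : Q b = δ) :
    T Q ⊔ Subgroup.closure ({refl Q a ha, refl Q b hb} : Set ↥(Cfsg.isometryGroup F ⇑Q)) = ⊤ := by
  classical
  rw [eq_top_iff, ← OmegaCrit.closure_R_all hQ (Or.inr (by omega)) (by omega), Subgroup.closure_le]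
  rintro g ⟨v, hv, hg⟩
  have hg' : g = refl Q v hv := Spinor.eq_refl_of_coe g v hv hg
  rw [hg']
  have hv0 : Q v ≠ 0 := hv
  rcases hδ (Q v) hv0 with ⟨c, hc0, hc⟩ | ⟨c, hc0, hc⟩
  · have hcv : Q (c⁻¹ • v) = Q a := by
      rw [haQ, Spinor.map_smul_self, hc]; field_simp
    have hcv0 : Q (c⁻¹ • v) ≠ 0 := by rw [hcv]; exact ha
    have h1 : refl Q v hv = refl Q (c⁻¹ • v) hcv0 :=
      (Spinor.refl_smul_eq v hv c⁻¹ (inv_ne_zero hc0)).symm
    have h3 := refl_mul_refl_mem_T hQ hn _ _ hcv0 ha hcv.symm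
    have h4 : refl Q v hv = (refl Q (c⁻¹ • v) hcv0 * refl Q _ ha) * refl Q _ ha := by
      rw [mul_assoc, refl_mul_self, mul_one, h1]
    rw [h4]
    exact Subgroup.mul_mem _ (Subgroup.mem_sup_left h3)
      (Subgroup.mem_sup_right (Subgroup.subset_closure (by simp)))
  · have hcv : Q (c⁻¹ • v) = Q b := by
      rw [hbQ, Spinor.map_smul_self, hc]; field_simp
    have hcv0 : Q (c⁻¹ • v) ≠ 0 := by rw [hcv]; exact hb
    have h1 : refl Q v hv = refl Q (c⁻¹ • v) hcv0 :=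
      (Spinor.refl_smul_eq v hv c⁻¹ (inv_ne_zero hc0)).symm
    have h3 := refl_mul_refl_mem_T hQ hn _ _ hcv0 hb hcv.symm
    have h4 : refl Q v hv = (refl Q (c⁻¹ • v) hcv0 * refl Q _ hb) * refl Q _ hb := by
      rw [mul_assoc, refl_mul_self, mul_one, h1]
    rw [h4]
    exact Subgroup.mul_mem _ (Subgroup.mem_sup_left h3)
      (Subgroup.mem_sup_right (Subgroup.subset_closure (by simp)))

omit [Fintype F] in
/-- elements of `⟨r_a, r_b⟩` fix the vectors orthogonal to `a` and `b` -/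
theorem closure_fix (a b : ι → F) (ha : Q a ≠ 0) (hb : Q b ≠ 0) (x : ι → F)
    (hxa : QuadraticMap.polar (⇑Q) a x = 0) (hxb : QuadraticMap.polar (⇑Q) b x = 0)
    (c : ↥(Cfsg.isometryGroup F ⇑Q))
    (hc : c ∈ Subgroup.closure ({refl Q a ha, refl Q b hb} : Set ↥(Cfsg.isometryGroup F ⇑Q))) :
    ((c : Matrix.GeneralLinearGroup ι F) : Matrix ι ι F) *ᵥ x = x := by
  induction hc using Subgroup.closure_induction with
  | mem y hy =>
    rcases hy with rfl | rfl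
    · exact refl_fix a ha x hxa
    · exact refl_fix b hb x hxb
  | one => exact one_mulVec' x
  | mul y z _ _ hy hz => rw [mul_mulVec, hz, hy]
  | inv y _ hy =>
    have h1 : ((y⁻¹ : ↥(Cfsg.isometryGroup F ⇑Q)) : Matrix.GeneralLinearGroup ι F).1 *ᵥ
        (((y : Matrix.GeneralLinearGroup ι F) : Matrix ι ι F) *ᵥ x) = x := by
      rw [← mul_mulVec, inv_mul_cancel, one_mulVec']
    rw [hy] at h1
    exact h1

/-- adjusting an isometry into `T` without changing its values on the vectors orthogonal to a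
hyperbolic pair -/
theorem exists_T_agree (hQ : (QuadraticMap.polarBilin Q).Nondegenerate)
    (hn : 5 ≤ Fintype.card ι) (p p' : ι → F) (hp : Q p = 0) (hp' : Q p' = 0)
    (hpp' : QuadraticMap.polar (⇑Q) p p' = 1) (g : ↥(Cfsg.isometryGroup F ⇑Q)) :
    ∃ t ∈ T Q, ∀ x : ι → F, QuadraticMap.polar (⇑Q) p x = 0 → QuadraticMap.polar (⇑Q) p' x = 0 →
      ((t : Matrix.GeneralLinearGroup ι F) : Matrix ι ι F) *ᵥ x =
        ((g : Matrix.GeneralLinearGroup ι F) : Matrix ι ι F) *ᵥ x := by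
  obtain ⟨δ, hδ0, hδ⟩ := exists_delta (F := F)
  have haQ : Q (p + p') = 1 := by
    rw [QuadraticMap.map_add (⇑Q), hp, hp', hpp']; ring
  have hbQ : Q (p + δ • p') = δ := by
    rw [Witt.map_add_smul_abs, hp, hp', hpp']; ring
  have ha : Q (p + p') ≠ 0 := by rw [haQ]; exact one_ne_zero
  have hb : Q (p + δ • p') ≠ 0 := by rw [hbQ]; exact hδ0
  haveI := T_normal (Q := Q) hQ
  have htop := T_sup_eq_top hQ hn δ hδ (p + p') (p + δ • p') ha hb haQ hbQ
  have hg : g ∈ T Q ⊔ Subgroup.closure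
      ({refl Q _ ha, refl Q _ hb} : Set ↥(Cfsg.isometryGroup F ⇑Q)) := by
    rw [htop]; exact Subgroup.mem_top g
  obtain ⟨t, ht, c, hc, htc⟩ := Subgroup.mem_sup_of_normal_left.1 hg
  refine ⟨t, ht, fun x hx hx' => ?_⟩
  have hcx := closure_fix (p + p') (p + δ • p') ha hb x
    (by rw [QuadraticMap.polar_add_left, hx, hx', add_zero])
    (by rw [QuadraticMap.polar_add_left, QuadraticMap.polar_smul_left, hx, hx', smul_zero,
      add_zero]) c hc
  rw [← htc, mul_mulVec, hcx]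

end LongRoot

end Cfsg.Agent.Lib.Helper2
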