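import Mathlib
import Cfsg.Agent.Lib.Helper2.LongRoot10

set_option autoImplicit false

namespace Cfsg.Agent.Lib.Helper2

namespace LongRoot

open Matrix Cfsg.Agent.Lib.Helper2.ReflGen Cfsg.Agent.Lib.Helper2.CDG
open Cfsg.Agent.Lib.Helper2.Siegel Cfsg.Agent.Lib.Helper5

variable {F : Type*} [Field F] [Fintype F] {ι : Type} [Fintype ι] [DecidableEq ι]
variable {Q : QuadraticForm F (ι → F)}

omit [Fintype F] [Fintype ι] [DecidableEq ι] in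
theorem hyp_e_ne_zero {k : ℕ} {e f : Fin k → ι → F} (h : HypFam Q e f) (i : Fin k) : e i ≠ 0 := by
  intro h0
  have h1 := h.ef i i
  rw [h0, QuadraticMap.polar_zero_left, if_pos rfl] at h1
  exact zero_ne_one h1

/-- a hyperbolic pair orthogonal to a given nonzero singular vector -/
theorem exists_hyp_perp1 (hQ : (QuadraticMap.polarBilin Q).Nondegenerate)
    (hn : 5 ≤ Fintype.card ι) (u : ι → F) (hu0 : u ≠ 0) (hu : Q u = 0) :
    ∃ p p' : ι → F, Q p = 0 ∧ Q p' = 0 ∧ QuadraticMap.polar (⇑Q) p p' = 1 ∧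
      QuadraticMap.polar (⇑Q) p u = 0 ∧ QuadraticMap.polar (⇑Q) p' u = 0 := by
  obtain ⟨e, f, h⟩ := exists_hyp hQ 2 (by omega)
  obtain ⟨g, hg⟩ := HypTrans.exists_map_singular hQ (e 0) u (hyp_e_ne_zero h 0) hu0 (h.qe 0) hu
  refine ⟨((g : Matrix.GeneralLinearGroup ι F) : Matrix ι ι F) *ᵥ e 1,
    ((g : Matrix.GeneralLinearGroup ι F) : Matrix ι ι F) *ᵥ f 1, ?_, ?_, ?_, ?_, ?_⟩
  · rw [iso_Q]; exact h.qe 1
  · rw [iso_Q]; exact h.qf 1
  · rw [iso_polar, h.ef]; simp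
  · rw [← hg, iso_polar]; exact h.ee 1 0
  · rw [← hg, iso_polar, hyp_fe h]; simp

/-- a hyperbolic pair orthogonal to a given hyperbolic pair -/
theorem exists_hyp_perp2 (hQ : (QuadraticMap.polarBilin Q).Nondegenerate)
    (hn : 5 ≤ Fintype.card ι) (u r : ι → F) (hu : Q u = 0) (hr : Q r = 0)
    (hur : QuadraticMap.polar (⇑Q) u r = 1) :
    ∃ p p' : ι → F, Q p = 0 ∧ Q p' = 0 ∧ QuadraticMap.polar (⇑Q) p p' = 1 ∧
      QuadraticMap.polar (⇑Q) p u = 0 ∧ QuadraticMap.polar (⇑Q) p' u = 0 ∧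
      QuadraticMap.polar (⇑Q) p r = 0 ∧ QuadraticMap.polar (⇑Q) p' r = 0 := by
  obtain ⟨e, f, h⟩ := exists_hyp hQ 2 (by omega)
  obtain ⟨g, hg0, hg1⟩ := HypTrans.exists_map_pair hQ (e 0) (f 0) u r (h.qe 0) (h.qf 0) hu hr
    (by rw [h.ef]; simp) hur
  refine ⟨((g : Matrix.GeneralLinearGroup ι F) : Matrix ι ι F) *ᵥ e 1,
    ((g : Matrix.GeneralLinearGroup ι F) : Matrix ι ι F) *ᵥ f 1, ?_, ?_, ?_, ?_, ?_, ?_, ?_⟩
  · rw [iso_Q]; exact h.qe 1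
  · rw [iso_Q]; exact h.qf 1
  · rw [iso_polar, h.ef]; simp
  · rw [← hg0, iso_polar]; exact h.ee 1 0
  · rw [← hg0, iso_polar, hyp_fe h]; simp
  · rw [← hg1, iso_polar, h.ef]; simp
  · rw [← hg1, iso_polar]; exact h.ff 1 0

/-- `T` is transitive on nonzero singular vectors -/
theorem T_trans_sing (hQ : (QuadraticMap.polarBilin Q).Nondegenerate)
    (hn : 5 ≤ Fintype.card ι) (u u' : ι → F) (hu0 : u ≠ 0) (hu'0 : u' ≠ 0) (hu : Q u = 0)
    (hu' : Q u' = 0) :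
    ∃ t ∈ T Q, ((t : Matrix.GeneralLinearGroup ι F) : Matrix ι ι F) *ᵥ u = u' := by
  obtain ⟨g, hg⟩ := HypTrans.exists_map_singular hQ u u' hu0 hu'0 hu hu'
  obtain ⟨p, p', hp, hp', hpp', hpu, hp'u⟩ := exists_hyp_perp1 hQ hn u hu0 hu
  obtain ⟨t, ht, hagree⟩ := exists_T_agree hQ hn p p' hp hp' hpp' g
  exact ⟨t, ht, by rw [hagree u hpu hp'u, hg]⟩

/-- `T` is transitive on hyperbolic pairs -/
theorem T_trans_pair (hQ : (QuadraticMap.polarBilin Q).Nondegenerate)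
    (hn : 5 ≤ Fintype.card ι) (u r u' r' : ι → F) (hu : Q u = 0) (hr : Q r = 0)
    (hu' : Q u' = 0) (hr' : Q r' = 0) (hur : QuadraticMap.polar (⇑Q) u r = 1)
    (hur' : QuadraticMap.polar (⇑Q) u' r' = 1) :
    ∃ t ∈ T Q, ((t : Matrix.GeneralLinearGroup ι F) : Matrix ι ι F) *ᵥ u = u' ∧
      ((t : Matrix.GeneralLinearGroup ι F) : Matrix ι ι F) *ᵥ r = r' := by
  obtain ⟨g, hg0, hg1⟩ := HypTrans.exists_map_pair hQ u r u' r' hu hr hu' hr' hur hur'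
  obtain ⟨p, p', hp, hp', hpp', hpu, hp'u, hpr, hp'r⟩ := exists_hyp_perp2 hQ hn u r hu hr hur
  obtain ⟨t, ht, hagree⟩ := exists_T_agree hQ hn p p' hp hp' hpp' g
  exact ⟨t, ht, by rw [hagree u hpu hp'u, hg0], by rw [hagree r hpr hp'r, hg1]⟩

end LongRoot

end Cfsg.Agent.Lib.Helper2
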