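import Mathlib
import Cfsg.Agent.Lib.Helper2.LongRoot11

set_option autoImplicit false

namespace Cfsg.Agent.Lib.Helper2

namespace LongRoot

open Matrix Cfsg.Agent.Lib.Helper2.ReflGen Cfsg.Agent.Lib.Helper2.CDG
open Cfsg.Agent.Lib.Helper2.Siegel Cfsg.Agent.Lib.Helper5

variable {F : Type*} [Field F] [Fintype F] {ι : Type} [Fintype ι] [DecidableEq ι]
variable {Q : QuadraticForm F (ι → F)}

omit [Fintype F] in
theorem refl_comb {k : ℕ} {e f : Fin k → ι → F}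
    (h : HypFam Q e f) (av bv ax bx : Fin k → F) (hv : Q (comb e f av bv) ≠ 0) :
    ((refl Q (comb e f av bv) hv : Matrix.GeneralLinearGroup ι F) : Matrix ι ι F) *ᵥ
      comb e f ax bx =
    comb e f (ax - ((∑ i, av i * bv i)⁻¹ * ∑ i, (av i * bx i + ax i * bv i)) • av)
      (bx - ((∑ i, av i * bv i)⁻¹ * ∑ i, (av i * bx i + ax i * bv i)) • bv) := by
  rw [refl_mulVec, hyp_polar_comb h, hyp_Q_comb h, comb_smul, comb_sub]

/-- moving a point perpendicular to `⟨u⟩` off its own perp while fixing `u` -/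
theorem T_move_perp (hQ : (QuadraticMap.polarBilin Q).Nondegenerate)
    (hn : 7 ≤ Fintype.card ι) (u r : ι → F) (hu : Q u = 0) (hr : Q r = 0)
    (hur : QuadraticMap.polar (⇑Q) u r = 0)
    (hind : ∀ s t : F, s • u + t • r = 0 → s = 0 ∧ t = 0) :
    ∃ t ∈ T Q, ((t : Matrix.GeneralLinearGroup ι F) : Matrix ι ι F) *ᵥ u = u ∧
      QuadraticMap.polar (⇑Q) (((t : Matrix.GeneralLinearGroup ι F) : Matrix ι ι F) *ᵥ r) r ≠ 0 := by
  obtain ⟨e, f, h⟩ := exists_hyp hQ 3 (by omega)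
  have hee : ∀ i j, QuadraticMap.polar (⇑Q) (e i) (e j) = 0 := h.ee
  obtain ⟨g, hg0, hg1⟩ := transport2 hQ (e 0) (e 1) u r
    (QuadraticMap.polarBilin Q (f 0)) (QuadraticMap.polarBilin Q (f 1))
    (by show QuadraticMap.polar (⇑Q) (f 0) (e 0) = 1; rw [hyp_fe h]; simp)
    (by show QuadraticMap.polar (⇑Q) (f 0) (e 1) = 0; rw [hyp_fe h]; simp)
    (by show QuadraticMap.polar (⇑Q) (f 1) (e 0) = 0; rw [hyp_fe h]; simp)
    (by show QuadraticMap.polar (⇑Q) (f 1) (e 1) = 1; rw [hyp_fe h]; simp)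
    (by
      intro s t
      rw [map_lin2, map_lin2, hu, hr, hur, h.qe, h.qe, hee])
    hind
  have hv1Q : Q (comb e f ![0, 1, 0] ![0, -1, 0]) = -1 := by
    rw [hyp_Q_comb h]; simp [Fin.sum_univ_three]
  have hv2Q : Q (comb e f ![0, 0, 1] ![0, 0, -1]) = -1 := by
    rw [hyp_Q_comb h]; simp [Fin.sum_univ_three]
  have hv1 : Q (comb e f ![0, 1, 0] ![0, -1, 0]) ≠ 0 := by
    rw [hv1Q]; exact neg_ne_zero.2 one_ne_zero
  have hv2 : Q (comb e f ![0, 0, 1] ![0, 0, -1]) ≠ 0 := by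
    rw [hv2Q]; exact neg_ne_zero.2 one_ne_zero
  have ht₀ := refl_mul_refl_mem_T hQ (by omega) _ _ hv2 hv1 (by rw [hv1Q, hv2Q])
  have he0 : e 0 = comb e f ![1, 0, 0] ![0, 0, 0] := by
    rw [e_eq_comb e f 0]
    congr 1
    · ext i; fin_cases i <;> simp
    · ext i; fin_cases i <;> simp
  have he1 : e 1 = comb e f ![0, 1, 0] ![0, 0, 0] := by
    rw [e_eq_comb e f 1]
    congr 1
    · ext i; fin_cases i <;> simp
    · ext i; fin_cases i <;> simp
  have hf1 : f 1 = comb e f ![0, 0, 0] ![0, 1, 0] := by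
    rw [f_eq_comb e f 1]
    congr 1
    · ext i; fin_cases i <;> simp
    · ext i; fin_cases i <;> simp
  have h0 : ((refl Q _ hv2 * refl Q _ hv1 : ↥(Cfsg.isometryGroup F ⇑Q)) :
      Matrix.GeneralLinearGroup ι F).1 *ᵥ e 0 = e 0 := by
    rw [he0, mul_mulVec, refl_comb h, refl_comb h]
    congr 1
    · ext i; fin_cases i <;> simp [Fin.sum_univ_three]
    · ext i; fin_cases i <;> simp [Fin.sum_univ_three]
  have h1 : ((refl Q _ hv2 * refl Q _ hv1 : ↥(Cfsg.isometryGroup F ⇑Q)) :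
      Matrix.GeneralLinearGroup ι F).1 *ᵥ e 1 = f 1 := by
    rw [he1, hf1, mul_mulVec, refl_comb h, refl_comb h]
    congr 1
    · ext i; fin_cases i <;> simp [Fin.sum_univ_three]
    · ext i; fin_cases i <;> simp [Fin.sum_univ_three]
  have hTn := T_normal (Q := Q) hQ
  refine ⟨g * (refl Q _ hv2 * refl Q _ hv1) * g⁻¹, hTn.conj_mem _ ht₀ g, ?_, ?_⟩
  · have hginv : ((g⁻¹ : ↥(Cfsg.isometryGroup F ⇑Q)) : Matrix.GeneralLinearGroup ι F).1 *ᵥ u =
        e 0 := by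
      rw [← hg0, ← mul_mulVec, inv_mul_cancel, one_mulVec']
    rw [mul_mulVec, mul_mulVec, hginv, h0, hg0]
  · have hginv : ((g⁻¹ : ↥(Cfsg.isometryGroup F ⇑Q)) : Matrix.GeneralLinearGroup ι F).1 *ᵥ r =
        e 1 := by
      rw [← hg1, ← mul_mulVec, inv_mul_cancel, one_mulVec']
    rw [mul_mulVec, mul_mulVec, hginv, h1]
    have h5 : QuadraticMap.polar (⇑Q)
        (((g : Matrix.GeneralLinearGroup ι F) : Matrix ι ι F) *ᵥ f 1) r =
        QuadraticMap.polar (⇑Q) (((g : Matrix.GeneralLinearGroup ι F) : Matrix ι ι F) *ᵥ f 1)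
          (((g : Matrix.GeneralLinearGroup ι F) : Matrix ι ι F) *ᵥ e 1) := by rw [hg1]
    rw [h5, iso_polar, hyp_fe h]
    simp

end LongRoot

end Cfsg.Agent.Lib.Helper2
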