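import Mathlib
import Cfsg.Agent.Lib.Helper2.LongRoot12

set_option autoImplicit false

namespace Cfsg.Agent.Lib.Helper2

namespace LongRoot

open Matrix Cfsg.Agent.Lib.Helper2.ReflGen Cfsg.Agent.Lib.Helper2.CDG
open Cfsg.Agent.Lib.Helper2.Siegel Cfsg.Agent.Lib.Helper5

variable {F : Type*} [Field F] {ι : Type} [Fintype ι] [DecidableEq ι]
variable {Q : QuadraticForm F (ι → F)}

/-- singular points -/
def IsSingPoint (Q : QuadraticForm F (ι → F)) (P : Submodule F (ι → F)) : Prop :=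
  ∃ u : ι → F, u ≠ 0 ∧ Q u = 0 ∧ P = Submodule.span F {u}

/-- the type of singular points -/
def Pts (Q : QuadraticForm F (ι → F)) : Type _ := {P : Submodule F (ι → F) // IsSingPoint Q P}

/-- the point spanned by a nonzero singular vector -/
def mkPt (u : ι → F) (hu0 : u ≠ 0) (hu : Q u = 0) : Pts Q := ⟨Submodule.span F {u}, u, hu0, hu, rfl⟩

theorem exists_rep (P : Pts Q) : ∃ (u : ι → F) (hu0 : u ≠ 0) (hu : Q u = 0), P = mkPt u hu0 hu := by
  obtain ⟨u, hu0, hu, hP⟩ := P.2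
  exact ⟨u, hu0, hu, Subtype.ext hP⟩

theorem iso_ne_zero (g : ↥(Cfsg.isometryGroup F ⇑Q)) (u : ι → F) (hu0 : u ≠ 0) :
    ((g : Matrix.GeneralLinearGroup ι F) : Matrix ι ι F) *ᵥ u ≠ 0 := by
  intro h
  apply hu0
  have h1 : ((g⁻¹ : ↥(Cfsg.isometryGroup F ⇑Q)) : Matrix.GeneralLinearGroup ι F).1 *ᵥ
      (((g : Matrix.GeneralLinearGroup ι F) : Matrix ι ι F) *ᵥ u) = u := by
    rw [← mul_mulVec, inv_mul_cancel, one_mulVec']
  rw [h, Matrix.mulVec_zero] at h1
  exact h1.symm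

theorem map_span_singleton (g : ↥(Cfsg.isometryGroup F ⇑Q)) (u : ι → F) :
    (Submodule.span F {u}).map
        (Matrix.mulVecLin ((g : Matrix.GeneralLinearGroup ι F) : Matrix ι ι F)) =
      Submodule.span F {((g : Matrix.GeneralLinearGroup ι F) : Matrix ι ι F) *ᵥ u} := by
  rw [Submodule.map_span, Set.image_singleton, Matrix.mulVecLin_apply]

instance instMulActionPts : MulAction ↥(Cfsg.isometryGroup F ⇑Q) (Pts Q) where
  smul g P := ⟨P.1.map (Matrix.mulVecLin ((g : Matrix.GeneralLinearGroup ι F) : Matrix ι ι F)), by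
    obtain ⟨u, hu0, hu, hP⟩ := P.2
    refine ⟨((g : Matrix.GeneralLinearGroup ι F) : Matrix ι ι F) *ᵥ u, iso_ne_zero g u hu0, ?_, ?_⟩
    · rw [iso_Q]; exact hu
    · rw [hP, map_span_singleton]⟩
  one_smul P := by
    apply Subtype.ext
    show P.1.map (Matrix.mulVecLin
      (((1 : ↥(Cfsg.isometryGroup F ⇑Q)) : Matrix.GeneralLinearGroup ι F) : Matrix ι ι F)) = P.1
    have : (((1 : ↥(Cfsg.isometryGroup F ⇑Q)) : Matrix.GeneralLinearGroup ι F) : Matrix ι ι F) = 1 :=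
      rfl
    rw [this, Matrix.mulVecLin_one, Submodule.map_id]
  mul_smul g h P := by
    apply Subtype.ext
    show P.1.map (Matrix.mulVecLin
      (((g * h : ↥(Cfsg.isometryGroup F ⇑Q)) : Matrix.GeneralLinearGroup ι F) : Matrix ι ι F)) =
      (P.1.map (Matrix.mulVecLin ((h : Matrix.GeneralLinearGroup ι F) : Matrix ι ι F))).map
        (Matrix.mulVecLin ((g : Matrix.GeneralLinearGroup ι F) : Matrix ι ι F))
    have : (((g * h : ↥(Cfsg.isometryGroup F ⇑Q)) : Matrix.GeneralLinearGroup ι F) :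
        Matrix ι ι F) = ((g : Matrix.GeneralLinearGroup ι F) : Matrix ι ι F) *
        ((h : Matrix.GeneralLinearGroup ι F) : Matrix ι ι F) := rfl
    rw [this, Matrix.mulVecLin_mul, Submodule.map_comp]

theorem smul_mkPt (g : ↥(Cfsg.isometryGroup F ⇑Q)) (u : ι → F) (hu0 : u ≠ 0) (hu : Q u = 0) :
    g • mkPt u hu0 hu = mkPt (((g : Matrix.GeneralLinearGroup ι F) : Matrix ι ι F) *ᵥ u)
      (iso_ne_zero g u hu0) (by rw [iso_Q]; exact hu) := by
  apply Subtype.ext
  exact map_span_singleton g u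

omit [Fintype ι] [DecidableEq ι] in
theorem mkPt_congr {u u' : ι → F} (h : u = u') (hu0 : u ≠ 0) (hu : Q u = 0) (hu'0 : u' ≠ 0)
    (hu' : Q u' = 0) : mkPt u hu0 hu = mkPt u' hu'0 hu' := by
  subst h; rfl

omit [Fintype ι] [DecidableEq ι] in
theorem mkPt_smul (u : ι → F) (hu0 : u ≠ 0) (hu : Q u = 0) (a : F) (ha : a ≠ 0) :
    mkPt (a • u) (smul_ne_zero ha hu0)
      (by rw [QuadraticMap.map_smul, hu, smul_zero]) = mkPt u hu0 hu := by
  apply Subtype.ext
  exact Submodule.span_singleton_smul_eq (IsUnit.mk0 a ha) u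

omit [Fintype ι] [DecidableEq ι] in
theorem mkPt_eq_iff (u u' : ι → F) (hu0 : u ≠ 0) (hu : Q u = 0) (hu'0 : u' ≠ 0) (hu' : Q u' = 0) :
    mkPt u hu0 hu = mkPt u' hu'0 hu' ↔ ∃ a : F, a ≠ 0 ∧ u' = a • u := by
  constructor
  · intro h
    have h1 : Submodule.span F {u} = Submodule.span F {u'} := congrArg Subtype.val h
    have h2 : u' ∈ Submodule.span F {u} := by
      rw [h1]; exact Submodule.mem_span_singleton_self u'
    obtain ⟨a, ha⟩ := Submodule.mem_span_singleton.1 h2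
    refine ⟨a, ?_, ha.symm⟩
    rintro rfl
    rw [zero_smul] at ha
    exact hu'0 ha.symm
  · rintro ⟨a, ha, rfl⟩
    exact (mkPt_smul u hu0 hu a ha).symm

end LongRoot

end Cfsg.Agent.Lib.Helper2
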