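import Mathlib
import Cfsg.Agent.Lib.Helper2.LongRoot13

set_option autoImplicit false

namespace Cfsg.Agent.Lib.Helper2

namespace LongRoot

open Matrix Cfsg.Agent.Lib.Helper2.ReflGen Cfsg.Agent.Lib.Helper2.CDG
open Cfsg.Agent.Lib.Helper2.Siegel Cfsg.Agent.Lib.Helper5
open scoped Pointwise

variable {F : Type*} [Field F] [Fintype F] {ι : Type} [Fintype ι] [DecidableEq ι]
variable {Q : QuadraticForm F (ι → F)}

theorem block_mem {M α : Type*} [Group M] [MulAction M α] {B : Set α}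
    (hB : MulAction.IsBlock M B) (g : M) {a b : α} (ha : a ∈ B) (hga : g • a ∈ B) (hb : b ∈ B) :
    g • b ∈ B := by
  have h1 : (g • B ∩ (1 : M) • B).Nonempty :=
    ⟨g • a, Set.smul_mem_smul_set ha, by rw [one_smul]; exact hga⟩
  have h2 := hB.smul_eq_smul_of_nonempty h1
  rw [one_smul] at h2
  rw [← h2]
  exact Set.smul_mem_smul_set hb

omit [Fintype F] in
theorem T_smul_mkPt (t : ↥(T Q)) (u : ι → F) (hu0 : u ≠ 0) (hu : Q u = 0) :
    t • mkPt u hu0 hu =
      mkPt ((((t : ↥(Cfsg.isometryGroup F ⇑Q)) : Matrix.GeneralLinearGroup ι F) : Matrix ι ι F) *ᵥ u)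
      (iso_ne_zero _ u hu0) (by rw [iso_Q]; exact hu) :=
  smul_mkPt (t : ↥(Cfsg.isometryGroup F ⇑Q)) u hu0 hu

/-- first step of the primitivity argument -/
theorem block_step (hQ : (QuadraticMap.polarBilin Q).Nondegenerate) (hn : 5 ≤ Fintype.card ι)
    {B : Set (Pts Q)} (hB : MulAction.IsBlock ↥(T Q) B) (u r x : ι → F)
    (hu0 : u ≠ 0) (hu : Q u = 0) (hr0 : r ≠ 0) (hr : Q r = 0) (hx0 : x ≠ 0) (hx : Q x = 0)
    (hPu : mkPt u hu0 hu ∈ B) (hPr : mkPt r hr0 hr ∈ B)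
    (hur : QuadraticMap.polar (⇑Q) u r ≠ 0) (hux : QuadraticMap.polar (⇑Q) u x ≠ 0) :
    mkPt x hx0 hx ∈ B := by
  have hr' : Q ((QuadraticMap.polar (⇑Q) u r)⁻¹ • r) = 0 := by
    rw [QuadraticMap.map_smul, hr, smul_zero]
  have hx' : Q ((QuadraticMap.polar (⇑Q) u x)⁻¹ • x) = 0 := by
    rw [QuadraticMap.map_smul, hx, smul_zero]
  obtain ⟨t, ht, htu, htr⟩ := T_trans_pair hQ hn u ((QuadraticMap.polar (⇑Q) u r)⁻¹ • r) u
    ((QuadraticMap.polar (⇑Q) u x)⁻¹ • x) hu hr' hu hx'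
    (by rw [QuadraticMap.polar_smul_right, smul_eq_mul, inv_mul_cancel₀ hur])
    (by rw [QuadraticMap.polar_smul_right, smul_eq_mul, inv_mul_cancel₀ hux])
  have h1 : (⟨t, ht⟩ : ↥(T Q)) • mkPt u hu0 hu ∈ B := by
    rw [T_smul_mkPt]
    have := mkPt_congr (Q := Q) htu (iso_ne_zero t u hu0) (by rw [iso_Q]; exact hu) hu0 hu
    rw [this]
    exact hPu
  have h2 := block_mem hB (⟨t, ht⟩ : ↥(T Q)) hPu h1 hPr
  rw [T_smul_mkPt] at h2
  have h3 : ((t : Matrix.GeneralLinearGroup ι F) : Matrix ι ι F) *ᵥ r =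
      (QuadraticMap.polar (⇑Q) u r * (QuadraticMap.polar (⇑Q) u x)⁻¹) • x := by
    have h4 : r = QuadraticMap.polar (⇑Q) u r • ((QuadraticMap.polar (⇑Q) u r)⁻¹ • r) := by
      rw [smul_smul, mul_inv_cancel₀ hur, one_smul]
    conv_lhs => rw [h4]
    rw [Matrix.mulVec_smul, htr, smul_smul]
  have h5 : mkPt (((t : Matrix.GeneralLinearGroup ι F) : Matrix ι ι F) *ᵥ r)
      (iso_ne_zero t r hr0) (by rw [iso_Q]; exact hr) = mkPt x hx0 hx := by
    rw [mkPt_congr (Q := Q) h3 (iso_ne_zero t r hr0) (by rw [iso_Q]; exact hr)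
      (smul_ne_zero (mul_ne_zero hur (inv_ne_zero hux)) hx0)
      (by rw [QuadraticMap.map_smul, hx, smul_zero])]
    exact mkPt_smul x hx0 hx _ (mul_ne_zero hur (inv_ne_zero hux))
  rw [← h5]
  exact h2

/-- a block containing two non-perpendicular points is everything -/
theorem block_nonperp (hQ : (QuadraticMap.polarBilin Q).Nondegenerate) (hn : 5 ≤ Fintype.card ι)
    {B : Set (Pts Q)} (hB : MulAction.IsBlock ↥(T Q) B) (u r : ι → F)
    (hu0 : u ≠ 0) (hu : Q u = 0) (hr0 : r ≠ 0) (hr : Q r = 0)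
    (hPu : mkPt u hu0 hu ∈ B) (hPr : mkPt r hr0 hr ∈ B)
    (hur : QuadraticMap.polar (⇑Q) u r ≠ 0) : B = Set.univ := by
  rw [Set.eq_univ_iff_forall]
  intro X
  obtain ⟨x, hx0, hx, rfl⟩ := exists_rep X
  by_cases hux : QuadraticMap.polar (⇑Q) u x = 0
  · obtain ⟨y, hy, huy, hyx⟩ := HypTrans.exists_bridge hQ u x hu0 hx0 hu hx hux
    have hy0 : y ≠ 0 := by
      rintro rfl
      rw [QuadraticMap.polar_zero_right] at huy
      exact huy rfl
    have hPy := block_step hQ hn hB u r y hu0 hu hr0 hr hy0 hy hPu hPr hur huy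
    exact block_step hQ hn hB y u x hy0 hy hu0 hu hx0 hx hPy hPu
      (by rw [QuadraticMap.polar_comm]; exact huy) hyx
  · exact block_step hQ hn hB u r x hu0 hu hr0 hr hx0 hx hPu hPr hur hux

/-- a block containing two distinct perpendicular points is everything -/
theorem block_perp (hQ : (QuadraticMap.polarBilin Q).Nondegenerate) (hn : 7 ≤ Fintype.card ι)
    {B : Set (Pts Q)} (hB : MulAction.IsBlock ↥(T Q) B) (u r : ι → F)
    (hu0 : u ≠ 0) (hu : Q u = 0) (hr0 : r ≠ 0) (hr : Q r = 0)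
    (hPu : mkPt u hu0 hu ∈ B) (hPr : mkPt r hr0 hr ∈ B)
    (hur : QuadraticMap.polar (⇑Q) u r = 0) (hne : mkPt u hu0 hu ≠ mkPt r hr0 hr) :
    B = Set.univ := by
  have hind : ∀ s t : F, s • u + t • r = 0 → s = 0 ∧ t = 0 := by
    intro s t hst
    by_cases ht : t = 0
    · rw [ht, zero_smul, add_zero] at hst
      rcases smul_eq_zero.1 hst with h | h
      · exact ⟨h, ht⟩
      · exact absurd h hu0
    · exfalso
      apply hne
      rw [mkPt_eq_iff]
      have hs : s ≠ 0 := by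
        rintro rfl
        rw [zero_smul, zero_add] at hst
        rcases smul_eq_zero.1 hst with h | h
        · exact ht h
        · exact hr0 h
      refine ⟨-(t⁻¹ * s), neg_ne_zero.2 (mul_ne_zero (inv_ne_zero ht) hs), ?_⟩
      have h1 : t • r = -(s • u) := eq_neg_of_add_eq_zero_right hst
      have h2 : r = t⁻¹ • (t • r) := by rw [smul_smul, inv_mul_cancel₀ ht, one_smul]
      rw [h2, h1, smul_neg, smul_smul, neg_smul]
  obtain ⟨t, ht, htu, htr⟩ := T_move_perp hQ hn u r hu hr hur hind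
  have h1 : (⟨t, ht⟩ : ↥(T Q)) • mkPt u hu0 hu ∈ B := by
    rw [T_smul_mkPt]
    have := mkPt_congr (Q := Q) htu (iso_ne_zero t u hu0) (by rw [iso_Q]; exact hu) hu0 hu
    rw [this]
    exact hPu
  have h2 := block_mem hB (⟨t, ht⟩ : ↥(T Q)) hPu h1 hPr
  rw [T_smul_mkPt] at h2
  exact block_nonperp hQ (by omega) hB r _ hr0 hr (iso_ne_zero t r hr0) (by rw [iso_Q]; exact hr)
    hPr h2 (by rw [QuadraticMap.polar_comm]; exact htr)

end LongRoot

end Cfsg.Agent.Lib.Helper2
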