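import Mathlib
import Cfsg.Agent.Lib.Helper2.LongRoot14

set_option autoImplicit false

namespace Cfsg.Agent.Lib.Helper2

namespace LongRoot

open Matrix Cfsg.Agent.Lib.Helper2.ReflGen Cfsg.Agent.Lib.Helper2.CDG
open Cfsg.Agent.Lib.Helper2.Siegel Cfsg.Agent.Lib.Helper5
open scoped Pointwise

variable {F : Type*} [Field F] {ι : Type} [Fintype ι] [DecidableEq ι]
variable {Q : QuadraticForm F (ι → F)}

/-- long root elements at the same point commute -/
theorem LR_comm (hQ : (QuadraticMap.polarBilin Q).Nondegenerate) (u v v' : ι → F) (a : F)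
    (ha : a ≠ 0) (hu : Q u = 0) (hv : Q v = 0) (huv : QuadraticMap.polar (⇑Q) u v = 0)
    (hu' : Q (a • u) = 0) (hv' : Q v' = 0) (huv' : QuadraticMap.polar (⇑Q) (a • u) v' = 0)
    (c c' : F) :
    LR hQ u v hu hv huv c * LR hQ (a • u) v' hu' hv' huv' c' =
      LR hQ (a • u) v' hu' hv' huv' c' * LR hQ u v hu hv huv c := by
  have huu : QuadraticMap.polar (⇑Q) u u = 0 := polar_self_zero u hu
  have hvu : QuadraticMap.polar (⇑Q) v u = 0 := by rw [QuadraticMap.polar_comm]; exact huv
  have huv'' : QuadraticMap.polar (⇑Q) u v' = 0 := by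
    rw [QuadraticMap.polar_smul_left, smul_eq_mul] at huv'
    exact (mul_eq_zero.1 huv').resolve_left ha
  have hv'u : QuadraticMap.polar (⇑Q) v' u = 0 := by rw [QuadraticMap.polar_comm]; exact huv''
  have hv'v : QuadraticMap.polar (⇑Q) v' v = QuadraticMap.polar (⇑Q) v v' :=
    QuadraticMap.polar_comm _ _ _
  apply iso_ext
  intro x
  simp only [mul_mulVec, LR_mulVec, QuadraticMap.polar_add_right, QuadraticMap.polar_sub_right,
    QuadraticMap.polar_smul_right, QuadraticMap.polar_smul_left, huu, hvu, huv, huv'', hv'u, hv'v,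
    polar_self_zero v hv, polar_self_zero v' hv', smul_eq_mul, mul_zero, sub_zero, add_zero,
    zero_sub, zero_add]
  module

variable [Fintype F]

/-- the action of `T` on the singular points is primitive -/
theorem isPreprimitive (hQ : (QuadraticMap.polarBilin Q).Nondegenerate)
    (hn : 7 ≤ Fintype.card ι) : MulAction.IsPreprimitive ↥(T Q) (Pts Q) := by
  haveI : MulAction.IsPretransitive ↥(T Q) (Pts Q) := ⟨fun P R => by
    obtain ⟨u, hu0, hu, rfl⟩ := exists_rep P
    obtain ⟨r, hr0, hr, rfl⟩ := exists_rep R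
    obtain ⟨t, ht, htu⟩ := T_trans_sing hQ (by omega) u r hu0 hr0 hu hr
    exact ⟨⟨t, ht⟩, by rw [T_smul_mkPt]; exact mkPt_congr htu _ _ _ _⟩⟩
  constructor
  intro B hB
  by_cases hsub : B.Subsingleton
  · exact Or.inl hsub
  · right
    rw [Set.not_subsingleton_iff] at hsub
    obtain ⟨P, hP, R, hR, hne⟩ := hsub
    obtain ⟨u, hu0, hu, rfl⟩ := exists_rep P
    obtain ⟨r, hr0, hr, rfl⟩ := exists_rep R
    by_cases hur : QuadraticMap.polar (⇑Q) u r = 0
    · exact block_perp hQ hn hB u r hu0 hu hr0 hr hP hR hur hne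
    · exact block_nonperp hQ (by omega) hB u r hu0 hu hr0 hr hP hR hur

end LongRoot

end Cfsg.Agent.Lib.Helper2
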