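import Mathlib
import Cfsg.Agent.Lib.Helper2.LongRoot15

set_option autoImplicit false

namespace Cfsg.Agent.Lib.Helper2

namespace LongRoot

open Matrix Cfsg.Agent.Lib.Helper2.ReflGen Cfsg.Agent.Lib.Helper2.CDG
open Cfsg.Agent.Lib.Helper2.Siegel Cfsg.Agent.Lib.Helper5
open scoped Pointwise

variable {F : Type*} [Field F] {ι : Type} [Fintype ι] [DecidableEq ι]
variable {Q : QuadraticForm F (ι → F)}

/-- the long root elements at a point -/
def gens (hQ : (QuadraticMap.polarBilin Q).Nondegenerate) (P : Pts Q) : Set ↥(T Q) :=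
  {t | ∃ (u v : ι → F) (c : F) (hu : Q u = 0) (hv : Q v = 0)
    (huv : QuadraticMap.polar (⇑Q) u v = 0), u ≠ 0 ∧ u ∈ P.1 ∧
    (t : ↥(Cfsg.isometryGroup F ⇑Q)) = LR hQ u v hu hv huv c}

/-- the root subgroup at a point -/
def A (hQ : (QuadraticMap.polarBilin Q).Nondegenerate) (P : Pts Q) : Subgroup ↥(T Q) :=
  Subgroup.closure (gens hQ P)

theorem conj_gens_subset (hQ : (QuadraticMap.polarBilin Q).Nondegenerate) (g : ↥(T Q))
    (P : Pts Q) : MulAut.conj g • gens hQ P ⊆ gens hQ (g • P) := by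
  intro x hx
  obtain ⟨t, ht, rfl⟩ := Set.mem_smul_set.1 hx
  obtain ⟨u, v, c, hu, hv, huv, hu0, huP, htc⟩ := ht
  refine ⟨((((g : ↥(Cfsg.isometryGroup F ⇑Q)) : Matrix.GeneralLinearGroup ι F)) : Matrix ι ι F) *ᵥ u,
    ((((g : ↥(Cfsg.isometryGroup F ⇑Q)) : Matrix.GeneralLinearGroup ι F)) : Matrix ι ι F) *ᵥ v, c,
    by rw [iso_Q]; exact hu, by rw [iso_Q]; exact hv, by rw [iso_polar]; exact huv,
    iso_ne_zero _ u hu0, ?_, ?_⟩
  · show _ ∈ P.1.map (Matrix.mulVecLin _)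
    exact Submodule.mem_map.2 ⟨u, huP, rfl⟩
  · rw [MulAut.smul_def, MulAut.conj_apply]
    show (g : ↥(Cfsg.isometryGroup F ⇑Q)) * (t : ↥(Cfsg.isometryGroup F ⇑Q)) *
      (g : ↥(Cfsg.isometryGroup F ⇑Q))⁻¹ = _
    rw [htc, conj_LR]

theorem gens_smul (hQ : (QuadraticMap.polarBilin Q).Nondegenerate) (g : ↥(T Q))
    (P : Pts Q) : gens hQ (g • P) = MulAut.conj g • gens hQ P := by
  apply Set.Subset.antisymm
  · intro t ht
    rw [Set.mem_smul_set_iff_inv_smul_mem]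
    have h1 := conj_gens_subset hQ g⁻¹ (g • P)
    rw [inv_smul_smul] at h1
    apply h1
    rw [← map_inv]
    exact Set.smul_mem_smul_set ht
  · exact conj_gens_subset hQ g P

theorem A_smul (hQ : (QuadraticMap.polarBilin Q).Nondegenerate) (g : ↥(T Q))
    (P : Pts Q) : A hQ (g • P) = MulAut.conj g • A hQ P := by
  unfold A
  rw [Subgroup.smul_closure, gens_smul]

theorem A_comm (hQ : (QuadraticMap.polarBilin Q).Nondegenerate) (P : Pts Q) :
    IsMulCommutative ↥(A hQ P) := by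
  apply Subgroup.isMulCommutative_closure
  intro x hx y hy
  obtain ⟨u, v, c, hu, hv, huv, hu0, huP, hxc⟩ := hx
  obtain ⟨u', v', c', hu', hv', huv', hu'0, hu'P, hyc⟩ := hy
  obtain ⟨w, hw0, hw, hPw⟩ := P.2
  rw [hPw] at huP hu'P
  obtain ⟨a, ha⟩ := Submodule.mem_span_singleton.1 huP
  obtain ⟨a', ha'⟩ := Submodule.mem_span_singleton.1 hu'P
  have ha0 : a ≠ 0 := by
    rintro rfl
    rw [zero_smul] at ha
    exact hu0 ha.symm
  have ha'0 : a' ≠ 0 := by
    rintro rfl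
    rw [zero_smul] at ha'
    exact hu'0 ha'.symm
  have hu'u : u' = (a' * a⁻¹) • u := by
    rw [← ha, smul_smul, mul_assoc, inv_mul_cancel₀ ha0, mul_one, ha']
  subst hu'u
  apply Subtype.ext
  show (x : ↥(Cfsg.isometryGroup F ⇑Q)) * (y : ↥(Cfsg.isometryGroup F ⇑Q)) =
    (y : ↥(Cfsg.isometryGroup F ⇑Q)) * (x : ↥(Cfsg.isometryGroup F ⇑Q))
  rw [hxc, hyc]
  exact LR_comm hQ u v v' (a' * a⁻¹) (mul_ne_zero ha'0 (inv_ne_zero ha0)) hu hv huv hu' hv' huv' c c'

theorem iSup_A (hQ : (QuadraticMap.polarBilin Q).Nondegenerate) : iSup (A hQ) = ⊤ := by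
  rw [eq_top_iff]
  intro x hx
  clear hx
  obtain ⟨g, hg⟩ := x
  show (⟨g, hg⟩ : ↥(T Q)) ∈ iSup (A hQ)
  unfold T at hg
  induction hg using Subgroup.closure_induction with
  | mem y hy =>
    obtain ⟨u, v, c, hu, hv, huv, hyc⟩ := hy
    have hy' := eq_LR_of_coe hQ y u v hu hv huv c hyc
    by_cases hu0 : u = 0
    · have h1 : y = 1 := by
        rw [hy']
        exact LR_trivial hQ u v hu hv huv c 1 0 (by rw [hu0]; simp) (by simp)
      have h2 : (⟨y, Subgroup.subset_closure ⟨u, v, c, hu, hv, huv, hyc⟩⟩ : ↥(T Q)) = 1 :=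
        Subtype.ext h1
      rw [h2]
      exact Subgroup.one_mem _
    · apply Subgroup.mem_iSup_of_mem (mkPt u hu0 hu)
      apply Subgroup.subset_closure
      exact ⟨u, v, c, hu, hv, huv, hu0, Submodule.mem_span_singleton_self u, hy'⟩
  | one => exact Subgroup.one_mem _
  | mul y z hy hz ihy ihz =>
    have : (⟨y * z, Subgroup.mul_mem _ hy hz⟩ : ↥(T Q)) = ⟨y, hy⟩ * ⟨z, hz⟩ := rfl
    rw [this]
    exact Subgroup.mul_mem _ ihy ihz
  | inv y hy ihy =>
    have : (⟨y⁻¹, Subgroup.inv_mem _ hy⟩ : ↥(T Q)) = (⟨y, hy⟩ : ↥(T Q))⁻¹ := rfl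
    rw [this]
    exact Subgroup.inv_mem _ ihy

/-- the Iwasawa structure on the singular points -/
def iwasawa (hQ : (QuadraticMap.polarBilin Q).Nondegenerate) :
    MulAction.IwasawaStructure ↥(T Q) (Pts Q) where
  T := A hQ
  is_comm := A_comm hQ
  is_conj := A_smul hQ
  is_generator := iSup_A hQ

end LongRoot

end Cfsg.Agent.Lib.Helper2
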