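import Mathlib
import Cfsg.Agent.Lib.Helper2.LongRoot16
import Cfsg.Agent.Lib.Helper2.CentOmega4

set_option autoImplicit false

namespace Cfsg.Agent.Lib.Helper2

namespace LongRoot

open Matrix Cfsg.Agent.Lib.Helper2.ReflGen Cfsg.Agent.Lib.Helper2.CDG
open Cfsg.Agent.Lib.Helper2.Siegel Cfsg.Agent.Lib.Helper5
open scoped Pointwise

variable {F : Type*} [Field F] [Fintype F] {ι : Type} [Fintype ι] [DecidableEq ι]
variable {Q : QuadraticForm F (ι → F)}

/-- an isometry fixing all singular points stabilises all nonsingular points -/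
theorem fix_nonsingular (hQ : (QuadraticMap.polarBilin Q).Nondegenerate)
    (hn : 5 ≤ Fintype.card ι) (g : ↥(Cfsg.isometryGroup F ⇑Q))
    (hfix : ∀ u : ι → F, u ≠ 0 → Q u = 0 →
      ∃ t : F, ((g : Matrix.GeneralLinearGroup ι F) : Matrix ι ι F) *ᵥ u = t • u)
    (x : ι → F) (hx : Q x ≠ 0) :
    ∃ t : F, ((g : Matrix.GeneralLinearGroup ι F) : Matrix ι ι F) *ᵥ x = t • x := by
  obtain ⟨e, f, h⟩ := exists_hyp hQ 2 (by omega)
  have hx0 : x ≠ 0 := by rintro rfl; exact hx (QuadraticMap.map_zero Q)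
  have hcomb : comb e f ![1, 0] ![Q x, 0] = e 0 + Q x • f 0 := by
    unfold comb
    simp [Fin.sum_univ_two]
  obtain ⟨k, hk⟩ := transport1 hQ (comb e f ![1, 0] ![Q x, 0]) x (QuadraticMap.polarBilin Q (f 0))
    (by
      show QuadraticMap.polar (⇑Q) (f 0) _ = 1
      rw [f_eq_comb e f 0, hyp_polar_comb h]
      simp [Fin.sum_univ_two])
    (by rw [hyp_Q_comb h]; simp [Fin.sum_univ_two]) hx0
  rw [hcomb, Matrix.mulVec_add, Matrix.mulVec_smul] at hk
  obtain ⟨s₁, hs₁⟩ : ∃ s₁, s₁ = ((k : Matrix.GeneralLinearGroup ι F) : Matrix ι ι F) *ᵥ e 0 :=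
    ⟨_, rfl⟩
  obtain ⟨s₂, hs₂⟩ : ∃ s₂, s₂ = ((k : Matrix.GeneralLinearGroup ι F) : Matrix ι ι F) *ᵥ f 0 :=
    ⟨_, rfl⟩
  obtain ⟨s₃, hs₃⟩ : ∃ s₃, s₃ = ((k : Matrix.GeneralLinearGroup ι F) : Matrix ι ι F) *ᵥ e 1 :=
    ⟨_, rfl⟩
  obtain ⟨s₄, hs₄⟩ : ∃ s₄, s₄ = ((k : Matrix.GeneralLinearGroup ι F) : Matrix ι ι F) *ᵥ f 1 :=
    ⟨_, rfl⟩
  rw [← hs₁, ← hs₂] at hk
  have q1 : Q s₁ = 0 := by rw [hs₁, iso_Q]; exact h.qe 0
  have q2 : Q s₂ = 0 := by rw [hs₂, iso_Q]; exact h.qf 0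
  have q3 : Q s₃ = 0 := by rw [hs₃, iso_Q]; exact h.qe 1
  have p12 : QuadraticMap.polar (⇑Q) s₁ s₂ = 1 := by rw [hs₁, hs₂, iso_polar, h.ef]; simp
  have p13 : QuadraticMap.polar (⇑Q) s₁ s₃ = 0 := by rw [hs₁, hs₃, iso_polar]; exact h.ee 0 1
  have p14 : QuadraticMap.polar (⇑Q) s₁ s₄ = 0 := by rw [hs₁, hs₄, iso_polar, h.ef]; simp
  have p23 : QuadraticMap.polar (⇑Q) s₂ s₃ = 0 := by rw [hs₂, hs₃, iso_polar, hyp_fe h]; simp
  have p24 : QuadraticMap.polar (⇑Q) s₂ s₄ = 0 := by rw [hs₂, hs₄, iso_polar]; exact h.ff 0 1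
  have p34 : QuadraticMap.polar (⇑Q) s₃ s₄ = 1 := by rw [hs₃, hs₄, iso_polar, h.ef]; simp
  have p21 : QuadraticMap.polar (⇑Q) s₂ s₁ = 1 := by rw [QuadraticMap.polar_comm]; exact p12
  have p31 : QuadraticMap.polar (⇑Q) s₃ s₁ = 0 := by rw [QuadraticMap.polar_comm]; exact p13
  have p32 : QuadraticMap.polar (⇑Q) s₃ s₂ = 0 := by rw [QuadraticMap.polar_comm]; exact p23
  have n1 : s₁ ≠ 0 := by
    rintro rfl; rw [QuadraticMap.polar_zero_left] at p12; exact zero_ne_one p12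
  have n2 : s₂ ≠ 0 := by
    rintro rfl; rw [QuadraticMap.polar_zero_right] at p12; exact zero_ne_one p12
  have n3 : s₃ ≠ 0 := by
    rintro rfl; rw [QuadraticMap.polar_zero_left] at p34; exact zero_ne_one p34
  have q13 : Q (s₁ + s₃) = 0 := by rw [QuadraticMap.map_add (⇑Q), q1, q3, p13]; ring
  have q23 : Q (s₂ + s₃) = 0 := by rw [QuadraticMap.map_add (⇑Q), q2, q3, p23]; ring
  have n13 : s₁ + s₃ ≠ 0 := by
    intro h0
    have := congrArg (fun z => QuadraticMap.polar (⇑Q) z s₂) h0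
    simp only [QuadraticMap.polar_add_left, p12, p32, QuadraticMap.polar_zero_left,
      add_zero] at this
    exact one_ne_zero (α := F) this
  have n23 : s₂ + s₃ ≠ 0 := by
    intro h0
    have := congrArg (fun z => QuadraticMap.polar (⇑Q) z s₁) h0
    simp only [QuadraticMap.polar_add_left, p21, p31, QuadraticMap.polar_zero_left,
      add_zero] at this
    exact one_ne_zero (α := F) this
  obtain ⟨t₁, ht₁⟩ := hfix s₁ n1 q1
  obtain ⟨t₂, ht₂⟩ := hfix s₂ n2 q2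
  obtain ⟨t₃, ht₃⟩ := hfix s₃ n3 q3
  obtain ⟨t₁₃, ht₁₃⟩ := hfix (s₁ + s₃) n13 q13
  obtain ⟨t₂₃, ht₂₃⟩ := hfix (s₂ + s₃) n23 q23
  rw [Matrix.mulVec_add, ht₁, ht₃] at ht₁₃
  rw [Matrix.mulVec_add, ht₂, ht₃] at ht₂₃
  have e1 : t₁ = t₁₃ := by
    have := congrArg (fun z => QuadraticMap.polar (⇑Q) z s₂) ht₁₃
    simp only [QuadraticMap.polar_add_left, QuadraticMap.polar_smul_left, p12, p32, smul_eq_mul,
      mul_one, mul_zero, add_zero] at this
    exact this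
  have e3 : t₃ = t₁₃ := by
    have := congrArg (fun z => QuadraticMap.polar (⇑Q) z s₄) ht₁₃
    simp only [QuadraticMap.polar_add_left, QuadraticMap.polar_smul_left, p14, p34, smul_eq_mul,
      mul_one, mul_zero, zero_add] at this
    exact this
  have e2 : t₂ = t₂₃ := by
    have := congrArg (fun z => QuadraticMap.polar (⇑Q) z s₁) ht₂₃
    simp only [QuadraticMap.polar_add_left, QuadraticMap.polar_smul_left, p21, p31, smul_eq_mul,
      mul_one, mul_zero, add_zero] at this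
    exact this
  have e3' : t₃ = t₂₃ := by
    have := congrArg (fun z => QuadraticMap.polar (⇑Q) z s₄) ht₂₃
    simp only [QuadraticMap.polar_add_left, QuadraticMap.polar_smul_left, p24, p34, smul_eq_mul,
      mul_one, mul_zero, zero_add] at this
    exact this
  refine ⟨t₁, ?_⟩
  have e12 : t₂ = t₁ := by rw [e2, ← e3', e3, ← e1]
  rw [← hk, Matrix.mulVec_add, Matrix.mulVec_smul, ht₁, ht₂, e12, smul_add, smul_smul, smul_smul,
    mul_comm]

/-- an isometry fixing all singular points is a scalar -/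
theorem scalar_of_fix_points (hQ : (QuadraticMap.polarBilin Q).Nondegenerate)
    (hn : 5 ≤ Fintype.card ι) (g : ↥(Cfsg.isometryGroup F ⇑Q))
    (hfix : ∀ u : ι → F, u ≠ 0 → Q u = 0 →
      ∃ t : F, ((g : Matrix.GeneralLinearGroup ι F) : Matrix ι ι F) *ᵥ u = t • u) :
    ∃ t : F, t * t = 1 ∧
      ∀ v, ((g : Matrix.GeneralLinearGroup ι F) : Matrix ι ι F) *ᵥ v = t • v :=
  CentO.scalar_of_fix hQ hn g (fun x hx => fix_nonsingular hQ hn g hfix x hx)

end LongRoot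

end Cfsg.Agent.Lib.Helper2
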