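import Mathlib
import Cfsg.Agent.Lib.Helper2.LongRoot17

set_option autoImplicit false

namespace Cfsg.Agent.Lib.Helper2

namespace LongRoot

open Matrix Cfsg.Agent.Lib.Helper2.ReflGen Cfsg.Agent.Lib.Helper2.CDG
open Cfsg.Agent.Lib.Helper2.Siegel Cfsg.Agent.Lib.Helper5
open scoped Pointwise

variable {F : Type*} [Field F] [Fintype F] {ι : Type} [Fintype ι] [DecidableEq ι]
variable {Q : QuadraticForm F (ι → F)}

/-- a normal subgroup of `T` is central or everything -/
theorem normal_dichotomy (hQ : (QuadraticMap.polarBilin Q).Nondegenerate)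
    (hn : 7 ≤ Fintype.card ι) (N : Subgroup ↥(T Q)) [N.Normal] :
    N ≤ Subgroup.center ↥(T Q) ∨ N = ⊤ := by
  haveI := isPreprimitive hQ hn
  by_cases hfix : MulAction.fixedPoints N (Pts Q) = Set.univ
  · left
    intro n hn'
    have hfixn : ∀ P : Pts Q, n • P = P := by
      intro P
      have hP : P ∈ MulAction.fixedPoints N (Pts Q) := by rw [hfix]; exact Set.mem_univ P
      exact hP ⟨n, hn'⟩
    have hvec : ∀ u : ι → F, u ≠ 0 → Q u = 0 →
        ∃ t : F, (((n : ↥(Cfsg.isometryGroup F ⇑Q)) : Matrix.GeneralLinearGroup ι F) :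
          Matrix ι ι F) *ᵥ u = t • u := by
      intro u hu0 hu
      have h1 := hfixn (mkPt u hu0 hu)
      rw [T_smul_mkPt] at h1
      obtain ⟨a, -, ha⟩ := (mkPt_eq_iff _ _ _ _ _ _).1 h1
      have h2 : u = a • ((((n : ↥(Cfsg.isometryGroup F ⇑Q)) : Matrix.GeneralLinearGroup ι F) :
          Matrix ι ι F) *ᵥ u) := ha
      have ha0 : a ≠ 0 := by
        rintro rfl
        rw [zero_smul] at h2
        exact hu0 h2
      refine ⟨a⁻¹, ?_⟩
      conv_rhs => rw [h2]
      rw [smul_smul, inv_mul_cancel₀ ha0, one_smul]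
    obtain ⟨t, -, ht⟩ := scalar_of_fix_points hQ (by omega) (n : ↥(Cfsg.isometryGroup F ⇑Q)) hvec
    rw [Subgroup.mem_center_iff]
    intro m
    apply Subtype.ext
    apply iso_ext
    intro v
    have key : ∀ (a b : ↥(T Q)) (w : ι → F),
        (((((a * b : ↥(T Q)) : ↥(Cfsg.isometryGroup F ⇑Q)) : Matrix.GeneralLinearGroup ι F)) :
          Matrix ι ι F) *ᵥ w =
        ((((a : ↥(Cfsg.isometryGroup F ⇑Q)) : Matrix.GeneralLinearGroup ι F)) : Matrix ι ι F) *ᵥ
          (((((b : ↥(Cfsg.isometryGroup F ⇑Q)) : Matrix.GeneralLinearGroup ι F)) :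
            Matrix ι ι F) *ᵥ w) :=
      fun a b w => mul_mulVec (a : ↥(Cfsg.isometryGroup F ⇑Q)) (b : ↥(Cfsg.isometryGroup F ⇑Q)) w
    rw [key, key, ht, ht, Matrix.mulVec_smul]
  · right
    have h1 := (iwasawa hQ).commutator_le N hfix
    rw [commutator_T hQ hn] at h1
    exact top_le_iff.1 h1

/-- `T / Z(T)` is simple -/
theorem simple_quotient (hQ : (QuadraticMap.polarBilin Q).Nondegenerate)
    (hn : 7 ≤ Fintype.card ι) : IsSimpleGroup (↥(T Q) ⧸ Subgroup.center ↥(T Q)) := by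
  have hnt : Nontrivial (↥(T Q) ⧸ Subgroup.center ↥(T Q)) := by
    by_contra hcon
    rw [not_nontrivial_iff_subsingleton] at hcon
    have h1 := QuotientGroup.subgroup_eq_top_of_subsingleton _ hcon
    have h2 := (commutator_eq_bot_iff_center_eq_top ↥(T Q)).2 h1
    rw [commutator_T hQ hn] at h2
    -- `T` is trivial: contradiction with transitivity
    obtain ⟨e, f, h⟩ := exists_hyp hQ 2 (by omega)
    obtain ⟨t, ht, hte⟩ := T_trans_sing hQ (by omega) (e 0) (e 1) (hyp_e_ne_zero h 0)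
      (hyp_e_ne_zero h 1) (h.qe 0) (h.qe 1)
    have h3 : (⟨t, ht⟩ : ↥(T Q)) ∈ (⊤ : Subgroup ↥(T Q)) := Subgroup.mem_top _
    rw [h2, Subgroup.mem_bot] at h3
    have h4 : t = 1 := congrArg Subtype.val h3
    rw [h4, one_mulVec'] at hte
    have h5 := h.ef 0 0
    have h6 := h.ef 1 0
    rw [← hte, h5] at h6
    simp at h6
  refine { toNontrivial := hnt, eq_bot_or_eq_top_of_normal := ?_ }
  intro N' hN'
  have : (N'.comap (QuotientGroup.mk' (Subgroup.center ↥(T Q)))).Normal := hN'.comap _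
  rcases normal_dichotomy hQ hn (N'.comap (QuotientGroup.mk' (Subgroup.center ↥(T Q)))) with h | h
  · left
    rw [Subgroup.eq_bot_iff_forall]
    intro x' hx'
    obtain ⟨x, rfl⟩ := QuotientGroup.mk'_surjective _ x'
    have hx : x ∈ N'.comap (QuotientGroup.mk' (Subgroup.center ↥(T Q))) := hx'
    exact (QuotientGroup.eq_one_iff x).2 (h hx)
  · right
    rw [eq_top_iff]
    intro x' _
    obtain ⟨x, rfl⟩ := QuotientGroup.mk'_surjective _ x'
    have hx : x ∈ N'.comap (QuotientGroup.mk' (Subgroup.center ↥(T Q))) := by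
      rw [h]; exact Subgroup.mem_top x
    exact hx

/-- transfer along an equality of subgroups -/
theorem simple_of_eq (hQ : (QuadraticMap.polarBilin Q).Nondegenerate)
    (hn : 7 ≤ Fintype.card ι) (H : Subgroup ↥(Cfsg.isometryGroup F ⇑Q)) (hH : H = T Q) :
    IsSimpleGroup (↥H ⧸ Subgroup.center ↥H) := by
  subst hH
  exact simple_quotient hQ hn

/-- `PΩ(Q)` is simple in dimension at least seven -/
theorem simple_POmega (hQ : (QuadraticMap.polarBilin Q).Nondegenerate)
    (hn : 7 ≤ Fintype.card ι) : IsSimpleGroup (Cfsg.POmega F ⇑Q) :=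
  simple_of_eq hQ hn (Cfsg.Omega F ⇑Q) (T_eq_Omega hQ hn).symm

end LongRoot

end Cfsg.Agent.Lib.Helper2
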