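import Mathlib

set_option autoImplicit false

namespace Cfsg.Agent.Lib.Helper2

namespace GenComm

/-- if the generators commute modulo a normal subgroup `N`, then `N` contains the commutator
subgroup -/
theorem commutator_le_of_generators {G : Type*} [Group G] (S : Set G)
    (hS : Subgroup.closure S = ⊤) (N : Subgroup G) [hN : N.Normal]
    (hcomm : ∀ a ∈ S, ∀ b ∈ S, a * b * a⁻¹ * b⁻¹ ∈ N) : commutator G ≤ N := by
  have hcommQ : ∀ x y : G ⧸ N, x * y = y * x := by
    have hk : Subgroup.closure ((QuotientGroup.mk' N) '' S) = ⊤ := by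
      rw [← MonoidHom.map_closure, hS, ← MonoidHom.range_eq_map,
        MonoidHom.range_eq_top.2 (QuotientGroup.mk'_surjective N)]
    have hkc : ∀ x ∈ (QuotientGroup.mk' N) '' S, ∀ y ∈ (QuotientGroup.mk' N) '' S,
        x * y = y * x := by
      rintro _ ⟨a, ha, rfl⟩ _ ⟨b, hb, rfl⟩
      have h1 := hcomm a ha b hb
      have h3 : (QuotientGroup.mk' N) (a * b * a⁻¹ * b⁻¹) = 1 := by
        rw [QuotientGroup.mk'_apply, QuotientGroup.eq_one_iff]
        exact h1
      rw [map_mul, map_mul, map_mul, map_inv, map_inv] at h3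
      have h4 := mul_inv_eq_one.1 h3
      exact mul_inv_eq_iff_eq_mul.1 h4
    intro x y
    have hx : x ∈ Subgroup.closure ((QuotientGroup.mk' N) '' S) := by rw [hk]; trivial
    have hy : y ∈ Subgroup.closure ((QuotientGroup.mk' N) '' S) := by rw [hk]; trivial
    letI := Subgroup.closureCommGroupOfComm hkc
    have := mul_comm (⟨x, hx⟩ : Subgroup.closure ((QuotientGroup.mk' N) '' S)) ⟨y, hy⟩
    exact congrArg Subtype.val this
  letI : CommGroup (G ⧸ N) := { (inferInstance : Group (G ⧸ N)) with mul_comm := hcommQ }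
  have h1 := Abelianization.commutator_subset_ker (QuotientGroup.mk' N)
  rw [QuotientGroup.ker_mk'] at h1
  exact h1

end GenComm

end Cfsg.Agent.Lib.Helper2
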