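import Mathlib
import Cfsg.Agent.Lib.Helper1.DiagForm2
import Cfsg.Agent.Lib.Helper5.QuadFin
import Cfsg.Agent.S0291

set_option autoImplicit false

/-!
Every nondegenerate quadratic space of dimension `2d+1` over a finite field of odd characteristic
is similar to the standard form `quadFormOdd d F`; consequently it has `q^(2d)` singular vectors.
-/

namespace Cfsg.Agent.Lib.Helper2.OrthEl

open Module QuadraticMap
open Cfsg.Agent.Lib.Helper1.DiagForm

variable {F V : Type*} [Field F] [AddCommGroup V] [Module F V] [FiniteDimensional F V]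
variable {Q : QuadraticForm F V}

/-- existence of an orthogonal anisotropic basis -/
theorem exists_orthogonal_basis' (h2 : (2 : F) ≠ 0) (hQ : (polarBilin Q).Nondegenerate) :
    ∃ b : Basis (Fin (finrank F V)) F V,
      (∀ i j, i ≠ j → polar (⇑Q) (b i) (b j) = 0) ∧ ∀ i, Q (b i) ≠ 0 := by
  classical
  have : Invertible (2 : F) := invertibleOfNonzero h2
  have hsymm : LinearMap.IsSymm (polarBilin Q) := by
    refine ⟨fun x y => ?_⟩
    simp [polar_comm]
  obtain ⟨b, hb⟩ := LinearMap.BilinForm.exists_orthogonal_basis hsymm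
  rw [LinearMap.isOrthoᵢ_def] at hb
  have hortho : ∀ i j, i ≠ j → polar (⇑Q) (b i) (b j) = 0 := fun i j hij => hb i j hij
  refine ⟨b, hortho, ?_⟩
  intro i h0
  have h1 : ∀ x, polarBilin Q (b i) x = 0 := by
    intro x
    rw [← b.sum_repr x, map_sum]
    apply Finset.sum_eq_zero
    intro j _
    rw [map_smul, smul_eq_mul]
    by_cases hij : i = j
    · rw [← hij]
      show _ * polar (⇑Q) (b i) (b i) = 0
      rw [polar_self, h0, smul_zero, mul_zero]
    · show _ * polar (⇑Q) (b i) (b j) = 0
      rw [hortho i j hij, mul_zero]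
  exact b.ne_zero i (hQ.1 _ h1)

/-- a quadratic form is the weighted sum of squares of the coordinates in an orthogonal basis -/
theorem eq_wss_of_orthogonal {ι : Type*} [Fintype ι] [DecidableEq ι] (b : Basis ι F V)
    (hb : ∀ i j, i ≠ j → polar (⇑Q) (b i) (b j) = 0) (v : V) :
    Q v = wss (fun i => Q (b i)) (b.equivFun v) := by
  let Q₂ : QuadraticForm F V :=
    (QuadraticMap.weightedSumSquares F (fun i => Q (b i))).comp b.equivFun.toLinearMap
  have hQ₂ : ∀ x, Q₂ x = wss (fun i => Q (b i)) (b.equivFun x) := by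
    intro x
    show (QuadraticMap.weightedSumSquares F (fun i => Q (b i))) (b.equivFun x) = _
    rw [QuadraticMap.weightedSumSquares_apply]
    unfold wss
    apply Finset.sum_congr rfl
    intro i _
    rw [smul_eq_mul, pow_two]
  rw [← hQ₂]
  have hbi : ∀ i, b.equivFun (b i) = Pi.single i 1 := by
    intro i
    funext j
    rw [Basis.equivFun_apply, Basis.repr_self, Finsupp.single_apply, Pi.single_apply]
    simp only [eq_comm]
  have hsingle : ∀ (i : ι) (t : F), wss (fun i => Q (b i)) (Pi.single i t) = Q (b i) * t ^ 2 := by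
    intro i t
    unfold wss
    rw [Finset.sum_eq_single i]
    · rw [Pi.single_eq_same]
    · intro j _ hj
      rw [Pi.single_eq_of_ne hj]
      ring
    · intro h
      exact absurd (Finset.mem_univ i) h
  apply Cfsg.Agent.Lib.Helper5.ext_basis Q Q₂ b
  · intro i
    rw [hQ₂, hbi, hsingle]
    ring
  · intro i j
    by_cases hij : i = j
    · subst hij
      rw [polar_self, polar_self, hQ₂, hbi, hsingle]
      simp
    · rw [hb i j hij]
      unfold polar
      rw [hQ₂, hQ₂, hQ₂, map_add, hbi, hbi, hsingle, hsingle]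
      unfold wss
      have : ∀ k, Q (b k) * ((Pi.single i (1 : F) + Pi.single j (1 : F) : ι → F) k) ^ 2 =
          Q (b k) * (Pi.single i (1 : F) : ι → F) k ^ 2 +
            Q (b k) * (Pi.single j (1 : F) : ι → F) k ^ 2 := by
        intro k
        rw [Pi.add_apply]
        by_cases hk : k = i
        · subst hk
          rw [Pi.single_eq_same, Pi.single_eq_of_ne hij]
          ring
        · rw [Pi.single_eq_of_ne hk]
          ring
      rw [Finset.sum_congr rfl (fun k _ => this k), Finset.sum_add_distrib]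
      have h3 := hsingle i 1
      have h4 := hsingle j 1
      unfold wss at h3 h4
      rw [h3, h4]
      ring

theorem wss_smul {ι : Type*} [Fintype ι] (c : F) (w : ι → F) (u : ι → F) :
    wss (fun i => c * w i) u = c * wss w u := by
  unfold wss
  rw [Finset.mul_sum]
  apply Finset.sum_congr rfl
  intro i _
  ring

/-- scaling one coordinate -/
def scaleAt {ι : Type*} [DecidableEq ι] (j₀ : ι) (t : F) (ht : t ≠ 0) : (ι → F) ≃ₗ[F] (ι → F) where
  toFun v := fun i => if i = j₀ then t * v i else v i
  invFun v := fun i => if i = j₀ then t⁻¹ * v i else v i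
  map_add' v v' := by
    funext i
    simp only [Pi.add_apply]
    split_ifs <;> ring
  map_smul' r v := by
    funext i
    simp only [Pi.smul_apply, smul_eq_mul, RingHom.id_apply]
    split_ifs <;> ring
  left_inv v := by
    funext i
    simp only
    split_ifs
    · rw [← mul_assoc, inv_mul_cancel₀ ht, one_mul]
    · rfl
  right_inv v := by
    funext i
    simp only
    split_ifs
    · rw [← mul_assoc, mul_inv_cancel₀ ht, one_mul]
    · rfl

theorem wss_scaleAt {ι : Type*} [Fintype ι] [DecidableEq ι] (j₀ : ι) (t : F) (ht : t ≠ 0) (a : F)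
    (u : ι → F) :
    wss (Function.update (fun _ => (1 : F)) j₀ a) (scaleAt j₀ t ht u) =
      wss (Function.update (fun _ => (1 : F)) j₀ (t ^ 2 * a)) u := by
  unfold wss
  apply Finset.sum_congr rfl
  intro i _
  show Function.update (fun _ => (1 : F)) j₀ a i * (if i = j₀ then t * u i else u i) ^ 2 = _
  by_cases hi : i = j₀
  · rw [if_pos hi, hi, Function.update_self, Function.update_self]
    ring
  · rw [if_neg hi, Function.update_of_ne hi, Function.update_of_ne hi]

/-- every nondegenerate quadratic space of odd dimension over a finite field of odd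
characteristic is similar to the standard one -/
theorem exists_similarity_odd [Fintype F] (h2 : (2 : F) ≠ 0)
    (hQ : (polarBilin Q).Nondegenerate) (d : ℕ) (hdim : finrank F V = 2 * d + 1) :
    ∃ (c : F) (e : V ≃ₗ[F] (Unit ⊕ (Fin d ⊕ Fin d) → F)), c ≠ 0 ∧
      ∀ v, Cfsg.quadFormOdd d F (e v) = c * Q v := by
  classical
  obtain ⟨b₀, hb₀, hne₀⟩ := exists_orthogonal_basis' h2 hQ
  have hcard : Fintype.card (Fin (finrank F V)) = Fintype.card (Unit ⊕ (Fin d ⊕ Fin d)) := by
    rw [Fintype.card_fin, hdim]
    simp only [Fintype.card_sum, Fintype.card_unit, Fintype.card_fin]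
    ring
  obtain ⟨σ⟩ := Fintype.card_eq.mp hcard
  set b : Basis (Unit ⊕ (Fin d ⊕ Fin d)) F V := b₀.reindex σ with hbdef
  have hbi : ∀ i, b i = b₀ (σ.symm i) := fun i => Basis.reindex_apply b₀ σ i
  have hb : ∀ i j, i ≠ j → polar (⇑Q) (b i) (b j) = 0 := by
    intro i j hij
    rw [hbi, hbi]
    exact hb₀ _ _ (fun h => hij (σ.symm.injective h))
  have hne : ∀ i, Q (b i) ≠ 0 := by
    intro i
    rw [hbi]
    exact hne₀ _
  set w : Unit ⊕ (Fin d ⊕ Fin d) → F := fun i => Q (b i) with hw
  have hP : (∏ i, w i) ≠ 0 := Finset.prod_ne_zero_iff.2 (fun i _ => hne i)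
  set c : F := (-1) ^ d / ∏ i, w i with hc
  have hc0 : c ≠ 0 := div_ne_zero (pow_ne_zero _ (neg_ne_zero.2 one_ne_zero)) hP
  set j₀ : Unit ⊕ (Fin d ⊕ Fin d) := Sum.inl () with hj₀
  obtain ⟨e₂, he₂⟩ := exists_equiv_wss_single h2 (fun i => c * w i)
    (fun i => mul_ne_zero hc0 (hne i)) j₀
  obtain ⟨e₄, he₄⟩ := odd_diag (F := F) h2 d j₀
  have hprod : (∏ i, c * w i) = (c ^ d) ^ 2 * (-1) ^ d := by
    rw [Finset.prod_mul_distrib, Finset.prod_const, Finset.card_univ]
    have : Fintype.card (Unit ⊕ (Fin d ⊕ Fin d)) = 2 * d + 1 := by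
      simp only [Fintype.card_sum, Fintype.card_unit, Fintype.card_fin]
      ring
    rw [this]
    have hcP : c * ∏ i, w i = (-1) ^ d := by rw [hc]; exact div_mul_cancel₀ _ hP
    calc c ^ (2 * d + 1) * ∏ i, w i = (c ^ d) ^ 2 * (c * ∏ i, w i) := by ring
      _ = _ := by rw [hcP]
  have ht : c ^ d ≠ 0 := pow_ne_zero _ hc0
  refine ⟨c, (b.equivFun.trans e₂.symm).trans ((scaleAt j₀ (c ^ d) ht).trans e₄), hc0, ?_⟩
  intro v
  rw [LinearEquiv.trans_apply, LinearEquiv.trans_apply, LinearEquiv.trans_apply, he₄, wss_scaleAt,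
    ← hprod, ← he₂, LinearEquiv.apply_symm_apply, wss_smul, ← eq_wss_of_orthogonal b hb]

theorem two_ne_zero_of_odd_card [Fintype F] (hodd : Odd (Fintype.card F)) : (2 : F) ≠ 0 := by
  intro h
  have h1 : ringChar F = 2 := by
    have h3 : ringChar F ∣ 2 := by
      apply ringChar.dvd
      exact_mod_cast h
    rcases (Nat.dvd_prime Nat.prime_two).1 h3 with h4 | h4
    · exfalso
      have := CharP.ringChar_ne_one (R := F)
      exact this h4
    · exact h4
  have h5 := FiniteField.even_card_iff_char_two.1 h1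
  rcases hodd with ⟨k, hk⟩
  omega

/-- the number of singular vectors of a nondegenerate space of dimension `2d+1` -/
theorem card_singular_odd [Fintype F] (hodd : Odd (Fintype.card F))
    (hQ : (polarBilin Q).Nondegenerate) (d : ℕ) (hdim : finrank F V = 2 * d + 1) :
    Nat.card {v : V // Q v = 0} = Fintype.card F ^ (2 * d) := by
  obtain ⟨c, e, hc, he⟩ := exists_similarity_odd (two_ne_zero_of_odd_card hodd) hQ d hdim
  rw [← Cfsg.Agent.S0291.result (F := F) rfl hodd d]
  apply Nat.card_congr
  refine ⟨fun v => ⟨e v.1, by rw [he, v.2, mul_zero]⟩, fun u => ⟨e.symm u.1, ?_⟩, ?_, ?_⟩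
  · have := he (e.symm u.1)
    rw [LinearEquiv.apply_symm_apply, u.2] at this
    rcases mul_eq_zero.1 this.symm with h | h
    · exact absurd h hc
    · exact h
  · intro v
    apply Subtype.ext
    exact e.symm_apply_apply v.1
  · intro u
    apply Subtype.ext
    exact e.apply_symm_apply u.1

end Cfsg.Agent.Lib.Helper2.OrthEl
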