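import Mathlib

set_option autoImplicit false

namespace Cfsg.Agent.Lib.Helper2

namespace MaxTS2

open Module

variable {F V : Type*} [Field F] [AddCommGroup V] [Module F V] [FiniteDimensional F V]
variable (Q : QuadraticForm F V)

/-- totally singular subspaces -/
def IsTS (W : Submodule F V) : Prop := ∀ w ∈ W, Q w = 0

/-- orthogonal complement for the polar form -/
abbrev perp (H : Submodule F V) : Submodule F V :=
  LinearMap.BilinForm.orthogonal (QuadraticMap.polarBilin Q) H

variable {Q}

theorem polar_eq_zero_of_isTS {W : Submodule F V} (hW : IsTS Q W) {x y : V} (hx : x ∈ W)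
    (hy : y ∈ W) : QuadraticMap.polar (⇑Q) x y = 0 := by
  unfold QuadraticMap.polar
  rw [hW _ (W.add_mem hx hy), hW x hx, hW y hy]
  ring

theorem le_orthogonal_of_isTS {W : Submodule F V} (hW : IsTS Q W) :
    W ≤ perp Q W := by
  intro x hx n hn
  exact polar_eq_zero_of_isTS hW hn hx

theorem mem_orthogonal_iff' (H : Submodule F V) (x : V) :
    x ∈ perp Q H ↔ ∀ h ∈ H, QuadraticMap.polar (⇑Q) h x = 0 :=
  Iff.rfl

theorem polar_comm' (x y : V) : QuadraticMap.polar (⇑Q) x y = QuadraticMap.polar (⇑Q) y x :=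
  QuadraticMap.polar_comm _ _ _

/-- a totally singular subspace of half the dimension is its own orthogonal complement -/
theorem orthogonal_eq_self (hQ : (QuadraticMap.polarBilin Q).Nondegenerate) {m : ℕ}
    (hV : finrank F V = 2 * m) {X : Submodule F V} (hX : IsTS Q X) (hXm : finrank F X = m) :
    perp Q X = X := by
  symm
  apply Submodule.eq_of_le_of_finrank_eq (le_orthogonal_of_isTS hX)
  rw [LinearMap.BilinForm.finrank_orthogonal hQ, hV, hXm]
  omega

theorem orthogonal_sup' (A B : Submodule F V) :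
    perp Q (A ⊔ B) =
      perp Q A ⊓ perp Q B := by
  apply le_antisymm
  · exact le_inf (LinearMap.BilinForm.orthogonal_le le_sup_left)
      (LinearMap.BilinForm.orthogonal_le le_sup_right)
  · rintro x ⟨hA, hB⟩ n hn
    obtain ⟨a, ha, b, hb, rfl⟩ := Submodule.mem_sup.1 hn
    have h1 := hA a ha
    have h2 := hB b hb
    show (QuadraticMap.polarBilin Q) (a + b) x = 0
    rw [map_add, LinearMap.add_apply]
    have h1' : (QuadraticMap.polarBilin Q) a x = 0 := h1
    have h2' : (QuadraticMap.polarBilin Q) b x = 0 := h2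
    rw [h1', h2', add_zero]

/-- dimension of `X ∩ H^⊥` for a maximal totally singular `X` -/
theorem finrank_inf_orthogonal (hQ : (QuadraticMap.polarBilin Q).Nondegenerate) {m : ℕ}
    (hV : finrank F V = 2 * m) {X : Submodule F V} (hX : IsTS Q X) (hXm : finrank F X = m)
    (H : Submodule F V) :
    finrank F ↥(X ⊓ perp Q H) + finrank F H =
      m + finrank F ↥(X ⊓ H) := by
  have h1 : X ⊓ perp Q H =
      perp Q (X ⊔ H) := by
    rw [orthogonal_sup', orthogonal_eq_self hQ hV hX hXm]
  rw [h1, LinearMap.BilinForm.finrank_orthogonal hQ, hV]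
  have h2 := Submodule.finrank_sup_add_finrank_inf_eq X H
  have h3 : finrank F ↥(X ⊔ H) ≤ finrank F V := Submodule.finrank_le _
  rw [hXm] at h2
  rw [hV] at h3
  omega

/-- sums of mutually orthogonal totally singular subspaces are totally singular -/
theorem isTS_sup {A B : Submodule F V} (hA : IsTS Q A) (hB : IsTS Q B)
    (hAB : A ≤ perp Q B) : IsTS Q (A ⊔ B) := by
  intro x hx
  obtain ⟨a, ha, b, hb, rfl⟩ := Submodule.mem_sup.1 hx
  have h := QuadraticMap.map_add Q a b
  rw [h, hA a ha, hB b hb]
  have : QuadraticMap.polar (⇑Q) b a = 0 := hAB ha b hb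
  rw [polar_comm', this]
  ring

theorem isTS_mono {A B : Submodule F V} (hB : IsTS Q B) (h : A ≤ B) : IsTS Q A :=
  fun w hw => hB w (h hw)

end MaxTS2

end Cfsg.Agent.Lib.Helper2
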