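import Mathlib
import Cfsg.Agent.Lib.Helper2.MaxTS5
import Cfsg.Agent.Lib.Helper5.QuadFin

set_option autoImplicit false

/-!
Nondegenerate subspaces of a nondegenerate quadratic space: dimensions of orthogonal complements,
bounds for totally singular subspaces, existence of totally singular subspaces over finite fields,
and the "peeling" lemma.
-/

namespace Cfsg.Agent.Lib.Helper2.OrthEl

open Module QuadraticMap
open Cfsg.Agent.Lib.Helper2.MaxTS2

variable {F V : Type*} [Field F] [AddCommGroup V] [Module F V]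
variable (Q : QuadraticForm F V)

/-- a subspace on which the polar form is nondegenerate -/
def NDeg (M : Submodule F V) : Prop := Disjoint M (perp Q M)

variable {Q}

theorem isRefl : LinearMap.BilinForm.IsRefl (polarBilin Q) :=
  Cfsg.Agent.Lib.Helper5.polarBilin_isRefl Q

theorem mem_perp_iff (H : Submodule F V) (x : V) :
    x ∈ perp Q H ↔ ∀ h ∈ H, polar (⇑Q) h x = 0 := Iff.rfl

theorem mem_perp_iff' (H : Submodule F V) (x : V) :
    x ∈ perp Q H ↔ ∀ h ∈ H, polar (⇑Q) x h = 0 := by
  rw [mem_perp_iff]
  constructor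
  · intro h y hy
    rw [polar_comm]
    exact h y hy
  · intro h y hy
    rw [polar_comm]
    exact h y hy

theorem le_perp_comm {A C : Submodule F V} (h : A ≤ perp Q C) : C ≤ perp Q A := by
  intro c hc
  rw [mem_perp_iff']
  intro a ha
  exact h ha c hc

theorem ndeg_bot : NDeg Q (⊥ : Submodule F V) := disjoint_bot_left

/-- the span of pairwise orthogonal singular vectors is totally singular -/
theorem isTS_span {ι : Type*} (s : ι → V) (h1 : ∀ j, Q (s j) = 0)
    (h2 : ∀ j l, polar (⇑Q) (s j) (s l) = 0) : IsTS Q (Submodule.span F (Set.range s)) := by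
  have hperp : Submodule.span F (Set.range s) ≤ perp Q (Submodule.span F (Set.range s)) := by
    rw [Submodule.span_le]
    rintro _ ⟨j, rfl⟩
    apply le_perp_comm (A := Submodule.span F (Set.range s)) (C := Submodule.span F {s j})
    · rw [Submodule.span_le]
      rintro _ ⟨l, rfl⟩
      rw [SetLike.mem_coe, mem_perp_iff]
      intro h hh
      obtain ⟨c, rfl⟩ := Submodule.mem_span_singleton.1 hh
      rw [polar_smul_left, h2, smul_zero]
    · exact Submodule.mem_span_singleton_self _
  intro x hx
  induction hx using Submodule.span_induction with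
  | mem x hx =>
    obtain ⟨j, rfl⟩ := hx
    exact h1 j
  | zero => exact map_zero Q
  | add x y hx hy ihx ihy =>
    have h3 : polar (⇑Q) x y = 0 := hperp hy x hx
    have h4 := QuadraticMap.map_add Q x y
    rw [h4, ihx, ihy, h3]
    simp
  | smul c x hx ih =>
    rw [QuadraticMap.map_smul, ih, smul_zero]

variable [FiniteDimensional F V]

theorem finrank_perp (hQ : (polarBilin Q).Nondegenerate) (A : Submodule F V) :
    finrank F ↥(perp Q A) = finrank F V - finrank F A :=
  LinearMap.BilinForm.finrank_orthogonal hQ A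

theorem finrank_perp_add (hQ : (polarBilin Q).Nondegenerate) (A : Submodule F V) :
    finrank F ↥(perp Q A) + finrank F A = finrank F V := by
  rw [finrank_perp hQ]
  have := Submodule.finrank_le A
  omega

theorem perp_perp (hQ : (polarBilin Q).Nondegenerate) (A : Submodule F V) :
    perp Q (perp Q A) = A :=
  LinearMap.BilinForm.orthogonal_orthogonal hQ isRefl A

theorem NDeg.isCompl {M : Submodule F V} (hM : NDeg Q M) : IsCompl M (perp Q M) :=
  (LinearMap.BilinForm.isCompl_orthogonal_iff_disjoint isRefl).2 hM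

theorem NDeg.perp (hQ : (polarBilin Q).Nondegenerate) {M : Submodule F V} (hM : NDeg Q M) :
    NDeg Q (perp Q M) := by
  unfold NDeg
  rw [perp_perp hQ]
  exact hM.symm

omit [FiniteDimensional F V] in
theorem ndeg_top (hQ : (polarBilin Q).Nondegenerate) : NDeg Q (⊤ : Submodule F V) := by
  unfold NDeg
  rw [show perp Q (⊤ : Submodule F V) = ⊥ from LinearMap.BilinForm.orthogonal_top_eq_bot hQ]
  exact disjoint_bot_right

/-- dimension of the orthogonal complement relative to a nondegenerate subspace -/
theorem finrank_inf_perp (hQ : (polarBilin Q).Nondegenerate) {M Z : Submodule F V}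
    (hM : NDeg Q M) (hZ : Z ≤ M) :
    finrank F ↥(M ⊓ perp Q Z) + finrank F Z = finrank F M := by
  have h1 : perp Q M ≤ perp Q Z := LinearMap.BilinForm.orthogonal_le hZ
  have h2 : perp Q Z = (M ⊓ perp Q Z) ⊔ perp Q M := by
    have h3 : (perp Q M ⊔ M) ⊓ perp Q Z = perp Q M ⊔ M ⊓ perp Q Z :=
      sup_inf_assoc_of_le M h1
    rw [sup_comm, ← h3, sup_comm, hM.isCompl.sup_eq_top, top_inf_eq]
  have h4 : Disjoint (M ⊓ perp Q Z) (perp Q M) := hM.mono_left inf_le_left
  have h5 := Submodule.finrank_sup_add_finrank_inf_eq (M ⊓ perp Q Z) (perp Q M)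
  rw [h4.eq_bot, finrank_bot, add_zero, ← h2] at h5
  have h6 := finrank_perp_add hQ Z
  have h7 := finrank_perp_add hQ M
  omega

/-- a totally singular subspace of a nondegenerate subspace has at most half the dimension -/
theorem two_mul_finrank_le_of_isTS (hQ : (polarBilin Q).Nondegenerate) {M T : Submodule F V}
    (hM : NDeg Q M) (hT : IsTS Q T) (hTM : T ≤ M) : 2 * finrank F T ≤ finrank F M := by
  have h1 := finrank_inf_perp hQ hM hTM
  have h2 : T ≤ M ⊓ perp Q T := le_inf hTM (le_orthogonal_of_isTS hT)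
  have h3 := Submodule.finrank_mono h2
  omega

/-- the peeling lemma: a complement of a totally singular `Z` in `M ∩ Z^⊥` is nondegenerate -/
theorem ndeg_of_compl (hQ : (polarBilin Q).Nondegenerate) {M Z M₂ : Submodule F V}
    (hM : NDeg Q M) (hZM : Z ≤ M) (hZ : IsTS Q Z) (h1 : M₂ ≤ M ⊓ perp Q Z)
    (h2 : Disjoint Z M₂) (h3 : finrank F Z + finrank F M₂ = finrank F ↥(M ⊓ perp Q Z)) :
    NDeg Q M₂ ∧ finrank F M₂ + 2 * finrank F Z = finrank F M := by
  obtain ⟨L, hL⟩ : ∃ L, L = M ⊓ perp Q Z := ⟨_, rfl⟩
  rw [← hL] at h1 h3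
  have hZL : Z ≤ L := by rw [hL]; exact le_inf hZM (le_orthogonal_of_isTS hZ)
  have hd1 := finrank_inf_perp hQ hM hZM
  rw [← hL] at hd1
  have hsup : Z ⊔ M₂ = L := by
    apply Submodule.eq_of_le_of_finrank_eq (sup_le hZL h1)
    have h5 := Submodule.finrank_sup_add_finrank_inf_eq Z M₂
    rw [h2.eq_bot, finrank_bot, add_zero] at h5
    rw [h5, h3]
  have hLM : L ≤ M := by rw [hL]; exact inf_le_left
  have hd2 := finrank_inf_perp hQ hM hLM
  have hZ' : Z ≤ M ⊓ perp Q L := by
    refine le_inf hZM ?_
    apply le_perp_comm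
    rw [hL]
    exact inf_le_right
  have hZeq : Z = M ⊓ perp Q L := by
    apply Submodule.eq_of_le_of_finrank_eq hZ'
    omega
  refine ⟨?_, by omega⟩
  unfold NDeg
  rw [Submodule.disjoint_def]
  intro v hv hv'
  have hvL : v ∈ L := h1 hv
  have hvZ : v ∈ perp Q Z := by rw [hL] at hvL; exact hvL.2
  have hvL' : v ∈ perp Q L := by
    rw [← hsup, orthogonal_sup']
    exact ⟨hvZ, hv'⟩
  have hvZ' : v ∈ Z := by
    rw [hZeq]
    exact ⟨hLM hvL, hvL'⟩
  exact (Submodule.disjoint_def.1 h2) v hvZ' hv

theorem polar_restrict (M : Submodule F V) :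
    polarBilin (Q.comp M.subtype) = LinearMap.BilinForm.restrict (polarBilin Q) M := by
  apply LinearMap.ext
  intro a
  apply LinearMap.ext
  intro b
  show polar (⇑(Q.comp M.subtype)) a b = polar (⇑Q) (a : V) (b : V)
  exact Cfsg.Agent.Lib.Helper5.polar_comp_subtype Q M a b

theorem NDeg.restrict {M : Submodule F V} (hM : NDeg Q M) :
    (polarBilin (Q.comp M.subtype)).Nondegenerate := by
  rw [polar_restrict]
  exact LinearMap.BilinForm.nondegenerate_restrict_of_disjoint_orthogonal _ isRefl hM

/-- over a finite field a nondegenerate subspace of dimension at least `2a+1` contains a totally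
singular subspace of dimension `a` -/
theorem exists_isTS_of_ndeg [Finite F] {M : Submodule F V} (hM : NDeg Q M) (a : ℕ)
    (ha : 2 * a + 1 ≤ finrank F M) :
    ∃ T : Submodule F V, T ≤ M ∧ IsTS Q T ∧ finrank F T = a := by
  obtain ⟨k, e, f, W, hH, -, hd, hW2, -⟩ :=
    Cfsg.Agent.Lib.Helper5.exists_witt (Q.comp M.subtype) hM.restrict
  have hak : a ≤ k := by omega
  let s : Fin a → V := fun j => ((e (Fin.castLE hak j) : M) : V)
  refine ⟨Submodule.span F (Set.range s), ?_, ?_, ?_⟩
  · rw [Submodule.span_le]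
    rintro _ ⟨j, rfl⟩
    exact (e (Fin.castLE hak j)).2
  · apply isTS_span
    · intro j
      have := hH.qe (Fin.castLE hak j)
      rwa [QuadraticMap.comp_apply] at this
    · intro j l
      have := hH.ee (Fin.castLE hak j) (Fin.castLE hak l)
      rwa [Cfsg.Agent.Lib.Helper5.polar_comp_subtype] at this
  · have h1 : LinearIndependent F (Sum.elim e f) := hH.linearIndependent' _
    have h2 : LinearIndependent F e := h1.comp Sum.inl Sum.inl_injective
    have h3 : LinearIndependent F (fun j : Fin a => e (Fin.castLE hak j)) :=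
      h2.comp _ (Fin.castLE_injective hak)
    have h4 : LinearIndependent F s := h3.map' M.subtype (Submodule.ker_subtype M)
    rw [finrank_span_eq_card h4, Fintype.card_fin]

end Cfsg.Agent.Lib.Helper2.OrthEl
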