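import Mathlib
import Cfsg.Agent.Lib.Helper2.OrthElA
import Cfsg.Agent.Lib.Helper2.OrthElB
import Cfsg.Agent.Lib.Helper9.Elus10

set_option autoImplicit false

/-!
Isometries of prime order `r` (different from the characteristic) of a nondegenerate quadratic
space: the fixed space and the cyclotomic kernel are orthogonal and nondegenerate; invariance of
orthogonal complements; a Chevalley–Warning lemma for common zeros of bilinear forms.
-/

namespace Cfsg.Agent.Lib.Helper2.OrthEl

open Module QuadraticMap Polynomial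
open Cfsg.Agent.Lib.Helper2.MaxTS2
open Cfsg.Agent.H9SemiInv
open Cfsg.Agent.Lib.Helper9.H9Elus

section iso

variable {F V : Type*} [Field F] [AddCommGroup V] [Module F V]
variable {Q : QuadraticForm F V} {y : V →ₗ[F] V}

theorem iso_polar (hiso : ∀ v, Q (y v) = Q v) (u w : V) :
    polar (⇑Q) (y u) (y w) = polar (⇑Q) u w := by
  unfold polar
  rw [← map_add, hiso, hiso, hiso]

theorem iso_pow (hiso : ∀ v, Q (y v) = Q v) (j : ℕ) : ∀ v, Q ((y ^ j) v) = Q v := by
  induction j with
  | zero =>
    intro v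
    rw [pow_zero, Module.End.one_apply]
  | succ j ih =>
    intro v
    rw [pow_succ, Module.End.mul_apply, ih, hiso]

theorem iso_polar_pow (hiso : ∀ v, Q (y v) = Q v) (j : ℕ) (u w : V) :
    polar (⇑Q) ((y ^ j) u) ((y ^ j) w) = polar (⇑Q) u w :=
  iso_polar (iso_pow hiso j) u w

theorem inv_pow {A : Submodule F V} (hA : ∀ x ∈ A, y x ∈ A) (j : ℕ) : ∀ x ∈ A, (y ^ j) x ∈ A := by
  induction j with
  | zero =>
    intro x hx
    rw [pow_zero, Module.End.one_apply]
    exact hx
  | succ j ih =>
    intro x hx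
    rw [pow_succ, Module.End.mul_apply]
    exact ih _ (hA x hx)

/-- the orthogonal complement of an invariant subspace is invariant -/
theorem inv_perp (hiso : ∀ v, Q (y v) = Q v) {r : ℕ} (hr : 1 ≤ r) (hy : y ^ r = 1)
    {A : Submodule F V} (hA : ∀ x ∈ A, y x ∈ A) : ∀ x ∈ perp Q A, y x ∈ perp Q A := by
  intro v hv
  rw [mem_perp_iff]
  intro a ha
  have h1 : a = y ((y ^ (r - 1)) a) := by
    rw [← Module.End.mul_apply, ← pow_succ', Nat.sub_add_cancel hr, hy, Module.End.one_apply]
  rw [h1, iso_polar hiso]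
  exact hv _ (inv_pow hA _ a ha)

variable (y) in
/-- the fixed space -/
noncomputable abbrev fixS : Submodule F V := LinearMap.ker (aeval y (X - 1 : F[X]))

variable (y) in
/-- the cyclotomic kernel -/
noncomputable abbrev cycS (r : ℕ) : Submodule F V := LinearMap.ker (aeval y (cyclotomic r F))

theorem mem_fixS (v : V) : v ∈ fixS y ↔ y v = v := by
  rw [LinearMap.mem_ker, map_sub, aeval_X, map_one, LinearMap.sub_apply, Module.End.one_apply,
    sub_eq_zero]

theorem mem_cycS {r : ℕ} (hr : r.Prime) (v : V) :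
    v ∈ cycS y r ↔ ∑ j ∈ Finset.range r, (y ^ j) v = 0 := by
  have : Fact r.Prime := ⟨hr⟩
  rw [LinearMap.mem_ker, cyclotomic_prime, map_sum, LinearMap.sum_apply]
  simp only [map_pow, aeval_X]

theorem pow_fix {u : V} (hu : y u = u) (j : ℕ) : (y ^ j) u = u := by
  induction j with
  | zero => rw [pow_zero, Module.End.one_apply]
  | succ j ih => rw [pow_succ, Module.End.mul_apply, hu, ih]

/-- the fixed space is orthogonal to the cyclotomic kernel -/
theorem polar_fix_cyc (hiso : ∀ v, Q (y v) = Q v) {r : ℕ} (hr : r.Prime) (hr0 : (r : F) ≠ 0)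
    {u w : V} (hu : u ∈ fixS y) (hw : w ∈ cycS y r) : polar (⇑Q) u w = 0 := by
  rw [mem_fixS] at hu
  rw [mem_cycS hr] at hw
  have h1 : ∀ j, polar (⇑Q) u ((y ^ j) w) = polar (⇑Q) u w := by
    intro j
    have := iso_polar_pow hiso j u w
    rwa [pow_fix hu] at this
  have h2 : polarBilin Q u (∑ j ∈ Finset.range r, (y ^ j) w) =
      ∑ j ∈ Finset.range r, polarBilin Q u ((y ^ j) w) := map_sum _ _ _
  rw [hw, map_zero] at h2
  have h3 : ∑ j ∈ Finset.range r, polarBilin Q u ((y ^ j) w) = (r : F) * polar (⇑Q) u w := by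
    show ∑ j ∈ Finset.range r, polar (⇑Q) u ((y ^ j) w) = (r : F) * polar (⇑Q) u w
    rw [Finset.sum_congr rfl (fun j _ => h1 j), Finset.sum_const, Finset.card_range,
      nsmul_eq_mul]
  rw [h3] at h2
  rcases mul_eq_zero.1 h2.symm with h | h
  · exact absurd h hr0
  · exact h

end iso

section fin

variable {F V : Type*} [Field F] [Fintype F] {p : ℕ} [Fact p.Prime] [CharP F p]
  [AddCommGroup V] [Module F V] [FiniteDimensional F V]
variable {Q : QuadraticForm F V} {y : V →ₗ[F] V}

theorem cycS_eq_perp (hQ : (polarBilin Q).Nondegenerate) (hiso : ∀ v, Q (y v) = Q v)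
    (r : ℕ) [Fact r.Prime] (hrp : r ≠ p) (hy : y ^ r = 1) : cycS y r = perp Q (fixS y) := by
  have hc := isCompl_ker r hrp y hy
  apply Submodule.eq_of_le_of_finrank_eq
  · intro w hw
    rw [mem_perp_iff]
    intro u hu
    exact polar_fix_cyc hiso Fact.out (cast_ne_zero_of_ne r hrp) hu hw
  · have h1 : finrank F (fixS y) + finrank F (cycS y r) = finrank F V :=
      Submodule.finrank_add_eq_of_isCompl hc
    have h2 := finrank_perp_add hQ (fixS y)
    omega

theorem ndeg_fixS (hQ : (polarBilin Q).Nondegenerate) (hiso : ∀ v, Q (y v) = Q v)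
    (r : ℕ) [Fact r.Prime] (hrp : r ≠ p) (hy : y ^ r = 1) : NDeg Q (fixS y) := by
  unfold NDeg
  rw [← cycS_eq_perp hQ hiso r hrp hy]
  exact (isCompl_ker r hrp y hy).disjoint

theorem ndeg_cycS (hQ : (polarBilin Q).Nondegenerate) (hiso : ∀ v, Q (y v) = Q v)
    (r : ℕ) [Fact r.Prime] (hrp : r ≠ p) (hy : y ^ r = 1) : NDeg Q (cycS y r) := by
  rw [cycS_eq_perp hQ hiso r hrp hy]
  exact (ndeg_fixS hQ hiso r hrp hy).perp hQ

theorem eq_zero_of_fix_of_cyc (r : ℕ) [Fact r.Prime] (hrp : r ≠ p) (hy : y ^ r = 1) {v : V}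
    (h1 : y v = v) (h2 : v ∈ cycS y r) : v = 0 := by
  have hc := isCompl_ker r hrp y hy
  exact (Submodule.disjoint_def.1 hc.disjoint) v ((mem_fixS v).2 h1) h2

end fin

section cw

variable {F : Type*} [Field F] [Fintype F]

/-- Chevalley–Warning: `h` bilinear forms on a space of dimension more than `2h` over a finite
field have a common nonzero isotropic vector -/
theorem exists_common_zero {M : Type*} [AddCommGroup M] [Module F M] [FiniteDimensional F M]
    (h : ℕ) (B : Fin h → LinearMap.BilinForm F M) (hdim : 2 * h < finrank F M) :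
    ∃ u : M, u ≠ 0 ∧ ∀ j, B j u u = 0 := by
  classical
  obtain ⟨p, hp⟩ := CharP.exists F
  have hpp : p.Prime := by
    rcases CharP.char_is_prime_or_zero F p with h | h
    · exact h
    · exfalso
      subst h
      have := CharP.charP_to_charZero F
      exact not_finite F
  set N := finrank F M with hN
  let b : Basis (Fin N) F M := Module.finBasis F M
  let f : Fin h → MvPolynomial (Fin N) F := fun j =>
    ∑ l : Fin N, ∑ l' : Fin N, MvPolynomial.C (B j (b l) (b l')) * MvPolynomial.X l *
      MvPolynomial.X l'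
  have hdeg : ∀ j, (f j).totalDegree ≤ 2 := by
    intro j
    refine (MvPolynomial.totalDegree_finsetSum _ _).trans ?_
    apply Finset.sup_le
    intro l _
    refine (MvPolynomial.totalDegree_finsetSum _ _).trans ?_
    apply Finset.sup_le
    intro l' _
    refine (MvPolynomial.totalDegree_mul _ _).trans ?_
    have := MvPolynomial.totalDegree_mul (MvPolynomial.C (B j (b l) (b l')))
      (MvPolynomial.X l : MvPolynomial (Fin N) F)
    rw [MvPolynomial.totalDegree_C, zero_add, MvPolynomial.totalDegree_X] at this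
    rw [MvPolynomial.totalDegree_X]
    omega
  have heval : ∀ (j : Fin h) (x : Fin N → F),
      MvPolynomial.eval x (f j) = B j (b.equivFun.symm x) (b.equivFun.symm x) := by
    intro j x
    rw [Basis.equivFun_symm_apply]
    have e1 : ∀ v : M, B j (∑ l, x l • b l) v = ∑ l, x l * B j (b l) v := by
      intro v
      rw [map_sum, LinearMap.sum_apply]
      apply Finset.sum_congr rfl
      intro l _
      rw [map_smul, LinearMap.smul_apply, smul_eq_mul]
    have e2 : ∀ l : Fin N, B j (b l) (∑ l', x l' • b l') = ∑ l', x l' * B j (b l) (b l') := by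
      intro l
      rw [map_sum]
      apply Finset.sum_congr rfl
      intro l' _
      rw [map_smul, smul_eq_mul]
    have e0 : MvPolynomial.eval x (f j) = ∑ l, ∑ l', B j (b l) (b l') * x l * x l' := by
      simp only [f, map_sum, map_mul, MvPolynomial.eval_C, MvPolynomial.eval_X]
    rw [e0, e1]
    apply Finset.sum_congr rfl
    intro l _
    rw [e2, Finset.mul_sum]
    apply Finset.sum_congr rfl
    intro l' _
    ring
  have hsum : ∑ j, (f j).totalDegree < Fintype.card (Fin N) := by
    rw [Fintype.card_fin]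
    calc ∑ j, (f j).totalDegree ≤ ∑ _j : Fin h, 2 := Finset.sum_le_sum (fun j _ => hdeg j)
      _ = 2 * h := by rw [Finset.sum_const, Finset.card_univ, Fintype.card_fin, smul_eq_mul, mul_comm]
      _ < N := hdim
  have hdvd := char_dvd_card_solutions_of_fintype_sum_lt p hsum
  have hzero : ∀ j, MvPolynomial.eval (0 : Fin N → F) (f j) = 0 := by
    intro j
    rw [heval, map_zero, map_zero]
  have hdvd' : p ∣ Nat.card {x : Fin N → F // ∀ j, MvPolynomial.eval x (f j) = 0} := by
    rw [Nat.card_eq_fintype_card]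
    convert hdvd
  have hcard : 1 < Nat.card {x : Fin N → F // ∀ j, MvPolynomial.eval x (f j) = 0} := by
    have : Nonempty {x : Fin N → F // ∀ j, MvPolynomial.eval x (f j) = 0} := ⟨⟨0, hzero⟩⟩
    have hpos : 0 < Nat.card {x : Fin N → F // ∀ j, MvPolynomial.eval x (f j) = 0} :=
      Nat.card_pos
    have := Nat.le_of_dvd hpos hdvd'
    exact lt_of_lt_of_le hpp.one_lt this
  have hnt := Finite.one_lt_card_iff_nontrivial.1 hcard
  obtain ⟨⟨x, hx⟩, hne⟩ := exists_ne (⟨0, hzero⟩ :
    {x : Fin N → F // ∀ j, MvPolynomial.eval x (f j) = 0})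
  refine ⟨b.equivFun.symm x, ?_, ?_⟩
  · intro h0
    apply hne
    apply Subtype.ext
    show x = 0
    have := congrArg b.equivFun h0
    rwa [LinearEquiv.apply_symm_apply, map_zero] at this
  · intro j
    rw [← heval]
    exact hx j

end cw

end Cfsg.Agent.Lib.Helper2.OrthEl
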