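import Mathlib
import Cfsg.Agent.Lib.Helper2.OrthElC

set_option autoImplicit false

/-!
Invariant totally singular subspaces for an isometry of odd prime order `r ≠ p`:
existence inside the cyclotomic kernel (odd `i`: every minimal invariant subspace is totally
singular; in general by Chevalley–Warning), peeling, and the general existence theorem.
-/

namespace Cfsg.Agent.Lib.Helper2.OrthEl

open Module QuadraticMap Polynomial
open Cfsg.Agent.Lib.Helper2.MaxTS2
open Cfsg.Agent.H9SemiInv
open Cfsg.Agent.Lib.Helper9.H9Elus

variable {F V : Type*} [Field F] [Fintype F] {p : ℕ} [Fact p.Prime] [CharP F p]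
  [AddCommGroup V] [Module F V] [FiniteDimensional F V]
variable {Q : QuadraticForm F V} {y : V →ₗ[F] V}

omit [Fintype F] [Fact p.Prime] [CharP F p] [FiniteDimensional F V] in
theorem isTS_of_le_perp (h2 : (2 : F) ≠ 0) {Z : Submodule F V} (h : Z ≤ perp Q Z) : IsTS Q Z := by
  intro v hv
  have h1 : polar (⇑Q) v v = 0 := h hv v hv
  rw [polar_self] at h1
  have h3 : (2 : F) * Q v = 0 := by
    rw [← h1, two_smul, two_mul]
  rcases mul_eq_zero.1 h3 with h4 | h4
  · exact absurd h4 h2
  · exact h4

/-- a minimal invariant subspace of the cyclotomic kernel is totally singular or nondegenerate -/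
theorem isTS_or_ndeg (h2 : (2 : F) ≠ 0) (hiso : ∀ v, Q (y v) = Q v) (r : ℕ) [Fact r.Prime]
    (hrp : r ≠ p) (hy : y ^ r = 1) (Z : Submodule F V) (hZV : Z ≤ cycS y r) (hZ : Inv y Z)
    (hZi : finrank F Z = orderOf ((Fintype.card F : ℕ) : ZMod r)) : IsTS Q Z ∨ NDeg Q Z := by
  by_cases hR : Z ⊓ perp Q Z = ⊥
  · right
    exact disjoint_iff.2 hR
  · left
    have hr1 : 1 ≤ r := (Fact.out : r.Prime).one_lt.le
    obtain ⟨Z', hZ'R, -, hZ'i⟩ := hmin_cyclotomic r hrp y (Z ⊓ perp Q Z) (inf_le_left.trans hZV)
      (hZ.inf (inv_perp hiso hr1 hy hZ)) hR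
    have h3 : Z' = Z := by
      apply Submodule.eq_of_le_of_finrank_eq (hZ'R.trans inf_le_left)
      rw [hZ'i, hZi]
    rw [h3] at hZ'R
    exact isTS_of_le_perp h2 (hZ'R.trans inf_le_right)

/-- for `i` odd every invariant subspace of dimension `i` of the cyclotomic kernel is totally
singular -/
theorem isTS_of_odd (hodd : Odd (Fintype.card F)) (hiso : ∀ v, Q (y v) = Q v) (r : ℕ)
    [Fact r.Prime] (hrp : r ≠ p) (hr2 : r ≠ 2) (hy : y ^ r = 1) (Z : Submodule F V)
    (hZV : Z ≤ cycS y r) (hZ : Inv y Z)
    (hZi : finrank F Z = orderOf ((Fintype.card F : ℕ) : ZMod r))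
    (hi : Odd (orderOf ((Fintype.card F : ℕ) : ZMod r))) : IsTS Q Z := by
  classical
  have h2 : (2 : F) ≠ 0 := two_ne_zero_of_odd_card hodd
  have hrprime : r.Prime := Fact.out
  have hr1 : 1 ≤ r := hrprime.one_lt.le
  rcases isTS_or_ndeg h2 hiso r hrp hy Z hZV hZ hZi with h | h
  · exact h
  obtain ⟨e, he⟩ := hi
  rcases Nat.eq_zero_or_pos e with he0 | he0
  · -- dimension one
    rw [he, he0] at hZi
    obtain ⟨v, hv0, hv⟩ := finrank_eq_one_iff'.1 hZi
    obtain ⟨c, hc⟩ := hv ⟨y v.1, hZ v.1 v.2⟩
    have hyv : y (v : V) = c • (v : V) := by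
      have := congrArg Subtype.val hc
      exact this.symm
    have hQv : Q (v : V) = 0 := by
      by_contra hne
      have h3 : Q (v : V) = c * c * Q (v : V) := by
        conv_lhs => rw [← hiso, hyv, QuadraticMap.map_smul, smul_eq_mul]
      have h4 : c * c = 1 := by
        have : (c * c - 1) * Q (v : V) = 0 := by linear_combination -h3
        rcases mul_eq_zero.1 this with h5 | h5
        · exact sub_eq_zero.1 h5
        · exact absurd h5 hne
      have hpow : ∀ k : ℕ, (y ^ k) (v : V) = c ^ k • (v : V) := by
        intro k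
        induction k with
        | zero => rw [pow_zero, pow_zero, Module.End.one_apply, one_smul]
        | succ k ih =>
          rw [pow_succ', Module.End.mul_apply, ih, map_smul, hyv, smul_smul, pow_succ]
      obtain ⟨k, hk⟩ : ∃ k, r = 2 * k + 1 := by
        rcases hrprime.eq_two_or_odd with h6 | h6
        · exact absurd h6 hr2
        · exact ⟨r / 2, by omega⟩
      have h7 : (y ^ r) (v : V) = c • (v : V) := by
        rw [hpow, hk, pow_succ, pow_mul, pow_two, h4, one_pow, one_mul]
      rw [hy, Module.End.one_apply] at h7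
      have h8 : y (v : V) = (v : V) := by rw [hyv, ← h7]
      have h9 := eq_zero_of_fix_of_cyc r hrp hy h8 (hZV v.2)
      exact hv0 (Subtype.ext h9)
    intro w hw
    obtain ⟨c', hc'⟩ := hv ⟨w, hw⟩
    have : w = c' • (v : V) := by
      have := congrArg Subtype.val hc'
      exact this.symm
    rw [this, QuadraticMap.map_smul, hQv, smul_zero]
  · -- dimension at least three: counting singular vectors
    exfalso
    have hQ' := h.restrict
    have hcard := card_singular_odd hodd hQ' e (by rw [hZi, he])
    let α := {v : Z // (Q.comp Z.subtype) v = 0}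
    haveI : Finite V := Module.finite_of_finite F
    haveI : Fintype α := Fintype.ofFinite α
    let σ : Equiv.Perm α :=
      { toFun := fun v => ⟨⟨y v.1.1, hZ _ v.1.2⟩, by
          show Q (y v.1.1) = 0
          rw [hiso]
          exact v.2⟩
        invFun := fun v => ⟨⟨(y ^ (r - 1)) v.1.1, inv_pow hZ _ _ v.1.2⟩, by
          show Q ((y ^ (r - 1)) v.1.1) = 0
          rw [iso_pow hiso]
          exact v.2⟩
        left_inv := by
          intro v
          apply Subtype.ext
          apply Subtype.ext
          show (y ^ (r - 1)) (y v.1.1) = v.1.1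
          rw [← Module.End.mul_apply, ← pow_succ, Nat.sub_add_cancel hr1, hy, Module.End.one_apply]
        right_inv := by
          intro v
          apply Subtype.ext
          apply Subtype.ext
          show y ((y ^ (r - 1)) v.1.1) = v.1.1
          rw [← Module.End.mul_apply, ← pow_succ', Nat.sub_add_cancel hr1, hy,
            Module.End.one_apply] }
    have hσpow : ∀ (j : ℕ) (v : α), (((σ ^ j) v).1 : V) = (y ^ j) v.1.1 := by
      intro j
      induction j with
      | zero =>
        intro v
        rw [pow_zero, pow_zero, Module.End.one_apply]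
        rfl
      | succ j ih =>
        intro v
        rw [pow_succ, Equiv.Perm.mul_apply, ih, pow_succ, Module.End.mul_apply]
        rfl
    have hσ : σ ^ r ^ 1 = 1 := by
      rw [pow_one]
      apply Equiv.ext
      intro v
      apply Subtype.ext
      apply Subtype.ext
      rw [hσpow, hy, Module.End.one_apply]
      rfl
    have hmod := Equiv.Perm.card_compl_support_modEq hσ
    have hzero : (Q.comp Z.subtype) (0 : Z) = 0 := map_zero _
    have hsupp : σ.supportᶜ = {(⟨0, hzero⟩ : α)} := by
      ext v
      rw [Finset.mem_compl, Equiv.Perm.mem_support, not_not, Finset.mem_singleton]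
      constructor
      · intro hv
        have h3 : y v.1.1 = v.1.1 := congrArg (fun w : α => (w.1 : V)) hv
        have h4 := eq_zero_of_fix_of_cyc r hrp hy h3 (hZV v.1.2)
        apply Subtype.ext
        apply Subtype.ext
        exact h4
      · intro hv
        rw [hv]
        apply Subtype.ext
        apply Subtype.ext
        show y (0 : V) = 0
        exact map_zero y
    rw [hsupp, Finset.card_singleton, ← Nat.card_eq_fintype_card] at hmod
    have hmod' : Fintype.card F ^ (2 * e) ≡ 1 [MOD r] := by
      rw [← hcard]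
      exact hmod.symm
    have h5 : ((Fintype.card F : ℕ) : ZMod r) ^ (2 * e) = 1 := by
      have := (ZMod.natCast_eq_natCast_iff _ _ _).2 hmod'
      push_cast at this
      exact this
    have h6 := orderOf_dvd_of_pow_eq_one h5
    rw [he] at h6
    have := Nat.le_of_dvd (by omega) h6
    omega

end Cfsg.Agent.Lib.Helper2.OrthEl
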