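import Mathlib
import Cfsg.Agent.Lib.Helper2.OrthElD

set_option autoImplicit false

/-!
Invariant totally singular subspaces for an isometry of odd prime order `r ≠ p`, continued:
the Chevalley–Warning step, peeling, and the general existence theorem.
-/

namespace Cfsg.Agent.Lib.Helper2.OrthEl

open Module QuadraticMap Polynomial
open Cfsg.Agent.Lib.Helper2.MaxTS2
open Cfsg.Agent.H9SemiInv
open Cfsg.Agent.Lib.Helper9.H9Elus

variable {F V : Type*} [Field F] [Fintype F] {p : ℕ} [Fact p.Prime] [CharP F p]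
  [AddCommGroup V] [Module F V] [FiniteDimensional F V]
variable {Q : QuadraticForm F V} {y : V →ₗ[F] V}

omit [Fintype F] [Fact p.Prime] [CharP F p] [FiniteDimensional F V] in
theorem pow_mod_apply {r : ℕ} (hy : y ^ r = 1) (m : ℕ) (v : V) : (y ^ m) v = (y ^ (m % r)) v := by
  conv_lhs => rw [← Nat.mod_add_div m r, pow_add, pow_mul, hy, one_pow, mul_one]

/-- a large invariant subspace of the cyclotomic kernel contains a totally singular invariant
subspace of dimension `i` -/
theorem exists_isTS_inv_of_large (h2 : (2 : F) ≠ 0) (hiso : ∀ v, Q (y v) = Q v) (r : ℕ)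
    [Fact r.Prime] (hrp : r ≠ p) (hr2 : r ≠ 2) (hy : y ^ r = 1) (M : Submodule F V)
    (hMV : M ≤ cycS y r) (hM : Inv y M) (hdim : r - 1 < finrank F M) :
    ∃ Z : Submodule F V, Z ≤ M ∧ Inv y Z ∧ IsTS Q Z ∧
      finrank F Z = orderOf ((Fintype.card F : ℕ) : ZMod r) := by
  have hrprime : r.Prime := Fact.out
  obtain ⟨h, hh⟩ : ∃ h, r = 2 * h + 1 := by
    rcases hrprime.eq_two_or_odd with h6 | h6
    · exact absurd h6 hr2
    · exact ⟨r / 2, by omega⟩
  let B : Fin h → LinearMap.BilinForm F M := fun j =>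
    (polarBilin Q).compl₁₂ ((y ^ (j.1 + 1)).comp M.subtype) M.subtype
  have hB : ∀ (j : Fin h) (u w : M), B j u w = polar (⇑Q) ((y ^ (j.1 + 1)) (u : V)) (w : V) :=
    fun j u w => rfl
  obtain ⟨u, hu0, hu⟩ := exists_common_zero h B (by omega)
  have hu0' : (u : V) ≠ 0 := fun h0 => hu0 (Subtype.ext h0)
  have hA : ∀ j, 1 ≤ j → j ≤ h → polar (⇑Q) ((y ^ j) (u : V)) (u : V) = 0 := by
    intro j hj1 hjh
    have := hu ⟨j - 1, by omega⟩
    rw [hB] at this
    have e : j - 1 + 1 = j := by omega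
    simpa only [e] using this
  have hBB : ∀ j, 1 ≤ j → j < r → polar (⇑Q) ((y ^ j) (u : V)) (u : V) = 0 := by
    intro j hj1 hjr
    by_cases hjh : j ≤ h
    · exact hA j hj1 hjh
    · have h3 := iso_polar_pow hiso (r - j) ((y ^ j) (u : V)) (u : V)
      rw [← Module.End.mul_apply, ← pow_add, Nat.sub_add_cancel hjr.le, hy,
        Module.End.one_apply] at h3
      rw [← h3, polar_comm]
      exact hA (r - j) (by omega) (by omega)
  have hQu : Q (u : V) = 0 := by
    have h3 := (mem_cycS hrprime (u : V)).1 (hMV u.2)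
    have h4 : polarBilin Q (∑ j ∈ Finset.range r, (y ^ j) (u : V)) (u : V) =
        ∑ j ∈ Finset.range r, polarBilin Q ((y ^ j) (u : V)) (u : V) := by
      rw [map_sum, LinearMap.sum_apply]
    rw [h3, map_zero, LinearMap.zero_apply] at h4
    have h5 : ∑ j ∈ Finset.range r, polarBilin Q ((y ^ j) (u : V)) (u : V) =
        polar (⇑Q) (u : V) (u : V) := by
      rw [Finset.sum_eq_single 0]
      · rw [pow_zero, Module.End.one_apply]
        rfl
      · intro j hj hj0
        exact hBB j (by omega) (Finset.mem_range.1 hj)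
      · intro h6
        exact absurd (Finset.mem_range.2 hrprime.pos) h6
    rw [h5, polar_self] at h4
    have h6 : (2 : F) * Q (u : V) = 0 := by
      rw [h4, two_smul, two_mul]
    rcases mul_eq_zero.1 h6 with h7 | h7
    · exact absurd h7 h2
    · exact h7
  have hC : ∀ m, polar (⇑Q) ((y ^ m) (u : V)) (u : V) = 0 := by
    intro m
    rw [pow_mod_apply hy]
    by_cases hm : m % r = 0
    · rw [hm, pow_zero, Module.End.one_apply, polar_self, hQu, smul_zero]
    · exact hBB _ (by omega) (Nat.mod_lt _ hrprime.pos)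
  have hD : ∀ j l, polar (⇑Q) ((y ^ j) (u : V)) ((y ^ l) (u : V)) = 0 := by
    intro j l
    rcases le_total l j with hlj | hlj
    · have h3 := iso_polar_pow hiso l ((y ^ (j - l)) (u : V)) (u : V)
      rw [← Module.End.mul_apply, ← pow_add, Nat.add_sub_cancel' hlj] at h3
      rw [h3]
      exact hC _
    · have h3 := iso_polar_pow hiso j ((y ^ (l - j)) (u : V)) (u : V)
      rw [← Module.End.mul_apply, ← pow_add, Nat.add_sub_cancel' hlj] at h3
      rw [polar_comm, h3]
      exact hC _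
  set s : ℕ → V := fun j => (y ^ j) (u : V) with hs
  have hTS : IsTS Q (Submodule.span F (Set.range s)) := by
    apply isTS_span
    · intro j
      show Q ((y ^ j) (u : V)) = 0
      rw [iso_pow hiso, hQu]
    · intro j l
      exact hD j l
  have hinv : Inv y (Submodule.span F (Set.range s)) := by
    intro x hx
    induction hx using Submodule.span_induction with
    | mem x hx =>
      obtain ⟨j, rfl⟩ := hx
      apply Submodule.subset_span
      refine ⟨j + 1, ?_⟩
      show (y ^ (j + 1)) (u : V) = y ((y ^ j) (u : V))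
      rw [pow_succ', Module.End.mul_apply]
    | zero =>
      rw [map_zero]
      exact Submodule.zero_mem _
    | add x z _ _ ihx ihz =>
      rw [map_add]
      exact Submodule.add_mem _ ihx ihz
    | smul c x _ ih =>
      rw [map_smul]
      exact Submodule.smul_mem _ c ih
  have hle : Submodule.span F (Set.range s) ≤ M := by
    rw [Submodule.span_le]
    rintro _ ⟨j, rfl⟩
    exact inv_pow hM j _ u.2
  have hne : Submodule.span F (Set.range s) ≠ ⊥ := by
    intro h0
    have h3 : (u : V) ∈ Submodule.span F (Set.range s) := by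
      apply Submodule.subset_span
      refine ⟨0, ?_⟩
      show (y ^ 0) (u : V) = (u : V)
      rw [pow_zero, Module.End.one_apply]
    rw [h0, Submodule.mem_bot] at h3
    exact hu0' h3
  obtain ⟨Z, hZle, hZinv, hZi⟩ := hmin_cyclotomic r hrp y _ (hle.trans hMV) hinv hne
  exact ⟨Z, hZle.trans hle, hZinv, isTS_mono hTS hZle, hZi⟩

/-- peeling off a totally singular invariant subspace -/
theorem exists_peel (hQ : (polarBilin Q).Nondegenerate) (hiso : ∀ v, Q (y v) = Q v) (r : ℕ)
    [Fact r.Prime] (hrp : r ≠ p) (hy : y ^ r = 1) {M Z : Submodule F V} (hM : NDeg Q M)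
    (hMinv : Inv y M) (hZM : Z ≤ M) (hZinv : Inv y Z) (hZ : IsTS Q Z) :
    ∃ M₂ : Submodule F V, M₂ ≤ M ⊓ perp Q Z ∧ Inv y M₂ ∧ NDeg Q M₂ ∧ Disjoint Z M₂ ∧
      finrank F M₂ + 2 * finrank F Z = finrank F M := by
  have hr1 : 1 ≤ r := (Fact.out : r.Prime).one_lt.le
  have hss := isSemisimple_of_pow_eq_one r hrp y hy
  have hLinv : Inv y (M ⊓ perp Q Z) := hMinv.inf (inv_perp hiso hr1 hy hZinv)
  have hZL : Z ≤ M ⊓ perp Q Z := le_inf hZM (le_orthogonal_of_isTS hZ)
  obtain ⟨M₂, hM₂L, hM₂inv, hdisj, hfr⟩ := exists_rel_compl y hss _ hLinv Z hZL hZinv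
  obtain ⟨hnd, hdim⟩ := ndeg_of_compl hQ hM hZM hZ hM₂L hdisj hfr
  exact ⟨M₂, hM₂L, hM₂inv, hnd, hdisj, hdim⟩

/-- the threshold above which an invariant nondegenerate subspace of the cyclotomic kernel
contains a totally singular invariant subspace of dimension `i` -/
noncomputable def thr (q r : ℕ) : ℕ := if Odd (orderOf ((q : ℕ) : ZMod r)) then 0 else r - 1

theorem exists_block (hodd : Odd (Fintype.card F)) (hiso : ∀ v, Q (y v) = Q v) (r : ℕ)
    [Fact r.Prime] (hrp : r ≠ p) (hr2 : r ≠ 2) (hy : y ^ r = 1) (M : Submodule F V)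
    (hMV : M ≤ cycS y r) (hM : Inv y M) (hdim : thr (Fintype.card F) r < finrank F M) :
    ∃ Z : Submodule F V, Z ≤ M ∧ Inv y Z ∧ IsTS Q Z ∧
      finrank F Z = orderOf ((Fintype.card F : ℕ) : ZMod r) := by
  unfold thr at hdim
  split_ifs at hdim with hi
  · have hne : M ≠ ⊥ := by
      intro h0
      rw [h0, finrank_bot] at hdim
      exact lt_irrefl _ hdim
    obtain ⟨Z, hZM, hZinv, hZi⟩ := hmin_cyclotomic r hrp y M hMV hM hne
    exact ⟨Z, hZM, hZinv, isTS_of_odd hodd hiso r hrp hr2 hy Z (hZM.trans hMV) hZinv hZi hi, hZi⟩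
  · exact exists_isTS_inv_of_large (two_ne_zero_of_odd_card hodd) hiso r hrp hr2 hy M hMV hM hdim

/-- totally singular invariant subspaces of dimension `i * b` in the cyclotomic kernel -/
theorem exists_isTS_inv_mul (hodd : Odd (Fintype.card F)) (hQ : (polarBilin Q).Nondegenerate)
    (hiso : ∀ v, Q (y v) = Q v) (r : ℕ) [Fact r.Prime] (hrp : r ≠ p) (hr2 : r ≠ 2)
    (hy : y ^ r = 1) :
    ∀ (b : ℕ) (M : Submodule F V), NDeg Q M → Inv y M → M ≤ cycS y r →
      (b = 0 ∨ thr (Fintype.card F) r +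
        2 * orderOf ((Fintype.card F : ℕ) : ZMod r) * (b - 1) < finrank F M) →
      ∃ T : Submodule F V, T ≤ M ∧ Inv y T ∧ IsTS Q T ∧
        finrank F T = orderOf ((Fintype.card F : ℕ) : ZMod r) * b := by
  intro b
  induction b with
  | zero =>
    intro M _ _ _ _
    refine ⟨⊥, bot_le, ?_, ?_, ?_⟩
    · intro x hx
      rw [Submodule.mem_bot] at hx
      rw [hx, map_zero]
      exact Submodule.zero_mem _
    · intro x hx
      rw [Submodule.mem_bot] at hx
      rw [hx, map_zero]
    · rw [finrank_bot, mul_zero]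
  | succ b ih =>
    intro M hM hMinv hMV hcond
    have hcond' : thr (Fintype.card F) r +
        2 * orderOf ((Fintype.card F : ℕ) : ZMod r) * b < finrank F M := by
      rcases hcond with h | h
      · exact absurd h (Nat.succ_ne_zero b)
      · simpa using h
    obtain ⟨Z, hZM, hZinv, hZ, hZi⟩ := exists_block hodd hiso r hrp hr2 hy M hMV hMinv
      (lt_of_le_of_lt (Nat.le_add_right _ _) hcond')
    obtain ⟨M₂, hM₂L, hM₂inv, hM₂nd, hdisj, hdim⟩ :=
      exists_peel hQ hiso r hrp hy hM hMinv hZM hZinv hZ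
    have hM₂M : M₂ ≤ M := hM₂L.trans inf_le_left
    obtain ⟨T₂, hT₂M, hT₂inv, hT₂, hT₂i⟩ := ih M₂ hM₂nd hM₂inv (hM₂M.trans hMV) (by
      rcases Nat.eq_zero_or_pos b with hb | hb
      · left; exact hb
      · right
        rw [hZi] at hdim
        have : 2 * orderOf ((Fintype.card F : ℕ) : ZMod r) * b =
            2 * orderOf ((Fintype.card F : ℕ) : ZMod r) * (b - 1) +
              2 * orderOf ((Fintype.card F : ℕ) : ZMod r) := by
          obtain ⟨b', rfl⟩ : ∃ b', b = b' + 1 := ⟨b - 1, by omega⟩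
          rw [Nat.add_sub_cancel]
          ring
        omega)
    refine ⟨Z ⊔ T₂, sup_le hZM (hT₂M.trans hM₂M), hZinv.sup hT₂inv, ?_, ?_⟩
    · apply isTS_sup hZ hT₂
      apply le_perp_comm
      exact (hT₂M.trans hM₂L).trans inf_le_right
    · have hd : Disjoint Z T₂ := hdisj.mono_right hT₂M
      rw [finrank_sup_of_disjoint hd, hZi, hT₂i]
      ring

/-- for `i` odd, the dimension of a nondegenerate invariant subspace of the cyclotomic kernel is
divisible by `2i` -/
theorem two_mul_dvd_finrank (hodd : Odd (Fintype.card F)) (hQ : (polarBilin Q).Nondegenerate)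
    (hiso : ∀ v, Q (y v) = Q v) (r : ℕ) [Fact r.Prime] (hrp : r ≠ p) (hr2 : r ≠ 2)
    (hy : y ^ r = 1) (hi : Odd (orderOf ((Fintype.card F : ℕ) : ZMod r))) :
    ∀ (n : ℕ) (M : Submodule F V), finrank F M = n → NDeg Q M → Inv y M → M ≤ cycS y r →
      2 * orderOf ((Fintype.card F : ℕ) : ZMod r) ∣ n := by
  intro n
  induction n using Nat.strong_induction_on with
  | _ n ih =>
    intro M hn hM hMinv hMV
    rcases Nat.eq_zero_or_pos n with h0 | h0
    · rw [h0]
      exact dvd_zero _
    · have hthr : thr (Fintype.card F) r = 0 := by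
        unfold thr
        rw [if_pos hi]
      obtain ⟨Z, hZM, hZinv, hZ, hZi⟩ := exists_block hodd hiso r hrp hr2 hy M hMV hMinv
        (by rw [hthr, hn]; exact h0)
      obtain ⟨M₂, hM₂L, hM₂inv, hM₂nd, -, hdim⟩ :=
        exists_peel hQ hiso r hrp hy hM hMinv hZM hZinv hZ
      have hipos : 1 ≤ orderOf ((Fintype.card F : ℕ) : ZMod r) := order_pos r hrp
      rw [hZi, hn] at hdim
      have h3 := ih (finrank F M₂) (by omega) M₂ rfl hM₂nd hM₂inv
        ((hM₂L.trans inf_le_left).trans hMV)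
      rw [← hdim]
      exact Dvd.dvd.add h3 (dvd_refl _)

/-- the general existence theorem for invariant totally singular subspaces -/
theorem exists_inv_isTS (hodd : Odd (Fintype.card F)) (hQ : (polarBilin Q).Nondegenerate)
    (hiso : ∀ v, Q (y v) = Q v) (r : ℕ) [Fact r.Prime] (hrp : r ≠ p) (hr2 : r ≠ 2)
    (hy : y ^ r = 1) (a b : ℕ) (ha : 2 * a + 1 ≤ finrank F (fixS y))
    (hb : b = 0 ∨ thr (Fintype.card F) r +
        2 * orderOf ((Fintype.card F : ℕ) : ZMod r) * (b - 1) < finrank F (cycS y r)) :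
    ∃ W : Submodule F V, Inv y W ∧ IsTS Q W ∧
      finrank F W = a + orderOf ((Fintype.card F : ℕ) : ZMod r) * b := by
  obtain ⟨W₁, hW₁E, hW₁, hW₁a⟩ := exists_isTS_of_ndeg (ndeg_fixS hQ hiso r hrp hy) a ha
  obtain ⟨T, hTV, hTinv, hT, hTb⟩ := exists_isTS_inv_mul hodd hQ hiso r hrp hr2 hy b (cycS y r)
    (ndeg_cycS hQ hiso r hrp hy) (inv_ker_aeval y _) le_rfl hb
  have hW₁inv : Inv y W₁ := by
    intro x hx
    rw [(mem_fixS x).1 (hW₁E hx)]
    exact hx
  refine ⟨W₁ ⊔ T, hW₁inv.sup hTinv, ?_, ?_⟩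
  · apply isTS_sup hW₁ hT
    apply le_perp_comm
    refine hTV.trans ?_
    rw [cycS_eq_perp hQ hiso r hrp hy]
    exact LinearMap.BilinForm.orthogonal_le hW₁E
  · have hd : Disjoint W₁ T := (isCompl_ker r hrp y hy).disjoint.mono hW₁E hTV
    rw [finrank_sup_of_disjoint hd, hW₁a, hTb]

end Cfsg.Agent.Lib.Helper2.OrthEl
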