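import Mathlib
import Cfsg.Prelude.Def_GeometricClasses
import Cfsg.Agent.Lib.Helper2.OrthElE
import Cfsg.Agent.Lib.Helper2.OrthCard1

set_option autoImplicit false

/-!
Dictionary between elements of `omegaGL (quadFormOdd d F)` and isometries of the quadratic space
`QOd d F`, the arithmetic of the existence direction, and the existence direction for odd `r`.
-/

namespace Cfsg.Agent.Lib.Helper2.OrthEl

open Module QuadraticMap Polynomial
open Cfsg.Agent.Lib.Helper2.MaxTS2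
open Cfsg.Agent.H9SemiInv
open Cfsg.Agent.Lib.Helper9.H9Elus
open Cfsg.Agent.Lib.Helper2.OrthCard

section dict

variable {F : Type*} [Field F] {ι : Type} [Fintype ι] [DecidableEq ι]

theorem mem_iso_of_mem_omegaGL {Q₀ : (ι → F) → F} {x : Matrix.GeneralLinearGroup ι F}
    (hx : x ∈ Cfsg.Geo.omegaGL Q₀) : x ∈ Cfsg.isometryGroup F Q₀ := by
  obtain ⟨g, -, rfl⟩ := Subgroup.mem_map.1 hx
  exact g.2

theorem iso_apply {Q₀ : (ι → F) → F} {x : Matrix.GeneralLinearGroup ι F}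
    (hx : x ∈ Cfsg.isometryGroup F Q₀) (v : ι → F) :
    Q₀ (Matrix.toLin' (x : Matrix ι ι F) v) = Q₀ v := by
  rw [Matrix.toLin'_apply]
  exact hx v v

theorem toLin'_pow_eq_one {x : Matrix.GeneralLinearGroup ι F} {r : ℕ} (hx : x ^ r = 1) :
    (Matrix.toLin' (x : Matrix ι ι F)) ^ r = 1 := by
  rw [← Matrix.toLin'_pow, ← Units.val_pow_eq_pow_val, hx, Units.val_one, Matrix.toLin'_one]
  rfl

theorem finrank_odd_space (d : ℕ) : finrank F (Unit ⊕ (Fin d ⊕ Fin d) → F) = 2 * d + 1 := by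
  rw [Module.finrank_fintype_fun_eq_card]
  simp only [Fintype.card_sum, Fintype.card_unit, Fintype.card_fin]
  ring

end dict

section arith

/-- the arithmetic of the existence direction, `i` even -/
theorem arith_even (i N k A m' ℓ t e₀ : ℕ) (hA : A ≤ N)
    (he₀ : e₀ = i * (N - A) + k) (hℓ : 2 * ℓ + 1 ≤ k) (ht : t + 2 * m' ≤ N) :
    ∃ b, b ≤ m' ∧ 2 * (ℓ + i * (m' - b)) + 1 ≤ e₀ ∧ (b = 0 ∨ t + 2 * (b - 1) < A) := by
  by_cases h1 : t + 2 * m' ≤ A + 1
  · refine ⟨m', le_rfl, ?_, ?_⟩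
    · rw [Nat.sub_self, mul_zero, he₀]
      omega
    · omega
  · -- `b = (A + 1 - t) / 2`
    refine ⟨(A + 1 - t) / 2, by omega, ?_, by omega⟩
    have h2 : 2 * (m' - (A + 1 - t) / 2) ≤ N - A := by omega
    have h3 : i * (2 * (m' - (A + 1 - t) / 2)) ≤ i * (N - A) := Nat.mul_le_mul_left i h2
    rw [he₀]
    have h4 : 2 * (i * (m' - (A + 1 - t) / 2)) = i * (2 * (m' - (A + 1 - t) / 2)) := by ring
    omega

/-- the arithmetic of the existence direction, `i` odd -/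
theorem arith_odd (i N k A' m' ℓ e₀ : ℕ) (hA : A' ≤ N)
    (he₀ : e₀ = 2 * i * (N - A') + k) (hℓ : 2 * ℓ + 1 ≤ k) (hm : m' ≤ N) :
    ∃ b, b ≤ m' ∧ 2 * (ℓ + i * (m' - b)) + 1 ≤ e₀ ∧ (b = 0 ∨ b - 1 < A') := by
  by_cases h1 : m' ≤ A'
  · refine ⟨m', le_rfl, ?_, by omega⟩
    rw [Nat.sub_self, mul_zero, he₀]
    omega
  · refine ⟨A', by omega, ?_, by omega⟩
    have h2 : m' - A' ≤ N - A' := by omega
    have h3 : 2 * i * (m' - A') ≤ 2 * i * (N - A') := Nat.mul_le_mul_left _ h2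
    rw [he₀]
    have h4 : 2 * (i * (m' - A')) = 2 * i * (m' - A') := by ring
    omega

end arith

end Cfsg.Agent.Lib.Helper2.OrthEl
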