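import Mathlib
import Cfsg.Agent.Lib.Helper2.OrthElF

set_option autoImplicit false

/-!
The existence direction for odd `r`: every isometry of `quadFormOdd d F` of odd prime order
`r ≠ p` fixes a totally singular `m`-space under the arithmetic conditions.
-/

namespace Cfsg.Agent.Lib.Helper2.OrthEl

open Module QuadraticMap Polynomial
open Cfsg.Agent.Lib.Helper2.MaxTS2
open Cfsg.Agent.H9SemiInv
open Cfsg.Agent.Lib.Helper9.H9Elus
open Cfsg.Agent.Lib.Helper2.OrthCard

variable {F : Type*} [Field F] [Fintype F] {p : ℕ} [Fact p.Prime] [CharP F p]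

theorem natCast_card_ne_zero (r : ℕ) [Fact r.Prime] (hrp : r ≠ p) :
    ((Fintype.card F : ℕ) : ZMod r) ≠ 0 := by
  intro h0
  have h1 := pow_orderOf_eq_one ((Fintype.card F : ℕ) : ZMod r)
  have h2 : 1 ≤ orderOf ((Fintype.card F : ℕ) : ZMod r) := order_pos r hrp
  have h3 : orderOf ((Fintype.card F : ℕ) : ZMod r) ≠ 0 := by omega
  rw [h0] at h1 h3
  rw [zero_pow h3] at h1
  exact zero_ne_one h1

theorem order_dvd_sub_one (r : ℕ) [Fact r.Prime] (hrp : r ≠ p) :
    orderOf ((Fintype.card F : ℕ) : ZMod r) ∣ r - 1 :=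
  ZMod.orderOf_dvd_card_sub_one (natCast_card_ne_zero r hrp)

theorem exists_of_odd (hodd : Odd (Fintype.card F)) (d m : ℕ) (hmd : m ≤ d) (r : ℕ)
    [Fact r.Prime] (hrp : r ≠ p) (hr2 : 2 < r)
    (him : orderOf ((Fintype.card F : ℕ) : ZMod r) ≤ m)
    (hk : 2 * (m % orderOf ((Fintype.card F : ℕ) : ZMod r)) <
      (2 * d + 1) % (if Even (orderOf ((Fintype.card F : ℕ) : ZMod r))
        then orderOf ((Fintype.card F : ℕ) : ZMod r)
        else 2 * orderOf ((Fintype.card F : ℕ) : ZMod r)))
    (ht : Odd (orderOf ((Fintype.card F : ℕ) : ZMod r)) ∨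
      (r - 1) / orderOf ((Fintype.card F : ℕ) : ZMod r) +
        2 * (m / orderOf ((Fintype.card F : ℕ) : ZMod r)) ≤
        (2 * d + 1) / orderOf ((Fintype.card F : ℕ) : ZMod r))
    (x : Matrix.GeneralLinearGroup (Unit ⊕ (Fin d ⊕ Fin d)) F)
    (hx : x ∈ Cfsg.isometryGroup F (Cfsg.quadFormOdd d F)) (hxr : x ^ r = 1) :
    ∃ W : Submodule F (Unit ⊕ (Fin d ⊕ Fin d) → F), finrank F W = m ∧
      (∀ w ∈ W, Cfsg.quadFormOdd d F w = 0) ∧
      W.map (Matrix.toLin' (x : Matrix (Unit ⊕ (Fin d ⊕ Fin d)) (Unit ⊕ (Fin d ⊕ Fin d)) F)) ≤ W := by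
  have h2 : (2 : F) ≠ 0 := two_ne_zero_of_odd_card hodd
  have hQ := QOd_nondeg (F := F) h2 d
  set y := Matrix.toLin' (x : Matrix (Unit ⊕ (Fin d ⊕ Fin d)) (Unit ⊕ (Fin d ⊕ Fin d)) F) with hy_def
  have hiso : ∀ v, (QOd d F) (y v) = (QOd d F) v := by
    intro v
    have := iso_apply hx v
    rw [← QOd_coe] at this
    exact this
  have hy : y ^ r = 1 := toLin'_pow_eq_one hxr
  have hr2' : r ≠ 2 := by omega
  set i := orderOf ((Fintype.card F : ℕ) : ZMod r) with hi
  have hi1 : 1 ≤ i := order_pos r hrp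
  have hsum : finrank F (fixS y) + finrank F (cycS y r) = 2 * d + 1 := by
    rw [← finrank_odd_space (F := F) d]
    exact Submodule.finrank_add_eq_of_isCompl (isCompl_ker r hrp y hy)
  have hdvd : i ∣ finrank F (cycS y r) := order_dvd_finrank_ker r hrp y hy
  have hm := Nat.div_add_mod m i
  -- the key: find `b`
  have key : ∃ b, b ≤ m / i ∧ 2 * (m % i + i * (m / i - b)) + 1 ≤ finrank F (fixS y) ∧
      (b = 0 ∨ thr (Fintype.card F) r + 2 * i * (b - 1) < finrank F (cycS y r)) := by
    by_cases hev : Even i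
    · rw [if_pos hev] at hk
      have hno : ¬ Odd i := Nat.not_odd_iff_even.2 hev
      have ht' := ht.resolve_left hno
      obtain ⟨A, hA⟩ := hdvd
      obtain ⟨t, ht0⟩ := order_dvd_sub_one (F := F) r hrp
      rw [← hi] at ht0
      have htdiv : (r - 1) / i = t := by
        rw [ht0]
        exact Nat.mul_div_cancel_left t (by omega)
      rw [htdiv] at ht'
      have hn := Nat.div_add_mod (2 * d + 1) i
      have hmodlt := Nat.mod_lt (2 * d + 1) (show 0 < i by omega)
      have hAN : A ≤ (2 * d + 1) / i := by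
        have h3 : i * A < i * ((2 * d + 1) / i + 1) := by
          rw [mul_add, mul_one]
          omega
        have := Nat.lt_of_mul_lt_mul_left h3
        omega
      have he₀ : finrank F (fixS y) = i * ((2 * d + 1) / i - A) + (2 * d + 1) % i := by
        rw [Nat.mul_sub]
        have : i * A ≤ i * ((2 * d + 1) / i) := Nat.mul_le_mul_left i hAN
        omega
      obtain ⟨b, hb1, hb2, hb3⟩ := arith_even i ((2 * d + 1) / i) ((2 * d + 1) % i) A (m / i)
        (m % i) t _ hAN he₀ (by omega) ht'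
      refine ⟨b, hb1, hb2, ?_⟩
      rcases hb3 with hb3 | hb3
      · left; exact hb3
      · right
        have hthr : thr (Fintype.card F) r = r - 1 := by
          unfold thr
          rw [if_neg hno]
        rw [hthr, ht0, hA]
        have : i * t + 2 * i * (b - 1) = i * (t + 2 * (b - 1)) := by ring
        rw [this]
        exact Nat.mul_lt_mul_of_pos_left hb3 (by omega)
    · rw [if_neg hev] at hk
      have hoddi : Odd i := Nat.not_even_iff_odd.1 hev
      have hdvd2 : 2 * i ∣ finrank F (cycS y r) :=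
        two_mul_dvd_finrank hodd hQ hiso r hrp hr2' hy hoddi _ (cycS y r) rfl
          (ndeg_cycS hQ hiso r hrp hy) (inv_ker_aeval y _) le_rfl
      obtain ⟨A', hA'⟩ := hdvd2
      have hn := Nat.div_add_mod (2 * d + 1) (2 * i)
      have hmodlt := Nat.mod_lt (2 * d + 1) (show 0 < 2 * i by omega)
      have hAN : A' ≤ (2 * d + 1) / (2 * i) := by
        have h3 : 2 * i * A' < 2 * i * ((2 * d + 1) / (2 * i) + 1) := by
          rw [mul_add, mul_one]
          omega
        have := Nat.lt_of_mul_lt_mul_left h3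
        omega
      have he₀ : finrank F (fixS y) =
          2 * i * ((2 * d + 1) / (2 * i) - A') + (2 * d + 1) % (2 * i) := by
        rw [Nat.mul_sub]
        have : 2 * i * A' ≤ 2 * i * ((2 * d + 1) / (2 * i)) := Nat.mul_le_mul_left _ hAN
        omega
      have hm'N : m / i ≤ (2 * d + 1) / (2 * i) := by
        have h3 : 2 * i * (m / i) < 2 * i * ((2 * d + 1) / (2 * i) + 1) := by
          rw [mul_add, mul_one]
          have : 2 * i * (m / i) = 2 * (i * (m / i)) := by ring
          omega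
        have := Nat.lt_of_mul_lt_mul_left h3
        omega
      obtain ⟨b, hb1, hb2, hb3⟩ := arith_odd i ((2 * d + 1) / (2 * i)) ((2 * d + 1) % (2 * i)) A'
        (m / i) (m % i) _ hAN he₀ (by omega) hm'N
      refine ⟨b, hb1, hb2, ?_⟩
      rcases hb3 with hb3 | hb3
      · left; exact hb3
      · right
        have hthr : thr (Fintype.card F) r = 0 := by
          unfold thr
          rw [if_pos hoddi]
        rw [hthr, hA', zero_add]
        exact Nat.mul_lt_mul_of_pos_left hb3 (by omega)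
  obtain ⟨b, hb1, hb2, hb3⟩ := key
  obtain ⟨W, hWinv, hWts, hWdim⟩ := exists_inv_isTS hodd hQ hiso r hrp hr2' hy
    (m % i + i * (m / i - b)) b hb2 hb3
  rw [← hi] at hWdim
  refine ⟨W, ?_, ?_, (inv_iff y W).1 hWinv⟩
  · rw [hWdim]
    have : i * (m / i - b) + i * b = i * (m / i) := by
      rw [← mul_add, Nat.sub_add_cancel hb1]
    omega
  · intro w hw
    have := hWts w hw
    rw [← QOd_coe]
    exact this

end Cfsg.Agent.Lib.Helper2.OrthEl
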