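import Mathlib
import Cfsg.Agent.Lib.Helper2.OrthElE
import Cfsg.Agent.Lib.Helper9.Elus7

set_option autoImplicit false

/-!
Bundled quadratic spaces with an isometry, orthogonal products, annihilating polynomials and the
splitting of invariant totally singular subspaces along coprime annihilators.
-/

namespace Cfsg.Agent.Lib.Helper2.OrthEl

open Module QuadraticMap Polynomial
open Cfsg.Agent.Lib.Helper2.MaxTS2
open Cfsg.Agent.H9SemiInv
open Cfsg.Agent.Lib.Helper9.H9Elus

universe u

/-- a finite-dimensional quadratic space together with a linear endomorphism -/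
structure QIso (F : Type u) [Field F] where
  /-- the underlying space -/
  V : Type u
  [acg : AddCommGroup V]
  [mod : Module F V]
  [fd : FiniteDimensional F V]
  /-- the quadratic form -/
  Q : QuadraticForm F V
  /-- the endomorphism -/
  y : V →ₗ[F] V

attribute [instance] QIso.acg QIso.mod QIso.fd

namespace QIso

variable {F : Type u} [Field F]

/-- nondegenerate, `y` an isometry with `y ^ r = 1` -/
def Good (A : QIso F) (r : ℕ) : Prop :=
  (polarBilin A.Q).Nondegenerate ∧ (∀ v, A.Q (A.y v) = A.Q v) ∧ A.y ^ r = 1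

/-- `h` annihilates `y` -/
def Ann (A : QIso F) (h : F[X]) : Prop := aeval A.y h = 0

/-- the dimensions of the invariant totally singular subspaces -/
def TSset (A : QIso F) : Set ℕ :=
  {n | ∃ T : Submodule F A.V, Inv A.y T ∧ IsTS A.Q T ∧ finrank F T = n}

/-- the orthogonal product -/
@[reducible] def prod (A B : QIso F) : QIso F where
  V := A.V × B.V
  Q := A.Q.prod B.Q
  y := A.y.prodMap B.y

theorem prod_Q_apply (A B : QIso F) (v : A.V × B.V) : (A.prod B).Q v = A.Q v.1 + B.Q v.2 :=
  QuadraticMap.prod_apply _ _ _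

theorem prod_y_apply (A B : QIso F) (v : A.V × B.V) : (A.prod B).y v = (A.y v.1, B.y v.2) := rfl

theorem prod_polar (A B : QIso F) (v w : A.V × B.V) :
    polar (⇑(A.prod B).Q) v w = polar (⇑A.Q) v.1 w.1 + polar (⇑B.Q) v.2 w.2 :=
  QuadraticMap.polar_prod _ _ _ _

theorem nondeg_of_left {V : Type*} [AddCommGroup V] [Module F V] {Q : QuadraticForm F V}
    (h : ∀ u : V, (∀ v, polar (⇑Q) u v = 0) → u = 0) : (polarBilin Q).Nondegenerate := by
  constructor
  · intro u hu
    exact h u hu
  · intro v hv
    apply h v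
    intro u
    rw [polar_comm]
    exact hv u

theorem prod_good {A B : QIso F} {r : ℕ} (hA : A.Good r) (hB : B.Good r) : (A.prod B).Good r := by
  refine ⟨?_, ?_, ?_⟩
  · apply nondeg_of_left
    intro u hu
    have h1 : u.1 = 0 := by
      apply hA.1.1
      intro v
      have := hu (v, 0)
      rw [prod_polar] at this
      simpa [polar] using this
    have h2 : u.2 = 0 := by
      apply hB.1.1
      intro v
      have := hu (0, v)
      rw [prod_polar] at this
      simpa [polar] using this
    exact Prod.ext h1 h2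
  · intro v
    rw [prod_Q_apply, prod_y_apply, prod_Q_apply, hA.2.1, hB.2.1]
  · show (A.y.prodMap B.y) ^ r = 1
    rw [prodMap_pow', hA.2.2, hB.2.2]
    exact LinearMap.prodMap_one

theorem aeval_monomial_succ {M : Type*} [AddCommGroup M] [Module F M] (φ : M →ₗ[F] M) (a : F)
    (n : ℕ) : aeval φ (C a * X ^ (n + 1)) = aeval φ (C a * X ^ n) * φ := by
  rw [pow_succ, ← mul_assoc, map_mul, aeval_X]

theorem aeval_prodMap {M N : Type*} [AddCommGroup M] [Module F M] [AddCommGroup N] [Module F N]
    (f : M →ₗ[F] M) (g : N →ₗ[F] N) (h : F[X]) :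
    aeval (f.prodMap g) h = (aeval f h).prodMap (aeval g h) := by
  induction h using Polynomial.induction_on with
  | C a =>
    rw [aeval_C, aeval_C, aeval_C]
    apply LinearMap.ext
    intro v
    rfl
  | add p q hp hq =>
    rw [map_add, map_add, map_add, hp, hq]
    apply LinearMap.ext
    intro v
    rfl
  | monomial n a ih =>
    rw [aeval_monomial_succ, aeval_monomial_succ f, aeval_monomial_succ g, ih,
      LinearMap.prodMap_mul]

theorem prod_ann {A B : QIso F} {h₁ h₂ : F[X]} (hA : A.Ann h₁) (hB : B.Ann h₂) :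
    (A.prod B).Ann (h₁ * h₂) := by
  unfold Ann at *
  show aeval (A.y.prodMap B.y) (h₁ * h₂) = 0
  rw [aeval_prodMap, map_mul, map_mul, hA, hB, zero_mul, mul_zero]
  apply LinearMap.ext
  intro v
  rfl

theorem prod_ann_same {A B : QIso F} {h : F[X]} (hA : A.Ann h) (hB : B.Ann h) :
    (A.prod B).Ann h := by
  unfold Ann at *
  show aeval (A.y.prodMap B.y) h = 0
  rw [aeval_prodMap, hA, hB]
  apply LinearMap.ext
  intro v
  rfl

theorem ann_of_dvd {A : QIso F} {h h' : F[X]} (hA : A.Ann h) (hd : h ∣ h') : A.Ann h' := by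
  obtain ⟨k, rfl⟩ := hd
  unfold Ann at *
  rw [map_mul, hA, zero_mul]

theorem finrank_prod (A B : QIso F) :
    finrank F (A.prod B).V = finrank F A.V + finrank F B.V :=
  Module.finrank_prod

/-- splitting of invariant totally singular subspaces along coprime annihilators -/
theorem TSset_prod {A B : QIso F} {h₁ h₂ : F[X]} (hA : A.Ann h₁) (hB : B.Ann h₂)
    (hcop : IsCoprime h₁ h₂) {n : ℕ} (hn : n ∈ (A.prod B).TSset) :
    ∃ n₁ ∈ A.TSset, ∃ n₂ ∈ B.TSset, n = n₁ + n₂ := by
  obtain ⟨T, hTinv, hT, rfl⟩ := hn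
  obtain ⟨a, b, hab⟩ := hcop
  unfold Ann at hA hB
  -- projections
  have hπ : ∀ v : A.V × B.V, aeval (A.prod B).y (b * h₂) v = (v.1, 0) := by
    intro v
    show aeval (A.y.prodMap B.y) (b * h₂) v = (v.1, 0)
    rw [aeval_prodMap]
    show ((aeval A.y (b * h₂)) v.1, (aeval B.y (b * h₂)) v.2) = (v.1, 0)
    have e1 : aeval A.y (b * h₂) = 1 := by
      have : b * h₂ = 1 - a * h₁ := by rw [← hab]; ring
      rw [this, map_sub, map_one, map_mul, hA, mul_zero, sub_zero]
    have e2 : aeval B.y (b * h₂) = 0 := by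
      rw [map_mul, hB, mul_zero]
    rw [e1, e2]
    rfl
  have h1 : ∀ v ∈ T, ((v.1, 0) : A.V × B.V) ∈ T := by
    intro v hv
    rw [← hπ v]
    exact Inv.aeval hTinv _ v hv
  have h2 : ∀ v ∈ T, ((0, v.2) : A.V × B.V) ∈ T := by
    intro v hv
    have := T.sub_mem hv (h1 v hv)
    have e : v - (v.1, 0) = (0, v.2) := by
      apply Prod.ext
      · simp
      · simp
    rwa [e] at this
  set T₁ : Submodule F A.V := T.comap (LinearMap.inl F A.V B.V) with hT₁
  set T₂ : Submodule F B.V := T.comap (LinearMap.inr F A.V B.V) with hT₂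
  have hmem₁ : ∀ x : A.V, x ∈ T₁ ↔ ((x, 0) : A.V × B.V) ∈ T := fun x => Iff.rfl
  have hmem₂ : ∀ x : B.V, x ∈ T₂ ↔ ((0, x) : A.V × B.V) ∈ T := fun x => Iff.rfl
  refine ⟨finrank F T₁, ⟨T₁, ?_, ?_, rfl⟩, finrank F T₂, ⟨T₂, ?_, ?_, rfl⟩, ?_⟩
  · intro x hx
    rw [hmem₁] at hx ⊢
    have := hTinv _ hx
    rw [prod_y_apply] at this
    simpa using this
  · intro x hx
    rw [hmem₁] at hx
    have := hT _ hx
    rw [prod_Q_apply] at this
    simpa using this
  · intro x hx
    rw [hmem₂] at hx ⊢
    have := hTinv _ hx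
    rw [prod_y_apply] at this
    simpa using this
  · intro x hx
    rw [hmem₂] at hx
    have := hT _ hx
    rw [prod_Q_apply] at this
    simpa using this
  · have hinl : Function.Injective (LinearMap.inl F A.V B.V) := LinearMap.inl_injective
    have hinr : Function.Injective (LinearMap.inr F A.V B.V) := LinearMap.inr_injective
    have e1 : finrank F (T₁.map (LinearMap.inl F A.V B.V)) = finrank F T₁ :=
      (Submodule.equivMapOfInjective _ hinl T₁).finrank_eq.symm
    have e2 : finrank F (T₂.map (LinearMap.inr F A.V B.V)) = finrank F T₂ :=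
      (Submodule.equivMapOfInjective _ hinr T₂).finrank_eq.symm
    have hsup : T = T₁.map (LinearMap.inl F A.V B.V) ⊔ T₂.map (LinearMap.inr F A.V B.V) := by
      apply le_antisymm
      · intro v hv
        have e : v = (v.1, 0) + (0, v.2) := by
          apply Prod.ext
          · simp
          · simp
        rw [e]
        apply Submodule.add_mem_sup
        · exact ⟨v.1, h1 v hv, rfl⟩
        · exact ⟨v.2, h2 v hv, rfl⟩
      · apply sup_le
        · rintro _ ⟨x, hx, rfl⟩
          exact hx
        · rintro _ ⟨x, hx, rfl⟩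
          exact hx
    have hdisj : Disjoint (T₁.map (LinearMap.inl F A.V B.V)) (T₂.map (LinearMap.inr F A.V B.V)) := by
      rw [Submodule.disjoint_def]
      rintro v ⟨x, -, rfl⟩ ⟨x', -, hx'⟩
      have e1 : x = 0 := by
        have := congrArg Prod.fst hx'
        simpa using this.symm
      rw [e1]
      simp
    conv_lhs => rw [hsup]
    rw [finrank_sup_of_disjoint hdisj, e1, e2]

end QIso

end Cfsg.Agent.Lib.Helper2.OrthEl
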