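import Mathlib
import Cfsg.Agent.Lib.Helper2.OrthElK

set_option autoImplicit false

/-!
Basic bundled spaces: the trivial space, powers, the fixed part, fixed-point-free parts and the
model core `E₀ ⊥ Rest`.
-/

namespace Cfsg.Agent.Lib.Helper2.OrthEl

open Module QuadraticMap Polynomial
open Cfsg.Agent.Lib.Helper2.MaxTS2
open Cfsg.Agent.H9SemiInv
open Cfsg.Agent.Lib.Helper9.H9Elus

universe u

namespace QIso

variable {F : Type u} [Field F]

/-- the trivial space -/
@[reducible] def triv (F : Type u) [Field F] : QIso F where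
  V := PUnit.{u + 1}
  Q := 0
  y := 0

theorem triv_good (r : ℕ) : (triv F).Good r := by
  refine ⟨?_, ?_, ?_⟩
  · apply nondeg_of_left
    intro u _
    exact Subsingleton.elim _ _
  · intro v
    rfl
  · apply LinearMap.ext
    intro v
    exact Subsingleton.elim _ _

theorem triv_ann (h : F[X]) : (triv F).Ann h := by
  unfold Ann
  apply LinearMap.ext
  intro v
  exact Subsingleton.elim _ _

theorem triv_finrank : finrank F (triv F).V = 0 := Module.finrank_zero_of_subsingleton

/-- powers of a space -/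
theorem exists_pow (A : QIso F) {r : ℕ} (hA : A.Good r) {h : F[X]} (hann : A.Ann h) (n : ℕ) :
    ∃ B : QIso F, B.Good r ∧ B.Ann h ∧ finrank F B.V = n * finrank F A.V := by
  induction n with
  | zero =>
    refine ⟨triv F, triv_good r, triv_ann h, ?_⟩
    rw [triv_finrank, zero_mul]
  | succ n ih =>
    obtain ⟨B, hB, hBann, hBdim⟩ := ih
    refine ⟨B.prod A, prod_good hB hA, prod_ann_same hBann hann, ?_⟩
    rw [finrank_prod, hBdim]
    ring

/-- the one-dimensional space `x ↦ x²` with the identity -/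
@[reducible] def one (F : Type u) [Field F] : QIso F where
  V := F
  Q := QuadraticMap.sq
  y := LinearMap.id

theorem one_good (h2 : (2 : F) ≠ 0) (r : ℕ) : (one F).Good r := by
  refine ⟨?_, ?_, ?_⟩
  · apply nondeg_of_left
    intro u hu
    have h := hu 1
    have h3 : polar (⇑(QuadraticMap.sq (R := F))) u 1 = 2 * u := by
      unfold polar
      simp only [QuadraticMap.sq_apply]
      ring
    rw [h3] at h
    rcases mul_eq_zero.1 h with h4 | h4
    · exact absurd h4 h2
    · exact h4
  · intro v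
    rfl
  · exact one_pow r

theorem one_ann : (one F).Ann (X - 1 : F[X]) := by
  unfold Ann
  rw [map_sub, aeval_X, map_one]
  exact sub_self _

theorem one_finrank : finrank F (one F).V = 1 := Module.finrank_self F

/-- the fixed part: a nondegenerate space of dimension `e₀` with the identity -/
theorem exists_fixed (h2 : (2 : F) ≠ 0) (r e₀ : ℕ) :
    ∃ B : QIso F, B.Good r ∧ B.Ann (X - 1 : F[X]) ∧ finrank F B.V = e₀ := by
  obtain ⟨B, hB, hBann, hBdim⟩ := exists_pow (one F) (one_good h2 r) one_ann e₀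
  refine ⟨B, hB, hBann, ?_⟩
  rw [hBdim, one_finrank, mul_one]

theorem TSset_le_half {A : QIso F} {r : ℕ} (hA : A.Good r) {n : ℕ} (hn : n ∈ A.TSset) :
    2 * n ≤ finrank F A.V := by
  obtain ⟨T, -, hT, rfl⟩ := hn
  have := two_mul_finrank_le_of_isTS hA.1 (ndeg_top hA.1) hT le_top
  rwa [finrank_top] at this

theorem pow_eq_one_of_ann {A : QIso F} {h : F[X]} (hann : A.Ann h) {r : ℕ}
    (hd : h ∣ X ^ r - 1) : A.y ^ r = 1 := by
  have := ann_of_dvd hann hd
  unfold Ann at this
  rw [map_sub, map_pow, aeval_X, map_one] at this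
  exact sub_eq_zero.1 this

end QIso

section fin

variable {F : Type u} [Field F] [Fintype F] {p : ℕ} [Fact p.Prime] [CharP F p]

namespace QIso

omit [Fintype F] in
theorem cycS_eq_top {A : QIso F} {r : ℕ} (hann : A.Ann (cyclotomic r F)) : cycS A.y r = ⊤ := by
  unfold Ann at hann
  show LinearMap.ker (aeval A.y (cyclotomic r F)) = ⊤
  rw [hann]
  exact LinearMap.ker_zero

/-- invariant totally singular subspaces of a fixed-point-free space -/
theorem TSset_free {A : QIso F} (r : ℕ) [Fact r.Prime] (hrp : r ≠ p) (hA : A.Good r)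
    (hann : A.Ann (cyclotomic r F)) {n : ℕ} (hn : n ∈ A.TSset) :
    orderOf ((Fintype.card F : ℕ) : ZMod r) ∣ n ∧ 2 * n ≤ finrank F A.V := by
  refine ⟨?_, TSset_le_half hA hn⟩
  obtain ⟨T, hTinv, -, rfl⟩ := hn
  have h := order_dvd_finrank_inf r hrp A.y hA.2.2 T hTinv
  have h3 : T ⊓ LinearMap.ker (aeval A.y (cyclotomic r F)) = T := by
    have : LinearMap.ker (aeval A.y (cyclotomic r F)) = ⊤ := cycS_eq_top hann
    rw [this, inf_top_eq]
  rwa [h3] at h

theorem ne_one_of_free {A : QIso F} (r : ℕ) [Fact r.Prime] (hrp : r ≠ p) (hA : A.Good r)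
    (hann : A.Ann (cyclotomic r F)) (hpos : 0 < finrank F A.V) : A.y ≠ 1 := by
  intro h1
  obtain ⟨v, hv⟩ := Module.finrank_pos_iff_exists_ne_zero.1 hpos
  apply hv
  apply eq_zero_of_fix_of_cyc r hrp hA.2.2 (v := v)
  · rw [h1, Module.End.one_apply]
  · rw [cycS_eq_top hann]
    exact Submodule.mem_top

/-- the model core: a fixed part of dimension `e₀` and a fixed-point-free part -/
theorem exists_core (h2 : (2 : F) ≠ 0) (r : ℕ) [Fact r.Prime] (hrp : r ≠ p) (e₀ : ℕ)
    (R : QIso F) (hR : R.Good r) (hRann : R.Ann (cyclotomic r F)) :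
    ∃ M : QIso F, M.Good r ∧ finrank F M.V = e₀ + finrank F R.V ∧
      (0 < finrank F R.V → M.y ≠ 1) ∧
      ∀ n ∈ M.TSset, ∃ a, ∃ n₂ ∈ R.TSset, n = a + n₂ ∧ 2 * a ≤ e₀ := by
  obtain ⟨E, hE, hEann, hEdim⟩ := exists_fixed (F := F) h2 r e₀
  refine ⟨E.prod R, prod_good hE hR, ?_, ?_, ?_⟩
  · rw [finrank_prod, hEdim]
  · intro hpos h1
    apply ne_one_of_free r hrp hR hRann hpos
    apply LinearMap.ext
    intro v
    have := congrArg (fun f : (E.prod R).V →ₗ[F] (E.prod R).V => (f (0, v)).2) h1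
    exact this
  · intro n hn
    obtain ⟨n₁, hn₁, n₂, hn₂, rfl⟩ := TSset_prod hEann hRann
      (isCoprime_X_sub_one_cyclotomic (F := F) r hrp) hn
    refine ⟨n₁, n₂, hn₂, rfl, ?_⟩
    have := TSset_le_half hE hn₁
    rwa [hEdim] at this

end QIso

end fin

end Cfsg.Agent.Lib.Helper2.OrthEl
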