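import Mathlib
import Cfsg.Agent.Lib.Helper2.OrthElL

set_option autoImplicit false

/-!
Field blocks: for a finite separable extension `K / F` with an element `ζ`,
* the hermitian block `(K, Tr(u σ(u)), ζ·)` for an involutive `F`-automorphism `σ` with
  `σ ζ * ζ = 1`;
* the pair block `(K × K, Tr(u w), (ζ·, ζ⁻¹·))`.
-/

namespace Cfsg.Agent.Lib.Helper2.OrthEl

open Module QuadraticMap Polynomial

universe u

namespace QIso

variable {F : Type u} [Field F] (K : Type u) [Field K] [Algebra F K]

/-- the hermitian trace form `u ↦ Tr(u σ(u))` -/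
noncomputable def hermForm (σ : K →ₐ[F] K) : QuadraticForm F K :=
  LinearMap.BilinMap.toQuadraticMap ((Algebra.traceForm F K).compl₂ σ.toLinearMap)

variable {K}

theorem hermForm_apply (σ : K →ₐ[F] K) (u : K) :
    hermForm K σ u = Algebra.trace F K (u * σ u) := rfl

theorem hermForm_polar (σ : K →ₐ[F] K) (u w : K) :
    polar (⇑(hermForm K σ)) u w =
      Algebra.trace F K (u * σ w) + Algebra.trace F K (w * σ u) := by
  unfold hermForm
  rw [LinearMap.BilinMap.polar_toQuadraticMap]
  rfl

theorem trace_sigma (σ : K →ₐ[F] K) (hσ : ∀ u, σ (σ u) = u) (x : K) :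
    Algebra.trace F K (σ x) = Algebra.trace F K x := by
  let e : K ≃ₐ[F] K := AlgEquiv.ofAlgHom σ σ (AlgHom.ext hσ) (AlgHom.ext hσ)
  exact Algebra.trace_eq_of_algEquiv e x

theorem hermForm_polar' (σ : K →ₐ[F] K) (hσ : ∀ u, σ (σ u) = u) (u w : K) :
    polar (⇑(hermForm K σ)) u w = 2 * Algebra.trace F K (u * σ w) := by
  rw [hermForm_polar, ← trace_sigma σ hσ (w * σ u), map_mul σ, hσ, mul_comm (σ w) u]
  ring

variable [FiniteDimensional F K]

variable (K) in
/-- the hermitian block -/
@[reducible] noncomputable def herm (σ : K →ₐ[F] K) (ζ : K) : QIso F where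
  V := K
  Q := hermForm K σ
  y := LinearMap.mulLeft F ζ

theorem aeval_mulLeft (ζ : K) (h : F[X]) :
    aeval (LinearMap.mulLeft F ζ) h = LinearMap.mulLeft F (aeval ζ h) := by
  have h1 : LinearMap.mulLeft F ζ = Algebra.lmul F K ζ := rfl
  rw [h1, aeval_algHom_apply]
  rfl

theorem herm_ann (σ : K →ₐ[F] K) (ζ : K) (h : F[X]) (hζ : aeval ζ h = 0) :
    (herm K σ ζ).Ann h := by
  unfold Ann
  show aeval (LinearMap.mulLeft F ζ) h = 0
  rw [aeval_mulLeft, hζ]
  exact LinearMap.mulLeft_zero_eq_zero _ _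

theorem herm_good [Algebra.IsSeparable F K] (h2 : (2 : F) ≠ 0) (σ : K →ₐ[F] K)
    (hσ : ∀ u, σ (σ u) = u) (ζ : K) (hσζ : σ ζ * ζ = 1) (r : ℕ) (hζr : ζ ^ r = 1) :
    (herm K σ ζ).Good r := by
  refine ⟨?_, ?_, ?_⟩
  · apply nondeg_of_left
    intro u hu
    have hnd := traceForm_nondegenerate F K
    apply hnd.1
    intro z
    have h := hu (σ z)
    rw [hermForm_polar' σ hσ, hσ] at h
    rw [Algebra.traceForm_apply]
    rcases mul_eq_zero.1 h with h4 | h4
    · exact absurd h4 h2
    · exact h4
  · intro v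
    show hermForm K σ (ζ * v) = hermForm K σ v
    rw [hermForm_apply, hermForm_apply, map_mul σ]
    congr 1
    calc ζ * v * (σ ζ * σ v) = (σ ζ * ζ) * (v * σ v) := by ring
      _ = v * σ v := by rw [hσζ, one_mul]
  · show (LinearMap.mulLeft F ζ) ^ r = 1
    apply LinearMap.ext
    intro v
    have : ∀ k : ℕ, ((LinearMap.mulLeft F ζ) ^ k) v = ζ ^ k * v := by
      intro k
      induction k with
      | zero => rw [pow_zero, pow_zero, Module.End.one_apply, one_mul]
      | succ k ih =>
        rw [pow_succ', Module.End.mul_apply, ih, LinearMap.mulLeft_apply, pow_succ']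
        ring
    rw [this, hζr, one_mul, Module.End.one_apply]

variable (K) in
/-- the pair form `(u, w) ↦ Tr(u w)` -/
noncomputable def pairForm : QuadraticForm F (K × K) :=
  LinearMap.BilinMap.toQuadraticMap
    ((Algebra.traceForm F K).compl₁₂ (LinearMap.fst F K K) (LinearMap.snd F K K))

theorem pairForm_apply (v : K × K) : pairForm (F := F) K v = Algebra.trace F K (v.1 * v.2) := rfl

theorem pairForm_polar (v w : K × K) :
    polar (⇑(pairForm (F := F) K)) v w =
      Algebra.trace F K (v.1 * w.2) + Algebra.trace F K (w.1 * v.2) := by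
  unfold pairForm
  rw [LinearMap.BilinMap.polar_toQuadraticMap]
  rfl

variable (K) in
/-- the pair block -/
@[reducible] noncomputable def pair (ζ : K) : QIso F where
  V := K × K
  Q := pairForm K
  y := (LinearMap.mulLeft F ζ).prodMap (LinearMap.mulLeft F ζ⁻¹)

theorem pair_ann (ζ : K) (h : F[X]) (hζ : aeval ζ h = 0) (hζ' : aeval ζ⁻¹ h = 0) :
    (pair (F := F) K ζ).Ann h := by
  unfold Ann
  show aeval ((LinearMap.mulLeft F ζ).prodMap (LinearMap.mulLeft F ζ⁻¹)) h = 0
  rw [aeval_prodMap, aeval_mulLeft, aeval_mulLeft, hζ, hζ']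
  apply LinearMap.ext
  intro v
  apply Prod.ext
  · show (0 : K) * v.1 = 0
    exact zero_mul _
  · show (0 : K) * v.2 = 0
    exact zero_mul _

theorem pair_good [Algebra.IsSeparable F K] (ζ : K) (hζ0 : ζ ≠ 0) (r : ℕ) (hζr : ζ ^ r = 1) :
    (pair (F := F) K ζ).Good r := by
  have hnd := traceForm_nondegenerate F K
  refine ⟨?_, ?_, ?_⟩
  · apply nondeg_of_left
    intro u hu
    apply Prod.ext
    · apply hnd.1
      intro z
      have h := hu (0, z)
      rw [pairForm_polar] at h
      rw [Algebra.traceForm_apply]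
      simpa using h
    · apply hnd.1
      intro z
      have h := hu (z, 0)
      rw [pairForm_polar] at h
      rw [Algebra.traceForm_apply, mul_comm]
      simpa using h
  · intro v
    show pairForm K (ζ * v.1, ζ⁻¹ * v.2) = pairForm K v
    rw [pairForm_apply, pairForm_apply]
    congr 1
    show ζ * v.1 * (ζ⁻¹ * v.2) = v.1 * v.2
    field_simp
  · show ((LinearMap.mulLeft F ζ).prodMap (LinearMap.mulLeft F ζ⁻¹)) ^ r = 1
    apply LinearMap.ext
    intro v
    have key : ∀ (c : K) (k : ℕ) (x : K), ((LinearMap.mulLeft F c) ^ k) x = c ^ k * x := by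
      intro c k
      induction k with
      | zero =>
        intro x
        rw [pow_zero, pow_zero, Module.End.one_apply, one_mul]
      | succ k ih =>
        intro x
        rw [pow_succ', Module.End.mul_apply, ih, LinearMap.mulLeft_apply, pow_succ']
        ring
    rw [Cfsg.Agent.Lib.Helper9.H9Elus.prodMap_pow']
    apply Prod.ext
    · show ((LinearMap.mulLeft F ζ) ^ r) v.1 = v.1
      rw [key, hζr, one_mul]
    · show ((LinearMap.mulLeft F ζ⁻¹) ^ r) v.2 = v.2
      rw [key, _root_.inv_pow, hζr, inv_one, one_mul]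

end QIso

end Cfsg.Agent.Lib.Helper2.OrthEl
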