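import Mathlib
import Cfsg.Agent.Lib.Helper2.OrthElM
import Cfsg.Agent.Lib.Helper2.OrthElG

set_option autoImplicit false

/-!
The field blocks realised on `AdjoinRoot g` for an irreducible factor `g` of the `r`-th cyclotomic
polynomial: existence of the pair block (dimension `2i`) and, for `i` even, of the hermitian block
(dimension `i`, annihilated by `g`).
-/

namespace Cfsg.Agent.Lib.Helper2.OrthEl

open Module QuadraticMap Polynomial
open Cfsg.Agent.Lib.Helper9.H9Elus

universe u

namespace QIso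

variable {F : Type u} [Field F] [Fintype F] {p : ℕ} [Fact p.Prime] [CharP F p]

section root

variable (r : ℕ) [Fact r.Prime] (hrp : r ≠ p) (g : F[X]) [Fact (Irreducible g)]
  (hgd : g ∣ cyclotomic r F)

include hgd in
theorem root_cyc : aeval (AdjoinRoot.root g) (cyclotomic r F) = 0 := by
  obtain ⟨k, hk⟩ := hgd
  rw [hk, map_mul, AdjoinRoot.aeval_eq, AdjoinRoot.mk_self, zero_mul]

include hgd in
theorem root_pow : (AdjoinRoot.root g) ^ r = 1 := by
  have h1 := root_cyc r g hgd
  obtain ⟨k, hk⟩ := cyclotomic.dvd_X_pow_sub_one r F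
  have h3 : aeval (AdjoinRoot.root g) (X ^ r - 1 : F[X]) = 0 := by
    rw [hk, map_mul, h1, zero_mul]
  rw [map_sub, map_pow, aeval_X, map_one] at h3
  exact sub_eq_zero.1 h3

include hrp in
theorem natCast_ne_zero_adjoin : ((r : ℕ) : AdjoinRoot g) ≠ 0 := by
  have h1 : ((r : ℕ) : AdjoinRoot g) = algebraMap F (AdjoinRoot g) ((r : ℕ) : F) := by
    rw [map_natCast]
  rw [h1]
  intro h
  have := (algebraMap F (AdjoinRoot g)).injective (h.trans (map_zero _).symm)
  exact cast_ne_zero_of_ne r hrp this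

theorem aeval_cyc_eq_sum (x : AdjoinRoot g) :
    aeval x (cyclotomic r F) = ∑ j ∈ Finset.range r, x ^ j := by
  rw [cyclotomic_prime, map_sum]
  simp only [map_pow, aeval_X]

include hrp hgd in
theorem root_ne_one : AdjoinRoot.root g ≠ 1 := by
  intro h
  have h1 := root_cyc r g hgd
  rw [h, aeval_cyc_eq_sum] at h1
  simp only [one_pow, Finset.sum_const, Finset.card_range, nsmul_eq_mul, mul_one] at h1
  exact natCast_ne_zero_adjoin r hrp g h1

include hgd in
theorem root_ne_zero : AdjoinRoot.root g ≠ 0 := by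
  intro h
  have h1 := root_pow r g hgd
  rw [h, zero_pow (Fact.out : r.Prime).ne_zero] at h1
  exact zero_ne_one h1

include hrp hgd in
theorem root_inv_cyc : aeval (AdjoinRoot.root g)⁻¹ (cyclotomic r F) = 0 := by
  rw [aeval_cyc_eq_sum]
  have h1 := geom_sum_mul (AdjoinRoot.root g)⁻¹ r
  rw [_root_.inv_pow, root_pow r g hgd, inv_one, sub_self] at h1
  rcases mul_eq_zero.1 h1 with h3 | h3
  · exact h3
  · exfalso
    apply root_ne_one r hrp g hgd
    have h4 : (AdjoinRoot.root g)⁻¹ = 1 := sub_eq_zero.1 h3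
    rw [← inv_inv (AdjoinRoot.root g), h4, inv_one]

theorem finrank_adjoin (hg0 : g ≠ 0) :
    @finrank F (AdjoinRoot g) _ _ _ = g.natDegree := by
  rw [(AdjoinRoot.powerBasis hg0).finrank, AdjoinRoot.powerBasis_dim]

end root

/-- existence of the pair block -/
theorem exists_pair (r : ℕ) [Fact r.Prime] (hrp : r ≠ p) :
    ∃ B : QIso F, B.Good r ∧ B.Ann (cyclotomic r F) ∧
      finrank F B.V = 2 * orderOf ((Fintype.card F : ℕ) : ZMod r) := by
  have hdeg : (cyclotomic r F).natDegree ≠ 0 := by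
    rw [natDegree_cyclotomic, Nat.totient_prime Fact.out]
    have := (Fact.out : r.Prime).two_le
    omega
  have hdeg' : (cyclotomic r F).degree ≠ 0 := by
    intro h
    apply hdeg
    exact natDegree_eq_of_degree_eq_some h
  obtain ⟨g, hg, hgd⟩ := exists_irreducible_of_degree_pos
    (lt_of_le_of_ne (zero_le_degree_iff.2 (cyclotomic_ne_zero r F)) (Ne.symm hdeg'))
  haveI : Fact (Irreducible g) := ⟨hg⟩
  haveI : FiniteDimensional F (AdjoinRoot g) := (AdjoinRoot.powerBasis hg.ne_zero).finite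
  refine ⟨pair (AdjoinRoot g) (AdjoinRoot.root g),
    pair_good _ (root_ne_zero r g hgd) r (root_pow r g hgd),
    pair_ann _ _ (root_cyc r g hgd) (root_inv_cyc r hrp g hgd), ?_⟩
  show finrank F (AdjoinRoot g × AdjoinRoot g) = _
  rw [Module.finrank_prod, finrank_adjoin g hg.ne_zero, natDegree_of_dvd_cyclotomic r hrp g hg hgd]
  ring

/-- `q^(i/2) ≡ -1 (mod r)` for `i` even -/
theorem dvd_pow_half_add_one (r : ℕ) [Fact r.Prime] (hrp : r ≠ p) (k : ℕ)
    (hk : orderOf ((Fintype.card F : ℕ) : ZMod r) = 2 * k) : r ∣ Fintype.card F ^ k + 1 := by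
  have hi1 : 1 ≤ orderOf ((Fintype.card F : ℕ) : ZMod r) := order_pos r hrp
  have h1 : (((Fintype.card F : ℕ) : ZMod r) ^ k) ^ 2 = 1 := by
    rw [← pow_mul, mul_comm, ← hk]
    exact pow_orderOf_eq_one _
  have h3 : ((Fintype.card F : ℕ) : ZMod r) ^ k ≠ 1 := by
    intro h
    have := orderOf_dvd_of_pow_eq_one h
    rw [hk] at this
    have := Nat.le_of_dvd (by omega) this
    omega
  have h4 : (((Fintype.card F : ℕ) : ZMod r) ^ k - 1) * (((Fintype.card F : ℕ) : ZMod r) ^ k + 1) = 0 := by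
    linear_combination h1
  rcases mul_eq_zero.1 h4 with h5 | h5
  · exact absurd (sub_eq_zero.1 h5) h3
  · rw [← ZMod.natCast_eq_zero_iff]
    push_cast
    exact h5

/-- existence of the hermitian block for `i` even -/
theorem exists_herm (hodd : Odd (Fintype.card F)) (r : ℕ) [Fact r.Prime] (hrp : r ≠ p)
    (g : F[X]) (hg : Irreducible g) (hgd : g ∣ cyclotomic r F)
    (hev : Even (orderOf ((Fintype.card F : ℕ) : ZMod r))) :
    ∃ B : QIso F, B.Good r ∧ B.Ann g ∧
      finrank F B.V = orderOf ((Fintype.card F : ℕ) : ZMod r) := by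
  have h2 : (2 : F) ≠ 0 := two_ne_zero_of_odd_card hodd
  haveI : Fact (Irreducible g) := ⟨hg⟩
  haveI : FiniteDimensional F (AdjoinRoot g) := (AdjoinRoot.powerBasis hg.ne_zero).finite
  haveI : Finite (AdjoinRoot g) := Module.finite_of_finite F
  haveI : Fintype (AdjoinRoot g) := Fintype.ofFinite _
  obtain ⟨k, hk⟩ := hev
  have hk' : orderOf ((Fintype.card F : ℕ) : ZMod r) = 2 * k := by omega
  have hfr : finrank F (AdjoinRoot g) = orderOf ((Fintype.card F : ℕ) : ZMod r) := by
    rw [finrank_adjoin g hg.ne_zero, natDegree_of_dvd_cyclotomic r hrp g hg hgd]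
  set σ : AdjoinRoot g →ₐ[F] AdjoinRoot g := (FiniteField.frobeniusAlgHom F (AdjoinRoot g)) ^ k
    with hσdef
  have hσapply : ∀ u, σ u = u ^ (Fintype.card F ^ k) := by
    intro u
    rw [hσdef, AlgHom.coe_pow, FiniteField.coe_frobeniusAlgHom, pow_iterate]
  have hcardK : Fintype.card (AdjoinRoot g) = Fintype.card F ^ k * Fintype.card F ^ k := by
    rw [Module.card_eq_pow_finrank (K := F) (V := AdjoinRoot g), hfr, hk, pow_add]
  have hσ : ∀ u, σ (σ u) = u := by
    intro u
    rw [hσapply, hσapply, ← pow_mul, ← hcardK, FiniteField.pow_card]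
  have hσζ : σ (AdjoinRoot.root g) * AdjoinRoot.root g = 1 := by
    rw [hσapply, ← pow_succ]
    obtain ⟨m, hm⟩ := dvd_pow_half_add_one (F := F) r hrp k hk'
    rw [hm, pow_mul, root_pow r g hgd, one_pow]
  refine ⟨herm (AdjoinRoot g) σ (AdjoinRoot.root g),
    herm_good h2 σ hσ _ hσζ r (root_pow r g hgd), herm_ann σ _ g ?_, hfr⟩
  rw [AdjoinRoot.aeval_eq, AdjoinRoot.mk_self]

end QIso

end Cfsg.Agent.Lib.Helper2.OrthEl
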