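import Mathlib
import Cfsg.Agent.Lib.Helper2.OrthElN

set_option autoImplicit false

/-!
Model spaces: for `i` odd or even, a space `E₀ ⊥ Rest` with prescribed fixed dimension; for `i`
even the refined model whose fixed-point-free part is a sum of pairwise non-isomorphic irreducible
blocks and a homogeneous part.
-/

namespace Cfsg.Agent.Lib.Helper2.OrthEl

open Module QuadraticMap Polynomial
open Cfsg.Agent.Lib.Helper9.H9Elus

universe u

namespace QIso

variable {F : Type u} [Field F] [Fintype F] {p : ℕ} [Fact p.Prime] [CharP F p]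

/-- the distinct normalized irreducible factors of the cyclotomic polynomial -/
theorem exists_factors (r : ℕ) [Fact r.Prime] (hrp : r ≠ p) :
    ∃ S : Finset F[X], (∀ g ∈ S, Irreducible g ∧ g ∣ cyclotomic r F ∧ g.Monic) ∧
      S.card * orderOf ((Fintype.card F : ℕ) : ZMod r) = r - 1 := by
  classical
  haveI : NeZero ((r : ℕ) : F) := ⟨cast_ne_zero_of_ne r hrp⟩
  have hne : cyclotomic r F ≠ 0 := cyclotomic_ne_zero r F
  set m := UniqueFactorizationMonoid.normalizedFactors (cyclotomic r F) with hm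
  have hirr : ∀ g ∈ m, Irreducible g :=
    fun g hg => UniqueFactorizationMonoid.irreducible_of_normalized_factor g hg
  have hdvd : ∀ g ∈ m, g ∣ cyclotomic r F :=
    fun g hg => UniqueFactorizationMonoid.dvd_of_mem_normalizedFactors hg
  have hnodup : m.Nodup :=
    (UniqueFactorizationMonoid.squarefree_iff_nodup_normalizedFactors hne).1
      (separable_cyclotomic r F).squarefree
  refine ⟨m.toFinset, ?_, ?_⟩
  · intro g hg
    rw [Multiset.mem_toFinset] at hg
    refine ⟨hirr g hg, hdvd g hg, ?_⟩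
    have h1 := UniqueFactorizationMonoid.normalize_normalized_factor g hg
    rw [← h1]
    exact Polynomial.monic_normalize (hirr g hg).ne_zero
  · rw [Multiset.toFinset_card_of_nodup hnodup]
    have h1 := UniqueFactorizationMonoid.prod_normalizedFactors hne
    have h3 : m.prod.natDegree = (cyclotomic r F).natDegree :=
      natDegree_eq_of_degree_eq (degree_eq_degree_of_associated h1)
    have h0 : (0 : F[X]) ∉ m := fun h => (hirr 0 h).ne_zero rfl
    rw [natDegree_multiset_prod m h0, natDegree_cyclotomic, Nat.totient_prime Fact.out] at h3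
    rw [← h3]
    have h4 : Multiset.map natDegree m =
        Multiset.map (fun _ => orderOf ((Fintype.card F : ℕ) : ZMod r)) m := by
      apply Multiset.map_congr rfl
      intro g hg
      exact natDegree_of_dvd_cyclotomic r hrp g (hirr g hg) (hdvd g hg)
    rw [h4, Multiset.map_const', Multiset.sum_replicate, smul_eq_mul]

theorem isCoprime_of_ne {g g' : F[X]} (hg : Irreducible g) (hg' : Irreducible g')
    (hn : g.Monic) (hn' : g'.Monic) (hne : g' ≠ g) : IsCoprime g' g := by
  rw [hg'.coprime_iff_not_dvd]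
  intro hd
  have ha := hg'.associated_of_dvd hg hd
  exact hne (Polynomial.eq_of_monic_of_associated hn' hn ha)

/-- a sum of pairwise non-isomorphic irreducible (hermitian) blocks has no nonzero invariant
totally singular subspace -/
theorem exists_singletons (hodd : Odd (Fintype.card F)) (r : ℕ) [Fact r.Prime] (hrp : r ≠ p)
    (hev : Even (orderOf ((Fintype.card F : ℕ) : ZMod r))) (S : Finset F[X])
    (hS : ∀ g ∈ S, Irreducible g ∧ g ∣ cyclotomic r F ∧ g.Monic) :
    ∃ B : QIso F, B.Good r ∧ B.Ann (∏ g ∈ S, g) ∧ B.Ann (cyclotomic r F) ∧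
      finrank F B.V = orderOf ((Fintype.card F : ℕ) : ZMod r) * S.card ∧
      ∀ n ∈ B.TSset, n = 0 := by
  classical
  have hi1 : 1 ≤ orderOf ((Fintype.card F : ℕ) : ZMod r) := order_pos r hrp
  induction S using Finset.induction_on with
  | empty =>
    refine ⟨triv F, triv_good r, triv_ann _, triv_ann _, ?_, ?_⟩
    · rw [triv_finrank, Finset.card_empty, mul_zero]
    · rintro n ⟨T, -, -, rfl⟩
      have := Submodule.finrank_le T
      rw [triv_finrank] at this
      omega
  | insert g S hgS ih =>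
    obtain ⟨B, hB, hBann, hBcyc, hBdim, hBts⟩ := ih (fun g' hg' => hS g' (Finset.mem_insert_of_mem hg'))
    obtain ⟨hgirr, hgd, hgn⟩ := hS g (Finset.mem_insert_self g S)
    obtain ⟨H, hH, hHann, hHdim⟩ := exists_herm hodd r hrp g hgirr hgd hev
    have hHcyc : H.Ann (cyclotomic r F) := ann_of_dvd hHann hgd
    refine ⟨B.prod H, prod_good hB hH, ?_, prod_ann_same hBcyc hHcyc, ?_, ?_⟩
    · rw [Finset.prod_insert hgS, mul_comm]
      exact prod_ann hBann hHann
    · rw [finrank_prod, hBdim, hHdim, Finset.card_insert_of_notMem hgS]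
      ring
    · intro n hn
      have hcop : IsCoprime (∏ g' ∈ S, g') g := by
        apply IsCoprime.prod_left
        intro g' hg'
        obtain ⟨h1, -, h3⟩ := hS g' (Finset.mem_insert_of_mem hg')
        apply isCoprime_of_ne hgirr h1 hgn h3
        rintro rfl
        exact hgS hg'
      obtain ⟨n₁, hn₁, n₂, hn₂, rfl⟩ := TSset_prod hBann hHann hcop hn
      have e1 := hBts n₁ hn₁
      obtain ⟨⟨c, hc⟩, hle⟩ := TSset_free r hrp hH hHcyc hn₂
      rw [hHdim] at hle
      have e2 : n₂ = 0 := by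
        rcases Nat.eq_zero_or_pos c with h0 | h0
        · rw [hc, h0, mul_zero]
        · exfalso
          have : orderOf ((Fintype.card F : ℕ) : ZMod r) ≤ n₂ := by
            rw [hc]
            exact Nat.le_mul_of_pos_right _ h0
          omega
      rw [e1, e2]

/-- the model with fixed part of dimension `e₀` and `N'` pair blocks -/
theorem exists_model_pair (hodd : Odd (Fintype.card F)) (r : ℕ) [Fact r.Prime] (hrp : r ≠ p)
    (e₀ N' : ℕ) :
    ∃ M : QIso F, M.Good r ∧
      finrank F M.V = e₀ + 2 * orderOf ((Fintype.card F : ℕ) : ZMod r) * N' ∧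
      (0 < N' → M.y ≠ 1) ∧
      ∀ n ∈ M.TSset, ∃ a b, n = a + orderOf ((Fintype.card F : ℕ) : ZMod r) * b ∧ 2 * a ≤ e₀ := by
  have h2 : (2 : F) ≠ 0 := two_ne_zero_of_odd_card hodd
  have hi1 : 1 ≤ orderOf ((Fintype.card F : ℕ) : ZMod r) := order_pos r hrp
  obtain ⟨P, hP, hPann, hPdim⟩ := exists_pair (F := F) r hrp
  obtain ⟨R, hR, hRann, hRdim⟩ := exists_pow P hP hPann N'
  obtain ⟨M, hM, hMdim, hMne, hMts⟩ := exists_core h2 r hrp e₀ R hR hRann
  refine ⟨M, hM, ?_, ?_, ?_⟩
  · rw [hMdim, hRdim, hPdim]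
    ring
  · intro hN
    apply hMne
    rw [hRdim, hPdim]
    positivity
  · intro n hn
    obtain ⟨a, n₂, hn₂, rfl, ha⟩ := hMts n hn
    obtain ⟨⟨b, hb⟩, -⟩ := TSset_free r hrp hR hRann hn₂
    exact ⟨a, b, by rw [hb], ha⟩

/-- the refined model for `i` even -/
theorem exists_model_even (hodd : Odd (Fintype.card F)) (r : ℕ) [Fact r.Prime] (hrp : r ≠ p)
    (hev : Even (orderOf ((Fintype.card F : ℕ) : ZMod r))) (e₀ A : ℕ) :
    ∃ M : QIso F, M.Good r ∧
      finrank F M.V = e₀ + orderOf ((Fintype.card F : ℕ) : ZMod r) * A ∧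
      (0 < A → M.y ≠ 1) ∧
      ∀ n ∈ M.TSset, ∃ a b, n = a + orderOf ((Fintype.card F : ℕ) : ZMod r) * b ∧ 2 * a ≤ e₀ ∧
        (b = 0 ∨ (r - 1) / orderOf ((Fintype.card F : ℕ) : ZMod r) + 2 * b ≤ A + 1) := by
  classical
  have h2 : (2 : F) ≠ 0 := two_ne_zero_of_odd_card hodd
  have hi1 : 1 ≤ orderOf ((Fintype.card F : ℕ) : ZMod r) := order_pos r hrp
  obtain ⟨S₀, hS₀, hcard⟩ := exists_factors (F := F) r hrp
  set i := orderOf ((Fintype.card F : ℕ) : ZMod r) with hi
  have ht : (r - 1) / i = S₀.card := by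
    rw [← hcard]
    exact Nat.mul_div_cancel _ (by omega)
  rw [ht]
  by_cases hA : A + 1 ≤ S₀.card
  · -- `A` pairwise distinct blocks
    obtain ⟨S, hSS₀, hScard⟩ := Finset.exists_subset_card_eq (show A ≤ S₀.card by omega)
    obtain ⟨B, hB, -, hBcyc, hBdim, hBts⟩ := exists_singletons hodd r hrp hev S
      (fun g hg => hS₀ g (hSS₀ hg))
    obtain ⟨M, hM, hMdim, hMne, hMts⟩ := exists_core h2 r hrp e₀ B hB hBcyc
    rw [← hi] at hBdim
    refine ⟨M, hM, ?_, ?_, ?_⟩
    · rw [hMdim, hBdim, hScard]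
    · intro hpos
      apply hMne
      rw [hBdim, hScard]
      positivity
    · intro n hn
      obtain ⟨a, n₂, hn₂, rfl, ha⟩ := hMts n hn
      refine ⟨a, 0, ?_, ha, Or.inl rfl⟩
      rw [hBts n₂ hn₂, mul_zero]
  · -- `t - 1` distinct blocks and a homogeneous part
    have hpos : 0 < S₀.card := by
      rcases Nat.eq_zero_or_pos S₀.card with h0 | h0
      · exfalso
        rw [h0, zero_mul] at hcard
        have := (Fact.out : r.Prime).two_le
        omega
      · exact h0
    obtain ⟨gR, hgR⟩ := Finset.card_pos.1 hpos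
    obtain ⟨hgRirr, hgRd, hgRn⟩ := hS₀ gR hgR
    obtain ⟨B, hB, hBann, hBcyc, hBdim, hBts⟩ := exists_singletons hodd r hrp hev (S₀.erase gR)
      (fun g hg => hS₀ g (Finset.mem_of_mem_erase hg))
    obtain ⟨H, hH, hHann, hHdim⟩ := exists_herm hodd r hrp gR hgRirr hgRd hev
    obtain ⟨R, hR, hRann, hRdim⟩ := exists_pow H hH hHann (A + 1 - S₀.card)
    have hRcyc : R.Ann (cyclotomic r F) := ann_of_dvd hRann hgRd
    obtain ⟨M, hM, hMdim, hMne, hMts⟩ := exists_core h2 r hrp e₀ (B.prod R) (prod_good hB hR)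
      (prod_ann_same hBcyc hRcyc)
    rw [← hi] at hBdim hHdim
    have hdimBR : finrank F (B.prod R).V = i * A := by
      rw [finrank_prod, hBdim, hRdim, hHdim, Finset.card_erase_of_mem hgR]
      have : S₀.card - 1 + (A + 1 - S₀.card) = A := by omega
      rw [mul_comm (A + 1 - S₀.card) i, ← mul_add, this]
    refine ⟨M, hM, ?_, ?_, ?_⟩
    · rw [hMdim, hdimBR]
    · intro hApos
      apply hMne
      rw [hdimBR]
      positivity
    · intro n hn
      obtain ⟨a, n₂, hn₂, rfl, ha⟩ := hMts n hn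
      have hcop : IsCoprime (∏ g' ∈ S₀.erase gR, g') gR := by
        apply IsCoprime.prod_left
        intro g' hg'
        obtain ⟨h1, -, h3⟩ := hS₀ g' (Finset.mem_of_mem_erase hg')
        exact isCoprime_of_ne hgRirr h1 hgRn h3 (Finset.ne_of_mem_erase hg')
      obtain ⟨n₁, hn₁, n₃, hn₃, rfl⟩ := TSset_prod hBann hRann hcop hn₂
      obtain ⟨⟨b, hb⟩, hle⟩ := TSset_free r hrp hR hRcyc hn₃
      rw [← hi] at hb
      rw [hRdim, hHdim, hb] at hle
      refine ⟨a, b, ?_, ha, Or.inr ?_⟩
      · rw [hBts n₁ hn₁, zero_add, hb]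
      · have h5 : i * (2 * b) ≤ i * (A + 1 - S₀.card) := by
          calc i * (2 * b) = 2 * (i * b) := by ring
            _ ≤ (A + 1 - S₀.card) * i := hle
            _ = i * (A + 1 - S₀.card) := by ring
        have h6 := Nat.le_of_mul_le_mul_left h5 (by omega)
        omega

end QIso

end Cfsg.Agent.Lib.Helper2.OrthEl
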