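import Mathlib
import Cfsg.Agent.Lib.Helper2.OrthElO
import Cfsg.Agent.Lib.Helper2.Spinor6

set_option autoImplicit false

/-!
Transport of a model space to an element of `omegaGL (quadFormOdd d F)`.
-/

namespace Cfsg.Agent.Lib.Helper2.OrthEl

open Module QuadraticMap Polynomial
open scoped Matrix
open Cfsg.Agent.Lib.Helper2.MaxTS2
open Cfsg.Agent.H9SemiInv
open Cfsg.Agent.Lib.Helper2.OrthCard

section comm

variable {F : Type*} [Field F] [Fintype F] {ι : Type} [Fintype ι] [DecidableEq ι]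

/-- elements of odd order of the isometry group lie in its commutator subgroup -/
theorem mem_commutator_of_odd_order (h2 : (2 : F) ≠ 0) (Q : QuadraticForm F (ι → F))
    (hQ : (polarBilin Q).Nondegenerate) (hn : 2 ≤ Fintype.card ι)
    (g : ↥(Cfsg.isometryGroup F ⇑Q)) (k : ℕ) (hg : g ^ (2 * k + 1) = 1) :
    g ∈ commutator ↥(Cfsg.isometryGroup F ⇑Q) := by
  classical
  obtain ⟨f, hsurj, -, hsq⟩ := Spinor.exists_ab_structure h2 hQ hn
  have hall : ∀ a : Abelianization ↥(Cfsg.isometryGroup F ⇑Q), a * a = 1 := by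
    intro a
    obtain ⟨b, rfl⟩ := hsurj a
    exact hsq b
  have h1 : (Abelianization.of g) ^ (2 * k + 1) = 1 := by
    rw [← map_pow, hg, map_one]
  have h3 : Abelianization.of g = 1 := by
    rw [pow_succ, pow_mul, pow_two, hall, one_pow, one_mul] at h1
    exact h1
  exact (QuotientGroup.eq_one_iff g).1 h3

theorem mem_omegaGL_of_odd_order (h2 : (2 : F) ≠ 0) (Q : QuadraticForm F (ι → F))
    (Q₀ : (ι → F) → F) (hQ₀ : ⇑Q = Q₀)
    (hQ : (polarBilin Q).Nondegenerate) (hn : 2 ≤ Fintype.card ι)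
    (x : Matrix.GeneralLinearGroup ι F) (hx : x ∈ Cfsg.isometryGroup F Q₀) (k : ℕ)
    (hxk : x ^ (2 * k + 1) = 1) : x ∈ Cfsg.Geo.omegaGL Q₀ := by
  subst hQ₀
  refine Subgroup.mem_map.2 ⟨⟨x, hx⟩, ?_, rfl⟩
  apply mem_commutator_of_odd_order h2 Q hQ hn _ k
  apply Subtype.ext
  rw [SubmonoidClass.coe_pow]
  exact hxk

end comm

section transport

universe u

variable {F : Type u} [Field F] [Fintype F]

/-- a model space of dimension `2d+1` with an isometry of odd prime order gives an element of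
`Ω` of that order whose invariant totally singular subspaces come from the model -/
theorem exists_omega_of_model (hodd : Odd (Fintype.card F)) (d : ℕ) (hd : 1 ≤ d) (r : ℕ)
    (hr : r.Prime) (hr2 : r ≠ 2) (M : QIso F) (hM : M.Good r)
    (hdim : finrank F M.V = 2 * d + 1) (hne : M.y ≠ 1) :
    ∃ x : Matrix.GeneralLinearGroup (Unit ⊕ (Fin d ⊕ Fin d)) F,
      x ∈ Cfsg.Geo.omegaGL (Cfsg.quadFormOdd d F) ∧ orderOf x = r ∧
      ∀ W : Submodule F (Unit ⊕ (Fin d ⊕ Fin d) → F),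
        (∀ w ∈ W, Cfsg.quadFormOdd d F w = 0) →
        W.map (Matrix.toLin' (x : Matrix (Unit ⊕ (Fin d ⊕ Fin d)) (Unit ⊕ (Fin d ⊕ Fin d)) F)) ≤ W →
        finrank F W ∈ M.TSset := by
  classical
  have h2 : (2 : F) ≠ 0 := two_ne_zero_of_odd_card hodd
  obtain ⟨c, e, hc, he⟩ := exists_similarity_odd h2 hM.1 d hdim
  have hr1 : 1 ≤ r := hr.one_lt.le
  -- the conjugated map
  set y' : (Unit ⊕ (Fin d ⊕ Fin d) → F) →ₗ[F] (Unit ⊕ (Fin d ⊕ Fin d) → F) :=
    e.toLinearMap ∘ₗ M.y ∘ₗ e.symm.toLinearMap with hy'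
  have hy'app : ∀ u, y' u = e (M.y (e.symm u)) := fun u => rfl
  have hy'pow : ∀ k : ℕ, ∀ u, (y' ^ k) u = e ((M.y ^ k) (e.symm u)) := by
    intro k
    induction k with
    | zero =>
      intro u
      rw [pow_zero, pow_zero, Module.End.one_apply, Module.End.one_apply,
        LinearEquiv.apply_symm_apply]
    | succ k ih =>
      intro u
      rw [pow_succ, Module.End.mul_apply, ih, hy'app, LinearEquiv.symm_apply_apply, pow_succ,
        Module.End.mul_apply]
  have hy'r : y' ^ r = 1 := by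
    apply LinearMap.ext
    intro u
    rw [hy'pow, hM.2.2, Module.End.one_apply, Module.End.one_apply, LinearEquiv.apply_symm_apply]
  have hmul1 : LinearMap.toMatrix' y' * LinearMap.toMatrix' (y' ^ (r - 1)) = 1 := by
    rw [← LinearMap.toMatrix'_mul, ← pow_succ', Nat.sub_add_cancel hr1, hy'r,
      LinearMap.toMatrix'_one]
  have hmul2 : LinearMap.toMatrix' (y' ^ (r - 1)) * LinearMap.toMatrix' y' = 1 := by
    rw [← LinearMap.toMatrix'_mul, ← pow_succ, Nat.sub_add_cancel hr1, hy'r,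
      LinearMap.toMatrix'_one]
  let x : Matrix.GeneralLinearGroup (Unit ⊕ (Fin d ⊕ Fin d)) F :=
    ⟨LinearMap.toMatrix' y', LinearMap.toMatrix' (y' ^ (r - 1)), hmul1, hmul2⟩
  have hxlin : Matrix.toLin' (x : Matrix (Unit ⊕ (Fin d ⊕ Fin d)) (Unit ⊕ (Fin d ⊕ Fin d)) F) = y' :=
    Matrix.toLin'_toMatrix' y'
  have hxmul : ∀ u, (x : Matrix (Unit ⊕ (Fin d ⊕ Fin d)) (Unit ⊕ (Fin d ⊕ Fin d)) F) *ᵥ u = y' u := by
    intro u
    rw [← Matrix.toLin'_apply, hxlin]
  have hxiso : x ∈ Cfsg.isometryGroup F (Cfsg.quadFormOdd d F) := by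
    intro u _
    show Cfsg.quadFormOdd d F ((x : Matrix _ _ F) *ᵥ u) = Cfsg.quadFormOdd d F u
    rw [hxmul, hy'app, he, hM.2.1, ← he, LinearEquiv.apply_symm_apply]
  have hxr : x ^ r = 1 := by
    apply Units.ext
    rw [Units.val_pow_eq_pow_val, Units.val_one]
    show (LinearMap.toMatrix' y') ^ r = 1
    apply Matrix.toLin'.injective
    rw [Matrix.toLin'_pow, Matrix.toLin'_toMatrix', hy'r, Matrix.toLin'_one]
    rfl
  have hx1 : x ≠ 1 := by
    intro h
    apply hne
    have h3 : y' = 1 := by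
      rw [← hxlin, h, Units.val_one, Matrix.toLin'_one]
      rfl
    apply LinearMap.ext
    intro v
    have := congrArg (fun f : (Unit ⊕ (Fin d ⊕ Fin d) → F) →ₗ[F] (Unit ⊕ (Fin d ⊕ Fin d) → F) =>
      e.symm (f (e v))) h3
    simp only [hy'app, LinearEquiv.symm_apply_apply, Module.End.one_apply] at this
    rw [this, Module.End.one_apply]
  obtain ⟨k, hk⟩ : ∃ k, r = 2 * k + 1 := by
    rcases hr.eq_two_or_odd with h6 | h6
    · exact absurd h6 hr2
    · exact ⟨r / 2, by omega⟩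
  have hcard : 2 ≤ Fintype.card (Unit ⊕ (Fin d ⊕ Fin d)) := by
    simp only [Fintype.card_sum, Fintype.card_unit, Fintype.card_fin]
    omega
  refine ⟨x, ?_, ?_, ?_⟩
  · exact mem_omegaGL_of_odd_order h2 (QOd d F) _ (QOd_coe d) (QOd_nondeg h2 d) hcard x hxiso k
      (by rw [← hk]; exact hxr)
  · haveI : Fact r.Prime := ⟨hr⟩
    exact orderOf_eq_prime hxr hx1
  · intro W hW hWinv
    rw [hxlin] at hWinv
    refine ⟨W.map e.symm.toLinearMap, ?_, ?_, ?_⟩
    · rintro _ ⟨w, hw, rfl⟩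
      refine ⟨y' w, hWinv ⟨w, hw, rfl⟩, ?_⟩
      show e.symm (y' w) = M.y (e.symm w)
      rw [hy'app, LinearEquiv.symm_apply_apply]
    · rintro _ ⟨w, hw, rfl⟩
      have h3 := he (e.symm w)
      rw [LinearEquiv.apply_symm_apply, hW w hw] at h3
      rcases mul_eq_zero.1 h3.symm with h4 | h4
      · exact absurd h4 hc
      · exact h4
    · exact LinearEquiv.finrank_map_eq e.symm W

end transport

end Cfsg.Agent.Lib.Helper2.OrthEl
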