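import Mathlib
import Cfsg.Agent.Lib.Helper2.OrthElC

set_option autoImplicit false

/-!
Isometric involutions of a nondegenerate quadratic space in odd characteristic: the eigenspaces
are orthogonal, nondegenerate and complementary; invariant totally singular subspaces.
-/

namespace Cfsg.Agent.Lib.Helper2.OrthEl

open Module QuadraticMap Polynomial
open Cfsg.Agent.Lib.Helper2.MaxTS2
open Cfsg.Agent.H9SemiInv

variable {F V : Type*} [Field F] [AddCommGroup V] [Module F V]
variable {Q : QuadraticForm F V} {y : V →ₗ[F] V}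

variable (y) in
/-- the `-1`-eigenspace -/
def negS : Submodule F V := LinearMap.ker (y + 1)

theorem mem_negS (v : V) : v ∈ negS y ↔ y v = -v := by
  unfold negS
  rw [LinearMap.mem_ker, LinearMap.add_apply, Module.End.one_apply, add_eq_zero_iff_eq_neg]

theorem sq_apply (hy : y ^ 2 = 1) (v : V) : y (y v) = v := by
  have := congrArg (fun f : V →ₗ[F] V => f v) hy
  simpa [pow_two] using this

theorem polar_fix_neg (h2 : (2 : F) ≠ 0) (hiso : ∀ v, Q (y v) = Q v) {u w : V} (hu : u ∈ fixS y)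
    (hw : w ∈ negS y) : polar (⇑Q) u w = 0 := by
  rw [mem_fixS] at hu
  rw [mem_negS] at hw
  have h1 := iso_polar hiso u w
  rw [hu, hw, polar_neg_right] at h1
  have h3 : (2 : F) * polar (⇑Q) u w = 0 := by
    rw [two_mul]
    nth_rewrite 1 [← h1]
    exact neg_add_cancel _
  rcases mul_eq_zero.1 h3 with h4 | h4
  · exact absurd h4 h2
  · exact h4

theorem isCompl_fix_neg (h2 : (2 : F) ≠ 0) (hy : y ^ 2 = 1) : IsCompl (fixS y) (negS y) := by
  constructor
  · rw [Submodule.disjoint_def]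
    intro v h1 h3
    rw [mem_fixS] at h1
    rw [mem_negS] at h3
    have h4 : (2 : F) • v = 0 := by
      rw [two_smul]
      nth_rewrite 1 [← h1]
      rw [h3]
      exact neg_add_cancel _
    rcases smul_eq_zero.1 h4 with h5 | h5
    · exact absurd h5 h2
    · exact h5
  · rw [codisjoint_iff, eq_top_iff]
    intro v _
    have e : v = (2 : F)⁻¹ • (v + y v) + (2 : F)⁻¹ • (v - y v) := by
      rw [← smul_add]
      have : v + y v + (v - y v) = (2 : F) • v := by
        rw [two_smul]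
        abel
      rw [this, smul_smul, inv_mul_cancel₀ h2, one_smul]
    rw [e]
    apply Submodule.add_mem_sup
    · apply Submodule.smul_mem
      rw [mem_fixS, map_add, sq_apply hy, add_comm]
    · apply Submodule.smul_mem
      rw [mem_negS, map_sub, sq_apply hy]
      abel

theorem inv_of_le_fix {T : Submodule F V} (hT : T ≤ fixS y) : Inv y T := by
  intro x hx
  rw [(mem_fixS x).1 (hT hx)]
  exact hx

theorem inv_of_le_neg {T : Submodule F V} (hT : T ≤ negS y) : Inv y T := by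
  intro x hx
  rw [(mem_negS x).1 (hT hx)]
  exact T.neg_mem hx

variable [FiniteDimensional F V]

theorem negS_eq_perp (h2 : (2 : F) ≠ 0) (hQ : (polarBilin Q).Nondegenerate)
    (hiso : ∀ v, Q (y v) = Q v) (hy : y ^ 2 = 1) : negS y = perp Q (fixS y) := by
  have hc := isCompl_fix_neg (y := y) h2 hy
  apply Submodule.eq_of_le_of_finrank_eq
  · intro w hw
    rw [mem_perp_iff]
    intro u hu
    exact polar_fix_neg h2 hiso hu hw
  · have h1 : finrank F (fixS y) + finrank F (negS y) = finrank F V :=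
      Submodule.finrank_add_eq_of_isCompl hc
    have h3 := finrank_perp_add hQ (fixS y)
    omega

theorem ndeg_fixS_inv (h2 : (2 : F) ≠ 0) (hQ : (polarBilin Q).Nondegenerate)
    (hiso : ∀ v, Q (y v) = Q v) (hy : y ^ 2 = 1) : NDeg Q (fixS y) := by
  unfold NDeg
  rw [← negS_eq_perp h2 hQ hiso hy]
  exact (isCompl_fix_neg h2 hy).disjoint

theorem ndeg_negS (h2 : (2 : F) ≠ 0) (hQ : (polarBilin Q).Nondegenerate)
    (hiso : ∀ v, Q (y v) = Q v) (hy : y ^ 2 = 1) : NDeg Q (negS y) := by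
  rw [negS_eq_perp h2 hQ hiso hy]
  exact (ndeg_fixS_inv h2 hQ hiso hy).perp hQ

/-- joining totally singular subspaces of the two eigenspaces -/
theorem exists_inv_isTS_of_parts (h2 : (2 : F) ≠ 0) (hQ : (polarBilin Q).Nondegenerate)
    (hiso : ∀ v, Q (y v) = Q v) (hy : y ^ 2 = 1) {T₁ T₂ : Submodule F V} (h1 : T₁ ≤ fixS y)
    (h3 : T₂ ≤ negS y) (hT₁ : IsTS Q T₁) (hT₂ : IsTS Q T₂) :
    Inv y (T₁ ⊔ T₂) ∧ IsTS Q (T₁ ⊔ T₂) ∧
      finrank F ↥(T₁ ⊔ T₂) = finrank F T₁ + finrank F T₂ := by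
  refine ⟨(inv_of_le_fix h1).sup (inv_of_le_neg h3), ?_, ?_⟩
  · apply isTS_sup hT₁ hT₂
    apply le_perp_comm
    refine h3.trans ?_
    rw [negS_eq_perp h2 hQ hiso hy]
    exact LinearMap.BilinForm.orthogonal_le h1
  · exact finrank_sup_of_disjoint ((isCompl_fix_neg h2 hy).disjoint.mono h1 h3)

/-- an isometric involution of a space of dimension `2d+1` over a finite field fixes totally
singular subspaces of every dimension `m < d` -/
theorem exists_inv_isTS_involution [Finite F] (h2 : (2 : F) ≠ 0)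
    (hQ : (polarBilin Q).Nondegenerate) (hiso : ∀ v, Q (y v) = Q v) (hy : y ^ 2 = 1) (d m : ℕ)
    (hdim : finrank F V = 2 * d + 1) (hmd : m < d) :
    ∃ W : Submodule F V, Inv y W ∧ IsTS Q W ∧ finrank F W = m := by
  have hc := isCompl_fix_neg (y := y) h2 hy
  have hsum : finrank F (fixS y) + finrank F (negS y) = 2 * d + 1 := by
    rw [← hdim]
    exact Submodule.finrank_add_eq_of_isCompl hc
  have hnd₁ := ndeg_fixS_inv h2 hQ hiso hy
  have hnd₂ := ndeg_negS h2 hQ hiso hy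
  -- choose the dimensions
  obtain ⟨a₁, a₂, hsum', ha₁, ha₂⟩ : ∃ a₁ a₂, a₁ + a₂ = m ∧
      (a₁ = 0 ∨ 2 * a₁ + 1 ≤ finrank F (fixS y)) ∧ (a₂ = 0 ∨ 2 * a₂ + 1 ≤ finrank F (negS y)) := by
    refine ⟨min m ((finrank F (fixS y) - 1) / 2), m - min m ((finrank F (fixS y) - 1) / 2), ?_, ?_, ?_⟩
    · omega
    · omega
    · omega
  have hT : ∀ (M : Submodule F V), NDeg Q M → ∀ a, (a = 0 ∨ 2 * a + 1 ≤ finrank F M) →
      ∃ T : Submodule F V, T ≤ M ∧ IsTS Q T ∧ finrank F T = a := by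
    intro M hM a ha
    rcases ha with ha | ha
    · refine ⟨⊥, bot_le, ?_, by rw [finrank_bot, ha]⟩
      intro x hx
      rw [Submodule.mem_bot] at hx
      rw [hx, map_zero]
    · exact exists_isTS_of_ndeg hM a ha
  obtain ⟨T₁, hT₁le, hT₁, hT₁a⟩ := hT _ hnd₁ a₁ ha₁
  obtain ⟨T₂, hT₂le, hT₂, hT₂a⟩ := hT _ hnd₂ a₂ ha₂
  obtain ⟨hinv, hts, hfr⟩ := exists_inv_isTS_of_parts h2 hQ hiso hy hT₁le hT₂le hT₁ hT₂
  exact ⟨T₁ ⊔ T₂, hinv, hts, by rw [hfr, hT₁a, hT₂a, hsum']⟩

end Cfsg.Agent.Lib.Helper2.OrthEl
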