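import Mathlib

set_option autoImplicit false

namespace Cfsg.Agent.Lib.Helper2

namespace MaxTS2

variable {F : Type*} [Field F] {ι : Type*} [Fintype ι] [DecidableEq ι]

/-- the coordinate subspace of vectors vanishing on `S` -/
def coordSub (F : Type*) [Field F] {ι : Type*} (S : Set ι) : Submodule F (ι → F) where
  carrier := {v | ∀ j ∈ S, v j = 0}
  add_mem' := by
    intro u v hu hv j hj
    rw [Pi.add_apply, hu j hj, hv j hj, add_zero]
  zero_mem' := fun _ _ => rfl
  smul_mem' := by
    intro c v hv j hj
    rw [Pi.smul_apply, hv j hj, smul_zero]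

theorem mem_coordSub (S : Set ι) (v : ι → F) : v ∈ coordSub F S ↔ ∀ j ∈ S, v j = 0 := Iff.rfl

/-- the coordinate subspace is the function space on the complement -/
noncomputable def coordSubEquiv (S : Set ι) : ↥(coordSub F S) ≃ₗ[F] ({j // j ∉ S} → F) := by
  classical
  exact
  { toFun := fun v j => v.1 j.1
    map_add' := fun _ _ => rfl
    map_smul' := fun _ _ => rfl
    invFun := fun w => ⟨fun j => if h : j ∈ S then 0 else w ⟨j, h⟩, fun j hj => by simp [hj]⟩
    left_inv := by
      intro v
      apply Subtype.ext
      funext j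
      by_cases hj : j ∈ S
      · simp [hj, v.2 j hj]
      · simp [hj]
    right_inv := by
      intro w
      funext j
      simp [j.2] }

theorem finrank_coordSub (S : Set ι) [DecidablePred (· ∈ S)] :
    Module.finrank F ↥(coordSub F S) = Fintype.card {j // j ∉ S} := by
  rw [LinearEquiv.finrank_eq (coordSubEquiv S), Module.finrank_fintype_fun_eq_card]

end MaxTS2

end Cfsg.Agent.Lib.Helper2
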