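import Mathlib
import Cfsg.Agent.Lib.Helper2.MaxTS1
import Cfsg.Agent.Lib.Helper2.QuadStd

set_option autoImplicit false

namespace Cfsg.Agent.Lib.Helper2

namespace MaxTS2

open Cfsg.Agent.Lib.Helper5.QuadGlue

variable {F : Type*} [Field F] {m : ℕ}

/-- coordinates killed on the first standard maximal subspace -/
def S1 (m : ℕ) : Set (Fin m ⊕ Fin m) := {j | ∃ i, j = Sum.inr i}

/-- coordinates killed on the second standard maximal subspace -/
def S2 (l : Fin m) : Set (Fin m ⊕ Fin m) := {j | (∃ i, i ≠ l ∧ j = Sum.inr i) ∨ j = Sum.inl l}

/-- coordinates killed on the standard submaximal subspace -/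
def S0 (l : Fin m) : Set (Fin m ⊕ Fin m) := {j | (∃ i, j = Sum.inr i) ∨ j = Sum.inl l}

theorem card_compl_S1 (m : ℕ) : Nat.card {j // j ∉ S1 m} = m := by
  let f : Fin m → {j // j ∉ S1 m} := fun i => ⟨Sum.inl i, by rintro ⟨i', h⟩; cases h⟩
  have hf : Function.Bijective f := by
    constructor
    · intro i i' h
      have := congrArg Subtype.val h
      exact Sum.inl_injective this
    · rintro ⟨j, hj⟩
      rcases j with i | i
      · exact ⟨i, rfl⟩
      · exact absurd ⟨i, rfl⟩ hj
  rw [← Nat.card_congr (Equiv.ofBijective f hf), Nat.card_eq_fintype_card, Fintype.card_fin]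

theorem card_compl_S2 (l : Fin m) : Nat.card {j // j ∉ S2 l} = m := by
  classical
  let f : Fin m → {j // j ∉ S2 l} := fun i =>
    if h : i = l then ⟨Sum.inr l, by
      rintro (⟨i', hi', h'⟩ | h')
      · exact hi' (Sum.inr_injective h').symm
      · cases h'⟩
    else ⟨Sum.inl i, by
      rintro (⟨i', hi', h'⟩ | h')
      · cases h'
      · exact h (Sum.inl_injective h')⟩
  have hf : Function.Bijective f := by
    constructor
    · intro i i' h
      simp only [f] at h
      by_cases hi : i = l <;> by_cases hi' : i' = l
      · rw [hi, hi']
      · rw [dif_pos hi, dif_neg hi'] at h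
        have := congrArg Subtype.val h
        cases this
      · rw [dif_neg hi, dif_pos hi'] at h
        have := congrArg Subtype.val h
        cases this
      · rw [dif_neg hi, dif_neg hi'] at h
        have := congrArg Subtype.val h
        exact Sum.inl_injective this
    · rintro ⟨j, hj⟩
      rcases j with i | i
      · have hi : i ≠ l := by
          intro h
          apply hj
          right
          rw [h]
        refine ⟨i, ?_⟩
        simp only [f]
        rw [dif_neg hi]
      · have hi : i = l := by
          by_contra h
          apply hj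
          left
          exact ⟨i, h, rfl⟩
        refine ⟨l, ?_⟩
        have : f l = ⟨Sum.inr l, by
            rintro (⟨i', hi', h'⟩ | h')
            · exact hi' (Sum.inr_injective h').symm
            · cases h'⟩ := dif_pos rfl
        rw [this]
        apply Subtype.ext
        show (Sum.inr l : Fin m ⊕ Fin m) = Sum.inr i
        rw [hi]
  rw [← Nat.card_congr (Equiv.ofBijective f hf), Nat.card_eq_fintype_card, Fintype.card_fin]

theorem card_compl_S0 (l : Fin m) : Nat.card {j // j ∉ S0 l} + 1 = m := by
  classical
  let f : {i : Fin m // ¬ (i = l)} → {j // j ∉ S0 l} := fun i => ⟨Sum.inl i.1, by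
      rintro (⟨i', h'⟩ | h')
      · cases h'
      · exact i.2 (Sum.inl_injective h')⟩
  have hf : Function.Bijective f := by
    constructor
    · intro i i' h
      have := congrArg Subtype.val h
      exact Subtype.ext (Sum.inl_injective this)
    · rintro ⟨j, hj⟩
      rcases j with i | i
      · have hi : i ≠ l := by
          intro h
          apply hj
          right
          rw [h]
        exact ⟨⟨i, hi⟩, rfl⟩
      · exact absurd (Or.inl ⟨i, rfl⟩) hj
  rw [← Nat.card_congr (Equiv.ofBijective f hf), Nat.card_eq_fintype_card,
    Fintype.card_subtype_compl, Fintype.card_subtype_eq, Fintype.card_fin]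
  have : 1 ≤ m := by have := l.2; omega
  omega

end MaxTS2

end Cfsg.Agent.Lib.Helper2
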