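import Mathlib
import Cfsg.Agent.Lib.Helper2.MaxTS2

set_option autoImplicit false

namespace Cfsg.Agent.Lib.Helper2

namespace MaxTS2

open Cfsg.Agent.Lib.Helper5.QuadGlue

variable {F : Type*} [Field F] {m : ℕ}

theorem finrank_coordSub' {ι : Type*} [Fintype ι] [DecidableEq ι] (S : Set ι) :
    Module.finrank F ↥(coordSub F S) = Nat.card {j // j ∉ S} := by
  classical
  rw [finrank_coordSub, Nat.card_eq_fintype_card]

theorem finrank_W1 : Module.finrank F ↥(coordSub F (S1 m)) = m := by
  rw [finrank_coordSub', card_compl_S1]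

theorem finrank_W2 (l : Fin m) : Module.finrank F ↥(coordSub F (S2 l)) = m := by
  rw [finrank_coordSub', card_compl_S2]

theorem finrank_U0 (l : Fin m) : Module.finrank F ↥(coordSub F (S0 l)) + 1 = m := by
  rw [finrank_coordSub', card_compl_S0]

theorem Q_W1 (v : Fin m ⊕ Fin m → F) (hv : v ∈ coordSub F (S1 m)) :
    Cfsg.quadFormPlus m F v = 0 := by
  unfold Cfsg.quadFormPlus
  apply Finset.sum_eq_zero
  intro i _
  rw [hv (Sum.inr i) ⟨i, rfl⟩, mul_zero]

theorem Q_W2 (l : Fin m) (v : Fin m ⊕ Fin m → F) (hv : v ∈ coordSub F (S2 l)) :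
    Cfsg.quadFormPlus m F v = 0 := by
  unfold Cfsg.quadFormPlus
  apply Finset.sum_eq_zero
  intro i _
  by_cases hi : i = l
  · rw [hi, hv (Sum.inl l) (Or.inr rfl), zero_mul]
  · rw [hv (Sum.inr i) (Or.inl ⟨i, hi, rfl⟩), mul_zero]

theorem U0_le_W1 (l : Fin m) : coordSub F (S0 l) ≤ coordSub F (S1 m) := by
  intro v hv j hj
  exact hv j (Or.inl hj)

theorem U0_le_W2 (l : Fin m) : coordSub F (S0 l) ≤ coordSub F (S2 l) := by
  intro v hv j hj
  rcases hj with ⟨i, -, hi⟩ | hj
  · exact hv j (Or.inl ⟨i, hi⟩)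
  · exact hv j (Or.inr hj)

theorem W1_ne_W2 (l : Fin m) : coordSub F (S1 m) ≠ coordSub F (S2 l) := by
  classical
  intro h
  have h1 : (Pi.single (Sum.inl l) 1 : Fin m ⊕ Fin m → F) ∈ coordSub F (S1 m) := by
    rintro j ⟨i, rfl⟩
    simp
  rw [h] at h1
  have := h1 (Sum.inl l) (Or.inr rfl)
  simp at this

/-- a maximal totally singular subspace through the standard submaximal one is one of the two
standard ones -/
theorem std_unique (l : Fin m) (W : Submodule F (Fin m ⊕ Fin m → F))
    (hW : Module.finrank F W = m) (hQ : ∀ w ∈ W, Cfsg.quadFormPlus m F w = 0)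
    (hU : coordSub F (S0 l) ≤ W) : W = coordSub F (S1 m) ∨ W = coordSub F (S2 l) := by
  classical
  have hpol : ∀ u ∈ W, ∀ v ∈ W, QuadraticMap.polar (⇑(QP m F)) u v = 0 := by
    intro u hu v hv
    unfold QuadraticMap.polar
    rw [QuadStd.QP_coe, hQ _ (W.add_mem hu hv), hQ u hu, hQ v hv]
    ring
  -- (a) all `y`-coordinates except the `l`-th vanish on `W`
  have ha : ∀ w ∈ W, ∀ i, i ≠ l → w (Sum.inr i) = 0 := by
    intro w hw i hi
    have he : (Pi.single (Sum.inl i) 1 : Fin m ⊕ Fin m → F) ∈ W := by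
      apply hU
      rintro j (⟨i', rfl⟩ | rfl)
      · simp
      · rw [Pi.single_apply, if_neg]
        intro h
        exact hi (Sum.inl_injective h).symm
    have h1 := hpol w hw _ he
    rw [QuadStd.polar_plus, Finset.sum_eq_single i] at h1
    · simpa using h1
    · intro j _ hji
      have h3 : (Sum.inl j : Fin m ⊕ Fin m) ≠ Sum.inl i := fun h => hji (Sum.inl_injective h)
      simp [Pi.single_apply, h3]
    · intro h
      exact absurd (Finset.mem_univ i) h
  -- (b) the product of the `l`-th coordinates vanishes on `W`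
  have hb : ∀ w ∈ W, w (Sum.inl l) * w (Sum.inr l) = 0 := by
    intro w hw
    have h1 := hQ w hw
    unfold Cfsg.quadFormPlus at h1
    rw [Finset.sum_eq_single l] at h1
    · exact h1
    · intro j _ hjl
      rw [ha w hw j hjl, mul_zero]
    · intro h
      exact absurd (Finset.mem_univ l) h
  -- (c) dichotomy
  have hc : (∀ w ∈ W, w (Sum.inr l) = 0) ∨ (∀ w ∈ W, w (Sum.inl l) = 0) := by
    by_contra hcon
    push Not at hcon
    obtain ⟨⟨v, hv, hv1⟩, ⟨v', hv', hv'1⟩⟩ := hcon
    have h1 : v (Sum.inl l) = 0 := by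
      rcases mul_eq_zero.1 (hb v hv) with h | h
      · exact h
      · exact absurd h hv1
    have h2 : v' (Sum.inr l) = 0 := by
      rcases mul_eq_zero.1 (hb v' hv') with h | h
      · exact absurd h hv'1
      · exact h
    have h3 := hb (v + v') (W.add_mem hv hv')
    rw [Pi.add_apply, Pi.add_apply, h1, h2, zero_add, add_zero] at h3
    rcases mul_eq_zero.1 h3 with h | h
    · exact hv'1 h
    · exact hv1 h
  rcases hc with hc | hc
  · left
    apply Submodule.eq_of_le_of_finrank_eq
    · rintro w hw j ⟨i, rfl⟩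
      by_cases hi : i = l
      · rw [hi]; exact hc w hw
      · exact ha w hw i hi
    · rw [hW, finrank_W1]
  · right
    apply Submodule.eq_of_le_of_finrank_eq
    · rintro w hw j (⟨i, hi, rfl⟩ | rfl)
      · exact ha w hw i hi
      · exact hc w hw
    · rw [hW, finrank_W2]

end MaxTS2

end Cfsg.Agent.Lib.Helper2
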