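import Mathlib

set_option autoImplicit false

namespace Cfsg.Agent.Lib.Helper2

namespace PlusType

open Module

universe u v

variable {F : Type u} [Field F] {V : Type v} [AddCommGroup V] [Module F V]

/-- change of basis multiplies the Gram determinant by a nonzero square -/
theorem det_change_basis {ι κ : Type*} [Fintype ι] [Fintype κ] [DecidableEq ι] [DecidableEq κ]
    (B : LinearMap.BilinForm F V) (b : Basis ι F V) (c : Basis κ F V) :
    ∃ u : F, u ≠ 0 ∧ (LinearMap.BilinForm.toMatrix c B).det =
      u ^ 2 * (LinearMap.BilinForm.toMatrix b B).det := by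
  set e : ι ≃ κ := b.indexEquiv c with he
  set c' : Basis ι F V := c.reindex e.symm with hc'
  have h1 : LinearMap.BilinForm.toMatrix c' B =
      (LinearMap.BilinForm.toMatrix c B).submatrix e e := by
    ext i j
    rw [LinearMap.BilinForm.toMatrix_apply, Matrix.submatrix_apply,
      LinearMap.BilinForm.toMatrix_apply, hc', Basis.reindex_apply, Basis.reindex_apply,
      Equiv.symm_symm]
  have h2 : (LinearMap.BilinForm.toMatrix c' B).det = (LinearMap.BilinForm.toMatrix c B).det := by
    rw [h1, Matrix.det_submatrix_equiv_self]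
  have h3 := LinearMap.BilinForm.toMatrix_mul_basis_toMatrix b c' B
  have h4 := congrArg Matrix.det h3
  rw [Matrix.det_mul, Matrix.det_mul, Matrix.det_transpose] at h4
  have h5 : (b.toMatrix c').det * (c'.toMatrix b).det = 1 := by
    rw [← Matrix.det_mul, Basis.toMatrix_mul_toMatrix_flip, Matrix.det_one]
  refine ⟨(b.toMatrix c').det, left_ne_zero_of_mul_eq_one h5, ?_⟩
  rw [← h2, ← h4]
  ring

theorem nondegenerate_of_det_ne_zero {ι : Type*} [Fintype ι] [DecidableEq ι]
    {B : LinearMap.BilinForm F V} (b : Basis ι F V)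
    (h : (LinearMap.BilinForm.toMatrix b B).det ≠ 0) : B.Nondegenerate :=
  (LinearMap.BilinForm.nondegenerate_iff_det_ne_zero b).2 h

theorem det_ne_zero_of_nondegenerate {ι : Type*} [Fintype ι] [DecidableEq ι]
    {B : LinearMap.BilinForm F V} (b : Basis ι F V) (h : B.Nondegenerate) :
    (LinearMap.BilinForm.toMatrix b B).det ≠ 0 :=
  (LinearMap.BilinForm.nondegenerate_iff_det_ne_zero b).1 h

/-- splitting off a hyperbolic plane -/
theorem hyp_split [FiniteDimensional F V] (B : LinearMap.BilinForm F V) (hS : B.IsSymm) (v w : V)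
    (hvv : B v v = 0) (hvw : B v w = 1) :
    v ∉ B.orthogonal (Submodule.span F {v, w}) ∧
    finrank F (B.orthogonal (Submodule.span F {v, w})) + 2 = finrank F V ∧
    ∀ {ι ι' : Type*} [Fintype ι] [Fintype ι'] [DecidableEq ι] [DecidableEq ι']
      (b : Basis ι F V) (b' : Basis ι' F (B.orthogonal (Submodule.span F {v, w}))),
      ∃ u : F, u ≠ 0 ∧ (LinearMap.BilinForm.toMatrix b B).det =
        -(u ^ 2 * (LinearMap.BilinForm.toMatrix b'
          (B.restrict (B.orthogonal (Submodule.span F {v, w})))).det) := by
  classical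
  have hwv : B w v = 1 := by rw [hS.eq w v]; exact hvw
  set H : Submodule F V := Submodule.span F {v, w} with hH
  have hvH : v ∈ H := Submodule.subset_span (by simp)
  have hwH : w ∈ H := Submodule.subset_span (by simp)
  -- linear independence of `v, w`
  have hli : LinearIndependent F ![v, w] := by
    rw [LinearIndependent.pair_iff]
    intro s t hst
    have h1 : B v (s • v + t • w) = 0 := by rw [hst, map_zero]
    have h2 : B w (s • v + t • w) = 0 := by rw [hst, map_zero]
    rw [map_add, map_smul, map_smul, hvv, hvw, smul_eq_mul, smul_eq_mul, mul_zero, zero_add,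
      mul_one] at h1
    rw [map_add, map_smul, map_smul, hwv, smul_eq_mul, smul_eq_mul, mul_one, h1, zero_mul,
      add_zero] at h2
    exact ⟨h2, h1⟩
  have hrange : Set.range ![v, w] = {v, w} := by
    ext x
    simp only [Set.mem_range, Set.mem_insert_iff, Set.mem_singleton_iff]
    constructor
    · rintro ⟨i, rfl⟩
      fin_cases i
      · left; rfl
      · right; rfl
    · rintro (rfl | rfl)
      · exact ⟨0, rfl⟩
      · exact ⟨1, rfl⟩
  have hspan : Submodule.span F (Set.range ![v, w]) = H := by rw [hrange]
  set bH : Basis (Fin 2) F H := Basis.span hli |>.map (LinearEquiv.ofEq _ _ hspan) with hbH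
  have hbH0 : (bH 0 : V) = v := by
    rw [hbH, Basis.map_apply]
    show ((Basis.span hli 0 : Submodule.span F (Set.range ![v, w])) : V) = v
    rw [Basis.span_apply]
    rfl
  have hbH1 : (bH 1 : V) = w := by
    rw [hbH, Basis.map_apply]
    show ((Basis.span hli 1 : Submodule.span F (Set.range ![v, w])) : V) = w
    rw [Basis.span_apply]
    rfl
  have hGH : (LinearMap.BilinForm.toMatrix bH (B.restrict H)).det = -1 := by
    rw [Matrix.det_fin_two]
    simp only [LinearMap.BilinForm.toMatrix_apply]
    show B (bH 0 : V) (bH 0 : V) * B (bH 1 : V) (bH 1 : V) -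
      B (bH 0 : V) (bH 1 : V) * B (bH 1 : V) (bH 0 : V) = -1
    rw [hbH0, hbH1, hvv, hvw, hwv]
    ring
  have hndH : (B.restrict H).Nondegenerate :=
    nondegenerate_of_det_ne_zero bH (by rw [hGH]; exact neg_ne_zero.2 one_ne_zero)
  have hcompl : IsCompl H (B.orthogonal H) :=
    LinearMap.BilinForm.isCompl_orthogonal_of_restrict_nondegenerate hS.isRefl hndH
  refine ⟨?_, ?_, ?_⟩
  · intro hv
    rw [LinearMap.BilinForm.mem_orthogonal_iff] at hv
    have := hv w hwH
    rw [hwv] at this
    exact one_ne_zero this
  · have h1 := Submodule.finrank_add_eq_of_isCompl hcompl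
    have h2 : finrank F H = 2 := by
      rw [finrank_eq_card_basis bH, Fintype.card_fin]
    omega
  · intro ι ι' _ _ _ _ b b'
    set c : Basis (Fin 2 ⊕ ι') F V :=
      (bH.prod b').map (Submodule.prodEquivOfIsCompl H (B.orthogonal H) hcompl) with hc
    have hcl : ∀ i, c (Sum.inl i) = (bH i : V) := by
      intro i
      rw [hc, Basis.map_apply, Basis.prod_apply, Submodule.coe_prodEquivOfIsCompl']
      simp
    have hcr : ∀ j, c (Sum.inr j) = (b' j : V) := by
      intro j
      rw [hc, Basis.map_apply, Basis.prod_apply, Submodule.coe_prodEquivOfIsCompl']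
      simp
    have hG : LinearMap.BilinForm.toMatrix c B =
        Matrix.fromBlocks (LinearMap.BilinForm.toMatrix bH (B.restrict H)) 0 0
          (LinearMap.BilinForm.toMatrix b' (B.restrict (B.orthogonal H))) := by
      ext x y
      rw [LinearMap.BilinForm.toMatrix_apply]
      rcases x with i | j <;> rcases y with i' | j'
      · rw [Matrix.fromBlocks_apply₁₁, hcl, hcl, LinearMap.BilinForm.toMatrix_apply]
        rfl
      · rw [Matrix.fromBlocks_apply₁₂, hcl, hcr, Matrix.zero_apply]
        have := (b' j').2
        rw [LinearMap.BilinForm.mem_orthogonal_iff] at this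
        exact this _ (bH i).2
      · rw [Matrix.fromBlocks_apply₂₁, hcr, hcl, Matrix.zero_apply, hS.eq]
        have := (b' j).2
        rw [LinearMap.BilinForm.mem_orthogonal_iff] at this
        exact this _ (bH i').2
      · rw [Matrix.fromBlocks_apply₂₂, hcr, hcr, LinearMap.BilinForm.toMatrix_apply]
        rfl
    obtain ⟨u, hu, hdet⟩ := det_change_basis B c b
    refine ⟨u, hu, ?_⟩
    rw [hdet, hG, Matrix.det_fromBlocks_zero₁₂, hGH]
    ring

end PlusType

end Cfsg.Agent.Lib.Helper2
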