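import Mathlib
import Cfsg.Agent.Lib.Helper2.PlusType1
import Cfsg.Agent.Lib.Helper5.QuadFin

set_option autoImplicit false

namespace Cfsg.Agent.Lib.Helper2

namespace PlusType

open Module

universe u v

variable {F : Type u} [Field F]

/-- a hyperplane section of a subspace -/
theorem finrank_inf_ker_ge {V : Type v} [AddCommGroup V] [Module F V] [FiniteDimensional F V]
    (X : Submodule F V) (φ : V →ₗ[F] F) :
    finrank F X ≤ finrank F ↥(X ⊓ LinearMap.ker φ) + 1 := by
  have h1 := Submodule.finrank_sup_add_finrank_inf_eq X (LinearMap.ker φ)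
  have h2 := LinearMap.finrank_range_add_finrank_ker φ
  have h3 : finrank F (LinearMap.range φ) ≤ 1 := by
    have := Submodule.finrank_le (LinearMap.range φ)
    rwa [finrank_self] at this
  have h4 : finrank F ↥(X ⊔ LinearMap.ker φ) ≤ finrank F V := Submodule.finrank_le _
  omega

/-- choosing a partner -/
theorem exists_partner {V : Type v} [AddCommGroup V] [Module F V] (B : LinearMap.BilinForm F V)
    (hnd : B.Nondegenerate) (v : V) (hv : v ≠ 0) : ∃ w, B v w = 1 := by
  have h1 : ∃ w₀, B v w₀ ≠ 0 := by
    by_contra hcon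
    push Not at hcon
    exact hv (hnd.1 v hcon)
  obtain ⟨w₀, hw₀⟩ := h1
  refine ⟨(B v w₀)⁻¹ • w₀, ?_⟩
  rw [map_smul, smul_eq_mul, inv_mul_cancel₀ hw₀]

/-- a totally isotropic subspace of half the dimension forces the discriminant -/
theorem disc_of_isotropic_aux : ∀ (m : ℕ) (V : Type v) [AddCommGroup V] [Module F V]
    [FiniteDimensional F V] (B : LinearMap.BilinForm F V), B.IsSymm → B.Nondegenerate →
    finrank F V = 2 * m → ∀ (X : Submodule F V), m ≤ finrank F X →
    (∀ x ∈ X, ∀ y ∈ X, B x y = 0) →
    ∃ u : F, u ≠ 0 ∧ (LinearMap.BilinForm.toMatrix (Module.finBasis F V) B).det =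
      (-1) ^ m * u ^ 2 := by
  intro m
  induction m with
  | zero =>
    intro V _ _ _ B _ _ hV X _ _
    haveI : IsEmpty (Fin (finrank F V)) := ⟨fun i => by have := i.2; omega⟩
    refine ⟨1, one_ne_zero, ?_⟩
    rw [Matrix.det_isEmpty]
    norm_num
  | succ m ih =>
    intro V _ _ _ B hS hnd hV X hX hX0
    classical
    have hpos : 0 < finrank F X := by omega
    obtain ⟨⟨v, hvX⟩, hv0⟩ := Module.finrank_pos_iff_exists_ne_zero.1 hpos
    have hv : v ≠ 0 := fun h => hv0 (Subtype.ext h)
    obtain ⟨w, hvw⟩ := exists_partner B hnd v hv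
    have hvv : B v v = 0 := hX0 v hvX v hvX
    obtain ⟨-, hfr, hdet⟩ := hyp_split B hS v w hvv hvw
    set W := B.orthogonal (Submodule.span F {v, w}) with hW
    obtain ⟨s, hs, hdet1⟩ := hdet (Module.finBasis F V) (Module.finBasis F W)
    have hD : (LinearMap.BilinForm.toMatrix (Module.finBasis F W) (B.restrict W)).det ≠ 0 := by
      intro h0
      rw [h0, mul_zero, neg_zero] at hdet1
      exact det_ne_zero_of_nondegenerate _ hnd hdet1
    have hnd' : (B.restrict W).Nondegenerate := nondegenerate_of_det_ne_zero _ hD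
    -- the subspace
    set K : Submodule F V := X ⊓ LinearMap.ker (B.flip w) with hK
    have hKW : K ≤ W := by
      intro x hx
      rw [hW, LinearMap.BilinForm.mem_orthogonal_iff]
      have hsp : Submodule.span F {v, w} ≤ LinearMap.ker (B.flip x) := by
        rw [Submodule.span_le]
        intro h hh
        rcases hh with rfl | hh
        · show B h x = 0
          exact hX0 h hvX x hx.1
        · rw [Set.mem_singleton_iff] at hh
          subst hh
          show B h x = 0
          rw [hS.eq]
          exact hx.2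
      intro h hh
      exact hsp hh
    set X' : Submodule F W := Submodule.comap W.subtype K with hX'
    have hfrX' : finrank F X' = finrank F K :=
      LinearEquiv.finrank_eq (Submodule.comapSubtypeEquivOfLe hKW)
    have hKge : finrank F X ≤ finrank F K + 1 := finrank_inf_ker_ge X (B.flip w)
    have hX'0 : ∀ x ∈ X', ∀ y ∈ X', (B.restrict W) x y = 0 := by
      intro x hx y hy
      exact hX0 _ hx.1 _ hy.1
    obtain ⟨u', hu', hdet2⟩ := ih W (B.restrict W) (hS.restrict W) hnd' (by omega) X'
      (by rw [hfrX']; omega) hX'0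
    refine ⟨s * u', mul_ne_zero hs hu', ?_⟩
    rw [hdet1, hdet2, pow_succ]
    ring

/-- the discriminant condition gives a totally isotropic subspace of half the dimension -/
theorem isotropic_of_disc_aux [Finite F] : ∀ (m : ℕ) (V : Type v)
    [AddCommGroup V] [Module F V]
    [FiniteDimensional F V] (B : LinearMap.BilinForm F V), B.IsSymm → B.Nondegenerate →
    finrank F V = 2 * m →
    (∃ u : F, u ≠ 0 ∧ (LinearMap.BilinForm.toMatrix (Module.finBasis F V) B).det =
      (-1) ^ m * u ^ 2) →
    ∃ X : Submodule F V, finrank F X = m ∧ ∀ x ∈ X, ∀ y ∈ X, B x y = 0 := by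
  intro m
  induction m with
  | zero =>
    intro V _ _ _ B _ _ _ _
    refine ⟨⊥, finrank_bot F V, ?_⟩
    intro x hx y _
    rw [(Submodule.mem_bot F).1 hx, map_zero, LinearMap.zero_apply]
  | succ m ih =>
    intro V _ _ _ B hS hnd hV hdisc
    classical
    obtain ⟨u, hu, hdet0⟩ := hdisc
    -- an isotropic vector
    have hiso : ∃ v : V, v ≠ 0 ∧ B v v = 0 := by
      rcases Nat.eq_zero_or_pos m with hm | hm
      · subst hm
        have hV2 : finrank F V = 2 := by omega
        set c : Basis (Fin 2) F V := (Module.finBasis F V).reindex (finCongr hV2) with hc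
        obtain ⟨t, ht, hdet1⟩ := det_change_basis B (Module.finBasis F V) c
        rw [hdet0, Matrix.det_fin_two] at hdet1
        simp only [LinearMap.BilinForm.toMatrix_apply] at hdet1
        set a := B (c 0) (c 0) with ha
        set b := B (c 0) (c 1) with hb
        set d := B (c 1) (c 1) with hd
        have hb' : B (c 1) (c 0) = b := by rw [hb, hS.eq]
        rw [hb'] at hdet1
        by_cases ha0 : a = 0
        · exact ⟨c 0, c.ne_zero 0, ha0⟩
        · refine ⟨(t * u - b) • c 0 + a • c 1, ?_, ?_⟩
          · intro h0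
            have h1 := Fintype.linearIndependent_iff.1 c.linearIndependent ![t * u - b, a]
              (by rw [Fin.sum_univ_two]; exact h0) 1
            exact ha0 h1
          · simp only [map_add, map_smul, LinearMap.add_apply, LinearMap.smul_apply, smul_eq_mul]
            rw [hb', ← ha, ← hb, ← hd]
            have : a * d - b * b = -(t * u) ^ 2 := by rw [hdet1]; ring
            linear_combination a * this
      · have h3 : 3 ≤ finrank F V := by omega
        obtain ⟨v, hv, hQ⟩ := Cfsg.Agent.Lib.Helper5.exists_singular_of_finrank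
          (LinearMap.BilinMap.toQuadraticMap B) h3
        exact ⟨v, hv, hQ⟩
    obtain ⟨v, hv, hvv⟩ := hiso
    obtain ⟨w, hvw⟩ := exists_partner B hnd v hv
    obtain ⟨hvW, hfr, hdet⟩ := hyp_split B hS v w hvv hvw
    set W := B.orthogonal (Submodule.span F {v, w}) with hW
    obtain ⟨s, hs, hdet1⟩ := hdet (Module.finBasis F V) (Module.finBasis F W)
    have hD : (LinearMap.BilinForm.toMatrix (Module.finBasis F W) (B.restrict W)).det ≠ 0 := by
      intro h0
      rw [h0, mul_zero, neg_zero] at hdet1
      exact det_ne_zero_of_nondegenerate _ hnd hdet1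
    have hnd' : (B.restrict W).Nondegenerate := nondegenerate_of_det_ne_zero _ hD
    have hdet2 : (LinearMap.BilinForm.toMatrix (Module.finBasis F W) (B.restrict W)).det =
        (-1) ^ m * (u / s) ^ 2 := by
      rw [hdet0, pow_succ] at hdet1
      field_simp
      linear_combination hdet1
    obtain ⟨X', hX', hX'0⟩ := ih W (B.restrict W) (hS.restrict W) hnd' (by omega)
      ⟨u / s, div_ne_zero hu hs, hdet2⟩
    set P : Submodule F V := X'.map W.subtype with hP
    have hPW : P ≤ W := by
      rintro _ ⟨x, _, rfl⟩
      exact x.2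
    have hvP : v ∉ P := fun h => hvW (hPW h)
    have hfrP : finrank F P = m := by
      rw [hP, ← hX']
      exact LinearEquiv.finrank_eq (Submodule.equivMapOfInjective _ W.injective_subtype X').symm
    refine ⟨P ⊔ Submodule.span F {v}, ?_, ?_⟩
    · have h1 := Submodule.finrank_sup_add_finrank_inf_eq P (Submodule.span F {v})
      have h2 : P ⊓ Submodule.span F {v} = ⊥ :=
        disjoint_iff.1 ((Submodule.disjoint_span_singleton' hv).2 hvP)
      rw [h2, finrank_bot, finrank_span_singleton hv, hfrP] at h1
      omega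
    · have hPv : ∀ p ∈ P, B p v = 0 := by
        intro p hp
        have := hPW hp
        rw [hW, LinearMap.BilinForm.mem_orthogonal_iff] at this
        rw [hS.eq]
        exact this v (Submodule.subset_span (by simp))
      have hPP : ∀ p ∈ P, ∀ p' ∈ P, B p p' = 0 := by
        rintro _ ⟨x, hx, rfl⟩ _ ⟨y, hy, rfl⟩
        exact hX'0 x hx y hy
      intro x hx y hy
      obtain ⟨p, hp, z, hz, rfl⟩ := Submodule.mem_sup.1 hx
      obtain ⟨p', hp', z', hz', rfl⟩ := Submodule.mem_sup.1 hy
      obtain ⟨a, rfl⟩ := Submodule.mem_span_singleton.1 hz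
      obtain ⟨a', rfl⟩ := Submodule.mem_span_singleton.1 hz'
      simp only [map_add, map_smul, LinearMap.add_apply, LinearMap.smul_apply, smul_eq_mul]
      rw [hPP p hp p' hp', hPv p hp, hS.eq v p', hPv p' hp', hvv]
      ring

end PlusType

end Cfsg.Agent.Lib.Helper2
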