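import Mathlib
import Cfsg.Agent.Lib.Helper2.PlusType2

set_option autoImplicit false

namespace Cfsg.Agent.Lib.Helper2

namespace PlusType

open Module

universe u v

variable {F : Type u} [Field F] {V : Type v} [AddCommGroup V] [Module F V] [FiniteDimensional F V]

/-- a totally isotropic subspace of half the dimension forces the discriminant -/
theorem disc_of_isotropic (B : LinearMap.BilinForm F V) (hS : B.IsSymm) (hnd : B.Nondegenerate)
    (m : ℕ) (hV : finrank F V = 2 * m) (X : Submodule F V) (hX : m ≤ finrank F X)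
    (hX0 : ∀ x ∈ X, ∀ y ∈ X, B x y = 0) {ι : Type*} [Fintype ι] [DecidableEq ι]
    (b : Basis ι F V) :
    ∃ u : F, u ≠ 0 ∧ (LinearMap.BilinForm.toMatrix b B).det = (-1) ^ m * u ^ 2 := by
  obtain ⟨u, hu, h⟩ := disc_of_isotropic_aux m V B hS hnd hV X hX hX0
  obtain ⟨t, ht, h'⟩ := det_change_basis B (Module.finBasis F V) b
  exact ⟨t * u, mul_ne_zero ht hu, by rw [h', h]; ring⟩

/-- the discriminant condition gives a totally isotropic subspace of half the dimension -/
theorem isotropic_of_disc [Finite F] (B : LinearMap.BilinForm F V) (hS : B.IsSymm)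
    (hnd : B.Nondegenerate) (m : ℕ) (hV : finrank F V = 2 * m) {ι : Type*} [Fintype ι]
    [DecidableEq ι] (b : Basis ι F V) (u : F) (hu : u ≠ 0)
    (hdet : (LinearMap.BilinForm.toMatrix b B).det = (-1) ^ m * u ^ 2) :
    ∃ X : Submodule F V, finrank F X = m ∧ ∀ x ∈ X, ∀ y ∈ X, B x y = 0 := by
  obtain ⟨t, ht, h'⟩ := det_change_basis B b (Module.finBasis F V)
  exact isotropic_of_disc_aux m V B hS hnd hV
    ⟨t * u, mul_ne_zero ht hu, by rw [h', hdet]; ring⟩

end PlusType

end Cfsg.Agent.Lib.Helper2
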