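import Mathlib
import Cfsg.Agent.Lib.Helper2.OrthElA
import Cfsg.Agent.Lib.Helper2.OrthElB
import Cfsg.Agent.Lib.Helper2.OrthElD
import Cfsg.Agent.Lib.Helper2.PlusType3

set_option autoImplicit false

/-!
The discriminant character of a quadratic space over a finite field of odd characteristic:
independence of the basis, value on orthogonal bases, the criterion for plus type, invariance
under isometries, and the classification of nondegenerate spaces by dimension and discriminant.
-/

namespace Cfsg.Agent.Lib.Helper2.OrthNd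

open Module QuadraticMap
open Cfsg.Agent.Lib.Helper2.MaxTS2 Cfsg.Agent.Lib.Helper2.OrthEl
open Cfsg.Agent.Lib.Helper1.DiagForm

variable {F : Type*} [Field F] [Fintype F] [DecidableEq F]
variable {V : Type*} [AddCommGroup V] [Module F V] [FiniteDimensional F V]

/-- the discriminant character of a quadratic space -/
noncomputable def dch (Q : QuadraticForm F V) : ℤ :=
  quadraticChar F (LinearMap.BilinForm.toMatrix (Module.finBasis F V) (polarBilin Q)).det

theorem dch_eq_of_basis {ι : Type*} [Fintype ι] [DecidableEq ι] (Q : QuadraticForm F V)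
    (b : Basis ι F V) :
    quadraticChar F (LinearMap.BilinForm.toMatrix b (polarBilin Q)).det = dch Q := by
  obtain ⟨u, hu, h⟩ := PlusType.det_change_basis (polarBilin Q) (Module.finBasis F V) b
  unfold dch
  rw [h, map_mul, quadraticChar_sq_one' hu, one_mul]

theorem toMatrix_of_orthogonal {ι : Type*} [Fintype ι] [DecidableEq ι] (Q : QuadraticForm F V)
    (b : Basis ι F V) (hb : ∀ i j, i ≠ j → polar (⇑Q) (b i) (b j) = 0) :
    LinearMap.BilinForm.toMatrix b (polarBilin Q) = Matrix.diagonal (fun i => 2 * Q (b i)) := by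
  ext i j
  rw [LinearMap.BilinForm.toMatrix_apply, polarBilin_apply_apply, Matrix.diagonal_apply]
  by_cases hij : i = j
  · rw [if_pos hij, hij, polar_self, two_smul, two_mul]
  · rw [if_neg hij]
    exact hb i j hij

theorem dch_of_orthogonal {ι : Type*} [Fintype ι] [DecidableEq ι] (Q : QuadraticForm F V)
    (b : Basis ι F V) (hb : ∀ i j, i ≠ j → polar (⇑Q) (b i) (b j) = 0) :
    dch Q = quadraticChar F (∏ i, 2 * Q (b i)) := by
  rw [← dch_eq_of_basis Q b, toMatrix_of_orthogonal Q b hb, Matrix.det_diagonal]

theorem dch_dichotomy {Q : QuadraticForm F V} (hQ : (polarBilin Q).Nondegenerate) :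
    dch Q = 1 ∨ dch Q = -1 := by
  unfold dch
  exact quadraticChar_dichotomy (PlusType.det_ne_zero_of_nondegenerate _ hQ)

theorem isSymm_polarBilin (Q : QuadraticForm F V) :
    LinearMap.BilinForm.IsSymm (polarBilin Q) := by
  refine ⟨fun x y => ?_⟩
  simp [polar_comm]

/-- criterion for plus type in terms of the discriminant character -/
theorem plus_iff (h2 : (2 : F) ≠ 0) {Q : QuadraticForm F V} (hQ : (polarBilin Q).Nondegenerate)
    (a : ℕ) (hdim : finrank F V = 2 * a) :
    (∃ X : Submodule F V, finrank F X = a ∧ ∀ x ∈ X, Q x = 0) ↔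
      dch Q = (quadraticChar F (-1)) ^ a := by
  have hm1 : (-1 : F) ≠ 0 := neg_ne_zero.2 one_ne_zero
  constructor
  · rintro ⟨X, hX, hX0⟩
    have hX0' : ∀ x ∈ X, ∀ y ∈ X, polarBilin Q x y = 0 := by
      intro x hx y hy
      rw [polarBilin_apply_apply]
      unfold polar
      rw [hX0 _ (X.add_mem hx hy), hX0 x hx, hX0 y hy]
      ring
    obtain ⟨u, hu, hdet⟩ := PlusType.disc_of_isotropic (polarBilin Q) (isSymm_polarBilin Q) hQ a hdim X
      (le_of_eq hX.symm) hX0' (Module.finBasis F V)
    unfold dch
    rw [hdet, map_mul, map_pow, quadraticChar_sq_one' hu, mul_one]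
  · intro h
    have hdet0 := PlusType.det_ne_zero_of_nondegenerate (Module.finBasis F V) hQ
    set D := (LinearMap.BilinForm.toMatrix (Module.finBasis F V) (polarBilin Q)).det with hD
    have h1 : quadraticChar F (D * (-1) ^ a) = 1 := by
      unfold dch at h
      rw [map_mul, map_pow, h, ← mul_pow, ← pow_two, quadraticChar_sq_one hm1, one_pow]
    have hne : D * (-1) ^ a ≠ 0 := mul_ne_zero hdet0 (pow_ne_zero _ hm1)
    obtain ⟨s, hs⟩ := (quadraticChar_one_iff_isSquare hne).1 h1
    have hs0 : s ≠ 0 := by
      rintro rfl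
      rw [mul_zero] at hs
      exact hne hs
    have e2 : ((-1 : F)) ^ a * (-1) ^ a = 1 := by
      rw [← mul_pow]
      norm_num
    have hdet : D = (-1) ^ a * s ^ 2 := by
      have : D = D * (-1) ^ a * (-1) ^ a := by rw [mul_assoc, e2, mul_one]
      rw [this, hs]
      ring
    obtain ⟨X, hXdim, hX⟩ := PlusType.isotropic_of_disc (polarBilin Q) (isSymm_polarBilin Q) hQ a hdim
      (Module.finBasis F V) s hs0 hdet
    refine ⟨X, hXdim, ?_⟩
    intro x hx
    have h3 := hX x hx x hx
    rw [polarBilin_apply_apply, polar_self, two_smul, ← two_mul] at h3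
    rcases mul_eq_zero.1 h3 with h4 | h4
    · exact absurd h4 h2
    · exact h4

/-- isometric spaces have the same discriminant character -/
theorem dch_equiv {V₂ : Type*} [AddCommGroup V₂] [Module F V₂] [FiniteDimensional F V₂]
    {Q : QuadraticForm F V} {Q₂ : QuadraticForm F V₂} (e : V ≃ₗ[F] V₂)
    (he : ∀ v, Q₂ (e v) = Q v) : dch Q₂ = dch Q := by
  rw [← dch_eq_of_basis Q₂ ((Module.finBasis F V).map e)]
  unfold dch
  congr 2
  ext i j
  rw [LinearMap.BilinForm.toMatrix_apply, LinearMap.BilinForm.toMatrix_apply, Basis.map_apply,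
    Basis.map_apply, polarBilin_apply_apply, polarBilin_apply_apply]
  unfold polar
  rw [← map_add, he, he, he]

end Cfsg.Agent.Lib.Helper2.OrthNd
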