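import Mathlib
import Cfsg.Agent.Lib.Helper2.OrthNdA

set_option autoImplicit false

/-!
Classification of nondegenerate quadratic spaces over a finite field of odd characteristic by
dimension and discriminant character.
-/

namespace Cfsg.Agent.Lib.Helper2.OrthNd

open Module QuadraticMap
open Cfsg.Agent.Lib.Helper2.MaxTS2 Cfsg.Agent.Lib.Helper2.OrthEl
open Cfsg.Agent.Lib.Helper1.DiagForm

variable {F : Type*} [Field F] [Fintype F] [DecidableEq F]
variable {V : Type*} [AddCommGroup V] [Module F V] [FiniteDimensional F V]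
variable {V₂ : Type*} [AddCommGroup V₂] [Module F V₂] [FiniteDimensional F V₂]

theorem quadraticChar_two_pow_mul (h2 : (2 : F) ≠ 0) {ι : Type*} [Fintype ι] (w : ι → F) :
    quadraticChar F (∏ i, 2 * w i) =
      (quadraticChar F 2) ^ (Fintype.card ι) * quadraticChar F (∏ i, w i) := by
  rw [Finset.prod_mul_distrib, Finset.prod_const, Finset.card_univ, map_mul, map_pow]

/-- two nondegenerate spaces of the same dimension and discriminant character are isometric -/
theorem exists_isometry (h2 : (2 : F) ≠ 0) {Q : QuadraticForm F V} {Q₂ : QuadraticForm F V₂}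
    (hQ : (polarBilin Q).Nondegenerate) (hQ₂ : (polarBilin Q₂).Nondegenerate)
    (hdim : finrank F V = finrank F V₂) (hd : dch Q = dch Q₂) :
    ∃ e : V ≃ₗ[F] V₂, ∀ v, Q₂ (e v) = Q v := by
  classical
  obtain ⟨b₁, hb₁, hne₁⟩ := exists_orthogonal_basis' h2 hQ
  obtain ⟨b₂', hb₂', hne₂'⟩ := exists_orthogonal_basis' h2 hQ₂
  set b₂ : Basis (Fin (finrank F V)) F V₂ := b₂'.reindex (finCongr hdim.symm) with hb₂def
  have hbi : ∀ i, b₂ i = b₂' ((finCongr hdim.symm).symm i) := fun i => Basis.reindex_apply b₂' _ i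
  have hb₂ : ∀ i j, i ≠ j → polar (⇑Q₂) (b₂ i) (b₂ j) = 0 := by
    intro i j hij
    rw [hbi, hbi]
    exact hb₂' _ _ (fun h => hij ((finCongr hdim.symm).symm.injective h))
  have hne₂ : ∀ i, Q₂ (b₂ i) ≠ 0 := by
    intro i
    rw [hbi]
    exact hne₂' _
  rcases Nat.eq_zero_or_pos (finrank F V) with h0 | hpos
  · -- trivial spaces
    have hV : ∀ v : V, v = 0 := by
      intro v
      haveI : Subsingleton V := Module.finrank_zero_iff.1 h0
      exact Subsingleton.elim _ _
    have hV₂ : ∀ v : V₂, v = 0 := by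
      intro v
      haveI : Subsingleton V₂ := Module.finrank_zero_iff.1 (hdim ▸ h0)
      exact Subsingleton.elim _ _
    refine ⟨LinearEquiv.ofFinrankEq V V₂ hdim, ?_⟩
    intro v
    rw [hV v, hV₂ (LinearEquiv.ofFinrankEq V V₂ hdim 0), map_zero, map_zero]
  · set j₀ : Fin (finrank F V) := ⟨0, hpos⟩ with hj₀
    set w₁ : Fin (finrank F V) → F := fun i => Q (b₁ i) with hw₁
    set w₂ : Fin (finrank F V) → F := fun i => Q₂ (b₂ i) with hw₂
    have hP₁ : (∏ i, w₁ i) ≠ 0 := Finset.prod_ne_zero_iff.2 (fun i _ => hne₁ i)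
    have hP₂ : (∏ i, w₂ i) ≠ 0 := Finset.prod_ne_zero_iff.2 (fun i _ => hne₂ i)
    obtain ⟨e₁, he₁⟩ := exists_equiv_wss_single h2 w₁ hne₁ j₀
    obtain ⟨e₂, he₂⟩ := exists_equiv_wss_single h2 w₂ hne₂ j₀
    -- the discriminants differ by a square
    have hχ : quadraticChar F (∏ i, w₁ i) = quadraticChar F (∏ i, w₂ i) := by
      rw [dch_of_orthogonal Q b₁ hb₁, dch_of_orthogonal Q₂ b₂ hb₂, quadraticChar_two_pow_mul h2,
        quadraticChar_two_pow_mul h2] at hd
      have h3 : (quadraticChar F (2 : F)) ^ (Fintype.card (Fin (finrank F V))) ≠ 0 :=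
        pow_ne_zero _ (fun h => h2 (quadraticChar_eq_zero_iff.1 h))
      exact mul_left_cancel₀ h3 hd
    have hsq : IsSquare ((∏ i, w₁ i) / (∏ i, w₂ i)) := by
      rw [← quadraticChar_one_iff_isSquare (div_ne_zero hP₁ hP₂), div_eq_mul_inv, map_mul, hχ,
        ← map_mul, mul_inv_cancel₀ hP₂, map_one]
    obtain ⟨t, ht⟩ := hsq
    have ht0 : t ≠ 0 := by
      rintro rfl
      rw [mul_zero] at ht
      exact div_ne_zero hP₁ hP₂ ht
    have hP : t ^ 2 * (∏ i, w₂ i) = ∏ i, w₁ i := by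
      rw [pow_two, ← ht, div_mul_cancel₀ _ hP₂]
    refine ⟨(((b₁.equivFun.trans e₁.symm).trans (scaleAt j₀ t ht0)).trans e₂).trans
      b₂.equivFun.symm, ?_⟩
    intro v
    rw [eq_wss_of_orthogonal b₂ hb₂, eq_wss_of_orthogonal b₁ hb₁]
    simp only [LinearEquiv.trans_apply, LinearEquiv.apply_symm_apply]
    rw [he₂, wss_scaleAt, hP, ← he₁, LinearEquiv.apply_symm_apply]

end Cfsg.Agent.Lib.Helper2.OrthNd
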