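import Mathlib
import Cfsg.Agent.Lib.Helper2.OrthNdB

set_option autoImplicit false

/-!
Orthogonal frames, the discriminant character of a subspace, orthogonal sums.
-/

namespace Cfsg.Agent.Lib.Helper2.OrthNd

open Module QuadraticMap
open Cfsg.Agent.Lib.Helper2.MaxTS2 Cfsg.Agent.Lib.Helper2.OrthEl

section general

variable {F : Type*} [Field F]
variable {V : Type*} [AddCommGroup V] [Module F V]

/-- an orthogonal family of non-singular vectors -/
def IsFrame (Q : QuadraticForm F V) {ι : Type*} (v : ι → V) : Prop :=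
  (∀ i j, i ≠ j → polar (⇑Q) (v i) (v j) = 0) ∧ ∀ i, Q (v i) ≠ 0

variable {Q : QuadraticForm F V}

theorem polar_comp_sub (N : Submodule F V) (a b : ↥N) :
    polar (⇑(Q.comp N.subtype)) a b = polar (⇑Q) (a : V) (b : V) := by
  unfold polar
  simp only [QuadraticMap.comp_apply, map_add, Submodule.subtype_apply]

theorem polar_sum_right {ι : Type*} (s : Finset ι) (c : ι → F) (g : ι → V) (x : V) :
    polar (⇑Q) x (∑ i ∈ s, c i • g i) = ∑ i ∈ s, c i * polar (⇑Q) x (g i) := by
  have h : ∀ z, polar (⇑Q) x z = polarBilin Q x z := fun z => rfl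
  rw [h, map_sum]
  apply Finset.sum_congr rfl
  intro i _
  rw [map_smul, smul_eq_mul]
  rfl

theorem IsFrame.linearIndependent (h2 : (2 : F) ≠ 0) {ι : Type*} [Fintype ι] [DecidableEq ι]
    {v : ι → V} (hv : IsFrame Q v) : LinearIndependent F v := by
  rw [Fintype.linearIndependent_iff]
  intro c hc j
  have h1 : polar (⇑Q) (v j) (∑ i, c i • v i) = 0 := by
    rw [hc, polar_zero_right]
  rw [polar_sum_right, Finset.sum_eq_single j] at h1
  · rw [polar_self, two_smul, ← two_mul] at h1
    rcases mul_eq_zero.1 h1 with h | h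
    · exact h
    · exfalso
      rcases mul_eq_zero.1 h with h' | h'
      · exact h2 h'
      · exact hv.2 j h'
  · intro i _ hij
    rw [hv.1 j i (Ne.symm hij), mul_zero]
  · intro h
    exact absurd (Finset.mem_univ j) h

end general

variable {F : Type*} [Field F] [Fintype F] [DecidableEq F]
variable {V : Type*} [AddCommGroup V] [Module F V] [FiniteDimensional F V]
variable {Q : QuadraticForm F V}

/-- the discriminant character of a subspace -/
noncomputable def dchS (Q : QuadraticForm F V) (W : Submodule F V) : ℤ :=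
  dch (Q.comp W.subtype)

omit [Fintype F] [DecidableEq F] in
theorem ndeg_of_restrict {W : Submodule F V}
    (h : (polarBilin (Q.comp W.subtype)).Nondegenerate) : NDeg Q W := by
  unfold NDeg
  rw [Submodule.disjoint_def]
  intro w hw hw'
  have h1 : (⟨w, hw⟩ : ↥W) = 0 := by
    apply h.2
    intro x
    rw [polarBilin_apply_apply, polar_comp_sub]
    exact hw' x x.2
  exact congrArg Subtype.val h1

/-- the span of a frame -/
theorem IsFrame.span (h2 : (2 : F) ≠ 0) {ι : Type*} [Fintype ι] [DecidableEq ι]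
    {v : ι → V} (hv : IsFrame Q v) :
    NDeg Q (Submodule.span F (Set.range v)) ∧
      finrank F ↥(Submodule.span F (Set.range v)) = Fintype.card ι ∧
      dchS Q (Submodule.span F (Set.range v)) = quadraticChar F (∏ i, 2 * Q (v i)) := by
  have hli := hv.linearIndependent h2
  set b := Basis.span hli with hb
  have hbi : ∀ i, ((b i : ↥(Submodule.span F (Set.range v))) : V) = v i := fun i =>
    congrArg Subtype.val (Basis.span_apply hli i)
  have horth : ∀ i j, i ≠ j → polar (⇑(Q.comp (Submodule.span F (Set.range v)).subtype)) (b i) (b j)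
      = 0 := by
    intro i j hij
    rw [polar_comp_sub, hbi, hbi]
    exact hv.1 i j hij
  have hQb : ∀ i, (Q.comp (Submodule.span F (Set.range v)).subtype) (b i) = Q (v i) := by
    intro i
    rw [QuadraticMap.comp_apply, Submodule.subtype_apply, hbi]
  have hM := toMatrix_of_orthogonal _ b horth
  have hdet : (LinearMap.BilinForm.toMatrix b
      (polarBilin (Q.comp (Submodule.span F (Set.range v)).subtype))).det = ∏ i, 2 * Q (v i) := by
    rw [hM, Matrix.det_diagonal]
    apply Finset.prod_congr rfl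
    intro i _
    rw [hQb]
  have hne : (∏ i, 2 * Q (v i)) ≠ 0 :=
    Finset.prod_ne_zero_iff.2 (fun i _ => mul_ne_zero h2 (hv.2 i))
  refine ⟨?_, ?_, ?_⟩
  · apply ndeg_of_restrict
    apply PlusType.nondegenerate_of_det_ne_zero b
    rw [hdet]
    exact hne
  · exact finrank_span_eq_card hli
  · unfold dchS
    rw [← dch_eq_of_basis _ b, hdet]

/-- a nondegenerate subspace is spanned by a frame -/
theorem exists_frame (h2 : (2 : F) ≠ 0) {W : Submodule F V} (hW : NDeg Q W) :
    ∃ v : Fin (finrank F W) → V, IsFrame Q v ∧ Submodule.span F (Set.range v) = W := by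
  obtain ⟨b₀, hb₀, hne₀⟩ := exists_orthogonal_basis' (Q := Q.comp W.subtype) h2 hW.restrict
  refine ⟨fun i => (b₀ i : V), ⟨?_, ?_⟩, ?_⟩
  · intro i j hij
    rw [← polar_comp_sub]
    exact hb₀ i j hij
  · intro i
    exact hne₀ i
  · have : Set.range (fun i => (b₀ i : V)) = W.subtype '' Set.range b₀ := by
      rw [← Set.range_comp]
      rfl
    rw [this, ← Submodule.map_span, b₀.span_eq, Submodule.map_top, Submodule.range_subtype]

/-- orthogonal sums -/
theorem dchS_sup (h2 : (2 : F) ≠ 0) {W₁ W₂ : Submodule F V} (h₁ : NDeg Q W₁) (h₂ : NDeg Q W₂)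
    (horth : W₁ ≤ perp Q W₂) :
    NDeg Q (W₁ ⊔ W₂) ∧ finrank F ↥(W₁ ⊔ W₂) = finrank F W₁ + finrank F W₂ ∧
      dchS Q (W₁ ⊔ W₂) = dchS Q W₁ * dchS Q W₂ := by
  classical
  obtain ⟨v₁, hv₁, hs₁⟩ := exists_frame h2 h₁
  obtain ⟨v₂, hv₂, hs₂⟩ := exists_frame h2 h₂
  have hmem₁ : ∀ i, v₁ i ∈ W₁ := fun i => by
    rw [← hs₁]; exact Submodule.subset_span (Set.mem_range_self i)
  have hmem₂ : ∀ i, v₂ i ∈ W₂ := fun i => by
    rw [← hs₂]; exact Submodule.subset_span (Set.mem_range_self i)
  have hv : IsFrame Q (Sum.elim v₁ v₂) := by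
    refine ⟨?_, ?_⟩
    · rintro (i | i) (j | j) hij
      · exact hv₁.1 i j (fun h => hij (congrArg Sum.inl h))
      · show polar (⇑Q) (v₁ i) (v₂ j) = 0
        rw [polar_comm]
        exact horth (hmem₁ i) (v₂ j) (hmem₂ j)
      · show polar (⇑Q) (v₂ i) (v₁ j) = 0
        exact horth (hmem₁ j) (v₂ i) (hmem₂ i)
      · exact hv₂.1 i j (fun h => hij (congrArg Sum.inr h))
    · rintro (i | i)
      · exact hv₁.2 i
      · exact hv₂.2 i
  have hspan : Submodule.span F (Set.range (Sum.elim v₁ v₂)) = W₁ ⊔ W₂ := by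
    rw [Set.Sum.elim_range, Submodule.span_union, hs₁, hs₂]
  obtain ⟨g1, g2, g3⟩ := hv.span h2
  obtain ⟨-, -, k3⟩ := hv₁.span h2
  obtain ⟨-, -, l3⟩ := hv₂.span h2
  rw [hspan] at g1 g2 g3
  rw [hs₁] at k3
  rw [hs₂] at l3
  refine ⟨g1, ?_, ?_⟩
  · rw [g2, Fintype.card_sum, Fintype.card_fin, Fintype.card_fin]
  · rw [g3, k3, l3, Fintype.prod_sum_type, map_mul]
    rfl

end Cfsg.Agent.Lib.Helper2.OrthNd
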