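import Mathlib
import Cfsg.Agent.Lib.Helper2.OrthNdC

set_option autoImplicit false

/-!
Plus type of a nondegenerate subspace in terms of the discriminant character; nondegenerate
subspaces of prescribed dimension and discriminant character inside a nondegenerate subspace.
-/

namespace Cfsg.Agent.Lib.Helper2.OrthNd

open Module QuadraticMap
open Cfsg.Agent.Lib.Helper2.MaxTS2 Cfsg.Agent.Lib.Helper2.OrthEl
open Cfsg.Agent.Lib.Helper1.DiagForm

variable {F : Type*} [Field F] [Fintype F] [DecidableEq F]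
variable {V : Type*} [AddCommGroup V] [Module F V] [FiniteDimensional F V]
variable {Q : QuadraticForm F V}

/-- plus type: a totally singular subspace of half the dimension -/
def PlusS (Q : QuadraticForm F V) (W : Submodule F V) : Prop :=
  ∃ U : Submodule F V, U ≤ W ∧ IsTS Q U ∧ 2 * finrank F U = finrank F W

theorem plusS_iff (h2 : (2 : F) ≠ 0) {W : Submodule F V} (hW : NDeg Q W) (a : ℕ)
    (hdim : finrank F W = 2 * a) : PlusS Q W ↔ dchS Q W = (quadraticChar F (-1)) ^ a := by
  unfold dchS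
  rw [← plus_iff h2 hW.restrict a hdim]
  constructor
  · rintro ⟨U, hUW, hU, hUdim⟩
    refine ⟨U.comap W.subtype, ?_, ?_⟩
    · rw [(Submodule.comapSubtypeEquivOfLe hUW).finrank_eq]
      omega
    · intro x hx
      exact hU _ hx
  · rintro ⟨X, hXdim, hX⟩
    refine ⟨X.map W.subtype, Submodule.map_subtype_le _ _, ?_, ?_⟩
    · rintro _ ⟨x, hx, rfl⟩
      exact hX x hx
    · rw [Submodule.finrank_map_subtype_eq, hXdim, hdim]

theorem dchS_dichotomy {W : Submodule F V} (hW : NDeg Q W) : dchS Q W = 1 ∨ dchS Q W = -1 :=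
  dch_dichotomy hW.restrict

theorem dchS_bot (h2 : (2 : F) ≠ 0) : dchS Q (⊥ : Submodule F V) = 1 := by
  have hv : IsFrame Q (fun i : Fin 0 => (0 : V)) := ⟨fun i => i.elim0, fun i => i.elim0⟩
  obtain ⟨-, -, h3⟩ := hv.span h2
  have : Submodule.span F (Set.range (fun i : Fin 0 => (0 : V))) = ⊥ := by
    rw [Set.range_eq_empty, Submodule.span_empty]
  rw [this] at h3
  rw [h3, Finset.univ_eq_empty, Finset.prod_empty, map_one]

/-- nondegenerate subspaces of every dimension -/
theorem exists_ndeg_of_le (h2 : (2 : F) ≠ 0) {M : Submodule F V} (hM : NDeg Q M) (b : ℕ)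
    (hb : b ≤ finrank F M) : ∃ W : Submodule F V, W ≤ M ∧ NDeg Q W ∧ finrank F W = b := by
  classical
  obtain ⟨u, hu, hs⟩ := exists_frame h2 hM
  have huM : ∀ i, u i ∈ M := fun i => by
    rw [← hs]; exact Submodule.subset_span (Set.mem_range_self i)
  have hv : IsFrame Q (fun j : Fin b => u ⟨j.1, lt_of_lt_of_le j.2 hb⟩) := by
    refine ⟨?_, fun j => hu.2 _⟩
    intro i j hij
    apply hu.1
    intro h
    apply hij
    exact Fin.ext (Fin.mk.inj_iff.1 h)
  obtain ⟨g1, g2, -⟩ := hv.span h2
  refine ⟨_, ?_, g1, ?_⟩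
  · rw [Submodule.span_le]
    rintro _ ⟨j, rfl⟩
    exact huM _
  · rw [g2, Fintype.card_fin]

/-- nondegenerate proper subspaces of prescribed discriminant character -/
theorem exists_ndeg_sub (h2 : (2 : F) ≠ 0) {M : Submodule F V} (hM : NDeg Q M) (b : ℕ)
    (hb0 : 0 < b) (hb : b < finrank F M) (s : ℤ) (hs : s = 1 ∨ s = -1) :
    ∃ W : Submodule F V, W ≤ M ∧ NDeg Q W ∧ finrank F W = b ∧ dchS Q W = s := by
  classical
  obtain ⟨u, hu, hsp⟩ := exists_frame h2 hM
  have huM : ∀ i, u i ∈ M := fun i => by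
    rw [← hsp]; exact Submodule.subset_span (Set.mem_range_self i)
  set i₁ : Fin (finrank F M) := ⟨b - 1, by omega⟩ with hi₁
  set i₂ : Fin (finrank F M) := ⟨b, hb⟩ with hi₂
  have h12 : i₁ ≠ i₂ := by
    intro h
    have := congrArg Fin.val h
    simp only [hi₁, hi₂] at this
    omega
  set u' : Fin (b - 1) → V := fun j => u ⟨j.1, by omega⟩ with hu'
  have hu'1 : ∀ j : Fin (b - 1), (⟨j.1, by omega⟩ : Fin (finrank F M)) ≠ i₁ := by
    intro j h
    have := congrArg Fin.val h
    simp only [hi₁] at this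
    omega
  have hu'2 : ∀ j : Fin (b - 1), (⟨j.1, by omega⟩ : Fin (finrank F M)) ≠ i₂ := by
    intro j h
    have := congrArg Fin.val h
    simp only [hi₂] at this
    omega
  set P : F := ∏ j, 2 * Q (u' j) with hP
  have hP0 : P ≠ 0 := Finset.prod_ne_zero_iff.2 (fun j _ => mul_ne_zero h2 (hu.2 _))
  -- the target value
  obtain ⟨τ, hτ⟩ : ∃ τ : F, quadraticChar F τ = s := by
    rcases hs with hs | hs
    · exact ⟨1, by rw [map_one, hs]⟩
    · have hF : ringChar F ≠ 2 := by
        intro h
        apply h2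
        have := CharP.cast_eq_zero F (ringChar F)
        rw [h] at this
        exact_mod_cast this
      obtain ⟨τ, hτ⟩ := quadraticChar_exists_neg_one hF
      exact ⟨τ, by rw [hτ, hs]⟩
  have hτ0 : τ ≠ 0 := by
    rintro rfl
    rw [quadraticChar_zero] at hτ
    rcases hs with hs | hs <;> omega
  obtain ⟨s₁, t₁, hst⟩ := diag_universal' h2 (hu.2 i₁) (hu.2 i₂) (τ / (2 * P))
  set w : V := s₁ • u i₁ + t₁ • u i₂ with hw
  have hQw : Q w = τ / (2 * P) := by
    rw [hw, QuadraticMap.map_add Q, QuadraticMap.map_smul, QuadraticMap.map_smul, polar_smul_left,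
      polar_smul_right, hu.1 i₁ i₂ h12, ← hst]
    simp only [smul_eq_mul, mul_zero, add_zero]
    ring
  have hQw0 : Q w ≠ 0 := by
    rw [hQw]
    exact div_ne_zero hτ0 (mul_ne_zero h2 hP0)
  have hwM : w ∈ M := M.add_mem (M.smul_mem _ (huM _)) (M.smul_mem _ (huM _))
  have hwu : ∀ j : Fin (b - 1), polar (⇑Q) (u' j) w = 0 := by
    intro j
    rw [hw, polar_add_right, polar_smul_right, polar_smul_right, hu.1 _ i₁ (hu'1 j),
      hu.1 _ i₂ (hu'2 j), smul_zero, smul_zero, add_zero]
  have hv : IsFrame Q (fun o : Option (Fin (b - 1)) => o.elim w u') := by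
    refine ⟨?_, ?_⟩
    · rintro (_ | i) (_ | j) hij
      · exact absurd rfl hij
      · show polar (⇑Q) w (u' j) = 0
        rw [polar_comm]
        exact hwu j
      · exact hwu i
      · show polar (⇑Q) (u' i) (u' j) = 0
        apply hu.1
        intro h
        apply hij
        have := congrArg Fin.val h
        simp only at this
        exact congrArg some (Fin.ext this)
    · rintro (_ | i)
      · exact hQw0
      · exact hu.2 _
  obtain ⟨g1, g2, g3⟩ := hv.span h2
  refine ⟨_, ?_, g1, ?_, ?_⟩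
  · rw [Submodule.span_le]
    rintro _ ⟨(_ | j), rfl⟩
    · exact hwM
    · exact huM _
  · rw [g2, Fintype.card_option, Fintype.card_fin]
    omega
  · rw [g3, Fintype.prod_option]
    show quadraticChar F (2 * Q w * ∏ j, 2 * Q (u' j)) = s
    rw [← hP, hQw, ← hτ]
    congr 1
    field_simp

end Cfsg.Agent.Lib.Helper2.OrthNd
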