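import Mathlib
import Cfsg.Agent.Lib.Helper2.OrthNdD
import Cfsg.Agent.Lib.Helper2.QuadStd
import Cfsg.Agent.Lib.Helper2.MaxTS3
import Cfsg.Agent.S0289
import Cfsg.Agent.S0290

set_option autoImplicit false

/-!
The number of singular vectors of a nondegenerate even dimensional quadratic space over a finite
field of odd characteristic, in terms of its discriminant character.
-/

namespace Cfsg.Agent.Lib.Helper2.OrthNd

open Module QuadraticMap
open Cfsg.Agent.Lib.Helper2.MaxTS2 Cfsg.Agent.Lib.Helper2.OrthEl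
open Cfsg.Agent.Lib.Helper5.QuadGlue

variable {F : Type*} [Field F] [Fintype F] [DecidableEq F]
variable {V : Type*} [AddCommGroup V] [Module F V] [FiniteDimensional F V]
variable {Q : QuadraticForm F V}

theorem finrank_plus_space (a : ℕ) : finrank F (Fin a ⊕ Fin a → F) = 2 * a := by
  rw [Module.finrank_fintype_fun_eq_card]
  simp only [Fintype.card_sum, Fintype.card_fin]
  ring

theorem finrank_minus_space (a : ℕ) : finrank F ((Fin a ⊕ Fin a) ⊕ Fin 2 → F) = 2 * (a + 1) := by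
  rw [Module.finrank_fintype_fun_eq_card]
  simp only [Fintype.card_sum, Fintype.card_fin]
  ring

theorem dch_QP (h2 : (2 : F) ≠ 0) (a : ℕ) : dch (QP a F) = (quadraticChar F (-1)) ^ a := by
  rw [← plus_iff h2 (QuadStd.QP_nondeg a) a (finrank_plus_space a)]
  refine ⟨coordSub F (S1 a), finrank_W1, ?_⟩
  intro x hx
  rw [QP_apply]
  exact Q_W1 x hx

/-- singular vectors of a space of plus type -/
theorem card_singular_plus (h2 : (2 : F) ≠ 0) (hQ : (polarBilin Q).Nondegenerate) (a : ℕ)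
    (ha : 1 ≤ a) (hdim : finrank F V = 2 * a) (hd : dch Q = (quadraticChar F (-1)) ^ a) :
    Nat.card {v : V // Q v = 0} =
      Fintype.card F ^ (2 * a - 1) + Fintype.card F ^ a - Fintype.card F ^ (a - 1) := by
  obtain ⟨e, he⟩ := exists_isometry h2 hQ (QuadStd.QP_nondeg a)
    (by rw [hdim, finrank_plus_space]) (by rw [hd, dch_QP h2])
  rw [← Cfsg.Agent.S0289.result (F := F) rfl a ha]
  apply Nat.card_congr
  refine ⟨fun v => ⟨e v.1, by rw [← QP_apply, he, v.2]⟩, fun u => ⟨e.symm u.1, ?_⟩, ?_, ?_⟩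
  · have := he (e.symm u.1)
    rw [LinearEquiv.apply_symm_apply, QP_apply, u.2] at this
    exact this.symm
  · intro v
    apply Subtype.ext
    exact e.symm_apply_apply _
  · intro u
    apply Subtype.ext
    exact e.apply_symm_apply _

theorem exists_aniso (h2 : (2 : F) ≠ 0) :
    ∃ b : F, ∀ z₁ z₂ : F, z₁ ^ 2 + 0 * z₁ * z₂ + b * z₂ ^ 2 = 0 → z₁ = 0 ∧ z₂ = 0 := by
  have hF : ringChar F ≠ 2 := by
    intro h
    apply h2
    have := CharP.cast_eq_zero F (ringChar F)
    rw [h] at this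
    exact_mod_cast this
  obtain ⟨δ, hδ⟩ := FiniteField.exists_nonsquare hF
  refine ⟨-δ, ?_⟩
  intro z₁ z₂ h
  by_cases hz : z₂ = 0
  · subst hz
    refine ⟨?_, rfl⟩
    have : z₁ ^ 2 = 0 := by linear_combination h
    exact pow_eq_zero_iff (two_ne_zero) |>.1 this
  · exfalso
    apply hδ
    refine ⟨z₁ / z₂, ?_⟩
    field_simp
    linear_combination -h

theorem pow_facts (q a : ℕ) (hq : 2 ≤ q) (ha : 1 ≤ a) :
    q ^ (a - 1) < q ^ a ∧ q ^ a ≤ q ^ (2 * a - 1) := by
  constructor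
  · exact Nat.pow_lt_pow_right (by omega) (by omega)
  · exact Nat.pow_le_pow_right (by omega) (by omega)

theorem dch_QM (h2 : (2 : F) ≠ 0) (a : ℕ) (a₀ b₀ : F)
    (hab : ∀ z₁ z₂ : F, z₁ ^ 2 + a₀ * z₁ * z₂ + b₀ * z₂ ^ 2 = 0 → z₁ = 0 ∧ z₂ = 0) :
    dch (QM a F a₀ b₀) = -(quadraticChar F (-1)) ^ (a + 1) := by
  have hnd := QuadStd.QM_nondeg h2 a a₀ b₀ hab
  have hm1 : (-1 : F) ≠ 0 := neg_ne_zero.2 one_ne_zero
  have hχ : quadraticChar F (-1) = 1 ∨ quadraticChar F (-1) = -1 := quadraticChar_dichotomy hm1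
  have hχ' : (quadraticChar F (-1)) ^ (a + 1) = 1 ∨ (quadraticChar F (-1)) ^ (a + 1) = -1 := by
    rcases hχ with h | h
    · left; rw [h, one_pow]
    · rw [h]
      exact neg_one_pow_eq_or ℤ (a + 1)
  by_contra hne
  have hd : dch (QM a F a₀ b₀) = (quadraticChar F (-1)) ^ (a + 1) := by
    rcases dch_dichotomy hnd with h | h <;> rcases hχ' with h' | h'
    · rw [h, h']
    · exfalso; apply hne; rw [h, h']; norm_num
    · exfalso; apply hne; rw [h, h']
    · rw [h, h']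
  have h1 := card_singular_plus h2 hnd (a + 1) (by omega) (finrank_minus_space a) hd
  have h3 := Cfsg.Agent.S0290.result (F := F) rfl (a + 1) (by omega) a₀ b₀ hab
  rw [Nat.add_sub_cancel] at h3
  have h4 : Nat.card {v : (Fin a ⊕ Fin a) ⊕ Fin 2 → F // (QM a F a₀ b₀) v = 0} =
      Nat.card {v : (Fin a ⊕ Fin a) ⊕ Fin 2 → F // Cfsg.quadFormMinus a F a₀ b₀ v = 0} := by
    apply Nat.card_congr
    exact Equiv.subtypeEquivRight (fun v => by rw [QM_apply])
  rw [h4, h3, Nat.add_sub_cancel] at h1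
  obtain ⟨g1, g2⟩ := pow_facts (Fintype.card F) (a + 1) Fintype.one_lt_card (by omega)
  rw [Nat.add_sub_cancel] at g1
  omega

/-- singular vectors of a space of minus type -/
theorem card_singular_minus (h2 : (2 : F) ≠ 0) (hQ : (polarBilin Q).Nondegenerate) (a : ℕ)
    (ha : 1 ≤ a) (hdim : finrank F V = 2 * a) (hd : dch Q = -(quadraticChar F (-1)) ^ a) :
    Nat.card {v : V // Q v = 0} =
      Fintype.card F ^ (2 * a - 1) + Fintype.card F ^ (a - 1) - Fintype.card F ^ a := by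
  obtain ⟨a', rfl⟩ : ∃ a', a = a' + 1 := ⟨a - 1, by omega⟩
  obtain ⟨b₀, hab⟩ := exists_aniso (F := F) h2
  obtain ⟨e, he⟩ := exists_isometry h2 hQ (QuadStd.QM_nondeg h2 a' 0 b₀ hab)
    (by rw [hdim, finrank_minus_space]) (by rw [hd, dch_QM h2 a' 0 b₀ hab])
  have h3 : Nat.card {v : (Fin a' ⊕ Fin a') ⊕ Fin 2 → F // Cfsg.quadFormMinus a' F 0 b₀ v = 0} =
      Fintype.card F ^ (2 * (a' + 1) - 1) + Fintype.card F ^ (a' + 1 - 1) -
        Fintype.card F ^ (a' + 1) :=
    Cfsg.Agent.S0290.result (F := F) rfl (a' + 1) (by omega) 0 b₀ hab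
  rw [← h3]
  apply Nat.card_congr
  refine ⟨fun v => ⟨e v.1, by rw [← QM_apply, he, v.2]⟩,
    fun u => ⟨e.symm u.1, ?_⟩, ?_, ?_⟩
  · have := he (e.symm u.1)
    rw [LinearEquiv.apply_symm_apply, QM_apply, u.2] at this
    exact this.symm
  · intro v
    apply Subtype.ext
    exact e.symm_apply_apply _
  · intro u
    apply Subtype.ext
    exact e.apply_symm_apply _

end Cfsg.Agent.Lib.Helper2.OrthNd
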