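import Mathlib
import Cfsg.Agent.Lib.Helper2.OrthNdE
import Cfsg.Agent.Lib.Helper2.OrthElE

set_option autoImplicit false

/-!
The type of an invariant nondegenerate subspace of the cyclotomic kernel of an isometry of odd
prime order `r ≠ p`.
-/

namespace Cfsg.Agent.Lib.Helper2.OrthNd

open Module QuadraticMap Polynomial
open Cfsg.Agent.Lib.Helper2.MaxTS2 Cfsg.Agent.Lib.Helper2.OrthEl
open Cfsg.Agent.H9SemiInv
open Cfsg.Agent.Lib.Helper9.H9Elus

section count

variable {F : Type*} [Field F] [Fintype F] {p : ℕ} [Fact p.Prime] [CharP F p]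
variable {V : Type*} [AddCommGroup V] [Module F V] [FiniteDimensional F V]
variable {Q : QuadraticForm F V} {y : V →ₗ[F] V}

/-- an isometry of prime order `r ≠ p` acts freely on the nonzero singular vectors of an invariant
subspace of its cyclotomic kernel -/
theorem card_singular_modEq (hiso : ∀ v, Q (y v) = Q v) (r : ℕ) [Fact r.Prime] (hrp : r ≠ p)
    (hy : y ^ r = 1) (W : Submodule F V) (hWV : W ≤ cycS y r) (hW : Inv y W) :
    Nat.card {w : ↥W // (Q.comp W.subtype) w = 0} ≡ 1 [MOD r] := by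
  classical
  haveI : Finite V := Module.finite_of_finite F
  haveI : Fintype {w : ↥W // (Q.comp W.subtype) w = 0} := Fintype.ofFinite _
  rw [Nat.card_eq_fintype_card]
  let f : Function.End {w : ↥W // (Q.comp W.subtype) w = 0} := fun w =>
    ⟨⟨y w.1.1, hW _ w.1.2⟩, by
      have := w.2
      rw [QuadraticMap.comp_apply, Submodule.subtype_apply] at this ⊢
      rw [hiso]
      exact this⟩
  have hfpow : ∀ k : ℕ, ∀ w, (((f ^ k) w).1 : V) = (y ^ k) w.1.1 := by
    intro k
    induction k with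
    | zero =>
      intro w
      rw [pow_zero, pow_zero, Module.End.one_apply]
      rfl
    | succ k ih =>
      intro w
      rw [pow_succ', pow_succ']
      show (((f ((f ^ k) w)).1 : ↥W) : V) = _
      rw [Module.End.mul_apply, ← ih]
  have hf : f ^ r ^ 1 = 1 := by
    rw [pow_one]
    funext w
    apply Subtype.ext
    apply Subtype.ext
    rw [hfpow, hy, Module.End.one_apply]
    rfl
  have h1 := Equiv.Perm.card_fixedPoints_modEq (p := r) (n := 1) hf
  have h3 : Fintype.card (Function.fixedPoints f) = 1 := by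
    rw [Fintype.card_eq_one_iff]
    refine ⟨⟨⟨0, by rw [map_zero]⟩, ?_⟩, ?_⟩
    · show f _ = _
      apply Subtype.ext
      apply Subtype.ext
      show y ((0 : ↥W) : V) = ((0 : ↥W) : V)
      rw [Submodule.coe_zero, map_zero]
    · rintro ⟨w, hw⟩
      apply Subtype.ext
      apply Subtype.ext
      apply Subtype.ext
      show (w.1 : V) = ((0 : ↥W) : V)
      rw [Submodule.coe_zero]
      apply eq_zero_of_fix_of_cyc r hrp hy (v := (w.1 : V))
      · have := congrArg (fun s : {w : ↥W // (Q.comp W.subtype) w = 0} => ((s.1 : ↥W) : V)) hw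
        exact this
      · exact hWV w.1.2
  rw [h3] at h1
  exact h1

end count

section arith

/-- the residue of `q^h` when the order of `q` modulo `r` is `2h` -/
theorem pow_half_eq_neg_one (q r h : ℕ) [Fact r.Prime] (hi : orderOf ((q : ℕ) : ZMod r) = 2 * h)
    (hh : 1 ≤ h) : ((q : ℕ) : ZMod r) ^ h = -1 := by
  have h1 : (((q : ℕ) : ZMod r) ^ h) ^ 2 = 1 := by
    rw [← pow_mul, mul_comm, ← hi]
    exact pow_orderOf_eq_one _
  have h3 : ((q : ℕ) : ZMod r) ^ h ≠ 1 := by
    intro h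
    have := orderOf_dvd_of_pow_eq_one h
    rw [hi] at this
    have := Nat.le_of_dvd (by omega) this
    omega
  rw [pow_two] at h1
  rcases mul_self_eq_one_iff.1 h1 with h4 | h4
  · exact absurd h4 h3
  · exact h4

theorem arith_plus (q r h j : ℕ) [Fact r.Prime] (hr2 : r ≠ 2) (hq : 2 ≤ q)
    (hi : orderOf ((q : ℕ) : ZMod r) = 2 * h) (hh : 1 ≤ h) (hj : 1 ≤ j)
    (hmod : q ^ (2 * (h * j) - 1) + q ^ (h * j) - q ^ (h * j - 1) ≡ 1 [MOD r]) : Even j := by
  by_contra hodd
  rw [Nat.not_even_iff_odd] at hodd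
  have ha : 1 ≤ h * j := Nat.mul_pos hh hj
  set a := h * j with ha_def
  have hx : ((q : ℕ) : ZMod r) ^ a = -1 := by
    rw [ha_def, pow_mul, pow_half_eq_neg_one q r h hi hh, hodd.neg_one_pow]
  have hle : q ^ (a - 1) ≤ q ^ (2 * a - 1) + q ^ a :=
    (Nat.pow_le_pow_right (by omega) (by omega)).trans (Nat.le_add_left _ _)
  have h1 := (ZMod.natCast_eq_natCast_iff _ _ _).2 hmod
  rw [Nat.cast_sub hle] at h1
  push_cast at h1
  have h3 : ((q : ℕ) : ZMod r) * ((q : ZMod r) ^ (2 * a - 1) + (q : ZMod r) ^ a - (q : ZMod r) ^ (a - 1))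
      = (q : ZMod r) := by rw [h1, mul_one]
  have e1 : ((q : ℕ) : ZMod r) * (q : ZMod r) ^ (2 * a - 1) = ((q : ZMod r) ^ a) ^ 2 := by
    rw [← pow_succ', ← pow_mul]
    congr 1
    omega
  have e2 : ((q : ℕ) : ZMod r) * (q : ZMod r) ^ (a - 1) = (q : ZMod r) ^ a := by
    rw [← pow_succ']
    congr 1
    omega
  rw [mul_sub, mul_add, e1, e2, hx] at h3
  have h4 : (2 : ZMod r) * ((q : ZMod r) - 1) = 0 := by linear_combination -h3
  have h20 : (2 : ZMod r) ≠ 0 := by
    intro h
    have : ((2 : ℕ) : ZMod r) = 0 := by exact_mod_cast h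
    rw [ZMod.natCast_eq_zero_iff] at this
    have := (Nat.prime_dvd_prime_iff_eq (Fact.out : r.Prime) Nat.prime_two).1 this
    exact hr2 this
  rcases mul_eq_zero.1 h4 with h5 | h5
  · exact h20 h5
  · have h6 : ((q : ℕ) : ZMod r) = 1 := sub_eq_zero.1 h5
    have := orderOf_eq_one_iff.2 h6
    omega

theorem arith_minus (q r h j : ℕ) [Fact r.Prime] (hr2 : r ≠ 2) (hq : 2 ≤ q)
    (hi : orderOf ((q : ℕ) : ZMod r) = 2 * h) (hh : 1 ≤ h) (hj : 1 ≤ j)
    (hmod : q ^ (2 * (h * j) - 1) + q ^ (h * j - 1) - q ^ (h * j) ≡ 1 [MOD r]) : Odd j := by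
  by_contra heven
  rw [Nat.not_odd_iff_even] at heven
  have ha : 1 ≤ h * j := Nat.mul_pos hh hj
  set a := h * j with ha_def
  have hx : ((q : ℕ) : ZMod r) ^ a = 1 := by
    rw [ha_def, pow_mul, pow_half_eq_neg_one q r h hi hh, heven.neg_one_pow]
  have hle : q ^ a ≤ q ^ (2 * a - 1) + q ^ (a - 1) :=
    (Nat.pow_le_pow_right (by omega) (by omega)).trans (Nat.le_add_right _ _)
  have h1 := (ZMod.natCast_eq_natCast_iff _ _ _).2 hmod
  rw [Nat.cast_sub hle] at h1
  push_cast at h1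
  have h3 : ((q : ℕ) : ZMod r) * ((q : ZMod r) ^ (2 * a - 1) + (q : ZMod r) ^ (a - 1) - (q : ZMod r) ^ a)
      = (q : ZMod r) := by rw [h1, mul_one]
  have e1 : ((q : ℕ) : ZMod r) * (q : ZMod r) ^ (2 * a - 1) = ((q : ZMod r) ^ a) ^ 2 := by
    rw [← pow_succ', ← pow_mul]
    congr 1
    omega
  have e2 : ((q : ℕ) : ZMod r) * (q : ZMod r) ^ (a - 1) = (q : ZMod r) ^ a := by
    rw [← pow_succ']
    congr 1
    omega
  rw [mul_sub, mul_add, e1, e2, hx] at h3
  have h4 : (2 : ZMod r) * ((q : ZMod r) - 1) = 0 := by linear_combination -h3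
  have h20 : (2 : ZMod r) ≠ 0 := by
    intro h
    have : ((2 : ℕ) : ZMod r) = 0 := by exact_mod_cast h
    rw [ZMod.natCast_eq_zero_iff] at this
    have := (Nat.prime_dvd_prime_iff_eq (Fact.out : r.Prime) Nat.prime_two).1 this
    exact hr2 this
  rcases mul_eq_zero.1 h4 with h5 | h5
  · exact h20 h5
  · have h6 : ((q : ℕ) : ZMod r) = 1 := sub_eq_zero.1 h5
    have := orderOf_eq_one_iff.2 h6
    omega

end arith

end Cfsg.Agent.Lib.Helper2.OrthNd
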