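import Mathlib
import Cfsg.Agent.Lib.Helper2.OrthNdF

set_option autoImplicit false

/-!
The type of an invariant nondegenerate subspace of the cyclotomic kernel, and the splitting of an
invariant nondegenerate subspace along the fixed space and the cyclotomic kernel.
-/

namespace Cfsg.Agent.Lib.Helper2.OrthNd

open Module QuadraticMap Polynomial
open Cfsg.Agent.Lib.Helper2.MaxTS2 Cfsg.Agent.Lib.Helper2.OrthEl
open Cfsg.Agent.H9SemiInv
open Cfsg.Agent.Lib.Helper9.H9Elus

variable {F : Type*} [Field F] [Fintype F] [DecidableEq F] {p : ℕ} [Fact p.Prime] [CharP F p]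
variable {V : Type*} [AddCommGroup V] [Module F V] [FiniteDimensional F V]
variable {Q : QuadraticForm F V} {y : V →ₗ[F] V}

omit [Fact p.Prime] [CharP F p] in
theorem neg_one_char_pow (a : ℕ) :
    (quadraticChar F (-1)) ^ a = 1 ∨ (quadraticChar F (-1)) ^ a = -1 := by
  have hm1 : (-1 : F) ≠ 0 := neg_ne_zero.2 one_ne_zero
  rcases quadraticChar_dichotomy hm1 with h | h
  · left; rw [h, one_pow]
  · rw [h]
    exact neg_one_pow_eq_or ℤ a

/-- even order: the type is the parity of the number of blocks -/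
theorem plusS_iff_even (hodd : Odd (Fintype.card F)) (hiso : ∀ v, Q (y v) = Q v) (r : ℕ)
    [Fact r.Prime] (hrp : r ≠ p) (hr2 : r ≠ 2) (hy : y ^ r = 1) (h : ℕ)
    (hi : orderOf ((Fintype.card F : ℕ) : ZMod r) = 2 * h) (W : Submodule F V)
    (hWV : W ≤ cycS y r) (hWinv : Inv y W) (hW : NDeg Q W) (j : ℕ) (hj : 1 ≤ j)
    (hdim : finrank F W = 2 * h * j) : PlusS Q W ↔ Even j := by
  have h2 : (2 : F) ≠ 0 := two_ne_zero_of_odd_card hodd
  have hh : 1 ≤ h := by
    have := order_pos (F := F) r hrp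
    omega
  have ha : 1 ≤ h * j := Nat.mul_pos hh hj
  have hdim' : finrank F W = 2 * (h * j) := by rw [hdim, mul_assoc]
  have hmod := card_singular_modEq hiso r hrp hy W hWV hWinv
  have hq : 2 ≤ Fintype.card F := Fintype.one_lt_card
  rw [plusS_iff h2 hW (h * j) hdim']
  constructor
  · intro hd
    rw [card_singular_plus h2 hW.restrict (h * j) ha hdim' hd] at hmod
    exact arith_plus _ r h j hr2 hq hi hh hj hmod
  · intro hev
    by_contra hne
    have hd : dchS Q W = -(quadraticChar F (-1)) ^ (h * j) := by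
      rcases dchS_dichotomy hW with g | g <;> rcases neg_one_char_pow (F := F) (h * j) with g' | g'
      · exfalso; apply hne; rw [g, g']
      · rw [g, g']; norm_num
      · rw [g, g']
      · exfalso; apply hne; rw [g, g']
    rw [card_singular_minus h2 hW.restrict (h * j) ha hdim' hd] at hmod
    have := arith_minus _ r h j hr2 hq hi hh hj hmod
    exact (Nat.not_even_iff_odd.2 this) hev

omit [DecidableEq F] in
/-- odd order: plus type -/
theorem plusS_of_odd (hodd : Odd (Fintype.card F)) (hQ : (polarBilin Q).Nondegenerate)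
    (hiso : ∀ v, Q (y v) = Q v) (r : ℕ) [Fact r.Prime] (hrp : r ≠ p) (hr2 : r ≠ 2)
    (hy : y ^ r = 1) (hi : Odd (orderOf ((Fintype.card F : ℕ) : ZMod r))) (W : Submodule F V)
    (hWV : W ≤ cycS y r) (hWinv : Inv y W) (hW : NDeg Q W) : PlusS Q W := by
  obtain ⟨j, hj⟩ := two_mul_dvd_finrank hodd hQ hiso r hrp hr2 hy hi _ W rfl hW hWinv hWV
  have hi1 := order_pos (F := F) r hrp
  have hthr : thr (Fintype.card F) r = 0 := by
    unfold thr
    rw [if_pos hi]
  obtain ⟨T, hTW, -, hT, hTdim⟩ := exists_isTS_inv_mul hodd hQ hiso r hrp hr2 hy j W hW hWinv hWV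
    (by
      rcases Nat.eq_zero_or_pos j with h0 | h0
      · left; exact h0
      · right
        rw [hthr, hj, zero_add]
        apply Nat.mul_lt_mul_of_pos_left _ (by omega)
        omega)
  refine ⟨T, hTW, hT, ?_⟩
  rw [hTdim, hj]
  ring

omit [Fintype F] [DecidableEq F] [Fact p.Prime] [CharP F p] [FiniteDimensional F V] in
theorem ndeg_of_sup_left {A B : Submodule F V} (h : NDeg Q (A ⊔ B)) (horth : A ≤ perp Q B) :
    NDeg Q A := by
  unfold NDeg at *
  rw [Submodule.disjoint_def] at *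
  intro v hvA hv
  apply h v (Submodule.mem_sup_left hvA)
  rw [mem_perp_iff]
  intro w hw
  obtain ⟨a, ha, b, hb, rfl⟩ := Submodule.mem_sup.1 hw
  have e1 : polar (⇑Q) a v = 0 := hv a ha
  have e2 : polar (⇑Q) b v = 0 := horth hvA b hb
  rw [polar_add_left, e1, e2, zero_add]

omit [DecidableEq F] in
/-- splitting of an invariant subspace -/
theorem inv_split (r : ℕ) [Fact r.Prime] (hrp : r ≠ p) (hy : y ^ r = 1) (W : Submodule F V)
    (hW : Inv y W) : W = (W ⊓ fixS y) ⊔ (W ⊓ cycS y r) := by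
  obtain ⟨u, v, huv⟩ := isCoprime_X_sub_one_cyclotomic (F := F) r hrp
  have hXr : aeval y (X ^ r - 1 : F[X]) = 0 := by
    rw [map_sub, map_pow, aeval_X, map_one, hy, sub_self]
  apply le_antisymm
  · intro w hw
    have h1 : w = aeval y (v * cyclotomic r F) w + aeval y (u * (X - 1)) w := by
      rw [← LinearMap.add_apply, ← map_add, add_comm, huv, map_one, Module.End.one_apply]
    rw [h1]
    apply Submodule.add_mem_sup
    · refine Submodule.mem_inf.mpr ⟨Inv.aeval hW _ w hw, ?_⟩
      rw [LinearMap.mem_ker, ← Module.End.mul_apply, ← map_mul,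
        show (X - 1) * (v * cyclotomic r F) = v * (cyclotomic r F * (X - 1)) by ring,
        cyclotomic_prime_mul_X_sub_one, map_mul, hXr, mul_zero, LinearMap.zero_apply]
    · refine Submodule.mem_inf.mpr ⟨Inv.aeval hW _ w hw, ?_⟩
      rw [LinearMap.mem_ker, ← Module.End.mul_apply, ← map_mul,
        show cyclotomic r F * (u * (X - 1)) = u * (cyclotomic r F * (X - 1)) by ring,
        cyclotomic_prime_mul_X_sub_one, map_mul, hXr, mul_zero, LinearMap.zero_apply]
  · exact sup_le inf_le_left inf_le_left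

omit [DecidableEq F] in
theorem ndeg_split (hiso : ∀ v, Q (y v) = Q v) (r : ℕ) [Fact r.Prime] (hrp : r ≠ p)
    (hy : y ^ r = 1) (W : Submodule F V) (hW : Inv y W) (hWnd : NDeg Q W) :
    NDeg Q (W ⊓ fixS y) ∧ NDeg Q (W ⊓ cycS y r) ∧
      finrank F W = finrank F ↥(W ⊓ fixS y) + finrank F ↥(W ⊓ cycS y r) := by
  have hsplit := inv_split r hrp hy W hW
  have hr0 : ((r : ℕ) : F) ≠ 0 := cast_ne_zero_of_ne r hrp
  have horth : W ⊓ fixS y ≤ perp Q (W ⊓ cycS y r) := by
    intro u hu
    rw [mem_perp_iff]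
    intro w hw
    rw [polar_comm]
    exact polar_fix_cyc hiso Fact.out hr0 hu.2 hw.2
  have horth' : W ⊓ cycS y r ≤ perp Q (W ⊓ fixS y) := le_perp_comm horth
  refine ⟨?_, ?_, ?_⟩
  · apply ndeg_of_sup_left _ horth
    rw [← hsplit]
    exact hWnd
  · apply ndeg_of_sup_left _ horth'
    rw [sup_comm, ← hsplit]
    exact hWnd
  · have := finrank_inv_eq r hrp y hy W hW
    rw [this, add_comm]

end Cfsg.Agent.Lib.Helper2.OrthNd
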