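import Mathlib
import Cfsg.Agent.Lib.Helper2.OrthNdG
import Cfsg.Agent.Lib.Helper2.OrthElN

set_option autoImplicit false

/-!
Self-reciprocity of the irreducible factors of the `r`-th cyclotomic polynomial when the order of
`q` modulo `r` is even, and the adjoint of a polynomial in an isometry.
-/

namespace Cfsg.Agent.Lib.Helper2.OrthNd

open Module QuadraticMap Polynomial
open Cfsg.Agent.Lib.Helper2.MaxTS2 Cfsg.Agent.Lib.Helper2.OrthEl
open Cfsg.Agent.H9SemiInv
open Cfsg.Agent.Lib.Helper9.H9Elus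

section poly

universe u

variable {F : Type u} [Field F] [Fintype F] {p : ℕ} [Fact p.Prime] [CharP F p]

/-- an irreducible factor of the cyclotomic polynomial is self-reciprocal when the order of `q`
modulo `r` is even -/
theorem dvd_comp_pow (r : ℕ) [Fact r.Prime] (hrp : r ≠ p) (g : F[X]) (hg : Irreducible g)
    (hgd : g ∣ cyclotomic r F) (hev : Even (orderOf ((Fintype.card F : ℕ) : ZMod r))) :
    g ∣ g.comp (X ^ (r - 1)) := by
  haveI : Fact (Irreducible g) := ⟨hg⟩
  haveI : FiniteDimensional F (AdjoinRoot g) := (AdjoinRoot.powerBasis hg.ne_zero).finite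
  haveI : Finite (AdjoinRoot g) := Module.finite_of_finite F
  haveI : Fintype (AdjoinRoot g) := Fintype.ofFinite _
  have hr1 : 1 ≤ r := (Fact.out : r.Prime).one_lt.le
  obtain ⟨k, hk⟩ := hev
  have hk' : orderOf ((Fintype.card F : ℕ) : ZMod r) = 2 * k := by omega
  set σ : AdjoinRoot g →ₐ[F] AdjoinRoot g := (FiniteField.frobeniusAlgHom F (AdjoinRoot g)) ^ k
    with hσdef
  have hσapply : ∀ u, σ u = u ^ (Fintype.card F ^ k) := by
    intro u
    rw [hσdef, AlgHom.coe_pow, FiniteField.coe_frobeniusAlgHom, pow_iterate]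
  have hσζ : σ (AdjoinRoot.root g) * AdjoinRoot.root g = 1 := by
    rw [hσapply, ← pow_succ]
    obtain ⟨m, hm⟩ := QIso.dvd_pow_half_add_one (F := F) r hrp k hk'
    rw [hm, pow_mul, QIso.root_pow r g hgd, one_pow]
  have hpow : (AdjoinRoot.root g) ^ (r - 1) * AdjoinRoot.root g = 1 := by
    rw [← pow_succ, Nat.sub_add_cancel hr1, QIso.root_pow r g hgd]
  have hσeq : σ (AdjoinRoot.root g) = (AdjoinRoot.root g) ^ (r - 1) := by
    have h0 := QIso.root_ne_zero r g hgd
    exact mul_right_cancel₀ h0 (hσζ.trans hpow.symm)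
  have h1 : aeval (σ (AdjoinRoot.root g)) g = 0 := by
    rw [aeval_algHom_apply, AdjoinRoot.aeval_eq, AdjoinRoot.mk_self, map_zero]
  rw [hσeq] at h1
  rw [← AdjoinRoot.mk_eq_zero, ← AdjoinRoot.aeval_eq, aeval_comp, map_pow, aeval_X]
  exact h1

end poly

section lin

variable {F : Type*} [Field F]
variable {V : Type*} [AddCommGroup V] [Module F V]
variable {Q : QuadraticForm F V} {y : V →ₗ[F] V}

theorem pow_mul_pow_pred {r : ℕ} (hr : 1 ≤ r) (hy : y ^ r = 1) (n : ℕ) :
    y ^ n * (y ^ (r - 1)) ^ n = 1 := by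
  rw [← pow_mul, ← pow_add]
  have : n + (r - 1) * n = r * n := by
    have h : r = (r - 1) + 1 := by omega
    conv_rhs => rw [h]
    ring
  rw [this, pow_mul, hy, one_pow]

/-- the adjoint of a polynomial in an isometry of finite order -/
theorem polar_aeval (hiso : ∀ v, Q (y v) = Q v) {r : ℕ} (hr : 1 ≤ r) (hy : y ^ r = 1)
    (f : F[X]) (u w : V) :
    polar (⇑Q) (aeval y f u) w = polar (⇑Q) u (aeval (y ^ (r - 1)) f w) := by
  induction f using Polynomial.induction_on' with
  | add f₁ f₂ h₁ h₂ =>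
    rw [map_add, map_add, LinearMap.add_apply, LinearMap.add_apply, polar_add_left,
      polar_add_right, h₁, h₂]
  | monomial n a =>
    rw [aeval_monomial, aeval_monomial, Module.End.mul_apply, Module.End.mul_apply,
      Module.algebraMap_end_apply, Module.algebraMap_end_apply, polar_smul_left, polar_smul_right]
    congr 1
    have h1 := iso_polar_pow hiso n u (((y ^ (r - 1)) ^ n) w)
    rw [← Module.End.mul_apply, pow_mul_pow_pred hr hy, Module.End.one_apply] at h1
    exact h1

end lin

end Cfsg.Agent.Lib.Helper2.OrthNd
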