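import Mathlib
import Cfsg.Agent.Lib.Helper2.OrthNdH

set_option autoImplicit false

/-!
Nondegenerate irreducible invariant subspaces in the cyclotomic kernel (even order), and invariant
nondegenerate subspaces of all admissible dimensions.
-/

namespace Cfsg.Agent.Lib.Helper2.OrthNd

open Module QuadraticMap Polynomial
open Cfsg.Agent.Lib.Helper2.MaxTS2 Cfsg.Agent.Lib.Helper2.OrthEl
open Cfsg.Agent.H9SemiInv
open Cfsg.Agent.Lib.Helper9.H9Elus

section cyclic

variable {F V : Type*} [Field F] [AddCommGroup V] [Module F V] [FiniteDimensional F V]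

/-- the cyclic subspace generated by a vector killed by an irreducible polynomial -/
theorem exists_cyclic' (y : V →ₗ[F] V) (W : Submodule F V) (hW : Inv y W) (g : F[X])
    (hg : Irreducible g) (v : V) (hv : v ∈ W) (hv0 : v ≠ 0) (hgv : aeval y g v = 0) :
    ∃ Z : Submodule F V, Z ≤ W ∧ Inv y Z ∧ v ∈ Z ∧ finrank F Z = g.natDegree := by
  let φ : F[X] →ₗ[F] V := (LinearMap.applyₗ v).comp (Polynomial.aeval y).toLinearMap
  have hφ : ∀ s : F[X], φ s = aeval y s v := fun s => rfl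
  refine ⟨LinearMap.range φ, ?_, ?_, ?_, ?_⟩
  · rintro _ ⟨s, rfl⟩
    rw [hφ]
    exact Inv.aeval hW s v hv
  · rintro _ ⟨s, rfl⟩
    refine ⟨X * s, ?_⟩
    rw [hφ, hφ, map_mul, aeval_X, Module.End.mul_apply]
  · refine ⟨1, ?_⟩
    rw [hφ, map_one, Module.End.one_apply]
  · have hker : LinearMap.ker φ = (Ideal.span {g}).restrictScalars F := by
      ext s
      rw [LinearMap.mem_ker, Submodule.restrictScalars_mem, Ideal.mem_span_singleton, hφ]
      constructor
      · intro hs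
        by_contra hnd
        have hcop : IsCoprime g s := (hg.coprime_iff_not_dvd).mpr hnd
        obtain ⟨a, b, hab⟩ := hcop
        have h1 := congrArg (fun t : F[X] => aeval y t v) hab
        simp only [map_add, map_mul, map_one, LinearMap.add_apply, Module.End.mul_apply,
          Module.End.one_apply] at h1
        rw [hgv, hs, map_zero, map_zero, add_zero] at h1
        exact hv0 h1.symm
      · rintro ⟨t, rfl⟩
        rw [mul_comm, map_mul, Module.End.mul_apply, hgv, map_zero]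
    have e1 := LinearMap.quotKerEquivRange φ
    rw [← e1.finrank_eq]
    have e2 : (F[X] ⧸ LinearMap.ker φ) ≃ₗ[F] (F[X] ⧸ (Ideal.span {g}).restrictScalars F) :=
      Submodule.quotEquivOfEq _ _ hker
    rw [e2.finrank_eq, (Submodule.Quotient.restrictScalarsEquiv F (Ideal.span {g})).finrank_eq]
    exact finrank_quotient_span_eq_natDegree

end cyclic

variable {F : Type*} [Field F] [Fintype F] {p : ℕ} [Fact p.Prime] [CharP F p]
variable {V : Type*} [AddCommGroup V] [Module F V] [FiniteDimensional F V]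
variable {Q : QuadraticForm F V} {y : V →ₗ[F] V}

omit [FiniteDimensional F V] in
/-- self-reciprocity on vectors -/
theorem aeval_pow_pred_eq_zero (r : ℕ) [Fact r.Prime] (hrp : r ≠ p) (g : F[X])
    (hg : Irreducible g) (hgd : g ∣ cyclotomic r F)
    (hev : Even (orderOf ((Fintype.card F : ℕ) : ZMod r))) {v : V} (hv : aeval y g v = 0) :
    aeval (y ^ (r - 1)) g v = 0 := by
  obtain ⟨h, hh⟩ := dvd_comp_pow r hrp g hg hgd hev
  have h1 : aeval (y ^ (r - 1)) g = aeval y (g.comp (X ^ (r - 1))) := by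
    rw [aeval_comp, map_pow, aeval_X]
  rw [h1, hh, mul_comm, map_mul, Module.End.mul_apply, hv, map_zero]

/-- an irreducible annihilator of a minimal invariant subspace -/
theorem exists_ann_irreducible (r : ℕ) [Fact r.Prime] (hrp : r ≠ p) (Z : Submodule F V)
    (hZV : Z ≤ cycS y r) (hZ : Inv y Z)
    (hZi : finrank F Z = orderOf ((Fintype.card F : ℕ) : ZMod r)) :
    ∃ g : F[X], Irreducible g ∧ g ∣ cyclotomic r F ∧ ∀ z ∈ Z, aeval y g z = 0 := by
  have hi1 := order_pos (F := F) r hrp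
  have hne : Z ≠ ⊥ := by
    intro h
    rw [h, finrank_bot] at hZi
    omega
  obtain ⟨z₀, hz₀, hz₀0⟩ := Submodule.exists_mem_ne_zero_of_ne_bot hne
  obtain ⟨g, hg, hgd, v, hvZ, hv0, hgv⟩ := exists_irreducible_kernel y Z hZ (cyclotomic r F)
    (cyclotomic_ne_zero r F) z₀ hz₀ hz₀0 (LinearMap.mem_ker.1 (hZV hz₀))
  refine ⟨g, hg, hgd, ?_⟩
  have hZ'inv : Inv y (Z ⊓ LinearMap.ker (aeval y g)) := hZ.inf (inv_ker_aeval y g)
  have hZ'ne : Z ⊓ LinearMap.ker (aeval y g) ≠ ⊥ := by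
    intro h
    have : v ∈ Z ⊓ LinearMap.ker (aeval y g) := ⟨hvZ, LinearMap.mem_ker.2 hgv⟩
    rw [h, Submodule.mem_bot] at this
    exact hv0 this
  obtain ⟨Z'', hZ''le, -, hZ''i⟩ := hmin_cyclotomic r hrp y _ (inf_le_left.trans hZV) hZ'inv hZ'ne
  have h1 := Submodule.finrank_mono hZ''le
  have h3 : Z ⊓ LinearMap.ker (aeval y g) = Z := by
    apply Submodule.eq_of_le_of_finrank_le inf_le_left
    rw [hZi, ← hZ''i]
    exact h1
  intro z hz
  rw [← h3] at hz
  exact LinearMap.mem_ker.1 hz.2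

/-- even order: a nonzero invariant nondegenerate subspace of the cyclotomic kernel contains a
nondegenerate minimal invariant subspace -/
theorem exists_ndeg_irreducible (hodd : Odd (Fintype.card F)) (hQ : (polarBilin Q).Nondegenerate)
    (hiso : ∀ v, Q (y v) = Q v) (r : ℕ) [Fact r.Prime] (hrp : r ≠ p) (hy : y ^ r = 1)
    (hev : Even (orderOf ((Fintype.card F : ℕ) : ZMod r))) (B : Submodule F V)
    (hBV : B ≤ cycS y r) (hBinv : Inv y B) (hB : NDeg Q B) (hne : B ≠ ⊥) :
    ∃ Z : Submodule F V, Z ≤ B ∧ Inv y Z ∧ NDeg Q Z ∧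
      finrank F Z = orderOf ((Fintype.card F : ℕ) : ZMod r) := by
  have h2 : (2 : F) ≠ 0 := two_ne_zero_of_odd_card hodd
  have hr1 : 1 ≤ r := (Fact.out : r.Prime).one_lt.le
  have hi1 := order_pos (F := F) r hrp
  obtain ⟨Z, hZB, hZinv, hZi⟩ := hmin_cyclotomic r hrp y B hBV hBinv hne
  rcases isTS_or_ndeg h2 hiso r hrp hy Z (hZB.trans hBV) hZinv hZi with hts | hnd
  swap
  · exact ⟨Z, hZB, hZinv, hnd, hZi⟩
  obtain ⟨g, hg, hgd, hgZ⟩ := exists_ann_irreducible r hrp Z (hZB.trans hBV) hZinv hZi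
  have hss := isSemisimple_of_pow_eq_one r hrp y hy
  have hLinv : Inv y (B ⊓ perp Q Z) := hBinv.inf (inv_perp hiso hr1 hy hZinv)
  obtain ⟨Z', hZ'B, hZ'inv, hdisj, hfr⟩ := exists_rel_compl y hss B hBinv (B ⊓ perp Q Z) inf_le_left
    hLinv
  have hfr2 := finrank_inf_perp hQ hB hZB
  have hZ'i : finrank F Z' = orderOf ((Fintype.card F : ℕ) : ZMod r) := by omega
  -- `g` kills `Z'`
  have hgZ' : ∀ z' ∈ Z', aeval y g z' = 0 := by
    intro z' hz'
    have hw : aeval y g z' ∈ Z' := Inv.aeval hZ'inv g z' hz'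
    have hwL : aeval y g z' ∈ B ⊓ perp Q Z := by
      refine ⟨hZ'B hw, ?_⟩
      rw [SetLike.mem_coe, mem_perp_iff]
      intro z hz
      rw [polar_comm, polar_aeval hiso hr1 hy,
        aeval_pow_pred_eq_zero r hrp g hg hgd hev (hgZ z hz), polar_zero_right]
    exact (Submodule.disjoint_def.1 hdisj) _ hwL hw
  have hgC : ∀ v ∈ Z ⊔ Z', aeval y g v = 0 := by
    intro v hv
    obtain ⟨z, hz, z', hz', rfl⟩ := Submodule.mem_sup.1 hv
    rw [map_add, hgZ z hz, hgZ' z' hz', add_zero]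
  -- a non-singular vector
  obtain ⟨v, hvC, hQv⟩ : ∃ v ∈ Z ⊔ Z', Q v ≠ 0 := by
    by_contra hcon
    push Not at hcon
    have hle : Z' ≤ B ⊓ perp Q Z := by
      intro z' hz'
      refine ⟨hZ'B hz', ?_⟩
      rw [SetLike.mem_coe, mem_perp_iff]
      intro z hz
      unfold polar
      rw [hcon _ (Submodule.add_mem_sup hz hz'), hcon _ (Submodule.mem_sup_left hz),
        hcon _ (Submodule.mem_sup_right hz')]
      ring
    have hbot : Z' = ⊥ := by
      rw [eq_bot_iff]
      intro z' hz'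
      exact (Submodule.disjoint_def.1 hdisj) _ (hle hz') hz'
    rw [hbot, finrank_bot] at hZ'i
    omega
  have hv0 : v ≠ 0 := by
    rintro rfl
    exact hQv (map_zero Q)
  have hCinv : Inv y (Z ⊔ Z') := hZinv.sup hZ'inv
  have hCB : Z ⊔ Z' ≤ B := sup_le hZB hZ'B
  obtain ⟨Z'', hZ''C, hZ''inv, hvZ'', hZ''dim⟩ := exists_cyclic' y (Z ⊔ Z') hCinv g hg v hvC hv0
    (hgC v hvC)
  rw [natDegree_of_dvd_cyclotomic r hrp g hg hgd] at hZ''dim
  refine ⟨Z'', hZ''C.trans hCB, hZ''inv, ?_, hZ''dim⟩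
  rcases isTS_or_ndeg h2 hiso r hrp hy Z'' ((hZ''C.trans hCB).trans hBV) hZ''inv hZ''dim with h | h
  · exact absurd (h v hvZ'') hQv
  · exact h

end Cfsg.Agent.Lib.Helper2.OrthNd
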