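import Mathlib
import Cfsg.Agent.Lib.Helper2.OrthNdI

set_option autoImplicit false

/-!
Chains of invariant nondegenerate subspaces of the cyclotomic kernel.
-/

namespace Cfsg.Agent.Lib.Helper2.OrthNd

open Module QuadraticMap Polynomial
open Cfsg.Agent.Lib.Helper2.MaxTS2 Cfsg.Agent.Lib.Helper2.OrthEl
open Cfsg.Agent.H9SemiInv
open Cfsg.Agent.Lib.Helper9.H9Elus

section general

variable {F : Type*} [Field F]
variable {V : Type*} [AddCommGroup V] [Module F V] [FiniteDimensional F V]
variable {Q : QuadraticForm F V}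

/-- the relative orthogonal complement of a nondegenerate subspace -/
theorem ndeg_inf_perp {M Z : Submodule F V} (hM : NDeg Q M) (hZM : Z ≤ M) (hZ : NDeg Q Z) :
    NDeg Q (M ⊓ perp Q Z) := by
  unfold NDeg
  rw [Submodule.disjoint_def]
  intro v hv hv'
  apply (Submodule.disjoint_def.1 hM) v hv.1
  rw [mem_perp_iff]
  intro m hm
  have hc := hZ.isCompl
  have hm' : m ∈ Z ⊔ perp Q Z := by
    rw [hc.sup_eq_top]
    trivial
  obtain ⟨z, hz, t, ht, rfl⟩ := Submodule.mem_sup.1 hm'
  have htM : t ∈ M := by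
    have : t = (z + t) - z := by abel
    rw [this]
    exact M.sub_mem hm (hZM hz)
  have e1 : polar (⇑Q) z v = 0 := hv.2 z hz
  have e2 : polar (⇑Q) t v = 0 := hv' t ⟨htM, ht⟩
  rw [polar_add_left, e1, e2, zero_add]

end general

variable {F : Type*} [Field F] [Fintype F] {p : ℕ} [Fact p.Prime] [CharP F p]
variable {V : Type*} [AddCommGroup V] [Module F V] [FiniteDimensional F V]
variable {Q : QuadraticForm F V} {y : V →ₗ[F] V}

/-- the block size divides the dimension of an invariant nondegenerate subspace of the cyclotomic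
kernel -/
theorem cc_dvd_finrank (hodd : Odd (Fintype.card F)) (hQ : (polarBilin Q).Nondegenerate)
    (hiso : ∀ v, Q (y v) = Q v) (r : ℕ) [Fact r.Prime] (hrp : r ≠ p) (hr2 : r ≠ 2)
    (hy : y ^ r = 1) (i c : ℕ) (hi : i = orderOf ((Fintype.card F : ℕ) : ZMod r))
    (hc : c = if Even i then i else 2 * i) (B : Submodule F V) (hBV : B ≤ cycS y r)
    (hBinv : Inv y B) (hB : NDeg Q B) : c ∣ finrank F B := by
  by_cases hev : Even i
  · rw [hc, if_pos hev, hi]
    have h := order_dvd_finrank_inf r hrp y hy B hBinv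
    have h3 : B ⊓ LinearMap.ker (aeval y (cyclotomic r F)) = B := inf_eq_left.2 hBV
    rw [h3] at h
    exact h
  · rw [hc, if_neg hev, hi]
    rw [hi] at hev
    exact two_mul_dvd_finrank hodd hQ hiso r hrp hr2 hy (Nat.not_even_iff_odd.1 hev) _ B rfl hB
      hBinv hBV

/-- peeling blocks off an invariant nondegenerate subspace of the cyclotomic kernel -/
theorem exists_inv_ndeg_chain (hodd : Odd (Fintype.card F)) (hQ : (polarBilin Q).Nondegenerate)
    (hiso : ∀ v, Q (y v) = Q v) (r : ℕ) [Fact r.Prime] (hrp : r ≠ p) (hr2 : r ≠ 2)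
    (hy : y ^ r = 1) (i c : ℕ) (hi : i = orderOf ((Fintype.card F : ℕ) : ZMod r))
    (hc : c = if Even i then i else 2 * i) (B : Submodule F V) (hBV : B ≤ cycS y r)
    (hBinv : Inv y B) (hB : NDeg Q B) :
    ∀ s : ℕ, c * s ≤ finrank F B →
      ∃ M : Submodule F V, M ≤ B ∧ Inv y M ∧ NDeg Q M ∧ finrank F M + c * s = finrank F B := by
  have hr1 : 1 ≤ r := (Fact.out : r.Prime).one_lt.le
  have hi1 : 1 ≤ i := by rw [hi]; exact order_pos (F := F) r hrp
  have hc1 : 1 ≤ c := by
    rw [hc]
    split_ifs <;> omega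
  intro s
  induction s with
  | zero =>
    intro _
    exact ⟨B, le_rfl, hBinv, hB, by rw [mul_zero, add_zero]⟩
  | succ s ih =>
    intro hs
    have hs' : c * s ≤ finrank F B := by
      rw [mul_add, mul_one] at hs
      omega
    obtain ⟨M, hMB, hMinv, hM, hMdim⟩ := ih hs'
    have hMne : M ≠ ⊥ := by
      intro h
      rw [h, finrank_bot] at hMdim
      rw [mul_add, mul_one] at hs
      omega
    by_cases hev : Even i
    · have hci : c = i := by rw [hc, if_pos hev]
      obtain ⟨Z, hZM, hZinv, hZ, hZi⟩ := exists_ndeg_irreducible hodd hQ hiso r hrp hy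
        (by rw [← hi]; exact hev) M (hMB.trans hBV) hMinv hM hMne
      refine ⟨M ⊓ perp Q Z, inf_le_left.trans hMB, hMinv.inf (inv_perp hiso hr1 hy hZinv),
        ndeg_inf_perp hM hZM hZ, ?_⟩
      have := finrank_inf_perp hQ hM hZM
      rw [mul_add, mul_one, hci, hi]
      rw [hci, hi] at hMdim
      omega
    · have hci : c = 2 * i := by rw [hc, if_neg hev]
      obtain ⟨Z, hZM, hZinv, hZi⟩ := hmin_cyclotomic r hrp y M (hMB.trans hBV) hMinv hMne
      have hZts : IsTS Q Z := isTS_of_odd hodd hiso r hrp hr2 hy Z ((hZM.trans hMB).trans hBV)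
        hZinv hZi (by rw [← hi]; exact Nat.not_even_iff_odd.1 hev)
      obtain ⟨M₂, hM₂le, hM₂inv, hM₂, -, hM₂dim⟩ := exists_peel hQ hiso r hrp hy hM hMinv hZM hZinv
        hZts
      refine ⟨M₂, (hM₂le.trans inf_le_left).trans hMB, hM₂inv, hM₂, ?_⟩
      rw [mul_add, mul_one, hci, hi]
      rw [hci, hi] at hMdim
      omega

end Cfsg.Agent.Lib.Helper2.OrthNd
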