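import Mathlib
import Cfsg.Agent.Lib.Helper2.OrthNdJ
import Cfsg.Agent.Lib.Helper2.OrthElR

set_option autoImplicit false

/-!
Invariant nondegenerate subspaces of prescribed dimension and type: the combination lemma and the
case of involutions.
-/

namespace Cfsg.Agent.Lib.Helper2.OrthNd

open Module QuadraticMap Polynomial
open Cfsg.Agent.Lib.Helper2.MaxTS2 Cfsg.Agent.Lib.Helper2.OrthEl
open Cfsg.Agent.H9SemiInv

variable {F : Type*} [Field F] [Fintype F] [DecidableEq F]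
variable {V : Type*} [AddCommGroup V] [Module F V] [FiniteDimensional F V]
variable {Q : QuadraticForm F V}

/-- a proper nondegenerate subspace of `M₀` can be chosen so that its orthogonal sum with a given
nondegenerate subspace of `M₁` has the wanted type -/
theorem exists_sum_type (h2 : (2 : F) ≠ 0) {M₀ M₁ : Submodule F V} (hM₀ : NDeg Q M₀)
    (horth : M₀ ≤ perp Q M₁) {W₁ : Submodule F V} (hW₁M : W₁ ≤ M₁) (hW₁ : NDeg Q W₁) (m₀ a : ℕ)
    (hm₀ : 0 < m₀) (hm₀' : m₀ < finrank F M₀) (hsum : m₀ + finrank F W₁ = 2 * a) (want : Prop) :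
    ∃ W₀ : Submodule F V, W₀ ≤ M₀ ∧ NDeg Q (W₀ ⊔ W₁) ∧ finrank F ↥(W₀ ⊔ W₁) = 2 * a ∧
      (PlusS Q (W₀ ⊔ W₁) ↔ want) := by
  classical
  obtain ⟨s₀, hs₀, hs₀'⟩ : ∃ s₀ : ℤ, (s₀ = 1 ∨ s₀ = -1) ∧
      (s₀ * dchS Q W₁ = (quadraticChar F (-1)) ^ a ↔ want) := by
    rcases dchS_dichotomy hW₁ with g | g <;> rcases neg_one_char_pow (F := F) a with g' | g' <;>
      by_cases hw : want
    · exact ⟨1, Or.inl rfl, by rw [g, g']; simpa using hw⟩
    · exact ⟨-1, Or.inr rfl, by rw [g, g']; simpa using hw⟩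
    · exact ⟨-1, Or.inr rfl, by rw [g, g']; simpa using hw⟩
    · exact ⟨1, Or.inl rfl, by rw [g, g']; simpa using hw⟩
    · exact ⟨-1, Or.inr rfl, by rw [g, g']; simpa using hw⟩
    · exact ⟨1, Or.inl rfl, by rw [g, g']; simpa using hw⟩
    · exact ⟨1, Or.inl rfl, by rw [g, g']; simpa using hw⟩
    · exact ⟨-1, Or.inr rfl, by rw [g, g']; simpa using hw⟩
  obtain ⟨W₀, hW₀M, hW₀, hW₀dim, hW₀d⟩ := exists_ndeg_sub h2 hM₀ m₀ hm₀ hm₀' s₀ hs₀
  have horth' : W₀ ≤ perp Q W₁ :=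
    (hW₀M.trans horth).trans (LinearMap.BilinForm.orthogonal_le hW₁M)
  obtain ⟨g1, g2, g3⟩ := dchS_sup h2 hW₀ hW₁ horth'
  have hdim : finrank F ↥(W₀ ⊔ W₁) = 2 * a := by rw [g2, hW₀dim, hsum]
  refine ⟨W₀, hW₀M, g1, hdim, ?_⟩
  rw [plusS_iff h2 g1 a hdim, g3, hW₀d]
  exact hs₀'

end Cfsg.Agent.Lib.Helper2.OrthNd
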