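import Mathlib
import Cfsg.Agent.Lib.Helper2.OrthNdK

set_option autoImplicit false

/-!
Every isometric involution of a nondegenerate quadratic space over a finite field of odd
characteristic fixes nondegenerate subspaces of every even dimension `0 < m < n` and both types.
-/

namespace Cfsg.Agent.Lib.Helper2.OrthNd

open Module QuadraticMap Polynomial
open Cfsg.Agent.Lib.Helper2.MaxTS2 Cfsg.Agent.Lib.Helper2.OrthEl
open Cfsg.Agent.H9SemiInv

variable {F : Type*} [Field F] [Fintype F] [DecidableEq F]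
variable {V : Type*} [AddCommGroup V] [Module F V] [FiniteDimensional F V]
variable {Q : QuadraticForm F V} {y : V →ₗ[F] V}

omit [Fintype F] [DecidableEq F] [FiniteDimensional F V] in
theorem inv_bot : Inv y (⊥ : Submodule F V) := by
  intro x hx
  rw [Submodule.mem_bot] at hx
  rw [hx, map_zero]
  exact Submodule.zero_mem _

theorem exists_inv_ndeg_two (h2 : (2 : F) ≠ 0) (hQ : (polarBilin Q).Nondegenerate)
    (hiso : ∀ v, Q (y v) = Q v) (hy : y ^ 2 = 1) (n m a : ℕ) (hn : finrank F V = n)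
    (hm : m = 2 * a) (hm0 : 0 < m) (hmn : m < n) (want : Prop) :
    ∃ W : Submodule F V, Inv y W ∧ NDeg Q W ∧ finrank F W = m ∧ (PlusS Q W ↔ want) := by
  have hc := isCompl_fix_neg (y := y) h2 hy
  have hsum : finrank F (fixS y) + finrank F (negS y) = n := by
    rw [← hn]
    exact Submodule.finrank_add_eq_of_isCompl hc
  have hnd₀ := ndeg_fixS_inv h2 hQ hiso hy
  have hnd₁ := ndeg_negS h2 hQ hiso hy
  have horth₁ : negS y ≤ perp Q (fixS y) := le_of_eq (negS_eq_perp h2 hQ hiso hy)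
  have horth₀ : fixS y ≤ perp Q (negS y) := le_perp_comm horth₁
  have hbot : finrank F (⊥ : Submodule F V) = 0 := finrank_bot F V
  by_cases hA : 2 ≤ finrank F (negS y)
  · by_cases hA1 : m < finrank F (negS y)
    · obtain ⟨W₀, hW₀M, g1, g2, g3⟩ := exists_sum_type h2 hnd₁ horth₁ (W₁ := ⊥) bot_le ndeg_bot m a
        hm0 hA1 (by rw [hbot, add_zero, hm]) want
      exact ⟨W₀ ⊔ ⊥, (inv_of_le_neg hW₀M).sup inv_bot, g1, by rw [g2, hm], g3⟩
    · obtain ⟨W₁, hW₁M, hW₁, hW₁dim⟩ := exists_ndeg_of_le h2 hnd₀ (m - finrank F (negS y) + 1)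
        (by omega)
      obtain ⟨W₀, hW₀M, g1, g2, g3⟩ := exists_sum_type h2 hnd₁ horth₁ hW₁M hW₁
        (finrank F (negS y) - 1) a (by omega) (by omega) (by rw [hW₁dim]; omega) want
      exact ⟨W₀ ⊔ W₁, (inv_of_le_neg hW₀M).sup (inv_of_le_fix hW₁M), g1, by rw [g2, hm], g3⟩
  · by_cases hB1 : m < finrank F (fixS y)
    · obtain ⟨W₀, hW₀M, g1, g2, g3⟩ := exists_sum_type h2 hnd₀ horth₀ (W₁ := ⊥) bot_le ndeg_bot m a
        hm0 hB1 (by rw [hbot, add_zero, hm]) want
      exact ⟨W₀ ⊔ ⊥, (inv_of_le_fix hW₀M).sup inv_bot, g1, by rw [g2, hm], g3⟩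
    · obtain ⟨W₀, hW₀M, g1, g2, g3⟩ := exists_sum_type h2 hnd₀ horth₀ (W₁ := negS y) le_rfl hnd₁
        (m - 1) a (by omega) (by omega) (by omega) want
      exact ⟨W₀ ⊔ negS y, (inv_of_le_fix hW₀M).sup (inv_of_le_neg le_rfl), g1, by rw [g2, hm], g3⟩

end Cfsg.Agent.Lib.Helper2.OrthNd
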