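import Mathlib
import Cfsg.Agent.Lib.Helper2.OrthNdL

set_option autoImplicit false

/-!
Existence of invariant nondegenerate subspaces of prescribed dimension and type for an isometry
of odd prime order `r ≠ p`.
-/

namespace Cfsg.Agent.Lib.Helper2.OrthNd

open Module QuadraticMap Polynomial
open Cfsg.Agent.Lib.Helper2.MaxTS2 Cfsg.Agent.Lib.Helper2.OrthEl
open Cfsg.Agent.H9SemiInv
open Cfsg.Agent.Lib.Helper9.H9Elus

theorem arith_choice (c n m e₀ A : ℕ) (hc : 2 ≤ c) (hn : n = e₀ + c * A) (hcm : c ≤ m)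
    (hmn : m < n) (hlk : m % c < n % c) :
    ∃ j m₀, j ≤ A ∧ m = m₀ + c * j ∧ m₀ < e₀ ∧ (0 < m₀ ∨ (m₀ = 0 ∧ j = m / c ∧ m % c = 0)) := by
  have hm := Nat.div_add_mod m c
  have hn' := Nat.div_add_mod n c
  have hml := Nat.mod_lt m (show 0 < c by omega)
  have hnl := Nat.mod_lt n (show 0 < c by omega)
  have hAN : A ≤ n / c := by
    rw [Nat.le_div_iff_mul_le (by omega)]
    rw [mul_comm]
    omega
  have hMN : m / c ≤ n / c := Nat.div_le_div_right hmn.le
  have hM1 : 1 ≤ m / c := by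
    rw [Nat.le_div_iff_mul_le (by omega)]
    omega
  have hAN' : c * A ≤ c * (n / c) := Nat.mul_le_mul_left c hAN
  by_cases hMA : m / c ≤ A
  · -- all blocks of `m` fit
    rcases Nat.eq_zero_or_pos (m % c) with hl | hl
    · by_cases hAN2 : A = n / c
      · refine ⟨m / c, 0, hMA, by omega, ?_, Or.inr ⟨rfl, rfl, hl⟩⟩
        rw [hAN2] at hn
        omega
      · have hlt : A + 1 ≤ n / c := by omega
        have h1 : c * (A + 1) ≤ c * (n / c) := Nat.mul_le_mul_left c hlt
        rw [mul_add, mul_one] at h1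
        refine ⟨m / c - 1, c, by omega, ?_, by omega, Or.inl (by omega)⟩
        have h3 : c * (m / c - 1) + c = c * (m / c) := by
          rw [Nat.mul_sub, mul_one]
          have : c ≤ c * (m / c) := Nat.le_mul_of_pos_right c hM1
          omega
        omega
    · refine ⟨m / c, m % c, hMA, by omega, by omega, Or.inl hl⟩
  · have hlt : A + 1 ≤ m / c := by omega
    have h1 : c * (A + 1) ≤ c * (m / c) := Nat.mul_le_mul_left c hlt
    rw [mul_add, mul_one] at h1
    refine ⟨A, m - c * A, le_rfl, by omega, by omega, Or.inl (by omega)⟩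

variable {F : Type*} [Field F] [Fintype F] [DecidableEq F] {p : ℕ} [Fact p.Prime] [CharP F p]
variable {V : Type*} [AddCommGroup V] [Module F V] [FiniteDimensional F V]
variable {Q : QuadraticForm F V} {y : V →ₗ[F] V}

theorem exists_inv_ndeg_odd (hodd : Odd (Fintype.card F)) (hQ : (polarBilin Q).Nondegenerate)
    (hiso : ∀ v, Q (y v) = Q v) (r : ℕ) [Fact r.Prime] (hrp : r ≠ p) (hr2 : r ≠ 2)
    (hy : y ^ r = 1) (i c : ℕ) (hi : i = orderOf ((Fintype.card F : ℕ) : ZMod r))
    (hc : c = if Even i then i else 2 * i) (n m a : ℕ) (hn : finrank F V = n) (hm : m = 2 * a)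
    (hcm : c ≤ m) (hmn : m < n) (hlk : m % c < n % c) (want : Prop)
    (htype : 0 < m % c ∨ (want ↔ (Even i → Even (m / i)))) :
    ∃ W : Submodule F V, Inv y W ∧ NDeg Q W ∧ finrank F W = m ∧ (PlusS Q W ↔ want) := by
  have h2 : (2 : F) ≠ 0 := two_ne_zero_of_odd_card hodd
  have hi1 : 1 ≤ i := by rw [hi]; exact order_pos (F := F) r hrp
  have hc2 : 2 ≤ c := by
    rw [hc]
    split_ifs with hev
    · obtain ⟨t, ht⟩ := hev
      omega
    · omega
  have hcomp := isCompl_ker r hrp y hy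
  have hsum : finrank F (fixS y) + finrank F (cycS y r) = n := by
    rw [← hn]
    exact Submodule.finrank_add_eq_of_isCompl hcomp
  have hnd₀ := ndeg_fixS hQ hiso r hrp hy
  have hnd₁ := ndeg_cycS hQ hiso r hrp hy
  have hinv₁ : Inv y (cycS y r) := inv_ker_aeval y _
  have horth₁ : cycS y r ≤ perp Q (fixS y) := le_of_eq (cycS_eq_perp hQ hiso r hrp hy)
  have horth₀ : fixS y ≤ perp Q (cycS y r) := le_perp_comm horth₁
  obtain ⟨A, hA⟩ := cc_dvd_finrank hodd hQ hiso r hrp hr2 hy i c hi hc (cycS y r) le_rfl hinv₁ hnd₁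
  obtain ⟨j, m₀, hjA, hmj, hm₀, hcase⟩ := arith_choice c n m (finrank F (fixS y)) A hc2
    (by rw [← hA]; exact hsum.symm) hcm hmn hlk
  have hcs : c * (A - j) ≤ finrank F (cycS y r) := by
    rw [hA]
    exact Nat.mul_le_mul_left c (Nat.sub_le A j)
  obtain ⟨W₁, hW₁V, hW₁inv, hW₁, hW₁dim⟩ := exists_inv_ndeg_chain hodd hQ hiso r hrp hr2 hy i c hi hc
    (cycS y r) le_rfl hinv₁ hnd₁ (A - j) hcs
  have hW₁dim' : finrank F W₁ = c * j := by
    have h1 : c * (A - j) + c * j = c * A := by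
      rw [← mul_add, Nat.sub_add_cancel hjA]
    omega
  rcases hcase with hpos | ⟨hm₀0, hj, hl⟩
  · obtain ⟨W₀, hW₀M, g1, g2, g3⟩ := exists_sum_type h2 hnd₀ horth₀ hW₁V hW₁ m₀ a hpos hm₀
      (by rw [hW₁dim']; omega) want
    exact ⟨W₀ ⊔ W₁, (inv_of_le_fix hW₀M).sup hW₁inv, g1, by rw [g2, hm], g3⟩
  · have hdim : finrank F W₁ = m := by rw [hW₁dim']; omega
    refine ⟨W₁, hW₁inv, hW₁, hdim, ?_⟩
    have hwant : want ↔ (Even i → Even (m / i)) := by
      rcases htype with h | h
      · omega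
      · exact h
    rw [hwant]
    by_cases hev : Even i
    · have hci : c = i := by rw [hc, if_pos hev]
      obtain ⟨h, hh⟩ := hev
      have hj1 : 1 ≤ j := by
        rw [hj, Nat.le_div_iff_mul_le (by omega)]
        omega
      have h3 := plusS_iff_even hodd hiso r hrp hr2 hy h (by rw [← hi, hh]; ring) W₁ hW₁V hW₁inv
        hW₁ j hj1 (by rw [hW₁dim', hci, hh]; ring)
      rw [h3, hj, hci]
      constructor
      · intro h4 _
        exact h4
      · intro h4
        exact h4 ⟨h, hh⟩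
    · have hpl := plusS_of_odd hodd hQ hiso r hrp hr2 hy
        (by rw [← hi]; exact Nat.not_even_iff_odd.1 hev) W₁ hW₁V hW₁inv hW₁
      constructor
      · intro _ h4
        exact absurd h4 hev
      · intro _
        exact hpl

end Cfsg.Agent.Lib.Helper2.OrthNd
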