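import Mathlib
import Cfsg.Agent.Lib.Helper2.OrthNdM

set_option autoImplicit false

/-!
Necessity: the dimension and the type of an invariant nondegenerate subspace of an isometry of odd
prime order whose fixed space is small.
-/

namespace Cfsg.Agent.Lib.Helper2.OrthNd

open Module QuadraticMap Polynomial
open Cfsg.Agent.Lib.Helper2.MaxTS2 Cfsg.Agent.Lib.Helper2.OrthEl
open Cfsg.Agent.H9SemiInv
open Cfsg.Agent.Lib.Helper9.H9Elus

variable {F : Type*} [Field F] [Fintype F] [DecidableEq F] {p : ℕ} [Fact p.Prime] [CharP F p]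
variable {V : Type*} [AddCommGroup V] [Module F V] [FiniteDimensional F V]
variable {Q : QuadraticForm F V} {y : V →ₗ[F] V}

theorem nec_inv_ndeg (hodd : Odd (Fintype.card F)) (hQ : (polarBilin Q).Nondegenerate)
    (hiso : ∀ v, Q (y v) = Q v) (r : ℕ) [Fact r.Prime] (hrp : r ≠ p) (hr2 : r ≠ 2)
    (hy : y ^ r = 1) (i c : ℕ) (hi : i = orderOf ((Fintype.card F : ℕ) : ZMod r))
    (hc : c = if Even i then i else 2 * i) (k : ℕ) (hk : finrank F (fixS y) = k) (hkc : k < c)
    (hkodd : Odd k) (W : Submodule F V) (hWinv : Inv y W) (hW : NDeg Q W) (m : ℕ)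
    (hm : finrank F W = m) (hmev : Even m) (hm0 : 0 < m) :
    m % c < k ∧ (k < m → c ≤ m) ∧ (m % c = 0 → (PlusS Q W ↔ (Even i → Even (m / i)))) := by
  obtain ⟨hA, hB, hdim⟩ := ndeg_split hiso r hrp hy W hWinv hW
  have hinv₁ : Inv y (cycS y r) := inv_ker_aeval y _
  have ha : finrank F ↥(W ⊓ fixS y) ≤ k := by
    rw [← hk]
    exact Submodule.finrank_mono inf_le_right
  obtain ⟨t, ht⟩ := cc_dvd_finrank hodd hQ hiso r hrp hr2 hy i c hi hc (W ⊓ cycS y r) inf_le_right
    (hWinv.inf hinv₁) hB
  have hi1 : 1 ≤ i := by rw [hi]; exact order_pos (F := F) r hrp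
  have hceven : Even c := by
    rw [hc]
    split_ifs with h
    · exact h
    · exact even_two_mul i
  set a := finrank F ↥(W ⊓ fixS y) with ha_def
  rw [ht, hm] at hdim
  have hac : a < c := lt_of_le_of_lt ha hkc
  have hmod : m % c = a := by
    rw [hdim, Nat.add_mul_mod_self_left, Nat.mod_eq_of_lt hac]
  have haev : Even a := by
    have h1 : Even (c * t) := hceven.mul_right t
    rw [hdim] at hmev
    exact (Nat.even_add.1 hmev).2 h1
  have hak : a < k := by
    rcases Nat.lt_or_ge a k with h | h
    · exact h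
    · exfalso
      have : a = k := le_antisymm ha h
      rw [this] at haev
      exact (Nat.not_even_iff_odd.2 hkodd) haev
  refine ⟨by rw [hmod]; exact hak, ?_, ?_⟩
  · intro hkm
    have ht1 : 1 ≤ t := by
      rcases Nat.eq_zero_or_pos t with h | h
      · exfalso
        rw [h, mul_zero, add_zero] at hdim
        omega
      · exact h
    calc c = c * 1 := (mul_one c).symm
      _ ≤ c * t := Nat.mul_le_mul_left c ht1
      _ ≤ m := by rw [hdim]; exact Nat.le_add_left _ _
  · intro h0
    rw [hmod] at h0
    have hbot : W ⊓ fixS y = ⊥ := Submodule.finrank_eq_zero.1 h0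
    have hWc : W ≤ cycS y r := by
      have h1 := inv_split r hrp hy W hWinv
      rw [hbot, bot_sup_eq] at h1
      rw [h1]
      exact inf_le_right
    rw [h0, zero_add] at hdim
    have ht1 : 1 ≤ t := by
      rcases Nat.eq_zero_or_pos t with h | h
      · exfalso
        rw [h, mul_zero] at hdim
        omega
      · exact h
    by_cases hev : Even i
    · have hci : c = i := by rw [hc, if_pos hev]
      obtain ⟨h, hh⟩ := hev
      have hi2 : orderOf ((Fintype.card F : ℕ) : ZMod r) = 2 * h := by rw [← hi, hh]; ring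
      have hdim' : finrank F W = 2 * h * t := by
        rw [hm, hdim, hci, hh]; ring
      have hmi : m / i = t := by
        rw [hdim, hci]
        exact Nat.mul_div_cancel_left t (by omega)
      rw [plusS_iff_even hodd hiso r hrp hr2 hy h hi2 W hWc hWinv hW t ht1 hdim', hmi]
      constructor
      · intro h1 _
        exact h1
      · intro h1
        exact h1 ⟨h, hh⟩
    · have hio : Odd (orderOf ((Fintype.card F : ℕ) : ZMod r)) := by
        rw [← hi]
        exact Nat.not_even_iff_odd.1 hev
      have hp := plusS_of_odd hodd hQ hiso r hrp hr2 hy hio W hWc hWinv hW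
      constructor
      · intro _ h1
        exact absurd h1 hev
      · intro _
        exact hp

end Cfsg.Agent.Lib.Helper2.OrthNd
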