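import Mathlib
import Cfsg.Agent.Lib.Helper2.OrthNdN
import Cfsg.Agent.Lib.Helper2.Witt3

set_option autoImplicit false

/-!
The isometry group of a quadratic space acts transitively on the nondegenerate subspaces of a given
dimension and discriminant character; hence their number divides the order of the isometry group.
-/

namespace Cfsg.Agent.Lib.Helper2.OrthNd

open Module QuadraticMap Polynomial Pointwise
open Cfsg.Agent.Lib.Helper2.MaxTS2 Cfsg.Agent.Lib.Helper2.OrthEl
open Cfsg.Agent.H9SemiInv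
open Cfsg.Agent.Lib.Helper9.H9Elus

section grp

variable {F : Type*} [Field F]
variable {V : Type*} [AddCommGroup V] [Module F V]

/-- the isometry group of a quadratic form, inside the linear automorphisms -/
def qIso (Q : QuadraticForm F V) : Subgroup (V ≃ₗ[F] V) where
  carrier := {g | ∀ v, Q (g v) = Q v}
  mul_mem' := fun {a b} ha hb v => by
    rw [LinearEquiv.mul_apply, ha, hb]
  one_mem' := fun v => rfl
  inv_mem' := fun {a} ha v => by
    have h1 := ha (a⁻¹ v)
    rw [← LinearEquiv.mul_apply, mul_inv_cancel] at h1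
    exact h1.symm

variable {Q : QuadraticForm F V}

theorem mem_qIso (g : V ≃ₗ[F] V) : g ∈ qIso Q ↔ ∀ v, Q (g v) = Q v := Iff.rfl

theorem smul_eq_map (g : V ≃ₗ[F] V) (W : Submodule F V) :
    g • W = W.map (g : V →ₗ[F] V) := by
  ext v
  rw [Submodule.mem_smul_pointwise_iff_exists, Submodule.mem_map]
  rfl

end grp

variable {F : Type*} [Field F] [Fintype F] [DecidableEq F]
variable {V : Type*} [AddCommGroup V] [Module F V] [FiniteDimensional F V]
variable {Q : QuadraticForm F V}

/-- transport of the nondegeneracy, the dimension and the discriminant character by an isometry -/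
theorem map_iso_props (g : V ≃ₗ[F] V) (hg : ∀ v, Q (g v) = Q v) (W : Submodule F V)
    (hW : NDeg Q W) :
    NDeg Q (W.map (g : V →ₗ[F] V)) ∧ finrank F ↥(W.map (g : V →ₗ[F] V)) = finrank F W ∧
      dchS Q (W.map (g : V →ₗ[F] V)) = dchS Q W := by
  have hpol : ∀ a b, polar (⇑Q) (g a) (g b) = polar (⇑Q) a b := by
    intro a b
    unfold polar
    rw [← map_add, hg, hg, hg]
  refine ⟨?_, LinearEquiv.finrank_map_eq g W, ?_⟩
  · unfold NDeg
    rw [Submodule.disjoint_def]
    rintro _ ⟨w, hw, rfl⟩ hperp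
    have h1 : w = 0 := by
      apply (Submodule.disjoint_def.1 hW) w hw
      rw [mem_perp_iff]
      intro x hx
      rw [← hpol]
      exact ((mem_perp_iff _ _).1 hperp) (g x) ⟨x, hx, rfl⟩
    rw [h1]
    exact map_zero _
  · unfold dchS
    exact dch_equiv (g.submoduleMap W) (fun v => by
      rw [QuadraticMap.comp_apply, QuadraticMap.comp_apply, Submodule.subtype_apply,
        Submodule.subtype_apply, LinearEquiv.submoduleMap_apply, hg])

/-- transitivity -/
theorem exists_iso_map_eq (h2 : (2 : F) ≠ 0) (hQ : (polarBilin Q).Nondegenerate)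
    {W₁ W₂ : Submodule F V} (h₁ : NDeg Q W₁) (h₂ : NDeg Q W₂)
    (hdim : finrank F W₁ = finrank F W₂) (hd : dchS Q W₁ = dchS Q W₂) :
    ∃ g : V ≃ₗ[F] V, (∀ v, Q (g v) = Q v) ∧ W₁.map (g : V →ₗ[F] V) = W₂ := by
  obtain ⟨e, he⟩ := exists_isometry h2 h₁.restrict h₂.restrict hdim hd
  obtain ⟨g, hg, hge⟩ := Witt.witt_equiv Q hQ W₁ W₂ e (fun x => by
    have := he x
    rw [QuadraticMap.comp_apply, QuadraticMap.comp_apply, Submodule.subtype_apply,
      Submodule.subtype_apply] at this
    exact this)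
  refine ⟨g, hg, ?_⟩
  apply Submodule.eq_of_le_of_finrank_eq
  · rintro _ ⟨w, hw, rfl⟩
    have := hge ⟨w, hw⟩
    show g w ∈ W₂
    rw [show g w = (e ⟨w, hw⟩ : V) from this]
    exact (e ⟨w, hw⟩).2
  · rw [LinearEquiv.finrank_map_eq g W₁, hdim]

/-- the number of nondegenerate subspaces of a given dimension and discriminant character divides
the order of the isometry group -/
theorem card_dvd_card_qIso (h2 : (2 : F) ≠ 0) (hQ : (polarBilin Q).Nondegenerate)
    (W₀ : Submodule F V) (h₀ : NDeg Q W₀) :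
    Nat.card {W : Submodule F V // NDeg Q W ∧ finrank F W = finrank F W₀ ∧
      dchS Q W = dchS Q W₀} ∣ Nat.card ↥(qIso Q) := by
  have horb : MulAction.orbit ↥(qIso Q) W₀ = {W : Submodule F V | NDeg Q W ∧
      finrank F W = finrank F W₀ ∧ dchS Q W = dchS Q W₀} := by
    ext W
    constructor
    · rintro ⟨g, rfl⟩
      show NDeg Q ((g : V ≃ₗ[F] V) • W₀) ∧ finrank F ↥((g : V ≃ₗ[F] V) • W₀) = finrank F W₀ ∧
        dchS Q ((g : V ≃ₗ[F] V) • W₀) = dchS Q W₀
      rw [smul_eq_map]
      exact map_iso_props g.1 g.2 W₀ h₀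
    · rintro ⟨hW, hdim, hd⟩
      obtain ⟨g, hg, hgW⟩ := exists_iso_map_eq h2 hQ h₀ hW hdim.symm hd.symm
      refine ⟨⟨g, hg⟩, ?_⟩
      show (g : V ≃ₗ[F] V) • W₀ = W
      rw [smul_eq_map, hgW]
  have h1 := MulAction.index_stabilizer (G := ↥(qIso Q)) (x := W₀)
  have h3 : Nat.card {W : Submodule F V // NDeg Q W ∧ finrank F W = finrank F W₀ ∧
      dchS Q W = dchS Q W₀} = (MulAction.orbit ↥(qIso Q) W₀).ncard := by
    rw [horb]
    exact Nat.card_coe_set_eq _
  rw [h3, ← h1]
  exact Subgroup.index_dvd_card _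

end Cfsg.Agent.Lib.Helper2.OrthNd
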