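import Mathlib
import Cfsg.Agent.Lib.Helper2.OrthNdO

set_option autoImplicit false

/-!
The order of the isometry group of a small space is prime to `r`; the number of nondegenerate
subspaces of a given dimension and type is prime to `r` when the dimension is smaller than the
fixed space of a suitable isometry of order `r`.
-/

namespace Cfsg.Agent.Lib.Helper2.OrthNd

open Module QuadraticMap Polynomial
open Cfsg.Agent.Lib.Helper2.MaxTS2 Cfsg.Agent.Lib.Helper2.OrthEl
open Cfsg.Agent.H9SemiInv
open Cfsg.Agent.Lib.Helper9.H9Elus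

section gen

variable {F : Type*} [Field F]
variable {V : Type*} [AddCommGroup V] [Module F V]
variable {V₂ : Type*} [AddCommGroup V₂] [Module F V₂]

theorem coe_pow_apply (g : V ≃ₗ[F] V) (n : ℕ) (v : V) :
    ((g : V →ₗ[F] V) ^ n) v = (g ^ n) v := by
  induction n generalizing v with
  | zero => rfl
  | succ n ih =>
    rw [pow_succ, pow_succ, Module.End.mul_apply, LinearEquiv.mul_apply, ih]
    rfl

theorem nondeg_of_equiv {Q : QuadraticForm F V} {Q₂ : QuadraticForm F V₂} (e : V ≃ₗ[F] V₂)
    (he : ∀ v, Q₂ (e v) = Q v) (h : (polarBilin Q).Nondegenerate) :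
    (polarBilin Q₂).Nondegenerate := by
  have hpol : ∀ a b, polar (⇑Q₂) (e a) (e b) = polar (⇑Q) a b := by
    intro a b
    unfold polar
    rw [← map_add, he, he, he]
  apply QIso.nondeg_of_left
  intro u hu
  have h1 : e.symm u = 0 := by
    apply h.1
    intro v
    rw [polarBilin_apply_apply, ← hpol, LinearEquiv.apply_symm_apply]
    exact hu (e v)
  have := congrArg e h1
  rwa [LinearEquiv.apply_symm_apply, map_zero] at this

end gen

section sub

variable {F : Type*} [Field F] [Fintype F] [DecidableEq F]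
variable {V : Type*} [AddCommGroup V] [Module F V] [FiniteDimensional F V]
variable {Q : QuadraticForm F V}

/-- dictionary between the subspaces of a subspace `Y` and the subspaces of the ambient space -/
theorem sub_props (Y : Submodule F V) (W' : Submodule F ↥Y) :
    (NDeg (Q.comp Y.subtype) W' ↔ NDeg Q (W'.map Y.subtype)) ∧
      finrank F ↥(W'.map Y.subtype) = finrank F W' ∧
      dchS Q (W'.map Y.subtype) = dchS (Q.comp Y.subtype) W' := by
  set ε : ↥W' ≃ₗ[F] ↥(W'.map Y.subtype) := Y.equivSubtypeMap W' with hε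
  have hεiso : ∀ v, (Q.comp (W'.map Y.subtype).subtype) (ε v) =
      ((Q.comp Y.subtype).comp W'.subtype) v := by
    intro v
    simp only [QuadraticMap.comp_apply, Submodule.subtype_apply]
    rfl
  have hεiso' : ∀ v, ((Q.comp Y.subtype).comp W'.subtype) (ε.symm v) =
      (Q.comp (W'.map Y.subtype).subtype) v := by
    intro v
    rw [← hεiso, LinearEquiv.apply_symm_apply]
  refine ⟨?_, ε.finrank_eq.symm, ?_⟩
  · constructor
    · intro h
      apply ndeg_of_restrict
      exact nondeg_of_equiv ε hεiso h.restrict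
    · intro h
      apply ndeg_of_restrict
      exact nondeg_of_equiv ε.symm hεiso' h.restrict
  · unfold dchS
    exact dch_equiv ε hεiso

theorem card_dvd_card_qIso' (h2 : (2 : F) ≠ 0) (hQ : (polarBilin Q).Nondegenerate)
    (W₀ : Submodule F V) (h₀ : NDeg Q W₀) (m : ℕ) (s : ℤ) (hm : finrank F W₀ = m)
    (hs : dchS Q W₀ = s) :
    Nat.card {W : Submodule F V // NDeg Q W ∧ finrank F W = m ∧ dchS Q W = s} ∣
      Nat.card ↥(qIso Q) := by
  subst hm
  subst hs
  exact card_dvd_card_qIso h2 hQ W₀ h₀

end sub

variable {F : Type*} [Field F] [Fintype F] [DecidableEq F] {p : ℕ} [Fact p.Prime] [CharP F p]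
variable {V : Type*} [AddCommGroup V] [Module F V] [FiniteDimensional F V]
variable {Q : QuadraticForm F V} {y : V →ₗ[F] V}

omit [DecidableEq F] in
/-- a space of dimension less than the block size has no isometry of order `r` -/
theorem not_dvd_card_qIso (hodd : Odd (Fintype.card F)) (hQ : (polarBilin Q).Nondegenerate)
    (r : ℕ) [Fact r.Prime] (hrp : r ≠ p) (hr2 : r ≠ 2) (i c : ℕ)
    (hi : i = orderOf ((Fintype.card F : ℕ) : ZMod r)) (hc : c = if Even i then i else 2 * i)
    (hdim : finrank F V < c) : ¬ r ∣ Nat.card ↥(qIso Q) := by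
  intro hdvd
  have : Finite V := Module.finite_of_finite F
  have : Finite (V ≃ₗ[F] V) := Finite.of_injective (fun g => (g : V → V)) DFunLike.coe_injective
  obtain ⟨g, hg⟩ := exists_prime_orderOf_dvd_card' r hdvd
  set y : V →ₗ[F] V := ((g : V ≃ₗ[F] V) : V →ₗ[F] V) with hy_def
  have hiso : ∀ v, Q (y v) = Q v := g.2
  have hy : y ^ r = 1 := by
    apply LinearMap.ext
    intro v
    rw [coe_pow_apply, Module.End.one_apply]
    have h1 : g ^ r = 1 := by rw [← hg]; exact pow_orderOf_eq_one g
    have h2 : (g : V ≃ₗ[F] V) ^ r = 1 := by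
      have := congrArg Subtype.val h1
      rwa [Subgroup.coe_pow] at this
    rw [h2]
    rfl
  have hne : cycS y r ≠ ⊥ := by
    intro hbot
    have hc' := isCompl_ker r hrp y hy
    have htop : fixS y = ⊤ := by
      have h0 : fixS y ⊔ cycS y r = ⊤ := hc'.sup_eq_top
      rwa [hbot, sup_bot_eq] at h0
    have h1 : g = 1 := by
      apply Subtype.ext
      apply LinearEquiv.ext
      intro v
      have : v ∈ fixS y := by rw [htop]; trivial
      exact (mem_fixS v).1 this
    rw [h1, orderOf_one] at hg
    exact (Fact.out : r.Prime).one_lt.ne hg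
  have hnd := ndeg_cycS hQ hiso r hrp hy
  obtain ⟨t, ht⟩ := cc_dvd_finrank hodd hQ hiso r hrp hr2 hy i c hi hc (cycS y r) le_rfl
    (inv_ker_aeval y _) hnd
  have hpos : 0 < finrank F (cycS y r) := by
    rw [Nat.pos_iff_ne_zero]
    intro h0
    exact hne (Submodule.finrank_eq_zero.1 h0)
  have hle : finrank F (cycS y r) ≤ finrank F V := Submodule.finrank_le _
  have ht1 : 1 ≤ t := by
    rcases Nat.eq_zero_or_pos t with h | h
    · rw [h, mul_zero] at ht
      omega
    · exact h
  have : c ≤ c * t := Nat.le_mul_of_pos_right c ht1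
  omega

end Cfsg.Agent.Lib.Helper2.OrthNd
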