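import Mathlib
import Cfsg.Agent.Lib.Helper2.OrthNdQ
import Cfsg.Agent.Lib.Helper2.OrthElP

set_option autoImplicit false

/-!
The model: an element of `Ω_{2d+1}(q)` of odd prime order `r ≠ p` whose fixed space has a prescribed
dimension.
-/

namespace Cfsg.Agent.Lib.Helper2.OrthNd

open Module QuadraticMap Polynomial
open scoped Matrix
open Cfsg.Agent.Lib.Helper2.MaxTS2 Cfsg.Agent.Lib.Helper2.OrthEl
open Cfsg.Agent.H9SemiInv
open Cfsg.Agent.Lib.Helper9.H9Elus
open Cfsg.Agent.Lib.Helper2.OrthCard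

universe u

section model

variable {F : Type u} [Field F] [Fintype F] {p : ℕ} [Fact p.Prime] [CharP F p]

open QIso

/-- the block of dimension `c` -/
theorem exists_block (hodd : Odd (Fintype.card F)) (r : ℕ) [Fact r.Prime] (hrp : r ≠ p)
    (i c : ℕ) (hi : i = orderOf ((Fintype.card F : ℕ) : ZMod r))
    (hc : c = if Even i then i else 2 * i) :
    ∃ B : QIso F, B.Good r ∧ B.Ann (cyclotomic r F) ∧ finrank F B.V = c := by
  by_cases hev : Even i
  · obtain ⟨S, hS, hcard⟩ := exists_factors (F := F) r hrp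
    have hr2 := (Fact.out : r.Prime).two_le
    have hSne : S.Nonempty := by
      rw [Finset.nonempty_iff_ne_empty]
      intro h
      rw [h, Finset.card_empty, zero_mul] at hcard
      omega
    obtain ⟨g, hg⟩ := hSne
    obtain ⟨hgirr, hgd, -⟩ := hS g hg
    obtain ⟨B, hB, hBann, hBdim⟩ := exists_herm hodd r hrp g hgirr hgd (by rw [← hi]; exact hev)
    refine ⟨B, hB, ann_of_dvd hBann hgd, ?_⟩
    rw [hBdim, hc, if_pos hev, hi]
  · obtain ⟨B, hB, hBann, hBdim⟩ := exists_pair (F := F) r hrp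
    refine ⟨B, hB, hBann, ?_⟩
    rw [hBdim, hc, if_neg hev, hi]

/-- the model with fixed space of dimension `k` and `N` blocks -/
theorem exists_model_fix (hodd : Odd (Fintype.card F)) (r : ℕ) [Fact r.Prime] (hrp : r ≠ p)
    (i c : ℕ) (hi : i = orderOf ((Fintype.card F : ℕ) : ZMod r))
    (hc : c = if Even i then i else 2 * i) (k N : ℕ) :
    ∃ M : QIso F, M.Good r ∧ finrank F M.V = k + c * N ∧ (0 < N → M.y ≠ 1) ∧
      finrank F (fixS M.y) = k := by
  have h2 : (2 : F) ≠ 0 := two_ne_zero_of_odd_card hodd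
  have hi1 : 1 ≤ i := by rw [hi]; exact order_pos (F := F) r hrp
  have hc1 : 1 ≤ c := by
    rw [hc]
    split_ifs <;> omega
  obtain ⟨B, hB, hBann, hBdim⟩ := exists_block hodd r hrp i c hi hc
  obtain ⟨R, hR, hRann, hRdim⟩ := exists_pow B hB hBann N
  obtain ⟨E, hE, hEann, hEdim⟩ := exists_fixed (F := F) h2 r k
  have hEy : ∀ a, E.y a = a := by
    intro a
    have h1 : aeval E.y (X - 1 : F[X]) = 0 := hEann
    have h3 : a ∈ fixS E.y := by
      rw [LinearMap.mem_ker, h1, LinearMap.zero_apply]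
    exact (mem_fixS a).1 h3
  refine ⟨E.prod R, prod_good hE hR, ?_, ?_, ?_⟩
  · rw [QIso.finrank_prod, hEdim, hRdim, hBdim, mul_comm]
  · intro hpos h1
    apply ne_one_of_free r hrp hR hRann (by rw [hRdim, hBdim]; positivity)
    apply LinearMap.ext
    intro v
    have := congrArg (fun f : (E.prod R).V →ₗ[F] (E.prod R).V => (f (0, v)).2) h1
    exact this
  · have hfix : fixS (E.prod R).y = LinearMap.range (LinearMap.inl F E.V R.V) := by
      ext v
      rw [mem_fixS, LinearMap.mem_range]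
      constructor
      · intro hv
        have h1 : R.y v.2 = v.2 := by
          have := congrArg Prod.snd hv
          exact this
        have h3 : v.2 = 0 := by
          apply eq_zero_of_fix_of_cyc r hrp hR.2.2 h1
          rw [cycS_eq_top hRann]
          exact Submodule.mem_top
        refine ⟨v.1, ?_⟩
        apply Prod.ext
        · rfl
        · exact h3.symm
      · rintro ⟨a, rfl⟩
        show (E.y a, R.y 0) = (a, 0)
        rw [hEy, map_zero]
    rw [hfix, LinearMap.finrank_range_of_inj LinearMap.inl_injective, hEdim]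

end model

section transport

variable {F : Type u} [Field F] [Fintype F]

/-- a model space of dimension `2d+1` with an isometry of odd prime order gives an element of
`Ω` of that order with a fixed space of the same dimension -/
theorem exists_omega_of_model_fix (hodd : Odd (Fintype.card F)) (d : ℕ) (hd : 1 ≤ d) (r : ℕ)
    (hr : r.Prime) (hr2 : r ≠ 2) (M : QIso F) (hM : M.Good r)
    (hdim : finrank F M.V = 2 * d + 1) (hne : M.y ≠ 1) :
    ∃ x : Matrix.GeneralLinearGroup (Unit ⊕ (Fin d ⊕ Fin d)) F,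
      x ∈ Cfsg.Geo.omegaGL (Cfsg.quadFormOdd d F) ∧ orderOf x = r ∧
      finrank F (fixS (Matrix.toLin'
        (x : Matrix (Unit ⊕ (Fin d ⊕ Fin d)) (Unit ⊕ (Fin d ⊕ Fin d)) F))) =
        finrank F (fixS M.y) := by
  classical
  have h2 : (2 : F) ≠ 0 := two_ne_zero_of_odd_card hodd
  obtain ⟨c, e, hc, he⟩ := exists_similarity_odd h2 hM.1 d hdim
  have hr1 : 1 ≤ r := hr.one_lt.le
  -- the conjugated map
  set y' : (Unit ⊕ (Fin d ⊕ Fin d) → F) →ₗ[F] (Unit ⊕ (Fin d ⊕ Fin d) → F) :=
    e.toLinearMap ∘ₗ M.y ∘ₗ e.symm.toLinearMap with hy'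
  have hy'app : ∀ u, y' u = e (M.y (e.symm u)) := fun u => rfl
  have hy'pow : ∀ k : ℕ, ∀ u, (y' ^ k) u = e ((M.y ^ k) (e.symm u)) := by
    intro k
    induction k with
    | zero =>
      intro u
      rw [pow_zero, pow_zero, Module.End.one_apply, Module.End.one_apply,
        LinearEquiv.apply_symm_apply]
    | succ k ih =>
      intro u
      rw [pow_succ, Module.End.mul_apply, ih, hy'app, LinearEquiv.symm_apply_apply, pow_succ,
        Module.End.mul_apply]
  have hy'r : y' ^ r = 1 := by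
    apply LinearMap.ext
    intro u
    rw [hy'pow, hM.2.2, Module.End.one_apply, Module.End.one_apply, LinearEquiv.apply_symm_apply]
  have hmul1 : LinearMap.toMatrix' y' * LinearMap.toMatrix' (y' ^ (r - 1)) = 1 := by
    rw [← LinearMap.toMatrix'_mul, ← pow_succ', Nat.sub_add_cancel hr1, hy'r,
      LinearMap.toMatrix'_one]
  have hmul2 : LinearMap.toMatrix' (y' ^ (r - 1)) * LinearMap.toMatrix' y' = 1 := by
    rw [← LinearMap.toMatrix'_mul, ← pow_succ, Nat.sub_add_cancel hr1, hy'r,
      LinearMap.toMatrix'_one]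
  let x : Matrix.GeneralLinearGroup (Unit ⊕ (Fin d ⊕ Fin d)) F :=
    ⟨LinearMap.toMatrix' y', LinearMap.toMatrix' (y' ^ (r - 1)), hmul1, hmul2⟩
  have hxlin : Matrix.toLin' (x : Matrix (Unit ⊕ (Fin d ⊕ Fin d)) (Unit ⊕ (Fin d ⊕ Fin d)) F) = y' :=
    Matrix.toLin'_toMatrix' y'
  have hxmul : ∀ u, (x : Matrix (Unit ⊕ (Fin d ⊕ Fin d)) (Unit ⊕ (Fin d ⊕ Fin d)) F) *ᵥ u = y' u := by
    intro u
    rw [← Matrix.toLin'_apply, hxlin]
  have hxiso : x ∈ Cfsg.isometryGroup F (Cfsg.quadFormOdd d F) := by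
    intro u _
    show Cfsg.quadFormOdd d F ((x : Matrix _ _ F) *ᵥ u) = Cfsg.quadFormOdd d F u
    rw [hxmul, hy'app, he, hM.2.1, ← he, LinearEquiv.apply_symm_apply]
  have hxr : x ^ r = 1 := by
    apply Units.ext
    rw [Units.val_pow_eq_pow_val, Units.val_one]
    show (LinearMap.toMatrix' y') ^ r = 1
    apply Matrix.toLin'.injective
    rw [Matrix.toLin'_pow, Matrix.toLin'_toMatrix', hy'r, Matrix.toLin'_one]
    rfl
  have hx1 : x ≠ 1 := by
    intro h
    apply hne
    have h3 : y' = 1 := by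
      rw [← hxlin, h, Units.val_one, Matrix.toLin'_one]
      rfl
    apply LinearMap.ext
    intro v
    have := congrArg (fun f : (Unit ⊕ (Fin d ⊕ Fin d) → F) →ₗ[F] (Unit ⊕ (Fin d ⊕ Fin d) → F) =>
      e.symm (f (e v))) h3
    simp only [hy'app, LinearEquiv.symm_apply_apply, Module.End.one_apply] at this
    rw [this, Module.End.one_apply]
  obtain ⟨k, hk⟩ : ∃ k, r = 2 * k + 1 := by
    rcases hr.eq_two_or_odd with h6 | h6
    · exact absurd h6 hr2
    · exact ⟨r / 2, by omega⟩
  have hcard : 2 ≤ Fintype.card (Unit ⊕ (Fin d ⊕ Fin d)) := by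
    simp only [Fintype.card_sum, Fintype.card_unit, Fintype.card_fin]
    omega
  refine ⟨x, ?_, ?_, ?_⟩
  · exact mem_omegaGL_of_odd_order h2 (QOd d F) _ (QOd_coe d) (QOd_nondeg h2 d) hcard x hxiso k
      (by rw [← hk]; exact hxr)
  · have : Fact r.Prime := ⟨hr⟩
    exact orderOf_eq_prime hxr hx1
  · rw [hxlin]
    have hmap : fixS y' = (fixS M.y).map (e : M.V →ₗ[F] (Unit ⊕ (Fin d ⊕ Fin d) → F)) := by
      ext v
      rw [mem_fixS, Submodule.mem_map]
      constructor
      · intro hv
        refine ⟨e.symm v, ?_, LinearEquiv.apply_symm_apply e v⟩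
        rw [mem_fixS]
        rw [hy'app] at hv
        have := congrArg e.symm hv
        rwa [LinearEquiv.symm_apply_apply] at this
      · rintro ⟨w, hw, rfl⟩
        rw [mem_fixS] at hw
        show y' (e w) = e w
        rw [hy'app, LinearEquiv.symm_apply_apply, hw]
    rw [hmap]
    exact LinearEquiv.finrank_map_eq e (fixS M.y)

end transport

end Cfsg.Agent.Lib.Helper2.OrthNd
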