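import Mathlib
import Cfsg.Agent.Lib.Helper2.OrthNdR
import Cfsg.Agent.Lib.Helper2.OrthElF

set_option autoImplicit false

/-!
The core of the rows on nondegenerate even-dimensional subspaces of a given type in odd dimension:
the case of an odd prime `r ≠ p` and the case `r = 2`, in the language `NDeg` / `PlusS`.
-/

namespace Cfsg.Agent.Lib.Helper2.OrthNd

open Module QuadraticMap Polynomial
open scoped Matrix
open Cfsg.Agent.Lib.Helper2.MaxTS2 Cfsg.Agent.Lib.Helper2.OrthEl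
open Cfsg.Agent.H9SemiInv
open Cfsg.Agent.Lib.Helper9.H9Elus
open Cfsg.Agent.Lib.Helper2.OrthCard

section abs

variable {F : Type*} [Field F] [Fintype F] [DecidableEq F] {p : ℕ} [Fact p.Prime] [CharP F p]
variable {V : Type*} [AddCommGroup V] [Module F V] [FiniteDimensional F V]
variable {Q : QuadraticForm F V} {y : V →ₗ[F] V}

omit [Fact p.Prime] [CharP F p] in
/-- the type in terms of the discriminant character -/
theorem type_iff_dchS (h2 : (2 : F) ≠ 0) {W : Submodule F V} (hW : NDeg Q W) (a : ℕ)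
    (hdim : finrank F W = 2 * a) (want : Prop) (s : ℤ)
    (hs : (want → s = (quadraticChar F (-1)) ^ a) ∧ (¬ want → s = -(quadraticChar F (-1)) ^ a)) :
    (PlusS Q W ↔ want) ↔ dchS Q W = s := by
  rw [plusS_iff h2 hW a hdim]
  by_cases hw : want
  · rw [hs.1 hw]
    constructor
    · intro h
      exact h.2 hw
    · intro h
      exact ⟨fun _ => hw, fun _ => h⟩
  · rw [hs.2 hw]
    constructor
    · intro h
      have hne : dchS Q W ≠ (quadraticChar F (-1)) ^ a := fun h' => hw (h.1 h')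
      rcases dchS_dichotomy hW with g | g <;> rcases neg_one_char_pow (F := F) a with g' | g'
      · exfalso; apply hne; rw [g, g']
      · rw [g, g']; norm_num
      · rw [g, g']
      · exfalso; apply hne; rw [g, g']
    · intro h
      constructor
      · intro h'
        exfalso
        rw [h'] at h
        rcases neg_one_char_pow (F := F) a with g' | g' <;> rw [g'] at h <;> omega
      · intro h'
        exact absurd h' hw

/-- the counting lemma in terms of the type -/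
theorem not_dvd_card_type (hodd : Odd (Fintype.card F)) (hQ : (polarBilin Q).Nondegenerate)
    (hiso : ∀ v, Q (y v) = Q v) (r : ℕ) [Fact r.Prime] (hrp : r ≠ p) (hr2 : r ≠ 2)
    (hy : y ^ r = 1) (i c : ℕ) (hi : i = orderOf ((Fintype.card F : ℕ) : ZMod r))
    (hc : c = if Even i then i else 2 * i) (hkc : finrank F (fixS y) < c) (m : ℕ) (hm0 : 0 < m)
    (hm : m < finrank F (fixS y)) (a : ℕ) (hma : m = 2 * a) (want : Prop) :
    ¬ r ∣ Nat.card {W : Submodule F V // finrank F W = m ∧ NDeg Q W ∧ (PlusS Q W ↔ want)} := by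
  classical
  have h2 : (2 : F) ≠ 0 := two_ne_zero_of_odd_card hodd
  obtain ⟨s, hs⟩ : ∃ s : ℤ, (want → s = (quadraticChar F (-1)) ^ a) ∧
      (¬ want → s = -(quadraticChar F (-1)) ^ a) := by
    by_cases hw : want
    · exact ⟨(quadraticChar F (-1)) ^ a, fun _ => rfl, fun h => absurd hw h⟩
    · exact ⟨-(quadraticChar F (-1)) ^ a, fun h => absurd h hw, fun _ => rfl⟩
  have hs1 : s = 1 ∨ s = -1 := by
    by_cases hw : want
    · rw [hs.1 hw]
      exact neg_one_char_pow a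
    · rw [hs.2 hw]
      rcases neg_one_char_pow (F := F) a with g | g <;> rw [g]
      · right; rfl
      · left; norm_num
  have hcard : Nat.card {W : Submodule F V // finrank F W = m ∧ NDeg Q W ∧ (PlusS Q W ↔ want)} =
      Nat.card (NdSub Q m s) := by
    apply Nat.card_congr
    apply Equiv.subtypeEquivRight
    intro W
    constructor
    · rintro ⟨h1, h3, h4⟩
      exact ⟨h3, h1, (type_iff_dchS h2 h3 a (h1.trans hma) want s hs).1 h4⟩
    · rintro ⟨h1, h3, h4⟩
      exact ⟨h3, h1, (type_iff_dchS h2 h1 a (h3.trans hma) want s hs).2 h4⟩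
  rw [hcard]
  exact not_dvd_card_ndSub hodd hQ hiso r hrp hr2 hy i c hi hc hkc m hm0 hm s hs1

end abs

section std

universe u

variable {F : Type u} [Field F] [Fintype F] [DecidableEq F] {p : ℕ} [Fact p.Prime] [CharP F p]

omit [DecidableEq F] in
theorem iso_of_mem_omega {d : ℕ} {x : Matrix.GeneralLinearGroup (Unit ⊕ (Fin d ⊕ Fin d)) F}
    (hx : x ∈ Cfsg.Geo.omegaGL (Cfsg.quadFormOdd d F)) (v : Unit ⊕ (Fin d ⊕ Fin d) → F) :
    QOd d F (Matrix.toLin' (x : Matrix (Unit ⊕ (Fin d ⊕ Fin d)) (Unit ⊕ (Fin d ⊕ Fin d)) F) v) =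
      QOd d F v := by
  have := iso_apply (mem_iso_of_mem_omegaGL hx) v
  rwa [← QOd_coe] at this

omit [Fintype F] [DecidableEq F] in
theorem pow_of_orderOf {d : ℕ} {x : Matrix.GeneralLinearGroup (Unit ⊕ (Fin d ⊕ Fin d)) F} {r : ℕ}
    (hxr : orderOf x = r) :
    (Matrix.toLin' (x : Matrix (Unit ⊕ (Fin d ⊕ Fin d)) (Unit ⊕ (Fin d ⊕ Fin d)) F)) ^ r = 1 :=
  toLin'_pow_eq_one (by rw [← hxr]; exact pow_orderOf_eq_one x)

/-- the residue of `2d+1` modulo the even number `c` is odd -/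
theorem odd_mod_of_even {c : ℕ} (hc : Even c) (d : ℕ) : Odd ((2 * d + 1) % c) := by
  obtain ⟨t, ht⟩ := hc
  have h1 := Nat.mod_add_div (2 * d + 1) c
  rcases Nat.even_or_odd ((2 * d + 1) % c) with h | h
  · exfalso
    obtain ⟨s, hs⟩ := h
    rw [hs, ht] at h1
    have : (s + s) + (t + t) * ((2 * d + 1) / (t + t)) = 2 * (s + t * ((2 * d + 1) / (t + t))) := by
      ring
    rw [ht] at hs
    omega
  · exact h

/-- the core for an odd prime `r ≠ p` -/
theorem core_odd (hodd : Odd (Fintype.card F)) (d m a : ℕ) (hd : 1 ≤ d) (hma : m = 2 * a)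
    (hm0 : 0 < m) (hmn : m ≤ 2 * d) (r : ℕ) [Fact r.Prime] (hrp : r ≠ p) (hr2 : r ≠ 2)
    (want : Prop)
    (hrΩ : r ∣ Nat.card {W : Submodule F (Unit ⊕ (Fin d ⊕ Fin d) → F) //
      finrank F W = m ∧ NDeg (QOd d F) W ∧ (PlusS (QOd d F) W ↔ want)})
    (i c : ℕ) (hi : i = orderOf ((Fintype.card F : ℕ) : ZMod r))
    (hc : c = if Even i then i else 2 * i) :
    (∀ x : Matrix.GeneralLinearGroup (Unit ⊕ (Fin d ⊕ Fin d)) F,
      x ∈ Cfsg.Geo.omegaGL (Cfsg.quadFormOdd d F) → orderOf x = r →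
      ∃ W : Submodule F (Unit ⊕ (Fin d ⊕ Fin d) → F),
        (finrank F W = m ∧ NDeg (QOd d F) W ∧ (PlusS (QOd d F) W ↔ want)) ∧
        W.map (Matrix.toLin'
          (x : Matrix (Unit ⊕ (Fin d ⊕ Fin d)) (Unit ⊕ (Fin d ⊕ Fin d)) F)) ≤ W) ↔
    (c ≤ m ∧ m % c < (2 * d + 1) % c ∧ (0 < m % c ∨ (want ↔ (Even i → Even (m / i))))) := by
  classical
  have h2 : (2 : F) ≠ 0 := two_ne_zero_of_odd_card hodd
  have hQ := QOd_nondeg (F := F) h2 d
  have hn := finrank_odd_space (F := F) d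
  have hi1 : 1 ≤ i := by rw [hi]; exact order_pos (F := F) r hrp
  have hceven : Even c := by
    rw [hc]
    split_ifs with h
    · exact h
    · exact even_two_mul i
  have hc2 : 2 ≤ c := by
    obtain ⟨t, ht⟩ := hceven
    have : 1 ≤ c := by
      rw [hc]
      split_ifs <;> omega
    omega
  have hkc : (2 * d + 1) % c < c := Nat.mod_lt _ (by omega)
  have hkodd : Odd ((2 * d + 1) % c) := odd_mod_of_even hceven d
  obtain ⟨M, hM, hMdim, hMne, hMfix⟩ := exists_model_fix hodd r hrp i c hi hc ((2 * d + 1) % c)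
    ((2 * d + 1) / c)
  have hMdim' : finrank F M.V = 2 * d + 1 := by
    rw [hMdim]
    exact Nat.mod_add_div _ _
  -- the key consequences of the divisibility
  have hkey : (2 * d + 1) % c < m ∧ ∃ x : Matrix.GeneralLinearGroup (Unit ⊕ (Fin d ⊕ Fin d)) F,
      x ∈ Cfsg.Geo.omegaGL (Cfsg.quadFormOdd d F) ∧ orderOf x = r ∧
      finrank F (fixS (Matrix.toLin'
        (x : Matrix (Unit ⊕ (Fin d ⊕ Fin d)) (Unit ⊕ (Fin d ⊕ Fin d)) F))) = (2 * d + 1) % c := by
    by_cases hN : 0 < (2 * d + 1) / c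
    · obtain ⟨x, hx, hxr, hxfix⟩ := exists_omega_of_model_fix hodd d hd r Fact.out hr2 M hM hMdim'
        (hMne hN)
      rw [hMfix] at hxfix
      refine ⟨?_, x, hx, hxr, hxfix⟩
      by_contra hlt
      have hmk : m < (2 * d + 1) % c := by
        obtain ⟨t, ht⟩ := hkodd
        omega
      exact not_dvd_card_type hodd hQ (iso_of_mem_omega hx) r hrp hr2 (pow_of_orderOf hxr) i c hi hc
        (by rw [hxfix]; exact hkc) m hm0 (by rw [hxfix]; exact hmk) a hma want hrΩ
    · exfalso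
      have hN0 : (2 * d + 1) / c = 0 := Nat.eq_zero_of_not_pos hN
      have hnc : 2 * d + 1 < c := by
        rcases (Nat.div_eq_zero_iff).1 hN0 with h | h
        · omega
        · exact h
      have hfix1 : fixS (1 : Module.End F (Unit ⊕ (Fin d ⊕ Fin d) → F)) = ⊤ := by
        ext v
        rw [mem_fixS, Module.End.one_apply]
        exact ⟨fun _ => Submodule.mem_top, fun _ => rfl⟩
      exact not_dvd_card_type hodd hQ (y := 1) (fun v => rfl) r hrp hr2 (one_pow r) i c hi hc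
        (by rw [hfix1, finrank_top, hn]; exact hnc) m hm0
        (by rw [hfix1, finrank_top, hn]; omega) a hma want hrΩ
  obtain ⟨hkm, x₀, hx₀, hx₀r, hx₀fix⟩ := hkey
  constructor
  · intro h
    obtain ⟨W, ⟨hWdim, hWnd, hWtype⟩, hWinv⟩ := h x₀ hx₀ hx₀r
    obtain ⟨n1, n2, n3⟩ := nec_inv_ndeg hodd hQ (iso_of_mem_omega hx₀) r hrp hr2
      (pow_of_orderOf hx₀r) i c hi hc _ hx₀fix hkc hkodd W ((inv_iff _ _).2 hWinv) hWnd m hWdim
      ⟨a, by omega⟩ hm0
    refine ⟨n2 hkm, n1, ?_⟩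
    rcases Nat.eq_zero_or_pos (m % c) with h0 | h0
    · right
      rw [← n3 h0]
      exact hWtype.symm
    · left
      exact h0
  · rintro ⟨hcm, hlk, htype⟩ x hx hxr
    obtain ⟨W, hWinv, hWnd, hWdim, hWtype⟩ := exists_inv_ndeg_odd hodd hQ (iso_of_mem_omega hx) r hrp
      hr2 (pow_of_orderOf hxr) i c hi hc (2 * d + 1) m a hn hma hcm (by omega) hlk want htype
    exact ⟨W, ⟨hWdim, hWnd, hWtype⟩, (inv_iff _ _).1 hWinv⟩

omit [Fact p.Prime] [CharP F p] in
/-- the core for `r = 2` -/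
theorem core_two (hodd : Odd (Fintype.card F)) (d m a : ℕ) (hma : m = 2 * a)
    (hm0 : 0 < m) (hmn : m ≤ 2 * d) (want : Prop)
    (x : Matrix.GeneralLinearGroup (Unit ⊕ (Fin d ⊕ Fin d)) F)
    (hx : x ∈ Cfsg.Geo.omegaGL (Cfsg.quadFormOdd d F)) (hxr : orderOf x = 2) :
    ∃ W : Submodule F (Unit ⊕ (Fin d ⊕ Fin d) → F),
      (finrank F W = m ∧ NDeg (QOd d F) W ∧ (PlusS (QOd d F) W ↔ want)) ∧
      W.map (Matrix.toLin'
        (x : Matrix (Unit ⊕ (Fin d ⊕ Fin d)) (Unit ⊕ (Fin d ⊕ Fin d)) F)) ≤ W := by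
  have h2 : (2 : F) ≠ 0 := two_ne_zero_of_odd_card hodd
  have hQ := QOd_nondeg (F := F) h2 d
  have hn := finrank_odd_space (F := F) d
  obtain ⟨W, hWinv, hWnd, hWdim, hWtype⟩ := exists_inv_ndeg_two h2 hQ (iso_of_mem_omega hx)
    (pow_of_orderOf hxr) (2 * d + 1) m a hn hma hm0 (by omega) want
  exact ⟨W, ⟨hWdim, hWnd, hWtype⟩, (inv_iff _ _).1 hWinv⟩

end std

end Cfsg.Agent.Lib.Helper2.OrthNd
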