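import Mathlib
import Cfsg.Agent.Lib.Helper2.OrthNdS

set_option autoImplicit false

/-!
Dictionary between the prelude notions (`IsNondegenerateOn`, `IsPlusTypeOn`) and `NDeg`, `PlusS`.
-/

namespace Cfsg.Agent.Lib.Helper2.OrthNd

open Module QuadraticMap
open Cfsg.Agent.Lib.Helper2.MaxTS2 Cfsg.Agent.Lib.Helper2.OrthEl
open Cfsg.Agent.Lib.Helper2.OrthCard

variable {F : Type*} [Field F] {ι : Type} [Fintype ι] [DecidableEq ι]

theorem ndegOn_iff (Q : QuadraticForm F (ι → F)) (W : Submodule F (ι → F)) :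
    Cfsg.Geo.IsNondegenerateOn (QuadraticMap.polar ⇑Q) W ↔ NDeg Q W := by
  unfold NDeg Cfsg.Geo.IsNondegenerateOn
  rw [Submodule.disjoint_def]
  constructor
  · intro h w hw hw'
    by_contra hne
    obtain ⟨⟨x, hx, hx0⟩, -⟩ := h w hw hne
    exact hx0 ((mem_perp_iff _ _).1 hw' x hx)
  · intro h w hw hne
    have h1 : w ∉ perp Q W := fun h' => hne (h w hw h')
    rw [mem_perp_iff] at h1
    push_neg at h1
    obtain ⟨x, hx, hx0⟩ := h1
    refine ⟨⟨x, hx, hx0⟩, ⟨x, hx, ?_⟩⟩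
    rw [polar_comm]
    exact hx0

theorem plusOn_iff (Q : QuadraticForm F (ι → F)) (W : Submodule F (ι → F)) :
    Cfsg.Geo.IsPlusTypeOn ⇑Q W ↔ PlusS Q W := Iff.rfl

theorem ndegOn_odd_iff (d : ℕ) (W : Submodule F (Unit ⊕ (Fin d ⊕ Fin d) → F)) :
    Cfsg.Geo.IsNondegenerateOn (QuadraticMap.polar (Cfsg.quadFormOdd d F)) W ↔
      NDeg (QOd d F) W := by
  rw [← QOd_coe]
  exact ndegOn_iff _ W

theorem plusOn_odd_iff (d : ℕ) (W : Submodule F (Unit ⊕ (Fin d ⊕ Fin d) → F)) :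
    Cfsg.Geo.IsPlusTypeOn (Cfsg.quadFormOdd d F) W ↔ PlusS (QOd d F) W := by
  rw [← QOd_coe]
  exact plusOn_iff _ W

end Cfsg.Agent.Lib.Helper2.OrthNd
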