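import Mathlib
import Cfsg.Agent.Lib.Helper2.OrthNdS

set_option autoImplicit false

/-!
Models of prescribed type in even dimension: the discriminant character of an orthogonal product,
a model space with `J'` blocks, fixed space of dimension `e₀` and prescribed type, and its transport
to any nondegenerate space of the same dimension and type.
-/

namespace Cfsg.Agent.Lib.Helper2.OrthNd

open Module QuadraticMap Polynomial
open scoped Matrix
open Cfsg.Agent.Lib.Helper2.MaxTS2 Cfsg.Agent.Lib.Helper2.OrthEl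
open Cfsg.Agent.H9SemiInv
open Cfsg.Agent.Lib.Helper9.H9Elus
open Cfsg.Agent.Lib.Helper5.QuadGlue

universe u

section prod

variable {F : Type*} [Field F] [Fintype F] [DecidableEq F]
variable {V₁ : Type*} [AddCommGroup V₁] [Module F V₁] [FiniteDimensional F V₁]
variable {V₂ : Type*} [AddCommGroup V₂] [Module F V₂] [FiniteDimensional F V₂]

/-- the discriminant character of an orthogonal product -/
theorem dch_prod (h2 : (2 : F) ≠ 0) {Q₁ : QuadraticForm F V₁} {Q₂ : QuadraticForm F V₂}
    (h₁ : (polarBilin Q₁).Nondegenerate) (h₂ : (polarBilin Q₂).Nondegenerate) :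
    dch (Q₁.prod Q₂) = dch Q₁ * dch Q₂ := by
  set Q := Q₁.prod Q₂ with hQdef
  set W₁ := LinearMap.range (LinearMap.inl F V₁ V₂) with hW₁def
  set W₂ := LinearMap.range (LinearMap.inr F V₁ V₂) with hW₂def
  let e₁ : V₁ ≃ₗ[F] ↥W₁ := LinearEquiv.ofInjective (LinearMap.inl F V₁ V₂) LinearMap.inl_injective
  let e₂ : V₂ ≃ₗ[F] ↥W₂ := LinearEquiv.ofInjective (LinearMap.inr F V₁ V₂) LinearMap.inr_injective
  have he₁ : ∀ v, (Q.comp W₁.subtype) (e₁ v) = Q₁ v := by
    intro v
    rw [QuadraticMap.comp_apply, Submodule.subtype_apply]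
    show Q (v, 0) = Q₁ v
    rw [hQdef, QuadraticMap.prod_apply, map_zero, add_zero]
  have he₂ : ∀ v, (Q.comp W₂.subtype) (e₂ v) = Q₂ v := by
    intro v
    rw [QuadraticMap.comp_apply, Submodule.subtype_apply]
    show Q (0, v) = Q₂ v
    rw [hQdef, QuadraticMap.prod_apply, map_zero, zero_add]
  have hW₁ : NDeg Q W₁ := ndeg_of_restrict (nondeg_of_equiv e₁ he₁ h₁)
  have hW₂ : NDeg Q W₂ := ndeg_of_restrict (nondeg_of_equiv e₂ he₂ h₂)
  have horth : W₁ ≤ perp Q W₂ := by
    rintro _ ⟨a, rfl⟩
    rw [mem_perp_iff]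
    rintro _ ⟨b, rfl⟩
    show polar (⇑(Q₁.prod Q₂)) (0, b) (a, 0) = 0
    rw [QuadraticMap.polar_prod]
    simp [polar]
  obtain ⟨-, -, hd⟩ := dchS_sup h2 hW₁ hW₂ horth
  have htop : W₁ ⊔ W₂ = ⊤ := LinearMap.sup_range_inl_inr
  rw [htop] at hd
  have h3 : dch Q = dchS Q ⊤ := by
    unfold dchS
    exact dch_equiv (Submodule.topEquiv : ↥(⊤ : Submodule F (V₁ × V₂)) ≃ₗ[F] V₁ × V₂)
      (fun v => rfl)
  have h4 : dchS Q W₁ = dch Q₁ := by
    unfold dchS
    exact dch_equiv e₁ he₁
  have h5 : dchS Q W₂ = dch Q₂ := by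
    unfold dchS
    exact dch_equiv e₂ he₂
  rw [h3, hd, h4, h5]

end prod

section model

variable {F : Type u} [Field F] [Fintype F] [DecidableEq F] {p : ℕ} [Fact p.Prime] [CharP F p]

open QIso

omit [Fact p.Prime] [CharP F p] in
/-- a space with the identity, of prescribed dimension and discriminant character -/
theorem exists_space (h2 : (2 : F) ≠ 0) (r e₀ : ℕ) (he₀ : 1 ≤ e₀) (s : ℤ) (hs : s = 1 ∨ s = -1) :
    ∃ E : QIso F, E.Good r ∧ E.Ann (X - 1 : F[X]) ∧ finrank F E.V = e₀ ∧ dch E.Q = s := by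
  have hnd := Cfsg.Agent.Lib.Helper2.QuadStd.QP_nondeg (F := F) e₀
  obtain ⟨W, -, hW, hWdim, hWd⟩ := exists_ndeg_sub h2 (ndeg_top hnd) e₀ (by omega)
    (by rw [finrank_top, finrank_plus_space]; omega) s hs
  refine ⟨{ V := ↥W, Q := (QP e₀ F).comp W.subtype, y := LinearMap.id }, ⟨hW.restrict, fun v => rfl, ?_⟩,
    ?_, hWdim, hWd⟩
  · show (1 : Module.End F ↥W) ^ r = 1
    exact one_pow r
  · show aeval (1 : Module.End F ↥W) (X - 1 : F[X]) = 0
    rw [map_sub, aeval_X, map_one, sub_self]

/-- the model with `J'` blocks, fixed space of dimension `e₀` and prescribed type -/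
theorem exists_model_type (hodd : Odd (Fintype.card F)) (d : ℕ) (r : ℕ) [Fact r.Prime]
    (hrp : r ≠ p) (hr2 : r ≠ 2) (i c : ℕ) (hi : i = orderOf ((Fintype.card F : ℕ) : ZMod r))
    (hc : c = if Even i then i else 2 * i) (J' e₀ : ℕ) (hJ : 1 ≤ J')
    (hdim : 2 * d = c * J' + e₀) (want : Prop)
    (hcompat : e₀ = 0 → (want ↔ (Odd i ∨ Even J'))) :
    ∃ M : QIso F, M.Good r ∧ finrank F M.V = 2 * d ∧ M.y ≠ 1 ∧ finrank F (fixS M.y) = e₀ ∧
      (dch M.Q = (quadraticChar F (-1)) ^ d ↔ want) := by
  have h2 : (2 : F) ≠ 0 := two_ne_zero_of_odd_card hodd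
  have hi1 : 1 ≤ i := by rw [hi]; exact order_pos (F := F) r hrp
  have hc1 : 1 ≤ c := by
    rw [hc]
    split_ifs <;> omega
  obtain ⟨B, hB, hBann, hBdim⟩ := exists_block hodd r hrp i c hi hc
  obtain ⟨R, hR, hRann, hRdim⟩ := exists_pow B hB hBann J'
  have hRpos : 0 < finrank F R.V := by
    rw [hRdim, hBdim]
    positivity
  have hRne : R.y ≠ 1 := ne_one_of_free r hrp hR hRann hRpos
  have hRtop : cycS R.y r = ⊤ := cycS_eq_top hRann
  have hRfix : ∀ v, R.y v = v → v = 0 := by
    intro v hv
    apply eq_zero_of_fix_of_cyc r hrp hR.2.2 hv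
    rw [hRtop]
    exact Submodule.mem_top
  rcases Nat.eq_zero_or_pos e₀ with he0 | he0
  · -- no fixed part
    refine ⟨R, hR, ?_, hRne, ?_, ?_⟩
    · rw [hRdim, hBdim, hdim, he0, add_zero, mul_comm]
    · rw [he0]
      apply Submodule.finrank_eq_zero.2
      rw [Submodule.eq_bot_iff]
      intro v hv
      exact hRfix v ((mem_fixS v).1 hv)
    · have hRd : finrank F R.V = 2 * d := by
        rw [hRdim, hBdim, hdim, he0, add_zero, mul_comm]
      rw [hcompat he0, ← plus_iff h2 hR.1 d hRd]
      have hplus : (∃ X : Submodule F R.V, finrank F X = d ∧ ∀ x ∈ X, R.Q x = 0) ↔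
          PlusS R.Q ⊤ := by
        constructor
        · rintro ⟨X, hX, hX0⟩
          exact ⟨X, le_top, hX0, by rw [hX, finrank_top, hRd]⟩
        · rintro ⟨U, -, hU, hUdim⟩
          refine ⟨U, ?_, hU⟩
          rw [finrank_top, hRd] at hUdim
          omega
      rw [hplus]
      have htopinv : Inv R.y (⊤ : Submodule F R.V) := fun v _ => Submodule.mem_top
      have htopnd : NDeg R.Q (⊤ : Submodule F R.V) := ndeg_top hR.1
      by_cases hev : Even i
      · have hci : c = i := by rw [hc, if_pos hev]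
        obtain ⟨h, hh⟩ := hev
        have hi2 : orderOf ((Fintype.card F : ℕ) : ZMod r) = 2 * h := by rw [← hi, hh]; ring
        have hdim' : finrank F (⊤ : Submodule F R.V) = 2 * h * J' := by
          rw [finrank_top, hRdim, hBdim, hci, hh]
          ring
        rw [plusS_iff_even hodd hR.2.1 r hrp hr2 hR.2.2 h hi2 ⊤ (by rw [hRtop]) htopinv htopnd J' hJ
          hdim']
        constructor
        · intro h1
          right
          exact h1
        · rintro (h1 | h1)
          · exfalso
            exact (Nat.not_even_iff_odd.2 h1) ⟨h, hh⟩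
          · exact h1
      · have hio : Odd (orderOf ((Fintype.card F : ℕ) : ZMod r)) := by
          rw [← hi]
          exact Nat.not_even_iff_odd.1 hev
        have hp := plusS_of_odd hodd hR.1 hR.2.1 r hrp hr2 hR.2.2 hio ⊤ (by rw [hRtop]) htopinv
          htopnd
        constructor
        · intro _
          left
          exact Nat.not_even_iff_odd.1 hev
        · intro _
          exact hp
  · -- a fixed part of the right discriminant
    have hχ : (quadraticChar F (-1)) ^ d = 1 ∨ (quadraticChar F (-1)) ^ d = -1 :=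
      neg_one_char_pow d
    have hRd : dch R.Q = 1 ∨ dch R.Q = -1 := dch_dichotomy hR.1
    obtain ⟨t, ht, htw⟩ : ∃ t : ℤ, (t = 1 ∨ t = -1) ∧ (t = (quadraticChar F (-1)) ^ d ↔ want) := by
      by_cases hw : want
      · exact ⟨(quadraticChar F (-1)) ^ d, hχ, ⟨fun _ => hw, fun _ => rfl⟩⟩
      · refine ⟨-(quadraticChar F (-1)) ^ d, ?_, ?_⟩
        · rcases hχ with g | g <;> rw [g]
          · right; rfl
          · left; norm_num
        · constructor
          · intro h
            exfalso
            rcases hχ with g | g <;> rw [g] at h <;> omega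
          · intro h
            exact absurd h hw
    obtain ⟨E, hE, hEann, hEdim, hEd⟩ := exists_space (F := F) h2 r e₀ he0 (t * dch R.Q) (by
      rcases ht with g | g <;> rcases hRd with g' | g' <;> rw [g, g'] <;> norm_num)
    have hEy : ∀ a, E.y a = a := by
      intro a
      have h1 : aeval E.y (X - 1 : F[X]) = 0 := hEann
      have h3 : a ∈ fixS E.y := by
        rw [LinearMap.mem_ker, h1, LinearMap.zero_apply]
      exact (mem_fixS a).1 h3
    refine ⟨E.prod R, prod_good hE hR, ?_, ?_, ?_, ?_⟩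
    · rw [QIso.finrank_prod, hEdim, hRdim, hBdim, hdim]
      ring
    · intro h1
      apply hRne
      apply LinearMap.ext
      intro v
      have := congrArg (fun f : (E.prod R).V →ₗ[F] (E.prod R).V => (f (0, v)).2) h1
      exact this
    · have hfix : fixS (E.prod R).y = LinearMap.range (LinearMap.inl F E.V R.V) := by
        ext v
        rw [mem_fixS, LinearMap.mem_range]
        constructor
        · intro hv
          have h1 : R.y v.2 = v.2 := by
            have := congrArg Prod.snd hv
            exact this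
          have h3 : v.2 = 0 := hRfix v.2 h1
          refine ⟨v.1, ?_⟩
          apply Prod.ext
          · rfl
          · exact h3.symm
        · rintro ⟨a, rfl⟩
          show (E.y a, R.y 0) = (a, 0)
          rw [hEy, map_zero]
      rw [hfix, LinearMap.finrank_range_of_inj LinearMap.inl_injective, hEdim]
    · rw [← htw]
      have hprod : dch (E.prod R).Q = dch E.Q * dch R.Q := dch_prod h2 hE.1 hR.1
      rw [hprod, hEd]
      have hsq : dch R.Q * dch R.Q = 1 := by
        rcases hRd with g | g <;> rw [g] <;> norm_num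
      rw [mul_assoc, hsq, mul_one]

end model

section transport

variable {F : Type u} [Field F] [Fintype F] [DecidableEq F] {p : ℕ} [Fact p.Prime] [CharP F p]
variable {V : Type u} [AddCommGroup V] [Module F V] [FiniteDimensional F V]

/-- an isometry of order `r` with `J'` blocks and fixed space of dimension `e₀` on a given
nondegenerate space of dimension `2d` -/
theorem exists_iso_fix (hodd : Odd (Fintype.card F)) (Q : QuadraticForm F V)
    (hQ : (polarBilin Q).Nondegenerate) (d : ℕ) (hV : finrank F V = 2 * d) (r : ℕ)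
    [Fact r.Prime] (hrp : r ≠ p) (hr2 : r ≠ 2) (i c : ℕ)
    (hi : i = orderOf ((Fintype.card F : ℕ) : ZMod r))
    (hc : c = if Even i then i else 2 * i) (J' e₀ : ℕ) (hJ : 1 ≤ J')
    (hdim : 2 * d = c * J' + e₀)
    (hcompat : e₀ = 0 → (dch Q = (quadraticChar F (-1)) ^ d ↔ (Odd i ∨ Even J'))) :
    ∃ y : V →ₗ[F] V, (∀ v, Q (y v) = Q v) ∧ y ^ r = 1 ∧ y ≠ 1 ∧ finrank F (fixS y) = e₀ := by
  have h2 : (2 : F) ≠ 0 := two_ne_zero_of_odd_card hodd
  obtain ⟨M, hM, hMdim, hMne, hMfix, hMd⟩ := exists_model_type hodd d r hrp hr2 i c hi hc J' e₀ hJ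
    hdim (dch Q = (quadraticChar F (-1)) ^ d) hcompat
  have hχ : (quadraticChar F (-1)) ^ d = 1 ∨ (quadraticChar F (-1)) ^ d = -1 :=
    neg_one_char_pow d
  have hdeq : dch M.Q = dch Q := by
    by_cases hw : dch Q = (quadraticChar F (-1)) ^ d
    · rw [hMd.2 hw, hw]
    · have h1 : dch M.Q ≠ (quadraticChar F (-1)) ^ d := fun h => hw (hMd.1 h)
      rcases dch_dichotomy hM.1 with g | g <;> rcases dch_dichotomy hQ with g' | g' <;>
        rcases hχ with g'' | g'' <;>
        first
        | (rw [g, g']; done)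
        | (exfalso; apply hw; rw [g', g'']; done)
        | (exfalso; apply h1; rw [g, g'']; done)
  obtain ⟨e, he⟩ := exists_isometry h2 hM.1 hQ (hMdim.trans hV.symm) hdeq
  set y' : V →ₗ[F] V := e.toLinearMap ∘ₗ M.y ∘ₗ e.symm.toLinearMap with hy'
  have hy'app : ∀ u, y' u = e (M.y (e.symm u)) := fun u => rfl
  have hy'pow : ∀ k : ℕ, ∀ u, (y' ^ k) u = e ((M.y ^ k) (e.symm u)) := by
    intro k
    induction k with
    | zero =>
      intro u
      rw [pow_zero, pow_zero, Module.End.one_apply, Module.End.one_apply,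
        LinearEquiv.apply_symm_apply]
    | succ k ih =>
      intro u
      rw [pow_succ, Module.End.mul_apply, ih, hy'app, LinearEquiv.symm_apply_apply, pow_succ,
        Module.End.mul_apply]
  refine ⟨y', ?_, ?_, ?_, ?_⟩
  · intro v
    rw [hy'app, he, hM.2.1, ← he, LinearEquiv.apply_symm_apply]
  · apply LinearMap.ext
    intro u
    rw [hy'pow, hM.2.2, Module.End.one_apply, Module.End.one_apply, LinearEquiv.apply_symm_apply]
  · intro h3
    apply hMne
    apply LinearMap.ext
    intro v
    have := congrArg (fun f : V →ₗ[F] V => e.symm (f (e v))) h3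
    simp only [hy'app, LinearEquiv.symm_apply_apply, Module.End.one_apply] at this
    rw [this, Module.End.one_apply]
  · have hmap : fixS y' = (fixS M.y).map (e : M.V →ₗ[F] V) := by
      ext v
      rw [mem_fixS, Submodule.mem_map]
      constructor
      · intro hv
        refine ⟨e.symm v, ?_, LinearEquiv.apply_symm_apply e v⟩
        rw [mem_fixS]
        rw [hy'app] at hv
        have := congrArg e.symm hv
        rwa [LinearEquiv.symm_apply_apply] at this
      · rintro ⟨w, hw, rfl⟩
        rw [mem_fixS] at hw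
        show y' (e w) = e w
        rw [hy'app, LinearEquiv.symm_apply_apply, hw]
    rw [hmap, LinearEquiv.finrank_map_eq e (fixS M.y), hMfix]

end transport

section gl

variable {F : Type*} [Field F] {ι : Type*} [Fintype ι] [DecidableEq ι]

/-- a linear map of finite order as an element of the general linear group -/
theorem exists_gl_of_pow_eq_one (y : (ι → F) →ₗ[F] (ι → F)) (r : ℕ) (hr1 : 1 ≤ r)
    (hy : y ^ r = 1) :
    ∃ x : Matrix.GeneralLinearGroup ι F, Matrix.toLin' (x : Matrix ι ι F) = y ∧ x ^ r = 1 := by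
  have hmul1 : LinearMap.toMatrix' y * LinearMap.toMatrix' (y ^ (r - 1)) = 1 := by
    rw [← LinearMap.toMatrix'_mul, ← pow_succ', Nat.sub_add_cancel hr1, hy,
      LinearMap.toMatrix'_one]
  have hmul2 : LinearMap.toMatrix' (y ^ (r - 1)) * LinearMap.toMatrix' y = 1 := by
    rw [← LinearMap.toMatrix'_mul, ← pow_succ, Nat.sub_add_cancel hr1, hy,
      LinearMap.toMatrix'_one]
  refine ⟨⟨LinearMap.toMatrix' y, LinearMap.toMatrix' (y ^ (r - 1)), hmul1, hmul2⟩,
    Matrix.toLin'_toMatrix' y, ?_⟩
  apply Units.ext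
  rw [Units.val_pow_eq_pow_val, Units.val_one]
  show (LinearMap.toMatrix' y) ^ r = 1
  apply Matrix.toLin'.injective
  rw [Matrix.toLin'_pow, Matrix.toLin'_toMatrix', hy, Matrix.toLin'_one]
  rfl

end gl

end Cfsg.Agent.Lib.Helper2.OrthNd
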