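import Mathlib
import Cfsg.Prelude.Def_Classical
import Cfsg.Prelude.Def_GeometricClasses
import Cfsg.Agent.Lib.Helper2.OrthNdW
import Cfsg.Agent.Lib.Helper2.QuadStd
import Cfsg.Agent.Lib.Helper5.OPar0

set_option autoImplicit false

/-!
PK-MOD of the S5988 board: elements of odd prime order `r ≠ p` of the isometry groups of
`quadFormPlus` / `quadFormMinus` with a prescribed number of blocks and a fixed space of prescribed
dimension.
-/

namespace Cfsg.Agent.Lib.Helper5.OPar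

open Module QuadraticMap Polynomial
open Cfsg.Agent.Lib.Helper2.MaxTS2
open Cfsg.Agent.Lib.Helper2.OrthEl
open Cfsg.Agent.H9SemiInv
open Cfsg.Agent.Lib.Helper2
open Cfsg.Agent.Lib.Helper2.OrthNd
open Cfsg.Agent.Lib.Helper5.QuadGlue

section models
variable {F : Type*} [Field F] [Fintype F] {p : ℕ} [Fact p.Prime] [CharP F p]

omit [Fintype F] [Fact p.Prime] [CharP F p] in
/-- from a linear isometry of finite order of a standard space to an element of its isometry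
group -/
theorem mod_exists_gl {ι : Type} [Fintype ι] [DecidableEq ι] (Q₀ : (ι → F) → F)
    (y : (ι → F) →ₗ[F] (ι → F)) (hiso : ∀ v, Q₀ (y v) = Q₀ v) (r : ℕ) (hr1 : 1 ≤ r)
    (hy : y ^ r = 1) (hne : y ≠ 1) :
    ∃ x : Matrix.GeneralLinearGroup ι F, x ∈ Cfsg.isometryGroup F Q₀ ∧ x ^ r = 1 ∧ x ≠ 1 ∧
      Matrix.toLin' (x : Matrix ι ι F) = y := by
  obtain ⟨x, hxlin, hxr⟩ := exists_gl_of_pow_eq_one y r hr1 hy
  refine ⟨x, ?_, hxr, ?_, hxlin⟩
  · intro u _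
    show Q₀ ((x : Matrix ι ι F).mulVec u) = Q₀ u
    rw [← Matrix.toLin'_apply, hxlin]
    exact hiso u
  · intro h
    apply hne
    rw [← hxlin, h, Units.val_one, Matrix.toLin'_one]
    rfl

theorem exists_model_plus (hodd : Odd (Fintype.card F)) (d : ℕ) (r : ℕ) [Fact r.Prime]
    (hrp : r ≠ p) (hr2 : r ≠ 2) (J' e₀ : ℕ) (hJ : 1 ≤ J')
    (hdim : 2 * d = blockDim (orderOf ((Fintype.card F : ℕ) : ZMod r)) * J' + e₀)
    (hcompat : e₀ = 0 → (Odd (orderOf ((Fintype.card F : ℕ) : ZMod r)) ∨ Even J')) :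
    ∃ x : GL (Fin d ⊕ Fin d) F, x ∈ Cfsg.isometryGroup F (Cfsg.quadFormPlus d F) ∧ x ^ r = 1 ∧
      x ≠ 1 ∧
      finrank F (fixS (Matrix.toLin' (x : Matrix (Fin d ⊕ Fin d) (Fin d ⊕ Fin d) F))) = e₀ := by
  classical
  have h2 : (2 : F) ≠ 0 := two_ne_zero_of_odd_card hodd
  have hr1 : 1 ≤ r := (Fact.out : r.Prime).one_lt.le
  obtain ⟨y, hiso, hy, hne, hfix⟩ := exists_iso_fix hodd (QP d F) (QuadStd.QP_nondeg d) d
    (finrank_plus_space d) r hrp hr2 _ _ rfl rfl J' e₀ hJ hdim (fun he => by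
      rw [dch_QP h2 d]
      exact ⟨fun _ => hcompat he, fun _ => rfl⟩)
  obtain ⟨x, hx, hxr, hx1, hxlin⟩ := mod_exists_gl (Cfsg.quadFormPlus d F) y (fun v => by
    have := hiso v
    rwa [QP_apply, QP_apply] at this) r hr1 hy hne
  refine ⟨x, hx, hxr, hx1, ?_⟩
  rw [hxlin]
  exact hfix

theorem exists_model_minus (hodd : Odd (Fintype.card F)) (d : ℕ) (hd : 1 ≤ d) (a b : F)
    (hab : ∀ x y : F, x ^ 2 + a * x * y + b * y ^ 2 = 0 → x = 0 ∧ y = 0)
    (r : ℕ) [Fact r.Prime] (hrp : r ≠ p) (hr2 : r ≠ 2) (J' e₀ : ℕ) (hJ : 1 ≤ J')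
    (hdim : 2 * d = blockDim (orderOf ((Fintype.card F : ℕ) : ZMod r)) * J' + e₀)
    (hcompat : e₀ = 0 → (Even (orderOf ((Fintype.card F : ℕ) : ZMod r)) ∧ Odd J')) :
    ∃ x : GL ((Fin (d - 1) ⊕ Fin (d - 1)) ⊕ Fin 2) F,
      x ∈ Cfsg.isometryGroup F (Cfsg.quadFormMinus (d - 1) F a b) ∧ x ^ r = 1 ∧ x ≠ 1 ∧
      finrank F (fixS (Matrix.toLin' (x : Matrix ((Fin (d - 1) ⊕ Fin (d - 1)) ⊕ Fin 2)
        ((Fin (d - 1) ⊕ Fin (d - 1)) ⊕ Fin 2) F))) = e₀ := by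
  classical
  have h2 : (2 : F) ≠ 0 := two_ne_zero_of_odd_card hodd
  have hr1 : 1 ≤ r := (Fact.out : r.Prime).one_lt.le
  have hd1 : d - 1 + 1 = d := Nat.sub_add_cancel hd
  have hχ : (quadraticChar F (-1)) ^ d = 1 ∨ (quadraticChar F (-1)) ^ d = -1 :=
    neg_one_char_pow d
  obtain ⟨y, hiso, hy, hne, hfix⟩ := exists_iso_fix hodd (QM (d - 1) F a b)
    (QuadStd.QM_nondeg h2 (d - 1) a b hab) d (by rw [finrank_minus_space, hd1]) r hrp hr2 _ _ rfl
    rfl J' e₀ hJ hdim (fun he => by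
      rw [dch_QM h2 (d - 1) a b hab, hd1]
      obtain ⟨h1, h3⟩ := hcompat he
      constructor
      · intro h
        exfalso
        rcases hχ with g | g <;> rw [g] at h <;> omega
      · rintro (h | h)
        · exact absurd h1 (Nat.not_even_iff_odd.2 h)
        · exact absurd h (Nat.not_even_iff_odd.2 h3))
  obtain ⟨x, hx, hxr, hx1, hxlin⟩ := mod_exists_gl (Cfsg.quadFormMinus (d - 1) F a b) y (fun v => by
    have := hiso v
    rwa [QM_apply, QM_apply] at this) r hr1 hy hne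
  refine ⟨x, hx, hxr, hx1, ?_⟩
  rw [hxlin]
  exact hfix

end models

end Cfsg.Agent.Lib.Helper5.OPar
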