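import Mathlib
import Cfsg.Agent.Lib.Helper5.SLClass.Defs
import Cfsg.Agent.Lib.Lead.GLClassNum

set_option autoImplicit false

namespace Cfsg.Agent.Lib.Helper5.SLClass

open Polynomial Cfsg.Agent.Lib.Helper5.GLClass

theorem c4c_card_pow_eq_one_le {F : Type*} [Field F] [Fintype F] [DecidableEq F] (d : ℕ) :
    (Finset.univ.filter (fun y : Fˣ => y ^ d = 1)).card ≤ Nat.gcd d (Fintype.card F - 1) := by
  have hq : 2 ≤ Fintype.card F := Fintype.one_lt_card
  have hcard : Fintype.card Fˣ = Fintype.card F - 1 := Fintype.card_units F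
  have hg : 0 < Nat.gcd d (Fintype.card F - 1) := Nat.gcd_pos_of_pos_right _ (by omega)
  refine le_trans (Finset.card_le_card ?_) (IsCyclic.card_pow_eq_one_le (α := Fˣ) hg)
  intro y hy
  rw [Finset.mem_filter] at hy ⊢
  refine ⟨hy.1, ?_⟩
  have h1 : y ^ (Fintype.card F - 1) = 1 := by
    rw [← hcard]; exact pow_card_eq_one
  exact pow_gcd_eq_one.mpr ⟨hy.2, h1⟩

theorem c4c_card_pairs_le {F : Type*} [Field F] [Fintype F] [DecidableEq F] (d : ℕ) :
    (Finset.univ.filter (fun yz : Fˣ × Fˣ => yz.1 ^ d = 1 ∧ yz.2 ^ d = 1)).card ≤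
      Nat.gcd d (Fintype.card F - 1) ^ 2 := by
  have h : (Finset.univ.filter (fun yz : Fˣ × Fˣ => yz.1 ^ d = 1 ∧ yz.2 ^ d = 1)) =
      (Finset.univ.filter (fun y : Fˣ => y ^ d = 1)) ×ˢ
        (Finset.univ.filter (fun y : Fˣ => y ^ d = 1)) := by
    ext ⟨y, z⟩
    simp
  rw [h, Finset.card_product, sq]
  exact Nat.mul_le_mul (c4c_card_pow_eq_one_le d) (c4c_card_pow_eq_one_le d)

theorem c4c_lcm_dvd_iff {G : Type*} [Group G] (y z : G) (d : ℕ) :
    Nat.lcm (orderOf y) (orderOf z) ∣ d ↔ y ^ d = 1 ∧ z ^ d = 1 := by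
  rw [Nat.lcm_dvd_iff, orderOf_dvd_iff_pow_eq_one, orderOf_dvd_iff_pow_eq_one]

theorem c4c_sum_le {F : Type*} [Field F] [Fintype F] [DecidableEq F] (n d a b : ℕ)
    (h : ∀ l, 2 ≤ l → l ∣ n → PL (Fintype.card F) n l ≤ (if l ∣ d then a else 0) + b) :
    (∑ yz : Fˣ × Fˣ, PL (Fintype.card F) n (Nat.lcm (orderOf yz.1) (orderOf yz.2))) + (a + b) ≤
      TN (Fintype.card F) n n + a * Nat.gcd d (Fintype.card F - 1) ^ 2 +
        b * Nat.gcd n (Fintype.card F - 1) ^ 2 := by
  have hpt : ∀ yz : Fˣ × Fˣ,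
      PL (Fintype.card F) n (Nat.lcm (orderOf yz.1) (orderOf yz.2)) +
          (if yz = (1, 1) then a + b else 0) ≤
        (if yz = (1, 1) then TN (Fintype.card F) n n else 0) +
          (if yz.1 ^ d = 1 ∧ yz.2 ^ d = 1 then a else 0) +
          (if yz.1 ^ n = 1 ∧ yz.2 ^ n = 1 then b else 0) := by
    rintro ⟨y, z⟩
    by_cases h1 : (y, z) = ((1 : Fˣ), (1 : Fˣ))
    · rw [Prod.mk.injEq] at h1
      obtain ⟨rfl, rfl⟩ := h1
      simp only [orderOf_one, Nat.lcm_self, one_pow, and_self, if_true]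
      have : PL (Fintype.card F) n 1 = TN (Fintype.card F) n n := by
        rw [PL, if_pos (one_dvd n), Nat.div_one]
      rw [this]
      omega
    · rw [if_neg h1, if_neg h1, add_zero, zero_add]
      have hy : 0 < orderOf y := orderOf_pos y
      have hz : 0 < orderOf z := orderOf_pos z
      have hl0 : 0 < Nat.lcm (orderOf y) (orderOf z) := Nat.lcm_pos hy hz
      have hl1 : Nat.lcm (orderOf y) (orderOf z) ≠ 1 := by
        intro h2
        apply h1
        have h3 : orderOf y ∣ 1 := h2 ▸ Nat.dvd_lcm_left _ _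
        have h4 : orderOf z ∣ 1 := h2 ▸ Nat.dvd_lcm_right _ _
        rw [Nat.dvd_one, orderOf_eq_one_iff] at h3 h4
        rw [h3, h4]
      by_cases hln : Nat.lcm (orderOf y) (orderOf z) ∣ n
      · have h5 := h _ (by omega) hln
        rw [if_pos ((c4c_lcm_dvd_iff y z n).mp hln)]
        by_cases hld : Nat.lcm (orderOf y) (orderOf z) ∣ d
        · rw [if_pos hld] at h5
          rw [if_pos ((c4c_lcm_dvd_iff y z d).mp hld)]
          exact h5
        · rw [if_neg hld] at h5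
          show PL (Fintype.card F) n (Nat.lcm (orderOf y) (orderOf z)) ≤
            (if y ^ d = 1 ∧ z ^ d = 1 then a else 0) + b
          omega
      · rw [PL, if_neg hln]
        exact Nat.zero_le _
  have hsum := Finset.sum_le_sum (s := Finset.univ) (fun yz _ => hpt yz)
  rw [Finset.sum_add_distrib, Finset.sum_add_distrib, Finset.sum_add_distrib,
    Finset.sum_ite_eq' Finset.univ, Finset.sum_ite_eq' Finset.univ,
    if_pos (Finset.mem_univ _), if_pos (Finset.mem_univ _),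
    ← Finset.sum_filter, ← Finset.sum_filter, Finset.sum_const, Finset.sum_const,
    smul_eq_mul, smul_eq_mul] at hsum
  have h1 := c4c_card_pairs_le (F := F) d
  have h2 := c4c_card_pairs_le (F := F) n
  have h3 := Nat.mul_le_mul_right a h1
  have h4 := Nat.mul_le_mul_right b h2
  linarith


theorem c4c_TN11 (q : ℕ) : TN q 1 1 = q - 1 := by
  rw [TN_one, cN_succ q 0]; simp

theorem c4c_TN22 (q : ℕ) : TN q 2 2 = (q ^ 2 - q) + (q - 1) := by
  rw [TN_succ q 1 2]
  norm_num [Finset.sum_range_succ, TN_one, cN]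

theorem c4c_TN33 (q : ℕ) : TN q 3 3 = (q ^ 3 - q ^ 2) + (q - 1) * (q - 1) + (q - 1) := by
  rw [TN_succ q 2 3]
  norm_num [Finset.sum_range_succ, TN_one, cN, TN_succ q 1, TN_zero_right]

theorem pairs_sum_le_two {F : Type*} [Field F] [Fintype F] [DecidableEq F] :
    2 * ∑ yz : Fˣ × Fˣ, PL (Fintype.card F) 2 (Nat.lcm (orderOf yz.1) (orderOf yz.2)) ≤
      5 * ((Fintype.card F - 1) * Fintype.card F) := by
  have hq : 2 ≤ Fintype.card F := Fintype.one_lt_card
  have key := c4c_sum_le (F := F) 2 1 0 (Fintype.card F - 1) (by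
    intro l hl2 hl
    have h1 : l ≤ 2 := Nat.le_of_dvd (by norm_num) hl
    have h2 : l = 2 := by omega
    subst h2
    rw [PL, if_pos (dvd_refl 2)]
    simp [c4c_TN11])
  have hg : Nat.gcd 2 (Fintype.card F - 1) ∣ 2 := Nat.gcd_dvd_left _ _
  have hg' : Nat.gcd 2 (Fintype.card F - 1) ∣ Fintype.card F - 1 := Nat.gcd_dvd_right _ _
  rw [c4c_TN22] at key
  generalize (∑ yz : Fˣ × Fˣ, PL (Fintype.card F) 2 (Nat.lcm (orderOf yz.1) (orderOf yz.2))) = sm
    at key ⊢
  generalize Fintype.card F = q at *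
  obtain ⟨m, rfl⟩ : ∃ m, q = m + 1 := ⟨q - 1, by omega⟩
  simp only [Nat.add_sub_cancel] at *
  have hA : (m + 1) ^ 2 - (m + 1) = m * (m + 1) := by
    apply Nat.sub_eq_of_eq_add; ring
  rw [hA] at key
  rcases (Nat.dvd_prime Nat.prime_two).mp hg with h | h
  · rw [h] at key
    nlinarith
  · rw [h] at key hg'
    obtain ⟨c, rfl⟩ := hg'
    have : 1 ≤ c := by omega
    nlinarith


theorem c4c_three {F : Type*} [Field F] [Fintype F] [DecidableEq F] :
    ∑ yz : Fˣ × Fˣ, PL (Fintype.card F) 3 (Nat.lcm (orderOf yz.1) (orderOf yz.2)) ≤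
      (Fintype.card F - 1) * (Fintype.card F ^ 2 + 3 * Fintype.card F ^ 1) := by
  have hq : 2 ≤ Fintype.card F := Fintype.one_lt_card
  have key := c4c_sum_le (F := F) 3 1 0 (Fintype.card F - 1) (by
    intro l hl2 hl
    have h1 : l ≤ 3 := Nat.le_of_dvd (by norm_num) hl
    have h2 : l = 3 := by
      interval_cases l
      · omega
      · rfl
    subst h2
    rw [PL, if_pos (dvd_refl 3)]
    simp [c4c_TN11])
  have hg : Nat.gcd 3 (Fintype.card F - 1) ∣ 3 := Nat.gcd_dvd_left _ _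
  have hg' : Nat.gcd 3 (Fintype.card F - 1) ∣ Fintype.card F - 1 := Nat.gcd_dvd_right _ _
  rw [c4c_TN33] at key
  generalize (∑ yz : Fˣ × Fˣ, PL (Fintype.card F) 3 (Nat.lcm (orderOf yz.1) (orderOf yz.2))) = sm
    at key ⊢
  generalize Fintype.card F = q at *
  obtain ⟨m, rfl⟩ : ∃ m, q = m + 1 := ⟨q - 1, by omega⟩
  simp only [Nat.add_sub_cancel] at *
  have hA : (m + 1) ^ 3 - (m + 1) ^ 2 = m * (m + 1) ^ 2 := by
    apply Nat.sub_eq_of_eq_add; ring
  rw [hA] at key
  rcases (Nat.dvd_prime Nat.prime_three).mp hg with h | h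
  · rw [h] at key
    nlinarith
  · rw [h] at key hg'
    obtain ⟨c, rfl⟩ := hg'
    have : 1 ≤ c := by omega
    nlinarith

theorem c4c_four {F : Type*} [Field F] [Fintype F] [DecidableEq F] :
    ∑ yz : Fˣ × Fˣ, PL (Fintype.card F) 4 (Nat.lcm (orderOf yz.1) (orderOf yz.2)) ≤
      (Fintype.card F - 1) * (Fintype.card F ^ 3 + 3 * Fintype.card F ^ 2) := by
  have hq : 2 ≤ Fintype.card F := Fintype.one_lt_card
  have key := c4c_sum_le (F := F) 4 2 (Fintype.card F ^ 2 - Fintype.card F) (Fintype.card F - 1) (by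
    intro l hl2 hl
    have h1 : l ≤ 4 := Nat.le_of_dvd (by norm_num) hl
    interval_cases l
    · rw [PL, if_pos (by norm_num)]
      simp [c4c_TN22]
    · omega
    · rw [PL, if_pos (by norm_num)]
      simp [c4c_TN11])
  have hT := TN_le (Fintype.card F) hq 4 4 (by norm_num) (by norm_num)
  have hg2 : Nat.gcd 2 (Fintype.card F - 1) ∣ 2 := Nat.gcd_dvd_left _ _
  have hg2' : Nat.gcd 2 (Fintype.card F - 1) ∣ Fintype.card F - 1 := Nat.gcd_dvd_right _ _
  have hg4 : Nat.gcd 4 (Fintype.card F - 1) ∣ 4 := Nat.gcd_dvd_left _ _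
  have hg4' : Nat.gcd 4 (Fintype.card F - 1) ∣ Fintype.card F - 1 := Nat.gcd_dvd_right _ _
  generalize (∑ yz : Fˣ × Fˣ, PL (Fintype.card F) 4 (Nat.lcm (orderOf yz.1) (orderOf yz.2))) = sm
    at key ⊢
  generalize TN (Fintype.card F) 4 4 = T at *
  generalize Fintype.card F = q at *
  obtain ⟨m, rfl⟩ : ∃ m, q = m + 1 := ⟨q - 1, by omega⟩
  simp only [Nat.add_sub_cancel, Nat.sub_self, pow_zero] at *
  have hA : (m + 1) ^ 2 - (m + 1) = m * (m + 1) := by
    apply Nat.sub_eq_of_eq_add; ring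
  rw [hA] at key
  have h4le : Nat.gcd 4 m ≤ 4 := Nat.le_of_dvd (by norm_num) hg4
  rcases (Nat.dvd_prime Nat.prime_two).mp hg2 with h2 | h2
  · rw [h2] at key
    generalize Nat.gcd 4 m = g4 at *
    interval_cases g4
    · omega
    · nlinarith
    · obtain ⟨c, rfl⟩ := hg4'
      have : 1 ≤ c := by omega
      nlinarith
    · omega
    · obtain ⟨c, rfl⟩ := hg4'
      have : 1 ≤ c := by omega
      nlinarith
  · rw [h2] at key hg2'
    obtain ⟨c, rfl⟩ := hg2'
    have hc : 1 ≤ c := by omega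
    generalize Nat.gcd 4 (2 * c) = g4 at *
    interval_cases g4
    · omega
    · nlinarith
    · nlinarith
    · omega
    · obtain ⟨e, he⟩ := hg4'
      have : 2 ≤ c := by omega
      nlinarith


theorem c4c_ge_five {F : Type*} [Field F] [Fintype F] [DecidableEq F] (k : ℕ) :
    ∑ yz : Fˣ × Fˣ, PL (Fintype.card F) (k + 5) (Nat.lcm (orderOf yz.1) (orderOf yz.2)) ≤
      (Fintype.card F - 1) * (Fintype.card F ^ (k + 4) + 3 * Fintype.card F ^ (k + 3)) := by
  have hq : 2 ≤ Fintype.card F := Fintype.one_lt_card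
  have key := c4c_sum_le (F := F) (k + 5) 1 0 (Fintype.card F ^ ((k + 5) / 2) - 1) (by
    intro l hl2 hl
    rw [PL, if_pos hl]
    have h1 : l ≤ k + 5 := Nat.le_of_dvd (by omega) hl
    have h2 : 1 ≤ (k + 5) / l := Nat.div_pos h1 (by omega)
    have h3 : (k + 5) / l ≤ (k + 5) / 2 := Nat.div_le_div_left hl2 (by norm_num)
    have h4 := TN_le (Fintype.card F) hq _ _ h2 h2
    rw [Nat.sub_self, pow_zero] at h4
    have h5 : Fintype.card F ^ ((k + 5) / l) ≤ Fintype.card F ^ ((k + 5) / 2) :=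
      Nat.pow_le_pow_right (by omega) h3
    split_ifs <;> omega)
  have hT := TN_le (Fintype.card F) hq (k + 5) (k + 5) (by omega) (by omega)
  rw [Nat.sub_self, pow_zero] at hT
  have hg : Nat.gcd (k + 5) (Fintype.card F - 1) ≤ Fintype.card F - 1 :=
    Nat.gcd_le_right _ (by omega)
  have hP : Fintype.card F ^ ((k + 5) / 2) ≤ Fintype.card F ^ (k + 2) :=
    Nat.pow_le_pow_right (by omega) (by omega)
  have hP1 : 1 ≤ Fintype.card F ^ ((k + 5) / 2) := Nat.one_le_pow _ _ (by omega)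
  have e5 : Fintype.card F ^ (k + 5) = Fintype.card F ^ 3 * Fintype.card F ^ (k + 2) := by
    rw [← pow_add]; congr 1; omega
  have e4 : Fintype.card F ^ (k + 4) = Fintype.card F ^ 2 * Fintype.card F ^ (k + 2) := by
    rw [← pow_add]; congr 1; omega
  have e3 : Fintype.card F ^ (k + 3) = Fintype.card F * Fintype.card F ^ (k + 2) := by
    rw [← pow_succ']
  rw [e5] at hT
  rw [e4, e3]
  generalize (∑ yz : Fˣ × Fˣ, PL (Fintype.card F) (k + 5) (Nat.lcm (orderOf yz.1) (orderOf yz.2))) = sm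
    at key ⊢
  generalize TN (Fintype.card F) (k + 5) (k + 5) = T at *
  generalize Nat.gcd (k + 5) (Fintype.card F - 1) = g at *
  generalize Fintype.card F ^ (k + 2) = P at *
  generalize Fintype.card F ^ ((k + 5) / 2) = Q at *
  generalize Fintype.card F = q at *
  obtain ⟨m, rfl⟩ : ∃ m, q = m + 1 := ⟨q - 1, by omega⟩
  obtain ⟨B, rfl⟩ : ∃ B, Q = B + 1 := ⟨Q - 1, by omega⟩
  simp only [Nat.add_sub_cancel] at *
  have hm : 1 ≤ m := by omega
  have h1 : B * g ^ 2 ≤ B * m ^ 2 := Nat.mul_le_mul_left _ (Nat.pow_le_pow_left hg 2)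
  have h2 : (B + 1) * m ^ 2 ≤ P * m ^ 2 := Nat.mul_le_mul_right _ hP
  have h3 : P * 1 ≤ P * m := Nat.mul_le_mul_left _ hm
  have h4 : P * m * 1 ≤ P * m * m := Nat.mul_le_mul_left _ hm
  nlinarith

theorem pairs_sum_le {F : Type*} [Field F] [Fintype F] [DecidableEq F] (n : ℕ) (hn : 3 ≤ n) :
    ∑ yz : Fˣ × Fˣ, PL (Fintype.card F) n (Nat.lcm (orderOf yz.1) (orderOf yz.2)) ≤
      (Fintype.card F - 1) * (Fintype.card F ^ (n - 1) + 3 * Fintype.card F ^ (n - 2)) := by
  rcases Nat.lt_or_ge n 5 with h | h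
  · interval_cases n
    · exact c4c_three
    · exact c4c_four
  · obtain ⟨k, rfl⟩ : ∃ k, n = k + 5 := ⟨n - 5, by omega⟩
    exact c4c_ge_five k

end Cfsg.Agent.Lib.Helper5.SLClass
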