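import Mathlib
import Cfsg.Agent.Lib.Helper2.HermFrames
import Cfsg.Agent.S0277

set_option autoImplicit false

namespace Cfsg.Agent.Lib.Helper2

namespace HermFrames

open Module IsomDecomp IsoFrames HermDecomp Cfsg.Agent.Lib.Helper5.PSLCoset

section generic

variable {F : Type*} [Field F] {σ : F ≃+* F} {V : Type*} [AddCommGroup V] [Module F V]
  {H : V → V → F}

/-- the form vanishes on linear combinations of an isotropic family -/
theorem form_comb_eq_zero (h : IsHerm σ H) {k : ℕ} {u : Fin k → V}
    (hu : ∀ i j, H (u i) (u j) = 0) (a b : Fin k → F) :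
    H (Fintype.linearCombination F u a) (Fintype.linearCombination F u b) = 0 := by
  apply span_isotropic h u hu
  · rw [← Fintype.range_linearCombination]
    exact ⟨a, rfl⟩
  · rw [← Fintype.range_linearCombination]
    exact ⟨b, rfl⟩

end generic

section concrete

universe u

variable {F : Type u} [Field F] [Fintype F]

theorem frame_trans_herm {q : ℕ} (hF : Fintype.card F = q ^ 2) (n : ℕ) {k : ℕ}
    (u : Fin k → (Fin n → F)) (hu : u ∈ Frame (Cfsg.hermForm n F q) k)
    (u' : Fin k → (Fin n → F)) (hu' : u' ∈ Frame (Cfsg.hermForm n F q) k) :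
    ∃ g ∈ isom (Cfsg.hermForm n F q), ∀ i, g (u i) = u' i := by
  classical
  obtain ⟨σ, hσ, hσq, h, hnd⟩ := exists_data hF n
  obtain ⟨g, hg1, hg2⟩ := WittHerm.witt_aux hσ h hnd _
    (Fin k → F) (Fintype.linearCombination F u) (Fintype.linearCombination F u') rfl
    (linearIndependent_iff_injective_fintypeLinearCombination.1 hu.1)
    (linearIndependent_iff_injective_fintypeLinearCombination.1 hu'.1)
    (fun a b => by rw [form_comb_eq_zero h hu.2, form_comb_eq_zero h hu'.2])
  refine ⟨g, hg1, fun i => ?_⟩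
  have := hg2 (Pi.single i 1)
  simpa [Fintype.linearCombination_apply, Pi.single_apply] using this

/-- the unitary group as a group of linear automorphisms -/
noncomputable def guEquiv (n q : ℕ) : ↥(Cfsg.GU n F q) ≃* ↥(isom (Cfsg.hermForm n F q)) :=
  GUIsom.equivOfMemIff (GUIsom.glLin n F) (Cfsg.GU n F q) (isom (Cfsg.hermForm n F q))
    (fun _ => Iff.rfl)

theorem card_isom_herm (n q : ℕ) :
    Nat.card ↥(isom (Cfsg.hermForm n F q)) = Nat.card ↥(Cfsg.GU n F q) :=
  (Nat.card_congr (guEquiv n q).toEquiv).symm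

/-- the counting identity for the stabilizer of a totally isotropic subspace in `GU` -/
theorem card_stab_mul_herm {q : ℕ} (hF : Fintype.card F = q ^ 2) (n k : ℕ)
    (W : Submodule F (Fin n → F)) (hWk : finrank F W = k)
    (hW : ∀ u ∈ W, ∀ v ∈ W, Cfsg.hermForm n F q u v = 0) :
    Nat.card ↥(isom (Cfsg.hermForm n F q) ⊓ stab W) *
      ∏ j ∈ Finset.range k, ((q ^ 2) ^ j * isoCount q (n - 2 * j)) =
    (∏ i : Fin k, ((q ^ 2) ^ k - (q ^ 2) ^ (i : ℕ))) * Nat.card ↥(Cfsg.GU n F q) := by
  have h := card_stab_mul (Cfsg.hermForm n F q) k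
    (fun u hu u' hu' => frame_trans_herm hF n u hu u' hu') W hWk hW
  rw [ncard_frame_herm hF, card_isom_herm, card_linearIndependent (le_of_eq hWk.symm), hWk,
    hF] at h
  exact h

end concrete

end HermFrames

end Cfsg.Agent.Lib.Helper2
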