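import Mathlib
import Cfsg.Agent.Lib.Helper2.HermFrames2
import Cfsg.Agent.Lib.Helper2.Herm
import Cfsg.Agent.Lib.Helper1.GUBasic
import Cfsg.Agent.S0278

set_option autoImplicit false

namespace Cfsg.Agent.Lib.Helper2

namespace HermFrames

open Module IsomDecomp IsoFrames HermDecomp Cfsg.Agent.Lib.Helper5.PSLCoset Matrix

section generic

variable {F : Type*} [Field F] {σ : F ≃+* F} {V : Type*} [AddCommGroup V] [Module F V]
  {H : V → V → F}

/-- an isotropic vector has a hyperbolic partner -/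
theorem exists_hyp_partner (hσ : orderOf σ = 2) (h : IsHerm σ H)
    (hnd : ∀ v, (∀ w, H v w = 0) → v = 0) (u : V) (hu0 : u ≠ 0) (huu : H u u = 0) :
    ∃ v, H v v = 0 ∧ H u v = 1 := by
  have hσ2 := WittHerm.sigma_sigma hσ
  obtain ⟨z, hz⟩ : ∃ z, H u z ≠ 0 := by
    by_contra hcon
    push Not at hcon
    exact hu0 (hnd u hcon)
  obtain ⟨z', h1⟩ : ∃ z', H u z' = 1 := by
    refine ⟨(σ (H u z))⁻¹ • z, ?_⟩
    rw [h.smul_right, map_inv₀, hσ2, inv_mul_cancel₀ hz]
  have h1' : H z' u = 1 := by rw [h.symm, h1, map_one]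
  obtain ⟨t, ht⟩ := WittHerm.exists_trace hσ (-(H z' z'))
    (by rw [map_neg, WittHerm.self_fixed h])
  refine ⟨z' + t • u, ?_, ?_⟩
  · rw [h.add_left, h.add_right, h.add_right, h.smul_left, h.smul_left, h.smul_right,
      h.smul_right, huu, h1, h1']
    linear_combination ht
  · rw [h.add_right, h.smul_right, huu, h1]
    ring

/-- Hilbert 90 for an involutory automorphism -/
theorem exists_hilbert90 (hσ : orderOf σ = 2) (l : F) (hl : l * σ l = 1) :
    ∃ a : F, a ≠ 0 ∧ a = l * σ a := by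
  have hσ2 := WittHerm.sigma_sigma hσ
  by_cases h1 : 1 + l = 0
  · have hl' : l = -1 := by linear_combination h1
    by_cases h2 : (1 : F) + 1 = 0
    · refine ⟨1, one_ne_zero, ?_⟩
      rw [map_one, hl']
      linear_combination h2
    · have hσ1 : σ ≠ 1 := by
        intro h1
        rw [h1, orderOf_one] at hσ
        omega
      obtain ⟨t, ht⟩ : ∃ t : F, σ t ≠ t := by
        by_contra hcon
        push Not at hcon
        exact hσ1 (RingEquiv.ext hcon)
      refine ⟨t - σ t, fun h0 => ht (sub_eq_zero.1 h0).symm, ?_⟩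
      rw [map_sub, hσ2, hl']
      ring
  · refine ⟨1 + l, h1, ?_⟩
    rw [map_add, map_one]
    linear_combination -hl

end generic

section concrete

variable {F : Type*} [Field F] [Fintype F] {n : ℕ} {q : ℕ}

/-- the matrix acting as `a` on `u`, as `b` on `v` and trivially on the orthogonal complement
of a hyperbolic pair `u, v` -/
def hypRot (q : ℕ) (u v : Fin n → F) (a b : F) : Matrix (Fin n) (Fin n) F :=
  (1 + (a - 1) • Matrix.vecMulVec u (fun j => v j ^ q)) *
    (1 + (b - 1) • Matrix.vecMulVec v (fun j => u j ^ q))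

omit [Fintype F] in
theorem rank_one_mulVec (u v : Fin n → F) (c : F) (x : Fin n → F) :
    (1 + c • Matrix.vecMulVec u (fun j => v j ^ q)) *ᵥ x =
      x + (c * Cfsg.hermForm n F q x v) • u := by
  rw [Matrix.add_mulVec, Matrix.one_mulVec, Matrix.smul_mulVec, Matrix.vecMulVec_mulVec,
    op_smul_eq_smul, smul_smul]
  congr 3
  unfold Cfsg.hermForm dotProduct
  apply Finset.sum_congr rfl
  intro i _
  ring

omit [Fintype F] in
theorem det_rank_one (u v : Fin n → F) (c : F) :
    (1 + c • Matrix.vecMulVec u (fun j => v j ^ q)).det = 1 + c * Cfsg.hermForm n F q u v := by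
  have h1 : c • Matrix.vecMulVec u (fun j => v j ^ q) =
      Matrix.replicateCol (Fin 1) (c • u) * Matrix.replicateRow (Fin 1) (fun j => v j ^ q) := by
    ext i j
    simp [Matrix.vecMulVec_apply, Matrix.mul_apply, mul_assoc]
  rw [h1, Matrix.det_one_add_mul_comm, Matrix.det_fin_one]
  simp only [Matrix.add_apply, Matrix.one_apply_eq, Matrix.mul_apply, Matrix.replicateRow_apply,
    Matrix.replicateCol_apply, Pi.smul_apply, smul_eq_mul]
  congr 1
  unfold Cfsg.hermForm
  rw [Finset.mul_sum]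
  apply Finset.sum_congr rfl
  intro i _
  ring

omit [Fintype F] in
theorem hypRot_mulVec {σ : F ≃+* F} (h : IsHerm σ (Cfsg.hermForm n F q)) (u v : Fin n → F)
    (hvv : Cfsg.hermForm n F q v v = 0) (a b : F) (x : Fin n → F) :
    hypRot q u v a b *ᵥ x = x + ((a - 1) * Cfsg.hermForm n F q x v) • u +
      ((b - 1) * Cfsg.hermForm n F q x u) • v := by
  unfold hypRot
  rw [← Matrix.mulVec_mulVec, rank_one_mulVec, rank_one_mulVec, h.add_left, h.smul_left, hvv,
    mul_zero, add_zero]
  abel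

omit [Fintype F] in
theorem det_hypRot (u v : Fin n → F) (huv : Cfsg.hermForm n F q u v = 1)
    (hvu : Cfsg.hermForm n F q v u = 1) (a b : F) : (hypRot q u v a b).det = a * b := by
  unfold hypRot
  rw [Matrix.det_mul, det_rank_one, det_rank_one, huv, hvu]
  ring

omit [Fintype F] in
theorem hypRot_preserves {σ : F ≃+* F} (hσ2 : ∀ a : F, σ (σ a) = a)
    (h : IsHerm σ (Cfsg.hermForm n F q)) (u v : Fin n → F)
    (huu : Cfsg.hermForm n F q u u = 0) (hvv : Cfsg.hermForm n F q v v = 0)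
    (huv : Cfsg.hermForm n F q u v = 1) (a b : F) (hab : a * σ b = 1) (x y : Fin n → F) :
    Cfsg.hermForm n F q (hypRot q u v a b *ᵥ x) (hypRot q u v a b *ᵥ y) =
      Cfsg.hermForm n F q x y := by
  have hvu : Cfsg.hermForm n F q v u = 1 := by rw [h.symm, huv, map_one]
  have hab' : σ a * b = 1 := by
    have : σ a * σ (σ b) = 1 := by rw [← map_mul, hab, map_one]
    rwa [hσ2] at this
  rw [hypRot_mulVec h u v hvv, hypRot_mulVec h u v hvv]
  simp only [h.add_left, h.add_right, h.smul_left, h.smul_right, huu, hvv, huv, hvu, map_mul,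
    map_sub, map_one]
  rw [h.symm y u, h.symm y v]
  linear_combination (Cfsg.hermForm n F q x u * σ (Cfsg.hermForm n F q y v)) * hab' +
    (Cfsg.hermForm n F q x v * σ (Cfsg.hermForm n F q y u)) * hab

omit [Fintype F] in
/-- an invertible matrix mapping a subspace into itself stabilizes it -/
theorem stabilizing_of_forall (g : GL (Fin n) F) (W : Submodule F (Fin n → F))
    (hg : ∀ x ∈ W, (g : Matrix (Fin n) (Fin n) F) *ᵥ x ∈ W) :
    g ∈ Cfsg.stabilizing (Cfsg.glToMat (Fin n) F) (W : Set (Fin n → F)) := by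
  have h1 : GUIsom.glLin n F g ∈ stab W := by
    apply mem_stab_of_map
    apply Submodule.eq_of_le_of_finrank_eq
    · rintro _ ⟨x, hx, rfl⟩
      exact hg x hx
    · exact LinearEquiv.finrank_map_eq (GUIsom.glLin n F g) W
  exact h1

open Cfsg.Agent.Lib.Helper1.GUBasic Cfsg.Agent.Lib.Helper1.HermCount in
/-- elements of the stabilizer of a totally isotropic subspace with prescribed determinant -/
theorem exists_stab_det (hF : Fintype.card F = q ^ 2) (hn : 1 ≤ n)
    (W : Submodule F (Fin n → F)) (hW : ∀ u ∈ W, ∀ v ∈ W, Cfsg.hermForm n F q u v = 0)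
    (l : Fˣ) (hl : nrm q (l : F) = 1) :
    ∃ g : Cfsg.GU n F q, (g : GL (Fin n) F) ∈
      Cfsg.stabilizing (Cfsg.glToMat (Fin n) F) (W : Set (Fin n → F)) ∧
      Cfsg.Agent.S0278.detGU n F q g = l := by
  by_cases hW0 : W = ⊥
  · obtain ⟨g, hg⟩ := (Cfsg.Agent.S0278.range_detGU hF hn l).2 hl
    refine ⟨g, ?_, hg⟩
    apply stabilizing_of_forall
    intro x hx
    rw [hW0, Submodule.mem_bot] at hx
    rw [hx, Matrix.mulVec_zero]
    exact Submodule.zero_mem _
  · obtain ⟨σ, hσ, hσq, h, hnd⟩ := exists_data hF n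
    have hσ2 := WittHerm.sigma_sigma hσ
    obtain ⟨u, hu, hu0⟩ := Submodule.exists_mem_ne_zero_of_ne_bot hW0
    have huu := hW u hu u hu
    obtain ⟨v, hvv, huv⟩ := exists_hyp_partner hσ h hnd u hu0 huu
    have hvu : Cfsg.hermForm n F q v u = 1 := by rw [h.symm, huv, map_one]
    obtain ⟨a, ha0, ha⟩ := exists_hilbert90 hσ (l : F) (by rw [hσq]; exact hl)
    have hσa : σ a ≠ 0 := by
      intro h0
      apply ha0
      rw [ha, h0, mul_zero]
    have hab : a * σ (σ a)⁻¹ = 1 := by
      rw [map_inv₀, hσ2, mul_inv_cancel₀ ha0]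
    have hM := hypRot_preserves hσ2 h u v huu hvv huv a (σ a)⁻¹ hab
    refine ⟨mkGU hF (hypRot q u v a (σ a)⁻¹) hM, ?_, ?_⟩
    · apply stabilizing_of_forall
      intro x hx
      rw [mkGU_coe, hypRot_mulVec h u v hvv, hW x hx u hu, mul_zero, zero_smul, add_zero]
      exact W.add_mem hx (W.smul_mem _ hu)
    · apply Units.ext
      rw [Cfsg.Agent.S0278.detGU_coe, mkGU_coe, det_hypRot u v huv hvu]
      rw [mul_inv_eq_iff_eq_mul₀ hσa]
      exact ha

open Cfsg.Agent.Lib.Helper1.GUBasic Cfsg.Agent.Lib.Helper1.HermCount in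
/-- passing from the unitary to the special unitary stabilizer -/
theorem card_stab_su (hF : Fintype.card F = q ^ 2) (hn : 1 ≤ n)
    (W : Submodule F (Fin n → F)) (hW : ∀ u ∈ W, ∀ v ∈ W, Cfsg.hermForm n F q u v = 0) :
    (q + 1) * Nat.card ↥((Cfsg.stabilizing (Cfsg.slToMat n F) (W : Set (Fin n → F))).subgroupOf
      (Cfsg.SU n F q)) =
    Nat.card ↥((Cfsg.stabilizing (Cfsg.glToMat (Fin n) F) (W : Set (Fin n → F))).subgroupOf
      (Cfsg.GU n F q)) := by
  classical
  set P := (Cfsg.stabilizing (Cfsg.glToMat (Fin n) F) (W : Set (Fin n → F))).subgroupOf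
    (Cfsg.GU n F q) with hP
  set φ : ↥P →* Fˣ := (Cfsg.Agent.S0278.detGU n F q).comp P.subtype with hφ
  have h1 : Nat.card ↥P = Nat.card ↥φ.ker * Nat.card ↥φ.range := by
    rw [← Subgroup.index_ker, Subgroup.card_mul_index]
  have h2 : Nat.card ↥φ.range = q + 1 := by
    rw [← Cfsg.Agent.S0278.card_norm_one hF]
    apply Nat.card_congr
    refine ⟨fun l => ⟨l.1, ?_⟩, fun l => ⟨l.1, ?_⟩, fun _ => rfl, fun _ => rfl⟩
    · obtain ⟨g, hg⟩ := l.2
      apply (Cfsg.Agent.S0278.range_detGU hF hn l.1).1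
      exact ⟨g.1, hg⟩
    · obtain ⟨g, hg1, hg2⟩ := exists_stab_det hF hn W hW l.1 l.2
      exact ⟨⟨g, hg1⟩, hg2⟩
  have h3 : Nat.card ↥φ.ker = Nat.card ↥((Cfsg.stabilizing (Cfsg.slToMat n F)
      (W : Set (Fin n → F))).subgroupOf (Cfsg.SU n F q)) := by
    apply Nat.card_congr
    refine ⟨fun g => ⟨⟨⟨((g.1.1.1 : GL (Fin n) F) : Matrix (Fin n) (Fin n) F), ?_⟩, ?_⟩, ?_⟩,
      fun A => ⟨⟨⟨Matrix.SpecialLinearGroup.toGL A.1.1, ?_⟩, ?_⟩, ?_⟩, ?_, ?_⟩
    · have := g.2
      rw [MonoidHom.mem_ker] at this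
      have h2 := congrArg Units.val this
      exact h2
    · intro u v
      exact GU_preserves g.1.1 u v
    · intro v
      exact g.1.2 v
    · intro u v
      exact A.1.2 u v
    · intro v
      exact A.2 v
    · rw [MonoidHom.mem_ker]
      apply Units.ext
      exact A.1.1.2
    · intro g
      apply Subtype.ext
      apply Subtype.ext
      apply Subtype.ext
      apply Units.ext
      rfl
    · intro A
      apply Subtype.ext
      apply Subtype.ext
      apply Subtype.ext
      rfl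
  rw [h1, h2, h3, mul_comm]

end concrete

end HermFrames

end Cfsg.Agent.Lib.Helper2
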