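import Mathlib
import Cfsg.Agent.Lib.Helper2.HermFrames3

set_option autoImplicit false

namespace Cfsg.Agent.Lib.Helper2

namespace UT

open Module IsomDecomp HermDecomp Cfsg.Agent.Lib.Helper5.PSLCoset

variable {F : Type*} [Field F] {σ : F ≃+* F} {V : Type*} [AddCommGroup V] [Module F V]
  {H : V → V → F}

/-- the unitary transvection `x ↦ x + c H(x,v) v` along an isotropic vector `v` -/
noncomputable def tv (h : IsHerm σ H) (v : V) (c : F) (hv : H v v = 0) : V ≃ₗ[F] V :=
  LinearEquiv.transvection (f := c • h.toDual v) (v := v)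
    (by rw [LinearMap.smul_apply, IsHerm.toDual_apply, hv, smul_zero])

theorem tv_apply (h : IsHerm σ H) (v : V) (c : F) (hv : H v v = 0) (x : V) :
    tv h v c hv x = x + (c * H x v) • v := by
  unfold tv
  rw [LinearEquiv.transvection.apply, LinearMap.smul_apply, IsHerm.toDual_apply, smul_eq_mul]

theorem tv_mem_isom (h : IsHerm σ H) (v : V) (c : F) (hv : H v v = 0) (hc : σ c = -c) :
    tv h v c hv ∈ isom H := by
  intro x y
  rw [tv_apply, tv_apply, h.add_left, h.add_right, h.add_right, h.smul_left, h.smul_left,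
    h.smul_right, h.smul_right, hv, map_mul, hc, h.symm y v]
  ring

theorem det_tv (h : IsHerm σ H) (v : V) (c : F) (hv : H v v = 0) :
    LinearEquiv.det (tv h v c hv) = 1 := by
  unfold tv
  exact LinearEquiv.transvection.det_eq_one _

/-- the set of unitary transvections -/
def tvSet (h : IsHerm σ H) : Set (V ≃ₗ[F] V) :=
  {g | ∃ (v : V) (c : F) (hv : H v v = 0), σ c = -c ∧ g = tv h v c hv}

/-- the group generated by the unitary transvections -/
def T (h : IsHerm σ H) : Subgroup (V ≃ₗ[F] V) := Subgroup.closure (tvSet h)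

theorem tv_mem_T (h : IsHerm σ H) (v : V) (c : F) (hv : H v v = 0) (hc : σ c = -c) :
    tv h v c hv ∈ T h :=
  Subgroup.subset_closure ⟨v, c, hv, hc, rfl⟩

theorem T_le_isom (h : IsHerm σ H) : T h ≤ isom H := by
  unfold T
  rw [Subgroup.closure_le]
  rintro g ⟨v, c, hv, hc, rfl⟩
  exact tv_mem_isom h v c hv hc

theorem det_of_mem_T (h : IsHerm σ H) {g : V ≃ₗ[F] V} (hg : g ∈ T h) : LinearEquiv.det g = 1 := by
  have hle : T h ≤ (LinearEquiv.det : (V ≃ₗ[F] V) →* Fˣ).ker := by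
    unfold T
    rw [Subgroup.closure_le]
    rintro g ⟨v, c, hv, hc, rfl⟩
    exact det_tv h v c hv
  exact hle hg

theorem conj_tv (h : IsHerm σ H) {g : V ≃ₗ[F] V} (hg : g ∈ isom H) (v : V) (c : F)
    (hv : H v v = 0) :
    g * tv h v c hv * g⁻¹ = tv h (g v) c (by rw [hg, hv]) := by
  apply LinearEquiv.ext
  intro x
  rw [LinearEquiv.mul_apply, LinearEquiv.mul_apply, tv_apply, tv_apply, map_add, map_smul]
  have h1 : g (g⁻¹ x) = x := by
    rw [← LinearEquiv.mul_apply, mul_inv_cancel]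
    rfl
  have h2 : H (g⁻¹ x) v = H x (g v) := by
    rw [← hg (g⁻¹ x) v, h1]
  rw [h1, h2]

theorem conj_mem_T (h : IsHerm σ H) {g : V ≃ₗ[F] V} (hg : g ∈ isom H) {t : V ≃ₗ[F] V}
    (ht : t ∈ T h) : g * t * g⁻¹ ∈ T h := by
  have hle : T h ≤ (T h).comap (MulAut.conj g).toMonoidHom := by
    conv_lhs => unfold T
    rw [Subgroup.closure_le]
    rintro t ⟨v, c, hv, hc, rfl⟩
    show g * tv h v c hv * g⁻¹ ∈ T h
    rw [conj_tv h hg]
    exact tv_mem_T h _ c _ hc
  exact hle ht

/-- moving an isotropic vector to another one when their product is skew -/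
theorem exists_T_map_of_skew (h : IsHerm σ H) (a b : V) (ha : H a a = 0) (hb : H b b = 0)
    (hab0 : H a b ≠ 0) (hab : σ (H a b) = -(H a b)) : ∃ t ∈ T h, t a = b := by
  have hc : σ (H a b)⁻¹ = -(H a b)⁻¹ := by
    rw [map_inv₀, hab, inv_neg]
  refine ⟨tv h a (H a b)⁻¹ ha * tv h b (H a b)⁻¹ hb,
    (T h).mul_mem (tv_mem_T h _ _ _ hc) (tv_mem_T h _ _ _ hc), ?_⟩
  rw [LinearEquiv.mul_apply, tv_apply, tv_apply, h.add_left, h.smul_left, ha, inv_mul_cancel₀ hab0,
    one_smul, h.symm a b, hab]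
  have h1 : (H a b)⁻¹ * (0 + 1 * -(H a b)) = -1 := by
    rw [zero_add, one_mul, mul_neg, inv_mul_cancel₀ hab0]
  rw [h1]
  simp

end UT

end Cfsg.Agent.Lib.Helper2
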