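import Mathlib
import Cfsg.Agent.Lib.Helper2.UT1

set_option autoImplicit false

namespace Cfsg.Agent.Lib.Helper2

namespace UT

open Module IsomDecomp HermDecomp Cfsg.Agent.Lib.Helper5.PSLCoset

variable {F : Type*} [Field F] {σ : F ≃+* F} {V : Type*} [AddCommGroup V] [Module F V]
  {H : V → V → F}

/-- the restriction of a form to a subspace -/
abbrev res (H : V → V → F) (W : Submodule F V) : W → W → F := fun x y => H (x : V) (y : V)

variable {W W' : Submodule F V}

/-- the extension of an automorphism of `W` by the identity on the complement -/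
noncomputable def ext (hd : OrthoDecomp H W W') (f : W ≃ₗ[F] W) : V ≃ₗ[F] V :=
  glue hd f (LinearEquiv.refl F W')

theorem ext_apply (hd : OrthoDecomp H W W') (f : W ≃ₗ[F] W) (w : W) (w' : W') :
    ext hd f ((w : V) + (w' : V)) = (f w : V) + (w' : V) := by
  unfold ext
  rw [glue_apply]
  rfl

theorem ext_apply_mem (hd : OrthoDecomp H W W') (f : W ≃ₗ[F] W) (w : W) :
    ext hd f (w : V) = (f w : V) := by
  have := ext_apply hd f w 0
  simpa using this

theorem ext_apply_compl (hd : OrthoDecomp H W W') (f : W ≃ₗ[F] W) (w' : W') :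
    ext hd f (w' : V) = (w' : V) := by
  have := ext_apply hd f 0 w'
  simpa using this

theorem ext_mul (hd : OrthoDecomp H W W') (f g : W ≃ₗ[F] W) :
    ext hd (f * g) = ext hd f * ext hd g := by
  apply LinearEquiv.ext
  intro v
  obtain ⟨w, w', rfl⟩ := exists_decomp hd v
  rw [LinearEquiv.mul_apply, ext_apply, ext_apply, ext_apply]
  rfl

theorem ext_one (hd : OrthoDecomp H W W') : ext hd (1 : W ≃ₗ[F] W) = 1 := by
  apply LinearEquiv.ext
  intro v
  obtain ⟨w, w', rfl⟩ := exists_decomp hd v
  rw [ext_apply]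
  rfl

/-- the extension as a group homomorphism -/
noncomputable def extHom (hd : OrthoDecomp H W W') : (W ≃ₗ[F] W) →* (V ≃ₗ[F] V) where
  toFun := ext hd
  map_one' := ext_one hd
  map_mul' := ext_mul hd

theorem ext_tv (h : IsHerm σ H) (hd : OrthoDecomp H W W') (w : W) (c : F)
    (hw : H (w : V) (w : V) = 0) :
    ext hd (tv (isHerm_restrict h W) w c hw) = tv h (w : V) c hw := by
  apply LinearEquiv.ext
  intro v
  obtain ⟨x, x', rfl⟩ := exists_decomp hd v
  rw [ext_apply, tv_apply, tv_apply, h.add_left, hd.ortho' _ w.2 _ x'.2, add_zero]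
  simp only [Submodule.coe_add, Submodule.coe_smul]
  abel

theorem ext_mem_T (h : IsHerm σ H) (hd : OrthoDecomp H W W') {f : W ≃ₗ[F] W}
    (hf : f ∈ T (isHerm_restrict h W)) : ext hd f ∈ T h := by
  have hle : T (isHerm_restrict h W) ≤ (T h).comap (extHom hd) := by
    conv_lhs => unfold T
    rw [Subgroup.closure_le]
    rintro t ⟨w, c, hw, hc, rfl⟩
    show ext hd (tv (isHerm_restrict h W) w c hw) ∈ T h
    rw [ext_tv h hd]
    exact tv_mem_T h _ c _ hc
  exact hle hf

theorem det_ext [FiniteDimensional F V] (hd : OrthoDecomp H W W') (f : W ≃ₗ[F] W) :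
    LinearEquiv.det (ext hd f) = LinearEquiv.det f := by
  apply Units.ext
  rw [LinearEquiv.coe_det, LinearEquiv.coe_det]
  unfold ext glue
  have h1 : (((Submodule.prodEquivOfIsCompl W W' hd.compl).symm.trans
      ((f.prodCongr (LinearEquiv.refl F W')).trans
        (Submodule.prodEquivOfIsCompl W W' hd.compl)) : V ≃ₗ[F] V) : V →ₗ[F] V) =
      ((Submodule.prodEquivOfIsCompl W W' hd.compl : (W × W') ≃ₗ[F] V) : (W × W') →ₗ[F] V) ∘ₗ
        ((f : W →ₗ[F] W).prodMap (LinearMap.id : W' →ₗ[F] W')) ∘ₗ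
        (((Submodule.prodEquivOfIsCompl W W' hd.compl).symm : V ≃ₗ[F] (W × W')) :
          V →ₗ[F] (W × W')) := by
    apply LinearMap.ext
    intro v
    rfl
  rw [h1, LinearMap.det_conj, LinearMap.det_prodMap, LinearMap.det_id, mul_one]

/-- an isometry fixing the complement pointwise is the extension of an isometry of `W` -/
theorem exists_eq_ext (hd : OrthoDecomp H W W') {g : V ≃ₗ[F] V} (hg : g ∈ isom H)
    (hfix : ∀ y ∈ W', g y = y) (hWW : ∀ v, (∀ y ∈ W', H v y = 0) → v ∈ W) :
    ∃ f : W ≃ₗ[F] W, f ∈ isom (res H W) ∧ ext hd f = g := by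
  have hstab : g ∈ stab W := by
    have key : ∀ a : V ≃ₗ[F] V, a ∈ isom H → (∀ y ∈ W', a y = y) → ∀ v ∈ W, a v ∈ W := by
      intro a ha hafix v hv
      apply hWW
      intro y hy
      rw [← hafix y hy, ha]
      exact hd.ortho v hv y hy
    intro v
    constructor
    · exact key g hg hfix v
    · intro hv
      have h1 := key g⁻¹ ((isom H).inv_mem hg) (by
        intro y hy
        have h2 : g⁻¹ (g y) = y := by
          rw [← LinearEquiv.mul_apply, inv_mul_cancel]; rfl
        rw [hfix y hy] at h2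
        exact h2) (g v) hv
      have h3 : g⁻¹ (g v) = v := by
        rw [← LinearEquiv.mul_apply, inv_mul_cancel]; rfl
      rwa [h3] at h1
  refine ⟨g.ofSubmodules W W (map_eq_of_stab hstab), ?_, ?_⟩
  · intro x y
    show H ((g.ofSubmodules W W (map_eq_of_stab hstab) x : W) : V)
      ((g.ofSubmodules W W (map_eq_of_stab hstab) y : W) : V) = H (x : V) (y : V)
    rw [LinearEquiv.ofSubmodules_apply, LinearEquiv.ofSubmodules_apply]
    exact hg _ _
  · apply LinearEquiv.ext
    intro v
    obtain ⟨w, w', rfl⟩ := exists_decomp hd v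
    rw [ext_apply, LinearEquiv.ofSubmodules_apply, map_add, hfix _ w'.2]

end UT

end Cfsg.Agent.Lib.Helper2
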