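import Mathlib
import Cfsg.Agent.Lib.Helper2.UT2

set_option autoImplicit false

namespace Cfsg.Agent.Lib.Helper2

namespace UT

open Module IsomDecomp HermDecomp Cfsg.Agent.Lib.Helper5.PSLCoset

variable {F : Type*} [Field F] {σ : F ≃+* F} {V : Type*} [AddCommGroup V] [Module F V]
  {H : V → V → F}

theorem exists_skew (hσ : orderOf σ = 2) : ∃ μ : F, μ ≠ 0 ∧ σ μ = -μ := by
  obtain ⟨a, ha0, ha⟩ := HermFrames.exists_hilbert90 hσ (-1 : F) (by rw [map_neg, map_one]; ring)
  refine ⟨a, ha0, ?_⟩
  linear_combination ha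

theorem exists_norm_eq [Finite F] (hσ : orderOf σ = 2) (c : F) (hc0 : c ≠ 0) (hc : σ c = c) :
    ∃ a : F, a ≠ 0 ∧ a * σ a = c := by
  obtain ⟨a, ha0, ha⟩ := exists_nrm_eq σ 2 hσ (by norm_num) c hc0 hc
  refine ⟨a, ha0, ?_⟩
  rw [← ha]
  unfold nrm
  rw [Finset.prod_range_succ, Finset.prod_range_one, pow_zero, pow_one]
  rfl

/-- a hyperbolic pair -/
structure HypPair (H : V → V → F) (u v : V) : Prop where
  uu : H u u = 0
  vv : H v v = 0
  uv : H u v = 1

theorem HypPair.vu (h : IsHerm σ H) {u v : V} (hp : HypPair H u v) : H v u = 1 := by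
  rw [h.symm u v, hp.uv, map_one]

theorem HypPair.linearIndependent (h : IsHerm σ H) {u v : V} (hp : HypPair H u v) :
    LinearIndependent F ![u, v] := by
  rw [LinearIndependent.pair_iff]
  intro s t hst
  have h1 : H (s • u + t • v) v = 0 := by rw [hst, h.zero_left]
  have h2 : H (s • u + t • v) u = 0 := by rw [hst, h.zero_left]
  rw [h.add_left, h.smul_left, h.smul_left, hp.uv, hp.vv] at h1
  rw [h.add_left, h.smul_left, h.smul_left, hp.uu, hp.vu h] at h2
  constructor
  · simpa using h1
  · simpa using h2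

section dim2

variable [FiniteDimensional F V]

/-- coordinates with respect to a hyperbolic pair in dimension two -/
theorem decomp2 (h : IsHerm σ H) (hnd : ∀ v, (∀ w, H v w = 0) → v = 0)
    (hdim : finrank F V = 2) {u v : V} (hp : HypPair H u v) (x : V) :
    x = H x v • u + H x u • v := by
  have hsp : Submodule.span F (Set.range ![u, v]) = ⊤ :=
    (hp.linearIndependent h).span_eq_top_of_card_eq_finrank' (by rw [Fintype.card_fin, hdim])
  have hy : x - (H x v • u + H x u • v) = 0 := by
    apply hnd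
    intro w
    have hw : w ∈ Submodule.span F (Set.range ![u, v]) := by rw [hsp]; trivial
    have key : ∀ i, H (![u, v] i) (x - (H x v • u + H x u • v)) = 0 := by
      intro i
      fin_cases i
      · show H u (x - (H x v • u + H x u • v)) = 0
        rw [h.sub_right, h.add_right, h.smul_right, h.smul_right, hp.uu, hp.uv, ← h.symm x u]
        ring
      · show H v (x - (H x v • u + H x u • v)) = 0
        rw [h.sub_right, h.add_right, h.smul_right, h.smul_right, hp.vv, hp.vu h, ← h.symm x v]
        ring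
    have := HermFrames.ortho_span h ![u, v] _ key w hw
    rw [h.symm w, this, map_zero]
  exact sub_eq_zero.1 hy

/-- an isometry of a hyperbolic plane fixing `u` is a transvection along `u` -/
theorem eq_tv_of_fix (hσ : orderOf σ = 2) (h : IsHerm σ H) (hnd : ∀ v, (∀ w, H v w = 0) → v = 0)
    (hdim : finrank F V = 2) {u v : V} (hp : HypPair H u v) {g : V ≃ₗ[F] V} (hg : g ∈ isom H)
    (hgu : g u = u) : g ∈ T h := by
  have h1 : H (g v) u = 1 := by
    have := hg v u
    rw [hgu] at this
    rw [this, hp.vu h]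
  have h2 := decomp2 h hnd hdim hp (g v)
  rw [h1, one_smul] at h2
  have h3 : H (g v) (g v) = 0 := by rw [hg, hp.vv]
  obtain ⟨c, hc⟩ : ∃ c : F, c = H (g v) v := ⟨_, rfl⟩
  rw [← hc] at h2
  have hskew : σ c = -c := by
    have h4 : H (c • u + v) (c • u + v) = 0 := by rw [← h2]; exact h3
    simp only [h.add_left, h.add_right, h.smul_left, h.smul_right, hp.uu, hp.uv,
      hp.vu h, hp.vv] at h4
    linear_combination h4
  have hgt : g = tv h u c hp.uu := by
    apply LinearEquiv.ext
    intro x
    obtain ⟨a, b, hx⟩ : ∃ a b : F, x = a • u + b • v := ⟨_, _, decomp2 h hnd hdim hp x⟩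
    have hxu : H x u = b := by
      rw [hx, h.add_left, h.smul_left, h.smul_left, hp.uu, hp.vu h]
      ring
    rw [tv_apply, hxu, hx, map_add, map_smul, map_smul, hgu, h2]
    module
  rw [hgt]
  exact tv_mem_T h u _ hp.uu hskew

/-- the determinant of an isometry of a hyperbolic plane scaling `u` -/
theorem fixed_of_det (hσ : orderOf σ = 2) (h : IsHerm σ H) (hnd : ∀ v, (∀ w, H v w = 0) → v = 0)
    (hdim : finrank F V = 2) {u v : V} (hp : HypPair H u v) {g : V ≃ₗ[F] V} (hg : g ∈ isom H)
    (hdet : LinearEquiv.det g = 1) (α : F) (hα : α ≠ 0) (hgu : g u = α • u) : σ α = α := by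
  have hσ2 := WittHerm.sigma_sigma hσ
  let b : Basis (Fin 2) F V := basisOfLinearIndependentOfCardEqFinrank (hp.linearIndependent h)
    (by rw [Fintype.card_fin, hdim])
  have hb : ∀ i, b i = ![u, v] i := fun i => by
    rw [coe_basisOfLinearIndependentOfCardEqFinrank]
  have hb0 : b 0 = u := hb 0
  have hb1 : b 1 = v := hb 1
  have h1 : H (g v) u = (σ α)⁻¹ := by
    have h2 : H (g v) (g u) = 1 := by rw [hg, hp.vu h]
    rw [hgu, h.smul_right] at h2
    have hσα : σ α ≠ 0 := (map_ne_zero_iff _ σ.injective).2 hα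
    field_simp
    linear_combination h2
  have h2 := decomp2 h hnd hdim hp (g v)
  rw [h1] at h2
  have hdet' : LinearMap.det (g : V →ₗ[F] V) = 1 := by
    rw [← LinearEquiv.coe_det, hdet, Units.val_one]
  rw [← LinearMap.det_toMatrix b, Matrix.det_fin_two] at hdet'
  simp only [LinearMap.toMatrix_apply, LinearEquiv.coe_coe, hb0, hb1] at hdet'
  rw [hgu, h2] at hdet'
  simp only [map_add, map_smul, ← hb0, ← hb1, Basis.repr_self, Finsupp.smul_single,
    Finsupp.coe_add, Pi.add_apply, Finsupp.single_apply, smul_eq_mul, mul_one] at hdet'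
  simp only [Fin.isValue, if_true, zero_ne_one, one_ne_zero, if_false, add_zero, zero_add,
    mul_zero, sub_zero] at hdet'
  have hσα : σ α ≠ 0 := (map_ne_zero_iff _ σ.injective).2 hα
  field_simp at hdet'
  exact hdet'.symm

end dim2

end UT

end Cfsg.Agent.Lib.Helper2
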