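import Mathlib
import Cfsg.Agent.Lib.Helper2.UT3

set_option autoImplicit false

namespace Cfsg.Agent.Lib.Helper2

namespace UT

open Module IsomDecomp HermDecomp Cfsg.Agent.Lib.Helper5.PSLCoset

variable {F : Type*} [Field F] {σ : F ≃+* F} {V : Type*} [AddCommGroup V] [Module F V]
  {H : V → V → F}

/-- scaling the first vector of a hyperbolic pair by a fixed scalar, inside `T` -/
theorem exists_T_scale (hσ : orderOf σ = 2) (h : IsHerm σ H) {u v : V} (hp : HypPair H u v)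
    (α : F) (hα : α ≠ 0) (hfix : σ α = α) : ∃ t ∈ T h, t u = α • u := by
  have hσ2 := WittHerm.sigma_sigma hσ
  obtain ⟨μ, hμ0, hμ⟩ := exists_skew hσ
  have hb : H (μ • v) (μ • v) = 0 := by
    rw [h.smul_left, h.smul_right, hp.vv, mul_zero, mul_zero]
  have h1 : H u (μ • v) = -μ := by rw [h.smul_right, hp.uv, hμ, mul_one]
  obtain ⟨t₁, ht₁, ht₁u⟩ := exists_T_map_of_skew h u (μ • v) hp.uu hb
    (by rw [h1]; exact neg_ne_zero.2 hμ0) (by rw [h1, map_neg, hμ])
  have hau : H (α • u) (α • u) = 0 := by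
    rw [h.smul_left, h.smul_right, hp.uu, mul_zero, mul_zero]
  have h2 : H (μ • v) (α • u) = μ * α := by
    rw [h.smul_left, h.smul_right, hp.vu h, hfix, mul_one]
  obtain ⟨t₂, ht₂, ht₂u⟩ := exists_T_map_of_skew h (μ • v) (α • u) hb hau
    (by rw [h2]; exact mul_ne_zero hμ0 hα) (by rw [h2, map_mul, hμ, hfix]; ring)
  refine ⟨t₂ * t₁, (T h).mul_mem ht₂ ht₁, ?_⟩
  rw [LinearEquiv.mul_apply, ht₁u, ht₂u]

section dim2

variable [FiniteDimensional F V]

/-- an isometry of determinant one of a hyperbolic plane scaling `u` lies in `T` -/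
theorem mem_T_of_scale (hσ : orderOf σ = 2) (h : IsHerm σ H)
    (hnd : ∀ v, (∀ w, H v w = 0) → v = 0) (hdim : finrank F V = 2) {u v : V}
    (hp : HypPair H u v) {g : V ≃ₗ[F] V} (hg : g ∈ isom H) (hdet : LinearEquiv.det g = 1)
    (α : F) (hα : α ≠ 0) (hgu : g u = α • u) : g ∈ T h := by
  have hfix := fixed_of_det hσ h hnd hdim hp hg hdet α hα hgu
  obtain ⟨t, ht, htu⟩ := exists_T_scale hσ h hp α hα hfix
  have h1 : t⁻¹ * g ∈ T h := by
    apply eq_tv_of_fix hσ h hnd hdim hp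
      ((isom H).mul_mem ((isom H).inv_mem (T_le_isom h ht)) hg)
    rw [LinearEquiv.mul_apply, hgu, ← htu]
    rw [← LinearEquiv.mul_apply, inv_mul_cancel]
    rfl
  have h2 : g = t * (t⁻¹ * g) := by group
  rw [h2]
  exact (T h).mul_mem ht h1

/-- `SU = T` for a hyperbolic plane -/
theorem mem_T_dim2 (hσ : orderOf σ = 2) (h : IsHerm σ H)
    (hnd : ∀ v, (∀ w, H v w = 0) → v = 0) (hdim : finrank F V = 2) {u v : V}
    (hp : HypPair H u v) {g : V ≃ₗ[F] V} (hg : g ∈ isom H) (hdet : LinearEquiv.det g = 1) :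
    g ∈ T h := by
  have hσ2 := WittHerm.sigma_sigma hσ
  have hu0 : u ≠ 0 := by
    intro h0
    have := hp.uv
    rw [h0, h.zero_left] at this
    exact zero_ne_one this
  have hgu0 : g u ≠ 0 := fun h0 => hu0 (g.map_eq_zero_iff.1 h0)
  have hguu : H (g u) (g u) = 0 := by rw [hg, hp.uu]
  by_cases hzero : H u (g u) = 0
  · have h1 := decomp2 h hnd hdim hp (g u)
    have h2 : H (g u) u = 0 := by rw [h.symm u (g u), hzero, map_zero]
    rw [h2, zero_smul, add_zero] at h1
    have hα : H (g u) v ≠ 0 := by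
      intro h0
      rw [h0, zero_smul] at h1
      exact hgu0 h1
    exact mem_T_of_scale hσ h hnd hdim hp hg hdet _ hα h1
  · obtain ⟨μ, hμ0, hμ⟩ := exists_skew hσ
    obtain ⟨ρ, hρ⟩ : ∃ ρ : F, ρ = σ (μ / H u (g u)) := ⟨_, rfl⟩
    have hρ0 : ρ ≠ 0 := by
      rw [hρ]
      exact (map_ne_zero_iff _ σ.injective).2 (div_ne_zero hμ0 hzero)
    have h1 : H u (ρ • g u) = μ := by
      rw [h.smul_right, hρ, hσ2, div_mul_cancel₀ _ hzero]
    have hb : H (ρ • g u) (ρ • g u) = 0 := by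
      rw [h.smul_left, h.smul_right, hguu, mul_zero, mul_zero]
    obtain ⟨t, ht, htu⟩ := exists_T_map_of_skew h u (ρ • g u) hp.uu hb (by rw [h1]; exact hμ0)
      (by rw [h1, hμ])
    have h2 : g⁻¹ * t ∈ T h := by
      apply mem_T_of_scale hσ h hnd hdim hp
        ((isom H).mul_mem ((isom H).inv_mem hg) (T_le_isom h ht))
        (by rw [map_mul, map_inv, hdet, det_of_mem_T h ht, inv_one, one_mul]) ρ hρ0
      rw [LinearEquiv.mul_apply, htu, map_smul]
      congr 1
      rw [← LinearEquiv.mul_apply, inv_mul_cancel]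
      rfl
    have h3 : g = t * (g⁻¹ * t)⁻¹ := by group
    rw [h3]
    exact (T h).mul_mem ht ((T h).inv_mem h2)

end dim2

/-- existence of hyperbolic pairs in dimension at least two -/
theorem exists_hypPair [Finite F] [FiniteDimensional F V] (hσ : orderOf σ = 2) (h : IsHerm σ H)
    (hnd : ∀ v, (∀ w, H v w = 0) → v = 0) (hdim : 2 ≤ finrank F V) :
    ∃ u v : V, HypPair H u v := by
  obtain ⟨b, hb⟩ := exists_onb hσ h hnd (k := finrank F V) rfl
  obtain ⟨i0, i1, h01⟩ : ∃ i0 i1 : Fin (finrank F V), i0 ≠ i1 :=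
    ⟨⟨0, by omega⟩, ⟨1, by omega⟩, by intro h; simpa using congrArg Fin.val h⟩
  obtain ⟨ω, hω0, hω⟩ := exists_norm_eq hσ (-1 : F) (neg_ne_zero.2 one_ne_zero)
    (by rw [map_neg, map_one])
  have huu : H (b i0 + ω • b i1) (b i0 + ω • b i1) = 0 := by
    simp only [h.add_left, h.add_right, h.smul_left, h.smul_right, hb, if_true, if_neg h01,
      if_neg h01.symm, eq_self_iff_true]
    linear_combination hω
  have hu0 : b i0 + ω • b i1 ≠ 0 := by
    intro h0
    have h1 : H (b i0 + ω • b i1) (b i0) = 0 := by rw [h0, h.zero_left]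
    simp only [h.add_left, h.smul_left, hb, if_true, if_neg h01.symm, eq_self_iff_true] at h1
    simp at h1
  obtain ⟨v, hvv, huv⟩ := HermFrames.exists_hyp_partner hσ h hnd _ hu0 huu
  exact ⟨_, v, ⟨huu, hvv, huv⟩⟩

/-- `SU = T` in dimension two -/
theorem mem_T_of_finrank_two [Finite F] [FiniteDimensional F V] (hσ : orderOf σ = 2)
    (h : IsHerm σ H) (hnd : ∀ v, (∀ w, H v w = 0) → v = 0) (hdim : finrank F V = 2)
    {g : V ≃ₗ[F] V} (hg : g ∈ isom H) (hdet : LinearEquiv.det g = 1) : g ∈ T h := by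
  obtain ⟨u, v, hp⟩ := exists_hypPair hσ h hnd (by omega)
  exact mem_T_dim2 hσ h hnd hdim hp hg hdet

end UT

end Cfsg.Agent.Lib.Helper2
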