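import Mathlib
import Cfsg.Agent.Lib.Helper2.UT4

set_option autoImplicit false

namespace Cfsg.Agent.Lib.Helper2

namespace UT

open Module IsomDecomp HermDecomp Cfsg.Agent.Lib.Helper5.PSLCoset

variable {F : Type*} [Field F] {σ : F ≃+* F} {V : Type*} [AddCommGroup V] [Module F V]
  {H : V → V → F}

theorem li_of_orthonormal (h : IsHerm σ H) {k : ℕ} (e : Fin k → V)
    (he : ∀ i j, H (e i) (e j) = if i = j then 1 else 0) : LinearIndependent F e := by
  classical
  rw [linearIndependent_iff']
  intro s c hc j hj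
  have h1 : H (∑ i ∈ s, c i • e i) (e j) = 0 := by
    rw [hc]
    exact h.zero_left _
  rw [sum_left h] at h1
  simp only [he, mul_ite, mul_one, mul_zero] at h1
  rw [Finset.sum_ite_eq' s j] at h1
  simpa [hj] using h1

theorem span_singleton_nondeg (h : IsHerm σ H) (z : V) (hz : H z z ≠ 0) :
    ∀ u ∈ Submodule.span F {z}, (∀ v ∈ Submodule.span F {z}, H u v = 0) → u = 0 := by
  intro u hu hu'
  obtain ⟨a, rfl⟩ := Submodule.mem_span_singleton.1 hu
  have := hu' z (Submodule.mem_span_singleton_self z)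
  rw [h.smul_left] at this
  rcases mul_eq_zero.1 this with h0 | h0
  · rw [h0, zero_smul]
  · exact absurd h0 hz

/-- a vector of norm one orthogonal to a given vector of norm one -/
theorem exists_ortho_norm_one [Finite F] [FiniteDimensional F V] (hσ : orderOf σ = 2)
    (h : IsHerm σ H) (hnd : ∀ v, (∀ w, H v w = 0) → v = 0) (hdim : 2 ≤ finrank F V) (z : V)
    (hz : H z z = 1) : ∃ y : V, H y y = 1 ∧ H z y = 0 := by
  have hz0 : H z z ≠ 0 := by rw [hz]; exact one_ne_zero
  have hd := orthoDecomp hσ h (Submodule.span F {z}) (span_singleton_nondeg h z hz0)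
  have hnd' := nondeg_orthoCompl h _ hd hnd
  have hfr := HermFrames.finrank_orthoCompl hσ h hnd (Submodule.span F {z})
  have hz00 : z ≠ 0 := by
    intro h0
    rw [h0, h.zero_left] at hz
    exact zero_ne_one hz
  rw [finrank_span_singleton hz00] at hfr
  obtain ⟨b, hb⟩ := exists_onb (V := ↥(orthoCompl h (Submodule.span F {z})))
    (H := res H (orthoCompl h (Submodule.span F {z}))) hσ (isHerm_restrict h _)
    (by
      intro u hu
      apply Subtype.ext
      apply hnd' u u.2
      intro v hv
      exact hu ⟨v, hv⟩) (k := finrank F ↥(orthoCompl h (Submodule.span F {z}))) rfl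
  have hpos : 0 < finrank F ↥(orthoCompl h (Submodule.span F {z})) := by omega
  refine ⟨(b ⟨0, hpos⟩ : V), ?_, ?_⟩
  · have := hb ⟨0, hpos⟩ ⟨0, hpos⟩
    rw [if_pos rfl] at this
    exact this
  · exact (b ⟨0, hpos⟩).2 z (Submodule.mem_span_singleton_self z)

section dim2

variable [FiniteDimensional F V]

/-- in a nondegenerate plane, any vector of norm one can be moved to any other by an isometry of
determinant one -/
theorem exists_SU_map_dim2 [Finite F] (hσ : orderOf σ = 2) (h : IsHerm σ H)
    (hnd : ∀ v, (∀ w, H v w = 0) → v = 0) (hdim : finrank F V = 2) (z z' : V)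
    (hz : H z z = 1) (hz' : H z' z' = 1) :
    ∃ s : V ≃ₗ[F] V, s ∈ isom H ∧ LinearEquiv.det s = 1 ∧ s z = z' := by
  have hσ2 := WittHerm.sigma_sigma hσ
  obtain ⟨y, hy, hzy⟩ := exists_ortho_norm_one hσ h hnd (by omega) z hz
  have hyz : H y z = 0 := by rw [h.symm z y, hzy, map_zero]
  have hon : ∀ i j : Fin 2, H (![z, y] i) (![z, y] j) = if i = j then 1 else 0 := by
    intro i j
    fin_cases i <;> fin_cases j
    · exact hz
    · exact hzy
    · exact hyz
    · exact hy
  let b : Basis (Fin 2) F V := basisOfLinearIndependentOfCardEqFinrank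
    (li_of_orthonormal h ![z, y] hon) (by rw [Fintype.card_fin, hdim])
  have hbe : ∀ i, b i = ![z, y] i := fun i => by
    rw [coe_basisOfLinearIndependentOfCardEqFinrank]
  have hb0 : b 0 = z := hbe 0
  have hb1 : b 1 = y := hbe 1
  have hb : ∀ i j, H (b i) (b j) = if i = j then 1 else 0 := by
    intro i j
    rw [hbe, hbe]
    exact hon i j
  obtain ⟨a, ha⟩ : ∃ a : F, a = b.repr z' 0 := ⟨_, rfl⟩
  obtain ⟨c, hc⟩ : ∃ c : F, c = b.repr z' 1 := ⟨_, rfl⟩
  have hN : a * σ a + c * σ c = 1 := by
    have := form_eq_sum h b hb z' z'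
    rw [Fin.sum_univ_two, hz', ← ha, ← hc] at this
    exact this.symm
  let M : Matrix (Fin 2) (Fin 2) F := !![a, -σ c; c, σ a]
  have hMdet : M.det = 1 := by
    rw [Matrix.det_fin_two_of]
    linear_combination hN
  have hdetL : LinearMap.det (Matrix.toLin b b M) = 1 := by
    rw [LinearMap.det_toLin, hMdet]
  have hunit : IsUnit (LinearMap.det (Matrix.toLin b b M)) := by
    rw [hdetL]; exact isUnit_one
  refine ⟨LinearMap.equivOfIsUnitDet hunit, ?_, ?_, ?_⟩
  · intro u v
    rw [LinearMap.equivOfIsUnitDet_apply, LinearMap.equivOfIsUnitDet_apply,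
      form_eq_sum h b hb, form_eq_sum h b hb u v, Matrix.repr_toLin, Matrix.repr_toLin]
    simp only [Fin.sum_univ_two, Matrix.mulVec, dotProduct, M, Matrix.of_apply,
      Matrix.cons_val_zero, Matrix.cons_val_one, Matrix.cons_val', Matrix.cons_val_fin_one,
      map_add, map_mul, map_neg, hσ2]
    linear_combination (b.repr u 0 * σ (b.repr v 0) + b.repr u 1 * σ (b.repr v 1)) * hN
  · apply Units.ext
    rw [LinearEquiv.coe_det, LinearMap.coe_equivOfIsUnitDet, hdetL, Units.val_one]
  · rw [LinearMap.equivOfIsUnitDet_apply, ← hb0, Matrix.toLin_self, Fin.sum_univ_two]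
    have := b.sum_repr z'
    rw [Fin.sum_univ_two, ← ha, ← hc] at this
    rw [← this]
    simp [M]

end dim2

end UT

end Cfsg.Agent.Lib.Helper2
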