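import Mathlib
import Cfsg.Agent.Lib.Helper2.UT5

set_option autoImplicit false

namespace Cfsg.Agent.Lib.Helper2

namespace UT

open Module IsomDecomp HermDecomp Cfsg.Agent.Lib.Helper5.PSLCoset

variable {F : Type*} [Field F] {σ : F ≃+* F} {V : Type*} [AddCommGroup V] [Module F V]
  {H : V → V → F}

/-- the key linear algebra of a pair of vectors of norm one whose product has norm `≠ 1` -/
theorem pair_zero (h : IsHerm σ H) {z z' : V} (hz : H z z = 1) (hz' : H z' z' = 1)
    (hm : H z z' * σ (H z z') ≠ 1) (a b : F) (h1 : H (a • z + b • z') z = 0)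
    (h2 : H (a • z + b • z') z' = 0) : a = 0 ∧ b = 0 := by
  rw [h.add_left, h.smul_left, h.smul_left, hz, h.symm z z'] at h1
  rw [h.add_left, h.smul_left, h.smul_left, hz'] at h2
  have hb : b * (1 - H z z' * σ (H z z')) = 0 := by linear_combination h2 - H z z' * h1
  have hb0 : b = 0 := by
    rcases mul_eq_zero.1 hb with h0 | h0
    · exact h0
    · exfalso
      apply hm
      linear_combination -h0
  refine ⟨?_, hb0⟩
  rw [hb0] at h1
  linear_combination h1

variable [Finite F] [FiniteDimensional F V]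

/-- two vectors of norm one spanning a nondegenerate plane are conjugate under `T` -/
theorem exists_T_map_of_nondeg (hσ : orderOf σ = 2) (h : IsHerm σ H)
    (hnd : ∀ v, (∀ w, H v w = 0) → v = 0) {z z' : V} (hz : H z z = 1) (hz' : H z' z' = 1)
    (hm : H z z' * σ (H z z') ≠ 1) : ∃ t ∈ T h, t z = z' := by
  have hli : LinearIndependent F ![z, z'] := by
    rw [LinearIndependent.pair_iff]
    intro s t hst
    apply pair_zero h hz hz' hm s t
    · rw [hst, h.zero_left]
    · rw [hst, h.zero_left]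
  obtain ⟨P, hP⟩ : ∃ P : Submodule F V, P = Submodule.span F (Set.range ![z, z']) := ⟨_, rfl⟩
  have hzP : z ∈ P := by
    rw [hP]
    exact Submodule.subset_span ⟨0, rfl⟩
  have hz'P : z' ∈ P := by
    rw [hP]
    exact Submodule.subset_span ⟨1, rfl⟩
  have hfr : finrank F P = 2 := by
    rw [hP, finrank_span_eq_card hli, Fintype.card_fin]
  have hPnd : ∀ u ∈ P, (∀ v ∈ P, H u v = 0) → u = 0 := by
    intro u hu hu'
    rw [hP, Submodule.mem_span_range_iff_exists_fun] at hu
    obtain ⟨c, rfl⟩ := hu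
    rw [Fin.sum_univ_two] at hu' ⊢
    have := pair_zero h hz hz' hm (c 0) (c 1) (hu' z hzP) (hu' z' hz'P)
    rw [this.1, this.2]
    simp
  have hd := orthoDecomp hσ h P hPnd
  have hPnd' : ∀ v : P, (∀ w : P, res H P v w = 0) → v = 0 := by
    intro v hv
    apply Subtype.ext
    apply hPnd v v.2
    intro w hw
    exact hv ⟨w, hw⟩
  obtain ⟨s, hs, hsdet, hsz⟩ := exists_SU_map_dim2 (V := P) (H := res H P) hσ
    (isHerm_restrict h P) hPnd' hfr ⟨z, hzP⟩ ⟨z', hz'P⟩ hz hz'
  have hsT := mem_T_of_finrank_two (V := P) (H := res H P) hσ (isHerm_restrict h P) hPnd' hfr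
    hs hsdet
  refine ⟨ext hd s, ext_mem_T h hd hsT, ?_⟩
  have := ext_apply_mem hd s ⟨z, hzP⟩
  rw [hsz] at this
  exact this

end UT

end Cfsg.Agent.Lib.Helper2
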