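import Mathlib
import Cfsg.Agent.Lib.Helper2.UT6

set_option autoImplicit false

namespace Cfsg.Agent.Lib.Helper2

namespace UT

open Module IsomDecomp HermDecomp Cfsg.Agent.Lib.Helper5.PSLCoset

variable {F : Type*} [Field F] {σ : F ≃+* F} {V : Type*} [AddCommGroup V] [Module F V]
  {H : V → V → F}

variable [Finite F] [FiniteDimensional F V]

theorem sigma_ne_one (hσ : orderOf σ = 2) : σ ≠ 1 := by
  intro h1
  rw [h1, orderOf_one] at hσ
  omega

/-- rescaling an anisotropic vector to norm one -/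
theorem exists_smul_norm_one (hσ : orderOf σ = 2) (h : IsHerm σ H) (w : V) (hw : H w w ≠ 0) :
    ∃ a : F, a ≠ 0 ∧ H (a • w) (a • w) = 1 := by
  have hfix : σ (H w w)⁻¹ = (H w w)⁻¹ := by rw [map_inv₀, WittHerm.self_fixed h]
  obtain ⟨a, ha0, ha⟩ := exists_norm_eq hσ (H w w)⁻¹ (inv_ne_zero hw) hfix
  refine ⟨a, ha0, ?_⟩
  rw [h.smul_left, h.smul_right, ← mul_assoc, ha, inv_mul_cancel₀ hw]

/-- in dimension at least four, two vectors of norm one have a common orthogonal vector of norm
one -/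
theorem exists_common_ortho (hσ : orderOf σ = 2) (h : IsHerm σ H)
    (hnd : ∀ v, (∀ w, H v w = 0) → v = 0) (hdim : 4 ≤ finrank F V) {z z' : V} (hz : H z z = 1) :
    ∃ w : V, H w w = 1 ∧ H z w = 0 ∧ H z' w = 0 := by
  obtain ⟨P, hP⟩ : ∃ P : Submodule F V, P = Submodule.span F (Set.range ![z, z']) := ⟨_, rfl⟩
  have hzP : z ∈ P := by
    rw [hP]
    exact Submodule.subset_span ⟨0, rfl⟩
  have hz'P : z' ∈ P := by
    rw [hP]
    exact Submodule.subset_span ⟨1, rfl⟩
  have hfrP : finrank F P ≤ 2 := by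
    rw [hP]
    have := finrank_range_le_card (R := F) ![z, z']
    rw [Fintype.card_fin] at this
    exact this
  have hfr := HermFrames.finrank_orthoCompl hσ h hnd P
  have hex : ∃ w ∈ orthoCompl h P, H w w ≠ 0 := by
    by_contra hcon
    push Not at hcon
    have hzero : ∀ w ∈ orthoCompl h P, ∀ w' ∈ orthoCompl h P, H w w' = 0 := by
      intro w hw w' hw'
      by_contra hne
      obtain ⟨u, hu⟩ := exists_norm_ne_zero (V := ↥(orthoCompl h P)) (H := res H (orthoCompl h P))
        (sigma_ne_one hσ) (isHerm_restrict h _) (v := ⟨w, hw⟩) (w := ⟨w', hw'⟩) hne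
      exact hu (hcon u u.2)
    have hle : orthoCompl h P ≤ P := by
      have h1 : orthoCompl h P ≤ orthoCompl h (orthoCompl h P) := by
        intro w hw w' hw'
        exact hzero w' hw' w hw
      rwa [HermFrames.orthoCompl_orthoCompl hσ h hnd P] at h1
    have h2 : finrank F ↥(orthoCompl h P) ≤ finrank F P := Submodule.finrank_mono hle
    have h3 : orthoCompl h P = P := Submodule.eq_of_le_of_finrank_eq hle (by omega)
    have h4 : z ∈ orthoCompl h P := by rw [h3]; exact hzP
    have h5 := hcon z h4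
    rw [hz] at h5
    exact one_ne_zero h5
  obtain ⟨w, hw, hww⟩ := hex
  obtain ⟨a, ha0, ha⟩ := exists_smul_norm_one hσ h w hww
  refine ⟨a • w, ha, ?_, ?_⟩
  · rw [h.smul_right, hw z hzP, mul_zero]
  · rw [h.smul_right, hw z' hz'P, mul_zero]

/-- the connecting vector in dimension three -/
theorem exists_connect_three (hσ : orderOf σ = 2) (h : IsHerm σ H)
    (hnd : ∀ v, (∀ w, H v w = 0) → v = 0)
    (hbig : ∃ c : F, σ c = c ∧ c ≠ 0 ∧ c ≠ 1) {z z' : V} (hz : H z z = 1) (hz' : H z' z' = 1)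
    (hm : H z z' * σ (H z z') = 1) (hdep : z' ∉ Submodule.span F {z}) :
    ∃ w : V, H w w = 1 ∧ H z w = 0 ∧ H w z' * σ (H w z') ≠ 1 := by
  have hσ2 := WittHerm.sigma_sigma hσ
  obtain ⟨m, hmdef⟩ : ∃ m : F, m = H z z' := ⟨_, rfl⟩
  rw [← hmdef] at hm
  have hm0 : m ≠ 0 := by
    intro h0
    rw [h0, zero_mul] at hm
    exact zero_ne_one hm
  have hσm0 : σ m ≠ 0 := (map_ne_zero_iff _ σ.injective).2 hm0
  have hz'z : H z' z = σ m := by rw [h.symm z z', hmdef]
  obtain ⟨r, hr⟩ : ∃ r : V, r = z - m • z' := ⟨_, rfl⟩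
  have hrz : H r z = 0 := by
    rw [hr, h.sub_left, h.smul_left, hz, hz'z]
    linear_combination -hm
  have hrz' : H r z' = 0 := by
    rw [hr, h.sub_left, h.smul_left, hz', ← hmdef]
    ring
  have hrr : H r r = 0 := by
    have h1 : H r r = H r (z - m • z') := by rw [← hr]
    rw [h1, h.sub_right, h.smul_right, hrz, hrz']
    ring
  have hr0 : r ≠ 0 := by
    intro h0
    apply hdep
    rw [Submodule.mem_span_singleton]
    refine ⟨m⁻¹, ?_⟩
    have h1 : z = m • z' := by
      rw [h0] at hr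
      exact sub_eq_zero.1 hr.symm
    rw [h1, smul_smul, inv_mul_cancel₀ hm0, one_smul]
  -- a hyperbolic partner of `r` inside the orthogonal complement of `z`
  have hz0 : H z z ≠ 0 := by rw [hz]; exact one_ne_zero
  have hd := orthoDecomp hσ h (Submodule.span F {z}) (span_singleton_nondeg h z hz0)
  have hnd' := nondeg_orthoCompl h _ hd hnd
  have hrW : r ∈ orthoCompl h (Submodule.span F {z}) := by
    intro w hw
    obtain ⟨a, rfl⟩ := Submodule.mem_span_singleton.1 hw
    rw [h.smul_left, h.symm r z, hrz, map_zero, mul_zero]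
  obtain ⟨s, hss, hrs⟩ := HermFrames.exists_hyp_partner
    (V := ↥(orthoCompl h (Submodule.span F {z})))
    (H := res H (orthoCompl h (Submodule.span F {z}))) hσ (isHerm_restrict h _)
    (by
      intro u hu
      apply Subtype.ext
      apply hnd' u u.2
      intro v hv
      exact hu ⟨v, hv⟩) ⟨r, hrW⟩ (by
      intro h0
      exact hr0 (congrArg Subtype.val h0)) hrr
  have hss' : H (s : V) (s : V) = 0 := hss
  have hrs' : H r (s : V) = 1 := hrs
  have hsr : H (s : V) r = 1 := by rw [h.symm r (s : V), hrs', map_one]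
  have hzs : H z (s : V) = 0 := s.2 z (Submodule.mem_span_singleton_self z)
  have hsz : H (s : V) z = 0 := by rw [h.symm z (s : V), hzs, map_zero]
  have hzr : H z r = 0 := by rw [h.symm r z, hrz, map_zero]
  obtain ⟨c, hcfix, hc0, hc1⟩ := hbig
  obtain ⟨l, hl0, hl⟩ := exists_norm_eq hσ c hc0 hcfix
  obtain ⟨a₀, ha₀⟩ := WittHerm.exists_trace hσ (1 : F) (map_one σ)
  obtain ⟨ν, hν⟩ : ∃ ν : F, ν = σ (a₀ / l) := ⟨_, rfl⟩
  have hlν : l * σ ν = a₀ := by
    rw [hν, hσ2, mul_div_cancel₀ _ hl0]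
  have hνl : ν * σ l = σ a₀ := by
    rw [← hlν, map_mul, hσ2]
    ring
  -- `H s z' = -1 / σ m`
  have hsz' : H (s : V) z' * σ m = -1 := by
    have h1 : m • z' = z - r := by rw [hr]; abel
    have h2 : H (s : V) (m • z') = H (s : V) z - H (s : V) r := by rw [h1, h.sub_right]
    rw [h.smul_right, hsz, hsr] at h2
    linear_combination h2
  refine ⟨l • (s : V) + ν • r, ?_, ?_, ?_⟩
  · simp only [h.add_left, h.add_right, h.smul_left, h.smul_right, hss', hrr, hsr, hrs']
    linear_combination hlν + hνl + ha₀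
  · rw [h.add_right, h.smul_right, h.smul_right, hzs, hzr]
    ring
  · rw [h.add_left, h.smul_left, h.smul_left, hrz', mul_zero, add_zero]
    intro hcon
    apply hc1
    have h3 : H (s : V) z' = -(σ m)⁻¹ := by
      field_simp
      linear_combination hsz'
    rw [h3, map_mul, map_neg, map_inv₀, hσ2] at hcon
    have h4 : l * σ l = m * σ m := by
      field_simp at hcon
      linear_combination hcon
    rw [← hl, h4, hm]

/-- `T` is transitive on the vectors of norm one -/
theorem exists_T_map_norm_one (hσ : orderOf σ = 2) (h : IsHerm σ H)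
    (hnd : ∀ v, (∀ w, H v w = 0) → v = 0) (hdim : 3 ≤ finrank F V)
    (hbig : finrank F V = 3 → ∃ c : F, σ c = c ∧ c ≠ 0 ∧ c ≠ 1) {z z' : V} (hz : H z z = 1)
    (hz' : H z' z' = 1) : ∃ t ∈ T h, t z = z' := by
  have hortho : ∀ x y : V, H x x = 1 → H y y = 1 → H x y = 0 → ∃ t ∈ T h, t x = y := by
    intro x y hx hy hxy
    apply exists_T_map_of_nondeg hσ h hnd hx hy
    rw [hxy, zero_mul]
    exact zero_ne_one
  have htrans : ∀ x y w : V, (∃ t ∈ T h, t x = w) → (∃ t ∈ T h, t w = y) → ∃ t ∈ T h, t x = y := by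
    rintro x y w ⟨t₁, ht₁, h1⟩ ⟨t₂, ht₂, h2⟩
    exact ⟨t₂ * t₁, (T h).mul_mem ht₂ ht₁, by rw [LinearEquiv.mul_apply, h1, h2]⟩
  by_cases hm : H z z' * σ (H z z') = 1
  · by_cases hdep : z' ∈ Submodule.span F {z}
    · obtain ⟨l, rfl⟩ := Submodule.mem_span_singleton.1 hdep
      obtain ⟨y, hy, hzy⟩ := exists_ortho_norm_one hσ h hnd (by omega) z hz
      apply htrans z (l • z) y (hortho z y hz hy hzy)
      apply hortho y (l • z) hy hz'
      rw [h.smul_right, h.symm z y, hzy, map_zero, mul_zero]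
    · rcases Nat.lt_or_ge (finrank F V) 4 with h3 | h4
      · obtain ⟨w, hw, hzw, hwz'⟩ := exists_connect_three hσ h hnd (hbig (by omega)) hz hz' hm hdep
        exact htrans z z' w (hortho z w hz hw hzw) (exists_T_map_of_nondeg hσ h hnd hw hz' hwz')
      · obtain ⟨w, hw, hzw, hz'w⟩ := exists_common_ortho hσ h hnd h4 (z' := z') hz
        apply htrans z z' w (hortho z w hz hw hzw)
        apply hortho w z' hw hz'
        rw [h.symm z' w, hz'w, map_zero]
  · exact exists_T_map_of_nondeg hσ h hnd hz hz' hm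

end UT

end Cfsg.Agent.Lib.Helper2
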