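import Mathlib
import Cfsg.Agent.Lib.Helper2.UT7

set_option autoImplicit false

namespace Cfsg.Agent.Lib.Helper2

namespace UT

open Module IsomDecomp HermDecomp Cfsg.Agent.Lib.Helper5.PSLCoset

variable {F : Type*} [Field F] {σ : F ≃+* F} {V : Type*} [AddCommGroup V] [Module F V]
  {H : V → V → F}

variable [Finite F] [FiniteDimensional F V]

/-- the orthogonal decomposition with the complement first -/
theorem orthoDecomp_swap (hσ : orderOf σ = 2) (h : IsHerm σ H)
    (hnd : ∀ v, (∀ w, H v w = 0) → v = 0) (W' : Submodule F V)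
    (hd : OrthoDecomp H W' (orthoCompl h W')) : OrthoDecomp H (orthoCompl h W') W' where
  compl := hd.compl.symm
  add_left := hd.add_left
  add_right := hd.add_right
  ortho := fun w hw w' hw' => hd.ortho' w' hw' w hw
  ortho' := fun w hw w' hw' => hd.ortho w' hw' w hw
  mem' := by
    intro v hv
    have : v ∈ orthoCompl h (orthoCompl h W') := hv
    rwa [HermFrames.orthoCompl_orthoCompl hσ h hnd W'] at this

/-- nondegeneracy of a restricted form, in subtype form -/
theorem nondeg_res {W : Submodule F V}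
    (hW : ∀ u ∈ W, (∀ v ∈ W, H u v = 0) → u = 0) :
    ∀ v : W, (∀ w : W, res H W v w = 0) → v = 0 := by
  intro v hv
  apply Subtype.ext
  apply hW v v.2
  intro w hw
  exact hv ⟨w, hw⟩

/-- an isometry fixing a vector of norm one comes from the orthogonal complement -/
theorem mem_T_of_fix_norm_one (hσ : orderOf σ = 2) (h : IsHerm σ H)
    (hnd : ∀ v, (∀ w, H v w = 0) → v = 0) {z : V} (hz : H z z = 1)
    (IH : ∀ W : Submodule F V, finrank F W + 1 = finrank F V →
      (∀ u ∈ W, (∀ v ∈ W, H u v = 0) → u = 0) →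
      ∀ f : W ≃ₗ[F] W, f ∈ isom (res H W) → LinearEquiv.det f = 1 → f ∈ T (isHerm_restrict h W))
    {g : V ≃ₗ[F] V} (hg : g ∈ isom H) (hdet : LinearEquiv.det g = 1) (hgz : g z = z) :
    g ∈ T h := by
  have hz0 : H z z ≠ 0 := by rw [hz]; exact one_ne_zero
  have hz00 : z ≠ 0 := by
    intro h0
    rw [h0, h.zero_left] at hz
    exact zero_ne_one hz
  have hd := orthoDecomp hσ h (Submodule.span F {z}) (span_singleton_nondeg h z hz0)
  have hnd' := nondeg_orthoCompl h _ hd hnd
  have hd' := orthoDecomp_swap hσ h hnd _ hd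
  have hfr := HermFrames.finrank_orthoCompl hσ h hnd (Submodule.span F {z})
  rw [finrank_span_singleton hz00] at hfr
  obtain ⟨f, hf, hfg⟩ := exists_eq_ext hd' hg
    (by
      intro y hy
      obtain ⟨a, rfl⟩ := Submodule.mem_span_singleton.1 hy
      rw [map_smul, hgz])
    (by
      intro v hv w hw
      rw [h.symm v w, hv w hw, map_zero])
  have hfdet : LinearEquiv.det f = 1 := by
    rw [← det_ext hd' f, hfg, hdet]
  have hfT := IH _ (by omega) hnd' f hf hfdet
  rw [← hfg]
  exact ext_mem_T h hd' hfT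

/-- the reduction step from dimension `n` to dimension `n - 1` -/
theorem mem_T_of_reduce (hσ : orderOf σ = 2) (h : IsHerm σ H)
    (hnd : ∀ v, (∀ w, H v w = 0) → v = 0) (hdim : 3 ≤ finrank F V)
    (hbig : finrank F V = 3 → ∃ c : F, σ c = c ∧ c ≠ 0 ∧ c ≠ 1)
    (IH : ∀ W : Submodule F V, finrank F W + 1 = finrank F V →
      (∀ u ∈ W, (∀ v ∈ W, H u v = 0) → u = 0) →
      ∀ f : W ≃ₗ[F] W, f ∈ isom (res H W) → LinearEquiv.det f = 1 → f ∈ T (isHerm_restrict h W))
    {g : V ≃ₗ[F] V} (hg : g ∈ isom H) (hdet : LinearEquiv.det g = 1) : g ∈ T h := by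
  obtain ⟨b, hb⟩ := exists_onb hσ h hnd (k := finrank F V) rfl
  have hpos : 0 < finrank F V := by omega
  obtain ⟨z, hzdef⟩ : ∃ z : V, z = b ⟨0, hpos⟩ := ⟨_, rfl⟩
  have hz : H z z = 1 := by
    rw [hzdef, hb, if_pos rfl]
  have hgz : H (g z) (g z) = 1 := by rw [hg, hz]
  obtain ⟨t, ht, htz⟩ := exists_T_map_norm_one hσ h hnd hdim hbig hgz hz
  have h1 : t * g ∈ T h := by
    apply mem_T_of_fix_norm_one hσ h hnd hz IH ((isom H).mul_mem (T_le_isom h ht) hg)
      (by rw [map_mul, hdet, det_of_mem_T h ht, one_mul])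
    rw [LinearEquiv.mul_apply, htz]
  have h2 : g = t⁻¹ * (t * g) := by group
  rw [h2]
  exact (T h).mul_mem ((T h).inv_mem ht) h1

end UT

end Cfsg.Agent.Lib.Helper2
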