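import Mathlib
import Cfsg.Agent.Lib.Helper2.UT8

set_option autoImplicit false

namespace Cfsg.Agent.Lib.Helper2

namespace UT

open Module IsomDecomp HermDecomp Cfsg.Agent.Lib.Helper5.PSLCoset

variable {F : Type*} [Field F] {σ : F ≃+* F} {V : Type*} [AddCommGroup V] [Module F V]
  {H : V → V → F}

/-- the linear algebra of two isotropic vectors with nonzero product -/
theorem iso_pair_zero (h : IsHerm σ H) {a b : V} (ha : H a a = 0) (hb : H b b = 0)
    (hab : H a b ≠ 0) (s t : F) (h1 : H (s • a + t • b) a = 0) (h2 : H (s • a + t • b) b = 0) :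
    s = 0 ∧ t = 0 := by
  rw [h.add_left, h.smul_left, h.smul_left, ha, h.symm a b] at h1
  rw [h.add_left, h.smul_left, h.smul_left, hb] at h2
  have hσ : σ (H a b) ≠ 0 := (map_ne_zero_iff _ σ.injective).2 hab
  constructor
  · have : s * H a b = 0 := by linear_combination h2
    rcases mul_eq_zero.1 this with h0 | h0
    · exact h0
    · exact absurd h0 hab
  · have : t * σ (H a b) = 0 := by linear_combination h1
    rcases mul_eq_zero.1 this with h0 | h0
    · exact h0
    · exact absurd h0 hσ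

variable [Finite F] [FiniteDimensional F V]

/-- an anisotropic vector orthogonal to two isotropic vectors with nonzero product -/
theorem exists_aniso_ortho_pair (hσ : orderOf σ = 2) (h : IsHerm σ H)
    (hnd : ∀ v, (∀ w, H v w = 0) → v = 0) (hdim : 3 ≤ finrank F V) {a b : V} (ha : H a a = 0)
    (hb : H b b = 0) (hab : H a b ≠ 0) : ∃ w : V, H w w ≠ 0 ∧ H w a = 0 ∧ H w b = 0 := by
  have hli : LinearIndependent F ![a, b] := by
    rw [LinearIndependent.pair_iff]
    intro s t hst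
    apply iso_pair_zero h ha hb hab s t
    · rw [hst, h.zero_left]
    · rw [hst, h.zero_left]
  obtain ⟨P, hP⟩ : ∃ P : Submodule F V, P = Submodule.span F (Set.range ![a, b]) := ⟨_, rfl⟩
  have haP : a ∈ P := by
    rw [hP]
    exact Submodule.subset_span ⟨0, rfl⟩
  have hbP : b ∈ P := by
    rw [hP]
    exact Submodule.subset_span ⟨1, rfl⟩
  have hfr : finrank F P = 2 := by
    rw [hP, finrank_span_eq_card hli, Fintype.card_fin]
  have hPnd : ∀ u ∈ P, (∀ v ∈ P, H u v = 0) → u = 0 := by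
    intro u hu hu'
    rw [hP, Submodule.mem_span_range_iff_exists_fun] at hu
    obtain ⟨c, rfl⟩ := hu
    rw [Fin.sum_univ_two] at hu' ⊢
    have := iso_pair_zero h ha hb hab (c 0) (c 1) (hu' a haP) (hu' b hbP)
    rw [this.1, this.2]
    simp
  have hd := orthoDecomp hσ h P hPnd
  have hnd' := nondeg_orthoCompl h _ hd hnd
  have hfr' := HermFrames.finrank_orthoCompl hσ h hnd P
  have hpos : 0 < finrank F ↥(orthoCompl h P) := by omega
  obtain ⟨v₀, hv₀⟩ := Module.finrank_pos_iff_exists_ne_zero.1 hpos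
  obtain ⟨w₀, hw₀⟩ : ∃ w₀ : ↥(orthoCompl h P), H (v₀ : V) (w₀ : V) ≠ 0 := by
    by_contra hcon
    push Not at hcon
    apply hv₀
    apply Subtype.ext
    apply hnd' v₀ v₀.2
    intro v hv
    exact hcon ⟨v, hv⟩
  obtain ⟨u, hu⟩ := exists_norm_ne_zero (V := ↥(orthoCompl h P)) (H := res H (orthoCompl h P))
    (sigma_ne_one hσ) (isHerm_restrict h _) (v := v₀) (w := w₀) hw₀
  refine ⟨(u : V), hu, ?_, ?_⟩
  · rw [h.symm a (u : V), u.2 a haP, map_zero]
  · rw [h.symm b (u : V), u.2 b hbP, map_zero]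

/-- isotropic vectors with nonzero product are conjugate under `T` -/
theorem exists_T_map_iso_of_ne (hσ : orderOf σ = 2) (h : IsHerm σ H)
    (hnd : ∀ v, (∀ w, H v w = 0) → v = 0) (hdim : 3 ≤ finrank F V) {a b : V} (ha : H a a = 0)
    (hb : H b b = 0) (hab : H a b ≠ 0) : ∃ t ∈ T h, t a = b := by
  have hσ2 := WittHerm.sigma_sigma hσ
  obtain ⟨μ, hμ0, hμ⟩ := exists_skew hσ
  obtain ⟨β, hβ⟩ : ∃ β : F, β = H a b := ⟨_, rfl⟩
  rw [← hβ] at hab
  have hba : H b a = σ β := by rw [h.symm a b, hβ]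
  obtain ⟨x, hx⟩ : ∃ x : F, x = μ / β := ⟨_, rfl⟩
  obtain ⟨y, hy⟩ : ∃ y : F, y = σ (μ / β) := ⟨_, rfl⟩
  have hσy : σ y = μ / β := by rw [hy, hσ2]
  -- the norm that the correction vector must have
  obtain ⟨τ, hτ⟩ : ∃ τ : F, τ = -(μ * μ / β + σ (μ * μ / β)) := ⟨_, rfl⟩
  have hτfix : σ τ = τ := by
    rw [hτ, map_neg, map_add, hσ2]
    ring
  obtain ⟨w, hww, hwa, hwb⟩ : ∃ w : V, H w w = τ ∧ H w a = 0 ∧ H w b = 0 := by
    by_cases hτ0 : τ = 0
    · exact ⟨0, by rw [h.zero_left, hτ0], h.zero_left _, h.zero_left _⟩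
    · obtain ⟨w₀, hw₀, hw₀a, hw₀b⟩ := exists_aniso_ortho_pair hσ h hnd hdim ha hb
        (by rw [← hβ]; exact hab)
      have hfix : σ (τ / H w₀ w₀) = τ / H w₀ w₀ := by
        rw [map_div₀, hτfix, WittHerm.self_fixed h]
      obtain ⟨ρ, hρ0, hρ⟩ := exists_norm_eq hσ (τ / H w₀ w₀) (div_ne_zero hτ0 hw₀) hfix
      refine ⟨ρ • w₀, ?_, ?_, ?_⟩
      · rw [h.smul_left, h.smul_right, ← mul_assoc, hρ, div_mul_cancel₀ _ hw₀]
      · rw [h.smul_left, hw₀a, mul_zero]
      · rw [h.smul_left, hw₀b, mul_zero]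
  have haw : H a w = 0 := by rw [h.symm w a, hwa, map_zero]
  have hbw : H b w = 0 := by rw [h.symm w b, hwb, map_zero]
  obtain ⟨c, hc⟩ : ∃ c : V, c = x • a + y • b + w := ⟨_, rfl⟩
  have hcc : H c c = 0 := by
    rw [hc]
    simp only [h.add_left, h.add_right, h.smul_left, h.smul_right, ha, hb, hba, ← hβ, hwa, hwb,
      haw, hbw, hww, hσy]
    rw [hx, hy, hτ, map_div₀, hμ]
    have hσβ : σ β ≠ 0 := (map_ne_zero_iff _ σ.injective).2 hab
    simp only [map_div₀, map_mul, hμ, hσ2]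
    field_simp
    ring
  have hac : H a c = μ := by
    rw [hc, h.add_right, h.add_right, h.smul_right, h.smul_right, ha, ← hβ, haw, hσy]
    field_simp
    ring
  have hcb : H c b = μ := by
    rw [hc, h.add_left, h.add_left, h.smul_left, h.smul_left, hb, ← hβ, hwb, hx]
    field_simp
    ring
  obtain ⟨t₁, ht₁, h1⟩ := exists_T_map_of_skew h a c ha hcc (by rw [hac]; exact hμ0)
    (by rw [hac, hμ])
  obtain ⟨t₂, ht₂, h2⟩ := exists_T_map_of_skew h c b hcc hb (by rw [hcb]; exact hμ0)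
    (by rw [hcb, hμ])
  exact ⟨t₂ * t₁, (T h).mul_mem ht₂ ht₁, by rw [LinearEquiv.mul_apply, h1, h2]⟩

/-- `T` is transitive on the nonzero isotropic vectors in dimension at least three -/
theorem exists_T_map_iso (hσ : orderOf σ = 2) (h : IsHerm σ H)
    (hnd : ∀ v, (∀ w, H v w = 0) → v = 0) (hdim : 3 ≤ finrank F V) {a b : V} (ha : H a a = 0)
    (hb : H b b = 0) (ha0 : a ≠ 0) (hb0 : b ≠ 0) : ∃ t ∈ T h, t a = b := by
  by_cases hab : H a b = 0
  · -- a vector not orthogonal to either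
    obtain ⟨xa, hxa⟩ : ∃ xa, H a xa ≠ 0 := by
      by_contra hcon
      push Not at hcon
      exact ha0 (hnd a hcon)
    obtain ⟨xb, hxb⟩ : ∃ xb, H b xb ≠ 0 := by
      by_contra hcon
      push Not at hcon
      exact hb0 (hnd b hcon)
    obtain ⟨x, hax, hbx⟩ : ∃ x, H a x ≠ 0 ∧ H b x ≠ 0 := by
      by_cases h1 : H b xa = 0
      · by_cases h2 : H a xb = 0
        · refine ⟨xa + xb, ?_, ?_⟩
          · rw [h.add_right, h2, add_zero]; exact hxa
          · rw [h.add_right, h1, zero_add]; exact hxb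
        · exact ⟨xb, h2, hxb⟩
      · exact ⟨xa, hxa, h1⟩
    obtain ⟨e, he⟩ := WittHerm.exists_trace hσ (-(H x x))
      (by rw [map_neg, WittHerm.self_fixed h])
    obtain ⟨c, hc⟩ : ∃ c : V, c = x + (e / H a x) • a := ⟨_, rfl⟩
    have hxa' : H x a = σ (H a x) := h.symm a x
    have hσax : σ (H a x) ≠ 0 := (map_ne_zero_iff _ σ.injective).2 hax
    have hcc : H c c = 0 := by
      rw [hc]
      simp only [h.add_left, h.add_right, h.smul_left, h.smul_right, ha, hxa', map_div₀]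
      field_simp
      linear_combination (σ (H a x) * H a x) * he
    have hac : H a c ≠ 0 := by
      rw [hc, h.add_right, h.smul_right, ha, mul_zero, add_zero]
      exact hax
    have hcb : H c b ≠ 0 := by
      rw [hc, h.add_left, h.smul_left, hab, mul_zero, add_zero, h.symm b x]
      exact (map_ne_zero_iff _ σ.injective).2 hbx
    obtain ⟨t₁, ht₁, h1⟩ := exists_T_map_iso_of_ne hσ h hnd hdim ha hcc hac
    obtain ⟨t₂, ht₂, h2⟩ := exists_T_map_iso_of_ne hσ h hnd hdim hcc hb hcb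
    exact ⟨t₂ * t₁, (T h).mul_mem ht₂ ht₁, by rw [LinearEquiv.mul_apply, h1, h2]⟩
  · exact exists_T_map_iso_of_ne hσ h hnd hdim ha hb hab

end UT

end Cfsg.Agent.Lib.Helper2
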