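import Mathlib
import Cfsg.Agent.Lib.Helper2.UT9

set_option autoImplicit false

namespace Cfsg.Agent.Lib.Helper2

namespace UT

open Module IsomDecomp HermDecomp Cfsg.Agent.Lib.Helper5.PSLCoset

variable {F : Type*} [Field F] {σ : F ≃+* F} {V : Type*} [AddCommGroup V] [Module F V]
  {H : V → V → F}

/-- the Siegel element attached to two orthogonal isotropic vectors is a product of three unitary
transvections -/
theorem exists_siegel (hσ : orderOf σ = 2) (h : IsHerm σ H) {u w : V} (hu : H u u = 0)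
    (hw : H w w = 0) (huw : H u w = 0) (c γ : F) (hc : σ c = -c) :
    ∃ S ∈ T h, ∀ x, S x = x + (c * γ * H x u) • w + (c * σ γ * H x w) • u := by
  have hσ2 := WittHerm.sigma_sigma hσ
  have hwu : H w u = 0 := by rw [h.symm u w, huw, map_zero]
  have hy : H (u + γ • w) (u + γ • w) = 0 := by
    simp only [h.add_left, h.add_right, h.smul_left, h.smul_right, hu, hw, huw, hwu]
    ring
  refine ⟨tv h (u + γ • w) c hy * tv h u (-c) hu * tv h w (-(c * γ * σ γ)) hw, ?_, ?_⟩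
  · apply (T h).mul_mem ((T h).mul_mem (tv_mem_T h _ c hy hc) (tv_mem_T h u (-c) hu ?_))
      (tv_mem_T h w _ hw ?_)
    · rw [map_neg, hc]
    · rw [map_neg, map_mul, map_mul, hc, hσ2]
      ring
  · intro x
    rw [LinearEquiv.mul_apply, LinearEquiv.mul_apply, tv_apply, tv_apply, tv_apply]
    simp only [h.add_left, h.add_right, h.smul_left, h.smul_right, hu, hw, huw, hwu]
    module

/-- moving the second vector of a hyperbolic pair inside the stabiliser of the first -/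
theorem exists_T_fix_move (hσ : orderOf σ = 2) (h : IsHerm σ H) {u v w₁ w₂ : V}
    (hp : HypPair H u v) (hq : HypPair H w₁ w₂) (huw₁ : H u w₁ = 0) (huw₂ : H u w₂ = 0)
    (hvw₁ : H v w₁ = 0) (hvw₂ : H v w₂ = 0) (ξ₁ ξ₂ : F) :
    ∃ S ∈ T h, S u = u ∧ ∃ e : F, S v = v + ξ₁ • w₁ + ξ₂ • w₂ + e • u := by
  obtain ⟨μ, hμ0, hμ⟩ := exists_skew hσ
  obtain ⟨S₁, hS₁, h1⟩ := exists_siegel hσ h hp.uu hq.uu huw₁ μ (ξ₁ / μ) hμ
  obtain ⟨S₂, hS₂, h2⟩ := exists_siegel hσ h hp.uu hq.vv huw₂ μ (ξ₂ / μ) hμ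
  have hw₁u : H w₁ u = 0 := by rw [h.symm u w₁, huw₁, map_zero]
  have e1 : μ * (ξ₁ / μ) = ξ₁ := mul_div_cancel₀ _ hμ0
  have e2 : μ * (ξ₂ / μ) = ξ₂ := mul_div_cancel₀ _ hμ0
  have hS₁u : S₁ u = u := by
    rw [h1, hp.uu, huw₁]
    simp
  have hS₂u : S₂ u = u := by
    rw [h2, hp.uu, huw₂]
    simp
  have hS₁v : S₁ v = v + ξ₁ • w₁ := by
    rw [h1, hp.vu h, hvw₁, e1]
    simp
  have hS₂v : S₂ v = v + ξ₂ • w₂ := by
    rw [h2, hp.vu h, hvw₂, e2]
    simp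
  have hS₂w : S₂ w₁ = w₁ + (μ * σ (ξ₂ / μ)) • u := by
    rw [h2, hw₁u, hq.uv]
    simp
  refine ⟨S₂ * S₁, (T h).mul_mem hS₂ hS₁, ?_, ?_⟩
  · rw [LinearEquiv.mul_apply, hS₁u, hS₂u]
  · refine ⟨ξ₁ * (μ * σ (ξ₂ / μ)), ?_⟩
    rw [LinearEquiv.mul_apply, hS₁v, map_add, map_smul, hS₂v, hS₂w]
    module

end UT

end Cfsg.Agent.Lib.Helper2
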