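import Mathlib
import Cfsg.Agent.Lib.Helper2.UT10

set_option autoImplicit false

namespace Cfsg.Agent.Lib.Helper2

namespace UT

open Module IsomDecomp HermDecomp Cfsg.Agent.Lib.Helper5.PSLCoset

variable {F : Type*} [Field F] {σ : F ≃+* F} {V : Type*} [AddCommGroup V] [Module F V]
  {H : V → V → F}

variable [Finite F] [FiniteDimensional F V]

/-- `SU = T` in dimension four -/
theorem mem_T_dim4 (hσ : orderOf σ = 2) (h : IsHerm σ H)
    (hnd : ∀ v, (∀ w, H v w = 0) → v = 0) (hdim : finrank F V = 4)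
    {g : V ≃ₗ[F] V} (hg : g ∈ isom H) (hdet : LinearEquiv.det g = 1) : g ∈ T h := by
  have hσ2 := WittHerm.sigma_sigma hσ
  obtain ⟨u, v, hp⟩ := exists_hypPair hσ h hnd (by omega)
  have hu0 : u ≠ 0 := by
    intro h0
    have := hp.uv
    rw [h0, h.zero_left] at this
    exact zero_ne_one this
  have hgu0 : g u ≠ 0 := fun h0 => hu0 (g.map_eq_zero_iff.1 h0)
  have hguu : H (g u) (g u) = 0 := by rw [hg, hp.uu]
  -- first step: fix `u`
  obtain ⟨t₁, ht₁, ht₁u⟩ := exists_T_map_iso hσ h hnd (by omega) hguu hp.uu hgu0 hu0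
  obtain ⟨g₁, hg₁def⟩ : ∃ g₁ : V ≃ₗ[F] V, g₁ = t₁ * g := ⟨_, rfl⟩
  have hg₁ : g₁ ∈ isom H := by
    rw [hg₁def]; exact (isom H).mul_mem (T_le_isom h ht₁) hg
  have hg₁det : LinearEquiv.det g₁ = 1 := by
    rw [hg₁def, map_mul, hdet, det_of_mem_T h ht₁, one_mul]
  have hg₁u : g₁ u = u := by rw [hg₁def, LinearEquiv.mul_apply, ht₁u]
  -- the plane `P` and its complement
  have huv0 : H u v ≠ 0 := by rw [hp.uv]; exact one_ne_zero
  have hli : LinearIndependent F ![u, v] := hp.linearIndependent h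
  obtain ⟨P, hP⟩ : ∃ P : Submodule F V, P = Submodule.span F (Set.range ![u, v]) := ⟨_, rfl⟩
  have huP : u ∈ P := by
    rw [hP]
    exact Submodule.subset_span ⟨0, rfl⟩
  have hvP : v ∈ P := by
    rw [hP]
    exact Submodule.subset_span ⟨1, rfl⟩
  have hfr : finrank F P = 2 := by
    rw [hP, finrank_span_eq_card hli, Fintype.card_fin]
  have hPnd : ∀ x ∈ P, (∀ y ∈ P, H x y = 0) → x = 0 := by
    intro x hx hx'
    rw [hP, Submodule.mem_span_range_iff_exists_fun] at hx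
    obtain ⟨c, rfl⟩ := hx
    rw [Fin.sum_univ_two] at hx' ⊢
    have := iso_pair_zero h hp.uu hp.vv huv0 (c 0) (c 1) (hx' u huP) (hx' v hvP)
    rw [this.1, this.2]
    simp
  have hd := orthoDecomp hσ h P hPnd
  have hnd' := nondeg_orthoCompl h _ hd hnd
  have hd' := orthoDecomp_swap hσ h hnd _ hd
  have hfr' := HermFrames.finrank_orthoCompl hσ h hnd P
  have hfrP' : finrank F ↥(orthoCompl h P) = 2 := by omega
  obtain ⟨w₁', w₂', hq'⟩ := exists_hypPair (V := ↥(orthoCompl h P)) (H := res H (orthoCompl h P))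
    hσ (isHerm_restrict h _) (nondeg_res hnd') (by omega)
  obtain ⟨w₁, hw₁⟩ : ∃ w₁ : V, w₁ = (w₁' : V) := ⟨_, rfl⟩
  obtain ⟨w₂, hw₂⟩ : ∃ w₂ : V, w₂ = (w₂' : V) := ⟨_, rfl⟩
  have hq : HypPair H w₁ w₂ := by
    rw [hw₁, hw₂]
    exact ⟨hq'.uu, hq'.vv, hq'.uv⟩
  have huw₁ : H u w₁ = 0 := by rw [hw₁]; exact w₁'.2 u huP
  have huw₂ : H u w₂ = 0 := by rw [hw₂]; exact w₂'.2 u huP
  have hvw₁ : H v w₁ = 0 := by rw [hw₁]; exact w₁'.2 v hvP
  have hvw₂ : H v w₂ = 0 := by rw [hw₂]; exact w₂'.2 v hvP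
  -- the image of `v`
  obtain ⟨v', hv'⟩ : ∃ v' : V, v' = g₁ v := ⟨_, rfl⟩
  have huv' : H u v' = 1 := by
    rw [hv', ← hg₁u, hg₁, hp.uv]
  have hv'v' : H v' v' = 0 := by rw [hv', hg₁, hp.vv]
  obtain ⟨p, p', hpp'⟩ := exists_decomp hd v'
  obtain ⟨c, hc⟩ : ∃ c : Fin 2 → F, ∑ i, c i • ![u, v] i = (p : V) := by
    have h1 : (p : V) ∈ Submodule.span F (Set.range ![u, v]) := (le_of_eq hP) p.2
    rw [Submodule.mem_span_range_iff_exists_fun] at h1
    exact h1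
  rw [Fin.sum_univ_two] at hc
  have hc' : (p : V) = c 0 • u + c 1 • v := hc.symm
  have hp'2 := decomp2 (V := ↥(orthoCompl h P)) (H := res H (orthoCompl h P))
    (isHerm_restrict h _) (nondeg_res hnd') hfrP' hq' p'
  obtain ⟨ξ₁, hξ₁⟩ : ∃ ξ₁ : F, ξ₁ = H (p' : V) w₂ := ⟨_, rfl⟩
  obtain ⟨ξ₂, hξ₂⟩ : ∃ ξ₂ : F, ξ₂ = H (p' : V) w₁ := ⟨_, rfl⟩
  have hp'3 : (p' : V) = ξ₁ • w₁ + ξ₂ • w₂ := by
    have := congrArg Subtype.val hp'2
    rw [hξ₁, hξ₂, hw₁, hw₂]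
    exact this
  have hp'u : H u (p' : V) = 0 := p'.2 u huP
  have hc1 : c 1 = 1 := by
    have h1 : H u v' = σ (c 1) := by
      rw [hpp', hc', h.add_right, h.add_right, h.smul_right, h.smul_right, hp.uu, hp.uv, hp'u]
      ring
    rw [huv'] at h1
    have h2 : σ (c 1) = σ 1 := by rw [← h1, map_one]
    exact σ.injective h2
  -- the element of `T` moving `v` correctly up to a multiple of `u`
  obtain ⟨S, hS, hSu, e, hSv⟩ := exists_T_fix_move hσ h hp hq huw₁ huw₂ hvw₁ hvw₂ ξ₁ ξ₂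
  have hSisom := T_le_isom h hS
  obtain ⟨δ, hδ⟩ : ∃ δ : F, δ = c 0 - e := ⟨_, rfl⟩
  have hv'S : v' = S v + δ • u := by
    rw [hpp', hc', hc1, hp'3, hSv, hδ]
    module
  have hSvSv : H (S v) (S v) = 0 := by rw [hSisom, hp.vv]
  have huSv : H u (S v) = 1 := by
    have := hSisom u v
    rw [hSu] at this
    rw [this, hp.uv]
  have hSvu : H (S v) u = 1 := by rw [h.symm u (S v), huSv, map_one]
  have hδskew : σ δ = -δ := by
    have h1 := hv'v'
    rw [hv'S] at h1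
    simp only [h.add_left, h.add_right, h.smul_left, h.smul_right, hSvSv, huSv, hSvu, hp.uu] at h1
    linear_combination h1
  obtain ⟨t₂, ht₂def⟩ : ∃ t₂ : V ≃ₗ[F] V, t₂ = tv h u δ hp.uu * S := ⟨_, rfl⟩
  have ht₂ : t₂ ∈ T h := by
    rw [ht₂def]
    exact (T h).mul_mem (tv_mem_T h u δ hp.uu hδskew) hS
  have ht₂u : t₂ u = u := by
    rw [ht₂def, LinearEquiv.mul_apply, hSu, tv_apply, hp.uu]
    simp
  have ht₂v : t₂ v = v' := by
    rw [ht₂def, LinearEquiv.mul_apply, tv_apply, hSvu, hv'S]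
    simp
  -- the remaining element fixes the plane pointwise
  obtain ⟨g₂, hg₂def⟩ : ∃ g₂ : V ≃ₗ[F] V, g₂ = t₂⁻¹ * g₁ := ⟨_, rfl⟩
  have hg₂ : g₂ ∈ isom H := by
    rw [hg₂def]
    exact (isom H).mul_mem ((isom H).inv_mem (T_le_isom h ht₂)) hg₁
  have hg₂det : LinearEquiv.det g₂ = 1 := by
    rw [hg₂def, map_mul, map_inv, hg₁det, det_of_mem_T h ht₂, inv_one, one_mul]
  have hinv : ∀ x y : V, t₂ x = y → t₂⁻¹ y = x := by
    intro x y hxy
    rw [← hxy, ← LinearEquiv.mul_apply, inv_mul_cancel]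
    rfl
  have hg₂u : g₂ u = u := by
    rw [hg₂def, LinearEquiv.mul_apply, hg₁u]
    exact hinv u u ht₂u
  have hg₂v : g₂ v = v := by
    rw [hg₂def, LinearEquiv.mul_apply, ← hv']
    exact hinv v v' ht₂v
  obtain ⟨f, hf, hfg⟩ := exists_eq_ext hd' hg₂
    (by
      intro y hy
      rw [hP, Submodule.mem_span_range_iff_exists_fun] at hy
      obtain ⟨c, rfl⟩ := hy
      rw [Fin.sum_univ_two, map_add, map_smul, map_smul]
      show c 0 • g₂ u + c 1 • g₂ v = c 0 • u + c 1 • v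
      rw [hg₂u, hg₂v])
    (by
      intro x hx w hw
      rw [h.symm x w, hx w hw, map_zero])
  have hfdet : LinearEquiv.det f = 1 := by
    rw [← det_ext hd' f, hfg, hg₂det]
  have hfT := mem_T_of_finrank_two (V := ↥(orthoCompl h P)) (H := res H (orthoCompl h P)) hσ
    (isHerm_restrict h _) (nondeg_res hnd') hfrP' hf hfdet
  have hg₂T : g₂ ∈ T h := by
    rw [← hfg]
    exact ext_mem_T h hd' hfT
  have hfinal : g = t₁⁻¹ * (t₂ * g₂) := by
    rw [hg₂def, hg₁def]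
    group
  rw [hfinal]
  exact (T h).mul_mem ((T h).inv_mem ht₁) ((T h).mul_mem ht₂ hg₂T)

end UT

end Cfsg.Agent.Lib.Helper2
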