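import Mathlib
import Cfsg.Agent.Lib.Helper2.UT11

set_option autoImplicit false

namespace Cfsg.Agent.Lib.Helper2

namespace UT

open Module IsomDecomp HermDecomp Cfsg.Agent.Lib.Helper5.PSLCoset

universe u v

variable {F : Type v} [Field F] [Finite F] {σ : F ≃+* F}

/-- every isometry of determinant one of a nondegenerate Hermitian space of dimension at least
two over a finite field is a product of unitary transvections, except in dimension three over the
field with four elements -/
theorem mem_T_main (hσ : orderOf σ = 2) :
    ∀ n : ℕ, 2 ≤ n → ∀ (V : Type u) [AddCommGroup V] [Module F V] [FiniteDimensional F V]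
      (H : V → V → F) (h : IsHerm σ H), (∀ v, (∀ w, H v w = 0) → v = 0) → finrank F V = n →
      (n = 3 → ∃ c : F, σ c = c ∧ c ≠ 0 ∧ c ≠ 1) →
      ∀ g : V ≃ₗ[F] V, g ∈ isom H → LinearEquiv.det g = 1 → g ∈ T h := by
  intro n
  induction n using Nat.strong_induction_on with
  | _ n ih =>
    intro hn V _ _ _ H h hnd hdim hbig g hg hdet
    by_cases h2 : n = 2
    · exact mem_T_of_finrank_two hσ h hnd (by rw [hdim, h2]) hg hdet
    by_cases h4 : n = 4
    · exact mem_T_dim4 hσ h hnd (by rw [hdim, h4]) hg hdet
    · apply mem_T_of_reduce hσ h hnd (by omega) (by intro h3; exact hbig (by omega)) _ hg hdet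
      intro W hW hWnd f hf hfdet
      exact ih (n - 1) (by omega) (by omega) W (res H W) (isHerm_restrict h W) (nondeg_res hWnd)
        (by omega) (by intro h3; omega) f hf hfdet

end UT

end Cfsg.Agent.Lib.Helper2
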