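import Mathlib
import Cfsg.Agent.Lib.Helper2.HermFrames3

set_option autoImplicit false

namespace Cfsg.Agent.Lib.Helper2

namespace UnitaryComm

open Module IsomDecomp IsoFrames HermDecomp HermFrames Cfsg.Agent.Lib.Helper5.PSLCoset Matrix
open scoped commutatorElement

variable {F : Type*} [Field F] {n : ℕ} {q : ℕ}

/-- the quasi-reflection `x ↦ x + κ h(x, z) z` -/
def qrefl (q : ℕ) (z : Fin n → F) (κ : F) : Matrix (Fin n) (Fin n) F :=
  1 + κ • Matrix.vecMulVec z (fun j => z j ^ q)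

theorem qrefl_mulVec (z : Fin n → F) (κ : F) (x : Fin n → F) :
    qrefl q z κ *ᵥ x = x + (κ * Cfsg.hermForm n F q x z) • z := rank_one_mulVec z z κ x

theorem det_qrefl (z : Fin n → F) (κ : F) :
    (qrefl q z κ).det = 1 + κ * Cfsg.hermForm n F q z z := det_rank_one z z κ

theorem qrefl_preserves {σ : F ≃+* F} (h : IsHerm σ (Cfsg.hermForm n F q)) (z : Fin n → F)
    (κ : F) (hκ : σ κ + κ + κ * σ κ * Cfsg.hermForm n F q z z = 0) (x y : Fin n → F) :
    Cfsg.hermForm n F q (qrefl q z κ *ᵥ x) (qrefl q z κ *ᵥ y) = Cfsg.hermForm n F q x y := by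
  rw [qrefl_mulVec, qrefl_mulVec]
  simp only [h.add_left, h.add_right, h.smul_left, h.smul_right, map_mul]
  rw [h.symm y z]
  linear_combination (Cfsg.hermForm n F q x z * σ (Cfsg.hermForm n F q y z)) * hκ

/-- the Siegel transformation `x ↦ x + s h(x, a) b - σ(s) h(x, b) a` -/
def siegel (q : ℕ) (a b : Fin n → F) (s s' : F) : Matrix (Fin n) (Fin n) F :=
  (1 + s • Matrix.vecMulVec b (fun j => a j ^ q)) *
    (1 + (-s') • Matrix.vecMulVec a (fun j => b j ^ q))

theorem siegel_mulVec {σ : F ≃+* F} (h : IsHerm σ (Cfsg.hermForm n F q)) (a b : Fin n → F)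
    (haa : Cfsg.hermForm n F q a a = 0) (s s' : F) (x : Fin n → F) :
    siegel q a b s s' *ᵥ x = x + (s * Cfsg.hermForm n F q x a) • b -
      (s' * Cfsg.hermForm n F q x b) • a := by
  unfold siegel
  rw [← Matrix.mulVec_mulVec, rank_one_mulVec, rank_one_mulVec, h.add_left, h.smul_left, haa,
    mul_zero, add_zero, neg_mul, neg_smul]
  abel

theorem det_siegel (a b : Fin n → F) (hab : Cfsg.hermForm n F q a b = 0)
    (hba : Cfsg.hermForm n F q b a = 0) (s s' : F) : (siegel q a b s s').det = 1 := by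
  unfold siegel
  rw [Matrix.det_mul, det_rank_one, det_rank_one, hab, hba]
  ring

theorem siegel_preserves {σ : F ≃+* F} (hσ2 : ∀ a : F, σ (σ a) = a)
    (h : IsHerm σ (Cfsg.hermForm n F q)) (a b : Fin n → F)
    (haa : Cfsg.hermForm n F q a a = 0) (hbb : Cfsg.hermForm n F q b b = 0)
    (hab : Cfsg.hermForm n F q a b = 0) (s : F) (x y : Fin n → F) :
    Cfsg.hermForm n F q (siegel q a b s (σ s) *ᵥ x) (siegel q a b s (σ s) *ᵥ y) =
      Cfsg.hermForm n F q x y := by
  have hba : Cfsg.hermForm n F q b a = 0 := by rw [h.symm, hab, map_zero]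
  rw [siegel_mulVec h a b haa, siegel_mulVec h a b haa]
  simp only [h.add_left, h.add_right, h.sub_left, h.sub_right, h.smul_left, h.smul_right, haa,
    hbb, hab, hba, map_mul]
  rw [h.symm y a, h.symm y b, hσ2]
  ring

/-- build an element of `SU` from a matrix -/
def mkSU (M : Matrix (Fin n) (Fin n) F) (hdet : M.det = 1)
    (hM : ∀ u v, Cfsg.hermForm n F q (M *ᵥ u) (M *ᵥ v) = Cfsg.hermForm n F q u v) :
    Cfsg.SU n F q := ⟨⟨M, hdet⟩, hM⟩

theorem mkSU_coe (M : Matrix (Fin n) (Fin n) F) (hdet : M.det = 1)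
    (hM : ∀ u v, Cfsg.hermForm n F q (M *ᵥ u) (M *ᵥ v) = Cfsg.hermForm n F q u v) :
    (((mkSU M hdet hM : Cfsg.SU n F q) : Matrix.SpecialLinearGroup (Fin n) F) :
      Matrix (Fin n) (Fin n) F) = M := rfl

/-- a commutator criterion in terms of the action on vectors -/
theorem comm_eq_of_mulVec (B C A : Cfsg.SU n F q)
    (hx : ∀ x, ((B : Matrix.SpecialLinearGroup (Fin n) F) : Matrix (Fin n) (Fin n) F) *ᵥ
        (((C : Matrix.SpecialLinearGroup (Fin n) F) : Matrix (Fin n) (Fin n) F) *ᵥ x) =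
      ((A : Matrix.SpecialLinearGroup (Fin n) F) : Matrix (Fin n) (Fin n) F) *ᵥ
        (((C : Matrix.SpecialLinearGroup (Fin n) F) : Matrix (Fin n) (Fin n) F) *ᵥ
          (((B : Matrix.SpecialLinearGroup (Fin n) F) : Matrix (Fin n) (Fin n) F) *ᵥ x))) :
    ⁅B, C⁆ = A := by
  have h1 : B * C = A * C * B := by
    apply Subtype.ext
    apply Subtype.ext
    apply Matrix.mulVec_injective
    funext x
    show (((B : Matrix.SpecialLinearGroup (Fin n) F) : Matrix (Fin n) (Fin n) F) *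
      ((C : Matrix.SpecialLinearGroup (Fin n) F) : Matrix (Fin n) (Fin n) F)) *ᵥ x =
      (((A : Matrix.SpecialLinearGroup (Fin n) F) : Matrix (Fin n) (Fin n) F) *
      ((C : Matrix.SpecialLinearGroup (Fin n) F) : Matrix (Fin n) (Fin n) F) *
      ((B : Matrix.SpecialLinearGroup (Fin n) F) : Matrix (Fin n) (Fin n) F)) *ᵥ x
    rw [← Matrix.mulVec_mulVec, ← Matrix.mulVec_mulVec, ← Matrix.mulVec_mulVec]
    exact hx x
  rw [commutatorElement_def, h1]
  group

section main

variable [Fintype F]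

/-- the span of a hyperbolic pair is nondegenerate -/
theorem hyp_nondeg {σ : F ≃+* F} (h : IsHerm σ (Cfsg.hermForm n F q)) (v w : Fin n → F)
    (hvv : Cfsg.hermForm n F q v v = 0) (hww : Cfsg.hermForm n F q w w = 0)
    (hvw : Cfsg.hermForm n F q v w = 1) :
    ∀ x ∈ Submodule.span F ({v, w} : Set (Fin n → F)),
      (∀ y ∈ Submodule.span F ({v, w} : Set (Fin n → F)), Cfsg.hermForm n F q x y = 0) →
      x = 0 := by
  intro x hx hxy
  have hwv : Cfsg.hermForm n F q w v = 1 := by rw [h.symm, hvw, map_one]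
  obtain ⟨a, b, rfl⟩ := Submodule.mem_span_pair.1 hx
  have h1 := hxy w (Submodule.subset_span (by simp))
  have h2 := hxy v (Submodule.subset_span (by simp))
  rw [h.add_left, h.smul_left, h.smul_left, hvw, hww, mul_one, mul_zero, add_zero] at h1
  rw [h.add_left, h.smul_left, h.smul_left, hvv, hwv, mul_one, mul_zero, zero_add] at h2
  rw [h1, h2, zero_smul, zero_smul, add_zero]

/-- the orthogonal complement of a hyperbolic plane, with its basic properties -/
theorem exists_perp_data (hF : Fintype.card F = q ^ 2) (v w : Fin n → F)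
    (hvv : Cfsg.hermForm n F q v v = 0) (hww : Cfsg.hermForm n F q w w = 0)
    (hvw : Cfsg.hermForm n F q v w = 1) :
    ∃ U : Submodule F (Fin n → F), n ≤ finrank F U + 2 ∧
      (∀ z ∈ U, Cfsg.hermForm n F q v z = 0 ∧ Cfsg.hermForm n F q w z = 0) ∧
      ∀ x ∈ U, (∀ y ∈ U, Cfsg.hermForm n F q x y = 0) → x = 0 := by
  classical
  obtain ⟨σ, hσ, hσq, h, hnd⟩ := exists_data hF n
  set P : Submodule F (Fin n → F) := Submodule.span F {v, w} with hP
  have hPnd := hyp_nondeg h v w hvv hww hvw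
  have hd := orthoDecomp hσ h P hPnd
  have hnd' := nondeg_orthoCompl h P hd hnd
  refine ⟨orthoCompl h P, ?_, ?_, hnd'⟩
  · have h1 := finrank_orthoCompl hσ h hnd P
    have h2 : finrank F P ≤ 2 := by
      have := finrank_span_le_card (R := F) ({v, w} : Set (Fin n → F))
      refine le_trans this ?_
      have e1 : ({v, w} : Set (Fin n → F)).toFinset = ({v, w} : Finset (Fin n → F)) := by
        ext x
        simp
      rw [e1]
      exact Finset.card_le_two
    rw [Module.finrank_fin_fun] at h1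
    omega
  · intro z hz
    exact ⟨hz v (Submodule.subset_span (by simp)), hz w (Submodule.subset_span (by simp))⟩

/-- an anisotropic vector orthogonal to a hyperbolic pair -/
theorem exists_aniso_perp (hF : Fintype.card F = q ^ 2) (hn : 3 ≤ n) (v w : Fin n → F)
    (hvv : Cfsg.hermForm n F q v v = 0) (hww : Cfsg.hermForm n F q w w = 0)
    (hvw : Cfsg.hermForm n F q v w = 1) :
    ∃ z : Fin n → F, Cfsg.hermForm n F q z z ≠ 0 ∧ Cfsg.hermForm n F q v z = 0 ∧
      Cfsg.hermForm n F q w z = 0 := by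
  classical
  obtain ⟨σ, hσ, hσq, h, hnd⟩ := exists_data hF n
  have hσ1 : σ ≠ 1 := by
    intro h1
    rw [h1, orderOf_one] at hσ
    omega
  obtain ⟨U, hU1, hU2, hU3⟩ := exists_perp_data hF v w hvv hww hvw
  have h3 : 0 < finrank F U := by omega
  obtain ⟨z₀, hz₀⟩ : ∃ z₀ : ↥U, z₀ ≠ 0 := Module.finrank_pos_iff_exists_ne_zero.1 h3
  have hr := isHerm_restrict h U
  obtain ⟨y, hy, hzy⟩ : ∃ y ∈ U, Cfsg.hermForm n F q (z₀ : Fin n → F) y ≠ 0 := by
    by_contra hcon
    push Not at hcon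
    apply hz₀
    exact Subtype.ext (hU3 _ z₀.2 hcon)
  obtain ⟨u, hu⟩ := exists_norm_ne_zero hσ1 hr (v := z₀) (w := ⟨y, hy⟩) hzy
  exact ⟨u.1, hu, (hU2 u.1 u.2).1, (hU2 u.1 u.2).2⟩

open Cfsg.Agent.Lib.Helper1.HermCount Cfsg.Agent.Lib.Helper2.Herm in
/-- unitary transvections are commutators, by the torus argument (`q ≥ 3`) -/
theorem comm_torus (hF : Fintype.card F = q ^ 2) (hn : 3 ≤ n) (hq : 3 ≤ q) (A : Cfsg.SU n F q)
    (v : Fin n → F) (c : F) (hv0 : Cfsg.hermForm n F q v v = 0) (hv : v ≠ 0)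
    (hc : c ^ q = -c)
    (hA : ((A : Matrix.SpecialLinearGroup (Fin n) F) : Matrix (Fin n) (Fin n) F) =
      Cfsg.unitaryTransvection n q v c) : A ∈ commutatorSet (Cfsg.SU n F q) := by
  classical
  obtain ⟨σ, hσ, hσq, h, hnd⟩ := exists_data hF n
  have hσ2 := WittHerm.sigma_sigma hσ
  obtain ⟨w, hww, hvw⟩ := exists_hyp_partner hσ h hnd v hv hv0
  have hwv : Cfsg.hermForm n F q w v = 1 := by rw [h.symm, hvw, map_one]
  obtain ⟨z, hzz, hvz, hwz⟩ := exists_aniso_perp hF hn v w hv0 hww hvw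
  have hzv : Cfsg.hermForm n F q z v = 0 := by rw [h.symm, hvz, map_zero]
  have hzw : Cfsg.hermForm n F q z w = 0 := by rw [h.symm, hwz, map_zero]
  -- a norm different from one
  have hcard : 1 < (fixedUnits F q).card := by
    rw [card_fixedUnits hF]
    omega
  obtain ⟨t, ht, ht1⟩ := Finset.exists_mem_ne hcard (1 : F)
  obtain ⟨lam, hlam0, hlam⟩ := exists_nrm_eq hF ht
  have ht' := ht
  rw [fixedUnits, Finset.mem_filter] at ht'
  have ht0 : t ≠ 0 := ht'.2.1
  have hσt : σ t = t := by rw [hσq]; exact ht'.2.2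
  have hN : lam * σ lam = t := by rw [hσq]; exact hlam
  have hσlam : σ lam ≠ 0 := by
    intro h0
    rw [h0, mul_zero] at hN
    exact ht0 hN.symm
  have ht1' : t - 1 ≠ 0 := sub_ne_zero.2 ht1
  -- the quasi-reflection fixing the determinant
  set a := Cfsg.hermForm n F q z z with ha
  have hσa : σ a = a := WittHerm.self_fixed h z
  set μ := σ lam / lam with hμ
  set κ := (μ - 1) / a with hκdef
  have hσμ : σ μ = lam / σ lam := by rw [hμ, map_div₀, hσ2]
  have hκ : σ κ + κ + κ * σ κ * a = 0 := by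
    rw [hκdef, map_div₀, map_sub, map_one, hσa, hσμ, hμ]
    field_simp
    ring
  have hB1 := hypRot_preserves hσ2 h v w hv0 hww hvw lam (σ lam)⁻¹
    (by rw [map_inv₀, hσ2, mul_inv_cancel₀ hlam0])
  have hB2 := qrefl_preserves h z κ hκ
  set B : Cfsg.SU n F q := mkSU (hypRot q v w lam (σ lam)⁻¹ * qrefl q z κ)
    (by
      rw [Matrix.det_mul, det_hypRot v w hvw hwv, det_qrefl, ← ha, hκdef, hμ]
      field_simp
      ring)
    (by
      intro x y
      rw [← Matrix.mulVec_mulVec, ← Matrix.mulVec_mulVec, hB1, hB2]) with hB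
  have hBv : ∀ x, ((B : Matrix.SpecialLinearGroup (Fin n) F) : Matrix (Fin n) (Fin n) F) *ᵥ x =
      hypRot q v w lam (σ lam)⁻¹ *ᵥ (qrefl q z κ *ᵥ x) := by
    intro x
    rw [hB, mkSU_coe, Matrix.mulVec_mulVec]
  have hBpres : ∀ x y, Cfsg.hermForm n F q
      (((B : Matrix.SpecialLinearGroup (Fin n) F) : Matrix (Fin n) (Fin n) F) *ᵥ x)
      (((B : Matrix.SpecialLinearGroup (Fin n) F) : Matrix (Fin n) (Fin n) F) *ᵥ y) =
      Cfsg.hermForm n F q x y := B.2
  have hBvv : ((B : Matrix.SpecialLinearGroup (Fin n) F) : Matrix (Fin n) (Fin n) F) *ᵥ v =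
      lam • v := by
    rw [hBv, qrefl_mulVec, hvz, mul_zero, zero_smul, add_zero, hypRot_mulVec h v w hww, hvw,
      hv0, mul_zero, zero_smul, add_zero, mul_one]
    rw [sub_smul, one_smul]
    abel
  -- the transvection C
  set c' := c / (t - 1) with hc'
  have hσc : σ c = -c := by rw [hσq]; exact hc
  have hσc' : σ c' = -c' := by
    rw [hc', map_div₀, map_sub, map_one, hσt, hσc, neg_div]
  set C : Cfsg.SU n F q := mkSU (qrefl q v c')
    (by rw [det_qrefl, hv0, mul_zero, add_zero])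
    (qrefl_preserves h v c' (by rw [hσc', hv0]; ring)) with hC
  have hCv : ∀ x, ((C : Matrix.SpecialLinearGroup (Fin n) F) : Matrix (Fin n) (Fin n) F) *ᵥ x =
      x + (c' * Cfsg.hermForm n F q x v) • v := by
    intro x
    rw [hC, mkSU_coe, qrefl_mulVec]
  have hAv : ∀ x, ((A : Matrix.SpecialLinearGroup (Fin n) F) : Matrix (Fin n) (Fin n) F) *ᵥ x =
      x + (c * Cfsg.hermForm n F q x v) • v := by
    intro x
    rw [hA, unitaryTransvection_mulVec]
  refine ⟨B, C, comm_eq_of_mulVec B C A ?_⟩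
  intro x
  have hBxv : Cfsg.hermForm n F q
      (((B : Matrix.SpecialLinearGroup (Fin n) F) : Matrix (Fin n) (Fin n) F) *ᵥ x) v =
      (σ lam)⁻¹ * Cfsg.hermForm n F q x v := by
    have h1 : v = lam⁻¹ • (((B : Matrix.SpecialLinearGroup (Fin n) F) :
        Matrix (Fin n) (Fin n) F) *ᵥ v) := by
      rw [hBvv, smul_smul, inv_mul_cancel₀ hlam0, one_smul]
    conv_lhs => rw [h1]
    rw [h.smul_right, hBpres, map_inv₀]
  rw [hCv x, Matrix.mulVec_add, Matrix.mulVec_smul, hBvv, hAv, hCv, h.add_left, h.smul_left, hv0,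
    mul_zero, add_zero, hBxv]
  have key : c' * Cfsg.hermForm n F q x v * lam =
      c' * ((σ lam)⁻¹ * Cfsg.hermForm n F q x v) + c * ((σ lam)⁻¹ * Cfsg.hermForm n F q x v) := by
    have e1 : c' * (t - 1) = c := by rw [hc']; field_simp
    have e2 : lam = t * (σ lam)⁻¹ := by rw [← hN]; field_simp
    rw [← e1]
    nth_rewrite 1 [e2]
    ring
  rw [smul_smul, key, add_smul]
  abel

theorem isoCount_pos' (q d : ℕ) (hq : 2 ≤ q) (hd : 2 ≤ d) :
    0 < (if Even d then (q ^ d - 1) * (q ^ (d - 1) + 1) else (q ^ d + 1) * (q ^ (d - 1) - 1)) := by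
  have h1 : 2 ≤ q ^ d := by
    calc 2 ≤ q := hq
      _ = q ^ 1 := (pow_one q).symm
      _ ≤ q ^ d := Nat.pow_le_pow_right (by omega) (by omega)
  have h2 : 2 ≤ q ^ (d - 1) := by
    calc 2 ≤ q := hq
      _ = q ^ 1 := (pow_one q).symm
      _ ≤ q ^ (d - 1) := Nat.pow_le_pow_right (by omega) (by omega)
  split_ifs
  · apply Nat.mul_pos <;> omega
  · apply Nat.mul_pos <;> omega

open Cfsg.Agent.Lib.Helper1.HermCount in
/-- a second hyperbolic pair orthogonal to a given one, in dimension at least four -/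
theorem exists_second_pair (hF : Fintype.card F = q ^ 2) (hn : 4 ≤ n) (v w : Fin n → F)
    (hvv : Cfsg.hermForm n F q v v = 0) (hww : Cfsg.hermForm n F q w w = 0)
    (hvw : Cfsg.hermForm n F q v w = 1) :
    ∃ u u' : Fin n → F, Cfsg.hermForm n F q u u = 0 ∧ Cfsg.hermForm n F q u' u' = 0 ∧
      Cfsg.hermForm n F q u u' = 1 ∧ Cfsg.hermForm n F q v u = 0 ∧
      Cfsg.hermForm n F q v u' = 0 := by
  classical
  obtain ⟨σ, hσ, hσq, h, hnd⟩ := exists_data hF n
  have hq : 2 ≤ q := two_le_q hF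
  obtain ⟨U, hU1, hU2, hU3⟩ := exists_perp_data hF v w hvv hww hvw
  have hcard := card_isotropic_sub hσ h hσq U hU3 (d := finrank F U) rfl
  rw [Cfsg.Agent.S0285.result hF] at hcard
  have hpos := isoCount_pos' q (finrank F U) hq (by omega)
  have hgt : 1 < Nat.card {x : U // Cfsg.hermForm n F q (x : Fin n → F) (x : Fin n → F) = 0} := by
    rw [hcard]
    omega
  haveI : Finite {x : U // Cfsg.hermForm n F q (x : Fin n → F) (x : Fin n → F) = 0} :=
    Nat.finite_of_card_ne_zero (by omega)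
  haveI := Finite.one_lt_card_iff_nontrivial.1 hgt
  obtain ⟨x, hx⟩ := exists_ne (⟨0, h.zero_left _⟩ :
    {x : U // Cfsg.hermForm n F q (x : Fin n → F) (x : Fin n → F) = 0})
  have hx0 : x.1 ≠ 0 := fun h0 => hx (Subtype.ext h0)
  have hr := isHerm_restrict h U
  obtain ⟨u', hu'u', huu'⟩ := exists_hyp_partner hσ hr
    (fun v hv => Subtype.ext (hU3 v v.2 (fun y hy => hv ⟨y, hy⟩))) x.1 hx0 x.2
  exact ⟨x.1.1, u'.1, x.2, hu'u', huu', (hU2 _ x.1.2).1, (hU2 _ u'.2).1⟩

open Cfsg.Agent.Lib.Helper2.Herm in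
/-- unitary transvections are commutators, by the Siegel argument (`n ≥ 4`) -/
theorem comm_siegel (hF : Fintype.card F = q ^ 2) (hn : 4 ≤ n) (A : Cfsg.SU n F q)
    (v : Fin n → F) (c : F) (hv0 : Cfsg.hermForm n F q v v = 0) (hv : v ≠ 0)
    (hc : c ^ q = -c)
    (hA : ((A : Matrix.SpecialLinearGroup (Fin n) F) : Matrix (Fin n) (Fin n) F) =
      Cfsg.unitaryTransvection n q v c) : A ∈ commutatorSet (Cfsg.SU n F q) := by
  classical
  obtain ⟨σ, hσ, hσq, h, hnd⟩ := exists_data hF n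
  have hσ2 := WittHerm.sigma_sigma hσ
  obtain ⟨w, hww, hvw⟩ := exists_hyp_partner hσ h hnd v hv hv0
  obtain ⟨u, u', huu, hu'u', huu', hvu, hvu'⟩ := exists_second_pair hF hn v w hv0 hww hvw
  have huv : Cfsg.hermForm n F q u v = 0 := by rw [h.symm, hvu, map_zero]
  have hu'v : Cfsg.hermForm n F q u' v = 0 := by rw [h.symm, hvu', map_zero]
  have hu'u : Cfsg.hermForm n F q u' u = 1 := by rw [h.symm, huu', map_one]
  have hσc : σ c = -c := by rw [hσq]; exact hc
  -- solve t - σ t = c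
  obtain ⟨t, ht⟩ : ∃ t : F, t - σ t = c := by
    have hσ1 : σ ≠ 1 := by
      intro h1
      rw [h1, orderOf_one] at hσ
      omega
    obtain ⟨θ, hθ⟩ : ∃ θ : F, σ θ ≠ θ := by
      by_contra hcon
      push Not at hcon
      exact hσ1 (RingEquiv.ext hcon)
    set ε := θ - σ θ with hε
    have hε0 : ε ≠ 0 := fun h0 => hθ (sub_eq_zero.1 h0).symm
    have hσε : σ ε = -ε := by rw [hε, map_sub, hσ2]; ring
    obtain ⟨a, ha⟩ := WittHerm.exists_trace hσ (c / ε)
      (by rw [map_div₀, hσc, hσε, neg_div_neg_eq])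
    refine ⟨a * ε, ?_⟩
    rw [map_mul, hσε]
    have : a * ε - σ a * -ε = (a + σ a) * ε := by ring
    rw [this, ha, div_mul_cancel₀ _ hε0]
  set X : Cfsg.SU n F q := mkSU (siegel q u' v 1 (σ 1))
    (det_siegel u' v hu'v hvu' 1 (σ 1))
    (siegel_preserves hσ2 h u' v hu'u' hv0 hu'v 1) with hX
  set Y : Cfsg.SU n F q := mkSU (siegel q u v t (σ t))
    (det_siegel u v huv hvu t (σ t))
    (siegel_preserves hσ2 h u v huu hv0 huv t) with hY
  have hXv : ∀ x, ((X : Matrix.SpecialLinearGroup (Fin n) F) : Matrix (Fin n) (Fin n) F) *ᵥ x =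
      x + (Cfsg.hermForm n F q x u') • v - (Cfsg.hermForm n F q x v) • u' := by
    intro x
    rw [hX, mkSU_coe, siegel_mulVec h u' v hu'u', map_one, one_mul, one_mul]
  have hYv : ∀ x, ((Y : Matrix.SpecialLinearGroup (Fin n) F) : Matrix (Fin n) (Fin n) F) *ᵥ x =
      x + (t * Cfsg.hermForm n F q x u) • v - (σ t * Cfsg.hermForm n F q x v) • u := by
    intro x
    rw [hY, mkSU_coe, siegel_mulVec h u v huu]
  have hAv : ∀ x, ((A : Matrix.SpecialLinearGroup (Fin n) F) : Matrix (Fin n) (Fin n) F) *ᵥ x =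
      x + (c * Cfsg.hermForm n F q x v) • v := by
    intro x
    rw [hA, unitaryTransvection_mulVec]
  refine ⟨X, Y, comm_eq_of_mulVec X Y A ?_⟩
  intro x
  rw [hXv (_ *ᵥ x), hAv, hYv (_ *ᵥ x), hYv x, hXv x]
  simp only [h.add_left, h.sub_left, h.smul_left, hv0, huu, hu'u', huu', hu'u, hvu, hvu', huv, hu'v]
  rw [← ht]
  module

end main

end UnitaryComm

end Cfsg.Agent.Lib.Helper2
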