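import Mathlib
import Cfsg.Agent.Lib.Helper2.UT12
import Cfsg.Agent.Lib.Helper2.UnitaryComm
import Cfsg.Agent.Lib.Helper1.HermCount

set_option autoImplicit false

namespace Cfsg.Agent.Lib.Helper2

namespace UT

open Module IsomDecomp HermDecomp Cfsg.Agent.Lib.Helper5.PSLCoset Matrix

variable {F : Type*} [Field F] [Fintype F] {n q : ℕ}

/-- a fixed element different from `0` and `1` when `q ≥ 3` -/
theorem exists_fixed_ne (hF : Fintype.card F = q ^ 2) (hq : 3 ≤ q) :
    ∃ c : F, c ^ q = c ∧ c ≠ 0 ∧ c ≠ 1 := by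
  classical
  have hcard := Cfsg.Agent.Lib.Helper1.HermCount.card_fixedUnits hF
  have h2 : 1 < (Cfsg.Agent.Lib.Helper1.HermCount.fixedUnits F q).card := by omega
  obtain ⟨a, ha, b, hb, hab⟩ := Finset.one_lt_card.1 h2
  unfold Cfsg.Agent.Lib.Helper1.HermCount.fixedUnits at ha hb
  rw [Finset.mem_filter] at ha hb
  by_cases ha1 : a = 1
  · refine ⟨b, hb.2.2, hb.2.1, ?_⟩
    intro hb1
    exact hab (ha1.trans hb1.symm)
  · exact ⟨a, ha.2.2, ha.2.1, ha1⟩

/-- the special unitary group acting by linear automorphisms -/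
noncomputable def suLin (n : ℕ) (F : Type*) [Field F] (q : ℕ) :
    ↥(Cfsg.SU n F q) →* ((Fin n → F) ≃ₗ[F] (Fin n → F)) :=
  (GUIsom.glLin n F).toMonoidHom.comp
    (Matrix.SpecialLinearGroup.toGL.comp (Cfsg.SU n F q).subtype)

omit [Fintype F] in
theorem suLin_apply (A : ↥(Cfsg.SU n F q)) (x : Fin n → F) :
    suLin n F q A x =
      ((A : Matrix.SpecialLinearGroup (Fin n) F) : Matrix (Fin n) (Fin n) F) *ᵥ x := rfl

omit [Fintype F] in
theorem suLin_injective : Function.Injective (suLin n F q) := by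
  intro A B hAB
  apply Subtype.ext
  apply Subtype.ext
  apply Matrix.toLin'.injective
  apply LinearMap.ext
  intro x
  rw [Matrix.toLin'_apply, Matrix.toLin'_apply, ← suLin_apply, ← suLin_apply, hAB]

omit [Fintype F] in
theorem suLin_mem_isom (A : ↥(Cfsg.SU n F q)) : suLin n F q A ∈ isom (Cfsg.hermForm n F q) := by
  intro x y
  rw [suLin_apply, suLin_apply]
  exact A.2 x y

omit [Fintype F] in
theorem det_suLin (A : ↥(Cfsg.SU n F q)) : LinearEquiv.det (suLin n F q A) = 1 := by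
  apply Units.ext
  rw [LinearEquiv.coe_det, Units.val_one]
  have h1 : ((suLin n F q A : (Fin n → F) ≃ₗ[F] (Fin n → F)) : (Fin n → F) →ₗ[F] (Fin n → F)) =
      Matrix.toLin' ((A : Matrix.SpecialLinearGroup (Fin n) F) : Matrix (Fin n) (Fin n) F) := by
    apply LinearMap.ext
    intro x
    rw [Matrix.toLin'_apply]
    rfl
  rw [h1, LinearMap.det_toLin']
  exact (A : Matrix.SpecialLinearGroup (Fin n) F).2

/-- generation of `SU_n(q)` by unitary transvections -/
theorem closure_transvections (hF : Fintype.card F = q ^ 2) (hn : 3 ≤ n)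
    (h32 : ¬ (n = 3 ∧ q = 2)) :
    Subgroup.closure {A : ↥(Cfsg.SU n F q) | ∃ (v : Fin n → F) (c : F),
      Cfsg.hermForm n F q v v = 0 ∧
      ((A : Matrix.SpecialLinearGroup (Fin n) F) : Matrix (Fin n) (Fin n) F) =
        Cfsg.unitaryTransvection n q v c} = ⊤ := by
  classical
  obtain ⟨σ, hσ, hσq⟩ := exists_sigma hF
  have hσ2 := WittHerm.sigma_sigma hσ
  have hq2 : 2 ≤ q := Cfsg.Agent.Lib.Helper1.HermCount.two_le_q hF
  have h := GUIsom.isHerm_hermForm n q σ hσ2 hσq
  have hnd : ∀ v : Fin n → F, (∀ w, Cfsg.hermForm n F q v w = 0) → v = 0 :=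
    fun v hv => GUIsom.hermForm_nondeg n q (by omega) v hv
  have hbig : n = 3 → ∃ c : F, σ c = c ∧ c ≠ 0 ∧ c ≠ 1 := by
    intro h3
    have hq3 : 3 ≤ q := by
      by_contra hlt
      exact h32 ⟨h3, by omega⟩
    obtain ⟨c, hc, hc0, hc1⟩ := exists_fixed_ne hF hq3
    exact ⟨c, by rw [hσq, hc], hc0, hc1⟩
  have hdim : finrank F (Fin n → F) = n := by
    rw [Module.finrank_fin_fun]
  obtain ⟨S, hS⟩ : ∃ S : Set ↥(Cfsg.SU n F q), S = {A : ↥(Cfsg.SU n F q) |
      ∃ (v : Fin n → F) (c : F), Cfsg.hermForm n F q v v = 0 ∧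
      ((A : Matrix.SpecialLinearGroup (Fin n) F) : Matrix (Fin n) (Fin n) F) =
        Cfsg.unitaryTransvection n q v c} := ⟨_, rfl⟩
  rw [← hS]
  have hTle : T h ≤ (Subgroup.closure S).map (suLin n F q) := by
    unfold T
    rw [Subgroup.closure_le]
    rintro g ⟨v, c, hv, hc, rfl⟩
    have hdet : (Cfsg.unitaryTransvection n q v c).det = 1 := by
      unfold Cfsg.unitaryTransvection
      rw [HermFrames.det_rank_one, hv, mul_zero, add_zero]
    have hpres : ∀ x y, Cfsg.hermForm n F q (Cfsg.unitaryTransvection n q v c *ᵥ x)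
        (Cfsg.unitaryTransvection n q v c *ᵥ y) = Cfsg.hermForm n F q x y := by
      intro x y
      rw [Herm.herm_transvection hF v hv c x y, ← hσq, hc]
      ring
    refine ⟨UnitaryComm.mkSU _ hdet hpres, Subgroup.subset_closure ?_, ?_⟩
    · rw [hS]
      exact ⟨v, c, hv, rfl⟩
    · apply LinearEquiv.ext
      intro x
      rw [suLin_apply, UnitaryComm.mkSU_coe, Herm.unitaryTransvection_mulVec, tv_apply]
  rw [eq_top_iff]
  intro A _
  have hA := mem_T_main (F := F) hσ n (by omega) (Fin n → F) (Cfsg.hermForm n F q) h hnd hdim hbig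
    (suLin n F q A) (suLin_mem_isom A) (det_suLin A)
  obtain ⟨B, hB, hBA⟩ := hTle hA
  rw [← suLin_injective hBA]
  exact hB

end UT

end Cfsg.Agent.Lib.Helper2
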