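import Mathlib
import Cfsg.Agent.Lib.Helper2.UT12

set_option autoImplicit false

namespace Cfsg.Agent.Lib.Helper2

namespace UT

open Module IsomDecomp HermDecomp Cfsg.Agent.Lib.Helper5.PSLCoset

universe u

variable {F : Type u} [Field F] [Finite F] {σ : F ≃+* F} {V : Type u} [AddCommGroup V]
  [Module F V] [FiniteDimensional F V] {H : V → V → F}

/-- the determinant of an isometry has norm one -/
theorem det_norm (hσ : orderOf σ = 2) (h : IsHerm σ H) (hnd : ∀ v, (∀ w, H v w = 0) → v = 0)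
    {g : V ≃ₗ[F] V} (hg : g ∈ isom H) :
    (LinearEquiv.det g : F) * σ (LinearEquiv.det g : F) = 1 := by
  classical
  obtain ⟨b, hb⟩ := exists_onb hσ h hnd (k := finrank F V) rfl
  obtain ⟨A, hA⟩ : ∃ A : Matrix (Fin (finrank F V)) (Fin (finrank F V)) F,
      A = LinearMap.toMatrix b b (g : V →ₗ[F] V) := ⟨_, rfl⟩
  have hAij : ∀ i j, A i j = b.repr (g (b j)) i := by
    intro i j
    rw [hA, LinearMap.toMatrix_apply]
    rfl
  have h1 : A.transpose * A.map σ = 1 := by
    apply Matrix.ext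
    intro i j
    rw [Matrix.mul_apply, Matrix.one_apply]
    have := hg (b i) (b j)
    rw [hb, form_eq_sum h b hb] at this
    rw [← this]
    apply Finset.sum_congr rfl
    intro l _
    rw [Matrix.transpose_apply, Matrix.map_apply, hAij, hAij]
  have h2 := congrArg Matrix.det h1
  rw [Matrix.det_mul, Matrix.det_transpose, Matrix.det_one] at h2
  have h3 : (A.map σ).det = σ A.det := by
    have := RingHom.map_det (σ : F →+* F) A
    exact this.symm
  rw [h3, hA, LinearMap.det_toMatrix] at h2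
  rw [LinearEquiv.coe_det]
  exact h2

omit [Finite F] [FiniteDimensional F V] in
theorem qr_unit (h : IsHerm σ H) (w : V) (α : F) (hw : H w w = 1) (hα : α ≠ 0) :
    IsUnit (1 + ((α - 1) • h.toDual w) w) := by
  rw [LinearMap.smul_apply, IsHerm.toDual_apply, hw, smul_eq_mul, mul_one, add_sub_cancel]
  exact IsUnit.mk0 α hα

/-- quasi-reflections -/
noncomputable def qr (h : IsHerm σ H) (w : V) (α : F) (hw : H w w = 1) (hα : α ≠ 0) :
    V ≃ₗ[F] V :=
  LinearEquiv.dilatransvection (f := (α - 1) • h.toDual w) (v := w) (qr_unit h w α hw hα)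

omit [Finite F] [FiniteDimensional F V] in
theorem qr_apply (h : IsHerm σ H) (w : V) (α : F) (hw : H w w = 1) (hα : α ≠ 0) (x : V) :
    qr h w α hw hα x = x + ((α - 1) * H x w) • w := by
  unfold qr
  rw [LinearEquiv.dilatransvection.apply, LinearMap.smul_apply, IsHerm.toDual_apply, smul_eq_mul]

omit [Finite F] [FiniteDimensional F V] in
theorem qr_mem_isom (h : IsHerm σ H) (w : V) (α : F) (hw : H w w = 1) (hα : α ≠ 0)
    (hαn : α * σ α = 1) : qr h w α hw hα ∈ isom H := by
  intro x y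
  rw [qr_apply, qr_apply]
  simp only [h.add_left, h.add_right, h.smul_left, h.smul_right, hw, map_mul, map_sub, map_one]
  rw [h.symm y w]
  linear_combination (H x w * σ (H y w)) * hαn

omit [Finite F] in
theorem det_qr (h : IsHerm σ H) (w : V) (α : F) (hw : H w w = 1) (hα : α ≠ 0) :
    (LinearEquiv.det (qr h w α hw hα) : F) = α := by
  unfold qr
  rw [LinearEquiv.coe_det, LinearEquiv.dilatransvection.coe_toLinearMap,
    LinearMap.transvection.det, LinearMap.smul_apply, IsHerm.toDual_apply, hw, smul_eq_mul,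
    mul_one, add_sub_cancel]

/-- Witt's theorem inside the group generated by the transvections -/
theorem exists_T_of_witt (hσ : orderOf σ = 2) (h : IsHerm σ H)
    (hnd : ∀ v, (∀ w, H v w = 0) → v = 0) (hdim : 2 ≤ finrank F V)
    (hbig : finrank F V = 3 → ∃ c : F, σ c = c ∧ c ≠ 0 ∧ c ≠ 1)
    {U : Type u} [AddCommGroup U] [Module F U] [FiniteDimensional F U] (f₁ f₂ : U →ₗ[F] V)
    (h₁ : Function.Injective f₁) (h₂ : Function.Injective f₂)
    (hiso : ∀ a b, H (f₁ a) (f₁ b) = H (f₂ a) (f₂ b)) (w : V) (hw : H w w ≠ 0)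
    (hwf : ∀ a, H (f₂ a) w = 0) : ∃ t ∈ T h, ∀ a, t (f₁ a) = f₂ a := by
  obtain ⟨g₀, hg₀, hg₀f⟩ := WittHerm.witt_aux hσ h hnd _ U f₁ f₂ rfl h₁ h₂ hiso
  have hg₀' : g₀ ∈ isom H := hg₀
  obtain ⟨a, ha0, haw⟩ := exists_smul_norm_one hσ h w hw
  obtain ⟨δ, hδ⟩ : ∃ δ : F, δ = (LinearEquiv.det g₀ : F) := ⟨_, rfl⟩
  have hδn : δ * σ δ = 1 := by rw [hδ]; exact det_norm hσ h hnd hg₀'
  have hδ0 : δ ≠ 0 := by
    rw [hδ]
    exact Units.ne_zero _
  have hα0 : δ⁻¹ ≠ 0 := inv_ne_zero hδ0
  have hαn : δ⁻¹ * σ δ⁻¹ = 1 := by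
    rw [map_inv₀, ← mul_inv, hδn, inv_one]
  refine ⟨qr h (a • w) δ⁻¹ haw hα0 * g₀, ?_, ?_⟩
  · apply mem_T_main hσ (finrank F V) hdim V H h hnd rfl hbig
    · exact (isom H).mul_mem (qr_mem_isom h _ _ haw hα0 hαn) hg₀'
    · apply Units.ext
      rw [map_mul, Units.val_mul, det_qr, ← hδ, Units.val_one, inv_mul_cancel₀ hδ0]
  · intro x
    rw [LinearEquiv.mul_apply, hg₀f, qr_apply, h.smul_right, hwf, mul_zero, mul_zero, zero_smul,
      add_zero]

/-- transitivity on hyperbolic pairs -/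
theorem exists_T_map_pair (hσ : orderOf σ = 2) (h : IsHerm σ H)
    (hnd : ∀ v, (∀ w, H v w = 0) → v = 0) (hdim : 3 ≤ finrank F V)
    (hbig : finrank F V = 3 → ∃ c : F, σ c = c ∧ c ≠ 0 ∧ c ≠ 1)
    {u r u' r' : V} (hp : HypPair H u r) (hp' : HypPair H u' r') :
    ∃ t ∈ T h, t u = u' ∧ t r = r' := by
  have hval : ∀ (x y : V) (a : Fin 2 → F),
      Fintype.linearCombination F ![x, y] a = a 0 • x + a 1 • y := by
    intro x y a
    rw [Fintype.linearCombination_apply, Fin.sum_univ_two]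
    rfl
  have hform : ∀ (x y : V), HypPair H x y → ∀ a b : Fin 2 → F,
      H (Fintype.linearCombination F ![x, y] a) (Fintype.linearCombination F ![x, y] b) =
        a 0 * σ (b 1) + a 1 * σ (b 0) := by
    intro x y hxy a b
    rw [hval, hval]
    simp only [h.add_left, h.add_right, h.smul_left, h.smul_right, hxy.uu, hxy.vv, hxy.uv,
      hxy.vu h]
    ring
  obtain ⟨w, hw, hwu, hwr⟩ := exists_aniso_ortho_pair hσ h hnd hdim hp'.uu hp'.vv
    (by rw [hp'.uv]; exact one_ne_zero)
  obtain ⟨t, ht, htf⟩ := exists_T_of_witt hσ h hnd (by omega) hbig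
    (Fintype.linearCombination F ![u, r]) (Fintype.linearCombination F ![u', r'])
    (linearIndependent_iff_injective_fintypeLinearCombination.1 (hp.linearIndependent h))
    (linearIndependent_iff_injective_fintypeLinearCombination.1 (hp'.linearIndependent h))
    (fun a b => by rw [hform u r hp, hform u' r' hp']) w hw
    (fun a => by
      rw [hval, h.add_left, h.smul_left, h.smul_left, h.symm w u', h.symm w r', hwu, hwr,
        map_zero, mul_zero, mul_zero, add_zero])
  refine ⟨t, ht, ?_, ?_⟩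
  · have := htf ![1, 0]
    rw [hval, hval] at this
    simpa using this
  · have := htf ![0, 1]
    rw [hval, hval] at this
    simpa using this

end UT

end Cfsg.Agent.Lib.Helper2
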