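import Mathlib
import Cfsg.Agent.Lib.Helper2.UT14

set_option autoImplicit false

namespace Cfsg.Agent.Lib.Helper2

namespace UT

open Module IsomDecomp HermDecomp Cfsg.Agent.Lib.Helper5.PSLCoset

variable {F : Type*} [Field F] {σ : F ≃+* F} {V : Type*} [AddCommGroup V] [Module F V]
  {H : V → V → F}

/-- two perpendicular isotropic vectors have a common non-perpendicular isotropic vector -/
theorem exists_bridge (hσ : orderOf σ = 2) (h : IsHerm σ H)
    (hnd : ∀ v, (∀ w, H v w = 0) → v = 0) {a b : V} (ha : H a a = 0)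
    (ha0 : a ≠ 0) (hb0 : b ≠ 0) (hab : H a b = 0) :
    ∃ c : V, H c c = 0 ∧ H a c ≠ 0 ∧ H c b ≠ 0 := by
  obtain ⟨xa, hxa⟩ : ∃ xa, H a xa ≠ 0 := by
    by_contra hcon
    push Not at hcon
    exact ha0 (hnd a hcon)
  obtain ⟨xb, hxb⟩ : ∃ xb, H b xb ≠ 0 := by
    by_contra hcon
    push Not at hcon
    exact hb0 (hnd b hcon)
  obtain ⟨x, hax, hbx⟩ : ∃ x, H a x ≠ 0 ∧ H b x ≠ 0 := by
    by_cases h1 : H b xa = 0
    · by_cases h2 : H a xb = 0
      · refine ⟨xa + xb, ?_, ?_⟩
        · rw [h.add_right, h2, add_zero]; exact hxa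
        · rw [h.add_right, h1, zero_add]; exact hxb
      · exact ⟨xb, h2, hxb⟩
    · exact ⟨xa, hxa, h1⟩
  obtain ⟨e, he⟩ := WittHerm.exists_trace hσ (-(H x x))
    (by rw [map_neg, WittHerm.self_fixed h])
  obtain ⟨c, hc⟩ : ∃ c : V, c = x + (e / H a x) • a := ⟨_, rfl⟩
  have hxa' : H x a = σ (H a x) := h.symm a x
  have hσax : σ (H a x) ≠ 0 := (map_ne_zero_iff _ σ.injective).2 hax
  have hcc : H c c = 0 := by
    rw [hc]
    simp only [h.add_left, h.add_right, h.smul_left, h.smul_right, ha, hxa', map_div₀]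
    field_simp
    linear_combination (σ (H a x) * H a x) * he
  have hac : H a c ≠ 0 := by
    rw [hc, h.add_right, h.smul_right, ha, mul_zero, add_zero]
    exact hax
  have hcb : H c b ≠ 0 := by
    rw [hc, h.add_left, h.smul_left, hab, mul_zero, add_zero, h.symm b x]
    exact (map_ne_zero_iff _ σ.injective).2 hbx
  exact ⟨c, hcc, hac, hcb⟩

/-- separating two independent vectors by a functional `H · ` -/
theorem exists_sep (hσ : orderOf σ = 2) (h : IsHerm σ H)
    (hnd : ∀ v, (∀ w, H v w = 0) → v = 0) {u r : V} (hu0 : u ≠ 0)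
    (hind : ∀ s t : F, s • u + t • r = 0 → s = 0 ∧ t = 0) :
    ∃ z : V, H z u = 0 ∧ H z r ≠ 0 := by
  have hσ2 := WittHerm.sigma_sigma hσ
  by_contra hcon
  push Not at hcon
  obtain ⟨z₁, hz₁⟩ : ∃ z₁, H u z₁ ≠ 0 := by
    by_contra hc
    push Not at hc
    exact hu0 (hnd u hc)
  obtain ⟨z₂, hz₂⟩ : ∃ z₂ : V, z₂ = (H z₁ u)⁻¹ • z₁ := ⟨_, rfl⟩
  have hz₁' : H z₁ u ≠ 0 := by
    rw [h.symm u z₁]
    exact (map_ne_zero_iff _ σ.injective).2 hz₁
  have hz₂u : H z₂ u = 1 := by
    rw [hz₂, h.smul_left, inv_mul_cancel₀ hz₁']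
  have key : ∀ z, H z r = H z u * H z₂ r := by
    intro z
    have h1 := hcon (z - H z u • z₂)
      (by rw [h.sub_left, h.smul_left, hz₂u, mul_one, sub_self])
    rw [h.sub_left, h.smul_left] at h1
    linear_combination h1
  have h0 : r - σ (H z₂ r) • u = 0 := by
    apply hnd
    intro w
    rw [h.symm w, h.sub_right, h.smul_right, hσ2, key w]
    have : H w u * H z₂ r - H z₂ r * H w u = 0 := by ring
    rw [this, map_zero]
  have := hind (-σ (H z₂ r)) 1 (by rw [neg_smul, one_smul, neg_add_eq_sub]; exact h0)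
  exact one_ne_zero this.2

/-- moving a perpendicular isotropic vector off itself while fixing another -/
theorem exists_T_move_perp (hσ : orderOf σ = 2) (h : IsHerm σ H)
    (hnd : ∀ v, (∀ w, H v w = 0) → v = 0) {u r : V} (hu0 : u ≠ 0) (hr : H r r = 0)
    (hur : H u r = 0)
    (hind : ∀ s t : F, s • u + t • r = 0 → s = 0 ∧ t = 0) :
    ∃ t ∈ T h, t u = u ∧ H r (t r) ≠ 0 := by
  have hσ2 := WittHerm.sigma_sigma hσ
  obtain ⟨z, hzu, hzr⟩ := exists_sep hσ h hnd hu0 hind
  obtain ⟨μ, hμ0, hμ⟩ := exists_skew hσ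
  obtain ⟨e, he⟩ := WittHerm.exists_trace hσ (-(H z z))
    (by rw [map_neg, WittHerm.self_fixed h])
  have hrz : H r z = σ (H z r) := h.symm z r
  have hσzr : σ (H z r) ≠ 0 := (map_ne_zero_iff _ σ.injective).2 hzr
  have hru : H r u = 0 := by rw [h.symm u r, hur, map_zero]
  obtain ⟨y, hy⟩ : ∃ y : V, y = z + (e / σ (H z r)) • r := ⟨_, rfl⟩
  have hyy : H y y = 0 := by
    rw [hy]
    simp only [h.add_left, h.add_right, h.smul_left, h.smul_right, hr, hrz, map_div₀, hσ2]
    field_simp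
    linear_combination (σ (H z r) * H z r) * he
  have hyu : H y u = 0 := by
    rw [hy, h.add_left, h.smul_left, hzu, hru, mul_zero, add_zero]
  have huy : H u y = 0 := by rw [h.symm y u, hyu, map_zero]
  have hry : H r y ≠ 0 := by
    rw [hy, h.add_right, h.smul_right, hr, mul_zero, add_zero, hrz]
    exact hσzr
  refine ⟨tv h y μ hyy, tv_mem_T h y μ hyy hμ, ?_, ?_⟩
  · rw [tv_apply, huy, mul_zero, zero_smul, add_zero]
  · rw [tv_apply, h.add_right, hr, zero_add, h.smul_right, map_mul]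
    exact mul_ne_zero (mul_ne_zero ((map_ne_zero_iff _ σ.injective).2 hμ0)
      ((map_ne_zero_iff _ σ.injective).2 hry)) hry

/-- eigenvalues at two non-perpendicular isotropic vectors coincide -/
theorem eigen_eq_of_nonperp (hσ : orderOf σ = 2) (h : IsHerm σ H) (g : V →ₗ[F] V)
    (hfix : ∀ x : V, x ≠ 0 → H x x = 0 → ∃ l : F, g x = l • x) {a b : V} (ha : H a a = 0)
    (hb : H b b = 0) (hab : H a b ≠ 0) {la lb : F} (hga : g a = la • a) (hgb : g b = lb • b) :
    la = lb := by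
  have hσ2 := WittHerm.sigma_sigma hσ
  obtain ⟨μ, hμ0, hμ⟩ := exists_skew hσ
  have hba : H b a = σ (H a b) := h.symm a b
  have hσab : σ (H a b) ≠ 0 := (map_ne_zero_iff _ σ.injective).2 hab
  obtain ⟨c, hc⟩ : ∃ c : F, c = μ / σ (H a b) := ⟨_, rfl⟩
  have hc0 : c ≠ 0 := by rw [hc]; exact div_ne_zero hμ0 hσab
  obtain ⟨y, hy⟩ : ∃ y : V, y = a + c • b := ⟨_, rfl⟩
  have hyy : H y y = 0 := by
    rw [hy, hc]
    simp only [h.add_left, h.add_right, h.smul_left, h.smul_right, ha, hb, hba, map_div₀, hσ2, hμ]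
    field_simp
    ring
  have hy0 : y ≠ 0 := by
    intro h0
    have h1 : H y b = 0 := by rw [h0, h.zero_left]
    rw [hy, h.add_left, h.smul_left, hb, mul_zero, add_zero] at h1
    exact hab h1
  obtain ⟨ly, hly⟩ := hfix y hy0 hyy
  have h1 : (la - ly) • a + (c * (lb - ly)) • b = 0 := by
    have h2 : g y = la • a + c • (lb • b) := by rw [hy, map_add, map_smul, hga, hgb]
    rw [hly, hy] at h2
    have h3 : (la - ly) • a + (c * (lb - ly)) • b =
        (la • a + c • (lb • b)) - ly • (a + c • b) := by module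
    rw [h3, ← h2, sub_self]
  have h4 := iso_pair_zero h ha hb hab (la - ly) (c * (lb - ly))
    (by rw [h1, h.zero_left]) (by rw [h1, h.zero_left])
  have h5 : la = ly := by linear_combination h4.1
  have h6 : lb = ly := by
    have := (mul_eq_zero.1 h4.2).resolve_left hc0
    linear_combination this
  rw [h5, h6]

/-- a linear map fixing all isotropic points is a scalar -/
theorem scalar_of_fix [Finite F] [FiniteDimensional F V] (hσ : orderOf σ = 2) (h : IsHerm σ H)
    (hnd : ∀ v, (∀ w, H v w = 0) → v = 0) (hdim : 2 ≤ finrank F V) (g : V →ₗ[F] V)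
    (hfix : ∀ x : V, x ≠ 0 → H x x = 0 → ∃ l : F, g x = l • x) :
    ∃ l : F, ∀ x, g x = l • x := by
  obtain ⟨u, v, hp⟩ := exists_hypPair hσ h hnd hdim
  have hu0 : u ≠ 0 := by
    intro h0
    have := hp.uv
    rw [h0, h.zero_left] at this
    exact zero_ne_one this
  have hv0 : v ≠ 0 := by
    intro h0
    have := hp.uv
    rw [h0, h.zero_right] at this
    exact zero_ne_one this
  obtain ⟨l, hl⟩ := hfix u hu0 hp.uu
  have hiso : ∀ x : V, H x x = 0 → g x = l • x := by
    intro x hxx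
    by_cases hx0 : x = 0
    · rw [hx0, map_zero, smul_zero]
    obtain ⟨lx, hlx⟩ := hfix x hx0 hxx
    by_cases hux : H u x = 0
    · obtain ⟨c, hcc, huc, hcx⟩ := exists_bridge hσ h hnd hp.uu hu0 hx0 hux
      have hc0 : c ≠ 0 := by
        intro h0
        rw [h0, h.zero_right] at huc
        exact huc rfl
      obtain ⟨lc, hlc⟩ := hfix c hc0 hcc
      have e1 := eigen_eq_of_nonperp hσ h g hfix hp.uu hcc huc hl hlc
      have e2 := eigen_eq_of_nonperp hσ h g hfix hcc hxx hcx hlc hlx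
      rw [hlx, ← e2, ← e1]
    · have e1 := eigen_eq_of_nonperp hσ h g hfix hp.uu hxx hux hl hlx
      rw [hlx, ← e1]
  refine ⟨l, fun x => ?_⟩
  obtain ⟨x₀, hx₀⟩ : ∃ x₀ : V, x₀ = x - H x v • u - H x u • v := ⟨_, rfl⟩
  have hx₀u : H x₀ u = 0 := by
    rw [hx₀, h.sub_left, h.sub_left, h.smul_left, h.smul_left, hp.uu, hp.vu h]
    ring
  have hx₀v : H x₀ v = 0 := by
    rw [hx₀, h.sub_left, h.sub_left, h.smul_left, h.smul_left, hp.vv, hp.uv]
    ring
  have hux₀ : H u x₀ = 0 := by rw [h.symm x₀ u, hx₀u, map_zero]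
  have hvx₀ : H v x₀ = 0 := by rw [h.symm x₀ v, hx₀v, map_zero]
  obtain ⟨e, he⟩ := WittHerm.exists_trace hσ (-(H x₀ x₀))
    (by rw [map_neg, WittHerm.self_fixed h])
  have hy : H (x₀ + u + e • v) (x₀ + u + e • v) = 0 := by
    simp only [h.add_left, h.add_right, h.smul_left, h.smul_right, hx₀u, hx₀v, hux₀, hvx₀, hp.uu,
      hp.vv, hp.uv, hp.vu h]
    linear_combination he
  have h1 := hiso _ hy
  have h2 := hiso v hp.vv
  have hx : x = (x₀ + u + e • v) + (H x v - 1) • u + (H x u - e) • v := by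
    rw [hx₀]
    module
  rw [hx]
  simp only [map_add, map_smul, h1, hl, h2]
  module

end UT

end Cfsg.Agent.Lib.Helper2
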