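import Mathlib
import Cfsg.Agent.Lib.Helper2.UT15
import Cfsg.Agent.Lib.Helper2.LongRoot14

set_option autoImplicit false

namespace Cfsg.Agent.Lib.Helper2

namespace UT

open Module IsomDecomp HermDecomp Cfsg.Agent.Lib.Helper5.PSLCoset
open scoped Pointwise

section defs

variable {F : Type*} [Field F] {σ : F ≃+* F} {V : Type*} [AddCommGroup V] [Module F V]
  {H : V → V → F}

/-- isotropic points -/
def IsIsoPoint (H : V → V → F) (P : Submodule F V) : Prop :=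
  ∃ u : V, u ≠ 0 ∧ H u u = 0 ∧ P = Submodule.span F {u}

/-- the type of isotropic points -/
def Pts (H : V → V → F) : Type _ := {P : Submodule F V // IsIsoPoint H P}

/-- the point spanned by a nonzero isotropic vector -/
def mkPt (u : V) (hu0 : u ≠ 0) (hu : H u u = 0) : Pts H :=
  ⟨Submodule.span F {u}, u, hu0, hu, rfl⟩

theorem exists_rep (P : Pts H) : ∃ (u : V) (hu0 : u ≠ 0) (hu : H u u = 0), P = mkPt u hu0 hu := by
  obtain ⟨u, hu0, hu, hP⟩ := P.2
  exact ⟨u, hu0, hu, Subtype.ext hP⟩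

theorem equiv_ne_zero (g : V ≃ₗ[F] V) {u : V} (hu0 : u ≠ 0) : g u ≠ 0 := by
  intro h0
  exact hu0 (g.map_eq_zero_iff.1 h0)

theorem T_iso (h : IsHerm σ H) (g : ↥(T h)) {u : V} (hu : H u u = 0) :
    H ((g : V ≃ₗ[F] V) u) ((g : V ≃ₗ[F] V) u) = 0 := by
  rw [T_le_isom h g.2 u u]
  exact hu

instance instMulActionPts (h : IsHerm σ H) : MulAction ↥(T h) (Pts H) where
  smul g P := ⟨P.1.map (((g : V ≃ₗ[F] V)) : V →ₗ[F] V), by
    obtain ⟨u, hu0, hu, hP⟩ := P.2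
    refine ⟨(g : V ≃ₗ[F] V) u, equiv_ne_zero _ hu0, T_iso h g hu, ?_⟩
    rw [hP, Submodule.map_span, Set.image_singleton]
    rfl⟩
  one_smul P := by
    apply Subtype.ext
    show P.1.map (((1 : V ≃ₗ[F] V)) : V →ₗ[F] V) = P.1
    exact Submodule.map_id P.1
  mul_smul g g' P := by
    apply Subtype.ext
    show P.1.map ((((g : V ≃ₗ[F] V) * (g' : V ≃ₗ[F] V) : V ≃ₗ[F] V)) : V →ₗ[F] V) =
      (P.1.map (((g' : V ≃ₗ[F] V)) : V →ₗ[F] V)).map (((g : V ≃ₗ[F] V)) : V →ₗ[F] V)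
    rw [← Submodule.map_comp]
    rfl

theorem smul_mkPt (h : IsHerm σ H) (g : ↥(T h)) (u : V) (hu0 : u ≠ 0) (hu : H u u = 0) :
    g • mkPt u hu0 hu = mkPt ((g : V ≃ₗ[F] V) u) (equiv_ne_zero _ hu0) (T_iso h g hu) := by
  apply Subtype.ext
  show (Submodule.span F {u}).map (((g : V ≃ₗ[F] V)) : V →ₗ[F] V) = Submodule.span F {_}
  rw [Submodule.map_span, Set.image_singleton]
  rfl

theorem mem_smul_pt (h : IsHerm σ H) (g : ↥(T h)) (P : Pts H) {u : V} (hu : u ∈ P.1) :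
    (g : V ≃ₗ[F] V) u ∈ (g • P).1 :=
  Submodule.mem_map.2 ⟨u, hu, rfl⟩

theorem mkPt_congr {u u' : V} (he : u = u') (hu0 : u ≠ 0) (hu : H u u = 0) (hu'0 : u' ≠ 0)
    (hu' : H u' u' = 0) : mkPt u hu0 hu = mkPt u' hu'0 hu' := by
  subst he; rfl

theorem iso_smul (h : IsHerm σ H) {u : V} (hu : H u u = 0) (a : F) : H (a • u) (a • u) = 0 := by
  rw [h.smul_left, h.smul_right, hu, mul_zero, mul_zero]

theorem mkPt_smul (h : IsHerm σ H) (u : V) (hu0 : u ≠ 0) (hu : H u u = 0) (a : F) (ha : a ≠ 0) :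
    mkPt (a • u) (smul_ne_zero ha hu0) (iso_smul h hu a) = mkPt u hu0 hu := by
  apply Subtype.ext
  exact Submodule.span_singleton_smul_eq (IsUnit.mk0 a ha) u

theorem mkPt_eq_iff (h : IsHerm σ H) (u u' : V) (hu0 : u ≠ 0) (hu : H u u = 0) (hu'0 : u' ≠ 0)
    (hu' : H u' u' = 0) :
    mkPt u hu0 hu = mkPt u' hu'0 hu' ↔ ∃ a : F, a ≠ 0 ∧ u' = a • u := by
  constructor
  · intro he
    have h1 : Submodule.span F {u} = Submodule.span F {u'} := congrArg Subtype.val he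
    have h2 : u' ∈ Submodule.span F {u} := by
      rw [h1]; exact Submodule.mem_span_singleton_self u'
    obtain ⟨a, ha⟩ := Submodule.mem_span_singleton.1 h2
    refine ⟨a, ?_, ha.symm⟩
    rintro rfl
    rw [zero_smul] at ha
    exact hu'0 ha.symm
  · rintro ⟨a, ha, rfl⟩
    exact (mkPt_smul h u hu0 hu a ha).symm

end defs

universe u

variable {F : Type u} [Field F] [Finite F] {σ : F ≃+* F} {V : Type u} [AddCommGroup V]
  [Module F V] [FiniteDimensional F V] {H : V → V → F}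

/-- first step of the primitivity argument -/
theorem block_step (hσ : orderOf σ = 2) (h : IsHerm σ H)
    (hnd : ∀ v, (∀ w, H v w = 0) → v = 0) (hdim : 3 ≤ finrank F V)
    (hbig : finrank F V = 3 → ∃ c : F, σ c = c ∧ c ≠ 0 ∧ c ≠ 1)
    {B : Set (Pts H)} (hB : MulAction.IsBlock ↥(T h) B) (u r x : V)
    (hu0 : u ≠ 0) (hu : H u u = 0) (hr0 : r ≠ 0) (hr : H r r = 0) (hx0 : x ≠ 0) (hx : H x x = 0)
    (hPu : mkPt u hu0 hu ∈ B) (hPr : mkPt r hr0 hr ∈ B)
    (hur : H u r ≠ 0) (hux : H u x ≠ 0) : mkPt x hx0 hx ∈ B := by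
  have hσ2 := WittHerm.sigma_sigma hσ
  have hσur : σ (H u r) ≠ 0 := (map_ne_zero_iff _ σ.injective).2 hur
  have hσux : σ (H u x) ≠ 0 := (map_ne_zero_iff _ σ.injective).2 hux
  have hp : HypPair H u ((σ (H u r))⁻¹ • r) :=
    ⟨hu, iso_smul h hr _, by rw [h.smul_right, map_inv₀, hσ2, inv_mul_cancel₀ hur]⟩
  have hp' : HypPair H u ((σ (H u x))⁻¹ • x) :=
    ⟨hu, iso_smul h hx _, by rw [h.smul_right, map_inv₀, hσ2, inv_mul_cancel₀ hux]⟩
  obtain ⟨t, ht, htu, htr⟩ := exists_T_map_pair hσ h hnd hdim hbig hp hp'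
  have h1 : (⟨t, ht⟩ : ↥(T h)) • mkPt u hu0 hu ∈ B := by
    rw [smul_mkPt]
    have := mkPt_congr (H := H) htu (equiv_ne_zero t hu0) (T_iso h ⟨t, ht⟩ hu) hu0 hu
    rw [this]
    exact hPu
  have h2 := LongRoot.block_mem hB (⟨t, ht⟩ : ↥(T h)) hPu h1 hPr
  rw [smul_mkPt] at h2
  have h3 : t r = (σ (H u r) * (σ (H u x))⁻¹) • x := by
    have h4 : r = σ (H u r) • ((σ (H u r))⁻¹ • r) := by
      rw [smul_smul, mul_inv_cancel₀ hσur, one_smul]
    conv_lhs => rw [h4]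
    rw [map_smul, htr, smul_smul]
  have h5 : mkPt (t r) (equiv_ne_zero t hr0) (T_iso h ⟨t, ht⟩ hr) = mkPt x hx0 hx := by
    rw [mkPt_congr (H := H) h3 (equiv_ne_zero t hr0) (T_iso h ⟨t, ht⟩ hr)
      (smul_ne_zero (mul_ne_zero hσur (inv_ne_zero hσux)) hx0) (iso_smul h hx _)]
    exact mkPt_smul h x hx0 hx _ (mul_ne_zero hσur (inv_ne_zero hσux))
  rw [← h5]
  exact h2

/-- a block containing two non-perpendicular points is everything -/
theorem block_nonperp (hσ : orderOf σ = 2) (h : IsHerm σ H)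
    (hnd : ∀ v, (∀ w, H v w = 0) → v = 0) (hdim : 3 ≤ finrank F V)
    (hbig : finrank F V = 3 → ∃ c : F, σ c = c ∧ c ≠ 0 ∧ c ≠ 1)
    {B : Set (Pts H)} (hB : MulAction.IsBlock ↥(T h) B) (u r : V)
    (hu0 : u ≠ 0) (hu : H u u = 0) (hr0 : r ≠ 0) (hr : H r r = 0)
    (hPu : mkPt u hu0 hu ∈ B) (hPr : mkPt r hr0 hr ∈ B)
    (hur : H u r ≠ 0) : B = Set.univ := by
  rw [Set.eq_univ_iff_forall]
  intro X
  obtain ⟨x, hx0, hx, rfl⟩ := exists_rep X
  by_cases hux : H u x = 0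
  · obtain ⟨y, hy, huy, hyx⟩ := exists_bridge hσ h hnd hu hu0 hx0 hux
    have hy0 : y ≠ 0 := by
      rintro rfl
      rw [h.zero_right] at huy
      exact huy rfl
    have hPy := block_step hσ h hnd hdim hbig hB u r y hu0 hu hr0 hr hy0 hy hPu hPr hur huy
    have hyu : H y u ≠ 0 := by
      rw [h.symm u y]
      exact (map_ne_zero_iff _ σ.injective).2 huy
    exact block_step hσ h hnd hdim hbig hB y u x hy0 hy hu0 hu hx0 hx hPy hPu hyu hyx
  · exact block_step hσ h hnd hdim hbig hB u r x hu0 hu hr0 hr hx0 hx hPu hPr hur hux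

/-- a block containing two distinct perpendicular points is everything -/
theorem block_perp (hσ : orderOf σ = 2) (h : IsHerm σ H)
    (hnd : ∀ v, (∀ w, H v w = 0) → v = 0) (hdim : 3 ≤ finrank F V)
    (hbig : finrank F V = 3 → ∃ c : F, σ c = c ∧ c ≠ 0 ∧ c ≠ 1)
    {B : Set (Pts H)} (hB : MulAction.IsBlock ↥(T h) B) (u r : V)
    (hu0 : u ≠ 0) (hu : H u u = 0) (hr0 : r ≠ 0) (hr : H r r = 0)
    (hPu : mkPt u hu0 hu ∈ B) (hPr : mkPt r hr0 hr ∈ B)
    (hur : H u r = 0) (hne : mkPt u hu0 hu ≠ mkPt r hr0 hr) :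
    B = Set.univ := by
  have hind : ∀ s t : F, s • u + t • r = 0 → s = 0 ∧ t = 0 := by
    intro s t hst
    by_cases ht : t = 0
    · rw [ht, zero_smul, add_zero] at hst
      rcases smul_eq_zero.1 hst with h' | h'
      · exact ⟨h', ht⟩
      · exact absurd h' hu0
    · exfalso
      apply hne
      rw [mkPt_eq_iff h]
      have hs : s ≠ 0 := by
        rintro rfl
        rw [zero_smul, zero_add] at hst
        rcases smul_eq_zero.1 hst with h' | h'
        · exact ht h'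
        · exact hr0 h'
      refine ⟨-(t⁻¹ * s), neg_ne_zero.2 (mul_ne_zero (inv_ne_zero ht) hs), ?_⟩
      have h1 : t • r = -(s • u) := eq_neg_of_add_eq_zero_right hst
      have h2 : r = t⁻¹ • (t • r) := by rw [smul_smul, inv_mul_cancel₀ ht, one_smul]
      rw [h2, h1, smul_neg, smul_smul, neg_smul]
  obtain ⟨t, ht, htu, htr⟩ := exists_T_move_perp hσ h hnd hu0 hr hur hind
  have h1 : (⟨t, ht⟩ : ↥(T h)) • mkPt u hu0 hu ∈ B := by
    rw [smul_mkPt]
    have := mkPt_congr (H := H) htu (equiv_ne_zero t hu0) (T_iso h ⟨t, ht⟩ hu) hu0 hu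
    rw [this]
    exact hPu
  have h2 := LongRoot.block_mem hB (⟨t, ht⟩ : ↥(T h)) hPu h1 hPr
  rw [smul_mkPt] at h2
  exact block_nonperp hσ h hnd hdim hbig hB r _ hr0 hr (equiv_ne_zero t hr0)
    (T_iso h ⟨t, ht⟩ hr) hPr h2 htr

/-- the action of `T` on the isotropic points is primitive -/
theorem isPreprimitive (hσ : orderOf σ = 2) (h : IsHerm σ H)
    (hnd : ∀ v, (∀ w, H v w = 0) → v = 0) (hdim : 3 ≤ finrank F V)
    (hbig : finrank F V = 3 → ∃ c : F, σ c = c ∧ c ≠ 0 ∧ c ≠ 1) :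
    MulAction.IsPreprimitive ↥(T h) (Pts H) := by
  haveI : MulAction.IsPretransitive ↥(T h) (Pts H) := ⟨fun P R => by
    obtain ⟨u, hu0, hu, rfl⟩ := exists_rep P
    obtain ⟨r, hr0, hr, rfl⟩ := exists_rep R
    obtain ⟨t, ht, htu⟩ := exists_T_map_iso hσ h hnd hdim hu hr hu0 hr0
    exact ⟨⟨t, ht⟩, by rw [smul_mkPt]; exact mkPt_congr htu _ _ _ _⟩⟩
  constructor
  intro B hB
  by_cases hsub : B.Subsingleton
  · exact Or.inl hsub
  · right
    rw [Set.not_subsingleton_iff] at hsub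
    obtain ⟨P, hP, R, hR, hne⟩ := hsub
    obtain ⟨u, hu0, hu, rfl⟩ := exists_rep P
    obtain ⟨r, hr0, hr, rfl⟩ := exists_rep R
    by_cases hur : H u r = 0
    · exact block_perp hσ h hnd hdim hbig hB u r hu0 hu hr0 hr hP hR hur hne
    · exact block_nonperp hσ h hnd hdim hbig hB u r hu0 hu hr0 hr hP hR hur

end UT

end Cfsg.Agent.Lib.Helper2
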