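import Mathlib
import Cfsg.Agent.Lib.Helper2.UT16

set_option autoImplicit false

namespace Cfsg.Agent.Lib.Helper2

namespace UT

open Module IsomDecomp HermDecomp Cfsg.Agent.Lib.Helper5.PSLCoset
open scoped Pointwise

/-- a perfect group all of whose proper normal subgroups are central has a simple central
quotient -/
theorem simple_quot_center {G : Type*} [Group G] [Nontrivial G] (hperf : commutator G = ⊤)
    (hdich : ∀ N : Subgroup G, N.Normal → N ≤ Subgroup.center G ∨ N = ⊤) :
    IsSimpleGroup (G ⧸ Subgroup.center G) := by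
  have hnt : Nontrivial (G ⧸ Subgroup.center G) := by
    by_contra hcon
    rw [not_nontrivial_iff_subsingleton] at hcon
    have h1 := QuotientGroup.subgroup_eq_top_of_subsingleton _ hcon
    have h2 := (commutator_eq_bot_iff_center_eq_top G).2 h1
    rw [hperf] at h2
    exact bot_ne_top h2.symm
  refine { toNontrivial := hnt, eq_bot_or_eq_top_of_normal := ?_ }
  intro N' hN'
  have hn : (N'.comap (QuotientGroup.mk' (Subgroup.center G))).Normal := hN'.comap _
  rcases hdich (N'.comap (QuotientGroup.mk' (Subgroup.center G))) hn with h | h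
  · left
    rw [Subgroup.eq_bot_iff_forall]
    intro x' hx'
    obtain ⟨x, rfl⟩ := QuotientGroup.mk'_surjective _ x'
    have hx : x ∈ N'.comap (QuotientGroup.mk' (Subgroup.center G)) := hx'
    exact (QuotientGroup.eq_one_iff x).2 (h hx)
  · right
    rw [eq_top_iff]
    intro x' _
    obtain ⟨x, rfl⟩ := QuotientGroup.mk'_surjective _ x'
    have hx : x ∈ N'.comap (QuotientGroup.mk' (Subgroup.center G)) := by
      rw [h]; exact Subgroup.mem_top x
    exact hx

section iwasawa

variable {F : Type*} [Field F] {σ : F ≃+* F} {V : Type*} [AddCommGroup V] [Module F V]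
  {H : V → V → F}

/-- the transvections at a point -/
def gens (h : IsHerm σ H) (P : Pts H) : Set ↥(T h) :=
  {t | ∃ (u : V) (c : F) (hu : H u u = 0), σ c = -c ∧ u ∈ P.1 ∧
    (t : V ≃ₗ[F] V) = tv h u c hu}

/-- the root subgroup at a point -/
def A (h : IsHerm σ H) (P : Pts H) : Subgroup ↥(T h) := Subgroup.closure (gens h P)

theorem conj_gens_subset (h : IsHerm σ H) (g : ↥(T h)) (P : Pts H) :
    MulAut.conj g • gens h P ⊆ gens h (g • P) := by
  intro x hx
  obtain ⟨t, ht, rfl⟩ := Set.mem_smul_set.1 hx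
  obtain ⟨u, c, hu, hc, huP, htc⟩ := ht
  refine ⟨(g : V ≃ₗ[F] V) u, c, T_iso h g hu, hc, mem_smul_pt h g P huP, ?_⟩
  rw [MulAut.smul_def, MulAut.conj_apply]
  show (g : V ≃ₗ[F] V) * (t : V ≃ₗ[F] V) * (g : V ≃ₗ[F] V)⁻¹ = _
  rw [htc, conj_tv h (T_le_isom h g.2)]

theorem gens_smul (h : IsHerm σ H) (g : ↥(T h)) (P : Pts H) :
    gens h (g • P) = MulAut.conj g • gens h P := by
  apply Set.Subset.antisymm
  · intro t ht
    rw [Set.mem_smul_set_iff_inv_smul_mem]
    have h1 := conj_gens_subset h g⁻¹ (g • P)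
    rw [inv_smul_smul] at h1
    apply h1
    rw [← map_inv]
    exact Set.smul_mem_smul_set ht
  · exact conj_gens_subset h g P

theorem A_smul (h : IsHerm σ H) (g : ↥(T h)) (P : Pts H) :
    A h (g • P) = MulAut.conj g • A h P := by
  unfold A
  rw [Subgroup.smul_closure, gens_smul]

theorem tv_comm (h : IsHerm σ H) (w : V) (hw : H w w = 0) (a a' c c' : F) :
    tv h (a • w) c (iso_smul h hw a) * tv h (a' • w) c' (iso_smul h hw a') =
      tv h (a' • w) c' (iso_smul h hw a') * tv h (a • w) c (iso_smul h hw a) := by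
  apply LinearEquiv.ext
  intro x
  simp only [LinearEquiv.mul_apply, tv_apply, h.add_left, h.smul_left, h.smul_right, hw, mul_zero,
    add_zero]
  module

theorem A_comm (h : IsHerm σ H) (P : Pts H) : IsMulCommutative ↥(A h P) := by
  apply Subgroup.isMulCommutative_closure
  intro x hx y hy
  obtain ⟨u, c, hu, hc, huP, hxc⟩ := hx
  obtain ⟨u', c', hu', hc', hu'P, hyc⟩ := hy
  obtain ⟨w, hw0, hw, hPw⟩ := P.2
  rw [hPw] at huP hu'P
  obtain ⟨a, ha⟩ := Submodule.mem_span_singleton.1 huP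
  obtain ⟨a', ha'⟩ := Submodule.mem_span_singleton.1 hu'P
  subst ha
  subst ha'
  apply Subtype.ext
  show (x : V ≃ₗ[F] V) * (y : V ≃ₗ[F] V) = (y : V ≃ₗ[F] V) * (x : V ≃ₗ[F] V)
  rw [hxc, hyc]
  exact tv_comm h w hw a a' c c'

theorem tv_zero (h : IsHerm σ H) (c : F) (hv : H (0 : V) 0 = 0) : tv h (0 : V) c hv = 1 := by
  apply LinearEquiv.ext
  intro x
  rw [tv_apply, smul_zero, add_zero]
  rfl

theorem iSup_A (h : IsHerm σ H) : iSup (A h) = ⊤ := by
  rw [eq_top_iff]
  intro x hx
  clear hx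
  obtain ⟨g, hg⟩ := x
  show (⟨g, hg⟩ : ↥(T h)) ∈ iSup (A h)
  unfold T at hg
  induction hg using Subgroup.closure_induction with
  | mem y hy =>
    obtain ⟨v, c, hv, hc, hyc⟩ := hy
    by_cases hv0 : v = 0
    · have h1 : y = 1 := by
        rw [hyc]
        subst hv0
        exact tv_zero h c hv
      have h2 : (⟨y, Subgroup.subset_closure ⟨v, c, hv, hc, hyc⟩⟩ : ↥(T h)) = 1 :=
        Subtype.ext h1
      rw [h2]
      exact Subgroup.one_mem _
    · apply Subgroup.mem_iSup_of_mem (mkPt v hv0 hv)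
      apply Subgroup.subset_closure
      exact ⟨v, c, hv, hc, Submodule.mem_span_singleton_self v, hyc⟩
  | one => exact Subgroup.one_mem _
  | mul y z hy hz ihy ihz =>
    have : (⟨y * z, Subgroup.mul_mem _ hy hz⟩ : ↥(T h)) = ⟨y, hy⟩ * ⟨z, hz⟩ := rfl
    rw [this]
    exact Subgroup.mul_mem _ ihy ihz
  | inv y hy ihy =>
    have : (⟨y⁻¹, Subgroup.inv_mem _ hy⟩ : ↥(T h)) = (⟨y, hy⟩ : ↥(T h))⁻¹ := rfl
    rw [this]
    exact Subgroup.inv_mem _ ihy

/-- the Iwasawa structure on the isotropic points -/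
def iwasawa (h : IsHerm σ H) : MulAction.IwasawaStructure ↥(T h) (Pts H) where
  T := A h
  is_comm := A_comm h
  is_conj := A_smul h
  is_generator := iSup_A h

end iwasawa

universe u

variable {F : Type u} [Field F] [Finite F] {σ : F ≃+* F} {V : Type u} [AddCommGroup V]
  [Module F V] [FiniteDimensional F V] {H : V → V → F}

/-- a normal subgroup of `T` is central or contains the commutator subgroup -/
theorem normal_dichotomy (hσ : orderOf σ = 2) (h : IsHerm σ H)
    (hnd : ∀ v, (∀ w, H v w = 0) → v = 0) (hdim : 3 ≤ finrank F V)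
    (hbig : finrank F V = 3 → ∃ c : F, σ c = c ∧ c ≠ 0 ∧ c ≠ 1)
    (N : Subgroup ↥(T h)) [N.Normal] :
    N ≤ Subgroup.center ↥(T h) ∨ commutator ↥(T h) ≤ N := by
  haveI := isPreprimitive hσ h hnd hdim hbig
  by_cases hfix : MulAction.fixedPoints N (Pts H) = Set.univ
  · left
    intro n hn'
    have hfixn : ∀ P : Pts H, n • P = P := by
      intro P
      have hP : P ∈ MulAction.fixedPoints N (Pts H) := by rw [hfix]; exact Set.mem_univ P
      exact hP ⟨n, hn'⟩
    have hvec : ∀ x : V, x ≠ 0 → H x x = 0 →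
        ∃ l : F, ((n : V ≃ₗ[F] V) : V →ₗ[F] V) x = l • x := by
      intro x hx0 hx
      have h1 := hfixn (mkPt x hx0 hx)
      rw [smul_mkPt] at h1
      obtain ⟨a, -, ha⟩ := (mkPt_eq_iff h _ _ _ _ _ _).1 h1
      have ha0 : a ≠ 0 := by
        rintro rfl
        rw [zero_smul] at ha
        exact hx0 ha
      refine ⟨a⁻¹, ?_⟩
      show (n : V ≃ₗ[F] V) x = a⁻¹ • x
      conv_rhs => rw [ha]
      rw [smul_smul, inv_mul_cancel₀ ha0, one_smul]
    obtain ⟨l, hl⟩ := scalar_of_fix hσ h hnd (by omega) _ hvec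
    rw [Subgroup.mem_center_iff]
    intro m
    apply Subtype.ext
    apply LinearEquiv.ext
    intro v
    show (m : V ≃ₗ[F] V) ((n : V ≃ₗ[F] V) v) = (n : V ≃ₗ[F] V) ((m : V ≃ₗ[F] V) v)
    have h1 : ∀ y, (n : V ≃ₗ[F] V) y = l • y := hl
    rw [h1, h1, map_smul]
  · right
    exact (iwasawa h).commutator_le N hfix

theorem nontrivial_T (hσ : orderOf σ = 2) (h : IsHerm σ H)
    (hnd : ∀ v, (∀ w, H v w = 0) → v = 0) (hdim : 3 ≤ finrank F V) : Nontrivial ↥(T h) := by
  obtain ⟨u, v, hp⟩ := exists_hypPair hσ h hnd (by omega)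
  have hu0 : u ≠ 0 := by
    intro h0
    have := hp.uv
    rw [h0, h.zero_left] at this
    exact zero_ne_one this
  have hv0 : v ≠ 0 := by
    intro h0
    have := hp.uv
    rw [h0, h.zero_right] at this
    exact zero_ne_one this
  obtain ⟨t, ht, htu⟩ := exists_T_map_iso hσ h hnd hdim hp.uu hp.vv hu0 hv0
  refine ⟨⟨⟨t, ht⟩, 1, ?_⟩⟩
  intro h1
  have h2 : t = 1 := congrArg Subtype.val h1
  rw [h2] at htu
  have h3 : u = v := htu
  have := hp.uv
  rw [h3, hp.vv] at this
  exact zero_ne_one this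

/-- `T / Z(T)` is simple as soon as `T` is perfect -/
theorem simple_quotient (hσ : orderOf σ = 2) (h : IsHerm σ H)
    (hnd : ∀ v, (∀ w, H v w = 0) → v = 0) (hdim : 3 ≤ finrank F V)
    (hbig : finrank F V = 3 → ∃ c : F, σ c = c ∧ c ≠ 0 ∧ c ≠ 1)
    (hperf : commutator ↥(T h) = ⊤) : IsSimpleGroup (↥(T h) ⧸ Subgroup.center ↥(T h)) := by
  haveI := nontrivial_T hσ h hnd hdim
  apply simple_quot_center hperf
  intro N hN
  rcases normal_dichotomy hσ h hnd hdim hbig N with h1 | h1
  · exact Or.inl h1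
  · right
    rw [hperf] at h1
    exact top_le_iff.1 h1

end UT

end Cfsg.Agent.Lib.Helper2
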