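import Mathlib
import Cfsg.Agent.Lib.Helper2.UT17
import Cfsg.Agent.Lib.Helper2.UT13
import Cfsg.Agent.Lib.Helper2.EquivComm
import Cfsg.Agent.S0781

set_option autoImplicit false

namespace Cfsg.Agent.Lib.Helper2

namespace UT

open Module IsomDecomp HermDecomp Cfsg.Agent.Lib.Helper5.PSLCoset Matrix

universe u

variable {F : Type u} [Field F] [Fintype F] {n q : ℕ}

/-- `SU_n(q)` is perfect -/
theorem commutator_SU (hF : Fintype.card F = q ^ 2) (hn : 3 ≤ n) (h32 : ¬ (n = 3 ∧ q = 2)) :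
    commutator ↥(Cfsg.SU n F q) = ⊤ := by
  have hq2 : 2 ≤ q := Cfsg.Agent.Lib.Helper1.HermCount.two_le_q hF
  rw [eq_top_iff, ← closure_transvections hF hn h32, Subgroup.closure_le]
  rintro A ⟨v, c, hv, hA⟩
  rw [commutator_eq_closure]
  apply Subgroup.subset_closure
  apply Cfsg.Agent.S0781.result hF n _ A v c hv hA
  by_cases h4 : 4 ≤ n
  · exact Or.inl h4
  · right
    have h3 : n = 3 := by omega
    refine ⟨h3, ?_⟩
    by_contra hlt
    exact h32 ⟨h3, by omega⟩

/-- the image of `SU_n(q)` in the linear automorphisms is the group generated by the unitary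
transvections -/
theorem range_suLin (hF : Fintype.card F = q ^ 2) (hn : 3 ≤ n) (h32 : ¬ (n = 3 ∧ q = 2))
    {σ : F ≃+* F} (hσ : orderOf σ = 2) (hσq : ∀ a : F, σ a = a ^ q)
    (h : IsHerm σ (Cfsg.hermForm n F q)) : (suLin n F q).range = T h := by
  classical
  have hq2 : 2 ≤ q := Cfsg.Agent.Lib.Helper1.HermCount.two_le_q hF
  have hnd : ∀ v : Fin n → F, (∀ w, Cfsg.hermForm n F q v w = 0) → v = 0 :=
    fun v hv => GUIsom.hermForm_nondeg n q (by omega) v hv
  have hbig : n = 3 → ∃ c : F, σ c = c ∧ c ≠ 0 ∧ c ≠ 1 := by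
    intro h3
    have hq3 : 3 ≤ q := by
      by_contra hlt
      exact h32 ⟨h3, by omega⟩
    obtain ⟨c, hc, hc0, hc1⟩ := exists_fixed_ne hF hq3
    exact ⟨c, by rw [hσq, hc], hc0, hc1⟩
  have hdim : finrank F (Fin n → F) = n := by
    rw [Module.finrank_fin_fun]
  apply le_antisymm
  · rintro g ⟨A, rfl⟩
    exact mem_T_main (F := F) hσ n (by omega) (Fin n → F) (Cfsg.hermForm n F q) h hnd hdim hbig
      (suLin n F q A) (suLin_mem_isom A) (det_suLin A)
  · unfold T
    rw [Subgroup.closure_le]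
    rintro g ⟨v, c, hv, hc, rfl⟩
    have hdet : (Cfsg.unitaryTransvection n q v c).det = 1 := by
      unfold Cfsg.unitaryTransvection
      rw [HermFrames.det_rank_one, hv, mul_zero, add_zero]
    have hpres : ∀ x y, Cfsg.hermForm n F q (Cfsg.unitaryTransvection n q v c *ᵥ x)
        (Cfsg.unitaryTransvection n q v c *ᵥ y) = Cfsg.hermForm n F q x y := by
      intro x y
      rw [Herm.herm_transvection hF v hv c x y, ← hσq, hc]
      ring
    refine ⟨UnitaryComm.mkSU _ hdet hpres, ?_⟩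
    apply LinearEquiv.ext
    intro x
    rw [suLin_apply, UnitaryComm.mkSU_coe, Herm.unitaryTransvection_mulVec, tv_apply]

/-- `PSU_n(q)` is simple -/
theorem simple_PSU (hF : Fintype.card F = q ^ 2) (hn : 3 ≤ n) (h32 : ¬ (n = 3 ∧ q = 2)) :
    IsSimpleGroup (Cfsg.PSU n F q) := by
  classical
  obtain ⟨σ, hσ, hσq⟩ := exists_sigma hF
  have hσ2 := WittHerm.sigma_sigma hσ
  have hq2 : 2 ≤ q := Cfsg.Agent.Lib.Helper1.HermCount.two_le_q hF
  have h := GUIsom.isHerm_hermForm n q σ hσ2 hσq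
  have hnd : ∀ v : Fin n → F, (∀ w, Cfsg.hermForm n F q v w = 0) → v = 0 :=
    fun v hv => GUIsom.hermForm_nondeg n q (by omega) v hv
  have hdim : finrank F (Fin n → F) = n := by
    rw [Module.finrank_fin_fun]
  have hbig : finrank F (Fin n → F) = 3 → ∃ c : F, σ c = c ∧ c ≠ 0 ∧ c ≠ 1 := by
    intro h3
    rw [hdim] at h3
    have hq3 : 3 ≤ q := by
      by_contra hlt
      exact h32 ⟨h3, by omega⟩
    obtain ⟨c, hc, hc0, hc1⟩ := exists_fixed_ne hF hq3
    exact ⟨c, by rw [hσq, hc], hc0, hc1⟩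
  have e : ↥(Cfsg.SU n F q) ≃* ↥(T h) :=
    (MonoidHom.ofInjective suLin_injective).trans
      (MulEquiv.subgroupCongr (range_suLin hF hn h32 hσ hσq h))
  have hperf : commutator ↥(T h) = ⊤ := by
    rw [← EquivComm.map_commutator_eq e, commutator_SU hF hn h32]
    exact Subgroup.map_top_of_surjective _ e.surjective
  haveI := simple_quotient hσ h hnd (by rw [hdim]; exact hn) hbig hperf
  exact (EquivComm.centerQuotEquiv e).isSimpleGroup_congr.2 inferInstance

end UT

end Cfsg.Agent.Lib.Helper2
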