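import Mathlib
import Cfsg.Prelude

/-!
# S2283: the special unitary group of degree 3 in antidiagonal coordinates

For a field automorphism `σ` with `σ ∘ σ = id` we consider the hermitian form
`hJ x y = x₀ σ(y₂) + x₁ σ(y₁) + x₂ σ(y₀)` and the subgroup `GJ σ` of `SL₃(F)` preserving it.
The upper triangular matrices of `GJ σ` form a Borel subgroup; explicit elements
`uG` (upper unitriangular), `lG` (lower unitriangular), `tG` (diagonal), `wG` (antidiagonal).
-/

set_option autoImplicit false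

namespace Cfsg.Agent.Lib.Helper2.SU3G

open Matrix

variable {F : Type*} [Field F] (σ : F ≃+* F)

/-- the antidiagonal hermitian form -/
def hJ (x y : Fin 3 → F) : F := x 0 * σ (y 2) + x 1 * σ (y 1) + x 2 * σ (y 0)

/-- the special unitary group of the antidiagonal form -/
def GJ : Subgroup (SpecialLinearGroup (Fin 3) F) :=
  Cfsg.preserving (Cfsg.slToMat 3 F) (hJ σ)

/-- the Gram matrix of the form -/
def JM : Matrix (Fin 3) (Fin 3) F := !![0, 0, 1; 0, 1, 0; 1, 0, 0]

/-- the matrix of an element -/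
abbrev mat {σ : F ≃+* F} (g : ↥(GJ σ)) : Matrix (Fin 3) (Fin 3) F :=
  ((g : SpecialLinearGroup (Fin 3) F) : Matrix (Fin 3) (Fin 3) F)

theorem slToMat_apply (A : SpecialLinearGroup (Fin 3) F) :
    Cfsg.slToMat 3 F A = (A : Matrix (Fin 3) (Fin 3) F) := rfl

theorem hJ_eq (x y : Fin 3 → F) :
    hJ σ x y = x ⬝ᵥ ((JM : Matrix (Fin 3) (Fin 3) F) *ᵥ (fun i => σ (y i))) := by
  simp [hJ, JM, dotProduct, Matrix.mulVec, Fin.sum_univ_three]

theorem map_mulVec (A : Matrix (Fin 3) (Fin 3) F) (y : Fin 3 → F) :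
    (fun i => σ ((A *ᵥ y) i)) = (A.map σ) *ᵥ (fun i => σ (y i)) := by
  funext i
  simp [Matrix.mulVec, dotProduct, map_sum, map_mul]

/-- the matrix criterion for membership -/
theorem mem_GJ_iff (A : SpecialLinearGroup (Fin 3) F) :
    A ∈ GJ σ ↔ (A : Matrix (Fin 3) (Fin 3) F)ᵀ * JM * (A : Matrix (Fin 3) (Fin 3) F).map σ = JM := by
  have key : ∀ x y : Fin 3 → F, hJ σ ((A : Matrix (Fin 3) (Fin 3) F) *ᵥ x)
      ((A : Matrix (Fin 3) (Fin 3) F) *ᵥ y) =
      x ⬝ᵥ (((A : Matrix (Fin 3) (Fin 3) F)ᵀ * JM * (A : Matrix (Fin 3) (Fin 3) F).map σ) *ᵥ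
        (fun i => σ (y i))) := by
    intro x y
    rw [hJ_eq, map_mulVec, Matrix.mulVec_mulVec, Matrix.dotProduct_mulVec, Matrix.vecMul_mulVec,
      ← Matrix.dotProduct_mulVec, Matrix.mul_assoc]
  constructor
  · intro h
    have h' : ∀ x y : Fin 3 → F, hJ σ ((A : Matrix (Fin 3) (Fin 3) F) *ᵥ x)
        ((A : Matrix (Fin 3) (Fin 3) F) *ᵥ y) = hJ σ x y := h
    ext i j
    have := h' (Pi.single i 1) (fun k => σ.symm ((Pi.single j 1 : Fin 3 → F) k))
    rw [key, hJ_eq] at this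
    simpa using this
  · intro h x y
    show hJ σ ((A : Matrix (Fin 3) (Fin 3) F) *ᵥ x) ((A : Matrix (Fin 3) (Fin 3) F) *ᵥ y) = hJ σ x y
    rw [key, h, hJ_eq]

/-- an element of the group from its matrix -/
def mkJ (A : Matrix (Fin 3) (Fin 3) F) (hdet : A.det = 1) (hA : Aᵀ * JM * A.map σ = JM) :
    ↥(GJ σ) :=
  ⟨⟨A, hdet⟩, (mem_GJ_iff σ _).2 hA⟩

@[simp] theorem mat_mkJ (A : Matrix (Fin 3) (Fin 3) F) (hdet : A.det = 1)
    (hA : Aᵀ * JM * A.map σ = JM) : mat (mkJ σ A hdet hA) = A := rfl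

variable {σ}

theorem mat_mul (g h : ↥(GJ σ)) : mat (g * h) = mat g * mat h := rfl

theorem mat_one : mat (1 : ↥(GJ σ)) = 1 := rfl

theorem mat_injective : Function.Injective (mat : ↥(GJ σ) → Matrix (Fin 3) (Fin 3) F) := by
  intro g h hgh
  apply Subtype.ext
  apply Subtype.ext
  exact hgh

theorem mat_det (g : ↥(GJ σ)) : (mat g).det = 1 := (g : SpecialLinearGroup (Fin 3) F).2

theorem mat_unitary (g : ↥(GJ σ)) : (mat g)ᵀ * JM * (mat g).map σ = JM :=
  (mem_GJ_iff σ _).1 g.2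


/-! ### explicit matrices -/

variable (σ)

/-- upper unitriangular -/
def uM (a b : F) : Matrix (Fin 3) (Fin 3) F := !![1, a, b; 0, 1, -σ a; 0, 0, 1]

/-- lower unitriangular -/
def lM (c d : F) : Matrix (Fin 3) (Fin 3) F := !![1, 0, 0; σ c, 1, 0; d, -c, 1]

/-- diagonal -/
def tM (l : F) : Matrix (Fin 3) (Fin 3) F := !![l, 0, 0; 0, σ l / l, 0; 0, 0, (σ l)⁻¹]

/-- antidiagonal -/
def wM : Matrix (Fin 3) (Fin 3) F := !![0, 0, 1; 0, -1, 0; 1, 0, 0]

/-- the condition on the parameters of a unitriangular element -/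
def IsU (a b : F) : Prop := b + σ b + a * σ a = 0

variable {σ}

theorem det_uM (a b : F) : (uM σ a b).det = 1 := by simp [uM, Matrix.det_fin_three]
theorem det_lM (c d : F) : (lM σ c d).det = 1 := by simp [lM, Matrix.det_fin_three]
theorem det_wM : (wM : Matrix (Fin 3) (Fin 3) F).det = 1 := by simp [wM, Matrix.det_fin_three]
theorem det_tM {l : F} (hl : l ≠ 0) : (tM σ l).det = 1 := by
  have h2 : σ l ≠ 0 := by simpa using hl
  simp [tM, Matrix.det_fin_three]
  field_simp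

theorem uM_unitary (hσ : ∀ a : F, σ (σ a) = a) {a b : F} (h : IsU σ a b) :
    (uM σ a b)ᵀ * JM * (uM σ a b).map σ = JM := by
  unfold IsU at h
  ext i j
  fin_cases i <;> fin_cases j <;>
    simp [uM, JM, Matrix.mul_apply, Fin.sum_univ_three, hσ] <;> linear_combination h

theorem lM_unitary (hσ : ∀ a : F, σ (σ a) = a) {c d : F} (h : IsU σ c d) :
    (lM σ c d)ᵀ * JM * (lM σ c d).map σ = JM := by
  unfold IsU at h
  ext i j
  fin_cases i <;> fin_cases j <;>
    simp [lM, JM, Matrix.mul_apply, Fin.sum_univ_three, hσ] <;> linear_combination h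

theorem wM_unitary : (wM : Matrix (Fin 3) (Fin 3) F)ᵀ * JM * (wM : Matrix (Fin 3) (Fin 3) F).map σ = JM := by
  ext i j
  fin_cases i <;> fin_cases j <;>
    simp [wM, JM, Matrix.mul_apply, Fin.sum_univ_three]

theorem tM_unitary (hσ : ∀ a : F, σ (σ a) = a) {l : F} (hl : l ≠ 0) :
    (tM σ l)ᵀ * JM * (tM σ l).map σ = JM := by
  have h2 : σ l ≠ 0 := by simpa using hl
  ext i j
  fin_cases i <;> fin_cases j <;>
    simp [tM, JM, Matrix.mul_apply, Fin.sum_univ_three, hσ] <;> field_simp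

/-- upper unitriangular elements -/
def uG (hσ : ∀ a : F, σ (σ a) = a) (a b : F) (h : IsU σ a b) : ↥(GJ σ) :=
  mkJ σ (uM σ a b) (det_uM a b) (uM_unitary hσ h)

/-- lower unitriangular elements -/
def lG (hσ : ∀ a : F, σ (σ a) = a) (c d : F) (h : IsU σ c d) : ↥(GJ σ) :=
  mkJ σ (lM σ c d) (det_lM c d) (lM_unitary hσ h)

/-- diagonal elements -/
def tG (hσ : ∀ a : F, σ (σ a) = a) (l : F) (hl : l ≠ 0) : ↥(GJ σ) :=
  mkJ σ (tM σ l) (det_tM hl) (tM_unitary hσ hl)

/-- the antidiagonal element -/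
def wG : ↥(GJ σ) := mkJ σ wM det_wM wM_unitary


@[simp] theorem mat_uG (hσ : ∀ a : F, σ (σ a) = a) (a b : F) (h : IsU σ a b) :
    mat (uG hσ a b h) = uM σ a b := rfl
@[simp] theorem mat_lG (hσ : ∀ a : F, σ (σ a) = a) (c d : F) (h : IsU σ c d) :
    mat (lG hσ c d h) = lM σ c d := rfl
@[simp] theorem mat_tG (hσ : ∀ a : F, σ (σ a) = a) (l : F) (hl : l ≠ 0) :
    mat (tG hσ l hl) = tM σ l := rfl
@[simp] theorem mat_wG : mat (wG : ↥(GJ σ)) = wM := rfl

/-! ### the parameter condition -/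

theorem IsU.zero : IsU σ (0 : F) 0 := by simp [IsU]

theorem IsU.mul (hσ : ∀ a : F, σ (σ a) = a) {a b a' b' : F} (h : IsU σ a b) (h' : IsU σ a' b') :
    IsU σ (a + a') (b + b' - a * σ a') := by
  unfold IsU at *
  simp only [map_add, map_sub, map_mul, hσ]
  linear_combination h + h'

theorem IsU.inv (hσ : ∀ a : F, σ (σ a) = a) {a b : F} (h : IsU σ a b) : IsU σ (-a) (σ b) := by
  unfold IsU at *
  simp only [map_neg, hσ]
  linear_combination h

theorem IsU.torus (hσ : ∀ a : F, σ (σ a) = a) {l : F} (hl : l ≠ 0) {a b : F} (h : IsU σ a b) :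
    IsU σ (l * l / σ l * a) (l * σ l * b) := by
  have h2 : σ l ≠ 0 := by simpa using hl
  unfold IsU at *
  simp only [map_mul, map_div₀, hσ]
  field_simp
  linear_combination (l * σ l) * h

/-- a skew element gives a central element -/
theorem IsU.skew {e : F} (he : σ e = -e) : IsU σ 0 e := by
  unfold IsU
  rw [he]; ring

/-! ### product formulas, matrix level -/

theorem uM_mul (a b a' b' : F) :
    uM σ a b * uM σ a' b' = uM σ (a + a') (b + b' - a * σ a') := by
  ext i j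
  fin_cases i <;> fin_cases j <;>
    simp [uM, Matrix.mul_apply, Fin.sum_univ_three] <;> ring

theorem uM_zero : uM σ (0 : F) 0 = 1 := by
  ext i j
  fin_cases i <;> fin_cases j <;> simp [uM]

theorem lM_mul (c d c' d' : F) :
    lM σ c d * lM σ c' d' = lM σ (c + c') (d + d' - c * σ c') := by
  ext i j
  fin_cases i <;> fin_cases j <;>
    simp [lM, Matrix.mul_apply, Fin.sum_univ_three] <;> ring

theorem lM_zero : lM σ (0 : F) 0 = 1 := by
  ext i j
  fin_cases i <;> fin_cases j <;> simp [lM]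

theorem wM_mul_wM : (wM : Matrix (Fin 3) (Fin 3) F) * wM = 1 := by
  ext i j
  fin_cases i <;> fin_cases j <;> simp [wM, Matrix.mul_apply, Fin.sum_univ_three]

theorem wM_uM_wM (a b : F) : wM * uM σ a b * wM = lM σ a b := by
  ext i j
  fin_cases i <;> fin_cases j <;>
    simp [wM, uM, lM, Matrix.mul_apply, Fin.sum_univ_three]

theorem tM_mul_uM (hσ : ∀ a : F, σ (σ a) = a) {l : F} (hl : l ≠ 0) (a b : F) :
    tM σ l * uM σ a b = uM σ (l * l / σ l * a) (l * σ l * b) * tM σ l := by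
  have h2 : σ l ≠ 0 := by simpa using hl
  ext i j
  fin_cases i <;> fin_cases j <;>
    simp [tM, uM, Matrix.mul_apply, Fin.sum_univ_three, hσ] <;> field_simp

theorem tM_mul_tM {l l' : F} (hl : l ≠ 0) (hl' : l' ≠ 0) :
    tM σ l * tM σ l' = tM σ (l * l') := by
  have h2 : σ l ≠ 0 := by simpa using hl
  have h2' : σ l' ≠ 0 := by simpa using hl'
  ext i j
  fin_cases i <;> fin_cases j <;>
    simp [tM, Matrix.mul_apply, Fin.sum_univ_three] <;> field_simp

theorem tM_one : tM σ (1 : F) = 1 := by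
  ext i j
  fin_cases i <;> fin_cases j <;> simp [tM]

/-! ### product formulas, group level -/

section group
variable (hσ : ∀ a : F, σ (σ a) = a)

theorem uG_mul {a b a' b' : F} (h : IsU σ a b) (h' : IsU σ a' b') :
    uG hσ a b h * uG hσ a' b' h' = uG hσ (a + a') (b + b' - a * σ a') (h.mul hσ h') := by
  apply mat_injective
  rw [mat_mul, mat_uG, mat_uG, mat_uG, uM_mul]

theorem uG_zero : uG hσ (0 : F) 0 IsU.zero = 1 := by
  apply mat_injective
  rw [mat_uG, mat_one, uM_zero]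

theorem uG_congr {a b a' b' : F} (h : IsU σ a b) (ha : a = a') (hb : b = b') :
    uG hσ a b h = uG hσ a' b' (ha ▸ hb ▸ h) := by
  subst ha; subst hb; rfl

theorem uG_inv {a b : F} (h : IsU σ a b) :
    (uG hσ a b h)⁻¹ = uG hσ (-a) (σ b) (h.inv hσ) := by
  apply inv_eq_of_mul_eq_one_right
  apply mat_injective
  rw [mat_mul, mat_uG, mat_uG, mat_one, uM_mul, ← uM_zero (σ := σ)]
  unfold IsU at h
  congr 1
  · ring
  · simp only [map_neg]; linear_combination h

theorem lG_mul {c d c' d' : F} (h : IsU σ c d) (h' : IsU σ c' d') :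
    lG hσ c d h * lG hσ c' d' h' = lG hσ (c + c') (d + d' - c * σ c') (h.mul hσ h') := by
  apply mat_injective
  rw [mat_mul, mat_lG, mat_lG, mat_lG, lM_mul]

theorem lG_inv {c d : F} (h : IsU σ c d) :
    (lG hσ c d h)⁻¹ = lG hσ (-c) (σ d) (h.inv hσ) := by
  apply inv_eq_of_mul_eq_one_right
  apply mat_injective
  rw [mat_mul, mat_lG, mat_lG, mat_one, lM_mul, ← lM_zero (σ := σ)]
  unfold IsU at h
  congr 1
  · ring
  · simp only [map_neg]; linear_combination h

theorem wG_mul_wG : (wG : ↥(GJ σ)) * wG = 1 := by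
  apply mat_injective
  rw [mat_mul, mat_wG, mat_one, wM_mul_wM]

theorem wG_inv : (wG : ↥(GJ σ))⁻¹ = wG := inv_eq_of_mul_eq_one_right wG_mul_wG

theorem wG_uG_wG {a b : F} (h : IsU σ a b) : wG * uG hσ a b h * wG = lG hσ a b h := by
  apply mat_injective
  rw [mat_mul, mat_mul, mat_wG, mat_uG, mat_lG, wM_uM_wM]

theorem tG_mul_uG {l : F} (hl : l ≠ 0) {a b : F} (h : IsU σ a b) :
    tG hσ l hl * uG hσ a b h = uG hσ (l * l / σ l * a) (l * σ l * b) (h.torus hσ hl) * tG hσ l hl := by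
  apply mat_injective
  rw [mat_mul, mat_mul, mat_tG, mat_uG, mat_uG, tM_mul_uM hσ hl]

end group

end Cfsg.Agent.Lib.Helper2.SU3G
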