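import Mathlib

/-!
# Package PK-FIELD2 of S2412: multipliers of large order
-/

set_option autoImplicit false

namespace Cfsg.Agent.Lib.Helper1.SUT

variable {F : Type*} [Field F] {σ : F ≃+* F}

section PKF
variable [Fintype F]

omit [Fintype F] in
theorem field2_pow_mul_mem (Γ : AddSubgroup F) (s : F) (hs : ∀ γ ∈ Γ, s * γ ∈ Γ) (n : ℕ) :
    ∀ γ ∈ Γ, s ^ n * γ ∈ Γ := by
  induction n with
  | zero => intro γ hγ; rwa [pow_zero, one_mul]
  | succ n ih => intro γ hγ; rw [pow_succ, mul_assoc]; exact ih _ (hs _ hγ)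

/-- the stabiliser subfield of an additive subgroup -/
def field2Stab (Γ : AddSubgroup F) : Subfield F where
  carrier := {s | ∀ γ ∈ Γ, s * γ ∈ Γ}
  mul_mem' := fun ha hb γ hγ => by rw [mul_assoc]; exact ha _ (hb _ hγ)
  one_mem' := fun γ hγ => by rwa [one_mul]
  add_mem' := fun ha hb γ hγ => by rw [add_mul]; exact Γ.add_mem (ha _ hγ) (hb _ hγ)
  zero_mem' := fun γ _ => by rw [zero_mul]; exact Γ.zero_mem
  neg_mem' := fun ha γ hγ => by rw [neg_mul]; exact Γ.neg_mem (ha _ hγ)
  inv_mem' := by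
    intro s hs
    by_cases h0 : s = 0
    · rw [h0, inv_zero]
      intro γ _
      rw [zero_mul]
      exact Γ.zero_mem
    · have h1 : s ^ (Fintype.card F - 1) = 1 := FiniteField.pow_card_sub_one_eq_one s h0
      have hc : 2 ≤ Fintype.card F := Fintype.one_lt_card
      have h2 : s⁻¹ = s ^ (Fintype.card F - 2) := by
        apply inv_eq_of_mul_eq_one_right
        rw [← pow_succ']
        rw [show Fintype.card F - 2 + 1 = Fintype.card F - 1 by omega]
        exact h1
      rw [h2]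
      exact field2_pow_mul_mem Γ s hs _

theorem mem_field2Stab (Γ : AddSubgroup F) (s : F) :
    s ∈ field2Stab Γ ↔ ∀ γ ∈ Γ, s * γ ∈ Γ := Iff.rfl

/-- an additive subgroup stable under multiplication by an element of order `≥ q` is `0` or `F`
(`S = {s | s Γ ⊆ Γ}` is a subfield, `|F| = |S|^k`, `k ≥ 2` would give `|Sˣ| ≤ q - 1`) -/
theorem addSubgroup_eq_top_of_order {q : ℕ} (hF : Fintype.card F = q ^ 2) (Γ : AddSubgroup F)
    (ρ γ₀ : F) (hρ : q ≤ orderOf ρ) (hγ₀ : γ₀ ∈ Γ) (hγ₀0 : γ₀ ≠ 0)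
    (hmul : ∀ γ ∈ Γ, ρ * γ ∈ Γ) : Γ = ⊤ := by
  classical
  have hq2 : 2 ≤ q := by
    have h1 : 1 < Fintype.card F := Fintype.one_lt_card
    rw [hF] at h1
    by_contra h
    push Not at h
    interval_cases q <;> simp at h1
  set S := field2Stab Γ with hS
  have hρS : ρ ∈ S := hmul
  have hρ0 : ρ ≠ 0 := by
    rintro rfl
    rw [orderOf_eq_zero_iff.2 (by
      intro h
      obtain ⟨n, hn, h1⟩ := isOfFinOrder_iff_pow_eq_one.1 h
      rw [zero_pow (by omega)] at h1
      exact zero_ne_one h1)] at hρ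
    omega
  -- `S` has more than `q` elements
  have hcardS : q + 1 ≤ Fintype.card S := by
    let u : (↥S)ˣ := Units.mk0 ⟨ρ, hρS⟩ (by
      intro h
      exact hρ0 (congrArg Subtype.val h))
    have h1 : orderOf u = orderOf ρ := by
      rw [← orderOf_units, ← orderOf_injective (S.subtype : ↥S →+* F).toMonoidHom Subtype.val_injective]
      rfl
    have h2 : orderOf u ≤ Fintype.card (↥S)ˣ := orderOf_le_card_univ
    rw [Fintype.card_units] at h2
    have h3 : 0 < Fintype.card S := Fintype.card_pos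
    omega
  -- the degree is one
  have hpow : Fintype.card F = Fintype.card S ^ Module.finrank S F := Module.card_eq_pow_finrank
  have hk1 : Module.finrank S F = 1 := by
    have hpos : 0 < Module.finrank S F := Module.finrank_pos
    by_contra hne
    have h2 : 2 ≤ Module.finrank S F := by omega
    have h3 : Fintype.card S ^ 2 ≤ Fintype.card S ^ Module.finrank S F :=
      Nat.pow_le_pow_right (by omega) h2
    have h4 : (q + 1) ^ 2 ≤ Fintype.card S ^ 2 := Nat.pow_le_pow_left hcardS 2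
    rw [← hpow, hF] at h3
    nlinarith
  rw [hk1, pow_one] at hpow
  -- hence `S = F`
  have hStop : ∀ x : F, x ∈ S := by
    have h1 : S.toSubring.toAddSubgroup = ⊤ := by
      apply AddSubgroup.eq_top_of_card_eq
      rw [Nat.card_eq_fintype_card, Nat.card_eq_fintype_card, hpow]
      rfl
    intro x
    have : x ∈ S.toSubring.toAddSubgroup := by rw [h1]; trivial
    exact this
  rw [eq_top_iff]
  intro x _
  have h1 := (mem_field2Stab Γ _).1 (hStop (x * γ₀⁻¹)) γ₀ hγ₀
  rwa [inv_mul_cancel_right₀ hγ₀0] at h1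

theorem orderOf_gen {q : ℕ} (hF : Fintype.card F = q ^ 2) {θ : F}
    (hθ : ∀ x : F, x ≠ 0 → ∃ k : ℕ, x = θ ^ k) : orderOf θ = q ^ 2 - 1 := by
  classical
  have hq2 : 2 ≤ q := by
    have h1 : 1 < Fintype.card F := Fintype.one_lt_card
    rw [hF] at h1
    by_contra h
    push Not at h
    interval_cases q <;> simp at h1
  have hθ0 : θ ≠ 0 := by
    rintro rfl
    have h2 : 2 < Fintype.card F := by rw [hF]; nlinarith
    obtain ⟨a, b, c, hab, hac, hbc⟩ := Fintype.two_lt_card_iff.1 h2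
    have key : ∀ x : F, x = 0 ∨ x = 1 := by
      intro x
      by_cases hx : x = 0
      · exact Or.inl hx
      · obtain ⟨k, hk⟩ := hθ x hx
        rcases Nat.eq_zero_or_pos k with rfl | hk0
        · exact Or.inr (by rw [hk, pow_zero])
        · exact Or.inl (by rw [hk, zero_pow (by omega)])
    rcases key a with ha | ha <;> rcases key b with hb | hb <;> rcases key c with hc | hc <;>
      simp_all
  let u : Fˣ := Units.mk0 θ hθ0
  have h1 : ∀ v : Fˣ, v ∈ Subgroup.zpowers u := by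
    intro v
    obtain ⟨k, hk⟩ := hθ v v.ne_zero
    refine ⟨(k : ℤ), ?_⟩
    apply Units.ext
    simp only [zpow_natCast, Units.val_pow_eq_pow_val]
    exact hk.symm
  have h2 := orderOf_eq_card_of_forall_mem_zpowers h1
  rw [Nat.card_units, Nat.card_eq_fintype_card, hF] at h2
  rw [← h2, ← orderOf_units]
  rfl

theorem le_orderOf_gen_sq {q : ℕ} (hF : Fintype.card F = q ^ 2) {θ : F}
    (hθ : ∀ x : F, x ≠ 0 → ∃ k : ℕ, x = θ ^ k) : q ≤ orderOf (θ ^ 2) := by
  have hq2 : 2 ≤ q := by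
    have h1 : 1 < Fintype.card F := Fintype.one_lt_card
    rw [hF] at h1
    by_contra h
    push Not at h
    interval_cases q <;> simp at h1
  rw [orderOf_pow' θ (by norm_num : (2 : ℕ) ≠ 0), orderOf_gen hF hθ]
  rcases Nat.lt_or_ge q 3 with h3 | h3
  · have : q = 2 := by omega
    subst this
    norm_num
  · have hg : Nat.gcd (q ^ 2 - 1) 2 ≤ 2 := Nat.le_of_dvd (by norm_num) (Nat.gcd_dvd_right _ _)
    have hg0 : 0 < Nat.gcd (q ^ 2 - 1) 2 := Nat.gcd_pos_of_pos_right _ (by norm_num)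
    rw [Nat.le_div_iff_mul_le hg0]
    have h5 : q * Nat.gcd (q ^ 2 - 1) 2 ≤ q * 2 := Nat.mul_le_mul_left q hg
    have h6 : q * 2 + 1 ≤ q ^ 2 := by nlinarith
    omega

theorem sigma_gen_ne (hσ : orderOf σ = 2) {θ : F}
    (hθ : ∀ x : F, x ≠ 0 → ∃ k : ℕ, x = θ ^ k) : σ θ ≠ θ := by
  intro h
  have h1 : σ = 1 := by
    apply RingEquiv.ext
    intro x
    by_cases hx : x = 0
    · rw [hx, map_zero]
      rfl
    · obtain ⟨k, hk⟩ := hθ x hx
      rw [hk, map_pow, h]
      rfl
  rw [h1, orderOf_one] at hσ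
  omega

theorem sigma_gen (θ : F) (hθ : ∀ x : F, x ≠ 0 → ∃ k : ℕ, x = θ ^ k) :
    ∀ x : F, x ≠ 0 → ∃ k : ℕ, x = (σ θ) ^ k := by
  intro x hx
  have h1 : σ.symm x ≠ 0 := by
    intro h
    apply hx
    have := congrArg σ h
    rwa [RingEquiv.apply_symm_apply, map_zero] at this
  obtain ⟨k, hk⟩ := hθ _ h1
  refine ⟨k, ?_⟩
  have := congrArg σ hk
  rwa [RingEquiv.apply_symm_apply, map_pow] at this

end PKF

end Cfsg.Agent.Lib.Helper1.SUT
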