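import Mathlib
import Cfsg.Prelude
import Cfsg.Agent.Lib.Helper2.SU3G1

/-!
# S2283: a subgroup containing a regular unipotent element of the Borel subgroup and an element of
the Borel subgroup whose diagonal part generates the field contains the whole unipotent radical
-/

set_option autoImplicit false

namespace Cfsg.Agent.Lib.Helper2.SU3G

open Matrix

variable {F : Type*} [Field F] {σ : F ≃+* F} (hσ : ∀ a : F, σ (σ a) = a)

theorem IsU.add_skew {a b e : F} (h : IsU σ a b) (he : σ e = -e) : IsU σ a (b + e) := by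
  unfold IsU at *
  rw [map_add, he]
  linear_combination h

include hσ in
theorem skew_conj (a a₁ : F) : σ (-(a₁ * σ a) + a * σ a₁) = -(-(a₁ * σ a) + a * σ a₁) := by
  simp only [map_add, map_neg, map_mul, hσ]
  ring

/-- conjugation inside the unipotent radical -/
theorem uG_conj {a₁ b₁ a b : F} (h₁ : IsU σ a₁ b₁) (h : IsU σ a b) :
    uG hσ a₁ b₁ h₁ * uG hσ a b h * (uG hσ a₁ b₁ h₁)⁻¹ =
      uG hσ a (b + (-(a₁ * σ a) + a * σ a₁)) (h.add_skew (skew_conj hσ a a₁)) := by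
  rw [uG_inv]
  apply mat_injective
  simp only [mat_mul, mat_uG, uM_mul]
  unfold IsU at h₁
  congr 1
  · ring
  · simp only [map_neg]; linear_combination h₁

/-- the torus lemma -/
theorem U_le_of_torus (H : Subgroup ↥(GJ σ)) {a b : F} (h : IsU σ a b) (ha : a ≠ 0)
    (hu : uG hσ a b h ∈ H) {l : F} (hl : l ≠ 0) {a₁ b₁ : F} (h₁ : IsU σ a₁ b₁)
    (hW : tG hσ l hl * uG hσ a₁ b₁ h₁ ∈ H)
    (hgen : ∀ S : Subring F, l * l / σ l ∈ S → S = ⊤) (htr : ∃ y : F, y + σ y = 1) :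
    ∀ (a' b' : F) (h' : IsU σ a' b'), uG hσ a' b' h' ∈ H := by
  classical
  set A : Set F := {x | ∃ (y : F) (hy : IsU σ x y), uG hσ x y hy ∈ H} with hAdef
  have hA0 : (0 : F) ∈ A := ⟨0, IsU.zero, by rw [uG_zero]; exact H.one_mem⟩
  have hAadd : ∀ x x' : F, x ∈ A → x' ∈ A → x + x' ∈ A := by
    rintro x x' ⟨y, hy, hm⟩ ⟨y', hy', hm'⟩
    exact ⟨y + y' - x * σ x', hy.mul hσ hy', by rw [← uG_mul hσ hy hy']; exact H.mul_mem hm hm'⟩
  have hAneg : ∀ x : F, x ∈ A → -x ∈ A := by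
    rintro x ⟨y, hy, hm⟩
    exact ⟨σ y, hy.inv hσ, by rw [← uG_inv hσ hy]; exact H.inv_mem hm⟩
  have hAm : ∀ x : F, x ∈ A → l * l / σ l * x ∈ A := by
    rintro x ⟨y, hy, hm⟩
    have hc : tG hσ l hl * uG hσ a₁ b₁ h₁ * uG hσ x y hy * (tG hσ l hl * uG hσ a₁ b₁ h₁)⁻¹ ∈ H :=
      H.mul_mem (H.mul_mem hW hm) (H.inv_mem hW)
    have e1 : tG hσ l hl * uG hσ a₁ b₁ h₁ * uG hσ x y hy * (tG hσ l hl * uG hσ a₁ b₁ h₁)⁻¹ =
        tG hσ l hl * (uG hσ a₁ b₁ h₁ * uG hσ x y hy * (uG hσ a₁ b₁ h₁)⁻¹) * (tG hσ l hl)⁻¹ := by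
      group
    rw [e1, uG_conj hσ h₁ hy, tG_mul_uG hσ hl, mul_inv_cancel_right] at hc
    exact ⟨_, _, hc⟩
  -- the multiplier ring
  let S : Subring F :=
    { carrier := {x | ∀ z ∈ A, x * z ∈ A}
      mul_mem' := by
        intro x x' hx hx' z hz
        rw [mul_assoc]
        exact hx _ (hx' z hz)
      one_mem' := by
        intro z hz
        rwa [one_mul]
      add_mem' := by
        intro x x' hx hx' z hz
        rw [add_mul]
        exact hAadd _ _ (hx z hz) (hx' z hz)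
      zero_mem' := by
        intro z _
        rwa [zero_mul]
      neg_mem' := by
        intro x hx z hz
        rw [neg_mul]
        exact hAneg _ (hx z hz) }
  have hmS : l * l / σ l ∈ S := fun z hz => hAm z hz
  have hS : S = ⊤ := hgen S hmS
  have haA : a ∈ A := ⟨b, h, hu⟩
  have hAall : ∀ x : F, x ∈ A := by
    intro x
    have hx : x / a ∈ S := by rw [hS]; exact Subring.mem_top _
    have := hx a haA
    rwa [div_mul_cancel₀ x ha] at this
  -- the centre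
  have hZ : ∀ (e : F) (he : σ e = -e), uG hσ 0 e (IsU.skew he) ∈ H := by
    intro e he
    obtain ⟨y₀, hy₀⟩ := htr
    obtain ⟨y1, hy1, hm1⟩ := hAall 1
    obtain ⟨y2, hy2, hm2⟩ := hAall (e * y₀)
    have hc : uG hσ 1 y1 hy1 * uG hσ (e * y₀) y2 hy2 * (uG hσ 1 y1 hy1)⁻¹ *
        (uG hσ (e * y₀) y2 hy2)⁻¹ ∈ H :=
      H.mul_mem (H.mul_mem (H.mul_mem hm1 hm2) (H.inv_mem hm1)) (H.inv_mem hm2)
    have e2 : uG hσ 1 y1 hy1 * uG hσ (e * y₀) y2 hy2 * (uG hσ 1 y1 hy1)⁻¹ *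
        (uG hσ (e * y₀) y2 hy2)⁻¹ = uG hσ 0 e (IsU.skew he) := by
      rw [uG_conj hσ hy1 hy2, uG_inv hσ hy2]
      apply mat_injective
      simp only [mat_mul, mat_uG, uM_mul]
      unfold IsU at hy2
      congr 1
      · ring
      · simp only [map_neg, map_mul, map_one, he]
        have hy₀' : σ y₀ = 1 - y₀ := by rw [← hy₀]; ring
        simp only [map_mul, he, hy₀'] at hy2 ⊢
        linear_combination hy2
    rwa [e2] at hc
  intro a' b' h'
  obtain ⟨y, hy, hm⟩ := hAall a'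
  have he : σ (b' - y) = -(b' - y) := by
    unfold IsU at h' hy
    rw [map_sub]
    linear_combination h' - hy
  have e3 : uG hσ a' b' h' = uG hσ a' y hy * uG hσ 0 (b' - y) (IsU.skew he) := by
    apply mat_injective
    simp only [mat_mul, mat_uG, uM_mul]
    congr 1
    · ring
    · simp only [map_zero]; ring
  rw [e3]
  exact H.mul_mem hm (hZ _ he)

end Cfsg.Agent.Lib.Helper2.SU3G
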