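import Mathlib
import Cfsg.Prelude
import Cfsg.Agent.Lib.Helper2.SU3G2

/-!
# S2283: the main family of pairs of regular unipotent elements
-/

set_option autoImplicit false

namespace Cfsg.Agent.Lib.Helper2.SU3G

open Matrix

variable {F : Type*} [Field F] {σ : F ≃+* F} (hσ : ∀ a : F, σ (σ a) = a)

/-- `uM σ a b` is regular unipotent when `a ≠ 0` -/
theorem uM_regular {a : F} (ha : a ≠ 0) (b : F) :
    IsNilpotent (uM σ a b - 1) ∧ (uM σ a b - 1) ^ (3 - 1) ≠ 0 := by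
  have h2 : σ a ≠ 0 := by simpa using ha
  constructor
  · refine ⟨3, ?_⟩
    ext i j
    fin_cases i <;> fin_cases j <;>
      simp [uM, pow_succ, Matrix.mul_apply, Fin.sum_univ_three]
  · intro h
    have := congrFun (congrFun h 0) 2
    simp [uM, pow_succ, Matrix.mul_apply, Fin.sum_univ_three] at this
    exact ha this

/-- the word `v u v` of the main family is upper triangular -/
theorem W_entries {c C y Y : F} (hy : y + Y = 1) (hc : c * C * (y * Y) = -1) :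
    ((!![1, 0, 0; C, 1, 0; y⁻¹, -c, 1] : Matrix (Fin 3) (Fin 3) F) *
        !![1, c, Y - y + Y⁻¹; 0, 1, -C; 0, 0, 1] * !![1, 0, 0; C, 1, 0; y⁻¹, -c, 1]) 1 0 = 0 ∧
    ((!![1, 0, 0; C, 1, 0; y⁻¹, -c, 1] : Matrix (Fin 3) (Fin 3) F) *
        !![1, c, Y - y + Y⁻¹; 0, 1, -C; 0, 0, 1] * !![1, 0, 0; C, 1, 0; y⁻¹, -c, 1]) 2 0 = 0 ∧
    ((!![1, 0, 0; C, 1, 0; y⁻¹, -c, 1] : Matrix (Fin 3) (Fin 3) F) *
        !![1, c, Y - y + Y⁻¹; 0, 1, -C; 0, 0, 1] * !![1, 0, 0; C, 1, 0; y⁻¹, -c, 1]) 0 0 = Y / y := by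
  have hy0 : y ≠ 0 := by
    rintro rfl
    simp at hc
  have hY0 : Y ≠ 0 := by
    rintro rfl
    simp at hc
  have hc0 : c ≠ 0 := by
    rintro rfl
    simp at hc
  have hY : Y = 1 - y := by linear_combination hy
  have h1y : (1 : F) - y ≠ 0 := hY ▸ hY0
  have hC : C = -1 / (c * (y * (1 - y))) := by
    rw [hY] at hc
    field_simp
    linear_combination hc
  subst hY
  subst hC
  refine ⟨?_, ?_, ?_⟩ <;>
    simp [Matrix.mul_apply, Fin.sum_univ_three] <;> field_simp <;> ring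

end Cfsg.Agent.Lib.Helper2.SU3G
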