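import Mathlib
import Cfsg.Prelude
import Cfsg.Agent.Lib.Helper2.SU3G3
import Cfsg.Agent.Lib.Helper2.WittHerm
import Cfsg.Agent.Lib.Helper2.UT3

/-!
# S2283: the generation criterion and the main family
-/

set_option autoImplicit false

namespace Cfsg.Agent.Lib.Helper2.SU3G

open Matrix

variable {F : Type*} [Field F] {σ : F ≃+* F}

/-- the statement of the Borel decomposition (package A) -/
def BdecStmt (σ : F ≃+* F) (hσ : ∀ a : F, σ (σ a) = a) : Prop :=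
  ∀ g : ↥(GJ σ), mat g 1 0 = 0 → mat g 2 0 = 0 →
    ∃ (hl : mat g 0 0 ≠ 0) (a b : F) (h : IsU σ a b), g = tG hσ (mat g 0 0) hl * uG hσ a b h

/-- the statement of the endgame (package B) -/
def EndStmt (σ : F ≃+* F) (hσ : ∀ a : F, σ (σ a) = a) : Prop :=
  ∀ H : Subgroup ↥(GJ σ), (∀ (a b : F) (h : IsU σ a b), uG hσ a b h ∈ H) →
    ∀ g : ↥(GJ σ), g ∈ H → mat g 2 0 ≠ 0 → H = ⊤

/-- the generation criterion -/
theorem criterion (hσo : orderOf σ = 2) (hσ : ∀ a : F, σ (σ a) = a)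
    (hB : BdecStmt σ hσ) (hE : EndStmt σ hσ)
    {a b c d : F} (hab : IsU σ a b) (hcd : IsU σ c d) (ha : a ≠ 0) (hd : d ≠ 0)
    (g : ↥(GJ σ)) (hg : g * uG hσ a b hab = lG hσ c d hcd * g)
    (W : ↥(GJ σ))
    (hW : W ∈ Subgroup.closure ({uG hσ a b hab, lG hσ c d hcd} : Set ↥(GJ σ)))
    (hW1 : mat W 1 0 = 0) (hW2 : mat W 2 0 = 0)
    (hgen : ∀ S : Subring F, mat W 0 0 * mat W 0 0 / σ (mat W 0 0) ∈ S → S = ⊤) :
    ∃ u g : ↥(GJ σ), (IsNilpotent (mat u - 1) ∧ (mat u - 1) ^ (3 - 1) ≠ 0) ∧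
      Subgroup.closure ({u, g * u * g⁻¹} : Set ↥(GJ σ)) = ⊤ := by
  refine ⟨uG hσ a b hab, g, ?_, ?_⟩
  · rw [mat_uG]
    exact uM_regular ha b
  · have hconj : g * uG hσ a b hab * g⁻¹ = lG hσ c d hcd := by
      rw [hg, mul_inv_cancel_right]
    rw [hconj]
    set H : Subgroup ↥(GJ σ) :=
      Subgroup.closure ({uG hσ a b hab, lG hσ c d hcd} : Set ↥(GJ σ)) with hH
    have hu : uG hσ a b hab ∈ H := Subgroup.subset_closure (by simp)
    have hv : lG hσ c d hcd ∈ H := Subgroup.subset_closure (by simp)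
    obtain ⟨hl, a₁, b₁, h₁, hWeq⟩ := hB W hW1 hW2
    have htr : ∃ y : F, y + σ y = 1 :=
      Cfsg.Agent.Lib.Helper2.WittHerm.exists_trace hσo 1 (map_one σ)
    have hWmem : tG hσ (mat W 0 0) hl * uG hσ a₁ b₁ h₁ ∈ H := by
      rw [← hWeq]; exact hW
    have hU := U_le_of_torus hσ H hab ha hu hl h₁ hWmem hgen htr
    refine hE H hU (lG hσ c d hcd) hv ?_
    rw [mat_lG]
    simpa [lM] using hd


/-- the main family: all `q` except `5` and `8` -/
theorem main_GJ [Fintype F] {q : ℕ} (hq : 3 ≤ q)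
    (hσq : ∀ a : F, σ a = a ^ q) (hσo : orderOf σ = 2) (hσ : ∀ a : F, σ (σ a) = a)
    (hB : BdecStmt σ hσ) (hE : EndStmt σ hσ)
    {ρ : F} (hρ : orderOf ρ = q + 1) (hD : ∀ S : Subring F, ρ ^ 3 ∈ S → S = ⊤) :
    ∃ u g : ↥(GJ σ), (IsNilpotent (mat u - 1) ∧ (mat u - 1) ^ (3 - 1) ≠ 0) ∧
      Subgroup.closure ({u, g * u * g⁻¹} : Set ↥(GJ σ)) = ⊤ := by
  have hρ1 : ρ ^ (q + 1) = 1 := by rw [← hρ]; exact pow_orderOf_eq_one ρ
  have hρ0 : ρ ≠ 0 := by
    rintro rfl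
    rw [zero_pow (by omega)] at hρ1
    exact zero_ne_one hρ1
  have hρσ : ρ * σ ρ = 1 := by rw [hσq, ← pow_succ', hρ1]
  have hσρ : σ ρ = ρ⁻¹ := eq_inv_of_mul_eq_one_right hρσ
  have hρm1 : 1 + ρ ≠ 0 := by
    intro h
    have h1 : ρ = -1 := by linear_combination h
    have h2 : ρ ^ 2 = 1 := by rw [h1]; ring
    have := orderOf_dvd_of_pow_eq_one h2
    rw [hρ] at this
    have := Nat.le_of_dvd (by norm_num) this
    omega
  have hρm1' : ρ + 1 ≠ 0 := by rwa [add_comm] at hρm1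
  -- the parameters
  set y : F := (1 + ρ)⁻¹ with hydef
  have hy0 : y ≠ 0 := inv_ne_zero hρm1
  have hσy : σ y = ρ * y := by
    rw [hydef, map_inv₀, map_add, map_one, hσρ]
    field_simp
    ring
  have hσy0 : σ y ≠ 0 := by rw [hσy]; exact mul_ne_zero hρ0 hy0
  have hy : y + σ y = 1 := by
    rw [hσy, hydef]
    field_simp
  have hNfix : σ (-(y * σ y)⁻¹) = -(y * σ y)⁻¹ := by
    rw [map_neg, map_inv₀, map_mul, hσ, mul_comm]
  obtain ⟨c, hc0, hc⟩ := Cfsg.Agent.Lib.Helper2.UT.exists_norm_eq hσo (-(y * σ y)⁻¹)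
    (neg_ne_zero.2 (inv_ne_zero (mul_ne_zero hy0 hσy0))) hNfix
  have hc' : c * σ c * (y * σ y) = -1 := by
    rw [hc]
    field_simp
  have hσc0 : σ c ≠ 0 := by simpa using hc0
  have hY : σ y = 1 - y := by linear_combination hy
  have h1y : (1 : F) - y ≠ 0 := hY ▸ hσy0
  have hC : σ c = -1 / (c * (y * (1 - y))) := by
    rw [hY] at hc'
    field_simp
    linear_combination hc'
  have hcb : IsU σ c (σ y - y + (σ y)⁻¹) := by
    unfold IsU
    simp only [map_add, map_sub, map_inv₀, hσ]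
    rw [hC, hY]
    field_simp
    ring
  have hcd : IsU σ c y⁻¹ := by
    unfold IsU
    simp only [map_inv₀]
    rw [hC, hY]
    field_simp
    ring
  set a₂ : F := c * y * (y * σ y - 1) with ha₂
  have hσa₂ : σ a₂ = σ c * σ y * (σ y * y - 1) := by
    rw [ha₂]
    simp only [map_mul, map_sub, map_one, hσ]
  have hab₂ : IsU σ a₂ (-(a₂ * σ a₂) * y) := by
    unfold IsU
    simp only [map_mul, map_neg, hσ]
    linear_combination (-(a₂ * σ a₂)) * hy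
  -- the conjugating element
  have hg : wG * uG hσ a₂ _ hab₂ * uG hσ c _ hcb = lG hσ c _ hcd * (wG * uG hσ a₂ _ hab₂) := by
    rw [← wG_uG_wG hσ hcd]
    have e1 : wG * uG hσ c y⁻¹ hcd * wG * (wG * uG hσ a₂ _ hab₂) =
        wG * (uG hσ c y⁻¹ hcd * uG hσ a₂ _ hab₂) := by
      rw [mul_assoc, ← mul_assoc wG wG, wG_mul_wG, one_mul, mul_assoc]
    rw [e1, mul_assoc, uG_mul, uG_mul]
    congr 1
    apply mat_injective
    simp only [mat_uG]
    congr 1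
    · ring
    · rw [hσa₂, ha₂, hC, hY]
      field_simp
      ring
  -- the word
  have hWm : mat (lG hσ c _ hcd * uG hσ c _ hcb * lG hσ c _ hcd) =
      (!![1, 0, 0; σ c, 1, 0; y⁻¹, -c, 1] : Matrix (Fin 3) (Fin 3) F) *
        !![1, c, σ y - y + (σ y)⁻¹; 0, 1, -σ c; 0, 0, 1] * !![1, 0, 0; σ c, 1, 0; y⁻¹, -c, 1] := rfl
  obtain ⟨hW1, hW2, hW0⟩ := W_entries hy hc'
  have hW00 : mat (lG hσ c _ hcd * uG hσ c _ hcb * lG hσ c _ hcd) 0 0 = ρ := by
    rw [hWm, hW0, hσy]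
    field_simp
  refine criterion hσo hσ hB hE hcb hcd hc0 (inv_ne_zero hy0) _ hg
    (lG hσ c _ hcd * uG hσ c _ hcb * lG hσ c _ hcd) ?_ (by rw [hWm]; exact hW1)
    (by rw [hWm]; exact hW2) ?_
  · have hu : uG hσ c _ hcb ∈ Subgroup.closure
        ({uG hσ c _ hcb, lG hσ c _ hcd} : Set ↥(GJ σ)) := Subgroup.subset_closure (by simp)
    have hv : lG hσ c _ hcd ∈ Subgroup.closure
        ({uG hσ c _ hcb, lG hσ c _ hcd} : Set ↥(GJ σ)) := Subgroup.subset_closure (by simp)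
    exact Subgroup.mul_mem _ (Subgroup.mul_mem _ hv hu) hv
  · intro S hS
    apply hD S
    rw [hW00, hσρ] at hS
    have : ρ * ρ / ρ⁻¹ = ρ ^ 3 := by
      field_simp
    rwa [this] at hS

end Cfsg.Agent.Lib.Helper2.SU3G
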