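import Mathlib
import Cfsg.Prelude
import Cfsg.Agent.Lib.Helper2.SU3G4

/-!
# S2283: the Borel decomposition in `GJ σ`
-/

set_option autoImplicit false

namespace Cfsg.Agent.Lib.Helper2.SU3G

open Matrix

variable {F : Type*} [Field F] {σ : F ≃+* F}

theorem unitary_entry (g : ↥(GJ σ)) (i j : Fin 3) :
    mat g 0 i * σ (mat g 2 j) + mat g 1 i * σ (mat g 1 j) + mat g 2 i * σ (mat g 0 j) =
      (JM : Matrix (Fin 3) (Fin 3) F) i j := by
  have h := congrFun (congrFun (mat_unitary g) i) j
  rw [← h]
  simp [Matrix.mul_apply, Fin.sum_univ_three, JM, Matrix.map_apply, Matrix.transpose_apply]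
  ring

/-- the Borel decomposition -/
theorem bdecomp (hσ : ∀ a : F, σ (σ a) = a) : BdecStmt σ hσ := by
  intro g h1 h2
  have e02 := unitary_entry g 0 2
  have e01 := unitary_entry g 0 1
  have e12 := unitary_entry g 1 2
  have e22 := unitary_entry g 2 2
  have hdet := mat_det g
  rw [Matrix.det_fin_three] at hdet
  simp only [h1, h2, JM] at e02 e01 e12 e22 hdet
  simp at e02 e01 e12 e22 hdet
  set l := mat g 0 0 with hl
  have hl0 : l ≠ 0 := by
    intro h0
    rw [h0] at e02
    simp at e02
  have hσl0 : σ l ≠ 0 := by simpa using hl0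
  have h21 : mat g 2 1 = 0 := by
    rcases e01 with h | h
    · exact absurd h hl0
    · exact h
  have h22' : σ (mat g 2 2) = l⁻¹ := by
    field_simp
    linear_combination e02
  have h22 : mat g 2 2 = (σ l)⁻¹ := by
    have := congrArg σ h22'
    rwa [hσ, map_inv₀] at this
  rw [h21] at hdet e12
  simp at hdet e12
  have h11 : mat g 1 1 = σ l / l := by
    rw [h22] at hdet
    field_simp
    field_simp at hdet
    linear_combination hdet
  have h12' : σ (mat g 1 2) = -(mat g 0 1) / σ l := by
    rw [h22', h11] at e12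
    field_simp
    field_simp at e12
    linear_combination e12
  have h12 : mat g 1 2 = -σ (mat g 0 1) / l := by
    have := congrArg σ h12'
    rwa [hσ, map_div₀, map_neg, hσ] at this
  have hU : IsU σ (mat g 0 1 / l) (mat g 0 2 / l) := by
    unfold IsU
    rw [h22', h12', h12, h22] at e22
    simp only [map_div₀]
    field_simp
    field_simp at e22
    linear_combination e22
  refine ⟨hl0, mat g 0 1 / l, mat g 0 2 / l, hU, ?_⟩
  apply mat_injective
  rw [mat_mul, mat_tG, mat_uG]
  ext i j
  fin_cases i <;> fin_cases j <;>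
    simp [tM, uM, Matrix.mul_apply, Fin.sum_univ_three, h1, h2, h21, h22, h11, h12, ← hl] <;>
    field_simp

end Cfsg.Agent.Lib.Helper2.SU3G
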