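import Mathlib
import Cfsg.Prelude
import Cfsg.Agent.Lib.Helper2.SU3G5
import Cfsg.Agent.Lib.Helper2.UT13

/-!
# S2283: the endgame in `GJ σ`: a subgroup containing the upper unitriangular elements and an
element moving the first basis vector off its line is everything
-/

set_option autoImplicit false

namespace Cfsg.Agent.Lib.Helper2.SU3G

open Matrix Module Cfsg.Agent.Lib.Helper2.IsomDecomp Cfsg.Agent.Lib.Helper2.HermDecomp
  Cfsg.Agent.Lib.Helper5.PSLCoset Cfsg.Agent.Lib.Helper2.UT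

variable {F : Type*} [Field F] {σ : F ≃+* F}

theorem isHerm_hJ (hσ : ∀ a : F, σ (σ a) = a) : IsHerm σ (hJ σ) where
  add_left u v w := by simp only [hJ, Pi.add_apply]; ring
  smul_left a v w := by simp only [hJ, Pi.smul_apply, smul_eq_mul]; ring
  symm v w := by simp only [hJ, map_add, map_mul, hσ]; ring

theorem hJ_nondeg (v : Fin 3 → F) (hv : ∀ w, hJ σ v w = 0) : v = 0 := by
  funext i
  fin_cases i
  · have := hv (Pi.single 2 1); simpa [hJ] using this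
  · have := hv (Pi.single 1 1); simpa [hJ] using this
  · have := hv (Pi.single 0 1); simpa [hJ] using this

/-- the group acting by linear automorphisms -/
noncomputable def gjLin (σ : F ≃+* F) : ↥(GJ σ) →* ((Fin 3 → F) ≃ₗ[F] (Fin 3 → F)) :=
  (GUIsom.glLin 3 F).toMonoidHom.comp
    (Matrix.SpecialLinearGroup.toGL.comp (GJ σ).subtype)

theorem gjLin_apply (A : ↥(GJ σ)) (x : Fin 3 → F) : gjLin σ A x = mat A *ᵥ x := rfl

theorem gjLin_injective : Function.Injective (gjLin σ) := by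
  intro A B hAB
  apply mat_injective
  apply Matrix.toLin'.injective
  apply LinearMap.ext
  intro x
  rw [Matrix.toLin'_apply, Matrix.toLin'_apply, ← gjLin_apply, ← gjLin_apply, hAB]

theorem gjLin_mem_isom (A : ↥(GJ σ)) : gjLin σ A ∈ isom (hJ σ) := by
  intro x y
  rw [gjLin_apply, gjLin_apply]
  exact A.2 x y

theorem det_gjLin (A : ↥(GJ σ)) : LinearEquiv.det (gjLin σ A) = 1 := by
  apply Units.ext
  rw [LinearEquiv.coe_det, Units.val_one]
  have h1 : ((gjLin σ A : (Fin 3 → F) ≃ₗ[F] (Fin 3 → F)) : (Fin 3 → F) →ₗ[F] (Fin 3 → F)) =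
      Matrix.toLin' (mat A) := by
    apply LinearMap.ext
    intro x
    rw [Matrix.toLin'_apply]
    rfl
  rw [h1, LinearMap.det_toLin']
  exact mat_det A

/-- the first and the last basis vectors -/
def e0 : Fin 3 → F := ![1, 0, 0]
def e2 : Fin 3 → F := ![0, 0, 1]

theorem hJ_e0 : hJ σ (e0 : Fin 3 → F) e0 = 0 := by simp [hJ, e0]
theorem hJ_e2 : hJ σ (e2 : Fin 3 → F) e2 = 0 := by simp [hJ, e2]

theorem tv_congr (hσ : ∀ a : F, σ (σ a) = a) {v v' : Fin 3 → F} (hvv : v = v') {c c' : F}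
    (hcc : c = c') (hv : hJ σ v v = 0) (hv' : hJ σ v' v' = 0) :
    tv (isHerm_hJ hσ) v c hv = tv (isHerm_hJ hσ) v' c' hv' := by
  subst hvv; subst hcc; rfl

theorem gjLin_uG_zero (hσ : ∀ a : F, σ (σ a) = a) {e : F} (he : σ e = -e) :
    gjLin σ (uG hσ 0 e (IsU.skew he)) = tv (isHerm_hJ hσ) e0 e hJ_e0 := by
  apply LinearEquiv.ext
  intro x
  rw [gjLin_apply, tv_apply, mat_uG]
  funext i
  fin_cases i <;>
    simp [uM, hJ, e0, Matrix.mulVec, dotProduct, Fin.sum_univ_three] <;> ring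

theorem gjLin_lG_zero (hσ : ∀ a : F, σ (σ a) = a) {e : F} (he : σ e = -e) :
    gjLin σ (lG hσ 0 e (IsU.skew he)) = tv (isHerm_hJ hσ) e2 e hJ_e2 := by
  apply LinearEquiv.ext
  intro x
  rw [gjLin_apply, tv_apply, mat_lG]
  funext i
  fin_cases i <;>
    simp [lM, hJ, e2, Matrix.mulVec, dotProduct, Fin.sum_univ_three] <;> ring

theorem hJ_smul_smul (hσ : ∀ a : F, σ (σ a) = a) (z : F) (v : Fin 3 → F) (hv : hJ σ v v = 0) :
    hJ σ (z • v) (z • v) = 0 := by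
  rw [(isHerm_hJ hσ).smul_left, (isHerm_hJ hσ).smul_right, hv, mul_zero, mul_zero]

theorem tv_smul (hσ : ∀ a : F, σ (σ a) = a) (z c : F) (v : Fin 3 → F) (hv : hJ σ v v = 0) :
    tv (isHerm_hJ hσ) (z • v) c (hJ_smul_smul hσ z v hv) =
      tv (isHerm_hJ hσ) v (c * z * σ z) hv := by
  apply LinearEquiv.ext
  intro x
  rw [tv_apply, tv_apply, (isHerm_hJ hσ).smul_right, smul_smul]
  congr 1
  ring

/-- an isotropic vector with nonzero last coordinate -/
theorem exists_uG_of_iso (hσ : ∀ a : F, σ (σ a) = a) (v : Fin 3 → F) (hv : hJ σ v v = 0)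
    (h2 : v 2 ≠ 0) :
    ∃ (a b : F) (h : IsU σ a b), v = v 2 • (mat (uG hσ a b h) *ᵥ e2) := by
  have hσ2 : σ (v 2) ≠ 0 := by simpa using h2
  have hU : IsU σ (-σ (v 1 / v 2)) (v 0 / v 2) := by
    unfold IsU
    unfold hJ at hv
    simp only [map_neg, map_div₀, hσ]
    field_simp
    linear_combination hv
  refine ⟨_, _, hU, ?_⟩
  rw [mat_uG]
  funext i
  fin_cases i <;>
    simp [uM, e2, Matrix.mulVec, dotProduct, Fin.sum_univ_three, hσ] <;> field_simp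


theorem skew_div (hσ : ∀ a : F, σ (σ a) = a) {c : F} (hc : σ c = -c) (z : F) :
    σ (c / (z * σ z)) = -(c / (z * σ z)) := by
  rw [map_div₀, map_mul, hσ, hc, mul_comm (σ z) z, neg_div]

theorem skew_mul (hσ : ∀ a : F, σ (σ a) = a) {c : F} (hc : σ c = -c) (z : F) :
    σ (c * z * σ z) = -(c * z * σ z) := by
  rw [map_mul, map_mul, hσ, hc]; ring

/-- conjugating a transvection -/
theorem gjLin_conj_tv (hσ : ∀ a : F, σ (σ a) = a) (B t : ↥(GJ σ)) (v : Fin 3 → F) (c : F)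
    (hv : hJ σ v v = 0) (ht : gjLin σ t = tv (isHerm_hJ hσ) v c hv) :
    gjLin σ (B * t * B⁻¹) = tv (isHerm_hJ hσ) (gjLin σ B v) c
      (by rw [gjLin_mem_isom B v v, hv]) := by
  rw [map_mul, map_mul, map_inv, ht]
  exact conj_tv (isHerm_hJ hσ) (gjLin_mem_isom B) v c hv

/-- the lower central elements -/
theorem lG_zero_mem (hσ : ∀ a : F, σ (σ a) = a) (H : Subgroup ↥(GJ σ))
    (hU : ∀ (a b : F) (h : IsU σ a b), uG hσ a b h ∈ H) (g : ↥(GJ σ)) (hg : g ∈ H)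
    (hg2 : mat g 2 0 ≠ 0) {c : F} (hc : σ c = -c) : lG hσ 0 c (IsU.skew hc) ∈ H := by
  have hvg : hJ σ (gjLin σ g e0) (gjLin σ g e0) = 0 := by
    rw [gjLin_mem_isom g e0 e0, hJ_e0]
  have hvg2 : gjLin σ g e0 2 = mat g 2 0 := by
    rw [gjLin_apply]
    simp [e0, Matrix.mulVec, dotProduct, Fin.sum_univ_three]
  obtain ⟨a, b, h, hdec⟩ := exists_uG_of_iso hσ (gjLin σ g e0) hvg (by rwa [hvg2])
  rw [hvg2] at hdec
  set z := mat g 2 0 with hz
  have hσz : σ z ≠ 0 := by simpa using hg2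
  have he : σ (c / (z * σ z)) = -(c / (z * σ z)) := skew_div hσ hc z
  have hx : g * uG hσ 0 _ (IsU.skew he) * g⁻¹ ∈ H :=
    H.mul_mem (H.mul_mem hg (hU _ _ _)) (H.inv_mem hg)
  have h1 := gjLin_conj_tv hσ g (uG hσ 0 _ (IsU.skew he)) e0 _ hJ_e0 (gjLin_uG_zero hσ he)
  have h2 := gjLin_conj_tv hσ (uG hσ a b h) (lG hσ 0 c (IsU.skew hc)) e2 _ hJ_e2
    (gjLin_lG_zero hσ hc)
  have hw : hJ σ (mat (uG hσ a b h) *ᵥ e2) (mat (uG hσ a b h) *ᵥ e2) = 0 := by
    have := gjLin_mem_isom (uG hσ a b h) e2 e2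
    rw [gjLin_apply] at this
    rw [this, hJ_e2]
  have h3 : gjLin σ (g * uG hσ 0 _ (IsU.skew he) * g⁻¹) =
      gjLin σ (uG hσ a b h * lG hσ 0 c (IsU.skew hc) * (uG hσ a b h)⁻¹) := by
    rw [h1, h2]
    rw [tv_congr hσ hdec rfl _ (hJ_smul_smul hσ z _ hw), tv_smul hσ z _ _ hw]
    apply tv_congr hσ
    · rw [gjLin_apply]
    · field_simp
  have h4 := gjLin_injective h3
  have h5 : lG hσ 0 c (IsU.skew hc) =
      (uG hσ a b h)⁻¹ * (g * uG hσ 0 _ (IsU.skew he) * g⁻¹) * uG hσ a b h := by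
    rw [h4]; group
  rw [h5]
  exact H.mul_mem (H.mul_mem (H.inv_mem (hU _ _ _)) hx) (hU _ _ _)

/-- the endgame -/
theorem endgame [Fintype F] {q : ℕ} (hF : Fintype.card F = q ^ 2) (hq : 3 ≤ q)
    (hσq : ∀ a : F, σ a = a ^ q) (hσo : orderOf σ = 2) (hσ : ∀ a : F, σ (σ a) = a) :
    EndStmt σ hσ := by
  intro H hU g hg hg2
  have hbig : ∃ c : F, σ c = c ∧ c ≠ 0 ∧ c ≠ 1 := by
    obtain ⟨c, hc, hc0, hc1⟩ := exists_fixed_ne hF hq
    exact ⟨c, by rw [hσq, hc], hc0, hc1⟩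
  have hTle : T (isHerm_hJ hσ) ≤ H.map (gjLin σ) := by
    unfold T
    rw [Subgroup.closure_le]
    rintro t ⟨v, c, hv, hc, rfl⟩
    by_cases h2 : v 2 = 0
    · -- `v` is a multiple of `e0`
      have h1 : v 1 = 0 := by
        have := hv
        unfold hJ at this
        rw [h2] at this
        simp at this
        exact this
      have hve : v = v 0 • e0 := by
        funext i
        fin_cases i <;> simp [e0, h1, h2]
      refine ⟨uG hσ 0 _ (IsU.skew (skew_mul hσ hc (v 0))), hU _ _ _, ?_⟩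
      rw [gjLin_uG_zero hσ (skew_mul hσ hc (v 0)), ← tv_smul hσ (v 0) c e0 hJ_e0]
      exact tv_congr hσ hve.symm rfl _ _
    · obtain ⟨a, b, h, hdec⟩ := exists_uG_of_iso hσ v hv h2
      have hw : hJ σ (mat (uG hσ a b h) *ᵥ e2) (mat (uG hσ a b h) *ᵥ e2) = 0 := by
        have := gjLin_mem_isom (uG hσ a b h) e2 e2
        rw [gjLin_apply] at this
        rw [this, hJ_e2]
      have hc' := skew_mul hσ hc (v 2)
      refine ⟨uG hσ a b h * lG hσ 0 _ (IsU.skew hc') * (uG hσ a b h)⁻¹,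
        H.mul_mem (H.mul_mem (hU _ _ _) (lG_zero_mem hσ H hU g hg hg2 hc')) (H.inv_mem (hU _ _ _)), ?_⟩
      have h2' := gjLin_conj_tv hσ (uG hσ a b h) (lG hσ 0 _ (IsU.skew hc')) e2 _ hJ_e2
        (gjLin_lG_zero hσ hc')
      show gjLin σ _ = _
      rw [h2', tv_congr hσ hdec rfl hv (hJ_smul_smul hσ (v 2) _ hw), tv_smul hσ (v 2) _ _ hw]
      apply tv_congr hσ
      · rw [gjLin_apply]
      · rfl
  rw [eq_top_iff]
  intro A _
  have hA := mem_T_main (F := F) hσo 3 (by norm_num) (Fin 3 → F) (hJ σ) (isHerm_hJ hσ)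
    hJ_nondeg (Module.finrank_fin_fun F) (fun _ => hbig) (gjLin σ A) (gjLin_mem_isom A)
    (det_gjLin A)
  obtain ⟨B, hB, hBA⟩ := hTle hA
  rw [← gjLin_injective hBA]
  exact hB

end Cfsg.Agent.Lib.Helper2.SU3G
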