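import Mathlib
import Cfsg.Prelude
import Cfsg.Agent.Lib.Helper2.SU3G6
import Cfsg.Agent.Lib.Helper2.WittHerm
import Cfsg.Agent.Lib.Helper4.SU3Fld
import Cfsg.Agent.Lib.Lead.SU3Tr

/-!
# S2283: the generic case `q ∉ {5, 8}`
-/

set_option autoImplicit false

namespace Cfsg.Agent.Lib.Helper2.SU3G

/-- `SU_3(q)` is generated by two conjugate regular unipotent elements, `q ≠ 5, 8`. -/
theorem su3_generic {F : Type*} [Field F] [Fintype F] (q : ℕ) (hq : 3 ≤ q)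
    (hF : Fintype.card F = q ^ 2) (h5 : q ≠ 5) (h8 : q ≠ 8) :
    ∃ u g : ↥(Cfsg.SU 3 F q),
      (IsNilpotent (((u : Matrix.SpecialLinearGroup (Fin 3) F) : Matrix (Fin 3) (Fin 3) F) - 1) ∧
        (((u : Matrix.SpecialLinearGroup (Fin 3) F) : Matrix (Fin 3) (Fin 3) F) - 1) ^ (3 - 1) ≠ 0) ∧
      Subgroup.closure ({u, g * u * g⁻¹} : Set ↥(Cfsg.SU 3 F q)) = ⊤ := by
  obtain ⟨σ, hσo, hσq⟩ := Cfsg.Agent.Lib.Helper2.HermDecomp.exists_sigma hF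
  have hσ : ∀ a : F, σ (σ a) = a := Cfsg.Agent.Lib.Helper2.WittHerm.sigma_sigma hσo
  obtain ⟨ρ, hρ⟩ := Cfsg.Agent.Lib.SU3Fld.exists_rho hF
  apply Cfsg.Agent.Lib.SU3Tr.of_GJ hF hσq
  exact main_GJ hq hσq hσo hσ (bdecomp hσ) (endgame hF hq hσq hσo hσ) hρ
    (fun S hS => Cfsg.Agent.Lib.SU3Fld.closure_cube hF hq h5 h8 hρ S hS)

end Cfsg.Agent.Lib.Helper2.SU3G
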