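import Mathlib

set_option autoImplicit false
set_option linter.dupNamespace false

/-! A concrete, computable field with 25 elements (package PKG-F for S2283):
`K25 = F_5[ι]/(ι^2 - 2)`, elements `re + im ι`. -/

namespace Cfsg.Agent.Lib.K25

/-- the field with 25 elements: `re + im ι`, `ι^2 = 2` -/
@[ext] structure K25 : Type where
  re : Fin 5
  im : Fin 5
  deriving DecidableEq

namespace K25

open scoped Fin.CommRing

/-- the list of all elements (explicit, for fast kernel evaluation) -/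
def elemsList : List K25 := [⟨0, 0⟩, ⟨0, 1⟩, ⟨0, 2⟩, ⟨0, 3⟩, ⟨0, 4⟩, ⟨1, 0⟩, ⟨1, 1⟩, ⟨1, 2⟩, ⟨1, 3⟩, ⟨1, 4⟩, ⟨2, 0⟩, ⟨2, 1⟩, ⟨2, 2⟩, ⟨2, 3⟩, ⟨2, 4⟩, ⟨3, 0⟩, ⟨3, 1⟩, ⟨3, 2⟩, ⟨3, 3⟩, ⟨3, 4⟩, ⟨4, 0⟩, ⟨4, 1⟩, ⟨4, 2⟩, ⟨4, 3⟩, ⟨4, 4⟩]

instance : Fintype K25 where
  elems := ⟨(elemsList : Multiset K25), by decide +kernel⟩
  complete := by
    rintro ⟨a, b⟩
    revert a b
    decide +kernel

instance : Zero K25 := ⟨⟨0, 0⟩⟩
instance : One K25 := ⟨⟨1, 0⟩⟩
instance : Add K25 := ⟨fun x y => ⟨x.re + y.re, x.im + y.im⟩⟩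
instance : Neg K25 := ⟨fun x => ⟨-x.re, -x.im⟩⟩
instance : Mul K25 := ⟨fun x y =>
  ⟨x.re * y.re + 2 * (x.im * y.im), x.re * y.im + x.im * y.re⟩⟩

/-- the conjugate `a + b ι ↦ a - b ι` (as a function) -/
def conjFun (x : K25) : K25 := ⟨x.re, -x.im⟩

/-- the norm `a^2 - 2 b^2` -/
def nrm (x : K25) : Fin 5 := x.re * x.re + 3 * (x.im * x.im)

/-- `x⁻¹ = conj x * N(x)^3` -/
instance : Inv K25 := ⟨fun x =>
  ⟨x.re * (nrm x * nrm x * nrm x), -x.im * (nrm x * nrm x * nrm x)⟩⟩

@[simp] theorem zero_re : (0 : K25).re = 0 := rfl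
@[simp] theorem zero_im : (0 : K25).im = 0 := rfl
@[simp] theorem one_re : (1 : K25).re = 1 := rfl
@[simp] theorem one_im : (1 : K25).im = 0 := rfl
@[simp] theorem add_re (x y : K25) : (x + y).re = x.re + y.re := rfl
@[simp] theorem add_im (x y : K25) : (x + y).im = x.im + y.im := rfl
@[simp] theorem neg_re (x : K25) : (-x).re = -x.re := rfl
@[simp] theorem neg_im (x : K25) : (-x).im = -x.im := rfl
@[simp] theorem mul_re (x y : K25) : (x * y).re = x.re * y.re + 2 * (x.im * y.im) := rfl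
@[simp] theorem mul_im (x y : K25) : (x * y).im = x.re * y.im + x.im * y.re := rfl

instance : Field K25 where
  add_assoc := by intro x y z; ext <;> simp [add_assoc]
  zero_add := by intro x; ext <;> simp
  add_zero := by intro x; ext <;> simp
  add_comm := by intro x y; ext <;> simp [add_comm]
  neg_add_cancel := by intro x; ext <;> simp
  mul_assoc := by intro x y z; ext <;> simp <;> ring
  one_mul := by intro x; ext <;> simp
  mul_one := by intro x; ext <;> simp
  left_distrib := by intro x y z; ext <;> simp <;> ring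
  right_distrib := by intro x y z; ext <;> simp <;> ring
  zero_mul := by intro x; ext <;> simp
  mul_zero := by intro x; ext <;> simp
  mul_comm := by intro x y; ext <;> simp <;> ring
  exists_pair_ne := ⟨0, 1, by decide +kernel⟩
  mul_inv_cancel := by decide +kernel
  inv_zero := rfl
  nsmul := nsmulRec
  zsmul := zsmulRec
  qsmul := _
  nnqsmul := _

theorem card : Fintype.card K25 = 5 ^ 2 := rfl

theorem conjFun_mul (x y : K25) : conjFun (x * y) = conjFun x * conjFun y := by
  revert x y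
  decide +kernel

theorem conjFun_add (x y : K25) : conjFun (x + y) = conjFun x + conjFun y := by
  revert x y
  decide +kernel

theorem conjFun_conjFun (x : K25) : conjFun (conjFun x) = x := by
  revert x
  decide +kernel

/-- the conjugation as a ring automorphism -/
def conj : K25 ≃+* K25 where
  toFun := conjFun
  invFun := conjFun
  left_inv := conjFun_conjFun
  right_inv := conjFun_conjFun
  map_mul' := conjFun_mul
  map_add' := conjFun_add

theorem conj_apply (x : K25) : conj x = conjFun x := rfl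

theorem conj_eq_pow (x : K25) : conj x = x ^ 5 := by
  revert x
  decide +kernel

theorem conj_conj (x : K25) : conj (conj x) = x := conjFun_conjFun x

end K25

/-! top-level aliases -/

theorem card : Fintype.card K25 = 5 ^ 2 := _root_.Cfsg.Agent.Lib.K25.K25.card

/-- the conjugation `x ↦ x^5` -/
abbrev conj : K25 ≃+* K25 := _root_.Cfsg.Agent.Lib.K25.K25.conj

theorem conj_eq_pow (x : K25) : conj x = x ^ 5 := _root_.Cfsg.Agent.Lib.K25.K25.conj_eq_pow x

theorem conj_conj (x : K25) : conj (conj x) = x := _root_.Cfsg.Agent.Lib.K25.K25.conj_conj x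

end Cfsg.Agent.Lib.K25
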