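import Mathlib
import Cfsg.Prelude
import Cfsg.Agent.Lib.Helper2.SU3G6
import Cfsg.Agent.Lib.Helper2.K25

/-!
# S2283: the case `q = 5`, in the antidiagonal form over the concrete field `K25`
-/

set_option autoImplicit false

namespace Cfsg.Agent.Lib.Helper2.SU3G

open Cfsg.Agent.Lib.K25

/-- the conjugation on `K25` -/
abbrev σ5 : K25 ≃+* K25 := Cfsg.Agent.Lib.K25.conj

theorem σ5_σ5 (a : K25) : σ5 (σ5 a) = a := Cfsg.Agent.Lib.K25.conj_conj a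

theorem σ5_order : orderOf σ5 = 2 := by
  have : Fact (Nat.Prime 2) := ⟨Nat.prime_two⟩
  apply orderOf_eq_prime
  · refine RingEquiv.ext fun a => ?_
    rw [pow_two]
    exact σ5_σ5 a
  · intro h
    have h1 := DFunLike.congr_fun h (⟨0, 1⟩ : K25)
    revert h1
    decide +kernel

theorem isU5_ab : IsU σ5 (⟨1, 0⟩ : K25) ⟨2, 1⟩ := by
  unfold IsU
  decide +kernel

theorem isU5_cd : IsU σ5 (⟨0, 2⟩ : K25) ⟨4, 1⟩ := by
  unfold IsU
  decide +kernel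

theorem isU5_g : IsU σ5 (⟨1, 0⟩ : K25) ⟨2, 0⟩ := by
  unfold IsU
  decide +kernel

theorem l5_ne : (⟨0, 3⟩ : K25) ≠ 0 := by decide +kernel

/-- the upper unitriangular generator -/
noncomputable def u5 : ↥(GJ σ5) := uG σ5_σ5 ⟨1, 0⟩ ⟨2, 1⟩ isU5_ab

/-- the lower unitriangular generator -/
noncomputable def v5 : ↥(GJ σ5) := lG σ5_σ5 ⟨0, 2⟩ ⟨4, 1⟩ isU5_cd

/-- the conjugating element -/
noncomputable def g5 : ↥(GJ σ5) := wG * uG σ5_σ5 ⟨1, 0⟩ ⟨2, 0⟩ isU5_g * tG σ5_σ5 ⟨0, 3⟩ l5_ne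

theorem g5_conj : g5 * u5 = v5 * g5 := by
  apply mat_injective
  unfold g5 u5 v5
  decide +kernel

theorem W5_10 : mat (v5 * u5 * v5 * v5) 1 0 = 0 := by
  unfold u5 v5
  decide +kernel

theorem W5_20 : mat (v5 * u5 * v5 * v5) 2 0 = 0 := by
  unfold u5 v5
  decide +kernel

theorem W5_00 : mat (v5 * u5 * v5 * v5) 0 0 = ⟨2, 1⟩ := by
  unfold u5 v5
  decide +kernel

theorem m5_eq : (⟨2, 1⟩ : K25) * ⟨2, 1⟩ / σ5 ⟨2, 1⟩ = ⟨0, 2⟩ := by decide +kernel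

theorem span5 : ∀ x : K25, ∃ i j : Fin 5, x = (i : ℕ) • (1 : K25) + (j : ℕ) • (⟨0, 2⟩ : K25) := by
  decide +kernel

theorem σ5_pow (a : K25) : σ5 a = a ^ 5 := Cfsg.Agent.Lib.K25.conj_eq_pow a

/-- `SU_3(5)`, in the antidiagonal form over the concrete field `K25`, is generated by two
conjugate regular unipotent elements -/
theorem su3_K25 : ∃ u g : ↥(GJ σ5), (IsNilpotent (mat u - 1) ∧ (mat u - 1) ^ (3 - 1) ≠ 0) ∧
    Subgroup.closure ({u, g * u * g⁻¹} : Set ↥(GJ σ5)) = ⊤ := by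
  have hW : v5 * u5 * v5 * v5 ∈ Subgroup.closure ({u5, v5} : Set ↥(GJ σ5)) := by
    have hu : u5 ∈ Subgroup.closure ({u5, v5} : Set ↥(GJ σ5)) :=
      Subgroup.subset_closure (by simp)
    have hv : v5 ∈ Subgroup.closure ({u5, v5} : Set ↥(GJ σ5)) :=
      Subgroup.subset_closure (by simp)
    exact Subgroup.mul_mem _ (Subgroup.mul_mem _ (Subgroup.mul_mem _ hv hu) hv) hv
  refine criterion σ5_order σ5_σ5 (bdecomp σ5_σ5)
    (endgame (q := 5) Cfsg.Agent.Lib.K25.card (by norm_num) σ5_pow σ5_order σ5_σ5)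
    isU5_ab isU5_cd (by decide +kernel) (by decide +kernel) g5 g5_conj (v5 * u5 * v5 * v5) hW
    W5_10 W5_20 ?_
  intro S hS
  rw [W5_00, m5_eq] at hS
  rw [eq_top_iff]
  intro x _
  obtain ⟨i, j, h⟩ := span5 x
  rw [h]
  exact S.add_mem (nsmul_mem S.one_mem _) (nsmul_mem hS _)

end Cfsg.Agent.Lib.Helper2.SU3G
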