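import Mathlib
import Cfsg.Prelude
import Cfsg.Agent.Lib.Helper2.SU3G6
import Cfsg.Agent.Lib.Lead.K64

/-!
# S2283: the case `q = 8`, in the antidiagonal form over the concrete field `K64`
-/

set_option autoImplicit false

namespace Cfsg.Agent.Lib.Helper2.SU3G

open Cfsg.Agent.Lib.K64

/-- the conjugation on `K64` -/
abbrev σ8 : K64 ≃+* K64 := Cfsg.Agent.Lib.K64.conj

theorem σ8_σ8 (a : K64) : σ8 (σ8 a) = a := Cfsg.Agent.Lib.K64.conj_conj a

theorem σ8_order : orderOf σ8 = 2 := by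
  have : Fact (Nat.Prime 2) := ⟨Nat.prime_two⟩
  apply orderOf_eq_prime
  · refine RingEquiv.ext fun a => ?_
    rw [pow_two]
    exact σ8_σ8 a
  · intro h
    have h1 := DFunLike.congr_fun h (⟨⟨false, false, false⟩, ⟨true, false, false⟩⟩ : K64)
    revert h1
    decide +kernel

theorem isU8_ab : IsU σ8 (⟨⟨true, false, false⟩, ⟨false, false, false⟩⟩ : K64)
    ⟨⟨false, true, false⟩, ⟨true, false, false⟩⟩ := by
  unfold IsU
  decide +kernel

theorem isU8_cd : IsU σ8 (⟨⟨false, false, false⟩, ⟨false, false, true⟩⟩ : K64)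
    ⟨⟨false, true, false⟩, ⟨false, true, true⟩⟩ := by
  unfold IsU
  decide +kernel

theorem isU8_g : IsU σ8 (⟨⟨false, true, true⟩, ⟨false, false, false⟩⟩ : K64)
    ⟨⟨false, false, false⟩, ⟨false, true, false⟩⟩ := by
  unfold IsU
  decide +kernel

theorem l8_ne : (⟨⟨false, true, true⟩, ⟨true, true, false⟩⟩ : K64) ≠ 0 := by decide +kernel

/-- the upper unitriangular generator -/
noncomputable def u8 : ↥(GJ σ8) := uG σ8_σ8 ⟨⟨true, false, false⟩, ⟨false, false, false⟩⟩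
  ⟨⟨false, true, false⟩, ⟨true, false, false⟩⟩ isU8_ab

/-- the lower unitriangular generator -/
noncomputable def v8 : ↥(GJ σ8) := lG σ8_σ8 ⟨⟨false, false, false⟩, ⟨false, false, true⟩⟩
  ⟨⟨false, true, false⟩, ⟨false, true, true⟩⟩ isU8_cd

/-- the conjugating element -/
noncomputable def g8 : ↥(GJ σ8) :=
  wG * uG σ8_σ8 ⟨⟨false, true, true⟩, ⟨false, false, false⟩⟩
    ⟨⟨false, false, false⟩, ⟨false, true, false⟩⟩ isU8_g *
    tG σ8_σ8 ⟨⟨false, true, true⟩, ⟨true, true, false⟩⟩ l8_ne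

theorem g8_conj : g8 * u8 = v8 * g8 := by
  apply mat_injective
  unfold g8 u8 v8
  decide +kernel

theorem W8_10 : mat (v8 * u8 * v8 * u8 * u8 * v8) 1 0 = 0 := by
  unfold u8 v8
  decide +kernel

theorem W8_20 : mat (v8 * u8 * v8 * u8 * u8 * v8) 2 0 = 0 := by
  unfold u8 v8
  decide +kernel

theorem W8_00 : mat (v8 * u8 * v8 * u8 * u8 * v8) 0 0 =
    ⟨⟨true, true, true⟩, ⟨true, true, false⟩⟩ := by
  unfold u8 v8
  decide +kernel

theorem m8_eq : (⟨⟨true, true, true⟩, ⟨true, true, false⟩⟩ : K64) *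
    ⟨⟨true, true, true⟩, ⟨true, true, false⟩⟩ / σ8 ⟨⟨true, true, true⟩, ⟨true, true, false⟩⟩ =
    ⟨⟨false, false, false⟩, ⟨false, true, false⟩⟩ := by decide +kernel

theorem m8_pow2 : (⟨⟨false, false, false⟩, ⟨false, true, false⟩⟩ : K64) ^ 2 =
    ⟨⟨false, false, true⟩, ⟨false, false, true⟩⟩ := by decide +kernel

theorem m8_pow3 : (⟨⟨false, false, false⟩, ⟨false, true, false⟩⟩ : K64) ^ 3 =
    ⟨⟨true, true, false⟩, ⟨false, false, false⟩⟩ := by decide +kernel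

theorem m8_pow4 : (⟨⟨false, false, false⟩, ⟨false, true, false⟩⟩ : K64) ^ 4 =
    ⟨⟨false, false, false⟩, ⟨false, true, true⟩⟩ := by decide +kernel

theorem m8_pow5 : (⟨⟨false, false, false⟩, ⟨false, true, false⟩⟩ : K64) ^ 5 =
    ⟨⟨true, true, true⟩, ⟨true, true, true⟩⟩ := by decide +kernel

theorem span8 : ∀ x : K64, ∃ i0 i1 i2 i3 i4 i5 : Fin 2,
    x = (i0 : ℕ) • (1 : K64) + (i1 : ℕ) • (⟨⟨false, false, false⟩, ⟨false, true, false⟩⟩ : K64) +
      (i2 : ℕ) • (⟨⟨false, false, true⟩, ⟨false, false, true⟩⟩ : K64) +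
      (i3 : ℕ) • (⟨⟨true, true, false⟩, ⟨false, false, false⟩⟩ : K64) +
      (i4 : ℕ) • (⟨⟨false, false, false⟩, ⟨false, true, true⟩⟩ : K64) +
      (i5 : ℕ) • (⟨⟨true, true, true⟩, ⟨true, true, true⟩⟩ : K64) := by
  decide +kernel

theorem σ8_pow (a : K64) : σ8 a = a ^ 8 := Cfsg.Agent.Lib.K64.conj_eq_pow a

/-- `SU_3(8)`, in the antidiagonal form over the concrete field `K64`, is generated by two
conjugate regular unipotent elements -/
theorem su3_K64 : ∃ u g : ↥(GJ σ8), (IsNilpotent (mat u - 1) ∧ (mat u - 1) ^ (3 - 1) ≠ 0) ∧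
    Subgroup.closure ({u, g * u * g⁻¹} : Set ↥(GJ σ8)) = ⊤ := by
  have hW : v8 * u8 * v8 * u8 * u8 * v8 ∈ Subgroup.closure ({u8, v8} : Set ↥(GJ σ8)) := by
    have hu : u8 ∈ Subgroup.closure ({u8, v8} : Set ↥(GJ σ8)) :=
      Subgroup.subset_closure (by simp)
    have hv : v8 ∈ Subgroup.closure ({u8, v8} : Set ↥(GJ σ8)) :=
      Subgroup.subset_closure (by simp)
    exact Subgroup.mul_mem _ (Subgroup.mul_mem _ (Subgroup.mul_mem _ (Subgroup.mul_mem _
      (Subgroup.mul_mem _ hv hu) hv) hu) hu) hv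
  refine criterion σ8_order σ8_σ8 (bdecomp σ8_σ8)
    (endgame (q := 8) Cfsg.Agent.Lib.K64.card (by norm_num) σ8_pow σ8_order σ8_σ8)
    isU8_ab isU8_cd (by decide +kernel) (by decide +kernel) g8 g8_conj
    (v8 * u8 * v8 * u8 * u8 * v8) hW W8_10 W8_20 ?_
  intro S hS
  rw [W8_00, m8_eq] at hS
  rw [eq_top_iff]
  intro x _
  obtain ⟨i0, i1, i2, i3, i4, i5, h⟩ := span8 x
  rw [h]
  have h2 := S.pow_mem hS 2
  have h3 := S.pow_mem hS 3
  have h4 := S.pow_mem hS 4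
  have h5 := S.pow_mem hS 5
  rw [m8_pow2] at h2
  rw [m8_pow3] at h3
  rw [m8_pow4] at h4
  rw [m8_pow5] at h5
  exact S.add_mem (S.add_mem (S.add_mem (S.add_mem (S.add_mem (nsmul_mem S.one_mem _)
    (nsmul_mem hS _)) (nsmul_mem h2 _)) (nsmul_mem h3 _)) (nsmul_mem h4 _)) (nsmul_mem h5 _)

end Cfsg.Agent.Lib.Helper2.SU3G
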