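import Mathlib
import Cfsg.Prelude
import Cfsg.Agent.Lib.Helper1.SUR.Defs
import Cfsg.Agent.Lib.Helper2.UT13
import Cfsg.Agent.Lib.Helper8.SURWrap
import Cfsg.Agent.S2283

set_option autoImplicit false

/-!
# PK-WRAP2 for S2412: from linear isometries to `Cfsg.PSU n F q`
-/

namespace Cfsg.Agent.Lib.Helper1.SUT

open Module Cfsg.Agent.Lib.Helper2 Cfsg.Agent.Lib.Helper2.IsomDecomp Cfsg.Agent.Lib.Helper2.UT
  Cfsg.Agent.Lib.Helper5.PSLCoset Cfsg.Agent.Lib.Helper1.SUR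

/-- the image of a generating pair in a quotient is a generating pair -/
theorem wrap2_quot {G : Type*} [Group G] (N : Subgroup G) [N.Normal] (a b : G)
    (h : Subgroup.closure ({a, b} : Set G) = ⊤) :
    Subgroup.closure ({(QuotientGroup.mk a : G ⧸ N), QuotientGroup.mk b} : Set (G ⧸ N)) = ⊤ := by
  have h1 := Subgroup.map_top_of_surjective (QuotientGroup.mk' N) (QuotientGroup.mk'_surjective N)
  rw [← h, MonoidHom.map_closure, Set.image_pair] at h1
  exact h1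

theorem wrap2 {F : Type*} [Field F] [Fintype F] {q : ℕ} (hF : Fintype.card F = q ^ 2) (n : ℕ)
    (hn : 4 ≤ n) {σ : F ≃+* F} (hσq : ∀ a : F, σ a = a ^ q)
    (h : IsHerm σ (Cfsg.hermForm n F q))
    (hex : ∃ x y : (Fin n → F) ≃ₗ[F] (Fin n → F),
      (x ∈ isom (Cfsg.hermForm n F q) ∧ y ∈ isom (Cfsg.hermForm n F q)) ∧
      (LinearEquiv.det x = 1 ∧ LinearEquiv.det y = 1) ∧
      T h ≤ Subgroup.closure {x, y}) :
    ∃ a b : Cfsg.PSU n F q, Subgroup.closure ({a, b} : Set (Cfsg.PSU n F q)) = ⊤ := by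
  classical
  obtain ⟨x, y, ⟨hx, hy⟩, ⟨dx, dy⟩, hT⟩ := hex
  obtain ⟨σ', hσ', hσ'q⟩ := HermDecomp.exists_sigma hF
  have hσσ' : σ = σ' := RingEquiv.ext (fun a => by rw [hσq, hσ'q])
  have hσ : orderOf σ = 2 := by rw [hσσ']; exact hσ'
  have hq2 : 2 ≤ q := Cfsg.Agent.Lib.Helper1.HermCount.two_le_q hF
  have hnd : ∀ v : Fin n → F, (∀ w, Cfsg.hermForm n F q v w = 0) → v = 0 :=
    fun v hv => GUIsom.hermForm_nondeg n q (by omega) v hv
  have hbig : n = 3 → ∃ c : F, σ c = c ∧ c ≠ 0 ∧ c ≠ 1 := by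
    intro h3
    omega
  have hdim : finrank F (Fin n → F) = n := by
    rw [Module.finrank_fin_fun]
  obtain ⟨X, hX, -⟩ := wrap_exists_su (q := q) n x hx dx
  obtain ⟨Y, hY, -⟩ := wrap_exists_su (q := q) n y hy dy
  have htop : Subgroup.closure ({X, Y} : Set ↥(Cfsg.SU n F q)) = ⊤ := by
    set S : Set ↥(Cfsg.SU n F q) := {X, Y} with hS
    have himg : (suLin n F q) '' S = {x, y} := by
      rw [hS, Set.image_pair, hX, hY]
    have hmap : (Subgroup.closure S).map (suLin n F q) = Subgroup.closure {x, y} := by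
      rw [MonoidHom.map_closure, himg]
    rw [eq_top_iff]
    intro A _
    have hA := mem_T_main (F := F) hσ n (by omega) (Fin n → F) (Cfsg.hermForm n F q) h hnd hdim hbig
      (suLin n F q A) (suLin_mem_isom A) (det_suLin A)
    have hA2 := hT hA
    rw [← hmap] at hA2
    obtain ⟨B, hB, hBA⟩ := hA2
    rw [← suLin_injective hBA]
    exact hB
  exact ⟨_, _, wrap2_quot (Subgroup.center ↥(Cfsg.SU n F q)) X Y htop⟩

/-- the case `n = 3` from S2283 -/
theorem psu_three_two_gen {F : Type*} [Field F] [Fintype F] {q : ℕ} (hq : 3 ≤ q)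
    (hF : Fintype.card F = q ^ 2) :
    ∃ a b : Cfsg.PSU 3 F q, Subgroup.closure ({a, b} : Set (Cfsg.PSU 3 F q)) = ⊤ := by
  obtain ⟨u, g, -, htop⟩ := Cfsg.Agent.S2283.result (F := F) q hq hF
  exact ⟨_, _, wrap2_quot (Subgroup.center ↥(Cfsg.SU 3 F q)) u (g * u * g⁻¹) htop⟩

end Cfsg.Agent.Lib.Helper1.SUT
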