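import Mathlib

set_option autoImplicit false

/-!
# Numerical facts about the symmetric and alternating groups of degree six
-/

namespace Cfsg.Agent.Lib.Helper2.A6F

open Equiv Equiv.Perm
open scoped Nat

theorem sum_cycleType_le_six (g : Perm (Fin 6)) : g.cycleType.sum ≤ 6 := by
  rw [sum_cycleType]
  have := g.support.card_le_univ
  simpa using this

theorem add_le_sum_of_mem_of_ne {m : Multiset ℕ} {a b : ℕ} (ha : a ∈ m) (hb : b ∈ m) (hab : a ≠ b) :
    a + b ≤ m.sum := by
  obtain ⟨m', rfl⟩ := Multiset.exists_cons_of_mem ha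
  rw [Multiset.sum_cons]
  have hb' : b ∈ m' := by
    rcases Multiset.mem_cons.mp hb with h | h
    · exact absurd h.symm hab
    · exact h
  have := Multiset.le_sum_of_mem hb'
  omega

/-- elements of odd order of `S₆` have order 1, 3 or 5 -/
theorem odd_order (g : Perm (Fin 6)) (h : Odd (orderOf g)) :
    orderOf g = 1 ∨ orderOf g = 3 ∨ orderOf g = 5 := by
  have hsum := sum_cycleType_le_six g
  have hmem : ∀ a ∈ g.cycleType, a = 3 ∨ a = 5 := by
    intro a ha
    have h1 : a ∣ orderOf g := dvd_of_mem_cycleType ha
    have h2 : 2 ≤ a := two_le_of_mem_cycleType ha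
    have h3 : a ≤ 6 := (Multiset.le_sum_of_mem ha).trans hsum
    have h4 : Odd a := Odd.of_dvd_nat h h1
    obtain ⟨k, hk⟩ := h4
    omega
  by_cases h5 : 5 ∈ g.cycleType
  · have hall : ∀ b ∈ g.cycleType, b ∣ 5 := by
      intro b hb
      rcases hmem b hb with h3 | h5'
      · exfalso
        have := add_le_sum_of_mem_of_ne h5 hb (by omega)
        omega
      · rw [h5']
    have hd : orderOf g ∣ 5 := by
      rw [← lcm_cycleType]
      exact Multiset.lcm_dvd.mpr hall
    rcases (Nat.dvd_prime (by norm_num : Nat.Prime 5)).mp hd with h1 | h1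
    · left; exact h1
    · right; right; exact h1
  · have hall : ∀ b ∈ g.cycleType, b ∣ 3 := by
      intro b hb
      rcases hmem b hb with h3 | h5'
      · rw [h3]
      · exact absurd (h5' ▸ hb) h5
    have hd : orderOf g ∣ 3 := by
      rw [← lcm_cycleType]
      exact Multiset.lcm_dvd.mpr hall
    rcases (Nat.dvd_prime (by norm_num : Nat.Prime 3)).mp hd with h1 | h1
    · left; exact h1
    · right; left; exact h1

theorem card_order_three :
    (Finset.univ.filter fun g : Perm (Fin 6) => orderOf g = 3).card ≤ 80 := by
  have hsub : (Finset.univ.filter fun g : Perm (Fin 6) => orderOf g = 3) ⊆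
      (Finset.univ.filter fun g : Perm (Fin 6) => g.cycleType = Multiset.replicate 1 3) ∪
      (Finset.univ.filter fun g : Perm (Fin 6) => g.cycleType = Multiset.replicate 2 3) := by
    intro g hg
    rw [Finset.mem_filter] at hg
    have hpr : (orderOf g).Prime := by rw [hg.2]; exact Nat.prime_three
    obtain ⟨k, hk⟩ := cycleType_prime_order hpr
    rw [hg.2] at hk
    have := sum_cycleType_le_six g
    rw [hk, Multiset.sum_replicate, smul_eq_mul] at this
    have hk01 : k = 0 ∨ k = 1 := by omega
    rw [Finset.mem_union, Finset.mem_filter, Finset.mem_filter]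
    rcases hk01 with rfl | rfl
    · left; exact ⟨Finset.mem_univ _, hk⟩
    · right; exact ⟨Finset.mem_univ _, hk⟩
  have c1 : (Finset.univ.filter fun g : Perm (Fin 6) =>
      g.cycleType = Multiset.replicate 1 3).card = 40 := by
    rw [Equiv.Perm.card_of_cycleType]
    simp
    decide
  have c2 : (Finset.univ.filter fun g : Perm (Fin 6) =>
      g.cycleType = Multiset.replicate 2 3).card = 40 := by
    rw [Equiv.Perm.card_of_cycleType]
    simp
    decide
  calc _ ≤ _ := Finset.card_le_card hsub
    _ ≤ 40 + 40 := by
      have := Finset.card_union_le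
        (Finset.univ.filter fun g : Perm (Fin 6) => g.cycleType = Multiset.replicate 1 3)
        (Finset.univ.filter fun g : Perm (Fin 6) => g.cycleType = Multiset.replicate 2 3)
      rw [c1, c2] at this
      exact this
    _ = 80 := by norm_num

theorem card_order_five :
    (Finset.univ.filter fun g : Perm (Fin 6) => orderOf g = 5).card ≤ 144 := by
  have hsub : (Finset.univ.filter fun g : Perm (Fin 6) => orderOf g = 5) ⊆
      (Finset.univ.filter fun g : Perm (Fin 6) => g.cycleType = Multiset.replicate 1 5) := by
    intro g hg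
    rw [Finset.mem_filter] at hg
    have hpr : (orderOf g).Prime := by rw [hg.2]; norm_num
    obtain ⟨k, hk⟩ := cycleType_prime_order hpr
    rw [hg.2] at hk
    have := sum_cycleType_le_six g
    rw [hk, Multiset.sum_replicate, smul_eq_mul] at this
    have hk0 : k = 0 := by omega
    subst hk0
    rw [Finset.mem_filter]
    exact ⟨Finset.mem_univ _, hk⟩
  have c1 : (Finset.univ.filter fun g : Perm (Fin 6) =>
      g.cycleType = Multiset.replicate 1 5).card = 144 := by
    rw [Equiv.Perm.card_of_cycleType]
    simp
    decide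
  calc _ ≤ _ := Finset.card_le_card hsub
    _ = 144 := c1

/-- the centralizer in `A₆` of an involution has order at most 8 -/
theorem card_centralizer_involution (s : Perm (Fin 6)) (hs : orderOf s = 2)
    (hmem : s ∈ alternatingGroup (Fin 6)) :
    Nat.card (Subgroup.centralizer {s} ⊓ alternatingGroup (Fin 6) : Subgroup (Perm (Fin 6))) ≤ 8 := by
  have hpr : (orderOf s).Prime := by rw [hs]; exact Nat.prime_two
  obtain ⟨k, hk⟩ := cycleType_prime_order hpr
  rw [hs] at hk
  have hsum := sum_cycleType_le_six s
  rw [hk, Multiset.sum_replicate, smul_eq_mul] at hsum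
  have hsign : Equiv.Perm.sign s = 1 := Equiv.Perm.mem_alternatingGroup.mp hmem
  rw [sign_of_cycleType, hk, Multiset.sum_replicate, Multiset.card_replicate, smul_eq_mul] at hsign
  have hk1 : k = 1 := by
    have hk012 : k = 0 ∨ k = 1 ∨ k = 2 := by omega
    rcases hk012 with rfl | rfl | rfl
    · exfalso; revert hsign; decide
    · rfl
    · exfalso; revert hsign; decide
  subst hk1
  -- the full centralizer has order 16
  have h16 : Nat.card (Subgroup.centralizer {s}) = 16 := by
    rw [nat_card_centralizer, hk]
    simp
  -- an odd element of the centralizer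
  have hne : s.cycleFactorsFinset.Nonempty := by
    rw [Finset.nonempty_iff_ne_empty, Ne, cycleFactorsFinset_eq_empty_iff]
    intro h1
    rw [h1, orderOf_one] at hs
    omega
  obtain ⟨c, hc⟩ := hne
  have hccard : c.support.card = 2 := by
    have : c.support.card ∈ s.cycleType := by
      rw [cycleType_def, Multiset.mem_map]
      exact ⟨c, hc, rfl⟩
    rw [hk] at this
    exact Multiset.eq_of_mem_replicate this
  have hswap : c.IsSwap := card_support_eq_two.mp hccard
  have hcsign : Equiv.Perm.sign c = -1 := hswap.sign_eq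
  have hccomm : c ∈ Subgroup.centralizer {s} := by
    rw [Subgroup.mem_centralizer_singleton_iff]
    exact (self_mem_cycle_factors_commute hc).eq
  have hlt : Subgroup.centralizer {s} ⊓ alternatingGroup (Fin 6) < Subgroup.centralizer {s} := by
    refine lt_of_le_of_ne inf_le_left ?_
    intro heq
    have : c ∈ Subgroup.centralizer {s} ⊓ alternatingGroup (Fin 6) := by rw [heq]; exact hccomm
    have h2 := Equiv.Perm.mem_alternatingGroup.mp this.2
    rw [hcsign] at h2
    revert h2; decide
  have hdvd : Nat.card (Subgroup.centralizer {s} ⊓ alternatingGroup (Fin 6) :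
      Subgroup (Perm (Fin 6))) ∣ 16 := by
    rw [← h16]
    exact Subgroup.card_dvd_of_le inf_le_left
  have hne16 : Nat.card (Subgroup.centralizer {s} ⊓ alternatingGroup (Fin 6) :
      Subgroup (Perm (Fin 6))) ≠ 16 := by
    intro h
    have := Subgroup.eq_of_le_of_card_ge (le_of_lt hlt) (by rw [h, h16])
    exact (ne_of_lt hlt) this
  have hle : Nat.card (Subgroup.centralizer {s} ⊓ alternatingGroup (Fin 6) :
      Subgroup (Perm (Fin 6))) ≤ 16 := Nat.le_of_dvd (by norm_num) hdvd
  obtain ⟨d, hd⟩ := hdvd
  rcases Nat.lt_or_ge d 2 with hd2 | hd2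
  · exfalso
    interval_cases d
    · omega
    · omega
  · nlinarith

end Cfsg.Agent.Lib.Helper2.A6F
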