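import Mathlib

set_option autoImplicit false

/-!
# General lemmas: involutions acting on groups of even order, class size bounds
-/

namespace Cfsg.Agent.Lib.Helper2.A6F

variable {G : Type*} [Group G]

/-- an involution of a finite set of odd cardinality has a fixed point -/
theorem exists_fixed_of_odd_card {α : Type*} [DecidableEq α] (S : Finset α) (g : α → α)
    (hmem : ∀ a ∈ S, g a ∈ S) (hinv : ∀ a ∈ S, g (g a) = a) (hodd : Odd S.card) :
    ∃ a ∈ S, g a = a := by
  by_contra hcon
  push Not at hcon
  have h := Finset.sum_involution (s := S) (f := fun _ => (1 : ZMod 2)) (fun a _ => g a)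
    (fun a _ => by decide) (fun a ha _ => hcon a ha) (fun a ha => hmem a ha)
    (fun a ha => hinv a ha)
  rw [Finset.sum_const, nsmul_eq_mul, mul_one] at h
  have h2 : (2 : ℕ) ∣ S.card := (ZMod.natCast_eq_zero_iff _ 2).mp h
  obtain ⟨k, hk⟩ := hodd
  omega

/-- an involutory automorphism (given by conjugation) of a subgroup of even order centralizes an
involution of it -/
theorem exists_involution_commute [Finite G] (M : Subgroup G) (s : G) (hs : s * s = 1)
    (hnorm : ∀ c ∈ M, s * c * s⁻¹ ∈ M) (heven : 2 ∣ Nat.card M) :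
    ∃ z ∈ M, z ≠ 1 ∧ z * z = 1 ∧ s * z = z * s := by
  classical
  haveI := Fintype.ofFinite G
  set A : Finset G := Finset.univ.filter fun c => c ∈ M with hA
  set I : Finset G := Finset.univ.filter fun c => c ∈ M ∧ c ≠ 1 ∧ c * c = 1 with hI
  set B : Finset G := Finset.univ.filter fun c => c ∈ M ∧ c * c ≠ 1 with hB
  have hAcard : A.card = Nat.card M := by
    rw [hA, Nat.card_eq_fintype_card, Fintype.card_subtype]
  have hBeven : Even B.card := by
    by_contra hodd
    rw [Nat.not_even_iff_odd] at hodd
    obtain ⟨a, ha, hfix⟩ := exists_fixed_of_odd_card B (fun c => c⁻¹)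
      (by
        intro a ha
        rw [hB, Finset.mem_filter] at ha ⊢
        refine ⟨Finset.mem_univ _, M.inv_mem ha.2.1, ?_⟩
        intro h
        apply ha.2.2
        have : (a * a)⁻¹ = 1 := by rw [mul_inv_rev]; exact h
        exact inv_eq_one.mp this)
      (fun a _ => inv_inv a) hodd
    rw [hB, Finset.mem_filter] at ha
    apply ha.2.2
    have : a * a = a * a⁻¹ := by rw [hfix]
    rw [this, mul_inv_cancel]
  have hsplit : A.card = B.card + (I.card + 1) := by
    have h1 : A = B ∪ (insert 1 I) := by
      ext c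
      simp only [hA, hB, hI, Finset.mem_filter, Finset.mem_univ, true_and, Finset.mem_union,
        Finset.mem_insert]
      constructor
      · intro hc
        by_cases h2 : c * c = 1
        · right
          by_cases h1 : c = 1
          · left; exact h1
          · right; exact ⟨hc, h1, h2⟩
        · left; exact ⟨hc, h2⟩
      · rintro (h | h | h)
        · exact h.1
        · rw [h]; exact M.one_mem
        · exact h.1
    have hd : Disjoint B (insert 1 I) := by
      rw [Finset.disjoint_left]
      intro c hc hc'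
      simp only [hB, hI, Finset.mem_filter, Finset.mem_univ, true_and, Finset.mem_insert] at hc hc'
      rcases hc' with h | h
      · apply hc.2; rw [h, one_mul]
      · exact hc.2 h.2.2
    have h1I : (1 : G) ∉ I := by
      simp only [hI, Finset.mem_filter, Finset.mem_univ, true_and, not_and]
      intro _ h
      exact absurd rfl h
    rw [h1, Finset.card_union_of_disjoint hd, Finset.card_insert_of_notMem h1I]
  have hIodd : Odd I.card := by
    obtain ⟨b, hb⟩ := hBeven
    obtain ⟨m, hm⟩ := heven
    rw [hAcard, hm, hb] at hsplit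
    exact ⟨m - b - 1, by omega⟩
  obtain ⟨z, hz, hfix⟩ := exists_fixed_of_odd_card I (fun c => s * c * s⁻¹)
    (by
      intro a ha
      rw [hI, Finset.mem_filter] at ha ⊢
      refine ⟨Finset.mem_univ _, hnorm a ha.2.1, ?_, ?_⟩
      · intro h
        apply ha.2.2.1
        have : a = s⁻¹ * (s * a * s⁻¹) * s := by group
        rw [this, h]; group
      · have : s * a * s⁻¹ * (s * a * s⁻¹) = s * (a * a) * s⁻¹ := by group
        rw [this, ha.2.2.2]; group)
    (by
      intro a _
      have hs' : s⁻¹ = s := inv_eq_of_mul_eq_one_right hs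
      simp only [hs']
      calc s * (s * a * s) * s = (s * s) * a * (s * s) := by group
        _ = a := by rw [hs, one_mul, mul_one])
    hIodd
  rw [hI, Finset.mem_filter] at hz
  refine ⟨z, hz.2.1, hz.2.2.1, hz.2.2.2, ?_⟩
  calc s * z = (s * z * s⁻¹) * s := by group
    _ = z * s := by rw [hfix]

/-- a lower bound for the centralizer from an upper bound on the class -/
theorem card_le_card_centralizer_mul [Finite G] [DecidableEq G] (u : G) (T : Finset G)
    (hT : ∀ g : G, g * u * g⁻¹ ∈ T) :
    Nat.card G ≤ Nat.card (Subgroup.centralizer {u}) * T.card := by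
  classical
  haveI := Fintype.ofFinite G
  rw [Nat.card_eq_fintype_card, ← Finset.card_univ]
  have himg : (Finset.univ.image fun g : G => g * u * g⁻¹) ⊆ T := by
    intro a ha
    obtain ⟨g, _, rfl⟩ := Finset.mem_image.mp ha
    exact hT g
  refine (Finset.card_le_mul_card_image (f := fun g : G => g * u * g⁻¹) Finset.univ
    (Nat.card (Subgroup.centralizer {u})) ?_).trans (Nat.mul_le_mul_left _ (Finset.card_le_card himg))
  intro a ha
  obtain ⟨g0, _, rfl⟩ := Finset.mem_image.mp ha
  -- the fibre is a coset of the centralizer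
  rw [Nat.card_eq_fintype_card, ← Finset.card_univ (α := Subgroup.centralizer {u})]
  refine Finset.card_le_card_of_injOn (fun g => if h : g0⁻¹ * g ∈ Subgroup.centralizer {u}
    then (⟨g0⁻¹ * g, h⟩ : Subgroup.centralizer {u}) else 1) (fun _ _ => Finset.mem_univ _) ?_
  intro g hg g' hg'
  simp only [Finset.coe_filter, Finset.mem_univ, true_and, Set.mem_setOf_eq] at hg hg'
  have hmem : ∀ g : G, g * u * g⁻¹ = g0 * u * g0⁻¹ → g0⁻¹ * g ∈ Subgroup.centralizer {u} := by
    intro g hg
    rw [Subgroup.mem_centralizer_singleton_iff]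
    calc g0⁻¹ * g * u = g0⁻¹ * (g * u * g⁻¹) * g := by group
      _ = g0⁻¹ * (g0 * u * g0⁻¹) * g := by rw [hg]
      _ = u * (g0⁻¹ * g) := by group
  intro heq
  simp only at heq
  rw [dif_pos (hmem g hg), dif_pos (hmem g' hg')] at heq
  have := congrArg Subtype.val heq
  simp only at this
  exact mul_left_cancel this

/-- elements of odd order lie in a normal subgroup of index 4 -/
theorem mem_of_odd_order [Finite G] (N : Subgroup G) [N.Normal] (hidx : N.index = 4) (w : G)
    (hw : Odd (orderOf w)) : w ∈ N := by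
  rw [← QuotientGroup.eq_one_iff]
  have h4 : (QuotientGroup.mk w : G ⧸ N) ^ 4 = 1 := by
    have hc : Nat.card (G ⧸ N) = 4 := by rw [← hidx]; rfl
    rw [← hc]
    exact pow_card_eq_one'
  have hk : (QuotientGroup.mk w : G ⧸ N) ^ orderOf w = 1 := by
    rw [← QuotientGroup.mk_pow, pow_orderOf_eq_one]; rfl
  have hd1 := orderOf_dvd_of_pow_eq_one h4
  have hd2 := orderOf_dvd_of_pow_eq_one hk
  have hd : orderOf (QuotientGroup.mk w : G ⧸ N) ∣ Nat.gcd 4 (orderOf w) := Nat.dvd_gcd hd1 hd2
  have hcop : Nat.gcd 4 (orderOf w) = 1 := by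
    have h2 : Nat.Coprime 2 (orderOf w) :=
      (Nat.Prime.coprime_iff_not_dvd Nat.prime_two).mpr (fun h => by
        obtain ⟨k, hk⟩ := hw
        omega)
    have : Nat.Coprime (2 ^ 2) (orderOf w) := Nat.Coprime.pow_left 2 h2
    exact this
  rw [hcop, Nat.dvd_one] at hd
  exact orderOf_eq_one_iff.mp hd

/-- two involutions whose product has even order centralize a common involution -/
theorem exists_commute_of_even (s t : G) (hs : s * s = 1) (ht : t * t = 1) (j : ℕ) (hj : 0 < j)
    (hord : orderOf (s * t) = 2 * j) :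
    ∃ z : G, z ≠ 1 ∧ s * z = z * s ∧ t * z = z * t := by
  set u := s * t with hu
  have hs' : s⁻¹ = s := inv_eq_of_mul_eq_one_right hs
  have ht' : t⁻¹ = t := inv_eq_of_mul_eq_one_right ht
  have huinv : u⁻¹ = t * s := by rw [hu, mul_inv_rev, hs', ht']
  have hz1 : u ^ j ≠ 1 := by
    apply pow_ne_one_of_lt_orderOf (by omega)
    rw [hord]; omega
  have hzinv : (u ^ j)⁻¹ = u ^ j := by
    apply inv_eq_of_mul_eq_one_right
    rw [← pow_add, ← two_mul, ← hord, pow_orderOf_eq_one]
  have hsu : s * u * s⁻¹ = u⁻¹ := by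
    rw [huinv, hu, hs']
    calc s * (s * t) * s = (s * s) * t * s := by group
      _ = t * s := by rw [hs, one_mul]
  have htu : t * u * t⁻¹ = u⁻¹ := by
    rw [huinv, hu, ht']
    calc t * (s * t) * t = t * s * (t * t) := by group
      _ = t * s := by rw [ht, mul_one]
  have hsz : s * u ^ j * s⁻¹ = u ^ j := by
    have : s * u ^ j * s⁻¹ = (s * u * s⁻¹) ^ j := by
      rw [conj_pow]
    rw [this, hsu, inv_pow, hzinv]
  have htz : t * u ^ j * t⁻¹ = u ^ j := by
    have : t * u ^ j * t⁻¹ = (t * u * t⁻¹) ^ j := by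
      rw [conj_pow]
    rw [this, htu, inv_pow, hzinv]
  refine ⟨u ^ j, hz1, ?_, ?_⟩
  · calc s * u ^ j = (s * u ^ j * s⁻¹) * s := by group
      _ = u ^ j * s := by rw [hsz]
  · calc t * u ^ j = (t * u ^ j * t⁻¹) * t := by group
      _ = u ^ j * t := by rw [htz]

end Cfsg.Agent.Lib.Helper2.A6F
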