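import Mathlib
import Cfsg.Agent.Lib.Lead.Nilpotent
import Cfsg.Agent.Lib.Helper2.A6F2

set_option autoImplicit false

/-!
# Sylow 2-subgroups of an extension of degree four of a group like `A₆` meet nontrivially
-/

namespace Cfsg.Agent.Lib.Helper2.A6F

open Pointwise

variable {G : Type*} [Group G] [Finite G]

section main

variable (N : Subgroup G) [N.Normal] (hidx : N.index = 4) (hcard : Nat.card N = 360)
  (h2 : ∀ s ∈ N, orderOf s = 2 → Nat.card (Subgroup.centralizer {s} ⊓ N : Subgroup G) ≤ 8)
  (hodd : ∀ g ∈ N, Odd (orderOf g) → orderOf g = 1 ∨ orderOf g = 3 ∨ orderOf g = 5)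
  (T3 T5 : Finset G) (hT3 : ∀ g ∈ N, orderOf g = 3 → g ∈ T3) (hT3c : T3.card ≤ 80)
  (hT5 : ∀ g ∈ N, orderOf g = 5 → g ∈ T5) (hT5c : T5.card ≤ 144)

include hidx hcard in
theorem card_G : Nat.card G = 1440 := by
  rw [← N.index_mul_card, hidx, hcard]

include hidx hcard in
theorem card_sylow (H : Sylow 2 G) : Nat.card H = 32 := by
  rw [Sylow.card_eq_multiplicity, card_G N hidx hcard]
  have h1 : (1440 : ℕ).factorization 2 = 5 := by
    have : (1440 : ℕ) = 2 ^ 5 * 45 := by norm_num
    rw [this, Nat.factorization_mul (by norm_num) (by norm_num), Nat.factorization_pow]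
    simp [Nat.Prime.factorization_self Nat.prime_two, Nat.factorization_eq_zero_of_not_dvd]
  rw [h1]; norm_num

include hidx hcard in
/-- an involution of `N` centralized by the Sylow 2-subgroup -/
theorem exists_central_involution (H : Sylow 2 G) :
    ∃ s ∈ N, orderOf s = 2 ∧ ∀ h ∈ (H : Subgroup G), h * s = s * h := by
  have hG := card_G N hidx hcard
  have hH := card_sylow N hidx hcard H
  have hHidx : (H : Subgroup G).index = 45 := by
    have := (H : Subgroup G).card_mul_index
    rw [hH, hG] at this
    omega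
  have hP : IsPGroup 2 (H : Subgroup G) := H.isPGroup'
  haveI : Group.IsNilpotent (H : Subgroup G) := hP.isNilpotent
  have hK : N.subgroupOf (H : Subgroup G) ≠ ⊥ := by
    intro hbot
    have h1 : (H : Subgroup G) ⊓ N = ⊥ := by
      rw [eq_bot_iff]
      intro g hg
      have : (⟨g, hg.1⟩ : (H : Subgroup G)) ∈ N.subgroupOf (H : Subgroup G) := by
        rw [Subgroup.mem_subgroupOf]; exact hg.2
      rw [hbot, Subgroup.mem_bot] at this
      rw [Subgroup.mem_bot]
      exact congrArg Subtype.val this
    have h3 := ((H : Subgroup G) ⊓ N).card_mul_index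
    rw [h1, Subgroup.card_bot, hG, one_mul] at h3
    have h4 := Subgroup.index_inf_le (H := (H : Subgroup G)) (K := N)
    rw [h1, h3, hHidx, hidx] at h4
    omega
  have hne := Cfsg.Agent.Lib.Lead.inf_center_ne_bot (N.subgroupOf (H : Subgroup G)) hK
  obtain ⟨⟨z, hz⟩, hz1⟩ := (Subgroup.ne_bot_iff_exists_ne_one).mp hne
  have hzN : (z : G) ∈ N := Subgroup.mem_subgroupOf.mp hz.1
  have hzc : ∀ h ∈ (H : Subgroup G), h * (z : G) = (z : G) * h := by
    intro h hh
    have := (Subgroup.mem_center_iff.mp hz.2) ⟨h, hh⟩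
    exact congrArg Subtype.val this
  have hz1' : (z : G) ≠ 1 := by
    intro h
    apply hz1
    apply Subtype.ext
    apply Subtype.ext
    exact h
  obtain ⟨j, hj⟩ := (IsPGroup.iff_orderOf.mp hP) z
  rw [← Subgroup.orderOf_coe] at hj
  have hj1 : 1 ≤ j := by
    rcases Nat.eq_zero_or_pos j with rfl | h
    · exfalso
      rw [pow_zero, orderOf_eq_one_iff] at hj
      exact hz1' hj
    · exact h
  refine ⟨(z : G) ^ (2 ^ (j - 1)), N.pow_mem hzN _, ?_, ?_⟩
  · rw [orderOf_pow_of_dvd (by positivity) (by rw [hj]; exact pow_dvd_pow 2 (by omega)), hj]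
    have : j = (j - 1) + 1 := by omega
    conv_lhs => rw [this, pow_succ]
    exact Nat.mul_div_cancel_left _ (by positivity)
  · intro h hh
    have hc : Commute h (z : G) := hzc h hh
    exact (hc.pow_right _).eq

include hidx hcard h2 in
theorem sylow_eq_centralizer (H : Sylow 2 G) (s : G) (hsN : s ∈ N) (hs2 : orderOf s = 2)
    (hsc : ∀ h ∈ (H : Subgroup G), h * s = s * h) :
    (H : Subgroup G) = Subgroup.centralizer {s} := by
  have hH := card_sylow N hidx hcard H
  have hle : (H : Subgroup G) ≤ Subgroup.centralizer {s} := by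
    intro h hh
    rw [Subgroup.mem_centralizer_singleton_iff]
    exact hsc h hh
  apply Subgroup.eq_of_le_of_card_ge hle
  rw [hH]
  set C := Subgroup.centralizer ({s} : Set G) with hC
  have h1 := Subgroup.relIndex_mul_relIndex ⊥ (C ⊓ N) C bot_le inf_le_left
  rw [Subgroup.relIndex_bot_left, Subgroup.relIndex_bot_left, inf_comm,
    Subgroup.inf_relIndex_right] at h1
  have h3 : N.relIndex C ≤ 4 := by
    have := Subgroup.relIndex_dvd_index_of_normal N C
    rw [hidx] at this
    exact Nat.le_of_dvd (by norm_num) this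
  have h4 := h2 s hsN hs2
  rw [inf_comm] at h4
  rw [← h1]
  calc Nat.card (N ⊓ C : Subgroup G) * N.relIndex C ≤ 8 * 4 := Nat.mul_le_mul h4 h3
    _ = 32 := by norm_num

include hidx hcard hodd hT3 hT3c hT5 hT5c in
/-- centralizers of elements of order 3 and 5 of `N` have even order -/
theorem even_card_centralizer (u : G) (huN : u ∈ N) (hu : orderOf u = 3 ∨ orderOf u = 5) :
    2 ∣ Nat.card (Subgroup.centralizer {u}) := by
  classical
  by_contra hnd
  have hG := card_G N hidx hcard
  obtain ⟨C, hC⟩ : ∃ C : Subgroup G, C = Subgroup.centralizer ({u} : Set G) := ⟨_, rfl⟩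
  rw [← hC] at hnd
  have hdvd : Nat.card C ∣ 1440 := by rw [← hG]; exact Subgroup.card_subgroup_dvd_card C
  have hcop : Nat.Coprime (Nat.card C) 32 := by
    have : Nat.Coprime (Nat.card C) 2 :=
      (Nat.coprime_comm.mp ((Nat.Prime.coprime_iff_not_dvd Nat.prime_two).mpr hnd))
    exact Nat.Coprime.pow_right 5 this
  have h45 : Nat.card C ∣ 45 := by
    have : Nat.card C ∣ 32 * 45 := by norm_num; exact hdvd
    exact hcop.dvd_of_dvd_mul_left this
  have huC : u ∈ C := by
    rw [hC, Subgroup.mem_centralizer_singleton_iff]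
  have hku : orderOf u ∣ Nat.card C := by
    have := orderOf_dvd_natCard (⟨u, huC⟩ : C)
    rwa [Subgroup.orderOf_mk] at this
  have hconjN : ∀ g : G, g * u * g⁻¹ ∈ N := fun g => Subgroup.Normal.conj_mem inferInstance u huN g
  have hconjord : ∀ g : G, orderOf (g * u * g⁻¹) = orderOf u := fun g => by
    have : g * u * g⁻¹ = MulAut.conj g u := rfl
    rw [this, MulEquiv.orderOf_eq]
  -- an element `w` of the complementary odd prime order commuting with `u`
  have key : ∃ w : G, w * u = u * w ∧ Nat.Coprime (orderOf u) (orderOf w) ∧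
      orderOf u * orderOf w = 15 := by
    rcases hu with hu3 | hu5
    · have hb := card_le_card_centralizer_mul u T3 (fun g => hT3 _ (hconjN g) (by rw [hconjord, hu3]))
      rw [hG, ← hC] at hb
      have hge : 18 ≤ Nat.card C := by
        by_contra hlt
        push Not at hlt
        have : Nat.card C * T3.card ≤ 17 * 80 := Nat.mul_le_mul (by omega) hT3c
        omega
      have h45' : Nat.card C = 45 := by
        have hle : Nat.card C ≤ 45 := Nat.le_of_dvd (by norm_num) h45
        obtain ⟨d, hd⟩ := h45
        have hd3 : d ≤ 2 := by nlinarith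
        interval_cases d <;> omega
      haveI : Fact (Nat.Prime 5) := ⟨by norm_num⟩
      obtain ⟨w, hw⟩ := exists_prime_orderOf_dvd_card' (G := C) 5 (by rw [h45']; norm_num)
      refine ⟨(w : G), ?_, ?_, ?_⟩
      · exact Subgroup.mem_centralizer_singleton_iff.mp ((le_of_eq hC) w.2)
      · rw [hu3, Subgroup.orderOf_coe, hw]; norm_num
      · rw [hu3, Subgroup.orderOf_coe, hw]
    · have hb := card_le_card_centralizer_mul u T5 (fun g => hT5 _ (hconjN g) (by rw [hconjord, hu5]))
      rw [hG, ← hC] at hb
      have hge : 10 ≤ Nat.card C := by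
        by_contra hlt
        push Not at hlt
        have : Nat.card C * T5.card ≤ 9 * 144 := Nat.mul_le_mul (by omega) hT5c
        omega
      have h3 : 3 ∣ Nat.card C := by
        obtain ⟨d, hd⟩ := h45
        have hd3 : d ≤ 4 := by nlinarith
        have hd0 : 0 < d := by
          rcases Nat.eq_zero_or_pos d with rfl | h
          · simp at hd
          · exact h
        rw [hu5] at hku
        obtain ⟨e, he⟩ := hku
        interval_cases d
        · exact ⟨15, by omega⟩
        · exfalso; omega
        · exact ⟨5, by omega⟩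
        · exfalso; omega
      haveI : Fact (Nat.Prime 3) := ⟨by norm_num⟩
      obtain ⟨w, hw⟩ := exists_prime_orderOf_dvd_card' (G := C) 3 h3
      refine ⟨(w : G), ?_, ?_, ?_⟩
      · exact Subgroup.mem_centralizer_singleton_iff.mp ((le_of_eq hC) w.2)
      · rw [hu5, Subgroup.orderOf_coe, hw]; norm_num
      · rw [hu5, Subgroup.orderOf_coe, hw]
  obtain ⟨w, hwc, hcopw, h15⟩ := key
  have hwodd : Odd (orderOf w) := by
    have : orderOf w ∣ 15 := Dvd.intro_left _ h15
    exact Odd.of_dvd_nat (by decide) this
  have hwN : w ∈ N := mem_of_odd_order N hidx w hwodd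
  have hord : orderOf (u * w) = 15 := by
    have hc : Commute u w := hwc.symm
    rw [hc.orderOf_mul_eq_mul_orderOf_of_coprime hcopw, h15]
  have := hodd (u * w) (N.mul_mem huN hwN) (by rw [hord]; decide)
  rw [hord] at this
  omega

include hidx hcard h2 hodd hT3 hT3c hT5 hT5c in
theorem sylow_inf_conj_ne_bot (H : Sylow 2 G) (x : G) :
    (H : Subgroup G) ⊓ MulAut.conj x • (H : Subgroup G) ≠ ⊥ := by
  obtain ⟨s, hsN, hs2, hsc⟩ := exists_central_involution N hidx hcard H
  have hHC := sylow_eq_centralizer N hidx hcard h2 H s hsN hs2 hsc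
  have hss : s * s = 1 := by rw [← pow_two, ← hs2, pow_orderOf_eq_one]
  have hs1 : s ≠ 1 := by
    intro h
    rw [h, orderOf_one] at hs2
    omega
  set t := x * s * x⁻¹ with ht
  have htN : t ∈ N := Subgroup.Normal.conj_mem inferInstance s hsN x
  have htt : t * t = 1 := by
    rw [ht]
    calc x * s * x⁻¹ * (x * s * x⁻¹) = x * (s * s) * x⁻¹ := by group
      _ = 1 := by rw [hss]; group
  -- it suffices to find a common centralizing element
  suffices hz : ∃ z : G, z ≠ 1 ∧ s * z = z * s ∧ t * z = z * t by
    obtain ⟨z, hz1, hzs, hzt⟩ := hz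
    intro hbot
    apply hz1
    have hmem : z ∈ (H : Subgroup G) ⊓ MulAut.conj x • (H : Subgroup G) := by
      refine Subgroup.mem_inf.mpr ⟨?_, ?_⟩
      · rw [hHC, Subgroup.mem_centralizer_singleton_iff]
        exact hzs.symm
      · rw [Subgroup.mem_pointwise_smul_iff_inv_smul_mem, MulAut.smul_def, MulAut.conj_inv_apply,
          hHC, Subgroup.mem_centralizer_singleton_iff]
        have h1 : x⁻¹ * z * x * s = x⁻¹ * (z * t) * x := by rw [ht]; group
        have h2 : s * (x⁻¹ * z * x) = x⁻¹ * (t * z) * x := by rw [ht]; group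
        rw [h1, h2, hzt]
    rw [hbot, Subgroup.mem_bot] at hmem
    exact hmem
  have hpos : 0 < orderOf (s * t) := orderOf_pos _
  rcases Nat.even_or_odd (orderOf (s * t)) with heven | hoddk
  · obtain ⟨j, hj⟩ := heven
    exact exists_commute_of_even s t hss htt j (by omega) (by rw [hj]; ring)
  · have hstN : s * t ∈ N := N.mul_mem hsN htN
    rcases hodd (s * t) hstN hoddk with h1 | h35
    · -- s = t
      refine ⟨s, hs1, rfl, ?_⟩
      have h : s * t = 1 := orderOf_eq_one_iff.mp h1
      have hts : t = s := by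
        have : t = s⁻¹ := (inv_eq_of_mul_eq_one_right h).symm
        rw [this]; exact inv_eq_of_mul_eq_one_right hss
      rw [hts]
    · set u := s * t with hu
      have hev := even_card_centralizer N hidx hcard hodd T3 T5 hT3 hT3c hT5 hT5c u hstN h35
      have hs' : s⁻¹ = s := inv_eq_of_mul_eq_one_right hss
      have ht' : t⁻¹ = t := inv_eq_of_mul_eq_one_right htt
      have hsu : s * u * s⁻¹ = u⁻¹ := by
        rw [hu, mul_inv_rev, hs', ht']
        calc s * (s * t) * s = (s * s) * t * s := by group
          _ = t * s := by rw [hss, one_mul]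
      have hnorm : ∀ c ∈ Subgroup.centralizer ({u} : Set G),
          s * c * s⁻¹ ∈ Subgroup.centralizer ({u} : Set G) := by
        intro c hc
        rw [Subgroup.mem_centralizer_singleton_iff] at hc ⊢
        -- conjugate commutes with u⁻¹ hence with u
        have h1 : s * c * s⁻¹ * u⁻¹ = u⁻¹ * (s * c * s⁻¹) := by
          rw [← hsu]
          calc s * c * s⁻¹ * (s * u * s⁻¹) = s * (c * u) * s⁻¹ := by group
            _ = s * (u * c) * s⁻¹ := by rw [hc]
            _ = s * u * s⁻¹ * (s * c * s⁻¹) := by group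
        calc s * c * s⁻¹ * u = u * (u⁻¹ * (s * c * s⁻¹)) * u := by group
          _ = u * (s * c * s⁻¹ * u⁻¹) * u := by rw [h1]
          _ = u * (s * c * s⁻¹) := by group
      obtain ⟨z, hzC, hz1, _, hzs⟩ :=
        exists_involution_commute (Subgroup.centralizer ({u} : Set G)) s hss hnorm hev
      refine ⟨z, hz1, hzs, ?_⟩
      have hzu : z * u = u * z := Subgroup.mem_centralizer_singleton_iff.mp hzC
      -- t = s * u
      have htsu : t = s * u := by rw [hu, ← mul_assoc, hss, one_mul]
      rw [htsu]
      calc s * u * z = s * (u * z) := by group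
        _ = s * (z * u) := by rw [hzu]
        _ = (s * z) * u := by group
        _ = z * s * u := by rw [hzs]
        _ = z * (s * u) := by group

end main

end Cfsg.Agent.Lib.Helper2.A6F
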