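import Mathlib
import Cfsg.Agent.S0559
import Cfsg.Agent.Lib.Lead.HallThm4
import Cfsg.Agent.Lib.Lead.HallTools
import Cfsg.Agent.Lib.Helper2.ComplementSystem

set_option autoImplicit false
open Pointwise

namespace Cfsg.Agent.Lib.Helper2.HallFac

open Cfsg.Agent.Lib.Lead

universe u
variable {G : Type u} [Group G]

theorem arith {N a a' b b' : ℕ} (h1 : a * a' = N) (h2 : b * b' = N)
    (c1 : a.Coprime a') (c2 : b.Coprime b') :
    b = Nat.gcd b a' * Nat.gcd b a ∧ N = (a * Nat.gcd b a') * Nat.gcd a' b' ∧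
      (a * Nat.gcd b a').Coprime (Nat.gcd a' b') ∧ (Nat.gcd b a').Coprime (Nat.gcd b a) ∧
      a.Coprime (Nat.gcd b a') := by
  have hbN : b ∣ N := ⟨b', h2.symm⟩
  have haN : a' ∣ N := ⟨a, by rw [← h1, mul_comm]⟩
  have e1 : b = Nat.gcd b a * Nat.gcd b a' := by
    have := Nat.Coprime.gcd_mul b c1
    rw [h1, Nat.gcd_eq_left hbN] at this
    exact this
  have e2 : a' = Nat.gcd a' b * Nat.gcd a' b' := by
    have := Nat.Coprime.gcd_mul a' c2
    rw [h2, Nat.gcd_eq_left haN] at this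
    exact this
  have t1 : Nat.gcd b a' ∣ a' := Nat.gcd_dvd_right _ _
  have t2 : Nat.gcd b a' ∣ b := Nat.gcd_dvd_left _ _
  have r1 : Nat.gcd a' b' ∣ a' := Nat.gcd_dvd_left _ _
  have r2 : Nat.gcd a' b' ∣ b' := Nat.gcd_dvd_right _ _
  refine ⟨by rw [mul_comm]; exact e1, ?_, ?_, ?_, ?_⟩
  · rw [← h1, mul_assoc]
    congr 1
    rw [Nat.gcd_comm b a']
    exact e2
  · apply Nat.Coprime.mul_left
    · exact Nat.Coprime.coprime_dvd_right r1 c1
    · exact Nat.Coprime.coprime_dvd_right r2 (Nat.Coprime.coprime_dvd_left t2 c2)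
  · exact Nat.Coprime.coprime_dvd_right (Nat.gcd_dvd_right _ _)
      (Nat.Coprime.coprime_dvd_left t1 c1.symm)
  · exact Nat.Coprime.coprime_dvd_right t1 c1

theorem core [Finite G] [Group.IsSolvable G] (H K A B : Subgroup G)
    (hHK : ∀ g : G, ∃ h ∈ H, ∃ k ∈ K, g = h * k)
    (hAn : ∀ h ∈ H, ∀ a ∈ A, h * a * h⁻¹ ∈ A) (hBn : ∀ k ∈ K, ∀ b ∈ B, k * b * k⁻¹ ∈ B)
    (hAh : (Nat.card A).Coprime A.index) (hBh : (Nat.card B).Coprime B.index) :
    ∃ S : Subgroup G, (S : Set G) = (A : Set G) * (B : Set G) := by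
  obtain ⟨e1, e2, c3, c4, c5⟩ := arith (Subgroup.card_mul_index A) (Subgroup.card_mul_index B) hAh hBh
  set t := Nat.gcd (Nat.card B) A.index with ht
  set r := Nat.gcd A.index B.index with hr
  set d := Nat.gcd (Nat.card B) (Nat.card A) with hd
  have HP := hallProp_of_solvable G (Nat.card A * t) r e2 c3
  have cAr : (Nat.card A).Coprime r :=
    Nat.Coprime.coprime_dvd_right (Nat.gcd_dvd_left _ _) hAh
  have cBr : (Nat.card B).Coprime r :=
    Nat.Coprime.coprime_dvd_right (Nat.gcd_dvd_right _ _) hBh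
  obtain ⟨M₁, hM₁, hAM₁⟩ := HP.2 A cAr
  obtain ⟨M₂, hM₂, hBM₂⟩ := HP.2 B cBr
  obtain ⟨g, hg⟩ := HP.1 M₁ M₂ hM₁ hM₂
  obtain ⟨h, hh, k, hk, e⟩ := hHK g⁻¹
  have hgM : ∀ z, z ∈ M₂ ↔ g⁻¹ * z * g ∈ M₁ := by
    intro z
    rw [← hg]
    exact Cfsg.Agent.S0559.mem_conj_smul M₁ g z
  set M : Subgroup G := MulAut.conj h⁻¹ • M₁ with hM
  have hMmem : ∀ z, z ∈ M ↔ h * z * h⁻¹ ∈ M₁ := by
    intro z
    rw [hM, Cfsg.Agent.S0559.mem_conj_smul, inv_inv]
  have hAM : A ≤ M := by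
    intro x hx
    rw [hMmem]
    exact hAM₁ (hAn h hh x hx)
  have hBM : B ≤ M := by
    intro y hy
    rw [hMmem]
    have h1 : k⁻¹ * y * k⁻¹⁻¹ ∈ B := hBn k⁻¹ (K.inv_mem hk) y hy
    have h2 := (hgM _).1 (hBM₂ h1)
    have h3 : g⁻¹ * (k⁻¹ * y * k⁻¹⁻¹) * g = h * y * h⁻¹ := by
      have hg' : g = k⁻¹ * h⁻¹ := by
        rw [← mul_inv_rev, ← e, inv_inv]
      rw [hg']; group
    rw [h3] at h2
    exact h2
  have hMcard : Nat.card M = Nat.card A * t := by
    rw [hM, card_conj_smul, hM₁]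
  -- a Hall subgroup of `B`
  have HPB := hallProp_of_solvable B t d e1 c4
  obtain ⟨T, hT, -⟩ := HPB.2 ⊥ (by rw [Subgroup.card_bot]; exact Nat.coprime_one_left _)
  have hT'card : Nat.card (T.map B.subtype) = t := by
    rw [Subgroup.card_map_of_injective B.subtype_injective, hT]
  have hT'B : T.map B.subtype ≤ B := Subgroup.map_subtype_le T
  have hT'M : T.map B.subtype ≤ M := hT'B.trans hBM
  have cA' : Nat.card (A.subgroupOf M) = Nat.card A :=
    Nat.card_congr (Subgroup.subgroupOfEquivOfLe hAM).toEquiv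
  have cT' : Nat.card ((T.map B.subtype).subgroupOf M) = t :=
    (Nat.card_congr (Subgroup.subgroupOfEquivOfLe hT'M).toEquiv).trans hT'card
  have hApos : 0 < Nat.card A := Nat.card_pos
  have htpos : 0 < t := by rw [← hT]; exact Nat.card_pos
  have iA : (A.subgroupOf M).index = t := by
    have := Subgroup.card_mul_index (A.subgroupOf M)
    rw [cA', hMcard] at this
    exact Nat.eq_of_mul_eq_mul_left hApos this
  have iT : ((T.map B.subtype).subgroupOf M).index = Nat.card A := by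
    have := Subgroup.card_mul_index ((T.map B.subtype).subgroupOf M)
    rw [cT', hMcard, mul_comm] at this
    exact Nat.eq_of_mul_eq_mul_right htpos this
  have hfac := Cfsg.Agent.Lib.Helper2.exists_mul_of_coprime_index (A.subgroupOf M)
    ((T.map B.subtype).subgroupOf M) (by rw [iA, iT]; exact c5.symm)
  refine ⟨M, ?_⟩
  ext z
  constructor
  · intro hz
    obtain ⟨a, ha, c, hc, e3⟩ := hfac ⟨z, hz⟩
    refine Set.mem_mul.2 ⟨(a : G), Subgroup.mem_subgroupOf.1 ha, (c : G),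
      hT'B (Subgroup.mem_subgroupOf.1 hc), ?_⟩
    have := congrArg (fun w : M => (w : G)) e3
    simpa using this.symm
  · intro hz
    obtain ⟨a, ha, b, hb, rfl⟩ := Set.mem_mul.1 hz
    exact M.mul_mem (hAM ha) (hBM hb)

end Cfsg.Agent.Lib.Helper2.HallFac
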