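import Mathlib
import Cfsg.Agent.Lib.Helper2.NilpHall

set_option autoImplicit false

/-!
Kegel--Wielandt: the `p`-part and the `p'`-part of a nilpotent subgroup.
-/

namespace Cfsg.Agent.Lib.Helper2.KegW

open scoped Pointwise

variable {G : Type*} [Group G]

/-- the `p`-part of a subgroup: generated by its elements of `p`-power order -/
def pp (A : Subgroup G) (p : ℕ) : Subgroup G :=
  Subgroup.closure {x | x ∈ A ∧ ∃ k : ℕ, x ^ p ^ k = 1}

/-- the `p'`-part of a subgroup: generated by its elements of order prime to `p` -/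
def pq (A : Subgroup G) (p : ℕ) : Subgroup G :=
  Subgroup.closure {x | x ∈ A ∧ (orderOf x).Coprime p}

theorem pp_le (A : Subgroup G) (p : ℕ) : pp A p ≤ A :=
  (Subgroup.closure_le A).mpr (fun _ hx => hx.1)

theorem pq_le (A : Subgroup G) (p : ℕ) : pq A p ≤ A :=
  (Subgroup.closure_le A).mpr (fun _ hx => hx.1)

theorem mem_pp {A : Subgroup G} {p : ℕ} {x : G} (hx : x ∈ A) (k : ℕ) (hk : x ^ p ^ k = 1) :
    x ∈ pp A p := Subgroup.subset_closure ⟨hx, k, hk⟩

theorem mem_pq {A : Subgroup G} {p : ℕ} {x : G} (hx : x ∈ A) (hk : (orderOf x).Coprime p) :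
    x ∈ pq A p := Subgroup.subset_closure ⟨hx, hk⟩

theorem pp_mono {A A' : Subgroup G} (h : A ≤ A') (p : ℕ) : pp A p ≤ pp A' p :=
  Subgroup.closure_mono (fun _ hx => ⟨h hx.1, hx.2⟩)

theorem pq_mono {A A' : Subgroup G} (h : A ≤ A') (p : ℕ) : pq A p ≤ pq A' p :=
  Subgroup.closure_mono (fun _ hx => ⟨h hx.1, hx.2⟩)

theorem conj_pow (g x : G) (n : ℕ) : (g * x * g⁻¹) ^ n = g * x ^ n * g⁻¹ := by
  induction n with
  | zero => simp
  | succ n ih => rw [pow_succ, ih, pow_succ]; group

theorem orderOf_conj' (g x : G) : orderOf (g * x * g⁻¹) = orderOf x := by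
  have : g * x * g⁻¹ = MulAut.conj g x := rfl
  rw [this, MulEquiv.orderOf_eq]

/-- conjugation carries the `p`-part to the `p`-part -/
theorem conj_pp_le (A : Subgroup G) (p : ℕ) (g : G) :
    ∀ x ∈ pp A p, g * x * g⁻¹ ∈ pp (MulAut.conj g • A) p := by
  intro x hx
  unfold pp at hx
  induction hx using Subgroup.closure_induction with
  | mem y hy =>
    obtain ⟨hyA, k, hk⟩ := hy
    refine mem_pp ?_ k ?_
    · exact Subgroup.smul_mem_pointwise_smul y (MulAut.conj g) A hyA
    · rw [conj_pow, hk]; group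
  | one => simp
  | mul a b _ _ iha ihb =>
    have : g * (a * b) * g⁻¹ = (g * a * g⁻¹) * (g * b * g⁻¹) := by group
    rw [this]; exact mul_mem iha ihb
  | inv a _ iha =>
    have : g * a⁻¹ * g⁻¹ = (g * a * g⁻¹)⁻¹ := by group
    rw [this]; exact inv_mem iha

theorem conj_pq_le (A : Subgroup G) (p : ℕ) (g : G) :
    ∀ x ∈ pq A p, g * x * g⁻¹ ∈ pq (MulAut.conj g • A) p := by
  intro x hx
  unfold pq at hx
  induction hx using Subgroup.closure_induction with
  | mem y hy =>
    obtain ⟨hyA, hk⟩ := hy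
    refine mem_pq ?_ ?_
    · exact Subgroup.smul_mem_pointwise_smul y (MulAut.conj g) A hyA
    · rw [orderOf_conj']; exact hk
  | one => simp
  | mul a b _ _ iha ihb =>
    have : g * (a * b) * g⁻¹ = (g * a * g⁻¹) * (g * b * g⁻¹) := by group
    rw [this]; exact mul_mem iha ihb
  | inv a _ iha =>
    have : g * a⁻¹ * g⁻¹ = (g * a * g⁻¹)⁻¹ := by group
    rw [this]; exact inv_mem iha

theorem smul_eq_of_mem_normalizer {A : Subgroup G} {g : G}
    (hg : g ∈ Subgroup.normalizer (A : Set G)) : MulAut.conj g • A = A := by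
  ext x
  rw [Subgroup.mem_smul_pointwise_iff_exists]
  constructor
  · rintro ⟨y, hy, rfl⟩
    exact (Subgroup.mem_normalizer_iff.mp hg y).mp hy
  · intro hx
    refine ⟨g⁻¹ * x * g, ?_, ?_⟩
    · have := (Subgroup.mem_normalizer_iff.mp hg (g⁻¹ * x * g)).mpr (by
        have : g * (g⁻¹ * x * g) * g⁻¹ = x := by group
        rw [this]; exact hx)
      exact this
    · show g * (g⁻¹ * x * g) * g⁻¹ = x
      group

/-- the normalizer of `A` normalizes the `p`-part -/
theorem normalizer_le_normalizer_pp (A : Subgroup G) (p : ℕ) :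
    Subgroup.normalizer (A : Set G) ≤ Subgroup.normalizer (pp A p : Set G) := by
  intro g hg
  rw [Subgroup.mem_normalizer_iff]
  intro x
  constructor
  · intro hx
    have := conj_pp_le A p g x hx
    rwa [smul_eq_of_mem_normalizer hg] at this
  · intro hx
    have hg' : g⁻¹ ∈ Subgroup.normalizer (A : Set G) := inv_mem hg
    have := conj_pp_le A p g⁻¹ _ hx
    rw [smul_eq_of_mem_normalizer hg'] at this
    have e : g⁻¹ * (g * x * g⁻¹) * g⁻¹⁻¹ = x := by group
    rwa [e] at this

theorem normalizer_le_normalizer_pq (A : Subgroup G) (p : ℕ) :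
    Subgroup.normalizer (A : Set G) ≤ Subgroup.normalizer (pq A p : Set G) := by
  intro g hg
  rw [Subgroup.mem_normalizer_iff]
  intro x
  constructor
  · intro hx
    have := conj_pq_le A p g x hx
    rwa [smul_eq_of_mem_normalizer hg] at this
  · intro hx
    have hg' : g⁻¹ ∈ Subgroup.normalizer (A : Set G) := inv_mem hg
    have := conj_pq_le A p g⁻¹ _ hx
    rw [smul_eq_of_mem_normalizer hg'] at this
    have e : g⁻¹ * (g * x * g⁻¹) * g⁻¹⁻¹ = x := by group
    rwa [e] at this

end Cfsg.Agent.Lib.Helper2.KegW
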