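import Mathlib
import Cfsg.Agent.Lib.Helper2.KegW1

set_option autoImplicit false

/-!
Kegel--Wielandt: the `p`-part and the `p'`-part of a finite nilpotent subgroup.
-/

namespace Cfsg.Agent.Lib.Helper2.KegW

open scoped Pointwise

variable {G : Type*} [Group G] [Finite G] {p : ℕ} [hp : Fact p.Prime] {A : Subgroup G}

theorem isPGroup_zpowers_of_pow {X : Type*} [Group X] {p : ℕ} [hp : Fact p.Prime] {x : X} {k : ℕ}
    (hk : x ^ p ^ k = 1) : IsPGroup p (Subgroup.zpowers x) := by
  have h1 : orderOf x ∣ p ^ k := orderOf_dvd_of_pow_eq_one hk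
  obtain ⟨j, -, hj⟩ := (Nat.dvd_prime_pow hp.out).mp h1
  apply IsPGroup.of_card (n := j)
  rw [Nat.card_zpowers, hj]

theorem pp_eq_map (hA : Group.IsNilpotent A) (P : Sylow p A) :
    pp A p = (P : Subgroup A).map A.subtype := by
  haveI := hA
  haveI hPn : (P : Subgroup A).Normal := inferInstance
  apply le_antisymm
  · unfold pp; rw [Subgroup.closure_le]
    rintro x ⟨hxA, k, hk⟩
    have h1 : IsPGroup p (Subgroup.zpowers (⟨x, hxA⟩ : A)) := by
      apply isPGroup_zpowers_of_pow (k := k)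
      apply Subtype.ext
      simpa using hk
    obtain ⟨Q, hQ⟩ := h1.exists_le_sylow
    have := Sylow.unique_of_normal P hPn
    have hQP : Q = P := Subsingleton.elim _ _
    exact ⟨⟨x, hxA⟩, hQP ▸ hQ (Subgroup.mem_zpowers _), rfl⟩
  · rintro _ ⟨y, hy, rfl⟩
    obtain ⟨k, hk⟩ := (P.isPGroup') ⟨y, hy⟩
    refine mem_pp y.2 k ?_
    have := congrArg Subtype.val (congrArg Subtype.val hk)
    simpa using this

theorem card_pp (hA : Group.IsNilpotent A) :
    Nat.card (pp A p) = p ^ (Nat.card A).factorization p := by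
  obtain ⟨P⟩ : Nonempty (Sylow p A) := inferInstance
  rw [pp_eq_map hA P, Subgroup.card_map_of_injective A.subtype_injective]
  exact P.card_eq_multiplicity

theorem pp_isPGroup (hA : Group.IsNilpotent A) : IsPGroup p (pp A p) :=
  IsPGroup.of_card (card_pp hA)

theorem mem_pp_iff (hA : Group.IsNilpotent A) {x : G} :
    x ∈ pp A p ↔ x ∈ A ∧ ∃ k : ℕ, x ^ p ^ k = 1 := by
  constructor
  · intro hx
    refine ⟨pp_le A p hx, ?_⟩
    obtain ⟨k, hk⟩ := (pp_isPGroup hA) ⟨x, hx⟩
    exact ⟨k, by have := congrArg Subtype.val hk; simpa using this⟩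
  · rintro ⟨hx, k, hk⟩
    exact mem_pp hx k hk

theorem le_pp_of_isPGroup {Q : Subgroup G} (hQA : Q ≤ A) (hQ : IsPGroup p Q) : Q ≤ pp A p := by
  intro x hx
  obtain ⟨k, hk⟩ := hQ ⟨x, hx⟩
  exact mem_pp (hQA hx) k (by have := congrArg Subtype.val hk; simpa using this)

theorem le_pq_of_coprime {Q : Subgroup G} (hQA : Q ≤ A) (hQ : (Nat.card Q).Coprime p) :
    Q ≤ pq A p := by
  intro x hx
  refine mem_pq (hQA hx) ?_
  have h1 : orderOf x ∣ Nat.card Q := by
    have := orderOf_dvd_natCard (⟨x, hx⟩ : Q)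
    rwa [Subgroup.orderOf_mk] at this
  exact Nat.Coprime.coprime_dvd_left h1 hQ

theorem le_normalizer_pp (A : Subgroup G) (p : ℕ) : A ≤ Subgroup.normalizer (pp A p : Set G) :=
  Subgroup.le_normalizer.trans (normalizer_le_normalizer_pp A p)

theorem le_normalizer_pq (A : Subgroup G) (p : ℕ) : A ≤ Subgroup.normalizer (pq A p : Set G) :=
  Subgroup.le_normalizer.trans (normalizer_le_normalizer_pq A p)

/-- existence of the complement -/
theorem exists_compl (hA : Group.IsNilpotent A) :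
    ∃ K : Subgroup G, K ≤ A ∧ (Nat.card K).Coprime p ∧
      Nat.card (pp A p) * Nat.card K = Nat.card A ∧
      (∀ a ∈ A, ∃ u ∈ pp A p, ∃ v ∈ K, a = u * v) := by
  haveI := hA
  obtain ⟨P⟩ : Nonempty (Sylow p A) := inferInstance
  haveI hPn : (P : Subgroup A).Normal := inferInstance
  have hcop : (Nat.card (P : Subgroup A)).Coprime (P : Subgroup A).index := P.card_coprime_index
  obtain ⟨K, hK0⟩ := Subgroup.exists_right_complement'_of_coprime hcop
  have hK : Subgroup.IsComplement' (P : Subgroup A) K := hK0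
  refine ⟨K.map A.subtype, Subgroup.map_subtype_le _, ?_, ?_, ?_⟩
  · rw [Subgroup.card_map_of_injective A.subtype_injective]
    have h1 : (P : Subgroup A).index = Nat.card K := hK.symm.index_eq_card
    rw [← h1]
    have h2 : ¬ p ∣ (P : Subgroup A).index := P.not_dvd_index
    exact ((Nat.Prime.coprime_iff_not_dvd hp.out).mpr h2).symm
  · rw [pp_eq_map hA P, Subgroup.card_map_of_injective A.subtype_injective,
      Subgroup.card_map_of_injective A.subtype_injective]
    exact hK.card_mul_card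
  · intro a ha
    obtain ⟨⟨u, v⟩, huv⟩ := hK0.2 ⟨a, ha⟩
    refine ⟨u.1.1, ?_, v.1.1, ⟨v.1, v.2, rfl⟩, ?_⟩
    · rw [pp_eq_map hA P]; exact ⟨u.1, u.2, rfl⟩
    · have := congrArg Subtype.val huv
      simpa using this.symm

theorem commute_of_coprime (hA : Group.IsNilpotent A) {K : Subgroup G} (hKA : K ≤ A)
    (hK : (Nat.card K).Coprime p) : ∀ u ∈ pp A p, ∀ v ∈ K, u * v = v * u := by
  haveI := hA
  have hcop : (Nat.card K).Coprime (Nat.card (pp A p)) := by
    rw [card_pp hA]; exact Nat.Coprime.pow_right _ hK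
  have h1 := NilpHall.commutator_eq_bot_of_nilpotent_coprime A (pp A p) K (pp_le A p) hKA
    (hKA.trans (le_normalizer_pp A p)) hcop
  rw [Subgroup.commutator_eq_bot_iff_le_centralizer] at h1
  intro u hu v hv
  exact (Subgroup.mem_centralizer_iff.mp (h1 hu) v hv).symm

theorem pq_eq_of_compl (hA : Group.IsNilpotent A) {K : Subgroup G} (hKA : K ≤ A)
    (hK : (Nat.card K).Coprime p)
    (hdec : ∀ a ∈ A, ∃ u ∈ pp A p, ∃ v ∈ K, a = u * v) : pq A p = K := by
  apply le_antisymm
  · unfold pq; rw [Subgroup.closure_le]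
    rintro x ⟨hxA, hx⟩
    obtain ⟨u, hu, v, hv, rfl⟩ := hdec x hxA
    have hc := commute_of_coprime hA hKA hK u hu v hv
    set m := orderOf (u * v) with hm
    have h1 : (u * v) ^ m = 1 := pow_orderOf_eq_one _
    have hc' : Commute u v := hc
    rw [hc'.mul_pow] at h1
    have h2 : u ^ m ∈ pp A p ⊓ K := by
      refine Subgroup.mem_inf.mpr ⟨Subgroup.pow_mem _ hu m, ?_⟩
      have : u ^ m = (v ^ m)⁻¹ := eq_inv_of_mul_eq_one_left h1
      rw [this]; exact K.inv_mem (K.pow_mem hv m)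
    have h3 : pp A p ⊓ K = ⊥ := by
      apply (Subgroup.disjoint_of_coprime_natCard _).eq_bot
      rw [card_pp hA]; exact (Nat.Coprime.pow_right _ hK).symm
    rw [h3, Subgroup.mem_bot] at h2
    obtain ⟨k, hk⟩ := (pp_isPGroup hA) ⟨u, hu⟩
    have hk' : u ^ p ^ k = 1 := by have := congrArg Subtype.val hk; simpa using this
    have h4 : orderOf u ∣ m := orderOf_dvd_of_pow_eq_one h2
    have h5 : orderOf u ∣ p ^ k := orderOf_dvd_of_pow_eq_one hk'
    have h6 : (m).Coprime (p ^ k) := Nat.Coprime.pow_right _ hx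
    have h7 : orderOf u = 1 := Nat.eq_one_of_dvd_coprimes h6 h4 h5
    rw [orderOf_eq_one_iff] at h7
    rw [h7, one_mul]; exact hv
  · exact le_pq_of_coprime hKA hK

theorem card_pq_coprime (hA : Group.IsNilpotent A) : (Nat.card (pq A p)).Coprime p := by
  obtain ⟨K, hKA, hK, -, hdec⟩ := exists_compl (p := p) hA
  rw [pq_eq_of_compl hA hKA hK hdec]; exact hK

theorem card_pp_mul_card_pq (hA : Group.IsNilpotent A) :
    Nat.card (pp A p) * Nat.card (pq A p) = Nat.card A := by
  obtain ⟨K, hKA, hK, hc, hdec⟩ := exists_compl (p := p) hA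
  rw [pq_eq_of_compl hA hKA hK hdec]; exact hc

theorem exists_mul (hA : Group.IsNilpotent A) :
    ∀ a ∈ A, ∃ u ∈ pp A p, ∃ v ∈ pq A p, a = u * v := by
  obtain ⟨K, hKA, hK, hc, hdec⟩ := exists_compl (p := p) hA
  rw [pq_eq_of_compl hA hKA hK hdec]; exact hdec

theorem commute_pp_pq (hA : Group.IsNilpotent A) : ∀ u ∈ pp A p, ∀ v ∈ pq A p, u * v = v * u :=
  commute_of_coprime hA (pq_le A p) (card_pq_coprime hA)

theorem pp_inf_pq (hA : Group.IsNilpotent A) : pp A p ⊓ pq A p = ⊥ := by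
  apply (Subgroup.disjoint_of_coprime_natCard _).eq_bot
  rw [card_pp hA]; exact (Nat.Coprime.pow_right _ (card_pq_coprime hA)).symm

theorem pp_sup_pq (hA : Group.IsNilpotent A) : pp A p ⊔ pq A p = A := by
  apply le_antisymm (sup_le (pp_le A p) (pq_le A p))
  intro a ha
  obtain ⟨u, hu, v, hv, rfl⟩ := exists_mul (p := p) hA a ha
  exact mul_mem (Subgroup.mem_sup_left hu) (Subgroup.mem_sup_right hv)

/-- for a different prime `q`, the `q`-part lies in the `p'`-part -/
theorem pp_le_pq (hA : Group.IsNilpotent A) {q : ℕ} [hq : Fact q.Prime] (hqp : q ≠ p) :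
    pp A q ≤ pq A p := by
  apply le_pq_of_coprime (pp_le A q)
  rw [card_pp hA]
  exact Nat.Coprime.pow_left _ ((Nat.coprime_primes hq.out hp.out).mpr hqp)

theorem pp_ne_bot (hA : Group.IsNilpotent A) (hpA : p ∣ Nat.card A) : pp A p ≠ ⊥ := by
  intro h
  have h1 := card_pp (p := p) hA
  rw [h, Subgroup.card_bot] at h1
  have h2 : 0 < (Nat.card A).factorization p :=
    (hp.out.factorization_pos_of_dvd Nat.card_pos.ne' hpA)
  have h3 : 1 < p ^ (Nat.card A).factorization p := Nat.one_lt_pow h2.ne' hp.out.one_lt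
  omega

theorem pp_eq_bot (hA : Group.IsNilpotent A) (hpA : ¬ p ∣ Nat.card A) : pp A p = ⊥ := by
  have h1 := card_pp (p := p) hA
  rw [Nat.factorization_eq_zero_of_not_dvd hpA, pow_zero] at h1
  exact Subgroup.eq_bot_of_card_eq _ h1

end Cfsg.Agent.Lib.Helper2.KegW
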