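import Mathlib
import Cfsg.Agent.Lib.Helper2.KegW2
import Cfsg.Agent.Lib.Lead.Nilpotent
import Cfsg.Agent.S0143

set_option autoImplicit false

/-!
Kegel--Wielandt: the minimal counterexample context (coprime case) and its basic properties.
-/

namespace Cfsg.Agent.Lib.Helper2.KegW

open scoped Pointwise

universe u

/-- `M` is factorised by `A` and `B` -/
def Fac {G : Type u} [Group G] (A B M : Subgroup G) : Prop :=
  ∀ m ∈ M, ∃ a ∈ A ⊓ M, ∃ b ∈ B ⊓ M, m = a * b

/-- the minimal counterexample in the coprime case -/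
structure Ctx (G : Type u) [Group G] [Finite G] (A B : Subgroup G) : Prop where
  simple : IsSimpleGroup G
  nsolv : ¬ Group.IsSolvable G
  nilA : Group.IsNilpotent A
  nilB : Group.IsNilpotent B
  cop : (Nat.card A).Coprime (Nat.card B)
  prod : ∀ g : G, ∃ a ∈ A, ∃ b ∈ B, g = a * b
  ih : ∀ M : Subgroup G, M ≠ ⊤ → Fac A B M → Group.IsSolvable M

variable {G : Type u} [Group G] [Finite G] {A B : Subgroup G}

theorem Fac.symm {M : Subgroup G} (h : Fac A B M) : Fac B A M := by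
  intro m hm
  obtain ⟨a, ha, b, hb, h1⟩ := h m⁻¹ (inv_mem hm)
  refine ⟨b⁻¹, inv_mem hb, a⁻¹, inv_mem ha, ?_⟩
  rw [← mul_inv_rev, ← h1, inv_inv]

theorem Ctx.symm (c : Ctx G A B) : Ctx G B A where
  simple := c.simple
  nsolv := c.nsolv
  nilA := c.nilB
  nilB := c.nilA
  cop := c.cop.symm
  prod := by
    intro g
    obtain ⟨a, ha, b, hb, h1⟩ := c.prod g⁻¹
    refine ⟨b⁻¹, inv_mem hb, a⁻¹, inv_mem ha, ?_⟩
    rw [← mul_inv_rev, ← h1, inv_inv]
  ih := fun M hM hF => c.ih M hM hF.symm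

namespace Ctx

variable (c : Ctx G A B)
include c

theorem inf_eq_bot : A ⊓ B = ⊥ := (Subgroup.disjoint_of_coprime_natCard c.cop).eq_bot

theorem uniq {a a' b b' : G} (ha : a ∈ A) (ha' : a' ∈ A) (hb : b ∈ B) (hb' : b' ∈ B)
    (h : a * b = a' * b') : a = a' ∧ b = b' := by
  have h1 : a'⁻¹ * a = b' * b⁻¹ := by
    have : a'⁻¹ * (a * b) * b⁻¹ = a'⁻¹ * (a' * b') * b⁻¹ := by rw [h]
    have e1 : a'⁻¹ * (a * b) * b⁻¹ = a'⁻¹ * a := by group
    have e2 : a'⁻¹ * (a' * b') * b⁻¹ = b' * b⁻¹ := by group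
    rw [e1, e2] at this; exact this
  have h2 : a'⁻¹ * a ∈ A ⊓ B :=
    Subgroup.mem_inf.mpr ⟨A.mul_mem (A.inv_mem ha') ha, h1 ▸ B.mul_mem hb' (B.inv_mem hb)⟩
  rw [c.inf_eq_bot, Subgroup.mem_bot] at h2
  have h3 : a = a' := by
    have := inv_mul_eq_one.mp h2
    exact this.symm
  refine ⟨h3, ?_⟩
  rw [h2] at h1
  have := (mul_inv_eq_one.mp h1.symm)
  exact this.symm

theorem card_fac {M : Subgroup G} (hM : Fac A B M) :
    Nat.card M = Nat.card (A ⊓ M : Subgroup G) * Nat.card (B ⊓ M : Subgroup G) := by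
  rw [← Nat.card_prod]
  symm
  apply Nat.card_congr
  refine Equiv.ofBijective
    (fun x : (A ⊓ M : Subgroup G) × (B ⊓ M : Subgroup G) =>
      (⟨x.1.1 * x.2.1, mul_mem x.1.2.2 x.2.2.2⟩ : M)) ⟨?_, ?_⟩
  · rintro ⟨⟨a, ha⟩, ⟨b, hb⟩⟩ ⟨⟨a', ha'⟩, ⟨b', hb'⟩⟩ h
    have h1 : a * b = a' * b' := congrArg Subtype.val h
    obtain ⟨e1, e2⟩ := c.uniq ha.1 ha'.1 hb.1 hb'.1 h1
    subst e1 e2
    rfl
  · rintro ⟨m, hm⟩
    obtain ⟨a, ha, b, hb, h1⟩ := hM m hm
    exact ⟨⟨⟨a, ha⟩, ⟨b, hb⟩⟩, Subtype.ext h1.symm⟩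

theorem fac_top : Fac A B ⊤ := by
  intro m _
  obtain ⟨a, ha, b, hb, h1⟩ := c.prod m
  exact ⟨a, ⟨ha, Subgroup.mem_top _⟩, b, ⟨hb, Subgroup.mem_top _⟩, h1⟩

theorem card_eq : Nat.card G = Nat.card A * Nat.card B := by
  have h1 := c.card_fac c.fac_top
  rw [inf_top_eq, inf_top_eq] at h1
  rw [← h1]
  exact (Subgroup.card_top (G := G)).symm

theorem index_A : A.index = Nat.card B := by
  have h1 := Subgroup.card_mul_index A
  rw [c.card_eq] at h1
  exact Nat.eq_of_mul_eq_mul_left Nat.card_pos h1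

theorem fac_of_le {M : Subgroup G} (h : A ≤ M) : Fac A B M := by
  intro m hm
  obtain ⟨a, ha, b, hb, h1⟩ := c.prod m
  refine ⟨a, ⟨ha, h ha⟩, b, ⟨hb, ?_⟩, h1⟩
  have : b = a⁻¹ * m := by rw [h1]; group
  rw [this]; exact M.mul_mem (M.inv_mem (h ha)) hm

theorem fac_of_le' {M : Subgroup G} (h : B ≤ M) : Fac A B M :=
  (c.symm.fac_of_le h).symm

theorem nontrivial : Nontrivial G := c.simple.toNontrivial

theorem normal_eq {N : Subgroup G} (hN : N.Normal) : N = ⊥ ∨ N = ⊤ := by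
  haveI := c.simple
  exact hN.eq_bot_or_eq_top

theorem normalizer_ne_top {X : Subgroup G} (h1 : X ≠ ⊥) (h2 : X ≠ ⊤) :
    Subgroup.normalizer (X : Set G) ≠ ⊤ := by
  intro h
  rcases c.normal_eq (Subgroup.normalizer_eq_top_iff.mp h) with h3 | h3
  · exact h1 h3
  · exact h2 h3

theorem eq_bot_of_normalizer_eq_top {X : Subgroup G} (h2 : X ≠ ⊤)
    (h : Subgroup.normalizer (X : Set G) = ⊤) : X = ⊥ := by
  by_contra h1
  exact c.normalizer_ne_top h1 h2 h

theorem not_solvable_top : ¬ Group.IsSolvable (⊤ : Subgroup G) := by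
  intro h
  apply c.nsolv
  exact Group.isSolvable_of_surjective (f := (⊤ : Subgroup G).subtype)
    (fun g => ⟨⟨g, Subgroup.mem_top g⟩, rfl⟩)

theorem ne_top_of_solvable {M : Subgroup G} (h : Group.IsSolvable M) : M ≠ ⊤ := by
  rintro rfl
  exact c.not_solvable_top h

theorem ne_top_of_isPGroup {M : Subgroup G} {p : ℕ} [Fact p.Prime] (h : IsPGroup p M) : M ≠ ⊤ := by
  apply c.ne_top_of_solvable
  haveI := h.isNilpotent
  infer_instance

theorem A_ne_top : A ≠ ⊤ := by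
  apply c.ne_top_of_solvable
  haveI := c.nilA
  infer_instance

theorem B_ne_top : B ≠ ⊤ := c.symm.A_ne_top

theorem A_ne_bot : A ≠ ⊥ := by
  intro h
  apply c.B_ne_top
  rw [eq_top_iff]
  intro g _
  obtain ⟨a, ha, b, hb, rfl⟩ := c.prod g
  rw [h, Subgroup.mem_bot] at ha
  rw [ha, one_mul]; exact hb

theorem B_ne_bot : B ≠ ⊥ := c.symm.A_ne_bot

/-- a nontrivial central element of `A` -/
theorem exists_central : ∃ a ∈ A, a ≠ 1 ∧ ∀ h ∈ A, h * a = a * h := by
  haveI := c.nilA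
  have h1 := Cfsg.Agent.Lib.Lead.inf_center_ne_bot (⊤ : Subgroup A) (by
    intro h0
    apply c.A_ne_bot
    rw [Subgroup.eq_bot_iff_forall]
    intro x hx
    have : (⟨x, hx⟩ : A) ∈ (⊤ : Subgroup A) := trivial
    rw [h0, Subgroup.mem_bot] at this
    exact congrArg Subtype.val this)
  rw [top_inf_eq] at h1
  obtain ⟨⟨z, hz⟩, hz1⟩ := (Subgroup.ne_bot_iff_exists_ne_one).mp h1
  refine ⟨(z : G), z.2, ?_, ?_⟩
  · intro h0
    apply hz1
    apply Subtype.ext
    apply Subtype.ext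
    simpa using h0
  · intro h hh
    have := Subgroup.mem_center_iff.mp hz ⟨h, hh⟩
    exact congrArg Subtype.val this

theorem centralizer_ne_top {x : G} (hx : x ≠ 1) : Subgroup.centralizer ({x} : Set G) ≠ ⊤ := by
  intro h
  have h1 : (Subgroup.zpowers x).Normal := by
    constructor
    intro y hy g
    have hg : g ∈ Subgroup.centralizer ({x} : Set G) := by rw [h]; trivial
    have h2 : g * x = x * g := (Subgroup.mem_centralizer_iff.mp hg x rfl).symm
    obtain ⟨k, rfl⟩ := hy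
    have h3 : g * x ^ k * g⁻¹ = x ^ k := by
      have : Commute g x := h2
      have := this.zpow_right k
      rw [this.eq]; group
    rw [h3]; exact ⟨k, rfl⟩
  rcases c.normal_eq h1 with h2 | h2
  · apply hx
    have : x ∈ Subgroup.zpowers x := Subgroup.mem_zpowers x
    rw [h2, Subgroup.mem_bot] at this
    exact this
  · apply c.nsolv
    have h3 : ∀ a b : G, a * b = b * a := by
      intro a b
      have ha : a ∈ Subgroup.zpowers x := by rw [h2]; trivial
      have hb : b ∈ Subgroup.zpowers x := by rw [h2]; trivial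
      obtain ⟨i, rfl⟩ := ha
      obtain ⟨j, rfl⟩ := hb
      rw [← zpow_add, ← zpow_add, add_comm]
    exact isSolvable_of_comm h3

/-- `A` is not a `p`-group: the `p'`-part is nontrivial -/
theorem pq_ne_bot (p : ℕ) [hp : Fact p.Prime] : pq A p ≠ ⊥ := by
  intro h
  have hA : Nat.card A = p ^ (Nat.card A).factorization p := by
    have h1 := card_pp_mul_card_pq (p := p) c.nilA
    rw [h, Subgroup.card_bot, mul_one, card_pp c.nilA] at h1
    exact h1.symm
  obtain ⟨b, hb, hb1, hbc⟩ := c.symm.exists_central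
  have hle : B ≤ Subgroup.centralizer ({b} : Set G) := by
    intro y hy
    rw [Subgroup.mem_centralizer_iff]
    intro w hw
    rw [Set.mem_singleton_iff] at hw
    rw [hw]; exact (hbc y hy).symm
  have hdvd : (Subgroup.centralizer ({b} : Set G)).index ∣ p ^ (Nat.card A).factorization p := by
    have h1 := Subgroup.index_dvd_of_le hle
    have h2 : B.index = Nat.card A := by
      have := c.symm.index_A
      exact this
    rw [h2, hA] at h1
    exact h1
  obtain ⟨k, -, hk⟩ := (Nat.dvd_prime_pow hp.out).mp hdvd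
  haveI := c.simple
  have h3 := Cfsg.Agent.S0143.result p k hp.out b hb1 hk
  apply c.nsolv
  haveI : Fact (Nat.card G).Prime := ⟨h3⟩
  haveI : IsCyclic G := isCyclic_of_prime_card rfl
  exact isSolvable_of_comm (fun a b => (IsCyclic.commGroup (α := G)).mul_comm a b)

theorem pp_ne_top (p : ℕ) [hp : Fact p.Prime] : pp A p ≠ ⊤ :=
  c.ne_top_of_isPGroup (pp_isPGroup c.nilA)

/-- two distinct primes divide `|A|`: for each prime `p` there is a prime `q ≠ p` dividing `|A|` -/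
theorem exists_other_prime (p : ℕ) [hp : Fact p.Prime] : ∃ q : ℕ, q.Prime ∧ q ≠ p ∧ q ∣ Nat.card A := by
  have h1 := c.pq_ne_bot p
  have h2 : Nat.card (pq A p) ≠ 1 := by
    intro h
    exact h1 (Subgroup.eq_bot_of_card_eq _ h)
  obtain ⟨q, hq, hqd⟩ := Nat.exists_prime_and_dvd h2
  refine ⟨q, hq, ?_, hqd.trans (Subgroup.card_dvd_of_le (pq_le A p))⟩
  rintro rfl
  have := card_pq_coprime (p := q) c.nilA
  exact hq.one_lt.ne' (Nat.Coprime.eq_one_of_dvd this.symm hqd)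

theorem conj_smul_eq (g : G) {B₀ : Subgroup G} (hB₀ : B ≤ Subgroup.normalizer (B₀ : Set G)) :
    ∃ a ∈ A, MulAut.conj g • B₀ = MulAut.conj a • B₀ := by
  obtain ⟨a, ha, b, hb, rfl⟩ := c.prod g
  refine ⟨a, ha, ?_⟩
  rw [map_mul, mul_smul, smul_eq_of_mem_normalizer (hB₀ hb)]

end Ctx

end Cfsg.Agent.Lib.Helper2.KegW
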