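import Mathlib
import Cfsg.Agent.Lib.Helper2.KegW3
import Cfsg.Agent.Lib.Helper2.HallFac
import Cfsg.Agent.S0566
import Cfsg.Agent.S0562

set_option autoImplicit false

/-!
Kegel--Wielandt: permuting normal subgroups of the factors, and the Hall parts generate.
-/

namespace Cfsg.Agent.Lib.Helper2.KegW

open scoped Pointwise

universe u

variable {G : Type u} [Group G] [Finite G] {A B : Subgroup G}

theorem mem_cs {X : Type*} [Group X] (g x : X) (H : Subgroup X) :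
    x ∈ MulAut.conj g • H ↔ g⁻¹ * x * g ∈ H := by
  rw [Subgroup.mem_smul_pointwise_iff_exists]
  constructor
  · rintro ⟨s, hs, rfl⟩
    rw [MulAut.smul_def, MulAut.conj_apply]
    have : g⁻¹ * (g * s * g⁻¹) * g = s := by group
    rw [this]; exact hs
  · intro h
    refine ⟨g⁻¹ * x * g, h, ?_⟩
    rw [MulAut.smul_def, MulAut.conj_apply]
    group

theorem conj_mem_cs {X : Type*} [Group X] (g : X) {x : X} {H : Subgroup X} (hx : x ∈ H) :
    g * x * g⁻¹ ∈ MulAut.conj g • H := by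
  rw [mem_cs]
  have : g⁻¹ * (g * x * g⁻¹) * g = x := by group
  rw [this]; exact hx

theorem conj_mem_of_mem_normalizer {X : Type*} [Group X] {g x : X} {H : Subgroup X}
    (hg : g ∈ Subgroup.normalizer (H : Set X)) (hx : x ∈ H) : g * x * g⁻¹ ∈ H :=
  (Subgroup.mem_normalizer_iff.mp hg x).mp hx

theorem conj_mem_of_mem_normalizer' {X : Type*} [Group X] {g x : X} {H : Subgroup X}
    (hg : g ∈ Subgroup.normalizer (H : Set X)) (hx : x ∈ H) : g⁻¹ * x * g ∈ H := by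
  have := conj_mem_of_mem_normalizer (inv_mem hg) hx
  rwa [inv_inv] at this

namespace Ctx

variable (c : Ctx G A B)
include c

/-- normal subgroups of the factors which permute generate everything -/
theorem F1 {A₀ B₀ S : Subgroup G} (hnA : A ≤ Subgroup.normalizer (A₀ : Set G))
    (hnB : B ≤ Subgroup.normalizer (B₀ : Set G)) (hA1 : A₀ ≠ ⊥) (hB1 : B₀ ≠ ⊥)
    (hS : (S : Set G) = (A₀ : Set G) * (B₀ : Set G)) : S = ⊤ := by
  by_contra hne
  have key : ∀ x : G, ∃ S' : Subgroup G, S' ≠ ⊤ ∧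
      (S' : Set G) = (A₀ : Set G) * ((MulAut.conj x • B₀ : Subgroup G) : Set G) := by
    intro x
    obtain ⟨a, ha, e⟩ := c.conj_smul_eq x hnB
    refine ⟨MulAut.conj a • S, ?_, ?_⟩
    · intro h
      apply hne
      have h1 : MulAut.conj a⁻¹ • (MulAut.conj a • S) = MulAut.conj a⁻¹ • (⊤ : Subgroup G) := by
        rw [h]
      rw [← mul_smul, ← map_mul, inv_mul_cancel, map_one, one_smul] at h1
      rw [h1]
      rw [eq_top_iff]
      intro y _
      rw [mem_cs]; trivial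
    · rw [e]
      ext y
      rw [SetLike.mem_coe, mem_cs, ← SetLike.mem_coe, hS]
      constructor
      · intro hy
        obtain ⟨u, hu, v, hv, h1⟩ := Set.mem_mul.mp hy
        refine Set.mem_mul.mpr ⟨a * u * a⁻¹, conj_mem_of_mem_normalizer (hnA ha) hu,
          a * v * a⁻¹, conj_mem_cs a hv, ?_⟩
        have : a * u * a⁻¹ * (a * v * a⁻¹) = a * (u * v) * a⁻¹ := by group
        rw [this, h1]; group
      · intro hy
        obtain ⟨u, hu, v, hv, h1⟩ := Set.mem_mul.mp hy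
        have hv' : a⁻¹ * v * a ∈ B₀ := (mem_cs a v B₀).mp hv
        refine Set.mem_mul.mpr ⟨a⁻¹ * u * a, conj_mem_of_mem_normalizer' (hnA ha) hu,
          a⁻¹ * v * a, hv', ?_⟩
        rw [← h1]; group
  obtain ⟨N, hN, hNt, h⟩ := Cfsg.Agent.S0566.result A₀ B₀ hA1 hB1 key
  rcases c.normal_eq hN with h0 | h0
  · rcases h with h | h
    · exact hA1 (le_bot_iff.mp (h0 ▸ h))
    · exact hB1 (le_bot_iff.mp (h0 ▸ h))
  · exact hNt h0

theorem F1_eq {A₀ B₀ S : Subgroup G} (hA₀ : A₀ ≤ A) (hB₀ : B₀ ≤ B)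
    (hnA : A ≤ Subgroup.normalizer (A₀ : Set G))
    (hnB : B ≤ Subgroup.normalizer (B₀ : Set G)) (hA1 : A₀ ≠ ⊥) (hB1 : B₀ ≠ ⊥)
    (hS : (S : Set G) = (A₀ : Set G) * (B₀ : Set G)) : A₀ = A ∧ B₀ = B := by
  have hT := c.F1 hnA hnB hA1 hB1 hS
  have h1 : Nat.card G ≤ Nat.card A₀ * Nat.card B₀ := by
    rw [← Nat.card_prod]
    apply Nat.card_le_card_of_surjective (fun x : A₀ × B₀ => (x.1 : G) * (x.2 : G))
    intro g
    have hg : g ∈ (S : Set G) := by rw [hT]; trivial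
    rw [hS] at hg
    obtain ⟨u, hu, v, hv, h2⟩ := Set.mem_mul.mp hg
    exact ⟨(⟨u, hu⟩, ⟨v, hv⟩), h2⟩
  have h2 : Nat.card A₀ ≤ Nat.card A := Nat.le_of_dvd Nat.card_pos (Subgroup.card_dvd_of_le hA₀)
  have h3 : Nat.card B₀ ≤ Nat.card B := Nat.le_of_dvd Nat.card_pos (Subgroup.card_dvd_of_le hB₀)
  rw [c.card_eq] at h1
  have hA0 : 0 < Nat.card A := Nat.card_pos
  have hB0 : 0 < Nat.card B := Nat.card_pos
  have hA00 : 0 < Nat.card A₀ := Nat.card_pos
  have hB00 : 0 < Nat.card B₀ := Nat.card_pos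
  have h4 : Nat.card A₀ = Nat.card A := by
    by_contra hne
    have : Nat.card A₀ < Nat.card A := lt_of_le_of_ne h2 hne
    have : Nat.card A₀ * Nat.card B₀ < Nat.card A * Nat.card B :=
      Nat.mul_lt_mul_of_lt_of_le this h3 hB0
    omega
  have h5 : Nat.card B₀ = Nat.card B := by
    by_contra hne
    have : Nat.card B₀ < Nat.card B := lt_of_le_of_ne h3 hne
    have : Nat.card A₀ * Nat.card B₀ < Nat.card A * Nat.card B :=
      Nat.mul_lt_mul_of_le_of_lt h2 this hA0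
    omega
  exact ⟨Subgroup.eq_of_le_of_card_ge hA₀ h4.ge, Subgroup.eq_of_le_of_card_ge hB₀ h5.ge⟩

theorem fac_normalizer_sup {A₀ B₀ : Subgroup G} (hA₀ : A₀ ≤ A) (hB₀ : B₀ ≤ B)
    (hnA : A ≤ Subgroup.normalizer (A₀ : Set G))
    (hnB : B ≤ Subgroup.normalizer (B₀ : Set G)) :
    Fac A B (Subgroup.normalizer ((A₀ ⊔ B₀ : Subgroup G) : Set G)) := by
  have hAn : (A₀.subgroupOf A).Normal := (Subgroup.normal_subgroupOf_iff_le_normalizer hA₀).mpr hnA
  have hBn : (B₀.subgroupOf B).Normal := (Subgroup.normal_subgroupOf_iff_le_normalizer hB₀).mpr hnB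
  intro m hm
  obtain ⟨h, hh, k, hk, e⟩ := Cfsg.Agent.S0562.result A B A₀ B₀ c.prod hA₀ hAn hB₀ hBn m hm
  exact ⟨h, ⟨hh.2, hh.1⟩, k, ⟨hk.2, hk.1⟩, e⟩

/-- normal Hall subgroups of the factors generate everything -/
theorem star {A₀ B₀ : Subgroup G} (hA₀ : A₀ ≤ A) (hB₀ : B₀ ≤ B)
    (hnA : A ≤ Subgroup.normalizer (A₀ : Set G))
    (hnB : B ≤ Subgroup.normalizer (B₀ : Set G)) (hA1 : A₀ ≠ ⊥) (hB1 : B₀ ≠ ⊥)
    (hAh : (Nat.card A₀).Coprime A₀.index) (hBh : (Nat.card B₀).Coprime B₀.index) :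
    A₀ ⊔ B₀ = ⊤ := by
  by_contra hX
  set X := A₀ ⊔ B₀ with hXdef
  have hX1 : X ≠ ⊥ := by
    intro h
    apply hA1
    rw [eq_bot_iff, ← h]; exact le_sup_left
  set N := Subgroup.normalizer (X : Set G) with hNdef
  have hN : N ≠ ⊤ := c.normalizer_ne_top hX1 hX
  have hFac : Fac A B N := c.fac_normalizer_sup hA₀ hB₀ hnA hnB
  haveI hsolv : Group.IsSolvable N := c.ih N hN hFac
  have hXN : X ≤ N := Subgroup.le_normalizer
  have hA₀N : A₀ ≤ N := le_sup_left.trans hXN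
  have hB₀N : B₀ ≤ N := le_sup_right.trans hXN
  obtain ⟨S', hS'⟩ := Cfsg.Agent.Lib.Helper2.HallFac.core (G := N) (A.subgroupOf N)
    (B.subgroupOf N) (A₀.subgroupOf N) (B₀.subgroupOf N)
    (by
      rintro ⟨n, hn⟩
      obtain ⟨a, ha, b, hb, e⟩ := hFac n hn
      exact ⟨⟨a, ha.2⟩, Subgroup.mem_subgroupOf.mpr ha.1, ⟨b, hb.2⟩,
        Subgroup.mem_subgroupOf.mpr hb.1, Subtype.ext e⟩)
    (by
      rintro ⟨h, hhN⟩ hh ⟨a, haN⟩ ha
      rw [Subgroup.mem_subgroupOf] at hh ha ⊢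
      exact conj_mem_of_mem_normalizer (hnA hh) ha)
    (by
      rintro ⟨h, hhN⟩ hh ⟨a, haN⟩ ha
      rw [Subgroup.mem_subgroupOf] at hh ha ⊢
      exact conj_mem_of_mem_normalizer (hnB hh) ha)
    (by
      rw [Cfsg.Agent.Lib.Helper2.card_subgroupOf_of_le hA₀N]
      exact Nat.Coprime.coprime_dvd_right (Subgroup.relIndex_dvd_index_of_le hA₀N) hAh)
    (by
      rw [Cfsg.Agent.Lib.Helper2.card_subgroupOf_of_le hB₀N]
      exact Nat.Coprime.coprime_dvd_right (Subgroup.relIndex_dvd_index_of_le hB₀N) hBh)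
  have hS : ((S'.map N.subtype : Subgroup G) : Set G) = (A₀ : Set G) * (B₀ : Set G) := by
    ext x
    constructor
    · rintro ⟨s, hs, rfl⟩
      have hs' : s ∈ (S' : Set N) := hs
      rw [hS'] at hs'
      obtain ⟨u, hu, v, hv, e⟩ := Set.mem_mul.mp hs'
      refine Set.mem_mul.mpr ⟨u.1, Subgroup.mem_subgroupOf.mp hu, v.1,
        Subgroup.mem_subgroupOf.mp hv, ?_⟩
      rw [← e]; rfl
    · intro hx
      obtain ⟨u, hu, v, hv, e⟩ := Set.mem_mul.mp hx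
      refine ⟨⟨u, hA₀N hu⟩ * ⟨v, hB₀N hv⟩, ?_, e⟩
      show _ ∈ (S' : Set N)
      rw [hS']
      exact Set.mem_mul.mpr ⟨⟨u, hA₀N hu⟩, Subgroup.mem_subgroupOf.mpr hu, ⟨v, hB₀N hv⟩,
        Subgroup.mem_subgroupOf.mpr hv, rfl⟩
  have hT := c.F1 hnA hnB hA1 hB1 hS
  apply hN
  rw [eq_top_iff, ← hT]
  exact Subgroup.map_subtype_le _

end Ctx

end Cfsg.Agent.Lib.Helper2.KegW
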