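import Mathlib
import Cfsg.Agent.Lib.Helper2.KegW4
import Cfsg.Agent.Lib.Helper4.BG8a

set_option autoImplicit false

/-!
Kegel--Wielandt: cores of factorised subgroups; generation by central elements.
-/

namespace Cfsg.Agent.Lib.Helper2.KegW

open scoped Pointwise
open Cfsg.Agent.Lib.Helper4.BG8 (opOf opOf_le opOf_isPGroup le_normalizer_opOf le_opOf fittingOf_le
  le_normalizer_fittingOf fittingOf_eq_iSup centralizer_fittingOf_le opOf_le_fittingOf)

universe u

variable {G : Type u} [Group G] [Finite G] {A B : Subgroup G}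

theorem nil_of_le {H K : Subgroup G} (hK : Group.IsNilpotent K) (h : H ≤ K) :
    Group.IsNilpotent H := by
  haveI := hK
  haveI : Group.IsNilpotent ↥(H.subgroupOf K) := Subgroup.isNilpotent _
  exact Group.nilpotent_of_mulEquiv (Subgroup.subgroupOfEquivOfLe h)

theorem le_normalizer_zpowers_of_central {B : Subgroup G} {b : G}
    (hbc : ∀ y ∈ B, y * b = b * y) : B ≤ Subgroup.normalizer (Subgroup.zpowers b : Set G) := by
  intro y hy
  have hc : Commute y b := hbc y hy
  have key : ∀ z ∈ Subgroup.zpowers b, y * z * y⁻¹ = z := by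
    rintro _ ⟨k, rfl⟩
    have := (hc.zpow_right k).eq
    rw [this]; group
  rw [Subgroup.mem_normalizer_iff]
  intro z
  constructor
  · intro hz; rw [key z hz]; exact hz
  · intro hz
    have h1 : z = y⁻¹ * (y * z * y⁻¹) * y := by group
    have hc' : Commute y⁻¹ b := hc.inv_left
    obtain ⟨k, hk⟩ := hz
    have h2 : y⁻¹ * b ^ k * y = b ^ k := by
      have := (hc'.zpow_right k).eq
      rw [this]; group
    rw [h1, ← hk, h2]; exact ⟨k, rfl⟩

theorem solvable_fitting_ne_bot {M : Subgroup G} (hs : Group.IsSolvable M) (hM : M ≠ ⊥) :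
    ∃ t : ℕ, t.Prime ∧ opOf t M ≠ ⊥ := by
  by_contra hcon
  push_neg at hcon
  have h1 : Cfsg.fittingOf M = ⊥ := by
    rw [fittingOf_eq_iSup, eq_bot_iff]
    apply iSup_le
    intro t
    rw [hcon t t.2]
  have h2 := centralizer_fittingOf_le hs
  rw [h1] at h2
  apply hM
  rw [eq_bot_iff]
  intro x hx
  apply h2
  refine Subgroup.mem_inf.mpr ⟨hx, ?_⟩
  rw [Subgroup.mem_centralizer_iff]
  intro y hy
  have : y = 1 := hy
  rw [this, one_mul, mul_one]

namespace Ctx

variable (c : Ctx G A B)
include c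

theorem pq_hall (r : ℕ) [hr : Fact r.Prime] : (Nat.card (pq A r)).Coprime (pq A r).index := by
  have h1 := Subgroup.card_mul_index (pq A r)
  rw [c.card_eq, ← card_pp_mul_card_pq (p := r) c.nilA] at h1
  have h2 : (pq A r).index = Nat.card (pp A r) * Nat.card B := by
    have h3 : Nat.card (pq A r) * (pq A r).index =
        Nat.card (pq A r) * (Nat.card (pp A r) * Nat.card B) := by rw [h1]; ring
    exact Nat.eq_of_mul_eq_mul_left Nat.card_pos h3
  rw [h2]
  apply Nat.Coprime.mul_right
  · rw [card_pp c.nilA]; exact Nat.Coprime.pow_right _ (card_pq_coprime c.nilA)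
  · exact Nat.Coprime.coprime_dvd_left (Subgroup.card_dvd_of_le (pq_le A r)) c.cop

/-- the `t`-core of a factorised subgroup lies in `A` when `t` does not divide `|B|` -/
theorem opOf_le_A {M : Subgroup G} (hF : Fac A B M) {t : ℕ} [ht : Fact t.Prime]
    (htB : ¬ t ∣ Nat.card B) : opOf t M ≤ A := by
  set R := opOf t M with hR
  have hAM : Group.IsNilpotent (A ⊓ M : Subgroup G) := nil_of_le c.nilA inf_le_left
  set S := pp (A ⊓ M) t with hS
  have hSt : IsPGroup t S := pp_isPGroup hAM
  have hSM : S ≤ M := (pp_le _ _).trans inf_le_right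
  have hRS : IsPGroup t (R ⊔ S : Subgroup G) :=
    IsPGroup.to_sup_of_normal_left' (opOf_isPGroup t M) hSt (hSM.trans (le_normalizer_opOf t M))
  have hle : R ⊔ S ≤ M := sup_le (opOf_le t M) hSM
  obtain ⟨k, hk⟩ := IsPGroup.iff_card.mp hRS
  have hdvd : t ^ k ∣ Nat.card M := hk ▸ Subgroup.card_dvd_of_le hle
  have hcop : (t ^ k).Coprime (Nat.card (B ⊓ M : Subgroup G)) := by
    apply Nat.Coprime.pow_left
    apply (Nat.Prime.coprime_iff_not_dvd ht.out).mpr
    intro h
    exact htB (h.trans (Subgroup.card_dvd_of_le inf_le_left))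
  rw [c.card_fac hF] at hdvd
  have hdvd' : t ^ k ∣ Nat.card (A ⊓ M : Subgroup G) := hcop.dvd_of_dvd_mul_right hdvd
  have hk' : k ≤ (Nat.card (A ⊓ M : Subgroup G)).factorization t :=
    (ht.out.pow_dvd_iff_le_factorization Nat.card_pos.ne').mp hdvd'
  have hcard : Nat.card (R ⊔ S : Subgroup G) ≤ Nat.card S := by
    rw [hk, hS, card_pp hAM]
    exact Nat.pow_le_pow_right ht.out.pos hk'
  have heq : S = R ⊔ S := Subgroup.eq_of_le_of_card_ge le_sup_right hcard
  calc R ≤ R ⊔ S := le_sup_left
    _ = S := heq.symm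
    _ ≤ A := (pp_le _ _).trans inf_le_left

theorem opOf_le_B {M : Subgroup G} (hF : Fac A B M) {t : ℕ} [ht : Fact t.Prime]
    (htA : ¬ t ∣ Nat.card A) : opOf t M ≤ B :=
  c.symm.opOf_le_A hF.symm htA

theorem opOf_ne_top {M : Subgroup G} (t : ℕ) [ht : Fact t.Prime] : opOf t M ≠ ⊤ :=
  c.ne_top_of_isPGroup (opOf_isPGroup t M)

theorem not_dvd_of_dvd {t : ℕ} (ht : t.Prime) (h : t ∣ Nat.card B) : ¬ t ∣ Nat.card A := by
  intro h'
  have := Nat.Coprime.eq_one_of_dvd (Nat.Coprime.coprime_dvd_left h' c.cop) h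
  exact ht.one_lt.ne' this

/-- `O_{r'}(A)` together with a central element of `B` generates `G` -/
theorem C4 (r : ℕ) [hr : Fact r.Prime] {b : G} (hb : b ∈ B) (hbc : ∀ y ∈ B, y * b = b * y)
    (hb1 : b ≠ 1) : pq A r ⊔ Subgroup.zpowers b = ⊤ := by
  by_contra hX
  set X := pq A r ⊔ Subgroup.zpowers b with hXdef
  have hA₀ : pq A r ≤ A := pq_le A r
  have hB₀ : Subgroup.zpowers b ≤ B := Subgroup.zpowers_le.mpr hb
  have hnA : A ≤ Subgroup.normalizer (pq A r : Set G) := le_normalizer_pq A r
  have hnB : B ≤ Subgroup.normalizer (Subgroup.zpowers b : Set G) :=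
    le_normalizer_zpowers_of_central hbc
  have hZ1 : Subgroup.zpowers b ≠ ⊥ := by
    intro h
    apply hb1
    have : b ∈ Subgroup.zpowers b := Subgroup.mem_zpowers b
    rwa [h, Subgroup.mem_bot] at this
  have hX1 : X ≠ ⊥ := by
    intro h
    apply c.pq_ne_bot r
    rw [eq_bot_iff, ← h]; exact le_sup_left
  set N := Subgroup.normalizer (X : Set G) with hNdef
  have hN : N ≠ ⊤ := c.normalizer_ne_top hX1 hX
  have hFac : Fac A B N := c.fac_normalizer_sup hA₀ hB₀ hnA hnB
  have hsolv : Group.IsSolvable N := c.ih N hN hFac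
  have hXN : X ≤ N := Subgroup.le_normalizer
  have hpqN : pq A r ≤ N := le_sup_left.trans hXN
  have hbN : b ∈ N := hXN (Subgroup.mem_sup_right (Subgroup.mem_zpowers b))
  have key : ∀ t : ℕ, t.Prime → t ≠ r → opOf t N = ⊥ := by
    intro t ht htr
    haveI : Fact t.Prime := ⟨ht⟩
    by_cases htB : t ∣ Nat.card B
    · have h1 : opOf t N ≤ B := c.opOf_le_B hFac (c.not_dvd_of_dvd ht htB)
      have h2 : opOf t N ≤ pp B t := le_pp_of_isPGroup h1 (opOf_isPGroup t N)
      have h3 : pq A r ⊔ pq B t ≤ Subgroup.normalizer (opOf t N : Set G) := by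
        apply sup_le (hpqN.trans (le_normalizer_opOf t N))
        refine le_trans ?_ (Subgroup.centralizer_le_normalizer (s := (opOf t N : Set G)))
        intro v hv
        rw [Subgroup.mem_centralizer_iff]
        intro u hu
        exact commute_pp_pq c.nilB u (h2 hu) v hv
      have h4 : pq A r ⊔ pq B t = ⊤ :=
        c.star hA₀ (pq_le B t) hnA (le_normalizer_pq B t) (c.pq_ne_bot r) (c.symm.pq_ne_bot t)
          (c.pq_hall r) (c.symm.pq_hall t)
      rw [h4] at h3
      exact c.eq_bot_of_normalizer_eq_top (c.opOf_ne_top t) (top_le_iff.mp h3)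
    · have h1 : opOf t N ≤ A := c.opOf_le_A hFac htB
      by_contra hne
      have h2 : opOf t N ≤ pp A t := le_pp_of_isPGroup h1 (opOf_isPGroup t N)
      have h3 : A ≤ Subgroup.normalizer (opOf t N : Set G) := by
        rw [← pp_sup_pq (p := r) c.nilA]
        apply sup_le _ (hpqN.trans (le_normalizer_opOf t N))
        refine le_trans ?_ (Subgroup.centralizer_le_normalizer (s := (opOf t N : Set G)))
        intro u hu
        rw [Subgroup.mem_centralizer_iff]
        intro x hx
        exact (commute_pp_pq c.nilA u hu x (pp_le_pq c.nilA htr (h2 hx))).symm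
      have h4 : Subgroup.zpowers b ≤ Subgroup.normalizer (opOf t N : Set G) :=
        (Subgroup.zpowers_le.mpr hbN).trans (le_normalizer_opOf t N)
      have h5 := c.F1_eq h1 hB₀ h3 hnB hne hZ1
        (Subgroup.coe_mul_of_right_le_normalizer_left (opOf t N) (Subgroup.zpowers b) h4)
      apply c.pq_ne_bot t
      rw [eq_bot_iff]
      intro x hx
      have hx' : x ∈ pp A t := by
        apply le_pp_of_isPGroup (le_refl A) (h5.1 ▸ opOf_isPGroup t N)
        exact pq_le A t hx
      have : x ∈ pp A t ⊓ pq A t := ⟨hx', hx⟩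
      rwa [pp_inf_pq c.nilA] at this
  have hfit : Cfsg.fittingOf N ≤ opOf r N := by
    rw [fittingOf_eq_iSup]
    apply iSup_le
    intro t
    by_cases htr : (t : ℕ) = r
    · rw [htr]
    · rw [key t t.2 htr]; exact bot_le
  have hr1 : opOf r N ≤ pp A r := by
    apply le_pp_of_isPGroup _ (opOf_isPGroup r N)
    apply c.opOf_le_A hFac
    intro h
    have hrA : ¬ r ∣ Nat.card A := c.not_dvd_of_dvd hr.out h
    have h1 : opOf r N ≤ B := c.opOf_le_B hFac hrA
    -- then the Fitting subgroup is an r-group inside B, and `pq A r` centralizes... use key fact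
    have h2 : pp A r = ⊥ := pp_eq_bot c.nilA hrA
    have h3 : pq A r = A := by
      have := pp_sup_pq (p := r) c.nilA
      rwa [h2, bot_sup_eq] at this
    -- normalizer of opOf r N contains A and pq B r
    have h4 : opOf r N ≤ pp B r := le_pp_of_isPGroup h1 (opOf_isPGroup r N)
    have h5 : pq A r ⊔ pq B r ≤ Subgroup.normalizer (opOf r N : Set G) := by
      apply sup_le (hpqN.trans (le_normalizer_opOf r N))
      refine le_trans ?_ (Subgroup.centralizer_le_normalizer (s := (opOf r N : Set G)))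
      intro v hv
      rw [Subgroup.mem_centralizer_iff]
      intro u hu
      exact commute_pp_pq c.nilB u (h4 hu) v hv
    have h6 : pq A r ⊔ pq B r = ⊤ :=
      c.star hA₀ (pq_le B r) hnA (le_normalizer_pq B r) (c.pq_ne_bot r) (c.symm.pq_ne_bot r)
        (c.pq_hall r) (c.symm.pq_hall r)
    rw [h6] at h5
    have h7 := c.eq_bot_of_normalizer_eq_top (c.opOf_ne_top r) (top_le_iff.mp h5)
    -- so the Fitting subgroup is trivial: contradiction with solvable nontrivial
    obtain ⟨t, ht, hne⟩ := solvable_fitting_ne_bot hsolv (by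
      intro h; apply hX1; rw [eq_bot_iff, ← h]; exact hXN)
    by_cases htr : t = r
    · subst htr; exact hne h7
    · exact hne (key t ht htr)
  have hcen : pq A r ≤ N ⊓ Subgroup.centralizer (Cfsg.fittingOf N : Set G) := by
    apply le_inf hpqN
    intro v hv
    rw [Subgroup.mem_centralizer_iff]
    intro u hu
    exact commute_pp_pq c.nilA u (hr1 (hfit hu)) v hv
  have h1 : pq A r ≤ pp A r := (hcen.trans (centralizer_fittingOf_le hsolv)).trans (hfit.trans hr1)
  apply c.pq_ne_bot r
  rw [eq_bot_iff]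
  intro x hx
  have : x ∈ pp A r ⊓ pq A r := ⟨h1 hx, hx⟩
  rwa [pp_inf_pq c.nilA] at this

end Ctx

end Cfsg.Agent.Lib.Helper2.KegW
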