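import Mathlib
import Cfsg.Agent.Lib.Helper2.KegW5

set_option autoImplicit false

/-!
Kegel--Wielandt: normal subgroups of the factors generate; centralizers of central elements.
-/

namespace Cfsg.Agent.Lib.Helper2.KegW

open scoped Pointwise
open Cfsg.Agent.Lib.Helper4.BG8 (opOf opOf_le opOf_isPGroup le_normalizer_opOf le_opOf fittingOf_le
  le_normalizer_fittingOf fittingOf_eq_iSup centralizer_fittingOf_le opOf_le_fittingOf)

universe u

variable {G : Type u} [Group G] [Finite G] {A B : Subgroup G}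

namespace Ctx

variable (c : Ctx G A B)
include c

/-- a nontrivial normal subgroup of `A` contains a nontrivial central element of `A` -/
theorem exists_central_in {A₀ : Subgroup G} (hA₀ : A₀ ≤ A)
    (hnA : A ≤ Subgroup.normalizer (A₀ : Set G)) (hA1 : A₀ ≠ ⊥) :
    ∃ a ∈ A₀, a ≠ 1 ∧ ∀ h ∈ A, h * a = a * h := by
  haveI := c.nilA
  haveI hn : (A₀.subgroupOf A).Normal := (Subgroup.normal_subgroupOf_iff_le_normalizer hA₀).mpr hnA
  have h1 := Cfsg.Agent.Lib.Lead.inf_center_ne_bot (A₀.subgroupOf A) (by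
    intro h0
    apply hA1
    rw [Subgroup.eq_bot_iff_forall]
    intro x hx
    have : (⟨x, hA₀ hx⟩ : A) ∈ A₀.subgroupOf A := Subgroup.mem_subgroupOf.mpr hx
    rw [h0, Subgroup.mem_bot] at this
    exact congrArg Subtype.val this)
  obtain ⟨⟨z, hz⟩, hz1⟩ := (Subgroup.ne_bot_iff_exists_ne_one).mp h1
  refine ⟨(z : G), Subgroup.mem_subgroupOf.mp hz.1, ?_, ?_⟩
  · intro h0
    apply hz1
    apply Subtype.ext
    apply Subtype.ext
    simpa using h0
  · intro h hh
    have := Subgroup.mem_center_iff.mp hz.2 ⟨h, hh⟩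
    exact congrArg Subtype.val this

/-- nontrivial normal subgroups of the two factors generate `G` -/
theorem C6 {A₀ B₀ : Subgroup G} (hA₀ : A₀ ≤ A) (hB₀ : B₀ ≤ B)
    (hnA : A ≤ Subgroup.normalizer (A₀ : Set G))
    (hnB : B ≤ Subgroup.normalizer (B₀ : Set G)) (hA1 : A₀ ≠ ⊥) (hB1 : B₀ ≠ ⊥) :
    A₀ ⊔ B₀ = ⊤ := by
  by_contra hX
  set X := A₀ ⊔ B₀ with hXdef
  have hX1 : X ≠ ⊥ := by
    intro h
    apply hA1
    rw [eq_bot_iff, ← h]; exact le_sup_left
  set N := Subgroup.normalizer (X : Set G) with hNdef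
  have hN : N ≠ ⊤ := c.normalizer_ne_top hX1 hX
  have hFac : Fac A B N := c.fac_normalizer_sup hA₀ hB₀ hnA hnB
  have hsolv : Group.IsSolvable N := c.ih N hN hFac
  have hXN : X ≤ N := Subgroup.le_normalizer
  have hN1 : N ≠ ⊥ := by
    intro h; apply hX1; rw [eq_bot_iff, ← h]; exact hXN
  obtain ⟨t, ht, hne⟩ := solvable_fitting_ne_bot hsolv hN1
  haveI : Fact t.Prime := ⟨ht⟩
  obtain ⟨a, haA₀, ha1, hac⟩ := c.exists_central_in hA₀ hnA hA1
  obtain ⟨b, hbB₀, hb1, hbc⟩ := c.symm.exists_central_in hB₀ hnB hB1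
  have haN : a ∈ N := hXN (Subgroup.mem_sup_left haA₀)
  have hbN : b ∈ N := hXN (Subgroup.mem_sup_right hbB₀)
  apply hne
  by_cases htB : t ∣ Nat.card B
  · have h1 : opOf t N ≤ B := c.opOf_le_B hFac (c.not_dvd_of_dvd ht htB)
    have h2 : opOf t N ≤ pp B t := le_pp_of_isPGroup h1 (opOf_isPGroup t N)
    have h3 : pq B t ⊔ Subgroup.zpowers a ≤ Subgroup.normalizer (opOf t N : Set G) := by
      apply sup_le _ ((Subgroup.zpowers_le.mpr haN).trans (le_normalizer_opOf t N))
      refine le_trans ?_ (Subgroup.centralizer_le_normalizer (s := (opOf t N : Set G)))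
      intro v hv
      rw [Subgroup.mem_centralizer_iff]
      intro u hu
      exact commute_pp_pq c.nilB u (h2 hu) v hv
    rw [c.symm.C4 t (hA₀ haA₀) hac ha1] at h3
    exact c.eq_bot_of_normalizer_eq_top (c.opOf_ne_top t) (top_le_iff.mp h3)
  · have h1 : opOf t N ≤ A := c.opOf_le_A hFac htB
    have h2 : opOf t N ≤ pp A t := le_pp_of_isPGroup h1 (opOf_isPGroup t N)
    have h3 : pq A t ⊔ Subgroup.zpowers b ≤ Subgroup.normalizer (opOf t N : Set G) := by
      apply sup_le _ ((Subgroup.zpowers_le.mpr hbN).trans (le_normalizer_opOf t N))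
      refine le_trans ?_ (Subgroup.centralizer_le_normalizer (s := (opOf t N : Set G)))
      intro v hv
      rw [Subgroup.mem_centralizer_iff]
      intro u hu
      exact commute_pp_pq c.nilA u (h2 hu) v hv
    rw [c.C4 t (hB₀ hbB₀) hbc hb1] at h3
    exact c.eq_bot_of_normalizer_eq_top (c.opOf_ne_top t) (top_le_iff.mp h3)

theorem zpowers_ne_bot' {x : G} (hx : x ≠ 1) : Subgroup.zpowers x ≠ ⊥ := by
  intro h
  apply hx
  have : x ∈ Subgroup.zpowers x := Subgroup.mem_zpowers x
  rwa [h, Subgroup.mem_bot] at this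

/-- central elements of the two factors generate `G` -/
theorem gen {a b : G} (ha : a ∈ A) (hac : ∀ h ∈ A, h * a = a * h) (ha1 : a ≠ 1)
    (hb : b ∈ B) (hbc : ∀ h ∈ B, h * b = b * h) (hb1 : b ≠ 1) :
    Subgroup.zpowers a ⊔ Subgroup.zpowers b = ⊤ :=
  c.C6 (Subgroup.zpowers_le.mpr ha) (Subgroup.zpowers_le.mpr hb)
    (le_normalizer_zpowers_of_central hac) (le_normalizer_zpowers_of_central hbc)
    (c.zpowers_ne_bot' ha1) (c.zpowers_ne_bot' hb1)

/-- a subgroup normalized by central elements of both factors is normal -/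
theorem normalizer_eq_top_of_mem {X : Subgroup G} {a b : G} (ha : a ∈ A)
    (hac : ∀ h ∈ A, h * a = a * h) (ha1 : a ≠ 1)
    (hb : b ∈ B) (hbc : ∀ h ∈ B, h * b = b * h) (hb1 : b ≠ 1)
    (haX : a ∈ Subgroup.normalizer (X : Set G)) (hbX : b ∈ Subgroup.normalizer (X : Set G)) :
    Subgroup.normalizer (X : Set G) = ⊤ := by
  rw [eq_top_iff, ← c.gen ha hac ha1 hb hbc hb1]
  exact sup_le (Subgroup.zpowers_le.mpr haX) (Subgroup.zpowers_le.mpr hbX)

/-- the centralizer of a nontrivial central element of `A` is `A` -/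
theorem cent_eq {a : G} (ha : a ∈ A) (hac : ∀ h ∈ A, h * a = a * h) (ha1 : a ≠ 1) :
    Subgroup.centralizer ({a} : Set G) = A := by
  obtain ⟨b, hb, hb1, hbc⟩ := c.symm.exists_central
  have hg := c.gen ha hac ha1 hb hbc hb1
  have hAle : A ≤ Subgroup.centralizer ({a} : Set G) := by
    intro y hy
    rw [Subgroup.mem_centralizer_iff]
    intro w hw
    rw [Set.mem_singleton_iff] at hw
    rw [hw]; exact (hac y hy).symm
  have hBle : B ≤ Subgroup.centralizer ({b} : Set G) := by
    intro y hy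
    rw [Subgroup.mem_centralizer_iff]
    intro w hw
    rw [Set.mem_singleton_iff] at hw
    rw [hw]; exact (hbc y hy).symm
  have hinf : ∀ x : G, x ∈ Subgroup.centralizer ({a} : Set G) →
      x ∈ Subgroup.centralizer ({b} : Set G) → x = 1 := by
    intro x hxa hxb
    by_contra hx1
    apply c.centralizer_ne_top hx1
    rw [eq_top_iff, ← hg]
    apply sup_le
    · rw [Subgroup.zpowers_le, Subgroup.mem_centralizer_iff]
      intro w hw
      rw [Set.mem_singleton_iff] at hw
      rw [hw]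
      exact (Subgroup.mem_centralizer_iff.mp hxa a rfl).symm
    · rw [Subgroup.zpowers_le, Subgroup.mem_centralizer_iff]
      intro w hw
      rw [Set.mem_singleton_iff] at hw
      rw [hw]
      exact (Subgroup.mem_centralizer_iff.mp hxb b rfl).symm
  have hcard : Nat.card (Subgroup.centralizer ({a} : Set G)) *
      Nat.card (Subgroup.centralizer ({b} : Set G)) ≤ Nat.card G := by
    rw [← Nat.card_prod]
    apply Nat.card_le_card_of_injective
      (fun x : (Subgroup.centralizer ({a} : Set G)) × (Subgroup.centralizer ({b} : Set G)) =>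
        (x.1 : G) * (x.2 : G))
    rintro ⟨⟨x, hx⟩, ⟨y, hy⟩⟩ ⟨⟨x', hx'⟩, ⟨y', hy'⟩⟩ h
    have h0 : x * y = x' * y' := h
    have h1 : x'⁻¹ * x = y' * y⁻¹ := by
      have : x'⁻¹ * (x * y) * y⁻¹ = x'⁻¹ * (x' * y') * y⁻¹ := by rw [h0]
      have e1 : x'⁻¹ * (x * y) * y⁻¹ = x'⁻¹ * x := by group
      have e2 : x'⁻¹ * (x' * y') * y⁻¹ = y' * y⁻¹ := by group
      rw [e1, e2] at this; exact this
    have h2 := hinf (x'⁻¹ * x) (mul_mem (inv_mem hx') hx) (h1 ▸ mul_mem hy' (inv_mem hy))
    have h3 : x = x' := (inv_mul_eq_one.mp h2).symm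
    have h4 : y = y' := by
      rw [h2] at h1
      exact (mul_inv_eq_one.mp h1.symm).symm
    subst h3 h4
    rfl
  rw [c.card_eq] at hcard
  have h2 : Nat.card A ≤ Nat.card (Subgroup.centralizer ({a} : Set G)) :=
    Nat.le_of_dvd Nat.card_pos (Subgroup.card_dvd_of_le hAle)
  have h3 : Nat.card B ≤ Nat.card (Subgroup.centralizer ({b} : Set G)) :=
    Nat.le_of_dvd Nat.card_pos (Subgroup.card_dvd_of_le hBle)
  have hB0 : 0 < Nat.card B := Nat.card_pos
  have h4 : Nat.card (Subgroup.centralizer ({a} : Set G)) ≤ Nat.card A := by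
    by_contra hlt
    push_neg at hlt
    have : Nat.card A * Nat.card B < Nat.card (Subgroup.centralizer ({a} : Set G)) *
        Nat.card (Subgroup.centralizer ({b} : Set G)) :=
      Nat.mul_lt_mul_of_lt_of_le hlt h3 (Nat.card_pos)
    omega
  exact (Subgroup.eq_of_le_of_card_ge hAle h4).symm

end Ctx

end Cfsg.Agent.Lib.Helper2.KegW
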