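import Mathlib
import Cfsg.Agent.Lib.Helper2.KegW6
import Cfsg.Agent.Lib.Lead.CoprimeSylow

set_option autoImplicit false

/-!
Kegel--Wielandt: proper overgroups of a factor normalize it.
-/

namespace Cfsg.Agent.Lib.Helper2.KegW

open scoped Pointwise
open Cfsg.Agent.Lib.Helper4.BG8 (opOf opOf_le opOf_isPGroup le_normalizer_opOf le_opOf fittingOf_le
  le_normalizer_fittingOf fittingOf_eq_iSup centralizer_fittingOf_le opOf_le_fittingOf
  isNilpotent_fittingOf)

universe u

variable {G : Type u} [Group G] [Finite G] {A B : Subgroup G}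

theorem normalizer_le_normalizer_centralizer (X : Subgroup G) :
    Subgroup.normalizer (X : Set G) ≤
      Subgroup.normalizer ((Subgroup.centralizer (X : Set G) : Subgroup G) : Set G) := by
  intro m hm
  apply Subgroup.mem_normalizer_fintype
  intro z hz
  have hz' : z ∈ Subgroup.centralizer (X : Set G) := hz
  show m * z * m⁻¹ ∈ Subgroup.centralizer (X : Set G)
  rw [Subgroup.mem_centralizer_iff]
  intro x hx
  have hx' : m⁻¹ * x * m ∈ X := conj_mem_of_mem_normalizer' hm hx
  have h1 := Subgroup.mem_centralizer_iff.mp hz' _ hx'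
  have e1 : x * (m * z * m⁻¹) = m * ((m⁻¹ * x * m) * z) * m⁻¹ := by group
  have e2 : m * z * m⁻¹ * x = m * (z * (m⁻¹ * x * m)) * m⁻¹ := by group
  rw [e1, e2, h1]

theorem normalizer_inf_le' (X Y : Subgroup G) :
    Subgroup.normalizer (X : Set G) ⊓ Subgroup.normalizer (Y : Set G) ≤
      Subgroup.normalizer ((X ⊓ Y : Subgroup G) : Set G) := by
  rintro m ⟨hmX, hmY⟩
  apply Subgroup.mem_normalizer_fintype
  rintro z ⟨hzX, hzY⟩
  exact ⟨conj_mem_of_mem_normalizer hmX hzX, conj_mem_of_mem_normalizer hmY hzY⟩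

theorem normalizer_inf_le_sup (X Y : Subgroup G) :
    Subgroup.normalizer (X : Set G) ⊓ Subgroup.normalizer (Y : Set G) ≤
      Subgroup.normalizer ((X ⊔ Y : Subgroup G) : Set G) := by
  rintro m ⟨hmX, hmY⟩
  rw [Cfsg.Agent.Lib.Lead.mem_normalizer_iff_conj_smul, Subgroup.smul_sup,
    smul_eq_of_mem_normalizer hmX, smul_eq_of_mem_normalizer hmY]

namespace Ctx

variable (c : Ctx G A B)
include c

/-- a nontrivial central `p`-element of `A` -/
theorem exists_central_p {p : ℕ} [hp : Fact p.Prime] (hpA : p ∣ Nat.card A) :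
    ∃ z ∈ pp A p, z ≠ 1 ∧ ∀ h ∈ A, h * z = z * h :=
  c.exists_central_in (pp_le A p) (le_normalizer_pp A p) (pp_ne_bot c.nilA hpA)

theorem lemX {M : Subgroup G} (hM : M ≠ ⊤) (hF : Fac A B M)
    (hcen : ∀ z ∈ A, (∀ h ∈ A, h * z = z * h) → z ∈ M) {p : ℕ} [hp : Fact p.Prime]
    (hpA : p ∣ Nat.card A) (hpq : pq A p ≤ M) :
    M ≤ Subgroup.normalizer (pq A p : Set G) := by
  have hsolv : Group.IsSolvable M := c.ih M hM hF
  obtain ⟨a, ha, ha1, hac⟩ := c.exists_central
  obtain ⟨b, hb, hb1, hbc⟩ := c.symm.exists_central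
  have haM : a ∈ M := hcen a ha hac
  -- cores for primes of `B` vanish
  have h1 : ∀ t : ℕ, t.Prime → t ∣ Nat.card B → opOf t M = ⊥ := by
    intro t ht htB
    haveI : Fact t.Prime := ⟨ht⟩
    have h2 : opOf t M ≤ B := c.opOf_le_B hF (c.not_dvd_of_dvd ht htB)
    apply c.eq_bot_of_normalizer_eq_top (c.opOf_ne_top t)
    apply c.normalizer_eq_top_of_mem ha hac ha1 hb hbc hb1 (le_normalizer_opOf t M haM)
    apply Subgroup.centralizer_le_normalizer
    rw [Subgroup.mem_centralizer_iff]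
    intro u hu
    exact hbc u (h2 hu)
  have hfitA : Cfsg.fittingOf M ≤ A := by
    rw [fittingOf_eq_iSup]
    apply iSup_le
    intro t
    haveI : Fact (t : ℕ).Prime := ⟨t.2⟩
    by_cases htB : (t : ℕ) ∣ Nat.card B
    · rw [h1 t t.2 htB]; exact bot_le
    · exact c.opOf_le_A hF htB
  obtain ⟨z, hzp, hz1, hzc⟩ := c.exists_central_p hpA
  have hzA : z ∈ A := pp_le A p hzp
  have hzM : z ∈ M := hcen z hzA hzc
  have hzF : z ∈ Cfsg.fittingOf M := by
    apply centralizer_fittingOf_le hsolv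
    refine Subgroup.mem_inf.mpr ⟨hzM, ?_⟩
    rw [Subgroup.mem_centralizer_iff]
    intro u hu
    exact hzc u (hfitA hu)
  have hpB : ¬ p ∣ Nat.card B := fun h => c.not_dvd_of_dvd hp.out h hpA
  set R := opOf p M with hR
  have hRA : R ≤ A := c.opOf_le_A hF hpB
  have hRp : R ≤ pp A p := le_pp_of_isPGroup hRA (opOf_isPGroup p M)
  have hzR : z ∈ R := by
    have hnF : Group.IsNilpotent (Cfsg.fittingOf M) := isNilpotent_fittingOf M
    have h2 : pp (Cfsg.fittingOf M) p ≤ R := by
      apply le_opOf ((pp_le _ _).trans (fittingOf_le M))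
        ((le_normalizer_fittingOf M).trans (normalizer_le_normalizer_pp _ _))
        (pp_isPGroup hnF)
    apply h2
    obtain ⟨k, hk⟩ := (mem_pp_iff c.nilA).mp hzp
    exact mem_pp hzF hk.choose hk.choose_spec
  set W := R ⊓ Subgroup.centralizer (R : Set G) with hW
  have hzW : z ∈ W := by
    refine Subgroup.mem_inf.mpr ⟨hzR, ?_⟩
    rw [Subgroup.mem_centralizer_iff]
    intro u hu
    exact hzc u (hRA hu)
  set K := M ⊓ Subgroup.centralizer (W : Set G) with hK
  have hKA : K ≤ A := by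
    intro x hx
    have h2 : x ∈ Subgroup.centralizer ({z} : Set G) := by
      rw [Subgroup.mem_centralizer_iff]
      intro w hw
      rw [Set.mem_singleton_iff] at hw
      rw [hw]
      exact Subgroup.mem_centralizer_iff.mp hx.2 z hzW
    rwa [c.cent_eq hzA hzc hz1] at h2
  have hMW : M ≤ Subgroup.normalizer (W : Set G) := by
    intro m hm
    apply normalizer_inf_le'
    have hmR : m ∈ Subgroup.normalizer (R : Set G) := le_normalizer_opOf p M hm
    exact ⟨hmR, normalizer_le_normalizer_centralizer R hmR⟩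
  have hMK : M ≤ Subgroup.normalizer (K : Set G) := by
    intro m hm
    apply normalizer_inf_le'
    exact ⟨Subgroup.le_normalizer hm, normalizer_le_normalizer_centralizer W (hMW hm)⟩
  have hpqK : pq A p ≤ K := by
    apply le_inf hpq
    intro v hv
    rw [Subgroup.mem_centralizer_iff]
    intro u hu
    exact commute_pp_pq c.nilA u (hRp hu.1) v hv
  have heq : pq K p = pq A p :=
    le_antisymm (pq_mono hKA p) (le_pq_of_coprime hpqK (card_pq_coprime c.nilA))
  rw [← heq]
  exact hMK.trans (normalizer_le_normalizer_pq K p)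

/-- every proper subgroup containing `A` normalizes `A` -/
theorem le_normalizer_of_ge {M : Subgroup G} (hM : M ≠ ⊤) (hAM : A ≤ M) :
    M ≤ Subgroup.normalizer (A : Set G) := by
  have hF : Fac A B M := c.fac_of_le hAM
  have hA1 : Nat.card A ≠ 1 := by
    intro h
    exact c.A_ne_bot (Subgroup.eq_bot_of_card_eq _ h)
  obtain ⟨p, hp, hpA⟩ := Nat.exists_prime_and_dvd hA1
  haveI : Fact p.Prime := ⟨hp⟩
  obtain ⟨q, hq, hqp, hqA⟩ := c.exists_other_prime p
  haveI : Fact q.Prime := ⟨hq⟩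
  have h1 := c.lemX hM hF (fun z hz _ => hAM hz) hpA ((pq_le A p).trans hAM)
  have h2 := c.lemX hM hF (fun z hz _ => hAM hz) hqA ((pq_le A q).trans hAM)
  have h3 : pq A p ⊔ pq A q = A := by
    apply le_antisymm (sup_le (pq_le A p) (pq_le A q))
    have h4 : pp A p ≤ pq A q := pp_le_pq (p := q) (q := p) c.nilA hqp.symm
    have h5 : pp A p ⊔ pq A p ≤ pq A p ⊔ pq A q :=
      sup_le (h4.trans le_sup_right) le_sup_left
    rwa [pp_sup_pq (p := p) c.nilA] at h5
  intro m hm
  have := normalizer_inf_le_sup (pq A p) (pq A q) ⟨h1 hm, h2 hm⟩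
  rwa [h3] at this

theorem normalizer_A_ne_top : Subgroup.normalizer (A : Set G) ≠ ⊤ :=
  c.normalizer_ne_top c.A_ne_bot c.A_ne_top

/-- the normalizer of a nontrivial normal subgroup of `A` lies in the normalizer of `A` -/
theorem normalizer_le_of_normal {A₀ : Subgroup G} (hA₀ : A₀ ≤ A)
    (hnA : A ≤ Subgroup.normalizer (A₀ : Set G)) (hA1 : A₀ ≠ ⊥) :
    Subgroup.normalizer (A₀ : Set G) ≤ Subgroup.normalizer (A : Set G) := by
  apply c.le_normalizer_of_ge _ hnA
  apply c.normalizer_ne_top hA1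
  intro h
  apply c.A_ne_top
  rw [eq_top_iff, ← h]; exact hA₀

end Ctx

end Cfsg.Agent.Lib.Helper2.KegW
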