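import Mathlib
import Cfsg.Agent.Lib.Helper2.KegW7
import Cfsg.Agent.Lib.Lead.SZConjB

set_option autoImplicit false

/-!
Kegel--Wielandt: the normalizers of the two factors.
-/

namespace Cfsg.Agent.Lib.Helper2.KegW

open scoped Pointwise

universe u

variable {G : Type u} [Group G] [Finite G] {A B : Subgroup G}

theorem centralizer_singleton_le_normalizer_zpowers (t : G) :
    Subgroup.centralizer ({t} : Set G) ≤ Subgroup.normalizer (Subgroup.zpowers t : Set G) := by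
  apply le_normalizer_zpowers_of_central
  intro y hy
  exact (Subgroup.mem_centralizer_iff.mp hy t rfl).symm

theorem mem_centralizer_singleton {x t : G} (h : x * t = t * x) :
    x ∈ Subgroup.centralizer ({t} : Set G) := by
  rw [Subgroup.mem_centralizer_iff]
  intro w hw
  rw [Set.mem_singleton_iff] at hw
  rw [hw]; exact h.symm

theorem exists_prime_order_pow {t : G} (ht : t ≠ 1) :
    ∃ (q : ℕ) (k : ℕ), q.Prime ∧ orderOf (t ^ k) = q := by
  have h1 : orderOf t ≠ 1 := by rwa [Ne, orderOf_eq_one_iff]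
  obtain ⟨q, hq, hqd⟩ := Nat.exists_prime_and_dvd h1
  exact ⟨q, orderOf t / q, hq, orderOf_pow_orderOf_div (orderOf_pos t).ne' hqd⟩

namespace Ctx

variable (c : Ctx G A B)
include c

theorem cent_le_normalizer_prime {t : G} {q : ℕ} [hq : Fact q.Prime] (ht : t ∈ B)
    (htn : t ∈ Subgroup.normalizer (A : Set G)) (hqt : orderOf t = q) :
    Subgroup.centralizer ({t} : Set G) ≤ Subgroup.normalizer (B : Set G) := by
  have ht1 : t ≠ 1 := by
    intro h
    rw [h, orderOf_one] at hqt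
    exact hq.out.one_lt.ne hqt
  set T := Subgroup.zpowers t with hT
  set M := Subgroup.normalizer (T : Set G) with hMdef
  have hTB : T ≤ B := Subgroup.zpowers_le.mpr ht
  have hT1 : T ≠ ⊥ := c.zpowers_ne_bot' ht1
  have hT2 : T ≠ ⊤ := by
    intro h
    apply c.B_ne_top
    rw [eq_top_iff, ← h]; exact hTB
  have hM : M ≠ ⊤ := c.normalizer_ne_top hT1 hT2
  have hCM : Subgroup.centralizer ({t} : Set G) ≤ M :=
    centralizer_singleton_le_normalizer_zpowers t
  have hF : Fac A B M := by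
    intro g hg
    obtain ⟨u, hu, y, hy, rfl⟩ := c.prod g
    have hz : (u * y)⁻¹ * t * (u * y) ∈ T :=
      conj_mem_of_mem_normalizer' hg (Subgroup.mem_zpowers t)
    set z := (u * y)⁻¹ * t * (u * y) with hzdef
    have hw : y * z * y⁻¹ ∈ B := B.mul_mem (B.mul_mem hy (hTB hz)) (B.inv_mem hy)
    have e1 : u⁻¹ * t * u = y * z * y⁻¹ := by rw [hzdef]; group
    have ha' : t⁻¹ * u⁻¹ * t * u ∈ A := by
      have h1 : t⁻¹ * u⁻¹ * t ∈ A := by
        have := conj_mem_of_mem_normalizer' htn (A.inv_mem hu)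
        exact this
      exact A.mul_mem h1 hu
    have hb' : t⁻¹ * u⁻¹ * t * u ∈ B := by
      have e2 : t⁻¹ * u⁻¹ * t * u = t⁻¹ * (u⁻¹ * t * u) := by group
      rw [e2, e1]
      exact B.mul_mem (B.inv_mem ht) hw
    have h1 : t⁻¹ * u⁻¹ * t * u ∈ A ⊓ B := Subgroup.mem_inf.mpr ⟨ha', hb'⟩
    rw [c.inf_eq_bot, Subgroup.mem_bot] at h1
    have hcomm : u * t = t * u := by
      have : t * u = u * t * (t⁻¹ * u⁻¹ * t * u) := by group
      rw [h1, mul_one] at this
      exact this.symm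
    have huM : u ∈ M := hCM (mem_centralizer_singleton hcomm)
    have hyM : y ∈ M := by
      have : y = u⁻¹ * (u * y) := by group
      rw [this]; exact M.mul_mem (M.inv_mem huM) hg
    exact ⟨u, Subgroup.mem_inf.mpr ⟨hu, huM⟩, y, Subgroup.mem_inf.mpr ⟨hy, hyM⟩, rfl⟩
  have hcen : ∀ z ∈ B, (∀ h ∈ B, h * z = z * h) → z ∈ M := by
    intro z _ hzc
    exact hCM (mem_centralizer_singleton (hzc t ht).symm)
  have htp : t ∈ pp B q := by
    refine mem_pp ht 1 ?_
    rw [pow_one, ← hqt]; exact pow_orderOf_eq_one t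
  have hpq : pq B q ≤ M := by
    intro v hv
    exact hCM (mem_centralizer_singleton (commute_pp_pq c.nilB t htp v hv).symm)
  have hqB : q ∣ Nat.card B := by
    rw [← hqt]
    have := orderOf_dvd_natCard (⟨t, ht⟩ : B)
    rwa [Subgroup.orderOf_mk] at this
  have h1 := c.symm.lemX hM hF.symm hcen hqB hpq
  have h2 := c.symm.normalizer_le_of_normal (pq_le B q) (le_normalizer_pq B q) (c.symm.pq_ne_bot q)
  exact hCM.trans (h1.trans h2)

/-- the centralizer of a nontrivial element of `N_B(A)` normalizes `B` -/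
theorem cent_le_normalizer {t : G} (ht : t ∈ B)
    (htn : t ∈ Subgroup.normalizer (A : Set G)) (ht1 : t ≠ 1) :
    Subgroup.centralizer ({t} : Set G) ≤ Subgroup.normalizer (B : Set G) := by
  obtain ⟨q, k, hq, hk⟩ := exists_prime_order_pow ht1
  haveI : Fact q.Prime := ⟨hq⟩
  have h1 := c.cent_le_normalizer_prime (B.pow_mem ht k) (Subgroup.pow_mem _ htn k) hk
  refine le_trans ?_ h1
  intro x hx
  apply mem_centralizer_singleton
  have hc : Commute x t := (Subgroup.mem_centralizer_iff.mp hx t rfl).symm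
  exact (hc.pow_right k).eq

theorem fix_unique_prime {x : G} {p : ℕ} [hp : Fact p.Prime] (hx : x ∈ A)
    (hxn : x ∈ Subgroup.normalizer (B : Set G)) (hpx : orderOf x = p) {g : G}
    (hg : x ∈ MulAut.conj g • Subgroup.normalizer (A : Set G)) :
    g ∈ Subgroup.normalizer (A : Set G) := by
  set H := Subgroup.normalizer (A : Set G) with hH
  have hAH : A ≤ H := Subgroup.le_normalizer
  have hx1 : x ≠ 1 := by
    intro h
    rw [h, orderOf_one] at hpx
    exact hp.out.one_lt.ne hpx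
  obtain ⟨y, hy, a, ha, rfl⟩ := c.symm.prod g
  rw [mem_cs] at hg
  have hx2 : y⁻¹ * x * y ∈ H := by
    have e : y⁻¹ * x * y = a * ((y * a)⁻¹ * x * (y * a)) * a⁻¹ := by group
    rw [e]
    exact H.mul_mem (H.mul_mem (hAH ha) hg) (H.inv_mem (hAH ha))
  suffices hyH : y ∈ H from H.mul_mem hyH (hAH ha)
  set x₂ := y⁻¹ * x * y with hx₂
  set B₁ := B ⊓ H with hB₁
  have hb'B : x⁻¹ * y⁻¹ * x * y ∈ B := by
    have h1 : x⁻¹ * y⁻¹ * x ∈ B := conj_mem_of_mem_normalizer' hxn (B.inv_mem hy)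
    exact B.mul_mem h1 hy
  have hb'H : x⁻¹ * y⁻¹ * x * y ∈ H := by
    have e : x⁻¹ * y⁻¹ * x * y = x⁻¹ * x₂ := by rw [hx₂]; group
    rw [e]; exact H.mul_mem (H.inv_mem (hAH hx)) hx2
  have hb' : x⁻¹ * y⁻¹ * x * y ∈ B₁ := Subgroup.mem_inf.mpr ⟨hb'B, hb'H⟩
  set Z := Subgroup.zpowers x with hZ
  have hZA : Z ≤ A := Subgroup.zpowers_le.mpr hx
  have hZn : Z ≤ Subgroup.normalizer (B₁ : Set G) := by
    rw [Subgroup.zpowers_le]
    apply normalizer_inf_le'
    exact ⟨hxn, Subgroup.le_normalizer (hAH hx)⟩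
  set E := B₁ ⊔ Z with hE
  have hEset : (E : Set G) = (B₁ : Set G) * (Z : Set G) :=
    Subgroup.coe_mul_of_right_le_normalizer_left B₁ Z hZn
  have hcardZ : Nat.card Z = p ^ 1 := by rw [pow_one, ← hpx]; exact Nat.card_zpowers x
  have hcardE : Nat.card E = p ^ 1 * Nat.card B₁ := by
    rw [← hcardZ, mul_comm, ← Nat.card_prod]
    symm
    apply Nat.card_congr
    refine Equiv.ofBijective
      (fun w : B₁ × Z => (⟨w.1.1 * w.2.1, by
        show w.1.1 * w.2.1 ∈ (E : Set G)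
        rw [hEset]; exact Set.mul_mem_mul w.1.2 w.2.2⟩ : E)) ⟨?_, ?_⟩
    · rintro ⟨⟨s, hs⟩, ⟨z, hz⟩⟩ ⟨⟨s', hs'⟩, ⟨z', hz'⟩⟩ h
      have h1 : s * z = s' * z' := congrArg Subtype.val h
      obtain ⟨e1, e2⟩ := c.symm.uniq hs.1 hs'.1 (hZA hz) (hZA hz') h1
      subst e1 e2
      rfl
    · rintro ⟨e, he⟩
      have he' : e ∈ (E : Set G) := he
      rw [hEset] at he'
      obtain ⟨s, hs, z, hz, h1⟩ := Set.mem_mul.mp he'
      exact ⟨⟨⟨s, hs⟩, ⟨z, hz⟩⟩, Subtype.ext h1⟩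
  have hpA : p ∣ Nat.card A := by
    rw [← hpx]
    have := orderOf_dvd_natCard (⟨x, hx⟩ : A)
    rwa [Subgroup.orderOf_mk] at this
  have hpB₁ : ¬ p ∣ Nat.card B₁ := by
    intro h
    exact c.not_dvd_of_dvd hp.out (h.trans (Subgroup.card_dvd_of_le inf_le_left)) hpA
  set Z₂ := Subgroup.zpowers x₂ with hZ₂
  have hx₂E : x₂ ∈ E := by
    have e : x₂ = x * (x⁻¹ * y⁻¹ * x * y) := by rw [hx₂]; group
    rw [e]
    exact E.mul_mem (Subgroup.mem_sup_right (Subgroup.mem_zpowers x)) (Subgroup.mem_sup_left hb')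
  have hcardZ₂ : Nat.card Z₂ = p ^ 1 := by
    rw [pow_one, ← hpx, Nat.card_zpowers, hx₂]
    have : y⁻¹ * x * y = y⁻¹ * x * y⁻¹⁻¹ := by group
    rw [this, orderOf_conj']
  obtain ⟨e, heE, he⟩ := Cfsg.Agent.Lib.Lead.sylow_conj_in_subgroup p 1 (Nat.card B₁) E Z Z₂
    le_sup_right (Subgroup.zpowers_le.mpr hx₂E) hcardZ hcardZ₂ hcardE hpB₁
  have heE' : e ∈ (E : Set G) := heE
  rw [hEset] at heE'
  obtain ⟨s, hs, z, hz, rfl⟩ := Set.mem_mul.mp heE'
  have hzZ : MulAut.conj z • Z = Z :=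
    smul_eq_of_mem_normalizer (Subgroup.le_normalizer hz)
  rw [map_mul, mul_smul, hzZ] at he
  have h1 : x₂ ∈ MulAut.conj s • Z := by rw [he]; exact Subgroup.mem_zpowers x₂
  rw [mem_cs] at h1
  obtain ⟨j, hj⟩ := h1
  -- v := y * s
  have hv : y * s ∈ B := B.mul_mem hy hs.1
  have e1 : (y * s)⁻¹ * x * (y * s) = x ^ j := by
    have hj' : x ^ j = s⁻¹ * x₂ * s := hj
    rw [hj', hx₂]; group
  have h2 : x⁻¹ * (y * s)⁻¹ * x * (y * s) ∈ B := by
    have h3 : x⁻¹ * (y * s)⁻¹ * x ∈ B := conj_mem_of_mem_normalizer' hxn (B.inv_mem hv)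
    exact B.mul_mem h3 hv
  have h3 : x⁻¹ * (y * s)⁻¹ * x * (y * s) ∈ A := by
    have e2 : x⁻¹ * (y * s)⁻¹ * x * (y * s) = x⁻¹ * ((y * s)⁻¹ * x * (y * s)) := by group
    rw [e2, e1]
    exact A.mul_mem (A.inv_mem hx) (A.zpow_mem hx j)
  have h4 : x⁻¹ * (y * s)⁻¹ * x * (y * s) ∈ A ⊓ B := Subgroup.mem_inf.mpr ⟨h3, h2⟩
  rw [c.inf_eq_bot, Subgroup.mem_bot] at h4
  have hcomm : (y * s) * x = x * (y * s) := by
    have : x * (y * s) = (y * s) * x * (x⁻¹ * (y * s)⁻¹ * x * (y * s)) := by group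
    rw [h4, mul_one] at this
    exact this.symm
  have h5 : y * s ∈ H :=
    c.symm.cent_le_normalizer hx hxn hx1 (mem_centralizer_singleton hcomm)
  have : y = (y * s) * s⁻¹ := by group
  rw [this]
  exact H.mul_mem h5 (H.inv_mem hs.2)

/-- a nontrivial element of `N_A(B)` lies in only one conjugate of `N_G(A)` -/
theorem fix_unique {x : G} (hx : x ∈ A) (hxn : x ∈ Subgroup.normalizer (B : Set G)) (hx1 : x ≠ 1)
    {g : G} (hg : x ∈ MulAut.conj g • Subgroup.normalizer (A : Set G)) :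
    g ∈ Subgroup.normalizer (A : Set G) := by
  obtain ⟨p, k, hp, hk⟩ := exists_prime_order_pow hx1
  haveI : Fact p.Prime := ⟨hp⟩
  exact c.fix_unique_prime (A.pow_mem hx k) (Subgroup.pow_mem _ hxn k) hk
    (Subgroup.pow_mem _ hg k)

end Ctx

end Cfsg.Agent.Lib.Helper2.KegW
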