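import Mathlib
import Cfsg.Prelude
import Cfsg.Agent.Lib.Helper2.NilpHall

set_option autoImplicit false
open Pointwise
open scoped commutatorElement

namespace Cfsg.Agent.Lib.Helper2.NilpHall

open Cfsg.Agent.Lib.Lead Cfsg.Agent.Lib.Helper2.Schmidt

universe u

section
variable {G : Type u} [Group G] [Finite G]

/-- relative form of Wielandt's theorem -/
theorem wielandt_rel (C H K : Subgroup G) (hHC : H ≤ C) (hKC : K ≤ C)
    (hH : Group.IsNilpotent H) (hHall : (Nat.card H).Coprime (H.relIndex C))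
    (hK : ∀ p : ℕ, p.Prime → p ∣ Nat.card K → p ∣ Nat.card H) :
    ∃ x ∈ C, K ≤ MulAut.conj x • H := by
  have h1 : Group.IsNilpotent (H.subgroupOf C) :=
    (Group.isNilpotent_congr (Subgroup.subgroupOfEquivOfLe hHC)).mpr hH
  have h2 : (Nat.card (H.subgroupOf C)).Coprime (H.subgroupOf C).index := by
    rw [card_subgroupOf_of_le hHC]; exact hHall
  have h3 : ∀ p : ℕ, p.Prime → p ∣ Nat.card (K.subgroupOf C) → p ∣ Nat.card (H.subgroupOf C) := by
    intro p hp hd
    rw [card_subgroupOf_of_le hHC]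
    rw [card_subgroupOf_of_le hKC] at hd
    exact hK p hp hd
  obtain ⟨z, hz⟩ := wielandt (H.subgroupOf C) (K.subgroupOf C) h1 h2 h3
  refine ⟨z, z.2, ?_⟩
  have := Subgroup.map_mono (f := C.subtype) hz
  rw [map_subtype_subgroupOf_of_le hKC, map_conj_smul, map_subtype_subgroupOf_of_le hHC] at this
  exact this

end

end Cfsg.Agent.Lib.Helper2.NilpHall
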