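import Mathlib
import Cfsg.Agent.Lib.Helper2.KegW8
import Cfsg.Agent.Lib.Helper2.NilpHall2
import Cfsg.Agent.Lib.Lead.HallTools

set_option autoImplicit false

/-!
Kegel--Wielandt: control of fusion in the two factors and the case distinction.
-/

namespace Cfsg.Agent.Lib.Helper2.KegW

open scoped Pointwise

universe u

variable {G : Type u} [Group G] [Finite G] {A B : Subgroup G}

theorem conj_comm_of_comm {g x y : G} (h : x * y = y * x) :
    (g * x * g⁻¹) * (g * y * g⁻¹) = (g * y * g⁻¹) * (g * x * g⁻¹) := by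
  have e1 : (g * x * g⁻¹) * (g * y * g⁻¹) = g * (x * y) * g⁻¹ := by group
  have e2 : (g * y * g⁻¹) * (g * x * g⁻¹) = g * (y * x) * g⁻¹ := by group
  rw [e1, e2, h]

theorem conj_ne_one {g x : G} (h : x ≠ 1) : g * x * g⁻¹ ≠ 1 := by
  intro h1
  apply h
  have : x = g⁻¹ * (g * x * g⁻¹) * g := by group
  rw [this, h1]; group

theorem smul_eq_smul_mem_normalizer {g x : G} {Q : Subgroup G}
    (h : MulAut.conj g • Q = MulAut.conj x • Q) : x⁻¹ * g ∈ Subgroup.normalizer (Q : Set G) := by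
  rw [Cfsg.Agent.Lib.Lead.mem_normalizer_iff_conj_smul, map_mul, mul_smul, h, ← mul_smul, ← map_mul,
    inv_mul_cancel, map_one, one_smul]

namespace Ctx

variable (c : Ctx G A B)
include c

theorem hallA : (Nat.card A).Coprime A.index := by
  rw [c.index_A]; exact c.cop

/-- fusion of `p`-elements of `A` is controlled by `N(A)` -/
theorem fusion {p : ℕ} [hp : Fact p.Prime] {u g : G} (hu : u ∈ pp A p) (hgu : g * u * g⁻¹ ∈ A) :
    ∃ h ∈ Subgroup.normalizer (A : Set G), h * u * h⁻¹ = g * u * g⁻¹ := by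
  have hQ1 : pq A p ≠ ⊥ := c.pq_ne_bot p
  have hu'p : g * u * g⁻¹ ∈ pp A p := by
    rw [mem_pp_iff c.nilA]
    obtain ⟨-, k, hk⟩ := (mem_pp_iff c.nilA).mp hu
    refine ⟨hgu, k, ?_⟩
    rw [conj_pow, hk]; group
  have hQC : pq A p ≤ Subgroup.centralizer ({g * u * g⁻¹} : Set G) := by
    intro v hv
    apply mem_centralizer_singleton
    exact (commute_pp_pq c.nilA _ hu'p v hv).symm
  have hgQC : MulAut.conj g • pq A p ≤ Subgroup.centralizer ({g * u * g⁻¹} : Set G) := by
    intro v hv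
    rw [mem_cs] at hv
    apply mem_centralizer_singleton
    have h1 := commute_pp_pq c.nilA u hu _ hv
    have h2 := conj_comm_of_comm (g := g) h1
    have e : g * (g⁻¹ * v * g) * g⁻¹ = v := by group
    rw [e] at h2
    exact h2.symm
  obtain ⟨x, hxC, hx⟩ := NilpHall.wielandt_rel _ (pq A p) (MulAut.conj g • pq A p) hQC hgQC
    (nil_of_le c.nilA (pq_le A p))
    (Nat.Coprime.coprime_dvd_right (Subgroup.relIndex_dvd_index_of_le hQC) (c.pq_hall p))
    (by intro r _ hd; rwa [Cfsg.Agent.Lib.Lead.card_conj_smul] at hd)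
  have heq : MulAut.conj g • pq A p = MulAut.conj x • pq A p :=
    Subgroup.eq_of_le_of_card_ge hx
      (by rw [Cfsg.Agent.Lib.Lead.card_conj_smul, Cfsg.Agent.Lib.Lead.card_conj_smul])
  have hN : x⁻¹ * g ∈ Subgroup.normalizer (pq A p : Set G) := smul_eq_smul_mem_normalizer heq
  refine ⟨x⁻¹ * g, c.normalizer_le_of_normal (pq_le A p) (le_normalizer_pq A p) hQ1 hN, ?_⟩
  have hxc : x * (g * u * g⁻¹) = (g * u * g⁻¹) * x := Subgroup.mem_centralizer_singleton_iff.mp hxC
  calc x⁻¹ * g * u * (x⁻¹ * g)⁻¹ = x⁻¹ * ((g * u * g⁻¹) * x) := by group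
    _ = x⁻¹ * (x * (g * u * g⁻¹)) := by rw [hxc]
    _ = g * u * g⁻¹ := by group

/-- the `B`-part of `N(A)` is a Hall subgroup of `N(A)` -/
theorem card_normalizer :
    Nat.card (Subgroup.normalizer (A : Set G)) =
      Nat.card A * Nat.card (B ⊓ Subgroup.normalizer (A : Set G) : Subgroup G) := by
  have h1 := c.card_fac (c.fac_of_le (Subgroup.le_normalizer (H := A)))
  rw [inf_eq_left.mpr (Subgroup.le_normalizer (H := A))] at h1
  exact h1

theorem relIndex_B1 :
    (B ⊓ Subgroup.normalizer (A : Set G) : Subgroup G).relIndex (Subgroup.normalizer (A : Set G)) =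
      Nat.card A := by
  have h1 := Subgroup.card_mul_index ((B ⊓ Subgroup.normalizer (A : Set G) : Subgroup G).subgroupOf
    (Subgroup.normalizer (A : Set G)))
  rw [Cfsg.Agent.Lib.Lead.card_subgroupOf_of_le inf_le_right, c.card_normalizer, mul_comm] at h1
  have h2 : (B ⊓ Subgroup.normalizer (A : Set G) : Subgroup G).relIndex
      (Subgroup.normalizer (A : Set G)) *
      Nat.card (B ⊓ Subgroup.normalizer (A : Set G) : Subgroup G) =
      Nat.card A * Nat.card (B ⊓ Subgroup.normalizer (A : Set G) : Subgroup G) := h1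
  exact Nat.eq_of_mul_eq_mul_right Nat.card_pos h2

/-- an element of `N(A)` of prime order not dividing `|A|` is conjugate in `N(A)` into `B ∩ N(A)` -/
theorem conj_into_B1 {w : G} {r : ℕ} (hr : r.Prime) (hw : w ∈ Subgroup.normalizer (A : Set G))
    (hwr : orderOf w = r) (hrA : ¬ r ∣ Nat.card A) :
    ∃ y ∈ Subgroup.normalizer (A : Set G), y⁻¹ * w * y ∈ B ⊓ Subgroup.normalizer (A : Set G) := by
  have hcard : Nat.card (Subgroup.zpowers w) = r := by rw [Nat.card_zpowers, hwr]
  obtain ⟨y, hy, hy2⟩ := NilpHall.wielandt_rel (Subgroup.normalizer (A : Set G))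
    (B ⊓ Subgroup.normalizer (A : Set G)) (Subgroup.zpowers w) inf_le_right
    (Subgroup.zpowers_le.mpr hw) (nil_of_le c.nilB inf_le_left)
    (by
      rw [c.relIndex_B1]
      exact Nat.Coprime.coprime_dvd_left (Subgroup.card_dvd_of_le inf_le_left) c.cop.symm)
    (by
      intro q hq hd
      rw [hcard] at hd
      have hqr : q = r := (Nat.prime_dvd_prime_iff_eq hq hr).mp hd
      rw [hqr]
      have h1 : r ∣ Nat.card (Subgroup.normalizer (A : Set G)) := by
        have := Subgroup.card_dvd_of_le (Subgroup.zpowers_le.mpr hw)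
        rwa [hcard] at this
      rw [c.card_normalizer] at h1
      rcases (Nat.Prime.dvd_mul hr).mp h1 with h2 | h2
      · exact absurd h2 hrA
      · exact h2)
  refine ⟨y, hy, ?_⟩
  have := hy2 (Subgroup.mem_zpowers w)
  rwa [mem_cs] at this

/-- an element of `N(A)` all of whose prime divisors of the order divide `|A|` lies in `A` -/
theorem mem_A_of_primes {w : G} (hw : w ∈ Subgroup.normalizer (A : Set G))
    (hp : ∀ r : ℕ, r.Prime → r ∣ orderOf w → r ∣ Nat.card A) : w ∈ A := by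
  obtain ⟨y, hy, hy2⟩ := NilpHall.wielandt_rel (Subgroup.normalizer (A : Set G))
    A (Subgroup.zpowers w) Subgroup.le_normalizer
    (Subgroup.zpowers_le.mpr hw) c.nilA
    (Nat.Coprime.coprime_dvd_right (Subgroup.relIndex_dvd_index_of_le Subgroup.le_normalizer) c.hallA)
    (by
      intro q hq hd
      rw [Nat.card_zpowers] at hd
      exact hp q hq hd)
  rw [smul_eq_of_mem_normalizer hy] at hy2
  exact hy2 (Subgroup.mem_zpowers w)

/-- the case distinction for an element of prime order of `A` -/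
theorem cases {u : G} {p : ℕ} (hp : p.Prime) (hu : u ∈ A) (hup : orderOf u = p) :
    (∃ h ∈ Subgroup.normalizer (A : Set G), ∃ x ∈ A, x ∈ Subgroup.normalizer (B : Set G) ∧ x ≠ 1 ∧
        u = h * x * h⁻¹) ∨
      Subgroup.normalizer (A : Set G) ⊓ Subgroup.centralizer ({u} : Set G) ≤ A := by
  by_cases hcase : Subgroup.normalizer (A : Set G) ⊓ Subgroup.centralizer ({u} : Set G) ≤ A
  · exact Or.inr hcase
  left
  obtain ⟨w, hwD, hwA⟩ := SetLike.not_le_iff_exists.mp hcase
  obtain ⟨hwN, hwC⟩ := Subgroup.mem_inf.mp hwD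
  have hex : ∃ r : ℕ, r.Prime ∧ r ∣ orderOf w ∧ ¬ r ∣ Nat.card A := by
    by_contra hcon
    push Not at hcon
    exact hwA (c.mem_A_of_primes hwN hcon)
  obtain ⟨r, hr, hrw, hrA⟩ := hex
  have hw0 : orderOf w ≠ 0 := (orderOf_pos w).ne'
  set w' := w ^ (orderOf w / r) with hw'
  have hw'r : orderOf w' = r := orderOf_pow_orderOf_div hw0 hrw
  have hw'N : w' ∈ Subgroup.normalizer (A : Set G) := pow_mem hwN _
  have hw'C : w' ∈ Subgroup.centralizer ({u} : Set G) := pow_mem hwC _
  obtain ⟨y, hy, hy2⟩ := c.conj_into_B1 hr hw'N hw'r hrA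
  have hu1 : u ≠ 1 := by
    intro h
    rw [h, orderOf_one] at hup
    exact hp.one_lt.ne hup
  have hw'1 : w' ≠ 1 := by
    intro h
    rw [h, orderOf_one] at hw'r
    exact hr.one_lt.ne hw'r
  have hyi : y⁻¹ ∈ Subgroup.normalizer (A : Set G) := inv_mem hy
  have hx : y⁻¹ * u * y ∈ A := conj_mem_of_mem_normalizer' hy hu
  have ht1 : y⁻¹ * w' * y ≠ 1 := by
    have := conj_ne_one (g := y⁻¹) hw'1
    rwa [inv_inv] at this
  have hcomm : (y⁻¹ * u * y) * (y⁻¹ * w' * y) = (y⁻¹ * w' * y) * (y⁻¹ * u * y) := by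
    have h1 : u * w' = w' * u := (Subgroup.mem_centralizer_singleton_iff.mp hw'C).symm
    have := conj_comm_of_comm (g := y⁻¹) h1
    rwa [inv_inv] at this
  have hxN : y⁻¹ * u * y ∈ Subgroup.normalizer (B : Set G) :=
    c.cent_le_normalizer hy2.1 hy2.2 ht1 (mem_centralizer_singleton hcomm)
  refine ⟨y, hy, y⁻¹ * u * y, hx, hxN, ?_, by group⟩
  have := conj_ne_one (g := y⁻¹) hu1
  rwa [inv_inv] at this

end Ctx

end Cfsg.Agent.Lib.Helper2.KegW
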