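import Mathlib
import Cfsg.Agent.Lib.Helper2.KegW9

set_option autoImplicit false

/-!
Kegel--Wielandt: the key property, trivial intersections and the final count.
-/

namespace Cfsg.Agent.Lib.Helper2.KegW

open scoped Pointwise

universe u

variable {G : Type u} [Group G] [Finite G] {A B : Subgroup G}

/-- the key property: centralizers of elements of prime order of `A` lie in `N(A)` -/
def KP (A : Subgroup G) : Prop :=
  ∀ u ∈ A, (orderOf u).Prime →
    Subgroup.centralizer ({u} : Set G) ≤ Subgroup.normalizer (A : Set G)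

theorem mem_pp_of_orderOf {A : Subgroup G} {u : G} {p : ℕ} (hu : u ∈ A) (hup : orderOf u = p) :
    u ∈ pp A p :=
  mem_pp hu 1 (by rw [pow_one, ← hup]; exact pow_orderOf_eq_one u)

namespace Ctx

variable (c : Ctx G A B)
include c

/-- `C(u) ≤ A` when `u ∈ A` has prime order and all primes of `|C(u)|` divide `|A|` -/
theorem le_of_primes {u : G} {p : ℕ} [hp : Fact p.Prime] (hu : u ∈ A) (hup : orderOf u = p)
    (h : ∀ r : ℕ, r.Prime → r ∣ Nat.card (Subgroup.centralizer ({u} : Set G)) → r ∣ Nat.card A) :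
    Subgroup.centralizer ({u} : Set G) ≤ A := by
  obtain ⟨x, hx⟩ := NilpHall.wielandt A (Subgroup.centralizer ({u} : Set G)) c.nilA c.hallA h
  have hupp : u ∈ pp A p := mem_pp_of_orderOf hu hup
  have hQC : pq A p ≤ Subgroup.centralizer ({u} : Set G) := fun v hv =>
    mem_centralizer_singleton (commute_pp_pq c.nilA u hupp v hv).symm
  have h1 : MulAut.conj x⁻¹ • pq A p ≤ pq A p := by
    apply le_pq_of_coprime
    · intro v hv
      rw [mem_cs, inv_inv] at hv
      have h2 := hx (hQC hv)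
      rw [mem_cs] at h2
      have e : x⁻¹ * (x * v * x⁻¹) * x = v := by group
      rw [e] at h2
      exact h2
    · rw [Cfsg.Agent.Lib.Lead.card_conj_smul]; exact card_pq_coprime c.nilA
  have h2 : MulAut.conj x⁻¹ • pq A p = pq A p :=
    Subgroup.eq_of_le_of_card_ge h1 (by rw [Cfsg.Agent.Lib.Lead.card_conj_smul])
  have h3 : x⁻¹ ∈ Subgroup.normalizer (pq A p : Set G) :=
    (Cfsg.Agent.Lib.Lead.mem_normalizer_iff_conj_smul _ _).mpr h2
  have h4 : x⁻¹ ∈ Subgroup.normalizer (A : Set G) :=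
    c.normalizer_le_of_normal (pq_le A p) (le_normalizer_pq A p) (c.pq_ne_bot p) h3
  have h5 : x ∈ Subgroup.normalizer (A : Set G) := by simpa using inv_mem h4
  rw [smul_eq_of_mem_normalizer h5] at hx
  exact hx

/-- the key property makes `A` a trivial intersection set -/
theorem ti (hKP : KP A) {g : G} (hg : g ∉ Subgroup.normalizer (A : Set G)) :
    A ⊓ MulAut.conj g • A = ⊥ := by
  rw [eq_bot_iff]
  intro v hv
  rw [Subgroup.mem_bot]
  by_contra hv1
  obtain ⟨hvA, hvg⟩ := Subgroup.mem_inf.mp hv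
  obtain ⟨q, k, hq, hk⟩ := exists_prime_order_pow hv1
  have huA : v ^ k ∈ A := pow_mem hvA k
  have hug : v ^ k ∈ MulAut.conj g • A := pow_mem hvg k
  rw [mem_cs] at hug
  haveI : Fact q.Prime := ⟨hq⟩
  have hupp : v ^ k ∈ pp A q := mem_pp_of_orderOf huA hk
  obtain ⟨h, hh, hh2⟩ := c.fusion (g := g⁻¹) hupp (by rwa [inv_inv])
  have h1 : g * h ∈ Subgroup.centralizer ({v ^ k} : Set G) := by
    apply mem_centralizer_singleton
    calc g * h * v ^ k = g * (h * v ^ k * h⁻¹) * h := by group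
      _ = g * (g⁻¹ * v ^ k * g⁻¹⁻¹) * h := by rw [hh2]
      _ = v ^ k * (g * h) := by group
  have h2 : g * h ∈ Subgroup.normalizer (A : Set G) := hKP _ huA (hk ▸ hq) h1
  apply hg
  have : g = (g * h) * h⁻¹ := by group
  rw [this]; exact mul_mem h2 (inv_mem hh)

theorem card_le_of_KP (hKP : KP A) : Nat.card A ≤ Nat.card B := by
  obtain ⟨g, hg⟩ : ∃ g, g ∉ Subgroup.normalizer (A : Set G) := by
    by_contra h
    push Not at h
    exact c.normalizer_A_ne_top (eq_top_iff.mpr (fun x _ => h x))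
  have hti := c.ti hKP hg
  have hinj : Function.Injective (fun x : A × A => (x.1 : G) * (g * (x.2 : G) * g⁻¹)) := by
    rintro ⟨⟨a1, ha1⟩, ⟨a1', ha1'⟩⟩ ⟨⟨a2, ha2⟩, ⟨a2', ha2'⟩⟩ h
    simp only at h
    have h1 : a2⁻¹ * a1 = g * (a2' * a1'⁻¹) * g⁻¹ := by
      have h0 : a2⁻¹ * (a1 * (g * a1' * g⁻¹)) * (g * a1'⁻¹ * g⁻¹) =
          a2⁻¹ * (a2 * (g * a2' * g⁻¹)) * (g * a1'⁻¹ * g⁻¹) := by rw [h]
      have e1 : a2⁻¹ * (a1 * (g * a1' * g⁻¹)) * (g * a1'⁻¹ * g⁻¹) = a2⁻¹ * a1 := by group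
      have e2 : a2⁻¹ * (a2 * (g * a2' * g⁻¹)) * (g * a1'⁻¹ * g⁻¹) = g * (a2' * a1'⁻¹) * g⁻¹ := by
        group
      rw [e1, e2] at h0; exact h0
    have h2 : a2⁻¹ * a1 ∈ A ⊓ MulAut.conj g • A :=
      Subgroup.mem_inf.mpr ⟨A.mul_mem (A.inv_mem ha2) ha1, by
        rw [h1]; exact conj_mem_cs g (A.mul_mem ha2' (A.inv_mem ha1'))⟩
    rw [hti, Subgroup.mem_bot] at h2
    have e1 : a1 = a2 := (inv_mul_eq_one.mp h2).symm
    subst e1
    rw [h2] at h1
    have e2 : a2' * a1'⁻¹ = 1 := by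
      have e : a2' * a1'⁻¹ = g⁻¹ * (g * (a2' * a1'⁻¹) * g⁻¹) * g := by group
      rw [e, ← h1]; group
    have e3 : a2' = a1' := mul_inv_eq_one.mp e2
    subst e3; rfl
  have h1 := Nat.card_le_card_of_injective _ hinj
  rw [Nat.card_prod, c.card_eq] at h1
  exact Nat.le_of_mul_le_mul_left h1 Nat.card_pos

theorem false_of_KP (hA : KP A) (hB : KP B) : False := by
  have h1 := c.card_le_of_KP hA
  have h2 := c.symm.card_le_of_KP hB
  have h3 : Nat.card A = Nat.card B := le_antisymm h1 h2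
  have h4 := c.cop
  rw [h3, Nat.coprime_self] at h4
  exact c.B_ne_bot (Subgroup.eq_bot_of_card_eq _ h4)

/-- the key property passes from one factor to the other -/
theorem bridge (hKP : KP A) : KP B := by
  intro t ht htp
  haveI : Fact (orderOf t).Prime := ⟨htp⟩
  have ht1 : t ≠ 1 := by
    intro h
    rw [h, orderOf_one] at htp
    exact Nat.not_prime_one htp
  by_cases hcase : ∃ r : ℕ, r.Prime ∧ r ∣ Nat.card (Subgroup.centralizer ({t} : Set G)) ∧
      r ∣ Nat.card A
  · obtain ⟨r, hr, hrC, hrA⟩ := hcase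
    haveI : Fact r.Prime := ⟨hr⟩
    obtain ⟨y, hy⟩ := exists_prime_orderOf_dvd_card' r hrC
    have hyo : orderOf (y : G) = r := by rw [Subgroup.orderOf_coe]; exact hy
    obtain ⟨g, hg⟩ := NilpHall.wielandt A (Subgroup.zpowers (y : G)) c.nilA c.hallA (by
      intro q hq hd
      rw [Nat.card_zpowers, hyo] at hd
      rw [(Nat.prime_dvd_prime_iff_eq hq hr).mp hd]; exact hrA)
    have hy' := hg (Subgroup.mem_zpowers _)
    rw [mem_cs] at hy'
    have hy'o : orderOf (g⁻¹ * (y : G) * g) = r := by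
      have := orderOf_conj' g⁻¹ (y : G)
      rw [inv_inv] at this
      rw [this, hyo]
    have h1 := hKP _ hy' (hy'o ▸ hr)
    have hty : t * (y : G) = (y : G) * t := (Subgroup.mem_centralizer_singleton_iff.mp y.2).symm
    have ht'' : g⁻¹ * t * g ∈ Subgroup.normalizer (A : Set G) :=
      h1 (mem_centralizer_singleton (by
        have := conj_comm_of_comm (g := g⁻¹) hty
        rwa [inv_inv] at this))
    have ht''o : orderOf (g⁻¹ * t * g) = orderOf t := by
      have := orderOf_conj' g⁻¹ t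
      rwa [inv_inv] at this
    have hr'B : orderOf t ∣ Nat.card B := by
      have := orderOf_dvd_natCard (⟨t, ht⟩ : B)
      rwa [Subgroup.orderOf_mk] at this
    have hr'A : ¬ orderOf t ∣ Nat.card A := c.not_dvd_of_dvd htp hr'B
    obtain ⟨n, hn, hn2⟩ := c.conj_into_B1 htp ht'' ht''o hr'A
    have ek : n⁻¹ * (g⁻¹ * t * g) * n = (n⁻¹ * g⁻¹) * t * (n⁻¹ * g⁻¹)⁻¹ := by group
    rw [ek] at hn2
    have ht'1 : (n⁻¹ * g⁻¹) * t * (n⁻¹ * g⁻¹)⁻¹ ≠ 1 := conj_ne_one ht1
    have hC' := c.cent_le_normalizer hn2.1 hn2.2 ht'1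
    have htpp : t ∈ pp B (orderOf t) := mem_pp_of_orderOf ht rfl
    obtain ⟨m, hm, hm2⟩ := c.symm.fusion htpp hn2.1
    intro z hz
    have hz' : m * z * m⁻¹ ∈
        Subgroup.centralizer ({(n⁻¹ * g⁻¹) * t * (n⁻¹ * g⁻¹)⁻¹} : Set G) := by
      rw [← hm2]
      apply mem_centralizer_singleton
      exact conj_comm_of_comm (Subgroup.mem_centralizer_singleton_iff.mp hz)
    have h3 := hC' hz'
    have e : z = m⁻¹ * (m * z * m⁻¹) * m := by group
    rw [e]; exact mul_mem (mul_mem (inv_mem hm) h3) hm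
  · push Not at hcase
    have h : ∀ r : ℕ, r.Prime → r ∣ Nat.card (Subgroup.centralizer ({t} : Set G)) →
        r ∣ Nat.card B := by
      intro r hr hd
      have h1 : r ∣ Nat.card G := hd.trans (Subgroup.card_subgroup_dvd_card _)
      rw [c.card_eq] at h1
      rcases (Nat.Prime.dvd_mul hr).mp h1 with h2 | h2
      · exact absurd h2 (hcase r hr hd)
      · exact h2
    exact (c.symm.le_of_primes ht rfl h).trans Subgroup.le_normalizer

end Ctx

end Cfsg.Agent.Lib.Helper2.KegW
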