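import Mathlib
import Cfsg.Agent.Lib.Helper2.KegW10
import Cfsg.Agent.Lib.Lead.GT13
import Cfsg.Agent.Lib.Lead.Fpf3
import Cfsg.Agent.Lib.Lead.CoprimeSylow3

set_option autoImplicit false

/-!
Kegel--Wielandt: the key property for a factor of odd order, through the
Glauberman--Thompson normal complement theorem.
-/

namespace Cfsg.Agent.Lib.Helper2.KegW

open scoped Pointwise

open Cfsg.Agent.Lib.Lead

universe u

variable {G : Type u} [Group G] [Finite G] {A B : Subgroup G}

theorem normalizer_le_normalizer_wsub (n : ℕ) (T : Subgroup G) :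
    Subgroup.normalizer (T : Set G) ≤ Subgroup.normalizer (ZJ.wsub n T : Set G) := by
  intro a ha
  rw [Subgroup.mem_normalizer_iff_map_conj_eq] at ha ⊢
  have e := ZJ.wsub_map_of_injective n T (MulAut.conj a).toMonoidHom (MulAut.conj a).injective
  have ha' : T.map (MulAut.conj a).toMonoidHom = T := ha
  rw [ha'] at e
  exact e

theorem nil_of_map_le {C : Subgroup G} (N' : Subgroup C) {A : Subgroup G}
    (hA : Group.IsNilpotent A) (h : N'.map C.subtype ≤ A) : Group.IsNilpotent N' := by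
  haveI := nil_of_le hA h
  exact Group.nilpotent_of_mulEquiv (N'.equivMapOfInjective C.subtype C.subtype_injective).symm

theorem le_normalizer_map_subtype {C : Subgroup G} (K' : Subgroup C) [hK : K'.Normal] :
    C ≤ Subgroup.normalizer (K'.map C.subtype : Set G) := by
  intro x hx
  rw [Subgroup.mem_normalizer_iff]
  intro n
  constructor
  · rintro ⟨n', hn', rfl⟩
    exact ⟨⟨x, hx⟩ * n' * ⟨x, hx⟩⁻¹, hK.conj_mem n' hn' ⟨x, hx⟩, rfl⟩
  · rintro ⟨m', hm', hm⟩
    refine ⟨⟨x, hx⟩⁻¹ * m' * ⟨x, hx⟩, ?_, ?_⟩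
    · have := hK.conj_mem m' hm' ⟨x, hx⟩⁻¹
      rwa [inv_inv] at this
    · have h1 : (C.subtype (⟨x, hx⟩⁻¹ * m' * ⟨x, hx⟩) : G) = x⁻¹ * (C.subtype m') * x := rfl
      rw [h1, hm]; group

theorem normalizer_map_subtype_le {C : Subgroup G} (W' : Subgroup C) :
    (Subgroup.normalizer (W' : Set C)).map C.subtype ≤
      Subgroup.normalizer (W'.map C.subtype : Set G) ⊓ C := by
  rintro _ ⟨x, hx, rfl⟩
  refine Subgroup.mem_inf.mpr ⟨?_, x.2⟩
  rw [Subgroup.mem_normalizer_iff]
  intro n
  have hx' := Subgroup.mem_normalizer_iff.mp hx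
  constructor
  · rintro ⟨n', hn', rfl⟩
    exact ⟨x * n' * x⁻¹, (hx' n').mp hn', rfl⟩
  · rintro ⟨m', hm', hm⟩
    refine ⟨x⁻¹ * m' * x, ?_, ?_⟩
    · apply (hx' _).mpr
      have : x * (x⁻¹ * m' * x) * x⁻¹ = m' := by group
      rw [this]; exact hm'
    · have h1 : (C.subtype (x⁻¹ * m' * x) : G) = (C.subtype x)⁻¹ * (C.subtype m') * (C.subtype x) := rfl
      rw [h1, hm]; group

namespace Ctx

variable (c : Ctx G A B)
include c

theorem pp_index {s : ℕ} [hs : Fact s.Prime] (hsA : s ∣ Nat.card A) : ¬ s ∣ (pp A s).index := by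
  have h1 := Subgroup.card_mul_index (pp A s)
  rw [c.card_eq, ← card_pp_mul_card_pq (p := s) c.nilA, mul_assoc] at h1
  have h2 : (pp A s).index = Nat.card (pq A s) * Nat.card B :=
    Nat.eq_of_mul_eq_mul_left Nat.card_pos h1
  rw [h2]
  intro h
  rcases (Nat.Prime.dvd_mul hs.out).mp h with h3 | h3
  · have := card_pq_coprime (p := s) c.nilA
    exact hs.out.one_lt.ne' (Nat.Coprime.eq_one_of_dvd this.symm h3)
  · exact c.symm.not_dvd_of_dvd hs.out hsA h3

theorem pq_le_centralizer {u : G} {p : ℕ} [hp : Fact p.Prime] (hu : u ∈ A) (hup : orderOf u = p) :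
    pq A p ≤ Subgroup.centralizer ({u} : Set G) := fun v hv =>
  mem_centralizer_singleton (commute_pp_pq c.nilA u (mem_pp_of_orderOf hu hup) v hv).symm

/-- the centralizer of `u` has a normal `s`-complement -/
theorem pnilp_centralizer {u : G} {p s : ℕ} [hp : Fact p.Prime] [hs : Fact s.Prime]
    (hs2 : s ≠ 2) (hsp : s ≠ p) (hsA : s ∣ Nat.card A) (hu : u ∈ A) (hup : orderOf u = p)
    (hD : Subgroup.normalizer (A : Set G) ⊓ Subgroup.centralizer ({u} : Set G) ≤ A) :
    GT.PNilp s (Subgroup.centralizer ({u} : Set G)) := by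
  have hSC : pp A s ≤ Subgroup.centralizer ({u} : Set G) :=
    (pp_le_pq (p := p) (q := s) c.nilA hsp).trans (c.pq_le_centralizer hu hup)
  have hSp : IsPGroup s ((pp A s).subgroupOf (Subgroup.centralizer ({u} : Set G))) :=
    (pp_isPGroup c.nilA).comap_subtype
  have hidx : ¬ s ∣ ((pp A s).subgroupOf (Subgroup.centralizer ({u} : Set G))).index := by
    intro h
    exact c.pp_index hsA (h.trans (Subgroup.relIndex_dvd_index_of_le hSC))
  have hmap : ((pp A s).subgroupOf (Subgroup.centralizer ({u} : Set G))).map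
      (Subgroup.centralizer ({u} : Set G)).subtype = pp A s := map_subtype_subgroupOf_of_le hSC
  have hW : (ZJ.wsub s ((pp A s).subgroupOf (Subgroup.centralizer ({u} : Set G)))).map
      (Subgroup.centralizer ({u} : Set G)).subtype = ZJ.wsub s (pp A s) := by
    rw [ZJ.wsub_map_of_injective s _ _ (Subgroup.subtype_injective _), hmap]
  have hWA : ZJ.wsub s (pp A s) ≤ A := (ZJ.wsub_le s _).trans (pp_le A s)
  have hW1 : ZJ.wsub s (pp A s) ≠ ⊥ :=
    ZJ.wsub_ne_bot s (dvd_refl s) _ (pp_isPGroup c.nilA) (pp_ne_bot c.nilA hsA)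
  have hAW : A ≤ Subgroup.normalizer (ZJ.wsub s (pp A s) : Set G) :=
    (le_normalizer_pp A s).trans (normalizer_le_normalizer_wsub s _)
  have hNW := c.normalizer_le_of_normal hWA hAW hW1
  have hnil : Group.IsNilpotent (Subgroup.normalizer
      (ZJ.wsub s ((pp A s).subgroupOf (Subgroup.centralizer ({u} : Set G))) :
        Set (Subgroup.centralizer ({u} : Set G)))) := by
    apply nil_of_map_le _ c.nilA
    refine (normalizer_map_subtype_le _).trans ?_
    rw [hW]
    exact (inf_le_inf_right _ hNW).trans hD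
  have key := GT.glauberman_thompson (p := s) hs2 s (dvd_refl s) (hSp.toSylow hidx)
    ((pp A s).subgroupOf (Subgroup.centralizer ({u} : Set G)))
    (by rw [IsPGroup.toSylow_coe]; exact ZJ.sClosed_self _)
    (Fpf.pnilp_of_isNilpotent hnil)
  exact key

end Ctx

end Cfsg.Agent.Lib.Helper2.KegW
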