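import Mathlib
import Cfsg.Agent.Lib.Helper2.KegW11

set_option autoImplicit false

/-!
Kegel--Wielandt: the minimal counterexample in the coprime case does not exist.
-/

namespace Cfsg.Agent.Lib.Helper2.KegW

open scoped Pointwise

open Cfsg.Agent.Lib.Lead

universe u

variable {G : Type u} [Group G] [Finite G] {A B : Subgroup G}

namespace Ctx

variable (c : Ctx G A B)
include c

theorem centralizer_le_of_odd {u : G} {p : ℕ} [hp : Fact p.Prime] (hodd : ¬ 2 ∣ Nat.card A)
    (hu : u ∈ A) (hup : orderOf u = p)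
    (hD : Subgroup.normalizer (A : Set G) ⊓ Subgroup.centralizer ({u} : Set G) ≤ A) :
    Subgroup.centralizer ({u} : Set G) ≤ A := by
  obtain ⟨s, hs, hsp, hsA⟩ := c.exists_other_prime p
  haveI : Fact s.Prime := ⟨hs⟩
  have hs2 : s ≠ 2 := by rintro rfl; exact hodd hsA
  obtain ⟨K', hK'n, hK'cop, k, hk⟩ := c.pnilp_centralizer hs2 hsp hsA hu hup hD
  apply c.le_of_primes hu hup
  intro r hr hrC
  by_contra hrA
  haveI : Fact r.Prime := ⟨hr⟩
  have hrs : r ≠ s := by rintro rfl; exact hrA hsA
  have hrK' : r ∣ Nat.card K' := by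
    have h1 := Subgroup.card_mul_index K'
    rw [hk] at h1
    rw [← h1] at hrC
    rcases (Nat.Prime.dvd_mul hr).mp hrC with h2 | h2
    · exact h2
    · exact absurd ((Nat.prime_dvd_prime_iff_eq hr hs).mp (hr.dvd_of_dvd_pow h2)) hrs
  have hcardK : Nat.card (K'.map (Subgroup.centralizer ({u} : Set G)).subtype) = Nat.card K' :=
    Subgroup.card_map_of_injective (Subgroup.subtype_injective _)
  have hSC : pp A s ≤ Subgroup.centralizer ({u} : Set G) :=
    (pp_le_pq (p := p) (q := s) c.nilA hsp).trans (c.pq_le_centralizer hu hup)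
  haveI := hK'n
  have hSK : pp A s ≤ Subgroup.normalizer
      (K'.map (Subgroup.centralizer ({u} : Set G)).subtype : Set G) :=
    hSC.trans (le_normalizer_map_subtype K')
  have hcop : (Nat.card (pp A s)).Coprime
      (Nat.card (K'.map (Subgroup.centralizer ({u} : Set G)).subtype)) := by
    rw [card_pp c.nilA, hcardK]; exact Nat.Coprime.pow_left _ hK'cop.symm
  have hsolv : Group.IsSolvable (pp A s) := by
    haveI := (pp_isPGroup (p := s) c.nilA).isNilpotent
    infer_instance
  obtain ⟨R', hR'⟩ := coprime_invariant_sylow_exists (pp A s) _ hSK hcop (Or.inl hsolv) r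
  have hRp : IsPGroup r ((R' : Subgroup _).map
      (K'.map (Subgroup.centralizer ({u} : Set G)).subtype).subtype) := R'.isPGroup'.map _
  have hR1 : (R' : Subgroup _).map
      (K'.map (Subgroup.centralizer ({u} : Set G)).subtype).subtype ≠ ⊥ := by
    intro h
    have h1 : (R' : Subgroup (K'.map (Subgroup.centralizer ({u} : Set G)).subtype)) = ⊥ := by
      rwa [Subgroup.map_eq_bot_iff_of_injective _ (Subgroup.subtype_injective _)] at h
    exact R'.ne_bot_of_dvd_card (by rw [hcardK]; exact hrK') h1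
  have hrB : r ∣ Nat.card B := by
    have h1 : r ∣ Nat.card G := hrC.trans (Subgroup.card_subgroup_dvd_card _)
    rw [c.card_eq] at h1
    rcases (Nat.Prime.dvd_mul hr).mp h1 with h2 | h2
    · exact absurd h2 hrA
    · exact h2
  obtain ⟨g, hg⟩ := NilpHall.wielandt B _ c.nilB c.symm.hallA (by
    intro q hq hd
    obtain ⟨j, hj⟩ := IsPGroup.iff_card.mp hRp
    rw [hj] at hd
    rw [(Nat.prime_dvd_prime_iff_eq hq hr).mp (hq.dvd_of_dvd_pow hd)]; exact hrB)
  obtain ⟨a', ha', hga⟩ := c.conj_smul_eq g (Subgroup.le_normalizer (H := B))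
  rw [hga] at hg
  have hXB : MulAut.conj a'⁻¹ • ((R' : Subgroup _).map
      (K'.map (Subgroup.centralizer ({u} : Set G)).subtype).subtype) ≤ B := by
    intro y hy
    rw [mem_cs, inv_inv] at hy
    have h1 := hg hy
    rw [mem_cs] at h1
    have e : a'⁻¹ * (a' * y * a'⁻¹) * a' = y := by group
    rwa [e] at h1
  obtain ⟨b, hb, hb1, hbc⟩ := c.symm.exists_central
  obtain ⟨z, hz, hz1, hzc⟩ := c.exists_central_p (p := s) hsA
  have hbX : b ∈ Subgroup.normalizer ((MulAut.conj a'⁻¹ • ((R' : Subgroup _).map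
      (K'.map (Subgroup.centralizer ({u} : Set G)).subtype).subtype) : Subgroup G) : Set G) := by
    apply Subgroup.centralizer_le_normalizer
    rw [Subgroup.mem_centralizer_iff]
    intro y hy
    exact hbc y (hXB hy)
  have hzX : z ∈ Subgroup.normalizer ((MulAut.conj a'⁻¹ • ((R' : Subgroup _).map
      (K'.map (Subgroup.centralizer ({u} : Set G)).subtype).subtype) : Subgroup G) : Set G) := by
    rw [conj_smul_mem_normalizer_iff, inv_inv]
    have e : a' * z * a'⁻¹ = z := by rw [hzc a' ha']; group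
    rw [e]; exact hR' hz
  have hN := c.normalizer_eq_top_of_mem (pp_le A s hz) hzc hz1 hb hbc hb1 hzX hbX
  have hXp : IsPGroup r (MulAut.conj a'⁻¹ • ((R' : Subgroup _).map
      (K'.map (Subgroup.centralizer ({u} : Set G)).subtype).subtype) : Subgroup G) := by
    obtain ⟨j, hj⟩ := IsPGroup.iff_card.mp hRp
    exact IsPGroup.of_card (n := j) (by rw [card_conj_smul, hj])
  have hXbot := c.eq_bot_of_normalizer_eq_top (c.ne_top_of_isPGroup hXp) hN
  apply hR1
  apply Subgroup.eq_bot_of_card_eq
  rw [← card_conj_smul a'⁻¹, hXbot, Subgroup.card_bot]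

theorem KP_of_odd (hodd : ¬ 2 ∣ Nat.card A) : KP A := by
  intro u hu hup
  have : Fact (orderOf u).Prime := ⟨hup⟩
  rcases c.cases hup hu rfl with ⟨h, hh, x, hx, hxN, hx1, hux⟩ | hD
  · have hCx := c.symm.cent_le_normalizer hx hxN hx1
    intro y hy
    have hy' : h⁻¹ * y * h ∈ Subgroup.centralizer ({x} : Set G) := by
      apply mem_centralizer_singleton
      have h1 := Subgroup.mem_centralizer_singleton_iff.mp hy
      rw [hux] at h1
      calc h⁻¹ * y * h * x = h⁻¹ * (y * (h * x * h⁻¹)) * h := by group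
        _ = h⁻¹ * ((h * x * h⁻¹) * y) * h := by rw [h1]
        _ = x * (h⁻¹ * y * h) := by group
    have h2 := hCx hy'
    have e : y = h * (h⁻¹ * y * h) * h⁻¹ := by group
    rw [e]; exact mul_mem (mul_mem hh h2) (inv_mem hh)
  · exact (c.centralizer_le_of_odd hodd hu rfl hD).trans Subgroup.le_normalizer

/-- the minimal counterexample does not exist -/
theorem false_of_ctx : False := by
  by_cases h : 2 ∣ Nat.card A
  · have hB : ¬ 2 ∣ Nat.card B := by
      intro h2
      have h3 := Nat.dvd_gcd h h2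
      rw [Nat.Coprime.gcd_eq_one c.cop] at h3
      omega
    have hKB := c.symm.KP_of_odd hB
    exact c.false_of_KP (c.symm.bridge hKB) hKB
  · have hKA := c.KP_of_odd h
    exact c.false_of_KP hKA (c.bridge hKA)

end Ctx

end Cfsg.Agent.Lib.Helper2.KegW
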