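import Mathlib
import Cfsg.Agent.Lib.Helper2.KegW12

set_option autoImplicit false

/-!
Kegel--Wielandt: the coprime case (Wielandt).
-/

namespace Cfsg.Agent.Lib.Helper2.KegW

open scoped Pointwise

open Cfsg.Agent.Lib.Lead

universe u

/-- a product of two nilpotent subgroups of coprime orders is soluble, by induction on the order -/
theorem coprime_solvable_aux : ∀ (n : ℕ) (G : Type u) [Group G] [Finite G] (A B : Subgroup G),
    Nat.card G = n → Group.IsNilpotent A → Group.IsNilpotent B →
    (Nat.card A).Coprime (Nat.card B) → (∀ g : G, ∃ a ∈ A, ∃ b ∈ B, g = a * b) →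
    Group.IsSolvable G := by
  intro n
  induction n using Nat.strong_induction_on with
  | _ n ih =>
  intro G _ _ A B hn hA hB hcop hAB
  by_contra hns
  have ihM : ∀ M : Subgroup G, M ≠ ⊤ → Fac A B M → Group.IsSolvable M := by
    intro M hM hF
    have hlt : Nat.card M < n := by
      rw [← hn]
      exact lt_of_le_of_ne (Subgroup.card_le_card_group M)
        (fun h => hM ((Subgroup.card_eq_iff_eq_top M).mp h))
    apply ih _ hlt ↥M ((A ⊓ M).subgroupOf M) ((B ⊓ M).subgroupOf M) rfl
    · haveI := nil_of_le hA (inf_le_left : A ⊓ M ≤ A)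
      exact Group.nilpotent_of_mulEquiv (Subgroup.subgroupOfEquivOfLe inf_le_right).symm
    · haveI := nil_of_le hB (inf_le_left : B ⊓ M ≤ B)
      exact Group.nilpotent_of_mulEquiv (Subgroup.subgroupOfEquivOfLe inf_le_right).symm
    · rw [card_subgroupOf_of_le inf_le_right, card_subgroupOf_of_le inf_le_right]
      exact Nat.Coprime.coprime_dvd_left (Subgroup.card_dvd_of_le inf_le_left)
        (Nat.Coprime.coprime_dvd_right (Subgroup.card_dvd_of_le inf_le_left) hcop)
    · rintro ⟨m, hm⟩
      obtain ⟨a, ha, b, hb, h1⟩ := hF m hm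
      exact ⟨⟨a, ha.2⟩, Subgroup.mem_subgroupOf.mpr ha, ⟨b, hb.2⟩, Subgroup.mem_subgroupOf.mpr hb,
        Subtype.ext h1⟩
  have hnt : Nontrivial G := by
    by_contra h
    rw [not_nontrivial_iff_subsingleton] at h
    exact hns inferInstance
  have hsimple : IsSimpleGroup G := by
    refine { toNontrivial := hnt, eq_bot_or_eq_top_of_normal := ?_ }
    intro N hN
    by_contra hcon
    push Not at hcon
    obtain ⟨hN1, hN2⟩ := hcon
    apply hns
    -- the quotient is soluble
    have hcardN : 1 < Nat.card N := by
      rcases Nat.lt_or_ge 1 (Nat.card N) with h | h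
      · exact h
      · exfalso
        have : Nat.card N = 1 := le_antisymm h Nat.card_pos
        exact hN1 (Subgroup.eq_bot_of_card_eq _ this)
    have hQ : Group.IsSolvable (G ⧸ N) := by
      have hlt : Nat.card (G ⧸ N) < n := by
        have h1 := Subgroup.card_mul_index N
        rw [hn] at h1
        have h2 : N.index = Nat.card (G ⧸ N) := rfl
        rw [← h2]
        have h3 : 0 < N.index := Nat.pos_of_ne_zero (fun h0 => by
          rw [h0, mul_zero] at h1
          have := Nat.card_pos (α := G)
          omega)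
        nlinarith
      apply ih _ hlt (G ⧸ N) (A.map (QuotientGroup.mk' N)) (B.map (QuotientGroup.mk' N)) rfl
      · haveI := hA
        exact Group.nilpotent_of_surjective _ ((QuotientGroup.mk' N).subgroupMap_surjective A)
      · haveI := hB
        exact Group.nilpotent_of_surjective _ ((QuotientGroup.mk' N).subgroupMap_surjective B)
      · exact Nat.Coprime.coprime_dvd_left (Dvd.intro _ (card_map_mul_card_inf_ker _ A))
          (Nat.Coprime.coprime_dvd_right (Dvd.intro _ (card_map_mul_card_inf_ker _ B)) hcop)
      · intro q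
        induction q using QuotientGroup.induction_on with
        | H g =>
          obtain ⟨a, ha, b, hb, rfl⟩ := hAB g
          exact ⟨QuotientGroup.mk' N a, ⟨a, ha, rfl⟩, QuotientGroup.mk' N b, ⟨b, hb, rfl⟩, rfl⟩
    -- the normal subgroup is factorised, hence soluble
    have hFN : Fac A B N := by
      intro m hm
      obtain ⟨a, ha, b, hb, rfl⟩ := hAB m
      have h1 : (QuotientGroup.mk' N a) * (QuotientGroup.mk' N b) = 1 := by
        rw [← map_mul]
        exact (QuotientGroup.eq_one_iff _).mpr hm
      have hcop' : (Nat.card (A.map (QuotientGroup.mk' N))).Coprime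
          (Nat.card (B.map (QuotientGroup.mk' N))) :=
        Nat.Coprime.coprime_dvd_left (Dvd.intro _ (card_map_mul_card_inf_ker _ A))
          (Nat.Coprime.coprime_dvd_right (Dvd.intro _ (card_map_mul_card_inf_ker _ B)) hcop)
      have h2 : QuotientGroup.mk' N a ∈ (A.map (QuotientGroup.mk' N)) ⊓
          (B.map (QuotientGroup.mk' N)) := by
        refine Subgroup.mem_inf.mpr ⟨⟨a, ha, rfl⟩, ?_⟩
        have : QuotientGroup.mk' N a = (QuotientGroup.mk' N b)⁻¹ := eq_inv_of_mul_eq_one_left h1
        rw [this]
        exact inv_mem ⟨b, hb, rfl⟩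
      rw [(Subgroup.disjoint_of_coprime_natCard hcop').eq_bot, Subgroup.mem_bot] at h2
      have haN : a ∈ N := (QuotientGroup.eq_one_iff _).mp h2
      have hbN : b ∈ N := by
        have : b = a⁻¹ * (a * b) := by group
        rw [this]; exact mul_mem (inv_mem haN) hm
      exact ⟨a, ⟨ha, haN⟩, b, ⟨hb, hbN⟩, rfl⟩
    haveI := ihM N hN2 hFN
    haveI := hQ
    exact Group.isSolvable_of_ker_le_range N.subtype (QuotientGroup.mk' N)
      (by rw [QuotientGroup.ker_mk', Subgroup.range_subtype])
  exact (Ctx.mk hsimple hns hA hB hcop hAB ihM).false_of_ctx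

/-- **Wielandt**: a finite product of two nilpotent subgroups of coprime orders is soluble -/
theorem coprime_solvable {G : Type u} [Group G] [Finite G] (A B : Subgroup G)
    (hA : Group.IsNilpotent A) (hB : Group.IsNilpotent B)
    (hcop : (Nat.card A).Coprime (Nat.card B)) (hAB : ∀ g : G, ∃ a ∈ A, ∃ b ∈ B, g = a * b) :
    Group.IsSolvable G :=
  coprime_solvable_aux _ G A B rfl hA hB hcop hAB

end Cfsg.Agent.Lib.Helper2.KegW
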