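import Mathlib
import Cfsg.Agent.Lib.Helper2.KegW13
import Cfsg.Agent.S0561

set_option autoImplicit false

/-!
Kegel--Wielandt: products of Sylow subgroups of the two factors in the coprime case.
-/

namespace Cfsg.Agent.Lib.Helper2.KegW

open scoped Pointwise

open Cfsg.Agent.Lib.Lead

universe u

variable {G : Type u} [Group G] [Finite G]

theorem card_eq_of_coprime_prod (A B : Subgroup G) (hcop : (Nat.card A).Coprime (Nat.card B))
    (hAB : ∀ g : G, ∃ a ∈ A, ∃ b ∈ B, g = a * b) : Nat.card G = Nat.card A * Nat.card B := by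
  apply le_antisymm
  · rw [← Nat.card_prod]
    apply Nat.card_le_card_of_surjective (fun x : A × B => (x.1 : G) * (x.2 : G))
    intro g
    obtain ⟨a, ha, b, hb, rfl⟩ := hAB g
    exact ⟨⟨⟨a, ha⟩, ⟨b, hb⟩⟩, rfl⟩
  · exact Nat.le_of_dvd Nat.card_pos
      (Nat.Coprime.mul_dvd_of_dvd_of_dvd hcop (Subgroup.card_subgroup_dvd_card A)
        (Subgroup.card_subgroup_dvd_card B))

theorem index_eq_of_coprime_prod (A B : Subgroup G) (hcop : (Nat.card A).Coprime (Nat.card B))
    (hAB : ∀ g : G, ∃ a ∈ A, ∃ b ∈ B, g = a * b) : A.index = Nat.card B := by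
  have h1 := Subgroup.card_mul_index A
  rw [card_eq_of_coprime_prod A B hcop hAB] at h1
  exact Nat.eq_of_mul_eq_mul_left Nat.card_pos h1

/-- a Sylow subgroup of the factor `A` is a Hall subgroup of the group -/
theorem sylow_hall (A B : Subgroup G) (hcop : (Nat.card A).Coprime (Nat.card B))
    (hAB : ∀ g : G, ∃ a ∈ A, ∃ b ∈ B, g = a * b) {p : ℕ} [hp : Fact p.Prime] (P : Sylow p A) :
    (Nat.card ((P : Subgroup A).map A.subtype)).Coprime ((P : Subgroup A).map A.subtype).index := by
  rw [Subgroup.card_map_of_injective A.subtype_injective, Subgroup.index_map_subtype,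
    index_eq_of_coprime_prod A B hcop hAB]
  obtain ⟨k, hk⟩ := IsPGroup.iff_card.mp P.isPGroup'
  rw [hk]
  rcases Nat.eq_zero_or_pos k with h0 | h0
  · subst h0
    rw [pow_zero]
    exact Nat.coprime_one_left _
  · apply Nat.Coprime.pow_left
    rw [Nat.Prime.coprime_iff_not_dvd hp.out]
    intro h
    have hpA : p ∣ Nat.card A := by
      have : p ∣ Nat.card (P : Subgroup A) := by rw [hk]; exact dvd_pow_self p h0.ne'
      exact this.trans (Subgroup.card_subgroup_dvd_card _)
    rcases (Nat.Prime.dvd_mul hp.out).mp h with h2 | h2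
    · exact P.not_dvd_index h2
    · have := Nat.dvd_gcd hpA h2
      rw [Nat.Coprime.gcd_eq_one hcop] at this
      exact hp.out.one_lt.ne' (Nat.dvd_one.mp this)

theorem sylow_subgroupOf_normal (A : Subgroup G) (hA : Group.IsNilpotent A) {p : ℕ}
    [hp : Fact p.Prime] (P : Sylow p A) :
    (((P : Subgroup A).map A.subtype).subgroupOf A).Normal := by
  haveI := hA
  have h1 : ((P : Subgroup A).map A.subtype).subgroupOf A = (P : Subgroup A) :=
    Subgroup.comap_map_eq_self_of_injective A.subtype_injective _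
  rw [h1]
  infer_instance

/-- products of Sylow subgroups of the factors are subgroups -/
theorem sylow_prod (A B : Subgroup G) (hA : Group.IsNilpotent A) (hB : Group.IsNilpotent B)
    (hcop : (Nat.card A).Coprime (Nat.card B)) (hAB : ∀ g : G, ∃ a ∈ A, ∃ b ∈ B, g = a * b)
    (p q : ℕ) [Fact p.Prime] [Fact q.Prime] (P : Sylow p A) (Q : Sylow q B) :
    ∃ S : Subgroup G, (S : Set G) = (((P : Subgroup A).map A.subtype : Subgroup G) : Set G) *
      (((Q : Subgroup B).map B.subtype : Subgroup G) : Set G) := by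
  haveI := coprime_solvable A B hA hB hcop hAB
  have hBA : ∀ g : G, ∃ b ∈ B, ∃ a ∈ A, g = b * a := by
    intro g
    obtain ⟨a, ha, b, hb, h1⟩ := hAB g⁻¹
    refine ⟨b⁻¹, inv_mem hb, a⁻¹, inv_mem ha, ?_⟩
    rw [← mul_inv_rev, ← h1, inv_inv]
  obtain ⟨S, hS⟩ := Cfsg.Agent.S0561.result A B ((P : Subgroup A).map A.subtype)
    ((Q : Subgroup B).map B.subtype) hAB (Subgroup.map_subtype_le _)
    (sylow_subgroupOf_normal A hA P) (Subgroup.map_subtype_le _)
    (sylow_subgroupOf_normal B hB Q) (sylow_hall A B hcop hAB P)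
    (sylow_hall B A hcop.symm hBA Q) 1 1
  rw [map_one, one_smul, one_smul] at hS
  exact ⟨S, hS⟩

end Cfsg.Agent.Lib.Helper2.KegW
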