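import Mathlib
import Cfsg.Agent.Lib.Helper2.KegW14
import Cfsg.Agent.S0560

set_option autoImplicit false

/-!
Kegel--Wielandt: the general case, basic properties of a minimal counterexample.
-/

namespace Cfsg.Agent.Lib.Helper2.KegW

open scoped Pointwise

open Cfsg.Agent.Lib.Lead

universe u

/-- conjugating a product `A₀ B₀` of normal subgroups of the factors -/
theorem kegel_hyp {G : Type u} [Group G] (A B A₀ B₀ S : Subgroup G)
    (hAB : ∀ g : G, ∃ a ∈ A, ∃ b ∈ B, g = a * b)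
    (hnA : A ≤ Subgroup.normalizer (A₀ : Set G)) (hnB : B ≤ Subgroup.normalizer (B₀ : Set G))
    (hS : (S : Set G) = (A₀ : Set G) * (B₀ : Set G)) (x : G) :
    ∃ a ∈ A, ((MulAut.conj a • S : Subgroup G) : Set G) =
      (A₀ : Set G) * ((MulAut.conj x • B₀ : Subgroup G) : Set G) := by
  obtain ⟨a, ha, b, hb, rfl⟩ := hAB x
  refine ⟨a, ha, ?_⟩
  have e : MulAut.conj (a * b) • B₀ = MulAut.conj a • B₀ := by
    rw [map_mul, mul_smul, smul_eq_of_mem_normalizer (hnB hb)]
  rw [e]
  ext y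
  rw [SetLike.mem_coe, mem_cs, ← SetLike.mem_coe, hS]
  constructor
  · intro hy
    obtain ⟨u, hu, v, hv, h1⟩ := Set.mem_mul.mp hy
    refine Set.mem_mul.mpr ⟨a * u * a⁻¹, conj_mem_of_mem_normalizer (hnA ha) hu,
      a * v * a⁻¹, conj_mem_cs a hv, ?_⟩
    have : a * u * a⁻¹ * (a * v * a⁻¹) = a * (u * v) * a⁻¹ := by group
    rw [this, h1]; group
  · intro hy
    obtain ⟨u, hu, v, hv, h1⟩ := Set.mem_mul.mp hy
    have hv' : a⁻¹ * v * a ∈ B₀ := (mem_cs a v B₀).mp hv
    refine Set.mem_mul.mpr ⟨a⁻¹ * u * a, conj_mem_of_mem_normalizer' (hnA ha) hu,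
      a⁻¹ * v * a, hv', ?_⟩
    rw [← h1]; group

/-- the minimal counterexample in the general case -/
structure GCtx (G : Type u) [Group G] [Finite G] (A B : Subgroup G) : Prop where
  nsolv : ¬ Group.IsSolvable G
  nilA : Group.IsNilpotent A
  nilB : Group.IsNilpotent B
  prod : ∀ g : G, ∃ a ∈ A, ∃ b ∈ B, g = a * b
  ih : ∀ (H : Type u) [Group H] [Finite H] (A' B' : Subgroup H), Nat.card H < Nat.card G →
    Group.IsNilpotent A' → Group.IsNilpotent B' → (∀ h : H, ∃ a ∈ A', ∃ b ∈ B', h = a * b) →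
    Group.IsSolvable H

variable {G : Type u} [Group G] [Finite G] {A B : Subgroup G}

theorem GCtx.symm (c : GCtx G A B) : GCtx G B A where
  nsolv := c.nsolv
  nilA := c.nilB
  nilB := c.nilA
  prod := by
    intro g
    obtain ⟨a, ha, b, hb, h1⟩ := c.prod g⁻¹
    refine ⟨b⁻¹, inv_mem hb, a⁻¹, inv_mem ha, ?_⟩
    rw [← mul_inv_rev, ← h1, inv_inv]
  ih := by
    intro H _ _ A' B' hlt hA' hB' hp
    apply c.ih H B' A' hlt hB' hA'
    intro h
    obtain ⟨a, ha, b, hb, h1⟩ := hp h⁻¹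
    refine ⟨b⁻¹, inv_mem hb, a⁻¹, inv_mem ha, ?_⟩
    rw [← mul_inv_rev, ← h1, inv_inv]

namespace GCtx

variable (c : GCtx G A B)
include c

theorem quot_solvable (N : Subgroup G) [hN : N.Normal] (hN1 : N ≠ ⊥) :
    Group.IsSolvable (G ⧸ N) := by
  have hcardN : 1 < Nat.card N := by
    rcases Nat.lt_or_ge 1 (Nat.card N) with h | h
    · exact h
    · exfalso
      have : Nat.card N = 1 := le_antisymm h Nat.card_pos
      exact hN1 (Subgroup.eq_bot_of_card_eq _ this)
  have hlt : Nat.card (G ⧸ N) < Nat.card G := by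
    have h1 := Subgroup.card_mul_index N
    have h2 : N.index = Nat.card (G ⧸ N) := rfl
    rw [← h2]
    have h3 : 0 < N.index := Nat.pos_of_ne_zero (fun h0 => by
      rw [h0, mul_zero] at h1
      have := Nat.card_pos (α := G)
      omega)
    nlinarith
  apply c.ih (G ⧸ N) (A.map (QuotientGroup.mk' N)) (B.map (QuotientGroup.mk' N)) hlt
  · haveI := c.nilA
    exact Group.nilpotent_of_surjective _ ((QuotientGroup.mk' N).subgroupMap_surjective A)
  · haveI := c.nilB
    exact Group.nilpotent_of_surjective _ ((QuotientGroup.mk' N).subgroupMap_surjective B)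
  · intro q
    induction q using QuotientGroup.induction_on with
    | H g =>
      obtain ⟨a, ha, b, hb, rfl⟩ := c.prod g
      exact ⟨QuotientGroup.mk' N a, ⟨a, ha, rfl⟩, QuotientGroup.mk' N b, ⟨b, hb, rfl⟩, rfl⟩

theorem sub_solvable (M : Subgroup G) (hM : M ≠ ⊤) (hAM : A ≤ M) : Group.IsSolvable M := by
  have hlt : Nat.card M < Nat.card G :=
    lt_of_le_of_ne (Subgroup.card_le_card_group M)
      (fun h => hM ((Subgroup.card_eq_iff_eq_top M).mp h))
  apply c.ih ↥M (A.subgroupOf M) ((B ⊓ M).subgroupOf M) hlt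
  · haveI := c.nilA
    exact Group.nilpotent_of_mulEquiv (Subgroup.subgroupOfEquivOfLe hAM).symm
  · haveI := nil_of_le c.nilB (inf_le_left : B ⊓ M ≤ B)
    exact Group.nilpotent_of_mulEquiv (Subgroup.subgroupOfEquivOfLe inf_le_right).symm
  · rintro ⟨m, hm⟩
    obtain ⟨a, ha, b, hb, h1⟩ := c.prod m
    have hbM : b ∈ M := by
      have : b = a⁻¹ * m := by rw [h1]; group
      rw [this]; exact mul_mem (inv_mem (hAM ha)) hm
    exact ⟨⟨a, hAM ha⟩, Subgroup.mem_subgroupOf.mpr ha, ⟨b, hbM⟩,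
      Subgroup.mem_subgroupOf.mpr ⟨hb, hbM⟩, Subtype.ext h1⟩

/-- a nontrivial normal subgroup supplements each factor -/
theorem sup_eq_top (N : Subgroup G) [hN : N.Normal] (hN1 : N ≠ ⊥) : A ⊔ N = ⊤ := by
  by_contra hne
  apply c.nsolv
  haveI := c.quot_solvable N hN1
  haveI := c.sub_solvable (A ⊔ N) hne le_sup_left
  haveI : Group.IsSolvable N :=
    Group.isSolvable_of_isSolvable_injective (Subgroup.inclusion_injective (le_sup_right : N ≤ A ⊔ N))
  exact Group.isSolvable_of_ker_le_range N.subtype (QuotientGroup.mk' N)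
    (by rw [QuotientGroup.ker_mk', Subgroup.range_subtype])

theorem ne_top_of_isPGroup {M : Subgroup G} {p : ℕ} [Fact p.Prime] (h : IsPGroup p M) :
    M ≠ ⊤ := by
  rintro rfl
  apply c.nsolv
  haveI := h.isNilpotent
  exact Group.isSolvable_of_surjective (f := (⊤ : Subgroup G).subtype)
    (fun g => ⟨⟨g, Subgroup.mem_top g⟩, rfl⟩)

/-- a nontrivial normal subgroup containing the Sylow `p`-subgroup of `A` has `p'`-index -/
theorem index_not_dvd {p : ℕ} [hp : Fact p.Prime] (N : Subgroup G) [hN : N.Normal] (hN1 : N ≠ ⊥)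
    (hAN : pp A p ≤ N) : ¬ p ∣ N.index := by
  have h1 : N.index = N.relIndex A := by
    rw [← Subgroup.relIndex_top_right, ← c.sup_eq_top N hN1, Subgroup.relIndex_sup_right]
  rw [h1]
  intro h
  have h2 : p ∣ (pp A p).relIndex A := h.trans (Subgroup.relIndex_dvd_of_le_left A hAN)
  have h3 : (pp A p).relIndex A = Nat.card (pq A p) := by
    have h4 := Subgroup.card_mul_index ((pp A p).subgroupOf A)
    rw [card_subgroupOf_of_le (pp_le A p), ← card_pp_mul_card_pq (p := p) c.nilA] at h4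
    exact Nat.eq_of_mul_eq_mul_left Nat.card_pos h4
  rw [h3] at h2
  have := card_pq_coprime (p := p) c.nilA
  exact hp.out.one_lt.ne' (Nat.Coprime.eq_one_of_dvd this.symm h2)

/-- a nontrivial normal subgroup containing the Sylow `p`-subgroup of `A` contains that of `B` -/
theorem pp_le_of_pp_le {p : ℕ} [hp : Fact p.Prime] (N : Subgroup G) [hN : N.Normal] (hN1 : N ≠ ⊥)
    (hAN : pp A p ≤ N) : pp B p ≤ N := by
  have h1 := c.index_not_dvd N hN1 hAN
  intro b hb
  obtain ⟨-, k, hk⟩ := (mem_pp_iff c.nilB).mp hb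
  have h2 : orderOf b ∣ p ^ k := orderOf_dvd_of_pow_eq_one hk
  have h3 : (N.index).Coprime (orderOf b) :=
    Nat.Coprime.coprime_dvd_right h2
      (Nat.Coprime.pow_right k ((Nat.Prime.coprime_iff_not_dvd hp.out).mpr h1).symm)
  obtain ⟨m, hm⟩ := exists_pow_eq_self_of_coprime h3
  rw [← hm]
  exact pow_mem (N.pow_index_mem b) m

end GCtx

end Cfsg.Agent.Lib.Helper2.KegW
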