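import Mathlib
import Cfsg.Agent.Lib.Helper2.KegW15

set_option autoImplicit false

/-!
Kegel--Wielandt: the general case (Kegel's reduction to coprime orders).
-/

namespace Cfsg.Agent.Lib.Helper2.KegW

open scoped Pointwise

open Cfsg.Agent.Lib.Lead

universe u

variable {G : Type u} [Group G] [Finite G] {A B : Subgroup G}

/-- if `G = A X` with `X` normal, the normal closure in `G` of a normal subgroup `A₀ ≤ X` of `A`
lies in every normal subgroup of `X` containing `A₀` -/
theorem normalClosure_le_map {X A A₀ : Subgroup G} [hX : X.Normal] (hAX : A ⊔ X = ⊤)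
    (hnA : A ≤ Subgroup.normalizer (A₀ : Set G)) (hA₀X : A₀ ≤ X) (Y : Subgroup X) [hY : Y.Normal]
    (hle : A₀.subgroupOf X ≤ Y) : Subgroup.normalClosure (A₀ : Set G) ≤ Y.map X.subtype := by
  unfold Subgroup.normalClosure
  rw [Subgroup.closure_le]
  intro y hy
  rw [Group.mem_conjugatesOfSet_iff] at hy
  obtain ⟨u, hu, hc⟩ := hy
  rw [isConj_iff] at hc
  obtain ⟨g, rfl⟩ := hc
  have hg : g ∈ ((X ⊔ A : Subgroup G) : Set G) := by
    rw [sup_comm, hAX]; trivial
  rw [Subgroup.normal_mul] at hg
  obtain ⟨n, hn, a, ha, rfl⟩ := Set.mem_mul.mp hg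
  have hu' : a * u * a⁻¹ ∈ A₀ := conj_mem_of_mem_normalizer (hnA ha) hu
  have h1 : (⟨a * u * a⁻¹, hA₀X hu'⟩ : X) ∈ Y := hle (Subgroup.mem_subgroupOf.mpr hu')
  refine ⟨⟨n, hn⟩ * ⟨a * u * a⁻¹, hA₀X hu'⟩ * ⟨n, hn⟩⁻¹, hY.conj_mem _ h1 _, ?_⟩
  show n * (a * u * a⁻¹) * n⁻¹ = n * a * u * (n * a)⁻¹
  group

namespace GCtx

variable (c : GCtx G A B)
include c

theorem false_of_common_prime {p : ℕ} [hp : Fact p.Prime] (hpA : p ∣ Nat.card A)
    (hpB : p ∣ Nat.card B) : False := by
  obtain ⟨P, Q, R, hR⟩ := Cfsg.Agent.S0560.result A B c.prod p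
  rw [← pp_eq_map c.nilA P, ← pp_eq_map c.nilB Q] at hR
  have hA1 : pp A p ≠ ⊥ := pp_ne_bot c.nilA hpA
  have hB1 : pp B p ≠ ⊥ := pp_ne_bot c.nilB hpB
  have hRp : ∀ a : G, IsPGroup p (MulAut.conj a • (R : Subgroup G) : Subgroup G) := by
    intro a
    obtain ⟨j, hj⟩ := IsPGroup.iff_card.mp R.isPGroup'
    exact IsPGroup.of_card (n := j) (by rw [card_conj_smul, hj])
  have key : ∀ x : G, ∃ S : Subgroup G, S ≠ ⊤ ∧
      (S : Set G) = (pp A p : Set G) * ((MulAut.conj x • pp B p : Subgroup G) : Set G) := by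
    intro x
    obtain ⟨a, -, e⟩ := kegel_hyp A B (pp A p) (pp B p) R c.prod (le_normalizer_pp A p)
      (le_normalizer_pp B p) hR x
    exact ⟨_, c.ne_top_of_isPGroup (hRp a), e⟩
  obtain ⟨N, hN, hNt, h⟩ := Cfsg.Agent.S0566.result (pp A p) (pp B p) hA1 hB1 key
  haveI := hN
  have hN1 : N ≠ ⊥ := by
    rintro rfl
    rcases h with h | h
    · exact hA1 (le_bot_iff.mp h)
    · exact hB1 (le_bot_iff.mp h)
  have hAN : pp A p ≤ N := by
    rcases h with h | h
    · exact h
    · exact c.symm.pp_le_of_pp_le N hN1 h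
  -- the normal closure `X` of the Sylow subgroup of `A`
  haveI hXn : (Subgroup.normalClosure (pp A p : Set G)).Normal := Subgroup.normalClosure_normal
  have hAX : pp A p ≤ Subgroup.normalClosure (pp A p : Set G) := Subgroup.le_normalClosure
  have hX1 : Subgroup.normalClosure (pp A p : Set G) ≠ ⊥ := by
    intro h0
    rw [h0] at hAX
    exact hA1 (le_bot_iff.mp hAX)
  have hXN : Subgroup.normalClosure (pp A p : Set G) ≤ N := Subgroup.normalClosure_le_normal hAN
  have hBX : pp B p ≤ Subgroup.normalClosure (pp A p : Set G) := c.pp_le_of_pp_le _ hX1 hAX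
  -- the normal closure of the Sylow subgroup of `B` contains it
  haveI hX'n : (Subgroup.normalClosure (pp B p : Set G)).Normal := Subgroup.normalClosure_normal
  have hBX' : pp B p ≤ Subgroup.normalClosure (pp B p : Set G) := Subgroup.le_normalClosure
  have hX'1 : Subgroup.normalClosure (pp B p : Set G) ≠ ⊥ := by
    intro h0
    rw [h0] at hBX'
    exact hB1 (le_bot_iff.mp hBX')
  have hXX' : Subgroup.normalClosure (pp A p : Set G) ≤ Subgroup.normalClosure (pp B p : Set G) :=
    Subgroup.normalClosure_le_normal (c.symm.pp_le_of_pp_le _ hX'1 hBX')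
  -- `X` is not a `p`-group
  have hXnp : ¬ IsPGroup p (Subgroup.normalClosure (pp A p : Set G)) := by
    intro hXp
    apply c.nsolv
    haveI := c.quot_solvable _ hX1
    haveI := hXp.isNilpotent
    exact Group.isSolvable_of_ker_le_range (Subgroup.normalClosure (pp A p : Set G)).subtype
      (QuotientGroup.mk' (Subgroup.normalClosure (pp A p : Set G)))
      (by rw [QuotientGroup.ker_mk', Subgroup.range_subtype])
  have key' : ∀ x : Subgroup.normalClosure (pp A p : Set G),
      ∃ S : Subgroup (Subgroup.normalClosure (pp A p : Set G)), S ≠ ⊤ ∧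
      (S : Set (Subgroup.normalClosure (pp A p : Set G))) =
        (((pp A p).subgroupOf (Subgroup.normalClosure (pp A p : Set G)) :
          Subgroup (Subgroup.normalClosure (pp A p : Set G))) :
            Set (Subgroup.normalClosure (pp A p : Set G))) *
        ((MulAut.conj x • (pp B p).subgroupOf (Subgroup.normalClosure (pp A p : Set G)) :
          Subgroup (Subgroup.normalClosure (pp A p : Set G))) :
            Set (Subgroup.normalClosure (pp A p : Set G))) := by
    intro x
    obtain ⟨a, -, e⟩ := kegel_hyp A B (pp A p) (pp B p) R c.prod (le_normalizer_pp A p)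
      (le_normalizer_pp B p) hR (x : G)
    refine ⟨(MulAut.conj a • (R : Subgroup G)).subgroupOf _, ?_, ?_⟩
    · intro h0
      rw [Subgroup.subgroupOf_eq_top] at h0
      exact hXnp ((hRp a).to_le h0)
    · ext y
      rw [SetLike.mem_coe, Subgroup.mem_subgroupOf, ← SetLike.mem_coe, e]
      constructor
      · intro hy
        obtain ⟨u, hu, v, hv, h1⟩ := Set.mem_mul.mp hy
        have hvX : v ∈ Subgroup.normalClosure (pp A p : Set G) := by
          have : v = u⁻¹ * (y : G) := by rw [← h1]; group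
          rw [this]; exact mul_mem (inv_mem (hAX hu)) y.2
        refine Set.mem_mul.mpr ⟨⟨u, hAX hu⟩, Subgroup.mem_subgroupOf.mpr hu, ⟨v, hvX⟩, ?_,
          Subtype.ext h1⟩
        rw [SetLike.mem_coe, mem_cs, Subgroup.mem_subgroupOf]
        exact (mem_cs (x : G) v (pp B p)).mp hv
      · intro hy
        obtain ⟨u, hu, v, hv, h1⟩ := Set.mem_mul.mp hy
        refine Set.mem_mul.mpr ⟨(u : G), Subgroup.mem_subgroupOf.mp hu, (v : G), ?_, ?_⟩
        · rw [SetLike.mem_coe, mem_cs, Subgroup.mem_subgroupOf] at hv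
          rw [SetLike.mem_coe, mem_cs]
          exact hv
        · rw [← h1]; rfl
  have hA1' : (pp A p).subgroupOf (Subgroup.normalClosure (pp A p : Set G)) ≠ ⊥ := by
    intro h0
    rw [Subgroup.subgroupOf_eq_bot, disjoint_iff, inf_eq_left.mpr hAX] at h0
    exact hA1 h0
  have hB1' : (pp B p).subgroupOf (Subgroup.normalClosure (pp A p : Set G)) ≠ ⊥ := by
    intro h0
    rw [Subgroup.subgroupOf_eq_bot, disjoint_iff, inf_eq_left.mpr hBX] at h0
    exact hB1 h0
  obtain ⟨Y, hYn, hYt, hY⟩ := Cfsg.Agent.S0566.result _ _ hA1' hB1' key'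
  have := hYn
  have hle : Subgroup.normalClosure (pp A p : Set G) ≤
      Y.map (Subgroup.normalClosure (pp A p : Set G)).subtype := by
    rcases hY with h | h
    · exact normalClosure_le_map (c.sup_eq_top _ hX1) (le_normalizer_pp A p) hAX Y h
    · exact hXX'.trans
        (normalClosure_le_map (c.symm.sup_eq_top _ hX1) (le_normalizer_pp B p) hBX Y h)
  apply hYt
  rw [eq_top_iff]
  intro y _
  obtain ⟨y', hy', hyy⟩ := hle y.2
  have : y' = y := Subtype.ext hyy
  rw [← this]; exact hy'

end GCtx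

/-- **Kegel--Wielandt**: a finite product of two nilpotent subgroups is soluble -/
theorem nilpotent_prod_solvable_aux : ∀ (n : ℕ) (G : Type u) [Group G] [Finite G]
    (A B : Subgroup G), Nat.card G = n → Group.IsNilpotent A → Group.IsNilpotent B →
    (∀ g : G, ∃ a ∈ A, ∃ b ∈ B, g = a * b) → Group.IsSolvable G := by
  intro n
  induction n using Nat.strong_induction_on with
  | _ n ih =>
  intro G _ _ A B hn hA hB hAB
  by_contra hns
  have c : GCtx G A B :=
    { nsolv := hns
      nilA := hA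
      nilB := hB
      prod := hAB
      ih := by
        intro H _ _ A' B' hlt hA' hB' hp
        rw [hn] at hlt
        exact ih _ hlt H A' B' rfl hA' hB' hp }
  by_cases hcop : (Nat.card A).Coprime (Nat.card B)
  · exact hns (coprime_solvable A B hA hB hcop hAB)
  · obtain ⟨p, hp, hpA, hpB⟩ := Nat.Prime.not_coprime_iff_dvd.mp hcop
    have : Fact p.Prime := ⟨hp⟩
    exact c.false_of_common_prime hpA hpB

theorem nilpotent_prod_solvable {G : Type u} [Group G] [Finite G] (A B : Subgroup G)
    (hA : Group.IsNilpotent A) (hB : Group.IsNilpotent B)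
    (hAB : ∀ g : G, ∃ a ∈ A, ∃ b ∈ B, g = a * b) : Group.IsSolvable G :=
  nilpotent_prod_solvable_aux _ G A B rfl hA hB hAB

end Cfsg.Agent.Lib.Helper2.KegW
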