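import Mathlib
import Cfsg.Agent.Lib.Helper2.KegW16
import Cfsg.Agent.Lib.Lead.SchurConj
import Cfsg.Agent.Lib.Lead.HallThm

set_option autoImplicit false

/-!
Products of two nilpotent subgroups: one factor lies in a proper normal subgroup.
-/

namespace Cfsg.Agent.Lib.Helper2.KegW

open scoped Pointwise

open Cfsg.Agent.Lib.Lead

universe u

theorem card_quotient_lt {G : Type u} [Group G] [Finite G] (N : Subgroup G) [N.Normal]
    (hN1 : N ≠ ⊥) : Nat.card (G ⧸ N) < Nat.card G := by
  have hcardN : 1 < Nat.card N := by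
    rcases Nat.lt_or_ge 1 (Nat.card N) with h | h
    · exact h
    · exfalso
      have : Nat.card N = 1 := le_antisymm h Nat.card_pos
      exact hN1 (Subgroup.eq_bot_of_card_eq _ this)
  have h1 := Subgroup.card_mul_index N
  have h2 : N.index = Nat.card (G ⧸ N) := rfl
  rw [← h2]
  have h3 : 0 < N.index := Nat.pos_of_ne_zero (fun h0 => by
    rw [h0, mul_zero] at h1
    have := Nat.card_pos (α := G)
    omega)
  nlinarith

/-- a proper subgroup of a finite nilpotent group lies in a proper normal subgroup -/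
theorem exists_normal_of_nilpotent {G : Type u} [Group G] [Finite G] (hG : Group.IsNilpotent G)
    (B : Subgroup G) (hB : B ≠ ⊤) : ∃ N : Subgroup G, N.Normal ∧ N ≠ ⊤ ∧ B ≤ N := by
  obtain ⟨M, hM, hBM⟩ := (eq_top_or_exists_le_coatom B).resolve_left hB
  have h := (Group.isNilpotent_of_finite_tfae (G := G)).out 0 2 rfl rfl
  exact ⟨M, h.mp hG M hM, hM.1, hBM⟩

/-- the minimal counterexample -/
structure NCtx (G : Type u) [Group G] [Finite G] (A B : Subgroup G) : Prop where
  nilA : Group.IsNilpotent A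
  nilB : Group.IsNilpotent B
  prod : ∀ g : G, ∃ a ∈ A, ∃ b ∈ B, g = a * b
  proper : A ≠ ⊤ ∨ B ≠ ⊤
  no : ∀ N : Subgroup G, N.Normal → N ≠ ⊤ → ¬ (A ≤ N ∨ B ≤ N)
  ih : ∀ (H : Type u) [Group H] [Finite H] (A' B' : Subgroup H), Nat.card H < Nat.card G →
    Group.IsNilpotent A' → Group.IsNilpotent B' → (∀ h : H, ∃ a ∈ A', ∃ b ∈ B', h = a * b) →
    (A' ≠ ⊤ ∨ B' ≠ ⊤) → ∃ N : Subgroup H, N.Normal ∧ N ≠ ⊤ ∧ (A' ≤ N ∨ B' ≤ N)

variable {G : Type u} [Group G] [Finite G] {A B : Subgroup G}

omit [Finite G] in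
theorem prod_symm (h : ∀ g : G, ∃ a ∈ A, ∃ b ∈ B, g = a * b) :
    ∀ g : G, ∃ b ∈ B, ∃ a ∈ A, g = b * a := by
  intro g
  obtain ⟨a, ha, b, hb, h1⟩ := h g⁻¹
  refine ⟨b⁻¹, inv_mem hb, a⁻¹, inv_mem ha, ?_⟩
  rw [← mul_inv_rev, ← h1, inv_inv]

theorem NCtx.symm (c : NCtx G A B) : NCtx G B A where
  nilA := c.nilB
  nilB := c.nilA
  prod := prod_symm c.prod
  proper := c.proper.symm
  no := fun N hN hNt h => c.no N hN hNt h.symm
  ih := by
    intro H _ _ A' B' hlt hA' hB' hp hpr
    obtain ⟨N, hN, hNt, h⟩ := c.ih H B' A' hlt hB' hA' (prod_symm hp) hpr.symm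
    exact ⟨N, hN, hNt, h.symm⟩

namespace NCtx

variable (c : NCtx G A B)
include c

theorem A_ne_top : A ≠ ⊤ := by
  intro h
  have hG : Group.IsNilpotent G := by
    have h1 := c.nilA
    rw [h] at h1
    haveI := h1
    exact Group.nilpotent_of_mulEquiv (Subgroup.topEquiv (G := G))
  have hB : B ≠ ⊤ := by
    rcases c.proper with h1 | h1
    · exact absurd h h1
    · exact h1
  obtain ⟨N, hN, hNt, hBN⟩ := exists_normal_of_nilpotent hG B hB
  exact c.no N hN hNt (Or.inr hBN)

theorem B_ne_top : B ≠ ⊤ := c.symm.A_ne_top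

theorem sup_eq_top (N : Subgroup G) [hN : N.Normal] (hN1 : N ≠ ⊥) : A ⊔ N = ⊤ ∧ B ⊔ N = ⊤ := by
  by_contra hcon
  have hlt := card_quotient_lt N hN1
  have hp : A.map (QuotientGroup.mk' N) ≠ ⊤ ∨ B.map (QuotientGroup.mk' N) ≠ ⊤ := by
    by_contra h
    push Not at h
    apply hcon
    constructor
    · have := congrArg (Subgroup.comap (QuotientGroup.mk' N)) h.1
      rw [Subgroup.comap_map_eq, QuotientGroup.ker_mk', Subgroup.comap_top] at this
      exact this
    · have := congrArg (Subgroup.comap (QuotientGroup.mk' N)) h.2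
      rw [Subgroup.comap_map_eq, QuotientGroup.ker_mk', Subgroup.comap_top] at this
      exact this
  obtain ⟨N', hN'n, hN't, hN'⟩ := c.ih (G ⧸ N) (A.map (QuotientGroup.mk' N))
    (B.map (QuotientGroup.mk' N)) hlt
    (by
      haveI := c.nilA
      exact Group.nilpotent_of_surjective _ ((QuotientGroup.mk' N).subgroupMap_surjective A))
    (by
      haveI := c.nilB
      exact Group.nilpotent_of_surjective _ ((QuotientGroup.mk' N).subgroupMap_surjective B))
    (by
      intro q
      induction q using QuotientGroup.induction_on with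
      | H g =>
        obtain ⟨a, ha, b, hb, rfl⟩ := c.prod g
        exact ⟨QuotientGroup.mk' N a, ⟨a, ha, rfl⟩, QuotientGroup.mk' N b, ⟨b, hb, rfl⟩, rfl⟩)
    hp
  apply c.no (N'.comap (QuotientGroup.mk' N)) (hN'n.comap _)
  · intro h
    apply hN't
    rw [eq_top_iff]
    intro q _
    induction q using QuotientGroup.induction_on with
    | H g =>
      have : g ∈ N'.comap (QuotientGroup.mk' N) := by rw [h]; trivial
      exact this
  · rcases hN' with h | h
    · left; exact Subgroup.map_le_iff_le_comap.mp h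
    · right; exact Subgroup.map_le_iff_le_comap.mp h

/-- normal subgroups inside `A` are trivial -/
theorem eq_bot_of_normal_le {K : Subgroup G} (hK : K.Normal) (hKA : K ≤ A) : K = ⊥ := by
  by_contra hK1
  haveI := hK
  have h1 := (c.sup_eq_top K hK1).1
  rw [sup_eq_left.mpr hKA] at h1
  exact c.A_ne_top h1

theorem eq_bot_of_le {K : Subgroup G} (hKA : K ≤ A) (hAK : A ≤ Subgroup.normalizer (K : Set G))
    {M : Subgroup G} [hM : M.Normal] (hM1 : M ≠ ⊥) (hMK : M ≤ Subgroup.normalizer (K : Set G)) :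
    K = ⊥ := by
  apply c.eq_bot_of_normal_le _ hKA
  rw [← Subgroup.normalizer_eq_top_iff, eq_top_iff, ← (c.sup_eq_top M hM1).1]
  exact sup_le hAK hMK

/-- the centralizer in `A` of a nontrivial normal subgroup is trivial -/
theorem inf_centralizer_eq_bot {M : Subgroup G} [hM : M.Normal] (hM1 : M ≠ ⊥) :
    A ⊓ Subgroup.centralizer (M : Set G) = ⊥ := by
  apply c.eq_bot_of_le inf_le_left (le_normalizer_inf_normal A _) hM1
  refine le_trans ?_ (Subgroup.centralizer_le_normalizer _)
  intro m hm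
  rw [Subgroup.mem_centralizer_iff]
  intro x hx
  have hx' := (Subgroup.mem_inf.mp hx).2
  exact (Subgroup.mem_centralizer_iff.mp hx' m hm).symm

theorem inf_eq_bot {M : Subgroup G} [hM : M.Normal] (hM1 : M ≠ ⊥)
    (hMc : ∀ x ∈ M, ∀ y ∈ M, x * y = y * x) : A ⊓ M = ⊥ := by
  apply c.eq_bot_of_le inf_le_left (le_normalizer_inf_normal A _) hM1
  refine le_trans ?_ (Subgroup.centralizer_le_normalizer _)
  intro m hm
  rw [Subgroup.mem_centralizer_iff]
  intro x hx
  exact hMc x (Subgroup.mem_inf.mp hx).2 m hm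

/-- the prime of a nontrivial normal abelian `p`-subgroup does not divide `|A|` -/
theorem not_dvd_card {p : ℕ} [hp : Fact p.Prime] {M : Subgroup G} [hM : M.Normal] (hM1 : M ≠ ⊥)
    (hMp : IsPGroup p M) (hMc : ∀ x ∈ M, ∀ y ∈ M, x * y = y * x) : ¬ p ∣ Nat.card A := by
  intro hpA
  have hA1 : pp A p ≠ ⊥ := pp_ne_bot c.nilA hpA
  -- the fixed points of the Sylow subgroup of `A` on `M`
  have hT : IsPGroup p (pp A p ⊔ M : Subgroup G) :=
    IsPGroup.to_sup_of_normal_right (pp_isPGroup c.nilA) hMp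
  haveI : Group.IsNilpotent (pp A p ⊔ M : Subgroup G) := hT.isNilpotent
  have hN1 : M.subgroupOf (pp A p ⊔ M) ≠ ⊥ := by
    intro h0
    rw [Subgroup.subgroupOf_eq_bot, disjoint_iff, inf_eq_left.mpr le_sup_right] at h0
    exact hM1 h0
  have hZ := inf_center_ne_bot (M.subgroupOf (pp A p ⊔ M)) hN1
  obtain ⟨⟨z, hz⟩, hz1⟩ := (Subgroup.ne_bot_iff_exists_ne_one).mp hZ
  obtain ⟨hzM, hzc⟩ := Subgroup.mem_inf.mp hz
  have hzM' : (z : G) ∈ M := Subgroup.mem_subgroupOf.mp hzM
  have hzC : (z : G) ∈ Subgroup.centralizer (pp A p : Set G) := by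
    rw [Subgroup.mem_centralizer_iff]
    intro u hu
    have := Subgroup.mem_center_iff.mp hzc ⟨u, Subgroup.mem_sup_left hu⟩
    exact congrArg Subtype.val this
  have hz1' : (z : G) ≠ 1 := by
    intro h
    apply hz1
    apply Subtype.ext
    apply Subtype.ext
    simpa using h
  have hZ1 : M ⊓ Subgroup.centralizer (pp A p : Set G) ≠ ⊥ := by
    intro h0
    have : (z : G) ∈ M ⊓ Subgroup.centralizer (pp A p : Set G) := Subgroup.mem_inf.mpr ⟨hzM', hzC⟩
    rw [h0, Subgroup.mem_bot] at this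
    exact hz1' this
  have hZn : (M ⊓ Subgroup.centralizer (pp A p : Set G)).Normal := by
    rw [← Subgroup.normalizer_eq_top_iff, eq_top_iff, ← (c.sup_eq_top M hM1).1]
    apply sup_le
    · refine le_trans ?_ (normalizer_inf_le' _ _)
      apply le_inf
      · rw [Subgroup.normalizer_eq_top_iff.mpr hM]; exact le_top
      · exact (le_normalizer_pp A p).trans (normalizer_le_normalizer_centralizer _)
    · refine le_trans ?_ (Subgroup.centralizer_le_normalizer _)
      intro m hm
      rw [Subgroup.mem_centralizer_iff]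
      intro x hx
      exact hMc x (Subgroup.mem_inf.mp hx).1 m hm
  haveI := hZn
  have h1 := c.inf_centralizer_eq_bot hZ1
  apply hA1
  rw [eq_bot_iff, ← h1]
  apply le_inf (pp_le A p)
  rw [Subgroup.le_centralizer_iff]
  exact inf_le_right

end NCtx

end Cfsg.Agent.Lib.Helper2.KegW
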