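import Mathlib
import Cfsg.Agent.Lib.Helper2.KegW17

set_option autoImplicit false

/-!
Products of an abelian subgroup and a subgroup of class at most two: if the group is generated by
the abelian factor and the derived subgroup of the other factor, that factor is abelian.
-/

namespace Cfsg.Agent.Lib.Helper2.AbCl2

open scoped Pointwise commutatorElement

open Cfsg.Agent.Lib.Lead Cfsg.Agent.Lib.Helper2.KegW

universe u

/-- abelian subgroup, elementwise -/
def Ab {G : Type*} [Group G] (A : Subgroup G) : Prop := ∀ x ∈ A, ∀ y ∈ A, x * y = y * x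

/-- class at most two, elementwise -/
def Cl2 {G : Type*} [Group G] (B : Subgroup G) : Prop :=
  ∀ x ∈ B, ∀ y ∈ B, ∀ b ∈ B, ⁅x, y⁆ * b = b * ⁅x, y⁆

section

variable {G : Type*} [Group G] {A B : Subgroup G}

theorem Cl2.comm_mem (hB : Cl2 B) : ∀ c ∈ ⁅B, B⁆, ∀ b ∈ B, c * b = b * c := by
  have h : ⁅B, B⁆ ≤ Subgroup.centralizer (B : Set G) := by
    apply Subgroup.commutator_le.mpr
    intro x hx y hy
    rw [Subgroup.mem_centralizer_iff]
    intro b hb
    exact (hB x hx y hy b hb).symm
  intro c hc b hb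
  exact (Subgroup.mem_centralizer_iff.mp (h hc) b hb).symm

theorem Ab.nilpotent (hA : Ab A) : Group.IsNilpotent A := by
  let _ : CommGroup A :=
    { (inferInstance : Group A) with
      mul_comm := fun a b => Subtype.ext (hA a a.2 b b.2) }
  exact CommGroup.isNilpotent

theorem Cl2.nilpotent (hB : Cl2 B) : Group.IsNilpotent B := by
  refine ⟨⟨2, ?_⟩⟩
  rw [eq_top_iff]
  intro x _
  rw [Subgroup.mem_upperCentralSeries_succ_iff]
  intro y
  rw [Subgroup.upperCentralSeries_one, Subgroup.mem_center_iff]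
  intro b
  apply Subtype.ext
  have := hB x x.2 y y.2 b b.2
  exact this.symm

theorem Ab.mono {A' : Subgroup G} (hA : Ab A) (h : A' ≤ A) : Ab A' :=
  fun x hx y hy => hA x (h hx) y (h hy)

theorem Cl2.mono {B' : Subgroup G} (hB : Cl2 B) (h : B' ≤ B) : Cl2 B' :=
  fun x hx y hy b hb => hB x (h hx) y (h hy) b (h hb)

theorem Ab.map {H : Type*} [Group H] (hA : Ab A) (f : G →* H) : Ab (A.map f) := by
  rintro _ ⟨x, hx, rfl⟩ _ ⟨y, hy, rfl⟩
  rw [← map_mul, ← map_mul, hA x hx y hy]

theorem Cl2.map {H : Type*} [Group H] (hB : Cl2 B) (f : G →* H) : Cl2 (B.map f) := by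
  rintro _ ⟨x, hx, rfl⟩ _ ⟨y, hy, rfl⟩ _ ⟨b, hb, rfl⟩
  rw [← map_commutatorElement, ← map_mul, ← map_mul, hB x hx y hy b hb]

theorem Ab.subgroupOf (hA : Ab A) (X : Subgroup G) : Ab (A.subgroupOf X) := by
  intro x hx y hy
  apply Subtype.ext
  exact hA x (Subgroup.mem_subgroupOf.mp hx) y (Subgroup.mem_subgroupOf.mp hy)

theorem Cl2.subgroupOf (hB : Cl2 B) (X : Subgroup G) : Cl2 (B.subgroupOf X) := by
  intro x hx y hy b hb
  apply Subtype.ext
  exact hB x (Subgroup.mem_subgroupOf.mp hx) y (Subgroup.mem_subgroupOf.mp hy) b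
    (Subgroup.mem_subgroupOf.mp hb)

theorem mem_center_of_sup {D : Subgroup G} (hgen : A ⊔ D = ⊤) {x : G}
    (hA : ∀ a ∈ A, a * x = x * a) (hD : ∀ d ∈ D, d * x = x * d) : x ∈ Subgroup.center G := by
  have h : Subgroup.centralizer ({x} : Set G) = ⊤ := by
    rw [eq_top_iff, ← hgen]
    apply sup_le
    · intro a ha; exact Subgroup.mem_centralizer_singleton_iff.mpr (hA a ha)
    · intro d hd; exact Subgroup.mem_centralizer_singleton_iff.mpr (hD d hd)
  rw [Subgroup.mem_center_iff]
  intro g
  have : g ∈ Subgroup.centralizer ({x} : Set G) := by rw [h]; trivial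
  exact Subgroup.mem_centralizer_singleton_iff.mp this

end

/-- the generation claim, by induction on the order -/
theorem claim_aux : ∀ (n : ℕ) (G : Type u) [Group G] [Finite G] (A B : Subgroup G),
    Nat.card G = n → Ab A → Cl2 B → (∀ g : G, ∃ a ∈ A, ∃ b ∈ B, g = a * b) →
    A ⊔ ⁅B, B⁆ = ⊤ → ⁅B, B⁆ = ⊥ := by
  intro n
  induction n using Nat.strong_induction_on with
  | _ n ih =>
  intro G _ _ A B hn hA hB hAB hgen
  by_contra hD
  have key : ∀ N : Subgroup G, N.Normal → N ≠ ⊥ → ⁅B, B⁆ ≤ N := by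
    intro N hN hN1
    haveI := hN
    have hlt := card_quotient_lt N hN1
    rw [hn] at hlt
    have h := ih _ hlt (G ⧸ N) (A.map (QuotientGroup.mk' N)) (B.map (QuotientGroup.mk' N)) rfl
      (hA.map _) (hB.map _)
      (by
        intro q
        induction q using QuotientGroup.induction_on with
        | H g =>
          obtain ⟨a, ha, b, hb, rfl⟩ := hAB g
          exact ⟨QuotientGroup.mk' N a, ⟨a, ha, rfl⟩, QuotientGroup.mk' N b, ⟨b, hb, rfl⟩, rfl⟩)
      (by
        rw [← Subgroup.map_commutator, ← Subgroup.map_sup, hgen,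
          Subgroup.map_top_of_surjective _ (QuotientGroup.mk'_surjective N)])
    rw [← Subgroup.map_commutator, Subgroup.map_eq_bot_iff, QuotientGroup.ker_mk'] at h
    exact h
  haveI : Group.IsSolvable G := nilpotent_prod_solvable A B hA.nilpotent hB.nilpotent hAB
  obtain ⟨⟨z, hz⟩, hz1⟩ := (Subgroup.ne_bot_iff_exists_ne_one).mp hD
  have hz1' : z ≠ 1 := fun h => hz1 (Subtype.ext h)
  haveI : Nontrivial G := ⟨⟨z, 1, hz1'⟩⟩
  obtain ⟨p, M, hp, hMn, hMc, hMp, hM1, -⟩ := exists_normal_abelian_pgroup (G := G)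
  haveI := hMn
  haveI := hMc
  have hDM : ⁅B, B⁆ ≤ M := key M hMn hM1
  have hAM : A ⊔ M = ⊤ := by
    rw [eq_top_iff, ← hgen]
    exact sup_le_sup_left hDM A
  have hzB : ∀ b ∈ B, z * b = b * z := hB.comm_mem z hz
  have hCM : Subgroup.centralizer ({z} : Set G) ≤ M := by
    intro g hg
    have hgm : g ∈ ((M ⊔ A : Subgroup G) : Set G) := by
      rw [sup_comm, hAM]; trivial
    rw [Subgroup.normal_mul] at hgm
    obtain ⟨m, hm, a, ha, rfl⟩ := Set.mem_mul.mp hgm
    have hmz : m * z = z * m := setLike_mul_comm (s := M) hm (hDM hz)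
    have haz : a * z = z * a := by
      have h1 : (m * a) * z = z * (m * a) := Subgroup.mem_centralizer_singleton_iff.mp hg
      have h2 : m * (a * z) = m * (z * a) := by
        rw [← mul_assoc, h1, ← mul_assoc, ← hmz, mul_assoc]
      exact mul_left_cancel h2
    have hCn : (M ⊓ Subgroup.centralizer ({a} : Set G)).Normal := by
      rw [← Subgroup.normalizer_eq_top_iff, eq_top_iff, ← hAM]
      apply sup_le
      · refine le_trans ?_ (normalizer_inf_le' _ _)
        apply le_inf
        · rw [Subgroup.normalizer_eq_top_iff.mpr hMn]; exact le_top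
        · intro x hx
          apply Subgroup.le_normalizer
          exact Subgroup.mem_centralizer_singleton_iff.mpr (hA x hx a ha)
      · refine le_trans ?_ (Subgroup.centralizer_le_normalizer _)
        intro m' hm'
        rw [Subgroup.mem_centralizer_iff]
        intro x hx
        exact setLike_mul_comm (s := M) (Subgroup.mem_inf.mp hx).1 hm'
    have hC1 : M ⊓ Subgroup.centralizer ({a} : Set G) ≠ ⊥ := by
      intro h0
      have : z ∈ M ⊓ Subgroup.centralizer ({a} : Set G) :=
        Subgroup.mem_inf.mpr ⟨hDM hz, Subgroup.mem_centralizer_singleton_iff.mpr haz.symm⟩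
      rw [h0, Subgroup.mem_bot] at this
      exact hz1' this
    have hDC := key _ hCn hC1
    have hac : a ∈ Subgroup.center G := by
      apply mem_center_of_sup hgen
      · intro a' ha'; exact hA a' ha' a ha
      · intro d hd
        exact Subgroup.mem_centralizer_singleton_iff.mp (Subgroup.mem_inf.mp (hDC hd)).2
    have ha1 : a = 1 := by
      by_contra ha1
      have hZ1 : Subgroup.center G ≠ ⊥ := by
        intro h0
        rw [h0, Subgroup.mem_bot] at hac
        exact ha1 hac
      have hDZ := key (Subgroup.center G) inferInstance hZ1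
      have hZtop : Subgroup.center G = ⊤ := by
        rw [eq_top_iff, ← hgen]
        apply sup_le _ hDZ
        intro a' ha'
        apply mem_center_of_sup hgen
        · intro a'' ha''; exact hA a'' ha'' a' ha'
        · intro d hd
          exact (Subgroup.mem_center_iff.mp (hDZ hd) a').symm
      apply hD
      rw [eq_bot_iff]
      apply Subgroup.commutator_le.mpr
      intro x _ y _
      rw [Subgroup.mem_bot, commutatorElement_eq_one_iff_mul_comm]
      have hy : y ∈ Subgroup.center G := by rw [hZtop]; trivial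
      exact Subgroup.mem_center_iff.mp hy x
    rw [ha1, mul_one]; exact hm
  apply hD
  rw [eq_bot_iff]
  apply Subgroup.commutator_le.mpr
  intro x hx y hy
  have hxM : x ∈ M := hCM (Subgroup.mem_centralizer_singleton_iff.mpr (hzB x hx).symm)
  have hyM : y ∈ M := hCM (Subgroup.mem_centralizer_singleton_iff.mpr (hzB y hy).symm)
  rw [Subgroup.mem_bot, commutatorElement_eq_one_iff_mul_comm]
  exact setLike_mul_comm (s := M) hxM hyM

theorem claim {G : Type u} [Group G] [Finite G] (A B : Subgroup G) (hA : Ab A) (hB : Cl2 B)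
    (hAB : ∀ g : G, ∃ a ∈ A, ∃ b ∈ B, g = a * b) (hgen : A ⊔ ⁅B, B⁆ = ⊤) : ⁅B, B⁆ = ⊥ :=
  claim_aux _ G A B rfl hA hB hAB hgen

end Cfsg.Agent.Lib.Helper2.AbCl2
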