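import Mathlib
import Cfsg.Agent.Lib.Helper2.AbCl2a
import Cfsg.Agent.S0572

set_option autoImplicit false

/-!
Products of an abelian subgroup and a subgroup of class at most two: the bound on the derived length.
-/

namespace Cfsg.Agent.Lib.Helper2.AbCl2

open scoped Pointwise commutatorElement

open Cfsg.Agent.Lib.Lead Cfsg.Agent.Lib.Helper2.KegW

universe u

theorem derivedSeries_add_le {G : Type*} [Group G] (X : Subgroup G) (n : ℕ)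
    (h : derivedSeries G n ≤ X) (k : ℕ) :
    derivedSeries G (n + k) ≤ (derivedSeries X k).map X.subtype := by
  induction k with
  | zero =>
    rw [add_zero, derivedSeries_zero, ← MonoidHom.range_eq_map, Subgroup.range_subtype]
    exact h
  | succ k ih =>
    rw [← add_assoc, derivedSeries_succ, derivedSeries_succ, Subgroup.map_commutator]
    exact Subgroup.commutator_mono ih ih

theorem omega_lt {m₁ m : ℕ} (hd : m₁ ∣ m) (hne : m₁ ≠ m) (hm : m ≠ 0) :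
    m₁.primeFactorsList.length < m.primeFactorsList.length := by
  obtain ⟨k, rfl⟩ := hd
  have hm1 : m₁ ≠ 0 := left_ne_zero_of_mul hm
  have hk : k ≠ 0 := right_ne_zero_of_mul hm
  have hk1 : k ≠ 1 := by
    rintro rfl
    exact hne (mul_one _).symm
  rw [(Nat.perm_primeFactorsList_mul hm1 hk).length_eq, List.length_append]
  have : 0 < k.primeFactorsList.length := by
    apply List.length_pos_of_ne_nil
    rw [Ne, Nat.primeFactorsList_eq_nil]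
    push Not
    exact ⟨hk, hk1⟩
  omega

/-- Itô's theorem in elementwise form -/
theorem ito {G : Type*} [Group G] (A B : Subgroup G) (hA : Ab A) (hB : Ab B)
    (hAB : ∀ g : G, ∃ a ∈ A, ∃ b ∈ B, g = a * b) : derivedSeries G 2 = ⊥ := by
  haveI : IsMulCommutative A := ⟨⟨fun a b => Subtype.ext (hA a a.2 b b.2)⟩⟩
  haveI : IsMulCommutative B := ⟨⟨fun a b => Subtype.ext (hB a a.2 b b.2)⟩⟩
  exact Cfsg.Agent.S0572.result A B hAB

theorem ab_of_commutator_eq_bot {G : Type*} [Group G] {B : Subgroup G} (h : ⁅B, B⁆ = ⊥) : Ab B := by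
  intro x hx y hy
  have h1 : ⁅x, y⁆ ∈ ⁅B, B⁆ := Subgroup.commutator_mem_commutator hx hy
  rw [h, Subgroup.mem_bot, commutatorElement_eq_one_iff_mul_comm] at h1
  exact h1

theorem main_aux : ∀ (m : ℕ) (G : Type u) [Group G] [Finite G] (A B : Subgroup G),
    Nat.card (⁅B, B⁆ : Subgroup G) = m → Ab A → Cl2 B →
    (∀ g : G, ∃ a ∈ A, ∃ b ∈ B, g = a * b) →
    derivedSeries G (2 * (1 + m.primeFactorsList.length)) = ⊥ := by
  intro m
  induction m using Nat.strong_induction_on with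
  | _ m ih =>
  intro G _ _ A B hm hA hB hAB
  by_cases hD : (⁅B, B⁆ : Subgroup G) = ⊥
  · have h1 := ito A B hA (ab_of_commutator_eq_bot hD) hAB
    rw [eq_bot_iff, ← h1]
    apply derivedSeries_antitone
    omega
  -- the subgroup generated by `A` and the derived subgroup of `B`
  have hKX : Subgroup.normalClosure ((⁅B, B⁆ : Subgroup G) : Set G) ≤ A ⊔ ⁅B, B⁆ := by
    unfold Subgroup.normalClosure
    rw [Subgroup.closure_le]
    intro y hy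
    rw [Group.mem_conjugatesOfSet_iff] at hy
    obtain ⟨d, hd, hc⟩ := hy
    rw [isConj_iff] at hc
    obtain ⟨g, rfl⟩ := hc
    obtain ⟨a, ha, b, hb, rfl⟩ := hAB g
    have h1 : b * d * b⁻¹ = d := by
      rw [← hB.comm_mem d hd b hb]; group
    have h2 : a * b * d * (a * b)⁻¹ = a * (b * d * b⁻¹) * a⁻¹ := by group
    rw [SetLike.mem_coe, h2, h1]
    exact mul_mem (mul_mem (Subgroup.mem_sup_left ha) (Subgroup.mem_sup_right hd))
      (inv_mem (Subgroup.mem_sup_left ha))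
  have hG2 : derivedSeries G 2 ≤ A ⊔ ⁅B, B⁆ := by
    refine le_trans ?_ hKX
    haveI : (Subgroup.normalClosure ((⁅B, B⁆ : Subgroup G) : Set G)).Normal :=
      Subgroup.normalClosure_normal
    have hBq : Ab (B.map (QuotientGroup.mk' (Subgroup.normalClosure ((⁅B, B⁆ : Subgroup G) : Set G)))) := by
      rintro _ ⟨x, hx, rfl⟩ _ ⟨y, hy, rfl⟩
      rw [← commutatorElement_eq_one_iff_mul_comm, ← map_commutatorElement]
      exact (QuotientGroup.eq_one_iff _).mpr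
        (Subgroup.le_normalClosure (Subgroup.commutator_mem_commutator hx hy))
    have h1 := ito (A.map (QuotientGroup.mk' (Subgroup.normalClosure ((⁅B, B⁆ : Subgroup G) : Set G))))
      (B.map (QuotientGroup.mk' (Subgroup.normalClosure ((⁅B, B⁆ : Subgroup G) : Set G))))
      (hA.map _) hBq
      (by
        intro q
        induction q using QuotientGroup.induction_on with
        | H g =>
          obtain ⟨a, ha, b, hb, rfl⟩ := hAB g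
          exact ⟨QuotientGroup.mk' _ a, ⟨a, ha, rfl⟩, QuotientGroup.mk' _ b, ⟨b, hb, rfl⟩, rfl⟩)
    have h2 := map_derivedSeries_le_derivedSeries
      (QuotientGroup.mk' (Subgroup.normalClosure ((⁅B, B⁆ : Subgroup G) : Set G))) 2
    rw [h1, le_bot_iff, Subgroup.map_eq_bot_iff, QuotientGroup.ker_mk'] at h2
    exact h2
  -- the factorisation of `X`
  have hprodX : ∀ x : (A ⊔ ⁅B, B⁆ : Subgroup G),
      ∃ a ∈ A.subgroupOf (A ⊔ ⁅B, B⁆), ∃ b ∈ (B ⊓ (A ⊔ ⁅B, B⁆)).subgroupOf (A ⊔ ⁅B, B⁆),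
        x = a * b := by
    rintro ⟨x, hx⟩
    obtain ⟨a, ha, b, hb, h1⟩ := hAB x
    have hbX : b ∈ A ⊔ ⁅B, B⁆ := by
      have : b = a⁻¹ * x := by rw [h1]; group
      rw [this]; exact mul_mem (inv_mem (Subgroup.mem_sup_left ha)) hx
    exact ⟨⟨a, Subgroup.mem_sup_left ha⟩, Subgroup.mem_subgroupOf.mpr ha, ⟨b, hbX⟩,
      Subgroup.mem_subgroupOf.mpr ⟨hb, hbX⟩, Subtype.ext h1⟩
  have hmapB : ((B ⊓ (A ⊔ ⁅B, B⁆)).subgroupOf (A ⊔ ⁅B, B⁆)).map (A ⊔ ⁅B, B⁆).subtype =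
      B ⊓ (A ⊔ ⁅B, B⁆) := map_subtype_subgroupOf_of_le inf_le_right
  have hmapA : (A.subgroupOf (A ⊔ ⁅B, B⁆)).map (A ⊔ ⁅B, B⁆).subtype = A :=
    map_subtype_subgroupOf_of_le le_sup_left
  have hmapD : (⁅(B ⊓ (A ⊔ ⁅B, B⁆)).subgroupOf (A ⊔ ⁅B, B⁆),
      (B ⊓ (A ⊔ ⁅B, B⁆)).subgroupOf (A ⊔ ⁅B, B⁆)⁆ : Subgroup (A ⊔ ⁅B, B⁆ : Subgroup G)).map
      (A ⊔ ⁅B, B⁆).subtype = ⁅B ⊓ (A ⊔ ⁅B, B⁆), B ⊓ (A ⊔ ⁅B, B⁆)⁆ := by
    rw [Subgroup.map_commutator, hmapB]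
  have hle : (⁅B ⊓ (A ⊔ ⁅B, B⁆), B ⊓ (A ⊔ ⁅B, B⁆)⁆ : Subgroup G) ≤ ⁅B, B⁆ :=
    Subgroup.commutator_mono inf_le_left inf_le_left
  have hne : (⁅B ⊓ (A ⊔ ⁅B, B⁆), B ⊓ (A ⊔ ⁅B, B⁆)⁆ : Subgroup G) ≠ ⁅B, B⁆ := by
    intro heq
    have hgen : A.subgroupOf (A ⊔ ⁅B, B⁆) ⊔ ⁅(B ⊓ (A ⊔ ⁅B, B⁆)).subgroupOf (A ⊔ ⁅B, B⁆),
        (B ⊓ (A ⊔ ⁅B, B⁆)).subgroupOf (A ⊔ ⁅B, B⁆)⁆ = ⊤ := by
      apply Subgroup.map_injective (Subgroup.subtype_injective (A ⊔ ⁅B, B⁆))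
      rw [Subgroup.map_sup, hmapA, hmapD, heq, ← MonoidHom.range_eq_map, Subgroup.range_subtype]
    have h1 := claim _ _ (hA.subgroupOf _) ((hB.mono inf_le_left).subgroupOf _) hprodX hgen
    rw [h1, Subgroup.map_bot] at hmapD
    exact hD (heq ▸ hmapD.symm)
  have hcard : Nat.card (⁅(B ⊓ (A ⊔ ⁅B, B⁆)).subgroupOf (A ⊔ ⁅B, B⁆),
      (B ⊓ (A ⊔ ⁅B, B⁆)).subgroupOf (A ⊔ ⁅B, B⁆)⁆ : Subgroup (A ⊔ ⁅B, B⁆ : Subgroup G)) =
      Nat.card (⁅B ⊓ (A ⊔ ⁅B, B⁆), B ⊓ (A ⊔ ⁅B, B⁆)⁆ : Subgroup G) := by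
    rw [← hmapD, Subgroup.card_map_of_injective (Subgroup.subtype_injective _)]
  have hdvd : Nat.card (⁅B ⊓ (A ⊔ ⁅B, B⁆), B ⊓ (A ⊔ ⁅B, B⁆)⁆ : Subgroup G) ∣ m := by
    rw [← hm]; exact Subgroup.card_dvd_of_le hle
  have hm0 : m ≠ 0 := by rw [← hm]; exact Nat.card_pos.ne'
  have hcne : Nat.card (⁅B ⊓ (A ⊔ ⁅B, B⁆), B ⊓ (A ⊔ ⁅B, B⁆)⁆ : Subgroup G) ≠ m := by
    intro h
    exact hne (Subgroup.eq_of_le_of_card_ge hle (by rw [h, hm]))
  have hlt : Nat.card (⁅B ⊓ (A ⊔ ⁅B, B⁆), B ⊓ (A ⊔ ⁅B, B⁆)⁆ : Subgroup G) < m :=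
    lt_of_le_of_ne (Nat.le_of_dvd (Nat.pos_of_ne_zero hm0) hdvd) hcne
  have hΩ := omega_lt hdvd hcne hm0
  have hX := ih _ hlt (A ⊔ ⁅B, B⁆ : Subgroup G) (A.subgroupOf (A ⊔ ⁅B, B⁆))
    ((B ⊓ (A ⊔ ⁅B, B⁆)).subgroupOf (A ⊔ ⁅B, B⁆)) hcard (hA.subgroupOf _)
    ((hB.mono inf_le_left).subgroupOf _) hprodX
  have h3 := derivedSeries_add_le (A ⊔ ⁅B, B⁆) 2 hG2
    (2 * (1 + (Nat.card (⁅B ⊓ (A ⊔ ⁅B, B⁆), B ⊓ (A ⊔ ⁅B, B⁆)⁆ : Subgroup G)).primeFactorsList.length))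
  rw [hX, Subgroup.map_bot] at h3
  rw [eq_bot_iff]
  refine le_trans (derivedSeries_antitone G ?_) h3
  omega

end Cfsg.Agent.Lib.Helper2.AbCl2
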