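import Mathlib
import Cfsg.Agent.Lib.Lead.Quad14
import Cfsg.Prelude.Def_PLocal

set_option autoImplicit false

universe u

namespace Cfsg.Agent.Lib.Helper2

namespace ActionPStable

open Cfsg Cfsg.Agent.Lib.Lead
open scoped commutatorElement

variable {p : ℕ} [Fact p.Prime] {G : Type u} [Group G]

/-- if `G` has no section `SL₂(p)` (`p` odd), the action on any normal `p`-subgroup is
`p`-stable -/
theorem isPStableOn_of_not_hasSL2Section [Finite G] (hp : p ≠ 2)
    (hns : ¬ Quad.HasSL2Section p G) (V : Subgroup G) [V.Normal] (hV : IsPGroup p ↥V) :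
    IsPStableOn p V := by
  intro a hq
  obtain ⟨N, hNn, haN, hNp⟩ := Quad.exists_normal_of_quadratic_pgroup hp hns (Nat.card ↥V) ↥V rfl hV
    (MulAut.conjNormal (H := V)) a (by
      intro v
      apply Subtype.ext
      have h1 := Quad.quad_of_commutator V a hq v v.2
      simp only [div_eq_mul_inv, Subgroup.coe_mul, Subgroup.coe_inv, MulAut.conjNormal_apply]
      exact h1)
  have hNbarn : (N.map (QuotientGroup.mk' (Subgroup.centralizer (V : Set G)))).Normal :=
    hNn.map _ (QuotientGroup.mk'_surjective _)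
  have hNbarp : IsPGroup p ↥(N.map (QuotientGroup.mk' (Subgroup.centralizer (V : Set G)))) := by
    rintro ⟨_, n, hn, rfl⟩
    obtain ⟨k, hk⟩ := hNp n hn
    refine ⟨k, ?_⟩
    apply Subtype.ext
    rw [Subgroup.coe_pow, Subgroup.coe_one]
    change (QuotientGroup.mk' (Subgroup.centralizer (V : Set G)) n) ^ p ^ k = 1
    rw [← map_pow, QuotientGroup.mk'_apply, QuotientGroup.eq_one_iff]
    intro v hv
    have h1 : (MulAut.conjNormal (H := V) n ^ p ^ k) ⟨v, hv⟩ = ⟨v, hv⟩ := by rw [hk]; rfl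
    rw [← map_pow] at h1
    have h2 := congrArg Subtype.val h1
    rw [MulAut.conjNormal_apply] at h2
    simp only at h2
    calc v * n ^ p ^ k = n ^ p ^ k * v * (n ^ p ^ k)⁻¹ * n ^ p ^ k := by rw [h2]
      _ = n ^ p ^ k * v := by group
  exact (le_sSup ⟨hNbarn, hNbarp⟩ : _ ≤ pCore p _) ⟨a, haN, rfl⟩

/-- if `G` has no section `SL₂(p)` (`p` odd), the action on any section `K / N` with `K` a normal
`p`-subgroup is `p`-stable -/
theorem isPStableOnSection_of_not_hasSL2Section [Finite G] (hp : p ≠ 2)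
    (hns : ¬ Quad.HasSL2Section p G) (K Nf : Subgroup G) [hKn : K.Normal] [Nf.Normal]
    (hK : IsPGroup p ↥K) : IsPStableOnSection p K Nf := by
  intro a hq
  set Vb : Subgroup (G ⧸ Nf) := K.map (QuotientGroup.mk' Nf) with hVb
  haveI hVbn : Vb.Normal := hKn.map _ (QuotientGroup.mk'_surjective Nf)
  have hVbp : IsPGroup p ↥Vb := hK.map _
  set φ : G →* MulAut ↥Vb := (MulAut.conjNormal (H := Vb)).comp (QuotientGroup.mk' Nf) with hφ
  have hφa : ∀ (g : G) (w : ↥Vb), ((φ g w : ↥Vb) : G ⧸ Nf) =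
      (QuotientGroup.mk g : G ⧸ Nf) * w * (QuotientGroup.mk g : G ⧸ Nf)⁻¹ := by
    intro g w
    rw [hφ, MonoidHom.comp_apply, MulAut.conjNormal_apply]
    rfl
  obtain ⟨N, hNn, haN, hNp⟩ := Quad.exists_normal_of_quadratic_pgroup hp hns (Nat.card ↥Vb) ↥Vb rfl
    hVbp φ a (by
      rintro ⟨_, v, hv, rfl⟩
      apply Subtype.ext
      rw [hφa]
      simp only [div_eq_mul_inv, Subgroup.coe_mul, Subgroup.coe_inv, hφa]
      simp only [QuotientGroup.mk'_apply, ← QuotientGroup.mk_inv, ← QuotientGroup.mk_mul]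
      rw [QuotientGroup.eq]
      -- `(a * c * a⁻¹)⁻¹ * c ∈ Nf`
      apply hq
      have hc : ⁅v, a⁆ ∈ ⁅K, Subgroup.zpowers a⁆ :=
        Subgroup.commutator_mem_commutator hv (Subgroup.mem_zpowers a)
      have h3 : ⁅⁅v, a⁆, a⁆ ∈ ⁅⁅K, Subgroup.zpowers a⁆, Subgroup.zpowers a⁆ :=
        Subgroup.commutator_mem_commutator hc (Subgroup.mem_zpowers a)
      have h4 := Subgroup.inv_mem _ h3
      convert h4 using 1
      simp only [commutatorElement_def]
      group)
  set C := sectionKernel K Nf with hC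
  haveI hCn : C.Normal := by
    rw [hC, sectionKernel]
    exact Subgroup.Normal.comap inferInstance _
  have hpow : ∀ n ∈ N, ∃ k : ℕ, n ^ p ^ k ∈ C := by
    intro n hn
    obtain ⟨k, hk⟩ := hNp n hn
    refine ⟨k, ?_⟩
    rw [hC, sectionKernel, Subgroup.mem_comap]
    intro w hw
    have h1 : (φ n ^ p ^ k) ⟨w, hw⟩ = ⟨w, hw⟩ := by rw [hk]; rfl
    rw [← map_pow] at h1
    have h2 := congrArg Subtype.val h1
    rw [hφa] at h2
    simp only [QuotientGroup.mk'_apply] at h2 ⊢
    calc w * (QuotientGroup.mk (n ^ p ^ k) : G ⧸ Nf)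
        = (QuotientGroup.mk (n ^ p ^ k) : G ⧸ Nf) * w * (QuotientGroup.mk (n ^ p ^ k) : G ⧸ Nf)⁻¹ *
          (QuotientGroup.mk (n ^ p ^ k) : G ⧸ Nf) := by rw [h2]
      _ = (QuotientGroup.mk (n ^ p ^ k) : G ⧸ Nf) * w := by group
  refine ⟨C ⊔ N, Subgroup.sup_normal C N, le_sup_left, ?_, le_sup_right (a := C) haN⟩
  rw [Subgroup.relIndex_sup_left, Subgroup.relIndex, Subgroup.index_eq_card]
  apply IsPGroup.exists_card_eq
  intro q
  induction q using QuotientGroup.induction_on with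
  | H n =>
    obtain ⟨k, hk⟩ := hpow n n.2
    refine ⟨k, ?_⟩
    rw [← QuotientGroup.mk_pow, QuotientGroup.eq_one_iff, Subgroup.mem_subgroupOf, Subgroup.coe_pow]
    exact hk

/-- a finite group without a section `SL₂(p)`, `p` odd, is `p`-stable in the action sense -/
theorem isActionPStable_of_not_hasSL2Section [Finite G] (hp : p ≠ 2)
    (hns : ¬ Quad.HasSL2Section p G) : IsActionPStable p G := by
  refine ⟨?_, ?_, ?_⟩
  · intro V _ hV
    apply isPStableOn_of_not_hasSL2Section hp hns V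
    intro v
    refine ⟨1, ?_⟩
    apply Subtype.ext
    rw [pow_one, Subgroup.coe_pow, Subgroup.coe_one]
    exact hV.2 v v.2
  · exact isPStableOnSection_of_not_hasSL2Section hp hns _ _
      (Sylow.sSup_of_normal _ (fun _ hH => hH.2) (fun _ hH => hH.1))
  · intro S V _ hV
    apply isPStableOn_of_not_hasSL2Section hp
      (fun h => hns (Quad.hasSL2Section_of_subgroup _ h)) V
    rintro ⟨v, hv⟩
    have h1 : ((v : ↥(Subgroup.normalizer (thompsonSubgroupOf p (S : Subgroup G) : Set G))) : G) ∈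
        (S : Subgroup G) := by
      have h2 := hV ⟨v, hv, rfl⟩
      obtain ⟨s, -, hs⟩ := h2
      have hs' : (s : G) = (v : G) := hs
      rw [← hs']
      exact s.2
    obtain ⟨k, hk⟩ := S.isPGroup' ⟨_, h1⟩
    refine ⟨k, ?_⟩
    apply Subtype.ext
    apply Subtype.ext
    have h3 := congrArg Subtype.val hk
    simpa using h3

end ActionPStable

end Cfsg.Agent.Lib.Helper2
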