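import Mathlib

/-!
# S3782 (Alperin), package B-mod: the Nakayama step in module form
-/

set_option autoImplicit false

namespace Cfsg.Agent.Lib.Helper2.Alp

theorem pow_dvd_choose_pow {p s k : ℕ} (hp : p.Prime) (hk0 : k ≠ 0) (hks : k ≤ p ^ s) :
    p ^ (s - multiplicity p k) ∣ (p ^ s).choose k := by
  apply pow_dvd_of_le_emultiplicity
  rw [hp.emultiplicity_choose_prime_pow hks hk0]

/-- (B-mod) the Nakayama step, module form. -/
theorem nakayama_mod {A : Type*} [AddCommGroup A] {p : ℕ} [Fact p.Prime] (M : AddSubgroup A)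
    (N B s : ℕ) (U : Set (AddMonoid.End A))
    (hA : ∀ a : A, p ^ N • a ∈ M) (hM : ∀ a ∈ M, p ^ N • a = 0)
    (hU1 : ∀ u ∈ U, ∀ a : A, ((u - 1) ^ B) a ∈ M)
    (hU2 : ∀ u ∈ U, ∀ a ∈ M, ((u - 1) ^ B) a = 0)
    (hgen : M ≤ AddSubgroup.closure {x | ∃ u ∈ U, ∃ a : A, x = (u ^ (p ^ s) - 1) a})
    (hs1 : 2 * B ≤ p ^ s) (hs2 : ∀ t, p ^ t < B → t + N + 1 ≤ s) : M = ⊥ := by
  have hp : p.Prime := Fact.out
  -- every term of the binomial expansion lies in `p • M`
  have hterm : ∀ u ∈ U, ∀ a : A, ∀ k, 1 ≤ k → k ≤ p ^ s →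
      ∃ m ∈ M, ((p ^ s).choose k) • ((u - 1) ^ k) a = p • m := by
    intro u hu a k hk1 hks
    by_cases h2 : 2 * B ≤ k
    · refine ⟨0, M.zero_mem, ?_⟩
      have e : k = B + (B + (k - 2 * B)) := by omega
      have h3 : ((u - 1) ^ k) a = ((u - 1) ^ B) (((u - 1) ^ B) (((u - 1) ^ (k - 2 * B)) a)) := by
        conv_lhs => rw [e, pow_add, pow_add]
        rfl
      rw [h3, hU2 u hu _ (hU1 u hu _)]
      simp
    · by_cases h1 : B ≤ k
      · have e : k = B + (k - B) := by omega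
        have h3 : ((u - 1) ^ k) a = ((u - 1) ^ B) (((u - 1) ^ (k - B)) a) := by
          conv_lhs => rw [e, pow_add]
          rfl
        have hmem : ((u - 1) ^ k) a ∈ M := by rw [h3]; exact hU1 u hu _
        have hdvd : p ∣ (p ^ s).choose k :=
          hp.dvd_choose_pow (by omega) (by omega)
        obtain ⟨c, hc⟩ := hdvd
        refine ⟨c • ((u - 1) ^ k) a, M.nsmul_mem hmem c, ?_⟩
        rw [hc, mul_smul]
      · -- `k < B`
        have hk0 : k ≠ 0 := by omega
        set t := multiplicity p k with ht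
        have hpt : p ^ t ∣ k := pow_multiplicity_dvd p k
        have hlt : p ^ t < B := lt_of_le_of_lt (Nat.le_of_dvd (by omega) hpt) (by omega)
        have hst := hs2 t hlt
        have hdvd : p ^ (N + 1) ∣ (p ^ s).choose k :=
          (pow_dvd_pow p (by omega)).trans (pow_dvd_choose_pow hp hk0 hks)
        obtain ⟨c, hc⟩ := hdvd
        refine ⟨c • (p ^ N • ((u - 1) ^ k) a), M.nsmul_mem (hA _) c, ?_⟩
        rw [hc, pow_succ, mul_comm (p ^ N) p, mul_assoc, mul_smul, mul_comm, mul_smul]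
  -- generators lie in `p • M`
  have hgenp : ∀ u ∈ U, ∀ a : A, ∃ m ∈ M, (u ^ (p ^ s) - 1) a = p • m := by
    intro u hu a
    have hexp : u ^ (p ^ s) - 1 =
        ∑ k ∈ Finset.Ico 1 (p ^ s + 1), ((p ^ s).choose k) • (u - 1) ^ k := by
      have h1 : u ^ (p ^ s) = ((u - 1) + 1) ^ (p ^ s) := by rw [sub_add_cancel]
      rw [h1, (Commute.one_right (u - 1)).add_pow, Finset.range_eq_Ico,
        Finset.sum_eq_sum_Ico_succ_bot (by omega)]
      simp only [pow_zero, one_pow, mul_one, Nat.choose_zero_right, Nat.cast_one, zero_add]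
      rw [add_sub_cancel_left]
      apply Finset.sum_congr rfl
      intro k _
      rw [nsmul_eq_mul]
      exact ((Nat.cast_commute _ _).eq).symm
    rw [hexp]
    have hsum : ∀ (S : Finset ℕ), (∀ k ∈ S, 1 ≤ k ∧ k ≤ p ^ s) →
        ∃ m ∈ M, (∑ k ∈ S, ((p ^ s).choose k) • (u - 1) ^ k) a = p • m := by
      intro S
      induction S using Finset.induction_on with
      | empty => intro _; exact ⟨0, M.zero_mem, by simp⟩
      | insert k S hk ih =>
        intro hS
        obtain ⟨m1, hm1, h1⟩ := ih (fun j hj => hS j (Finset.mem_insert_of_mem hj))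
        obtain ⟨hk1, hk2⟩ := hS k (Finset.mem_insert_self _ _)
        obtain ⟨m2, hm2, h2⟩ := hterm u hu a k hk1 hk2
        refine ⟨m2 + m1, M.add_mem hm2 hm1, ?_⟩
        rw [Finset.sum_insert hk]
        change ((p ^ s).choose k • (u - 1) ^ k) a + (∑ x ∈ S, (p ^ s).choose x • (u - 1) ^ x) a = _
        rw [h1, smul_add, ← h2]
        rfl
    apply hsum
    intro k hk
    rw [Finset.mem_Ico] at hk
    omega
  -- `M ≤ p • M`
  have hcl : ∀ x ∈ AddSubgroup.closure {x | ∃ u ∈ U, ∃ a : A, x = (u ^ (p ^ s) - 1) a},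
      ∃ m ∈ M, x = p • m := by
    intro x hx'
    induction hx' using AddSubgroup.closure_induction with
    | mem y hy =>
      obtain ⟨u, hu, a, rfl⟩ := hy
      exact hgenp u hu a
    | zero => exact ⟨0, M.zero_mem, by simp⟩
    | add y z _ _ ihy ihz =>
      obtain ⟨m1, hm1, rfl⟩ := ihy
      obtain ⟨m2, hm2, rfl⟩ := ihz
      exact ⟨m1 + m2, M.add_mem hm1 hm2, by rw [smul_add]⟩
    | neg y _ ihy =>
      obtain ⟨m1, hm1, rfl⟩ := ihy
      exact ⟨-m1, M.neg_mem hm1, by rw [smul_neg]⟩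
  have hMp : ∀ x ∈ M, ∃ m ∈ M, x = p • m := fun x hx => hcl x (hgen hx)
  have hMpj : ∀ j : ℕ, ∀ x ∈ M, ∃ m ∈ M, x = p ^ j • m := by
    intro j
    induction j with
    | zero => intro x hx; exact ⟨x, hx, by simp⟩
    | succ j ih =>
      intro x hx
      obtain ⟨m, hm, rfl⟩ := hMp x hx
      obtain ⟨m', hm', rfl⟩ := ih m hm
      exact ⟨m', hm', by rw [pow_succ, mul_comm, mul_smul]⟩
  rw [eq_bot_iff]
  intro x hx
  obtain ⟨m, hm, rfl⟩ := hMpj N x hx
  rw [AddSubgroup.mem_bot]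
  exact hM m hm

end Cfsg.Agent.Lib.Helper2.Alp
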