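import Mathlib

/-!
# S3782 (Alperin), package L1a: the convolution Lie ring `Cv n M` on families `ZMod n → M`

`⁅f, g⁆ k = ∑ a, ⁅f a, g (k - a)⁆`.  This is `M ⊗ ℤ[ZMod n]`, written by hand.
-/

set_option autoImplicit false

namespace Cfsg.Agent.Lib.Helper2.Alp

/-- families indexed by `ZMod n` (a one-field structure, so that no pointwise instances apply) -/
structure Cv (n : ℕ) (M : Type*) where
  /-- the underlying family -/
  toFun : ZMod n → M

namespace Cv

variable {n : ℕ} {M : Type*}

instance : CoeFun (Cv n M) (fun _ => ZMod n → M) := ⟨Cv.toFun⟩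

@[ext] theorem ext {f g : Cv n M} (h : ∀ k, f k = g k) : f = g := by
  cases f; cases g; congr; funext k; exact h k

/-- the evident equivalence with the function type -/
def equivFun : Cv n M ≃ (ZMod n → M) := ⟨Cv.toFun, Cv.mk, fun _ => rfl, fun _ => rfl⟩

instance [AddCommGroup M] : AddCommGroup (Cv n M) := equivFun.addCommGroup

@[simp] theorem mk_apply (g : ZMod n → M) (k : ZMod n) : (Cv.mk g : Cv n M) k = g k := rfl
@[simp] theorem add_apply [AddCommGroup M] (f g : Cv n M) (k : ZMod n) : (f + g) k = f k + g k := rfl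
@[simp] theorem zero_apply [AddCommGroup M] (k : ZMod n) : (0 : Cv n M) k = 0 := rfl
@[simp] theorem neg_apply [AddCommGroup M] (f : Cv n M) (k : ZMod n) : (-f) k = - f k := rfl
@[simp] theorem sub_apply [AddCommGroup M] (f g : Cv n M) (k : ZMod n) : (f - g) k = f k - g k := rfl

variable [NeZero n] [LieRing M]

instance : Bracket (Cv n M) (Cv n M) := ⟨fun f g => ⟨fun k => ∑ a : ZMod n, ⁅f a, g (k - a)⁆⟩⟩

theorem bracket_apply (f g : Cv n M) (k : ZMod n) : ⁅f, g⁆ k = ∑ a : ZMod n, ⁅f a, g (k - a)⁆ := rfl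

theorem bracket_apply' (f g : Cv n M) (k : ZMod n) :
    ⁅f, g⁆ k = ∑ b : ZMod n, ⁅f (k - b), g b⁆ := by
  rw [bracket_apply]
  exact Fintype.sum_equiv (Equiv.subLeft k) _ _ (fun a => by simp [Equiv.subLeft])

instance : LieRing (Cv n M) where
  add_lie f g h := by
    ext k
    simp only [bracket_apply, add_apply, add_lie, Finset.sum_add_distrib]
  lie_add f g h := by
    ext k
    simp only [bracket_apply, add_apply, lie_add, Finset.sum_add_distrib]
  lie_self f := by
    ext k
    rw [bracket_apply, zero_apply]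
    apply Finset.sum_involution (fun a _ => k - a)
    · intro a _
      rw [sub_sub_cancel, ← lie_skew (f a), neg_add_cancel]
    · intro a _ ha hfix
      apply ha
      have : k - a = a := hfix
      rw [this, lie_self]
    · intro a _
      exact Finset.mem_univ _
    · intro a _
      exact sub_sub_cancel k a
  leibniz_lie f g h := by
    ext k
    simp only [bracket_apply, add_apply, lie_sum, sum_lie]
    -- LHS: ∑ a, ∑ b, ⁅f a, ⁅g b, h (k - a - b)⁆⁆
    have e1 : ∑ c : ZMod n, ∑ a : ZMod n, ⁅⁅f a, g (c - a)⁆, h (k - c)⁆ =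
        ∑ a : ZMod n, ∑ b : ZMod n, ⁅⁅f a, g b⁆, h (k - a - b)⁆ := by
      rw [Finset.sum_comm]
      apply Finset.sum_congr rfl
      intro a _
      exact Fintype.sum_equiv (Equiv.subRight a) _ _
        (fun c => by simp [Equiv.subRight, sub_sub])
    have e2 : ∑ b : ZMod n, ∑ a : ZMod n, ⁅g b, ⁅f a, h (k - b - a)⁆⁆ =
        ∑ a : ZMod n, ∑ b : ZMod n, ⁅g b, ⁅f a, h (k - a - b)⁆⁆ := by
      rw [Finset.sum_comm]
      apply Finset.sum_congr rfl
      intro a _
      apply Finset.sum_congr rfl
      intro b _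
      rw [sub_right_comm]
    rw [e1, e2, ← Finset.sum_add_distrib]
    apply Finset.sum_congr rfl
    intro a _
    rw [← Finset.sum_add_distrib]
    apply Finset.sum_congr rfl
    intro b _
    exact leibniz_lie _ _ _

/-- the family concentrated in degree `k` -/
def single (k : ZMod n) (x : M) : Cv n M := ⟨fun j => if j = k then x else 0⟩

end Cv

end Cfsg.Agent.Lib.Helper2.Alp
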