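import Mathlib
import Cfsg.Agent.Lib.Helper7.HkkDefs

/-!
# S3782 (Alperin's theorem): shared definitions

* `xi p` : the Higman--Kreknin--Kostrikin bound, as in the landed S3779;
* `agemo p s P` : the subgroup of `P` generated by all `p^s`-th powers;
* `PGrading0 n L` : a `ZMod n`-grading of a Lie ring by projections (the zero component is
  NOT assumed to be trivial, in contrast with `Hkk.PGrading`).

Plan: `notes/S3782_plan_helper2.md`, skeleton: `notes/S3782_skeleton.lean.txt`.
-/

set_option autoImplicit false

namespace Cfsg.Agent.Lib.Helper2.Alp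

/-- the Higman--Kreknin--Kostrikin bound (as in the landed S3779) -/
def xi (p : ℕ) : ℕ := ∑ i ∈ Finset.range (2 ^ (p - 1) - 1), (p - 1) ^ i

/-- `℧_s(P)`: the subgroup generated by all `p^s`-th powers -/
def agemo (p s : ℕ) (P : Type*) [Group P] : Subgroup P :=
  Subgroup.closure {x | ∃ g : P, g ^ (p ^ s) = x}

/-- a `ZMod n`-grading by projections, zero component NOT assumed trivial -/
structure PGrading0 (n : ℕ) [NeZero n] (L : Type*) [LieRing L] where
  /-- the projection onto the component of residue `i` -/
  π : ZMod n → L →+ L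
  idem : ∀ i j x, π i (π j x) = if i = j then π j x else 0
  sum : ∀ x, ∑ i, π i x = x
  lie : ∀ i j x y, π (i + j) ⁅π i x, π j y⁆ = ⁅π i x, π j y⁆

end Cfsg.Agent.Lib.Helper2.Alp
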