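import Mathlib
import Cfsg.Agent.Lib.Helper7.HkkDefs
import Cfsg.Agent.Lib.Helper9.HkkP5
import Cfsg.Agent.Lib.Helper2.AlpDefs
import Cfsg.Agent.Lib.Helper2.AlpCv

/-!
# S3782 (Alperin), package L1: the graded Lie ring of eigen-families
-/

set_option autoImplicit false

namespace Cfsg.Agent.Lib.Helper2.Alp

open Cfsg.Agent.Lib.Helper7.Hkk Cfsg.Agent.Lib.Helper7.Hkk.BC5

universe u

namespace Cv

variable {n : ℕ} [NeZero n] {M : Type*} [LieRing M]

omit [NeZero n] in
theorem single_apply (k : ZMod n) (x : M) (j : ZMod n) :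
    single k x j = if j = k then x else 0 := rfl

theorem bracket_single (i j : ZMod n) (x y : M) :
    ⁅single i x, single j y⁆ = single (i + j) ⁅x, y⁆ := by
  ext l
  rw [bracket_apply, single_apply]
  rw [Finset.sum_eq_single i]
  · rw [single_apply, if_pos rfl, single_apply]
    by_cases h : l = i + j
    · rw [if_pos h, if_pos (by rw [h]; ring)]
    · rw [if_neg h, if_neg (fun h' => h (by rw [← h']; ring)), lie_zero]
  · intro a _ ha
    rw [single_apply, if_neg ha, zero_lie]
  · intro h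
    exact absurd (Finset.mem_univ _) h

theorem sum_single (f : Cv n M) : ∑ i : ZMod n, single i (f i) = f := by
  ext l
  have h : ∀ S : Finset (ZMod n), (∑ i ∈ S, single i (f i)) l = ∑ i ∈ S, single i (f i) l := by
    intro S
    induction S using Finset.induction_on with
    | empty => simp
    | insert a S ha ih => rw [Finset.sum_insert ha, Finset.sum_insert ha, add_apply, ih]
  rw [h]
  simp only [single_apply]
  simp

/-- the sum of all components -/
def sig : Cv n M →+ M where
  toFun f := ∑ k : ZMod n, f k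
  map_zero' := by simp
  map_add' f g := by
    simp only [add_apply]
    exact Finset.sum_add_distrib

theorem sig_apply (f : Cv n M) : sig f = ∑ k : ZMod n, f k := rfl

theorem sig_lie (f g : Cv n M) : sig ⁅f, g⁆ = ⁅sig f, sig g⁆ := by
  simp only [sig_apply, bracket_apply]
  rw [Finset.sum_comm, sum_lie]
  apply Finset.sum_congr rfl
  intro a _
  rw [lie_sum]
  exact Fintype.sum_equiv (Equiv.subRight a) _ _ (fun k => by simp [Equiv.subRight])

theorem sig_single (k : ZMod n) (x : M) : sig (single k x) = x := by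
  rw [sig_apply]
  simp only [single_apply]
  simp

end Cv

section

variable {p : ℕ} [Fact p.Prime] {A : Type*} [CommRing A] {M : Type u} [LieRing M]
  [LieAlgebra A M] (ω : A) (Φ : M →ₗ[A] M)

/-- the `k`-th eigen-subgroup: `ζ^k • Φ y = y` -/
def eigK (k : ZMod p) : AddSubgroup M where
  carrier := {y | zeta ω k • Φ y = y}
  add_mem' := by
    intro x y hx hy
    change zeta ω k • Φ (x + y) = x + y
    change zeta ω k • Φ x = x at hx
    change zeta ω k • Φ y = y at hy
    rw [map_add, smul_add, hx, hy]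
  zero_mem' := by
    change zeta ω k • Φ 0 = 0
    rw [map_zero, smul_zero]
  neg_mem' := by
    intro x hx
    change zeta ω k • Φ x = x at hx
    change zeta ω k • Φ (-x) = -x
    rw [map_neg, smul_neg, hx]

omit [Fact p.Prime] in
theorem mem_eigK (k : ZMod p) (y : M) : y ∈ eigK ω Φ k ↔ zeta ω k • Φ y = y := Iff.rfl

theorem lie_mem_eigK (hω1 : ω ^ p = 1) (hΦlie : ∀ x y, Φ ⁅x, y⁆ = ⁅Φ x, Φ y⁆) {a b : ZMod p}
    {x y : M} (hx : x ∈ eigK ω Φ a) (hy : y ∈ eigK ω Φ b) : ⁅x, y⁆ ∈ eigK ω Φ (a + b) := by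
  rw [mem_eigK] at hx hy ⊢
  rw [hΦlie, zeta_add ω hω1, mul_smul, ← lie_smul, ← smul_lie, hx, hy]

/-- the Lie subring of eigen-families -/
def eigSub (hω1 : ω ^ p = 1) (hΦlie : ∀ x y, Φ ⁅x, y⁆ = ⁅Φ x, Φ y⁆) :
    LieSubalgebra ℤ (Cv p M) where
  carrier := {f | ∀ k, f k ∈ eigK ω Φ k}
  add_mem' := by
    intro f g hf hg k
    exact add_mem (hf k) (hg k)
  zero_mem' := by
    intro k
    exact zero_mem _
  smul_mem' := by
    intro c f hf k
    exact (eigK ω Φ k).zsmul_mem (hf k) c
  lie_mem' := by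
    intro f g hf hg k
    rw [Cv.bracket_apply]
    apply sum_mem
    intro a _
    have := lie_mem_eigK ω Φ hω1 hΦlie (hf a) (hg (k - a))
    rwa [add_sub_cancel] at this

end

/-- (L1) the external direct sum of the eigen-subgroups of `Φ` as a graded Lie ring. -/
theorem exists_eigen_grading {p : ℕ} [Fact p.Prime] {A : Type*} [CommRing A] {M : Type u}
    [LieRing M] [LieAlgebra A M] (ω : A) (hω1 : ω ^ p = 1)
    (hω : ∑ i ∈ Finset.range p, ω ^ i = 0)
    (Φ : M →ₗ[A] M) (hΦlie : ∀ x y, Φ ⁅x, y⁆ = ⁅Φ x, Φ y⁆) (hΦp : ∀ x, Φ^[p] x = x) :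
    ∃ (E : Type u) (_ : LieRing E) (gr : PGrading0 p E) (σ : E →+ M),
      (∀ x y, σ ⁅x, y⁆ = ⁅σ x, σ y⁆) ∧
      (∀ z : M, ∃ f : E, σ f = p • z) ∧
      (∀ f : E, Φ (σ (gr.π 0 f)) = σ (gr.π 0 f)) ∧
      (∀ f : E, σ (gr.π 0 f) = 0 → gr.π 0 f = 0) := by
  classical
  have hΦp' : Φ ^ p = 1 := by
    ext x
    rw [Module.End.pow_apply, hΦp x]
    rfl
  let E := eigSub ω Φ hω1 hΦlie
  have hmemE : ∀ (f : Cv p M), f ∈ E ↔ ∀ k, f k ∈ eigK ω Φ k := fun f => Iff.rfl
  -- projections
  have hsingle : ∀ (k : ZMod p) (f : E), Cv.single k ((f : Cv p M) k) ∈ E := by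
    intro k f j
    rw [Cv.single_apply]
    split_ifs with h
    · rw [h]; exact f.2 k
    · exact zero_mem _
  let π : ZMod p → E →+ E := fun k =>
    { toFun := fun f => ⟨Cv.single k ((f : Cv p M) k), hsingle k f⟩
      map_zero' := by
        apply Subtype.ext
        ext j
        simp [Cv.single_apply]
      map_add' := by
        intro f g
        apply Subtype.ext
        ext j
        change Cv.single k (((f : Cv p M) + (g : Cv p M)) k) j =
          (Cv.single k ((f : Cv p M) k) + Cv.single k ((g : Cv p M) k)) j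
        rw [Cv.add_apply, Cv.add_apply, Cv.single_apply, Cv.single_apply, Cv.single_apply]
        split_ifs <;> simp }
  have hcoe_add : ∀ x y : E, ((x + y : E) : Cv p M) = (x : Cv p M) + (y : Cv p M) :=
    fun _ _ => rfl
  have hπ : ∀ k (f : E), ((π k f : E) : Cv p M) = Cv.single k ((f : Cv p M) k) := fun k f => rfl
  let σ : E →+ M := (Cv.sig (n := p) (M := M)).comp
    ((E : LieSubalgebra ℤ (Cv p M)).toSubmodule.subtype.toAddMonoidHom)
  have hσ : ∀ f : E, σ f = Cv.sig (f : Cv p M) := fun f => rfl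
  refine ⟨E, inferInstance,
    { π := π, idem := ?_, sum := ?_, lie := ?_ }, σ, ?_, ?_, ?_, ?_⟩
  · intro i j f
    apply Subtype.ext
    rw [hπ, hπ]
    by_cases hij : i = j
    · rw [if_pos hij, hπ, Cv.single_apply, if_pos hij, hij]
    · rw [if_neg hij, Cv.single_apply, if_neg hij]
      ext l
      simp [Cv.single_apply]
  · intro f
    apply Subtype.ext
    have h : ∀ S : Finset (ZMod p), ((∑ i ∈ S, π i f : E) : Cv p M) =
        ∑ i ∈ S, Cv.single i ((f : Cv p M) i) := by
      intro S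
      induction S using Finset.induction_on with
      | empty => simp
      | insert a S ha ih =>
        rw [Finset.sum_insert ha, Finset.sum_insert ha, hcoe_add, ih, hπ]
    rw [h, Cv.sum_single]
  · intro i j f g
    apply Subtype.ext
    rw [hπ, LieSubalgebra.coe_bracket, hπ, hπ, Cv.bracket_single, Cv.single_apply, if_pos rfl]
  · intro f g
    rw [hσ, hσ, hσ, LieSubalgebra.coe_bracket, Cv.sig_lie]
  · intro z
    have hf : (⟨fun k => P ω Φ 1 k z⟩ : Cv p M) ∈ E := by
      intro k
      rw [mem_eigK]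
      exact eigen_P ω hω1 Φ hΦp' 1 k z
    refine ⟨⟨_, hf⟩, ?_⟩
    rw [hσ, Cv.sig_apply]
    change ∑ k : ZMod p, P ω Φ 1 k z = p • z
    simp only [P_apply, one_smul]
    rw [Finset.sum_comm]
    have h1 : ∀ j : ZMod p, ∑ k : ZMod p, zeta ω (k * j) • (Φ ^ j.val) z =
        (if j = 0 then (p : A) else 0) • (Φ ^ j.val) z := by
      intro j
      rw [← Finset.sum_smul, ← sum_zeta_mul ω hω j]
      congr 1
      exact Finset.sum_congr rfl (fun k _ => by rw [mul_comm])
    rw [Finset.sum_congr rfl (fun j _ => h1 j)]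
    simp only [ite_smul, zero_smul, Finset.sum_ite_eq', Finset.mem_univ, if_true, ZMod.val_zero,
      pow_zero, Module.End.one_apply]
    rw [Nat.cast_smul_eq_nsmul]
  · intro f
    rw [hσ, hπ, Cv.sig_single]
    have := f.2 0
    rw [mem_eigK, zeta_zero, one_smul] at this
    exact this
  · intro f hf
    rw [hσ, hπ, Cv.sig_single] at hf
    apply Subtype.ext
    rw [hπ, hf]
    ext l
    simp [Cv.single_apply]

end Cfsg.Agent.Lib.Helper2.Alp
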