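import Mathlib
import Cfsg.Agent.Lib.Helper7.HkkDefs
import Cfsg.Agent.Lib.Helper7.HkkK
import Cfsg.Agent.Lib.Helper7.HkkGlue
import Cfsg.Agent.Lib.Helper5.HkkP2
import Cfsg.Agent.Lib.Helper2.AlpDefs

/-!
# S3782 (Alperin), package L2: a graded Lie ring whose zero component is killed by `e`
-/

set_option autoImplicit false

namespace Cfsg.Agent.Lib.Helper2.Alp

open Cfsg.Agent.Lib.Helper7.Hkk

section

variable {p : ℕ} [Fact p.Prime] {L : Type*} [LieRing L] (gr : PGrading0 p L)

/-- the Lie ideal generated by the zero component -/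
noncomputable def zeroIdeal : LieIdeal ℤ L := LieSubmodule.lieSpan ℤ L (Set.range (gr.π 0))

theorem pi_mem_zeroIdeal (x : L) : gr.π 0 x ∈ zeroIdeal gr :=
  LieSubmodule.subset_lieSpan ⟨x, rfl⟩

/-- a homogeneous element: `π k` of it is itself or zero -/
theorem pi_hom {a : ZMod p} {z : L} (hz : gr.π a z = z) (k : ZMod p) :
    gr.π k z = if k = a then z else 0 := by
  have := gr.idem k a z
  rw [hz] at this
  exact this

theorem pi_lie_hom (a b : ZMod p) (x y : L) (k : ZMod p) :
    gr.π k ⁅gr.π a x, gr.π b y⁆ = if k = a + b then ⁅gr.π a x, gr.π b y⁆ else 0 :=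
  pi_hom gr (gr.lie a b x y) k

theorem lie_expand (x y : L) :
    ⁅x, y⁆ = ∑ a : ZMod p, ∑ b : ZMod p, ⁅gr.π a x, gr.π b y⁆ := by
  conv_lhs => rw [← gr.sum x, ← gr.sum y]
  rw [sum_lie]
  apply Finset.sum_congr rfl
  intro a _
  rw [lie_sum]

/-- the homogeneous hull condition defines a Lie ideal -/
noncomputable def homIdeal : LieIdeal ℤ L where
  carrier := {x | ∀ k, gr.π k x ∈ zeroIdeal gr}
  add_mem' := by
    intro x y hx hy k
    rw [map_add]
    exact add_mem (hx k) (hy k)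
  zero_mem' := by
    intro k
    rw [map_zero]
    exact zero_mem _
  smul_mem' := by
    intro c x hx k
    rw [map_zsmul]
    exact (zeroIdeal gr).smul_mem c (hx k)
  lie_mem := by
    intro y x hx k
    change ∀ k, gr.π k x ∈ zeroIdeal gr at hx
    rw [lie_expand gr y x, map_sum]
    apply sum_mem
    intro a _
    rw [map_sum]
    apply sum_mem
    intro b _
    rw [pi_lie_hom]
    split_ifs
    · exact lie_mem_right ℤ L (zeroIdeal gr) _ _ (hx b)
    · exact zero_mem _

theorem zeroIdeal_le_homIdeal : zeroIdeal gr ≤ homIdeal gr := by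
  rw [zeroIdeal, LieSubmodule.lieSpan_le]
  rintro _ ⟨x, rfl⟩ k
  rw [gr.idem]
  split_ifs
  · exact pi_mem_zeroIdeal gr x
  · exact zero_mem _

theorem pi_mem_of_mem {x : L} (hx : x ∈ zeroIdeal gr) (k : ZMod p) : gr.π k x ∈ zeroIdeal gr :=
  zeroIdeal_le_homIdeal gr hx k

/-- elements killed by `e` form a Lie ideal -/
def torsIdeal (e : ℕ) : LieIdeal ℤ L where
  carrier := {x | e • x = 0}
  add_mem' := by
    intro x y hx hy
    change e • x = 0 at hx
    change e • y = 0 at hy
    change e • (x + y) = 0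
    rw [smul_add, hx, hy, add_zero]
  zero_mem' := by simp
  smul_mem' := by
    intro c x hx
    change e • x = 0 at hx
    change e • (c • x) = 0
    rw [smul_comm, hx, smul_zero]
  lie_mem := by
    intro y x hx
    change e • x = 0 at hx
    change e • ⁅y, x⁆ = 0
    rw [← lie_nsmul, hx, lie_zero]

theorem zeroIdeal_tors (e : ℕ) (h0 : ∀ x, e • gr.π 0 x = 0) {x : L} (hx : x ∈ zeroIdeal gr) :
    e • x = 0 := by
  have h : zeroIdeal gr ≤ torsIdeal (L := L) e := by
    rw [zeroIdeal, LieSubmodule.lieSpan_le]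
    rintro _ ⟨x, rfl⟩
    exact h0 x
  exact h hx

/-- the induced projections on the quotient -/
noncomputable def qπ (k : ZMod p) : (L ⧸ zeroIdeal gr) →+ (L ⧸ zeroIdeal gr) :=
  ((zeroIdeal gr).toSubmodule.mapQ (zeroIdeal gr).toSubmodule (gr.π k).toIntLinearMap
    (fun _ hx => pi_mem_of_mem gr hx k)).toAddMonoidHom

theorem qπ_mk (k : ZMod p) (x : L) :
    qπ gr k (LieSubmodule.Quotient.mk x) = LieSubmodule.Quotient.mk (gr.π k x) := rfl

theorem mk_surj (q : L ⧸ zeroIdeal gr) : ∃ x : L, LieSubmodule.Quotient.mk x = q :=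
  Submodule.Quotient.mk_surjective _ q

/-- the grading of the quotient, with trivial zero component -/
noncomputable def quotGrading : PGrading p (L ⧸ zeroIdeal gr) where
  π := qπ gr
  idem := by
    intro i j q
    obtain ⟨x, rfl⟩ := mk_surj gr q
    rw [qπ_mk, qπ_mk, gr.idem]
    split_ifs
    · rfl
    · rfl
  sum := by
    intro q
    obtain ⟨x, rfl⟩ := mk_surj gr q
    simp only [qπ_mk]
    have h : ∀ S : Finset (ZMod p), ∑ i ∈ S, (LieSubmodule.Quotient.mk (gr.π i x) : L ⧸ zeroIdeal gr) =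
        LieSubmodule.Quotient.mk (∑ i ∈ S, gr.π i x) := by
      intro S
      induction S using Finset.induction_on with
      | empty => simp
      | insert a S ha ih => rw [Finset.sum_insert ha, Finset.sum_insert ha, ih]; rfl
    rw [h, gr.sum]
  zero := by
    intro q
    obtain ⟨x, rfl⟩ := mk_surj gr q
    rw [qπ_mk]
    exact (LieSubmodule.Quotient.mk_eq_zero' (N := zeroIdeal gr)).2 (pi_mem_zeroIdeal gr x)
  lie := by
    intro i j q r
    obtain ⟨x, rfl⟩ := mk_surj gr q
    obtain ⟨y, rfl⟩ := mk_surj gr r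
    rw [qπ_mk, qπ_mk, ← LieSubmodule.Quotient.mk_bracket, qπ_mk, gr.lie]

end

/-- (L2) graded Lie ring whose zero component is killed by `e`: `γ_{ξ+1}` is killed by `e`. -/
theorem grading0_torsion {p : ℕ} [Fact p.Prime] {L : Type*} [LieRing L] (gr : PGrading0 p L)
    (e : ℕ) (h0 : ∀ x, e • gr.π 0 x = 0) :
    ∀ y ∈ lcs (⊤ : AddSubgroup L) (xi p), e • y = 0 := by
  intro y hy
  have hQ : lcs (⊤ : AddSubgroup (L ⧸ zeroIdeal gr)) (xi p) = ⊥ :=
    higman (quotGrading gr) _ (kreknin (quotGrading gr))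
  let ι : L →+ (L ⧸ zeroIdeal gr) :=
    ((zeroIdeal gr).toSubmodule.mkQ).toAddMonoidHom
  have hι : ∀ x y, ι ⁅x, y⁆ = ⁅ι x, ι y⁆ := fun x y => rfl
  have h1 := Glue.map_lcs_le ι hι (xi p)
  rw [hQ, le_bot_iff] at h1
  have h2 : ι y = 0 := by
    have : ι y ∈ (lcs (⊤ : AddSubgroup L) (xi p)).map ι := ⟨y, hy, rfl⟩
    rw [h1] at this
    exact this
  have h3 : y ∈ zeroIdeal gr := (LieSubmodule.Quotient.mk_eq_zero' (N := zeroIdeal gr)).1 h2
  exact zeroIdeal_tors gr e h0 h3

end Cfsg.Agent.Lib.Helper2.Alp
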