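import Mathlib
import Cfsg.Agent.Lib.Helper7.HkkDefs

set_option autoImplicit false

/-!
# S3779 (Higman–Kreknin–Kostrikin), package P4a: base change of a Lie ring to `ℤ[ω]`

`A p = AdjoinRoot (cyclotomic p ℤ)`, `L' = A p ⊗[ℤ] L` (`LieAlgebra.ExtendScalars`), `Φ = 1 ⊗ φ`,
`ι x = 1 ⊗ x`.  All lemmas needed to feed package P5 (`grading_of_eigen`).
-/

namespace Cfsg.Agent.Lib.Helper7.Hkk

open scoped TensorProduct
open Polynomial

universe u

namespace BC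

/-- the coefficient ring `ℤ[ω]` -/
abbrev A (p : ℕ) : Type := AdjoinRoot (cyclotomic p ℤ)

/-- the primitive root -/
noncomputable abbrev ω (p : ℕ) : A p := AdjoinRoot.root (cyclotomic p ℤ)

theorem sum_ω (p : ℕ) [hp : Fact p.Prime] : ∑ i ∈ Finset.range p, (ω p) ^ i = 0 := by
  have e := cyclotomic_prime ℤ p
  calc ∑ i ∈ Finset.range p, (ω p) ^ i
      = AdjoinRoot.mk (cyclotomic p ℤ) (∑ i ∈ Finset.range p, X ^ i) := by
        simp [map_sum, map_pow, AdjoinRoot.mk_X]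
    _ = AdjoinRoot.mk (cyclotomic p ℤ) (cyclotomic p ℤ) := by rw [← e]
    _ = 0 := AdjoinRoot.mk_self

theorem ω_pow (p : ℕ) [hp : Fact p.Prime] : (ω p) ^ p = 1 := by
  have h := geom_sum_mul (ω p) p
  rw [sum_ω p, zero_mul] at h
  exact (sub_eq_zero.1 h.symm)


section

variable {p : ℕ} {L : Type u} [LieRing L]

/-- the base change of an additive endomorphism -/
noncomputable def Φ (p : ℕ) (φ : L →+ L) : A p ⊗[ℤ] L →ₗ[A p] A p ⊗[ℤ] L :=
  LinearMap.baseChange (A p) φ.toIntLinearMap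

@[simp]
theorem Φ_tmul (φ : L →+ L) (a : A p) (x : L) : Φ p φ (a ⊗ₜ[ℤ] x) = a ⊗ₜ[ℤ] φ x := by
  simp [Φ]

/-- an additive map respecting brackets of generators respects all brackets -/
theorem lie_hom_of_closure {L' : Type*} [LieRing L'] (Ψ : L' →+ L') (P : L' → Prop)
    (hgen : ∀ z : L', z ∈ AddSubgroup.closure {z | P z})
    (h : ∀ x y, P x → P y → Ψ ⁅x, y⁆ = ⁅Ψ x, Ψ y⁆) : ∀ x y, Ψ ⁅x, y⁆ = ⁅Ψ x, Ψ y⁆ := by
  intro x y
  have hx := hgen x
  induction hx using AddSubgroup.closure_induction with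
  | mem x hx =>
    have hy := hgen y
    induction hy using AddSubgroup.closure_induction with
    | mem y hy => exact h x y hx hy
    | zero => rw [lie_zero, map_zero, lie_zero]
    | add y1 y2 _ _ h1 h2 => rw [lie_add, map_add, map_add, lie_add, h1, h2]
    | neg y1 _ h1 => rw [lie_neg, map_neg, map_neg, lie_neg, h1]
  | zero => rw [zero_lie, map_zero, zero_lie]
  | add x1 x2 _ _ h1 h2 => rw [add_lie, map_add, map_add, add_lie, h1, h2]
  | neg x1 _ h1 => rw [neg_lie, map_neg, map_neg, neg_lie, h1]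

theorem mem_closure_tmul (z : A p ⊗[ℤ] L) :
    z ∈ AddSubgroup.closure {z : A p ⊗[ℤ] L | ∃ a x, a ⊗ₜ[ℤ] x = z} := by
  induction z using TensorProduct.induction_on with
  | zero => exact zero_mem _
  | tmul a x => exact AddSubgroup.subset_closure ⟨a, x, rfl⟩
  | add z1 z2 h1 h2 => exact add_mem h1 h2

theorem Φ_lie (φ : L →+ L) (hφlie : ∀ x y, φ ⁅x, y⁆ = ⁅φ x, φ y⁆) (x y : A p ⊗[ℤ] L) :
    Φ p φ ⁅x, y⁆ = ⁅Φ p φ x, Φ p φ y⁆ := by
  refine lie_hom_of_closure (Φ p φ).toAddMonoidHom (fun z => ∃ a x, a ⊗ₜ[ℤ] x = z)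
    mem_closure_tmul ?_ x y
  rintro _ _ ⟨a, x, rfl⟩ ⟨b, y, rfl⟩
  show Φ p φ ⁅a ⊗ₜ[ℤ] x, b ⊗ₜ[ℤ] y⁆ = ⁅Φ p φ (a ⊗ₜ[ℤ] x), Φ p φ (b ⊗ₜ[ℤ] y)⁆
  rw [Φ_tmul, Φ_tmul]
  refine Eq.trans (congrArg (Φ p φ) (LieAlgebra.ExtendScalars.bracket_tmul ℤ (A p) L L a b x y)) ?_
  rw [Φ_tmul, hφlie]
  exact (LieAlgebra.ExtendScalars.bracket_tmul ℤ (A p) L L a b (φ x) (φ y)).symm

theorem Φ_iter_tmul (φ : L →+ L) (j : ℕ) (a : A p) (x : L) :
    (Φ p φ)^[j] (a ⊗ₜ[ℤ] x) = a ⊗ₜ[ℤ] (φ^[j] x) := by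
  induction j generalizing x with
  | zero => rfl
  | succ j ih => rw [Function.iterate_succ_apply, Function.iterate_succ_apply, Φ_tmul, ih]

theorem Φ_iter (φ : L →+ L) (hφp : ∀ x, φ^[p] x = x) (z : A p ⊗[ℤ] L) : (Φ p φ)^[p] z = z := by
  induction z using TensorProduct.induction_on with
  | zero => exact iterate_map_zero _ _
  | tmul a x => rw [Φ_iter_tmul, hφp]
  | add z1 z2 h1 h2 => rw [iterate_map_add, h1, h2]

/-- the norm of `φ` vanishes -/
theorem norm_φ (φ : L →+ L) (hφp : ∀ x, φ^[p] x = x) (hfix : ∀ x, φ x = x → x = 0) (x : L) :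
    ∑ j ∈ Finset.range p, φ^[j] x = 0 := by
  apply hfix
  rw [map_sum]
  have h1 : ∀ j, φ (φ^[j] x) = φ^[j + 1] x := fun j => (Function.iterate_succ_apply' φ j x).symm
  simp only [h1]
  have h2 := Finset.sum_range_succ (fun j => φ^[j] x) p
  have h3 := Finset.sum_range_succ' (fun j => φ^[j] x) p
  rw [h2] at h3
  simp only [hφp, Function.iterate_zero, id_eq] at h3
  exact (add_right_cancel h3).symm


/-- the norm of `Φ` vanishes -/
theorem norm_Φ (φ : L →+ L) (hφp : ∀ x, φ^[p] x = x) (hfix : ∀ x, φ x = x → x = 0)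
    (z : A p ⊗[ℤ] L) : ∑ j ∈ Finset.range p, (Φ p φ)^[j] z = 0 := by
  induction z using TensorProduct.induction_on with
  | zero => simp [iterate_map_zero]
  | tmul a x =>
    simp only [Φ_iter_tmul]
    rw [← TensorProduct.tmul_sum, norm_φ φ hφp hfix, TensorProduct.tmul_zero]
  | add z1 z2 h1 h2 =>
    simp only [iterate_map_add]
    rw [Finset.sum_add_distrib, h1, h2, add_zero]

/-- exponent of the base change -/
theorem exp_tensor (m : ℕ) (hm : ∀ x : L, m • x = 0) (z : A p ⊗[ℤ] L) : m • z = 0 := by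
  induction z using TensorProduct.induction_on with
  | zero => simp
  | tmul a x =>
    have : m • (a ⊗ₜ[ℤ] x) = a ⊗ₜ[ℤ] (m • x) := by
      rw [← natCast_zsmul, ← natCast_zsmul, TensorProduct.tmul_smul]
    rw [this, hm, TensorProduct.tmul_zero]
  | add z1 z2 h1 h2 => rw [smul_add, h1, h2, add_zero]

theorem exists_inv [hp : Fact p.Prime] (m : ℕ) (hcop : Nat.Coprime m p) :
    ∃ u k : ℕ, u * p = 1 + m * k := by
  rcases Nat.lt_or_ge 1 m with h | h
  · obtain ⟨u, -, hu⟩ := Nat.exists_mul_mod_eq_one_of_coprime hcop.symm h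
    refine ⟨u, p * u / m, ?_⟩
    have := Nat.div_add_mod (p * u) m
    rw [hu] at this
    rw [mul_comm u p]; omega
  · have hp1 : 1 ≤ p := hp.out.one_lt.le
    interval_cases m
    · simp at hcop
      exact absurd hcop hp.out.ne_one
    · exact ⟨1, p - 1, by omega⟩

theorem Φ_fix (φ : L →+ L) (hφp : ∀ x, φ^[p] x = x)
    (hfix : ∀ x, φ x = x → x = 0) (u : ℕ) (hu : ∀ z : A p ⊗[ℤ] L, (u * p) • z = z)
    (z : A p ⊗[ℤ] L) (hz : Φ p φ z = z) : z = 0 := by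
  have h1 : ∀ j : ℕ, (Φ p φ)^[j] z = z := fun j => Function.iterate_fixed hz j
  have h2 := norm_Φ φ hφp hfix z
  simp only [h1, Finset.sum_const, Finset.card_range] at h2
  rw [← hu z, mul_smul, h2, smul_zero]

/-- the embedding `x ↦ 1 ⊗ x` -/
noncomputable def ι (p : ℕ) (L : Type u) [LieRing L] : L →+ A p ⊗[ℤ] L :=
  (TensorProduct.mk ℤ (A p) L 1).toAddMonoidHom

@[simp] theorem ι_apply (x : L) : ι p L x = (1 : A p) ⊗ₜ[ℤ] x := rfl

theorem ι_lie (x y : L) :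
    ι p L ⁅x, y⁆ = ⁅ι p L x, ι p L y⁆ := by
  refine Eq.trans ?_ (LieAlgebra.ExtendScalars.bracket_tmul ℤ (A p) L L 1 1 x y).symm
  rw [one_mul]; rfl

/-- a `ℤ`-linear retraction of `ℤ → ℤ[ω]` -/
theorem exists_tau [hp : Fact p.Prime] : ∃ τ : A p →ₗ[ℤ] ℤ, τ 1 = 1 := by
  have hmonic : (cyclotomic p ℤ).Monic := cyclotomic.monic p ℤ
  set pb := AdjoinRoot.powerBasis' hmonic with hpb
  have hdim : 0 < pb.dim := by
    rw [hpb, AdjoinRoot.powerBasis'_dim, natDegree_cyclotomic, Nat.totient_prime hp.out]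
    have := hp.out.two_le
    omega
  refine ⟨pb.basis.coord ⟨0, hdim⟩, ?_⟩
  have h1 : (1 : A p) = pb.basis ⟨0, hdim⟩ := by
    rw [PowerBasis.basis_eq_pow]; simp
  rw [h1, Module.Basis.coord_apply, Module.Basis.repr_self, Finsupp.single_eq_same]

theorem ι_injective [hp : Fact p.Prime] : Function.Injective (ι p L) := by
  obtain ⟨τ, hτ⟩ := exists_tau (p := p)
  set σ : A p ⊗[ℤ] L →ₗ[ℤ] L := (TensorProduct.lid ℤ L).toLinearMap ∘ₗ (LinearMap.rTensor L τ)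
  have hσ : ∀ x : L, σ (ι p L x) = x := by
    intro x
    show (TensorProduct.lid ℤ L) ((LinearMap.rTensor L τ) ((1 : A p) ⊗ₜ[ℤ] x)) = x
    rw [LinearMap.rTensor_tmul, hτ, TensorProduct.lid_tmul, one_smul]
  intro x y hxy
  rw [← hσ x, ← hσ y, hxy]

end

end BC

end Cfsg.Agent.Lib.Helper7.Hkk
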