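import Mathlib
import Cfsg.Agent.Lib.Helper7.HkkDefs
import Cfsg.Agent.Lib.Helper7.HkkGlue
import Cfsg.Agent.Lib.Helper2.HkkP4a
import Cfsg.Agent.Lib.Helper2.AlpDefs
import Cfsg.Agent.Lib.Helper2.AlpL1
import Cfsg.Agent.Lib.Helper2.AlpL2

/-!
# S3782 (Alperin), package L3: almost regular automorphism of prime order of a Lie ring
-/

set_option autoImplicit false

namespace Cfsg.Agent.Lib.Helper2.Alp

open Cfsg.Agent.Lib.Helper7.Hkk
open scoped TensorProduct

universe u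

/-- (L3) **almost regular automorphism of prime order of a Lie ring**. -/
theorem lie_almost_regular {p : ℕ} [Fact p.Prime] {L : Type u} [LieRing L] (φ : L →+ L)
    (hφlie : ∀ x y, φ ⁅x, y⁆ = ⁅φ x, φ y⁆) (hφp : ∀ x, φ^[p] x = x)
    (e : ℕ) (hfix : ∀ x, φ x = x → e • x = 0) :
    ∀ x ∈ lcs (⊤ : AddSubgroup L) (xi p), (e * p ^ (xi p + 2)) • x = 0 := by
  intro x hx
  letI : LieRing (BC.A p ⊗[ℤ] L) := LieAlgebra.ExtendScalars.instLieRing ℤ (BC.A p) L
  -- the norm of `φ` is killed by `e`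
  have hNφ : ∀ y : L, e • ∑ j ∈ Finset.range p, φ^[j] y = 0 := by
    intro y
    apply hfix
    rw [map_sum]
    have h1 : ∀ j, φ (φ^[j] y) = φ^[j + 1] y := fun j => (Function.iterate_succ_apply' φ j y).symm
    simp only [h1]
    have h2 := Finset.sum_range_succ (fun j => φ^[j] y) p
    have h3 := Finset.sum_range_succ' (fun j => φ^[j] y) p
    rw [h2] at h3
    simp only [hφp, Function.iterate_zero, id_eq] at h3
    exact (add_right_cancel h3).symm
  have hNΦ : ∀ z : BC.A p ⊗[ℤ] L, e • ∑ j ∈ Finset.range p, (BC.Φ p φ)^[j] z = 0 := by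
    intro z
    induction z using TensorProduct.induction_on with
    | zero => simp [iterate_map_zero]
    | tmul a y =>
      simp only [BC.Φ_iter_tmul]
      rw [← TensorProduct.tmul_sum]
      have : e • (a ⊗ₜ[ℤ] (∑ j ∈ Finset.range p, φ^[j] y)) =
          a ⊗ₜ[ℤ] (e • ∑ j ∈ Finset.range p, φ^[j] y) := by
        rw [← natCast_zsmul, ← natCast_zsmul, TensorProduct.tmul_smul]
      rw [this, hNφ, TensorProduct.tmul_zero]
    | add z1 z2 h1 h2 =>
      simp only [iterate_map_add]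
      rw [Finset.sum_add_distrib, smul_add, h1, h2, add_zero]
  have hfixM : ∀ z : BC.A p ⊗[ℤ] L, BC.Φ p φ z = z → (e * p) • z = 0 := by
    intro z hz
    have h1 : ∀ j : ℕ, (BC.Φ p φ)^[j] z = z := fun j => Function.iterate_fixed hz j
    have h2 := hNΦ z
    simp only [h1, Finset.sum_const, Finset.card_range] at h2
    rw [mul_smul]
    exact h2
  obtain ⟨E, instE, gr, σ, hσlie, hσp, hσfix, hσinj⟩ :=
    exists_eigen_grading (BC.ω p) (BC.ω_pow p) (BC.sum_ω p) (BC.Φ p φ) (BC.Φ_lie φ hφlie)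
      (BC.Φ_iter φ hφp)
  have h0 : ∀ f : E, (e * p) • gr.π 0 f = 0 := by
    intro f
    have h1 : gr.π 0 ((e * p) • f) = (e * p) • gr.π 0 f := map_nsmul _ _ _
    rw [← h1]
    apply hσinj
    rw [h1, map_nsmul]
    exact hfixM _ (hσfix f)
  have htors := grading0_torsion gr (e * p) h0
  have hlift : ∀ n : ℕ, ∀ y ∈ lcs (⊤ : AddSubgroup (BC.A p ⊗[ℤ] L)) n,
      ∃ w ∈ lcs (⊤ : AddSubgroup E) n, σ w = p ^ (n + 1) • y := by
    intro n
    induction n with
    | zero =>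
      intro y _
      obtain ⟨f, hf⟩ := hσp y
      exact ⟨f, AddSubgroup.mem_top _, by rw [hf]; simp⟩
    | succ n ih =>
      intro y hy
      have hy' : y ∈ AddSubgroup.closure {z | ∃ a ∈ lcs (⊤ : AddSubgroup (BC.A p ⊗[ℤ] L)) n,
          ∃ b ∈ (⊤ : AddSubgroup (BC.A p ⊗[ℤ] L)), ⁅a, b⁆ = z} := hy
      clear hy
      induction hy' using AddSubgroup.closure_induction with
      | mem z hz =>
        obtain ⟨a, ha, b, -, rfl⟩ := hz
        obtain ⟨w, hw, hwa⟩ := ih a ha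
        obtain ⟨f, hf⟩ := hσp b
        refine ⟨⁅w, f⁆, AddSubgroup.subset_closure ⟨w, hw, f, AddSubgroup.mem_top _, rfl⟩, ?_⟩
        rw [hσlie, hwa, hf, nsmul_lie, lie_nsmul, ← mul_smul, ← pow_succ]
      | zero => exact ⟨0, zero_mem _, by simp⟩
      | add y z _ _ ihy ihz =>
        obtain ⟨w1, hw1, h1⟩ := ihy
        obtain ⟨w2, hw2, h2⟩ := ihz
        exact ⟨w1 + w2, add_mem hw1 hw2, by rw [map_add, h1, h2, smul_add]⟩
      | neg y _ ihy =>
        obtain ⟨w1, hw1, h1⟩ := ihy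
        exact ⟨-w1, neg_mem hw1, by rw [map_neg, h1, smul_neg]⟩
  have hx' : BC.ι p L x ∈ lcs (⊤ : AddSubgroup (BC.A p ⊗[ℤ] L)) (xi p) :=
    Glue.map_lcs_le (BC.ι p L) BC.ι_lie (xi p) ⟨x, hx, rfl⟩
  obtain ⟨w, hw, hwx⟩ := hlift (xi p) _ hx'
  have h1 : (e * p) • w = 0 := htors w hw
  have h2 : (e * p) • (p ^ (xi p + 1) • BC.ι p L x) = 0 := by
    rw [← hwx, ← map_nsmul, h1, map_zero]
  have h3 : BC.ι p L ((e * p ^ (xi p + 2)) • x) = 0 := by
    rw [map_nsmul, ← h2, ← mul_smul]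
    congr 1
    ring
  have h4 := BC.ι_injective (p := p) (L := L) (h3.trans (map_zero _).symm)
  exact h4

end Cfsg.Agent.Lib.Helper2.Alp
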