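import Mathlib

set_option autoImplicit false

/-!
Jordan's theorem: a primitive permutation group containing a cycle of prime order `p ≤ n - 3`
contains the alternating group.
-/

namespace Cfsg.Agent.Lib.Helper2.JordanCycle

open MulAction SubMulAction Subgroup Equiv Equiv.Perm
open scoped Pointwise

variable {α : Type*} [Fintype α] [DecidableEq α]

/-- Jordan: a primitive group containing a cycle of prime length `p` is `(n - p + 1)`-transitive. -/
theorem isMultiplyPretransitive_of_cycle (G : Subgroup (Perm α)) (hG : IsPreprimitive G α)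
    {p : ℕ} (hp : p.Prime) (hpn : p + 3 ≤ Fintype.card α) {g : Perm α} (hgc : g.IsCycle)
    (hgp : g.support.card = p) (hg : g ∈ G) :
    IsMultiplyPretransitive G α (Fintype.card α - p + 1) := by
  classical
  obtain ⟨n, hn⟩ : ∃ n, Fintype.card α = p + 1 + n := ⟨Fintype.card α - p - 1, by omega⟩
  have hcard : Nat.card α = p + 1 + n := by rw [Nat.card_eq_fintype_card, hn]
  suffices IsMultiplyPreprimitive G α (n + 2) by
    have h1 : Fintype.card α - p + 1 = n + 2 := by omega
    rw [h1]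
    exact IsMultiplyPreprimitive.isMultiplyPretransitive ..
  apply hG.isMultiplyPreprimitive (s := (g.supportᶜ : Set α))
  · apply Nat.add_left_cancel (n := p)
    have := Set.ncard_add_ncard_compl (g.support : Set α)
    rw [Set.ncard_coe_finset, hgp, hcard] at this
    omega
  · rw [hcard]
    have := hp.two_le
    omega
  have := isPretransitive_of_isCycle_mem hgc hg
  apply IsPreprimitive.of_prime_card
  convert hp
  rw [Nat.card_eq_fintype_card, Fintype.card_subtype, ← hgp]
  apply congr_arg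
  ext x
  simp [SubMulAction.mem_ofFixingSubgroup_iff]


theorem papply_inv (f : Perm α) (x : α) : f (f⁻¹ x) = x := by simp

theorem pinv_apply (f : Perm α) (x : α) : f⁻¹ (f x) = x := by simp

/-- The subgroup of permutations fixing the complement of the support of `g` pointwise. -/
abbrev RR (g : Perm α) : Subgroup (Perm α) :=
  (ofSubtype : Perm {x // x ∈ g.support} →* Perm α).range

theorem mem_RR_iff (g k : Perm α) : k ∈ RR g ↔ ∀ x, x ∉ g.support → k x = x := by
  constructor
  · rintro ⟨f, rfl⟩ x hx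
    exact ofSubtype_apply_of_not_mem f hx
  · intro h
    have h2 : ∀ x, k x ≠ x → x ∈ g.support := by
      intro x hx
      by_contra hcon
      exact hx (h x hcon)
    have h1 : ∀ x, k x ∈ g.support ↔ x ∈ g.support := by
      intro x
      constructor
      · intro hx
        by_contra hcon
        rw [h x hcon] at hx
        exact hcon hx
      · intro hx
        by_contra hcon
        have h3 := h (k x) hcon
        have h4 : k x = x := k.injective h3
        rw [h4] at hcon
        exact hcon hx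
    exact ⟨subtypePerm k h1, ofSubtype_subtypePerm h1 h2⟩

theorem card_RR (g : Perm α) : Nat.card (RR g) = (g.support.card).factorial := by
  have h1 : Nat.card (RR g) = Nat.card (Perm {x // x ∈ g.support}) :=
    (Nat.card_congr (MonoidHom.ofInjective ofSubtype_injective).toEquiv).symm
  rw [h1, Nat.card_perm, Nat.card_eq_fintype_card, Fintype.card_coe]

theorem not_sq_dvd_factorial {p : ℕ} (hp : p.Prime) : ¬ p * p ∣ p.factorial := by
  intro h
  obtain ⟨m, hm⟩ : ∃ m, p = m + 1 := ⟨p - 1, by have := hp.pos; omega⟩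
  rw [hm, Nat.factorial_succ, ← hm] at h
  have h2 : p ∣ m.factorial := (Nat.mul_dvd_mul_iff_left hp.pos).mp h
  have h3 := (hp.dvd_factorial).mp h2
  omega

/-- Realize a permutation of the fixed points of `g` by an element of `G` normalizing `⟨g⟩`. -/
theorem exists_normalizing (G : Subgroup (Perm α)) {p : ℕ} (hp : p.Prime) {g : Perm α}
    (hgc : g.IsCycle) (hgp : g.support.card = p) (hg : g ∈ G)
    (hT : IsMultiplyPretransitive G α (Fintype.card α - p))
    (π : Perm α) (hπ : ∀ x ∈ g.support, π x = x) :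
    ∃ z ∈ G, z * g * z⁻¹ ∈ Subgroup.zpowers g ∧ ∀ x, x ∉ g.support → z x = π x := by
  classical
  haveI : Fact p.Prime := ⟨hp⟩
  -- π and π⁻¹ preserve the complement of the support
  have hπΔ : ∀ x, x ∉ g.support → π x ∉ g.support := by
    intro x hx hcon
    have h1 := hπ _ hcon
    exact hx (by rw [← π.injective h1]; exact hcon)
  have hπinv : ∀ x, x ∉ g.support → π⁻¹ x ∉ g.support := by
    intro x hx hcon
    have h1 := hπ _ hcon
    rw [papply_inv] at h1
    exact hx (by rw [h1]; exact hcon)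
  -- the enumeration of the complement
  have hT' : IsMultiplyPretransitive G α (g.supportᶜ).card := by
    rw [Finset.card_compl, hgp]; exact hT
  let e : Fin (g.supportᶜ).card ↪ α :=
    ((g.supportᶜ).equivFin.symm.toEmbedding).trans (Function.Embedding.subtype _)
  let e' : Fin (g.supportᶜ).card ↪ α := e.trans π.toEmbedding
  obtain ⟨x, hx⟩ := exists_smul_eq G e e'
  have hxΔ : ∀ d, d ∉ g.support → (x : Perm α) d = π d := by
    intro d hd
    have hd' : d ∈ g.supportᶜ := Finset.mem_compl.mpr hd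
    have h1 := DFunLike.congr_fun hx ((g.supportᶜ).equivFin ⟨d, hd'⟩)
    have h2 : e ((g.supportᶜ).equivFin ⟨d, hd'⟩) = d := by
      simp [e]
    have h3 : e' ((g.supportᶜ).equivFin ⟨d, hd'⟩) = π d := by
      simp [e', e]
    rw [Function.Embedding.smul_apply, h2, h3] at h1
    exact h1
  -- x⁻¹ preserves the complement
  have hxinv : ∀ d, d ∉ g.support → (x : Perm α)⁻¹ d ∉ g.support := by
    intro d hd hcon
    -- x (π⁻¹ d) = d
    have h1 := hxΔ _ (hπinv d hd)
    rw [papply_inv] at h1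
    have h2 : (x : Perm α)⁻¹ d = π⁻¹ d := by
      rw [← h1, pinv_apply, h1]
    rw [h2] at hcon
    exact hπinv d hd hcon
  -- the conjugate cycle
  have hg'R : (x : Perm α) * g * (x : Perm α)⁻¹ ∈ RR g := by
    rw [mem_RR_iff]
    intro d hd
    have h1 := hxinv d hd
    rw [Perm.mul_apply, Perm.mul_apply, Perm.notMem_support.mp h1, papply_inv]
  have hgR : g ∈ RR g := by
    rw [mem_RR_iff]
    intro d hd
    exact Perm.notMem_support.mp hd
  have hg'G : (x : Perm α) * g * (x : Perm α)⁻¹ ∈ G :=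
    G.mul_mem (G.mul_mem x.2 hg) (G.inv_mem x.2)
  -- the group K = G ⊓ R
  have hKcard : Nat.card ↥(G ⊓ RR g) ∣ p.factorial := by
    rw [← hgp, ← card_RR g]
    exact Subgroup.card_dvd_of_le inf_le_right
  have hord : orderOf g = p := by rw [hgc.orderOf, hgp]
  have hord' : orderOf ((x : Perm α) * g * (x : Perm α)⁻¹) = p := by
    rw [← hord]
    have := orderOf_injective (MulAut.conj (x : Perm α)).toMonoidHom
      (MulAut.conj (x : Perm α)).injective g
    rw [← this]
    rfl
  -- Sylow subgroups of K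
  have hsyl : ∀ (k : Perm α) (hk : k ∈ G ⊓ RR g), orderOf k = p →
      ∃ P : Sylow p ↥(G ⊓ RR g), (P : Subgroup ↥(G ⊓ RR g)) = Subgroup.zpowers ⟨k, hk⟩ := by
    intro k hk hko
    have hcardP : Nat.card (Subgroup.zpowers (⟨k, hk⟩ : ↥(G ⊓ RR g))) = p := by
      rw [Nat.card_zpowers, ← Subgroup.orderOf_coe]
      exact hko
    have hP : IsPGroup p (Subgroup.zpowers (⟨k, hk⟩ : ↥(G ⊓ RR g))) := by
      apply IsPGroup.of_card (n := 1)
      rw [hcardP, pow_one]
    have hidx : ¬ p ∣ (Subgroup.zpowers (⟨k, hk⟩ : ↥(G ⊓ RR g))).index := by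
      intro hdvd
      have h1 := (Subgroup.zpowers (⟨k, hk⟩ : ↥(G ⊓ RR g))).card_mul_index
      rw [hcardP] at h1
      apply not_sq_dvd_factorial hp
      refine dvd_trans ?_ hKcard
      rw [← h1]
      exact Nat.mul_dvd_mul_left p hdvd
    exact ⟨hP.toSylow hidx, IsPGroup.toSylow_coe hP hidx⟩
  obtain ⟨P, hP⟩ := hsyl g ⟨hg, hgR⟩ hord
  obtain ⟨P', hP'⟩ := hsyl _ ⟨hg'G, hg'R⟩ hord'
  obtain ⟨y, hy⟩ := MulAction.exists_smul_eq ↥(G ⊓ RR g) P' P
  have hmem : y * ⟨(x : Perm α) * g * (x : Perm α)⁻¹, ⟨hg'G, hg'R⟩⟩ * y⁻¹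
      ∈ (P : Subgroup ↥(G ⊓ RR g)) := by
    rw [← hy, Sylow.smul_def, Sylow.pointwise_smul_def]
    have h1 : (⟨(x : Perm α) * g * (x : Perm α)⁻¹, ⟨hg'G, hg'R⟩⟩ : ↥(G ⊓ RR g))
        ∈ (P' : Subgroup ↥(G ⊓ RR g)) := by
      rw [hP']; exact Subgroup.mem_zpowers _
    have := Subgroup.smul_mem_pointwise_smul _ (MulAut.conj y) (P' : Subgroup ↥(G ⊓ RR g)) h1
    simpa [MulAut.smul_def] using this
  rw [hP, Subgroup.mem_zpowers_iff] at hmem
  obtain ⟨j, hj⟩ := hmem
  have hj' := congrArg Subtype.val hj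
  simp only [Subgroup.coe_zpow, Subgroup.coe_mul, Subgroup.coe_inv] at hj'
  have hyG : (y : Perm α) ∈ G := (Subgroup.mem_inf.mp y.2).1
  have hyR : (y : Perm α) ∈ RR g := (Subgroup.mem_inf.mp y.2).2
  refine ⟨(y : Perm α) * (x : Perm α), G.mul_mem hyG x.2, ?_, ?_⟩
  · rw [Subgroup.mem_zpowers_iff]
    refine ⟨j, ?_⟩
    rw [hj']
    group
  · intro d hd
    rw [Perm.mul_apply, hxΔ d hd]
    exact (mem_RR_iff g _).mp hyR _ (hπΔ d hd)


/-- If `z` acts as `π` off the support and `π` fixes the support pointwise,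
then `z⁻¹` acts as `π⁻¹` off the support. -/
theorem inv_apply_of_agree {g z π : Perm α} (hπ : ∀ x ∈ g.support, π x = x)
    (hz : ∀ x, x ∉ g.support → z x = π x) : ∀ x, x ∉ g.support → z⁻¹ x = π⁻¹ x := by
  intro x hx
  have hπinv : π⁻¹ x ∉ g.support := by
    intro hcon
    have h1 := hπ _ hcon
    rw [papply_inv] at h1
    exact hx (by rw [h1]; exact hcon)
  have h1 := hz _ hπinv
  rw [papply_inv] at h1
  rw [← h1, pinv_apply, h1]

theorem notMem_of_fix {g π : Perm α} (hπ : ∀ x ∈ g.support, π x = x) :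
    ∀ x, x ∉ g.support → π x ∉ g.support := by
  intro x hx hcon
  have h1 := hπ _ hcon
  exact hx (by rw [← π.injective h1]; exact hcon)

/-- **Jordan's theorem**: a primitive permutation group containing a cycle of prime length
`p ≤ n - 3` contains the alternating group. -/
theorem alternatingGroup_le_of_cycle (G : Subgroup (Perm α)) (hG : IsPreprimitive G α)
    {p : ℕ} (hp : p.Prime) (hpn : p + 3 ≤ Fintype.card α) {g : Perm α} (hgc : g.IsCycle)
    (hgp : g.support.card = p) (hg : g ∈ G) : alternatingGroup α ≤ G := by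
  classical
  by_cases hp3 : p = 3
  · subst hp3
    exact alternatingGroup_le_of_isPreprimitive_of_isThreeCycle_mem hG
      (card_support_eq_three_iff.mp hgp) hg
  have hT1 := isMultiplyPretransitive_of_cycle G hG hp hpn hgc hgp hg
  have hT : IsMultiplyPretransitive G α (Fintype.card α - p) :=
    isMultiplyPretransitive_of_le (n := Fintype.card α - p + 1) (by omega)
      (by rw [Nat.card_eq_fintype_card]; have := hp.two_le; omega)
  -- three points off the support
  have hc3 : 2 < (g.supportᶜ).card := by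
    rw [Finset.card_compl, hgp]; omega
  obtain ⟨a, ha, b, hb, c, hc, hab, hac, hbc⟩ := Finset.two_lt_card.mp hc3
  rw [Finset.mem_compl] at ha hb hc
  have hfix : ∀ u v : α, u ∉ g.support → v ∉ g.support → ∀ x ∈ g.support, swap u v x = x := by
    intro u v hu hv x hx
    apply swap_apply_of_ne_of_ne
    · rintro rfl; exact hu hx
    · rintro rfl; exact hv hx
  have hπ₁ := hfix a b ha hb
  have hπ₂ := hfix b c hb hc
  obtain ⟨z₁, hz₁G, hz₁n, hz₁⟩ := exists_normalizing G hp hgc hgp hg hT (swap a b) hπ₁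
  obtain ⟨z₂, hz₂G, hz₂n, hz₂⟩ := exists_normalizing G hp hgc hgp hg hT (swap b c) hπ₂
  rw [Subgroup.mem_zpowers_iff] at hz₁n hz₂n
  obtain ⟨j₁, hj₁⟩ := hz₁n
  obtain ⟨j₂, hj₂⟩ := hz₂n
  -- the commutator centralizes g
  have h12 : (z₁ * z₂) * g * (z₁ * z₂)⁻¹ = g ^ (j₁ * j₂) := by
    calc (z₁ * z₂) * g * (z₁ * z₂)⁻¹ = z₁ * (z₂ * g * z₂⁻¹) * z₁⁻¹ := by group
      _ = z₁ * g ^ j₂ * z₁⁻¹ := by rw [hj₂]
      _ = (z₁ * g * z₁⁻¹) ^ j₂ := by rw [conj_zpow]
      _ = g ^ (j₁ * j₂) := by rw [← hj₁, zpow_mul]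
  have h21 : (z₂ * z₁) * g * (z₂ * z₁)⁻¹ = g ^ (j₁ * j₂) := by
    calc (z₂ * z₁) * g * (z₂ * z₁)⁻¹ = z₂ * (z₁ * g * z₁⁻¹) * z₂⁻¹ := by group
      _ = z₂ * g ^ j₁ * z₂⁻¹ := by rw [hj₁]
      _ = (z₂ * g * z₂⁻¹) ^ j₁ := by rw [conj_zpow]
      _ = g ^ (j₁ * j₂) := by rw [← hj₂, ← zpow_mul, mul_comm]
  have hcomm : Commute ((z₂ * z₁)⁻¹ * (z₁ * z₂)) g := by
    show (z₂ * z₁)⁻¹ * (z₁ * z₂) * g = g * ((z₂ * z₁)⁻¹ * (z₁ * z₂))
    have e1 : (z₂ * z₁)⁻¹ * (z₁ * z₂) * g
        = (z₂ * z₁)⁻¹ * ((z₁ * z₂) * g * (z₁ * z₂)⁻¹) * (z₁ * z₂) := by group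
    rw [e1, h12, ← h21]
    group
  have hcG : (z₂ * z₁)⁻¹ * (z₁ * z₂) ∈ G :=
    G.mul_mem (G.inv_mem (G.mul_mem hz₂G hz₁G)) (G.mul_mem hz₁G hz₂G)
  -- its action off the support
  have hτfix : ∀ x ∈ g.support, (swap a b * swap b c * swap a b * swap b c) x = x := by
    intro x hx
    rw [Perm.mul_apply, Perm.mul_apply, Perm.mul_apply, hπ₂ x hx, hπ₁ x hx, hπ₂ x hx, hπ₁ x hx]
  have hz₁inv := inv_apply_of_agree hπ₁ hz₁
  have hz₂inv := inv_apply_of_agree hπ₂ hz₂
  have hcoff : ∀ x, x ∉ g.support → ((z₂ * z₁)⁻¹ * (z₁ * z₂)) x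
      = (swap a b * swap b c * swap a b * swap b c) x := by
    intro x hx
    have e1 : (z₂ * z₁)⁻¹ * (z₁ * z₂) = z₁⁻¹ * z₂⁻¹ * z₁ * z₂ := by group
    rw [e1]
    simp only [Perm.mul_apply]
    have h1 := notMem_of_fix hπ₂ x hx
    have h2 := notMem_of_fix hπ₁ _ h1
    rw [hz₂ x hx, hz₁ _ h1, hz₂inv _ h2, swap_inv]
    have h3 := notMem_of_fix hπ₂ _ h2
    rw [hz₁inv _ h3, swap_inv]
  -- on the support it is a power of g
  obtain ⟨hc', hpow⟩ := (hgc.commute_iff).mp hcomm
  rw [Subgroup.mem_zpowers_iff] at hpow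
  obtain ⟨i, hi⟩ := hpow
  have hcon : ∀ x ∈ g.support, ((z₂ * z₁)⁻¹ * (z₁ * z₂)) x = (g ^ i) x := by
    intro x hx
    rw [hi, ofSubtype_subtypePerm_of_mem hc' hx]
  have hgi_off : ∀ x, x ∉ g.support → (g ^ i) x = x := by
    intro x hx
    rw [← Perm.notMem_support]
    exact fun h => hx (support_zpow_le g i h)
  have heq : (z₂ * z₁)⁻¹ * (z₁ * z₂) = (swap a b * swap b c * swap a b * swap b c) * g ^ i := by
    ext x
    by_cases hx : x ∈ g.support
    · rw [Perm.mul_apply (swap a b * swap b c * swap a b * swap b c), ← hcon x hx]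
      exact (hτfix _ ((hc' x).mpr hx)).symm
    · rw [Perm.mul_apply (swap a b * swap b c * swap a b * swap b c), hgi_off x hx]
      exact hcoff x hx
  have hdisj : Commute (swap a b * swap b c * swap a b * swap b c) (g ^ i) := by
    apply Perm.Disjoint.commute
    intro x
    by_cases hx : x ∈ g.support
    · exact Or.inl (hτfix x hx)
    · exact Or.inr (hgi_off x hx)
  -- the 3-cycle
  have hσ : IsThreeCycle (swap a b * swap b c) := by
    rw [swap_comm a b]
    exact isThreeCycle_swap_mul_swap_same hab.symm hbc hac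
  have hτ : IsThreeCycle (swap a b * swap b c * swap a b * swap b c) := by
    have := hσ.isThreeCycle_sq
    rwa [← mul_assoc] at this
  have hmod : p * p % 3 = 1 := by
    have h3 : p % 3 ≠ 0 := by
      intro h
      have hdvd : 3 ∣ p := Nat.dvd_of_mod_eq_zero h
      exact hp3 ((Nat.prime_dvd_prime_iff_eq Nat.prime_three hp).mp hdvd).symm
    have h4 : p % 3 < 3 := Nat.mod_lt _ (by norm_num)
    rw [Nat.mul_mod]
    have h5 : p % 3 = 1 ∨ p % 3 = 2 := by omega
    rcases h5 with h5 | h5 <;> rw [h5]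
  have hτpow : (swap a b * swap b c * swap a b * swap b c) ^ (p * p)
      = swap a b * swap b c * swap a b * swap b c := by
    have h3 : (swap a b * swap b c * swap a b * swap b c) ^ 3 = 1 := by
      rw [← hτ.orderOf]; exact pow_orderOf_eq_one _
    conv_lhs => rw [← Nat.div_add_mod (p * p) 3, hmod, pow_add, pow_mul, h3, one_pow, one_mul,
      pow_one]
  have hgpow : (g ^ i) ^ (p * p) = 1 := by
    have hgp1 : g ^ p = 1 := by
      rw [← hgp, ← hgc.orderOf]; exact pow_orderOf_eq_one g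
    rw [← zpow_natCast, ← zpow_mul, mul_comm, zpow_mul, zpow_natCast, pow_mul, hgp1, one_pow,
      one_zpow]
  have hfinal : ((z₂ * z₁)⁻¹ * (z₁ * z₂)) ^ (p * p)
      = swap a b * swap b c * swap a b * swap b c := by
    rw [heq, hdisj.mul_pow, hτpow, hgpow, mul_one]
  have hτG : swap a b * swap b c * swap a b * swap b c ∈ G := by
    rw [← hfinal]
    exact G.pow_mem hcG _
  exact alternatingGroup_le_of_isPreprimitive_of_isThreeCycle_mem hG hτ hτG

end Cfsg.Agent.Lib.Helper2.JordanCycle
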