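import Mathlib

set_option autoImplicit false
set_option linter.style.haveILetI false
set_option linter.unusedSectionVars false

/-!
# Transitive groups of prime degree: coordinates adapted to the Sylow normalizer
-/

namespace Cfsg.Agent.Lib.Helper2.PrimeDeg

open MulAction

variable {p : ℕ} [Fact p.Prime] {α : Type*} [Fintype α] [DecidableEq α]

/-- coordinates adapted to a given element of order `p` and a base point -/
theorem exists_coord_of (hα : Fintype.card α = p) (σ : Equiv.Perm α) (hσ : orderOf σ = p)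
    (a₀ : α) : ∃ e : ZMod p ≃ α, e 0 = a₀ ∧ ∀ j, σ (e j) = e (j + 1) := by
  have hp : p.Prime := Fact.out
  have hcyc : σ.IsCycle :=
    Equiv.Perm.isCycle_of_prime_order'' (hα.symm ▸ hp) (hσ.trans hα.symm)
  have hsupp : ∀ a : α, σ a ≠ a := by
    have h1 : σ.support.card = Fintype.card α := by
      rw [← hcyc.orderOf, hσ, hα]
    have h2 : σ.support = Finset.univ := (Finset.card_eq_iff_eq_univ _).mp h1
    intro a
    rw [← Equiv.Perm.mem_support, h2]
    exact Finset.mem_univ a
  have hpow : ∀ n : ℕ, σ ^ (n % p) = σ ^ n := by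
    intro n
    rw [← hσ]
    exact pow_mod_orderOf σ n
  let e₀ : ZMod p → α := fun j => (σ ^ j.val) a₀
  have hsurj : Function.Surjective e₀ := by
    intro b
    obtain ⟨i, hi⟩ := hcyc.exists_pow_eq (hsupp a₀) (hsupp b)
    refine ⟨(i : ZMod p), ?_⟩
    show (σ ^ ((i : ZMod p)).val) a₀ = b
    rw [ZMod.val_natCast, hpow]
    exact hi
  have hbij : Function.Bijective e₀ := by
    rw [Fintype.bijective_iff_surjective_and_card]
    exact ⟨hsurj, by rw [ZMod.card, hα]⟩
  refine ⟨Equiv.ofBijective e₀ hbij, ?_, fun j => ?_⟩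
  · show (σ ^ (0 : ZMod p).val) a₀ = a₀
    rw [ZMod.val_zero, pow_zero]
    rfl
  · show σ ((σ ^ j.val) a₀) = (σ ^ (j + 1).val) a₀
    rw [ZMod.val_add, ZMod.val_one, hpow, pow_succ', Equiv.Perm.mul_apply]

theorem coord_pow {σ : Equiv.Perm α} {e : ZMod p ≃ α} (h : ∀ j, σ (e j) = e (j + 1)) (n : ℕ)
    (j : ZMod p) : (σ ^ n) (e j) = e (j + n) := by
  induction n with
  | zero => rw [pow_zero, Nat.cast_zero, add_zero]; rfl
  | succ n ih =>
    rw [pow_succ', Equiv.Perm.mul_apply, ih, h, Nat.cast_succ, add_assoc]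

/-- a transitive group of degree `p` has Sylow `p`-subgroups of order `p` -/
theorem card_sylow (hα : Fintype.card α = p) (G : Subgroup (Equiv.Perm α)) [IsPretransitive G α]
    (P : Sylow p G) : Nat.card P = p := by
  have hp : p.Prime := Fact.out
  have hne : Nonempty α := by
    rw [← Fintype.card_pos_iff, hα]
    exact hp.pos
  obtain ⟨a₀⟩ := hne
  have hdvd : p ∣ Nat.card G := by
    have h1 := MulAction.index_stabilizer_of_transitive G a₀
    rw [Nat.card_eq_fintype_card, hα] at h1
    rw [← h1]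
    exact Subgroup.index_dvd_card _
  obtain ⟨k, hk⟩ := IsPGroup.iff_card.mp P.isPGroup'
  have hk1 : k ≠ 0 := by
    rintro rfl
    rw [pow_zero] at hk
    have h2 : (P : Subgroup G) = ⊥ := Subgroup.card_eq_one.mp hk
    exact P.ne_bot_of_dvd_card hdvd h2
  have hfact : Nat.card G ∣ p.factorial := by
    have h1 : Nat.card G ∣ Nat.card (Equiv.Perm α) := Subgroup.card_subgroup_dvd_card G
    rw [Nat.card_eq_fintype_card (α := Equiv.Perm α), Fintype.card_perm, hα] at h1
    exact h1
  have hP : p ^ k ∣ p.factorial := by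
    rw [← hk]
    exact (Subgroup.card_subgroup_dvd_card (P : Subgroup G)).trans hfact
  have hk2 : k < 2 := by
    by_contra hcon
    push Not at hcon
    have h1 : p ^ 2 ∣ p.factorial := (pow_dvd_pow p hcon).trans hP
    have h2 : p.factorial = p * (p - 1).factorial := by
      conv_lhs => rw [show p = (p - 1) + 1 from (Nat.sub_add_cancel hp.pos).symm]
      rw [Nat.factorial_succ, Nat.sub_add_cancel hp.pos]
    rw [h2, sq] at h1
    have h3 : p ∣ (p - 1).factorial := Nat.dvd_of_mul_dvd_mul_left hp.pos h1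
    have h4 := (hp.dvd_factorial).mp h3
    have := hp.pos
    omega
  have : k = 1 := by omega
  rw [hk, this, pow_one]

/-- an involution of a set of odd size has a fixed point -/
theorem exists_fixed_of_invol (hodd : Odd (Fintype.card α)) (t : Equiv.Perm α) (ht : t * t = 1) :
    ∃ a : α, t a = a := by
  have h1 : 2 ∣ t.support.card := Equiv.Perm.two_dvd_card_support (by rw [sq]; exact ht)
  by_contra hcon
  push Not at hcon
  have h2 : t.support = Finset.univ := by
    ext a
    simp only [Equiv.Perm.mem_support, Finset.mem_univ, iff_true]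
    exact hcon a
  rw [h2, Finset.card_univ] at h1
  rcases hodd with ⟨m, hm⟩
  omega

/-- the Sylow data of a transitive group of odd prime degree with Sylow normalizer of even
order: a cycle, an inverting involution, and adapted coordinates -/
theorem exists_inverting (hα : Fintype.card α = p) (hp2 : p ≠ 2) (G : Subgroup (Equiv.Perm α))
    [IsPretransitive G α] (P : Sylow p G)
    (heven : Even (Nat.card (Subgroup.normalizer ((P : Subgroup G) : Set G)))) :
    ∃ (σ t : Equiv.Perm α) (e : ZMod p ≃ α), σ ∈ G ∧ t ∈ G ∧ t * t = 1 ∧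
      (∀ j, σ (e j) = e (j + 1)) ∧ (∀ j, t (e j) = e (-j)) := by
  have hp : p.Prime := Fact.out
  haveI : Fact (Nat.Prime 2) := ⟨Nat.prime_two⟩
  have hcardP := card_sylow hα G P
  -- the involution
  obtain ⟨t', ht'⟩ := exists_prime_orderOf_dvd_card' (G := Subgroup.normalizer
    ((P : Subgroup G) : Set G)) 2 (even_iff_two_dvd.mp heven)
  set t : Equiv.Perm α := ((t' : G) : Equiv.Perm α) with htdef
  have htG : t ∈ G := (t' : G).2
  have htt : t * t = 1 := by
    have h1 : t' ^ 2 = 1 := by rw [← ht']; exact pow_orderOf_eq_one t'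
    have h2 := congrArg (fun x : Subgroup.normalizer ((P : Subgroup G) : Set G) =>
      ((x : G) : Equiv.Perm α)) h1
    simp only [Subgroup.coe_pow, Subgroup.coe_one] at h2
    rw [sq] at h2
    exact h2
  have ht1 : t ≠ 1 := by
    intro h
    have h1 : (t' : G) = 1 := Subtype.ext h
    have h2 : t' = 1 := Subtype.ext h1
    rw [h2, orderOf_one] at ht'
    omega
  -- a generator
  have h1lt : 1 < Nat.card (P : Subgroup G) := by rw [hcardP]; exact hp.one_lt
  haveI : Finite (P : Subgroup G) := Nat.finite_of_card_ne_zero (by omega)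
  haveI : Nontrivial (P : Subgroup G) := Finite.one_lt_card_iff_nontrivial.mp h1lt
  obtain ⟨σ', hσ'⟩ := exists_ne (1 : (P : Subgroup G))
  set σ : Equiv.Perm α := (((σ' : (P : Subgroup G)) : G) : Equiv.Perm α) with hσdef
  have hσG : σ ∈ G := ((σ' : (P : Subgroup G)) : G).2
  have hσ1 : σ ≠ 1 := by
    intro h
    have h1 : ((σ' : (P : Subgroup G)) : G) = 1 := Subtype.ext h
    exact hσ' (Subtype.ext h1)
  have hσord : orderOf σ = p := by
    have h1 : orderOf σ' ∣ p := by
      have := orderOf_dvd_natCard σ'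
      rwa [hcardP] at this
    have h2 : orderOf σ = orderOf σ' := by
      rw [hσdef, Subgroup.orderOf_coe, Subgroup.orderOf_coe]
    rw [h2]
    rcases (Nat.dvd_prime hp).mp h1 with h | h
    · exact absurd (orderOf_eq_one_iff.mp h) hσ'
    · exact h
  -- conjugation by the involution
  have hconj : ∃ n : ℕ, t * σ * t⁻¹ = σ ^ n := by
    have hmem : (t' : G) * ((σ' : (P : Subgroup G)) : G) * (t' : G)⁻¹ ∈ (P : Subgroup G) :=
      (Subgroup.mem_normalizer_iff.mp t'.2 _).mp σ'.2
    obtain ⟨n, hn⟩ := mem_powers_of_prime_card hcardP hσ'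
      (g' := (⟨_, hmem⟩ : (P : Subgroup G)))
    refine ⟨n, ?_⟩
    have h1 := congrArg (fun x : (P : Subgroup G) => ((x : G) : Equiv.Perm α)) hn
    simp only [Subgroup.coe_pow, Subgroup.coe_mul, Subgroup.coe_inv] at h1
    exact h1.symm
  obtain ⟨n, hn⟩ := hconj
  -- the fixed point
  have hodd : Odd (Fintype.card α) := by
    rw [hα]
    exact hp.odd_of_ne_two hp2
  obtain ⟨a₀, ha₀⟩ := exists_fixed_of_invol hodd t htt
  obtain ⟨e, he0, he⟩ := exists_coord_of hα σ hσord a₀
  have hpowe : ∀ (k : ℕ) (j : ZMod p), (σ ^ k) (e j) = e (j + k) := coord_pow he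
  -- the action of the involution in coordinates
  have hconjpow : ∀ k : ℕ, t * σ ^ k = (σ ^ n) ^ k * t := by
    intro k
    have h1 : t * σ ^ k * t⁻¹ = (σ ^ n) ^ k := by
      rw [← hn, conj_pow]
    calc t * σ ^ k = t * σ ^ k * t⁻¹ * t := by group
      _ = (σ ^ n) ^ k * t := by rw [h1]
  have hte : ∀ j : ZMod p, t (e j) = e ((n : ZMod p) * j) := by
    intro j
    have h1 : e j = (σ ^ j.val) (e 0) := by
      rw [hpowe, zero_add, ZMod.natCast_zmod_val]
    have h2 : t ((σ ^ j.val) (e 0)) = ((σ ^ n) ^ j.val) (t (e 0)) := by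
      have := congrArg (fun f : Equiv.Perm α => f (e 0)) (hconjpow j.val)
      simpa [Equiv.Perm.mul_apply] using this
    rw [h1, h2, he0, ha₀, ← he0, ← pow_mul, hpowe, zero_add, Nat.cast_mul,
      ZMod.natCast_zmod_val]
  have hn2 : (n : ZMod p) * (n : ZMod p) = 1 := by
    have h1 : t (t (e 1)) = e 1 := by
      have := congrArg (fun f : Equiv.Perm α => f (e 1)) htt
      simpa [Equiv.Perm.mul_apply] using this
    rw [hte, hte, mul_one] at h1
    exact e.injective h1
  have hn' : (n : ZMod p) = 1 ∨ (n : ZMod p) = -1 := mul_self_eq_one_iff.mp hn2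
  rcases hn' with h | h
  · exfalso
    apply ht1
    apply Equiv.ext
    intro x
    obtain ⟨j, rfl⟩ := e.surjective x
    rw [hte, h, one_mul]
    rfl
  · refine ⟨σ, t, e, hσG, htG, htt, he, fun j => ?_⟩
    rw [hte, h, neg_one_mul]

end Cfsg.Agent.Lib.Helper2.PrimeDeg
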