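import Mathlib
import Cfsg.Agent.Lib.Helper2.PrimeDeg1

set_option autoImplicit false
set_option linter.style.haveILetI false
set_option linter.unusedSectionVars false

/-!
# Transitive groups of prime degree: subgroups of index `p`, general facts
-/

namespace Cfsg.Agent.Lib.Helper2.PrimeDeg

open MulAction

variable {p : ℕ} [Fact p.Prime] {α : Type*} [Fintype α] [DecidableEq α]

/-- parity of the number of representations of a difference in a symmetric set -/
theorem parity_key (hp2 : p ≠ 2) (D : Finset (ZMod p)) (hD : ∀ j ∈ D, -j ∈ D) (g : ZMod p) :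
    Odd ((D.filter (fun δ => δ + g ∈ D)).card) ↔ -g * (2 : ZMod p)⁻¹ ∈ D := by
  classical
  have hp : p.Prime := Fact.out
  have h2ne : (2 : ZMod p) ≠ 0 := by
    intro h
    have h4 : ((2 : ℕ) : ZMod p) = 0 := by exact_mod_cast h
    rw [ZMod.natCast_eq_zero_iff] at h4
    have := Nat.le_of_dvd (by norm_num) h4
    have := hp.two_le
    omega
  set δ₀ : ZMod p := -g * (2 : ZMod p)⁻¹ with hδ₀
  have h2δ₀ : δ₀ + δ₀ = -g := by
    rw [hδ₀, ← two_mul, mul_comm (-g), ← mul_assoc, mul_inv_cancel₀ h2ne, one_mul]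
  set S := D.filter (fun δ => δ + g ∈ D) with hS
  have hfix : ∀ δ : ZMod p, -(δ + g) = δ ↔ δ = δ₀ := by
    intro δ
    constructor
    · intro h
      have h1 : δ + δ = -g := by
        calc δ + δ = δ + -(δ + g) := by rw [h]
          _ = -g := by ring
      have h2 : (2 : ZMod p) * δ = (2 : ZMod p) * δ₀ := by rw [two_mul, two_mul, h1, h2δ₀]
      exact mul_left_cancel₀ h2ne h2
    · rintro rfl
      calc -(δ₀ + g) = -(δ₀ + -(δ₀ + δ₀)) := by rw [h2δ₀, neg_neg]
        _ = δ₀ := by ring
  have hSmap : ∀ δ ∈ S, -(δ + g) ∈ S := by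
    intro δ hδ
    rw [hS, Finset.mem_filter] at hδ ⊢
    refine ⟨hD _ hδ.2, ?_⟩
    have : -(δ + g) + g = -δ := by ring
    rw [this]
    exact hD _ hδ.1
  have heven : Even ((S.erase δ₀).card) := by
    have h1 : ∑ x ∈ S.erase δ₀, (1 : ZMod 2) = 0 := by
      apply Finset.sum_involution (fun δ _ => -(δ + g))
      · intro a _
        decide
      · intro a ha _ h
        rw [hfix] at h
        exact (Finset.ne_of_mem_erase ha) h
      · intro a ha
        rw [Finset.mem_erase] at ha ⊢
        refine ⟨?_, hSmap a ha.2⟩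
        intro h
        apply ha.1
        have h2 : -(-(a + g) + g) = a := by ring
        rw [← h2, h]
        exact (hfix δ₀).mpr rfl
      · intro a _
        ring
    rw [Finset.sum_const, nsmul_eq_mul, mul_one, ZMod.natCast_eq_zero_iff] at h1
    exact even_iff_two_dvd.mpr h1
  constructor
  · intro hodd
    by_contra hcon
    have h1 : δ₀ ∉ S := by
      rw [hS, Finset.mem_filter]
      exact fun h => hcon h.1
    rw [Finset.erase_eq_of_notMem h1] at heven
    exact (Nat.not_odd_iff_even.mpr heven) hodd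
  · intro hmem
    have h1 : δ₀ ∈ S := by
      rw [hS, Finset.mem_filter]
      refine ⟨hmem, ?_⟩
      have : δ₀ + g = -δ₀ := by
        calc δ₀ + g = δ₀ + -(-g) := by rw [neg_neg]
          _ = δ₀ + -(δ₀ + δ₀) := by rw [h2δ₀]
          _ = -δ₀ := by ring
      rw [this]
      exact hD _ hmem
    have h2 := Finset.card_erase_add_one h1
    rw [← h2]
    exact heven.add_one

variable (G : Subgroup (Equiv.Perm α))

/-- subgroups of index `p` have order prime to `p` -/
theorem not_dvd_card_of_index (hα : Fintype.card α = p) [IsPretransitive G α]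
    (H : Subgroup G) (hH : H.index = p) : ¬ p ∣ Nat.card H := by
  have hp : p.Prime := Fact.out
  haveI : Nonempty α := by
    rw [← Fintype.card_pos_iff, hα]
    exact hp.pos
  intro hdvd
  -- a Sylow subgroup
  obtain ⟨P⟩ : Nonempty (Sylow p G) := inferInstance
  have hP := card_sylow hα G P
  have h1 := Subgroup.card_mul_index (P : Subgroup G)
  have h2 := Subgroup.card_mul_index H
  rw [hH] at h2
  rw [hP] at h1
  have h3 : ¬ p ∣ (P : Subgroup G).index := P.not_dvd_index
  apply h3
  have h4 : p * (P : Subgroup G).index = Nat.card H * p := h1.trans h2.symm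
  have h5 : (P : Subgroup G).index = Nat.card H := by
    apply Nat.eq_of_mul_eq_mul_left hp.pos
    rw [h4, mul_comm]
  rw [h5]
  exact hdvd

/-- a subgroup of index `p` contained in a point stabilizer is the point stabilizer -/
theorem eq_stabilizer_of_le (hα : Fintype.card α = p) [IsPretransitive G α]
    (H : Subgroup G) (hH : H.index = p) (a : α) (hle : H ≤ stabilizer G a) :
    H = stabilizer G a := by
  have hp : p.Prime := Fact.out
  have h1 : (stabilizer G a).index = p := by
    rw [MulAction.index_stabilizer_of_transitive G a, Nat.card_eq_fintype_card, hα]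
  have h2 := Subgroup.card_mul_index H
  have h3 := Subgroup.card_mul_index (stabilizer G a)
  rw [hH] at h2
  rw [h1] at h3
  have h4 : Nat.card H = Nat.card (stabilizer G a) :=
    Nat.eq_of_mul_eq_mul_right hp.pos (h2.trans h3.symm)
  exact Subgroup.eq_of_le_of_card_ge hle h4.ge

/-- an involution lies in a conjugate of a subgroup of odd index -/
theorem exists_conj_mem (hp2 : p ≠ 2) (H : Subgroup G) (hH : H.index = p) (τ : G)
    (hτ : τ * τ = 1) : ∃ g₀ : G, g₀⁻¹ * τ * g₀ ∈ H := by
  classical
  have hp : p.Prime := Fact.out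
  haveI : Finite (G ⧸ H) := by
    apply Subgroup.finite_quotient_of_finiteIndex
  letI : Fintype (G ⧸ H) := Fintype.ofFinite _
  have hcard : Fintype.card (G ⧸ H) = p := by
    rw [← Nat.card_eq_fintype_card, ← Subgroup.index_eq_card, hH]
  have hodd : Odd (Fintype.card (G ⧸ H)) := by
    rw [hcard]
    exact hp.odd_of_ne_two hp2
  have hinv : MulAction.toPerm τ * MulAction.toPerm τ = (1 : Equiv.Perm (G ⧸ H)) := by
    have h1 := map_mul (MulAction.toPermHom G (G ⧸ H)) τ τ
    rw [hτ, map_one] at h1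
    exact h1.symm
  obtain ⟨q, hq⟩ := exists_fixed_of_invol hodd (MulAction.toPerm τ : Equiv.Perm (G ⧸ H)) hinv
  obtain ⟨g₀, rfl⟩ := QuotientGroup.mk_surjective q
  refine ⟨g₀, ?_⟩
  have h1 : τ • (g₀ : G ⧸ H) = (g₀ : G ⧸ H) := hq
  rw [MulAction.Quotient.smul_coe, QuotientGroup.eq, smul_eq_mul] at h1
  have h2 : g₀⁻¹ * τ * g₀ = ((τ * g₀)⁻¹ * g₀)⁻¹ := by group
  rw [h2]
  exact H.inv_mem h1

/-- it suffices to treat a conjugate -/
theorem of_conj (H : Subgroup G) (g₀ : G)
    (h : ∃ a : α, H.map (MulAut.conj g₀).toMonoidHom = stabilizer G a) :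
    ∃ a : α, H = stabilizer G a := by
  obtain ⟨a, ha⟩ := h
  refine ⟨g₀⁻¹ • a, ?_⟩
  ext x
  rw [mem_stabilizer_iff]
  have h1 : g₀ * x * g₀⁻¹ ∈ H.map (MulAut.conj g₀).toMonoidHom ↔ x ∈ H := by
    constructor
    · rintro ⟨y, hy, hyx⟩
      have h2 : g₀ * y * g₀⁻¹ = g₀ * x * g₀⁻¹ := hyx
      have h3 : y = x := by
        calc y = g₀⁻¹ * (g₀ * y * g₀⁻¹) * g₀ := by group
          _ = g₀⁻¹ * (g₀ * x * g₀⁻¹) * g₀ := by rw [h2]
          _ = x := by group
      rw [← h3]
      exact hy
    · intro hx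
      exact ⟨x, hx, rfl⟩
  rw [← h1, ha, mem_stabilizer_iff, mul_smul, mul_smul]
  constructor
  · intro h2
    have h3 := congrArg (fun z => g₀⁻¹ • z) h2
    simp only [inv_smul_smul] at h3
    exact h3
  · intro h2
    rw [h2, smul_inv_smul]

end Cfsg.Agent.Lib.Helper2.PrimeDeg
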