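import Mathlib
import Cfsg.Agent.Lib.Helper2.PrimeDeg3

set_option autoImplicit false
set_option linter.style.haveILetI false
set_option linter.unusedSectionVars false

/-!
# Transitive groups of prime degree: subgroups of small index in the symmetric group, Burnside's
transfer argument
-/

namespace Cfsg.Agent.Lib.Helper2.PrimeDeg

open MulAction

/-- a subgroup of small index of the symmetric group contains the alternating group -/
theorem alternating_le_of_index {α : Type*} [Fintype α] [DecidableEq α]
    (hα : 5 ≤ Fintype.card α) (G : Subgroup (Equiv.Perm α))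
    (h : G.index.factorial < (Fintype.card α).factorial) : alternatingGroup α ≤ G := by
  classical
  by_cases hN : Nontrivial G.normalCore
  · exact (Equiv.Perm.alternatingGroup_le_of_normal (by rwa [Nat.card_eq_fintype_card]) hN).trans
      G.normalCore_le
  · exfalso
    have hbot : G.normalCore = ⊥ := by
      by_contra hne
      exact hN ((Subgroup.nontrivial_iff_ne_bot _).mpr hne)
    have hinj : Function.Injective (MulAction.toPermHom (Equiv.Perm α) (Equiv.Perm α ⧸ G)) := by
      rw [← MonoidHom.ker_eq_bot_iff, ← Subgroup.normalCore_eq_ker, hbot]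
    have hle : Nat.card (Equiv.Perm α) ≤ Nat.card (Equiv.Perm (Equiv.Perm α ⧸ G)) :=
      Nat.card_le_card_of_injective _ hinj
    rw [Nat.card_perm, Nat.card_perm, Nat.card_eq_fintype_card, ← Subgroup.index_eq_card] at hle
    omega

variable {p : ℕ} [Fact p.Prime] {α : Type*} [Fintype α] [DecidableEq α]

/-- Burnside: in a non-solvable transitive group of prime degree the Sylow subgroup is not
self-normalizing -/
theorem card_normalizer_ne (hα : Fintype.card α = p) (G : Subgroup (Equiv.Perm α))
    [IsPretransitive G α] (hG : ¬ Group.IsSolvable G) (P : Sylow p G) :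
    Nat.card (Subgroup.normalizer ((P : Subgroup G) : Set G)) ≠ p := by
  classical
  have hp : p.Prime := Fact.out
  intro hN
  have hcardP := card_sylow hα G P
  have hNP : Subgroup.normalizer ((P : Subgroup G) : Set G) = (P : Subgroup G) := by
    symm
    apply Subgroup.eq_of_le_of_card_ge Subgroup.le_normalizer
    rw [hN, hcardP]
  haveI : IsCyclic (P : Subgroup G) := isCyclic_of_prime_card hcardP
  have hP : Subgroup.normalizer ((P : Subgroup G) : Set G)
      ≤ Subgroup.centralizer ((P : Subgroup G) : Set G) := by
    rw [hNP]
    intro x hx
    rw [Subgroup.mem_centralizer_iff]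
    intro y hy
    have := IsCyclic.commGroup.mul_comm (⟨y, hy⟩ : (P : Subgroup G)) ⟨x, hx⟩
    exact congrArg Subtype.val this
  have hnd := MonoidHom.not_dvd_card_ker_transferSylow P hP
  have hcompl := MonoidHom.ker_transferSylow_isComplement' P hP
  set K : Subgroup G := (MonoidHom.transferSylow P hP).ker with hK
  haveI : K.Normal := MonoidHom.normal_ker _
  have hcard : Nat.card K * Nat.card (P : Subgroup G) = Nat.card G := hcompl.card_mul
  by_cases hKbot : K = ⊥
  · apply hG
    have h1 : Nat.card G = p := by
      rw [← hcard, hKbot, Subgroup.card_bot, one_mul, hcardP]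
    haveI : IsCyclic G := isCyclic_of_prime_card h1
    exact isSolvable_of_comm (fun a b => IsCyclic.commGroup.mul_comm a b)
  · -- the kernel is transitive
    haveI : IsPreprimitive G α :=
      IsPreprimitive.of_prime_card (by rw [Nat.card_eq_fintype_card, hα]; exact hp)
    have hfix : fixedPoints K α ≠ Set.univ := by
      intro h
      apply hKbot
      rw [eq_bot_iff]
      intro a ha
      rw [Subgroup.mem_bot]
      apply Subtype.ext
      apply Equiv.ext
      intro x
      have hx : x ∈ fixedPoints K α := by rw [h]; trivial
      exact hx ⟨a, ha⟩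
    haveI hKt : IsPretransitive K α := IsQuasiPreprimitive.isPretransitive_of_normal hfix
    haveI : Nonempty α := by
      rw [← Fintype.card_pos_iff, hα]
      exact hp.pos
    obtain ⟨x₀⟩ := ‹Nonempty α›
    apply hnd
    have h1 := MulAction.index_stabilizer_of_transitive K x₀
    rw [Nat.card_eq_fintype_card, hα] at h1
    rw [← h1]
    exact Subgroup.index_dvd_card _

end Cfsg.Agent.Lib.Helper2.PrimeDeg
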