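import Mathlib
import Cfsg.Agent.Lib.Helper2.PrimeDeg6
import Cfsg.Agent.S0989

set_option autoImplicit false
set_option linter.style.haveILetI false
set_option linter.unusedSectionVars false

/-!
# Transitive groups of prime degree: the order of the Sylow normalizer divides `p (p - 1)`
-/

namespace Cfsg.Agent.Lib.Helper2.PrimeDeg

open MulAction

variable {p : ℕ} [Fact p.Prime] {α : Type*} [Fintype α] [DecidableEq α]

theorem card_normalizer_dvd (hα : Fintype.card α = p) (G : Subgroup (Equiv.Perm α))
    [IsPretransitive G α] (P : Sylow p G) :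
    Nat.card (Subgroup.normalizer ((P : Subgroup G) : Set G)) ∣ p * (p - 1) := by
  classical
  have hp : p.Prime := Fact.out
  have hcardP := card_sylow hα G P
  set P' : Subgroup (Equiv.Perm α) := (P : Subgroup G).map G.subtype with hP'
  have hP'card : Nat.card P' = p := by
    rw [hP', Subgroup.card_map_of_injective G.subtype_injective, hcardP]
  have hpg : IsPGroup p P' := IsPGroup.of_card (n := 1) (by rw [hP'card, pow_one])
  have hidx : ¬ p ∣ P'.index := by
    intro hdvd
    have h1 := Subgroup.card_mul_index P'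
    rw [hP'card, Nat.card_eq_fintype_card, Fintype.card_perm, hα] at h1
    have h2 : p.factorial = p * (p - 1).factorial := by
      conv_lhs => rw [show p = (p - 1) + 1 from (Nat.sub_add_cancel hp.pos).symm]
      rw [Nat.factorial_succ, Nat.sub_add_cancel hp.pos]
    rw [h2] at h1
    have h3 : P'.index = (p - 1).factorial := Nat.eq_of_mul_eq_mul_left hp.pos h1
    rw [h3] at hdvd
    have h4 := (hp.dvd_factorial).mp hdvd
    have := hp.pos
    omega
  set S : Sylow p (Equiv.Perm α) := hpg.toSylow hidx with hS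
  have hScoe : (S : Subgroup (Equiv.Perm α)) = P' := IsPGroup.toSylow_coe hpg hidx
  have hNS := Cfsg.Agent.S0989.result p (Or.inl hα) S
  rw [← hNS]
  have hmem : ∀ g : G, g ∈ Subgroup.normalizer ((P : Subgroup G) : Set G) →
      (g : Equiv.Perm α) ∈ Subgroup.normalizer ((S : Subgroup (Equiv.Perm α)) :
        Set (Equiv.Perm α)) := by
    intro g hg
    have hg' : g⁻¹ ∈ Subgroup.normalizer ((P : Subgroup G) : Set G) := Subgroup.inv_mem _ hg
    rw [Subgroup.mem_normalizer_iff] at hg hg' ⊢
    intro x
    rw [hScoe]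
    constructor
    · rintro ⟨y, hy, rfl⟩
      exact ⟨g * y * g⁻¹, (hg y).mp hy, rfl⟩
    · rintro ⟨y, hy, hyx⟩
      have hy' : g⁻¹ * y * g ∈ (P : Subgroup G) := by
        have := (hg' y).mp hy
        rwa [inv_inv] at this
      refine ⟨g⁻¹ * y * g, hy', ?_⟩
      have h1 : (G.subtype y : Equiv.Perm α) = (g : Equiv.Perm α) * x * (g : Equiv.Perm α)⁻¹ :=
        hyx
      show ((g⁻¹ * y * g : G) : Equiv.Perm α) = x
      rw [Subgroup.coe_mul, Subgroup.coe_mul, Subgroup.coe_inv]
      have h2 : ((y : G) : Equiv.Perm α) = (g : Equiv.Perm α) * x * (g : Equiv.Perm α)⁻¹ := h1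
      rw [h2]
      group
  let φ : Subgroup.normalizer ((P : Subgroup G) : Set G) →*
      Subgroup.normalizer ((S : Subgroup (Equiv.Perm α)) : Set (Equiv.Perm α)) :=
    { toFun := fun g => ⟨((g : G) : Equiv.Perm α), hmem g g.2⟩
      map_one' := rfl
      map_mul' := fun a b => rfl }
  apply Subgroup.card_dvd_of_injective φ
  intro a b hab
  have h1 : ((a : G) : Equiv.Perm α) = ((b : G) : Equiv.Perm α) := by
    have := congrArg Subtype.val hab
    exact this
  exact Subtype.ext (Subtype.ext h1)

end Cfsg.Agent.Lib.Helper2.PrimeDeg
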