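import Mathlib
import Cfsg.Agent.Lib.Helper2.JordanCycle
import Cfsg.Agent.Lib.Helper2.PrimeDeg7

set_option autoImplicit false
set_option linter.style.haveILetI false
set_option linter.unusedSectionVars false

/-!
# Degree 13: basic facts for a transitive group of even permutations not containing `A₁₃`
-/

namespace Cfsg.Agent.Lib.Helper2.AltGen

open MulAction Equiv Equiv.Perm

variable {α : Type*} [Fintype α] [DecidableEq α]

/-- the support of an element of prime order `p` has `(n+1) p` elements -/
theorem support_card_of_orderOf {p : ℕ} (hp : p.Prime) {g : Perm α} (hg : orderOf g = p) :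
    ∃ n : ℕ, g.cycleType = Multiset.replicate (n + 1) p ∧ g.support.card = (n + 1) * p := by
  obtain ⟨n, hn⟩ := Perm.cycleType_prime_order (σ := g) (by rw [hg]; exact hp)
  rw [hg] at hn
  refine ⟨n, hn, ?_⟩
  have hsum := Perm.sum_cycleType g
  rw [hn, Multiset.sum_replicate, smul_eq_mul] at hsum
  exact hsum.symm

/-- an element of prime order `p` with `card α < 2p` is a `p`-cycle -/
theorem isCycle_of_orderOf_lt {p : ℕ} (hp : p.Prime) {g : Perm α} (hg : orderOf g = p)
    (hcard : Fintype.card α < 2 * p) : g.IsCycle ∧ g.support.card = p := by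
  obtain ⟨n, hn, hs⟩ := support_card_of_orderOf hp hg
  have hle : g.support.card ≤ Fintype.card α := Finset.card_le_univ _
  have hn0 : n = 0 := by
    by_contra h
    have : 2 * p ≤ (n + 1) * p := Nat.mul_le_mul_right p (by omega)
    omega
  subst hn0
  refine ⟨?_, by omega⟩
  rw [← Perm.card_cycleType_eq_one, hn]
  simp

/-- The standing hypotheses of Lemma B. -/
structure Ctx13 (G : Subgroup (Perm α)) : Prop where
  card : Fintype.card α = 13
  trans : IsPretransitive G α
  alt : G ≤ alternatingGroup α
  notAlt : ¬ alternatingGroup α ≤ G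

namespace Ctx13

variable {G : Subgroup (Perm α)}

theorem natCard (h : Ctx13 G) : Nat.card α = 13 := by
  rw [Nat.card_eq_fintype_card, h.card]

theorem prim (h : Ctx13 G) : IsPreprimitive G α := by
  haveI := h.trans
  apply IsPreprimitive.of_prime_card
  rw [h.natCard]
  norm_num

/-- no cycles of prime length `≤ 10` -/
theorem no_cycle (h : Ctx13 G) {p : ℕ} (hp : p.Prime) (hp10 : p ≤ 10) {c : Perm α}
    (hc : c.IsCycle) (hcs : c.support.card = p) (hcG : c ∈ G) : False :=
  h.notAlt (JordanCycle.alternatingGroup_le_of_cycle G h.prim hp (by rw [h.card]; omega) hc hcs hcG)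

theorem sign_eq_one (h : Ctx13 G) {c : Perm α} (hcG : c ∈ G) : Perm.sign c = 1 :=
  Perm.mem_alternatingGroup.mp (h.alt hcG)

/-- no element of order 7 -/
theorem no_order_seven (h : Ctx13 G) {c : Perm α} (hcG : c ∈ G) (hc : orderOf c = 7) : False := by
  obtain ⟨h1, h2⟩ := isCycle_of_orderOf_lt (by norm_num : Nat.Prime 7) hc (by rw [h.card]; norm_num)
  exact h.no_cycle (by norm_num) (by norm_num) h1 h2 hcG

theorem not_seven_dvd (h : Ctx13 G) : ¬ 7 ∣ Nat.card G := by
  intro hdvd
  haveI : Fact (Nat.Prime 7) := ⟨by norm_num⟩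
  obtain ⟨c, hc⟩ := exists_prime_orderOf_dvd_card' (G := G) 7 hdvd
  have : orderOf (c : Perm α) = 7 := by rw [Subgroup.orderOf_coe]; exact hc
  exact h.no_order_seven c.2 this

/-- elements of order 5 move exactly ten points -/
theorem order_five (h : Ctx13 G) {c : Perm α} (hcG : c ∈ G) (hc : orderOf c = 5) :
    c.support.card = 10 := by
  obtain ⟨n, hn, hs⟩ := support_card_of_orderOf (by norm_num : Nat.Prime 5) hc
  have hle : c.support.card ≤ Fintype.card α := Finset.card_le_univ _
  rw [h.card] at hle
  have hn1 : n = 0 ∨ n = 1 := by omega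
  rcases hn1 with rfl | rfl
  · exfalso
    have hcyc : c.IsCycle := by
      rw [← Perm.card_cycleType_eq_one, hn]; simp
    exact h.no_cycle (by norm_num : Nat.Prime 5) (by norm_num) hcyc (by omega) hcG
  · omega

/-- a non-trivial element moves at least three points -/
theorem three_le_support (h : Ctx13 G) {c : Perm α} (hcG : c ∈ G) (hc1 : c ≠ 1) :
    3 ≤ c.support.card := by
  by_contra hlt
  have h0 : c.support.card ≠ 0 := by
    rw [Ne, Finset.card_eq_zero, Perm.support_eq_empty_iff]; exact hc1
  have h1 := Perm.card_support_ne_one c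
  have h2 : c.support.card = 2 := by omega
  have := (Perm.card_support_eq_two.mp h2).sign_eq
  rw [h.sign_eq_one hcG] at this
  exact absurd this (by decide)

end Ctx13

end Cfsg.Agent.Lib.Helper2.AltGen
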