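import Mathlib
import Cfsg.Agent.Lib.Helper2.AltGenB1

set_option autoImplicit false
set_option linter.style.haveILetI false
set_option linter.unusedSectionVars false

/-!
# Degree 13: Sylow-13 count, index formulas, 3-transitivity, and a 4-transitivity criterion
-/

namespace Cfsg.Agent.Lib.Helper2.AltGen

open MulAction Equiv Equiv.Perm

/-- A 2-transitive group whose two-point stabilizer is 2-transitive on the remaining points is
4-transitive. -/
theorem four_trans {G α : Type*} [Group G] [MulAction G α]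
    (h2 : IsMultiplyPretransitive G α 2) (a b : α)
    (hK : ∀ c d c' d' : α, c ≠ a → c ≠ b → d ≠ a → d ≠ b → c ≠ d →
      c' ≠ a → c' ≠ b → d' ≠ a → d' ≠ b → c' ≠ d' →
      ∃ k : G, k • a = a ∧ k • b = b ∧ k • c = c' ∧ k • d = d') (hab : a ≠ b) :
    IsMultiplyPretransitive G α 4 := by
  rw [is_two_pretransitive_iff] at h2
  refine ⟨fun e₁ e₂ => ?_⟩
  have hne : ∀ (e : Fin 4 ↪ α) {i j : Fin 4}, i ≠ j → e i ≠ e j :=
    fun e i j hij h => hij (e.injective h)
  obtain ⟨g₁, hg₁a, hg₁b⟩ := h2 (hne e₁ (by decide : (0 : Fin 4) ≠ 1)) hab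
  obtain ⟨g₂, hg₂a, hg₂b⟩ := h2 (hne e₂ (by decide : (0 : Fin 4) ≠ 1)) hab
  have hinj : ∀ (g : G) (e : Fin 4 ↪ α) {i j : Fin 4}, i ≠ j → g • e i ≠ g • e j :=
    fun g e i j hij h => hne e hij (smul_left_cancel g h)
  obtain ⟨k, hka, hkb, hkc, hkd⟩ := hK (g₁ • e₁ 2) (g₁ • e₁ 3) (g₂ • e₂ 2) (g₂ • e₂ 3)
    (by rw [← hg₁a]; exact hinj g₁ e₁ (by decide))
    (by rw [← hg₁b]; exact hinj g₁ e₁ (by decide))
    (by rw [← hg₁a]; exact hinj g₁ e₁ (by decide))
    (by rw [← hg₁b]; exact hinj g₁ e₁ (by decide))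
    (hinj g₁ e₁ (by decide))
    (by rw [← hg₂a]; exact hinj g₂ e₂ (by decide))
    (by rw [← hg₂b]; exact hinj g₂ e₂ (by decide))
    (by rw [← hg₂a]; exact hinj g₂ e₂ (by decide))
    (by rw [← hg₂b]; exact hinj g₂ e₂ (by decide))
    (hinj g₂ e₂ (by decide))
  refine ⟨g₂⁻¹ * k * g₁, ?_⟩
  ext i
  show (g₂⁻¹ * k * g₁) • e₁ i = e₂ i
  rw [mul_smul, mul_smul, inv_smul_eq_iff]
  fin_cases i
  · show k • g₁ • e₁ 0 = g₂ • e₂ 0
    rw [hg₁a, hg₂a, hka]
  · show k • g₁ • e₁ 1 = g₂ • e₂ 1
    rw [hg₁b, hg₂b, hkb]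
  · exact hkc
  · exact hkd

variable {α : Type*} [Fintype α] [DecidableEq α] {G : Subgroup (Perm α)}

namespace Ctx13

/-- the Sylow 13 count -/
theorem sylow13 (h : Ctx13 G) :
    ∃ r n : ℕ, r ∣ 12 ∧ n % 13 = 1 ∧ Nat.card G = 13 * r * n := by
  classical
  haveI : Fact (Nat.Prime 13) := ⟨by norm_num⟩
  haveI := h.trans
  obtain ⟨P⟩ : Nonempty (Sylow 13 G) := inferInstance
  have hcardP := PrimeDeg.card_sylow h.card G P
  set N : Subgroup G := Subgroup.normalizer ((P : Subgroup G) : Set G) with hN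
  have hNdvd : Nat.card N ∣ 13 * (13 - 1) := PrimeDeg.card_normalizer_dvd h.card G P
  have hPN : 13 ∣ Nat.card N := by
    rw [← hcardP]
    exact Subgroup.card_dvd_of_le Subgroup.le_normalizer
  obtain ⟨r, hr⟩ := hPN
  have hr12 : r ∣ 12 := by
    rw [hr] at hNdvd
    exact Nat.dvd_of_mul_dvd_mul_left (by norm_num : 0 < 13) (show 13 * r ∣ 13 * 12 from hNdvd)
  have hn1 : Nat.card (Sylow 13 G) % 13 = 1 := card_sylow_modEq_one 13 G
  have hnidx : Nat.card (Sylow 13 G) = N.index := Sylow.card_eq_index_normalizer P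
  refine ⟨r, N.index, hr12, by rw [← hnidx]; exact hn1, ?_⟩
  rw [← hr]
  exact (Subgroup.card_mul_index N).symm

/-- order of a 2-transitive such group in terms of a two-point stabilizer -/
theorem card_eq_two (h : Ctx13 G) (h2 : IsMultiplyPretransitive G α 2) {s : Set α}
    (hs : s.ncard = 2) : Nat.card G = 156 * Nat.card (fixingSubgroup G s) := by
  have h1 := h2.index_of_fixingSubgroup_mul (s := s) hs
  rw [h.natCard] at h1
  have e2 : (13 - 2).factorial = 39916800 := by decide
  have e3 : (13 : ℕ).factorial = 156 * 39916800 := by decide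
  rw [e2, e3] at h1
  have h4 : (fixingSubgroup G s).index = 156 := Nat.eq_of_mul_eq_mul_right (by norm_num) h1
  have h5 := Subgroup.card_mul_index (fixingSubgroup G s)
  rw [h4] at h5
  rw [← h5, mul_comm]

/-- order of a 4-transitive such group in terms of a four-point stabilizer -/
theorem card_eq_four (h : Ctx13 G) (h4 : IsMultiplyPretransitive G α 4) {s : Set α}
    (hs : s.ncard = 4) : Nat.card G = 17160 * Nat.card (fixingSubgroup G s) := by
  have h1 := h4.index_of_fixingSubgroup_mul (s := s) hs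
  rw [h.natCard] at h1
  have e2 : (13 - 4).factorial = 362880 := by decide
  have e3 : (13 : ℕ).factorial = 17160 * 362880 := by decide
  rw [e2, e3] at h1
  have h4 : (fixingSubgroup G s).index = 17160 := Nat.eq_of_mul_eq_mul_right (by norm_num) h1
  have h5 := Subgroup.card_mul_index (fixingSubgroup G s)
  rw [h4] at h5
  rw [← h5, mul_comm]

/-- 3-transitivity from an 11-cycle -/
theorem three_trans (h : Ctx13 G) {x : Perm α} (hxc : x.IsCycle) (hxs : x.support.card = 11)
    (hx : x ∈ G) : IsMultiplyPretransitive G α 3 := by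
  classical
  suffices IsMultiplyPreprimitive G α (1 + 2) from
    IsMultiplyPreprimitive.isMultiplyPretransitive ..
  apply h.prim.isMultiplyPreprimitive (s := (x.supportᶜ : Set α))
  · apply Nat.add_left_cancel (n := 11)
    have := Set.ncard_add_ncard_compl (x.support : Set α)
    rw [Set.ncard_coe_finset, hxs, h.natCard] at this
    omega
  · rw [h.natCard]; norm_num
  have := isPretransitive_of_isCycle_mem hxc hx
  apply IsPreprimitive.of_prime_card
  convert (by norm_num : Nat.Prime 11)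
  rw [Nat.card_eq_fintype_card, Fintype.card_subtype, ← hxs]
  apply congr_arg
  ext y
  simp [SubMulAction.mem_ofFixingSubgroup_iff]

end Ctx13

end Cfsg.Agent.Lib.Helper2.AltGen
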