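import Mathlib
import Cfsg.Agent.Lib.Helper2.AltGenB2

set_option autoImplicit false
set_option linter.style.haveILetI false
set_option linter.unusedSectionVars false

/-!
# Restriction of the pointwise stabilizer of `Sᶜ` to `S`
-/

namespace Cfsg.Agent.Lib.Helper2.AltGen

open MulAction Equiv Equiv.Perm

variable {α : Type*} [Fintype α] [DecidableEq α]

section restrict

variable (G : Subgroup (Perm α)) (S : Finset α)

theorem mem_iff_of_fix {k : Perm α} (hk : ∀ a, a ∉ S → k a = a) (a : α) : k a ∈ S ↔ a ∈ S := by
  constructor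
  · intro h
    by_contra ha
    rw [hk a ha] at h
    exact ha h
  · intro h
    by_contra ha
    have h1 := hk (k a) ha
    have h2 : k a = a := k.injective h1
    rw [h2] at ha
    exact ha h

theorem fix_of_mem_KS (k : fixingSubgroup G ((S : Set α)ᶜ)) (a : α) (ha : a ∉ S) :
    ((k : G) : Perm α) a = a := by
  have := k.2
  rw [mem_fixingSubgroup_iff] at this
  exact this a (by simpa using ha)

/-- the restriction homomorphism -/
def rho : fixingSubgroup G ((S : Set α)ᶜ) →* Perm S where
  toFun k := subtypePerm ((k : G) : Perm α) (mem_iff_of_fix S (fix_of_mem_KS G S k))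
  map_one' := by ext a; rfl
  map_mul' k₁ k₂ := by ext a; rfl

theorem rho_apply (k : fixingSubgroup G ((S : Set α)ᶜ)) (a : S) :
    ((rho G S k a : S) : α) = ((k : G) : Perm α) a := rfl

theorem rho_injective : Function.Injective (rho G S) := by
  rw [injective_iff_map_eq_one]
  intro k hk
  apply Subtype.ext
  apply Subtype.ext
  ext a
  by_cases ha : a ∈ S
  · have := congrArg (fun f : Perm S => ((f ⟨a, ha⟩ : S) : α)) hk
    simpa [rho_apply] using this
  · rw [fix_of_mem_KS G S k a ha]; rfl

theorem sign_rho (k : fixingSubgroup G ((S : Set α)ᶜ)) :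
    Perm.sign (rho G S k) = Perm.sign ((k : G) : Perm α) := by
  have h := sign_subtypePerm ((k : G) : Perm α) (p := (· ∈ S))
    (mem_iff_of_fix S (fix_of_mem_KS G S k)) (by
      intro a ha
      by_contra h
      exact ha (fix_of_mem_KS G S k a h))
  rw [← h]
  congr!

theorem card_range_rho :
    Nat.card (rho G S).range = Nat.card (fixingSubgroup G ((S : Set α)ᶜ)) :=
  (Nat.card_congr (MonoidHom.ofInjective (rho_injective G S)).toEquiv).symm

end restrict

variable {G : Subgroup (Perm α)}

/-- an element of `G` fixing the complement of `S` pointwise, as an element of the stabilizer -/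
def toKS (S : Finset α) (c : Perm α) (hcG : c ∈ G) (hc : ∀ a, a ∉ S → c a = a) :
    fixingSubgroup G ((S : Set α)ᶜ) :=
  ⟨⟨c, hcG⟩, by
    rw [mem_fixingSubgroup_iff]
    intro a ha
    exact hc a (by simpa using ha)⟩

theorem isPretransitive_range_rho {x : Perm α} (hxc : x.IsCycle) (hx : x ∈ G) :
    IsPretransitive (rho G x.support).range x.support := by
  refine ⟨fun a b => ?_⟩
  have ha : x a ≠ a := Perm.mem_support.mp a.2
  have hb : x b ≠ b := Perm.mem_support.mp b.2
  obtain ⟨i, hi⟩ := hxc.exists_zpow_eq ha hb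
  have hfix : ∀ c, c ∉ x.support → (x ^ i) c = c := by
    intro c hc
    rw [Perm.notMem_support] at hc
    exact Perm.zpow_apply_eq_self_of_apply_eq_self hc i
  refine ⟨⟨rho G x.support (toKS x.support (x ^ i) (G.zpow_mem hx i) hfix), ⟨_, rfl⟩⟩, ?_⟩
  apply Subtype.ext
  exact hi

end Cfsg.Agent.Lib.Helper2.AltGen
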