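import Mathlib

set_option autoImplicit false
set_option linter.style.haveILetI false
set_option linter.unusedSectionVars false

/-!
# A group of order `(ℓ+1)ℓ` with a self-normalizing subgroup of prime order `ℓ`
has `ℓ + 1` a prime power (here: `6 ∤ ℓ + 1`).
-/

namespace Cfsg.Agent.Lib.Helper2.AltGen

/-- "sharply 2-transitive groups have prime power degree", in the form used here. -/
theorem sh2t {H : Type*} [Group H] [Finite H] {ℓ : ℕ} (hℓ : ℓ.Prime) (Q : Subgroup H)
    (hQ : Nat.card Q = ℓ) (hN : Subgroup.normalizer (Q : Set H) = Q)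
    (hH : Nat.card H = (ℓ + 1) * ℓ) (h2 : 2 ∣ ℓ + 1) (h3 : 3 ∣ ℓ + 1) : False := by
  classical
  haveI : Fact ℓ.Prime := ⟨hℓ⟩
  have hndvd : ¬ ℓ ∣ ℓ + 1 := by
    intro h
    have : ℓ ∣ 1 := (Nat.dvd_add_right (dvd_refl ℓ)).mp h
    exact hℓ.one_lt.ne' (Nat.dvd_one.mp this)
  have hfact : (Nat.card H).factorization ℓ = 1 := by
    rw [hH, Nat.factorization_mul (by omega) hℓ.pos.ne', Finsupp.add_apply,
      Nat.factorization_eq_zero_of_not_dvd hndvd, hℓ.factorization_self]
  let P : Sylow ℓ H := Sylow.ofCard Q (by rw [hQ, hfact, pow_one])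
  have hPQ : (P : Subgroup H) = Q := rfl
  haveI : IsCyclic Q := isCyclic_of_prime_card hQ
  have hcomm : ∀ a ∈ Q, ∀ b ∈ Q, a * b = b * a := by
    intro a ha b hb
    have := IsCyclic.commGroup.mul_comm (⟨a, ha⟩ : Q) ⟨b, hb⟩
    exact congrArg Subtype.val this
  have hP : Subgroup.normalizer ((P : Subgroup H) : Set H)
      ≤ Subgroup.centralizer ((P : Subgroup H) : Set H) := by
    rw [hPQ, hN]
    intro x hx
    rw [Subgroup.mem_centralizer_iff]
    intro y hy
    exact hcomm y hy x hx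
  have hcompl := MonoidHom.ker_transferSylow_isComplement' P hP
  set M : Subgroup H := (MonoidHom.transferSylow P hP).ker with hM
  have hMnormal : M.Normal := MonoidHom.normal_ker _
  have hMcard : Nat.card M = ℓ + 1 := by
    have h1 := hcompl.card_mul_card
    rw [hPQ, hQ, hH] at h1
    exact Nat.eq_of_mul_eq_mul_right hℓ.pos h1
  have hdisj : ∀ x, x ∈ M → x ∈ Q → x = 1 := by
    intro x hxM hxQ
    have := hcompl.disjoint
    rw [Subgroup.disjoint_def] at this
    exact this hxM (by rw [hPQ]; exact hxQ)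
  -- elements of order 2 and 3 in `M`
  obtain ⟨m₂, hm₂⟩ := exists_prime_orderOf_dvd_card' (G := M) 2 (by rw [hMcard]; exact h2)
  obtain ⟨m₃, hm₃⟩ := exists_prime_orderOf_dvd_card' (G := M) 3 (by rw [hMcard]; exact h3)
  have hm₂' : orderOf (m₂ : H) = 2 := by rw [Subgroup.orderOf_coe]; exact hm₂
  have hm₃' : orderOf (m₃ : H) = 3 := by rw [Subgroup.orderOf_coe]; exact hm₃
  have hm₂1 : (m₂ : H) ≠ 1 := by
    intro h
    rw [h, orderOf_one] at hm₂'
    omega
  -- an element of `M` commuting with a non-trivial element of `Q` is trivial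
  have hkey : ∀ m ∈ M, ∀ c ∈ Q, c ≠ 1 → c * m = m * c → m = 1 := by
    intro m hm c hc hc1 hcm
    apply hdisj m hm
    rw [← hN, Subgroup.mem_normalizer_iff]
    -- `m` centralizes `Q`
    have hgen : ∀ q ∈ Q, q * m = m * q := by
      intro q hq
      have hc1' : (⟨c, hc⟩ : Q) ≠ 1 := fun h => hc1 (congrArg Subtype.val h)
      have h1 : (⟨q, hq⟩ : Q) ∈ Subgroup.zpowers (⟨c, hc⟩ : Q) := by
        rw [zpowers_eq_top_of_prime_card hQ hc1']
        exact Subgroup.mem_top _
      obtain ⟨k, hk⟩ := Subgroup.mem_zpowers_iff.mp h1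
      have hk' : c ^ k = q := by
        have := congrArg Subtype.val hk
        simpa using this
      rw [← hk']
      have hcomm' : Commute c m := hcm
      exact (hcomm'.zpow_left k).eq
    intro q
    constructor
    · intro hq
      have : m * q * m⁻¹ = q := by rw [← hgen q hq, mul_inv_cancel_right]
      rw [this]; exact hq
    · intro hq
      have h2 := hgen _ hq
      have : q = m * q * m⁻¹ := by
        have h3 : m * q * m⁻¹ * m = m * (m * q * m⁻¹) := h2
        have h4 : m * q = m * (m * q * m⁻¹) := by simpa using h3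
        exact mul_left_cancel h4
      rw [this]; exact hq
  -- the conjugation map `Q → M \ {1}`
  let f : Q → H := fun q => (q : H) * m₂ * (q : H)⁻¹
  have hfM : ∀ q, f q ∈ M := fun q => hMnormal.conj_mem _ m₂.2 _
  have hf1 : ∀ q, f q ≠ 1 := by
    intro q h
    apply hm₂1
    have : (q : H) * m₂ * (q : H)⁻¹ = 1 := h
    have h2 : (q : H) * m₂ = q := by
      have := congrArg (· * (q : H)) this
      simpa using this
    exact mul_left_cancel (a := (q : H)) (by rw [h2, mul_one])
  have hfinj : Function.Injective f := by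
    intro q₁ q₂ h
    by_contra hne
    have hc1 : (q₂ : H)⁻¹ * q₁ ≠ 1 := by
      intro h1
      apply hne
      apply Subtype.ext
      have := inv_mul_eq_one.mp h1
      exact this.symm
    have hcQ : (q₂ : H)⁻¹ * q₁ ∈ Q := Q.mul_mem (Q.inv_mem q₂.2) q₁.2
    have hcomm2 : (q₂ : H)⁻¹ * q₁ * m₂ = m₂ * ((q₂ : H)⁻¹ * q₁) := by
      have h1 : (q₁ : H) * m₂ * (q₁ : H)⁻¹ = (q₂ : H) * m₂ * (q₂ : H)⁻¹ := h
      calc (q₂ : H)⁻¹ * q₁ * m₂ = (q₂ : H)⁻¹ * ((q₁ : H) * m₂ * (q₁ : H)⁻¹) * q₁ := by group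
        _ = (q₂ : H)⁻¹ * ((q₂ : H) * m₂ * (q₂ : H)⁻¹) * q₁ := by rw [h1]
        _ = m₂ * ((q₂ : H)⁻¹ * q₁) := by group
    exact hm₂1 (hkey m₂ m₂.2 _ hcQ hc1 hcomm2)
  -- the image is all of `M \ {1}`
  have himg : Set.range f = (M : Set H) \ {1} := by
    apply Set.eq_of_subset_of_ncard_le
    · rintro _ ⟨q, rfl⟩
      exact ⟨hfM q, hf1 q⟩
    · have h1 : (Set.range f).ncard = ℓ := by
        rw [← Nat.card_coe_set_eq, Nat.card_range_of_injective hfinj, hQ]
      have h2 : ((M : Set H) \ {1}).ncard = ℓ := by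
        rw [Set.ncard_sdiff (by simp [M.one_mem]) (Set.finite_singleton 1), Set.ncard_singleton,
          ← Nat.card_coe_set_eq]
        have : Nat.card (M : Set H) = ℓ + 1 := hMcard
        omega
      rw [h1, h2]
    · exact Set.toFinite _
  have hm₃mem : (m₃ : H) ∈ (M : Set H) \ {1} := by
    refine ⟨m₃.2, ?_⟩
    intro h
    rw [Set.mem_singleton_iff] at h
    rw [h, orderOf_one] at hm₃'
    omega
  rw [← himg] at hm₃mem
  obtain ⟨q, hq⟩ := hm₃mem
  have : orderOf (f q) = 2 := by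
    show orderOf ((q : H) * m₂ * (q : H)⁻¹) = 2
    rw [← hm₂']
    exact (MulAut.conj (q : H)).orderOf_eq (m₂ : H)
  rw [hq, hm₃'] at this
  omega

end Cfsg.Agent.Lib.Helper2.AltGen
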