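import Mathlib
import Cfsg.Agent.Lib.Helper2.PrimeDeg3

set_option autoImplicit false
set_option linter.style.haveILetI false
set_option linter.unusedSectionVars false

/-!
# Solvable transitive groups of prime degree: subgroups of index `p` containing an involution fix
a point
-/

namespace Cfsg.Agent.Lib.Helper2.PrimeDeg

open MulAction

variable {p : ℕ} [Fact p.Prime] {α : Type*} [Fintype α] [DecidableEq α]

/-- an element normalizing the cycle acts affinely in the coordinates -/
theorem affine_of_conj {σ g : Equiv.Perm α} {e : ZMod p ≃ α} (hσe : ∀ j, σ (e j) = e (j + 1))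
    {n : ℕ} (hn : g * σ * g⁻¹ = σ ^ n) :
    ∀ j, g (e j) = e ((n : ZMod p) * j + e.symm (g (e 0))) := by
  have hconjpow : ∀ k : ℕ, g * σ ^ k = (σ ^ n) ^ k * g := by
    intro k
    have h1 : g * σ ^ k * g⁻¹ = (σ ^ n) ^ k := by
      rw [← hn, conj_pow]
    calc g * σ ^ k = g * σ ^ k * g⁻¹ * g := by group
      _ = (σ ^ n) ^ k * g := by rw [h1]
  intro j
  have h1 : e j = (σ ^ j.val) (e 0) := by
    rw [coord_pow hσe, zero_add, ZMod.natCast_zmod_val]
  have h2 : g ((σ ^ j.val) (e 0)) = ((σ ^ n) ^ j.val) (g (e 0)) := by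
    have := congrArg (fun f : Equiv.Perm α => f (e 0)) (hconjpow j.val)
    simpa [Equiv.Perm.mul_apply] using this
  rw [h1, h2, ← pow_mul]
  conv_lhs => rw [← e.apply_symm_apply (g (e 0))]
  rw [coord_pow hσe, Nat.cast_mul, ZMod.natCast_zmod_val, add_comm]

/-- a solvable transitive group of prime degree has a normal cycle -/
theorem exists_normal_cycle (hα : Fintype.card α = p) (G : Subgroup (Equiv.Perm α))
    [IsPretransitive G α] (hsolv : Group.IsSolvable G) :
    ∃ τ : Equiv.Perm α, τ ∈ G ∧ orderOf τ = p ∧ ∀ g ∈ G, ∃ n : ℕ, g * τ * g⁻¹ = τ ^ n := by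
  classical
  have hp : p.Prime := Fact.out
  haveI : Nonempty α := by
    rw [← Fintype.card_pos_iff, hα]
    exact hp.pos
  obtain ⟨x₀⟩ := ‹Nonempty α›
  -- the group is non-trivial
  have hGne : (⊤ : Subgroup G) ≠ ⊥ := by
    intro h
    have h1 : Nat.card G = 1 := by
      rw [← Subgroup.card_top (G := G), h, Subgroup.card_bot]
    have h2 := MulAction.index_stabilizer_of_transitive G x₀
    rw [Nat.card_eq_fintype_card, hα] at h2
    have h3 := Subgroup.index_dvd_card (stabilizer G x₀)
    rw [h2, h1] at h3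
    exact hp.one_lt.ne' (Nat.dvd_one.mp h3)
  -- a non-trivial abelian normal subgroup
  obtain ⟨n, hn⟩ := (isSolvable_def G).mp hsolv
  have hex : ∃ m, derivedSeries G (m + 1) = ⊥ ∧ derivedSeries G m ≠ ⊥ := by
    induction n with
    | zero =>
      exfalso
      rw [derivedSeries_zero] at hn
      exact hGne hn
    | succ n ih =>
      by_cases h : derivedSeries G n = ⊥
      · exact ih h
      · exact ⟨n, hn, h⟩
  obtain ⟨m, hm1, hm0⟩ := hex
  set A : Subgroup G := derivedSeries G m with hA
  haveI hAn : A.Normal := derivedSeries_normal G m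
  have hAcomm : ∀ x ∈ A, ∀ y ∈ A, x * y = y * x := by
    intro x hx y hy
    have h1 : ⁅A, A⁆ = ⊥ := hm1
    rw [Subgroup.commutator_eq_bot_iff_le_centralizer] at h1
    exact (Subgroup.mem_centralizer_iff.mp (h1 hx) y hy).symm
  -- transitivity
  haveI : IsPreprimitive G α :=
    IsPreprimitive.of_prime_card (by rw [Nat.card_eq_fintype_card, hα]; exact hp)
  have hfix : fixedPoints A α ≠ Set.univ := by
    intro h
    apply hm0
    rw [eq_bot_iff]
    intro a ha
    rw [Subgroup.mem_bot]
    apply Subtype.ext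
    apply Equiv.ext
    intro x
    have hx : x ∈ fixedPoints A α := by rw [h]; trivial
    exact hx ⟨a, ha⟩
  haveI hAt : IsPretransitive A α := IsQuasiPreprimitive.isPretransitive_of_normal hfix
  have hAreg : ∀ a ∈ A, ∀ x : α, a • x = x → a = 1 := by
    intro a ha x hax
    apply Subtype.ext
    apply Equiv.ext
    intro y
    obtain ⟨b, hb⟩ := hAt.exists_smul_eq x y
    have hb' : (b : G) • x = y := hb
    show a • y = y
    rw [← hb', ← mul_smul, hAcomm a ha b b.2, mul_smul, hax]
  have hAcard : Nat.card A = p := by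
    rw [← hα, ← Nat.card_eq_fintype_card]
    apply Nat.card_congr
    refine Equiv.ofBijective (fun a : A => (a : G) • x₀) ⟨?_, ?_⟩
    · intro a b hab
      have hab' : (a : G) • x₀ = (b : G) • x₀ := hab
      have h1 : ((b : G)⁻¹ * (a : G)) • x₀ = x₀ := by
        rw [mul_smul, hab', inv_smul_smul]
      have h2 := hAreg _ (A.mul_mem (A.inv_mem b.2) a.2) x₀ h1
      apply Subtype.ext
      calc (a : G) = (b : G) * ((b : G)⁻¹ * (a : G)) := by group
        _ = (b : G) := by rw [h2, mul_one]
    · intro y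
      obtain ⟨b, hb⟩ := hAt.exists_smul_eq x₀ y
      exact ⟨b, hb⟩
  -- a generator
  have h1lt : 1 < Nat.card A := by rw [hAcard]; exact hp.one_lt
  haveI : Finite A := Nat.finite_of_card_ne_zero (by omega)
  haveI : Nontrivial A := Finite.one_lt_card_iff_nontrivial.mp h1lt
  obtain ⟨τ', hτ'⟩ := exists_ne (1 : A)
  refine ⟨((τ' : G) : Equiv.Perm α), (τ' : G).2, ?_, ?_⟩
  · have h1 : orderOf τ' ∣ p := by
      have := orderOf_dvd_natCard τ'
      rwa [hAcard] at this
    have h2 : orderOf ((τ' : G) : Equiv.Perm α) = orderOf τ' := by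
      rw [Subgroup.orderOf_coe, Subgroup.orderOf_coe]
    rw [h2]
    rcases (Nat.dvd_prime hp).mp h1 with h | h
    · exact absurd (orderOf_eq_one_iff.mp h) hτ'
    · exact h
  · intro g hg
    have hmem : (⟨g, hg⟩ : G) * (τ' : G) * (⟨g, hg⟩ : G)⁻¹ ∈ A := hAn.conj_mem _ τ'.2 _
    obtain ⟨n, hn⟩ := mem_powers_of_prime_card hAcard hτ' (g' := (⟨_, hmem⟩ : A))
    refine ⟨n, ?_⟩
    have h1 := congrArg (fun x : A => ((x : G) : Equiv.Perm α)) hn
    simp only [Subgroup.coe_pow, Subgroup.coe_mul, Subgroup.coe_inv] at h1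
    exact h1.symm

theorem solvable_case (hα : Fintype.card α = p) (hp2 : p ≠ 2) (G : Subgroup (Equiv.Perm α))
    [IsPretransitive G α] (hsolv : Group.IsSolvable G) {t : Equiv.Perm α} (htG : t ∈ G)
    (htt : t * t = 1) (ht1 : t ≠ 1) (H : Subgroup G) (hH : H.index = p)
    (htH : (⟨t, htG⟩ : G) ∈ H) : ∃ a : α, H ≤ stabilizer G a := by
  classical
  have hp : p.Prime := Fact.out
  have hnd := not_dvd_card_of_index G hα H hH
  have h2ne : (2 : ZMod p) ≠ 0 := by
    intro h
    have h4 : ((2 : ℕ) : ZMod p) = 0 := by exact_mod_cast h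
    rw [ZMod.natCast_eq_zero_iff] at h4
    have := Nat.le_of_dvd (by norm_num) h4
    have := hp.two_le
    omega
  obtain ⟨τ, hτG, hτord, hτnorm⟩ := exists_normal_cycle hα G hsolv
  have hodd : Odd (Fintype.card α) := by
    rw [hα]
    exact hp.odd_of_ne_two hp2
  obtain ⟨a₀, ha₀⟩ := exists_fixed_of_invol hodd t htt
  obtain ⟨e, he0, he⟩ := exists_coord_of hα τ hτord a₀
  -- the involution in coordinates
  obtain ⟨nt, hnt⟩ := hτnorm t htG
  have hte' := affine_of_conj he hnt
  have hte0 : e.symm (t (e 0)) = 0 := by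
    rw [he0, ha₀, ← he0, Equiv.symm_apply_apply]
  have hte'' : ∀ j, t (e j) = e ((nt : ZMod p) * j) := by
    intro j
    rw [hte' j, hte0, add_zero]
  have hn2 : (nt : ZMod p) * (nt : ZMod p) = 1 := by
    have h1 : t (t (e 1)) = e 1 := by
      have := congrArg (fun f : Equiv.Perm α => f (e 1)) htt
      simpa [Equiv.Perm.mul_apply] using this
    rw [hte'', hte'', mul_one] at h1
    exact e.injective h1
  have hnt' : (nt : ZMod p) = -1 := by
    rcases mul_self_eq_one_iff.mp hn2 with h | h
    · exfalso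
      apply ht1
      apply Equiv.ext
      intro x
      obtain ⟨j, rfl⟩ := e.surjective x
      rw [hte'', h, one_mul]
      rfl
    · exact h
  have hte : ∀ j, t (e j) = e (-j) := by
    intro j
    rw [hte'', hnt', neg_one_mul]
  have htinv : t⁻¹ = t := inv_eq_of_mul_eq_one_right htt
  refine ⟨e 0, ?_⟩
  intro h hh
  rw [mem_stabilizer_iff]
  obtain ⟨nh, hnh⟩ := hτnorm (h : Equiv.Perm α) h.2
  have hhe := affine_of_conj he hnh
  set c : ZMod p := e.symm ((h : Equiv.Perm α) (e 0)) with hc
  set k : ZMod p := (nh : ZMod p) with hk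
  show (h : Equiv.Perm α) (e 0) = e 0
  by_contra hne
  have hc0 : c ≠ 0 := by
    intro h0
    apply hne
    rw [← e.apply_symm_apply ((h : Equiv.Perm α) (e 0)), ← hc, h0]
  have hk0 : k ≠ 0 := by
    intro h0
    have h1 := hhe 0
    have h2 := hhe 1
    rw [h0, zero_mul, zero_add] at h1 h2
    have h3 : e 0 = e 1 := (h : Equiv.Perm α).injective (h1.trans h2.symm)
    have h4 : (0 : ZMod p) = 1 := e.injective h3
    haveI : Nontrivial (ZMod p) := ZMod.nontrivial_iff.mpr hp.one_lt.ne'
    exact zero_ne_one h4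
  -- the commutator is a translation
  let tG : G := ⟨t, htG⟩
  set u : G := h * tG * h⁻¹ * tG⁻¹ with hu
  have huH : u ∈ H := H.mul_mem (H.mul_mem (H.mul_mem hh htH) (H.inv_mem hh)) (H.inv_mem htH)
  have hu_act : ∀ m : ZMod p, (u : Equiv.Perm α) (e m) = e (m + 2 * c) := by
    intro m
    -- write `m = -k j - c`
    set j : ZMod p := -(m + c) * k⁻¹ with hj
    have hkj : k * j = -(m + c) := by
      rw [hj, mul_comm (-(m + c)), ← mul_assoc, mul_inv_cancel₀ hk0, one_mul]
    have h1 : ((tG * h : G) : Equiv.Perm α) (e j) = e m := by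
      show t ((h : Equiv.Perm α) (e j)) = e m
      rw [hhe j, hte, hkj]
      congr 1
      ring
    have h2 : ((h * tG : G) : Equiv.Perm α) (e j) = e (m + 2 * c) := by
      show (h : Equiv.Perm α) (t (e j)) = e (m + 2 * c)
      rw [hte, hhe, mul_neg, hkj]
      congr 1
      ring
    have h3 : u * (tG * h) = h * tG := by
      rw [hu]
      group
    rw [← h1, ← h2, ← h3]
    rfl
  have hu1 : u ≠ 1 := by
    intro h0
    have h1 := hu_act 0
    rw [h0, zero_add] at h1
    have h2 : (0 : ZMod p) = 2 * c := e.injective h1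
    exact (mul_ne_zero h2ne hc0) h2.symm
  have hupow : ∀ (n : ℕ) (m : ZMod p), ((u ^ n : G) : Equiv.Perm α) (e m) = e (m + n * (2 * c)) := by
    intro n
    induction n with
    | zero => intro m; rw [pow_zero, Nat.cast_zero, zero_mul, add_zero]; rfl
    | succ n ih =>
      intro m
      rw [pow_succ', Subgroup.coe_mul, Equiv.Perm.mul_apply, ih, hu_act, Nat.cast_succ]
      congr 1
      ring
  have hup : u ^ p = 1 := by
    apply Subtype.ext
    apply Equiv.ext
    intro x
    obtain ⟨m, rfl⟩ := e.surjective x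
    rw [hupow, ZMod.natCast_self, zero_mul, add_zero]
    rfl
  have hord : orderOf (⟨u, huH⟩ : H) = p := by
    apply orderOf_eq_prime
    · apply Subtype.ext
      rw [Subgroup.coe_pow]
      exact hup
    · intro h3
      exact hu1 (congrArg Subtype.val h3)
  apply hnd
  rw [← hord]
  exact orderOf_dvd_natCard _

end Cfsg.Agent.Lib.Helper2.PrimeDeg
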