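import Mathlib
import Cfsg.Agent.Lib.Helper2.AltGenB3
import Cfsg.Agent.Lib.Helper2.AltGenS
import Cfsg.Agent.Lib.Helper2.PrimeDeg5

set_option autoImplicit false
set_option linter.style.haveILetI false
set_option linter.unusedSectionVars false

/-!
# Degree 13: the case where the two-point stabilizer is solvable
-/

namespace Cfsg.Agent.Lib.Helper2.AltGen

open MulAction Equiv Equiv.Perm

/-- an even involution on 11 points has two fixed points -/
theorem two_fixed_of_even_involution {β : Type*} [Fintype β] [DecidableEq β]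
    (hβ : Fintype.card β = 11) (t : Perm β) (ht : orderOf t = 2) (hs : Perm.sign t = 1) :
    ∃ c c' : β, c ≠ c' ∧ t c = c ∧ t c' = c' := by
  obtain ⟨n, hn, hcard⟩ := support_card_of_orderOf (by norm_num : Nat.Prime 2) ht
  have hsign := Perm.sign_of_cycleType t
  rw [Perm.sum_cycleType, hn, Multiset.card_replicate, hcard, hs] at hsign
  have heven : Even ((n + 1) * 2 + (n + 1)) :=
    (neg_one_pow_eq_one_iff_even (by decide : (-1 : ℤˣ) ≠ 1)).mp hsign.symm
  have hle : t.support.card ≤ Fintype.card β := Finset.card_le_univ _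
  rw [hcard, hβ] at hle
  have hcompl : 1 < (t.supportᶜ).card := by
    rw [Finset.card_compl, hβ, hcard]
    obtain ⟨m, hm⟩ := heven
    omega
  obtain ⟨c, hc, c', hc', hne⟩ := Finset.one_lt_card.mp hcompl
  refine ⟨c, c', hne, ?_, ?_⟩
  · simpa using hc
  · simpa using hc'

theorem arith_solv (r n s : ℕ) (hr : r ∣ 12) (hs : s ∣ 10) (hn : n % 13 = 1)
    (h : 156 * (11 * s) = 13 * r * n) : s = 1 ∨ s = 2 := by
  have hr12 : r ≤ 12 := Nat.le_of_dvd (by norm_num) hr
  have hs10 : s ≤ 10 := Nat.le_of_dvd (by norm_num) hs
  interval_cases r <;> interval_cases s <;> omega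

variable {α : Type*} [Fintype α] [DecidableEq α] {G : Subgroup (Perm α)}

namespace Ctx13

theorem solvable_case (h : Ctx13 G) {x : Perm α} (hxc : x.IsCycle) (hxs : x.support.card = 11)
    (hx : x ∈ G) (hsolv : Group.IsSolvable (rho G x.support).range) : False := by
  classical
  haveI : Fact (Nat.Prime 11) := ⟨by norm_num⟩
  set S := x.support with hSdef
  have hS : Fintype.card S = 11 := by rw [Fintype.card_coe, hxs]
  set L := (rho G S).range with hL
  haveI : IsPretransitive L S := isPretransitive_range_rho hxc hx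
  obtain ⟨τ, hτL, hτ11, hτn⟩ := PrimeDeg.exists_normal_cycle hS L hsolv
  -- the order of `L`
  have hLdvd : Nat.card L ∣ 11 * 10 := by
    set τL : L := ⟨τ, hτL⟩ with hτLdef
    have hτLord : orderOf τL = 11 := by rw [← hτ11, ← Subgroup.orderOf_coe]
    set Z : Subgroup L := Subgroup.zpowers τL with hZ
    have hZcard : Nat.card Z = 11 := by rw [Nat.card_zpowers, hτLord]
    have hZnormal : Z.Normal := by
      constructor
      intro z hz g
      obtain ⟨i, rfl⟩ := Subgroup.mem_zpowers_iff.mp hz
      obtain ⟨m, hm⟩ := hτn g g.2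
      have h1 : g * τL * g⁻¹ = τL ^ m := by
        apply Subtype.ext
        simpa using hm
      have h2 : g * τL ^ i * g⁻¹ = (g * τL * g⁻¹) ^ i := by
        rw [conj_zpow]
      rw [h2, h1]
      exact Subgroup.zpow_mem _ (Subgroup.pow_mem _ (Subgroup.mem_zpowers _) m) i
    have hZp : IsPGroup 11 Z := IsPGroup.of_card (n := 1) (by rw [hZcard, pow_one])
    obtain ⟨Q, hZQ⟩ := hZp.exists_le_sylow
    have hQcard := PrimeDeg.card_sylow hS L Q
    have hZQeq : Z = (Q : Subgroup L) :=
      Subgroup.eq_of_le_of_card_ge hZQ (by rw [hZcard, hQcard])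
    have hQnormal : (Q : Subgroup L).Normal := hZQeq ▸ hZnormal
    have h1 := PrimeDeg.card_normalizer_dvd hS L Q
    rw [Subgroup.normalizer_eq_top_iff.mpr hQnormal, Subgroup.card_top] at h1
    exact h1
  have h11L : 11 ∣ Nat.card L := by
    have := orderOf_dvd_natCard (⟨τ, hτL⟩ : L)
    rwa [← Subgroup.orderOf_coe, hτ11] at this
  obtain ⟨s, hs⟩ := h11L
  have hs10 : s ∣ 10 := by
    rw [hs] at hLdvd
    exact Nat.dvd_of_mul_dvd_mul_left (by norm_num : 0 < 11) hLdvd
  have hKL : Nat.card (fixingSubgroup G ((S : Set α)ᶜ)) = 11 * s := by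
    rw [← card_range_rho, ← hs]
  -- the order of `G`
  have h3t := h.three_trans hxc hxs hx
  have h2t : IsMultiplyPretransitive G α 2 :=
    isMultiplyPretransitive_of_le (n := 3) (by norm_num) (by rw [h.natCard]; norm_num)
  have hs2 : ((S : Set α)ᶜ).ncard = 2 := by
    have := Set.ncard_add_ncard_compl (S : Set α)
    rw [Set.ncard_coe_finset, hxs, h.natCard] at this
    omega
  have hGcard := h.card_eq_two h2t hs2
  rw [hKL] at hGcard
  obtain ⟨r, n, hr, hn, hrn⟩ := h.sylow13
  rw [hGcard] at hrn
  have hs12 := arith_solv r n s hr hs10 hn hrn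
  rcases hs12 with rfl | rfl
  · -- `|K| = 11`: sharply 3-transitive, impossible since 12 is not a prime power
    have hcompl : (Sᶜ : Finset α).card = 2 := by
      rw [Finset.card_compl, h.card, hxs]
    obtain ⟨a, b, hab, hSab⟩ := Finset.card_eq_two.mp hcompl
    have haS : a ∉ S := by
      have : a ∈ (Sᶜ : Finset α) := by rw [hSab]; simp
      simpa using this
    have hbS : b ∉ S := by
      have : b ∈ (Sᶜ : Finset α) := by rw [hSab]; simp
      simpa using this
    have hSab' : ∀ c, c ∉ S → c = a ∨ c = b := by
      intro c hc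
      have : c ∈ (Sᶜ : Finset α) := by simpa using hc
      rw [hSab] at this
      simpa using this
    set K := fixingSubgroup G ((S : Set α)ᶜ) with hK
    set H : Subgroup G := stabilizer G a with hH
    have hKH : K ≤ H := by
      intro k hk
      rw [hH, mem_stabilizer_iff]
      rw [hK, mem_fixingSubgroup_iff] at hk
      exact hk a (by simpa using haS)
    have hHcard : Nat.card H = (11 + 1) * 11 := by
      haveI := h.trans
      have h1 := MulAction.index_stabilizer_of_transitive G a
      rw [h.natCard] at h1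
      have h2 := Subgroup.card_mul_index H
      rw [h1, hGcard] at h2
      omega
    set Q : Subgroup H := K.subgroupOf H with hQ
    have hQcard : Nat.card Q = 11 := by
      rw [hQ, Nat.card_congr (Subgroup.subgroupOfEquivOfLe hKH).toEquiv, hKL]
    have hxfix : ∀ c, c ∉ S → x c = c := fun c hc => Perm.notMem_support.mp hc
    have hN : Subgroup.normalizer (Q : Set H) = Q := by
      apply le_antisymm _ Subgroup.le_normalizer
      intro n hn
      rw [hQ, Subgroup.mem_subgroupOf, hK, mem_fixingSubgroup_iff]
      have hna : ((n : G) : Perm α) a = a := n.2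
      -- `n x n⁻¹ ∈ K`
      have hxK : (toKS S x hx hxfix : G) ∈ K := (toKS S x hx hxfix).2
      have hxQ : (⟨(toKS S x hx hxfix : G), hKH hxK⟩ : H) ∈ Q := by
        rw [hQ, Subgroup.mem_subgroupOf]
        exact hxK
      have hconj := (Subgroup.mem_normalizer_iff.mp (Subgroup.inv_mem _ hn) _).mp hxQ
      rw [hQ, Subgroup.mem_subgroupOf, hK, mem_fixingSubgroup_iff] at hconj
      have hnb : ((n : G) : Perm α) b = b := by
        have h1 := hconj b (by simpa using hbS)
        -- `n⁻¹ x n b = b`, so `x (n b) = n b`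
        have h1' : ((((n : G))⁻¹ * (toKS S x hx hxfix : G) * (n : G) : G) : Perm α) b = b := h1
        have h2 : ((n : G) : Perm α)⁻¹ (x (((n : G) : Perm α) b)) = b := by
          simp only [Subgroup.coe_mul, Subgroup.coe_inv, Perm.mul_apply] at h1'
          exact h1'
        have h3 : x (((n : G) : Perm α) b) = ((n : G) : Perm α) b := by
          rw [Perm.inv_eq_iff_eq] at h2
          exact h2
        have h4 : ((n : G) : Perm α) b ∉ S := by
          rw [hSdef, Perm.notMem_support]; exact h3
        rcases hSab' _ h4 with h5 | h5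
        · exfalso
          rw [← hna] at h5
          exact hab (((n : G) : Perm α).injective h5).symm
        · exact h5
      intro c hc
      have hc' : c ∉ S := by simpa using hc
      rcases hSab' c hc' with rfl | rfl
      · exact hna
      · exact hnb
    exact sh2t (by norm_num : Nat.Prime 11) Q hQcard hN hHcard (by norm_num) (by norm_num)
  · -- `|K| = 22`: an even involution normalizing an 11-cycle
    have h2L : 2 ∣ Nat.card L := by rw [hs]; norm_num
    haveI : Fact (Nat.Prime 2) := ⟨by norm_num⟩
    obtain ⟨t, ht⟩ := exists_prime_orderOf_dvd_card' (G := L) 2 h2L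
    have ht' : orderOf (t : Perm S) = 2 := by rw [Subgroup.orderOf_coe]; exact ht
    obtain ⟨k, hk⟩ := t.2
    have hsign : Perm.sign (t : Perm S) = 1 := by
      rw [← hk, sign_rho]
      exact h.sign_eq_one (k : G).2
    obtain ⟨c, c', hcc', htc, htc'⟩ := two_fixed_of_even_involution hS (t : Perm S) ht' hsign
    obtain ⟨e, he0, heτ⟩ := PrimeDeg.exists_coord_of hS τ hτ11 c
    obtain ⟨m, hm⟩ := hτn (t : Perm S) t.2
    have haff := PrimeDeg.affine_of_conj heτ hm
    have hb0 : e.symm ((t : Perm S) (e 0)) = 0 := by
      rw [he0, htc, ← he0, Equiv.symm_apply_apply]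
    have haff' : ∀ j, (t : Perm S) (e j) = e ((m : ZMod 11) * j) := by
      intro j
      rw [haff j, hb0, add_zero]
    set j' := e.symm c' with hj'
    have hj'0 : j' ≠ 0 := by
      intro h0
      apply hcc'
      rw [← he0, ← h0, hj', Equiv.apply_symm_apply]
    have hm1 : (m : ZMod 11) = 1 := by
      have h1 := haff' j'
      rw [hj', Equiv.apply_symm_apply, htc'] at h1
      have h2 : j' = (m : ZMod 11) * j' := by
        rw [hj']
        apply e.injective
        rw [Equiv.apply_symm_apply]
        exact h1
      have h3 : ((m : ZMod 11) - 1) * j' = 0 := by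
        rw [sub_mul, one_mul, ← h2, sub_self]
      rcases mul_eq_zero.mp h3 with h4 | h4
      · exact sub_eq_zero.mp h4
      · exact absurd h4 hj'0
    have ht1 : (t : Perm S) = 1 := by
      ext y
      obtain ⟨j, rfl⟩ := e.surjective y
      rw [haff' j, hm1, one_mul]
      rfl
    rw [ht1, orderOf_one] at ht'
    omega

end Ctx13

end Cfsg.Agent.Lib.Helper2.AltGen
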