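import Mathlib

set_option autoImplicit false
set_option linter.style.haveILetI false
set_option linter.unusedSectionVars false

/-!
# Fixed point counting for elements of prime power order on invariant subsets
-/

namespace Cfsg.Agent.Lib.Helper2.AltGen

open MulAction

/-- If `g ^ (p ^ n) = 1` and `S` is a finite `g`-invariant set, the number of fixed points of `g`
on `S` is congruent to `|S|` modulo `p`. -/
theorem ncard_inter_fixedBy_modEq {M β : Type*} [Group M] [MulAction M β] {p n : ℕ}
    [Fact p.Prime] (g : M) (hg : g ^ p ^ n = 1) (S : Set β) (hfin : S.Finite)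
    (hS : ∀ a ∈ S, g • a ∈ S) : (S ∩ fixedBy β g).ncard ≡ S.ncard [MOD p] := by
  classical
  haveI : Fintype S := hfin.fintype
  let f : Function.End S := fun a => ⟨g • (a : β), hS a a.2⟩
  have hpow : ∀ k : ℕ, ∀ a : S, ((f ^ k) a : β) = g ^ k • (a : β) := by
    intro k
    induction k with
    | zero => intro a; rw [pow_zero, pow_zero, one_smul]; rfl
    | succ k ih =>
      intro a
      rw [pow_succ', pow_succ', mul_smul, ← ih a]
      rfl
  have hf : f ^ p ^ n = 1 := by
    funext a
    apply Subtype.ext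
    rw [hpow, hg, one_smul]
    rfl
  have h1 := Equiv.Perm.card_fixedPoints_modEq (f := f) hf
  have h2 : Fintype.card S = S.ncard := by
    rw [← Nat.card_eq_fintype_card, Nat.card_coe_set_eq]
  have h3 : Fintype.card (Function.fixedPoints f) = (S ∩ fixedBy β g).ncard := by
    rw [← Nat.card_eq_fintype_card, ← Nat.card_coe_set_eq]
    apply Nat.card_congr
    exact
      { toFun := fun a => ⟨(a : S), (a : S).2, by
          have := a.2
          rw [Function.mem_fixedPoints, Function.IsFixedPt] at this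
          exact congrArg Subtype.val this⟩
        invFun := fun a => ⟨⟨a, a.2.1⟩, by
          rw [Function.mem_fixedPoints, Function.IsFixedPt]
          apply Subtype.ext
          exact a.2.2⟩
        left_inv := fun a => rfl
        right_inv := fun a => rfl }
  rw [h2, h3] at h1
  exact h1.symm

end Cfsg.Agent.Lib.Helper2.AltGen

namespace Cfsg.Agent.Lib.Helper2.AltGen

open MulAction

/-- fixed points of a subgroup are permuted by its normalizer -/
theorem smul_mem_fixedPoints_of_mem_normalizer {G α : Type*} [Group G] [MulAction G α]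
    (P : Subgroup G) {w : G} (hw : w ∈ Subgroup.normalizer (P : Set G)) {a : α}
    (ha : a ∈ fixedPoints P α) : w • a ∈ fixedPoints P α := by
  rw [mem_fixedPoints] at ha ⊢
  rintro ⟨h, hh⟩
  show h • w • a = w • a
  have h1 : w⁻¹ * h * w ∈ P := by
    have := (Subgroup.mem_normalizer_iff.mp (Subgroup.inv_mem _ hw) h).mp hh
    simpa using this
  have h3 : (w⁻¹ * h * w) • a = a := ha ⟨_, h1⟩
  calc h • w • a = w • (w⁻¹ * h * w) • a := by simp only [mul_smul, smul_inv_smul]
    _ = w • a := by rw [h3]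

/-- The coprime-action count killing the case `|Fix P| = 5` in degree 13. -/
theorem w5 {G α : Type*} [Group G] [Finite G] [MulAction G α] [Finite α]
    (hα : Nat.card α = 13) (P : Subgroup G) (hP : IsPGroup 2 P) (w : G)
    (hw : w ∈ Subgroup.normalizer (P : Set G)) (hw5 : w ^ 5 = 1)
    (hF : (fixedPoints P α).ncard = 5) (hFw : (fixedBy α w).ncard = 3) : False := by
  classical
  haveI : Fact (Nat.Prime 5) := ⟨by norm_num⟩
  haveI : Fact (Nat.Prime 2) := ⟨by norm_num⟩
  have hw5' : w ^ 5 ^ 1 = 1 := by rw [pow_one]; exact hw5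
  set F : Set α := fixedPoints P α with hFdef
  -- step 2: no fixed point of `w` on `F`
  have hFinv : ∀ a ∈ F, w • a ∈ F := fun a ha => smul_mem_fixedPoints_of_mem_normalizer P hw ha
  have h2 := ncard_inter_fixedBy_modEq w hw5' F (Set.toFinite F) hFinv
  have h2le : (F ∩ fixedBy α w).ncard ≤ 3 := by
    rw [← hFw]
    exact Set.ncard_le_ncard Set.inter_subset_right (Set.toFinite _)
  have h2zero : (F ∩ fixedBy α w).ncard = 0 := by
    rw [hF] at h2
    have := h2
    unfold Nat.ModEq at this
    omega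
  have hdisj : ∀ a, a ∈ F → w • a ≠ a := by
    intro a haF haw
    have : a ∈ F ∩ fixedBy α w := ⟨haF, haw⟩
    rw [Set.ncard_eq_zero (Set.toFinite _)] at h2zero
    rw [h2zero] at this
    exact this
  -- step 3: the centralizer of `w` in `P` has a fixed point on `Fix w`
  set C : Subgroup G := P ⊓ Subgroup.centralizer {w} with hC
  have hCP : IsPGroup 2 C := hP.to_le inf_le_left
  have hCcomm : ∀ c ∈ C, c * w = w * c := by
    intro c hc
    have := (Subgroup.mem_inf.mp hc).2
    rw [Subgroup.mem_centralizer_iff] at this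
    exact (this w rfl).symm
  let Yw : SubMulAction C α :=
    { carrier := fixedBy α w
      smul_mem' := by
        rintro ⟨c, hc⟩ a ha
        show w • c • a = c • a
        rw [← mul_smul, ← hCcomm c hc, mul_smul]
        have : w • a = a := ha
        rw [this] }
  have hYw : Nat.card Yw = 3 := by
    rw [← hFw, ← Nat.card_coe_set_eq]
    rfl
  have h3 := hCP.card_modEq_card_fixedPoints Yw
  rw [hYw] at h3
  have h3ne : Nat.card (fixedPoints C Yw) ≠ 0 := by
    intro h0
    rw [h0] at h3
    unfold Nat.ModEq at h3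
    omega
  obtain ⟨⟨⟨r, hrw⟩, hrC⟩⟩ : Nonempty (fixedPoints C Yw) := by
    by_contra hne
    rw [not_nonempty_iff] at hne
    exact h3ne Nat.card_of_isEmpty
  have hrw' : w • r = r := hrw
  have hrC' : ∀ c ∈ C, c • r = r := by
    intro c hc
    have := hrC ⟨c, hc⟩
    exact congrArg Subtype.val this
  have hrF : r ∉ F := fun h => hdisj r h hrw'
  have hwinv : w⁻¹ • r = r := by rw [inv_smul_eq_iff, hrw']
  -- step 4: the orbit of `r` under `P`
  obtain ⟨n, hn⟩ := hP.card_orbit r
  set O : Set α := orbit P r with hO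
  have hOcard : O.ncard = 2 ^ n := by rw [← Nat.card_coe_set_eq]; exact hn
  have hn0 : n ≠ 0 := by
    rintro rfl
    apply hrF
    haveI : Fintype (orbit P r) := Fintype.ofFinite _
    rw [hFdef, mem_fixedPoints_iff_card_orbit_eq_one, ← Nat.card_eq_fintype_card, hn, pow_zero]
  have hOsub : O ⊆ Fᶜ := by
    rintro _ ⟨⟨h, hh⟩, rfl⟩ hmem
    apply hrF
    rw [hFdef, mem_fixedPoints] at hmem ⊢
    rintro ⟨h', hh'⟩
    have h1 : h * h' * h⁻¹ ∈ P := P.mul_mem (P.mul_mem hh hh') (P.inv_mem hh)
    have h2 := hmem ⟨_, h1⟩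
    have h3 : (h * h' * h⁻¹) • h • r = h • r := h2
    show h' • r = r
    have h4 : h • h' • r = h • r := by
      rw [← h3]
      simp only [mul_smul, inv_smul_smul]
    exact smul_left_cancel h h4
  have hFc : (Fᶜ).ncard = 8 := by
    have := Set.ncard_add_ncard_compl F
    rw [hF, hα] at this
    omega
  have hn3 : 2 ^ n ≤ 8 := by
    rw [← hOcard, ← hFc]
    exact Set.ncard_le_ncard hOsub (Set.toFinite _)
  -- step 5: `O` is `w`-invariant
  have hOinv : ∀ a ∈ O, w • a ∈ O := by
    rintro _ ⟨⟨h, hh⟩, rfl⟩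
    have h1 : w * h * w⁻¹ ∈ P := (Subgroup.mem_normalizer_iff.mp hw h).mp hh
    refine ⟨⟨_, h1⟩, ?_⟩
    show (w * h * w⁻¹) • r = w • h • r
    rw [mul_smul, mul_smul, hwinv]
  -- step 6: `r` is the only fixed point of `w` on `O`
  have hOfix : O ∩ fixedBy α w = {r} := by
    apply Set.eq_singleton_iff_unique_mem.mpr
    refine ⟨⟨mem_orbit_self r, hrw'⟩, ?_⟩
    rintro _ ⟨⟨⟨h, hh⟩, rfl⟩, hfix⟩
    have hfix' : w • h • r = h • r := hfix
    show h • r = r
    -- the coset `T`
    let gc : ConjAct G := ConjAct.toConjAct w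
    have hgc : gc ^ 5 ^ 1 = 1 := by
      rw [pow_one]
      show ConjAct.toConjAct w ^ 5 = 1
      rw [← map_pow, hw5, map_one]
    set T : Set G := {h' | h' ∈ P ∧ h' • r = h • r} with hT
    have hTinv : ∀ a ∈ T, gc • a ∈ T := by
      rintro a ⟨haP, har⟩
      have h1 : gc • a = w * a * w⁻¹ := ConjAct.toConjAct_smul w a
      rw [h1]
      refine ⟨(Subgroup.mem_normalizer_iff.mp hw a).mp haP, ?_⟩
      rw [mul_smul, mul_smul, hwinv, har, hfix']
    have h6 := ncard_inter_fixedBy_modEq gc hgc T (Set.toFinite T) hTinv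
    -- `|T|` is a power of two
    set Sr : Subgroup G := (stabilizer P r).map P.subtype with hSr
    have hSrle : Sr ≤ P := by
      rintro _ ⟨s, -, rfl⟩
      exact s.2
    have hTimg : T = (fun s => h * s) '' (Sr : Set G) := by
      ext a
      constructor
      · rintro ⟨haP, har⟩
        refine ⟨h⁻¹ * a, ?_, by simp⟩
        refine ⟨⟨h⁻¹ * a, P.mul_mem (P.inv_mem hh) haP⟩, ?_, rfl⟩
        rw [SetLike.mem_coe, mem_stabilizer_iff]
        show (h⁻¹ * a) • r = r
        rw [mul_smul, har, inv_smul_smul]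
      · rintro ⟨_, ⟨s, hs, rfl⟩, rfl⟩
        rw [SetLike.mem_coe, mem_stabilizer_iff] at hs
        refine ⟨P.mul_mem hh s.2, ?_⟩
        have hs' : (s : G) • r = r := hs
        show (h * (s : G)) • r = h • r
        rw [mul_smul, hs']
    have hTcard : T.ncard ∣ Nat.card P := by
      rw [hTimg, Set.ncard_image_of_injective _ (mul_right_injective h), ← Nat.card_coe_set_eq]
      exact Subgroup.card_dvd_of_le hSrle
    obtain ⟨j, hj⟩ := IsPGroup.iff_card.mp hP
    rw [hj] at hTcard
    obtain ⟨i, -, hi⟩ := (Nat.dvd_prime_pow (by norm_num : Nat.Prime 2)).mp hTcard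
    have hne : (T ∩ fixedBy G gc).ncard ≠ 0 := by
      intro h0
      rw [h0, hi] at h6
      have h5 : 5 ∣ 2 ^ i := (Nat.modEq_zero_iff_dvd.mp h6.symm)
      have := (Nat.Prime.dvd_of_dvd_pow (by norm_num : Nat.Prime 5) h5)
      omega
    obtain ⟨h'', ⟨hh''P, hh''r⟩, hh''fix⟩ :=
      (Set.ncard_pos (Set.toFinite _)).mp (Nat.pos_of_ne_zero hne)
    have hcomm : w * h'' * w⁻¹ = h'' := by
      have h1 : gc • h'' = w * h'' * w⁻¹ := ConjAct.toConjAct_smul w h''
      rw [← h1]
      exact hh''fix
    have hh''C : h'' ∈ C := by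
      refine Subgroup.mem_inf.mpr ⟨hh''P, ?_⟩
      rw [Subgroup.mem_centralizer_iff]
      intro x hx
      rw [Set.mem_singleton_iff] at hx
      subst hx
      calc x * h'' = x * h'' * x⁻¹ * x := by group
        _ = h'' * x := by rw [hcomm]
    rw [← hh''r]
    exact hrC' h'' hh''C
  -- step 7
  have h7 := ncard_inter_fixedBy_modEq w hw5' O (Set.toFinite O) hOinv
  rw [hOfix, Set.ncard_singleton, hOcard] at h7
  have hn' : n = 1 ∨ n = 2 ∨ n = 3 := by
    have : n < 4 := by
      by_contra hge
      rw [not_lt] at hge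
      have : 2 ^ 4 ≤ 2 ^ n := Nat.pow_le_pow_right (by norm_num) hge
      omega
    omega
  unfold Nat.ModEq at h7
  rcases hn' with rfl | rfl | rfl <;> omega

end Cfsg.Agent.Lib.Helper2.AltGen
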