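import Mathlib

set_option autoImplicit false
set_option linter.style.haveILetI false
set_option linter.unusedSectionVars false

/-!
# Witt's lemma on multiply transitive groups

If `G` is `k`-transitive on `α`, `U` is the pointwise stabilizer of `k` points and `P` is a Sylow
`p`-subgroup of `U`, then `N_G(P)` is `k`-transitive on the fixed points of `P`.
-/

namespace Cfsg.Agent.Lib.Helper2.AltGen

open MulAction
open scoped Pointwise

variable {G : Type*} [Group G] {α : Type*} [MulAction G α]

/-- in a finite group, an element conjugating a subgroup into itself normalizes it -/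
theorem mem_normalizer_of_conj_mem' [Finite G] (H : Subgroup G) (n : G)
    (h : ∀ x ∈ H, n * x * n⁻¹ ∈ H) : n ∈ Subgroup.normalizer (H : Set G) := by
  have hle : H.map (MulAut.conj n).toMonoidHom ≤ H := by
    rintro _ ⟨x, hx, rfl⟩
    exact h x hx
  have hcard : Nat.card (H.map (MulAut.conj n).toMonoidHom) = Nat.card H :=
    Subgroup.card_map_of_injective (MulAut.conj n).injective
  have heq : H.map (MulAut.conj n).toMonoidHom = H :=
    Subgroup.eq_of_le_of_card_ge hle hcard.ge
  rw [Subgroup.mem_normalizer_iff]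
  intro x
  refine ⟨h x, fun hx => ?_⟩
  rw [← heq] at hx
  obtain ⟨y, hy, hyx⟩ := hx
  have : y = x := by
    have h1 : n * y * n⁻¹ = n * x * n⁻¹ := hyx
    have h2 : n * y = n * x := mul_right_cancel h1
    exact mul_left_cancel h2
  rwa [← this]

/-- The image in `G` of a Sylow subgroup of the pointwise stabilizer of `range δ`. -/
def wittP {k : ℕ} {p : ℕ} (δ : Fin k ↪ α) (P : Sylow p (fixingSubgroup G (Set.range δ))) :
    Subgroup G :=
  (P : Subgroup (fixingSubgroup G (Set.range δ))).map (fixingSubgroup G (Set.range δ)).subtype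

theorem mem_wittP {k : ℕ} {p : ℕ} (δ : Fin k ↪ α) (P : Sylow p (fixingSubgroup G (Set.range δ)))
    (g : G) : g ∈ wittP δ P ↔ ∃ h : g ∈ fixingSubgroup G (Set.range δ),
      (⟨g, h⟩ : fixingSubgroup G (Set.range δ)) ∈ P := by
  constructor
  · rintro ⟨x, hx, rfl⟩
    exact ⟨x.2, hx⟩
  · rintro ⟨h, hx⟩
    exact ⟨⟨g, h⟩, hx, rfl⟩

theorem wittP_le {k : ℕ} {p : ℕ} (δ : Fin k ↪ α) (P : Sylow p (fixingSubgroup G (Set.range δ))) :
    wittP δ P ≤ fixingSubgroup G (Set.range δ) := by
  intro g hg
  obtain ⟨h, -⟩ := (mem_wittP δ P g).mp hg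
  exact h

theorem card_wittP {k : ℕ} {p : ℕ} (δ : Fin k ↪ α)
    (P : Sylow p (fixingSubgroup G (Set.range δ))) :
    Nat.card (wittP δ P) = Nat.card P :=
  Subgroup.card_map_of_injective (Subgroup.subtype_injective _)

/-- **Witt's lemma**, embedding form. -/
theorem witt [Finite G] {k : ℕ} [hk : IsMultiplyPretransitive G α k] {p : ℕ} [Fact p.Prime]
    (δ : Fin k ↪ α) (P : Sylow p (fixingSubgroup G (Set.range δ)))
    (e : Fin k ↪ α) (he : ∀ i, ∀ h ∈ wittP δ P, h • e i = e i) :
    ∃ n : G, n ∈ Subgroup.normalizer ((wittP δ P : Subgroup G) : Set G) ∧ n • e = δ := by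
  classical
  have hU : fixingSubgroup G (Set.range δ) = fixingSubgroup G (Set.range δ) := rfl
  obtain ⟨g, hg⟩ := exists_smul_eq G e δ
  have hgi : ∀ i, g • e i = δ i := fun i => by
    rw [← hg]; rfl
  -- the conjugate of `P` by `g`
  set Q : Subgroup G := (wittP δ P).map (MulAut.conj g).toMonoidHom with hQ
  have hQU : Q ≤ fixingSubgroup G (Set.range δ) := by
    rintro _ ⟨h, hh, rfl⟩
    rw [mem_fixingSubgroup_iff]
    rintro _ ⟨i, rfl⟩
    show (g * h * g⁻¹) • δ i = δ i
    rw [← hgi i, mul_smul, mul_smul, inv_smul_smul, he i h hh]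
  have hcardQ : Nat.card (Q.subgroupOf (fixingSubgroup G (Set.range δ))) = Nat.card P := by
    rw [Nat.card_congr (Subgroup.subgroupOfEquivOfLe hQU).toEquiv, hQ,
      Subgroup.card_map_of_injective (MulAut.conj g).injective, card_wittP]
  let Q' : Sylow p (fixingSubgroup G (Set.range δ)) := Sylow.ofCard (Q.subgroupOf (fixingSubgroup G (Set.range δ))) (by
    rw [hcardQ]; exact Sylow.card_eq_multiplicity P)
  have hQ'coe : (Q' : Subgroup (fixingSubgroup G (Set.range δ))) = Q.subgroupOf (fixingSubgroup G (Set.range δ)) := rfl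
  obtain ⟨u, hu⟩ := exists_smul_eq (fixingSubgroup G (Set.range δ)) Q' P
  refine ⟨(u : G) * g, ?_, ?_⟩
  · apply mem_normalizer_of_conj_mem'
    intro h hh
    have h1 : g * h * g⁻¹ ∈ Q := ⟨h, hh, rfl⟩
    have h2 : (⟨g * h * g⁻¹, hQU h1⟩ : fixingSubgroup G (Set.range δ)) ∈ (Q' : Subgroup (fixingSubgroup G (Set.range δ))) := by
      rw [hQ'coe, Subgroup.mem_subgroupOf]
      exact h1
    have h3 : u * ⟨g * h * g⁻¹, hQU h1⟩ * u⁻¹ ∈ ((u • Q' : Sylow p (fixingSubgroup G (Set.range δ))) : Subgroup (fixingSubgroup G (Set.range δ))) := by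
      rw [Sylow.coe_subgroup_smul]
      exact ⟨_, h2, rfl⟩
    rw [hu] at h3
    have h4 : (u : G) * g * h * ((u : G) * g)⁻¹ =
        ((u * ⟨g * h * g⁻¹, hQU h1⟩ * u⁻¹ : fixingSubgroup G (Set.range δ)) : G) := by
      simp [mul_assoc]
    rw [h4]
    exact Subgroup.mem_map_of_mem _ h3
  · ext i
    show ((u : G) * g) • e i = δ i
    rw [mul_smul, hgi i]
    have := u.2
    rw [mem_fixingSubgroup_iff] at this
    exact this _ ⟨i, rfl⟩

/-- Counting form of Witt's lemma. -/
theorem witt_card [Finite G] [Finite α] {k : ℕ} [hk : IsMultiplyPretransitive G α k] {p : ℕ}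
    [Fact p.Prime] (δ : Fin k ↪ α) (P : Sylow p (fixingSubgroup G (Set.range δ))) :
    (Set.ncard (fixedPoints (wittP δ P) α)).descFactorial k ∣
      Nat.card (Subgroup.normalizer ((wittP δ P : Subgroup G) : Set G)) := by
  classical
  set P' := wittP δ P with hP'
  set N := Subgroup.normalizer ((P' : Subgroup G) : Set G) with hN
  set F : Set α := fixedPoints P' α with hF
  -- the orbit of `δ` under `N`
  have hdvd : Nat.card (orbit N δ) ∣ Nat.card N := by
    have h1 := MulAction.index_stabilizer N δ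
    rw [Nat.card_coe_set_eq]
    have h2 := Subgroup.index_dvd_card (stabilizer N δ)
    rw [h1] at h2
    exact h2
  have hδF : ∀ i, δ i ∈ F := by
    intro i
    rw [hF, mem_fixedPoints]
    rintro ⟨h, hh⟩
    have := wittP_le δ P hh
    rw [mem_fixingSubgroup_iff] at this
    exact this _ ⟨i, rfl⟩
  have horb : orbit N δ = {e : Fin k ↪ α | ∀ i, e i ∈ F} := by
    ext e
    constructor
    · rintro ⟨⟨n, hn⟩, rfl⟩ i
      show n • δ i ∈ F
      rw [hF, mem_fixedPoints]
      rintro ⟨h, hh⟩
      show h • n • δ i = n • δ i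
      have h1 : n⁻¹ * h * n ∈ P' := by
        have := (Subgroup.mem_normalizer_iff.mp (Subgroup.inv_mem _ hn) h).mp hh
        simpa using this
      have h2 := hδF i
      rw [hF, mem_fixedPoints] at h2
      have h3 : (n⁻¹ * h * n) • δ i = δ i := h2 ⟨_, h1⟩
      calc h • n • δ i = n • (n⁻¹ * h * n) • δ i := by
            simp only [mul_smul, smul_inv_smul]
        _ = n • δ i := by rw [h3]
    · intro he
      have he' : ∀ i, ∀ h ∈ wittP δ P, h • e i = e i := by
        intro i h hh
        have := he i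
        rw [hF, mem_fixedPoints] at this
        exact this ⟨h, hh⟩
      obtain ⟨n, hn, hne⟩ := witt δ P e he'
      refine ⟨⟨n⁻¹, Subgroup.inv_mem _ hn⟩, ?_⟩
      show n⁻¹ • δ = e
      rw [← hne, inv_smul_smul]
  have hcard : Nat.card (orbit N δ) = (Set.ncard F).descFactorial k := by
    rw [horb]
    haveI : Fintype α := Fintype.ofFinite α
    haveI : Fintype F := Fintype.ofFinite F
    have e1 : {e : Fin k ↪ α | ∀ i, e i ∈ F} ≃ (Fin k ↪ F) :=
      { toFun := fun e => ⟨fun i => ⟨e.1 i, e.2 i⟩, fun i j hij => e.1.injective (by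
          simpa using congrArg Subtype.val hij)⟩
        invFun := fun e' => ⟨e'.trans (Function.Embedding.subtype _), fun i => (e' i).2⟩
        left_inv := fun e => by ext i; rfl
        right_inv := fun e' => by ext i; rfl }
    rw [Nat.card_congr e1, Nat.card_eq_fintype_card, Fintype.card_embedding_eq, Fintype.card_fin,
      ← Nat.card_eq_fintype_card, Nat.card_coe_set_eq]
  rw [← hcard]
  exact hdvd

end Cfsg.Agent.Lib.Helper2.AltGen
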