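import Mathlib
import Cfsg.Agent.Lib.Helper2.AltGenB2
import Cfsg.Agent.Lib.Helper2.AltGenW
import Cfsg.Agent.Lib.Helper2.AltGenF

set_option autoImplicit false
set_option linter.style.haveILetI false
set_option linter.unusedSectionVars false

/-!
# Degree 13: the 4-transitive case (Witt's lemma)
-/

namespace Cfsg.Agent.Lib.Helper2.AltGen

open MulAction Equiv Equiv.Perm

theorem arith_four (r n u : ℕ) (hr : r ∣ 12) (hu : u ∣ 81) (hn : n % 13 = 1)
    (h : 17160 * u = 13 * r * n) : False := by
  have hr12 : r ≤ 12 := Nat.le_of_dvd (by norm_num) hr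
  obtain ⟨i, hi, rfl⟩ := (Nat.dvd_prime_pow Nat.prime_three (m := 4)).mp (by norm_num; exact hu)
  interval_cases r <;> interval_cases i <;> omega

variable {α : Type*} [Fintype α] [DecidableEq α] {G : Subgroup (Perm α)}

/-- the order of the pointwise stabilizer of four points divides `9!` -/
theorem card_fixing_dvd (hα : Fintype.card α = 13) (δ : Fin 4 ↪ α) :
    Nat.card (fixingSubgroup G (Set.range δ)) ∣ 362880 := by
  classical
  set U₀ : Subgroup (Perm α) := fixingSubgroup (Perm α) (Set.range δ) with hU₀
  have hcardα : Nat.card α = 13 := by rw [Nat.card_eq_fintype_card, hα]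
  have hU₀card : Nat.card U₀ = 362880 := by
    have h4 : IsMultiplyPretransitive (Perm α) α 4 := Equiv.Perm.isMultiplyPretransitive α 4
    have hs : (Set.range δ).ncard = 4 := by
      rw [Set.ncard_range_of_injective δ.injective, Nat.card_fin]
    have h1 := h4.index_of_fixingSubgroup_mul (s := Set.range δ) hs
    rw [hcardα] at h1
    have e2 : (13 - 4).factorial = 362880 := by decide
    have e3 : (13 : ℕ).factorial = 17160 * 362880 := by decide
    rw [e2, e3] at h1
    have h4' : U₀.index = 17160 := Nat.eq_of_mul_eq_mul_right (by norm_num) h1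
    have h5 := Subgroup.card_mul_index U₀
    rw [h4', Nat.card_eq_fintype_card (α := Perm α), Fintype.card_perm, hα, e3] at h5
    exact Nat.eq_of_mul_eq_mul_right (by norm_num : 0 < 17160) (by rw [h5, mul_comm])
  rw [← hU₀card]
  let φ : fixingSubgroup G (Set.range δ) →* U₀ :=
    { toFun := fun u => ⟨((u : G) : Perm α), by
        rw [hU₀, mem_fixingSubgroup_iff]
        intro a ha
        have := u.2
        rw [mem_fixingSubgroup_iff] at this
        exact this a ha⟩
      map_one' := rfl
      map_mul' := fun _ _ => rfl }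
  apply Subgroup.card_dvd_of_injective φ
  intro u₁ u₂ h12
  apply Subtype.ext
  apply Subtype.ext
  exact congrArg (fun z : U₀ => (z : Perm α)) h12

namespace Ctx13

theorem four_trans_case (h : Ctx13 G) (h4 : IsMultiplyPretransitive G α 4) : False := by
  classical
  haveI : Fact (Nat.Prime 2) := ⟨by norm_num⟩
  haveI : Fact (Nat.Prime 5) := ⟨by norm_num⟩
  obtain ⟨δ⟩ : Nonempty (Fin 4 ↪ α) :=
    Function.Embedding.nonempty_of_card_le (by rw [Fintype.card_fin, h.card]; norm_num)
  have hs : (Set.range δ).ncard = 4 := by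
    rw [Set.ncard_range_of_injective δ.injective, Nat.card_fin]
  have hGU := h.card_eq_four h4 hs
  obtain ⟨P⟩ : Nonempty (Sylow 2 (fixingSubgroup G (Set.range δ))) := inferInstance
  set P' : Subgroup G := wittP δ P with hP'
  have hP'p : IsPGroup 2 P' := P.isPGroup'.map _
  set F : Set α := fixedPoints P' α with hF
  have hδF : Set.range δ ⊆ F := by
    rintro _ ⟨i, rfl⟩
    rw [hF, mem_fixedPoints]
    rintro ⟨g, hg⟩
    have := wittP_le δ P hg
    rw [mem_fixingSubgroup_iff] at this
    exact this _ ⟨i, rfl⟩
  have hf4 : 4 ≤ F.ncard := by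
    rw [← hs]
    exact Set.ncard_le_ncard hδF (Set.toFinite _)
  have hf13 : F.ncard ≤ 13 := by
    rw [← h.natCard]
    exact Set.ncard_le_card F
  have hfodd : F.ncard % 2 = 1 := by
    have := hP'p.card_modEq_card_fixedPoints α
    rw [h.natCard, Nat.card_coe_set_eq, ← hF] at this
    unfold Nat.ModEq at this
    omega
  have hwitt := witt_card δ P
  have hNG : Nat.card (Subgroup.normalizer ((wittP δ P : Subgroup G) : Set G)) ∣ Nat.card G :=
    Subgroup.card_subgroup_dvd_card _
  -- a non-trivial element of `P'` moves at least 3 points, all outside `F`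
  have hmove : P' ≠ ⊥ → F.ncard ≤ 10 := by
    intro hne
    obtain ⟨g', hg'1⟩ := (Subgroup.ne_bot_iff_exists_ne_one).mp hne
    set g : G := (g' : G) with hg
    have hgP : g ∈ P' := g'.2
    have hg1 : g ≠ 1 := fun h1 => hg'1 (Subtype.ext h1)
    have hg1' : ((g : G) : Perm α) ≠ 1 := fun h1 => hg1 (Subtype.ext h1)
    have h3 := h.three_le_support g.2 hg1'
    have hsub : (((g : G) : Perm α).support : Set α) ⊆ Fᶜ := by
      intro a ha hFa
      rw [Finset.mem_coe, Perm.mem_support] at ha
      rw [hF, mem_fixedPoints] at hFa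
      exact ha (hFa ⟨g, hgP⟩)
    have h5 := Set.ncard_le_ncard hsub (Set.toFinite _)
    rw [Set.ncard_coe_finset] at h5
    have h6 := Set.ncard_add_ncard_compl F
    rw [h.natCard] at h6
    omega
  have hcases : F.ncard = 5 ∨ F.ncard = 7 ∨ F.ncard = 9 ∨ F.ncard = 11 ∨ F.ncard = 13 := by
    omega
  rcases hcases with hf | hf | hf | hf | hf
  · -- `|F| = 5`
    rw [← hP', ← hF, hf] at hwitt
    have h5N : 5 ∣ Nat.card (Subgroup.normalizer ((P' : Subgroup G) : Set G)) :=
      Dvd.dvd.trans (by decide : 5 ∣ Nat.descFactorial 5 4) hwitt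
    obtain ⟨w, hw⟩ := exists_prime_orderOf_dvd_card'
      (G := Subgroup.normalizer ((P' : Subgroup G) : Set G)) 5 h5N
    have hwG : orderOf (w : G) = 5 := by rw [Subgroup.orderOf_coe]; exact hw
    have hwP : orderOf (((w : G) : Perm α)) = 5 := by rw [Subgroup.orderOf_coe]; exact hwG
    have hsupp := h.order_five (w : G).2 hwP
    have hw5 : (w : G) ^ 5 = 1 := by rw [← hwG]; exact pow_orderOf_eq_one _
    have hFw : (fixedBy α (w : G)).ncard = 3 := by
      have h1 : fixedBy α (w : G) = ((((w : G) : Perm α).support : Set α))ᶜ := by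
        ext a
        simp only [mem_fixedBy, Set.mem_compl_iff, Finset.mem_coe, Perm.mem_support, not_not]
        rfl
      have h2 := Set.ncard_add_ncard_compl ((((w : G) : Perm α).support : Set α))
      rw [Set.ncard_coe_finset, hsupp, h.natCard, ← h1] at h2
      omega
    exact w5 h.natCard P' hP'p (w : G) w.2 hw5 hf hFw
  · -- `|F| = 7`
    rw [← hP', ← hF, hf] at hwitt
    exact h.not_seven_dvd
      ((Dvd.dvd.trans (by decide : 7 ∣ Nat.descFactorial 7 4) hwitt).trans hNG)
  · -- `|F| = 9`
    rw [← hP', ← hF, hf] at hwitt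
    exact h.not_seven_dvd
      ((Dvd.dvd.trans (by decide : 7 ∣ Nat.descFactorial 9 4) hwitt).trans hNG)
  · -- `|F| = 11`
    have hbot : P' = ⊥ := by
      by_contra hne
      have := hmove hne
      omega
    have hFuniv : F = Set.univ := by
      ext a
      simp only [Set.mem_univ, iff_true]
      rw [hF, mem_fixedPoints]
      rintro ⟨g, hg⟩
      rw [hbot, Subgroup.mem_bot] at hg
      subst hg
      exact one_smul _ _
    rw [hFuniv, Set.ncard_univ, h.natCard] at hf
    omega
  · -- `|F| = 13`: the four-point stabilizer has odd order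
    have hbot : P' = ⊥ := by
      by_contra hne
      have := hmove hne
      omega
    have hPcard : Nat.card P = 1 := by
      rw [← card_wittP δ P, ← hP', hbot, Subgroup.card_bot]
    set u := Nat.card (fixingSubgroup G (Set.range δ)) with hu
    have hu2 : ¬ 2 ∣ u := by
      intro h2
      have := P.dvd_card_of_dvd_card h2
      rw [hPcard] at this
      omega
    have huG : u ∣ Nat.card G := Subgroup.card_subgroup_dvd_card _
    have hu7 : ¬ 7 ∣ u := fun h7 => h.not_seven_dvd (h7.trans huG)
    have hu5 : ¬ 5 ∣ u := by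
      intro h5
      obtain ⟨v, hv⟩ := exists_prime_orderOf_dvd_card'
        (G := fixingSubgroup G (Set.range δ)) 5 h5
      have hvG : orderOf (v : G) = 5 := by rw [Subgroup.orderOf_coe]; exact hv
      have hvP : orderOf (((v : G) : Perm α)) = 5 := by rw [Subgroup.orderOf_coe]; exact hvG
      have hsupp := h.order_five (v : G).2 hvP
      have hsub : (((v : G) : Perm α).support : Set α) ⊆ (Set.range δ)ᶜ := by
        intro a ha hra
        rw [Finset.mem_coe, Perm.mem_support] at ha
        have := v.2
        rw [mem_fixingSubgroup_iff] at this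
        exact ha (this a hra)
      have h5' := Set.ncard_le_ncard hsub (Set.toFinite _)
      rw [Set.ncard_coe_finset, hsupp] at h5'
      have h6 := Set.ncard_add_ncard_compl (Set.range δ)
      rw [h.natCard, hs] at h6
      omega
    have hu9 : u ∣ 362880 := card_fixing_dvd h.card δ
    have hu81 : u ∣ 81 := by
      have hcop : Nat.Coprime u 4480 := by
        have c2 : Nat.Coprime u 2 :=
          (Nat.coprime_comm.mp ((Nat.Prime.coprime_iff_not_dvd (by norm_num)).mpr hu2))
        have c5 : Nat.Coprime u 5 :=
          (Nat.coprime_comm.mp ((Nat.Prime.coprime_iff_not_dvd (by norm_num)).mpr hu5))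
        have c7 : Nat.Coprime u 7 :=
          (Nat.coprime_comm.mp ((Nat.Prime.coprime_iff_not_dvd (by norm_num)).mpr hu7))
        have : (4480 : ℕ) = 2 ^ 7 * 5 * 7 := by norm_num
        rw [this]
        exact ((c2.pow_right 7).mul_right c5).mul_right c7
      have : (362880 : ℕ) = 4480 * 81 := by norm_num
      rw [this] at hu9
      exact hcop.dvd_of_dvd_mul_left hu9
    obtain ⟨r, n, hr, hn, hrn⟩ := h.sylow13
    rw [hGU] at hrn
    exact arith_four r n u hr hu81 hn hrn

end Ctx13

end Cfsg.Agent.Lib.Helper2.AltGen
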