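import Mathlib
import Cfsg.Agent.S0675
import Cfsg.Agent.Lib.Helper2.AltGenB4
import Cfsg.Agent.Lib.Helper2.AltGenB5

set_option autoImplicit false
set_option linter.style.haveILetI false
set_option linter.unusedSectionVars false

/-!
# Lemma B: a transitive group of even permutations of degree 13 containing an 11-cycle is `A₁₃`
-/

namespace Cfsg.Agent.Lib.Helper2.AltGen

open MulAction Equiv Equiv.Perm

variable {α : Type*} [Fintype α] [DecidableEq α]

/-- **Lemma B**: a transitive group of even permutations of degree 13 containing an 11-cycle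
is `A₁₃`. -/
theorem alt_le_of_deg13 (hα : Fintype.card α = 13) (G : Subgroup (Perm α)) [IsPretransitive G α]
    (hGalt : G ≤ alternatingGroup α)
    {g : Perm α} (hgc : g.IsCycle) (hgs : g.support.card = 11) (hg : g ∈ G) :
    alternatingGroup α ≤ G := by
  classical
  by_contra hA
  have h : Ctx13 G := ⟨hα, inferInstance, hGalt, hA⟩
  set S := g.support with hSdef
  have hS : Fintype.card S = 11 := by rw [Fintype.card_coe, hgs]
  haveI : IsPretransitive (rho G S).range S := isPretransitive_range_rho hgc hg
  rcases Cfsg.Agent.S0675.result (by rw [hS]; norm_num) (rho G S).range with hsolv | h2L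
  · exact h.solvable_case hgc hgs hg hsolv
  · -- the two fixed points
    have hcompl : (Sᶜ : Finset α).card = 2 := by
      rw [Finset.card_compl, hα, hgs]
    obtain ⟨a, b, hab, hSab⟩ := Finset.card_eq_two.mp hcompl
    have haS : a ∉ S := by
      have : a ∈ (Sᶜ : Finset α) := by rw [hSab]; simp
      simpa using this
    have hbS : b ∉ S := by
      have : b ∈ (Sᶜ : Finset α) := by rw [hSab]; simp
      simpa using this
    have hmemS : ∀ c, c ≠ a → c ≠ b → c ∈ S := by
      intro c hca hcb
      by_contra hc
      have : c ∈ (Sᶜ : Finset α) := by simpa using hc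
      rw [hSab] at this
      simp at this
      rcases this with h1 | h1
      · exact hca h1
      · exact hcb h1
    have h3t := h.three_trans hgc hgs hg
    have h2t : IsMultiplyPretransitive G α 2 :=
      isMultiplyPretransitive_of_le (n := 3) (by norm_num) (by rw [h.natCard]; norm_num)
    rw [is_two_pretransitive_iff] at h2L
    have h4t : IsMultiplyPretransitive G α 4 := by
      apply four_trans h2t a b _ hab
      intro c d c' d' hca hcb hda hdb hcd hc'a hc'b hd'a hd'b hc'd'
      have hc := hmemS c hca hcb
      have hd := hmemS d hda hdb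
      have hc' := hmemS c' hc'a hc'b
      have hd' := hmemS d' hd'a hd'b
      obtain ⟨l, hl1, hl2⟩ := h2L (a := (⟨c, hc⟩ : S)) (b := ⟨d, hd⟩) (c := ⟨c', hc'⟩)
        (d := ⟨d', hd'⟩) (fun h => hcd (congrArg Subtype.val h))
        (fun h => hc'd' (congrArg Subtype.val h))
      obtain ⟨k, hk⟩ := l.2
      refine ⟨(k : G), fix_of_mem_KS G S k a haS, fix_of_mem_KS G S k b hbS, ?_, ?_⟩
      · have := congrArg Subtype.val hl1
        have h5 : ((l : Perm S) ⟨c, hc⟩ : α) = c' := this
        rw [← hk, rho_apply] at h5
        exact h5
      · have := congrArg Subtype.val hl2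
        have h5 : ((l : Perm S) ⟨d, hd⟩ : α) = d' := this
        rw [← hk, rho_apply] at h5
        exact h5
    exact h.four_trans_case h4t

end Cfsg.Agent.Lib.Helper2.AltGen
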