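import Mathlib
import Cfsg.Agent.Lib.Helper9.AutAlt6

set_option autoImplicit false

/-!
# Automorphisms of odd order of an alternating group are inner

The degree six argument generalizes `six_preserve` of helper5 (`ThreeMin7`) from `3`-power
exponents to odd exponents.
-/

namespace Cfsg.Agent.Lib.Helper2.AltPQ

open Equiv Equiv.Perm Subgroup
open Cfsg.Agent.Lib.Helper9.H9AutAlt
open scoped Nat

variable {α : Type*} [Fintype α] [DecidableEq α]

theorem orderOf_coe_map' (f : MulAut (alternatingGroup α)) (z : alternatingGroup α) :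
    orderOf (f z : Perm α) = orderOf (z : Perm α) := by
  rw [Subgroup.orderOf_coe, MulEquiv.orderOf_eq, ← Subgroup.orderOf_coe]

theorem mulAut_pow_apply_mem' (f : MulAut (alternatingGroup α)) (P : alternatingGroup α → Prop)
    (hP : ∀ z, P z → P (f z)) (j : ℕ) (z : alternatingGroup α) (hz : P z) : P ((f ^ j) z) := by
  induction j with
  | zero => rw [pow_zero]; exact hz
  | succ j ih =>
    rw [pow_succ', MulAut.mul_apply]
    exact hP _ ih

/-- in degree six an automorphism of odd order preserves three-cycles -/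
theorem six_preserve_odd (h6 : Fintype.card α = 6) (f : MulAut (alternatingGroup α)) (m : ℕ)
    (hm : Odd m) (hf : f ^ m = 1) (g : alternatingGroup α) (hg : (g : Perm α).IsThreeCycle) :
    (f g : Perm α).IsThreeCycle := by
  classical
  set T1 := Finset.univ.filter fun z : alternatingGroup α =>
    (z : Perm α).cycleType = Multiset.replicate 1 3 with hT1
  set T2 := Finset.univ.filter fun z : alternatingGroup α =>
    (z : Perm α).cycleType = Multiset.replicate 2 3 with hT2
  have mem1 : ∀ z, z ∈ T1 ↔ (z : Perm α).cycleType = Multiset.replicate 1 3 := by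
    intro z; rw [hT1, Finset.mem_filter]; simp
  have mem2 : ∀ z, z ∈ T2 ↔ (z : Perm α).cycleType = Multiset.replicate 2 3 := by
    intro z; rw [hT2, Finset.mem_filter]; simp
  have c1 : T1.card = 40 := by
    have := card_filter_replicate (α := α) 1 le_rfl (by omega)
    rw [h6] at this
    rw [← hT1] at this
    have e : ((6 - 3 * 1)! * 3 ^ 1 * 1!) = 18 := by decide
    have e' : (6 : ℕ)! = 720 := by decide
    rw [e, e'] at this
    omega
  have c2 : T2.card = 40 := by
    have := card_filter_replicate (α := α) 2 (by norm_num) (by omega)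
    rw [h6] at this
    rw [← hT2] at this
    have e : ((6 - 3 * 2)! * 3 ^ 2 * 2!) = 18 := by decide
    have e' : (6 : ℕ)! = 720 := by decide
    rw [e, e'] at this
    omega
  have hdisj : ∀ z, z ∈ T1 → z ∈ T2 → False := by
    intro z h1 h2
    rw [mem1] at h1
    rw [mem2, h1] at h2
    have := congrArg Multiset.card h2
    simp at this
  have hord : ∀ z : alternatingGroup α, orderOf (z : Perm α) = 3 → z ∈ T1 ∨ z ∈ T2 := by
    intro z hz
    have hpr : (orderOf (z : Perm α)).Prime := by rw [hz]; exact Nat.prime_three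
    obtain ⟨k, hk⟩ := cycleType_prime_order hpr
    rw [hz] at hk
    have := sum_cycleType_le (z : Perm α)
    rw [hk, Multiset.sum_replicate, smul_eq_mul, h6] at this
    have hk01 : k = 0 ∨ k = 1 := by omega
    rcases hk01 with rfl | rfl
    · left; rw [mem1]; exact hk
    · right; rw [mem2]; exact hk
  have hord1 : ∀ z ∈ T1, orderOf (z : Perm α) = 3 := by
    intro z hz
    rw [mem1] at hz
    have : (z : Perm α).IsThreeCycle := hz
    exact this.orderOf
  have hord2 : ∀ z ∈ T2, orderOf (z : Perm α) = 3 := by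
    intro z hz
    rw [mem2] at hz
    rw [← lcm_cycleType, hz]
    decide
  have hg1 : g ∈ T1 := (mem1 g).mpr hg
  by_contra hcon
  have hfg2 : f g ∈ T2 := by
    have h3 : orderOf (f g : Perm α) = 3 := by rw [orderOf_coe_map', hord1 g hg1]
    rcases hord (f g) h3 with h | h
    · exact absurd ((mem1 _).mp h) hcon
    · exact h
  have ha : ∀ z, z ∈ T1 → f z ∈ T2 := by
    intro z hz
    have hz3 : (z : Perm α).IsThreeCycle := (mem1 z).mp hz
    have hc : IsConj z g :=
      alternatingGroup.isThreeCycle_isConj (by rw [Nat.card_eq_fintype_card]; omega) hz3 hg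
    have hc2 : IsConj (f z) (f g) := f.toMonoidHom.map_isConj hc
    have hc3 : IsConj (f z : Perm α) (f g : Perm α) :=
      (alternatingGroup α).subtype.map_isConj hc2
    rw [mem2, (isConj_iff_cycleType_eq.mp hc3)]
    exact (mem2 _).mp hfg2
  have himg : T1.image f = T2 := by
    apply Finset.eq_of_subset_of_card_le
    · intro y hy
      obtain ⟨z, hz, rfl⟩ := Finset.mem_image.mp hy
      exact ha z hz
    · rw [Finset.card_image_of_injective _ f.injective, c1, c2]
  have hb : ∀ z, z ∈ T2 → f z ∈ T1 := by
    intro z hz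
    have h3 : orderOf (f z : Perm α) = 3 := by rw [orderOf_coe_map', hord2 z hz]
    rcases hord (f z) h3 with h | h
    · exact h
    · exfalso
      rw [← himg] at h
      obtain ⟨z', hz', hzz⟩ := Finset.mem_image.mp h
      have := f.injective hzz
      rw [this] at hz'
      exact hdisj z hz' hz
  have hsq : ∀ z, z ∈ T1 → (f * f) z ∈ T1 := by
    intro z hz
    rw [MulAut.mul_apply]
    exact hb _ (ha z hz)
  obtain ⟨j, hj⟩ := hm
  have h1 : (f ^ m) g ∈ T2 := by
    rw [hj, pow_succ', MulAut.mul_apply, pow_mul, pow_two]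
    apply ha
    exact mulAut_pow_apply_mem' (f * f) (fun z => z ∈ T1) hsq j g hg1
  rw [hf, MulAut.one_apply] at h1
  exact hdisj g hg1 h1

/-- an automorphism of odd order of an alternating group is induced by a permutation -/
theorem exists_perm_of_odd_pow (h5 : 5 ≤ Fintype.card α) (f : MulAut (alternatingGroup α)) (m : ℕ)
    (hm : Odd m) (hf : f ^ m = 1) :
    ∃ π : Perm α, f = MulAut.conjNormal π := by
  have hpres : ∀ g : alternatingGroup α, (g : Perm α).IsThreeCycle →
      (f g : Perm α).IsThreeCycle := by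
    intro g hg
    by_cases h6 : Fintype.card α = 6
    · exact six_preserve_odd h6 f m hm hf g hg
    · exact map_isThreeCycle h6 f g hg
  obtain ⟨s, hs⟩ := Finset.exists_subset_card_eq (s := (Finset.univ : Finset α)) (n := 4)
    (by rw [Finset.card_univ]; omega)
  obtain ⟨z0, z1, p2, p3, h01, h02, h03, h12, h13, h23, -⟩ := Finset.card_eq_four.mp hs.2
  obtain ⟨π, hπ⟩ := exists_conj_of_preserves f hpres h01 (Ne.symm h02) (Ne.symm h12)
    (Ne.symm h03) (Ne.symm h13) h23
  refine ⟨π, ?_⟩
  ext g : 2
  rw [hπ g, MulAut.conjNormal_apply]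

/-- an automorphism of odd order of an alternating group is inner -/
theorem exists_conj_of_odd_pow (h5 : 5 ≤ Fintype.card α) (f : MulAut (alternatingGroup α)) (m : ℕ)
    (hm : Odd m) (hf : f ^ m = 1) :
    ∃ g : alternatingGroup α, f = MulAut.conj g := by
  obtain ⟨π, hπ⟩ := exists_perm_of_odd_pow h5 f m hm hf
  obtain ⟨j, hj⟩ := hm
  have hmem : π ^ (m + 1) ∈ alternatingGroup α := by
    rw [Equiv.Perm.mem_alternatingGroup, map_pow, hj]
    have : 2 * j + 1 + 1 = 2 * (j + 1) := by ring
    rw [this, pow_mul, Int.units_sq, one_pow]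
  refine ⟨⟨π ^ (m + 1), hmem⟩, ?_⟩
  have h1 : f = f ^ (m + 1) := by rw [pow_succ, hf, one_mul]
  rw [h1, hπ, ← map_pow]
  ext x : 2
  rw [MulAut.conjNormal_apply, MulAut.conj_apply]
  rfl

end Cfsg.Agent.Lib.Helper2.AltPQ
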