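import Mathlib

set_option autoImplicit false

/-!
# Elements of order `p q` in alternating groups
-/

namespace Cfsg.Agent.Lib.Helper2.AltPQ

open Equiv Equiv.Perm

theorem exists_of_multiset (n : ℕ) (m : Multiset ℕ) (hsum : m.sum ≤ n) (h2 : ∀ a ∈ m, 2 ≤ a)
    (heven : Even (m.sum + Multiset.card m)) :
    ∃ σ : alternatingGroup (Fin n), orderOf σ = m.lcm := by
  obtain ⟨g, hg⟩ := (Equiv.Perm.exists_with_cycleType_iff (α := Fin n)).mpr
    ⟨by rw [Fintype.card_fin]; exact hsum, h2⟩
  have hmem : g ∈ alternatingGroup (Fin n) := by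
    rw [Equiv.Perm.mem_alternatingGroup, sign_of_cycleType, hg]
    exact heven.neg_one_pow
  refine ⟨⟨g, hmem⟩, ?_⟩
  rw [Subgroup.orderOf_mk, ← lcm_cycleType, hg]

theorem exists_order_two_mul (n q : ℕ) (hq : q.Prime) (hq2 : q ≠ 2) (h : q ^ 2 ≤ n) :
    ∃ σ : alternatingGroup (Fin n), orderOf σ = 2 * q := by
  have hq3 : 3 ≤ q := by
    have := hq.two_le
    omega
  have hodd : Odd q := hq.odd_of_ne_two hq2
  obtain ⟨σ, hσ⟩ := exists_of_multiset n ({2, 2, q} : Multiset ℕ)
    (by
      simp only [Multiset.insert_eq_cons, Multiset.sum_cons, Multiset.sum_singleton]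
      nlinarith)
    (by
      intro a ha
      simp only [Multiset.insert_eq_cons, Multiset.mem_cons, Multiset.mem_singleton] at ha
      rcases ha with rfl | rfl | rfl <;> omega)
    (by
      simp only [Multiset.insert_eq_cons, Multiset.sum_cons, Multiset.sum_singleton,
        Multiset.card_cons, Multiset.card_singleton]
      obtain ⟨k, hk⟩ := hodd
      exact ⟨k + 4, by omega⟩)
  refine ⟨σ, ?_⟩
  rw [hσ]
  simp only [Multiset.insert_eq_cons, Multiset.lcm_cons, Multiset.lcm_singleton]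
  have hc : Nat.Coprime 2 q := (Nat.coprime_primes Nat.prime_two hq).mpr (Ne.symm hq2)
  simp only [lcm_eq_nat_lcm, normalize_eq]
  rw [hc.lcm_eq_mul, Nat.lcm_comm 2 (2 * q)]
  exact Nat.lcm_eq_left (Dvd.intro _ rfl)

theorem exists_order_mul_odd (n p q : ℕ) (hp : p.Prime) (hq : q.Prime) (hpq : p ≠ q)
    (hp2 : p ≠ 2) (hq2 : q ≠ 2) (h1 : p ^ 2 ≤ n) (h2 : q ^ 2 ≤ n) :
    ∃ σ : alternatingGroup (Fin n), orderOf σ = p * q := by
  have hp3 : 3 ≤ p := by
    have := hp.two_le
    omega
  have hq3 : 3 ≤ q := by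
    have := hq.two_le
    omega
  have hoddp : Odd p := hp.odd_of_ne_two hp2
  have hoddq : Odd q := hq.odd_of_ne_two hq2
  obtain ⟨σ, hσ⟩ := exists_of_multiset n ({p, q} : Multiset ℕ)
    (by
      simp only [Multiset.insert_eq_cons, Multiset.sum_cons, Multiset.sum_singleton]
      rcases Nat.lt_or_gt_of_ne hpq with h | h
      · nlinarith
      · nlinarith)
    (by
      intro a ha
      simp only [Multiset.insert_eq_cons, Multiset.mem_cons, Multiset.mem_singleton] at ha
      rcases ha with rfl | rfl <;> omega)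
    (by
      simp only [Multiset.insert_eq_cons, Multiset.sum_cons, Multiset.sum_singleton,
        Multiset.card_cons, Multiset.card_singleton]
      obtain ⟨k, hk⟩ := hoddp
      obtain ⟨l, hl⟩ := hoddq
      exact ⟨k + l + 2, by omega⟩)
  refine ⟨σ, ?_⟩
  rw [hσ]
  simp only [Multiset.insert_eq_cons, Multiset.lcm_cons, Multiset.lcm_singleton]
  have hc : Nat.Coprime p q := (Nat.coprime_primes hp hq).mpr hpq
  simp only [lcm_eq_nat_lcm, normalize_eq]
  exact hc.lcm_eq_mul

theorem exists_order_pq (n p q : ℕ) (hp : p.Prime) (hq : q.Prime) (hpq : p ≠ q)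
    (h1 : p = 2 ∨ p ^ 2 ≤ n) (h2 : q = 2 ∨ q ^ 2 ≤ n) :
    ∃ σ : alternatingGroup (Fin n), orderOf σ = p * q := by
  by_cases hp2 : p = 2
  · subst hp2
    have hq2 : q ≠ 2 := fun h => hpq h.symm
    rcases h2 with h2 | h2
    · exact absurd h2 hq2
    · exact exists_order_two_mul n q hq hq2 h2
  · by_cases hq2 : q = 2
    · subst hq2
      rcases h1 with h1 | h1
      · exact absurd h1 hp2
      · obtain ⟨σ, hσ⟩ := exists_order_two_mul n p hp hp2 h1
        exact ⟨σ, by rw [hσ, mul_comm]⟩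
    · rcases h1 with h1 | h1
      · exact absurd h1 hp2
      · rcases h2 with h2 | h2
        · exact absurd h2 hq2
        · exact exists_order_mul_odd n p q hp hq hpq hp2 hq2 h1 h2

end Cfsg.Agent.Lib.Helper2.AltPQ
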