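import Mathlib
import Cfsg.Agent.Lib.Helper2.AltPQ1

set_option autoImplicit false

/-!
# Sylow subgroups for odd primes of groups between `A_n` and `Aut(A_n)`
-/

namespace Cfsg.Agent.Lib.Helper2.AltPQ

open Equiv Equiv.Perm Subgroup

theorem conj_injective (n : ℕ) (hn : 4 ≤ n) :
    Function.Injective (MulAut.conj : alternatingGroup (Fin n) →* MulAut (alternatingGroup (Fin n))) := by
  rw [injective_iff_map_eq_one]
  intro g hg
  have hc : g ∈ Subgroup.center (alternatingGroup (Fin n)) := by
    rw [Subgroup.mem_center_iff]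
    intro x
    have := congrArg (fun ψ : MulAut (alternatingGroup (Fin n)) => ψ x) hg
    simp only [MulAut.conj_apply, MulAut.one_apply] at this
    calc x * g = (g * x * g⁻¹) * g := by rw [this]
      _ = g * x := by group
  rw [alternatingGroup.center_eq_bot (by rw [Nat.card_eq_fintype_card, Fintype.card_fin]; exact hn)]
    at hc
  exact Subgroup.mem_bot.mp hc

section transfer

variable (n : ℕ) (hn : 5 ≤ n) (G : Subgroup (MulAut (alternatingGroup (Fin n))))
  (hG : (MulAut.conj : alternatingGroup (Fin n) →* MulAut (alternatingGroup (Fin n))).range ≤ G)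
  (r : ℕ) [Fact r.Prime] (hr : r ≠ 2) (P : Sylow r G)

/-- the corresponding subgroup of the alternating group -/
def P0 : Subgroup (alternatingGroup (Fin n)) :=
  ((P : Subgroup G).map G.subtype).comap
    (MulAut.conj : alternatingGroup (Fin n) →* MulAut (alternatingGroup (Fin n)))

include hn hr in
theorem exists_conj_of_mem (φ : G) (hφ : φ ∈ P) :
    ∃ g : alternatingGroup (Fin n), g ∈ P0 n G r P ∧ (φ : MulAut (alternatingGroup (Fin n))) = MulAut.conj g := by
  have hP : IsPGroup r (P : Subgroup G) := P.isPGroup'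
  obtain ⟨k, hk⟩ := hP ⟨φ, hφ⟩
  have hk' : (φ : MulAut (alternatingGroup (Fin n))) ^ r ^ k = 1 := by
    have := congrArg (fun z : (P : Subgroup G) => ((z : G) : MulAut (alternatingGroup (Fin n)))) hk
    simpa using this
  have hodd : Odd (r ^ k) := ((Fact.out : r.Prime).odd_of_ne_two hr).pow
  obtain ⟨g, hg⟩ := exists_conj_of_odd_pow (α := Fin n) (by rw [Fintype.card_fin]; exact hn)
    (φ : MulAut (alternatingGroup (Fin n))) (r ^ k) hodd hk'
  refine ⟨g, ?_, hg⟩
  show MulAut.conj g ∈ (P : Subgroup G).map G.subtype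
  rw [← hg]
  exact ⟨φ, hφ, rfl⟩

include hn in
theorem isPGroup_P0 : IsPGroup r (P0 n G r P) := by
  have hP : IsPGroup r (P : Subgroup G) := P.isPGroup'
  exact (hP.map G.subtype).comap_of_injective _ (conj_injective n (by omega))

include hn hG hr in
theorem P0_maximal (R : Subgroup (alternatingGroup (Fin n))) (hR : IsPGroup r R)
    (hle : P0 n G r P ≤ R) : R = P0 n G r P := by
  apply le_antisymm _ hle
  set ι : alternatingGroup (Fin n) →* MulAut (alternatingGroup (Fin n)) := MulAut.conj with hι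
  have hR1 : R.map ι ≤ G := by
    rintro _ ⟨g, _, rfl⟩
    exact hG ⟨g, rfl⟩
  have hR2 : IsPGroup r ((R.map ι).subgroupOf G) :=
    (hR.map ι).comap_of_injective G.subtype G.subtype_injective
  have hPle : (P : Subgroup G) ≤ (R.map ι).subgroupOf G := by
    intro φ hφ
    obtain ⟨g, hg0, hg⟩ := exists_conj_of_mem n hn G r hr P φ hφ
    rw [Subgroup.mem_subgroupOf, hg]
    exact ⟨g, hle hg0, rfl⟩
  have heq := P.is_maximal' hR2 hPle
  intro g hg
  have h1 : ι g ∈ R.map ι := ⟨g, hg, rfl⟩
  have h2 : (⟨ι g, hR1 h1⟩ : G) ∈ (R.map ι).subgroupOf G := by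
    rw [Subgroup.mem_subgroupOf]; exact h1
  rw [heq] at h2
  show ι g ∈ (P : Subgroup G).map G.subtype
  exact ⟨⟨ι g, hR1 h1⟩, h2, rfl⟩

/-- the corresponding Sylow subgroup of the alternating group -/
def sylow0 (hn : 5 ≤ n)
    (hG : (MulAut.conj : alternatingGroup (Fin n) →* MulAut (alternatingGroup (Fin n))).range ≤ G)
    (hr : r ≠ 2) : Sylow r (alternatingGroup (Fin n)) where
  toSubgroup := P0 n G r P
  isPGroup' := isPGroup_P0 n hn G r P
  is_maximal' := fun {R} hR hle => P0_maximal n hn G hG r hr P R hR hle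

include hn hr in
theorem comm_of_comm (hc : ∀ a ∈ P0 n G r P, ∀ b ∈ P0 n G r P, a * b = b * a) :
    IsMulCommutative (P : Subgroup G) := by
  refine ⟨⟨fun a b => ?_⟩⟩
  obtain ⟨ga, hga0, hga⟩ := exists_conj_of_mem n hn G r hr P a.1 a.2
  obtain ⟨gb, hgb0, hgb⟩ := exists_conj_of_mem n hn G r hr P b.1 b.2
  apply Subtype.ext
  apply Subtype.ext
  show ((a : G) : MulAut (alternatingGroup (Fin n))) * ((b : G) : MulAut _) =
    ((b : G) : MulAut _) * ((a : G) : MulAut _)
  rw [hga, hgb, ← map_mul, ← map_mul, hc ga hga0 gb hgb0]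

end transfer

end Cfsg.Agent.Lib.Helper2.AltPQ
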