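import Mathlib
import Cfsg.Agent.S2395
import Cfsg.Agent.Lib.Helper3.StU11
import Cfsg.Agent.Lib.Helper3.StRk3
import Cfsg.Agent.Lib.Helper3.StV13
import Cfsg.Agent.Lib.Helper3.StV21
import Cfsg.Agent.Lib.Helper3.ChevData.B2Univ
import Cfsg.Agent.Lib.Helper3.ChevData.B2St
import Cfsg.Agent.Lib.Helper3.ChevData.B2Vhyp

/-!
# The Steinberg group of type `B₂` over a finite field with more than two elements has trivial
Schur multiplier

This is the `B₂` branch of the proof of S2400 (by helper3), restated with the imports of type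
`B₂` only, so that the closure of S2092 does not contain the data of types `E₆`, `E₇`, `D₄`.
-/

set_option autoImplicit false
open Cfsg
open Cfsg.Agent.Lib.Helper3.StU Cfsg.Agent.Lib.Helper3.StB Cfsg.Agent.Lib.Helper3.StV
  Cfsg.Agent.Lib.Helper3.ChevM Cfsg.Agent.Lib.Helper3.StS

namespace Cfsg.Agent.Lib.Helper2.B2Mult

theorem b2_steinberg_multiplier {K : Type*} [Field K] [Fintype K] (hK : Fintype.card K ≠ 2) :
    Cfsg.HasCyclicSchurMultiplier (Cfsg.Lie.chevB2.SteinbergGroup K) 1 := by
  have hcard2 : 2 ≤ Fintype.card K := Fintype.one_lt_card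
  have hK3 : 3 ≤ Fintype.card K := by omega
  have hex : ∃ x : K, x ≠ 0 ∧ x ≠ 1 := by
    classical
    have hlt : ({0, 1} : Finset K).card < (Finset.univ : Finset K).card := by
      rw [Finset.card_univ]
      calc ({0, 1} : Finset K).card ≤ 2 := Finset.card_le_two
        _ < Fintype.card K := by omega
    obtain ⟨v, -, hv⟩ := Finset.exists_mem_notMem_of_card_lt_card hlt
    simp only [Finset.mem_insert, Finset.mem_singleton, not_or] at hv
    exact ⟨v, hv.1, hv.2⟩
  have hperf : commutator (Cfsg.Lie.chevB2.SteinbergCover K) = ⊤ :=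
    Cfsg.Agent.S2395.result Cfsg.Lie.chevB2 (by simp) (fun _ => hex)
  obtain ⟨e', -⟩ := cover_equiv_steinberg (F := K) commB2 stHypB2 (by decide +kernel)
  refine steinbergGroup_multiplier_one relB2 commB2 stHypB2 e' ?_
  intro Γ _ σ hs hc
  by_cases h5 : 5 ≤ Fintype.card K
  · have hK5 : ∃ s : Finset K, 4 < s.card := ⟨Finset.univ, by rw [Finset.card_univ]; omega⟩
    exact (cover_lift_unique commB2 univHypB2 hK5 hperf σ hs hc e'.toMonoidHom).exists
  · have h34 : Fintype.card K = 3 ∨ Fintype.card K = 4 := by omega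
    rcases h34 with h3 | h4
    · exact (existsUnique_lift hperf (fun _ _ ψ' hs' hc' =>
        cover_split_B2_three (elems_of_card_three h3) (three_eq_zero_of_card h3) hperf ψ' hs' hc')
        σ hs hc e'.toMonoidHom).exists
    · obtain ⟨P, hP⟩ := exists_primEl_of_card_four h4
      exact (existsUnique_lift hperf (fun _ _ ψ' hs' hc' =>
        cover_split_sep commB2 sepHypCB2 P hP (two_eq_zero_of_card h4) hperf ψ' hs' hc')
        σ hs hc e'.toMonoidHom).exists

end Cfsg.Agent.Lib.Helper2.B2Mult
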