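import Mathlib
import Cfsg.Agent.Lib.Helper4.PLength
import Cfsg.Agent.Lib.Helper2.PConstrained

set_option autoImplicit false

/-! The upper `p`-series dominates every `p`-series; shifting the series by `O_{p',p}`. -/

namespace Cfsg.Agent.Lib.Helper2.PSeries

open Cfsg Cfsg.Agent.Lib.Helper4 Cfsg.Agent.Lib.Helper6

variable {G : Type*} [Group G] {p : ℕ}

/-- order of the image of `W` modulo a normal subgroup `U` divides `|W : V|` when `V ≤ W ⊓ U` -/
theorem card_map_mk_dvd_relIndex (U : Subgroup G) [U.Normal] {V W : Subgroup G} (hVU : V ≤ U) :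
    Nat.card (W.map (QuotientGroup.mk' U)) ∣ V.relIndex W := by
  rw [← Subgroup.relIndex_ker, QuotientGroup.ker_mk']
  exact Subgroup.relIndex_dvd_of_le_left W hVU

theorem relIndex_comap_mk (N : Subgroup G) [N.Normal] (X : Subgroup (G ⧸ N)) :
    N.relIndex (X.comap (QuotientGroup.mk' N)) = Nat.card X := by
  have h := Subgroup.relIndex_ker (QuotientGroup.mk' N) (K := X.comap (QuotientGroup.mk' N))
  rw [QuotientGroup.ker_mk',
    Subgroup.map_comap_eq_self_of_surjective (QuotientGroup.mk'_surjective N)] at h
  exact h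

/-- factor of the upper `p`-series at an even position is a `p'`-group -/
theorem relIndex_upperPSeries_even [Finite G] (n : ℕ) (hn : Even n) :
    ((upperPSeries p G n).1.relIndex (upperPSeries p G (n + 1)).1).Coprime p := by
  rw [upperPSeries_succ_even p n hn, relIndex_comap_mk]
  exact pPrimeCore_coprime p

/-- factor of the upper `p`-series at an odd position is a `p`-group -/
theorem relIndex_upperPSeries_odd [Finite G] [Fact p.Prime] (n : ℕ) (hn : ¬ Even n) :
    ∃ k : ℕ, (upperPSeries p G n).1.relIndex (upperPSeries p G (n + 1)).1 = p ^ k := by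
  rw [upperPSeries_succ_odd p n hn, relIndex_comap_mk]
  exact (IsPGroup.iff_card).mp (Cfsg.Agent.Lib.Helper6.pCore_isPGroup p)

/-- the upper `p`-series dominates every series of normal subgroups with alternating `p'`- and
`p`-factors -/
theorem le_upperPSeries [Finite G] [Fact p.Prime] (V : ℕ → Subgroup G) (hV0 : V 0 = ⊥)
    (hVn : ∀ i, (V i).Normal)
    (hev : ∀ i, Even i → ((V i).relIndex (V (i + 1))).Coprime p)
    (hodd : ∀ i, ¬ Even i → ∃ k : ℕ, (V i).relIndex (V (i + 1)) = p ^ k) :
    ∀ i, V i ≤ (upperPSeries p G i).1 := by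
  intro i
  induction i with
  | zero => rw [hV0]; exact bot_le
  | succ i ih =>
    have hd := card_map_mk_dvd_relIndex (upperPSeries p G i).1 (W := V (i + 1)) ih
    have hnorm : ((V (i + 1)).map (QuotientGroup.mk' (upperPSeries p G i).1)).Normal :=
      (hVn (i + 1)).map _ (QuotientGroup.mk'_surjective _)
    by_cases hi : Even i
    · rw [upperPSeries_succ_even p i hi]
      have hc : (Nat.card ((V (i + 1)).map (QuotientGroup.mk' (upperPSeries p G i).1))).Coprime p :=
        Nat.Coprime.coprime_dvd_left hd (hev i hi)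
      have hle := le_pPrimeCore hnorm hc
      intro x hx
      rw [Subgroup.mem_comap]
      exact hle ⟨x, hx, rfl⟩
    · rw [upperPSeries_succ_odd p i hi]
      obtain ⟨k, hk⟩ := hodd i hi
      rw [hk] at hd
      obtain ⟨j, -, hj⟩ := (Nat.dvd_prime_pow (Fact.out : p.Prime)).mp hd
      have hpg : IsPGroup p ((V (i + 1)).map (QuotientGroup.mk' (upperPSeries p G i).1)) :=
        IsPGroup.of_card hj
      have hle := Cfsg.Agent.Lib.Helper6.le_pCore hnorm hpg
      intro x hx
      rw [Subgroup.mem_comap]
      exact hle ⟨x, hx, rfl⟩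

/-- the series `1 ≤ O_{p'}(G) ≤ O_{p',p}(G) ≤ ` preimages of the upper `p`-series of
`G/O_{p',p}(G)` -/
noncomputable def shifted [Finite G] [Fact p.Prime] : ℕ → Subgroup G
  | 0 => ⊥
  | 1 => pPrimeCore p G
  | (n + 2) => (upperPSeries p (G ⧸ pPrimePCore p G) n).1.comap (QuotientGroup.mk' (pPrimePCore p G))

theorem shifted_le_upperPSeries [Finite G] [Fact p.Prime] (i : ℕ) :
    shifted (G := G) (p := p) i ≤ (upperPSeries p G i).1 := by
  apply le_upperPSeries (shifted (G := G) (p := p)) rfl
  · intro i
    match i with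
    | 0 => show (⊥ : Subgroup G).Normal; infer_instance
    | 1 => show (pPrimeCore p G).Normal; infer_instance
    | (n + 2) =>
      show ((upperPSeries p (G ⧸ pPrimePCore p G) n).1.comap (QuotientGroup.mk' (pPrimePCore p G))).Normal
      infer_instance
  · intro i hi
    match i, hi with
    | 0, _ =>
      show ((⊥ : Subgroup G).relIndex (pPrimeCore p G)).Coprime p
      rw [Subgroup.relIndex_bot_left]; exact pPrimeCore_coprime p
    | 1, hi => exact absurd hi (by decide)
    | (n + 2), hi =>
      have hn : Even n := by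
        rcases hi with ⟨r, hr⟩
        exact ⟨r - 1, by omega⟩
      show (((upperPSeries p (G ⧸ pPrimePCore p G) n).1.comap (QuotientGroup.mk' (pPrimePCore p G))).relIndex
        ((upperPSeries p (G ⧸ pPrimePCore p G) (n + 1)).1.comap (QuotientGroup.mk' (pPrimePCore p G)))).Coprime p
      rw [Subgroup.relIndex_comap,
        Subgroup.map_comap_eq_self_of_surjective (QuotientGroup.mk'_surjective _)]
      exact relIndex_upperPSeries_even n hn
  · intro i hi
    match i, hi with
    | 0, hi => exact absurd (by simp) hi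
    | 1, _ =>
      show ∃ k : ℕ, (pPrimeCore p G).relIndex
        ((upperPSeries p (G ⧸ pPrimePCore p G) 0).1.comap (QuotientGroup.mk' (pPrimePCore p G))) = p ^ k
      have h0 : (upperPSeries p (G ⧸ pPrimePCore p G) 0).1.comap (QuotientGroup.mk' (pPrimePCore p G))
          = pPrimePCore p G := by
        rw [upperPSeries_zero, MonoidHom.comap_bot, QuotientGroup.ker_mk']
      rw [h0, Cfsg.Agent.Lib.Helper2.PConstrained.pPrimePCore_def, relIndex_comap_mk]
      exact (IsPGroup.iff_card).mp (Cfsg.Agent.Lib.Helper6.pCore_isPGroup p)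
    | (n + 2), hi =>
      have hn : ¬ Even n := by
        intro ⟨r, hr⟩
        exact hi ⟨r + 1, by omega⟩
      show ∃ k : ℕ, ((upperPSeries p (G ⧸ pPrimePCore p G) n).1.comap (QuotientGroup.mk' (pPrimePCore p G))).relIndex
        ((upperPSeries p (G ⧸ pPrimePCore p G) (n + 1)).1.comap (QuotientGroup.mk' (pPrimePCore p G))) = p ^ k
      rw [Subgroup.relIndex_comap,
        Subgroup.map_comap_eq_self_of_surjective (QuotientGroup.mk'_surjective _)]
      exact relIndex_upperPSeries_odd n hn

/-- if `G/O_{p',p}(G)` has `p`-length at most `k` then `G` has `p`-length at most `k + 1` -/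
theorem pLengthLE_succ_of_quotient [Finite G] [Fact p.Prime] (k : ℕ)
    (h : PLengthLE p k (G ⧸ pPrimePCore p G)) : PLengthLE p (k + 1) G := by
  unfold PLengthLE at h ⊢
  rw [eq_top_iff]
  have h1 := shifted_le_upperPSeries (G := G) (p := p) (2 * (k + 1) + 1)
  refine le_trans ?_ h1
  show ⊤ ≤ (upperPSeries p (G ⧸ pPrimePCore p G) (2 * k + 1)).1.comap (QuotientGroup.mk' (pPrimePCore p G))
  rw [h, Subgroup.comap_top]

theorem upperPSeries_mono (m n : ℕ) (h : m ≤ n) : (upperPSeries p G m).1 ≤ (upperPSeries p G n).1 := by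
  induction n with
  | zero =>
    have : m = 0 := by omega
    rw [this]
  | succ n ih =>
    rcases Nat.lt_or_ge m (n + 1) with h1 | h1
    · exact (ih (by omega)).trans (upperPSeries_le_succ p n)
    · have : m = n + 1 := by omega
      rw [this]

theorem pLengthLE_mono {k k' : ℕ} (hk : k ≤ k') (h : PLengthLE p k G) : PLengthLE p k' G := by
  unfold PLengthLE at h ⊢
  rw [eq_top_iff, ← h]
  exact upperPSeries_mono _ _ (by omega)

/-- a `p'`-group has `p`-length `0` -/
theorem pLengthLE_zero_of_coprime [Finite G] [Fact p.Prime] (h : (Nat.card G).Coprime p) :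
    PLengthLE p 0 G := by
  unfold PLengthLE
  rw [eq_top_iff, show 2 * 0 + 1 = 0 + 1 from rfl, upperPSeries_succ_even p 0 (by simp)]
  intro x _
  rw [Subgroup.mem_comap]
  have htop : (⊤ : Subgroup (G ⧸ (upperPSeries p G 0).1)) ≤ pPrimeCore p (G ⧸ (upperPSeries p G 0).1) := by
    apply le_pPrimeCore inferInstance
    rw [Subgroup.card_top]
    have := Subgroup.card_quotient_dvd_card (upperPSeries p G 0).1
    exact Nat.Coprime.coprime_dvd_left this h
  exact htop (Subgroup.mem_top _)

end Cfsg.Agent.Lib.Helper2.PSeries
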