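import Mathlib
import Cfsg.Agent.Lib.Lead.BG10o
import Cfsg.Agent.Lib.Helper4.BG8e
import Cfsg.Agent.Lib.Helper4.Rk2m
import Cfsg.Agent.Lib.Helper4.ThreeStep4
import Cfsg.Agent.Lib.Lead.BenderS3
import Cfsg.Agent.Lib.Helper4.CNMax6

set_option autoImplicit false

/-!
# Bender–Glauberman, auxiliary facts for Sections 10–12

* `mem_sigma_iff`: `σ(M)` in terms of `SylIn`.
* `coatom_ne_bot`, `sigmaCore_ne_bot` (Theorem 10.2(e)): `M_σ ≠ 1`.
* `not_conj_of_normalizer_le` (Lemma 12.2(b), `σ` case) and `not_conj_of_cyclic_sylow`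
  (Lemma 12.2(b), cyclic Sylow case).
-/

namespace Cfsg.Agent.Lib.Helper2.BG11

open Cfsg Cfsg.Agent.Lib.Lead Cfsg.Agent.Lib.Lead.BG10 Cfsg.Agent.Lib.Helper4 Cfsg.Agent.Lib.Helper7
open Cfsg.Agent.Lib.Helper4.BG7 Cfsg.Agent.Lib.Helper4.BG8 Cfsg.Agent.Lib.Helper4.BG9
open Cfsg.Agent.Lib.Helper4.ThreeStep

universe u

variable {G : Type u} [Group G] [Finite G]

/-- `σ(M)` in terms of Sylow subgroups of `M` as subgroups of `G` -/
theorem mem_sigma_iff {M : Subgroup G} {p : ℕ} [hp : Fact p.Prime] :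
    p ∈ sigma M ↔ p ∣ Nat.card M ∧
      ∃ S : Subgroup G, SylIn p M S ∧ Subgroup.normalizer (S : Set G) ≤ M := by
  constructor
  · rintro ⟨-, hpM, P, hN⟩
    exact ⟨hpM, _, sylIn_map_sylow P, hN⟩
  · rintro ⟨hpM, S, hS, hN⟩
    obtain ⟨T, hT⟩ := SylIn.exists_sylow hS
    exact ⟨hp.out, hpM, T, by rw [hT]; exact hN⟩

/-- a maximal subgroup of a minimal simple group is nontrivial -/
theorem coatom_ne_bot (hG : IsMinSimpleOddOrder G) {M : Subgroup G} (hM : IsCoatom M) : M ≠ ⊥ := by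
  intro h0
  apply hG.2.2.1
  refine ⟨⟨?_⟩⟩
  intro a b
  by_cases ha : a = 1
  · rw [ha, one_mul, mul_one]
  · have hlt : M < Subgroup.zpowers a := by
      rw [h0, bot_lt_iff_ne_bot]
      intro h
      exact ha (Subgroup.zpowers_eq_bot.mp h)
    have htop := hM.2 _ hlt
    have hb : b ∈ Subgroup.zpowers a := by rw [htop]; trivial
    obtain ⟨k, rfl⟩ := Subgroup.mem_zpowers_iff.mp hb
    exact (Commute.zpow_right (Commute.refl a) k).eq

/-- Bender–Glauberman, Theorem 10.2(e): `M_σ ≠ 1` -/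
theorem sigmaCore_ne_bot (hG : IsMinSimpleOddOrder G) {M : Subgroup G} (hM : IsCoatom M) :
    sigmaCore M ≠ ⊥ := by
  intro h0
  have hMne : M ≠ ⊥ := coatom_ne_bot hG hM
  have hσ : ∀ p : ℕ, p ∉ sigma M := by
    intro p hp
    have hh := (sigmaCore_hall hG hM).1.2.2 p hp.1 hp
    rw [h0, Subgroup.relIndex_bot_left] at hh
    exact hh hp.2.1
  have hrank : RankLE 2 ↥M := by
    intro q hq
    by_contra h
    exact hσ q (alpha_subset_sigma hG hM ⟨hq, h⟩)
  haveI : Group.IsSolvable ↥M := solvable_of_ne_top hG hM.1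
  have hodd : Odd (Nat.card M) := odd_card_sub hG M
  have hyp := Rk2.hyp420_of hodd (Or.inl hrank)
  have hcard : Nat.card M ≠ 1 := fun h => hMne (Subgroup.card_eq_one.mp h)
  have hne : (Nat.card M).primeFactors.Nonempty := by
    apply Nat.nonempty_primeFactors.mpr
    have := Nat.card_pos (α := M)
    omega
  set q := (Nat.card M).primeFactors.max' hne with hq
  have hqmem : q ∈ (Nat.card M).primeFactors := Finset.max'_mem _ hne
  have hqp : q.Prime := Nat.prime_of_mem_primeFactors hqmem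
  have hqM : q ∣ Nat.card M := Nat.dvd_of_mem_primeFactors hqmem
  have hqmax : ∀ r : ℕ, r.Prime → r ∣ Nat.card M → r ≤ q := fun r hr hrM =>
    Finset.le_max' _ r (Nat.mem_primeFactors.mpr ⟨hr, hrM, Nat.card_pos.ne'⟩)
  haveI : Fact q.Prime := ⟨hqp⟩
  obtain ⟨N, hNchar, hNhall⟩ := hyp.exists_char_hall (q - 1)
  have hNq : IsPGroup q N := by
    have h1 : ∀ {d : ℕ}, d.Prime → d ∣ Nat.card N → d = q := by
      intro d hd hdN
      have h2 := hNhall.1 d hd hdN
      have h3 := hqmax d hd (hdN.trans (Subgroup.card_subgroup_dvd_card N))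
      have := h2.2
      omega
    have := Nat.eq_prime_pow_of_unique_prime_dvd (Nat.card_pos (α := N)).ne' h1
    exact IsPGroup.of_card this
  have hNidx : ¬ q ∣ N.index := hNhall.2 q hqp ⟨hqp, by have := hqp.pos; omega⟩
  obtain ⟨T, hT⟩ : ∃ T : Sylow q ↥M, (T : Subgroup ↥M) = N :=
    exists_sylow_eq hNq (fun Q hQ hNQ _ =>
      eq_of_isPGroup_of_relIndex hNQ le_top hQ (by rwa [Subgroup.relIndex_top_right]))
  apply hσ q
  refine ⟨hqp, hqM, T, ?_⟩
  rw [hT]
  haveI hNn : N.Normal := inferInstance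
  have hle : M ≤ Subgroup.normalizer ((N.map M.subtype : Subgroup G) : Set G) :=
    BenderS.le_normalizer_map_of_normal M N
  have hN1 : N.map M.subtype ≠ ⊥ := by
    intro h
    have hb : N = ⊥ := (Subgroup.map_eq_bot_iff_of_injective N M.subtype_injective).mp h
    have h2 : Nat.card N * N.index = Nat.card M := Subgroup.card_mul_index N
    rw [hb, Subgroup.card_bot, one_mul] at h2
    apply hNidx
    rw [hb, h2]
    exact hqM
  rw [normalizer_eq_of_isCoatom hG hM hN1 (Subgroup.map_subtype_le _) hle]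

/-- Bender–Glauberman, Lemma 12.2(b), first case: a maximal subgroup `H ≠ M` containing the
normalizer of a `p`-subgroup of `M`, `p ∈ σ(M)`, is not conjugate to `M` -/
theorem not_conj_of_normalizer_le (hG : IsMinSimpleOddOrder G) {M : Subgroup G} (hM : IsCoatom M)
    {p : ℕ} [Fact p.Prime] (hpσ : p ∈ sigma M) {X : Subgroup G} (hXp : IsPGroup p X) (hXM : X ≤ M)
    {H : Subgroup G} (hne : H ≠ M) (hNX : Subgroup.normalizer (X : Set G) ≤ H) :
    ∀ g : G, H ≠ cj g M := by
  intro g hg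
  apply hne
  have hXH : X ≤ H := Subgroup.le_normalizer.trans hNX
  have hCX : Subgroup.centralizer (X : Set G) ≤ H :=
    (Subgroup.centralizer_le_normalizer _).trans hNX
  have h1 : cj g⁻¹ X ≤ M := by
    have h2 : cj g⁻¹ H = M := by
      rw [hg]
      exact cj_inv_cj g M
    rw [← h2]
    exact cj_mono g⁻¹ hXH
  obtain ⟨m, hm, c, hc, hgmc⟩ := (theorem_10_1 hG hM hpσ hXp hXM).1 g⁻¹ h1
  have hg' : g = c⁻¹ * m⁻¹ := by
    have := congrArg (·⁻¹) hgmc
    simpa using this
  have h3 : cj g M = cj c⁻¹ M := by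
    rw [hg', cj_mul, cj_eq_self_of_mem (M.inv_mem hm)]
  rw [hg, h3]
  have h4 : cj c (cj c⁻¹ M) = cj c⁻¹ M := by
    apply cj_eq_self_of_mem
    rw [← h3, ← hg]
    exact hCX hc
  have h5 : cj c (cj c⁻¹ M) = M := by
    have := cj_cj_inv c M
    exact this
  rw [← h4, h5]

/-- Bender–Glauberman, Lemma 12.2(b), second case: if the Sylow `p`-subgroups of `M` are cyclic and
`p ∉ σ(M)`, a maximal subgroup containing the normalizer of a nontrivial `p`-subgroup of `M` is not
conjugate to `M` -/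
theorem not_conj_of_cyclic_sylow {M : Subgroup G} (hM : IsCoatom M)
    {p : ℕ} [Fact p.Prime] (hpσ : p ∉ sigma M) {P : Subgroup G} (hP : SylIn p M P)
    (hPc : IsCyclic ↥P) {X : Subgroup G} (hX1 : X ≠ ⊥) (hXP : X ≤ P)
    {H : Subgroup G} (hNX : Subgroup.normalizer (X : Set G) ≤ H) :
    ∀ g : G, H ≠ cj g M := by
  intro g hg
  -- `N(P) ≤ N(X) ≤ H`
  have hNP : Subgroup.normalizer (P : Set G) ≤ H := by
    refine le_trans ?_ hNX
    intro y hy
    rw [mem_normalizer_iff_cj] at hy ⊢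
    have h1 : cj y X ≤ P := by
      have := cj_mono y hXP
      rwa [hy] at this
    exact eq_of_card_eq_of_le_cyclic hPc h1 hXP (card_cj y X)
  have hPH : P ≤ H := Subgroup.le_normalizer.trans hNP
  have hP1 : P ≠ ⊥ := fun h => hX1 (le_bot_iff.mp (h ▸ hXP))
  have hpM : p ∣ Nat.card M := by
    rcases hP.2.1.card_eq_or_dvd with h2 | h2
    · exact absurd (Subgroup.card_eq_one.mp h2) hP1
    · exact h2.trans (Subgroup.card_dvd_of_le hP.1)
  -- `P` and `g P g⁻¹` are Sylow in `H = g M g⁻¹`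
  have h1 : SylIn p H (cj g P) := by
    have := Cfsg.Agent.Lib.Helper4.CNMax.sylIn_cj hP g
    rwa [← hg] at this
  have h2 : SylIn p H P := by
    refine ⟨hPH, hP.2.1, ?_⟩
    have e1 : Nat.card P * P.relIndex H = Nat.card H := by
      rw [← Subgroup.relIndex_bot_left, ← Subgroup.relIndex_bot_left,
        Subgroup.relIndex_mul_relIndex ⊥ P H bot_le hPH]
    have e2 : Nat.card (cj g P) * (cj g P).relIndex H = Nat.card H := by
      rw [← Subgroup.relIndex_bot_left, ← Subgroup.relIndex_bot_left (H := H),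
        Subgroup.relIndex_mul_relIndex ⊥ (cj g P) H bot_le h1.1]
    rw [card_cj] at e2
    have hpos : 0 < Nat.card P := Nat.card_pos
    have : P.relIndex H = (cj g P).relIndex H := by
      apply Nat.eq_of_mul_eq_mul_left hpos
      rw [e1, e2]
    rw [this]
    exact h1.2.2
  obtain ⟨y, hyH, hy⟩ := h1.conj h2
  -- `y g` normalizes `P`
  have hyg : y * g ∈ Subgroup.normalizer (P : Set G) := by
    rw [mem_normalizer_iff_cj, cj_mul]
    exact hy
  have hgH : g ∈ H := by
    have h3 : y * g ∈ H := hNP hyg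
    have : g = y⁻¹ * (y * g) := by group
    rw [this]
    exact H.mul_mem (H.inv_mem hyH) h3
  have hHM : H = M := by
    have h4 : cj g⁻¹ H = H := cj_eq_self_of_mem (H.inv_mem hgH)
    rw [← h4, hg]
    exact cj_inv_cj g M
  apply hpσ
  rw [mem_sigma_iff]
  exact ⟨hpM, P, hP, hHM ▸ hNP⟩

end Cfsg.Agent.Lib.Helper2.BG11
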