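import Mathlib
import Cfsg.Agent.Lib.Helper2.BG11a
import Cfsg.Agent.Lib.Helper4.PiCore
import Cfsg.Agent.Lib.Helper7.Wielandt1

set_option autoImplicit false

/-!
# Conjugation invariance of the Bender–Glauberman vocabulary

`σ`, `α`, `β`, `τ₁`, `τ₂`, `τ₃`, `κ` of a conjugate `g M g⁻¹` agree with those of `M`, and the
cores `M_σ`, `M_α`, `O_π(M)` are conjugated along.
-/

namespace Cfsg.Agent.Lib.Helper2.BG11

open Cfsg Cfsg.Agent.Lib.Lead Cfsg.Agent.Lib.Lead.BG10 Cfsg.Agent.Lib.Helper4 Cfsg.Agent.Lib.Helper7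
open Cfsg.Agent.Lib.Helper4.BG7 Cfsg.Agent.Lib.Helper4.BG8 Cfsg.Agent.Lib.Helper4.BG9
open Cfsg.Agent.Lib.Helper4.ThreeStep

universe u

variable {G : Type u} [Group G]

/-- the isomorphism `M ≃* g M g⁻¹` -/
def cjEquiv (g : G) (M : Subgroup G) : ↥M ≃* ↥(cj g M) := (MulAut.conj g).subgroupMap M

@[simp] theorem cjEquiv_coe (g : G) (M : Subgroup G) (x : M) :
    ((cjEquiv g M x : ↥(cj g M)) : G) = g * x * g⁻¹ := rfl

theorem subtype_comp_cjEquiv (g : G) (M : Subgroup G) :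
    (cj g M).subtype.comp (cjEquiv g M).toMonoidHom = (MulAut.conj g).toMonoidHom.comp M.subtype := by
  ext x
  rfl

/-- `O_π` of a conjugate -/
theorem piCoreOf_cj (π : Set ℕ) (g : G) (X : Subgroup G) :
    piCoreOf π (cj g X) = cj g (piCoreOf π X) := by
  unfold piCoreOf
  rw [← piCore_map_equiv π (cjEquiv g X)]
  show ((piCore π ↥X).map (cjEquiv g X).toMonoidHom).map (cj g X).subtype =
    ((piCore π ↥X).map X.subtype).map (MulAut.conj g).toMonoidHom
  rw [Subgroup.map_map, Subgroup.map_map, subtype_comp_cjEquiv]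

theorem pRankLE_of_mulEquiv {H K : Type*} [Group H] [Group K] (e : H ≃* K) {p k : ℕ}
    (h : PRankLE p k K) : PRankLE p k H := by
  intro A hA hAe
  have h1 := h (A.map e.toMonoidHom) ?_ ?_
  · rwa [Subgroup.card_map_of_injective e.injective] at h1
  · refine ⟨⟨?_⟩⟩
    rintro ⟨_, ⟨a, ha, rfl⟩⟩ ⟨_, ⟨b, hb, rfl⟩⟩
    apply Subtype.ext
    have := hA.is_comm.comm ⟨a, ha⟩ ⟨b, hb⟩
    have h2 : a * b = b * a := congrArg Subtype.val this
    show e.toMonoidHom a * e.toMonoidHom b = e.toMonoidHom b * e.toMonoidHom a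
    rw [← map_mul, ← map_mul, h2]
  · rintro _ ⟨a, ha, rfl⟩
    rw [← map_pow, hAe a ha, map_one]

theorem pRankLE_cj_iff (p k : ℕ) (g : G) (M : Subgroup G) :
    PRankLE p k ↥(cj g M) ↔ PRankLE p k ↥M :=
  ⟨pRankLE_of_mulEquiv (cjEquiv g M), pRankLE_of_mulEquiv (cjEquiv g M).symm⟩

theorem alpha_cj (g : G) (M : Subgroup G) : alpha (cj g M) = alpha M := by
  ext p
  unfold alpha
  simp only [Set.mem_ofPred_eq]
  rw [pRankLE_cj_iff]

theorem alphaCore_cj (g : G) (M : Subgroup G) : alphaCore (cj g M) = cj g (alphaCore M) := by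
  show piCoreOf (alpha (cj g M)) (cj g M) = cj g (piCoreOf (alpha M) M)
  rw [alpha_cj, piCoreOf_cj]

theorem beta_cj (g : G) (M : Subgroup G) : beta (cj g M) = beta M := by
  unfold beta
  rw [alpha_cj]

variable [Finite G]

theorem sigma_subset_sigma_cj (g : G) (M : Subgroup G) : sigma M ⊆ sigma (cj g M) := by
  intro p hp
  haveI : Fact p.Prime := ⟨hp.1⟩
  rw [mem_sigma_iff] at hp ⊢
  obtain ⟨hpM, S, hS, hN⟩ := hp
  refine ⟨by rw [card_cj]; exact hpM, cj g S, Cfsg.Agent.Lib.Helper4.CNMax.sylIn_cj hS g, ?_⟩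
  rw [normalizer_cj]
  exact cj_mono g hN

theorem sigma_cj (g : G) (M : Subgroup G) : sigma (cj g M) = sigma M := by
  apply Set.Subset.antisymm
  · have := sigma_subset_sigma_cj g⁻¹ (cj g M)
    rwa [cj_inv_cj] at this
  · exact sigma_subset_sigma_cj g M

theorem sigmaCore_cj (g : G) (M : Subgroup G) : sigmaCore (cj g M) = cj g (sigmaCore M) := by
  show piCoreOf (sigma (cj g M)) (cj g M) = cj g (piCoreOf (sigma M) M)
  rw [sigma_cj, piCoreOf_cj]

theorem card_commutator_cj (g : G) (M : Subgroup G) :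
    Nat.card ↥⁅cj g M, cj g M⁆ = Nat.card ↥⁅M, M⁆ := by
  have : ⁅cj g M, cj g M⁆ = cj g ⁅M, M⁆ := (Subgroup.map_commutator M M _).symm
  rw [this, card_cj]

theorem tau1_cj (g : G) (M : Subgroup G) : tau1 (cj g M) = tau1 M := by
  ext p
  unfold tau1
  simp only [Set.mem_ofPred_eq]
  rw [sigma_cj, card_cj, card_commutator_cj, pRankLE_cj_iff]

theorem tau2_cj (g : G) (M : Subgroup G) : tau2 (cj g M) = tau2 M := by
  ext p
  unfold tau2
  simp only [Set.mem_ofPred_eq]
  rw [sigma_cj, pRankLE_cj_iff, pRankLE_cj_iff]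

theorem tau3_cj (g : G) (M : Subgroup G) : tau3 (cj g M) = tau3 M := by
  ext p
  unfold tau3
  simp only [Set.mem_ofPred_eq]
  rw [sigma_cj, card_commutator_cj, pRankLE_cj_iff]


theorem kappa_subset_kappa_cj (g : G) (M : Subgroup G) : kappa M ⊆ kappa (cj g M) := by
  rintro p ⟨hp, hpM, hpσ, hall⟩
  haveI : Fact p.Prime := ⟨hp⟩
  refine ⟨hp, by rw [card_cj]; exact hpM, by rw [sigma_cj]; exact hpσ, fun P' => ?_⟩
  set e := cjEquiv g M with he
  have hrange : (P' : Subgroup ↥(cj g M)) ≤ e.toMonoidHom.range := by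
    intro y _
    exact ⟨e.symm y, e.apply_symm_apply y⟩
  set P : Sylow p ↥M := P'.comapOfInjective e.toMonoidHom e.injective hrange with hP
  have hmem : ∀ x : ↥M, x ∈ (P : Subgroup ↥M) ↔ e x ∈ (P' : Subgroup ↥(cj g M)) := by
    intro x
    rw [hP]
    rfl
  obtain ⟨hcyc, x, hxP, hx1, y, hy, hy1, hxy⟩ := hall P
  refine ⟨?_, e x, (hmem x).mp hxP, ?_, g * y * g⁻¹, ?_, ?_, ?_⟩
  · let f : ↥(P : Subgroup ↥M) →* ↥(P' : Subgroup ↥(cj g M)) :=
      { toFun := fun z => ⟨e z.1, (hmem z.1).mp z.2⟩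
        map_one' := by ext; simp
        map_mul' := fun a b => by ext; simp }
    have hf : Function.Surjective f := by
      intro z
      refine ⟨⟨e.symm z.1, (hmem _).mpr (by rw [e.apply_symm_apply]; exact z.2)⟩, ?_⟩
      apply Subtype.ext
      show e (e.symm z.1) = z.1
      exact e.apply_symm_apply _
    exact isCyclic_of_surjective f hf
  · intro h
    apply hx1
    apply e.injective
    rw [h, map_one]
  · rw [sigmaCore_cj]
    exact ⟨y, hy, rfl⟩
  · intro h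
    apply hy1
    calc y = g⁻¹ * (g * y * g⁻¹) * g := by group
      _ = 1 := by rw [h]; group
  · rw [cjEquiv_coe]
    calc g * (x : G) * g⁻¹ * (g * y * g⁻¹) = g * ((x : G) * y) * g⁻¹ := by group
      _ = g * (y * (x : G)) * g⁻¹ := by rw [hxy]
      _ = g * y * g⁻¹ * (g * (x : G) * g⁻¹) := by group

theorem kappa_cj (g : G) (M : Subgroup G) : kappa (cj g M) = kappa M := by
  apply Set.Subset.antisymm
  · have := kappa_subset_kappa_cj g⁻¹ (cj g M)
    rwa [cj_inv_cj] at this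
  · exact kappa_subset_kappa_cj g M

end Cfsg.Agent.Lib.Helper2.BG11
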