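import Mathlib
import Cfsg.Agent.Lib.Lead.FF15
import Cfsg.Agent.Lib.Lead.Coprime
import Cfsg.Agent.Lib.Lead.CoprimeAction2

set_option autoImplicit false

/-!
# The Frobenius core of Bender–Glauberman 10.12

`K` abelian, `P₁` of prime order normalizing `K`, coprime; both normalize a solvable group `Q` of
coprime order on which `P₁` has no fixed points.  Then `[K, P₁]` centralizes `Q`.
-/

namespace Cfsg.Agent.Lib.Helper2.BG11

open Cfsg Cfsg.Agent.Lib.Lead
open scoped commutatorElement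

universe u

variable {X : Type u} [Group X] [Finite X]

theorem commutator_le_centralizer_of_regular {K P₁ Q : Subgroup X}
    (hK : IsMulCommutative K) (hP : (Nat.card P₁).Prime)
    (hPK : P₁ ≤ Subgroup.normalizer (K : Set X))
    (hcopKP : (Nat.card K).Coprime (Nat.card P₁))
    (hQs : Group.IsSolvable Q)
    (hKQ : K ≤ Subgroup.normalizer (Q : Set X)) (hPQ : P₁ ≤ Subgroup.normalizer (Q : Set X))
    (hcop : (Nat.card Q).Coprime (Nat.card ↥(K ⊔ P₁)))
    (hfix : Q ⊓ Subgroup.centralizer (P₁ : Set X) = ⊥) :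
    ⁅K, P₁⁆ ≤ Subgroup.centralizer (Q : Set X) := by
  haveI := hK
  haveI : Fact (Nat.card P₁).Prime := ⟨hP⟩
  set U : Subgroup X := ⁅K, P₁⁆ with hU
  have hUK : U ≤ K := commutator_le_left_of_le_normalizer K P₁ hPK
  have hdec := (coprime_abelian_decomp P₁ K hPK hcopKP.symm).1
  have hPU : P₁ ≤ Subgroup.normalizer (U : Set X) := le_normalizer_commutator_right K P₁ hPK
  have hUn : ∀ e ∈ P₁, ∀ u ∈ U, e * u * e⁻¹ ∈ U := fun e he u hu =>
    (Subgroup.mem_normalizer_iff.mp (hPU he) u).mp hu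
  have hfpf : ∀ e ∈ P₁, e ≠ 1 → ∀ u ∈ U, e * u = u * e → u = 1 := by
    intro e he he1 u hu heu
    have htop : Subgroup.zpowers (⟨e, he⟩ : P₁) = ⊤ :=
      zpowers_eq_top_of_prime_card (p := Nat.card P₁) rfl
        (fun h => he1 (congrArg Subtype.val h))
    have huC : u ∈ Subgroup.centralizer (P₁ : Set X) := by
      rw [Subgroup.mem_centralizer_iff]
      intro a ha
      have hmem : (⟨a, ha⟩ : P₁) ∈ Subgroup.zpowers (⟨e, he⟩ : P₁) := by rw [htop]; trivial
      obtain ⟨k, hk⟩ := Subgroup.mem_zpowers_iff.mp hmem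
      have hak : a = e ^ k := by
        have := congrArg Subtype.val hk
        simpa using this.symm
      rw [hak]
      exact (Commute.zpow_left (show Commute e u from heu) k).eq
    have : u ∈ (K ⊓ Subgroup.centralizer (P₁ : Set X)) ⊓ ⁅K, P₁⁆ :=
      Subgroup.mem_inf.mpr ⟨Subgroup.mem_inf.mpr ⟨hUK hu, huC⟩, hu⟩
    rw [hdec, Subgroup.mem_bot] at this
    exact this
  have hUPle : U ⊔ P₁ ≤ K ⊔ P₁ := sup_le_sup_right hUK _
  have hnorm : K ⊔ P₁ ≤ Subgroup.normalizer (Q : Set X) := sup_le hKQ hPQ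
  have hHn : ∀ x ∈ U ⊔ P₁, ∀ h ∈ Q, x * h * x⁻¹ ∈ Q := fun x hx h hh =>
    (Subgroup.mem_normalizer_iff.mp (hnorm (hUPle hx)) h).mp hh
  have hcop' : (Nat.card Q).Coprime (Nat.card ↥(U ⊔ P₁)) :=
    Nat.Coprime.coprime_dvd_right (Subgroup.card_dvd_of_le hUPle) hcop
  have key := FF.s1545 U P₁ Q hUn hfpf hHn hQs hcop'
  rw [hfix, Subgroup.card_bot, one_pow, one_mul] at key
  have h1 : Nat.card ↥(Q ⊓ Subgroup.centralizer (U : Set X)) ≤ Nat.card Q :=
    Subgroup.card_le_of_le inf_le_left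
  have h2 : Nat.card Q ≤ Nat.card ↥(Q ⊓ Subgroup.centralizer (U : Set X)) := by
    rw [← key]
    have hpos : 0 < Nat.card ↥(Q ⊓ Subgroup.centralizer ((U ⊔ P₁ : Subgroup X) : Set X)) ^
        Nat.card P₁ := Nat.pow_pos Nat.card_pos
    exact Nat.le_mul_of_pos_left _ hpos
  have h3 : Q ⊓ Subgroup.centralizer (U : Set X) = Q :=
    Subgroup.eq_of_le_of_card_ge inf_le_left h2
  have h4 : Q ≤ Subgroup.centralizer (U : Set X) := by
    rw [← h3]; exact inf_le_right
  exact Subgroup.le_centralizer_iff.mp h4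

end Cfsg.Agent.Lib.Helper2.BG11
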