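import Mathlib
import Cfsg.Agent.Lib.Lead.Fpf4
import Cfsg.Agent.S0058
import Cfsg.Agent.Lib.Helper9.P3Class1

set_option autoImplicit false

/-!
# Two auxiliary lemmas for the Bender–Glauberman chain

* `frobenius_fixed`: a Frobenius group of order `q p` acting on a `t`-group.
* `le_of_centralizers_le_of_card_cube`: generation by centralizers for a nonabelian group of
  order `p ^ 3` whose centre acts trivially.
-/

namespace Cfsg.Agent.Lib.Helper2.BGAux

universe u

variable {G : Type u} [Group G] [Finite G]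

/-- a nonidentity element of a cyclic group of prime order generates it -/
theorem mem_zpowers_of_prime_order {q : ℕ} [Fact q.Prime] {c w : G} (hc : orderOf c = q)
    (hw : w ∈ Subgroup.zpowers c) (hw1 : w ≠ 1) : c ∈ Subgroup.zpowers w := by
  have hqp : q.Prime := Fact.out
  have hle : Subgroup.zpowers w ≤ Subgroup.zpowers c := Subgroup.zpowers_le.mpr hw
  have hcard : Nat.card (Subgroup.zpowers c) = q := by rw [Nat.card_zpowers, hc]
  have hwo : orderOf w ∣ q := by
    have := orderOf_dvd_natCard (⟨w, hw⟩ : Subgroup.zpowers c)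
    rw [hcard] at this
    rwa [Subgroup.orderOf_mk] at this
  have hwq : orderOf w = q := by
    rcases (Nat.dvd_prime hqp).mp hwo with h | h
    · exact absurd (orderOf_eq_one_iff.mp h) hw1
    · exact h
  have : Subgroup.zpowers w = Subgroup.zpowers c := by
    apply Subgroup.eq_of_le_of_card_ge hle
    rw [Nat.card_zpowers, Nat.card_zpowers, hwq, hc]
  rw [this]; exact Subgroup.mem_zpowers c

/-- (Frob) a Frobenius group `⟨c⟩ ⋊ ⟨z⟩` of order `q p` acting on a `t`-group, `c` acting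
nontrivially: `z` has nontrivial fixed points and acts nontrivially -/
theorem frobenius_fixed {p q t : ℕ} [Fact p.Prime] [Fact q.Prime] [Fact t.Prime]
    (hpq : p ≠ q) (htp : t ≠ p) (htq : t ≠ q) {z c : G} (hz : orderOf z = p) (hc : orderOf c = q)
    (hzc : z * c * z⁻¹ ∈ Subgroup.zpowers c) (hne : z * c ≠ c * z)
    {T : Subgroup G} (hT : IsPGroup t T) (hzT : z ∈ Subgroup.normalizer (T : Set G))
    (hcT : c ∈ Subgroup.normalizer (T : Set G))
    (hcT' : ¬ T ≤ Subgroup.centralizer ({c} : Set G)) :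
    T ⊓ Subgroup.centralizer ({z} : Set G) ≠ ⊥ ∧ ¬ T ≤ Subgroup.centralizer ({z} : Set G) := by
  have hpp : p.Prime := Fact.out
  have hqp : q.Prime := Fact.out
  have htp' : t.Prime := Fact.out
  have hcTle : Subgroup.zpowers c ≤ Subgroup.normalizer (T : Set G) := Subgroup.zpowers_le.mpr hcT
  have hconjT : ∀ x ∈ T, z * x * z⁻¹ ∈ T := fun x hx =>
    (Subgroup.mem_normalizer_iff.mp hzT x).mp hx
  have hconjC : ∀ y ∈ Subgroup.zpowers c, z * y * z⁻¹ ∈ Subgroup.zpowers c := by
    intro y hy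
    obtain ⟨k, rfl⟩ := Subgroup.mem_zpowers_iff.mp hy
    have : z * c ^ k * z⁻¹ = (z * c * z⁻¹) ^ k := by
      rw [conj_zpow]
    rw [this]; exact zpow_mem hzc k
  have hcomm_of : ∀ y ∈ Subgroup.zpowers c, z * y * z⁻¹ = y → y = 1 := by
    intro y hy hzy
    by_contra hy1
    have hcy := mem_zpowers_of_prime_order hc hy hy1
    obtain ⟨k, hk⟩ := Subgroup.mem_zpowers_iff.mp hcy
    apply hne
    have h1 : z * y = y * z := by
      calc z * y = z * y * z⁻¹ * z := by group
        _ = y * z := by rw [hzy]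
    rw [← hk]
    exact (Commute.zpow_right (show Commute z y from h1) k).eq
  have hdisj : T ⊓ Subgroup.zpowers c = ⊥ := by
    apply Subgroup.inf_eq_bot_of_coprime
    obtain ⟨n, hn⟩ := IsPGroup.iff_card.mp hT
    rw [hn, Nat.card_zpowers, hc]
    exact Nat.Coprime.pow_left n ((Nat.coprime_primes htp' hqp).mpr htq)
  refine ⟨?_, ?_⟩
  · intro hbot
    apply hcT'
    set H : Subgroup G := T ⊔ Subgroup.zpowers c with hH
    have hTH : T ≤ H := le_sup_left
    have hcH : Subgroup.zpowers c ≤ H := le_sup_right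
    have hHmem : ∀ h ∈ H, ∃ x ∈ T, ∃ y ∈ Subgroup.zpowers c, x * y = h := by
      intro h hh
      have : (h : G) ∈ ((T ⊔ Subgroup.zpowers c : Subgroup G) : Set G) := hh
      rw [Subgroup.coe_mul_of_right_le_normalizer_left T _ hcTle] at this
      exact Set.mem_mul.mp this
    have hzH : ∀ h ∈ H, z * h * z⁻¹ ∈ H := by
      intro h hh
      obtain ⟨x, hx, y, hy, rfl⟩ := hHmem h hh
      have : z * (x * y) * z⁻¹ = (z * x * z⁻¹) * (z * y * z⁻¹) := by group
      rw [this]
      exact mul_mem (hTH (hconjT x hx)) (hcH (hconjC y hy))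
    let φ : H →* H :=
      { toFun := fun h => ⟨z * h * z⁻¹, hzH h h.2⟩
        map_one' := by ext; simp
        map_mul' := fun a b => by ext; simp [mul_assoc] }
    have hφ : ∀ h : H, ((φ h : H) : G) = z * h * z⁻¹ := fun h => rfl
    have hiter : ∀ (n : ℕ) (h : H), ((φ^[n] h : H) : G) = z ^ n * h * (z ^ n)⁻¹ := by
      intro n
      induction n with
      | zero => intro h; simp
      | succ n ih =>
        intro h
        rw [Function.iterate_succ_apply', hφ, ih, pow_succ']
        group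
    have hfpf : MonoidHom.FixedPointFree φ := by
      intro h hh
      have hh' : z * (h : G) * z⁻¹ = h := congrArg Subtype.val hh
      obtain ⟨x, hx, y, hy, hxy⟩ := hHmem h h.2
      rw [← hxy] at hh'
      have key : x⁻¹ * (z * x * z⁻¹) = y * (z * y * z⁻¹)⁻¹ := by
        have h3 : (z * x * z⁻¹) * (z * y * z⁻¹) = x * y := by rw [← hh']; group
        rw [eq_mul_inv_iff_mul_eq, mul_assoc, h3]; group
      have hmem : x⁻¹ * (z * x * z⁻¹) ∈ T ⊓ Subgroup.zpowers c := by
        refine Subgroup.mem_inf.mpr ⟨mul_mem (inv_mem hx) (hconjT x hx), ?_⟩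
        rw [key]
        exact mul_mem hy (inv_mem (hconjC y hy))
      rw [hdisj, Subgroup.mem_bot] at hmem
      have hx' : z * x * z⁻¹ = x := (inv_mul_eq_one.mp hmem).symm
      have hy' : z * y * z⁻¹ = y := by
        rw [hmem] at key
        exact (mul_inv_eq_one.mp key.symm).symm
      have hy1 : y = 1 := hcomm_of y hy hy'
      have hx1 : x = 1 := by
        have : x ∈ T ⊓ Subgroup.centralizer ({z} : Set G) := by
          refine Subgroup.mem_inf.mpr ⟨hx, ?_⟩
          rw [Subgroup.mem_centralizer_iff]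
          intro g hg
          rw [Set.mem_singleton_iff] at hg; subst hg
          calc g * x = g * x * g⁻¹ * g := by group
            _ = x * g := by rw [hx']
        rw [hbot, Subgroup.mem_bot] at this
        exact this
      apply Subtype.ext
      rw [← hxy, hx1, hy1]; simp
    have hitp : ∀ g : H, φ^[p] g = g := by
      intro g
      apply Subtype.ext
      rw [hiter, ← hz, pow_orderOf_eq_one]; simp
    have hnil : Group.IsNilpotent H :=
      Cfsg.Agent.Lib.Lead.Fpf.nilpotent_of_fpf hpp (Nat.card H) H φ rfl ⟨hfpf, hitp⟩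
    have hsyl : ∀ (r : ℕ) (hr : Fact r.Prime) (P : Sylow r H), (P : Subgroup H).Normal :=
      ((Group.isNilpotent_of_finite_tfae (G := H)).out 0 3).mp hnil
    let c' : H := ⟨c, hcH (Subgroup.mem_zpowers c)⟩
    have hT' : IsPGroup t (T.subgroupOf H) := hT.comap_subtype
    have hQ' : IsPGroup q (Subgroup.zpowers c') := by
      apply IsPGroup.of_card (n := 1)
      rw [Nat.card_zpowers, pow_one, ← hc]
      exact Subgroup.orderOf_mk c _
    obtain ⟨P, hP⟩ := hT'.exists_le_sylow
    obtain ⟨Q, hQ⟩ := hQ'.exists_le_sylow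
    have hPn := hsyl t inferInstance P
    have hQn := hsyl q inferInstance Q
    have hdisjPQ : Disjoint (P : Subgroup H) (Q : Subgroup H) :=
      IsPGroup.disjoint_of_ne t q htq _ _ P.2 Q.2
    intro x hx
    have hcomm := Subgroup.commute_of_normal_of_disjoint _ _ hPn hQn hdisjPQ
      (⟨x, hTH hx⟩ : H) c' (hP (Subgroup.mem_subgroupOf.mpr hx)) (hQ (Subgroup.mem_zpowers c'))
    rw [Subgroup.mem_centralizer_iff]
    intro g hg
    rw [Set.mem_singleton_iff] at hg; subst hg
    have := congrArg Subtype.val hcomm.eq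
    exact this.symm
  · intro hTz
    apply hcT'
    have hzx : ∀ x ∈ T, z * x = x * z := by
      intro x hx
      exact Subgroup.mem_centralizer_iff.mp (hTz hx) z (Set.mem_singleton z)
    set w := z * c * z⁻¹ * c⁻¹ with hw
    have hwmem : w ∈ Subgroup.zpowers c := mul_mem hzc (inv_mem (Subgroup.mem_zpowers c))
    have hw1 : w ≠ 1 := by
      intro h1
      apply hne
      have h2 : z * c * z⁻¹ = c := mul_inv_eq_one.mp h1
      calc z * c = z * c * z⁻¹ * z := by group
        _ = c * z := by rw [h2]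
    have hcw := mem_zpowers_of_prime_order hc hwmem hw1
    have hwcent : w ∈ Subgroup.centralizer (T : Set G) := by
      rw [Subgroup.mem_centralizer_iff]
      intro x hx
      have hy : c⁻¹ * x * c ∈ T := (Subgroup.mem_normalizer_iff''.mp hcT x).mp hx
      have h1 := hzx x hx
      have h2 := hzx _ hy
      have h3 : z⁻¹ * (c⁻¹ * x * c) = c⁻¹ * x * c * z⁻¹ := by
        calc z⁻¹ * (c⁻¹ * x * c) = z⁻¹ * ((c⁻¹ * x * c) * z) * z⁻¹ := by group
          _ = z⁻¹ * (z * (c⁻¹ * x * c)) * z⁻¹ := by rw [h2]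
          _ = c⁻¹ * x * c * z⁻¹ := by group
      calc x * w = (x * z) * c * z⁻¹ * c⁻¹ := by rw [hw]; group
        _ = (z * x) * c * z⁻¹ * c⁻¹ := by rw [h1]
        _ = z * c * (c⁻¹ * x * c * z⁻¹) * c⁻¹ := by group
        _ = z * c * (z⁻¹ * (c⁻¹ * x * c)) * c⁻¹ := by rw [h3]
        _ = w * x := by rw [hw]; group
    have hcC : c ∈ Subgroup.centralizer (T : Set G) := (Subgroup.zpowers_le.mpr hwcent) hcw
    intro x hx
    rw [Subgroup.mem_centralizer_iff]
    intro g hg
    rw [Set.mem_singleton_iff] at hg; subst hg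
    exact (Subgroup.mem_centralizer_iff.mp hcC x hx).symm

/-- generation by centralizers through a central quotient: `B / Z` abelian noncyclic acting on
`Y`, where `Z` is a normal subgroup, central in `B`, meeting `Y` trivially -/
theorem le_of_centralizers_le_quot {M : Type*} [Group M] [Finite M] {p : ℕ} [Fact p.Prime]
    (Y B Z W : Subgroup M) [hZn : Z.Normal] (hZB : Z ≤ B)
    (hZc : ∀ z ∈ Z, ∀ b ∈ B, z * b = b * z)
    (hBp : IsPGroup p B) (hcomm : ∀ x ∈ B, ∀ y ∈ B, x * y * x⁻¹ * y⁻¹ ∈ Z)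
    (hna : ¬ ∀ x ∈ B, ∀ y ∈ B, x * y = y * x)
    (hBY : B ≤ Subgroup.normalizer (Y : Set M)) (hcop : (Nat.card Y).Coprime p)
    (h : ∀ b ∈ B, b ∉ Z → Y ⊓ Subgroup.centralizer ({b} : Set M) ≤ W) : Y ≤ W := by
  classical
  set π := QuotientGroup.mk' Z with hπ
  have hπeq : ∀ a b : M, π a = π b ↔ a⁻¹ * b ∈ Z := fun a b => QuotientGroup.eq
  have hπ1 : ∀ a : M, π a = 1 ↔ a ∈ Z := fun a => QuotientGroup.eq_one_iff a
  set A := B.map π with hA
  set K := Y.map π with hK
  have hYZ : Y ⊓ Z = ⊥ := by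
    apply Subgroup.inf_eq_bot_of_coprime
    obtain ⟨n, hn⟩ := IsPGroup.iff_card.mp (hBp.to_le hZB)
    rw [hn]; exact Nat.Coprime.pow_right n hcop
  haveI hAc : IsMulCommutative A := by
    constructor; constructor
    rintro ⟨_, ⟨x, hx, rfl⟩⟩ ⟨_, ⟨y, hy, rfl⟩⟩
    apply Subtype.ext
    show π x * π y = π y * π x
    rw [← map_mul, ← map_mul, hπeq]
    have := hcomm y⁻¹ (inv_mem hy) x⁻¹ (inv_mem hx)
    simpa [mul_assoc] using this
  have hAnc : ¬ IsCyclic A := by
    intro hcyc
    apply hna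
    obtain ⟨⟨g0, hg0⟩, hgen⟩ := hcyc.exists_generator
    obtain ⟨g, hg, rfl⟩ := hg0
    have hrep : ∀ b ∈ B, ∃ k : ℤ, ∃ z ∈ Z, b = g ^ k * z := by
      intro b hb
      have hb' : π b ∈ A := ⟨b, hb, rfl⟩
      have := hgen ⟨π b, hb'⟩
      obtain ⟨k, hk⟩ := Subgroup.mem_zpowers_iff.mp this
      have hk' : π g ^ k = π b := by
        have := congrArg Subtype.val hk
        simpa using this
      rw [← map_zpow, hπeq] at hk'
      exact ⟨k, _, hk', by group⟩
    intro x hx y hy
    obtain ⟨k, z1, hz1, rfl⟩ := hrep x hx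
    obtain ⟨l, z2, hz2, rfl⟩ := hrep y hy
    have hgk : ∀ k : ℤ, g ^ k ∈ B := fun k => zpow_mem hg k
    have e1 := hZc z1 hz1 (g ^ l) (hgk l)
    have e2 := hZc z2 hz2 (g ^ k) (hgk k)
    have e3 := hZc z1 hz1 z2 (hZB hz2)
    have e4 : g ^ k * g ^ l = g ^ l * g ^ k := by
      rw [← zpow_add, ← zpow_add, add_comm]
    calc g ^ k * z1 * (g ^ l * z2) = g ^ k * (z1 * g ^ l) * z2 := by group
      _ = g ^ k * (g ^ l * z1) * z2 := by rw [e1]
      _ = (g ^ k * g ^ l) * (z1 * z2) := by group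
      _ = (g ^ l * g ^ k) * (z2 * z1) := by rw [e4, e3]
      _ = g ^ l * (g ^ k * z2) * z1 := by group
      _ = g ^ l * (z2 * g ^ k) * z1 := by rw [e2]
      _ = g ^ l * z2 * (g ^ k * z1) := by group
  have hAK : A ≤ Subgroup.normalizer (K : Set (M ⧸ Z)) := by
    rintro _ ⟨b, hb, rfl⟩
    apply Subgroup.mem_normalizer_fintype
    rintro _ ⟨y, hy, rfl⟩
    refine ⟨b * y * b⁻¹, (Subgroup.mem_normalizer_iff.mp (hBY hb) y).mp hy, by simp⟩
  have hcopAK : (Nat.card A).Coprime (Nat.card K) := by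
    obtain ⟨n, hn⟩ := IsPGroup.iff_card.mp hBp
    have h1 : Nat.card A ∣ p ^ n := hn ▸ Subgroup.card_map_dvd B π
    have h2 : Nat.card K ∣ Nat.card Y := Subgroup.card_map_dvd Y π
    exact Nat.Coprime.coprime_dvd_left h1
      (Nat.Coprime.coprime_dvd_right h2 (Nat.Coprime.pow_left n hcop.symm))
  have hgen := Cfsg.Agent.S0058.result A K hAnc hAK hcopAK
  have hle : K ≤ (Y ⊓ W).map π := by
    rw [← hgen]
    apply iSup₂_le
    rintro a ⟨haA, ha1⟩
    intro x hx
    obtain ⟨hxK, hxa⟩ := Subgroup.mem_inf.mp hx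
    obtain ⟨b, hb, rfl⟩ := haA
    obtain ⟨y, hy, rfl⟩ := hxK
    have hbZ : b ∉ Z := by
      intro hbZ
      apply ha1
      exact (hπ1 b).mpr hbZ
    have hyb : π b * π y = π y * π b :=
      Subgroup.mem_centralizer_iff.mp hxa (π b) (Set.mem_singleton _)
    have hmemZ : y * b * y⁻¹ * b⁻¹ ∈ Z := by
      rw [← hπ1]
      rw [map_mul, map_mul, map_mul, map_inv, map_inv, ← hyb]; group
    have hmemY : y * b * y⁻¹ * b⁻¹ ∈ Y := by
      have h2 : b * y⁻¹ * b⁻¹ ∈ Y :=
        (Subgroup.mem_normalizer_iff.mp (hBY hb) y⁻¹).mp (inv_mem hy)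
      have := mul_mem hy h2
      simpa [mul_assoc] using this
    have h1 : y * b * y⁻¹ * b⁻¹ = 1 := by
      have : y * b * y⁻¹ * b⁻¹ ∈ Y ⊓ Z := Subgroup.mem_inf.mpr ⟨hmemY, hmemZ⟩
      rwa [hYZ, Subgroup.mem_bot] at this
    have hyc : y ∈ Y ⊓ Subgroup.centralizer ({b} : Set M) := by
      refine Subgroup.mem_inf.mpr ⟨hy, ?_⟩
      rw [Subgroup.mem_centralizer_iff]
      intro g hg
      rw [Set.mem_singleton_iff] at hg; subst hg
      have : y * g = g * y := by
        calc y * g = (y * g * y⁻¹ * g⁻¹) * g * y := by group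
          _ = g * y := by rw [h1, one_mul]
      exact this.symm
    exact ⟨y, Subgroup.mem_inf.mpr ⟨hy, h b hb hbZ hyc⟩, rfl⟩
  intro y hy
  have hmem : π y ∈ (Y ⊓ W).map π := hle ⟨y, hy, rfl⟩
  obtain ⟨w, hwYW, hw⟩ := hmem
  obtain ⟨hwY, hwW⟩ := Subgroup.mem_inf.mp hwYW
  have hz : w⁻¹ * y ∈ Z := by rw [← hπeq]; exact hw
  have h2 : w⁻¹ * y ∈ Y ⊓ Z := Subgroup.mem_inf.mpr ⟨mul_mem (inv_mem hwY) hy, hz⟩
  rw [hYZ, Subgroup.mem_bot, inv_mul_eq_one] at h2
  rw [← h2]; exact hwW

/-- (Gen) generation by centralizers for a nonabelian group of order `p ^ 3` whose centre acts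
trivially -/
theorem le_of_centralizers_le_of_card_cube {p : ℕ} [Fact p.Prime] {B Y W : Subgroup G}
    (hB : Nat.card B = p ^ 3) (hBna : ¬ IsMulCommutative B)
    (hBY : B ≤ Subgroup.normalizer (Y : Set G)) (hcop : (Nat.card Y).Coprime p)
    (hZY : B ⊓ Subgroup.centralizer (B : Set G) ≤ Subgroup.centralizer (Y : Set G))
    (h : ∀ b ∈ B, b ∉ Subgroup.centralizer (B : Set G) →
      Y ⊓ Subgroup.centralizer ({b} : Set G) ≤ W) : Y ≤ W := by
  classical
  set Z : Subgroup G := B ⊓ Subgroup.centralizer (B : Set G) with hZ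
  set N : Subgroup G := Subgroup.normalizer (Z : Set G) with hN
  have hZB : Z ≤ B := inf_le_left
  have hZcent : ∀ z ∈ Z, ∀ b ∈ B, z * b = b * z := by
    intro z hz b hb
    exact (Subgroup.mem_centralizer_iff.mp (Subgroup.mem_inf.mp hz).2 b hb).symm
  have hYN : Y ≤ N := by
    intro y hy
    apply Subgroup.mem_normalizer_fintype
    intro n hn
    have : y * n * y⁻¹ = n := by
      have := Subgroup.mem_centralizer_iff.mp (hZY hn) y hy
      rw [this]; group
    rw [this]; exact hn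
  have hBN : B ≤ N := by
    intro b hb
    apply Subgroup.mem_normalizer_fintype
    intro n hn
    have : b * n * b⁻¹ = n := by
      rw [← hZcent n hn b hb]; group
    rw [this]; exact hn
  have hna0 : ¬ ∀ a b : B, a * b = b * a := fun hall => hBna ⟨⟨hall⟩⟩
  obtain ⟨-, hcommB, -⟩ := Cfsg.Agent.H9P3.nonab_center (H := B) p hB hna0
  haveI : (Z.subgroupOf N).Normal := Subgroup.normal_in_normalizer
  have key := le_of_centralizers_le_quot (p := p) (Y.subgroupOf N) (B.subgroupOf N)
    (Z.subgroupOf N) (W.subgroupOf N) ?_ ?_ ?_ ?_ ?_ ?_ ?_ ?_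
  · intro y hy
    exact Subgroup.mem_subgroupOf.mp (key (show (⟨y, hYN hy⟩ : N) ∈ Y.subgroupOf N from
      Subgroup.mem_subgroupOf.mpr hy))
  · intro x hx
    exact Subgroup.mem_subgroupOf.mpr (hZB (Subgroup.mem_subgroupOf.mp hx))
  · intro z hz b hb
    apply Subtype.ext
    exact hZcent z (Subgroup.mem_subgroupOf.mp hz) b (Subgroup.mem_subgroupOf.mp hb)
  · exact (IsPGroup.of_card hB).comap_subtype
  · intro x hx y hy
    rw [Subgroup.mem_subgroupOf] at hx hy ⊢
    have h1 := hcommB ⟨x, hx⟩ ⟨y, hy⟩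
    rw [commutatorElement_def] at h1
    refine Subgroup.mem_inf.mpr ⟨?_, ?_⟩
    · exact mul_mem (mul_mem (mul_mem hx hy) (inv_mem hx)) (inv_mem hy)
    · rw [Subgroup.mem_centralizer_iff]
      intro b hb
      have := Subgroup.mem_center_iff.mp h1 ⟨b, hb⟩
      have := congrArg Subtype.val this
      simpa using this
  · intro hall
    apply hna0
    intro a b
    apply Subtype.ext
    have := hall ⟨a, hBN a.2⟩ (Subgroup.mem_subgroupOf.mpr a.2) ⟨b, hBN b.2⟩
      (Subgroup.mem_subgroupOf.mpr b.2)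
    have := congrArg Subtype.val this
    simpa using this
  · intro b hb
    apply Subgroup.mem_normalizer_fintype
    intro n hn
    have hn' : (n : G) ∈ Y := Subgroup.mem_subgroupOf.mp hn
    have hb' : (b : G) ∈ B := Subgroup.mem_subgroupOf.mp hb
    apply Subgroup.mem_subgroupOf.mpr
    have := (Subgroup.mem_normalizer_iff.mp (hBY hb') n).mp hn'
    simpa using this
  · rw [Nat.card_congr (Subgroup.subgroupOfEquivOfLe hYN).toEquiv]
    exact hcop
  · intro b hb hbZ x hx
    have hb' : (b : G) ∈ B := Subgroup.mem_subgroupOf.mp hb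
    obtain ⟨hxY, hxc⟩ := Subgroup.mem_inf.mp hx
    have hxY' : (x : G) ∈ Y := Subgroup.mem_subgroupOf.mp hxY
    apply Subgroup.mem_subgroupOf.mpr
    apply h b hb'
    · intro hbc
      apply hbZ
      exact Subgroup.mem_subgroupOf.mpr (Subgroup.mem_inf.mpr ⟨hb', hbc⟩)
    · refine Subgroup.mem_inf.mpr ⟨hxY', ?_⟩
      rw [Subgroup.mem_centralizer_iff]
      intro g hg
      rw [Set.mem_singleton_iff] at hg; subst hg
      have := Subgroup.mem_centralizer_iff.mp hxc b (Set.mem_singleton b)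
      have := congrArg Subtype.val this
      simpa using this

end Cfsg.Agent.Lib.Helper2.BGAux
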