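import Mathlib
import Cfsg.Agent.Lib.Helper2.BG11a
import Cfsg.Agent.Lib.Lead.BG10y
import Cfsg.Agent.Lib.Helper4.BG12b
import Cfsg.Agent.Lib.Helper4.CNSolv1

set_option autoImplicit false

/-!
# Bender–Glauberman, Corollary 12.10(a),(b) (independent of Theorem 12.5)

For `p ∉ σ(M)` the Sylow `p`-subgroups of `M` are abelian; nilpotent `σ(M)'`-subgroups of `M`
are abelian; the derived subgroup of a complement `E` of `M_σ` is abelian.
-/

namespace Cfsg.Agent.Lib.Helper2.BG11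

open Cfsg Cfsg.Agent.Lib.Lead Cfsg.Agent.Lib.Lead.BG10 Cfsg.Agent.Lib.Helper4 Cfsg.Agent.Lib.Helper7
open Cfsg.Agent.Lib.Helper4.BG7 Cfsg.Agent.Lib.Helper4.BG8 Cfsg.Agent.Lib.Helper4.BG9
open Cfsg.Agent.Lib.Helper4.ThreeStep Cfsg.Agent.Lib.Helper4.BG12

universe u

variable {G : Type u} [Group G] [Finite G]

/-- the Sylow `r`-subgroups of `M` are abelian for `r ∉ σ(M)` -/
theorem sylow_comm_of_not_sigma (hG : IsMinSimpleOddOrder G) {M : Subgroup G} (hM : IsCoatom M)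
    {r : ℕ} [hr : Fact r.Prime] (hrσ : r ∉ sigma M) {T : Subgroup G} (hT : SylIn r M T) :
    ∀ a ∈ T, ∀ b ∈ T, a * b = b * a := by
  by_contra hcon
  have hna : ¬ IsMulCommutative ↥T := by
    intro h
    apply hcon
    intro a ha b hb
    have := h.is_comm.comm ⟨a, ha⟩ ⟨b, hb⟩
    exact congrArg Subtype.val this
  have hU := nonabelian_uniq hG r T hT.2.1 hna
  have hT1 : T ≠ ⊥ := by
    intro h0
    apply hcon
    intro a ha b hb
    rw [h0, Subgroup.mem_bot] at ha hb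
    rw [ha, hb]
  have hTtop : T ≠ ⊤ := isPGroup_ne_top hG hT.2.1
  have hN := (uniq_of_le hU hM hT.1 Subgroup.le_normalizer (normalizer_ne_top hG hT1 hTtop)).1
  apply hrσ
  rw [mem_sigma_iff]
  refine ⟨?_, T, hT, hN⟩
  rcases hT.2.1.card_eq_or_dvd with h2 | h2
  · exact absurd (Subgroup.card_eq_one.mp h2) hT1
  · exact h2.trans (Subgroup.card_dvd_of_le hT.1)

/-- every `r`-subgroup of `M` is abelian for `r ∉ σ(M)` -/
theorem pgroup_comm_of_not_sigma (hG : IsMinSimpleOddOrder G) {M : Subgroup G} (hM : IsCoatom M)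
    {r : ℕ} [hr : Fact r.Prime] (hrσ : r ∉ sigma M) {R : Subgroup G} (hRM : R ≤ M)
    (hR : IsPGroup r R) : ∀ a ∈ R, ∀ b ∈ R, a * b = b * a := by
  obtain ⟨T, hRT, hT⟩ := exists_sylIn_ge hRM hR
  intro a ha b hb
  exact sylow_comm_of_not_sigma hG hM hrσ hT a (hRT ha) b (hRT hb)

/-- Corollary 12.10(a): a nilpotent `σ(M)'`-subgroup of `M` is abelian -/
theorem comm_of_nilpotent_of_sigma' (hG : IsMinSimpleOddOrder G) {M : Subgroup G}
    (hM : IsCoatom M) {N : Subgroup G} (hNM : N ≤ M) (hN : Group.IsNilpotent ↥N)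
    (hσ : ∀ p : ℕ, p.Prime → p ∣ Nat.card N → p ∉ sigma M) :
    ∀ a ∈ N, ∀ b ∈ N, a * b = b * a := by
  apply CNSolv.comm_of_nilpotent_of_sylow_comm hN
  intro r hr R hR
  haveI : Fact r.Prime := ⟨hr⟩
  by_cases hd : r ∣ Nat.card N
  · exact pgroup_comm_of_not_sigma hG hM (hσ r hr hd) (hR.1.trans hNM) hR.2.1
  · intro x hx y hy
    have hR1 : R = ⊥ := by
      rcases hR.2.1.card_eq_or_dvd with h2 | h2
      · exact Subgroup.card_eq_one.mp h2
      · exact absurd (h2.trans (Subgroup.card_dvd_of_le hR.1)) hd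
    rw [hR1, Subgroup.mem_bot] at hx hy
    rw [hx, hy]

theorem isMulCommutative_of_nilpotent_of_sigma' (hG : IsMinSimpleOddOrder G) {M : Subgroup G}
    (hM : IsCoatom M) {N : Subgroup G} (hNM : N ≤ M) (hN : Group.IsNilpotent ↥N)
    (hσ : ∀ p : ℕ, p.Prime → p ∣ Nat.card N → p ∉ sigma M) : IsMulCommutative ↥N := by
  refine ⟨⟨?_⟩⟩
  rintro ⟨a, ha⟩ ⟨b, hb⟩
  exact Subtype.ext (comm_of_nilpotent_of_sigma' hG hM hNM hN hσ a ha b hb)

/-- subgroups of a complement of `M_σ` are `σ(M)'`-groups -/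
theorem not_sigma_of_dvd_card_le_compl (hG : IsMinSimpleOddOrder G) {M : Subgroup G}
    (hM : IsCoatom M) {E : Subgroup G} (hE : IsComplIn E (sigmaCore M) M) {N : Subgroup G}
    (hNE : N ≤ E) : ∀ p : ℕ, p.Prime → p ∣ Nat.card N → p ∉ sigma M := fun p hp hd =>
  not_sigma_of_dvd_card_compl hG hM hE hp (hd.trans (Subgroup.card_dvd_of_le hNE))

/-- every Sylow subgroup of a complement `E` of `M_σ` is abelian -/
theorem sylow_compl_comm (hG : IsMinSimpleOddOrder G) {M : Subgroup G} (hM : IsCoatom M)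
    {E : Subgroup G} (hE : IsComplIn E (sigmaCore M) M) (r : ℕ) [Fact r.Prime] (T : Sylow r ↥E) :
    IsMulCommutative ↥(T : Subgroup ↥E) := by
  have hTp : IsPGroup r ↥((T : Subgroup ↥E).map E.subtype) := T.2.map _
  have hTE : (T : Subgroup ↥E).map E.subtype ≤ E := Subgroup.map_subtype_le _
  have hN : Group.IsNilpotent ↥((T : Subgroup ↥E).map E.subtype) := hTp.isNilpotent
  have hcomm := comm_of_nilpotent_of_sigma' hG hM (hTE.trans hE.1) hN
    (not_sigma_of_dvd_card_le_compl hG hM hE hTE)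
  refine ⟨⟨?_⟩⟩
  rintro ⟨a, ha⟩ ⟨b, hb⟩
  apply Subtype.ext
  apply Subtype.ext
  exact hcomm a ⟨a, ha, rfl⟩ b ⟨b, hb, rfl⟩

/-- Corollary 12.10(b): the derived subgroup of a complement `E` of `M_σ` is abelian -/
theorem commutator_compl_comm (hG : IsMinSimpleOddOrder G) {M : Subgroup G} (hM : IsCoatom M)
    {E : Subgroup G} (hE : IsComplIn E (sigmaCore M) M) : IsMulCommutative ↥⁅E, E⁆ :=
  isMulCommutative_of_nilpotent_of_sigma' hG hM ((commutator_self_le E).trans hE.1)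
    (commutator_compl_nilpotent hG hM hE)
    (not_sigma_of_dvd_card_le_compl hG hM hE (commutator_self_le E))

end Cfsg.Agent.Lib.Helper2.BG11
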