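import Mathlib
import Cfsg.Agent.Lib.Lead.BG10j
import Cfsg.Agent.S1450

set_option autoImplicit false

/-!
# Generic lemmas for Bender–Glauberman §11 (Lemma 11.5)

* a noncyclic group normalizing a subgroup of prime order has a nontrivial element centralizing it;
* a `p`-group acting nontrivially on a subgroup of prime order `r` forces `p ∣ r - 1`;
* `p`-length one factorization (re-export);
* Sylow `r`-subgroups of `O_{p'}(H)` are Sylow in `H` for `r > p` (solvable odd `H` of `p`-rank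
  at most two).
-/

namespace Cfsg.Agent.Lib.Helper2.BG11

open Cfsg Cfsg.Agent.Lib.Lead Cfsg.Agent.Lib.Lead.BG10 Cfsg.Agent.Lib.Helper4
open Cfsg.Agent.Lib.Helper4.BG76

universe u

variable {G : Type u} [Group G]

/-- the conjugation action of a subgroup `A ≤ N(X)` on `X` -/
noncomputable def actOn {A X : Subgroup G} (hAX : A ≤ Subgroup.normalizer (X : Set G)) :
    ↥A →* MulAut ↥X :=
  X.normalizerMonoidHom.comp (Subgroup.inclusion hAX)

theorem actOn_eq_one_iff {A X : Subgroup G} (hAX : A ≤ Subgroup.normalizer (X : Set G))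
    (a : ↥A) : actOn hAX a = 1 ↔ (a : G) ∈ Subgroup.centralizer (X : Set G) := by
  have h : actOn hAX a = 1 ↔ Subgroup.inclusion hAX a ∈ X.normalizerMonoidHom.ker := Iff.rfl
  rw [h, Subgroup.normalizerMonoidHom_ker, Subgroup.mem_subgroupOf]
  rfl

theorem isCyclic_mulAut_of_prime_card {X : Subgroup G} (hX : (Nat.card X).Prime) :
    IsCyclic (MulAut ↥X) := by
  haveI : Fact (Nat.card X).Prime := ⟨hX⟩
  haveI : IsCyclic ↥X := isCyclic_of_prime_card rfl
  have e := IsCyclic.mulAutMulEquiv ↥X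
  exact isCyclic_of_injective e.toMonoidHom e.injective

/-- (G1a) a noncyclic subgroup of `N(X)`, `|X|` prime, contains a nontrivial element of `C(X)` -/
theorem exists_ne_one_mem_centralizer_of_prime_card {A X : Subgroup G}
    (hX : (Nat.card X).Prime) (hAX : A ≤ Subgroup.normalizer (X : Set G)) (hA : ¬ IsCyclic ↥A) :
    ∃ a ∈ A, a ≠ 1 ∧ a ∈ Subgroup.centralizer (X : Set G) := by
  haveI := isCyclic_mulAut_of_prime_card hX
  by_contra hcon
  push Not at hcon
  apply hA
  refine isCyclic_of_injective (actOn hAX) ?_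
  rw [injective_iff_map_eq_one]
  intro a ha
  by_contra h1
  exact hcon a a.2 (fun h => h1 (Subtype.ext h)) ((actOn_eq_one_iff hAX a).mp ha)

/-- (G1b) a `p`-subgroup of `N(X)` not centralizing `X`, `|X| = r` prime, forces `p ∣ r - 1` -/
theorem dvd_pred_of_not_le_centralizer {p : ℕ} [Fact p.Prime] {A X : Subgroup G}
    (hX : (Nat.card X).Prime) (hA : IsPGroup p ↥A)
    (hAX : A ≤ Subgroup.normalizer (X : Set G))
    (hc : ¬ A ≤ Subgroup.centralizer (X : Set G)) : p ∣ Nat.card X - 1 := by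
  haveI : Fact (Nat.card X).Prime := ⟨hX⟩
  haveI : IsCyclic ↥X := isCyclic_of_prime_card rfl
  haveI : Finite ↥X := Nat.finite_of_card_ne_zero hX.ne_zero
  have hrange : IsPGroup p ↥(actOn hAX).range :=
    hA.of_surjective (actOn hAX).rangeRestrict (actOn hAX).rangeRestrict_surjective
  have hne : Nat.card ↥(actOn hAX).range ≠ 1 := by
    intro h1
    apply hc
    intro a ha
    have hbot : (actOn hAX).range = ⊥ := Subgroup.card_eq_one.mp h1
    have : actOn hAX ⟨a, ha⟩ ∈ (actOn hAX).range := ⟨_, rfl⟩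
    rw [hbot, Subgroup.mem_bot] at this
    exact (actOn_eq_one_iff hAX ⟨a, ha⟩).mp this
  have hdvd : p ∣ Nat.card ↥(actOn hAX).range := by
    rcases hrange.card_eq_or_dvd with h | h
    · exact absurd h hne
    · exact h
  have h2 : Nat.card ↥(actOn hAX).range ∣ Nat.card (MulAut ↥X) :=
    Subgroup.card_subgroup_dvd_card _
  rw [IsCyclic.card_mulAut, Nat.totient_prime hX] at h2
  exact hdvd.trans h2

variable [Finite G]

/-- (G4) `p`-length one factorization `H = O_{p'}(H) N_H(P)` -/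
theorem exists_mul_of_pLength_one {p : ℕ} [Fact p.Prime] {H P : Subgroup G}
    (hH : PLengthLE p 1 ↥H) (hP : SylIn p H P) :
    ∀ h ∈ H, ∃ u ∈ cG p H, ∃ n ∈ Subgroup.normalizer (P : Set G), n ∈ H ∧ h = u * n := by
  intro h hh
  obtain ⟨k, hk, n, hn, e⟩ := exists_mul_of_plength_one hH hP hh
  exact ⟨k, hk, n, (Subgroup.mem_inf.mp hn).2, (Subgroup.mem_inf.mp hn).1, e⟩

theorem relIndex_cG (p : ℕ) (H : Subgroup G) : (cG p H).relIndex H = (pPrimeCore p ↥H).index := by
  unfold cG
  rw [Subgroup.relIndex, Subgroup.subgroupOf,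
    Subgroup.comap_map_eq_self_of_injective H.subtype_injective]

theorem cG_le' (p : ℕ) (H : Subgroup G) : cG p H ≤ H := by
  unfold cG
  exact Subgroup.map_subtype_le _

/-- (G5) for `r > p` a Sylow `r`-subgroup of `O_{p'}(H)` is a Sylow `r`-subgroup of `H` -/
theorem sylIn_of_sylIn_cG {p r : ℕ} [Fact p.Prime] [Fact r.Prime] {H R : Subgroup G}
    (hsolv : Group.IsSolvable ↥H) (hodd : Odd (Nat.card ↥H)) (hpH : p ∣ Nat.card ↥H)
    (hr2 : PRankLE p 2 ↥H) (hpr : p < r) (hR : SylIn r (cG p H) R) : SylIn r H R := by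
  refine ⟨hR.1.trans (cG_le' p H), hR.2.1, ?_⟩
  intro hdvd
  rw [← Subgroup.relIndex_mul_relIndex R (cG p H) H hR.1 (cG_le' p H)] at hdvd
  rcases (Nat.Prime.dvd_mul (Fact.out : r.Prime)).mp hdvd with h | h
  · exact hR.2.2 h
  · rw [relIndex_cG] at h
    have := (Cfsg.Agent.S1450.result hodd p hpH hr2).1 r Fact.out h
    omega

end Cfsg.Agent.Lib.Helper2.BG11
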