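import Mathlib

set_option autoImplicit false

/-!
# A counting lemma for automorphisms of prime order of a group of order `p²`

If `z` normalizes `A` of order `p²`, centralizes a subgroup `X ≤ A` of order `p`, and `z ^ q`
centralizes `A` for a prime `q > p`, then `z` centralizes `A`.
-/

namespace Cfsg.Agent.Lib.Helper2.BG12

universe u

variable {G : Type u} [Group G]

theorem centralizes_of_pow_prime {p q : ℕ} [hp : Fact p.Prime] [hq : Fact q.Prime] (hpq : p < q)
    {A X : Subgroup G} (hA : Nat.card A = p ^ 2) (hX : Nat.card X = p) (hXA : X ≤ A) {z : G}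
    (hzA : z ∈ Subgroup.normalizer (A : Set G)) (hzX : ∀ a ∈ X, z * a = a * z)
    (hzq : ∀ a ∈ A, z ^ q * a = a * z ^ q) : ∀ a ∈ A, z * a = a * z := by
  classical
  have hAfin : Finite A := Nat.finite_of_card_ne_zero (by rw [hA]; exact pow_ne_zero 2 hp.out.pos.ne')
  haveI : Fintype A := Fintype.ofFinite A
  have hconj : ∀ a ∈ A, z * a * z⁻¹ ∈ A := fun a ha =>
    (Subgroup.mem_normalizer_iff.mp hzA a).mp ha
  let f : Function.End A := fun a => ⟨z * a * z⁻¹, hconj a a.2⟩
  have hiter : ∀ (n : ℕ) (a : A), (((f ^ n) a : A) : G) = z ^ n * a * (z ^ n)⁻¹ := by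
    intro n
    induction n with
    | zero =>
      intro a
      rw [pow_zero, pow_zero]
      show (a : G) = 1 * a * 1⁻¹
      group
    | succ n ih =>
      intro a
      rw [pow_succ']
      show z * ((f ^ n) a : A) * z⁻¹ = _
      rw [ih, pow_succ']
      group
  have hf : f ^ q ^ 1 = 1 := by
    rw [pow_one]
    funext a
    apply Subtype.ext
    rw [hiter]
    have := hzq a a.2
    show z ^ q * a * (z ^ q)⁻¹ = a
    rw [this]; group
  have hmod := Equiv.Perm.card_fixedPoints_modEq (p := q) (n := 1) hf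
  -- the fixed points form the subgroup `A ⊓ C(z)`
  set F : Subgroup G := A ⊓ Subgroup.centralizer ({z} : Set G) with hF
  have hfix : ∀ a : A, a ∈ Function.fixedPoints f ↔ (a : G) ∈ F := by
    intro a
    rw [Function.mem_fixedPoints, Function.IsFixedPt]
    constructor
    · intro h
      have h' : z * (a : G) * z⁻¹ = a := congrArg Subtype.val h
      refine Subgroup.mem_inf.mpr ⟨a.2, ?_⟩
      rw [Subgroup.mem_centralizer_iff]
      intro g hg
      rw [Set.mem_singleton_iff] at hg; subst hg
      calc g * (a : G) = g * a * g⁻¹ * g := by group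
        _ = a * g := by rw [h']
    · intro h
      have h2 := Subgroup.mem_centralizer_iff.mp (Subgroup.mem_inf.mp h).2 z (Set.mem_singleton z)
      apply Subtype.ext
      show z * (a : G) * z⁻¹ = a
      rw [h2]; group
  have hcardfix : Fintype.card (Function.fixedPoints f) = Nat.card F := by
    rw [← Nat.card_eq_fintype_card]
    apply Nat.card_congr
    refine ⟨fun a => ⟨(a.1 : G), (hfix a.1).mp a.2⟩,
      fun b => ⟨⟨b.1, (Subgroup.mem_inf.mp b.2).1⟩, (hfix _).mpr b.2⟩, ?_, ?_⟩
    · intro a; rfl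
    · intro b; rfl
  rw [hcardfix, ← Nat.card_eq_fintype_card, hA] at hmod
  have hFA : F ≤ A := inf_le_left
  have hXF : X ≤ F := by
    intro a ha
    refine Subgroup.mem_inf.mpr ⟨hXA ha, ?_⟩
    rw [Subgroup.mem_centralizer_iff]
    intro g hg
    rw [Set.mem_singleton_iff] at hg; subst hg
    exact hzX a ha
  haveI : Finite F := Finite.of_injective (Subgroup.inclusion hFA) (Subgroup.inclusion_injective hFA)
  have hd1 : Nat.card F ∣ p ^ 2 := hA ▸ Subgroup.card_dvd_of_le hFA
  have hd2 : p ∣ Nat.card F := hX ▸ Subgroup.card_dvd_of_le hXF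
  obtain ⟨k, hk, hFk⟩ := (Nat.dvd_prime_pow hp.out).mp hd1
  have hk1 : k ≠ 0 := by
    rintro rfl
    rw [pow_zero] at hFk
    rw [hFk] at hd2
    exact hp.out.one_lt.ne' (Nat.dvd_one.mp hd2)
  have hk2 : k = 2 := by
    by_contra hne
    have hk' : k = 1 := by omega
    rw [hFk, hk', pow_one] at hmod
    -- `p² ≡ p (mod q)` gives `q ∣ p (p - 1)`
    have h1 : q ∣ p ^ 2 - p := (Nat.modEq_iff_dvd' (by nlinarith [hp.out.one_lt])).mp hmod.symm
    have h2 : p ^ 2 - p = p * (p - 1) := by
      rw [Nat.mul_sub_one, sq]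
    rw [h2] at h1
    rcases (Nat.Prime.dvd_mul hq.out).mp h1 with h3 | h3
    · have := Nat.le_of_dvd hp.out.pos h3
      omega
    · have hp1 : 0 < p - 1 := by have := hp.out.one_lt; omega
      have := Nat.le_of_dvd hp1 h3
      omega
  have hFeq : F = A := by
    apply Subgroup.eq_of_le_of_card_ge hFA
    rw [hFk, hk2, hA]
  intro a ha
  have : a ∈ F := hFeq ▸ ha
  exact Subgroup.mem_centralizer_iff.mp (Subgroup.mem_inf.mp this).2 z (Set.mem_singleton z)

end Cfsg.Agent.Lib.Helper2.BG12
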