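import Mathlib
import Cfsg.Agent.Lib.Helper2.BG12e
import Cfsg.Agent.Lib.Helper2.BG11d
import Cfsg.Agent.Lib.Lead.HallThm4

set_option autoImplicit false

/-!
# Bender–Glauberman, Corollary 12.10(e)-type statement (S1420, last clause)

A non-identity `τ₂(M)`-element `x` of `M` centralizing a non-identity element of `M_σ` has
`𝓜(C(x)) = {M}`.  Relative to Theorem 12.5(e) and Corollary 12.6(a).
-/

namespace Cfsg.Agent.Lib.Helper2.BG12

open Cfsg Cfsg.Agent.Lib.Lead Cfsg.Agent.Lib.Lead.BG10 Cfsg.Agent.Lib.Helper4 Cfsg.Agent.Lib.Helper7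
open Cfsg.Agent.Lib.Helper4.BG7 Cfsg.Agent.Lib.Helper4.BG8 Cfsg.Agent.Lib.Helper4.BG9
open Cfsg.Agent.Lib.Helper4.ThreeStep Cfsg.Agent.Lib.Helper4.BG12 Cfsg.Agent.Lib.Helper2.BG11

universe u

variable {G : Type u} [Group G] [Finite G]

/-- Theorem 12.5(e) as a hypothesis -/
def TI125 (M : Subgroup G) : Prop :=
  ∀ (p : ℕ) [Fact p.Prime], p ∈ tau2 M → ∀ A : Subgroup G, A ≤ M → IsElementaryAbelian p A →
    Nat.card A = p ^ 2 → ∀ Mstar : Subgroup G, IsCoatom Mstar → Mstar ≠ M → A ≤ Mstar →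
      sigmaCore M ⊓ Mstar = ⊥

/-- Corollary 12.6(a) as a hypothesis -/
def Norm126 (M : Subgroup G) : Prop :=
  ∀ E : Subgroup G, IsComplIn E (sigmaCore M) M → ∀ (p : ℕ) [Fact p.Prime], p ∈ tau2 M →
    ∀ A : Subgroup G, A ≤ E → IsElementaryAbelian p A → Nat.card A = p ^ 2 →
      E ≤ Subgroup.normalizer (A : Set G) ∧ ∀ X : Subgroup G, X ≤ E → Nat.card X = p → X ≤ A

/-- conjugates in `M` of a complement of `M_σ` are complements -/
theorem isComplIn_cj {M E : Subgroup G} (hE : IsComplIn E (sigmaCore M) M) {m : G} (hm : m ∈ M) :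
    IsComplIn (cj m E) (sigmaCore M) M := by
  have hnorm := le_normalizer_sigmaCore M
  refine ⟨cj_le_of_mem hm hE.1, hE.2.1, ?_, ?_⟩
  · rw [Subgroup.eq_bot_iff_forall]
    intro x hx
    obtain ⟨hx1, hx2⟩ := Subgroup.mem_inf.mp hx
    rw [mem_cj] at hx1
    have hx3 : m⁻¹ * x * m ∈ sigmaCore M := by
      have := (Subgroup.mem_normalizer_iff.mp (hnorm (M.inv_mem hm)) x).mp hx2
      simpa using this
    have : m⁻¹ * x * m ∈ E ⊓ sigmaCore M := Subgroup.mem_inf.mpr ⟨hx1, hx3⟩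
    rw [hE.2.2.1, Subgroup.mem_bot] at this
    calc x = m * (m⁻¹ * x * m) * m⁻¹ := by group
      _ = 1 := by rw [this]; group
  · intro k hk
    have hk' : m⁻¹ * k * m ∈ M := M.mul_mem (M.mul_mem (M.inv_mem hm) hk) hm
    obtain ⟨a, ha, b, hb, hab⟩ := hE.2.2.2 _ hk'
    refine ⟨m * a * m⁻¹, ?_, m * b * m⁻¹, ?_, ?_⟩
    · rw [mem_cj]
      have : m⁻¹ * (m * a * m⁻¹) * m = a := by group
      rw [this]; exact ha
    · exact (Subgroup.mem_normalizer_iff.mp (hnorm hm) b).mp hb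
    · calc k = m * (m⁻¹ * k * m) * m⁻¹ := by group
        _ = m * (a * b) * m⁻¹ := by rw [hab]
        _ = m * a * m⁻¹ * (m * b * m⁻¹) := by group

theorem card_compl_mul_card_sigmaCore {M E : Subgroup G} (hE : IsComplIn E (sigmaCore M) M) :
    Nat.card M = Nat.card E * Nat.card (sigmaCore M) := by
  rw [card_complIn_sigmaCore hE, mul_comm]
  rw [← Subgroup.relIndex_bot_left, ← Subgroup.relIndex_bot_left (H := sigmaCore M),
    Subgroup.relIndex_mul_relIndex ⊥ (sigmaCore M) M bot_le (sigmaCore_le M)]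

theorem coprime_card_compl_sigmaCore (hG : IsMinSimpleOddOrder G) {M E : Subgroup G}
    (hM : IsCoatom M) (hE : IsComplIn E (sigmaCore M) M) :
    (Nat.card E).Coprime (Nat.card (sigmaCore M)) := by
  apply Nat.coprime_of_dvd
  intro k hk hkE hkS
  apply not_sigma_of_dvd_card_compl hG hM hE hk hkE
  rw [card_sigmaCore] at hkS
  exact isPiNum_card_piCore (sigma M) k hk hkS

/-- a `σ(M)'`-element of `M` lies in a complement of `M_σ` -/
theorem exists_compl_mem (hG : IsMinSimpleOddOrder G) {M E : Subgroup G} (hM : IsCoatom M)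
    (hE : IsComplIn E (sigmaCore M) M) {x : G} (hxM : x ∈ M)
    (hx : ∀ p : ℕ, p.Prime → p ∣ orderOf x → p ∉ sigma M) :
    ∃ E₁ : Subgroup G, IsComplIn E₁ (sigmaCore M) M ∧ x ∈ E₁ := by
  haveI : Group.IsSolvable ↥M := solvable_of_ne_top hG hM.1
  have hcard := card_compl_mul_card_sigmaCore hE
  have hcop := coprime_card_compl_sigmaCore hG hM hE
  obtain ⟨hconj, hdom⟩ := hallProp_of_solvable ↥M _ _ hcard hcop
  set x' : ↥M := ⟨x, hxM⟩ with hx'
  have hKcop : (Nat.card (Subgroup.zpowers x')).Coprime (Nat.card (sigmaCore M)) := by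
    apply Nat.coprime_of_dvd
    intro k hk hkK hkS
    rw [Nat.card_zpowers, hx', Subgroup.orderOf_mk] at hkK
    apply hx k hk hkK
    rw [card_sigmaCore] at hkS
    exact isPiNum_card_piCore (sigma M) k hk hkS
  obtain ⟨H, hHcard, hKH⟩ := hdom _ hKcop
  have hE'card : Nat.card (E.subgroupOf M) = Nat.card E := card_subgroupOf_of_le hE.1
  obtain ⟨g, hg⟩ := hconj (E.subgroupOf M) H hE'card hHcard
  refine ⟨cj (g : G) E, isComplIn_cj hE g.2, ?_⟩
  have hxH : x' ∈ H := hKH (Subgroup.mem_zpowers x')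
  rw [← hg] at hxH
  rw [Subgroup.mem_pointwise_smul_iff_inv_smul_mem] at hxH
  rw [mem_cj]
  have h2 : (MulAut.conj g)⁻¹ • x' = g⁻¹ * x' * g := by
    rw [← map_inv, MulAut.smul_def, MulAut.conj_apply, inv_inv]
  rw [h2, Subgroup.mem_subgroupOf] at hxH
  simpa using hxH

/-- a complement of `M_σ` contains an elementary abelian subgroup of order `p²`, `p ∈ τ₂(M)` -/
theorem exists_sq_le_compl (hG : IsMinSimpleOddOrder G) {M E : Subgroup G} (hM : IsCoatom M)
    (hE : IsComplIn E (sigmaCore M) M) {p : ℕ} [hp : Fact p.Prime] (hpτ : p ∈ tau2 M) :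
    ∃ A : Subgroup G, A ≤ E ∧ IsElementaryAbelian p A ∧ Nat.card A = p ^ 2 := by
  obtain ⟨-, hpσ, hr2, hr1⟩ := hpτ
  obtain ⟨T, -, hT⟩ := exists_sylIn_ge (p := p) (bot_le : (⊥ : Subgroup G) ≤ E) IsPGroup.of_bot
  have hTM : SylIn p M T := by
    refine ⟨hT.1.trans hE.1, hT.2.1, ?_⟩
    rw [← Subgroup.relIndex_mul_relIndex T E M hT.1 hE.1]
    intro hd
    rcases (Nat.Prime.dvd_mul hp.out).mp hd with h | h
    · exact hT.2.2 h
    · -- `|M : E| = |M_σ|`
      have h1 : Nat.card E * E.relIndex M = Nat.card M := by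
        rw [← Subgroup.relIndex_bot_left, ← Subgroup.relIndex_bot_left (H := M),
          Subgroup.relIndex_mul_relIndex ⊥ E M bot_le hE.1]
      rw [card_compl_mul_card_sigmaCore hE] at h1
      have h2 : E.relIndex M = Nat.card (sigmaCore M) :=
        Nat.eq_of_mul_eq_mul_left Nat.card_pos h1
      rw [h2, card_sigmaCore] at h
      exact hpσ (isPiNum_card_piCore (sigma M) p hp.out h)
  have hT1 : ¬ PRankLE p 1 ↥T := fun h => hr1 (prankLE_of_sylIn hTM h)
  obtain ⟨A, hAT, hA, hAcard⟩ := exists_elementary_of_not_pRankLE hT1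
  refine ⟨A, hAT.trans hT.1, hA, ?_⟩
  apply card_eq_sq hA hAcard
  intro h
  exact not_pRankLE_of_elementary (hAT.trans hTM.1) hA h hr2

end Cfsg.Agent.Lib.Helper2.BG12
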