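import Mathlib
import Cfsg.Agent.Lib.Lead.BG10o
import Cfsg.Agent.Lib.Lead.Fpf4
import Cfsg.Agent.Lib.Helper4.NS2

set_option autoImplicit false

/-!
# Bender–Glauberman, Lemma 14.1 (relative to Theorem 12.5)

A prime `p` dividing `|M|` outside `σ(M) ∪ κ(M)`: `Ω₁` of a Sylow `p`-subgroup of `M` has order at
most `p²`, acts without fixed points on `M_σ`, and `M_σ` is nilpotent.
-/

namespace Cfsg.Agent.Lib.Helper2.BG14

open Cfsg Cfsg.Agent.Lib.Lead Cfsg.Agent.Lib.Lead.BG10 Cfsg.Agent.Lib.Helper4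
open Cfsg.Agent.Lib.Helper4.BG8

universe u

variable {G : Type u} [Group G] [Finite G]

/-- Thompson: a subgroup normalized by an element of prime order without fixed points is
nilpotent -/
theorem nilpotent_of_regular {p : ℕ} (hp : p.Prime) {z : G} (hz : z ^ p = 1) {N : Subgroup G}
    (hzN : z ∈ Subgroup.normalizer (N : Set G))
    (hfix : N ⊓ Subgroup.centralizer ({z} : Set G) = ⊥) : Group.IsNilpotent ↥N := by
  have hconj : ∀ x ∈ N, z * x * z⁻¹ ∈ N := fun x hx =>
    (Subgroup.mem_normalizer_iff.mp hzN x).mp hx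
  let φ : N →* N :=
    { toFun := fun h => ⟨z * h * z⁻¹, hconj h h.2⟩
      map_one' := by ext; simp
      map_mul' := fun a b => by ext; simp [mul_assoc] }
  have hφ : ∀ h : N, ((φ h : N) : G) = z * h * z⁻¹ := fun h => rfl
  have hiter : ∀ (n : ℕ) (h : N), ((φ^[n] h : N) : G) = z ^ n * h * (z ^ n)⁻¹ := by
    intro n
    induction n with
    | zero => intro h; simp
    | succ n ih =>
      intro h
      rw [Function.iterate_succ_apply', hφ, ih, pow_succ']
      group
  have hfpf : MonoidHom.FixedPointFree φ := by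
    intro h hh
    have hh' : z * (h : G) * z⁻¹ = h := congrArg Subtype.val hh
    have : (h : G) ∈ N ⊓ Subgroup.centralizer ({z} : Set G) := by
      refine Subgroup.mem_inf.mpr ⟨h.2, ?_⟩
      rw [Subgroup.mem_centralizer_iff]
      intro g hg
      rw [Set.mem_singleton_iff] at hg; subst hg
      calc g * (h : G) = g * h * g⁻¹ * g := by group
        _ = h * g := by rw [hh']
    rw [hfix, Subgroup.mem_bot] at this
    exact Subtype.ext this
  have hitp : ∀ g : N, φ^[p] g = g := by
    intro g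
    apply Subtype.ext
    rw [hiter, hz]; simp
  exact Cfsg.Agent.Lib.Lead.Fpf.nilpotent_of_fpf hp (Nat.card N) N φ rfl ⟨hfpf, hitp⟩


/-- the part of Theorem 12.5 used for Lemma 14.1 -/
def Tau2Facts (M : Subgroup G) (p : ℕ) : Prop :=
  ∀ A : Subgroup G, A ≤ M → IsElementaryAbelian p A → Nat.card A = p ^ 2 →
    Group.IsNilpotent ↥(sigmaCore M) ∧
    (∀ P : Sylow p M, A ≤ (P : Subgroup M).map M.subtype →
        ∀ x ∈ (P : Subgroup M).map M.subtype, x ^ p = 1 ↔ x ∈ A) ∧
    sigmaCore M ⊓ Subgroup.centralizer (A : Set G) = ⊥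

/-- Bender–Glauberman, Lemma 14.1, relative to Theorem 12.5 -/
theorem lemma_14_1 (hG : IsMinSimpleOddOrder G) {M : Subgroup G} (hM : IsCoatom M)
    {p : ℕ} [hp : Fact p.Prime] (hpM : p ∣ Nat.card M) (hpσ : p ∉ sigma M) (hpκ : p ∉ kappa M)
    (h125 : p ∈ tau2 M → Tau2Facts M p) (S : Sylow p M) :
    Nat.card ↥(Subgroup.closure {x : G | x ∈ (S : Subgroup M).map M.subtype ∧ x ^ p = 1}) ≤ p ^ 2 ∧
      sigmaCore M ⊓ Subgroup.centralizer ((Subgroup.closure
        {x : G | x ∈ (S : Subgroup M).map M.subtype ∧ x ^ p = 1} : Subgroup G) : Set G) = ⊥ ∧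
      Group.IsNilpotent ↥(sigmaCore M) := by
  have hpp : p.Prime := hp.out
  have hr2 : PRankLE p 2 ↥M := by
    by_contra h
    exact hpσ (alpha_subset_sigma hG hM ⟨hpp, h⟩)
  by_cases hr1 : PRankLE p 1 ↥M
  · -- cyclic Sylow subgroups
    have hodd : Odd (Nat.card M) := odd_card_sub hG M
    have hk : ∃ P : Sylow p M, ¬ (IsCyclic P ∧ ∃ x : M, x ∈ (P : Subgroup M) ∧ x ≠ 1 ∧
        ∃ y ∈ sigmaCore M, y ≠ 1 ∧ (x : G) * y = y * x) := by
      by_contra hcon
      apply hpκ
      refine ⟨hpp, hpM, hpσ, fun P => ?_⟩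
      by_contra hP
      exact hcon ⟨P, hP⟩
    obtain ⟨P, hP⟩ := hk
    have hPc : IsCyclic ↥(P : Subgroup M) := isCyclic_sylow_of_pRankLE_one hodd hr1 P
    have hSc : IsCyclic ↥(S : Subgroup M) := isCyclic_sylow_of_pRankLE_one hodd hr1 S
    have hno : ¬ ∃ x : M, x ∈ (P : Subgroup M) ∧ x ≠ 1 ∧
        ∃ y ∈ sigmaCore M, y ≠ 1 ∧ (x : G) * y = y * x := fun h => hP ⟨hPc, h⟩
    obtain ⟨g, hg⟩ := MulAction.exists_smul_eq M S P
    have hnorm := le_normalizer_sigmaCore M
    have hreg : ∀ x ∈ (S : Subgroup M).map M.subtype, x ≠ 1 → ∀ y ∈ sigmaCore M,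
        x * y = y * x → y = 1 := by
      rintro _ ⟨x, hx, rfl⟩ hx1 y hy hxy
      by_contra hy1
      apply hno
      refine ⟨g * x * g⁻¹, ?_, ?_, (g : G) * y * (g : G)⁻¹, ?_, ?_, ?_⟩
      · rw [← hg, Sylow.coe_subgroup_smul]
        exact ⟨x, hx, by simp [MulAut.smul_def]⟩
      · intro h
        apply hx1
        have : x = 1 := by
          have h2 : g * x * g⁻¹ = 1 := h
          calc x = g⁻¹ * (g * x * g⁻¹) * g := by group
            _ = 1 := by rw [h2]; group
        rw [this]; rfl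
      · exact (Subgroup.mem_normalizer_iff.mp (hnorm g.2) y).mp hy
      · intro h
        apply hy1
        calc y = (g : G)⁻¹ * ((g : G) * y * (g : G)⁻¹) * (g : G) := by group
          _ = 1 := by rw [h]; group
      · have h1 : M.subtype x * y = y * M.subtype x := hxy
        have h2 : ((g * x * g⁻¹ : M) : G) = (g : G) * (x : G) * (g : G)⁻¹ := by simp
        rw [h2]
        have h3 : (x : G) * y = y * (x : G) := h1
        calc (g : G) * (x : G) * (g : G)⁻¹ * ((g : G) * y * (g : G)⁻¹)
            = (g : G) * ((x : G) * y) * (g : G)⁻¹ := by group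
          _ = (g : G) * (y * (x : G)) * (g : G)⁻¹ := by rw [h3]
          _ = (g : G) * y * (g : G)⁻¹ * ((g : G) * (x : G) * (g : G)⁻¹) := by group
    -- an element of order `p` in `S`
    have hpS : p ∣ Nat.card ↥(S : Subgroup M) := S.dvd_card_of_dvd_card hpM
    obtain ⟨z', hz'⟩ := exists_prime_orderOf_dvd_card' p hpS
    set z : G := ((z' : M) : G) with hz
    have hzS : z ∈ (S : Subgroup M).map M.subtype := ⟨(z' : M), z'.2, rfl⟩
    have hzo : orderOf z = p := by
      rw [hz, Subgroup.orderOf_coe, Subgroup.orderOf_coe]; exact hz'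
    have hzp : z ^ p = 1 := by rw [← hzo]; exact pow_orderOf_eq_one z
    have hz1 : z ≠ 1 := by
      intro h
      rw [h, orderOf_one] at hzo
      exact hpp.one_lt.ne hzo
    have hzM : z ∈ M := (z' : M).2
    set T : Set G := {x : G | x ∈ (S : Subgroup M).map M.subtype ∧ x ^ p = 1} with hT
    have hzΩ : z ∈ Subgroup.closure T := Subgroup.subset_closure ⟨hzS, hzp⟩
    -- commutativity of the image of `S`
    have hScomm : ∀ a ∈ (S : Subgroup M).map M.subtype, ∀ b ∈ (S : Subgroup M).map M.subtype,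
        a * b = b * a := by
      rintro _ ⟨a, ha, rfl⟩ _ ⟨b, hb, rfl⟩
      obtain ⟨c, hc⟩ := hSc.exists_generator
      have hcomm : ∀ u v : ↥(S : Subgroup M), u * v = v * u := by
        intro u v
        obtain ⟨i, rfl⟩ := Subgroup.mem_zpowers_iff.mp (hc u)
        obtain ⟨j, rfl⟩ := Subgroup.mem_zpowers_iff.mp (hc v)
        rw [← zpow_add, ← zpow_add, add_comm]
      have := congrArg (fun w : ↥(S : Subgroup M) => ((w : M) : G)) (hcomm ⟨a, ha⟩ ⟨b, hb⟩)
      simpa using this
    have hΩ : ∀ w ∈ Subgroup.closure T, w ∈ (S : Subgroup M).map M.subtype ∧ w ^ p = 1 := by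
      intro w hw
      induction hw using Subgroup.closure_induction with
      | mem x hx => exact hx
      | one => exact ⟨one_mem _, one_pow p⟩
      | mul x y _ _ hx hy =>
        refine ⟨mul_mem hx.1 hy.1, ?_⟩
        have hc : Commute x y := hScomm x hx.1 y hy.1
        rw [hc.mul_pow, hx.2, hy.2, one_mul]
      | inv x _ hx => exact ⟨inv_mem hx.1, by rw [inv_pow, hx.2, inv_one]⟩
    have hΩle : Subgroup.closure T ≤ (S : Subgroup M).map M.subtype := fun w hw => (hΩ w hw).1
    have hSmapc : IsCyclic ↥((S : Subgroup M).map M.subtype) := by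
      have e := (S : Subgroup M).equivMapOfInjective M.subtype M.subtype_injective
      exact isCyclic_of_surjective e.toMonoidHom e.surjective
    have hΩc : IsCyclic ↥(Subgroup.closure T) :=
      isCyclic_of_injective (Subgroup.inclusion hΩle) (Subgroup.inclusion_injective hΩle)
    have hcardΩ : Nat.card ↥(Subgroup.closure T) ∣ p := by
      rw [← IsCyclic.exponent_eq_card]
      apply Monoid.exponent_dvd_of_forall_pow_eq_one
      intro w
      apply Subtype.ext
      simpa using (hΩ w w.2).2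
    have hzfix : sigmaCore M ⊓ Subgroup.centralizer ({z} : Set G) = ⊥ := by
      rw [Subgroup.eq_bot_iff_forall]
      intro y hy
      obtain ⟨hy1, hy2⟩ := Subgroup.mem_inf.mp hy
      have := Subgroup.mem_centralizer_iff.mp hy2 z (Set.mem_singleton z)
      exact hreg z hzS hz1 y hy1 this
    refine ⟨?_, ?_, ?_⟩
    · have h1 : Nat.card ↥(Subgroup.closure T) ≤ p := Nat.le_of_dvd hpp.pos hcardΩ
      have h2 : p ≤ p ^ 2 := by nlinarith [hpp.one_lt]
      exact h1.trans h2
    · rw [Subgroup.eq_bot_iff_forall]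
      intro y hy
      obtain ⟨hy1, hy2⟩ := Subgroup.mem_inf.mp hy
      have := Subgroup.mem_centralizer_iff.mp hy2 z hzΩ
      exact hreg z hzS hz1 y hy1 this
    · exact nilpotent_of_regular hpp hzp (hnorm hzM) hzfix
  · -- rank two
    have hp2 : p ∈ tau2 M := ⟨hpp, hpσ, hr2, hr1⟩
    have hS1 : ¬ PRankLE p 1 ↥(S : Subgroup M) := fun h => hr1 (NS.prankLE_of_sylow S 1 h)
    obtain ⟨E, hES, hE, hEcard⟩ := exists_elementary_of_not_pRankLE hS1
    have hA : IsElementaryAbelian p (E.map M.subtype) :=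
      elementary_map_subtype (q := p) (Q := M) (E := E) hE
    have hAM : E.map M.subtype ≤ M := Subgroup.map_subtype_le _
    have hAcard0 : Nat.card ↥(E.map M.subtype) = Nat.card E :=
      Subgroup.card_map_of_injective M.subtype_injective
    have hAcard : Nat.card ↥(E.map M.subtype) = p ^ 2 := by
      apply card_eq_sq hA
      · rw [hAcard0]; exact hEcard
      · intro h
        exact not_pRankLE_of_elementary hAM hA h hr2
    have hAS : E.map M.subtype ≤ (S : Subgroup M).map M.subtype := Subgroup.map_mono hES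
    obtain ⟨hnil, hΩ, hfix⟩ := h125 hp2 _ hAM hA hAcard
    have hset : {x : G | x ∈ (S : Subgroup M).map M.subtype ∧ x ^ p = 1} =
        ((E.map M.subtype : Subgroup G) : Set G) := by
      ext x
      constructor
      · rintro ⟨hx1, hx2⟩
        exact (hΩ S hAS x hx1).mp hx2
      · intro hx
        exact ⟨hAS hx, hA.2 x hx⟩
    rw [hset, Subgroup.closure_eq]
    exact ⟨hAcard.le, hfix, hnil⟩

end Cfsg.Agent.Lib.Helper2.BG14
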