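import Mathlib
import Cfsg.Agent.Lib.Helper2.BG12f
import Cfsg.Agent.Lib.Lead.BG11m
import Cfsg.Agent.Lib.Helper4.NilpSub

set_option autoImplicit false

/-!
# Bender–Glauberman, Theorem 12.7(a)

If `p ∈ τ₂(M)` and the Sylow `p`-subgroups of `G` are nonabelian, then `τ₂(M) = {p}`.
-/

namespace Cfsg.Agent.Lib.Helper2.BG12

open Cfsg Cfsg.Agent.Lib.Lead Cfsg.Agent.Lib.Lead.BG10 Cfsg.Agent.Lib.Helper4 Cfsg.Agent.Lib.Helper7
open Cfsg.Agent.Lib.Helper4.BG7 Cfsg.Agent.Lib.Helper4.BG8 Cfsg.Agent.Lib.Helper4.BG9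
open Cfsg.Agent.Lib.Helper4.ThreeStep Cfsg.Agent.Lib.Helper4.BG12 Cfsg.Agent.Lib.Helper2.BG11
open Cfsg.Agent.Lib.Lead.BG11

universe u

variable {G : Type u} [Group G] [Finite G]

/-- a prime of `τ₂(M)` does not lie in `β(L)` for any `L` -/
theorem not_beta_of_tau2 (hG : IsMinSimpleOddOrder G) {M : Subgroup G} (hM : IsCoatom M) {p : ℕ}
    [hp : Fact p.Prime] (hpτ : p ∈ tau2 M) (L : Subgroup G) : p ∉ beta L := fun h =>
  (lemma_10_5 hG hM hpτ.2.2.1 hpτ.2.2.2).1 h.2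

/-- in a nilpotent Hall `β(L)'`-subgroup of `L_σ`, Sylow subgroups for `p, q ∈ σ(L) ∖ β(L)` exist,
are Sylow in `G` and commute -/
theorem exists_commuting_sylows (hG : IsMinSimpleOddOrder G) {L : Subgroup G} (hL : IsCoatom L)
    {p q : ℕ} [hp : Fact p.Prime] [hq : Fact q.Prime] (hpq : p ≠ q) (hpσ : p ∈ sigma L)
    (hqσ : q ∈ sigma L) (hpβ : p ∉ beta L) (hqβ : q ∉ beta L) :
    ∃ S T : Subgroup G, SylIn p L S ∧ SylIn q L T ∧ ∀ a ∈ S, ∀ b ∈ T, a * b = b * a := by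
  obtain ⟨H, hH, hHn⟩ := (theorem_10_8 hG hL).2.2.2.1
  obtain ⟨S, -, hS⟩ := exists_sylIn_ge (p := p) (bot_le : (⊥ : Subgroup G) ≤ H) IsPGroup.of_bot
  obtain ⟨T, -, hT⟩ := exists_sylIn_ge (p := q) (bot_le : (⊥ : Subgroup G) ≤ H) IsPGroup.of_bot
  have hSσ : SylIn p (sigmaCore L) S := by
    refine ⟨hS.1.trans hH.1, hS.2.1, ?_⟩
    rw [← Subgroup.relIndex_mul_relIndex S H (sigmaCore L) hS.1 hH.1]
    intro hd
    rcases (Nat.Prime.dvd_mul hp.out).mp hd with h | h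
    · exact hS.2.2 h
    · exact hH.2.2 p hp.out ⟨hp.out, hpβ⟩ h
  have hTσ : SylIn q (sigmaCore L) T := by
    refine ⟨hT.1.trans hH.1, hT.2.1, ?_⟩
    rw [← Subgroup.relIndex_mul_relIndex T H (sigmaCore L) hT.1 hH.1]
    intro hd
    rcases (Nat.Prime.dvd_mul hq.out).mp hd with h | h
    · exact hT.2.2 h
    · exact hH.2.2 q hq.out ⟨hq.out, hqβ⟩ h
  refine ⟨S, T, sylIn_of_sylIn_sigmaCore hG hL hpσ hSσ, sylIn_of_sylIn_sigmaCore hG hL hqσ hTσ, ?_⟩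
  intro a ha b hb
  have hbo : (orderOf b).Coprime p := by
    obtain ⟨k, hk⟩ := (IsPGroup.iff_orderOf.mp hT.2.1) ⟨b, hb⟩
    rw [Subgroup.orderOf_mk] at hk
    rw [hk]
    exact Nat.Coprime.pow_left k ((Nat.coprime_primes hq.out hp.out).mpr hpq.symm)
  exact commute_of_isNilpotent hHn (hS.1 ha) (hT.1 hb) (isPGroup_zpowers_of_mem hS.2.1 ha) hbo

/-- **Theorem 12.7(a)** -/
theorem tau2_eq_singleton (hG : IsMinSimpleOddOrder G) {M : Subgroup G} (hM : IsCoatom M)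
    {E : Subgroup G} (hE : IsComplIn E (sigmaCore M) M) {p : ℕ} [hp : Fact p.Prime]
    (hpτ : p ∈ tau2 M) (hS : ∀ S : Sylow p G, ¬ IsMulCommutative ↥(S : Subgroup G))
    {A : Subgroup G} (hAE : A ≤ E) (hA : IsElementaryAbelian p A) (hAc : Nat.card A = p ^ 2) :
    tau2 M = {p} := by
  ext q
  rw [Set.mem_singleton_iff]
  refine ⟨fun hqτ => ?_, fun h => h ▸ hpτ⟩
  by_contra hne
  haveI hq : Fact q.Prime := ⟨hqτ.1⟩
  have hAM : A ≤ M := hAE.trans hE.1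
  have dT : T2 M p A := ⟨hM, hpτ.2.1, hAM, hA, hAc⟩
  obtain ⟨B, hBE, hB, hBc⟩ := exists_sq_le_compl hG hM hE hqτ
  have hBM : B ≤ M := hBE.trans hE.1
  have hEA := (corollary_12_6 hG hM hE hpτ hAE hA hAc).1.1
  have hEB := (corollary_12_6 hG hM hE hqτ hBE hB hBc).1.1
  have hAp : IsPGroup p A := isPGroup_of_elementary hA
  have hBq : IsPGroup q B := isPGroup_of_elementary hB
  -- `A` and `B` commute
  have hinf : A ⊓ B = ⊥ := by
    apply Subgroup.inf_eq_bot_of_coprime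
    rw [hAc, hBc]
    exact Nat.Coprime.pow 2 2 ((Nat.coprime_primes hp.out hq.out).mpr (Ne.symm hne))
  have hcomm : ∀ a ∈ A, ∀ b ∈ B, a * b = b * a := by
    intro a ha b hb
    have h1 : a * b * a⁻¹ * b⁻¹ ∈ A ⊓ B := by
      refine ⟨?_, ?_⟩
      · have : a * b * a⁻¹ * b⁻¹ = a * (b * a⁻¹ * b⁻¹) := by group
        rw [this]
        exact A.mul_mem ha ((Subgroup.mem_normalizer_iff.mp (hEA (hBE hb)) a⁻¹).mp (A.inv_mem ha))
      · exact B.mul_mem ((Subgroup.mem_normalizer_iff.mp (hEB (hAE ha)) b).mp hb) (B.inv_mem hb)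
    rw [hinf, Subgroup.mem_bot] at h1
    calc a * b = (a * b * a⁻¹ * b⁻¹) * (b * a) := by group
      _ = b * a := by rw [h1, one_mul]
  -- the maximal subgroup `L ≥ N(A)`
  obtain ⟨L, hL, hNL⟩ := exists_coatom_ge (dT.normalizer_ne_top hG)
  have hpσL : p ∈ sigma L := dT.sigma_of_normalizer_le hG hL hNL
  have hAL : A ≤ L := Subgroup.le_normalizer.trans hNL
  have hBCA : B ≤ Subgroup.centralizer (A : Set G) := by
    intro b hb
    rw [Subgroup.mem_centralizer_iff]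
    intro a ha
    exact hcomm a ha b hb
  have hACB : A ≤ Subgroup.centralizer (B : Set G) := by
    intro a ha
    rw [Subgroup.mem_centralizer_iff]
    intro b hb
    exact (hcomm a ha b hb).symm
  have hBL : B ≤ L := hBCA.trans ((Subgroup.centralizer_le_normalizer _).trans hNL)
  have hAσL : A ≤ sigmaCore L := le_sigmaCore_of_isPGroup hG hL hpσL hAL hAp
  have hq1 : q ^ 1 < Nat.card B := by
    rw [hBc]; exact Nat.pow_lt_pow_right hq.out.one_lt (by norm_num)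
  -- `q ∈ σ(L)`
  have hqσL : q ∈ sigma L := by
    by_contra hqσ
    have hr2 : PRankLE q 2 ↥L := by
      by_contra hr
      exact hqσ (alpha_subset_sigma hG hL ⟨hq.out, hr⟩)
    have hqτL : q ∈ tau2 L := ⟨hq.out, hqσ, hr2, not_pRankLE_of_elementary hBL hB hq1⟩
    have h1 := (theorem_12_5 hG hL hqτL hBL hB hBc).2.2.2.1
    have h2 : A ≤ sigmaCore L ⊓ Subgroup.centralizer (B : Set G) := le_inf hAσL hACB
    rw [h1] at h2
    exact dT.ne_bot (le_bot_iff.mp h2)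
  -- commuting Sylow subgroups of `L`
  obtain ⟨S₀, T₀, hS₀, hT₀, hST₀⟩ := exists_commuting_sylows hG hL (fun h => hne h.symm) hpσL hqσL
    (not_beta_of_tau2 hG hM hpτ L) (not_beta_of_tau2 hG hM hqτ L)
  obtain ⟨l, hl, hlA⟩ := hS₀.exists_conj_le hAL hAp
  have hlinv : l⁻¹ ∈ L := L.inv_mem hl
  have hS₁ : SylIn p L (cj l⁻¹ S₀) := hS₀.cj hlinv
  have hT₁ : SylIn q L (cj l⁻¹ T₀) := hT₀.cj hlinv
  have hAS₁ : A ≤ cj l⁻¹ S₀ := by
    have := cj_mono l⁻¹ hlA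
    rwa [cj_inv_cj] at this
  have hST₁ : ∀ a ∈ cj l⁻¹ S₀, ∀ b ∈ cj l⁻¹ T₀, a * b = b * a := by
    intro a ha b hb
    rw [mem_cj, inv_inv] at ha hb
    have := hST₀ _ ha _ hb
    calc a * b = l⁻¹ * ((l * a * l⁻¹) * (l * b * l⁻¹)) * l := by group
      _ = l⁻¹ * ((l * b * l⁻¹) * (l * a * l⁻¹)) * l := by rw [this]
      _ = b * a := by group
  have dS := sigmaData_of_sylIn hL hpσL hS₁
  have dT₁ := sigmaData_of_sylIn hL hqσL hT₁
  -- `T₁ ≤ C(S₁) ≤ C(A) ≤ M`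
  have hCAM := (prop_12_4 hG hM hAM hA hAc).1
  have hT₁M : cj l⁻¹ T₀ ≤ M := by
    intro b hb
    apply hCAM
    rw [Subgroup.mem_centralizer_iff]
    intro a ha
    exact hST₁ a (hAS₁ ha) b hb
  have hT₁sylM : SylIn q M (cj l⁻¹ T₀) := sylIn_of_sylow dT₁.hPsyl hT₁M
  have hT₁r : ¬ PRankLE q 1 ↥(cj l⁻¹ T₀) := fun h => hqτ.2.2.2 (prankLE_of_sylIn hT₁sylM h)
  obtain ⟨B₁, hB₁T, hB₁, hB₁card⟩ := exists_elementary_of_not_pRankLE hT₁r
  have hB₁M : B₁ ≤ M := hB₁T.trans hT₁M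
  have hB₁c : Nat.card B₁ = q ^ 2 := card_eq_sq hB₁ hB₁card
    (fun h => not_pRankLE_of_elementary hB₁M hB₁ h hqτ.2.2.1)
  have hCB₁M := (prop_12_4 hG hM hB₁M hB₁ hB₁c).1
  have hS₁M : cj l⁻¹ S₀ ≤ M := by
    intro a ha
    apply hCB₁M
    rw [Subgroup.mem_centralizer_iff]
    intro b hb
    exact (hST₁ a ha b (hB₁T hb)).symm
  have hS₁sylM : SylIn p M (cj l⁻¹ S₀) := sylIn_of_sylow dS.hPsyl hS₁M
  have hab := dT.abelian hG hS₁sylM
  obtain ⟨PS, hPS⟩ := dS.hPsyl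
  apply hS PS
  rw [hPS]
  exact hab

end Cfsg.Agent.Lib.Helper2.BG12
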