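import Mathlib
import Cfsg.Agent.Lib.Helper2.BG12h
import Cfsg.Agent.Lib.Lead.BG10k
import Cfsg.Agent.Lib.Helper4.Narrow6
import Cfsg.Agent.Lib.Helper4.BG10pC
import Cfsg.Agent.Lib.Helper9.P3Class1
import Cfsg.Agent.Lib.Helper7.CycAb12

set_option autoImplicit false

/-!
# Bender–Glauberman, Theorem 12.7(b): a second-centre element of a nonabelian Sylow subgroup

For a nonabelian Sylow `p`-subgroup `S` of a minimal simple group of odd order and a maximal
elementary abelian subgroup `A ≤ S` of order `p²` there is `s ∈ S` with `s ^ p = 1`, not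
centralizing `A`, all of whose commutators with elements of `S` are central in `S`.
-/

namespace Cfsg.Agent.Lib.Helper2.BG12

open Cfsg Cfsg.Agent.Lib.Lead Cfsg.Agent.Lib.Lead.BG10 Cfsg.Agent.Lib.Helper4 Cfsg.Agent.Lib.Helper7
open Cfsg.Agent.Lib.Helper4.BG7 Cfsg.Agent.Lib.Helper4.BG8 Cfsg.Agent.Lib.Helper4.BG9
open Cfsg.Agent.Lib.Helper4.ThreeStep Cfsg.Agent.Lib.Helper4.BG12 Cfsg.Agent.Lib.Helper2.BG11
open Cfsg.Agent.Lib.Lead.BG11 Cfsg.Agent.Lib.Helper4.BG76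
open scoped commutatorElement

universe u

variable {G : Type u} [Group G] [Finite G]

/-- rank at least three -/
theorem exists_second_center_elt_of_rank_three {p : ℕ} [hp : Fact p.Prime] (hp2 : p ≠ 2)
    {S : Subgroup G} (hSp : IsPGroup p S) (hr : ¬ PRankLE p 2 ↥S)
    {A : Subgroup G} (hAS : A ≤ S) (hA : IsElementaryAbelian p A) (hAc : Nat.card A = p ^ 2)
    (hAmax : ∀ B : Subgroup G, IsElementaryAbelian p B → A ≤ B → B = A) :
    ∃ s ∈ S, s ^ p = 1 ∧ s ∉ Subgroup.centralizer (A : Set G) ∧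
      ∀ y ∈ S, ∀ t ∈ S, (s * y * s⁻¹ * y⁻¹) * t = t * (s * y * s⁻¹ * y⁻¹) := by
  have hE : IsElementaryAbelian p (A.subgroupOf S) := isElementaryAbelian_subgroupOf hA S
  have hE2 : Nat.card (A.subgroupOf S) = p ^ 2 := by
    rw [Cfsg.Agent.Lib.Helper4.card_subgroupOf_of_le hAS, hAc]
  have hEmax : ∀ B : Subgroup ↥S, IsElementaryAbelian p B → A.subgroupOf S ≤ B →
      B = A.subgroupOf S := by
    intro B hB hEB
    have h1 := Cfsg.Agent.Lib.Helper4.BG10pC.isElementaryAbelian_map_subtype S hB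
    have h2 : A ≤ B.map S.subtype := fun a ha => ⟨⟨a, hAS ha⟩, hEB ha, rfl⟩
    have h3 := hAmax _ h1 h2
    ext x
    constructor
    · intro hx
      have : (x : G) ∈ B.map S.subtype := ⟨x, hx, rfl⟩
      rw [h3] at this
      exact this
    · intro hx
      have : (x : G) ∈ B.map S.subtype := by rw [h3]; exact hx
      obtain ⟨y, hy, e⟩ := this
      have : y = x := Subtype.ext e
      rw [← this]; exact hy
  obtain ⟨h1, -, ⟨h3e, -⟩, -, -⟩ :=
    Cfsg.Agent.Lib.Helper4.Narrow.narrow_structure hp2 hSp (A.subgroupOf S) hE hE2 hEmax hr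
  obtain ⟨e, heE, hec⟩ := SetLike.not_le_iff_exists.mp h1
  rw [Subgroup.mem_centralizer_iff] at hec
  push Not at hec
  obtain ⟨w, hw, hwe⟩ := hec
  have hw2 : w ∈ Subgroup.upperCentralSeries ↥S 2 := by
    have hle : Cfsg.Agent.Lib.Helper4.Narrow.Om p (Subgroup.upperCentralSeries ↥S 2) ≤
        Subgroup.upperCentralSeries ↥S 2 := by
      unfold Cfsg.Agent.Lib.Helper4.Narrow.Om
      rw [Subgroup.closure_le]
      intro x hx
      exact hx.1
    exact hle hw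
  have hwc : ∀ y : ↥S, ⁅w, y⁆ ∈ Subgroup.center ↥S := by
    intro y
    have := (Subgroup.mem_upperCentralSeries_succ_iff (n := 1)).mp hw2 y
    rwa [Subgroup.upperCentralSeries_one] at this
  refine ⟨(w : G), w.2, ?_, ?_, ?_⟩
  · have := h3e.2 w hw
    have h4 := congrArg Subtype.val this
    simpa using h4
  · intro hc
    rw [Subgroup.mem_centralizer_iff] at hc
    apply hwe
    apply Subtype.ext
    have := hc (e : G) heE
    simpa using this.symm
  · intro y hy t ht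
    have h5 := Subgroup.mem_center_iff.mp (hwc ⟨y, hy⟩) ⟨t, ht⟩
    rw [commutatorElement_def] at h5
    have h6 := congrArg Subtype.val h5
    simpa using h6.symm

/-- rank at most two -/
theorem exists_second_center_elt_of_rank_two (hG : IsMinSimpleOddOrder G) {p : ℕ}
    [hp : Fact p.Prime] (PS : Sylow p G) (hna : ¬ IsMulCommutative ↥(PS : Subgroup G))
    (hr : PRankLE p 2 ↥(PS : Subgroup G))
    {A : Subgroup G} (hAS : A ≤ (PS : Subgroup G)) (hA : IsElementaryAbelian p A)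
    (hAc : Nat.card A = p ^ 2) :
    ∃ s ∈ (PS : Subgroup G), s ^ p = 1 ∧ s ∉ Subgroup.centralizer (A : Set G) ∧
      ∀ y ∈ (PS : Subgroup G), ∀ t ∈ (PS : Subgroup G),
        (s * y * s⁻¹ * y⁻¹) * t = t * (s * y * s⁻¹ * y⁻¹) := by
  rcases corollary_10_7c hG p PS hr with h | ⟨P₁, P₂, hsup, hcomm, hP₁na, hP₁c, hP₁e, hP₂c, hcl⟩
  · exact absurd h hna
  have hP₂N : P₂ ≤ Subgroup.normalizer (P₁ : Set G) := by
    intro b hb
    apply CycAb.mem_normalizer_of_conj_mem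
    intro a ha
    have := hcomm a ha b hb
    have e : b * a * b⁻¹ = a := by rw [← this]; group
    rw [e]; exact ha
  have hdec : ∀ x ∈ (PS : Subgroup G), ∃ a ∈ P₁, ∃ b ∈ P₂, x = a * b := by
    intro x hx
    rw [← hsup] at hx
    have h1 : x ∈ ((P₁ ⊔ P₂ : Subgroup G) : Set G) := hx
    rw [Subgroup.coe_mul_of_right_le_normalizer_left P₁ P₂ hP₂N] at h1
    obtain ⟨a, ha, b, hb, e⟩ := Set.mem_mul.mp h1
    exact ⟨a, ha, b, hb, e.symm⟩
  have hexp : ∀ a ∈ P₁, a ^ p = 1 := by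
    intro a ha
    have := Monoid.pow_exponent_eq_one (⟨a, ha⟩ : ↥P₁)
    rw [hP₁e] at this
    have h4 := congrArg Subtype.val this
    simpa using h4
  -- `A ≤ P₁`
  have hAP₁ : A ≤ P₁ := by
    intro x hx
    obtain ⟨a, ha, b, hb, e⟩ := hdec x (hAS hx)
    have hab := hcomm a ha b hb
    have hxp : x ^ p = 1 := hA.2 x hx
    rw [e, (show Commute a b from hab).mul_pow, hexp a ha, one_mul] at hxp
    have hbcl : b ∈ Subgroup.closure {x : G | x ∈ P₂ ∧ x ^ p = 1} :=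
      Subgroup.subset_closure ⟨hb, hxp⟩
    rw [hcl] at hbcl
    rw [e]
    exact P₁.mul_mem ha hbcl.1
  -- the centre of `P₁` has order at most `p`
  have hZle : Nat.card ↥(P₁ ⊓ Subgroup.centralizer (P₁ : Set G)) ≤ p := by
    rw [← hcl]
    have hle : Subgroup.closure {x : G | x ∈ P₂ ∧ x ^ p = 1} ≤ P₂ := by
      rw [Subgroup.closure_le]; intro x hx; exact hx.1
    have hcyc : IsCyclic ↥(Subgroup.closure {x : G | x ∈ P₂ ∧ x ^ p = 1}) :=
      Subgroup.isCyclic_of_le hle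
    have hall : ∀ z : ↥(Subgroup.closure {x : G | x ∈ P₂ ∧ x ^ p = 1}), z ^ p = 1 := by
      intro z
      have hz : (z : G) ∈ P₁ := (hcl.le z.2).1
      apply Subtype.ext
      have := hexp (z : G) hz
      simpa using this
    classical
    haveI : Fintype ↥(Subgroup.closure {x : G | x ∈ P₂ ∧ x ^ p = 1}) := Fintype.ofFinite _
    have h1 := IsCyclic.card_pow_eq_one_le (α := ↥(Subgroup.closure {x : G | x ∈ P₂ ∧ x ^ p = 1}))
      hp.out.pos
    rw [Nat.card_eq_fintype_card]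
    calc Fintype.card ↥(Subgroup.closure {x : G | x ∈ P₂ ∧ x ^ p = 1})
        = (Finset.univ.filter (fun a : ↥(Subgroup.closure {x : G | x ∈ P₂ ∧ x ^ p = 1}) =>
            a ^ p = 1)).card := by
          rw [Finset.filter_true_of_mem (fun a _ => hall a)]; rfl
      _ ≤ p := h1
  -- an element of `P₁` not centralizing `A`
  have hex : ∃ s ∈ P₁, s ∉ Subgroup.centralizer (A : Set G) := by
    by_contra hcon
    push Not at hcon
    have hAZ : A ≤ P₁ ⊓ Subgroup.centralizer (P₁ : Set G) := by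
      intro a ha
      refine Subgroup.mem_inf.mpr ⟨hAP₁ ha, ?_⟩
      rw [Subgroup.mem_centralizer_iff]
      intro s hs
      exact Subgroup.mem_centralizer_iff.mp (hcon s hs) a ha |>.symm
    have h1 := Subgroup.card_le_of_le hAZ
    rw [hAc] at h1
    have h2 : p < p ^ 2 := by
      have := hp.out.one_lt
      nlinarith
    omega
  obtain ⟨s, hsP₁, hsA⟩ := hex
  have hP₁S : P₁ ≤ (PS : Subgroup G) := by rw [← hsup]; exact le_sup_left
  refine ⟨s, hP₁S hsP₁, hexp s hsP₁, hsA, ?_⟩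
  -- commutators are central
  have hna' : ¬ ∀ a b : ↥P₁, a * b = b * a := by
    intro h
    exact hP₁na ⟨⟨h⟩⟩
  obtain ⟨-, hcen, -⟩ := Cfsg.Agent.H9P3.nonab_center p hP₁c hna'
  intro y hy t ht
  obtain ⟨y₁, hy₁, y₂, hy₂, ey⟩ := hdec y hy
  obtain ⟨t₁, ht₁, t₂, ht₂, et⟩ := hdec t ht
  have hsy₂ := hcomm s hsP₁ y₂ hy₂
  have hy₁y₂ := hcomm y₁ hy₁ y₂ hy₂
  have hc1 : s * y * s⁻¹ * y⁻¹ = s * y₁ * s⁻¹ * y₁⁻¹ := by
    rw [ey]
    calc s * (y₁ * y₂) * s⁻¹ * (y₁ * y₂)⁻¹ = s * y₁ * (y₂ * s⁻¹) * y₂⁻¹ * y₁⁻¹ := by group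
      _ = s * y₁ * (s⁻¹ * y₂) * y₂⁻¹ * y₁⁻¹ := by
        have : y₂ * s⁻¹ = s⁻¹ * y₂ := by
          calc y₂ * s⁻¹ = s⁻¹ * (s * y₂) * s⁻¹ := by group
            _ = s⁻¹ * (y₂ * s) * s⁻¹ := by rw [hsy₂]
            _ = s⁻¹ * y₂ := by group
        rw [this]
      _ = s * y₁ * s⁻¹ * y₁⁻¹ := by group
  rw [hc1]
  have hcP₁ : s * y₁ * s⁻¹ * y₁⁻¹ ∈ P₁ :=
    P₁.mul_mem (P₁.mul_mem (P₁.mul_mem hsP₁ hy₁) (P₁.inv_mem hsP₁)) (P₁.inv_mem hy₁)
  have h5 := Subgroup.mem_center_iff.mp (hcen ⟨s, hsP₁⟩ ⟨y₁, hy₁⟩) ⟨t₁, ht₁⟩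
  rw [commutatorElement_def] at h5
  have h6 : t₁ * (s * y₁ * s⁻¹ * y₁⁻¹) = (s * y₁ * s⁻¹ * y₁⁻¹) * t₁ := by
    have := congrArg Subtype.val h5
    simpa using this
  have h7 := hcomm _ hcP₁ t₂ ht₂
  rw [et]
  calc s * y₁ * s⁻¹ * y₁⁻¹ * (t₁ * t₂) = ((s * y₁ * s⁻¹ * y₁⁻¹) * t₁) * t₂ := by group
    _ = (t₁ * (s * y₁ * s⁻¹ * y₁⁻¹)) * t₂ := by rw [h6]
    _ = t₁ * ((s * y₁ * s⁻¹ * y₁⁻¹) * t₂) := by group
    _ = t₁ * (t₂ * (s * y₁ * s⁻¹ * y₁⁻¹)) := by rw [h7]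
    _ = t₁ * t₂ * (s * y₁ * s⁻¹ * y₁⁻¹) := by group

/-- a second-centre element of order `p` not centralizing `A` -/
theorem exists_second_center_elt (hG : IsMinSimpleOddOrder G) {p : ℕ}
    [hp : Fact p.Prime] (PS : Sylow p G) (hna : ¬ IsMulCommutative ↥(PS : Subgroup G))
    {A : Subgroup G} (hAS : A ≤ (PS : Subgroup G)) (hA : IsElementaryAbelian p A)
    (hAc : Nat.card A = p ^ 2)
    (hAmax : ∀ B : Subgroup G, IsElementaryAbelian p B → A ≤ B → B = A) :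
    ∃ s ∈ (PS : Subgroup G), s ^ p = 1 ∧ s ∉ Subgroup.centralizer (A : Set G) ∧
      ∀ y ∈ (PS : Subgroup G), ∀ t ∈ (PS : Subgroup G),
        (s * y * s⁻¹ * y⁻¹) * t = t * (s * y * s⁻¹ * y⁻¹) := by
  have hpG : p ∣ Nat.card G := by
    have h1 : p ∣ Nat.card A := by rw [hAc]; exact dvd_pow_self p (by norm_num)
    exact h1.trans (Subgroup.card_subgroup_dvd_card A)
  have hp2 : p ≠ 2 := ne_two_of_odd hG hpG
  by_cases hr : PRankLE p 2 ↥(PS : Subgroup G)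
  · exact exists_second_center_elt_of_rank_two hG PS hna hr hAS hA hAc
  · exact exists_second_center_elt_of_rank_three hp2 PS.isPGroup' hr hAS hA hAc hAmax

end Cfsg.Agent.Lib.Helper2.BG12
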