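import Mathlib
import Cfsg.Agent.Lib.Helper2.BG12i
import Cfsg.Agent.Lib.Helper4.BG12c
import Cfsg.Agent.Lib.Helper4.BG8b

set_option autoImplicit false

/-!
# Bender–Glauberman, Theorem 12.7(b): `F(M) = M_σ × A₀`

With `p ∈ τ₂(M)`, nonabelian Sylow `p`-subgroups of `G`, and `A₀ = C_A(M_σ)` of order `p`:
the Fitting subgroup of `M` is `M_σ A₀`.
-/

namespace Cfsg.Agent.Lib.Helper2.BG12

open Cfsg Cfsg.Agent.Lib.Lead Cfsg.Agent.Lib.Lead.BG10 Cfsg.Agent.Lib.Helper4 Cfsg.Agent.Lib.Helper7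
open Cfsg.Agent.Lib.Helper4.BG7 Cfsg.Agent.Lib.Helper4.BG8 Cfsg.Agent.Lib.Helper4.BG9
open Cfsg.Agent.Lib.Helper4.ThreeStep Cfsg.Agent.Lib.Helper4.BG12 Cfsg.Agent.Lib.Helper2.BG11
open Cfsg.Agent.Lib.Lead.BG11

universe u

variable {G : Type u} [Group G] [Finite G]

/-- if the commutator `c = s y s⁻¹ y⁻¹` commutes with `s` and `y` and `s ^ p = 1`, then `s`
commutes with `y ^ p` -/
theorem commute_pow_of_central_comm {s y : G} {p : ℕ} (hs : s ^ p = 1)
    (hcs : (s * y * s⁻¹ * y⁻¹) * s = s * (s * y * s⁻¹ * y⁻¹))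
    (hcy : (s * y * s⁻¹ * y⁻¹) * y = y * (s * y * s⁻¹ * y⁻¹)) : s * y ^ p = y ^ p * s := by
  set c := s * y * s⁻¹ * y⁻¹ with hc
  have h1 : s * y * s⁻¹ = c * y := by rw [hc]; group
  have hCs : Commute c s := hcs
  have hCy : Commute c y := hcy
  have h2 : ∀ n : ℕ, s ^ n * y * (s ^ n)⁻¹ = c ^ n * y := by
    intro n
    induction n with
    | zero => simp
    | succ n ih =>
      have hsw : s * c ^ n = c ^ n * s := ((hCs.pow_left n).eq).symm
      calc s ^ (n + 1) * y * (s ^ (n + 1))⁻¹ = s * (s ^ n * y * (s ^ n)⁻¹) * s⁻¹ := by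
            rw [pow_succ']; group
        _ = s * (c ^ n * y) * s⁻¹ := by rw [ih]
        _ = (s * c ^ n) * y * s⁻¹ := by group
        _ = (c ^ n * s) * y * s⁻¹ := by rw [hsw]
        _ = c ^ n * (s * y * s⁻¹) := by group
        _ = c ^ n * (c * y) := by rw [h1]
        _ = c ^ (n + 1) * y := by rw [pow_succ]; group
  have h3 : c ^ p = 1 := by
    have := h2 p
    rw [hs] at this
    simp only [one_mul, inv_one, mul_one] at this
    exact (mul_eq_right.mp this.symm)
  have h4 : s * y ^ p * s⁻¹ = y ^ p := by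
    calc s * y ^ p * s⁻¹ = (s * y * s⁻¹) ^ p := by rw [conj_pow]
      _ = (c * y) ^ p := by rw [h1]
      _ = c ^ p * y ^ p := hCy.mul_pow p
      _ = y ^ p := by rw [h3, one_mul]
  calc s * y ^ p = s * y ^ p * s⁻¹ * s := by group
    _ = y ^ p * s := by rw [h4]

/-- `O_p(M) ≤ A₀` -/
theorem opOf_le_inf_centralizer (hG : IsMinSimpleOddOrder G) {M : Subgroup G} (hM : IsCoatom M)
    {E : Subgroup G} (hE : IsComplIn E (sigmaCore M) M) {p : ℕ} [hp : Fact p.Prime]
    (hpτ : p ∈ tau2 M) (hS : ∀ S : Sylow p G, ¬ IsMulCommutative ↥(S : Subgroup G))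
    {A : Subgroup G} (hAE : A ≤ E) (hA : IsElementaryAbelian p A) (hAc : Nat.card A = p ^ 2)
    (hA₀ : Nat.card ↥(A ⊓ Subgroup.centralizer (sigmaCore M : Set G)) = p) :
    opOf p M ≤ A ⊓ Subgroup.centralizer (sigmaCore M : Set G) := by
  have hEM : E ≤ M := hE.1
  have hAM : A ≤ M := hAE.trans hEM
  have dT : T2 M p A := ⟨hM, hpτ.2.1, hAM, hA, hAc⟩
  set R := opOf p M with hR
  have hRp : IsPGroup p R := opOf_isPGroup p M
  have hRM : R ≤ M := opOf_le p M
  -- `R` centralizes `M_σ`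
  have hinf : R ⊓ sigmaCore M = ⊥ := by
    have h1 : IsPGroup p ↥(R ⊓ sigmaCore M) := hRp.to_le inf_le_left
    rcases h1.card_eq_or_dvd with h2 | h2
    · exact Subgroup.card_eq_one.mp h2
    · exfalso
      have h3 : p ∣ Nat.card (sigmaCore M) := h2.trans (Subgroup.card_dvd_of_le inf_le_right)
      exact hpτ.2.1 ((sigmaCore_hall hG hM).1.2.1 p hp.out h3)
  have hRC : R ≤ Subgroup.centralizer (sigmaCore M : Set G) :=
    le_centralizer_of_normalize (hRM.trans (le_normalizer_sigmaCore M))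
      ((sigmaCore_le M).trans (le_normalizer_opOf p M)) hinf
  -- a Sylow `p`-subgroup of `M` over `A`
  obtain ⟨P', hAP', hP'⟩ := exists_sylIn_ge hAM dT.isPGroup
  have hRP' : R ≤ P' := by
    have h1 : IsPGroup p (P' ⊔ R : Subgroup G) :=
      IsPGroup.to_sup_of_normal_right' hP'.2.1 hRp (hP'.1.trans (le_normalizer_opOf p M))
    have h2 := eq_of_isPGroup_of_relIndex (le_sup_left : P' ≤ P' ⊔ R) (sup_le hP'.1 hRM) h1
      hP'.2.2
    calc R ≤ P' ⊔ R := le_sup_right
      _ = P' := h2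
  -- a Sylow `p`-subgroup of `G` over `P'`
  obtain ⟨PS, hPS⟩ := hP'.2.1.exists_le_sylow
  have hAPS : A ≤ (PS : Subgroup G) := hAP'.trans hPS
  obtain ⟨s, hsS, hsp, hsA, hsc⟩ := exists_second_center_elt hG PS (hS PS) hAPS hA hAc
    (fun B hB hAB => dT.max hG hB hAB)
  -- elements of `R` have order dividing `p`
  have hexp : ∀ y ∈ R, y ^ p = 1 := by
    by_contra hcon
    push Not at hcon
    obtain ⟨y, hyR, hyp⟩ := hcon
    have hex : ∃ k : ℕ, y ^ p ^ k = 1 := by
      obtain ⟨k, hk⟩ := hRp ⟨y, hyR⟩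
      refine ⟨k, ?_⟩
      have := congrArg Subtype.val hk
      simpa using this
    classical
    set k := Nat.find hex with hk
    have hk1 : y ^ p ^ k = 1 := Nat.find_spec hex
    have hkmin : ∀ j < k, y ^ p ^ j ≠ 1 := fun j hj => Nat.find_min hex hj
    have hk2 : 2 ≤ k := by
      by_contra hlt
      push Not at hlt
      interval_cases k
      · rw [pow_zero, pow_one] at hk1
        apply hyp
        rw [hk1, one_pow]
      · rw [pow_one] at hk1
        exact hyp hk1
    obtain ⟨j, hj⟩ : ∃ j, k = j + 2 := ⟨k - 2, by omega⟩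
    set w := y ^ p ^ j with hw
    set z := w ^ p with hz
    have hz' : z = y ^ p ^ (j + 1) := by rw [hz, hw, ← pow_mul, ← pow_succ]
    have hz1 : z ≠ 1 := by
      rw [hz']
      exact hkmin (j + 1) (by omega)
    have hzp : z ^ p = 1 := by
      rw [hz', ← pow_mul, ← pow_succ, ← hj]
      exact hk1
    have hwR : w ∈ R := R.pow_mem hyR _
    have hzR : z ∈ R := R.pow_mem hwR _
    have hwS : w ∈ (PS : Subgroup G) := hPS (hRP' hwR)
    have hzA : z ∈ A := dT.mem_of_mem_sylow hG hP' hAP' (hRP' hzR) hzp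
    have hzA₀ : z ∈ A ⊓ Subgroup.centralizer (sigmaCore M : Set G) :=
      Subgroup.mem_inf.mpr ⟨hzA, hRC hzR⟩
    have hsz : s * z = z * s := by
      rw [hz]
      exact commute_pow_of_central_comm hsp (hsc w hwS s hsS) (hsc w hwS w hwS)
    have hsC : s ∈ Subgroup.centralizer ({z} : Set G) := by
      rw [Subgroup.mem_centralizer_iff]
      intro x hx
      rw [Set.mem_singleton_iff] at hx
      rw [hx]
      exact hsz.symm
    have hsC₀ := centralizer_singleton_le_of_prime_card hA₀ hzA₀ hz1 hsC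
    have hne : sigmaCore M ⊓
        Subgroup.centralizer ((A ⊓ Subgroup.centralizer (sigmaCore M : Set G) : Subgroup G) : Set G)
          ≠ ⊥ := by
      have h1 : sigmaCore M ≤ Subgroup.centralizer
          ((A ⊓ Subgroup.centralizer (sigmaCore M : Set G) : Subgroup G) : Set G) := by
        rw [Subgroup.le_centralizer_iff]
        exact inf_le_right
      rw [inf_eq_left.mpr h1]
      exact sigmaCore_ne_bot hG hM
    have hCM := ((corollary_12_6 hG hM hE hpτ hAE hA hAc).2.2 _ inf_le_left hA₀ hne).1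
    have hsM : s ∈ M := hCM hsC₀
    have hQp : IsPGroup p ↥((PS : Subgroup G) ⊓ M) := PS.isPGroup'.to_le inf_le_left
    obtain ⟨P'', hQP'', hP''⟩ := exists_sylIn_ge (inf_le_right : (PS : Subgroup G) ⊓ M ≤ M) hQp
    have hAP'' : A ≤ P'' := (le_inf hAPS hAM).trans hQP''
    exact hsA (dT.sylow_le_centralizer hG hP'' hAP'' (hQP'' (Subgroup.mem_inf.mpr ⟨hsS, hsM⟩)))
  intro y hy
  exact Subgroup.mem_inf.mpr ⟨dT.mem_of_mem_sylow hG hP' hAP' (hRP' hy) (hexp y hy), hRC hy⟩

/-- **Bender–Glauberman, Theorem 12.7(b)**: `F(M) = M_σ A₀` -/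
theorem fittingOf_eq (hG : IsMinSimpleOddOrder G) {M : Subgroup G} (hM : IsCoatom M)
    {E : Subgroup G} (hE : IsComplIn E (sigmaCore M) M) {p : ℕ} [hp : Fact p.Prime]
    (hpτ : p ∈ tau2 M) (hS : ∀ S : Sylow p G, ¬ IsMulCommutative ↥(S : Subgroup G))
    {A : Subgroup G} (hAE : A ≤ E) (hA : IsElementaryAbelian p A) (hAc : Nat.card A = p ^ 2)
    (hA₀ : Nat.card ↥(A ⊓ Subgroup.centralizer (sigmaCore M : Set G)) = p) :
    fittingOf M = sigmaCore M ⊔ (A ⊓ Subgroup.centralizer (sigmaCore M : Set G)) := by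
  have hEM : E ≤ M := hE.1
  have hAM : A ≤ M := hAE.trans hEM
  have dT : T2 M p A := ⟨hM, hpτ.2.1, hAM, hA, hAc⟩
  have hτ := tau2_eq_singleton hG hM hE hpτ hS hAE hA hAc
  apply le_antisymm
  · rw [fittingOf_eq_iSup]
    apply iSup_le
    intro r
    haveI : Fact (r : ℕ).Prime := ⟨r.2⟩
    by_cases hrσ : (r : ℕ) ∈ sigma M
    · exact (le_sigmaCore_of_isPGroup hG hM hrσ (opOf_le r M) (opOf_isPGroup r M)).trans
        le_sup_left
    · by_cases hR : opOf (r : ℕ) M = ⊥
      · rw [hR]; exact bot_le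
      · have hN := normalizer_eq_of_isCoatom hG hM hR (opOf_le r M) (le_normalizer_opOf r M)
        rcases lemma_12_2a hG hM (opOf_isPGroup r M) hR hN.le with h | h
        · exact absurd h hrσ
        · rw [hτ, Set.mem_singleton_iff] at h
          rw [h]
          exact (opOf_le_inf_centralizer hG hM hE hpτ hS hAE hA hAc hA₀).trans le_sup_right
  · apply sup_le
    · exact le_fittingOf (sigmaCore_le M) (le_normalizer_sigmaCore M)
        (theorem_12_5 hG hM hpτ hAM hA hAc).1
    · apply le_fittingOf (inf_le_left.trans hAM) _ (dT.isPGroup.to_le inf_le_left).isNilpotent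
      intro m hm
      obtain ⟨e, he, u, hu, rfl⟩ := hE.2.2.2 m hm
      apply Subgroup.mul_mem
      · -- `e` normalizes `A` and `C(M_σ)`
        have heA : e ∈ Subgroup.normalizer (A : Set G) :=
          (corollary_12_6 hG hM hE hpτ hAE hA hAc).1.1 he
        have heσ : e ∈ Subgroup.normalizer (sigmaCore M : Set G) :=
          le_normalizer_sigmaCore M (hEM he)
        apply CycAb.mem_normalizer_of_conj_mem
        intro a ha
        have ha' := Subgroup.mem_inf.mp ha
        refine Subgroup.mem_inf.mpr ⟨?_, ?_⟩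
        · exact (Subgroup.mem_normalizer_iff.mp heA a).mp ha'.1
        · rw [Subgroup.mem_centralizer_iff]
          intro v hv
          have hv' : e⁻¹ * v * e ∈ sigmaCore M := by
            have := (Subgroup.mem_normalizer_iff.mp (Subgroup.inv_mem _ heσ) v).mp hv
            simpa using this
          have h1 := Subgroup.mem_centralizer_iff.mp ha'.2 _ hv'
          calc v * (e * a * e⁻¹) = e * ((e⁻¹ * v * e) * a) * e⁻¹ := by group
            _ = e * (a * (e⁻¹ * v * e)) * e⁻¹ := by rw [h1]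
            _ = e * a * e⁻¹ * v := by group
      · -- `u ∈ M_σ` centralizes `A₀`
        apply Subgroup.centralizer_le_normalizer
        rw [Subgroup.mem_centralizer_iff]
        intro a ha
        exact (Subgroup.mem_centralizer_iff.mp (Subgroup.mem_inf.mp ha).2 u hu).symm

end Cfsg.Agent.Lib.Helper2.BG12
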