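import Mathlib
import Cfsg.Agent.Lib.Helper2.BG12j
import Cfsg.Agent.Lib.Lead.BG11r
import Cfsg.Agent.Lib.Lead.CoprimeAction3
import Cfsg.Agent.Lib.Lead.CoprimeTools2
import Cfsg.Agent.Lib.Helper4.BG13f

set_option autoImplicit false

/-!
# Generic helpers for Bender–Glauberman, Theorem 12.12
-/

namespace Cfsg.Agent.Lib.Helper2.BG12

open Cfsg Cfsg.Agent.Lib.Lead Cfsg.Agent.Lib.Lead.BG10 Cfsg.Agent.Lib.Helper4 Cfsg.Agent.Lib.Helper7
open Cfsg.Agent.Lib.Helper4.BG7 Cfsg.Agent.Lib.Helper4.BG76 Cfsg.Agent.Lib.Helper4.BG8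
open Cfsg.Agent.Lib.Helper4.BG9
open Cfsg.Agent.Lib.Helper4.ThreeStep Cfsg.Agent.Lib.Helper4.BG12 Cfsg.Agent.Lib.Helper2.BG11
open Cfsg.Agent.Lib.Lead.BG11
open scoped commutatorElement

universe u

variable {G : Type u} [Group G] [Finite G]

/-- with a normal `p`-complement, `Y = O_{p'}(Y) S` for a Sylow `p`-subgroup `S` -/
theorem npc_decomp {p : ℕ} [hp : Fact p.Prime] {Y S : Subgroup G} (h : NPC p Y)
    (hS : SylIn p Y S) : ∀ y ∈ Y, ∃ k ∈ cG p Y, ∃ s ∈ S, y = k * s := by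
  obtain ⟨k, hk⟩ := h
  have hKY : cG p Y ≤ Y := cG_le p Y
  have hYK : Y ≤ Subgroup.normalizer (cG p Y : Set G) := le_normalizer_cG p Y
  have hKp : (Nat.card (cG p Y)).Coprime p := card_cG_coprime p Y
  have hScard : Nat.card S = p ^ k := by
    rw [SylIn.card_eq_pow hS]
    have h1 : Nat.card (cG p Y) * (cG p Y).relIndex Y = Nat.card Y := by
      rw [← Subgroup.relIndex_bot_left, ← Subgroup.relIndex_bot_left (H := Y),
        Subgroup.relIndex_mul_relIndex ⊥ (cG p Y) Y bot_le hKY]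
    rw [← h1, hk, Nat.factorization_mul Nat.card_pos.ne' (pow_pos hp.out.pos k).ne',
      Finsupp.add_apply, Nat.factorization_eq_zero_of_not_dvd
        (fun hd => hp.out.one_lt.ne' ((Nat.Coprime.eq_one_of_dvd hKp.symm hd))),
      zero_add, hp.out.factorization_pow, Finsupp.single_eq_same]
  have hinf : S ⊓ cG p Y = ⊥ := by
    apply Subgroup.inf_eq_bot_of_coprime
    rw [hScard]
    exact Nat.Coprime.pow_left k hKp.symm
  have hsup : cG p Y ⊔ S = Y := by
    apply Subgroup.eq_of_le_of_card_ge (sup_le hKY hS.1)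
    have h1 := card_sup_of_disjoint S (cG p Y) (hS.1.trans hYK) hinf
    rw [sup_comm] at h1
    rw [h1, hScard]
    have h2 : Nat.card (cG p Y) * (cG p Y).relIndex Y = Nat.card Y := by
      rw [← Subgroup.relIndex_bot_left, ← Subgroup.relIndex_bot_left (H := Y),
        Subgroup.relIndex_mul_relIndex ⊥ (cG p Y) Y bot_le hKY]
    rw [← h2, hk, mul_comm]
  intro y hy
  have h1 : y ∈ ((cG p Y ⊔ S : Subgroup G) : Set G) := by rw [hsup]; exact hy
  rw [Subgroup.coe_mul_of_right_le_normalizer_left (cG p Y) S (hS.1.trans hYK)] at h1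
  obtain ⟨a, ha, b, hb, hab⟩ := Set.mem_mul.mp h1
  exact ⟨a, ha, b, hb, hab.symm⟩

/-- with a normal `q`-complement, every `q'`-subgroup lies in `O_{q'}` -/
theorem le_cG_of_coprime_npc {q : ℕ} [hq : Fact q.Prime] {Y P : Subgroup G} (h : NPC q Y)
    (hPY : P ≤ Y) (hc : (Nat.card P).Coprime q) : P ≤ cG q Y := by
  obtain ⟨k, hk⟩ := h
  rw [BG10.relIndex_cG] at hk
  apply le_cG_of_subgroupOf_le hPY
  apply le_of_coprime_card_of_normal_index_pow (pPrimeCore q ↥Y) ⟨k, hk⟩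
  rw [card_subgroupOf_of_le hPY]
  exact hc

/-- the commutator of two elements normalizing a cyclic subgroup centralizes it -/
theorem comm_centralizes_cyclic {T : Subgroup G} (hT : IsCyclic ↥T) {g h : G}
    (hg : g ∈ Subgroup.normalizer (T : Set G)) (hh : h ∈ Subgroup.normalizer (T : Set G)) :
    ⁅g, h⁆ ∈ Subgroup.centralizer (T : Set G) := by
  obtain ⟨⟨t, htT⟩, ht⟩ := hT.exists_generator
  have hgen : ∀ x ∈ T, ∃ n : ℤ, t ^ n = x := by
    intro x hx
    obtain ⟨n, hn⟩ := Subgroup.mem_zpowers_iff.mp (ht ⟨x, hx⟩)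
    refine ⟨n, ?_⟩
    have := congrArg Subtype.val hn
    simpa using this
  obtain ⟨a, ha⟩ := hgen _ ((Subgroup.mem_normalizer_iff.mp hg t).mp htT)
  obtain ⟨b, hb⟩ := hgen _ ((Subgroup.mem_normalizer_iff.mp hh t).mp htT)
  have key : ∀ x ∈ T, (g * h) * x * (g * h)⁻¹ = (h * g) * x * (h * g)⁻¹ := by
    intro x hx
    obtain ⟨n, rfl⟩ := hgen x hx
    have h1 : (g * h) * t * (g * h)⁻¹ = t ^ (a * b) := by
      calc (g * h) * t * (g * h)⁻¹ = g * (h * t * h⁻¹) * g⁻¹ := by group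
        _ = g * t ^ b * g⁻¹ := by rw [hb]
        _ = (g * t * g⁻¹) ^ b := by rw [conj_zpow]
        _ = t ^ (a * b) := by rw [← ha, ← zpow_mul]
    have h2 : (h * g) * t * (h * g)⁻¹ = t ^ (a * b) := by
      calc (h * g) * t * (h * g)⁻¹ = h * (g * t * g⁻¹) * h⁻¹ := by group
        _ = h * t ^ a * h⁻¹ := by rw [ha]
        _ = (h * t * h⁻¹) ^ a := by rw [conj_zpow]
        _ = t ^ (a * b) := by rw [← hb, ← zpow_mul, mul_comm]
    rw [← conj_zpow, ← conj_zpow, h1, h2]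
  have hhg : h * g ∈ Subgroup.normalizer (T : Set G) := Subgroup.mul_mem _ hh hg
  rw [Subgroup.mem_centralizer_iff]
  intro x hx
  have hx' : (h * g)⁻¹ * x * (h * g) ∈ T := by
    have := (Subgroup.mem_normalizer_iff.mp (Subgroup.inv_mem _ hhg) x).mp hx
    simpa using this
  have h3 := key _ hx'
  have h4 : (h * g) * ((h * g)⁻¹ * x * (h * g)) * (h * g)⁻¹ = x := by group
  rw [h4] at h3
  have h5 : ⁅g, h⁆ * x * ⁅g, h⁆⁻¹ = (g * h) * ((h * g)⁻¹ * x * (h * g)) * (g * h)⁻¹ := by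
    rw [commutatorElement_def]; group
  rw [h3] at h5
  calc x * ⁅g, h⁆ = (⁅g, h⁆ * x * ⁅g, h⁆⁻¹) * ⁅g, h⁆ := by rw [h5]
    _ = ⁅g, h⁆ * x := by group

/-- a subgroup containing a Sylow subgroup of `C` for every prime contains `C` -/
theorem le_of_forall_sylIn {C F : Subgroup G}
    (h : ∀ r : ℕ, [Fact r.Prime] → ∃ R : Subgroup G, SylIn r C R ∧ R ≤ F) : C ≤ F := by
  by_contra hne
  have h1 : F.relIndex C ≠ 1 := fun h1 => hne (Subgroup.relIndex_eq_one.mp h1)
  obtain ⟨r, hr, hrd⟩ := Nat.exists_prime_and_dvd h1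
  haveI : Fact r.Prime := ⟨hr⟩
  obtain ⟨R, hR, hRF⟩ := h r
  apply hR.2.2
  have h2 : R ≤ F ⊓ C := le_inf hRF hR.1
  rw [← Subgroup.relIndex_mul_relIndex R (F ⊓ C) C h2 inf_le_right, Subgroup.inf_relIndex_right]
  exact Dvd.dvd.mul_left hrd _

/-- a Sylow subgroup of a complement of `M_σ` is a Sylow subgroup of `M` -/
theorem sylIn_of_sylIn_compl (hG : IsMinSimpleOddOrder G) {M E : Subgroup G} (hM : IsCoatom M)
    (hE : IsComplIn E (sigmaCore M) M) {p : ℕ} [hp : Fact p.Prime] (hpσ : p ∉ sigma M)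
    {T : Subgroup G} (hT : SylIn p E T) : SylIn p M T := by
  refine ⟨hT.1.trans hE.1, hT.2.1, ?_⟩
  rw [← Subgroup.relIndex_mul_relIndex T E M hT.1 hE.1]
  intro hd
  rcases (Nat.Prime.dvd_mul hp.out).mp hd with h | h
  · exact hT.2.2 h
  · have h1 : Nat.card E * E.relIndex M = Nat.card M := by
      rw [← Subgroup.relIndex_bot_left, ← Subgroup.relIndex_bot_left (H := M),
        Subgroup.relIndex_mul_relIndex ⊥ E M bot_le hE.1]
    rw [card_compl_mul_card_sigmaCore hE] at h1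
    have h2 : E.relIndex M = Nat.card (sigmaCore M) :=
      Nat.eq_of_mul_eq_mul_left Nat.card_pos h1
    rw [h2, card_sigmaCore] at h
    exact hpσ (isPiNum_card_piCore (sigma M) p hp.out h)

end Cfsg.Agent.Lib.Helper2.BG12
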