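import Mathlib
import Cfsg.Agent.Lib.Helper2.BG12f

set_option autoImplicit false

/-!
# S1420, last clause: `τ₂(M)`-elements of `M̂_σ` have `𝓜(C(x)) = {M}`
-/

namespace Cfsg.Agent.Lib.Helper2.BG12

open Cfsg Cfsg.Agent.Lib.Lead Cfsg.Agent.Lib.Lead.BG10 Cfsg.Agent.Lib.Helper4 Cfsg.Agent.Lib.Helper7
open Cfsg.Agent.Lib.Helper4.BG7 Cfsg.Agent.Lib.Helper4.BG8 Cfsg.Agent.Lib.Helper4.BG9
open Cfsg.Agent.Lib.Helper4.ThreeStep Cfsg.Agent.Lib.Helper4.BG12 Cfsg.Agent.Lib.Helper2.BG11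

universe u

variable {G : Type u} [Group G] [Finite G]

theorem tau2_element_uniq (hG : IsMinSimpleOddOrder G) {M E : Subgroup G} (hM : IsCoatom M)
    (hE : IsComplIn E (sigmaCore M) M) (h125 : TI125 M) (h126 : Norm126 M) {x : G} (hxM : x ∈ M)
    (hx1 : x ≠ 1) (hxτ : ∀ p : ℕ, p.Prime → p ∣ orderOf x → p ∈ tau2 M) (hxσ : x ∈ sigmaHat M) :
    Subgroup.centralizer ({x} : Set G) ≤ M ∧
      ∀ L : Subgroup G, IsCoatom L → Subgroup.centralizer ({x} : Set G) ≤ L → L = M := by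
  obtain ⟨E₁, hE₁, hxE⟩ := exists_compl_mem hG hM hE hxM (fun p hp hd => (hxτ p hp hd).2.1)
  have hord : orderOf x ≠ 1 := fun h => hx1 (orderOf_eq_one_iff.mp h)
  set p₀ := (orderOf x).minFac with hp₀
  have hp₀p : p₀.Prime := Nat.minFac_prime hord
  haveI : Fact p₀.Prime := ⟨hp₀p⟩
  have hp₀d : p₀ ∣ orderOf x := Nat.minFac_dvd _
  have hp₀τ : p₀ ∈ tau2 M := hxτ p₀ hp₀p hp₀d
  have hp₀σ : p₀ ∉ sigma M := hp₀τ.2.1
  obtain ⟨A, hAE, hA, hAcard⟩ := exists_sq_le_compl hG hM hE₁ hp₀τ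
  obtain ⟨hEA, hXA⟩ := h126 E₁ hE₁ p₀ hp₀τ A hAE hA hAcard
  set w := x ^ (orderOf x / p₀) with hw
  have hwo : orderOf w = p₀ := orderOf_pow_orderOf_div (orderOf_pos x).ne' hp₀d
  have hXcard : Nat.card (Subgroup.zpowers w) = p₀ := by rw [Nat.card_zpowers, hwo]
  have hXle : Subgroup.zpowers w ≤ Subgroup.zpowers x :=
    Subgroup.zpowers_le.mpr (pow_mem (Subgroup.mem_zpowers x) _)
  have hzE : Subgroup.zpowers x ≤ E₁ := Subgroup.zpowers_le.mpr hxE
  have hXA' : Subgroup.zpowers w ≤ A := hXA _ (hXle.trans hzE) hXcard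
  have hcomm : ∀ z ∈ Subgroup.zpowers x, ∀ b ∈ Subgroup.zpowers x, z * b = b * z := by
    intro z hz b hb
    obtain ⟨i, rfl⟩ := Subgroup.mem_zpowers_iff.mp hz
    obtain ⟨j, rfl⟩ := Subgroup.mem_zpowers_iff.mp hb
    rw [← zpow_add, ← zpow_add, add_comm]
  have claim : ∀ n : ℕ, ∀ z ∈ Subgroup.zpowers x, orderOf z = n → ∀ a ∈ A, z * a = a * z := by
    intro n
    induction n using Nat.strong_induction_on with
    | _ n ih =>
      intro z hz hzn a ha
      have hzE₁ : z ∈ E₁ := hzE hz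
      have hzN : z ∈ Subgroup.normalizer (A : Set G) := hEA hzE₁
      have hzX : ∀ b ∈ Subgroup.zpowers w, z * b = b * z := fun b hb => hcomm z hz b (hXle hb)
      have hzo : orderOf z ∣ orderOf x := orderOf_dvd_of_mem_zpowers hz
      by_cases hq : ∃ q : ℕ, q.Prime ∧ q ∣ orderOf z ∧ q ≠ p₀
      · obtain ⟨q, hqp, hqd, hqne⟩ := hq
        haveI : Fact q.Prime := ⟨hqp⟩
        have hlt : p₀ < q :=
          lt_of_le_of_ne (Nat.minFac_le_of_dvd hqp.two_le (hqd.trans hzo)) (Ne.symm hqne)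
        have hzq : ∀ b ∈ A, z ^ q * b = b * z ^ q := by
          apply ih (orderOf (z ^ q)) ?_ (z ^ q) (pow_mem hz q) rfl
          rw [← hzn, orderOf_pow_of_dvd hqp.pos.ne' hqd]
          exact Nat.div_lt_self (orderOf_pos z) hqp.one_lt
        exact centralizes_of_pow_prime hlt hAcard hXcard hXA' hzN hzX hzq a ha
      · push Not at hq
        have hzp : IsPGroup p₀ ↥(Subgroup.zpowers z) := by
          have h1 : ∀ {d : ℕ}, d.Prime → d ∣ orderOf z → d = p₀ := fun {d} hd hdz => hq d hd hdz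
          have h2 := Nat.eq_prime_pow_of_unique_prime_dvd (orderOf_pos z).ne' h1
          apply IsPGroup.of_card (n := (orderOf z).primeFactorsList.length)
          rw [Nat.card_zpowers]
          exact h2
        have hsup : IsPGroup p₀ ↥(A ⊔ Subgroup.zpowers z : Subgroup G) :=
          IsPGroup.to_sup_of_normal_left' (isPGroup_of_elementary hA) hzp
            (Subgroup.zpowers_le.mpr hzN)
        have hle : A ⊔ Subgroup.zpowers z ≤ M :=
          sup_le (hAE.trans hE₁.1) (Subgroup.zpowers_le.mpr (hE₁.1 hzE₁))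
        exact pgroup_comm_of_not_sigma hG hM hp₀σ hle hsup z
          (Subgroup.mem_sup_right (Subgroup.mem_zpowers z)) a (Subgroup.mem_sup_left ha)
  have hxA : ∀ a ∈ A, x * a = a * x := claim (orderOf x) x (Subgroup.mem_zpowers x) rfl
  have hAC : A ≤ Subgroup.centralizer ({x} : Set G) := by
    intro a ha
    rw [Subgroup.mem_centralizer_iff]
    intro g hg
    rw [Set.mem_singleton_iff] at hg; subst hg
    exact hxA a ha
  obtain ⟨-, y, hy, hy1, hxy⟩ := hxσ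
  have hyC : y ∈ Subgroup.centralizer ({x} : Set G) := by
    rw [Subgroup.mem_centralizer_iff]
    intro g hg
    rw [Set.mem_singleton_iff] at hg; subst hg
    exact hxy
  have huniq : ∀ L : Subgroup G, IsCoatom L → Subgroup.centralizer ({x} : Set G) ≤ L → L = M := by
    intro L hL hCL
    by_contra hne
    have h0 := h125 p₀ hp₀τ A (hAE.trans hE₁.1) hA hAcard L hL hne (hAC.trans hCL)
    have hyL : y ∈ sigmaCore M ⊓ L := Subgroup.mem_inf.mpr ⟨hy, hCL hyC⟩
    rw [h0, Subgroup.mem_bot] at hyL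
    exact hy1 hyL
  have hX1 : Subgroup.zpowers x ≠ ⊥ := fun h => hx1 (Subgroup.zpowers_eq_bot.mp h)
  have hXtop : Subgroup.zpowers x ≠ ⊤ :=
    ne_top_of_le_ne_top hM.1 (Subgroup.zpowers_le.mpr hxM)
  have hCne : Subgroup.centralizer ({x} : Set G) ≠ ⊤ := by
    rw [← centralizer_zpowers]
    exact centralizer_ne_top_of hG hX1 hXtop
  obtain ⟨L, hL, hCL⟩ := exists_coatom_ge hCne
  refine ⟨?_, huniq⟩
  rw [← huniq L hL hCL]
  exact hCL

end Cfsg.Agent.Lib.Helper2.BG12
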