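import Mathlib
import Cfsg.Agent.Lib.Helper2.BG12k
import Cfsg.Agent.S1411
import Cfsg.Agent.S1420
import Cfsg.Agent.Lib.Lead.Residual2
import Cfsg.Agent.Lib.Helper3.Ree79

set_option autoImplicit false

/-!
# Bender–Glauberman 12.8: a prime of `τ₂(M)` with abelian Sylow subgroups

`S`, a Sylow `p`-subgroup of the complement `E` containing `A`, is normal in `N_G(A)`.
-/

namespace Cfsg.Agent.Lib.Helper2.BG12

open Cfsg Cfsg.Agent.Lib.Lead Cfsg.Agent.Lib.Lead.BG10 Cfsg.Agent.Lib.Helper4 Cfsg.Agent.Lib.Helper7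
open Cfsg.Agent.Lib.Helper4.BG7 Cfsg.Agent.Lib.Helper4.BG76 Cfsg.Agent.Lib.Helper4.BG8
open Cfsg.Agent.Lib.Helper4.BG9
open Cfsg.Agent.Lib.Helper4.ThreeStep Cfsg.Agent.Lib.Helper4.BG12 Cfsg.Agent.Lib.Helper2.BG11
open Cfsg.Agent.Lib.Lead.BG11
open scoped commutatorElement

universe u

variable {G : Type u} [Group G] [Finite G]

/-- data for a prime of `τ₂(M)` whose Sylow subgroups in `G` are abelian -/
structure CA (M E : Subgroup G) (p : ℕ) (A S : Subgroup G) : Prop where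
  hG : IsMinSimpleOddOrder G
  hM : IsCoatom M
  hE : IsComplIn E (sigmaCore M) M
  hpτ : p ∈ tau2 M
  hAE : A ≤ E
  hA : IsElementaryAbelian p A
  hAc : Nat.card A = p ^ 2
  hS : SylIn p E S
  hAS : A ≤ S
  hab : ∀ P : Sylow p G, IsMulCommutative ↥(P : Subgroup G)

namespace CA

variable {M E A S : Subgroup G} {p : ℕ} [hp : Fact p.Prime]

theorem dT (c : CA M E p A S) : T2 M p A :=
  ⟨c.hM, c.hpτ.2.1, c.hAE.trans c.hE.1, c.hA, c.hAc⟩

theorem sylM (c : CA M E p A S) : SylIn p M S :=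
  sylIn_of_sylIn_compl c.hG c.hM c.hE c.hpτ.2.1 c.hS

theorem comm (c : CA M E p A S) : IsMulCommutative ↥S := c.dT.abelian c.hG c.sylM

theorem comm' (c : CA M E p A S) : ∀ a ∈ S, ∀ b ∈ S, a * b = b * a :=
  comm_of_isMulCommutative c.comm

theorem cor (c : CA M E p A S) :
    (E ≤ Subgroup.normalizer (A : Set G) ∧
        ∀ X : Subgroup G, X ≤ E → Nat.card X = p → X ≤ A) ∧
      (Subgroup.centralizer (A : Set G) ≤ M ⊓ Subgroup.normalizer (A : Set G) ∧
        M ⊓ Subgroup.normalizer (A : Set G) = E ∧ ¬ Subgroup.normalizer (A : Set G) ≤ M) ∧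
      ∀ X : Subgroup G, X ≤ A → Nat.card X = p →
        sigmaCore M ⊓ Subgroup.centralizer (X : Set G) ≠ ⊥ →
        (Subgroup.centralizer (X : Set G) ≤ M ∧ ∀ L : Subgroup G, IsCoatom L →
          Subgroup.centralizer (X : Set G) ≤ L → L = M) :=
  corollary_12_6 c.hG c.hM c.hE c.hpτ c.hAE c.hA c.hAc

theorem centralizer_le (c : CA M E p A S) : Subgroup.centralizer (A : Set G) ≤ E := by
  have h := c.cor.2.1
  rw [← h.2.1]
  exact h.1

theorem le_centralizer (c : CA M E p A S) : S ≤ Subgroup.centralizer (A : Set G) :=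
  c.dT.sylow_le_centralizer c.hG c.sylM c.hAS

theorem le_normalizer (c : CA M E p A S) : E ≤ Subgroup.normalizer (A : Set G) := c.cor.1.1

theorem mem_of_pow (c : CA M E p A S) {x : G} (hx : x ∈ S) (hxp : x ^ p = 1) : x ∈ A :=
  c.dT.mem_of_mem_sylow c.hG c.sylM c.hAS hx hxp

/-- `S` is a Sylow subgroup of `G` -/
theorem sylow (c : CA M E p A S) : ∃ PS : Sylow p G, (PS : Subgroup G) = S := by
  obtain ⟨PS, hPS⟩ := c.hS.2.1.exists_le_sylow
  refine ⟨PS, ?_⟩
  have hc := comm_of_isMulCommutative (c.hab PS)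
  have hPSE : (PS : Subgroup G) ≤ E := by
    intro x hx
    apply c.centralizer_le
    rw [Subgroup.mem_centralizer_iff]
    intro a ha
    exact hc a (hPS (c.hAS ha)) x hx
  exact eq_of_isPGroup_of_relIndex hPS hPSE PS.isPGroup' c.hS.2.2

theorem sylTop (c : CA M E p A S) : SylIn p ⊤ S := by
  obtain ⟨PS, hPS⟩ := c.sylow
  rw [← hPS]
  exact sylIn_top_of_sylow PS

theorem ne_bot (c : CA M E p A S) : S ≠ ⊥ := fun h => c.dT.ne_bot (le_bot_iff.mp (h ▸ c.hAS))

/-- `N_G(S) ≤ N_G(A)` -/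
theorem normalizer_le_normalizer (c : CA M E p A S) :
    Subgroup.normalizer (S : Set G) ≤ Subgroup.normalizer (A : Set G) :=
  c.dT.normalizer_sylow_le c.hG c.sylM c.hAS

/-- `S ≤ N_G(S)'` -/
theorem le_commutator_normalizer (c : CA M E p A S) :
    S ≤ ⁅Subgroup.normalizer (S : Set G), Subgroup.normalizer (S : Set G)⁆ := by
  obtain ⟨PS, hPS⟩ := c.sylow
  obtain ⟨V, hVN, -, hsup, hinf⟩ := exists_complement_in_normalizer PS
  have hV : IsComplIn (PS : Subgroup G) V (Subgroup.normalizer ((PS : Subgroup G) : Set G)) := by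
    refine ⟨Subgroup.le_normalizer, hVN, hinf, ?_⟩
    intro m hm
    have h1 : m ∈ (((PS : Subgroup G) ⊔ V : Subgroup G) : Set G) := by rw [hsup]; exact hm
    rw [Subgroup.coe_mul_of_right_le_normalizer_left (PS : Subgroup G) V hVN] at h1
    obtain ⟨a, ha, b, hb, hab⟩ := Set.mem_mul.mp h1
    exact ⟨a, ha, b, hb, hab.symm⟩
  have h := (Cfsg.Agent.S1411.result c.hG p PS V hV).2
  rw [hPS] at h
  exact h

end CA

end Cfsg.Agent.Lib.Helper2.BG12
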