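import Mathlib
import Cfsg.Agent.Lib.Helper2.BG12l

set_option autoImplicit false

/-!
# Bender–Glauberman 12.8: `S` is normal in `N_G(A)`
-/

namespace Cfsg.Agent.Lib.Helper2.BG12

open Cfsg Cfsg.Agent.Lib.Lead Cfsg.Agent.Lib.Lead.BG10 Cfsg.Agent.Lib.Helper4 Cfsg.Agent.Lib.Helper7
open Cfsg.Agent.Lib.Helper4.BG7 Cfsg.Agent.Lib.Helper4.BG76 Cfsg.Agent.Lib.Helper4.BG8
open Cfsg.Agent.Lib.Helper4.BG9
open Cfsg.Agent.Lib.Helper4.ThreeStep Cfsg.Agent.Lib.Helper4.BG12 Cfsg.Agent.Lib.Helper2.BG11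
open Cfsg.Agent.Lib.Lead.BG11
open scoped commutatorElement

universe u

variable {G : Type u} [Group G] [Finite G]

/-- conjugation by an element of `N_G(A)` preserves `C_G(A)` -/
theorem conj_mem_centralizer {A : Subgroup G} {n d : G}
    (hn : n ∈ Subgroup.normalizer (A : Set G)) (hd : d ∈ Subgroup.centralizer (A : Set G)) :
    n * d * n⁻¹ ∈ Subgroup.centralizer (A : Set G) := by
  rw [Subgroup.mem_centralizer_iff]
  intro a ha
  have ha' : n⁻¹ * a * n ∈ A := by
    have := (Subgroup.mem_normalizer_iff.mp (Subgroup.inv_mem _ hn) a).mp ha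
    simpa using this
  have h1 := Subgroup.mem_centralizer_iff.mp hd _ ha'
  calc a * (n * d * n⁻¹) = n * ((n⁻¹ * a * n) * d) * n⁻¹ := by group
    _ = n * (d * (n⁻¹ * a * n)) * n⁻¹ := by rw [h1]
    _ = n * d * n⁻¹ * a := by group

/-- the normalizer of `A` normalizes its centralizer intersected with a normalized subgroup -/
theorem le_normalizer_inf_centralizer {A K N : Subgroup G}
    (hNA : N ≤ Subgroup.normalizer (A : Set G)) (hNK : N ≤ Subgroup.normalizer (K : Set G)) :
    N ≤ Subgroup.normalizer ((K ⊓ Subgroup.centralizer (A : Set G) : Subgroup G) : Set G) := by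
  apply le_normalizer_of_forall_conj
  intro n hn d hd
  rw [Subgroup.mem_inf] at hd ⊢
  exact ⟨(Subgroup.mem_normalizer_iff.mp (hNK hn) d).mp hd.1, conj_mem_centralizer (hNA hn) hd.2⟩

namespace CA

variable {M E A S : Subgroup G} {p : ℕ} [hp : Fact p.Prime]

theorem coprime_card_of_isPGroup {q : ℕ} {P K : Subgroup G} (hP : IsPGroup p P)
    (hK : (Nat.card K).Coprime p) : (Nat.card P).Coprime (Nat.card K) := by
  obtain ⟨j, hj⟩ := IsPGroup.iff_card.mp hP
  rw [hj]
  exact Nat.Coprime.pow_left j hK.symm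

/-- **B-G 12.8**: `S` is normal in `N_G(A)` -/
theorem normalizer_le (c : CA M E p A S) :
    Subgroup.normalizer (A : Set G) ≤ Subgroup.normalizer (S : Set G) := by
  have hG := c.hG
  have dT := c.dT
  obtain ⟨L, hL, hNL⟩ := exists_coatom_ge (dT.normalizer_ne_top hG)
  have hpσL : p ∈ sigma L := dT.sigma_of_normalizer_le hG hL hNL
  have hpβL : p ∉ beta L := not_beta_of_tau2 hG c.hM c.hpτ L
  have hSN : S ≤ Subgroup.normalizer (A : Set G) := c.hS.1.trans c.le_normalizer
  have hSL : S ≤ L := hSN.trans hNL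
  have hSσ : S ≤ sigmaCore L := le_sigmaCore_of_isPGroup hG hL hpσL hSL c.hS.2.1
  have hpL : p ∣ Nat.card L := hpσL.2.1
  have h108 := theorem_10_8 hG hL
  have hnpcq : ∀ q : ℕ, q.Prime → q ∣ Nat.card L → q ∉ beta L → NPC q (sigmaCore L) := by
    intro q hq hqL hqβ
    haveI : Fact q.Prime := ⟨hq⟩
    exact npc_of_hasNormalPComplement (h108.2.2.2.2 q hq hqL hqβ).2.1
  have hnpc : NPC p (sigmaCore L) := hnpcq p hp.out hpL hpβL
  set K := cG p (sigmaCore L) with hK
  have hσn : L ≤ Subgroup.normalizer (sigmaCore L : Set G) := le_normalizer_sigmaCore L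
  have hLK : L ≤ Subgroup.normalizer (K : Set G) :=
    hσn.trans (normalizer_le_normalizer_cG p (sigmaCore L))
  have hKσ : K ≤ sigmaCore L := cG_le p _
  have hKp : (Nat.card K).Coprime p := card_cG_coprime p _
  have hSK : S ⊓ K = ⊥ :=
    Subgroup.inf_eq_bot_of_coprime (coprime_card_of_isPGroup (q := p) c.hS.2.1 hKp)
  set D₀ := K ⊓ Subgroup.centralizer (A : Set G) with hD₀
  have hND₀ : Subgroup.normalizer (A : Set G) ≤ Subgroup.normalizer (D₀ : Set G) :=
    le_normalizer_inf_centralizer le_rfl (hNL.trans hLK)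
  have hD₀E : D₀ ≤ E := inf_le_right.trans c.centralizer_le
  have hD₀K : D₀ ≤ K := inf_le_left
  have hSD₀ : S ≤ Subgroup.normalizer (D₀ : Set G) := hSN.trans hND₀
  set T := ⁅D₀, S⁆ with hT
  have hTD₀ : T ≤ D₀ := commutator_le_left_of_le_normalizer D₀ S hSD₀
  have hTE' : T ≤ ⁅E, E⁆ := Subgroup.commutator_mono hD₀E c.hS.1
  have hTcomm : ∀ a ∈ T, ∀ b ∈ T, a * b = b * a := by
    have h := comm_of_isMulCommutative (Cfsg.Agent.S1420.result hG M c.hM E c.hE).2.1
    intro a ha b hb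
    exact h a (hTE' ha) b (hTE' hb)
  have hNST : Subgroup.normalizer (S : Set G) ≤ Subgroup.normalizer (T : Set G) := by
    refine le_trans ?_ (normalizer_inf_le_normalizer_commutator D₀ S)
    exact le_inf (c.normalizer_le_normalizer.trans hND₀) le_rfl
  have hTL : T ≤ L := hTD₀.trans (hD₀K.trans (hKσ.trans (sigmaCore_le L)))
  -- `T` is a `β(L)`-group
  have hTβ : ∀ q : ℕ, q.Prime → q ∣ Nat.card T → q ∈ beta L := by
    intro q hq hqT
    by_contra hqβ
    haveI : Fact q.Prime := ⟨hq⟩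
    have hqL : q ∣ Nat.card L := hqT.trans (Subgroup.card_dvd_of_le hTL)
    have hn := hnpcq q hq hqL hqβ
    have hqp : q ≠ p := by
      rintro rfl
      have := hqT.trans (Subgroup.card_dvd_of_le (hTD₀.trans hD₀K))
      exact hq.one_lt.ne' (Nat.Coprime.eq_one_of_dvd hKp.symm this)
    have hSq : S ≤ cG q (sigmaCore L) := by
      apply le_cG_of_coprime_npc hn hSσ
      obtain ⟨j, hj⟩ := IsPGroup.iff_card.mp c.hS.2.1
      rw [hj]
      exact Nat.Coprime.pow_left j ((Nat.coprime_primes hp.out hq).mpr hqp.symm)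
    have hTq : T ≤ cG q (sigmaCore L) := by
      rw [hT, Subgroup.commutator_comm]
      refine le_trans (Subgroup.commutator_mono hSq (hD₀K.trans hKσ)) ?_
      exact commutator_le_left_of_le_normalizer _ _ (le_normalizer_cG q (sigmaCore L))
    have := hqT.trans (Subgroup.card_dvd_of_le hTq)
    exact hq.one_lt.ne' (Nat.Coprime.eq_one_of_dvd (card_cG_coprime q _).symm this)
  -- `T` is cyclic
  have hTM : T ≤ M := hTD₀.trans (hD₀E.trans c.hE.1)
  have hTcyc : IsCyclic ↥T := by
    have h1 : IsCyclic ↥(T.subgroupOf M) := by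
      apply Cfsg.Agent.Lib.Helper3.Ree.isCyclic_of_comm_of_sylow (T.subgroupOf M)
      · intro a ha b hb
        apply Subtype.ext
        exact hTcomm _ ha _ hb
      · intro q hqF hqd Q
        have hq : q.Prime := hqF.out
        rw [card_subgroupOf_of_le hTM] at hqd
        apply isCyclic_sylow_of_pRankLE_one (odd_card_sub hG M) ?_ Q
        by_contra hr1
        have hqβ := hTβ q hq hqd
        have hqE : q ∣ Nat.card E := hqd.trans (Subgroup.card_dvd_of_le (hTD₀.trans hD₀E))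
        have hqσ : q ∉ sigma M := not_sigma_of_dvd_card_compl hG c.hM c.hE hq hqE
        have hr2 : PRankLE q 2 ↥M := by
          by_contra h
          exact hqσ (alpha_subset_sigma hG c.hM ⟨hq, h⟩)
        exact not_beta_of_tau2 hG c.hM (p := q) ⟨hq, hqσ, hr2, hr1⟩ L hqβ
    exact isCyclic_of_surjective (Subgroup.subgroupOfEquivOfLe hTM)
      (Subgroup.subgroupOfEquivOfLe hTM).surjective
  -- `S` centralizes `T`
  have hST : S ≤ Subgroup.centralizer (T : Set G) := by
    refine c.le_commutator_normalizer.trans ?_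
    rw [Subgroup.commutator_le]
    intro g hg h hh
    exact comm_centralizes_cyclic hTcyc (hNST hg) (hNST hh)
  -- `T = 1`
  have hsolvS : Group.IsSolvable ↥S := by
    haveI : Group.IsSolvable ↥M := solvable_of_ne_top hG c.hM.1
    exact isSolvable_of_le c.sylM.1
  have hcopSD : (Nat.card S).Coprime (Nat.card D₀) :=
    coprime_card_of_isPGroup (q := p) c.hS.2.1
      (Nat.Coprime.coprime_dvd_left (Subgroup.card_dvd_of_le hD₀K) hKp)
  have hstable := coprime_commutator_stable S D₀ hSD₀ hcopSD (Or.inl hsolvS)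
  have hT1 : T = ⊥ := by
    rw [hT, ← hstable, ← hT]
    exact Subgroup.commutator_eq_bot_iff_le_centralizer.mpr
      (by
        intro t ht
        rw [Subgroup.mem_centralizer_iff]
        intro s hs
        exact (Subgroup.mem_centralizer_iff.mp (hST hs) t ht).symm)
  have hD₀S : D₀ ≤ Subgroup.centralizer (S : Set G) :=
    Subgroup.commutator_eq_bot_iff_le_centralizer.mp hT1
  -- conjugates of `S` under `N_G(A)` lie in `S`
  have hSσsyl : SylIn p (sigmaCore L) S := c.sylTop.mono hSσ le_top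
  apply le_normalizer_of_forall_conj
  intro n hn s hs
  have hnL : n ∈ L := hNL hn
  have h1 : n * s * n⁻¹ ∈ sigmaCore L :=
    (Subgroup.mem_normalizer_iff.mp (hσn hnL) s).mp (hSσ hs)
  have h2 : n * s * n⁻¹ ∈ Subgroup.centralizer (A : Set G) :=
    conj_mem_centralizer hn (c.le_centralizer hs)
  obtain ⟨k, hk, s', hs', hks⟩ := npc_decomp hnpc hSσsyl _ h1
  have hkD₀ : k ∈ D₀ := by
    rw [hD₀, Subgroup.mem_inf]
    refine ⟨hk, ?_⟩
    have : k = (n * s * n⁻¹) * s'⁻¹ := by rw [hks]; group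
    rw [this]
    exact Subgroup.mul_mem _ h2 (Subgroup.inv_mem _ (c.le_centralizer hs'))
  have hcomm : Commute k s' := (Subgroup.mem_centralizer_iff.mp (hD₀S hkD₀) s' hs').symm
  -- `k` is a `p`-element of `K`, hence trivial
  obtain ⟨j, hj⟩ := (IsPGroup.iff_orderOf.mp c.hS.2.1) ⟨s, hs⟩
  have hsj : s ^ p ^ j = 1 := by
    have := pow_orderOf_eq_one (⟨s, hs⟩ : ↥S)
    rw [hj] at this
    have h4 := congrArg Subtype.val this
    simpa using h4
  have h5 : (n * s * n⁻¹) ^ p ^ j = 1 := by rw [conj_pow, hsj, mul_one, mul_inv_cancel]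
  rw [hks, hcomm.mul_pow] at h5
  have h6 : k ^ p ^ j ∈ S ⊓ K := by
    rw [Subgroup.mem_inf]
    refine ⟨?_, K.pow_mem hk _⟩
    have : k ^ p ^ j = (s' ^ p ^ j)⁻¹ := eq_inv_of_mul_eq_one_left h5
    rw [this]
    exact S.inv_mem (S.pow_mem hs' _)
  rw [hSK, Subgroup.mem_bot] at h6
  have h7 : orderOf k ∣ p ^ j := orderOf_dvd_of_pow_eq_one h6
  have h8 : orderOf k ∣ Nat.card K := by
    have := orderOf_dvd_natCard (⟨k, hk⟩ : ↥K)
    rwa [Subgroup.orderOf_mk] at this
  have h9 : orderOf k = 1 :=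
    Nat.eq_one_of_dvd_coprimes (Nat.Coprime.pow_left j hKp.symm) h7 h8
  rw [orderOf_eq_one_iff] at h9
  rw [hks, h9, one_mul]
  exact hs'

end CA

end Cfsg.Agent.Lib.Helper2.BG12
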