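import Mathlib
import Cfsg.Agent.Lib.Helper2.BG12m

set_option autoImplicit false

/-!
# Bender–Glauberman 12.8/12.12: `N_G(S)/C_G(S)` is abelian; invariant lines are regular
-/

namespace Cfsg.Agent.Lib.Helper2.BG12

open Cfsg Cfsg.Agent.Lib.Lead Cfsg.Agent.Lib.Lead.BG10 Cfsg.Agent.Lib.Helper4 Cfsg.Agent.Lib.Helper7
open Cfsg.Agent.Lib.Helper4.BG7 Cfsg.Agent.Lib.Helper4.BG76 Cfsg.Agent.Lib.Helper4.BG8
open Cfsg.Agent.Lib.Helper4.BG9
open Cfsg.Agent.Lib.Helper4.ThreeStep Cfsg.Agent.Lib.Helper4.BG12 Cfsg.Agent.Lib.Helper2.BG11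
open Cfsg.Agent.Lib.Lead.BG11
open scoped commutatorElement

universe u

variable {G : Type u} [Group G] [Finite G]

/-- `z` acts regularly on `M_σ` -/
def Reg (M : Subgroup G) (z : G) : Prop :=
  sigmaCore M ⊓ Subgroup.centralizer ({z} : Set G) = ⊥

theorem reg_of_pow {M : Subgroup G} {z : G} {k : ℕ} (h : Reg M (z ^ k)) : Reg M z := by
  unfold Reg at h ⊢
  rw [eq_bot_iff, ← h]
  apply inf_le_inf_left
  intro x hx
  rw [Subgroup.mem_centralizer_iff] at hx ⊢
  intro y hy
  rw [Set.mem_singleton_iff] at hy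
  rw [hy]
  have hc : Commute z x := hx z (Set.mem_singleton z)
  exact (hc.pow_left k).eq

theorem reg_of_zpow {M : Subgroup G} {z : G} {k : ℤ} (h : Reg M (z ^ k)) : Reg M z := by
  unfold Reg at h ⊢
  rw [eq_bot_iff, ← h]
  apply inf_le_inf_left
  intro x hx
  rw [Subgroup.mem_centralizer_iff] at hx ⊢
  intro y hy
  rw [Set.mem_singleton_iff] at hy
  rw [hy]
  have hc : Commute z x := hx z (Set.mem_singleton z)
  exact (hc.zpow_left k).eq

theorem reg_iff_line {M : Subgroup G} {p : ℕ} [hp : Fact p.Prime] {X : Subgroup G}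
    (hX : Nat.card X = p) {z : G} (hz : z ∈ X) (hz1 : z ≠ 1) :
    Reg M z ↔ sigmaCore M ⊓ Subgroup.centralizer (X : Set G) = ⊥ := by
  have h1 : Subgroup.centralizer ({z} : Set G) = Subgroup.centralizer (X : Set G) :=
    le_antisymm (centralizer_singleton_le_of_prime_card hX hz hz1)
      (Subgroup.centralizer_le (Set.singleton_subset_iff.mpr hz))
  unfold Reg
  rw [h1]

namespace CA

variable {M E A S : Subgroup G} {p : ℕ} [hp : Fact p.Prime]

/-- `N_G(S)/C_G(S)` is abelian -/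
theorem comm_mem_centralizer (c : CA M E p A S) {n₁ n₂ : G}
    (h₁ : n₁ ∈ Subgroup.normalizer (S : Set G)) (h₂ : n₂ ∈ Subgroup.normalizer (S : Set G)) :
    ⁅n₁, n₂⁆ ∈ Subgroup.centralizer (S : Set G) := by
  have hG := c.hG
  have dT := c.dT
  obtain ⟨L, hL, hNL⟩ := exists_coatom_ge (dT.normalizer_ne_top hG)
  have hpσL : p ∈ sigma L := dT.sigma_of_normalizer_le hG hL hNL
  have hpβL : p ∉ beta L := not_beta_of_tau2 hG c.hM c.hpτ L
  have hSN : S ≤ Subgroup.normalizer (A : Set G) := c.hS.1.trans c.le_normalizer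
  have hSL : S ≤ L := hSN.trans hNL
  have hSσ : S ≤ sigmaCore L := le_sigmaCore_of_isPGroup hG hL hpσL hSL c.hS.2.1
  have hpL : p ∣ Nat.card L := hpσL.2.1
  have hnpc : NPC p ⁅L, L⁆ :=
    npc_of_hasNormalPComplement ((theorem_10_8 hG hL).2.2.2.2 p hp.out hpL hpβL).1
  have hSL' : S ≤ ⁅L, L⁆ := hSσ.trans (sigmaCore_le_commutator hG hL)
  have hsyl : SylIn p ⁅L, L⁆ S := c.sylTop.mono hSL' le_top
  have hNSL : Subgroup.normalizer (S : Set G) ≤ L := c.normalizer_le_normalizer.trans hNL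
  have hcL : ⁅n₁, n₂⁆ ∈ ⁅L, L⁆ := Subgroup.commutator_mem_commutator (hNSL h₁) (hNSL h₂)
  obtain ⟨k, hk, s, hs, hks⟩ := npc_decomp hnpc hsyl _ hcL
  set K' := cG p ⁅L, L⁆ with hK'
  have hSK' : S ≤ Subgroup.normalizer (K' : Set G) :=
    hSL.trans ((le_normalizer_commutator_self L).trans (normalizer_le_normalizer_cG p _))
  have hinf : S ⊓ K' = ⊥ :=
    Subgroup.inf_eq_bot_of_coprime
      (coprime_card_of_isPGroup (q := p) c.hS.2.1 (card_cG_coprime p _))
  have hcN : ⁅n₁, n₂⁆ ∈ Subgroup.normalizer (S : Set G) := by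
    rw [commutatorElement_def]
    exact Subgroup.mul_mem _ (Subgroup.mul_mem _ (Subgroup.mul_mem _ h₁ h₂)
      (Subgroup.inv_mem _ h₁)) (Subgroup.inv_mem _ h₂)
  have hkN : k ∈ Subgroup.normalizer (S : Set G) := by
    have : k = ⁅n₁, n₂⁆ * s⁻¹ := by rw [hks]; group
    rw [this]
    exact Subgroup.mul_mem _ hcN (Subgroup.inv_mem _ (Subgroup.le_normalizer hs))
  have hkC : k ∈ Subgroup.centralizer (S : Set G) :=
    mem_centralizer_of_mem_normalizer S K' hSK' hinf k hk
      (fun a ha => (Subgroup.mem_normalizer_iff.mp hkN a).mp ha)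
  have hsC : s ∈ Subgroup.centralizer (S : Set G) := by
    rw [Subgroup.mem_centralizer_iff]
    intro a ha
    exact c.comm' a ha s hs
  rw [hks]
  exact Subgroup.mul_mem _ hkC hsC

/-- `N_G(S)` is not contained in `M` -/
theorem exists_not_mem (c : CA M E p A S) : ∃ n ∈ Subgroup.normalizer (S : Set G), n ∉ M := by
  have h1 := c.dT.normalizer_not_le c.sylM
  rw [SetLike.not_le_iff_exists] at h1
  exact h1

/-- a line of `A` whose normalizer is not in `M` acts regularly on `M_σ` -/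
theorem regular_of_not_le (c : CA M E p A S) {X : Subgroup G} (hXA : X ≤ A)
    (hX : Nat.card X = p) (hN : ¬ Subgroup.normalizer (X : Set G) ≤ M) :
    sigmaCore M ⊓ Subgroup.centralizer (X : Set G) = ⊥ := by
  by_contra hne
  obtain ⟨-, huniq⟩ := c.cor.2.2 X hXA hX hne
  obtain ⟨L', hL', hNL'⟩ := exists_coatom_ge (H124.normalizer_ne_top_of_card c.hG hX)
  have hCN : Subgroup.centralizer (X : Set G) ≤ Subgroup.normalizer (X : Set G) :=
    Subgroup.centralizer_le_normalizer _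
  have := huniq L' hL' (hCN.trans hNL')
  rw [this] at hNL'
  exact hN hNL'

/-- a line of `A` normalized by an element outside `M` acts regularly -/
theorem regular_of_invariant (c : CA M E p A S) {X : Subgroup G} (hXA : X ≤ A)
    (hX : Nat.card X = p) {n : G} (hn : n ∈ Subgroup.normalizer (X : Set G)) (hnM : n ∉ M) :
    sigmaCore M ⊓ Subgroup.centralizer (X : Set G) = ⊥ :=
  c.regular_of_not_le hXA hX (fun h => hnM (h hn))

end CA

end Cfsg.Agent.Lib.Helper2.BG12
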