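import Mathlib
import Cfsg.Agent.Lib.Helper2.BG12n
import Cfsg.Agent.Lib.Lead.Coprime
import Cfsg.Agent.Lib.Lead.HallDirect1

set_option autoImplicit false

/-!
# Bender–Glauberman 12.12(b): the case of a `p'`-element of `N_G(S)` with mixed action on `S`
-/

namespace Cfsg.Agent.Lib.Helper2.BG12

open Cfsg Cfsg.Agent.Lib.Lead Cfsg.Agent.Lib.Lead.BG10 Cfsg.Agent.Lib.Helper4 Cfsg.Agent.Lib.Helper7
open Cfsg.Agent.Lib.Helper4.BG7 Cfsg.Agent.Lib.Helper4.BG76 Cfsg.Agent.Lib.Helper4.BG8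
open Cfsg.Agent.Lib.Helper4.BG9
open Cfsg.Agent.Lib.Helper4.ThreeStep Cfsg.Agent.Lib.Helper4.BG12 Cfsg.Agent.Lib.Helper2.BG11
open Cfsg.Agent.Lib.Lead.BG11
open scoped commutatorElement

universe u

variable {G : Type u} [Group G] [Finite G]

/-- the per-prime datum for Theorem 12.12(b) -/
def GoodSub (M E S Y : Subgroup G) : Prop :=
  Y ≤ S ∧ E ≤ Subgroup.normalizer (Y : Set G) ∧ (∀ z ∈ Y, z ≠ 1 → Reg M z) ∧
    ∃ y ∈ Y, ∀ s ∈ S, s ^ orderOf y = 1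

/-- a nontrivial `p`-element has a power of order `p` -/
theorem exists_pow_order_p {p : ℕ} [hp : Fact p.Prime] {Y : Subgroup G} (hY : IsPGroup p Y)
    {z : G} (hz : z ∈ Y) (hz1 : z ≠ 1) : ∃ k : ℕ, z ^ k ≠ 1 ∧ (z ^ k) ^ p = 1 := by
  obtain ⟨k, hk⟩ := (IsPGroup.iff_orderOf.mp hY) ⟨z, hz⟩
  rw [Subgroup.orderOf_mk] at hk
  have hk0 : k ≠ 0 := by
    rintro rfl
    rw [pow_zero, orderOf_eq_one_iff] at hk
    exact hz1 hk
  obtain ⟨j, rfl⟩ := Nat.exists_eq_succ_of_ne_zero hk0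
  refine ⟨p ^ j, ?_, ?_⟩
  · apply pow_ne_one_of_lt_orderOf (pow_pos hp.out.pos j).ne'
    rw [hk]
    exact Nat.pow_lt_pow_right hp.out.one_lt (Nat.lt_succ_self j)
  · rw [← pow_mul, ← pow_succ, ← hk, pow_orderOf_eq_one]

/-- an element of maximal order in a `p`-group -/
theorem exists_max_order {p : ℕ} [hp : Fact p.Prime] {Y : Subgroup G} (hY : IsPGroup p Y) :
    ∃ y ∈ Y, ∀ s ∈ Y, orderOf s ∣ orderOf y := by
  obtain ⟨y, hy⟩ := Finite.exists_max (fun y : ↥Y => orderOf (y : G))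
  refine ⟨y, y.2, fun s hs => ?_⟩
  obtain ⟨a, ha⟩ := (IsPGroup.iff_orderOf.mp hY) ⟨s, hs⟩
  obtain ⟨b, hb⟩ := (IsPGroup.iff_orderOf.mp hY) y
  rw [Subgroup.orderOf_mk] at ha
  rw [← Subgroup.orderOf_coe] at hb
  have h1 := hy ⟨s, hs⟩
  simp only at h1
  rw [ha, hb] at h1 ⊢
  exact pow_dvd_pow p ((Nat.pow_le_pow_iff_right hp.out.one_lt).mp h1)

namespace CA

variable {M E A S : Subgroup G} {p : ℕ} [hp : Fact p.Prime]

/-- `E` normalizes `S` -/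
theorem le_normalizer_S (c : CA M E p A S) : E ≤ Subgroup.normalizer (S : Set G) :=
  c.le_normalizer.trans c.normalizer_le

theorem good_of_decomp (c : CA M E p A S) {Y Y' : Subgroup G} (hY : Y ≤ S) (hY' : Y' ≤ S)
    (hinf : Y ⊓ Y' = ⊥) (hY1 : Y ≠ ⊥) (hY'1 : Y' ≠ ⊥)
    (hN : Subgroup.normalizer (S : Set G) ≤ Subgroup.normalizer (Y : Set G))
    (hsup : ∀ s ∈ S, ∃ a ∈ Y, ∃ b ∈ Y', s = a * b)
    (hy : ∃ y ∈ Y, (∀ s ∈ Y, orderOf s ∣ orderOf y) ∧ ∀ s ∈ Y', s ^ orderOf y = 1) :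
    GoodSub M E S Y := by
  have hYp : IsPGroup p Y := c.hS.2.1.to_le hY
  have hY'p : IsPGroup p Y' := c.hS.2.1.to_le hY'
  -- nontrivial elements of order `p`
  have hex : ∀ {Z : Subgroup G}, Z ≤ S → Z ≠ ⊥ → ∃ w ∈ Z ⊓ A, w ≠ 1 := by
    intro Z hZ hZ1
    obtain ⟨⟨z, hzZ⟩, hz1⟩ := (Subgroup.ne_bot_iff_exists_ne_one.mp hZ1)
    have hz1' : z ≠ 1 := fun h => hz1 (Subtype.ext h)
    obtain ⟨k, hk1, hkp⟩ := exists_pow_order_p (c.hS.2.1.to_le hZ) hzZ hz1'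
    exact ⟨z ^ k, Subgroup.mem_inf.mpr ⟨Z.pow_mem hzZ k, c.mem_of_pow (hZ (Z.pow_mem hzZ k)) hkp⟩,
      hk1⟩
  obtain ⟨w, hw, hw1⟩ := hex hY hY1
  obtain ⟨w', hw', hw'1⟩ := hex hY' hY'1
  -- `Y ⊓ A` has order `p`
  have hXc : Nat.card ↥(Y ⊓ A) = p := by
    have h1 : Nat.card ↥(Y ⊓ A) ∣ p ^ 2 := by
      rw [← c.hAc]
      exact Subgroup.card_dvd_of_le inf_le_right
    obtain ⟨j, hj2, hj⟩ := (Nat.dvd_prime_pow hp.out).mp h1
    interval_cases j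
    · exfalso
      rw [pow_zero] at hj
      have := Subgroup.card_eq_one.mp hj
      rw [this, Subgroup.mem_bot] at hw
      exact hw1 hw
    · rw [hj, pow_one]
    · exfalso
      have h2 : Y ⊓ A = A := by
        apply Subgroup.eq_of_le_of_card_ge inf_le_right
        rw [hj, c.hAc]
      have h3 : w' ∈ Y ⊓ Y' := by
        rw [Subgroup.mem_inf] at hw' ⊢
        refine ⟨?_, hw'.1⟩
        have : w' ∈ Y ⊓ A := by rw [h2]; exact hw'.2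
        exact (Subgroup.mem_inf.mp this).1
      rw [hinf, Subgroup.mem_bot] at h3
      exact hw'1 h3
  -- it is normalized by `N_G(S)`
  have hNX : Subgroup.normalizer (S : Set G) ≤ Subgroup.normalizer ((Y ⊓ A : Subgroup G) : Set G) := by
    apply le_normalizer_of_forall_conj
    intro n hn x hx
    rw [Subgroup.mem_inf] at hx ⊢
    exact ⟨(Subgroup.mem_normalizer_iff.mp (hN hn) x).mp hx.1,
      (Subgroup.mem_normalizer_iff.mp (c.normalizer_le_normalizer hn) x).mp hx.2⟩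
  obtain ⟨n₀, hn₀, hn₀M⟩ := c.exists_not_mem
  have hreg := c.regular_of_invariant (inf_le_right : Y ⊓ A ≤ A) hXc (hNX hn₀) hn₀M
  refine ⟨hY, c.le_normalizer_S.trans hN, ?_, ?_⟩
  · intro z hz hz1
    obtain ⟨k, hk1, hkp⟩ := exists_pow_order_p hYp hz hz1
    have hzk : z ^ k ∈ Y ⊓ A :=
      Subgroup.mem_inf.mpr ⟨Y.pow_mem hz k, c.mem_of_pow (hY (Y.pow_mem hz k)) hkp⟩
    exact reg_of_pow ((reg_iff_line hXc hzk hk1).mpr hreg)
  · obtain ⟨y, hyY, hy1, hy2⟩ := hy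
    refine ⟨y, hyY, ?_⟩
    intro s hs
    obtain ⟨a, ha, b, hb, rfl⟩ := hsup s hs
    have hc : Commute a b := c.comm' a (hY ha) b (hY' hb)
    rw [hc.mul_pow, hy2 b hb, mul_one]
    exact orderOf_dvd_iff_pow_eq_one.mp (hy1 a ha)

/-- **case α**: a `p'`-element of `N_G(S)` fixing some but not all of `S` -/
theorem exists_good_of_mixed (c : CA M E p A S) {n : G}
    (hn : n ∈ Subgroup.normalizer (S : Set G)) (hcop : (orderOf n).Coprime p)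
    (h1 : S ⊓ Subgroup.centralizer ({n} : Set G) ≠ ⊥)
    (h2 : ¬ S ≤ Subgroup.centralizer ({n} : Set G)) : ∃ Y : Subgroup G, GoodSub M E S Y := by
  haveI := c.comm
  set Z := Subgroup.zpowers n with hZ
  have hZN : Z ≤ Subgroup.normalizer (S : Set G) := Subgroup.zpowers_le.mpr hn
  have hZcop : (Nat.card Z).Coprime (Nat.card S) := by
    rw [Nat.card_zpowers]
    obtain ⟨j, hj⟩ := IsPGroup.iff_card.mp c.hS.2.1
    rw [hj]
    exact Nat.Coprime.pow_right j hcop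
  obtain ⟨hd1, hd2⟩ := coprime_abelian_decomp Z S hZN hZcop
  rw [centralizer_zpowers] at hd1 hd2
  set Y₁ := S ⊓ Subgroup.centralizer ({n} : Set G) with hY₁
  set Y₂ := ⁅S, Z⁆ with hY₂
  have hY₂S : Y₂ ≤ S := commutator_le_left_of_le_normalizer S Z hZN
  have hY₂1 : Y₂ ≠ ⊥ := by
    intro h
    rw [h, sup_bot_eq] at hd2
    apply h2
    rw [← hd2]
    exact inf_le_right
  -- invariance
  have hN₁ : Subgroup.normalizer (S : Set G) ≤ Subgroup.normalizer (Y₁ : Set G) := by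
    apply le_normalizer_of_forall_conj
    intro m hm y hy
    rw [hY₁, Subgroup.mem_inf] at hy ⊢
    refine ⟨(Subgroup.mem_normalizer_iff.mp hm y).mp hy.1, ?_⟩
    rw [Subgroup.mem_centralizer_singleton_iff]
    have hyn : y * n = n * y := Subgroup.mem_centralizer_singleton_iff.mp hy.2
    have hc' : ⁅n⁻¹, m⁻¹⁆ ∈ Subgroup.centralizer (S : Set G) :=
      c.comm_mem_centralizer (Subgroup.inv_mem _ hn) (Subgroup.inv_mem _ hm)
    have hmn : m⁻¹ * n * m = n * ⁅n⁻¹, m⁻¹⁆ := by rw [commutatorElement_def]; group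
    have hyc : y * ⁅n⁻¹, m⁻¹⁆ = ⁅n⁻¹, m⁻¹⁆ * y := Subgroup.mem_centralizer_iff.mp hc' y hy.1
    calc m * y * m⁻¹ * n = m * y * (m⁻¹ * n * m) * m⁻¹ := by group
      _ = m * y * (n * ⁅n⁻¹, m⁻¹⁆) * m⁻¹ := by rw [hmn]
      _ = m * (y * n) * ⁅n⁻¹, m⁻¹⁆ * m⁻¹ := by group
      _ = m * (n * y) * ⁅n⁻¹, m⁻¹⁆ * m⁻¹ := by rw [hyn]
      _ = m * n * (y * ⁅n⁻¹, m⁻¹⁆) * m⁻¹ := by group
      _ = m * n * (⁅n⁻¹, m⁻¹⁆ * y) * m⁻¹ := by rw [hyc]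
      _ = m * (n * ⁅n⁻¹, m⁻¹⁆) * y * m⁻¹ := by group
      _ = m * (m⁻¹ * n * m) * y * m⁻¹ := by rw [hmn]
      _ = n * (m * y * m⁻¹) := by group
  have hN₂ : Subgroup.normalizer (S : Set G) ≤ Subgroup.normalizer (Y₂ : Set G) := by
    intro m hm
    rw [mem_normalizer_iff_cj]
    apply cj_eq_of_le
    have hS' : S.map (MulAut.conj m).toMonoidHom = S := mem_normalizer_iff_cj.mp hm
    unfold cj
    rw [hY₂, Subgroup.map_commutator, hS', Subgroup.commutator_le]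
    intro s hs w hw
    obtain ⟨z, hz, rfl⟩ := hw
    simp only [MulEquiv.coe_toMonoidHom, MulAut.conj_apply]
    have hc'' : ⁅z⁻¹, m⁆ ∈ Subgroup.centralizer (S : Set G) :=
      c.comm_mem_centralizer (hZN (Z.inv_mem hz)) hm
    have hmz : m * z * m⁻¹ = z * ⁅z⁻¹, m⁆ := by rw [commutatorElement_def]; group
    have hsc : s⁻¹ * ⁅z⁻¹, m⁆ = ⁅z⁻¹, m⁆ * s⁻¹ :=
      Subgroup.mem_centralizer_iff.mp hc'' s⁻¹ (S.inv_mem hs)
    have h3 : ⁅s, m * z * m⁻¹⁆ = ⁅s, z⁆ := by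
      rw [hmz]
      calc ⁅s, z * ⁅z⁻¹, m⁆⁆ = s * z * (⁅z⁻¹, m⁆ * s⁻¹) * ⁅z⁻¹, m⁆⁻¹ * z⁻¹ := by
            rw [commutatorElement_def s]; group
        _ = s * z * (s⁻¹ * ⁅z⁻¹, m⁆) * ⁅z⁻¹, m⁆⁻¹ * z⁻¹ := by rw [hsc]
        _ = ⁅s, z⁆ := by rw [commutatorElement_def s]; group
    rw [h3]
    exact Subgroup.commutator_mem_commutator hs hz
  have hsup₁ : ∀ s ∈ S, ∃ a ∈ Y₁, ∃ b ∈ Y₂, s = a * b := by
    intro s hs
    have : s ∈ Y₁ ⊔ Y₂ := by rw [hd2]; exact hs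
    exact HallDirect.exists_mul_of_mem_sup_commute Y₁ Y₂
      (fun a ha b hb => c.comm' a (Subgroup.mem_inf.mp ha).1 b (hY₂S hb)) this
  have hsup₂ : ∀ s ∈ S, ∃ a ∈ Y₂, ∃ b ∈ Y₁, s = a * b := by
    intro s hs
    obtain ⟨a, ha, b, hb, rfl⟩ := hsup₁ s hs
    exact ⟨b, hb, a, ha, c.comm' a (Subgroup.mem_inf.mp ha).1 b (hY₂S hb)⟩
  have hY₁p : IsPGroup p Y₁ := c.hS.2.1.to_le inf_le_left
  have hY₂p : IsPGroup p Y₂ := c.hS.2.1.to_le hY₂S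
  obtain ⟨y₁, hy₁, hm₁⟩ := exists_max_order hY₁p
  obtain ⟨y₂, hy₂, hm₂⟩ := exists_max_order hY₂p
  obtain ⟨a, ha⟩ := (IsPGroup.iff_orderOf.mp hY₁p) ⟨y₁, hy₁⟩
  obtain ⟨b, hb⟩ := (IsPGroup.iff_orderOf.mp hY₂p) ⟨y₂, hy₂⟩
  rw [Subgroup.orderOf_mk] at ha hb
  rcases le_total b a with h | h
  · have hdvd : orderOf y₂ ∣ orderOf y₁ := by rw [ha, hb]; exact pow_dvd_pow p h
    exact ⟨Y₁, c.good_of_decomp inf_le_left hY₂S hd1 h1 hY₂1 hN₁ hsup₁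
      ⟨y₁, hy₁, hm₁, fun s hs => orderOf_dvd_iff_pow_eq_one.mp ((hm₂ s hs).trans hdvd)⟩⟩
  · have hdvd : orderOf y₁ ∣ orderOf y₂ := by rw [ha, hb]; exact pow_dvd_pow p h
    exact ⟨Y₂, c.good_of_decomp hY₂S inf_le_left (by rw [inf_comm]; exact hd1) hY₂1 h1 hN₂ hsup₂
      ⟨y₂, hy₂, hm₂, fun s hs => orderOf_dvd_iff_pow_eq_one.mp ((hm₁ s hs).trans hdvd)⟩⟩

end CA

end Cfsg.Agent.Lib.Helper2.BG12
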