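import Mathlib
import Cfsg.Agent.Lib.Lead.FrobConj3

set_option autoImplicit false

/-!
# A norm computation: two commuting automorphisms of order dividing a prime `r`

If `X`, `B` are commuting automorphisms of an abelian group `W` with `X ^ r = B ^ r = 1` such that
the norm maps of `X` and of all `B X ^ j` are trivial, then `W` has exponent dividing `r`.
-/

namespace Cfsg.Agent.Lib.Helper2.BG12

open Cfsg Cfsg.Agent.Lib.Lead

theorem pow_eq_pow_of_modEq {Γ : Type*} [Group Γ] {Y : Γ} {r : ℕ} (hY : Y ^ r = 1) {n m : ℕ}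
    (h : n ≡ m [MOD r]) : Y ^ n = Y ^ m := by
  rw [pow_eq_pow_iff_modEq]
  exact h.of_dvd (orderOf_dvd_of_pow_eq_one hY)

theorem pow_eq_one_of_norms {W : Type*} [CommGroup W] {r : ℕ} [hr : Fact r.Prime]
    (X B : MulAut W) (hXB : Commute X B) (hX : X ^ r = 1) (hB : B ^ r = 1)
    (hfX : ∀ w : W, ∏ k : ZMod r, (X ^ k.val) w = 1)
    (hf : ∀ (j : ZMod r) (w : W), ∏ i : ZMod r, ((B * X ^ j.val) ^ i.val) w = 1) (w : W) :
    w ^ r = 1 := by
  haveI : NeZero r := ⟨hr.out.ne_zero⟩
  have h1 : ∀ i j : ZMod r, ((B * X ^ j.val) ^ i.val) w = (B ^ i.val) ((X ^ (j * i).val) w) := by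
    intro i j
    have hc : Commute B (X ^ j.val) := (hXB.symm).pow_right _
    rw [hc.mul_pow, ← pow_mul, MulAut.mul_apply]
    congr 2
    apply pow_eq_pow_of_modEq hX
    rw [ZMod.val_mul]
    exact (Nat.mod_modEq _ _).symm
  have h2 : (∏ j : ZMod r, ∏ i : ZMod r, ((B * X ^ j.val) ^ i.val) w) = 1 := by
    apply Finset.prod_eq_one
    intro j _
    exact hf j w
  rw [Finset.prod_comm] at h2
  have h3 : ∀ i : ZMod r, (∏ j : ZMod r, ((B * X ^ j.val) ^ i.val) w) =
      if i = 0 then w ^ r else 1 := by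
    intro i
    have h4 : (∏ j : ZMod r, ((B * X ^ j.val) ^ i.val) w) =
        (B ^ i.val) (∏ j : ZMod r, (X ^ (j * i).val) w) := by
      rw [map_prod]
      exact Finset.prod_congr rfl (fun j _ => h1 i j)
    rw [h4]
    by_cases hi : i = 0
    · rw [if_pos hi, hi]
      simp only [mul_zero, ZMod.val_zero, pow_zero, MulAut.one_apply, Finset.prod_const,
        Finset.card_univ, ZMod.card]
    · rw [if_neg hi]
      have h5 : (∏ j : ZMod r, (X ^ (j * i).val) w) = ∏ k : ZMod r, (X ^ k.val) w :=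
        Fintype.prod_equiv (Equiv.mulRight₀ i hi) _ _ (fun j => rfl)
      rw [h5, hfX w, map_one]
  rw [Finset.prod_congr rfl (fun i _ => h3 i), Finset.prod_ite_eq' Finset.univ (0 : ZMod r)] at h2
  simpa using h2

end Cfsg.Agent.Lib.Helper2.BG12
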