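import Mathlib
import Cfsg.Agent.Lib.Helper2.BG12p

set_option autoImplicit false

/-!
# Two commuting elements acting on an abelian group: not all of `x`, `b x ^ j` are fixed-point-free
-/

namespace Cfsg.Agent.Lib.Helper2.BG12

open Cfsg Cfsg.Agent.Lib.Lead

variable {G : Type*} [Group G] [Finite G]

theorem eq_bot_of_fpf_pair {S : Subgroup G} (hS : ∀ a ∈ S, ∀ b ∈ S, a * b = b * a)
    {r : ℕ} [hr : Fact r.Prime] (hrS : (Nat.card S).Coprime r) {x b : G}
    (hx : x ∈ Subgroup.normalizer (S : Set G)) (hb : b ∈ Subgroup.normalizer (S : Set G))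
    (hxb : x * b = b * x) (hxr : x ^ r ∈ Subgroup.centralizer (S : Set G))
    (hbr : b ^ r ∈ Subgroup.centralizer (S : Set G))
    (hfx : S ⊓ Subgroup.centralizer ({x} : Set G) = ⊥)
    (hf : ∀ j : ℕ, S ⊓ Subgroup.centralizer ({b * x ^ j} : Set G) = ⊥) : S = ⊥ := by
  haveI : NeZero r := ⟨hr.out.ne_zero⟩
  letI : CommGroup ↥S := { (inferInstance : Group ↥S) with
    mul_comm := fun a b => Subtype.ext (hS a a.2 b b.2) }
  set φ := conjAutHom S (Subgroup.normalizer (S : Set G)) le_rfl with hφ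
  have hφ1 : ∀ g : ↥(Subgroup.normalizer (S : Set G)),
      (g : G) ∈ Subgroup.centralizer (S : Set G) → φ g = 1 := by
    intro g hg
    ext w
    rw [MulAut.one_apply, conjAutHom_apply]
    have := Subgroup.mem_centralizer_iff.mp hg (w : G) w.2
    rw [← this]
    group
  set x' : ↥(Subgroup.normalizer (S : Set G)) := ⟨x, hx⟩ with hx'
  set b' : ↥(Subgroup.normalizer (S : Set G)) := ⟨b, hb⟩ with hb'
  have hXB : Commute (φ x') (φ b') := by
    show φ x' * φ b' = φ b' * φ x'
    rw [← map_mul, ← map_mul]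
    congr 1
    exact Subtype.ext hxb
  have hX : (φ x') ^ r = 1 := by
    rw [← map_pow]
    exact hφ1 _ hxr
  have hB : (φ b') ^ r = 1 := by
    rw [← map_pow]
    exact hφ1 _ hbr
  -- the norm of a fixed-point-free element is trivial
  have hnorm : ∀ g : ↥(Subgroup.normalizer (S : Set G)), (φ g) ^ r = 1 →
      S ⊓ Subgroup.centralizer ({(g : G)} : Set G) = ⊥ →
      ∀ w : ↥S, ∏ k : ZMod r, ((φ g) ^ k.val) w = 1 := by
    intro g hg hfix w
    set P := ∏ k : ZMod r, ((φ g) ^ k.val) w with hP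
    have h1 : (φ g) P = P := by
      rw [hP, map_prod]
      refine Fintype.prod_equiv (Equiv.addRight (1 : ZMod r)) _ _ ?_
      intro k
      rw [Equiv.coe_addRight, ← MulAut.mul_apply, ← pow_succ']
      congr 1
      apply pow_eq_pow_of_modEq hg
      rw [ZMod.val_add]
      have h2 : (1 : ZMod r).val = 1 % r := by
        rw [ZMod.val_one_eq_one_mod]
      rw [h2]
      exact ((Nat.mod_modEq _ _).trans (Nat.ModEq.add_left _ (Nat.mod_modEq 1 r))).symm
    have h3 : (P : G) ∈ S ⊓ Subgroup.centralizer ({(g : G)} : Set G) := by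
      rw [Subgroup.mem_inf]
      refine ⟨P.2, ?_⟩
      rw [Subgroup.mem_centralizer_singleton_iff]
      have h4 := congrArg Subtype.val h1
      rw [conjAutHom_apply] at h4
      calc (P : G) * g = (g * P * (g : G)⁻¹) * g := by rw [h4]
        _ = g * P := by group
    rw [hfix, Subgroup.mem_bot] at h3
    exact Subtype.ext h3
  have hfX := hnorm x' hX hfx
  have hfB : ∀ (j : ZMod r) (w : ↥S), ∏ i : ZMod r, ((φ b' * (φ x') ^ j.val) ^ i.val) w = 1 := by
    intro j w
    have h1 : φ b' * (φ x') ^ j.val = φ (b' * x' ^ j.val) := by rw [map_mul, map_pow]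
    rw [h1]
    apply hnorm
    · rw [← h1, (hXB.symm.pow_right _).mul_pow, hB, ← pow_mul, mul_comm, pow_mul, hX, one_pow,
        one_mul]
    · exact hf j.val
  have hexp := pow_eq_one_of_norms (φ x') (φ b') hXB hX hB hfX hfB
  rw [Subgroup.eq_bot_iff_forall]
  intro s hs
  have h1 : (⟨s, hs⟩ : ↥S) ^ r = 1 := hexp ⟨s, hs⟩
  have h2 : orderOf (⟨s, hs⟩ : ↥S) ∣ r := orderOf_dvd_of_pow_eq_one h1
  have h3 : orderOf (⟨s, hs⟩ : ↥S) ∣ Nat.card S := orderOf_dvd_natCard _
  have h4 : orderOf (⟨s, hs⟩ : ↥S) = 1 := Nat.eq_one_of_dvd_coprimes hrS h3 h2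
  rw [orderOf_eq_one_iff] at h4
  exact congrArg Subtype.val h4

end Cfsg.Agent.Lib.Helper2.BG12
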