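import Mathlib
import Cfsg.Agent.Lib.Helper2.BG12o
import Cfsg.Agent.Lib.Helper2.BG12q
import Cfsg.Agent.Lib.Lead.FF15

set_option autoImplicit false

/-!
# Bender–Glauberman 12.12(b): the maximal subgroup over `N_G(A)`, and prime order elements
-/

namespace Cfsg.Agent.Lib.Helper2.BG12

open Cfsg Cfsg.Agent.Lib.Lead Cfsg.Agent.Lib.Lead.BG10 Cfsg.Agent.Lib.Helper4 Cfsg.Agent.Lib.Helper7
open Cfsg.Agent.Lib.Helper4.BG7 Cfsg.Agent.Lib.Helper4.BG76 Cfsg.Agent.Lib.Helper4.BG8
open Cfsg.Agent.Lib.Helper4.BG9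
open Cfsg.Agent.Lib.Helper4.ThreeStep Cfsg.Agent.Lib.Helper4.BG12 Cfsg.Agent.Lib.Helper2.BG11
open Cfsg.Agent.Lib.Lead.BG11
open scoped commutatorElement

universe u

variable {G : Type u} [Group G] [Finite G]

/-- the data `CA` together with a maximal subgroup `L` over `N_G(A)` -/
structure CAL (M E : Subgroup G) (p : ℕ) (A S L : Subgroup G) : Prop extends CA M E p A S where
  hL : IsCoatom L
  hNL : Subgroup.normalizer (A : Set G) ≤ L

namespace CA

variable {M E A S : Subgroup G} {p : ℕ} [hp : Fact p.Prime]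

theorem exists_cal (c : CA M E p A S) : ∃ L : Subgroup G, CAL M E p A S L := by
  obtain ⟨L, hL, hNL⟩ := exists_coatom_ge (c.dT.normalizer_ne_top c.hG)
  exact ⟨L, { c with hL := hL, hNL := hNL }⟩

end CA

namespace CAL

variable {M E A S L : Subgroup G} {p : ℕ} [hp : Fact p.Prime]

theorem sigma (d : CAL M E p A S L) : p ∈ sigma L :=
  d.toCA.dT.sigma_of_normalizer_le d.hG d.hL d.hNL

theorem not_beta (d : CAL M E p A S L) : p ∉ beta L := not_beta_of_tau2 d.hG d.hM d.hpτ L

theorem E_le (d : CAL M E p A S L) : E ≤ L := d.toCA.le_normalizer.trans d.hNL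

theorem normalizer_S_le (d : CAL M E p A S L) : Subgroup.normalizer (S : Set G) ≤ L :=
  d.toCA.normalizer_le_normalizer.trans d.hNL

theorem S_le (d : CAL M E p A S L) : S ≤ L := d.hS.1.trans d.E_le

theorem S_le_sigmaCore (d : CAL M E p A S L) : S ≤ sigmaCore L :=
  le_sigmaCore_of_isPGroup d.hG d.hL d.sigma d.S_le d.hS.2.1

theorem sylσ (d : CAL M E p A S L) : SylIn p (sigmaCore L) S :=
  d.toCA.sylTop.mono d.S_le_sigmaCore le_top

theorem npc (d : CAL M E p A S L) : NPC p (sigmaCore L) :=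
  npc_of_hasNormalPComplement
    ((theorem_10_8 d.hG d.hL).2.2.2.2 p hp.out d.sigma.2.1 d.not_beta).2.1

theorem S_le_normalizer_cG (d : CAL M E p A S L) :
    S ≤ Subgroup.normalizer (cG p (sigmaCore L) : Set G) :=
  d.S_le.trans ((le_normalizer_sigmaCore L).trans (normalizer_le_normalizer_cG p (sigmaCore L)))

theorem S_inf_cG (d : CAL M E p A S L) : S ⊓ cG p (sigmaCore L) = ⊥ :=
  Subgroup.inf_eq_bot_of_coprime
    (CA.coprime_card_of_isPGroup (q := p) d.hS.2.1 (card_cG_coprime p _))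

/-- subgroups of `E` that are `r`-groups for `r ∈ σ(L)`, `r ≠ p`, centralize `S` -/
theorem le_centralizer_of_sigma (d : CAL M E p A S L) {r : ℕ} [hr : Fact r.Prime]
    (hrσ : r ∈ Cfsg.sigma L) (hrp : r ≠ p) {R : Subgroup G} (hRE : R ≤ E) (hR : IsPGroup r R) :
    R ≤ Subgroup.centralizer (S : Set G) := by
  have hRσ : R ≤ sigmaCore L := le_sigmaCore_of_isPGroup d.hG d.hL hrσ (hRE.trans d.E_le) hR
  have hRK : R ≤ cG p (sigmaCore L) := by
    apply le_cG_of_coprime_npc d.npc hRσ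
    obtain ⟨j, hj⟩ := IsPGroup.iff_card.mp hR
    rw [hj]
    exact Nat.Coprime.pow_left j ((Nat.coprime_primes hr.out hp.out).mpr hrp)
  intro x hx
  exact mem_centralizer_of_mem_normalizer S _ d.S_le_normalizer_cG d.S_inf_cG x (hRK hx)
    (fun a ha => (Subgroup.mem_normalizer_iff.mp (d.toCA.le_normalizer_S (hRE hx)) a).mp ha)

/-- a Sylow `r`-subgroup of `N_G(S)` is a Sylow `r`-subgroup of `L` for `r ∉ σ(L)` -/
theorem sylIn_of_sylIn_normalizer (d : CAL M E p A S L) {r : ℕ} [hr : Fact r.Prime]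
    (hrσ : r ∉ Cfsg.sigma L) {Rs : Subgroup G}
    (h : SylIn r (Subgroup.normalizer (S : Set G)) Rs) : SylIn r L Rs := by
  have hG := d.hG
  set N := Subgroup.normalizer (S : Set G) with hN
  have hNL : N ≤ L := d.normalizer_S_le
  have hσn : L ≤ Subgroup.normalizer (sigmaCore L : Set G) := le_normalizer_sigmaCore L
  -- `L = L_σ N`
  have hsup : N ⊔ sigmaCore L = L := by
    apply le_antisymm (sup_le hNL (sigmaCore_le L))
    intro x hx
    obtain ⟨l, hl, y, hy, rfl⟩ := frattini_rel (sigmaCore_le L) hσn d.sylσ hx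
    exact Subgroup.mul_mem _ (Subgroup.mem_sup_right hl) (Subgroup.mem_sup_left hy.2)
  have hcard := card_sup_mul_card_inf N (sigmaCore L) (hNL.trans hσn)
  rw [hsup] at hcard
  have hrσc : ¬ r ∣ Nat.card (sigmaCore L) := fun hd =>
    hrσ ((sigmaCore_hall hG d.hL).1.2.1 r hr.out hd)
  apply SylIn.of_card h.2.1 (h.1.trans hNL)
  rw [SylIn.card_eq_pow h]
  apply Nat.pow_le_pow_right hr.out.pos
  have h1 : (Nat.card L * Nat.card ↥(N ⊓ sigmaCore L)).factorization r =
      (Nat.card N * Nat.card (sigmaCore L)).factorization r := by rw [hcard]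
  rw [Nat.factorization_mul Nat.card_pos.ne' Nat.card_pos.ne',
    Nat.factorization_mul Nat.card_pos.ne' Nat.card_pos.ne', Finsupp.add_apply,
    Finsupp.add_apply, Nat.factorization_eq_zero_of_not_dvd hrσc, add_zero] at h1
  omega

end CAL

end Cfsg.Agent.Lib.Helper2.BG12
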