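import Mathlib
import Cfsg.Agent.Lib.Helper2.BG12r
import Cfsg.Agent.S1427
import Cfsg.Agent.Lib.Helper2.BGAux1

set_option autoImplicit false

/-!
# Bender–Glauberman 12.12(b): cyclic Sylow subgroups of `E` centralize `S` in the semiregular case
-/

namespace Cfsg.Agent.Lib.Helper2.BG12

open Cfsg Cfsg.Agent.Lib.Lead Cfsg.Agent.Lib.Lead.BG10 Cfsg.Agent.Lib.Helper4 Cfsg.Agent.Lib.Helper7
open Cfsg.Agent.Lib.Helper4.BG7 Cfsg.Agent.Lib.Helper4.BG76 Cfsg.Agent.Lib.Helper4.BG8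
open Cfsg.Agent.Lib.Helper4.BG9
open Cfsg.Agent.Lib.Helper4.ThreeStep Cfsg.Agent.Lib.Helper4.BG12 Cfsg.Agent.Lib.Helper2.BG11
open Cfsg.Agent.Lib.Lead.BG11
open scoped commutatorElement

universe u

variable {G : Type u} [Group G] [Finite G]

/-- hypothesis (H) of Theorem 12.12 -/
def Hyp (M E : Subgroup G) : Prop :=
  ∀ e ∈ E, e ≠ 1 → (∀ q : ℕ, q.Prime → q ∣ orderOf e → q ∈ tau1 M ∪ tau3 M) → Reg M e

/-- every `p'`-element of `N_G(S)` centralizes `S` or acts fixed-point-freely on it -/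
def SemiReg (S : Subgroup G) (p : ℕ) : Prop :=
  ∀ n ∈ Subgroup.normalizer (S : Set G), (orderOf n).Coprime p →
    S ≤ Subgroup.centralizer ({n} : Set G) ∨ S ⊓ Subgroup.centralizer ({n} : Set G) = ⊥

theorem le_centralizer_singleton_iff {S : Subgroup G} {n : G} :
    S ≤ Subgroup.centralizer ({n} : Set G) ↔ n ∈ Subgroup.centralizer (S : Set G) := by
  constructor
  · intro h
    rw [Subgroup.mem_centralizer_iff]
    intro s hs
    exact Subgroup.mem_centralizer_singleton_iff.mp (h hs)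
  · intro h s hs
    rw [Subgroup.mem_centralizer_singleton_iff]
    exact Subgroup.mem_centralizer_iff.mp h s hs

/-- in a cyclic `r`-group `⟨ρ⟩` of order `r ^ (k + 1)` the elements of order dividing `r` lie in
`⟨ρ ^ r ^ k⟩` -/
theorem mem_zpowers_pow_of_pow_eq_one {r k : ℕ} [hr : Fact r.Prime] {ρ b : G}
    (hρ : orderOf ρ = r ^ (k + 1)) (hb : b ∈ Subgroup.zpowers ρ) (hbr : b ^ r = 1) :
    b ∈ Subgroup.zpowers (ρ ^ r ^ k) := by
  obtain ⟨m, rfl⟩ := Subgroup.mem_zpowers_iff.mp hb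
  have h1 : ρ ^ (m * (r : ℤ)) = 1 := by
    rw [zpow_mul, zpow_natCast]
    exact hbr
  have h2 : ((orderOf ρ : ℕ) : ℤ) ∣ m * (r : ℤ) := orderOf_dvd_iff_zpow_eq_one.mpr h1
  rw [hρ, pow_succ] at h2
  push_cast at h2
  have hr0 : (r : ℤ) ≠ 0 := by exact_mod_cast hr.out.ne_zero
  obtain ⟨t, ht⟩ := (mul_dvd_mul_iff_right hr0).mp h2
  rw [Subgroup.mem_zpowers_iff]
  refine ⟨t, ?_⟩
  rw [← zpow_natCast, ← zpow_mul, ht]
  push_cast
  rfl

namespace CA

variable {M E A S : Subgroup G} {p : ℕ} [hp : Fact p.Prime]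

theorem ne_of_tau13 (c : CA M E p A S) {r : ℕ} (hrτ : r ∈ tau1 M ∪ tau3 M) : r ≠ p := by
  rintro rfl
  rcases hrτ with h | h
  · exact c.hpτ.2.2.2 h.2.2.2.2
  · exact c.hpτ.2.2.2 h.2.2.2

theorem sigmaCore_inf_centralizer (c : CA M E p A S) :
    sigmaCore M ⊓ Subgroup.centralizer (S : Set G) = ⊥ := by
  have h := (theorem_12_5 c.hG c.hM c.hpτ (c.hAE.trans c.hE.1) c.hA c.hAc).2.2.2.1
  rw [eq_bot_iff, ← h]
  exact inf_le_inf_left _ (Subgroup.centralizer_le c.hAS)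

/-- elements of `E` of prime order `r ∈ τ₁(M) ∪ τ₃(M)` centralize `S` in the semiregular case -/
theorem prime_order_centralizes (c : CA M E p A S) (hH : Hyp M E) (hβ : SemiReg S p)
    {r : ℕ} [hr : Fact r.Prime] (hrτ : r ∈ tau1 M ∪ tau3 M) {ℓ : G} (hℓE : ℓ ∈ E)
    (hℓ : orderOf ℓ = r) : ℓ ∈ Subgroup.centralizer (S : Set G) := by
  rw [← le_centralizer_singleton_iff]
  by_contra hne
  have hG := c.hG
  have hrp : r ≠ p := c.ne_of_tau13 hrτ
  have hcop : (orderOf ℓ).Coprime p := by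
    rw [hℓ]; exact (Nat.coprime_primes hr.out hp.out).mpr hrp
  have hℓN : ℓ ∈ Subgroup.normalizer (S : Set G) := c.le_normalizer_S hℓE
  have hℓ1 : ℓ ≠ 1 := by
    intro h
    rw [h, orderOf_one] at hℓ
    exact hr.out.one_lt.ne hℓ
  rcases hβ ℓ hℓN hcop with h | h
  · exact hne h
  set Z := Subgroup.zpowers ℓ with hZ
  have hZE : Z ≤ E := Subgroup.zpowers_le.mpr hℓE
  have hZN : Z ≤ Subgroup.normalizer (S : Set G) := Subgroup.zpowers_le.mpr hℓN
  have hUZE : S ⊔ Z ≤ E := sup_le c.hS.1 hZE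
  haveI : Group.IsSolvable ↥M := solvable_of_ne_top hG c.hM.1
  have hsolv : Group.IsSolvable ↥(sigmaCore M) := isSolvable_of_le (sigmaCore_le M)
  have hcopH : (Nat.card (sigmaCore M)).Coprime (Nat.card ↥(S ⊔ Z)) :=
    (Nat.Coprime.coprime_dvd_left (Subgroup.card_dvd_of_le hUZE)
      (coprime_card_compl_sigmaCore hG c.hM c.hE)).symm
  have heq := FF.s1545 S Z (sigmaCore M)
    (fun e he u hu => (Subgroup.mem_normalizer_iff.mp (hZN he) u).mp hu)
    (by
      intro e he he1 u hu heu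
      have hℓe : ℓ ∈ Subgroup.zpowers e := BGAux.mem_zpowers_of_prime_order hℓ he he1
      obtain ⟨m, hm⟩ := Subgroup.mem_zpowers_iff.mp hℓe
      have hc : Commute e u := heu
      have h2 : u ∈ S ⊓ Subgroup.centralizer ({ℓ} : Set G) := by
        rw [Subgroup.mem_inf, Subgroup.mem_centralizer_singleton_iff]
        refine ⟨hu, ?_⟩
        rw [← hm]
        exact ((hc.zpow_left m).eq).symm
      rw [h, Subgroup.mem_bot] at h2
      exact h2)
    (fun x hx h hh => (Subgroup.mem_normalizer_iff.mp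
      (le_normalizer_sigmaCore M (c.hE.1 (hUZE hx))) h).mp hh)
    hsolv hcopH
  have hReg : sigmaCore M ⊓ Subgroup.centralizer (Z : Set G) = ⊥ := by
    rw [hZ, centralizer_zpowers]
    apply hH ℓ hℓE hℓ1
    intro q hq hqd
    rw [hℓ] at hqd
    rw [(Nat.prime_dvd_prime_iff_eq hq hr.out).mp hqd]
    exact hrτ
  rw [hReg, c.sigmaCore_inf_centralizer, Subgroup.card_bot, one_pow, one_mul] at heq
  have h1 : Nat.card (sigmaCore M) = 1 := Nat.eq_one_of_mul_eq_one_left heq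
  exact sigmaCore_ne_bot hG c.hM (Subgroup.card_eq_one.mp h1)

end CA

end Cfsg.Agent.Lib.Helper2.BG12
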