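import Mathlib
import Cfsg.Agent.Lib.Helper2.BG12s

set_option autoImplicit false

/-!
# Bender–Glauberman 12.12(b): the cases `r ∉ σ(L)` (using 13.3 and 12.5 for `L`)
-/

namespace Cfsg.Agent.Lib.Helper2.BG12

open Cfsg Cfsg.Agent.Lib.Lead Cfsg.Agent.Lib.Lead.BG10 Cfsg.Agent.Lib.Helper4 Cfsg.Agent.Lib.Helper7
open Cfsg.Agent.Lib.Helper4.BG7 Cfsg.Agent.Lib.Helper4.BG76 Cfsg.Agent.Lib.Helper4.BG8
open Cfsg.Agent.Lib.Helper4.BG9
open Cfsg.Agent.Lib.Helper4.ThreeStep Cfsg.Agent.Lib.Helper4.BG12 Cfsg.Agent.Lib.Helper2.BG11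
open Cfsg.Agent.Lib.Lead.BG11
open scoped commutatorElement

universe u

variable {G : Type u} [Group G] [Finite G]

namespace CAL

variable {M E A S L : Subgroup G} {p : ℕ} [hp : Fact p.Prime]

/-- case (ii): `r ∉ σ(L)` and `L` has `r`-rank one -/
theorem centralizes_of_rank_one (d : CAL M E p A S L) {r : ℕ} [hr : Fact r.Prime]
    (hrσ : r ∉ Cfsg.sigma L) (hr1 : PRankLE r 1 ↥L) {R : Subgroup G} (hRE : R ≤ E)
    (hRr : IsPGroup r R) {ℓ ρ : G} (hℓR : ℓ ∈ R) (hℓ1 : ℓ ≠ 1)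
    (hℓC : ℓ ∈ Subgroup.centralizer (S : Set G)) (hρR : ρ ∈ R) :
    ρ ∈ Subgroup.centralizer (S : Set G) := by
  have hG := d.hG
  have hRL : R ≤ L := hRE.trans d.E_le
  have hrσc : ¬ r ∣ Nat.card (sigmaCore L) := fun hd =>
    hrσ ((sigmaCore_hall hG d.hL).1.2.1 r hr.out hd)
  have hRcop : (Nat.card R).Coprime (Nat.card (sigmaCore L)) := by
    obtain ⟨j, hj⟩ := IsPGroup.iff_card.mp hRr
    rw [hj]
    exact Nat.Coprime.pow_left j ((Nat.Prime.coprime_iff_not_dvd hr.out).mpr hrσc)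
  obtain ⟨E₁, hE₁, hRE₁⟩ := BG13.exists_complIn_ge hG d.hL hRL hRcop
  have hR' : IsPGroup r ↥(R.subgroupOf E₁) := hRr.comap_subtype
  obtain ⟨Q, hQ⟩ := hR'.exists_le_sylow
  set Qg : Subgroup G := (Q : Subgroup ↥E₁).map E₁.subtype with hQg
  have hmem : ∀ y ∈ R, y ∈ Qg := fun y hy =>
    ⟨⟨y, hRE₁ hy⟩, hQ (Subgroup.mem_subgroupOf.mpr hy), rfl⟩
  have hQ1 : (Q : Subgroup ↥E₁) ≠ ⊥ := by
    intro h
    have h1 : (⟨ℓ, hRE₁ hℓR⟩ : ↥E₁) ∈ (Q : Subgroup ↥E₁) := hQ (Subgroup.mem_subgroupOf.mpr hℓR)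
    rw [h, Subgroup.mem_bot] at h1
    exact hℓ1 (congrArg Subtype.val h1)
  have hQgL : Qg ≤ L := (Subgroup.map_subtype_le _).trans hE₁.1
  have hQgr : IsPGroup r Qg := Q.isPGroup'.map _
  obtain ⟨T, hQT, hT⟩ := exists_sylIn_ge hQgL hQgr
  obtain ⟨T', hT'⟩ := SylIn.exists_sylow hT
  have hT'c : IsCyclic ↥(T' : Subgroup ↥L) :=
    isCyclic_sylow_of_pRankLE_one (odd_card_sub hG L) hr1 T'
  have hTc : IsCyclic ↥T := by
    rw [← hT']
    exact isCyclic_of_surjective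
      ((T' : Subgroup ↥L).equivMapOfInjective L.subtype L.subtype_injective)
      ((T' : Subgroup ↥L).equivMapOfInjective L.subtype L.subtype_injective).surjective
  have hQgc : IsCyclic ↥Qg := isCyclic_of_le_cyclic hQT hTc
  have hQc : IsCyclic ↥(Q : Subgroup ↥E₁) :=
    isCyclic_of_surjective
      ((Q : Subgroup ↥E₁).equivMapOfInjective E₁.subtype E₁.subtype_injective).symm
      ((Q : Subgroup ↥E₁).equivMapOfInjective E₁.subtype E₁.subtype_injective).symm.surjective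
  have h1427 := Cfsg.Agent.S1427.result hG L d.hL E₁ hE₁ r Q hQ1 hQc ℓ (hmem ℓ hℓR) hℓ1
  have hS : S ≤ sigmaCore L ⊓ Subgroup.centralizer ({ℓ} : Set G) :=
    le_inf d.S_le_sigmaCore (le_centralizer_singleton_iff.mpr hℓC)
  rw [h1427] at hS
  rw [Subgroup.mem_centralizer_iff]
  intro s hs
  exact (Subgroup.mem_centralizer_iff.mp (hS hs).2 ρ (hmem ρ hρR)).symm

end CAL

end Cfsg.Agent.Lib.Helper2.BG12
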