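import Mathlib
import Cfsg.Agent.Lib.Helper2.BG12t

set_option autoImplicit false

/-!
# Bender–Glauberman 12.12(b): the case `r ∈ τ₂(L)`
-/

namespace Cfsg.Agent.Lib.Helper2.BG12

open Cfsg Cfsg.Agent.Lib.Lead Cfsg.Agent.Lib.Lead.BG10 Cfsg.Agent.Lib.Helper4 Cfsg.Agent.Lib.Helper7
open Cfsg.Agent.Lib.Helper4.BG7 Cfsg.Agent.Lib.Helper4.BG76 Cfsg.Agent.Lib.Helper4.BG8
open Cfsg.Agent.Lib.Helper4.BG9
open Cfsg.Agent.Lib.Helper4.ThreeStep Cfsg.Agent.Lib.Helper4.BG12 Cfsg.Agent.Lib.Helper2.BG11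
open Cfsg.Agent.Lib.Lead.BG11
open scoped commutatorElement

universe u

variable {G : Type u} [Group G] [Finite G]

theorem orderOf_eq_prime_of_pow {r : ℕ} [hr : Fact r.Prime] {b : G} (hb1 : b ≠ 1)
    (hbr : b ^ r = 1) : orderOf b = r := by
  rcases (Nat.dvd_prime hr.out).mp (orderOf_dvd_of_pow_eq_one hbr) with h | h
  · exact absurd (orderOf_eq_one_iff.mp h) hb1
  · exact h

namespace CAL

variable {M E A S L : Subgroup G} {p : ℕ} [hp : Fact p.Prime]

/-- case (iii): `r ∈ τ₂(L)` -/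
theorem false_of_tau2 (d : CAL M E p A S L) (hβ : SemiReg S p) {r : ℕ} [hr : Fact r.Prime]
    (hrp : r ≠ p) (hrσ : r ∉ Cfsg.sigma L) (hr1 : ¬ PRankLE r 1 ↥L)
    {R : Subgroup G} (hR : SylIn r E R) {ρ : G} {k : ℕ} (hρ : orderOf ρ = r ^ (k + 1))
    (hRz : ∀ y ∈ R, y ∈ Subgroup.zpowers ρ) (hρR : ρ ∈ R)
    (hℓC : ρ ^ r ^ k ∈ Subgroup.centralizer (S : Set G))
    {x : G} (hxR : x ∈ R) (hxC : x ∉ Subgroup.centralizer (S : Set G))
    (hxr : x ^ r ∈ Subgroup.centralizer (S : Set G)) : False := by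
  have hG := d.hG
  have hEN : E ≤ Subgroup.normalizer (S : Set G) := d.toCA.le_normalizer_S
  obtain ⟨Rs, hRRs, hRs⟩ := exists_sylIn_ge (hR.1.trans hEN) hR.2.1
  have hRsL : SylIn r L Rs := d.sylIn_of_sylIn_normalizer hrσ hRs
  have hr2 : PRankLE r 2 ↥L := by
    by_contra h
    exact hrσ (alpha_subset_sigma hG d.hL ⟨hr.out, h⟩)
  have hrτL : r ∈ tau2 L := ⟨hr.out, hrσ, hr2, hr1⟩
  have hRs1 : ¬ PRankLE r 1 ↥Rs := fun h => hr1 (prankLE_of_sylIn hRsL h)
  obtain ⟨As, hAsR, hAs, hAscard⟩ := exists_elementary_of_not_pRankLE hRs1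
  have hAsL : As ≤ L := hAsR.trans hRsL.1
  have hAsc : Nat.card As = r ^ 2 := card_eq_sq hAs hAscard
    (fun h => not_pRankLE_of_elementary hAsL hAs h hr2)
  have dT' : T2 L r As := ⟨d.hL, hrσ, hAsL, hAs, hAsc⟩
  have hRsc := comm_of_isMulCommutative (dT'.abelian hG hRsL)
  set ℓ := ρ ^ r ^ k with hℓ
  have hℓR : ℓ ∈ R := R.pow_mem hρR _
  have hℓr : ℓ ^ r = 1 := by rw [hℓ, ← pow_mul, ← pow_succ, ← hρ, pow_orderOf_eq_one]
  have hℓ1 : ℓ ≠ 1 := by
    apply pow_ne_one_of_lt_orderOf (pow_pos hr.out.pos k).ne'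
    rw [hρ]
    exact Nat.pow_lt_pow_right hr.out.one_lt (Nat.lt_succ_self k)
  have hℓAs : ℓ ∈ As := dT'.mem_of_mem_sylow hG hRsL hAsR (hRRs hℓR) hℓr
  have hℓo : orderOf ℓ = r := orderOf_eq_prime_of_pow hℓ1 hℓr
  -- an element of `A*` outside `⟨ℓ⟩`
  obtain ⟨b, hbAs, hbℓ⟩ : ∃ b ∈ As, b ∉ Subgroup.zpowers ℓ := by
    by_contra hall
    push Not at hall
    have h1 : Nat.card As ≤ Nat.card (Subgroup.zpowers ℓ) := Subgroup.card_le_of_le hall
    rw [hAsc, Nat.card_zpowers, hℓo] at h1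
    have : r < r ^ 2 := by
      calc r = r ^ 1 := (pow_one r).symm
        _ < r ^ 2 := Nat.pow_lt_pow_right hr.out.one_lt (by norm_num)
    omega
  have hbRs : b ∈ Rs := hAsR hbAs
  have hbN : b ∈ Subgroup.normalizer (S : Set G) := hRs.1 hbRs
  have hbr : b ^ r = 1 := hAs.2 b hbAs
  have hb1 : b ≠ 1 := fun h => hbℓ (h ▸ Subgroup.one_mem _)
  have hbo : orderOf b = r := orderOf_eq_prime_of_pow hb1 hbr
  -- `b` acts fixed-point-freely on `S`
  have hCb : S ⊓ Subgroup.centralizer ({b} : Set G) = ⊥ := by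
    have h125 := (theorem_12_5 hG d.hL hrτL hAsL hAs hAsc).2.2.2.1
    have hsup : Subgroup.zpowers ℓ ⊔ Subgroup.zpowers b = As := by
      apply sup_eq_of_card_prime hAsc (Subgroup.zpowers_le.mpr hℓAs) (Subgroup.zpowers_le.mpr hbAs)
      · rw [Nat.card_zpowers, hℓo]
      · rw [Nat.card_zpowers, hbo]
      · intro h
        apply hbℓ
        rw [h]
        exact Subgroup.mem_zpowers b
    rw [eq_bot_iff]
    intro s hs
    rw [Subgroup.mem_inf] at hs
    have h1 : As ≤ Subgroup.centralizer ({s} : Set G) := by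
      rw [← hsup]
      apply sup_le
      · rw [Subgroup.zpowers_le, Subgroup.mem_centralizer_singleton_iff]
        exact (Subgroup.mem_centralizer_iff.mp hℓC s hs.1).symm
      · rw [Subgroup.zpowers_le, Subgroup.mem_centralizer_singleton_iff]
        exact (Subgroup.mem_centralizer_singleton_iff.mp hs.2).symm
    have h2 : s ∈ sigmaCore L ⊓ Subgroup.centralizer (As : Set G) := by
      rw [Subgroup.mem_inf]
      refine ⟨d.S_le_sigmaCore hs.1, ?_⟩
      rw [Subgroup.mem_centralizer_iff]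
      intro a ha
      exact Subgroup.mem_centralizer_singleton_iff.mp (h1 ha)
    rw [h125] at h2
    exact h2
  -- orders of elements of `Rs` are prime to `p`
  have hcop : ∀ g ∈ Rs, (orderOf g).Coprime p := by
    intro g hg
    obtain ⟨j, hj⟩ := (IsPGroup.iff_orderOf.mp hRs.2.1) ⟨g, hg⟩
    rw [Subgroup.orderOf_mk] at hj
    rw [hj]
    exact Nat.Coprime.pow_left j ((Nat.coprime_primes hr.out hp.out).mpr hrp)
  have hxRs : x ∈ Rs := hRRs hxR
  have hxN : x ∈ Subgroup.normalizer (S : Set G) := hRs.1 hxRs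
  have hfx : S ⊓ Subgroup.centralizer ({x} : Set G) = ⊥ := by
    rcases hβ x hxN (hcop x hxRs) with h | h
    · exact absurd (le_centralizer_singleton_iff.mp h) hxC
    · exact h
  have hex : ∃ j : ℕ, b * x ^ j ∈ Subgroup.centralizer (S : Set G) := by
    by_contra hall
    push Not at hall
    have hf : ∀ j : ℕ, S ⊓ Subgroup.centralizer ({b * x ^ j} : Set G) = ⊥ := by
      intro j
      have hm : b * x ^ j ∈ Rs := Rs.mul_mem hbRs (Rs.pow_mem hxRs j)
      rcases hβ _ (hRs.1 hm) (hcop _ hm) with h | h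
      · exact absurd (le_centralizer_singleton_iff.mp h) (hall j)
      · exact h
    have hrS : (Nat.card S).Coprime r := by
      obtain ⟨j, hj⟩ := IsPGroup.iff_card.mp d.hS.2.1
      rw [hj]
      exact Nat.Coprime.pow_left j ((Nat.coprime_primes hp.out hr.out).mpr hrp.symm)
    have hbrC : b ^ r ∈ Subgroup.centralizer (S : Set G) := by rw [hbr]; exact Subgroup.one_mem _
    exact d.toCA.ne_bot (eq_bot_of_fpf_pair d.toCA.comm' hrS hxN hbN (hRsc x hxRs b hbRs) hxr hbrC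
      hfx hf)
  obtain ⟨j, hj⟩ := hex
  have hyE : b * x ^ j ∈ E :=
    d.toCA.centralizer_le (Subgroup.centralizer_le d.hAS hj)
  have hRsE : Rs ⊓ E = R :=
    eq_of_isPGroup_of_relIndex (le_inf hRRs hR.1) inf_le_right (hRs.2.1.to_le inf_le_left) hR.2.2
  have hyR : b * x ^ j ∈ R := by
    rw [← hRsE, Subgroup.mem_inf]
    exact ⟨Rs.mul_mem hbRs (Rs.pow_mem hxRs j), hyE⟩
  have hbR : b ∈ R := by
    have : b = (b * x ^ j) * (x ^ j)⁻¹ := by group
    rw [this]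
    exact R.mul_mem hyR (R.inv_mem (R.pow_mem hxR j))
  exact hbℓ (mem_zpowers_pow_of_pow_eq_one hρ (hRz b hbR) hbr)

end CAL

end Cfsg.Agent.Lib.Helper2.BG12
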