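import Mathlib
import Cfsg.Agent.Lib.Helper2.BG12u

set_option autoImplicit false

/-!
# Bender–Glauberman 12.12(b): in the semiregular case `E` centralizes `S`
-/

namespace Cfsg.Agent.Lib.Helper2.BG12

open Cfsg Cfsg.Agent.Lib.Lead Cfsg.Agent.Lib.Lead.BG10 Cfsg.Agent.Lib.Helper4 Cfsg.Agent.Lib.Helper7
open Cfsg.Agent.Lib.Helper4.BG7 Cfsg.Agent.Lib.Helper4.BG76 Cfsg.Agent.Lib.Helper4.BG8
open Cfsg.Agent.Lib.Helper4.BG9
open Cfsg.Agent.Lib.Helper4.ThreeStep Cfsg.Agent.Lib.Helper4.BG12 Cfsg.Agent.Lib.Helper2.BG11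
open Cfsg.Agent.Lib.Lead.BG11
open scoped commutatorElement

universe u

variable {G : Type u} [Group G] [Finite G]

theorem isCyclic_of_sylIn_rank_one (hG : IsMinSimpleOddOrder G) {L T : Subgroup G} {r : ℕ}
    [hr : Fact r.Prime] (hT : SylIn r L T) (hr1 : PRankLE r 1 ↥L) : IsCyclic ↥T := by
  obtain ⟨T', hT'⟩ := SylIn.exists_sylow hT
  have hT'c : IsCyclic ↥(T' : Subgroup ↥L) :=
    isCyclic_sylow_of_pRankLE_one (odd_card_sub hG L) hr1 T'
  rw [← hT']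
  exact isCyclic_of_surjective
    ((T' : Subgroup ↥L).equivMapOfInjective L.subtype L.subtype_injective)
    ((T' : Subgroup ↥L).equivMapOfInjective L.subtype L.subtype_injective).surjective

theorem tau_cases (hG : IsMinSimpleOddOrder G) {M : Subgroup G} (hM : IsCoatom M) {r : ℕ}
    (hr : r.Prime) (hrσ : r ∉ sigma M) (hrM : r ∣ Nat.card M) :
    r ∈ tau2 M ∨ r ∈ tau1 M ∪ tau3 M := by
  have hr2 : PRankLE r 2 ↥M := by
    by_contra h
    exact hrσ (alpha_subset_sigma hG hM ⟨hr, h⟩)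
  by_cases hr1 : PRankLE r 1 ↥M
  · right
    by_cases hd : r ∣ Nat.card ↥⁅M, M⁆
    · exact Or.inr ⟨hr, hrσ, hd, hr1⟩
    · exact Or.inl ⟨hr, hrσ, hrM, hd, hr1⟩
  · exact Or.inl ⟨hr, hrσ, hr2, hr1⟩

namespace CA

variable {M E A S : Subgroup G} {p : ℕ} [hp : Fact p.Prime]

/-- cyclic Sylow `r`-subgroups of `E`, `r ∈ τ₁(M) ∪ τ₃(M)`, centralize `S` in the semiregular
case -/
theorem cyclic_centralizes (c : CA M E p A S) (hH : Hyp M E) (hβ : SemiReg S p)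
    {r : ℕ} [hr : Fact r.Prime] (hrτ : r ∈ tau1 M ∪ tau3 M) {R : Subgroup G}
    (hR : SylIn r E R) (hRc : IsCyclic ↥R) : R ≤ Subgroup.centralizer (S : Set G) := by
  obtain ⟨⟨ρ, hρR⟩, hgen⟩ := hRc.exists_generator
  have hRz : ∀ y ∈ R, y ∈ Subgroup.zpowers ρ := by
    intro y hy
    obtain ⟨m, hm⟩ := Subgroup.mem_zpowers_iff.mp (hgen ⟨y, hy⟩)
    rw [Subgroup.mem_zpowers_iff]
    refine ⟨m, ?_⟩
    have := congrArg Subtype.val hm
    simpa using this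
  by_cases hρC : ρ ∈ Subgroup.centralizer (S : Set G)
  · intro y hy
    obtain ⟨m, rfl⟩ := Subgroup.mem_zpowers_iff.mp (hRz y hy)
    exact Subgroup.zpow_mem _ hρC m
  exfalso
  obtain ⟨k', hk'⟩ := (IsPGroup.iff_orderOf.mp hR.2.1) ⟨ρ, hρR⟩
  rw [Subgroup.orderOf_mk] at hk'
  have hρ1 : ρ ≠ 1 := fun h => hρC (h ▸ Subgroup.one_mem _)
  obtain ⟨k, rfl⟩ : ∃ k, k' = k + 1 := by
    cases k' with
    | zero =>
      rw [pow_zero, orderOf_eq_one_iff] at hk'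
      exact absurd hk' hρ1
    | succ k => exact ⟨k, rfl⟩
  have hrp : r ≠ p := c.ne_of_tau13 hrτ
  have hℓr : (ρ ^ r ^ k) ^ r = 1 := by
    rw [← pow_mul, ← pow_succ, ← hk', pow_orderOf_eq_one]
  have hℓ1 : ρ ^ r ^ k ≠ 1 := by
    apply pow_ne_one_of_lt_orderOf (pow_pos hr.out.pos k).ne'
    rw [hk']
    exact Nat.pow_lt_pow_right hr.out.one_lt (Nat.lt_succ_self k)
  have hℓo : orderOf (ρ ^ r ^ k) = r := orderOf_eq_prime_of_pow hℓ1 hℓr
  have hℓC : ρ ^ r ^ k ∈ Subgroup.centralizer (S : Set G) :=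
    c.prime_order_centralizes hH hβ hrτ (hR.1 (R.pow_mem hρR _)) hℓo
  have hex : ∃ j, ρ ^ r ^ j ∈ Subgroup.centralizer (S : Set G) := ⟨k, hℓC⟩
  classical
  have hj₀C := Nat.find_spec hex
  have hj₀pos : Nat.find hex ≠ 0 := by
    intro h
    rw [h, pow_zero, pow_one] at hj₀C
    exact hρC hj₀C
  obtain ⟨i, hi⟩ : ∃ i, Nat.find hex = i + 1 := Nat.exists_eq_succ_of_ne_zero hj₀pos
  have hxC : ρ ^ r ^ i ∉ Subgroup.centralizer (S : Set G) := Nat.find_min hex (by omega)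
  have hxr : (ρ ^ r ^ i) ^ r ∈ Subgroup.centralizer (S : Set G) := by
    rw [← pow_mul, ← pow_succ, ← hi]
    exact hj₀C
  obtain ⟨L, d⟩ := c.exists_cal
  by_cases hrσ : r ∈ Cfsg.sigma L
  · exact hρC (d.le_centralizer_of_sigma hrσ hrp hR.1 hR.2.1 hρR)
  by_cases hr1 : PRankLE r 1 ↥L
  · exact hρC (d.centralizes_of_rank_one hrσ hr1 hR.1 hR.2.1 (R.pow_mem hρR _) hℓ1 hℓC hρR)
  · exact d.false_of_tau2 hβ hrp hrσ hr1 hR hk' hRz hρR hℓC (R.pow_mem hρR _) hxC hxr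

/-- in the semiregular case `E` centralizes `S` -/
theorem le_centralizer_of_semiReg (c : CA M E p A S) (hH : Hyp M E) (hβ : SemiReg S p)
    (hτ : ∀ q : ℕ, [Fact q.Prime] → q ∈ tau2 M → q ≠ p → ∀ R : Subgroup G, SylIn q E R →
      E ≤ Subgroup.normalizer (R : Set G)) :
    E ≤ Subgroup.centralizer (S : Set G) := by
  have hG := c.hG
  apply le_of_forall_sylIn
  intro r hr
  by_cases hrp : r = p
  · subst hrp
    refine ⟨S, c.hS, ?_⟩
    intro s hs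
    rw [Subgroup.mem_centralizer_iff]
    intro t ht
    exact c.comm' t ht s hs
  obtain ⟨R, -, hR⟩ := exists_sylIn_ge (bot_le : (⊥ : Subgroup G) ≤ E) (IsPGroup.of_bot (p := r))
  refine ⟨R, hR, ?_⟩
  by_cases hrE : r ∣ Nat.card E
  swap
  · have hRb : R = ⊥ := by
      obtain ⟨j, hj⟩ := IsPGroup.iff_card.mp hR.2.1
      rcases Nat.eq_zero_or_pos j with h0 | hpos
      · rw [h0, pow_zero] at hj
        exact Subgroup.card_eq_one.mp hj
      · exfalso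
        apply hrE
        exact (dvd_pow_self r hpos.ne').trans (hj ▸ Subgroup.card_dvd_of_le hR.1)
    rw [hRb]
    exact bot_le
  have hrσ : r ∉ sigma M := not_sigma_of_dvd_card_compl hG c.hM c.hE hr.out hrE
  have hrM : r ∣ Nat.card M := hrE.trans (Subgroup.card_dvd_of_le c.hE.1)
  rcases tau_cases hG c.hM hr.out hrσ hrM with h2 | h13
  · have hEN := hτ r h2 hrp R hR
    apply le_centralizer_of_normalize (hR.1.trans c.le_normalizer_S) (c.hS.1.trans hEN)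
    apply Subgroup.inf_eq_bot_of_coprime
    obtain ⟨i, hi⟩ := IsPGroup.iff_card.mp hR.2.1
    obtain ⟨j, hj⟩ := IsPGroup.iff_card.mp c.hS.2.1
    rw [hi, hj]
    exact Nat.Coprime.pow i j ((Nat.coprime_primes hr.out hp.out).mpr hrp)
  · apply c.cyclic_centralizes hH hβ h13 hR
    have hr1 : PRankLE r 1 ↥M := by
      rcases h13 with h | h
      · exact h.2.2.2.2
      · exact h.2.2.2
    exact isCyclic_of_sylIn_rank_one hG (sylIn_of_sylIn_compl hG c.hM c.hE hrσ hR) hr1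

end CA

end Cfsg.Agent.Lib.Helper2.BG12
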