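import Mathlib
import Cfsg.Agent.Lib.Helper2.BG12v

set_option autoImplicit false

/-!
# Bender–Glauberman 12.12(b): the per-prime datum exists when all Sylow `p`-subgroups are abelian
-/

namespace Cfsg.Agent.Lib.Helper2.BG12

open Cfsg Cfsg.Agent.Lib.Lead Cfsg.Agent.Lib.Lead.BG10 Cfsg.Agent.Lib.Helper4 Cfsg.Agent.Lib.Helper7
open Cfsg.Agent.Lib.Helper4.BG7 Cfsg.Agent.Lib.Helper4.BG76 Cfsg.Agent.Lib.Helper4.BG8
open Cfsg.Agent.Lib.Helper4.BG9
open Cfsg.Agent.Lib.Helper4.ThreeStep Cfsg.Agent.Lib.Helper4.BG12 Cfsg.Agent.Lib.Helper2.BG11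
open Cfsg.Agent.Lib.Lead.BG11
open scoped commutatorElement

universe u

variable {G : Type u} [Group G] [Finite G]

/-- the image of the `k`-th power map on an abelian subgroup -/
def powSub (S : Subgroup G) (hc : ∀ a ∈ S, ∀ b ∈ S, a * b = b * a) (k : ℕ) : Subgroup G where
  carrier := {v | ∃ s ∈ S, s ^ k = v}
  one_mem' := ⟨1, S.one_mem, one_pow k⟩
  mul_mem' := by
    rintro _ _ ⟨s, hs, rfl⟩ ⟨t, ht, rfl⟩
    refine ⟨s * t, S.mul_mem hs ht, ?_⟩
    have h : Commute s t := hc s hs t ht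
    exact h.mul_pow k
  inv_mem' := by
    rintro _ ⟨s, hs, rfl⟩
    exact ⟨s⁻¹, S.inv_mem hs, inv_pow s k⟩

theorem mem_powSub {S : Subgroup G} {hc : ∀ a ∈ S, ∀ b ∈ S, a * b = b * a} {k : ℕ} {v : G} :
    v ∈ powSub S hc k ↔ ∃ s ∈ S, s ^ k = v := Iff.rfl

theorem powSub_le {S : Subgroup G} (hc : ∀ a ∈ S, ∀ b ∈ S, a * b = b * a) (k : ℕ) :
    powSub S hc k ≤ S := by
  rintro _ ⟨s, hs, rfl⟩
  exact S.pow_mem hs k

theorem normalizer_le_normalizer_powSub {S : Subgroup G} (hc : ∀ a ∈ S, ∀ b ∈ S, a * b = b * a)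
    (k : ℕ) : Subgroup.normalizer (S : Set G) ≤ Subgroup.normalizer (powSub S hc k : Set G) := by
  apply le_normalizer_of_forall_conj
  rintro n hn _ ⟨s, hs, rfl⟩
  refine ⟨n * s * n⁻¹, (Subgroup.mem_normalizer_iff.mp hn s).mp hs, ?_⟩
  exact conj_pow

namespace CA

variable {M E A S : Subgroup G} {p : ℕ} [hp : Fact p.Prime]

/-- **case β**: `E` centralizes `S` -/
theorem exists_good_of_central (c : CA M E p A S)
    (hEC : E ≤ Subgroup.centralizer (S : Set G)) : ∃ Y : Subgroup G, GoodSub M E S Y := by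
  have hG := c.hG
  have hSp := c.hS.2.1
  obtain ⟨y₀, hy₀S, hmax⟩ := exists_max_order hSp
  obtain ⟨e', he'⟩ := (IsPGroup.iff_orderOf.mp hSp) ⟨y₀, hy₀S⟩
  rw [Subgroup.orderOf_mk] at he'
  have hy₀1 : y₀ ≠ 1 := by
    intro h
    apply c.ne_bot
    rw [eq_bot_iff]
    intro s hs
    have h1 := hmax s hs
    rw [h, orderOf_one, Nat.dvd_one, orderOf_eq_one_iff] at h1
    exact Subgroup.mem_bot.mpr h1
  obtain ⟨e, rfl⟩ : ∃ e, e' = e + 1 := by
    cases e' with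
    | zero =>
      rw [pow_zero, orderOf_eq_one_iff] at he'
      exact absurd he' hy₀1
    | succ k => exact ⟨k, rfl⟩
  have hexp : ∀ s ∈ S, s ^ p ^ (e + 1) = 1 := by
    intro s hs
    rw [← he']
    exact orderOf_dvd_iff_pow_eq_one.mp (hmax s hs)
  set V := powSub S c.comm' (p ^ e) with hV
  have hVS : V ≤ S := powSub_le _ _
  have hVA : V ≤ A := by
    rintro _ ⟨s, hs, rfl⟩
    apply c.mem_of_pow (S.pow_mem hs _)
    rw [← pow_mul, ← pow_succ]
    exact hexp s hs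
  have hy₀e : y₀ ^ p ^ e ≠ 1 := by
    apply pow_ne_one_of_lt_orderOf (pow_pos hp.out.pos e).ne'
    rw [he']
    exact Nat.pow_lt_pow_right hp.out.one_lt (Nat.lt_succ_self e)
  have hNV : Subgroup.normalizer (S : Set G) ≤ Subgroup.normalizer (V : Set G) :=
    normalizer_le_normalizer_powSub _ _
  -- a regular element of `V`
  obtain ⟨a, ha1, haR, y, hyS, hya⟩ :
      ∃ a : G, a ≠ 1 ∧ Reg M a ∧ ∃ y ∈ S, y ^ p ^ e = a := by
    have h1 : Nat.card V ∣ p ^ 2 := by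
      rw [← c.hAc]
      exact Subgroup.card_dvd_of_le hVA
    obtain ⟨j, hj2, hj⟩ := (Nat.dvd_prime_pow hp.out).mp h1
    interval_cases j
    · exfalso
      rw [pow_zero] at hj
      have h2 := Subgroup.card_eq_one.mp hj
      have h3 : y₀ ^ p ^ e ∈ V := ⟨y₀, hy₀S, rfl⟩
      rw [h2, Subgroup.mem_bot] at h3
      exact hy₀e h3
    · rw [pow_one] at hj
      obtain ⟨n₀, hn₀, hn₀M⟩ := c.exists_not_mem
      have hreg := c.regular_of_invariant hVA hj (hNV hn₀) hn₀M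
      have h3 : y₀ ^ p ^ e ∈ V := ⟨y₀, hy₀S, rfl⟩
      exact ⟨y₀ ^ p ^ e, hy₀e, (reg_iff_line hj h3 hy₀e).mpr hreg, y₀, hy₀S, rfl⟩
    · have h2 : V = A := by
        apply Subgroup.eq_of_le_of_card_ge hVA
        rw [hj, c.hAc]
      obtain ⟨A₁, hA₁A, hA₁c, hA₁r⟩ :=
        (theorem_12_5 hG c.hM c.hpτ (c.hAE.trans c.hE.1) c.hA c.hAc).2.2.2.2.2
      have hA₁1 : A₁ ≠ ⊥ := by
        intro h
        rw [h, Subgroup.card_bot] at hA₁c
        exact hp.out.one_lt.ne hA₁c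
      obtain ⟨⟨a, haA₁⟩, ha1⟩ := Subgroup.ne_bot_iff_exists_ne_one.mp hA₁1
      have ha1' : a ≠ 1 := fun h => ha1 (Subtype.ext h)
      have haV : a ∈ V := by rw [h2]; exact hA₁A haA₁
      obtain ⟨y, hyS, hya⟩ := haV
      exact ⟨a, ha1', (reg_iff_line hA₁c haA₁ ha1').mpr hA₁r, y, hyS, hya⟩
  have hyo : orderOf y = p ^ (e + 1) :=
    orderOf_eq_prime_pow (by rw [hya]; exact ha1) (hexp y hyS)
  have hap : a ^ p = 1 := by
    rw [← hya, ← pow_mul, ← pow_succ]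
    exact hexp y hyS
  have hao : orderOf a = p := orderOf_eq_prime_of_pow ha1 hap
  have hYS : Subgroup.zpowers y ≤ S := Subgroup.zpowers_le.mpr hyS
  refine ⟨Subgroup.zpowers y, hYS, ?_, ?_, ?_⟩
  · exact hEC.trans ((Subgroup.centralizer_le hYS).trans (Subgroup.centralizer_le_normalizer _))
  · intro z hz hz1
    obtain ⟨k, hk1, hkp⟩ := exists_pow_order_p (hSp.to_le hYS) hz hz1
    have h1 : z ^ k ∈ Subgroup.zpowers (y ^ p ^ e) :=
      mem_zpowers_pow_of_pow_eq_one hyo (Subgroup.pow_mem _ hz k) hkp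
    rw [hya] at h1
    obtain ⟨m, hm⟩ := Subgroup.mem_zpowers_iff.mp (BGAux.mem_zpowers_of_prime_order hao h1 hk1)
    rw [← hm] at haR
    exact reg_of_pow (reg_of_zpow haR)
  · refine ⟨y, Subgroup.mem_zpowers y, ?_⟩
    intro s hs
    rw [hyo]
    exact hexp s hs

/-- the per-prime datum always exists -/
theorem exists_good (c : CA M E p A S) (hH : Hyp M E)
    (hτ : ∀ q : ℕ, [Fact q.Prime] → q ∈ tau2 M → q ≠ p → ∀ R : Subgroup G, SylIn q E R →
      E ≤ Subgroup.normalizer (R : Set G)) : ∃ Y : Subgroup G, GoodSub M E S Y := by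
  by_cases h : ∃ n ∈ Subgroup.normalizer (S : Set G), (orderOf n).Coprime p ∧
      S ⊓ Subgroup.centralizer ({n} : Set G) ≠ ⊥ ∧ ¬ S ≤ Subgroup.centralizer ({n} : Set G)
  · obtain ⟨n, hn, hcop, h1, h2⟩ := h
    exact c.exists_good_of_mixed hn hcop h1 h2
  · have hβ : SemiReg S p := by
      intro n hn hcop
      by_contra hne
      push Not at hne
      exact h ⟨n, hn, hcop, hne.2, hne.1⟩
    exact c.exists_good_of_central (c.le_centralizer_of_semiReg hH hβ hτ)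

end CA

end Cfsg.Agent.Lib.Helper2.BG12
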