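import Mathlib
import Cfsg.Agent.Lib.Helper2.BG12w

set_option autoImplicit false

/-!
# Bender–Glauberman 12.12: general lemmas for the assembly (exponents, complements)
-/

namespace Cfsg.Agent.Lib.Helper2.BG12

open Cfsg Cfsg.Agent.Lib.Lead Cfsg.Agent.Lib.Lead.BG10 Cfsg.Agent.Lib.Helper4 Cfsg.Agent.Lib.Helper7
open Cfsg.Agent.Lib.Helper4.BG7 Cfsg.Agent.Lib.Helper4.BG76 Cfsg.Agent.Lib.Helper4.BG8
open Cfsg.Agent.Lib.Helper4.BG9
open Cfsg.Agent.Lib.Helper4.ThreeStep Cfsg.Agent.Lib.Helper4.BG12 Cfsg.Agent.Lib.Helper2.BG11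
open Cfsg.Agent.Lib.Lead.BG11
open scoped commutatorElement

universe u

variable {G : Type u} [Group G] [Finite G]

/-- all Sylow `p`-subgroups are abelian if one is -/
theorem sylow_comm_all {p : ℕ} [Fact p.Prime] {P : Sylow p G}
    (h : IsMulCommutative ↥(P : Subgroup G)) (Q : Sylow p G) :
    IsMulCommutative ↥(Q : Subgroup G) := by
  obtain ⟨g, rfl⟩ := MulAction.exists_smul_eq G P Q
  have hc := comm_of_isMulCommutative h
  have hmem : ∀ a ∈ ((g • P : Sylow p G) : Subgroup G), g⁻¹ * a * g ∈ (P : Subgroup G) := by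
    intro a ha
    rw [Sylow.coe_subgroup_smul, Subgroup.mem_pointwise_smul_iff_inv_smul_mem] at ha
    simpa [MulAut.smul_def, MulAut.conj_inv_apply] using ha
  refine ⟨⟨?_⟩⟩
  rintro ⟨a, ha⟩ ⟨b, hb⟩
  apply Subtype.ext
  have h1 := hc _ (hmem a ha) _ (hmem b hb)
  show a * b = b * a
  calc a * b = g * ((g⁻¹ * a * g) * (g⁻¹ * b * g)) * g⁻¹ := by group
    _ = g * ((g⁻¹ * b * g) * (g⁻¹ * a * g)) * g⁻¹ := by rw [h1]
    _ = b * a := by group

theorem orderOf_dvd_exponent_of_mem {E₀ : Subgroup G} {g : G} (hg : g ∈ E₀) :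
    orderOf g ∣ Monoid.exponent ↥E₀ := by
  have h := Monoid.order_dvd_exponent (⟨g, hg⟩ : ↥E₀)
  rwa [Subgroup.orderOf_mk] at h

/-- criterion for a subgroup to have the same exponent -/
theorem exponent_eq_of_forall {E₀ E : Subgroup G} (hle : E₀ ≤ E)
    (h : ∀ r : ℕ, [Fact r.Prime] → ∀ g ∈ E, (∃ t : ℕ, orderOf g = r ^ t) →
      orderOf g ∣ Monoid.exponent ↥E₀) :
    Monoid.exponent ↥E₀ = Monoid.exponent ↥E := by
  apply Nat.dvd_antisymm
  · apply Monoid.exponent_dvd_of_forall_pow_eq_one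
    rintro ⟨g, hg⟩
    have h1 := Monoid.pow_exponent_eq_one (⟨g, hle hg⟩ : ↥E)
    apply Subtype.ext
    have h2 := congrArg Subtype.val h1
    simpa using h2
  · have hne : Monoid.exponent ↥E ≠ 0 := Monoid.exponent_ne_zero_of_finite
    rw [Nat.dvd_iff_prime_pow_dvd_dvd]
    intro r k hr hrk
    haveI : Fact r.Prime := ⟨hr⟩
    obtain ⟨⟨g, hg⟩, hgo⟩ := hr.exists_orderOf_eq_pow_factorization_exponent ↥E
    rw [Subgroup.orderOf_mk] at hgo
    have h1 := h r g hg ⟨_, hgo⟩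
    have h2 : k ≤ (Monoid.exponent ↥E).factorization r :=
      (hr.pow_dvd_iff_le_factorization hne).mp hrk
    rw [hgo] at h1
    exact (pow_dvd_pow r h2).trans h1

/-- `r`-elements of `E` are conjugate into a Sylow `r`-subgroup lying in `E₀` -/
theorem orderOf_dvd_exponent_of_sylIn {r : ℕ} [hr : Fact r.Prime] {E₀ E R : Subgroup G}
    (hRE₀ : R ≤ E₀) (hR : SylIn r E R) {g : G} (hg : g ∈ E) (hgo : ∃ t : ℕ, orderOf g = r ^ t) :
    orderOf g ∣ Monoid.exponent ↥E₀ := by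
  have hZ : IsPGroup r (Subgroup.zpowers g) := by
    obtain ⟨t, ht⟩ := hgo
    exact IsPGroup.of_card (n := t) (by rw [Nat.card_zpowers, ht])
  obtain ⟨c, hc, hle⟩ := hR.exists_conj_le (Subgroup.zpowers_le.mpr hg) hZ
  have h0 : c * g * c⁻¹ ∈ cj c (Subgroup.zpowers g) := by
    rw [mem_cj]
    have h00 : c⁻¹ * (c * g * c⁻¹) * c = g := by group
    rw [h00]
    exact Subgroup.mem_zpowers g
  have h1 : c * g * c⁻¹ ∈ E₀ := hRE₀ (hle h0)
  have h2 : orderOf (c * g * c⁻¹) = orderOf g :=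
    orderOf_injective (MulAut.conj c).toMonoidHom (MulAut.conj c).injective g
  rw [← h2]
  exact orderOf_dvd_exponent_of_mem h1

/-- a subgroup of order `p` of an abelian group that contains no nontrivial `p`-th power has a
complement -/
theorem exists_compl_of_not_pow {p : ℕ} [hp : Fact p.Prime] {S X : Subgroup G}
    (hc : ∀ a ∈ S, ∀ b ∈ S, a * b = b * a) (hXS : X ≤ S)
    (hX : ∀ w ∈ S, w ^ p ∈ X → w ^ p = 1) :
    ∃ T : Subgroup G, T ≤ S ∧ T ⊓ X = ⊥ ∧ ∀ s ∈ S, ∃ t ∈ T, ∃ x ∈ X, s = t * x := by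
  classical
  have hC : ∀ a ∈ S, ∀ b ∈ S, Commute a b := hc
  let 𝒯 : Set (Subgroup G) := {T | T ≤ S ∧ powSub S hc p ≤ T ∧ T ⊓ X = ⊥}
  have h0 : powSub S hc p ∈ 𝒯 := by
    refine ⟨powSub_le hc p, le_refl _, ?_⟩
    rw [eq_bot_iff]
    rintro v ⟨⟨w, hw, rfl⟩, hvX⟩
    exact Subgroup.mem_bot.mpr (hX w hw hvX)
  have : Nonempty ↥𝒯 := ⟨⟨_, h0⟩⟩
  obtain ⟨⟨T, hTS, hpT, hTX⟩, hmax⟩ :=
    Finite.exists_max (fun T : ↥𝒯 => Nat.card ((T : Subgroup G)))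
  refine ⟨T, hTS, hTX, ?_⟩
  by_contra hcon
  push Not at hcon
  obtain ⟨u, huS, hu⟩ := hcon
  have huT : u ∉ T := fun h => hu u h 1 X.one_mem (mul_one u).symm
  have hT'S : T ⊔ Subgroup.zpowers u ≤ S := sup_le hTS (Subgroup.zpowers_le.mpr huS)
  have hlt : Nat.card T < Nat.card ↥(T ⊔ Subgroup.zpowers u) := by
    apply lt_of_le_of_ne (Subgroup.card_le_of_le le_sup_left)
    intro heq
    have h1 : T = T ⊔ Subgroup.zpowers u := Subgroup.eq_of_le_of_card_ge le_sup_left heq.ge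
    apply huT
    rw [h1]
    exact (le_sup_right : Subgroup.zpowers u ≤ T ⊔ Subgroup.zpowers u) (Subgroup.mem_zpowers u)
  have hT'X : (T ⊔ Subgroup.zpowers u) ⊓ X ≠ ⊥ := by
    intro h
    have h1 := hmax ⟨T ⊔ Subgroup.zpowers u, hT'S, hpT.trans le_sup_left, h⟩
    simp only at h1
    omega
  obtain ⟨⟨x₀, hx₀⟩, hx₀1⟩ := Subgroup.ne_bot_iff_exists_ne_one.mp hT'X
  have hx₀1' : x₀ ≠ 1 := fun h => hx₀1 (Subtype.ext h)
  rw [Subgroup.mem_inf] at hx₀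
  obtain ⟨t, ht, w, hw, hx₀tw⟩ := HallDirect.exists_mul_of_mem_sup_commute T (Subgroup.zpowers u)
    (fun a ha b hb => hc a (hTS ha) b (Subgroup.zpowers_le.mpr huS hb)) hx₀.1
  obtain ⟨i, rfl⟩ := Subgroup.mem_zpowers_iff.mp hw
  have hupT : u ^ p ∈ T := hpT ⟨u, huS, rfl⟩
  by_cases hpi : (p : ℤ) ∣ i
  · obtain ⟨j, rfl⟩ := hpi
    have h1 : x₀ ∈ T ⊓ X := by
      rw [Subgroup.mem_inf]
      refine ⟨?_, hx₀.2⟩
      rw [hx₀tw]
      apply T.mul_mem ht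
      rw [zpow_mul, zpow_natCast]
      exact T.zpow_mem hupT j
    rw [hTX, Subgroup.mem_bot] at h1
    exact hx₀1' h1
  · have hp' : Prime (p : ℤ) := Nat.prime_iff_prime_int.mp hp.out
    have hcop : IsCoprime (p : ℤ) i := (hp'.coprime_iff_not_dvd).mpr hpi
    obtain ⟨b, a, hab⟩ := hcop
    have hui : u ^ i = t⁻¹ * x₀ := by rw [hx₀tw]; group
    have hx₀S : x₀ ∈ S := hXS hx₀.2
    have htS : t ∈ S := hTS ht
    apply hu ((t⁻¹) ^ a * (u ^ p) ^ b)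
      (T.mul_mem (T.zpow_mem (T.inv_mem ht) a) (T.zpow_mem hupT b)) (x₀ ^ a) (X.zpow_mem hx₀.2 a)
    have h1 : u = (u ^ i) ^ a * (u ^ p) ^ b := by
      calc u = u ^ (1 : ℤ) := (zpow_one u).symm
        _ = u ^ (a * i + b * (p : ℤ)) := by rw [← hab]; ring_nf
        _ = (u ^ i) ^ a * (u ^ p) ^ b := by
          rw [zpow_add, zpow_mul', zpow_mul', zpow_natCast]
    have h2 : (t⁻¹ * x₀) ^ a = (t⁻¹) ^ a * x₀ ^ a := (hC _ (S.inv_mem htS) _ hx₀S).mul_zpow a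
    have h3 : x₀ ^ a * (u ^ p) ^ b = (u ^ p) ^ b * x₀ ^ a :=
      (hC _ (S.zpow_mem hx₀S a) _ (S.zpow_mem (S.pow_mem huS p) b)).eq
    calc u = (u ^ i) ^ a * (u ^ p) ^ b := h1
      _ = (t⁻¹) ^ a * (x₀ ^ a * (u ^ p) ^ b) := by rw [hui, h2, mul_assoc]
      _ = (t⁻¹) ^ a * (u ^ p) ^ b * x₀ ^ a := by rw [h3, mul_assoc]

end Cfsg.Agent.Lib.Helper2.BG12
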