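import Mathlib
import Cfsg.Agent.Lib.Helper2.BG12x

set_option autoImplicit false

/-!
# Bender–Glauberman 12.12: the case where all `τ₂(M)`-Sylow subgroups of `G` are abelian, part (a)
-/

namespace Cfsg.Agent.Lib.Helper2.BG12

open Cfsg Cfsg.Agent.Lib.Lead Cfsg.Agent.Lib.Lead.BG10 Cfsg.Agent.Lib.Helper4 Cfsg.Agent.Lib.Helper7
open Cfsg.Agent.Lib.Helper4.BG7 Cfsg.Agent.Lib.Helper4.BG76 Cfsg.Agent.Lib.Helper4.BG8
open Cfsg.Agent.Lib.Helper4.BG9
open Cfsg.Agent.Lib.Helper4.ThreeStep Cfsg.Agent.Lib.Helper4.BG12 Cfsg.Agent.Lib.Helper2.BG11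
open Cfsg.Agent.Lib.Lead.BG11
open scoped commutatorElement

universe u

variable {G : Type u} [Group G] [Finite G]

/-- the `π`-elements of an abelian subgroup -/
def piPart (F : Subgroup G) (hc : ∀ a ∈ F, ∀ b ∈ F, a * b = b * a) (π : Set ℕ) : Subgroup G where
  carrier := {e | e ∈ F ∧ ∀ r : ℕ, r.Prime → r ∣ orderOf e → r ∈ π}
  one_mem' := ⟨F.one_mem, fun r hr hd => by
    rw [orderOf_one] at hd
    exact absurd (Nat.dvd_one.mp hd) hr.one_lt.ne'⟩
  mul_mem' := by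
    rintro a b ⟨ha, ha'⟩ ⟨hb, hb'⟩
    refine ⟨F.mul_mem ha hb, fun r hr hd => ?_⟩
    have hcm : Commute a b := hc a ha b hb
    have h1 : orderOf (a * b) ∣ Nat.lcm (orderOf a) (orderOf b) := hcm.orderOf_mul_dvd_lcm
    have h2 : r ∣ orderOf a * orderOf b := (hd.trans h1).trans (Nat.lcm_dvd_mul _ _)
    rcases (Nat.Prime.dvd_mul hr).mp h2 with h | h
    · exact ha' r hr h
    · exact hb' r hr h
  inv_mem' := by
    rintro a ⟨ha, ha'⟩
    refine ⟨F.inv_mem ha, fun r hr hd => ?_⟩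
    rw [orderOf_inv] at hd
    exact ha' r hr hd

theorem piPart_le (F : Subgroup G) (hc : ∀ a ∈ F, ∀ b ∈ F, a * b = b * a) (π : Set ℕ) :
    piPart F hc π ≤ F := fun _ h => h.1

theorem le_normalizer_piPart {F N : Subgroup G} (hc : ∀ a ∈ F, ∀ b ∈ F, a * b = b * a)
    (π : Set ℕ) (hN : N ≤ Subgroup.normalizer (F : Set G)) :
    N ≤ Subgroup.normalizer (piPart F hc π : Set G) := by
  apply le_normalizer_of_forall_conj
  rintro n hn e ⟨he, he'⟩
  refine ⟨(Subgroup.mem_normalizer_iff.mp (hN hn) e).mp he, fun r hr hd => ?_⟩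
  have h2 : orderOf (n * e * n⁻¹) = orderOf e :=
    orderOf_injective (MulAut.conj n).toMonoidHom (MulAut.conj n).injective e
  rw [h2] at hd
  exact he' r hr hd

theorem mem_of_dvd_card_piPart {F : Subgroup G} (hc : ∀ a ∈ F, ∀ b ∈ F, a * b = b * a)
    (π : Set ℕ) {r : ℕ} (hr : r.Prime) (hd : r ∣ Nat.card (piPart F hc π)) : r ∈ π := by
  haveI : Fact r.Prime := ⟨hr⟩
  obtain ⟨⟨x, hx⟩, hxo⟩ := exists_prime_orderOf_dvd_card' r hd
  rw [Subgroup.orderOf_mk] at hxo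
  exact hx.2 r hr (by rw [hxo])

theorem le_piPart_of_isPGroup {F S : Subgroup G} (hc : ∀ a ∈ F, ∀ b ∈ F, a * b = b * a)
    {π : Set ℕ} {p : ℕ} [hp : Fact p.Prime] (hpπ : p ∈ π) (hSF : S ≤ F) (hS : IsPGroup p S) :
    S ≤ piPart F hc π := by
  intro s hs
  refine ⟨hSF hs, fun r hr hd => ?_⟩
  obtain ⟨k, hk⟩ := (IsPGroup.iff_orderOf.mp hS) ⟨s, hs⟩
  rw [Subgroup.orderOf_mk] at hk
  rw [hk] at hd
  rw [(Nat.prime_dvd_prime_iff_eq hr hp.out).mp (hr.dvd_of_dvd_pow hd)]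
  exact hpπ

/-- a `CA` datum exists over any Sylow `p`-subgroup of `E` -/
theorem exists_CA (hG : IsMinSimpleOddOrder G) {M E : Subgroup G} (hM : IsCoatom M)
    (hE : IsComplIn E (sigmaCore M) M) {p : ℕ} [hp : Fact p.Prime] (hpτ : p ∈ tau2 M)
    (hab : ∀ P : Sylow p G, IsMulCommutative ↥(P : Subgroup G)) {S : Subgroup G}
    (hS : SylIn p E S) : ∃ A : Subgroup G, CA M E p A S := by
  have hSM : SylIn p M S := sylIn_of_sylIn_compl hG hM hE hpτ.2.1 hS
  have hS1 : ¬ PRankLE p 1 ↥S := fun h => hpτ.2.2.2 (prankLE_of_sylIn hSM h)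
  obtain ⟨A, hAS, hA, hAcard⟩ := exists_elementary_of_not_pRankLE hS1
  have hAM : A ≤ M := hAS.trans hSM.1
  have hAc : Nat.card A = p ^ 2 := card_eq_sq hA hAcard
    (fun h => not_pRankLE_of_elementary hAM hA h hpτ.2.2.1)
  exact ⟨A, ⟨hG, hM, hE, hpτ, hAS.trans hS.1, hA, hAc, hS, hAS, hab⟩⟩

/-- the hypothesis of the abelian case -/
def AbCase (G : Type u) [Group G] (M : Subgroup G) : Prop :=
  ∀ p : ℕ, [Fact p.Prime] → p ∈ tau2 M → ∀ P : Sylow p G, IsMulCommutative ↥(P : Subgroup G)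

theorem AbCase.le_normalizer {M E : Subgroup G} (hab : AbCase G M) (hG : IsMinSimpleOddOrder G)
    (hM : IsCoatom M) (hE : IsComplIn E (sigmaCore M) M) {p : ℕ} [hp : Fact p.Prime]
    (hpτ : p ∈ tau2 M) {S : Subgroup G} (hS : SylIn p E S) :
    E ≤ Subgroup.normalizer (S : Set G) := by
  obtain ⟨A, c⟩ := exists_CA hG hM hE hpτ (hab p hpτ) hS
  exact c.le_normalizer_S

theorem AbCase.exists_good {M E : Subgroup G} (hab : AbCase G M) (hG : IsMinSimpleOddOrder G)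
    (hM : IsCoatom M) (hE : IsComplIn E (sigmaCore M) M) (hH : Hyp M E) {p : ℕ}
    [hp : Fact p.Prime] (hpτ : p ∈ tau2 M) {S : Subgroup G} (hS : SylIn p E S) :
    ∃ Y : Subgroup G, GoodSub M E S Y := by
  obtain ⟨A, c⟩ := exists_CA hG hM hE hpτ (hab p hpτ) hS
  apply c.exists_good hH
  intro q hq hqτ _ R hR
  exact hab.le_normalizer hG hM hE hqτ hR

/-- under (H), an element of prime order of `E` centralizing a nontrivial element of `M_σ` has
order in `τ₂(M)` -/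
theorem mem_tau2_of_centralizes (hG : IsMinSimpleOddOrder G) {M E : Subgroup G} (hM : IsCoatom M)
    (hE : IsComplIn E (sigmaCore M) M) (hH : Hyp M E) {x : G} (hx : x ∈ sigmaCore M)
    (hx1 : x ≠ 1) {z : G} (hzE : z ∈ E) (hzx : z * x = x * z) {r : ℕ} (hr : r.Prime)
    (hzo : orderOf z = r) : r ∈ tau2 M := by
  have hrE : r ∣ Nat.card E := by
    rw [← hzo]
    exact Subgroup.orderOf_dvd_natCard E hzE
  have hrσ : r ∉ sigma M := not_sigma_of_dvd_card_compl hG hM hE hr hrE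
  have hrM : r ∣ Nat.card M := hrE.trans (Subgroup.card_dvd_of_le hE.1)
  rcases tau_cases hG hM hr hrσ hrM with h2 | h13
  · exact h2
  exfalso
  have hz1 : z ≠ 1 := by
    intro h
    rw [h, orderOf_one] at hzo
    exact hr.one_lt.ne hzo
  have hreg : Reg M z := by
    apply hH z hzE hz1
    intro q hq hqd
    rw [hzo] at hqd
    rw [(Nat.prime_dvd_prime_iff_eq hq hr).mp hqd]
    exact h13
  have h1 : x ∈ sigmaCore M ⊓ Subgroup.centralizer ({z} : Set G) := by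
    rw [Subgroup.mem_inf, Subgroup.mem_centralizer_singleton_iff]
    exact ⟨hx, hzx.symm⟩
  rw [hreg, Subgroup.mem_bot] at h1
  exact hx1 h1

/-- the Fitting subgroup of `E` is abelian -/
theorem comm_fittingOf_compl (hG : IsMinSimpleOddOrder G) {M E : Subgroup G} (hM : IsCoatom M)
    (hE : IsComplIn E (sigmaCore M) M) : IsMulCommutative ↥(fittingOf E) := by
  apply isMulCommutative_of_nilpotent_of_sigma' hG hM ((fittingOf_le E).trans hE.1)
    (isNilpotent_fittingOf E)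
  intro q hq hqd
  exact not_sigma_of_dvd_card_compl hG hM hE hq (hqd.trans (Subgroup.card_dvd_of_le (fittingOf_le E)))

/-- **12.12(a)** in the abelian case -/
theorem AbCase.part_a {M E : Subgroup G} (hab : AbCase G M) (hG : IsMinSimpleOddOrder G)
    (hM : IsCoatom M) (hE : IsComplIn E (sigmaCore M) M) (hH : Hyp M E) :
    ∃ A₀ : Subgroup G, A₀ ≤ E ∧ E ≤ Subgroup.normalizer (A₀ : Set G) ∧ IsMulCommutative ↥A₀ ∧
      ∀ x ∈ sigmaCore M, x ≠ 1 → E ⊓ Subgroup.centralizer ({x} : Set G) ≤ A₀ := by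
  refine ⟨fittingOf E, fittingOf_le E, le_normalizer_fittingOf E, comm_fittingOf_compl hG hM hE, ?_⟩
  intro x hx hx1
  apply le_of_forall_sylIn
  intro r hr
  obtain ⟨R, -, hR⟩ := exists_sylIn_ge
    (bot_le : (⊥ : Subgroup G) ≤ E ⊓ Subgroup.centralizer ({x} : Set G)) (IsPGroup.of_bot (p := r))
  refine ⟨R, hR, ?_⟩
  have hRE : R ≤ E := hR.1.trans inf_le_left
  by_cases hrτ : r ∈ tau2 M
  · obtain ⟨S, hRS, hS⟩ := exists_sylIn_ge hRE hR.2.1
    exact hRS.trans ((le_opOf hS.1 (hab.le_normalizer hG hM hE hrτ hS) hS.2.1).trans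
      (opOf_le_fittingOf r E))
  · have hRb : R = ⊥ := by
      by_contra hne
      obtain ⟨⟨e, he⟩, he1⟩ := Subgroup.ne_bot_iff_exists_ne_one.mp hne
      have he1' : e ≠ 1 := fun h => he1 (Subtype.ext h)
      obtain ⟨k, hk1, hkr⟩ := exists_pow_order_p hR.2.1 he he1'
      have hzR : e ^ k ∈ R := R.pow_mem he k
      have hzC := (Subgroup.mem_inf.mp (hR.1 hzR)).2
      exact hrτ (mem_tau2_of_centralizes hG hM hE hH hx hx1 (hRE hzR)
        (Subgroup.mem_centralizer_singleton_iff.mp hzC) hr.out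
        (orderOf_eq_prime_of_pow hk1 hkr))
    rw [hRb]
    exact bot_le

end Cfsg.Agent.Lib.Helper2.BG12
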