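import Mathlib
import Cfsg.Agent.Lib.Helper2.BG12y
import Cfsg.Agent.Lib.Lead.CoprimeTools2

set_option autoImplicit false

/-!
# Bender–Glauberman 12.12: the case where all `τ₂(M)`-Sylow subgroups of `G` are abelian, part (b)
-/

namespace Cfsg.Agent.Lib.Helper2.BG12

open Cfsg Cfsg.Agent.Lib.Lead Cfsg.Agent.Lib.Lead.BG10 Cfsg.Agent.Lib.Helper4 Cfsg.Agent.Lib.Helper7
open Cfsg.Agent.Lib.Helper4.BG7 Cfsg.Agent.Lib.Helper4.BG76 Cfsg.Agent.Lib.Helper4.BG8
open Cfsg.Agent.Lib.Helper4.BG9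
open Cfsg.Agent.Lib.Helper4.ThreeStep Cfsg.Agent.Lib.Helper4.BG12 Cfsg.Agent.Lib.Helper2.BG11
open Cfsg.Agent.Lib.Lead.BG11
open scoped commutatorElement

universe u

variable {G : Type u} [Group G] [Finite G]

theorem dvd_ordCompl_of_coprime {d m q : ℕ} (hdm : d ∣ m) (hcop : Nat.Coprime d q) :
    d ∣ m / q ^ m.factorization q := by
  have h1 : q ^ m.factorization q * (m / q ^ m.factorization q) = m :=
    Nat.ordProj_mul_ordCompl_eq_self m q
  have h2 : d ∣ (m / q ^ m.factorization q) * q ^ m.factorization q := by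
    rw [mul_comm, h1]
    exact hdm
  exact Nat.Coprime.dvd_of_dvd_mul_right (Nat.Coprime.pow_right _ hcop) h2

theorem relIndex_mul_card' {H K : Subgroup G} (h : H ≤ K) :
    H.relIndex K * Nat.card H = Nat.card K := by
  rw [mul_comm, ← Subgroup.relIndex_bot_left, ← Subgroup.relIndex_bot_left,
    Subgroup.relIndex_mul_relIndex ⊥ H K bot_le h]

/-- elements of an abelian subgroup whose parts lie in prescribed subgroups -/
def partSub (F : Subgroup G) (hc : ∀ a ∈ F, ∀ b ∈ F, a * b = b * a) (π : Set ℕ) (n : ℕ → ℕ)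
    (Yf : ℕ → Subgroup G) : Subgroup G where
  carrier := {e | e ∈ F ∧ ∀ p ∈ π, e ^ n p ∈ Yf p}
  one_mem' := ⟨F.one_mem, fun p _ => by
    rw [one_pow]
    exact (Yf p).one_mem⟩
  mul_mem' := by
    rintro a b ⟨ha, ha'⟩ ⟨hb, hb'⟩
    refine ⟨F.mul_mem ha hb, fun p hp => ?_⟩
    have hcm : Commute a b := hc a ha b hb
    rw [hcm.mul_pow]
    exact (Yf p).mul_mem (ha' p hp) (hb' p hp)
  inv_mem' := by
    rintro a ⟨ha, ha'⟩
    refine ⟨F.inv_mem ha, fun p hp => ?_⟩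
    rw [inv_pow]
    exact (Yf p).inv_mem (ha' p hp)

/-- **12.12(b)** in the abelian case -/
theorem AbCase.part_b {M E : Subgroup G} (hab : AbCase G M) (hG : IsMinSimpleOddOrder G)
    (hM : IsCoatom M) (hE : IsComplIn E (sigmaCore M) M) (hH : Hyp M E) :
    ∃ E₀ : Subgroup G, E₀ ≤ E ∧ Monoid.exponent ↥E₀ = Monoid.exponent ↥E ∧
      ∀ e ∈ E₀, e ≠ 1 → Reg M e := by
  classical
  have hex : ∀ p : ℕ, ∃ S Y : Subgroup G, p ∈ tau2 M → SylIn p E S ∧ GoodSub M E S Y := by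
    intro p
    by_cases hpτ : p ∈ tau2 M
    · haveI : Fact p.Prime := ⟨hpτ.1⟩
      obtain ⟨S, -, hS⟩ := exists_sylIn_ge (bot_le : (⊥ : Subgroup G) ≤ E)
        (IsPGroup.of_bot (p := p))
      obtain ⟨Y, hY⟩ := hab.exists_good hG hM hE hH hpτ hS
      exact ⟨S, Y, fun _ => ⟨hS, hY⟩⟩
    · exact ⟨⊥, ⊥, fun h => absurd h hpτ⟩
  choose Sf Yf hSY using hex
  have hcF := comm_of_isMulCommutative (comm_fittingOf_compl hG hM hE)
  set E₂ := piPart (fittingOf E) hcF (tau2 M) with hE₂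
  have hE₂F : E₂ ≤ fittingOf E := piPart_le _ _ _
  have hE₂E : E₂ ≤ E := hE₂F.trans (fittingOf_le E)
  have hEN₂ : E ≤ Subgroup.normalizer (E₂ : Set G) :=
    le_normalizer_piPart hcF _ (le_normalizer_fittingOf E)
  have hcE₂ : ∀ a ∈ E₂, ∀ b ∈ E₂, a * b = b * a := fun a ha b hb =>
    hcF a (hE₂F ha) b (hE₂F hb)
  have hSE₂ : ∀ p, p ∈ tau2 M → Sf p ≤ E₂ := by
    intro p hpτ
    haveI : Fact p.Prime := ⟨hpτ.1⟩
    have hS := (hSY p hpτ).1
    apply le_piPart_of_isPGroup hcF hpτ _ hS.2.1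
    exact (le_opOf hS.1 (hab.le_normalizer hG hM hE hpτ hS) hS.2.1).trans (opOf_le_fittingOf p E)
  have hτE₂ : ∀ r : ℕ, r.Prime → r ∣ Nat.card E₂ → r ∈ tau2 M := fun r hr hd =>
    mem_of_dvd_card_piPart hcF _ hr hd
  have hcop : (E₂.relIndex E).Coprime (Nat.card E₂) := by
    apply Nat.coprime_of_dvd
    intro k hk hk1 hk2
    have hkτ := hτE₂ k hk hk2
    haveI : Fact k.Prime := ⟨hk⟩
    have hS := (hSY k hkτ).1
    apply hS.2.2
    rw [← Subgroup.relIndex_mul_relIndex (Sf k) E₂ E (hSE₂ k hkτ) hE₂E]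
    exact Dvd.dvd.mul_left hk1 _
  obtain ⟨L, hLE, hLc⟩ := sz_exists_internal E₂ E hE₂E hEN₂ (E₂.relIndex E)
    (relIndex_mul_card' hE₂E) hcop
  have hLE₂ : E₂ ⊓ L = ⊥ := Subgroup.inf_eq_bot_of_coprime (by rw [hLc]; exact hcop.symm)
  have hLidx : L.relIndex E = Nat.card E₂ := by
    have h1 := relIndex_mul_card' hLE
    have h2 := relIndex_mul_card' hE₂E
    rw [hLc] at h1
    have hm : 0 < E₂.relIndex E := by
      rcases Nat.eq_zero_or_pos (E₂.relIndex E) with h0 | h0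
      · rw [h0, zero_mul] at h2
        exact absurd h2.symm (Nat.card_pos).ne'
      · exact h0
    exact Nat.eq_of_mul_eq_mul_right hm (h1.trans (h2.symm.trans (mul_comm _ _)))
  set nf : ℕ → ℕ := fun q => Nat.card E / q ^ (Nat.card E).factorization q with hnf
  set Y := partSub E₂ hcE₂ (tau2 M) nf Yf with hY
  have hYE₂ : Y ≤ E₂ := fun _ h => h.1
  have hENY : E ≤ Subgroup.normalizer (Y : Set G) := by
    apply le_normalizer_of_forall_conj
    rintro n hn e ⟨he, he'⟩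
    refine ⟨(Subgroup.mem_normalizer_iff.mp (hEN₂ hn) e).mp he, fun p hpτ => ?_⟩
    rw [conj_pow]
    exact (Subgroup.mem_normalizer_iff.mp ((hSY p hpτ).2.2.1 hn) _).mp (he' p hpτ)
  have hYfY : ∀ p, p ∈ tau2 M → Yf p ≤ Y := by
    intro p hpτ y hy
    haveI : Fact p.Prime := ⟨hpτ.1⟩
    have hyS : y ∈ Sf p := (hSY p hpτ).2.1 hy
    refine ⟨hSE₂ p hpτ hyS, fun q hqτ => ?_⟩
    by_cases hqp : q = p
    · subst hqp
      exact (Yf q).pow_mem hy _
    · have hyE : y ∈ E := (hSY p hpτ).1.1 hyS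
      obtain ⟨j, hj⟩ := (IsPGroup.iff_orderOf.mp (hSY p hpτ).1.2.1) ⟨y, hyS⟩
      rw [Subgroup.orderOf_mk] at hj
      have h1 : orderOf y ∣ nf q := by
        apply dvd_ordCompl_of_coprime (Subgroup.orderOf_dvd_natCard E hyE)
        rw [hj]
        exact Nat.Coprime.pow_left j ((Nat.coprime_primes hpτ.1 hqτ.1).mpr (Ne.symm hqp))
      rw [orderOf_dvd_iff_pow_eq_one.mp h1]
      exact (Yf q).one_mem
  have hE₀E : Y ⊔ L ≤ E := sup_le (hYE₂.trans hE₂E) hLE
  refine ⟨Y ⊔ L, hE₀E, ?_, ?_⟩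
  · apply exponent_eq_of_forall hE₀E
    intro r hr g hg hgo
    by_cases hrτ : r ∈ tau2 M
    · have hS := (hSY r hrτ).1
      have hgS : g ∈ Sf r := by
        refine hS.le_of_normal (hab.le_normalizer hG hM hE hrτ hS) (Subgroup.zpowers_le.mpr hg) ?_
          (Subgroup.mem_zpowers g)
        obtain ⟨t, ht⟩ := hgo
        exact IsPGroup.of_card (n := t) (by rw [Nat.card_zpowers, ht])
      obtain ⟨y, hyY, hys⟩ := (hSY r hrτ).2.2.2.2
      have h1 : orderOf g ∣ orderOf y := orderOf_dvd_of_pow_eq_one (hys g hgS)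
      exact h1.trans (orderOf_dvd_exponent_of_mem ((le_sup_left : Y ≤ Y ⊔ L) (hYfY r hrτ hyY)))
    · obtain ⟨R, -, hR⟩ := exists_sylIn_ge (bot_le : (⊥ : Subgroup G) ≤ L)
        (IsPGroup.of_bot (p := r))
      have hRE : SylIn r E R := by
        refine ⟨hR.1.trans hLE, hR.2.1, ?_⟩
        rw [← Subgroup.relIndex_mul_relIndex R L E hR.1 hLE, hLidx]
        intro hd
        rcases (Nat.Prime.dvd_mul hr.out).mp hd with h | h
        · exact hR.2.2 h
        · exact hrτ (hτE₂ r hr.out h)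
      exact orderOf_dvd_exponent_of_sylIn (hR.1.trans le_sup_right) hRE hg hgo
  · intro e he he1
    have ho1 : orderOf e ≠ 1 := fun h => he1 (orderOf_eq_one_iff.mp h)
    obtain ⟨r, hr, hrd⟩ := Nat.exists_prime_and_dvd ho1
    have ho0 : orderOf e ≠ 0 := (orderOf_pos e).ne'
    have hzo : orderOf (e ^ (orderOf e / r)) = r := orderOf_pow_orderOf_div ho0 hrd
    apply reg_of_pow (k := orderOf e / r)
    set z := e ^ (orderOf e / r) with hz
    have hz1 : z ≠ 1 := by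
      intro h
      rw [h, orderOf_one] at hzo
      exact hr.one_lt.ne hzo
    have hzE₀ : z ∈ Y ⊔ L := Subgroup.pow_mem _ he _
    have hzE : z ∈ E := hE₀E hzE₀
    haveI : Fact r.Prime := ⟨hr⟩
    by_cases hrτ : r ∈ tau2 M
    · have hS := (hSY r hrτ).1
      have hzS : z ∈ Sf r := by
        refine hS.le_of_normal (hab.le_normalizer hG hM hE hrτ hS) (Subgroup.zpowers_le.mpr hzE) ?_
          (Subgroup.mem_zpowers z)
        exact IsPGroup.of_card (n := 1) (by rw [Nat.card_zpowers, hzo, pow_one])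
      have hzE₂ : z ∈ E₂ := hSE₂ r hrτ hzS
      have hzm : z ∈ ((Y ⊔ L : Subgroup G) : Set G) := hzE₀
      rw [Subgroup.coe_mul_of_right_le_normalizer_left Y L (hLE.trans hENY)] at hzm
      obtain ⟨y, hy, l, hl, hyl⟩ := Set.mem_mul.mp hzm
      have hl1 : l ∈ E₂ ⊓ L := by
        rw [Subgroup.mem_inf]
        refine ⟨?_, hl⟩
        have h0 : l = y⁻¹ * z := by rw [← hyl]; group
        rw [h0]
        exact E₂.mul_mem (E₂.inv_mem (hYE₂ hy)) hzE₂
      rw [hLE₂, Subgroup.mem_bot] at hl1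
      have hzY : z ∈ Y := by
        rw [← hyl, hl1, mul_one]
        exact hy
      have h1 : z ^ nf r ∈ Yf r := hzY.2 r hrτ
      have h2 : z ^ nf r ≠ 1 := by
        intro h
        have h3 : orderOf z ∣ nf r := orderOf_dvd_of_pow_eq_one h
        rw [hzo] at h3
        have h4 : Nat.Coprime r (nf r) := Nat.coprime_ordCompl hr (Nat.card_pos).ne'
        exact hr.one_lt.ne' (Nat.Coprime.eq_one_of_dvd h4 h3)
      have h5 : z ∈ Subgroup.zpowers (z ^ nf r) :=
        BGAux.mem_zpowers_of_prime_order hzo (Subgroup.pow_mem _ (Subgroup.mem_zpowers z) _) h2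
      have hzYf : z ∈ Yf r := (Subgroup.zpowers_le.mpr h1) h5
      exact (hSY r hrτ).2.2.2.1 z hzYf hz1
    · have hrE : r ∣ Nat.card E := by
        rw [← hzo]
        exact Subgroup.orderOf_dvd_natCard E hzE
      have hrσ := not_sigma_of_dvd_card_compl hG hM hE hr hrE
      have hrM := hrE.trans (Subgroup.card_dvd_of_le hE.1)
      rcases tau_cases hG hM hr hrσ hrM with h2 | h13
      · exact absurd h2 hrτ
      · apply hH z hzE hz1
        intro q hq hqd
        rw [hzo] at hqd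
        rw [(Nat.prime_dvd_prime_iff_eq hq hr).mp hqd]
        exact h13

end Cfsg.Agent.Lib.Helper2.BG12
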