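import Mathlib
import Cfsg.Agent.Lib.Helper2.BG12z
import Cfsg.Agent.Lib.Helper2.BG12j
import Cfsg.Agent.Lib.Lead.BG11r
import Cfsg.Agent.S0051

set_option autoImplicit false

/-!
# Bender–Glauberman 12.12: the case of a prime of `τ₂(M)` with nonabelian Sylow subgroups in `G`
-/

namespace Cfsg.Agent.Lib.Helper2.BG12

open Cfsg Cfsg.Agent.Lib.Lead Cfsg.Agent.Lib.Lead.BG10 Cfsg.Agent.Lib.Helper4 Cfsg.Agent.Lib.Helper7
open Cfsg.Agent.Lib.Helper4.BG7 Cfsg.Agent.Lib.Helper4.BG76 Cfsg.Agent.Lib.Helper4.BG8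
open Cfsg.Agent.Lib.Helper4.BG9
open Cfsg.Agent.Lib.Helper4.ThreeStep Cfsg.Agent.Lib.Helper4.BG12 Cfsg.Agent.Lib.Helper2.BG11
open Cfsg.Agent.Lib.Lead.BG11
open scoped commutatorElement

universe u

variable {G : Type u} [Group G] [Finite G]

/-- data for a prime of `τ₂(M)` whose Sylow subgroups in `G` are nonabelian -/
structure CN (M E : Subgroup G) (p : ℕ) (A : Subgroup G) : Prop where
  hG : IsMinSimpleOddOrder G
  hM : IsCoatom M
  hE : IsComplIn E (sigmaCore M) M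
  hpτ : p ∈ tau2 M
  hAE : A ≤ E
  hA : IsElementaryAbelian p A
  hAc : Nat.card A = p ^ 2
  hna : ∀ S : Sylow p G, ¬ IsMulCommutative ↥(S : Subgroup G)

/-- `C_A(M_σ)` -/
def cSig (M A : Subgroup G) : Subgroup G := A ⊓ Subgroup.centralizer (sigmaCore M : Set G)

theorem exists_CN (hG : IsMinSimpleOddOrder G) {M E : Subgroup G} (hM : IsCoatom M)
    (hE : IsComplIn E (sigmaCore M) M) {p : ℕ} [hp : Fact p.Prime] (hpτ : p ∈ tau2 M)
    (hna : ∀ S : Sylow p G, ¬ IsMulCommutative ↥(S : Subgroup G)) :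
    ∃ A : Subgroup G, CN M E p A := by
  obtain ⟨S, -, hS⟩ := exists_sylIn_ge (bot_le : (⊥ : Subgroup G) ≤ E) (IsPGroup.of_bot (p := p))
  have hSM : SylIn p M S := sylIn_of_sylIn_compl hG hM hE hpτ.2.1 hS
  have hS1 : ¬ PRankLE p 1 ↥S := fun h => hpτ.2.2.2 (prankLE_of_sylIn hSM h)
  obtain ⟨A, hAS, hA, hAcard⟩ := exists_elementary_of_not_pRankLE hS1
  have hAM : A ≤ M := hAS.trans hSM.1
  have hAc : Nat.card A = p ^ 2 := card_eq_sq hA hAcard
    (fun h => not_pRankLE_of_elementary hAM hA h hpτ.2.2.1)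
  exact ⟨A, ⟨hG, hM, hE, hpτ, hAS.trans hS.1, hA, hAc, hna⟩⟩

namespace CN

variable {M E A : Subgroup G} {p : ℕ} [hp : Fact p.Prime]

theorem dT (c : CN M E p A) : T2 M p A :=
  ⟨c.hM, c.hpτ.2.1, c.hAE.trans c.hE.1, c.hA, c.hAc⟩

theorem tau2_eq (c : CN M E p A) : tau2 M = {p} :=
  (theorem_12_7 c.hG c.hM c.hE c.hpτ c.hna c.hAE c.hA c.hAc).1

theorem card_cSig (c : CN M E p A) : Nat.card ↥(cSig M A) = p :=
  (theorem_12_7 c.hG c.hM c.hE c.hpτ c.hna c.hAE c.hA c.hAc).2.1.1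

theorem reg_of_ne (c : CN M E p A) {X : Subgroup G} (hXE : X ≤ E) (hXc : Nat.card X = p)
    (hne : X ≠ cSig M A) : sigmaCore M ⊓ Subgroup.centralizer (X : Set G) = ⊥ :=
  ((theorem_12_7 c.hG c.hM c.hE c.hpτ c.hna c.hAE c.hA c.hAc).2.2 X hXE hXc hne).1

theorem centralizer_le_of_ne (c : CN M E p A) {X : Subgroup G} (hXA : X ≤ A)
    (hXc : Nat.card X = p) (hne : sigmaCore M ⊓ Subgroup.centralizer (X : Set G) ≠ ⊥) :
    Subgroup.centralizer (X : Set G) ≤ M :=
  ((corollary_12_6 c.hG c.hM c.hE c.hpτ c.hAE c.hA c.hAc).2.2 X hXA hXc hne).1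

theorem cSig_le (c : CN M E p A) : cSig M A ≤ E := inf_le_left.trans c.hAE

theorem le_normalizer_A (c : CN M E p A) : E ≤ Subgroup.normalizer (A : Set G) :=
  (corollary_12_6 c.hG c.hM c.hE c.hpτ c.hAE c.hA c.hAc).1.1

theorem le_normalizer_cSig (c : CN M E p A) :
    E ≤ Subgroup.normalizer (cSig M A : Set G) :=
  le_normalizer_inf_centralizer (c.hE.1.trans (le_normalizer_sigmaCore M)) c.le_normalizer_A

theorem comm_cSig (c : CN M E p A) : IsMulCommutative ↥(cSig M A) := by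
  have hc := comm_of_isMulCommutative c.hA.1
  refine ⟨⟨?_⟩⟩
  rintro ⟨a, ha⟩ ⟨b, hb⟩
  exact Subtype.ext (hc a ha.1 b hb.1)

/-- `C_{M_σ}(A₀) ≠ 1` -/
theorem sigmaCore_inf_centralizer_cSig_ne (c : CN M E p A) :
    sigmaCore M ⊓ Subgroup.centralizer ((cSig M A : Subgroup G) : Set G) ≠ ⊥ := by
  have h1 : sigmaCore M ≤ Subgroup.centralizer ((cSig M A : Subgroup G) : Set G) := by
    rw [Subgroup.le_centralizer_iff]
    exact inf_le_right
  rw [inf_eq_left.mpr h1]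
  exact sigmaCore_ne_bot c.hG c.hM

/-- no `p`-element `w` of `E` has `w ^ p` a nontrivial element of `A₀` -/
theorem pow_eq_one_of_mem_cSig (c : CN M E p A) {w : G} (hwE : w ∈ E)
    (hwp : IsPGroup p (Subgroup.zpowers w)) (hz : w ^ p ∈ cSig M A) : w ^ p = 1 := by
  have hG := c.hG
  have dT := c.dT
  by_contra hz1
  obtain ⟨S', hwS', hS'⟩ := exists_sylIn_ge (Subgroup.zpowers_le.mpr hwE) hwp
  have hAS' : A ≤ S' := hS'.normal_le c.hAE c.le_normalizer_A dT.isPGroup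
  obtain ⟨PS, hPS⟩ := hS'.2.1.exists_le_sylow
  have hAPS : A ≤ (PS : Subgroup G) := hAS'.trans hPS
  obtain ⟨s, hsS, hsp, hsA, hsc⟩ := exists_second_center_elt hG PS (c.hna PS) hAPS c.hA c.hAc
    (fun B hB hAB => dT.max hG hB hAB)
  have hwS : w ∈ (PS : Subgroup G) := hPS (hwS' (Subgroup.mem_zpowers w))
  have hsz : s * w ^ p = w ^ p * s :=
    commute_pow_of_central_comm hsp (hsc w hwS s hsS) (hsc w hwS w hwS)
  have hsC : s ∈ Subgroup.centralizer ({w ^ p} : Set G) := by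
    rw [Subgroup.mem_centralizer_singleton_iff]
    exact hsz
  have hsC₀ := centralizer_singleton_le_of_prime_card c.card_cSig hz hz1 hsC
  have hCM := c.centralizer_le_of_ne inf_le_left c.card_cSig c.sigmaCore_inf_centralizer_cSig_ne
  have hsM : s ∈ M := hCM hsC₀
  have hQp : IsPGroup p ↥((PS : Subgroup G) ⊓ M) := PS.isPGroup'.to_le inf_le_left
  obtain ⟨P'', hQP'', hP''⟩ := exists_sylIn_ge (inf_le_right : (PS : Subgroup G) ⊓ M ≤ M) hQp
  have hAP'' : A ≤ P'' := (le_inf hAPS dT.hAM).trans hQP''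
  exact hsA (dT.sylow_le_centralizer hG hP'' hAP'' (hQP'' (Subgroup.mem_inf.mpr ⟨hsS, hsM⟩)))

/-- a subgroup of order `p` of `E` that does not act regularly on `M_σ` is `A₀` -/
theorem eq_cSig_of_not_reg (c : CN M E p A) {X : Subgroup G} (hXE : X ≤ E)
    (hXc : Nat.card X = p) (hne : sigmaCore M ⊓ Subgroup.centralizer (X : Set G) ≠ ⊥) :
    X = cSig M A := by
  by_contra h
  exact hne (c.reg_of_ne hXE hXc h)

/-- **12.12(a)** in the nonabelian case -/
theorem part_a (c : CN M E p A) (hH : Hyp M E) :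
    ∃ A₀ : Subgroup G, A₀ ≤ E ∧ E ≤ Subgroup.normalizer (A₀ : Set G) ∧ IsMulCommutative ↥A₀ ∧
      ∀ x ∈ sigmaCore M, x ≠ 1 → E ⊓ Subgroup.centralizer ({x} : Set G) ≤ A₀ := by
  have hG := c.hG
  refine ⟨cSig M A, c.cSig_le, c.le_normalizer_cSig, c.comm_cSig, ?_⟩
  intro x hx hx1 w hw
  rw [Subgroup.mem_inf] at hw
  obtain ⟨hwE, hwC⟩ := hw
  by_cases hw1 : w = 1
  · rw [hw1]
    exact Subgroup.one_mem _
  -- every prime-order power of `w` generates `A₀`
  have hkey : ∀ k : ℕ, ∀ r : ℕ, r.Prime → orderOf (w ^ k) = r →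
      r = p ∧ w ^ k ∈ cSig M A := by
    intro k r hr hko
    have hzE : w ^ k ∈ E := E.pow_mem hwE k
    have hzx : w ^ k * x = x * w ^ k := by
      have h1 : Commute w x := Subgroup.mem_centralizer_singleton_iff.mp hwC
      exact (h1.pow_left k).eq
    have hrτ := mem_tau2_of_centralizes hG c.hM c.hE hH hx hx1 hzE hzx hr hko
    rw [c.tau2_eq, Set.mem_singleton_iff] at hrτ
    subst hrτ
    refine ⟨rfl, ?_⟩
    have hXc : Nat.card (Subgroup.zpowers (w ^ k)) = r := by rw [Nat.card_zpowers, hko]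
    have hne : sigmaCore M ⊓ Subgroup.centralizer ((Subgroup.zpowers (w ^ k) : Subgroup G) : Set G)
        ≠ ⊥ := by
      intro h
      have h2 : x ∈ sigmaCore M ⊓
          Subgroup.centralizer ((Subgroup.zpowers (w ^ k) : Subgroup G) : Set G) := by
        rw [Subgroup.mem_inf, centralizer_zpowers, Subgroup.mem_centralizer_singleton_iff]
        exact ⟨hx, hzx.symm⟩
      rw [h, Subgroup.mem_bot] at h2
      exact hx1 h2
    rw [← c.eq_cSig_of_not_reg (Subgroup.zpowers_le.mpr hzE) hXc hne]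
    exact Subgroup.mem_zpowers _
  -- the order of `w` is a power of `p`
  have ho1 : orderOf w ≠ 1 := fun h => hw1 (orderOf_eq_one_iff.mp h)
  have ho0 : orderOf w ≠ 0 := (orderOf_pos w).ne'
  have hwp : IsPGroup p (Subgroup.zpowers w) := by
    rw [IsPGroup.iff_card, Nat.card_zpowers]
    refine ⟨(orderOf w).factorization p, ?_⟩
    apply Nat.eq_pow_of_factorization_eq_single ho0
    ext q
    by_cases hq : q = p
    · subst hq
      simp
    · rw [Finsupp.single_apply, if_neg (Ne.symm hq)]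
      by_contra hne
      have hqp : q.Prime ∧ q ∣ orderOf w := by
        have := Nat.pos_of_ne_zero hne
        exact ⟨Nat.prime_of_mem_primeFactors (Nat.support_factorization _ ▸
          Finsupp.mem_support_iff.mpr hne), Nat.dvd_of_factorization_pos hne⟩
      have h1 := (hkey (orderOf w / q) q hqp.1 (orderOf_pow_orderOf_div ho0 hqp.2)).1
      exact hq h1
  obtain ⟨k', hk'⟩ := (IsPGroup.iff_orderOf.mp hwp) ⟨w, Subgroup.mem_zpowers w⟩
  rw [Subgroup.orderOf_mk] at hk'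
  obtain ⟨k, rfl⟩ : ∃ k, k' = k + 1 := by
    cases k' with
    | zero =>
      rw [pow_zero] at hk'
      exact absurd hk' ho1
    | succ k => exact ⟨k, rfl⟩
  have hzo : orderOf (w ^ p ^ k) = p := by
    have h1 : (w ^ p ^ k) ^ p = 1 := by
      rw [← pow_mul, ← pow_succ, ← hk', pow_orderOf_eq_one]
    have h2 : w ^ p ^ k ≠ 1 := by
      apply pow_ne_one_of_lt_orderOf (pow_pos hp.out.pos k).ne'
      rw [hk']
      exact Nat.pow_lt_pow_right hp.out.one_lt (Nat.lt_succ_self k)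
    exact orderOf_eq_prime_of_pow h2 h1
  have hzA₀ := (hkey (p ^ k) p hp.out hzo).2
  cases k with
  | zero =>
    rw [pow_zero, pow_one] at hzA₀
    exact hzA₀
  | succ j =>
    exfalso
    have h1 : (w ^ p ^ j) ^ p = w ^ p ^ (j + 1) := by rw [← pow_mul, ← pow_succ]
    have h2 : (w ^ p ^ j) ^ p ∈ cSig M A := by rw [h1]; exact hzA₀
    have h3 : IsPGroup p (Subgroup.zpowers (w ^ p ^ j)) :=
      hwp.to_le (Subgroup.zpowers_le.mpr (Subgroup.pow_mem _ (Subgroup.mem_zpowers w) _))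
    have h4 := c.pow_eq_one_of_mem_cSig (E.pow_mem hwE _) h3 h2
    rw [h1] at h4
    rw [h4, orderOf_one] at hzo
    exact hp.out.one_lt.ne hzo

end CN

end Cfsg.Agent.Lib.Helper2.BG12
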