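import Mathlib
import Cfsg.Agent.Lib.Helper2.BG12za

set_option autoImplicit false

/-!
# Bender–Glauberman 12.12(b): the case of a prime of `τ₂(M)` with nonabelian Sylow subgroups
-/

namespace Cfsg.Agent.Lib.Helper2.BG12

open Cfsg Cfsg.Agent.Lib.Lead Cfsg.Agent.Lib.Lead.BG10 Cfsg.Agent.Lib.Helper4 Cfsg.Agent.Lib.Helper7
open Cfsg.Agent.Lib.Helper4.BG7 Cfsg.Agent.Lib.Helper4.BG76 Cfsg.Agent.Lib.Helper4.BG8
open Cfsg.Agent.Lib.Helper4.BG9
open Cfsg.Agent.Lib.Helper4.ThreeStep Cfsg.Agent.Lib.Helper4.BG12 Cfsg.Agent.Lib.Helper2.BG11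
open Cfsg.Agent.Lib.Lead.BG11
open scoped commutatorElement

universe u

variable {G : Type u} [Group G] [Finite G]

namespace CN

variable {M E A : Subgroup G} {p : ℕ} [hp : Fact p.Prime]

/-- `A₀` has a complement in `E` -/
theorem exists_compl (c : CN M E p A) :
    ∃ E₀ : Subgroup G, E₀ ≤ E ∧ (∀ x ∈ E₀, x ∈ cSig M A → x = 1) ∧
      (∀ e ∈ E, ∃ a ∈ cSig M A, ∃ h ∈ E₀, e = a * h) ∧ p * Nat.card E₀ = Nat.card E := by
  have hG := c.hG
  have dT := c.dT
  obtain ⟨S', hAS', hS'⟩ := exists_sylIn_ge c.hAE dT.isPGroup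
  have hS'M : SylIn p M S' := sylIn_of_sylIn_compl hG c.hM c.hE c.hpτ.2.1 hS'
  have hcS' := comm_of_isMulCommutative (dT.abelian hG hS'M)
  have hA₀S' : cSig M A ≤ S' := inf_le_left.trans hAS'
  obtain ⟨T, hTS', hTX, hTdec⟩ := exists_compl_of_not_pow hcS' hA₀S'
    (fun w hw hz => c.pow_eq_one_of_mem_cSig (hS'.1 hw)
      (hS'.2.1.to_le (Subgroup.zpowers_le.mpr hw)) hz)
  haveI hKn : ((cSig M A).subgroupOf E).Normal :=
    Subgroup.normal_subgroupOf_of_le_normalizer c.le_normalizer_cSig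
  haveI hKc : IsMulCommutative ↥((cSig M A).subgroupOf E) := by
    have hc := comm_of_isMulCommutative c.comm_cSig
    refine ⟨⟨?_⟩⟩
    rintro ⟨a, ha⟩ ⟨b, hb⟩
    apply Subtype.ext
    apply Subtype.ext
    exact hc (a : G) (Subgroup.mem_subgroupOf.mp ha) (b : G) (Subgroup.mem_subgroupOf.mp hb)
  have hKU : (cSig M A).subgroupOf E ≤ S'.subgroupOf E := fun x hx =>
    Subgroup.mem_subgroupOf.mpr (hA₀S' (Subgroup.mem_subgroupOf.mp hx))
  have hKcard : Nat.card ↥((cSig M A).subgroupOf E) = p := by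
    rw [card_subgroupOf_of_le c.cSig_le, c.card_cSig]
  have hcop : (Nat.card ↥((cSig M A).subgroupOf E)).Coprime (S'.subgroupOf E).index := by
    rw [hKcard]
    exact (Nat.Prime.coprime_iff_not_dvd hp.out).mpr hS'.2.2
  have hAU : T.subgroupOf E ≤ S'.subgroupOf E := fun x hx =>
    Subgroup.mem_subgroupOf.mpr (hTS' (Subgroup.mem_subgroupOf.mp hx))
  have hAK : T.subgroupOf E ⊓ (cSig M A).subgroupOf E = ⊥ := by
    rw [eq_bot_iff]
    intro x hx
    have h1 : (x : G) ∈ T ⊓ cSig M A :=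
      ⟨Subgroup.mem_subgroupOf.mp hx.1, Subgroup.mem_subgroupOf.mp hx.2⟩
    rw [hTX, Subgroup.mem_bot] at h1
    exact Subgroup.mem_bot.mpr (Subtype.ext h1)
  have hKA : (cSig M A).subgroupOf E ⊔ T.subgroupOf E = S'.subgroupOf E := by
    apply le_antisymm (sup_le hKU hAU)
    intro u hu
    obtain ⟨t, ht, x, hx, hux⟩ := hTdec (u : G) (Subgroup.mem_subgroupOf.mp hu)
    have h1 : u = (⟨x, c.cSig_le hx⟩ : ↥E) * (⟨t, hS'.1 (hTS' ht)⟩ : ↥E) := by
      apply Subtype.ext
      show (u : G) = x * t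
      rw [hux]
      exact hcS' t (hTS' ht) x (hA₀S' hx)
    rw [h1]
    exact Subgroup.mul_mem_sup (Subgroup.mem_subgroupOf.mpr hx) (Subgroup.mem_subgroupOf.mpr ht)
  obtain ⟨H, hH⟩ := Cfsg.Agent.S0051.result ((cSig M A).subgroupOf E) (S'.subgroupOf E) hKU hcop
    (T.subgroupOf E) hAU hAK hKA
  refine ⟨H.map E.subtype, Subgroup.map_subtype_le H, ?_, ?_, ?_⟩
  · rintro _ ⟨h, hh, rfl⟩ hx
    have h1 : h ∈ (cSig M A).subgroupOf E := Subgroup.mem_subgroupOf.mpr hx
    have h2 : h = 1 := Subgroup.disjoint_def.mp hH.disjoint h1 hh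
    rw [h2]
    rfl
  · intro e he
    obtain ⟨⟨⟨k, hk⟩, ⟨h, hh⟩⟩, hkh⟩ := hH.2 (⟨e, he⟩ : ↥E)
    refine ⟨(k : G), Subgroup.mem_subgroupOf.mp hk, (h : G), ⟨h, hh, rfl⟩, ?_⟩
    have h1 := congrArg Subtype.val hkh
    simpa using h1.symm
  · have h1 := hH.card_mul_card
    rw [hKcard] at h1
    rw [Subgroup.card_map_of_injective E.subtype_injective]
    exact h1

/-- **12.12(b)** in the nonabelian case -/
theorem part_b (c : CN M E p A) (hH : Hyp M E) :
    ∃ E₀ : Subgroup G, E₀ ≤ E ∧ Monoid.exponent ↥E₀ = Monoid.exponent ↥E ∧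
      ∀ e ∈ E₀, e ≠ 1 → Reg M e := by
  have hG := c.hG
  have dT := c.dT
  obtain ⟨E₀, hE₀E, hE₀A₀, hdec, hcard⟩ := c.exists_compl
  -- `p` divides the exponent of `E₀`
  have hpE₀ : p ∣ Nat.card E₀ := by
    have h1 : p ^ 2 ∣ Nat.card E := by
      rw [← c.hAc]
      exact Subgroup.card_dvd_of_le c.hAE
    rw [← hcard, pow_two] at h1
    exact Nat.dvd_of_mul_dvd_mul_left hp.out.pos h1
  have hpexp : p ∣ Monoid.exponent ↥E₀ := by
    obtain ⟨x, hxo⟩ := exists_prime_orderOf_dvd_card' p hpE₀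
    rw [← hxo]
    exact Monoid.order_dvd_exponent x
  have hidx : E₀.relIndex E = p := by
    have h1 := relIndex_mul_card' hE₀E
    rw [← hcard] at h1
    exact Nat.eq_of_mul_eq_mul_right Nat.card_pos h1
  refine ⟨E₀, hE₀E, ?_, ?_⟩
  · apply exponent_eq_of_forall hE₀E
    intro r hr g hg hgo
    by_cases hrp : r = p
    · subst hrp
      have hgp : IsPGroup r (Subgroup.zpowers g) := by
        obtain ⟨t, ht⟩ := hgo
        exact IsPGroup.of_card (n := t) (by rw [Nat.card_zpowers, ht])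
      obtain ⟨S'', hgS'', hS''⟩ := exists_sylIn_ge (Subgroup.zpowers_le.mpr hg) hgp
      have hA₀S'' : cSig M A ≤ S'' :=
        hS''.normal_le c.cSig_le c.le_normalizer_cSig (dT.isPGroup.to_le inf_le_left)
      have hcS'' := comm_of_isMulCommutative
        (dT.abelian hG (sylIn_of_sylIn_compl hG c.hM c.hE c.hpτ.2.1 hS''))
      obtain ⟨a, ha, h, hh, hgah⟩ := hdec g hg
      have hgS : g ∈ S'' := hgS'' (Subgroup.mem_zpowers g)
      have hhS : h ∈ S'' := by
        have h0 : h = a⁻¹ * g := by rw [hgah]; group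
        rw [h0]
        exact S''.mul_mem (S''.inv_mem (hA₀S'' ha)) hgS
      have hcm : Commute a h := hcS'' a (hA₀S'' ha) h hhS
      have h1 : orderOf g ∣ Nat.lcm (orderOf a) (orderOf h) := by
        rw [hgah]
        exact hcm.orderOf_mul_dvd_lcm
      apply h1.trans
      apply Nat.lcm_dvd
      · have h2 : orderOf a ∣ r := by
          rw [← c.card_cSig]
          exact Subgroup.orderOf_dvd_natCard _ ha
        exact h2.trans hpexp
      · exact orderOf_dvd_exponent_of_mem hh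
    · obtain ⟨R, -, hR⟩ := exists_sylIn_ge (bot_le : (⊥ : Subgroup G) ≤ E₀)
        (IsPGroup.of_bot (p := r))
      have hRE : SylIn r E R := by
        refine ⟨hR.1.trans hE₀E, hR.2.1, ?_⟩
        rw [← Subgroup.relIndex_mul_relIndex R E₀ E hR.1 hE₀E, hidx]
        intro hd
        rcases (Nat.Prime.dvd_mul hr.out).mp hd with h | h
        · exact hR.2.2 h
        · exact hrp ((Nat.prime_dvd_prime_iff_eq hr.out hp.out).mp h)
      exact orderOf_dvd_exponent_of_sylIn hR.1 hRE hg hgo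
  · intro e he he1
    have ho1 : orderOf e ≠ 1 := fun h => he1 (orderOf_eq_one_iff.mp h)
    obtain ⟨r, hr, hrd⟩ := Nat.exists_prime_and_dvd ho1
    have ho0 : orderOf e ≠ 0 := (orderOf_pos e).ne'
    have hzo : orderOf (e ^ (orderOf e / r)) = r := orderOf_pow_orderOf_div ho0 hrd
    apply reg_of_pow (k := orderOf e / r)
    set z := e ^ (orderOf e / r) with hz
    have hz1 : z ≠ 1 := by
      intro h
      rw [h, orderOf_one] at hzo
      exact hr.one_lt.ne hzo
    have hzE₀ : z ∈ E₀ := Subgroup.pow_mem _ he _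
    have hzE : z ∈ E := hE₀E hzE₀
    by_cases hrp : r = p
    · subst hrp
      have hXc : Nat.card (Subgroup.zpowers z) = r := by rw [Nat.card_zpowers, hzo]
      have hXne : Subgroup.zpowers z ≠ cSig M A := by
        intro h
        apply hz1
        apply hE₀A₀ z hzE₀
        rw [← h]
        exact Subgroup.mem_zpowers z
      have hreg := c.reg_of_ne (Subgroup.zpowers_le.mpr hzE) hXc hXne
      exact (reg_iff_line hXc (Subgroup.mem_zpowers z) hz1).mpr hreg
    · have hrE : r ∣ Nat.card E := by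
        rw [← hzo]
        exact Subgroup.orderOf_dvd_natCard E hzE
      have hrσ := not_sigma_of_dvd_card_compl hG c.hM c.hE hr hrE
      have hrM := hrE.trans (Subgroup.card_dvd_of_le c.hE.1)
      rcases tau_cases hG c.hM hr hrσ hrM with h2 | h13
      · rw [c.tau2_eq, Set.mem_singleton_iff] at h2
        exact absurd h2 hrp
      · apply hH z hzE hz1
        intro q hq hqd
        rw [hzo] at hqd
        rw [(Nat.prime_dvd_prime_iff_eq hq hr).mp hqd]
        exact h13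

end CN

end Cfsg.Agent.Lib.Helper2.BG12
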