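import Mathlib
import Cfsg.Agent.Lib.Helper2.BG12zb

set_option autoImplicit false

/-!
# Bender–Glauberman 12.12 relative to a normal Hall subgroup `U` of `E` (for Theorem I (e), (f))
-/

namespace Cfsg.Agent.Lib.Helper2.BG12

open Cfsg Cfsg.Agent.Lib.Lead Cfsg.Agent.Lib.Lead.BG10 Cfsg.Agent.Lib.Helper4 Cfsg.Agent.Lib.Helper7
open Cfsg.Agent.Lib.Helper4.BG7 Cfsg.Agent.Lib.Helper4.BG76 Cfsg.Agent.Lib.Helper4.BG8
open Cfsg.Agent.Lib.Helper4.BG9
open Cfsg.Agent.Lib.Helper4.ThreeStep Cfsg.Agent.Lib.Helper4.BG12 Cfsg.Agent.Lib.Helper2.BG11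
open Cfsg.Agent.Lib.Lead.BG11
open scoped commutatorElement

universe u

variable {G : Type u} [Group G] [Finite G]

/-- a normal Hall subgroup `U` of `E` containing the `τ₂(M)`-elements and satisfying (H) -/
structure USub (M E U : Subgroup G) : Prop where
  hUE : U ≤ E
  hUn : E ≤ Subgroup.normalizer (U : Set G)
  hHall : ∀ r : ℕ, r.Prime → r ∣ Nat.card U → ¬ r ∣ U.relIndex E
  hτ : ∀ p ∈ tau2 M, ¬ p ∣ U.relIndex E
  hH : Hyp M U

namespace USub

variable {M E U : Subgroup G}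

theorem sylIn_of_not_dvd (u : USub M E U) {r : ℕ} [hr : Fact r.Prime] {R : Subgroup G}
    (hR : SylIn r U R) (hrU : ¬ r ∣ U.relIndex E) : SylIn r E R := by
  refine ⟨hR.1.trans u.hUE, hR.2.1, ?_⟩
  rw [← Subgroup.relIndex_mul_relIndex R U E hR.1 u.hUE]
  intro hd
  rcases (Nat.Prime.dvd_mul hr.out).mp hd with h | h
  · exact hR.2.2 h
  · exact hrU h

theorem sylIn (u : USub M E U) {r : ℕ} [hr : Fact r.Prime] {R : Subgroup G}
    (hR : SylIn r U R) (hrU : r ∣ Nat.card U) : SylIn r E R :=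
  u.sylIn_of_not_dvd hR (u.hHall r hr.out hrU)

theorem sylIn_of_tau2 (u : USub M E U) {p : ℕ} [hp : Fact p.Prime] (hpτ : p ∈ tau2 M)
    {S : Subgroup G} (hS : SylIn p U S) : SylIn p E S :=
  u.sylIn_of_not_dvd hS (u.hτ p hpτ)

/-- Sylow `p`-subgroups of `E`, `p ∤ |E : U|`, lie in `U` -/
theorem le_of_sylIn (u : USub M E U) {p : ℕ} [hp : Fact p.Prime] (hpU : ¬ p ∣ U.relIndex E)
    {S : Subgroup G} (hS : SylIn p E S) : S ≤ U := by
  obtain ⟨S', -, hS'⟩ := exists_sylIn_ge (bot_le : (⊥ : Subgroup G) ≤ U) (IsPGroup.of_bot (p := p))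
  have hS'E := u.sylIn_of_not_dvd hS' hpU
  obtain ⟨e, he, hes⟩ := hS'E.conj hS
  rw [← hes]
  have h1 : cj e U = U := mem_normalizer_iff_cj.mp (u.hUn he)
  rw [← h1]
  exact cj_mono e hS'.1

theorem le_of_sylIn_tau2 (u : USub M E U) {p : ℕ} [hp : Fact p.Prime] (hpτ : p ∈ tau2 M)
    {S : Subgroup G} (hS : SylIn p E S) : S ≤ U := u.le_of_sylIn (u.hτ p hpτ) hS

end USub

namespace CA

variable {M E A S U : Subgroup G} {p : ℕ} [hp : Fact p.Prime]

theorem S_le_U (c : CA M E p A S) (u : USub M E U) : S ≤ U := u.le_of_sylIn_tau2 c.hpτ c.hS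

/-- elements of `U` of prime order `r ∈ τ₁(M) ∪ τ₃(M)` centralize `S` in the semiregular case -/
theorem prime_order_centralizes_U (c : CA M E p A S) (u : USub M E U) (hβ : SemiReg S p)
    {r : ℕ} [hr : Fact r.Prime] (hrτ : r ∈ tau1 M ∪ tau3 M) {ℓ : G} (hℓU : ℓ ∈ U)
    (hℓ : orderOf ℓ = r) : ℓ ∈ Subgroup.centralizer (S : Set G) := by
  have hℓE : ℓ ∈ E := u.hUE hℓU
  rw [← le_centralizer_singleton_iff]
  by_contra hne
  have hG := c.hG
  have hrp : r ≠ p := c.ne_of_tau13 hrτ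
  have hcop : (orderOf ℓ).Coprime p := by
    rw [hℓ]; exact (Nat.coprime_primes hr.out hp.out).mpr hrp
  have hℓN : ℓ ∈ Subgroup.normalizer (S : Set G) := c.le_normalizer_S hℓE
  have hℓ1 : ℓ ≠ 1 := by
    intro h
    rw [h, orderOf_one] at hℓ
    exact hr.out.one_lt.ne hℓ
  rcases hβ ℓ hℓN hcop with h | h
  · exact hne h
  set Z := Subgroup.zpowers ℓ with hZ
  have hZE : Z ≤ E := Subgroup.zpowers_le.mpr hℓE
  have hZN : Z ≤ Subgroup.normalizer (S : Set G) := Subgroup.zpowers_le.mpr hℓN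
  have hUZE : S ⊔ Z ≤ E := sup_le c.hS.1 hZE
  haveI : Group.IsSolvable ↥M := solvable_of_ne_top hG c.hM.1
  have hsolv : Group.IsSolvable ↥(sigmaCore M) := isSolvable_of_le (sigmaCore_le M)
  have hcopH : (Nat.card (sigmaCore M)).Coprime (Nat.card ↥(S ⊔ Z)) :=
    (Nat.Coprime.coprime_dvd_left (Subgroup.card_dvd_of_le hUZE)
      (coprime_card_compl_sigmaCore hG c.hM c.hE)).symm
  have heq := FF.s1545 S Z (sigmaCore M)
    (fun e he u hu => (Subgroup.mem_normalizer_iff.mp (hZN he) u).mp hu)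
    (by
      intro e he he1 u hu heu
      have hℓe : ℓ ∈ Subgroup.zpowers e := BGAux.mem_zpowers_of_prime_order hℓ he he1
      obtain ⟨m, hm⟩ := Subgroup.mem_zpowers_iff.mp hℓe
      have hc : Commute e u := heu
      have h2 : u ∈ S ⊓ Subgroup.centralizer ({ℓ} : Set G) := by
        rw [Subgroup.mem_inf, Subgroup.mem_centralizer_singleton_iff]
        refine ⟨hu, ?_⟩
        rw [← hm]
        exact ((hc.zpow_left m).eq).symm
      rw [h, Subgroup.mem_bot] at h2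
      exact h2)
    (fun x hx h hh => (Subgroup.mem_normalizer_iff.mp
      (le_normalizer_sigmaCore M (c.hE.1 (hUZE hx))) h).mp hh)
    hsolv hcopH
  have hReg : sigmaCore M ⊓ Subgroup.centralizer (Z : Set G) = ⊥ := by
    rw [hZ, centralizer_zpowers]
    apply u.hH ℓ hℓU hℓ1
    intro q hq hqd
    rw [hℓ] at hqd
    rw [(Nat.prime_dvd_prime_iff_eq hq hr.out).mp hqd]
    exact hrτ
  rw [hReg, c.sigmaCore_inf_centralizer, Subgroup.card_bot, one_pow, one_mul] at heq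
  have h1 : Nat.card (sigmaCore M) = 1 := Nat.eq_one_of_mul_eq_one_left heq
  exact sigmaCore_ne_bot hG c.hM (Subgroup.card_eq_one.mp h1)

/-- cyclic Sylow `r`-subgroups of `E` inside `U`, `r ∈ τ₁(M) ∪ τ₃(M)`, centralize `S` in the
semiregular case -/
theorem cyclic_centralizes_U (c : CA M E p A S) (u : USub M E U) (hβ : SemiReg S p)
    {r : ℕ} [hr : Fact r.Prime] (hrτ : r ∈ tau1 M ∪ tau3 M) {R : Subgroup G}
    (hR : SylIn r E R) (hRU : R ≤ U) (hRc : IsCyclic ↥R) :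
    R ≤ Subgroup.centralizer (S : Set G) := by
  obtain ⟨⟨ρ, hρR⟩, hgen⟩ := hRc.exists_generator
  have hRz : ∀ y ∈ R, y ∈ Subgroup.zpowers ρ := by
    intro y hy
    obtain ⟨m, hm⟩ := Subgroup.mem_zpowers_iff.mp (hgen ⟨y, hy⟩)
    rw [Subgroup.mem_zpowers_iff]
    refine ⟨m, ?_⟩
    have := congrArg Subtype.val hm
    simpa using this
  by_cases hρC : ρ ∈ Subgroup.centralizer (S : Set G)
  · intro y hy
    obtain ⟨m, rfl⟩ := Subgroup.mem_zpowers_iff.mp (hRz y hy)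
    exact Subgroup.zpow_mem _ hρC m
  exfalso
  obtain ⟨k', hk'⟩ := (IsPGroup.iff_orderOf.mp hR.2.1) ⟨ρ, hρR⟩
  rw [Subgroup.orderOf_mk] at hk'
  have hρ1 : ρ ≠ 1 := fun h => hρC (h ▸ Subgroup.one_mem _)
  obtain ⟨k, rfl⟩ : ∃ k, k' = k + 1 := by
    cases k' with
    | zero =>
      rw [pow_zero, orderOf_eq_one_iff] at hk'
      exact absurd hk' hρ1
    | succ k => exact ⟨k, rfl⟩
  have hrp : r ≠ p := c.ne_of_tau13 hrτ
  have hℓr : (ρ ^ r ^ k) ^ r = 1 := by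
    rw [← pow_mul, ← pow_succ, ← hk', pow_orderOf_eq_one]
  have hℓ1 : ρ ^ r ^ k ≠ 1 := by
    apply pow_ne_one_of_lt_orderOf (pow_pos hr.out.pos k).ne'
    rw [hk']
    exact Nat.pow_lt_pow_right hr.out.one_lt (Nat.lt_succ_self k)
  have hℓo : orderOf (ρ ^ r ^ k) = r := orderOf_eq_prime_of_pow hℓ1 hℓr
  have hℓC : ρ ^ r ^ k ∈ Subgroup.centralizer (S : Set G) :=
    c.prime_order_centralizes_U u hβ hrτ (hRU (R.pow_mem hρR _)) hℓo
  have hex : ∃ j, ρ ^ r ^ j ∈ Subgroup.centralizer (S : Set G) := ⟨k, hℓC⟩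
  classical
  have hj₀C := Nat.find_spec hex
  have hj₀pos : Nat.find hex ≠ 0 := by
    intro h
    rw [h, pow_zero, pow_one] at hj₀C
    exact hρC hj₀C
  obtain ⟨i, hi⟩ : ∃ i, Nat.find hex = i + 1 := Nat.exists_eq_succ_of_ne_zero hj₀pos
  have hxC : ρ ^ r ^ i ∉ Subgroup.centralizer (S : Set G) := Nat.find_min hex (by omega)
  have hxr : (ρ ^ r ^ i) ^ r ∈ Subgroup.centralizer (S : Set G) := by
    rw [← pow_mul, ← pow_succ, ← hi]
    exact hj₀C
  obtain ⟨L, d⟩ := c.exists_cal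
  by_cases hrσ : r ∈ Cfsg.sigma L
  · exact hρC (d.le_centralizer_of_sigma hrσ hrp hR.1 hR.2.1 hρR)
  by_cases hr1 : PRankLE r 1 ↥L
  · exact hρC (d.centralizes_of_rank_one hrσ hr1 hR.1 hR.2.1 (R.pow_mem hρR _) hℓ1 hℓC hρR)
  · exact d.false_of_tau2 hβ hrp hrσ hr1 hR hk' hRz hρR hℓC (R.pow_mem hρR _) hxC hxr

/-- in the semiregular case `U` centralizes `S` -/
theorem le_centralizer_of_semiReg_U (c : CA M E p A S) (u : USub M E U) (hβ : SemiReg S p)
    (hτ : ∀ q : ℕ, [Fact q.Prime] → q ∈ tau2 M → q ≠ p → ∀ R : Subgroup G, SylIn q E R →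
      E ≤ Subgroup.normalizer (R : Set G)) :
    U ≤ Subgroup.centralizer (S : Set G) := by
  have hG := c.hG
  apply le_of_forall_sylIn
  intro r hr
  by_cases hrp : r = p
  · subst hrp
    refine ⟨S, c.hS.mono (c.S_le_U u) u.hUE, ?_⟩
    intro s hs
    rw [Subgroup.mem_centralizer_iff]
    intro t ht
    exact c.comm' t ht s hs
  obtain ⟨R, -, hR⟩ := exists_sylIn_ge (bot_le : (⊥ : Subgroup G) ≤ U) (IsPGroup.of_bot (p := r))
  refine ⟨R, hR, ?_⟩
  by_cases hrU : r ∣ Nat.card U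
  swap
  · have hRb : R = ⊥ := by
      obtain ⟨j, hj⟩ := IsPGroup.iff_card.mp hR.2.1
      rcases Nat.eq_zero_or_pos j with h0 | hpos
      · rw [h0, pow_zero] at hj
        exact Subgroup.card_eq_one.mp hj
      · exfalso
        apply hrU
        exact (dvd_pow_self r hpos.ne').trans (hj ▸ Subgroup.card_dvd_of_le hR.1)
    rw [hRb]
    exact bot_le
  have hRE : SylIn r E R := u.sylIn hR hrU
  have hrE : r ∣ Nat.card E := hrU.trans (Subgroup.card_dvd_of_le u.hUE)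
  have hrσ : r ∉ sigma M := not_sigma_of_dvd_card_compl hG c.hM c.hE hr.out hrE
  have hrM : r ∣ Nat.card M := hrE.trans (Subgroup.card_dvd_of_le c.hE.1)
  rcases tau_cases hG c.hM hr.out hrσ hrM with h2 | h13
  · have hEN := hτ r h2 hrp R hRE
    apply le_centralizer_of_normalize (hRE.1.trans c.le_normalizer_S) (c.hS.1.trans hEN)
    apply Subgroup.inf_eq_bot_of_coprime
    obtain ⟨i, hi⟩ := IsPGroup.iff_card.mp hR.2.1
    obtain ⟨j, hj⟩ := IsPGroup.iff_card.mp c.hS.2.1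
    rw [hi, hj]
    exact Nat.Coprime.pow i j ((Nat.coprime_primes hr.out hp.out).mpr hrp)
  · apply c.cyclic_centralizes_U u hβ h13 hRE hR.1
    have hr1 : PRankLE r 1 ↥M := by
      rcases h13 with h | h
      · exact h.2.2.2.2
      · exact h.2.2.2
    exact isCyclic_of_sylIn_rank_one hG (sylIn_of_sylIn_compl hG c.hM c.hE hrσ hRE) hr1

/-- a cyclic subgroup of `S` containing an element of maximal order, acting regularly on `M_σ` -/
theorem exists_reg_cyclic (c : CA M E p A S) :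
    ∃ y ∈ S, (∀ z ∈ Subgroup.zpowers y, z ≠ 1 → Reg M z) ∧ ∀ s ∈ S, s ^ orderOf y = 1 := by
  have hG := c.hG
  have hSp := c.hS.2.1
  obtain ⟨y₀, hy₀S, hmax⟩ := exists_max_order hSp
  obtain ⟨e', he'⟩ := (IsPGroup.iff_orderOf.mp hSp) ⟨y₀, hy₀S⟩
  rw [Subgroup.orderOf_mk] at he'
  have hy₀1 : y₀ ≠ 1 := by
    intro h
    apply c.ne_bot
    rw [eq_bot_iff]
    intro s hs
    have h1 := hmax s hs
    rw [h, orderOf_one, Nat.dvd_one, orderOf_eq_one_iff] at h1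
    exact Subgroup.mem_bot.mpr h1
  obtain ⟨e, rfl⟩ : ∃ e, e' = e + 1 := by
    cases e' with
    | zero =>
      rw [pow_zero, orderOf_eq_one_iff] at he'
      exact absurd he' hy₀1
    | succ k => exact ⟨k, rfl⟩
  have hexp : ∀ s ∈ S, s ^ p ^ (e + 1) = 1 := by
    intro s hs
    rw [← he']
    exact orderOf_dvd_iff_pow_eq_one.mp (hmax s hs)
  set V := powSub S c.comm' (p ^ e) with hV
  have hVS : V ≤ S := powSub_le _ _
  have hVA : V ≤ A := by
    rintro _ ⟨s, hs, rfl⟩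
    apply c.mem_of_pow (S.pow_mem hs _)
    rw [← pow_mul, ← pow_succ]
    exact hexp s hs
  have hy₀e : y₀ ^ p ^ e ≠ 1 := by
    apply pow_ne_one_of_lt_orderOf (pow_pos hp.out.pos e).ne'
    rw [he']
    exact Nat.pow_lt_pow_right hp.out.one_lt (Nat.lt_succ_self e)
  have hNV : Subgroup.normalizer (S : Set G) ≤ Subgroup.normalizer (V : Set G) :=
    normalizer_le_normalizer_powSub _ _
  obtain ⟨a, ha1, haR, y, hyS, hya⟩ :
      ∃ a : G, a ≠ 1 ∧ Reg M a ∧ ∃ y ∈ S, y ^ p ^ e = a := by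
    have h1 : Nat.card V ∣ p ^ 2 := by
      rw [← c.hAc]
      exact Subgroup.card_dvd_of_le hVA
    obtain ⟨j, hj2, hj⟩ := (Nat.dvd_prime_pow hp.out).mp h1
    interval_cases j
    · exfalso
      rw [pow_zero] at hj
      have h2 := Subgroup.card_eq_one.mp hj
      have h3 : y₀ ^ p ^ e ∈ V := ⟨y₀, hy₀S, rfl⟩
      rw [h2, Subgroup.mem_bot] at h3
      exact hy₀e h3
    · rw [pow_one] at hj
      obtain ⟨n₀, hn₀, hn₀M⟩ := c.exists_not_mem
      have hreg := c.regular_of_invariant hVA hj (hNV hn₀) hn₀M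
      have h3 : y₀ ^ p ^ e ∈ V := ⟨y₀, hy₀S, rfl⟩
      exact ⟨y₀ ^ p ^ e, hy₀e, (reg_iff_line hj h3 hy₀e).mpr hreg, y₀, hy₀S, rfl⟩
    · have h2 : V = A := by
        apply Subgroup.eq_of_le_of_card_ge hVA
        rw [hj, c.hAc]
      obtain ⟨A₁, hA₁A, hA₁c, hA₁r⟩ :=
        (theorem_12_5 hG c.hM c.hpτ (c.hAE.trans c.hE.1) c.hA c.hAc).2.2.2.2.2
      have hA₁1 : A₁ ≠ ⊥ := by
        intro h
        rw [h, Subgroup.card_bot] at hA₁c
        exact hp.out.one_lt.ne hA₁c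
      obtain ⟨⟨a, haA₁⟩, ha1⟩ := Subgroup.ne_bot_iff_exists_ne_one.mp hA₁1
      have ha1' : a ≠ 1 := fun h => ha1 (Subtype.ext h)
      have haV : a ∈ V := by rw [h2]; exact hA₁A haA₁
      obtain ⟨y, hyS, hya⟩ := haV
      exact ⟨a, ha1', (reg_iff_line hA₁c haA₁ ha1').mpr hA₁r, y, hyS, hya⟩
  have hyo : orderOf y = p ^ (e + 1) :=
    orderOf_eq_prime_pow (by rw [hya]; exact ha1) (hexp y hyS)
  have hap : a ^ p = 1 := by
    rw [← hya, ← pow_mul, ← pow_succ]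
    exact hexp y hyS
  have hao : orderOf a = p := orderOf_eq_prime_of_pow ha1 hap
  have hYS : Subgroup.zpowers y ≤ S := Subgroup.zpowers_le.mpr hyS
  refine ⟨y, hyS, ?_, ?_⟩
  · intro z hz hz1
    obtain ⟨k, hk1, hkp⟩ := exists_pow_order_p (hSp.to_le hYS) hz hz1
    have h1 : z ^ k ∈ Subgroup.zpowers (y ^ p ^ e) :=
      mem_zpowers_pow_of_pow_eq_one hyo (Subgroup.pow_mem _ hz k) hkp
    rw [hya] at h1
    obtain ⟨m, hm⟩ := Subgroup.mem_zpowers_iff.mp (BGAux.mem_zpowers_of_prime_order hao h1 hk1)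
    rw [← hm] at haR
    exact reg_of_pow (reg_of_zpow haR)
  · intro s hs
    rw [hyo]
    exact hexp s hs

/-- the per-prime datum relative to `U` -/
theorem exists_good_U (c : CA M E p A S) (u : USub M E U)
    (hτ : ∀ q : ℕ, [Fact q.Prime] → q ∈ tau2 M → q ≠ p → ∀ R : Subgroup G, SylIn q E R →
      E ≤ Subgroup.normalizer (R : Set G)) : ∃ Y : Subgroup G, GoodSub M U S Y := by
  by_cases h : ∃ n ∈ Subgroup.normalizer (S : Set G), (orderOf n).Coprime p ∧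
      S ⊓ Subgroup.centralizer ({n} : Set G) ≠ ⊥ ∧ ¬ S ≤ Subgroup.centralizer ({n} : Set G)
  · obtain ⟨n, hn, hcop, h1, h2⟩ := h
    obtain ⟨Y, hY1, hY2, hY3, hY4⟩ := c.exists_good_of_mixed hn hcop h1 h2
    exact ⟨Y, hY1, u.hUE.trans hY2, hY3, hY4⟩
  · have hβ : SemiReg S p := by
      intro n hn hcop
      by_contra hne
      push Not at hne
      exact h ⟨n, hn, hcop, hne.2, hne.1⟩
    have hUC := c.le_centralizer_of_semiReg_U u hβ hτ
    obtain ⟨y, hyS, hreg, hexp⟩ := c.exists_reg_cyclic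
    have hYS : Subgroup.zpowers y ≤ S := Subgroup.zpowers_le.mpr hyS
    exact ⟨Subgroup.zpowers y, hYS,
      hUC.trans ((Subgroup.centralizer_le hYS).trans (Subgroup.centralizer_le_normalizer _)),
      hreg, y, Subgroup.mem_zpowers y, hexp⟩

end CA

end Cfsg.Agent.Lib.Helper2.BG12
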