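import Mathlib
import Cfsg.Agent.Lib.Helper2.BG12U1
import Cfsg.Agent.Lib.Helper4.BG13l

set_option autoImplicit false

/-!
# Bender–Glauberman 12.12 relative to `U`: the abelian case
-/

namespace Cfsg.Agent.Lib.Helper2.BG12

open Cfsg Cfsg.Agent.Lib.Lead Cfsg.Agent.Lib.Lead.BG10 Cfsg.Agent.Lib.Helper4 Cfsg.Agent.Lib.Helper7
open Cfsg.Agent.Lib.Helper4.BG7 Cfsg.Agent.Lib.Helper4.BG76 Cfsg.Agent.Lib.Helper4.BG8
open Cfsg.Agent.Lib.Helper4.BG9
open Cfsg.Agent.Lib.Helper4.ThreeStep Cfsg.Agent.Lib.Helper4.BG12 Cfsg.Agent.Lib.Helper2.BG11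
open Cfsg.Agent.Lib.Lead.BG11
open scoped commutatorElement

universe u

variable {G : Type u} [Group G] [Finite G]

theorem AbCase.exists_good_U {M E U : Subgroup G} (hab : AbCase G M) (hG : IsMinSimpleOddOrder G)
    (hM : IsCoatom M) (hE : IsComplIn E (sigmaCore M) M) (u : USub M E U) {p : ℕ}
    [hp : Fact p.Prime] (hpτ : p ∈ tau2 M) {S : Subgroup G} (hS : SylIn p E S) :
    ∃ Y : Subgroup G, GoodSub M U S Y := by
  obtain ⟨A, c⟩ := exists_CA hG hM hE hpτ (hab p hpτ) hS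
  apply c.exists_good_U u
  intro q hq hqτ _ R hR
  exact hab.le_normalizer hG hM hE hqτ hR

/-- under (H) for `U`, an element of prime order of `U` centralizing a nontrivial element of `M_σ`
has order in `τ₂(M)` -/
theorem mem_tau2_of_centralizes_U (hG : IsMinSimpleOddOrder G) {M E U : Subgroup G}
    (hM : IsCoatom M) (hE : IsComplIn E (sigmaCore M) M) (u : USub M E U) {x : G}
    (hx : x ∈ sigmaCore M) (hx1 : x ≠ 1) {z : G} (hzU : z ∈ U) (hzx : z * x = x * z) {r : ℕ}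
    (hr : r.Prime) (hzo : orderOf z = r) : r ∈ tau2 M := by
  have hzE : z ∈ E := u.hUE hzU
  have hrE : r ∣ Nat.card E := by
    rw [← hzo]
    exact Subgroup.orderOf_dvd_natCard E hzE
  have hrσ : r ∉ sigma M := not_sigma_of_dvd_card_compl hG hM hE hr hrE
  have hrM : r ∣ Nat.card M := hrE.trans (Subgroup.card_dvd_of_le hE.1)
  rcases tau_cases hG hM hr hrσ hrM with h2 | h13
  · exact h2
  exfalso
  have hz1 : z ≠ 1 := by
    intro h
    rw [h, orderOf_one] at hzo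
    exact hr.one_lt.ne hzo
  have hreg : Reg M z := by
    apply u.hH z hzU hz1
    intro q hq hqd
    rw [hzo] at hqd
    rw [(Nat.prime_dvd_prime_iff_eq hq hr).mp hqd]
    exact h13
  have h1 : x ∈ sigmaCore M ⊓ Subgroup.centralizer ({z} : Set G) := by
    rw [Subgroup.mem_inf, Subgroup.mem_centralizer_singleton_iff]
    exact ⟨hx, hzx.symm⟩
  rw [hreg, Subgroup.mem_bot] at h1
  exact hx1 h1

/-- **12.12(a)** relative to `U` in the abelian case -/
theorem AbCase.part_a_U {M E U : Subgroup G} (hab : AbCase G M) (hG : IsMinSimpleOddOrder G)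
    (hM : IsCoatom M) (hE : IsComplIn E (sigmaCore M) M) (u : USub M E U) :
    ∃ A₀ : Subgroup G, IsMulCommutative ↥A₀ ∧
      ∀ x ∈ sigmaCore M, x ≠ 1 → U ⊓ Subgroup.centralizer ({x} : Set G) ≤ A₀ := by
  refine ⟨fittingOf E, comm_fittingOf_compl hG hM hE, ?_⟩
  intro x hx hx1
  apply le_of_forall_sylIn
  intro r hr
  obtain ⟨R, -, hR⟩ := exists_sylIn_ge
    (bot_le : (⊥ : Subgroup G) ≤ U ⊓ Subgroup.centralizer ({x} : Set G)) (IsPGroup.of_bot (p := r))
  refine ⟨R, hR, ?_⟩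
  have hRU : R ≤ U := hR.1.trans inf_le_left
  have hRE : R ≤ E := hRU.trans u.hUE
  by_cases hrτ : r ∈ tau2 M
  · obtain ⟨S, hRS, hS⟩ := exists_sylIn_ge hRE hR.2.1
    exact hRS.trans ((le_opOf hS.1 (hab.le_normalizer hG hM hE hrτ hS) hS.2.1).trans
      (opOf_le_fittingOf r E))
  · have hRb : R = ⊥ := by
      by_contra hne
      obtain ⟨⟨e, he⟩, he1⟩ := Subgroup.ne_bot_iff_exists_ne_one.mp hne
      have he1' : e ≠ 1 := fun h => he1 (Subtype.ext h)
      obtain ⟨k, hk1, hkr⟩ := exists_pow_order_p hR.2.1 he he1'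
      have hzR : e ^ k ∈ R := R.pow_mem he k
      have hzC := (Subgroup.mem_inf.mp (hR.1 hzR)).2
      exact hrτ (mem_tau2_of_centralizes_U hG hM hE u hx hx1 (hRU hzR)
        (Subgroup.mem_centralizer_singleton_iff.mp hzC) hr.out
        (orderOf_eq_prime_of_pow hk1 hkr))
    rw [hRb]
    exact bot_le

/-- **12.12(b)** relative to `U` in the abelian case -/
theorem AbCase.part_b_U {M E U : Subgroup G} (hab : AbCase G M) (hG : IsMinSimpleOddOrder G)
    (hM : IsCoatom M) (hE : IsComplIn E (sigmaCore M) M) (u : USub M E U) :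
    ∃ U₀ : Subgroup G, U₀ ≤ U ∧ Monoid.exponent ↥U₀ = Monoid.exponent ↥U ∧
      ∀ e ∈ U₀, e ≠ 1 → Reg M e := by
  classical
  have hex : ∀ p : ℕ, ∃ S Y : Subgroup G, p ∈ tau2 M → SylIn p E S ∧ GoodSub M U S Y := by
    intro p
    by_cases hpτ : p ∈ tau2 M
    · haveI : Fact p.Prime := ⟨hpτ.1⟩
      obtain ⟨S, -, hS⟩ := exists_sylIn_ge (bot_le : (⊥ : Subgroup G) ≤ E)
        (IsPGroup.of_bot (p := p))
      obtain ⟨Y, hY⟩ := hab.exists_good_U hG hM hE u hpτ hS
      exact ⟨S, Y, fun _ => ⟨hS, hY⟩⟩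
    · exact ⟨⊥, ⊥, fun h => absurd h hpτ⟩
  choose Sf Yf hSY using hex
  have hcF := comm_of_isMulCommutative (comm_fittingOf_compl hG hM hE)
  have hSU : ∀ p, p ∈ tau2 M → Sf p ≤ U := by
    intro p hpτ
    haveI : Fact p.Prime := ⟨hpτ.1⟩
    exact u.le_of_sylIn_tau2 hpτ (hSY p hpτ).1
  set E₂ := piPart (fittingOf E) hcF (tau2 M) ⊓ U with hE₂
  have hE₂F : E₂ ≤ fittingOf E := inf_le_left.trans (piPart_le _ _ _)
  have hE₂U : E₂ ≤ U := inf_le_right
  have hUN₂ : U ≤ Subgroup.normalizer (E₂ : Set G) := by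
    intro n hn
    exact BG13.mem_normalizer_inf
      (le_normalizer_piPart hcF _ (le_normalizer_fittingOf E) (u.hUE hn)) (Subgroup.le_normalizer hn)
  have hcE₂ : ∀ a ∈ E₂, ∀ b ∈ E₂, a * b = b * a := fun a ha b hb =>
    hcF a (hE₂F ha) b (hE₂F hb)
  have hSE₂ : ∀ p, p ∈ tau2 M → Sf p ≤ E₂ := by
    intro p hpτ
    haveI : Fact p.Prime := ⟨hpτ.1⟩
    have hS := (hSY p hpτ).1
    apply le_inf _ (hSU p hpτ)
    apply le_piPart_of_isPGroup hcF hpτ _ hS.2.1
    exact (le_opOf hS.1 (hab.le_normalizer hG hM hE hpτ hS) hS.2.1).trans (opOf_le_fittingOf p E)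
  have hτE₂ : ∀ r : ℕ, r.Prime → r ∣ Nat.card E₂ → r ∈ tau2 M := fun r hr hd =>
    mem_of_dvd_card_piPart hcF _ hr (hd.trans (Subgroup.card_dvd_of_le inf_le_left))
  have hcop : (E₂.relIndex U).Coprime (Nat.card E₂) := by
    apply Nat.coprime_of_dvd
    intro k hk hk1 hk2
    have hkτ := hτE₂ k hk hk2
    haveI : Fact k.Prime := ⟨hk⟩
    have hS : SylIn k U (Sf k) := (hSY k hkτ).1.mono (hSU k hkτ) u.hUE
    apply hS.2.2
    rw [← Subgroup.relIndex_mul_relIndex (Sf k) E₂ U (hSE₂ k hkτ) hE₂U]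
    exact Dvd.dvd.mul_left hk1 _
  obtain ⟨L, hLU, hLc⟩ := sz_exists_internal E₂ U hE₂U hUN₂ (E₂.relIndex U)
    (relIndex_mul_card' hE₂U) hcop
  have hLE₂ : E₂ ⊓ L = ⊥ := Subgroup.inf_eq_bot_of_coprime (by rw [hLc]; exact hcop.symm)
  have hLidx : L.relIndex U = Nat.card E₂ := by
    have h1 := relIndex_mul_card' hLU
    have h2 := relIndex_mul_card' hE₂U
    rw [hLc] at h1
    have hm : 0 < E₂.relIndex U := by
      rcases Nat.eq_zero_or_pos (E₂.relIndex U) with h0 | h0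
      · rw [h0, zero_mul] at h2
        exact absurd h2.symm (Nat.card_pos).ne'
      · exact h0
    exact Nat.eq_of_mul_eq_mul_right hm (h1.trans (h2.symm.trans (mul_comm _ _)))
  set nf : ℕ → ℕ := fun q => Nat.card E / q ^ (Nat.card E).factorization q with hnf
  set Y := partSub E₂ hcE₂ (tau2 M) nf Yf with hY
  have hYE₂ : Y ≤ E₂ := fun _ h => h.1
  have hUNY : U ≤ Subgroup.normalizer (Y : Set G) := by
    apply le_normalizer_of_forall_conj
    rintro n hn e ⟨he, he'⟩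
    refine ⟨(Subgroup.mem_normalizer_iff.mp (hUN₂ hn) e).mp he, fun p hpτ => ?_⟩
    rw [conj_pow]
    exact (Subgroup.mem_normalizer_iff.mp ((hSY p hpτ).2.2.1 hn) _).mp (he' p hpτ)
  have hYfY : ∀ p, p ∈ tau2 M → Yf p ≤ Y := by
    intro p hpτ y hy
    haveI : Fact p.Prime := ⟨hpτ.1⟩
    have hyS : y ∈ Sf p := (hSY p hpτ).2.1 hy
    refine ⟨hSE₂ p hpτ hyS, fun q hqτ => ?_⟩
    by_cases hqp : q = p
    · subst hqp
      exact (Yf q).pow_mem hy _
    · have hyE : y ∈ E := (hSY p hpτ).1.1 hyS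
      obtain ⟨j, hj⟩ := (IsPGroup.iff_orderOf.mp (hSY p hpτ).1.2.1) ⟨y, hyS⟩
      rw [Subgroup.orderOf_mk] at hj
      have h1 : orderOf y ∣ nf q := by
        apply dvd_ordCompl_of_coprime (Subgroup.orderOf_dvd_natCard E hyE)
        rw [hj]
        exact Nat.Coprime.pow_left j ((Nat.coprime_primes hpτ.1 hqτ.1).mpr (Ne.symm hqp))
      rw [orderOf_dvd_iff_pow_eq_one.mp h1]
      exact (Yf q).one_mem
  have hU₀U : Y ⊔ L ≤ U := sup_le (hYE₂.trans hE₂U) hLU
  refine ⟨Y ⊔ L, hU₀U, ?_, ?_⟩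
  · apply exponent_eq_of_forall hU₀U
    intro r hr g hg hgo
    by_cases hrτ : r ∈ tau2 M
    · have hS := (hSY r hrτ).1
      have hgS : g ∈ Sf r := by
        refine hS.le_of_normal (hab.le_normalizer hG hM hE hrτ hS)
          (Subgroup.zpowers_le.mpr (u.hUE hg)) ?_ (Subgroup.mem_zpowers g)
        obtain ⟨t, ht⟩ := hgo
        exact IsPGroup.of_card (n := t) (by rw [Nat.card_zpowers, ht])
      obtain ⟨y, hyY, hys⟩ := (hSY r hrτ).2.2.2.2
      have h1 : orderOf g ∣ orderOf y := orderOf_dvd_of_pow_eq_one (hys g hgS)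
      exact h1.trans (orderOf_dvd_exponent_of_mem ((le_sup_left : Y ≤ Y ⊔ L) (hYfY r hrτ hyY)))
    · obtain ⟨R, -, hR⟩ := exists_sylIn_ge (bot_le : (⊥ : Subgroup G) ≤ L)
        (IsPGroup.of_bot (p := r))
      have hRU : SylIn r U R := by
        refine ⟨hR.1.trans hLU, hR.2.1, ?_⟩
        rw [← Subgroup.relIndex_mul_relIndex R L U hR.1 hLU, hLidx]
        intro hd
        rcases (Nat.Prime.dvd_mul hr.out).mp hd with h | h
        · exact hR.2.2 h
        · exact hrτ (hτE₂ r hr.out h)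
      exact orderOf_dvd_exponent_of_sylIn (hR.1.trans le_sup_right) hRU hg hgo
  · intro e he he1
    have ho1 : orderOf e ≠ 1 := fun h => he1 (orderOf_eq_one_iff.mp h)
    obtain ⟨r, hr, hrd⟩ := Nat.exists_prime_and_dvd ho1
    have ho0 : orderOf e ≠ 0 := (orderOf_pos e).ne'
    have hzo : orderOf (e ^ (orderOf e / r)) = r := orderOf_pow_orderOf_div ho0 hrd
    apply reg_of_pow (k := orderOf e / r)
    set z := e ^ (orderOf e / r) with hz
    have hz1 : z ≠ 1 := by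
      intro h
      rw [h, orderOf_one] at hzo
      exact hr.one_lt.ne hzo
    have hzU₀ : z ∈ Y ⊔ L := Subgroup.pow_mem _ he _
    have hzU : z ∈ U := hU₀U hzU₀
    have hzE : z ∈ E := u.hUE hzU
    haveI : Fact r.Prime := ⟨hr⟩
    by_cases hrτ : r ∈ tau2 M
    · have hS := (hSY r hrτ).1
      have hzS : z ∈ Sf r := by
        refine hS.le_of_normal (hab.le_normalizer hG hM hE hrτ hS) (Subgroup.zpowers_le.mpr hzE) ?_
          (Subgroup.mem_zpowers z)
        exact IsPGroup.of_card (n := 1) (by rw [Nat.card_zpowers, hzo, pow_one])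
      have hzE₂ : z ∈ E₂ := hSE₂ r hrτ hzS
      have hzm : z ∈ ((Y ⊔ L : Subgroup G) : Set G) := hzU₀
      rw [Subgroup.coe_mul_of_right_le_normalizer_left Y L (hLU.trans hUNY)] at hzm
      obtain ⟨y, hy, l, hl, hyl⟩ := Set.mem_mul.mp hzm
      have hl1 : l ∈ E₂ ⊓ L := by
        rw [Subgroup.mem_inf]
        refine ⟨?_, hl⟩
        have h0 : l = y⁻¹ * z := by rw [← hyl]; group
        rw [h0]
        exact E₂.mul_mem (E₂.inv_mem (hYE₂ hy)) hzE₂
      rw [hLE₂, Subgroup.mem_bot] at hl1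
      have hzY : z ∈ Y := by
        rw [← hyl, hl1, mul_one]
        exact hy
      have h1 : z ^ nf r ∈ Yf r := hzY.2 r hrτ
      have h2 : z ^ nf r ≠ 1 := by
        intro h
        have h3 : orderOf z ∣ nf r := orderOf_dvd_of_pow_eq_one h
        rw [hzo] at h3
        have h4 : Nat.Coprime r (nf r) := Nat.coprime_ordCompl hr (Nat.card_pos).ne'
        exact hr.one_lt.ne' (Nat.Coprime.eq_one_of_dvd h4 h3)
      have h5 : z ∈ Subgroup.zpowers (z ^ nf r) :=
        BGAux.mem_zpowers_of_prime_order hzo (Subgroup.pow_mem _ (Subgroup.mem_zpowers z) _) h2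
      have hzYf : z ∈ Yf r := (Subgroup.zpowers_le.mpr h1) h5
      exact (hSY r hrτ).2.2.2.1 z hzYf hz1
    · have hrE : r ∣ Nat.card E := by
        rw [← hzo]
        exact Subgroup.orderOf_dvd_natCard E hzE
      have hrσ := not_sigma_of_dvd_card_compl hG hM hE hr hrE
      have hrM := hrE.trans (Subgroup.card_dvd_of_le hE.1)
      rcases tau_cases hG hM hr hrσ hrM with h2 | h13
      · exact absurd h2 hrτ
      · apply u.hH z hzU hz1
        intro q hq hqd
        rw [hzo] at hqd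
        rw [(Nat.prime_dvd_prime_iff_eq hq hr).mp hqd]
        exact h13

end Cfsg.Agent.Lib.Helper2.BG12
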