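import Mathlib
import Cfsg.Agent.Lib.Helper2.BG12U2

set_option autoImplicit false

/-!
# Bender–Glauberman 12.12 relative to `U`: the nonabelian case
-/

namespace Cfsg.Agent.Lib.Helper2.BG12

open Cfsg Cfsg.Agent.Lib.Lead Cfsg.Agent.Lib.Lead.BG10 Cfsg.Agent.Lib.Helper4 Cfsg.Agent.Lib.Helper7
open Cfsg.Agent.Lib.Helper4.BG7 Cfsg.Agent.Lib.Helper4.BG76 Cfsg.Agent.Lib.Helper4.BG8
open Cfsg.Agent.Lib.Helper4.BG9
open Cfsg.Agent.Lib.Helper4.ThreeStep Cfsg.Agent.Lib.Helper4.BG12 Cfsg.Agent.Lib.Helper2.BG11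
open Cfsg.Agent.Lib.Lead.BG11
open scoped commutatorElement

universe u

variable {G : Type u} [Group G] [Finite G]

namespace CN

variable {M E A U : Subgroup G} {p : ℕ} [hp : Fact p.Prime]

/-- **12.12(a)** relative to `U` in the nonabelian case -/
theorem part_a_U (c : CN M E p A) (u : USub M E U) :
    ∃ A₀ : Subgroup G, IsMulCommutative ↥A₀ ∧
      ∀ x ∈ sigmaCore M, x ≠ 1 → U ⊓ Subgroup.centralizer ({x} : Set G) ≤ A₀ := by
  have hG := c.hG
  refine ⟨cSig M A, c.comm_cSig, ?_⟩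
  intro x hx hx1 w hw
  rw [Subgroup.mem_inf] at hw
  obtain ⟨hwU, hwC⟩ := hw
  have hwE : w ∈ E := u.hUE hwU
  by_cases hw1 : w = 1
  · rw [hw1]
    exact Subgroup.one_mem _
  have hkey : ∀ k : ℕ, ∀ r : ℕ, r.Prime → orderOf (w ^ k) = r →
      r = p ∧ w ^ k ∈ cSig M A := by
    intro k r hr hko
    have hzE : w ^ k ∈ E := E.pow_mem hwE k
    have hzx : w ^ k * x = x * w ^ k := by
      have h1 : Commute w x := Subgroup.mem_centralizer_singleton_iff.mp hwC
      exact (h1.pow_left k).eq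
    have hrτ := mem_tau2_of_centralizes_U hG c.hM c.hE u hx hx1 (U.pow_mem hwU k) hzx hr hko
    rw [c.tau2_eq, Set.mem_singleton_iff] at hrτ
    subst hrτ
    refine ⟨rfl, ?_⟩
    have hXc : Nat.card (Subgroup.zpowers (w ^ k)) = r := by rw [Nat.card_zpowers, hko]
    have hne : sigmaCore M ⊓ Subgroup.centralizer ((Subgroup.zpowers (w ^ k) : Subgroup G) : Set G)
        ≠ ⊥ := by
      intro h
      have h2 : x ∈ sigmaCore M ⊓
          Subgroup.centralizer ((Subgroup.zpowers (w ^ k) : Subgroup G) : Set G) := by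
        rw [Subgroup.mem_inf, centralizer_zpowers, Subgroup.mem_centralizer_singleton_iff]
        exact ⟨hx, hzx.symm⟩
      rw [h, Subgroup.mem_bot] at h2
      exact hx1 h2
    rw [← c.eq_cSig_of_not_reg (Subgroup.zpowers_le.mpr hzE) hXc hne]
    exact Subgroup.mem_zpowers _
  have ho1 : orderOf w ≠ 1 := fun h => hw1 (orderOf_eq_one_iff.mp h)
  have ho0 : orderOf w ≠ 0 := (orderOf_pos w).ne'
  have hwp : IsPGroup p (Subgroup.zpowers w) := by
    rw [IsPGroup.iff_card, Nat.card_zpowers]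
    refine ⟨(orderOf w).factorization p, ?_⟩
    apply Nat.eq_pow_of_factorization_eq_single ho0
    ext q
    by_cases hq : q = p
    · subst hq
      simp
    · rw [Finsupp.single_apply, if_neg (Ne.symm hq)]
      by_contra hne
      have hqp : q.Prime ∧ q ∣ orderOf w := by
        have := Nat.pos_of_ne_zero hne
        exact ⟨Nat.prime_of_mem_primeFactors (Nat.support_factorization _ ▸
          Finsupp.mem_support_iff.mpr hne), Nat.dvd_of_factorization_pos hne⟩
      have h1 := (hkey (orderOf w / q) q hqp.1 (orderOf_pow_orderOf_div ho0 hqp.2)).1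
      exact hq h1
  obtain ⟨k', hk'⟩ := (IsPGroup.iff_orderOf.mp hwp) ⟨w, Subgroup.mem_zpowers w⟩
  rw [Subgroup.orderOf_mk] at hk'
  obtain ⟨k, rfl⟩ : ∃ k, k' = k + 1 := by
    cases k' with
    | zero =>
      rw [pow_zero] at hk'
      exact absurd hk' ho1
    | succ k => exact ⟨k, rfl⟩
  have hzo : orderOf (w ^ p ^ k) = p := by
    have h1 : (w ^ p ^ k) ^ p = 1 := by
      rw [← pow_mul, ← pow_succ, ← hk', pow_orderOf_eq_one]
    have h2 : w ^ p ^ k ≠ 1 := by
      apply pow_ne_one_of_lt_orderOf (pow_pos hp.out.pos k).ne'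
      rw [hk']
      exact Nat.pow_lt_pow_right hp.out.one_lt (Nat.lt_succ_self k)
    exact orderOf_eq_prime_of_pow h2 h1
  have hzA₀ := (hkey (p ^ k) p hp.out hzo).2
  cases k with
  | zero =>
    rw [pow_zero, pow_one] at hzA₀
    exact hzA₀
  | succ j =>
    exfalso
    have h1 : (w ^ p ^ j) ^ p = w ^ p ^ (j + 1) := by rw [← pow_mul, ← pow_succ]
    have h2 : (w ^ p ^ j) ^ p ∈ cSig M A := by rw [h1]; exact hzA₀
    have h3 : IsPGroup p (Subgroup.zpowers (w ^ p ^ j)) :=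
      hwp.to_le (Subgroup.zpowers_le.mpr (Subgroup.pow_mem _ (Subgroup.mem_zpowers w) _))
    have h4 := c.pow_eq_one_of_mem_cSig (E.pow_mem hwE _) h3 h2
    rw [h1] at h4
    rw [h4, orderOf_one] at hzo
    exact hp.out.one_lt.ne hzo

/-- `A₀` has a complement in `U` -/
theorem exists_compl_U (c : CN M E p A) (u : USub M E U) :
    ∃ U₀ : Subgroup G, U₀ ≤ U ∧ (∀ x ∈ U₀, x ∈ cSig M A → x = 1) ∧
      (∀ e ∈ U, ∃ a ∈ cSig M A, ∃ h ∈ U₀, e = a * h) ∧ p * Nat.card U₀ = Nat.card U := by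
  have hG := c.hG
  have dT := c.dT
  obtain ⟨S', hAS', hS'⟩ := exists_sylIn_ge c.hAE dT.isPGroup
  have hS'U : S' ≤ U := u.le_of_sylIn_tau2 c.hpτ hS'
  have hS'SU : SylIn p U S' := hS'.mono hS'U u.hUE
  have hS'M : SylIn p M S' := sylIn_of_sylIn_compl hG c.hM c.hE c.hpτ.2.1 hS'
  have hcS' := comm_of_isMulCommutative (dT.abelian hG hS'M)
  have hA₀S' : cSig M A ≤ S' := inf_le_left.trans hAS'
  have hA₀U : cSig M A ≤ U := hA₀S'.trans hS'U
  obtain ⟨T, hTS', hTX, hTdec⟩ := exists_compl_of_not_pow hcS' hA₀S'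
    (fun w hw hz => c.pow_eq_one_of_mem_cSig (hS'.1 hw)
      (hS'.2.1.to_le (Subgroup.zpowers_le.mpr hw)) hz)
  haveI hKn : ((cSig M A).subgroupOf U).Normal :=
    Subgroup.normal_subgroupOf_of_le_normalizer (u.hUE.trans c.le_normalizer_cSig)
  haveI hKc : IsMulCommutative ↥((cSig M A).subgroupOf U) := by
    have hc := comm_of_isMulCommutative c.comm_cSig
    refine ⟨⟨?_⟩⟩
    rintro ⟨a, ha⟩ ⟨b, hb⟩
    apply Subtype.ext
    apply Subtype.ext
    exact hc (a : G) (Subgroup.mem_subgroupOf.mp ha) (b : G) (Subgroup.mem_subgroupOf.mp hb)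
  have hKU : (cSig M A).subgroupOf U ≤ S'.subgroupOf U := fun x hx =>
    Subgroup.mem_subgroupOf.mpr (hA₀S' (Subgroup.mem_subgroupOf.mp hx))
  have hKcard : Nat.card ↥((cSig M A).subgroupOf U) = p := by
    rw [card_subgroupOf_of_le hA₀U, c.card_cSig]
  have hcop : (Nat.card ↥((cSig M A).subgroupOf U)).Coprime (S'.subgroupOf U).index := by
    rw [hKcard]
    exact (Nat.Prime.coprime_iff_not_dvd hp.out).mpr hS'SU.2.2
  have hAU : T.subgroupOf U ≤ S'.subgroupOf U := fun x hx =>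
    Subgroup.mem_subgroupOf.mpr (hTS' (Subgroup.mem_subgroupOf.mp hx))
  have hAK : T.subgroupOf U ⊓ (cSig M A).subgroupOf U = ⊥ := by
    rw [eq_bot_iff]
    intro x hx
    have h1 : (x : G) ∈ T ⊓ cSig M A :=
      ⟨Subgroup.mem_subgroupOf.mp hx.1, Subgroup.mem_subgroupOf.mp hx.2⟩
    rw [hTX, Subgroup.mem_bot] at h1
    exact Subgroup.mem_bot.mpr (Subtype.ext h1)
  have hKA : (cSig M A).subgroupOf U ⊔ T.subgroupOf U = S'.subgroupOf U := by
    apply le_antisymm (sup_le hKU hAU)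
    intro v hv
    obtain ⟨t, ht, x, hx, hux⟩ := hTdec (v : G) (Subgroup.mem_subgroupOf.mp hv)
    have h1 : v = (⟨x, hA₀U hx⟩ : ↥U) * (⟨t, hS'U (hTS' ht)⟩ : ↥U) := by
      apply Subtype.ext
      show (v : G) = x * t
      rw [hux]
      exact hcS' t (hTS' ht) x (hA₀S' hx)
    rw [h1]
    exact Subgroup.mul_mem_sup (Subgroup.mem_subgroupOf.mpr hx) (Subgroup.mem_subgroupOf.mpr ht)
  obtain ⟨H, hH⟩ := Cfsg.Agent.S0051.result ((cSig M A).subgroupOf U) (S'.subgroupOf U) hKU hcop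
    (T.subgroupOf U) hAU hAK hKA
  refine ⟨H.map U.subtype, Subgroup.map_subtype_le H, ?_, ?_, ?_⟩
  · rintro _ ⟨h, hh, rfl⟩ hx
    have h1 : h ∈ (cSig M A).subgroupOf U := Subgroup.mem_subgroupOf.mpr hx
    have h2 : h = 1 := Subgroup.disjoint_def.mp hH.disjoint h1 hh
    rw [h2]
    rfl
  · intro e he
    obtain ⟨⟨⟨k, hk⟩, ⟨h, hh⟩⟩, hkh⟩ := hH.2 (⟨e, he⟩ : ↥U)
    refine ⟨(k : G), Subgroup.mem_subgroupOf.mp hk, (h : G), ⟨h, hh, rfl⟩, ?_⟩
    have h1 := congrArg Subtype.val hkh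
    simpa using h1.symm
  · have h1 := hH.card_mul_card
    rw [hKcard] at h1
    rw [Subgroup.card_map_of_injective U.subtype_injective]
    exact h1

/-- **12.12(b)** relative to `U` in the nonabelian case -/
theorem part_b_U (c : CN M E p A) (u : USub M E U) :
    ∃ U₀ : Subgroup G, U₀ ≤ U ∧ Monoid.exponent ↥U₀ = Monoid.exponent ↥U ∧
      ∀ e ∈ U₀, e ≠ 1 → Reg M e := by
  have hG := c.hG
  have dT := c.dT
  obtain ⟨U₀, hU₀U, hU₀A₀, hdec, hcard⟩ := c.exists_compl_U u
  have hAU : A ≤ U := by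
    obtain ⟨S', hAS', hS'⟩ := exists_sylIn_ge c.hAE dT.isPGroup
    exact hAS'.trans (u.le_of_sylIn_tau2 c.hpτ hS')
  have hpU₀ : p ∣ Nat.card U₀ := by
    have h1 : p ^ 2 ∣ Nat.card U := by
      rw [← c.hAc]
      exact Subgroup.card_dvd_of_le hAU
    rw [← hcard, pow_two] at h1
    exact Nat.dvd_of_mul_dvd_mul_left hp.out.pos h1
  have hpexp : p ∣ Monoid.exponent ↥U₀ := by
    obtain ⟨x, hxo⟩ := exists_prime_orderOf_dvd_card' p hpU₀
    rw [← hxo]
    exact Monoid.order_dvd_exponent x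
  have hidx : U₀.relIndex U = p := by
    have h1 := relIndex_mul_card' hU₀U
    rw [← hcard] at h1
    exact Nat.eq_of_mul_eq_mul_right Nat.card_pos h1
  refine ⟨U₀, hU₀U, ?_, ?_⟩
  · apply exponent_eq_of_forall hU₀U
    intro r hr g hg hgo
    have hgE : g ∈ E := u.hUE hg
    by_cases hrp : r = p
    · subst hrp
      have hgp : IsPGroup r (Subgroup.zpowers g) := by
        obtain ⟨t, ht⟩ := hgo
        exact IsPGroup.of_card (n := t) (by rw [Nat.card_zpowers, ht])
      obtain ⟨S'', hgS'', hS''⟩ := exists_sylIn_ge (Subgroup.zpowers_le.mpr hgE) hgp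
      have hA₀S'' : cSig M A ≤ S'' :=
        hS''.normal_le c.cSig_le c.le_normalizer_cSig (dT.isPGroup.to_le inf_le_left)
      have hcS'' := comm_of_isMulCommutative
        (dT.abelian hG (sylIn_of_sylIn_compl hG c.hM c.hE c.hpτ.2.1 hS''))
      obtain ⟨a, ha, h, hh, hgah⟩ := hdec g hg
      have hgS : g ∈ S'' := hgS'' (Subgroup.mem_zpowers g)
      have hhS : h ∈ S'' := by
        have h0 : h = a⁻¹ * g := by rw [hgah]; group
        rw [h0]
        exact S''.mul_mem (S''.inv_mem (hA₀S'' ha)) hgS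
      have hcm : Commute a h := hcS'' a (hA₀S'' ha) h hhS
      have h1 : orderOf g ∣ Nat.lcm (orderOf a) (orderOf h) := by
        rw [hgah]
        exact hcm.orderOf_mul_dvd_lcm
      apply h1.trans
      apply Nat.lcm_dvd
      · have h2 : orderOf a ∣ r := by
          rw [← c.card_cSig]
          exact Subgroup.orderOf_dvd_natCard _ ha
        exact h2.trans hpexp
      · exact orderOf_dvd_exponent_of_mem hh
    · obtain ⟨R, -, hR⟩ := exists_sylIn_ge (bot_le : (⊥ : Subgroup G) ≤ U₀)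
        (IsPGroup.of_bot (p := r))
      have hRU : SylIn r U R := by
        refine ⟨hR.1.trans hU₀U, hR.2.1, ?_⟩
        rw [← Subgroup.relIndex_mul_relIndex R U₀ U hR.1 hU₀U, hidx]
        intro hd
        rcases (Nat.Prime.dvd_mul hr.out).mp hd with h | h
        · exact hR.2.2 h
        · exact hrp ((Nat.prime_dvd_prime_iff_eq hr.out hp.out).mp h)
      exact orderOf_dvd_exponent_of_sylIn hR.1 hRU hg hgo
  · intro e he he1
    have ho1 : orderOf e ≠ 1 := fun h => he1 (orderOf_eq_one_iff.mp h)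
    obtain ⟨r, hr, hrd⟩ := Nat.exists_prime_and_dvd ho1
    have ho0 : orderOf e ≠ 0 := (orderOf_pos e).ne'
    have hzo : orderOf (e ^ (orderOf e / r)) = r := orderOf_pow_orderOf_div ho0 hrd
    apply reg_of_pow (k := orderOf e / r)
    set z := e ^ (orderOf e / r) with hz
    have hz1 : z ≠ 1 := by
      intro h
      rw [h, orderOf_one] at hzo
      exact hr.one_lt.ne hzo
    have hzU₀ : z ∈ U₀ := Subgroup.pow_mem _ he _
    have hzU : z ∈ U := hU₀U hzU₀
    have hzE : z ∈ E := u.hUE hzU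
    by_cases hrp : r = p
    · subst hrp
      have hXc : Nat.card (Subgroup.zpowers z) = r := by rw [Nat.card_zpowers, hzo]
      have hXne : Subgroup.zpowers z ≠ cSig M A := by
        intro h
        apply hz1
        apply hU₀A₀ z hzU₀
        rw [← h]
        exact Subgroup.mem_zpowers z
      have hreg := c.reg_of_ne (Subgroup.zpowers_le.mpr hzE) hXc hXne
      exact (reg_iff_line hXc (Subgroup.mem_zpowers z) hz1).mpr hreg
    · have hrE : r ∣ Nat.card E := by
        rw [← hzo]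
        exact Subgroup.orderOf_dvd_natCard E hzE
      have hrσ := not_sigma_of_dvd_card_compl hG c.hM c.hE hr hrE
      have hrM := hrE.trans (Subgroup.card_dvd_of_le c.hE.1)
      rcases tau_cases hG c.hM hr hrσ hrM with h2 | h13
      · rw [c.tau2_eq, Set.mem_singleton_iff] at h2
        exact absurd h2 hrp
      · apply u.hH z hzU hz1
        intro q hq hqd
        rw [hzo] at hqd
        rw [(Nat.prime_dvd_prime_iff_eq hq hr).mp hqd]
        exact h13

end CN

/-- **12.12** relative to `U` -/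
theorem theorem_12_12_U (hG : IsMinSimpleOddOrder G) {M E U : Subgroup G} (hM : IsCoatom M)
    (hE : IsComplIn E (sigmaCore M) M) (u : USub M E U) :
    (∃ A₀ : Subgroup G, IsMulCommutative ↥A₀ ∧
      ∀ x ∈ sigmaCore M, x ≠ 1 → U ⊓ Subgroup.centralizer ({x} : Set G) ≤ A₀) ∧
    ∃ U₀ : Subgroup G, U₀ ≤ U ∧ Monoid.exponent ↥U₀ = Monoid.exponent ↥U ∧
      ∀ e ∈ U₀, e ≠ 1 → Reg M e := by
  by_cases hab : AbCase G M
  · exact ⟨hab.part_a_U hG hM hE u, hab.part_b_U hG hM hE u⟩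
  · unfold AbCase at hab
    push Not at hab
    obtain ⟨p, hp, hpτ, P, hP⟩ := hab
    have hna : ∀ S : Sylow p G, ¬ IsMulCommutative ↥(S : Subgroup G) := fun S hS =>
      hP (sylow_comm_all hS P)
    obtain ⟨A, c⟩ := exists_CN hG hM hE hpτ hna
    exact ⟨c.part_a_U u, c.part_b_U u⟩

end Cfsg.Agent.Lib.Helper2.BG12
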