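import Mathlib
import Cfsg.Agent.Lib.Helper2.BG12U3
import Cfsg.Agent.Lib.Helper4.BG14b

set_option autoImplicit false

/-!
# Bender–Glauberman Theorem I (e), (f): from the standard factorisation `M = K U M_σ`
-/

namespace Cfsg.Agent.Lib.Helper2.BG12

open Cfsg Cfsg.Agent.Lib.Lead Cfsg.Agent.Lib.Lead.BG10 Cfsg.Agent.Lib.Helper4 Cfsg.Agent.Lib.Helper7
open Cfsg.Agent.Lib.Helper4.BG7 Cfsg.Agent.Lib.Helper4.BG76 Cfsg.Agent.Lib.Helper4.BG8
open Cfsg.Agent.Lib.Helper4.BG9 Cfsg.Agent.Lib.Helper4.BG14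
open Cfsg.Agent.Lib.Helper4.ThreeStep Cfsg.Agent.Lib.Helper4.BG12 Cfsg.Agent.Lib.Helper2.BG11
open Cfsg.Agent.Lib.Lead.BG11
open scoped commutatorElement

universe u

variable {G : Type u} [Group G] [Finite G] {M K U : Subgroup G}

theorem sd_K_inf_sigmaCore (h : IsSigmaDecomposition M K U) : K ⊓ sigmaCore M = ⊥ := by
  apply Subgroup.inf_eq_bot_of_coprime
  apply Nat.coprime_of_dvd
  intro r hr h1 h2
  have hrκ : r ∈ kappa M := h.hall.2.1 r hr h1
  rw [card_sigmaCore] at h2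
  exact hrκ.2.2.1 (isPiNum_card_piCore (sigma M) r hr h2)

/-- `U K` is a complement of `M_σ` in `M` -/
theorem sd_isComplIn (h : IsSigmaDecomposition M K U) :
    IsComplIn (U ⊔ K) (sigmaCore M) M := by
  have hKM : K ≤ M := h.hall.1
  refine ⟨sup_le h.compl.1 hKM, sigmaCore_le M, ?_, ?_⟩
  · rw [eq_bot_iff]
    rintro e ⟨heE, heσ⟩
    have hem : e ∈ ((U ⊔ K : Subgroup G) : Set G) := heE
    rw [Subgroup.coe_mul_of_right_le_normalizer_left U K h.normal] at hem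
    obtain ⟨u', hu', k, hk, huk⟩ := Set.mem_mul.mp hem
    have h1 : u' ∈ U ⊓ (K ⊔ sigmaCore M) := by
      refine ⟨hu', ?_⟩
      have h0 : u' = e * k⁻¹ := by rw [← huk]; group
      rw [h0]
      exact Subgroup.mul_mem _ ((le_sup_right : sigmaCore M ≤ K ⊔ sigmaCore M) heσ)
        (Subgroup.inv_mem _ ((le_sup_left : K ≤ K ⊔ sigmaCore M) hk))
    rw [h.compl.2.2.1, Subgroup.mem_bot] at h1
    have h2 : e = k := by rw [← huk, h1, one_mul]
    have h3 : e ∈ K ⊓ sigmaCore M := ⟨h2 ▸ hk, heσ⟩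
    rw [sd_K_inf_sigmaCore h, Subgroup.mem_bot] at h3
    exact Subgroup.mem_bot.mpr h3
  · intro m hm
    obtain ⟨a, ha, b, hb, rfl⟩ := h.compl.2.2.2 m hm
    have hbm : b ∈ ((K ⊔ sigmaCore M : Subgroup G) : Set G) := hb
    rw [Subgroup.coe_mul_of_left_le_normalizer_right K (sigmaCore M)
      (hKM.trans (le_normalizer_sigmaCore M))] at hbm
    obtain ⟨k, hk, s, hs, hks⟩ := Set.mem_mul.mp hbm
    refine ⟨a * k, Subgroup.mul_mem _ ((le_sup_left : U ≤ U ⊔ K) ha)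
      ((le_sup_right : K ≤ U ⊔ K) hk), s, hs, ?_⟩
    rw [← hks, mul_assoc]

theorem relIndex_sup_dvd_card {U K : Subgroup G} (hn : K ≤ Subgroup.normalizer (U : Set G)) :
    U.relIndex (U ⊔ K) ∣ Nat.card K := by
  have hWn : U ⊔ K ≤ Subgroup.normalizer (U : Set G) := sup_le Subgroup.le_normalizer hn
  haveI : (U.subgroupOf (U ⊔ K)).Normal := Subgroup.normal_subgroupOf_of_le_normalizer hWn
  let f : ↥K →* ↥(U ⊔ K) ⧸ U.subgroupOf (U ⊔ K) :=
    (QuotientGroup.mk' (U.subgroupOf (U ⊔ K))).comp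
      (Subgroup.inclusion (le_sup_right : K ≤ U ⊔ K))
  have hf : Function.Surjective f := by
    intro q
    obtain ⟨⟨w, hw⟩, rfl⟩ := QuotientGroup.mk'_surjective _ q
    have hwm : w ∈ ((U ⊔ K : Subgroup G) : Set G) := hw
    rw [Subgroup.coe_mul_of_right_le_normalizer_left U K hn] at hwm
    obtain ⟨a, ha, k, hk, hak⟩ := Set.mem_mul.mp hwm
    refine ⟨⟨k, hk⟩, ?_⟩
    show ((⟨k, (le_sup_right : K ≤ U ⊔ K) hk⟩ : ↥(U ⊔ K)) : ↥(U ⊔ K) ⧸ U.subgroupOf (U ⊔ K)) =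
      ((⟨w, hw⟩ : ↥(U ⊔ K)) : ↥(U ⊔ K) ⧸ U.subgroupOf (U ⊔ K))
    rw [QuotientGroup.eq, Subgroup.mem_subgroupOf]
    show k⁻¹ * w ∈ U
    rw [← hak]
    have h1 := (Subgroup.mem_normalizer_iff.mp (Subgroup.inv_mem _ (hn hk)) a).mp ha
    have h2 : k⁻¹ * (a * k) = k⁻¹ * a * k⁻¹⁻¹ := by group
    rw [h2]
    exact h1
  have h1 := Subgroup.card_dvd_of_surjective f hf
  rw [← Subgroup.index_eq_card] at h1
  exact h1

theorem sd_relIndex_dvd (h : IsSigmaDecomposition M K U) : U.relIndex (U ⊔ K) ∣ Nat.card K :=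
  relIndex_sup_dvd_card h.normal

/-- the standard factorisation gives a `USub` datum -/
theorem sd_uSub (h : IsSigmaDecomposition M K U) (hG : IsMinSimpleOddOrder G) (hM : IsCoatom M) :
    USub M (U ⊔ K) U := by
  refine ⟨le_sup_left, sup_le Subgroup.le_normalizer h.normal, ?_, ?_, ?_⟩
  · intro r hr hrU hd
    exact sd_not_kappa h hr hrU (h.hall.2.1 r hr (hd.trans (sd_relIndex_dvd h)))
  · intro p hpτ hd
    have hpκ : p ∈ kappa M := h.hall.2.1 p hpτ.1 (hd.trans (sd_relIndex_dvd h))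
    haveI : Fact p.Prime := ⟨hpτ.1⟩
    obtain ⟨P⟩ : Nonempty (Sylow p ↥M) := inferInstance
    haveI := (hpκ.2.2.2 P).1
    haveI hTc : IsCyclic ↥((P : Subgroup ↥M).map M.subtype) :=
      isCyclic_of_surjective
        ((P : Subgroup ↥M).equivMapOfInjective M.subtype M.subtype_injective)
        ((P : Subgroup ↥M).equivMapOfInjective M.subtype M.subtype_injective).surjective
    have h2 : PRankLE p 1 ↥((P : Subgroup ↥M).map M.subtype) := BG13.prankLE_one_of_isCyclic p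
    exact hpτ.2.2.2 (prankLE_of_sylIn (sylIn_map_sylow P) h2)
  · intro e he he1 hτ
    by_contra hne
    have hXU : Subgroup.zpowers e ≤ U := Subgroup.zpowers_le.mpr he
    have hXc : sigmaCore M ⊓ Subgroup.centralizer ((Subgroup.zpowers e : Subgroup G) : Set G) ≠ ⊥ := by
      rw [centralizer_zpowers]
      exact hne
    have ho1 : orderOf e ≠ 1 := fun h0 => he1 (orderOf_eq_one_iff.mp h0)
    obtain ⟨r, hr, hrd⟩ := Nat.exists_prime_and_dvd ho1
    have hd : r ∣ Nat.card (Subgroup.zpowers e) := by rw [Nat.card_zpowers]; exact hrd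
    have h2 := sd_mem_tau2 h hG hM hXU hXc hr hd
    rcases hτ r hr hrd with h13 | h13
    · exact h2.2.2.2 h13.2.2.2.2
    · exact h2.2.2.2 h13.2.2.2

end Cfsg.Agent.Lib.Helper2.BG12
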