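import Mathlib
import Cfsg.Agent.S1415
import Cfsg.Agent.S1427
import Cfsg.Agent.Lib.Helper4.BG13m

set_option autoImplicit false
set_option linter.style.haveILetI false
set_option linter.unusedSectionVars false

/-! B and G, Corollary 13.5, from 13.3(a) (= S1427) and 13.4 (= S1428, taken as a hypothesis). -/

namespace Cfsg.Agent.Lib.Helper2.BG13x

open Cfsg Cfsg.Agent.Lib.Helper4 Cfsg.Agent.Lib.Helper4.BG13 Cfsg.Agent.Lib.Helper4.BG7
  Cfsg.Agent.Lib.Helper4.BG8

universe u

variable {G : Type u} [Group G] [Finite G]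

/-- the statement of S1428 (B and G, Theorem 13.4) for the group `G` -/
def T1428 (G : Type u) [Group G] [Finite G] : Prop :=
  ∀ (M : Subgroup G), IsCoatom M → ∀ (E : Subgroup G), Cfsg.IsComplIn E (Cfsg.sigmaCore M) M →
    ∀ (p : ℕ), p ∈ Cfsg.tau1 M → ∀ (P : Subgroup G), P ≤ E → Nat.card P = p →
    ∀ (R : Subgroup G), R ≤ E ⊓ Subgroup.centralizer (P : Set G) → (Nat.card R).Prime →
      Cfsg.sigmaCore M ⊓ Subgroup.centralizer (P : Set G) ≤
        Cfsg.sigmaCore M ⊓ Subgroup.centralizer (R : Set G)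

theorem centralizer_zpowers' (x : G) :
    Subgroup.centralizer ((Subgroup.zpowers x : Subgroup G) : Set G) =
      Subgroup.centralizer ({x} : Set G) := by
  rw [Subgroup.zpowers_eq_closure, Subgroup.centralizer_closure]

/-- a Sylow subgroup of a Hall subgroup containing a given `p`-element -/
theorem exists_sylIn_of_hall {p : ℕ} [hp : Fact p.Prime] {E E₁ : Subgroup G} (hE₁E : E₁ ≤ E)
    (hidx : ¬ p ∣ E₁.relIndex E) {z : G} (hz : z ∈ E₁) (hzp : IsPGroup p (Subgroup.zpowers z)) :
    ∃ T : Subgroup G, z ∈ T ∧ T ≤ E₁ ∧ SylIn p E T ∧ SylIn p E₁ T := by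
  obtain ⟨T, hzT, hT⟩ := exists_sylIn_ge (Subgroup.zpowers_le.mpr hz) hzp
  refine ⟨T, hzT (Subgroup.mem_zpowers z), hT.1, ⟨hT.1.trans hE₁E, hT.2.1, ?_⟩, hT⟩
  rw [← Subgroup.relIndex_mul_relIndex T E₁ E hT.1 hE₁E]
  intro hd
  rcases (Nat.Prime.dvd_mul hp.out).mp hd with h | h
  · exact hT.2.2 h
  · exact hidx h

/-- 13.3(a) in `SylIn` form -/
theorem primact_sylIn (hG : IsMinSimpleOddOrder G) {M : Subgroup G} (hM : IsCoatom M)
    {E : Subgroup G} (hE : Cfsg.IsComplIn E (Cfsg.sigmaCore M) M) {p : ℕ} [hp : Fact p.Prime]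
    {T : Subgroup G} (hT : SylIn p E T) (hTc : IsCyclic ↥T) {z : G} (hz : z ∈ T) (hz1 : z ≠ 1) :
    Cfsg.sigmaCore M ⊓ Subgroup.centralizer ({z} : Set G) =
      Cfsg.sigmaCore M ⊓ Subgroup.centralizer (T : Set G) := by
  obtain ⟨S, hS⟩ := SylIn.exists_sylow hT
  have hS1 : (S : Subgroup E) ≠ ⊥ := by
    intro h0
    rw [h0, Subgroup.map_bot] at hS
    rw [← hS, Subgroup.mem_bot] at hz
    exact hz1 hz
  have hSc : IsCyclic (S : Subgroup E) := by
    have e : ↥(S : Subgroup E) ≃* ↥((S : Subgroup E).map E.subtype) :=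
      (S : Subgroup E).equivMapOfInjective E.subtype E.subtype_injective
    have h2 : IsCyclic ↥((S : Subgroup E).map E.subtype) := by rw [hS]; exact hTc
    exact isCyclic_of_surjective e.symm.toMonoidHom (MulEquiv.surjective _)
  have h := Cfsg.Agent.S1427.result hG M hM E hE p S hS1 hSc z (by rw [hS]; exact hz) hz1
  rw [hS] at h
  exact h

/-- **B and G, Corollary 13.5** (with Theorem 13.4 as a hypothesis) -/
theorem lemma_13_5 (hG : IsMinSimpleOddOrder G) (h1428 : T1428 G) {M : Subgroup G}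
    (hM : IsCoatom M) {E : Subgroup G} (hE : Cfsg.IsComplIn E (Cfsg.sigmaCore M) M)
    {E₁ : Subgroup G} (hE₁ : Cfsg.IsPiHallOf (Cfsg.tau1 M) E₁ E) :
    ∀ x ∈ E₁, x ≠ 1 →
      Cfsg.sigmaCore M ⊓ Subgroup.centralizer ({x} : Set G) =
        Cfsg.sigmaCore M ⊓ Subgroup.centralizer (E₁ : Set G) := by
  classical
  intro x hx hx1
  have hcyc : IsCyclic ↥E₁ := (Cfsg.Agent.S1415.result hG M hM E hE).2.1 E₁ hE₁
  have hcomm : ∀ a ∈ E₁, ∀ b ∈ E₁, a * b = b * a := by
    intro a ha b hb
    let _ := IsCyclic.commGroup (α := ↥E₁)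
    have := mul_comm (⟨a, ha⟩ : ↥E₁) ⟨b, hb⟩
    exact congrArg Subtype.val this
  -- the key symmetric statement on elements of prime order
  have key : ∀ (p r : ℕ), p.Prime → r.Prime → ∀ y ∈ E₁, ∀ z ∈ E₁, orderOf y = p → orderOf z = r →
      Cfsg.sigmaCore M ⊓ Subgroup.centralizer ({y} : Set G) ≤
        Cfsg.sigmaCore M ⊓ Subgroup.centralizer ({z} : Set G) := by
    intro p r hp hr y hy z hz hyo hzo
    have hpc : p ∣ Nat.card ↥E₁ := by
      have h1 : orderOf (⟨y, hy⟩ : ↥E₁) = p := by rw [← hyo, ← Subgroup.orderOf_coe]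
      rw [← h1]; exact orderOf_dvd_natCard _
    have hpt : p ∈ Cfsg.tau1 M := hE₁.2.1 p hp hpc
    have h := h1428 M hM E hE p hpt (Subgroup.zpowers y)
      (Subgroup.zpowers_le.mpr (hE₁.1 hy)) (by rw [Nat.card_zpowers, hyo]) (Subgroup.zpowers z)
      (le_inf (Subgroup.zpowers_le.mpr (hE₁.1 hz)) ?_) (by rw [Nat.card_zpowers, hzo]; exact hr)
    · rw [centralizer_zpowers', centralizer_zpowers'] at h
      exact h
    · rw [centralizer_zpowers', Subgroup.zpowers_le, Subgroup.mem_centralizer_iff]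
      intro w hw
      rw [Set.mem_singleton_iff] at hw
      rw [hw]
      exact hcomm y hy z hz
  -- an element of prime order in `⟨x⟩`
  have hox : orderOf x ≠ 1 := fun h => hx1 (orderOf_eq_one_iff.mp h)
  set p := (orderOf x).minFac with hpdef
  have hp : p.Prime := Nat.minFac_prime hox
  have hpx : p ∣ orderOf x := Nat.minFac_dvd _
  set y := x ^ (orderOf x / p) with hydef
  have hyo : orderOf y = p := orderOf_pow_orderOf_div (orderOf_pos x).ne' hpx
  have hyE : y ∈ E₁ := E₁.pow_mem hx _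
  have hxy : Subgroup.centralizer ({x} : Set G) ≤ Subgroup.centralizer ({y} : Set G) := by
    rw [← centralizer_zpowers' x, ← centralizer_zpowers' y]
    exact Subgroup.centralizer_le
      (Subgroup.zpowers_le.mpr (Subgroup.pow_mem _ (Subgroup.mem_zpowers x) _))
  apply le_antisymm
  · apply le_inf inf_le_left
    -- the subgroup of `E₁` centralized by `H := M_σ ∩ C(y)` is everything
    set H := Cfsg.sigmaCore M ⊓ Subgroup.centralizer ({y} : Set G) with hH
    have hHx : Cfsg.sigmaCore M ⊓ Subgroup.centralizer ({x} : Set G) ≤ H :=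
      le_inf inf_le_left (inf_le_right.trans hxy)
    suffices hK : E₁ ≤ Subgroup.centralizer (H : Set G) by
      refine hHx.trans ?_
      intro h hh
      rw [Subgroup.mem_centralizer_iff]
      intro e he
      have := Subgroup.mem_centralizer_iff.mp (hK he) h hh
      exact this.symm
    set K := E₁ ⊓ Subgroup.centralizer (H : Set G) with hKdef
    have hKE : K ≤ E₁ := inf_le_left
    have hdvd : Nat.card ↥E₁ ∣ Nat.card ↥K := by
      rw [← Nat.factorization_prime_le_iff_dvd Nat.card_pos.ne' Nat.card_pos.ne']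
      intro r hr
      by_cases hrc : r ∣ Nat.card ↥E₁
      · haveI : Fact r.Prime := ⟨hr⟩
        obtain ⟨z', hz'⟩ := exists_prime_orderOf_dvd_card' (G := ↥E₁) r hrc
        have hzo : orderOf (z' : G) = r := by rw [Subgroup.orderOf_coe, hz']
        have hzp : IsPGroup r (Subgroup.zpowers (z' : G)) := by
          apply IsPGroup.of_card (n := 1)
          rw [Nat.card_zpowers, hzo, pow_one]
        have hrt : r ∈ Cfsg.tau1 M := hE₁.2.1 r hr hrc
        obtain ⟨T, hzT, hTE₁, hTE, hTE₁'⟩ :=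
          exists_sylIn_of_hall hE₁.1 (hE₁.2.2 r hr hrt) z'.2 hzp
        have hTc : IsCyclic ↥T := by
          have : IsCyclic ↥(T.subgroupOf E₁) := inferInstance
          exact isCyclic_of_surjective (Subgroup.subgroupOfEquivOfLe hTE₁).toMonoidHom
            (MulEquiv.surjective _)
        have hz1 : (z' : G) ≠ 1 := by
          intro h1
          rw [h1, orderOf_one] at hzo
          exact hr.one_lt.ne hzo
        have h1 := primact_sylIn hG hM hE hTE hTc hzT hz1
        have h2 : H ≤ Subgroup.centralizer (T : Set G) := by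
          have := key p r hp hr y hyE (z' : G) z'.2 hyo hzo
          rw [h1] at this
          exact this.trans inf_le_right
        have hTK : T ≤ K := by
          refine le_inf hTE₁ ?_
          intro t ht
          rw [Subgroup.mem_centralizer_iff]
          intro h hh
          have := Subgroup.mem_centralizer_iff.mp (h2 hh) t ht
          exact this.symm
        have h3 : Nat.card ↥T ∣ Nat.card ↥K := Subgroup.card_dvd_of_le hTK
        rw [SylIn.card_eq_pow hTE₁'] at h3
        exact (hr.pow_dvd_iff_le_factorization Nat.card_pos.ne').mp h3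
      · rw [Nat.factorization_eq_zero_of_not_dvd hrc]
        exact Nat.zero_le _
    have hle : Nat.card ↥E₁ ≤ Nat.card ↥K := Nat.le_of_dvd Nat.card_pos hdvd
    have hKeq : K = E₁ := Subgroup.eq_of_le_of_card_ge hKE hle
    rw [← hKeq]
    exact inf_le_right
  · apply le_inf inf_le_left
    refine inf_le_right.trans (Subgroup.centralizer_le ?_)
    intro z hz
    rw [Set.mem_singleton_iff] at hz
    rw [hz]
    exact hx

end Cfsg.Agent.Lib.Helper2.BG13x
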