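import Mathlib
import Cfsg.Agent.Lib.Helper2.BG13x1
import Cfsg.Agent.Lib.Helper4.BG18h
import Cfsg.Agent.Lib.Lead.BG13q3
import Cfsg.Agent.S1414
import Cfsg.Agent.S1426

set_option autoImplicit false
set_option linter.style.haveILetI false
set_option linter.unusedSectionVars false
set_option maxHeartbeats 800000

/-! B and G, Lemma 13.6, part 1: the normal `q`-complement of `M'` and its consequences. -/

namespace Cfsg.Agent.Lib.Helper2.BG13x

open Cfsg Cfsg.Agent.Lib.Lead Cfsg.Agent.Lib.Lead.BG10 Cfsg.Agent.Lib.Helper7 Cfsg.Agent.Lib.Helper4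
open Cfsg.Agent.Lib.Helper4.BG76 Cfsg.Agent.Lib.Helper4.BG8 Cfsg.Agent.Lib.Helper4.BG9
open Cfsg.Agent.Lib.Helper4.BG7 Cfsg.Agent.Lib.Helper4.BG12 Cfsg.Agent.Lib.Helper4.BGConj
open Cfsg.Agent.Lib.Helper4.BG13 Cfsg.Agent.Lib.Lead.BG95 Cfsg.Agent.Lib.Lead.BG12q
open Cfsg.Agent.Lib.Lead.BG11 Cfsg.Agent.Lib.Lead.BG13q Cfsg.Agent.Lib.Helper4.BG18
open scoped commutatorElement

universe u

variable {G : Type u} [Group G] [Finite G]

theorem le_normalizer_commutator_self (M : Subgroup G) :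
    M ≤ Subgroup.normalizer ((⁅M, M⁆ : Subgroup G) : Set G) :=
  (le_inf Subgroup.le_normalizer Subgroup.le_normalizer).trans
    (normalizer_inf_le_normalizer_commutator M M)

/-- the normal `q`-complement `K` of `M'`, for `q ∉ β(M)` -/
theorem npc_commutator (hG : IsMinSimpleOddOrder G) {M : Subgroup G} (hM : IsCoatom M) {q : ℕ}
    [hq : Fact q.Prime] (hqM : q ∣ Nat.card M) (hqβ : q ∉ beta M) :
    ∃ K : Subgroup G, K ≤ ⁅M, M⁆ ∧ M ≤ Subgroup.normalizer (K : Set G) ∧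
      (Nat.card K).Coprime q ∧
      ∀ Y : Subgroup G, Y ≤ ⁅M, M⁆ → (Nat.card Y).Coprime q → Y ≤ K := by
  obtain ⟨-, -, -, -, h5⟩ := Cfsg.Agent.S1414.result hG M hM
  obtain ⟨hnpc, -, -⟩ := h5 q hq.out hqM hqβ
  obtain ⟨k, hk⟩ := npc_of_hasNormalPComplement hnpc
  set M' : Subgroup G := ⁅M, M⁆ with hM'
  have hKn : M' ≤ Subgroup.normalizer (cG q M' : Set G) := le_normalizer_cG q M'
  refine ⟨cG q M', cG_le q M', ?_, card_cG_coprime q M', ?_⟩
  · refine (le_normalizer_commutator_self M).trans ?_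
    haveI : (pPrimeCore q ↥M').Characteristic := Cfsg.Agent.Lib.Helper3.pPrimeCore_characteristic q
    exact le_normalizer_map_characteristic M' (pPrimeCore q ↥M')
  · intro Y hY hYc
    rw [← Subgroup.relIndex_eq_one]
    have hYn : Y ≤ Subgroup.normalizer (cG q M' : Set G) := hY.trans hKn
    have h1 : (cG q M').relIndex (Y ⊔ cG q M') = (cG q M').relIndex Y :=
      relIndex_sup_of_le_normalizer Y (cG q M') hYn
    have h2 : (cG q M').relIndex (Y ⊔ cG q M') ∣ (cG q M').relIndex M' := by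
      have := Subgroup.relIndex_mul_relIndex (cG q M') (Y ⊔ cG q M') M' le_sup_right
        (sup_le hY (cG_le q M'))
      exact Dvd.intro _ this
    rw [h1, hk] at h2
    have h3 : (cG q M').relIndex Y ∣ Nat.card Y := Subgroup.relIndex_dvd_card _ _
    have h4 : ((cG q M').relIndex Y).Coprime (q ^ k) :=
      Nat.Coprime.pow_right k (Nat.Coprime.coprime_dvd_left h3 hYc)
    exact Nat.Coprime.eq_one_of_dvd h4 h2

/-- the elements `a` of `N(T)` with `[a, x] ∈ T` form a subgroup -/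
def commFix (T : Subgroup G) (x : G) : Subgroup G where
  carrier := {a | a ∈ Subgroup.normalizer (T : Set G) ∧ a * x * a⁻¹ * x⁻¹ ∈ T}
  one_mem' := ⟨Subgroup.one_mem _, by simp⟩
  mul_mem' := by
    rintro a b ⟨ha, ha'⟩ ⟨hb, hb'⟩
    refine ⟨Subgroup.mul_mem _ ha hb, ?_⟩
    have h1 : a * (b * x * b⁻¹ * x⁻¹) * a⁻¹ ∈ T := (Subgroup.mem_normalizer_iff.mp ha _).mp hb'
    have e : a * b * x * (a * b)⁻¹ * x⁻¹ =
        (a * (b * x * b⁻¹ * x⁻¹) * a⁻¹) * (a * x * a⁻¹ * x⁻¹) := by group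
    rw [e]
    exact T.mul_mem h1 ha'
  inv_mem' := by
    rintro a ⟨ha, ha'⟩
    refine ⟨Subgroup.inv_mem _ ha, ?_⟩
    have h1 : a⁻¹ * (a * x * a⁻¹ * x⁻¹)⁻¹ * a⁻¹⁻¹ ∈ T :=
      (Subgroup.mem_normalizer_iff.mp (Subgroup.inv_mem _ ha) _).mp (T.inv_mem ha')
    have e : a⁻¹ * x * a⁻¹⁻¹ * x⁻¹ = a⁻¹ * (a * x * a⁻¹ * x⁻¹)⁻¹ * a⁻¹⁻¹ := by group
    rw [e]
    exact h1

theorem mem_commFix {T : Subgroup G} {x a : G} :
    a ∈ commFix T x ↔ a ∈ Subgroup.normalizer (T : Set G) ∧ a * x * a⁻¹ * x⁻¹ ∈ T := Iff.rfl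

/-- the orders of a complement `E` and of `M_σ` are coprime -/
theorem coprime_card_compl_sigmaCore (hG : IsMinSimpleOddOrder G) {M E : Subgroup G}
    (hM : IsCoatom M) (hE : IsComplIn E (sigmaCore M) M) :
    (Nat.card E).Coprime (Nat.card (sigmaCore M)) := by
  apply Nat.coprime_of_dvd
  intro t ht h1 h2
  exact not_sigma_of_dvd_card_compl hG hM hE ht h1 ((sigmaCore_hall hG hM).1.2.1 t ht h2)

/-- **Principle C**: for `q ∈ σ(M) ∖ β(M)`, a `q`-subgroup of `M_σ` centralized by a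
supplement of `E'` in `E` lies in `(M_σ)'`. -/
theorem le_commutator_sigmaCore_of_centralized (hG : IsMinSimpleOddOrder G) {M E : Subgroup G}
    (hM : IsCoatom M) (hE : IsComplIn E (sigmaCore M) M) {q : ℕ} [hq : Fact q.Prime]
    (hqσ : q ∈ sigma M) (hqβ : q ∉ beta M) {E₀ : Subgroup G} (hE₀ : E₀ ≤ E)
    (hEE₀ : E ≤ ⁅E, E⁆ ⊔ E₀) {X : Subgroup G} (hXM : X ≤ sigmaCore M) (hXq : IsPGroup q X)
    (hXE₀ : X ≤ Subgroup.centralizer (E₀ : Set G)) :
    X ≤ ⁅sigmaCore M, sigmaCore M⁆ := by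
  have hqM : q ∣ Nat.card M := hqσ.2.1
  obtain ⟨K, hKM', hMK, hKc, hKmax⟩ := npc_commutator hG hM hqM hqβ
  set Ms := sigmaCore M with hMs
  set T₀ := K ⊓ Ms with hT₀
  have hMsM : Ms ≤ M := sigmaCore_le M
  have hMMs : M ≤ Subgroup.normalizer (Ms : Set G) := le_normalizer_sigmaCore M
  have hMT₀ : M ≤ Subgroup.normalizer (T₀ : Set G) := le_normalizer_inf' hMK hMMs
  have hEM : E ≤ M := hE.1
  have hE'K : ⁅E, E⁆ ≤ K := by
    apply hKmax _ (Subgroup.commutator_mono hEM hEM)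
    have h1 : Nat.card ↥⁅E, E⁆ ∣ Nat.card E := Subgroup.card_dvd_of_le (BG10.commutator_self_le E)
    have h2 : ¬ q ∣ Nat.card E := fun hd =>
      not_sigma_of_dvd_card_compl hG hM hE hq.out hd hqσ
    exact Nat.Coprime.coprime_dvd_left h1 ((Nat.Prime.coprime_iff_not_dvd hq.out).mpr h2).symm
  have hfix : ∀ x ∈ X, ∀ a ∈ E, a * x * a⁻¹ * x⁻¹ ∈ T₀ := by
    intro x hx
    have hxMs : x ∈ Ms := hXM hx
    have hxM : x ∈ M := hMsM hxMs
    have h1 : ⁅E, E⁆ ≤ commFix T₀ x := by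
      intro a ha
      have haK := hE'K ha
      have haM : a ∈ M := hEM (BG10.commutator_self_le E ha)
      refine ⟨hMT₀ haM, Subgroup.mem_inf.mpr ⟨?_, ?_⟩⟩
      · have h3 : x * a⁻¹ * x⁻¹ ∈ K :=
          (Subgroup.mem_normalizer_iff.mp (hMK hxM) _).mp (K.inv_mem haK)
        have e : a * x * a⁻¹ * x⁻¹ = a * (x * a⁻¹ * x⁻¹) := by group
        rw [e]
        exact K.mul_mem haK h3
      · have h3 : a * x * a⁻¹ ∈ Ms := (Subgroup.mem_normalizer_iff.mp (hMMs haM) _).mp hxMs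
        exact Ms.mul_mem h3 (Ms.inv_mem hxMs)
    have h2 : E₀ ≤ commFix T₀ x := by
      intro a ha
      refine ⟨hMT₀ (hEM (hE₀ ha)), ?_⟩
      have h3 := Subgroup.mem_centralizer_iff.mp (hXE₀ hx) a ha
      have e : a * x * a⁻¹ * x⁻¹ = 1 := by rw [h3]; group
      rw [e]
      exact T₀.one_mem
    intro a ha
    exact ((hEE₀.trans (sup_le h1 h2)) ha).2
  have hcop : (Nat.card E).Coprime (Nat.card Ms) := coprime_card_compl_sigmaCore hG hM hE
  have hsolv : Group.IsSolvable ↥E := solvable_of_ne_top hG (ne_top_of_le_ne_top hM.1 hEM)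
  have h1426 := (Cfsg.Agent.S1426.result hG M hM E hE).1
  -- `X ≤ (M_σ)' T₀`
  have hX1 : X ≤ ⁅Ms, Ms⁆ ⊔ T₀ := by
    intro x hx
    obtain ⟨c, hc, hxc⟩ := coprime_fixed_coset E Ms (hEM.trans hMMs) hcop (Or.inl hsolv) T₀
      inf_le_right (hMsM.trans hMT₀) (hEM.trans hMT₀) x (hXM hx) (hfix x hx)
    have hc' : c ∈ ⁅Ms, Ms⁆ := h1426 hc
    have e : x = c * (x⁻¹ * c)⁻¹ := by group
    rw [e]
    exact Subgroup.mul_mem_sup hc' (T₀.inv_mem hxc)
  have hT₀n : T₀ ≤ Subgroup.normalizer ((⁅Ms, Ms⁆ : Subgroup G) : Set G) :=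
    (inf_le_right : T₀ ≤ Ms).trans (le_normalizer_commutator_self Ms)
  apply le_of_not_dvd_relIndex (q := q) (le_sup_left : ⁅Ms, Ms⁆ ≤ ⁅Ms, Ms⁆ ⊔ T₀)
    (sup_le Subgroup.le_normalizer hT₀n) ?_ hX1 hXq
  rw [sup_comm, relIndex_sup_of_le_normalizer T₀ ⁅Ms, Ms⁆ hT₀n]
  intro hd
  have h3 : q ∣ Nat.card K :=
    (hd.trans (Subgroup.relIndex_dvd_card _ _)).trans (Subgroup.card_dvd_of_le inf_le_left)
  exact (Nat.Prime.coprime_iff_not_dvd hq.out).mp hKc.symm h3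

/-- a subgroup of `E` containing `E'` is normal in `E` -/
theorem le_normalizer_of_commutator_le {E D : Subgroup G} (hD : ⁅E, E⁆ ≤ D) (hDE : D ≤ E) :
    E ≤ Subgroup.normalizer (D : Set G) := by
  have key : ∀ e ∈ E, ∀ d ∈ D, e * d * e⁻¹ ∈ D := by
    intro e he d hd
    have h1 : ⁅e, d⁆ ∈ ⁅E, E⁆ := Subgroup.commutator_mem_commutator he (hDE hd)
    have e1 : e * d * e⁻¹ = ⁅e, d⁆ * d := by rw [commutatorElement_def]; group
    rw [e1]
    exact D.mul_mem (hD h1) hd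
  intro e he
  rw [Subgroup.mem_normalizer_iff]
  intro d
  constructor
  · exact key e he d
  · intro h
    have := key e⁻¹ (E.inv_mem he) _ h
    have e2 : e⁻¹ * (e * d * e⁻¹) * e⁻¹⁻¹ = d := by group
    rwa [e2] at this

/-- the normalizer of a cyclic group normalizes each of its subgroups -/
theorem normalizer_le_normalizer_of_cyclic {P₁ P : Subgroup G} (hc : IsCyclic ↥P₁) (hP : P ≤ P₁) :
    Subgroup.normalizer (P₁ : Set G) ≤ Subgroup.normalizer (P : Set G) := by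
  intro g hg
  rw [mem_normalizer_iff_cj]
  have h1 : cj g P ≤ P₁ := by
    have := cj_mono g hP
    rwa [mem_normalizer_iff_cj.mp hg] at this
  exact subgroup_eq_of_card_eq_of_le_cyclic P₁ (cj g P) P hc h1 hP (card_cj g P)

/-- Frattini: `E = E' N_E(P)` for a subgroup `P` of order `p ∈ τ₁(M)` -/
theorem le_commutator_sup_normalizer (hG : IsMinSimpleOddOrder G) {M E : Subgroup G}
    {p : ℕ} (hp : p ∈ tau1 M) (hEM : E ≤ M) {P : Subgroup G} (hPE : P ≤ E)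
    (hPp : IsPGroup p P) :
    E ≤ ⁅E, E⁆ ⊔ (E ⊓ Subgroup.normalizer (P : Set G)) := by
  haveI : Fact p.Prime := ⟨hp.1⟩
  obtain ⟨P₁, hPP₁, hP₁⟩ := exists_sylIn_ge hPE hPp
  have hp2 : p ≠ 2 :=
    ne_two_of_odd hG (hp.2.2.1.trans (Subgroup.card_subgroup_dvd_card M))
  have hcyc : IsCyclic ↥P₁ :=
    isCyclic_of_pRankLE_one hp2 hp.2.2.2.2 (hP₁.1.trans hEM) hP₁.2.1
  have hN : Subgroup.normalizer (P₁ : Set G) ≤ Subgroup.normalizer (P : Set G) :=
    normalizer_le_normalizer_of_cyclic hcyc hPP₁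
  set D := ⁅E, E⁆ ⊔ P₁ with hD
  have hDE : D ≤ E := sup_le (BG10.commutator_self_le E) hP₁.1
  have hED : E ≤ Subgroup.normalizer (D : Set G) := le_normalizer_of_commutator_le le_sup_left hDE
  have hP₁D : SylIn p D P₁ := hP₁.mono le_sup_right hDE
  have hP₁N : P₁ ≤ E ⊓ Subgroup.normalizer (P : Set G) :=
    le_inf hP₁.1 (Subgroup.le_normalizer.trans hN)
  intro h hh
  obtain ⟨d, hd, hdh⟩ := frattini_sylIn hED hP₁D hh
  have e : h = d * (d⁻¹ * h) := by group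
  rw [e]
  apply Subgroup.mul_mem
  · exact (sup_le le_sup_left (hP₁N.trans le_sup_right)) hd
  · apply Subgroup.mem_sup_right
    exact ⟨E.mul_mem (E.inv_mem (hDE hd)) hh, hN hdh⟩

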