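import Mathlib
import Cfsg.Agent.Lib.Helper2.BG13x2

set_option autoImplicit false
set_option linter.style.haveILetI false
set_option linter.unusedSectionVars false
set_option maxHeartbeats 800000

/-! B and G, Lemma 13.6, part 2: `τ₂(M) ≠ ∅`. -/

namespace Cfsg.Agent.Lib.Helper2.BG13x

open Cfsg Cfsg.Agent.Lib.Lead Cfsg.Agent.Lib.Lead.BG10 Cfsg.Agent.Lib.Helper7 Cfsg.Agent.Lib.Helper4
open Cfsg.Agent.Lib.Helper4.BG76 Cfsg.Agent.Lib.Helper4.BG8 Cfsg.Agent.Lib.Helper4.BG9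
open Cfsg.Agent.Lib.Helper4.BG7 Cfsg.Agent.Lib.Helper4.BG12 Cfsg.Agent.Lib.Helper4.BGConj
open Cfsg.Agent.Lib.Helper4.BG13 Cfsg.Agent.Lib.Lead.BG95 Cfsg.Agent.Lib.Lead.BG12q
open Cfsg.Agent.Lib.Lead.BG11 Cfsg.Agent.Lib.Lead.BG13q Cfsg.Agent.Lib.Helper4.BG18
open scoped commutatorElement

universe u

variable {G : Type u} [Group G] [Finite G]

/-- if `τ₂(M) = ∅` then `E = E' E₁` -/
theorem le_commutator_sup_tau1 (hG : IsMinSimpleOddOrder G) {M E E₁ : Subgroup G}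
    (hM : IsCoatom M) (hE : IsComplIn E (sigmaCore M) M) (hE₁ : IsPiHallOf (tau1 M) E₁ E)
    (hτ2 : ∀ r : ℕ, r ∉ tau2 M) : E ≤ ⁅E, E⁆ ⊔ E₁ := by
  apply le_of_sylows
  intro r hr hrE
  haveI : Fact r.Prime := ⟨hr⟩
  have hrσ : r ∉ sigma M := not_sigma_of_dvd_card_compl hG hM hE hr hrE
  have hrM : r ∣ Nat.card M := hrE.trans (Subgroup.card_dvd_of_le hE.1)
  rcases sigma_or_tau hG hM hrM with h | h | h | h
  · exact absurd h hrσ
  · -- `r ∈ τ₁(M)`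
    have hz : IsPGroup r (Subgroup.zpowers (1 : G)) := by
      rw [Subgroup.zpowers_one_eq_bot]
      exact IsPGroup.of_bot
    obtain ⟨T, -, hTE₁, hTE, -⟩ :=
      exists_sylIn_of_hall hE₁.1 (hE₁.2.2 r hr h) (Subgroup.one_mem E₁) hz
    exact ⟨T, hTE, hTE₁.trans le_sup_right⟩
  · exact absurd h (hτ2 r)
  · -- `r ∈ τ₃(M)`
    obtain ⟨Q, -, hQ⟩ := exists_sylIn_ge (p := r) (bot_le : (⊥ : Subgroup G) ≤ E) IsPGroup.of_bot
    refine ⟨Q, hQ, le_trans ?_ le_sup_left⟩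
    have hr2 : r ≠ 2 := ne_two_of_odd hG (hrM.trans (Subgroup.card_subgroup_dvd_card M))
    have hcyc : IsCyclic ↥Q := isCyclic_of_pRankLE_one hr2 h.2.2.2 (hQ.1.trans hE.1) hQ.2.1
    obtain ⟨T, hT⟩ := SylIn.exists_sylow hQ
    haveI : IsCyclic ↥(T : Subgroup ↥E) := by
      have e : ↥(T : Subgroup ↥E) ≃* ↥((T : Subgroup ↥E).map E.subtype) :=
        (T : Subgroup ↥E).equivMapOfInjective E.subtype E.subtype_injective
      have h2 : IsCyclic ↥((T : Subgroup ↥E).map E.subtype) := by rw [hT]; exact hcyc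
      exact isCyclic_of_surjective e.symm.toMonoidHom (MulEquiv.surjective _)
    have hd : r ∣ Nat.card ↥(commutator ↥E) := by
      have h3 := tau3_dvd_commutator hG hM hE h
      rw [← Subgroup.map_subtype_commutator E,
        Subgroup.card_map_of_injective E.subtype_injective] at h3
      exact h3
    have h4 := cyclic_sylow_le_commutator T hd
    rw [← hT, ← Subgroup.map_subtype_commutator E]
    exact Subgroup.map_mono h4

/-- **Lemma 13.6, Step 1**: a `q`-subgroup `X ≰ (M_σ)'` of `C_{M_σ}(E₁)`, `q ∉ β(M)`, forces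
`τ₂(M) ≠ ∅`. -/
theorem exists_tau2 (hG : IsMinSimpleOddOrder G) {M E E₁ : Subgroup G}
    (hM : IsCoatom M) (hE : IsComplIn E (sigmaCore M) M) (hE₁ : IsPiHallOf (tau1 M) E₁ E)
    {q : ℕ} [hq : Fact q.Prime] (hqσ : q ∈ sigma M) (hqβ : q ∉ beta M) {X : Subgroup G}
    (hXM : X ≤ sigmaCore M) (hXq : IsPGroup q X)
    (hXE₁ : X ≤ Subgroup.centralizer (E₁ : Set G))
    (hX' : ¬ X ≤ ⁅sigmaCore M, sigmaCore M⁆) : ∃ r : ℕ, r ∈ tau2 M := by
  by_contra hne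
  push Not at hne
  exact hX' (le_commutator_sigmaCore_of_centralized hG hM hE hqσ hqβ hE₁.1
    (le_commutator_sup_tau1 hG hM hE hE₁ hne) hXM hXq hXE₁)

end Cfsg.Agent.Lib.Helper2.BG13x
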