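import Mathlib
import Cfsg.Agent.Lib.Helper2.BG13x3
import Cfsg.Agent.Lib.Helper2.BG12f
import Cfsg.Agent.S1417
import Cfsg.Agent.S1418

set_option autoImplicit false
set_option linter.style.haveILetI false
set_option linter.unusedSectionVars false
set_option maxHeartbeats 800000

/-! B and G, Lemma 13.6, part 3: the configuration of a counterexample, nilpotent stage. -/

namespace Cfsg.Agent.Lib.Helper2.BG13x

open Cfsg Cfsg.Agent.Lib.Lead Cfsg.Agent.Lib.Lead.BG10 Cfsg.Agent.Lib.Helper7 Cfsg.Agent.Lib.Helper4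
open Cfsg.Agent.Lib.Helper4.BG76 Cfsg.Agent.Lib.Helper4.BG8 Cfsg.Agent.Lib.Helper4.BG9
open Cfsg.Agent.Lib.Helper4.BG7 Cfsg.Agent.Lib.Helper4.BG12 Cfsg.Agent.Lib.Helper4.BGConj
open Cfsg.Agent.Lib.Helper4.BG13 Cfsg.Agent.Lib.Lead.BG95 Cfsg.Agent.Lib.Lead.BG12q
open Cfsg.Agent.Lib.Lead.BG11 Cfsg.Agent.Lib.Lead.BG13q Cfsg.Agent.Lib.Helper4.BG18
open Cfsg.Agent.Lib.Helper2.BG12 Cfsg.Agent.Lib.Helper6
open scoped commutatorElement

universe u

variable {G : Type u} [Group G] [Finite G]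

/-- a noncyclic `q`-group (`q` odd) contains an elementary abelian subgroup of order `q ^ 2` -/
theorem exists_elementary_sq_of_not_cyclic {q : ℕ} [hq : Fact q.Prime] (hq2 : q ≠ 2)
    {T : Subgroup G} (hT : IsPGroup q ↥T) (hnc : ¬ IsCyclic ↥T) :
    ∃ A : Subgroup G, A ≤ T ∧ IsElementaryAbelian q A ∧ Nat.card A = q ^ 2 := by
  obtain ⟨W, -, hWc, hWe, hWcard⟩ := exists_normal_elementary_sq hq2 hT hnc
  refine ⟨W.map T.subtype, Subgroup.map_subtype_le _, ⟨⟨⟨?_⟩⟩, ?_⟩, ?_⟩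
  · rintro ⟨_, ⟨a, ha, rfl⟩⟩ ⟨_, ⟨b, hb, rfl⟩⟩
    apply Subtype.ext
    have := hWc.is_comm.comm ⟨a, ha⟩ ⟨b, hb⟩
    have h2 := congrArg (fun x : ↥W => ((x : ↥T) : G)) this
    simpa using h2
  · rintro _ ⟨a, ha, rfl⟩
    have := congrArg Subtype.val (hWe a ha)
    simpa using this
  · rw [Subgroup.card_map_of_injective T.subtype_injective, hWcard]

/-- the configuration of a counterexample to Lemma 13.6 -/
structure Cfg (M E E₁ P X : Subgroup G) (p q : ℕ) : Prop where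
  hM : IsCoatom M
  hE : IsComplIn E (sigmaCore M) M
  hE₁ : IsPiHallOf (tau1 M) E₁ E
  hPE₁ : P ≤ E₁
  hPc : Nat.card P = p
  hp : p ∈ tau1 M
  hXM : X ≤ sigmaCore M
  hXc : Nat.card X = q
  hq : q.Prime
  hXE₁ : X ≤ Subgroup.centralizer (E₁ : Set G)
  hqβ : q ∉ beta M
  hX' : ¬ X ≤ ⁅sigmaCore M, sigmaCore M⁆

namespace Cfg

variable {M E E₁ P X : Subgroup G} {p q : ℕ}

theorem hXq (c : Cfg M E E₁ P X p q) : IsPGroup q ↥X := isPGroup_of_card_eq c.hXc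

theorem hX1 (c : Cfg M E E₁ P X p q) : X ≠ ⊥ := ne_bot_of_card_prime (c.hXc ▸ c.hq)

theorem hPp (c : Cfg M E E₁ P X p q) : IsPGroup p ↥P := isPGroup_of_card_eq c.hPc

theorem hP1 (c : Cfg M E E₁ P X p q) : P ≠ ⊥ := ne_bot_of_card_prime (c.hPc ▸ c.hp.1)

theorem hPE (c : Cfg M E E₁ P X p q) : P ≤ E := c.hPE₁.trans c.hE₁.1

theorem hPM (c : Cfg M E E₁ P X p q) : P ≤ M := c.hPE.trans c.hE.1

theorem hXP (c : Cfg M E E₁ P X p q) : X ≤ Subgroup.centralizer (P : Set G) :=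
  c.hXE₁.trans (Subgroup.centralizer_le c.hPE₁)

theorem hqσ (c : Cfg M E E₁ P X p q) (hG : IsMinSimpleOddOrder G) : q ∈ sigma M := by
  apply (sigmaCore_hall hG c.hM).1.2.1 q c.hq
  rw [← c.hXc]
  exact Subgroup.card_dvd_of_le c.hXM

theorem exists_r (c : Cfg M E E₁ P X p q) (hG : IsMinSimpleOddOrder G) : ∃ r : ℕ, r ∈ tau2 M := by
  haveI : Fact q.Prime := ⟨c.hq⟩
  exact exists_tau2 hG c.hM c.hE c.hE₁ (c.hqσ hG) c.hqβ c.hXM c.hXq c.hXE₁ c.hX'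

/-- `M_σ` is nilpotent; its Sylow `q`-subgroup `S` is normal in `M` and centralized by `E'` -/
theorem nil_data (c : Cfg M E E₁ P X p q) (hG : IsMinSimpleOddOrder G) :
    Group.IsNilpotent ↥(sigmaCore M) ∧ ∃ S : Subgroup G, SylIn q (sigmaCore M) S ∧ X ≤ S ∧
      M ≤ Subgroup.normalizer (S : Set G) ∧ ⁅E, E⁆ ≤ Subgroup.centralizer (S : Set G) := by
  haveI : Fact q.Prime := ⟨c.hq⟩
  obtain ⟨r, hr⟩ := c.exists_r hG
  haveI : Fact r.Prime := ⟨hr.1⟩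
  obtain ⟨A, hAE, hAe, hAc⟩ := exists_sq_le_compl hG c.hM c.hE hr
  have h17 := Cfsg.Agent.S1417.result hG M c.hM r hr A ⟨hAE.trans c.hE.1, hAe, hAc⟩
  have hnil : Group.IsNilpotent ↥(sigmaCore M) := h17.1
  refine ⟨hnil, ?_⟩
  set Ms := sigmaCore M with hMs
  obtain ⟨S, hXS, hS⟩ := exists_sylIn_ge c.hXM c.hXq
  have hMsS : Ms ≤ Subgroup.normalizer (S : Set G) := sylIn_normal_of_isNilpotent hnil hS
  have hMS : M ≤ Subgroup.normalizer (S : Set G) := by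
    intro m hm
    rw [mem_normalizer_iff_cj]
    have h1 : cj m Ms = Ms := mem_normalizer_iff_cj.mp (le_normalizer_sigmaCore M hm)
    have h2 : SylIn q Ms (cj m S) := by
      have h3 : SylIn q (cj m Ms) (cj m S) :=
        ⟨cj_mono m hS.1, isPGroup_cj m hS.2.1, by rw [relIndex_cj]; exact hS.2.2⟩
      rwa [h1] at h3
    have h3 : cj m S ≤ S := hS.le_of_normal hMsS h2.1 h2.2.1
    exact Subgroup.eq_of_le_of_card_ge h3 (by rw [card_cj])
  refine ⟨S, hS, hXS, hMS, ?_⟩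
  have hqσ := c.hqσ hG
  obtain ⟨K, hKM', hMK, hKc, hKmax⟩ := npc_commutator hG c.hM hqσ.2.1 c.hqβ
  have hEM : E ≤ M := c.hE.1
  have hE'K : ⁅E, E⁆ ≤ K := by
    apply hKmax _ (Subgroup.commutator_mono hEM hEM)
    have h1 : Nat.card ↥⁅E, E⁆ ∣ Nat.card E := Subgroup.card_dvd_of_le (BG10.commutator_self_le E)
    have h2 : ¬ q ∣ Nat.card E := fun hd =>
      not_sigma_of_dvd_card_compl hG c.hM c.hE c.hq hd hqσ
    exact Nat.Coprime.coprime_dvd_left h1 ((Nat.Prime.coprime_iff_not_dvd c.hq).mpr h2).symm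
  have hKM : K ≤ M := hKM'.trans (Subgroup.commutator_le_self M)
  have hSM : S ≤ M := hS.1.trans (sigmaCore_le M)
  have hbot : S ⊓ K = ⊥ := isPGroup_inf_coprime_eq_bot hKc hS.2.1
  refine hE'K.trans ?_
  intro k hk
  rw [Subgroup.mem_centralizer_iff]
  intro s hs
  have h1 : k * s * k⁻¹ * s⁻¹ ∈ S ⊓ K := by
    refine Subgroup.mem_inf.mpr ⟨?_, ?_⟩
    · have h3 : k * s * k⁻¹ ∈ S := (Subgroup.mem_normalizer_iff.mp (hMS (hKM hk)) _).mp hs
      exact S.mul_mem h3 (S.inv_mem hs)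
    · have h3 : s * k⁻¹ * s⁻¹ ∈ K :=
        (Subgroup.mem_normalizer_iff.mp (hMK (hSM hs)) _).mp (K.inv_mem hk)
      have e : k * s * k⁻¹ * s⁻¹ = k * (s * k⁻¹ * s⁻¹) := by group
      rw [e]
      exact K.mul_mem hk h3
  rw [hbot, Subgroup.mem_bot] at h1
  have e : s * k = (k * s * k⁻¹ * s⁻¹)⁻¹ * (k * s) := by group
  rw [e, h1, inv_one, one_mul]

end Cfg

end Cfsg.Agent.Lib.Helper2.BG13x
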