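import Mathlib
import Cfsg.Agent.Lib.Helper2.BG13x4
import Cfsg.Agent.S1423

set_option autoImplicit false
set_option linter.style.haveILetI false
set_option linter.unusedSectionVars false
set_option maxHeartbeats 1600000

/-! B and G, Lemma 13.6, part 4: the maximal subgroup `H ≥ N_G(P)` and the final contradiction. -/

namespace Cfsg.Agent.Lib.Helper2.BG13x

open Cfsg Cfsg.Agent.Lib.Lead Cfsg.Agent.Lib.Lead.BG10 Cfsg.Agent.Lib.Helper7 Cfsg.Agent.Lib.Helper4
open Cfsg.Agent.Lib.Helper4.BG76 Cfsg.Agent.Lib.Helper4.BG8 Cfsg.Agent.Lib.Helper4.BG9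
open Cfsg.Agent.Lib.Helper4.BG7 Cfsg.Agent.Lib.Helper4.BG12 Cfsg.Agent.Lib.Helper4.BGConj
open Cfsg.Agent.Lib.Helper4.BG13 Cfsg.Agent.Lib.Lead.BG95 Cfsg.Agent.Lib.Lead.BG12q
open Cfsg.Agent.Lib.Lead.BG11 Cfsg.Agent.Lib.Lead.BG13q Cfsg.Agent.Lib.Helper4.BG18
open Cfsg.Agent.Lib.Helper2.BG12 Cfsg.Agent.Lib.Helper6
open scoped commutatorElement

universe u

variable {G : Type u} [Group G] [Finite G]

namespace Cfg

variable {M E E₁ P X : Subgroup G} {p q : ℕ}

/-- the contradiction, given a maximal subgroup `H` containing `N_G(P)` -/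
theorem false_of_H (c : Cfg M E E₁ P X p q) (hG : IsMinSimpleOddOrder G) {H : Subgroup G}
    (hH : IsCoatom H) (hNH : Subgroup.normalizer (P : Set G) ≤ H) : False := by
  classical
  haveI : Fact p.Prime := ⟨c.hp.1⟩
  haveI : Fact q.Prime := ⟨c.hq⟩
  have hqσ := c.hqσ hG
  obtain ⟨hnc, -, -, h4, h5, -⟩ :=
    corollary_13_2 hG c.hM hH (Or.inl c.hp) c.hPM c.hPp c.hP1 hNH
  obtain ⟨hnil, S, hS, hXS, hMS, hE'S⟩ := c.nil_data hG
  set Ms := sigmaCore M with hMs
  have hCH : Subgroup.centralizer (P : Set G) ≤ H :=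
    (Subgroup.centralizer_le_normalizer _).trans hNH
  have hPH : P ≤ H := Subgroup.le_normalizer.trans hNH
  have hXH : X ≤ H := c.hXP.trans hCH
  have hXMsH : X ≤ Ms ⊓ H := le_inf c.hXM hXH
  set E₀ := E ⊓ Subgroup.normalizer (P : Set G) with hE₀
  have hE₀MH : E₀ ≤ M ⊓ H := le_inf (inf_le_left.trans c.hE.1) (inf_le_right.trans hNH)
  have hEE₀ : E ≤ ⁅E, E⁆ ⊔ E₀ := le_commutator_sup_normalizer hG c.hp c.hE.1 c.hPE c.hPp
  have hR1 : ⁅Ms ⊓ H, M ⊓ H⁆ ≠ ⊥ := by
    intro h0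
    rw [Subgroup.commutator_eq_bot_iff_le_centralizer] at h0
    have h1 : X ≤ Subgroup.centralizer (E₀ : Set G) :=
      hXMsH.trans (h0.trans (Subgroup.centralizer_le hE₀MH))
    exact c.hX' (le_commutator_sigmaCore_of_centralized hG c.hM c.hE hqσ c.hqβ inf_le_left hEE₀
      c.hXM c.hXq h1)
  obtain ⟨hpH, hid'⟩ := h5 hR1
  have hid := hid' c.hp
  have hHM : H ≠ M := by
    intro h
    apply hnc 1
    rw [h, cj_one]
  have hqH : q ∉ sigma H := by
    intro hqH
    have hnc' : ∀ g : G, M ≠ cj g H := by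
      intro g hg
      apply hnc g⁻¹
      rw [hg, cj_inv_cj]
    exact (sigma_disjoint hG c.hM hH hnc' hqσ hqH).2 hnil
  have hPσ : P ≤ sigmaCore H := le_sigmaCore_of_isPGroup hG hH hpH hPH c.hPp
  have hq2 : q ≠ 2 := ne_two_of_odd hG (hqσ.2.1.trans (Subgroup.card_subgroup_dvd_card M))
  -- `C_S(P)` is cyclic
  set S₁ := S ⊓ Subgroup.centralizer (P : Set G) with hS₁
  have hS₁c : IsCyclic ↥S₁ := by
    by_contra hnc1
    obtain ⟨A', hA'S, hA'e, hA'c⟩ :=
      exists_elementary_sq_of_not_cyclic hq2 (hS.2.1.to_le inf_le_left) hnc1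
    have hA'H : A' ≤ H := hA'S.trans (inf_le_right.trans hCH)
    have hA'M : A' ≤ M := hA'S.trans (inf_le_left.trans (hS.1.trans (sigmaCore_le M)))
    have hτ : q ∈ tau2 H := mem_tau2_of_elementary_sq hG hH hqH hA'H hA'e hA'c
    have h17 := Cfsg.Agent.S1417.result hG H hH q hτ A' ⟨hA'H, hA'e, hA'c⟩
    have hbot := h17.2.2.2.2.1 M c.hM hHM.symm hA'M
    have h2 : P ≤ sigmaCore H ⊓ M := le_inf hPσ c.hPM
    rw [hbot] at h2
    exact c.hP1 (eq_bot_iff.mpr h2)
  -- `E` normalizes `X`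
  have hE₀S₁ : E₀ ≤ Subgroup.normalizer (S₁ : Set G) :=
    le_normalizer_inf' ((inf_le_left.trans c.hE.1).trans hMS) (le_normalizer_centralizer' inf_le_right)
  have hXS₁ : X ≤ S₁ := le_inf hXS c.hXP
  have hE₀X : E₀ ≤ Subgroup.normalizer (X : Set G) := by
    intro e he
    rw [mem_normalizer_iff_cj]
    have h1 : cj e X ≤ S₁ := by
      have := cj_mono e hXS₁
      rwa [mem_normalizer_iff_cj.mp (hE₀S₁ he)] at this
    exact subgroup_eq_of_card_eq_of_le_cyclic S₁ (cj e X) X hS₁c h1 hXS₁ (card_cj e X)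
  have hE'X : ⁅E, E⁆ ≤ Subgroup.centralizer (X : Set G) := hE'S.trans (Subgroup.centralizer_le hXS)
  have hEX : E ≤ Subgroup.normalizer (X : Set G) :=
    hEE₀.trans (sup_le (hE'X.trans (Subgroup.centralizer_le_normalizer _)) hE₀X)
  -- a prime `r ∈ τ₂(M)` and `A = E_{r^2} ≤ E`
  obtain ⟨r, hr⟩ := c.exists_r hG
  haveI : Fact r.Prime := ⟨hr.1⟩
  obtain ⟨A, hAE, hAe, hAc⟩ := exists_sq_le_compl hG c.hM c.hE hr
  have hAM : A ≤ M := hAE.trans c.hE.1
  have h17 := Cfsg.Agent.S1417.result hG M c.hM r hr A ⟨hAM, hAe, hAc⟩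
  have hCA : Ms ⊓ Subgroup.centralizer (A : Set G) = ⊥ := h17.2.2.2.1
  have hAL : ∀ L : Subgroup G, IsCoatom L → L ≠ M → A ≤ L → Ms ⊓ L = ⊥ := h17.2.2.2.2.1
  have h18 := Cfsg.Agent.S1418.result hG M c.hM E c.hE r hr A ⟨hAE, hAe, hAc⟩
  have hEA : E ≤ Subgroup.normalizer (A : Set G) := h18.1.1
  have hAH : ¬ A ≤ H := by
    intro h
    have h1 := hAL H hH hHM h
    have h2 : X ≤ Ms ⊓ H := hXMsH
    rw [h1] at h2
    exact c.hX1 (eq_bot_iff.mpr h2)
  have hNX : ¬ Subgroup.normalizer (X : Set G) ≤ H := fun h => hAH ((hAE.trans hEX).trans h)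
  have hAX : ¬ A ≤ Subgroup.centralizer (X : Set G) := by
    intro h
    have h2 : X ≤ Ms ⊓ Subgroup.centralizer (A : Set G) :=
      le_inf c.hXM (Subgroup.le_centralizer_iff.mp h)
    rw [hCA] at h2
    exact c.hX1 (eq_bot_iff.mpr h2)
  have hPA : P ≤ Subgroup.normalizer (A : Set G) := c.hPE.trans hEA
  haveI : IsMulCommutative ↥A := hAe.1
  have hpr : p ≠ r := by
    rintro rfl
    exact hr.2.2.2 c.hp.2.2.2.2
  have hcopPA : (Nat.card P).Coprime (Nat.card A) := by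
    rw [c.hPc, hAc]
    exact Nat.Coprime.pow_right 2 ((Nat.coprime_primes c.hp.1 hr.1).mpr hpr)
  obtain ⟨-, hdec⟩ := coprime_abelian_decomp P A hPA hcopPA
  have hAP' : ⁅A, P⁆ ≤ Subgroup.centralizer (X : Set G) :=
    (Subgroup.commutator_mono hAE c.hPE).trans hE'X
  have hex : ∃ b ∈ A ⊓ Subgroup.centralizer (P : Set G), b ∉ Subgroup.centralizer (X : Set G) := by
    by_contra hne
    push Not at hne
    apply hAX
    rw [← hdec]
    exact sup_le hne hAP'
  obtain ⟨b, hb, hbX⟩ := hex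
  set R := Subgroup.zpowers b with hR
  have hb1 : b ≠ 1 := by
    rintro rfl
    exact hbX (Subgroup.one_mem _)
  have hbr : orderOf b = r := orderOf_eq_prime (hAe.2 b hb.1) hb1
  have hRc : Nat.card R = r := by rw [Nat.card_zpowers, hbr]
  have hRE : R ≤ E := Subgroup.zpowers_le.mpr (hAE hb.1)
  have hRP : R ≤ Subgroup.centralizer (P : Set G) := Subgroup.zpowers_le.mpr hb.2
  have hRX : R ≤ Subgroup.normalizer (X : Set G) := hRE.trans hEX
  have hRnX : ¬ R ≤ Subgroup.centralizer (X : Set G) := fun h => hbX (h (Subgroup.mem_zpowers b))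
  have hRH : R ≤ H := hRP.trans hCH
  have hRM : R ≤ M := hRE.trans c.hE.1
  have hrH : r ∈ tau1 H := by
    by_contra hrτ
    apply hRnX
    have h1 : Ms ⊓ H ≤ Subgroup.centralizer (R : Set G) := by
      apply h4 R (le_inf hRM hRH)
      intro t ht htd
      rw [hRc, Nat.prime_dvd_prime_iff_eq ht hr.1] at htd
      rw [htd]
      exact ⟨hr.2.1, hrτ⟩
    exact Subgroup.le_centralizer_iff.mp (hXMsH.trans h1)
  have b' : Bad M E P R H p r :=
    ⟨c.hM, c.hE, c.hp, c.hPE, c.hPc, hRE, hRP, hRc, hr.1, hH, hNH, hnc, hpH, hid, hrH⟩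
  have hXcomm : IsMulCommutative ↥X := by
    haveI : IsCyclic ↥X := isCyclic_of_prime_card c.hXc
    exact ⟨⟨fun a b => by
      let _ := IsCyclic.commGroup (α := ↥X)
      exact mul_comm a b⟩⟩
  have hrq : r ≠ q := by
    rintro rfl
    exact hr.2.1 hqσ
  have hcopRX : (Nat.card R).Coprime (Nat.card X) := by
    rw [hRc, c.hXc]
    exact (Nat.coprime_primes hr.1 c.hq).mpr hrq
  have hcXR : ⁅X, R⁆ = X := by
    have hle : ⁅X, R⁆ ≤ X := commutator_le_left_of_le_normalizer X R hRX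
    by_contra hne
    have h1 : Nat.card ↥⁅X, R⁆ ∣ q := c.hXc ▸ Subgroup.card_dvd_of_le hle
    rcases (Nat.dvd_prime c.hq).mp h1 with h | h
    · have h2 : ⁅X, R⁆ = ⊥ := Subgroup.card_eq_one.mp h
      rw [Subgroup.commutator_eq_bot_iff_le_centralizer] at h2
      exact hRnX (Subgroup.le_centralizer_iff.mp h2)
    · exact hne (Subgroup.eq_of_le_of_card_ge hle (by rw [h, c.hXc]))
  have hker : FrobKer X R := frobKer_of_abelian hXcomm (hRc ▸ hr.1) hRX hcopRX hcXR c.hX1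
  have hqα : q ∉ alpha H := fun h => hqH (alpha_subset_sigma hG hH h)
  exact b'.hside hG hXH c.hXq hqα c.hXP hker hNX

/-- the configuration of a counterexample to Lemma 13.6 is contradictory -/
theorem false (c : Cfg M E E₁ P X p q) (hG : IsMinSimpleOddOrder G) : False := by
  have hPtop : P ≠ ⊤ := fun h => c.hM.1 (eq_top_iff.mpr (h ▸ c.hPM))
  obtain ⟨H, hH, hNH⟩ := exists_coatom_ge (normalizer_ne_top hG c.hP1 hPtop)
  exact c.false_of_H hG hH hNH

end Cfg

/-- **B and G, Lemma 13.6** (with Theorem 13.4 as a hypothesis): for a Hall `τ₁(M)`-subgroup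
`E₁` of a complement `E`, `1 ≠ P ≤ E₁` and `X ≤ C_{M_σ}(P)` of prime order `q`: `M` is the only
maximal subgroup containing `C_G(X)`, and every Sylow `q`-subgroup of `M_σ` lies in no other
maximal subgroup. -/
theorem lemma_13_6 (hG : IsMinSimpleOddOrder G) (h1428 : T1428 G) {M : Subgroup G}
    (hM : IsCoatom M) {E : Subgroup G} (hE : IsComplIn E (sigmaCore M) M) {E₁ : Subgroup G}
    (hE₁ : IsPiHallOf (tau1 M) E₁ E) {P : Subgroup G} (hPE₁ : P ≤ E₁) (hP1 : P ≠ ⊥)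
    {q : ℕ} [hq : Fact q.Prime] {X : Subgroup G} (hXM : X ≤ sigmaCore M)
    (hXP : X ≤ Subgroup.centralizer (P : Set G)) (hXc : Nat.card X = q) :
    (Subgroup.centralizer (X : Set G) ≤ M ∧
        ∀ L : Subgroup G, IsCoatom L → Subgroup.centralizer (X : Set G) ≤ L → L = M) ∧
      ∀ S : Sylow q ↥(sigmaCore M),
        InUniqueMaximal ((S : Subgroup ↥(sigmaCore M)).map (sigmaCore M).subtype) ∧
          (S : Subgroup ↥(sigmaCore M)).map (sigmaCore M).subtype ≤ M := by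
  classical
  have hqσ : q ∈ sigma M := by
    apply (sigmaCore_hall hG hM).1.2.1 q hq.out
    rw [← hXc]
    exact Subgroup.card_dvd_of_le hXM
  have hXM' : X ≤ M := hXM.trans (sigmaCore_le M)
  by_cases h : q ∈ beta M ∨ X ≤ ⁅sigmaCore M, sigmaCore M⁆
  · refine ⟨?_, fun S => (Cfsg.Agent.S1423.result hG M hM q hqσ X hXM' hXc S h).2⟩
    exact (Cfsg.Agent.S1423.result hG M hM q hqσ X hXM' hXc default h).1
  · exfalso
    push Not at h
    -- a subgroup of prime order of `P`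
    have hcard : Nat.card P ≠ 1 := fun h1 => hP1 (Subgroup.card_eq_one.mp h1)
    obtain ⟨p, hp, hpd⟩ := Nat.exists_prime_and_dvd hcard
    haveI : Fact p.Prime := ⟨hp⟩
    obtain ⟨y, hy⟩ := exists_prime_orderOf_dvd_card' (G := ↥P) p hpd
    have hyo : orderOf (y : G) = p := by rw [Subgroup.orderOf_coe, hy]
    have hy1 : (y : G) ≠ 1 := by
      intro h1
      rw [h1, orderOf_one] at hyo
      exact hp.one_lt.ne hyo
    have hyE₁ : (y : G) ∈ E₁ := hPE₁ y.2
    have hpc : p ∣ Nat.card ↥E₁ := by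
      have h1 : orderOf (⟨(y : G), hyE₁⟩ : ↥E₁) = p := by rw [← hyo, ← Subgroup.orderOf_coe]
      rw [← h1]
      exact orderOf_dvd_natCard _
    have hpt : p ∈ tau1 M := hE₁.2.1 p hp hpc
    have h135 := lemma_13_5 hG h1428 hM hE hE₁ (y : G) hyE₁ hy1
    have hXE₁ : X ≤ Subgroup.centralizer (E₁ : Set G) := by
      have h1 : X ≤ sigmaCore M ⊓ Subgroup.centralizer ({(y : G)} : Set G) := by
        refine le_inf hXM (hXP.trans (Subgroup.centralizer_le ?_))
        intro z hz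
        rw [Set.mem_singleton_iff] at hz
        rw [hz]
        exact y.2
      rw [h135] at h1
      exact h1.trans inf_le_right
    have c : Cfg M E E₁ (Subgroup.zpowers (y : G)) X p q :=
      ⟨hM, hE, hE₁, Subgroup.zpowers_le.mpr hyE₁, by rw [Nat.card_zpowers, hyo], hpt, hXM, hXc,
        hq.out, hXE₁, h.1, h.2⟩
    exact c.false hG

end Cfsg.Agent.Lib.Helper2.BG13x
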