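import Mathlib
import Cfsg.Agent.Lib.Helper2.BG13x5
import Cfsg.Agent.S1428

set_option autoImplicit false
set_option linter.style.haveILetI false
set_option linter.unusedSectionVars false

/-! B and G, Corollary 13.5 and Lemma 13.6, unconditional versions. -/

namespace Cfsg.Agent.Lib.Helper2.BG13x

open Cfsg

universe u

variable {G : Type u} [Group G] [Finite G]

theorem t1428 (hG : IsMinSimpleOddOrder G) : T1428 G :=
  fun M hM E hE p hp P hPE hP R hRE hR =>
    Cfsg.Agent.S1428.result hG M hM E hE p hp P hPE hP R hRE hR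

/-- **B and G, Corollary 13.5** -/
theorem corollary_13_5 (hG : IsMinSimpleOddOrder G) {M : Subgroup G}
    (hM : IsCoatom M) {E : Subgroup G} (hE : Cfsg.IsComplIn E (Cfsg.sigmaCore M) M)
    {E₁ : Subgroup G} (hE₁ : Cfsg.IsPiHallOf (Cfsg.tau1 M) E₁ E) :
    ∀ x ∈ E₁, x ≠ 1 →
      Cfsg.sigmaCore M ⊓ Subgroup.centralizer ({x} : Set G) =
        Cfsg.sigmaCore M ⊓ Subgroup.centralizer (E₁ : Set G) :=
  lemma_13_5 hG (t1428 hG) hM hE hE₁

/-- **B and G, Lemma 13.6** -/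
theorem lemma_13_6' (hG : IsMinSimpleOddOrder G) {M : Subgroup G}
    (hM : IsCoatom M) {E : Subgroup G} (hE : IsComplIn E (sigmaCore M) M) {E₁ : Subgroup G}
    (hE₁ : IsPiHallOf (tau1 M) E₁ E) {P : Subgroup G} (hPE₁ : P ≤ E₁) (hP1 : P ≠ ⊥)
    {q : ℕ} [hq : Fact q.Prime] {X : Subgroup G} (hXM : X ≤ sigmaCore M)
    (hXP : X ≤ Subgroup.centralizer (P : Set G)) (hXc : Nat.card X = q) :
    (Subgroup.centralizer (X : Set G) ≤ M ∧
        ∀ L : Subgroup G, IsCoatom L → Subgroup.centralizer (X : Set G) ≤ L → L = M) ∧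
      ∀ S : Sylow q ↥(sigmaCore M),
        InUniqueMaximal ((S : Subgroup ↥(sigmaCore M)).map (sigmaCore M).subtype) ∧
          (S : Subgroup ↥(sigmaCore M)).map (sigmaCore M).subtype ≤ M :=
  lemma_13_6 hG (t1428 hG) hM hE hE₁ hPE₁ hP1 hXM hXP hXc

end Cfsg.Agent.Lib.Helper2.BG13x
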