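import Mathlib
import Cfsg.Agent.Lib.Helper2.BG13x6

set_option autoImplicit false
set_option linter.style.haveILetI false
set_option linter.unusedSectionVars false
set_option maxHeartbeats 800000

/-! B and G, Corollary 13.3(b): a Hall `τ₃(M)`-subgroup of a complement acts in a prime manner on
`M_σ`; and a consequence: if it does not act regularly then `τ₂(M) = ∅`. -/

namespace Cfsg.Agent.Lib.Helper2.BG13x

open Cfsg Cfsg.Agent.Lib.Lead Cfsg.Agent.Lib.Lead.BG10 Cfsg.Agent.Lib.Helper7 Cfsg.Agent.Lib.Helper4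
open Cfsg.Agent.Lib.Helper4.BG76 Cfsg.Agent.Lib.Helper4.BG8 Cfsg.Agent.Lib.Helper4.BG9
open Cfsg.Agent.Lib.Helper4.BG7 Cfsg.Agent.Lib.Helper4.BG12 Cfsg.Agent.Lib.Helper4.BGConj
open Cfsg.Agent.Lib.Helper4.BG13 Cfsg.Agent.Lib.Lead.BG95 Cfsg.Agent.Lib.Lead.BG12q
open Cfsg.Agent.Lib.Lead.BG11 Cfsg.Agent.Lib.Lead.BG13q Cfsg.Agent.Lib.Helper4.BG18
open Cfsg.Agent.Lib.Helper2.BG12 Cfsg.Agent.Lib.Helper6
open scoped commutatorElement

universe u

variable {G : Type u} [Group G] [Finite G]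

/-- a cyclic Hall subgroup `E₀` of a complement `E` whose elements of prime order all have the
same fixed points on `M_σ` acts in a prime manner on `M_σ` -/
theorem semiprime_of_key (hG : IsMinSimpleOddOrder G) {M : Subgroup G}
    (hM : IsCoatom M) {E : Subgroup G} (hE : Cfsg.IsComplIn E (Cfsg.sigmaCore M) M)
    {π : Set ℕ} {E₀ : Subgroup G} (hE₀ : Cfsg.IsPiHallOf π E₀ E) (hcyc : IsCyclic ↥E₀)
    (key : ∀ (p r : ℕ), p.Prime → r.Prime → ∀ y ∈ E₀, ∀ z ∈ E₀, orderOf y = p → orderOf z = r →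
      Cfsg.sigmaCore M ⊓ Subgroup.centralizer ({y} : Set G) ≤
        Cfsg.sigmaCore M ⊓ Subgroup.centralizer ({z} : Set G)) :
    ∀ x ∈ E₀, x ≠ 1 →
      Cfsg.sigmaCore M ⊓ Subgroup.centralizer ({x} : Set G) =
        Cfsg.sigmaCore M ⊓ Subgroup.centralizer (E₀ : Set G) := by
  classical
  intro x hx hx1
  have hox : orderOf x ≠ 1 := fun h => hx1 (orderOf_eq_one_iff.mp h)
  set p := (orderOf x).minFac with hpdef
  have hp : p.Prime := Nat.minFac_prime hox
  have hpx : p ∣ orderOf x := Nat.minFac_dvd _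
  set y := x ^ (orderOf x / p) with hydef
  have hyo : orderOf y = p := orderOf_pow_orderOf_div (orderOf_pos x).ne' hpx
  have hyE : y ∈ E₀ := E₀.pow_mem hx _
  have hxy : Subgroup.centralizer ({x} : Set G) ≤ Subgroup.centralizer ({y} : Set G) := by
    rw [← centralizer_zpowers' x, ← centralizer_zpowers' y]
    exact Subgroup.centralizer_le
      (Subgroup.zpowers_le.mpr (Subgroup.pow_mem _ (Subgroup.mem_zpowers x) _))
  apply le_antisymm
  · apply le_inf inf_le_left
    set H := Cfsg.sigmaCore M ⊓ Subgroup.centralizer ({y} : Set G) with hH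
    have hHx : Cfsg.sigmaCore M ⊓ Subgroup.centralizer ({x} : Set G) ≤ H :=
      le_inf inf_le_left (inf_le_right.trans hxy)
    suffices hK : E₀ ≤ Subgroup.centralizer (H : Set G) by
      refine hHx.trans ?_
      intro h hh
      rw [Subgroup.mem_centralizer_iff]
      intro e he
      have := Subgroup.mem_centralizer_iff.mp (hK he) h hh
      exact this.symm
    set K := E₀ ⊓ Subgroup.centralizer (H : Set G) with hKdef
    have hKE : K ≤ E₀ := inf_le_left
    have hdvd : Nat.card ↥E₀ ∣ Nat.card ↥K := by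
      rw [← Nat.factorization_prime_le_iff_dvd Nat.card_pos.ne' Nat.card_pos.ne']
      intro r hr
      by_cases hrc : r ∣ Nat.card ↥E₀
      · haveI : Fact r.Prime := ⟨hr⟩
        obtain ⟨z', hz'⟩ := exists_prime_orderOf_dvd_card' (G := ↥E₀) r hrc
        have hzo : orderOf (z' : G) = r := by rw [Subgroup.orderOf_coe, hz']
        have hzp : IsPGroup r (Subgroup.zpowers (z' : G)) := by
          apply IsPGroup.of_card (n := 1)
          rw [Nat.card_zpowers, hzo, pow_one]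
        have hrt : r ∈ π := hE₀.2.1 r hr hrc
        obtain ⟨T, hzT, hTE₀, hTE, hTE₀'⟩ :=
          exists_sylIn_of_hall hE₀.1 (hE₀.2.2 r hr hrt) z'.2 hzp
        have hTc : IsCyclic ↥T := by
          have : IsCyclic ↥(T.subgroupOf E₀) := inferInstance
          exact isCyclic_of_surjective (Subgroup.subgroupOfEquivOfLe hTE₀).toMonoidHom
            (MulEquiv.surjective _)
        have hz1 : (z' : G) ≠ 1 := by
          intro h1
          rw [h1, orderOf_one] at hzo
          exact hr.one_lt.ne hzo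
        have h1 := primact_sylIn hG hM hE hTE hTc hzT hz1
        have h2 : H ≤ Subgroup.centralizer (T : Set G) := by
          have := key p r hp hr y hyE (z' : G) z'.2 hyo hzo
          rw [h1] at this
          exact this.trans inf_le_right
        have hTK : T ≤ K := by
          refine le_inf hTE₀ ?_
          intro t ht
          rw [Subgroup.mem_centralizer_iff]
          intro h hh
          have := Subgroup.mem_centralizer_iff.mp (h2 hh) t ht
          exact this.symm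
        have h3 : Nat.card ↥T ∣ Nat.card ↥K := Subgroup.card_dvd_of_le hTK
        rw [SylIn.card_eq_pow hTE₀'] at h3
        exact (hr.pow_dvd_iff_le_factorization Nat.card_pos.ne').mp h3
      · rw [Nat.factorization_eq_zero_of_not_dvd hrc]
        exact Nat.zero_le _
    have hle : Nat.card ↥E₀ ≤ Nat.card ↥K := Nat.le_of_dvd Nat.card_pos hdvd
    have hKeq : K = E₀ := Subgroup.eq_of_le_of_card_ge hKE hle
    rw [← hKeq]
    exact inf_le_right
  · apply le_inf inf_le_left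
    refine inf_le_right.trans (Subgroup.centralizer_le ?_)
    intro z hz
    rw [Set.mem_singleton_iff] at hz
    rw [hz]
    exact hx

/-- for `R` of prime order in a Hall `τ₃(M)`-subgroup `E₃` of `E`, a maximal subgroup `H`
containing `N_G(R)` contains `E`, and `M_σ ∩ C(R) = M_σ ∩ H` is centralized by every subgroup of
`M ∩ H` whose primes lie outside `σ(M)` and `τ₁(H)` -/
theorem tau3_key (hG : IsMinSimpleOddOrder G) {M : Subgroup G}
    (hM : IsCoatom M) {E : Subgroup G} (hE : Cfsg.IsComplIn E (Cfsg.sigmaCore M) M)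
    {E₃ : Subgroup G} (hE₃ : Cfsg.IsPiHallOf (Cfsg.tau3 M) E₃ E) {r : ℕ} (hr : r.Prime)
    {y : G} (hy : y ∈ E₃) (hyo : orderOf y = r) :
    ∃ H : Subgroup G, IsCoatom H ∧ E ≤ H ∧ (∀ g : G, H ≠ cj g M) ∧
      sigmaCore M ⊓ H = sigmaCore M ⊓ Subgroup.centralizer ({y} : Set G) ∧
      ∀ X : Subgroup G, X ≤ M ⊓ H →
        (∀ t : ℕ, t.Prime → t ∣ Nat.card X → t ∉ sigma M ∧ t ∉ tau1 H) →
        sigmaCore M ⊓ H ≤ Subgroup.centralizer (X : Set G) := by
  haveI : Fact r.Prime := ⟨hr⟩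
  obtain ⟨-, -, h3⟩ := Cfsg.Agent.S1415.result hG M hM E hE
  obtain ⟨hcyc, -, hEn⟩ := h3 E₃ hE₃
  set R := Subgroup.zpowers y with hR
  have hRc : Nat.card R = r := by rw [Nat.card_zpowers, hyo]
  have hRE₃ : R ≤ E₃ := Subgroup.zpowers_le.mpr hy
  have hRp : IsPGroup r ↥R := isPGroup_of_card_eq hRc
  have hR1 : R ≠ ⊥ := ne_bot_of_card_prime (hRc ▸ hr)
  have hRM : R ≤ M := (hRE₃.trans hE₃.1).trans hE.1
  have hrτ : r ∈ tau3 M := by
    apply hE₃.2.1 r hr
    have h1 : orderOf (⟨y, hy⟩ : ↥E₃) = r := by rw [← hyo, ← Subgroup.orderOf_coe]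
    rw [← h1]
    exact orderOf_dvd_natCard _
  have hER : E ≤ Subgroup.normalizer (R : Set G) :=
    hEn.trans (normalizer_le_normalizer_of_cyclic hcyc hRE₃)
  have hRtop : R ≠ ⊤ := fun h => hM.1 (eq_top_iff.mpr (h ▸ hRM))
  obtain ⟨H, hH, hNH⟩ := exists_coatom_ge (normalizer_ne_top hG hR1 hRtop)
  obtain ⟨hnc, -, -, h4, -, h6⟩ := corollary_13_2 hG hM hH (Or.inr hrτ) hRM hRp hR1 hNH
  refine ⟨H, hH, hER.trans hNH, hnc, ?_, h4⟩
  rw [h6, centralizer_zpowers']

/-- **B and G, Corollary 13.3(b)**: a Hall `τ₃(M)`-subgroup of `E` acts in a prime manner on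
`M_σ`. -/
theorem tau3_semiprime (hG : IsMinSimpleOddOrder G) {M : Subgroup G}
    (hM : IsCoatom M) {E : Subgroup G} (hE : Cfsg.IsComplIn E (Cfsg.sigmaCore M) M)
    {E₃ : Subgroup G} (hE₃ : Cfsg.IsPiHallOf (Cfsg.tau3 M) E₃ E) :
    ∀ x ∈ E₃, x ≠ 1 →
      Cfsg.sigmaCore M ⊓ Subgroup.centralizer ({x} : Set G) =
        Cfsg.sigmaCore M ⊓ Subgroup.centralizer (E₃ : Set G) := by
  obtain ⟨-, -, h3⟩ := Cfsg.Agent.S1415.result hG M hM E hE
  obtain ⟨hcyc, hE₃E', hEn⟩ := h3 E₃ hE₃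
  apply semiprime_of_key hG hM hE hE₃ hcyc
  intro p r hp hr y hy z hz hyo hzo
  by_cases hpr : p = r
  · -- the same prime: the subgroups generated by `y` and `z` coincide
    have h1 : Subgroup.zpowers y = Subgroup.zpowers z :=
      subgroup_eq_of_card_eq_of_le_cyclic E₃ _ _ hcyc (Subgroup.zpowers_le.mpr hy)
        (Subgroup.zpowers_le.mpr hz) (by rw [Nat.card_zpowers, Nat.card_zpowers, hyo, hzo, hpr])
    rw [← centralizer_zpowers' y, ← centralizer_zpowers' z, h1]
  · obtain ⟨H, hH, hEH, -, hMsH, h4⟩ := tau3_key hG hM hE hE₃ hp hy hyo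
    rw [← hMsH]
    apply le_inf inf_le_left
    rw [← centralizer_zpowers' z]
    have hzE : z ∈ E := hE₃.1 hz
    apply h4 (Subgroup.zpowers z) (Subgroup.zpowers_le.mpr ⟨hE.1 hzE, hEH hzE⟩)
    intro t ht htd
    rw [Nat.card_zpowers, hzo, Nat.prime_dvd_prime_iff_eq ht hr] at htd
    rw [htd]
    have hrτ : r ∈ tau3 M := by
      apply hE₃.2.1 r hr
      have h1 : orderOf (⟨z, hz⟩ : ↥E₃) = r := by rw [← hzo, ← Subgroup.orderOf_coe]
      rw [← h1]
      exact orderOf_dvd_natCard _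
    refine ⟨hrτ.2.1, fun hτ1 => hτ1.2.2.2.1 ?_⟩
    -- `r` divides `|H'|` since `z ∈ E₃ ≤ E' ≤ H'`
    have h5 : Subgroup.zpowers z ≤ ⁅H, H⁆ :=
      (Subgroup.zpowers_le.mpr (hE₃E' hz)).trans (Subgroup.commutator_mono hEH hEH)
    have h6 := Subgroup.card_dvd_of_le h5
    rwa [Nat.card_zpowers, hzo] at h6

/-- if a Hall `τ₃(M)`-subgroup of `E` does not act regularly on `M_σ` then `τ₂(M) = ∅` -/
theorem tau2_empty_of_tau3_fixed (hG : IsMinSimpleOddOrder G) {M : Subgroup G}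
    (hM : IsCoatom M) {E : Subgroup G} (hE : Cfsg.IsComplIn E (Cfsg.sigmaCore M) M)
    {E₃ : Subgroup G} (hE₃ : Cfsg.IsPiHallOf (Cfsg.tau3 M) E₃ E) {x : G} (hx : x ∈ E₃)
    (hx1 : x ≠ 1) (hfix : Cfsg.sigmaCore M ⊓ Subgroup.centralizer ({x} : Set G) ≠ ⊥) :
    ∀ t : ℕ, t ∉ tau2 M := by
  intro t ht
  haveI : Fact t.Prime := ⟨ht.1⟩
  -- an element of prime order of `⟨x⟩`
  have hox : orderOf x ≠ 1 := fun h => hx1 (orderOf_eq_one_iff.mp h)
  set r := (orderOf x).minFac with hrdef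
  have hr : r.Prime := Nat.minFac_prime hox
  have hrx : r ∣ orderOf x := Nat.minFac_dvd _
  set y := x ^ (orderOf x / r) with hydef
  have hyo : orderOf y = r := orderOf_pow_orderOf_div (orderOf_pos x).ne' hrx
  have hyE : y ∈ E₃ := E₃.pow_mem hx _
  have hy1 : y ≠ 1 := by
    intro h1
    rw [h1, orderOf_one] at hyo
    exact hr.one_lt.ne hyo
  have hsp := tau3_semiprime hG hM hE hE₃
  have hfixy : Cfsg.sigmaCore M ⊓ Subgroup.centralizer ({y} : Set G) ≠ ⊥ := by
    rw [hsp y hyE hy1, ← hsp x hx hx1]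
    exact hfix
  obtain ⟨H, hH, hEH, hnc, hMsH, h4⟩ := tau3_key hG hM hE hE₃ hr hyE hyo
  obtain ⟨A, hAE, hAe, hAc⟩ := exists_sq_le_compl hG hM hE ht
  have hAM : A ≤ M := hAE.trans hE.1
  have hAH : A ≤ H := hAE.trans hEH
  have h17 := Cfsg.Agent.S1417.result hG M hM t ht A ⟨hAM, hAe, hAc⟩
  have hCA : sigmaCore M ⊓ Subgroup.centralizer (A : Set G) = ⊥ := h17.2.2.2.1
  have h5 : sigmaCore M ⊓ H ≤ Subgroup.centralizer (A : Set G) := by
    apply h4 A (le_inf hAM hAH)
    intro s hs hsd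
    have hst : s = t := prime_eq_of_dvd_card (isPGroup_of_elementary hAe) hs hsd
    rw [hst]
    refine ⟨ht.2.1, fun hτ1 => ?_⟩
    -- `H` has `t`-rank at least two
    have h6 := hτ1.2.2.2.2 (A.subgroupOf H) ?_ ?_
    · rw [Nat.card_congr (Subgroup.subgroupOfEquivOfLe hAH).toEquiv, hAc] at h6
      have : t ^ 1 < t ^ 2 := Nat.pow_lt_pow_right ht.1.one_lt (by norm_num)
      omega
    · refine ⟨⟨?_⟩⟩
      rintro ⟨a, ha⟩ ⟨b, hb⟩
      apply Subtype.ext
      apply Subtype.ext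
      have := hAe.1.is_comm.comm ⟨a, ha⟩ ⟨b, hb⟩
      have e : (a : G) * b = b * a := congrArg Subtype.val this
      exact e
    · intro a ha
      apply Subtype.ext
      have := hAe.2 (a : G) ha
      simpa using this
  apply hfixy
  rw [← hMsH, eq_bot_iff]
  intro g hg
  have : g ∈ sigmaCore M ⊓ Subgroup.centralizer (A : Set G) := ⟨hg.1, h5 hg⟩
  rwa [hCA] at this

end Cfsg.Agent.Lib.Helper2.BG13x
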