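import Mathlib
import Cfsg.Agent.Lib.Helper2.BG13x7
import Cfsg.Agent.Lib.Helper7.PiClass1
import Cfsg.Agent.Lib.Lead.CoprimeSylow3

set_option autoImplicit false
set_option linter.style.haveILetI false
set_option linter.unusedSectionVars false
set_option maxHeartbeats 800000

/-! Tools for B and G, Section 14: Hall subgroups of a complement containing a given subgroup; the
Sylow subgroups of `M_σ` for the primes outside `β(M)` centralize the Hall `τ₃(M)`-subgroup of a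
complement; Lemma 13.6 for a subgroup of `M` of prime order in `τ₁(M)`. -/

namespace Cfsg.Agent.Lib.Helper2.BG14y

open Cfsg Cfsg.Agent.Lib.Lead Cfsg.Agent.Lib.Lead.BG10 Cfsg.Agent.Lib.Helper7 Cfsg.Agent.Lib.Helper4
open Cfsg.Agent.Lib.Helper4.BG76 Cfsg.Agent.Lib.Helper4.BG8 Cfsg.Agent.Lib.Helper4.BG9
open Cfsg.Agent.Lib.Helper4.BG7 Cfsg.Agent.Lib.Helper4.BG12 Cfsg.Agent.Lib.Helper4.BGConj
open Cfsg.Agent.Lib.Helper4.BG13 Cfsg.Agent.Lib.Lead.BG95 Cfsg.Agent.Lib.Lead.BG12q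
open Cfsg.Agent.Lib.Lead.BG11 Cfsg.Agent.Lib.Lead.BG13q Cfsg.Agent.Lib.Helper4.BG18
open Cfsg.Agent.Lib.Helper2.BG12 Cfsg.Agent.Lib.Helper6 Cfsg.Agent.Lib.Helper2.BG13x
open scoped commutatorElement

universe u

variable {G : Type u} [Group G] [Finite G]

/-- in a solvable subgroup `E`, a `π`-subgroup lies in a Hall `π`-subgroup of `E` -/
theorem exists_piHallOf_ge {E : Subgroup G} (hsolv : Group.IsSolvable ↥E) (π : Set ℕ)
    {P : Subgroup G} (hPE : P ≤ E) (hP : ∀ q : ℕ, q.Prime → q ∣ Nat.card P → q ∈ π) :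
    ∃ E₁ : Subgroup G, IsPiHallOf π E₁ E ∧ P ≤ E₁ := by
  obtain ⟨a, b, hab, hcop, ha, hb⟩ :=
    Cfsg.Agent.Lib.Helper7.PiClass.exists_pi_split π (Nat.card E) Nat.card_pos
  have hPb : (Nat.card P).Coprime b := Cfsg.Agent.Lib.Helper7.PiClass.coprime_of_pi hP hb
  obtain ⟨E₁, hE₁E, hE₁c, hPE₁⟩ :=
    hall_dominate_in_subgroup E hsolv a b hab.symm hcop P hPE hPb
  refine ⟨E₁, ⟨hE₁E, ?_, ?_⟩, hPE₁⟩
  · intro q hq hd
    rw [hE₁c] at hd
    exact ha q hq hd
  · intro q hq hqπ hd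
    have h1 : Nat.card E₁ * E₁.relIndex E = Nat.card E := by
      rw [← Subgroup.relIndex_bot_left, ← Subgroup.relIndex_bot_left (H := E),
        Subgroup.relIndex_mul_relIndex ⊥ E₁ E bot_le hE₁E]
    have hapos : 0 < a := by
      rcases Nat.eq_zero_or_pos a with h | h
      · rw [h, zero_mul] at hab
        exact absurd hab.symm (Nat.card_pos (α := E)).ne'
      · exact h
    have h2 : E₁.relIndex E = b := by
      rw [hE₁c, ← hab] at h1
      exact Nat.eq_of_mul_eq_mul_left hapos h1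
    rw [h2] at hd
    exact hb q hq hd hqπ

/-- for `p ∈ σ(L) ∖ β(L)`, some Sylow `p`-subgroup of `L_σ` centralizes the Hall
`τ₃(L)`-subgroup `E₃` of a complement `E` -/
theorem exists_sylIn_le_centralizer_tau3 (hG : IsMinSimpleOddOrder G) {L : Subgroup G}
    (hL : IsCoatom L) {E : Subgroup G} (hE : IsComplIn E (sigmaCore L) L) {E₃ : Subgroup G}
    (hE₃ : IsPiHallOf (tau3 L) E₃ E) {p : ℕ} [hp : Fact p.Prime] (hpσ : p ∈ sigma L)
    (hpβ : p ∉ beta L) :
    ∃ T : Subgroup G, SylIn p (sigmaCore L) T ∧ T ≤ Subgroup.centralizer (E₃ : Set G) := by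
  obtain ⟨K, hKL', hLK, hKc, hKmax⟩ := npc_commutator hG hL hpσ.2.1 hpβ
  obtain ⟨-, -, h3⟩ := Cfsg.Agent.S1415.result hG L hL E hE
  obtain ⟨-, hE₃E', -⟩ := h3 E₃ hE₃
  have hEL : E ≤ L := hE.1
  have hpE : ¬ p ∣ Nat.card E := fun hd =>
    not_sigma_of_dvd_card_compl hG hL hE hp.out hd hpσ
  have hE₃c : (Nat.card E₃).Coprime p :=
    Nat.Coprime.coprime_dvd_left (Subgroup.card_dvd_of_le hE₃.1)
      ((Nat.Prime.coprime_iff_not_dvd hp.out).mpr hpE).symm
  have hE₃K : E₃ ≤ K := hKmax E₃ (hE₃E'.trans (Subgroup.commutator_mono hEL hEL)) hE₃c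
  set Ls := sigmaCore L with hLs
  have hLLs : L ≤ Subgroup.normalizer (Ls : Set G) := le_normalizer_sigmaCore L
  have hcop : (Nat.card E₃).Coprime (Nat.card Ls) :=
    Nat.Coprime.coprime_dvd_left (Subgroup.card_dvd_of_le hE₃.1)
      (BG13x.coprime_card_compl_sigmaCore hG hL hE)
  have hsolv : Group.IsSolvable ↥Ls :=
    solvable_of_ne_top hG (ne_top_of_le_ne_top hL.1 (sigmaCore_le L))
  obtain ⟨P, hP⟩ := coprime_invariant_sylow_exists E₃ Ls ((hE₃.1.trans hEL).trans hLLs) hcop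
    (Or.inr hsolv) p
  set T := (P : Subgroup ↥Ls).map Ls.subtype with hT
  have hTLs : T ≤ Ls := Subgroup.map_subtype_le _
  have hTp : IsPGroup p ↥T := P.2.map _
  refine ⟨T, ⟨hTLs, hTp, ?_⟩, ?_⟩
  · have h2 : T.relIndex Ls = (P : Subgroup ↥Ls).index := by
      unfold Subgroup.relIndex Subgroup.subgroupOf
      rw [hT, Subgroup.comap_map_eq_self_of_injective Ls.subtype_injective]
    rw [h2]
    exact P.not_dvd_index
  · have hTK : T ⊓ K = ⊥ := by
      rw [← Subgroup.card_eq_one]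
      have h1 : Nat.card ↥(T ⊓ K) ∣ Nat.card K := Subgroup.card_dvd_of_le inf_le_right
      obtain ⟨k, hk⟩ := IsPGroup.iff_card.mp (hTp.to_le (inf_le_left : T ⊓ K ≤ T))
      have h2 : (Nat.card ↥(T ⊓ K)).Coprime (Nat.card ↥(T ⊓ K)) := by
        apply Nat.Coprime.coprime_dvd_right h1
        rw [hk]
        exact Nat.Coprime.pow_left k hKc.symm
      exact (Nat.coprime_self _).mp h2
    intro t ht
    rw [Subgroup.mem_centralizer_iff]
    intro e he
    have heL : e ∈ L := hEL (hE₃.1 he)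
    have htL : t ∈ L := sigmaCore_le L (hTLs ht)
    have h1 : e * t * e⁻¹ ∈ T := (Subgroup.mem_normalizer_iff.mp (hP he) t).mp ht
    have h2 : t * e⁻¹ * t⁻¹ ∈ K :=
      (Subgroup.mem_normalizer_iff.mp (hLK htL) _).mp (K.inv_mem (hE₃K he))
    have h3 : e * t * e⁻¹ * t⁻¹ ∈ T ⊓ K := by
      refine Subgroup.mem_inf.mpr ⟨T.mul_mem h1 (T.inv_mem ht), ?_⟩
      have e1 : e * t * e⁻¹ * t⁻¹ = e * (t * e⁻¹ * t⁻¹) := by group
      rw [e1]
      exact K.mul_mem (hE₃K he) h2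
    rw [hTK, Subgroup.mem_bot] at h3
    have e2 : e * t = (e * t * e⁻¹ * t⁻¹) * (t * e) := by group
    rw [e2, h3, one_mul]

/-- **B and G, Lemma 13.6** for a subgroup `P ≠ 1` of `M` which is a `p`-group, `p ∈ τ₁(M)` -/
theorem lemma_13_6_of_le (hG : IsMinSimpleOddOrder G) {M : Subgroup G} (hM : IsCoatom M) {p : ℕ}
    [hp : Fact p.Prime] (hpτ : p ∈ tau1 M) {P : Subgroup G} (hPM : P ≤ M) (hPp : IsPGroup p ↥P)
    (hP1 : P ≠ ⊥) {q : ℕ} [hq : Fact q.Prime] {X : Subgroup G} (hXM : X ≤ sigmaCore M)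
    (hXP : X ≤ Subgroup.centralizer (P : Set G)) (hXc : Nat.card X = q) :
    Subgroup.centralizer (X : Set G) ≤ M ∧
      ∀ L : Subgroup G, IsCoatom L → Subgroup.centralizer (X : Set G) ≤ L → L = M := by
  have hPπ : ∀ r : ℕ, r.Prime → r ∣ Nat.card P → r = p := fun r hr hd =>
    prime_eq_of_dvd_card hPp hr hd
  have hcop : (Nat.card P).Coprime (Nat.card (sigmaCore M)) := by
    apply Nat.coprime_of_dvd
    intro r hr h1 h2
    have := (sigmaCore_hall hG hM).1.2.1 r hr h2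
    rw [hPπ r hr h1] at this
    exact hpτ.2.1 this
  obtain ⟨E, hE, hPE⟩ := exists_complIn_ge hG hM hPM hcop
  have hsolv : Group.IsSolvable ↥E := solvable_of_ne_top hG (ne_top_of_le_ne_top hM.1 hE.1)
  obtain ⟨E₁, hE₁, hPE₁⟩ := exists_piHallOf_ge hsolv (tau1 M) hPE
    (fun r hr hd => by rw [hPπ r hr hd]; exact hpτ)
  exact (lemma_13_6' hG hM hE hE₁ hPE₁ hP1 hXM hXP hXc).1

end Cfsg.Agent.Lib.Helper2.BG14y
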