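import Mathlib
import Cfsg.Agent.Lib.Helper2.BG14y1

set_option autoImplicit false
set_option linter.style.haveILetI false
set_option linter.unusedSectionVars false
set_option maxHeartbeats 1600000

/-! B and G, Theorem 14.2(b), first half: for `P ≤ M` of order `p ∈ τ₁(M)` with
`C_{M_σ}(P) ≠ 1` and a maximal subgroup `H ⊇ N_G(P)`, the prime `p` lies in `σ(H)`.
Relative to Theorem 13.9 (the statement S1378), taken as a hypothesis `T1378`. -/

namespace Cfsg.Agent.Lib.Helper2.BG14y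

open Cfsg Cfsg.Agent.Lib.Lead Cfsg.Agent.Lib.Lead.BG10 Cfsg.Agent.Lib.Helper7 Cfsg.Agent.Lib.Helper4
open Cfsg.Agent.Lib.Helper4.BG76 Cfsg.Agent.Lib.Helper4.BG8 Cfsg.Agent.Lib.Helper4.BG9
open Cfsg.Agent.Lib.Helper4.BG7 Cfsg.Agent.Lib.Helper4.BG12 Cfsg.Agent.Lib.Helper4.BGConj
open Cfsg.Agent.Lib.Helper4.BG13 Cfsg.Agent.Lib.Lead.BG95 Cfsg.Agent.Lib.Lead.BG12q
open Cfsg.Agent.Lib.Lead.BG11 Cfsg.Agent.Lib.Lead.BG13q Cfsg.Agent.Lib.Helper4.BG18
open Cfsg.Agent.Lib.Helper2.BG12 Cfsg.Agent.Lib.Helper6 Cfsg.Agent.Lib.Helper2.BG13x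
open scoped commutatorElement

universe u

variable {G : Type u} [Group G] [Finite G]

/-- the second half of the statement S1378 (B and G, Theorem 13.9) for the group `G` -/
def T1378 (G : Type u) [Group G] : Prop :=
  ∀ M N : Subgroup G, IsCoatom M → IsCoatom N → (sigma M ∩ sigma N).Nonempty →
    ∃ g : G, N = M.map (MulAut.conj g).toMonoidHom

/-- a prime common to `σ(M)` and `σ(N)` forces `N` to be conjugate to `M` -/
theorem T1378.not_mem (h : T1378 G) {M N : Subgroup G} (hM : IsCoatom M) (hN : IsCoatom N)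
    (hnc : ∀ g : G, N ≠ cj g M) {q : ℕ} (hqM : q ∈ sigma M) : q ∉ sigma N := by
  intro hqN
  obtain ⟨g, hg⟩ := h M N hM hN ⟨q, hqM, hqN⟩
  exact hnc g hg

/-- **B and G, Theorem 14.2(b)**, first half -/
theorem mem_sigma_of_tau1_fixed (hG : IsMinSimpleOddOrder G) (h1378 : T1378 G)
    {M H : Subgroup G} (hM : IsCoatom M) (hH : IsCoatom H) {p : ℕ} [hp : Fact p.Prime]
    (hpτ : p ∈ tau1 M) {P : Subgroup G} (hPM : P ≤ M) (hPc : Nat.card P = p)
    (hfix : sigmaCore M ⊓ Subgroup.centralizer (P : Set G) ≠ ⊥)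
    (hNH : Subgroup.normalizer (P : Set G) ≤ H) : p ∈ sigma H := by
  classical
  have hPp : IsPGroup p ↥P := isPGroup_of_card_eq hPc
  have hP1 : P ≠ ⊥ := ne_bot_of_card_prime (hPc ▸ hp.out)
  obtain ⟨hnc, hστ, -, -, -, -⟩ := corollary_13_2 hG hM hH (Or.inl hpτ) hPM hPp hP1 hNH
  by_contra hpσ
  have hτ2 : p ∈ tau2 H := hστ.resolve_left hpσ
  have hpσM : p ∉ sigma M := hpτ.2.1
  -- a subgroup `X` of prime order `q` of `C_{M_σ}(P)`
  set Kst := sigmaCore M ⊓ Subgroup.centralizer (P : Set G) with hKst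
  have hK1 : Nat.card Kst ≠ 1 := fun h => hfix (Subgroup.card_eq_one.mp h)
  obtain ⟨q, hq, hqd⟩ := Nat.exists_prime_and_dvd hK1
  haveI : Fact q.Prime := ⟨hq⟩
  obtain ⟨x, hx⟩ := exists_prime_orderOf_dvd_card' q hqd
  set X := Subgroup.zpowers (x : G) with hX
  have hXc : Nat.card X = q := by rw [hX, Nat.card_zpowers, Subgroup.orderOf_coe, hx]
  have hXK : X ≤ Kst := Subgroup.zpowers_le.mpr x.2
  have hXMs : X ≤ sigmaCore M := hXK.trans inf_le_left
  have hXP : X ≤ Subgroup.centralizer (P : Set G) := hXK.trans inf_le_right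
  have hPX : P ≤ Subgroup.centralizer (X : Set G) := Subgroup.le_centralizer_iff.mp hXP
  have hXq : IsPGroup q ↥X := isPGroup_of_card_eq hXc
  have hX1 : X ≠ ⊥ := ne_bot_of_card_prime (hXc ▸ hq)
  obtain ⟨hCXM, hCXu⟩ := lemma_13_6_of_le hG hM hpτ hPM hPp hP1 hXMs hXP hXc
  have hqσM : q ∈ sigma M :=
    (sigmaCore_hall hG hM).1.2.1 q hq (hqd.trans (Subgroup.card_dvd_of_le inf_le_left))
  have hCPH : Subgroup.centralizer (P : Set G) ≤ H :=
    (Subgroup.centralizer_le_normalizer _).trans hNH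
  have hXH : X ≤ H := hXP.trans hCPH
  have hPH : P ≤ H := Subgroup.le_normalizer.trans hNH
  have hqσH : q ∉ sigma H := h1378.not_mem hM hH hnc hqσM
  -- a complement of `H_σ` containing `P` and `X`
  have hcop : (Nat.card ↥(P ⊔ X)).Coprime (Nat.card (sigmaCore H)) := by
    apply Nat.coprime_of_dvd
    intro r hr h1 h2
    have hrσ := (sigmaCore_hall hG hH).1.2.1 r hr h2
    have h3 : Nat.card ↥(P ⊔ X) ∣ Nat.card P * Nat.card X := by
      have := card_sup_mul_card_inf P X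
        (hPX.trans (Subgroup.centralizer_le_normalizer _))
      exact Dvd.intro _ this
    rw [hPc, hXc] at h3
    rcases (Nat.Prime.dvd_mul hr).mp (h1.trans h3) with h | h
    · rw [(Nat.prime_dvd_prime_iff_eq hr hp.out).mp h] at hrσ
      exact hpσ hrσ
    · rw [(Nat.prime_dvd_prime_iff_eq hr hq).mp h] at hrσ
      exact hqσH hrσ
  obtain ⟨EH, hEH, hYEH⟩ := exists_complIn_ge hG hH (sup_le hPH hXH) hcop
  have hPEH : P ≤ EH := le_sup_left.trans hYEH
  have hXEH : X ≤ EH := le_sup_right.trans hYEH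
  obtain ⟨A, hAE, hAe, hA2⟩ := exists_sq_le_compl hG hH hEH hτ2
  obtain ⟨⟨hEA, hAall⟩, ⟨-, -, hNA⟩, -⟩ :=
    Cfsg.Agent.S1418.result hG H hH EH hEH p hτ2 A ⟨hAE, hAe, hA2⟩
  have hPA : P ≤ A := hAall P hPEH hPc
  have hAp : IsPGroup p ↥A := isPGroup_of_elementary hAe
  have hA1 : A ≠ ⊥ := fun h => hP1 (le_bot_iff.mp (h ▸ hPA))
  have hAH : A ≤ H := hAE.trans hEH.1
  have hAtop : A ≠ ⊤ := fun h => hH.1 (eq_top_iff.mpr (h ▸ hAH))
  obtain ⟨L, hL, hNL⟩ := exists_coatom_ge (normalizer_ne_top hG hA1 hAtop)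
  have hLH : L ≠ H := fun h => hNA (h ▸ hNL)
  have h1417 : T1417 G := fun M hM p _ hp A hA => Cfsg.Agent.S1417.result hG M hM p hp A hA
  have hpσL : p ∈ sigma L := mem_sigma_of_normalizer_le hG h1417 hL hAe hA2 hNL
  have hAL : A ≤ L := Subgroup.le_normalizer.trans hNL
  have hAσ : A ≤ sigmaCore L := le_sigmaCore_of_piNum hG hL hAL (fun r hr hd => by
    rw [prime_eq_of_dvd_card hAp hr hd]; exact hpσL)
  have hPσ : P ≤ sigmaCore L := hPA.trans hAσ
  have hXL : X ≤ L := hXEH.trans (hEA.trans hNL)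
  have hncL : ∀ g : G, L ≠ cj g M := by
    intro g hg
    rw [hg, sigma_cj] at hpσL
    exact hpσM hpσL
  have hLM : L ≠ M := fun h => hpσM (h ▸ hpσL)
  have hqσL : q ∉ sigma L := h1378.not_mem hM hL hncL hqσM
  have hqL : q ∣ Nat.card L := hXc ▸ Subgroup.card_dvd_of_le hXL
  have hfixL : sigmaCore L ⊓ Subgroup.centralizer (X : Set G) ≠ ⊥ := fun h =>
    hP1 (le_bot_iff.mp (h ▸ le_inf hPσ hPX))
  have hcopL : (Nat.card X).Coprime (Nat.card (sigmaCore L)) := by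
    rw [hXc]
    apply (Nat.Prime.coprime_iff_not_dvd hq).mpr
    intro hd
    exact hqσL ((sigmaCore_hall hG hL).1.2.1 q hq hd)
  rcases sigma_or_tau hG hL hqL with h | h | h | h
  · exact hqσL h
  · -- `q ∈ τ₁(L)`
    obtain ⟨-, hu⟩ := lemma_13_6_of_le hG hL h hXL hXq hX1 hPσ hPX hPc
    exact hLH (hu H hH hCPH).symm
  · -- `q ∈ τ₂(L)`
    obtain ⟨EL, hEL, hXEL⟩ := exists_complIn_ge hG hL hXL hcopL
    obtain ⟨B, hBE, hBe, hB2⟩ := exists_sq_le_compl hG hL hEL h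
    obtain ⟨⟨-, hBall⟩, -, hBX⟩ :=
      Cfsg.Agent.S1418.result hG L hL EL hEL q h B ⟨hBE, hBe, hB2⟩
    obtain ⟨-, hu⟩ := hBX X (hBall X hXEL hXc) hXc hfixL
    exact hLM (hu M hM hCXM).symm
  · -- `q ∈ τ₃(L)`
    obtain ⟨EL, hEL, hXEL⟩ := exists_complIn_ge hG hL hXL hcopL
    have hsolv : Group.IsSolvable ↥EL :=
      solvable_of_ne_top hG (ne_top_of_le_ne_top hL.1 hEL.1)
    obtain ⟨E₃, hE₃, hXE₃⟩ := exists_piHallOf_ge hsolv (tau3 L) hXEL
      (fun r hr hd => by rw [prime_eq_of_dvd_card hXq hr hd]; exact h)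
    have hpβ : p ∉ beta L := by
      intro hβ
      obtain ⟨K, -, hK⟩ := ideal_uniq hG hβ.2 hAe hA2
      exact hLH ((hK L ⟨hL, hAL⟩).trans (hK H ⟨hH, hAH⟩).symm)
    obtain ⟨T, hT, hTE₃⟩ := exists_sylIn_le_centralizer_tau3 hG hL hEL hE₃ hpσL hpβ
    have hTM : T ≤ M := (hTE₃.trans (Subgroup.centralizer_le hXE₃)).trans hCXM
    obtain ⟨c, -, hcA⟩ := hT.exists_conj_le hAσ hAp
    have hr1 : PRankLE p 1 ↥M := hpτ.2.2.2.2
    apply not_pRankLE_of_elementary (hcA.trans hTM) (isElementaryAbelian_cj hAe c) ?_ hr1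
    rw [card_cj, hA2]
    exact Nat.pow_lt_pow_right hp.out.one_lt (by norm_num)

end Cfsg.Agent.Lib.Helper2.BG14y
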