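import Mathlib
import Cfsg.Agent.Lib.Helper2.BG14y2
import Cfsg.Agent.S1378

set_option autoImplicit false
set_option linter.style.haveILetI false
set_option linter.unusedSectionVars false

/-! B and G, Theorem 14.2(b), first half, unconditional version. -/

namespace Cfsg.Agent.Lib.Helper2.BG14y

open Cfsg

universe u

variable {G : Type u} [Group G] [Finite G]

theorem t1378 (hG : IsMinSimpleOddOrder G) : T1378 G :=
  (Cfsg.Agent.S1378.result hG).2

/-- **B and G, Theorem 14.2(b)**, first half: if `P ≤ M` has order `p ∈ τ₁(M)` and centralizes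
a non-identity element of `M_σ`, then `p ∈ σ(H)` for every maximal subgroup `H ⊇ N_G(P)` -/
theorem mem_sigma_of_tau1_fixed' (hG : IsMinSimpleOddOrder G)
    {M H : Subgroup G} (hM : IsCoatom M) (hH : IsCoatom H) {p : ℕ} [hp : Fact p.Prime]
    (hpτ : p ∈ tau1 M) {P : Subgroup G} (hPM : P ≤ M) (hPc : Nat.card P = p)
    (hfix : sigmaCore M ⊓ Subgroup.centralizer (P : Set G) ≠ ⊥)
    (hNH : Subgroup.normalizer (P : Set G) ≤ H) : p ∈ sigma H :=
  mem_sigma_of_tau1_fixed hG (t1378 hG) hM hH hpτ hPM hPc hfix hNH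

end Cfsg.Agent.Lib.Helper2.BG14y
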