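import Mathlib
import Cfsg.Agent.S1361
import Cfsg.Agent.Lib.Lead.BG14n5
import Cfsg.Agent.Lib.Helper5.BG139a

set_option autoImplicit false
set_option linter.style.haveILetI false
set_option linter.unusedSectionVars false
set_option maxHeartbeats 800000

/-!
# `A(M) ∖ M_σ` is a TI-subset (S1362)
-/

namespace Cfsg.Agent.Lib.Helper2.BG14t

open Cfsg Cfsg.Agent.Lib.Helper7 Cfsg.Agent.Lib.Helper4.BGConj
open Cfsg.Agent.Lib.Lead.BG14n Cfsg.Agent.Lib.Helper4.BG9 Cfsg.Agent.Lib.Helper4.BG8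
open Cfsg.Agent.Lib.Helper4.BG14 Cfsg.Agent.Lib.Helper5.BG139

universe u

variable {G : Type u} [Group G] [Finite G]

/-- `U` is a Hall `σ(M)'`-subgroup of `U M_σ` -/
theorem sd_hall_U (hG : IsMinSimpleOddOrder G) {M K U : Subgroup G} (hM : IsCoatom M)
    (h : IsSigmaDecomposition M K U) :
    IsPiHallOf {p | p ∉ sigma M} U (U ⊔ sigmaCore M) := by
  refine ⟨le_sup_left, fun p hp hd => sd_not_sigma h hG hM hp hd, ?_⟩
  intro p hp hpσ hd
  apply hpσ
  have hn : U ≤ Subgroup.normalizer (sigmaCore M : Set G) :=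
    (sd_U_le h).trans (Cfsg.Agent.Lib.Lead.BG10.le_normalizer_sigmaCore M)
  have h1 := Cfsg.Agent.Lib.Lead.card_sup_mul_card_inf U (sigmaCore M) hn
  rw [sd_U_inf_sigmaCore h, Subgroup.card_bot, mul_one] at h1
  have h2 : U.relIndex (U ⊔ sigmaCore M) * Nat.card U = Nat.card ↥(U ⊔ sigmaCore M) := by
    have := Subgroup.relIndex_mul_relIndex ⊥ U (U ⊔ sigmaCore M) bot_le le_sup_left
    rw [Subgroup.relIndex_bot_left, Subgroup.relIndex_bot_left] at this
    rw [mul_comm]; exact this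
  have h3 : U.relIndex (U ⊔ sigmaCore M) = Nat.card (sigmaCore M) := by
    have hpos : 0 < Nat.card U := Nat.card_pos
    apply Nat.eq_of_mul_eq_mul_right hpos
    rw [h2, h1, mul_comm]
  rw [h3] at hd
  exact (Cfsg.Agent.Lib.Lead.BG10.sigmaCore_hall hG hM).1.2.1 p hp hd

/-- a nontrivial `σ(M)'`-subgroup `B` of `U M_σ` centralizing a non-identity element of `M_σ`:
`M` is the unique maximal subgroup containing `C_G(B)`. -/
theorem uniq_of_le_sup (hG : IsMinSimpleOddOrder G) {M K U : Subgroup G} (hM : IsCoatom M)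
    (h : IsSigmaDecomposition M K U) {B : Subgroup G} (hBH : B ≤ U ⊔ sigmaCore M) (hB1 : B ≠ ⊥)
    (hBσ : ∀ p : ℕ, p.Prime → p ∣ Nat.card B → p ∉ sigma M) {y : G} (hy : y ∈ sigmaCore M)
    (hy1 : y ≠ 1) (hBy : B ≤ Subgroup.centralizer ({y} : Set G)) :
    Subgroup.centralizer (B : Set G) ≤ M ∧
    ∀ L : Subgroup G, IsCoatom L → Subgroup.centralizer (B : Set G) ≤ L → L = M := by
  have hHM : U ⊔ sigmaCore M ≤ M := sup_le (sd_U_le h) (Cfsg.Agent.Lib.Lead.BG10.sigmaCore_le M)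
  have hHtop : U ⊔ sigmaCore M ≠ ⊤ := fun h0 => hM.1 (eq_top_iff.mpr (h0 ▸ hHM))
  have hsolv : Group.IsSolvable ↥(U ⊔ sigmaCore M) := solvable_of_ne_top hG hHtop
  obtain ⟨m, hm, hmB⟩ := exists_cj_le_hall hsolv {p | p ∉ sigma M} (sd_hall_U hG hM h) hBH hBσ
  have hmM : m ∈ M := hHM hm
  have hX1 : cj m B ≠ ⊥ := by
    rw [Ne, cj_eq_bot_iff]; exact hB1
  have hXc : sigmaCore M ⊓ Subgroup.centralizer ((cj m B : Subgroup G) : Set G) ≠ ⊥ := by
    intro h0
    have hmem : m * y * m⁻¹ ∈ sigmaCore M ⊓ Subgroup.centralizer ((cj m B : Subgroup G) : Set G) := by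
      refine Subgroup.mem_inf.mpr ⟨?_, ?_⟩
      · have hn := Cfsg.Agent.Lib.Lead.BG10.le_normalizer_sigmaCore M hmM
        exact (Subgroup.mem_set_normalizer_iff.mp hn y).mp hy
      · rw [Subgroup.mem_centralizer_iff]
        rintro x hx
        rw [SetLike.mem_coe, Helper7.mem_cj] at hx
        have hc := hBy hx
        rw [Subgroup.mem_centralizer_iff] at hc
        have hc' := hc y rfl
        -- `y` commutes with `m⁻¹ x m`
        calc x * (m * y * m⁻¹) = m * ((m⁻¹ * x * m) * y) * m⁻¹ := by group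
          _ = m * (y * (m⁻¹ * x * m)) * m⁻¹ := by rw [hc']
          _ = m * y * m⁻¹ * x := by group
    rw [h0, Subgroup.mem_bot] at hmem
    exact conj_ne_one hy1 hmem
  obtain ⟨hCM, huniq⟩ := Cfsg.Agent.S1361.result hG M hM K U h (cj m B) hmB hX1 hXc
  refine ⟨?_, ?_⟩
  · rw [Cfsg.Agent.Lib.Lead.BG95.centralizer_cj] at hCM
    have h1 := cj_mono m⁻¹ hCM
    rw [cj_inv_cj, Helper7.cj_eq_self_of_mem (M.inv_mem hmM)] at h1
    exact h1
  intro L hL hCL
  have h1 : Subgroup.centralizer ((cj m B : Subgroup G) : Set G) ≤ cj m L := by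
    rw [Cfsg.Agent.Lib.Lead.BG95.centralizer_cj]
    exact cj_mono m hCL
  have h2 := huniq (cj m L) (isCoatom_cj hL m) h1
  have h3 : L = cj m⁻¹ M := by rw [← h2, cj_inv_cj]
  rw [h3, Helper7.cj_eq_self_of_mem (M.inv_mem hmM)]

/-- `M` normalizes `A(M) ∖ M_σ` -/
theorem conj_mem_sigmaA_diff {M K U : Subgroup G} (h : IsSigmaDecomposition M K U) {m x : G}
    (hm : m ∈ M) (hx : x ∈ sigmaA M U \ (sigmaCore M : Set G)) :
    m * x * m⁻¹ ∈ sigmaA M U \ (sigmaCore M : Set G) := by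
  obtain ⟨⟨⟨hxM, y, hy, hy1, hxy⟩, hxH⟩, hxσ⟩ := hx
  have hn := Cfsg.Agent.Lib.Lead.BG10.le_normalizer_sigmaCore M hm
  refine ⟨⟨⟨M.mul_mem (M.mul_mem hm hxM) (M.inv_mem hm), m * y * m⁻¹,
    (Subgroup.mem_set_normalizer_iff.mp hn y).mp hy, conj_ne_one hy1, ?_⟩, ?_⟩, ?_⟩
  · calc m * x * m⁻¹ * (m * y * m⁻¹) = m * (x * y) * m⁻¹ := by group
      _ = m * (y * x) * m⁻¹ := by rw [hxy]
      _ = m * y * m⁻¹ * (m * x * m⁻¹) := by group
  · have hn2 := sd_le_normalizer h hm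
    exact (Subgroup.mem_set_normalizer_iff.mp hn2 x).mp hxH
  · intro hcon
    exact hxσ ((Subgroup.mem_set_normalizer_iff.mp hn x).mpr hcon)

theorem le_normalizer_sigmaA_diff {M K U : Subgroup G} (h : IsSigmaDecomposition M K U) :
    M ≤ Subgroup.normalizer (sigmaA M U \ (sigmaCore M : Set G)) := by
  intro m hm
  rw [Subgroup.mem_set_normalizer_iff]
  intro x
  constructor
  · intro hx
    exact conj_mem_sigmaA_diff h hm hx
  · intro hx
    have := conj_mem_sigmaA_diff h (M.inv_mem hm) hx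
    have e : m⁻¹ * (m * x * m⁻¹) * m⁻¹⁻¹ = x := by group
    rwa [e] at this

/-- the key step: `x, g x g⁻¹ ∈ A(M) ∖ M_σ` forces `g ∈ M` -/
theorem mem_of_conj_mem_sigmaA_diff (hG : IsMinSimpleOddOrder G) {M K U : Subgroup G}
    (hM : IsCoatom M) (h : IsSigmaDecomposition M K U) {g x : G}
    (hx : x ∈ sigmaA M U \ (sigmaCore M : Set G))
    (hgx : g * x * g⁻¹ ∈ sigmaA M U \ (sigmaCore M : Set G)) : g ∈ M := by
  obtain ⟨⟨⟨hxM, y, hy, hy1, hxy⟩, hxH⟩, hxσ⟩ := hx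
  obtain ⟨⟨⟨hxM', y', hy', hy1', hxy'⟩, hxH'⟩, hxσ'⟩ := hgx
  have hHM : U ⊔ sigmaCore M ≤ M := sup_le (sd_U_le h) (Cfsg.Agent.Lib.Lead.BG10.sigmaCore_le M)
  have hAH : Subgroup.zpowers x ≤ U ⊔ sigmaCore M := Subgroup.zpowers_le.mpr hxH
  have hAtop : Subgroup.zpowers x ≠ ⊤ := fun h0 => hM.1 (eq_top_iff.mpr (h0 ▸ hAH.trans hHM))
  have hsolvA : Group.IsSolvable ↥(Subgroup.zpowers x) := solvable_of_ne_top hG hAtop
  obtain ⟨B, hBhall, -⟩ := exists_hall_ge hsolvA {p | p ∉ sigma M}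
    (bot_le : (⊥ : Subgroup G) ≤ Subgroup.zpowers x) (by
      intro p hp hd
      rw [Subgroup.card_bot] at hd
      exact absurd (Nat.dvd_one.mp hd) hp.one_lt.ne')
  have hBA : B ≤ Subgroup.zpowers x := hBhall.1
  have hB1 : B ≠ ⊥ := by
    intro h0
    apply hxσ
    apply mem_sigmaCore_of_orderOf hG hM hxM
    intro p hp hd
    by_contra hpσ
    apply hBhall.2.2 p hp hpσ
    rw [h0, Subgroup.relIndex_bot_left, Nat.card_zpowers]
    exact hd
  have hBσ : ∀ p : ℕ, p.Prime → p ∣ Nat.card B → p ∉ sigma M := hBhall.2.1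
  have hxCy : x ∈ Subgroup.centralizer ({y} : Set G) := by
    rw [Subgroup.mem_centralizer_iff]
    rintro z rfl
    exact hxy.symm
  have hBy : B ≤ Subgroup.centralizer ({y} : Set G) :=
    hBA.trans (Subgroup.zpowers_le.mpr hxCy)
  obtain ⟨hCM, -⟩ := uniq_of_le_sup hG hM h (hBA.trans hAH) hB1 hBσ hy hy1 hBy
  -- the conjugate
  have hB'H : cj g B ≤ U ⊔ sigmaCore M :=
    (cj_mono g hBA).trans (Cfsg.Agent.Lib.Lead.BG10.cj_zpowers_le hxH')
  have hB'1 : cj g B ≠ ⊥ := by rw [Ne, cj_eq_bot_iff]; exact hB1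
  have hB'σ : ∀ p : ℕ, p.Prime → p ∣ Nat.card ↥(cj g B) → p ∉ sigma M := by
    intro p hp hd
    rw [Helper7.card_cj] at hd
    exact hBσ p hp hd
  have hx'Cy : g * x * g⁻¹ ∈ Subgroup.centralizer ({y'} : Set G) := by
    rw [Subgroup.mem_centralizer_iff]
    rintro z rfl
    exact hxy'.symm
  have hB'y : cj g B ≤ Subgroup.centralizer ({y'} : Set G) :=
    (cj_mono g hBA).trans (Cfsg.Agent.Lib.Lead.BG10.cj_zpowers_le hx'Cy)
  obtain ⟨-, huniq'⟩ := uniq_of_le_sup hG hM h hB'H hB'1 hB'σ hy' hy1' hB'y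
  have h1 : Subgroup.centralizer ((cj g B : Subgroup G) : Set G) ≤ cj g M := by
    rw [Cfsg.Agent.Lib.Lead.BG95.centralizer_cj]
    exact cj_mono g hCM
  have h2 : cj g M = M := huniq' (cj g M) (isCoatom_cj hM g) h1
  have hM1 : M ≠ ⊥ := by
    intro h0
    apply hxσ
    rw [h0, Subgroup.mem_bot] at hxM
    rw [hxM]; exact Subgroup.one_mem _
  have h3 : g ∈ Subgroup.normalizer (M : Set G) := mem_normalizer_iff_cj.mpr h2
  rw [normalizer_eq_of_isCoatom hG hM hM1 le_rfl Subgroup.le_normalizer] at h3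
  exact h3

/-- **S1362**: `A(M) ∖ M_σ` is a TI-subset of `G`. -/
theorem sigmaA_diff_ti (hG : IsMinSimpleOddOrder G) {M K U : Subgroup G} (hM : IsCoatom M)
    (h : IsSigmaDecomposition M K U) :
    IsTISubset (sigmaA M U \ (sigmaCore M : Set G)) := by
  intro g hg x hx hgx
  exfalso
  exact hg (le_normalizer_sigmaA_diff h (mem_of_conj_mem_sigmaA_diff hG hM h hx hgx))

end Cfsg.Agent.Lib.Helper2.BG14t
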