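import Mathlib

set_option autoImplicit false
set_option linter.unusedSectionVars false

/-!
# Counting the conjugates of a TI-subset

`ncard_conj_of_ti`: if `T` is a subset of `G` normalized by the subgroup `Z`, and every `h` with
`z, h z h⁻¹ ∈ T` lies in `Z`, then the union of the conjugates of `T` has `|G : Z| · |T|` elements.
-/

namespace Cfsg.Agent.Lib.Helper2.BG14u

universe u

variable {G : Type u} [Group G] [Finite G]

/-- the parametrisation of the conjugates of `T` by `(G ⧸ Z) × T` -/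
noncomputable def conjMap (Z : Subgroup G) (T : Set G) (p : (G ⧸ Z) × ↥T) : G :=
  p.1.out * (p.2 : G) * p.1.out⁻¹

theorem conjMap_injective (Z : Subgroup G) (T : Set G)
    (hti : ∀ z ∈ T, ∀ h : G, h * z * h⁻¹ ∈ T → h ∈ Z) :
    Function.Injective (conjMap Z T) := by
  rintro ⟨q, ⟨z, hz⟩⟩ ⟨q', ⟨z', hz'⟩⟩ heq
  simp only [conjMap] at heq
  have h1 : (q'.out⁻¹ * q.out) * z * (q'.out⁻¹ * q.out)⁻¹ = z' := by
    calc (q'.out⁻¹ * q.out) * z * (q'.out⁻¹ * q.out)⁻¹
        = q'.out⁻¹ * (q.out * z * q.out⁻¹) * q'.out := by group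
      _ = q'.out⁻¹ * (q'.out * z' * q'.out⁻¹) * q'.out := by rw [heq]
      _ = z' := by group
  have h2 : q'.out⁻¹ * q.out ∈ Z := hti z hz _ (by rw [h1]; exact hz')
  have h3 : q' = q := by
    have := (QuotientGroup.eq (s := Z) (a := q'.out) (b := q.out)).mpr h2
    rwa [QuotientGroup.out_eq', QuotientGroup.out_eq'] at this
  subst h3
  have h4 : z = z' := by
    have : q'.out⁻¹ * q'.out = 1 := inv_mul_cancel _
    rw [this] at h1
    simpa using h1
  subst h4
  rfl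

theorem range_conjMap (Z : Subgroup G) (T : Set G)
    (hnorm : ∀ z ∈ T, ∀ h ∈ Z, h * z * h⁻¹ ∈ T) :
    Set.range (conjMap Z T) = {a : G | ∃ g : G, ∃ z ∈ T, a = g * z * g⁻¹} := by
  ext a
  constructor
  · rintro ⟨⟨q, ⟨z, hz⟩⟩, rfl⟩
    exact ⟨q.out, z, hz, rfl⟩
  · rintro ⟨g, z, hz, rfl⟩
    set q : G ⧸ Z := (g : G ⧸ Z) with hq
    have h1 : q.out⁻¹ * g ∈ Z := by
      have : ((q.out : G) : G ⧸ Z) = (g : G ⧸ Z) := by rw [QuotientGroup.out_eq']
      exact (QuotientGroup.eq (s := Z)).mp this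
    refine ⟨⟨q, ⟨(q.out⁻¹ * g) * z * (q.out⁻¹ * g)⁻¹, hnorm z hz _ h1⟩⟩, ?_⟩
    simp only [conjMap]
    group

/-- **TI count**: the union of the conjugates of a set `T` which is normalized by `Z` and such that
`z, h z h⁻¹ ∈ T` forces `h ∈ Z` has exactly `|G : Z| · |T|` elements. -/
theorem ncard_conj_of_ti (Z : Subgroup G) (T : Set G)
    (hnorm : ∀ z ∈ T, ∀ h ∈ Z, h * z * h⁻¹ ∈ T)
    (hti : ∀ z ∈ T, ∀ h : G, h * z * h⁻¹ ∈ T → h ∈ Z) :
    Set.ncard {a : G | ∃ g : G, ∃ z ∈ T, a = g * z * g⁻¹} = Z.index * Set.ncard T := by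
  rw [← range_conjMap Z T hnorm]
  have h1 : Set.ncard (Set.range (conjMap Z T)) = Nat.card ((G ⧸ Z) × ↥T) := by
    rw [← Set.image_univ, Set.ncard_image_of_injective _ (conjMap_injective Z T hti),
      Set.ncard_univ]
  rw [h1, Nat.card_prod, Subgroup.index, Nat.card_coe_set_eq]

end Cfsg.Agent.Lib.Helper2.BG14u
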