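import Mathlib
import Cfsg.Agent.Lib.Lead.BG14n5
import Cfsg.Agent.Lib.Helper5.BG139h

set_option autoImplicit false
set_option linter.style.haveILetI false
set_option linter.unusedSectionVars false

/-!
# Disjointness tools for the sets `M̃` (B and G, Section 14)

* `tildeOf_inter_eq_empty` : `M̃ ∩ Ñ = ∅` for non-conjugate maximal subgroups (first part of S1379);
* `not_mem_tildeOf_of_forall` : an element `z` all of whose prime-order powers `x` lie in some
  `N_σ` with `C_G(x) ≤ N` and `z ∉ N_σ` lies in no `H̃`.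
-/

namespace Cfsg.Agent.Lib.Helper2.BG14u

open Cfsg Cfsg.Agent.Lib.Helper7 Cfsg.Agent.Lib.Helper4.BGConj
open Cfsg.Agent.Lib.Lead.BG14n Cfsg.Agent.Lib.Helper4.BG9

universe u

variable {G : Type u} [Group G] [Finite G]

/-- `M̃` is closed under conjugation -/
theorem conj_mem_tildeOf {M : Subgroup G} {A : Set G} {z : G} (hz : z ∈ tildeOf M A) (g : G) :
    g * z * g⁻¹ ∈ tildeOf M A := by
  obtain ⟨a, ha, r, hr, y, rfl⟩ := hz
  refine ⟨a, ha, r, hr, g * y, ?_⟩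
  group

theorem conj_mem_tildeOf_iff {M : Subgroup G} {A : Set G} {z : G} (g : G) :
    g * z * g⁻¹ ∈ tildeOf M A ↔ z ∈ tildeOf M A := by
  constructor
  · intro h
    have := conj_mem_tildeOf h g⁻¹
    have h2 : g⁻¹ * (g * z * g⁻¹) * g⁻¹⁻¹ = z := by group
    rwa [h2] at this
  · intro h
    exact conj_mem_tildeOf h g

/-- an element of `M̃` is `x r` with `x ∈ M'_σ#` and `r ∈ R(x)` for a conjugate `M'` of `M` -/
theorem exists_of_mem_tildeOf (hG : IsMinSimpleOddOrder G) {M : Subgroup G} (hM : IsCoatom M)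
    {z : G} (hz : z ∈ tildeOf M ((sigmaCore M : Set G) \ {1})) :
    ∃ t x r : G, x ∈ sigmaCore (cj t M) ∧ x ≠ 1 ∧ r ∈ supportR (cj t M) x ∧ z = x * r := by
  obtain ⟨a, ⟨ha, ha1⟩, r, hr, y, rfl⟩ := hz
  have hane : a ≠ 1 := ha1
  have haσ : a ∈ sigmaCore M := ha
  refine ⟨y, y * a * y⁻¹, y * r * y⁻¹, ?_, conj_ne_one hane, ?_, by group⟩
  · rw [sigmaCore_cj]; exact conj_mem_cj haσ
  · rw [supportR_cj hG hM haσ hane]
    exact conj_mem_cj hr

/-- **first part of S1379** (B and G, 14.6(a) and 13.9): `M̃ ∩ Ñ = ∅` for non-conjugate maximal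
subgroups `M`, `N`. -/
theorem tildeOf_inter_eq_empty (hG : IsMinSimpleOddOrder G) {M N : Subgroup G} (hM : IsCoatom M)
    (hN : IsCoatom N) (hnc : ∀ g : G, N ≠ cj g M) :
    tildeOf M ((sigmaCore M : Set G) \ {1}) ∩ tildeOf N ((sigmaCore N : Set G) \ {1}) = ∅ := by
  rw [Set.eq_empty_iff_forall_notMem]
  rintro z ⟨hzM, hzN⟩
  obtain ⟨t, x, r, hx, hx1, hr, hz⟩ := exists_of_mem_tildeOf hG hM hzM
  obtain ⟨s, y, u, hy, hy1, hu, hz'⟩ := exists_of_mem_tildeOf hG hN hzN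
  have hM' := isCoatom_cj hM t
  have hN' := isCoatom_cj hN s
  have hxy : x = y := eq_of_mul_supportR_eq hG hM' hN' hx hy hx1 hy1 hr hu (hz.symm.trans hz')
  subst hxy
  have hord : orderOf x ≠ 1 := fun h => hx1 (orderOf_eq_one_iff.mp h)
  obtain ⟨p, hp, hpx⟩ := Nat.exists_prime_and_dvd hord
  have h1 := mem_sigma_of_dvd_orderOf hG hM' hx hp hpx
  have h2 := mem_sigma_of_dvd_orderOf hG hN' hy hp hpx
  obtain ⟨g, hg⟩ := Cfsg.Agent.Lib.Helper5.BG139.sigma_partition hG hM' hN' h1 h2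
  apply hnc (s⁻¹ * g * t)
  rw [Helper7.cj_mul, Helper7.cj_mul, ← hg, cj_inv_cj]

/-- the statement in the exact form of S1379 -/
theorem tildeOf_inter_eq_empty' (hG : IsMinSimpleOddOrder G) {M N : Subgroup G} (hM : IsCoatom M)
    (hN : IsCoatom N) (hnc : ∀ g : G, N ≠ M.map (MulAut.conj g).toMonoidHom) :
    tildeOf M ((sigmaCore M : Set G) \ {1}) ∩ tildeOf N ((sigmaCore N : Set G) \ {1}) = ∅ :=
  tildeOf_inter_eq_empty hG hM hN hnc

/-- `1 ∉ M̃` -/
theorem one_not_mem_tildeOf (hG : IsMinSimpleOddOrder G) {M : Subgroup G} (hM : IsCoatom M) :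
    (1 : G) ∉ tildeOf M ((sigmaCore M : Set G) \ {1}) := by
  intro h
  obtain ⟨t, x, r, hx, hx1, hr, hz⟩ := exists_of_mem_tildeOf hG hM h
  have hM' := isCoatom_cj hM t
  obtain ⟨hxr, hcxr⟩ := supportR_commute_coprime hG hM' hx hx1 hr
  obtain ⟨hxz, -⟩ := mem_zpowers_mul_of_coprime hxr hcxr
  rw [← hz, Subgroup.zpowers_one_eq_bot, Subgroup.mem_bot] at hxz
  exact hx1 hxz

/-- **(C3)**: if every prime-order element `x` of `⟨z⟩` lies in `N_σ` for a maximal subgroup `N`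
with `C_G(x) ≤ N` and `z ∉ N_σ`, then `z` lies in no `H̃`. -/
theorem not_mem_tildeOf_of_forall (hG : IsMinSimpleOddOrder G) {z : G}
    (h : ∀ x ∈ Subgroup.zpowers z, (orderOf x).Prime → ∃ N : Subgroup G, IsCoatom N ∧
      x ∈ sigmaCore N ∧ Subgroup.centralizer ({x} : Set G) ≤ N ∧ z ∉ sigmaCore N)
    {H : Subgroup G} (hH : IsCoatom H) : z ∉ tildeOf H ((sigmaCore H : Set G) \ {1}) := by
  intro hz
  obtain ⟨t, x, r, hx, hx1, hr, hzx⟩ := exists_of_mem_tildeOf hG hH hz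
  have hH' := isCoatom_cj hH t
  set H' := cj t H with hH'def
  obtain ⟨hxr, hcxr⟩ := supportR_commute_coprime hG hH' hx hx1 hr
  obtain ⟨hxz, -⟩ := mem_zpowers_mul_of_coprime hxr hcxr
  rw [← hzx] at hxz
  have hord : orderOf x ≠ 1 := fun h => hx1 (orderOf_eq_one_iff.mp h)
  obtain ⟨p, hp, hpx⟩ := Nat.exists_prime_and_dvd hord
  -- the element of order `p`
  set x' := x ^ (orderOf x / p) with hx'def
  have hx'ord : orderOf x' = p := by
    have hpos : 0 < orderOf x := orderOf_pos x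
    rw [hx'def, orderOf_pow' x (by
      intro h0
      have := Nat.div_mul_cancel hpx
      rw [h0, zero_mul] at this
      omega), Nat.gcd_eq_right (Nat.div_dvd_of_dvd hpx)]
    exact Nat.div_div_self hpx hpos.ne'
  have hx'x : x' ∈ Subgroup.zpowers x := Subgroup.pow_mem _ (Subgroup.mem_zpowers x) _
  have hx'z : x' ∈ Subgroup.zpowers z := (Subgroup.zpowers_le.mpr hxz) hx'x
  have hx'σ : x' ∈ sigmaCore H' := Subgroup.pow_mem _ hx _
  obtain ⟨N, hN, hx'N, hCN, hzN⟩ := h x' hx'z (by rw [hx'ord]; exact hp)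
  have h1 := mem_sigma_of_dvd_orderOf hG hH' hx'σ hp (by rw [hx'ord])
  have h2 := mem_sigma_of_dvd_orderOf hG hN hx'N hp (by rw [hx'ord])
  obtain ⟨g, hg⟩ := Cfsg.Agent.Lib.Helper5.BG139.sigma_partition hG hN hH' h2 h1
  have hx'g : x' ∈ cj g N := by rw [← hg]; exact Cfsg.Agent.Lib.Lead.BG10.sigmaCore_le _ hx'σ
  obtain ⟨c, hcC, hcg⟩ := exists_centralizer_cj hG hN hx'N hx'g
  have hHN : H' = N := by rw [hg, hcg, Helper7.cj_eq_self_of_mem (hCN hcC)]
  have hCx : Subgroup.centralizer ({x} : Set G) ≤ H' := by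
    rw [hHN]
    refine le_trans ?_ hCN
    intro c hc
    rw [Subgroup.mem_centralizer_iff] at hc ⊢
    rintro y rfl
    have hcx : Commute x c := hc x rfl
    exact (hcx.pow_left _).eq
  rw [supportR_eq_bot hCx, Subgroup.mem_bot] at hr
  rw [hr, mul_one] at hzx
  rw [hzx, ← hHN] at hzN
  exact hzN hx

/-- **(C3)**, all conjugates -/
theorem conj_not_mem_tildeOf_of_forall (hG : IsMinSimpleOddOrder G) {z : G}
    (h : ∀ x ∈ Subgroup.zpowers z, (orderOf x).Prime → ∃ N : Subgroup G, IsCoatom N ∧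
      x ∈ sigmaCore N ∧ Subgroup.centralizer ({x} : Set G) ≤ N ∧ z ∉ sigmaCore N)
    {H : Subgroup G} (hH : IsCoatom H) (g : G) :
    g * z * g⁻¹ ∉ tildeOf H ((sigmaCore H : Set G) \ {1}) := by
  rw [conj_mem_tildeOf_iff]
  exact not_mem_tildeOf_of_forall hG h hH

end Cfsg.Agent.Lib.Helper2.BG14u
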