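import Mathlib

set_option autoImplicit false
set_option linter.unusedSectionVars false

/-!
# The arithmetic of the count in B and G, Theorem 14.7

`count_arith`: the numerical core of the counting argument: if all the members of the family are
"of type P1" the family has at most one member.
-/

namespace Cfsg.Agent.Lib.Helper2.BG14u

/-- the arithmetic of the count: `z = |Z|`, `i = |G : Z|`, `g = |G|`, and for `N` in the family
`s N = |N_σ|`, `k N = |K*_N|`, `n N = |N|`, `m N = |G : N|`, `t = |T|`. -/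
theorem count_arith {ι : Type*} (𝒩 : Finset ι) (s k n m : ι → ℕ) (z i g t : ℕ)
    (hz : 0 < z) (hi : 0 < i) (hg : g = z * i)
    (hk : ∀ N ∈ 𝒩, 0 < k N)
    (hP1 : ∀ N ∈ 𝒩, n N * k N = s N * z)
    (hidx : ∀ N ∈ 𝒩, g = m N * n N)
    (hks : ∀ N ∈ 𝒩, 2 * k N ≤ s N)
    (hT : z ≤ t + ∑ N ∈ 𝒩, (k N - 1) + 1)
    (hcount : ∑ N ∈ 𝒩, (s N - 1) * m N + i * t + 1 ≤ g) :
    𝒩.card ≤ 1 := by
  -- `m N * s N = i * k N`
  have h1 : ∀ N ∈ 𝒩, m N * s N = i * k N := by
    intro N hN
    have e1 := hP1 N hN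
    have e2 := hidx N hN
    have e3 : z * (m N * s N) = z * (i * k N) := by
      calc z * (m N * s N) = m N * (s N * z) := by ring
        _ = m N * (n N * k N) := by rw [e1]
        _ = (m N * n N) * k N := by ring
        _ = g * k N := by rw [← e2]
        _ = z * (i * k N) := by rw [hg]; ring
    exact Nat.eq_of_mul_eq_mul_left hz e3
  have h2 : ∀ N ∈ 𝒩, 2 * m N ≤ i := by
    intro N hN
    have e1 := h1 N hN
    have e2 := hks N hN
    have e3 : (2 * m N) * k N ≤ i * k N := by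
      calc (2 * m N) * k N = m N * (2 * k N) := by ring
        _ ≤ m N * s N := Nat.mul_le_mul_left _ e2
        _ = i * k N := e1
    exact Nat.le_of_mul_le_mul_right e3 (hk N hN)
  have h3 : ∀ N ∈ 𝒩, (s N - 1) * m N + m N = i * k N := by
    intro N hN
    have e1 := h1 N hN
    have e2 : 1 ≤ s N := by have := hks N hN; have := hk N hN; omega
    calc (s N - 1) * m N + m N = (s N - 1 + 1) * m N := by ring
      _ = s N * m N := by rw [Nat.sub_add_cancel e2]
      _ = i * k N := by rw [mul_comm, e1]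
  have h4 : ∑ N ∈ 𝒩, (s N - 1) * m N + ∑ N ∈ 𝒩, m N = i * ∑ N ∈ 𝒩, k N := by
    rw [← Finset.sum_add_distrib, Finset.mul_sum]
    exact Finset.sum_congr rfl h3
  have h5 : ∑ N ∈ 𝒩, (k N - 1) + 𝒩.card = ∑ N ∈ 𝒩, k N := by
    rw [Finset.card_eq_sum_ones, ← Finset.sum_add_distrib]
    apply Finset.sum_congr rfl
    intro N hN
    have := hk N hN
    omega
  have h6 : 2 * ∑ N ∈ 𝒩, m N ≤ i * 𝒩.card := by
    rw [Finset.mul_sum, Finset.card_eq_sum_ones, Finset.mul_sum]
    apply Finset.sum_le_sum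
    intro N hN
    have := h2 N hN
    omega
  by_contra hcon
  push Not at hcon
  have h7 : 2 * i ≤ i * 𝒩.card := by
    calc 2 * i = i * 2 := by ring
      _ ≤ i * 𝒩.card := Nat.mul_le_mul_left _ hcon
  set A := ∑ N ∈ 𝒩, (s N - 1) * m N
  set B := ∑ N ∈ 𝒩, m N
  set C := ∑ N ∈ 𝒩, k N
  set D := ∑ N ∈ 𝒩, (k N - 1)
  set c := 𝒩.card
  have h8 : i * z ≤ i * t + i * D + i := by
    calc i * z ≤ i * (t + D + 1) := Nat.mul_le_mul_left _ hT
      _ = i * t + i * D + i := by ring
  have h9 : i * D + i * c = i * C := by rw [← h5]; ring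
  -- everything is now linear
  have h10 : g = i * z := by rw [hg]; ring
  nlinarith

end Cfsg.Agent.Lib.Helper2.BG14u
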