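import Mathlib
import Cfsg.Agent.Lib.Helper2.BG14u1
import Cfsg.Agent.Lib.Helper2.BG14u2
import Cfsg.Agent.Lib.Helper2.BG14u3

set_option autoImplicit false
set_option linter.style.haveILetI false
set_option linter.unusedSectionVars false
set_option maxHeartbeats 800000

/-!
# The count of B and G, Theorem 14.7, for an abstract family of maximal subgroups

`family_card_le_one`: a family `𝒩` of pairwise non-conjugate maximal subgroups containing `Z`, all
"of type P1" relative to `Z`, such that `T = Z ∖ ⋃ N_σ` is a TI-set with normalizer `Z` whose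
prime-order powers lie in some `N_σ`, `N ∈ 𝒩`, with `C_G(x) ≤ N`, has at most one member.
-/

namespace Cfsg.Agent.Lib.Helper2.BG14u

open Cfsg Cfsg.Agent.Lib.Helper7 Cfsg.Agent.Lib.Helper4.BGConj
open Cfsg.Agent.Lib.Lead.BG14n Cfsg.Agent.Lib.Helper4.BG9

universe u

variable {G : Type u} [Group G] [Finite G]

theorem ncard_coe_subgroup (H : Subgroup G) : (H : Set G).ncard = Nat.card H :=
  (Nat.card_coe_set_eq (H : Set G)).symm

/-- the union of finitely many pairwise disjoint sets -/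
theorem ncard_biUnion_of_disjoint {ι : Type*} [DecidableEq ι] (t : Finset ι) (S : ι → Set G)
    (hd : ∀ a ∈ t, ∀ b ∈ t, a ≠ b → S a ∩ S b = ∅) :
    (⋃ a ∈ t, S a).ncard = ∑ a ∈ t, (S a).ncard := by
  induction t using Finset.induction_on with
  | empty => simp
  | insert a s ha ih =>
    rw [Finset.set_biUnion_insert, Finset.sum_insert ha]
    have h1 : Disjoint (S a) (⋃ x ∈ s, S x) := by
      rw [Set.disjoint_iff]
      rintro x ⟨hxa, hxs⟩
      simp only [Set.mem_iUnion] at hxs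
      obtain ⟨b, hb, hxb⟩ := hxs
      have hne : a ≠ b := fun h => ha (h ▸ hb)
      have := hd a (Finset.mem_insert_self a s) b (Finset.mem_insert_of_mem hb) hne
      rw [Set.eq_empty_iff_forall_notMem] at this
      exact this x ⟨hxa, hxb⟩
    rw [Set.ncard_union_eq h1 (Set.toFinite _) (Set.toFinite _), ih]
    intro x hx y hy hxy
    exact hd x (Finset.mem_insert_of_mem hx) y (Finset.mem_insert_of_mem hy) hxy

/-- **(C2)**: `|Z| ≤ |T| + Σ (|K*_N| - 1) + 1` -/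
theorem card_le_ncard_add_sum (Z : Subgroup G) (𝒩 : Finset (Subgroup G)) (S : Subgroup G → Subgroup G) :
    Nat.card Z ≤ Set.ncard {z : G | z ∈ Z ∧ ∀ N ∈ 𝒩, z ∉ S N} +
      ∑ N ∈ 𝒩, (Nat.card ↥(S N ⊓ Z) - 1) + 1 := by
  classical
  set T : Set G := {z : G | z ∈ Z ∧ ∀ N ∈ 𝒩, z ∉ S N} with hT
  have h1 : (Z : Set G) ⊆ (T ∪ ⋃ N ∈ 𝒩, (((S N ⊓ Z : Subgroup G) : Set G) \ {1})) ∪ {1} := by
    intro z hz
    by_cases hz1 : z = 1
    · right; exact hz1
    left
    by_cases hzT : z ∈ T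
    · left; exact hzT
    right
    have : ¬ ∀ N ∈ 𝒩, z ∉ S N := fun h => hzT ⟨hz, h⟩
    push Not at this
    obtain ⟨N, hN, hzN⟩ := this
    simp only [Set.mem_iUnion]
    exact ⟨N, hN, ⟨hzN, hz⟩, hz1⟩
  have h2 := Set.ncard_le_ncard h1 (Set.toFinite _)
  rw [ncard_coe_subgroup] at h2
  have h3 : ((T ∪ ⋃ N ∈ 𝒩, (((S N ⊓ Z : Subgroup G) : Set G) \ {1})) ∪ {1}).ncard ≤
      (T ∪ ⋃ N ∈ 𝒩, (((S N ⊓ Z : Subgroup G) : Set G) \ {1})).ncard + 1 := by
    refine (Set.ncard_union_le _ _).trans ?_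
    rw [Set.ncard_singleton]
  have h4 : (T ∪ ⋃ N ∈ 𝒩, (((S N ⊓ Z : Subgroup G) : Set G) \ {1})).ncard ≤
      T.ncard + (⋃ N ∈ 𝒩, (((S N ⊓ Z : Subgroup G) : Set G) \ {1})).ncard :=
    Set.ncard_union_le _ _
  have h5 : (⋃ N ∈ 𝒩, (((S N ⊓ Z : Subgroup G) : Set G) \ {1})).ncard ≤
      ∑ N ∈ 𝒩, (Nat.card ↥(S N ⊓ Z) - 1) := by
    refine (Finset.set_ncard_biUnion_le 𝒩 _).trans ?_
    apply Finset.sum_le_sum
    intro N _
    rw [Set.ncard_diff_singleton_of_mem (Subgroup.one_mem _), ncard_coe_subgroup]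
  omega

/-- **the count of Theorem 14.7** for an abstract family -/
theorem family_card_le_one (hG : IsMinSimpleOddOrder G) (Z : Subgroup G)
    (𝒩 : Finset (Subgroup G))
    (hco : ∀ N ∈ 𝒩, IsCoatom N) (hZN : ∀ N ∈ 𝒩, Z ≤ N)
    (hnc : ∀ N ∈ 𝒩, ∀ N' ∈ 𝒩, N ≠ N' → ∀ g : G, N' ≠ cj g N)
    (hti : ∀ z ∈ Z, (∀ N ∈ 𝒩, z ∉ sigmaCore N) → ∀ h : G, h * z * h⁻¹ ∈ Z →
      (∀ N ∈ 𝒩, h * z * h⁻¹ ∉ sigmaCore N) → h ∈ Z)
    (hprime : ∀ z ∈ Z, (∀ N ∈ 𝒩, z ∉ sigmaCore N) → ∀ x ∈ Subgroup.zpowers z,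
      (orderOf x).Prime → ∃ N ∈ 𝒩, x ∈ sigmaCore N ∧ Subgroup.centralizer ({x} : Set G) ≤ N)
    (hP1 : ∀ N ∈ 𝒩, Nat.card N * Nat.card ↥(sigmaCore N ⊓ Z) =
      Nat.card (sigmaCore N) * Nat.card Z)
    (hne : ∀ N ∈ 𝒩, ¬ sigmaCore N ≤ Z) : 𝒩.card ≤ 1 := by
  classical
  by_cases hemp : 𝒩 = ∅
  · rw [hemp]; simp
  obtain ⟨N₀, hN₀⟩ := Finset.nonempty_iff_ne_empty.mpr hemp
  set T : Set G := {z : G | z ∈ Z ∧ ∀ N ∈ 𝒩, z ∉ sigmaCore N} with hT
  set A : Set G := ⋃ N ∈ 𝒩, tildeOf N ((sigmaCore N : Set G) \ {1}) with hA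
  set B : Set G := {a : G | ∃ g : G, ∃ z ∈ T, a = g * z * g⁻¹} with hB
  -- the cardinality of `A`
  have hAcard : A.ncard = ∑ N ∈ 𝒩, (Nat.card (sigmaCore N) - 1) * N.index := by
    rw [hA, ncard_biUnion_of_disjoint 𝒩 _ (fun N hN N' hN' hNN' =>
      tildeOf_inter_eq_empty hG (hco N hN) (hco N' hN') (hnc N hN N' hN' hNN'))]
    apply Finset.sum_congr rfl
    intro N hN
    exact ncard_tildeOf hG (hco N hN)
  -- the cardinality of `B`
  have hBcard : B.ncard = Z.index * T.ncard := by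
    apply ncard_conj_of_ti Z T
    · rintro z ⟨hzZ, hzN⟩ h hh
      refine ⟨Z.mul_mem (Z.mul_mem hh hzZ) (Z.inv_mem hh), ?_⟩
      intro N hN hcon
      apply hzN N hN
      have hn := Cfsg.Agent.Lib.Lead.BG10.le_normalizer_sigmaCore N (hZN N hN hh)
      exact (Subgroup.mem_normalizer_iff.mp hn z).mpr hcon
    · rintro z ⟨hzZ, hzN⟩ h ⟨hhZ, hhN⟩
      exact hti z hzZ hzN h hhZ hhN
  -- `A` and `B` are disjoint and do not contain `1`
  have hAB : Disjoint A B := by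
    rw [Set.disjoint_iff]
    rintro a ⟨haA, g, z, ⟨hzZ, hzN⟩, rfl⟩
    simp only [hA, Set.mem_iUnion] at haA
    obtain ⟨H, hH, haH⟩ := haA
    refine conj_not_mem_tildeOf_of_forall hG ?_ (hco H hH) g haH
    intro x hx hxp
    obtain ⟨N, hN, hxN, hCN⟩ := hprime z hzZ hzN x hx hxp
    exact ⟨N, hco N hN, hxN, hCN, hzN N hN⟩
  have h1A : (1 : G) ∉ A := by
    intro h
    simp only [hA, Set.mem_iUnion] at h
    obtain ⟨H, hH, h1H⟩ := h
    exact one_not_mem_tildeOf hG (hco H hH) h1H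
  have h1B : (1 : G) ∉ B := by
    rintro ⟨g, z, ⟨hzZ, hzN⟩, h⟩
    have hz1 : z = 1 := by
      have : z = g⁻¹ * (g * z * g⁻¹) * g := by group
      rw [this, ← h]; group
    apply hzN N₀ hN₀
    rw [hz1]; exact Subgroup.one_mem _
  have htotal : A.ncard + B.ncard + 1 ≤ Nat.card G := by
    have h1 : (A ∪ B) ⊆ (Set.univ : Set G) \ {1} := by
      intro a ha
      refine ⟨Set.mem_univ _, ?_⟩
      rintro rfl
      rcases ha with ha | ha
      · exact h1A ha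
      · exact h1B ha
    have h2 := Set.ncard_le_ncard h1 (Set.toFinite _)
    rw [Set.ncard_union_eq hAB (Set.toFinite _) (Set.toFinite _),
      Set.ncard_diff_singleton_of_mem (Set.mem_univ _), Set.ncard_univ] at h2
    have : 0 < Nat.card G := Nat.card_pos
    omega
  -- (C2)
  have hC2 := card_le_ncard_add_sum Z 𝒩 (fun N => sigmaCore N)
  -- the arithmetic
  refine count_arith 𝒩 (fun N => Nat.card (sigmaCore N)) (fun N => Nat.card ↥(sigmaCore N ⊓ Z))
    (fun N => Nat.card N) (fun N => N.index) (Nat.card Z) Z.index (Nat.card G) T.ncard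
    Nat.card_pos (Nat.pos_of_ne_zero Z.index_ne_zero_of_finite) (Subgroup.card_mul_index Z).symm
    (fun N _ => Nat.card_pos) hP1 (fun N _ => (Subgroup.index_mul_card N).symm) ?_ hC2 ?_
  · intro N hN
    have hle : sigmaCore N ⊓ Z ≤ sigmaCore N := inf_le_left
    have hdvd := Subgroup.card_dvd_of_le hle
    have hne' : Nat.card ↥(sigmaCore N ⊓ Z) ≠ Nat.card (sigmaCore N) := by
      intro h
      apply hne N hN
      have := Subgroup.eq_of_le_of_card_ge hle h.ge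
      rw [← this]; exact inf_le_right
    obtain ⟨c, hc⟩ := hdvd
    have hpos : 0 < Nat.card (sigmaCore N) := Nat.card_pos
    have hc2 : 2 ≤ c := by
      rcases Nat.lt_or_ge c 2 with h | h
      · interval_cases c
        · rw [mul_zero] at hc; omega
        · rw [mul_one] at hc; exact absurd hc.symm hne'
      · exact h
    show 2 * Nat.card ↥(sigmaCore N ⊓ Z) ≤ Nat.card (sigmaCore N)
    rw [hc]
    nlinarith
  · show ∑ N ∈ 𝒩, (Nat.card (sigmaCore N) - 1) * N.index + Z.index * T.ncard + 1 ≤ Nat.card G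
    rw [← hAcard, ← hBcard]
    exact htotal

end Cfsg.Agent.Lib.Helper2.BG14u
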