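import Mathlib
import Cfsg.Agent.Lib.Helper2.BG14y3
import Cfsg.Agent.Lib.Helper4.BG14b
import Cfsg.Agent.Lib.Helper5.BG139a

set_option autoImplicit false
set_option linter.style.haveILetI false
set_option linter.unusedSectionVars false
set_option maxHeartbeats 800000

/-! B and G, Theorem 14.2: hypothesis forms of the phantom structure theorem and of Lemma 13.12,
and general tools on `κ(M)`. -/

namespace Cfsg.Agent.Lib.Helper2.BG14z

open Cfsg Cfsg.Agent.Lib.Lead Cfsg.Agent.Lib.Lead.BG10 Cfsg.Agent.Lib.Helper7 Cfsg.Agent.Lib.Helper4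
open Cfsg.Agent.Lib.Helper4.BG76 Cfsg.Agent.Lib.Helper4.BG8 Cfsg.Agent.Lib.Helper4.BG9
open Cfsg.Agent.Lib.Helper4.BG7 Cfsg.Agent.Lib.Helper4.BG12 Cfsg.Agent.Lib.Helper4.BGConj
open Cfsg.Agent.Lib.Helper4.BG13 Cfsg.Agent.Lib.Lead.BG95 Cfsg.Agent.Lib.Lead.BG12q
open Cfsg.Agent.Lib.Lead.BG11 Cfsg.Agent.Lib.Lead.BG13q Cfsg.Agent.Lib.Helper4.BG18
open Cfsg.Agent.Lib.Helper2.BG12 Cfsg.Agent.Lib.Helper6 Cfsg.Agent.Lib.Helper2.BG13x
open Cfsg.Agent.Lib.Helper2.BG14y Cfsg.Agent.Lib.Helper4.BG14 Cfsg.Agent.Lib.Helper5.BG139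
open scoped commutatorElement

universe u

variable {G : Type u} [Group G] [Finite G]

/-- the structure of a maximal subgroup `M` for which the Hall `τ₃(M)`-subgroup `E₃` of a
complement `E` does not act regularly on `M_σ` (B and G, Lemmas 13.10 and 13.11), for the group `G` -/
def TPhantom (G : Type u) [Group G] : Prop :=
  ∀ M : Subgroup G, IsCoatom M → ∀ E E₁ E₃ : Subgroup G, IsComplIn E (sigmaCore M) M →
    IsPiHallOf (tau1 M) E₁ E → IsPiHallOf (tau3 M) E₃ E →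
    (∃ x ∈ E₃, x ≠ 1 ∧ sigmaCore M ⊓ Subgroup.centralizer ({x} : Set G) ≠ ⊥) →
      E₁ ≠ ⊥ ∧
      (∀ x ∈ E₁, x ≠ 1 → sigmaCore M ⊓ Subgroup.centralizer ({x} : Set G) =
        sigmaCore M ⊓ Subgroup.centralizer (E₃ : Set G)) ∧
      (∀ P : Subgroup G, P ≤ E₁ → (Nat.card P).Prime → E₃ ≤ Subgroup.centralizer (P : Set G)) ∧
      (∀ R : Subgroup G, R ≤ E₃ → (Nat.card R).Prime → ∀ H : Subgroup G, IsCoatom H →
        Subgroup.normalizer (R : Set G) ≤ H → Nat.card R ∈ sigma H)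

/-- B and G, Lemma 13.12 for the group `G`: a subgroup `P` of prime order `p ∈ τ₁(M)` of a complement
`E` with `C_{M_σ}(P) ≠ 1` acts regularly on the elementary abelian subgroups of order `s ^ 2`,
`s ∈ τ₂(M)`, of `E` -/
def TClaimR (G : Type u) [Group G] : Prop :=
  ∀ M : Subgroup G, IsCoatom M → ∀ E : Subgroup G, IsComplIn E (sigmaCore M) M →
    ∀ p : ℕ, p ∈ tau1 M → ∀ P : Subgroup G, P ≤ E → Nat.card P = p →
    sigmaCore M ⊓ Subgroup.centralizer (P : Set G) ≠ ⊥ →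
    ∀ (s : ℕ) [Fact s.Prime], s ∈ tau2 M → ∀ A : Subgroup G, A ≤ E → IsElementaryAbelian s A →
      Nat.card A = s ^ 2 → A ⊓ Subgroup.centralizer (P : Set G) = ⊥

/-- for a complement `E` of `M_σ` and `X ≤ E`: `N_M(X) = C_{M_σ}(X) N_E(X)` -/
theorem inf_normalizer_le {M E X : Subgroup G} (hE : IsComplIn E (sigmaCore M) M) (hXE : X ≤ E) :
    M ⊓ Subgroup.normalizer (X : Set G) ≤
      (sigmaCore M ⊓ Subgroup.centralizer (X : Set G)) ⊔ (E ⊓ Subgroup.normalizer (X : Set G)) := by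
  rintro m ⟨hmM, hmN⟩
  obtain ⟨e, he, a, ha, rfl⟩ := hE.2.2.2 m hmM
  have hMn : M ≤ Subgroup.normalizer ((sigmaCore M : Subgroup G) : Set G) :=
    le_normalizer_sigmaCore M
  have haC : a ∈ Subgroup.centralizer (X : Set G) := by
    rw [Subgroup.mem_centralizer_iff]
    intro x hx
    -- `a x a⁻¹ x⁻¹ ∈ E ⊓ M_σ`
    have h1 : e * a * x * (e * a)⁻¹ ∈ X := (Subgroup.mem_normalizer_iff.mp hmN x).mp hx
    have h2 : a * x * a⁻¹ ∈ E := by
      have e1 : a * x * a⁻¹ = e⁻¹ * (e * a * x * (e * a)⁻¹) * e := by group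
      rw [e1]
      exact E.mul_mem (E.mul_mem (E.inv_mem he) (hXE h1)) he
    have h3 : a * x * a⁻¹ * x⁻¹ ∈ E := E.mul_mem h2 (E.inv_mem (hXE hx))
    have h4 : x * a⁻¹ * x⁻¹ ∈ sigmaCore M :=
      (Subgroup.mem_normalizer_iff.mp (hMn (hE.1 (hXE hx))) _).mp ((sigmaCore M).inv_mem ha)
    have h5 : a * x * a⁻¹ * x⁻¹ ∈ sigmaCore M := by
      have e2 : a * x * a⁻¹ * x⁻¹ = a * (x * a⁻¹ * x⁻¹) := by group
      rw [e2]
      exact (sigmaCore M).mul_mem ha h4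
    have h6 : a * x * a⁻¹ * x⁻¹ ∈ E ⊓ sigmaCore M := ⟨h3, h5⟩
    rw [hE.2.2.1, Subgroup.mem_bot] at h6
    have e3 : x * a = (a * x * a⁻¹ * x⁻¹)⁻¹ * (a * x) := by group
    rw [e3, h6, inv_one, one_mul]
  have haN : a ∈ Subgroup.normalizer (X : Set G) := Subgroup.centralizer_le_normalizer _ haC
  have heN : e ∈ Subgroup.normalizer (X : Set G) := by
    have e4 : e = e * a * a⁻¹ := by group
    rw [e4]
    exact Subgroup.mul_mem _ hmN (Subgroup.inv_mem _ haN)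
  rw [sup_comm]
  exact Subgroup.mul_mem_sup ⟨he, heN⟩ ⟨ha, haC⟩

/-- a prime of `κ(M)` is outside `σ(M)`, divides `|M|`, and `M` has `p`-rank one -/
theorem facts_of_mem_kappa {M : Subgroup G} {p : ℕ} [hp : Fact p.Prime] (hκ : p ∈ kappa M) :
    p ∣ Nat.card M ∧ p ∉ sigma M ∧ PRankLE p 1 ↥M := by
  obtain ⟨-, hpM, hpσ, hS⟩ := hκ
  refine ⟨hpM, hpσ, ?_⟩
  obtain ⟨S⟩ : Nonempty (Sylow p ↥M) := inferInstance
  haveI : IsCyclic ↥(S : Subgroup ↥M) := (hS S).1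
  set T : Subgroup G := (S : Subgroup ↥M).map M.subtype with hT
  have hTs : SylIn p M T := sylIn_map_sylow S
  haveI : IsCyclic ↥T :=
    isCyclic_of_surjective ((S : Subgroup ↥M).equivMapOfInjective M.subtype M.subtype_injective)
      (MulEquiv.surjective _)
  exact prankLE_of_sylIn hTs (prankLE_one_of_isCyclic p)

/-- a prime of `κ(M)` lies in `τ₁(M)` or in `τ₃(M)` -/
theorem tau_of_mem_kappa {M : Subgroup G} {p : ℕ} [hp : Fact p.Prime] (hκ : p ∈ kappa M) :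
    p ∈ tau1 M ∨ p ∈ tau3 M := by
  obtain ⟨hpM, hpσ, hr1⟩ := facts_of_mem_kappa hκ
  by_cases hd : p ∣ Nat.card ↥⁅M, M⁆
  · exact Or.inr ⟨hp.out, hpσ, hd, hr1⟩
  · exact Or.inl ⟨hp.out, hpσ, hpM, hd, hr1⟩

/-- a subgroup of order `p ∈ κ(M)` of `M` centralizes a non-identity element of `M_σ` -/
theorem fixed_of_mem_kappa {M : Subgroup G} {p : ℕ} [hp : Fact p.Prime] (hκ : p ∈ kappa M)
    {P : Subgroup G} (hPM : P ≤ M) (hPc : Nat.card P = p) :
    sigmaCore M ⊓ Subgroup.centralizer (P : Set G) ≠ ⊥ := by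
  obtain ⟨-, -, -, hS⟩ := hκ
  have hPp : IsPGroup p ↥P := isPGroup_of_card_eq hPc
  have hP' : IsPGroup p ↥(P.subgroupOf M) := hPp.comap_subtype
  obtain ⟨S, hPS⟩ := hP'.exists_le_sylow
  obtain ⟨hcyc, x, hxS, hx1, y, hy, hy1, hxy⟩ := hS S
  -- a subgroup of order `p` of `⟨x⟩`
  have hZp : IsPGroup p ↥(Subgroup.zpowers x) := S.2.to_le (Subgroup.zpowers_le.mpr hxS)
  have hZ1 : Subgroup.zpowers x ≠ ⊥ := by
    intro h
    exact hx1 (Subgroup.zpowers_eq_bot.mp h)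
  have hpd : p ∣ Nat.card ↥(Subgroup.zpowers x) := dvd_card_of_ne_bot hZp hZ1
  obtain ⟨z, hz⟩ := exists_prime_orderOf_dvd_card' p hpd
  have hzc : Nat.card ↥(Subgroup.zpowers (z : ↥M)) = p := by
    rw [Nat.card_zpowers, Subgroup.orderOf_coe, hz]
  have hzS : Subgroup.zpowers (z : ↥M) ≤ (S : Subgroup ↥M) :=
    Subgroup.zpowers_le.mpr (Subgroup.zpowers_le.mpr hxS z.2)
  have hPc' : Nat.card ↥(P.subgroupOf M) = p := by
    rw [Nat.card_congr (Subgroup.subgroupOfEquivOfLe hPM).toEquiv, hPc]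
  have heq : P.subgroupOf M = Subgroup.zpowers (z : ↥M) :=
    subgroup_eq_of_card_eq_of_le_cyclic (S : Subgroup ↥M) _ _ hcyc hPS hzS (by rw [hPc', hzc])
  intro hbot
  apply hy1
  have hyC : y ∈ Subgroup.centralizer (P : Set G) := by
    rw [Subgroup.mem_centralizer_iff]
    intro a ha
    have h1 : (⟨a, hPM ha⟩ : ↥M) ∈ P.subgroupOf M := Subgroup.mem_subgroupOf.mpr ha
    rw [heq] at h1
    have h2 : (⟨a, hPM ha⟩ : ↥M) ∈ Subgroup.zpowers x :=
      (Subgroup.zpowers_le.mpr z.2) h1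
    obtain ⟨k, hk⟩ := Subgroup.mem_zpowers_iff.mp h2
    have h3 : a = (x : G) ^ k := by
      have := congrArg Subtype.val hk
      rw [Subgroup.coe_zpow] at this
      exact this.symm
    rw [h3]
    exact ((Commute.zpow_left (show Commute (x : G) y from hxy) k).eq)
  have : y ∈ sigmaCore M ⊓ Subgroup.centralizer (P : Set G) := ⟨hy, hyC⟩
  rw [hbot, Subgroup.mem_bot] at this
  exact this

/-- a prime `q ∉ σ(M)` of rank one with a subgroup of order `q` of `M` centralizing a non-identity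
element of `M_σ` lies in `κ(M)` -/
theorem mem_kappa_of_le (hG : IsMinSimpleOddOrder G) {M : Subgroup G} (hM : IsCoatom M) {q : ℕ}
    [hq : Fact q.Prime] (hqσ : q ∉ sigma M) (hr1 : PRankLE q 1 ↥M) {X : Subgroup G} (hXM : X ≤ M)
    (hXc : Nat.card X = q) (hfix : sigmaCore M ⊓ Subgroup.centralizer (X : Set G) ≠ ⊥) :
    q ∈ kappa M := by
  have hqd : q ∣ Nat.card X := by rw [hXc]
  obtain ⟨x, hx⟩ := exists_prime_orderOf_dvd_card' q hqd
  obtain ⟨⟨y, hy⟩, hy1⟩ := (Subgroup.ne_bot_iff_exists_ne_one).mp hfix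
  have hy1' : y ≠ 1 := fun h0 => hy1 (Subtype.ext h0)
  have hxy : (x : G) * y = y * x := Subgroup.mem_centralizer_iff.mp hy.2 (x : G) x.2
  exact mem_kappa_of_fixed hG hM hqσ hr1 (hXM x.2) (by rw [Subgroup.orderOf_coe]; exact hx)
    hy.1 hy1' hxy

/-- fixed points on `M_σ` are carried along by conjugation with elements of `M` -/
theorem fixed_cj {M : Subgroup G} {X : Subgroup G} {g : G} (hg : g ∈ M)
    (hfix : sigmaCore M ⊓ Subgroup.centralizer (X : Set G) ≠ ⊥) :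
    sigmaCore M ⊓ Subgroup.centralizer ((cj g X : Subgroup G) : Set G) ≠ ⊥ := by
  obtain ⟨⟨y, hy⟩, hy1⟩ := (Subgroup.ne_bot_iff_exists_ne_one).mp hfix
  have hy1' : y ≠ 1 := fun h0 => hy1 (Subtype.ext h0)
  intro hbot
  apply hy1'
  have h1 : g * y * g⁻¹ ∈ sigmaCore M :=
    (Subgroup.mem_normalizer_iff.mp (le_normalizer_sigmaCore M hg) y).mp hy.1
  have h2 : g * y * g⁻¹ ∈ Subgroup.centralizer ((cj g X : Subgroup G) : Set G) := by
    rw [Subgroup.mem_centralizer_iff]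
    rintro _ ⟨a, ha, rfl⟩
    have h3 := Subgroup.mem_centralizer_iff.mp hy.2 a ha
    show (MulAut.conj g) a * (g * y * g⁻¹) = g * y * g⁻¹ * (MulAut.conj g) a
    rw [MulAut.conj_apply]
    calc g * a * g⁻¹ * (g * y * g⁻¹) = g * (a * y) * g⁻¹ := by group
      _ = g * (y * a) * g⁻¹ := by rw [h3]
      _ = _ := by group
  have h4 : g * y * g⁻¹ ∈ sigmaCore M ⊓ Subgroup.centralizer ((cj g X : Subgroup G) : Set G) :=
    ⟨h1, h2⟩
  rw [hbot, Subgroup.mem_bot] at h4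
  calc y = g⁻¹ * (g * y * g⁻¹) * g := by group
    _ = 1 := by rw [h4]; group

end Cfsg.Agent.Lib.Helper2.BG14z
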