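import Mathlib
import Cfsg.Agent.Lib.Helper2.BG14z1

set_option autoImplicit false
set_option linter.style.haveILetI false
set_option linter.unusedSectionVars false
set_option maxHeartbeats 800000

/-! B and G, Theorem 14.2: the data attached to a Hall `κ(M)`-subgroup, and general lemmas on Hall
subgroups of a complement. -/

namespace Cfsg.Agent.Lib.Helper2.BG14z

open Cfsg Cfsg.Agent.Lib.Lead Cfsg.Agent.Lib.Lead.BG10 Cfsg.Agent.Lib.Helper7 Cfsg.Agent.Lib.Helper4
open Cfsg.Agent.Lib.Helper4.BG76 Cfsg.Agent.Lib.Helper4.BG8 Cfsg.Agent.Lib.Helper4.BG9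
open Cfsg.Agent.Lib.Helper4.BG7 Cfsg.Agent.Lib.Helper4.BG12 Cfsg.Agent.Lib.Helper4.BGConj
open Cfsg.Agent.Lib.Helper4.BG13 Cfsg.Agent.Lib.Lead.BG95 Cfsg.Agent.Lib.Lead.BG12q
open Cfsg.Agent.Lib.Lead.BG11 Cfsg.Agent.Lib.Lead.BG13q Cfsg.Agent.Lib.Helper4.BG18
open Cfsg.Agent.Lib.Helper2.BG12 Cfsg.Agent.Lib.Helper6 Cfsg.Agent.Lib.Helper2.BG13x
open Cfsg.Agent.Lib.Helper2.BG14y Cfsg.Agent.Lib.Helper4.BG14 Cfsg.Agent.Lib.Helper5.BG139
open scoped commutatorElement

universe u

variable {G : Type u} [Group G] [Finite G]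

/-- the facts on a Hall `κ(M)`-subgroup `K ≠ 1` of `M` needed for B and G, Theorem 14.2 -/
structure KData (M K : Subgroup G) : Prop where
  semiprime : ∀ k ∈ K, k ≠ 1 → sigmaCore M ⊓ Subgroup.centralizer ({k} : Set G) =
    sigmaCore M ⊓ Subgroup.centralizer (K : Set G)
  fix_ne : sigmaCore M ⊓ Subgroup.centralizer (K : Set G) ≠ ⊥
  exU : ∃ U : Subgroup G, IsMulCommutative U ∧
    IsPiHallOf {q | q.Prime ∧ q ∉ kappa M ∧ q ∉ sigma M} U M ∧
    K ≤ Subgroup.normalizer (U : Set G) ∧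
    ∀ k ∈ K, k ≠ 1 → U ⊓ Subgroup.centralizer ({k} : Set G) = ⊥
  norm : ∀ X : Subgroup G, X ≤ K → (Nat.card X).Prime →
    M ⊓ Subgroup.normalizer (X : Set G) =
      K ⊔ (sigmaCore M ⊓ Subgroup.centralizer (K : Set G)) ∧
    M ⊓ Subgroup.normalizer (K : Set G) = K ⊔ (sigmaCore M ⊓ Subgroup.centralizer (K : Set G))
  sig : ∀ X : Subgroup G, X ≤ K → (Nat.card X).Prime → ∀ Mstar : Subgroup G, IsCoatom Mstar →
    Subgroup.normalizer (X : Set G) ≤ Mstar → X ≤ sigmaCore Mstar
  tau1 : ∃ P : Subgroup G, P ≤ K ∧ (Nat.card P).Prime ∧ Nat.card P ∈ tau1 M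
  uniq : ∀ X X' : Subgroup G, X ≤ K → X' ≤ K → (Nat.card X).Prime → Nat.card X' = Nat.card X →
    X' = X

/-- a `π`-subgroup of a solvable group `E` lies in a normal Hall `π`-subgroup of `E` -/
theorem le_of_normal_hall {E H R : Subgroup G} (hsolv : Group.IsSolvable ↥E) (π : Set ℕ)
    (hH : IsPiHallOf π H E) (hn : E ≤ Subgroup.normalizer (H : Set G)) (hRE : R ≤ E)
    (hR : ∀ p : ℕ, p.Prime → p ∣ Nat.card R → p ∈ π) : R ≤ H := by
  obtain ⟨k, hk, hkR⟩ := exists_cj_le_hall hsolv π hH hRE hR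
  have h1 : cj k⁻¹ (cj k R) ≤ cj k⁻¹ H := cj_mono k⁻¹ hkR
  rw [cj_inv_cj] at h1
  have h2 : cj k⁻¹ H = H := mem_normalizer_iff_cj.mp (hn (E.inv_mem hk))
  rwa [h2] at h1

/-- the subgroup generated by an element of prime order -/
theorem card_zpowers_of_orderOf {x : G} {q : ℕ} (hx : orderOf x = q) :
    Nat.card ↥(Subgroup.zpowers x) = q := by rw [Nat.card_zpowers, hx]

/-- a subgroup of prime order is generated by each of its non-identity elements -/
theorem eq_zpowers_of_card_prime {X : Subgroup G} (hX : (Nat.card X).Prime) {x : G} (hx : x ∈ X)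
    (hx1 : x ≠ 1) : X = Subgroup.zpowers x := by
  symm
  apply Subgroup.eq_of_le_of_card_ge (Subgroup.zpowers_le.mpr hx)
  have h1 : Nat.card ↥(Subgroup.zpowers x) ∣ Nat.card X :=
    Subgroup.card_dvd_of_le (Subgroup.zpowers_le.mpr hx)
  rcases (Nat.dvd_prime hX).mp h1 with h | h
  · exfalso
    apply hx1
    have := Subgroup.card_eq_one.mp h
    exact Subgroup.zpowers_eq_bot.mp this
  · rw [h]

/-- an element of prime order `q` of `⟨x⟩`, for a prime divisor `q` of the order of `x` -/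
theorem exists_pow_orderOf_eq {x : G} {q : ℕ} (hq : q.Prime) (hd : q ∣ orderOf x) :
    orderOf (x ^ (orderOf x / q)) = q :=
  orderOf_pow_orderOf_div (orderOf_pos x).ne' hd

/-- the centralizer of a subgroup of prime order is the centralizer of any non-identity element -/
theorem centralizer_eq_of_card_prime {X : Subgroup G} (hX : (Nat.card X).Prime) {x : G}
    (hx : x ∈ X) (hx1 : x ≠ 1) :
    Subgroup.centralizer (X : Set G) = Subgroup.centralizer ({x} : Set G) := by
  rw [eq_zpowers_of_card_prime hX hx hx1, centralizer_zpowers']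

/-- the fixed points of `k` lie in the fixed points of a power of `k` -/
theorem centralizer_le_centralizer_pow (k : G) (n : ℕ) :
    Subgroup.centralizer ({k} : Set G) ≤ Subgroup.centralizer ({k ^ n} : Set G) := by
  intro y hy
  rw [Subgroup.mem_centralizer_iff] at hy ⊢
  intro a ha
  rw [Set.mem_singleton_iff] at ha
  rw [ha]
  have h1 : k * y = y * k := hy k (Set.mem_singleton k)
  exact ((Commute.pow_left (show Commute k y from h1) n).eq)

end Cfsg.Agent.Lib.Helper2.BG14z
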