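import Mathlib
import Cfsg.Agent.Lib.Helper2.BG14z2

set_option autoImplicit false
set_option linter.style.haveILetI false
set_option linter.unusedSectionVars false
set_option maxHeartbeats 1600000

/-! B and G, Theorem 14.2: when the Hall `τ₃(M)`-subgroup of a complement acts regularly on `M_σ`,
`κ(M) = τ₁(M)` (if non-empty) and a Hall `κ(M)`-subgroup is a Hall `τ₁(M)`-subgroup of a
complement. -/

namespace Cfsg.Agent.Lib.Helper2.BG14z

open Cfsg Cfsg.Agent.Lib.Lead Cfsg.Agent.Lib.Lead.BG10 Cfsg.Agent.Lib.Helper7 Cfsg.Agent.Lib.Helper4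
open Cfsg.Agent.Lib.Helper4.BG76 Cfsg.Agent.Lib.Helper4.BG8 Cfsg.Agent.Lib.Helper4.BG9
open Cfsg.Agent.Lib.Helper4.BG7 Cfsg.Agent.Lib.Helper4.BG12 Cfsg.Agent.Lib.Helper4.BGConj
open Cfsg.Agent.Lib.Helper4.BG13 Cfsg.Agent.Lib.Lead.BG95 Cfsg.Agent.Lib.Lead.BG12q
open Cfsg.Agent.Lib.Lead.BG11 Cfsg.Agent.Lib.Lead.BG13q Cfsg.Agent.Lib.Helper4.BG18
open Cfsg.Agent.Lib.Helper2.BG12 Cfsg.Agent.Lib.Helper6 Cfsg.Agent.Lib.Helper2.BG13x
open Cfsg.Agent.Lib.Helper2.BG14y Cfsg.Agent.Lib.Helper4.BG14 Cfsg.Agent.Lib.Helper5.BG139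
open scoped commutatorElement

universe u

variable {G : Type u} [Group G] [Finite G]

theorem card_mul_relIndex' {K E : Subgroup G} (h : K ≤ E) :
    Nat.card K * K.relIndex E = Nat.card E := by
  rw [← Subgroup.relIndex_bot_left, ← Subgroup.relIndex_bot_left (H := E),
    Subgroup.relIndex_mul_relIndex ⊥ K E bot_le h]

/-- a prime of `π` dividing the order of `E` divides the order of a Hall `π`-subgroup of `E` -/
theorem dvd_card_hall {π : Set ℕ} {H E : Subgroup G} (hH : IsPiHallOf π H E) {q : ℕ} (hq : q.Prime)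
    (hqπ : q ∈ π) (hd : q ∣ Nat.card E) : q ∣ Nat.card H := by
  rw [← card_mul_relIndex' hH.1] at hd
  rcases (Nat.Prime.dvd_mul hq).mp hd with h | h
  · exact h
  · exact absurd h (hH.2.2 q hq hqπ)

/-- a prime outside `σ(M)` dividing `|M|` divides the order of a complement -/
theorem dvd_card_compl (hG : IsMinSimpleOddOrder G) {M E : Subgroup G} (hM : IsCoatom M)
    (hE : IsComplIn E (sigmaCore M) M) {q : ℕ} (hq : q.Prime) (hqM : q ∣ Nat.card M)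
    (hqσ : q ∉ sigma M) : q ∣ Nat.card E := by
  rw [card_mul_of_isComplIn hE] at hqM
  rcases (Nat.Prime.dvd_mul hq).mp hqM with h | h
  · exact h
  · exact absurd ((sigmaCore_hall hG hM).1.2.1 q hq h) hqσ

/-- the primes of a Hall `κ(M)`-subgroup are outside `σ(M)` -/
theorem coprime_card_kappa_hall (hG : IsMinSimpleOddOrder G) {M K : Subgroup G} (hM : IsCoatom M)
    (hK : IsPiHallOf (kappa M) K M) : (Nat.card K).Coprime (Nat.card (sigmaCore M)) := by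
  apply Nat.coprime_of_dvd
  intro r hr h1 h2
  exact (hK.2.1 r hr h1).2.2.1 ((sigmaCore_hall hG hM).1.2.1 r hr h2)

/-- in the regular case `κ(M) ⊆ τ₁(M)` -/
theorem kappa_le_tau1_of_regular (hG : IsMinSimpleOddOrder G) {M E E₃ : Subgroup G}
    (hM : IsCoatom M) (hE : IsComplIn E (sigmaCore M) M) (hE₃ : IsPiHallOf (tau3 M) E₃ E)
    (hreg : ∀ x ∈ E₃, x ≠ 1 → sigmaCore M ⊓ Subgroup.centralizer ({x} : Set G) = ⊥) :
    ∀ p : ℕ, p ∈ kappa M → p ∈ tau1 M := by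
  intro p hpκ
  haveI : Fact p.Prime := ⟨hpκ.1⟩
  rcases tau_of_mem_kappa hpκ with h | h
  · exact h
  exfalso
  have hsolvM : Group.IsSolvable ↥M := solvable_of_ne_top hG hM.1
  have hsolvE : Group.IsSolvable ↥E := solvable_of_ne_top hG (ne_top_of_le_ne_top hM.1 hE.1)
  obtain ⟨-, -, h3⟩ := Cfsg.Agent.S1415.result hG M hM E hE
  obtain ⟨-, -, hE₃n⟩ := h3 E₃ hE₃
  obtain ⟨x, hx⟩ := exists_prime_orderOf_dvd_card' p hpκ.2.1
  set P := Subgroup.zpowers (x : G) with hP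
  have hPc : Nat.card P = p := by rw [hP, Nat.card_zpowers, Subgroup.orderOf_coe, hx]
  have hPM : P ≤ M := Subgroup.zpowers_le.mpr x.2
  have hPp : IsPGroup p ↥P := isPGroup_of_card_eq hPc
  have hfix := fixed_of_mem_kappa hpκ hPM hPc
  obtain ⟨m, hm, hmP⟩ := exists_cj_le_hall hsolvM _ (isPiHallOf_of_isComplIn hG hM hE) hPM
    (fun r hr hd => by
      rw [prime_eq_of_dvd_card hPp hr hd]
      exact h.2.1)
  have hcjc : Nat.card ↥(cj m P) = p := by rw [card_cj, hPc]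
  have hcjp : IsPGroup p ↥(cj m P) := isPGroup_of_card_eq hcjc
  have h3' : cj m P ≤ E₃ := le_of_normal_hall hsolvE (tau3 M) hE₃ hE₃n hmP
    (fun r hr hd => by
      rw [prime_eq_of_dvd_card hcjp hr hd]
      exact h)
  have hfix' := fixed_cj hm hfix
  have hxP : m * (x : G) * m⁻¹ ∈ cj m P := ⟨x, Subgroup.mem_zpowers _, rfl⟩
  have hx1 : m * (x : G) * m⁻¹ ≠ 1 := by
    intro h0
    have h1 : (x : G) = 1 := by
      calc (x : G) = m⁻¹ * (m * (x : G) * m⁻¹) * m := by group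
        _ = 1 := by rw [h0]; group
    have h2 : x = 1 := Subtype.ext h1
    rw [h2, orderOf_one] at hx
    exact hpκ.1.one_lt.ne hx
  rw [centralizer_eq_of_card_prime (hcjc ▸ hpκ.1) hxP hx1] at hfix'
  exact hfix' (hreg _ (h3' hxP) hx1)

/-- in the regular case, a non-trivial Hall `κ(M)`-subgroup `K` inside the complement `E` is a Hall
`τ₁(M)`-subgroup of `E`, and `κ(M) = τ₁(M)` -/
theorem hall_tau1_of_regular (hG : IsMinSimpleOddOrder G) {M K E E₃ : Subgroup G}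
    (hM : IsCoatom M) (hK : IsPiHallOf (kappa M) K M) (hK1 : K ≠ ⊥)
    (hE : IsComplIn E (sigmaCore M) M) (hKE : K ≤ E) (hE₃ : IsPiHallOf (tau3 M) E₃ E)
    (hreg : ∀ x ∈ E₃, x ≠ 1 → sigmaCore M ⊓ Subgroup.centralizer ({x} : Set G) = ⊥) :
    IsPiHallOf (tau1 M) K E ∧ (∀ q : ℕ, q ∈ tau1 M → q ∈ kappa M) ∧
      (∀ q : ℕ, q ∈ kappa M → q ∈ tau1 M) ∧
      sigmaCore M ⊓ Subgroup.centralizer (K : Set G) ≠ ⊥ := by
  classical
  have hκτ := kappa_le_tau1_of_regular hG hM hE hE₃ hreg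
  have hsolvE : Group.IsSolvable ↥E := solvable_of_ne_top hG (ne_top_of_le_ne_top hM.1 hE.1)
  -- a subgroup of prime order of `K`
  have hKc : Nat.card K ≠ 1 := fun h => hK1 (Subgroup.card_eq_one.mp h)
  obtain ⟨p₀, hp₀, hp₀d⟩ := Nat.exists_prime_and_dvd hKc
  haveI : Fact p₀.Prime := ⟨hp₀⟩
  have hp₀κ : p₀ ∈ kappa M := hK.2.1 p₀ hp₀ hp₀d
  obtain ⟨x₀, hx₀⟩ := exists_prime_orderOf_dvd_card' p₀ hp₀d
  set P₀ := Subgroup.zpowers (x₀ : G) with hP₀
  have hP₀c : Nat.card P₀ = p₀ := by rw [hP₀, Nat.card_zpowers, Subgroup.orderOf_coe, hx₀]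
  have hP₀K : P₀ ≤ K := Subgroup.zpowers_le.mpr x₀.2
  have hfix₀ := fixed_of_mem_kappa hp₀κ (hP₀K.trans hK.1) hP₀c
  have hx₀1 : (x₀ : G) ≠ 1 := by
    intro h0
    have h2 : x₀ = 1 := Subtype.ext h0
    rw [h2, orderOf_one] at hx₀
    exact hp₀.one_lt.ne hx₀
  -- a Hall `τ₁(M)`-subgroup of `E` containing `K`
  obtain ⟨E₁, hE₁, hKE₁⟩ := exists_piHallOf_ge hsolvE (tau1 M) hKE
    (fun r hr hd => hκτ r (hK.2.1 r hr hd))
  have h135 := corollary_13_5 hG hM hE hE₁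
  have hfixE₁ : sigmaCore M ⊓ Subgroup.centralizer (E₁ : Set G) ≠ ⊥ := by
    rw [← h135 x₀ (hKE₁ x₀.2) hx₀1, ← centralizer_zpowers']
    exact hfix₀
  -- every prime of `E₁` lies in `κ(M)`
  have hE₁κ : ∀ q : ℕ, q.Prime → q ∣ Nat.card E₁ → q ∈ kappa M := by
    intro q hq hqd
    haveI : Fact q.Prime := ⟨hq⟩
    have hqτ : q ∈ tau1 M := hE₁.2.1 q hq hqd
    obtain ⟨y, hy⟩ := exists_prime_orderOf_dvd_card' q hqd
    have hy1 : (y : G) ≠ 1 := by
      intro h0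
      have h2 : y = 1 := Subtype.ext h0
      rw [h2, orderOf_one] at hy
      exact hq.one_lt.ne hy
    have hyc : Nat.card ↥(Subgroup.zpowers (y : G)) = q := by
      rw [Nat.card_zpowers, Subgroup.orderOf_coe, hy]
    apply mem_kappa_of_le hG hM hqτ.2.1 hqτ.2.2.2.2
      (Subgroup.zpowers_le.mpr (hE.1 (hE₁.1 y.2))) hyc
    rw [centralizer_zpowers', h135 y y.2 hy1]
    exact hfixE₁
  -- `K = E₁`
  have hKeq : K = E₁ := by
    apply le_antisymm hKE₁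
    rw [← Subgroup.relIndex_eq_one]
    by_contra hne
    obtain ⟨q, hq, hqd⟩ := Nat.exists_prime_and_dvd hne
    have h1 : q ∣ Nat.card E₁ := hqd.trans (Subgroup.relIndex_dvd_card _ _)
    have h2 : q ∈ kappa M := hE₁κ q hq h1
    have h3 : K.relIndex E₁ ∣ K.relIndex M :=
      Dvd.intro _ (Subgroup.relIndex_mul_relIndex K E₁ M hKE₁ (hE₁.1.trans hE.1))
    exact hK.2.2 q hq h2 (hqd.trans h3)
  subst hKeq
  refine ⟨hE₁, ?_, hκτ, hfixE₁⟩
  intro q hqτ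
  exact hE₁κ q hqτ.1 (dvd_card_hall hE₁ hqτ.1 hqτ
    (dvd_card_compl hG hM hE hqτ.1 hqτ.2.2.1 hqτ.2.1))

end Cfsg.Agent.Lib.Helper2.BG14z
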