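import Mathlib
import Cfsg.Agent.Lib.Helper2.BG14z3
import Cfsg.Agent.Lib.Helper4.FM12
import Cfsg.Agent.Lib.Lead.KS93f
import Cfsg.Agent.S1420

set_option autoImplicit false
set_option linter.style.haveILetI false
set_option linter.unusedSectionVars false
set_option maxHeartbeats 1600000

/-! B and G, Theorem 14.2, the regular case: the abelian normal Hall subgroup `U` of a complement
`E` on which the Hall `τ₁(M)`-subgroup acts regularly. -/

namespace Cfsg.Agent.Lib.Helper2.BG14z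

open Cfsg Cfsg.Agent.Lib.Lead Cfsg.Agent.Lib.Lead.BG10 Cfsg.Agent.Lib.Helper7 Cfsg.Agent.Lib.Helper4
open Cfsg.Agent.Lib.Helper4.BG76 Cfsg.Agent.Lib.Helper4.BG8 Cfsg.Agent.Lib.Helper4.BG9
open Cfsg.Agent.Lib.Helper4.BG7 Cfsg.Agent.Lib.Helper4.BG12 Cfsg.Agent.Lib.Helper4.BGConj
open Cfsg.Agent.Lib.Helper4.BG13 Cfsg.Agent.Lib.Lead.BG95 Cfsg.Agent.Lib.Lead.BG12q
open Cfsg.Agent.Lib.Lead.BG11 Cfsg.Agent.Lib.Lead.BG13q Cfsg.Agent.Lib.Helper4.BG18
open Cfsg.Agent.Lib.Helper2.BG12 Cfsg.Agent.Lib.Helper6 Cfsg.Agent.Lib.Helper2.BG13x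
open Cfsg.Agent.Lib.Helper2.BG14y Cfsg.Agent.Lib.Helper4.BG14 Cfsg.Agent.Lib.Helper5.BG139
open scoped commutatorElement

universe u

variable {G : Type u} [Group G] [Finite G]

/-- a Hall `π`-subgroup and a Hall `π'`-subgroup of `E`, where every prime lies in `π` or in `π'`,
generate `E` -/
-- (only the prime divisors of the order of `E` matter)
theorem sup_eq_of_hall_hall {E U K : Subgroup G} {π π' : Set ℕ} (hK : IsPiHallOf π K E)
    (hU : IsPiHallOf π' U E) (hππ' : ∀ q : ℕ, q.Prime → q ∣ Nat.card E → q ∈ π ∨ q ∈ π') :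
    U ⊔ K = E := by
  have hle : U ⊔ K ≤ E := sup_le hU.1 hK.1
  apply le_antisymm hle
  rw [← Subgroup.relIndex_eq_one]
  by_contra hne
  obtain ⟨q, hq, hqd⟩ := Nat.exists_prime_and_dvd hne
  have h1 : (U ⊔ K).relIndex E ∣ K.relIndex E :=
    Dvd.intro_left _ (Subgroup.relIndex_mul_relIndex K (U ⊔ K) E le_sup_right hle)
  have h2 : (U ⊔ K).relIndex E ∣ U.relIndex E :=
    Dvd.intro_left _ (Subgroup.relIndex_mul_relIndex U (U ⊔ K) E le_sup_left hle)
  rcases hππ' q hq (hqd.trans (Subgroup.relIndex_dvd_card _ _)) with h | h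
  · exact hK.2.2 q hq h (hqd.trans h1)
  · exact hU.2.2 q hq h (hqd.trans h2)

/-- a prime-order power of a non-identity element -/
theorem exists_prime_pow {x : G} (hx1 : x ≠ 1) :
    ∃ (r : ℕ) (n : ℕ), r.Prime ∧ orderOf (x ^ n) = r ∧ x ^ n ≠ 1 := by
  have hox : orderOf x ≠ 1 := fun h => hx1 (orderOf_eq_one_iff.mp h)
  have hr : (orderOf x).minFac.Prime := Nat.minFac_prime hox
  have hrx : (orderOf x).minFac ∣ orderOf x := Nat.minFac_dvd _
  have hyo : orderOf (x ^ (orderOf x / (orderOf x).minFac)) = (orderOf x).minFac :=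
    orderOf_pow_orderOf_div (orderOf_pos x).ne' hrx
  refine ⟨_, _, hr, hyo, ?_⟩
  intro h1
  rw [h1, orderOf_one] at hyo
  exact hr.one_lt.ne hyo

/-- the order of an element of a subgroup divides the order of the subgroup -/
theorem orderOf_dvd_card_of_mem {H : Subgroup G} {x : G} (hx : x ∈ H) : orderOf x ∣ Nat.card H := by
  have h1 : orderOf (⟨x, hx⟩ : ↥H) = orderOf x := by rw [← Subgroup.orderOf_coe]
  rw [← h1]
  exact orderOf_dvd_natCard _

/-- in the regular case, the Hall `τ₁(M)'`-subgroup `U` of `E` containing `E'` -/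
theorem exists_U_of_regular (hG : IsMinSimpleOddOrder G) (hR : TClaimR G) {M K E E₃ : Subgroup G}
    (hM : IsCoatom M) (hE : IsComplIn E (sigmaCore M) M) (hK : IsPiHallOf (tau1 M) K E)
    (hK1 : K ≠ ⊥) (hfix : sigmaCore M ⊓ Subgroup.centralizer (K : Set G) ≠ ⊥)
    (hE₃ : IsPiHallOf (tau3 M) E₃ E)
    (hreg : ∀ x ∈ E₃, x ≠ 1 → sigmaCore M ⊓ Subgroup.centralizer ({x} : Set G) = ⊥) :
    ∃ U : Subgroup G, IsPiHallOf {q | q.Prime ∧ q ∉ tau1 M} U E ∧
      E ≤ Subgroup.normalizer (U : Set G) ∧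
      (∀ k ∈ K, k ≠ 1 → U ⊓ Subgroup.centralizer ({k} : Set G) = ⊥) ∧ IsMulCommutative U := by
  have hsolvE : Group.IsSolvable ↥E := solvable_of_ne_top hG (ne_top_of_le_ne_top hM.1 hE.1)
  have h135 := corollary_13_5 hG hM hE hK
  obtain ⟨-, -, h3⟩ := Cfsg.Agent.S1415.result hG M hM E hE
  obtain ⟨-, -, hE₃n⟩ := h3 E₃ hE₃
  have hcE : ⁅E, E⁆ ≤ E := BG10.commutator_self_le E
  obtain ⟨U, hU, hcU⟩ := exists_piHallOf_ge hsolvE {q | q.Prime ∧ q ∉ tau1 M} hcE
    (fun r hr hd => ⟨hr, fun hτ1 => hτ1.2.2.2.1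
      (hd.trans (Subgroup.card_dvd_of_le (Subgroup.commutator_mono hE.1 hE.1)))⟩)
  have hUn : E ≤ Subgroup.normalizer (U : Set G) := le_normalizer_of_commutator_le hcU hU.1
  have hregU : ∀ k ∈ K, k ≠ 1 → U ⊓ Subgroup.centralizer ({k} : Set G) = ⊥ := by
    intro k hk hk1
    rw [Subgroup.eq_bot_iff_forall]
    rintro u ⟨huU, huC⟩
    by_contra hu1
    obtain ⟨s, n, hs, hu'o, hu'1⟩ := exists_prime_pow hu1
    obtain ⟨p, m, hp, hk'o, hk'1⟩ := exists_prime_pow hk1
    haveI : Fact s.Prime := ⟨hs⟩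
    haveI : Fact p.Prime := ⟨hp⟩
    set u' := u ^ n with hu'
    set k' := k ^ m with hk'
    have hu'U : u' ∈ U := U.pow_mem huU n
    have hk'K : k' ∈ K := K.pow_mem hk m
    have hcomm : k * u = u * k := Subgroup.mem_centralizer_iff.mp huC k (Set.mem_singleton k)
    have hcomm' : k' * u' = u' * k' :=
      ((Commute.pow_right (Commute.pow_left (show Commute k u from hcomm) m) n).eq)
    have hpτ : p ∈ tau1 M := hK.2.1 p hp (hk'o ▸ orderOf_dvd_card_of_mem hk'K)
    have hsU : s ∣ Nat.card U := hu'o ▸ orderOf_dvd_card_of_mem hu'U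
    have hsτ1 : s ∉ tau1 M := (hU.2.1 s hs hsU).2
    have hsE : s ∣ Nat.card E := hsU.trans (Subgroup.card_dvd_of_le hU.1)
    have hsσ : s ∉ sigma M := not_sigma_of_dvd_card_compl hG hM hE hs hsE
    have hsM : s ∣ Nat.card M := hsE.trans (Subgroup.card_dvd_of_le hE.1)
    set P := Subgroup.zpowers k' with hP
    set R := Subgroup.zpowers u' with hRdef
    have hPc : Nat.card P = p := by rw [hP, Nat.card_zpowers, hk'o]
    have hRc : Nat.card R = s := by rw [hRdef, Nat.card_zpowers, hu'o]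
    have hPE : P ≤ E := Subgroup.zpowers_le.mpr (hK.1 hk'K)
    have hRE : R ≤ E := Subgroup.zpowers_le.mpr (hU.1 hu'U)
    have hRP : R ≤ Subgroup.centralizer (P : Set G) := by
      rw [hP, centralizer_zpowers', hRdef, Subgroup.zpowers_le, Subgroup.mem_centralizer_iff]
      intro a ha
      rw [Set.mem_singleton_iff] at ha
      rw [ha]
      exact hcomm'
    have hfixP : sigmaCore M ⊓ Subgroup.centralizer (P : Set G) ≠ ⊥ := by
      rw [hP, centralizer_zpowers', h135 k' hk'K hk'1]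
      exact hfix
    rcases sigma_or_tau hG hM hsM with h | h | h | h
    · exact hsσ h
    · exact hsτ1 h
    · -- `s ∈ τ₂(M)`
      obtain ⟨A, hAE, hAe, hAc⟩ := exists_sq_le_compl hG hM hE h
      have h18 := Cfsg.Agent.S1418.result hG M hM E hE s h A ⟨hAE, hAe, hAc⟩
      have hRA : R ≤ A := h18.1.2 R hRE hRc
      have h0 := hR M hM E hE p hpτ P hPE hPc hfixP s h A hAE hAe hAc
      have h1 : u' ∈ A ⊓ Subgroup.centralizer (P : Set G) :=
        ⟨hRA (Subgroup.mem_zpowers u'), hRP (Subgroup.mem_zpowers u')⟩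
      rw [h0, Subgroup.mem_bot] at h1
      exact hu'1 h1
    · -- `s ∈ τ₃(M)`
      have hRp : IsPGroup s ↥R := isPGroup_of_card_eq hRc
      have hRE₃ : R ≤ E₃ := le_of_normal_hall hsolvE (tau3 M) hE₃ hE₃n hRE
        (fun r hr hd => by
          rw [prime_eq_of_dvd_card hRp hr hd]
          exact h)
      have h28 := Cfsg.Agent.S1428.result hG M hM E hE p hpτ P hPE hPc R (le_inf hRE hRP)
        (hRc ▸ hs)
      have h1 : sigmaCore M ⊓ Subgroup.centralizer (R : Set G) ≠ ⊥ := by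
        intro h0
        apply hfixP
        rw [eq_bot_iff, ← h0]
        exact h28
      rw [hRdef, centralizer_zpowers'] at h1
      exact h1 (hreg u' (hRE₃ (Subgroup.mem_zpowers u')) hu'1)
  refine ⟨U, hU, hUn, hregU, ?_⟩
  -- `U` is nilpotent, hence abelian
  have hnil : Group.IsNilpotent ↥U := by
    apply Cfsg.Agent.Lib.Helper4.FM.nilpotent_of_fpf_action U K hK1
    · intro e he v hv
      exact (Subgroup.mem_normalizer_iff.mp (hUn (hK.1 he)) v).mp hv
    · intro e he he1 v hv hev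
      have h1 : v ∈ U ⊓ Subgroup.centralizer ({e} : Set G) := by
        refine ⟨hv, ?_⟩
        show v ∈ Subgroup.centralizer ({e} : Set G)
        rw [Subgroup.mem_centralizer_iff]
        intro a ha
        rw [Set.mem_singleton_iff] at ha
        rw [ha]
        exact hev
      rw [hregU e he he1, Subgroup.mem_bot] at h1
      exact h1
  exact (Cfsg.Agent.S1420.result hG M hM E hE).1 U (hU.1.trans hE.1) hnil
    (fun r hr hd => not_sigma_of_dvd_card_compl hG hM hE hr
      (hd.trans (Subgroup.card_dvd_of_le hU.1)))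

end Cfsg.Agent.Lib.Helper2.BG14z
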