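import Mathlib
import Cfsg.Agent.Lib.Helper2.BG14z4

set_option autoImplicit false
set_option linter.style.haveILetI false
set_option linter.unusedSectionVars false
set_option maxHeartbeats 1600000

/-! B and G, Theorem 14.2, the regular case: the data `KData M K`. -/

namespace Cfsg.Agent.Lib.Helper2.BG14z

open Cfsg Cfsg.Agent.Lib.Lead Cfsg.Agent.Lib.Lead.BG10 Cfsg.Agent.Lib.Helper7 Cfsg.Agent.Lib.Helper4
open Cfsg.Agent.Lib.Helper4.BG76 Cfsg.Agent.Lib.Helper4.BG8 Cfsg.Agent.Lib.Helper4.BG9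
open Cfsg.Agent.Lib.Helper4.BG7 Cfsg.Agent.Lib.Helper4.BG12 Cfsg.Agent.Lib.Helper4.BGConj
open Cfsg.Agent.Lib.Helper4.BG13 Cfsg.Agent.Lib.Lead.BG95 Cfsg.Agent.Lib.Lead.BG12q
open Cfsg.Agent.Lib.Lead.BG11 Cfsg.Agent.Lib.Lead.BG13q Cfsg.Agent.Lib.Helper4.BG18
open Cfsg.Agent.Lib.Helper2.BG12 Cfsg.Agent.Lib.Helper6 Cfsg.Agent.Lib.Helper2.BG13x
open Cfsg.Agent.Lib.Helper2.BG14y Cfsg.Agent.Lib.Helper4.BG14 Cfsg.Agent.Lib.Helper5.BG139
open scoped commutatorElement

universe u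

variable {G : Type u} [Group G] [Finite G]

/-- a subgroup of a commutative group `K` is normalized by `K` -/
theorem le_normalizer_of_comm {K X : Subgroup G} (hc : IsMulCommutative ↥K) (hXK : X ≤ K) :
    K ≤ Subgroup.normalizer (X : Set G) := by
  intro k hk
  rw [Subgroup.mem_normalizer_iff]
  intro x
  constructor
  · intro hx
    have h1 : (⟨k, hk⟩ : ↥K) * ⟨x, hXK hx⟩ = ⟨x, hXK hx⟩ * ⟨k, hk⟩ := hc.1.1 _ _
    have h2 : k * x = x * k := congrArg Subtype.val h1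
    rw [h2, mul_inv_cancel_right]
    exact hx
  · intro hx
    have hx' : k * x * k⁻¹ ∈ K := hXK hx
    have hxK : x ∈ K := by
      have e1 : x = k⁻¹ * (k * x * k⁻¹) * k := by group
      rw [e1]
      exact K.mul_mem (K.mul_mem (K.inv_mem hk) hx') hk
    have h1 : (⟨k, hk⟩ : ↥K) * ⟨x, hxK⟩ = ⟨x, hxK⟩ * ⟨k, hk⟩ := hc.1.1 _ _
    have h2 : k * x = x * k := congrArg Subtype.val h1
    rw [h2, mul_inv_cancel_right] at hx
    exact hx

/-- the normalizer in `E` of a subgroup `X` of prime order of `K`, when `E = U K` with `U` normal in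
`E`, `U ∩ K = 1`, `K` abelian and `K` acting regularly on `U` -/
theorem inf_normalizer_le_of_regular {E U K X : Subgroup G} (hUK : U ⊔ K = E)
    (hUn : E ≤ Subgroup.normalizer (U : Set G)) (hcap : K ⊓ U = ⊥) (hc : IsMulCommutative ↥K)
    (hregU : ∀ k ∈ K, k ≠ 1 → U ⊓ Subgroup.centralizer ({k} : Set G) = ⊥) (hXK : X ≤ K)
    (hX : (Nat.card X).Prime) : E ⊓ Subgroup.normalizer (X : Set G) ≤ K := by
  rintro e ⟨heE, heN⟩
  have hKE : K ≤ E := hUK ▸ le_sup_right
  have hUE : U ≤ E := hUK ▸ le_sup_left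
  rw [← hUK] at heE
  obtain ⟨v, hv, k, hk, rfl⟩ := KS93.exists_mul_of_mem_sup' (hKE.trans hUn) heE
  have hkN : k ∈ Subgroup.normalizer (X : Set G) := le_normalizer_of_comm hc hXK hk
  have hvN : v ∈ Subgroup.normalizer (X : Set G) := by
    have e1 : v = v * k * k⁻¹ := by group
    rw [e1]
    exact Subgroup.mul_mem _ heN (Subgroup.inv_mem _ hkN)
  -- a non-identity element of `X`
  have hX1 : X ≠ ⊥ := by
    intro h0
    rw [h0, Subgroup.card_bot] at hX
    exact Nat.not_prime_one hX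
  obtain ⟨⟨x, hx⟩, hx1⟩ := (Subgroup.ne_bot_iff_exists_ne_one).mp hX1
  have hx1' : x ≠ 1 := fun h0 => hx1 (Subtype.ext h0)
  have h1 : v * x * v⁻¹ * x⁻¹ ∈ X :=
    X.mul_mem ((Subgroup.mem_normalizer_iff.mp hvN x).mp hx) (X.inv_mem hx)
  have h2 : v * x * v⁻¹ * x⁻¹ ∈ U := by
    have e2 : v * x * v⁻¹ * x⁻¹ = v * (x * v⁻¹ * x⁻¹) := by group
    rw [e2]
    exact U.mul_mem hv
      ((Subgroup.mem_normalizer_iff.mp (hUn (hKE (hXK hx))) _).mp (U.inv_mem hv))
  have h3 : v * x * v⁻¹ * x⁻¹ ∈ K ⊓ U := ⟨hXK h1, h2⟩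
  rw [hcap, Subgroup.mem_bot] at h3
  have h4 : x * v = v * x := by
    have e3 : x * v = (v * x * v⁻¹ * x⁻¹)⁻¹ * (v * x) := by group
    rw [e3, h3, inv_one, one_mul]
  have h5 : v ∈ U ⊓ Subgroup.centralizer ({x} : Set G) := by
    refine ⟨hv, ?_⟩
    show v ∈ Subgroup.centralizer ({x} : Set G)
    rw [Subgroup.mem_centralizer_iff]
    intro a ha
    rw [Set.mem_singleton_iff] at ha
    rw [ha]
    exact h4
  rw [hregU x (hXK hx) hx1', Subgroup.mem_bot] at h5
  rw [h5, one_mul]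
  exact hk

/-- **B and G, Theorem 14.2(a)–(c), regular case** -/
theorem kdata_of_regular (hG : IsMinSimpleOddOrder G) (hR : TClaimR G) {M K E E₃ : Subgroup G}
    (hM : IsCoatom M) (hK : IsPiHallOf (kappa M) K M) (hK1 : K ≠ ⊥)
    (hE : IsComplIn E (sigmaCore M) M) (hKE : K ≤ E) (hE₃ : IsPiHallOf (tau3 M) E₃ E)
    (hreg : ∀ x ∈ E₃, x ≠ 1 → sigmaCore M ⊓ Subgroup.centralizer ({x} : Set G) = ⊥) :
    KData M K := by
  obtain ⟨hK', hτκ, hκτ, hfix⟩ := hall_tau1_of_regular hG hM hK hK1 hE hKE hE₃ hreg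
  have h135 := corollary_13_5 hG hM hE hK'
  obtain ⟨-, h2, -⟩ := Cfsg.Agent.S1415.result hG M hM E hE
  have hcyc : IsCyclic ↥K := h2 K hK'
  have hcomm : IsMulCommutative ↥K := by
    haveI := hcyc
    exact ⟨⟨IsCyclic.commGroup.mul_comm⟩⟩
  obtain ⟨U, hU, hUn, hregU, hUc⟩ := exists_U_of_regular hG hR hM hE hK' hK1 hfix hE₃ hreg
  have hUK : U ⊔ K = E := sup_eq_of_hall_hall hK' hU (fun q hq _ => by
    by_cases h : q ∈ tau1 M
    · exact Or.inl h
    · exact Or.inr ⟨hq, h⟩)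
  have hcap : K ⊓ U = ⊥ := by
    rw [← disjoint_iff]
    apply Subgroup.disjoint_of_coprime_natCard
    apply Nat.coprime_of_dvd
    intro r hr h1 h2
    exact (hU.2.1 r hr h2).2 (hK'.2.1 r hr h1)
  -- centralizers of subgroups of prime order of `K`
  have hCX : ∀ X : Subgroup G, X ≤ K → (Nat.card X).Prime →
      sigmaCore M ⊓ Subgroup.centralizer (X : Set G) =
        sigmaCore M ⊓ Subgroup.centralizer (K : Set G) := by
    intro X hXK hX
    have hX1 : X ≠ ⊥ := by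
      intro h0
      rw [h0, Subgroup.card_bot] at hX
      exact Nat.not_prime_one hX
    obtain ⟨⟨x, hx⟩, hx1⟩ := (Subgroup.ne_bot_iff_exists_ne_one).mp hX1
    have hx1' : x ≠ 1 := fun h0 => hx1 (Subtype.ext h0)
    rw [centralizer_eq_of_card_prime hX hx hx1', h135 x (hXK hx) hx1']
  have hKstarM : sigmaCore M ⊓ Subgroup.centralizer (K : Set G) ≤ M :=
    inf_le_left.trans (sigmaCore_le M)
  refine ⟨h135, hfix, ⟨U, hUc, ⟨hU.1.trans hE.1, ?_, ?_⟩, hKE.trans hUn, hregU⟩, ?_, ?_, ?_, ?_⟩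
  · intro q hq hd
    refine ⟨hq, fun hκ => (hU.2.1 q hq hd).2 (hκτ q hκ), ?_⟩
    exact not_sigma_of_dvd_card_compl hG hM hE hq (hd.trans (Subgroup.card_dvd_of_le hU.1))
  · rintro q hq ⟨-, hqκ, hqσ⟩ hd
    rw [← Subgroup.relIndex_mul_relIndex U E M hU.1 hE.1] at hd
    rcases (Nat.Prime.dvd_mul hq).mp hd with h | h
    · exact hU.2.2 q hq ⟨hq, fun hτ => hqκ (hτκ q hτ)⟩ h
    · rw [Cfsg.Agent.Lib.Helper4.BG13.relIndex_complIn_sigmaCore hE] at h
      exact hqσ ((sigmaCore_hall hG hM).1.2.1 q hq h)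
  · -- normalizers
    intro X hXK hX
    have hEX : E ⊓ Subgroup.normalizer (X : Set G) ≤ K :=
      inf_normalizer_le_of_regular hUK hUn hcap hcomm hregU hXK hX
    constructor
    · apply le_antisymm
      · refine (inf_normalizer_le hE (hXK.trans hKE)).trans ?_
        rw [hCX X hXK hX, sup_comm]
        exact sup_le_sup_right hEX _
      · apply sup_le
        · exact le_inf hK.1 (le_normalizer_of_comm hcomm hXK)
        · apply le_inf hKstarM
          refine inf_le_right.trans ?_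
          exact (Subgroup.centralizer_le hXK).trans (Subgroup.centralizer_le_normalizer _)
    · apply le_antisymm
      · refine (inf_normalizer_le hE hKE).trans ?_
        rw [sup_comm]
        apply sup_le_sup_right
        refine le_trans ?_ hEX
        exact inf_le_inf_left _ (normalizer_le_normalizer_of_cyclic hcyc hXK)
      · apply sup_le
        · exact le_inf hK.1 Subgroup.le_normalizer
        · apply le_inf hKstarM
          exact inf_le_right.trans (Subgroup.centralizer_le_normalizer _)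
  · -- `X ≤ M*_σ`
    intro X hXK hX Mstar hMstar hN
    haveI : Fact (Nat.card X).Prime := ⟨hX⟩
    have hpτ : Nat.card X ∈ tau1 M := hK'.2.1 _ hX (Subgroup.card_dvd_of_le hXK)
    have hfixX : sigmaCore M ⊓ Subgroup.centralizer (X : Set G) ≠ ⊥ := by
      rw [hCX X hXK hX]
      exact hfix
    have hσ : Nat.card X ∈ sigma Mstar :=
      mem_sigma_of_tau1_fixed' hG hM hMstar hpτ (hXK.trans hK.1) rfl hfixX hN
    apply le_sigmaCore_of_piNum hG hMstar (Subgroup.le_normalizer.trans hN)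
    intro r hr hd
    rw [(Nat.prime_dvd_prime_iff_eq hr hX).mp hd]
    exact hσ
  · -- a subgroup of prime order in `τ₁(M)`
    have hKc : Nat.card K ≠ 1 := fun h => hK1 (Subgroup.card_eq_one.mp h)
    obtain ⟨p₀, hp₀, hp₀d⟩ := Nat.exists_prime_and_dvd hKc
    haveI : Fact p₀.Prime := ⟨hp₀⟩
    obtain ⟨x₀, hx₀⟩ := exists_prime_orderOf_dvd_card' p₀ hp₀d
    have hc : Nat.card ↥(Subgroup.zpowers (x₀ : G)) = p₀ := by
      rw [Nat.card_zpowers, Subgroup.orderOf_coe, hx₀]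
    refine ⟨Subgroup.zpowers (x₀ : G), Subgroup.zpowers_le.mpr x₀.2, hc ▸ hp₀, ?_⟩
    rw [hc]
    exact hK'.2.1 p₀ hp₀ hp₀d
  · intro X X' hX hX' hXp hc
    exact subgroup_eq_of_card_eq_of_le_cyclic K X' X hcyc hX' hX hc

end Cfsg.Agent.Lib.Helper2.BG14z
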