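import Mathlib
import Cfsg.Agent.Lib.Helper2.BG14z5

set_option autoImplicit false
set_option linter.style.haveILetI false
set_option linter.unusedSectionVars false
set_option maxHeartbeats 1600000

/-! B and G, Theorem 14.2, the non-regular case: the Hall `τ₃(M)`-subgroup `E₃` of a complement `E`
has fixed points on `M_σ`.  Then `K = E = E₃ E₁`, every subgroup of prime order of `E` is normal in
`E` and has the same fixed points on `M_σ`. -/

namespace Cfsg.Agent.Lib.Helper2.BG14z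

open Cfsg Cfsg.Agent.Lib.Lead Cfsg.Agent.Lib.Lead.BG10 Cfsg.Agent.Lib.Helper7 Cfsg.Agent.Lib.Helper4
open Cfsg.Agent.Lib.Helper4.BG76 Cfsg.Agent.Lib.Helper4.BG8 Cfsg.Agent.Lib.Helper4.BG9
open Cfsg.Agent.Lib.Helper4.BG7 Cfsg.Agent.Lib.Helper4.BG12 Cfsg.Agent.Lib.Helper4.BGConj
open Cfsg.Agent.Lib.Helper4.BG13 Cfsg.Agent.Lib.Lead.BG95 Cfsg.Agent.Lib.Lead.BG12q
open Cfsg.Agent.Lib.Lead.BG11 Cfsg.Agent.Lib.Lead.BG13q Cfsg.Agent.Lib.Helper4.BG18
open Cfsg.Agent.Lib.Helper2.BG12 Cfsg.Agent.Lib.Helper6 Cfsg.Agent.Lib.Helper2.BG13x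
open Cfsg.Agent.Lib.Helper2.BG14y Cfsg.Agent.Lib.Helper4.BG14 Cfsg.Agent.Lib.Helper5.BG139
open scoped commutatorElement

universe u

variable {G : Type u} [Group G] [Finite G]

/-- the non-regular configuration -/
structure Pht (M E E₁ E₃ : Subgroup G) : Prop where
  hM : IsCoatom M
  hE : IsComplIn E (sigmaCore M) M
  hE₁ : IsPiHallOf (tau1 M) E₁ E
  hE₃ : IsPiHallOf (tau3 M) E₃ E
  hfix : ∃ x ∈ E₃, x ≠ 1 ∧ sigmaCore M ⊓ Subgroup.centralizer ({x} : Set G) ≠ ⊥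
  hE₁1 : E₁ ≠ ⊥
  p1 : ∀ x ∈ E₁, x ≠ 1 → sigmaCore M ⊓ Subgroup.centralizer ({x} : Set G) =
        sigmaCore M ⊓ Subgroup.centralizer (E₃ : Set G)
  p2 : ∀ P : Subgroup G, P ≤ E₁ → (Nat.card P).Prime → E₃ ≤ Subgroup.centralizer (P : Set G)
  p3 : ∀ R : Subgroup G, R ≤ E₃ → (Nat.card R).Prime → ∀ H : Subgroup G, IsCoatom H →
        Subgroup.normalizer (R : Set G) ≤ H → Nat.card R ∈ sigma H

namespace Pht

variable {M E E₁ E₃ : Subgroup G}

theorem of_phantom (hP : TPhantom G) (hM : IsCoatom M) (hE : IsComplIn E (sigmaCore M) M)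
    (hE₁ : IsPiHallOf (tau1 M) E₁ E) (hE₃ : IsPiHallOf (tau3 M) E₃ E)
    (hfix : ∃ x ∈ E₃, x ≠ 1 ∧ sigmaCore M ⊓ Subgroup.centralizer ({x} : Set G) ≠ ⊥) :
    Pht M E E₁ E₃ := by
  obtain ⟨h0, h1, h2, h3⟩ := hP M hM E E₁ E₃ hE hE₁ hE₃ hfix
  exact ⟨hM, hE, hE₁, hE₃, hfix, h0, h1, h2, h3⟩

theorem solvE (c : Pht M E E₁ E₃) (hG : IsMinSimpleOddOrder G) : Group.IsSolvable ↥E :=
  solvable_of_ne_top hG (ne_top_of_le_ne_top c.hM.1 c.hE.1)

theorem cyc1 (c : Pht M E E₁ E₃) (hG : IsMinSimpleOddOrder G) : IsCyclic ↥E₁ :=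
  (Cfsg.Agent.S1415.result hG M c.hM E c.hE).2.1 E₁ c.hE₁

theorem cyc3 (c : Pht M E E₁ E₃) (hG : IsMinSimpleOddOrder G) : IsCyclic ↥E₃ :=
  ((Cfsg.Agent.S1415.result hG M c.hM E c.hE).2.2 E₃ c.hE₃).1

theorem norm3 (c : Pht M E E₁ E₃) (hG : IsMinSimpleOddOrder G) :
    E ≤ Subgroup.normalizer (E₃ : Set G) :=
  ((Cfsg.Agent.S1415.result hG M c.hM E c.hE).2.2 E₃ c.hE₃).2.2

theorem comm1 (c : Pht M E E₁ E₃) (hG : IsMinSimpleOddOrder G) : IsMulCommutative ↥E₁ := by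
  haveI := c.cyc1 hG
  exact ⟨⟨IsCyclic.commGroup.mul_comm⟩⟩

theorem tau2_empty (c : Pht M E E₁ E₃) (hG : IsMinSimpleOddOrder G) : ∀ t : ℕ, t ∉ tau2 M := by
  obtain ⟨x, hx, hx1, hfx⟩ := c.hfix
  exact tau2_empty_of_tau3_fixed hG c.hM c.hE c.hE₃ hx hx1 hfx

theorem sp3 (c : Pht M E E₁ E₃) (hG : IsMinSimpleOddOrder G) :
    ∀ x ∈ E₃, x ≠ 1 → sigmaCore M ⊓ Subgroup.centralizer ({x} : Set G) =
      sigmaCore M ⊓ Subgroup.centralizer (E₃ : Set G) :=
  tau3_semiprime hG c.hM c.hE c.hE₃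

theorem Y_ne (c : Pht M E E₁ E₃) (hG : IsMinSimpleOddOrder G) :
    sigmaCore M ⊓ Subgroup.centralizer (E₃ : Set G) ≠ ⊥ := by
  obtain ⟨x, hx, hx1, hfx⟩ := c.hfix
  rw [← c.sp3 hG x hx hx1]
  exact hfx

/-- the primes of `E` lie in `τ₁(M)` or `τ₃(M)` -/
theorem tau13 (c : Pht M E E₁ E₃) (hG : IsMinSimpleOddOrder G) {q : ℕ} (hq : q.Prime)
    (hd : q ∣ Nat.card E) : q ∈ tau1 M ∨ q ∈ tau3 M := by
  haveI : Fact q.Prime := ⟨hq⟩
  have hqσ : q ∉ sigma M := not_sigma_of_dvd_card_compl hG c.hM c.hE hq hd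
  have hqM : q ∣ Nat.card M := hd.trans (Subgroup.card_dvd_of_le c.hE.1)
  rcases sigma_or_tau hG c.hM hqM with h | h | h | h
  · exact absurd h hqσ
  · exact Or.inl h
  · exact absurd h (c.tau2_empty hG q)
  · exact Or.inr h

theorem sup_eq (c : Pht M E E₁ E₃) (hG : IsMinSimpleOddOrder G) : E₃ ⊔ E₁ = E :=
  sup_eq_of_hall_hall c.hE₁ c.hE₃ (fun _ hq hd => c.tau13 hG hq hd)

/-- a subgroup of prime order of `E₁` is central in `E` -/
theorem central (c : Pht M E E₁ E₃) (hG : IsMinSimpleOddOrder G) {P : Subgroup G} (hP : P ≤ E₁)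
    (hPc : (Nat.card P).Prime) : E ≤ Subgroup.centralizer (P : Set G) := by
  rw [← c.sup_eq hG]
  apply sup_le (c.p2 P hP hPc)
  intro e he
  rw [Subgroup.mem_centralizer_iff]
  intro a ha
  have h1 : (⟨a, hP ha⟩ : ↥E₁) * ⟨e, he⟩ = ⟨e, he⟩ * ⟨a, hP ha⟩ := (c.comm1 hG).1.1 _ _
  exact congrArg Subtype.val h1

/-- a subgroup of prime order of `E` lies in `E₃` or in `E₁` -/
theorem prime_le (c : Pht M E E₁ E₃) (hG : IsMinSimpleOddOrder G) {X : Subgroup G} (hXE : X ≤ E)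
    (hX : (Nat.card X).Prime) :
    (X ≤ E₃ ∧ Nat.card X ∈ tau3 M) ∨ (X ≤ E₁ ∧ Nat.card X ∈ tau1 M) := by
  have hXp : IsPGroup (Nat.card X) ↥X := by
    haveI : Fact (Nat.card X).Prime := ⟨hX⟩
    exact isPGroup_of_card_eq rfl
  rcases c.tau13 hG hX (Subgroup.card_dvd_of_le hXE) with h | h
  · right
    refine ⟨?_, h⟩
    obtain ⟨e, he, heX⟩ := exists_cj_le_hall (c.solvE hG) (tau1 M) c.hE₁ hXE
      (fun r hr hd => by
        haveI : Fact (Nat.card X).Prime := ⟨hX⟩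
        rw [prime_eq_of_dvd_card hXp hr hd]
        exact h)
    have hcc : (Nat.card ↥(cj e X)).Prime := by rw [card_cj]; exact hX
    have h1 : E ≤ Subgroup.normalizer ((cj e X : Subgroup G) : Set G) :=
      (c.central hG heX hcc).trans (Subgroup.centralizer_le_normalizer _)
    have h2 : cj e⁻¹ (cj e X) = cj e X := mem_normalizer_iff_cj.mp (h1 (E.inv_mem he))
    rw [cj_inv_cj] at h2
    rw [h2]
    exact heX
  · left
    refine ⟨?_, h⟩
    apply le_of_normal_hall (c.solvE hG) (tau3 M) c.hE₃ (c.norm3 hG) hXE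
    intro r hr hd
    haveI : Fact (Nat.card X).Prime := ⟨hX⟩
    rw [prime_eq_of_dvd_card hXp hr hd]
    exact h

/-- every subgroup of prime order of `E` is normal in `E` -/
theorem normal (c : Pht M E E₁ E₃) (hG : IsMinSimpleOddOrder G) {X : Subgroup G} (hXE : X ≤ E)
    (hX : (Nat.card X).Prime) : E ≤ Subgroup.normalizer (X : Set G) := by
  rcases c.prime_le hG hXE hX with ⟨h, -⟩ | ⟨h, -⟩
  · exact (c.norm3 hG).trans (normalizer_le_normalizer_of_cyclic (c.cyc3 hG) h)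
  · exact (c.central hG h hX).trans (Subgroup.centralizer_le_normalizer _)

/-- the fixed points of `E₃` on `M_σ` are centralized by `E` -/
theorem Y_le (c : Pht M E E₁ E₃) (hG : IsMinSimpleOddOrder G) :
    E ≤ Subgroup.centralizer
      ((sigmaCore M ⊓ Subgroup.centralizer (E₃ : Set G) : Subgroup G) : Set G) := by
  rw [← c.sup_eq hG]
  apply sup_le
  · intro e he
    rw [Subgroup.mem_centralizer_iff]
    rintro y ⟨-, hy⟩
    exact (Subgroup.mem_centralizer_iff.mp hy e he).symm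
  · intro e he
    rw [Subgroup.mem_centralizer_iff]
    rintro y hy
    by_cases he1 : e = 1
    · rw [he1, one_mul, mul_one]
    · rw [← c.p1 e he he1] at hy
      exact (Subgroup.mem_centralizer_iff.mp hy.2 e (Set.mem_singleton e)).symm

theorem Y_eq (c : Pht M E E₁ E₃) (hG : IsMinSimpleOddOrder G) :
    sigmaCore M ⊓ Subgroup.centralizer (E : Set G) =
      sigmaCore M ⊓ Subgroup.centralizer (E₃ : Set G) := by
  apply le_antisymm
  · exact inf_le_inf_left _ (Subgroup.centralizer_le c.hE₃.1)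
  · apply le_inf inf_le_left
    intro y hy
    rw [Subgroup.mem_centralizer_iff]
    intro e he
    exact (Subgroup.mem_centralizer_iff.mp (c.Y_le hG he) y hy).symm

theorem fix_ne (c : Pht M E E₁ E₃) (hG : IsMinSimpleOddOrder G) :
    sigmaCore M ⊓ Subgroup.centralizer (E : Set G) ≠ ⊥ := by
  rw [c.Y_eq hG]
  exact c.Y_ne hG

/-- the fixed points on `M_σ` of a subgroup of prime order of `E` -/
theorem fixX (c : Pht M E E₁ E₃) (hG : IsMinSimpleOddOrder G) {X : Subgroup G} (hXE : X ≤ E)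
    (hX : (Nat.card X).Prime) :
    sigmaCore M ⊓ Subgroup.centralizer (X : Set G) =
      sigmaCore M ⊓ Subgroup.centralizer (E : Set G) := by
  have hX1 : X ≠ ⊥ := by
    intro h0
    rw [h0, Subgroup.card_bot] at hX
    exact Nat.not_prime_one hX
  obtain ⟨⟨x, hx⟩, hx1⟩ := (Subgroup.ne_bot_iff_exists_ne_one).mp hX1
  have hx1' : x ≠ 1 := fun h0 => hx1 (Subtype.ext h0)
  rw [centralizer_eq_of_card_prime hX hx hx1', c.Y_eq hG]
  rcases c.prime_le hG hXE hX with ⟨h, -⟩ | ⟨h, -⟩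
  · exact c.sp3 hG x (h hx) hx1'
  · exact c.p1 x (h hx) hx1'

/-- `E` acts in a prime manner on `M_σ` -/
theorem semiprime (c : Pht M E E₁ E₃) (hG : IsMinSimpleOddOrder G) :
    ∀ k ∈ E, k ≠ 1 → sigmaCore M ⊓ Subgroup.centralizer ({k} : Set G) =
      sigmaCore M ⊓ Subgroup.centralizer (E : Set G) := by
  intro k hk hk1
  apply le_antisymm
  · obtain ⟨r, n, hr, hko, hk'1⟩ := exists_prime_pow hk1
    have hc : Nat.card ↥(Subgroup.zpowers (k ^ n)) = r := by rw [Nat.card_zpowers, hko]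
    have h1 := c.fixX hG (X := Subgroup.zpowers (k ^ n))
      (Subgroup.zpowers_le.mpr (E.pow_mem hk n)) (hc ▸ hr)
    rw [← h1, centralizer_zpowers']
    exact inf_le_inf_left _ (centralizer_le_centralizer_pow k n)
  · apply inf_le_inf_left
    apply Subgroup.centralizer_le
    intro a ha
    rw [Set.mem_singleton_iff] at ha
    rw [ha]
    exact hk

/-- the primes of `E` lie in `κ(M)` -/
theorem mem_kappa (c : Pht M E E₁ E₃) (hG : IsMinSimpleOddOrder G) {q : ℕ} (hq : q.Prime)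
    (hd : q ∣ Nat.card E) : q ∈ kappa M := by
  haveI : Fact q.Prime := ⟨hq⟩
  obtain ⟨x, hx⟩ := exists_prime_orderOf_dvd_card' q hd
  have hc : Nat.card ↥(Subgroup.zpowers (x : G)) = q := by
    rw [Nat.card_zpowers, Subgroup.orderOf_coe, hx]
  have hXE : Subgroup.zpowers (x : G) ≤ E := Subgroup.zpowers_le.mpr x.2
  have hfix : sigmaCore M ⊓ Subgroup.centralizer ((Subgroup.zpowers (x : G) : Subgroup G) : Set G)
      ≠ ⊥ := by
    rw [c.fixX hG hXE (hc ▸ hq)]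
    exact c.fix_ne hG
  have hqσ : q ∉ sigma M := not_sigma_of_dvd_card_compl hG c.hM c.hE hq hd
  have hr1 : PRankLE q 1 ↥M := by
    rcases c.tau13 hG hq hd with h | h
    · exact h.2.2.2.2
    · exact h.2.2.2
  exact mem_kappa_of_le hG c.hM hqσ hr1 (hXE.trans c.hE.1) hc hfix

/-- a Hall `κ(M)`-subgroup of `M` inside `E` is `E` -/
theorem K_eq (c : Pht M E E₁ E₃) (hG : IsMinSimpleOddOrder G) {K : Subgroup G}
    (hK : IsPiHallOf (kappa M) K M) (hKE : K ≤ E) : K = E := by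
  apply le_antisymm hKE
  rw [← Subgroup.relIndex_eq_one]
  by_contra hne
  obtain ⟨q, hq, hqd⟩ := Nat.exists_prime_and_dvd hne
  have h1 : q ∣ Nat.card E := hqd.trans (Subgroup.relIndex_dvd_card _ _)
  have h3 : K.relIndex E ∣ K.relIndex M :=
    Dvd.intro _ (Subgroup.relIndex_mul_relIndex K E M hKE c.hE.1)
  exact hK.2.2 q hq (c.mem_kappa hG hq h1) (hqd.trans h3)

/-- **B and G, Theorem 14.2(a)–(c), non-regular case** -/
theorem kdata (c : Pht M E E₁ E₃) (hG : IsMinSimpleOddOrder G) : KData M E := by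
  have hKstarM : sigmaCore M ⊓ Subgroup.centralizer (E : Set G) ≤ M :=
    inf_le_left.trans (sigmaCore_le M)
  refine ⟨c.semiprime hG, c.fix_ne hG, ⟨⊥, ?_, ⟨bot_le, ?_, ?_⟩, ?_, ?_⟩, ?_, ?_, ?_, ?_⟩
  · refine ⟨⟨?_⟩⟩
    rintro ⟨a, ha⟩ ⟨b, hb⟩
    apply Subtype.ext
    rw [Subgroup.mem_bot] at ha hb
    show a * b = b * a
    rw [ha, hb]
  · intro q hq hd
    rw [Subgroup.card_bot] at hd
    exact absurd (Nat.dvd_one.mp hd) hq.one_lt.ne'
  · rintro q hq ⟨-, hqκ, hqσ⟩ hd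
    rw [Subgroup.relIndex_bot_left, card_mul_of_isComplIn c.hE] at hd
    rcases (Nat.Prime.dvd_mul hq).mp hd with h | h
    · exact hqκ (c.mem_kappa hG hq h)
    · exact hqσ ((sigmaCore_hall hG c.hM).1.2.1 q hq h)
  · intro e _
    rw [Subgroup.mem_normalizer_iff]
    intro x
    simp only [Subgroup.mem_bot]
    constructor
    · intro h
      rw [h]
      group
    · intro h
      calc x = e⁻¹ * (e * x * e⁻¹) * e := by group
        _ = 1 := by rw [h]; group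
  · intro k _ _
    exact bot_inf_eq _
  · -- normalizers
    intro X hXE hX
    constructor
    · apply le_antisymm
      · refine (inf_normalizer_le c.hE hXE).trans ?_
        rw [c.fixX hG hXE hX, sup_comm]
        exact sup_le_sup_right inf_le_left _
      · apply sup_le
        · exact le_inf c.hE.1 (c.normal hG hXE hX)
        · apply le_inf hKstarM
          refine inf_le_right.trans ?_
          exact (Subgroup.centralizer_le hXE).trans (Subgroup.centralizer_le_normalizer _)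
    · apply le_antisymm
      · refine (inf_normalizer_le c.hE le_rfl).trans ?_
        rw [sup_comm]
        exact sup_le_sup_right inf_le_left _
      · apply sup_le
        · exact le_inf c.hE.1 Subgroup.le_normalizer
        · apply le_inf hKstarM
          exact inf_le_right.trans (Subgroup.centralizer_le_normalizer _)
  · -- `X ≤ M*_σ`
    intro X hXE hX Mstar hMstar hN
    haveI : Fact (Nat.card X).Prime := ⟨hX⟩
    have hσ : Nat.card X ∈ sigma Mstar := by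
      rcases c.prime_le hG hXE hX with ⟨h, -⟩ | ⟨h, hτ⟩
      · exact c.p3 X h hX Mstar hMstar hN
      · have hfixX : sigmaCore M ⊓ Subgroup.centralizer (X : Set G) ≠ ⊥ := by
          rw [c.fixX hG hXE hX]
          exact c.fix_ne hG
        exact mem_sigma_of_tau1_fixed' hG c.hM hMstar hτ (hXE.trans c.hE.1) rfl hfixX hN
    apply le_sigmaCore_of_piNum hG hMstar (Subgroup.le_normalizer.trans hN)
    intro r hr hd
    rw [(Nat.prime_dvd_prime_iff_eq hr hX).mp hd]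
    exact hσ
  · -- a subgroup of prime order in `τ₁(M)`
    have hKc : Nat.card E₁ ≠ 1 := fun h => c.hE₁1 (Subgroup.card_eq_one.mp h)
    obtain ⟨p₀, hp₀, hp₀d⟩ := Nat.exists_prime_and_dvd hKc
    haveI : Fact p₀.Prime := ⟨hp₀⟩
    obtain ⟨x₀, hx₀⟩ := exists_prime_orderOf_dvd_card' p₀ hp₀d
    have hc : Nat.card ↥(Subgroup.zpowers (x₀ : G)) = p₀ := by
      rw [Nat.card_zpowers, Subgroup.orderOf_coe, hx₀]
    refine ⟨Subgroup.zpowers (x₀ : G), Subgroup.zpowers_le.mpr (c.hE₁.1 x₀.2), hc ▸ hp₀, ?_⟩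
    rw [hc]
    exact c.hE₁.2.1 p₀ hp₀ hp₀d
  · intro X X' hX hX' hXp hc
    have hX'p : (Nat.card X').Prime := hc ▸ hXp
    rcases c.prime_le hG hX hXp with ⟨h, hτ⟩ | ⟨h, hτ⟩
    · rcases c.prime_le hG hX' hX'p with ⟨h', -⟩ | ⟨-, hτ'⟩
      · exact subgroup_eq_of_card_eq_of_le_cyclic E₃ X' X (c.cyc3 hG) h' h hc
      · rw [hc] at hτ'
        exact absurd hτ.2.2.1 hτ'.2.2.2.1
    · rcases c.prime_le hG hX' hX'p with ⟨-, hτ'⟩ | ⟨h', -⟩
      · rw [hc] at hτ'
        exact absurd hτ'.2.2.1 hτ.2.2.2.1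
      · exact subgroup_eq_of_card_eq_of_le_cyclic E₁ X' X (c.cyc1 hG) h' h hc

end Pht

end Cfsg.Agent.Lib.Helper2.BG14z
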