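import Mathlib
import Cfsg.Agent.Lib.Helper2.BG14z6

set_option autoImplicit false
set_option linter.style.haveILetI false
set_option linter.unusedSectionVars false
set_option maxHeartbeats 1600000

/-! B and G, Theorem 14.2(a)–(c): the data `KData M K` for every Hall `κ(M)`-subgroup `K ≠ 1`. -/

namespace Cfsg.Agent.Lib.Helper2.BG14z

open Cfsg Cfsg.Agent.Lib.Lead Cfsg.Agent.Lib.Lead.BG10 Cfsg.Agent.Lib.Helper7 Cfsg.Agent.Lib.Helper4
open Cfsg.Agent.Lib.Helper4.BG76 Cfsg.Agent.Lib.Helper4.BG8 Cfsg.Agent.Lib.Helper4.BG9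
open Cfsg.Agent.Lib.Helper4.BG7 Cfsg.Agent.Lib.Helper4.BG12 Cfsg.Agent.Lib.Helper4.BGConj
open Cfsg.Agent.Lib.Helper4.BG13 Cfsg.Agent.Lib.Lead.BG95 Cfsg.Agent.Lib.Lead.BG12q
open Cfsg.Agent.Lib.Lead.BG11 Cfsg.Agent.Lib.Lead.BG13q Cfsg.Agent.Lib.Helper4.BG18
open Cfsg.Agent.Lib.Helper2.BG12 Cfsg.Agent.Lib.Helper6 Cfsg.Agent.Lib.Helper2.BG13x
open Cfsg.Agent.Lib.Helper2.BG14y Cfsg.Agent.Lib.Helper4.BG14 Cfsg.Agent.Lib.Helper5.BG139
open scoped commutatorElement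

universe u

variable {G : Type u} [Group G] [Finite G]

/-- **B and G, Theorem 14.2(a)–(c)**, relative to Lemmas 13.10–13.12 -/
theorem kdata (hG : IsMinSimpleOddOrder G) (hP : TPhantom G) (hR : TClaimR G) {M K : Subgroup G}
    (hM : IsCoatom M) (hK : IsPiHallOf (kappa M) K M) (hK1 : K ≠ ⊥) : KData M K := by
  classical
  obtain ⟨E, hE, hKE⟩ := exists_complIn_ge hG hM hK.1 (coprime_card_kappa_hall hG hM hK)
  have hsolvE : Group.IsSolvable ↥E := solvable_of_ne_top hG (ne_top_of_le_ne_top hM.1 hE.1)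
  obtain ⟨E₃, hE₃, -⟩ := exists_piHallOf_ge hsolvE (tau3 M) (bot_le : (⊥ : Subgroup G) ≤ E)
    (fun q hq hd => by
      rw [Subgroup.card_bot] at hd
      exact absurd (Nat.dvd_one.mp hd) hq.one_lt.ne')
  obtain ⟨E₁, hE₁, -⟩ := exists_piHallOf_ge hsolvE (tau1 M) (bot_le : (⊥ : Subgroup G) ≤ E)
    (fun q hq hd => by
      rw [Subgroup.card_bot] at hd
      exact absurd (Nat.dvd_one.mp hd) hq.one_lt.ne')
  by_cases hreg : ∀ x ∈ E₃, x ≠ 1 → sigmaCore M ⊓ Subgroup.centralizer ({x} : Set G) = ⊥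
  · exact kdata_of_regular hG hR hM hK hK1 hE hKE hE₃ hreg
  · push_neg at hreg
    have c : Pht M E E₁ E₃ := Pht.of_phantom hP hM hE hE₁ hE₃ hreg
    rw [c.K_eq hG hK hKE]
    exact c.kdata hG

end Cfsg.Agent.Lib.Helper2.BG14z
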