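import Mathlib
import Cfsg.Agent.Lib.Helper2.BG14z7
import Cfsg.Agent.S1404
import Cfsg.Agent.S1425

set_option autoImplicit false
set_option linter.style.haveILetI false
set_option linter.unusedSectionVars false
set_option maxHeartbeats 1600000

/-! B and G, Theorem 14.2: the statements (a)–(f) from the data `KData M K`. -/

namespace Cfsg.Agent.Lib.Helper2.BG14z

open Cfsg Cfsg.Agent.Lib.Lead Cfsg.Agent.Lib.Lead.BG10 Cfsg.Agent.Lib.Helper7 Cfsg.Agent.Lib.Helper4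
open Cfsg.Agent.Lib.Helper4.BG76 Cfsg.Agent.Lib.Helper4.BG8 Cfsg.Agent.Lib.Helper4.BG9
open Cfsg.Agent.Lib.Helper4.BG7 Cfsg.Agent.Lib.Helper4.BG12 Cfsg.Agent.Lib.Helper4.BGConj
open Cfsg.Agent.Lib.Helper4.BG13 Cfsg.Agent.Lib.Lead.BG95 Cfsg.Agent.Lib.Lead.BG12q
open Cfsg.Agent.Lib.Lead.BG11 Cfsg.Agent.Lib.Lead.BG13q Cfsg.Agent.Lib.Helper4.BG18
open Cfsg.Agent.Lib.Helper2.BG12 Cfsg.Agent.Lib.Helper6 Cfsg.Agent.Lib.Helper2.BG13x
open Cfsg.Agent.Lib.Helper2.BG14y Cfsg.Agent.Lib.Helper4.BG14 Cfsg.Agent.Lib.Helper5.BG139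
open scoped commutatorElement

universe u

variable {G : Type u} [Group G] [Finite G]

/-- **B and G, Lemma 13.6**, both parts, for a subgroup `P ≠ 1` of `M` which is a `p`-group,
`p ∈ τ₁(M)` -/
theorem lemma_13_6_of_le' (hG : IsMinSimpleOddOrder G) {M : Subgroup G} (hM : IsCoatom M) {p : ℕ}
    [hp : Fact p.Prime] (hpτ : p ∈ tau1 M) {P : Subgroup G} (hPM : P ≤ M) (hPp : IsPGroup p ↥P)
    (hP1 : P ≠ ⊥) {q : ℕ} [hq : Fact q.Prime] {X : Subgroup G} (hXM : X ≤ sigmaCore M)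
    (hXP : X ≤ Subgroup.centralizer (P : Set G)) (hXc : Nat.card X = q) :
    (Subgroup.centralizer (X : Set G) ≤ M ∧
        ∀ L : Subgroup G, IsCoatom L → Subgroup.centralizer (X : Set G) ≤ L → L = M) ∧
      ∀ S : Sylow q ↥(sigmaCore M),
        InUniqueMaximal ((S : Subgroup ↥(sigmaCore M)).map (sigmaCore M).subtype) ∧
          (S : Subgroup ↥(sigmaCore M)).map (sigmaCore M).subtype ≤ M := by
  have hPπ : ∀ r : ℕ, r.Prime → r ∣ Nat.card P → r = p := fun r hr hd =>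
    prime_eq_of_dvd_card hPp hr hd
  have hcop : (Nat.card P).Coprime (Nat.card (sigmaCore M)) := by
    apply Nat.coprime_of_dvd
    intro r hr h1 h2
    have := (sigmaCore_hall hG hM).1.2.1 r hr h2
    rw [hPπ r hr h1] at this
    exact hpτ.2.1 this
  obtain ⟨E, hE, hPE⟩ := exists_complIn_ge hG hM hPM hcop
  have hsolv : Group.IsSolvable ↥E := solvable_of_ne_top hG (ne_top_of_le_ne_top hM.1 hE.1)
  obtain ⟨E₁, hE₁, hPE₁⟩ := exists_piHallOf_ge hsolv (tau1 M) hPE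
    (fun r hr hd => by rw [hPπ r hr hd]; exact hpτ)
  exact lemma_13_6' hG hM hE hE₁ hPE₁ hP1 hXM hXP hXc

/-- **B and G, Theorem 14.2(a)–(c)** from the data -/
theorem s1430_of_kdata {M K : Subgroup G} (d : KData M K) :
    (∀ k ∈ K, k ≠ 1 → Cfsg.sigmaCore M ⊓ Subgroup.centralizer ({k} : Set G) =
        (Cfsg.sigmaCore M ⊓ Subgroup.centralizer (K : Set G))) ∧
      (∃ U : Subgroup G, IsMulCommutative U ∧
        Cfsg.IsPiHallOf {q | q.Prime ∧ q ∉ Cfsg.kappa M ∧ q ∉ Cfsg.sigma M} U M ∧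
        K ≤ Subgroup.normalizer (U : Set G) ∧
        ∀ k ∈ K, k ≠ 1 → U ⊓ Subgroup.centralizer ({k} : Set G) = ⊥) ∧
      ∀ X : Subgroup G, X ≤ K → (Nat.card X).Prime →
        M ⊓ Subgroup.normalizer (X : Set G) =
          K ⊔ (Cfsg.sigmaCore M ⊓ Subgroup.centralizer (K : Set G)) ∧
        M ⊓ Subgroup.normalizer (K : Set G) =
          K ⊔ (Cfsg.sigmaCore M ⊓ Subgroup.centralizer (K : Set G)) ∧
        ∀ Mstar : Subgroup G, IsCoatom Mstar → Subgroup.normalizer (X : Set G) ≤ Mstar →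
          X ≤ Cfsg.sigmaCore Mstar :=
  ⟨d.semiprime, d.exU, fun X hX hXp => ⟨(d.norm X hX hXp).1, (d.norm X hX hXp).2, d.sig X hX hXp⟩⟩

/-- a subgroup of prime order of a non-trivial subgroup -/
theorem exists_prime_le {X : Subgroup G} (hX1 : X ≠ ⊥) :
    ∃ X' : Subgroup G, X' ≤ X ∧ (Nat.card X').Prime := by
  obtain ⟨⟨y, hy⟩, hy1⟩ := (Subgroup.ne_bot_iff_exists_ne_one).mp hX1
  have hy1' : y ≠ 1 := fun h0 => hy1 (Subtype.ext h0)
  obtain ⟨r, n, hr, hyo, -⟩ := exists_prime_pow hy1'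
  refine ⟨Subgroup.zpowers (y ^ n), Subgroup.zpowers_le.mpr (X.pow_mem hy n), ?_⟩
  rw [Nat.card_zpowers, hyo]
  exact hr

/-- for a subgroup `X` of prime order of `K* = C_{M_σ}(K)`: `C_G(X) ≤ M` and every Sylow subgroup of
`M_σ` for the prime `|X|` lies in a unique maximal subgroup -/
theorem KData.l136 (hG : IsMinSimpleOddOrder G) {M K : Subgroup G} (hM : IsCoatom M)
    (d : KData M K) (hKM : K ≤ M) {X : Subgroup G}
    (hX : X ≤ sigmaCore M ⊓ Subgroup.centralizer (K : Set G)) {q : ℕ} [hq : Fact q.Prime]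
    (hXc : Nat.card X = q) :
    (Subgroup.centralizer (X : Set G) ≤ M ∧
        ∀ L : Subgroup G, IsCoatom L → Subgroup.centralizer (X : Set G) ≤ L → L = M) ∧
      ∀ S : Sylow q ↥(sigmaCore M),
        InUniqueMaximal ((S : Subgroup ↥(sigmaCore M)).map (sigmaCore M).subtype) ∧
          (S : Subgroup ↥(sigmaCore M)).map (sigmaCore M).subtype ≤ M := by
  obtain ⟨P, hPK, hPp, hPτ⟩ := d.tau1
  haveI : Fact (Nat.card P).Prime := ⟨hPp⟩
  exact lemma_13_6_of_le' hG hM hPτ (hPK.trans hKM) (isPGroup_of_card_eq rfl)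
    (ne_bot_of_card_prime hPp) (hX.trans inf_le_left)
    ((hX.trans inf_le_right).trans (Subgroup.centralizer_le hPK)) hXc

/-- if a conjugate by `g` of a non-trivial subgroup of `K*` lies in `M` then `g ∈ M` -/
theorem KData.mem_of_cj_le (hG : IsMinSimpleOddOrder G) {M K : Subgroup G} (hM : IsCoatom M)
    (d : KData M K) (hKM : K ≤ M) {X : Subgroup G}
    (hX : X ≤ sigmaCore M ⊓ Subgroup.centralizer (K : Set G)) (hX1 : X ≠ ⊥) {g : G}
    (hg : cj g X ≤ M) : g ∈ M := by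
  obtain ⟨X', hX'X, hX'p⟩ := exists_prime_le hX1
  haveI : Fact (Nat.card X').Prime := ⟨hX'p⟩
  have hX'K : X' ≤ sigmaCore M ⊓ Subgroup.centralizer (K : Set G) := hX'X.trans hX
  have hX'M : X' ≤ M := (hX'K.trans inf_le_left).trans (sigmaCore_le M)
  obtain ⟨⟨hC, -⟩, -⟩ := d.l136 hG hM hKM hX'K rfl
  have hσ : Nat.card X' ∈ sigma M :=
    (sigmaCore_hall hG hM).1.2.1 _ hX'p (Subgroup.card_dvd_of_le (hX'K.trans inf_le_left))
  obtain ⟨h04, -⟩ := Cfsg.Agent.S1404.result hG M hM (Nat.card X') hσ X' (isPGroup_of_card_eq rfl)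
    (ne_bot_of_card_prime hX'p) hX'M
  obtain ⟨m, hm, c, hc, rfl⟩ := h04 g ((cj_mono g hX'X).trans hg)
  exact M.mul_mem hm (hC hc)

/-- **B and G, Theorem 14.2(d)–(f)** from the data -/
theorem s1431_of_kdata (hG : IsMinSimpleOddOrder G) {M K : Subgroup G} (hM : IsCoatom M)
    (d : KData M K) (hKM : K ≤ M) :
    (∀ g : G, g ∉ M → (Cfsg.sigmaCore M ⊓ Subgroup.centralizer (K : Set G)) ⊓
        M.map (MulAut.conj g).toMonoidHom = ⊥) ∧
      (∀ g ∈ M, g ∉ K ⊔ (Cfsg.sigmaCore M ⊓ Subgroup.centralizer (K : Set G)) →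
        K ⊓ K.map (MulAut.conj g).toMonoidHom = ⊥) ∧
      (∀ (p : ℕ), p.Prime →
        p ∣ Nat.card ↥(Cfsg.sigmaCore M ⊓ Subgroup.centralizer (K : Set G)) →
        ∀ S : Sylow p ↥(Cfsg.sigmaCore M),
        Cfsg.InUniqueMaximal ((S : Subgroup ↥(Cfsg.sigmaCore M)).map (Cfsg.sigmaCore M).subtype) ∧
        (S : Subgroup ↥(Cfsg.sigmaCore M)).map (Cfsg.sigmaCore M).subtype ≤ M ∧
        ¬ (S : Subgroup ↥(Cfsg.sigmaCore M)).map (Cfsg.sigmaCore M).subtype ≤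
          (Cfsg.sigmaCore M ⊓ Subgroup.centralizer (K : Set G))) ∧
      ∀ Y : Subgroup G, (∀ p : ℕ, p.Prime → p ∣ Nat.card Y → p ∈ Cfsg.sigma M) →
        Y ⊓ (Cfsg.sigmaCore M ⊓ Subgroup.centralizer (K : Set G)) ≠ ⊥ → Y ≤ Cfsg.sigmaCore M := by
  refine ⟨?_, ?_, ?_, ?_⟩
  · -- (d), first part
    intro g hg
    by_contra hne
    apply hg
    have h1 : cj g⁻¹ ((sigmaCore M ⊓ Subgroup.centralizer (K : Set G)) ⊓ cj g M) ≤ M := by
      have := cj_mono g⁻¹ (inf_le_right :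
        (sigmaCore M ⊓ Subgroup.centralizer (K : Set G)) ⊓ cj g M ≤ cj g M)
      rwa [cj_inv_cj] at this
    have h2 := d.mem_of_cj_le hG hM hKM (inf_le_left :
      (sigmaCore M ⊓ Subgroup.centralizer (K : Set G)) ⊓ cj g M ≤ _) hne h1
    have := M.inv_mem h2
    rwa [inv_inv] at this
  · -- (d), second part
    intro g hgM hg
    by_contra hne
    apply hg
    obtain ⟨X, hXle, hXp⟩ := exists_prime_le hne
    have hXK : X ≤ K := hXle.trans inf_le_left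
    have h1 : cj g⁻¹ X ≤ K := by
      have := cj_mono g⁻¹ (hXle.trans inf_le_right)
      rwa [cj_inv_cj] at this
    have h2 : cj g⁻¹ X = X := d.uniq X (cj g⁻¹ X) hXK h1 hXp (card_cj _ _)
    have h3 : g⁻¹ ∈ Subgroup.normalizer (X : Set G) := mem_normalizer_iff_cj.mpr h2
    have h4 : g ∈ M ⊓ Subgroup.normalizer (X : Set G) := by
      refine ⟨hgM, ?_⟩
      have := Subgroup.inv_mem _ h3
      rwa [inv_inv] at this
    rw [(d.norm X hXK hXp).1] at h4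
    exact h4
  · -- (e)
    intro p hp hpd S
    haveI : Fact p.Prime := ⟨hp⟩
    obtain ⟨x, hx⟩ := exists_prime_orderOf_dvd_card' p hpd
    have hc : Nat.card ↥(Subgroup.zpowers (x : G)) = p := by
      rw [Nat.card_zpowers, Subgroup.orderOf_coe, hx]
    obtain ⟨-, h2⟩ := d.l136 hG hM hKM (X := Subgroup.zpowers (x : G))
      (Subgroup.zpowers_le.mpr x.2) hc
    obtain ⟨hU, hSM⟩ := h2 S
    refine ⟨hU, hSM, ?_⟩
    intro hSK
    obtain ⟨P, hPK, hPp, hPτ⟩ := d.tau1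
    haveI : Fact (Nat.card P).Prime := ⟨hPp⟩
    have hP1 : P ≠ ⊥ := ne_bot_of_card_prime hPp
    have hPM : P ≤ M := hPK.trans hKM
    have hPtop : P ≠ ⊤ := fun h => hM.1 (eq_top_iff.mpr (h ▸ hPM))
    obtain ⟨H, hH, hNH⟩ := exists_coatom_ge (normalizer_ne_top hG hP1 hPtop)
    -- `S ≤ C(K) ≤ C(P) ≤ N(P) ≤ H`
    have hSH : (S : Subgroup ↥(sigmaCore M)).map (sigmaCore M).subtype ≤ H := by
      refine (hSK.trans inf_le_right).trans ?_
      exact ((Subgroup.centralizer_le hPK).trans (Subgroup.centralizer_le_normalizer _)).trans hNH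
    obtain ⟨M', -, hM'⟩ := hU
    have hHM : H = M := (hM' H ⟨hH, hSH⟩).trans (hM' M ⟨hM, hSM⟩).symm
    rw [hHM] at hNH
    rcases lemma_12_2a hG hM (isPGroup_of_card_eq rfl) hP1 hNH with h | h
    · exact hPτ.2.1 h
    · exact h.2.2.2 hPτ.2.2.2.2
  · -- (f)
    intro Y hY hne
    have hY1 : Y ≠ ⊥ := by
      intro h0
      apply hne
      rw [h0, bot_inf_eq]
    obtain ⟨g, hg⟩ := Cfsg.Agent.S1425.result hG M hM Y hY1 hY
    have hgM : g ∈ M := d.mem_of_cj_le hG hM hKM (inf_le_right :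
      Y ⊓ (sigmaCore M ⊓ Subgroup.centralizer (K : Set G)) ≤ _) hne
      (((cj_mono g inf_le_left).trans hg).trans (sigmaCore_le M))
    intro y hy
    have h1 : g * y * g⁻¹ ∈ sigmaCore M := hg ⟨y, hy, rfl⟩
    have h2 := (Subgroup.mem_normalizer_iff.mp (le_normalizer_sigmaCore M (M.inv_mem hgM))
      (g * y * g⁻¹)).mp h1
    have e1 : g⁻¹ * (g * y * g⁻¹) * g⁻¹⁻¹ = y := by group
    rwa [e1] at h2

end Cfsg.Agent.Lib.Helper2.BG14z
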