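import Mathlib
import Cfsg.Agent.Lib.Helper2.BG14z8
import Cfsg.Agent.Lib.Helper5.BG144a

set_option autoImplicit false
set_option linter.style.haveILetI false
set_option linter.unusedSectionVars false
set_option maxHeartbeats 1600000

/-! B and G, Lemma 13.12 (in the form `TClaimR`) from the structure of the non-regular case
(`TPhantom`). -/

namespace Cfsg.Agent.Lib.Helper2.BG14z

open Cfsg Cfsg.Agent.Lib.Lead Cfsg.Agent.Lib.Lead.BG10 Cfsg.Agent.Lib.Helper7 Cfsg.Agent.Lib.Helper4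
open Cfsg.Agent.Lib.Helper4.BG76 Cfsg.Agent.Lib.Helper4.BG8 Cfsg.Agent.Lib.Helper4.BG9
open Cfsg.Agent.Lib.Helper4.BG7 Cfsg.Agent.Lib.Helper4.BG12 Cfsg.Agent.Lib.Helper4.BGConj
open Cfsg.Agent.Lib.Helper4.BG13 Cfsg.Agent.Lib.Lead.BG95 Cfsg.Agent.Lib.Lead.BG12q
open Cfsg.Agent.Lib.Lead.BG11 Cfsg.Agent.Lib.Lead.BG13q Cfsg.Agent.Lib.Helper4.BG18
open Cfsg.Agent.Lib.Helper2.BG12 Cfsg.Agent.Lib.Helper6 Cfsg.Agent.Lib.Helper2.BG13x
open Cfsg.Agent.Lib.Helper2.BG14y Cfsg.Agent.Lib.Helper4.BG14 Cfsg.Agent.Lib.Helper5.BG139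
open Cfsg.Agent.Lib.Helper5.BG144
open scoped commutatorElement

universe u

variable {G : Type u} [Group G] [Finite G]

/-- if `N_G(A) ≤ L` for an elementary abelian subgroup `A` of order `s ^ 2` then `s ∈ σ(L)` -/
theorem mem_sigma_of_normalizer_sq_le (hG : IsMinSimpleOddOrder G) {L : Subgroup G} (hL : IsCoatom L)
    {s : ℕ} [hs : Fact s.Prime] {A : Subgroup G} (hAe : IsElementaryAbelian s A)
    (hAc : Nat.card A = s ^ 2) (hNL : Subgroup.normalizer (A : Set G) ≤ L) : s ∈ sigma L := by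
  have hAL : A ≤ L := Subgroup.le_normalizer.trans hNL
  have hA1 : A ≠ ⊥ := by
    intro h0
    rw [h0, Subgroup.card_bot] at hAc
    have : 1 < s ^ 2 := Nat.one_lt_pow (by norm_num) hs.out.one_lt
    omega
  have hAp : IsPGroup s ↥A := isPGroup_of_elementary hAe
  rcases lemma_12_2a hG hL hAp hA1 hNL with h | h
  · exact h
  exfalso
  have h17L := Cfsg.Agent.S1417.result hG L hL s h A ⟨hAL, hAe, hAc⟩
  have hAp' : IsPGroup s ↥(A.subgroupOf L) := hAp.comap_subtype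
  obtain ⟨T, hT⟩ := hAp'.exists_le_sylow
  have hAT : A ≤ (T : Subgroup ↥L).map L.subtype := by
    intro a ha
    exact ⟨⟨a, hAL ha⟩, hT (Subgroup.mem_subgroupOf.mpr ha), rfl⟩
  obtain ⟨-, h2⟩ := h17L.2.1 T
  obtain ⟨hΩ, hNT⟩ := h2 hAT
  apply hNT
  refine le_trans ?_ hNL
  intro g hg
  rw [Subgroup.mem_normalizer_iff] at hg ⊢
  intro a
  constructor
  · intro ha
    have haT := hAT ha
    have h3 := (hg a).mp haT
    apply (hΩ _ h3).mp
    rw [conj_pow, (hΩ a haT).mpr ha]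
    group
  · intro ha
    have h3 := hAT ha
    have haT := (hg a).mpr h3
    apply (hΩ a haT).mp
    have h4 := (hΩ _ h3).mpr ha
    rw [conj_pow] at h4
    calc a ^ s = g⁻¹ * (g * a ^ s * g⁻¹) * g := by group
      _ = 1 := by rw [h4]; group

/-- **B and G, Lemma 13.12** in the form `TClaimR`, from the structure of the non-regular case -/
theorem tclaimR_of_tphantom (hG : IsMinSimpleOddOrder G) (hPh : TPhantom G) : TClaimR G := by
  intro M hM E hE p hpτ P hPE hPc hfixP s hsF hsτ A hAE hAe hAc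
  by_contra hne
  have hp : p.Prime := hpτ.1
  have hs : s.Prime := hsF.out
  haveI : Fact p.Prime := ⟨hp⟩
  -- a subgroup `X` of order `s` of `C_A(P)`
  obtain ⟨X, hXle, hXp⟩ := exists_prime_le hne
  have hXA : X ≤ A := hXle.trans inf_le_left
  have hXP : X ≤ Subgroup.centralizer (P : Set G) := hXle.trans inf_le_right
  have hXs : Nat.card X = s := by
    have h1 := Subgroup.card_dvd_of_le hXA
    rw [hAc] at h1
    exact (Nat.prime_dvd_prime_iff_eq hXp hs).mp (hXp.dvd_of_dvd_pow h1)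
  have hXE : X ≤ E := hXA.trans hAE
  have hX1 : X ≠ ⊥ := ne_bot_of_card_prime hXp
  have h28 := Cfsg.Agent.S1428.result hG M hM E hE p hpτ P hPE hPc X (le_inf hXE hXP) hXp
  have hfixX : sigmaCore M ⊓ Subgroup.centralizer (X : Set G) ≠ ⊥ := by
    intro h0
    apply hfixP
    rw [eq_bot_iff, ← h0]
    exact h28
  have h18 := Cfsg.Agent.S1418.result hG M hM E hE s hsτ A ⟨hAE, hAe, hAc⟩
  obtain ⟨hCXM, hCXuniq⟩ := h18.2.2 X hXA hXs hfixX
  have hNA : ¬ Subgroup.normalizer (A : Set G) ≤ M := h18.2.1.2.2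
  have hEN : E ≤ Subgroup.normalizer (A : Set G) := h18.1.1
  -- a maximal subgroup `L` containing `N_G(A)`
  have hA1 : A ≠ ⊥ := fun h0 => hX1 (eq_bot_iff.mpr (h0 ▸ hXA))
  have hAtop : A ≠ ⊤ := fun h => hM.1 (eq_top_iff.mpr (h ▸ hAE.trans hE.1))
  obtain ⟨L, hL, hNL⟩ := exists_coatom_ge (normalizer_ne_top hG hA1 hAtop)
  have hLM : L ≠ M := fun h => hNA (h ▸ hNL)
  have hAL : A ≤ L := Subgroup.le_normalizer.trans hNL
  have h17 := Cfsg.Agent.S1417.result hG M hM s hsτ A ⟨hAE.trans hE.1, hAe, hAc⟩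
  have hMσL : sigmaCore M ⊓ L = ⊥ := h17.2.2.2.2.1 L hL hLM hAL
  have hsσL : s ∈ sigma L := mem_sigma_of_normalizer_sq_le hG hL hAe hAc hNL
  have hXLσ : X ≤ sigmaCore L := by
    apply le_sigmaCore_of_piNum hG hL (hXA.trans hAL)
    intro r hr hd
    rw [hXs] at hd
    rw [(Nat.prime_dvd_prime_iff_eq hr hs).mp hd]
    exact hsσL
  -- a maximal subgroup `H` containing `N_G(P)`
  have hP1 : P ≠ ⊥ := ne_bot_of_card_prime (hPc ▸ hp)
  have hPM : P ≤ M := hPE.trans hE.1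
  have hPtop : P ≠ ⊤ := fun h => hM.1 (eq_top_iff.mpr (h ▸ hPM))
  have hPp : IsPGroup p ↥P := isPGroup_of_card_eq hPc
  obtain ⟨H, hH, hNH⟩ := exists_coatom_ge (normalizer_ne_top hG hP1 hPtop)
  have hpσH : p ∈ sigma H := mem_sigma_of_tau1_fixed' hG hM hH hpτ hPM hPc hfixP hNH
  have hHL : H ≠ L := by
    intro h
    apply hfixP
    rw [eq_bot_iff, ← hMσL]
    apply le_inf inf_le_left
    refine inf_le_right.trans ?_
    exact (Subgroup.centralizer_le_normalizer _).trans (h ▸ hNH)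
  have hPL : P ≤ L := hPE.trans (hEN.trans hNL)
  have hpL : p ∣ Nat.card L := by
    rw [← hPc]
    exact Subgroup.card_dvd_of_le hPL
  have hfixPL : sigmaCore L ⊓ Subgroup.centralizer (P : Set G) ≠ ⊥ := by
    intro h0
    apply hX1
    rw [eq_bot_iff, ← h0]
    exact le_inf hXLσ hXP
  rcases sigma_or_tau hG hL hpL with h | h | h | h
  · -- `p ∈ σ(L)`
    obtain ⟨-, hτ2, -⟩ := complIn_of_normalizer_le hG hL hH hHL h hPp hP1 hPL hNH
    exact hτ2.2.1 hpσH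
  · -- `p ∈ τ₁(L)`
    obtain ⟨hC, -⟩ := lemma_13_6_of_le hG hL h hPL hPp hP1 hXLσ hXP hXs
    exact hLM (hCXuniq L hL hC)
  · -- `p ∈ τ₂(L)`
    have hcop : (Nat.card P).Coprime (Nat.card (sigmaCore L)) := by
      rw [hPc, Nat.Prime.coprime_iff_not_dvd hp]
      intro hd
      exact h.2.1 ((sigmaCore_hall hG hL).1.2.1 p hp hd)
    obtain ⟨EL, hEL, hPEL⟩ := exists_complIn_ge hG hL hPL hcop
    obtain ⟨AL, hALE, hALe, hALc⟩ := exists_sq_le_compl hG hL hEL h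
    have h18L := Cfsg.Agent.S1418.result hG L hL EL hEL p h AL ⟨hALE, hALe, hALc⟩
    have hPAL : P ≤ AL := h18L.1.2 P hPEL hPc
    obtain ⟨-, huniq⟩ := h18L.2.2 P hPAL hPc hfixPL
    exact hHL (huniq H hH ((Subgroup.centralizer_le_normalizer _).trans hNH))
  · -- `p ∈ τ₃(L)`
    have hcop : (Nat.card P).Coprime (Nat.card (sigmaCore L)) := by
      rw [hPc, Nat.Prime.coprime_iff_not_dvd hp]
      intro hd
      exact h.2.1 ((sigmaCore_hall hG hL).1.2.1 p hp hd)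
    obtain ⟨EL, hEL, hPEL⟩ := exists_complIn_ge hG hL hPL hcop
    have hsolvEL : Group.IsSolvable ↥EL :=
      solvable_of_ne_top hG (ne_top_of_le_ne_top hL.1 hEL.1)
    obtain ⟨E₃, hE₃, hPE₃⟩ := exists_piHallOf_ge hsolvEL (tau3 L) hPEL
      (fun r hr hd => by
        rw [prime_eq_of_dvd_card hPp hr hd]
        exact h)
    obtain ⟨E₁, hE₁, -⟩ := exists_piHallOf_ge hsolvEL (tau1 L) (bot_le : (⊥ : Subgroup G) ≤ EL)
      (fun q hq hd => by
        rw [Subgroup.card_bot] at hd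
        exact absurd (Nat.dvd_one.mp hd) hq.one_lt.ne')
    obtain ⟨⟨x, hx⟩, hx1⟩ := (Subgroup.ne_bot_iff_exists_ne_one).mp hP1
    have hx1' : x ≠ 1 := fun h0 => hx1 (Subtype.ext h0)
    have hCP : Subgroup.centralizer (P : Set G) = Subgroup.centralizer ({x} : Set G) :=
      centralizer_eq_of_card_prime (hPc ▸ hp) hx hx1'
    have hfixx : sigmaCore L ⊓ Subgroup.centralizer ({x} : Set G) ≠ ⊥ := by
      rw [← hCP]
      exact hfixPL
    obtain ⟨hE₁1, hp1, -, -⟩ := hPh L hL EL E₁ E₃ hEL hE₁ hE₃ ⟨x, hPE₃ hx, hx1', hfixx⟩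
    obtain ⟨P₁, hP₁E₁, hP₁p⟩ := exists_prime_le hE₁1
    haveI : Fact (Nat.card P₁).Prime := ⟨hP₁p⟩
    have hp₁τ : Nat.card P₁ ∈ tau1 L := hE₁.2.1 _ hP₁p (Subgroup.card_dvd_of_le hP₁E₁)
    have hP₁1 : P₁ ≠ ⊥ := ne_bot_of_card_prime hP₁p
    obtain ⟨⟨y, hy⟩, hy1⟩ := (Subgroup.ne_bot_iff_exists_ne_one).mp hP₁1
    have hy1' : y ≠ 1 := fun h0 => hy1 (Subtype.ext h0)
    have hsp := tau3_semiprime hG hL hEL hE₃ x (hPE₃ hx) hx1'
    have hXP₁ : X ≤ Subgroup.centralizer (P₁ : Set G) := by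
      rw [centralizer_eq_of_card_prime hP₁p hy hy1']
      have h5 : X ≤ sigmaCore L ⊓ Subgroup.centralizer ({y} : Set G) := by
        rw [hp1 y (hP₁E₁ hy) hy1', ← hsp, ← hCP]
        exact le_inf hXLσ hXP
      exact h5.trans inf_le_right
    obtain ⟨hC, -⟩ := lemma_13_6_of_le hG hL hp₁τ ((hP₁E₁.trans hE₁.1).trans hEL.1)
      (isPGroup_of_card_eq rfl) hP₁1 hXLσ hXP₁ hXs
    exact hLM (hCXuniq L hL hC)

end Cfsg.Agent.Lib.Helper2.BG14z
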