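import Mathlib
import Cfsg.Agent.Lib.Helper2.BG14z9
import Cfsg.Agent.Lib.Helper4.BG20i

set_option autoImplicit false
set_option linter.style.haveILetI false
set_option linter.unusedSectionVars false
set_option maxHeartbeats 1600000

/-! B and G, Lemmas 13.10–13.11: in a good triple `(M, R, H)` in which the subgroups of prime order
of `E₁` centralize `R`, the group `E₁` has the same fixed points on `M_σ` as `E₃`. -/

namespace Cfsg.Agent.Lib.Helper2.BG14w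

open Cfsg Cfsg.Agent.Lib.Lead Cfsg.Agent.Lib.Lead.BG10 Cfsg.Agent.Lib.Helper7 Cfsg.Agent.Lib.Helper4
open Cfsg.Agent.Lib.Helper4.BG76 Cfsg.Agent.Lib.Helper4.BG8 Cfsg.Agent.Lib.Helper4.BG9
open Cfsg.Agent.Lib.Helper4.BG7 Cfsg.Agent.Lib.Helper4.BG12 Cfsg.Agent.Lib.Helper4.BGConj
open Cfsg.Agent.Lib.Helper4.BG13 Cfsg.Agent.Lib.Lead.BG95 Cfsg.Agent.Lib.Lead.BG12q
open Cfsg.Agent.Lib.Lead.BG11 Cfsg.Agent.Lib.Lead.BG13q Cfsg.Agent.Lib.Helper4.BG18
open Cfsg.Agent.Lib.Helper2.BG12 Cfsg.Agent.Lib.Helper6 Cfsg.Agent.Lib.Helper2.BG13x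
open Cfsg.Agent.Lib.Helper2.BG14y Cfsg.Agent.Lib.Helper4.BG14 Cfsg.Agent.Lib.Helper5.BG139
open Cfsg.Agent.Lib.Helper5.BG144 Cfsg.Agent.Lib.Helper2.BG14z Cfsg.Agent.Lib.Helper4.BG20
open scoped commutatorElement

universe u

variable {G : Type u} [Group G] [Finite G]

/-- when `τ₂(M) = ∅`, the primes of a complement lie in `τ₁(M)` or `τ₃(M)` -/
theorem tau13_of_tau2_empty (hG : IsMinSimpleOddOrder G) {M E : Subgroup G} (hM : IsCoatom M)
    (hE : IsComplIn E (sigmaCore M) M) (hτ2 : ∀ t : ℕ, t ∉ tau2 M) {q : ℕ} (hq : q.Prime)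
    (hd : q ∣ Nat.card E) : q ∈ tau1 M ∨ q ∈ tau3 M := by
  haveI : Fact q.Prime := ⟨hq⟩
  have hqσ : q ∉ sigma M := not_sigma_of_dvd_card_compl hG hM hE hq hd
  have hqM : q ∣ Nat.card M := hd.trans (Subgroup.card_dvd_of_le hE.1)
  rcases sigma_or_tau hG hM hqM with h | h | h | h
  · exact absurd h hqσ
  · exact Or.inl h
  · exact absurd h (hτ2 q)
  · exact Or.inr h

/-- the basic facts on a subgroup `R` of prime order of `E₃` with fixed points on `M_σ` -/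
theorem basic_of_fixed (hG : IsMinSimpleOddOrder G) {M E E₁ E₃ R : Subgroup G} (hM : IsCoatom M)
    (hE : IsComplIn E (sigmaCore M) M) (hE₁ : IsPiHallOf (tau1 M) E₁ E)
    (hE₃ : IsPiHallOf (tau3 M) E₃ E) (hR : R ≤ E₃) (hRc : (Nat.card R).Prime)
    (hY : sigmaCore M ⊓ Subgroup.centralizer (R : Set G) ≠ ⊥) :
    sigmaCore M ⊓ Subgroup.centralizer (R : Set G) =
        sigmaCore M ⊓ Subgroup.centralizer (E₃ : Set G) ∧
      (∀ t : ℕ, t ∉ tau2 M) ∧ E₃ ⊔ E₁ = E ∧ E₃ ≤ Subgroup.centralizer (R : Set G) ∧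
      ¬ E₁ ≤ Subgroup.centralizer (R : Set G) ∧ E ≤ Subgroup.normalizer (R : Set G) ∧
      Nat.card R ∈ tau3 M := by
  have hR1 : R ≠ ⊥ := ne_bot_of_card_prime hRc
  obtain ⟨⟨y, hy⟩, hy1⟩ := (Subgroup.ne_bot_iff_exists_ne_one).mp hR1
  have hy1' : y ≠ 1 := fun h0 => hy1 (Subtype.ext h0)
  have hyE₃ : y ∈ E₃ := hR hy
  have hCR : Subgroup.centralizer (R : Set G) = Subgroup.centralizer ({y} : Set G) :=
    centralizer_eq_of_card_prime hRc hy hy1'
  have hsp3 := tau3_semiprime hG hM hE hE₃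
  have hYeq : sigmaCore M ⊓ Subgroup.centralizer (R : Set G) =
      sigmaCore M ⊓ Subgroup.centralizer (E₃ : Set G) := by
    rw [hCR]
    exact hsp3 y hyE₃ hy1'
  have hfy : sigmaCore M ⊓ Subgroup.centralizer ({y} : Set G) ≠ ⊥ := by
    rw [← hCR]
    exact hY
  have hτ2 : ∀ t : ℕ, t ∉ tau2 M := tau2_empty_of_tau3_fixed hG hM hE hE₃ hyE₃ hy1' hfy
  have hsup : E₃ ⊔ E₁ = E :=
    sup_eq_of_hall_hall hE₁ hE₃ (fun _ hq hd => tau13_of_tau2_empty hG hM hE hτ2 hq hd)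
  obtain ⟨-, -, h3⟩ := Cfsg.Agent.S1415.result hG M hM E hE
  obtain ⟨hcyc3, -, hEn₃⟩ := h3 E₃ hE₃
  have hnot : ¬ E ≤ Subgroup.centralizer (R : Set G) :=
    not_le_centralizer_of_tau3 hG hM hE hE₃ hR hRc rfl
  have hE₃C : E₃ ≤ Subgroup.centralizer (R : Set G) :=
    (le_centralizer_self_of_isCyclic hcyc3).trans (Subgroup.centralizer_le hR)
  refine ⟨hYeq, hτ2, hsup, hE₃C, fun h => hnot (hsup ▸ sup_le hE₃C h), ?_, ?_⟩
  · exact hEn₃.trans (normalizer_le_normalizer_of_cyclic hcyc3 hR)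
  · exact hE₃.2.1 _ hRc (Subgroup.card_dvd_of_le hR)

/-- **(P2g)**: in a good triple `(M, R, H)` in which every subgroup of prime order of `E₁`
centralizes `R`, every non-identity element of `E₁` has the fixed points `C_{M_σ}(E₃)` on `M_σ` -/
theorem p2g (hG : IsMinSimpleOddOrder G) {M E E₁ E₃ R H : Subgroup G} (g : Good M E E₁ E₃ R H)
    (hc : ∀ P : Subgroup G, P ≤ E₁ → (Nat.card P).Prime →
      R ≤ Subgroup.centralizer (P : Set G)) :
    ∀ x ∈ E₁, x ≠ 1 → sigmaCore M ⊓ Subgroup.centralizer ({x} : Set G) =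
      sigmaCore M ⊓ Subgroup.centralizer (E₃ : Set G) := by
  have hM := g.hM
  have hE := g.hE
  have hE₁ := g.hE₁
  have hE₃ := g.hE₃
  have hr : (Nat.card R).Prime := g.hRc
  haveI : Fact (Nat.card R).Prime := ⟨hr⟩
  have hR1 : R ≠ ⊥ := ne_bot_of_card_prime hr
  obtain ⟨hYeq, hτ2, hsup, hE₃C, hE₁C, hEN, hrτ⟩ := basic_of_fixed hG hM hE hE₁ hE₃ g.hR hr g.hY
  have hRM : R ≤ M := (g.hR.trans hE₃.1).trans hE.1
  -- a Sylow `l`-subgroup `L0` of `E₁` not centralizing `R`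
  have hex : ∃ l : ℕ, l.Prime ∧ ∃ L0 : Subgroup G, SylIn l E₁ L0 ∧
      ¬ L0 ≤ Subgroup.centralizer (R : Set G) := by
    by_contra hcon
    push Not at hcon
    apply hE₁C
    apply Cfsg.Agent.Lib.Helper4.BG19.le_of_forall_sylIn
    intro l hl
    haveI : Fact l.Prime := ⟨hl⟩
    obtain ⟨L0, -, hL0⟩ := exists_sylIn_ge (p := l) (bot_le : (⊥ : Subgroup G) ≤ E₁) IsPGroup.of_bot
    exact ⟨L0, hL0, hcon l hl L0 hL0⟩
  obtain ⟨l, hl, L0, hL0, hL0C⟩ := hex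
  haveI : Fact l.Prime := ⟨hl⟩
  have hL01 : L0 ≠ ⊥ := fun h => hL0C (h ▸ bot_le)
  have hld : l ∣ Nat.card L0 := dvd_card_of_ne_bot hL0.2.1 hL01
  obtain ⟨z, hz⟩ := exists_prime_orderOf_dvd_card' l hld
  have hz1 : (z : G) ≠ 1 := by
    intro h0
    have h2 : z = 1 := Subtype.ext h0
    rw [h2, orderOf_one] at hz
    exact hl.one_lt.ne hz
  have hZc : Nat.card ↥(Subgroup.zpowers (z : G)) = l := by
    rw [Nat.card_zpowers, Subgroup.orderOf_coe, hz]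
  have hZL0 : Subgroup.zpowers (z : G) ≤ L0 := Subgroup.zpowers_le.mpr z.2
  have hZE₁ : Subgroup.zpowers (z : G) ≤ E₁ := hZL0.trans hL0.1
  have hRZ : R ≤ Subgroup.centralizer ((Subgroup.zpowers (z : G) : Subgroup G) : Set G) :=
    hc _ hZE₁ (hZc ▸ hl)
  have hlτ : l ∈ tau1 M := hE₁.2.1 l hl (hld.trans (Subgroup.card_dvd_of_le hL0.1))
  have hEH : E ≤ H := hEN.trans g.hNH
  have hRHσ : R ≤ sigmaCore H := by
    apply le_sigmaCore_of_piNum hG g.hH (Subgroup.le_normalizer.trans g.hNH)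
    intro q hq hd
    rw [(Nat.prime_dvd_prime_iff_eq hq hr).mp hd]
    exact g.hσ
  -- `l ∉ τ₁(H)`
  have hlH : l ∉ tau1 H := by
    intro hτ
    have hL0H : L0 ≤ H := (hL0.1.trans hE₁.1).trans hEH
    have hcop : (Nat.card L0).Coprime (Nat.card (sigmaCore H)) := by
      apply Nat.coprime_of_dvd
      intro q hq h1 h2
      have h3 := (sigmaCore_hall hG g.hH).1.2.1 q hq h2
      rw [prime_eq_of_dvd_card hL0.2.1 hq h1] at h3
      exact hτ.2.1 h3
    obtain ⟨EH, hEH', hL0EH⟩ := exists_complIn_ge hG g.hH hL0H hcop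
    have hsolv : Group.IsSolvable ↥EH :=
      solvable_of_ne_top hG (ne_top_of_le_ne_top g.hH.1 hEH'.1)
    obtain ⟨E₁H, hE₁H, hL0E₁H⟩ := exists_piHallOf_ge hsolv (tau1 H) hL0EH
      (fun q hq hd => by
        rw [prime_eq_of_dvd_card hL0.2.1 hq hd]
        exact hτ)
    have h135 := corollary_13_5 hG g.hH hEH' hE₁H
    have h5 : R ≤ sigmaCore H ⊓ Subgroup.centralizer ({(z : G)} : Set G) := by
      apply le_inf hRHσ
      rw [← centralizer_zpowers']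
      exact hRZ
    rw [h135 (z : G) (hL0E₁H z.2) hz1] at h5
    apply hL0C
    rw [Subgroup.le_centralizer_iff]
    exact (h5.trans inf_le_right).trans (Subgroup.centralizer_le hL0E₁H)
  -- `Z` centralizes `M_σ ∩ H = C_{M_σ}(R)`
  obtain ⟨-, -, -, h4, -, h6⟩ := corollary_13_2 hG hM g.hH (Or.inr hrτ) hRM
    (isPGroup_of_card_eq rfl) hR1 g.hNH
  have hZE : Subgroup.zpowers (z : G) ≤ E := hZE₁.trans hE₁.1
  have hYZ : sigmaCore M ⊓ H ≤
      Subgroup.centralizer ((Subgroup.zpowers (z : G) : Subgroup G) : Set G) := by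
    apply h4 _ (le_inf (hZE.trans hE.1) (hZE.trans hEH))
    intro q hq hd
    rw [hZc] at hd
    rw [(Nat.prime_dvd_prime_iff_eq hq hl).mp hd]
    exact ⟨hlτ.2.1, hlH⟩
  have h28 := Cfsg.Agent.S1428.result hG M hM E hE l hlτ _ hZE hZc R
    (le_inf (g.hR.trans hE₃.1) hRZ) hr
  have hZY : sigmaCore M ⊓
      Subgroup.centralizer ((Subgroup.zpowers (z : G) : Subgroup G) : Set G) =
      sigmaCore M ⊓ Subgroup.centralizer (R : Set G) := by
    apply le_antisymm h28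
    apply le_inf inf_le_left
    rw [← h6]
    exact hYZ
  have h135 := corollary_13_5 hG hM hE hE₁
  intro x hx hx1
  rw [h135 x hx hx1, ← h135 (z : G) (hZE₁ (Subgroup.mem_zpowers _)) hz1, ← centralizer_zpowers',
    hZY, hYeq]

end Cfsg.Agent.Lib.Helper2.BG14w
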