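import Mathlib
import Cfsg.Agent.Lib.Helper2.BG14w1

set_option autoImplicit false
set_option linter.style.haveILetI false
set_option linter.unusedSectionVars false
set_option maxHeartbeats 3200000

/-! B and G, Lemmas 13.10–13.11: every triple `(M, R, H)` is good. -/

namespace Cfsg.Agent.Lib.Helper2.BG14w

open Cfsg Cfsg.Agent.Lib.Lead Cfsg.Agent.Lib.Lead.BG10 Cfsg.Agent.Lib.Helper7 Cfsg.Agent.Lib.Helper4
open Cfsg.Agent.Lib.Helper4.BG76 Cfsg.Agent.Lib.Helper4.BG8 Cfsg.Agent.Lib.Helper4.BG9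
open Cfsg.Agent.Lib.Helper4.BG7 Cfsg.Agent.Lib.Helper4.BG12 Cfsg.Agent.Lib.Helper4.BGConj
open Cfsg.Agent.Lib.Helper4.BG13 Cfsg.Agent.Lib.Lead.BG95 Cfsg.Agent.Lib.Lead.BG12q
open Cfsg.Agent.Lib.Lead.BG11 Cfsg.Agent.Lib.Lead.BG13q Cfsg.Agent.Lib.Helper4.BG18
open Cfsg.Agent.Lib.Helper2.BG12 Cfsg.Agent.Lib.Helper6 Cfsg.Agent.Lib.Helper2.BG13x
open Cfsg.Agent.Lib.Helper2.BG14y Cfsg.Agent.Lib.Helper4.BG14 Cfsg.Agent.Lib.Helper5.BG139
open Cfsg.Agent.Lib.Helper5.BG144 Cfsg.Agent.Lib.Helper2.BG14z Cfsg.Agent.Lib.Helper4.BG20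
open scoped commutatorElement

universe u

variable {G : Type u} [Group G] [Finite G]

/-- **(P0) and (G)**: for a subgroup `R` of prime order `r` of `E₃` with `C_{M_σ}(R) ≠ 1` and a
maximal subgroup `H` containing `N_G(R)`: `r ∈ σ(H)` -/
theorem good_of_tp1 (hG : IsMinSimpleOddOrder G) (h1 : TP1 G) {M E E₁ E₃ R H : Subgroup G}
    (hM : IsCoatom M) (hE : IsComplIn E (sigmaCore M) M) (hE₁ : IsPiHallOf (tau1 M) E₁ E)
    (hE₃ : IsPiHallOf (tau3 M) E₃ E) (hR : R ≤ E₃) (hr : (Nat.card R).Prime)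
    (hY : sigmaCore M ⊓ Subgroup.centralizer (R : Set G) ≠ ⊥) (hH : IsCoatom H)
    (hNH : Subgroup.normalizer (R : Set G) ≤ H) : Nat.card R ∈ sigma H := by
  by_contra hnσ
  haveI : Fact (Nat.card R).Prime := ⟨hr⟩
  have hR1 : R ≠ ⊥ := ne_bot_of_card_prime hr
  obtain ⟨hYeq, hτ2, hsup, hE₃C, hE₁C, hEN, hrτ⟩ := basic_of_fixed hG hM hE hE₁ hE₃ hR hr hY
  have hRE : R ≤ E := hR.trans hE₃.1
  have hRM : R ≤ M := hRE.trans hE.1
  have hRH : R ≤ H := Subgroup.le_normalizer.trans hNH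
  obtain ⟨hnc, hστ, -, -, h5, h6⟩ := corollary_13_2 hG hM hH (Or.inr hrτ) hRM
    (isPGroup_of_card_eq rfl) hR1 hNH
  have hrτ2 : Nat.card R ∈ tau2 H := hστ.resolve_left hnσ
  have hcomm : ⁅sigmaCore M ⊓ H, M ⊓ H⁆ = ⊥ := by
    by_contra h
    exact hnσ (h5 h).1
  have hEH : E ≤ H := hEN.trans hNH
  -- `E` centralizes `M_σ ∩ H`
  have hYE : sigmaCore M ⊓ H ≤ Subgroup.centralizer (E : Set G) := by
    intro y hy
    rw [Subgroup.mem_centralizer_iff]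
    intro e he
    have h0 : ⁅y, e⁆ ∈ ⁅sigmaCore M ⊓ H, M ⊓ H⁆ :=
      Subgroup.commutator_mem_commutator hy ⟨hE.1 he, hEH he⟩
    rw [hcomm, Subgroup.mem_bot] at h0
    exact (commutatorElement_eq_one_iff_mul_comm.mp h0).symm
  -- a subgroup of prime order of `E₁`
  have hE₁1 : E₁ ≠ ⊥ := fun h => hE₁C (h ▸ bot_le)
  obtain ⟨P, hPE₁, hPp⟩ := exists_prime_le hE₁1
  haveI : Fact (Nat.card P).Prime := ⟨hPp⟩
  have hpτ : Nat.card P ∈ tau1 M := hE₁.2.1 _ hPp (Subgroup.card_dvd_of_le hPE₁)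
  have hPE : P ≤ E := hPE₁.trans hE₁.1
  -- a subgroup `X` of prime order `t` of `M_σ ∩ H`
  have hY' : sigmaCore M ⊓ H ≠ ⊥ := by
    rw [h6]
    exact hY
  obtain ⟨X, hXY, hXp⟩ := exists_prime_le hY'
  haveI : Fact (Nat.card X).Prime := ⟨hXp⟩
  have hX1 : X ≠ ⊥ := ne_bot_of_card_prime hXp
  have hXMσ : X ≤ sigmaCore M := hXY.trans inf_le_left
  have hXH : X ≤ H := hXY.trans inf_le_right
  have hXE : X ≤ Subgroup.centralizer (E : Set G) := hXY.trans hYE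
  have hXP : X ≤ Subgroup.centralizer (P : Set G) := hXE.trans (Subgroup.centralizer_le hPE)
  have hXR : X ≤ Subgroup.centralizer (R : Set G) := hXE.trans (Subgroup.centralizer_le hRE)
  have hRX : R ≤ Subgroup.centralizer (X : Set G) := Subgroup.le_centralizer_iff.mp hXR
  have htσM : Nat.card X ∈ sigma M :=
    (sigmaCore_hall hG hM).1.2.1 _ hXp (Subgroup.card_dvd_of_le hXMσ)
  obtain ⟨hCXM, hCXu⟩ := lemma_13_6_of_le hG hM hpτ (hPE.trans hE.1) (isPGroup_of_card_eq rfl)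
    (ne_bot_of_card_prime hPp) hXMσ hXP rfl
  have htσH : Nat.card X ∉ sigma H := by
    intro h
    obtain ⟨g, hg⟩ := sigma_partition hG hM hH htσM h
    exact hnc g hg
  -- a complement `E_H` of `H_σ` in `H` containing `X R`
  have hXRH : X ⊔ R ≤ H := sup_le hXH hRH
  have hcop : (Nat.card ↥(X ⊔ R)).Coprime (Nat.card (sigmaCore H)) := by
    apply Nat.coprime_of_dvd
    intro q hq h1 h2
    have hqσ := (sigmaCore_hall hG hH).1.2.1 q hq h2
    have h3 : Nat.card ↥(X ⊔ R) ∣ Nat.card X * Nat.card R :=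
      Dvd.intro _ (card_sup_mul_card_inf X R
        (hXR.trans (Subgroup.centralizer_le_normalizer _)))
    rcases (Nat.Prime.dvd_mul hq).mp (h1.trans h3) with h | h
    · rw [(Nat.prime_dvd_prime_iff_eq hq hXp).mp h] at hqσ
      exact htσH hqσ
    · rw [(Nat.prime_dvd_prime_iff_eq hq hr).mp h] at hqσ
      exact hnσ hqσ
  obtain ⟨EH, hEH', hXREH⟩ := exists_complIn_ge hG hH hXRH hcop
  obtain ⟨AH, hAHE, hAHe, hAHc⟩ := exists_sq_le_compl hG hH hEH' hrτ2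
  have h18 := Cfsg.Agent.S1418.result hG H hH EH hEH' (Nat.card R) hrτ2 AH ⟨hAHE, hAHe, hAHc⟩
  have hRAH : R ≤ AH := h18.1.2 R (le_sup_right.trans hXREH) rfl
  have hEHN : EH ≤ Subgroup.normalizer (AH : Set G) := h18.1.1
  have hNAH : ¬ Subgroup.normalizer (AH : Set G) ≤ H := h18.2.1.2.2
  -- a maximal subgroup `L` containing `N_G(A_H)`
  have hAH1 : AH ≠ ⊥ := fun h0 => hR1 (eq_bot_iff.mpr (h0 ▸ hRAH))
  have hAHtop : AH ≠ ⊤ := fun h => hH.1 (eq_top_iff.mpr (h ▸ hAHE.trans hEH'.1))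
  obtain ⟨L, hL, hNL⟩ := exists_coatom_ge (normalizer_ne_top hG hAH1 hAHtop)
  have hLH : L ≠ H := fun h => hNAH (h ▸ hNL)
  have hrσL : Nat.card R ∈ sigma L := mem_sigma_of_normalizer_sq_le hG hL hAHe hAHc hNL
  have hRL : R ≤ L := hRAH.trans (Subgroup.le_normalizer.trans hNL)
  have hRLσ : R ≤ sigmaCore L := by
    apply le_sigmaCore_of_piNum hG hL hRL
    intro q hq hd
    rw [(Nat.prime_dvd_prime_iff_eq hq hr).mp hd]
    exact hrσL
  have hXL : X ≤ L := (le_sup_left.trans hXREH).trans (hEHN.trans hNL)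
  have htσL : Nat.card X ∉ sigma L := by
    intro h
    obtain ⟨g, hg⟩ := sigma_partition hG hM hL htσM h
    rw [hg, sigma_cj] at hrσL
    exact hrτ.2.1 hrσL
  have htL : Nat.card X ∣ Nat.card L := Subgroup.card_dvd_of_le hXL
  have hfixXL : sigmaCore L ⊓ Subgroup.centralizer (X : Set G) ≠ ⊥ := by
    intro h0
    apply hR1
    rw [eq_bot_iff, ← h0]
    exact le_inf hRLσ hRX
  have hCRH : Subgroup.centralizer (R : Set G) ≤ H :=
    (Subgroup.centralizer_le_normalizer _).trans hNH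
  have hXtop : X ≠ ⊤ := fun h => hM.1 (eq_top_iff.mpr (h ▸ hXMσ.trans (sigmaCore_le M)))
  -- a complement of `L_σ` in `L` containing `X`
  have hcopL : (Nat.card X).Coprime (Nat.card (sigmaCore L)) := by
    rw [Nat.Prime.coprime_iff_not_dvd hXp]
    intro hd
    exact htσL ((sigmaCore_hall hG hL).1.2.1 _ hXp hd)
  obtain ⟨EL, hEL, hXEL⟩ := exists_complIn_ge hG hL hXL hcopL
  have hsolvEL : Group.IsSolvable ↥EL := solvable_of_ne_top hG (ne_top_of_le_ne_top hL.1 hEL.1)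
  rcases sigma_or_tau hG hL htL with h | h | h | h
  · exact htσL h
  · -- `t ∈ τ₁(L)`
    obtain ⟨-, hu⟩ := lemma_13_6_of_le hG hL h hXL (isPGroup_of_card_eq rfl) hX1 hRLσ hRX rfl
    exact hLH.symm (hu H hH hCRH)
  · -- `t ∈ τ₂(L)`
    obtain ⟨⟨x, hx⟩, hx1⟩ := (Subgroup.ne_bot_iff_exists_ne_one).mp hX1
    have hx1' : x ≠ 1 := fun h0 => hx1 (Subtype.ext h0)
    obtain ⟨⟨y, hy⟩, hy1⟩ := (Subgroup.ne_bot_iff_exists_ne_one).mp hR1
    have hy1' : y ≠ 1 := fun h0 => hy1 (Subtype.ext h0)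
    have hox : orderOf x ∣ Nat.card X := orderOf_dvd_card_of_mem hx
    have hσhat : x ∈ sigmaHat L := by
      refine ⟨hXL hx, y, hRLσ hy, hy1', ?_⟩
      exact (Subgroup.mem_centralizer_iff.mp (hXR hx) y hy).symm
    obtain ⟨-, hu⟩ := (Cfsg.Agent.S1420.result hG L hL EL hEL).2.2.2 x (hXL hx) hx1'
      (fun q hq hd => by
        rw [(Nat.prime_dvd_prime_iff_eq hq hXp).mp (hd.trans hox)]
        exact h) hσhat
    have hML : M = L := hu M hM (by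
      rw [← centralizer_eq_of_card_prime hXp hx hx1']
      exact hCXM)
    rw [← hML] at hrσL
    exact hrτ.2.1 hrσL
  · -- `t ∈ τ₃(L)`: `(L, X, M)` is a good triple
    obtain ⟨E₃L, hE₃L, hXE₃L⟩ := exists_piHallOf_ge hsolvEL (tau3 L) hXEL
      (fun q hq hd => by
        rw [(Nat.prime_dvd_prime_iff_eq hq hXp).mp hd]
        exact h)
    obtain ⟨E₁L, hE₁L, -⟩ := exists_piHallOf_ge hsolvEL (tau1 L) (bot_le : (⊥ : Subgroup G) ≤ EL)
      (fun q hq hd => by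
        rw [Subgroup.card_bot] at hd
        exact absurd (Nat.dvd_one.mp hd) hq.one_lt.ne')
    have hNXM : Subgroup.normalizer (X : Set G) ≤ M := normalizer_le_of_unique hG hX1 hXtop hCXu
    have gd : Good L EL E₁L E₃L X M :=
      ⟨hL, hEL, hE₁L, hE₃L, hXE₃L, hXp, hfixXL, hM, hNXM, htσM⟩
    have hc := h1 L EL E₁L E₃L X M gd
    have hp2 := p2g hG gd hc
    obtain ⟨hYeqL, -, -, -, hE₁LC, -, -⟩ :=
      basic_of_fixed hG hL hEL hE₁L hE₃L hXE₃L hXp hfixXL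
    have hE₁L1 : E₁L ≠ ⊥ := fun h => hE₁LC (h ▸ bot_le)
    obtain ⟨PL, hPLE₁, hPLp⟩ := exists_prime_le hE₁L1
    haveI : Fact (Nat.card PL).Prime := ⟨hPLp⟩
    have hPL1 : PL ≠ ⊥ := ne_bot_of_card_prime hPLp
    obtain ⟨⟨w, hw⟩, hw1⟩ := (Subgroup.ne_bot_iff_exists_ne_one).mp hPL1
    have hw1' : w ≠ 1 := fun h0 => hw1 (Subtype.ext h0)
    have h7 : R ≤ sigmaCore L ⊓ Subgroup.centralizer ({w} : Set G) := by
      rw [hp2 w (hPLE₁ hw) hw1', ← hYeqL]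
      exact le_inf hRLσ hRX
    have hRPL : R ≤ Subgroup.centralizer (PL : Set G) := by
      rw [centralizer_eq_of_card_prime hPLp hw hw1']
      exact h7.trans inf_le_right
    obtain ⟨-, hu⟩ := lemma_13_6_of_le hG hL (hE₁L.2.1 _ hPLp (Subgroup.card_dvd_of_le hPLE₁))
      ((hPLE₁.trans hE₁L.1).trans hEL.1) (isPGroup_of_card_eq rfl) hPL1 hRLσ hRPL rfl
    exact hLH.symm (hu H hH hCRH)

end Cfsg.Agent.Lib.Helper2.BG14w
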