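import Mathlib
import Cfsg.Agent.Lib.Helper2.BG14w2

set_option autoImplicit false
set_option linter.style.haveILetI false
set_option linter.unusedSectionVars false
set_option maxHeartbeats 1600000

/-! B and G, Lemmas 13.10–13.11: the structure of a maximal subgroup whose Hall `τ₃`-subgroup does
not act regularly on `M_σ`, relative to `TP1`. -/

namespace Cfsg.Agent.Lib.Helper2.BG14w

open Cfsg Cfsg.Agent.Lib.Lead Cfsg.Agent.Lib.Lead.BG10 Cfsg.Agent.Lib.Helper7 Cfsg.Agent.Lib.Helper4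
open Cfsg.Agent.Lib.Helper4.BG76 Cfsg.Agent.Lib.Helper4.BG8 Cfsg.Agent.Lib.Helper4.BG9
open Cfsg.Agent.Lib.Helper4.BG7 Cfsg.Agent.Lib.Helper4.BG12 Cfsg.Agent.Lib.Helper4.BGConj
open Cfsg.Agent.Lib.Helper4.BG13 Cfsg.Agent.Lib.Lead.BG95 Cfsg.Agent.Lib.Lead.BG12q
open Cfsg.Agent.Lib.Lead.BG11 Cfsg.Agent.Lib.Lead.BG13q Cfsg.Agent.Lib.Helper4.BG18
open Cfsg.Agent.Lib.Helper2.BG12 Cfsg.Agent.Lib.Helper6 Cfsg.Agent.Lib.Helper2.BG13x
open Cfsg.Agent.Lib.Helper2.BG14y Cfsg.Agent.Lib.Helper4.BG14 Cfsg.Agent.Lib.Helper5.BG139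
open Cfsg.Agent.Lib.Helper5.BG144 Cfsg.Agent.Lib.Helper2.BG14z Cfsg.Agent.Lib.Helper4.BG20
open scoped commutatorElement

universe u

variable {G : Type u} [Group G] [Finite G]

/-- **B and G, Lemmas 13.10–13.11**, relative to `TP1` -/
theorem tphantom_of_tp1 (hG : IsMinSimpleOddOrder G) (h1 : TP1 G) : TPhantom G := by
  rintro M hM E E₁ E₃ hE hE₁ hE₃ ⟨x, hx, hx1, hfx⟩
  have hsp3 := tau3_semiprime hG hM hE hE₃
  obtain ⟨-, -, h3⟩ := Cfsg.Agent.S1415.result hG M hM E hE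
  obtain ⟨hcyc3, -, hEn₃⟩ := h3 E₃ hE₃
  -- fixed points of the subgroups of prime order of `E₃`
  have hfixR : ∀ R : Subgroup G, R ≤ E₃ → (Nat.card R).Prime →
      sigmaCore M ⊓ Subgroup.centralizer (R : Set G) ≠ ⊥ := by
    intro R hR hr
    have hR1 : R ≠ ⊥ := ne_bot_of_card_prime hr
    obtain ⟨⟨y, hy⟩, hy1⟩ := (Subgroup.ne_bot_iff_exists_ne_one).mp hR1
    have hy1' : y ≠ 1 := fun h0 => hy1 (Subtype.ext h0)
    rw [centralizer_eq_of_card_prime hr hy hy1', hsp3 y (hR hy) hy1', ← hsp3 x hx hx1]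
    exact hfx
  have hgood : ∀ R : Subgroup G, R ≤ E₃ → (Nat.card R).Prime → ∀ H : Subgroup G, IsCoatom H →
      Subgroup.normalizer (R : Set G) ≤ H → Nat.card R ∈ sigma H :=
    fun R hR hr H hH hNH => good_of_tp1 hG h1 hM hE hE₁ hE₃ hR hr (hfixR R hR hr) hH hNH
  have hE₃M : E₃ ≤ M := hE₃.1.trans hE.1
  -- a good triple for every subgroup of prime order of `E₃`
  have hgd : ∀ R : Subgroup G, R ≤ E₃ → (Nat.card R).Prime →
      ∃ H : Subgroup G, Good M E E₁ E₃ R H := by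
    intro R hR hr
    have hR1 : R ≠ ⊥ := ne_bot_of_card_prime hr
    have hRtop : R ≠ ⊤ := fun h => hM.1 (eq_top_iff.mpr (h ▸ hR.trans hE₃M))
    obtain ⟨H, hH, hNH⟩ := exists_coatom_ge (normalizer_ne_top hG hR1 hRtop)
    exact ⟨H, hM, hE, hE₁, hE₃, hR, hr, hfixR R hR hr, hH, hNH, hgood R hR hr H hH hNH⟩
  have hE₃1 : E₃ ≠ ⊥ := fun h => hx1 (by rw [h, Subgroup.mem_bot] at hx; exact hx)
  obtain ⟨R₀, hR₀, hr₀⟩ := exists_prime_le hE₃1
  obtain ⟨-, -, -, -, hE₁C, -, -⟩ := basic_of_fixed hG hM hE hE₁ hE₃ hR₀ hr₀ (hfixR R₀ hR₀ hr₀)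
  -- the subgroups of prime order of `E₁` centralize `E₃`
  have hc3 : ∀ P : Subgroup G, P ≤ E₁ → (Nat.card P).Prime →
      E₃ ≤ Subgroup.centralizer (P : Set G) := by
    intro P hP hPp
    apply Cfsg.Agent.Lib.Helper4.BG19.le_of_forall_sylIn
    intro t ht
    haveI : Fact t.Prime := ⟨ht⟩
    obtain ⟨T, -, hT⟩ := exists_sylIn_ge (p := t) (bot_le : (⊥ : Subgroup G) ≤ E₃) IsPGroup.of_bot
    refine ⟨T, hT, ?_⟩
    by_cases hT1 : T = ⊥
    · rw [hT1]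
      exact bot_le
    · obtain ⟨R, hRT, hr⟩ := exists_prime_le hT1
      have hRE₃ : R ≤ E₃ := hRT.trans hT.1
      obtain ⟨H, gd⟩ := hgd R hRE₃ hr
      have hRP : R ≤ Subgroup.centralizer (P : Set G) := h1 M E E₁ E₃ R H gd P hP hPp
      have hTc : IsCyclic ↥T := isCyclic_of_le_cyclic hT.1 hcyc3
      have hPT : P ≤ Subgroup.normalizer (T : Set G) :=
        (hP.trans hE₁.1).trans (hEn₃.trans (normalizer_le_normalizer_of_cyclic hcyc3 hT.1))
      have hcop : (Nat.card P).Coprime (Nat.card T) := by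
        apply Nat.coprime_of_dvd
        intro q hq h4 h5
        have h6 : q ∈ tau1 M := hE₁.2.1 q hq (h4.trans (Subgroup.card_dvd_of_le hP))
        have h7 : q ∈ tau3 M := hE₃.2.1 q hq (h5.trans (Subgroup.card_dvd_of_le hT.1))
        exact h6.2.2.2.1 h7.2.2.1
      have hfix : T ⊓ Subgroup.centralizer (P : Set G) ≠ ⊥ := by
        intro h0
        apply ne_bot_of_card_prime hr
        rw [eq_bot_iff, ← h0]
        exact le_inf hRT hRP
      exact le_centralizer_of_cyclic_of_fixed hT.2.1 hTc hPT hcop hfix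
  refine ⟨fun h => hE₁C (h ▸ bot_le), ?_, hc3, hgood⟩
  obtain ⟨H₀, gd₀⟩ := hgd R₀ hR₀ hr₀
  exact p2g hG gd₀ (fun P hP hPp => hR₀.trans (hc3 P hP hPp))

end Cfsg.Agent.Lib.Helper2.BG14w
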