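import Mathlib
import Cfsg.Agent.Lib.Helper2.BG14w3
import Cfsg.Agent.Lib.Helper5.BG143a

set_option autoImplicit false
set_option linter.style.haveILetI false
set_option linter.unusedSectionVars false
set_option maxHeartbeats 800000

/-! Consequences of B and G, Theorem 14.2 for a pair `M`, `M*` of maximal subgroups with
`K = C_{M*_σ}(K*)` and `K*` a Hall `κ(M*)`-subgroup of `M*`. -/

namespace Cfsg.Agent.Lib.Helper2.BG14v

open Cfsg Cfsg.Agent.Lib.Helper2.BG14z Cfsg.Agent.Lib.Helper5.BG143

universe u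

variable {G : Type u} [Group G] [Finite G]

/-- the statement of S1367 from `KData` -/
theorem s1367_of_kdata (hG : IsMinSimpleOddOrder G) (hkd : TKData G) {M K U : Subgroup G}
    (hM : IsCoatom M) (hKU : IsSigmaDecomposition M K U) (hK1 : K ≠ ⊥) {Mstar : Subgroup G}
    (hMstar : IsCoatom Mstar)
    (hKst : K = sigmaCore Mstar ⊓ Subgroup.centralizer
      ((sigmaCore M ⊓ Subgroup.centralizer (K : Set G) : Subgroup G) : Set G))
    (hKstH : IsPiHallOf (kappa Mstar) (sigmaCore M ⊓ Subgroup.centralizer (K : Set G)) Mstar) :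
    (∀ X : Subgroup G, X ≤ (sigmaCore M ⊓ Subgroup.centralizer (K : Set G)) → (Nat.card X).Prime →
        Subgroup.centralizer (X : Set G) ≤ M ∧
          ∀ L : Subgroup G, IsCoatom L → Subgroup.centralizer (X : Set G) ≤ L → L = M) ∧
      (∀ Y : Subgroup G, Y ≤ K → (Nat.card Y).Prime →
        Subgroup.centralizer (Y : Set G) ≤ Mstar ∧
          ∀ L : Subgroup G, IsCoatom L → Subgroup.centralizer (Y : Set G) ≤ L → L = Mstar) := by
  have d := hkd M K hM hKU.hall hK1
  have d' := hkd Mstar _ hMstar hKstH d.fix_ne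
  constructor
  · intro X hX hXp
    haveI : Fact (Nat.card X).Prime := ⟨hXp⟩
    exact (d.l136 hG hM hKU.hall.1 hX rfl).1
  · intro Y hY hYp
    haveI : Fact (Nat.card Y).Prime := ⟨hYp⟩
    have hY' : Y ≤ sigmaCore Mstar ⊓ Subgroup.centralizer
        ((sigmaCore M ⊓ Subgroup.centralizer (K : Set G) : Subgroup G) : Set G) := by
      rw [← hKst]
      exact hY
    exact (d'.l136 hG hMstar hKstH.1 hY' rfl).1

end Cfsg.Agent.Lib.Helper2.BG14v
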