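import Mathlib
import Cfsg.Agent.Lib.Helper2.BG14v1
import Cfsg.Agent.Lib.Helper4.BG20e

set_option autoImplicit false
set_option linter.style.haveILetI false
set_option linter.unusedSectionVars false
set_option maxHeartbeats 800000

/-! B and G, Lemmas 13.10–13.12 and Theorem 14.2, unconditionally. -/

namespace Cfsg.Agent.Lib.Helper2.BG14v

open Cfsg Cfsg.Agent.Lib.Helper2.BG14z Cfsg.Agent.Lib.Helper5.BG143

universe u

variable {G : Type u} [Group G] [Finite G]

/-- **B and G, Lemmas 13.10–13.11** -/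
theorem tphantom (hG : IsMinSimpleOddOrder G) : TPhantom G :=
  Cfsg.Agent.Lib.Helper2.BG14w.tphantom_of_tp1 hG (Cfsg.Agent.Lib.Helper4.BG20.tp1 hG)

/-- **B and G, Lemma 13.12** -/
theorem tclaimR (hG : IsMinSimpleOddOrder G) : TClaimR G :=
  tclaimR_of_tphantom hG (tphantom hG)

/-- **B and G, Theorem 14.2** in the form of `KData` -/
theorem kdata' (hG : IsMinSimpleOddOrder G) {M K : Subgroup G} (hM : IsCoatom M)
    (hK : IsPiHallOf (kappa M) K M) (hK1 : K ≠ ⊥) : KData M K :=
  kdata hG (tphantom hG) (tclaimR hG) hM hK hK1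

/-- **B and G, Theorem 14.2** in the form `TKData` -/
theorem tkdata (hG : IsMinSimpleOddOrder G) : TKData G :=
  fun _ _ hM hK hK1 => kdata' hG hM hK hK1

end Cfsg.Agent.Lib.Helper2.BG14v
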