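import Mathlib
import Cfsg.Agent.Lib.Helper2.BG14u1
import Cfsg.Agent.Lib.Helper4.BG21a

set_option autoImplicit false
set_option linter.style.haveILetI false
set_option linter.unusedSectionVars false
set_option maxHeartbeats 800000

/-!
# The count of the conjugates of `Ẑ` (B and G, Theorem 14.7(e); last two conjuncts of S1434)
-/

namespace Cfsg.Agent.Lib.Helper2.BG14u

open Cfsg Cfsg.Agent.Lib.Helper7

universe u

variable {G : Type u} [Group G] [Finite G]

/-- arithmetic: `k k* < 2 (k - 1)(k* - 1)` for coprime odd `k, k* ≠ 1` -/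
theorem zhat_arith {k l : ℕ} (hk : Odd k) (hl : Odd l) (hk1 : k ≠ 1) (hl1 : l ≠ 1)
    (hc : k.Coprime l) : k * l < 2 * ((k - 1) * (l - 1)) := by
  obtain ⟨a, rfl⟩ := hk
  obtain ⟨b, rfl⟩ := hl
  have ha : 1 ≤ a := by omega
  have hb : 1 ≤ b := by omega
  have hab : ¬ (a = 1 ∧ b = 1) := by
    rintro ⟨rfl, rfl⟩
    norm_num at hc
  have e1 : 2 * a + 1 - 1 = 2 * a := by omega
  have e2 : 2 * b + 1 - 1 = 2 * b := by omega
  rw [e1, e2]
  rcases Nat.lt_or_ge a 2 with h | h
  · have : a = 1 := by omega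
    subst this
    have : 2 ≤ b := by omega
    nlinarith
  · nlinarith

theorem zhat_arith2 (t k l : ℕ) (h : t + k + l = k * l + 1) (hk : 1 ≤ k) (hl : 1 ≤ l) :
    t = (k - 1) * (l - 1) := by
  obtain ⟨a, rfl⟩ := Nat.exists_eq_add_of_le hk
  obtain ⟨b, rfl⟩ := Nat.exists_eq_add_of_le hl
  simp only [Nat.add_sub_cancel_left]
  nlinarith

/-- **the count of `C_G(Ẑ)`**: the last two conjuncts of S1434 (B and G, Theorem 14.7(e)),
for any Hall `κ(M)`-subgroup `K ≠ 1` of a maximal subgroup `M`. -/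
theorem zhat_count (hG : IsMinSimpleOddOrder G) {M K : Subgroup G} (hM : IsCoatom M)
    (hK : IsPiHallOf (kappa M) K M) (hK1 : K ≠ ⊥) :
    Nat.card K * Nat.card ↥(sigmaCore M ⊓ Subgroup.centralizer (K : Set G)) *
      Set.ncard {a : G | ∃ g : G, ∃ z ∈ ((↑(K ⊔ (sigmaCore M ⊓ Subgroup.centralizer (K : Set G))) :
        Set G) \ ((K : Set G) ∪ ↑(sigmaCore M ⊓ Subgroup.centralizer (K : Set G)))),
        a = g * z * g⁻¹} =
      (Nat.card K * Nat.card ↥(sigmaCore M ⊓ Subgroup.centralizer (K : Set G)) - Nat.card K -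
        Nat.card ↥(sigmaCore M ⊓ Subgroup.centralizer (K : Set G)) + 1) * Nat.card G ∧
    Nat.card G < 2 * Set.ncard {a : G | ∃ g : G,
      ∃ z ∈ ((↑(K ⊔ (sigmaCore M ⊓ Subgroup.centralizer (K : Set G))) :
        Set G) \ ((K : Set G) ∪ ↑(sigmaCore M ⊓ Subgroup.centralizer (K : Set G)))),
        a = g * z * g⁻¹} := by
  have hKs1 : sigmaCore M ⊓ Subgroup.centralizer (K : Set G) ≠ ⊥ :=
    (Cfsg.Agent.Lib.Helper2.BG14v.kdata' hG hM hK hK1).fix_ne
  obtain ⟨-, hnorm⟩ := Cfsg.Agent.Lib.Helper4.BG21.zhat_ti hG hM hK hK1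
  have key := fun z g => Cfsg.Agent.Lib.Helper4.BG21.mem_sup_of_conj_mem_zhat hG hM hK hK1
    (z := z) (g := g)
  set Ks := sigmaCore M ⊓ Subgroup.centralizer (K : Set G) with hKs
  set Z := K ⊔ Ks with hZ
  set T : Set G := (Z : Set G) \ ((K : Set G) ∪ (Ks : Set G)) with hT
  -- coprimality
  have hcop : (Nat.card K).Coprime (Nat.card Ks) := by
    apply Nat.coprime_of_dvd
    intro p hp hpK hpKs
    have h1 : p ∈ kappa M := hK.2.1 p hp hpK
    have h2 : p ∈ sigma M := by
      apply (Cfsg.Agent.Lib.Lead.BG10.sigmaCore_hall hG hM).1.2.1 p hp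
      exact hpKs.trans (Subgroup.card_dvd_of_le inf_le_left)
    exact h1.2.2.1 h2
  have hdisj : K ⊓ Ks = ⊥ := by
    rw [← disjoint_iff]
    exact Subgroup.disjoint_of_coprime_natCard hcop
  have hKC : K ≤ Subgroup.centralizer (Ks : Set G) :=
    Subgroup.le_centralizer_iff.mp inf_le_right
  have hZcard : Nat.card Z = Nat.card K * Nat.card Ks := by
    have := Cfsg.Agent.Lib.Lead.card_sup_mul_card_inf K Ks
      (hKC.trans (Subgroup.centralizer_le_normalizer _))
    rw [hdisj, Subgroup.card_bot, mul_one] at this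
    exact this
  -- sizes
  have hodd : Odd (Nat.card G) := hG.1
  have hkodd : Odd (Nat.card K) := hodd.of_dvd_nat (Subgroup.card_subgroup_dvd_card K)
  have hlodd : Odd (Nat.card Ks) := hodd.of_dvd_nat (Subgroup.card_subgroup_dvd_card Ks)
  have hk1 : Nat.card K ≠ 1 := fun h => hK1 (Subgroup.card_eq_one.mp h)
  have hl1 : Nat.card Ks ≠ 1 := fun h => hKs1 (Subgroup.card_eq_one.mp h)
  -- the cardinality of `T`
  have hunion : ((K : Set G) ∪ (Ks : Set G)).ncard + 1 = Nat.card K + Nat.card Ks := by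
    have h1 := Set.ncard_union_add_ncard_inter (K : Set G) (Ks : Set G)
    have h2 : (K : Set G) ∩ (Ks : Set G) = {1} := by
      rw [← Subgroup.coe_inf, hdisj, Subgroup.coe_bot]
    rw [h2, Set.ncard_singleton, ← Nat.card_coe_set_eq (K : Set G),
      ← Nat.card_coe_set_eq (Ks : Set G)] at h1
    exact h1
  have hsub : (K : Set G) ∪ (Ks : Set G) ⊆ (Z : Set G) := by
    rintro x (hx | hx)
    · exact (le_sup_left : K ≤ Z) hx
    · exact (le_sup_right : Ks ≤ Z) hx
  have hTcard : T.ncard + ((K : Set G) ∪ (Ks : Set G)).ncard = Nat.card K * Nat.card Ks := by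
    rw [hT, Set.ncard_diff_add_ncard_of_subset hsub (Set.toFinite _),
      ← Nat.card_coe_set_eq (Z : Set G)]
    exact hZcard
  -- the TI count
  have hcount := ncard_conj_of_ti Z T
    (by
      intro z hz h hh
      have hh' : h ∈ Subgroup.normalizer T := by rw [hnorm]; exact hh
      exact (Subgroup.mem_set_normalizer_iff.mp hh' z).mp hz)
    (by
      intro z hz h hh
      exact key z h hz hh)
  set C := Set.ncard {a : G | ∃ g : G, ∃ z ∈ T, a = g * z * g⁻¹} with hC
  have hG' : Nat.card G = Nat.card K * Nat.card Ks * Z.index := by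
    rw [← hZcard]; exact (Subgroup.card_mul_index Z).symm
  have harith := zhat_arith hkodd hlodd hk1 hl1 hcop
  set k := Nat.card K
  set l := Nat.card Ks
  set u := ((K : Set G) ∪ (Ks : Set G)).ncard
  have hk2 : 2 ≤ k := by
    have : 0 < k := Nat.card_pos
    omega
  have hl2 : 2 ≤ l := by
    have : 0 < l := Nat.card_pos
    omega
  have hkl : k + l ≤ k * l := by nlinarith
  have hTeq : T.ncard = k * l - k - l + 1 := by omega
  have hTeq2 : T.ncard = (k - 1) * (l - 1) :=
    zhat_arith2 T.ncard k l (by omega) (by omega) (by omega)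
  constructor
  · rw [hcount, hG', ← hTeq]
    ring
  · rw [hcount, hG', hTeq2]
    have hidx : 0 < Z.index := Nat.pos_of_ne_zero Z.index_ne_zero_of_finite
    calc k * l * Z.index < 2 * ((k - 1) * (l - 1)) * Z.index :=
          Nat.mul_lt_mul_of_pos_right harith hidx
      _ = 2 * (Z.index * ((k - 1) * (l - 1))) := by ring

end Cfsg.Agent.Lib.Helper2.BG14u
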