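import Mathlib
import Cfsg.Agent.Lib.Lead.FF15
import Cfsg.Agent.S1360
import Cfsg.Agent.S1429
import Cfsg.Agent.Lib.Helper4.BG22d

set_option autoImplicit false
set_option linter.style.haveILetI false
set_option linter.unusedSectionVars false
set_option maxHeartbeats 800000

/-!
# Maximal subgroups of type P2: `Ω₁ Z(M_σ)` has rank at least three

For `M = K U M_σ` with `K ≠ 1` and `U ≠ 1`: `M_σ` is nilpotent (B and G, Lemma 14.1 = S1429), `U K` is a
Frobenius group acting on `V = Ω₁ Z(M_σ)_s` with `C_V(U) = 1`, so `|V| = |C_V(K)|^{|K|} ≥ s ^ 3`.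
-/

namespace Cfsg.Agent.Lib.Helper2.BG15a

open Cfsg Cfsg.Agent.Lib.Helper7 Cfsg.Agent.Lib.Helper4.BG14 Cfsg.Agent.Lib.Helper4.BG22

universe u

variable {G : Type u} [Group G] [Finite G]

/-- the central elements of `H` of order dividing `s` -/
def omegaCenter (H : Subgroup G) (s : ℕ) : Subgroup G where
  carrier := {z | z ∈ H ∧ (∀ m ∈ H, m * z = z * m) ∧ z ^ s = 1}
  one_mem' := ⟨H.one_mem, fun m _ => by rw [mul_one, one_mul], one_pow s⟩
  mul_mem' := by
    rintro a b ⟨ha, hac, has⟩ ⟨hb, hbc, hbs⟩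
    refine ⟨H.mul_mem ha hb, ?_, ?_⟩
    · intro m hm
      rw [← mul_assoc, hac m hm, mul_assoc, hbc m hm, mul_assoc]
    · have hab : Commute a b := (hbc a ha)
      rw [hab.mul_pow, has, hbs, one_mul]
  inv_mem' := by
    rintro a ⟨ha, hac, has⟩
    refine ⟨H.inv_mem ha, ?_, ?_⟩
    · intro m hm
      have := hac m hm
      calc m * a⁻¹ = a⁻¹ * (a * m) * a⁻¹ := by group
        _ = a⁻¹ * (m * a) * a⁻¹ := by rw [this]
        _ = a⁻¹ * m := by group
    · rw [inv_pow, has, inv_one]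

theorem mem_omegaCenter {H : Subgroup G} {s : ℕ} {z : G} :
    z ∈ omegaCenter H s ↔ z ∈ H ∧ (∀ m ∈ H, m * z = z * m) ∧ z ^ s = 1 := Iff.rfl

theorem omegaCenter_le (H : Subgroup G) (s : ℕ) : omegaCenter H s ≤ H := fun _ hz => hz.1

theorem le_centralizer_omegaCenter (H : Subgroup G) (s : ℕ) :
    H ≤ Subgroup.centralizer (omegaCenter H s : Set G) := by
  intro m hm
  rw [Subgroup.mem_centralizer_iff]
  intro z hz
  exact (hz.2.1 m hm).symm

theorem omegaCenter_comm (H : Subgroup G) (s : ℕ) : IsMulCommutative (omegaCenter H s) := by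
  refine ⟨⟨?_⟩⟩
  rintro ⟨a, ha⟩ ⟨b, hb⟩
  apply Subtype.ext
  exact hb.2.1 a ha.1

theorem omegaCenter_pow (H : Subgroup G) (s : ℕ) {z : G} (hz : z ∈ omegaCenter H s) : z ^ s = 1 :=
  hz.2.2

theorem normalizer_le_normalizer_omegaCenter (H : Subgroup G) (s : ℕ) :
    Subgroup.normalizer (H : Set G) ≤ Subgroup.normalizer (omegaCenter H s : Set G) := by
  have key : ∀ n ∈ Subgroup.normalizer (H : Set G), ∀ z ∈ omegaCenter H s,
      n * z * n⁻¹ ∈ omegaCenter H s := by
    rintro n hn z ⟨hz, hzc, hzs⟩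
    have hn' := Subgroup.mem_set_normalizer_iff.mp hn
    refine ⟨(hn' z).mp hz, ?_, ?_⟩
    · intro m hm
      have hm' : n⁻¹ * m * n ∈ H := by
        have := (hn' (n⁻¹ * m * n)).mpr (by
          have e : n * (n⁻¹ * m * n) * n⁻¹ = m := by group
          rw [e]; exact hm)
        exact this
      have := hzc _ hm'
      calc m * (n * z * n⁻¹) = n * ((n⁻¹ * m * n) * z) * n⁻¹ := by group
        _ = n * (z * (n⁻¹ * m * n)) * n⁻¹ := by rw [this]
        _ = n * z * n⁻¹ * m := by group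
    · rw [conj_pow, hzs]; group
  intro n hn
  rw [Subgroup.mem_set_normalizer_iff]
  intro z
  constructor
  · exact key n hn z
  · intro hz
    have := key n⁻¹ (Subgroup.inv_mem _ hn) _ hz
    have e : n⁻¹ * (n * z * n⁻¹) * n⁻¹⁻¹ = z := by group
    rwa [e] at this

/-- a nontrivial nilpotent subgroup has a nontrivial `Ω₁ Z` for some prime -/
theorem exists_omegaCenter_ne_bot {H : Subgroup G} (hH : Group.IsNilpotent H) (hH1 : H ≠ ⊥) :
    ∃ s : ℕ, s.Prime ∧ omegaCenter H s ≠ ⊥ := by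
  haveI : Nontrivial H := (Subgroup.nontrivial_iff_ne_bot H).mpr hH1
  haveI := hH
  have hc : Subgroup.center H ≠ ⊥ := Group.IsNilpotent.center_ne_bot _
  obtain ⟨⟨z, hz⟩, hz1⟩ := (Subgroup.ne_bot_iff_exists_ne_one).mp hc
  have hz1' : z ≠ 1 := fun h => hz1 (Subtype.ext h)
  have hord : orderOf z ≠ 1 := fun h => hz1' (orderOf_eq_one_iff.mp h)
  obtain ⟨s, hs, hsz⟩ := Nat.exists_prime_and_dvd hord
  refine ⟨s, hs, ?_⟩
  intro h0
  have hmem : (z : G) ^ (orderOf z / s) ∈ omegaCenter H s := by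
    refine ⟨H.pow_mem z.2 _, ?_, ?_⟩
    · intro m hm
      have hcm : (⟨m, hm⟩ : H) * z = z * ⟨m, hm⟩ := (Subgroup.mem_center_iff.mp hz ⟨m, hm⟩)
      have hcm' : Commute m (z : G) := by
        have := congrArg Subtype.val hcm
        show m * (z : G) = (z : G) * m
        simpa using this
      exact (hcm'.pow_right _).eq
    · rw [← pow_mul, Nat.div_mul_cancel hsz]
      have : ((z : G)) ^ orderOf z = 1 := by
        rw [← Subgroup.orderOf_coe z]
        exact pow_orderOf_eq_one _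
      exact this
  rw [h0, Subgroup.mem_bot] at hmem
  have hpos : 0 < orderOf z := orderOf_pos z
  have hlt : orderOf z / s < orderOf z := Nat.div_lt_self hpos hs.one_lt
  have hne : orderOf z / s ≠ 0 := by
    intro h
    have := Nat.div_mul_cancel hsz
    rw [h, zero_mul] at this
    omega
  have : z ^ (orderOf z / s) = 1 := Subtype.ext (by simpa using hmem)
  exact absurd (orderOf_dvd_of_pow_eq_one this) (Nat.not_dvd_of_pos_of_lt (Nat.pos_of_ne_zero hne) hlt)

end Cfsg.Agent.Lib.Helper2.BG15a
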