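import Mathlib
import Cfsg.Agent.Lib.Helper2.BG15a1
import Cfsg.Agent.S1403

set_option autoImplicit false
set_option linter.style.haveILetI false
set_option linter.unusedSectionVars false
set_option maxHeartbeats 800000

/-!
# Maximal subgroups of type P2: `Ω₁ Z(M_σ)` has rank at least three, and `C_G(x) ≤ M` for `x ∈ M_σ#`
-/

namespace Cfsg.Agent.Lib.Helper2.BG15a

open Cfsg Cfsg.Agent.Lib.Helper7 Cfsg.Agent.Lib.Helper4.BG14 Cfsg.Agent.Lib.Helper4.BG22
open Cfsg.Agent.Lib.Lead.BG10 Cfsg.Agent.Lib.Helper4.BG8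

universe u

variable {G : Type u} [Group G] [Finite G]

/-- with `U ≠ 1` the subgroup `M` is not of type P1, hence `M_σ` is nilpotent -/
theorem sigmaCore_nilpotent (hG : IsMinSimpleOddOrder G) {M K U : Subgroup G} (hM : IsCoatom M)
    (hKU : IsSigmaDecomposition M K U) (hU1 : U ≠ ⊥) : Group.IsNilpotent ↥(sigmaCore M) := by
  have hc : Nat.card U ≠ 1 := fun h => hU1 (Subgroup.card_eq_one.mp h)
  obtain ⟨p, hp, hpU⟩ := Nat.exists_prime_and_dvd hc
  haveI : Fact p.Prime := ⟨hp⟩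
  have hpM : p ∣ Nat.card M := hpU.trans (Subgroup.card_dvd_of_le (sd_U_le hKU))
  have h1 : p ∉ sigma M := sd_not_sigma hKU hG hM hp hpU
  have h2 : p ∉ kappa M := sd_not_kappa hKU hp hpU
  have hP1 : ¬ (∀ q : ℕ, q.Prime → q ∣ Nat.card M → q ∉ sigma M → q ∈ kappa M) :=
    fun h => h2 (h p hp hpM h1)
  have hpn : p ∉ sigma M ∪ kappa M := by
    rintro (h | h)
    · exact h1 h
    · exact h2 h
  exact (Cfsg.Agent.S1429.result hG M hM hP1 p hpM hpn default).2.2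

/-- no non-identity element of `M_σ` is centralized by `U ≠ 1` -/
theorem sigmaCore_inf_centralizer_U (hG : IsMinSimpleOddOrder G) {M K U : Subgroup G}
    (hM : IsCoatom M) (hKU : IsSigmaDecomposition M K U) (hU1 : U ≠ ⊥) :
    sigmaCore M ⊓ Subgroup.centralizer (U : Set G) = ⊥ := by
  obtain ⟨U₀, hU₀, hexp, hreg⟩ := Cfsg.Agent.S1360.result hG M hM K U hKU
  have hU₀1 : U₀ ≠ ⊥ := by
    intro h0
    apply hU1
    haveI : Subsingleton ↥U₀ := by rw [h0]; infer_instance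
    have h1 : Monoid.exponent ↥U₀ = 1 := Monoid.exp_eq_one_iff.mpr inferInstance
    rw [hexp] at h1
    have h2 : Subsingleton ↥U := Monoid.exp_eq_one_iff.mp h1
    haveI := h2
    exact Subgroup.eq_bot_of_subsingleton U
  obtain ⟨⟨u, hu⟩, hu1⟩ := (Subgroup.ne_bot_iff_exists_ne_one).mp hU₀1
  have hu1' : u ≠ 1 := fun h => hu1 (Subtype.ext h)
  rw [eq_bot_iff]
  rintro v ⟨hvσ, hvC⟩
  rw [Subgroup.mem_bot]
  by_contra hv1
  apply hu1'
  apply hreg u hu
  refine ⟨sd_U_le hKU (hU₀ hu), v, hvσ, hv1, ?_⟩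
  exact (Subgroup.mem_centralizer_iff.mp hvC u (hU₀ hu))

/-- the Frobenius action of `U K` on `V = Ω₁ Z(M_σ)_s`: `|V| = |C_V(K)| ^ |K|` -/
theorem card_omegaCenter (hG : IsMinSimpleOddOrder G) {M K U : Subgroup G} (hM : IsCoatom M)
    (hKU : IsSigmaDecomposition M K U) (hU1 : U ≠ ⊥) (s : ℕ) :
    Nat.card ↥(omegaCenter (sigmaCore M) s) =
      Nat.card ↥(omegaCenter (sigmaCore M) s ⊓ Subgroup.centralizer (K : Set G)) ^ Nat.card K := by
  obtain ⟨V, hV⟩ : ∃ V : Subgroup G, V = omegaCenter (sigmaCore M) s := ⟨_, rfl⟩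
  rw [← hV]
  have hVσ : V ≤ sigmaCore M := by rw [hV]; exact omegaCenter_le _ _
  have hUn : ∀ e ∈ K, ∀ u ∈ U, e * u * e⁻¹ ∈ U := fun e he u hu =>
    (Subgroup.mem_normalizer_iff.mp (hKU.normal he) u).mp hu
  have hfpf : ∀ e ∈ K, e ≠ 1 → ∀ u ∈ U, e * u = u * e → u = 1 := by
    intro e he he1 u hu hc
    have h0 := sd_regular hG hM hKU he he1
    have h2 : u ∈ Subgroup.centralizer ({e} : Set G) := by
      rw [Subgroup.mem_centralizer_iff]
      rintro z rfl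
      exact hc
    have h1 : u ∈ U ⊓ Subgroup.centralizer ({e} : Set G) := ⟨hu, h2⟩
    rw [h0, Subgroup.mem_bot] at h1
    exact h1
  have hHn : ∀ x ∈ U ⊔ K, ∀ h ∈ V, x * h * x⁻¹ ∈ V := by
    intro x hx h hh
    have hxM : x ∈ M := (sup_le (sd_U_le hKU) hKU.hall.1) hx
    have hxN := normalizer_le_normalizer_omegaCenter (sigmaCore M) s (le_normalizer_sigmaCore M hxM)
    rw [← hV] at hxN
    exact (Subgroup.mem_normalizer_iff.mp hxN h).mp hh
  have hsolv : Group.IsSolvable ↥V := by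
    rw [hV]
    exact isSolvable_of_comm (fun a b => (omegaCenter_comm (sigmaCore M) s).is_comm.comm a b)
  have hcop : Nat.Coprime (Nat.card ↥V) (Nat.card ↥(U ⊔ K)) := by
    apply Nat.coprime_of_dvd
    intro q hq h1 h2
    have hqσ : q ∈ sigma M :=
      (sigmaCore_hall hG hM).1.2.1 q hq (h1.trans (Subgroup.card_dvd_of_le hVσ))
    have h3 := Cfsg.Agent.Lib.Lead.card_sup_mul_card_inf K U hKU.normal
    rw [sup_comm] at h2
    have h4 : q ∣ Nat.card K * Nat.card U := by rw [← h3]; exact h2.mul_right _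
    rcases (Nat.Prime.dvd_mul hq).mp h4 with h5 | h5
    · exact (hKU.hall.2.1 q hq h5).2.2.1 hqσ
    · exact sd_not_sigma hKU hG hM hq h5 hqσ
  have key := Cfsg.Agent.Lib.Lead.FF.s1545 U K V hUn hfpf hHn hsolv hcop
  have hVU : V ⊓ Subgroup.centralizer (U : Set G) = ⊥ := by
    rw [eq_bot_iff, ← sigmaCore_inf_centralizer_U hG hM hKU hU1]
    exact inf_le_inf_right _ hVσ
  have hVUK : V ⊓ Subgroup.centralizer ((U ⊔ K : Subgroup G) : Set G) = ⊥ := by
    rw [eq_bot_iff, ← hVU]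
    apply inf_le_inf_left
    apply Subgroup.centralizer_le
    intro a ha
    exact (le_sup_left : U ≤ U ⊔ K) ha
  rw [hVU, hVUK, Subgroup.card_bot, one_pow, one_mul, mul_one] at key
  exact key

/-- `|V| ≥ s ^ 3` for a nontrivial `V = Ω₁ Z(M_σ)_s` -/
theorem pow_three_le_card_omegaCenter (hG : IsMinSimpleOddOrder G) {M K U : Subgroup G}
    (hM : IsCoatom M) (hKU : IsSigmaDecomposition M K U) (hK1 : K ≠ ⊥) (hU1 : U ≠ ⊥) {s : ℕ}
    (hs : s.Prime) (hV1 : omegaCenter (sigmaCore M) s ≠ ⊥) :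
    s ^ 3 ≤ Nat.card ↥(omegaCenter (sigmaCore M) s) := by
  have hcard := card_omegaCenter hG hM hKU hU1 s
  obtain ⟨C, hC⟩ : ∃ C : Subgroup G,
      C = omegaCenter (sigmaCore M) s ⊓ Subgroup.centralizer (K : Set G) := ⟨_, rfl⟩
  rw [← hC] at hcard
  have hC1 : Nat.card ↥C ≠ 1 := by
    intro h0
    rw [h0, one_pow] at hcard
    exact hV1 (Subgroup.card_eq_one.mp hcard)
  have hsC : s ∣ Nat.card ↥C := by
    obtain ⟨q, hq, hqC⟩ := Nat.exists_prime_and_dvd hC1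
    haveI : Fact q.Prime := ⟨hq⟩
    obtain ⟨z, hz⟩ := exists_prime_orderOf_dvd_card' q hqC
    have hzs : (z : G) ^ s = 1 := by
      have h0 : (z : G) ∈ omegaCenter (sigmaCore M) s ⊓ Subgroup.centralizer (K : Set G) :=
        hC ▸ z.2
      exact omegaCenter_pow _ _ h0.1
    have hzs' : z ^ s = 1 := Subtype.ext (by simpa using hzs)
    have h1 : q ∣ s := by rw [← hz]; exact orderOf_dvd_of_pow_eq_one hzs'
    have h2 : q = s := (Nat.prime_dvd_prime_iff_eq hq hs).mp h1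
    rw [← h2]; exact hqC
  have hK3 : 3 ≤ Nat.card ↥K := by
    have hodd : Odd (Nat.card ↥K) := odd_card_sub hG K
    have hne : Nat.card ↥K ≠ 1 := fun h => hK1 (Subgroup.card_eq_one.mp h)
    have hpos : 0 < Nat.card ↥K := Nat.card_pos
    obtain ⟨t, ht⟩ := hodd
    omega
  have hCpos : 0 < Nat.card ↥C := Nat.card_pos
  have h1 : s ≤ Nat.card ↥C := Nat.le_of_dvd hCpos hsC
  calc s ^ 3 ≤ Nat.card ↥C ^ 3 := Nat.pow_le_pow_left h1 3
    _ ≤ Nat.card ↥C ^ Nat.card ↥K := Nat.pow_le_pow_right hCpos hK3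
    _ = _ := hcard.symm

theorem not_pRankLE_two_omegaCenter (hG : IsMinSimpleOddOrder G) {M K U : Subgroup G}
    (hM : IsCoatom M) (hKU : IsSigmaDecomposition M K U) (hK1 : K ≠ ⊥) (hU1 : U ≠ ⊥) {s : ℕ}
    (hs : s.Prime) (hV1 : omegaCenter (sigmaCore M) s ≠ ⊥) :
    ¬ PRankLE s 2 ↥(omegaCenter (sigmaCore M) s) := by
  intro h
  have h3 := pow_three_le_card_omegaCenter hG hM hKU hK1 hU1 hs hV1
  have hcomm := omegaCenter_comm (sigmaCore M) s
  have hT : IsMulCommutative ↥(⊤ : Subgroup ↥(omegaCenter (sigmaCore M) s)) :=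
    ⟨⟨fun a b => Subtype.ext (hcomm.is_comm.comm a.1 b.1)⟩⟩
  have h1 := h ⊤ hT (fun a _ => Subtype.ext (by
    have := omegaCenter_pow (sigmaCore M) s a.2
    simpa using this))
  rw [Subgroup.card_top] at h1
  have h2 : s ^ 2 < s ^ 3 := Nat.pow_lt_pow_right hs.one_lt (by norm_num)
  omega

/-- **the uniqueness subgroup of a maximal subgroup of type P2** -/
theorem exists_uniq (hG : IsMinSimpleOddOrder G) {M K U : Subgroup G}
    (hM : IsCoatom M) (hKU : IsSigmaDecomposition M K U) (hK1 : K ≠ ⊥) (hU1 : U ≠ ⊥) :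
    ∃ V : Subgroup G, V ≤ sigmaCore M ∧ V ≠ ⊥ ∧
      sigmaCore M ≤ Subgroup.centralizer (V : Set G) ∧
      (∀ L : Subgroup G, IsCoatom L → V ≤ L → L = M) ∧
      ¬ V ≤ Subgroup.centralizer (K : Set G) := by
  have hnil := sigmaCore_nilpotent hG hM hKU hU1
  have hσ1 : sigmaCore M ≠ ⊥ := by
    intro h0
    have := (Cfsg.Agent.Lib.Helper2.BG14v.kdata' hG hM hKU.hall hK1).fix_ne
    rw [h0, bot_inf_eq] at this
    exact this rfl
  obtain ⟨s, hs, hV1⟩ := exists_omegaCenter_ne_bot hnil hσ1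
  have hVσ := omegaCenter_le (sigmaCore M) s
  have hVM : omegaCenter (sigmaCore M) s ≤ M := hVσ.trans (sigmaCore_le M)
  have hVtop : omegaCenter (sigmaCore M) s ≠ ⊤ := fun h => hM.1 (eq_top_iff.mpr (h ▸ hVM))
  have hr2 := not_pRankLE_two_omegaCenter hG hM hKU hK1 hU1 hs hV1
  have hR2 : ¬ RankLE 2 ↥(omegaCenter (sigmaCore M) s) := fun h => hr2 (h s hs)
  have hR1 : ¬ RankLE 1 ↥(omegaCenter (sigmaCore M) s) := by
    intro h
    apply hr2
    intro A hA hAs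
    exact (h s hs A hA hAs).trans (Nat.pow_le_pow_right hs.pos (by norm_num))
  obtain ⟨L0, ⟨hL0, hVL0⟩, huniq⟩ := Cfsg.Agent.S1403.result hG _ hVtop hR1 (Or.inl hR2)
  refine ⟨omegaCenter (sigmaCore M) s, hVσ, hV1, le_centralizer_omegaCenter _ _, ?_, ?_⟩
  · intro L hL hVL
    rw [huniq L ⟨hL, hVL⟩, huniq M ⟨hM, hVM⟩]
  · intro hle
    have hcard := card_omegaCenter hG hM hKU hU1 s
    rw [inf_eq_left.mpr hle] at hcard
    have hK3 : 2 ≤ Nat.card ↥K := by
      have hne : Nat.card ↥K ≠ 1 := fun h => hK1 (Subgroup.card_eq_one.mp h)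
      have hpos : 0 < Nat.card ↥K := Nat.card_pos
      omega
    have hV2 : 2 ≤ Nat.card ↥(omegaCenter (sigmaCore M) s) := by
      have hne : Nat.card ↥(omegaCenter (sigmaCore M) s) ≠ 1 :=
        fun h => hV1 (Subgroup.card_eq_one.mp h)
      have hpos : 0 < Nat.card ↥(omegaCenter (sigmaCore M) s) := Nat.card_pos
      omega
    have hlt : Nat.card ↥(omegaCenter (sigmaCore M) s) ^ 1 <
        Nat.card ↥(omegaCenter (sigmaCore M) s) ^ Nat.card ↥K :=
      Nat.pow_lt_pow_right hV2 hK3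
    rw [pow_one] at hlt
    omega

/-- `C_G(x) ≤ M` for every `x ∈ M_σ#`, and `M` is the only maximal subgroup over `C_G(x)` -/
theorem centralizer_le (hG : IsMinSimpleOddOrder G) {M K U : Subgroup G}
    (hM : IsCoatom M) (hKU : IsSigmaDecomposition M K U) (hK1 : K ≠ ⊥) (hU1 : U ≠ ⊥) {x : G}
    (hx : x ∈ sigmaCore M) (hx1 : x ≠ 1) :
    Subgroup.centralizer ({x} : Set G) ≤ M ∧
      ∀ L : Subgroup G, IsCoatom L → Subgroup.centralizer ({x} : Set G) ≤ L → L = M := by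
  obtain ⟨V, hVσ, hV1, hVc, huniq, -⟩ := exists_uniq hG hM hKU hK1 hU1
  have hVx : V ≤ Subgroup.centralizer ({x} : Set G) := by
    intro v hv
    rw [Subgroup.mem_centralizer_iff]
    rintro z rfl
    exact (Subgroup.mem_centralizer_iff.mp (hVc hx) v hv).symm
  have key : ∀ L : Subgroup G, IsCoatom L → Subgroup.centralizer ({x} : Set G) ≤ L → L = M :=
    fun L hL hCL => huniq L hL (hVx.trans hCL)
  refine ⟨?_, key⟩
  obtain ⟨L, hL, hCL⟩ := exists_coatom_ge (Cfsg.Agent.Lib.Helper4.BG7.center_ne_top hG hx1)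
  rw [← key L hL hCL]
  exact hCL

end Cfsg.Agent.Lib.Helper2.BG15a
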