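import Mathlib
import Cfsg.Agent.Lib.Helper2.BG15a2
import Cfsg.Agent.Lib.Helper2.BG14t1
import Cfsg.Agent.Lib.Helper5.NilSym2
import Cfsg.Agent.Lib.Helper4.BG14d

set_option autoImplicit false
set_option linter.style.haveILetI false
set_option linter.unusedSectionVars false
set_option maxHeartbeats 800000

/-!
# Maximal subgroups of type P2: `F(M)` is a TI-subset
-/

namespace Cfsg.Agent.Lib.Helper2.BG15a

open Cfsg Cfsg.Agent.Lib.Helper7 Cfsg.Agent.Lib.Helper4.BG14 Cfsg.Agent.Lib.Helper4.BG22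
open Cfsg.Agent.Lib.Lead.BG10 Cfsg.Agent.Lib.Helper4.BG8 Cfsg.Agent.Lib.Lead.BG14n
open Cfsg.Agent.Lib.Helper5.BG139 Cfsg.Agent.Lib.Helper4.BG9

universe u

variable {G : Type u} [Group G] [Finite G]

theorem sigmaCore_le_fittingOf (hG : IsMinSimpleOddOrder G) {M K U : Subgroup G} (hM : IsCoatom M)
    (hKU : IsSigmaDecomposition M K U) (hU1 : U ≠ ⊥) : sigmaCore M ≤ fittingOf M :=
  le_fittingOf (sigmaCore_le M) (le_normalizer_sigmaCore M) (sigmaCore_nilpotent hG hM hKU hU1)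

/-- an element of `F(M)` of prime order `l ∉ σ(M)` centralizes `M_σ` -/
theorem commute_of_mem_fittingOf (hG : IsMinSimpleOddOrder G) {M K U : Subgroup G} (hM : IsCoatom M)
    (hKU : IsSigmaDecomposition M K U) (hU1 : U ≠ ⊥) {z : G} (hz : z ∈ fittingOf M) {l : ℕ}
    (hl : l.Prime) (hzl : orderOf z = l) (hlσ : l ∉ sigma M) {y : G} (hy : y ∈ sigmaCore M) :
    z * y = y * z := by
  have hyF : y ∈ fittingOf M := sigmaCore_le_fittingOf hG hM hKU hU1 hy
  haveI : Group.IsNilpotent ↥(fittingOf M) := isNilpotent_fittingOf M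
  have hcop : (orderOf (⟨z, hz⟩ : ↥(fittingOf M))).Coprime (orderOf (⟨y, hyF⟩ : ↥(fittingOf M))) := by
    rw [Subgroup.orderOf_mk, Subgroup.orderOf_mk, hzl]
    rw [Nat.Prime.coprime_iff_not_dvd hl]
    intro hd
    exact hlσ (mem_sigma_of_dvd_orderOf hG hM hy hl hd)
  have h := Cfsg.Agent.Lib.Helper5.NilSym.commute_of_coprime ↥(fittingOf M) ⟨z, hz⟩ ⟨y, hyF⟩
    (isOfFinOrder_of_finite _) (isOfFinOrder_of_finite _) hcop
  exact congrArg Subtype.val h.eq

/-- an element of `F(M)` of prime order `l ∉ σ(M)` lies in `A(M) ∖ M_σ` -/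
theorem mem_sigmaA_diff_of_mem_fittingOf (hG : IsMinSimpleOddOrder G) {M K U : Subgroup G}
    (hM : IsCoatom M) (hKU : IsSigmaDecomposition M K U) (hK1 : K ≠ ⊥) (hU1 : U ≠ ⊥) {z : G}
    (hz : z ∈ fittingOf M) {l : ℕ} (hl : l.Prime) (hzl : orderOf z = l) (hlσ : l ∉ sigma M) :
    z ∈ sigmaA M U \ (sigmaCore M : Set G) := by
  have hzM : z ∈ M := fittingOf_le M hz
  have hz1 : z ≠ 1 := by
    rintro rfl
    rw [orderOf_one] at hzl
    exact hl.one_lt.ne hzl
  have hcomm : ∀ y ∈ sigmaCore M, z * y = y * z :=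
    fun y hy => commute_of_mem_fittingOf hG hM hKU hU1 hz hl hzl hlσ hy
  obtain ⟨V, hVσ, hV1, hVc, huniq, hVK⟩ := exists_uniq hG hM hKU hK1 hU1
  have hlκ : l ∉ kappa M := by
    intro hlκ
    have hMtop : M ≠ ⊤ := hM.1
    have hsolv : Group.IsSolvable ↥M := solvable_of_ne_top hG hMtop
    have hR : ∀ p : ℕ, p.Prime → p ∣ Nat.card ↥(Subgroup.zpowers z) → p ∈ kappa M := by
      intro p hp hd
      rw [Nat.card_zpowers, hzl] at hd
      rw [(Nat.prime_dvd_prime_iff_eq hp hl).mp hd]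
      exact hlκ
    obtain ⟨k, hk, hkK⟩ := exists_cj_le_hall hsolv (kappa M) hKU.hall
      (Subgroup.zpowers_le.mpr hzM) hR
    have heK : k * z * k⁻¹ ∈ K := hkK (conj_mem_cj (Subgroup.mem_zpowers z))
    have he1 : k * z * k⁻¹ ≠ 1 := by
      intro h
      apply hz1
      have : z = k⁻¹ * (k * z * k⁻¹) * k := by group
      rw [this, h]; group
    have hσe : sigmaCore M ≤ Subgroup.centralizer ({k * z * k⁻¹} : Set G) := by
      intro y hy
      rw [Subgroup.mem_centralizer_iff]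
      rintro w rfl
      have hn := le_normalizer_sigmaCore M (M.inv_mem hk)
      have hy' : k⁻¹ * y * k⁻¹⁻¹ ∈ sigmaCore M := (Subgroup.mem_normalizer_iff.mp hn y).mp hy
      have hc := hcomm _ hy'
      calc k * z * k⁻¹ * y = k * (z * (k⁻¹ * y * k⁻¹⁻¹)) * k⁻¹ := by group
        _ = k * ((k⁻¹ * y * k⁻¹⁻¹) * z) * k⁻¹ := by rw [hc]
        _ = y * (k * z * k⁻¹) := by group
    have hsemi := (Cfsg.Agent.Lib.Helper2.BG14v.kdata' hG hM hKU.hall hK1).semiprime _ heK he1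
    rw [inf_eq_left.mpr hσe] at hsemi
    exact hVK (hVσ.trans (hsemi ▸ inf_le_right))
  have hzH : z ∈ U ⊔ sigmaCore M := by
    apply sd_mem_of_not_kappa hKU hzM
    intro p hp hd
    rw [hzl] at hd
    rw [(Nat.prime_dvd_prime_iff_eq hp hl).mp hd]
    exact hlκ
  obtain ⟨⟨v, hv⟩, hv1⟩ := (Subgroup.ne_bot_iff_exists_ne_one).mp hV1
  have hv1' : v ≠ 1 := fun h => hv1 (Subtype.ext h)
  refine ⟨⟨⟨hzM, v, hVσ hv, hv1', hcomm v (hVσ hv)⟩, hzH⟩, ?_⟩
  intro hzσ
  exact hlσ (mem_sigma_of_dvd_orderOf hG hM hzσ hl (hzl ▸ dvd_refl _))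

/-- **B and G, Theorem 15.2 for type P2, part**: `F(M)` is a TI-subset of `G` -/
theorem fittingOf_ti (hG : IsMinSimpleOddOrder G) {M K U : Subgroup G}
    (hM : IsCoatom M) (hKU : IsSigmaDecomposition M K U) (hK1 : K ≠ ⊥) (hU1 : U ≠ ⊥) :
    IsTISubset (fittingOf M : Set G) := by
  intro g hg x hx hgx
  by_contra hx1
  apply hg
  apply le_normalizer_fittingOf M
  have hord : orderOf x ≠ 1 := fun h => hx1 (orderOf_eq_one_iff.mp h)
  obtain ⟨l, hl, hlx⟩ := Nat.exists_prime_and_dvd hord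
  have hx0 : orderOf x ≠ 0 := (orderOf_pos x).ne'
  obtain ⟨n, hn⟩ : ∃ n : ℕ, n = orderOf x / l := ⟨_, rfl⟩
  have hzl : orderOf (x ^ n) = l := by rw [hn]; exact orderOf_pow_orderOf_div hx0 hlx
  have hzF : x ^ n ∈ fittingOf M := Subgroup.pow_mem _ hx n
  have hconj : g * x ^ n * g⁻¹ = (g * x * g⁻¹) ^ n := (conj_pow (i := n) (a := g) (b := x)).symm
  have hwF : g * x ^ n * g⁻¹ ∈ fittingOf M := by rw [hconj]; exact Subgroup.pow_mem _ hgx n
  have hz1 : x ^ n ≠ 1 := by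
    intro h
    rw [h, orderOf_one] at hzl
    exact hl.one_lt.ne hzl
  have hw1 : g * x ^ n * g⁻¹ ≠ 1 := by
    intro h
    apply hz1
    have : x ^ n = g⁻¹ * (g * x ^ n * g⁻¹) * g := by group
    rw [this, h]; group
  have hwl : orderOf (g * x ^ n * g⁻¹) = l := by
    have h1 : (g * x ^ n * g⁻¹) ^ l = 1 := by
      rw [conj_pow, ← hzl, pow_orderOf_eq_one]; group
    have h2 := orderOf_dvd_of_pow_eq_one h1
    rcases (Nat.dvd_prime hl).mp h2 with h3 | h3
    · exact absurd (orderOf_eq_one_iff.mp h3) hw1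
    · exact h3
  by_cases hlσ : l ∈ sigma M
  · have hzσ : x ^ n ∈ sigmaCore M := by
      apply mem_sigmaCore_of_orderOf hG hM (fittingOf_le M hzF)
      intro p hp hd
      rw [hzl] at hd
      rw [(Nat.prime_dvd_prime_iff_eq hp hl).mp hd]
      exact hlσ
    have hwσ : g * x ^ n * g⁻¹ ∈ sigmaCore M := by
      apply mem_sigmaCore_of_orderOf hG hM (fittingOf_le M hwF)
      intro p hp hd
      rw [hwl] at hd
      rw [(Nat.prime_dvd_prime_iff_eq hp hl).mp hd]
      exact hlσ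
    have h1 := (centralizer_le hG hM hKU hK1 hU1 hzσ hz1).1
    have h2 := (centralizer_le hG hM hKU hK1 hU1 hwσ hw1).2
    have h3 : Subgroup.centralizer ({g * x ^ n * g⁻¹} : Set G) ≤ cj g M := by
      rw [centralizer_singleton_cj]
      exact cj_mono g h1
    have h4 : cj g M = M := h2 _ (isCoatom_cj hM g) h3
    have hM1 : M ≠ ⊥ := by
      rintro rfl
      apply hz1
      have := fittingOf_le _ hzF
      rwa [Subgroup.mem_bot] at this
    have h5 : Subgroup.normalizer (M : Set G) = M :=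
      normalizer_eq_of_isCoatom hG hM hM1 le_rfl Subgroup.le_normalizer
    rw [← h5]
    exact mem_normalizer_iff_cj.mpr h4
  · have h1 := mem_sigmaA_diff_of_mem_fittingOf hG hM hKU hK1 hU1 hzF hl hzl hlσ
    have h2 := mem_sigmaA_diff_of_mem_fittingOf hG hM hKU hK1 hU1 hwF hl hwl hlσ
    exact Cfsg.Agent.Lib.Helper2.BG14t.mem_of_conj_mem_sigmaA_diff hG hM hKU h1 h2

end Cfsg.Agent.Lib.Helper2.BG15a
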