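import Mathlib
import Cfsg.Agent.Lib.Helper2.BG15a2
import Cfsg.Agent.Lib.Helper4.NilpSub

set_option autoImplicit false
set_option linter.style.haveILetI false
set_option linter.unusedSectionVars false
set_option maxHeartbeats 800000

/-!
# Maximal subgroups of type P2: for every prime `s` of `M_σ`, `Ω₁ Z(M_σ)_s` has rank at least three
-/

namespace Cfsg.Agent.Lib.Helper2.BG15a

open Cfsg Cfsg.Agent.Lib.Helper7 Cfsg.Agent.Lib.Helper4 Cfsg.Agent.Lib.Helper4.BG14
open Cfsg.Agent.Lib.Helper4.BG22 Cfsg.Agent.Lib.Lead.BG10 Cfsg.Agent.Lib.Helper4.BG8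

universe u

variable {G : Type u} [Group G] [Finite G]

/-- for a nilpotent `H` and a prime `s` dividing `|H|`, `Ω₁ Z(H)_s ≠ 1` -/
theorem omegaCenter_ne_bot_of_dvd {H : Subgroup G} (hH : Group.IsNilpotent H) {s : ℕ}
    (hs : s.Prime) (hsd : s ∣ Nat.card H) : omegaCenter H s ≠ ⊥ := by
  haveI : Fact s.Prime := ⟨hs⟩
  obtain ⟨z, hzH, hz1, hzp, hzc⟩ := exists_central_pElement (p := s) hH hsd
  have hord : orderOf z ≠ 1 := fun h => hz1 (orderOf_eq_one_iff.mp h)
  obtain ⟨k, hk⟩ := IsPGroup.iff_card.mp hzp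
  rw [Nat.card_zpowers] at hk
  have hsz : s ∣ orderOf z := by
    rw [hk]
    cases k with
    | zero => exact absurd hk (by simpa using hord)
    | succ n => exact dvd_pow_self s (Nat.succ_ne_zero n)
  have hx0 : orderOf z ≠ 0 := (orderOf_pos z).ne'
  have ho : orderOf (z ^ (orderOf z / s)) = s := orderOf_pow_orderOf_div hx0 hsz
  intro h0
  have hmem : z ^ (orderOf z / s) ∈ omegaCenter H s := by
    refine ⟨H.pow_mem hzH _, ?_, ?_⟩
    · intro m hm
      have hcm : Commute m z := hzc m hm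
      exact (hcm.pow_right _).eq
    · have h9 := pow_orderOf_eq_one (z ^ (orderOf z / s))
      rwa [ho] at h9
  rw [h0, Subgroup.mem_bot] at hmem
  rw [hmem, orderOf_one] at ho
  exact hs.one_lt.ne ho

/-- **the rank-three fact** (requested by lead for B and G, Corollary 14.8): for a maximal subgroup
of type P2 and every prime `s` dividing `|M_σ|`, the subgroup `V = Ω₁ Z(M_σ)_s` is elementary abelian
of order divisible by `s ^ 3`, normal in `M` and central in `M_σ`. -/
theorem exists_rank3 (hG : IsMinSimpleOddOrder G) {M K U : Subgroup G} (hM : IsCoatom M)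
    (hKU : IsSigmaDecomposition M K U) (hK1 : K ≠ ⊥) (hU1 : U ≠ ⊥) {s : ℕ} (hs : s.Prime)
    (hsd : s ∣ Nat.card (sigmaCore M)) :
    ∃ V : Subgroup G, V ≤ sigmaCore M ∧ IsElementaryAbelian s V ∧ s ^ 3 ∣ Nat.card V ∧
      M ≤ Subgroup.normalizer (V : Set G) ∧
      (∀ b ∈ sigmaCore M, V ≤ Subgroup.centralizer ({b} : Set G)) ∧
      Nat.card V = Nat.card ↥(V ⊓ Subgroup.centralizer (K : Set G)) ^ Nat.card K := by
  haveI : Fact s.Prime := ⟨hs⟩
  have hnil := sigmaCore_nilpotent hG hM hKU hU1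
  have hV1 := omegaCenter_ne_bot_of_dvd hnil hs hsd
  have h3 := pow_three_le_card_omegaCenter hG hM hKU hK1 hU1 hs hV1
  have hpg : IsPGroup s ↥(omegaCenter (sigmaCore M) s) := by
    intro a
    refine ⟨1, ?_⟩
    rw [pow_one]
    apply Subtype.ext
    have := omegaCenter_pow (sigmaCore M) s a.2
    simpa using this
  obtain ⟨k, hk⟩ := IsPGroup.iff_card.mp hpg
  have hk3 : 3 ≤ k := by
    by_contra hlt
    push Not at hlt
    have h4 : s ^ k ≤ s ^ 2 := Nat.pow_le_pow_right hs.pos (by omega)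
    have h5 : s ^ 2 < s ^ 3 := Nat.pow_lt_pow_right hs.one_lt (by norm_num)
    omega
  refine ⟨omegaCenter (sigmaCore M) s, omegaCenter_le _ _,
    ⟨omegaCenter_comm _ _, fun a ha => omegaCenter_pow _ _ ha⟩, ?_, ?_, ?_,
    card_omegaCenter hG hM hKU hU1 s⟩
  · rw [hk]
    exact pow_dvd_pow s hk3
  · exact (le_normalizer_sigmaCore M).trans (normalizer_le_normalizer_omegaCenter _ _)
  · intro b hb v hv
    rw [Subgroup.mem_centralizer_iff]
    rintro w rfl
    exact hv.2.1 w hb

end Cfsg.Agent.Lib.Helper2.BG15a
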