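import Mathlib
import Cfsg.Agent.Lib.Helper4.FittingHall
import Cfsg.Agent.Lib.Helper7.Conj

set_option autoImplicit false
set_option linter.style.haveILetI false
set_option linter.unusedSectionVars false
set_option maxHeartbeats 800000

/-!
# Groups of Frobenius type: a criterion inside an ambient group

`IsOfTypeF ↥L` for a subgroup `L` of `G`, from data given as subgroups of `G`.
-/

namespace Cfsg.Agent.Lib.Helper2.BG16a

open Cfsg Cfsg.Agent.Lib.Helper7 Cfsg.Agent.Lib.Helper4

universe u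

variable {G : Type u} [Group G] [Finite G]

theorem fittingHall_eq_subgroupOf (L : Subgroup G) :
    fittingHall ↥L = (fittingHallOf L).subgroupOf L :=
  (Subgroup.comap_map_eq_self_of_injective L.subtype_injective _).symm

/-- **criterion for Frobenius type** -/
theorem isOfTypeF_of {L H U U₁ U₀ : Subgroup G}
    (hsolv : Group.IsSolvable ↥L) (hodd : Odd (Nat.card ↥L))
    (hH : fittingHallOf L = H) (hH1 : H ≠ ⊥) (hU1 : U ≠ ⊥)
    (hc : IsComplIn H U L)
    (hU₁ : U₁ ≤ U) (hn : U ≤ Subgroup.normalizer (U₁ : Set G)) (hab : IsMulCommutative ↥U₁)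
    (hcen : ∀ x ∈ H, x ≠ 1 → U ⊓ Subgroup.centralizer ({x} : Set G) ≤ U₁)
    (hU₀ : U₀ ≤ U) (hexp : Monoid.exponent ↥U₀ = Monoid.exponent ↥U)
    (hreg : ∀ u ∈ U₀, u ≠ 1 → ∀ x ∈ H, u * x = x * u → x = 1) : IsOfTypeF ↥L := by
  have hHL : H ≤ L := hc.1
  have hUL : U ≤ L := hc.2.1
  have hFH : fittingHall ↥L = H.subgroupOf L := by rw [fittingHall_eq_subgroupOf, hH]
  refine ⟨hsolv, hodd, ?_, ?_, U.subgroupOf L, ?_, ?_, ⟨U₁.subgroupOf L, ?_, ?_, ?_, ?_⟩,
    ⟨U₀.subgroupOf L, ?_, ?_, ?_⟩⟩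
  · rw [hFH]
    intro h0
    rw [Subgroup.subgroupOf_eq_bot, disjoint_iff, inf_eq_left.mpr hHL] at h0
    exact hH1 h0
  · rw [hFH]
    intro h0
    rw [Subgroup.subgroupOf_eq_top] at h0
    apply hU1
    rw [← hc.2.2.1]
    exact (inf_eq_right.mpr (hUL.trans h0)).symm
  · intro h0
    rw [Subgroup.subgroupOf_eq_bot, disjoint_iff, inf_eq_left.mpr hUL] at h0
    exact hU1 h0
  · rw [hFH]
    apply Subgroup.isComplement'_of_disjoint_and_mul_eq_univ
    · rw [disjoint_iff, eq_bot_iff]
      rintro x ⟨hx1, hx2⟩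
      have h3 : (x : G) ∈ H ⊓ U := ⟨hx1, hx2⟩
      rw [hc.2.2.1, Subgroup.mem_bot] at h3
      rw [Subgroup.mem_bot]
      exact Subtype.ext h3
    · rw [Set.eq_univ_iff_forall]
      intro m
      obtain ⟨a, ha, b, hb, hm⟩ := hc.2.2.2 m.1 m.2
      refine Set.mem_mul.mpr ⟨⟨a, hHL ha⟩, ha, ⟨b, hUL hb⟩, hb, ?_⟩
      exact Subtype.ext hm.symm
  · intro x hx
    exact hU₁ hx
  · intro w hw
    rw [Subgroup.mem_normalizer_iff]
    intro h
    have h1 := Subgroup.mem_normalizer_iff.mp (hn hw) (h : G)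
    simpa [Subgroup.mem_subgroupOf] using h1
  · refine ⟨⟨fun a b => ?_⟩⟩
    apply Subtype.ext
    apply Subtype.ext
    have h1 := congrArg Subtype.val (hab.is_comm.comm ⟨a.1.1, a.2⟩ ⟨b.1.1, b.2⟩)
    exact h1
  · intro x hx hx1 w hw
    rw [hFH] at hx
    have hx1' : (x : G) ≠ 1 := fun h => hx1 (Subtype.ext h)
    have h3 : (w : G) ∈ Subgroup.centralizer ({(x : G)} : Set G) := by
      rw [Subgroup.mem_centralizer_iff]
      rintro z rfl
      have h2 := Subgroup.mem_centralizer_iff.mp hw.2 x rfl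
      exact congrArg Subtype.val h2
    exact hcen (x : G) hx hx1' ⟨hw.1, h3⟩
  · intro x hx
    exact hU₀ hx
  · rw [Monoid.exponent_eq_of_mulEquiv (Subgroup.subgroupOfEquivOfLe (hU₀.trans hUL)),
      Monoid.exponent_eq_of_mulEquiv (Subgroup.subgroupOfEquivOfLe hUL)]
    exact hexp
  · intro w hw hw1 x hx hwx
    rw [hFH] at hx
    have hw1' : (w : G) ≠ 1 := fun h => hw1 (Subtype.ext h)
    have := hreg (w : G) hw hw1' (x : G) hx (congrArg Subtype.val hwx)
    exact Subtype.ext this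

/-- `L_F` is characteristic in `L` -/
theorem cj_fittingHallOf_le {L : Subgroup G} {g : G} (hg : cj g L = L) :
    cj g (fittingHallOf L) ≤ fittingHallOf L := by
  have h1 : cj g (fittingHallOf L) ≤ L := by
    have := cj_mono g (fittingHallOf_le L)
    rwa [hg] at this
  apply le_fittingHallOf L h1
  · intro m hm
    rw [mem_normalizer_iff_cj]
    have hm' : g⁻¹ * m * g ∈ L := by
      have : m ∈ cj g L := by rw [hg]; exact hm
      exact (mem_cj g m L).mp this
    have h2 := mem_normalizer_iff_cj.mp (le_normalizer_fittingHallOf L hm')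
    have e : m = g * (g⁻¹ * m * g) * g⁻¹ := by group
    rw [e, cj_mul, cj_mul, cj_inv_cj, h2]
  · haveI := isNilpotent_fittingHallOf L
    exact Group.nilpotent_of_mulEquiv
      ((fittingHallOf L).equivMapOfInjective (MulAut.conj g).toMonoidHom (MulAut.conj g).injective)
  · have h3 : Nat.card ↥(cj g (fittingHallOf L)) = Nat.card ↥(fittingHallOf L) :=
      Subgroup.card_map_of_injective (MulAut.conj g).injective
    have h4 : (cj g (fittingHallOf L)).relIndex L = (fittingHallOf L).relIndex L := by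
      have a1 := Subgroup.relIndex_mul_relIndex ⊥ (cj g (fittingHallOf L)) L bot_le h1
      have a2 := Subgroup.relIndex_mul_relIndex ⊥ (fittingHallOf L) L bot_le (fittingHallOf_le L)
      rw [Subgroup.relIndex_bot_left, Subgroup.relIndex_bot_left] at a1 a2
      rw [h3] at a1
      have hpos : 0 < Nat.card ↥(fittingHallOf L) := Nat.card_pos
      exact Nat.eq_of_mul_eq_mul_left hpos (a1.trans a2.symm)
    rw [h3, h4]
    exact fittingHallOf_coprime L

theorem normalizer_le_normalizer_fittingHallOf (L : Subgroup G) :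
    Subgroup.normalizer (L : Set G) ≤ Subgroup.normalizer (fittingHallOf L : Set G) := by
  intro g hg
  rw [mem_normalizer_iff_cj] at hg ⊢
  apply le_antisymm (cj_fittingHallOf_le hg)
  have hg' : cj g⁻¹ L = L := by
    have := congrArg (cj g⁻¹) hg
    rw [cj_inv_cj] at this
    exact this.symm
  have h1 := cj_mono g (cj_fittingHallOf_le hg')
  rwa [cj_cj_inv] at h1

end Cfsg.Agent.Lib.Helper2.BG16a
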