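import Mathlib
import Cfsg.Agent.Lib.Helper2.BG16a1
import Cfsg.Agent.Lib.Helper2.BG15a2
import Cfsg.Agent.S1359
import Cfsg.Agent.Lib.Lead.BG14n3

set_option autoImplicit false
set_option linter.style.haveILetI false
set_option linter.unusedSectionVars false
set_option maxHeartbeats 800000

/-!
# Maximal subgroups with `U ≠ 1`: Frobenius type

* `K = 1`, `U ≠ 1`: `M` is of Frobenius type with `M_F = M_σ`;
* `K ≠ 1`, `U ≠ 1`: `M'` is of Frobenius type with `(M')_F = M_F = M_σ`.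
-/

namespace Cfsg.Agent.Lib.Helper2.BG16a

open Cfsg Cfsg.Agent.Lib.Helper7 Cfsg.Agent.Lib.Helper4 Cfsg.Agent.Lib.Helper4.BG14
open Cfsg.Agent.Lib.Helper4.BG22 Cfsg.Agent.Lib.Lead.BG10 Cfsg.Agent.Lib.Helper4.BG8
open Cfsg.Agent.Lib.Helper2.BG15a

universe u

variable {G : Type u} [Group G] [Finite G]

/-- a subgroup normalizes the closure of a set it stabilizes under conjugation -/
theorem le_normalizer_closure {U : Subgroup G} {S : Set G}
    (h : ∀ u ∈ U, ∀ s ∈ S, u * s * u⁻¹ ∈ S) : U ≤ Subgroup.normalizer (Subgroup.closure S : Set G) := by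
  have key : ∀ u ∈ U, ∀ x ∈ Subgroup.closure S, u * x * u⁻¹ ∈ Subgroup.closure S := by
    intro u hu x hx
    have h1 : (Subgroup.closure S).map (MulAut.conj u).toMonoidHom ≤ Subgroup.closure S := by
      rw [MonoidHom.map_closure, Subgroup.closure_le]
      rintro _ ⟨s, hs, rfl⟩
      apply Subgroup.subset_closure
      simpa [MulAut.conj_apply] using h u hu s hs
    have h2 : (MulAut.conj u).toMonoidHom x ∈ (Subgroup.closure S).map (MulAut.conj u).toMonoidHom :=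
      Subgroup.mem_map_of_mem _ hx
    simpa [MulAut.conj_apply] using h1 h2
  intro u hu
  rw [Subgroup.mem_normalizer_iff]
  intro x
  constructor
  · exact key u hu x
  · intro hx
    have := key u⁻¹ (U.inv_mem hu) _ hx
    have e : u⁻¹ * (u * x * u⁻¹) * u⁻¹⁻¹ = x := by group
    rwa [e] at this

/-- `M` permutes `M̂_σ` by conjugation -/
theorem conj_mem_sigmaHat {M : Subgroup G} {m a : G} (hm : m ∈ M) (ha : a ∈ sigmaHat M) :
    m * a * m⁻¹ ∈ sigmaHat M := by
  obtain ⟨haM, y, hy, hy1, hay⟩ := ha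
  have hn := le_normalizer_sigmaCore M hm
  refine ⟨M.mul_mem (M.mul_mem hm haM) (M.inv_mem hm), m * y * m⁻¹,
    (Subgroup.mem_normalizer_iff.mp hn y).mp hy, ?_, ?_⟩
  · intro h
    apply hy1
    have : y = m⁻¹ * (m * y * m⁻¹) * m := by group
    rw [this, h]; group
  · calc m * a * m⁻¹ * (m * y * m⁻¹) = m * (a * y) * m⁻¹ := by group
      _ = m * (y * a) * m⁻¹ := by rw [hay]
      _ = m * y * m⁻¹ * (m * a * m⁻¹) := by group

/-- the common part: `H = M_σ`, `U`, `U₁ = ⟨U ∩ M̂_σ⟩`, `U₀` give a group `M_σ U` of Frobenius type -/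
theorem isOfTypeF_sup (hG : IsMinSimpleOddOrder G) {M K U : Subgroup G} (hM : IsCoatom M)
    (hKU : IsSigmaDecomposition M K U) (hU1 : U ≠ ⊥)
    (hF : fittingHallOf (U ⊔ sigmaCore M) = sigmaCore M) : IsOfTypeF ↥(U ⊔ sigmaCore M) := by
  have hUM : U ≤ M := sd_U_le hKU
  have hLM : U ⊔ sigmaCore M ≤ M := sup_le hUM (sigmaCore_le M)
  have hLtop : U ⊔ sigmaCore M ≠ ⊤ := fun h => hM.1 (eq_top_iff.mpr (h ▸ hLM))
  have hUn : U ≤ Subgroup.normalizer (sigmaCore M : Set G) := hUM.trans (le_normalizer_sigmaCore M)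
  obtain ⟨U₀, hU₀, hexp, hreg⟩ := Cfsg.Agent.S1360.result hG M hM K U hKU
  have hc : IsComplIn (sigmaCore M) U (U ⊔ sigmaCore M) := by
    refine ⟨le_sup_right, le_sup_left, ?_, ?_⟩
    · rw [inf_comm]; exact sd_U_inf_sigmaCore hKU
    · intro m hm
      have h1 : m ∈ ((sigmaCore M ⊔ U : Subgroup G) : Set G) := by rw [sup_comm]; exact hm
      rw [Subgroup.coe_mul_of_right_le_normalizer_left (sigmaCore M) U hUn] at h1
      obtain ⟨a, ha, b, hb, rfl⟩ := Set.mem_mul.mp h1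
      exact ⟨a, ha, b, hb, rfl⟩
  refine isOfTypeF_of (U₁ := Subgroup.closure ((U : Set G) ∩ sigmaHat M)) (U₀ := U₀)
    (solvable_of_ne_top hG hLtop) (odd_card_sub hG _) hF (Cfsg.Agent.Lib.Helper2.BG11.sigmaCore_ne_bot hG hM)
    hU1 hc ?_ ?_ (Cfsg.Agent.S1359.result hG M hM K U hKU) ?_ hU₀ hexp ?_
  · rw [Subgroup.closure_le]
    exact Set.inter_subset_left
  · apply le_normalizer_closure
    rintro w hw s ⟨hsU, hsσ⟩
    exact ⟨U.mul_mem (U.mul_mem hw hsU) (U.inv_mem hw), conj_mem_sigmaHat (hUM hw) hsσ⟩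
  · rintro x hx hx1 w ⟨hwU, hwx⟩
    apply Subgroup.subset_closure
    refine ⟨hwU, hUM hwU, x, hx, hx1, ?_⟩
    exact (Subgroup.mem_centralizer_iff.mp hwx x rfl).symm
  · intro w hw hw1 x hx hwx
    by_contra hx1
    exact hw1 (hreg w hw ⟨hUM (hU₀ hw), x, hx, hx1, hwx⟩)

/-- **`K = 1`, `U ≠ 1`: `M` is of Frobenius type and `M_F = M_σ`** -/
theorem isOfTypeF_of_K_eq_bot (hG : IsMinSimpleOddOrder G) {M K U : Subgroup G} (hM : IsCoatom M)
    (hKU : IsSigmaDecomposition M K U) (hK : K = ⊥) (hU1 : U ≠ ⊥) :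
    IsOfTypeF ↥M ∧ fittingHallOf M = sigmaCore M := by
  have hnil := sigmaCore_nilpotent hG hM hKU hU1
  have hF : fittingHallOf M = sigmaCore M :=
    (Cfsg.Agent.Lib.Lead.BG14n.sigmaCore_eq_fittingHallOf hG hM hnil).symm
  have hsup : U ⊔ sigmaCore M = M := by
    have h1 := Cfsg.Agent.Lib.Lead.BG10.IsComplIn.sup_eq hKU.compl
    rwa [hK, bot_sup_eq] at h1
  refine ⟨?_, hF⟩
  have h2 := isOfTypeF_sup hG hM hKU hU1 (by rw [hsup]; exact hF)
  rwa [hsup] at h2

/-- `(M')_F = M_σ` for `K ≠ 1`, `U ≠ 1` -/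
theorem fittingHallOf_sup (hG : IsMinSimpleOddOrder G) {M K U : Subgroup G} (hM : IsCoatom M)
    (hKU : IsSigmaDecomposition M K U) (hK1 : K ≠ ⊥) (hU1 : U ≠ ⊥) :
    fittingHallOf (U ⊔ sigmaCore M) = sigmaCore M ∧ fittingHallOf M = sigmaCore M := by
  have hnil := sigmaCore_nilpotent hG hM hKU hU1
  have hF : fittingHallOf M = sigmaCore M :=
    (Cfsg.Agent.Lib.Lead.BG14n.sigmaCore_eq_fittingHallOf hG hM hnil).symm
  refine ⟨?_, hF⟩
  have hUM : U ≤ M := sd_U_le hKU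
  have hLM : U ⊔ sigmaCore M ≤ M := sup_le hUM (sigmaCore_le M)
  have hhall := (sigmaCore_hall hG hM).1
  apply le_antisymm
  · refine le_of_le_of_eq ?_ hF
    have hFL : fittingHallOf (U ⊔ sigmaCore M) ≤ U ⊔ sigmaCore M := fittingHallOf_le _
    apply le_fittingHallOf M (hFL.trans hLM)
    · exact (Cfsg.Agent.Lib.Lead.BG14n.sd_le_normalizer hKU).trans
        (normalizer_le_normalizer_fittingHallOf _)
    · exact isNilpotent_fittingHallOf _
    · have h1 := Subgroup.relIndex_mul_relIndex (fittingHallOf (U ⊔ sigmaCore M)) (U ⊔ sigmaCore M) M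
        hFL hLM
      rw [← h1]
      apply Nat.Coprime.mul_right (fittingHallOf_coprime _)
      have hc := sd_isComplIn_K hG hM hKU
      have h2 := card_mul_of_isComplIn hc
      have h3 : (U ⊔ sigmaCore M).relIndex M * Nat.card ↥(U ⊔ sigmaCore M) = Nat.card ↥M := by
        have := Subgroup.relIndex_mul_relIndex ⊥ (U ⊔ sigmaCore M) M bot_le hLM
        rw [Subgroup.relIndex_bot_left, Subgroup.relIndex_bot_left] at this
        rw [mul_comm]; exact this
      have hpos : 0 < Nat.card ↥(U ⊔ sigmaCore M) := Nat.card_pos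
      have h4 : (U ⊔ sigmaCore M).relIndex M = Nat.card ↥K := by
        apply Nat.eq_of_mul_eq_mul_right hpos
        rw [h3, h2]
      rw [h4]
      exact ((sd_coprime hG hM hKU).coprime_dvd_right (Subgroup.card_dvd_of_le hFL)).symm
  · apply le_fittingHallOf _ le_sup_right (hLM.trans (le_normalizer_sigmaCore M)) hnil
    apply Nat.coprime_of_dvd
    intro p hp h1 h2
    have h3 : (sigmaCore M).relIndex (U ⊔ sigmaCore M) ∣ (sigmaCore M).relIndex M :=
      Dvd.intro _ (Subgroup.relIndex_mul_relIndex (sigmaCore M) (U ⊔ sigmaCore M) M le_sup_right hLM)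
    exact hhall.2.2 p hp (hhall.2.1 p hp h1) (h2.trans h3)

/-- **`K ≠ 1`, `U ≠ 1`: `M'` is of Frobenius type and `(M')_F = M_F`** -/
theorem isOfTypeF_commutator (hG : IsMinSimpleOddOrder G) {M K U : Subgroup G} (hM : IsCoatom M)
    (hKU : IsSigmaDecomposition M K U) (hK1 : K ≠ ⊥) (hU1 : U ≠ ⊥) :
    IsOfTypeF ↥⁅M, M⁆ ∧ fittingHallOf ⁅M, M⁆ = fittingHallOf M := by
  have hder := sd_commutator_eq hG hM hKU hK1
  obtain ⟨h1, h2⟩ := fittingHallOf_sup hG hM hKU hK1 hU1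
  rw [hder]
  exact ⟨isOfTypeF_sup hG hM hKU hU1 h1, h1.trans h2.symm⟩

end Cfsg.Agent.Lib.Helper2.BG16a
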