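import Mathlib
import Cfsg.Agent.Lib.Helper5.BG147k
import Cfsg.Agent.Lib.Helper2.BG11a

set_option autoImplicit false
set_option linter.style.haveILetI false
set_option linter.unusedSectionVars false
set_option maxHeartbeats 800000

/-!
# `K` and `K* = C_{M_σ}(K)` form a self-normalizing cyclic pair (B and G, Theorem 14.7(e))
-/

namespace Cfsg.Agent.Lib.Helper2.BG16b

open Cfsg Cfsg.Agent.Lib.Helper7 Cfsg.Agent.Lib.Helper4 Cfsg.Agent.Lib.Helper4.BG8
open Cfsg.Agent.Lib.Helper4.BG9 Cfsg.Agent.Lib.Lead.BG10 Cfsg.Agent.Lib.Helper5.BG147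
open Cfsg.Agent.Lib.Lead.BG95

universe u

variable {G : Type u} [Group G] [Finite G]

/-- in `A × B` with coprime orders, `A` is the set of solutions of `z ^ |A| = 1` -/
theorem mem_left_of_pow_card_eq_one {A B : Subgroup G} (hcomm : ∀ a ∈ A, ∀ b ∈ B, a * b = b * a)
    (hcop : (Nat.card A).Coprime (Nat.card B)) {z : G} (hz : z ∈ A ⊔ B)
    (hzn : z ^ Nat.card A = 1) : z ∈ A := by
  have hBn : B ≤ Subgroup.normalizer (A : Set G) := by
    intro b hb
    rw [Subgroup.mem_normalizer_iff]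
    intro a
    constructor
    · intro ha
      have : b * a * b⁻¹ = a := by rw [← hcomm a ha b hb]; group
      rw [this]; exact ha
    · intro ha
      have h1 := hcomm _ ha b hb
      have : a = b * a * b⁻¹ := by
        have h2 : b * a * b⁻¹ * b = b * (b * a * b⁻¹) := h1
        have h3 : b * a = b * (b * a * b⁻¹) := by rw [← h2]; group
        exact mul_left_cancel h3
      rw [this]; exact ha
  have hz' : z ∈ ((A ⊔ B : Subgroup G) : Set G) := hz
  rw [Subgroup.coe_mul_of_right_le_normalizer_left A B hBn] at hz'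
  obtain ⟨x, hx, y, hy, rfl⟩ := Set.mem_mul.mp hz'
  have hxy : Commute x y := hcomm x hx y hy
  have hxn : x ^ Nat.card A = 1 :=
    orderOf_dvd_iff_pow_eq_one.mp (Subgroup.orderOf_dvd_natCard A hx)
  rw [hxy.mul_pow, hxn, one_mul] at hzn
  have h1 : orderOf y ∣ Nat.card A := orderOf_dvd_of_pow_eq_one hzn
  have h2 : orderOf y ∣ Nat.card B := Subgroup.orderOf_dvd_natCard B hy
  have h3 : orderOf y = 1 := Nat.eq_one_of_dvd_coprimes hcop h1 h2
  rw [orderOf_eq_one_iff.mp h3, mul_one]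
  exact hx

theorem normalizer_sup_le_left {A B : Subgroup G} (hcomm : ∀ a ∈ A, ∀ b ∈ B, a * b = b * a)
    (hcop : (Nat.card A).Coprime (Nat.card B)) :
    Subgroup.normalizer ((A ⊔ B : Subgroup G) : Set G) ≤ Subgroup.normalizer (A : Set G) := by
  have key : ∀ g ∈ Subgroup.normalizer ((A ⊔ B : Subgroup G) : Set G), ∀ a ∈ A, g * a * g⁻¹ ∈ A := by
    intro g hg a ha
    have h1 : g * a * g⁻¹ ∈ A ⊔ B :=
      (Subgroup.mem_normalizer_iff.mp hg a).mp ((le_sup_left : A ≤ A ⊔ B) ha)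
    apply mem_left_of_pow_card_eq_one hcomm hcop h1
    rw [conj_pow, orderOf_dvd_iff_pow_eq_one.mp (Subgroup.orderOf_dvd_natCard A ha)]
    group
  intro g hg
  rw [Subgroup.mem_normalizer_iff]
  intro a
  constructor
  · exact key g hg a
  · intro ha
    have := key g⁻¹ (Subgroup.inv_mem _ hg) _ ha
    have e : g⁻¹ * (g * a * g⁻¹) * g⁻¹⁻¹ = a := by group
    rwa [e] at this

/-- if `L` is the only maximal subgroup over `C_G(X)` then `N_G(X) ≤ L` -/
theorem normalizer_le_of_uniq (hG : IsMinSimpleOddOrder G) {X L : Subgroup G} (hL : IsCoatom L)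
    (hCL : Subgroup.centralizer (X : Set G) ≤ L)
    (huniq : ∀ L' : Subgroup G, IsCoatom L' → Subgroup.centralizer (X : Set G) ≤ L' → L' = L) :
    Subgroup.normalizer (X : Set G) ≤ L := by
  intro g hg
  have h1 : cj g X = X := mem_normalizer_iff_cj.mp hg
  have h2 : Subgroup.centralizer (X : Set G) ≤ cj g L := by
    have := cj_mono g hCL
    rwa [← centralizer_cj, h1] at this
  have h3 : cj g L = L := huniq _ (isCoatom_cj hL g) h2
  have h4 : Subgroup.normalizer (L : Set G) = L :=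
    normalizer_eq_of_isCoatom hG hL (Cfsg.Agent.Lib.Helper2.BG11.coatom_ne_bot hG hL) le_rfl
      Subgroup.le_normalizer
  rw [← h4]
  exact mem_normalizer_iff_cj.mpr h3

/-- `N_G(K) ≤ L` when `K ≠ 1` has a unique subgroup `X` of each prime order and `L` is the only
maximal subgroup over `C_G(X)` -/
theorem normalizer_le_of_kdata (hG : IsMinSimpleOddOrder G) {K L : Subgroup G} (hL : IsCoatom L)
    (hK1 : K ≠ ⊥)
    (huniqK : ∀ X X' : Subgroup G, X ≤ K → X' ≤ K → (Nat.card X).Prime → Nat.card X' = Nat.card X →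
      X' = X)
    (hC : ∀ X : Subgroup G, X ≤ K → (Nat.card X).Prime → Subgroup.centralizer (X : Set G) ≤ L ∧
      ∀ L' : Subgroup G, IsCoatom L' → Subgroup.centralizer (X : Set G) ≤ L' → L' = L) :
    Subgroup.normalizer (K : Set G) ≤ L := by
  have hc : Nat.card K ≠ 1 := fun h => hK1 (Subgroup.card_eq_one.mp h)
  obtain ⟨r, hr, hrK⟩ := Nat.exists_prime_and_dvd hc
  haveI : Fact r.Prime := ⟨hr⟩
  obtain ⟨x, hx⟩ := exists_prime_orderOf_dvd_card' r hrK
  have hXK : Subgroup.zpowers (x : G) ≤ K := Subgroup.zpowers_le.mpr x.2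
  have hXc : Nat.card ↥(Subgroup.zpowers (x : G)) = r := by
    rw [Nat.card_zpowers, Subgroup.orderOf_coe, hx]
  have hXp : (Nat.card ↥(Subgroup.zpowers (x : G))).Prime := hXc ▸ hr
  obtain ⟨h1, h2⟩ := hC _ hXK hXp
  refine le_trans ?_ (normalizer_le_of_uniq hG hL h1 h2)
  intro g hg
  rw [mem_normalizer_iff_cj] at hg ⊢
  apply huniqK _ _ hXK _ hXp (Subgroup.card_map_of_injective (MulAut.conj g).injective)
  have := cj_mono g hXK
  rwa [hg] at this

/-- **B and G, Theorem 14.7(e)**: `K`, `K*` form a self-normalizing cyclic pair -/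
theorem isSelfNormalizingCyclic_of_t147 (hG : IsMinSimpleOddOrder G) {M K Ms : Subgroup G}
    (t : T147 M K Ms) : IsSelfNormalizingCyclic K (kstar M K) := by
  have hcomm : ∀ a ∈ K, ∀ b ∈ kstar M K, a * b = b * a := by
    intro a ha b hb
    exact Subgroup.mem_centralizer_iff.mp hb.2 a ha
  have hcop : (Nat.card K).Coprime (Nat.card ↥(kstar M K)) := by
    apply Nat.coprime_of_dvd
    intro q hq h1 h2
    have hqκ : q ∈ kappa M := t.hK.2.1 q hq h1
    have hqσ : q ∈ sigma M := (sigmaCore_hall hG t.hM).1.2.1 q hq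
      (h2.trans (Subgroup.card_dvd_of_le inf_le_left))
    exact hqκ.2.2.1 hqσ
  have hcomm' : ∀ a ∈ kstar M K, ∀ b ∈ K, a * b = b * a := fun a ha b hb => (hcomm b hb a ha).symm
  have hNK : Subgroup.normalizer ((K ⊔ kstar M K : Subgroup G) : Set G) ≤ Ms := by
    refine (normalizer_sup_le_left hcomm hcop).trans ?_
    exact normalizer_le_of_kdata hG t.hMs t.hK1
      (Cfsg.Agent.Lib.Helper2.BG14v.kdata' hG t.hM t.hK t.hK1).uniq t.uniqC
  have hNKs : Subgroup.normalizer ((K ⊔ kstar M K : Subgroup G) : Set G) ≤ M := by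
    have h1 := normalizer_sup_le_left hcomm' hcop.symm
    rw [sup_comm] at h1
    refine h1.trans ?_
    exact normalizer_le_of_kdata hG t.hM t.hKs1
      (Cfsg.Agent.Lib.Helper2.BG14v.kdata' hG t.hMs t.hKs t.hKs1).uniq t.uniqC'
  have hKsn : kstar M K ≤ Subgroup.normalizer (K : Set G) :=
    inf_le_right.trans (Subgroup.centralizer_le_normalizer _)
  have hcentral : ∀ w ∈ K ⊔ kstar M K, w ∉ K → w ∉ kstar M K →
      Subgroup.centralizer ({w} : Set G) = K ⊔ kstar M K := by
    intro w hw hwK hwKs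
    have hw' : w ∈ ((K ⊔ kstar M K : Subgroup G) : Set G) := hw
    rw [Subgroup.coe_mul_of_right_le_normalizer_left K (kstar M K) hKsn] at hw'
    obtain ⟨x, hx, y, hy, rfl⟩ := Set.mem_mul.mp hw'
    have hx1 : x ≠ 1 := by
      rintro rfl
      rw [one_mul] at hwKs
      exact hwKs hy
    have hy1 : y ≠ 1 := by
      rintro rfl
      rw [mul_one] at hwK
      exact hwK hx
    exact t.centZ x hx hx1 y hy hy1
  refine ⟨t.hK1, t.hKs1, ?_, hcomm, t.cycZ, ?_⟩
  · exact Subgroup.disjoint_of_coprime_natCard hcop |>.eq_bot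
  · intro X hX hXne
    obtain ⟨w, hwX⟩ := hXne
    obtain ⟨hwZ, hwn⟩ := hX hwX
    have hwK : w ∉ K := fun h => hwn (Or.inl h)
    have hwKs : w ∉ kstar M K := fun h => hwn (Or.inr h)
    apply le_antisymm
    · intro g hg
      have hgw : g * w * g⁻¹ ∈ X := (Subgroup.mem_set_normalizer_iff.mp hg w).mp hwX
      obtain ⟨hgZ, hgn⟩ := hX hgw
      have h1 := hcentral w hwZ hwK hwKs
      have h2 := hcentral _ hgZ (fun h => hgn (Or.inl h)) (fun h => hgn (Or.inr h))
      rw [Cfsg.Agent.Lib.Lead.BG14n.centralizer_singleton_cj, h1] at h2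
      have h3 : g ∈ Subgroup.normalizer ((K ⊔ kstar M K : Subgroup G) : Set G) :=
        mem_normalizer_iff_cj.mpr h2
      have h4 : g ∈ M ⊓ Ms := ⟨hNKs h3, hNK h3⟩
      rwa [t.inf_eq] at h4
    · intro z hz
      rw [Subgroup.mem_set_normalizer_iff]
      intro n
      have hcyc := t.cycZ
      have hzc : ∀ n ∈ X, z * n * z⁻¹ = n := by
        intro n hn
        have hnZ : n ∈ K ⊔ kstar M K := (hX hn).1
        haveI := hcyc
        have h5 : (⟨z, hz⟩ : ↥(K ⊔ kstar M K)) * ⟨n, hnZ⟩ = ⟨n, hnZ⟩ * ⟨z, hz⟩ := by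
          obtain ⟨c, hc⟩ := IsCyclic.exists_generator (α := ↥(K ⊔ kstar M K))
          obtain ⟨i, hi⟩ := Subgroup.mem_zpowers_iff.mp (hc ⟨z, hz⟩)
          obtain ⟨j, hj⟩ := Subgroup.mem_zpowers_iff.mp (hc ⟨n, hnZ⟩)
          rw [← hi, ← hj, ← zpow_add, ← zpow_add, add_comm]
        have h6 : z * n = n * z := congrArg Subtype.val h5
        rw [h6]; group
      constructor
      · intro hn
        rw [hzc n hn]; exact hn
      · intro hn
        have h7 := hzc _ hn
        have h8 : z * n * z⁻¹ = n := by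
          have e : z * n * z⁻¹ = z⁻¹ * (z * (z * n * z⁻¹) * z⁻¹) * z := by group
          rw [e, h7]; group
        rw [← h8]; exact hn

end Cfsg.Agent.Lib.Helper2.BG16b
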