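import Mathlib
import Cfsg.Agent.Lib.Helper2.BG16b1
import Cfsg.Agent.Lib.Helper4.BG22d

set_option autoImplicit false
set_option linter.style.haveILetI false
set_option linter.unusedSectionVars false
set_option maxHeartbeats 800000

/-!
# Type P data of a maximal subgroup with `K ≠ 1`: the fields coming from Theorem 14.7
-/

namespace Cfsg.Agent.Lib.Helper2.BG16b

open Cfsg Cfsg.Agent.Lib.Helper7 Cfsg.Agent.Lib.Helper4 Cfsg.Agent.Lib.Helper4.BG8
open Cfsg.Agent.Lib.Helper4.BG9 Cfsg.Agent.Lib.Lead.BG10 Cfsg.Agent.Lib.Helper5.BG147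
open Cfsg.Agent.Lib.Lead.BG95 Cfsg.Agent.Lib.Helper4.BG14 Cfsg.Agent.Lib.Helper4.BG22
open Cfsg.Agent.Lib.Lead.BG14n

universe u

variable {G : Type u} [Group G] [Finite G]

/-- `K` is a complement of `M'` in `M` -/
theorem sd_isComplIn_commutator (hG : IsMinSimpleOddOrder G) {M K U : Subgroup G} (hM : IsCoatom M)
    (hKU : IsSigmaDecomposition M K U) (hK1 : K ≠ ⊥) : IsComplIn ⁅M, M⁆ K M := by
  have hder := sd_commutator_eq hG hM hKU hK1
  have hc := sd_isComplIn_K hG hM hKU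
  rw [hder]
  refine ⟨hc.2.1, hc.1, ?_, ?_⟩
  · rw [inf_comm]; exact hc.2.2.1
  · intro m hm
    obtain ⟨k, hk, h, hh, rfl⟩ := hc.2.2.2 m hm
    have hn := sd_le_normalizer hKU (hKU.hall.1 hk)
    refine ⟨k * h * k⁻¹, (Subgroup.mem_normalizer_iff.mp hn h).mp hh, k, hk, by group⟩

/-- `|K|` is coprime to `|M : K|` -/
theorem sd_coprime_relIndex (hG : IsMinSimpleOddOrder G) {M K U : Subgroup G} (hM : IsCoatom M)
    (hKU : IsSigmaDecomposition M K U) : (Nat.card K).Coprime (K.relIndex M) := by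
  have hc := sd_isComplIn_K hG hM hKU
  have h1 := card_mul_of_isComplIn hc
  have h2 : K.relIndex M * Nat.card K = Nat.card M := by
    have := Subgroup.relIndex_mul_relIndex ⊥ K M bot_le hKU.hall.1
    rw [Subgroup.relIndex_bot_left, Subgroup.relIndex_bot_left] at this
    rw [mul_comm]; exact this
  have hpos : 0 < Nat.card ↥K := Nat.card_pos
  have h3 : K.relIndex M = Nat.card ↥(U ⊔ sigmaCore M) := by
    apply Nat.eq_of_mul_eq_mul_right hpos
    rw [h2, h1, mul_comm]
  rw [h3]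
  exact sd_coprime hG hM hKU

/-- `C_{M'}(x) = K*` for every `x ∈ K#` -/
theorem commutator_inf_centralizer_eq (hG : IsMinSimpleOddOrder G) {M K U Ms : Subgroup G}
    (hM : IsCoatom M) (hKU : IsSigmaDecomposition M K U) (hK1 : K ≠ ⊥) (t : T147 M K Ms) {x : G}
    (hx : x ∈ K) (hx1 : x ≠ 1) :
    ⁅M, M⁆ ⊓ Subgroup.centralizer ({x} : Set G) = kstar M K := by
  have hder := sd_commutator_eq hG hM hKU hK1
  have hc := sd_isComplIn_K hG hM hKU
  have hKsn : kstar M K ≤ Subgroup.normalizer (K : Set G) :=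
    inf_le_right.trans (Subgroup.centralizer_le_normalizer _)
  apply le_antisymm
  · rintro z ⟨hzM', hzx⟩
    have hzM : z ∈ M := by
      rw [hder] at hzM'
      exact hc.2.1 hzM'
    have h1 : z ∈ M ⊓ Subgroup.centralizer ({x} : Set G) := ⟨hzM, hzx⟩
    rw [t.centL x hx hx1] at h1
    have h1' : z ∈ ((K ⊔ kstar M K : Subgroup G) : Set G) := h1
    rw [Subgroup.coe_mul_of_right_le_normalizer_left K (kstar M K) hKsn] at h1'
    obtain ⟨k, hk, y, hy, rfl⟩ := Set.mem_mul.mp h1'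
    have hyM' : y ∈ U ⊔ sigmaCore M := (le_sup_right : sigmaCore M ≤ U ⊔ sigmaCore M) hy.1
    have hk' : k ∈ K ⊓ (U ⊔ sigmaCore M) := by
      refine ⟨hk, ?_⟩
      have : k = k * y * y⁻¹ := by group
      rw [this]
      rw [hder] at hzM'
      exact Subgroup.mul_mem _ hzM' (Subgroup.inv_mem _ hyM')
    rw [hc.2.2.1, Subgroup.mem_bot] at hk'
    rw [hk', one_mul]
    exact hy
  · intro y hy
    have h3 : y ∈ Subgroup.centralizer ({x} : Set G) := by
      rw [Subgroup.mem_centralizer_iff]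
      rintro w rfl
      exact Subgroup.mem_centralizer_iff.mp hy.2 w hx
    have h4 : y ∈ ⁅M, M⁆ := by
      rw [hder]
      exact (le_sup_right : sigmaCore M ≤ U ⊔ sigmaCore M) hy.1
    exact ⟨h4, h3⟩

/-- **assembly of the type P data** for a maximal subgroup with `K ≠ 1`: the fields not listed as
hypotheses come from Theorem 14.7 -/
theorem isTypePWith_of (hG : IsMinSimpleOddOrder G) {M K U Ms U' : Subgroup G} (hM : IsCoatom M)
    (hKU : IsSigmaDecomposition M K U) (hK1 : K ≠ ⊥) (t : T147 M K Ms)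
    (hUn : Group.IsNilpotent ↥U') (hUK : K ≤ Subgroup.normalizer (U' : Set G))
    (hUc : IsComplIn (fittingHallOf M) U' ⁅M, M⁆) (hHnc : ¬ IsCyclic ↥(fittingHallOf M))
    (h2 : ⁅⁅M, M⁆, ⁅M, M⁆⁆ ≤
      fittingHallOf M ⊔ (M ⊓ Subgroup.centralizer (fittingHallOf M : Set G)))
    (hfe : fittingHallOf M ⊔ (M ⊓ Subgroup.centralizer (fittingHallOf M : Set G)) = fittingOf M)
    (hfl : fittingOf M ≤ ⁅M, M⁆) (hKsF : kstar M K ≤ fittingHallOf M) :
    IsTypePWith M K U' (kstar M K) where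
  W₁_ne := hK1
  W₁_cyclic := hKU.cyclic
  W₁_hall := sd_coprime_relIndex hG hM hKU
  W₁_compl := sd_isComplIn_commutator hG hM hKU hK1
  U_nilpotent := hUn
  U_normal := hUK
  U_compl := hUc
  H_not_cyclic := hHnc
  derived_two_le := h2
  fitting_eq := hfe
  fitting_le := hfl
  W₂_le := by
    apply le_inf hKsF
    refine le_trans ?_ (sd_commutator_inf_centralizer_le hG hM hKU hK1)
    apply le_inf _ inf_le_right
    rw [sd_commutator_eq hG hM hKU hK1]
    exact inf_le_left.trans le_sup_right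
  W₂_centralizer := fun x hx hx1 => commutator_inf_centralizer_eq hG hM hKU hK1 t hx hx1
  selfNormalizing := isSelfNormalizingCyclic_of_t147 hG t

end Cfsg.Agent.Lib.Helper2.BG16b
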