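import Mathlib
import Cfsg.Agent.Lib.Helper4.BG19b
import Cfsg.Agent.Lib.Helper4.BG22d
import Cfsg.Agent.Lib.Lead.BG14n3

set_option autoImplicit false
set_option linter.style.haveILetI false
set_option linter.unusedSectionVars false
set_option maxHeartbeats 800000

/-!
# A maximal subgroup of type P has `κ(M) ≠ ∅`
-/

namespace Cfsg.Agent.Lib.Helper2.BG16c

open Cfsg Cfsg.Agent.Lib.Helper7 Cfsg.Agent.Lib.Helper4 Cfsg.Agent.Lib.Helper4.BG8
open Cfsg.Agent.Lib.Helper4.BG9 Cfsg.Agent.Lib.Lead.BG10 Cfsg.Agent.Lib.Helper4.BG14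
open Cfsg.Agent.Lib.Helper4.BG22 Cfsg.Agent.Lib.Lead.BG14n Cfsg.Agent.Lib.Helper5.BG139

universe u

variable {G : Type u} [Group G] [Finite G]

/-- a subgroup of a cyclic subgroup is cyclic -/
theorem isCyclic_of_le {A W : Subgroup G} (hW : IsCyclic ↥W) (h : A ≤ W) : IsCyclic ↥A := by
  haveI := hW
  have : IsCyclic ↥(A.subgroupOf W) := Subgroup.isCyclic _
  exact isCyclic_of_surjective (Subgroup.subgroupOfEquivOfLe h)
    (Subgroup.subgroupOfEquivOfLe h).surjective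

/-- `|M : W₁| = |M'|` for type P data -/
theorem typeP_relIndex {M W₁ U W₂ : Subgroup G} (hP : IsTypePWith M W₁ U W₂) :
    W₁.relIndex M = Nat.card ↥⁅M, M⁆ := by
  have h1 := Cfsg.Agent.Lib.Helper4.BG14.card_mul_of_isComplIn hP.W₁_compl
  have h2 : W₁.relIndex M * Nat.card W₁ = Nat.card M := by
    have := Subgroup.relIndex_mul_relIndex ⊥ W₁ M bot_le hP.W₁_compl.2.1
    rw [Subgroup.relIndex_bot_left, Subgroup.relIndex_bot_left] at this
    rw [mul_comm]; exact this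
  have hpos : 0 < Nat.card ↥W₁ := Nat.card_pos
  apply Nat.eq_of_mul_eq_mul_right hpos
  rw [h2, h1]

/-- every prime divisor of `|W₁|` lies in `κ(M)` -/
theorem mem_kappa_of_typeP (hG : IsMinSimpleOddOrder G) {M W₁ U W₂ : Subgroup G} (hM : IsCoatom M)
    (hP : IsTypePWith M W₁ U W₂) {r : ℕ} (hr : r.Prime) (hrW : r ∣ Nat.card W₁) :
    r ∈ kappa M := by
  haveI : Fact r.Prime := ⟨hr⟩
  have hW₁M : W₁ ≤ M := hP.W₁_compl.2.1
  have hsolv : Group.IsSolvable ↥M := solvable_of_ne_top hG hM.1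
  -- `r ∉ σ(M)`
  have hrM' : ¬ r ∣ Nat.card ↥⁅M, M⁆ := by
    intro h
    have hcop := hP.W₁_hall
    rw [typeP_relIndex hP] at hcop
    exact hr.one_lt.ne' (Nat.eq_one_of_dvd_coprimes hcop hrW h)
  have hrσ : r ∉ sigma M := by
    intro hσ
    have hh := (sigmaCore_hall hG hM).1
    have h1 : ¬ r ∣ (sigmaCore M).relIndex M := hh.2.2 r hr hσ
    have h2 : Nat.card ↥(sigmaCore M) * (sigmaCore M).relIndex M = Nat.card M := by
      have := Subgroup.relIndex_mul_relIndex ⊥ (sigmaCore M) M bot_le (sigmaCore_le M)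
      rwa [Subgroup.relIndex_bot_left, Subgroup.relIndex_bot_left] at this
    have h3 : r ∣ Nat.card ↥(sigmaCore M) * (sigmaCore M).relIndex M := by
      rw [h2]; exact hσ.2.1
    rcases (Nat.Prime.dvd_mul hr).mp h3 with h4 | h4
    · exact hrM' (h4.trans (Subgroup.card_dvd_of_le (sigmaCore_le_commutator hG hM)))
    · exact h1 h4
  -- the Sylow `r`-subgroups of `M` are cyclic
  have hhall : IsPiHallOf {q | q ∣ Nat.card W₁} W₁ M := by
    refine ⟨hW₁M, fun p _ hd => hd, ?_⟩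
    intro p hp hpW hd
    exact hp.one_lt.ne' (Nat.eq_one_of_dvd_coprimes hP.W₁_hall hpW hd)
  have hr1 : PRankLE r 1 ↥M := by
    obtain ⟨P⟩ : Nonempty (Sylow r ↥M) := inferInstance
    apply Cfsg.Agent.Lib.Helper4.BG19.pRankLE_one_of_cyclic_sylow P
    have hP'M : (P : Subgroup ↥M).map M.subtype ≤ M := Subgroup.map_subtype_le _
    have hP'r : ∀ p : ℕ, p.Prime → p ∣ Nat.card ↥((P : Subgroup ↥M).map M.subtype) →
        p ∈ {q | q ∣ Nat.card W₁} := by
      intro p hp hd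
      have hpg : IsPGroup r ↥((P : Subgroup ↥M).map M.subtype) := P.2.map _
      obtain ⟨k, hk⟩ := IsPGroup.iff_card.mp hpg
      rw [hk] at hd
      have := (Nat.prime_dvd_prime_iff_eq hp hr).mp (hp.dvd_of_dvd_pow hd)
      rw [this]
      exact hrW
    obtain ⟨k, hk, hkW⟩ := exists_cj_le_hall hsolv _ hhall hP'M hP'r
    have hc1 : IsCyclic ↥(cj k ((P : Subgroup ↥M).map M.subtype)) := isCyclic_of_le hP.W₁_cyclic hkW
    have e1 : ↥(P : Subgroup ↥M) ≃* ↥((P : Subgroup ↥M).map M.subtype) :=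
      (P : Subgroup ↥M).equivMapOfInjective M.subtype M.subtype_injective
    have e2 : ↥((P : Subgroup ↥M).map M.subtype) ≃* ↥(cj k ((P : Subgroup ↥M).map M.subtype)) :=
      ((P : Subgroup ↥M).map M.subtype).equivMapOfInjective _ (MulAut.conj k).injective
    haveI := hc1
    exact isCyclic_of_surjective (e1.trans e2).symm (e1.trans e2).symm.surjective
  -- an element of order `r` of `W₁` centralizes `W₂ ≠ 1`
  obtain ⟨w, hw⟩ := exists_prime_orderOf_dvd_card' r hrW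
  have hwo : orderOf (w : G) = r := by rw [Subgroup.orderOf_coe, hw]
  obtain ⟨hW₁1, hW₂1, -, hcomm, -, -⟩ := hP.selfNormalizing
  obtain ⟨⟨y, hy⟩, hy1⟩ := (Subgroup.ne_bot_iff_exists_ne_one).mp hW₂1
  have hy1' : y ≠ 1 := fun h => hy1 (Subtype.ext h)
  have hyσ : y ∈ sigmaCore M :=
    fittingHallOf_le_sigmaCore hG hM ((hP.W₂_le.trans inf_le_left) hy)
  exact mem_kappa_of_fixed hG hM hrσ hr1 (hW₁M w.2) hwo hyσ hy1' (hcomm w w.2 y hy)

/-- a maximal subgroup of type P has `K ≠ 1` -/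
theorem K_ne_bot_of_typeP (hG : IsMinSimpleOddOrder G) {M W₁ U W₂ K : Subgroup G} (hM : IsCoatom M)
    (hP : IsTypePWith M W₁ U W₂) (hK : IsPiHallOf (kappa M) K M) : K ≠ ⊥ := by
  intro h0
  have hc : Nat.card W₁ ≠ 1 := fun h => hP.W₁_ne (Subgroup.card_eq_one.mp h)
  obtain ⟨r, hr, hrW⟩ := Nat.exists_prime_and_dvd hc
  have hκ := mem_kappa_of_typeP hG hM hP hr hrW
  have h1 := hK.2.2 r hr hκ
  rw [h0, Subgroup.relIndex_bot_left] at h1
  exact h1 hκ.2.1

end Cfsg.Agent.Lib.Helper2.BG16c
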