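import Mathlib
import Cfsg.Agent.Lib.Helper2.BG16c1
import Cfsg.Agent.Lib.Helper4.BG12b

set_option autoImplicit false
set_option linter.style.haveILetI false
set_option linter.unusedSectionVars false
set_option maxHeartbeats 800000

/-!
# The types of a maximal subgroup determine `K` and `U`: easy directions

* `N_G(X) ≤ M` for a nontrivial Hall subgroup `X` of `M_σ`;
* Type V implies `K ≠ 1`, `U = 1`, `M_F = M_σ`;
* Type II implies `K ≠ 1`, `U ≠ 1`.
-/

namespace Cfsg.Agent.Lib.Helper2.BG16c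

open Cfsg Cfsg.Agent.Lib.Helper7 Cfsg.Agent.Lib.Helper4 Cfsg.Agent.Lib.Helper4.BG8
open Cfsg.Agent.Lib.Helper4.BG9 Cfsg.Agent.Lib.Lead.BG10 Cfsg.Agent.Lib.Helper4.BG14
open Cfsg.Agent.Lib.Helper4.BG22 Cfsg.Agent.Lib.Lead.BG14n Cfsg.Agent.Lib.Helper5.BG139

universe u

variable {G : Type u} [Group G] [Finite G]

/-- `N_G(X) ≤ M` for a nontrivial Hall subgroup `X` of `M_σ` -/
theorem normalizer_hall_le (hG : IsMinSimpleOddOrder G) {M X : Subgroup G} (hM : IsCoatom M)
    (hX : X ≤ sigmaCore M) (hX1 : X ≠ ⊥)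
    (hHall : (Nat.card X).Coprime (X.relIndex (sigmaCore M))) :
    Subgroup.normalizer (X : Set G) ≤ M := by
  have hc : Nat.card X ≠ 1 := fun h => hX1 (Subgroup.card_eq_one.mp h)
  obtain ⟨r, hr, hrX⟩ := Nat.exists_prime_and_dvd hc
  haveI : Fact r.Prime := ⟨hr⟩
  obtain ⟨R, -, hR⟩ := exists_sylIn_ge (p := r) (bot_le : (⊥ : Subgroup G) ≤ X) IsPGroup.of_bot
  have hXM : X ≤ M := hX.trans (sigmaCore_le M)
  have hh := (sigmaCore_hall hG hM).1
  have hrσ : r ∈ sigma M := hh.2.1 r hr (hrX.trans (Subgroup.card_dvd_of_le hX))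
  have hRM : SylIn r M R := by
    refine ⟨hR.1.trans hXM, hR.2.1, ?_⟩
    rw [← Subgroup.relIndex_mul_relIndex R X M hR.1 hXM,
      ← Subgroup.relIndex_mul_relIndex X (sigmaCore M) M hX (sigmaCore_le M)]
    intro hd
    rcases (Nat.Prime.dvd_mul hr).mp hd with h | h
    · exact hR.2.2 h
    · rcases (Nat.Prime.dvd_mul hr).mp h with h' | h'
      · exact hr.one_lt.ne' (Nat.eq_one_of_dvd_coprimes hHall hrX h')
      · exact hh.2.2 r hr hrσ h'
  have hN : Subgroup.normalizer (R : Set G) ≤ M :=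
    (Cfsg.Agent.Lib.Helper4.BG12.sigmaData_of_sylIn hM hrσ hRM).hN
  intro g hg
  have hgX : cj g X = X := mem_normalizer_iff_cj.mp hg
  have hR' : SylIn r X (cj g R) := by
    refine ⟨?_, ?_, ?_⟩
    · have := cj_mono g hR.1
      rwa [hgX] at this
    · exact hR.2.1.map _
    · have h1 : (cj g R).relIndex X = R.relIndex X := by
        have a1 := Subgroup.relIndex_mul_relIndex ⊥ (cj g R) X bot_le
          (by have := cj_mono g hR.1; rwa [hgX] at this)
        have a2 := Subgroup.relIndex_mul_relIndex ⊥ R X bot_le hR.1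
        rw [Subgroup.relIndex_bot_left, Subgroup.relIndex_bot_left] at a1 a2
        have h3 : Nat.card ↥(cj g R) = Nat.card ↥R :=
          Subgroup.card_map_of_injective (MulAut.conj g).injective
        rw [h3] at a1
        have hpos : 0 < Nat.card ↥R := Nat.card_pos
        exact Nat.eq_of_mul_eq_mul_left hpos (a1.trans a2.symm)
      rw [h1]
      exact hR.2.2
  obtain ⟨y, hy, hyR⟩ := hR'.conj hR
  have h2 : y * g ∈ Subgroup.normalizer (R : Set G) := by
    rw [mem_normalizer_iff_cj, Cfsg.Agent.Lib.Helper7.cj_mul]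
    exact hyR
  have h3 : y * g ∈ M := hN h2
  have h4 : g = y⁻¹ * (y * g) := by group
  rw [h4]
  exact M.mul_mem (M.inv_mem (hXM hy)) h3

/-- **Type V implies `K ≠ 1`, `U = 1`, `M_F = M_σ`** -/
theorem of_typeV (hG : IsMinSimpleOddOrder G) {M K U : Subgroup G} (hM : IsCoatom M)
    (hKU : IsSigmaDecomposition M K U) (hV : IsOfTypeV M) :
    K ≠ ⊥ ∧ U = ⊥ ∧ fittingHallOf M = sigmaCore M := by
  obtain ⟨W₁, U', W₂, hP, hU', -⟩ := hV
  have hK1 : K ≠ ⊥ := K_ne_bot_of_typeP hG hM hP hKU.hall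
  have hder := sd_commutator_eq hG hM hKU hK1
  have h1 : ⁅M, M⁆ ≤ fittingHallOf M := by
    intro m hm
    obtain ⟨a, ha, b, hb, rfl⟩ := hP.U_compl.2.2.2 m hm
    rw [hU', Subgroup.mem_bot] at hb
    rw [hb, mul_one]
    exact ha
  have h2 : fittingHallOf M ≤ sigmaCore M := fittingHallOf_le_sigmaCore hG hM
  have h3 : sigmaCore M ≤ ⁅M, M⁆ := sigmaCore_le_commutator hG hM
  have h4 : fittingHallOf M = sigmaCore M := le_antisymm h2 (h3.trans h1)
  refine ⟨hK1, ?_, h4⟩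
  have h5 : U ≤ sigmaCore M := by
    have : U ≤ ⁅M, M⁆ := by rw [hder]; exact le_sup_left
    exact this.trans (h1.trans h2)
  rw [← sd_U_inf_sigmaCore hKU]
  exact (inf_eq_left.mpr h5).symm

/-- **Type II implies `K ≠ 1`, `U ≠ 1`** -/
theorem of_typeII (hG : IsMinSimpleOddOrder G) {M K U : Subgroup G} (hM : IsCoatom M)
    (hKU : IsSigmaDecomposition M K U) (hII : IsOfTypeII M) : K ≠ ⊥ ∧ U ≠ ⊥ := by
  obtain ⟨W₁, U', W₂, hP, hU'1, -, -, -, hNU', -⟩ := hII
  have hK1 : K ≠ ⊥ := K_ne_bot_of_typeP hG hM hP hKU.hall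
  refine ⟨hK1, ?_⟩
  intro hU
  apply hNU'
  have hder := sd_commutator_eq hG hM hKU hK1
  rw [hU, bot_sup_eq] at hder
  have hU'σ : U' ≤ sigmaCore M := by rw [← hder]; exact hP.U_compl.2.1
  apply normalizer_hall_le hG hM hU'σ hU'1
  -- `U'` is a Hall subgroup of `M_σ = M'`
  have h1 := Cfsg.Agent.Lib.Helper4.typeP_card_derived hP
  have h2 := Cfsg.Agent.Lib.Helper4.typeP_coprime_U_H hP
  have h3 : Nat.card ↥U' * U'.relIndex (sigmaCore M) = Nat.card ↥(sigmaCore M) := by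
    have := Subgroup.relIndex_mul_relIndex ⊥ U' (sigmaCore M) bot_le hU'σ
    rwa [Subgroup.relIndex_bot_left, Subgroup.relIndex_bot_left] at this
  rw [hder] at h1
  have hpos : 0 < Nat.card ↥U' := Nat.card_pos
  have h4 : U'.relIndex (sigmaCore M) = Nat.card ↥(fittingHallOf M) := by
    apply Nat.eq_of_mul_eq_mul_left hpos
    rw [h3, h1, mul_comm]
  rw [h4]
  exact h2

end Cfsg.Agent.Lib.Helper2.BG16c
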