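import Mathlib
import Cfsg.Agent.Lib.Helper2.BG16c2
import Cfsg.Agent.Lib.Helper2.BG16a1
import Cfsg.Agent.Lib.Helper2.BG14v2
import Cfsg.Agent.Lib.Lead.BG14n5

set_option autoImplicit false
set_option linter.style.haveILetI false
set_option linter.unusedSectionVars false
set_option maxHeartbeats 800000

/-!
# Frobenius type implies `K = 1` and `U ≠ 1`
-/

namespace Cfsg.Agent.Lib.Helper2.BG16c

open Cfsg Cfsg.Agent.Lib.Helper7 Cfsg.Agent.Lib.Helper4 Cfsg.Agent.Lib.Helper4.BG8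
open Cfsg.Agent.Lib.Helper4.BG9 Cfsg.Agent.Lib.Lead.BG10 Cfsg.Agent.Lib.Helper4.BG14
open Cfsg.Agent.Lib.Helper4.BG22 Cfsg.Agent.Lib.Lead.BG14n Cfsg.Agent.Lib.Helper5.BG139
open Cfsg.Agent.Lib.Helper2.BG16a

universe u

variable {G : Type u} [Group G] [Finite G]

/-- `M' ≠ M` for a solvable subgroup `M ≠ 1` -/
theorem not_le_commutator {M : Subgroup G} (hsolv : Group.IsSolvable ↥M) (hM1 : M ≠ ⊥) :
    ¬ M ≤ ⁅M, M⁆ := by
  intro hle
  haveI : Nontrivial ↥M := (Subgroup.nontrivial_iff_ne_bot M).mpr hM1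
  have h := Group.IsSolvable.commutator_lt_top_of_nontrivial ↥M
  apply h.ne
  rw [eq_top_iff]
  intro m _
  have h1 : (m : G) ∈ ⁅M, M⁆ := hle m.2
  rw [← Subgroup.map_subtype_commutator] at h1
  obtain ⟨c, hc, hcm⟩ := h1
  have : c = m := Subtype.ext hcm
  rwa [this] at hc

/-- **Frobenius type implies `K = 1` and `U ≠ 1`**, given that `K* ∩ M_F ≠ 1` when `K ≠ 1` -/
theorem of_typeF (hG : IsMinSimpleOddOrder G) {M K U : Subgroup G} (hM : IsCoatom M)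
    (hKU : IsSigmaDecomposition M K U) (hF : IsOfTypeF ↥M)
    (hKs : K ≠ ⊥ → (sigmaCore M ⊓ Subgroup.centralizer (K : Set G)) ⊓ fittingHallOf M ≠ ⊥) :
    K = ⊥ ∧ U ≠ ⊥ := by
  have hsolv : Group.IsSolvable ↥M := solvable_of_ne_top hG hM.1
  have hK : K = ⊥ := by
    by_contra hK1
    obtain ⟨-, -, -, -, U', -, hcompl, -, ⟨U₀, hU₀, hexp, hreg⟩⟩ := hF
    have hc : Nat.card K ≠ 1 := fun h => hK1 (Subgroup.card_eq_one.mp h)
    obtain ⟨r, hr, hrK⟩ := Nat.exists_prime_and_dvd hc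
    haveI : Fact r.Prime := ⟨hr⟩
    have hrκ : r ∈ kappa M := hKU.hall.2.1 r hr hrK
    have hrσ : r ∉ sigma M := hrκ.2.2.1
    -- `r` does not divide `|M_F|`
    have hrF : ¬ r ∣ Nat.card ↥(fittingHall ↥M) := by
      intro hd
      rw [← card_fittingHallOf] at hd
      exact hrσ ((sigmaCore_hall hG hM).1.2.1 r hr
        (hd.trans (Subgroup.card_dvd_of_le (fittingHallOf_le_sigmaCore hG hM))))
    have hcard := hcompl.card_mul_card
    have hrU' : r ∣ Nat.card ↥U' := by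
      have h1 : r ∣ Nat.card ↥(fittingHall ↥M) * Nat.card ↥U' := by rw [hcard]; exact hrκ.2.1
      exact ((Nat.Prime.dvd_mul hr).mp h1).resolve_left hrF
    -- an element of order `r` in `U₀`
    have hrU₀ : r ∣ Nat.card ↥U₀ := by
      obtain ⟨a, ha⟩ := exists_prime_orderOf_dvd_card' r hrU'
      have h1 : r ∣ Monoid.exponent ↥U' := by rw [← ha]; exact Monoid.order_dvd_exponent a
      rw [← hexp] at h1
      exact h1.trans Group.exponent_dvd_nat_card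
    obtain ⟨w, hw⟩ := exists_prime_orderOf_dvd_card' r hrU₀
    have hwo : orderOf ((w : ↥M) : G) = r := by
      rw [Subgroup.orderOf_coe, Subgroup.orderOf_coe, hw]
    have hwM : ((w : ↥M) : G) ∈ M := (w : ↥M).2
    have hR : ∀ p : ℕ, p.Prime → p ∣ Nat.card ↥(Subgroup.zpowers ((w : ↥M) : G)) → p ∈ kappa M := by
      intro p hp hd
      rw [Nat.card_zpowers, hwo] at hd
      rw [(Nat.prime_dvd_prime_iff_eq hp hr).mp hd]
      exact hrκ
    obtain ⟨m, hm, hmK⟩ := exists_cj_le_hall hsolv (kappa M) hKU.hall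
      (Subgroup.zpowers_le.mpr hwM) hR
    have hkK : m * ((w : ↥M) : G) * m⁻¹ ∈ K := hmK (conj_mem_cj (Subgroup.mem_zpowers _))
    obtain ⟨⟨y, hy⟩, hy1⟩ := (Subgroup.ne_bot_iff_exists_ne_one).mp (hKs hK1)
    have hy1' : y ≠ 1 := fun h => hy1 (Subtype.ext h)
    have hyk : (m * ((w : ↥M) : G) * m⁻¹) * y = y * (m * ((w : ↥M) : G) * m⁻¹) :=
      Subgroup.mem_centralizer_iff.mp hy.1.2 _ hkK
    -- `x = m⁻¹ y m ∈ M_F` commutes with `w`
    have hn := le_normalizer_fittingHallOf M (M.inv_mem hm)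
    have hxF : m⁻¹ * y * m⁻¹⁻¹ ∈ fittingHallOf M := (Subgroup.mem_normalizer_iff.mp hn y).mp hy.2
    have hxM : m⁻¹ * y * m⁻¹⁻¹ ∈ M := fittingHallOf_le M hxF
    have hxF' : (⟨m⁻¹ * y * m⁻¹⁻¹, hxM⟩ : ↥M) ∈ fittingHall ↥M := by
      rw [fittingHall_eq_subgroupOf]
      exact hxF
    have hw1 : (w : ↥M) ≠ 1 := by
      intro h
      rw [h] at hwo
      simp at hwo
      exact hr.one_lt.ne hwo
    have hcomm : (w : ↥M) * ⟨m⁻¹ * y * m⁻¹⁻¹, hxM⟩ = ⟨m⁻¹ * y * m⁻¹⁻¹, hxM⟩ * (w : ↥M) := by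
      apply Subtype.ext
      show ((w : ↥M) : G) * (m⁻¹ * y * m⁻¹⁻¹) = (m⁻¹ * y * m⁻¹⁻¹) * ((w : ↥M) : G)
      have e1 : ((w : ↥M) : G) * (m⁻¹ * y * m⁻¹⁻¹) =
          m⁻¹ * ((m * ((w : ↥M) : G) * m⁻¹) * y) * m := by group
      have e2 : (m⁻¹ * y * m⁻¹⁻¹) * ((w : ↥M) : G) =
          m⁻¹ * (y * (m * ((w : ↥M) : G) * m⁻¹)) * m := by group
      rw [e1, e2, hyk]
    have hx1 := hreg (w : ↥M) w.2 hw1 _ hxF' hcomm
    apply hy1'
    have h5 : m⁻¹ * y * m⁻¹⁻¹ = 1 := congrArg Subtype.val hx1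
    have : y = m * (m⁻¹ * y * m⁻¹⁻¹) * m⁻¹ := by group
    rw [this, h5]; group
  refine ⟨hK, ?_⟩
  intro hU
  have h1 := Cfsg.Agent.Lib.Lead.BG10.IsComplIn.sup_eq hKU.compl
  rw [hK, hU, bot_sup_eq, bot_sup_eq] at h1
  apply not_le_commutator hsolv (Cfsg.Agent.Lib.Helper2.BG11.coatom_ne_bot hG hM)
  rw [← h1]
  have := sigmaCore_le_commutator hG hM
  rwa [h1] at this ⊢

/-- **Type I implies `K = 1` and `U ≠ 1`** when `M_F = M_σ` -/
theorem of_typeI_of_eq (hG : IsMinSimpleOddOrder G) {M K U : Subgroup G} (hM : IsCoatom M)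
    (hKU : IsSigmaDecomposition M K U) (hI : IsOfTypeI M) (hFσ : fittingHallOf M = sigmaCore M) :
    K = ⊥ ∧ U ≠ ⊥ := by
  apply of_typeF hG hM hKU hI.1
  intro hK1
  rw [hFσ, inf_eq_left.mpr inf_le_left]
  exact (Cfsg.Agent.Lib.Helper2.BG14v.kdata' hG hM hKU.hall hK1).fix_ne

end Cfsg.Agent.Lib.Helper2.BG16c
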