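import Mathlib
import Cfsg.Agent.Lib.Helper2.BG16c3
import Cfsg.Agent.Lib.Helper2.BG16a2
import Cfsg.Agent.Lib.Helper2.BG14t1
import Cfsg.Agent.Lib.Helper7.Wielandt1

set_option autoImplicit false
set_option linter.style.haveILetI false
set_option linter.unusedSectionVars false
set_option maxHeartbeats 800000

/-!
# Types III and IV imply `K ≠ 1`, `U = 1`, `M_F ≠ M_σ` (given B and G, Theorem 15.2(d))
-/

namespace Cfsg.Agent.Lib.Helper2.BG16c

open Cfsg Cfsg.Agent.Lib.Helper7 Cfsg.Agent.Lib.Helper4 Cfsg.Agent.Lib.Helper4.BG8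
open Cfsg.Agent.Lib.Helper4.BG9 Cfsg.Agent.Lib.Lead.BG10 Cfsg.Agent.Lib.Helper4.BG14
open Cfsg.Agent.Lib.Helper4.BG22 Cfsg.Agent.Lib.Lead.BG14n Cfsg.Agent.Lib.Helper5.BG139
open Cfsg.Agent.Lib.Helper2.BG16a

universe u

variable {G : Type u} [Group G] [Finite G]

/-- type P data with `N_G(U') ≤ M`, `U' ≠ 1` force `K ≠ 1`, `U = 1`, `M_F ≠ M_σ`, provided that
`N_G(U) ⊄ M` in the case `K ≠ 1`, `U ≠ 1` (B and G, Theorem 15.2(d)) -/
theorem of_typeP_normalizer_le (hG : IsMinSimpleOddOrder G) {M K U W₁ U' W₂ : Subgroup G}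
    (hM : IsCoatom M) (hKU : IsSigmaDecomposition M K U)
    (h1363 : K ≠ ⊥ → U ≠ ⊥ → ¬ Subgroup.normalizer (U : Set G) ≤ M)
    (hP : IsTypePWith M W₁ U' W₂) (hU'1 : U' ≠ ⊥) (hN : Subgroup.normalizer (U' : Set G) ≤ M) :
    K ≠ ⊥ ∧ U = ⊥ ∧ fittingHallOf M ≠ sigmaCore M := by
  have hK1 : K ≠ ⊥ := K_ne_bot_of_typeP hG hM hP hKU.hall
  have hder := sd_commutator_eq hG hM hKU hK1
  have hU : U = ⊥ := by
    by_contra hU1
    apply h1363 hK1 hU1
    have hFσ := (fittingHallOf_sup hG hM hKU hK1 hU1).2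
    have hLM : U ⊔ sigmaCore M ≤ M := sup_le (sd_U_le hKU) (sigmaCore_le M)
    have hLtop : U ⊔ sigmaCore M ≠ ⊤ := fun h => hM.1 (eq_top_iff.mpr (h ▸ hLM))
    have hsolv : Group.IsSolvable ↥(U ⊔ sigmaCore M) := solvable_of_ne_top hG hLtop
    have hh := (sigmaCore_hall hG hM).1
    have h1 := Cfsg.Agent.Lib.Helper4.typeP_card_derived hP
    have h2 := Cfsg.Agent.Lib.Helper4.typeP_coprime_U_H hP
    rw [hFσ] at h1 h2
    rw [hder] at h1
    have hU'L : U' ≤ U ⊔ sigmaCore M := by rw [← hder]; exact hP.U_compl.2.1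
    have hU'hall : IsPiHallOf {p | p ∉ sigma M} U' (U ⊔ sigmaCore M) := by
      refine ⟨hU'L, ?_, ?_⟩
      · intro p hp hd hσ
        have h3 : ¬ p ∣ (sigmaCore M).relIndex M := hh.2.2 p hp hσ
        have h4 : Nat.card ↥(sigmaCore M) * (sigmaCore M).relIndex M = Nat.card M := by
          have := Subgroup.relIndex_mul_relIndex ⊥ (sigmaCore M) M bot_le (sigmaCore_le M)
          rwa [Subgroup.relIndex_bot_left, Subgroup.relIndex_bot_left] at this
        have h5 : p ∣ Nat.card ↥(sigmaCore M) * (sigmaCore M).relIndex M := by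
          rw [h4]; exact hσ.2.1
        have h6 : p ∣ Nat.card ↥(sigmaCore M) := ((Nat.Prime.dvd_mul hp).mp h5).resolve_right h3
        exact hp.one_lt.ne' (Nat.eq_one_of_dvd_coprimes h2 hd h6)
      · intro p hp hpσ hd
        apply hpσ
        apply hh.2.1 p hp
        have h7 : Nat.card ↥U' * U'.relIndex (U ⊔ sigmaCore M) = Nat.card ↥(U ⊔ sigmaCore M) := by
          have := Subgroup.relIndex_mul_relIndex ⊥ U' (U ⊔ sigmaCore M) bot_le hU'L
          rwa [Subgroup.relIndex_bot_left, Subgroup.relIndex_bot_left] at this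
        have hpos : 0 < Nat.card ↥U' := Nat.card_pos
        have h8 : U'.relIndex (U ⊔ sigmaCore M) = Nat.card ↥(sigmaCore M) := by
          apply Nat.eq_of_mul_eq_mul_left hpos
          rw [h7, h1, mul_comm]
        rwa [h8] at hd
    obtain ⟨k, hk, hkU⟩ := hall_conj hsolv _ hU'hall
      (Cfsg.Agent.Lib.Helper2.BG14t.sd_hall_U hG hM hKU)
    rw [← hkU, Cfsg.Agent.Lib.Helper7.normalizer_cj]
    exact cj_le_of_mem (hLM hk) hN
  refine ⟨hK1, hU, ?_⟩
  intro hFσ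
  apply hU'1
  rw [hU, bot_sup_eq] at hder
  have h3 : U' ≤ sigmaCore M := by rw [← hder]; exact hP.U_compl.2.1
  rw [← hP.U_compl.2.2.1, hFσ]
  exact (inf_eq_right.mpr h3).symm

theorem of_typeIII_IV (hG : IsMinSimpleOddOrder G) {M K U : Subgroup G}
    (hM : IsCoatom M) (hKU : IsSigmaDecomposition M K U)
    (h1363 : K ≠ ⊥ → U ≠ ⊥ → ¬ Subgroup.normalizer (U : Set G) ≤ M)
    (h : IsOfTypeIII M ∨ IsOfTypeIV M) :
    K ≠ ⊥ ∧ U = ⊥ ∧ fittingHallOf M ≠ sigmaCore M := by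
  rcases h with ⟨W₁, U', W₂, hP, hU'1, -, -, -, hN⟩ | ⟨W₁, U', W₂, hP, hU'1, -, -, -, hN⟩
  · exact of_typeP_normalizer_le hG hM hKU h1363 hP hU'1 hN
  · exact of_typeP_normalizer_le hG hM hKU h1363 hP hU'1 hN

end Cfsg.Agent.Lib.Helper2.BG16c
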