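import Mathlib
import Cfsg.Agent.Lib.Helper2.BG16b2
import Cfsg.Agent.Lib.Helper2.BG15a4
import Cfsg.Agent.Lib.Helper4.NilpSub
import Cfsg.Agent.Lib.Helper2.BG16c1

set_option autoImplicit false
set_option linter.style.haveILetI false
set_option linter.unusedSectionVars false
set_option maxHeartbeats 800000

/-!
# `K* ≤ M_F` and `M_F` is not cyclic (B and G, Theorem 15.2(e)), modulo the structure theorem for
`M_F ≠ M_σ`
-/

namespace Cfsg.Agent.Lib.Helper2.BG16d

open Cfsg Cfsg.Agent.Lib.Helper7 Cfsg.Agent.Lib.Helper4 Cfsg.Agent.Lib.Helper4.BG8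
open Cfsg.Agent.Lib.Helper4.BG9 Cfsg.Agent.Lib.Lead.BG10 Cfsg.Agent.Lib.Helper5.BG147
open Cfsg.Agent.Lib.Lead.BG95 Cfsg.Agent.Lib.Helper4.BG14 Cfsg.Agent.Lib.Helper4.BG22
open Cfsg.Agent.Lib.Lead.BG14n Cfsg.Agent.Lib.Helper5.BG139 Cfsg.Agent.Lib.Helper2.BG15a

universe u

variable {G : Type u} [Group G] [Finite G]

/-- a normal Hall subgroup of a solvable subgroup has a complement -/
theorem exists_isComplIn_of_normal_hall {L Q : Subgroup G} (hsolv : Group.IsSolvable ↥L)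
    (hQL : Q ≤ L) (hn : L ≤ Subgroup.normalizer (Q : Set G))
    (hcop : (Nat.card Q).Coprime (Q.relIndex L)) : ∃ D : Subgroup G, IsComplIn Q D L := by
  obtain ⟨D, hD, -⟩ := exists_hall_ge hsolv {p | ¬ p ∣ Nat.card Q} (bot_le : (⊥ : Subgroup G) ≤ L)
    (fun p hp hd => by
      rw [Subgroup.card_bot] at hd
      exact absurd (Nat.dvd_one.mp hd) hp.one_lt.ne')
  have hDL : D ≤ L := hD.1
  have hDn : D ≤ Subgroup.normalizer (Q : Set G) := hDL.trans hn
  have hcopQD : (Nat.card Q).Coprime (Nat.card D) := by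
    apply Nat.coprime_of_dvd
    intro p hp h1 h2
    exact hD.2.1 p hp h2 h1
  have hdisj : Q ⊓ D = ⊥ := (Subgroup.disjoint_of_coprime_natCard hcopQD).eq_bot
  have h1 : Nat.card ↥D * D.relIndex L = Nat.card ↥L := by
    have := Subgroup.relIndex_mul_relIndex ⊥ D L bot_le hDL
    rwa [Subgroup.relIndex_bot_left, Subgroup.relIndex_bot_left] at this
  have h2 : Nat.card ↥Q * Q.relIndex L = Nat.card ↥L := by
    have := Subgroup.relIndex_mul_relIndex ⊥ Q L bot_le hQL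
    rwa [Subgroup.relIndex_bot_left, Subgroup.relIndex_bot_left] at this
  -- `|D| = |L : Q|`
  have h3 : Nat.card ↥D ∣ Q.relIndex L := by
    have : Nat.card ↥D ∣ Nat.card ↥Q * Q.relIndex L := by rw [h2, ← h1]; exact dvd_mul_right _ _
    exact hcopQD.symm.dvd_of_dvd_mul_left this
  have h4 : Q.relIndex L ∣ Nat.card ↥D := by
    have hcb : (Q.relIndex L).Coprime (D.relIndex L) := by
      apply Nat.coprime_of_dvd
      intro p hp ha hb
      have hpQ : p ∣ Nat.card Q := by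
        by_contra hpQ
        exact hD.2.2 p hp hpQ hb
      exact hp.one_lt.ne' (Nat.eq_one_of_dvd_coprimes hcop hpQ ha)
    have : Q.relIndex L ∣ Nat.card ↥D * D.relIndex L := by rw [h1, ← h2]; exact dvd_mul_left _ _
    exact hcb.dvd_of_dvd_mul_right this
  have h5 : Nat.card ↥D = Q.relIndex L := Nat.dvd_antisymm h3 h4
  have h6 := Cfsg.Agent.Lib.Lead.card_sup_mul_card_inf D Q hDn
  rw [inf_comm, hdisj, Subgroup.card_bot, mul_one, h5, mul_comm, h2] at h6
  have h7 : D ⊔ Q = L := by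
    apply Subgroup.eq_of_le_of_card_ge (sup_le hDL hQL)
    rw [h6]
  refine ⟨D, hQL, hDL, hdisj, ?_⟩
  intro m hm
  have hm' : m ∈ ((Q ⊔ D : Subgroup G) : Set G) := by rw [sup_comm, h7]; exact hm
  rw [Subgroup.coe_mul_of_right_le_normalizer_left Q D hDn] at hm'
  obtain ⟨a, ha, b, hb, rfl⟩ := Set.mem_mul.mp hm'
  exact ⟨a, ha, b, hb, rfl⟩

/-- a cyclic subgroup all of whose elements have order dividing `s` has order dividing `s` -/
theorem card_dvd_of_cyclic_of_pow {V : Subgroup G} (hc : IsCyclic ↥V) {s : ℕ}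
    (hs : ∀ a ∈ V, a ^ s = 1) : Nat.card V ∣ s := by
  haveI := hc
  obtain ⟨c, hcg⟩ := IsCyclic.exists_generator (α := ↥V)
  have h1 : Nat.card ↥V = orderOf c := by
    rw [← Nat.card_zpowers]
    have : Subgroup.zpowers c = ⊤ := (Subgroup.eq_top_iff' _).mpr hcg
    rw [this, Subgroup.card_top]
  rw [h1]
  apply orderOf_dvd_of_pow_eq_one
  apply Subtype.ext
  rw [Subgroup.coe_pow]
  exact hs c c.2

/-- **B and G, Theorem 15.2(e)** for `M_F = M_σ` -/
theorem kstar_le_of_eq (hG : IsMinSimpleOddOrder G) {M K U : Subgroup G} (hM : IsCoatom M)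
    (hKU : IsSigmaDecomposition M K U) (hK1 : K ≠ ⊥) (hF : fittingHallOf M = sigmaCore M) :
    kstar M K ≤ fittingHallOf M ∧ ¬ IsCyclic ↥(fittingHallOf M) := by
  refine ⟨by rw [hF]; exact inf_le_left, ?_⟩
  rw [hF]
  intro hcyc
  by_cases hU1 : U = ⊥
  · -- `M' = M_σ` is abelian, so `K* ≤ M'' = 1`
    have hder := sd_commutator_eq hG hM hKU hK1
    rw [hU1, bot_sup_eq] at hder
    have h1 := sd_commutator_inf_centralizer_le hG hM hKU hK1
    rw [hder] at h1
    have hab : ⁅sigmaCore M, sigmaCore M⁆ = ⊥ := by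
      rw [Subgroup.commutator_eq_bot_iff_le_centralizer]
      intro a ha
      rw [Subgroup.mem_centralizer_iff]
      intro b hb
      haveI := hcyc
      obtain ⟨c, hc⟩ := IsCyclic.exists_generator (α := ↥(sigmaCore M))
      obtain ⟨i, hi⟩ := Subgroup.mem_zpowers_iff.mp (hc ⟨a, ha⟩)
      obtain ⟨j, hj⟩ := Subgroup.mem_zpowers_iff.mp (hc ⟨b, hb⟩)
      have h5 : (⟨b, hb⟩ : ↥(sigmaCore M)) * ⟨a, ha⟩ = ⟨a, ha⟩ * ⟨b, hb⟩ := by
        rw [← hi, ← hj, ← zpow_add, ← zpow_add, add_comm]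
      exact congrArg Subtype.val h5
    rw [hab, le_bot_iff] at h1
    exact (Cfsg.Agent.Lib.Helper2.BG14v.kdata' hG hM hKU.hall hK1).fix_ne h1
  · -- `M_σ` contains an elementary abelian subgroup of order `s ^ 3`
    have hσ1 := Cfsg.Agent.Lib.Helper2.BG11.sigmaCore_ne_bot hG hM
    have hc : Nat.card ↥(sigmaCore M) ≠ 1 := fun h => hσ1 (Subgroup.card_eq_one.mp h)
    obtain ⟨s, hs, hsd⟩ := Nat.exists_prime_and_dvd hc
    obtain ⟨V, hVσ, hVe, hV3, -, -, -⟩ := exists_rank3 hG hM hKU hK1 hU1 hs hsd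
    have hVc : IsCyclic ↥V := Cfsg.Agent.Lib.Helper2.BG16c.isCyclic_of_le hcyc hVσ
    have h1 := card_dvd_of_cyclic_of_pow hVc hVe.2
    have h2 : s ^ 3 ∣ s := hV3.trans h1
    have h3 : s ^ 3 ≤ s := Nat.le_of_dvd hs.pos h2
    have h4 : s ^ 1 < s ^ 3 := Nat.pow_lt_pow_right hs.one_lt (by norm_num)
    rw [pow_one] at h4
    omega

/-- **B and G, Theorem 15.2(e)** for `M_F ≠ M_σ`, from the structure theorem (the hypotheses are
conjuncts of the statement S1437) -/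
theorem kstar_le_of_ne (hG : IsMinSimpleOddOrder G) {M K : Subgroup G} (hM : IsCoatom M) {q : ℕ}
    (hq : q.Prime) (hqK : Nat.card ↥(kstar M K) = q) (hp : (Nat.card K).Prime)
    {Q : Subgroup G} (hQF : Q ≤ fittingHallOf M) (hQn : M ≤ Subgroup.normalizer (Q : Set G))
    (hQq : IsPGroup q Q) (hQs : ¬ q ∣ Q.relIndex (sigmaCore M))
    (hD : ∀ D : Subgroup G, IsComplIn Q D (sigmaCore M) →
      Nat.card Q = Nat.card ↥(Q ⊓ Subgroup.centralizer (D : Set G)) * q ^ Nat.card K ∧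
      ∀ a ∈ Q, a ^ q ∈ Q ⊓ Subgroup.centralizer (D : Set G)) :
    kstar M K ≤ fittingHallOf M ∧ ¬ IsCyclic ↥(fittingHallOf M) := by
  haveI : Fact q.Prime := ⟨hq⟩
  have hQσ : Q ≤ sigmaCore M := hQF.trans (fittingHallOf_le_sigmaCore hG hM)
  have hQsyl : SylIn q (sigmaCore M) Q := ⟨hQσ, hQq, hQs⟩
  constructor
  · refine le_trans ?_ hQF
    apply hQsyl.le_of_normal ((sigmaCore_le M).trans hQn) inf_le_left
    exact IsPGroup.of_card (n := 1) (by rw [hqK, pow_one])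
  · intro hcyc
    have hσtop : sigmaCore M ≠ ⊤ := fun h => hM.1 (eq_top_iff.mpr (h ▸ sigmaCore_le M))
    have hcop : (Nat.card Q).Coprime (Q.relIndex (sigmaCore M)) := by
      obtain ⟨k, hk⟩ := IsPGroup.iff_card.mp hQq
      rw [hk]
      exact Nat.Coprime.pow_left k ((Nat.Prime.coprime_iff_not_dvd hq).mpr hQs)
    obtain ⟨D, hDc⟩ := exists_isComplIn_of_normal_hall (solvable_of_ne_top hG hσtop) hQσ
      ((sigmaCore_le M).trans hQn) hcop
    obtain ⟨hcard, hpow⟩ := hD D hDc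
    have hQc : IsCyclic ↥Q := Cfsg.Agent.Lib.Helper2.BG16c.isCyclic_of_le hcyc hQF
    haveI := hQc
    obtain ⟨c, hcg⟩ := IsCyclic.exists_generator (α := ↥Q)
    have h1 : Nat.card ↥Q = orderOf (c : G) := by
      rw [Subgroup.orderOf_coe, ← Nat.card_zpowers]
      have : Subgroup.zpowers c = ⊤ := (Subgroup.eq_top_iff' _).mpr hcg
      rw [this, Subgroup.card_top]
    -- `⟨c ^ q⟩ ≤ Q₀` has index at most `q` in `Q`
    have h2 : Subgroup.zpowers ((c : G) ^ q) ≤ Q ⊓ Subgroup.centralizer (D : Set G) :=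
      Subgroup.zpowers_le.mpr (hpow c c.2)
    have h3 : Nat.card ↥(Subgroup.zpowers ((c : G) ^ q)) ∣
        Nat.card ↥(Q ⊓ Subgroup.centralizer (D : Set G)) := Subgroup.card_dvd_of_le h2
    rw [Nat.card_zpowers, orderOf_pow, ← h1] at h3
    have hp2 : 2 ≤ Nat.card ↥K := hp.two_le
    set n := Nat.card ↥Q with hn
    set m := Nat.card ↥(Q ⊓ Subgroup.centralizer (D : Set G)) with hm
    have hmpos : 0 < m := Nat.card_pos
    have hnpos : 0 < n := Nat.card_pos
    have hg : 0 < n.gcd q := Nat.gcd_pos_of_pos_left q hnpos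
    have hgq : n.gcd q ≤ q := Nat.gcd_le_right (m := n) hq.pos
    -- `n / gcd(n, q) ∣ m` gives `n ≤ m * q`
    have h4 : n ≤ m * q := by
      have h5 : n / n.gcd q ≤ m := Nat.le_of_dvd hmpos h3
      have h6 : n = n / n.gcd q * n.gcd q := (Nat.div_mul_cancel (Nat.gcd_dvd_left n q)).symm
      calc n = n / n.gcd q * n.gcd q := h6
        _ ≤ m * q := Nat.mul_le_mul h5 hgq
    have h7 : q ^ 2 ≤ q ^ Nat.card ↥K := Nat.pow_le_pow_right hq.pos hp2
    have h8 : m * q ^ 2 ≤ m * q := by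
      calc m * q ^ 2 ≤ m * q ^ Nat.card ↥K := Nat.mul_le_mul_left m h7
        _ = n := hcard.symm
        _ ≤ m * q := h4
    have h9 : q ^ 2 ≤ q := Nat.le_of_mul_le_mul_left h8 hmpos
    have h10 : q ^ 1 < q ^ 2 := Nat.pow_lt_pow_right hq.one_lt (by norm_num)
    rw [pow_one] at h10
    omega

end Cfsg.Agent.Lib.Helper2.BG16d
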