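import Mathlib
import Cfsg.Agent.Lib.Helper2.BG16d1

set_option autoImplicit false
set_option linter.style.haveILetI false
set_option linter.unusedSectionVars false
set_option maxHeartbeats 800000

/-!
# Invariant complements of normal Hall subgroups
-/

namespace Cfsg.Agent.Lib.Helper2.BG16d

open Cfsg Cfsg.Agent.Lib.Helper7 Cfsg.Agent.Lib.Helper4 Cfsg.Agent.Lib.Helper4.BG8
open Cfsg.Agent.Lib.Helper5.BG139

universe u

variable {G : Type u} [Group G] [Finite G]

/-- a normal Hall subgroup `Q` of a solvable subgroup `L` has a complement containing a given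
subgroup `A` of order prime to `|Q|` -/
theorem exists_isComplIn_of_normal_hall_ge {L Q A : Subgroup G} (hsolv : Group.IsSolvable ↥L)
    (hQL : Q ≤ L) (hn : L ≤ Subgroup.normalizer (Q : Set G))
    (hcop : (Nat.card Q).Coprime (Q.relIndex L)) (hAL : A ≤ L)
    (hAQ : (Nat.card A).Coprime (Nat.card Q)) : ∃ D : Subgroup G, IsComplIn Q D L ∧ A ≤ D := by
  obtain ⟨D, hD, hAD⟩ := exists_hall_ge hsolv {p | ¬ p ∣ Nat.card Q} hAL
    (fun p hp hd h => hp.one_lt.ne' (Nat.eq_one_of_dvd_coprimes hAQ hd h))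
  have hDL : D ≤ L := hD.1
  have hDn : D ≤ Subgroup.normalizer (Q : Set G) := hDL.trans hn
  have hcopQD : (Nat.card Q).Coprime (Nat.card D) := by
    apply Nat.coprime_of_dvd
    intro p hp h1 h2
    exact hD.2.1 p hp h2 h1
  have hdisj : Q ⊓ D = ⊥ := (Subgroup.disjoint_of_coprime_natCard hcopQD).eq_bot
  have h1 : Nat.card ↥D * D.relIndex L = Nat.card ↥L := by
    have := Subgroup.relIndex_mul_relIndex ⊥ D L bot_le hDL
    rwa [Subgroup.relIndex_bot_left, Subgroup.relIndex_bot_left] at this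
  have h2 : Nat.card ↥Q * Q.relIndex L = Nat.card ↥L := by
    have := Subgroup.relIndex_mul_relIndex ⊥ Q L bot_le hQL
    rwa [Subgroup.relIndex_bot_left, Subgroup.relIndex_bot_left] at this
  have h3 : Nat.card ↥D ∣ Q.relIndex L := by
    have : Nat.card ↥D ∣ Nat.card ↥Q * Q.relIndex L := by rw [h2, ← h1]; exact dvd_mul_right _ _
    exact hcopQD.symm.dvd_of_dvd_mul_left this
  have h4 : Q.relIndex L ∣ Nat.card ↥D := by
    have hcb : (Q.relIndex L).Coprime (D.relIndex L) := by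
      apply Nat.coprime_of_dvd
      intro p hp ha hb
      have hpQ : p ∣ Nat.card Q := by
        by_contra hpQ
        exact hD.2.2 p hp hpQ hb
      exact hp.one_lt.ne' (Nat.eq_one_of_dvd_coprimes hcop hpQ ha)
    have : Q.relIndex L ∣ Nat.card ↥D * D.relIndex L := by rw [h1, ← h2]; exact dvd_mul_left _ _
    exact hcb.dvd_of_dvd_mul_right this
  have h5 : Nat.card ↥D = Q.relIndex L := Nat.dvd_antisymm h3 h4
  have h6 := Cfsg.Agent.Lib.Lead.card_sup_mul_card_inf D Q hDn
  rw [inf_comm, hdisj, Subgroup.card_bot, mul_one, h5, mul_comm, h2] at h6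
  have h7 : D ⊔ Q = L := by
    apply Subgroup.eq_of_le_of_card_ge (sup_le hDL hQL)
    rw [h6]
  refine ⟨D, ⟨hQL, hDL, hdisj, ?_⟩, hAD⟩
  intro m hm
  have hm' : m ∈ ((Q ⊔ D : Subgroup G) : Set G) := by rw [sup_comm, h7]; exact hm
  rw [Subgroup.coe_mul_of_right_le_normalizer_left Q D hDn] at hm'
  obtain ⟨a, ha, b, hb, rfl⟩ := Set.mem_mul.mp hm'
  exact ⟨a, ha, b, hb, rfl⟩

/-- **invariant complements**: `M = K S` solvable with `S` normal, `(|K|, |S|) = 1`, `F ≤ S` a Hall
subgroup of `S` normal in `M`; then `F` has a `K`-invariant complement in `S` -/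
theorem exists_invariant_compl {M K S F : Subgroup G} (hsolv : Group.IsSolvable ↥M)
    (hc : IsComplIn K S M) (hSn : M ≤ Subgroup.normalizer (S : Set G))
    (hKS : (Nat.card K).Coprime (Nat.card S)) (hFS : F ≤ S)
    (hFn : M ≤ Subgroup.normalizer (F : Set G))
    (hFh : (Nat.card F).Coprime (F.relIndex S)) :
    ∃ U' : Subgroup G, IsComplIn F U' S ∧ K ≤ Subgroup.normalizer (U' : Set G) := by
  have hSM : S ≤ M := hc.2.1
  have hKM : K ≤ M := hc.1
  have hFM : F ≤ M := hFS.trans hSM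
  have hKF : (Nat.card K).Coprime (Nat.card F) :=
    hKS.coprime_dvd_right (Subgroup.card_dvd_of_le hFS)
  -- `F` is a Hall subgroup of `M`
  have hSK : S.relIndex M = Nat.card K := by
    have h1 := Cfsg.Agent.Lib.Helper4.BG14.card_mul_of_isComplIn hc
    have h2 : Nat.card ↥S * S.relIndex M = Nat.card ↥M := by
      have := Subgroup.relIndex_mul_relIndex ⊥ S M bot_le hSM
      rwa [Subgroup.relIndex_bot_left, Subgroup.relIndex_bot_left] at this
    have hpos : 0 < Nat.card ↥S := Nat.card_pos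
    apply Nat.eq_of_mul_eq_mul_left hpos
    rw [h2, h1, mul_comm]
  have hFM' : (Nat.card F).Coprime (F.relIndex M) := by
    rw [← Subgroup.relIndex_mul_relIndex F S M hFS hSM, hSK]
    exact Nat.Coprime.mul_right hFh hKF.symm
  obtain ⟨D, hD, hKD⟩ := exists_isComplIn_of_normal_hall_ge hsolv hFM hFn hFM' hKM hKF
  refine ⟨D ⊓ S, ⟨hFS, inf_le_right, ?_, ?_⟩, ?_⟩
  · rw [eq_bot_iff, ← hD.2.2.1]
    exact inf_le_inf_left _ inf_le_left
  · intro s hs
    obtain ⟨f, hf, d, hd, rfl⟩ := hD.2.2.2 s (hSM hs)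
    refine ⟨f, hf, d, ⟨hd, ?_⟩, rfl⟩
    have : d = f⁻¹ * (f * d) := by group
    rw [this]
    exact S.mul_mem (S.inv_mem (hFS hf)) hs
  · intro k hk
    rw [Subgroup.mem_normalizer_iff]
    intro x
    have hkS := Subgroup.mem_normalizer_iff.mp (hSn (hKM hk)) x
    constructor
    · rintro ⟨hxD, hxS⟩
      exact ⟨D.mul_mem (D.mul_mem (hKD hk) hxD) (D.inv_mem (hKD hk)), hkS.mp hxS⟩
    · rintro ⟨hxD, hxS⟩
      refine ⟨?_, hkS.mpr hxS⟩
      have : x = k⁻¹ * (k * x * k⁻¹) * k := by group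
      rw [this]
      exact D.mul_mem (D.mul_mem (D.inv_mem (hKD hk)) hxD) (hKD hk)

end Cfsg.Agent.Lib.Helper2.BG16d
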