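import Mathlib
import Cfsg.Agent.Lib.Helper2.BG16c4
import Cfsg.Agent.Lib.Helper4.BG19g
import Cfsg.Agent.S1351

set_option autoImplicit false
set_option linter.style.haveILetI false
set_option linter.unusedSectionVars false
set_option maxHeartbeats 800000

/-!
# Sylow normalizers of `M_s` (B and G, Section 16), given Theorem 15.2(d)
-/

namespace Cfsg.Agent.Lib.Helper2.BG16e

open Cfsg Cfsg.Agent.Lib.Helper7 Cfsg.Agent.Lib.Helper4 Cfsg.Agent.Lib.Helper4.BG8
open Cfsg.Agent.Lib.Helper4.BG9 Cfsg.Agent.Lib.Lead.BG10 Cfsg.Agent.Lib.Helper4.BG14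
open Cfsg.Agent.Lib.Helper4.BG22 Cfsg.Agent.Lib.Lead.BG14n Cfsg.Agent.Lib.Helper5.BG139
open Cfsg.Agent.Lib.Helper2.BG16a Cfsg.Agent.Lib.Helper2.BG16c

universe u

variable {G : Type u} [Group G] [Finite G]

/-- existence of the standard factorisation -/
theorem exists_sd (hG : IsMinSimpleOddOrder G) {M : Subgroup G} (hM : IsCoatom M) :
    ∃ K U : Subgroup G, IsSigmaDecomposition M K U := by
  obtain ⟨⟨K, hK⟩, hc⟩ := Cfsg.Agent.S1351.result hG M hM
  obtain ⟨U, hU⟩ := Cfsg.Agent.Lib.Helper4.BG19.exists_sigmaDecomposition hG hM (hc K hK) hK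
  exact ⟨K, U, hU⟩

/-- Sylow subgroups of a Hall subgroup `X` of `M_σ` have their normalizers in `M`, and `X` is a Hall
subgroup of `G` -/
theorem hall_props (hG : IsMinSimpleOddOrder G) {M X : Subgroup G} (hM : IsCoatom M)
    (hX : X ≤ sigmaCore M) (hHall : (Nat.card X).Coprime (X.relIndex (sigmaCore M))) :
    (∀ (p : ℕ), p.Prime → ∀ (P : Sylow p ↥X), (P : Subgroup ↥X) ≠ ⊥ →
        Subgroup.normalizer ((((P : Subgroup ↥X).map X.subtype : Subgroup G)) : Set G) ≤ M) ∧
      (Nat.card X).Coprime X.index := by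
  have hh := sigmaCore_hall hG hM
  constructor
  · intro p hp P hP1
    haveI : Fact p.Prime := ⟨hp⟩
    have hS := Cfsg.Agent.Lib.Helper4.BG7.sylIn_map_sylow P
    have hP1' : (P : Subgroup ↥X).map X.subtype ≠ ⊥ := by
      intro h0
      apply hP1
      rw [eq_bot_iff]
      intro x hx
      have h1 : (x : G) ∈ (P : Subgroup ↥X).map X.subtype := ⟨x, hx, rfl⟩
      rw [h0, Subgroup.mem_bot] at h1
      rw [Subgroup.mem_bot]
      exact Subtype.ext h1
    have hpX : p ∣ Nat.card X := by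
      have hc : Nat.card ↥((P : Subgroup ↥X).map X.subtype) ≠ 1 :=
        fun h => hP1' (Subgroup.card_eq_one.mp h)
      obtain ⟨k, hk⟩ := IsPGroup.iff_card.mp hS.2.1
      have hk0 : k ≠ 0 := by
        rintro rfl
        rw [pow_zero] at hk
        exact hc hk
      have h2 : p ∣ Nat.card ↥((P : Subgroup ↥X).map X.subtype) := by
        rw [hk]; exact dvd_pow_self p hk0
      exact h2.trans (Subgroup.card_dvd_of_le hS.1)
    apply normalizer_hall_le hG hM (hS.1.trans hX) hP1'
    rw [← Subgroup.relIndex_mul_relIndex _ X (sigmaCore M) hS.1 hX]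
    obtain ⟨k, hk⟩ := IsPGroup.iff_card.mp hS.2.1
    rw [hk]
    apply Nat.Coprime.pow_left
    rw [Nat.Prime.coprime_iff_not_dvd hp]
    intro hd
    rcases (Nat.Prime.dvd_mul hp).mp hd with h | h
    · exact hS.2.2 h
    · exact hp.one_lt.ne' (Nat.eq_one_of_dvd_coprimes hHall hpX h)
  · rw [← Subgroup.relIndex_mul_index hX]
    apply Nat.Coprime.mul_right hHall
    apply Nat.coprime_of_dvd
    intro p hp h1 h2
    have hpσ : p ∈ sigma M := hh.1.2.1 p hp (h1.trans (Subgroup.card_dvd_of_le hX))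
    exact hh.2.1.2 p hp hpσ h2

/-- `M_F` is a Hall subgroup of `M_σ` -/
theorem fittingHallOf_hall (hG : IsMinSimpleOddOrder G) {M : Subgroup G} (hM : IsCoatom M) :
    (Nat.card (fittingHallOf M)).Coprime ((fittingHallOf M).relIndex (sigmaCore M)) := by
  have h1 := fittingHallOf_coprime M
  have h2 : (fittingHallOf M).relIndex (sigmaCore M) ∣ (fittingHallOf M).relIndex M :=
    Dvd.intro _ (Subgroup.relIndex_mul_relIndex (fittingHallOf M) (sigmaCore M) M
      (fittingHallOf_le_sigmaCore hG hM) (sigmaCore_le M))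
  exact h1.coprime_dvd_right h2

/-- **B and G, Section 16: the Sylow normalizers of `M_s`**, given Theorem 15.2(d) -/
theorem typeCore_props (hG : IsMinSimpleOddOrder G) {M : Subgroup G} (hM : IsCoatom M)
    (h1363 : ∀ K U : Subgroup G, IsSigmaDecomposition M K U → K ≠ ⊥ → U ≠ ⊥ →
      ¬ Subgroup.normalizer (U : Set G) ≤ M) :
    (∀ (p : ℕ), p.Prime → ∀ (P : Sylow p ↥(typeCore M)), (P : Subgroup ↥(typeCore M)) ≠ ⊥ →
        Subgroup.normalizer ((((P : Subgroup ↥(typeCore M)).map (typeCore M).subtype :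
          Subgroup G)) : Set G) ≤ M) ∧
      (Nat.card (fittingHallOf M)).Coprime (fittingHallOf M).index ∧
      (Nat.card (typeCore M)).Coprime (typeCore M).index := by
  have hF := hall_props hG hM (fittingHallOf_le_sigmaCore hG hM) (fittingHallOf_hall hG hM)
  by_cases h : IsOfTypeIII M ∨ IsOfTypeIV M
  · obtain ⟨K, U, hKU⟩ := exists_sd hG hM
    obtain ⟨hK1, hU, -⟩ := of_typeIII_IV hG hM hKU (h1363 K U hKU) h
    have hder := sd_commutator_eq hG hM hKU hK1
    rw [hU, bot_sup_eq] at hder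
    have hT : typeCore M = sigmaCore M := by
      unfold typeCore
      rw [if_pos h, hder]
    rw [hT]
    have hσ := hall_props hG hM (le_refl (sigmaCore M)) (by
      rw [Subgroup.relIndex_self]; exact Nat.coprime_one_right _)
    exact ⟨hσ.1, hF.2, hσ.2⟩
  · have hT : typeCore M = fittingHallOf M := by
      unfold typeCore
      rw [if_neg h]
    rw [hT]
    exact ⟨hF.1, hF.2, hF.2⟩

end Cfsg.Agent.Lib.Helper2.BG16e
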