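import Mathlib
import Cfsg.Agent.Lib.Helper2.BG16d2
import Cfsg.Agent.Lib.Helper2.BG16e1
import Cfsg.Agent.S1364
import Cfsg.Agent.S1372

set_option autoImplicit false
set_option linter.style.haveILetI false
set_option linter.unusedSectionVars false
set_option maxHeartbeats 800000

/-!
# The types of the maximal subgroups with `K ≠ 1` (B and G, Theorem I): the implications
`(K, U) ⟹ type`, given B and G Theorem 15.2(b) (S1356), 15.2(c) (S1357) and 15.2(d) (S1363)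
-/

namespace Cfsg.Agent.Lib.Helper2.BG16f

open Cfsg Cfsg.Agent.Lib.Helper7 Cfsg.Agent.Lib.Helper4 Cfsg.Agent.Lib.Helper4.BG8
open Cfsg.Agent.Lib.Helper4.BG9 Cfsg.Agent.Lib.Lead.BG10 Cfsg.Agent.Lib.Helper4.BG14
open Cfsg.Agent.Lib.Helper4.BG22 Cfsg.Agent.Lib.Lead.BG14n Cfsg.Agent.Lib.Helper5.BG139
open Cfsg.Agent.Lib.Helper2.BG16a Cfsg.Agent.Lib.Helper2.BG16b Cfsg.Agent.Lib.Helper2.BG16c
open Cfsg.Agent.Lib.Helper2.BG16d Cfsg.Agent.Lib.Helper2.BG16e Cfsg.Agent.Lib.Helper5.BG147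

universe u

variable {G : Type u} [Group G] [Finite G]

/-- the three facts of B and G, Theorem 15.2(b), in the form of the fields of `IsTypePWith` -/
theorem fields_of_s1356 {M : Subgroup G}
    (h : ⁅⁅M, M⁆, ⁅M, M⁆⁆ ≤ fittingOf M ∧
      fittingOf M = (M ⊓ Subgroup.centralizer (fittingHallOf M : Set G)) ⊔ fittingHallOf M ∧
      ((kappa M).Nonempty → fittingOf M ≤ ⁅M, M⁆)) (hκ : (kappa M).Nonempty) :
    ⁅⁅M, M⁆, ⁅M, M⁆⁆ ≤
        fittingHallOf M ⊔ (M ⊓ Subgroup.centralizer (fittingHallOf M : Set G)) ∧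
      fittingHallOf M ⊔ (M ⊓ Subgroup.centralizer (fittingHallOf M : Set G)) = fittingOf M ∧
      fittingOf M ≤ ⁅M, M⁆ := by
  obtain ⟨h1, h2, h3⟩ := h
  have e : fittingHallOf M ⊔ (M ⊓ Subgroup.centralizer (fittingHallOf M : Set G)) = fittingOf M := by
    rw [sup_comm]; exact h2.symm
  exact ⟨e ▸ h1, e, h3 hκ⟩

theorem kappa_nonempty {M K : Subgroup G} (hK : IsPiHallOf (kappa M) K M) (hK1 : K ≠ ⊥) :
    (kappa M).Nonempty := by
  have hc : Nat.card K ≠ 1 := fun h => hK1 (Subgroup.card_eq_one.mp h)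
  obtain ⟨r, hr, hrK⟩ := Nat.exists_prime_and_dvd hc
  exact ⟨r, hK.2.1 r hr hrK⟩

/-- **`K ≠ 1`, `U = 1`, `M_F ≠ M_σ` imply Type III or IV**, given 15.2(b) and the TI-property of
`F(M)` from 15.2(c) -/
theorem typeIII_or_IV_of (hG : IsMinSimpleOddOrder G) {M K U : Subgroup G} (hM : IsCoatom M)
    (hKU : IsSigmaDecomposition M K U) (hK1 : K ≠ ⊥) (hU : U = ⊥)
    (hne : fittingHallOf M ≠ sigmaCore M)
    (h1356 : ⁅⁅M, M⁆, ⁅M, M⁆⁆ ≤ fittingOf M ∧
      fittingOf M = (M ⊓ Subgroup.centralizer (fittingHallOf M : Set G)) ⊔ fittingHallOf M ∧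
      ((kappa M).Nonempty → fittingOf M ≤ ⁅M, M⁆))
    (hTI : IsTISubset (fittingOf M : Set G)) :
    IsOfTypeIII M ∨ IsOfTypeIV M := by
  obtain ⟨Ms, t⟩ := t147 hG hM hKU.hall hK1
  obtain ⟨-, -, hp, hq, -, -, Q, hQF, hQn, hQq, hQs, hD⟩ :=
    Cfsg.Agent.S1437.result hG M hM K U hKU hne
  obtain ⟨-, -, hKsF, hHnc⟩ := Cfsg.Agent.S1364.result hG M hM K U hKU hK1
  obtain ⟨h2, hfe, hfl⟩ := fields_of_s1356 h1356 (kappa_nonempty hKU.hall hK1)
  have hder := sd_commutator_eq hG hM hKU hK1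
  rw [hU, bot_sup_eq] at hder
  have hc := sd_isComplIn_K hG hM hKU
  rw [hU, bot_sup_eq] at hc
  have hKS := sd_coprime hG hM hKU
  rw [hU, bot_sup_eq] at hKS
  have hsolv : Group.IsSolvable ↥M := solvable_of_ne_top hG hM.1
  have hFσ : fittingHallOf M ≤ sigmaCore M := fittingHallOf_le_sigmaCore hG hM
  obtain ⟨U', hU'c, hU'K⟩ := exists_invariant_compl hsolv hc (le_normalizer_sigmaCore M) hKS hFσ
    (le_normalizer_fittingHallOf M) (fittingHallOf_hall hG hM)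
  have hU'σ : U' ≤ sigmaCore M := hU'c.2.1
  have hU'1 : U' ≠ ⊥ := by
    intro h0
    apply hne
    apply le_antisymm hFσ
    intro s hs
    obtain ⟨a, ha, b, hb, rfl⟩ := hU'c.2.2.2 s hs
    rw [h0, Subgroup.mem_bot] at hb
    rw [hb, mul_one]; exact ha
  have hcard := Cfsg.Agent.Lib.Helper4.BG14.card_mul_of_isComplIn hU'c
  have hcopFU : (Nat.card ↥(fittingHallOf M)).Coprime (Nat.card ↥U') := by
    have h1 := fittingHallOf_hall hG hM
    have h3 : Nat.card ↥(fittingHallOf M) * (fittingHallOf M).relIndex (sigmaCore M) =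
        Nat.card ↥(sigmaCore M) := by
      have := Subgroup.relIndex_mul_relIndex ⊥ (fittingHallOf M) (sigmaCore M) bot_le hFσ
      rwa [Subgroup.relIndex_bot_left, Subgroup.relIndex_bot_left] at this
    have hpos : 0 < Nat.card ↥(fittingHallOf M) := Nat.card_pos
    have h4 : (fittingHallOf M).relIndex (sigmaCore M) = Nat.card ↥U' := by
      apply Nat.eq_of_mul_eq_mul_left hpos
      rw [h3, hcard]
    rwa [h4] at h1
  -- `U'` is a Hall subgroup of `M_σ`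
  have hU'h : (Nat.card ↥U').Coprime (U'.relIndex (sigmaCore M)) := by
    have h3 : Nat.card ↥U' * U'.relIndex (sigmaCore M) = Nat.card ↥(sigmaCore M) := by
      have := Subgroup.relIndex_mul_relIndex ⊥ U' (sigmaCore M) bot_le hU'σ
      rwa [Subgroup.relIndex_bot_left, Subgroup.relIndex_bot_left] at this
    have hpos : 0 < Nat.card ↥U' := Nat.card_pos
    have h4 : U'.relIndex (sigmaCore M) = Nat.card ↥(fittingHallOf M) := by
      apply Nat.eq_of_mul_eq_mul_left hpos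
      rw [h3, hcard, mul_comm]
    rw [h4]
    exact hcopFU.symm
  have hN : Subgroup.normalizer (U' : Set G) ≤ M := normalizer_hall_le hG hM hU'σ hU'1 hU'h
  -- `U'` is nilpotent: it lies in a complement of `Q` in `M_σ`
  have hU'n : Group.IsNilpotent ↥U' := by
    haveI : Fact (Nat.card ↥(sigmaCore M ⊓ Subgroup.centralizer (K : Set G))).Prime := ⟨hq⟩
    have hσtop : sigmaCore M ≠ ⊤ := fun h => hM.1 (eq_top_iff.mpr (h ▸ sigmaCore_le M))
    have hQσ : Q ≤ sigmaCore M := hQF.trans hFσ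
    have hcopQ : (Nat.card Q).Coprime (Q.relIndex (sigmaCore M)) := by
      obtain ⟨k, hk⟩ := IsPGroup.iff_card.mp hQq
      rw [hk]
      exact Nat.Coprime.pow_left k ((Nat.Prime.coprime_iff_not_dvd hq).mpr hQs)
    have hU'Q : (Nat.card ↥U').Coprime (Nat.card ↥Q) :=
      (hcopFU.coprime_dvd_left (Subgroup.card_dvd_of_le hQF)).symm
    obtain ⟨D, hDc, hU'D⟩ := exists_isComplIn_of_normal_hall_ge (solvable_of_ne_top hG hσtop) hQσ
      ((sigmaCore_le M).trans hQn) hcopQ hU'σ hU'Q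
    exact isNilpotent_of_le (hD D hDc).1 hU'D
  have hUc' : IsComplIn (fittingHallOf M) U' ⁅M, M⁆ := by rw [hder]; exact hU'c
  have hP := isTypePWith_of hG hM hKU hK1 t hU'n hU'K hUc' hHnc h2 hfe hfl hKsF
  by_cases hab : IsMulCommutative ↥U'
  · exact Or.inl ⟨K, U', kstar M K, hP, hU'1, hp, hTI, hab, hN⟩
  · exact Or.inr ⟨K, U', kstar M K, hP, hU'1, hp, hTI, hab, hN⟩

/-- **`K ≠ 1`, `U ≠ 1` imply Type II**, given 15.2(b) and 15.2(d) -/
theorem typeII_of (hG : IsMinSimpleOddOrder G) {M K U : Subgroup G} (hM : IsCoatom M)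
    (hKU : IsSigmaDecomposition M K U) (hK1 : K ≠ ⊥) (hU1 : U ≠ ⊥)
    (h1356 : ⁅⁅M, M⁆, ⁅M, M⁆⁆ ≤ fittingOf M ∧
      fittingOf M = (M ⊓ Subgroup.centralizer (fittingHallOf M : Set G)) ⊔ fittingHallOf M ∧
      ((kappa M).Nonempty → fittingOf M ≤ ⁅M, M⁆))
    (h1363 : IsMulCommutative ↥U ∧ ¬ Subgroup.normalizer (U : Set G) ≤ M) :
    IsOfTypeII M := by
  obtain ⟨Ms, t⟩ := t147 hG hM hKU.hall hK1
  obtain ⟨-, -, hKsF, hHnc⟩ := Cfsg.Agent.S1364.result hG M hM K U hKU hK1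
  obtain ⟨h2, hfe, hfl⟩ := fields_of_s1356 h1356 (kappa_nonempty hKU.hall hK1)
  obtain ⟨hp, hTI, -⟩ := Cfsg.Agent.S1372.result hG M hM K U hKU hK1 hU1
  obtain ⟨hF1, hF2⟩ := fittingHallOf_sup hG hM hKU hK1 hU1
  obtain ⟨hTF, hTF2⟩ := isOfTypeF_commutator hG hM hKU hK1 hU1
  have hder := sd_commutator_eq hG hM hKU hK1
  have hUn : Group.IsNilpotent ↥U := by
    haveI : IsMulCommutative ↥U := h1363.1
    letI : CommGroup ↥U := { (inferInstance : Group ↥U) with mul_comm := h1363.1.is_comm.comm }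
    infer_instance
  have hUM : U ≤ M := sd_U_le hKU
  have hUnσ : U ≤ Subgroup.normalizer (sigmaCore M : Set G) := hUM.trans (le_normalizer_sigmaCore M)
  have hUc : IsComplIn (fittingHallOf M) U ⁅M, M⁆ := by
    rw [hder, hF2]
    refine ⟨le_sup_right, le_sup_left, ?_, ?_⟩
    · rw [inf_comm]; exact sd_U_inf_sigmaCore hKU
    · intro m hm
      have h1 : m ∈ ((sigmaCore M ⊔ U : Subgroup G) : Set G) := by rw [sup_comm]; exact hm
      rw [Subgroup.coe_mul_of_right_le_normalizer_left (sigmaCore M) U hUnσ] at h1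
      obtain ⟨a, ha, b, hb, rfl⟩ := Set.mem_mul.mp h1
      exact ⟨a, ha, b, hb, rfl⟩
  have hP := isTypePWith_of hG hM hKU hK1 t hUn hKU.normal hUc hHnc h2 hfe hfl hKsF
  exact ⟨K, U, kstar M K, hP, hU1, hp, hTI, h1363.1, h1363.2, hTF, hTF2⟩

end Cfsg.Agent.Lib.Helper2.BG16f
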