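import Mathlib
import Cfsg.Agent.Lib.Helper2.BG16f1

set_option autoImplicit false
set_option linter.style.haveILetI false
set_option linter.unusedSectionVars false
set_option maxHeartbeats 800000

/-!
# Type V from the trichotomy of B and G, Theorem 15.7
-/

namespace Cfsg.Agent.Lib.Helper2.BG16f

open Cfsg Cfsg.Agent.Lib.Helper7 Cfsg.Agent.Lib.Helper4 Cfsg.Agent.Lib.Helper4.BG8
open Cfsg.Agent.Lib.Helper4.BG9 Cfsg.Agent.Lib.Lead.BG10 Cfsg.Agent.Lib.Helper4.BG14
open Cfsg.Agent.Lib.Helper4.BG22 Cfsg.Agent.Lib.Lead.BG14n Cfsg.Agent.Lib.Helper5.BG139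
open Cfsg.Agent.Lib.Helper2.BG16a Cfsg.Agent.Lib.Helper2.BG16b Cfsg.Agent.Lib.Helper2.BG16c
open Cfsg.Agent.Lib.Helper2.BG16d Cfsg.Agent.Lib.Helper2.BG16e Cfsg.Agent.Lib.Helper5.BG147

universe u

variable {G : Type u} [Group G] [Finite G]

/-- the trichotomy of B and G, Theorem 15.7(e), in the form of the statement S1440 -/
def Trichotomy (M K U : Subgroup G) : Prop :=
  ∀ g : G, g ∉ M → fittingOf M ⊓ (fittingOf M).map (MulAut.conj g).toMonoidHom ≠ ⊥ →
    ((K = ⊥ ∧ IsMulCommutative (fittingHallOf M) ∧ RankLE 2 (fittingHallOf M) ∧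
        ¬ RankLE 1 (fittingHallOf M)) ∨
     (∃ p : ℕ, p.Prime ∧
        Nat.card ↥(fittingOf M ⊓ (fittingOf M).map (MulAut.conj g).toMonoidHom) = p ∧
        p ∈ sigma M ∧ p ∉ beta M ∧
        ¬ IsMulCommutative (pCore p ↥(fittingHallOf M)) ∧
        IsCyclic (pPrimeCore p ↥(fittingHallOf M)) ∧
        ∀ q : ℕ, q.Prime → q ∣ Nat.card (fittingHallOf M) →
          Monoid.exponent (↥M ⧸ fittingHall ↥M) ∣ q - 1) ∨
     (∃ p : ℕ, p.Prime ∧
        Nat.card ↥(fittingOf M ⊓ (fittingOf M).map (MulAut.conj g).toMonoidHom) = p ∧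
        p ∈ sigma M ∧ p ∉ beta M ∧
        IsCyclic (pPrimeCore p ↥(fittingHallOf M)) ∧
        Nat.card (pCore p ↥(fittingHallOf M)) = p ^ 3 ∧
        ¬ IsMulCommutative (pCore p ↥(fittingHallOf M)) ∧ K ≠ ⊥ ∧ U = ⊥ ∧
        (fittingHallOf M).relIndex M ∣ p + 1))

/-- if `M_F` is not a TI-subset then `F(M)` meets a conjugate `F(M)^g`, `g ∉ M`, nontrivially -/
theorem exists_of_not_ti (hG : IsMinSimpleOddOrder G) {M : Subgroup G} (hM : IsCoatom M)
    (hnTI : ¬ IsTISubset (fittingHallOf M : Set G)) :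
    ∃ g : G, g ∉ M ∧ fittingOf M ⊓ (fittingOf M).map (MulAut.conj g).toMonoidHom ≠ ⊥ := by
  unfold IsTISubset at hnTI
  push Not at hnTI
  obtain ⟨g, hg, x, hx, hgx, hx1⟩ := hnTI
  have hFF : fittingHallOf M ≤ fittingOf M :=
    le_fittingOf (fittingHallOf_le M) (le_normalizer_fittingHallOf M) (isNilpotent_fittingHallOf M)
  refine ⟨g, fun hgM => hg (le_normalizer_fittingHallOf M hgM), ?_⟩
  intro h0
  have h1 : g * x * g⁻¹ ∈ fittingOf M ⊓ (fittingOf M).map (MulAut.conj g).toMonoidHom :=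
    ⟨hFF hgx, ⟨x, hFF hx, rfl⟩⟩
  rw [h0, Subgroup.mem_bot] at h1
  apply hx1
  have : x = g⁻¹ * (g * x * g⁻¹) * g := by group
  rw [this, h1]; group

/-- `|K|` divides the exponent of `M / M_F` when `K` is a complement of `M_F` -/
theorem card_dvd_exponent_quotient {M K : Subgroup G} (hKc : IsCyclic ↥K) (hKM : K ≤ M)
    (hdisj : K ⊓ fittingHallOf M = ⊥) :
    Nat.card ↥K ∣ Monoid.exponent (↥M ⧸ fittingHall ↥M) := by
  haveI := hKc
  obtain ⟨c, hc⟩ := IsCyclic.exists_generator (α := ↥K)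
  have h1 : Nat.card ↥K = orderOf c := by
    rw [← Nat.card_zpowers]
    have : Subgroup.zpowers c = ⊤ := (Subgroup.eq_top_iff' _).mpr hc
    rw [this, Subgroup.card_top]
  set c' : ↥M := ⟨(c : G), hKM c.2⟩ with hc'
  have h2 : orderOf c ∣ orderOf (QuotientGroup.mk' (fittingHall ↥M) c') := by
    apply orderOf_dvd_of_pow_eq_one
    have h3 := pow_orderOf_eq_one (QuotientGroup.mk' (fittingHall ↥M) c')
    rw [← map_pow, QuotientGroup.mk'_apply, QuotientGroup.eq_one_iff] at h3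
    have h4 : ((c' ^ orderOf (QuotientGroup.mk' (fittingHall ↥M) c') : ↥M) : G) ∈
        K ⊓ fittingHallOf M := by
      constructor
      · rw [Subgroup.coe_pow]
        exact K.pow_mem c.2 _
      · exact ⟨_, h3, rfl⟩
    rw [hdisj, Subgroup.mem_bot, Subgroup.coe_pow] at h4
    apply Subtype.ext
    rw [Subgroup.coe_pow]
    exact h4
  rw [h1]
  exact h2.trans (Monoid.order_dvd_exponent _)

/-- **`K ≠ 1`, `U = 1`, `M_F = M_σ` imply Type V**, given 15.2(b) and the trichotomy of 15.7 -/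
theorem typeV_of (hG : IsMinSimpleOddOrder G) {M K U : Subgroup G} (hM : IsCoatom M)
    (hKU : IsSigmaDecomposition M K U) (hK1 : K ≠ ⊥) (hU : U = ⊥)
    (hF : fittingHallOf M = sigmaCore M)
    (h1356 : ⁅⁅M, M⁆, ⁅M, M⁆⁆ ≤ fittingOf M ∧
      fittingOf M = (M ⊓ Subgroup.centralizer (fittingHallOf M : Set G)) ⊔ fittingHallOf M ∧
      ((kappa M).Nonempty → fittingOf M ≤ ⁅M, M⁆))
    (h157 : Trichotomy M K U) : IsOfTypeV M := by
  obtain ⟨Ms, t⟩ := t147 hG hM hKU.hall hK1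
  obtain ⟨-, -, hKsF, hHnc⟩ := Cfsg.Agent.S1364.result hG M hM K U hKU hK1
  obtain ⟨h2, hfe, hfl⟩ := fields_of_s1356 h1356 (kappa_nonempty hKU.hall hK1)
  have hder := sd_commutator_eq hG hM hKU hK1
  rw [hU, bot_sup_eq] at hder
  have hc := sd_isComplIn_K hG hM hKU
  rw [hU, bot_sup_eq, ← hF] at hc
  have hUc : IsComplIn (fittingHallOf M) ⊥ ⁅M, M⁆ := by
    rw [hder, hF]
    exact ⟨le_rfl, bot_le, inf_bot_eq _, fun m hm => ⟨m, hm, 1, Subgroup.one_mem _, (mul_one m).symm⟩⟩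
  have hUn : Group.IsNilpotent ↥(⊥ : Subgroup G) := inferInstance
  have hKn : K ≤ Subgroup.normalizer (((⊥ : Subgroup G)) : Set G) := by
    intro k _
    rw [Subgroup.mem_normalizer_iff]
    intro h
    simp [Subgroup.mem_bot]
  have hP := isTypePWith_of hG hM hKU hK1 t hUn hKn hUc hHnc h2 hfe hfl hKsF
  have hrel : (fittingHallOf M).relIndex M = Nat.card ↥K := by
    have h1 := Cfsg.Agent.Lib.Helper4.BG14.card_mul_of_isComplIn hc
    have h3 : Nat.card ↥(fittingHallOf M) * (fittingHallOf M).relIndex M = Nat.card ↥M := by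
      have := Subgroup.relIndex_mul_relIndex ⊥ (fittingHallOf M) M bot_le (fittingHallOf_le M)
      rwa [Subgroup.relIndex_bot_left, Subgroup.relIndex_bot_left] at this
    have hpos : 0 < Nat.card ↥(fittingHallOf M) := Nat.card_pos
    apply Nat.eq_of_mul_eq_mul_left hpos
    rw [h3, h1, mul_comm]
  refine ⟨K, ⊥, kstar M K, hP, rfl, ?_⟩
  by_cases hTI : IsTISubset (fittingHallOf M : Set G)
  · exact Or.inl hTI
  · right
    obtain ⟨g, hg, hX⟩ := exists_of_not_ti hG hM hTI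
    rcases h157 g hg hX with ⟨hK, -⟩ | ⟨p, hp, -, -, -, hnc, hcyc, hexp⟩ |
      ⟨p, hp, -, -, -, hcyc, hcard, -, -, -, hdvd⟩
    · exact absurd hK hK1
    · left
      have hpH : p ∣ Nat.card ↥(fittingHallOf M) := by
        have hpg : IsPGroup p ↥(pCore p ↥(fittingHallOf M)) := Cfsg.Agent.Lib.Lead.pCore_isPGroup p
        haveI : Fact p.Prime := ⟨hp⟩
        obtain ⟨k, hk⟩ := IsPGroup.iff_card.mp hpg
        have hk0 : k ≠ 0 := by
          rintro rfl
          rw [pow_zero] at hk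
          apply hnc
          have hb : pCore p ↥(fittingHallOf M) = ⊥ := Subgroup.card_eq_one.mp hk
          rw [hb]
          exact ⟨⟨fun a b => Subsingleton.elim _ _⟩⟩
        have h5 : p ∣ Nat.card ↥(pCore p ↥(fittingHallOf M)) := by
          rw [hk]; exact dvd_pow_self p hk0
        exact h5.trans (Subgroup.card_subgroup_dvd_card _)
      refine ⟨p, hp, hpH, ?_, hcyc⟩
      exact (card_dvd_exponent_quotient hKU.cyclic hKU.hall.1 hc.2.2.1).trans (hexp p hp hpH)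
    · right
      have hpH : p ∣ Nat.card ↥(fittingHallOf M) := by
        have h5 : p ∣ Nat.card ↥(pCore p ↥(fittingHallOf M)) := by
          rw [hcard]; exact dvd_pow_self p (by norm_num)
        exact h5.trans (Subgroup.card_subgroup_dvd_card _)
      exact ⟨p, hp, hpH, hcard, hrel ▸ hdvd, hcyc⟩

end Cfsg.Agent.Lib.Helper2.BG16f
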