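import Mathlib
import Cfsg.Prelude.Def_PLocal
import Cfsg.Prelude.Def_Solvable
import Cfsg.Prelude.Def_Transfer
import Cfsg.Agent.Lib.Helper6.PCore
import Cfsg.Agent.Lib.Helper2.ComplementSystem

set_option autoImplicit false

/-!
The subgroup `V = ⟨Ω₁(Z(S)) | S ∈ Syl_p(G)⟩` in a group of characteristic `p`.
-/

namespace Cfsg.Agent.Lib.Helper2.OmegaZ

open Cfsg
open scoped Pointwise

variable {G : Type*} [Group G] {p : ℕ}

/-- `Ω₁(Z(S))` as a subgroup of `G`. -/
abbrev WS (p : ℕ) (S : Subgroup G) : Subgroup G :=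
  Cfsg.omegaOne p (S ⊓ Subgroup.centralizer (S : Set G))

/-- `V = ⟨Ω₁(Z(S)) | S ∈ Syl_p(G)⟩`. -/
abbrev VV (p : ℕ) (G : Type*) [Group G] : Subgroup G :=
  ⨆ S : Sylow p G, WS p (S : Subgroup G)

/-- The elements of order dividing `p` of the centre of a subgroup `P`, as a subgroup. -/
def omegaZ (p : ℕ) (P : Subgroup G) : Subgroup G where
  carrier := {x | x ∈ P ⊓ Subgroup.centralizer (P : Set G) ∧ x ^ p = 1}
  one_mem' := ⟨Subgroup.one_mem _, one_pow p⟩
  mul_mem' := by
    rintro a b ⟨ha, hap⟩ ⟨hb, hbp⟩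
    refine ⟨Subgroup.mul_mem _ ha hb, ?_⟩
    have hcomm : Commute a b := by
      have h1 := (Subgroup.mem_inf.mp hb).2
      rw [Subgroup.mem_centralizer_iff] at h1
      exact (h1 a (Subgroup.mem_inf.mp ha).1)
    rw [hcomm.mul_pow, hap, hbp, one_mul]
  inv_mem' := by
    rintro a ⟨ha, hap⟩
    exact ⟨Subgroup.inv_mem _ ha, by rw [inv_pow, hap, inv_one]⟩

theorem omegaZ_comm (P : Subgroup G) {a b : G} (ha : a ∈ omegaZ p P) (hb : b ∈ omegaZ p P) :
    a * b = b * a := by
  have h1 := (Subgroup.mem_inf.mp hb.1).2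
  rw [Subgroup.mem_centralizer_iff] at h1
  exact (h1 a (Subgroup.mem_inf.mp ha.1).1)

theorem isEA_of_le_omegaZ (P : Subgroup G) {V : Subgroup G} (hV : V ≤ omegaZ p P) :
    Cfsg.IsElementaryAbelian p V := by
  refine ⟨⟨⟨fun a b => Subtype.ext ?_⟩⟩, fun a ha => (hV ha).2⟩
  exact omegaZ_comm P (hV a.2) (hV b.2)

variable [Finite G] [Fact p.Prime]

theorem WS_le_omegaZ (hc : Subgroup.centralizer (Cfsg.pCore p G : Set G) ≤ Cfsg.pCore p G)
    (S : Sylow p G) : WS p (S : Subgroup G) ≤ omegaZ p (Cfsg.pCore p G) := by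
  have hPS : Cfsg.pCore p G ≤ (S : Subgroup G) := Cfsg.Agent.Lib.Helper6.pCore_le_sylow S
  unfold WS Cfsg.omegaOne
  rw [Subgroup.closure_le]
  rintro x ⟨hx, hxp⟩
  refine ⟨?_, hxp⟩
  rw [Subgroup.mem_inf] at hx ⊢
  have hxc : x ∈ Subgroup.centralizer (Cfsg.pCore p G : Set G) :=
    Subgroup.centralizer_le (by exact_mod_cast hPS) hx.2
  exact ⟨hc hxc, hxc⟩

theorem VV_le_omegaZ (hc : Subgroup.centralizer (Cfsg.pCore p G : Set G) ≤ Cfsg.pCore p G) :
    VV p G ≤ omegaZ p (Cfsg.pCore p G) :=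
  iSup_le fun S => WS_le_omegaZ hc S

theorem WS_map_conj (g : G) (S : Sylow p G) :
    (WS p (S : Subgroup G)).map (MulAut.conj g).toMonoidHom
      ≤ WS p ((g • S : Sylow p G) : Subgroup G) := by
  unfold WS Cfsg.omegaOne
  rw [MonoidHom.map_closure, Subgroup.closure_le]
  rintro _ ⟨x, ⟨hx, hxp⟩, rfl⟩
  apply Subgroup.subset_closure
  rw [Subgroup.mem_inf] at hx
  have hconj : ∀ y : G, y ∈ (S : Subgroup G) → g * y * g⁻¹ ∈ ((g • S : Sylow p G) : Subgroup G) := by
    intro y hy
    rw [Sylow.smul_def, Sylow.pointwise_smul_def]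
    have := Subgroup.smul_mem_pointwise_smul y (MulAut.conj g) (S : Subgroup G) hy
    simpa [MulAut.smul_def] using this
  constructor
  · rw [Subgroup.mem_inf]
    refine ⟨hconj x hx.1, ?_⟩
    rw [Subgroup.mem_centralizer_iff]
    intro y hy
    have hy' : g⁻¹ * y * g ∈ (S : Subgroup G) := by
      have hy1 : y ∈ (MulAut.conj g • (S : Subgroup G)) := by
        rw [Sylow.smul_def, Sylow.pointwise_smul_def] at hy
        exact hy
      rw [Subgroup.mem_pointwise_smul_iff_inv_smul_mem] at hy1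
      simpa [MulAut.smul_def, mul_assoc] using hy1
    have h2 := hx.2
    rw [Subgroup.mem_centralizer_iff] at h2
    have h3 := h2 _ hy'
    show y * (g * x * g⁻¹) = (g * x * g⁻¹) * y
    calc y * (g * x * g⁻¹) = g * ((g⁻¹ * y * g) * x) * g⁻¹ := by group
      _ = g * (x * (g⁻¹ * y * g)) * g⁻¹ := by rw [h3]
      _ = (g * x * g⁻¹) * y := by group
  · show (g * x * g⁻¹) ^ p = 1
    rw [conj_pow, hxp]; group

theorem VV_normal : (VV p G).Normal := by
  have key : ∀ g : G, (VV p G).map (MulAut.conj g).toMonoidHom ≤ VV p G := by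
    intro g
    unfold VV
    rw [Subgroup.map_iSup]
    apply iSup_le
    intro S
    exact (WS_map_conj g S).trans (le_iSup (fun S : Sylow p G => WS p (S : Subgroup G)) (g • S))
  constructor
  intro n hn g
  exact key g ⟨n, hn, rfl⟩

theorem eq_centralizer_of_relIndex_pow
    (D : Subgroup G) (hD : D.Normal)
    (hCD : Subgroup.centralizer ((VV p G : Subgroup G) : Set G) ≤ D) {k : ℕ}
    (hk : (Subgroup.centralizer ((VV p G : Subgroup G) : Set G)).relIndex D = p ^ k) :
    D = Subgroup.centralizer ((VV p G : Subgroup G) : Set G) := by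
  classical
  apply le_antisymm _ hCD
  haveI := hD
  haveI : (VV p G).Normal := VV_normal
  obtain ⟨S⟩ : Nonempty (Sylow p G) := inferInstance
  -- D = C (S ⊓ D)
  have hsup : (Subgroup.centralizer ((VV p G : Subgroup G) : Set G)) ⊔ ((S : Subgroup G) ⊓ D) = D := by
    apply le_antisymm (sup_le hCD inf_le_right)
    have h1 : ((Subgroup.centralizer ((VV p G : Subgroup G) : Set G)) ⊔ ((S : Subgroup G) ⊓ D)).relIndex D
        ∣ p ^ k := by
      rw [← hk]
      exact Subgroup.relIndex_dvd_of_le_left D le_sup_left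
    have h2 : ((Subgroup.centralizer ((VV p G : Subgroup G) : Set G)) ⊔ ((S : Subgroup G) ⊓ D)).relIndex D
        ∣ ((S : Subgroup G) ⊓ D).relIndex D :=
      Subgroup.relIndex_dvd_of_le_left D le_sup_right
    have h3 : ¬ p ∣ ((S : Subgroup G) ⊓ D).relIndex D := by
      rw [Subgroup.inf_relIndex_right,
        ← relIndex_sup_left_of_le_normalizer (S : Subgroup G) D
          (by rw [Subgroup.normalizer_eq_top]; exact le_top)]
      intro hdvd
      exact S.not_dvd_index (hdvd.trans (Subgroup.relIndex_dvd_index_of_le le_sup_left))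
    have h4 : ((Subgroup.centralizer ((VV p G : Subgroup G) : Set G)) ⊔ ((S : Subgroup G) ⊓ D)).relIndex D = 1 := by
      have hcop : Nat.Coprime (p ^ k) (((S : Subgroup G) ⊓ D).relIndex D) :=
        Nat.Coprime.pow_left _ ((Nat.Prime.coprime_iff_not_dvd Fact.out).mpr h3)
      exact Nat.eq_one_of_dvd_coprimes hcop h1 h2
    exact Subgroup.relIndex_eq_one.mp h4
  -- C_V(D) is a normal subgroup containing W(S)
  have hWS : WS p (S : Subgroup G) ≤ Subgroup.centralizer (D : Set G) := by
    unfold WS Cfsg.omegaOne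
    rw [Subgroup.closure_le]
    rintro x ⟨hx, _⟩
    rw [Subgroup.mem_inf] at hx
    have hxV : x ∈ VV p G := by
      apply (le_iSup (fun S : Sylow p G => WS p (S : Subgroup G)) S)
      apply Subgroup.subset_closure
      exact ⟨Subgroup.mem_inf.mpr hx, by assumption⟩
    show x ∈ Subgroup.centralizer (D : Set G)
    have hle : D ≤ Subgroup.centralizer ({x} : Set G) := by
      rw [← hsup]
      apply sup_le
      · intro c hc
        rw [Subgroup.mem_centralizer_iff] at hc ⊢
        intro y hy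
        rw [Set.mem_singleton_iff] at hy
        subst hy
        exact (hc y hxV)
      · intro t ht
        rw [Subgroup.mem_inf] at ht
        rw [Subgroup.mem_centralizer_iff]
        intro y hy
        rw [Set.mem_singleton_iff] at hy
        subst hy
        have h2 := hx.2
        rw [Subgroup.mem_centralizer_iff] at h2
        exact (h2 t ht.1).symm
    rw [Subgroup.mem_centralizer_iff]
    intro d hd
    have := hle hd
    rw [Subgroup.mem_centralizer_iff] at this
    exact (this x rfl).symm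
  haveI hCn : (Subgroup.centralizer (D : Set G)).Normal := Subgroup.normal_centralizer
  -- hence all W(S') lie in C(D)
  have hVC : VV p G ≤ Subgroup.centralizer (D : Set G) := by
    apply iSup_le
    intro S'
    obtain ⟨g, hg⟩ := MulAction.exists_smul_eq G S S'
    intro x hx
    -- x = g y g⁻¹ with y ∈ W(S)
    have hx' : g⁻¹ * x * g⁻¹⁻¹ ∈ WS p (S : Subgroup G) := by
      have h1 := WS_map_conj g⁻¹ S' ⟨x, hx, rfl⟩
      have h2 : (g⁻¹ • S' : Sylow p G) = S := by rw [← hg, inv_smul_smul]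
      rw [h2] at h1
      exact h1
    have h3 := hCn.conj_mem _ (hWS hx') g
    have h4 : g * (g⁻¹ * x * g⁻¹⁻¹) * g⁻¹ = x := by group
    rwa [h4] at h3
  intro d hd
  rw [Subgroup.mem_centralizer_iff]
  intro v hv
  have := hVC hv
  rw [Subgroup.mem_centralizer_iff] at this
  exact (this d hd).symm

end Cfsg.Agent.Lib.Helper2.OmegaZ
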