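import Cfsg.Agent.Lib.Helper2.Thompson
import Cfsg.Agent.Lib.Helper2.Basic

set_option autoImplicit false

namespace Cfsg.Agent.Lib.Helper2

open Cfsg

theorem comm_sup_of_comm {G : Type*} [Group G] (A B : Subgroup G)
    (hA : ∀ a ∈ A, ∀ b ∈ A, a * b = b * a) (hB : ∀ a ∈ B, ∀ b ∈ B, a * b = b * a)
    (hAB : ∀ a ∈ A, ∀ b ∈ B, a * b = b * a) :
    ∀ a ∈ A ⊔ B, ∀ b ∈ A ⊔ B, a * b = b * a := by
  have hk : ∀ u ∈ ((A : Set G) ∪ B), ∀ v ∈ ((A : Set G) ∪ B), u * v = v * u := by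
    rintro u (hu | hu) v (hv | hv)
    · exact hA u hu v hv
    · exact hAB u hu v hv
    · exact (hAB v hv u hu).symm
    · exact hB u hu v hv
  have hcl : A ⊔ B = Subgroup.closure ((A : Set G) ∪ B) := by
    rw [Subgroup.closure_union, Subgroup.closure_eq, Subgroup.closure_eq]
  rw [hcl]
  have h1 : Subgroup.closure ((A : Set G) ∪ B) ≤ Subgroup.centralizer ((A : Set G) ∪ B) := by
    rw [Subgroup.closure_le]
    intro u hu
    rw [SetLike.mem_coe, Subgroup.mem_centralizer_iff]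
    intro v hv
    exact hk v hv u hu
  have h2 : Subgroup.closure ((A : Set G) ∪ B) ≤
      Subgroup.centralizer (Subgroup.closure ((A : Set G) ∪ B) : Set G) := by
    rw [Subgroup.closure_le]
    intro u hu
    rw [SetLike.mem_coe, Subgroup.mem_centralizer_iff]
    intro v hv
    have := h1 hv
    rw [Subgroup.mem_centralizer_iff] at this
    exact (this u hu).symm
  intro a ha b hb
  have := h2 hb
  rw [Subgroup.mem_centralizer_iff] at this
  exact this a ha

theorem isEA_sup {G : Type*} [Group G] {p : ℕ} (A B : Subgroup G)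
    (hA : IsElementaryAbelian p A) (hB : IsElementaryAbelian p B)
    (hAB : ∀ a ∈ A, ∀ b ∈ B, a * b = b * a) :
    IsElementaryAbelian p (A ⊔ B) := by
  rw [isEA_iff] at hA hB ⊢
  obtain ⟨hA1, hA2⟩ := hA
  obtain ⟨hB1, hB2⟩ := hB
  have hcomm := comm_sup_of_comm A B hA1 hB1 hAB
  refine ⟨hcomm, ?_⟩
  let P : Subgroup G :=
    { carrier := {g | g ∈ A ⊔ B ∧ g ^ p = 1}
      mul_mem' := by
        rintro a b ⟨ha, hap⟩ ⟨hb, hbp⟩
        refine ⟨Subgroup.mul_mem _ ha hb, ?_⟩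
        have : Commute a b := hcomm a ha b hb
        rw [this.mul_pow, hap, hbp, one_mul]
      one_mem' := ⟨Subgroup.one_mem _, one_pow _⟩
      inv_mem' := by
        rintro a ⟨ha, hap⟩
        exact ⟨Subgroup.inv_mem _ ha, by rw [inv_pow, hap, inv_one]⟩ }
  have hAP : A ≤ P := fun a ha => ⟨(le_sup_left : A ≤ A ⊔ B) ha, hA2 a ha⟩
  have hBP : B ≤ P := fun b hb => ⟨(le_sup_right : B ≤ A ⊔ B) hb, hB2 b hb⟩
  intro a ha
  exact ((sup_le hAP hBP) ha).2

end Cfsg.Agent.Lib.Helper2
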