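import Mathlib
import Cfsg.Agent.Lib.Helper2.BG16f2
import Cfsg.Agent.Lib.Helper5.BG157j

set_option autoImplicit false
set_option linter.style.haveILetI false
set_option linter.unusedSectionVars false
set_option maxHeartbeats 800000

/-!
# Type V, unconditionally (given the statement of S1356): `K ≠ 1`, `U = 1`, `M_F = M_σ`
-/

namespace Cfsg.Agent.Lib.Helper2.BG16f

open Cfsg Cfsg.Agent.Lib.Helper7 Cfsg.Agent.Lib.Helper4 Cfsg.Agent.Lib.Helper4.BG8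
open Cfsg.Agent.Lib.Helper4.BG9 Cfsg.Agent.Lib.Lead.BG10 Cfsg.Agent.Lib.Helper4.BG14
open Cfsg.Agent.Lib.Helper4.BG22 Cfsg.Agent.Lib.Lead.BG14n Cfsg.Agent.Lib.Helper5.BG139
open Cfsg.Agent.Lib.Helper2.BG16a Cfsg.Agent.Lib.Helper2.BG16b Cfsg.Agent.Lib.Helper2.BG16c
open Cfsg.Agent.Lib.Helper2.BG16d Cfsg.Agent.Lib.Helper2.BG16e Cfsg.Agent.Lib.Helper5.BG147

universe u

variable {G : Type u} [Group G] [Finite G]

/-- **`K ≠ 1`, `U = 1`, `M_F = M_σ` imply Type V**, given 15.2(b) -/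
theorem typeV_of' (hG : IsMinSimpleOddOrder G) {M K U : Subgroup G} (hM : IsCoatom M)
    (hKU : IsSigmaDecomposition M K U) (hK1 : K ≠ ⊥) (hU : U = ⊥)
    (hF : fittingHallOf M = sigmaCore M)
    (h1356 : ⁅⁅M, M⁆, ⁅M, M⁆⁆ ≤ fittingOf M ∧
      fittingOf M = (M ⊓ Subgroup.centralizer (fittingHallOf M : Set G)) ⊔ fittingHallOf M ∧
      ((kappa M).Nonempty → fittingOf M ≤ ⁅M, M⁆)) : IsOfTypeV M := by
  obtain ⟨Ms, t⟩ := t147 hG hM hKU.hall hK1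
  obtain ⟨-, -, hKsF, hHnc⟩ := Cfsg.Agent.S1364.result hG M hM K U hKU hK1
  obtain ⟨h2, hfe, hfl⟩ := fields_of_s1356 h1356 (kappa_nonempty hKU.hall hK1)
  have hder := sd_commutator_eq hG hM hKU hK1
  rw [hU, bot_sup_eq] at hder
  have hUc : IsComplIn (fittingHallOf M) ⊥ ⁅M, M⁆ := by
    rw [hder, hF]
    exact ⟨le_rfl, bot_le, inf_bot_eq _, fun m hm => ⟨m, hm, 1, Subgroup.one_mem _, (mul_one m).symm⟩⟩
  have hUn : Group.IsNilpotent ↥(⊥ : Subgroup G) := inferInstance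
  have hKn : K ≤ Subgroup.normalizer (((⊥ : Subgroup G)) : Set G) := by
    intro k _
    rw [Subgroup.mem_normalizer_iff]
    intro h
    simp [Subgroup.mem_bot]
  have hP := isTypePWith_of hG hM hKU hK1 t hUn hKn hUc hHnc h2 hfe hfl hKsF
  exact ⟨K, ⊥, kstar M K, hP, rfl,
    Cfsg.Agent.Lib.Helper5.BG157.typeV_alternatives hG hM hKU hK1 hU hF⟩

end Cfsg.Agent.Lib.Helper2.BG16f
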