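import Mathlib
import Cfsg.Agent.Lib.Helper2.BG16f1
import Cfsg.Agent.Lib.Helper9.BGCover4

set_option autoImplicit false
set_option linter.style.haveILetI false
set_option linter.unusedSectionVars false
set_option maxHeartbeats 800000

/-!
# Complements of `M_F` in maximal subgroups of Type I and II are part of a standard factorisation
-/

namespace Cfsg.Agent.Lib.Helper2.BG16g

open Cfsg Cfsg.Agent.Lib.Helper7 Cfsg.Agent.Lib.Helper4 Cfsg.Agent.Lib.Helper4.BG8
open Cfsg.Agent.Lib.Helper4.BG9 Cfsg.Agent.Lib.Lead.BG10 Cfsg.Agent.Lib.Helper4.BG14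
open Cfsg.Agent.Lib.Helper4.BG22 Cfsg.Agent.Lib.Lead.BG14n Cfsg.Agent.Lib.Helper5.BG139
open Cfsg.Agent.Lib.Helper2.BG16a Cfsg.Agent.Lib.Helper2.BG16b Cfsg.Agent.Lib.Helper2.BG16c
open Cfsg.Agent.Lib.Helper2.BG16d Cfsg.Agent.Lib.Helper2.BG16e Cfsg.Agent.Lib.Helper5.BG147
open Cfsg.Agent.Lib.Helper4.BGConj

universe u

variable {G : Type u} [Group G] [Finite G]

/-- conjugating a standard factorisation by an element of `M` -/
theorem sd_cj_of_mem {M K U : Subgroup G} (h : IsSigmaDecomposition M K U) {m : G} (hm : m ∈ M) :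
    IsSigmaDecomposition M (cj m K) (cj m U) := by
  have hMm : cj m M = M := Cfsg.Agent.Lib.Helper7.cj_eq_self_of_mem hm
  have hσm : cj m (sigmaCore M) = sigmaCore M :=
    mem_normalizer_iff_cj.mp (le_normalizer_sigmaCore M hm)
  refine ⟨?_, ?_, ?_, ?_⟩
  · haveI := h.cyclic
    exact isCyclic_of_surjective (K.equivMapOfInjective _ (MulAut.conj m).injective)
      (K.equivMapOfInjective _ (MulAut.conj m).injective).surjective
  · have := Cfsg.Agent.Lib.Helper9.BGCover.isPiHallOf_cj' m h.hall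
    rwa [hMm] at this
  · have := isComplIn_cj m h.compl
    rwa [hMm, cj_sup, hσm] at this
  · rw [Cfsg.Agent.Lib.Helper7.normalizer_cj]
    exact cj_mono m h.normal

/-- swapping the factors of a complement decomposition with a normal factor -/
theorem isComplIn_swap {A B L : Subgroup G} (h : IsComplIn A B L)
    (hn : B ≤ Subgroup.normalizer (A : Set G)) : IsComplIn B A L := by
  refine ⟨h.2.1, h.1, by rw [inf_comm]; exact h.2.2.1, ?_⟩
  intro m hm
  obtain ⟨a, ha, b, hb, rfl⟩ := h.2.2.2 m hm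
  have hb' := Subgroup.mem_normalizer_iff.mp (hn (B.inv_mem hb)) a
  refine ⟨b, hb, b⁻¹ * a * b⁻¹⁻¹, hb'.mp ha, by group⟩

/-- a complement of `M_σ` in a subgroup `L` with `M_σ ≤ L ≤ M` is a Hall `σ(M)'`-subgroup of `L` -/
theorem hall_of_compl (hG : IsMinSimpleOddOrder G) {M L U : Subgroup G} (hM : IsCoatom M)
    (hLM : L ≤ M) (hc : IsComplIn (sigmaCore M) U L) :
    IsPiHallOf {p | p ∉ sigma M} U L := by
  have hh := (sigmaCore_hall hG hM).1
  have hσL : sigmaCore M ≤ L := hc.1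
  have hcard := Cfsg.Agent.Lib.Helper4.BG14.card_mul_of_isComplIn hc
  have h1 : (sigmaCore M).relIndex L = Nat.card ↥U := by
    have h3 : Nat.card ↥(sigmaCore M) * (sigmaCore M).relIndex L = Nat.card ↥L := by
      have := Subgroup.relIndex_mul_relIndex ⊥ (sigmaCore M) L bot_le hσL
      rwa [Subgroup.relIndex_bot_left, Subgroup.relIndex_bot_left] at this
    have hpos : 0 < Nat.card ↥(sigmaCore M) := Nat.card_pos
    apply Nat.eq_of_mul_eq_mul_left hpos
    rw [h3, hcard]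
  have h2 : U.relIndex L = Nat.card ↥(sigmaCore M) := by
    have h3 : Nat.card ↥U * U.relIndex L = Nat.card ↥L := by
      have := Subgroup.relIndex_mul_relIndex ⊥ U L bot_le hc.2.1
      rwa [Subgroup.relIndex_bot_left, Subgroup.relIndex_bot_left] at this
    have hpos : 0 < Nat.card ↥U := Nat.card_pos
    apply Nat.eq_of_mul_eq_mul_left hpos
    rw [h3, hcard, mul_comm]
  refine ⟨hc.2.1, ?_, ?_⟩
  · intro p hp hd hσ
    apply hh.2.2 p hp hσ
    rw [← h1] at hd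
    exact hd.trans (Dvd.intro _ (Subgroup.relIndex_mul_relIndex (sigmaCore M) L M hσL hLM))
  · intro p hp hpσ hd
    rw [h2] at hd
    exact hpσ (hh.2.1 p hp hd)

/-- **Type I**: a complement `U` of `M_F` in `M` gives the standard factorisation `M = 1 · U · M_σ` -/
theorem sd_of_compl_typeI (hG : IsMinSimpleOddOrder G) {M U : Subgroup G} (hM : IsCoatom M)
    (hI : IsOfTypeF ↥M) (hc : IsComplIn (fittingHallOf M) U M) :
    IsSigmaDecomposition M ⊥ U ∧ fittingHallOf M = sigmaCore M ∧ U ≠ ⊥ := by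
  obtain ⟨K₀, U₀, hKU₀⟩ := exists_sd hG hM
  have hKs : K₀ ≠ ⊥ →
      (sigmaCore M ⊓ Subgroup.centralizer (K₀ : Set G)) ⊓ fittingHallOf M ≠ ⊥ := by
    intro hK1
    obtain ⟨-, h1, h2, -⟩ := Cfsg.Agent.S1364.result hG M hM K₀ U₀ hKU₀ hK1
    rwa [inf_eq_left.mpr h2]
  obtain ⟨hK₀, hU₀⟩ := of_typeF hG hM hKU₀ hI hKs
  have hF := (isOfTypeF_of_K_eq_bot hG hM hKU₀ hK₀ hU₀).2
  rw [hF] at hc
  have hUM : U ≤ M := hc.2.1
  have hsw := isComplIn_swap hc (hUM.trans (le_normalizer_sigmaCore M))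
  refine ⟨⟨?_, hK₀ ▸ hKU₀.hall, by rw [bot_sup_eq]; exact hsw, bot_le⟩, hF, ?_⟩
  · exact isCyclic_of_subsingleton
  · intro hU
    have hsolv : Group.IsSolvable ↥M := solvable_of_ne_top hG hM.1
    apply not_le_commutator hsolv (Cfsg.Agent.Lib.Helper2.BG11.coatom_ne_bot hG hM)
    refine le_trans ?_ (sigmaCore_le_commutator hG hM)
    intro m hm
    obtain ⟨a, ha, b, hb, rfl⟩ := hc.2.2.2 m hm
    rw [hU, Subgroup.mem_bot] at hb
    rw [hb, mul_one]; exact ha

/-- **Type II**: a complement `U` of `M_F` in `M'` is part of a standard factorisation -/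
theorem sd_of_compl_typeII (hG : IsMinSimpleOddOrder G) {M U : Subgroup G} (hM : IsCoatom M)
    (hII : IsOfTypeII M) (hc : IsComplIn (fittingHallOf M) U ⁅M, M⁆) :
    ∃ K : Subgroup G, IsSigmaDecomposition M K U ∧ K ≠ ⊥ ∧ U ≠ ⊥ ∧
      fittingHallOf M = sigmaCore M := by
  obtain ⟨K₀, U₀, hKU₀⟩ := exists_sd hG hM
  obtain ⟨hK₀, hU₀⟩ := of_typeII hG hM hKU₀ hII
  have hF := (fittingHallOf_sup hG hM hKU₀ hK₀ hU₀).2
  have hder := sd_commutator_eq hG hM hKU₀ hK₀
  rw [hF, hder] at hc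
  have hLM : U₀ ⊔ sigmaCore M ≤ M := sup_le (sd_U_le hKU₀) (sigmaCore_le M)
  have hLtop : U₀ ⊔ sigmaCore M ≠ ⊤ := fun h => hM.1 (eq_top_iff.mpr (h ▸ hLM))
  have hsolv : Group.IsSolvable ↥(U₀ ⊔ sigmaCore M) := solvable_of_ne_top hG hLtop
  obtain ⟨m, hm, hmU⟩ := hall_conj hsolv _ (Cfsg.Agent.Lib.Helper2.BG14t.sd_hall_U hG hM hKU₀)
    (hall_of_compl hG hM hLM hc)
  have h1 := sd_cj_of_mem hKU₀ (hLM hm)
  rw [hmU] at h1
  refine ⟨cj m K₀, h1, ?_, ?_, hF⟩
  · rw [Ne, cj_eq_bot_iff]; exact hK₀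
  · rw [← hmU, Ne, cj_eq_bot_iff]; exact hU₀

end Cfsg.Agent.Lib.Helper2.BG16g
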