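import Mathlib
import Cfsg.Agent.Lib.Helper2.BG16g1
import Cfsg.Agent.S1358
import Cfsg.Agent.S1361
import Cfsg.Agent.S1362

set_option autoImplicit false
set_option linter.style.haveILetI false
set_option linter.unusedSectionVars false
set_option maxHeartbeats 800000

/-!
# Properties of the complement `U` for maximal subgroups of Type I and II (B and G, Theorem II)
-/

namespace Cfsg.Agent.Lib.Helper2.BG16g

open Cfsg Cfsg.Agent.Lib.Helper7 Cfsg.Agent.Lib.Helper4 Cfsg.Agent.Lib.Helper4.BG8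
open Cfsg.Agent.Lib.Helper4.BG9 Cfsg.Agent.Lib.Lead.BG10 Cfsg.Agent.Lib.Helper4.BG14
open Cfsg.Agent.Lib.Helper4.BG22 Cfsg.Agent.Lib.Lead.BG14n Cfsg.Agent.Lib.Helper5.BG139
open Cfsg.Agent.Lib.Helper2.BG16a Cfsg.Agent.Lib.Helper2.BG16b Cfsg.Agent.Lib.Helper2.BG16c
open Cfsg.Agent.Lib.Helper2.BG16d Cfsg.Agent.Lib.Helper2.BG16e Cfsg.Agent.Lib.Helper5.BG147
open Cfsg.Agent.Lib.Helper4.BGConj

universe u

variable {G : Type u} [Group G] [Finite G]

/-- the first two claims, for any standard factorisation with `M_F = M_σ` -/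
theorem compl_props (hG : IsMinSimpleOddOrder G) {M K U : Subgroup G} (hM : IsCoatom M)
    (hKU : IsSigmaDecomposition M K U) (hF : fittingHallOf M = sigmaCore M) :
    (∀ (p : ℕ), p.Prime → ∀ P : Sylow p U, IsMulCommutative (P : Subgroup U) ∧
        PRankLE p 2 (P : Subgroup U)) ∧
      (∀ X : Set G, X ⊆ (U : Set G) \ {1} → X.Nonempty →
        fittingHallOf M ⊓ Subgroup.centralizer X ≠ ⊥ →
        Subgroup.centralizer X ≤ M ∧
          ∀ L : Subgroup G, IsCoatom L → Subgroup.centralizer X ≤ L → L = M) := by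
  refine ⟨Cfsg.Agent.S1358.result hG M hM K U hKU, ?_⟩
  intro X hXU hXne hXc
  obtain ⟨w, hw⟩ := hXne
  have hcl : Subgroup.closure X ≤ U := by
    rw [Subgroup.closure_le]
    exact fun x hx => (hXU hx).1
  have hcl1 : Subgroup.closure X ≠ ⊥ := by
    intro h0
    have h1 : w ∈ Subgroup.closure X := Subgroup.subset_closure hw
    rw [h0, Subgroup.mem_bot] at h1
    exact (hXU hw).2 h1
  have e : Subgroup.centralizer ((Subgroup.closure X : Subgroup G) : Set G) = Subgroup.centralizer X :=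
    Subgroup.centralizer_closure X
  have h2 := Cfsg.Agent.S1361.result hG M hM K U hKU (Subgroup.closure X) hcl hcl1
    (by rw [e, ← hF]; exact hXc)
  rwa [e] at h2

/-- Type II: `N_G(U) ⊄ M` for every complement `U` of `M_F` in `M'` -/
theorem not_normalizer_le_of_typeII (hG : IsMinSimpleOddOrder G) {M U : Subgroup G}
    (hM : IsCoatom M) (hII : IsOfTypeII M) (hc : IsComplIn (fittingHallOf M) U ⁅M, M⁆) :
    ¬ Subgroup.normalizer (U : Set G) ≤ M := by
  obtain ⟨K, hKU, hK1, hU1, hF⟩ := sd_of_compl_typeII hG hM hII hc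
  obtain ⟨W₁, U', W₂, hP, -, -, -, -, hNU', -⟩ := hII
  have hder := sd_commutator_eq hG hM hKU hK1
  have hLM : U ⊔ sigmaCore M ≤ M := sup_le (sd_U_le hKU) (sigmaCore_le M)
  have hLtop : U ⊔ sigmaCore M ≠ ⊤ := fun h => hM.1 (eq_top_iff.mpr (h ▸ hLM))
  have hsolv : Group.IsSolvable ↥(U ⊔ sigmaCore M) := solvable_of_ne_top hG hLtop
  have hc' := hP.U_compl
  rw [hF, hder] at hc hc'
  obtain ⟨m, hm, hmU⟩ := hall_conj hsolv _ (hall_of_compl hG hM hLM hc) (hall_of_compl hG hM hLM hc')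
  intro hN
  apply hNU'
  rw [← hmU, Cfsg.Agent.Lib.Helper7.normalizer_cj]
  exact cj_le_of_mem (hLM hm) hN

/-- `A(M) ∖ A₁(M)` is a TI-subset, for `M` of Type I or II -/
theorem typeA_diff_ti (hG : IsMinSimpleOddOrder G) {M U : Subgroup G} (hM : IsCoatom M)
    (hU : (IsOfTypeI M ∧ IsComplIn (fittingHallOf M) U M) ∨
      (IsOfTypeII M ∧ IsComplIn (fittingHallOf M) U ⁅M, M⁆)) :
    IsTISubset (typeA M \ typeA1 M) := by
  rcases hU with ⟨hI, hc⟩ | ⟨hII, hc⟩
  · obtain ⟨hKU, hF, hU1⟩ := sd_of_compl_typeI hG hM hI.1 hc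
    have hnot : ¬ (IsOfTypeIII M ∨ IsOfTypeIV M) := by
      rintro (⟨W₁, U', W₂, hP, -⟩ | ⟨W₁, U', W₂, hP, -⟩)
      · exact K_ne_bot_of_typeP hG hM hP hKU.hall rfl
      · exact K_ne_bot_of_typeP hG hM hP hKU.hall rfl
    have hT : typeCore M = sigmaCore M := by
      unfold typeCore
      rw [if_neg hnot, hF]
    have hsup : U ⊔ sigmaCore M = M := by
      have h1 := Cfsg.Agent.Lib.Lead.BG10.IsComplIn.sup_eq hKU.compl
      rwa [bot_sup_eq] at h1
    have e : typeA M \ typeA1 M = sigmaA M U \ (sigmaCore M : Set G) := by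
      unfold typeA typeA1 sigmaA sigmaHat
      rw [if_pos hI, hT, hF, hsup]
      ext a
      constructor
      · rintro ⟨⟨haM, ha1, x, hx, hx1, hax⟩, hna⟩
        refine ⟨⟨⟨haM, x, hx, hx1, hax⟩, haM⟩, ?_⟩
        intro haσ
        exact hna ⟨haσ, ha1⟩
      · rintro ⟨⟨⟨haM, x, hx, hx1, hax⟩, -⟩, hna⟩
        have ha1 : a ≠ 1 := by
          rintro rfl
          exact hna (Subgroup.one_mem _)
        exact ⟨⟨haM, ha1, x, hx, hx1, hax⟩, fun h => hna h.1⟩
    rw [e]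
    exact Cfsg.Agent.S1362.result hG M hM ⊥ U hKU
  · obtain ⟨K, hKU, hK1, hU1, hF⟩ := sd_of_compl_typeII hG hM hII hc
    have hNU := not_normalizer_le_of_typeII hG hM hII hc
    have hnotI : ¬ IsOfTypeI M := by
      intro hI
      have hKs : K ≠ ⊥ →
          (sigmaCore M ⊓ Subgroup.centralizer (K : Set G)) ⊓ fittingHallOf M ≠ ⊥ := by
        intro hK1
        obtain ⟨-, h1, h2, -⟩ := Cfsg.Agent.S1364.result hG M hM K U hKU hK1
        rwa [inf_eq_left.mpr h2]
      exact hK1 (of_typeF hG hM hKU hI.1 hKs).1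
    have hnot : ¬ (IsOfTypeIII M ∨ IsOfTypeIV M) := by
      intro h
      exact hU1 (of_typeIII_IV hG hM hKU (fun _ _ => hNU) h).2.1
    have hT : typeCore M = sigmaCore M := by
      unfold typeCore
      rw [if_neg hnot, hF]
    have hder := sd_commutator_eq hG hM hKU hK1
    have hLM : U ⊔ sigmaCore M ≤ M := sup_le (sd_U_le hKU) (sigmaCore_le M)
    have e : typeA M \ typeA1 M = sigmaA M U \ (sigmaCore M : Set G) := by
      unfold typeA typeA1 sigmaA sigmaHat
      rw [if_neg hnotI, hT, hder]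
      ext a
      constructor
      · rintro ⟨⟨haM, ha1, x, hx, hx1, hax⟩, hna⟩
        refine ⟨⟨⟨hLM haM, x, hx, hx1, hax⟩, haM⟩, ?_⟩
        intro haσ
        exact hna ⟨haσ, ha1⟩
      · rintro ⟨⟨⟨-, x, hx, hx1, hax⟩, haM⟩, hna⟩
        have ha1 : a ≠ 1 := by
          rintro rfl
          exact hna (Subgroup.one_mem _)
        exact ⟨⟨haM, ha1, x, hx, hx1, hax⟩, fun h => hna h.1⟩
    rw [e]
    exact Cfsg.Agent.S1362.result hG M hM K U hKU

/-- **B and G, Theorem II, the statements on `U`** -/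
theorem s1390 (hG : IsMinSimpleOddOrder G) {M U : Subgroup G} (hM : IsCoatom M)
    (hU : (IsOfTypeI M ∧ IsComplIn (fittingHallOf M) U M) ∨
      (IsOfTypeII M ∧ IsComplIn (fittingHallOf M) U ⁅M, M⁆)) :
    (∀ (p : ℕ), p.Prime → ∀ P : Sylow p U, IsMulCommutative (P : Subgroup U) ∧
        PRankLE p 2 (P : Subgroup U)) ∧
      (∀ X : Set G, X ⊆ (U : Set G) \ {1} → X.Nonempty →
        fittingHallOf M ⊓ Subgroup.centralizer X ≠ ⊥ →
        Subgroup.centralizer X ≤ M ∧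
          ∀ L : Subgroup G, IsCoatom L → Subgroup.centralizer X ≤ L → L = M) ∧
      IsTISubset (typeA M \ typeA1 M) := by
  have h3 := typeA_diff_ti hG hM hU
  rcases hU with ⟨hI, hc⟩ | ⟨hII, hc⟩
  · obtain ⟨hKU, hF, -⟩ := sd_of_compl_typeI hG hM hI.1 hc
    obtain ⟨h1, h2⟩ := compl_props hG hM hKU hF
    exact ⟨h1, h2, h3⟩
  · obtain ⟨K, hKU, -, -, hF⟩ := sd_of_compl_typeII hG hM hII hc
    obtain ⟨h1, h2⟩ := compl_props hG hM hKU hF
    exact ⟨h1, h2, h3⟩

end Cfsg.Agent.Lib.Helper2.BG16g
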