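import Mathlib
import Cfsg.Agent.Lib.Helper2.BG16g1

set_option autoImplicit false
set_option linter.style.haveILetI false
set_option linter.unusedSectionVars false
set_option maxHeartbeats 800000

/-!
# B and G, Theorem I: the global structure of the set of maximal subgroups, from the four
characterisations of the types
-/

namespace Cfsg.Agent.Lib.Helper2.BG16h

open Cfsg Cfsg.Agent.Lib.Helper7 Cfsg.Agent.Lib.Helper4 Cfsg.Agent.Lib.Helper4.BG8
open Cfsg.Agent.Lib.Helper4.BG9 Cfsg.Agent.Lib.Lead.BG10 Cfsg.Agent.Lib.Helper4.BG14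
open Cfsg.Agent.Lib.Helper4.BG22 Cfsg.Agent.Lib.Lead.BG14n Cfsg.Agent.Lib.Helper5.BG139
open Cfsg.Agent.Lib.Helper2.BG16a Cfsg.Agent.Lib.Helper2.BG16b Cfsg.Agent.Lib.Helper2.BG16c
open Cfsg.Agent.Lib.Helper2.BG16d Cfsg.Agent.Lib.Helper2.BG16e Cfsg.Agent.Lib.Helper5.BG147
open Cfsg.Agent.Lib.Helper2.BG16f

universe u

variable {G : Type u} [Group G] [Finite G]

/-- `K = 1` iff `κ(M) = ∅` -/
theorem K_eq_bot_of_kappa_empty {M K : Subgroup G} (hK : IsPiHallOf (kappa M) K M)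
    (hκ : ¬ (kappa M).Nonempty) : K = ⊥ := by
  by_contra hK1
  exact hκ (kappa_nonempty hK hK1)

theorem K_ne_bot_of_kappa_nonempty {M K : Subgroup G} (hK : IsPiHallOf (kappa M) K M)
    (hκ : (kappa M).Nonempty) : K ≠ ⊥ := by
  intro h0
  obtain ⟨r, hr⟩ := hκ
  have h1 := hK.2.2 r hr.1 hr
  rw [h0, Subgroup.relIndex_bot_left] at h1
  exact h1 hr.2.1

/-- not both `K` and `U` are trivial -/
theorem U_ne_bot_of_K_eq_bot (hG : IsMinSimpleOddOrder G) {M K U : Subgroup G} (hM : IsCoatom M)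
    (hKU : IsSigmaDecomposition M K U) (hK : K = ⊥) : U ≠ ⊥ := by
  intro hU
  have hsolv : Group.IsSolvable ↥M := solvable_of_ne_top hG hM.1
  have h1 := Cfsg.Agent.Lib.Lead.BG10.IsComplIn.sup_eq hKU.compl
  rw [hK, hU, bot_sup_eq, bot_sup_eq] at h1
  apply not_le_commutator hsolv (Cfsg.Agent.Lib.Helper2.BG11.coatom_ne_bot hG hM)
  have := sigmaCore_le_commutator hG hM
  rwa [h1] at this

/-- **B and G, Theorem I (global part)** from the four characterisations of the types -/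
theorem theorem_I (hG : IsMinSimpleOddOrder G)
    (h80 : ∀ M K U : Subgroup G, IsCoatom M → IsSigmaDecomposition M K U → K = ⊥ → U ≠ ⊥ →
      IsOfTypeI M)
    (h81 : ∀ M K U : Subgroup G, IsCoatom M → IsSigmaDecomposition M K U → K ≠ ⊥ → U ≠ ⊥ →
      IsOfTypeII M)
    (h82 : ∀ M K U : Subgroup G, IsCoatom M → IsSigmaDecomposition M K U → K ≠ ⊥ → U = ⊥ →
      fittingHallOf M ≠ sigmaCore M → IsOfTypeIII M ∨ IsOfTypeIV M)
    (h83 : ∀ M K U : Subgroup G, IsCoatom M → IsSigmaDecomposition M K U → K ≠ ⊥ → U = ⊥ →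
      fittingHallOf M = sigmaCore M → IsOfTypeV M) :
    (∀ M : Subgroup G, IsCoatom M → IsOfTypeI M) ∨
      ∃ W₁ W₂ S T : Subgroup G, IsSelfNormalizingCyclic W₁ W₂ ∧ IsCoatom S ∧ IsCoatom T ∧
        IsComplIn ⁅S, S⁆ W₁ S ∧ IsComplIn ⁅T, T⁆ W₂ T ∧ S ⊓ T = W₁ ⊔ W₂ ∧
        (IsOfTypeII S ∨ IsOfTypeII T) ∧
        (IsOfTypeII S ∨ IsOfTypeIII S ∨ IsOfTypeIV S ∨ IsOfTypeV S) ∧
        (IsOfTypeII T ∨ IsOfTypeIII T ∨ IsOfTypeIV T ∨ IsOfTypeV T) ∧
        ∀ M : Subgroup G, IsCoatom M → IsOfTypeI M ∨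
          ∃ g : G, M = S.map (MulAut.conj g).toMonoidHom ∨ M = T.map (MulAut.conj g).toMonoidHom := by
  have typeI_of : ∀ M : Subgroup G, IsCoatom M → ¬ (kappa M).Nonempty → IsOfTypeI M := by
    intro M hM hκ
    obtain ⟨K, U, hKU⟩ := exists_sd hG hM
    have hK := K_eq_bot_of_kappa_empty hKU.hall hκ
    exact h80 M K U hM hKU hK (U_ne_bot_of_K_eq_bot hG hM hKU hK)
  have types_of : ∀ M K U : Subgroup G, IsCoatom M → IsSigmaDecomposition M K U → K ≠ ⊥ →
      IsOfTypeII M ∨ IsOfTypeIII M ∨ IsOfTypeIV M ∨ IsOfTypeV M := by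
    intro M K U hM hKU hK1
    by_cases hU : U = ⊥
    · by_cases hF : fittingHallOf M = sigmaCore M
      · exact Or.inr (Or.inr (Or.inr (h83 M K U hM hKU hK1 hU hF)))
      · rcases h82 M K U hM hKU hK1 hU hF with h | h
        · exact Or.inr (Or.inl h)
        · exact Or.inr (Or.inr (Or.inl h))
    · exact Or.inl (h81 M K U hM hKU hK1 hU)
  by_cases hex : ∃ M : Subgroup G, IsCoatom M ∧ (kappa M).Nonempty
  · right
    obtain ⟨M, hM, hκ⟩ := hex
    obtain ⟨K, U, hKU⟩ := exists_sd hG hM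
    have hK1 := K_ne_bot_of_kappa_nonempty hKU.hall hκ
    obtain ⟨Ms, t⟩ := t147 hG hM hKU.hall hK1
    obtain ⟨Us, hKUs⟩ := Cfsg.Agent.Lib.Helper4.BG19.exists_sigmaDecomposition hG t.hMs t.cycKs t.hKs
    refine ⟨K, kstar M K, M, Ms, isSelfNormalizingCyclic_of_t147 hG t, hM, t.hMs,
      sd_isComplIn_commutator hG hM hKU hK1, sd_isComplIn_commutator hG t.hMs hKUs t.hKs1,
      t.inf_eq, ?_, types_of M K U hM hKU hK1, types_of Ms _ Us t.hMs hKUs t.hKs1, ?_⟩
    · rcases t.notP1 with h | h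
      · left
        apply h81 M K U hM hKU hK1
        intro hU
        apply h
        have h1 := Cfsg.Agent.Lib.Lead.BG10.IsComplIn.sup_eq hKU.compl
        rwa [hU, bot_sup_eq] at h1
      · right
        apply h81 Ms _ Us t.hMs hKUs t.hKs1
        intro hU
        apply h
        have h1 := Cfsg.Agent.Lib.Lead.BG10.IsComplIn.sup_eq hKUs.compl
        rwa [hU, bot_sup_eq] at h1
    · intro H hH
      by_cases hκH : (kappa H).Nonempty
      · right
        obtain ⟨g, hg⟩ := t.conj H hH hκH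
        exact ⟨g, hg⟩
      · exact Or.inl (typeI_of H hH hκH)
  · left
    intro M hM
    apply typeI_of M hM
    intro hκ
    exact hex ⟨M, hM, hκ⟩

end Cfsg.Agent.Lib.Helper2.BG16h
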