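import Mathlib
import Cfsg.Agent.Lib.Helper2.BG16g2
import Cfsg.Agent.Lib.Helper4.BG21b
import Cfsg.Agent.S1374
import Cfsg.Agent.S1431

set_option autoImplicit false
set_option linter.style.haveILetI false
set_option linter.unusedSectionVars false
set_option maxHeartbeats 800000

/-!
# Towards the Dade hypothesis for `A₁(M)`, `A(M)`, `A₀(M)`: pointwise fusion and centralizers
-/

namespace Cfsg.Agent.Lib.Helper2.BG16i

open Cfsg Cfsg.Agent.Lib.Helper7 Cfsg.Agent.Lib.Helper4 Cfsg.Agent.Lib.Helper4.BG8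
open Cfsg.Agent.Lib.Helper4.BG9 Cfsg.Agent.Lib.Lead.BG10 Cfsg.Agent.Lib.Helper4.BG14
open Cfsg.Agent.Lib.Helper4.BG22 Cfsg.Agent.Lib.Lead.BG14n Cfsg.Agent.Lib.Helper5.BG139
open Cfsg.Agent.Lib.Helper5.BG147

universe u

variable {G : Type u} [Group G] [Finite G]

/-- `Ẑ`: the elements of `K K*` outside `K ∪ K*` -/
def zhat (M K : Subgroup G) : Set G :=
  (↑(K ⊔ kstar M K) : Set G) \ ((K : Set G) ∪ ↑(kstar M K))

/-- the union of the `M`-conjugates of `Ẑ` -/
def zhatConj (M K : Subgroup G) : Set G :=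
  {a | ∃ m ∈ M, ∃ z ∈ zhat M K, a = m * z * m⁻¹}

/-- the big set containing `A₀(M)`: the non-identity elements of `A(M)` (in the sense of the
standard factorisation) together with the `M`-conjugates of `Ẑ` -/
def bigA (M K U : Subgroup G) : Set G :=
  (sigmaA M U \ {1}) ∪ zhatConj M K

/-- **fusion of the elements of `M_σ`** is controlled by `M` -/
theorem fusion_sigmaCore (hG : IsMinSimpleOddOrder G) {M : Subgroup G} (hM : IsCoatom M) {x g : G}
    (hx : x ∈ sigmaCore M) (hx1 : x ≠ 1) (hgx : g * x * g⁻¹ ∈ M) :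
    ∃ m ∈ M, m * x * m⁻¹ = g * x * g⁻¹ := by
  obtain ⟨-, R, -, hc, huniq⟩ := Cfsg.Agent.S1374.result hG M hM x hx hx1
  have hxg : x ∈ M.map (MulAut.conj g⁻¹).toMonoidHom := by
    refine ⟨g * x * g⁻¹, hgx, ?_⟩
    simp [MulAut.conj_apply]
    group
  obtain ⟨r, ⟨hr, hrM⟩, -⟩ := huniq g⁻¹ hxg
  have hrc : r ∈ Subgroup.centralizer ({x} : Set G) := hc.2.1 hr
  have hrx : r * x = x * r := (Subgroup.mem_centralizer_iff.mp hrc x rfl).symm
  have hM1 : M ≠ ⊥ := by
    intro h0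
    rw [h0, Subgroup.mem_bot] at hgx
    apply hx1
    have : x = g⁻¹ * (g * x * g⁻¹) * g := by group
    rw [this, hgx]; group
  have hgr : g * r ∈ M := by
    have h3 : g * r ∈ Subgroup.normalizer (M : Set G) := by
      rw [Subgroup.mem_normalizer_iff]
      intro y
      constructor
      · intro hy
        have h4 : r * y * r⁻¹ ∈ M.map (MulAut.conj r).toMonoidHom := ⟨y, hy, by simp [MulAut.conj_apply]⟩
        rw [hrM] at h4
        obtain ⟨w, hw, hw'⟩ := h4
        have h5 : g⁻¹ * w * g = r * y * r⁻¹ := by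
          simpa [MulAut.conj_apply] using hw'
        have h6 : g * r * y * (g * r)⁻¹ = w := by
          have : g * r * y * (g * r)⁻¹ = g * (r * y * r⁻¹) * g⁻¹ := by group
          rw [this, ← h5]; group
        rw [h6]; exact hw
      · intro hy
        have h4 : g⁻¹ * (g * r * y * (g * r)⁻¹) * g ∈ M.map (MulAut.conj g⁻¹).toMonoidHom :=
          ⟨_, hy, by simp [MulAut.conj_apply]⟩
        rw [← hrM] at h4
        obtain ⟨w, hw, hw'⟩ := h4
        have h5 : r * w * r⁻¹ = g⁻¹ * (g * r * y * (g * r)⁻¹) * g := by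
          simpa [MulAut.conj_apply] using hw'
        have h6 : w = y := by
          have : g⁻¹ * (g * r * y * (g * r)⁻¹) * g = r * y * r⁻¹ := by group
          rw [this] at h5
          have h7 : w = r⁻¹ * (r * w * r⁻¹) * r := by group
          rw [h7, h5]; group
        rw [← h6]; exact hw
    rw [normalizer_eq_of_isCoatom hG hM hM1 le_rfl Subgroup.le_normalizer] at h3
    exact h3
  refine ⟨g * r, hgr, ?_⟩
  calc g * r * x * (g * r)⁻¹ = g * (r * x) * r⁻¹ * g⁻¹ := by group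
    _ = g * (x * r) * r⁻¹ * g⁻¹ := by rw [hrx]
    _ = g * x * g⁻¹ := by group

/-- for `x ∈ A(M) ∖ M_σ` the centralizer `C_G(x)` lies in `M` -/
theorem centralizer_le_of_mem_sigmaA_diff (hG : IsMinSimpleOddOrder G) {M K U : Subgroup G}
    (hM : IsCoatom M) (h : IsSigmaDecomposition M K U) {x : G}
    (hx : x ∈ sigmaA M U \ (sigmaCore M : Set G)) :
    Subgroup.centralizer ({x} : Set G) ≤ M := by
  obtain ⟨⟨⟨hxM, y, hy, hy1, hxy⟩, hxH⟩, hxσ⟩ := hx
  have hHM : U ⊔ sigmaCore M ≤ M := sup_le (sd_U_le h) (Cfsg.Agent.Lib.Lead.BG10.sigmaCore_le M)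
  have hAH : Subgroup.zpowers x ≤ U ⊔ sigmaCore M := Subgroup.zpowers_le.mpr hxH
  have hAtop : Subgroup.zpowers x ≠ ⊤ := fun h0 => hM.1 (eq_top_iff.mpr (h0 ▸ hAH.trans hHM))
  have hsolvA : Group.IsSolvable ↥(Subgroup.zpowers x) := solvable_of_ne_top hG hAtop
  obtain ⟨B, hBhall, -⟩ := exists_hall_ge hsolvA {p | p ∉ sigma M}
    (bot_le : (⊥ : Subgroup G) ≤ Subgroup.zpowers x) (by
      intro p hp hd
      rw [Subgroup.card_bot] at hd
      exact absurd (Nat.dvd_one.mp hd) hp.one_lt.ne')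
  have hBA : B ≤ Subgroup.zpowers x := hBhall.1
  have hB1 : B ≠ ⊥ := by
    intro h0
    apply hxσ
    apply mem_sigmaCore_of_orderOf hG hM hxM
    intro p hp hd
    by_contra hpσ
    apply hBhall.2.2 p hp hpσ
    rw [h0, Subgroup.relIndex_bot_left, Nat.card_zpowers]
    exact hd
  have hBσ : ∀ p : ℕ, p.Prime → p ∣ Nat.card B → p ∉ sigma M := hBhall.2.1
  have hxCy : x ∈ Subgroup.centralizer ({y} : Set G) := by
    rw [Subgroup.mem_centralizer_iff]
    rintro z rfl
    exact hxy.symm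
  have hBy : B ≤ Subgroup.centralizer ({y} : Set G) :=
    hBA.trans (Subgroup.zpowers_le.mpr hxCy)
  obtain ⟨hCM, -⟩ := Cfsg.Agent.Lib.Helper2.BG14t.uniq_of_le_sup hG hM h (hBA.trans hAH) hB1 hBσ
    hy hy1 hBy
  refine le_trans ?_ hCM
  intro c hc
  rw [Subgroup.mem_centralizer_iff] at hc ⊢
  intro b hb
  have hbx : b ∈ Subgroup.zpowers x := hBA hb
  obtain ⟨n, rfl⟩ := Subgroup.mem_zpowers_iff.mp hbx
  have h1 : Commute x c := hc x rfl
  exact (h1.zpow_left n).eq

end Cfsg.Agent.Lib.Helper2.BG16i
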