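import Mathlib
import Cfsg.Agent.Lib.Helper2.BG16i1

set_option autoImplicit false
set_option linter.style.haveILetI false
set_option linter.unusedSectionVars false
set_option maxHeartbeats 800000

/-!
# The `M`-conjugates of `Ẑ`: strong TI-property, orders, fusion in the big set
-/

namespace Cfsg.Agent.Lib.Helper2.BG16i

open Cfsg Cfsg.Agent.Lib.Helper7 Cfsg.Agent.Lib.Helper4 Cfsg.Agent.Lib.Helper4.BG8
open Cfsg.Agent.Lib.Helper4.BG9 Cfsg.Agent.Lib.Lead.BG10 Cfsg.Agent.Lib.Helper4.BG14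
open Cfsg.Agent.Lib.Helper4.BG22 Cfsg.Agent.Lib.Lead.BG14n Cfsg.Agent.Lib.Helper5.BG139
open Cfsg.Agent.Lib.Helper5.BG147 Cfsg.Agent.Lib.Helper4.BG21 Cfsg.Agent.Lib.Helper2.BG16b

universe u

variable {G : Type u} [Group G] [Finite G]

/-- the decomposition of an element of `Ẑ` -/
theorem exists_of_mem_zhat {M K : Subgroup G} {z : G} (hz : z ∈ zhat M K) :
    ∃ k ∈ K, ∃ y ∈ kstar M K, z = k * y ∧ k * y = y * k ∧ k ≠ 1 ∧ y ≠ 1 := by
  have hKC : K ≤ Subgroup.centralizer ((kstar M K : Subgroup G) : Set G) :=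
    Subgroup.le_centralizer_iff.mp inf_le_right
  obtain ⟨k, hk, y, hy, rfl, hky⟩ := exists_mul_of_mem_sup hKC hz.1
  refine ⟨k, hk, y, hy, rfl, hky, ?_, ?_⟩
  · rintro rfl
    apply hz.2
    right
    simpa using hy
  · rintro rfl
    apply hz.2
    left
    simpa using hk

theorem K_ne_bot_of_mem_zhat {M K : Subgroup G} {z : G} (hz : z ∈ zhat M K) : K ≠ ⊥ := by
  obtain ⟨k, hk, -, -, -, -, hk1, -⟩ := exists_of_mem_zhat hz
  intro h
  rw [h, Subgroup.mem_bot] at hk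
  exact hk1 hk

theorem zhat_subset {M K : Subgroup G} (hK : K ≤ M) : zhat M K ⊆ (M : Set G) := by
  intro z hz
  exact (sup_le hK (inf_le_left.trans (sigmaCore_le M))) hz.1

theorem zhatConj_subset {M K : Subgroup G} (hK : K ≤ M) : zhatConj M K ⊆ (M : Set G) := by
  rintro a ⟨m, hm, z, hz, rfl⟩
  exact M.mul_mem (M.mul_mem hm (zhat_subset hK hz)) (M.inv_mem hm)

theorem one_notMem_zhatConj {M K : Subgroup G} : (1 : G) ∉ zhatConj M K := by
  rintro ⟨m, hm, z, hz, h1⟩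
  have hz1 : z = 1 := by
    have : z = m⁻¹ * (m * z * m⁻¹) * m := by group
    rw [this, ← h1]; group
  apply hz.2
  left
  rw [hz1]
  exact K.one_mem

theorem conj_mem_zhatConj {M K : Subgroup G} {m a : G} (hm : m ∈ M) (ha : a ∈ zhatConj M K) :
    m * a * m⁻¹ ∈ zhatConj M K := by
  obtain ⟨m', hm', z, hz, rfl⟩ := ha
  exact ⟨m * m', M.mul_mem hm hm', z, hz, by group⟩

/-- **strong TI-property of the conjugates of `Ẑ`**: if `a ∈ Ẑ^M` and `g a g⁻¹ ∈ M` then `g ∈ M` -/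
theorem mem_of_conj_zhatConj (hG : IsMinSimpleOddOrder G) {M K : Subgroup G} (hM : IsCoatom M)
    (hK : IsPiHallOf (kappa M) K M) {a g : G} (ha : a ∈ zhatConj M K) (hga : g * a * g⁻¹ ∈ M) :
    g ∈ M := by
  obtain ⟨m, hm, z, hz, rfl⟩ := ha
  have hK1 := K_ne_bot_of_mem_zhat hz
  obtain ⟨k, hk, y, hy, rfl, hky, hk1, hy1⟩ := exists_of_mem_zhat hz
  obtain ⟨h1, -, -, -⟩ := Cfsg.Agent.S1431.result hG M hM K hK hK1
  have hcop : (Nat.card K).Coprime (Nat.card ↥(kstar M K)) :=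
    Nat.Coprime.coprime_dvd_right (Subgroup.card_dvd_of_le inf_le_left)
      (Cfsg.Agent.Lib.Helper2.BG14z.coprime_card_kappa_hall hG hM hK)
  suffices hh : g * m ∈ M by
    have : g = g * m * m⁻¹ := by group
    rw [this]
    exact M.mul_mem hh (M.inv_mem hm)
  by_contra hh
  have hh' : (g * m)⁻¹ ∉ M := fun h => hh (by simpa using M.inv_mem h)
  have h3 := h1 (g * m)⁻¹ hh'
  have h4 : y ^ Nat.card K ∈ kstar M K ⊓ M.map (MulAut.conj (g * m)⁻¹).toMonoidHom := by
    refine ⟨(kstar M K).pow_mem hy _, ?_⟩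
    rw [← mul_pow_card_left hk hky]
    refine ⟨(g * (m * (k * y) * m⁻¹) * g⁻¹) ^ Nat.card K, M.pow_mem hga _, ?_⟩
    simp only [MulEquiv.coe_toMonoidHom, MulAut.conj_apply, inv_inv]
    have e : g * (m * (k * y) * m⁻¹) * g⁻¹ = (g * m) * (k * y) * (g * m)⁻¹ := by group
    rw [e, conj_pow]
    group
  rw [h3, Subgroup.mem_bot] at h4
  exact pow_ne_one_of_coprime hy hy1 hcop h4

/-- the centralizer of an element of `Ẑ^M` lies in `M` -/
theorem centralizer_le_of_mem_zhatConj (hG : IsMinSimpleOddOrder G) {M K : Subgroup G}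
    (hM : IsCoatom M) (hK : IsPiHallOf (kappa M) K M) {a : G} (ha : a ∈ zhatConj M K) :
    Subgroup.centralizer ({a} : Set G) ≤ M := by
  intro c hc
  apply mem_of_conj_zhatConj hG hM hK ha
  have : c * a * c⁻¹ = a := by
    have h1 := Subgroup.mem_centralizer_iff.mp hc a rfl
    rw [← h1]; group
  rw [this]
  exact zhatConj_subset hK.1 ha

/-- an element of `Ẑ^M` is not killed by the order of `U M_σ` -/
theorem pow_card_ne_one_of_mem_zhatConj (hG : IsMinSimpleOddOrder G) {M K U : Subgroup G}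
    (hM : IsCoatom M) (h : IsSigmaDecomposition M K U) {a : G} (ha : a ∈ zhatConj M K) :
    a ^ Nat.card ↥(U ⊔ sigmaCore M) ≠ 1 := by
  obtain ⟨m, hm, z, hz, rfl⟩ := ha
  obtain ⟨k, hk, y, hy, rfl, hky, hk1, hy1⟩ := exists_of_mem_zhat hz
  have hyH : y ∈ U ⊔ sigmaCore M :=
    Subgroup.mem_sup_right ((inf_le_left : kstar M K ≤ sigmaCore M) hy)
  intro h0
  rw [conj_pow] at h0
  have h1 : (k * y) ^ Nat.card ↥(U ⊔ sigmaCore M) = 1 := by
    have : (k * y) ^ Nat.card ↥(U ⊔ sigmaCore M) =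
        m⁻¹ * (m * (k * y) ^ Nat.card ↥(U ⊔ sigmaCore M) * m⁻¹) * m := by group
    rw [this, h0]; group
  rw [mul_pow_card_right hyH hky] at h1
  exact pow_ne_one_of_coprime hk hk1 (sd_coprime hG hM h).symm h1

/-- an element of `U M_σ` is killed by the order of `U M_σ`, and so are its conjugates -/
theorem conj_pow_card_eq_one {H : Subgroup G} {a g : G} (ha : a ∈ H) :
    (g * a * g⁻¹) ^ Nat.card ↥H = 1 := by
  rw [conj_pow]
  have h1 : (⟨a, ha⟩ : ↥H) ^ Nat.card H = 1 := pow_card_eq_one'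
  have h2 : a ^ Nat.card H = 1 := by
    have := congrArg Subtype.val h1
    rw [Subgroup.coe_pow, Subgroup.coe_one] at this
    exact this
  rw [h2]; group

/-- **fusion in the big set is controlled by `M`** -/
theorem fusion_bigA (hG : IsMinSimpleOddOrder G) {M K U : Subgroup G} (hM : IsCoatom M)
    (h : IsSigmaDecomposition M K U) {a g : G} (ha : a ∈ bigA M K U)
    (hga : g * a * g⁻¹ ∈ bigA M K U) : ∃ m ∈ M, m * a * m⁻¹ = g * a * g⁻¹ := by
  have hsub : bigA M K U ⊆ (M : Set G) := by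
    rintro b (hb | hb)
    · exact hb.1.1.1
    · exact zhatConj_subset h.hall.1 hb
  rcases ha with ha | ha
  · by_cases haσ : a ∈ sigmaCore M
    · exact fusion_sigmaCore hG hM haσ ha.2 (hsub hga)
    · rcases hga with hga | hga
      · by_cases hgaσ : g * a * g⁻¹ ∈ sigmaCore M
        · exfalso
          have hne : g * a * g⁻¹ ≠ 1 := hga.2
          have h1 : g⁻¹ * (g * a * g⁻¹) * g⁻¹⁻¹ ∈ M := by
            have : g⁻¹ * (g * a * g⁻¹) * g⁻¹⁻¹ = a := by group
            rw [this]; exact ha.1.1.1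
          obtain ⟨m, hm, hm'⟩ := fusion_sigmaCore hG hM hgaσ hne h1
          have h2 : g⁻¹ * (g * a * g⁻¹) * g⁻¹⁻¹ = a := by group
          rw [h2] at hm'
          apply haσ
          rw [← hm']
          have hn := Cfsg.Agent.Lib.Lead.BG10.le_normalizer_sigmaCore M hm
          exact (Subgroup.mem_set_normalizer_iff.mp hn _).mp hgaσ
        · have hg : g ∈ M := Cfsg.Agent.Lib.Helper2.BG14t.mem_of_conj_mem_sigmaA_diff hG hM h
            ⟨ha.1, haσ⟩ ⟨hga.1, hgaσ⟩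
          exact ⟨g, hg, rfl⟩
      · exfalso
        exact pow_card_ne_one_of_mem_zhatConj hG hM h hga (conj_pow_card_eq_one ha.1.2)
  · have hg : g ∈ M := mem_of_conj_zhatConj hG hM h.hall ha (hsub hga)
    exact ⟨g, hg, rfl⟩

end Cfsg.Agent.Lib.Helper2.BG16i
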