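import Mathlib
import Cfsg.Agent.Lib.Helper2.BG16i2
import Cfsg.Agent.Lib.Helper4.BGConj
import Cfsg.Agent.S1375
import Cfsg.Agent.S1378
import Cfsg.Agent.S1432

set_option autoImplicit false
set_option linter.style.haveILetI false
set_option linter.unusedSectionVars false
set_option maxHeartbeats 800000

/-!
# The subgroups `R(a)`: the centralizer clauses and the coprimality clause of the Dade hypothesis
-/

namespace Cfsg.Agent.Lib.Helper2.BG16i

open Cfsg Cfsg.Agent.Lib.Helper7 Cfsg.Agent.Lib.Helper4 Cfsg.Agent.Lib.Helper4.BG8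
open Cfsg.Agent.Lib.Helper4.BG9 Cfsg.Agent.Lib.Lead.BG10 Cfsg.Agent.Lib.Helper4.BG14
open Cfsg.Agent.Lib.Helper4.BG22 Cfsg.Agent.Lib.Lead.BG14n Cfsg.Agent.Lib.Helper5.BG139
open Cfsg.Agent.Lib.Helper5.BG147 Cfsg.Agent.Lib.Helper4.BG21 Cfsg.Agent.Lib.Helper2.BG16b
open Cfsg.Agent.Lib.Helper4.BGConj Cfsg.Agent.Lib.Helper2.BG16e

universe u

variable {G : Type u} [Group G] [Finite G]

theorem supportR_eq_bot {M : Subgroup G} {a : G} (h : Subgroup.centralizer ({a} : Set G) ≤ M) :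
    supportR M a = ⊥ := by
  unfold supportR
  rw [dif_neg]
  intro h'
  exact h'.1 h

theorem supportR_eq_of_uniq {M N : Subgroup G} {a : G}
    (h1 : ¬ Subgroup.centralizer ({a} : Set G) ≤ M) (hN : IsCoatom N)
    (hCN : Subgroup.centralizer ({a} : Set G) ≤ N)
    (huniq : ∀ L : Subgroup G, IsCoatom L → Subgroup.centralizer ({a} : Set G) ≤ L → L = N) :
    supportR M a = fittingHallOf N ⊓ Subgroup.centralizer ({a} : Set G) := by
  have hex : ∃! L : Subgroup G, IsCoatom L ∧ Subgroup.centralizer ({a} : Set G) ≤ L :=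
    ⟨N, ⟨hN, hCN⟩, fun L hL => huniq L hL.1 hL.2⟩
  have hpos : ¬ Subgroup.centralizer ({a} : Set G) ≤ M ∧
      ∃! L : Subgroup G, IsCoatom L ∧ Subgroup.centralizer ({a} : Set G) ≤ L := ⟨h1, hex⟩
  unfold supportR
  rw [dif_pos hpos]
  have hs := Classical.choose_spec hpos.2.exists
  rw [huniq _ hs.1 hs.2]

/-- the data of the partner `N = N[a]` of an element `a ∈ M_σ#` with `C_G(a) ⊄ M` -/
theorem exists_partner_supportR (hG : IsMinSimpleOddOrder G) {M : Subgroup G} (hM : IsCoatom M)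
    {a : G} (ha : a ∈ sigmaCore M) (ha1 : a ≠ 1)
    (hC : ¬ Subgroup.centralizer ({a} : Set G) ≤ M) :
    ∃ N : Subgroup G, IsCoatom N ∧ Subgroup.centralizer ({a} : Set G) ≤ N ∧
      supportR M a = sigmaCore N ⊓ Subgroup.centralizer ({a} : Set G) ∧
      Subgroup.centralizer ({a} : Set G) ≤ Subgroup.normalizer
        ((sigmaCore N ⊓ Subgroup.centralizer ({a} : Set G) : Subgroup G) : Set G) ∧
      IsComplIn (M ⊓ Subgroup.centralizer ({a} : Set G))
        (sigmaCore N ⊓ Subgroup.centralizer ({a} : Set G)) (Subgroup.centralizer ({a} : Set G)) ∧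
      a ∉ sigmaCore N := by
  obtain ⟨N, ⟨hN, hCN⟩, huniq, hF, hnorm, hcompl, -, hlast⟩ :=
    Cfsg.Agent.S1375.result hG M hM a ha ha1 hC
  refine ⟨N, hN, hCN, ?_, hnorm, hcompl, ?_⟩
  · rw [supportR_eq_of_uniq hC hN hCN huniq, hF]
  · obtain ⟨K', U', hKU'⟩ := exists_sd hG hN
    exact (hlast K' U' hKU').2.2

/-- **the centralizer clauses of the Dade hypothesis**, pointwise -/
theorem dade_pointwise (hG : IsMinSimpleOddOrder G) {M : Subgroup G} (hM : IsCoatom M) {a : G}
    (ha1 : a ≠ 1) (h : a ∈ sigmaCore M ∨ Subgroup.centralizer ({a} : Set G) ≤ M) :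
    supportR M a ≤ Subgroup.centralizer ({a} : Set G) ∧
    (∀ c ∈ Subgroup.centralizer ({a} : Set G), ∀ u ∈ supportR M a, c * u * c⁻¹ ∈ supportR M a) ∧
    supportR M a ⊓ (M ⊓ Subgroup.centralizer ({a} : Set G)) = ⊥ ∧
    supportR M a ⊔ (M ⊓ Subgroup.centralizer ({a} : Set G)) = Subgroup.centralizer ({a} : Set G) := by
  by_cases hC : Subgroup.centralizer ({a} : Set G) ≤ M
  · rw [supportR_eq_bot hC]
    refine ⟨bot_le, ?_, bot_inf_eq _, ?_⟩
    · intro c _ u hu
      rw [Subgroup.mem_bot] at hu ⊢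
      rw [hu]; group
    · rw [bot_sup_eq]
      exact inf_eq_right.mpr hC
  · have ha : a ∈ sigmaCore M := h.resolve_right hC
    obtain ⟨N, -, -, hR, hnorm, hcompl, -⟩ := exists_partner_supportR hG hM ha ha1 hC
    rw [hR]
    refine ⟨inf_le_right, ?_, ?_, ?_⟩
    · intro c hc u hu
      exact (Subgroup.mem_normalizer_iff.mp (hnorm hc) u).mp hu
    · rw [inf_comm]
      exact hcompl.2.2.1
    · apply le_antisymm
      · exact sup_le inf_le_right inf_le_right
      · intro m hm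
        obtain ⟨x, hx, y, hy, rfl⟩ := hcompl.2.2.2 m hm
        exact Subgroup.mul_mem _ (Subgroup.mem_sup_right hx) (Subgroup.mem_sup_left hy)

/-- the conclusion of B and G, Corollary 15.9(a) (the first part of statement S1436) for `M` -/
def H1436 (M : Subgroup G) : Prop :=
  ∀ x ∈ sigmaCore M, x ≠ 1 → ¬ Subgroup.centralizer ({x} : Set G) ≤ M →
    ∀ N : Subgroup G, IsCoatom N → Subgroup.centralizer ({x} : Set G) ≤ N →
      (∃ p ∈ sigma N, p ∣ Nat.card M) → kappa M = ∅ ∧ tau2 M = ∅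

/-- if `κ(M)` and `τ₂(M)` are empty, an element of `M` centralizing a non-identity element of
`M_σ` has `σ(M)`-order -/
theorem prime_mem_sigma_of_commute (hG : IsMinSimpleOddOrder G) {M : Subgroup G} (hM : IsCoatom M)
    (hκ : kappa M = ∅) (hτ : tau2 M = ∅) {y c : G} (hy : y ∈ sigmaCore M) (hy1 : y ≠ 1)
    (hc : c ∈ M) (hcy : c * y = y * c) {r : ℕ} (hr : r.Prime) (hrc : r ∣ orderOf c) :
    r ∈ sigma M := by
  by_contra hrσ
  obtain ⟨n, hn⟩ : ∃ n : ℕ, n = orderOf c / r := ⟨_, rfl⟩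
  have hord : orderOf (c ^ n) = r := by
    rw [hn]; exact orderOf_pow_orderOf_div (orderOf_pos c).ne' hrc
  have hc1 : c ^ n ≠ 1 := by
    intro h
    rw [h, orderOf_one] at hord
    exact hr.one_lt.ne hord
  have hmemc : c ^ n ∈ Subgroup.centralizer ({y} : Set G) := by
    rw [Subgroup.mem_centralizer_iff]
    rintro z rfl
    have : Commute c z := hcy
    exact (this.pow_left n).eq.symm
  have hmem : c ^ n ∈ M ⊓ Subgroup.centralizer ({y} : Set G) := ⟨M.pow_mem hc n, hmemc⟩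
  have hσ : ∀ p : ℕ, p.Prime → p ∣ orderOf (c ^ n) → p ∉ sigma M := by
    intro p hp hd
    rw [hord] at hd
    rw [(Nat.prime_dvd_prime_iff_eq hp hr).mp hd]
    exact hrσ
  rcases Cfsg.Agent.S1432.result hG M hM y hy hy1 (c ^ n) hmem hc1 hσ with ⟨h1, -⟩ | ⟨h1, -, -⟩
  · have := h1 r hr (by rw [hord])
    rw [hκ] at this
    exact this
  · have := h1 r hr (by rw [hord])
    rw [hτ] at this
    exact this

/-- **the coprimality clause of the Dade hypothesis**, pointwise -/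
theorem dade_coprime (hG : IsMinSimpleOddOrder G) {M : Subgroup G} (hM : IsCoatom M)
    (h1436 : H1436 M) {a b : G} (ha1 : a ≠ 1)
    (ha : a ∈ sigmaCore M ∨ Subgroup.centralizer ({a} : Set G) ≤ M) (hb : b ∈ M) (hb1 : b ≠ 1)
    (hb' : (∃ y ∈ sigmaCore M, y ≠ 1 ∧ b * y = y * b) ∨ (kappa M).Nonempty) :
    Nat.Coprime (Nat.card (supportR M a)) (Nat.card ↥(M ⊓ Subgroup.centralizer ({b} : Set G))) := by
  by_cases hC : Subgroup.centralizer ({a} : Set G) ≤ M
  · rw [supportR_eq_bot hC, Subgroup.card_bot]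
    exact Nat.coprime_one_left _
  have haσ : a ∈ sigmaCore M := ha.resolve_right hC
  obtain ⟨N, hN, hCN, hR, -, -, haN⟩ := exists_partner_supportR hG hM haσ ha1 hC
  have hRσ : ∀ r : ℕ, r.Prime → r ∣ Nat.card (supportR M a) → r ∈ sigma N := by
    intro r hr hd
    apply (sigmaCore_hall hG hN).1.2.1 r hr
    rw [hR] at hd
    exact hd.trans (Subgroup.card_dvd_of_le inf_le_left)
  apply Nat.coprime_of_dvd
  intro r hr hd1 hd2
  have hrN : r ∈ sigma N := hRσ r hr hd1
  have hrM : r ∣ Nat.card M := hd2.trans (Subgroup.card_dvd_of_le inf_le_left)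
  obtain ⟨hκ, hτ⟩ := h1436 a haσ ha1 hC N hN hCN ⟨r, hrN, hrM⟩
  -- `N` is not conjugate to `M`
  have hnc : ¬ (sigma M ∩ sigma N).Nonempty := by
    intro hne
    obtain ⟨g, hg⟩ := (Cfsg.Agent.S1378.result hG).2 M N hM hN hne
    apply haN
    apply mem_sigmaCore_of_orderOf hG hN (hCN (by
      rw [Subgroup.mem_centralizer_iff]
      rintro z rfl
      rfl))
    intro p hp hd
    have h1 := mem_sigma_of_dvd_orderOf hG hM haσ hp hd
    have h2 : sigma N = sigma M := by
      rw [hg]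
      exact sigma_cj g M
    rw [h2]
    exact h1
  -- `b` centralizes a non-identity element of `M_σ`
  obtain ⟨y, hy, hy1, hby⟩ : ∃ y ∈ sigmaCore M, y ≠ 1 ∧ b * y = y * b := by
    rcases hb' with h | h
    · exact h
    · rw [hκ] at h
      exact absurd h Set.not_nonempty_empty
  -- `b ∈ M_σ`
  have hbσ : b ∈ sigmaCore M := by
    apply mem_sigmaCore_of_orderOf hG hM hb
    intro p hp hd
    exact prime_mem_sigma_of_commute hG hM hκ hτ hy hy1 hb hby hp hd
  -- an element of order `r` of `C_M(b)`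
  haveI : Fact r.Prime := ⟨hr⟩
  obtain ⟨c, hc⟩ := exists_prime_orderOf_dvd_card' r hd2
  have hcM : (c : G) ∈ M := c.2.1
  have hcb : (c : G) * b = b * (c : G) := by
    have := Subgroup.mem_centralizer_iff.mp c.2.2 b rfl
    exact this.symm
  have hcord : orderOf (c : G) = r := by
    rw [← hc]
    exact (Subgroup.orderOf_coe c)
  have hrσ : r ∈ sigma M :=
    prime_mem_sigma_of_commute hG hM hκ hτ hbσ hb1 hcM hcb hr (by rw [hcord])
  exact hnc ⟨r, hrσ, hrN⟩

end Cfsg.Agent.Lib.Helper2.BG16i
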