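import Mathlib
import Cfsg.Agent.Lib.Helper2.BG16i3
import Cfsg.Agent.Lib.Helper2.BG16f1
import Cfsg.Agent.Lib.Helper4.BG24a
import Cfsg.Prelude.Def_OddOrderChar

set_option autoImplicit false
set_option linter.style.haveILetI false
set_option linter.unusedSectionVars false
set_option maxHeartbeats 800000

/-!
# The Dade hypothesis for every nonempty `M`-invariant subset of the big set
-/

namespace Cfsg.Agent.Lib.Helper2.BG16i

open Cfsg Cfsg.Agent.Lib.Helper7 Cfsg.Agent.Lib.Helper4 Cfsg.Agent.Lib.Helper4.BG8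
open Cfsg.Agent.Lib.Helper4.BG9 Cfsg.Agent.Lib.Lead.BG10 Cfsg.Agent.Lib.Helper4.BG14
open Cfsg.Agent.Lib.Helper4.BG22 Cfsg.Agent.Lib.Lead.BG14n Cfsg.Agent.Lib.Helper5.BG139
open Cfsg.Agent.Lib.Helper5.BG147 Cfsg.Agent.Lib.Helper4.BG21 Cfsg.Agent.Lib.Helper2.BG16b
open Cfsg.Agent.Lib.Helper4.BGConj Cfsg.Agent.Lib.Helper2.BG16e

universe u

variable {G : Type u} [Group G] [Finite G]

theorem bigA_subset {M K U : Subgroup G} (h : IsSigmaDecomposition M K U) :
    bigA M K U ⊆ (M : Set G) := by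
  rintro b (hb | hb)
  · exact hb.1.1.1
  · exact zhatConj_subset h.hall.1 hb

theorem one_notMem_bigA {M K U : Subgroup G} : (1 : G) ∉ bigA M K U := by
  rintro (h | h)
  · exact h.2 rfl
  · exact one_notMem_zhatConj h

theorem bigA_good (hG : IsMinSimpleOddOrder G) {M K U : Subgroup G} (hM : IsCoatom M)
    (h : IsSigmaDecomposition M K U) {a : G} (ha : a ∈ bigA M K U) :
    a ∈ sigmaCore M ∨ Subgroup.centralizer ({a} : Set G) ≤ M := by
  rcases ha with ha | ha
  · by_cases haσ : a ∈ sigmaCore M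
    · exact Or.inl haσ
    · exact Or.inr (centralizer_le_of_mem_sigmaA_diff hG hM h ⟨ha.1, haσ⟩)
  · exact Or.inr (centralizer_le_of_mem_zhatConj hG hM h.hall ha)

theorem bigA_commute {M K U : Subgroup G} (h : IsSigmaDecomposition M K U) {b : G}
    (hb : b ∈ bigA M K U) :
    (∃ y ∈ sigmaCore M, y ≠ 1 ∧ b * y = y * b) ∨ (kappa M).Nonempty := by
  rcases hb with hb | hb
  · exact Or.inl hb.1.1.2
  · right
    obtain ⟨m, hm, z, hz, rfl⟩ := hb
    exact Cfsg.Agent.Lib.Helper2.BG16f.kappa_nonempty h.hall (K_ne_bot_of_mem_zhat hz)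

/-- **the Dade hypothesis for the nonempty `M`-invariant subsets of the big set** -/
theorem dade_of_subset (hG : IsMinSimpleOddOrder G) {M K U : Subgroup G} (hM : IsCoatom M)
    (h : IsSigmaDecomposition M K U) (h1436 : H1436 M) {A : Set G} (hsub : A ⊆ bigA M K U)
    (hne : A.Nonempty) (hinv : ∀ m ∈ M, ∀ a ∈ A, m * a * m⁻¹ ∈ A) :
    Subgroup.normalizer A = M ∧ DadeHypothesis A M (supportR M) := by
  have hAM : A ⊆ (M : Set G) := hsub.trans (bigA_subset h)
  have h1A : (1 : G) ∉ A := fun h1 => one_notMem_bigA (hsub h1)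
  refine ⟨?_, ?_⟩
  · apply le_antisymm
    · have h1 : Subgroup.normalizer A ≤ Subgroup.normalizer (Subgroup.closure A : Set G) := by
        apply Cfsg.Agent.Lib.Helper2.BG16a.le_normalizer_closure
        intro u hu s hs
        exact (Subgroup.mem_set_normalizer_iff.mp hu s).mp hs
      have hcl1 : Subgroup.closure A ≠ ⊥ := by
        obtain ⟨a, ha⟩ := hne
        intro h0
        have : a ∈ Subgroup.closure A := Subgroup.subset_closure ha
        rw [h0, Subgroup.mem_bot] at this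
        exact h1A (this ▸ ha)
      have hclM : Subgroup.closure A ≤ M := (Subgroup.closure_le M).mpr hAM
      have hn : M ≤ Subgroup.normalizer (Subgroup.closure A : Set G) :=
        Cfsg.Agent.Lib.Helper2.BG16a.le_normalizer_closure hinv
      rw [normalizer_eq_of_isCoatom hG hM hcl1 hclM hn] at h1
      exact h1
    · exact Cfsg.Agent.Lib.Helper4.BG24.le_setNormalizer hinv
  · have hpt : ∀ a ∈ A, _ := fun a ha =>
      dade_pointwise hG hM (fun h1 => h1A (h1 ▸ ha)) (bigA_good hG hM h (hsub ha))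
    refine ⟨h1A, hAM, hinv, ?_, fun a ha => (hpt a ha).1, fun a ha => (hpt a ha).2.1,
      fun a ha => (hpt a ha).2.2.1, fun a ha => (hpt a ha).2.2.2, ?_⟩
    · intro a ha g hga
      exact fusion_bigA hG hM h (hsub ha) (hsub hga)
    · intro a ha b hb
      exact dade_coprime hG hM h1436 (fun h1 => h1A (h1 ▸ ha)) (bigA_good hG hM h (hsub ha))
        (hAM hb) (fun h1 => h1A (h1 ▸ hb)) (bigA_commute h (hsub hb))

end Cfsg.Agent.Lib.Helper2.BG16i
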