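import Mathlib

set_option autoImplicit false

namespace Cfsg.Agent.Lib.Helper2

open scoped commutatorElement

/-- A cyclic normal subgroup is centralized by the commutator subgroup. -/
theorem comm_le_centralizer_of_cyclic_normal {H : Type*} [Group H] (Z : Subgroup H) [hZn : Z.Normal]
    [hZ : IsCyclic Z] : commutator H ≤ Subgroup.centralizer (Z : Set H) := by
  let _ := (hZ.mulAutMulEquiv _).toMonoidHom.commGroupOfInjective (hZ.mulAutMulEquiv _).injective
  have h := Abelianization.commutator_subset_ker Z.normalizerMonoidHom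
  rw [Subgroup.normalizerMonoidHom_ker] at h
  intro x hx
  have hN : Subgroup.normalizer (Z : Set H) = ⊤ := Subgroup.normalizer_eq_top Z
  have hxn : x ∈ Subgroup.normalizer (Z : Set H) := by rw [hN]; trivial
  have hx' : (⟨x, hxn⟩ : Subgroup.normalizer (Z : Set H)) ∈ commutator (Subgroup.normalizer (Z : Set H)) := by
    rw [commutator_def] at hx ⊢
    have : Subgroup.map (Subgroup.normalizer (Z : Set H)).subtype (⁅(⊤ : Subgroup (Subgroup.normalizer (Z : Set H))), ⊤⁆) = ⁅(⊤ : Subgroup H), ⊤⁆ := by
      rw [Subgroup.map_commutator, ← MonoidHom.range_eq_map, Subgroup.range_subtype, hN]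
    rw [← this] at hx
    obtain ⟨y, hy, hyx⟩ := hx
    have : y = ⟨x, hxn⟩ := Subtype.ext hyx
    rwa [← this]
  exact h hx'

/-- If `B ⧸ C` (as a section) is cyclic then the image of `B` in `G ⧸ C` is cyclic. -/
theorem isCyclic_map_mk_of_isCyclic_quotient {G : Type*} [Group G] (B C : Subgroup G) [C.Normal]
    (h : IsCyclic (B ⧸ C.subgroupOf B)) : IsCyclic (B.map (QuotientGroup.mk' C)) := by
  have hker : C.subgroupOf B ≤ ((QuotientGroup.mk' C).subgroupMap B).ker := by
    intro x hx
    rw [MonoidHom.mem_ker]
    apply Subtype.ext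
    simp only [MonoidHom.subgroupMap, Subgroup.coe_one]
    change QuotientGroup.mk' C (x : G) = 1
    rw [QuotientGroup.mk'_apply, QuotientGroup.eq_one_iff]
    exact hx
  let f := QuotientGroup.lift (C.subgroupOf B) ((QuotientGroup.mk' C).subgroupMap B) hker
  have hf : Function.Surjective f := by
    intro y
    obtain ⟨x, hx⟩ := (QuotientGroup.mk' C).subgroupMap_surjective B y
    exact ⟨QuotientGroup.mk x, by simpa [f] using hx⟩
  exact isCyclic_of_surjective f hf

end Cfsg.Agent.Lib.Helper2
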