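import Mathlib
import Cfsg.Prelude.Def_SolvableStructure
import Cfsg.Agent.Lib.Helper2.Cyclic
import Cfsg.Agent.Lib.Helper2.Basic

set_option autoImplicit false

namespace Cfsg.Agent.Lib.Helper2

open Cfsg

/-- Subgroups reachable from `⊥` by adjoining one element at a time, staying normal. -/
inductive SSReach {G : Type*} [Group G] : Subgroup G → Prop
  | bot : SSReach ⊥
  | step (K : Subgroup G) (g : G) : SSReach K → (K ⊔ Subgroup.zpowers g).Normal →
      SSReach (K ⊔ Subgroup.zpowers g)

theorem SSReach.normal {G : Type*} [Group G] {K : Subgroup G} (h : SSReach K) : K.Normal := by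
  induction h with
  | bot => exact Subgroup.normal_bot
  | step K g _ hn _ => exact hn

theorem ssReach_of_chain {G : Type*} [Group G] (n : ℕ) (H : Fin (n + 1) → Subgroup G)
    (h0 : H 0 = ⊥) (hn : ∀ i, (H i).Normal)
    (hs : ∀ i : Fin n, ∃ g : G, H i.succ = H i.castSucc ⊔ Subgroup.zpowers g) :
    ∀ i : Fin (n + 1), SSReach (H i) := by
  intro i
  induction i using Fin.induction with
  | zero => rw [h0]; exact SSReach.bot
  | succ i ih =>
    obtain ⟨g, hg⟩ := hs i
    rw [hg]
    refine SSReach.step _ g ih ?_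
    rw [← hg]; exact hn _

theorem chain_of_ssReach {G : Type*} [Group G] {K : Subgroup G} (h : SSReach K) :
    ∃ (n : ℕ) (H : Fin (n + 1) → Subgroup G),
    H 0 = ⊥ ∧ H (Fin.last n) = K ∧ (∀ i, (H i).Normal) ∧
      ∀ i : Fin n, ∃ g : G, H i.succ = H i.castSucc ⊔ Subgroup.zpowers g := by
  induction h with
  | bot =>
    refine ⟨0, fun _ => ⊥, rfl, rfl, fun _ => Subgroup.normal_bot, fun i => i.elim0⟩
  | step K g hK hn ih =>
    obtain ⟨n, H, h0, hl, hnorm, hs⟩ := ih
    refine ⟨n + 1, Fin.snoc H (K ⊔ Subgroup.zpowers g), ?_, ?_, ?_, ?_⟩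
    · have : (0 : Fin (n + 2)) = Fin.castSucc (0 : Fin (n + 1)) := rfl
      rw [this, Fin.snoc_castSucc, h0]
    · rw [Fin.snoc_last]
    · intro i
      induction i using Fin.lastCases with
      | last => rw [Fin.snoc_last]; exact hn
      | cast j => rw [Fin.snoc_castSucc]; exact hnorm j
    · intro i
      induction i using Fin.lastCases with
      | last =>
        refine ⟨g, ?_⟩
        rw [Fin.succ_last, Fin.snoc_last, Fin.snoc_castSucc, hl]
      | cast j =>
        obtain ⟨g', hg'⟩ := hs j
        refine ⟨g', ?_⟩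
        rw [← Fin.castSucc_succ, Fin.snoc_castSucc, Fin.snoc_castSucc, hg']

theorem isSupersolvable_iff {G : Type*} [Group G] :
    IsSupersolvable G ↔ SSReach (⊤ : Subgroup G) := by
  constructor
  · rintro ⟨n, H, h0, hl, hn, hs⟩
    rw [← hl]
    exact ssReach_of_chain n H h0 hn hs _
  · intro h
    obtain ⟨n, H, h0, hl, hn, hs⟩ := chain_of_ssReach h
    exact ⟨n, H, h0, hl, hn, hs⟩

theorem SSReach.map {G G' : Type*} [Group G] [Group G'] (f : G →* G')
    (hf : Function.Surjective f) {K : Subgroup G} (h : SSReach K) : SSReach (K.map f) := by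
  induction h with
  | bot => rw [Subgroup.map_bot]; exact SSReach.bot
  | step K g _ hn ih =>
    rw [Subgroup.map_sup, MonoidHom.map_zpowers]
    refine SSReach.step _ _ ih ?_
    rw [← MonoidHom.map_zpowers, ← Subgroup.map_sup]
    exact Subgroup.Normal.map hn f hf

theorem isSupersolvable_of_surjective {G G' : Type*} [Group G] [Group G'] (f : G →* G')
    (hf : Function.Surjective f) (h : IsSupersolvable G) : IsSupersolvable G' := by
  rw [isSupersolvable_iff] at h ⊢
  have := h.map f hf
  rwa [← MonoidHom.range_eq_map, MonoidHom.range_eq_top.mpr hf] at this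

theorem SSReach.comap {G G' : Type*} [Group G] [Group G'] (f : G →* G')
    (hf : Function.Surjective f) (hker : SSReach f.ker) {K : Subgroup G'} (h : SSReach K) :
    SSReach (K.comap f) := by
  induction h with
  | bot => rw [MonoidHom.comap_bot]; exact hker
  | step K g' _ hn ih =>
    obtain ⟨g, rfl⟩ := hf g'
    have e : (K ⊔ Subgroup.zpowers (f g)).comap f = K.comap f ⊔ Subgroup.zpowers g := by
      rw [← Subgroup.comap_sup_eq f _ _ hf, ← MonoidHom.map_zpowers, Subgroup.comap_map_eq]
      have : f.ker ≤ K.comap f := Subgroup.ker_le_comap f K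
      rw [sup_comm (Subgroup.zpowers g), ← sup_assoc, sup_eq_left.mpr this]
    rw [e]
    refine SSReach.step _ _ ih ?_
    rw [← e]
    exact Subgroup.Normal.comap hn f

theorem ssReach_of_cyclic_normal {G : Type*} [Group G] (N : Subgroup G) [hN : N.Normal]
    [hc : IsCyclic N] : SSReach N := by
  obtain ⟨g, hg⟩ := hc.exists_generator
  have : N = ⊥ ⊔ Subgroup.zpowers (g : G) := by
    rw [bot_sup_eq]
    apply le_antisymm
    · intro x hx
      obtain ⟨k, hk⟩ := Subgroup.mem_zpowers_iff.mp (hg ⟨x, hx⟩)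
      rw [Subgroup.mem_zpowers_iff]
      exact ⟨k, by simpa using congrArg Subtype.val hk⟩
    · rw [Subgroup.zpowers_le]; exact g.2
  have h2 : SSReach (⊥ ⊔ Subgroup.zpowers (g : G)) := by
    refine SSReach.step _ _ SSReach.bot ?_
    rw [← this]; exact hN
  rwa [← this] at h2

theorem isSupersolvable_of_extension {G : Type*} {G' : Type*} [Group G] [Group G'] (f : G →* G')
    (hf : Function.Surjective f) (hker : SSReach f.ker) (h : IsSupersolvable G') :
    IsSupersolvable G := by
  rw [isSupersolvable_iff] at h ⊢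
  have := SSReach.comap f hf hker h
  rwa [Subgroup.comap_top] at this

end Cfsg.Agent.Lib.Helper2

namespace Cfsg.Agent.Lib.Helper2

open Cfsg

theorem map_inl_eq_prod_bot {G H : Type*} [Group G] [Group H] (K : Subgroup G) :
    K.map (MonoidHom.inl G H) = K.prod (⊥ : Subgroup H) := by
  ext ⟨a, b⟩
  simp only [Subgroup.mem_map, MonoidHom.inl_apply, Prod.mk.injEq, Subgroup.mem_prod,
    Subgroup.mem_bot]
  constructor
  · rintro ⟨x, hx, rfl, rfl⟩; exact ⟨hx, rfl⟩
  · rintro ⟨ha, rfl⟩; exact ⟨a, ha, rfl, rfl⟩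

theorem SSReach.prod_bot {G H : Type*} [Group G] [Group H] {K : Subgroup G} (h : SSReach K) :
    SSReach (K.prod (⊥ : Subgroup H)) := by
  induction h with
  | bot =>
    have : (⊥ : Subgroup G).prod (⊥ : Subgroup H) = ⊥ := Subgroup.bot_prod_bot
    rw [this]; exact SSReach.bot
  | step K g hK hn ih =>
    have e : (K ⊔ Subgroup.zpowers g).prod (⊥ : Subgroup H) =
        K.prod (⊥ : Subgroup H) ⊔ Subgroup.zpowers (MonoidHom.inl G H g) := by
      rw [← map_inl_eq_prod_bot, ← map_inl_eq_prod_bot, Subgroup.map_sup, MonoidHom.map_zpowers]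
    rw [e]
    refine SSReach.step _ _ ih ?_
    rw [← e]
    haveI := hn
    exact Subgroup.prod_normal _ _

theorem isSupersolvable_prod {G H : Type*} [Group G] [Group H] (hG : IsSupersolvable G)
    (hH : IsSupersolvable H) : IsSupersolvable (G × H) := by
  refine isSupersolvable_of_extension (MonoidHom.snd G H) (fun h => ⟨(1, h), rfl⟩) ?_ hH
  rw [MonoidHom.ker_snd]
  rw [isSupersolvable_iff] at hG
  exact hG.prod_bot

end Cfsg.Agent.Lib.Helper2

namespace Cfsg.Agent.Lib.Helper2

open Cfsg

/-- Key step for subgroup-closedness. -/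
theorem exists_inf_sup_zpowers {G : Type*} [Group G] (K H : Subgroup G) [hK : K.Normal] (g : G) :
    ∃ h ∈ H, h ∈ K ⊔ Subgroup.zpowers g ∧
      ∀ x ∈ K ⊔ Subgroup.zpowers g, x ∈ H → ∃ y ∈ K ⊓ H, ∃ m : ℤ, x = y * h ^ m := by
  set π := QuotientGroup.mk' K with hπ
  have hπK : ∀ k ∈ K, π k = 1 := fun k hk => by
    rw [hπ, QuotientGroup.mk'_apply, QuotientGroup.eq_one_iff]; exact hk
  -- the subgroup of exponents
  let I : AddSubgroup ℤ :=
    { carrier := {i | ∃ x ∈ H, π x = π g ^ i}
      zero_mem' := ⟨1, H.one_mem, by simp⟩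
      add_mem' := by
        rintro i j ⟨x, hx, hxi⟩ ⟨y, hy, hyj⟩
        exact ⟨x * y, H.mul_mem hx hy, by rw [map_mul, hxi, hyj, zpow_add]⟩
      neg_mem' := by
        rintro i ⟨x, hx, hxi⟩
        exact ⟨x⁻¹, H.inv_mem hx, by rw [map_inv, hxi, zpow_neg]⟩ }
  obtain ⟨d, hd⟩ := Int.subgroup_cyclic I
  have hdI : d ∈ I := by rw [hd]; exact AddSubgroup.subset_closure rfl
  obtain ⟨h, hhH, hhd⟩ := hdI
  have hmemX : ∀ x : G, (∃ i : ℤ, π x = π g ^ i) → x ∈ K ⊔ Subgroup.zpowers g := by
    rintro x ⟨i, hi⟩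
    have : x * (g ^ i)⁻¹ ∈ K := by
      rw [← QuotientGroup.eq_one_iff, ← QuotientGroup.mk'_apply, ← hπ, map_mul, map_inv,
        map_zpow, hi, mul_inv_cancel]
    have e : x = (x * (g ^ i)⁻¹) * g ^ i := by group
    rw [e]
    exact Subgroup.mul_mem _ (Subgroup.mem_sup_left this)
      (Subgroup.mem_sup_right (Subgroup.zpow_mem_zpowers g i))
  refine ⟨h, hhH, hmemX h ⟨d, hhd⟩, ?_⟩
  intro x hxX hxH
  have hx' : x ∈ ((K ⊔ Subgroup.zpowers g : Subgroup G) : Set G) := hxX
  rw [Subgroup.normal_mul] at hx'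
  obtain ⟨k, hk, z, hz, rfl⟩ := Set.mem_mul.mp hx'
  obtain ⟨i, rfl⟩ := Subgroup.mem_zpowers_iff.mp hz
  have hπx : π (k * g ^ i) = π g ^ i := by
    rw [map_mul, hπK k hk, one_mul, map_zpow]
  have hiI : i ∈ I := ⟨k * g ^ i, hxH, hπx⟩
  rw [hd, AddSubgroup.mem_closure_singleton] at hiI
  obtain ⟨m, hm⟩ := hiI
  refine ⟨(k * g ^ i) * (h ^ m)⁻¹, ?_, m, by group⟩
  refine Subgroup.mem_inf.mpr ⟨?_, H.mul_mem hxH (H.inv_mem (H.zpow_mem hhH m))⟩
  rw [← QuotientGroup.eq_one_iff, ← QuotientGroup.mk'_apply, ← hπ, map_mul, map_inv, map_zpow,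
    hπx, hhd, ← zpow_mul, ← hm, smul_eq_mul, mul_comm, mul_inv_cancel]

theorem SSReach.subgroupOf {G : Type*} [Group G] (H : Subgroup G) {K : Subgroup G}
    (h : SSReach K) : SSReach (K.subgroupOf H) := by
  induction h with
  | bot =>
    rw [Subgroup.bot_subgroupOf]; exact SSReach.bot
  | step K g hK hn ih =>
    haveI := hK.normal
    obtain ⟨h, hhH, hhX, hdec⟩ := exists_inf_sup_zpowers K H g
    have e : (K ⊔ Subgroup.zpowers g).subgroupOf H =
        K.subgroupOf H ⊔ Subgroup.zpowers (⟨h, hhH⟩ : H) := by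
      apply le_antisymm
      · intro x hx
        rw [Subgroup.mem_subgroupOf] at hx
        obtain ⟨y, hy, m, hm⟩ := hdec x hx x.2
        obtain ⟨hyK, hyH⟩ := Subgroup.mem_inf.mp hy
        have : x = (⟨y, hyH⟩ : H) * (⟨h, hhH⟩ : H) ^ m := by
          apply Subtype.ext
          simp [hm]
        rw [this]
        exact Subgroup.mul_mem _ (Subgroup.mem_sup_left (Subgroup.mem_subgroupOf.mpr hyK))
          (Subgroup.mem_sup_right (Subgroup.zpow_mem_zpowers _ m))
      · apply sup_le
        · exact Subgroup.comap_mono le_sup_left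
        · rw [Subgroup.zpowers_le, Subgroup.mem_subgroupOf]
          exact hhX
    rw [e]
    refine SSReach.step _ _ ih ?_
    rw [← e]
    haveI := hn
    exact Subgroup.normal_subgroupOf

theorem isSupersolvable_subgroup {G : Type*} [Group G] (hG : IsSupersolvable G)
    (H : Subgroup G) : IsSupersolvable H := by
  rw [isSupersolvable_iff] at hG ⊢
  have := hG.subgroupOf H
  rwa [Subgroup.top_subgroupOf] at this

end Cfsg.Agent.Lib.Helper2

namespace Cfsg.Agent.Lib.Helper2

open Cfsg

/-- A nontrivial normal cyclic subgroup (generated by `g`) of a finite group contains a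
normal subgroup of prime order. -/
theorem exists_normal_prime_of_zpowers_normal {G : Type*} [Group G] [Finite G] (g : G)
    (hn : (Subgroup.zpowers g).Normal) (hg : g ≠ 1) :
    ∃ N : Subgroup G, N ≤ Subgroup.zpowers g ∧ N.Normal ∧ (Nat.card N).Prime := by
  have hn0 : orderOf g ≠ 0 := (orderOf_pos g).ne'
  have hn1 : orderOf g ≠ 1 := by rwa [Ne, orderOf_eq_one_iff]
  set p := (orderOf g).minFac with hp
  have hpp : p.Prime := Nat.minFac_prime hn1
  have hpd : p ∣ orderOf g := Nat.minFac_dvd _
  set z := g ^ (orderOf g / p) with hz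
  have hoz : orderOf z = p := orderOf_pow_orderOf_div hn0 hpd
  refine ⟨Subgroup.zpowers z, ?_, ?_, ?_⟩
  · rw [Subgroup.zpowers_le]; exact Subgroup.pow_mem _ (Subgroup.mem_zpowers g) _
  · refine ⟨fun y hy x => ?_⟩
    obtain ⟨j, rfl⟩ := Subgroup.mem_zpowers_iff.mp hy
    have h1 : x * g * x⁻¹ ∈ Subgroup.zpowers g := hn.conj_mem g (Subgroup.mem_zpowers g) x
    obtain ⟨i, hi⟩ := Subgroup.mem_zpowers_iff.mp h1
    have h2 : x * z * x⁻¹ = z ^ i := by
      have : x * z * x⁻¹ = (x * g * x⁻¹) ^ (orderOf g / p) := by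
        rw [hz, conj_pow]
      rw [this, ← hi, hz, ← zpow_natCast, ← zpow_natCast, ← zpow_mul, ← zpow_mul, mul_comm]
    have h3 : x * z ^ j * x⁻¹ = (z ^ i) ^ j := by
      rw [← h2, conj_zpow]
    rw [h3]
    exact Subgroup.zpow_mem _ (Subgroup.zpow_mem_zpowers z i) j
  · rw [Nat.card_zpowers, hoz]; exact hpp

theorem SSReach.exists_normal_prime {G : Type*} [Group G] [Finite G] {K : Subgroup G}
    (h : SSReach K) (hK : K ≠ ⊥) :
    ∃ N : Subgroup G, N ≤ K ∧ N.Normal ∧ (Nat.card N).Prime := by
  induction h with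
  | bot => exact absurd rfl hK
  | step K g hK' hn ih =>
    by_cases hKb : K = ⊥
    · subst hKb
      rw [bot_sup_eq] at hn hK ⊢
      have hg : g ≠ 1 := by
        rintro rfl
        exact hK (by simp)
      exact exists_normal_prime_of_zpowers_normal g hn hg
    · obtain ⟨N, hNK, hNn, hNp⟩ := ih hKb
      exact ⟨N, hNK.trans le_sup_left, hNn, hNp⟩

theorem exists_normal_prime_of_isSupersolvable {G : Type*} [Group G] [Finite G] [Nontrivial G]
    (hG : IsSupersolvable G) : ∃ N : Subgroup G, N.Normal ∧ (Nat.card N).Prime := by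
  rw [isSupersolvable_iff] at hG
  obtain ⟨N, -, hNn, hNp⟩ := hG.exists_normal_prime (by
    exact top_ne_bot)
  exact ⟨N, hNn, hNp⟩

end Cfsg.Agent.Lib.Helper2

namespace Cfsg.Agent.Lib.Helper2

open Cfsg
open scoped commutatorElement

/-- If `K` and `K ⊔ ⟨g⟩` are normal, the commutator subgroup acts trivially on the section. -/
theorem commutator_sup_zpowers_le {G : Type*} [Group G] (K : Subgroup G) [hK : K.Normal] (g : G)
    (hn : (K ⊔ Subgroup.zpowers g).Normal) :
    ⁅K ⊔ Subgroup.zpowers g, commutator G⁆ ≤ K := by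
  set π := QuotientGroup.mk' K with hπ
  have hsurj : Function.Surjective π := QuotientGroup.mk'_surjective K
  have hmap : (K ⊔ Subgroup.zpowers g).map π = Subgroup.zpowers (π g) := by
    rw [Subgroup.map_sup, MonoidHom.map_zpowers, hπ, QuotientGroup.map_mk'_self, bot_sup_eq]
  haveI hZn : (Subgroup.zpowers (π g)).Normal := by
    rw [← hmap]; exact Subgroup.Normal.map hn π hsurj
  have hcent := comm_le_centralizer_of_cyclic_normal (Subgroup.zpowers (π g))
  rw [Subgroup.commutator_le]
  intro x hx d hd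
  rw [← QuotientGroup.eq_one_iff, ← QuotientGroup.mk'_apply, ← hπ, map_commutatorElement,
    commutatorElement_eq_one_iff_mul_comm]
  have hd' : π d ∈ commutator (G ⧸ K) := by
    have h1 : (commutator G).map π ≤ commutator (G ⧸ K) := by
      rw [commutator_def, commutator_def, Subgroup.map_commutator]
      exact Subgroup.commutator_mono le_top le_top
    exact h1 (Subgroup.mem_map_of_mem π hd)
  have hx' : π x ∈ Subgroup.zpowers (π g) := by
    rw [← hmap]; exact Subgroup.mem_map_of_mem π hx
  have := hcent hd'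
  rw [Subgroup.mem_centralizer_iff] at this
  exact this (π x) hx'

/-- iterate of commutation with a fixed subgroup -/
theorem iterate_commutator_mono {G : Type*} [Group G] (D : Subgroup G) (m : ℕ)
    {X Y : Subgroup G} (h : X ≤ Y) :
    (fun Z : Subgroup G => ⁅Z, D⁆)^[m] X ≤ (fun Z : Subgroup G => ⁅Z, D⁆)^[m] Y := by
  induction m generalizing X Y with
  | zero => exact h
  | succ n ih =>
    rw [Function.iterate_succ_apply, Function.iterate_succ_apply]
    exact ih (Subgroup.commutator_mono h le_rfl)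

theorem SSReach.exists_iterate_commutator_eq_bot {G : Type*} [Group G] {K : Subgroup G}
    (h : SSReach K) : ∃ m : ℕ, (fun Z : Subgroup G => ⁅Z, commutator G⁆)^[m] K = ⊥ := by
  induction h with
  | bot => exact ⟨0, rfl⟩
  | step K g hK hn ih =>
    obtain ⟨m, hm⟩ := ih
    haveI := hK.normal
    refine ⟨m + 1, ?_⟩
    rw [Function.iterate_succ_apply, eq_bot_iff, ← hm]
    exact iterate_commutator_mono _ m (commutator_sup_zpowers_le K g hn)

theorem isNilpotent_commutator_of_isSupersolvable {G : Type*} [Group G]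
    (hG : IsSupersolvable G) : Group.IsNilpotent (commutator G) := by
  rw [isSupersolvable_iff] at hG
  obtain ⟨m, hm⟩ := hG.exists_iterate_commutator_eq_bot
  apply Subgroup.isNilpotent_of_lowerCentralSeries_eq_bot (n := m)
  rw [eq_bot_iff, ← hm]
  have : ∀ j : ℕ, (commutator G).lowerCentralSeries j ≤
      (fun Z : Subgroup G => ⁅Z, commutator G⁆)^[j] ⊤ := by
    intro j
    induction j with
    | zero => exact le_top
    | succ n ih =>
      rw [Subgroup.lowerCentralSeries_succ, Function.iterate_succ_apply']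
      exact Subgroup.commutator_mono ih le_rfl
  exact this m

end Cfsg.Agent.Lib.Helper2

namespace Cfsg.Agent.Lib.Helper2

open Cfsg

universe u

theorem isSupersolvable_of_subsingleton {G : Type*} [Group G] [Subsingleton G] :
    IsSupersolvable G := by
  rw [isSupersolvable_iff]
  have : (⊤ : Subgroup G) = ⊥ := Subsingleton.elim _ _
  rw [this]; exact SSReach.bot

theorem isSupersolvable_of_quotient_zpowers {G : Type*} [Group G] (z : G)
    [hn : (Subgroup.zpowers z).Normal] (h : IsSupersolvable (G ⧸ Subgroup.zpowers z)) :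
    IsSupersolvable G := by
  refine isSupersolvable_of_extension (QuotientGroup.mk' (Subgroup.zpowers z))
    (QuotientGroup.mk'_surjective _) ?_ h
  rw [QuotientGroup.ker_mk']
  exact ssReach_of_cyclic_normal _

theorem isSupersolvable_of_isCyclic {G : Type*} [Group G] [hc : IsCyclic G] :
    IsSupersolvable G := by
  rw [isSupersolvable_iff]
  haveI : IsCyclic (⊤ : Subgroup G) := by
    exact isCyclic_of_surjective Subgroup.topEquiv.symm.toMonoidHom Subgroup.topEquiv.symm.surjective
  exact ssReach_of_cyclic_normal ⊤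

theorem isSupersolvable_of_isPGroup_aux (p : ℕ) [Fact p.Prime] : ∀ (n : ℕ) (G : Type u) [Group G]
    [Finite G], Nat.card G = n → IsPGroup p G → IsSupersolvable G := by
  intro n
  induction n using Nat.strong_induction_on with
  | _ n ih =>
    intro G _ _ hn hG
    by_cases htriv : Subsingleton G
    · exact isSupersolvable_of_subsingleton
    · rw [not_subsingleton_iff_nontrivial] at htriv
      haveI := hG.center_nontrivial
      obtain ⟨⟨z, hz⟩, hz1⟩ := exists_ne (1 : Subgroup.center G)
      have hz1' : z ≠ 1 := fun h => hz1 (Subtype.ext h)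
      haveI hZn : (Subgroup.zpowers z).Normal := by
        refine ⟨fun y hy x => ?_⟩
        obtain ⟨k, rfl⟩ := Subgroup.mem_zpowers_iff.mp hy
        have : x * z ^ k * x⁻¹ = z ^ k := by
          have hc : z ^ k ∈ Subgroup.center G := Subgroup.zpow_mem _ hz k
          rw [Subgroup.mem_center_iff] at hc
          rw [hc x, mul_inv_cancel_right]
        rw [this]; exact Subgroup.zpow_mem_zpowers z k
      apply isSupersolvable_of_quotient_zpowers z
      have hcard := card_eq_card_quotient_mul_card (Subgroup.zpowers z)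
      have h1 : 1 < Nat.card (Subgroup.zpowers z) := by
        rw [Nat.card_zpowers]
        have := orderOf_pos z
        have h2 : orderOf z ≠ 1 := by rwa [Ne, orderOf_eq_one_iff]
        omega
      have hpos : 0 < Nat.card (G ⧸ Subgroup.zpowers z) := Nat.card_pos
      have hlt : Nat.card (G ⧸ Subgroup.zpowers z) < n := by
        rw [← hn, hcard]; nlinarith
      exact ih _ hlt _ rfl (hG.to_quotient _)

theorem isSupersolvable_of_isPGroup {G : Type*} [Group G] [Finite G] (p : ℕ) [Fact p.Prime]
    (hG : IsPGroup p G) : IsSupersolvable G :=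
  isSupersolvable_of_isPGroup_aux p (Nat.card G) G rfl hG

end Cfsg.Agent.Lib.Helper2
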