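import Mathlib
import Cfsg.Prelude.Def_SolvableStructure
import Cfsg.Agent.Lib.Helper2.Supersolvable
import Cfsg.Agent.Lib.Helper2.Basic

set_option autoImplicit false

namespace Cfsg.Agent.Lib.Helper2

open Cfsg

universe u

/-- A normal subgroup `M` of order `p * q` with `q < p` primes contains a subgroup of order `p`
that is normal in `G`. -/
theorem exists_normal_card_prime_of_card_mul {G : Type*} [Group G] [Finite G] (M : Subgroup G)
    [hMn : M.Normal] (p q : ℕ) [hp : Fact p.Prime] (hq : q.Prime) (hqp : q < p)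
    (hM : Nat.card M = p * q) : ∃ N : Subgroup G, N.Normal ∧ Nat.card N = p := by
  let P : Sylow p M := default
  have hfac : (Nat.card M).factorization p = 1 := by
    rw [hM, Nat.factorization_mul hp.1.ne_zero hq.ne_zero]
    have : q.factorization p = 0 := by
      apply Nat.factorization_eq_zero_of_not_dvd
      intro h
      have := (Nat.prime_dvd_prime_iff_eq hp.1 hq).mp h
      omega
    simp [this, hp.1.factorization_self]
  have hPc : Nat.card P = p := by
    rw [Sylow.card_eq_multiplicity, hfac, pow_one]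
  have hidx : (P : Subgroup M).index = q := by
    have := Subgroup.card_mul_index (P : Subgroup M)
    rw [hPc, hM] at this
    exact Nat.eq_of_mul_eq_mul_left hp.1.pos this
  have h1 : Nat.card (Sylow p M) ∣ q := by
    rw [← hidx]; exact Sylow.card_dvd_index P
  have h2 : Nat.card (Sylow p M) ≡ 1 [MOD p] := card_sylow_modEq_one p M
  have h3 : Nat.card (Sylow p M) = 1 := by
    have hle : Nat.card (Sylow p M) ≤ q := Nat.le_of_dvd hq.pos h1
    have hlt : Nat.card (Sylow p M) < p := lt_of_le_of_lt hle hqp
    have := h2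
    unfold Nat.ModEq at this
    rw [Nat.mod_eq_of_lt hlt, Nat.mod_eq_of_lt hp.1.one_lt] at this
    exact this
  haveI : Subsingleton (Sylow p M) := (Nat.card_eq_one_iff_unique.mp h3).1
  haveI : (P : Subgroup M).Characteristic := Sylow.characteristic_of_subsingleton P
  refine ⟨(P : Subgroup M).map M.subtype, ConjAct.normal_of_characteristic_of_normal, ?_⟩
  rw [Subgroup.card_map_of_injective M.subtype_injective]
  exact hPc

theorem exists_normal_card_largest_prime_aux : ∀ (n : ℕ) (G : Type u) [Group G] [Finite G],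
    Nat.card G = n → IsSupersolvable G → ∀ p : ℕ, p.Prime → p ∣ Nat.card G →
    (∀ q : ℕ, q.Prime → q ∣ Nat.card G → q ≤ p) →
    ∃ N : Subgroup G, N.Normal ∧ Nat.card N = p := by
  intro n
  induction n using Nat.strong_induction_on with
  | _ n ih =>
    intro G _ _ hn hG p hp hpd hmax
    haveI : Fact p.Prime := ⟨hp⟩
    haveI : Nontrivial G := by
      rw [← Finite.one_lt_card_iff_nontrivial]
      exact lt_of_lt_of_le hp.one_lt (Nat.le_of_dvd Nat.card_pos hpd)
    obtain ⟨N₀, hN₀n, hN₀p⟩ := exists_normal_prime_of_isSupersolvable hG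
    haveI := hN₀n
    set q := Nat.card N₀ with hq
    by_cases hqp : q = p
    · exact ⟨N₀, hN₀n, hqp⟩
    · have hcard : Nat.card G = Nat.card (G ⧸ N₀) * q := card_eq_card_quotient_mul_card N₀
      have hqd : q ∣ Nat.card G := ⟨_, by rw [hcard, mul_comm]⟩
      have hqlt : q < p := lt_of_le_of_ne (hmax q hN₀p hqd) hqp
      have hQ : IsSupersolvable (G ⧸ N₀) :=
        isSupersolvable_of_surjective (QuotientGroup.mk' N₀) (QuotientGroup.mk'_surjective N₀) hG
      have hpos : 0 < Nat.card (G ⧸ N₀) := Nat.card_pos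
      have hlt : Nat.card (G ⧸ N₀) < n := by
        rw [← hn, hcard]
        have := hN₀p.one_lt
        nlinarith
      have hpd' : p ∣ Nat.card (G ⧸ N₀) := by
        rw [hcard] at hpd
        have hcop : Nat.Coprime p q := (Nat.coprime_primes hp hN₀p).mpr (Ne.symm hqp)
        exact hcop.dvd_of_dvd_mul_right hpd
      have hmax' : ∀ r : ℕ, r.Prime → r ∣ Nat.card (G ⧸ N₀) → r ≤ p := by
        intro r hr hrd
        apply hmax r hr
        rw [hcard]; exact Dvd.dvd.mul_right hrd q
      obtain ⟨M', hM'n, hM'c⟩ := ih _ hlt (G ⧸ N₀) rfl hQ p hp hpd' hmax'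
      haveI := hM'n
      set M := M'.comap (QuotientGroup.mk' N₀) with hM
      haveI : M.Normal := Subgroup.Normal.comap hM'n _
      have hMc : Nat.card M = p * q := by
        rw [hM, card_comap_mk, hM'c]
      exact exists_normal_card_prime_of_card_mul M p q hN₀p hqlt hMc

theorem exists_normal_card_largest_prime {G : Type*} [Group G] [Finite G]
    (hG : IsSupersolvable G) (p : ℕ) (hp : p.Prime) (hpd : p ∣ Nat.card G)
    (hmax : ∀ q : ℕ, q.Prime → q ∣ Nat.card G → q ≤ p) :
    ∃ N : Subgroup G, N.Normal ∧ Nat.card N = p :=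
  exists_normal_card_largest_prime_aux (Nat.card G) G rfl hG p hp hpd hmax

end Cfsg.Agent.Lib.Helper2

namespace Cfsg.Agent.Lib.Helper2

open Cfsg

universe u

theorem exists_normal_sylow_largest_prime_aux : ∀ (n : ℕ) (G : Type u) [Group G] [Finite G],
    Nat.card G = n → IsSupersolvable G → ∀ q : ℕ, q.Prime →
    (∀ r : ℕ, r.Prime → r ∣ Nat.card G → r ≤ q) →
    ∃ Q : Subgroup G, Q.Normal ∧ Nat.card Q = q ^ (Nat.card G).factorization q := by
  intro n
  induction n using Nat.strong_induction_on with
  | _ n ih =>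
    intro G _ _ hn hG q hq hmax
    by_cases hqd : q ∣ Nat.card G
    · obtain ⟨N, hNn, hNc⟩ := exists_normal_card_largest_prime hG q hq hqd hmax
      haveI := hNn
      have hcard : Nat.card G = Nat.card (G ⧸ N) * q := by
        rw [← hNc]; exact card_eq_card_quotient_mul_card N
      have hQ : IsSupersolvable (G ⧸ N) :=
        isSupersolvable_of_surjective (QuotientGroup.mk' N) (QuotientGroup.mk'_surjective N) hG
      have hpos : 0 < Nat.card (G ⧸ N) := Nat.card_pos
      have hlt : Nat.card (G ⧸ N) < n := by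
        rw [← hn, hcard]
        have := hq.one_lt
        nlinarith
      have hmax' : ∀ r : ℕ, r.Prime → r ∣ Nat.card (G ⧸ N) → r ≤ q := by
        intro r hr hrd
        apply hmax r hr
        rw [hcard]; exact Dvd.dvd.mul_right hrd q
      obtain ⟨Q', hQ'n, hQ'c⟩ := ih _ hlt (G ⧸ N) rfl hQ q hq hmax'
      refine ⟨Q'.comap (QuotientGroup.mk' N), Subgroup.Normal.comap hQ'n _, ?_⟩
      rw [card_comap_mk, hQ'c, hNc, hcard, Nat.factorization_mul hpos.ne' hq.ne_zero]
      simp [hq.factorization_self, pow_succ]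
    · refine ⟨⊥, Subgroup.normal_bot, ?_⟩
      rw [Nat.factorization_eq_zero_of_not_dvd hqd, pow_zero, Subgroup.card_bot]

theorem exists_normal_sylow_largest_prime {G : Type*} [Group G] [Finite G]
    (hG : IsSupersolvable G) (q : ℕ) (hq : q.Prime)
    (hmax : ∀ r : ℕ, r.Prime → r ∣ Nat.card G → r ≤ q) :
    ∃ Q : Subgroup G, Q.Normal ∧ Nat.card Q = q ^ (Nat.card G).factorization q :=
  exists_normal_sylow_largest_prime_aux (Nat.card G) G rfl hG q hq hmax

end Cfsg.Agent.Lib.Helper2
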