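import Mathlib
import Cfsg.Prelude
import Cfsg.Agent.Lib.Helper2.SupersolvableTower
import Cfsg.Agent.Lib.Helper2.ComplementSystem
import Cfsg.Agent.Lib.Lead.HallCentral
import Cfsg.Agent.Lib.Lead.ThompsonPQ

set_option autoImplicit false
open Pointwise

namespace Cfsg.Agent.Lib.Helper2.SupersolvableHall

open Cfsg.Agent.Lib.Lead Cfsg.Agent.Lib.Helper2

universe u

/-- Conjugacy of `H`, `K` modulo a common normal subgroup `P` of `N ≥ H, K` lifts. -/
theorem conj_of_conj_quotient {G : Type u} [Group G] (N P H K : Subgroup G)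
    [hPN : (P.subgroupOf N).Normal] (hHN : H ≤ N) (hKN : K ≤ N) (hPH : P ≤ H) (hPK : P ≤ K)
    (h : ∃ x : N ⧸ P.subgroupOf N,
      MulAut.conj x • (H.subgroupOf N).map (QuotientGroup.mk' (P.subgroupOf N)) =
        (K.subgroupOf N).map (QuotientGroup.mk' (P.subgroupOf N))) :
    ∃ g : G, MulAut.conj g • H = K := by
  obtain ⟨x, hx⟩ := h
  obtain ⟨x', rfl⟩ := QuotientGroup.mk_surjective x
  have hP'H : P.subgroupOf N ≤ H.subgroupOf N := Subgroup.subgroupOf_mono N hPH
  have hP'K : P.subgroupOf N ≤ K.subgroupOf N := Subgroup.subgroupOf_mono N hPK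
  have h1 : (MulAut.conj x' • H.subgroupOf N).map (QuotientGroup.mk' (P.subgroupOf N)) =
      (K.subgroupOf N).map (QuotientGroup.mk' (P.subgroupOf N)) := by
    rw [map_conj_smul]; exact hx
  have h2 := congrArg (Subgroup.comap (QuotientGroup.mk' (P.subgroupOf N))) h1
  rw [comap_map_mk, comap_map_mk, sup_eq_left.mpr hP'K] at h2
  have h3 : P.subgroupOf N ≤ MulAut.conj x' • H.subgroupOf N := by
    have : MulAut.conj x' • P.subgroupOf N = P.subgroupOf N := conj_smul_normal x' _
    rw [← this]
    exact Subgroup.pointwise_smul_le_pointwise_smul_iff.mpr hP'H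
  rw [sup_eq_left.mpr h3] at h2
  obtain ⟨g, -, hg⟩ := conj_of_conj_subgroupOf hHN hKN ⟨x', h2⟩
  exact ⟨g, hg⟩

theorem isSupersolvable_image {G : Type u} [Group G] (N P' : Subgroup G) (H : Subgroup G)
    [hPN : (P'.subgroupOf N).Normal] (hHN : H ≤ N) (hH : Cfsg.IsSupersolvable H) :
    Cfsg.IsSupersolvable ((H.subgroupOf N).map (QuotientGroup.mk' (P'.subgroupOf N))) := by
  have h1 : Cfsg.IsSupersolvable (H.subgroupOf N) :=
    isSupersolvable_of_surjective (Subgroup.subgroupOfEquivOfLe hHN).symm.toMonoidHom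
      (Subgroup.subgroupOfEquivOfLe hHN).symm.surjective hH
  exact isSupersolvable_of_surjective
    ((QuotientGroup.mk' (P'.subgroupOf N)).subgroupMap (H.subgroupOf N))
    ((QuotientGroup.mk' (P'.subgroupOf N)).subgroupMap_surjective _) h1

theorem le_normalizer_map_subtype_of_normal {G : Type u} [Group G] (H : Subgroup G)
    (Q : Subgroup H) (hQ : Q.Normal) :
    H ≤ Subgroup.normalizer ((Q.map H.subtype : Subgroup G) : Set G) := by
  have h1 := Subgroup.le_normalizer_map H.subtype (H := Q)
  rw [Subgroup.normalizer_eq_top_iff.mpr hQ, ← MonoidHom.range_eq_map, Subgroup.range_subtype] at h1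
  exact h1

/-- Supersolvable Hall subgroups of the same order are conjugate. -/
theorem hall_conj_aux : ∀ (n : ℕ) (G : Type u) [Group G] [Finite G] (H K : Subgroup G),
    Cfsg.IsSupersolvable H → Cfsg.IsSupersolvable K → Nat.card H = Nat.card K →
    (Nat.card H).Coprime H.index → Nat.card H = n → ∃ x : G, MulAut.conj x • H = K := by
  intro n
  induction n using Nat.strong_induction_on with
  | _ n ih =>
  intro G _ _ H K hH hK hcard hHall hn
  by_cases h1 : Nat.card H = 1
  · have hHb : H = ⊥ := Subgroup.card_eq_one.mp h1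
    have hKb : K = ⊥ := Subgroup.card_eq_one.mp (hcard ▸ h1)
    exact ⟨1, by rw [hHb, hKb, Subgroup.smul_bot]⟩
  have hne : (Nat.card H).primeFactors.Nonempty := by
    rw [Nat.nonempty_primeFactors]
    have := Nat.card_pos (α := H)
    omega
  set q := (Nat.card H).primeFactors.max' hne with hq
  have hqmem : q ∈ (Nat.card H).primeFactors := Finset.max'_mem _ _
  have hqp : q.Prime := Nat.prime_of_mem_primeFactors hqmem
  have hqd : q ∣ Nat.card H := Nat.dvd_of_mem_primeFactors hqmem
  have hmaxH : ∀ r : ℕ, r.Prime → r ∣ Nat.card H → r ≤ q := fun r hr hrd =>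
    Finset.le_max' _ _ (Nat.mem_primeFactors.mpr ⟨hr, hrd, Nat.card_pos.ne'⟩)
  have hmaxK : ∀ r : ℕ, r.Prime → r ∣ Nat.card K → r ≤ q := by rw [← hcard]; exact hmaxH
  obtain ⟨QH', hQH'n, hQH'c⟩ := exists_normal_sylow_largest_prime hH q hqp hmaxH
  obtain ⟨QK', hQK'n, hQK'c⟩ := exists_normal_sylow_largest_prime hK q hqp hmaxK
  set QH : Subgroup G := QH'.map H.subtype with hQH
  set QK : Subgroup G := QK'.map K.subtype with hQK
  haveI : Fact q.Prime := ⟨hqp⟩
  have hfac : (Nat.card G).factorization q = (Nat.card H).factorization q :=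
    factorization_card_of_hall H hHall q hqp hqd
  have hQHc : Nat.card QH = q ^ (Nat.card G).factorization q := by
    rw [hQH, card_map_subtype, hQH'c, hfac]
  have hQKc : Nat.card QK = q ^ (Nat.card G).factorization q := by
    rw [hQK, card_map_subtype, hQK'c, ← hcard, hfac]
  obtain ⟨y, hy⟩ := MulAction.exists_smul_eq G (Sylow.ofCard QH hQHc) (Sylow.ofCard QK hQKc)
  have hy' : MulAut.conj y • QH = QK := by
    have := congrArg (fun S : Sylow q G => (S : Subgroup G)) hy
    simpa [Sylow.coe_subgroup_smul] using this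
  set H₁ : Subgroup G := MulAut.conj y • H with hH₁
  have hH₁ss : Cfsg.IsSupersolvable H₁ :=
    isSupersolvable_of_surjective (Subgroup.equivSMul (MulAut.conj y) H).toMonoidHom
      (Subgroup.equivSMul (MulAut.conj y) H).surjective hH
  have hH₁card : Nat.card H₁ = Nat.card H := card_conj_smul y H
  have hH₁idx : H₁.index = H.index := index_conj_smul y H
  have hQKH₁ : QK ≤ H₁ := by
    rw [← hy']
    exact Subgroup.pointwise_smul_le_pointwise_smul_iff.mpr (Subgroup.map_subtype_le _)
  have hQKK : QK ≤ K := Subgroup.map_subtype_le _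
  set N : Subgroup G := Subgroup.normalizer (QK : Set G) with hN
  have hKN : K ≤ N := le_normalizer_map_subtype_of_normal K QK' hQK'n
  have hH₁N : H₁ ≤ N := by
    have h2 : H ≤ Subgroup.normalizer (QH : Set G) := le_normalizer_map_subtype_of_normal H QH' hQH'n
    have h3 := conj_smul_normalizer y QH
    rw [hy'] at h3
    rw [hN, ← h3]
    exact Subgroup.pointwise_smul_le_pointwise_smul_iff.mpr h2
  haveI hPN : (QK.subgroupOf N).Normal := Subgroup.normal_in_normalizer
  set π := QuotientGroup.mk' (QK.subgroupOf N) with hπ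
  have hP'H : QK.subgroupOf N ≤ H₁.subgroupOf N := Subgroup.subgroupOf_mono N hQKH₁
  have hP'K : QK.subgroupOf N ≤ K.subgroupOf N := Subgroup.subgroupOf_mono N hQKK
  have hcH := card_map_mk_of_le (QK.subgroupOf N) (H₁.subgroupOf N) hP'H
  have hcK := card_map_mk_of_le (QK.subgroupOf N) (K.subgroupOf N) hP'K
  rw [card_subgroupOf_of_le hH₁N, hH₁card] at hcH
  rw [card_subgroupOf_of_le hKN, ← hcard] at hcK
  have hP'pos : 0 < Nat.card (QK.subgroupOf N) := Nat.card_pos
  have hcardbar : Nat.card ((H₁.subgroupOf N).map π) = Nat.card ((K.subgroupOf N).map π) :=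
    Nat.eq_of_mul_eq_mul_right hP'pos (hcH.trans hcK.symm)
  have hP'card : Nat.card (QK.subgroupOf N) = q ^ (Nat.card G).factorization q := by
    rw [card_subgroupOf_of_le (Subgroup.le_normalizer), hQKc]
  have hlt : Nat.card ((H₁.subgroupOf N).map π) < n := by
    rw [← hn, ← hcH, hP'card]
    have h2 : 0 < (Nat.card G).factorization q := by
      rw [hfac]
      exact hqp.factorization_pos_of_dvd Nat.card_pos.ne' hqd
    have h3 : 2 ≤ q ^ (Nat.card G).factorization q :=
      le_trans hqp.two_le (Nat.le_self_pow h2.ne' q)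
    have h4 : 0 < Nat.card ((H₁.subgroupOf N).map π) := Nat.card_pos
    nlinarith
  have hHallbar : (Nat.card ((H₁.subgroupOf N).map π)).Coprime ((H₁.subgroupOf N).map π).index := by
    have h2 : ((H₁.subgroupOf N).map π).index = (H₁.subgroupOf N).index := by
      apply Subgroup.index_map_eq _ (QuotientGroup.mk'_surjective _)
      rw [QuotientGroup.ker_mk']; exact hP'H
    rw [h2]
    have h3 : (H₁.subgroupOf N).index ∣ H.index := by
      rw [← hH₁idx]
      exact Subgroup.relIndex_dvd_index_of_le hH₁N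
    have h4 : Nat.card ((H₁.subgroupOf N).map π) ∣ Nat.card H := Dvd.intro _ hcH
    exact Nat.Coprime.coprime_dvd_left h4 (Nat.Coprime.coprime_dvd_right h3 hHall)
  have hconj := ih _ hlt (N ⧸ QK.subgroupOf N) ((H₁.subgroupOf N).map π) ((K.subgroupOf N).map π)
    (isSupersolvable_image N QK H₁ hH₁N hH₁ss) (isSupersolvable_image N QK K hKN hK)
    hcardbar hHallbar rfl
  obtain ⟨g, hg⟩ := conj_of_conj_quotient N QK H₁ K hH₁N hKN hQKH₁ hQKK hconj
  refine ⟨g * y, ?_⟩
  rw [map_mul, mul_smul]
  exact hg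

theorem hall_conj {G : Type u} [Group G] [Finite G] (H K : Subgroup G)
    (hH : Cfsg.IsSupersolvable H) (hK : Cfsg.IsSupersolvable K) (hcard : Nat.card H = Nat.card K)
    (hHall : (Nat.card H).Coprime H.index) : ∃ x : G, MulAut.conj x • H = K :=
  hall_conj_aux _ G H K hH hK hcard hHall rfl

end Cfsg.Agent.Lib.Helper2.SupersolvableHall
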