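import Mathlib
import Cfsg.Prelude
import Cfsg.Agent.S0051
import Cfsg.Agent.Lib.Helper2.Basic
import Cfsg.Agent.Lib.Helper2.SupersolvableHall

set_option autoImplicit false
open Pointwise

namespace Cfsg.Agent.Lib.Helper2.Maschke

open Cfsg.Agent.Lib.Helper2

/-- **Maschke (subgroup form)**: under a coprime action on an abelian group, an invariant subgroup
which is complemented has an invariant complement. -/
theorem exists_invariant_complement {G : Type*} [Group G] [Finite G] (V A U : Subgroup G)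
    (hVab : IsMulCommutative V) (hAV : A ≤ Subgroup.normalizer (V : Set G))
    (hcop : (Nat.card A).Coprime (Nat.card V)) (hUV : U ≤ V)
    (hAU : A ≤ Subgroup.normalizer (U : Set G)) (W : Subgroup G) (hWV : W ≤ V)
    (hUW : U ⊓ W = ⊥) (hUWV : U ⊔ W = V) :
    ∃ W' : Subgroup G, W' ≤ V ∧ A ≤ Subgroup.normalizer (W' : Set G) ∧ U ⊓ W' = ⊥ ∧
      U ⊔ W' = V := by
  set Γ : Subgroup G := V ⊔ A with hΓ
  have hVΓ : V ≤ Γ := le_sup_left
  have hAΓ : A ≤ Γ := le_sup_right
  have hUΓ : U ≤ Γ := hUV.trans hVΓ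
  have hWΓ : W ≤ Γ := hWV.trans hVΓ
  have hcommV : ∀ x ∈ V, ∀ y ∈ V, x * y = y * x := by
    intro x hx y hy
    have := mul_comm' (⟨x, hx⟩ : V) ⟨y, hy⟩
    exact congrArg Subtype.val this
  have hVU : V ≤ Subgroup.normalizer (U : Set G) := by
    intro v hv
    apply mem_normalizer_of_commute
    intro n hn
    exact hcommV v hv n (hUV hn)
  have hΓU : Γ ≤ Subgroup.normalizer (U : Set G) := sup_le hVU hAU
  have hΓV : Γ ≤ Subgroup.normalizer (V : Set G) := sup_le Subgroup.le_normalizer hAV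
  haveI hKn : (U.subgroupOf Γ).Normal :=
    (Subgroup.normal_subgroupOf_iff_le_normalizer hUΓ).mpr hΓU
  haveI hVn : (V.subgroupOf Γ).Normal :=
    (Subgroup.normal_subgroupOf_iff_le_normalizer hVΓ).mpr hΓV
  haveI hUc : IsMulCommutative U :=
    ⟨⟨fun a b => Subtype.ext (hcommV a (hUV a.2) b (hUV b.2))⟩⟩
  haveI hKc : IsMulCommutative (U.subgroupOf Γ) := inferInstance
  have hcop' : (Nat.card (U.subgroupOf Γ)).Coprime (V.subgroupOf Γ).index := by
    rw [card_subgroupOf_of_le hUΓ]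
    have h1 : (V.subgroupOf Γ).index = V.relIndex A := by
      have := relIndex_sup_right_of_le_normalizer A V hAV
      rw [sup_comm] at this
      exact this
    rw [h1]
    have h2 : V.relIndex A ∣ Nat.card A := Subgroup.index_dvd_card _
    have h3 : Nat.card U ∣ Nat.card V := Subgroup.card_dvd_of_le hUV
    exact Nat.Coprime.coprime_dvd_left h3 (Nat.Coprime.coprime_dvd_right h2 hcop.symm)
  have hinf : W.subgroupOf Γ ⊓ U.subgroupOf Γ = ⊥ := by
    rw [eq_bot_iff]
    intro x hx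
    obtain ⟨h1, h2⟩ := Subgroup.mem_inf.mp hx
    rw [Subgroup.mem_subgroupOf] at h1 h2
    have : (x : G) ∈ U ⊓ W := ⟨h2, h1⟩
    rw [hUW, Subgroup.mem_bot] at this
    rw [Subgroup.mem_bot]
    exact Subtype.ext this
  have hsup : U.subgroupOf Γ ⊔ W.subgroupOf Γ = V.subgroupOf Γ := by
    rw [← Subgroup.subgroupOf_sup hUΓ hWΓ, hUWV]
  obtain ⟨H', hH'⟩ := Cfsg.Agent.S0051.result (U.subgroupOf Γ) (V.subgroupOf Γ)
    (Subgroup.subgroupOf_mono Γ hUV) hcop' (W.subgroupOf Γ) (Subgroup.subgroupOf_mono Γ hWV)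
    hinf hsup
  set D : Subgroup Γ := H' ⊓ V.subgroupOf Γ with hD
  have hDn : D.Normal := by
    rw [← Subgroup.normalizer_eq_top_iff, eq_top_iff, ← hH'.sup_eq_top]
    apply sup_le
    · -- U centralizes D
      intro k hk
      apply mem_normalizer_of_commute
      intro d hd
      apply Subtype.ext
      have h1 : (k : G) ∈ V := hUV (Subgroup.mem_subgroupOf.mp hk)
      have h2 : (d : G) ∈ V := Subgroup.mem_subgroupOf.mp hd.2
      exact hcommV _ h1 _ h2
    · intro h hh
      rw [Subgroup.mem_normalizer_iff]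
      intro d
      constructor
      · rintro ⟨h1, h2⟩
        exact ⟨H'.mul_mem (H'.mul_mem hh h1) (H'.inv_mem hh), hVn.conj_mem d h2 h⟩
      · rintro ⟨h1, h2⟩
        constructor
        · have := H'.mul_mem (H'.mul_mem (H'.inv_mem hh) h1) hh
          simpa [mul_assoc] using this
        · have := hVn.conj_mem _ h2 h⁻¹
          simpa [mul_assoc] using this
  refine ⟨D.map Γ.subtype, ?_, ?_, ?_, ?_⟩
  · rintro _ ⟨d, hd, rfl⟩
    exact Subgroup.mem_subgroupOf.mp hd.2
  · exact hAΓ.trans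
      (Cfsg.Agent.Lib.Helper2.SupersolvableHall.le_normalizer_map_subtype_of_normal Γ D hDn)
  · rw [eq_bot_iff]
    rintro x ⟨hxU, d, hd, rfl⟩
    have h1 : d ∈ U.subgroupOf Γ ⊓ H' := ⟨Subgroup.mem_subgroupOf.mpr hxU, hd.1⟩
    rw [disjoint_iff.mp hH'.disjoint, Subgroup.mem_bot] at h1
    rw [Subgroup.mem_bot, h1]; rfl
  · apply le_antisymm
    · apply sup_le hUV
      rintro _ ⟨d, hd, rfl⟩
      exact Subgroup.mem_subgroupOf.mp hd.2
    · intro v hv
      have hvΓ : v ∈ Γ := hVΓ hv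
      have htop : (⟨v, hvΓ⟩ : Γ) ∈ U.subgroupOf Γ ⊔ H' := by rw [hH'.sup_eq_top]; trivial
      rw [← SetLike.mem_coe, Subgroup.normal_mul] at htop
      obtain ⟨k, hk, h, hh, hkh⟩ := htop
      have hkU : (k : G) ∈ U := Subgroup.mem_subgroupOf.mp hk
      have hv' : v = (k : G) * (h : G) := by
        have := congrArg Subtype.val hkh
        simpa using this.symm
      have hhV : (h : G) ∈ V := by
        have : (h : G) = (k : G)⁻¹ * v := by rw [hv']; group
        rw [this]; exact V.mul_mem (V.inv_mem (hUV hkU)) hv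
      rw [hv']
      exact Subgroup.mul_mem _ (Subgroup.mem_sup_left hkU)
        (Subgroup.mem_sup_right ⟨h, ⟨hh, Subgroup.mem_subgroupOf.mpr hhV⟩, rfl⟩)

end Cfsg.Agent.Lib.Helper2.Maschke
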