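import Mathlib
import Cfsg.Agent.Lib.Helper2.BG16i4
import Cfsg.Agent.S1355
import Cfsg.Agent.S1364
import Cfsg.Agent.S1382
import Cfsg.Agent.Lib.Lead.BG11g

set_option autoImplicit false
set_option linter.style.haveILetI false
set_option linter.unusedSectionVars false
set_option maxHeartbeats 800000

/-!
# The sets `A₁(M)`, `A(M)`, `A₀(M)` lie in the big set
-/

namespace Cfsg.Agent.Lib.Helper2.BG16i

open Cfsg Cfsg.Agent.Lib.Helper7 Cfsg.Agent.Lib.Helper4 Cfsg.Agent.Lib.Helper4.BG8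
open Cfsg.Agent.Lib.Helper4.BG9 Cfsg.Agent.Lib.Lead.BG10 Cfsg.Agent.Lib.Helper4.BG14
open Cfsg.Agent.Lib.Helper4.BG22 Cfsg.Agent.Lib.Lead.BG14n Cfsg.Agent.Lib.Helper5.BG139
open Cfsg.Agent.Lib.Helper5.BG147 Cfsg.Agent.Lib.Helper4.BG21 Cfsg.Agent.Lib.Helper2.BG16b
open Cfsg.Agent.Lib.Helper4.BGConj Cfsg.Agent.Lib.Helper2.BG16e Cfsg.Agent.Lib.Helper2.BG16c

universe u

variable {G : Type u} [Group G] [Finite G]

/-- Type I forces `K = 1` -/
theorem K_eq_bot_of_typeI (hG : IsMinSimpleOddOrder G) {M K U : Subgroup G} (hM : IsCoatom M)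
    (hKU : IsSigmaDecomposition M K U) (hI : IsOfTypeI M) : K = ⊥ := by
  refine (of_typeF hG hM hKU hI.1 ?_).1
  intro hK1
  obtain ⟨-, h1, h2, -⟩ := Cfsg.Agent.S1364.result hG M hM K U hKU hK1
  rwa [inf_eq_left.mpr h2]

theorem typeCore_le (hG : IsMinSimpleOddOrder G) {M K U : Subgroup G} (hM : IsCoatom M)
    (hKU : IsSigmaDecomposition M K U) : typeCore M ≤ sigmaCore M := by
  by_cases h : IsOfTypeIII M ∨ IsOfTypeIV M
  · obtain ⟨hK1, hU, -⟩ := (Cfsg.Agent.S1382.result hG M hM K U hKU).mp h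
    have hder := sd_commutator_eq hG hM hKU hK1
    rw [hU, bot_sup_eq] at hder
    unfold typeCore
    rw [if_pos h, hder]
  · unfold typeCore
    rw [if_neg h]
    exact fittingHallOf_le_sigmaCore hG hM

theorem typeCore_le_commutator (hG : IsMinSimpleOddOrder G) {M : Subgroup G} (hM : IsCoatom M) :
    typeCore M ≤ ⁅M, M⁆ := by
  by_cases h : IsOfTypeIII M ∨ IsOfTypeIV M
  · unfold typeCore
    rw [if_pos h]
  · unfold typeCore
    rw [if_neg h]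
    exact (fittingHallOf_le_sigmaCore hG hM).trans (sigmaCore_le_commutator hG hM)

theorem typeCore_ne_bot (hG : IsMinSimpleOddOrder G) {M : Subgroup G} (hM : IsCoatom M) :
    typeCore M ≠ ⊥ := by
  obtain ⟨h1, h2, h3, -⟩ := Cfsg.Agent.S1355.result hG M hM
  by_cases h : IsOfTypeIII M ∨ IsOfTypeIV M
  · unfold typeCore
    rw [if_pos h]
    intro h0
    apply h1
    rw [eq_bot_iff, ← h0]
    exact h2.trans h3
  · unfold typeCore
    rw [if_neg h]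
    exact h1

theorem conj_mem_commutator {M : Subgroup G} {m x : G} (hm : m ∈ M) (hx : x ∈ ⁅M, M⁆) :
    m * x * m⁻¹ ∈ ⁅M, M⁆ :=
  (Subgroup.mem_normalizer_iff.mp (Cfsg.Agent.Lib.Lead.BG11.le_normalizer_commutator_self M hm) x).mp hx

theorem conj_mem_typeCore {M : Subgroup G} {m x : G} (hm : m ∈ M) (hx : x ∈ typeCore M) :
    m * x * m⁻¹ ∈ typeCore M := by
  by_cases h : IsOfTypeIII M ∨ IsOfTypeIV M
  · unfold typeCore at hx ⊢
    rw [if_pos h] at hx ⊢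
    exact conj_mem_commutator hm hx
  · unfold typeCore at hx ⊢
    rw [if_neg h] at hx ⊢
    exact (Subgroup.mem_normalizer_iff.mp (le_normalizer_fittingHallOf M hm) x).mp hx

/-- the conjugates of the elements of `W₁W₂` outside `W₁ ∪ W₂`, for any type P data, are
`M`-conjugates of elements of `Ẑ` -/
theorem mem_zhatConj_of_typeP (hG : IsMinSimpleOddOrder G) {M K U W₁ U' W₂ : Subgroup G}
    (hM : IsCoatom M) (hKU : IsSigmaDecomposition M K U) (hP : IsTypePWith M W₁ U' W₂) {m w : G}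
    (hm : m ∈ M) (hw : w ∈ W₁ ⊔ W₂) (hw1 : w ∉ W₁) (hw2 : w ∉ W₂) :
    m * w * m⁻¹ ∈ zhatConj M K := by
  have hK1 : K ≠ ⊥ := K_ne_bot_of_typeP hG hM hP hKU.hall
  obtain ⟨Ms, t⟩ := t147 hG hM hKU.hall hK1
  have hsolv : Group.IsSolvable ↥M := solvable_of_ne_top hG hM.1
  have hW₁M : W₁ ≤ M := hP.W₁_compl.2.1
  obtain ⟨k, hk, hkW⟩ := exists_cj_le_hall hsolv (kappa M) hKU.hall hW₁M
    (fun r hr hd => mem_kappa_of_typeP hG hM hP hr hd)
  obtain ⟨-, -, -, hcomm, -, -⟩ := hP.selfNormalizing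
  have hWC : W₁ ≤ Subgroup.centralizer (W₂ : Set G) := by
    intro a ha
    rw [Subgroup.mem_centralizer_iff]
    intro b hb
    exact (hcomm a ha b hb).symm
  obtain ⟨w₁, hw₁, w₂, hw₂, rfl, hww⟩ := exists_mul_of_mem_sup hWC hw
  have hw₁1 : w₁ ≠ 1 := by
    rintro rfl
    apply hw2
    simpa using hw₂
  have hw₂1 : w₂ ≠ 1 := by
    rintro rfl
    apply hw1
    simpa using hw₁
  have hkw₁ : k * w₁ * k⁻¹ ∈ K := hkW ⟨w₁, hw₁, by simp [MulAut.conj_apply]⟩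
  have hkw₁1 : k * w₁ * k⁻¹ ≠ 1 := conj_ne_one hw₁1
  have hw₂σ : w₂ ∈ sigmaCore M :=
    fittingHallOf_le_sigmaCore hG hM ((hP.W₂_le.trans inf_le_left) hw₂)
  have hw₂M' : w₂ ∈ ⁅M, M⁆ := sigmaCore_le_commutator hG hM hw₂σ
  have hkw₂M' : k * w₂ * k⁻¹ ∈ ⁅M, M⁆ := conj_mem_commutator hk hw₂M'
  have hkw₂c : k * w₂ * k⁻¹ ∈ Subgroup.centralizer ({k * w₁ * k⁻¹} : Set G) := by
    rw [Subgroup.mem_centralizer_iff]
    rintro z rfl
    calc k * w₁ * k⁻¹ * (k * w₂ * k⁻¹) = k * (w₁ * w₂) * k⁻¹ := by group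
      _ = k * (w₂ * w₁) * k⁻¹ := by rw [hww]
      _ = k * w₂ * k⁻¹ * (k * w₁ * k⁻¹) := by group
  have hkw₂ : k * w₂ * k⁻¹ ∈ kstar M K := by
    rw [← commutator_inf_centralizer_eq hG hM hKU hK1 t hkw₁ hkw₁1]
    exact ⟨hkw₂M', hkw₂c⟩
  have hkw₂1 : k * w₂ * k⁻¹ ≠ 1 := conj_ne_one hw₂1
  have hinf : K ⊓ sigmaCore M = ⊥ :=
    Subgroup.inf_eq_bot_of_coprime
      (Cfsg.Agent.Lib.Helper2.BG14z.coprime_card_kappa_hall hG hM hKU.hall)
  have hz : k * (w₁ * w₂) * k⁻¹ ∈ zhat M K := by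
    have e : k * (w₁ * w₂) * k⁻¹ = k * w₁ * k⁻¹ * (k * w₂ * k⁻¹) := by group
    refine ⟨?_, ?_⟩
    · rw [e]
      exact Subgroup.mul_mem _ (Subgroup.mem_sup_left hkw₁) (Subgroup.mem_sup_right hkw₂)
    · rintro (h | h)
      · apply hkw₂1
        have h1 : k * w₂ * k⁻¹ ∈ K := by
          have : k * w₂ * k⁻¹ = (k * w₁ * k⁻¹)⁻¹ * (k * (w₁ * w₂) * k⁻¹) := by group
          rw [this]
          exact K.mul_mem (K.inv_mem hkw₁) h
        have h2 : k * w₂ * k⁻¹ ∈ K ⊓ sigmaCore M := ⟨h1, (inf_le_left : kstar M K ≤ sigmaCore M) hkw₂⟩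
        rwa [hinf, Subgroup.mem_bot] at h2
      · apply hkw₁1
        have h1 : k * w₁ * k⁻¹ ∈ kstar M K := by
          have : k * w₁ * k⁻¹ = (k * (w₁ * w₂) * k⁻¹) * (k * w₂ * k⁻¹)⁻¹ := by group
          rw [this]
          exact (kstar M K).mul_mem h ((kstar M K).inv_mem hkw₂)
        have h2 : k * w₁ * k⁻¹ ∈ K ⊓ sigmaCore M := ⟨hkw₁, (inf_le_left : kstar M K ≤ sigmaCore M) h1⟩
        rwa [hinf, Subgroup.mem_bot] at h2
  refine ⟨m * k⁻¹, M.mul_mem hm (M.inv_mem hk), _, hz, ?_⟩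
  group

end Cfsg.Agent.Lib.Helper2.BG16i
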