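import Mathlib
import Cfsg.Agent.Lib.Helper2.BG16i5

set_option autoImplicit false
set_option linter.style.haveILetI false
set_option linter.unusedSectionVars false
set_option maxHeartbeats 800000

/-!
# The Dade hypothesis for `A₁(M)`, `A(M)`, `A₀(M)`, given B and G, Corollary 15.9(a)
-/

namespace Cfsg.Agent.Lib.Helper2.BG16i

open Cfsg Cfsg.Agent.Lib.Helper7 Cfsg.Agent.Lib.Helper4 Cfsg.Agent.Lib.Helper4.BG8
open Cfsg.Agent.Lib.Helper4.BG9 Cfsg.Agent.Lib.Lead.BG10 Cfsg.Agent.Lib.Helper4.BG14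
open Cfsg.Agent.Lib.Helper4.BG22 Cfsg.Agent.Lib.Lead.BG14n Cfsg.Agent.Lib.Helper5.BG139
open Cfsg.Agent.Lib.Helper5.BG147 Cfsg.Agent.Lib.Helper4.BG21 Cfsg.Agent.Lib.Helper2.BG16b
open Cfsg.Agent.Lib.Helper4.BGConj Cfsg.Agent.Lib.Helper2.BG16e Cfsg.Agent.Lib.Helper2.BG16c

universe u

variable {G : Type u} [Group G] [Finite G]

theorem commutator_le_sup (hG : IsMinSimpleOddOrder G) {M K U : Subgroup G} (hM : IsCoatom M)
    (hKU : IsSigmaDecomposition M K U) : ⁅M, M⁆ ≤ U ⊔ sigmaCore M := by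
  by_cases hK1 : K = ⊥
  · have h4 := (Cfsg.Agent.S1355.result hG M hM).2.2.2.1
    refine h4.le.trans ?_
    intro m hm
    obtain ⟨u, hu, b, hb, rfl⟩ := hKU.compl.2.2.2 m hm
    rw [hK1, bot_sup_eq] at hb
    exact Subgroup.mul_mem _ (Subgroup.mem_sup_left hu) (Subgroup.mem_sup_right hb)
  · rw [sd_commutator_eq hG hM hKU hK1]

theorem sup_eq_of_K_eq_bot {M K U : Subgroup G} (hKU : IsSigmaDecomposition M K U) (hK : K = ⊥) :
    M ≤ U ⊔ sigmaCore M := by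
  intro m hm
  obtain ⟨u, hu, b, hb, rfl⟩ := hKU.compl.2.2.2 m hm
  rw [hK, bot_sup_eq] at hb
  exact Subgroup.mul_mem _ (Subgroup.mem_sup_left hu) (Subgroup.mem_sup_right hb)

theorem typeA1_subset_bigA (hG : IsMinSimpleOddOrder G) {M K U : Subgroup G} (hM : IsCoatom M)
    (hKU : IsSigmaDecomposition M K U) : typeA1 M ⊆ bigA M K U := by
  rintro a ⟨ha, ha1⟩
  have haσ : a ∈ sigmaCore M := typeCore_le hG hM hKU ha
  have ha1' : a ≠ 1 := fun h => ha1 h
  left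
  exact ⟨⟨⟨sigmaCore_le M haσ, a, haσ, ha1', rfl⟩, Subgroup.mem_sup_right haσ⟩, ha1⟩

theorem typeA_subset_bigA (hG : IsMinSimpleOddOrder G) {M K U : Subgroup G} (hM : IsCoatom M)
    (hKU : IsSigmaDecomposition M K U) : typeA M ⊆ bigA M K U := by
  intro a ha
  unfold typeA at ha
  by_cases hI : IsOfTypeI M
  · rw [if_pos hI] at ha
    obtain ⟨haM, ha1, x, hx, hx1, hax⟩ := ha
    have hK := K_eq_bot_of_typeI hG hM hKU hI
    left
    exact ⟨⟨⟨haM, x, fittingHallOf_le_sigmaCore hG hM hx, hx1, hax⟩,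
      sup_eq_of_K_eq_bot hKU hK haM⟩, fun h => ha1 h⟩
  · rw [if_neg hI] at ha
    obtain ⟨haM, ha1, x, hx, hx1, hax⟩ := ha
    have hcomm : ⁅M, M⁆ ≤ M := ((Cfsg.Agent.S1355.result hG M hM).2.2.2.1).le
    left
    exact ⟨⟨⟨hcomm haM, x, typeCore_le hG hM hKU hx, hx1, hax⟩,
      commutator_le_sup hG hM hKU haM⟩, fun h => ha1 h⟩

theorem typeA0_subset_bigA (hG : IsMinSimpleOddOrder G) {M K U : Subgroup G} (hM : IsCoatom M)
    (hKU : IsSigmaDecomposition M K U) : typeA0 M ⊆ bigA M K U := by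
  rintro v (hv | ⟨-, W₁, U', W₂, hP, m, hm, w, hw, hw1, hw2, rfl⟩)
  · exact typeA_subset_bigA hG hM hKU hv
  · exact Or.inr (mem_zhatConj_of_typeP hG hM hKU hP hm hw hw1 hw2)

theorem typeA1_nonempty (hG : IsMinSimpleOddOrder G) {M : Subgroup G} (hM : IsCoatom M) :
    (typeA1 M).Nonempty := by
  obtain ⟨⟨x, hx⟩, hx1⟩ := (Subgroup.ne_bot_iff_exists_ne_one).mp (typeCore_ne_bot hG hM)
  exact ⟨x, hx, fun h => hx1 (Subtype.ext h)⟩

theorem typeA1_subset_typeA (hG : IsMinSimpleOddOrder G) {M : Subgroup G} (hM : IsCoatom M) :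
    typeA1 M ⊆ typeA M := by
  rintro a ⟨ha, ha1⟩
  have ha1' : a ≠ 1 := fun h => ha1 h
  obtain ⟨K, U, hKU⟩ := exists_sd hG hM
  unfold typeA
  by_cases hI : IsOfTypeI M
  · rw [if_pos hI]
    have hK := K_eq_bot_of_typeI hG hM hKU hI
    have hnot : ¬ (IsOfTypeIII M ∨ IsOfTypeIV M) := by
      intro h
      exact ((Cfsg.Agent.S1382.result hG M hM K U hKU).mp h).1 hK
    have hT : typeCore M = fittingHallOf M := by
      unfold typeCore
      rw [if_neg hnot]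
    refine ⟨sigmaCore_le M (typeCore_le hG hM hKU ha), ha1', a, ?_, ha1', rfl⟩
    rw [← hT]
    exact ha
  · rw [if_neg hI]
    exact ⟨typeCore_le_commutator hG hM ha, ha1', a, ha, ha1', rfl⟩

theorem conj_mem_typeA1 {M : Subgroup G} {m a : G} (hm : m ∈ M) (ha : a ∈ typeA1 M) :
    m * a * m⁻¹ ∈ typeA1 M := by
  obtain ⟨ha, ha1⟩ := ha
  refine ⟨conj_mem_typeCore hm ha, ?_⟩
  intro h
  apply ha1
  have h' : m * a * m⁻¹ = 1 := h
  have : a = m⁻¹ * (m * a * m⁻¹) * m := by group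
  rw [Set.mem_singleton_iff, this, h']
  group

theorem conj_mem_typeA {M : Subgroup G} {m a : G} (hm : m ∈ M) (ha : a ∈ typeA M) :
    m * a * m⁻¹ ∈ typeA M := by
  have hcomm : ∀ x : G, a * x = x * a → m * a * m⁻¹ * (m * x * m⁻¹) = m * x * m⁻¹ * (m * a * m⁻¹) := by
    intro x hax
    calc m * a * m⁻¹ * (m * x * m⁻¹) = m * (a * x) * m⁻¹ := by group
      _ = m * (x * a) * m⁻¹ := by rw [hax]
      _ = m * x * m⁻¹ * (m * a * m⁻¹) := by group
  unfold typeA at ha ⊢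
  by_cases hI : IsOfTypeI M
  · rw [if_pos hI] at ha ⊢
    obtain ⟨haM, ha1, x, hx, hx1, hax⟩ := ha
    refine ⟨M.mul_mem (M.mul_mem hm haM) (M.inv_mem hm), conj_ne_one ha1, m * x * m⁻¹, ?_,
      conj_ne_one hx1, hcomm x hax⟩
    exact (Subgroup.mem_normalizer_iff.mp (le_normalizer_fittingHallOf M hm) x).mp hx
  · rw [if_neg hI] at ha ⊢
    obtain ⟨haM, ha1, x, hx, hx1, hax⟩ := ha
    exact ⟨conj_mem_commutator hm haM, conj_ne_one ha1, m * x * m⁻¹, conj_mem_typeCore hm hx,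
      conj_ne_one hx1, hcomm x hax⟩

theorem conj_mem_typeA0 {M : Subgroup G} {m a : G} (hm : m ∈ M) (ha : a ∈ typeA0 M) :
    m * a * m⁻¹ ∈ typeA0 M := by
  rcases ha with ha | ⟨hI, W₁, U', W₂, hP, m', hm', w, hw, hw1, hw2, rfl⟩
  · exact Or.inl (conj_mem_typeA hm ha)
  · refine Or.inr ⟨hI, W₁, U', W₂, hP, m * m', M.mul_mem hm hm', w, hw, hw1, hw2, ?_⟩
    group

/-- **the Dade hypothesis for `A₁(M)`, `A(M)` and `A₀(M)`**, given B and G, Corollary 15.9(a) -/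
theorem dade_types (hG : IsMinSimpleOddOrder G) {M : Subgroup G} (hM : IsCoatom M)
    (h1436 : H1436 M) {A : Set G} (hA : A = typeA1 M ∨ A = typeA M ∨ A = typeA0 M) :
    Subgroup.normalizer A = M ∧ DadeHypothesis A M (supportR M) := by
  obtain ⟨K, U, hKU⟩ := exists_sd hG hM
  have hne1 := typeA1_nonempty hG hM
  have hne2 : (typeA M).Nonempty := hne1.mono (typeA1_subset_typeA hG hM)
  have hne3 : (typeA0 M).Nonempty := hne2.mono (fun _ h => Or.inl h)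
  rcases hA with rfl | rfl | rfl
  · exact dade_of_subset hG hM hKU h1436 (typeA1_subset_bigA hG hM hKU) hne1
      (fun m hm a ha => conj_mem_typeA1 hm ha)
  · exact dade_of_subset hG hM hKU h1436 (typeA_subset_bigA hG hM hKU) hne2
      (fun m hm a ha => conj_mem_typeA hm ha)
  · exact dade_of_subset hG hM hKU h1436 (typeA0_subset_bigA hG hM hKU) hne3
      (fun m hm a ha => conj_mem_typeA0 hm ha)

end Cfsg.Agent.Lib.Helper2.BG16i
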