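import Mathlib
import Cfsg.Agent.Lib.Helper2.BG16i3

set_option autoImplicit false
set_option linter.style.haveILetI false
set_option linter.unusedSectionVars false
set_option maxHeartbeats 800000

/-!
# B and G, Corollary 15.9(b) (the second part of statement S1436): fusion of the partners
-/

namespace Cfsg.Agent.Lib.Helper2.BG16j

open Cfsg Cfsg.Agent.Lib.Helper7 Cfsg.Agent.Lib.Helper4 Cfsg.Agent.Lib.Helper4.BG8
open Cfsg.Agent.Lib.Helper4.BG9 Cfsg.Agent.Lib.Lead.BG10 Cfsg.Agent.Lib.Helper4.BG14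
open Cfsg.Agent.Lib.Helper4.BG22 Cfsg.Agent.Lib.Lead.BG14n Cfsg.Agent.Lib.Helper5.BG139
open Cfsg.Agent.Lib.Helper4.BGConj

universe u

variable {G : Type u} [Group G] [Finite G]

/-- the complement `M ∩ N` of `N_σ` in the partner `N` of `x` -/
theorem partner_compl (hG : IsMinSimpleOddOrder G) {M : Subgroup G} (hM : IsCoatom M) {x : G}
    (hx : x ∈ sigmaCore M) (hx1 : x ≠ 1) (hxM : ¬ Subgroup.centralizer ({x} : Set G) ≤ M)
    {N : Subgroup G} (hN : IsCoatom N) (hxN : Subgroup.centralizer ({x} : Set G) ≤ N) :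
    IsComplIn (M ⊓ N) (sigmaCore N) N := by
  obtain ⟨N₀, -, huniq, -, -, -, hc, -⟩ := Cfsg.Agent.S1375.result hG M hM x hx hx1 hxM
  rw [huniq N hN hxN]
  exact hc

/-- **B and G, Corollary 15.9(b)**: partners of elements of `M_σ` that are conjugate in `G` are
conjugate in `M` -/
theorem s1436_b (hG : IsMinSimpleOddOrder G) {M : Subgroup G} (hM : IsCoatom M) {x : G}
    (hx : x ∈ sigmaCore M) (hx1 : x ≠ 1) (hxM : ¬ Subgroup.centralizer ({x} : Set G) ≤ M)
    {N : Subgroup G} (hN : IsCoatom N) (hxN : Subgroup.centralizer ({x} : Set G) ≤ N) :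
    ∀ (y : G) (N' : Subgroup G) (g : G), y ∈ sigmaCore M → y ≠ 1 →
      ¬ Subgroup.centralizer ({y} : Set G) ≤ M → IsCoatom N' →
      Subgroup.centralizer ({y} : Set G) ≤ N' →
      N'.map (MulAut.conj g).toMonoidHom = N → ∃ m ∈ M, N'.map (MulAut.conj m).toMonoidHom = N := by
  intro y N' g hy hy1 hyM hN' hyN' hg
  have hg' : cj g N' = N := hg
  have hc1 := partner_compl hG hM hx hx1 hxM hN hxN
  have hc2 := isComplIn_cj g (partner_compl hG hM hy hy1 hyM hN' hyN')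
  rw [← sigmaCore_cj, hg'] at hc2
  have hsolv : Group.IsSolvable ↥N := solvable_of_ne_top hG hN.1
  obtain ⟨n, hn, hnE⟩ := hall_conj hsolv _ (isPiHallOf_of_isComplIn hG hN hc2)
    (isPiHallOf_of_isComplIn hG hN hc1)
  -- `x ∈ M^{ng}`
  have hxC : x ∈ Subgroup.centralizer ({x} : Set G) := by
    rw [Subgroup.mem_centralizer_iff]
    rintro z rfl
    rfl
  have hxE : x ∈ M ⊓ N := ⟨sigmaCore_le M hx, hxN hxC⟩
  have hxng : x ∈ cj (n * g) M := by
    rw [← hnE] at hxE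
    have h1 : cj n (cj g (M ⊓ N')) ≤ cj (n * g) M := by
      rw [Helper7.cj_mul]
      exact cj_mono n (cj_mono g inf_le_left)
    exact h1 hxE
  obtain ⟨-, R, -, hcR, huniq⟩ := Cfsg.Agent.S1374.result hG M hM x hx hx1
  obtain ⟨r, ⟨hr, hrM⟩, -⟩ := huniq (n * g) hxng
  have hrN : r ∈ N := hxN (hcR.2.1 hr)
  have hM1 : M ≠ ⊥ := by
    intro h0
    apply hx1
    have := sigmaCore_le M hx
    rwa [h0, Subgroup.mem_bot] at this
  have hmM : r⁻¹ * (n * g) ∈ M := by
    have h3 : r⁻¹ * (n * g) ∈ Subgroup.normalizer (M : Set G) := by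
      rw [mem_normalizer_iff_cj, Helper7.cj_mul]
      have h4 : cj (n * g) M = cj r M := hrM.symm
      rw [h4, cj_inv_cj]
    rw [normalizer_eq_of_isCoatom hG hM hM1 le_rfl Subgroup.le_normalizer] at h3
    exact h3
  refine ⟨r⁻¹ * (n * g), hmM, ?_⟩
  show cj (r⁻¹ * (n * g)) N' = N
  have e : r⁻¹ * (n * g) = (r⁻¹ * n) * g := by group
  rw [e, Helper7.cj_mul, hg']
  exact Helper7.cj_eq_self_of_mem (N.mul_mem (N.inv_mem hrN) hn)

end Cfsg.Agent.Lib.Helper2.BG16j
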