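import Mathlib
import Cfsg.Agent.Lib.Helper8.BPS13

/-!
# Local decomposition of an idempotent of `(𝒪G)^Q` (carve-out (R) of the Broué–Puig project)

Every idempotent `ε` of `(𝒪G)^Q`, `Q` a `p`-subgroup, is an orthogonal sum of relative traces
`Tr_S^Q(j)` of *local* primitive idempotents `j` of `(𝒪G)^S` (i.e. `j ∉ Ker Br_S`) whose
`Q`-conjugates outside `S` are orthogonal to `j`.
-/

set_option autoImplicit false

namespace Cfsg.Agent.Lib.Helper2.BPR

open Cfsg Cfsg.Agent.Lib.Helper8 Cfsg.Agent.Lib.Helper8.BPS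

variable {M : Ideal AlgInt} {p : ℕ} {G : Type*} [Group G] [Fintype G] [DecidableEq G]

theorem sgSum_eq_zero (S : Subgroup G) {F : G → GA G} (h : ∀ t ∈ S, F t = 0) : sgSum S F = 0 := by
  rw [sgSum_congr S (F' := fun _ => 0) h, sgSum_const, smul_zero]

theorem mul_rtr_eq_zero (S Q : Subgroup G) {a b : GA G} (h : ∀ t ∈ Q, a * cj t b = 0) :
    a * rtr S Q b = 0 := by
  unfold rtr
  rw [mul_smul_comm, mul_sgSum, sgSum_eq_zero Q h, smul_zero]

theorem rtr_mul_rtr_eq_zero (S' S Q : Subgroup G) {a b : GA G} (h : ∀ t ∈ Q, a * cj t b = 0) :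
    rtr S' Q a * rtr S Q b = 0 := by
  rw [rtr_mul S' Q (fun s hs => cj_rtr S Q hs b) a, mul_rtr_eq_zero S Q h, rtr_zero]

/-- orthogonality on the other side -/
theorem mul_cj_eq_zero {Q S : Subgroup G} {j : GA G}
    (h : ∀ x ∈ Q, x ∉ S → cj x j * j = 0) : ∀ x ∈ Q, x ∉ S → j * cj x j = 0 := by
  intro x hx hxS
  have h1 := h x⁻¹ (Q.inv_mem hx) (fun h' => hxS (by simpa using S.inv_mem h'))
  have h2 := congrArg (cj x) h1
  rw [cj_mul, cj_cj_inv, cj_zero] at h2
  exact h2

theorem sgSum_ite_const {S Q : Subgroup G} (hSQ : S ≤ Q) {F : G → GA G} {x : GA G}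
    (h1 : ∀ t ∈ S, F t = x) (h2 : ∀ t ∈ Q, t ∉ S → F t = 0) :
    sgSum Q F = (Nat.card S : ℂ) • x := by
  classical
  rw [← sgSum_const]
  unfold sgSum
  refine Finset.sum_congr rfl fun t _ => ?_
  by_cases htS : t ∈ S
  · rw [if_pos (hSQ htS), if_pos htS, h1 t htS]
  · rw [if_neg htS]
    by_cases htQ : t ∈ Q
    · rw [if_pos htQ, h2 t htQ htS]
    · rw [if_neg htQ]

theorem card_ne_zero' (S : Subgroup G) : (Nat.card S : ℂ) ≠ 0 := by
  have : 0 < Nat.card S := Nat.card_pos
  exact_mod_cast this.ne'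

/-- `j * Tr_S^Q j = j` when the conjugates of `j` outside `S` are orthogonal to `j` -/
theorem mul_rtr_self {S Q : Subgroup G} (hSQ : S ≤ Q) {j : GA G} (hjj : j * j = j)
    (hjS : ∀ s ∈ S, cj s j = j) (h : ∀ x ∈ Q, x ∉ S → cj x j * j = 0) :
    j * rtr S Q j = j := by
  unfold rtr
  rw [mul_smul_comm, mul_sgSum,
    sgSum_ite_const hSQ (F := fun t => j * cj t j) (x := j)
      (fun t ht => by rw [hjS t ht, hjj]) (fun t ht htS => mul_cj_eq_zero h t ht htS),
    smul_smul, inv_mul_cancel₀ (card_ne_zero' S), one_smul]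

theorem rtr_self_mul {S Q : Subgroup G} (hSQ : S ≤ Q) {j : GA G} (hjj : j * j = j)
    (hjS : ∀ s ∈ S, cj s j = j) (h : ∀ x ∈ Q, x ∉ S → cj x j * j = 0) :
    rtr S Q j * j = j := by
  unfold rtr
  rw [smul_mul_assoc, sgSum_mul,
    sgSum_ite_const hSQ (F := fun t => cj t j * j) (x := j)
      (fun t ht => by rw [hjS t ht, hjj]) (fun t ht htS => h t ht htS),
    smul_smul, inv_mul_cancel₀ (card_ne_zero' S), one_smul]

theorem rtr_self (Q : Subgroup G) {x : GA G} (hx : ∀ s ∈ Q, cj s x = x) : rtr Q Q x = x := by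
  rw [rtr_of_fixed Q Q hx, inv_mul_cancel₀ (card_ne_zero' Q), one_smul]

theorem rtr_list_sum {α : Type*} (S' S : Subgroup G) (L : List α) (F : α → GA G) :
    rtr S' S (L.map F).sum = (L.map fun a => rtr S' S (F a)).sum := by
  induction L with
  | nil => simp [rtr_zero]
  | cons a L ih => simp only [List.map_cons, List.sum_cons, rtr_add, ih]

/-- the conclusion of the decomposition theorem, with the extra information that the pieces lie
in the corner of `ε` -/
def Good (hMp : M.IsPrime) (Q : Subgroup G) (ε : GA G) (L : List (Subgroup G × GA G)) : Prop :=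
  (∀ m ∈ L, m.1 ≤ Q ∧ Prim (fixedRing M hMp m.1) m.2 ∧ m.2 ∉ KBr M hMp m.1 ∧
      (∀ x ∈ Q, x ∉ m.1 → cj x m.2 * m.2 = 0) ∧ Corner ε m.2) ∧
    L.Pairwise (fun m m' => rtr m.1 Q m.2 * rtr m'.1 Q m'.2 = 0 ∧
      rtr m'.1 Q m'.2 * rtr m.1 Q m.2 = 0) ∧
    ε = (L.map fun m => rtr m.1 Q m.2).sum

theorem good_nil (hMp : M.IsPrime) (Q : Subgroup G) : Good hMp Q (0 : GA G) [] :=
  ⟨by simp, List.Pairwise.nil, by simp⟩

theorem good_singleton (hMp : M.IsPrime) (Q : Subgroup G) {ε : GA G}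
    (hε : Prim (fixedRing M hMp Q) ε) (hK : ε ∉ KBr M hMp Q) : Good hMp Q ε [(Q, ε)] := by
  refine ⟨?_, List.pairwise_singleton _ _, ?_⟩
  · intro m hm
    rw [List.mem_singleton] at hm
    subst hm
    exact ⟨le_rfl, hε, hK, fun x hx hx' => absurd hx hx', Corner.self hε.2.1⟩
  · simp only [List.map_cons, List.map_nil, List.sum_cons, List.sum_nil, add_zero]
    exact (rtr_self Q hε.1.2).symm

/-- the relative trace of a piece lies in the corner of `ε` -/
theorem corner_rtr {Q S : Subgroup G} {ε j : GA G} (hε : ∀ s ∈ Q, cj s ε = ε)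
    (hc : Corner ε j) : Corner ε (rtr S Q j) :=
  ⟨by rw [mul_rtr S Q hε, hc.1], by rw [rtr_mul S Q hε, hc.2]⟩

theorem good_append (hMp : M.IsPrime) (Q : Subgroup G) {e e' : GA G}
    (he : ∀ s ∈ Q, cj s e = e) (he' : ∀ s ∈ Q, cj s e' = e')
    (hee : e * e = e) (hee' : e' * e' = e') (h1 : e * e' = 0) (h2 : e' * e = 0)
    {L L' : List (Subgroup G × GA G)} (hL : Good hMp Q e L) (hL' : Good hMp Q e' L') :
    Good hMp Q (e + e') (L ++ L') := by
  have hce : Corner (e + e') e :=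
    ⟨by rw [add_mul, hee, h2, add_zero], by rw [mul_add, hee, h1, add_zero]⟩
  have hce' : Corner (e + e') e' :=
    ⟨by rw [add_mul, hee', h1, zero_add], by rw [mul_add, hee', h2, zero_add]⟩
  refine ⟨?_, ?_, ?_⟩
  · intro m hm
    rcases List.mem_append.1 hm with h | h
    · obtain ⟨a1, a2, a3, a4, a5⟩ := hL.1 m h
      exact ⟨a1, a2, a3, a4, hce.trans a5⟩
    · obtain ⟨a1, a2, a3, a4, a5⟩ := hL'.1 m h
      exact ⟨a1, a2, a3, a4, hce'.trans a5⟩
  · rw [List.pairwise_append]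
    refine ⟨hL.2.1, hL'.2.1, ?_⟩
    intro m hm m' hm'
    have c1 := corner_rtr (S := m.1) he (hL.1 m hm).2.2.2.2
    have c2 := corner_rtr (S := m'.1) he' (hL'.1 m' hm').2.2.2.2
    constructor
    · rw [← c1.2, ← c2.1, mul_assoc, ← mul_assoc e, h1, zero_mul, mul_zero]
    · rw [← c2.2, ← c1.1, mul_assoc, ← mul_assoc e', h2, zero_mul, mul_zero]
  · rw [List.map_append, List.sum_append, ← hL.2.2, ← hL'.2.2]

/-- lifting a decomposition of `f ∈ (𝒪G)^R` to a decomposition of `Tr_R^Q f` -/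
theorem good_lift (hMp : M.IsPrime) {R Q : Subgroup G} (hRQ : R ≤ Q) {f i : GA G}
    (hfR : ∀ r ∈ R, cj r f = f) (hcf : Corner i f)
    (horth : ∀ s ∈ Q, s ∉ R → cj s f * f = 0) (htr : rtr R Q f = i)
    {L : List (Subgroup G × GA G)} (hL : Good hMp R f L) : Good hMp Q i L := by
  have horth' := mul_cj_eq_zero horth
  refine ⟨?_, ?_, ?_⟩
  · intro m hm
    obtain ⟨a1, a2, a3, a4, a5⟩ := hL.1 m hm
    refine ⟨a1.trans hRQ, a2, a3, ?_, hcf.trans a5⟩
    intro x hx hxm
    by_cases hxR : x ∈ R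
    · exact a4 x hxR hxm
    · calc cj x m.2 * m.2 = cj x (m.2 * f) * (f * m.2) := by rw [a5.1, a5.2]
        _ = cj x m.2 * (cj x f * f) * m.2 := by rw [cj_mul]; noncomm_ring
        _ = 0 := by rw [horth x hx hxR, mul_zero, zero_mul]
  · refine hL.2.1.imp_of_mem ?_
    intro m m' hm hm' hmm'
    obtain ⟨a1, a2, a3, a4, a5⟩ := hL.1 m hm
    obtain ⟨b1, b2, b3, b4, b5⟩ := hL.1 m' hm'
    have ca := corner_rtr (S := m.1) hfR a5
    have cb := corner_rtr (S := m'.1) hfR b5
    have key : ∀ {a b : GA G}, Corner f a → Corner f b → (∀ r ∈ R, cj r b = b) → a * b = 0 →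
        ∀ t ∈ Q, a * cj t b = 0 := by
      intro a b hca hcb hbR hab t ht
      by_cases htR : t ∈ R
      · rw [hbR t htR, hab]
      · calc a * cj t b = (a * f) * cj t (f * b) := by rw [hca.2, hcb.1]
          _ = a * (f * cj t f) * cj t b := by rw [cj_mul]; noncomm_ring
          _ = 0 := by rw [horth' t ht htR, mul_zero, zero_mul]
    rw [← rtr_rtr m.1 R Q hRQ m.2, ← rtr_rtr m'.1 R Q hRQ m'.2]
    exact ⟨rtr_mul_rtr_eq_zero R R Q
        (key ca cb (fun r hr => cj_rtr m'.1 R hr m'.2) hmm'.1),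
      rtr_mul_rtr_eq_zero R R Q (key cb ca (fun r hr => cj_rtr m.1 R hr m.2) hmm'.2)⟩
  · rw [← htr, hL.2.2, rtr_list_sum]
    congr 1
    apply List.map_congr_left
    intro m _
    exact rtr_rtr m.1 R Q hRQ m.2

theorem exists_good [hp : Fact p.Prime] (hM : IsPModular p M) :
    ∀ (n : ℕ) (Q : Subgroup G), Nat.card Q = n → IsPGroup p Q →
      ∀ (r : ℕ) (ε : GA G), rk ε = r → ε ∈ fixedRing M (isPModular_isPrime hM) Q → ε * ε = ε →
        ∃ L, Good (isPModular_isPrime hM) Q ε L := by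
  classical
  have hMp := isPModular_isPrime hM
  intro n
  induction n using Nat.strong_induction_on with
  | _ n ihn =>
    intro Q hn hQ r
    induction r using Nat.strong_induction_on with
    | _ r ihr =>
      intro ε hrk hεT hεε
      by_cases hε0 : ε = 0
      · subst hε0
        exact ⟨[], good_nil hMp Q⟩
      by_cases hprim : Prim (fixedRing M hMp Q) ε
      · by_cases hK : ε ∈ KBr M hMp Q
        · -- Green
          obtain ⟨S', hS'le, hS'ne, hmem⟩ := exists_trIdeal_of_prim_mem_KBr hMp hprim hK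
          obtain ⟨R, hS'R, hRQ, hnorm, hcard⟩ := exists_normal_index_p hQ hS'le hS'ne
          have hmemR : ε ∈ trIdeal M hMp R Q := trIdeal_mono hMp hS'R hRQ hmem
          have hlt : Nat.card R < Nat.card Q := by
            rw [hcard]
            have : 0 < Nat.card R := Nat.card_pos
            have := hp.out.one_lt
            nlinarith
          obtain ⟨t, htQ, htR⟩ : ∃ t ∈ Q, t ∉ R := by
            by_contra hcon
            push Not at hcon
            have : Q ≤ R := fun t ht => hcon t ht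
            have := Subgroup.card_le_of_le this
            omega
          obtain ⟨f, hfT, hff, hcf, horth, htr⟩ :=
            green_ga hRQ hnorm hcard htQ htR hM hprim hmemR
          obtain ⟨L, hL⟩ := ihn (Nat.card R) (hn ▸ hlt) R rfl (hQ.to_le hRQ) (rk f) f rfl hfT hff
          exact ⟨L, good_lift hMp hRQ hfT.2 hcf horth htr hL⟩
        · exact ⟨[(Q, ε)], good_singleton hMp Q hprim hK⟩
      · -- split
        have : ∃ e ∈ fixedRing M hMp Q, e * e = e ∧ Corner ε e ∧ e ≠ 0 ∧ e ≠ ε := by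
          by_contra hcon
          push Not at hcon
          apply hprim
          refine ⟨hεT, hεε, hε0, fun e heT hee hce => ?_⟩
          by_cases h0 : e = 0
          · exact Or.inl h0
          · exact Or.inr (hcon e heT hee hce h0)
        obtain ⟨e, heT, hee, hce, he0, hei⟩ := this
        set f := ε - e with hf
        have hfT : f ∈ fixedRing M hMp Q := Subring.sub_mem _ hεT heT
        have hff : f * f = f := by
          rw [hf, mul_sub, sub_mul, sub_mul, hεε, hce.1, hce.2, hee]; abel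
        have hef : e * f = 0 := by rw [hf, mul_sub, hce.2, hee, sub_self]
        have hfe : f * e = 0 := by rw [hf, sub_mul, hce.1, hee, sub_self]
        have hf0 : f ≠ 0 := fun h => hei (by rw [hf, sub_eq_zero] at h; exact h.symm)
        have hεef : ε = e + f := by rw [hf]; abel
        have hsum : rk ε = rk e + rk f := by
          rw [hεef]; exact rk_add_of_orth hee hff hef hfe
        have hlt1 : rk e < r := by have := rk_pos hff hf0; omega
        have hlt2 : rk f < r := by have := rk_pos hee he0; omega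
        obtain ⟨L1, hL1⟩ := ihr (rk e) hlt1 e rfl heT hee
        obtain ⟨L2, hL2⟩ := ihr (rk f) hlt2 f rfl hfT hff
        refine ⟨L1 ++ L2, ?_⟩
        rw [hεef]
        exact good_append hMp Q heT.2 hfT.2 hee hff hef hfe hL1 hL2

/-- **(R)** Local decomposition of an idempotent of `(𝒪G)^Q`. -/
theorem exists_local_decomp [Fact p.Prime] (hM : IsPModular p M) (Q : Subgroup G)
    (hQ : IsPGroup p Q) (ε : GA G) (hε : ε ∈ fixedRing M (isPModular_isPrime hM) Q)
    (hεε : ε * ε = ε) :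
    ∃ L : List (Subgroup G × GA G),
      (∀ m ∈ L, m.1 ≤ Q ∧ Prim (fixedRing M (isPModular_isPrime hM) m.1) m.2 ∧
        m.2 ∉ KBr M (isPModular_isPrime hM) m.1 ∧ (∀ x ∈ Q, x ∉ m.1 → cj x m.2 * m.2 = 0)) ∧
      L.Pairwise (fun m m' => rtr m.1 Q m.2 * rtr m'.1 Q m'.2 = 0 ∧
        rtr m'.1 Q m'.2 * rtr m.1 Q m.2 = 0) ∧
      ε = (L.map fun m => rtr m.1 Q m.2).sum := by
  obtain ⟨L, h1, h2, h3⟩ := exists_good hM (Nat.card Q) Q rfl hQ (rk ε) ε rfl hε hεε
  refine ⟨L, fun m hm => ?_, h2, h3⟩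
  obtain ⟨a1, a2, a3, a4, -⟩ := h1 m hm
  exact ⟨a1, a2, a3, a4⟩

/-- the same, with the additional information that the pieces lie in the corner of `ε` -/
theorem exists_local_decomp_corner [Fact p.Prime] (hM : IsPModular p M) (Q : Subgroup G)
    (hQ : IsPGroup p Q) (ε : GA G) (hε : ε ∈ fixedRing M (isPModular_isPrime hM) Q)
    (hεε : ε * ε = ε) :
    ∃ L : List (Subgroup G × GA G),
      (∀ m ∈ L, m.1 ≤ Q ∧ Prim (fixedRing M (isPModular_isPrime hM) m.1) m.2 ∧
        m.2 ∉ KBr M (isPModular_isPrime hM) m.1 ∧ (∀ x ∈ Q, x ∉ m.1 → cj x m.2 * m.2 = 0) ∧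
        Corner ε m.2) ∧
      L.Pairwise (fun m m' => rtr m.1 Q m.2 * rtr m'.1 Q m'.2 = 0 ∧
        rtr m'.1 Q m'.2 * rtr m.1 Q m.2 = 0) ∧
      ε = (L.map fun m => rtr m.1 Q m.2).sum :=
  exists_good hM (Nat.card Q) Q rfl hQ (rk ε) ε rfl hε hεε

end Cfsg.Agent.Lib.Helper2.BPR
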