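import Mathlib
import Cfsg.Agent.Lib.Lead.BrandtDefs
import Cfsg.Agent.Lib.Helper3.Brandt_A1
import Cfsg.Agent.Lib.Helper4.Brandt_A3

/-! S4607 swarm, package A2 (helper2): Brandt's lemma in abstract form, `brandt_alg`.
Uses A1 (`exists_wedderburn`, `exists_central_of_form`, helper3) and A3 (`brandt_local`, helper4). -/

set_option autoImplicit false

namespace Cfsg.Agent.Lib.Helper2.BrandtA2

open Cfsg.Agent.Lib.Lead.Brandt

section aux

variable {k : Type*} [Field k]

/-- a central idempotent matrix over a field is `0` or `1` -/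
theorem matrix_central_idem {n : ℕ} [NeZero n] (A : Matrix (Fin n) (Fin n) k)
    (hc : ∀ X, A * X = X * A) (hi : A * A = A) : A = 0 ∨ A = 1 := by
  obtain ⟨c, rfl⟩ := Matrix.mem_range_scalar_iff_commute_single'.mpr (fun i j => (hc _).symm)
  rw [← map_mul] at hi
  have hcc : c * c = c := Matrix.scalar_inj.mp hi
  have h2 : c * (c - 1) = 0 := by rw [mul_sub, hcc, mul_one, sub_self]
  rcases mul_eq_zero.mp h2 with h | h
  · left; rw [h, map_zero]
  · right; rw [sub_eq_zero.mp h, map_one]

theorem sum_single_diag (n : ℕ) : ∑ j : Fin n, Matrix.single j j (1 : k) = 1 := by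
  ext a b
  rw [Matrix.sum_apply]
  simp only [Matrix.single_apply, Matrix.one_apply]
  by_cases h : a = b
  · subst h; simp
  · rw [if_neg h]
    apply Finset.sum_eq_zero
    intro j _
    rw [if_neg]
    rintro ⟨rfl, rfl⟩
    exact h rfl

variable {L : ℕ} {d : Fin L → ℕ}

/-- the matrix unit `E_{ab}` in the component `i` of the product -/
noncomputable def EE (k : Type*) [Field k] {L : ℕ} (d : Fin L → ℕ) (i : Fin L) (a b : Fin (d i)) :
    (Π i, Matrix (Fin (d i)) (Fin (d i)) k) :=
  Pi.single i (Matrix.single a b (1 : k))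

theorem EE_mul_mul_EE (i : Fin L) (a b c e : Fin (d i))
    (Y : Π i, Matrix (Fin (d i)) (Fin (d i)) k) :
    EE k d i a b * Y * EE k d i c e = Pi.single i (Matrix.single a e (Y i b c)) := by
  unfold EE
  rw [← Pi.single_mul_left, ← Pi.single_mul, Matrix.single_mul_mul_single]
  simp

theorem EE_mul_EE (i : Fin L) (a b c : Fin (d i)) :
    EE k d i a b * EE k d i b c = EE k d i a c := by
  unfold EE
  rw [← Pi.single_mul, Matrix.single_mul_single_same, one_mul]

theorem EE_apply (i j : Fin L) (a : Fin (d i)) :
    Matrix.trace ((EE k d i a a) j) = if j = i then 1 else 0 := by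
  unfold EE
  by_cases h : j = i
  · subst h
    simp
  · simp [h]

end aux

section main

variable {k R : Type*} [Field k] [IsAlgClosed k] [Ring R] [Algebra k R] [FiniteDimensional k R]

/-- the data extracted from `exists_wedderburn` and the form lemma, packaged for the two cases -/
theorem brandt_alg_aux (t : R →ₗ[k] k) (ht : ∀ a b, t (a * b) = t (b * a))
    (hnd : ∀ a, (∀ b, t (a * b) = 0) → a = 0)
    (ε : R) (hε : IsIdempotentElem ε) (hεc : ∀ x, ε * x = x * ε) (hε0 : ε ≠ 0)
    (hZ : ∀ z : Fin 3 → R, (∀ i x, z i * x = x * z i) → (∀ i, z i * ε = z i) →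
      ¬ LinearIndependent k z) :
    ∃ e : R, IsIdempotentElem e ∧ e ≠ 0 ∧ e * ε = e ∧
      Module.finrank k ↥(corner k e) ≤ 2 := by
  classical
  obtain ⟨L, d, hd, π, hπ, N, hN⟩ := exists_wedderburn k R
  -- kernel elements are nilpotent
  have hnil : ∀ x, π x = 0 → x ^ N = 0 := by
    intro x hx
    have := hN (fun _ => x) (fun _ => hx)
    simpa [List.ofFn_const, List.prod_replicate] using this
  -- `π ε` is a central idempotent
  have hπεc : ∀ Y, π ε * Y = Y * π ε := by
    intro Y
    obtain ⟨y, rfl⟩ := hπ Y
    rw [← map_mul, ← map_mul, hεc]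
  have hπεi : π ε * π ε = π ε := by rw [← map_mul, hε.eq]
  have hcomp : ∀ i, π ε i = 0 ∨ π ε i = 1 := by
    intro i
    have : NeZero (d i) := hd i
    apply matrix_central_idem
    · intro X
      have := congrFun (hπεc (Pi.single i X)) i
      simpa using this
    · exact congrFun hπεi i
  -- lifts
  choose lift hlift using hπ
  -- the trace functionals
  let τ : Fin L → (R →ₗ[k] k) := fun i =>
    { toFun := fun x => Matrix.trace (π x i)
      map_add' := by intro x y; simp [Matrix.trace_add]
      map_smul' := by intro c x; simp [Matrix.trace_smul] }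
  have hτ : ∀ i x, τ i x = Matrix.trace (π x i) := fun i x => rfl
  have hτc : ∀ i a b, τ i (a * b) = τ i (b * a) := by
    intro i a b
    simp only [hτ, map_mul, Pi.mul_apply]
    exact Matrix.trace_mul_comm _ _
  choose z hzc hzt using fun i => exists_central_of_form t ht hnd (τ i) (hτc i)
  -- `z i` is fixed by `ε` when the component of `π ε` at `i` is `1`
  have hzε : ∀ i, π ε i = 1 → z i * ε = z i := by
    intro i hi
    have h0 : z i * (1 - ε) = 0 := by
      apply hnd
      intro b
      rw [mul_assoc, ← hzt, hτ, map_mul, map_sub, map_one, Pi.mul_apply, Pi.sub_apply,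
        Pi.one_apply, hi, sub_self, zero_mul, Matrix.trace_zero]
    rw [mul_sub, mul_one, sub_eq_zero] at h0
    exact h0.symm
  -- independence of the `z i`
  have hind : ∀ (m : ℕ) (j : Fin m → Fin L), Function.Injective j →
      LinearIndependent k (fun a => z (j a)) := by
    intro m j hj
    rw [Fintype.linearIndependent_iff]
    intro g hg b
    have : NeZero (d (j b)) := hd (j b)
    have h1 : t ((∑ a, g a • z (j a)) * lift (EE k d (j b) 0 0)) = 0 := by
      rw [hg, zero_mul, map_zero]
    rw [Finset.sum_mul, map_sum] at h1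
    have h2 : ∀ a, t (g a • z (j a) * lift (EE k d (j b) 0 0)) = if a = b then g a else 0 := by
      intro a
      rw [smul_mul_assoc, map_smul, ← hzt, hτ, hlift, EE_apply, smul_eq_mul]
      by_cases hab : a = b
      · simp [hab]
      · have : j a ≠ j b := fun h => hab (hj h)
        simp [hab, this]
    simp only [h2] at h1
    simpa using h1
  -- the index set
  let I : Finset (Fin L) := Finset.univ.filter (fun i => π ε i = 1)
  have hI : ∀ i, i ∈ I ↔ π ε i = 1 := by intro i; simp [I]
  have hInot : ∀ i, i ∉ I → π ε i = 0 := by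
    intro i hi
    rcases hcomp i with h | h
    · exact h
    · exact absurd ((hI i).mpr h) hi
  have hIne : I.Nonempty := by
    by_contra hne
    rw [Finset.not_nonempty_iff_eq_empty] at hne
    have h0 : π ε = 0 := by
      funext i
      exact hInot i (by rw [hne]; exact Finset.notMem_empty i)
    have h1 := hnil ε h0
    apply hε0
    cases N with
    | zero =>
      rw [pow_zero] at h1
      calc ε = ε * 1 := (mul_one ε).symm
        _ = 0 := by rw [h1, mul_zero]
    | succ n => rwa [hε.pow_succ_eq] at h1
  have hIcard : I.card ≤ 2 := by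
    by_contra hcard
    replace hcard : 2 < I.card := not_le.mp hcard
    obtain ⟨a, b, c, ha, hb, hc, hab, hac, hbc⟩ := Finset.two_lt_card_iff.mp hcard
    have hinj : Function.Injective ![a, b, c] := by
      intro x y hxy
      fin_cases x <;> fin_cases y
      · rfl
      · exact absurd hxy hab
      · exact absurd hxy hac
      · exact absurd hxy.symm hab
      · rfl
      · exact absurd hxy hbc
      · exact absurd hxy.symm hac
      · exact absurd hxy.symm hbc
      · rfl
    have hli := hind 3 ![a, b, c] hinj
    have heq : (fun x => z (![a, b, c] x)) = ![z a, z b, z c] := by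
      funext x; fin_cases x <;> rfl
    rw [heq] at hli
    refine hZ ![z a, z b, z c] ?_ ?_ hli
    · intro i x
      fin_cases i
      · exact hzc a x
      · exact hzc b x
      · exact hzc c x
    · intro i
      fin_cases i
      · exact hzε a ((hI a).mp ha)
      · exact hzε b ((hI b).mp hb)
      · exact hzε c ((hI c).mp hc)
  -- construction of the idempotent over a component in `I`
  have key : ∀ (i0 : Fin L) (o : Fin (d i0)), π ε i0 = 1 →
      ∃ e : R, IsIdempotentElem e ∧ e * ε = e ∧ π e = EE k d i0 o o := by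
    intro i0 o hi
    have hEid : IsIdempotentElem (EE k d i0 o o) := EE_mul_EE i0 o o o
    obtain ⟨e0, he0, hπe0⟩ := exists_isIdempotentElem_eq_of_ker_isNilpotent (π : R →+* _)
      (fun x hx => ⟨N, hnil x (by simpa [RingHom.mem_ker] using hx)⟩) (EE k d i0 o o)
      ⟨lift _, by simpa using hlift _⟩ hEid
    have hπe0' : π e0 = EE k d i0 o o := by simpa using hπe0
    refine ⟨e0 * ε, ?_, ?_, ?_⟩
    · show e0 * ε * (e0 * ε) = e0 * ε
      rw [mul_assoc, ← mul_assoc ε, hεc e0, mul_assoc, hε.eq, ← mul_assoc, he0.eq]
    · rw [mul_assoc, hε.eq]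
    · rw [map_mul, hπe0']
      unfold EE
      rw [← Pi.single_mul_left, hi, mul_one]
  have hne0 : ∀ (i0 : Fin L) (o : Fin (d i0)) (e : R), π e = EE k d i0 o o → e ≠ 0 := by
    intro i0 o e hπe he
    rw [he, map_zero] at hπe
    have := congrArg (fun Y => Matrix.trace (Y i0)) hπe
    simp [EE_apply] at this
  have hCker : ∀ (i0 : Fin L) (o : Fin (d i0)) (e : R), π e = EE k d i0 o o →
      ∀ x, π (e * x * e - (π x i0 o o) • e) = 0 := by
    intro i0 o e hπe x
    rw [map_sub, map_mul, map_mul, map_smul, hπe, EE_mul_mul_EE]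
    unfold EE
    rw [← Pi.single_smul, Matrix.smul_single, smul_eq_mul, mul_one, sub_self]
  have hpos : 0 < I.card := Finset.card_pos.mpr hIne
  have h12 : I.card = 1 ∨ I.card = 2 := by omega
  rcases h12 with h1 | h2
  · -- one component: the local case
    obtain ⟨i0, hi0⟩ := Finset.card_eq_one.mp h1
    have : NeZero (d i0) := hd i0
    have hi0I : π ε i0 = 1 := (hI i0).mp (by rw [hi0]; exact Finset.mem_singleton_self i0)
    obtain ⟨e, he, heε, hπe⟩ := key i0 0 hi0I
    refine ⟨e, he, hne0 i0 0 e hπe, heε, ?_⟩
    have hπε : π ε = Pi.single i0 1 := by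
      funext i
      by_cases h : i = i0
      · subst h; simp [hi0I]
      · rw [Pi.single_eq_of_ne h]
        exact hInot i (by rw [hi0]; simpa using h)
    apply brandt_local t ht hnd ε hε hεc hZ e he heε {x | π x = 0}
    · intro a ha b hb
      have ha' : π a = 0 := ha
      have hb' : π b = 0 := hb
      show π (a + b) = 0
      rw [map_add, ha', hb', add_zero]
    · intro a ha x
      have ha' : π a = 0 := ha
      show π (x * a) = 0
      rw [map_mul, ha', mul_zero]
    · intro a ha x
      have ha' : π a = 0 := ha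
      show π (a * x) = 0
      rw [map_mul, ha', zero_mul]
    · intro c a ha
      have ha' : π a = 0 := ha
      show π (c • a) = 0
      rw [map_smul, ha', smul_zero]
    · exact ⟨N, fun f hf => hN f hf⟩
    · intro x
      exact ⟨π x i0 0 0, hCker i0 0 e hπe x⟩
    · refine ⟨d i0, fun j => lift (EE k d i0 j 0), fun j => lift (EE k d i0 0 j), ?_⟩
      show π (ε - ∑ j, lift (EE k d i0 j 0) * e * lift (EE k d i0 0 j)) = 0
      rw [map_sub, map_sum]
      simp only [map_mul, hlift, hπe, EE_mul_EE]
      rw [hπε, sub_eq_zero]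
      funext i
      by_cases h : i = i0
      · subst h
        rw [Finset.sum_apply]
        simp only [EE, Pi.single_eq_same]
        exact (sum_single_diag (d i)).symm
      · rw [Finset.sum_apply, Pi.single_eq_of_ne h]
        symm
        apply Finset.sum_eq_zero
        intro j _
        simp [EE, Pi.single_eq_of_ne h]
  · -- two components: `ε` kills the radical
    obtain ⟨i1, i2, hne12, hI12⟩ := Finset.card_eq_two.mp h2
    have : NeZero (d i1) := hd i1
    have hi1 : π ε i1 = 1 := (hI i1).mp (by rw [hI12]; simp)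
    have hi2 : π ε i2 = 1 := (hI i2).mp (by rw [hI12]; simp)
    obtain ⟨e, he, heε, hπe⟩ := key i1 0 hi1
    have hene : e ≠ 0 := hne0 i1 0 e hπe
    refine ⟨e, he, hene, heε, ?_⟩
    have hdep : ¬ LinearIndependent k ![ε, z i1, z i2] := by
      apply hZ
      · intro i x
        fin_cases i
        · exact hεc x
        · exact hzc i1 x
        · exact hzc i2 x
      · intro i
        fin_cases i
        · exact hε.eq
        · exact hzε i1 hi1
        · exact hzε i2 hi2
    rw [Fintype.not_linearIndependent_iff] at hdep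
    obtain ⟨g, hg, a0, ha0⟩ := hdep
    rw [Fin.sum_univ_three] at hg
    have hg' : g 0 • ε + g 1 • z i1 + g 2 • z i2 = 0 := hg
    have hinj2 : Function.Injective ![i1, i2] := by
      intro x y hxy
      fin_cases x <;> fin_cases y
      · rfl
      · exact absurd hxy hne12
      · exact absurd hxy.symm hne12
      · rfl
    have hli := hind 2 ![i1, i2] hinj2
    rw [Fintype.linearIndependent_iff] at hli
    have hg0 : g 0 ≠ 0 := by
      intro h0
      rw [h0, zero_smul, zero_add] at hg'
      have h3 := hli ![g 1, g 2] (by rw [Fin.sum_univ_two]; exact hg')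
      have h31 : g 1 = 0 := h3 0
      have h32 : g 2 = 0 := h3 1
      fin_cases a0
      · exact ha0 h0
      · exact ha0 h31
      · exact ha0 h32
    have hεJ : ∀ a, π a = 0 → ε * a = 0 := by
      intro a ha
      have h4 : g 0 • (ε * a) = 0 := by
        apply hnd
        intro b
        have hab : π (a * b) = 0 := by rw [map_mul, ha, zero_mul]
        have e1 : g 0 • ε = -(g 1 • z i1) - g 2 • z i2 := by
          rw [eq_sub_iff_add_eq, eq_neg_iff_add_eq_zero, add_right_comm]
          exact hg'
        have e2 : ∀ i, t (z i * (a * b)) = 0 := by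
          intro i
          rw [← hzt, hτ, hab, Pi.zero_apply, Matrix.trace_zero]
        calc t (g 0 • (ε * a) * b) = t ((g 0 • ε) * (a * b)) := by
              rw [smul_mul_assoc, smul_mul_assoc, mul_assoc]
          _ = t ((-(g 1 • z i1) - g 2 • z i2) * (a * b)) := by rw [e1]
          _ = -(g 1 * t (z i1 * (a * b))) - g 2 * t (z i2 * (a * b)) := by
              rw [sub_mul, neg_mul, map_sub, map_neg, smul_mul_assoc, smul_mul_assoc, map_smul,
                map_smul, smul_eq_mul, smul_eq_mul]
          _ = 0 := by rw [e2, e2]; simp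
      rcases smul_eq_zero.mp h4 with h | h
      · exact absurd h hg0
      · exact h
    have hcorner : corner k e ≤ Submodule.span k {e} := by
      intro y hy
      obtain ⟨x, rfl⟩ := (mem_corner e y).mp hy
      have hw := hCker i1 0 e hπe x
      have hεe : ε * e = e := by rw [hεc e, heε]
      have hw2 : ε * (e * x * e - (π x i1 0 0) • e) = e * x * e - (π x i1 0 0) • e := by
        rw [mul_sub, mul_smul_comm, ← mul_assoc, ← mul_assoc, hεe]
      have hw0 := hεJ _ hw
      rw [hw2, sub_eq_zero] at hw0
      rw [hw0]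
      exact Submodule.smul_mem _ _ (Submodule.mem_span_singleton_self e)
    calc Module.finrank k ↥(corner k e)
        ≤ Module.finrank k ↥(Submodule.span k {e}) := Submodule.finrank_mono hcorner
      _ = 1 := finrank_span_singleton hene
      _ ≤ 2 := by norm_num

end main

end Cfsg.Agent.Lib.Helper2.BrandtA2

namespace Cfsg.Agent.Lib.Lead.Brandt

/-- A2 (main): **Brandt's lemma, abstract form.** -/
theorem brandt_alg {k R : Type*} [Field k] [IsAlgClosed k] [Ring R] [Algebra k R]
    [FiniteDimensional k R] (t : R →ₗ[k] k) (ht : ∀ a b, t (a * b) = t (b * a))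
    (hnd : ∀ a, (∀ b, t (a * b) = 0) → a = 0)
    (ε : R) (hε : IsIdempotentElem ε) (hεc : ∀ x, ε * x = x * ε) (hε0 : ε ≠ 0)
    (hZ : ∀ z : Fin 3 → R, (∀ i x, z i * x = x * z i) → (∀ i, z i * ε = z i) →
      ¬ LinearIndependent k z) :
    ∃ e : R, IsIdempotentElem e ∧ e ≠ 0 ∧ e * ε = e ∧
      Module.finrank k ↥(corner k e) ≤ 2 :=
  Cfsg.Agent.Lib.Helper2.BrandtA2.brandt_alg_aux t ht hnd ε hε hεc hε0 hZ

end Cfsg.Agent.Lib.Lead.Brandt
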