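import Mathlib
import Cfsg.Agent.Lib.Helper2.BrauerInd
import Cfsg.Agent.S0146

set_option autoImplicit false

/-! Brauer's characterization of characters, additive-subgroup version: if the inner products of a class
function with the linear characters of the elementary subgroups lie in an additive subgroup `S` of `ℂ`,
so do its inner products with all characters. -/

namespace Cfsg.Agent.Lib.Helper2.BrauerAdd

open Cfsg Cfsg.Agent.Lib.Helper2.BrauerInd
open scoped ComplexConjugate

universe u

variable {G : Type u} [Group G] [Fintype G]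

theorem classInner_add_right (θ f g : G → ℂ) :
    Cfsg.classInner θ (f + g) = Cfsg.classInner θ f + Cfsg.classInner θ g := by
  unfold Cfsg.classInner
  rw [← mul_add, ← Finset.sum_add_distrib]
  congr 1
  apply Finset.sum_congr rfl
  intro x _
  rw [Pi.add_apply, map_add, mul_add]

theorem classInner_neg_right (θ f : G → ℂ) :
    Cfsg.classInner θ (-f) = -Cfsg.classInner θ f := by
  unfold Cfsg.classInner
  rw [← mul_neg, ← Finset.sum_neg_distrib]
  congr 1
  apply Finset.sum_congr rfl
  intro x _
  rw [Pi.neg_apply, map_neg, mul_neg]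

theorem classInner_zero_right (θ : G → ℂ) : Cfsg.classInner θ (0 : G → ℂ) = 0 := by
  unfold Cfsg.classInner
  simp

theorem classInner_conj_symm (φ ψ : G → ℂ) :
    Cfsg.classInner φ ψ = conj (Cfsg.classInner ψ φ) := by
  unfold Cfsg.classInner
  rw [map_mul, map_inv₀, Complex.conj_natCast, map_sum]
  congr 1
  apply Finset.sum_congr rfl
  intro x _
  rw [map_mul, Complex.conj_conj, mul_comm]

/-- Brauer's characterization, additive-subgroup version. -/
theorem classInner_mem_of_elementary (S : AddSubgroup ℂ)
    (θ : G → ℂ) (hθ : Cfsg.IsClassFunction G θ)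
    (h : ∀ (E : Subgroup G) (lam : E →* ℂˣ), (∃ p : ℕ, p.Prime ∧ Cfsg.IsElementary p E) →
      (Nat.card E : ℂ)⁻¹ * ∑ᶠ x : E, θ (x : G) * conj ((lam x : ℂˣ) : ℂ) ∈ S)
    (χ : G → ℂ) (hχ : Cfsg.IsCharacter G χ) : Cfsg.classInner θ χ ∈ S := by
  classical
  have hmem := char_mem_linSpan hχ
  unfold linSpan at hmem
  clear hχ
  induction hmem using AddSubgroup.closure_induction with
  | mem f hf =>
    obtain ⟨E, lam, hE, rfl⟩ := hf
    haveI : Fintype E := Fintype.ofFinite E
    have h1 := Cfsg.Agent.S0146.result E (fun e => ((lam e : ℂˣ) : ℂ)) θ hθ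
    rw [classInner_conj_symm, h1, ← classInner_conj_symm]
    have h2 := h E lam hE
    rw [finsum_eq_sum_of_fintype] at h2
    unfold Cfsg.classInner
    convert h2 using 3
  | zero => rw [classInner_zero_right]; exact S.zero_mem
  | add x y _ _ hx hy => rw [classInner_add_right]; exact S.add_mem hx hy
  | neg x _ hx => rw [classInner_neg_right]; exact S.neg_mem hx

end Cfsg.Agent.Lib.Helper2.BrauerAdd
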