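import Mathlib
import Cfsg.Prelude
import Cfsg.Agent.Lib.Helper2.PiSection
import Cfsg.Agent.Lib.Helper1.CharFound5
import Cfsg.Agent.Lib.Helper8.CharKernel
import Cfsg.Agent.S0164

set_option autoImplicit false

/-! The Brauer–Suzuki theorem on normal complements of Hall subgroups (Isaacs, Theorem 8.22). -/

namespace Cfsg.Agent.Lib.Helper2.BrauerSuzuki

open Cfsg Cfsg.Agent.Lib.Helper1 Cfsg.Agent.Lib.Helper4 Cfsg.Agent.Lib.Helper2.BrauerInd
  Cfsg.Agent.Lib.Helper2.BrauerLocal Cfsg.Agent.Lib.Helper2.PiSection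
open scoped ComplexConjugate

universe u

section Pow

variable {G : Type u} [Group G] [Finite G]

/-- In a nilpotent subgroup the `π`-part map is an endomorphism. -/
theorem exists_powHom (m n k : ℕ) (hmn : Nat.card G = m * n) (hcop : m.Coprime n)
    (hk0 : k ≡ 0 [MOD m]) (hk1 : k ≡ 1 [MOD n]) (E : Subgroup G) (hnil : Group.IsNilpotent E) :
    ∃ f : E →* E, ∀ e : E, f e = e ^ k := by
  have hEG : Nat.card E ∣ m * n := hmn ▸ Subgroup.card_subgroup_dvd_card E
  have hsyl : ∀ (q : ℕ) (_ : Fact q.Prime) (P : Sylow q E),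
      (∀ x ∈ (P : Subgroup E), x ^ k = 1) ∨ (∀ x ∈ (P : Subgroup E), x ^ k = x) := by
    intro q hq P
    obtain ⟨j, hj⟩ := P.2.exists_card_eq
    have hPd : q ^ j ∣ m * n := by
      rw [← hj]
      exact (Subgroup.card_subgroup_dvd_card (P : Subgroup E)).trans hEG
    by_cases hqm : q ∣ m
    · left
      intro x hx
      have h1 : (q ^ j).Coprime n :=
        Nat.Coprime.pow_left j (Nat.Coprime.coprime_dvd_left hqm hcop)
      have h2 : q ^ j ∣ m := h1.dvd_of_dvd_mul_right hPd
      apply pow_eq_one_of_dvd hk0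
      exact ((Subgroup.orderOf_dvd_natCard _ hx).trans (hj ▸ dvd_rfl)).trans h2
    · right
      intro x hx
      have h1 : (q ^ j).Coprime m :=
        Nat.Coprime.pow_left j ((Nat.Prime.coprime_iff_not_dvd hq.out).2 hqm)
      have h2 : q ^ j ∣ n := h1.dvd_of_dvd_mul_left hPd
      apply pow_eq_self_of_dvd hk1
      exact ((Subgroup.orderOf_dvd_natCard _ hx).trans (hj ▸ dvd_rfl)).trans h2
  exact ⟨{ toFun := fun x => x ^ k
           map_one' := one_pow k
           map_mul' := mul_pow_of_sylow hnil k hsyl }, fun _ => rfl⟩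

/-- A subgroup all of whose elements are killed by `n` has order dividing `n`. -/
theorem card_dvd_of_forall_pow (m n : ℕ) (hmn : Nat.card G = m * n) (hcop : m.Coprime n)
    (B : Subgroup G) (hB : ∀ b ∈ B, b ^ n = 1) : Nat.card B ∣ n := by
  have hBcop : (Nat.card B).Coprime m := by
    apply Nat.coprime_of_dvd
    intro q hq hqB hqm
    haveI : Fact q.Prime := ⟨hq⟩
    obtain ⟨b, hb⟩ := exists_prime_orderOf_dvd_card' q hqB
    have h0 : (b : G) ^ n = 1 := hB b b.2
    have h0' : b ^ n = 1 := Subtype.ext (by rw [Subgroup.coe_pow, h0, Subgroup.coe_one])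
    have h1 : q ∣ n := hb ▸ orderOf_dvd_of_pow_eq_one h0'
    have h2 : q ∣ Nat.gcd m n := Nat.dvd_gcd hqm h1
    rw [hcop] at h2
    exact hq.one_lt.ne' (Nat.dvd_one.1 h2)
  apply hBcop.dvd_of_dvd_mul_left
  exact hmn ▸ Subgroup.card_subgroup_dvd_card B

theorem pow_pow_eq_one (m n k : ℕ) (hmn : Nat.card G = m * n) (hk0 : k ≡ 0 [MOD m]) (x : G) :
    (x ^ k) ^ n = 1 := by
  rw [← pow_mul]
  apply orderOf_dvd_iff_pow_eq_one.1
  exact (hmn ▸ orderOf_dvd_natCard x).trans
    (Nat.mul_dvd_mul_right ((Nat.modEq_zero_iff_dvd).1 hk0) n)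

/-- cyclic groups are elementary (for a large prime). -/
theorem exists_isElementary_zpowers (w : G) :
    ∃ p : ℕ, p.Prime ∧ Cfsg.IsElementary p (Subgroup.zpowers w) := by
  obtain ⟨p, hple, hp⟩ := Nat.exists_infinite_primes (orderOf w + 1)
  refine ⟨p, hp, ⟨w, Subgroup.mem_zpowers w⟩, ?_, ?_, 0, ?_⟩
  · rw [Subgroup.mem_center_iff]
    intro y
    obtain ⟨y, i, rfl⟩ := y
    apply Subtype.ext
    simp only [Subgroup.coe_mul]
    exact ((Commute.refl w).zpow_right i).symm.eq
  · have h1 : orderOf (⟨w, Subgroup.mem_zpowers w⟩ : Subgroup.zpowers w) = orderOf w := by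
      rw [← Subgroup.orderOf_coe]
    rw [h1]
    apply Nat.Coprime.symm
    rw [Nat.Prime.coprime_iff_not_dvd hp]
    exact Nat.not_dvd_of_pos_of_lt (orderOf_pos w) (by omega)
  · rw [pow_zero, Subgroup.index_eq_one]
    rw [eq_top_iff]
    rintro ⟨y, i, rfl⟩ -
    rw [Subgroup.mem_zpowers_iff]
    exact ⟨i, Subtype.ext (by simp)⟩

end Pow

section Tilde

variable {G : Type u} [Group G] [Finite G]

/-- The hypotheses of the Brauer–Suzuki theorem, with the `π`-part map `x ↦ x ^ k`. -/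
structure Setup (H : Subgroup G) (k : ℕ) : Prop where
  cop : H.index.Coprime (Nat.card H)
  k0 : k ≡ 0 [MOD H.index]
  k1 : k ≡ 1 [MOD Nat.card H]
  fus : ∀ x ∈ H, ∀ y ∈ H, IsConj x y → ∃ h ∈ H, h * x * h⁻¹ = y
  elem : ∀ (E : Subgroup G) (p : ℕ), p.Prime → Cfsg.IsElementary p E → Nat.card E ∣ Nat.card H →
    ∃ g : G, E.map (MulAut.conj g).toMonoidHom ≤ H

variable {H : Subgroup G} {k : ℕ}

theorem Setup.card_eq (_S : Setup H k) : Nat.card G = H.index * Nat.card H :=
  (Subgroup.index_mul_card H).symm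

theorem Setup.exists_conj (S : Setup H k) (x : G) : ∃ h : H, IsConj (x ^ k) (h : G) := by
  obtain ⟨p, hp, hE⟩ := exists_isElementary_zpowers (x ^ k)
  have hd : Nat.card (Subgroup.zpowers (x ^ k)) ∣ Nat.card H := by
    rw [Nat.card_zpowers]
    exact orderOf_dvd_of_pow_eq_one (pow_pow_eq_one _ _ k S.card_eq S.k0 x)
  obtain ⟨g, hg⟩ := S.elem _ p hp hE hd
  have h1 : g * x ^ k * g⁻¹ ∈ H := by
    apply hg
    exact ⟨x ^ k, Subgroup.mem_zpowers _, rfl⟩
  exact ⟨⟨_, h1⟩, isConj_iff.2 ⟨g, rfl⟩⟩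

theorem Setup.pow_eq_self (S : Setup H k) {h : G} (hh : h ∈ H) : h ^ k = h :=
  pow_eq_self_of_dvd S.k1 (Subgroup.orderOf_dvd_natCard H hh)

/-- a choice of an element of `H` conjugate to the `π`-part of `x`. -/
noncomputable def Setup.tau (S : Setup H k) (x : G) : H := Classical.choose (S.exists_conj x)

theorem Setup.tau_spec (S : Setup H k) (x : G) : IsConj (x ^ k) (S.tau x : G) :=
  Classical.choose_spec (S.exists_conj x)

/-- the value of a class function of `H` at `tau x` does not depend on choices. -/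
theorem Setup.apply_tau (S : Setup H k) {ψ : H → ℂ} (hψ : Cfsg.IsClassFunction H ψ) (x : G)
    (h : H) (hx : IsConj (x ^ k) (h : G)) : ψ (S.tau x) = ψ h := by
  have h1 : IsConj (h : G) (S.tau x : G) := hx.symm.trans (S.tau_spec x)
  obtain ⟨u, hu, hu'⟩ := S.fus _ h.2 _ (S.tau x).2 h1
  have h2 : S.tau x = (⟨u, hu⟩ : H) * h * (⟨u, hu⟩ : H)⁻¹ := by
    apply Subtype.ext
    simp only [Subgroup.coe_mul, Subgroup.coe_inv]
    exact hu'.symm
  rw [h2]
  exact hψ _ _

theorem Setup.tau_one (S : Setup H k) : S.tau 1 = 1 := by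
  have h1 := S.tau_spec 1
  rw [one_pow, isConj_one_right] at h1
  exact Subtype.ext h1

/-- two elements of `H` conjugate in `G` are conjugate in `H` -/
theorem Setup.exists_conj_tau (S : Setup H k) (h : H) : ∃ u : H, u * h * u⁻¹ = S.tau (h : G) := by
  have h1 := S.tau_spec (h : G)
  rw [S.pow_eq_self h.2] at h1
  obtain ⟨u, hu, hu'⟩ := S.fus _ h.2 _ (S.tau (h : G)).2 h1
  refine ⟨⟨u, hu⟩, ?_⟩
  apply Subtype.ext
  simp only [Subgroup.coe_mul, Subgroup.coe_inv]
  exact hu'

/-- the extension of a class function of `H` to `G`. -/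
noncomputable def Setup.tilde (S : Setup H k) (ψ : H → ℂ) : G → ℂ := fun x => ψ (S.tau x)

theorem Setup.tilde_apply (S : Setup H k) (ψ : H → ℂ) (x : G) : S.tilde ψ x = ψ (S.tau x) := rfl

theorem Setup.tilde_isClassFunction (S : Setup H k) {ψ : H → ℂ} (hψ : Cfsg.IsClassFunction H ψ) :
    Cfsg.IsClassFunction G (S.tilde ψ) := by
  intro x g
  show ψ (S.tau (g * x * g⁻¹)) = ψ (S.tau x)
  apply S.apply_tau hψ
  rw [conj_pow]
  exact (isConj_iff.2 ⟨g⁻¹, by group⟩ : IsConj (g * x ^ k * g⁻¹) (x ^ k)).trans (S.tau_spec x)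

theorem Setup.tilde_coe (S : Setup H k) {ψ : H → ℂ} (hψ : Cfsg.IsClassFunction H ψ) (h : H) :
    S.tilde ψ (h : G) = ψ h := by
  apply S.apply_tau hψ
  rw [S.pow_eq_self h.2]

theorem Setup.tilde_one (S : Setup H k) (ψ : H → ℂ) : S.tilde ψ 1 = ψ 1 := by
  show ψ (S.tau 1) = ψ 1
  rw [S.tau_one]

/-- the extension of a character of `H` is a generalized character of `G`. -/
theorem Setup.tilde_isGenChar (S : Setup H k) {ψ : H → ℂ} (hψ : Cfsg.IsCharacter H ψ) :
    Cfsg.IsGeneralizedCharacter G (S.tilde ψ) := by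
  classical
  have hψc := isClassFunction_of_isCharacter hψ
  apply Cfsg.Agent.S0164.result _ (S.tilde_isClassFunction hψc)
  intro E p hp hE
  haveI : Fact p.Prime := ⟨hp⟩
  have hnil : Group.IsNilpotent E := isNilpotent_of_isElementary hE
  obtain ⟨f, hf⟩ := exists_powHom _ _ k S.card_eq S.cop S.k0 S.k1 E hnil
  let B : Subgroup E := f.range
  let B' : Subgroup G := B.map E.subtype
  have hB'el : Cfsg.IsElementary p B' :=
    isElementary_of_mulEquiv (B.equivMapOfInjective E.subtype E.subtype_injective)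
      (isElementary_subgroup hp hE B)
  have hB'pow : ∀ b ∈ B', b ^ (Nat.card H) = 1 := by
    rintro b ⟨e, ⟨e', rfl⟩, rfl⟩
    show ((f e' : E) : G) ^ (Nat.card H) = 1
    rw [hf, Subgroup.coe_pow]
    exact pow_pow_eq_one _ _ k S.card_eq S.k0 _
  have hB'd : Nat.card B' ∣ Nat.card H := card_dvd_of_forall_pow _ _ S.card_eq S.cop B' hB'pow
  obtain ⟨g, hg⟩ := S.elem B' p hp hB'el hB'd
  have hmem : ∀ e : E, g * (e : G) ^ k * g⁻¹ ∈ H := by
    intro e
    apply hg
    refine ⟨(e : G) ^ k, ⟨f e, ⟨e, rfl⟩, ?_⟩, rfl⟩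
    show ((f e : E) : G) = (e : G) ^ k
    rw [hf, Subgroup.coe_pow]
  let φ0 : E →* G := (MulAut.conj g).toMonoidHom.comp (E.subtype.comp f)
  have hφ0 : ∀ e : E, φ0 e = g * (e : G) ^ k * g⁻¹ := by
    intro e
    show g * ((f e : E) : G) * g⁻¹ = _
    rw [hf, Subgroup.coe_pow]
  let φ : E →* H := φ0.codRestrict H (fun e => by rw [hφ0]; exact hmem e)
  have h1 : (fun e : E => S.tilde ψ (e : G)) = fun e => ψ (φ e) := by
    funext e
    apply S.apply_tau hψc
    have h2 : ((φ e : H) : G) = g * (e : G) ^ k * g⁻¹ := hφ0 e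
    rw [h2]
    exact isConj_iff.2 ⟨g, rfl⟩
  rw [h1]
  exact isGenChar_of_isCharacter (isCharacter_comp_hom hψ φ)

end Tilde

section Count

variable {X : Type u} [Group X] [Fintype X] [DecidableEq X]

/-- the number of elements conjugating `h` to `y`. -/
def cnt (h y : X) : ℕ := ∑ u : X, if u * h * u⁻¹ = y then 1 else 0

theorem cnt_cast (h y : X) : ((cnt h y : ℕ) : ℂ) = ∑ u : X, if u * h * u⁻¹ = y then (1 : ℂ) else 0 := by
  unfold cnt
  push_cast
  rfl

theorem sum_cnt_right (F : X → ℂ) (h : X) :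
    ∑ y : X, (cnt h y : ℂ) * F y = ∑ u : X, F (u * h * u⁻¹) := by
  simp only [cnt_cast, Finset.sum_mul]
  rw [Finset.sum_comm]
  refine Finset.sum_congr rfl fun u _ => ?_
  simp only [ite_mul, one_mul, zero_mul]
  rw [Finset.sum_ite_eq]
  simp

theorem sum_cnt_left (F : X → ℂ) (y : X) :
    ∑ h : X, F h * (cnt h y : ℂ) = ∑ u : X, F (u⁻¹ * y * u) := by
  simp only [cnt_cast, Finset.mul_sum]
  rw [Finset.sum_comm]
  refine Finset.sum_congr rfl fun u _ => ?_
  have h1 : ∀ h : X, (u * h * u⁻¹ = y) ↔ (h = u⁻¹ * y * u) := by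
    intro h
    constructor
    · intro h2; rw [← h2]; group
    · intro h2; rw [h2]; group
  simp only [h1, mul_ite, mul_one, mul_zero]
  rw [Finset.sum_ite_eq']
  simp

theorem sum_cnt_right_of_classFunction {F : X → ℂ} (hF : Cfsg.IsClassFunction X F) (h : X) :
    ∑ y : X, (cnt h y : ℂ) * F y = (Nat.card X : ℂ) * F h := by
  rw [sum_cnt_right, Finset.sum_congr rfl (fun u _ => hF h u), Finset.sum_const, Finset.card_univ,
    nsmul_eq_mul, Nat.card_eq_fintype_card]

theorem sum_cnt_left_of_classFunction {F : X → ℂ} (hF : Cfsg.IsClassFunction X F) (y : X) :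
    ∑ h : X, F h * (cnt h y : ℂ) = (Nat.card X : ℂ) * F y := by
  rw [sum_cnt_left]
  have h1 : ∀ u : X, F (u⁻¹ * y * u) = F y := by
    intro u
    have := hF y u⁻¹
    rw [inv_inv] at this
    exact this
  rw [Finset.sum_congr rfl (fun u _ => h1 u), Finset.sum_const, Finset.card_univ,
    nsmul_eq_mul, Nat.card_eq_fintype_card]

theorem cnt_isClassFunction (h : X) : Cfsg.IsClassFunction X (fun y => (cnt h y : ℂ)) := by
  intro y v
  show ((cnt h (v * y * v⁻¹) : ℕ) : ℂ) = (cnt h y : ℂ)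
  congr 1
  unfold cnt
  apply Fintype.sum_equiv (Equiv.mulLeft v⁻¹)
  intro u
  have h1 : (u * h * u⁻¹ = v * y * v⁻¹) ↔ ((Equiv.mulLeft v⁻¹) u * h * ((Equiv.mulLeft v⁻¹) u)⁻¹ = y) := by
    rw [Equiv.coe_mulLeft]
    constructor
    · intro h2
      have : v⁻¹ * u * h * (v⁻¹ * u)⁻¹ = v⁻¹ * (u * h * u⁻¹) * v := by group
      rw [this, h2]; group
    · intro h2
      rw [← h2]; group
  rw [if_congr h1 rfl rfl]

theorem sum_cnt_nat (y : X) : ∑ h : X, cnt h y = Nat.card X := by
  have h1 := sum_cnt_left (fun _ => (1 : ℂ)) y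
  simp only [one_mul, Finset.sum_const, Finset.card_univ, nsmul_eq_mul, mul_one] at h1
  rw [Nat.card_eq_fintype_card]
  exact_mod_cast h1

end Count

section Main

variable {G : Type u} [Group G] [Fintype G] {H : Subgroup G} {k : ℕ} [Fintype H] [DecidableEq H]

/-- the weighted size of the section of `h`. -/
noncomputable def Setup.secCount (S : Setup H k) (h : H) : ℕ := ∑ x : G, cnt h (S.tau x)

theorem Setup.secCount_div_mem (S : Setup H k) (h : H) :
    ((S.secCount h : ℂ) / (Nat.card G : ℂ)) ∈ Cfsg.AlgInt := by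
  classical
  haveI : Fintype (Cfsg.IrrCharacter H) := Fintype.ofFinite _
  have hG0 : (Nat.card G : ℂ) ≠ 0 := Nat.cast_ne_zero.2 Nat.card_pos.ne'
  have hH0 : (Nat.card H : ℂ) ≠ 0 := Nat.cast_ne_zero.2 Nat.card_pos.ne'
  have hexp := class_function_expansion (fun y => (cnt h y : ℂ)) (cnt_isClassFunction h)
  have hco : ∀ ψ : Cfsg.IrrCharacter H,
      Cfsg.classInner (fun y => (cnt h y : ℂ)) ψ = conj ((ψ : H → ℂ) h) := by
    intro ψ
    have hcf : Cfsg.IsClassFunction H (fun y => conj ((ψ : H → ℂ) y)) := by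
      intro y v
      show conj ((ψ : H → ℂ) (v * y * v⁻¹)) = conj ((ψ : H → ℂ) y)
      rw [isClassFunction_irr ψ.2 y v]
    rw [classInner_def, sum_cnt_right_of_classFunction hcf h]
    field_simp
  have hz : ∀ ψ : Cfsg.IrrCharacter H, ∃ z : ℤ,
      Cfsg.classInner (S.tilde ψ) (fun _ : G => (1 : ℂ)) = z := fun ψ =>
    classInner_genChar_int (S.tilde_isGenChar (isCharacter_of_irr ψ.2))
      (isGenChar_of_irr Cfsg.Agent.S0161.isIrrCharacter_one)
  choose z hz using hz
  have hsumx : ∀ ψ : Cfsg.IrrCharacter H, ∑ x : G, S.tilde ψ x = (Nat.card G : ℂ) * z ψ := by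
    intro ψ
    rw [← hz ψ, classInner_def]
    simp only [map_one, mul_one]
    field_simp
  have hx : ∀ x : G, (cnt h (S.tau x) : ℂ)
      = ∑ ψ : Cfsg.IrrCharacter H, conj ((ψ : H → ℂ) h) * S.tilde ψ x := by
    intro x
    have h1 := congrFun hexp (S.tau x)
    rw [Finset.sum_apply] at h1
    rw [h1]
    refine Finset.sum_congr rfl fun ψ _ => ?_
    rw [Pi.smul_apply, smul_eq_mul, hco ψ]
    rfl
  have key : (S.secCount h : ℂ) / (Nat.card G : ℂ)
      = ∑ ψ : Cfsg.IrrCharacter H, conj ((ψ : H → ℂ) h) * z ψ := by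
    unfold Setup.secCount
    push_cast
    simp only [hx]
    rw [Finset.sum_comm]
    simp only [← Finset.mul_sum, hsumx]
    rw [Finset.sum_div]
    refine Finset.sum_congr rfl fun ψ _ => ?_
    field_simp
  rw [key]
  apply Subalgebra.sum_mem
  intro ψ _
  apply Subalgebra.mul_mem
  · exact algInt_conj (algInt_char (isCharacter_of_irr ψ.2) h)
  · exact Subalgebra.intCast_mem _ _

theorem Setup.secCount_pos (S : Setup H k) (h : H) : 0 < S.secCount h := by
  classical
  obtain ⟨u, hu⟩ := S.exists_conj_tau h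
  unfold Setup.secCount
  apply lt_of_lt_of_le _ (Finset.single_le_sum (f := fun x : G => cnt h (S.tau x))
    (fun _ _ => Nat.zero_le _) (Finset.mem_univ (h : G)))
  unfold cnt
  apply lt_of_lt_of_le _ (Finset.single_le_sum
    (f := fun v : H => if v * h * v⁻¹ = S.tau (h : G) then 1 else 0)
    (fun _ _ => Nat.zero_le _) (Finset.mem_univ u))
  rw [if_pos hu]
  exact Nat.one_pos

theorem Setup.secCount_eq (S : Setup H k) (h : H) : S.secCount h = Nat.card G := by
  classical
  have hle : ∀ h' ∈ (Finset.univ : Finset H), Nat.card G ≤ S.secCount h' := by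
    intro h' _
    have hd : Nat.card G ∣ S.secCount h' :=
      nat_dvd_of_isIntegral_div _ _ Nat.card_pos.ne' (S.secCount_div_mem h')
    exact Nat.le_of_dvd (S.secCount_pos h') hd
  have hsum : ∑ h' : H, Nat.card G = ∑ h' : H, S.secCount h' := by
    unfold Setup.secCount
    rw [Finset.sum_comm]
    simp only [sum_cnt_nat]
    simp only [Finset.sum_const, Finset.card_univ, smul_eq_mul, Nat.card_eq_fintype_card]
    ring
  exact ((Finset.sum_eq_sum_iff_of_le hle).1 hsum h (Finset.mem_univ h)).symm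

/-- averaging over `G` of an extended class function. -/
theorem Setup.sum_tilde (S : Setup H k) {F : H → ℂ} (hF : Cfsg.IsClassFunction H F) :
    (Nat.card H : ℂ) * ∑ x : G, S.tilde F x = (Nat.card G : ℂ) * ∑ h : H, F h := by
  classical
  rw [Finset.mul_sum]
  have h1 : ∀ x : G, (Nat.card H : ℂ) * S.tilde F x = ∑ h : H, F h * (cnt h (S.tau x) : ℂ) := by
    intro x
    rw [sum_cnt_left_of_classFunction hF]
    rfl
  simp only [h1]
  rw [Finset.sum_comm, Finset.mul_sum]
  refine Finset.sum_congr rfl fun h _ => ?_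
  rw [← Finset.mul_sum, mul_comm]
  congr 1
  have h2 := S.secCount_eq h
  unfold Setup.secCount at h2
  exact_mod_cast h2

theorem Setup.classInner_tilde (S : Setup H k) {ψ φ : H → ℂ} (hψ : Cfsg.IsClassFunction H ψ)
    (hφ : Cfsg.IsClassFunction H φ) :
    Cfsg.classInner (S.tilde ψ) (S.tilde φ) = Cfsg.classInner ψ φ := by
  classical
  have hG0 : (Nat.card G : ℂ) ≠ 0 := Nat.cast_ne_zero.2 Nat.card_pos.ne'
  have hH0 : (Nat.card H : ℂ) ≠ 0 := Nat.cast_ne_zero.2 Nat.card_pos.ne'
  have hF : Cfsg.IsClassFunction H (fun y => ψ y * conj (φ y)) := by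
    intro y v
    show ψ (v * y * v⁻¹) * conj (φ (v * y * v⁻¹)) = ψ y * conj (φ y)
    rw [hψ y v, hφ y v]
  have h1 := S.sum_tilde hF
  rw [classInner_def, classInner_def]
  have h2 : ∑ g : G, S.tilde ψ g * conj (S.tilde φ g) = ∑ x : G, S.tilde (fun y => ψ y * conj (φ y)) x :=
    rfl
  rw [h2]
  field_simp
  linear_combination h1

/-- the extension of an irreducible character of `H` is an irreducible character of `G`. -/
theorem Setup.tilde_isIrr (S : Setup H k) {ψ : H → ℂ} (hψ : Cfsg.IsIrrCharacter H ψ) :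
    Cfsg.IsIrrCharacter G (S.tilde ψ) := by
  have hcf := isClassFunction_irr hψ
  have h1 : Cfsg.classInner (S.tilde ψ) (S.tilde ψ) = 1 := by
    rw [S.classInner_tilde hcf hcf, classInner_irr_self hψ]
  obtain ⟨χ, hχ, h2 | h2⟩ := genChar_norm_one (S.tilde_isGenChar (isCharacter_of_irr hψ)) h1
  · rw [h2]; exact hχ
  · exfalso
    have h3 := congrFun h2 1
    rw [S.tilde_one, Pi.neg_apply] at h3
    obtain ⟨a, ha, ha'⟩ := irr_apply_one_pos hψ
    obtain ⟨b, hb, hb'⟩ := irr_apply_one_pos hχ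
    rw [ha', hb'] at h3
    have h6 : ((a + b : ℕ) : ℂ) = 0 := by
      push_cast
      rw [h3]; ring
    have h7 : a + b = 0 := by exact_mod_cast h6
    omega

/-- an element of a finite group on which every irreducible character takes its degree is trivial. -/
theorem eq_one_of_forall_irr {X : Type u} [Group X] [Fintype X] (h : X)
    (hh : ∀ ψ : Cfsg.IrrCharacter X, (ψ : X → ℂ) h = (ψ : X → ℂ) 1) : h = 1 := by
  classical
  haveI : Fintype (Cfsg.IrrCharacter X) := Fintype.ofFinite _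
  have h1 := column_orthogonality (G := X) 1 h
  have h2 := column_orthogonality (G := X) 1 1
  simp only [hh] at h1
  rw [h2] at h1
  have hC0 : (Nat.card (Subgroup.centralizer ({(1 : X)} : Set X)) : ℂ) ≠ 0 :=
    Nat.cast_ne_zero.2 Nat.card_pos.ne'
  have h3 := mul_left_cancel₀ hC0 h1
  unfold classIndicator at h3
  rw [if_pos (IsConj.refl 1)] at h3
  by_contra hne
  rw [if_neg (fun hc => hne (isConj_one_right.1 hc))] at h3
  exact one_ne_zero h3

theorem Setup.exists_complement (S : Setup H k) :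
    ∃ K : Subgroup G, K.Normal ∧ K ⊔ H = ⊤ ∧ K ⊓ H = ⊥ := by
  classical
  have hker : ∀ ψ : Cfsg.IrrCharacter H, ∃ K : Subgroup G, K.Normal ∧
      ∀ g : G, g ∈ K ↔ S.tilde ψ g = S.tilde ψ 1 := fun ψ =>
    Cfsg.Agent.Lib.Helper8.exists_normal_ker (isCharacter_of_irr (S.tilde_isIrr ψ.2))
  choose Kf hKn hKmem using hker
  let K : Subgroup G := ⨅ ψ, Kf ψ
  have hKnormal : K.Normal := Subgroup.normal_iInf_normal hKn
  have hmemK : ∀ x : G, x ∈ K ↔ ∀ ψ : Cfsg.IrrCharacter H, (ψ : H → ℂ) (S.tau x) = (ψ : H → ℂ) 1 := by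
    intro x
    rw [Subgroup.mem_iInf]
    refine forall_congr' fun ψ => ?_
    rw [hKmem ψ x, S.tilde_one]
    rfl
  have hdisj : K ⊓ H = ⊥ := by
    rw [eq_bot_iff]
    intro x hx
    rw [Subgroup.mem_inf] at hx
    rw [Subgroup.mem_bot]
    have h1 : (⟨x, hx.2⟩ : H) = 1 := by
      apply eq_one_of_forall_irr
      intro ψ
      rw [← S.tilde_coe (isClassFunction_irr ψ.2) ⟨x, hx.2⟩]
      exact (hmemK x).1 hx.1 ψ
    exact congrArg Subtype.val h1
  refine ⟨K, hKnormal, ?_, hdisj⟩
  -- counting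
  let T : Finset G := Finset.univ.filter (fun x => S.tau x = 1)
  have hT : T.card * Nat.card H = Nat.card G := by
    have h1 := S.secCount_eq 1
    unfold Setup.secCount at h1
    rw [← h1]
    have h2 : ∀ x : G, cnt (1 : H) (S.tau x) = if S.tau x = 1 then Nat.card H else 0 := by
      intro x
      unfold cnt
      by_cases hx : S.tau x = 1
      · rw [if_pos hx, hx]
        simp [Nat.card_eq_fintype_card]
      · rw [if_neg hx]
        apply Finset.sum_eq_zero
        intro u _
        rw [if_neg]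
        intro h3
        apply hx
        rw [← h3]
        group
    simp only [h2]
    rw [← Finset.sum_filter, Finset.sum_const, smul_eq_mul]
  have hTK : T.card ≤ Nat.card K := by
    rw [Nat.card_eq_fintype_card, ← Finset.card_univ]
    have : T.card = (T.subtype (fun x => x ∈ K)).card := by
      rw [Finset.card_subtype]
      congr 1
      ext x
      simp only [Finset.mem_filter, T, Finset.mem_univ, true_and]
      constructor
      · intro hx
        refine ⟨hx, ?_⟩
        rw [hmemK]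
        intro ψ
        rw [hx]
      · intro hx
        exact hx.1
    rw [this]
    exact Finset.card_le_card (Finset.subset_univ _)
  have hdisj' : Disjoint K H := disjoint_iff.2 hdisj
  have hle : Nat.card K * Nat.card H ≤ Nat.card G := by
    rw [← Nat.card_prod]
    exact Nat.card_le_card_of_injective _ (Subgroup.mul_injective_of_disjoint hdisj')
  have hH0 : 0 < Nat.card H := Nat.card_pos
  have hKc : Nat.card K = T.card := by
    apply le_antisymm _ hTK
    rw [← hT] at hle
    exact Nat.le_of_mul_le_mul_right hle hH0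
  have hcompl : Subgroup.IsComplement' K H := by
    apply Subgroup.isComplement'_of_card_mul_and_disjoint _ hdisj'
    rw [hKc, hT]
  exact hcompl.sup_eq_top

end Main

end Cfsg.Agent.Lib.Helper2.BrauerSuzuki
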