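import Mathlib

set_option autoImplicit false

/-!
# Burnside's theorem on minimal normal subgroups of 2-transitive groups: the "lines" argument

If `N` is a normal subgroup of a 2-transitive group `G` and `B` is a nontrivial block of `N`,
then the pointwise stabilizer in `N` of two distinct points is trivial.
-/

namespace Cfsg.Agent.Lib.Helper2.Burnside2T

open MulAction
open scoped Pointwise

section lines

variable {G : Type*} [Group G] {Ω : Type*} [MulAction G Ω]

/-- the "line" through `x` and `y`: the intersection of the translates of `B` containing both -/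
def line (G : Type*) [Group G] {Ω : Type*} [MulAction G Ω] (B : Set Ω) (x y : Ω) : Set Ω :=
  {z | ∀ g : G, x ∈ g • B → y ∈ g • B → z ∈ g • B}

theorem mem_line_left (B : Set Ω) (x y : Ω) : x ∈ line G B x y := fun _ hx _ => hx

theorem mem_line_right (B : Set Ω) (x y : Ω) : y ∈ line G B x y := fun _ _ hy => hy

theorem smul_line (B : Set Ω) (h : G) (x y : Ω) :
    h • line G B x y = line G B (h • x) (h • y) := by
  ext z
  rw [Set.mem_smul_set_iff_inv_smul_mem]
  constructor
  · intro hz g hx hy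
    have h1 := hz (h⁻¹ * g) (by
      rw [mul_smul, Set.mem_smul_set_iff_inv_smul_mem, inv_inv]
      exact hx) (by
      rw [mul_smul, Set.mem_smul_set_iff_inv_smul_mem, inv_inv]
      exact hy)
    rw [mul_smul, Set.mem_smul_set_iff_inv_smul_mem, inv_inv, smul_inv_smul] at h1
    exact h1
  · intro hz g hx hy
    have h1 := hz (h * g) (by
      rw [mul_smul]
      exact Set.smul_mem_smul_set hx) (by
      rw [mul_smul]
      exact Set.smul_mem_smul_set hy)
    rw [mul_smul, Set.mem_smul_set_iff_inv_smul_mem] at h1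
    exact h1

theorem line_subset_of_mem (B : Set Ω) {x y u v : Ω} (hu : u ∈ line G B x y)
    (hv : v ∈ line G B x y) : line G B u v ⊆ line G B x y := by
  intro z hz g hx hy
  exact hz g (hu g hx hy) (hv g hx hy)

theorem ncard_line_eq (h2 : ∀ a b c d : Ω, a ≠ b → c ≠ d → ∃ g : G, g • a = c ∧ g • b = d)
    (B : Set Ω) {x y u v : Ω} (hxy : x ≠ y) (huv : u ≠ v) :
    (line G B u v).ncard = (line G B x y).ncard := by
  obtain ⟨g, rfl, rfl⟩ := h2 x y u v hxy huv
  rw [← smul_line, Set.ncard_smul_set]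

theorem line_eq_of_mem [Finite Ω] (h2 : ∀ a b c d : Ω, a ≠ b → c ≠ d → ∃ g : G, g • a = c ∧ g • b = d)
    (B : Set Ω) {x y u v : Ω} (hxy : x ≠ y) (huv : u ≠ v) (hu : u ∈ line G B x y)
    (hv : v ∈ line G B x y) : line G B u v = line G B x y := by
  apply Set.eq_of_subset_of_ncard_le (line_subset_of_mem B hu hv)
  · rw [ncard_line_eq h2 B hxy huv]

theorem line_ne_univ (h2 : ∀ a b c d : Ω, a ≠ b → c ≠ d → ∃ g : G, g • a = c ∧ g • b = d)
    {B : Set Ω} (hB1 : B.Nontrivial) (hB2 : B ≠ Set.univ) {x y : Ω} (hxy : x ≠ y) :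
    ∃ z, z ∉ line G B x y := by
  by_contra hcon
  push Not at hcon
  obtain ⟨u, hu, v, hv, huv⟩ := hB1
  obtain ⟨g, hgx, hgy⟩ := h2 u v x y huv hxy
  apply hB2
  rw [Set.eq_univ_iff_forall]
  intro w
  have h1 : g • w ∈ g • B := by
    apply hcon (g • w) g
    · rw [← hgx]
      exact Set.smul_mem_smul_set hu
    · rw [← hgy]
      exact Set.smul_mem_smul_set hv
  rw [Set.smul_mem_smul_set_iff] at h1
  exact h1

variable {N : Subgroup G}

/-- an element of `N` fixing `x` stabilizes every line through `x` -/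
theorem smul_mem_line (hNn : N.Normal) {B : Set Ω}
    (hB : ∀ n ∈ N, n • B = B ∨ Disjoint (n • B) B) {n : G} (hn : n ∈ N) {x y z : Ω}
    (hx : n • x = x) (hz : z ∈ line G B x y) : n • z ∈ line G B x y := by
  intro g hgx hgy
  have hzg := hz g hgx hgy
  have hn' : g⁻¹ * n * g ∈ N := by
    have := hNn.conj_mem n hn g⁻¹
    rwa [inv_inv] at this
  rw [Set.mem_smul_set_iff_inv_smul_mem] at hgx hzg ⊢
  have h1 : (g⁻¹ * n * g) • B = B := by
    rcases hB _ hn' with h | h
    · exact h
    · exfalso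
      rw [Set.disjoint_left] at h
      apply h (a := g⁻¹ • x) _ hgx
      rw [Set.mem_smul_set_iff_inv_smul_mem]
      have : (g⁻¹ * n * g)⁻¹ • g⁻¹ • x = g⁻¹ • x := by
        rw [← mul_smul]
        have : (g⁻¹ * n * g)⁻¹ * g⁻¹ = g⁻¹ * n⁻¹ := by group
        rw [this, mul_smul]
        congr 1
        rw [inv_smul_eq_iff, hx]
      rw [this]
      exact hgx
  have h2 : (g⁻¹ * n * g) • g⁻¹ • z ∈ (g⁻¹ * n * g) • B := Set.smul_mem_smul_set hzg
  rw [h1, ← mul_smul] at h2
  have : g⁻¹ * n * g * g⁻¹ = g⁻¹ * n := by group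
  rw [this, mul_smul] at h2
  exact h2

/-- an element of `N` fixing `x ≠ y` fixes every point off the line `xy` -/
theorem smul_eq_of_not_mem_line [Finite Ω]
    (h2 : ∀ a b c d : Ω, a ≠ b → c ≠ d → ∃ g : G, g • a = c ∧ g • b = d)
    (hNn : N.Normal) {B : Set Ω}
    (hB : ∀ n ∈ N, n • B = B ∨ Disjoint (n • B) B) {n : G} (hn : n ∈ N) {x y z : Ω}
    (hxy : x ≠ y) (hx : n • x = x) (hy : n • y = y) (hz : z ∉ line G B x y) : n • z = z := by
  by_contra hne
  have hzx : x ≠ z := by
    rintro rfl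
    exact hz (mem_line_left B _ _)
  have hzy : y ≠ z := by
    rintro rfl
    exact hz (mem_line_right B _ _)
  have h1 : n • z ∈ line G B x z := smul_mem_line hNn hB hn hx (mem_line_right B x z)
  have h2' : n • z ∈ line G B y z := smul_mem_line hNn hB hn hy (mem_line_right B y z)
  have e1 : line G B z (n • z) = line G B x z :=
    line_eq_of_mem h2 B hzx (Ne.symm hne) (mem_line_right B x z) h1
  have e2 : line G B z (n • z) = line G B y z :=
    line_eq_of_mem h2 B hzy (Ne.symm hne) (mem_line_right B y z) h2'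
  have h3 : y ∈ line G B x z := by
    rw [← e1, e2]
    exact mem_line_left B y z
  have e3 : line G B x y = line G B x z :=
    line_eq_of_mem h2 B hzx hxy (mem_line_left B x z) h3
  apply hz
  rw [e3]
  exact mem_line_right B x z

/-- an element of `N` fixing two distinct points acts trivially -/
theorem smul_eq_of_fix_two [Finite Ω]
    (h2 : ∀ a b c d : Ω, a ≠ b → c ≠ d → ∃ g : G, g • a = c ∧ g • b = d)
    (hNn : N.Normal) {B : Set Ω}
    (hB : ∀ n ∈ N, n • B = B ∨ Disjoint (n • B) B) (hB1 : B.Nontrivial) (hB2 : B ≠ Set.univ)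
    {n : G} (hn : n ∈ N) {x y : Ω}
    (hxy : x ≠ y) (hx : n • x = x) (hy : n • y = y) (w : Ω) : n • w = w := by
  by_cases hw : w ∈ line G B x y
  · by_cases hwx : w = x
    · rw [hwx, hx]
    · obtain ⟨z, hz⟩ := line_ne_univ h2 hB1 hB2 hxy
      have hnz : n • z = z := smul_eq_of_not_mem_line h2 hNn hB hn hxy hx hy hz
      have hzx : x ≠ z := by
        rintro rfl
        exact hz (mem_line_left B _ _)
      apply smul_eq_of_not_mem_line h2 hNn hB hn hzx hx hnz
      intro hw'
      have e1 : line G B x w = line G B x z :=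
        line_eq_of_mem h2 B hzx (Ne.symm hwx) (mem_line_left B x z) hw'
      have e2 : line G B x w = line G B x y :=
        line_eq_of_mem h2 B hxy (Ne.symm hwx) (mem_line_left B x y) hw
      apply hz
      rw [← e2, e1]
      exact mem_line_right B x z
  · exact smul_eq_of_not_mem_line h2 hNn hB hn hxy hx hy hw

theorem eq_one_of_fix_two [Finite Ω] [FaithfulSMul G Ω]
    (h2 : ∀ a b c d : Ω, a ≠ b → c ≠ d → ∃ g : G, g • a = c ∧ g • b = d)
    (hNn : N.Normal) {B : Set Ω}
    (hB : ∀ n ∈ N, n • B = B ∨ Disjoint (n • B) B) (hB1 : B.Nontrivial) (hB2 : B ≠ Set.univ)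
    {n : G} (hn : n ∈ N) {x y : Ω}
    (hxy : x ≠ y) (hx : n • x = x) (hy : n • y = y) : n = 1 := by
  apply FaithfulSMul.eq_of_smul_eq_smul (α := Ω)
  intro w
  rw [one_smul]
  exact smul_eq_of_fix_two h2 hNn hB hB1 hB2 hn hxy hx hy w

end lines

end Cfsg.Agent.Lib.Helper2.Burnside2T
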