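import Mathlib
import Cfsg.Agent.S0035
import Cfsg.Agent.Lib.Helper2.Burnside2T

set_option autoImplicit false

/-!
# Burnside's theorem on 2-transitive groups: a minimal normal subgroup is not a Frobenius group
-/

namespace Cfsg.Agent.Lib.Helper2.Burnside2T

open MulAction
open scoped Pointwise

section frob

variable {G : Type*} [Group G] [Finite G] {Ω : Type*} [MulAction G Ω] [FaithfulSMul G Ω]

/-- A transitive normal subgroup `N` in which two-point stabilizers are trivial but
point stabilizers are not is not a minimal normal subgroup. -/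
theorem not_frobenius (N : Subgroup G) (hNn : N.Normal)
    (hmin : ∀ M : Subgroup G, M.Normal → M ≤ N → M = ⊥ ∨ M = N)
    (htr : ∀ a b : Ω, ∃ n ∈ N, n • a = b)
    (hfix : ∀ n ∈ N, ∀ x y : Ω, x ≠ y → n • x = x → n • y = y → n = 1)
    (a : Ω) (n₀ : G) (hn₀ : n₀ ∈ N) (hn₀1 : n₀ ≠ 1) (hn₀a : n₀ • a = a) : False := by
  classical
  set H : Subgroup N := MulAction.stabilizer N a with hH
  have memH : ∀ x : N, x ∈ H ↔ (x : G) • a = a := by
    intro x
    rw [hH, MulAction.mem_stabilizer_iff]
    rfl
  have memconj : ∀ (g x : N), x ∈ MulAut.conj g • H ↔ (x : G) • ((g : G) • a) = (g : G) • a := by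
    intro g x
    rw [Subgroup.mem_pointwise_smul_iff_inv_smul_mem, memH]
    simp only [MulAut.smul_def, MulAut.conj_inv_apply, Subgroup.coe_mul, Subgroup.coe_inv]
    rw [mul_smul, mul_smul, inv_smul_eq_iff]
  have hHbot : H ≠ ⊥ := by
    intro h
    have : (⟨n₀, hn₀⟩ : N) ∈ H := by
      rw [memH]
      exact hn₀a
    rw [h, Subgroup.mem_bot] at this
    apply hn₀1
    exact congrArg Subtype.val this
  have hHtop : H ≠ ⊤ := by
    intro h
    apply hn₀1
    apply FaithfulSMul.eq_of_smul_eq_smul (α := Ω)
    intro w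
    rw [one_smul]
    obtain ⟨m, hm, rfl⟩ := htr a w
    have h1 : (⟨m, hm⟩ : N) ∈ H := by
      rw [h]
      trivial
    rw [memH] at h1
    change m • a = a at h1
    rw [h1, hn₀a]
  have hfrob : Cfsg.IsFrobeniusComplement H := by
    refine ⟨hHbot, hHtop, ?_⟩
    intro g hg
    rw [eq_bot_iff]
    intro x hx
    rw [Subgroup.mem_inf, memH, memconj] at hx
    rw [Subgroup.mem_bot]
    apply Subtype.ext
    rw [memH] at hg
    exact hfix x x.2 a ((g : G) • a) (Ne.symm hg) hx.1 hx.2
  obtain ⟨K, hK, hKn, hKc⟩ := Cfsg.Agent.S0035.result H hfrob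
  have memK : ∀ x : N, x ∈ K ↔ x = 1 ∨ ∀ w : Ω, (x : G) • w ≠ w := by
    intro x
    rw [← SetLike.mem_coe, hK]
    change (x = 1 ∨ ∀ g : N, x ∉ MulAut.conj g • H) ↔ _
    constructor
    · rintro (h | h)
      · exact Or.inl h
      · right
        intro w hw
        obtain ⟨m, hm, rfl⟩ := htr a w
        apply h ⟨m, hm⟩
        rw [memconj]
        exact hw
    · rintro (h | h)
      · exact Or.inl h
      · right
        intro g hg
        rw [memconj] at hg
        exact h _ hg
  have hK'n : (K.map N.subtype).Normal := by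
    constructor
    intro x hx g
    rw [Subgroup.mem_map] at hx ⊢
    obtain ⟨k, hk, rfl⟩ := hx
    refine ⟨⟨g * k * g⁻¹, hNn.conj_mem _ k.2 g⟩, ?_, rfl⟩
    rw [memK] at hk ⊢
    rcases hk with hk | hk
    · left
      apply Subtype.ext
      simp [hk]
    · right
      intro w hw
      apply hk (g⁻¹ • w)
      change (g * (k : G) * g⁻¹) • w = w at hw
      rw [mul_smul, mul_smul, ← eq_inv_smul_iff] at hw
      exact hw
  have hK'le : K.map N.subtype ≤ N := by
    intro x hx
    rw [Subgroup.mem_map] at hx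
    obtain ⟨k, _, rfl⟩ := hx
    exact k.2
  rcases hmin _ hK'n hK'le with h | h
  · rw [Subgroup.map_eq_bot_iff_of_injective _ N.subtype_injective] at h
    rw [h, Subgroup.isComplement'_bot_left] at hKc
    exact hHtop hKc
  · have h1 : K = ⊤ := by
      apply Subgroup.map_injective N.subtype_injective
      rw [h, ← MonoidHom.range_eq_map, Subgroup.range_subtype]
    rw [h1, Subgroup.isComplement'_top_left] at hKc
    exact hHbot hKc

end frob

end Cfsg.Agent.Lib.Helper2.Burnside2T
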