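import Mathlib
import Cfsg.Agent.Lib.Helper2.MinNormal

set_option autoImplicit false

namespace Cfsg.Agent.Lib.Helper2

/-- A nontrivial normal subgroup of a faithful primitive group is transitive. -/
theorem isPretransitive_of_normal_of_primitive {G : Type*} [Group G] {Ω : Type*}
    [MulAction G Ω] [FaithfulSMul G Ω] (hprim : MulAction.IsPreprimitive G Ω)
    (M : Subgroup G) [M.Normal] (hM : M ≠ ⊥) : MulAction.IsPretransitive M Ω := by
  apply MulAction.IsQuasiPreprimitive.isPretransitive_of_normal (G := G)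
  intro h
  apply hM
  rw [eq_bot_iff]
  intro m hm
  rw [Subgroup.mem_bot]
  apply FaithfulSMul.eq_of_smul_eq_smul (α := Ω)
  intro ω
  have : ω ∈ MulAction.fixedPoints M Ω := by rw [h]; trivial
  rw [one_smul]
  exact this ⟨m, hm⟩

/-- A transitive abelian subgroup of a faithful action acts regularly. -/
theorem stabilizer_eq_bot_of_transitive_abelian {G : Type*} [Group G] {Ω : Type*}
    [MulAction G Ω] [FaithfulSMul G Ω] (M : Subgroup G) (hc : IsMulCommutative M)
    (ht : MulAction.IsPretransitive M Ω) (ω : Ω) : MulAction.stabilizer M ω = ⊥ := by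
  rw [eq_bot_iff]
  intro m hm
  rw [Subgroup.mem_bot]
  rw [MulAction.mem_stabilizer_iff] at hm
  apply Subtype.ext
  apply FaithfulSMul.eq_of_smul_eq_smul (α := Ω)
  intro α
  obtain ⟨x, rfl⟩ := MulAction.exists_smul_eq M ω α
  change m • (x • ω) = (1 : G) • (x • ω)
  have hmx : m * x = x * m := hc.is_comm.comm m x
  rw [one_smul, ← mul_smul, hmx, mul_smul, hm]

end Cfsg.Agent.Lib.Helper2
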