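import Mathlib
import Cfsg.Agent.Lib.Helper2.Primitive

set_option autoImplicit false

/-!
# Burnside's theorem on 2-transitive groups: the regular case and the simplicity argument
-/

namespace Cfsg.Agent.Lib.Helper2.Burnside2T

open MulAction
open scoped Pointwise

section sameorder

variable {G : Type*} [Group G] [Finite G]

/-- a nontrivial subgroup all of whose nonidentity elements have the same order has prime
exponent and a nontrivial central element -/
theorem exists_central_of_same_order (K : Subgroup G) (hK : K ≠ ⊥)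
    (hord : ∀ k ∈ K, k ≠ 1 → ∀ k' ∈ K, k' ≠ 1 → orderOf k' = orderOf k) :
    ∃ p : ℕ, p.Prime ∧ (∀ k ∈ K, k ^ p = 1) ∧ ∃ z ∈ K, z ≠ 1 ∧ ∀ k ∈ K, k * z = z * k := by
  rcases K.bot_or_exists_ne_one with h | ⟨k₁, hk₁, hk₁1⟩
  · exact absurd h hK
  have ho1 : orderOf k₁ ≠ 1 := by
    rw [Ne, orderOf_eq_one_iff]
    exact hk₁1
  have ho0 : orderOf k₁ ≠ 0 := (orderOf_pos k₁).ne'
  set p := (orderOf k₁).minFac with hp
  have hpp : p.Prime := Nat.minFac_prime ho1
  have hk₂o : orderOf (k₁ ^ (orderOf k₁ / p)) = p :=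
    orderOf_pow_orderOf_div ho0 (Nat.minFac_dvd _)
  have hk₂ : k₁ ^ (orderOf k₁ / p) ∈ K := K.pow_mem hk₁ _
  have hk₂1 : k₁ ^ (orderOf k₁ / p) ≠ 1 := by
    intro h
    rw [h, orderOf_one] at hk₂o
    exact hpp.one_lt.ne hk₂o
  have hpow : ∀ k ∈ K, k ^ p = 1 := by
    intro k hk
    by_cases hk1 : k = 1
    · rw [hk1, one_pow]
    · have := hord _ hk₂ hk₂1 k hk hk1
      rw [hk₂o] at this
      rw [← this]
      exact pow_orderOf_eq_one k
  refine ⟨p, hpp, hpow, ?_⟩
  haveI : Fact p.Prime := ⟨hpp⟩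
  haveI : Nontrivial K := (Subgroup.nontrivial_iff_ne_bot K).mpr hK
  have hpg : IsPGroup p K := by
    intro k
    refine ⟨1, ?_⟩
    rw [pow_one]
    apply Subtype.ext
    rw [Subgroup.coe_pow]
    exact hpow k k.2
  haveI := hpg.center_nontrivial
  obtain ⟨z, hz⟩ := exists_ne (1 : Subgroup.center K)
  refine ⟨(z : K), (z : K).2, ?_, ?_⟩
  · intro h
    apply hz
    apply Subtype.ext
    apply Subtype.ext
    exact h
  · intro k hk
    have := Subgroup.mem_center_iff.mp z.2 ⟨k, hk⟩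
    exact congrArg Subtype.val this

end sameorder

section regular

variable {G : Type*} [Group G] [Finite G] {Ω : Type*} [MulAction G Ω]

theorem regular_case (N : Subgroup G) (hNn : N.Normal) (hN : N ≠ ⊥)
    (h2 : ∀ a b c d : Ω, a ≠ b → c ≠ d → ∃ g : G, g • a = c ∧ g • b = d)
    (a : Ω) (hreg : ∀ n ∈ N, n • a = a → n = 1) :
    (∀ x ∈ N, ∀ y ∈ N, x * y = y * x) ∧ ∃ p : ℕ, p.Prime ∧ ∀ n ∈ N, n ^ p = 1 := by
  have hconj : ∀ n ∈ N, n ≠ 1 → ∀ m ∈ N, m ≠ 1 → ∃ g : G, m = g * n * g⁻¹ := by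
    intro n hn hn1 m hm hm1
    have hna : a ≠ n • a := fun h => hn1 (hreg n hn h.symm)
    have hma : a ≠ m • a := fun h => hm1 (hreg m hm h.symm)
    obtain ⟨g, hga, hgn⟩ := h2 a (n • a) a (m • a) hna hma
    refine ⟨g, ?_⟩
    have h1 : m⁻¹ * (g * n * g⁻¹) ∈ N := N.mul_mem (N.inv_mem hm) (hNn.conj_mem n hn g)
    have h2' : (m⁻¹ * (g * n * g⁻¹)) • a = a := by
      rw [mul_smul, mul_smul, mul_smul, inv_smul_eq_iff]
      have : g⁻¹ • a = a := by rw [inv_smul_eq_iff, hga]
      rw [this, hgn]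
    have h3 := hreg _ h1 h2'
    rw [inv_mul_eq_one] at h3
    exact h3
  have hord : ∀ k ∈ N, k ≠ 1 → ∀ k' ∈ N, k' ≠ 1 → orderOf k' = orderOf k := by
    intro k hk hk1 k' hk' hk'1
    obtain ⟨g, rfl⟩ := hconj k hk hk1 k' hk' hk'1
    have := (MulAut.conj g).orderOf_eq k
    rw [MulAut.conj_apply] at this
    exact this
  obtain ⟨p, hp, hpow, z, hz, hz1, hzc⟩ := exists_central_of_same_order N hN hord
  refine ⟨?_, p, hp, hpow⟩
  have hcen : ∀ x ∈ N, ∀ y ∈ N, x * y = y * x := by
    intro x hx y hy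
    by_cases hx1 : x = 1
    · rw [hx1, one_mul, mul_one]
    · obtain ⟨g, rfl⟩ := hconj z hz hz1 x hx hx1
      have hy' : g⁻¹ * y * g ∈ N := by
        have := hNn.conj_mem y hy g⁻¹
        rwa [inv_inv] at this
      have h1 := hzc _ hy'
      calc g * z * g⁻¹ * y = g * (z * (g⁻¹ * y * g)) * g⁻¹ := by group
        _ = g * ((g⁻¹ * y * g) * z) * g⁻¹ := by rw [h1]
        _ = y * (g * z * g⁻¹) := by group
  exact hcen

end regular

section simple

variable {G : Type*} [Group G] [Finite G] {Ω : Type*} [MulAction G Ω] [FaithfulSMul G Ω]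

/-- a regular subgroup `K` of a 2-transitive group which commutes with a transitive
subgroup meeting it trivially, all of whose conjugates are `K` or commute with `K`:
impossible -/
theorem no_regular_pair (K : Subgroup G) (hK : K ≠ ⊥)
    (h2 : ∀ a b c d : Ω, a ≠ b → c ≠ d → ∃ g : G, g • a = c ∧ g • b = d)
    (hKtr : ∀ a b : Ω, ∃ k ∈ K, k • a = b)
    (C₀ : Subgroup G) (hC₀tr : ∀ a b : Ω, ∃ c ∈ C₀, c • a = b)
    (hcomm : ∀ k ∈ K, ∀ c ∈ C₀, k * c = c * k) (hdisj : K ⊓ C₀ = ⊥)
    (hconj : ∀ g : G, MulAut.conj g • K = K ∨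
      ∀ k ∈ K, ∀ m ∈ MulAut.conj g • K, k * m = m * k) : False := by
  rcases K.bot_or_exists_ne_one with h | ⟨k₀, hk₀, hk₀1⟩
  · exact hK h
  have hex : ∃ a : Ω, k₀ • a ≠ a := by
    by_contra hcon
    push Not at hcon
    apply hk₀1
    apply FaithfulSMul.eq_of_smul_eq_smul (α := Ω)
    intro w
    rw [one_smul]
    exact hcon w
  obtain ⟨a, _⟩ := hex
  have central_fix : ∀ c : G, (∀ k ∈ K, k * c = c * k) → c • a = a → c = 1 := by
    intro c hc hca
    apply FaithfulSMul.eq_of_smul_eq_smul (α := Ω)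
    intro w
    rw [one_smul]
    obtain ⟨k, hk, rfl⟩ := hKtr a w
    rw [← mul_smul, ← hc k hk, mul_smul, hca]
  have K_semireg : ∀ k ∈ K, k • a = a → k = 1 := by
    intro k hk hka
    apply FaithfulSMul.eq_of_smul_eq_smul (α := Ω)
    intro w
    rw [one_smul]
    obtain ⟨c, hc, rfl⟩ := hC₀tr a w
    rw [← mul_smul, hcomm k hk c hc, mul_smul, hka]
  have center_triv : ∀ z ∈ K, (∀ k ∈ K, k * z = z * k) → z = 1 := by
    intro z hz hzc
    obtain ⟨c₀, hc₀, hc₀a⟩ := hC₀tr a (z • a)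
    have h1 : c₀⁻¹ * z = 1 := by
      apply central_fix
      · intro k hk
        have e1 := hcomm k hk c₀ hc₀
        have e2 := hzc k hk
        have e3 : k * c₀⁻¹ = c₀⁻¹ * k := by
          rw [eq_inv_mul_iff_mul_eq, ← mul_assoc, ← e1, mul_assoc, mul_inv_cancel, mul_one]
        rw [← mul_assoc, e3, mul_assoc, e2, mul_assoc]
      · rw [mul_smul, inv_smul_eq_iff, hc₀a]
    rw [inv_mul_eq_one] at h1
    have h2' : z ∈ K ⊓ C₀ := ⟨hz, h1 ▸ hc₀⟩
    rw [hdisj, Subgroup.mem_bot] at h2'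
    exact h2'
  have hord : ∀ k ∈ K, k ≠ 1 → ∀ k' ∈ K, k' ≠ 1 → orderOf k' = orderOf k := by
    intro k hk hk1 k' hk' hk'1
    have hka : a ≠ k • a := fun h => hk1 (K_semireg k hk h.symm)
    have hk'a : a ≠ k' • a := fun h => hk'1 (K_semireg k' hk' h.symm)
    obtain ⟨g, hga, hgk⟩ := h2 a (k • a) a (k' • a) hka hk'a
    have hga' : g⁻¹ • a = a := by rw [inv_smul_eq_iff, hga]
    have hmo : orderOf (g * k * g⁻¹) = orderOf k := by
      have := (MulAut.conj g).orderOf_eq k
      rw [MulAut.conj_apply] at this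
      exact this
    have hma : (g * k * g⁻¹) • a = k' • a := by
      rw [mul_smul, mul_smul, hga', hgk]
    have hmem : g * k * g⁻¹ ∈ MulAut.conj g • K := by
      rw [Subgroup.mem_pointwise_smul_iff_inv_smul_mem]
      simp only [MulAut.smul_def, MulAut.conj_inv_apply]
      have : g⁻¹ * (g * k * g⁻¹) * g = k := by group
      rw [this]
      exact hk
    rw [← hmo]
    set m := g * k * g⁻¹ with hm
    have hua : (m⁻¹ * k') • a = a := by
      rw [mul_smul, inv_smul_eq_iff, hma]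
    rcases hconj g with h | h
    · rw [h] at hmem
      have h1 := K_semireg _ (K.mul_mem (K.inv_mem hmem) hk') hua
      rw [inv_mul_eq_one] at h1
      rw [h1]
    · have hcm : ∀ k ∈ K, k * m = m * k := fun k hk => h k hk m hmem
      have hcomm0 : Commute m k' := (hcm k' hk').symm
      have hcomm' : Commute m⁻¹ k' := hcomm0.inv_left
      rw [orderOf_eq_orderOf_iff]
      intro j
      have hupow : (m⁻¹ * k') ^ j = (m ^ j)⁻¹ * k' ^ j := by
        rw [hcomm'.mul_pow, inv_pow]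
      have huja : ((m⁻¹ * k') ^ j) • a = a := by
        have : (m⁻¹ * k') ∈ MulAction.stabilizer G a := hua
        exact (MulAction.stabilizer G a).pow_mem this j
      constructor
      · intro hj
        rw [hupow, hj, mul_one, inv_smul_eq_iff] at huja
        apply central_fix
        · intro k hk
          have hc0 : Commute k m := hcm k hk
          exact (hc0.pow_right j).eq
        · exact huja.symm
      · intro hj
        rw [hupow, hj, inv_one, one_mul] at huja
        exact K_semireg _ (K.pow_mem hk' j) huja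
  obtain ⟨p, _, _, z, hz, hz1, hzc⟩ := exists_central_of_same_order K hK hord
  exact hz1 (center_triv z hz hzc)

end simple

end Cfsg.Agent.Lib.Helper2.Burnside2T
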