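import Mathlib
import Cfsg.Agent.Lib.Helper2.Burnside2T
import Cfsg.Agent.Lib.Helper2.Burnside2T2
import Cfsg.Agent.Lib.Helper2.Burnside2T3

set_option autoImplicit false

/-!
# Burnside's theorem on minimal normal subgroups of 2-transitive groups
-/

namespace Cfsg.Agent.Lib.Helper2.Burnside2T

open MulAction
open scoped Pointwise

section simple

variable {G : Type*} [Group G] [Finite G] {Ω : Type*} [MulAction G Ω] [FaithfulSMul G Ω]

/-- a nontrivial subgroup of `N` normalized by the primitive group `N` is transitive -/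
theorem trans_of_inv {N K : Subgroup G} (hprim : IsPreprimitive N Ω) (hKN : K ≤ N)
    (hKinv : ∀ n ∈ N, ∀ k ∈ K, n * k * n⁻¹ ∈ K) (hK : K ≠ ⊥) :
    ∀ a b : Ω, ∃ k ∈ K, k • a = b := by
  haveI : (K.subgroupOf N).Normal := by
    constructor
    intro k hk n
    rw [Subgroup.mem_subgroupOf] at hk ⊢
    exact hKinv n n.2 k hk
  have hne : K.subgroupOf N ≠ ⊥ := by
    intro h
    rw [Subgroup.subgroupOf_eq_bot, disjoint_iff, inf_eq_left.mpr hKN] at h
    exact hK h
  have htr := Cfsg.Agent.Lib.Helper2.isPretransitive_of_normal_of_primitive hprim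
    (K.subgroupOf N) hne
  intro a b
  obtain ⟨k, hk⟩ := htr.exists_smul_eq a b
  exact ⟨((k : N) : G), k.2, hk⟩

theorem simple_case (N : Subgroup G) (hNn : N.Normal) (hN : N ≠ ⊥)
    (hmin : ∀ M : Subgroup G, M.Normal → M ≤ N → M = ⊥ ∨ M = N)
    (h2 : ∀ a b c d : Ω, a ≠ b → c ≠ d → ∃ g : G, g • a = c ∧ g • b = d)
    (hprim : IsPreprimitive N Ω) : IsSimpleGroup N := by
  haveI : Nontrivial N := (Subgroup.nontrivial_iff_ne_bot N).mpr hN
  refine ⟨fun K₀ hK₀ => ?_⟩
  by_contra hcon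
  push Not at hcon
  exfalso
  obtain ⟨hK₀b, hK₀t⟩ := hcon
  let S : Set (Subgroup G) :=
    {M | M ≤ N ∧ (∀ n ∈ N, ∀ k ∈ M, n * k * n⁻¹ ∈ M) ∧ M ≠ ⊥ ∧ M ≠ N}
  have hSne : S.Nonempty := by
    refine ⟨K₀.map N.subtype, ?_, ?_, ?_, ?_⟩
    · intro x hx
      rw [Subgroup.mem_map] at hx
      obtain ⟨k, _, rfl⟩ := hx
      exact k.2
    · intro n hn x hx
      rw [Subgroup.mem_map] at hx ⊢
      obtain ⟨k, hk, rfl⟩ := hx
      exact ⟨⟨n, hn⟩ * k * ⟨n, hn⟩⁻¹, hK₀.conj_mem k hk ⟨n, hn⟩, rfl⟩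
    · intro h
      rw [Subgroup.map_eq_bot_iff_of_injective _ N.subtype_injective] at h
      exact hK₀b h
    · intro h
      apply hK₀t
      apply Subgroup.map_injective N.subtype_injective
      rw [h, ← MonoidHom.range_eq_map, Subgroup.range_subtype]
  obtain ⟨K, ⟨hKN, hKinv, hKb, hKneN⟩, hKmin⟩ :=
    Set.exists_min_image S (fun M => Nat.card M) (Set.toFinite S) hSne
  -- minimality
  have hKmin' : ∀ M : Subgroup G, M ≤ K → (∀ n ∈ N, ∀ k ∈ M, n * k * n⁻¹ ∈ M) → M ≠ ⊥ →
      M = K := by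
    intro M hMK hMinv hMb
    have hMS : M ∈ S := by
      refine ⟨hMK.trans hKN, hMinv, hMb, ?_⟩
      intro h
      apply hKneN
      apply le_antisymm hKN
      rw [← h]
      exact hMK
    exact Subgroup.eq_of_le_of_card_ge hMK (hKmin M hMS)
  -- conjugates
  have memKg : ∀ g x : G, x ∈ MulAut.conj g • K ↔ g⁻¹ * x * g ∈ K := by
    intro g x
    rw [Subgroup.mem_pointwise_smul_iff_inv_smul_mem]
    simp only [MulAut.smul_def, MulAut.conj_inv_apply]
  have hKgN : ∀ g : G, MulAut.conj g • K ≤ N := by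
    intro g x hx
    rw [memKg] at hx
    have := hNn.conj_mem _ (hKN hx) g
    have e : g * (g⁻¹ * x * g) * g⁻¹ = x := by group
    rwa [e] at this
  have hKginv : ∀ g : G, ∀ n ∈ N, ∀ k ∈ MulAut.conj g • K, n * k * n⁻¹ ∈ MulAut.conj g • K := by
    intro g n hn k hk
    rw [memKg] at hk ⊢
    have hn' : g⁻¹ * n * g ∈ N := by
      have := hNn.conj_mem n hn g⁻¹
      rwa [inv_inv] at this
    have := hKinv _ hn' _ hk
    have e : g⁻¹ * n * g * (g⁻¹ * k * g) * (g⁻¹ * n * g)⁻¹ = g⁻¹ * (n * k * n⁻¹) * g := by group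
    rwa [e] at this
  have hKgb : ∀ g : G, MulAut.conj g • K ≠ ⊥ := by
    intro g h
    apply hKb
    rw [eq_bot_iff]
    intro k hk
    have : g * k * g⁻¹ ∈ MulAut.conj g • K := by
      rw [memKg]
      have e : g⁻¹ * (g * k * g⁻¹) * g = k := by group
      rwa [e]
    rw [h, Subgroup.mem_bot] at this
    rw [Subgroup.mem_bot]
    have e : k = g⁻¹ * (g * k * g⁻¹) * g := by group
    rw [e, this]
    group
  have hcard : ∀ g : G, Nat.card (MulAut.conj g • K : Subgroup G) = Nat.card K := fun g =>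
    (Nat.card_congr (Subgroup.equivSMul (MulAut.conj g) K).toEquiv).symm
  have hdich : ∀ g : G, MulAut.conj g • K = K ∨ K ⊓ MulAut.conj g • K = ⊥ := by
    intro g
    by_cases h : K ⊓ MulAut.conj g • K = ⊥
    · exact Or.inr h
    · left
      have hle : K ⊓ MulAut.conj g • K ≤ K := inf_le_left
      have h1 := hKmin' (K ⊓ MulAut.conj g • K) hle (by
        intro n hn k hk
        exact ⟨hKinv n hn k hk.1, hKginv g n hn k hk.2⟩) h
      have h2' : K ⊓ MulAut.conj g • K ≤ MulAut.conj g • K := inf_le_right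
      rw [h1] at h2'
      exact (Subgroup.eq_of_le_of_card_ge h2' (hcard g).le).symm
  have hcommg : ∀ g : G, K ⊓ MulAut.conj g • K = ⊥ →
      ∀ k ∈ K, ∀ m ∈ MulAut.conj g • K, k * m = m * k := by
    intro g hg k hk m hm
    have h1 : k * m * k⁻¹ * m⁻¹ ∈ K ⊓ MulAut.conj g • K := by
      constructor
      · have := hKinv m (hKgN g hm) k⁻¹ (K.inv_mem hk)
        have h' := K.mul_mem hk this
        have e : k * (m * k⁻¹ * m⁻¹) = k * m * k⁻¹ * m⁻¹ := by group
        rwa [e] at h'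
      · have := hKginv g k (hKN hk) m hm
        exact Subgroup.mul_mem _ this (Subgroup.inv_mem _ hm)
    rw [hg, Subgroup.mem_bot] at h1
    have e : k * m = (k * m * k⁻¹ * m⁻¹) * (m * k) := by group
    rw [e, h1, one_mul]
  -- K is not normal in G
  have hKnn : ¬ K.Normal := by
    intro h
    rcases hmin K h hKN with h' | h'
    · exact hKb h'
    · exact hKneN h'
  have hex : ∃ g : G, MulAut.conj g • K ≠ K := by
    by_contra hcon
    push Not at hcon
    apply hKnn
    constructor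
    intro k hk g
    rw [← hcon g, memKg]
    have e : g⁻¹ * (g * k * g⁻¹) * g = k := by group
    rwa [e]
  obtain ⟨g₀, hg₀⟩ := hex
  have hdisj : K ⊓ MulAut.conj g₀ • K = ⊥ := (hdich g₀).resolve_left hg₀
  apply no_regular_pair K hKb h2 (trans_of_inv hprim hKN hKinv hKb) (MulAut.conj g₀ • K)
    (trans_of_inv hprim (hKgN g₀) (hKginv g₀) (hKgb g₀)) (hcommg g₀ hdisj) hdisj
  intro g
  rcases hdich g with h | h
  · exact Or.inl h
  · exact Or.inr (hcommg g h)

end simple

section main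

variable {G : Type*} [Group G] [Finite G] {Ω : Type*} [MulAction G Ω] [FaithfulSMul G Ω]
  [Finite Ω]

/-- **Burnside**: a minimal normal subgroup of a finite 2-transitive group is elementary
abelian and regular, or simple and primitive. -/
theorem burnside_two_transitive (h2' : IsMultiplyPretransitive G Ω 2) (N : Subgroup G)
    [hNn : N.Normal] (hN : N ≠ ⊥)
    (hmin : ∀ M : Subgroup G, M.Normal → M ≤ N → M = ⊥ ∨ M = N) :
    (IsMulCommutative N ∧ (∃ p : ℕ, p.Prime ∧ ∀ n ∈ N, n ^ p = 1) ∧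
      ∀ a : Ω, MulAction.stabilizer N a = ⊥) ∨ (IsSimpleGroup N ∧ IsPreprimitive N Ω) := by
  have h2 : ∀ a b c d : Ω, a ≠ b → c ≠ d → ∃ g : G, g • a = c ∧ g • b = d :=
    fun a b c d hab hcd => is_two_pretransitive_iff.mp h2' hab hcd
  have hprimG : IsPreprimitive G Ω := isPreprimitive_of_is_two_pretransitive h2'
  have htrN : IsPretransitive N Ω :=
    Cfsg.Agent.Lib.Helper2.isPretransitive_of_normal_of_primitive hprimG N hN
  have htr : ∀ a b : Ω, ∃ n ∈ N, n • a = b := by
    intro a b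
    obtain ⟨n, hn⟩ := htrN.exists_smul_eq a b
    exact ⟨(n : G), n.2, hn⟩
  by_cases hreg : ∀ a : Ω, ∀ n ∈ N, n • a = a → n = 1
  · left
    rcases N.bot_or_exists_ne_one with h | ⟨n₀, hn₀, hn₀1⟩
    · exact absurd h hN
    have hex : ∃ a : Ω, n₀ • a ≠ a := by
      by_contra hcon
      push Not at hcon
      apply hn₀1
      apply FaithfulSMul.eq_of_smul_eq_smul (α := Ω)
      intro w
      rw [one_smul]
      exact hcon w
    obtain ⟨a, _⟩ := hex
    obtain ⟨hcomm, p, hp, hpow⟩ := regular_case N hNn hN h2 a (hreg a)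
    refine ⟨⟨⟨fun x y => Subtype.ext (hcomm x x.2 y y.2)⟩⟩, ⟨p, hp, hpow⟩, fun b => ?_⟩
    rw [eq_bot_iff]
    intro x hx
    rw [MulAction.mem_stabilizer_iff] at hx
    rw [Subgroup.mem_bot]
    apply Subtype.ext
    exact hreg b x x.2 hx
  · right
    push Not at hreg
    obtain ⟨a, n₀, hn₀, hn₀a, hn₀1⟩ := hreg
    have hprimN : IsPreprimitive N Ω := by
      have := htrN
      refine IsPreprimitive.mk (fun {B} hB => ?_)
      by_contra hBt
      unfold IsTrivialBlock at hBt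
      push Not at hBt
      obtain ⟨hB1, hB2⟩ := hBt
      have hB' : ∀ n ∈ N, n • B = B ∨ Disjoint (n • B) B := by
        intro n hn
        exact isBlock_iff_smul_eq_or_disjoint.mp hB ⟨n, hn⟩
      exact not_frobenius N hNn hmin htr
        (fun n hn x y hxy hx hy => eq_one_of_fix_two h2 hNn hB' hB1 hB2 hn hxy hx hy)
        a n₀ hn₀ hn₀1 hn₀a
    exact ⟨simple_case N hNn hN hmin h2 hprimN, hprimN⟩

end main

end Cfsg.Agent.Lib.Helper2.Burnside2T
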