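import Mathlib
import Cfsg.Agent.Lib.Helper2.HermFrames3
import Cfsg.Agent.Lib.Helper2.WittHerm
import Cfsg.Agent.Lib.Helper5.PSLCoset12

set_option autoImplicit false
set_option linter.unusedSectionVars false
open scoped MatrixGroups

/-!
S6001 package PK-U3a (leader helper9): elements of order three of `GU_4(p)` when the cube roots of
unity lie in the prime field: eigenprojections, adjoints, the trace.  The machinery is reused by PK-U3b.
-/

namespace Cfsg.Agent.Lib.C6PkU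

open Matrix Module Cfsg.Agent.Lib.Helper5.PSLCoset Cfsg.Agent.Lib.Helper2
  Cfsg.Agent.Lib.Helper2.HermDecomp Cfsg.Agent.Lib.Helper2.HermFrames


section alg
variable {F : Type*} [Field F] {n : ℕ}

/-- the eigenprojection of an element of order three for the eigenvalue `l` -/
def u3E (l : F) (X : Matrix (Fin n) (Fin n) F) : Matrix (Fin n) (Fin n) F :=
  (3 : F)⁻¹ • (1 + l ^ 2 • X + l • (X * X))

theorem u3E_mul_left (l : F) (hl : l ^ 3 = 1) (X : Matrix (Fin n) (Fin n) F)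
    (hX : X * (X * X) = 1) : X * u3E l X = l • u3E l X := by
  unfold u3E
  simp only [mul_add, mul_smul_comm, smul_add, smul_smul, mul_one, hX]
  match_scalars <;> grind

theorem u3E_mul_right (l : F) (hl : l ^ 3 = 1) (X : Matrix (Fin n) (Fin n) F)
    (hX : X * (X * X) = 1) : u3E l X * X = l • u3E l X := by
  unfold u3E
  simp only [add_mul, smul_mul_assoc, smul_add, smul_smul, one_mul, mul_assoc, hX]
  match_scalars <;> grind

theorem u3E_mul (a b : F) (hb : b ^ 3 = 1) (X : Matrix (Fin n) (Fin n) F)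
    (hX : X * (X * X) = 1) :
    u3E a X * u3E b X = ((3 : F)⁻¹ * (1 + a ^ 2 * b + a * b ^ 2)) • u3E b X := by
  have h1 := u3E_mul_left b hb X hX
  have h2 : X * X * u3E b X = b ^ 2 • u3E b X := by
    rw [mul_assoc, h1, mul_smul_comm, h1, smul_smul, pow_two]
  conv_lhs => rw [u3E]
  rw [smul_mul_assoc, add_mul, add_mul, one_mul, smul_mul_assoc, smul_mul_assoc, h1, h2]
  module

theorem u3E_idem (h3 : (3 : F) ≠ 0) (l : F) (hl : l ^ 3 = 1) (X : Matrix (Fin n) (Fin n) F)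
    (hX : X * (X * X) = 1) : u3E l X * u3E l X = u3E l X := by
  rw [u3E_mul l l hl X hX]
  have : (3 : F)⁻¹ * (1 + l ^ 2 * l + l * l ^ 2) = 1 := by
    field_simp
    linear_combination 2 * hl
  rw [this, one_smul]

theorem u3E_orth (a b : F) (hb : b ^ 3 = 1) (hab : 1 + a ^ 2 * b + a * b ^ 2 = 0)
    (X : Matrix (Fin n) (Fin n) F) (hX : X * (X * X) = 1) : u3E a X * u3E b X = 0 := by
  rw [u3E_mul a b hb X hX, hab, mul_zero, zero_smul]

theorem u3E_sum (h3 : (3 : F) ≠ 0) (ω : F) (hω : ω ^ 2 + ω + 1 = 0)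
    (X : Matrix (Fin n) (Fin n) F) : u3E 1 X + u3E ω X + u3E (ω ^ 2) X = 1 := by
  unfold u3E
  have hω3 : ω ^ 3 = 1 := by linear_combination (ω - 1) * hω
  match_scalars
  · field_simp; ring
  · field_simp; linear_combination (1 + ω ^ 2 - ω) * hω
  · field_simp; linear_combination hω

/-- the adjoint with respect to the standard Hermitian form -/
def u3st (σ : F ≃+* F) (M : Matrix (Fin n) (Fin n) F) : Matrix (Fin n) (Fin n) F :=
  (M.map σ)ᵀ

theorem u3st_apply (σ : F ≃+* F) (M : Matrix (Fin n) (Fin n) F) (i j : Fin n) :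
    u3st σ M i j = σ (M j i) := rfl

theorem u3st_mul (σ : F ≃+* F) (M N : Matrix (Fin n) (Fin n) F) :
    u3st σ (M * N) = u3st σ N * u3st σ M := by
  ext i j
  simp only [u3st_apply, Matrix.mul_apply, map_sum, map_mul]
  apply Finset.sum_congr rfl
  intro k _
  ring

theorem u3st_add (σ : F ≃+* F) (M N : Matrix (Fin n) (Fin n) F) :
    u3st σ (M + N) = u3st σ M + u3st σ N := by
  ext i j
  simp only [u3st_apply, Matrix.add_apply, map_add]

theorem u3st_smul (σ : F ≃+* F) (c : F) (M : Matrix (Fin n) (Fin n) F) :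
    u3st σ (c • M) = σ c • u3st σ M := by
  ext i j
  simp only [u3st_apply, Matrix.smul_apply, smul_eq_mul, map_mul]

theorem u3st_one (σ : F ≃+* F) : u3st σ (1 : Matrix (Fin n) (Fin n) F) = 1 := by
  ext i j
  rw [u3st_apply, Matrix.one_apply, Matrix.one_apply]
  by_cases h : i = j
  · rw [if_pos h, if_pos h.symm, map_one]
  · rw [if_neg h, if_neg (Ne.symm h), map_zero]

theorem u3st_zero (σ : F ≃+* F) : u3st σ (0 : Matrix (Fin n) (Fin n) F) = 0 := by
  ext i j
  rw [u3st_apply, Matrix.zero_apply, Matrix.zero_apply, map_zero]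

theorem u3st_u3st (σ : F ≃+* F) (hσ2 : ∀ a, σ (σ a) = a) (M : Matrix (Fin n) (Fin n) F) :
    u3st σ (u3st σ M) = M := by
  ext i j
  rw [u3st_apply, u3st_apply, hσ2]

theorem u3st_E (σ : F ≃+* F) (l : F) (hl : l ^ 3 = 1) (hσl : σ l = l)
    (X : Matrix (Fin n) (Fin n) F) (hX : X * (X * X) = 1) (hXs : u3st σ X = X * X) :
    u3st σ (u3E l X) = u3E (l ^ 2) X := by
  unfold u3E
  have h3 : σ (3 : F)⁻¹ = (3 : F)⁻¹ := by rw [map_inv₀, map_ofNat]
  have h4 : X * X * (X * X) = X := by rw [mul_assoc, ← mul_assoc X X X, mul_assoc, hX, mul_one]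
  rw [u3st_smul, u3st_add, u3st_add, u3st_one, u3st_smul, u3st_smul, u3st_mul, hXs, h3, map_pow,
    hσl, h4]
  match_scalars <;> grind

end alg



section herm
variable {F : Type*} [Field F] {n q : ℕ}

theorem u3_adj (σ : F ≃+* F) (hσq : ∀ a, σ a = a ^ q) (hσ2 : ∀ a, σ (σ a) = a)
    (M : Matrix (Fin n) (Fin n) F) (u v : Fin n → F) :
    Cfsg.hermForm n F q (M *ᵥ u) v = Cfsg.hermForm n F q u (u3st σ M *ᵥ v) := by
  unfold Cfsg.hermForm
  simp only [Matrix.mulVec, dotProduct, ← hσq, map_sum, map_mul, u3st_apply, hσ2,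
    Finset.sum_mul, Finset.mul_sum]
  rw [Finset.sum_comm]
  apply Finset.sum_congr rfl
  intro j _
  apply Finset.sum_congr rfl
  intro i _
  ring

/-- the matrix facts for an element of order three of `GU` -/
theorem u3_basic (σ : F ≃+* F) (hσq : ∀ a, σ a = a ^ q) (x : GL (Fin n) F)
    (hxU : x ∈ Cfsg.GU n F q) (hx : x ^ 3 = 1) :
    (x : Matrix (Fin n) (Fin n) F) * ((x : Matrix (Fin n) (Fin n) F) * (x : Matrix (Fin n) (Fin n) F)) = 1 ∧
    u3st σ (x : Matrix (Fin n) (Fin n) F) =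
      (x : Matrix (Fin n) (Fin n) F) * (x : Matrix (Fin n) (Fin n) F) := by
  have h1 : (x : Matrix (Fin n) (Fin n) F) * ((x : Matrix (Fin n) (Fin n) F) * (x : Matrix (Fin n) (Fin n) F)) = 1 := by
    have := congrArg (fun g : GL (Fin n) F => (g : Matrix (Fin n) (Fin n) F)) hx
    simpa [pow_succ, mul_assoc] using this
  refine ⟨h1, ?_⟩
  have h2 := (mem_GU_iff' σ q hσq x).mp hxU
  have h3 : (x : Matrix (Fin n) (Fin n) F) * (x : Matrix (Fin n) (Fin n) F) * (x : Matrix (Fin n) (Fin n) F) = 1 := by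
    rw [mul_assoc]; exact h1
  calc u3st σ (x : Matrix (Fin n) (Fin n) F) = 1 * u3st σ (x : Matrix (Fin n) (Fin n) F) := (one_mul _).symm
    _ = (x : Matrix (Fin n) (Fin n) F) * (x : Matrix (Fin n) (Fin n) F) *
        ((x : Matrix (Fin n) (Fin n) F) * u3st σ (x : Matrix (Fin n) (Fin n) F)) := by
      rw [← mul_assoc, h3]
    _ = _ := by
      unfold u3st
      rw [h2, mul_one]

end herm


section eig
variable {F : Type*} [Field F] {n q : ℕ}

/-- the eigenspace of `X` for the eigenvalue `l`, as the range of the eigenprojection -/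
def u3A (l : F) (X : Matrix (Fin n) (Fin n) F) : Submodule F (Fin n → F) :=
  LinearMap.range (Matrix.toLin' (u3E l X))

theorem u3A_mem (h3 : (3 : F) ≠ 0) (l : F) (hl : l ^ 3 = 1) (X : Matrix (Fin n) (Fin n) F)
    (hX : X * (X * X) = 1) (v : Fin n → F) : v ∈ u3A l X ↔ u3E l X *ᵥ v = v := by
  constructor
  · rintro ⟨w, rfl⟩
    rw [Matrix.toLin'_apply, Matrix.mulVec_mulVec, u3E_idem h3 l hl X hX]
  · intro h
    exact ⟨v, by rw [Matrix.toLin'_apply, h]⟩

theorem u3A_mulVec_mem (l : F) (X : Matrix (Fin n) (Fin n) F) (v : Fin n → F) :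
    u3E l X *ᵥ v ∈ u3A l X := ⟨v, Matrix.toLin'_apply _ _⟩

theorem u3A_eigen (h3 : (3 : F) ≠ 0) (l : F) (hl : l ^ 3 = 1) (X : Matrix (Fin n) (Fin n) F)
    (hX : X * (X * X) = 1) (v : Fin n → F) (hv : v ∈ u3A l X) : X *ᵥ v = l • v := by
  rw [u3A_mem h3 l hl X hX] at hv
  conv_lhs => rw [← hv]
  rw [Matrix.mulVec_mulVec, u3E_mul_left l hl X hX, Matrix.smul_mulVec, hv]

theorem u3_omega (ω : F) (hω : ω ^ 2 + ω + 1 = 0) : ω ^ 3 = 1 := by
  linear_combination (ω - 1) * hω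

theorem u3A_isotropic (σ : F ≃+* F) (hσq : ∀ a, σ a = a ^ q) (hσ2 : ∀ a, σ (σ a) = a)
    (ω : F) (hω : ω ^ 2 + ω + 1 = 0) (hσω : σ ω = ω) (X : Matrix (Fin n) (Fin n) F)
    (hX : X * (X * X) = 1) (hXs : u3st σ X = X * X) :
    ∀ u ∈ u3A ω X, ∀ v ∈ u3A ω X, Cfsg.hermForm n F q u v = 0 := by
  have hω3 := u3_omega ω hω
  rintro _ ⟨u, rfl⟩ _ ⟨v, rfl⟩
  rw [Matrix.toLin'_apply, Matrix.toLin'_apply, u3_adj σ hσq hσ2, Matrix.mulVec_mulVec,
    u3st_E σ ω hω3 hσω X hX hXs, u3E_orth (ω ^ 2) ω hω3 (by linear_combination (ω ^ 3 - ω + 1) * hω) X hX,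
    Matrix.zero_mulVec]
  unfold Cfsg.hermForm
  have hq : q ≠ 0 := by
    rintro rfl
    have := hσq 0
    rw [map_zero, pow_zero] at this
    exact zero_ne_one this
  simp [hq]

theorem u3_trace (h3 : (3 : F) ≠ 0) (σ : F ≃+* F)
    (ω : F) (hω : ω ^ 2 + ω + 1 = 0) (hσω : σ ω = ω) (X : Matrix (Fin n) (Fin n) F)
    (hX : X * (X * X) = 1) (hXs : u3st σ X = X * X) :
    X.trace = (n : F) - 3 * (finrank F (u3A ω X) : F) := by
  have hω3 := u3_omega ω hω
  have hω6 : (ω ^ 2) ^ 3 = 1 := by rw [← pow_mul, mul_comm, pow_mul, hω3, one_pow]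
  have hsum := u3E_sum h3 ω hω X
  -- trace of the ω-projection
  have hidem : IsIdempotentElem (Matrix.toLin' (u3E ω X)) := by
    show Matrix.toLin' (u3E ω X) * Matrix.toLin' (u3E ω X) = Matrix.toLin' (u3E ω X)
    rw [Module.End.mul_eq_comp, ← Matrix.toLin'_mul, u3E_idem h3 ω hω3 X hX]
  have hproj := LinearMap.IsIdempotentElem.isProj_range _ hidem
  have ht : (u3E ω X).trace = (finrank F (u3A ω X) : F) := by
    rw [← Matrix.trace_toLin'_eq]
    exact hproj.trace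
  have ht2 : (u3E (ω ^ 2) X).trace = (finrank F (u3A ω X) : F) := by
    rw [← u3st_E σ ω hω3 hσω X hX hXs]
    have : (u3st σ (u3E ω X)).trace = σ ((u3E ω X).trace) := by
      unfold u3st
      rw [Matrix.trace_transpose]
      unfold Matrix.trace
      rw [map_sum]
      rfl
    rw [this, ht, map_natCast]
  have ht1 : (u3E 1 X).trace = (n : F) - 2 * (finrank F (u3A ω X) : F) := by
    have := congrArg Matrix.trace hsum
    rw [Matrix.trace_add, Matrix.trace_add, ht, ht2, Matrix.trace_one, Fintype.card_fin] at this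
    linear_combination this
  have hXd : X = u3E 1 X + ω • u3E ω X + ω ^ 2 • u3E (ω ^ 2) X := by
    conv_lhs => rw [← mul_one X, ← hsum]
    rw [mul_add, mul_add, u3E_mul_left 1 (one_pow 3) X hX, u3E_mul_left ω hω3 X hX,
      u3E_mul_left (ω ^ 2) hω6 X hX, one_smul]
  conv_lhs => rw [hXd]
  rw [Matrix.trace_add, Matrix.trace_add, Matrix.trace_smul, Matrix.trace_smul, ht, ht1, ht2,
    smul_eq_mul, smul_eq_mul]
  linear_combination (finrank F (u3A ω X) : F) * hω

end eig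


section dims
variable {F : Type*} [Field F] [Fintype F] {n q : ℕ}

theorem u3A_finrank_le (σ : F ≃+* F) (hσ : orderOf σ = 2) (hσq : ∀ a, σ a = a ^ q)
    (h : IsHerm σ (Cfsg.hermForm n F q))
    (hnd : ∀ v, (∀ w, Cfsg.hermForm n F q v w = 0) → v = 0)
    (ω : F) (hω : ω ^ 2 + ω + 1 = 0) (hσω : σ ω = ω) (X : Matrix (Fin n) (Fin n) F)
    (hX : X * (X * X) = 1) (hXs : u3st σ X = X * X) :
    2 * finrank F (u3A ω X) ≤ n := by
  have hσ2 := WittHerm.sigma_sigma hσ
  have hiso := u3A_isotropic σ hσq hσ2 ω hω hσω X hX hXs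
  have h1 := finrank_orthoCompl hσ h hnd (u3A ω X)
  have h2 : u3A ω X ≤ orthoCompl h (u3A ω X) := by
    intro v hv w hw
    exact hiso w hw v hv
  have h3 := Submodule.finrank_mono h2
  rw [Module.finrank_fin_fun] at h1
  omega

theorem u3A_finrank_pos (h3 : (3 : F) ≠ 0) (σ : F ≃+* F)
    (ω : F) (hω : ω ^ 2 + ω + 1 = 0) (hσω : σ ω = ω) (X : Matrix (Fin n) (Fin n) F)
    (hX : X * (X * X) = 1) (hXs : u3st σ X = X * X) (hX1 : X ≠ 1) :
    1 ≤ finrank F (u3A ω X) := by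
  have hω3 := u3_omega ω hω
  by_contra hcon
  have h0 : finrank F (u3A ω X) = 0 := by omega
  have hbot : u3A ω X = ⊥ := Submodule.finrank_eq_zero.mp h0
  have hE : u3E ω X = 0 := by
    have : Matrix.toLin' (u3E ω X) = 0 := LinearMap.range_eq_bot.mp hbot
    rw [← LinearMap.toMatrix'_toLin' (u3E ω X), this, map_zero]
  have hE2 : u3E (ω ^ 2) X = 0 := by
    rw [← u3st_E σ ω hω3 hσω X hX hXs, hE, u3st_zero]
  have hsum := u3E_sum h3 ω hω X
  rw [hE, hE2, add_zero, add_zero] at hsum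
  apply hX1
  have := u3E_mul_left 1 (one_pow 3) X hX
  rw [hsum, mul_one, one_smul] at this
  exact this

end dims

section U3a
variable {F : Type*} [Field F] [Fintype F] {p : ℕ} [Fact p.Prime] [CharP F p]

theorem gu4_order3_trace (hF : Fintype.card F = p ^ 2) (h3 : (3 : F) ≠ 0)
    (ω : F) (hω : ω ^ 2 + ω + 1 = 0) (hωp : ω ^ p = ω)
    (x : GL (Fin 4) F) (hxU : x ∈ Cfsg.GU 4 F p) (hx : x ^ 3 = 1) (hx1 : x ≠ 1) :
    (x : Matrix (Fin 4) (Fin 4) F).trace = 1 ∨ (x : Matrix (Fin 4) (Fin 4) F).trace = -2 := by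
  obtain ⟨σ, hσ, hσq, h, hnd⟩ := exists_data hF 4
  have hσω : σ ω = ω := by rw [hσq, hωp]
  obtain ⟨hX, hXs⟩ := u3_basic σ hσq x hxU hx
  have hX1 : (x : Matrix (Fin 4) (Fin 4) F) ≠ 1 := by
    intro h1
    exact hx1 (Units.ext h1)
  have h1 := u3A_finrank_le σ hσ hσq h hnd ω hω hσω _ hX hXs
  have h2 := u3A_finrank_pos h3 σ ω hω hσω _ hX hXs hX1
  have ht := u3_trace h3 σ ω hω hσω _ hX hXs
  have hm : finrank F (u3A ω (x : Matrix (Fin 4) (Fin 4) F)) = 1 ∨
      finrank F (u3A ω (x : Matrix (Fin 4) (Fin 4) F)) = 2 := by omega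
  rcases hm with hm | hm
  · left
    rw [ht, hm]
    push_cast
    ring
  · right
    rw [ht, hm]
    push_cast
    ring

end U3a


end Cfsg.Agent.Lib.C6PkU
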