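import Mathlib
import Cfsg.Agent.Lib.Helper2.C6PkU3a

set_option autoImplicit false
set_option linter.unusedSectionVars false
open scoped MatrixGroups

/-!
S6001 package PK-U3b (leader helper9): elements of order three of `GU_4(p)` with the same trace are
conjugate in `SU_4(p)`, when the cube roots of unity lie in the prime field.
Witt's lemma moves the `ω`-eigenspace of `x` onto that of `y`; then `K = Σ E_a(y) G E_a(x)` is a unitary
intertwiner; the determinant is corrected by a hyperbolic rotation commuting with `y`.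
-/

namespace Cfsg.Agent.Lib.C6PkU

open Matrix Module Cfsg.Agent.Lib.Helper5.PSLCoset Cfsg.Agent.Lib.Helper2
  Cfsg.Agent.Lib.Helper2.HermDecomp Cfsg.Agent.Lib.Helper2.HermFrames


section ringlemma
variable {R : Type*} [Ring R]

theorem u3_nine (P1 P2 P3 Q1 Q2 Q3 G G' : R)
    (h12 : Q1 * Q2 = 0) (h13 : Q1 * Q3 = 0) (h21 : Q2 * Q1 = 0) (h23 : Q2 * Q3 = 0)
    (h31 : Q3 * Q1 = 0) (h32 : Q3 * Q2 = 0)
    (h11 : Q1 * Q1 = Q1) (h22 : Q2 * Q2 = Q2) (h33 : Q3 * Q3 = Q3)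
    (d1 : P1 * G' * Q1 * G * P1 = P1) (d2 : P2 * G' * Q2 * G * P2 = P2)
    (d3 : P3 * G' * Q3 * G * P3 = P3) (hP : P1 + P2 + P3 = 1) :
    (P1 * G' * Q1 + P2 * G' * Q2 + P3 * G' * Q3) * (Q1 * G * P1 + Q2 * G * P2 + Q3 * G * P3) = 1 := by
  have t : ∀ (P Q Q' P' : R), (P * G' * Q) * (Q' * G * P') = P * G' * (Q * Q') * G * P' := by
    intro P Q Q' P'
    simp only [mul_assoc]
  simp only [add_mul, mul_add, t, h12, h13, h21, h23, h31, h32, h11, h22, h33, mul_zero, zero_mul,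
    add_zero, zero_add, d1, d2, d3]
  exact hP

end ringlemma


section Kmat
variable {F : Type*} [Field F] {n : ℕ}

/-- the intertwiner built from the eigenprojections -/
def u3K (ω : F) (X Y G : Matrix (Fin n) (Fin n) F) : Matrix (Fin n) (Fin n) F :=
  u3E 1 Y * G * u3E 1 X + u3E ω Y * G * u3E ω X + u3E (ω ^ 2) Y * G * u3E (ω ^ 2) X

theorem u3K_intertwines (ω : F) (hω : ω ^ 2 + ω + 1 = 0)
    (X Y G : Matrix (Fin n) (Fin n) F) (hX : X * (X * X) = 1) (hY : Y * (Y * Y) = 1) :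
    u3K ω X Y G * X = Y * u3K ω X Y G := by
  have hω3 := u3_omega ω hω
  have hω6 : (ω ^ 2) ^ 3 = 1 := by rw [← pow_mul, mul_comm, pow_mul, hω3, one_pow]
  unfold u3K
  simp only [add_mul, mul_add]
  rw [mul_assoc _ _ X, mul_assoc _ _ X, mul_assoc _ _ X, u3E_mul_right 1 (one_pow 3) X hX,
    u3E_mul_right ω hω3 X hX, u3E_mul_right (ω ^ 2) hω6 X hX]
  rw [← mul_assoc Y, ← mul_assoc Y, ← mul_assoc Y, ← mul_assoc Y, ← mul_assoc Y, ← mul_assoc Y,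
    u3E_mul_left 1 (one_pow 3) Y hY, u3E_mul_left ω hω3 Y hY, u3E_mul_left (ω ^ 2) hω6 Y hY]
  simp only [mul_smul_comm, smul_mul_assoc]

theorem u3K_unitary (h3 : (3 : F) ≠ 0) (σ : F ≃+* F) (hσ2 : ∀ a, σ (σ a) = a)
    (ω : F) (hω : ω ^ 2 + ω + 1 = 0) (hσω : σ ω = ω)
    (X Y G G' : Matrix (Fin n) (Fin n) F) (hX : X * (X * X) = 1) (hXs : u3st σ X = X * X)
    (hY : Y * (Y * Y) = 1) (hYs : u3st σ Y = Y * Y)
    (hG'G : G' * G = 1) (hGs : u3st σ G = G')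
    (R1 : u3E ω Y * G * u3E ω X = G * u3E ω X)
    (R2 : u3E ω X * G' * u3E ω Y = G' * u3E ω Y) :
    u3st σ (u3K ω X Y G) * u3K ω X Y G = 1 := by
  have hω3 := u3_omega ω hω
  have hω6 : (ω ^ 2) ^ 3 = 1 := by rw [← pow_mul, mul_comm, pow_mul, hω3, one_pow]
  have hω4 : (ω ^ 2) ^ 2 = ω := by linear_combination ω * hω3
  have hσω2 : σ (ω ^ 2) = ω ^ 2 := by rw [map_pow, hσω]
  have hG's : u3st σ G' = G := by rw [← hGs, u3st_u3st σ hσ2]
  -- adjoints of the projections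
  have sP1 : u3st σ (u3E 1 X) = u3E 1 X := by
    have := u3st_E σ 1 (one_pow 3) (map_one σ) X hX hXs
    rwa [one_pow] at this
  have sPw : u3st σ (u3E ω X) = u3E (ω ^ 2) X := u3st_E σ ω hω3 hσω X hX hXs
  have sPw2 : u3st σ (u3E (ω ^ 2) X) = u3E ω X := by
    have := u3st_E σ (ω ^ 2) hω6 hσω2 X hX hXs
    rwa [hω4] at this
  have sQ1 : u3st σ (u3E 1 Y) = u3E 1 Y := by
    have := u3st_E σ 1 (one_pow 3) (map_one σ) Y hY hYs
    rwa [one_pow] at this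
  have sQw : u3st σ (u3E ω Y) = u3E (ω ^ 2) Y := u3st_E σ ω hω3 hσω Y hY hYs
  have sQw2 : u3st σ (u3E (ω ^ 2) Y) = u3E ω Y := by
    have := u3st_E σ (ω ^ 2) hω6 hσω2 Y hY hYs
    rwa [hω4] at this
  have hst : u3st σ (u3K ω X Y G) =
      u3E 1 X * G' * u3E 1 Y + u3E (ω ^ 2) X * G' * u3E (ω ^ 2) Y + u3E ω X * G' * u3E ω Y := by
    unfold u3K
    simp only [u3st_add, u3st_mul, sP1, sPw, sPw2, sQ1, sQw, sQw2, hGs, mul_assoc]
  -- orthogonality relations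
  have o1w : (1 : F) + 1 ^ 2 * ω + 1 * ω ^ 2 = 0 := by linear_combination hω
  have o1w2 : (1 : F) + 1 ^ 2 * ω ^ 2 + 1 * (ω ^ 2) ^ 2 = 0 := by
    linear_combination (ω ^ 2 - ω + 1) * hω
  have ow1 : (1 : F) + ω ^ 2 * 1 + ω * 1 ^ 2 = 0 := by linear_combination hω
  have oww2 : (1 : F) + ω ^ 2 * ω ^ 2 + ω * (ω ^ 2) ^ 2 = 0 := by
    linear_combination (ω ^ 3 - ω + 1) * hω
  have ow21 : (1 : F) + (ω ^ 2) ^ 2 * 1 + ω ^ 2 * 1 ^ 2 = 0 := by
    linear_combination (ω ^ 2 - ω + 1) * hω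
  have ow2w : (1 : F) + (ω ^ 2) ^ 2 * ω + ω ^ 2 * ω ^ 2 = 0 := by
    linear_combination (ω ^ 3 - ω + 1) * hω
  -- diagonal identities
  have dw : u3E ω X * G' * u3E ω Y * G * u3E ω X = u3E ω X := by
    calc u3E ω X * G' * u3E ω Y * G * u3E ω X
        = u3E ω X * G' * (u3E ω Y * G * u3E ω X) := by simp only [mul_assoc]
      _ = u3E ω X * G' * (G * u3E ω X) := by rw [R1]
      _ = u3E ω X * (G' * G) * u3E ω X := by simp only [mul_assoc]
      _ = u3E ω X := by rw [hG'G, mul_one, u3E_idem h3 ω hω3 X hX]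
  have dw2 : u3E (ω ^ 2) X * G' * u3E (ω ^ 2) Y * G * u3E (ω ^ 2) X = u3E (ω ^ 2) X := by
    have := congrArg (u3st σ) dw
    simp only [u3st_mul, sPw, sQw, hGs, hG's] at this
    simpa only [mul_assoc] using this
  have z1 : u3E 1 X * G' * u3E ω Y = 0 := by
    rw [mul_assoc, ← R2, ← mul_assoc, ← mul_assoc, u3E_orth 1 ω hω3 o1w X hX, zero_mul, zero_mul]
  have z2 : u3E (ω ^ 2) Y * G * u3E 1 X = 0 := by
    have := congrArg (u3st σ) z1
    simp only [u3st_mul, sP1, sQw, hG's, u3st_zero] at this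
    simpa only [mul_assoc] using this
  have hQ1 : u3E 1 Y = 1 - u3E ω Y - u3E (ω ^ 2) Y := by
    have := u3E_sum h3 ω hω Y
    rw [← this]; abel
  have d1 : u3E 1 X * G' * u3E 1 Y * G * u3E 1 X = u3E 1 X := by
    have e1 : u3E 1 X * G' * u3E 1 Y * G * u3E 1 X =
        u3E 1 X * (G' * G) * u3E 1 X - (u3E 1 X * G' * u3E ω Y) * G * u3E 1 X -
          u3E 1 X * G' * (u3E (ω ^ 2) Y * G * u3E 1 X) := by
      rw [hQ1]
      simp only [mul_sub, sub_mul, mul_one, mul_assoc]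
    rw [e1, z1, z2, zero_mul, zero_mul, mul_zero, sub_zero, sub_zero, hG'G, mul_one,
      u3E_idem h3 1 (one_pow 3) X hX]
  rw [hst]
  have hP : u3E 1 X + u3E (ω ^ 2) X + u3E ω X = 1 := by
    rw [← u3E_sum h3 ω hω X]; abel
  have key := u3_nine (u3E 1 X) (u3E (ω ^ 2) X) (u3E ω X) (u3E 1 Y) (u3E (ω ^ 2) Y) (u3E ω Y) G G'
    (u3E_orth 1 (ω ^ 2) hω6 o1w2 Y hY) (u3E_orth 1 ω hω3 o1w Y hY)
    (u3E_orth (ω ^ 2) 1 (one_pow 3) ow21 Y hY) (u3E_orth (ω ^ 2) ω hω3 ow2w Y hY)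
    (u3E_orth ω 1 (one_pow 3) ow1 Y hY) (u3E_orth ω (ω ^ 2) hω6 oww2 Y hY)
    (u3E_idem h3 1 (one_pow 3) Y hY) (u3E_idem h3 (ω ^ 2) hω6 Y hY) (u3E_idem h3 ω hω3 Y hY)
    d1 dw2 dw hP
  have hK : u3K ω X Y G =
      u3E 1 Y * G * u3E 1 X + u3E (ω ^ 2) Y * G * u3E (ω ^ 2) X + u3E ω Y * G * u3E ω X := by
    unfold u3K; abel
  rw [hK]
  exact key

end Kmat



section witt
variable {F : Type*} [Field F] [Fintype F] {n q : ℕ}

theorem u3_mat_ext (M N : Matrix (Fin n) (Fin n) F) (h : ∀ v, M *ᵥ v = N *ᵥ v) : M = N := by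
  apply Matrix.toLin'.injective
  apply LinearMap.ext
  intro v
  rw [Matrix.toLin'_apply, Matrix.toLin'_apply, h]

theorem u3_nondeg_right (σ : F ≃+* F) (h : IsHerm σ (Cfsg.hermForm n F q))
    (hnd : ∀ v, (∀ w, Cfsg.hermForm n F q v w = 0) → v = 0) (z : Fin n → F)
    (hz : ∀ u, Cfsg.hermForm n F q u z = 0) : z = 0 := by
  apply hnd
  intro w
  rw [h.symm, hz, map_zero]

theorem u3_witt (h3 : (3 : F) ≠ 0) (σ : F ≃+* F) (hσ : orderOf σ = 2) (hσq : ∀ a, σ a = a ^ q)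
    (h : IsHerm σ (Cfsg.hermForm n F q))
    (hnd : ∀ v, (∀ w, Cfsg.hermForm n F q v w = 0) → v = 0)
    (ω : F) (hω : ω ^ 2 + ω + 1 = 0) (hσω : σ ω = ω) (X Y : Matrix (Fin n) (Fin n) F)
    (hX : X * (X * X) = 1) (hXs : u3st σ X = X * X)
    (hY : Y * (Y * Y) = 1) (hYs : u3st σ Y = Y * Y)
    (heq : finrank F (u3A ω X) = finrank F (u3A ω Y)) :
    ∃ G G' : Matrix (Fin n) (Fin n) F, G' * G = 1 ∧ G * G' = 1 ∧ u3st σ G = G' ∧
      u3E ω Y * G * u3E ω X = G * u3E ω X ∧ u3E ω X * G' * u3E ω Y = G' * u3E ω Y := by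
  have hσ2 := WittHerm.sigma_sigma hσ
  have hω3 := u3_omega ω hω
  have hisoX := u3A_isotropic σ hσq hσ2 ω hω hσω X hX hXs
  have hisoY := u3A_isotropic σ hσq hσ2 ω hω hσω Y hY hYs
  let e : u3A ω X ≃ₗ[F] u3A ω Y := LinearEquiv.ofFinrankEq _ _ heq
  obtain ⟨g, hg1, hg2⟩ := WittHerm.witt_aux hσ h hnd _ (u3A ω X) (u3A ω X).subtype
    ((u3A ω Y).subtype.comp e.toLinearMap) rfl (Submodule.subtype_injective _)
    (by
      intro a b hab
      apply e.injective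
      exact Subtype.ext hab)
    (by
      intro a b
      rw [Submodule.subtype_apply, Submodule.subtype_apply, hisoX _ a.2 _ b.2]
      symm
      exact hisoY _ (e a).2 _ (e b).2)
  have hg2' : ∀ a : u3A ω X, g (a : Fin n → F) = (e a : Fin n → F) := hg2
  set G : Matrix (Fin n) (Fin n) F := LinearMap.toMatrix' (g : (Fin n → F) →ₗ[F] (Fin n → F)) with hG
  set G' : Matrix (Fin n) (Fin n) F :=
    LinearMap.toMatrix' (g.symm : (Fin n → F) →ₗ[F] (Fin n → F)) with hG'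
  have hGv : ∀ v, G *ᵥ v = g v := fun v => LinearMap.toMatrix'_mulVec _ v
  have hG'v : ∀ v, G' *ᵥ v = g.symm v := fun v => LinearMap.toMatrix'_mulVec _ v
  have hG'G : G' * G = 1 := by
    apply u3_mat_ext
    intro v
    rw [← Matrix.mulVec_mulVec, hGv, hG'v, LinearEquiv.symm_apply_apply, Matrix.one_mulVec]
  have hGG' : G * G' = 1 := by
    apply u3_mat_ext
    intro v
    rw [← Matrix.mulVec_mulVec, hG'v, hGv, LinearEquiv.apply_symm_apply, Matrix.one_mulVec]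
  have hstG : u3st σ G * G = 1 := by
    apply u3_mat_ext
    intro v
    rw [Matrix.one_mulVec]
    have : (u3st σ G * G) *ᵥ v - v = 0 := by
      apply u3_nondeg_right σ h hnd
      intro u
      rw [h.sub_right, ← Matrix.mulVec_mulVec, ← u3_adj σ hσq hσ2, hGv, hGv, hg1, sub_self]
    exact sub_eq_zero.mp this
  have hGs : u3st σ G = G' := by
    calc u3st σ G = u3st σ G * (G * G') := by rw [hGG', mul_one]
      _ = G' := by rw [← mul_assoc, hstG, one_mul]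
  refine ⟨G, G', hG'G, hGG', hGs, ?_, ?_⟩
  · apply u3_mat_ext
    intro v
    rw [← Matrix.mulVec_mulVec, ← Matrix.mulVec_mulVec, ← Matrix.mulVec_mulVec]
    have ha := u3A_mulVec_mem ω X v
    have h1 : G *ᵥ (u3E ω X *ᵥ v) = (e ⟨_, ha⟩ : Fin n → F) := by
      rw [hGv]; exact hg2' ⟨_, ha⟩
    rw [h1]
    exact (u3A_mem h3 ω hω3 Y hY _).mp (e ⟨_, ha⟩).2
  · apply u3_mat_ext
    intro v
    rw [← Matrix.mulVec_mulVec, ← Matrix.mulVec_mulVec, ← Matrix.mulVec_mulVec]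
    have hb := u3A_mulVec_mem ω Y v
    have h1 : G' *ᵥ (u3E ω Y *ᵥ v) = (e.symm ⟨_, hb⟩ : Fin n → F) := by
      rw [hG'v, LinearEquiv.symm_apply_eq, hg2', LinearEquiv.apply_symm_apply]
    rw [h1]
    exact (u3A_mem h3 ω hω3 X hX _).mp (e.symm ⟨_, hb⟩).2

end witt



section detfix
variable {F : Type*} [Field F] [Fintype F] {n q : ℕ}

theorem u3_omega_sq (ω : F) (hω : ω ^ 2 + ω + 1 = 0) : (ω ^ 2) ^ 2 + ω ^ 2 + 1 = 0 := by
  linear_combination (ω ^ 2 - ω + 1) * hω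

theorem u3_dual_pair (h3 : (3 : F) ≠ 0) (σ : F ≃+* F) (hσ : orderOf σ = 2)
    (hσq : ∀ a, σ a = a ^ q) (h : IsHerm σ (Cfsg.hermForm n F q))
    (hnd : ∀ v, (∀ w, Cfsg.hermForm n F q v w = 0) → v = 0)
    (ω : F) (hω : ω ^ 2 + ω + 1 = 0) (hσω : σ ω = ω) (Y : Matrix (Fin n) (Fin n) F)
    (hY : Y * (Y * Y) = 1) (hYs : u3st σ Y = Y * Y) (hpos : 1 ≤ finrank F (u3A ω Y)) :
    ∃ u v : Fin n → F, u ∈ u3A ω Y ∧ v ∈ u3A (ω ^ 2) Y ∧ Cfsg.hermForm n F q u u = 0 ∧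
      Cfsg.hermForm n F q v v = 0 ∧ Cfsg.hermForm n F q u v = 1 := by
  have hσ2 := WittHerm.sigma_sigma hσ
  have hω3 := u3_omega ω hω
  have hσω2 : σ (ω ^ 2) = ω ^ 2 := by rw [map_pow, hσω]
  have hne : u3A ω Y ≠ ⊥ := by
    intro hbot
    rw [hbot, finrank_bot] at hpos
    omega
  obtain ⟨u, hu, hu0⟩ := Submodule.exists_mem_ne_zero_of_ne_bot hne
  obtain ⟨w, hw⟩ : ∃ w, Cfsg.hermForm n F q u w ≠ 0 := by
    by_contra hcon
    push Not at hcon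
    exact hu0 (hnd u hcon)
  have hEu : u3E ω Y *ᵥ u = u := (u3A_mem h3 ω hω3 Y hY u).mp hu
  have h1 : Cfsg.hermForm n F q u (u3E (ω ^ 2) Y *ᵥ w) = Cfsg.hermForm n F q u w := by
    rw [← u3st_E σ ω hω3 hσω Y hY hYs, ← u3_adj σ hσq hσ2, hEu]
  set v₀ := u3E (ω ^ 2) Y *ᵥ w with hv₀
  have hv₀mem : v₀ ∈ u3A (ω ^ 2) Y := u3A_mulVec_mem _ _ _
  have hne0 : Cfsg.hermForm n F q u v₀ ≠ 0 := by rw [h1]; exact hw
  refine ⟨u, σ ((Cfsg.hermForm n F q u v₀)⁻¹) • v₀, hu, Submodule.smul_mem _ _ hv₀mem, ?_, ?_, ?_⟩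
  · exact u3A_isotropic σ hσq hσ2 ω hω hσω Y hY hYs u hu u hu
  · exact u3A_isotropic σ hσq hσ2 (ω ^ 2) (u3_omega_sq ω hω) hσω2 Y hY hYs _
      (Submodule.smul_mem _ _ hv₀mem) _ (Submodule.smul_mem _ _ hv₀mem)
  · rw [h.smul_right, hσ2, inv_mul_cancel₀ hne0]

theorem u3_hyp_commute (h3 : (3 : F) ≠ 0) (σ : F ≃+* F) (hσ : orderOf σ = 2)
    (hσq : ∀ a, σ a = a ^ q) (h : IsHerm σ (Cfsg.hermForm n F q))
    (ω : F) (hω : ω ^ 2 + ω + 1 = 0) (hσω : σ ω = ω) (Y : Matrix (Fin n) (Fin n) F)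
    (hY : Y * (Y * Y) = 1) (hYs : u3st σ Y = Y * Y) (u v : Fin n → F)
    (hu : u ∈ u3A ω Y) (hv : v ∈ u3A (ω ^ 2) Y) (hvv : Cfsg.hermForm n F q v v = 0) (a b : F) :
    hypRot q u v a b * Y = Y * hypRot q u v a b := by
  have hσ2 := WittHerm.sigma_sigma hσ
  have hω3 := u3_omega ω hω
  have hω6 : (ω ^ 2) ^ 3 = 1 := by rw [← pow_mul, mul_comm, pow_mul, hω3, one_pow]
  have hYu : Y *ᵥ u = ω • u := u3A_eigen h3 ω hω3 Y hY u hu
  have hYv : Y *ᵥ v = ω ^ 2 • v := u3A_eigen h3 (ω ^ 2) hω6 Y hY v hv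
  have hzv : ∀ z, Cfsg.hermForm n F q (Y *ᵥ z) v = ω * Cfsg.hermForm n F q z v := by
    intro z
    rw [u3_adj σ hσq hσ2, hYs, ← Matrix.mulVec_mulVec, hYv, Matrix.mulVec_smul, hYv, smul_smul,
      h.smul_right, map_mul, map_pow, hσω]
    have : ω ^ 2 * ω ^ 2 = ω := by linear_combination ω * hω3
    rw [this]
  have hzu : ∀ z, Cfsg.hermForm n F q (Y *ᵥ z) u = ω ^ 2 * Cfsg.hermForm n F q z u := by
    intro z
    rw [u3_adj σ hσq hσ2, hYs, ← Matrix.mulVec_mulVec, hYu, Matrix.mulVec_smul, hYu, smul_smul,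
      h.smul_right, map_mul, hσω, pow_two]
  apply u3_mat_ext
  intro z
  rw [← Matrix.mulVec_mulVec, ← Matrix.mulVec_mulVec, hypRot_mulVec h u v hvv,
    hypRot_mulVec h u v hvv, hzv, hzu, Matrix.mulVec_add, Matrix.mulVec_add, Matrix.mulVec_smul,
    Matrix.mulVec_smul, hYu, hYv, smul_smul, smul_smul]
  congr 2 <;> ring_nf

end detfix



section final
variable {F : Type*} [Field F] [Fintype F] {p : ℕ} [Fact p.Prime] [CharP F p]

theorem u3_mem_sl_iff {ι : Type} [Fintype ι] [DecidableEq ι] (g : GL ι F) :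
    g ∈ Cfsg.Geo.specialLinear ι F ↔ (g : Matrix ι ι F).det = 1 := by
  unfold Cfsg.Geo.specialLinear
  rw [MonoidHom.mem_ker]
  constructor
  · intro h
    have := congrArg Units.val h
    rwa [Matrix.GeneralLinearGroup.val_det_apply] at this
  · intro h
    apply Units.ext
    rw [Matrix.GeneralLinearGroup.val_det_apply, h]
    rfl

theorem u3_det_st {n : ℕ} (σ : F ≃+* F) (M : Matrix (Fin n) (Fin n) F) :
    (u3st σ M).det = σ M.det := by
  unfold u3st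
  rw [Matrix.det_transpose]
  exact ((σ : F →+* F).map_det M).symm

theorem su4_order3_conj (hF : Fintype.card F = p ^ 2) (h2 : (2 : F) ≠ 0) (h3 : (3 : F) ≠ 0)
    (ω : F) (hω : ω ^ 2 + ω + 1 = 0) (hωp : ω ^ p = ω)
    (x y : GL (Fin 4) F) (hxU : x ∈ Cfsg.GU 4 F p) (hyU : y ∈ Cfsg.GU 4 F p)
    (hx : x ^ 3 = 1) (hy : y ^ 3 = 1) (hx1 : x ≠ 1) (hy1 : y ≠ 1)
    (htr : (x : Matrix (Fin 4) (Fin 4) F).trace = (y : Matrix (Fin 4) (Fin 4) F).trace) :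
    ∃ g ∈ Cfsg.GU 4 F p ⊓ Cfsg.Geo.specialLinear (Fin 4) F, g⁻¹ * x * g = y := by
  obtain ⟨σ, hσ, hσq, h, hnd⟩ := exists_data hF 4
  have hσ2 := WittHerm.sigma_sigma hσ
  have hσω : σ ω = ω := by rw [hσq, hωp]
  obtain ⟨hX, hXs⟩ := u3_basic σ hσq x hxU hx
  obtain ⟨hY, hYs⟩ := u3_basic σ hσq y hyU hy
  set X : Matrix (Fin 4) (Fin 4) F := (x : Matrix (Fin 4) (Fin 4) F) with hXdef
  set Y : Matrix (Fin 4) (Fin 4) F := (y : Matrix (Fin 4) (Fin 4) F) with hYdef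
  have hX1 : X ≠ 1 := fun h1 => hx1 (Units.ext h1)
  have hY1 : Y ≠ 1 := fun h1 => hy1 (Units.ext h1)
  have hxle := u3A_finrank_le σ hσ hσq h hnd ω hω hσω X hX hXs
  have hxpos := u3A_finrank_pos h3 σ ω hω hσω X hX hXs hX1
  have hyle := u3A_finrank_le σ hσ hσq h hnd ω hω hσω Y hY hYs
  have hypos := u3A_finrank_pos h3 σ ω hω hσω Y hY hYs hY1
  have htx := u3_trace h3 σ ω hω hσω X hX hXs
  have hty := u3_trace h3 σ ω hω hσω Y hY hYs
  have heq : finrank F (u3A ω X) = finrank F (u3A ω Y) := by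
    rw [htx, hty] at htr
    have hmx : finrank F (u3A ω X) = 1 ∨ finrank F (u3A ω X) = 2 := by omega
    have hmy : finrank F (u3A ω Y) = 1 ∨ finrank F (u3A ω Y) = 2 := by omega
    rcases hmx with hmx | hmx <;> rcases hmy with hmy | hmy
    · rw [hmx, hmy]
    · exfalso
      rw [hmx, hmy] at htr
      apply h3
      push_cast at htr
      linear_combination htr
    · exfalso
      rw [hmx, hmy] at htr
      apply h3
      push_cast at htr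
      linear_combination -htr
    · rw [hmx, hmy]
  obtain ⟨G, G', hG'G, hGG', hGs, R1, R2⟩ :=
    u3_witt h3 σ hσ hσq h hnd ω hω hσω X Y hX hXs hY hYs heq
  set K := u3K ω X Y G with hK
  have hKK : u3st σ K * K = 1 :=
    u3K_unitary h3 σ hσ2 ω hω hσω X Y G G' hX hXs hY hYs hG'G hGs R1 R2
  have hKK' : K * u3st σ K = 1 := mul_eq_one_comm.mp hKK
  have hKX : K * X = Y * K := u3K_intertwines ω hω X Y G hX hY
  -- the determinant
  have hδ : σ K.det * K.det = 1 := by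
    rw [← u3_det_st, ← Matrix.det_mul, hKK, Matrix.det_one]
  have hδ0 : K.det ≠ 0 := by
    intro h0
    rw [h0, mul_zero] at hδ
    exact zero_ne_one hδ
  have hl : (K.det)⁻¹ * σ ((K.det)⁻¹) = 1 := by
    rw [map_inv₀, ← mul_inv, mul_comm, inv_eq_one]
    exact hδ
  obtain ⟨a, ha0, ha⟩ := exists_hilbert90 hσ (K.det)⁻¹ hl
  have hσa0 : σ a ≠ 0 := by
    intro h0
    apply ha0
    have := congrArg σ h0
    rwa [hσ2, map_zero] at this
  obtain ⟨u, v, hu, hv, huu, hvv, huv⟩ :=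
    u3_dual_pair h3 σ hσ hσq h hnd ω hω hσω Y hY hYs hypos
  have hvu : Cfsg.hermForm 4 F p v u = 1 := by rw [h.symm, huv, map_one]
  set C := hypRot p u v a (σ a)⁻¹ with hC
  have hab : a * σ ((σ a)⁻¹) = 1 := by
    rw [map_inv₀, hσ2, mul_inv_cancel₀ ha0]
  have hCpres := hypRot_preserves hσ2 h u v huu hvv huv a (σ a)⁻¹ hab
  have hCdet : C.det = (K.det)⁻¹ := by
    rw [hC, det_hypRot u v huv hvu, mul_inv_eq_iff_eq_mul₀ hσa0]
    exact ha
  have hCY : C * Y = Y * C :=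
    u3_hyp_commute h3 σ hσ hσq h ω hω hσω Y hY hYs u v hu hv hvv a (σ a)⁻¹
  -- the group elements
  let cGU : Cfsg.GU 4 F p := Cfsg.Agent.Lib.Helper1.GUBasic.mkGU hF C hCpres
  have hc : ((cGU : GL (Fin 4) F) : Matrix (Fin 4) (Fin 4) F) = C :=
    Cfsg.Agent.Lib.Helper1.GUBasic.mkGU_coe hF C hCpres
  let kGL : GL (Fin 4) F := ⟨K, u3st σ K, hKK', hKK⟩
  have hkU : kGL ∈ Cfsg.GU 4 F p := by
    rw [mem_GU_iff' σ p hσq]
    exact hKK'
  refine ⟨((cGU : GL (Fin 4) F) * kGL)⁻¹, ⟨?_, ?_⟩, ?_⟩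
  · exact Subgroup.inv_mem _ (Subgroup.mul_mem _ cGU.2 hkU)
  · apply Subgroup.inv_mem
    rw [u3_mem_sl_iff, Units.val_mul, Matrix.det_mul, hc]
    show C.det * K.det = 1
    rw [hCdet, inv_mul_cancel₀ hδ0]
  · rw [inv_inv, mul_inv_eq_iff_eq_mul]
    apply Units.ext
    rw [Units.val_mul, Units.val_mul, Units.val_mul, Units.val_mul, hc]
    show C * K * X = Y * (C * K)
    rw [mul_assoc, hKX, ← mul_assoc, hCY, mul_assoc]

end final


end Cfsg.Agent.Lib.C6PkU
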