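import Mathlib

/-!
# Canonical lifts to a central extension over perfect subgroups with sections
-/

set_option autoImplicit false
set_option linter.unusedSectionVars false
set_option linter.unusedVariables false

namespace Cfsg.Agent.Lib.Helper2.CL

open scoped commutatorElement

section perfect
variable {H E : Type*} [Group H] [Group E]

theorem conj_central {z : E} (hz : z ∈ Subgroup.center E) (w : E) : z * w * z⁻¹ = w := by
  rw [← (Subgroup.mem_center_iff.1 hz w)]; group

theorem comm_central_left {z : E} (hz : z ∈ Subgroup.center E) (a y : E) :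
    ⁅z * a, y⁆ = ⁅a, y⁆ := by
  simp only [commutatorElement_def]
  calc z * a * y * (z * a)⁻¹ * y⁻¹ = z * (a * y * a⁻¹) * z⁻¹ * y⁻¹ := by group
    _ = a * y * a⁻¹ * y⁻¹ := by rw [conj_central hz]

theorem comm_central_right {z : E} (hz : z ∈ Subgroup.center E) (a b : E) :
    ⁅a, z * b⁆ = ⁅a, b⁆ := by
  simp only [commutatorElement_def]
  have h := Subgroup.mem_center_iff.1 hz a
  calc a * (z * b) * a⁻¹ * (z * b)⁻¹ = (a * z) * b * a⁻¹ * b⁻¹ * z⁻¹ := by group
    _ = (z * a) * b * a⁻¹ * b⁻¹ * z⁻¹ := by rw [h]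
    _ = z * (a * b * a⁻¹ * b⁻¹) * z⁻¹ := by group
    _ = a * b * a⁻¹ * b⁻¹ := conj_central hz _

/-- two homomorphisms from a perfect group which agree modulo the centre are equal -/
theorem hom_eq_of_perfect (hH : commutator H = ⊤) (τ τ' : H →* E)
    (h : ∀ x, τ x * (τ' x)⁻¹ ∈ Subgroup.center E) : τ = τ' := by
  have key : ∀ x, ∃ z ∈ Subgroup.center E, τ x = z * τ' x := fun x =>
    ⟨_, h x, by group⟩
  have hle : commutator H ≤ MonoidHom.eqLocus τ τ' := by
    rw [commutator_eq_closure, Subgroup.closure_le]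
    rintro _ ⟨a, b, rfl⟩
    show τ ⁅a, b⁆ = τ' ⁅a, b⁆
    obtain ⟨z, hz, ha⟩ := key a
    obtain ⟨z', hz', hb⟩ := key b
    rw [map_commutatorElement, map_commutatorElement, ha, hb, comm_central_left hz,
      comm_central_right hz']
  rw [hH] at hle
  ext x
  exact hle (Subgroup.mem_top x)

end perfect

variable {E G : Type*} [Group E] [Group G] (ψ : E →* G)

/-- a subgroup of the base over which the extension has a unique section -/
structure Good (H : Subgroup G) : Prop where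
  perf : commutator ↥H = ⊤
  sec : ∃ τ : ↥H →* E, ∀ x : ↥H, ψ (τ x) = x

variable {ψ}

/-- the section over a good subgroup -/
noncomputable def Good.sect {H : Subgroup G} (hH : Good ψ H) : ↥H →* E := Classical.choose hH.sec

theorem Good.psi_sect {H : Subgroup G} (hH : Good ψ H) (x : ↥H) : ψ (hH.sect x) = x :=
  Classical.choose_spec hH.sec x

variable (hc : ψ.ker ≤ Subgroup.center E)
include hc

theorem Good.sect_unique {H : Subgroup G} (hH : Good ψ H) (τ : ↥H →* E)
    (hτ : ∀ x : ↥H, ψ (τ x) = x) : τ = hH.sect := by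
  apply hom_eq_of_perfect hH.perf
  intro x
  apply hc
  rw [MonoidHom.mem_ker, map_mul, map_inv, hτ, hH.psi_sect, mul_inv_cancel]

omit hc in
/-- the canonical lift of an element of a good subgroup (`1` outside) -/
noncomputable def can (ψ : E →* G) (H : Subgroup G) (x : G) : E := by
  classical
  exact if h : Good ψ H ∧ x ∈ H then h.1.sect ⟨x, h.2⟩ else 1

omit hc in
theorem can_eq {H : Subgroup G} (hH : Good ψ H) {x : G} (hx : x ∈ H) :
    can ψ H x = hH.sect ⟨x, hx⟩ := by
  unfold can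
  rw [dif_pos ⟨hH, hx⟩]

omit hc in
theorem psi_can {H : Subgroup G} (hH : Good ψ H) {x : G} (hx : x ∈ H) : ψ (can ψ H x) = x := by
  rw [can_eq hH hx, hH.psi_sect]

omit hc in
theorem can_mul {H : Subgroup G} (hH : Good ψ H) {x y : G} (hx : x ∈ H) (hy : y ∈ H) :
    can ψ H (x * y) = can ψ H x * can ψ H y := by
  rw [can_eq hH hx, can_eq hH hy, can_eq hH (mul_mem hx hy), ← map_mul]
  rfl

omit hc in
theorem can_one {H : Subgroup G} (hH : Good ψ H) : can ψ H 1 = 1 := by
  rw [can_eq hH (one_mem H)]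
  exact map_one hH.sect

omit hc in
theorem can_inv {H : Subgroup G} (hH : Good ψ H) {x : G} (hx : x ∈ H) :
    can ψ H x⁻¹ = (can ψ H x)⁻¹ := by
  rw [can_eq hH hx, can_eq hH (inv_mem hx), ← map_inv]
  rfl

theorem can_unique {H : Subgroup G} (hH : Good ψ H) (τ : ↥H →* E)
    (hτ : ∀ x : ↥H, ψ (τ x) = x) {x : G} (hx : x ∈ H) : can ψ H x = τ ⟨x, hx⟩ := by
  rw [can_eq hH hx, ← hH.sect_unique hc τ hτ]

/-- restriction to a smaller good subgroup -/
theorem can_restrict {H H' : Subgroup G} (hH : Good ψ H) (hH' : Good ψ H') (hle : H ≤ H')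
    {x : G} (hx : x ∈ H) : can ψ H x = can ψ H' x := by
  rw [can_unique hc hH (hH'.sect.comp (Subgroup.inclusion hle))
    (fun y => by rw [MonoidHom.comp_apply, hH'.psi_sect]; rfl) hx, can_eq hH' (hle hx)]
  rfl

/-- conjugation of canonical lifts -/
theorem can_conj {H H' : Subgroup G} (hH : Good ψ H) (hH' : Good ψ H') (e : E)
    (hmap : ∀ x ∈ H, ψ e * x * (ψ e)⁻¹ ∈ H') {x : G} (hx : x ∈ H) :
    can ψ H' (ψ e * x * (ψ e)⁻¹) = e * can ψ H x * e⁻¹ := by
  let θ : ↥H →* E := MonoidHom.mk' (fun y => e⁻¹ * hH'.sect ⟨ψ e * y * (ψ e)⁻¹, hmap y y.2⟩ * e)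
    (by
      intro a b
      have : (⟨ψ e * (a * b : ↥H) * (ψ e)⁻¹, hmap _ (a * b).2⟩ : ↥H') =
          ⟨ψ e * a * (ψ e)⁻¹, hmap a a.2⟩ * ⟨ψ e * b * (ψ e)⁻¹, hmap b b.2⟩ := by
        apply Subtype.ext
        show ψ e * ((a : G) * b) * (ψ e)⁻¹ = ψ e * a * (ψ e)⁻¹ * (ψ e * b * (ψ e)⁻¹)
        group
      rw [this, map_mul]
      group)
  have hθ : ∀ y : ↥H, ψ (θ y) = y := by
    intro y
    show ψ (e⁻¹ * hH'.sect ⟨ψ e * y * (ψ e)⁻¹, hmap y y.2⟩ * e) = y
    rw [map_mul, map_mul, hH'.psi_sect, map_inv]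
    group
  have h1 := can_unique hc hH θ hθ hx
  rw [h1, can_eq hH' (hmap x hx)]
  show _ = e * (e⁻¹ * hH'.sect ⟨ψ e * x * (ψ e)⁻¹, hmap x hx⟩ * e) * e⁻¹
  group

/-- lifts of elements of a good subgroup commute with lifts of elements centralising it -/
theorem commute_of_good {A : Subgroup G} (hA : Good ψ A) {a' y' : E} (ha : ψ a' ∈ A)
    (hy : ∀ a ∈ A, Commute a (ψ y')) : Commute a' y' := by
  have hmap : ∀ x ∈ A, ψ y' * x * (ψ y')⁻¹ ∈ A := by
    intro x hx
    have : ψ y' * x * (ψ y')⁻¹ = x := by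
      rw [← (hy x hx).eq]; group
    rw [this]; exact hx
  have h1 := can_conj hc hA hA y' hmap ha
  have h2 : ψ y' * ψ a' * (ψ y')⁻¹ = ψ a' := by
    rw [← (hy _ ha).eq]; group
  rw [h2] at h1
  -- `can A (ψ a')` commutes with `y'`, and differs from `a'` by a central element
  have h3 : Commute (can ψ A (ψ a')) y' := by
    show can ψ A (ψ a') * y' = y' * can ψ A (ψ a')
    calc can ψ A (ψ a') * y' = (y' * can ψ A (ψ a') * y'⁻¹) * y' := by rw [← h1]
      _ = y' * can ψ A (ψ a') := by group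
  have h4 : a' * (can ψ A (ψ a'))⁻¹ ∈ Subgroup.center E := by
    apply hc
    rw [MonoidHom.mem_ker, map_mul, map_inv, psi_can hA ha, mul_inv_cancel]
  have h5 : a' = (a' * (can ψ A (ψ a'))⁻¹) * can ψ A (ψ a') := by group
  rw [h5]
  exact (Commute.mul_left ((Subgroup.mem_center_iff.1 h4 y').symm) h3)

end Cfsg.Agent.Lib.Helper2.CL
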