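import Cfsg.Agent.Lib.Helper2.CL1

/-!
# Scaling arguments for commutators of lifted root elements
-/

set_option autoImplicit false
set_option linter.unusedSectionVars false
set_option linter.unusedVariables false

namespace Cfsg.Agent.Lib.Helper2.CL

open scoped commutatorElement

variable {E K : Type*} [Group E] [Field K]

/-- an additive map into a group which is invariant under a scaling `≠ 1` is trivial -/
theorem eq_one_of_scaling {f : K → E} (hadd : ∀ t t', f (t + t') = f t * f t') {lam : K}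
    (hl : lam ≠ 1) (hs : ∀ t, f (lam * t) = f t) : ∀ t, f t = 1 := by
  have h0 : f 0 = 1 := by
    have := hadd 0 0
    rw [add_zero] at this
    exact (mul_eq_left.mp this.symm)
  have hneg : ∀ t, f (-t) = (f t)⁻¹ := by
    intro t
    have := hadd t (-t)
    rw [add_neg_cancel, h0] at this
    exact (inv_eq_of_mul_eq_one_right this.symm).symm
  have hl' : lam - 1 ≠ 0 := sub_ne_zero.mpr hl
  intro t
  have e1 : t = lam * ((lam - 1)⁻¹ * t) + -((lam - 1)⁻¹ * t) := by
    field_simp
    ring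
  rw [e1, hadd, hs, hneg, mul_inv_cancel]

theorem conj_of_central {z : E} (hz : z ∈ Subgroup.center E) (a : E) : a * z * a⁻¹ = z := by
  rw [Subgroup.mem_center_iff.1 hz a]; group

theorem comm_mul_left (a b y : E) : ⁅a * b, y⁆ = a * ⁅b, y⁆ * a⁻¹ * ⁅a, y⁆ := by
  simp only [commutatorElement_def]; group

theorem conj_comm (e a b : E) : e * ⁅a, b⁆ * e⁻¹ = ⁅e * a * e⁻¹, e * b * e⁻¹⁆ := by
  simp only [commutatorElement_def]; group

/-- two additive families whose commutators are central commute, if some element scales the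
first one and centralises the second one -/
theorem comm_of_scaling {X Y : K → E} (hX : ∀ t t', X (t + t') = X t * X t')
    (hcen : ∀ t u, ⁅X t, Y u⁆ ∈ Subgroup.center E) {e : E} {lam : K} (hl : lam ≠ 1)
    (heX : ∀ t, e * X t * e⁻¹ = X (lam * t)) (heY : ∀ u, e * Y u * e⁻¹ = Y u) :
    ∀ t u, Commute (X t) (Y u) := by
  intro t u
  have key := eq_one_of_scaling (f := fun t => ⁅X t, Y u⁆)
    (by
      intro t t'
      show ⁅X (t + t'), Y u⁆ = ⁅X t, Y u⁆ * ⁅X t', Y u⁆
      rw [hX, comm_mul_left, conj_of_central (hcen t' u)]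
      exact ((Subgroup.mem_center_iff.1 (hcen t' u)) _).symm)
    hl
    (by
      intro t
      show ⁅X (lam * t), Y u⁆ = ⁅X t, Y u⁆
      rw [← heX t, ← heY u, ← conj_comm, heY u]
      exact conj_of_central (hcen t u) e) t
  exact (commutatorElement_eq_one_iff_commute.mp key)

/-- the commutator relation between three additive families, if some element scales the first
and the third one and centralises the second one -/
theorem rel_of_scaling {X Y Z : K → E} (hX : ∀ t t', X (t + t') = X t * X t')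
    (hZ : ∀ t t', Z (t + t') = Z t * Z t')
    (hcen : ∀ t u, ⁅X t, Y u⁆ * (Z (t * u))⁻¹ ∈ Subgroup.center E)
    (hXZ : ∀ t s, Commute (X t) (Z s)) {e : E} {lam : K} (hl : lam ≠ 1)
    (heX : ∀ t, e * X t * e⁻¹ = X (lam * t)) (heY : ∀ u, e * Y u * e⁻¹ = Y u)
    (heZ : ∀ s, e * Z s * e⁻¹ = Z (lam * s)) :
    ∀ t u, ⁅X t, Y u⁆ = Z (t * u) := by
  intro t u
  have key := eq_one_of_scaling (f := fun t => ⁅X t, Y u⁆ * (Z (t * u))⁻¹)
    (by
      intro t t'
      show ⁅X (t + t'), Y u⁆ * (Z ((t + t') * u))⁻¹ =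
        ⁅X t, Y u⁆ * (Z (t * u))⁻¹ * (⁅X t', Y u⁆ * (Z (t' * u))⁻¹)
      set d := ⁅X t, Y u⁆ * (Z (t * u))⁻¹ with hd
      set d' := ⁅X t', Y u⁆ * (Z (t' * u))⁻¹ with hd'
      have hdc : d ∈ Subgroup.center E := hcen t u
      have hdc' : d' ∈ Subgroup.center E := hcen t' u
      have e1 : ⁅X t, Y u⁆ = d * Z (t * u) := by rw [hd]; group
      have e2 : ⁅X t', Y u⁆ = d' * Z (t' * u) := by rw [hd']; group
      have e3 : X t * (d' * Z (t' * u)) * (X t)⁻¹ = d' * Z (t' * u) := by
        have h1 := (hXZ t (t' * u)).eq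
        have h2 := Subgroup.mem_center_iff.1 hdc' (X t)
        calc X t * (d' * Z (t' * u)) * (X t)⁻¹ = (X t * d') * Z (t' * u) * (X t)⁻¹ := by group
          _ = d' * (X t * Z (t' * u)) * (X t)⁻¹ := by rw [h2]; group
          _ = d' * Z (t' * u) := by rw [h1]; group
      rw [hX, comm_mul_left, e2, e3, e1, add_mul, add_comm (t * u) (t' * u), hZ]
      have h3 := Subgroup.mem_center_iff.1 hdc (Z (t' * u))
      have h4 := Subgroup.mem_center_iff.1 hdc d'
      calc d' * Z (t' * u) * (d * Z (t * u)) * (Z (t' * u) * Z (t * u))⁻¹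
          = d' * (Z (t' * u) * d) * (Z (t' * u))⁻¹ := by group
        _ = d' * (d * Z (t' * u)) * (Z (t' * u))⁻¹ := by rw [h3]
        _ = d' * d := by group
        _ = d * d' := h4)
    hl
    (by
      intro t
      show ⁅X (lam * t), Y u⁆ * (Z (lam * t * u))⁻¹ = ⁅X t, Y u⁆ * (Z (t * u))⁻¹
      have h1 := Subgroup.mem_center_iff.1 (hcen t u) e
      have h2 : e * (⁅X t, Y u⁆ * (Z (t * u))⁻¹) * e⁻¹ =
          ⁅X (lam * t), Y u⁆ * (Z (lam * t * u))⁻¹ := by
        rw [mul_assoc lam t u, ← heX t, ← heZ (t * u)]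
        have : e * (⁅X t, Y u⁆ * (Z (t * u))⁻¹) * e⁻¹ =
            (e * ⁅X t, Y u⁆ * e⁻¹) * (e * Z (t * u) * e⁻¹)⁻¹ := by group
        rw [this, conj_comm, heY u]
      rw [← h2]
      exact conj_of_central (hcen t u) e) t
  exact mul_inv_eq_one.mp key

end Cfsg.Agent.Lib.Helper2.CL
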