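import Cfsg.Agent.Lib.Helper2.CN19
import Cfsg.Agent.Lib.Helper3.DN15

/-!
# Type `C`: transport of the presentation theorem along a bijection of the index sets
-/

set_option linter.unusedSectionVars false
set_option linter.unusedVariables false

namespace Cfsg.Agent.Lib.Helper2.CN

open Cfsg.Agent.Lib.Helper5.Stb Cfsg.Agent.Lib.Helper3.AN Cfsg.Agent.Lib.Helper3.DN Matrix

section transport
variable {J K G : Type*} [Field K] [Group G] {ν : J → J} {ε : J → K}

/-- reindexing of Steinberg data of type `C` -/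
def CData.reindex {J' : Type*} {ν' : J' → J'} (C : CData J K G ν ε) (e : J' ≃ J)
    (he : ∀ k, e (ν' k) = ν (e k)) : CData J' K G ν' (fun k => ε (e k)) where
  nu_nu := fun k => e.injective (by rw [he, he, C.nu_nu])
  nu_ne := fun k h => C.nu_ne (e k) (by rw [← he, h])
  eps_nu := fun k => by
    show ε (e (ν' k)) = - ε (e k)
    rw [he, C.eps_nu]
  eps_sq := fun k => C.eps_sq _
  y := fun a b t => C.y (e a) (e b) t
  y_self := fun k t => C.y_self _ _
  y_flip := fun k l t => by rw [he, he]; exact C.y_flip _ _ _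
  y_add := fun k l t u => C.y_add _ _ _ _
  y_comm := fun k l p m t u h1 h2 h3 h4 =>
    C.y_comm _ _ _ _ t u (e.injective.ne h1) (e.injective.ne h2)
      (by rw [← he]; exact e.injective.ne h3) (by rw [← he]; exact e.injective.ne h4)
  y_rel := fun k l m t u h1 h2 h3 h4 h5 h6 =>
    C.y_rel _ _ _ t u (e.injective.ne h1) (e.injective.ne h2) (e.injective.ne h3)
      (by rw [← he]; exact e.injective.ne h4) (by rw [← he]; exact e.injective.ne h5)
      (by rw [← he]; exact e.injective.ne h6)
  y_B2 := fun k l t u h1 h2 => by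
    rw [he]
    exact C.y_B2 _ _ t u (e.injective.ne h1) (by rw [← he]; exact e.injective.ne h2)
  y_B3 := fun k l t u h1 h2 => by
    rw [he, he]
    exact C.y_B3 _ _ t u (e.injective.ne h1) (by rw [← he]; exact e.injective.ne h2)

theorem CData.reindex_y {J' : Type*} {ν' : J' → J'} (C : CData J K G ν ε) (e : J' ≃ J)
    (he : ∀ k, e (ν' k) = ν (e k)) (a b : J') (t : K) :
    (C.reindex e he).y a b t = C.y (e a) (e b) t := rfl

theorem CData.reindex_gen {J' : Type*} {ν' : J' → J'} (C : CData J K G ν ε) (e : J' ≃ J)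
    (he : ∀ k, e (ν' k) = ν (e k)) (hgen : C.Gen) : (C.reindex e he).Gen := by
  unfold CData.Gen at hgen ⊢
  rw [← hgen]
  congr 1
  ext g
  constructor
  · rintro ⟨k, l, t, rfl⟩
    exact ⟨e k, e l, t, rfl⟩
  · rintro ⟨k, l, t, rfl⟩
    exact ⟨e.symm k, e.symm l, t, by simp [CData.reindex]⟩

theorem CData.reindex_G2_le {J' : Type*} {ν' : J' → J'} (C : CData J K G ν ε) (e : J' ≃ J)
    (he : ∀ k, e (ν' k) = ν (e k)) (a b : J') :
    (C.reindex e he).G2 a b ≤ C.G2 (e a) (e b) := by
  unfold CData.G2
  rw [Subgroup.closure_le]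
  rintro g ⟨k, l, t, hk, hl, rfl⟩
  have key : ∀ x, InQ ν' a b x → InQ ν (e a) (e b) (e x) := by
    intro x hx
    rcases hx with rfl | rfl | rfl | rfl
    · exact Or.inl rfl
    · exact Or.inr (Or.inl rfl)
    · exact Or.inr (Or.inr (Or.inl (he _)))
    · exact Or.inr (Or.inr (Or.inr (he _)))
  exact Subgroup.subset_closure ⟨e k, e l, t, key k hk, key l hl, rfl⟩

variable [Fintype J] [DecidableEq J]

/-- **Presentation theorem for type `C`**, index set in bijection with `Fin (n + n)` -/
theorem rep_injective_of_equiv {n : ℕ} (C : CData J K G ν ε) (e : Fin (n + n) ≃ J)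
    (he : ∀ k, e (Fin.rev k) = ν (e k)) (hn : 3 ≤ n) (hgen : C.Gen) (φ : G →* Matrix J J K)
    (hφ : IsRepC C φ) (h2 : H2 C φ) : Function.Injective φ := by
  let φ' : G →* Matrix (Fin (n + n)) (Fin (n + n)) K :=
    { toFun := fun g => (φ g).submatrix e e
      map_one' := by rw [map_one, Matrix.submatrix_one_equiv]
      map_mul' := fun a b => by rw [map_mul, Matrix.submatrix_mul_equiv] }
  have hφ'def : ∀ g, φ' g = (φ g).submatrix e e := fun g => rfl
  have hev : ∀ (a : Fin (n + n)) (c : Fin (n + n)),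
      (ev (e a) : J → K) (e c) = (ev a : Fin (n + n) → K) c := by
    intro a c
    simp only [ev, Pi.single_apply, e.injective.eq_iff]
  have hrep : IsRepC (C.reindex e he) φ' := by
    refine ⟨?_, ?_⟩
    · intro a b t hab hab' y
      rw [hφ'def, Matrix.submatrix_mulVec_equiv]
      have h1 : e a ≠ e b := e.injective.ne hab
      have h2' : e b ≠ ν (e a) := by rw [← he]; exact e.injective.ne hab'
      have h3 := hφ.1 (e a) (e b) t h1 h2' (y ∘ e.symm)
      show (φ (C.y (e a) (e b) t) *ᵥ (y ∘ e.symm)) ∘ e = _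
      rw [h3]
      ext c
      have e2 : (ev (ν (e b)) : J → K) (e c) = (ev (Fin.rev b) : Fin (n + n) → K) c := by
        rw [← he]; exact hev _ _
      have e3 : e.symm (ν (e a)) = Fin.rev a := by
        rw [← he, Equiv.symm_apply_apply]
      simp only [Function.comp_apply, Pi.add_apply, Pi.sub_apply, Pi.smul_apply, smul_eq_mul,
        Equiv.symm_apply_apply, hev, e2, e3]
    · intro a t y
      rw [hφ'def, Matrix.submatrix_mulVec_equiv]
      have h3 := hφ.2 (e a) t (y ∘ e.symm)
      show (φ (C.y (e a) (e (Fin.rev a)) t) *ᵥ (y ∘ e.symm)) ∘ e = _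
      rw [he, h3]
      ext c
      have e3 : e.symm (ν (e a)) = Fin.rev a := by
        rw [← he, Equiv.symm_apply_apply]
      simp only [Function.comp_apply, Pi.add_apply, Pi.smul_apply, smul_eq_mul,
        Equiv.symm_apply_apply, hev, e3]
  have h2' : H2 (C.reindex e he) φ' := by
    intro a b hab hab' g hg hg1
    have h1 : e a ≠ e b := e.injective.ne hab
    have h3 : e a ≠ ν (e b) := by rw [← he]; exact e.injective.ne hab'
    apply h2 (e a) (e b) h1 h3 g (C.reindex_G2_le e he a b hg)
    have := congrArg (fun M => M.submatrix e.symm e.symm) hg1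
    simp only [hφ'def, Matrix.submatrix_submatrix, Equiv.self_comp_symm,
      Matrix.submatrix_id_id, Matrix.submatrix_one_equiv] at this
    exact this
  have hinj := (C.reindex e he).rep_injective h2' hrep
    (fun a => by
      obtain ⟨c, h1, -, h3, -⟩ := hc_fin hn a a
      exact ⟨c, h1, h3⟩)
    (hc_fin hn) (C.reindex_gen e he hgen)
  intro x y hxy
  apply hinj
  rw [hφ'def, hφ'def, hxy]

end transport

end Cfsg.Agent.Lib.Helper2.CN
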