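import Cfsg.Agent.Lib.Helper2.CL2
import Cfsg.Agent.Lib.Helper2.CN20

/-!
# Lifting Steinberg data of type `C` to a central extension: the canonical lifts
-/

set_option autoImplicit false
set_option linter.unusedSectionVars false
set_option linter.unusedVariables false

namespace Cfsg.Agent.Lib.Helper2.CL

open Cfsg.Agent.Lib.Helper2.CN Cfsg.Agent.Lib.Helper3.AN Cfsg.Agent.Lib.Helper3.DN
open scoped commutatorElement

variable {J K E G : Type*} [Field K] [Group E] [Group G] [DecidableEq J] {ν : J → J} {ε : J → K}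

/-- the entries of the torus element of the long root `(a, ν a)` -/
def hv (ν : J → J) (a : J) (lam : K) (k : J) : K :=
  if k = a then lam else if k = ν a then lam⁻¹ else 1

/-- the hypotheses on a central extension of a group with Steinberg data of type `C` -/
structure LiftHyp (D : CData J K G ν ε) (ψ : E →* G) : Prop where
  surj : Function.Surjective ψ
  cen : ψ.ker ≤ Subgroup.center E
  good : ∀ a b, a ≠ b → a ≠ ν b → Good ψ (D.G2 a b)
  monW : ∀ i j, i ≠ j → i ≠ ν j → RawMon D.y (D.w i j 1) (sig ν i j) (wvecC ν ε i j 1)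
  tor : ∀ (a : J) (lam : K), lam ≠ 0 → ∃ h : G, ∀ k l t,
    h * D.y k l t * h⁻¹ = D.y k l (hv ν a lam k * t * (hv ν a lam l)⁻¹)

section inq
variable (D : CData J K G ν ε)
include D

omit [DecidableEq J] in
theorem G2_congr {a b a' b' : J} (h : ∀ x, InQ ν a b x ↔ InQ ν a' b' x) :
    D.G2 a b = D.G2 a' b' := by
  unfold CData.G2
  congr 1
  ext g
  constructor
  · rintro ⟨k, l, t, hk, hl, rfl⟩
    exact ⟨k, l, t, (h k).1 hk, (h l).1 hl, rfl⟩
  · rintro ⟨k, l, t, hk, hl, rfl⟩
    exact ⟨k, l, t, (h k).2 hk, (h l).2 hl, rfl⟩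

omit [DecidableEq J] in
theorem inQ_iff_of_short {a b k l : J} (hk : InQ ν a b k) (hl : InQ ν a b l) (hkl : k ≠ l)
    (hkl' : k ≠ ν l) : ∀ x, InQ ν k l x ↔ InQ ν a b x := by
  have n := D.nu_nu
  unfold InQ at *
  rcases hk with rfl | rfl | rfl | rfl <;> rcases hl with rfl | rfl | rfl | rfl <;>
    simp only [n] at * <;>
    first
      | exact absurd rfl hkl
      | exact absurd rfl hkl'
      | (intro x; tauto)

omit [DecidableEq J] in
/-- a long root in a set of two pairs -/
theorem inQ_iff_of_long {a b k : J} (hab : a ≠ b) (hab' : a ≠ ν b) (hk : InQ ν a b k) :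
    ∃ b₀, k ≠ b₀ ∧ k ≠ ν b₀ ∧ ∀ x, InQ ν k b₀ x ↔ InQ ν a b x := by
  have n := D.nu_nu
  have hba' : b ≠ ν a := D.ne_nu_symm hab'
  unfold InQ at *
  rcases hk with rfl | rfl | rfl | rfl
  · exact ⟨b, hab, hab', fun x => Iff.rfl⟩
  · exact ⟨a, hab.symm, hba', fun x => by tauto⟩
  · refine ⟨b, ?_, ?_, fun x => ?_⟩
    · exact hba'.symm
    · exact D.nu_ne_nu hab
    · simp only [n]; tauto
  · refine ⟨a, ?_, ?_, fun x => ?_⟩
    · exact hab'.symm
    · exact D.nu_ne_nu hab.symm
    · simp only [n]; tauto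

end inq

section lift
variable {D : CData J K G ν ε} {ψ : E →* G} (L : LiftHyp D ψ)
include L

omit [DecidableEq J] [Group E] L in
/-- conjugation maps a rank two subgroup into another one, if it does so on the generators -/
theorem conj_G2_le (D : CData J K G ν ε) {a b a' b' : J} (w : G) (σ : J → J)
    (hσ : ∀ x, InQ ν a b x → InQ ν a' b' (σ x))
    (hw : ∀ p q s, ∃ c, w * D.y p q s * w⁻¹ = D.y (σ p) (σ q) c) :
    ∀ x ∈ D.G2 a b, w * x * w⁻¹ ∈ D.G2 a' b' := by
  have : D.G2 a b ≤ (D.G2 a' b').comap (MulAut.conj w).toMonoidHom := by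
    unfold CData.G2
    rw [Subgroup.closure_le]
    rintro g ⟨p, q, s, hp, hq, rfl⟩
    show MulAut.conj w (D.y p q s) ∈ D.G2 a' b'
    rw [MulAut.conj_apply]
    obtain ⟨c, hc⟩ := hw p q s
    rw [hc]
    exact D.y_mem_G2 (hσ p hp) (hσ q hq) c
  intro x hx
  have := this hx
  rwa [Subgroup.mem_comap, MulEquiv.coe_toMonoidHom, MulAut.conj_apply] at this

/-- the canonical lift of a long root element does not depend on the second pair -/
theorem can_long_indep {k b b' : J} (hb : k ≠ b) (hb' : k ≠ ν b) (hb2 : k ≠ b') (hb2' : k ≠ ν b')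
    (t : K) :
    can ψ (D.G2 k b) (D.y k (ν k) t) = can ψ (D.G2 k b') (D.y k (ν k) t) := by
  have n := D.nu_nu
  by_cases h1 : b' = b
  · rw [h1]
  by_cases h2 : b' = ν b
  · rw [G2_congr D (a := k) (b := b) (a' := k) (b' := b') (fun x => by
      unfold InQ; rw [h2, n]; tauto)]
  -- three different pairs
  have hbb : b ≠ b' := Ne.symm h1
  have hbb' : b ≠ ν b' := fun h => h2 (by rw [h, n])
  have hmon := L.monW b b' hbb hbb'
  set w := D.w b b' 1 with hw
  obtain ⟨e, he⟩ := L.surj w
  have gk : Good ψ (D.G2 k b) := L.good k b hb hb'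
  have gk' : Good ψ (D.G2 k b') := L.good k b' hb2 hb2'
  have gA : Good ψ (D.G2 b b') := L.good b b' hbb hbb'
  have q_k : InQ ν k b k := Or.inl rfl
  have q_nk : InQ ν k b (ν k) := Or.inr (Or.inr (Or.inl rfl))
  have hY : D.y k (ν k) t ∈ D.G2 k b := D.y_mem_G2 q_k q_nk t
  have f1 : ν k ≠ b := fun h => hb' (by rw [← h, n])
  have f2 : ν k ≠ b' := fun h => hb2' (by rw [← h, n])
  have f3 : ν k ≠ ν b := D.nu_ne_nu hb
  have f4 : ν k ≠ ν b' := D.nu_ne_nu hb2
  have sk : sig ν b b' k = k := sig_of_ne hb hb2 hb' hb2'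
  have snk : sig ν b b' (ν k) = ν k := sig_of_ne f1 f2 f3 f4
  have hmap : ∀ x ∈ D.G2 k b, ψ e * x * (ψ e)⁻¹ ∈ D.G2 k b' := by
    rw [he]
    apply conj_G2_le D w (sig ν b b')
    · intro x hx
      rcases hx with rfl | rfl | rfl | rfl
      · rw [sk]; exact Or.inl rfl
      · rw [sig_i D.toD hbb hbb']; exact Or.inr (Or.inl rfl)
      · rw [snk]; exact Or.inr (Or.inr (Or.inl rfl))
      · rw [sig_ni D.toD hbb hbb']; exact Or.inr (Or.inr (Or.inr rfl))
    · intro p q s
      have := hmon.2 p q s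
      rw [MulAut.conj_apply] at this
      exact ⟨_, this⟩
  have h3 := can_conj L.cen gk gk' e hmap hY
  have h4 : ψ e * D.y k (ν k) t * (ψ e)⁻¹ = D.y k (ν k) t := by
    rw [he]
    have := hmon.2 k (ν k) t
    rw [MulAut.conj_apply, sk, snk, wvC_of_ne 1 hb hb2 hb' hb2',
      wvC_of_ne 1 f1 f2 f3 f4] at this
    rw [this]
    congr 1
    simp
  rw [h4] at h3
  -- the lift `e` of `w` commutes with the canonical lift
  have h5 : Commute e (can ψ (D.G2 k b) (D.y k (ν k) t)) := by
    apply commute_of_good L.cen gA (by rw [he]; exact D.w_mem_G2 (Or.inl rfl) (Or.inr (Or.inl rfl)) 1)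
    rw [psi_can gk hY]
    intro a ha
    unfold CData.G2 at ha
    induction ha using Subgroup.closure_induction with
    | mem y hy =>
      obtain ⟨p, q, s, hp, hq, rfl⟩ := hy
      have hp1 : ν k ≠ p := by
        rcases hp with rfl | rfl | rfl | rfl
        · exact f1
        · exact f2
        · exact f3
        · exact f4
      have hp2 : k ≠ ν p := by
        rcases hp with rfl | rfl | rfl | rfl
        · exact hb'
        · exact hb2'
        · rw [n]; exact hb
        · rw [n]; exact hb2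
      have hq1 : k ≠ q := by
        rcases hq with rfl | rfl | rfl | rfl
        · exact hb
        · exact hb2
        · exact hb'
        · exact hb2'
      have hq2 : ν k ≠ ν q := by
        rcases hq with rfl | rfl | rfl | rfl
        · exact f3
        · exact f4
        · rw [n]; exact f1
        · rw [n]; exact f2
      exact (D.y_comm k (ν k) p q t s hp1 hq1 hp2 hq2).symm
    | one => exact Commute.one_left _
    | mul a b _ _ ha hb => exact ha.mul_left hb
    | inv a _ ha => exact ha.inv_left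
  rw [h3]
  calc can ψ (D.G2 k b) (D.y k (ν k) t)
      = (can ψ (D.G2 k b) (D.y k (ν k) t) * e) * e⁻¹ := by group
    _ = e * can ψ (D.G2 k b) (D.y k (ν k) t) * e⁻¹ := by rw [h5.eq]

end lift

end Cfsg.Agent.Lib.Helper2.CL
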