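import Cfsg.Agent.Lib.Helper2.CL3

/-!
# Lifting Steinberg data of type `C` to a central extension: the lifted root elements
-/

set_option autoImplicit false
set_option linter.unusedSectionVars false
set_option linter.unusedVariables false

namespace Cfsg.Agent.Lib.Helper2.CL

open Cfsg.Agent.Lib.Helper2.CN Cfsg.Agent.Lib.Helper3.AN Cfsg.Agent.Lib.Helper3.DN
open scoped commutatorElement

variable {J K E G : Type*} [Field K] [Group E] [Group G] [DecidableEq J] {ν : J → J} {ε : J → K}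

/-- the lifted root elements -/
noncomputable def ytil (D : CData J K G ν ε) (ψ : E →* G) (cc : J → J) (k l : J) (t : K) : E :=
  if k = l then 1 else if l = ν k then can ψ (D.G2 k (cc k)) (D.y k (ν k) t)
  else can ψ (D.G2 k l) (D.y k l t)

variable {D : CData J K G ν ε} {ψ : E →* G} (L : LiftHyp D ψ) {cc : J → J}
  (hcc : ∀ k, cc k ≠ k ∧ cc k ≠ ν k)
include L hcc

omit L hcc in
theorem ytil_self (k : J) (t : K) : ytil D ψ cc k k t = 1 := by
  unfold ytil
  rw [if_pos rfl]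

/-- the lifted root elements are the canonical lifts in every rank two subgroup -/
theorem ytil_eq_can {a b k l : J} (hab : a ≠ b) (hab' : a ≠ ν b) (hk : InQ ν a b k)
    (hl : InQ ν a b l) (t : K) : ytil D ψ cc k l t = can ψ (D.G2 a b) (D.y k l t) := by
  unfold ytil
  split_ifs with h1 h2
  · subst h1
    rw [D.y_self, can_one (L.good a b hab hab')]
  · subst h2
    obtain ⟨b₀, hb1, hb2, hiff⟩ := inQ_iff_of_long D hab hab' hk
    rw [← G2_congr D hiff]
    exact can_long_indep L (hcc k).1.symm (D.ne_nu_symm (hcc k).2) hb1 hb2 t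
  · rw [G2_congr D (inQ_iff_of_short D hk hl h1 (D.ne_nu_symm h2))]

theorem ytil_eq_sect {a b k l : J} (hab : a ≠ b) (hab' : a ≠ ν b) (hk : InQ ν a b k)
    (hl : InQ ν a b l) (t : K) :
    ytil D ψ cc k l t = (L.good a b hab hab').sect ⟨D.y k l t, D.y_mem_G2 hk hl t⟩ := by
  rw [ytil_eq_can L hcc hab hab' hk hl, can_eq]

/-- every pair of indices lies in a set of two pairs -/
theorem exists_quad (k l : J) : ∃ a b, a ≠ b ∧ a ≠ ν b ∧ InQ ν a b k ∧ InQ ν a b l := by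
  by_cases h1 : k = l
  · subst h1
    exact ⟨k, cc k, (hcc k).1.symm, D.ne_nu_symm (hcc k).2, Or.inl rfl, Or.inl rfl⟩
  by_cases h2 : l = ν k
  · subst h2
    exact ⟨k, cc k, (hcc k).1.symm, D.ne_nu_symm (hcc k).2, Or.inl rfl,
      Or.inr (Or.inr (Or.inl rfl))⟩
  · exact ⟨k, l, h1, D.ne_nu_symm h2, Or.inl rfl, Or.inr (Or.inl rfl)⟩

theorem psi_ytil (k l : J) (t : K) : ψ (ytil D ψ cc k l t) = D.y k l t := by
  obtain ⟨a, b, hab, hab', hk, hl⟩ := exists_quad L hcc k l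
  rw [ytil_eq_sect L hcc hab hab' hk hl, Good.psi_sect]

theorem ytil_add (k l : J) (t u : K) :
    ytil D ψ cc k l (t + u) = ytil D ψ cc k l t * ytil D ψ cc k l u := by
  obtain ⟨a, b, hab, hab', hk, hl⟩ := exists_quad L hcc k l
  rw [ytil_eq_sect L hcc hab hab' hk hl, ytil_eq_sect L hcc hab hab' hk hl,
    ytil_eq_sect L hcc hab hab' hk hl, ← map_mul]
  congr 1
  exact Subtype.ext (D.y_add k l t u)

theorem ytil_zero (k l : J) : ytil D ψ cc k l 0 = 1 := by
  have := ytil_add L hcc k l 0 0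
  rw [add_zero] at this
  exact (mul_eq_left.mp this.symm)

theorem ytil_flip (k l : J) (t : K) :
    ytil D ψ cc k l t = ytil D ψ cc (ν l) (ν k) (-(ε k * ε l) * t) := by
  by_cases h1 : k = l
  · subst h1
    rw [ytil_self, ytil_self]
  by_cases h2 : l = ν k
  · subst h2
    rw [D.nu_nu, D.eps_nu]
    congr 1
    have := D.eps_sq k
    linear_combination (-t) * this
  · have hab' : k ≠ ν l := D.ne_nu_symm h2
    have q1 : InQ ν k l k := Or.inl rfl
    have q2 : InQ ν k l l := Or.inr (Or.inl rfl)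
    have q3 : InQ ν k l (ν k) := Or.inr (Or.inr (Or.inl rfl))
    have q4 : InQ ν k l (ν l) := Or.inr (Or.inr (Or.inr rfl))
    rw [ytil_eq_sect L hcc h1 hab' q1 q2, ytil_eq_sect L hcc h1 hab' q4 q3]
    congr 1
    exact Subtype.ext (D.y_flip k l t)

theorem ytil_B2 (k l : J) (t u : K) (hkl : k ≠ l) (hkl' : k ≠ ν l) :
    ytil D ψ cc k l t * ytil D ψ cc l (ν k) u * (ytil D ψ cc k l t)⁻¹ *
      (ytil D ψ cc l (ν k) u)⁻¹ = ytil D ψ cc k (ν k) (2 * t * u) := by
  have q1 : InQ ν k l k := Or.inl rfl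
  have q2 : InQ ν k l l := Or.inr (Or.inl rfl)
  have q3 : InQ ν k l (ν k) := Or.inr (Or.inr (Or.inl rfl))
  rw [ytil_eq_sect L hcc hkl hkl' q1 q2, ytil_eq_sect L hcc hkl hkl' q2 q3,
    ytil_eq_sect L hcc hkl hkl' q1 q3, ← map_inv, ← map_inv, ← map_mul, ← map_mul, ← map_mul]
  congr 1
  exact Subtype.ext (D.y_B2 k l t u hkl hkl')

theorem ytil_B3 (k l : J) (t u : K) (hkl : k ≠ l) (hkl' : k ≠ ν l) :
    ytil D ψ cc k l t * ytil D ψ cc l (ν l) u * (ytil D ψ cc k l t)⁻¹ *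
      (ytil D ψ cc l (ν l) u)⁻¹ =
      ytil D ψ cc k (ν l) (t * u) * ytil D ψ cc k (ν k) (ε k * ε l * t ^ 2 * u) := by
  have q1 : InQ ν k l k := Or.inl rfl
  have q2 : InQ ν k l l := Or.inr (Or.inl rfl)
  have q3 : InQ ν k l (ν k) := Or.inr (Or.inr (Or.inl rfl))
  have q4 : InQ ν k l (ν l) := Or.inr (Or.inr (Or.inr rfl))
  rw [ytil_eq_sect L hcc hkl hkl' q1 q2, ytil_eq_sect L hcc hkl hkl' q2 q4,
    ytil_eq_sect L hcc hkl hkl' q1 q4, ytil_eq_sect L hcc hkl hkl' q1 q3, ← map_inv, ← map_inv,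
    ← map_mul, ← map_mul, ← map_mul, ← map_mul]
  congr 1
  exact Subtype.ext (D.y_B3 k l t u hkl hkl')

/-- commutation inside a set of two pairs -/
theorem ytil_comm_quad {a b k l p m : J} (hab : a ≠ b) (hab' : a ≠ ν b) (hk : InQ ν a b k)
    (hl : InQ ν a b l) (hp : InQ ν a b p) (hm : InQ ν a b m) (t u : K)
    (hG : D.y k l t * D.y p m u = D.y p m u * D.y k l t) :
    ytil D ψ cc k l t * ytil D ψ cc p m u = ytil D ψ cc p m u * ytil D ψ cc k l t := by
  rw [ytil_eq_sect L hcc hab hab' hk hl, ytil_eq_sect L hcc hab hab' hp hm, ← map_mul, ← map_mul]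
  congr 1
  exact Subtype.ext hG

/-- conjugation by lifts of torus elements -/
theorem ytil_tor (a : J) {lam : K} (hlam : lam ≠ 0) : ∃ e : E, ∀ k l t,
    e * ytil D ψ cc k l t * e⁻¹ =
      ytil D ψ cc k l (hv ν a lam k * t * (hv ν a lam l)⁻¹) := by
  obtain ⟨h, hh⟩ := L.tor a lam hlam
  obtain ⟨e, he⟩ := L.surj h
  refine ⟨e, fun k l t => ?_⟩
  obtain ⟨a', b', hab, hab', hk, hl⟩ := exists_quad L hcc k l
  have hmap : ∀ x ∈ D.G2 a' b', ψ e * x * (ψ e)⁻¹ ∈ D.G2 a' b' := by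
    rw [he]
    exact conj_G2_le D h id (fun x hx => hx) (fun p q s => ⟨_, hh p q s⟩)
  have h1 := can_conj L.cen (L.good a' b' hab hab') (L.good a' b' hab hab') e hmap
    (D.y_mem_G2 hk hl t)
  rw [ytil_eq_can L hcc hab hab' hk hl, ytil_eq_can L hcc hab hab' hk hl, ← h1, he, hh]

end Cfsg.Agent.Lib.Helper2.CL
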