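import Cfsg.Agent.Lib.Helper2.CL4

/-!
# Lifting Steinberg data of type `C` to a central extension: the relations
-/

set_option autoImplicit false
set_option linter.unusedSectionVars false
set_option linter.unusedVariables false

namespace Cfsg.Agent.Lib.Helper2.CL

open Cfsg.Agent.Lib.Helper2.CN Cfsg.Agent.Lib.Helper3.AN Cfsg.Agent.Lib.Helper3.DN
open scoped commutatorElement

variable {J K E G : Type*} [Field K] [Group E] [Group G] [DecidableEq J] {ν : J → J} {ε : J → K}

omit [Field K] in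
theorem hv_self [Field K] (a : J) (lam : K) : hv ν a lam a = lam := by simp [hv]

theorem hv_of_ne {a k : J} (lam : K) (h1 : k ≠ a) (h2 : k ≠ ν a) : hv ν a lam k = 1 := by
  simp [hv, h1, h2]

variable {D : CData J K G ν ε} {ψ : E →* G} (L : LiftHyp D ψ) {cc : J → J}
  (hcc : ∀ k, cc k ≠ k ∧ cc k ≠ ν k) (hlam : ∃ lam : K, lam ≠ 0 ∧ lam ≠ 1)
include L hcc hlam

/-- a short root element commutes with a root element if one of its indices does not occur in
the other root -/
theorem ytil_comm_aux {k l p m : J} (hkl : k ≠ l) (hkl' : l ≠ ν k)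
    (hG : ∀ t u, D.y k l t * D.y p m u = D.y p m u * D.y k l t)
    (hnt : ¬ InQ ν p m k ∨ ¬ InQ ν p m l) :
    ∀ t u, Commute (ytil D ψ cc k l t) (ytil D ψ cc p m u) := by
  obtain ⟨lam, hl0, hl1⟩ := hlam
  have hcen : ∀ t u, ⁅ytil D ψ cc k l t, ytil D ψ cc p m u⁆ ∈ Subgroup.center E := by
    intro t u
    apply L.cen
    rw [MonoidHom.mem_ker, map_commutatorElement, psi_ytil L hcc, psi_ytil L hcc]
    exact commutatorElement_eq_one_iff_commute.mpr (hG t u)
  have hkl'' : k ≠ ν l := D.ne_nu_symm hkl'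
  rcases hnt with h | h
  · obtain ⟨e, he⟩ := ytil_tor L hcc k hl0
    have f1 : p ≠ k := fun hh => h (Or.inl hh.symm)
    have f2 : m ≠ k := fun hh => h (Or.inr (Or.inl hh.symm))
    have f3 : p ≠ ν k := fun hh => h (Or.inr (Or.inr (Or.inl (by rw [hh, D.nu_nu]))))
    have f4 : m ≠ ν k := fun hh => h (Or.inr (Or.inr (Or.inr (by rw [hh, D.nu_nu]))))
    refine comm_of_scaling (e := e) (ytil_add L hcc k l) hcen hl1 (fun t => ?_) (fun u => ?_)
    · rw [he, hv_self, hv_of_ne lam hkl.symm hkl', inv_one, mul_one]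
    · rw [he, hv_of_ne lam f1 f3, hv_of_ne lam f2 f4, inv_one, mul_one, one_mul]
  · obtain ⟨e, he⟩ := ytil_tor L hcc l hl0
    have f1 : p ≠ l := fun hh => h (Or.inl hh.symm)
    have f2 : m ≠ l := fun hh => h (Or.inr (Or.inl hh.symm))
    have f3 : p ≠ ν l := fun hh => h (Or.inr (Or.inr (Or.inl (by rw [hh, D.nu_nu]))))
    have f4 : m ≠ ν l := fun hh => h (Or.inr (Or.inr (Or.inr (by rw [hh, D.nu_nu]))))
    have hl1' : lam⁻¹ ≠ 1 := fun hh => hl1 (by rw [← inv_inv lam, hh, inv_one])
    refine comm_of_scaling (e := e) (ytil_add L hcc k l) hcen hl1' (fun t => ?_) (fun u => ?_)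
    · rw [he, hv_self, hv_of_ne lam hkl hkl'', one_mul, mul_comm]
    · rw [he, hv_of_ne lam f1 f3, hv_of_ne lam f2 f4, inv_one, mul_one, one_mul]

theorem ytil_comm (k l p m : J) (t u : K) (h1 : l ≠ p) (h2 : k ≠ m) (h3 : k ≠ ν p)
    (h4 : l ≠ ν m) :
    ytil D ψ cc k l t * ytil D ψ cc p m u = ytil D ψ cc p m u * ytil D ψ cc k l t := by
  have n := D.nu_nu
  have hG : ∀ t u, D.y k l t * D.y p m u = D.y p m u * D.y k l t := fun t u =>
    D.y_comm k l p m t u h1 h2 h3 h4
  by_cases e1 : k = l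
  · subst e1; rw [ytil_self, one_mul, mul_one]
  by_cases e2 : p = m
  · subst e2; rw [ytil_self, one_mul, mul_one]
  by_cases hs1 : l = ν k
  · by_cases hs2 : m = ν p
    · subst hs1 hs2
      by_cases hkp : k = p
      · subst hkp
        rw [← ytil_add L hcc, ← ytil_add L hcc, add_comm]
      · exact ytil_comm_quad L hcc hkp h3 (Or.inl rfl) (Or.inr (Or.inr (Or.inl rfl)))
          (Or.inr (Or.inl rfl)) (Or.inr (Or.inr (Or.inr rfl))) t u (hG t u)
    · have hnt : ¬ InQ ν k l p ∨ ¬ InQ ν k l m := by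
        by_contra hcon
        push_neg at hcon
        obtain ⟨c1, c2⟩ := hcon
        subst hs1
        unfold InQ at c1 c2
        simp only [n] at c1 c2
        apply hs2
        rcases c1 with rfl | rfl | rfl | rfl <;> rcases c2 with rfl | rfl | rfl | rfl <;>
          first
            | exact absurd rfl e2
            | rfl
            | exact (n _).symm
      exact ((ytil_comm_aux L hcc hlam e2 hs2 (fun u t => (hG t u).symm) hnt) u t).eq.symm
  · by_cases hnt : ¬ InQ ν p m k ∨ ¬ InQ ν p m l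
    · exact ((ytil_comm_aux L hcc hlam e1 hs1 hG hnt) t u).eq
    · push_neg at hnt
      obtain ⟨c1, c2⟩ := hnt
      by_cases hs2 : m = ν p
      · exfalso
        subst hs2
        unfold InQ at c1 c2
        simp only [n] at c1 c2
        apply hs1
        rcases c1 with rfl | rfl | rfl | rfl <;> rcases c2 with rfl | rfl | rfl | rfl <;>
          first
            | exact absurd rfl e1
            | rfl
            | exact (n _).symm
      · exact ytil_comm_quad L hcc e2 (D.ne_nu_symm hs2) c1 c2 (Or.inl rfl) (Or.inr (Or.inl rfl))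
          t u (hG t u)

theorem ytil_rel (k l m : J) (t u : K) (h1 : k ≠ l) (h2 : l ≠ m) (h3 : k ≠ m) (h4 : k ≠ ν l)
    (h5 : l ≠ ν m) (h6 : k ≠ ν m) :
    ytil D ψ cc k l t * ytil D ψ cc l m u * (ytil D ψ cc k l t)⁻¹ * (ytil D ψ cc l m u)⁻¹ =
      ytil D ψ cc k m (t * u) := by
  obtain ⟨lam, hl0, hl1⟩ := hlam
  obtain ⟨e, he⟩ := ytil_tor L hcc k hl0
  have g1 : l ≠ ν k := D.ne_nu_symm h4
  have g2 : m ≠ ν k := D.ne_nu_symm h6
  have key := rel_of_scaling (e := e) (X := ytil D ψ cc k l) (Y := ytil D ψ cc l m)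
    (Z := ytil D ψ cc k m) (ytil_add L hcc k l) (ytil_add L hcc k m)
    (by
      intro t u
      apply L.cen
      rw [MonoidHom.mem_ker, map_mul, map_inv, map_commutatorElement, psi_ytil L hcc,
        psi_ytil L hcc, psi_ytil L hcc, commutatorElement_def,
        D.y_rel k l m t u h1 h2 h3 h4 h5 h6, mul_inv_cancel])
    (fun t s => ytil_comm L hcc ⟨lam, hl0, hl1⟩ k l k m t s h1.symm h3 (D.ne_nu k) h5)
    hl1
    (fun t => by rw [he, hv_self, hv_of_ne lam h1.symm g1, inv_one, mul_one])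
    (fun u => by rw [he, hv_of_ne lam h1.symm g1, hv_of_ne lam h3.symm g2, inv_one, mul_one,
      one_mul])
    (fun s => by rw [he, hv_self, hv_of_ne lam h3.symm g2, inv_one, mul_one]) t u
  rw [← key, commutatorElement_def]

end Cfsg.Agent.Lib.Helper2.CL
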