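import Cfsg.Agent.Lib.Helper2.CL5

/-!
# Lifting Steinberg data of type `C` to a central extension: perfect central extensions of a
group with faithful Steinberg data of type `C_n`, `n ≥ 3`, which split over the rank two
subgroups, are trivial
-/

set_option autoImplicit false
set_option linter.unusedSectionVars false
set_option linter.unusedVariables false

namespace Cfsg.Agent.Lib.Helper2.CL

open Cfsg.Agent.Lib.Helper2.CN Cfsg.Agent.Lib.Helper3.AN Cfsg.Agent.Lib.Helper3.DN Matrix
open scoped commutatorElement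

variable {J K E G : Type*} [Field K] [Group E] [Group G] [DecidableEq J] {ν : J → J} {ε : J → K}

section data
variable {D : CData J K G ν ε} {ψ : E →* G} (L : LiftHyp D ψ) {cc : J → J}
  (hcc : ∀ k, cc k ≠ k ∧ cc k ≠ ν k) (hlam : ∃ lam : K, lam ≠ 0 ∧ lam ≠ 1)

/-- the lifted Steinberg data -/
noncomputable def liftCData : CData J K E ν ε where
  nu_nu := D.nu_nu
  nu_ne := D.nu_ne
  eps_nu := D.eps_nu
  eps_sq := D.eps_sq
  y := ytil D ψ cc
  y_self := ytil_self
  y_flip := ytil_flip L hcc
  y_add := ytil_add L hcc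
  y_comm := ytil_comm L hcc hlam
  y_rel := ytil_rel L hcc hlam
  y_B2 := ytil_B2 L hcc
  y_B3 := ytil_B3 L hcc

theorem liftCData_y (k l : J) (t : K) : (liftCData L hcc hlam).y k l t = ytil D ψ cc k l t := rfl

theorem psi_liftCData (k l : J) (t : K) : ψ ((liftCData L hcc hlam).y k l t) = D.y k l t :=
  psi_ytil L hcc k l t

/-- `ψ` is injective on the rank two subgroups of the lifted data -/
theorem liftCData_G2_inj {a b : J} (hab : a ≠ b) (hab' : a ≠ ν b) {g : E}
    (hg : g ∈ (liftCData L hcc hlam).G2 a b) (h1 : ψ g = 1) : g = 1 := by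
  have hle : (liftCData L hcc hlam).G2 a b ≤ (L.good a b hab hab').sect.range := by
    unfold CData.G2
    rw [Subgroup.closure_le]
    rintro x ⟨k, l, t, hk, hl, rfl⟩
    rw [liftCData_y, ytil_eq_sect L hcc hab hab' hk hl]
    exact ⟨_, rfl⟩
  obtain ⟨x, rfl⟩ := hle hg
  rw [Good.psi_sect] at h1
  have : x = 1 := Subtype.ext h1
  rw [this, map_one]

/-- the lifted root elements generate a perfect extension -/
theorem liftCData_gen (hgen : D.Gen) (hperf : commutator E = ⊤) :
    (liftCData L hcc hlam).Gen := by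
  unfold CData.Gen
  set E₀ := Subgroup.closure {g : E | ∃ k l t, g = (liftCData L hcc hlam).y k l t} with hE₀
  -- every element is the product of an element of `E₀` and a central element
  have h1 : ∀ x : E, ∃ x₀ ∈ E₀, ∃ z ∈ Subgroup.center E, x = z * x₀ := by
    have hsurj : E₀.map ψ = ⊤ := by
      rw [eq_top_iff, ← hgen, Subgroup.closure_le]
      rintro g ⟨k, l, t, rfl⟩
      exact ⟨_, Subgroup.subset_closure ⟨k, l, t, rfl⟩, psi_liftCData L hcc hlam k l t⟩
    intro x
    have : ψ x ∈ E₀.map ψ := by rw [hsurj]; trivial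
    obtain ⟨x₀, hx₀, hx⟩ := this
    refine ⟨x₀, hx₀, x * x₀⁻¹, ?_, by group⟩
    apply L.cen
    rw [MonoidHom.mem_ker, map_mul, map_inv, hx, mul_inv_cancel]
  rw [eq_top_iff, ← hperf, commutator_eq_closure, Subgroup.closure_le]
  rintro _ ⟨a, b, rfl⟩
  obtain ⟨a₀, ha₀, z, hz, rfl⟩ := h1 a
  obtain ⟨b₀, hb₀, z', hz', rfl⟩ := h1 b
  rw [comm_central_left hz, comm_central_right hz']
  rw [commutatorElement_def]
  exact mul_mem (mul_mem (mul_mem ha₀ hb₀) (inv_mem ha₀)) (inv_mem hb₀)

end data

/-- **Main lifting theorem**: a perfect central extension of a group with faithful Steinberg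
data of type `C_n`, `n ≥ 3`, over a field with more than two elements, is trivial as soon as it
splits over the (perfect) rank two subgroups. -/
theorem injective_of_liftHyp [Fintype J] {n : ℕ} (D : CData J K G ν ε) (ψ : E →* G)
    (L : LiftHyp D ψ) (hlam : ∃ lam : K, lam ≠ 0 ∧ lam ≠ 1) (e : Fin (n + n) ≃ J)
    (he : ∀ k, e (Fin.rev k) = ν (e k)) (hn : 3 ≤ n) (hgen : D.Gen) (φ : G →* Matrix J J K)
    (hφ : IsRepC D φ) (hφi : Function.Injective φ) (hperf : commutator E = ⊤) :
    Function.Injective ψ := by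
  classical
  have hex : ∀ k : J, ∃ c : J, c ≠ k ∧ c ≠ ν k := by
    intro k
    obtain ⟨c, h1, -, h3, -⟩ := hc_fin hn (e.symm k) (e.symm k)
    refine ⟨e c, ?_, ?_⟩
    · intro h
      exact h1 (by rw [← h, Equiv.symm_apply_apply])
    · intro h
      apply h3
      apply e.injective
      rw [he, Equiv.apply_symm_apply, h]
  choose cc hcc using hex
  set C' := liftCData L hcc hlam with hC'
  have hrep : IsRepC C' (φ.comp ψ) := by
    refine ⟨fun k l t hkl hkl' x => ?_, fun k t x => ?_⟩
    · rw [MonoidHom.comp_apply, psi_liftCData]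
      exact hφ.1 k l t hkl hkl' x
    · rw [MonoidHom.comp_apply, psi_liftCData]
      exact hφ.2 k t x
  have h2 : H2 C' (φ.comp ψ) := by
    intro a b hab hab' g hg hg1
    apply liftCData_G2_inj L hcc hlam hab hab' hg
    apply hφi
    rw [map_one]
    exact hg1
  have hinj := rep_injective_of_equiv C' e he hn (liftCData_gen L hcc hlam hgen hperf)
    (φ.comp ψ) hrep h2
  intro x y hxy
  apply hinj
  rw [MonoidHom.comp_apply, MonoidHom.comp_apply, hxy]

end Cfsg.Agent.Lib.Helper2.CL
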