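import Cfsg.Agent.Lib.Helper3.DN1

/-!
# Steinberg data of type `C`: root elements indexed by pairs in a set with a fixed-point-free
involution and a sign function

`y k l t` is the root element of the root `e_k - e_l`, where `e_{ν k} = - e_k`; for `l = ν k` this
is the long root `2 e_k`.  The signs `ε k = ± 1`, `ε (ν k) = - ε k`, are the values
`B(e_k, e_{ν k})` of the alternating form.
-/

set_option linter.unusedSectionVars false
set_option linter.unusedVariables false

namespace Cfsg.Agent.Lib.Helper2.CN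

open Cfsg.Agent.Lib.Helper5.Stb Cfsg.Agent.Lib.Helper3.AN Cfsg.Agent.Lib.Helper3.DN

/-- Steinberg data of type `C`. -/
structure CData (J K G : Type*) [Field K] [Group G] (ν : J → J) (ε : J → K) where
  nu_nu : ∀ k, ν (ν k) = k
  nu_ne : ∀ k, ν k ≠ k
  eps_nu : ∀ k, ε (ν k) = - ε k
  eps_sq : ∀ k, ε k * ε k = 1
  y : J → J → K → G
  y_self : ∀ k t, y k k t = 1
  y_flip : ∀ k l t, y k l t = y (ν l) (ν k) (-(ε k * ε l) * t)
  y_add : ∀ k l t u, y k l (t + u) = y k l t * y k l u
  y_comm : ∀ k l p m t u, l ≠ p → k ≠ m → k ≠ ν p → l ≠ ν m →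
    y k l t * y p m u = y p m u * y k l t
  y_rel : ∀ k l m t u, k ≠ l → l ≠ m → k ≠ m → k ≠ ν l → l ≠ ν m → k ≠ ν m →
    y k l t * y l m u * (y k l t)⁻¹ * (y l m u)⁻¹ = y k m (t * u)
  y_B2 : ∀ k l t u, k ≠ l → k ≠ ν l →
    y k l t * y l (ν k) u * (y k l t)⁻¹ * (y l (ν k) u)⁻¹ = y k (ν k) (2 * t * u)
  y_B3 : ∀ k l t u, k ≠ l → k ≠ ν l →
    y k l t * y l (ν l) u * (y k l t)⁻¹ * (y l (ν l) u)⁻¹ =
      y k (ν l) (t * u) * y k (ν k) (ε k * ε l * t ^ 2 * u)

variable {J K G : Type*} [Field K] [Group G] {ν : J → J} {ε : J → K} (C : CData J K G ν ε)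

namespace CData

section incl
include C

theorem nu_inj {a b : J} (h : ν a = ν b) : a = b := by
  have := congrArg ν h
  rwa [C.nu_nu, C.nu_nu] at this

theorem ne_nu_symm {a b : J} (h : a ≠ ν b) : b ≠ ν a := fun h' => h (by rw [h', C.nu_nu])

theorem ne_nu (k : J) : k ≠ ν k := (C.nu_ne k).symm

theorem nu_ne_nu {a b : J} (h : a ≠ b) : ν a ≠ ν b := fun h' => h (C.nu_inj h')

theorem eps_ne_zero (k : J) : ε k ≠ 0 := by
  intro h
  have := C.eps_sq k
  rw [h, mul_zero] at this
  exact zero_ne_one this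

theorem eps_inv (k : J) : (ε k)⁻¹ = ε k := by
  exact inv_eq_of_mul_eq_one_right (C.eps_sq k)

theorem eps_cases (k : J) : ε k = 1 ∨ ε k = -1 := by
  have h : (ε k - 1) * (ε k + 1) = 0 := by
    have := C.eps_sq k
    linear_combination this
  rcases mul_eq_zero.1 h with h | h
  · left; linear_combination h
  · right; linear_combination h

/-- the product of two signs squares to one -/
theorem ee_sq (k l : J) : ε k * ε l * (ε k * ε l) = 1 := by
  have h1 := C.eps_sq k
  have h2 := C.eps_sq l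
  linear_combination (ε l * ε l) * h1 + h2

theorem ee_ne_zero (k l : J) : ε k * ε l ≠ 0 := mul_ne_zero (C.eps_ne_zero k) (C.eps_ne_zero l)

theorem ee_inv (k l : J) : (ε k * ε l)⁻¹ = ε k * ε l := by
  rw [mul_inv, C.eps_inv, C.eps_inv]

end incl

theorem y_zero (k l : J) : C.y k l 0 = 1 := by
  have h := C.y_add k l 0 0
  rw [add_zero] at h
  exact (mul_eq_left.1 h.symm)

theorem y_neg (k l : J) (t : K) : C.y k l (-t) = (C.y k l t)⁻¹ := by
  rw [eq_inv_iff_mul_eq_one, ← C.y_add, neg_add_cancel, C.y_zero]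

theorem y_sub (k l : J) (t u : K) : C.y k l (t - u) = C.y k l t * (C.y k l u)⁻¹ := by
  rw [sub_eq_add_neg, C.y_add, C.y_neg]

/-- the flip relation, solved for the other side -/
theorem y_flip' (k l : J) (t : K) : C.y (ν l) (ν k) t = C.y k l (-(ε k * ε l) * t) := by
  rw [C.y_flip k l (-(ε k * ε l) * t)]
  congr 1
  have := C.ee_sq k l
  linear_combination (-t) * this

/-- Steinberg data of type `A` on an opposite-free family of indices -/
def pull {I : Type*} (e : I → J) (he : Function.Injective e) (hop : ∀ a b, e a ≠ ν (e b)) :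
    StData I K G where
  x := fun a b t => C.y (e a) (e b) t
  x_self := fun a t => C.y_self _ _
  x_add := fun a b t u => C.y_add _ _ _ _
  x_comm := fun i j k l t u hil hjk =>
    C.y_comm _ _ _ _ t u (fun h => hjk (he h)) (fun h => hil (he h)) (hop _ _) (hop _ _)
  x_rel := fun i j l t u hij hjl hil =>
    C.y_rel _ _ _ t u (fun h => hij (he h)) (fun h => hjl (he h)) (fun h => hil (he h))
      (hop _ _) (hop _ _) (hop _ _)

include C in
theorem fr3_hop {a b c : J} (h : Tri ν a b c) (i j : Fin 3) :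
    fr3 a b c i ≠ ν (fr3 a b c j) := by
  have h1 := h.ab'
  have h2 := h.ac'
  have h3 := h.bc'
  have h4 := C.ne_nu_symm h.ab'
  have h5 := C.ne_nu_symm h.ac'
  have h6 := C.ne_nu_symm h.bc'
  have h7 := C.ne_nu a
  have h8 := C.ne_nu b
  have h9 := C.ne_nu c
  fin_cases i <;> fin_cases j <;> simp only [fr3] <;> assumption

/-- the Steinberg data of type `A₂` on a frame of three indices -/
def tri (a b c : J) (h : Tri ν a b c) : StData (Fin 3) K G :=
  C.pull (fr3 a b c) (DData.fr3_inj h) (C.fr3_hop h)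

/-- the Weyl elements (for `l = ν k` this is the Weyl element of the long root) -/
def w (k l : J) (u : K) : G := C.y k l u * C.y l k (-u⁻¹) * C.y k l u

/-- the torus elements -/
def h (k l : J) (u : K) : G := C.w k l u * C.w k l (-1)

theorem w_inv (k l : J) (u : K) : (C.w k l u)⁻¹ = C.w k l (-u) := by
  unfold w
  rw [mul_inv_rev, mul_inv_rev, ← C.y_neg, ← C.y_neg, inv_neg, neg_neg, mul_assoc]

theorem w_flip (k l : J) (u : K) : C.w k l u = C.w (ν l) (ν k) (-(ε k * ε l) * u) := by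
  unfold w
  rw [C.y_flip k l u, C.y_flip l k (-u⁻¹)]
  congr 2
  congr 1
  rw [mul_inv, inv_neg, C.ee_inv, mul_comm (ε l) (ε k)]
  ring

theorem cj_w (k l : J) (u : K) (g : G) :
    MulAut.conj (C.w k l u) g =
      MulAut.conj (C.y k l u) (MulAut.conj (C.y l k (-u⁻¹)) (MulAut.conj (C.y k l u) g)) := by
  simp only [w, map_mul, MulAut.mul_apply]

section tri
variable {i j l : J} (h : Tri ν i j l)
include h

theorem cjw1 {u : K} (hu : u ≠ 0) (t : K) :
    MulAut.conj (C.w i j u) (C.y j l t) = C.y i l (u * t) :=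
  (C.tri i j l h).cjw_1 (i := 0) (j := 1) (l := 2) u t hu (by decide) (by decide) (by decide)

theorem cjw2 {u : K} (hu : u ≠ 0) (t : K) :
    MulAut.conj (C.w i j u) (C.y i l t) = C.y j l (-u⁻¹ * t) :=
  (C.tri i j l h).cjw_2 (i := 0) (j := 1) (l := 2) u t hu (by decide) (by decide) (by decide)

theorem cjw3 {u : K} (hu : u ≠ 0) (t : K) :
    MulAut.conj (C.w i j u) (C.y l j t) = C.y l i (t * u⁻¹) :=
  (C.tri i j l h).cjw_3 (i := 0) (j := 1) (l := 2) u t hu (by decide) (by decide) (by decide)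

theorem cjw4 {u : K} (hu : u ≠ 0) (t : K) :
    MulAut.conj (C.w i j u) (C.y l i t) = C.y l j (-(t * u)) :=
  (C.tri i j l h).cjw_4 (i := 0) (j := 1) (l := 2) u t hu (by decide) (by decide) (by decide)

theorem cjw5 {u : K} (hu : u ≠ 0) (t : K) :
    MulAut.conj (C.w i j u) (C.y i j t) = C.y j i (-u⁻¹ * t * u⁻¹) :=
  (C.tri i j l h).cjw_5 (i := 0) (j := 1) (l := 2) u t hu (by decide) (by decide) (by decide)

theorem cjw6 {u : K} (hu : u ≠ 0) (t : K) :
    MulAut.conj (C.w i j u) (C.y j i t) = C.y i j (-(u * t * u)) :=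
  (C.tri i j l h).cjw_6 (i := 0) (j := 1) (l := 2) u t hu (by decide) (by decide) (by decide)

theorem cj_rel (t u : K) :
    MulAut.conj (C.y i j t) (C.y j l u) = C.y i l (t * u) * C.y j l u :=
  (C.tri i j l h).cj_rel (i := 0) (j := 1) (l := 2) t u (by decide) (by decide) (by decide)

theorem cj_rel' (t u : K) :
    MulAut.conj (C.y j l u) (C.y i j t) = C.y i l (-(t * u)) * C.y i j t :=
  (C.tri i j l h).cj_rel' (i := 0) (j := 1) (l := 2) t u (by decide) (by decide) (by decide)

theorem w_swap {u : K} (hu : u ≠ 0) : C.w i j u = C.w j i (-u⁻¹) :=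
  (C.tri i j l h).w_swap DData.h3_fin3 (i := 0) (k := 1) (by decide) hu

theorem y_eq_ywy {a : K} (ha : a ≠ 0) :
    C.y i j a = C.y j i a⁻¹ * C.w i j a * C.y j i a⁻¹ :=
  (C.tri i j l h).x_eq_ywy DData.h3_fin3 (i := 0) (k := 1) (by decide) ha

end tri

theorem cj_comm {k l p m : J} (t u : K) (h1 : l ≠ p) (h2 : k ≠ m) (h3 : k ≠ ν p)
    (h4 : l ≠ ν m) : MulAut.conj (C.y k l t) (C.y p m u) = C.y p m u := by
  rw [MulAut.conj_apply, C.y_comm k l p m t u h1 h2 h3 h4, mul_inv_cancel_right]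

/-- conjugation form of `y_B2` -/
theorem cj_B2 {k l : J} (hkl : k ≠ l) (hkl' : k ≠ ν l) (t u : K) :
    MulAut.conj (C.y k l t) (C.y l (ν k) u) = C.y k (ν k) (2 * t * u) * C.y l (ν k) u := by
  rw [MulAut.conj_apply, ← C.y_B2 k l t u hkl hkl']; group

/-- conjugation form of `y_B3` -/
theorem cj_B3 {k l : J} (hkl : k ≠ l) (hkl' : k ≠ ν l) (t u : K) :
    MulAut.conj (C.y k l t) (C.y l (ν l) u) =
      C.y k (ν l) (t * u) * C.y k (ν k) (ε k * ε l * t ^ 2 * u) * C.y l (ν l) u := by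
  rw [MulAut.conj_apply, ← C.y_B3 k l t u hkl hkl']; group

/-- the long root elements of different indices commute -/
theorem long_comm {k l : J} (hkl : k ≠ ν l) (t u : K) :
    Commute (C.y k (ν k) t) (C.y l (ν l) u) := by
  by_cases h : k = l
  · subst h
    show C.y k (ν k) t * C.y k (ν k) u = C.y k (ν k) u * C.y k (ν k) t
    rw [← C.y_add, ← C.y_add, add_comm]
  · have h1 : ν k ≠ l := (C.ne_nu_symm hkl).symm
    refine C.y_comm k (ν k) l (ν l) t u h1 hkl hkl ?_
    rw [C.nu_nu]; exact h1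

/-- the root elements generate -/
def Gen : Prop := Subgroup.closure {g : G | ∃ k l t, g = C.y k l t} = ⊤

end CData

end Cfsg.Agent.Lib.Helper2.CN
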