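import Cfsg.Agent.Lib.Helper2.CN9

/-!
# Type `C`: the Bruhat decomposition, conclusion
-/

set_option linter.unusedSectionVars false
set_option linter.unusedVariables false

namespace Cfsg.Agent.Lib.Helper2.CN

open Cfsg.Agent.Lib.Helper5.Stb Cfsg.Agent.Lib.Helper3.AN Cfsg.Agent.Lib.Helper3.DN Matrix

variable {n : ℕ} {K G : Type*} [Field K] [Group G] {ε : Fin (n + n) → K}
  (C : CData (Fin (n + n)) K G Fin.rev ε)

namespace CData

section
variable {φ : G →* Matrix (Fin (n + n)) (Fin (n + n)) K} (h2 : H2 C φ) (hφ : IsRepC C φ)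
  (hc2 : ∀ a : Fin (n + n), ∃ b, b ≠ a ∧ b ≠ Fin.rev a)
  (hc : ∀ a b : Fin (n + n), ∃ c, c ≠ a ∧ c ≠ b ∧ c ≠ Fin.rev a ∧ c ≠ Fin.rev b)
include h2 hφ hc2 hc

/-- the negative root element of the class `(n+1, n-1)`, which is not simple in type `C` -/
theorem bad_mem_Stab {k l : Fin (n + n)} (hk : k.val = n + 1) (hl : l.val + 1 = n) (t : K) :
    C.y k l t ∈ C.Stab := by
  have hkl := k.isLt
  have rk := Fin.val_rev k
  have rl := Fin.val_rev l
  have hsL : IsSimpC l (Fin.rev l) := ⟨by omega, by omega⟩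
  have hk1 : k ≠ l := by intro e; rw [e] at hk; omega
  have hk2 : k ≠ Fin.rev l := by intro e; rw [e] at hk; omega
  have hpre : ∀ s, C.y k (Fin.rev l) s ∈ C.Stab := by
    intro s
    rw [C.y_flip k (Fin.rev l) s, Fin.rev_rev]
    have hs : IsSimpC (Fin.rev k) l := ⟨by omega, by omega⟩
    exact C.neg_simple_mem_Stab h2 hφ hc2 hc hs _
  have := C.mem_Stab_of_move h2 hφ hc2 hc hsL
    (rawMon_wL h2 hφ hc2 l (one_ne_zero (α := K))) hpre t
  rwa [sigL_of_ne l hk1 hk2, sigL_ni C l] at this

theorem y_lower_mem_Stab : ∀ d : ℕ, ∀ k l : Fin (n + n), l.val + d + 1 = k.val → ∀ t : K,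
    C.y k l t ∈ C.Stab := by
  intro d
  induction d using Nat.strong_induction_on with
  | _ d ih =>
    intro k l hd t
    have hkl := k.isLt
    have hll := l.isLt
    have rk := Fin.val_rev k
    have rl := Fin.val_rev l
    by_cases h0 : l = Fin.rev k
    · -- the long roots
      subst h0
      by_cases hkn : k.val = n
      · have hs : IsSimpC (Fin.rev k) k := ⟨by omega, by omega⟩
        exact C.neg_simple_mem_Stab h2 hφ hc2 hc hs t
      · have hk : n < k.val := by omega
        set a := Fin.rev k with ha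
        have hbl : a.val + 1 < n + n := by omega
        set b : Fin (n + n) := ⟨a.val + 1, hbl⟩ with hb
        have hbv : b.val = a.val + 1 := rfl
        have rb := Fin.val_rev b
        have hs : IsSimpC a b := ⟨rfl, by omega⟩
        have habne : a ≠ b := ne_of_lt (simpC_lt hs)
        have hab'' : a ≠ Fin.rev b := by
          intro e; have := congrArg Fin.val e; omega
        have hpre : ∀ s, C.y (Fin.rev b) b s ∈ C.Stab := by
          intro s
          exact ih (d - 2) (by omega) (Fin.rev b) b (by omega) s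
        have := C.mem_Stab_of_move h2 hφ hc2 hc hs
          (rawMon_w h2 hφ habne hab'' (one_ne_zero (α := K))) hpre t
        rwa [sig_nj C.toD habne hab'', sig_j C.toD habne hab'', ha, Fin.rev_rev] at this
    by_cases hs1 : IsSimp l k
    · rcases hs1 with h | h
      · exact C.neg_simple_mem_Stab h2 hφ hc2 hc ⟨h.1, le_of_lt h.2⟩ t
      · rw [C.y_flip k l t]
        exact C.bad_mem_Stab h2 hφ hc2 hc (by omega) (by omega) _
    by_cases hs2 : IsSimp (Fin.rev k) (Fin.rev l)
    · rcases hs2 with h | h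
      · rw [C.y_flip k l t]
        exact C.neg_simple_mem_Stab h2 hφ hc2 hc ⟨h.1, le_of_lt h.2⟩ _
      · exact C.bad_mem_Stab h2 hφ hc2 hc (by omega) (by omega) _
    have hlk : l < k := by rw [Fin.lt_def]; omega
    obtain ⟨m, hm1, hm2, hm3, hm4⟩ := exists_mid hlk h0 hs1 hs2
    have hT : Tri Fin.rev k m l :=
      ⟨ne_of_gt hm2, ne_of_gt hlk, ne_of_gt hm1, C.ne_nu_symm hm3, C.ne_nu_symm h0, hm4⟩
    have e := C.y_rel k m l t 1 hT.ab hT.bc hT.ac hT.ab' hT.bc' hT.ac'
    rw [mul_one] at e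
    rw [← e]
    rw [Fin.lt_def] at hm1 hm2
    have m1 : C.y k m t ∈ C.Stab := ih (k.val - m.val - 1) (by omega) k m (by omega) t
    have m2 : C.y m l 1 ∈ C.Stab := ih (m.val - l.val - 1) (by omega) m l (by omega) 1
    exact mul_mem (mul_mem (mul_mem m1 m2) (inv_mem m1)) (inv_mem m2)

theorem bruhat (hgen : C.Gen) (g : G) : g ∈ C.Om := by
  have h1 : C.Stab = ⊤ := by
    rw [eq_top_iff, ← hgen, Subgroup.closure_le]
    rintro y ⟨k, l, t, rfl⟩
    rcases lt_trichotomy k l with h | h | h
    · exact C.Upos_le_Stab (C.y_mem_Upos h t)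
    · subst h; rw [C.y_self]; exact one_mem _
    · have : l.val + (k.val - l.val - 1) + 1 = k.val := by rw [Fin.lt_def] at h; omega
      exact C.y_lower_mem_Stab h2 hφ hc2 hc _ k l this t
  have h2' : g ∈ C.Stab := by rw [h1]; trivial
  have := (h2' 1 (C.mem_Om_of_Nw (one_mem _))).1
  rwa [mul_one] at this

end

end CData

end Cfsg.Agent.Lib.Helper2.CN
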