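import Cfsg.Agent.Lib.Helper2.CN10
import Cfsg.Agent.Lib.Helper5.Stb.F1

/-!
# Type `C`: triangular and monomial matrices
-/

set_option linter.unusedSectionVars false
set_option linter.unusedVariables false

namespace Cfsg.Agent.Lib.Helper2.CN

open Cfsg.Agent.Lib.Helper5.Stb Cfsg.Agent.Lib.Helper3.AN Cfsg.Agent.Lib.Helper3.DN Matrix

section raw
variable {J K G : Type*} [Field K] [Group G] {ν : J → J} {ε : J → K} (C : CData J K G ν ε)

/-- a monomially acting element conjugates Weyl elements to Weyl elements -/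
theorem rawMon_cj_w {g : G} {π : Equiv.Perm J} {v : J → K} (h : RawMon C.y g π v) (k l : J)
    {u : K} (hu : u ≠ 0) :
    MulAut.conj g (C.w k l u) = C.w (π k) (π l) (v k * u * (v l)⁻¹) := by
  unfold CData.w
  rw [map_mul, map_mul, h.2, h.2]
  have hk := h.1 k
  have hl := h.1 l
  have e : v l * -u⁻¹ * (v k)⁻¹ = -(v k * u * (v l)⁻¹)⁻¹ := by
    field_simp
  rw [e]

theorem rawMon_mul_w {g : G} {π : Equiv.Perm J} {v : J → K} (h : RawMon C.y g π v) (k l : J)
    {u : K} (hu : u ≠ 0) :
    g * C.w k l u = C.w (π k) (π l) (v k * u * (v l)⁻¹) * g := by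
  have := rawMon_cj_w C h k l hu
  rw [MulAut.conj_apply] at this
  exact mul_inv_eq_iff_eq_mul.mp this

end raw

variable {n : ℕ} {K G : Type*} [Field K] [Group G] {ε : Fin (n + n) → K}
  (C : CData (Fin (n + n)) K G Fin.rev ε)
  {φ : G →* Matrix (Fin (n + n)) (Fin (n + n)) K}

namespace CData

theorem Upos_UTvec (hφ : IsRepC C φ) {g : G} (hg : g ∈ C.Upos) (l : Fin (n + n)) :
    ∀ x : Fin (n + n) → K, UTvec l x → UTvec l (φ g *ᵥ x) := by
  have key : ∀ a b : Fin (n + n), a < b → ∀ t : K, ∀ x : Fin (n + n) → K, UTvec l x →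
      UTvec l (φ (C.y a b t) *ᵥ x) := by
    intro a b hab t x hx
    have hm : ∀ m, l ≤ m → (φ (C.y a b t) *ᵥ x) m = x m := by
      intro m hlm
      by_cases hab' : b = Fin.rev a
      · subst hab'
        rw [hφ.2 a t]
        simp only [Pi.add_apply, Pi.smul_apply, smul_eq_mul, ev, Pi.single_apply]
        have e1 : (t * x (Fin.rev a)) * (if m = a then (1 : K) else 0) = 0 := by
          split_ifs with h
          · have : l < Fin.rev a := lt_of_le_of_lt (h ▸ hlm) hab
            rw [hx.2 _ this]; ring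
          · ring
        linear_combination e1
      · rw [hφ.1 a b t (ne_of_lt hab) hab']
        simp only [Pi.add_apply, Pi.sub_apply, Pi.smul_apply, smul_eq_mul, ev, Pi.single_apply]
        have e1 : (t * x b) * (if m = a then (1 : K) else 0) = 0 := by
          split_ifs with h
          · have : l < b := lt_of_le_of_lt (h ▸ hlm) hab
            rw [hx.2 b this]; ring
          · ring
        have e2 : (ε a * ε b * t * x (Fin.rev a)) * (if m = Fin.rev b then (1 : K) else 0) = 0 := by
          split_ifs with h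
          · have : l < Fin.rev a := lt_of_le_of_lt (h ▸ hlm) (Fin.rev_lt_rev.2 hab)
            rw [hx.2 _ this]; ring
          · ring
        linear_combination e1 - e2
    refine ⟨?_, fun k hk => ?_⟩
    · rw [hm l le_rfl]; exact hx.1
    · rw [hm k (le_of_lt hk)]; exact hx.2 k hk
  unfold Upos at hg
  induction hg using Subgroup.closure_induction'' with
  | mem y hy =>
    obtain ⟨a, b, t, hab, rfl⟩ := hy
    exact key a b hab t
  | inv_mem y hy =>
    obtain ⟨a, b, t, hab, rfl⟩ := hy
    rw [← C.y_neg]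
    exact key a b hab (-t)
  | one => intro x hx; rwa [map_one, Matrix.one_mulVec]
  | mul x y _ _ hx hy =>
    intro v hv
    rw [map_mul, ← Matrix.mulVec_mulVec]
    exact hx _ (hy v hv)

theorem Nw_mono (h2 : H2 C φ) (hφ : IsRepC C φ)
    (hc2 : ∀ a : Fin (n + n), ∃ b, b ≠ a ∧ b ≠ Fin.rev a) {g : G} (hg : g ∈ C.Nw) :
    ∃ (π : Equiv.Perm (Fin (n + n))) (v : Fin (n + n) → K), RawMon C.y g π v ∧
      RepMon φ g π v := by
  have key : ∀ i j : Fin (n + n), ∀ u : K, i ≠ j → u ≠ 0 →
      ∃ (π : Equiv.Perm (Fin (n + n))) (v : Fin (n + n) → K), RawMon C.y (C.w i j u) π v ∧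
        RepMon φ (C.w i j u) π v := by
    intro i j u hij hu
    by_cases hij' : j = Fin.rev i
    · subst hij'
      exact ⟨_, _, rawMon_wL h2 hφ hc2 i hu, repC_wL_ev hφ i hu⟩
    · exact ⟨_, _, rawMon_w h2 hφ hij (C.ne_nu_symm hij') hu,
        repC_w_ev hφ hij (C.ne_nu_symm hij') hu⟩
  unfold Nw at hg
  induction hg using Subgroup.closure_induction'' with
  | mem y hy =>
    obtain ⟨i, j, u, hij, hu, rfl⟩ := hy
    exact key i j u hij hu
  | inv_mem y hy =>
    obtain ⟨i, j, u, hij, hu, rfl⟩ := hy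
    rw [C.w_inv]
    exact key i j (-u) hij (neg_ne_zero.mpr hu)
  | one => exact ⟨1, fun _ => 1, RawMon.one _, RepMon.one⟩
  | mul x y _ _ hx hy =>
    obtain ⟨π, c, h1, h1'⟩ := hx
    obtain ⟨π', c', h2', h2''⟩ := hy
    exact ⟨π * π', fun l => c' l * c (π' l), h1.mul h2', h1'.mul h2''⟩

end CData

end Cfsg.Agent.Lib.Helper2.CN
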