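import Cfsg.Agent.Lib.Helper2.CN11

/-!
# Type `C`: the representation is faithful on the unipotent subgroup
-/

set_option linter.unusedSectionVars false
set_option linter.unusedVariables false

namespace Cfsg.Agent.Lib.Helper2.CN

open Cfsg.Agent.Lib.Helper5.Stb Cfsg.Agent.Lib.Helper3.AN Cfsg.Agent.Lib.Helper3.DN Matrix

section generic
variable {J K G : Type*} [Field K] [Group G] [Fintype J] [DecidableEq J] {ν : J → J} {ε : J → K}
  {C : CData J K G ν ε} {φ : G →* Matrix J J K} (hφ : IsRepC C φ)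
include hφ

theorem repC_long' (k : J) (t : K) (x : J → K) :
    φ (C.y (ν k) k t) *ᵥ x = x + (t * x k) • (ev (ν k) : J → K) := by
  have := hφ.2 (ν k) t x
  rwa [C.nu_nu] at this

end generic

variable {n : ℕ} {K G : Type*} [Field K] [Group G] {ε : Fin (n + n) → K}
  (C : CData (Fin (n + n)) K G Fin.rev ε)

namespace CData

/-- part of a column subgroup; the long root element of the column is always included -/
def ColJ (m : Fin (n + n)) (S : Finset (Fin (n + n))) : Subgroup G :=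
  Subgroup.closure {g | ∃ k t, (k ∈ S ∨ k = Fin.rev m) ∧ g = C.y k m t}

/-- the short rows of the column `m` -/
def rowsC (m : Fin (n + n)) : Finset (Fin (n + n)) :=
  Finset.univ.filter (fun k => Fin.rev m < k ∧ k < m)

/-- the column subgroups -/
def Col (m : Fin (n + n)) : Subgroup G := C.ColJ m (rowsC m)

/-- the subgroup generated by the root elements in the columns `L` -/
def VC (L : Finset (Fin (n + n))) : Subgroup G :=
  Subgroup.closure {g | ∃ k l t, l ∈ L ∧ Fin.rev l ≤ k ∧ k < l ∧ g = C.y k l t}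

theorem col_comm {k k' m : Fin (n + n)} (hk : k ≠ m) (hk' : k' ≠ m) (hkk : k ≠ Fin.rev k')
    (t s : K) : C.y k m t * C.y k' m s = C.y k' m s * C.y k m t :=
  C.y_comm k m k' m t s hk'.symm hk hkk (C.ne_nu m)

theorem col_B2 {k m : Fin (n + n)} (hk : k ≠ m) (hk' : k ≠ Fin.rev m) (t s : K) :
    ∃ c : K, C.y k m t * C.y (Fin.rev k) m s =
      C.y (Fin.rev m) m c * C.y (Fin.rev k) m s * C.y k m t := by
  have h1 : Fin.rev m ≠ Fin.rev k := fun h => hk (Fin.rev_injective h).symm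
  have h2 : Fin.rev m ≠ Fin.rev (Fin.rev k) := by rw [Fin.rev_rev]; exact hk'.symm
  have e := C.y_B2 (Fin.rev m) (Fin.rev k) (-(ε k * ε m) * t) s h1 h2
  rw [Fin.rev_rev, ← C.y_flip k m t] at e
  refine ⟨2 * (-(ε k * ε m) * t) * s, ?_⟩
  rw [← e]; group

theorem ColJ_decomp {m k₀ : Fin (n + n)} {S : Finset (Fin (n + n))} (hm : m ∉ insert k₀ S)
    (hk₀ : k₀ ≠ Fin.rev m) {g : G} (hg : g ∈ C.ColJ m (insert k₀ S)) :
    ∃ g' ∈ C.ColJ m S, ∃ t, g = g' * C.y k₀ m t := by
  have hk₀m : k₀ ≠ m := fun h => hm (h ▸ Finset.mem_insert_self _ _)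
  have key : ∀ g' ∈ C.ColJ m S, ∀ t k s, (k ∈ insert k₀ S ∨ k = Fin.rev m) →
      ∃ g'' ∈ C.ColJ m S, ∃ t', g' * C.y k₀ m t * C.y k m s = g'' * C.y k₀ m t' := by
    intro g' hg' t k s hk
    rcases hk with hk | rfl
    · rcases Finset.mem_insert.mp hk with rfl | hk
      · exact ⟨g', hg', t + s, by rw [mul_assoc, ← C.y_add]⟩
      · have hkm : k ≠ m := fun h => hm (h ▸ Finset.mem_insert_of_mem hk)
        by_cases hkk : k = Fin.rev k₀
        · subst hkk
          obtain ⟨c, hc⟩ := C.col_B2 hk₀m hk₀ t s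
          refine ⟨g' * C.y (Fin.rev m) m c * C.y (Fin.rev k₀) m s,
            mul_mem (mul_mem hg' (Subgroup.subset_closure ⟨_, c, Or.inr rfl, rfl⟩))
              (Subgroup.subset_closure ⟨_, s, Or.inl hk, rfl⟩), t, ?_⟩
          rw [mul_assoc g', hc]; group
        · refine ⟨g' * C.y k m s,
            mul_mem hg' (Subgroup.subset_closure ⟨k, s, Or.inl hk, rfl⟩), t, ?_⟩
          have hkk' : k₀ ≠ Fin.rev k := fun h => hkk (by rw [h, Fin.rev_rev])
          rw [mul_assoc, C.col_comm hk₀m hkm hkk', ← mul_assoc]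
    · refine ⟨g' * C.y (Fin.rev m) m s,
        mul_mem hg' (Subgroup.subset_closure ⟨_, s, Or.inr rfl, rfl⟩), t, ?_⟩
      have h1 : k₀ ≠ Fin.rev (Fin.rev m) := by rw [Fin.rev_rev]; exact hk₀m
      rw [mul_assoc, C.col_comm hk₀m (C.nu_ne m) h1, ← mul_assoc]
  unfold ColJ at hg
  induction hg using Subgroup.closure_induction_right with
  | one => exact ⟨1, one_mem _, 0, by rw [C.y_zero, mul_one]⟩
  | mul_right x hx y hy ih =>
    obtain ⟨g', hg', t, rfl⟩ := ih
    obtain ⟨k, s, hk, rfl⟩ := hy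
    exact key g' hg' t k s hk
  | mul_inv_cancel x hx y hy ih =>
    obtain ⟨g', hg', t, rfl⟩ := ih
    obtain ⟨k, s, hk, rfl⟩ := hy
    rw [← C.y_neg]
    exact key g' hg' t k (-s) hk

theorem ColJ_empty {m : Fin (n + n)} {g : G} (hg : g ∈ C.ColJ m ∅) :
    ∃ t, g = C.y (Fin.rev m) m t := by
  unfold ColJ at hg
  induction hg using Subgroup.closure_induction with
  | mem y hy =>
    obtain ⟨k, t, hk, rfl⟩ := hy
    rcases hk with hk | rfl
    · exact absurd hk (Finset.notMem_empty k)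
    · exact ⟨t, rfl⟩
  | one => exact ⟨0, by rw [C.y_zero]⟩
  | mul a b _ _ ha hb =>
    obtain ⟨t, rfl⟩ := ha
    obtain ⟨s, rfl⟩ := hb
    exact ⟨t + s, by rw [C.y_add]⟩
  | inv a _ ha =>
    obtain ⟨t, rfl⟩ := ha
    exact ⟨-t, by rw [C.y_neg]⟩

theorem y_mem_Col {k m : Fin (n + n)} (h1 : Fin.rev m < k) (h2 : k < m) (t : K) :
    C.y k m t ∈ C.Col m :=
  Subgroup.subset_closure ⟨k, t, Or.inl (by simp [rowsC, h1, h2]), rfl⟩

theorem yL_mem_Col (m : Fin (n + n)) (t : K) : C.y (Fin.rev m) m t ∈ C.Col m :=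
  Subgroup.subset_closure ⟨_, t, Or.inr rfl, rfl⟩

theorem y_mem_Col' {k m : Fin (n + n)} (h1 : Fin.rev m ≤ k) (h2 : k < m) (t : K) :
    C.y k m t ∈ C.Col m := by
  rcases lt_or_eq_of_le h1 with h | h
  · exact C.y_mem_Col h h2 t
  · rw [← h]; exact C.yL_mem_Col m t

theorem Col_conj {k l m : Fin (n + n)} (hkl1 : Fin.rev l ≤ k) (hkl : k < l) (hlm : l < m) (t : K)
    {r : G} (hr : r ∈ C.Col m) : MulAut.conj (C.y k l t) r ∈ C.Col m := by
  have hrev : Fin.rev m < Fin.rev l := Fin.rev_lt_rev.2 hlm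
  have hkm : k < m := lt_trans hkl hlm
  have hmk : Fin.rev m < k := lt_of_lt_of_le hrev hkl1
  have hml : Fin.rev m < l := lt_trans hmk hkl
  unfold Col ColJ at hr
  induction hr using Subgroup.closure_induction with
  | mem y hy =>
    obtain ⟨j, s, hj, rfl⟩ := hy
    rcases hj with hj | rfl
    · have hj' : Fin.rev m < j ∧ j < m := by simpa [rowsC] using hj
      by_cases hL : k = Fin.rev l
      · -- conjugation by a long root element
        subst hL
        by_cases hjl : j = l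
        · subst hjl
          have h1 : Fin.rev m ≠ Fin.rev j := ne_of_lt hrev
          have h2 : Fin.rev m ≠ Fin.rev (Fin.rev j) := by rw [Fin.rev_rev]; exact ne_of_lt hml
          have e1 := C.y_flip j m s
          have e2 := C.cj_B3' h1 h2 (-(ε j * ε m) * s) t
          rw [Fin.rev_rev, Fin.rev_rev] at e2
          rw [e1, e2]
          refine mul_mem (inv_mem (mul_mem ?_ (C.yL_mem_Col m _))) ?_
          · rw [C.y_flip (Fin.rev m) j _, Fin.rev_rev]
            exact C.y_mem_Col hmk hkm _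
          · rw [← e1]
            exact C.y_mem_Col hj'.1 hj'.2 _
        · rw [C.cj_comm t s (Ne.symm hjl) (ne_of_lt hkm)
            (fun h => hjl (Fin.rev_injective h).symm)
            (fun h => (ne_of_gt hml) h)]
          exact C.y_mem_Col hj'.1 hj'.2 _
      · have hkl1' : Fin.rev l < k := lt_of_le_of_ne hkl1 (Ne.symm hL)
        by_cases hjl : j = l
        · subst hjl
          have hT : Tri Fin.rev k j m :=
            ⟨ne_of_lt hkl, ne_of_lt hkm, ne_of_lt hlm, (ne_of_lt hkl1').symm,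
              (ne_of_lt hmk).symm, (ne_of_lt hj'.1).symm⟩
          rw [C.cj_rel hT]
          exact mul_mem (C.y_mem_Col hmk hkm _) (C.y_mem_Col hj'.1 hj'.2 _)
        by_cases hjk : j = Fin.rev k
        · subst hjk
          have h1 : Fin.rev l < m := lt_trans hkl1' hkm
          have hT : Tri Fin.rev (Fin.rev l) (Fin.rev k) m :=
            ⟨fun h => (ne_of_lt hkl) (Fin.rev_injective h).symm, ne_of_lt h1, ne_of_lt hj'.2,
              by rw [Fin.rev_rev]; exact ne_of_lt hkl1',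
              fun h => (ne_of_lt hlm) (Fin.rev_injective h),
              fun h => (ne_of_lt hkm) (Fin.rev_injective h)⟩
          rw [C.y_flip k l t, C.cj_rel hT]
          exact mul_mem (C.y_mem_Col hrev h1 _) (C.y_mem_Col hj'.1 hj'.2 _)
        · rw [C.cj_comm t s (Ne.symm hjl) (ne_of_lt hkm)
            (fun h => hjk (by rw [h, Fin.rev_rev]))
            (fun h => (ne_of_gt hml) h)]
          exact C.y_mem_Col hj'.1 hj'.2 _
    · -- the long root element of the column is central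
      rw [C.cj_comm t s (ne_of_gt hml) (ne_of_lt hkm)
        (by rw [Fin.rev_rev]; exact ne_of_lt hkm) (ne_of_gt hml)]
      exact C.yL_mem_Col m s
  | one => rw [map_one]; exact one_mem _
  | mul a b _ _ ha hb => rw [map_mul]; exact mul_mem ha hb
  | inv a _ ha => rw [map_inv]; exact inv_mem ha

theorem VC_decomp {L : Finset (Fin (n + n))} {m : Fin (n + n)} (hL : ∀ l ∈ L, l < m) {g : G}
    (hg : g ∈ C.VC (insert m L)) : ∃ g' ∈ C.VC L, ∃ r ∈ C.Col m, g = g' * r := by
  have key : ∀ g' ∈ C.VC L, ∀ r ∈ C.Col m, ∀ k l t, l ∈ insert m L → Fin.rev l ≤ k → k < l →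
      ∃ g'' ∈ C.VC L, ∃ r' ∈ C.Col m, g' * r * C.y k l t = g'' * r' := by
    intro g' hg' r hr k l t hl hkl1 hkl
    rcases Finset.mem_insert.mp hl with rfl | hl
    · exact ⟨g', hg', r * C.y k l t, mul_mem hr (C.y_mem_Col' hkl1 hkl t), by rw [mul_assoc]⟩
    · refine ⟨g' * C.y k l t,
        mul_mem hg' (Subgroup.subset_closure ⟨k, l, t, hl, hkl1, hkl, rfl⟩),
        MulAut.conj (C.y k l (-t)) r, C.Col_conj hkl1 hkl (hL l hl) (-t) hr, ?_⟩
      rw [MulAut.conj_apply, C.y_neg]; group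
  unfold VC at hg
  induction hg using Subgroup.closure_induction_right with
  | one => exact ⟨1, one_mem _, 1, one_mem _, by rw [mul_one]⟩
  | mul_right x hx y hy ih =>
    obtain ⟨g', hg', r, hr, rfl⟩ := ih
    obtain ⟨k, l, t, hl, hkl1, hkl, rfl⟩ := hy
    exact key g' hg' r hr k l t hl hkl1 hkl
  | mul_inv_cancel x hx y hy ih =>
    obtain ⟨g', hg', r, hr, rfl⟩ := ih
    obtain ⟨k, l, t, hl, hkl1, hkl, rfl⟩ := hy
    rw [← C.y_neg]
    exact key g' hg' r hr k l (-t) hl hkl1 hkl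

theorem Upos_le_VC : C.Upos ≤ C.VC Finset.univ := by
  unfold Upos
  rw [Subgroup.closure_le]
  rintro g ⟨k, l, t, hkl, rfl⟩
  by_cases h1 : Fin.rev l ≤ k
  · exact Subgroup.subset_closure ⟨k, l, t, Finset.mem_univ _, h1, hkl, rfl⟩
  · have h2 : k < Fin.rev l := lt_of_not_ge h1
    rw [C.y_flip k l t]
    refine Subgroup.subset_closure ⟨Fin.rev l, Fin.rev k, _, Finset.mem_univ _, ?_, ?_, rfl⟩
    · rw [Fin.rev_rev]; exact le_of_lt h2
    · exact Fin.rev_lt_rev.2 hkl

variable {φ : G →* Matrix (Fin (n + n)) (Fin (n + n)) K} (hφ : IsRepC C φ)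
include hφ

theorem ColJ_fix_rev {m : Fin (n + n)} {S : Finset (Fin (n + n))}
    (hS : ∀ k ∈ S, k ≠ m ∧ k ≠ Fin.rev m) {g : G} (hg : g ∈ C.ColJ m S) :
    φ g *ᵥ (ev (Fin.rev m) : Fin (n + n) → K) = ev (Fin.rev m) := by
  unfold ColJ at hg
  induction hg using Subgroup.closure_induction with
  | mem y hy =>
    obtain ⟨j, s, hj, rfl⟩ := hy
    rcases hj with hj | rfl
    · obtain ⟨h1, h2⟩ := hS j hj
      exact repC_ev_ne hφ h1 (C.ne_nu_symm h2) (C.nu_ne m)
        (fun h => h1 (Fin.rev_injective h).symm) s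
    · exact repC_long_ev_ne' hφ (C.nu_ne m) s
  | one => rw [map_one, Matrix.one_mulVec]
  | mul a b _ _ ha hb => rw [map_mul, ← Matrix.mulVec_mulVec, hb, ha]
  | inv a _ ha => exact rep_fix_inv φ ha

theorem ColJ_fix' {m : Fin (n + n)} {S : Finset (Fin (n + n))}
    (hS : ∀ k ∈ S, k ≠ m ∧ k ≠ Fin.rev m) {g : G} (hg : g ∈ C.ColJ m S) {k : Fin (n + n)}
    (hkm : k ≠ m) : ∃ c : K, φ g *ᵥ (ev k : Fin (n + n) → K) = ev k + c • ev (Fin.rev m) := by
  have key : ∀ j s, (j ∈ S ∨ j = Fin.rev m) → ∃ c : K,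
      φ (C.y j m s) *ᵥ (ev k : Fin (n + n) → K) = ev k + c • ev (Fin.rev m) := by
    intro j s hj
    rcases hj with hj | rfl
    · obtain ⟨h1, h2⟩ := hS j hj
      by_cases hkj : k = Fin.rev j
      · refine ⟨-(ε j * ε m * s), ?_⟩
        rw [hkj, repC_ev_rk hφ h1 (C.ne_nu_symm h2), neg_smul, sub_eq_add_neg]
      · refine ⟨0, ?_⟩
        rw [repC_ev_ne hφ h1 (C.ne_nu_symm h2) hkm hkj, zero_smul, add_zero]
    · refine ⟨0, ?_⟩
      rw [repC_long_ev_ne' hφ hkm, zero_smul, add_zero]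
  have hg' := hg
  unfold ColJ at hg
  induction hg using Subgroup.closure_induction'' with
  | mem y hy =>
    obtain ⟨j, s, hj, rfl⟩ := hy
    exact key j s hj
  | inv_mem y hy =>
    obtain ⟨j, s, hj, rfl⟩ := hy
    rw [← C.y_neg]
    exact key j (-s) hj
  | one => exact ⟨0, by rw [map_one, Matrix.one_mulVec, zero_smul, add_zero]⟩
  | mul a b ha hb iha ihb =>
    obtain ⟨ca, hca⟩ := iha ha
    obtain ⟨cb, hcb⟩ := ihb hb
    refine ⟨ca + cb, ?_⟩
    rw [map_mul, ← Matrix.mulVec_mulVec, hcb, Matrix.mulVec_add, Matrix.mulVec_smul, hca,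
      C.ColJ_fix_rev hφ hS ha, add_smul, add_assoc]

theorem ColJ_coord {m : Fin (n + n)} {S : Finset (Fin (n + n))}
    (hS : ∀ k ∈ S, k ≠ m ∧ k ≠ Fin.rev m) {g : G} (hg : g ∈ C.ColJ m S) {k₀ : Fin (n + n)}
    (hk : k₀ ∉ S) (hkm : k₀ ≠ m) (hkm' : k₀ ≠ Fin.rev m) :
    (φ g *ᵥ (ev m : Fin (n + n) → K)) k₀ = 0 := by
  have key : ∀ j s, (j ∈ S ∨ j = Fin.rev m) → ∀ X : Fin (n + n) → K, X k₀ = 0 →
      (φ (C.y j m s) *ᵥ X) k₀ = 0 := by
    intro j s hj X hX
    rcases hj with hj | rfl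
    · obtain ⟨h1, h2⟩ := hS j hj
      have hkj : k₀ ≠ j := fun h => hk (h ▸ hj)
      rw [hφ.1 j m s h1 (C.ne_nu_symm h2)]
      simp [ev, hX, hkj, hkm']
    · rw [repC_long' hφ m s]
      simp [ev, hX, hkm']
  unfold ColJ at hg
  induction hg using Subgroup.closure_induction_left with
  | one =>
    rw [map_one, Matrix.one_mulVec]
    simp [ev, hkm]
  | mul_left x hx y hy ih =>
    obtain ⟨j, s, hj, rfl⟩ := hx
    rw [map_mul, ← Matrix.mulVec_mulVec]
    exact key j s hj _ ih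
  | inv_mul_cancel x hx y hy ih =>
    obtain ⟨j, s, hj, rfl⟩ := hx
    rw [← C.y_neg, map_mul, ← Matrix.mulVec_mulVec]
    exact key j (-s) hj _ ih

theorem ColJ_inj (m : Fin (n + n)) (S : Finset (Fin (n + n))) :
    (∀ k ∈ S, k ≠ m ∧ k ≠ Fin.rev m) → ∀ g ∈ C.ColJ m S,
      (∀ k ∈ S, (φ g *ᵥ (ev m : Fin (n + n) → K)) k = 0) →
      (φ g *ᵥ (ev m : Fin (n + n) → K)) (Fin.rev m) = 0 → g = 1 := by
  induction S using Finset.induction_on with
  | empty =>
    intro _ g hg _ h0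
    obtain ⟨t, rfl⟩ := C.ColJ_empty hg
    rw [repC_long_ev' hφ] at h0
    simp only [Pi.add_apply, Pi.smul_apply, ev, Pi.single_eq_same, smul_eq_mul, mul_one,
      Pi.single_eq_of_ne (C.nu_ne m), zero_add] at h0
    rw [h0, C.y_zero]
  | insert k₀ S hk₀ ih =>
    intro hS g hg hfix h0
    have hS' : ∀ k ∈ S, k ≠ m ∧ k ≠ Fin.rev m := fun k hk => hS k (Finset.mem_insert_of_mem hk)
    obtain ⟨hk₀m, hk₀m'⟩ := hS k₀ (Finset.mem_insert_self _ _)
    have hm : m ∉ insert k₀ S := fun h => (hS m h).1 rfl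
    obtain ⟨g', hg', t, rfl⟩ := C.ColJ_decomp hm hk₀m' hg
    obtain ⟨c, hc⟩ := C.ColJ_fix' hφ hS' hg' hk₀m
    have e1 : φ (g' * C.y k₀ m t) *ᵥ (ev m : Fin (n + n) → K) =
        φ g' *ᵥ (ev m : Fin (n + n) → K) + t • (ev k₀ + c • ev (Fin.rev m)) := by
      rw [map_mul, ← Matrix.mulVec_mulVec, repC_ev_l hφ hk₀m (C.ne_nu_symm hk₀m'),
        Matrix.mulVec_add, Matrix.mulVec_smul, hc]
    have e2 := hfix k₀ (Finset.mem_insert_self _ _)
    have e3 := C.ColJ_coord hφ hS' hg' hk₀ hk₀m hk₀m'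
    rw [e1] at e2
    simp only [Pi.add_apply, e3, zero_add, Pi.smul_apply, ev, Pi.single_eq_same, smul_eq_mul,
      mul_one, Pi.single_eq_of_ne hk₀m', mul_zero, add_zero] at e2
    subst e2
    rw [C.y_zero, mul_one] at h0 ⊢
    apply ih hS' g' hg' _ h0
    intro k hk
    have := hfix k (Finset.mem_insert_of_mem hk)
    rwa [C.y_zero, mul_one] at this

theorem VC_fix {L : Finset (Fin (n + n))} {m : Fin (n + n)} (hL : ∀ l ∈ L, l < m) {g : G}
    (hg : g ∈ C.VC L) : φ g *ᵥ (ev m : Fin (n + n) → K) = ev m := by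
  unfold VC at hg
  induction hg using Subgroup.closure_induction with
  | mem y hy =>
    obtain ⟨k, l, t, hl, hkl1, hkl, rfl⟩ := hy
    have hlm := hL l hl
    by_cases hL' : k = Fin.rev l
    · subst hL'
      exact repC_long_ev_ne' hφ (ne_of_gt hlm) t
    · refine repC_ev_ne hφ (ne_of_lt hkl) (fun h => hL' (by rw [h, Fin.rev_rev]))
        (ne_of_gt hlm) (fun h => ?_) t
      have h1 : Fin.rev k ≤ l := by
        have := Fin.rev_le_rev.2 hkl1
        rwa [Fin.rev_rev] at this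
      rw [h] at hlm
      exact absurd (lt_of_lt_of_le hlm h1) (lt_irrefl _)
  | one => rw [map_one, Matrix.one_mulVec]
  | mul a b _ _ ha hb => rw [map_mul, ← Matrix.mulVec_mulVec, hb, ha]
  | inv a _ ha => exact rep_fix_inv φ ha

theorem VC_inj (L : Finset (Fin (n + n))) : ∀ g ∈ C.VC L, φ g = 1 → g = 1 := by
  induction L using Finset.induction_on_max with
  | empty =>
    intro g hg _
    have : C.VC ∅ = ⊥ := by
      unfold VC
      rw [Subgroup.closure_eq_bot_iff]
      rintro g ⟨k, l, t, hl, -, -, -⟩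
      exact absurd hl (Finset.notMem_empty l)
    rw [this] at hg
    exact Subgroup.mem_bot.mp hg
  | insert m L hL ih =>
    intro g hg hφg
    obtain ⟨g', hg', r, hr, rfl⟩ := C.VC_decomp hL hg
    have e0 : φ g' *ᵥ (ev m : Fin (n + n) → K) = ev m := C.VC_fix hφ hL hg'
    have e2 : φ r *ᵥ (ev m : Fin (n + n) → K) = ev m := by
      have h1 : φ (g' * r) *ᵥ (ev m : Fin (n + n) → K) = ev m := by
        rw [hφg, Matrix.one_mulVec]
      rw [map_mul, ← Matrix.mulVec_mulVec] at h1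
      have h2 := congrArg (fun x => φ g'⁻¹ *ᵥ x) h1
      simp only [rep_inv_mulVec] at h2
      rw [h2]
      exact rep_fix_inv φ e0
    have hS : ∀ k ∈ rowsC m, k ≠ m ∧ k ≠ Fin.rev m := by
      intro k hk
      have hk' : Fin.rev m < k ∧ k < m := by simpa [rowsC] using hk
      exact ⟨ne_of_lt hk'.2, ne_of_gt hk'.1⟩
    have e3 : r = 1 := by
      apply C.ColJ_inj hφ m (rowsC m) hS r hr
      · intro k hk
        rw [e2]
        simp [ev, (hS k hk).1]
      · rw [e2]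
        simp [ev, C.nu_ne m]
    subst e3
    rw [mul_one] at hφg ⊢
    exact ih g' hg' hφg

theorem Upos_inj : ∀ g ∈ C.Upos, φ g = 1 → g = 1 :=
  fun g hg => C.VC_inj hφ Finset.univ g (C.Upos_le_VC hg)

end CData

end Cfsg.Agent.Lib.Helper2.CN
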