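import Cfsg.Agent.Lib.Helper2.CN12

/-!
# Type `C`: the kernel of the natural representation lies in the monomial subgroup
-/

set_option linter.unusedSectionVars false
set_option linter.unusedVariables false

namespace Cfsg.Agent.Lib.Helper2.CN

open Cfsg.Agent.Lib.Helper5.Stb Cfsg.Agent.Lib.Helper3.AN Cfsg.Agent.Lib.Helper3.DN Matrix

variable {n : ℕ} {K G : Type*} [Field K] [Group G] {ε : Fin (n + n) → K}
  (C : CData (Fin (n + n)) K G Fin.rev ε)
  {φ : G →* Matrix (Fin (n + n)) (Fin (n + n)) K}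

namespace CData

/-- the kernel of the natural representation lies in the monomial subgroup -/
theorem ker_mem_Nw (h2 : H2 C φ) (hφ : IsRepC C φ)
    (hc2 : ∀ a : Fin (n + n), ∃ b, b ≠ a ∧ b ≠ Fin.rev a)
    (hc : ∀ a b : Fin (n + n), ∃ c, c ≠ a ∧ c ≠ b ∧ c ≠ Fin.rev a ∧ c ≠ Fin.rev b)
    (hgen : C.Gen) (g : G) (hg : φ g = 1) : g ∈ C.Nw := by
  obtain ⟨u₁, hu₁, m, hm, u₂, hu₂, rfl⟩ := C.bruhat h2 hφ hc2 hc hgen g
  have e1 : φ m = φ (u₁⁻¹ * u₂⁻¹) := by
    have h1 : m = u₁⁻¹ * (u₁ * m * u₂) * u₂⁻¹ := by group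
    rw [h1, map_mul, map_mul, hg, mul_one, ← map_mul]
  have hu : u₁⁻¹ * u₂⁻¹ ∈ C.Upos := mul_mem (inv_mem hu₁) (inv_mem hu₂)
  obtain ⟨π, v, hmon, hmono⟩ := C.Nw_mono h2 hφ hc2 hm
  have e2 : ∀ l, π l = l ∧ v l = 1 := by
    intro l
    have h1 := C.Upos_UTvec hφ hu l (ev l)
      ⟨by simp [ev], fun k hk => by simp [ev, ne_of_gt hk]⟩
    rw [← e1, hmono l] at h1
    have h2' := h1.1
    have hπ : π l = l := by
      by_contra hne
      simp [ev, Ne.symm hne] at h2'
    rw [hπ] at h2'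
    exact ⟨hπ, by simpa [ev] using h2'⟩
  have e3 : φ m = 1 := by
    apply mat_eq_one_of_fix
    intro l
    rw [hmono l, (e2 l).1, (e2 l).2, one_smul]
  -- `m` is central
  have hcm : ∀ z : G, m * z = z * m := by
    intro z
    have hz : z ∈ Subgroup.closure {g : G | ∃ k l t, g = C.y k l t} := by
      rw [hgen]; trivial
    induction hz using Subgroup.closure_induction with
    | mem y hy =>
      obtain ⟨k, l, t, rfl⟩ := hy
      have h1 := hmon.2 k l t
      rw [(e2 k).1, (e2 l).1, (e2 k).2, (e2 l).2, one_mul, inv_one, mul_one,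
        MulAut.conj_apply] at h1
      calc m * C.y k l t = m * C.y k l t * m⁻¹ * m := by group
        _ = C.y k l t * m := by rw [h1]
    | one => rw [mul_one, one_mul]
    | mul a b _ _ ha hb => rw [← mul_assoc, ha, mul_assoc, hb, mul_assoc]
    | inv a _ ha =>
      calc m * a⁻¹ = a⁻¹ * (a * m) * a⁻¹ := by group
        _ = a⁻¹ * (m * a) * a⁻¹ := by rw [ha]
        _ = a⁻¹ * m := by group
  have e4 : u₁ * u₂ = 1 := by
    apply C.Upos_inj hφ _ (mul_mem hu₁ hu₂)
    have h1 : u₁ * m * u₂ = m * (u₁ * u₂) := by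
      rw [← hcm u₁]; group
    rw [h1, map_mul, e3, one_mul] at hg
    exact hg
  have e5 : u₁ * m * u₂ = m := by
    rw [← hcm u₁, mul_assoc, e4, mul_one]
  rw [e5]
  exact hm

end CData

end Cfsg.Agent.Lib.Helper2.CN
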