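import Cfsg.Agent.Lib.Helper2.CN13

/-!
# Type `C`: monomial matrices on two pairs of indices, and the rank two identities between
Weyl elements
-/

set_option linter.unusedSectionVars false
set_option linter.unusedVariables false

namespace Cfsg.Agent.Lib.Helper2.CN

open Cfsg.Agent.Lib.Helper5.Stb Cfsg.Agent.Lib.Helper3.AN Cfsg.Agent.Lib.Helper3.DN Matrix

section quad
variable {J K G : Type*} [Field K] [Group G] [Fintype J] [DecidableEq J] {ν : J → J} {ε : J → K}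
  {C : CData J K G ν ε} {φ : G →* Matrix J J K}

/-- the four indices of two pairs -/
def qidx (ν : J → J) (i m : J) : Fin 4 → J := ![i, m, ν i, ν m]

/-- `g` is represented by a matrix which is monomial on four basis vectors and fixes the
others -/
def MonQ (φ : G →* Matrix J J K) (ν : J → J) (i m : J) (g : G) (p : Fin 4 → Fin 4)
    (c : Fin 4 → K) : Prop :=
  (∀ x, φ g *ᵥ (ev (qidx ν i m x) : J → K) = c x • ev (qidx ν i m (p x))) ∧
  ∀ l, (∀ x, l ≠ qidx ν i m x) → φ g *ᵥ (ev l : J → K) = ev l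

theorem MonQ.mul {i m : J} {g g' : G} {p p' : Fin 4 → Fin 4} {c c' : Fin 4 → K}
    (h : MonQ φ ν i m g p c) (h' : MonQ φ ν i m g' p' c') :
    MonQ φ ν i m (g * g') (p ∘ p') (fun x => c' x * c (p' x)) := by
  refine ⟨fun x => ?_, fun l hl => ?_⟩
  · rw [map_mul, ← Matrix.mulVec_mulVec, h'.1 x, Matrix.mulVec_smul, h.1 (p' x), smul_smul]
    rfl
  · rw [map_mul, ← Matrix.mulVec_mulVec, h'.2 l hl, h.2 l hl]

theorem MonQ.eq (h2 : H2 C φ) {i m : J} (him : i ≠ m) (him' : i ≠ ν m) {g g' : G}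
    (hg : g ∈ C.G2 i m) (hg' : g' ∈ C.G2 i m) {p p' : Fin 4 → Fin 4} {c c' : Fin 4 → K}
    (h : MonQ φ ν i m g p c) (h' : MonQ φ ν i m g' p' c') (hp : p = p') (hc : c = c') :
    g = g' := by
  subst hp hc
  apply h2.eq him him' hg hg'
  apply mat_eq_of_ev
  intro l
  by_cases hl : ∃ x, l = qidx ν i m x
  · obtain ⟨x, rfl⟩ := hl
    rw [h.1, h'.1]
  · push_neg at hl
    rw [h.2 l hl, h'.2 l hl]

variable (hφ : IsRepC C φ) {i m : J} (him : i ≠ m) (him' : i ≠ ν m)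
include hφ him him'

theorem monQ_w {u : K} (hu : u ≠ 0) :
    MonQ φ ν i m (C.w i m u) ![1, 0, 3, 2]
      ![-u⁻¹, u, -(ε i * ε m) * u, ε i * ε m * u⁻¹] := by
  have hr := repC_w_ev hφ him him' hu
  refine ⟨fun x => ?_, fun l hl => ?_⟩
  · fin_cases x
    · show φ (C.w i m u) *ᵥ (ev i : J → K) = (-u⁻¹) • ev m
      rw [hr i, sig_i C.toD him him', wvC_i C him him']
    · show φ (C.w i m u) *ᵥ (ev m : J → K) = u • ev i
      rw [hr m, sig_j C.toD him him', wvC_j C him him']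
    · show φ (C.w i m u) *ᵥ (ev (ν i) : J → K) = (-(ε i * ε m) * u) • ev (ν m)
      rw [hr (ν i), sig_ni C.toD him him', wvC_ni C him him']
    · show φ (C.w i m u) *ᵥ (ev (ν m) : J → K) = (ε i * ε m * u⁻¹) • ev (ν i)
      rw [hr (ν m), sig_nj C.toD him him', wvC_nj C him him']
  · have h0 : l ≠ i := hl 0
    have h1 : l ≠ m := hl 1
    have h2 : l ≠ ν i := hl 2
    have h3 : l ≠ ν m := hl 3
    rw [hr l, sig_of_ne h0 h1 h2 h3, wvC_of_ne u h0 h1 h2 h3, one_smul]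

theorem monQ_w' {u : K} (hu : u ≠ 0) :
    MonQ φ ν i m (C.w (ν i) m u) ![3, 2, 1, 0]
      ![ε i * ε m * u, u, -u⁻¹, -(ε i * ε m) * u⁻¹] := by
  have g1 : ν i ≠ m := (C.ne_nu_symm him').symm
  have g2 : ν i ≠ ν m := C.nu_ne_nu him
  have hr := repC_w_ev hφ g1 g2 hu
  refine ⟨fun x => ?_, fun l hl => ?_⟩
  · fin_cases x
    · show φ (C.w (ν i) m u) *ᵥ (ev i : J → K) = (ε i * ε m * u) • ev (ν m)
      have := hr (ν (ν i))
      rw [sig_ni C.toD g1 g2, wvC_ni C g1 g2, C.nu_nu, C.eps_nu] at this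
      rw [this]
      congr 1
      ring
    · show φ (C.w (ν i) m u) *ᵥ (ev m : J → K) = u • ev (ν i)
      rw [hr m, sig_j C.toD g1 g2, wvC_j C g1 g2]
    · show φ (C.w (ν i) m u) *ᵥ (ev (ν i) : J → K) = (-u⁻¹) • ev m
      rw [hr (ν i), sig_i C.toD g1 g2, wvC_i C g1 g2]
    · show φ (C.w (ν i) m u) *ᵥ (ev (ν m) : J → K) = (-(ε i * ε m) * u⁻¹) • ev i
      have := hr (ν m)
      rw [sig_nj C.toD g1 g2, wvC_nj C g1 g2, C.nu_nu, C.eps_nu] at this
      rw [this]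
      congr 1
      ring
  · have h0 : l ≠ i := hl 0
    have h1 : l ≠ m := hl 1
    have h2 : l ≠ ν i := hl 2
    have h3 : l ≠ ν m := hl 3
    have h0' : l ≠ ν (ν i) := by rw [C.nu_nu]; exact h0
    rw [hr l, sig_of_ne h2 h1 h0' h3, wvC_of_ne u h2 h1 h0' h3, one_smul]

theorem monQ_wLi {u : K} (hu : u ≠ 0) :
    MonQ φ ν i m (C.w i (ν i) u) ![2, 1, 0, 3] ![-u⁻¹, 1, u, 1] := by
  have hr := repC_wL_ev hφ i hu
  have g1 : ν i ≠ m := (C.ne_nu_symm him').symm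
  have g2 : ν i ≠ ν m := C.nu_ne_nu him
  refine ⟨fun x => ?_, fun l hl => ?_⟩
  · fin_cases x
    · show φ (C.w i (ν i) u) *ᵥ (ev i : J → K) = (-u⁻¹) • ev (ν i)
      rw [hr i, sigL_i C i, wvL_i C i]
    · show φ (C.w i (ν i) u) *ᵥ (ev m : J → K) = (1 : K) • ev m
      rw [hr m, sigL_of_ne i him.symm g1.symm, wvL_of_ne i u him.symm g1.symm]
    · show φ (C.w i (ν i) u) *ᵥ (ev (ν i) : J → K) = u • ev i
      rw [hr (ν i), sigL_ni C i, wvL_ni]
    · show φ (C.w i (ν i) u) *ᵥ (ev (ν m) : J → K) = (1 : K) • ev (ν m)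
      rw [hr (ν m), sigL_of_ne i him'.symm g2.symm, wvL_of_ne i u him'.symm g2.symm]
  · have h0 : l ≠ i := hl 0
    have h2 : l ≠ ν i := hl 2
    rw [hr l, sigL_of_ne i h0 h2, wvL_of_ne i u h0 h2, one_smul]

theorem monQ_wLm {u : K} (hu : u ≠ 0) :
    MonQ φ ν i m (C.w m (ν m) u) ![0, 3, 2, 1] ![1, -u⁻¹, 1, u] := by
  have hr := repC_wL_ev hφ m hu
  have g1 : ν i ≠ m := (C.ne_nu_symm him').symm
  have g2 : ν i ≠ ν m := C.nu_ne_nu him
  refine ⟨fun x => ?_, fun l hl => ?_⟩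
  · fin_cases x
    · show φ (C.w m (ν m) u) *ᵥ (ev i : J → K) = (1 : K) • ev i
      rw [hr i, sigL_of_ne m him him', wvL_of_ne m u him him']
    · show φ (C.w m (ν m) u) *ᵥ (ev m : J → K) = (-u⁻¹) • ev (ν m)
      rw [hr m, sigL_i C m, wvL_i C m]
    · show φ (C.w m (ν m) u) *ᵥ (ev (ν i) : J → K) = (1 : K) • ev (ν i)
      rw [hr (ν i), sigL_of_ne m g1 g2, wvL_of_ne m u g1 g2]
    · show φ (C.w m (ν m) u) *ᵥ (ev (ν m) : J → K) = u • ev m
      rw [hr (ν m), sigL_ni C m, wvL_ni]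
  · have h1 : l ≠ m := hl 1
    have h3 : l ≠ ν m := hl 3
    rw [hr l, sigL_of_ne m h1 h3, wvL_of_ne m u h1 h3, one_smul]

end quad

end Cfsg.Agent.Lib.Helper2.CN
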