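import Cfsg.Agent.Lib.Helper2.CN14

/-!
# Type `C`: the rank two identities between Weyl elements
-/

set_option linter.unusedSectionVars false
set_option linter.unusedVariables false

namespace Cfsg.Agent.Lib.Helper2.CN

open Cfsg.Agent.Lib.Helper5.Stb Cfsg.Agent.Lib.Helper3.AN Cfsg.Agent.Lib.Helper3.DN Matrix

section quad
variable {J K G : Type*} [Field K] [Group G] [Fintype J] [DecidableEq J] {ν : J → J} {ε : J → K}
  {C : CData J K G ν ε} {φ : G →* Matrix J J K}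

omit [Fintype J] [DecidableEq J] in
theorem sq_one_cases {e : K} (h : e * e = 1) : e = 1 ∨ e = -1 := by
  have : (e - 1) * (e + 1) = 0 := by linear_combination h
  rcases mul_eq_zero.1 this with h | h
  · left; linear_combination h
  · right; linear_combination h

variable (h2 : H2 C φ) (hφ : IsRepC C φ) {i m : J} (him : i ≠ m) (him' : i ≠ ν m)
include h2 hφ him him'

/-- the torus elements of a long root are multiplicative -/
theorem hL_mul {a c : K} (ha : a ≠ 0) (hc : c ≠ 0) :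
    C.h m (ν m) a * C.h m (ν m) c = C.h m (ν m) (a * c) := by
  have q_m : InQ ν i m m := Or.inr (Or.inl rfl)
  have q_nm : InQ ν i m (ν m) := Or.inr (Or.inr (Or.inr rfl))
  have n1 : (-1 : K) ≠ 0 := neg_ne_zero.mpr one_ne_zero
  unfold CData.h
  refine MonQ.eq h2 him him'
    (mul_mem (mul_mem (C.w_mem_G2 q_m q_nm _) (C.w_mem_G2 q_m q_nm _))
      (mul_mem (C.w_mem_G2 q_m q_nm _) (C.w_mem_G2 q_m q_nm _)))
    (mul_mem (C.w_mem_G2 q_m q_nm _) (C.w_mem_G2 q_m q_nm _))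
    (((monQ_wLm hφ him him' ha).mul (monQ_wLm hφ him him' n1)).mul
      ((monQ_wLm hφ him him' hc).mul (monQ_wLm hφ him him' n1)))
    ((monQ_wLm hφ him him' (mul_ne_zero ha hc)).mul (monQ_wLm hφ him him' n1)) (by decide) ?_
  funext x
  fin_cases x <;> simp <;> field_simp

/-- the torus element of a short root in terms of those of the long roots -/
theorem hS_eq {c : K} (hc : c ≠ 0) :
    C.w i m c * C.w i m (-1) = C.h i (ν i) c * C.h m (ν m) c⁻¹ := by
  have q_i : InQ ν i m i := Or.inl rfl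
  have q_m : InQ ν i m m := Or.inr (Or.inl rfl)
  have q_ni : InQ ν i m (ν i) := Or.inr (Or.inr (Or.inl rfl))
  have q_nm : InQ ν i m (ν m) := Or.inr (Or.inr (Or.inr rfl))
  have n1 : (-1 : K) ≠ 0 := neg_ne_zero.mpr one_ne_zero
  unfold CData.h
  refine MonQ.eq h2 him him'
    (mul_mem (C.w_mem_G2 q_i q_m _) (C.w_mem_G2 q_i q_m _))
    (mul_mem (mul_mem (C.w_mem_G2 q_i q_ni _) (C.w_mem_G2 q_i q_ni _))
      (mul_mem (C.w_mem_G2 q_m q_nm _) (C.w_mem_G2 q_m q_nm _)))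
    ((monQ_w hφ him him' hc).mul (monQ_w hφ him him' n1))
    (((monQ_wLi hφ him him' hc).mul (monQ_wLi hφ him him' n1)).mul
      ((monQ_wLm hφ him him' (inv_ne_zero hc)).mul (monQ_wLm hφ him him' n1))) (by decide) ?_
  funext x
  have hee := C.ee_sq i m
  generalize ε i * ε m = e at hee ⊢
  rcases sq_one_cases hee with rfl | rfl <;> fin_cases x <;> simp <;> field_simp

theorem w_one_mul_w {u : K} (hu : u ≠ 0) :
    C.w i m 1 * C.w i m u = C.h i (ν i) (-u⁻¹) * C.h m (ν m) (-u) := by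
  have q_i : InQ ν i m i := Or.inl rfl
  have q_m : InQ ν i m m := Or.inr (Or.inl rfl)
  have q_ni : InQ ν i m (ν i) := Or.inr (Or.inr (Or.inl rfl))
  have q_nm : InQ ν i m (ν m) := Or.inr (Or.inr (Or.inr rfl))
  have n1 : (-1 : K) ≠ 0 := neg_ne_zero.mpr one_ne_zero
  have hu1 : -u⁻¹ ≠ 0 := neg_ne_zero.mpr (inv_ne_zero hu)
  have hu2 : -u ≠ 0 := neg_ne_zero.mpr hu
  unfold CData.h
  refine MonQ.eq h2 him him'
    (mul_mem (C.w_mem_G2 q_i q_m _) (C.w_mem_G2 q_i q_m _))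
    (mul_mem (mul_mem (C.w_mem_G2 q_i q_ni _) (C.w_mem_G2 q_i q_ni _))
      (mul_mem (C.w_mem_G2 q_m q_nm _) (C.w_mem_G2 q_m q_nm _)))
    ((monQ_w hφ him him' one_ne_zero).mul (monQ_w hφ him him' hu))
    (((monQ_wLi hφ him him' hu1).mul (monQ_wLi hφ him him' n1)).mul
      ((monQ_wLm hφ him him' hu2).mul (monQ_wLm hφ him him' n1))) (by decide) ?_
  funext x
  have hee := C.ee_sq i m
  generalize ε i * ε m = e at hee ⊢
  rcases sq_one_cases hee with rfl | rfl <;> fin_cases x <;> simp <;> field_simp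

theorem wL_one_mul_wL {u : K} (hu : u ≠ 0) :
    C.w m (ν m) 1 * C.w m (ν m) u = C.h m (ν m) (-u⁻¹) := by
  have q_m : InQ ν i m m := Or.inr (Or.inl rfl)
  have q_nm : InQ ν i m (ν m) := Or.inr (Or.inr (Or.inr rfl))
  have n1 : (-1 : K) ≠ 0 := neg_ne_zero.mpr one_ne_zero
  have hu1 : -u⁻¹ ≠ 0 := neg_ne_zero.mpr (inv_ne_zero hu)
  unfold CData.h
  refine MonQ.eq h2 him him'
    (mul_mem (C.w_mem_G2 q_m q_nm _) (C.w_mem_G2 q_m q_nm _))
    (mul_mem (C.w_mem_G2 q_m q_nm _) (C.w_mem_G2 q_m q_nm _))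
    ((monQ_wLm hφ him him' one_ne_zero).mul (monQ_wLm hφ him him' hu))
    ((monQ_wLm hφ him him' hu1).mul (monQ_wLm hφ him him' n1)) (by decide) ?_
  funext x
  fin_cases x <;> simp <;> field_simp

theorem w'_one_mul_w {u : K} (hu : u ≠ 0) :
    C.w (ν i) m 1 * C.w i m u = C.w i (ν i) u * C.w m (ν m) (-(ε i * ε m) * u⁻¹) := by
  have q_i : InQ ν i m i := Or.inl rfl
  have q_m : InQ ν i m m := Or.inr (Or.inl rfl)
  have q_ni : InQ ν i m (ν i) := Or.inr (Or.inr (Or.inl rfl))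
  have q_nm : InQ ν i m (ν m) := Or.inr (Or.inr (Or.inr rfl))
  have hc : -(ε i * ε m) * u⁻¹ ≠ 0 :=
    mul_ne_zero (neg_ne_zero.mpr (C.ee_ne_zero i m)) (inv_ne_zero hu)
  refine MonQ.eq h2 him him'
    (mul_mem (C.w_mem_G2 q_ni q_m _) (C.w_mem_G2 q_i q_m _))
    (mul_mem (C.w_mem_G2 q_i q_ni _) (C.w_mem_G2 q_m q_nm _))
    ((monQ_w' hφ him him' one_ne_zero).mul (monQ_w hφ him him' hu))
    ((monQ_wLi hφ him him' hu).mul (monQ_wLm hφ him him' hc)) (by decide) ?_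
  funext x
  have hee := C.ee_sq i m
  generalize ε i * ε m = e at hee ⊢
  rcases sq_one_cases hee with rfl | rfl <;> fin_cases x <;> simp <;> field_simp

theorem wL_one_mul_w {u : K} (hu : u ≠ 0) :
    C.w m (ν m) 1 * C.w i m u =
      C.w i (ν i) u * C.h m (ν m) (ε i * ε m * u) * C.w (ν i) m 1 := by
  have q_i : InQ ν i m i := Or.inl rfl
  have q_m : InQ ν i m m := Or.inr (Or.inl rfl)
  have q_ni : InQ ν i m (ν i) := Or.inr (Or.inr (Or.inl rfl))
  have q_nm : InQ ν i m (ν m) := Or.inr (Or.inr (Or.inr rfl))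
  have n1 : (-1 : K) ≠ 0 := neg_ne_zero.mpr one_ne_zero
  have hc : ε i * ε m * u ≠ 0 := mul_ne_zero (C.ee_ne_zero i m) hu
  unfold CData.h
  refine MonQ.eq h2 him him'
    (mul_mem (C.w_mem_G2 q_m q_nm _) (C.w_mem_G2 q_i q_m _))
    (mul_mem (mul_mem (C.w_mem_G2 q_i q_ni _)
      (mul_mem (C.w_mem_G2 q_m q_nm _) (C.w_mem_G2 q_m q_nm _))) (C.w_mem_G2 q_ni q_m _))
    ((monQ_wLm hφ him him' one_ne_zero).mul (monQ_w hφ him him' hu))
    (((monQ_wLi hφ him him' hu).mul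
      ((monQ_wLm hφ him him' hc).mul (monQ_wLm hφ him him' n1))).mul
      (monQ_w' hφ him him' one_ne_zero)) (by decide) ?_
  funext x
  have hee := C.ee_sq i m
  generalize ε i * ε m = e at hee ⊢
  rcases sq_one_cases hee with rfl | rfl <;> fin_cases x <;> simp <;> field_simp

end quad

end Cfsg.Agent.Lib.Helper2.CN
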