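import Cfsg.Agent.Lib.Helper2.CN15

/-!
# Type `C`: the monomial subgroup, decomposition along a chain of index sets
-/

set_option linter.unusedSectionVars false
set_option linter.unusedVariables false

namespace Cfsg.Agent.Lib.Helper2.CN

open Cfsg.Agent.Lib.Helper5.Stb Cfsg.Agent.Lib.Helper3.AN Cfsg.Agent.Lib.Helper3.DN Matrix

variable {J K G : Type*} [Field K] [Group G] [Fintype J] [DecidableEq J] {ν : J → J} {ε : J → K}
  (C : CData J K G ν ε)

namespace CData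

/-- the subgroup generated by the Weyl elements with indices in `T` -/
def NT (T : Finset J) : Subgroup G :=
  Subgroup.closure {g | ∃ i j u, i ∈ T ∧ j ∈ T ∧ i ≠ j ∧ u ≠ 0 ∧ g = C.w i j u}

theorem w_mem_NT {T : Finset J} {i j : J} (hi : i ∈ T) (hj : j ∈ T) (hij : i ≠ j) {u : K}
    (hu : u ≠ 0) : C.w i j u ∈ C.NT T :=
  Subgroup.subset_closure ⟨i, j, u, hi, hj, hij, hu, rfl⟩

theorem h_mem_NT {T : Finset J} {i j : J} (hi : i ∈ T) (hj : j ∈ T) (hij : i ≠ j) {u : K}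
    (hu : u ≠ 0) : C.h i j u ∈ C.NT T :=
  mul_mem (C.w_mem_NT hi hj hij hu) (C.w_mem_NT hi hj hij (neg_ne_zero.mpr one_ne_zero))

theorem w_neg_one_mul (i j : J) : C.w i j (-1) * C.w i j 1 = 1 := by
  rw [← C.w_inv, inv_mul_cancel]

theorem h_one (i j : J) : C.h i j 1 = 1 := by
  unfold h
  rw [← C.w_inv, mul_inv_cancel]

/-- `w = h * w(1)` -/
theorem w_eq_h_mul (i j : J) (u : K) : C.w i j u = C.h i j u * C.w i j 1 := by
  unfold h
  rw [mul_assoc, C.w_neg_one_mul, mul_one]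

/-- Weyl elements of disjoint pairs commute -/
theorem w_comm_w {i j m : J} (h1 : m ≠ i) (h2 : m ≠ j) (h3 : m ≠ ν i) (h4 : m ≠ ν j)
    (a u : K) : Commute (C.w m (ν m) a) (C.w i j u) := by
  have g1 : ν m ≠ i := (C.ne_nu_symm h3).symm
  have g2 : ν m ≠ j := (C.ne_nu_symm h4).symm
  have g3 : ν m ≠ ν i := C.nu_ne_nu h1
  have g4 : ν m ≠ ν j := C.nu_ne_nu h2
  have c1 : ∀ s t, Commute (C.y m (ν m) s) (C.y i j t) := fun s t =>
    C.y_comm m (ν m) i j s t g1 h2 h3 g4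
  have c2 : ∀ s t, Commute (C.y m (ν m) s) (C.y j i t) := fun s t =>
    C.y_comm m (ν m) j i s t g2 h1 h4 g3
  have c3 : ∀ s t, Commute (C.y (ν m) m s) (C.y i j t) := fun s t =>
    C.y_comm (ν m) m i j s t h1 g2 g3 h4
  have c4 : ∀ s t, Commute (C.y (ν m) m s) (C.y j i t) := fun s t =>
    C.y_comm (ν m) m j i s t h2 g1 g4 h3
  unfold w
  have d1 : ∀ s, Commute (C.y m (ν m) s) (C.y i j u * C.y j i (-u⁻¹) * C.y i j u) := fun s =>
    ((c1 s _).mul_right (c2 s _)).mul_right (c1 s _)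
  have d2 : ∀ s, Commute (C.y (ν m) m s) (C.y i j u * C.y j i (-u⁻¹) * C.y i j u) := fun s =>
    ((c3 s _).mul_right (c4 s _)).mul_right (c3 s _)
  exact ((d1 _).mul_left (d2 _)).mul_left (d1 _)

variable {T : Finset J} {m : J} (hT : ∀ i ∈ T, ν i ∈ T) (hm : m ∉ T) (hm' : ν m ∉ T)
include hT hm hm'

theorem wL_comm_NT (a : K) {x : G} (hx : x ∈ C.NT T) : Commute (C.w m (ν m) a) x := by
  unfold NT at hx
  induction hx using Subgroup.closure_induction with
  | mem y hy =>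
    obtain ⟨i, j, u, hi, hj, hij, hu, rfl⟩ := hy
    exact C.w_comm_w (fun h : m = i => hm (h ▸ hi)) (fun h : m = j => hm (h ▸ hj))
      (fun h : m = ν i => hm (h ▸ hT i hi)) (fun h : m = ν j => hm (h ▸ hT j hj)) a u
  | one => exact Commute.one_right _
  | mul a b _ _ ha hb => exact ha.mul_right hb
  | inv a _ ha => exact ha.inv_right

theorem hL_comm_NT (a : K) {x : G} (hx : x ∈ C.NT T) : Commute (C.h m (ν m) a) x := by
  unfold h
  exact (C.wL_comm_NT hT hm hm' a hx).mul_left (C.wL_comm_NT hT hm hm' (-1) hx)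

end CData

end Cfsg.Agent.Lib.Helper2.CN
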