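import Cfsg.Agent.Lib.Helper2.CN16

/-!
# Type `C`: the normal form of the elements of the monomial subgroup
-/

set_option linter.unusedSectionVars false
set_option linter.unusedVariables false

namespace Cfsg.Agent.Lib.Helper2.CN

open Cfsg.Agent.Lib.Helper5.Stb Cfsg.Agent.Lib.Helper3.AN Cfsg.Agent.Lib.Helper3.DN Matrix

variable {J K G : Type*} [Field K] [Group G] [Fintype J] [DecidableEq J] {ν : J → J} {ε : J → K}
  (C : CData J K G ν ε)

namespace CData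

/-- the normal form of the elements of `NT (insert m (insert (ν m) T))` -/
def Dform (T : Finset J) (m : J) (g : G) : Prop :=
  ∃ n' ∈ C.NT T, ∃ a : K, a ≠ 0 ∧
    (g = n' * C.h m (ν m) a ∨ (∃ k ∈ T, g = n' * C.h m (ν m) a * C.w k m 1) ∨
      g = n' * C.h m (ν m) a * C.w m (ν m) 1)

omit [Fintype J] in
theorem sig_mem {T : Finset J} (hT : ∀ i ∈ T, ν i ∈ T) {i j k : J} (hi : i ∈ T) (hj : j ∈ T)
    (hk : k ∈ T) : sig ν i j k ∈ T := by
  unfold sig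
  rw [Equiv.Perm.mul_apply]
  have h1 : Equiv.swap (ν i) (ν j) k ∈ T := by
    rw [Equiv.swap_apply_def]
    split_ifs
    · exact hT j hj
    · exact hT i hi
    · exact hk
  rw [Equiv.swap_apply_def]
  split_ifs
  · exact hj
  · exact hi
  · exact h1

omit [Fintype J] in
theorem sigL_mem {T : Finset J} (hT : ∀ i ∈ T, ν i ∈ T) {i k : J} (hi : i ∈ T)
    (hk : k ∈ T) : sigL ν i k ∈ T := by
  unfold sigL
  rw [Equiv.swap_apply_def]
  split_ifs
  · exact hT i hi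
  · exact hi
  · exact hk

variable {φ : G →* Matrix J J K} (h2 : H2 C φ) (hφ : IsRepC C φ)
  (hc2 : ∀ a : J, ∃ b, b ≠ a ∧ b ≠ ν a)
  (hc : ∀ a b : J, ∃ c, c ≠ a ∧ c ≠ b ∧ c ≠ ν a ∧ c ≠ ν b)
  {T : Finset J} {m : J} (hT : ∀ i ∈ T, ν i ∈ T) (hm : m ∉ T) (hm' : ν m ∉ T)
include h2 hφ hc2 hc hT hm hm'

theorem exists_rawMon_T {i j : J} (hi : i ∈ T) (hj : j ∈ T) (hij : i ≠ j) {u : K} (hu : u ≠ 0) :
    ∃ (π : Equiv.Perm J) (v : J → K), RawMon C.y (C.w i j u) π v ∧ π m = m ∧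
      ∀ k ∈ T, π k ∈ T := by
  have f1 : m ≠ i := fun h => hm (h ▸ hi)
  have f2 : m ≠ j := fun h => hm (h ▸ hj)
  have f3 : m ≠ ν i := fun h => hm (h ▸ hT i hi)
  have f4 : m ≠ ν j := fun h => hm (h ▸ hT j hj)
  by_cases hij' : j = ν i
  · subst hij'
    exact ⟨_, _, rawMon_wL h2 hφ hc2 i hu, sigL_of_ne i f1 f3,
      fun k hk => sigL_mem hT hi hk⟩
  · exact ⟨_, _, rawMon_w h2 hφ hij (C.ne_nu_symm hij') hu, sig_of_ne f1 f2 f3 f4,
      fun k hk => sig_mem hT hi hj hk⟩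

theorem absorb {k' : J} (hk' : k' ∈ T) {a c : K} (ha : a ≠ 0) (hc0 : c ≠ 0) :
    C.h m (ν m) a * C.w k' m c =
      C.h k' (ν k') c * C.h m (ν m) (a * c⁻¹) * C.w k' m 1 := by
  have him : k' ≠ m := fun h => hm (h ▸ hk')
  have him' : k' ≠ ν m := fun h => hm' (h ▸ hk')
  have e1 : C.w k' m c = C.w k' m c * C.w k' m (-1) * C.w k' m 1 := by
    rw [mul_assoc, C.w_neg_one_mul, mul_one]
  have e2 := (C.hL_comm_NT hT hm hm' a (C.h_mem_NT hk' (hT k' hk') (C.ne_nu k') hc0)).eq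
  rw [e1, hS_eq h2 hφ him him' hc0, ← hL_mul h2 hφ him him' ha (inv_ne_zero hc0),
    ← mul_assoc, ← mul_assoc, e2]
  simp only [mul_assoc]

/-- right multiplication by a generator `w i j u`, `i, j ∈ T` -/
theorem Dform_step_T {g : G} (hg : C.Dform T m g) {i j : J} (hi : i ∈ T) (hj : j ∈ T)
    (hij : i ≠ j) {u : K} (hu : u ≠ 0) : C.Dform T m (g * C.w i j u) := by
  have hs : C.w i j u ∈ C.NT T := C.w_mem_NT hi hj hij hu
  obtain ⟨n', hn', a, ha, hg | ⟨k, hk, hg⟩ | hg⟩ := hg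
  · refine ⟨n' * C.w i j u, mul_mem hn' hs, a, ha, Or.inl ?_⟩
    rw [hg, mul_assoc, (C.hL_comm_NT hT hm hm' a hs).eq, mul_assoc]
  · obtain ⟨π, v, hmon, hπm, hπT⟩ :=
      C.exists_rawMon_T h2 hφ hc2 hc hT hm hm' hi hj hij (neg_ne_zero.mpr hu)
    have e1 := rawMon_mul_w C hmon k m (one_ne_zero (α := K))
    rw [hπm] at e1
    set c := v k * 1 * (v m)⁻¹ with hcdef
    have hc0 : c ≠ 0 := mul_ne_zero (mul_ne_zero (hmon.1 k) one_ne_zero) (inv_ne_zero (hmon.1 m))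
    have e1' : C.w k m 1 * C.w i j u = C.w i j u * C.w (π k) m c := by
      have : C.w k m 1 * C.w i j u =
          C.w i j u * ((C.w i j u)⁻¹ * C.w k m 1) * C.w i j u := by group
      rw [this, C.w_inv, e1, ← C.w_inv]; group
    have e3 := C.absorb h2 hφ hc2 hc hT hm hm' (hπT k hk) ha hc0
    refine ⟨n' * C.w i j u * C.h (π k) (ν (π k)) c,
      mul_mem (mul_mem hn' hs) (C.h_mem_NT (hπT k hk) (hT _ (hπT k hk)) (C.ne_nu _) hc0),
      a * c⁻¹, mul_ne_zero ha (inv_ne_zero hc0), Or.inr (Or.inl ⟨π k, hπT k hk, ?_⟩)⟩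
    rw [hg, mul_assoc, e1']
    calc n' * C.h m (ν m) a * (C.w i j u * C.w (π k) m c)
        = n' * (C.h m (ν m) a * C.w i j u) * C.w (π k) m c := by group
      _ = n' * C.w i j u * (C.h m (ν m) a * C.w (π k) m c) := by
          rw [(C.hL_comm_NT hT hm hm' a hs).eq]; group
      _ = _ := by rw [e3]; group
  · refine ⟨n' * C.w i j u, mul_mem hn' hs, a, ha, Or.inr (Or.inr ?_)⟩
    rw [hg, mul_assoc, (C.wL_comm_NT hT hm hm' 1 hs).eq]
    calc n' * C.h m (ν m) a * (C.w i j u * C.w m (ν m) 1)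
        = n' * (C.h m (ν m) a * C.w i j u) * C.w m (ν m) 1 := by group
      _ = _ := by rw [(C.hL_comm_NT hT hm hm' a hs).eq]; group

/-- right multiplication by a generator `w i m u`, `i ∈ T` -/
theorem Dform_step_m {g : G} (hg : C.Dform T m g) {i : J} (hi : i ∈ T) {u : K} (hu : u ≠ 0) :
    C.Dform T m (g * C.w i m u) := by
  have him : i ≠ m := fun h => hm (h ▸ hi)
  have him' : i ≠ ν m := fun h => hm' (h ▸ hi)
  have hni : ν i ∈ T := hT i hi
  obtain ⟨n', hn', a, ha, hg | ⟨k, hk, hg⟩ | hg⟩ := hg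
  · have e3 := C.absorb h2 hφ hc2 hc hT hm hm' hi ha hu
    refine ⟨n' * C.h i (ν i) u, mul_mem hn' (C.h_mem_NT hi hni (C.ne_nu i) hu), a * u⁻¹,
      mul_ne_zero ha (inv_ne_zero hu), Or.inr (Or.inl ⟨i, hi, ?_⟩)⟩
    rw [hg, mul_assoc, e3]; group
  · have hkm : k ≠ m := fun h => hm (h ▸ hk)
    have hkm' : k ≠ ν m := fun h => hm' (h ▸ hk)
    by_cases hki : k = i
    · subst hki
      have hu1 : -u⁻¹ ≠ 0 := neg_ne_zero.mpr (inv_ne_zero hu)
      have hu2 : -u ≠ 0 := neg_ne_zero.mpr hu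
      have hx : C.h k (ν k) (-u⁻¹) ∈ C.NT T := C.h_mem_NT hk hni (C.ne_nu k) hu1
      refine ⟨n' * C.h k (ν k) (-u⁻¹), mul_mem hn' hx, a * -u, mul_ne_zero ha hu2, Or.inl ?_⟩
      rw [hg, mul_assoc, w_one_mul_w h2 hφ him him' hu, ← hL_mul h2 hφ him him' ha hu2]
      calc n' * C.h m (ν m) a * (C.h k (ν k) (-u⁻¹) * C.h m (ν m) (-u))
          = n' * (C.h m (ν m) a * C.h k (ν k) (-u⁻¹)) * C.h m (ν m) (-u) := by group
        _ = _ := by rw [(C.hL_comm_NT hT hm hm' a hx).eq]; group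
    by_cases hki' : k = ν i
    · subst hki'
      have hc0 : -(ε i * ε m) * u⁻¹ ≠ 0 :=
        mul_ne_zero (neg_ne_zero.mpr (C.ee_ne_zero i m)) (inv_ne_zero hu)
      have hx : C.w i (ν i) u ∈ C.NT T := C.w_mem_NT hi hni (C.ne_nu i) hu
      refine ⟨n' * C.w i (ν i) u, mul_mem hn' hx, a * (-(ε i * ε m) * u⁻¹), mul_ne_zero ha hc0,
        Or.inr (Or.inr ?_)⟩
      rw [hg, mul_assoc, w'_one_mul_w h2 hφ him him' hu, C.w_eq_h_mul m (ν m) (-(ε i * ε m) * u⁻¹),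
        ← hL_mul h2 hφ him him' ha hc0]
      calc n' * C.h m (ν m) a * (C.w i (ν i) u *
            (C.h m (ν m) (-(ε i * ε m) * u⁻¹) * C.w m (ν m) 1))
          = n' * (C.h m (ν m) a * C.w i (ν i) u) *
            C.h m (ν m) (-(ε i * ε m) * u⁻¹) * C.w m (ν m) 1 := by group
        _ = _ := by rw [(C.hL_comm_NT hT hm hm' a hx).eq]; group
    · have hmonE := rawMon_w h2 hφ hkm hkm' (one_ne_zero (α := K))
      have e1 := rawMon_mul_w C hmonE i m hu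
      have hik' : i ≠ ν k := fun h => hki' (by rw [h, C.nu_nu])
      rw [sig_of_ne (Ne.symm hki) him hik' him', sig_j C.toD hkm hkm'] at e1
      set c := wvecC ν ε k m 1 i * u * (wvecC ν ε k m 1 m)⁻¹ with hcdef
      have hc0 : c ≠ 0 :=
        mul_ne_zero (mul_ne_zero (hmonE.1 i) hu) (inv_ne_zero (hmonE.1 m))
      have hx : C.w i k c ∈ C.NT T := C.w_mem_NT hi hk (Ne.symm hki) hc0
      refine ⟨n' * C.w i k c, mul_mem hn' hx, a, ha, Or.inr (Or.inl ⟨k, hk, ?_⟩)⟩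
      rw [hg, mul_assoc, e1]
      calc n' * C.h m (ν m) a * (C.w i k c * C.w k m 1)
          = n' * (C.h m (ν m) a * C.w i k c) * C.w k m 1 := by group
        _ = _ := by rw [(C.hL_comm_NT hT hm hm' a hx).eq]; group
  · have hc0 : ε i * ε m * u ≠ 0 := mul_ne_zero (C.ee_ne_zero i m) hu
    have hx : C.w i (ν i) u ∈ C.NT T := C.w_mem_NT hi hni (C.ne_nu i) hu
    refine ⟨n' * C.w i (ν i) u, mul_mem hn' hx, a * (ε i * ε m * u), mul_ne_zero ha hc0,
      Or.inr (Or.inl ⟨ν i, hni, ?_⟩)⟩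
    rw [hg, mul_assoc, wL_one_mul_w h2 hφ him him' hu, ← hL_mul h2 hφ him him' ha hc0]
    calc n' * C.h m (ν m) a * (C.w i (ν i) u * C.h m (ν m) (ε i * ε m * u) * C.w (ν i) m 1)
        = n' * (C.h m (ν m) a * C.w i (ν i) u) * C.h m (ν m) (ε i * ε m * u) *
          C.w (ν i) m 1 := by group
      _ = _ := by rw [(C.hL_comm_NT hT hm hm' a hx).eq]; group

end CData

end Cfsg.Agent.Lib.Helper2.CN
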