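import Cfsg.Agent.Lib.Helper2.CN17

/-!
# Type `C`: the representation is injective on the monomial subgroup
-/

set_option linter.unusedSectionVars false
set_option linter.unusedVariables false

namespace Cfsg.Agent.Lib.Helper2.CN

open Cfsg.Agent.Lib.Helper5.Stb Cfsg.Agent.Lib.Helper3.AN Cfsg.Agent.Lib.Helper3.DN Matrix

variable {J K G : Type*} [Field K] [Group G] [Fintype J] [DecidableEq J] {ν : J → J} {ε : J → K}
  (C : CData J K G ν ε)

namespace CData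

variable {φ : G →* Matrix J J K} (h2 : H2 C φ) (hφ : IsRepC C φ)
  (hc2 : ∀ a : J, ∃ b, b ≠ a ∧ b ≠ ν a)
  (hc : ∀ a b : J, ∃ c, c ≠ a ∧ c ≠ b ∧ c ≠ ν a ∧ c ≠ ν b)

omit [Fintype J] [DecidableEq J] in
include hc in
/-- the Weyl elements of a short root and of its opposite -/
theorem w_swapS {i j : J} (hij : i ≠ j) (hij' : i ≠ ν j) {u : K} (hu : u ≠ 0) :
    C.w i j u = C.w j i (-u⁻¹) := by
  obtain ⟨c, h1, h2', h3, h4⟩ := hc i j
  have hT : Tri ν i j c :=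
    ⟨hij, h1.symm, h2'.symm, hij', C.ne_nu_symm h3, C.ne_nu_symm h4⟩
  exact C.w_swap hT hu

variable {T : Finset J} {m : J} (hT : ∀ i ∈ T, ν i ∈ T) (hm : m ∉ T) (hm' : ν m ∉ T)
include h2 hφ hc2 hc hT hm hm'

/-- right multiplication by a generator `w m (ν m) u` -/
theorem Dform_step_L {g : G} (hg : C.Dform T m g) {u : K} (hu : u ≠ 0) :
    C.Dform T m (g * C.w m (ν m) u) := by
  obtain ⟨b, hb1, hb2⟩ := hc2 m
  have him : b ≠ m := hb1
  have him' : b ≠ ν m := hb2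
  obtain ⟨n', hn', a, ha, hg | ⟨k, hk, hg⟩ | hg⟩ := hg
  · refine ⟨n', hn', a * u, mul_ne_zero ha hu, Or.inr (Or.inr ?_)⟩
    rw [hg, C.w_eq_h_mul m (ν m) u, ← hL_mul h2 hφ him him' ha hu]
    group
  · have hkm : k ≠ m := fun h => hm (h ▸ hk)
    have hkm' : k ≠ ν m := fun h => hm' (h ▸ hk)
    have hmonE := rawMon_w h2 hφ hkm hkm' (one_ne_zero (α := K))
    have e1 := rawMon_mul_w C hmonE m (ν m) hu
    rw [sig_j C.toD hkm hkm', sig_nj C.toD hkm hkm'] at e1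
    set c := wvecC ν ε k m 1 m * u * (wvecC ν ε k m 1 (ν m))⁻¹ with hcdef
    have hc0 : c ≠ 0 :=
      mul_ne_zero (mul_ne_zero (hmonE.1 m) hu) (inv_ne_zero (hmonE.1 (ν m)))
    have hx : C.w k (ν k) c ∈ C.NT T := C.w_mem_NT hk (hT k hk) (C.ne_nu k) hc0
    refine ⟨n' * C.w k (ν k) c, mul_mem hn' hx, a, ha, Or.inr (Or.inl ⟨k, hk, ?_⟩)⟩
    rw [hg, mul_assoc, e1]
    calc n' * C.h m (ν m) a * (C.w k (ν k) c * C.w k m 1)
        = n' * (C.h m (ν m) a * C.w k (ν k) c) * C.w k m 1 := by group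
      _ = _ := by rw [(C.hL_comm_NT hT hm hm' a hx).eq]; group
  · have hu1 : -u⁻¹ ≠ 0 := neg_ne_zero.mpr (inv_ne_zero hu)
    refine ⟨n', hn', a * -u⁻¹, mul_ne_zero ha hu1, Or.inl ?_⟩
    rw [hg, mul_assoc, wL_one_mul_wL h2 hφ him him' hu, mul_assoc,
      hL_mul h2 hφ him him' ha hu1]

theorem Dform_step {g : G} (hg : C.Dform T m g) {i j : J} (hi : i ∈ insert m (insert (ν m) T))
    (hj : j ∈ insert m (insert (ν m) T)) (hij : i ≠ j) {u : K} (hu : u ≠ 0) :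
    C.Dform T m (g * C.w i j u) := by
  have hu1 : -u⁻¹ ≠ 0 := neg_ne_zero.mpr (inv_ne_zero hu)
  have hi' : i = m ∨ i = ν m ∨ i ∈ T := by
    rcases Finset.mem_insert.mp hi with h | h
    · exact Or.inl h
    · exact Or.inr (Finset.mem_insert.mp h)
  have hj' : j = m ∨ j = ν m ∨ j ∈ T := by
    rcases Finset.mem_insert.mp hj with h | h
    · exact Or.inl h
    · exact Or.inr (Finset.mem_insert.mp h)
  clear hi hj
  rcases hi' with rfl | rfl | hi
  · rcases hj' with rfl | rfl | hj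
    · exact absurd rfl hij
    · exact C.Dform_step_L h2 hφ hc2 hc hT hm hm' hg hu
    · have h1 : i ≠ ν j := fun h => hm (h ▸ hT j hj)
      rw [C.w_swapS hc hij h1 hu]
      exact C.Dform_step_m h2 hφ hc2 hc hT hm hm' hg hj hu1
  · rcases hj' with rfl | rfl | hj
    · rw [w_swapL h2 hφ hc2 j hu]
      exact C.Dform_step_L h2 hφ hc2 hc hT hm hm' hg hu1
    · exact absurd rfl hij
    · rw [C.w_flip (ν m) j u, C.nu_nu]
      exact C.Dform_step_m h2 hφ hc2 hc hT hm hm' hg (hT j hj)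
        (mul_ne_zero (neg_ne_zero.mpr (C.ee_ne_zero _ _)) hu)
  · rcases hj' with rfl | rfl | hj
    · exact C.Dform_step_m h2 hφ hc2 hc hT hm hm' hg hi hu
    · rw [C.w_flip i (ν m) u, C.nu_nu]
      have hc0 : -(ε i * ε (ν m)) * u ≠ 0 := mul_ne_zero (neg_ne_zero.mpr (C.ee_ne_zero _ _)) hu
      have h1 : m ≠ ν i := fun h => hm (h ▸ hT i hi)
      have h1' : m ≠ ν (ν i) := by rw [C.nu_nu]; exact fun h => hm (h ▸ hi)
      rw [C.w_swapS hc h1 h1' hc0]
      exact C.Dform_step_m h2 hφ hc2 hc hT hm hm' hg (hT i hi)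
        (neg_ne_zero.mpr (inv_ne_zero hc0))
    · exact C.Dform_step_T h2 hφ hc2 hc hT hm hm' hg hi hj hij hu

theorem Dform_of_mem {n : G} (hn : n ∈ C.NT (insert m (insert (ν m) T))) : C.Dform T m n := by
  unfold NT at hn
  induction hn using Subgroup.closure_induction_right with
  | one => exact ⟨1, one_mem _, 1, one_ne_zero, Or.inl (by rw [C.h_one, mul_one])⟩
  | mul_right x hx y hy ih =>
    obtain ⟨i, j, u, hi, hj, hij, hu, rfl⟩ := hy
    exact C.Dform_step h2 hφ hc2 hc hT hm hm' ih hi hj hij hu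
  | mul_inv_cancel x hx y hy ih =>
    obtain ⟨i, j, u, hi, hj, hij, hu, rfl⟩ := hy
    rw [C.w_inv]
    exact C.Dform_step h2 hφ hc2 hc hT hm hm' ih hi hj hij (neg_ne_zero.mpr hu)

end CData

end Cfsg.Agent.Lib.Helper2.CN
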