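import Cfsg.Agent.Lib.Helper2.CN18

/-!
# Type `C`: the representation is injective
-/

set_option linter.unusedSectionVars false
set_option linter.unusedVariables false

namespace Cfsg.Agent.Lib.Helper2.CN

open Cfsg.Agent.Lib.Helper5.Stb Cfsg.Agent.Lib.Helper3.AN Cfsg.Agent.Lib.Helper3.DN Matrix

section generic
variable {J K G : Type*} [Field K] [Group G] [Fintype J] [DecidableEq J] {ν : J → J} {ε : J → K}
  (C : CData J K G ν ε)

namespace CData

variable {φ : G →* Matrix J J K} (hφ : IsRepC C φ)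
include hφ

theorem NT_fix {T : Finset J} (hT : ∀ i ∈ T, ν i ∈ T) {m : J} (hm : m ∉ T) {n : G}
    (hn : n ∈ C.NT T) : φ n *ᵥ (ev m : J → K) = ev m := by
  unfold NT at hn
  induction hn using Subgroup.closure_induction with
  | mem y hy =>
    obtain ⟨i, j, u, hi, hj, hij, hu, rfl⟩ := hy
    have f1 : m ≠ i := fun h => hm (h ▸ hi)
    have f2 : m ≠ j := fun h => hm (h ▸ hj)
    have f3 : m ≠ ν i := fun h => hm (h ▸ hT i hi)
    have f4 : m ≠ ν j := fun h => hm (h ▸ hT j hj)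
    by_cases hij' : j = ν i
    · subst hij'
      rw [repC_wL_ev hφ i hu m, sigL_of_ne i f1 f3, wvL_of_ne i u f1 f3, one_smul]
    · rw [repC_w_ev hφ hij (C.ne_nu_symm hij') hu m, sig_of_ne f1 f2 f3 f4,
        wvC_of_ne u f1 f2 f3 f4, one_smul]
  | one => rw [map_one, Matrix.one_mulVec]
  | mul a b _ _ ha hb => rw [map_mul, ← Matrix.mulVec_mulVec, hb, ha]
  | inv a _ ha => exact rep_fix_inv φ ha

omit hφ [Fintype J] in
theorem NT_empty : C.NT ∅ = ⊥ := by
  unfold NT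
  rw [Subgroup.closure_eq_bot_iff]
  rintro g ⟨i, j, u, hi, -, -, -, -⟩
  exact absurd hi (Finset.notMem_empty i)

theorem rep_hL_m {m : J} {a : K} (ha : a ≠ 0) :
    φ (C.h m (ν m) a) *ᵥ (ev m : J → K) = a • ev m := by
  have n1 : (-1 : K) ≠ 0 := neg_ne_zero.mpr one_ne_zero
  unfold h
  rw [map_mul, ← Matrix.mulVec_mulVec, repC_wL_ev hφ m n1 m, sigL_i C m, wvL_i C m,
    Matrix.mulVec_smul, repC_wL_ev hφ m ha (ν m), sigL_ni C m, wvL_ni, smul_smul]
  congr 1
  field_simp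

theorem rep_hL_nm {m : J} {a : K} (ha : a ≠ 0) :
    φ (C.h m (ν m) a) *ᵥ (ev (ν m) : J → K) = a⁻¹ • ev (ν m) := by
  have n1 : (-1 : K) ≠ 0 := neg_ne_zero.mpr one_ne_zero
  unfold h
  rw [map_mul, ← Matrix.mulVec_mulVec, repC_wL_ev hφ m n1 (ν m), sigL_ni C m, wvL_ni,
    Matrix.mulVec_smul, repC_wL_ev hφ m ha m, sigL_i C m, wvL_i C m, smul_smul]
  congr 1
  field_simp

theorem rep_hL_ne {m k : J} (h1 : k ≠ m) (h2 : k ≠ ν m) {a : K} (ha : a ≠ 0) :
    φ (C.h m (ν m) a) *ᵥ (ev k : J → K) = ev k := by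
  have n1 : (-1 : K) ≠ 0 := neg_ne_zero.mpr one_ne_zero
  unfold h
  rw [map_mul, ← Matrix.mulVec_mulVec, repC_wL_ev hφ m n1 k, sigL_of_ne m h1 h2,
    wvL_of_ne m _ h1 h2, one_smul, repC_wL_ev hφ m ha k, sigL_of_ne m h1 h2,
    wvL_of_ne m _ h1 h2, one_smul]

variable (h2 : H2 C φ) (hc2 : ∀ a : J, ∃ b, b ≠ a ∧ b ≠ ν a)
  (hc : ∀ a b : J, ∃ c, c ≠ a ∧ c ≠ b ∧ c ≠ ν a ∧ c ≠ ν b)
include h2 hc2 hc

theorem NT_inj : ∀ (N : ℕ) (T : Finset J), T.card = N → (∀ i ∈ T, ν i ∈ T) →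
    ∀ n ∈ C.NT T, φ n = 1 → n = 1 := by
  intro N
  induction N using Nat.strong_induction_on with
  | _ N ih =>
    intro T hN hT n hn hφn
    rcases T.eq_empty_or_nonempty with rfl | ⟨m, hmT⟩
    · rw [C.NT_empty] at hn
      exact Subgroup.mem_bot.mp hn
    have hnm : ν m ∈ T := hT m hmT
    set T₀ := (T.erase m).erase (ν m) with hT₀
    have hm : m ∉ T₀ := by
      rw [hT₀]
      intro h
      exact (Finset.mem_erase.mp (Finset.mem_erase.mp h).2).1 rfl
    have hm' : ν m ∉ T₀ := by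
      rw [hT₀]
      intro h
      exact (Finset.mem_erase.mp h).1 rfl
    have hTeq : T = insert m (insert (ν m) T₀) := by
      rw [hT₀, Finset.insert_erase (Finset.mem_erase.mpr ⟨C.nu_ne m, hnm⟩),
        Finset.insert_erase hmT]
    have hT₀' : ∀ i ∈ T₀, ν i ∈ T₀ := by
      intro i hi
      rw [hT₀] at hi ⊢
      obtain ⟨h1, h3⟩ := Finset.mem_erase.mp hi
      obtain ⟨h4, h5⟩ := Finset.mem_erase.mp h3
      refine Finset.mem_erase.mpr ⟨C.nu_ne_nu h4, Finset.mem_erase.mpr ⟨?_, hT i h5⟩⟩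
      intro h
      exact h1 (by rw [← h, C.nu_nu])
    have hcard : T₀.card < N := by
      rw [← hN, hTeq, Finset.card_insert_of_notMem, Finset.card_insert_of_notMem hm']
      · omega
      · intro h
        rcases Finset.mem_insert.mp h with h | h
        · exact C.ne_nu m h
        · exact hm h
    rw [hTeq] at hn
    obtain ⟨n', hn', a, ha, hg | ⟨k, hk, hg⟩ | hg⟩ :=
      C.Dform_of_mem h2 hφ hc2 hc hT₀' hm hm' hn
    · -- `E = 1`
      have e1 : φ n *ᵥ (ev m : J → K) = ev m := by rw [hφn, Matrix.one_mulVec]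
      rw [hg, map_mul, ← Matrix.mulVec_mulVec, C.rep_hL_m hφ ha, Matrix.mulVec_smul,
        C.NT_fix hφ hT₀' hm hn'] at e1
      have e2 : a = 1 := by
        have := congrFun e1 m
        simpa [ev] using this
      rw [e2, C.h_one, mul_one] at hg
      rw [hg] at hφn ⊢
      exact ih T₀.card hcard T₀ rfl hT₀' n' hn' hφn
    · -- `E = w k m 1`
      exfalso
      have hkm : k ≠ m := fun h => hm (h ▸ hk)
      have hkm' : k ≠ ν m := fun h => hm' (h ▸ hk)
      have e1 : φ n *ᵥ (ev m : J → K) = ev m := by rw [hφn, Matrix.one_mulVec]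
      rw [hg, map_mul, map_mul, ← Matrix.mulVec_mulVec, ← Matrix.mulVec_mulVec,
        repC_w_ev hφ hkm hkm' one_ne_zero m, sig_j C.toD hkm hkm', wvC_j C hkm hkm', one_smul,
        C.rep_hL_ne hφ hkm hkm' ha] at e1
      have e2 : φ n'⁻¹ *ᵥ (ev m : J → K) = ev m := rep_fix_inv φ (C.NT_fix hφ hT₀' hm hn')
      have e3 := congrArg (fun x => φ n'⁻¹ *ᵥ x) e1
      simp only [rep_inv_mulVec] at e3
      rw [e2] at e3
      have := congrFun e3 m
      simp [ev, hkm] at this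
    · -- `E = w m (ν m) 1`
      exfalso
      have e1 : φ n *ᵥ (ev m : J → K) = ev m := by rw [hφn, Matrix.one_mulVec]
      rw [hg, map_mul, map_mul, ← Matrix.mulVec_mulVec, ← Matrix.mulVec_mulVec,
        repC_wL_ev hφ m one_ne_zero m, sigL_i C m, wvL_i C m, Matrix.mulVec_smul,
        C.rep_hL_nm hφ ha, Matrix.mulVec_smul, Matrix.mulVec_smul,
        C.NT_fix hφ hT₀' hm' hn'] at e1
      have := congrFun e1 m
      simp [ev, C.ne_nu m] at this

end CData

end generic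

section fin
variable {n : ℕ} {K G : Type*} [Field K] [Group G] {ε : Fin (n + n) → K}
  (C : CData (Fin (n + n)) K G Fin.rev ε)
  {φ : G →* Matrix (Fin (n + n)) (Fin (n + n)) K}

namespace CData

theorem Nw_eq_NT : C.Nw = C.NT Finset.univ := by
  unfold Nw NT
  congr 1
  ext g
  constructor
  · rintro ⟨i, j, u, hij, hu, rfl⟩
    exact ⟨i, j, u, Finset.mem_univ _, Finset.mem_univ _, hij, hu, rfl⟩
  · rintro ⟨i, j, u, -, -, hij, hu, rfl⟩
    exact ⟨i, j, u, hij, hu, rfl⟩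

/-- **Presentation theorem for type `C`**: a group with root elements satisfying the Steinberg
relations of type `C_n`, `n ≥ 3`, on which the natural representation is injective on the rank
two subgroups, is represented faithfully. -/
theorem rep_injective (h2 : H2 C φ) (hφ : IsRepC C φ)
    (hc2 : ∀ a : Fin (n + n), ∃ b, b ≠ a ∧ b ≠ Fin.rev a)
    (hc : ∀ a b : Fin (n + n), ∃ c, c ≠ a ∧ c ≠ b ∧ c ≠ Fin.rev a ∧ c ≠ Fin.rev b)
    (hgen : C.Gen) : Function.Injective φ := by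
  rw [injective_iff_map_eq_one]
  intro g hg
  have h1 := C.ker_mem_Nw h2 hφ hc2 hc hgen g hg
  rw [C.Nw_eq_NT] at h1
  exact C.NT_inj hφ h2 hc2 hc _ Finset.univ rfl (fun i _ => Finset.mem_univ _) g h1 hg

end CData

end fin

end Cfsg.Agent.Lib.Helper2.CN
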