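import Cfsg.Agent.Lib.Helper2.CN1
import Cfsg.Agent.Lib.Helper3.DN3

/-!
# Type `C`: generic lemmas on monomial actions
-/

set_option linter.unusedSectionVars false
set_option linter.unusedVariables false

namespace Cfsg.Agent.Lib.Helper2.CN

open Cfsg.Agent.Lib.Helper5.Stb Cfsg.Agent.Lib.Helper3.AN Cfsg.Agent.Lib.Helper3.DN

variable {J K G : Type*} [Field K] [Group G] {ν : J → J} {ε : J → K} (C : CData J K G ν ε)

/-- compatibility of a permutation and a vector of scalars with `ν` and `ε`: the data of a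
monomial symplectic matrix -/
structure Compat (C : CData J K G ν ε) (σ : Equiv.Perm J) (v : J → K) : Prop where
  nu : ∀ k, σ (ν k) = ν (σ k)
  ne : ∀ k, v k ≠ 0
  vv : ∀ k, v (ν k) * v k = ε k * ε (σ k)

/-- `g` acts on the root elements of the pair `(k, l)` like the monomial matrix `(σ, v)` -/
def PW (C : CData J K G ν ε) (g : G) (σ : Equiv.Perm J) (v : J → K) (k l : J) : Prop :=
  ∀ t, MulAut.conj g (C.y k l t) = C.y (σ k) (σ l) (v k * t * (v l)⁻¹)

omit [Field K] [Group G] in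
theorem perm_apply_inv {J : Type*} (σ : Equiv.Perm J) (k : J) : σ (σ⁻¹ k) = k := by simp

omit [Field K] [Group G] in
theorem perm_inv_apply {J : Type*} (σ : Equiv.Perm J) (k : J) : σ⁻¹ (σ k) = k := by simp

variable {C}

theorem Compat.v_nu {σ : Equiv.Perm J} {v : J → K} (h : Compat C σ v) (k : J) :
    v (ν k) = ε k * ε (σ k) * (v k)⁻¹ := by
  rw [← h.vv k, mul_assoc, mul_inv_cancel₀ (h.ne k), mul_one]

theorem Compat.v_nu_inv {σ : Equiv.Perm J} {v : J → K} (h : Compat C σ v) (k : J) :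
    (v (ν k))⁻¹ = v k * (ε k * ε (σ k)) := by
  rw [h.v_nu k, mul_inv, inv_inv, C.ee_inv, mul_comm]

theorem Compat.one : Compat C 1 (fun _ => 1) :=
  ⟨fun _ => rfl, fun _ => one_ne_zero, fun k => by
    simp only [Equiv.Perm.coe_one, id_eq, mul_one]; exact (C.eps_sq k).symm⟩

theorem Compat.mul {σ σ' : Equiv.Perm J} {v v' : J → K} (h : Compat C σ v) (h' : Compat C σ' v') :
    Compat C (σ * σ') (fun k => v' k * v (σ' k)) := by
  refine ⟨fun k => ?_, fun k => mul_ne_zero (h'.ne k) (h.ne _), fun k => ?_⟩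
  · rw [Equiv.Perm.mul_apply, Equiv.Perm.mul_apply, h'.nu, h.nu]
  · show v' (ν k) * v (σ' (ν k)) * (v' k * v (σ' k)) = ε k * ε ((σ * σ') k)
    rw [h'.nu k, Equiv.Perm.mul_apply]
    have e1 := h'.vv k
    have e2 := h.vv (σ' k)
    have e3 := C.eps_sq (σ' k)
    linear_combination (v (ν (σ' k)) * v (σ' k)) * e1 + (ε k * ε (σ' k)) * e2 + (ε k * ε (σ (σ' k))) * e3

theorem Compat.inv {σ : Equiv.Perm J} {v : J → K} (h : Compat C σ v) :
    Compat C σ⁻¹ (fun k => (v (σ⁻¹ k))⁻¹) := by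
  refine ⟨fun k => ?_, fun k => inv_ne_zero (h.ne _), fun k => ?_⟩
  · rw [Equiv.Perm.inv_eq_iff_eq, h.nu, perm_apply_inv]
  · have e0 : σ⁻¹ (ν k) = ν (σ⁻¹ k) := by
      rw [Equiv.Perm.inv_eq_iff_eq, h.nu, perm_apply_inv]
    show (v (σ⁻¹ (ν k)))⁻¹ * (v (σ⁻¹ k))⁻¹ = ε k * ε (σ⁻¹ k)
    rw [e0, ← mul_inv, h.vv (σ⁻¹ k), perm_apply_inv, C.ee_inv, mul_comm]

/-- the flip of a pair on which `g` acts monomially -/
theorem PW.flip {g : G} {σ : Equiv.Perm J} {v : J → K} (hc : Compat C σ v) {k l : J}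
    (h : PW C g σ v (ν l) (ν k)) : PW C g σ v k l := by
  intro t
  rw [C.y_flip k l t, h, hc.nu, hc.nu, C.y_flip' (σ k) (σ l), hc.v_nu l, hc.v_nu_inv k]
  congr 1
  rcases C.eps_cases k with h1 | h1 <;> rcases C.eps_cases l with h2 | h2 <;>
    rcases C.eps_cases (σ k) with h3 | h3 <;> rcases C.eps_cases (σ l) with h4 | h4 <;>
    rw [h1, h2, h3, h4] <;> ring

/-- transitivity along the commutator relation of type `A₂` -/
theorem PW.rel {g : G} {σ : Equiv.Perm J} {v : J → K} (hv : ∀ k, v k ≠ 0) {k m l : J}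
    (h1 : PW C g σ v k m) (h2 : PW C g σ v m l)
    (hr : ∀ t u, C.y k m t * C.y m l u * (C.y k m t)⁻¹ * (C.y m l u)⁻¹ = C.y k l (t * u))
    (hr' : ∀ t u, C.y (σ k) (σ m) t * C.y (σ m) (σ l) u * (C.y (σ k) (σ m) t)⁻¹ *
      (C.y (σ m) (σ l) u)⁻¹ = C.y (σ k) (σ l) (t * u)) : PW C g σ v k l := by
  intro t
  have e : C.y k l t = C.y k m t * C.y m l 1 * (C.y k m t)⁻¹ * (C.y m l 1)⁻¹ := by
    rw [hr, mul_one]
  rw [e]
  simp only [map_mul, map_inv]
  rw [h1, h2, hr']
  congr 1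
  have := hv m
  field_simp


/-- the trivial Steinberg data of type `D` on the same index set: a device to reuse the lemmas on
the permutations `sig ν i j` -/
def CData.toD (C : CData J K G ν ε) : DData J K Unit ν where
  nu_nu := C.nu_nu
  nu_ne := C.nu_ne
  y := fun _ _ _ => 1
  y_self := fun _ _ => rfl
  y_opp := fun _ _ => rfl
  y_flip := fun _ _ _ => rfl
  y_add := fun _ _ _ _ => rfl
  y_comm := fun _ _ _ _ _ _ _ _ _ _ => rfl
  y_comm' := fun _ _ _ _ => rfl
  y_rel := fun _ _ _ _ _ _ _ _ _ _ _ => rfl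

section weyl
variable [DecidableEq J] (C)

/-- the monomial entries of the Weyl element `w i j u` of a short root -/
def wvecC (ν : J → J) (ε : J → K) (i j : J) (u : K) : J → K := fun k =>
  if k = j then u else if k = i then -u⁻¹ else if k = ν j then ε i * ε j * u⁻¹
  else if k = ν i then -(ε i * ε j) * u else 1

/-- the permutation of the Weyl element of the long root at `i` -/
def sigL (ν : J → J) (i : J) : Equiv.Perm J := Equiv.swap i (ν i)

/-- the monomial entries of the Weyl element `w i (ν i) u` of a long root -/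
def wvecL (ν : J → J) (i : J) (u : K) : J → K := fun k =>
  if k = ν i then u else if k = i then -u⁻¹ else 1

omit [Group G] in
theorem wvC_of_ne {i j k : J} (u : K) (h1 : k ≠ i) (h2 : k ≠ j) (h3 : k ≠ ν i) (h4 : k ≠ ν j) :
    wvecC ν ε i j u k = 1 := by
  simp [wvecC, h1, h2, h3, h4]

section
variable {i j : J} (hij : i ≠ j) (hij' : i ≠ ν j)
include C hij hij'

theorem wvC_j (u : K) : wvecC ν ε i j u j = u := by simp [wvecC]

theorem wvC_i (u : K) : wvecC ν ε i j u i = -u⁻¹ := by simp [wvecC, hij]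

theorem wvC_nj (u : K) : wvecC ν ε i j u (ν j) = ε i * ε j * u⁻¹ := by
  simp [wvecC, C.nu_ne j, hij'.symm]

theorem wvC_ni (u : K) : wvecC ν ε i j u (ν i) = -(ε i * ε j) * u := by
  have f4 : ν i ≠ ν j := fun h => hij (C.nu_inj h)
  simp [wvecC, C.nu_ne i, (C.ne_nu_symm hij').symm, f4]

theorem wvC_ne_zero {u : K} (hu : u ≠ 0) (k : J) : wvecC ν ε i j u k ≠ 0 := by
  unfold wvecC
  split_ifs
  · exact hu
  · exact neg_ne_zero.mpr (inv_ne_zero hu)
  · exact mul_ne_zero (C.ee_ne_zero i j) (inv_ne_zero hu)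
  · exact mul_ne_zero (neg_ne_zero.mpr (C.ee_ne_zero i j)) hu
  · exact one_ne_zero

/-- the monomial data of the Weyl element of a short root are compatible -/
theorem compat_w {u : K} (hu : u ≠ 0) : Compat C (sig ν i j) (wvecC ν ε i j u) := by
  have f4 : ν i ≠ ν j := fun h => hij (C.nu_inj h)
  refine ⟨sig_nu C.toD hij hij', wvC_ne_zero C hij hij' hu, fun k => ?_⟩
  by_cases h1 : k = i
  · rw [h1, wvC_ni C hij hij', wvC_i C hij hij', sig_i C.toD hij hij']
    field_simp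
  by_cases h2 : k = j
  · rw [h2, wvC_nj C hij hij', wvC_j C hij hij', sig_j C.toD hij hij']
    field_simp
  by_cases h3 : k = ν i
  · rw [h3, C.nu_nu, wvC_ni C hij hij', wvC_i C hij hij', sig_ni C.toD hij hij', C.eps_nu,
      C.eps_nu]
    field_simp
  by_cases h4 : k = ν j
  · rw [h4, C.nu_nu, wvC_nj C hij hij', wvC_j C hij hij', sig_nj C.toD hij hij', C.eps_nu,
      C.eps_nu]
    field_simp
  rw [wvC_of_ne u h1 h2 h3 h4, sig_of_ne h1 h2 h3 h4, mul_one, C.eps_sq]
  apply wvC_of_ne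
  · intro h; apply h3; rw [← h, C.nu_nu]
  · intro h; apply h4; rw [← h, C.nu_nu]
  · intro h; exact h1 (C.nu_inj h)
  · intro h; exact h2 (C.nu_inj h)

end

section long
variable (i : J)
include C

theorem sigL_i : sigL ν i i = ν i := Equiv.swap_apply_left _ _

theorem sigL_ni : sigL ν i (ν i) = i := Equiv.swap_apply_right _ _

omit C in
theorem sigL_of_ne {k : J} (h1 : k ≠ i) (h2 : k ≠ ν i) : sigL ν i k = k :=
  Equiv.swap_apply_of_ne_of_ne h1 h2

theorem sigL_nu (k : J) : sigL ν i (ν k) = ν (sigL ν i k) := by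
  by_cases h1 : k = i
  · rw [h1, sigL_ni C, sigL_i C, C.nu_nu]
  by_cases h2 : k = ν i
  · rw [h2, C.nu_nu, sigL_i C, sigL_ni C]
  rw [sigL_of_ne i h1 h2]
  apply sigL_of_ne
  · intro h; apply h2; rw [← h, C.nu_nu]
  · intro h; exact h1 (C.nu_inj h)

omit C in
theorem wvL_ni (u : K) : wvecL ν i u (ν i) = u := by simp [wvecL]

theorem wvL_i (u : K) : wvecL ν i u i = -u⁻¹ := by simp [wvecL, C.ne_nu i]

omit C in
theorem wvL_of_ne {k : J} (u : K) (h1 : k ≠ i) (h2 : k ≠ ν i) : wvecL ν i u k = 1 := by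
  simp [wvecL, h1, h2]

omit C in
theorem wvL_ne_zero {u : K} (hu : u ≠ 0) (k : J) : wvecL ν i u k ≠ 0 := by
  unfold wvecL
  split_ifs
  · exact hu
  · exact neg_ne_zero.mpr (inv_ne_zero hu)
  · exact one_ne_zero

/-- the monomial data of the Weyl element of a long root are compatible -/
theorem compat_wL {u : K} (hu : u ≠ 0) : Compat C (sigL ν i) (wvecL ν i u) := by
  refine ⟨sigL_nu C i, wvL_ne_zero i hu, fun k => ?_⟩
  by_cases h1 : k = i
  · rw [h1, wvL_ni, wvL_i C, sigL_i C, C.eps_nu]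
    have := C.eps_sq i
    field_simp
    linear_combination this
  by_cases h2 : k = ν i
  · rw [h2, C.nu_nu, wvL_ni, wvL_i C, sigL_ni C, C.eps_nu]
    have := C.eps_sq i
    field_simp
    linear_combination this
  rw [wvL_of_ne i u h1 h2, sigL_of_ne i h1 h2, mul_one, C.eps_sq]
  apply wvL_of_ne
  · intro h; apply h2; rw [← h, C.nu_nu]
  · intro h; exact h1 (C.nu_inj h)

end long

end weyl

section frames
variable [DecidableEq J] (C)

namespace CData

theorem PWs_il {i j l : J} (h : Tri ν i j l) {u : K} (hu : u ≠ 0) :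
    PW C (C.w i j u) (sig ν i j) (wvecC ν ε i j u) i l := by
  intro t
  rw [C.cjw2 h hu, sig_i C.toD h.ab h.ab',
    sig_of_ne h.ac.symm h.bc.symm (C.ne_nu_symm h.ac') (C.ne_nu_symm h.bc'),
    wvC_i C h.ab h.ab', wvC_of_ne u h.ac.symm h.bc.symm (C.ne_nu_symm h.ac') (C.ne_nu_symm h.bc')]
  congr 1
  rw [inv_one, mul_one]

theorem PWs_jl {i j l : J} (h : Tri ν i j l) {u : K} (hu : u ≠ 0) :
    PW C (C.w i j u) (sig ν i j) (wvecC ν ε i j u) j l := by
  intro t
  rw [C.cjw1 h hu, sig_j C.toD h.ab h.ab',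
    sig_of_ne h.ac.symm h.bc.symm (C.ne_nu_symm h.ac') (C.ne_nu_symm h.bc'),
    wvC_j C h.ab h.ab', wvC_of_ne u h.ac.symm h.bc.symm (C.ne_nu_symm h.ac') (C.ne_nu_symm h.bc')]
  congr 1
  rw [inv_one, mul_one]

theorem PWs_li {i j l : J} (h : Tri ν i j l) {u : K} (hu : u ≠ 0) :
    PW C (C.w i j u) (sig ν i j) (wvecC ν ε i j u) l i := by
  intro t
  rw [C.cjw4 h hu, sig_i C.toD h.ab h.ab',
    sig_of_ne h.ac.symm h.bc.symm (C.ne_nu_symm h.ac') (C.ne_nu_symm h.bc'),
    wvC_i C h.ab h.ab', wvC_of_ne u h.ac.symm h.bc.symm (C.ne_nu_symm h.ac') (C.ne_nu_symm h.bc')]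
  congr 1
  rw [inv_neg, inv_inv]
  ring

theorem PWs_lj {i j l : J} (h : Tri ν i j l) {u : K} (hu : u ≠ 0) :
    PW C (C.w i j u) (sig ν i j) (wvecC ν ε i j u) l j := by
  intro t
  rw [C.cjw3 h hu, sig_j C.toD h.ab h.ab',
    sig_of_ne h.ac.symm h.bc.symm (C.ne_nu_symm h.ac') (C.ne_nu_symm h.bc'),
    wvC_j C h.ab h.ab', wvC_of_ne u h.ac.symm h.bc.symm (C.ne_nu_symm h.ac') (C.ne_nu_symm h.bc')]
  congr 1
  rw [one_mul]

/-- an element commuting with the root elements of `±(i, j)` is fixed by the Weyl element -/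
theorem cj_w_of_comm {i j : J} {u : K} {g : G} (h1 : ∀ s, Commute (C.y i j s) g)
    (h2 : ∀ s, Commute (C.y j i s) g) : MulAut.conj (C.w i j u) g = g := by
  have e : ∀ a : G, Commute a g → MulAut.conj a g = g := fun a h => by
    rw [MulAut.conj_apply, h.eq, mul_inv_cancel_right]
  unfold w
  rw [map_mul, map_mul, MulAut.mul_apply, MulAut.mul_apply, e _ (h1 u), e _ (h2 _), e _ (h1 u)]

theorem PWs_kl {i j k l : J} (u : K) (hki : k ≠ i) (hkj : k ≠ j) (hki' : k ≠ ν i) (hkj' : k ≠ ν j)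
    (hli : l ≠ i) (hlj : l ≠ j) (hli' : l ≠ ν i) (hlj' : l ≠ ν j) :
    PW C (C.w i j u) (sig ν i j) (wvecC ν ε i j u) k l := by
  intro t
  rw [sig_of_ne hki hkj hki' hkj', sig_of_ne hli hlj hli' hlj', wvC_of_ne u hki hkj hki' hkj',
    wvC_of_ne u hli hlj hli' hlj', inv_one, mul_one, one_mul]
  apply C.cj_w_of_comm
  · intro s
    exact C.y_comm i j k l s t hkj.symm hli.symm (C.ne_nu_symm hki') (C.ne_nu_symm hlj')
  · intro s
    exact C.y_comm j i k l s t hki.symm hlj.symm (C.ne_nu_symm hkj') (C.ne_nu_symm hli')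

/-- the Weyl element of a long root fixes the root elements away from its pair -/
theorem PWL_kl {i k l : J} (u : K) (hki : k ≠ i) (hki' : k ≠ ν i) (hli : l ≠ i) (hli' : l ≠ ν i) :
    PW C (C.w i (ν i) u) (sigL ν i) (wvecL ν i u) k l := by
  intro t
  rw [sigL_of_ne i hki hki', sigL_of_ne i hli hli', wvL_of_ne i u hki hki',
    wvL_of_ne i u hli hli', inv_one, mul_one, one_mul]
  apply C.cj_w_of_comm
  · intro s
    refine C.y_comm i (ν i) k l s t hki'.symm hli.symm (C.ne_nu_symm hki') ?_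
    intro h; exact hli (C.nu_inj h).symm
  · intro s
    refine C.y_comm (ν i) i k l s t hki.symm hli'.symm ?_ (C.ne_nu_symm hli')
    intro h; exact hki (C.nu_inj h).symm

end CData

end frames

end Cfsg.Agent.Lib.Helper2.CN
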