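import Cfsg.Agent.Lib.Helper2.CN1
import Cfsg.Agent.Lib.Helper3.DN5

/-!
# Type `C`: the natural representation
-/

set_option linter.unusedSectionVars false
set_option linter.unusedVariables false

namespace Cfsg.Agent.Lib.Helper2.CN

open Cfsg.Agent.Lib.Helper5.Stb Cfsg.Agent.Lib.Helper3.AN Cfsg.Agent.Lib.Helper3.DN Matrix

variable {J K G : Type*} [Field K] [Group G] [Fintype J] [DecidableEq J] {ν : J → J} {ε : J → K}

/-- `φ` sends the root elements to the standard root elements of the symplectic group of the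
alternating form with `B(e_k, e_{ν k}) = ε k` -/
def IsRepC (C : CData J K G ν ε) (φ : G →* Matrix J J K) : Prop :=
  (∀ k l t, k ≠ l → l ≠ ν k → ∀ x : J → K,
    φ (C.y k l t) *ᵥ x =
      x + (t * x l) • (ev k : J → K) - (ε k * ε l * t * x (ν k)) • (ev (ν l) : J → K)) ∧
  (∀ k t, ∀ x : J → K, φ (C.y k (ν k) t) *ᵥ x = x + (t * x (ν k)) • (ev k : J → K))

variable {C : CData J K G ν ε} {φ : G →* Matrix J J K} (hφ : IsRepC C φ)
include hφ

theorem repC_ev_l {k l : J} (hkl : k ≠ l) (hkl' : l ≠ ν k) (t : K) :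
    φ (C.y k l t) *ᵥ (ev l : J → K) = ev l + t • ev k := by
  rw [hφ.1 k l t hkl hkl']
  have h1 : (ev l : J → K) l = 1 := by simp [ev]
  have h2 : (ev l : J → K) (ν k) = 0 := by simp [ev, Ne.symm hkl']
  rw [h1, h2, mul_one, mul_zero, zero_smul, sub_zero]

theorem repC_ev_rk {k l : J} (hkl : k ≠ l) (hkl' : l ≠ ν k) (t : K) :
    φ (C.y k l t) *ᵥ (ev (ν k) : J → K) = ev (ν k) - (ε k * ε l * t) • ev (ν l) := by
  rw [hφ.1 k l t hkl hkl']
  have h1 : (ev (ν k) : J → K) (ν k) = 1 := by simp [ev]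
  have h2 : (ev (ν k) : J → K) l = 0 := by simp [ev, hkl']
  rw [h1, h2, mul_one, mul_zero, zero_smul, add_zero]

theorem repC_ev_ne {k l m : J} (hkl : k ≠ l) (hkl' : l ≠ ν k) (h1 : m ≠ l) (h2 : m ≠ ν k) (t : K) :
    φ (C.y k l t) *ᵥ (ev m : J → K) = ev m := by
  rw [hφ.1 k l t hkl hkl']
  have h3 : (ev m : J → K) l = 0 := by simp [ev, Ne.symm h1]
  have h4 : (ev m : J → K) (ν k) = 0 := by simp [ev, Ne.symm h2]
  simp only [h3, h4, mul_zero, zero_smul, add_zero, sub_zero]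

theorem repC_long_ev (k : J) (t : K) :
    φ (C.y k (ν k) t) *ᵥ (ev (ν k) : J → K) = ev (ν k) + t • ev k := by
  rw [hφ.2 k t]
  have h1 : (ev (ν k) : J → K) (ν k) = 1 := by simp [ev]
  rw [h1, mul_one]

theorem repC_long_ev_ne {k m : J} (h : m ≠ ν k) (t : K) :
    φ (C.y k (ν k) t) *ᵥ (ev m : J → K) = ev m := by
  rw [hφ.2 k t]
  have h1 : (ev m : J → K) (ν k) = 0 := by simp [ev, Ne.symm h]
  rw [h1, mul_zero, zero_smul, add_zero]

end Cfsg.Agent.Lib.Helper2.CN
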