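import Cfsg.Agent.Lib.Helper2.CN2
import Cfsg.Agent.Lib.Helper2.CN3

/-!
# Type `C`: the Weyl elements act monomially
-/

set_option linter.unusedSectionVars false
set_option linter.unusedVariables false

namespace Cfsg.Agent.Lib.Helper2.CN

open Cfsg.Agent.Lib.Helper5.Stb Cfsg.Agent.Lib.Helper3.AN Cfsg.Agent.Lib.Helper3.DN Matrix

section vec
variable {J K : Type*} [Field K]

theorem vec3C {u c c' : K} (hu : u ≠ 0) (hc : c' = c) (hcc : c * c = 1) (p q : J → K) :
    p - (c' * -u⁻¹) • (q - (c * u) • p) = (c * u⁻¹) • q := by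
  subst hc
  ext m
  simp only [Pi.sub_apply, Pi.smul_apply, smul_eq_mul]
  have hu' : u * u⁻¹ = 1 := mul_inv_cancel₀ hu
  linear_combination (-(c' * c' * p m)) * hu' + (-(p m)) * hcc

theorem vec4C {u c c' : K} (hu : u ≠ 0) (hc : c' = c) (hcc : c * c = 1) (p q : J → K) :
    p - (c * u) • (q - (c' * -u⁻¹) • p) = (-c * u) • q := by
  subst hc
  ext m
  simp only [Pi.sub_apply, Pi.smul_apply, smul_eq_mul]
  have hu' : u * u⁻¹ = 1 := mul_inv_cancel₀ hu
  linear_combination (-(c' * c' * p m)) * hu' + (-(p m)) * hcc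

end vec

section generic
variable {J K G : Type*} [Field K] [Group G] [Fintype J] [DecidableEq J] {ν : J → J} {ε : J → K}

omit [Group G] in
theorem mat_eq_of_ev {M N : Matrix J J K} (h : ∀ l, M *ᵥ (ev l : J → K) = N *ᵥ (ev l : J → K)) :
    M = N := by
  ext a b
  have h1 := congrFun (h b) a
  rw [show (ev b : J → K) = Pi.single b 1 from rfl, Matrix.mulVec_single_one,
    Matrix.mulVec_single_one] at h1
  rwa [Matrix.col_apply, Matrix.col_apply] at h1

/-- `g` is represented by the monomial matrix with permutation `σ` and entries `v` -/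
def RepMon (φ : G →* Matrix J J K) (g : G) (σ : Equiv.Perm J) (v : J → K) : Prop :=
  ∀ l, φ g *ᵥ (ev l : J → K) = v l • (ev (σ l) : J → K)

theorem RepMon.one {φ : G →* Matrix J J K} : RepMon φ 1 1 (fun _ => 1) := fun l => by
  rw [map_one, Matrix.one_mulVec, one_smul]
  rfl

theorem RepMon.mul {φ : G →* Matrix J J K} {g g' : G} {σ σ' : Equiv.Perm J} {v v' : J → K}
    (h : RepMon φ g σ v) (h' : RepMon φ g' σ' v') :
    RepMon φ (g * g') (σ * σ') (fun k => v' k * v (σ' k)) := fun l => by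
  rw [map_mul, ← Matrix.mulVec_mulVec, h', Matrix.mulVec_smul, h, smul_smul,
    Equiv.Perm.mul_apply]

theorem RepMon.inv {φ : G →* Matrix J J K} {g : G} {σ : Equiv.Perm J} {v : J → K}
    (h : RepMon φ g σ v) (hv : ∀ k, v k ≠ 0) :
    RepMon φ g⁻¹ σ⁻¹ (fun k => (v (σ⁻¹ k))⁻¹) := fun l => by
  have h1 := h (σ⁻¹ l)
  rw [perm_apply_inv] at h1
  have h2 := rep_inv_mulVec φ g (ev (σ⁻¹ l) : J → K)
  rw [h1, Matrix.mulVec_smul] at h2
  rw [← h2, smul_smul, inv_mul_cancel₀ (hv (σ⁻¹ l)), one_smul]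

variable {C : CData J K G ν ε} {φ : G →* Matrix J J K} (hφ : IsRepC C φ)
include hφ

theorem repC_long_ev' (k : J) (t : K) :
    φ (C.y (ν k) k t) *ᵥ (ev k : J → K) = ev k + t • ev (ν k) := by
  have := repC_long_ev hφ (ν k) t
  rwa [C.nu_nu] at this

theorem repC_long_ev_ne' {k m : J} (h : m ≠ k) (t : K) :
    φ (C.y (ν k) k t) *ᵥ (ev m : J → K) = ev m := by
  have := repC_long_ev_ne hφ (k := ν k) (m := m) (by rw [C.nu_nu]; exact h) t
  rwa [C.nu_nu] at this

/-- the Weyl elements of the short roots are represented by monomial matrices -/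
theorem repC_w_ev {i j : J} (hij : i ≠ j) (hij' : i ≠ ν j) {u : K} (hu : u ≠ 0) :
    RepMon φ (C.w i j u) (sig ν i j) (wvecC ν ε i j u) := by
  intro l
  have f1 : j ≠ ν i := C.ne_nu_symm hij'
  have f4 : ν i ≠ ν j := fun h => hij (C.nu_inj h)
  have n1 := C.ne_nu i
  have n2 := C.ne_nu j
  have hcc := C.ee_sq i j
  have hc' : ε j * ε i = ε i * ε j := mul_comm _ _
  unfold CData.w
  rw [map_mul, map_mul, ← Matrix.mulVec_mulVec, ← Matrix.mulVec_mulVec]
  by_cases h1 : l = j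
  · subst h1
    rw [repC_ev_l hφ hij f1, Matrix.mulVec_add, Matrix.mulVec_smul,
      repC_ev_ne hφ hij.symm hij' hij.symm n2, repC_ev_l hφ hij.symm hij', vec1 hu,
      Matrix.mulVec_smul, repC_ev_ne hφ hij f1 hij n1, sig_j C.toD hij hij', wvC_j C hij hij']
  by_cases h2 : l = i
  · subst h2
    rw [repC_ev_ne hφ hij f1 hij n1, repC_ev_l hφ hij.symm hij', Matrix.mulVec_add,
      Matrix.mulVec_smul, repC_ev_ne hφ hij f1 hij n1, repC_ev_l hφ hij f1, vec2 hu,
      sig_i C.toD hij hij', wvC_i C hij hij']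
  by_cases h3 : l = ν j
  · subst h3
    rw [repC_ev_ne hφ hij f1 n2.symm f4.symm, repC_ev_rk hφ hij.symm hij', Matrix.mulVec_sub,
      Matrix.mulVec_smul, repC_ev_ne hφ hij f1 n2.symm f4.symm, repC_ev_rk hφ hij f1,
      vec3C hu hc' hcc, sig_nj C.toD hij hij', wvC_nj C hij hij']
  by_cases h4 : l = ν i
  · subst h4
    rw [repC_ev_rk hφ hij f1, Matrix.mulVec_sub, Matrix.mulVec_smul,
      repC_ev_ne hφ hij.symm hij' n1.symm f4, repC_ev_rk hφ hij.symm hij', vec4C hu hc' hcc,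
      Matrix.mulVec_smul, repC_ev_ne hφ hij f1 n2.symm f4.symm, sig_ni C.toD hij hij',
      wvC_ni C hij hij']
  · rw [repC_ev_ne hφ hij f1 h1 h4, repC_ev_ne hφ hij.symm hij' h2 h3, repC_ev_ne hφ hij f1 h1 h4,
      sig_of_ne h2 h1 h4 h3, wvC_of_ne u h2 h1 h4 h3, one_smul]

/-- the Weyl elements of the long roots are represented by monomial matrices -/
theorem repC_wL_ev (i : J) {u : K} (hu : u ≠ 0) :
    RepMon φ (C.w i (ν i) u) (sigL ν i) (wvecL ν i u) := by
  intro l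
  have n1 := C.ne_nu i
  unfold CData.w
  rw [map_mul, map_mul, ← Matrix.mulVec_mulVec, ← Matrix.mulVec_mulVec]
  by_cases h1 : l = ν i
  · subst h1
    rw [repC_long_ev hφ, Matrix.mulVec_add, Matrix.mulVec_smul, repC_long_ev_ne' hφ n1.symm,
      repC_long_ev' hφ, vec1 hu, Matrix.mulVec_smul, repC_long_ev_ne hφ n1, sigL_ni C,
      wvL_ni]
  by_cases h2 : l = i
  · subst h2
    rw [repC_long_ev_ne hφ n1, repC_long_ev' hφ, Matrix.mulVec_add, Matrix.mulVec_smul,
      repC_long_ev_ne hφ n1, repC_long_ev hφ, vec2 hu, sigL_i C, wvL_i C]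
  · rw [repC_long_ev_ne hφ h1, repC_long_ev_ne' hφ h2, repC_long_ev_ne hφ h1,
      sigL_of_ne i h2 h1, wvL_of_ne i u h2 h1, one_smul]

end generic

end Cfsg.Agent.Lib.Helper2.CN
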