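import Cfsg.Agent.Lib.Helper2.CN4

/-!
# Type `C`: conjugation by monomial elements in the natural representation, the rank two
subgroups, and the monomial action of the Weyl elements
-/

set_option linter.unusedSectionVars false
set_option linter.unusedVariables false

namespace Cfsg.Agent.Lib.Helper2.CN

open Cfsg.Agent.Lib.Helper5.Stb Cfsg.Agent.Lib.Helper3.AN Cfsg.Agent.Lib.Helper3.DN Matrix

section vec
variable {J K : Type*} [Field K]

theorem vecA {vb va t : K} (hb : vb ≠ 0) (p q : J → K) :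
    vb⁻¹ • (vb • p + t • (va • q)) = p + (va * t * vb⁻¹) • q := by
  ext m
  simp only [Pi.add_apply, Pi.smul_apply, smul_eq_mul]
  field_simp

theorem vecB {w w' c c' t t' : K} (hw : w ≠ 0) (h : w⁻¹ * (c * t) * w' = c' * t') (p q : J → K) :
    w⁻¹ • (w • p - (c * t) • (w' • q)) = p - (c' * t') • q := by
  ext m
  simp only [Pi.sub_apply, Pi.smul_apply, smul_eq_mul]
  rw [← h]
  field_simp

end vec

section generic
variable {J K G : Type*} [Field K] [Group G] [Fintype J] [DecidableEq J] {ν : J → J} {ε : J → K}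
  {C : CData J K G ν ε} {φ : G →* Matrix J J K} (hφ : IsRepC C φ)
include hφ

/-- conjugation of a short root element by a monomial element, in the representation -/
theorem rep_conj_short {n : G} {σ : Equiv.Perm J} {v : J → K} (hr : RepMon φ n σ v)
    (hc : Compat C σ v) {a b : J} (hab : a ≠ b) (hab' : b ≠ ν a) (t : K) :
    φ (n * C.y a b t * n⁻¹) = φ (C.y (σ a) (σ b) (v a * t * (v b)⁻¹)) := by
  have hσab : σ a ≠ σ b := σ.injective.ne hab
  have hσab' : σ b ≠ ν (σ a) := by
    rw [← hc.nu]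
    exact σ.injective.ne hab'
  apply mat_eq_of_ev
  intro x
  obtain ⟨z, rfl⟩ : ∃ z, σ z = x := ⟨σ⁻¹ x, perm_apply_inv σ x⟩
  have hinv := hr.inv hc.ne (σ z)
  simp only [perm_inv_apply] at hinv
  rw [map_mul, map_mul, ← Matrix.mulVec_mulVec, ← Matrix.mulVec_mulVec, hinv, Matrix.mulVec_smul,
    Matrix.mulVec_smul]
  by_cases h1 : z = b
  · subst h1
    rw [repC_ev_l hφ hab hab', Matrix.mulVec_add, Matrix.mulVec_smul, hr z, hr a,
      repC_ev_l hφ hσab hσab', vecA (hc.ne z)]
  by_cases h2 : z = ν a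
  · subst h2
    rw [repC_ev_rk hφ hab hab', Matrix.mulVec_sub, Matrix.mulVec_smul, hr (ν a), hr (ν b),
      hc.nu a, hc.nu b, repC_ev_rk hφ hσab hσab']
    apply vecB (hc.ne (ν a))
    rw [hc.v_nu b, hc.v_nu_inv a]
    have e1 := C.eps_sq a
    have e2 := C.eps_sq b
    have hb := hc.ne b
    field_simp
    linear_combination (ε (σ a) * ε (σ b) * v a * t * ε a ^ 2) * e2 +
      (ε (σ a) * ε (σ b) * v a * t) * e1
  · rw [repC_ev_ne hφ hab hab' h1 h2, hr z, smul_smul, inv_mul_cancel₀ (hc.ne z), one_smul,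
      repC_ev_ne hφ hσab hσab' (σ.injective.ne h1)]
    rw [← hc.nu]
    exact σ.injective.ne h2

/-- conjugation of a long root element by a monomial element, in the representation -/
theorem rep_conj_long {n : G} {σ : Equiv.Perm J} {v : J → K} (hr : RepMon φ n σ v)
    (hc : Compat C σ v) (a : J) (t : K) :
    φ (n * C.y a (ν a) t * n⁻¹) = φ (C.y (σ a) (ν (σ a)) (v a * t * (v (ν a))⁻¹)) := by
  apply mat_eq_of_ev
  intro x
  obtain ⟨z, rfl⟩ : ∃ z, σ z = x := ⟨σ⁻¹ x, perm_apply_inv σ x⟩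
  have hinv := hr.inv hc.ne (σ z)
  simp only [perm_inv_apply] at hinv
  rw [map_mul, map_mul, ← Matrix.mulVec_mulVec, ← Matrix.mulVec_mulVec, hinv, Matrix.mulVec_smul,
    Matrix.mulVec_smul]
  by_cases h2 : z = ν a
  · subst h2
    rw [repC_long_ev hφ, Matrix.mulVec_add, Matrix.mulVec_smul, hr (ν a), hr a, hc.nu a,
      repC_long_ev hφ, vecA (hc.ne (ν a))]
  · rw [repC_long_ev_ne hφ h2, hr z, smul_smul, inv_mul_cancel₀ (hc.ne z), one_smul,
      repC_long_ev_ne hφ]
    rw [← hc.nu]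
    exact σ.injective.ne h2

end generic

section rank2
variable {J K G : Type*} [Field K] [Group G] {ν : J → J} {ε : J → K}

/-- `k` is one of the four indices of the pairs of `a` and `b` -/
def InQ (ν : J → J) (a b k : J) : Prop := k = a ∨ k = b ∨ k = ν a ∨ k = ν b

namespace CData
variable (C : CData J K G ν ε)

/-- the subgroup generated by the root elements with indices in the pairs of `a` and `b` -/
def G2 (a b : J) : Subgroup G :=
  Subgroup.closure {g | ∃ k l t, InQ ν a b k ∧ InQ ν a b l ∧ g = C.y k l t}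

theorem y_mem_G2 {a b k l : J} (hk : InQ ν a b k) (hl : InQ ν a b l) (t : K) :
    C.y k l t ∈ C.G2 a b := Subgroup.subset_closure ⟨k, l, t, hk, hl, rfl⟩

theorem w_mem_G2 {a b k l : J} (hk : InQ ν a b k) (hl : InQ ν a b l) (u : K) :
    C.w k l u ∈ C.G2 a b :=
  mul_mem (mul_mem (C.y_mem_G2 hk hl _) (C.y_mem_G2 hl hk _)) (C.y_mem_G2 hk hl _)

end CData

variable [Fintype J] [DecidableEq J]

/-- the representation is injective on the rank two subgroups -/
def H2 (C : CData J K G ν ε) (φ : G →* Matrix J J K) : Prop :=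
  ∀ a b, a ≠ b → a ≠ ν b → ∀ g ∈ C.G2 a b, φ g = 1 → g = 1

variable {C : CData J K G ν ε} {φ : G →* Matrix J J K}

theorem H2.eq (h2 : H2 C φ) {a b : J} (hab : a ≠ b) (hab' : a ≠ ν b) {g g' : G}
    (hg : g ∈ C.G2 a b) (hg' : g' ∈ C.G2 a b) (h : φ g = φ g') : g = g' := by
  have h1 : φ (g'⁻¹ * g) = 1 := by
    rw [map_mul, h, ← map_mul, inv_mul_cancel, map_one]
  have h3 := h2 a b hab hab' _ (mul_mem (inv_mem hg') hg) h1
  exact (inv_mul_eq_one.mp h3).symm

/-- an element of a rank two subgroup which is represented monomially acts monomially on the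
root elements of this subgroup -/
theorem PW_of_H2 (h2 : H2 C φ) (hφ : IsRepC C φ) {a b : J} (hab : a ≠ b) (hab' : a ≠ ν b) {n : G}
    (hn : n ∈ C.G2 a b) {σ : Equiv.Perm J} {v : J → K} (hr : RepMon φ n σ v)
    (hc : Compat C σ v) {k l : J} (hk : InQ ν a b k) (hl : InQ ν a b l)
    (hk' : InQ ν a b (σ k)) (hl' : InQ ν a b (σ l)) : PW C n σ v k l := by
  intro t
  rw [MulAut.conj_apply]
  by_cases hkl : k = l
  · subst hkl
    rw [C.y_self, C.y_self, mul_one, mul_inv_cancel]
  have hmem : n * C.y k l t * n⁻¹ ∈ C.G2 a b :=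
    mul_mem (mul_mem hn (C.y_mem_G2 hk hl t)) (inv_mem hn)
  apply h2.eq hab hab' hmem (C.y_mem_G2 hk' hl' _)
  by_cases hkl' : l = ν k
  · subst hkl'
    rw [rep_conj_long hφ hr hc, hc.nu]
  · exact rep_conj_short hφ hr hc hkl hkl' t

end rank2

end Cfsg.Agent.Lib.Helper2.CN
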