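import Cfsg.Agent.Lib.Helper2.CN5

/-!
# Type `C`: the Weyl elements act monomially; monomial elements
-/

set_option linter.unusedSectionVars false
set_option linter.unusedVariables false

namespace Cfsg.Agent.Lib.Helper2.CN

open Cfsg.Agent.Lib.Helper5.Stb Cfsg.Agent.Lib.Helper3.AN Cfsg.Agent.Lib.Helper3.DN Matrix

variable {J K G : Type*} [Field K] [Group G] [Fintype J] [DecidableEq J] {ν : J → J} {ε : J → K}
  {C : CData J K G ν ε} {φ : G →* Matrix J J K}

section inq
include C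

theorem inQ_sig {i j k : J} (hij : i ≠ j) (hij' : i ≠ ν j) (hk : InQ ν i j k) :
    InQ ν i j (sig ν i j k) := by
  rcases hk with rfl | rfl | rfl | rfl
  · rw [sig_i C.toD hij hij']; exact Or.inr (Or.inl rfl)
  · rw [sig_j C.toD hij hij']; exact Or.inl rfl
  · rw [sig_ni C.toD hij hij']; exact Or.inr (Or.inr (Or.inr rfl))
  · rw [sig_nj C.toD hij hij']; exact Or.inr (Or.inr (Or.inl rfl))

theorem inQ_sigL {i b k : J} (hk : InQ ν i b k) : InQ ν i b (sigL ν i k) := by
  by_cases h1 : k = i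
  · rw [h1, sigL_i C]; exact Or.inr (Or.inr (Or.inl rfl))
  by_cases h2 : k = ν i
  · rw [h2, sigL_ni C]; exact Or.inl rfl
  rw [sigL_of_ne i h1 h2]; exact hk

theorem not_inQ_nu {i j l : J} (hl : ¬ InQ ν i j l) : ¬ InQ ν i j (ν l) := by
  intro h
  apply hl
  rcases h with h | h | h | h
  · exact Or.inr (Or.inr (Or.inl (by rw [← h, C.nu_nu])))
  · exact Or.inr (Or.inr (Or.inr (by rw [← h, C.nu_nu])))
  · exact Or.inl (C.nu_inj h)
  · exact Or.inr (Or.inl (C.nu_inj h))

theorem tri_of_not_inQ {i j l : J} (hij : i ≠ j) (hij' : i ≠ ν j) (hl : ¬ InQ ν i j l) :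
    Tri ν i j l := by
  refine ⟨hij, fun h => hl (Or.inl h.symm), fun h => hl (Or.inr (Or.inl h.symm)), hij', ?_, ?_⟩
  · intro h; exact hl (Or.inr (Or.inr (Or.inl (by rw [h, C.nu_nu]))))
  · intro h; exact hl (Or.inr (Or.inr (Or.inr (by rw [h, C.nu_nu]))))

end inq

section main
variable (h2 : H2 C φ) (hφ : IsRepC C φ)
include h2 hφ

/-- the Weyl elements of the short roots act monomially -/
theorem rawMon_w {i j : J} (hij : i ≠ j) (hij' : i ≠ ν j) {u : K} (hu : u ≠ 0) :
    RawMon C.y (C.w i j u) (sig ν i j) (wvecC ν ε i j u) := by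
  have hcomp := compat_w C hij hij' hu
  have hq_i : InQ ν i j i := Or.inl rfl
  have hq_j : InQ ν i j j := Or.inr (Or.inl rfl)
  refine ⟨wvC_ne_zero C hij hij' hu, fun k l => ?_⟩
  change PW C (C.w i j u) (sig ν i j) (wvecC ν ε i j u) k l
  by_cases hk : InQ ν i j k
  · by_cases hl : InQ ν i j l
    · exact PW_of_H2 h2 hφ hij hij' (C.w_mem_G2 hq_i hq_j u) (repC_w_ev hφ hij hij' hu) hcomp
        hk hl (inQ_sig (C := C) hij hij' hk) (inQ_sig (C := C) hij hij' hl)
    · have hT := tri_of_not_inQ (C := C) hij hij' hl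
      have hT' := tri_of_not_inQ (C := C) hij hij' (not_inQ_nu (C := C) hl)
      rcases hk with rfl | rfl | rfl | rfl
      · exact C.PWs_il hT hu
      · exact C.PWs_jl hT hu
      · apply PW.flip hcomp
        rw [C.nu_nu]
        exact C.PWs_li hT' hu
      · apply PW.flip hcomp
        rw [C.nu_nu]
        exact C.PWs_lj hT' hu
  · have hT := tri_of_not_inQ (C := C) hij hij' hk
    have hT' := tri_of_not_inQ (C := C) hij hij' (not_inQ_nu (C := C) hk)
    by_cases hl : InQ ν i j l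
    · rcases hl with rfl | rfl | rfl | rfl
      · exact C.PWs_li hT hu
      · exact C.PWs_lj hT hu
      · apply PW.flip hcomp
        rw [C.nu_nu]
        exact C.PWs_il hT' hu
      · apply PW.flip hcomp
        rw [C.nu_nu]
        exact C.PWs_jl hT' hu
    · exact C.PWs_kl u (fun h => hk (Or.inl h)) (fun h => hk (Or.inr (Or.inl h)))
        (fun h => hk (Or.inr (Or.inr (Or.inl h)))) (fun h => hk (Or.inr (Or.inr (Or.inr h))))
        (fun h => hl (Or.inl h)) (fun h => hl (Or.inr (Or.inl h)))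
        (fun h => hl (Or.inr (Or.inr (Or.inl h)))) (fun h => hl (Or.inr (Or.inr (Or.inr h))))

/-- the Weyl elements of the long roots act monomially -/
theorem rawMon_wL (hc2 : ∀ a : J, ∃ b, b ≠ a ∧ b ≠ ν a) (i : J) {u : K} (hu : u ≠ 0) :
    RawMon C.y (C.w i (ν i) u) (sigL ν i) (wvecL ν i u) := by
  have hcomp := compat_wL C i hu
  refine ⟨wvL_ne_zero i hu, fun k l => ?_⟩
  change PW C (C.w i (ν i) u) (sigL ν i) (wvecL ν i u) k l
  by_cases hk : k = i ∨ k = ν i
  · -- choose the second pair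
    obtain ⟨b, hb1, hb2, hl⟩ : ∃ b, b ≠ i ∧ b ≠ ν i ∧ InQ ν i b l := by
      by_cases hl : l = i ∨ l = ν i
      · obtain ⟨b, hb1, hb2⟩ := hc2 i
        exact ⟨b, hb1, hb2, hl.elim (fun h => Or.inl h) (fun h => Or.inr (Or.inr (Or.inl h)))⟩
      · simp only [not_or] at hl
        exact ⟨l, hl.1, hl.2, Or.inr (Or.inl rfl)⟩
    have hib : i ≠ b := hb1.symm
    have hib' : i ≠ ν b := C.ne_nu_symm hb2
    have hk' : InQ ν i b k := hk.elim (fun h => Or.inl h) (fun h => Or.inr (Or.inr (Or.inl h)))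
    exact PW_of_H2 h2 hφ hib hib'
      (C.w_mem_G2 (Or.inl rfl) (Or.inr (Or.inr (Or.inl rfl))) u) (repC_wL_ev hφ i hu) hcomp
      hk' hl (inQ_sigL (C := C) hk') (inQ_sigL (C := C) hl)
  · simp only [not_or] at hk
    by_cases hl : l = i ∨ l = ν i
    · have hib : i ≠ k := Ne.symm hk.1
      have hib' : i ≠ ν k := C.ne_nu_symm hk.2
      have hl' : InQ ν i k l := hl.elim (fun h => Or.inl h) (fun h => Or.inr (Or.inr (Or.inl h)))
      have hk' : InQ ν i k k := Or.inr (Or.inl rfl)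
      exact PW_of_H2 h2 hφ hib hib'
        (C.w_mem_G2 (Or.inl rfl) (Or.inr (Or.inr (Or.inl rfl))) u) (repC_wL_ev hφ i hu) hcomp
        hk' hl' (inQ_sigL (C := C) hk') (inQ_sigL (C := C) hl')
    · simp only [not_or] at hl
      exact C.PWL_kl u hk.1 hk.2 hl.1 hl.2

end main

end Cfsg.Agent.Lib.Helper2.CN
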