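import Cfsg.Agent.Lib.Helper2.CN6

/-!
# Type `C`: the unipotent subgroup and the simple reflections
-/

set_option linter.unusedSectionVars false
set_option linter.unusedVariables false

namespace Cfsg.Agent.Lib.Helper2.CN

open Cfsg.Agent.Lib.Helper5.Stb Cfsg.Agent.Lib.Helper3.AN Cfsg.Agent.Lib.Helper3.DN Matrix

section gen
variable {J K G : Type*} [Field K] [Group G] {ν : J → J} {ε : J → K} (C : CData J K G ν ε)

namespace CData

/-- `y_B3` solved for the conjugate of the short root element -/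
theorem cj_B3' {k l : J} (hkl : k ≠ l) (hkl' : k ≠ ν l) (t u : K) :
    MulAut.conj (C.y l (ν l) u) (C.y k l t) =
      (C.y k (ν l) (t * u) * C.y k (ν k) (ε k * ε l * t ^ 2 * u))⁻¹ * C.y k l t := by
  rw [MulAut.conj_apply, ← C.y_B3 k l t u hkl hkl']; group

/-- `y_B2` solved for the conjugate of the first root element -/
theorem cj_B2' {k l : J} (hkl : k ≠ l) (hkl' : k ≠ ν l) (t u : K) :
    MulAut.conj (C.y l (ν k) u) (C.y k l t) = (C.y k (ν k) (2 * t * u))⁻¹ * C.y k l t := by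
  rw [MulAut.conj_apply, ← C.y_B2 k l t u hkl hkl']; group

end CData

end gen

/-- the simple roots of type `C_n` on `Fin (n + n)` (one representative in each class) -/
def IsSimpC {n : ℕ} (a b : Fin (n + n)) : Prop := a.val + 1 = b.val ∧ b.val ≤ n

theorem simpC_lt {n : ℕ} {a b : Fin (n + n)} (hs : IsSimpC a b) : a < b := by
  rw [Fin.lt_def]; have := hs.1; omega

theorem simpC_cases {n : ℕ} {a b : Fin (n + n)} (hs : IsSimpC a b) :
    IsSimp a b ∨ b = Fin.rev a := by
  by_cases hb : b.val < n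
  · exact Or.inl (Or.inl ⟨hs.1, hb⟩)
  · right
    apply Fin.ext
    rw [Fin.val_rev]
    have := hs.1; have := hs.2; have := a.isLt
    omega

variable {n : ℕ} {K G : Type*} [Field K] [Group G] {ε : Fin (n + n) → K}
  (C : CData (Fin (n + n)) K G Fin.rev ε)

namespace CData

/-- the subgroup generated by the positive root elements -/
def Upos : Subgroup G := Subgroup.closure {g | ∃ k l t, k < l ∧ g = C.y k l t}

/-- the subgroup generated by the positive root elements outside the class of `(a, b)` -/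
def Ua (a b : Fin (n + n)) : Subgroup G :=
  Subgroup.closure {g | ∃ k l t, k < l ∧ ¬ (k = a ∧ l = b) ∧
    ¬ (k = Fin.rev b ∧ l = Fin.rev a) ∧ g = C.y k l t}

theorem y_mem_Ua {a b k l : Fin (n + n)} (hkl : k < l) (h1 : ¬ (k = a ∧ l = b))
    (h2 : ¬ (k = Fin.rev b ∧ l = Fin.rev a)) (t : K) : C.y k l t ∈ C.Ua a b :=
  Subgroup.subset_closure ⟨k, l, t, hkl, h1, h2, rfl⟩

theorem y_mem_Upos {k l : Fin (n + n)} (hkl : k < l) (t : K) : C.y k l t ∈ C.Upos :=
  Subgroup.subset_closure ⟨k, l, t, hkl, rfl⟩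

theorem Ua_le_Upos (a b : Fin (n + n)) : C.Ua a b ≤ C.Upos := by
  unfold Ua Upos
  apply Subgroup.closure_mono
  rintro g ⟨k, l, t, hkl, -, -, rfl⟩
  exact ⟨k, l, t, hkl, rfl⟩

omit [Field K] [Group G] in
theorem lt_rev_of_lt {a b : Fin (n + n)} (hab : a < b) (hb : b < Fin.rev b) : a < Fin.rev a := by
  rw [Fin.lt_def] at *
  rw [Fin.val_rev] at *
  omega

theorem Ua_conj_core {a b k l : Fin (n + n)} (hab : a < b) (hab' : b ≠ Fin.rev a) (hkl : k < l)
    (hkl' : l ≠ Fin.rev k) (h1 : ¬ (k = a ∧ l = b)) (h2 : ¬ (k = Fin.rev b ∧ l = Fin.rev a))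
    (h3 : a ≠ Fin.rev k) (h4 : b ≠ Fin.rev l) (t s : K) :
    MulAut.conj (C.y a b t) (C.y k l s) ∈ C.Ua a b := by
  have hab'' : a ≠ Fin.rev b := C.ne_nu_symm hab'
  by_cases hbk : b = k
  · subst hbk
    by_cases hal : a = Fin.rev l
    · have hl : l = Fin.rev a := by rw [hal, Fin.rev_rev]
      subst hl
      rw [C.cj_B2 (ne_of_lt hab) hab'' t s]
      refine mul_mem (C.y_mem_Ua (lt_trans hab hkl) (fun h => ?_) (fun h => ?_) _)
        (C.y_mem_Ua hkl h1 h2 s)
      · exact hab' h.2.symm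
      · exact hab'' h.1
    · have hT : Tri Fin.rev a b l :=
        ⟨ne_of_lt hab, ne_of_lt (lt_trans hab hkl), ne_of_lt hkl, hab'', hal, h4⟩
      rw [C.cj_rel hT]
      refine mul_mem (C.y_mem_Ua (lt_trans hab hkl) (fun h => ?_) (fun h => ?_) _)
        (C.y_mem_Ua hkl h1 h2 _)
      · exact absurd h.2 (ne_of_gt hkl)
      · exact hab'' h.1
  by_cases hla : l = a
  · subst hla
    by_cases hkb : k = Fin.rev b
    · have hb : b = Fin.rev k := by rw [hkb, Fin.rev_rev]
      subst hb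
      rw [C.cj_B2' (ne_of_lt hkl) (fun h => (ne_of_lt hab) (by rw [h, Fin.rev_rev])) s t]
      refine mul_mem (inv_mem (C.y_mem_Ua (lt_trans hkl hab) (fun h => ?_) (fun h => ?_) _))
        (C.y_mem_Ua hkl h1 h2 s)
      · exact absurd h.1 (ne_of_lt hkl)
      · exact (ne_of_lt hkl) (Fin.rev_injective h.2)
    · have hT : Tri Fin.rev k l b :=
        ⟨ne_of_lt hkl, ne_of_lt (lt_trans hkl hab), ne_of_lt hab, C.ne_nu_symm hkl', hkb, hab''⟩
      rw [C.cj_rel' hT]
      refine mul_mem (C.y_mem_Ua (lt_trans hkl hab) (fun h => ?_) (fun h => ?_) _)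
        (C.y_mem_Ua hkl h1 h2 _)
      · exact absurd h.1 (ne_of_lt hkl)
      · exact hkb h.1
  · rw [C.cj_comm t s hbk (Ne.symm hla) h3 h4]
    exact C.y_mem_Ua hkl h1 h2 s

/-- conjugation by a short positive root element preserves `Ua` -/
theorem Ua_conj_y {a b k l : Fin (n + n)} (hab : a < b) (hab' : b ≠ Fin.rev a) (hkl : k < l)
    (h1 : ¬ (k = a ∧ l = b)) (h2 : ¬ (k = Fin.rev b ∧ l = Fin.rev a)) (t s : K) :
    MulAut.conj (C.y a b t) (C.y k l s) ∈ C.Ua a b := by
  have hab'' : a ≠ Fin.rev b := C.ne_nu_symm hab'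
  by_cases hkl' : l = Fin.rev k
  · -- the long roots
    subst hkl'
    by_cases hbk : b = k
    · subst hbk
      rw [C.cj_B3 (ne_of_lt hab) hab'' t s]
      have hlt : a < Fin.rev a := lt_rev_of_lt hab hkl
      refine mul_mem (mul_mem (C.y_mem_Ua (lt_trans hab hkl) (fun h => ?_) (fun h => ?_) _)
        (C.y_mem_Ua hlt (fun h => ?_) (fun h => ?_) _)) (C.y_mem_Ua hkl h1 h2 s)
      · exact absurd h.2 (ne_of_gt hkl)
      · exact hab'' h.1
      · exact hab' h.2.symm
      · exact hab'' h.1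
    by_cases hak : Fin.rev k = a
    · have hk : k = Fin.rev a := by rw [← hak, Fin.rev_rev]
      subst hk
      rw [Fin.rev_rev] at hkl h1 h2 ⊢
      have e1 := C.y_flip a b t
      have e2 := C.cj_B3 (k := Fin.rev b) (l := Fin.rev a)
        (fun h => (ne_of_lt hab) (Fin.rev_injective h).symm)
        (by rw [Fin.rev_rev]; exact hab''.symm) (-(ε a * ε b) * t) s
      rw [Fin.rev_rev, Fin.rev_rev] at e2
      rw [e1, e2]
      have hlt1 : Fin.rev b < a := lt_trans (Fin.rev_lt_rev.2 hab) hkl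
      refine mul_mem (mul_mem (C.y_mem_Ua hlt1 (fun h => ?_) (fun h => ?_) _)
        (C.y_mem_Ua (lt_trans hlt1 hab) (fun h => ?_) (fun h => ?_) _)) (C.y_mem_Ua hkl h1 h2 s)
      · exact hab'' h.1.symm
      · exact C.ne_nu a h.2
      · exact hab'' h.1.symm
      · exact hab' h.2
    · rw [C.cj_comm t s hbk (fun h => hak h.symm) (fun h => hak h.symm) ?_]
      · exact C.y_mem_Ua hkl h1 h2 s
      · rw [Fin.rev_rev]; exact hbk
  by_cases h34 : a ≠ Fin.rev k ∧ b ≠ Fin.rev l
  · exact C.Ua_conj_core hab hab' hkl hkl' h1 h2 h34.1 h34.2 t s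
  · have h34' : a = Fin.rev k ∨ b = Fin.rev l := by
      by_contra hcon
      simp only [not_or] at hcon
      exact h34 hcon
    rw [C.y_flip k l s]
    apply C.Ua_conj_core hab hab' (Fin.rev_lt_rev.2 hkl)
    · rw [Fin.rev_rev]
      intro h
      exact hkl' h.symm
    · rintro ⟨e1, e2⟩
      apply h2
      refine ⟨?_, ?_⟩
      · rw [← e2, Fin.rev_rev]
      · rw [← e1, Fin.rev_rev]
    · rintro ⟨e1, e2⟩
      exact h1 ⟨Fin.rev_injective e2, Fin.rev_injective e1⟩
    · rw [Fin.rev_rev]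
      intro hal
      rcases h34' with h | h
      · apply hkl'
        rw [← hal, h]
      · apply hab'
        rw [h, hal]
    · rw [Fin.rev_rev]
      intro hbk
      rcases h34' with h | h
      · apply hab''
        rw [h, hbk]
      · apply hkl'
        rw [← hbk, h, Fin.rev_rev]

/-- conjugation by a long positive root element preserves `Ua` -/
theorem Ua_conj_yL {a k l : Fin (n + n)} (ha : a < Fin.rev a) (hkl : k < l)
    (h1 : ¬ (k = a ∧ l = Fin.rev a)) (t s : K) :
    MulAut.conj (C.y a (Fin.rev a) t) (C.y k l s) ∈ C.Ua a (Fin.rev a) := by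
  have h2 : ¬ (k = Fin.rev (Fin.rev a) ∧ l = Fin.rev a) := by rw [Fin.rev_rev]; exact h1
  have key : ∀ k' s', k' < a → MulAut.conj (C.y a (Fin.rev a) t) (C.y k' a s') ∈
      C.Ua a (Fin.rev a) := by
    intro k' s' hk'
    have hk'a : k' ≠ Fin.rev a := ne_of_lt (lt_trans hk' ha)
    have h2' : ∀ x y : Fin (n + n), ¬ (x = a ∧ y = Fin.rev a) →
        ¬ (x = Fin.rev (Fin.rev a) ∧ y = Fin.rev a) := by
      intro x y h; rw [Fin.rev_rev]; exact h
    rw [C.cj_B3' (ne_of_lt hk') hk'a s' t]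
    have hlt : k' < Fin.rev k' := by
      have := lt_trans hk' ha
      rw [Fin.lt_def] at *
      rw [Fin.val_rev] at *
      omega
    refine mul_mem (inv_mem (mul_mem (C.y_mem_Ua (lt_trans hk' ha) ?_ (h2' _ _ ?_) _)
      (C.y_mem_Ua hlt ?_ (h2' _ _ ?_) _))) (C.y_mem_Ua hk' ?_ (h2' _ _ ?_) _)
    all_goals first
      | (intro h; exact absurd h.1 (ne_of_lt hk'))
  by_cases hla : l = a
  · subst hla
    exact key k s hkl
  by_cases hka : k = Fin.rev a
  · subst hka
    rw [C.y_flip (Fin.rev a) l s, Fin.rev_rev]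
    apply key
    have := Fin.rev_lt_rev.2 hkl
    rwa [Fin.rev_rev] at this
  · rw [C.cj_comm t s (fun h => hka h.symm) (fun h => hla h.symm) ?_ ?_]
    · exact C.y_mem_Ua hkl h1 h2 s
    · intro h; apply hka; rw [h, Fin.rev_rev]
    · intro h; exact hla (Fin.rev_injective h).symm

end CData

end Cfsg.Agent.Lib.Helper2.CN
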