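import Cfsg.Agent.Lib.Helper2.CN7

/-!
# Type `C`: decomposition of the unipotent subgroup along a simple root
-/

set_option linter.unusedSectionVars false
set_option linter.unusedVariables false

namespace Cfsg.Agent.Lib.Helper2.CN

open Cfsg.Agent.Lib.Helper5.Stb Cfsg.Agent.Lib.Helper3.AN Cfsg.Agent.Lib.Helper3.DN Matrix

variable {n : ℕ} {K G : Type*} [Field K] [Group G] {ε : Fin (n + n) → K}
  (C : CData (Fin (n + n)) K G Fin.rev ε)

namespace CData

/-- conjugation by a positive root element preserves `Ua` -/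
theorem Ua_conj_y' {a b : Fin (n + n)} (hab : a < b) (t : K) {u : G}
    (hu : u ∈ C.Ua a b) : MulAut.conj (C.y a b t) u ∈ C.Ua a b := by
  unfold Ua at hu
  induction hu using Subgroup.closure_induction with
  | mem y hy =>
    obtain ⟨k, l, s, hkl, h1, h2, rfl⟩ := hy
    by_cases hab' : b = Fin.rev a
    · subst hab'
      exact C.Ua_conj_yL hab hkl h1 t s
    · exact C.Ua_conj_y hab hab' hkl h1 h2 t s
  | one => rw [map_one]; exact one_mem _
  | mul x y _ _ hx hy => rw [map_mul]; exact mul_mem hx hy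
  | inv x _ hx => rw [map_inv]; exact inv_mem hx

theorem Upos_decomp {a b : Fin (n + n)} (hab : a < b) {u : G}
    (hu : u ∈ C.Upos) : ∃ u' ∈ C.Ua a b, ∃ t, u = u' * C.y a b t := by
  have key : ∀ u' ∈ C.Ua a b, ∀ t k l s, k < l →
      ∃ u'' ∈ C.Ua a b, ∃ t', u' * C.y a b t * C.y k l s = u'' * C.y a b t' := by
    intro u' hu' t k l s hkl
    by_cases hne : k = a ∧ l = b
    · obtain ⟨rfl, rfl⟩ := hne
      exact ⟨u', hu', t + s, by rw [mul_assoc, ← C.y_add]⟩
    by_cases hne' : k = Fin.rev b ∧ l = Fin.rev a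
    · obtain ⟨rfl, rfl⟩ := hne'
      refine ⟨u', hu', t + (-(ε a * ε b) * s), ?_⟩
      rw [C.y_flip' a b s, mul_assoc, ← C.y_add]
    · refine ⟨u' * MulAut.conj (C.y a b t) (C.y k l s),
        mul_mem hu' (C.Ua_conj_y' hab t (C.y_mem_Ua hkl hne hne' s)), t, ?_⟩
      rw [MulAut.conj_apply]; group
  unfold Upos at hu
  induction hu using Subgroup.closure_induction_right with
  | one => exact ⟨1, one_mem _, 0, by rw [C.y_zero, mul_one]⟩
  | mul_right x hx y hy ih =>
    obtain ⟨u', hu', t, rfl⟩ := ih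
    obtain ⟨k, l, s, hkl, rfl⟩ := hy
    exact key u' hu' t k l s hkl
  | mul_inv_cancel x hx y hy ih =>
    obtain ⟨u', hu', t, rfl⟩ := ih
    obtain ⟨k, l, s, hkl, rfl⟩ := hy
    rw [← C.y_neg]
    exact key u' hu' t k l (-s) hkl

omit [Field K] [Group G] in
/-- the reflection in the long simple root preserves the order of the other positive roots -/
theorem swap_orderL {a k l : Fin (n + n)} (hs : IsSimpC a (Fin.rev a)) (hkl : k < l)
    (h1 : ¬ (k = a ∧ l = Fin.rev a)) :
    sigL Fin.rev a k < sigL Fin.rev a l ∧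
      ¬ (sigL Fin.rev a k = a ∧ sigL Fin.rev a l = Fin.rev a) := by
  have ha := a.isLt
  have hk := k.isLt
  have hl := l.isLt
  have ra := Fin.val_rev a
  have h1s := hs.1
  have h2s := hs.2
  rw [ra] at h1s h2s
  have e : ∀ x : Fin (n + n), (sigL Fin.rev a x).val =
      if x = a then (Fin.rev a).val else if x = Fin.rev a then a.val else x.val := by
    intro x
    unfold sigL
    split_ifs with h1 h2
    · rw [h1, Equiv.swap_apply_left]
    · rw [h2, Equiv.swap_apply_right]
    · rw [Equiv.swap_apply_of_ne_of_ne h1 h2]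
  rw [Fin.lt_def] at hkl ⊢
  simp only [Fin.ext_iff] at h1 ⊢
  rw [e k, e l]
  simp only [Fin.ext_iff, ra] at h1 ⊢
  split_ifs <;> omega

section h2
variable {φ : G →* Matrix (Fin (n + n)) (Fin (n + n)) K} (h2 : H2 C φ) (hφ : IsRepC C φ)
include h2 hφ

/-- conjugation by the Weyl element of a short simple root preserves `Ua` -/
theorem Ua_conj_w {a b : Fin (n + n)} (ha1 : a.val + 1 = b.val) (hb : b.val < n) {c : K}
    (hc0 : c ≠ 0) {u : G} (hu : u ∈ C.Ua a b) : MulAut.conj (C.w a b c) u ∈ C.Ua a b := by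
  have hs : IsSimp a b := Or.inl ⟨ha1, hb⟩
  have hab : a ≠ b := ne_of_lt (simp_lt hs)
  have hab' : a ≠ Fin.rev b := C.ne_nu_symm (simp_ne_rev hs)
  have hmon := rawMon_w h2 hφ hab hab' hc0
  have hcomp := compat_w C hab hab' hc0
  unfold Ua at hu
  induction hu using Subgroup.closure_induction with
  | mem y hy =>
    obtain ⟨k, l, s, hkl, h1, h2', rfl⟩ := hy
    rw [hmon.2]
    by_cases hkl' : l = Fin.rev k
    · subst hkl'
      -- a long root: the reflection permutes the indices `< n`
      rw [hcomp.nu k]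
      have hk : k.val < n := by
        rw [Fin.lt_def, Fin.val_rev] at hkl
        omega
      have hsk : (sig Fin.rev a b k).val < n := by
        rw [sig_val C.toD hab hab' k]
        have ra := Fin.val_rev a
        have rb := Fin.val_rev b
        have := a.isLt
        split_ifs with e1 e2 e3 e4
        · exact hb
        · omega
        · rw [e3, ra] at hk; omega
        · rw [e4, rb] at hk; omega
        · exact hk
      have hlt : sig Fin.rev a b k < Fin.rev (sig Fin.rev a b k) := by
        rw [Fin.lt_def, Fin.val_rev]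
        have := (sig Fin.rev a b k).isLt
        omega
      refine C.y_mem_Ua hlt (fun h => ?_) (fun h => ?_) _
      · apply hab'
        rw [← h.2, Fin.rev_rev, h.1]
      · exact hab' ((Fin.rev_injective h.2).symm.trans h.1)
    · obtain ⟨e1, e2, e3⟩ := swap_orderD C.toD hs hkl hkl' h1 h2'
      exact C.y_mem_Ua e1 e2 e3 _
  | one => rw [map_one]; exact one_mem _
  | mul x y _ _ hx hy => rw [map_mul]; exact mul_mem hx hy
  | inv x _ hx => rw [map_inv]; exact inv_mem hx

/-- conjugation by the Weyl element of the long simple root preserves `Ua` -/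
theorem Ua_conj_wL (hc2 : ∀ a : Fin (n + n), ∃ b, b ≠ a ∧ b ≠ Fin.rev a) {a : Fin (n + n)}
    (hs : IsSimpC a (Fin.rev a)) {c : K} (hc0 : c ≠ 0) {u : G}
    (hu : u ∈ C.Ua a (Fin.rev a)) : MulAut.conj (C.w a (Fin.rev a) c) u ∈ C.Ua a (Fin.rev a) := by
  have hmon := rawMon_wL h2 hφ hc2 a hc0
  unfold Ua at hu
  induction hu using Subgroup.closure_induction with
  | mem y hy =>
    obtain ⟨k, l, s, hkl, h1, -, rfl⟩ := hy
    rw [hmon.2]
    obtain ⟨e1, e2⟩ := swap_orderL hs hkl h1
    refine C.y_mem_Ua e1 e2 ?_ _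
    rw [Fin.rev_rev]
    exact e2
  | one => rw [map_one]; exact one_mem _
  | mul x y _ _ hx hy => rw [map_mul]; exact mul_mem hx hy
  | inv x _ hx => rw [map_inv]; exact inv_mem hx

end h2

end CData

end Cfsg.Agent.Lib.Helper2.CN
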