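import Cfsg.Agent.Lib.Helper2.CN8
import Cfsg.Agent.Lib.Helper3.DN4

/-!
# Type `C`: the Bruhat decomposition
-/

set_option linter.unusedSectionVars false
set_option linter.unusedVariables false

namespace Cfsg.Agent.Lib.Helper2.CN

open Cfsg.Agent.Lib.Helper5.Stb Cfsg.Agent.Lib.Helper3.AN Cfsg.Agent.Lib.Helper3.DN Matrix

section rank2
variable {J K G : Type*} [Field K] [Group G] [Fintype J] [DecidableEq J] {ν : J → J} {ε : J → K}
  {C : CData J K G ν ε} {φ : G →* Matrix J J K}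

/-- two elements of a rank two subgroup with the same monomial matrix are equal -/
theorem H2.eq_of_repMon (h2 : H2 C φ) {a b : J} (hab : a ≠ b) (hab' : a ≠ ν b) {g g' : G}
    (hg : g ∈ C.G2 a b) (hg' : g' ∈ C.G2 a b) {σ σ' : Equiv.Perm J} {v v' : J → K}
    (hr : RepMon φ g σ v) (hr' : RepMon φ g' σ' v') (hσ : σ = σ') (hv : ∀ k, v k = v' k) :
    g = g' := by
  apply h2.eq hab hab' hg hg'
  apply mat_eq_of_ev
  intro l
  rw [hr, hr', hσ, hv]

variable (h2 : H2 C φ) (hφ : IsRepC C φ) (hc2 : ∀ a : J, ∃ b, b ≠ a ∧ b ≠ ν a)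
include h2 hφ hc2

/-- the Weyl elements of a long root and of its opposite -/
theorem w_swapL (i : J) {u : K} (hu : u ≠ 0) : C.w (ν i) i u = C.w i (ν i) (-u⁻¹) := by
  obtain ⟨b, hb1, hb2⟩ := hc2 i
  have hib : i ≠ b := hb1.symm
  have hib' : i ≠ ν b := C.ne_nu_symm hb2
  have hq1 : InQ ν i b i := Or.inl rfl
  have hq2 : InQ ν i b (ν i) := Or.inr (Or.inr (Or.inl rfl))
  have hr1 := repC_wL_ev hφ (ν i) hu
  rw [C.nu_nu] at hr1
  have hr2 := repC_wL_ev hφ i (neg_ne_zero.mpr (inv_ne_zero hu))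
  refine h2.eq_of_repMon hib hib' (C.w_mem_G2 hq2 hq1 u) (C.w_mem_G2 hq1 hq2 _) hr1 hr2 ?_ ?_
  · unfold sigL
    rw [C.nu_nu, Equiv.swap_comm]
  · intro k
    unfold wvecL
    rw [C.nu_nu]
    by_cases h1 : k = i
    · subst h1
      simp [C.ne_nu k]
    by_cases h3 : k = ν i
    · subst h3
      simp [C.nu_ne i]
    simp [h1, h3]

theorem y_eq_ywyL (i : J) {d : K} (hd : d ≠ 0) :
    C.y (ν i) i d = C.y i (ν i) d⁻¹ * C.w (ν i) i d * C.y i (ν i) d⁻¹ := by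
  rw [w_swapL h2 hφ hc2 i hd]
  unfold CData.w
  have e1 : - (-d⁻¹)⁻¹ = d := by rw [inv_neg, inv_inv, neg_neg]
  rw [e1, C.y_neg]
  group

end rank2

variable {n : ℕ} {K G : Type*} [Field K] [Group G] {ε : Fin (n + n) → K}
  (C : CData (Fin (n + n)) K G Fin.rev ε)

namespace CData

/-- the monomial subgroup -/
def Nw : Subgroup G :=
  Subgroup.closure {g | ∃ i j u, i ≠ j ∧ u ≠ 0 ∧ g = C.w i j u}

theorem w_mem_Nw {i j : Fin (n + n)} (hij : i ≠ j) {u : K} (hu : u ≠ 0) :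
    C.w i j u ∈ C.Nw := Subgroup.subset_closure ⟨i, j, u, hij, hu, rfl⟩

/-- the big union of Bruhat cells -/
def Om : Set G := {g | ∃ u₁ ∈ C.Upos, ∃ m ∈ C.Nw, ∃ u₂ ∈ C.Upos, g = u₁ * m * u₂}

theorem Om_mul_left {u g : G} (hu : u ∈ C.Upos) (hg : g ∈ C.Om) : u * g ∈ C.Om := by
  obtain ⟨u₁, hu₁, m, hm, u₂, hu₂, rfl⟩ := hg
  exact ⟨u * u₁, mul_mem hu hu₁, m, hm, u₂, hu₂, by group⟩

theorem Om_mul_right {u g : G} (hu : u ∈ C.Upos) (hg : g ∈ C.Om) : g * u ∈ C.Om := by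
  obtain ⟨u₁, hu₁, m, hm, u₂, hu₂, rfl⟩ := hg
  exact ⟨u₁, hu₁, m, hm, u₂ * u, mul_mem hu₂ hu, by group⟩

theorem mem_Om_of_Nw {m : G} (hm : m ∈ C.Nw) : m ∈ C.Om :=
  ⟨1, one_mem _, m, hm, 1, one_mem _, by group⟩

/-- the stabiliser of `Om` under left multiplication -/
def Stab : Subgroup G where
  carrier := {g | ∀ y ∈ C.Om, g * y ∈ C.Om ∧ g⁻¹ * y ∈ C.Om}
  mul_mem' := by
    intro a b ha hb y hy
    refine ⟨?_, ?_⟩
    · rw [mul_assoc]; exact (ha _ (hb y hy).1).1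
    · rw [_root_.mul_inv_rev, mul_assoc]; exact (hb _ (ha y hy).2).2
  one_mem' := by
    intro y hy
    simpa using hy
  inv_mem' := by
    intro a ha y hy
    refine ⟨(ha y hy).2, ?_⟩
    rw [inv_inv]; exact (ha y hy).1

theorem Upos_le_Stab : C.Upos ≤ C.Stab := by
  intro u hu y hy
  exact ⟨C.Om_mul_left hu hy, C.Om_mul_left (inv_mem hu) hy⟩

section
variable {φ : G →* Matrix (Fin (n + n)) (Fin (n + n)) K} (h2 : H2 C φ) (hφ : IsRepC C φ)
  (hc2 : ∀ a : Fin (n + n), ∃ b, b ≠ a ∧ b ≠ Fin.rev a)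
include h2 hφ hc2

theorem Nw_rawMon {g : G} (hg : g ∈ C.Nw) : ∃ π v, RawMon C.y g π v := by
  unfold Nw at hg
  induction hg using Subgroup.closure_induction with
  | mem y hy =>
    obtain ⟨i, j, u, hij, hu, rfl⟩ := hy
    by_cases hij' : j = Fin.rev i
    · subst hij'
      exact ⟨_, _, rawMon_wL h2 hφ hc2 i hu⟩
    · exact ⟨_, _, rawMon_w h2 hφ hij (C.ne_nu_symm hij') hu⟩
  | one => exact ⟨_, _, RawMon.one _⟩
  | mul a b _ _ ha hb =>
    obtain ⟨π, v, h1⟩ := ha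
    obtain ⟨π', v', h2⟩ := hb
    exact ⟨_, _, h1.mul h2⟩
  | inv a _ ha =>
    obtain ⟨π, v, h1⟩ := ha
    exact ⟨_, _, h1.inv⟩

/-- the key step of the Bruhat decomposition, for a root `(a, b)` whose Weyl element acts
monomially, interchanging `a` and `b` -/
theorem core_gen {a b : Fin (n + n)} (hab : a < b) {c : K} (hc0 : c ≠ 0) (t : K) {m : G}
    (hm : m ∈ C.Nw) {σ : Equiv.Perm (Fin (n + n))} {wv : Fin (n + n) → K}
    (hsmon : RawMon C.y (C.w a b c) σ wv) (hσa : σ a = b) (hσb : σ b = a)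
    (hywy : ∀ d : K, d ≠ 0 → C.y b a d = C.y a b d⁻¹ * C.w b a d * C.y a b d⁻¹) :
    C.w a b c * C.y a b t * m ∈ C.Om := by
  have habne : a ≠ b := ne_of_lt hab
  obtain ⟨π, v, hmon⟩ := C.Nw_rawMon h2 hφ hc2 hm
  have hs : C.w a b c ∈ C.Nw := C.w_mem_Nw habne hc0
  set k := π⁻¹ a with hk
  set l := π⁻¹ b with hl
  have hπk : π k = a := by simp [hk]
  have hπl : π l = b := by simp [hl]
  have hkl : k ≠ l := by
    intro h; apply habne; rw [← hπk, ← hπl, h]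
  rcases lt_or_gt_of_ne hkl with hlt | hgt
  · obtain ⟨t', ht'⟩ := hmon.move k l t
    rw [hπk, hπl] at ht'
    rw [mul_assoc, ht', ← mul_assoc]
    exact C.Om_mul_right (C.y_mem_Upos hlt t') (C.mem_Om_of_Nw (mul_mem hs hm))
  · by_cases ht : t = 0
    · subst ht
      rw [C.y_zero, mul_one]
      exact C.mem_Om_of_Nw (mul_mem hs hm)
    have e1 := hsmon.2 a b t
    rw [hσa, hσb, MulAut.conj_apply] at e1
    set b' := wv a * t * (wv b)⁻¹ with hb'
    have hb'0 : b' ≠ 0 := mul_ne_zero (mul_ne_zero (hsmon.1 a) ht) (inv_ne_zero (hsmon.1 b))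
    have e2 : C.w a b c * C.y a b t = C.y b a b' * C.w a b c := by
      rw [← e1]; group
    have e3 := hywy b' hb'0
    have hmon₁ := hsmon.mul hmon
    obtain ⟨t₁, ht₁⟩ := hmon₁.move l k b'⁻¹
    rw [Equiv.Perm.mul_apply, Equiv.Perm.mul_apply, hπk, hπl, hσa, hσb] at ht₁
    have e4 : C.w a b c * C.y a b t * m =
        C.y a b b'⁻¹ * (C.w b a b' * (C.w a b c * m)) * C.y l k t₁ := by
      rw [e2, e3]
      calc C.y a b b'⁻¹ * C.w b a b' * C.y a b b'⁻¹ * C.w a b c * m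
          = C.y a b b'⁻¹ * C.w b a b' * (C.y a b b'⁻¹ * (C.w a b c * m)) := by group
        _ = _ := by rw [ht₁]; group
    rw [e4]
    exact ⟨_, C.y_mem_Upos hab _, _,
      mul_mem (C.w_mem_Nw habne.symm hb'0) (mul_mem hs hm), _, C.y_mem_Upos hgt _, rfl⟩

variable (hc : ∀ a b : Fin (n + n), ∃ c, c ≠ a ∧ c ≠ b ∧ c ≠ Fin.rev a ∧ c ≠ Fin.rev b)
include hc

theorem Om_w_mul {a b : Fin (n + n)} (hs : IsSimpC a b) {c : K} (hc0 : c ≠ 0) {g : G}
    (hg : g ∈ C.Om) : C.w a b c * g ∈ C.Om := by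
  have hlt : a < b := simpC_lt hs
  obtain ⟨u₁, hu₁, m, hm, u₂, hu₂, rfl⟩ := hg
  obtain ⟨u', hu', t, rfl⟩ := C.Upos_decomp hlt hu₁
  have e : C.w a b c * (u' * C.y a b t * m * u₂) =
      MulAut.conj (C.w a b c) u' * (C.w a b c * C.y a b t * m) * u₂ := by
    rw [MulAut.conj_apply]; group
  rw [e]
  by_cases hb : b.val < n
  · -- the short simple roots
    have hsD : IsSimp a b := Or.inl ⟨hs.1, hb⟩
    have habne : a ≠ b := ne_of_lt hlt
    have hab' : b ≠ Fin.rev a := simp_ne_rev hsD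
    have hab'' : a ≠ Fin.rev b := C.ne_nu_symm hab'
    have h1 := C.Ua_conj_w h2 hφ hs.1 hb hc0 hu'
    obtain ⟨c', hc1, hc2', hc3, hc4⟩ := hc a b
    have hT : Tri Fin.rev b a c' :=
      ⟨habne.symm, hc2'.symm, hc1.symm, hab', C.ne_nu_symm hc4, C.ne_nu_symm hc3⟩
    refine C.Om_mul_right hu₂ (C.Om_mul_left (C.Ua_le_Upos a b h1)
      (C.core_gen h2 hφ hc2 hlt hc0 t hm (rawMon_w h2 hφ habne hab'' hc0)
        (sig_i C.toD habne hab'') (sig_j C.toD habne hab'') (fun d hd => C.y_eq_ywy hT hd)))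
  · -- the long simple root
    have hb' : b = Fin.rev a := by
      rcases simpC_cases hs with h | h
      · exfalso
        rcases h with h | h
        · exact hb h.2
        · have := hs.1; have := h.1; omega
      · exact h
    subst hb'
    have h1 := C.Ua_conj_wL h2 hφ hc2 hs hc0 hu'
    refine C.Om_mul_right hu₂ (C.Om_mul_left (C.Ua_le_Upos _ _ h1)
      (C.core_gen h2 hφ hc2 hlt hc0 t hm (rawMon_wL h2 hφ hc2 a hc0)
        (sigL_i C a) (sigL_ni C a) (fun d hd => y_eq_ywyL h2 hφ hc2 a hd)))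

theorem w_mem_Stab {a b : Fin (n + n)} (hs : IsSimpC a b) {c : K} (hc0 : c ≠ 0) :
    C.w a b c ∈ C.Stab := by
  intro y hy
  refine ⟨C.Om_w_mul h2 hφ hc2 hc hs hc0 hy, ?_⟩
  rw [C.w_inv]
  exact C.Om_w_mul h2 hφ hc2 hc hs (neg_ne_zero.mpr hc0) hy

/-- a root element which is conjugate under a simple Weyl element to an element of `Stab` -/
theorem mem_Stab_of_move {a b : Fin (n + n)} (hs : IsSimpC a b) {σ : Equiv.Perm (Fin (n + n))}
    {wv : Fin (n + n) → K} (hsmon : RawMon C.y (C.w a b 1) σ wv) {k l : Fin (n + n)}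
    (h : ∀ s, C.y k l s ∈ C.Stab) (t : K) : C.y (σ k) (σ l) t ∈ C.Stab := by
  obtain ⟨t', ht'⟩ := hsmon.move k l t
  have hw := C.w_mem_Stab h2 hφ hc2 hc hs (one_ne_zero (α := K))
  have e : C.y (σ k) (σ l) t = C.w a b 1 * C.y k l t' * (C.w a b 1)⁻¹ := by
    rw [← ht']; group
  rw [e]
  exact mul_mem (mul_mem hw (h t')) (inv_mem hw)

theorem neg_simple_mem_Stab {a b : Fin (n + n)} (hs : IsSimpC a b) (t : K) :
    C.y b a t ∈ C.Stab := by
  have hlt : a < b := simpC_lt hs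
  have habne : a ≠ b := ne_of_lt hlt
  have hpos : ∀ s, C.y a b s ∈ C.Stab := fun s => C.Upos_le_Stab (C.y_mem_Upos hlt s)
  by_cases hb : b.val < n
  · have hsD : IsSimp a b := Or.inl ⟨hs.1, hb⟩
    have hab'' : a ≠ Fin.rev b := C.ne_nu_symm (simp_ne_rev hsD)
    have := C.mem_Stab_of_move h2 hφ hc2 hc hs
      (rawMon_w h2 hφ habne hab'' (one_ne_zero (α := K))) hpos t
    rwa [sig_i C.toD habne hab'', sig_j C.toD habne hab''] at this
  · have hb' : b = Fin.rev a := by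
      rcases simpC_cases hs with h | h
      · exfalso
        rcases h with h | h
        · exact hb h.2
        · have := hs.1; have := h.1; omega
      · exact h
    subst hb'
    have := C.mem_Stab_of_move h2 hφ hc2 hc hs
      (rawMon_wL h2 hφ hc2 a (one_ne_zero (α := K))) hpos t
    rwa [sigL_i C a, sigL_ni C a] at this

end

end CData

end Cfsg.Agent.Lib.Helper2.CN
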