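import Cfsg.Agent.Lib.Helper2.SLM8
import Cfsg.Agent.Lib.Helper3.StS5
import Cfsg.Agent.Lib.Helper1.SLCard
import Cfsg.Agent.Lib.Helper1.SLn
import Cfsg.Agent.Lib.Helper2.ExcIso4
import Cfsg.Agent.S2117

/-!
# The Schur multiplier of `PSL_n(q)`
-/

set_option autoImplicit false
set_option linter.unusedSectionVars false
set_option linter.unusedVariables false
set_option linter.unusedSimpArgs false

namespace Cfsg.Agent.Lib.Helper2.SLM

open Matrix Cfsg.Agent.Lib.Helper3.StU
open scoped commutatorElement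

universe u

section glue
variable {Δ : Type u} [Group Δ]

/-- It suffices to split the finite perfect central extensions. -/
theorem exists_section_finite_of_perfect_case (hΔ : commutator Δ = ⊤)
    (H : ∀ (E' : Type u) [Group E'] [Finite E'] (ψ' : E' →* Δ), Function.Surjective ψ' →
      ψ'.ker ≤ Subgroup.center E' → commutator E' = ⊤ →
        ∃ s : Δ →* E', ψ'.comp s = MonoidHom.id Δ)
    {E : Type u} [Group E] [Finite E] (ψ : E →* Δ) (hs : Function.Surjective ψ)
    (hc : ψ.ker ≤ Subgroup.center E) :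
    ∃ s : Δ →* E, ψ.comp s = MonoidHom.id Δ := by
  have hmap : (commutator E).map ψ = ⊤ := by
    rw [commutator_def, Subgroup.map_commutator, Subgroup.map_top_of_surjective ψ hs,
      ← commutator_def, hΔ]
  have hsurj0 : ∀ d : Δ, ∃ e ∈ commutator E, ψ e = d := by
    intro d
    have : d ∈ (commutator E).map ψ := by rw [hmap]; exact Subgroup.mem_top d
    exact this
  obtain ⟨s₀, hs₀⟩ := H ↥(commutator E) (ψ.comp (commutator E).subtype)
    (by
      intro d
      obtain ⟨e, he, rfl⟩ := hsurj0 d
      exact ⟨⟨e, he⟩, rfl⟩)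
    (by
      intro x hx
      have : (x : E) ∈ Subgroup.center E := hc (by
        rw [MonoidHom.mem_ker] at hx ⊢
        exact hx)
      rw [Subgroup.mem_center_iff] at this ⊢
      intro g
      apply Subtype.ext
      exact this g)
    (by
      have h1 : commutator E ≤ ⁅commutator E, commutator E⁆ := by
        rw [commutator_eq_closure, Subgroup.closure_le]
        rintro _ ⟨a, b, rfl⟩
        obtain ⟨a₀, ha₀, ea⟩ := hsurj0 (ψ a)
        obtain ⟨b₀, hb₀, eb⟩ := hsurj0 (ψ b)
        rw [comm_congr ψ hc ea.symm eb.symm]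
        rw [← commutator_eq_closure]
        exact Subgroup.commutator_mem_commutator ha₀ hb₀
      have h2 := Subgroup.map_subtype_commutator (commutator E)
      rw [eq_top_iff]
      intro x _
      have hx : (x : E) ∈ (commutator ↥(commutator E)).map (commutator E).subtype := by
        rw [h2]; exact h1 x.2
      obtain ⟨y, hy, hyx⟩ := hx
      have : y = x := Subtype.ext hyx
      rwa [this] at hy)
  refine ⟨(commutator E).subtype.comp s₀, ?_⟩
  rw [← MonoidHom.comp_assoc]
  exact hs₀

/-- finite central extensions of a perfect group with trivial Schur multiplier split -/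
theorem split_of_multiplier_one (hΔ : commutator Δ = ⊤)
    (hM : Cfsg.HasCyclicSchurMultiplier Δ 1)
    {E : Type u} [Group E] [Finite E] (ψ : E →* Δ) (hs : Function.Surjective ψ)
    (hc : ψ.ker ≤ Subgroup.center E) :
    ∃ s : Δ →* E, ψ.comp s = MonoidHom.id Δ := by
  refine exists_section_finite_of_perfect_case hΔ ?_ ψ hs hc
  intro E' _ _ ψ' hs' hc' hperf
  have hstem : Cfsg.IsStemExtension ψ' := ⟨hs', hc', by rw [hperf]; exact le_top⟩
  obtain ⟨ρ, hρ⟩ := hM.2 E' ψ' hstem
  have hsub : Subsingleton (Multiplicative (ZMod 1)) := by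
    change Subsingleton (Fin 1)
    infer_instance
  have hker : ψ'.ker = ⊥ := by
    rw [Subgroup.eq_bot_iff_forall]
    intro x hx
    obtain ⟨a, ha⟩ := hρ ⟨x, hx⟩
    have h1 : a = 1 := Subsingleton.elim _ _
    rw [h1, map_one] at ha
    exact (congrArg Subtype.val ha).symm
  have hinj : Function.Injective ψ' := (MonoidHom.ker_eq_bot_iff ψ').1 hker
  let e := MulEquiv.ofBijective ψ' ⟨hinj, hs'⟩
  refine ⟨e.symm.toMonoidHom, ?_⟩
  ext1 x
  exact e.apply_symm_apply x

/-- lifting through finite central extensions -/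
theorem exists_lift_finite [Finite Δ]
    (H : ∀ (E' : Type u) [Group E'] [Finite E'] (ψ' : E' →* Δ), Function.Surjective ψ' →
      ψ'.ker ≤ Subgroup.center E' → ∃ s : Δ →* E', ψ'.comp s = MonoidHom.id Δ)
    {G₁ : Type u} {E : Type u} [Group G₁] [Group E] [Finite E] (π₁ : E →* G₁)
    (hπ : Function.Surjective π₁) (hc : π₁.ker ≤ Subgroup.center E) (σ : Δ →* G₁) :
    ∃ τ : Δ →* E, π₁.comp τ = σ := by
  let P : Subgroup (Δ × E) :=
    { carrier := {x | σ x.1 = π₁ x.2}
      mul_mem' := by
        intro x y hx hy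
        simp only [Set.mem_ofPred_eq, Prod.fst_mul, Prod.snd_mul, map_mul] at hx hy ⊢
        rw [hx, hy]
      one_mem' := by simp
      inv_mem' := by
        intro x hx
        simp only [Set.mem_ofPred_eq, Prod.fst_inv, Prod.snd_inv, map_inv] at hx ⊢
        rw [hx] }
  obtain ⟨s, hs⟩ := H ↥P ((MonoidHom.fst Δ E).comp P.subtype)
    (by
      intro d
      obtain ⟨e, he⟩ := hπ (σ d)
      exact ⟨⟨(d, e), he.symm⟩, rfl⟩)
    (by
      intro x hx
      rw [MonoidHom.mem_ker] at hx
      have hx1 : (x : Δ × E).1 = 1 := hx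
      have hx2 : (x : Δ × E).2 ∈ Subgroup.center E := hc (by
        rw [MonoidHom.mem_ker]
        have := x.2
        simp only [P, Subgroup.mem_mk] at this
        rw [← this, hx1, map_one])
      rw [Subgroup.mem_center_iff] at hx2 ⊢
      intro g
      apply Subtype.ext
      apply Prod.ext
      · show (g : Δ × E).1 * (x : Δ × E).1 = (x : Δ × E).1 * (g : Δ × E).1
        rw [hx1, mul_one, one_mul]
      · exact hx2 _)
  have hs' : ∀ d, ((s d : Δ × E)).1 = d := fun d => DFunLike.congr_fun hs d
  refine ⟨(MonoidHom.snd Δ E).comp (P.subtype.comp s), ?_⟩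
  ext d
  have := (s d).2
  simp only [P, Subgroup.mem_mk] at this
  show π₁ ((s d : Δ × E)).2 = σ d
  rw [← this, hs']

end glue

section psl
variable {F : Type u} [Field F] [Fintype F]

/-- if `SL_n(F)` is perfect and its finite central extensions split, the Schur multiplier of
`PSL_n(F)` is cyclic of order `gcd(n, q - 1)` -/
theorem psl_multiplier_of_split (n : ℕ) (hn : 1 ≤ n)
    (hperf : commutator (SpecialLinearGroup (Fin n) F) = ⊤)
    (hsplit : ∀ (E : Type u) [Group E] [Finite E] (ψ : E →* SpecialLinearGroup (Fin n) F),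
      Function.Surjective ψ → ψ.ker ≤ Subgroup.center E →
        ∃ s : SpecialLinearGroup (Fin n) F →* E, ψ.comp s = MonoidHom.id _) :
    Cfsg.HasCyclicSchurMultiplier (Matrix.ProjectiveSpecialLinearGroup (Fin n) F)
      (Nat.gcd n (Fintype.card F - 1)) := by
  classical
  set θ : SpecialLinearGroup (Fin n) F →* Matrix.ProjectiveSpecialLinearGroup (Fin n) F :=
    QuotientGroup.mk' (Subgroup.center (SpecialLinearGroup (Fin n) F)) with hθ
  have hθk : θ.ker = Subgroup.center (SpecialLinearGroup (Fin n) F) := QuotientGroup.ker_mk' _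
  have hcyc0 : IsCyclic ↥(Subgroup.center (SpecialLinearGroup (Fin n) F)) := by
    let e := SpecialLinearGroup.center_equiv_rootsOfUnity (n := Fin n) (R := F)
    exact isCyclic_of_surjective e.symm.toMonoidHom e.symm.surjective
  have hcyc : IsCyclic ↥θ.ker := by rw [hθk]; exact hcyc0
  have hcard : Nat.card ↥θ.ker = Nat.gcd n (Fintype.card F - 1) := by
    rw [hθk]; exact Cfsg.Agent.Lib.Helper1.card_center_SL_field n hn
  refine Cfsg.Agent.Lib.Helper3.StS.hasCyclicSchurMultiplier_of_cover θ
    (QuotientGroup.mk'_surjective _) (by rw [hθk]) hperf _ hcyc hcard ?_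
  intro Γ _ _ σ hσ
  exact exists_lift_finite hsplit σ hσ.1 hσ.2.1 θ

/-- the Schur multiplier of `PSL_n(q)` -/
theorem psl_multiplier {q : ℕ} (hF : Fintype.card F = q) (n : ℕ) (hn : 2 ≤ n)
    (h2 : n = 2 → 4 ≤ q)
    (hexc : (n, q) ∉ ({(2, 4), (2, 9), (3, 2), (3, 4), (4, 2)} : Set (ℕ × ℕ))) :
    Cfsg.HasCyclicSchurMultiplier (Matrix.ProjectiveSpecialLinearGroup (Fin n) F)
      (Nat.gcd n (q - 1)) := by
  subst hF
  simp only [Set.mem_insert_iff, Set.mem_singleton_iff, Prod.mk.injEq, not_or, not_and] at hexc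
  obtain ⟨e24, e29, e32, e34, e42⟩ := hexc
  by_cases hn2 : n = 2
  · subst hn2
    have hperf : commutator (SpecialLinearGroup (Fin 2) F) = ⊤ :=
      Cfsg.Agent.Lib.Helper2.ExcIso.SL2_perfect_of_four_le (h2 rfl)
    have hM := Cfsg.Agent.S2117.result (F := F) (e24 rfl) (e29 rfl)
    exact psl_multiplier_of_split 2 (by norm_num) hperf
      (fun E _ _ ψ hs hc => split_of_multiplier_one hperf hM ψ hs hc)
  · have hn3 : 3 ≤ n := by omega
    have hperf : commutator (SpecialLinearGroup (Fin n) F) = ⊤ :=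
      Cfsg.Agent.Lib.Helper1.commutator_SL_eq_top n hn3
    exact psl_multiplier_of_split n (by omega) hperf
      (fun E _ _ ψ hs hc => sl_split n hn3 (fun h => ⟨e32 h, e34 h⟩) e42 ψ hs hc)

end psl

end Cfsg.Agent.Lib.Helper2.SLM
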