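import Cfsg.Agent.Lib.Helper2.CL6
import Cfsg.Agent.Lib.Helper1.CM3
import Cfsg.Agent.Lib.Lead.CM2
import Cfsg.Agent.Lib.Helper2.SLM9

/-!
# The symplectic groups: subgroups generated by root elements, and embedded symplectic groups
-/

set_option autoImplicit false
set_option linter.unusedSectionVars false
set_option linter.unusedVariables false

namespace Cfsg.Agent.Lib.Helper2.CS

open Cfsg.Agent.Lib.Helper2.CN Cfsg.Agent.Lib.Helper2.CM Cfsg.Agent.Lib.Helper2.CL
open Cfsg.Agent.Lib.Helper2.SLM Matrix

universe u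

section gs
variable {J K G : Type*} [Field K] [Group G] {ν : J → J} {ε : J → K}

/-- the subgroup generated by the root elements with indices satisfying `P` -/
def GS (D : CData J K G ν ε) (P : J → Prop) : Subgroup G :=
  Subgroup.closure {g | ∃ k l t, P k ∧ P l ∧ g = D.y k l t}

theorem G2_eq_GS (D : CData J K G ν ε) (a b : J) : D.G2 a b = GS D (InQ ν a b) := rfl

theorem GS_congr (D : CData J K G ν ε) {P Q : J → Prop} (h : ∀ x, P x ↔ Q x) :
    GS D P = GS D Q := by
  have : P = Q := funext fun x => propext (h x)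
  rw [this]

theorem GS_mono (D : CData J K G ν ε) {P Q : J → Prop} (h : ∀ x, P x → Q x) :
    GS D P ≤ GS D Q := by
  unfold GS
  apply Subgroup.closure_mono
  rintro g ⟨k, l, t, hk, hl, rfl⟩
  exact ⟨k, l, t, h k hk, h l hl, rfl⟩

theorem y_mem_GS (D : CData J K G ν ε) {P : J → Prop} {k l : J} (hk : P k) (hl : P l) (t : K) :
    D.y k l t ∈ GS D P := Subgroup.subset_closure ⟨k, l, t, hk, hl, rfl⟩

end gs

section emb
variable {K : Type u} [Field K] {r m : ℕ}

/-- the image of an embedded symplectic group is generated by root elements -/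
theorem range_emb (f : Fin r ↪ Fin m) :
    (emb (K := K) f).range = GS (spData m K) (fun x => x ∈ Set.range (Sum.map f f)) := by
  have hgen : Subgroup.closure {g : Matrix.symplecticGroup (Fin r) K |
      ∃ k l t, g = (spData r K).y k l t} = ⊤ := spData_gen
  rw [MonoidHom.range_eq_map, ← hgen, MonoidHom.map_closure]
  unfold GS
  congr 1
  ext g
  constructor
  · rintro ⟨x, ⟨k, l, t, rfl⟩, rfl⟩
    exact ⟨_, _, t, ⟨k, rfl⟩, ⟨l, rfl⟩, by rw [spData_y, spData_y, emb_spY]⟩
  · rintro ⟨_, _, t, ⟨k, rfl⟩, ⟨l, rfl⟩, rfl⟩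
    exact ⟨spY k l t, ⟨k, l, t, rfl⟩, by rw [spData_y, emb_spY]⟩

theorem commutator_eq_top_of_equiv {A B : Type*} [Group A] [Group B] (e : A ≃* B)
    (h : commutator A = ⊤) : commutator B = ⊤ := by
  have := Subgroup.map_commutator (⊤ : Subgroup A) ⊤ e.toMonoidHom
  rw [Subgroup.map_top_of_surjective e.toMonoidHom e.surjective, ← commutator_def,
    ← commutator_def, h, Subgroup.map_top_of_surjective e.toMonoidHom e.surjective] at this
  exact this.symm

/-- an embedded symplectic group is a good subgroup for every finite central extension, if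
the small symplectic group is perfect and its finite central extensions split -/
theorem good_range_emb (f : Fin r ↪ Fin m) {E : Type u} [Group E] [Finite E]
    (ψ : E →* Matrix.symplecticGroup (Fin m) K) (hs : Function.Surjective ψ)
    (hc : ψ.ker ≤ Subgroup.center E) [Finite K]
    (hperf : commutator (Matrix.symplecticGroup (Fin r) K) = ⊤)
    (hsplit : ∀ (E' : Type u) [Group E'] [Finite E']
      (ψ' : E' →* Matrix.symplecticGroup (Fin r) K), Function.Surjective ψ' →
      ψ'.ker ≤ Subgroup.center E' →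
        ∃ s : Matrix.symplecticGroup (Fin r) K →* E', ψ'.comp s = MonoidHom.id _) :
    Good ψ (emb (K := K) f).range := by
  have hfin : Finite (Matrix.symplecticGroup (Fin r) K) := by
    haveI : Finite (Matrix (Fin r ⊕ Fin r) (Fin r ⊕ Fin r) K) := Matrix.instFinite _
    exact Subtype.finite
  let e₀ := MonoidHom.ofInjective (emb_injective (K := K) (f := f))
  refine ⟨commutator_eq_top_of_equiv e₀ hperf, ?_⟩
  obtain ⟨τ₀, hτ₀⟩ := exists_lift_finite hsplit ψ hs hc (emb (K := K) f)
  refine ⟨τ₀.comp e₀.symm.toMonoidHom, fun x => ?_⟩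
  have h1 : ψ (τ₀ (e₀.symm x)) = emb f (e₀.symm x) := DFunLike.congr_fun hτ₀ _
  show ψ (τ₀ (e₀.symm x)) = x
  rw [h1]
  have h2 : e₀ (e₀.symm x) = x := e₀.apply_symm_apply x
  exact congrArg Subtype.val h2

end emb

end Cfsg.Agent.Lib.Helper2.CS
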