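import Cfsg.Agent.Lib.Helper2.CS1
import Cfsg.Agent.S0269

/-!
# The symplectic groups: finite perfect central extensions of `Sp_2m(q)`, `m ≥ 3`, `q ≥ 3`, are
trivial, if the finite central extensions of `Sp_4(q)` split
-/

set_option autoImplicit false
set_option linter.unusedSectionVars false
set_option linter.unusedVariables false

namespace Cfsg.Agent.Lib.Helper2.CS

open Cfsg.Agent.Lib.Helper2.CN Cfsg.Agent.Lib.Helper2.CM Cfsg.Agent.Lib.Helper2.CL
open Cfsg.Agent.Lib.Helper2.SLM Cfsg.Agent.Lib.Helper3.AN Cfsg.Agent.Lib.Helper3.DN Matrix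

universe u

section idx
variable {m : ℕ}

/-- the pair of an index -/
def idx : Idx m → Fin m := Sum.elim id id

theorem idx_swap (x : Idx m) : idx x.swap = idx x := by
  rcases x with x | x <;> rfl

theorem eq_or_eq_swap_of_idx {x a : Idx m} (h : idx x = idx a) : x = a ∨ x = a.swap := by
  rcases x with x | x <;> rcases a with a | a <;> simp only [idx, Sum.elim_inl, Sum.elim_inr, id] at h <;>
    subst h <;> simp

theorem idx_ne {a b : Idx m} (h1 : a ≠ b) (h2 : a ≠ b.swap) : idx a ≠ idx b := by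
  intro h
  rcases eq_or_eq_swap_of_idx h with h | h
  · exact h1 h
  · exact h2 h

theorem inQ_iff_idx (a b x : Idx m) :
    InQ Sum.swap a b x ↔ idx x = idx a ∨ idx x = idx b := by
  unfold InQ
  constructor
  · rintro (rfl | rfl | rfl | rfl)
    · exact Or.inl rfl
    · exact Or.inr rfl
    · exact Or.inl (idx_swap _)
    · exact Or.inr (idx_swap _)
  · rintro (h | h)
    · rcases eq_or_eq_swap_of_idx h with h | h
      · exact Or.inl h
      · exact Or.inr (Or.inr (Or.inl h))
    · rcases eq_or_eq_swap_of_idx h with h | h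
      · exact Or.inr (Or.inl h)
      · exact Or.inr (Or.inr (Or.inr h))

theorem mem_range_map_iff {r : ℕ} (f : Fin r ↪ Fin m) (x : Idx m) :
    x ∈ Set.range (Sum.map f f) ↔ idx x ∈ Set.range f := by
  constructor
  · rintro ⟨y, rfl⟩
    rcases y with y | y <;> exact ⟨y, rfl⟩
  · rintro ⟨y, hy⟩
    rcases x with x | x
    · exact ⟨Sum.inl y, by simp only [Sum.map_inl]; rw [hy]; rfl⟩
    · exact ⟨Sum.inr y, by simp only [Sum.map_inr]; rw [hy]; rfl⟩

/-- the embedding of `Fin 2` with the two given values -/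
def emb2 {p q : Fin m} (h : p ≠ q) : Fin 2 ↪ Fin m where
  toFun := ![p, q]
  inj' := by
    intro x y hxy
    fin_cases x <;> fin_cases y <;> simp_all

theorem range_emb2 {p q : Fin m} (h : p ≠ q) (z : Fin m) :
    z ∈ Set.range (emb2 h) ↔ z = p ∨ z = q := by
  constructor
  · rintro ⟨x, rfl⟩
    fin_cases x
    · exact Or.inl rfl
    · exact Or.inr rfl
  · rintro (rfl | rfl)
    · exact ⟨0, rfl⟩
    · exact ⟨1, rfl⟩

end idx

section sp
variable {K : Type u} [Field K] {m : ℕ}

/-- the rank two subgroups are embedded copies of `Sp_4` -/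
theorem G2_eq_range {a b : Idx m} (h1 : a ≠ b) (h2 : a ≠ b.swap) :
    (spData m K).G2 a b = (emb (K := K) (emb2 (idx_ne h1 h2))).range := by
  rw [range_emb, G2_eq_GS]
  apply GS_congr
  intro x
  rw [inQ_iff_idx, mem_range_map_iff, range_emb2]

theorem spData_H2 : H2 (spData m K) (spPhi m K) := by
  intro a b _ _ g _ hg
  apply Subtype.ext
  exact hg

theorem hc2_idx (hm : 2 ≤ m) (a : Idx m) : ∃ b : Idx m, b ≠ a ∧ b ≠ a.swap := by
  obtain ⟨j, hj⟩ : ∃ j : Fin m, j ≠ idx a := by
    by_cases h : idx a = ⟨0, by omega⟩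
    · exact ⟨⟨1, by omega⟩, by rw [h]; intro h'; simp [Fin.ext_iff] at h'⟩
    · exact ⟨⟨0, by omega⟩, fun h' => h h'.symm⟩
  refine ⟨Sum.inl j, ?_, ?_⟩
  · intro h
    apply hj
    rw [← h]; rfl
  · intro h
    apply hj
    rw [← idx_swap a, ← h]; rfl

theorem sigL_sq (a : Idx m) (k : Idx m) : (sigL Sum.swap a * sigL Sum.swap a) k = k := by
  unfold sigL
  rw [Equiv.swap_mul_self]
  rfl

/-- the torus elements of the long roots act diagonally on the root elements -/
theorem spData_tor (hm : 2 ≤ m) (a : Idx m) (lam : K) (hlam : lam ≠ 0) :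
    ∃ h : Matrix.symplecticGroup (Fin m) K, ∀ k l t,
      h * (spData m K).y k l t * h⁻¹ =
        (spData m K).y k l (hv Sum.swap a lam k * t * (hv Sum.swap a lam l)⁻¹) := by
  have n1 : (-1 : K) ≠ 0 := neg_ne_zero.mpr one_ne_zero
  have hmon := (rawMon_wL (C := spData m K) spData_H2 spData_rep (hc2_idx hm) a hlam).mul
    (rawMon_wL (C := spData m K) spData_H2 spData_rep (hc2_idx hm) a n1)
  refine ⟨(spData m K).w a a.swap lam * (spData m K).w a a.swap (-1), fun k l t => ?_⟩
  have h1 := hmon.2 k l t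
  rw [MulAut.conj_apply, sigL_sq, sigL_sq] at h1
  rw [h1]
  beta_reduce
  have hv_eq : ∀ x : Idx m, wvecL Sum.swap a (-1 : K) x *
      wvecL Sum.swap a lam (sigL Sum.swap a x) = hv Sum.swap a lam x := by
    intro x
    have na : a.swap ≠ a := CM.swap_ne a
    by_cases hx1 : x = a
    · subst hx1
      rw [sigL_i (spData m K) x, wvL_i (spData m K) x, wvL_ni]
      simp [hv]
    by_cases hx2 : x = a.swap
    · subst hx2
      rw [sigL_ni (spData m K) a, wvL_ni, wvL_i (spData m K) a]
      simp [hv, na]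
    · rw [sigL_of_ne a hx1 hx2, wvL_of_ne a _ hx1 hx2, wvL_of_ne a _ hx1 hx2]
      simp [hv, hx1, hx2]
  rw [hv_eq, hv_eq]

end sp

end Cfsg.Agent.Lib.Helper2.CS
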