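import Cfsg.Agent.Lib.Helper2.CS2

/-!
# The symplectic groups: finite central extensions of `Sp_2m(q)`, `m ≥ 3`, `q ≥ 3`, split, if
those of `Sp_4(q)` do
-/

set_option autoImplicit false
set_option linter.unusedSectionVars false
set_option linter.unusedVariables false

namespace Cfsg.Agent.Lib.Helper2.CS

open Cfsg.Agent.Lib.Helper2.CN Cfsg.Agent.Lib.Helper2.CM Cfsg.Agent.Lib.Helper2.CL
open Cfsg.Agent.Lib.Helper2.SLM Cfsg.Agent.Lib.Helper3.AN Cfsg.Agent.Lib.Helper3.DN Matrix

universe u

variable {K : Type u} [Field K] [Fintype K] {m : ℕ}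

theorem exists_ne_zero_one (hq : 3 ≤ Fintype.card K) : ∃ lam : K, lam ≠ 0 ∧ lam ≠ 1 := by
  classical
  by_contra hcon
  push_neg at hcon
  have hsub : (Finset.univ : Finset K) ⊆ {0, 1} := by
    intro x _
    by_cases hx : x = 0
    · simp [hx]
    · simp [hcon x hx]
  have := Finset.card_le_card hsub
  have h2 : ({0, 1} : Finset K).card ≤ 2 := Finset.card_le_two
  rw [Finset.card_univ] at this
  omega

/-- the hypotheses of the lifting theorem hold for the symplectic groups -/
theorem sp_liftHyp (hm : 2 ≤ m) (hq : 3 ≤ Fintype.card K)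
    (hsplit2 : ∀ (E' : Type u) [Group E'] [Finite E']
      (ψ' : E' →* Matrix.symplecticGroup (Fin 2) K), Function.Surjective ψ' →
      ψ'.ker ≤ Subgroup.center E' →
        ∃ s : Matrix.symplecticGroup (Fin 2) K →* E', ψ'.comp s = MonoidHom.id _)
    {E : Type u} [Group E] [Finite E] (ψ : E →* Matrix.symplecticGroup (Fin m) K)
    (hs : Function.Surjective ψ) (hc : ψ.ker ≤ Subgroup.center E) :
    LiftHyp (spData m K) ψ where
  surj := hs
  cen := hc
  good := by
    intro a b hab hab'
    rw [G2_eq_range hab hab']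
    exact good_range_emb _ ψ hs hc
      (Cfsg.Agent.S0269.result (F := K) 2 (Or.inr (Or.inl ⟨rfl, hq⟩))) hsplit2
  monW := fun i j hij hij' =>
    rawMon_w (C := spData m K) spData_H2 spData_rep hij hij' (one_ne_zero (α := K))
  tor := spData_tor hm

/-- finite perfect central extensions of `Sp_2m(q)`, `m ≥ 3`, `q ≥ 3`, are trivial, if the
finite central extensions of `Sp_4(q)` split -/
theorem sp_injective_of_ge3 (hm : 3 ≤ m) (hq : 3 ≤ Fintype.card K)
    (hsplit2 : ∀ (E' : Type u) [Group E'] [Finite E']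
      (ψ' : E' →* Matrix.symplecticGroup (Fin 2) K), Function.Surjective ψ' →
      ψ'.ker ≤ Subgroup.center E' →
        ∃ s : Matrix.symplecticGroup (Fin 2) K →* E', ψ'.comp s = MonoidHom.id _)
    {E : Type u} [Group E] [Finite E] (ψ : E →* Matrix.symplecticGroup (Fin m) K)
    (hs : Function.Surjective ψ) (hc : ψ.ker ≤ Subgroup.center E) (hperf : commutator E = ⊤) :
    Function.Injective ψ :=
  injective_of_liftHyp (spData m K) ψ (sp_liftHyp (by omega) hq hsplit2 ψ hs hc)
    (exists_ne_zero_one hq) (eD m) (eD_rev m) hm spData_gen (spPhi m K) spData_rep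
    Subtype.val_injective hperf

/-- finite central extensions of `Sp_2m(q)`, `m ≥ 3`, `q ≥ 3`, split, if those of `Sp_4(q)`
do -/
theorem sp_split_of_ge3 (hm : 3 ≤ m) (hq : 3 ≤ Fintype.card K)
    (hsplit2 : ∀ (E' : Type u) [Group E'] [Finite E']
      (ψ' : E' →* Matrix.symplecticGroup (Fin 2) K), Function.Surjective ψ' →
      ψ'.ker ≤ Subgroup.center E' →
        ∃ s : Matrix.symplecticGroup (Fin 2) K →* E', ψ'.comp s = MonoidHom.id _)
    {E : Type u} [Group E] [Finite E] (ψ : E →* Matrix.symplecticGroup (Fin m) K)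
    (hs : Function.Surjective ψ) (hc : ψ.ker ≤ Subgroup.center E) :
    ∃ s : Matrix.symplecticGroup (Fin m) K →* E, ψ.comp s = MonoidHom.id _ := by
  have hperf : commutator (Matrix.symplecticGroup (Fin m) K) = ⊤ :=
    Cfsg.Agent.S0269.result (F := K) m (Or.inl hm)
  refine exists_section_finite_of_perfect_case hperf ?_ ψ hs hc
  intro E' _ _ ψ' hs' hc' hperf'
  have hinj := sp_injective_of_ge3 hm hq hsplit2 ψ' hs' hc' hperf'
  let e := MulEquiv.ofBijective ψ' ⟨hinj, hs'⟩
  refine ⟨e.symm.toMonoidHom, ?_⟩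
  ext1 x
  exact e.apply_symm_apply x

end Cfsg.Agent.Lib.Helper2.CS
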