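import Cfsg.Agent.Lib.Helper2.CS3
import Cfsg.Agent.S0246

/-!
# The symplectic groups: from the splitting of the central extensions of `Sp_2m(q)` to the
Schur multiplier of `PSp_2m(q)`
-/

set_option autoImplicit false
set_option linter.unusedSectionVars false
set_option linter.unusedVariables false

namespace Cfsg.Agent.Lib.Helper2.CS

open Cfsg.Agent.Lib.Helper2.SLM Matrix

universe u

variable {F : Type u} [Field F] [Fintype F]

theorem isCyclic_of_card_dvd_two {A : Type*} [Group A] [Finite A] (h : Nat.card A ∣ 2) :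
    IsCyclic A := by
  have h12 : Nat.card A = 1 ∨ Nat.card A = 2 := (Nat.dvd_prime Nat.prime_two).1 h
  rcases h12 with h1 | h2
  · haveI : Subsingleton A := (Nat.card_eq_one_iff_unique.1 h1).1
    exact isCyclic_of_subsingleton
  · haveI : Fact (Nat.Prime 2) := ⟨Nat.prime_two⟩
    exact isCyclic_of_prime_card h2

/-- if `Sp_2m(F)` is perfect and its finite central extensions split, the Schur multiplier of
`PSp_2m(F)` is cyclic of order `gcd(2, q - 1)` -/
theorem psp_multiplier_of_split (m : ℕ) (hm : 1 ≤ m)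
    (hperf : commutator (Matrix.symplecticGroup (Fin m) F) = ⊤)
    (hsplit : ∀ (E : Type u) [Group E] [Finite E] (ψ : E →* Matrix.symplecticGroup (Fin m) F),
      Function.Surjective ψ → ψ.ker ≤ Subgroup.center E →
        ∃ s : Matrix.symplecticGroup (Fin m) F →* E, ψ.comp s = MonoidHom.id _) :
    Cfsg.HasCyclicSchurMultiplier (Cfsg.PSp m F) (Nat.gcd 2 (Fintype.card F - 1)) := by
  classical
  haveI hfin : Finite (Matrix.symplecticGroup (Fin m) F) := by
    haveI : Finite (Matrix (Fin m ⊕ Fin m) (Fin m ⊕ Fin m) F) := Matrix.instFinite _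
    exact Subtype.finite
  set θ : Matrix.symplecticGroup (Fin m) F →* Cfsg.PSp m F :=
    QuotientGroup.mk' (Subgroup.center (Matrix.symplecticGroup (Fin m) F)) with hθ
  have hθk : θ.ker = Subgroup.center (Matrix.symplecticGroup (Fin m) F) := QuotientGroup.ker_mk' _
  have hcard0 : Nat.card (Subgroup.center (Matrix.symplecticGroup (Fin m) F)) =
      Nat.gcd 2 (Fintype.card F - 1) := Cfsg.Agent.S0246.result (F := F) rfl m hm
  have hcard : Nat.card ↥θ.ker = Nat.gcd 2 (Fintype.card F - 1) := by
    rw [hθk]; exact hcard0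
  have hcyc : IsCyclic ↥θ.ker := by
    apply isCyclic_of_card_dvd_two
    rw [hcard]
    exact Nat.gcd_dvd_left 2 _
  refine Cfsg.Agent.Lib.Helper3.StS.hasCyclicSchurMultiplier_of_cover θ
    (QuotientGroup.mk'_surjective _) (by rw [hθk]) hperf _ hcyc hcard ?_
  intro Γ _ _ σ hσ
  exact exists_lift_finite hsplit σ hσ.1 hσ.2.1 θ

end Cfsg.Agent.Lib.Helper2.CS
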