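import Cfsg.Agent.Lib.Helper2.CS1

/-!
# Lifting Steinberg data of type `C` to a central extension through the subgroups of corank one
-/

set_option autoImplicit false
set_option linter.unusedSectionVars false
set_option linter.unusedVariables false

namespace Cfsg.Agent.Lib.Helper2.CS

open Cfsg.Agent.Lib.Helper2.CN Cfsg.Agent.Lib.Helper2.CL
open Cfsg.Agent.Lib.Helper3.AN Cfsg.Agent.Lib.Helper3.DN Matrix
open scoped commutatorElement

variable {J K E G : Type*} [Field K] [Group E] [Group G] {ν : J → J} {ε : J → K}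

section general

/-- a perfect subgroup of a good subgroup is good -/
theorem Good.restrict {ψ : E →* G} {H H' : Subgroup G} (hH : Good ψ H) (hle : H' ≤ H)
    (hperf : commutator ↥H' = ⊤) : Good ψ H' :=
  ⟨hperf, ⟨hH.sect.comp (Subgroup.inclusion hle), fun x => by
    rw [MonoidHom.comp_apply, hH.psi_sect]; rfl⟩⟩

/-- lifted root elements generate a perfect central extension -/
theorem gen_of_lift {D : CData J K G ν ε} {ψ : E →* G} (hcen : ψ.ker ≤ Subgroup.center E)
    (C' : CData J K E ν ε) (hψ : ∀ k l t, ψ (C'.y k l t) = D.y k l t) (hgen : D.Gen)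
    (hperf : commutator E = ⊤) : C'.Gen := by
  unfold CData.Gen
  set E₀ := Subgroup.closure {g : E | ∃ k l t, g = C'.y k l t} with hE₀
  have h1 : ∀ x : E, ∃ x₀ ∈ E₀, ∃ z ∈ Subgroup.center E, x = z * x₀ := by
    have hsurj : E₀.map ψ = ⊤ := by
      rw [eq_top_iff, ← hgen, Subgroup.closure_le]
      rintro g ⟨k, l, t, rfl⟩
      exact ⟨_, Subgroup.subset_closure ⟨k, l, t, rfl⟩, hψ k l t⟩
    intro x
    have : ψ x ∈ E₀.map ψ := by rw [hsurj]; trivial
    obtain ⟨x₀, hx₀, hx⟩ := this
    refine ⟨x₀, hx₀, x * x₀⁻¹, ?_, by group⟩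
    apply hcen
    rw [MonoidHom.mem_ker, map_mul, map_inv, hx, mul_inv_cancel]
  rw [eq_top_iff, ← hperf, commutator_eq_closure, Subgroup.closure_le]
  rintro _ ⟨a, b, rfl⟩
  obtain ⟨a₀, ha₀, z, hz, rfl⟩ := h1 a
  obtain ⟨b₀, hb₀, z', hz', rfl⟩ := h1 b
  rw [comm_central_left hz, comm_central_right hz', commutatorElement_def]
  exact mul_mem (mul_mem (mul_mem ha₀ hb₀) (inv_mem ha₀)) (inv_mem hb₀)

/-- a perfect central extension carrying lifted Steinberg data, on whose rank two subgroups the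
projection is injective, is trivial -/
theorem injective_of_lifted_data [Fintype J] [DecidableEq J] {n : ℕ} (D : CData J K G ν ε)
    (ψ : E →* G) (hcen : ψ.ker ≤ Subgroup.center E) (C' : CData J K E ν ε)
    (hψ : ∀ k l t, ψ (C'.y k l t) = D.y k l t)
    (hinj2 : ∀ a b, a ≠ b → a ≠ ν b → ∀ g ∈ C'.G2 a b, ψ g = 1 → g = 1)
    (e : Fin (n + n) ≃ J) (he : ∀ k, e (Fin.rev k) = ν (e k)) (hn : 3 ≤ n) (hgen : D.Gen)
    (φ : G →* Matrix J J K) (hφ : IsRepC D φ) (hφi : Function.Injective φ)
    (hperf : commutator E = ⊤) : Function.Injective ψ := by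
  have hrep : IsRepC C' (φ.comp ψ) := by
    refine ⟨fun k l t hkl hkl' x => ?_, fun k t x => ?_⟩
    · rw [MonoidHom.comp_apply, hψ]
      exact hφ.1 k l t hkl hkl' x
    · rw [MonoidHom.comp_apply, hψ]
      exact hφ.2 k t x
  have h2 : H2 C' (φ.comp ψ) := by
    intro a b hab hab' g hg hg1
    apply hinj2 a b hab hab' g hg
    apply hφi
    rw [map_one]
    exact hg1
  have hinj := rep_injective_of_equiv C' e he hn (gen_of_lift hcen C' hψ hgen hperf)
    (φ.comp ψ) hrep h2
  intro x y hxy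
  apply hinj
  rw [MonoidHom.comp_apply, MonoidHom.comp_apply, hxy]

end general

/-- the indices outside the pair of `a` -/
def Out (ν : J → J) (a : J) (x : J) : Prop := x ≠ a ∧ x ≠ ν a

/-- the hypotheses for the lifting through the subgroups of corank one -/
structure CoHyp (D : CData J K G ν ε) (ψ : E →* G) : Prop where
  surj : Function.Surjective ψ
  cen : ψ.ker ≤ Subgroup.center E
  good : ∀ a : J, Good ψ (GS D (Out ν a))
  perf2 : ∀ a a' : J, commutator ↥(GS D (fun x => Out ν a x ∧ Out ν a' x)) = ⊤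
  five : ∀ a b c d : J, ∃ x, Out ν x a ∧ Out ν x b ∧ Out ν x c ∧ Out ν x d

section co
variable {D : CData J K G ν ε} {ψ : E →* G} (L : CoHyp D ψ)

/-- the lifted root elements -/
noncomputable def ytil2 (L : CoHyp D ψ) (k l : J) (t : K) : E :=
  can ψ (GS D (Out ν (Classical.choose (L.five k l k l)))) (D.y k l t)

include L

omit L in
theorem out_symm {a x : J} (D : CData J K G ν ε) (h : Out ν x a) : Out ν a x :=
  ⟨h.1.symm, D.ne_nu_symm h.2⟩

omit L in
theorem out_nu {a x : J} (D : CData J K G ν ε) (h : Out ν a x) : Out ν a (ν x) :=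
  ⟨fun h' => h.2 (by rw [← h', D.nu_nu]), D.nu_ne_nu h.1⟩

/-- the lifted root elements are the canonical lifts in every subgroup of corank one -/
theorem ytil2_eq_can {a k l : J} (hk : Out ν a k) (hl : Out ν a l) (t : K) :
    ytil2 L k l t = can ψ (GS D (Out ν a)) (D.y k l t) := by
  unfold ytil2
  set c := Classical.choose (L.five k l k l) with hc
  have hcs := Classical.choose_spec (L.five k l k l)
  have hck : Out ν c k := hcs.1
  have hcl : Out ν c l := hcs.2.1
  have g2 : Good ψ (GS D (fun x => Out ν a x ∧ Out ν c x)) :=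
    Good.restrict (L.good a) (GS_mono D (fun x hx => hx.1)) (L.perf2 a c)
  have hmem : D.y k l t ∈ GS D (fun x => Out ν a x ∧ Out ν c x) :=
    y_mem_GS D ⟨hk, hck⟩ ⟨hl, hcl⟩ t
  rw [← can_restrict L.cen g2 (L.good c) (GS_mono D (fun x hx => hx.2)) hmem,
    ← can_restrict L.cen g2 (L.good a) (GS_mono D (fun x hx => hx.1)) hmem]

theorem ytil2_eq_sect {a k l : J} (hk : Out ν a k) (hl : Out ν a l) (t : K) :
    ytil2 L k l t = (L.good a).sect ⟨D.y k l t, y_mem_GS D hk hl t⟩ := by
  rw [ytil2_eq_can L hk hl, can_eq]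

theorem psi_ytil2 (k l : J) (t : K) : ψ (ytil2 L k l t) = D.y k l t := by
  obtain ⟨a, h1, h2, -, -⟩ := L.five k l k l
  rw [ytil2_eq_sect L h1 h2, Good.psi_sect]

/-- the lifted Steinberg data -/
noncomputable def coData : CData J K E ν ε where
  nu_nu := D.nu_nu
  nu_ne := D.nu_ne
  eps_nu := D.eps_nu
  eps_sq := D.eps_sq
  y := ytil2 L
  y_self := fun k t => by
    obtain ⟨a, h1, -, -, -⟩ := L.five k k k k
    rw [ytil2_eq_can L h1 h1, D.y_self, can_one (L.good a)]
  y_flip := fun k l t => by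
    obtain ⟨a, h1, h2, -, -⟩ := L.five k l k l
    have hk := h1
    have hl := h2
    rw [ytil2_eq_sect L hk hl, ytil2_eq_sect L (out_nu D hl) (out_nu D hk)]
    congr 1
    exact Subtype.ext (D.y_flip k l t)
  y_add := fun k l t u => by
    obtain ⟨a, h1, h2, -, -⟩ := L.five k l k l
    have hk := h1
    have hl := h2
    rw [ytil2_eq_sect L hk hl, ytil2_eq_sect L hk hl, ytil2_eq_sect L hk hl, ← map_mul]
    congr 1
    exact Subtype.ext (D.y_add k l t u)
  y_comm := fun k l p m t u g1 g2 g3 g4 => by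
    obtain ⟨a, h1, h2, h3, h4⟩ := L.five k l p m
    rw [ytil2_eq_sect L h1 h2,
      ytil2_eq_sect L h3 h4, ← map_mul, ← map_mul]
    congr 1
    exact Subtype.ext (D.y_comm k l p m t u g1 g2 g3 g4)
  y_rel := fun k l m t u g1 g2 g3 g4 g5 g6 => by
    obtain ⟨a, h1, h2, h3, -⟩ := L.five k l m m
    rw [ytil2_eq_sect L h1 h2,
      ytil2_eq_sect L h2 h3,
      ytil2_eq_sect L h1 h3, ← map_inv, ← map_inv, ← map_mul,
      ← map_mul, ← map_mul]
    congr 1
    exact Subtype.ext (D.y_rel k l m t u g1 g2 g3 g4 g5 g6)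
  y_B2 := fun k l t u g1 g2 => by
    obtain ⟨a, h1, h2, -, -⟩ := L.five k l k l
    have hk := h1
    have hl := h2
    rw [ytil2_eq_sect L hk hl, ytil2_eq_sect L hl (out_nu D hk),
      ytil2_eq_sect L hk (out_nu D hk), ← map_inv, ← map_inv, ← map_mul, ← map_mul, ← map_mul]
    congr 1
    exact Subtype.ext (D.y_B2 k l t u g1 g2)
  y_B3 := fun k l t u g1 g2 => by
    obtain ⟨a, h1, h2, -, -⟩ := L.five k l k l
    have hk := h1
    have hl := h2
    rw [ytil2_eq_sect L hk hl, ytil2_eq_sect L hl (out_nu D hl),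
      ytil2_eq_sect L hk (out_nu D hl), ytil2_eq_sect L hk (out_nu D hk), ← map_inv, ← map_inv,
      ← map_mul, ← map_mul, ← map_mul, ← map_mul]
    congr 1
    exact Subtype.ext (D.y_B3 k l t u g1 g2)

theorem coData_y (k l : J) (t : K) : (coData L).y k l t = ytil2 L k l t := rfl

theorem coData_G2_inj {a b : J} {g : E} (hg : g ∈ (coData L).G2 a b) (h1 : ψ g = 1) : g = 1 := by
  obtain ⟨c, hc1, hc2, -, -⟩ := L.five a b a b
  have ha := hc1
  have hb := hc2
  have hle : (coData L).G2 a b ≤ (L.good c).sect.range := by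
    unfold CData.G2
    rw [Subgroup.closure_le]
    rintro x ⟨k, l, t, hk, hl, rfl⟩
    have key : ∀ z, InQ ν a b z → Out ν c z := by
      intro z hz
      rcases hz with rfl | rfl | rfl | rfl
      · exact ha
      · exact hb
      · exact out_nu D ha
      · exact out_nu D hb
    rw [coData_y, ytil2_eq_sect L (key k hk) (key l hl)]
    exact ⟨_, rfl⟩
  obtain ⟨x, rfl⟩ := hle hg
  rw [Good.psi_sect] at h1
  have : x = 1 := Subtype.ext h1
  rw [this, map_one]

end co

/-- **Lifting through the subgroups of corank one**: a perfect central extension of a group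
with faithful Steinberg data of type `C_n`, `n ≥ 5`, which splits over the (perfect) subgroups
of corank one, is trivial. -/
theorem injective_of_coHyp [Fintype J] [DecidableEq J] {n : ℕ} (D : CData J K G ν ε)
    (ψ : E →* G) (L : CoHyp D ψ) (e : Fin (n + n) ≃ J) (he : ∀ k, e (Fin.rev k) = ν (e k))
    (hn : 3 ≤ n) (hgen : D.Gen) (φ : G →* Matrix J J K) (hφ : IsRepC D φ)
    (hφi : Function.Injective φ) (hperf : commutator E = ⊤) : Function.Injective ψ :=
  injective_of_lifted_data D ψ L.cen (coData L) (psi_ytil2 L)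
    (fun a b _ _ g hg h1 => coData_G2_inj L hg h1) e he hn hgen φ hφ hφi hperf

end Cfsg.Agent.Lib.Helper2.CS
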