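import Cfsg.Agent.Lib.Helper2.CS5
import Cfsg.Agent.Lib.Helper2.CS2

/-!
# The symplectic groups: the splitting of the finite central extensions of `Sp_2m(q)`, `m ≥ 5`,
follows from that for `Sp_{2(m-1)}(q)`
-/

set_option autoImplicit false
set_option linter.unusedSectionVars false
set_option linter.unusedVariables false

namespace Cfsg.Agent.Lib.Helper2.CS

open Cfsg.Agent.Lib.Helper2.CN Cfsg.Agent.Lib.Helper2.CM Cfsg.Agent.Lib.Helper2.CL
open Cfsg.Agent.Lib.Helper2.SLM Cfsg.Agent.Lib.Helper3.AN Cfsg.Agent.Lib.Helper3.DN Matrix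

universe u

section idx
variable {m : ℕ}

theorem out_iff_idx (a x : Idx m) : Out Sum.swap a x ↔ idx x ≠ idx a := by
  unfold Out
  constructor
  · rintro ⟨h1, h2⟩ h
    rcases eq_or_eq_swap_of_idx h with h | h
    · exact h1 h
    · exact h2 h
  · intro h
    refine ⟨fun h' => h (by rw [h']), fun h' => h (by rw [h', idx_swap])⟩

end idx

section sp
variable {K : Type u} [Field K] [Fintype K] {s : ℕ}

theorem sp_finite (r : ℕ) : Finite (Matrix.symplecticGroup (Fin r) K) := by
  haveI : Finite (Matrix (Fin r ⊕ Fin r) (Fin r ⊕ Fin r) K) := Matrix.instFinite _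
  exact Subtype.finite

/-- an embedded copy of a perfect symplectic group is perfect -/
theorem perfect_range_emb {r m : ℕ} (f : Fin r ↪ Fin m)
    (hperf : commutator (Matrix.symplecticGroup (Fin r) K) = ⊤) :
    commutator ↥(emb (K := K) f).range = ⊤ :=
  commutator_eq_top_of_equiv (MonoidHom.ofInjective (emb_injective (K := K) (f := f))) hperf

theorem GS_out_eq_range (a : Idx (s + 1)) :
    GS (spData (s + 1) K) (Out Sum.swap a) =
      (emb (K := K) (Fin.succAboveEmb (idx a))).range := by
  rw [range_emb]
  apply GS_congr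
  intro x
  rw [out_iff_idx, mem_range_map_iff, Fin.coe_succAboveEmb, Fin.range_succAbove]
  simp

theorem GS_out2_perfect (hs : 3 ≤ s) (a a' : Idx (s + 2)) :
    commutator ↥(GS (spData (s + 2) K) (fun x => Out Sum.swap a x ∧ Out Sum.swap a' x)) = ⊤ := by
  by_cases h : idx a' = idx a
  · have e1 : GS (spData (s + 2) K) (fun x => Out Sum.swap a x ∧ Out Sum.swap a' x) =
        GS (spData (s + 2) K) (Out Sum.swap a) := by
      apply GS_congr
      intro x
      rw [out_iff_idx, out_iff_idx, h]
      tauto
    rw [e1, GS_out_eq_range]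
    exact perfect_range_emb _ (Cfsg.Agent.S0269.result (F := K) (s + 1) (Or.inl (by omega)))
  · obtain ⟨q, hq⟩ := Fin.exists_succAbove_eq h
    set f : Fin s ↪ Fin (s + 2) := (Fin.succAboveEmb q).trans (Fin.succAboveEmb (idx a)) with hf
    have e1 : GS (spData (s + 2) K) (fun x => Out Sum.swap a x ∧ Out Sum.swap a' x) =
        (emb (K := K) f).range := by
      rw [range_emb]
      apply GS_congr
      intro x
      rw [out_iff_idx, out_iff_idx, mem_range_map_iff]
      constructor
      · rintro ⟨h1, h2⟩
        have : idx x ∈ Set.range (idx a).succAbove := by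
          rw [Fin.range_succAbove]; exact h1
        obtain ⟨z, hz⟩ := this
        have hzq : z ≠ q := by
          intro hzq
          apply h2
          rw [← hz, hzq, hq]
        have : z ∈ Set.range q.succAbove := by
          rw [Fin.range_succAbove]; exact hzq
        obtain ⟨w, hw⟩ := this
        exact ⟨w, by
          rw [hf, Function.Embedding.trans_apply, Fin.succAboveEmb_apply, Fin.succAboveEmb_apply,
            hw, hz]⟩
      · rintro ⟨w, hw⟩
        rw [hf, Function.Embedding.trans_apply, Fin.succAboveEmb_apply,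
          Fin.succAboveEmb_apply] at hw
        refine ⟨?_, ?_⟩
        · rw [← hw]; exact Fin.succAbove_ne _ _
        · rw [← hw, ← hq]
          intro h'
          exact Fin.succAbove_ne q w (Fin.succAbove_right_injective h')
    rw [e1]
    exact perfect_range_emb _ (Cfsg.Agent.S0269.result (F := K) s (Or.inl hs))

theorem five_idx (hs : 3 ≤ s) (a b c d : Idx (s + 2)) :
    ∃ x : Idx (s + 2), Out Sum.swap x a ∧ Out Sum.swap x b ∧ Out Sum.swap x c ∧
      Out Sum.swap x d := by
  classical
  have hcard : ({idx a, idx b, idx c, idx d} : Finset (Fin (s + 2))).card <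
      (Finset.univ : Finset (Fin (s + 2))).card := by
    have := Finset.card_le_four (a := idx a) (b := idx b) (c := idx c) (d := idx d)
    rw [Finset.card_univ, Fintype.card_fin]
    omega
  obtain ⟨j, -, hj⟩ := Finset.exists_mem_notMem_of_card_lt_card hcard
  simp only [Finset.mem_insert, Finset.mem_singleton, not_or] at hj
  obtain ⟨h1, h2, h3, h4⟩ := hj
  refine ⟨Sum.inl j, ?_, ?_, ?_, ?_⟩ <;> rw [out_iff_idx] <;> intro h
  · exact h1 h.symm
  · exact h2 h.symm
  · exact h3 h.symm
  · exact h4 h.symm

/-- the inductive step -/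
theorem sp_injective_step (hs : 3 ≤ s)
    (hsplit : ∀ (E' : Type u) [Group E'] [Finite E']
      (ψ' : E' →* Matrix.symplecticGroup (Fin (s + 1)) K), Function.Surjective ψ' →
      ψ'.ker ≤ Subgroup.center E' →
        ∃ s' : Matrix.symplecticGroup (Fin (s + 1)) K →* E', ψ'.comp s' = MonoidHom.id _)
    {E : Type u} [Group E] [Finite E] (ψ : E →* Matrix.symplecticGroup (Fin (s + 2)) K)
    (hsurj : Function.Surjective ψ) (hc : ψ.ker ≤ Subgroup.center E)
    (hperf : commutator E = ⊤) : Function.Injective ψ := by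
  have L : CoHyp (spData (s + 2) K) ψ :=
    { surj := hsurj
      cen := hc
      good := by
        intro a
        rw [GS_out_eq_range]
        exact good_range_emb _ ψ hsurj hc
          (Cfsg.Agent.S0269.result (F := K) (s + 1) (Or.inl (by omega))) hsplit
      perf2 := GS_out2_perfect hs
      five := five_idx hs }
  exact injective_of_coHyp (spData (s + 2) K) ψ L (eD (s + 2)) (eD_rev (s + 2)) (by omega)
    spData_gen (spPhi (s + 2) K) spData_rep Subtype.val_injective hperf

theorem sp_split_step (hs : 3 ≤ s)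
    (hsplit : ∀ (E' : Type u) [Group E'] [Finite E']
      (ψ' : E' →* Matrix.symplecticGroup (Fin (s + 1)) K), Function.Surjective ψ' →
      ψ'.ker ≤ Subgroup.center E' →
        ∃ s' : Matrix.symplecticGroup (Fin (s + 1)) K →* E', ψ'.comp s' = MonoidHom.id _)
    {E : Type u} [Group E] [Finite E] (ψ : E →* Matrix.symplecticGroup (Fin (s + 2)) K)
    (hsurj : Function.Surjective ψ) (hc : ψ.ker ≤ Subgroup.center E) :
    ∃ s' : Matrix.symplecticGroup (Fin (s + 2)) K →* E, ψ.comp s' = MonoidHom.id _ := by
  have hperf : commutator (Matrix.symplecticGroup (Fin (s + 2)) K) = ⊤ :=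
    Cfsg.Agent.S0269.result (F := K) (s + 2) (Or.inl (by omega))
  refine exists_section_finite_of_perfect_case hperf ?_ ψ hsurj hc
  intro E' _ _ ψ' hs' hc' hperf'
  have hinj := sp_injective_step hs hsplit ψ' hs' hc' hperf'
  let e := MulEquiv.ofBijective ψ' ⟨hinj, hs'⟩
  refine ⟨e.symm.toMonoidHom, ?_⟩
  ext1 x
  exact e.apply_symm_apply x

/-- from `Sp_8` upwards -/
theorem sp_split_of_four
    (hsplit4 : ∀ (E' : Type u) [Group E'] [Finite E']
      (ψ' : E' →* Matrix.symplecticGroup (Fin 4) K), Function.Surjective ψ' →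
      ψ'.ker ≤ Subgroup.center E' →
        ∃ s' : Matrix.symplecticGroup (Fin 4) K →* E', ψ'.comp s' = MonoidHom.id _) :
    ∀ (m : ℕ), 4 ≤ m → ∀ (E : Type u) [Group E] [Finite E]
      (ψ : E →* Matrix.symplecticGroup (Fin m) K), Function.Surjective ψ →
      ψ.ker ≤ Subgroup.center E →
        ∃ s' : Matrix.symplecticGroup (Fin m) K →* E, ψ.comp s' = MonoidHom.id _ := by
  intro m hm
  induction m, hm using Nat.le_induction with
  | base => exact hsplit4
  | succ m hm ih =>
    obtain ⟨s, rfl⟩ : ∃ s, m = s + 1 := ⟨m - 1, by omega⟩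
    intro E _ _ ψ hsurj hc
    exact sp_split_step (by omega) ih ψ hsurj hc

end sp

end Cfsg.Agent.Lib.Helper2.CS
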