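import Cfsg.Agent.Lib.Helper2.CS6
import Cfsg.Agent.Lib.Helper2.CS4

/-!
# The Schur multiplier of `PSp_2m(q)`, from the cases `Sp_4(q)`, `q ≥ 3`, and `Sp_8(2)`
-/

set_option autoImplicit false
set_option linter.unusedSectionVars false
set_option linter.unusedVariables false

namespace Cfsg.Agent.Lib.Helper2.CS

open Cfsg.Agent.Lib.Helper2.SLM Matrix

universe u

variable {F : Type u} [Field F] [Fintype F]

/-- if the centre is trivial, the splitting of the central extensions of `Sp` follows from the
triviality of the multiplier of `PSp` -/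
theorem sp_split_of_psp (m : ℕ) (hm : 1 ≤ m) (hq : Fintype.card F = 2)
    (hperf : commutator (Matrix.symplecticGroup (Fin m) F) = ⊤)
    (hM : Cfsg.HasCyclicSchurMultiplier (Cfsg.PSp m F) 1)
    (E : Type u) [Group E] [Finite E] (ψ : E →* Matrix.symplecticGroup (Fin m) F)
    (hs : Function.Surjective ψ) (hc : ψ.ker ≤ Subgroup.center E) :
    ∃ s : Matrix.symplecticGroup (Fin m) F →* E, ψ.comp s = MonoidHom.id _ := by
  set θ : Matrix.symplecticGroup (Fin m) F →* Cfsg.PSp m F :=
    QuotientGroup.mk' (Subgroup.center (Matrix.symplecticGroup (Fin m) F)) with hθ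
  have hθs : Function.Surjective θ := QuotientGroup.mk'_surjective _
  have hcard : Nat.card (Subgroup.center (Matrix.symplecticGroup (Fin m) F)) = 1 := by
    rw [Cfsg.Agent.S0246.result (F := F) rfl m hm, hq]
    rfl
  have hcen : Subgroup.center (Matrix.symplecticGroup (Fin m) F) = ⊥ :=
    Subgroup.card_eq_one.mp hcard
  have hθi : Function.Injective θ := by
    rw [← MonoidHom.ker_eq_bot_iff, hθ, QuotientGroup.ker_mk', hcen]
  have hperf' : commutator (Cfsg.PSp m F) = ⊤ := by
    have := Subgroup.map_commutator (⊤ : Subgroup (Matrix.symplecticGroup (Fin m) F)) ⊤ θ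
    rw [Subgroup.map_top_of_surjective θ hθs, ← commutator_def, ← commutator_def, hperf,
      Subgroup.map_top_of_surjective θ hθs] at this
    exact this.symm
  have hker : (θ.comp ψ).ker = ψ.ker := by
    ext x
    rw [MonoidHom.mem_ker, MonoidHom.mem_ker, MonoidHom.comp_apply]
    constructor
    · intro h
      apply hθi
      rw [h, map_one]
    · intro h
      rw [h, map_one]
  obtain ⟨s', hs'⟩ := split_of_multiplier_one hperf' hM (θ.comp ψ) (hθs.comp hs)
    (by rw [hker]; exact hc)
  refine ⟨s'.comp θ, ?_⟩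
  ext1 x
  apply hθi
  have := DFunLike.congr_fun hs' (θ x)
  exact this

/-- **the Schur multiplier of `PSp_2m(q)`**, from the cases `Sp_4(q)`, `q ≥ 3`, and `Sp_8(2)` -/
theorem psp_multiplier {q : ℕ} (hF : Fintype.card F = q) (m : ℕ) (hm : 2 ≤ m)
    (h2 : m = 2 → 3 ≤ q) (hexc : ¬ (m = 3 ∧ q = 2))
    (T4 : 3 ≤ Fintype.card F →
      Cfsg.HasCyclicSchurMultiplier (Matrix.symplecticGroup (Fin 2) F) 1)
    (BB2 : Fintype.card F = 2 → Cfsg.HasCyclicSchurMultiplier (Cfsg.PSp 4 F) 1) :
    Cfsg.HasCyclicSchurMultiplier (Cfsg.PSp m F) (Nat.gcd 2 (q - 1)) := by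
  subst hF
  have hq2 : 2 ≤ Fintype.card F := by
    have := Fintype.one_lt_card (α := F)
    omega
  by_cases hq : 3 ≤ Fintype.card F
  · have hperf2 : commutator (Matrix.symplecticGroup (Fin 2) F) = ⊤ :=
      Cfsg.Agent.S0269.result (F := F) 2 (Or.inr (Or.inl ⟨rfl, hq⟩))
    have hsplit2 : ∀ (E' : Type u) [Group E'] [Finite E']
        (ψ' : E' →* Matrix.symplecticGroup (Fin 2) F), Function.Surjective ψ' →
        ψ'.ker ≤ Subgroup.center E' →
          ∃ s : Matrix.symplecticGroup (Fin 2) F →* E', ψ'.comp s = MonoidHom.id _ :=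
      fun E' _ _ ψ' hs' hc' => split_of_multiplier_one hperf2 (T4 hq) ψ' hs' hc'
    by_cases hm2 : m = 2
    · subst hm2
      exact psp_multiplier_of_split 2 (by norm_num) hperf2 hsplit2
    · have hm3 : 3 ≤ m := by omega
      have hperf : commutator (Matrix.symplecticGroup (Fin m) F) = ⊤ :=
        Cfsg.Agent.S0269.result (F := F) m (Or.inl hm3)
      exact psp_multiplier_of_split m (by omega) hperf
        (fun E _ _ ψ hs hc => sp_split_of_ge3 hm3 hq hsplit2 ψ hs hc)
  · have hq' : Fintype.card F = 2 := by omega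
    have hm4 : 4 ≤ m := by
      by_contra hcon
      have : m = 2 ∨ m = 3 := by omega
      rcases this with h | h
      · have := h2 h; omega
      · exact hexc ⟨h, hq'⟩
    have hperf4 : commutator (Matrix.symplecticGroup (Fin 4) F) = ⊤ :=
      Cfsg.Agent.S0269.result (F := F) 4 (Or.inl (by norm_num))
    have hperf : commutator (Matrix.symplecticGroup (Fin m) F) = ⊤ :=
      Cfsg.Agent.S0269.result (F := F) m (Or.inl (by omega))
    have hsplit4 := sp_split_of_psp (F := F) 4 (by norm_num) hq' hperf4 (BB2 hq')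
    exact psp_multiplier_of_split m (by omega) hperf
      (fun E _ _ ψ hs hc => sp_split_of_four hsplit4 m hm4 E ψ hs hc)

end Cfsg.Agent.Lib.Helper2.CS
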