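import Mathlib
import Cfsg.Agent.Lib.Helper2.Refl
import Cfsg.Agent.S0784

set_option autoImplicit false

namespace Cfsg.Agent.Lib.Helper2

namespace CD

open Matrix Cfsg.Agent.Lib.Helper2.Refl

variable {F : Type*} [Field F] {n : ℕ} (Q : QuadraticForm F (Fin n → F))

/-- a reflection as an element of the isometry group -/
noncomputable def refl (v : Fin n → F) (hv : Q v ≠ 0) : ↥(Cfsg.isometryGroup F ⇑Q) :=
  ⟨Matrix.GeneralLinearGroup.mkOfDetNeZero (Cfsg.reflectionMatrix ⇑Q v)
    (by rw [(Cfsg.Agent.S0784.result Q v hv).2.2.2]; exact neg_ne_zero.2 one_ne_zero),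
    fun u _ => (Cfsg.Agent.S0784.result Q v hv).1 u⟩

theorem refl_coe (v : Fin n → F) (hv : Q v ≠ 0) :
    ((refl Q v hv : Matrix.GeneralLinearGroup (Fin n) F) : Matrix (Fin n) (Fin n) F) =
      Cfsg.reflectionMatrix ⇑Q v := rfl

theorem refl_mulVec (v : Fin n → F) (hv : Q v ≠ 0) (x : Fin n → F) :
    ((refl Q v hv : Matrix.GeneralLinearGroup (Fin n) F) : Matrix (Fin n) (Fin n) F) *ᵥ x =
      x - ((Q v)⁻¹ * QuadraticMap.polar (⇑Q) v x) • v := reflectionMatrix_mulVec Q v x

theorem det_refl (v : Fin n → F) (hv : Q v ≠ 0) :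
    ((refl Q v hv : Matrix.GeneralLinearGroup (Fin n) F) : Matrix (Fin n) (Fin n) F).det = -1 :=
  (Cfsg.Agent.S0784.result Q v hv).2.2.2

/-- the set of reflections -/
def R : Set ↥(Cfsg.isometryGroup F ⇑Q) :=
  {g | ∃ v : Fin n → F, Q v ≠ 0 ∧
    ((g : Matrix.GeneralLinearGroup (Fin n) F) : Matrix (Fin n) (Fin n) F) =
      Cfsg.reflectionMatrix ⇑Q v}

theorem refl_mem_R (v : Fin n → F) (hv : Q v ≠ 0) : refl Q v hv ∈ R Q := ⟨v, hv, rfl⟩

variable {Q}

theorem iso_ext {g h : ↥(Cfsg.isometryGroup F ⇑Q)}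
    (hgh : ∀ x, ((g : Matrix.GeneralLinearGroup (Fin n) F) : Matrix (Fin n) (Fin n) F) *ᵥ x =
      ((h : Matrix.GeneralLinearGroup (Fin n) F) : Matrix (Fin n) (Fin n) F) *ᵥ x) : g = h := by
  apply Subtype.ext
  apply Units.ext
  apply Matrix.mulVec_injective
  funext x
  exact hgh x

theorem mul_mulVec (g h : ↥(Cfsg.isometryGroup F ⇑Q)) (x : Fin n → F) :
    (((g * h : ↥(Cfsg.isometryGroup F ⇑Q)) : Matrix.GeneralLinearGroup (Fin n) F) :
      Matrix (Fin n) (Fin n) F) *ᵥ x =
    ((g : Matrix.GeneralLinearGroup (Fin n) F) : Matrix (Fin n) (Fin n) F) *ᵥ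
      (((h : Matrix.GeneralLinearGroup (Fin n) F) : Matrix (Fin n) (Fin n) F) *ᵥ x) := by
  rw [Matrix.mulVec_mulVec]
  rfl

theorem one_mulVec' (x : Fin n → F) :
    (((1 : ↥(Cfsg.isometryGroup F ⇑Q)) : Matrix.GeneralLinearGroup (Fin n) F) :
      Matrix (Fin n) (Fin n) F) *ᵥ x = x := Matrix.one_mulVec x

theorem iso_Q (g : ↥(Cfsg.isometryGroup F ⇑Q)) (x : Fin n → F) :
    Q (((g : Matrix.GeneralLinearGroup (Fin n) F) : Matrix (Fin n) (Fin n) F) *ᵥ x) = Q x :=
  g.2 x x

theorem iso_polar (g : ↥(Cfsg.isometryGroup F ⇑Q)) (x y : Fin n → F) :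
    QuadraticMap.polar (⇑Q)
      (((g : Matrix.GeneralLinearGroup (Fin n) F) : Matrix (Fin n) (Fin n) F) *ᵥ x)
      (((g : Matrix.GeneralLinearGroup (Fin n) F) : Matrix (Fin n) (Fin n) F) *ᵥ y) =
      QuadraticMap.polar (⇑Q) x y := by
  unfold QuadraticMap.polar
  rw [← Matrix.mulVec_add, iso_Q, iso_Q, iso_Q]

theorem refl_mul_self (v : Fin n → F) (hv : Q v ≠ 0) : refl Q v hv * refl Q v hv = 1 := by
  apply iso_ext
  intro x
  rw [mul_mulVec, one_mulVec', refl_mulVec, refl_mulVec, QuadraticMap.polar_sub_right,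
    QuadraticMap.polar_smul_right, polar_self, smul_eq_mul]
  have : (Q v)⁻¹ * (QuadraticMap.polar (⇑Q) v x -
      (Q v)⁻¹ * QuadraticMap.polar (⇑Q) v x * (2 * Q v)) =
      -((Q v)⁻¹ * QuadraticMap.polar (⇑Q) v x) := by
    field_simp
    ring
  rw [this, neg_smul, sub_neg_eq_add, sub_add_cancel]

theorem refl_inv (v : Fin n → F) (hv : Q v ≠ 0) : (refl Q v hv)⁻¹ = refl Q v hv :=
  inv_eq_of_mul_eq_one_left (refl_mul_self v hv)

theorem refl_fix (v : Fin n → F) (hv : Q v ≠ 0) (z : Fin n → F)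
    (hz : QuadraticMap.polar (⇑Q) v z = 0) :
    ((refl Q v hv : Matrix.GeneralLinearGroup (Fin n) F) : Matrix (Fin n) (Fin n) F) *ᵥ z = z := by
  rw [refl_mulVec, hz, mul_zero, zero_smul, sub_zero]

/-- the key step: moving `g v` back to `v` by one or two reflections -/
theorem exists_fix (h2 : (2 : F) ≠ 0) (g : ↥(Cfsg.isometryGroup F ⇑Q)) (v : Fin n → F)
    (hv : Q v ≠ 0) :
    ∃ r ∈ Subgroup.closure (R Q),
      (((r * g : ↥(Cfsg.isometryGroup F ⇑Q)) : Matrix.GeneralLinearGroup (Fin n) F) :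
        Matrix (Fin n) (Fin n) F) *ᵥ v = v ∧
      ∀ z, QuadraticMap.polar (⇑Q) v z = 0 →
        QuadraticMap.polar (⇑Q)
          (((g : Matrix.GeneralLinearGroup (Fin n) F) : Matrix (Fin n) (Fin n) F) *ᵥ v) z = 0 →
        ((r : Matrix.GeneralLinearGroup (Fin n) F) : Matrix (Fin n) (Fin n) F) *ᵥ z = z := by
  set w := ((g : Matrix.GeneralLinearGroup (Fin n) F) : Matrix (Fin n) (Fin n) F) *ᵥ v with hw
  have hQw : Q w = Q v := iso_Q g v
  have hsub : Q (w - v) = 2 * Q v - QuadraticMap.polar (⇑Q) v w := by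
    have h1 : w - v = w + (-1 : F) • v := by rw [neg_one_smul, sub_eq_add_neg]
    rw [h1, map_add_smul, hQw, QuadraticMap.polar_comm]
    ring
  have hadd : Q (w + v) = 2 * Q v + QuadraticMap.polar (⇑Q) v w := by
    have h1 : w + v = w + (1 : F) • v := by rw [one_smul]
    rw [h1, map_add_smul, hQw, QuadraticMap.polar_comm]
    ring
  by_cases hc : Q (w - v) = 0
  · -- use two reflections
    have hpol : QuadraticMap.polar (⇑Q) v w = 2 * Q v := by
      rw [hsub] at hc
      linear_combination -hc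
    have hne : Q (w + v) ≠ 0 := by
      rw [hadd, hpol]
      have : 2 * Q v + 2 * Q v = 2 * 2 * Q v := by ring
      rw [this]
      exact mul_ne_zero (mul_ne_zero h2 h2) hv
    refine ⟨refl Q v hv * refl Q (w + v) hne,
      Subgroup.mul_mem _ (Subgroup.subset_closure (refl_mem_R Q v hv))
        (Subgroup.subset_closure (refl_mem_R Q (w + v) hne)), ?_, ?_⟩
    · rw [mul_mulVec, mul_mulVec, ← hw]
      have h1 : ((refl Q (w + v) hne : Matrix.GeneralLinearGroup (Fin n) F) :
          Matrix (Fin n) (Fin n) F) *ᵥ w = -v := by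
        rw [refl_mulVec, QuadraticMap.polar_add_left, polar_self, hQw,
          QuadraticMap.polar_comm (⇑Q) v w]
        have : (Q (w + v))⁻¹ * (2 * Q v + QuadraticMap.polar (⇑Q) w v) = 1 := by
          rw [hadd, QuadraticMap.polar_comm (⇑Q) v w]
          rw [hadd, QuadraticMap.polar_comm (⇑Q) v w] at hne
          exact inv_mul_cancel₀ hne
        rw [this, one_smul]
        abel
      rw [h1, Matrix.mulVec_neg, refl_mulVec, polar_self]
      have : (Q v)⁻¹ * (2 * Q v) = 2 := by field_simp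
      rw [this, two_smul]
      abel
    · intro z hz1 hz2
      rw [mul_mulVec, refl_fix (w + v) hne z (by rw [QuadraticMap.polar_add_left, hz1, hz2, add_zero]),
        refl_fix v hv z hz1]
  · refine ⟨refl Q (w - v) hc, Subgroup.subset_closure (refl_mem_R Q (w - v) hc), ?_, ?_⟩
    · rw [mul_mulVec, ← hw, refl_mulVec, QuadraticMap.polar_sub_left, polar_self, hQw]
      have : (Q (w - v))⁻¹ * (2 * Q v - QuadraticMap.polar (⇑Q) v w) = 1 := by
        rw [← hsub]
        exact inv_mul_cancel₀ hc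
      rw [this, one_smul]
      abel
    · intro z hz1 hz2
      exact refl_fix (w - v) hc z (by rw [QuadraticMap.polar_sub_left, hz1, hz2, sub_zero])

theorem closure_aux (h2 : (2 : F) ≠ 0) {N : ℕ} (b : Module.Basis (Fin N) F (Fin n → F))
    (hortho : ∀ i j, i ≠ j → QuadraticMap.polar (⇑Q) (b i) (b j) = 0)
    (haniso : ∀ i, Q (b i) ≠ 0) :
    ∀ d : ℕ, ∀ g : ↥(Cfsg.isometryGroup F ⇑Q),
      (∀ i : Fin N, (i : ℕ) + d < N →
        ((g : Matrix.GeneralLinearGroup (Fin n) F) : Matrix (Fin n) (Fin n) F) *ᵥ b i = b i) →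
      g ∈ Subgroup.closure (R Q) := by
  intro d
  induction d with
  | zero =>
    intro g hg
    have : g = 1 := by
      apply iso_ext
      intro x
      rw [one_mulVec']
      conv_lhs => rw [← b.sum_repr x]
      conv_rhs => rw [← b.sum_repr x]
      rw [Matrix.mulVec_sum]
      apply Finset.sum_congr rfl
      intro i _
      rw [Matrix.mulVec_smul, hg i (by simp)]
    rw [this]
    exact Subgroup.one_mem _
  | succ d ih =>
    intro g hg
    by_cases hd : d < N
    · have hkN : N - d - 1 < N := by omega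
      obtain ⟨r, hr, hr1, hr2⟩ := exists_fix h2 g (b ⟨N - d - 1, hkN⟩) (haniso ⟨N - d - 1, hkN⟩)
      have hrg : r * g ∈ Subgroup.closure (R Q) := by
        apply ih
        intro i hi
        by_cases hik : i = ⟨N - d - 1, hkN⟩
        · rw [hik]; exact hr1
        · have hi' : (i : ℕ) + (d + 1) < N := by
            have h3 : (i : ℕ) ≠ N - d - 1 := by
              intro h4
              apply hik
              apply Fin.ext
              exact h4
            omega
          have hgi := hg i hi'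
          rw [mul_mulVec, hgi]
          apply hr2
          · exact hortho _ i (Ne.symm hik)
          · rw [← hgi, iso_polar]
            exact hortho _ i (Ne.symm hik)
      have : g = r⁻¹ * (r * g) := by group
      rw [this]
      exact Subgroup.mul_mem _ (Subgroup.inv_mem _ hr) hrg
    · apply ih
      intro i hi
      exfalso
      omega

/-- existence of an orthogonal anisotropic basis -/
theorem exists_orthogonal_basis (h2 : (2 : F) ≠ 0)
    (hQ : (QuadraticMap.polarBilin Q).Nondegenerate) :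
    ∃ b : Module.Basis (Fin (Module.finrank F (Fin n → F))) F (Fin n → F),
      (∀ i j, i ≠ j → QuadraticMap.polar (⇑Q) (b i) (b j) = 0) ∧ ∀ i, Q (b i) ≠ 0 := by
  classical
  haveI : Invertible (2 : F) := invertibleOfNonzero h2
  have hsymm : LinearMap.IsSymm (QuadraticMap.polarBilin Q) := by
    refine ⟨fun x y => ?_⟩
    simp [QuadraticMap.polar_comm]
  obtain ⟨b, hb⟩ := LinearMap.BilinForm.exists_orthogonal_basis hsymm
  rw [LinearMap.isOrthoᵢ_def] at hb
  have hortho : ∀ i j, i ≠ j → QuadraticMap.polar (⇑Q) (b i) (b j) = 0 := fun i j hij => hb i j hij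
  refine ⟨b, hortho, ?_⟩
  intro i h0
  have h1 : ∀ x, QuadraticMap.polarBilin Q (b i) x = 0 := by
    intro x
    rw [← b.sum_repr x, map_sum]
    apply Finset.sum_eq_zero
    intro j _
    rw [map_smul, smul_eq_mul]
    by_cases hij : i = j
    · rw [← hij]
      show _ * QuadraticMap.polar (⇑Q) (b i) (b i) = 0
      rw [polar_self, h0, mul_zero, mul_zero]
    · show _ * QuadraticMap.polar (⇑Q) (b i) (b j) = 0
      rw [hortho i j hij, mul_zero]
  exact b.ne_zero i (hQ.1 _ h1)

/-- the isometry group is generated by reflections in odd characteristic -/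
theorem closure_R_eq_top (h2 : (2 : F) ≠ 0) (hQ : (QuadraticMap.polarBilin Q).Nondegenerate) :
    Subgroup.closure (R Q) = ⊤ := by
  obtain ⟨b, hortho, haniso⟩ := exists_orthogonal_basis h2 hQ
  rw [eq_top_iff]
  intro g _
  apply closure_aux h2 b hortho haniso (Module.finrank F (Fin n → F)) g
  intro i hi
  exfalso
  omega

end CD

end Cfsg.Agent.Lib.Helper2
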