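import Mathlib
import Cfsg.Agent.Lib.Helper4.OQ1

/-!
# S4330 package G1 (helper8's skeleton): regular vectors for `p`-groups of symplectic type, `p` odd

`exists_regular_vector`: a finite `p`-group `Q` (`p` odd) acting on a finite abelian `p'`-group `V`,
with an invariant subgroup `U ≠ 0` on which a central element `z` of order `p` acts fixed-point-freely,
all commutators in `⟨z⟩`, cyclic centre `≤ ⟨c⟩` and `Ω₁(Z(Q)) ≤ ⟨z⟩`, has a regular vector in `U`.
-/

set_option autoImplicit false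

namespace Cfsg.Agent.Lib.Carve.G1

open scoped commutatorElement Pointwise

universe u w

section powers
variable {Q : Type w} [Group Q]

theorem g1_pow_mod {z : Q} {p : ℕ} (hzp : z ^ p = 1) (n : ℕ) : z ^ n = z ^ (n % p) := by
  conv_lhs => rw [← Nat.div_add_mod n p, pow_add, pow_mul, hzp, one_pow, one_mul]

theorem g1_pow_eq_one_of_dvd {z : Q} {p n : ℕ} (hzp : z ^ p = 1) (h : p ∣ n) : z ^ n = 1 := by
  obtain ⟨k, rfl⟩ := h
  rw [pow_mul, hzp, one_pow]

theorem g1_exists_pow {z x : Q} {p : ℕ} (hp : 0 < p) (hzp : z ^ p = 1)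
    (h : x ∈ Subgroup.zpowers z) : ∃ n : ℕ, z ^ n = x := by
  obtain ⟨k, rfl⟩ := Subgroup.mem_zpowers_iff.mp h
  have hzp' : z ^ (p : ℤ) = 1 := by rw [zpow_natCast]; exact hzp
  refine ⟨(k % (p : ℤ)).toNat, ?_⟩
  rw [zpow_eq_zpow_emod k hzp']
  have h2 : 0 ≤ k % (p : ℤ) := Int.emod_nonneg _ (by exact_mod_cast hp.ne')
  conv_rhs => rw [← Int.toNat_of_nonneg h2]
  rw [zpow_natCast]

/-- if `p ∤ t` and `z ^ p = 1` then `z` is a power of `z ^ t`. -/
theorem g1_exists_pow_pow {z : Q} {p t : ℕ} (hp : p.Prime) (hzp : z ^ p = 1) (ht : ¬ p ∣ t) :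
    ∃ m : ℕ, (z ^ t) ^ m = z := by
  have hcop : Nat.Coprime t p := ((Nat.Prime.coprime_iff_not_dvd hp).mpr ht).symm
  obtain ⟨m, -, hm⟩ := Nat.exists_mul_mod_eq_one_of_coprime hcop hp.one_lt
  refine ⟨m, ?_⟩
  rw [← pow_mul, g1_pow_mod hzp, hm, pow_one]

/-- transfer of `zpowers` membership to a subgroup. -/
theorem g1_mem_zpowers_subtype (H : Subgroup Q) (a b : H) (h : (a : Q) ∈ Subgroup.zpowers (b : Q)) :
    a ∈ Subgroup.zpowers b := by
  obtain ⟨k, hk⟩ := Subgroup.mem_zpowers_iff.mp h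
  refine Subgroup.mem_zpowers_iff.mpr ⟨k, Subtype.ext ?_⟩
  rw [Subgroup.coe_zpow]
  exact hk

end powers

section action
variable {p : ℕ} {Q : Type w} {V : Type u} [Group Q] [AddCommGroup V] [DistribMulAction Q V]

theorem g1_pow_smul_fix {g : Q} {v : V} (h : g • v = v) (n : ℕ) : g ^ n • v = v := by
  induction n with
  | zero => simp
  | succ n ih => rw [pow_succ, mul_smul, h, ih]

/-- `g` fixes `∑_{k<p} g^k • u` when `g^p = 1`. -/
theorem g1_smul_sum_pow {g : Q} (hg : g ^ p = 1) (u : V) :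
    g • (∑ k ∈ Finset.range p, g ^ k • u) = ∑ k ∈ Finset.range p, g ^ k • u := by
  have h1 : g • (∑ k ∈ Finset.range p, g ^ k • u) = ∑ k ∈ Finset.range p, g ^ (k + 1) • u := by
    rw [Finset.smul_sum]
    refine Finset.sum_congr rfl (fun k _ => ?_)
    rw [smul_smul, ← pow_succ']
  rw [h1]
  have h2 := Finset.sum_range_succ' (fun k => g ^ k • u) p
  have h3 := Finset.sum_range_succ (fun k => g ^ k • u) p
  simp only [pow_zero, one_smul, hg] at h2 h3
  rw [h3] at h2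
  exact (add_right_cancel h2).symm

theorem g1_sum_mem (U : AddSubgroup V) (hU : ∀ q : Q, ∀ u ∈ U, q • u ∈ U) (f : ℕ → Q) (u : V)
    (hu : u ∈ U) (n : ℕ) : (∑ k ∈ Finset.range n, f k • u) ∈ U :=
  AddSubgroup.sum_mem _ (fun _ _ => hU _ _ hu)

/-- the key vanishing lemma: `∑_{m<p} z^(t m) u = 0` when `p ∤ t` and `z` is fixed-point-free. -/
theorem g1_sum_pow_smul_eq_zero (hp : p.Prime) (U : AddSubgroup V)
    (hU : ∀ q : Q, ∀ u ∈ U, q • u ∈ U) (z : Q) (hzp : z ^ p = 1)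
    (hfpf : ∀ u ∈ U, z • u = u → u = 0) (t : ℕ) (ht : ¬ p ∣ t) (u : V) (hu : u ∈ U) :
    ∑ m ∈ Finset.range p, z ^ (t * m) • u = 0 := by
  have hS : (∑ m ∈ Finset.range p, z ^ (t * m) • u) ∈ U := g1_sum_mem U hU _ u hu p
  apply hfpf _ hS
  have hzt : (z ^ t) ^ p = 1 := by rw [← pow_mul, mul_comm, pow_mul, hzp, one_pow]
  have h1 := g1_smul_sum_pow (V := V) hzt u
  simp only [← pow_mul] at h1
  obtain ⟨m, hm⟩ := g1_exists_pow_pow hp hzp ht
  have h2 := g1_pow_smul_fix h1 m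
  rw [hm] at h2
  exact h2

theorem g1_pow_smul_eigen (e z : Q) (hze : Commute z e) (u : V) (l : ℕ)
    (hu : e • u = z ^ l • u) (m : ℕ) : e ^ m • u = z ^ (l * m) • u := by
  induction m with
  | zero => simp
  | succ m ih =>
    rw [pow_succ, mul_smul, hu, smul_smul, ((hze.pow_left l).pow_right m).symm.eq, mul_smul, ih,
      smul_smul, ← pow_add]
    congr 2
    ring

/-- the projection lemma: on a `z^l`-eigenvector of `e`, the operator `∑_m (z^t e)^m` is `p` if
`p ∣ t + l` and `0` otherwise. -/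
theorem g1_proj (hp : p.Prime) (U : AddSubgroup V)
    (hU : ∀ q : Q, ∀ u ∈ U, q • u ∈ U) (z e : Q) (hze : Commute z e) (hzp : z ^ p = 1)
    (hfpf : ∀ u ∈ U, z • u = u → u = 0) (t l : ℕ) (u : V) (hu : u ∈ U)
    (he : e • u = z ^ l • u) :
    ∑ m ∈ Finset.range p, (z ^ t * e) ^ m • u = if p ∣ t + l then p • u else 0 := by
  have hterm : ∀ m : ℕ, (z ^ t * e) ^ m • u = z ^ ((t + l) * m) • u := by
    intro m
    rw [(hze.pow_left t).mul_pow, mul_smul, g1_pow_smul_eigen e z hze u l he m, smul_smul,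
      ← pow_mul, ← pow_add]
    congr 2
    ring
  simp only [hterm]
  split_ifs with h
  · have : ∀ m : ℕ, z ^ ((t + l) * m) • u = u := by
      intro m
      rw [g1_pow_eq_one_of_dvd hzp (Dvd.dvd.mul_right h m), one_smul]
    simp only [this, Finset.sum_const, Finset.card_range]
  · exact g1_sum_pow_smul_eq_zero hp U hU z hzp hfpf (t + l) h u hu

end action


section relations
variable {p : ℕ} {Q : Type w} [Group Q]

/-- from a commutator in `⟨z⟩`: `g * x = z^k * x * g`. -/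
theorem g1_rel_of_comm {z : Q} (hp : 0 < p) (hzp : z ^ p = 1)
    (hcomm : ∀ x y : Q, ⁅x, y⁆ ∈ Subgroup.zpowers z) (g x : Q) :
    ∃ k : ℕ, g * x = z ^ k * x * g := by
  obtain ⟨k, hk⟩ := g1_exists_pow hp hzp (hcomm g x)
  refine ⟨k, ?_⟩
  rw [hk, commutatorElement_def]
  group

theorem g1_rel_pow_right {z e y : Q} (hz : ∀ g : Q, Commute g z) {a : ℕ}
    (hey : e * y = z ^ a * y * e) (k : ℕ) : e * y ^ k = z ^ (a * k) * y ^ k * e := by
  have h1 : e * y * e⁻¹ = z ^ a * y := by rw [hey]; group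
  have h2 : e * y ^ k * e⁻¹ = (z ^ a * y) ^ k := by rw [← h1, conj_pow]
  have h3 : (z ^ a * y) ^ k = (z ^ a) ^ k * y ^ k := ((hz y).pow_right a).symm.mul_pow k
  rw [h3, ← pow_mul] at h2
  rw [← h2]
  group

theorem g1_rel_pow_left {z e y : Q} (hz : ∀ g : Q, Commute g z) {a : ℕ}
    (hey : e * y = z ^ a * y * e) (i : ℕ) : e ^ i * y = z ^ (a * i) * y * e ^ i := by
  have hzc : y⁻¹ * z ^ a = z ^ a * y⁻¹ := ((hz y⁻¹).pow_right a).eq
  have h1 : y⁻¹ * e * y⁻¹⁻¹ = z ^ a * e := by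
    calc y⁻¹ * e * y⁻¹⁻¹ = y⁻¹ * (e * y) := by rw [inv_inv, mul_assoc]
      _ = y⁻¹ * (z ^ a * y * e) := by rw [hey]
      _ = (y⁻¹ * z ^ a) * y * e := by group
      _ = z ^ a * y⁻¹ * y * e := by rw [hzc]
      _ = z ^ a * e := by group
  have h2 : y⁻¹ * e ^ i * y⁻¹⁻¹ = (z ^ a * e) ^ i := by rw [← h1, conj_pow]
  have h3 : (z ^ a * e) ^ i = (z ^ a) ^ i * e ^ i := ((hz e).pow_right a).symm.mul_pow i
  rw [h3, ← pow_mul, inv_inv] at h2
  have hzc2 : y * z ^ (a * i) = z ^ (a * i) * y := ((hz y).pow_right (a * i)).eq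
  calc e ^ i * y = y * (y⁻¹ * e ^ i * y) := by group
    _ = y * (z ^ (a * i) * e ^ i) := by rw [h2]
    _ = z ^ (a * i) * y * e ^ i := by rw [← mul_assoc, hzc2]

/-- every element is `y^j e^i g'` with `g'` centralizing `e` and `y`. -/
theorem g1_decomp {z e y : Q} (hp : 0 < p) (hz : ∀ g : Q, Commute g z) (hzp : z ^ p = 1)
    (hey : e * y = z * y * e) (hrel : ∀ g x : Q, ∃ k : ℕ, g * x = z ^ k * x * g) (g : Q) :
    ∃ (j i : ℕ) (g' : Q), g' * e = e * g' ∧ g' * y = y * g' ∧ g = y ^ j * e ^ i * g' := by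
  obtain ⟨a, ha⟩ := hrel g e
  obtain ⟨b, hb⟩ := hrel g y
  have hey1 : e * y = z ^ 1 * y * e := by rw [pow_one]; exact hey
  have hzc : ∀ (n : ℕ) (x : Q), x * z ^ n = z ^ n * x := fun n x => ((hz x).pow_right n).eq
  obtain ⟨p', rfl⟩ : ∃ p', p = p' + 1 := ⟨p - 1, by omega⟩
  have hja : z ^ a * z ^ (p' * a) = 1 := by
    rw [← pow_add]
    apply g1_pow_eq_one_of_dvd hzp
    exact ⟨a, by ring⟩
  have h1 : e * y ^ (p' * a) = z ^ (p' * a) * y ^ (p' * a) * e := by
    have := g1_rel_pow_right hz hey1 (p' * a)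
    rwa [one_mul] at this
  have h2 : e ^ b * y = z ^ b * y * e ^ b := by
    have := g1_rel_pow_left hz hey1 b
    rwa [one_mul] at this
  set h : Q := y ^ (p' * a) * e ^ b with hh
  have heh : h * e * h⁻¹ = z ^ a * e := by
    have h3 : e * h = z ^ (p' * a) * h * e := by
      calc e * h = (e * y ^ (p' * a)) * e ^ b := by rw [hh]; group
        _ = z ^ (p' * a) * y ^ (p' * a) * e * e ^ b := by rw [h1]
        _ = z ^ (p' * a) * y ^ (p' * a) * (e ^ b * e) := by
          rw [mul_assoc _ e, ← pow_succ', pow_succ]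
        _ = z ^ (p' * a) * h * e := by rw [hh]; group
    have h4 : h * e * h⁻¹ = (z ^ (p' * a))⁻¹ * e := by
      have : e = z ^ (p' * a) * h * e * h⁻¹ := by rw [← h3]; group
      calc h * e * h⁻¹ = (z ^ (p' * a))⁻¹ * (z ^ (p' * a) * h * e * h⁻¹) := by group
        _ = (z ^ (p' * a))⁻¹ * e := by rw [← this]
    rw [h4]
    congr 1
    exact inv_eq_of_mul_eq_one_left hja
  have hyh : h * y * h⁻¹ = z ^ b * y := by
    have h3 : h * y = z ^ b * y * h := by
      calc h * y = y ^ (p' * a) * (e ^ b * y) := by rw [hh]; group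
        _ = y ^ (p' * a) * (z ^ b * y * e ^ b) := by rw [h2]
        _ = (y ^ (p' * a) * z ^ b) * y * e ^ b := by group
        _ = z ^ b * (y ^ (p' * a) * y) * e ^ b := by rw [hzc b]; group
        _ = z ^ b * (y * y ^ (p' * a)) * e ^ b := by rw [← pow_succ, pow_succ']
        _ = z ^ b * y * h := by rw [hh]; group
    rw [h3]
    group
  have hge : g * e * g⁻¹ = z ^ a * e := by rw [ha]; group
  have hgy : g * y * g⁻¹ = z ^ b * y := by rw [hb]; group
  refine ⟨p' * a, b, h⁻¹ * g, ?_, ?_, ?_⟩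
  · have hc : (h⁻¹ * g) * e * (h⁻¹ * g)⁻¹ = e := by
      calc (h⁻¹ * g) * e * (h⁻¹ * g)⁻¹ = h⁻¹ * (g * e * g⁻¹) * h := by group
        _ = h⁻¹ * (h * e * h⁻¹) * h := by rw [hge, heh]
        _ = e := by group
    calc h⁻¹ * g * e = (h⁻¹ * g * e * (h⁻¹ * g)⁻¹) * (h⁻¹ * g) := by group
      _ = e * (h⁻¹ * g) := by rw [hc]
  · have hc : (h⁻¹ * g) * y * (h⁻¹ * g)⁻¹ = y := by
      calc (h⁻¹ * g) * y * (h⁻¹ * g)⁻¹ = h⁻¹ * (g * y * g⁻¹) * h := by group
        _ = h⁻¹ * (h * y * h⁻¹) * h := by rw [hgy, hyh]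
        _ = y := by group
    calc h⁻¹ * g * y = (h⁻¹ * g * y * (h⁻¹ * g)⁻¹) * (h⁻¹ * g) := by group
      _ = y * (h⁻¹ * g) := by rw [hc]
  · rw [← hh]
    group

end relations

section fixedvec
variable {p : ℕ} {Q : Type w} {V : Type u} [Group Q] [AddCommGroup V] [DistribMulAction Q V]

/-- some `z^m e` has a nonzero fixed vector in `U`. -/
theorem g1_exists_fixed (hp : p.Prime) (htf : ∀ v : V, p • v = 0 → v = 0) (U : AddSubgroup V)
    (hU : ∀ q : Q, ∀ u ∈ U, q • u ∈ U) (z e : Q) (hze : Commute z e) (hzp : z ^ p = 1)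
    (hep : e ^ p = 1) (hfpf : ∀ u ∈ U, z • u = u → u = 0) (u : V) (hu : u ∈ U) (hu0 : u ≠ 0) :
    ∃ m : ℕ, ∃ w ∈ U, w ≠ 0 ∧ (z ^ m * e) • w = w := by
  by_contra hcon
  push_neg at hcon
  have hpow : ∀ m : ℕ, (z ^ m * e) ^ p = 1 := by
    intro m
    rw [(hze.pow_left m).mul_pow, hep, ← pow_mul, mul_comm, pow_mul, hzp, one_pow, one_mul]
  have hw : ∀ m : ℕ, ∑ k ∈ Finset.range p, (z ^ m * e) ^ k • u = 0 := by
    intro m
    by_contra h
    exact hcon m _ (g1_sum_mem U hU _ u hu p) h (g1_smul_sum_pow (hpow m) u)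
  have hsum : ∑ m ∈ Finset.range p, ∑ k ∈ Finset.range p, (z ^ m * e) ^ k • u = 0 :=
    Finset.sum_eq_zero (fun m _ => hw m)
  rw [Finset.sum_comm] at hsum
  have hinner : ∀ k ∈ Finset.range p,
      ∑ m ∈ Finset.range p, (z ^ m * e) ^ k • u = if k = 0 then p • u else 0 := by
    intro k hk
    have hterm : ∀ m : ℕ, (z ^ m * e) ^ k • u = z ^ (k * m) • (e ^ k • u) := by
      intro m
      rw [(hze.pow_left m).mul_pow, mul_smul, ← pow_mul, mul_comm m k]
    simp only [hterm]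
    split_ifs with h
    · subst h
      simp
    · apply g1_sum_pow_smul_eq_zero hp U hU z hzp hfpf k _ _ (hU _ _ hu)
      intro hdvd
      have := Nat.le_of_dvd (Nat.pos_of_ne_zero h) hdvd
      have := Finset.mem_range.mp hk
      omega
  rw [Finset.sum_congr rfl hinner, Finset.sum_ite_eq'] at hsum
  rw [if_pos (Finset.mem_range.mpr hp.pos)] at hsum
  exact hu0 (htf u hsum)

end fixedvec

section final
variable {p : ℕ} {Q : Type w} {V : Type u} [Group Q] [AddCommGroup V] [DistribMulAction Q V]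

theorem g1_sum_smul_add (f : ℕ → Q) (a b : V) (n : ℕ) :
    ∑ m ∈ Finset.range n, f m • (a + b) =
      ∑ m ∈ Finset.range n, f m • a + ∑ m ∈ Finset.range n, f m • b := by
  rw [← Finset.sum_add_distrib]
  exact Finset.sum_congr rfl (fun m _ => smul_add _ _ _)

theorem g1_final (hp : p.Prime) (hp2 : p ≠ 2) (htf : ∀ v : V, p • v = 0 → v = 0)
    (U : AddSubgroup V)
    (hU : ∀ q : Q, ∀ u ∈ U, q • u ∈ U) (z e y : Q) (hz : ∀ g : Q, Commute g z) (hzp : z ^ p = 1)
    (hfpf : ∀ u ∈ U, z • u = u → u = 0) (hep : e ^ p = 1) (hey : e * y = z * y * e)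
    (hyp : ∀ g : Q, g * y ^ p = y ^ p * g)
    (hdec : ∀ g : Q, ∃ (j i : ℕ) (g' : Q),
      g' * e = e * g' ∧ g' * y = y * g' ∧ g = y ^ j * e ^ i * g')
    (w0 : V) (hw0U : w0 ∈ U) (hw0 : w0 ≠ 0) (hew0 : e • w0 = w0)
    (hreg : ∀ q : Q, q * e = e * q → q * y = y * q → q • w0 = w0 → q = 1) :
    ∀ g : Q, g • (w0 + y • w0) = w0 + y • w0 → g = 1 := by
  intro g hg
  obtain ⟨j, i, g', hg'e, hg'y, rfl⟩ := hdec g
  have hey1 : e * y = z ^ 1 * y * e := by rw [pow_one]; exact hey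
  have hze : Commute z e := (hz e).symm
  have hw1U : g' • w0 ∈ U := hU _ _ hw0U
  have hew1 : e • (g' • w0) = g' • w0 := by rw [smul_smul, ← hg'e, mul_smul, hew0]
  have hgA : (y ^ j * e ^ i * g') • w0 = y ^ j • (g' • w0) := by
    rw [mul_smul, mul_smul, g1_pow_smul_fix hew1]
  have hgB : (y ^ j * e ^ i * g') • (y • w0) = z ^ i • (y ^ (j + 1) • (g' • w0)) := by
    have h1 : e ^ i * y = z ^ i * y * e ^ i := by
      have := g1_rel_pow_left hz hey1 i
      rwa [one_mul] at this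
    have hzy : y ^ j * z ^ i = z ^ i * y ^ j := ((hz (y ^ j)).pow_right i).eq
    calc (y ^ j * e ^ i * g') • (y • w0) = (y ^ j * e ^ i * (g' * y)) • w0 := by
          rw [smul_smul]; congr 1; group
      _ = (y ^ j * (e ^ i * y) * g') • w0 := by rw [hg'y]; congr 1; group
      _ = (y ^ j * (z ^ i * y * e ^ i) * g') • w0 := by rw [h1]
      _ = (y ^ j * z ^ i * y * e ^ i * g') • w0 := by congr 1; group
      _ = (z ^ i * (y ^ j * y) * e ^ i * g') • w0 := by rw [hzy]; congr 1; group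
      _ = z ^ i • (y ^ (j + 1) • (g' • w0)) := by
          rw [← pow_succ, mul_smul, mul_smul, mul_smul, g1_pow_smul_fix hew1]
  rw [smul_add, hgA, hgB] at hg
  -- eigen relations
  have hAU : y ^ j • (g' • w0) ∈ U := hU _ _ hw1U
  have hBU : z ^ i • (y ^ (j + 1) • (g' • w0)) ∈ U := hU _ _ (hU _ _ hw1U)
  have hyU : y • w0 ∈ U := hU _ _ hw0U
  have heA : e • (y ^ j • (g' • w0)) = z ^ j • (y ^ j • (g' • w0)) := by
    have := g1_rel_pow_right hz hey1 j
    rw [one_mul] at this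
    rw [smul_smul, this, mul_smul, mul_smul, hew1]
  have heB : e • (z ^ i • (y ^ (j + 1) • (g' • w0)))
      = z ^ (j + 1) • (z ^ i • (y ^ (j + 1) • (g' • w0))) := by
    have := g1_rel_pow_right hz hey1 (j + 1)
    rw [one_mul] at this
    calc e • (z ^ i • (y ^ (j + 1) • (g' • w0)))
        = (z ^ i * (e * y ^ (j + 1))) • (g' • w0) := by
          rw [smul_smul, smul_smul, ← mul_assoc, (hze.pow_left i).eq]
      _ = (z ^ i * (z ^ (j + 1) * y ^ (j + 1) * e)) • (g' • w0) := by rw [this]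
      _ = (z ^ (j + 1) * z ^ i * y ^ (j + 1) * e) • (g' • w0) := by
          congr 1
          rw [← mul_assoc, ← mul_assoc, ← pow_add, ← pow_add, add_comm]
      _ = z ^ (j + 1) • (z ^ i • (y ^ (j + 1) • (g' • w0))) := by
          rw [mul_smul, mul_smul, mul_smul, hew1]
  have hew0' : e • w0 = z ^ 0 • w0 := by rw [pow_zero, one_smul, hew0]
  have hey0 : e • (y • w0) = z ^ 1 • (y • w0) := by
    rw [smul_smul, hey1, mul_smul, mul_smul, hew0]
  have hP : ∀ t : ℕ, (if p ∣ t + j then p • (y ^ j • (g' • w0)) else 0)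
      + (if p ∣ t + (j + 1) then p • (z ^ i • (y ^ (j + 1) • (g' • w0))) else 0)
      = (if p ∣ t + 0 then p • w0 else 0) + (if p ∣ t + 1 then p • (y • w0) else 0) := by
    intro t
    rw [← g1_proj hp U hU z e hze hzp hfpf t j _ hAU heA,
      ← g1_proj hp U hU z e hze hzp hfpf t (j + 1) _ hBU heB,
      ← g1_proj hp U hU z e hze hzp hfpf t 0 _ hw0U hew0',
      ← g1_proj hp U hU z e hze hzp hfpf t 1 _ hyU hey0,
      ← g1_sum_smul_add, ← g1_sum_smul_add, hg]
  have hp1 : ¬ p ∣ 1 := by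
    intro h
    exact hp.one_lt.ne' (Nat.dvd_one.mp h)
  have hpp : ¬ p ∣ p - 1 := by
    intro h
    have := Nat.le_of_dvd (by have := hp.two_le; omega) h
    have := hp.two_le
    omega
  have hyw0 : y • w0 ≠ 0 := fun h => hw0 ((smul_eq_zero_iff_eq y).mp h)
  have hpsucc : p - 1 + 1 = p := by have := hp.two_le; omega
  by_cases hj : p ∣ j
  · -- case 1
    have hj1 : ¬ p ∣ j + 1 := fun h => hp1 ((Nat.dvd_add_right hj).mp h)
    have h0 := hP 0
    have h1 := hP (p - 1)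
    have e1 : ¬ p ∣ p - 1 + j := fun h => hpp ((Nat.dvd_add_left hj).mp h)
    have e2 : p ∣ p - 1 + (j + 1) := by
      have : p - 1 + (j + 1) = p + j := by omega
      rw [this]; exact Dvd.dvd.add (dvd_refl p) hj
    simp only [zero_add, add_zero, if_pos hj, if_neg hj1, if_pos (dvd_zero p), if_neg hp1] at h0
    rw [if_neg e1, if_pos e2, if_neg (by rw [add_zero]; exact hpp),
      if_pos (by rw [hpsucc]), zero_add, zero_add] at h1
    have hA : y ^ j • (g' • w0) = w0 := by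
      have : p • (y ^ j • (g' • w0) - w0) = 0 := by rw [smul_sub, h0, sub_self]
      exact sub_eq_zero.mp (htf _ this)
    have hB : z ^ i • (y ^ (j + 1) • (g' • w0)) = y • w0 := by
      have : p • (z ^ i • (y ^ (j + 1) • (g' • w0)) - y • w0) = 0 := by
        rw [smul_sub, h1, sub_self]
      exact sub_eq_zero.mp (htf _ this)
    have hyjc : ∀ x : Q, x * y ^ j = y ^ j * x := by
      intro x
      obtain ⟨q, rfl⟩ := hj
      rw [pow_mul]
      exact (Commute.pow_right (hyp x) q).eq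
    have hone : y ^ j * g' = 1 := by
      apply hreg
      · rw [mul_assoc, hg'e, ← mul_assoc, ← hyjc e, mul_assoc]
      · rw [mul_assoc, hg'y, ← mul_assoc, ← hyjc y, mul_assoc]
      · rw [mul_smul, hA]
    have hB2 : z ^ i • (y • w0) = y • w0 := by
      have : y ^ (j + 1) • (g' • w0) = y • w0 := by
        rw [pow_succ', mul_smul, hA]
      rw [this] at hB
      exact hB
    have hi : p ∣ i := by
      by_contra hi
      obtain ⟨m, hm⟩ := g1_exists_pow_pow hp hzp hi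
      have := g1_pow_smul_fix hB2 m
      rw [hm] at this
      exact hyw0 (hfpf _ hyU this)
    rw [g1_pow_eq_one_of_dvd hep hi, mul_one, hone]
  · by_cases hj1 : p ∣ j + 1
    · -- case 2
      have h1 := hP (p - 1)
      have e1 : ¬ p ∣ p - 1 + j := by
        intro h
        -- p ∣ (p - 1 + j) and p ∣ j + 1 ⇒ p ∣ p - 2 ... 
        have h2 : p ∣ (p - 1 + j) + 2 := by
          have : p - 1 + j + 2 = p + (j + 1) := by have := hp.two_le; omega
          rw [this]; exact Dvd.dvd.add (dvd_refl p) hj1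
        have h3 : p ∣ 2 := (Nat.dvd_add_right h).mp h2
        have := Nat.le_of_dvd (by norm_num) h3
        have := hp.two_le
        omega
      have e2 : ¬ p ∣ p - 1 + (j + 1) := by
        have : p - 1 + (j + 1) = p + j := by have := hp.two_le; omega
        rw [this]
        exact fun h => hj ((Nat.dvd_add_right (dvd_refl p)).mp h)
      rw [if_neg e1, if_neg e2, if_neg (by rw [add_zero]; exact hpp),
        if_pos (by rw [hpsucc]), zero_add, zero_add] at h1
      exact absurd (htf _ h1.symm) hyw0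
    · -- case 3
      have h0 := hP 0
      simp only [zero_add, add_zero, if_neg hj, if_neg hj1, if_pos (dvd_zero p), if_neg hp1] at h0
      exact absurd (htf _ h0.symm) hw0

end final

section main
variable {p : ℕ}

/-- central nontrivial elements act fixed-point-freely on `U`. -/
theorem g1_central_fpf {Q : Type w} {V : Type u} [Group Q] [AddCommGroup V] [DistribMulAction Q V]
    (hp : p.Prime) (hQ : IsPGroup p Q) (U : AddSubgroup V) (z : Q) (hzp : z ^ p = 1)
    (hfpf : ∀ u ∈ U, z • u = u → u = 0)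
    (hΩ : ∀ q ∈ Subgroup.center Q, q ^ p = 1 → q ∈ Subgroup.zpowers z)
    (q : Q) (hqc : q ∈ Subgroup.center Q) (hq1 : q ≠ 1) (u : V) (hu : u ∈ U) (hqu : q • u = u) :
    u = 0 := by
  classical
  obtain ⟨k, hk⟩ := hQ q
  have hex : ∃ k, q ^ p ^ k = 1 := ⟨k, hk⟩
  have hk0s : q ^ p ^ (Nat.find hex) = 1 := Nat.find_spec hex
  have hk0pos : Nat.find hex ≠ 0 := by
    intro h
    rw [h, pow_zero, pow_one] at hk0s
    exact hq1 hk0s
  obtain ⟨k1, hk1⟩ : ∃ k1, Nat.find hex = k1 + 1 := ⟨Nat.find hex - 1, by omega⟩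
  have hq' : q ^ p ^ k1 ≠ 1 := by
    intro h
    have := Nat.find_min' hex h
    omega
  have hq'p : (q ^ p ^ k1) ^ p = 1 := by
    rw [← pow_mul, ← pow_succ, ← hk1]; exact hk0s
  have hq'c : q ^ p ^ k1 ∈ Subgroup.center Q := Subgroup.pow_mem _ hqc _
  obtain ⟨n, hn⟩ := g1_exists_pow hp.pos hzp (hΩ _ hq'c hq'p)
  have hpn : ¬ p ∣ n := by
    intro h
    rw [g1_pow_eq_one_of_dvd hzp h] at hn
    exact hq' hn.symm
  obtain ⟨m, hm⟩ := g1_exists_pow_pow hp hzp hpn
  apply hfpf u hu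
  rw [← hm, hn]
  exact g1_pow_smul_fix (g1_pow_smul_fix hqu _) _

/-- existence of a noncentral element of order `p`. -/
theorem g1_exists_noncentral {Q : Type w} [Group Q] [Finite Q]
    (hp : p.Prime) (hp2 : p ≠ 2) (hQ : IsPGroup p Q) (z c : Q)
    (hzc : ∀ g : Q, Commute g z) (hzp : z ^ p = 1)
    (hcomm : ∀ x y : Q, ⁅x, y⁆ ∈ Subgroup.zpowers z)
    (hcen : ∀ q ∈ Subgroup.center Q, q ∈ Subgroup.zpowers c) (hc : c ∈ Subgroup.center Q)
    (hpow_cen : ∀ x g : Q, g * x ^ p = x ^ p * g)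
    (x0 y0 : Q) (hxy : x0 * y0 ≠ y0 * x0) :
    ∃ e0 : Q, e0 ^ p = 1 ∧ ∃ y1 : Q, ¬ Commute e0 y1 := by
  have : Fact p.Prime := ⟨hp⟩
  obtain ⟨N, hN⟩ := IsPGroup.iff_card.mp hQ
  have hcN : c ^ p ^ N = 1 := by rw [← hN]; exact pow_card_eq_one'
  have hx0p : x0 ^ p ∈ Subgroup.center Q :=
    Subgroup.mem_center_iff.mpr (fun g => hpow_cen x0 g)
  obtain ⟨s, hs⟩ := g1_exists_pow (pow_pos hp.pos N) hcN (hcen _ hx0p)
  have hccen : ∀ (k : ℕ) (g : Q), Commute g (c ^ k) := fun k g =>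
    Commute.pow_right (Subgroup.mem_center_iff.mp hc g) k
  by_cases hps : p ∣ s
  · obtain ⟨s', rfl⟩ := hps
    refine ⟨x0 * (c ^ s')⁻¹, ?_, y0, ?_⟩
    · have hcomm1 : Commute x0 (c ^ s')⁻¹ := Commute.inv_right (hccen s' x0)
      rw [hcomm1.mul_pow, ← hs, inv_pow, ← pow_mul, mul_comm s' p, mul_inv_cancel]
    · intro h
      have h2 : Commute (c ^ s') y0 := (hccen s' y0).symm
      have := Commute.mul_left h h2
      rw [inv_mul_cancel_right] at this
      exact hxy this.eq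
  · have hN1 : 1 < p ^ N := by
      rw [← hN]
      exact Finite.one_lt_card_iff_nontrivial.mpr ⟨⟨x0 * y0, y0 * x0, hxy⟩⟩
    have hcop : Nat.Coprime s (p ^ N) :=
      Nat.Coprime.pow_right N ((Nat.Prime.coprime_iff_not_dvd hp).mpr hps).symm
    obtain ⟨t, -, ht⟩ := Nat.exists_mul_mod_eq_one_of_coprime hcop hN1
    have hc_eq : (x0 ^ p) ^ t = c := by rw [← hs, ← pow_mul, g1_pow_mod hcN, ht, pow_one]
    have hy0p : y0 ^ p ∈ Subgroup.center Q :=
      Subgroup.mem_center_iff.mpr (fun g => hpow_cen y0 g)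
    obtain ⟨r, hr⟩ := g1_exists_pow (pow_pos hp.pos N) hcN (hcen _ hy0p)
    have hy0p' : y0 ^ p = (x0 ^ (t * r)) ^ p := by
      rw [← hr, ← hc_eq, ← pow_mul, ← pow_mul, ← pow_mul]
      congr 1
      ring
    refine ⟨y0 * (x0 ^ (t * r))⁻¹, ?_, x0, ?_⟩
    · rw [Cfsg.Agent.Lib.Helper4.OQ.mul_pow_prime_of_comm_central hp2 y0 (x0 ^ (t * r))⁻¹ ?_ ?_,
        hy0p', inv_pow, mul_inv_cancel]
      · intro g
        obtain ⟨k, hk⟩ := g1_exists_pow hp.pos hzp (hcomm ((x0 ^ (t * r))⁻¹) y0)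
        rw [← hk]
        exact ((hzc g).pow_right k).eq
      · obtain ⟨k, hk⟩ := g1_exists_pow hp.pos hzp (hcomm ((x0 ^ (t * r))⁻¹) y0)
        rw [← hk, ← pow_mul, mul_comm, pow_mul, hzp, one_pow]
    · intro h
      have h2 : Commute (x0 ^ (t * r)) x0 := (Commute.refl x0).pow_left _
      have := Commute.mul_left h h2
      rw [inv_mul_cancel_right] at this
      exact hxy this.symm.eq

theorem g1_aux (hp : p.Prime) (hp2 : p ≠ 2) {V : Type u} [AddCommGroup V]
    (htf : ∀ v : V, p • v = 0 → v = 0) :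
    ∀ n : ℕ, ∀ (Q : Type w) [Group Q] [Finite Q] [DistribMulAction Q V], Nat.card Q = n →
      IsPGroup p Q → ∀ (U : AddSubgroup V), (∀ (q : Q), ∀ u ∈ U, q • u ∈ U) → U ≠ ⊥ →
      ∀ (z c : Q), z ∈ Subgroup.center Q → z ^ p = 1 → (∀ u ∈ U, z • u = u → u = 0) →
      (∀ x y : Q, ⁅x, y⁆ ∈ Subgroup.zpowers z) →
      (∀ q ∈ Subgroup.center Q, q ∈ Subgroup.zpowers c) → c ∈ Subgroup.center Q →
      (∀ q ∈ Subgroup.center Q, q ^ p = 1 → q ∈ Subgroup.zpowers z) →
      ∃ v ∈ U, ∀ q : Q, q • v = v → q = 1 := by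
  intro n
  induction n using Nat.strong_induction_on with
  | _ n ih =>
  intro Q _ _ _ hcard hQ U hU hU0 z c hz hzp hfpf hcomm hcen hc hΩ
  have hzc : ∀ g : Q, Commute g z := fun g => Subgroup.mem_center_iff.mp hz g
  have hrel := g1_rel_of_comm hp.pos hzp hcomm
  obtain ⟨u0, hu0U, hu0⟩ : ∃ u ∈ U, u ≠ 0 := by
    by_contra h
    push_neg at h
    exact hU0 ((AddSubgroup.eq_bot_iff_forall U).mpr h)
  have hz1 : z ≠ 1 := by
    intro h
    apply hu0
    apply hfpf u0 hu0U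
    rw [h, one_smul]
  by_cases hab : ∀ x y : Q, x * y = y * x
  · refine ⟨u0, hu0U, fun q hq => ?_⟩
    by_contra hq1
    exact hu0 (g1_central_fpf hp hQ U z hzp hfpf hΩ q
      (Subgroup.mem_center_iff.mpr (fun g => hab g q)) hq1 u0 hu0U hq)
  · push_neg at hab
    obtain ⟨x0, y0, hxy⟩ := hab
    have hpow_cen : ∀ x g : Q, g * x ^ p = x ^ p * g := by
      intro x g
      obtain ⟨k, hk⟩ := hrel g x
      have := g1_rel_pow_right hzc hk p
      rw [this, g1_pow_eq_one_of_dvd hzp (Dvd.intro_left k rfl), one_mul]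
    obtain ⟨e0, he0p, y1, he0y1⟩ :=
      g1_exists_noncentral hp hp2 hQ z c hzc hzp hcomm hcen hc hpow_cen x0 y0 hxy
    obtain ⟨k, hk⟩ := hrel e0 y1
    have hpk : ¬ p ∣ k := by
      intro h
      apply he0y1
      show e0 * y1 = y1 * e0
      rw [hk, g1_pow_eq_one_of_dvd hzp h, one_mul]
    obtain ⟨m, -, hm⟩ := Nat.exists_mul_mod_eq_one_of_coprime
      ((Nat.Prime.coprime_iff_not_dvd hp).mpr hpk).symm hp.one_lt
    have hey0 : e0 * y1 ^ m = z * y1 ^ m * e0 := by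
      have := g1_rel_pow_right hzc hk m
      rw [g1_pow_mod hzp, hm, pow_one] at this
      exact this
    obtain ⟨m', w, hwU, hw0, hwfix⟩ :=
      g1_exists_fixed hp htf U hU z e0 (hzc e0).symm hzp he0p hfpf u0 hu0U hu0
    have hep : (z ^ m' * e0) ^ p = 1 := by
      rw [((hzc e0).symm.pow_left m').mul_pow, he0p, mul_one, ← pow_mul, mul_comm, pow_mul, hzp,
        one_pow]
    have hey : (z ^ m' * e0) * y1 ^ m = z * y1 ^ m * (z ^ m' * e0) := by
      calc (z ^ m' * e0) * y1 ^ m = z ^ m' * (z * y1 ^ m * e0) := by rw [mul_assoc, hey0]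
        _ = (z ^ m' * (z * y1 ^ m)) * e0 := by rw [← mul_assoc]
        _ = ((z * y1 ^ m) * z ^ m') * e0 := by rw [((hzc (z * y1 ^ m)).pow_right m').eq]
        _ = z * y1 ^ m * (z ^ m' * e0) := by rw [mul_assoc]
    generalize z ^ m' * e0 = e at hep hey hwfix
    generalize y1 ^ m = y at hey
    have hdec := g1_decomp hp.pos hzc hzp hey hrel
    have hQ'mem : ∀ g : Q, g ∈ Subgroup.centralizer ({e, y} : Set Q) ↔
        g * e = e * g ∧ g * y = y * g := by
      intro g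
      rw [Subgroup.mem_centralizer_iff]
      constructor
      · intro h
        exact ⟨(h e (by simp)).symm, (h y (by simp)).symm⟩
      · rintro ⟨h1, h2⟩ x hx
        rcases hx with rfl | rfl
        · exact h1.symm
        · exact h2.symm
    generalize Subgroup.centralizer ({e, y} : Set Q) = Q' at hQ'mem
    have heQ' : e ∉ Q' := by
      intro h
      have h2 := ((hQ'mem e).mp h).2
      rw [hey] at h2
      apply hz1
      have h3 : z * (y * e) = 1 * (y * e) := by rw [one_mul, ← mul_assoc]; exact h2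
      exact mul_right_cancel h3
    have hlt : Nat.card Q' < n := by
      rw [← hcard]
      apply lt_of_le_of_ne (Subgroup.card_le_card_group Q')
      intro h
      have h2 := Subgroup.eq_top_of_card_eq Q' h
      exact heQ' (h2 ▸ Subgroup.mem_top e)
    have hzQ' : z ∈ Q' := (hQ'mem z).mpr ⟨(hzc e).eq.symm, (hzc y).eq.symm⟩
    have hcc : ∀ g : Q, g * c = c * g := fun g => Subgroup.mem_center_iff.mp hc g
    have hcQ' : c ∈ Q' := (hQ'mem c).mpr ⟨(hcc e).symm, (hcc y).symm⟩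
    have hcenQ' : ∀ q : Q', q ∈ Subgroup.center Q' → (q : Q) ∈ Subgroup.center Q := by
      intro q hq
      rw [Subgroup.mem_center_iff] at hq ⊢
      intro g
      obtain ⟨j, i, g', hg'e, hg'y, rfl⟩ := hdec g
      have hqe := ((hQ'mem q).mp q.2).1
      have hqy := ((hQ'mem q).mp q.2).2
      have hqg' : g' * (q : Q) = q * g' := by
        have := hq ⟨g', (hQ'mem g').mpr ⟨hg'e, hg'y⟩⟩
        exact congrArg Subtype.val this
      have c1 : Commute (q : Q) (y ^ j) := Commute.pow_right hqy j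
      have c2 : Commute (q : Q) (e ^ i) := Commute.pow_right hqe i
      have c3 : Commute (q : Q) g' := hqg'.symm
      exact ((c1.mul_right c2).mul_right c3).symm.eq
    let U0 : AddSubgroup V :=
      { carrier := {u | u ∈ U ∧ e • u = u}
        zero_mem' := ⟨U.zero_mem, smul_zero e⟩
        add_mem' := fun ha hb => ⟨U.add_mem ha.1 hb.1, by rw [smul_add, ha.2, hb.2]⟩
        neg_mem' := fun ha => ⟨U.neg_mem ha.1, by rw [smul_neg, ha.2]⟩ }
    have hU0mem : ∀ u : V, u ∈ U0 ↔ u ∈ U ∧ e • u = u := fun u => Iff.rfl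
    obtain ⟨w0, hw0U0, hw0reg⟩ := ih (Nat.card Q') hlt (↥Q') rfl (hQ.to_subgroup Q') U0
      (by
        intro q u hu
        rw [hU0mem] at hu ⊢
        refine ⟨hU (q : Q) u hu.1, ?_⟩
        show e • ((q : Q) • u) = (q : Q) • u
        rw [smul_smul, ← ((hQ'mem q).mp q.2).1, mul_smul, hu.2])
      (by
        intro h
        have h2 : w ∈ U0 := ⟨hwU, hwfix⟩
        rw [h] at h2
        exact hw0 (AddSubgroup.mem_bot.mp h2))
      ⟨z, hzQ'⟩ ⟨c, hcQ'⟩
      (by
        rw [Subgroup.mem_center_iff]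
        intro g
        exact Subtype.ext (hzc g).eq)
      (Subtype.ext (by rw [Subgroup.coe_pow]; exact hzp))
      (fun u hu h => hfpf u hu.1 h)
      (fun x y => g1_mem_zpowers_subtype Q' _ _ (hcomm (x : Q) (y : Q)))
      (fun q hq => g1_mem_zpowers_subtype Q' _ _ (hcen _ (hcenQ' q hq)))
      (by
        rw [Subgroup.mem_center_iff]
        intro g
        exact Subtype.ext (hcc g))
      (fun q hq hqp => g1_mem_zpowers_subtype Q' _ _ (hΩ _ (hcenQ' q hq) (by
        have := congrArg Subtype.val hqp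
        rwa [Subgroup.coe_pow] at this)))
    have hw0ne : w0 ≠ 0 := by
      intro h
      have := hw0reg ⟨z, hzQ'⟩ (by rw [h]; exact smul_zero _)
      exact hz1 (congrArg Subtype.val this)
    refine ⟨w0 + y • w0, U.add_mem hw0U0.1 (hU _ _ hw0U0.1), ?_⟩
    apply g1_final hp hp2 htf U hU z e y hzc hzp hfpf hep hey (fun g => hpow_cen y g) hdec w0
      hw0U0.1 hw0ne hw0U0.2
    intro q hqe hqy hq
    have := hw0reg ⟨q, (hQ'mem q).mpr ⟨hqe, hqy⟩⟩ hq
    exact congrArg Subtype.val this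

end main

theorem exists_regular_vector (p : ℕ) [Fact p.Prime] (hp2 : p ≠ 2) {V : Type u} [AddCommGroup V]
    [Finite V] (hpV : (Nat.card V).Coprime p) (Q : Type w) [Group Q] [Finite Q]
    [DistribMulAction Q V] (hQ : IsPGroup p Q) (U : AddSubgroup V)
    (hU : ∀ (q : Q), ∀ u ∈ U, q • u ∈ U) (hU0 : U ≠ ⊥)
    (z c : Q) (hz : z ∈ Subgroup.center Q) (hzp : z ^ p = 1)
    (hfpf : ∀ u ∈ U, z • u = u → u = 0)
    (hcomm : ∀ x y : Q, ⁅x, y⁆ ∈ Subgroup.zpowers z)
    (hcen : ∀ q ∈ Subgroup.center Q, q ∈ Subgroup.zpowers c) (hc : c ∈ Subgroup.center Q)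
    (hΩ : ∀ q ∈ Subgroup.center Q, q ^ p = 1 → q ∈ Subgroup.zpowers z) :
    ∃ v ∈ U, ∀ q : Q, q • v = v → q = 1 := by
  have hp : p.Prime := Fact.out
  have htf : ∀ v : V, p • v = 0 → v = 0 := by
    intro v hv
    have h1 : addOrderOf v ∣ p := addOrderOf_dvd_of_nsmul_eq_zero hv
    have h2 : addOrderOf v ∣ Nat.card V := addOrderOf_dvd_natCard v
    have h3 : addOrderOf v ∣ 1 := by
      have := Nat.dvd_gcd h2 h1
      rwa [Nat.Coprime.gcd_eq_one hpV] at this
    exact AddMonoid.addOrderOf_eq_one_iff.mp (Nat.dvd_one.mp h3)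
  exact g1_aux hp hp2 htf (Nat.card Q) Q rfl hQ U hU hU0 z c hz hzp hfpf hcomm hcen hc hΩ

end Cfsg.Agent.Lib.Carve.G1
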