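import Mathlib
import Cfsg.Agent.Lib.Helper9.CubeUDefs

/-!
# Carve-outs U3b, U3c (project S2511): the cyclic tori of `SU_d(q)` (`d` odd) and `SU_{2d}(q)`

Both are obtained from (U3a) (a unitary matrix with prescribed conjugate-reciprocal separable
characteristic polynomial), which enters as a hypothesis `U3a` of the common lemma
`torus_of` below.
-/

set_option autoImplicit false

namespace Cfsg.Agent.Lib.Helper2.U3

open Polynomial Cfsg.Agent.S0278 Cfsg.Agent.Lib.Helper5.Wall Cfsg.Agent.Lib.Helper5.SUConj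
  Cfsg.Agent.Lib.Helper5.SSOrder Cfsg.Agent.Lib.Helper5.Pal Cfsg.Agent.Lib.Helper9.CubeU

universe u v

section poly

/-- shift of a periodic product in a domain -/
theorem prod_shift_one {R : Type*} [CommRing R] [IsDomain R] (h : ℕ → R) (m : ℕ)
    (hper : h m = h 0) (h0 : h 0 ≠ 0) :
    ∏ j ∈ Finset.range m, h (j + 1) = ∏ j ∈ Finset.range m, h j := by
  have h1 := Finset.prod_range_succ' h m
  have h2 := Finset.prod_range_succ h m
  rw [h1, hper] at h2
  exact mul_right_cancel₀ h0 h2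

theorem rc_X_sub_C {L : Type*} [Field L] (a : L) (ha : a ≠ 0) :
    rc (X - C a) = X - C a⁻¹ := by
  have h1 : (X - C a : L[X]) = X + C (-a) := by rw [C_neg, sub_eq_add_neg]
  have hX : (X : L[X]).reverse = 1 := by
    have := reverse_X_mul (1 : L[X])
    rw [mul_one] at this
    rw [this, ← C_1, reverse_C]
  have h2 : (X - C a : L[X]).reverse = 1 - C a * X := by
    rw [h1, reverse_add_C, hX, natDegree_X, C_neg]
    ring
  have h3 : (X - C a : L[X]).coeff 0 = -a := by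
    rw [coeff_sub, coeff_X_zero, coeff_C_zero, zero_sub]
  have h4 : C a⁻¹ * C a = (1 : L[X]) := by rw [← C_mul, inv_mul_cancel₀ ha, C_1]
  rw [rc, h2, h3, inv_neg, C_neg]
  calc -C a⁻¹ * (1 - C a * X) = C a⁻¹ * C a * X - C a⁻¹ := by ring
    _ = X - C a⁻¹ := by rw [h4, one_mul]

theorem rc_map' {K : Type*} {L : Type*} [Field K] [Field L] (φ : K →+* L) (h : K[X]) :
    rc (h.map φ) = (rc h).map φ := by
  rw [rc, rc, Polynomial.map_mul, map_C, coeff_map, map_inv₀ φ, reverse, reverse, natDegree_map,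
    reflect_map]

/-- an element of an extension fixed by `x ↦ x ^ |F|` lies in `F` -/
theorem mem_range_of_pow_card {F : Type*} {L : Type*} [Field F] [Fintype F] [Field L]
    [Algebra F L] (c : L) (hc : c ^ Fintype.card F = c) :
    c ∈ Set.range (algebraMap F L) := by
  classical
  have hcard : 1 < Fintype.card F := Fintype.one_lt_card
  have hP0 : (X ^ Fintype.card F - X : L[X]) ≠ 0 := FiniteField.X_pow_card_sub_X_ne_zero L hcard
  have hsub : Finset.univ.image (algebraMap F L) ⊆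
      (X ^ Fintype.card F - X : L[X]).roots.toFinset := by
    intro y hy
    obtain ⟨x, _, rfl⟩ := Finset.mem_image.1 hy
    rw [Multiset.mem_toFinset, mem_roots hP0, IsRoot, eval_sub, eval_pow, eval_X, ← map_pow,
      FiniteField.pow_card, sub_self]
  have hle : (X ^ Fintype.card F - X : L[X]).roots.toFinset.card ≤
      (Finset.univ.image (algebraMap F L)).card := by
    rw [Finset.card_image_of_injective _ (algebraMap F L).injective, Finset.card_univ]
    calc (X ^ Fintype.card F - X : L[X]).roots.toFinset.card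
        ≤ Multiset.card (X ^ Fintype.card F - X : L[X]).roots := Multiset.toFinset_card_le _
      _ ≤ (X ^ Fintype.card F - X : L[X]).natDegree := card_roots' _
      _ = Fintype.card F := FiniteField.X_pow_card_sub_X_natDegree_eq L hcard
  have heq := Finset.eq_of_subset_of_card_le hsub hle
  have hmem : c ∈ (X ^ Fintype.card F - X : L[X]).roots.toFinset := by
    rw [Multiset.mem_toFinset, mem_roots hP0, IsRoot, eval_sub, eval_pow, eval_X, hc, sub_self]
  rw [← heq] at hmem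
  obtain ⟨x, _, hx⟩ := Finset.mem_image.1 hmem
  exact ⟨x, hx⟩

end poly

section descent

variable {F : Type u} [Field F] [Fintype F] {q : ℕ} {L : Type v} [Field L] [Algebra F L]

/-- the polynomial with roots `r 0, …, r (m-1)`, where `r (j+1) = (r j ^ q)⁻¹` and `r m = r 0`,
descends to `F` and is conjugate-reciprocal -/
theorem exists_descent (hF : Fintype.card F = q ^ 2) (p : ℕ) [Fact p.Prime] [CharP F p] (m : ℕ)
    (r : ℕ → L) (hr0 : ∀ j, r j ≠ 0) (hstep : ∀ j, r (j + 1) = (r j ^ q)⁻¹) (hper : r m = r 0) :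
    ∃ f : F[X], f.map (algebraMap F L) = ∏ j ∈ Finset.range m, (X - C (r j)) ∧
      dag hF f = f := by
  classical
  obtain ⟨e, he⟩ := exists_q_eq_pow hF p
  haveI : CharP L p := charP_of_injective_algebraMap (algebraMap F L).injective p
  haveI : ExpChar L p := ExpChar.prime (Fact.out)
  obtain ⟨τ, hτx⟩ : ∃ τ : L →+* L, ∀ x, τ x = x ^ q :=
    ⟨iterateFrobenius L p e, fun x => by rw [iterateFrobenius_def, ← he]⟩
  obtain ⟨fL, hfL⟩ : ∃ fL : L[X], fL = ∏ j ∈ Finset.range m, (X - C (r j)) := ⟨_, rfl⟩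
  have hperj : ∀ j, r (j + m) = r j := by
    intro j
    induction j with
    | zero => rw [zero_add]; exact hper
    | succ j ih => rw [add_right_comm, hstep, ih, ← hstep]
  have hsh : ∏ j ∈ Finset.range m, (X - C (r (j + 1))) = fL := by
    rw [hfL]
    exact prod_shift_one (fun j => X - C (r j)) m (by rw [hper]) (X_sub_C_ne_zero _)
  have h1 : rc (fL.map τ) = fL := by
    rw [hfL, Polynomial.map_prod, rc_prod]
    have : ∀ j ∈ Finset.range m, rc ((X - C (r j)).map τ) = X - C (r (j + 1)) := by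
      intro j _
      rw [Polynomial.map_sub, map_X, map_C,
        rc_X_sub_C _ (by rw [hτx]; exact pow_ne_zero _ (hr0 j)), hτx, hstep]
    rw [Finset.prod_congr rfl this, hsh, hfL]
  have h2 : fL.map (τ.comp τ) = fL := by
    rw [hfL, Polynomial.map_prod]
    have : ∀ j ∈ Finset.range m, (X - C (r j)).map (τ.comp τ) = X - C (r (j + 1 + 1)) := by
      intro j _
      rw [Polynomial.map_sub, map_X, map_C, RingHom.comp_apply, hstep (j + 1), hstep j, hτx, hτx,
        inv_pow, inv_inv]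
    rw [Finset.prod_congr rfl this,
      prod_shift_one (fun j => X - C (r (j + 1))) m ?_ (X_sub_C_ne_zero _), hsh, hfL]
    rw [zero_add, add_comm m 1, hperj 1]
  have h3 : fL ∈ lifts (algebraMap F L) := by
    rw [lifts_iff_coeff_lifts]
    intro k
    apply mem_range_of_pow_card
    have h4 := congrArg (fun g => g.coeff k) h2
    simp only [coeff_map, RingHom.comp_apply, hτx] at h4
    rw [hF, sq, pow_mul]
    exact h4
  obtain ⟨f, hf⟩ := (mem_lifts _).1 h3
  refine ⟨f, by rw [hf, hfL], ?_⟩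
  apply Polynomial.map_injective _ (algebraMap F L).injective
  have hcomm : (algebraMap F L).comp (powQ hF) = τ.comp (algebraMap F L) := by
    ext x
    rw [RingHom.comp_apply, RingHom.comp_apply, hτx, powQ_apply, map_pow]
  rw [dag, ← rc_map', Polynomial.map_map, hcomm, ← Polynomial.map_map, hf, h1]

end descent

section order

variable {F : Type u} [Field F] [Fintype F] {q : ℕ} {L : Type v} [Field L] [Algebra F L]

omit [Fintype F] in
/-- a root `ζ` of the characteristic polynomial in an extension: `B ^ k = 1` forces `ζ ^ k = 1` -/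
theorem pow_eq_one_of_root {m : ℕ} (B : Matrix (Fin m) (Fin m) F) (ζ : L)
    (hroot : (B.charpoly.map (algebraMap F L)).eval ζ = 0) (k : ℕ) (hk : B ^ k = 1) :
    ζ ^ k = 1 := by
  classical
  obtain ⟨BL, hBL⟩ : ∃ BL : Matrix (Fin m) (Fin m) L, BL = (algebraMap F L).mapMatrix B :=
    ⟨_, rfl⟩
  have hch : BL.charpoly = B.charpoly.map (algebraMap F L) := by
    rw [hBL, RingHom.mapMatrix_apply, Matrix.charpoly_map]
  have hdet : (Matrix.scalar (Fin m) ζ - BL).det = 0 := by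
    rw [← Matrix.eval_charpoly, hch, hroot]
  obtain ⟨v, hv0, hv⟩ := Matrix.exists_mulVec_eq_zero_iff.2 hdet
  have hBv : BL.mulVec v = ζ • v := by
    rw [Matrix.sub_mulVec, sub_eq_zero] at hv
    rw [← hv]
    funext i
    simp [Matrix.mulVec, dotProduct, Matrix.scalar_apply, Matrix.diagonal_apply]
  have hpow : ∀ j : ℕ, (BL ^ j).mulVec v = ζ ^ j • v := by
    intro j
    induction j with
    | zero => rw [pow_zero, pow_zero, Matrix.one_mulVec, one_smul]
    | succ j ih =>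
      rw [pow_succ, ← Matrix.mulVec_mulVec, hBv, Matrix.mulVec_smul, ih, smul_smul, pow_succ,
        mul_comm]
  have hBLk : BL ^ k = 1 := by rw [hBL, ← map_pow, hk, map_one]
  have h1 := hpow k
  rw [hBLk, Matrix.one_mulVec] at h1
  by_contra hne
  apply hv0
  have h2 : (ζ ^ k - 1) • v = 0 := by rw [sub_smul, one_smul, ← h1, sub_self]
  exact (smul_eq_zero.1 h2).resolve_left (sub_ne_zero.2 hne)

theorem ct_pow' (hF : Fintype.card F = q ^ 2) {m : ℕ} (A : Matrix (Fin m) (Fin m) F) (k : ℕ) :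
    ct hF (A ^ k) = ct hF A ^ k := by
  induction k with
  | zero => rw [pow_zero, pow_zero, ct_one]
  | succ k ih => rw [pow_succ, pow_succ', ct_mul, ih]

/-- from a unitary `B` of exact order `M` (with `q + 1 ∣ M`) to the element `B ^ (q + 1)` of
determinant one and order `M / (q + 1)` -/
theorem torus_from (hF : Fintype.card F = q ^ 2) {m : ℕ} (B : Matrix (Fin m) (Fin m) F)
    (hB : ct hF B * B = 1) (M : ℕ) (hBM : B ^ M = 1) (hord : ∀ k, B ^ k = 1 → M ∣ k)
    (hq1 : q + 1 ∣ M) :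
    ∃ s : Matrix (Fin m) (Fin m) F, ct hF s * s = 1 ∧ s.det = 1 ∧
      ∀ j : ℕ, s ^ j = 1 ↔ M / (q + 1) ∣ j := by
  have hB' : B * ct hF B = 1 := mul_eq_one_comm.1 hB
  have hc : Commute (ct hF B) B := by
    show _ = _
    rw [hB, hB']
  refine ⟨B ^ (q + 1), ?_, ?_, ?_⟩
  · rw [ct_pow', ← hc.mul_pow, hB, one_pow]
  · rw [Matrix.det_pow, pow_succ, ← det_ct hF, ← Matrix.det_mul, hB, Matrix.det_one]
  · intro j
    rw [← pow_mul]
    obtain ⟨M', rfl⟩ := hq1
    rw [Nat.mul_div_cancel_left _ (Nat.succ_pos q)]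
    constructor
    · intro h
      exact (Nat.mul_dvd_mul_iff_left (Nat.succ_pos q)).1 (hord _ h)
    · rintro ⟨t, rfl⟩
      rw [← mul_assoc, pow_mul, hBM, one_pow]

end order

section main

variable {F : Type u} [Field F] [Fintype F] {q : ℕ}

/-- the common construction of the tori -/
theorem torus_of (hF : Fintype.card F = q ^ 2) (p : ℕ) [Fact p.Prime] [CharP F p] (d m M : ℕ)
    (hd : 1 ≤ d) (hm : 1 ≤ m) (hMdvd : M ∣ q ^ (2 * d) - 1)
    (hper : (M : ℤ) ∣ (-(q : ℤ)) ^ m - 1)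
    (hinj : ∀ k, 0 < k → k < m → ¬ (M : ℤ) ∣ (-(q : ℤ)) ^ k - 1)
    (hq1 : q + 1 ∣ M)
    (U3a : 0 < M → M.Coprime p → ∀ f : F[X], f.Monic → f.natDegree = m → f ∣ X ^ M - 1 →
      dag hF f = f →
      ∃ B : Matrix (Fin m) (Fin m) F, ct hF B * B = 1 ∧ B.charpoly = f ∧ B ^ M = 1) :
    ∃ s : Matrix (Fin m) (Fin m) F, ct hF s * s = 1 ∧ s.det = 1 ∧
      ∀ j : ℕ, s ^ j = 1 ↔ M / (q + 1) ∣ j := by
  classical
  have hq2 : 2 ≤ q := Cfsg.Agent.Lib.Helper1.HermCount.two_le_q hF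
  haveI : NeZero d := ⟨by omega⟩
  have hcardL : Nat.card (FiniteField.Extension F p d) = q ^ (2 * d) := by
    rw [FiniteField.natCard_extension, Nat.card_eq_fintype_card, hF, ← pow_mul]
  have : Fintype (FiniteField.Extension F p d) := Fintype.ofFinite _
  obtain ⟨γ, hγ⟩ := IsCyclic.exists_generator (α := (FiniteField.Extension F p d)ˣ)
  have hordγ : orderOf γ = q ^ (2 * d) - 1 := by
    rw [orderOf_eq_card_of_forall_mem_zpowers hγ, Nat.card_units, hcardL]
  have hqd1 : 1 ≤ q ^ (2 * d) := Nat.one_le_pow _ _ (by omega)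
  have hqpos : 0 < q ^ (2 * d) - 1 := by
    have h1 : 2 ^ (2 * d) ≤ q ^ (2 * d) := Nat.pow_le_pow_left hq2 _
    have h2 : 2 ^ 1 ≤ 2 ^ (2 * d) := Nat.pow_le_pow_right (by omega) (by omega)
    omega
  have hMpos : 0 < M := Nat.pos_of_dvd_of_pos hMdvd hqpos
  -- `M` is coprime to `q`, hence to `p`
  have hcopZ : IsCoprime (M : ℤ) (q : ℤ) := by
    obtain ⟨c, hc⟩ := hMdvd
    refine ⟨-(c : ℤ), (q : ℤ) ^ (2 * d - 1), ?_⟩
    have h1 : ((q ^ (2 * d) - 1 : ℕ) : ℤ) = (q : ℤ) ^ (2 * d) - 1 := by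
      rw [Nat.cast_sub hqd1, Nat.cast_pow, Nat.cast_one]
    have h2 : (q : ℤ) ^ (2 * d - 1) * q = (q : ℤ) ^ (2 * d) := by
      rw [← pow_succ, Nat.sub_add_cancel (by omega)]
    have h3 : ((q ^ (2 * d) - 1 : ℕ) : ℤ) = (M : ℤ) * c := by rw [hc, Nat.cast_mul]
    rw [h2]
    linarith
  have hcopN : Nat.Coprime M q := Nat.isCoprime_iff_coprime.1 hcopZ
  have hMp : M.Coprime p := by
    obtain ⟨e, he⟩ := exists_q_eq_pow hF p
    have hpq : p ∣ q := by
      rw [he]
      apply dvd_pow_self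
      rintro rfl
      rw [pow_zero] at he
      omega
    exact Nat.Coprime.coprime_dvd_right hpq hcopN
  -- the element of order `M`
  obtain ⟨ζ, hordζ⟩ : ∃ ζ : (FiniteField.Extension F p d)ˣ, orderOf ζ = M := by
    refine ⟨γ ^ ((q ^ (2 * d) - 1) / M), ?_⟩
    rw [orderOf_pow_of_dvd ?_ ?_, hordγ, Nat.div_div_self hMdvd hqpos.ne']
    · exact (Nat.div_pos (Nat.le_of_dvd hqpos hMdvd) hMpos).ne'
    · rw [hordγ]
      exact Nat.div_dvd_of_dvd hMdvd
  -- the roots
  obtain ⟨ρ, hρ⟩ : ∃ ρ : ℕ → (FiniteField.Extension F p d)ˣ,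
      ∀ j, ρ j = ζ ^ ((-(q : ℤ)) ^ j) := ⟨_, fun _ => rfl⟩
  have hρeq : ∀ i j, ρ i = ρ j ↔ (M : ℤ) ∣ (-(q : ℤ)) ^ j - (-(q : ℤ)) ^ i := by
    intro i j
    rw [hρ, hρ, zpow_eq_zpow_iff_modEq, hordζ, Int.modEq_iff_dvd]
  have hρstep : ∀ j, ρ (j + 1) = (ρ j ^ q)⁻¹ := by
    intro j
    rw [hρ, hρ, pow_succ, zpow_mul, zpow_neg, zpow_natCast]
  have hρper : ρ m = ρ 0 := by
    rw [hρeq, pow_zero]
    exact (dvd_sub_comm).1 hper
  have hρM : ∀ j, ρ j ^ M = 1 := by
    intro j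
    rw [hρ, ← zpow_natCast, ← zpow_mul, mul_comm, zpow_mul, zpow_natCast, ← hordζ,
      pow_orderOf_eq_one, one_zpow]
  have hρinj : ∀ i j, i < j → j < m → ρ i ≠ ρ j := by
    intro i j hij hjm heq
    rw [hρeq] at heq
    have h1 : (-(q : ℤ)) ^ j - (-(q : ℤ)) ^ i = (-(q : ℤ)) ^ i * ((-(q : ℤ)) ^ (j - i) - 1) := by
      have : j = i + (j - i) := by omega
      conv_lhs => rw [this, pow_add]
      ring
    rw [h1] at heq
    have h2 : IsCoprime (M : ℤ) ((-(q : ℤ)) ^ i) := (hcopZ.neg_right).pow_right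
    exact hinj (j - i) (by omega) (by omega) (h2.dvd_of_dvd_mul_left heq)
  obtain ⟨r, hr⟩ : ∃ r : ℕ → FiniteField.Extension F p d, ∀ j, r j = ((ρ j : _ˣ) : _) :=
    ⟨_, fun _ => rfl⟩
  have hr0 : ∀ j, r j ≠ 0 := fun j => by rw [hr]; exact Units.ne_zero _
  have hrstep : ∀ j, r (j + 1) = (r j ^ q)⁻¹ := by
    intro j
    rw [hr, hr, hρstep, Units.val_inv_eq_inv_val, Units.val_pow_eq_pow_val]
  have hrper : r m = r 0 := by rw [hr, hr, hρper]
  have hrM : ∀ j, r j ^ M = 1 := by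
    intro j
    rw [hr, ← Units.val_pow_eq_pow_val, hρM, Units.val_one]
  have hrinj : ∀ i ∈ Finset.range m, ∀ j ∈ Finset.range m, i ≠ j → r i ≠ r j := by
    intro i hi j hj hij heq
    rw [hr, hr] at heq
    have heq' := Units.ext heq
    rw [Finset.mem_range] at hi hj
    rcases lt_or_gt_of_ne hij with h | h
    · exact hρinj i j h hj heq'
    · exact hρinj j i h hi heq'.symm
  obtain ⟨f, hfmap, hfdag⟩ := exists_descent hF p m r hr0 hrstep hrper
  have hinjalg := (algebraMap F (FiniteField.Extension F p d)).injective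
  have hfmon : f.Monic := by
    apply monic_of_injective hinjalg
    rw [hfmap]
    exact monic_prod_X_sub_C _ _
  have hfdeg : f.natDegree = m := by
    rw [← natDegree_map (algebraMap F (FiniteField.Extension F p d)), hfmap,
      natDegree_finsetProd_X_sub_C_eq_card, Finset.card_range]
  have hfdvd : f ∣ X ^ M - 1 := by
    rw [← map_dvd_map' (algebraMap F (FiniteField.Extension F p d)), hfmap, Polynomial.map_sub,
      Polynomial.map_pow, map_X, Polynomial.map_one]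
    apply Finset.prod_dvd_of_coprime
    · intro i hi j hj hij
      apply isCoprime_X_sub_C_of_isUnit_sub
      exact IsUnit.mk0 _ (sub_ne_zero.2 (hrinj i hi j hj hij))
    · intro j _
      rw [dvd_iff_isRoot, IsRoot, eval_sub, eval_pow, eval_X, eval_one, hrM, sub_self]
  obtain ⟨B, hB1, hB2, hB3⟩ := U3a hMpos hMp f hfmon hfdeg hfdvd hfdag
  have hord : ∀ k, B ^ k = 1 → M ∣ k := by
    intro k hk
    have hroot : (B.charpoly.map (algebraMap F (FiniteField.Extension F p d))).eval (r 0) = 0 := by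
      rw [hB2, hfmap, eval_prod]
      apply Finset.prod_eq_zero (Finset.mem_range.2 hm)
      rw [eval_sub, eval_X, eval_C, sub_self]
    have h1 := pow_eq_one_of_root B (r 0) hroot k hk
    rw [hr, ← Units.val_pow_eq_pow_val, Units.val_eq_one, hρ, pow_zero, zpow_one] at h1
    rw [← hordζ]
    exact orderOf_dvd_of_pow_eq_one h1
  exact torus_from hF B hB1 M hB3 hord hq1

/-- (U3b) from (U3a) -/
theorem torus_odd_of (hF : Fintype.card F = q ^ 2) {d : ℕ} (hd : Odd d)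
    (U3a : ∀ (p : ℕ) [Fact p.Prime] [CharP F p] (N : ℕ), 0 < N → N.Coprime p → ∀ f : F[X],
      f.Monic → f.natDegree = d → f ∣ X ^ N - 1 → dag hF f = f →
      ∃ B : Matrix (Fin d) (Fin d) F, ct hF B * B = 1 ∧ B.charpoly = f ∧ B ^ N = 1) :
    ∃ s : Matrix (Fin d) (Fin d) F, ct hF s * s = 1 ∧ s.det = 1 ∧
      ∀ j : ℕ, s ^ j = 1 ↔ (q ^ d + 1) / (q + 1) ∣ j := by
  obtain ⟨p, hpc⟩ := CharP.exists F
  haveI hpp : Fact p.Prime := ⟨CharP.char_is_prime F p⟩
  have hq2 : 2 ≤ q := Cfsg.Agent.Lib.Helper1.HermCount.two_le_q hF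
  have hd1 : 1 ≤ d := hd.pos
  have hqd1 : 1 ≤ q ^ d := Nat.one_le_pow _ _ (by omega)
  refine torus_of hF p d d (q ^ d + 1) hd1 hd1 ?_ ?_ ?_ ?_
    (fun h1 h2 f hf hdeg hdvd hdag => U3a p (q ^ d + 1) h1 h2 f hf hdeg hdvd hdag)
  · refine ⟨q ^ d - 1, ?_⟩
    obtain ⟨b, hb⟩ : ∃ b, q ^ d = b + 1 := ⟨q ^ d - 1, by omega⟩
    rw [pow_mul', sq, hb]
    apply Nat.sub_eq_of_eq_add
    rw [Nat.add_sub_cancel]
    ring
  · rw [hd.neg_pow]
    refine ⟨-1, ?_⟩
    push_cast
    ring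
  · intro k hk0 hkd hdvd
    have h1 : |(-(q : ℤ)) ^ k - 1| < ((q ^ d + 1 : ℕ) : ℤ) := by
      have h2 : |(-(q : ℤ)) ^ k - 1| ≤ |(-(q : ℤ)) ^ k| + |(1 : ℤ)| := abs_sub _ _
      have h3 : |(-(q : ℤ)) ^ k| = (q : ℤ) ^ k := by
        rw [abs_pow, abs_neg, Nat.abs_cast]
      have h4 : (q : ℤ) ^ k < (q : ℤ) ^ d := by
        exact_mod_cast Nat.pow_lt_pow_right (by omega : 1 < q) hkd
      rw [h3, abs_one] at h2
      push_cast
      linarith
    have h5 := Int.eq_zero_of_abs_lt_dvd hdvd h1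
    have h6 : |(-(q : ℤ)) ^ k| = 1 := by
      rw [sub_eq_zero.1 h5, abs_one]
    rw [abs_pow, abs_neg, Nat.abs_cast] at h6
    have h7 : (2 : ℤ) ^ 1 ≤ (q : ℤ) ^ k := by
      calc (2 : ℤ) ^ 1 ≤ (2 : ℤ) ^ k := pow_le_pow_right₀ (by norm_num) hk0
        _ ≤ (q : ℤ) ^ k := pow_le_pow_left₀ (by norm_num) (by exact_mod_cast hq2) k
    rw [h6] at h7
    norm_num at h7
  · have := Odd.nat_add_dvd_pow_add_pow q 1 hd
    rwa [one_pow] at this

/-- (U3c) from (U3a) -/
theorem torus_hyp_of (hF : Fintype.card F = q ^ 2) {d : ℕ} (hd : 1 ≤ d)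
    (U3a : ∀ (p : ℕ) [Fact p.Prime] [CharP F p] (N : ℕ), 0 < N → N.Coprime p → ∀ f : F[X],
      f.Monic → f.natDegree = 2 * d → f ∣ X ^ N - 1 → dag hF f = f →
      ∃ B : Matrix (Fin (2 * d)) (Fin (2 * d)) F, ct hF B * B = 1 ∧ B.charpoly = f ∧ B ^ N = 1) :
    ∃ s : Matrix (Fin (2 * d)) (Fin (2 * d)) F, ct hF s * s = 1 ∧ s.det = 1 ∧
      ∀ j : ℕ, s ^ j = 1 ↔ (q ^ (2 * d) - 1) / (q + 1) ∣ j := by
  obtain ⟨p, hpc⟩ := CharP.exists F
  haveI hpp : Fact p.Prime := ⟨CharP.char_is_prime F p⟩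
  have hq2 : 2 ≤ q := Cfsg.Agent.Lib.Helper1.HermCount.two_le_q hF
  have hqd1 : 1 ≤ q ^ (2 * d) := Nat.one_le_pow _ _ (by omega)
  by_cases hexc : q = 2 ∧ d = 1
  · obtain ⟨rfl, rfl⟩ := hexc
    refine ⟨1, by rw [ct_one, one_mul], Matrix.det_one, ?_⟩
    intro j
    rw [one_pow]
    norm_num
  have hq1 : q + 1 ∣ q ^ (2 * d) - 1 := by
    have h1 : q ^ 2 - 1 ∣ (q ^ 2) ^ d - 1 := Nat.sub_one_dvd_pow_sub_one (q ^ 2) d
    rw [← pow_mul] at h1
    refine dvd_trans ⟨q - 1, ?_⟩ h1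
    obtain ⟨b, rfl⟩ : ∃ b, q = b + 1 := ⟨q - 1, by omega⟩
    apply Nat.sub_eq_of_eq_add
    rw [Nat.add_sub_cancel]
    ring
  refine torus_of hF p d (2 * d) (q ^ (2 * d) - 1) hd (by omega) dvd_rfl ?_ ?_ hq1
    (fun h1 h2 f hf hdeg hdvd hdag => U3a p (q ^ (2 * d) - 1) h1 h2 f hf hdeg hdvd hdag)
  · rw [(even_two_mul d).neg_pow]
    refine ⟨1, ?_⟩
    rw [Nat.cast_sub hqd1]
    push_cast
    ring
  · intro k hk0 hkd hdvd
    have hA : q ^ k ≤ q ^ (2 * d - 1) := Nat.pow_le_pow_right (by omega) (by omega)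
    have hA2 : q ^ (2 * d) = q * q ^ (2 * d - 1) := by
      rw [← pow_succ', Nat.sub_add_cancel (by omega)]
    have hA3 : q ^ 1 ≤ q ^ (2 * d - 1) := Nat.pow_le_pow_right (by omega) (by omega)
    rw [pow_one] at hA3
    have hlt : q ^ k + 2 < q ^ (2 * d) := by
      rw [hA2]
      rcases Nat.lt_or_ge 2 q with h3 | h3
      · nlinarith
      · have hq : q = 2 := by omega
        have hd2 : 2 ≤ d := by
          by_contra hcon
          exact hexc ⟨hq, by omega⟩
        have hA4 : q ^ 3 ≤ q ^ (2 * d - 1) := Nat.pow_le_pow_right (by omega) (by omega)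
        rw [hq] at hA4 hA ⊢
        omega
    have h1 : |(-(q : ℤ)) ^ k - 1| < ((q ^ (2 * d) - 1 : ℕ) : ℤ) := by
      have h2 : |(-(q : ℤ)) ^ k - 1| ≤ |(-(q : ℤ)) ^ k| + |(1 : ℤ)| := abs_sub _ _
      have h3 : |(-(q : ℤ)) ^ k| = (q : ℤ) ^ k := by
        rw [abs_pow, abs_neg, Nat.abs_cast]
      have h4 : ((q ^ k + 2 : ℕ) : ℤ) < ((q ^ (2 * d) : ℕ) : ℤ) := by exact_mod_cast hlt
      rw [h3, abs_one] at h2
      rw [Nat.cast_sub hqd1]
      push_cast at h4 ⊢
      linarith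
    have h5 := Int.eq_zero_of_abs_lt_dvd hdvd h1
    have h6 : |(-(q : ℤ)) ^ k| = 1 := by
      rw [sub_eq_zero.1 h5, abs_one]
    rw [abs_pow, abs_neg, Nat.abs_cast] at h6
    have h7 : (2 : ℤ) ^ 1 ≤ (q : ℤ) ^ k := by
      calc (2 : ℤ) ^ 1 ≤ (2 : ℤ) ^ k := pow_le_pow_right₀ (by norm_num) hk0
        _ ≤ (q : ℤ) ^ k := pow_le_pow_left₀ (by norm_num) (by exact_mod_cast hq2) k
    rw [h6] at h7
    norm_num at h7

end main

end Cfsg.Agent.Lib.Helper2.U3
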