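import Mathlib
import Cfsg.Agent.Lib.Helper9.CubeUDefs
import Cfsg.Agent.Lib.Helper2.CarveU3Core
import Cfsg.Agent.Lib.Lead.CarveU3a

/-!
# Carve-outs U3b, U3c (project S2511): the cyclic tori of `SU_d(q)` (`d` odd) and `SU_{2d}(q)`
-/

set_option autoImplicit false

namespace Cfsg.Agent.Lib.Carve

open Polynomial Cfsg.Agent.S0278 Cfsg.Agent.Lib.Helper5.Wall Cfsg.Agent.Lib.Helper5.SUConj
  Cfsg.Agent.Lib.Helper5.SSOrder Cfsg.Agent.Lib.Helper9.CubeU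

universe u

variable {F : Type u} [Field F] [Fintype F] {q : ℕ}

namespace U3

/-- (U3b) the cyclic torus of order `(q^d+1)/(q+1)` of `SU_d(q)`, `d` odd -/
theorem exists_torus_odd (hF : Fintype.card F = q ^ 2) {d : ℕ} (hd : Odd d) :
    ∃ s : Matrix (Fin d) (Fin d) F, ct hF s * s = 1 ∧ s.det = 1 ∧
      ∀ j : ℕ, s ^ j = 1 ↔ (q ^ d + 1) / (q + 1) ∣ j :=
  Cfsg.Agent.Lib.Helper2.U3.torus_odd_of hF hd
    (fun p _ _ N hN0 hNp f hf hdeg hfN hdag =>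
      exists_unitary_of_charpoly hF p N hN0 hNp f hf hdeg hfN hdag)

/-- (U3c) the cyclic torus of order `(q^(2d)-1)/(q+1)` of `SU_{2d}(q)` -/
theorem exists_torus_hyp (hF : Fintype.card F = q ^ 2) {d : ℕ} (hd : 1 ≤ d) :
    ∃ s : Matrix (Fin (2 * d)) (Fin (2 * d)) F, ct hF s * s = 1 ∧ s.det = 1 ∧
      ∀ j : ℕ, s ^ j = 1 ↔ (q ^ (2 * d) - 1) / (q + 1) ∣ j :=
  Cfsg.Agent.Lib.Helper2.U3.torus_hyp_of hF hd
    (fun p _ _ N hN0 hNp f hf hdeg hfN hdag =>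
      exists_unitary_of_charpoly hF p N hN0 hNp f hf hdeg hfN hdag)

end U3

end Cfsg.Agent.Lib.Carve
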