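import Mathlib
import Cfsg.Agent.Lib.Helper9.CubeUDefs
import Cfsg.Agent.Lib.Helper8.CarveK2

/-!
# Carve-outs U5b, U5c (project S2511): orthogonally indecomposable semisimple unitary matrices

* `Cfsg.Agent.Lib.Carve.U5.full_degree_self`: minimal polynomial `f` irreducible ⇒ `deg f = n`;
* `Cfsg.Agent.Lib.Carve.U5.full_degree_pair`: minimal polynomial `f f†`, `f ≠ f†` ⇒ `2 deg f = n`.
-/

set_option autoImplicit false

namespace Cfsg.Agent.Lib.Helper2.U5

open Polynomial Module Cfsg.Agent.S0278 Cfsg.Agent.Lib.Helper5.Wall Cfsg.Agent.Lib.Helper5.SUConj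
  Cfsg.Agent.Lib.Helper5.SSOrder Cfsg.Agent.Lib.Helper5.Pal Cfsg.Agent.Lib.Helper9.CubeU
  Cfsg.Agent.Lib.Helper2.Herm Cfsg.Agent.Lib.Helper1.GUBasic Cfsg.Agent.Lib.Carve

universe u

section general

variable {F : Type u} [Field F] {V : Type*} [AddCommGroup V] [Module F V]

/-- a `T`-invariant subspace is invariant under all polynomials in `T` -/
theorem aeval_mem (T : Module.End F V) (W : Submodule F V) (hW : ∀ x ∈ W, T x ∈ W) (P : F[X])
    (x : V) (hx : x ∈ W) : aeval T P x ∈ W := by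
  induction P using Polynomial.induction_on' with
  | add P Q hP hQ =>
    rw [map_add, LinearMap.add_apply]
    exact W.add_mem hP hQ
  | monomial k c =>
    rw [aeval_monomial, Module.End.mul_apply]
    have h1 : ∀ j : ℕ, (T ^ j) x ∈ W := by
      intro j
      induction j with
      | zero => simpa using hx
      | succ j ih =>
        rw [pow_succ', Module.End.mul_apply]
        exact hW _ ih
    rw [Module.algebraMap_end_apply]
    exact W.smul_mem _ (h1 k)

/-- the key lemma: if `f(T) a = 0` with `f` irreducible and some `P(T) a` is a nonzero element of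
the invariant subspace `W`, then `a ∈ W` -/
theorem mem_of_irr (T : Module.End F V) (W : Submodule F V) (hW : ∀ x ∈ W, T x ∈ W)
    (f : F[X]) (hirr : Irreducible f) (a : V) (ha : aeval T f a = 0) (P : F[X])
    (hP : aeval T P a ∈ W) (hP0 : aeval T P a ≠ 0) : a ∈ W := by
  have hnd : ¬ f ∣ P := by
    rintro ⟨Q, rfl⟩
    apply hP0
    rw [mul_comm, map_mul, Module.End.mul_apply, ha, map_zero]
  obtain ⟨u, w, huw⟩ := (hirr.coprime_iff_not_dvd).2 hnd
  have h1 : a = aeval T w (aeval T P a) := by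
    have h2 := congrArg (fun R : F[X] => aeval T R a) huw
    simp only [map_add, map_mul, LinearMap.add_apply, Module.End.mul_apply, map_one,
      Module.End.one_apply] at h2
    rw [ha, map_zero, zero_add] at h2
    exact h2.symm
  rw [h1]
  exact aeval_mem T W hW w _ hP

/-- if `f(T) a = 0` with `f` monic, the cyclic subspace of `a` has dimension at most `deg f` -/
theorem finrank_cyc_le [FiniteDimensional F V] (T : Module.End F V) (f : F[X]) (hf : f.Monic)
    (a : V) (ha : aeval T f a = 0) :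
    finrank F (LinearMap.range (K2.cyc T a)) ≤ f.natDegree := by
  set d := f.natDegree with hd
  have hne0 : f ≠ 0 := hf.ne_zero
  let Ψ : degreeLT F d →ₗ[F] V := (K2.cyc T a).comp (degreeLT F d).subtype
  have hle : LinearMap.range (K2.cyc T a) ≤ LinearMap.range Ψ := by
    rintro _ ⟨P, rfl⟩
    have hdeg : (P %ₘ f).degree < (d : WithBot ℕ) := by
      have := Polynomial.degree_modByMonic_lt P hf
      rwa [Polynomial.degree_eq_natDegree hne0] at this
    refine ⟨⟨P %ₘ f, Polynomial.mem_degreeLT.2 hdeg⟩, ?_⟩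
    show K2.cyc T a (P %ₘ f) = K2.cyc T a P
    rw [K2.cyc_apply, K2.cyc_apply]
    conv_rhs => rw [← Polynomial.modByMonic_add_div P f]
    rw [map_add, LinearMap.add_apply, mul_comm f, map_mul, Module.End.mul_apply, ha, map_zero,
      add_zero]
  have h1 := Submodule.finrank_mono hle
  have h2 := LinearMap.finrank_range_le Ψ
  rw [LinearEquiv.finrank_eq (Polynomial.degreeLTEquiv F d), Module.finrank_fin_fun] at h2
  omega

/-- reflecting a polynomial and evaluating at an invertible element -/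
theorem aeval_reflect {A : Type*} [Ring A] [Algebra F A] (g g' : A) (h1 : g' * g = 1)
    (h2 : g * g' = 1) (N : ℕ) (R : F[X]) (hR : R.natDegree ≤ N) :
    aeval g (reflect N R) = aeval g' R * g ^ N := by
  have hc : Commute g' g := by
    show g' * g = g * g'
    rw [h1, h2]
  revert hR
  refine Polynomial.induction_with_natDegree_le
    (fun R => aeval g (reflect N R) = aeval g' R * g ^ N) N ?_ ?_ ?_ R
  · simp
  · intro k r _ hk
    have h3 : g' ^ k * g ^ N = g ^ (N - k) := by
      have h4 : g ^ N = g ^ k * g ^ (N - k) := by rw [← pow_add, Nat.add_sub_cancel' hk]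
      rw [h4, ← mul_assoc, ← hc.mul_pow, h1, one_pow, one_mul]
    show aeval g (reflect N (C r * X ^ k)) = aeval g' (C r * X ^ k) * g ^ N
    rw [reflect_C_mul_X_pow, revAt_le hk, map_mul, map_mul, aeval_C, map_pow, map_pow, aeval_X,
      aeval_X, aeval_C, mul_assoc, h3]
  · intro P Q _ _ hP hQ
    show aeval g (reflect N (P + Q)) = aeval g' (P + Q) * g ^ N
    rw [reflect_add, map_add, map_add, hP, hQ, add_mul]

end general

section unitary

variable {F : Type u} [Field F] [Fintype F] {q n : ℕ}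

theorem exists_pow_eq_one (hF : Fintype.card F = q ^ 2) (g : Matrix (Fin n) (Fin n) F)
    (hg : ct hF g * g = 1) : ∃ k : ℕ, g ^ (k + 1) = 1 := by
  classical
  have hg' : g * ct hF g = 1 := mul_eq_one_comm.1 hg
  obtain ⟨u, rfl⟩ : IsUnit g := ⟨⟨g, ct hF g, hg', hg⟩, rfl⟩
  have h2 : 0 < orderOf u := orderOf_pos u
  refine ⟨orderOf u - 1, ?_⟩
  rw [Nat.sub_add_cancel h2, ← Units.val_pow_eq_pow_val, pow_orderOf_eq_one, Units.val_one]

/-- `f†(g)` is a unit multiple of the adjoint of `f(g)` -/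
theorem aeval_dag (hF : Fintype.card F = q ^ 2) (g : Matrix (Fin n) (Fin n) F)
    (hg : ct hF g * g = 1) (P : F[X]) :
    aeval g (dag hF P) = ((P.map (powQ hF)).coeff 0)⁻¹ •
      (ct hF (aeval g P) * g ^ (P.map (powQ hF)).natDegree) := by
  have hg' : g * ct hF g = 1 := mul_eq_one_comm.1 hg
  rw [dag, rc, reverse, map_mul, aeval_C, aeval_reflect g (ct hF g) hg hg' _ _ le_rfl, ct_aeval,
    Algebra.algebraMap_eq_smul_one, smul_mul_assoc, one_mul]

/-- the kernel of `P(g)` is orthogonal to the range of `P†(g)` -/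
theorem herm_dag_zero (hF : Fintype.card F = q ^ 2) (g : Matrix (Fin n) (Fin n) F)
    (hg : ct hF g * g = 1) (P : F[X]) (a z : Fin n → F) (ha : (aeval g P).mulVec a = 0) :
    Cfsg.hermForm n F q a ((aeval g (dag hF P)).mulVec z) = 0 := by
  rw [aeval_dag hF g hg, Matrix.smul_mulVec, ← Matrix.mulVec_mulVec, herm_smul_right,
    ← herm_adj, ha, herm_zero_left, mul_zero]

theorem inf_orthL_invt (hF : Fintype.card F = q ^ 2) (g : Matrix (Fin n) (Fin n) F)
    (hg : ct hF g * g = 1) (U : Submodule F (Fin n → F))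
    (hU : ∀ x ∈ U, Matrix.toLin' g x ∈ U) :
    ∀ x ∈ U ⊓ orthL q U, Matrix.toLin' g x ∈ U ⊓ orthL q U := by
  obtain ⟨k, hk⟩ := exists_pow_eq_one hF g hg
  have h1 : U ∈ Module.End.invtSubmodule (Matrix.toLin' g) := by
    rw [Module.End.mem_invtSubmodule]
    exact fun x hx => hU x hx
  have h2 := orthL_invt hF g hg k hk U h1
  rw [Module.End.mem_invtSubmodule] at h2
  intro x hx
  exact ⟨hU x hx.1, h2 hx.2⟩

omit [Fintype F] in
theorem natDegree_minpoly_le (g : Matrix (Fin n) (Fin n) F) : (minpoly F g).natDegree ≤ n := by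
  have h1 := Polynomial.natDegree_le_of_dvd (Matrix.minpoly_dvd_charpoly g)
    (Matrix.charpoly_monic g).ne_zero
  rwa [Matrix.charpoly_natDegree_eq_dim, Fintype.card_fin] at h1

theorem full_degree_self (hF : Fintype.card F = q ^ 2) (hn : 1 ≤ n)
    (g : Matrix (Fin n) (Fin n) F) (hg : ct hF g * g = 1)
    (hind : ∀ U : Submodule F (Fin n → F), (∀ x ∈ U, g.mulVec x ∈ U) →
      U ⊓ orthL q U = ⊥ → U = ⊥ ∨ U = ⊤)
    (f : F[X]) (hf : f.Monic) (hirr : Irreducible f) (hμ : minpoly F g = f) :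
    f.natDegree = n := by
  classical
  have hTf : aeval (Matrix.toLin' g) f = 0 := by
    rw [toLin'_aeval, ← hμ, minpoly.aeval, map_zero]
  obtain ⟨v, hvv⟩ : ∃ v : Fin n → F, Cfsg.hermForm n F q v v = 1 := by
    refine ⟨Pi.single ⟨0, hn⟩ 1, ?_⟩
    rw [herm_single_left, Pi.single_eq_same, one_pow]
  obtain ⟨U, hU⟩ : ∃ U, U = LinearMap.range (K2.cyc (Matrix.toLin' g) v) := ⟨_, rfl⟩
  have hUinv : ∀ x ∈ U, Matrix.toLin' g x ∈ U := by
    rw [hU]
    exact K2.range_cyc_invariant _ v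
  have hvU : v ∈ U := by
    rw [hU]
    exact ⟨1, by rw [K2.cyc_apply, map_one]; rfl⟩
  have hXinv := inf_orthL_invt hF g hg U hUinv
  have hX : U ⊓ orthL q U = ⊥ := by
    rw [Submodule.eq_bot_iff]
    intro x hx
    by_contra hx0
    have hxU := hx.1
    rw [hU] at hxU
    obtain ⟨P, hP⟩ := hxU
    rw [K2.cyc_apply] at hP
    have hvX : v ∈ U ⊓ orthL q U :=
      mem_of_irr _ _ hXinv f hirr v (by rw [hTf]; rfl) P (by rw [hP]; exact hx)
        (by rw [hP]; exact hx0)
    have h1 := (mem_orthL.1 hvX.2) v hvU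
    rw [hvv] at h1
    exact one_ne_zero h1
  have hUtop : U = ⊤ := by
    rcases hind U (fun x hx => by
      have := hUinv x hx
      rwa [Matrix.toLin'_apply] at this) hX with h | h
    · exfalso
      rw [h, Submodule.mem_bot] at hvU
      rw [hvU, herm_zero_left] at hvv
      exact zero_ne_one hvv
    · exact h
  apply le_antisymm
  · have h1 := natDegree_minpoly_le g
    rwa [hμ] at h1
  · have h1 := finrank_cyc_le (Matrix.toLin' g) f hf v (by rw [hTf]; rfl)
    rw [← hU, hUtop, finrank_top, Module.finrank_fin_fun] at h1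
    exact h1

theorem full_degree_pair (hF : Fintype.card F = q ^ 2) (hn : 1 ≤ n)
    (g : Matrix (Fin n) (Fin n) F) (hg : ct hF g * g = 1)
    (hind : ∀ U : Submodule F (Fin n → F), (∀ x ∈ U, g.mulVec x ∈ U) →
      U ⊓ orthL q U = ⊥ → U = ⊥ ∨ U = ⊤)
    (f : F[X]) (hf : f.Monic) (hirr : Irreducible f) (h0 : f.coeff 0 ≠ 0)
    (hdag : dag hF f ≠ f) (hμ : minpoly F g = f * dag hF f) :
    2 * f.natDegree = n := by
  classical
  have h0' : (f.map (powQ hF)).coeff 0 ≠ 0 := by
    rw [coeff_map]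
    show (f.coeff 0) ^ q ≠ 0
    exact pow_ne_zero _ h0
  obtain ⟨f', hf'⟩ : ∃ f', f' = dag hF f := ⟨_, rfl⟩
  have hf'm : f'.Monic := by
    rw [hf']
    exact rc_monic h0'
  have hf'irr : Irreducible f' := by
    rw [hf']
    exact irreducible_rc (irreducible_map_powQ hF hirr) h0'
  have hf'deg : f'.natDegree = f.natDegree := by
    rw [hf', dag, rc_natDegree h0', natDegree_map]
  have hcop : IsCoprime f f' := by
    rw [hirr.coprime_iff_not_dvd]
    intro hd
    apply hdag
    rw [← hf']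
    exact eq_of_monic_of_dvd_of_natDegree_le hf hf'm hd hf'deg.le
  obtain ⟨u, w, huw⟩ := hcop
  rw [← hf'] at hμ
  have hTff' : aeval (Matrix.toLin' g) (f * f') = 0 := by
    rw [toLin'_aeval, ← hμ, minpoly.aeval, map_zero]
  have hfpos : 0 < f.natDegree := hirr.natDegree_pos
  -- `f'(g) ≠ 0`
  have hf'g : aeval g f' ≠ 0 := by
    intro h
    have h1 := minpoly.dvd F g h
    rw [hμ] at h1
    have h2 := natDegree_le_of_dvd h1 hf'm.ne_zero
    rw [natDegree_mul hf.ne_zero hf'm.ne_zero] at h2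
    omega
  obtain ⟨v0, hv0⟩ : ∃ v0, aeval (Matrix.toLin' g) f' v0 ≠ 0 := by
    by_contra hcon
    push_neg at hcon
    apply hf'g
    apply Matrix.toLin'.injective
    rw [← toLin'_aeval, map_zero]
    exact LinearMap.ext hcon
  obtain ⟨a, ha⟩ : ∃ a, a = aeval (Matrix.toLin' g) f' v0 := ⟨_, rfl⟩
  rw [← ha] at hv0
  have hfa : aeval (Matrix.toLin' g) f a = 0 := by
    rw [ha, ← Module.End.mul_apply, ← map_mul, hTff']
    rfl
  obtain ⟨y, hy⟩ : ∃ y, Cfsg.hermForm n F q a y ≠ 0 := by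
    by_contra hcon
    push_neg at hcon
    exact hv0 (eq_zero_of_forall_herm_left hF a hcon)
  have hdec : y = aeval (Matrix.toLin' g) (u * f) y + aeval (Matrix.toLin' g) (w * f') y := by
    have h2 := congrArg (fun R : F[X] => aeval (Matrix.toLin' g) R y) huw
    simp only [map_add, LinearMap.add_apply, map_one, Module.End.one_apply] at h2
    exact h2.symm
  obtain ⟨b, hb⟩ : ∃ b, b = aeval (Matrix.toLin' g) (u * f) y := ⟨_, rfl⟩
  have hf'b : aeval (Matrix.toLin' g) f' b = 0 := by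
    rw [hb, ← Module.End.mul_apply, ← map_mul, (by ring : f' * (u * f) = u * (f * f')), map_mul,
      hTff', mul_zero]
    rfl
  have hab : Cfsg.hermForm n F q a b ≠ 0 := by
    have h1 : Cfsg.hermForm n F q a (aeval (Matrix.toLin' g) (w * f') y) = 0 := by
      rw [mul_comm w f', map_mul, Module.End.mul_apply, toLin'_aeval, toLin'_aeval,
        Matrix.toLin'_apply, Matrix.toLin'_apply, hf']
      apply herm_dag_zero hF g hg f a _
      have := hfa
      rwa [toLin'_aeval, Matrix.toLin'_apply] at this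
    rw [hdec, herm_add_right hF, h1, add_zero, ← hb] at hy
    exact hy
  -- the subspace
  obtain ⟨U₁, hU₁⟩ : ∃ U, U = LinearMap.range (K2.cyc (Matrix.toLin' g) a) := ⟨_, rfl⟩
  obtain ⟨U₂, hU₂⟩ : ∃ U, U = LinearMap.range (K2.cyc (Matrix.toLin' g) b) := ⟨_, rfl⟩
  have hU₁inv : ∀ x ∈ U₁, Matrix.toLin' g x ∈ U₁ := by
    rw [hU₁]
    exact K2.range_cyc_invariant _ a
  have hU₂inv : ∀ x ∈ U₂, Matrix.toLin' g x ∈ U₂ := by
    rw [hU₂]
    exact K2.range_cyc_invariant _ b
  have haU₁ : a ∈ U₁ := by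
    rw [hU₁]
    exact ⟨1, by rw [K2.cyc_apply, map_one]; rfl⟩
  have hbU₂ : b ∈ U₂ := by
    rw [hU₂]
    exact ⟨1, by rw [K2.cyc_apply, map_one]; rfl⟩
  have hUinv : ∀ x ∈ U₁ ⊔ U₂, Matrix.toLin' g x ∈ U₁ ⊔ U₂ := by
    intro x hx
    obtain ⟨x₁, hx₁, x₂, hx₂, rfl⟩ := Submodule.mem_sup.1 hx
    rw [map_add]
    exact Submodule.add_mem_sup (hU₁inv _ hx₁) (hU₂inv _ hx₂)
  have haU : a ∈ U₁ ⊔ U₂ := Submodule.mem_sup_left haU₁
  have hbU : b ∈ U₁ ⊔ U₂ := Submodule.mem_sup_right hbU₂
  have hXinv := inf_orthL_invt hF g hg _ hUinv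
  have hX : (U₁ ⊔ U₂) ⊓ orthL q (U₁ ⊔ U₂) = ⊥ := by
    rw [Submodule.eq_bot_iff]
    intro x hx
    by_contra hx0
    obtain ⟨x₁, hx₁, x₂, hx₂, hx12⟩ := Submodule.mem_sup.1 hx.1
    rw [hU₁] at hx₁
    rw [hU₂] at hx₂
    obtain ⟨P, hP⟩ := hx₁
    obtain ⟨Q, hQ⟩ := hx₂
    rw [K2.cyc_apply] at hP hQ
    have h1 : aeval (Matrix.toLin' g) f' x = aeval (Matrix.toLin' g) (f' * P) a := by
      rw [← hx12, map_add, ← hP, ← hQ, ← Module.End.mul_apply, ← Module.End.mul_apply, ← map_mul,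
        ← map_mul, mul_comm f' Q, map_mul (aeval (Matrix.toLin' g)) Q f', Module.End.mul_apply,
        hf'b, map_zero, add_zero]
    have h2 : aeval (Matrix.toLin' g) f x = aeval (Matrix.toLin' g) (f * Q) b := by
      rw [← hx12, map_add, ← hP, ← hQ, ← Module.End.mul_apply, ← Module.End.mul_apply, ← map_mul,
        ← map_mul, mul_comm f P, map_mul (aeval (Matrix.toLin' g)) P f, Module.End.mul_apply,
        hfa, map_zero, zero_add]
    have h3 : x = aeval (Matrix.toLin' g) u (aeval (Matrix.toLin' g) f x) +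
        aeval (Matrix.toLin' g) w (aeval (Matrix.toLin' g) f' x) := by
      have h4 := congrArg (fun R : F[X] => aeval (Matrix.toLin' g) R x) huw
      simp only [map_add, map_mul, LinearMap.add_apply, Module.End.mul_apply, map_one,
        Module.End.one_apply] at h4
      exact h4.symm
    by_cases hc : aeval (Matrix.toLin' g) f' x = 0
    · have hc2 : aeval (Matrix.toLin' g) f x ≠ 0 := by
        intro hc2
        apply hx0
        rw [h3, hc, hc2, map_zero, map_zero, add_zero]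
      have hbX : b ∈ (U₁ ⊔ U₂) ⊓ orthL q (U₁ ⊔ U₂) :=
        mem_of_irr _ _ hXinv f' hf'irr b hf'b (f * Q)
          (by rw [← h2]; exact aeval_mem _ _ hXinv f x hx) (by rw [← h2]; exact hc2)
      have h5 := (mem_orthL.1 hbX.2) a haU
      apply hab
      rw [← herm_conj hF, h5, zero_pow]
      have := Cfsg.Agent.Lib.Helper1.HermCount.two_le_q hF
      omega
    · have haX : a ∈ (U₁ ⊔ U₂) ⊓ orthL q (U₁ ⊔ U₂) :=
        mem_of_irr _ _ hXinv f hirr a hfa (f' * P)
          (by rw [← h1]; exact aeval_mem _ _ hXinv f' x hx) (by rw [← h1]; exact hc)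
      exact hab ((mem_orthL.1 haX.2) b hbU)
  have hUtop : U₁ ⊔ U₂ = ⊤ := by
    rcases hind _ (fun x hx => by
      have := hUinv x hx
      rwa [Matrix.toLin'_apply] at this) hX with h | h
    · exfalso
      rw [h, Submodule.mem_bot] at haU
      exact hv0 haU
    · exact h
  apply le_antisymm
  · have h1 := natDegree_minpoly_le g
    rw [hμ, natDegree_mul hf.ne_zero hf'm.ne_zero] at h1
    omega
  · have h1 := finrank_cyc_le (Matrix.toLin' g) f hf a hfa
    have h2 := finrank_cyc_le (Matrix.toLin' g) f' hf'm b hf'b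
    rw [← hU₁] at h1
    rw [← hU₂] at h2
    have h3 := Submodule.finrank_add_le_finrank_add_finrank U₁ U₂
    rw [hUtop, finrank_top, Module.finrank_fin_fun] at h3
    omega

end unitary

end Cfsg.Agent.Lib.Helper2.U5

namespace Cfsg.Agent.Lib.Carve

open Polynomial Cfsg.Agent.S0278 Cfsg.Agent.Lib.Helper5.Wall Cfsg.Agent.Lib.Helper5.SUConj
  Cfsg.Agent.Lib.Helper5.SSOrder Cfsg.Agent.Lib.Helper9.CubeU

universe u

variable {F : Type u} [Field F] [Fintype F] {q : ℕ}

namespace U5

/-- (U5b) semisimple case `f = f†`: the space is a single line over `F[g]` -/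
theorem full_degree_self (hF : Fintype.card F = q ^ 2) {n : ℕ} (hn : 1 ≤ n)
    (g : Matrix (Fin n) (Fin n) F) (hg : ct hF g * g = 1)
    (hind : ∀ U : Submodule F (Fin n → F), (∀ x ∈ U, g.mulVec x ∈ U) →
      U ⊓ orthL q U = ⊥ → U = ⊥ ∨ U = ⊤)
    (f : F[X]) (hf : f.Monic) (hirr : Irreducible f) (hμ : minpoly F g = f) :
    f.natDegree = n :=
  Cfsg.Agent.Lib.Helper2.U5.full_degree_self hF hn g hg hind f hf hirr hμ

/-- (U5c) semisimple case `f ≠ f†` -/
theorem full_degree_pair (hF : Fintype.card F = q ^ 2) {n : ℕ} (hn : 1 ≤ n)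
    (g : Matrix (Fin n) (Fin n) F) (hg : ct hF g * g = 1)
    (hind : ∀ U : Submodule F (Fin n → F), (∀ x ∈ U, g.mulVec x ∈ U) →
      U ⊓ orthL q U = ⊥ → U = ⊥ ∨ U = ⊤)
    (f : F[X]) (hf : f.Monic) (hirr : Irreducible f) (h0 : f.coeff 0 ≠ 0)
    (hdag : dag hF f ≠ f) (hμ : minpoly F g = f * dag hF f) :
    2 * f.natDegree = n :=
  Cfsg.Agent.Lib.Helper2.U5.full_degree_pair hF hn g hg hind f hf hirr h0 hdag hμ

end U5

end Cfsg.Agent.Lib.Carve
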