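import Cfsg.Agent.Lib.Helper3.TN5
import Cfsg.Agent.Lib.Helper3.BN9
import Cfsg.Agent.Lib.Lead.CarveR1

/-!
# Carve-out W1 (for helper3's S2099), part a: the long monomial subgroup, the rank one data
-/

set_option linter.unusedSectionVars false
set_option linter.unusedVariables false
set_option autoImplicit false

namespace Cfsg.Agent.Lib.Helper2.CW

open Cfsg.Agent.Lib.Helper5.Stb Cfsg.Agent.Lib.Helper3.AN Cfsg.Agent.Lib.Helper3.DN
  Cfsg.Agent.Lib.Helper3.BN Cfsg.Agent.Lib.Helper3.TN Cfsg.Agent.Lib.Helper3.TW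

variable {J K K' G : Type*} [Field K] [Field K'] [Algebra K K'] [Group G] {ν : J → J}
  {τ : Tw K K'} (B : TData J K K' G ν τ)

/-- restriction of the twisted data to the fixed field: data of type `B` -/
def toB : BData J K G ν where
  D := B.D
  Y := fun k c => B.Y k (algebraMap K K' c)
  Y_add := fun k t u => by rw [map_add, B.Y_add]
  XY_comm := fun k l p t u h1 h2 => B.XY_comm k l p t _ h1 h2
  XY_rel := fun k l s t h1 h2 => by
    have := B.XY_rel k l s (algebraMap K K' t) h1 h2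
    rw [this, τ.N_alg, Algebra.smul_def, ← map_mul]
  YY_rel := fun k l s t h1 h2 => by
    have := B.YY_rel k l (algebraMap K K' s) (algebraMap K K' t) h1 h2
    rw [this]
    congr 2
    unfold Tw.P
    rw [τ.σ_alg, ← map_mul, τ.T_alg]; ring

theorem toB_D : (toB B).D = B.D := rfl

theorem toB_wS (k : J) (c : K) : (toB B).wS k c = B.wS k (algebraMap K K' c) := by
  unfold BData.wS TData.wS
  show B.Y k (algebraMap K K' c) * B.Y (ν k) (algebraMap K K' c⁻¹) * B.Y k (algebraMap K K' c) = _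
  rw [τ.σ_alg, map_inv₀]

variable [DecidableEq J]

/-- the long monomial subgroup -/
def N0T : Subgroup G := (toB B).N0

theorem w_mem_N0T {i j : J} (hij : i ≠ j) (hij' : i ≠ ν j) {u : K} (hu : u ≠ 0) :
    B.D.w i j u ∈ N0T B := (toB B).w_mem_N0 hij hij' hu

theorem N0T_le : N0T B ≤ Subgroup.closure {g : G | ∃ k l t, g = B.D.y k l t} :=
  (toB B).N0_le_longSub

section hc
variable (hc : ∀ a b : J, ∃ c, c ≠ a ∧ c ≠ b ∧ c ≠ ν a ∧ c ≠ ν b)
include hc

/-- the short Weyl elements normalise the long monomial subgroup -/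
theorem N0T_conj_wS (a : J) {u : K'} (hu : u ≠ 0) {g : G} (hg : g ∈ N0T B) :
    B.wS a u * g * (B.wS a u)⁻¹ ∈ N0T B := by
  obtain ⟨c, hca, -, hca', -⟩ := hc a a
  have hm := B.rawMonT_wS hca hca' hu
  have hN : τ.N u ≠ 0 := τ.N_ne_zero hu
  unfold N0T BData.N0 at hg
  induction hg using Subgroup.closure_induction with
  | mem y hy =>
    obtain ⟨i, j, t, hij, hij', ht, rfl⟩ := hy
    have h1 := B.D.cj_w_of_rawMon hm.raw i j ht
    rw [MulAut.conj_apply] at h1
    show B.wS a u * B.D.w i j t * (B.wS a u)⁻¹ ∈ _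
    rw [h1]
    refine w_mem_N0T B ((Equiv.swap a (ν a)).injective.ne hij) ?_
      (mul_ne_zero (mul_ne_zero (TData.vT_ne_zero hN i) ht) (inv_ne_zero (TData.vT_ne_zero hN j)))
    rw [← B.swap_nu]
    exact (Equiv.swap a (ν a)).injective.ne hij'
  | one => simp [one_mem]
  | mul x y _ _ hx hy =>
    have : B.wS a u * (x * y) * (B.wS a u)⁻¹ =
        (B.wS a u * x * (B.wS a u)⁻¹) * (B.wS a u * y * (B.wS a u)⁻¹) := by group
    rw [this]
    exact mul_mem hx hy
  | inv x _ hx =>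
    have : B.wS a u * x⁻¹ * (B.wS a u)⁻¹ = (B.wS a u * x * (B.wS a u)⁻¹)⁻¹ := by group
    rw [this]
    exact inv_mem hx

/-- the short Weyl elements at an index off `a`, `ν a` are conjugate to those at `a` -/
theorem cj_w_wS {k a : J} (hka : k ≠ a) (hka' : k ≠ ν a) (u : K') :
    MulAut.conj (B.D.w k a 1) (B.wS a u) = B.wS k u := by
  obtain ⟨p, hT⟩ := (toB B).tri_of hc hka hka'
  unfold TData.wS
  rw [map_mul, map_mul, B.cjwL_Yl hka hka' one_ne_zero, B.cjwL_Ynl hT one_ne_zero, one_smul,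
    inv_one, one_smul]

/-- `wS k u ∈ N0T * wS a u` for `k ≠ a, ν a` -/
theorem wS_off {k a : J} (hka : k ≠ a) (hka' : k ≠ ν a) {u : K'} (hu : u ≠ 0) :
    ∃ m ∈ N0T B, B.wS k u = m * B.wS a u := by
  have h := cj_w_wS B hc hka hka' u
  rw [MulAut.conj_apply] at h
  refine ⟨B.D.w k a 1 * (B.wS a u * (B.D.w k a 1)⁻¹ * (B.wS a u)⁻¹), ?_, ?_⟩
  · exact mul_mem (w_mem_N0T B hka hka' one_ne_zero)
      (N0T_conj_wS B hc a hu (inv_mem (w_mem_N0T B hka hka' one_ne_zero)))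
  · rw [← h]; group

end hc

/-! ### the rank one data at the index `a` -/

section rankone
variable (a : J)

/-- the positive root elements -/
def rx (t : K') : G := B.Y a t
/-- the negative root elements -/
def ry (t : K') : G := B.Y (ν a) (-(τ.σ t))
/-- the torus elements -/
def hS (t : K') : G := B.wS a t * (B.wS a 1)⁻¹

theorem rx_add (s t : K') : rx B a (s + t) = rx B a s * rx B a t := B.Y_add a s t

theorem ry_add (s t : K') : ry B a (s + t) = ry B a s * ry B a t := by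
  unfold ry; rw [map_add, neg_add, B.Y_add]

theorem rw_eq (t : K') : B.wS a t = rx B a t * ry B a (-t⁻¹) * rx B a t := by
  unfold rx ry TData.wS; rw [map_neg, neg_neg, map_inv₀]

theorem rh_eq (t : K') : hS B a t = B.wS a t * (B.wS a 1)⁻¹ := rfl

theorem rhB (hc : ∀ a b : J, ∃ c, c ≠ a ∧ c ≠ b ∧ c ≠ ν a ∧ c ≠ ν b) (t u : K') (ht : t ≠ 0) :
    B.wS a t * rx B a u * (B.wS a t)⁻¹ = ry B a (-(t⁻¹) ^ 2 * u) := by
  obtain ⟨l, h1, -, h3, -⟩ := hc a a
  have h := B.cjwS_Ya h1 h3 ht u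
  rw [MulAut.conj_apply] at h
  unfold rx ry
  rw [h]; congr 1
  rw [map_mul, map_neg, map_pow, map_inv₀]; ring

/-- `wS (ν a) u = wS a (σ u)⁻¹` -/
theorem wS_nu (hc : ∀ a b : J, ∃ c, c ≠ a ∧ c ≠ b ∧ c ≠ ν a ∧ c ≠ ν b) {u : K'} (hu : u ≠ 0) :
    B.wS (ν a) u = B.wS a (τ.σ u)⁻¹ := by
  have hσ : τ.σ u ≠ 0 := Tw'.σ_ne_zero τ hu
  have h := Cfsg.Agent.Lib.Carve.R1.w_eq_yxy (rx B a) (ry B a) (rx_add B a) (ry_add B a)
    (B.wS a) (rw_eq B a) (rhB B a hc) (t := (τ.σ u)⁻¹) (inv_ne_zero hσ)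
  rw [h]
  unfold rx ry TData.wS
  rw [B.D.nu_nu, map_neg, neg_neg, inv_inv, τ.σσ]

end rankone

end Cfsg.Agent.Lib.Helper2.CW
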