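import Cfsg.Agent.Lib.Helper2.CarveW1a

/-!
# Carve-out W1, part b: the torus elements act diagonally; they are multiplicative
-/

set_option linter.unusedSectionVars false
set_option linter.unusedVariables false
set_option autoImplicit false

namespace Cfsg.Agent.Lib.Helper2.CW

open Cfsg.Agent.Lib.Helper5.Stb Cfsg.Agent.Lib.Helper3.AN Cfsg.Agent.Lib.Helper3.DN
  Cfsg.Agent.Lib.Helper3.TN Cfsg.Agent.Lib.Helper3.TW

variable {J K K' G : Type*} [Field K] [Field K'] [Algebra K K'] [Group G] {ν : J → J}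
  {τ : Tw K K'} (B : TData J K K' G ν τ) [DecidableEq J]

theorem eW_inj {w w' : K'} (h : (eW w : Mod J K K') = eW w') : w = w' :=
  congrArg Prod.snd h

/-- endomorphisms of the natural module agreeing on the standard vectors are equal -/
theorem end_ext [Finite J] {f g : Module.End K (Mod J K K')}
    (h1 : ∀ l, f (eJ l) = g (eJ l)) (h2 : ∀ w, f (eW w) = g (eW w)) : f = g := by
  apply LinearMap.prod_ext
  · apply LinearMap.pi_ext
    intro i c
    show f (Pi.single i c, 0) = g (Pi.single i c, 0)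
    have e : ((Pi.single i c, 0) : Mod J K K') = c • eJ i := by
      unfold eJ
      rw [Prod.smul_mk, smul_zero, ← Pi.single_smul, smul_eq_mul, mul_one]
    rw [e, map_smul, map_smul, h1]
  · apply LinearMap.ext
    intro w
    exact h2 w

/-- the diagonal action of the torus element of parameter `t` -/
structure Dg (τ : Tw K K') (ν : J → J) (a : J) (f : Module.End K (Mod J K K')) (t : K') :
    Prop where
  at_a : f (eJ a) = τ.N t • eJ a
  at_na : f (eJ (ν a)) = (τ.N t)⁻¹ • eJ (ν a)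
  at_ne : ∀ l, l ≠ a → l ≠ ν a → f (eJ l) = eJ l
  at_W : ∀ w, f (eW w) = eW (t * (τ.σ t)⁻¹ * w)

theorem Dg.mul {a : J} {f f' : Module.End K (Mod J K K')} {t t' : K'} (h : Dg τ ν a f t)
    (h' : Dg τ ν a f' t') : Dg τ ν a (f * f') (t * t') := by
  refine ⟨?_, ?_, ?_, ?_⟩
  · rw [Module.End.mul_apply, h'.at_a, map_smul, h.at_a, smul_smul, τ.N_mul, mul_comm]
  · rw [Module.End.mul_apply, h'.at_na, map_smul, h.at_na, smul_smul, τ.N_mul, mul_inv, mul_comm]
  · intro l hl hl'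
    rw [Module.End.mul_apply, h'.at_ne l hl hl', h.at_ne l hl hl']
  · intro w
    rw [Module.End.mul_apply, h'.at_W, h.at_W, map_mul, mul_inv]
    congr 1; ring

theorem Dg.eq_one [Finite J] {a : J} {f : Module.End K (Mod J K K')} (h : Dg τ ν a f 1) :
    f = 1 := by
  apply end_ext
  · intro l
    by_cases hl : l = a
    · subst hl; rw [h.at_a, τ.N_one, one_smul]; rfl
    by_cases hl' : l = ν a
    · subst hl'; rw [h.at_na, τ.N_one, inv_one, one_smul]; rfl
    · rw [h.at_ne l hl hl']; rfl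
  · intro w
    rw [h.at_W, map_one, inv_one, one_mul, one_mul]; rfl

variable {φ : G →* Module.End K (Mod J K K')}

theorem Dg.inv {a : J} {g : G} {t : K'} (ht : t ≠ 0) (h : Dg τ ν a (φ g) t) :
    Dg τ ν a (φ g⁻¹) t⁻¹ := by
  have hinv : ∀ z : Mod J K K', φ g⁻¹ (φ g z) = z := fun z => by
    rw [← Module.End.mul_apply, ← map_mul, inv_mul_cancel, map_one]; rfl
  have hN : τ.N t ≠ 0 := τ.N_ne_zero ht
  have hσ : τ.σ t ≠ 0 := Tw'.σ_ne_zero τ ht
  refine ⟨?_, ?_, ?_, ?_⟩
  · have e : (eJ a : Mod J K K') = (τ.N t)⁻¹ • φ g (eJ a) := by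
      rw [h.at_a, smul_smul, inv_mul_cancel₀ hN, one_smul]
    conv_lhs => rw [e]
    rw [map_smul, hinv, τ.N_inv]
  · have e : (eJ (ν a) : Mod J K K') = (τ.N t) • φ g (eJ (ν a)) := by
      rw [h.at_na, smul_smul, mul_inv_cancel₀ hN, one_smul]
    conv_lhs => rw [e]
    rw [map_smul, hinv, τ.N_inv, inv_inv]
  · intro l hl hl'
    conv_lhs => rw [← h.at_ne l hl hl']
    rw [hinv]
  · intro w
    have e : (eW w : Mod J K K') = φ g (eW (t⁻¹ * (τ.σ t⁻¹)⁻¹ * w)) := by
      rw [h.at_W]; congr 1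
      rw [map_inv₀, inv_inv]; field_simp
    conv_lhs => rw [e]
    rw [hinv]

variable (hφ : IsRepT B φ)
include hφ

/-- the torus elements act diagonally -/
theorem dg_hS (a : J) {t : K'} (ht : t ≠ 0) : Dg τ ν a (φ (hS B a t)) t := by
  have h1 : (-1 : K') ≠ 0 := neg_ne_zero.mpr one_ne_zero
  have e : φ (hS B a t) = φ (B.wS a t) * φ (B.wS a (-1)) := by
    unfold hS; rw [B.wS_inv, map_mul]
  have N1 : τ.N (-1) = 1 := by rw [τ.N_neg, τ.N_one]
  have hN : τ.N t ≠ 0 := τ.N_ne_zero ht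
  have hσ : τ.σ t ≠ 0 := Tw'.σ_ne_zero τ ht
  have n1 := B.D.ne_nu a
  refine ⟨?_, ?_, ?_, ?_⟩
  · rw [e, Module.End.mul_apply, rep_wS_eJ hφ a h1, map_smul, rep_wS_eJ hφ a ht, N1,
      Equiv.swap_apply_left, Equiv.swap_apply_right, vT_a, B.vT_na, smul_smul]
    congr 1; simp
  · rw [e, Module.End.mul_apply, rep_wS_eJ hφ a h1, map_smul, rep_wS_eJ hφ a ht, N1,
      Equiv.swap_apply_right, Equiv.swap_apply_left, vT_a, B.vT_na, smul_smul]
    congr 1; simp
  · intro l hl hl'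
    rw [e, Module.End.mul_apply, rep_wS_eJ hφ a h1, map_smul, rep_wS_eJ hφ a ht,
      Equiv.swap_apply_of_ne_of_ne hl hl', Equiv.swap_apply_of_ne_of_ne hl hl',
      vT_of_ne _ hl hl', vT_of_ne _ hl hl', one_smul, one_smul]
  · intro w
    rw [e, Module.End.mul_apply, rep_wS_W hφ a h1, rep_wS_W hφ a ht]
    congr 1
    unfold Tw'.rf
    have e1 : τ.σ (-1) = -1 := by rw [map_neg, map_one]
    have e2 : (-1 : K') * (-1)⁻¹ = 1 := mul_inv_cancel₀ h1
    rw [e1, e2, one_mul, map_neg, τ.σσ]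
    ring

end Cfsg.Agent.Lib.Helper2.CW
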