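import Cfsg.Agent.Lib.Helper2.CarveW1b

/-!
# Carve-out W1, part c: the structure of the monomial subgroup and the kernel of the natural
representation
-/

set_option linter.unusedSectionVars false
set_option linter.unusedVariables false
set_option autoImplicit false

namespace Cfsg.Agent.Lib.Helper2.CW

open Cfsg.Agent.Lib.Helper5.Stb Cfsg.Agent.Lib.Helper3.AN Cfsg.Agent.Lib.Helper3.DN
  Cfsg.Agent.Lib.Helper3.TN Cfsg.Agent.Lib.Helper3.TW

section generic

variable {J K K' G : Type*} [Field K] [Field K'] [Algebra K K'] [Finite K'] [Group G] {ν : J → J}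
  {τ : Tw K K'} (B : TData J K K' G ν τ) [DecidableEq J] [Finite J]
  {φ : G →* Module.End K (Mod J K K')} (hφ : IsRepT B φ)
  (hker : ∀ g, φ g = 1 → ∀ x : G, g * x = x * g)
  (hc : ∀ a b : J, ∃ c, c ≠ a ∧ c ≠ b ∧ c ≠ ν a ∧ c ≠ ν b) (a : J)

include hφ in
theorem N0T_fixW {g : G} (hg : g ∈ N0T B) (w : K') : φ g (eW w) = eW w := by
  unfold N0T Cfsg.Agent.Lib.Helper3.BN.BData.N0 at hg
  induction hg using Subgroup.closure_induction with
  | mem y hy =>
    obtain ⟨i, j, u, -, -, -, rfl⟩ := hy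
    exact rep_w_W hφ i j u w
  | one => rw [map_one]; rfl
  | mul x y _ _ hx hy => rw [map_mul, Module.End.mul_apply, hy, hx]
  | inv x _ hx =>
    have : φ x⁻¹ (φ x (eW w)) = eW w := by
      rw [← Module.End.mul_apply, ← map_mul, inv_mul_cancel, map_one]; rfl
    rwa [hx] at this

include hφ hker in
theorem hS_cen (t u : K') (ht : t ≠ 0) (hu : u ≠ 0) (x : G) :
    Commute (hS B a (t * u) * (hS B a t)⁻¹ * (hS B a u)⁻¹) x := by
  apply hker
  have h1 := ((dg_hS B hφ a (mul_ne_zero ht hu)).mul (Dg.inv ht (dg_hS B hφ a ht))).mul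
    (Dg.inv hu (dg_hS B hφ a hu))
  rw [map_mul, map_mul]
  have e : t * u * t⁻¹ * u⁻¹ = 1 := by field_simp
  rw [e] at h1
  exact h1.eq_one

include hφ hker hc in
theorem hS_mul : ∀ t u : K', t ≠ 0 → u ≠ 0 → hS B a (t * u) = hS B a t * hS B a u :=
  Cfsg.Agent.Lib.Carve.R1.rank_one_torus_mul (rx B a) (ry B a) (rx_add B a) (ry_add B a)
    (B.wS a) (hS B a) (rw_eq B a) (rh_eq B a) (rhB B a hc)
    (fun t u ht hu x => hS_cen B hφ hker a t u ht hu x)

theorem hS_one : hS B a 1 = 1 := by unfold hS; rw [mul_inv_cancel]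

theorem wS_eq_h (t : K') : B.wS a t = hS B a t * B.wS a 1 := by unfold hS; group

include hc in
theorem cj_w1_h {v : K'} (hv : v ≠ 0) : B.wS a 1 * hS B a v * (B.wS a 1)⁻¹ = hS B a v⁻¹ :=
  Cfsg.Agent.Lib.Carve.R1.cj_w1_h (rx B a) (ry B a) (rx_add B a) (ry_add B a)
    (B.wS a) (hS B a) (rw_eq B a) (rh_eq B a) (rhB B a hc) hv

theorem hS_neg_one : hS B a (-1) = (B.wS a 1)⁻¹ * (B.wS a 1)⁻¹ := by
  unfold hS; rw [← B.wS_inv]

include hφ hker hc in
theorem hS_neg_one_sq : hS B a (-1) * hS B a (-1) = 1 := by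
  have h1 : (-1 : K') ≠ 0 := neg_ne_zero.mpr one_ne_zero
  rw [← hS_mul B hφ hker hc a (-1) (-1) h1 h1, neg_mul_neg, one_mul, hS_one]

include hφ hker hc in
theorem w_mul_h {t u : K'} (ht : t ≠ 0) (hu : u ≠ 0) :
    B.wS a u * hS B a t = B.wS a (u * t⁻¹) := by
  have e : B.wS a u * hS B a t =
      hS B a u * (B.wS a 1 * hS B a t * (B.wS a 1)⁻¹) * B.wS a 1 := by
    rw [wS_eq_h B a u]; group
  rw [e, cj_w1_h B hc a ht, ← hS_mul B hφ hker hc a u t⁻¹ hu (inv_ne_zero ht), ← wS_eq_h]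

include hφ hker hc in
theorem w_mul_w {t u : K'} (ht : t ≠ 0) (hu : u ≠ 0) :
    B.wS a u * B.wS a t = hS B a (-(u * t⁻¹)) := by
  have hut : u * t⁻¹ ≠ 0 := mul_ne_zero hu (inv_ne_zero ht)
  have h1 : (-1 : K') ≠ 0 := neg_ne_zero.mpr one_ne_zero
  have e1 : B.wS a 1 * B.wS a 1 = hS B a (-1) := by
    have h2 := hS_neg_one_sq B hφ hker hc a
    have h3 := hS_neg_one B a
    have h4 : hS B a (-1) = (hS B a (-1))⁻¹ := eq_inv_of_mul_eq_one_left h2
    rw [h4, h3, mul_inv_rev, inv_inv]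
  have e : B.wS a u * B.wS a t = (B.wS a u * hS B a t) * B.wS a 1 := by
    rw [wS_eq_h B a t]; group
  rw [e, w_mul_h B hφ hker hc a ht hu, wS_eq_h B a (u * t⁻¹), mul_assoc, e1,
    ← hS_mul B hφ hker hc a _ _ hut h1, mul_neg, mul_one]

/-- the union of the cosets `N0T * hS t` and `N0T * wS a t` -/
def CS : Set G :=
  {g | ∃ n0 ∈ N0T B, ∃ t : K', t ≠ 0 ∧ (g = n0 * hS B a t ∨ g = n0 * B.wS a t)}

theorem one_mem_CS : (1 : G) ∈ CS B a :=
  ⟨1, one_mem _, 1, one_ne_zero, Or.inl (by rw [hS_one, one_mul])⟩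

theorem CS_mulL {x g : G} (hx : x ∈ N0T B) (hg : g ∈ CS B a) : x * g ∈ CS B a := by
  obtain ⟨n0, hn0, t, ht, rfl | rfl⟩ := hg
  · exact ⟨x * n0, mul_mem hx hn0, t, ht, Or.inl (by group)⟩
  · exact ⟨x * n0, mul_mem hx hn0, t, ht, Or.inr (by group)⟩

include hφ hker hc in
theorem CS_mulS {u : K'} (hu : u ≠ 0) {g : G} (hg : g ∈ CS B a) : B.wS a u * g ∈ CS B a := by
  obtain ⟨n0, hn0, t, ht, rfl | rfl⟩ := hg
  · refine ⟨B.wS a u * n0 * (B.wS a u)⁻¹, N0T_conj_wS B hc a hu hn0, u * t⁻¹,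
      mul_ne_zero hu (inv_ne_zero ht), Or.inr ?_⟩
    rw [← w_mul_h B hφ hker hc a ht hu]; group
  · refine ⟨B.wS a u * n0 * (B.wS a u)⁻¹, N0T_conj_wS B hc a hu hn0, -(u * t⁻¹),
      neg_ne_zero.mpr (mul_ne_zero hu (inv_ne_zero ht)), Or.inl ?_⟩
    rw [← w_mul_w B hφ hker hc a ht hu]; group

include hφ hker hc in
theorem CS_mulSk (k : J) {u : K'} (hu : u ≠ 0) {g : G} (hg : g ∈ CS B a) :
    B.wS k u * g ∈ CS B a := by
  by_cases h1 : k = a
  · subst h1; exact CS_mulS B hφ hker hc k hu hg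
  by_cases h2 : k = ν a
  · subst h2
    rw [wS_nu B a hc hu]
    exact CS_mulS B hφ hker hc a (inv_ne_zero (Tw'.σ_ne_zero τ hu)) hg
  · obtain ⟨m, hm, e⟩ := wS_off B hc h1 h2 hu
    rw [e, mul_assoc]
    exact CS_mulL B a hm (CS_mulS B hφ hker hc a hu hg)

include hφ hc in
/-- an element of the two families of cosets in the kernel of `φ` lies in `N0T` -/
theorem mem_N0T_of_ker {g : G} (hg : φ g = 1) (hgN : g ∈ CS B a) : g ∈ N0T B := by
  obtain ⟨n0, hn0, t, ht, rfl | rfl⟩ := hgN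
  · have hσ : τ.σ t ≠ 0 := Tw'.σ_ne_zero τ ht
    have h1 : ∀ w, φ (n0 * hS B a t) (eW w) = eW (t * (τ.σ t)⁻¹ * w) := by
      intro w
      rw [map_mul, Module.End.mul_apply, (dg_hS B hφ a ht).at_W, N0T_fixW B hφ hn0]
    have h2 := h1 1
    rw [hg] at h2
    have h3 : (1 : K') = t * (τ.σ t)⁻¹ * 1 := eW_inj h2
    have h4 : τ.σ t = t := by
      rw [mul_one] at h3
      have := congrArg (fun z => z * τ.σ t) h3
      simp only [one_mul, inv_mul_cancel_right₀ hσ] at this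
      exact this
    obtain ⟨c, rfl⟩ := τ.fix t h4
    have hc0 : c ≠ 0 := by rintro rfl; exact ht (map_zero _)
    have h5 := (toB B).wS_div_one hc a hc0
    rw [toB_wS, toB_wS, map_one] at h5
    exact mul_mem hn0 h5
  · exfalso
    have h1 : ∀ w, φ (n0 * B.wS a t) (eW w) = eW (Tw'.rf τ t w) := by
      intro w
      rw [map_mul, Module.End.mul_apply, rep_wS_W hφ a ht, N0T_fixW B hφ hn0]
    rw [hg] at h1
    have h2 : ∀ w, w = Tw'.rf τ t w := fun w => eW_inj (h1 w)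
    have h3 := h2 1
    have h4 := h2 τ.δ
    unfold Tw'.rf at h3 h4
    rw [map_one, mul_one] at h3
    apply τ.hδ
    linear_combination (τ.σ τ.δ) * h3 - h4

end generic

section fin

variable {n : ℕ} {K K' G : Type*} [Field K] [Field K'] [Algebra K K'] [Finite K'] [Group G]
  {τ : Tw K K'} (B : TData (Fin (n + n)) K K' G Fin.rev τ)
  {φ : G →* Module.End K (Mod (Fin (n + n)) K K')} (hφ : IsRepT B φ)
  (hker : ∀ g, φ g = 1 → ∀ x : G, g * x = x * g)
  (hc : ∀ a b : Fin (n + n), ∃ c, c ≠ a ∧ c ≠ b ∧ c ≠ Fin.rev a ∧ c ≠ Fin.rev b)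
  (a : Fin (n + n))

include hφ hker hc in
theorem NwB_le_CS {g : G} (hg : g ∈ B.NwB) : g ∈ CS B a := by
  unfold TData.NwB at hg
  induction hg using Subgroup.closure_induction_left with
  | one => exact one_mem_CS B a
  | mul_left x hx y _ hy =>
    rcases hx with ⟨i, j, u, hij, hij', hu, rfl⟩ | ⟨k, u, hu, rfl⟩
    · exact CS_mulL B a (w_mem_N0T B hij hij' hu) hy
    · exact CS_mulSk B hφ hker hc a k hu hy
  | inv_mul_cancel x hx y _ hy =>
    rcases hx with ⟨i, j, u, hij, hij', hu, rfl⟩ | ⟨k, u, hu, rfl⟩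
    · exact CS_mulL B a (inv_mem (w_mem_N0T B hij hij' hu)) hy
    · rw [B.wS_inv]
      exact CS_mulSk B hφ hker hc a k (neg_ne_zero.mpr hu) hy

end fin

end Cfsg.Agent.Lib.Helper2.CW

namespace Cfsg.Agent.Lib.Carve.W1

open Cfsg.Agent.Lib.Helper3.DN Cfsg.Agent.Lib.Helper3.BN Cfsg.Agent.Lib.Helper3.TN
  Cfsg.Agent.Lib.Helper3.TW

/-- the subgroup generated by the long root elements -/
def longSubT {J K K' G : Type*} [Field K] [Field K'] [Algebra K K'] [Group G] {ν : J → J}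
    {τ : Tw K K'} (B : TData J K K' G ν τ) : Subgroup G :=
  Subgroup.closure {g : G | ∃ k l t, g = B.D.y k l t}

/-- the kernel of the natural representation lies in the long root subgroup, given that it is
central and contained in the monomial subgroup `NwB` -/
theorem kerT_mem_longSub {n : ℕ} {K K' G : Type*} [Field K] [Field K'] [Algebra K K'] [Finite K']
    [Group G] {τ : Tw K K'} (B : TData (Fin (n + n)) K K' G Fin.rev τ) (hn : 3 ≤ n)
    {φ : G →* Module.End K (Mod (Fin (n + n)) K K')} (hφ : IsRepT B φ)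
    (hker : ∀ g, φ g = 1 → g ∈ B.NwB ∧ ∀ x : G, g * x = x * g)
    (g : G) (hg : φ g = 1) : g ∈ longSubT B := by
  have hc := hc_fin hn
  have hcen : ∀ g, φ g = 1 → ∀ x : G, g * x = x * g := fun g h => (hker g h).2
  have h1 : g ∈ Cfsg.Agent.Lib.Helper2.CW.CS B (⟨0, by omega⟩ : Fin (n + n)) :=
    Cfsg.Agent.Lib.Helper2.CW.NwB_le_CS B hφ hcen hc _ (hker g hg).1
  exact Cfsg.Agent.Lib.Helper2.CW.N0T_le B
    (Cfsg.Agent.Lib.Helper2.CW.mem_N0T_of_ker B hφ hc _ hg h1)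

end Cfsg.Agent.Lib.Carve.W1
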