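import Mathlib
import Cfsg.Prelude.Def_Characters
import Cfsg.Prelude.Def_Perm
import Cfsg.Agent.Lib.Helper1.CharFound6
import Cfsg.Agent.Lib.Helper8.ClassAlgebra2

set_option autoImplicit false

/-!
# Isotypic idempotents and the commutant of a representation
-/

namespace Cfsg.Agent.Lib.Helper2.Commutant

open scoped ComplexConjugate
open Cfsg.Agent.Lib.Helper1 Cfsg.Agent.Lib.Helper4 Cfsg.Agent.Lib.Helper8

section idem

variable {G : Type*} [Group G] [Fintype G] {V : Type*} [AddCommGroup V] [Module ℂ V]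

/-- the isotypic idempotent of `χ` acting on the representation `ρ` -/
noncomputable def isoIdem (ρ : Representation ℂ G V) (χ : G → ℂ) : Module.End ℂ V :=
  (χ 1 * (Nat.card G : ℂ)⁻¹) • ∑ g : G, conj (χ g) • ρ g

theorem isoIdem_comm (ρ : Representation ℂ G V) {χ : G → ℂ} (hχ : Cfsg.IsClassFunction G χ) (h : G) :
    ρ h * isoIdem ρ χ = isoIdem ρ χ * ρ h := by
  unfold isoIdem
  rw [mul_smul_comm, smul_mul_assoc, Finset.mul_sum, Finset.sum_mul]
  congr 1
  conv_rhs => rw [← Equiv.sum_comp (MulAut.conj h).toEquiv]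
  refine Finset.sum_congr rfl fun g _ => ?_
  have e : (MulAut.conj h).toEquiv g = h * g * h⁻¹ := rfl
  rw [e, hχ g h, smul_mul_assoc, mul_smul_comm, ← map_mul, ← map_mul]
  congr 2
  group

/-- convolution of two irreducible characters (conjugated form) -/
theorem sum_conj_mul_conj {χ ψ : G → ℂ} (hχ : Cfsg.IsIrrCharacter G χ)
    (hψ : Cfsg.IsIrrCharacter G ψ) (k : G) :
    ∑ g : G, conj (χ g) * conj (ψ (g⁻¹ * k)) =
      if χ = ψ then (Nat.card G : ℂ) * conj (ψ k) / ψ 1 else 0 := by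
  have hψc := isClassFunction_irr hψ
  have hχch := isCharacter_of_irr hχ
  have h1 := sum_irr_inv_mul_irr hψ hχ k
  -- `∑ g, χ g⁻¹ * ψ (k * g) = if ψ = χ then |G| ψ k / ψ 1 else 0`
  have h2 : ∑ g : G, conj (χ g) * conj (ψ (g⁻¹ * k)) = conj (∑ g : G, χ g⁻¹ * ψ (k * g)) := by
    rw [map_sum, ← Equiv.sum_comp (Equiv.inv G)]
    refine Finset.sum_congr rfl fun g _ => ?_
    rw [Equiv.inv_apply, inv_inv, map_mul, isCharacter_inv hχch g, Complex.conj_conj]
    congr 2
    have := hψc (g * k) g⁻¹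
    rw [inv_inv] at this
    rw [← this]
    congr 1
    group
  rw [h2, h1]
  by_cases h : χ = ψ
  · rw [if_pos h, if_pos h.symm, map_div₀, map_mul, Nat.card_eq_fintype_card, Complex.conj_natCast,
      irr_conj_one hψ]
  · rw [if_neg h, if_neg (Ne.symm h), map_zero]

theorem isoIdem_mul (ρ : Representation ℂ G V) {χ ψ : G → ℂ} (hχ : Cfsg.IsIrrCharacter G χ)
    (hψ : Cfsg.IsIrrCharacter G ψ) :
    isoIdem ρ χ * isoIdem ρ ψ = if χ = ψ then isoIdem ρ χ else 0 := by
  have hG0 : (Nat.card G : ℂ) ≠ 0 := Nat.cast_ne_zero.2 Nat.card_pos.ne'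
  have hψ1 : ψ 1 ≠ 0 := by
    obtain ⟨n, hn, h1⟩ := irr_apply_one_pos hψ
    rw [h1]
    exact Nat.cast_ne_zero.2 hn.ne'
  have hprod : (∑ g : G, conj (χ g) • ρ g) * (∑ h : G, conj (ψ h) • ρ h) =
      ∑ k : G, (∑ g : G, conj (χ g) * conj (ψ (g⁻¹ * k))) • ρ k := by
    rw [Finset.sum_mul]
    have : ∀ g : G, (conj (χ g) • ρ g) * (∑ h : G, conj (ψ h) • ρ h) =
        ∑ k : G, (conj (χ g) * conj (ψ (g⁻¹ * k))) • ρ k := by
      intro g
      rw [Finset.mul_sum, ← Equiv.sum_comp (Equiv.mulLeft g)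
        (fun k => (conj (χ g) * conj (ψ (g⁻¹ * k))) • ρ k)]
      refine Finset.sum_congr rfl fun h _ => ?_
      simp only [Equiv.coe_mulLeft, inv_mul_cancel_left]
      rw [smul_mul_smul_comm, map_mul ρ g h]
    rw [Finset.sum_congr rfl (fun g _ => this g), Finset.sum_comm]
    refine Finset.sum_congr rfl fun k _ => ?_
    rw [Finset.sum_smul]
  unfold isoIdem
  rw [smul_mul_smul_comm, hprod]
  simp only [sum_conj_mul_conj hχ hψ]
  by_cases h : χ = ψ
  · simp only [if_pos h]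
    rw [h]
    have : ∀ k : G, ((Nat.card G : ℂ) * conj (ψ k) / ψ 1) • ρ k =
        ((Nat.card G : ℂ) / ψ 1) • (conj (ψ k) • ρ k) := by
      intro k
      rw [smul_smul]
      congr 1
      ring
    rw [Finset.sum_congr rfl (fun k _ => this k), ← Finset.smul_sum, smul_smul]
    congr 1
    field_simp
  · simp only [if_neg h, zero_smul, Finset.sum_const_zero, smul_zero]

theorem isoIdem_idem (ρ : Representation ℂ G V) {χ : G → ℂ} (hχ : Cfsg.IsIrrCharacter G χ) :
    IsIdempotentElem (isoIdem ρ χ) := by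
  have := isoIdem_mul ρ hχ hχ
  rw [if_pos rfl] at this
  exact this

theorem trace_isoIdem [FiniteDimensional ℂ V] (ρ : Representation ℂ G V) (χ : G → ℂ) :
    LinearMap.trace ℂ V (isoIdem ρ χ) = χ 1 * Cfsg.classInner ρ.character χ := by
  unfold isoIdem Cfsg.classInner
  rw [LinearMap.map_smul, map_sum, smul_eq_mul, mul_assoc]
  congr 2
  refine Finset.sum_congr rfl fun g _ => ?_
  rw [LinearMap.map_smul, smul_eq_mul, mul_comm]
  rfl

theorem isoIdem_eq_zero [FiniteDimensional ℂ V] (ρ : Representation ℂ G V) {χ : G → ℂ}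
    (hχ : Cfsg.IsIrrCharacter G χ) (h0 : Cfsg.classInner ρ.character χ = 0) :
    isoIdem ρ χ = 0 := by
  apply (LinearMap.IsIdempotentElem.trace_eq_zero_iff (isoIdem_idem ρ hχ)).1
  rw [trace_isoIdem, h0, mul_zero]

theorem isoIdem_ne_zero [FiniteDimensional ℂ V] (ρ : Representation ℂ G V) {χ : G → ℂ}
    (hχ : Cfsg.IsIrrCharacter G χ) (h0 : Cfsg.classInner ρ.character χ ≠ 0) :
    isoIdem ρ χ ≠ 0 := by
  intro h
  have h1 := trace_isoIdem ρ χ
  rw [h, map_zero] at h1
  obtain ⟨n, hn, hn1⟩ := irr_apply_one_pos hχ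
  rcases mul_eq_zero.1 h1.symm with h2 | h2
  · rw [hn1] at h2
    exact hn.ne' (by exact_mod_cast h2)
  · exact h0 h2

omit [Fintype G] in
theorem mem_commutant_iff {W : Type*} [AddCommGroup W] [Module ℂ W] (ρ : Representation ℂ G V)
    (σ : Representation ℂ G W) (f : V →ₗ[ℂ] W) :
    f ∈ (ρ.linHom σ).invariants ↔ ∀ g : G, f ∘ₗ ρ g = σ g ∘ₗ f := by
  rw [Representation.mem_invariants]
  constructor
  · intro h g
    have h1 := h g
    rw [Representation.linHom_apply] at h1
    conv_lhs => rw [← h1]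
    rw [LinearMap.comp_assoc, LinearMap.comp_assoc]
    have : ρ g⁻¹ ∘ₗ ρ g = LinearMap.id := by
      have := map_mul ρ g⁻¹ g
      rw [inv_mul_cancel, map_one] at this
      exact this.symm
    rw [this, LinearMap.comp_id]
  · intro h g
    rw [Representation.linHom_apply, ← LinearMap.comp_assoc, ← h g, LinearMap.comp_assoc]
    have : ρ g ∘ₗ ρ g⁻¹ = LinearMap.id := by
      have := map_mul ρ g g⁻¹
      rw [mul_inv_cancel, map_one] at this
      exact this.symm
    rw [this, LinearMap.comp_id]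

theorem isoIdem_mem_invariants (ρ : Representation ℂ G V) {χ : G → ℂ}
    (hχ : Cfsg.IsClassFunction G χ) : isoIdem ρ χ ∈ (ρ.linHom ρ).invariants := by
  rw [mem_commutant_iff]
  intro g
  exact (isoIdem_comm ρ hχ g).symm

end idem

end Cfsg.Agent.Lib.Helper2.Commutant
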