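import Mathlib
import Cfsg.Prelude.Def_Characters
import Cfsg.Prelude.Def_Perm
import Cfsg.Agent.Lib.Helper2.Commutant1

set_option autoImplicit false

/-!
# The commutant of a representation: dimension, and commutativity in the multiplicity-free case
-/

namespace Cfsg.Agent.Lib.Helper2.Commutant

open scoped ComplexConjugate
open Cfsg.Agent.Lib.Helper1 Cfsg.Agent.Lib.Helper4 Cfsg.Agent.Lib.Helper8

section dim

variable {G : Type*} [Group G] [Fintype G] {V : Type*} [AddCommGroup V] [Module ℂ V]
  [FiniteDimensional ℂ V] {W : Type*} [AddCommGroup W] [Module ℂ W] [FiniteDimensional ℂ W]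

/-- the dimension of the space of intertwiners -/
theorem finrank_invariants_linHom (ρ : Representation ℂ G V) (σ : Representation ℂ G W) :
    (Module.finrank ℂ (ρ.linHom σ).invariants : ℂ) = Cfsg.classInner σ.character ρ.character := by
  have hG0 : (Nat.card G : ℂ) ≠ 0 := Nat.cast_ne_zero.2 Nat.card_pos.ne'
  let _ : Invertible (Nat.card G : ℂ) := invertibleOfNonzero hG0
  rw [← Representation.card_inv_mul_sum_char_eq_finrank (ρ.linHom σ)]
  unfold Cfsg.classInner
  congr 1
  refine Finset.sum_congr rfl fun g _ => ?_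
  rw [Representation.char_linHom, mul_comm, isCharacter_inv (isCharacter_character ρ) g]

open Classical in
/-- a multiplicity-free representation has commutative commutant -/
theorem comm_of_multFree (ρ : Representation ℂ G V)
    (hmf : ∀ χ : G → ℂ, Cfsg.IsIrrCharacter G χ →
      Cfsg.classInner ρ.character χ = 0 ∨ Cfsg.classInner ρ.character χ = 1)
    (S T : V →ₗ[ℂ] V) (hS : S ∈ (ρ.linHom ρ).invariants) (hT : T ∈ (ρ.linHom ρ).invariants) :
    S ∘ₗ T = T ∘ₗ S := by
  let _ : Fintype (Cfsg.IrrCharacter G) := Fintype.ofFinite _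
  set ψ : G → ℂ := ρ.character with hψ
  have hψchar : Cfsg.IsCharacter G ψ := isCharacter_character ρ
  have hψcf : Cfsg.IsClassFunction G ψ := isClassFunction_of_isCharacter hψchar
  set I : Finset (Cfsg.IrrCharacter G) :=
    Finset.univ.filter (fun χ => Cfsg.classInner ψ (χ : G → ℂ) = 1) with hI
  -- dimension of the commutant
  have hdim : Module.finrank ℂ (ρ.linHom ρ).invariants = I.card := by
    have h1 := finrank_invariants_linHom ρ ρ
    rw [classInner_eq_sum_mult ψ ψ hψcf] at h1
    have h2 : ∀ χ : Cfsg.IrrCharacter G, Cfsg.classInner ψ (χ : G → ℂ) *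
        Cfsg.classInner (χ : G → ℂ) ψ = if Cfsg.classInner ψ (χ : G → ℂ) = 1 then 1 else 0 := by
      intro χ
      rw [← classInner_conj_symm ψ (χ : G → ℂ)]
      rcases hmf χ χ.2 with h | h
      · rw [h, zero_mul, if_neg (by norm_num)]
      · rw [h, if_pos rfl, map_one, mul_one]
    rw [Finset.sum_congr rfl (fun χ _ => h2 χ), Finset.sum_boole] at h1
    exact_mod_cast h1
  -- the idempotents
  set E : I → Module.End ℂ V := fun χ => isoIdem ρ (χ.1 : G → ℂ) with hE
  have hEne : ∀ χ : I, E χ ≠ 0 := by
    intro χ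
    apply isoIdem_ne_zero ρ χ.1.2
    have := (Finset.mem_filter.1 χ.2).2
    rw [this]
    exact one_ne_zero
  have hEmul : ∀ χ φ : I, E χ * E φ = if χ = φ then E χ else 0 := by
    intro χ φ
    simp only [hE]
    rw [isoIdem_mul ρ χ.1.2 φ.1.2]
    by_cases h : χ = φ
    · rw [if_pos h, if_pos (by rw [h])]
    · rw [if_neg h, if_neg]
      intro h2
      exact h (Subtype.ext (Subtype.ext h2))
  have hli : LinearIndependent ℂ E := by
    rw [linearIndependent_iff']
    intro s a ha φ hφ
    have h1 := congrArg (fun X => X * E φ) ha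
    simp only [Finset.sum_mul, zero_mul, smul_mul_assoc, hEmul] at h1
    rw [Finset.sum_eq_single φ] at h1
    · rw [if_pos rfl] at h1
      rcases smul_eq_zero.1 h1 with h | h
      · exact h
      · exact absurd h (hEne φ)
    · intro χ _ hχ
      rw [if_neg hχ, smul_zero]
    · intro h
      exact absurd hφ h
  have hle : Submodule.span ℂ (Set.range E) ≤ (ρ.linHom ρ).invariants := by
    rw [Submodule.span_le]
    rintro _ ⟨χ, rfl⟩
    exact isoIdem_mem_invariants ρ (isClassFunction_irr χ.1.2)
  have hspan : Submodule.span ℂ (Set.range E) = (ρ.linHom ρ).invariants := by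
    apply Submodule.eq_of_le_of_finrank_eq hle
    rw [finrank_span_eq_card hli, hdim, Fintype.card_coe]
  -- commutativity on the span
  have hc1 : ∀ X ∈ Submodule.span ℂ (Set.range E), ∀ χ : I, E χ * X = X * E χ := by
    intro X hX χ
    induction hX using Submodule.span_induction with
    | mem x hx =>
      obtain ⟨φ, rfl⟩ := hx
      rw [hEmul, hEmul]
      by_cases h : χ = φ
      · rw [if_pos h, if_pos h.symm, h]
      · rw [if_neg h, if_neg (Ne.symm h)]
    | zero => rw [mul_zero, zero_mul]
    | add x y _ _ hx hy => rw [mul_add, add_mul, hx, hy]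
    | smul c x _ hx => rw [mul_smul_comm, smul_mul_assoc, hx]
  have hc2 : ∀ X ∈ Submodule.span ℂ (Set.range E), ∀ Y ∈ Submodule.span ℂ (Set.range E),
      X * Y = Y * X := by
    intro X hX Y hY
    induction hX using Submodule.span_induction with
    | mem x hx =>
      obtain ⟨φ, rfl⟩ := hx
      exact hc1 Y hY φ
    | zero => rw [mul_zero, zero_mul]
    | add x y _ _ hx hy => rw [mul_add, add_mul, hx, hy]
    | smul c x _ hx => rw [mul_smul_comm, smul_mul_assoc, hx]
  rw [← hspan] at hS hT
  exact hc2 S hS T hT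

end dim

end Cfsg.Agent.Lib.Helper2.Commutant
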