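import Mathlib
import Cfsg.Prelude.Def_Characters
import Cfsg.Prelude.Def_Perm
import Cfsg.Agent.Lib.Helper2.Commutant2

set_option autoImplicit false

/-!
# A commutative commutant forces multiplicity-freeness
-/

namespace Cfsg.Agent.Lib.Helper2.Commutant

open scoped ComplexConjugate
open Cfsg.Agent.Lib.Helper1 Cfsg.Agent.Lib.Helper4 Cfsg.Agent.Lib.Helper8

section schur

variable {G : Type*} [Group G] {U : Type*} [AddCommGroup U] [Module ℂ U] [FiniteDimensional ℂ U]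

/-- Schur's lemma -/
theorem schur_scalar (σ : Representation ℂ G U) [σ.IsIrreducible] (θ : U →ₗ[ℂ] U)
    (hθ : ∀ g, θ ∘ₗ σ g = σ g ∘ₗ θ) : ∃ c : ℂ, θ = c • LinearMap.id := by
  let f : Representation.IntertwiningMap σ σ := ⟨θ, hθ⟩
  obtain ⟨c, hc⟩ :=
    (Representation.IsIrreducible.algebraMap_intertwiningMap_bijective_of_isAlgClosed (ρ := σ)).2 f
  refine ⟨c, ?_⟩
  ext v
  have h1 := congrArg (fun F : Representation.IntertwiningMap σ σ => F v) hc
  simp only [Representation.IntertwiningMap.algebraMap_apply] at h1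
  rw [LinearMap.smul_apply, LinearMap.id_apply]
  exact h1.symm

variable {V : Type*} [AddCommGroup V] [Module ℂ V]

omit [FiniteDimensional ℂ U] in
/-- a nonzero intertwiner out of an irreducible representation is injective -/
theorem injective_of_ne_zero (σ : Representation ℂ G U) [σ.IsIrreducible] (ρ : Representation ℂ G V)
    (φ : U →ₗ[ℂ] V) (hφ : ∀ g, φ ∘ₗ σ g = ρ g ∘ₗ φ) (h0 : φ ≠ 0) : Function.Injective φ := by
  let f : Representation.IntertwiningMap σ ρ := ⟨φ, hφ⟩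
  rcases Representation.IsIrreducible.injective_or_eq_zero f with h | h
  · exact h
  · exfalso
    apply h0
    have := congrArg Representation.IntertwiningMap.toLinearMap h
    exact this

omit [FiniteDimensional ℂ U] in
/-- Maschke: an injective intertwiner has an intertwining left inverse -/
theorem exists_leftInverse_intertwiner [Fintype G] (σ : Representation ℂ G U)
    (ρ : Representation ℂ G V) (φ : U →ₗ[ℂ] V) (hφ : ∀ g, φ ∘ₗ σ g = ρ g ∘ₗ φ)
    (hinj : Function.Injective φ) :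
    ∃ ψ : V →ₗ[ℂ] U, (∀ g, ψ ∘ₗ ρ g = σ g ∘ₗ ψ) ∧ ψ ∘ₗ φ = LinearMap.id := by
  have hG0 : (Nat.card G : ℂ) ≠ 0 := Nat.cast_ne_zero.2 Nat.card_pos.ne'
  obtain ⟨ψ₀, h₀⟩ := LinearMap.exists_leftInverse_of_injective φ (LinearMap.ker_eq_bot.2 hinj)
  have h₀' : ∀ u, ψ₀ (φ u) = u := fun u => LinearMap.congr_fun h₀ u
  have hφ' : ∀ g u, φ (σ g u) = ρ g (φ u) := fun g u => LinearMap.congr_fun (hφ g) u
  refine ⟨(Nat.card G : ℂ)⁻¹ • ∑ g : G, σ g ∘ₗ ψ₀ ∘ₗ ρ g⁻¹, ?_, ?_⟩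
  · intro h
    ext v
    simp only [LinearMap.comp_apply, LinearMap.smul_apply, LinearMap.sum_apply, map_smul, map_sum]
    congr 1
    rw [← Equiv.sum_comp (Equiv.mulLeft h)]
    refine Finset.sum_congr rfl fun g _ => ?_
    simp only [Equiv.coe_mulLeft, mul_inv_rev]
    rw [map_mul σ h g, Module.End.mul_apply]
    congr 2
    rw [← Module.End.mul_apply, ← map_mul, mul_assoc, inv_mul_cancel, mul_one]
  · ext u
    simp only [LinearMap.comp_apply, LinearMap.smul_apply, LinearMap.sum_apply, LinearMap.id_apply]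
    have : ∀ g : G, σ g (ψ₀ (ρ g⁻¹ (φ u))) = u := by
      intro g
      rw [← hφ', h₀', ← Module.End.mul_apply, ← map_mul, mul_inv_cancel, map_one,
        Module.End.one_apply]
    rw [Finset.sum_congr rfl (fun g _ => this g), Finset.sum_const, Finset.card_univ,
      ← Nat.card_eq_fintype_card, ← Nat.cast_smul_eq_nsmul ℂ, smul_smul, inv_mul_cancel₀ hG0,
      one_smul]

end schur

section main

variable {G : Type*} [Group G] [Fintype G] {V : Type*} [AddCommGroup V] [Module ℂ V]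
  [FiniteDimensional ℂ V]

/-- a representation with commutative commutant is multiplicity-free -/
theorem multFree_of_comm (ρ : Representation ℂ G V)
    (hcomm : ∀ S T : V →ₗ[ℂ] V, S ∈ (ρ.linHom ρ).invariants → T ∈ (ρ.linHom ρ).invariants →
      S ∘ₗ T = T ∘ₗ S) (χ : G → ℂ) (hχ : Cfsg.IsIrrCharacter G χ) :
    Cfsg.classInner ρ.character χ = 0 ∨ Cfsg.classInner ρ.character χ = 1 := by
  obtain ⟨n, hn⟩ := classInner_char_irr_nat (isCharacter_character ρ) hχ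
  rw [hn]
  by_contra hcon
  have hn2 : 2 ≤ n := by
    rcases Nat.lt_or_ge n 2 with h | h
    · exfalso
      apply hcon
      interval_cases n
      · left; simp
      · right; simp
    · exact h
  obtain ⟨k, σ, hirr, rfl⟩ := hχ
  have := hirr
  have hfin : Module.finrank ℂ (σ.linHom ρ).invariants = n := by
    have := finrank_invariants_linHom σ ρ
    rw [hn] at this
    exact_mod_cast this
  have h1lt : 1 < Module.finrank ℂ (σ.linHom ρ).invariants := by omega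
  have : Nontrivial (σ.linHom ρ).invariants :=
    Module.nontrivial_of_finrank_pos (R := ℂ) (lt_trans Nat.zero_lt_one h1lt)
  obtain ⟨φ₁, hφ₁⟩ := exists_ne (0 : (σ.linHom ρ).invariants)
  obtain ⟨φ₂, hli⟩ := exists_linearIndependent_pair_of_one_lt_finrank h1lt hφ₁
  have hφ₁c := (mem_commutant_iff σ ρ φ₁.1).1 φ₁.2
  have hφ₂c := (mem_commutant_iff σ ρ φ₂.1).1 φ₂.2
  have hφ₁0 : (φ₁ : (Fin k → ℂ) →ₗ[ℂ] V) ≠ 0 := fun h => hφ₁ (Subtype.ext h)
  have hinj := injective_of_ne_zero σ ρ φ₁.1 hφ₁c hφ₁0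
  obtain ⟨ψ₁, hψ₁c, hψ₁⟩ := exists_leftInverse_intertwiner σ ρ φ₁.1 hφ₁c hinj
  have hθ : ∀ g, (ψ₁ ∘ₗ φ₂.1) ∘ₗ σ g = σ g ∘ₗ (ψ₁ ∘ₗ φ₂.1) := by
    intro g
    rw [LinearMap.comp_assoc, hφ₂c g, ← LinearMap.comp_assoc, hψ₁c g, LinearMap.comp_assoc]
  obtain ⟨c, hc⟩ := schur_scalar σ (ψ₁ ∘ₗ φ₂.1) hθ
  set φ' : (Fin k → ℂ) →ₗ[ℂ] V := φ₂.1 - c • φ₁.1 with hφ'
  have hφ'0 : φ' ≠ 0 := by
    intro h
    have h1 := (LinearIndependent.pair_iff.1 hli) (-c) 1 (by
      apply Subtype.ext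
      have : φ₂.1 - c • φ₁.1 = 0 := h
      show (-c) • φ₁.1 + (1 : ℂ) • φ₂.1 = 0
      rw [one_smul, neg_smul, neg_add_eq_sub]
      exact this)
    exact one_ne_zero h1.2
  have hφ'c : ∀ g, φ' ∘ₗ σ g = ρ g ∘ₗ φ' := by
    intro g
    rw [hφ', LinearMap.sub_comp, LinearMap.comp_sub, LinearMap.smul_comp, LinearMap.comp_smul,
      hφ₁c g, hφ₂c g]
  have hψφ' : ψ₁ ∘ₗ φ' = 0 := by
    rw [hφ', LinearMap.comp_sub, LinearMap.comp_smul, hc, hψ₁, sub_self]
  have hS : φ' ∘ₗ ψ₁ ∈ (ρ.linHom ρ).invariants := by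
    rw [mem_commutant_iff]
    intro g
    rw [LinearMap.comp_assoc, hψ₁c g, ← LinearMap.comp_assoc, hφ'c g, LinearMap.comp_assoc]
  have hT : φ₁.1 ∘ₗ ψ₁ ∈ (ρ.linHom ρ).invariants := by
    rw [mem_commutant_iff]
    intro g
    rw [LinearMap.comp_assoc, hψ₁c g, ← LinearMap.comp_assoc, hφ₁c g, LinearMap.comp_assoc]
  have h1 := hcomm _ _ hS hT
  have h2 : (φ' ∘ₗ ψ₁) ∘ₗ (φ₁.1 ∘ₗ ψ₁) = φ' ∘ₗ ψ₁ := by
    rw [LinearMap.comp_assoc, ← LinearMap.comp_assoc ψ₁, hψ₁, LinearMap.id_comp]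
  have h3 : (φ₁.1 ∘ₗ ψ₁) ∘ₗ (φ' ∘ₗ ψ₁) = 0 := by
    rw [LinearMap.comp_assoc, ← LinearMap.comp_assoc ψ₁, hψφ', LinearMap.zero_comp,
      LinearMap.comp_zero]
  rw [h2, h3] at h1
  apply hφ'0
  have h4 : (φ' ∘ₗ ψ₁) ∘ₗ φ₁.1 = φ' := by
    rw [LinearMap.comp_assoc, hψ₁, LinearMap.comp_id]
  rw [← h4, h1, LinearMap.zero_comp]

end main

end Cfsg.Agent.Lib.Helper2.Commutant
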