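import Mathlib
import Cfsg.Prelude.Def_Characters
import Cfsg.Prelude.Def_Perm
import Cfsg.Agent.Lib.Helper2.Commutant3

set_option autoImplicit false

/-!
# The character of a permutation representation
-/

namespace Cfsg.Agent.Lib.Helper2.Commutant

section perm

variable {G : Type*} [Group G] {Ω : Type*} [Fintype Ω] [MulAction G Ω]

open Classical in
/-- the character of the permutation representation counts fixed points -/
theorem permRep_character (g : G) :
    (Cfsg.permRep ℂ G Ω).character g = (Nat.card (MulAction.fixedBy Ω g) : ℂ) := by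
  unfold Representation.character
  rw [LinearMap.trace_eq_matrix_trace ℂ (Pi.basisFun ℂ Ω), Matrix.trace]
  simp only [Matrix.diag_apply, LinearMap.toMatrix_apply, Pi.basisFun_apply, Pi.basisFun_repr]
  have h1 : ∀ x : Ω, (Cfsg.permRep ℂ G Ω) g (Pi.single x (1 : ℂ)) x =
      if g • x = x then (1 : ℂ) else 0 := by
    intro x
    show (Pi.single x (1 : ℂ) : Ω → ℂ) (g⁻¹ • x) = _
    rw [Pi.single_apply]
    by_cases h : g • x = x
    · rw [if_pos h, if_pos]
      rw [inv_smul_eq_iff, h]
    · rw [if_neg h, if_neg]
      intro h'
      apply h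
      rw [inv_smul_eq_iff] at h'
      exact h'.symm
  rw [Finset.sum_congr rfl (fun x _ => h1 x), Finset.sum_boole, Nat.card_eq_fintype_card,
    Fintype.card_subtype]
  rfl

end perm

end Cfsg.Agent.Lib.Helper2.Commutant
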