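import Mathlib
import Cfsg.Agent.S5076
import Cfsg.Agent.Lib.Lead.SCF1
import Cfsg.Agent.Lib.Helper4.Sect6
import Cfsg.Agent.Lib.Helper9.FusionNormal6

/-! S5280, package K6: a subgroup `Q ≤ P` whose normalizer controls strong fusion in the Sylow
subgroup `P` is normal in the fusion system of the group on `P`; if moreover `C_P(Q) ≤ Q` the system
is constrained. -/

set_option autoImplicit false

namespace Cfsg.Agent.Lib.Helper2.CstrK6

open Cfsg Cfsg.Agent.Lib.Lead Cfsg.Agent.Lib.Lead.SCF Cfsg.Agent.Lib.Helper4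

variable {p : ℕ} [Fact p.Prime]

/-- control of strong fusion by `N(W)` makes `W` normal in the group fusion system -/
theorem isNormal_of_ctl {Ω : Type*} [Group Ω] (P W : Subgroup Ω) (hWP : W ≤ P) (hctl : Ctl W P) :
    (Cfsg.groupFusionSystem P).IsNormal W := by
  refine ⟨hWP, ?_⟩
  rintro R φ ⟨hRP, hφP, g, hg⟩
  have hA : ((R : Subgroup Ω) : Set Ω) ⊆ ((P : Subgroup Ω) : Set Ω) := by exact_mod_cast hRP
  have hgA : lc g ((R : Subgroup Ω) : Set Ω) ⊆ ((P : Subgroup Ω) : Set Ω) := by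
    rintro _ ⟨a, ha, rfl⟩
    have := hφP ⟨a, ha⟩
    rw [hg ⟨a, ha⟩] at this
    exact this
  obtain ⟨x, hx, hxeq⟩ := hctl _ g hA hgA
  have hRW : R ⊔ W ≤ (P : Subgroup Ω) := sup_le hRP hWP
  have hxW : ∀ w ∈ W, x * w * x⁻¹ ∈ W := fun w hw =>
    (Subgroup.mem_normalizer_iff.mp hx w).mp hw
  have hxRW : ∀ y ∈ R ⊔ W, x * y * x⁻¹ ∈ (P : Subgroup Ω) := by
    intro y hy
    have : R ⊔ W ≤ ((P : Subgroup Ω)).comap (MulAut.conj x).toMonoidHom := by
      apply sup_le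
      · intro r hr
        change x * r * x⁻¹ ∈ (P : Subgroup Ω)
        rw [hxeq r hr]
        exact hgA ⟨r, hr, rfl⟩
      · intro w hw
        change x * w * x⁻¹ ∈ (P : Subgroup Ω)
        exact hWP (hxW w hw)
    exact this hy
  let ψ : ↥(R ⊔ W) →* Ω := (MulAut.conj x).toMonoidHom.comp (R ⊔ W).subtype
  have hψ : ∀ y : ↥(R ⊔ W), ψ y = x * (y : Ω) * x⁻¹ := fun y => rfl
  refine ⟨ψ, ⟨hRW, fun y => ?_, x, fun y => hψ y⟩, ?_, ?_⟩
  · rw [hψ]; exact hxRW y y.2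
  · intro r
    rw [hψ, hg r]
    exact hxeq r r.2
  · ext w
    constructor
    · rintro ⟨y, hy, rfl⟩
      rw [hψ]
      exact hxW _ (Subgroup.mem_subgroupOf.mp hy)
    · intro hw
      have h1 : x⁻¹ * w * x ∈ W := by
        have := (Subgroup.mem_normalizer_iff.mp (Subgroup.inv_mem _ hx) w).mp hw
        simpa using this
      refine ⟨⟨x⁻¹ * w * x, Subgroup.mem_sup_right h1⟩, Subgroup.mem_subgroupOf.mpr h1, ?_⟩
      rw [hψ]
      simp only []
      group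

/-- **K6.** -/
theorem isConstrained_of_hasCtlCentric {Ω : Type*} [Group Ω] [Finite Ω] (P : Sylow p Ω)
    (h : ∃ Q : Subgroup Ω, Q ≤ (P : Subgroup Ω) ∧
      (P : Subgroup Ω) ≤ Subgroup.normalizer (Q : Set Ω) ∧ Ctl Q (P : Subgroup Ω) ∧
      (P : Subgroup Ω) ⊓ Subgroup.centralizer (Q : Set Ω) ≤ Q) :
    (Cfsg.groupFusionSystem (P : Subgroup Ω)).IsConstrained p := by
  obtain ⟨Q, hQP, -, hctl, hcen⟩ := h
  have hn : (Cfsg.groupFusionSystem (P : Subgroup Ω)).IsNormal Q := isNormal_of_ctl _ Q hQP hctl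
  refine ⟨Cfsg.Agent.S5076.result p P, Q, hn, hQP, ?_⟩
  rintro Q' ⟨φ, hφ, rfl⟩
  have hwc := Cfsg.Agent.Lib.Helper9.fs_weaklyClosed_of_isNormal _ hn
  rw [hwc.2 φ hφ]
  exact hcen

end Cfsg.Agent.Lib.Helper2.CstrK6
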