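import Mathlib

set_option autoImplicit false

/-!
# Subgroups of finite cyclic groups are determined by their order
-/

namespace Cfsg.Agent.Lib.Helper2.CyclicSub

/-- In a finite cyclic group, a subgroup whose order equals that of `H` is contained in `H`. -/
theorem le_of_card_eq {Y : Type*} [Group Y] [Finite Y] [IsCyclic Y] (H K : Subgroup Y)
    (h : Nat.card K = Nat.card H) : K ≤ H := by
  classical
  haveI := Fintype.ofFinite Y
  set d := Nat.card H with hd
  have hdpos : 0 < d := Nat.card_pos
  have h1 := IsCyclic.card_pow_eq_one_le (α := Y) hdpos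
  set F := Finset.univ.filter (fun b : Y => b ^ d = 1) with hF
  set Z : Finset Y := (H : Set Y).toFinset with hZ
  have hZF : Z ⊆ F := by
    intro b hb
    rw [hZ, Set.mem_toFinset] at hb
    rw [hF, Finset.mem_filter]
    refine ⟨Finset.mem_univ _, ?_⟩
    have := pow_card_eq_one' (G := H) (x := ⟨b, hb⟩)
    rw [← hd] at this
    simpa using congrArg Subtype.val this
  have hZcard : Z.card = d := by
    rw [hZ, Set.toFinset_card, ← Nat.card_eq_fintype_card]
    rfl
  have hFZ : F = Z := (Finset.eq_of_subset_of_card_le hZF (by rw [hZcard]; exact h1)).symm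
  intro k hk
  have hkF : k ∈ F := by
    rw [hF, Finset.mem_filter]
    refine ⟨Finset.mem_univ _, ?_⟩
    have := pow_card_eq_one' (G := K) (x := ⟨k, hk⟩)
    rw [h] at this
    simpa using congrArg Subtype.val this
  rw [hFZ, hZ, Set.mem_toFinset] at hkF
  exact hkF

/-- In a finite cyclic group, subgroups of the same order are equal. -/
theorem eq_of_card_eq {Y : Type*} [Group Y] [Finite Y] [IsCyclic Y] (H K : Subgroup Y)
    (h : Nat.card K = Nat.card H) : K = H :=
  le_antisymm (le_of_card_eq H K h) (le_of_card_eq K H h.symm)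

/-- Inside a cyclic subgroup `A` of a group, subgroups of the same finite order are equal. -/
theorem eq_of_card_eq_of_le {G : Type*} [Group G] (A : Subgroup G) [Finite A] [IsCyclic A]
    (H K : Subgroup G) (hH : H ≤ A) (hK : K ≤ A) (h : Nat.card K = Nat.card H) : K = H := by
  have h1 : K.subgroupOf A = H.subgroupOf A := by
    apply eq_of_card_eq
    rw [Nat.card_congr (Subgroup.subgroupOfEquivOfLe hH).toEquiv,
      Nat.card_congr (Subgroup.subgroupOfEquivOfLe hK).toEquiv, h]
  rwa [Subgroup.subgroupOf_inj, inf_eq_left.mpr hK, inf_eq_left.mpr hH] at h1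

end Cfsg.Agent.Lib.Helper2.CyclicSub
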