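import Mathlib

set_option autoImplicit false

namespace Cfsg.Agent.Lib.Helper2

namespace IndexTwo

/-- a subgroup of index two contains the commutator subgroup -/
theorem commutator_le_of_index_two {G : Type*} [Group G] (H : Subgroup G) (hH : H.index = 2) :
    commutator G ≤ H := by
  haveI : H.Normal := Subgroup.normal_of_index_eq_two hH
  have hcard : Nat.card (G ⧸ H) = 2 := by rw [← Subgroup.index_eq_card]; exact hH
  haveI : Fact (Nat.Prime 2) := ⟨Nat.prime_two⟩
  haveI : IsCyclic (G ⧸ H) := isCyclic_of_prime_card hcard
  letI : CommGroup (G ⧸ H) := IsCyclic.commGroup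
  have h1 := Abelianization.commutator_subset_ker (QuotientGroup.mk' H)
  rw [QuotientGroup.ker_mk'] at h1
  exact h1

/-- index-two subgroups of a group of order four and exponent two -/
theorem card_index_two_of_exp_two {A : Type*} [Group A] (h4 : Nat.card A = 4)
    (hexp : ∀ x : A, x * x = 1) : Nat.card {K : Subgroup A // K.index = 2} = 3 := by
  classical
  haveI : Finite A := Nat.finite_of_card_ne_zero (by rw [h4]; norm_num)
  letI : Fintype A := Fintype.ofFinite A
  have hord : ∀ x : A, x ≠ 1 → orderOf x = 2 := fun x hx =>
    orderOf_eq_prime (by rw [pow_two]; exact hexp x) hx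
  have hcardz : ∀ x : A, x ≠ 1 → Nat.card (Subgroup.zpowers x) = 2 := fun x hx => by
    rw [Nat.card_zpowers, hord x hx]
  have hidx : ∀ K : Subgroup A, K.index = 2 ↔ Nat.card K = 2 := by
    intro K
    have := K.card_mul_index
    rw [h4] at this
    constructor
    · intro h; rw [h] at this; omega
    · intro h; rw [h] at this; omega
  let φ : {x : A // x ≠ 1} → {K : Subgroup A // K.index = 2} :=
    fun x => ⟨Subgroup.zpowers x.1, (hidx _).2 (hcardz x.1 x.2)⟩
  have hφ : Function.Bijective φ := by
    constructor
    · intro x y hxy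
      have h1 : Subgroup.zpowers x.1 = Subgroup.zpowers y.1 := congrArg Subtype.val hxy
      have h3 : x.1 ∈ Subgroup.zpowers y.1 := by rw [← h1]; exact Subgroup.mem_zpowers _
      obtain ⟨k, hk⟩ := Subgroup.mem_zpowers_iff.1 h3
      apply Subtype.ext
      rcases Int.even_or_odd' k with ⟨j, hj | hj⟩
      · exfalso
        apply x.2
        rw [← hk, hj, zpow_mul, zpow_two, hexp, one_zpow]
      · rw [← hk, hj, zpow_add, zpow_mul, zpow_two, hexp, one_zpow, one_mul, zpow_one]
    · rintro ⟨K, hK⟩
      have hK2 : Nat.card K = 2 := (hidx K).1 hK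
      have hne : K ≠ ⊥ := by
        intro h
        rw [h, Subgroup.card_bot] at hK2
        omega
      obtain ⟨x, hx1⟩ := (Subgroup.ne_bot_iff_exists_ne_one.1 hne)
      have hx1' : (x : A) ≠ 1 := fun h => hx1 (Subtype.ext h)
      refine ⟨⟨x.1, hx1'⟩, ?_⟩
      apply Subtype.ext
      show Subgroup.zpowers x.1 = K
      apply Subgroup.eq_of_le_of_card_ge
      · rw [Subgroup.zpowers_le]; exact x.2
      · rw [hK2, hcardz x.1 hx1']
  rw [← Nat.card_congr (Equiv.ofBijective φ hφ), Nat.card_eq_fintype_card,
    Fintype.card_subtype_compl, Fintype.card_subtype_eq, ← Nat.card_eq_fintype_card, h4]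

/-- transfer to the abelianization -/
theorem card_index_two_eq {G : Type*} [Group G] :
    Nat.card {H : Subgroup G // H.index = 2} =
      Nat.card {K : Subgroup (Abelianization G) // K.index = 2} := by
  have hsurj : Function.Surjective (Abelianization.of (G := G)) := by
    intro x
    obtain ⟨g, rfl⟩ := QuotientGroup.mk_surjective x
    exact ⟨g, rfl⟩
  let ψ : {K : Subgroup (Abelianization G) // K.index = 2} → {H : Subgroup G // H.index = 2} :=
    fun K => ⟨K.1.comap (Abelianization.of (G := G)), by
      rw [Subgroup.index_comap_of_surjective _ hsurj]; exact K.2⟩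
  have hψ : Function.Bijective ψ := by
    constructor
    · intro K K' h
      apply Subtype.ext
      exact Subgroup.comap_injective hsurj (congrArg Subtype.val h)
    · rintro ⟨H, hH⟩
      have hle : (Abelianization.of (G := G)).ker ≤ H := by
        rw [Abelianization.ker_of]; exact commutator_le_of_index_two H hH
      have hcm : (H.map (Abelianization.of (G := G))).comap
          (Abelianization.of (G := G)) = H := Subgroup.comap_map_eq_self hle
      refine ⟨⟨H.map (Abelianization.of (G := G)), ?_⟩, ?_⟩
      · rw [← Subgroup.index_comap_of_surjective _ hsurj, hcm]; exact hH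
      · apply Subtype.ext
        exact hcm
  exact (Nat.card_congr (Equiv.ofBijective ψ hψ)).symm

end IndexTwo

end Cfsg.Agent.Lib.Helper2
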