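import Mathlib
import Cfsg.Agent.Lib.Helper2.IndexTwo
import Cfsg.Agent.Lib.Lead.ThompsonTransfer

set_option autoImplicit false

namespace Cfsg.Agent.Lib.Helper2

namespace D8C

open DihedralGroup

/-- centre of `D8`. -/
theorem d8_center : ∀ x : DihedralGroup 4, (∀ y : DihedralGroup 4, x * y = y * x) →
    x = 1 ∨ x = r 2 := by decide

/-- centralizer of a rotation of order four. -/
theorem d8_cent_r : ∀ x : DihedralGroup 4, x * r 1 = r 1 * x →
    x = 1 ∨ x = r 1 ∨ x = r 1 ^ 2 ∨ x = r 1 ^ 3 := by decide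

/-- involutions inverting the rotation. -/
theorem d8_inverting : ∀ x : DihedralGroup 4, (x * r 1 * x⁻¹ = (r 1)⁻¹ ∧ x * x = 1) ↔
    (x = sr 0 ∨ x = sr 1 ∨ x = sr 2 ∨ x = sr 3) := by decide

theorem d8_sq : (r 1 : DihedralGroup 4) ^ 2 = r 2 := by decide

theorem d8_order_two : ∀ x : DihedralGroup 4, x = 1 ∨ x = r 1 ∨ x = r 1 ^ 2 ∨ x = r 1 ^ 3 →
    x * x = 1 → x ≠ 1 → x = r 2 := by decide

/-- the hypotheses of the character-theoretic part. -/
structure Hyp (G : Type*) [Group G] (t a : G) : Prop where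
  ht : orderOf t = 2
  ha2 : a ^ 2 = t
  ha : orderOf a = 4
  cardCt : Nat.card (Subgroup.centralizer ({t} : Set G)) = 8
  cardCa : Nat.card (Subgroup.centralizer ({a} : Set G)) = 4
  invConj : ∀ u : G, orderOf u = 2 → IsConj t u
  cardInv : Nat.card {x : G // x * a * x⁻¹ = a⁻¹ ∧ x * x = 1} = 4
  conjInv : IsConj a a⁻¹
  not16 : ¬ 16 ∣ Nat.card G

section

variable {G : Type*} [Group G]

theorem mem_cent_of_comm_sq {t a x : G} (ha2 : a ^ 2 = t) (hx : x * a = a * x) :
    x ∈ Subgroup.centralizer ({t} : Set G) := by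
  rw [Subgroup.mem_centralizer_singleton_iff]
  rw [← ha2, pow_two]
  calc x * (a * a) = (x * a) * a := (mul_assoc _ _ _).symm
    _ = (a * x) * a := by rw [hx]
    _ = a * (x * a) := mul_assoc _ _ _
    _ = a * (a * x) := by rw [hx]
    _ = a * a * x := (mul_assoc _ _ _).symm

theorem mem_cent_of_inverts_sq {t a x : G} (ha2 : a ^ 2 = t) (hx : x * a * x⁻¹ = a⁻¹)
    (ht : t * t = 1) :
    x ∈ Subgroup.centralizer ({t} : Set G) := by
  rw [Subgroup.mem_centralizer_singleton_iff]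
  have h1 : x * t * x⁻¹ = t⁻¹ := by
    rw [← ha2, pow_two]
    calc x * (a * a) * x⁻¹ = (x * a * x⁻¹) * (x * a * x⁻¹) := by group
      _ = (a * a)⁻¹ := by rw [hx]; group
  have h2 : t⁻¹ = t := inv_eq_of_mul_eq_one_left ht
  rw [h2] at h1
  calc x * t = (x * t * x⁻¹) * x := by group
    _ = t * x := by rw [h1]

end

end D8C

end Cfsg.Agent.Lib.Helper2
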