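import Mathlib
import Cfsg.Agent.Lib.Helper2.D8C1

set_option autoImplicit false

namespace Cfsg.Agent.Lib.Helper2

namespace D8C

open DihedralGroup

theorem d8_card_inverting :
    Fintype.card {y : DihedralGroup 4 // y * r 1 * y⁻¹ = (r 1)⁻¹ ∧ y * y = 1} = 4 := by decide

theorem d8_sr_conj : (sr 0 : DihedralGroup 4) * r 1 * (sr 0)⁻¹ = (r 1)⁻¹ := by decide

section

variable {G : Type*} [Group G]

/-- basic data extracted from the isomorphism. -/
theorem exists_data (t : G)
    (ht : orderOf t = 2) (e : Subgroup.centralizer ({t} : Set G) ≃* DihedralGroup 4) :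
    ∃ a : G, a ^ 2 = t ∧ orderOf a = 4 ∧ IsConj a a⁻¹ ∧
      (∀ x : G, x * a = a * x → x = 1 ∨ x = a ∨ x = a ^ 2 ∨ x = a ^ 3) ∧
      Nat.card {x : G // x * a * x⁻¹ = a⁻¹ ∧ x * x = 1} = 4 ∧
      (∀ z : G, z * t = t * z → (∀ d ∈ Subgroup.centralizer ({t} : Set G), z * d = d * z) →
        z = 1 ∨ z = t) := by
  classical
  set D := Subgroup.centralizer ({t} : Set G) with hD
  have htt : t * t = 1 := by rw [← pow_two, ← ht]; exact pow_orderOf_eq_one t
  have ht1 : t ≠ 1 := by intro h; rw [h, orderOf_one] at ht; omega
  have htD : t ∈ D := by rw [hD, Subgroup.mem_centralizer_singleton_iff]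
  let tD : D := ⟨t, htD⟩
  have hcentral : ∀ (z : D), (∀ d : D, z * d = d * z) → z = 1 ∨ e z = r 2 := by
    intro z hz
    rcases d8_center (e z) (fun y => by
      have := hz (e.symm y)
      have h2 := congrArg e this
      simpa using h2) with h | h
    · left
      apply e.injective; rw [h, map_one]
    · right; exact h
  have hcomm : ∀ d : D, tD * d = d * tD := by
    intro d
    apply Subtype.ext
    have := Subgroup.mem_centralizer_singleton_iff.mp d.2
    show t * (d : G) = (d : G) * t
    exact this.symm
  have hetD : e tD = r 2 := by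
    rcases hcentral tD hcomm with h | h
    · exact absurd (congrArg Subtype.val h) ht1
    · exact h
  let aD : D := e.symm (r 1)
  have heaD : e aD = r 1 := MulEquiv.apply_symm_apply e _
  have haD2 : aD ^ 2 = tD := by
    apply e.injective
    rw [map_pow, heaD, hetD, d8_sq]
  have ha2 : (aD : G) ^ 2 = t := by
    have := congrArg Subtype.val haD2
    simpa using this
  have haord : orderOf (aD : G) = 4 := by
    rw [Subgroup.orderOf_coe, ← MulEquiv.orderOf_eq e, heaD]
    exact DihedralGroup.orderOf_r_one (n := 4)
  refine ⟨(aD : G), ha2, haord, ?_, ?_, ?_, ?_⟩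
  · -- conjugate to inverse
    let sD : D := e.symm (sr 0)
    have h1 : sD * aD * sD⁻¹ = aD⁻¹ := by
      apply e.injective
      rw [map_mul, map_mul, map_inv, map_inv, heaD, MulEquiv.apply_symm_apply]
      exact d8_sr_conj
    refine isConj_iff.mpr ⟨(sD : G), ?_⟩
    have := congrArg Subtype.val h1
    simpa using this
  · -- centralizer
    intro x hx
    have hxD : x ∈ D := mem_cent_of_comm_sq ha2 hx
    let xD : D := ⟨x, hxD⟩
    have h1 : xD * aD = aD * xD := Subtype.ext hx
    have h2 : e xD * r 1 = r 1 * e xD := by
      have := congrArg e h1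
      rw [map_mul, map_mul, heaD] at this
      exact this
    have key : ∀ k : ℕ, e xD = r 1 ^ k → x = (aD : G) ^ k := by
      intro k hk
      have : xD = aD ^ k := by
        apply e.injective
        rw [map_pow, heaD, hk]
      have := congrArg Subtype.val this
      simpa using this
    rcases d8_cent_r (e xD) h2 with h | h | h | h
    · left
      have := key 0 (by rw [h, pow_zero])
      simpa using this
    · right; left
      have := key 1 (by rw [h, pow_one])
      simpa using this
    · right; right; left
      exact key 2 h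
    · right; right; right
      exact key 3 h
  · -- inverting involutions
    rw [← d8_card_inverting, ← Nat.card_eq_fintype_card]
    apply Nat.card_congr
    refine
      { toFun := fun x => ⟨e ⟨x.1, mem_cent_of_inverts_sq ha2 x.2.1 htt⟩, ?_, ?_⟩
        invFun := fun y => ⟨((e.symm y.1 : D) : G), ?_, ?_⟩
        left_inv := ?_
        right_inv := ?_ }
    · have h1 : (⟨x.1, mem_cent_of_inverts_sq ha2 x.2.1 htt⟩ : D) * aD *
          (⟨x.1, mem_cent_of_inverts_sq ha2 x.2.1 htt⟩ : D)⁻¹ = aD⁻¹ := Subtype.ext x.2.1
      have := congrArg e h1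
      rw [map_mul, map_mul, map_inv, map_inv, heaD] at this
      exact this
    · have h1 : (⟨x.1, mem_cent_of_inverts_sq ha2 x.2.1 htt⟩ : D) *
          (⟨x.1, mem_cent_of_inverts_sq ha2 x.2.1 htt⟩ : D) = 1 := Subtype.ext x.2.2
      have := congrArg e h1
      rw [map_mul, map_one] at this
      exact this
    · have h1 : e.symm y.1 * aD * (e.symm y.1)⁻¹ = aD⁻¹ := by
        apply e.injective
        rw [map_mul, map_mul, map_inv, map_inv, heaD, MulEquiv.apply_symm_apply]
        exact y.2.1
      have := congrArg Subtype.val h1
      simpa using this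
    · have h1 : e.symm y.1 * e.symm y.1 = 1 := by
        apply e.injective
        rw [map_mul, map_one, MulEquiv.apply_symm_apply]
        exact y.2.2
      have := congrArg Subtype.val h1
      simpa using this
    · intro x
      apply Subtype.ext
      simp
    · intro y
      apply Subtype.ext
      simp
  · -- centre
    intro z hz1 hz2
    have hzD : z ∈ D := by
      rw [hD, Subgroup.mem_centralizer_singleton_iff]
      exact hz1
    rcases hcentral ⟨z, hzD⟩ (fun d => Subtype.ext (hz2 d.1 d.2)) with h | h
    · left
      exact congrArg Subtype.val h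
    · right
      have : (⟨z, hzD⟩ : D) = tD := by
        apply e.injective
        rw [h, hetD]
      exact congrArg Subtype.val this

end

end D8C

end Cfsg.Agent.Lib.Helper2
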