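import Mathlib
import Cfsg.Agent.Lib.Helper2.D8C2

set_option autoImplicit false

namespace Cfsg.Agent.Lib.Helper2

namespace D8C

open DihedralGroup

theorem exists_hyp {G : Type*} [Group G] [Finite G] (hperf : commutator G = ⊤) (t : G)
    (ht : orderOf t = 2) (e : Subgroup.centralizer ({t} : Set G) ≃* DihedralGroup 4) :
    ∃ a : G, Hyp G t a := by
  classical
  obtain ⟨a, ha2, haord, hconj, hcent, hcardInv, hcentre⟩ := exists_data t ht e
  set D := Subgroup.centralizer ({t} : Set G) with hD
  have hcardD : Nat.card D = 8 := by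
    rw [Nat.card_congr e.toEquiv, DihedralGroup.nat_card]
  have htt : t * t = 1 := by rw [← pow_two, ← ht]; exact pow_orderOf_eq_one t
  have ht1 : t ≠ 1 := by intro h; rw [h, orderOf_one] at ht; omega
  have htD : t ∈ D := by rw [hD, Subgroup.mem_centralizer_singleton_iff]
  have haD : a ∈ D := mem_cent_of_comm_sq ha2 rfl
  -- C(a) = zpowers a
  have hCa : Subgroup.centralizer ({a} : Set G) = Subgroup.zpowers a := by
    ext x
    rw [Subgroup.mem_centralizer_singleton_iff]
    constructor
    · intro hx
      rcases hcent x hx with h | h | h | h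
      · rw [h]; exact one_mem _
      · rw [h]; exact Subgroup.mem_zpowers a
      · rw [h]; exact Subgroup.npow_mem_zpowers a 2
      · rw [h]; exact Subgroup.npow_mem_zpowers a 3
    · intro hx
      obtain ⟨k, rfl⟩ := Subgroup.mem_zpowers_iff.mp hx
      exact (Commute.zpow_self a k).eq
  have hcardCa : Nat.card (Subgroup.centralizer ({a} : Set G)) = 4 := by
    rw [hCa, Nat.card_zpowers, haord]
  -- Sylow
  have hDp : IsPGroup 2 D := IsPGroup.of_card (n := 3) hcardD
  have : Fact (Nat.Prime 2) := ⟨Nat.prime_two⟩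
  obtain ⟨P, hDP⟩ := hDp.exists_le_sylow
  have hPD : (P : Subgroup G) = D := by
    apply le_antisymm _ hDP
    have htP : t ∈ (P : Subgroup G) := hDP htD
    have : Nontrivial (P : Subgroup G) :=
      ⟨⟨⟨t, htP⟩, 1, fun h => ht1 (congrArg Subtype.val h)⟩⟩
    have hcn := IsPGroup.center_nontrivial P.isPGroup'
    obtain ⟨z, hz⟩ := exists_ne (1 : Subgroup.center (P : Subgroup G))
    have hzc : ∀ p : (P : Subgroup G), p * z.1 = z.1 * p :=
      fun p => Subgroup.mem_center_iff.mp z.2 p
    have h1 : ((z.1 : (P : Subgroup G)) : G) * t = t * ((z.1 : (P : Subgroup G)) : G) := by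
      have := hzc ⟨t, htP⟩
      exact (congrArg Subtype.val this).symm
    have h2 : ∀ d ∈ D, ((z.1 : (P : Subgroup G)) : G) * d = d * ((z.1 : (P : Subgroup G)) : G) :=
      fun d hd => by
        have := hzc ⟨d, hDP hd⟩
        exact (congrArg Subtype.val this).symm
    rcases hcentre _ h1 h2 with h | h
    · exfalso; apply hz; apply Subtype.ext; apply Subtype.ext; exact h
    · intro p hp
      rw [hD, Subgroup.mem_centralizer_singleton_iff]
      have := hzc ⟨p, hp⟩
      have h3 := congrArg Subtype.val this
      rw [← h]; exact h3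
  have hcardP : Nat.card (P : Subgroup G) = 8 := by rw [hPD]; exact hcardD
  -- not 16
  have hnot16 : ¬ 16 ∣ Nat.card G := by
    intro h16
    have h1 := Sylow.card_eq_multiplicity P
    rw [hcardP] at h1
    have h2 : 4 ≤ (Nat.card G).factorization 2 :=
      (Nat.Prime.pow_dvd_iff_le_factorization Nat.prime_two Nat.card_pos.ne').mp
        (by norm_num; exact h16)
    have h3 : 2 ^ 4 ∣ 2 ^ (Nat.card G).factorization 2 := pow_dvd_pow 2 h2
    rw [← h1] at h3
    omega
  -- Thompson transfer
  have hQP : Subgroup.zpowers a ≤ (P : Subgroup G) := by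
    rw [hPD, Subgroup.zpowers_le]; exact haD
  have hrel : (Subgroup.zpowers a).relIndex (P : Subgroup G) = 2 := by
    have h1 := Subgroup.relIndex_mul_relIndex (⊥ : Subgroup G) (Subgroup.zpowers a)
      (P : Subgroup G) bot_le hQP
    rw [Subgroup.relIndex_bot_left, Subgroup.relIndex_bot_left, Nat.card_zpowers, haord,
      hcardP] at h1
    omega
  have hinvConj : ∀ u : G, orderOf u = 2 → IsConj t u := by
    intro u hu
    by_contra hcon
    have hnc : ∀ g : G, g * u * g⁻¹ ∉ Subgroup.zpowers a := by
      intro g hg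
      apply hcon
      have hgu : orderOf (g * u * g⁻¹) = 2 := by
        have : g * u * g⁻¹ = MulAut.conj g u := by simp
        rw [this, MulEquiv.orderOf_eq]; exact hu
      have h1 : (g * u * g⁻¹) * a = a * (g * u * g⁻¹) := by
        obtain ⟨k, hk⟩ := Subgroup.mem_zpowers_iff.mp hg
        rw [← hk]
        exact (Commute.zpow_self a k).eq
      have h4 : g * u * g⁻¹ = t := by
        rcases hcent _ h1 with h | h | h | h
        · rw [h, orderOf_one] at hgu; omega
        · rw [h, haord] at hgu; omega
        · rw [h, ha2]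
        · rw [h, orderOf_pow' a (by norm_num : (3 : ℕ) ≠ 0), haord] at hgu
          norm_num at hgu
      refine isConj_iff.mpr ⟨g⁻¹, ?_⟩
      rw [← h4]; group
    obtain ⟨M, hMn, hMi, huM⟩ := Cfsg.Agent.Lib.Lead.thompson_transfer P
      (Subgroup.zpowers a) hrel u hu hnc
    have := IndexTwo.commutator_le_of_index_two M hMi
    rw [hperf] at this
    exact huM (this (Subgroup.mem_top u))
  exact ⟨a, ht, ha2, haord, hcardD, hcardCa, hinvConj, hcardInv, hconj, hnot16⟩

end D8C

end Cfsg.Agent.Lib.Helper2
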