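import Mathlib
import Cfsg.Agent.Lib.Helper1.CycloChar

set_option autoImplicit false

namespace Cfsg.Agent.Lib.Helper2

namespace D8C

open Cfsg.Agent.Lib.Helper1 Cfsg.Agent.Lib.Helper4

theorem root_sum (w : ℂ) (hw : w ^ 4 = 1) :
    1 + w + w ^ 2 + w ^ 3 = if w = 1 then 4 else 0 := by
  split_ifs with h
  · subst h; norm_num
  · have h1 : (w - 1) * (1 + w + w ^ 2 + w ^ 3) = 0 := by
      have : (w - 1) * (1 + w + w ^ 2 + w ^ 3) = w ^ 4 - 1 := by ring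
      rw [this, hw, sub_self]
    rcases mul_eq_zero.mp h1 with h2 | h2
    · exact absurd (sub_eq_zero.mp h2) h
    · exact h2

theorem exists_mult {G : Type*} [Group G] [Finite G] {χ : G → ℂ} (hχ : Cfsg.IsCharacter G χ)
    (a : G) (ha : orderOf a = 4) (u : ℂ) (hu : u ^ 4 = 1) :
    ∃ M : ℕ, (4 * M : ℂ) = χ 1 + u * χ a + u ^ 2 * χ (a ^ 2) + u ^ 3 * χ (a ^ 3) := by
  classical
  obtain ⟨ι', _, m, c, hc, hsum⟩ := character_pow_eq_sum hχ a
  rw [ha] at hc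
  refine ⟨∑ j, if u * c j = 1 then m j else 0, ?_⟩
  have h0 := hsum 0
  have h1 := hsum 1
  have h2 := hsum 2
  have h3 := hsum 3
  rw [pow_zero] at h0
  rw [pow_one] at h1
  rw [h0, h1, h2, h3]
  push_cast
  rw [Finset.mul_sum, Finset.mul_sum, Finset.mul_sum, Finset.mul_sum, ← Finset.sum_add_distrib,
    ← Finset.sum_add_distrib, ← Finset.sum_add_distrib]
  refine Finset.sum_congr rfl fun j _ => ?_
  have hw : (u * c j) ^ 4 = 1 := by rw [mul_pow, hu, hc j, one_mul]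
  have := root_sum (u * c j) hw
  have h5 : (4 : ℂ) * (if u * c j = 1 then (m j : ℂ) else 0)
      = (m j : ℂ) * (if u * c j = 1 then 4 else 0) := by
    split_ifs <;> ring
  rw [h5, ← this]
  ring

theorem exists_three {G : Type*} [Group G] [Finite G] {χ : G → ℂ} (hχ : Cfsg.IsCharacter G χ)
    (a : G) (ha : orderOf a = 4) (hconj : IsConj a a⁻¹) :
    ∃ M₀ M₁ M₂ : ℕ, χ 1 = (M₀ : ℂ) + M₂ + 2 * M₁ ∧ χ a = (M₀ : ℂ) - M₂ ∧
      χ (a ^ 2) = (M₀ : ℂ) + M₂ - 2 * M₁ := by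
  have ha4 : a ^ 4 = 1 := by rw [← ha]; exact pow_orderOf_eq_one a
  have ha3 : a ^ 3 = a⁻¹ := by
    apply eq_inv_of_mul_eq_one_left
    rw [← pow_succ, ha4]
  have hcf := isClassFunction_of_isCharacter hχ
  have hχ3 : χ (a ^ 3) = χ a := by
    rw [ha3]
    obtain ⟨c, hc⟩ := isConj_iff.mp hconj
    rw [← hc]
    exact hcf a c
  obtain ⟨M₀, h0⟩ := exists_mult hχ a ha 1 (by norm_num)
  obtain ⟨M₂, h2⟩ := exists_mult hχ a ha (-1) (by norm_num)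
  obtain ⟨M₁, h1⟩ := exists_mult hχ a ha Complex.I (by
    rw [show (4 : ℕ) = 2 * 2 from rfl, pow_mul, Complex.I_sq]; norm_num)
  rw [hχ3] at h0 h1 h2
  have hI2 : Complex.I ^ 2 = -1 := Complex.I_sq
  have hI3 : Complex.I ^ 3 = -Complex.I := by
    rw [pow_succ, hI2]; ring
  rw [hI2, hI3] at h1
  refine ⟨M₀, M₁, M₂, ?_, ?_, ?_⟩
  · linear_combination (-1 / 4 : ℂ) * h0 + (-1 / 4 : ℂ) * h2 + (-1 / 2 : ℂ) * h1
  · linear_combination (-1 / 4 : ℂ) * h0 + (1 / 4 : ℂ) * h2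
  · linear_combination (-1 / 4 : ℂ) * h0 + (-1 / 4 : ℂ) * h2 + (1 / 2 : ℂ) * h1

end D8C

end Cfsg.Agent.Lib.Helper2
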