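import Mathlib
import Cfsg.Agent.Lib.Helper8.ClassAlgebra3

set_option autoImplicit false

namespace Cfsg.Agent.Lib.Helper2

namespace D8C

open Cfsg.Agent.Lib.Helper1 Cfsg.Agent.Lib.Helper4 Cfsg.Agent.Lib.Helper8

universe u

variable {G : Type u} [Group G] [Fintype G]

/-- Structure constants of the class algebra, in convolution form. -/
theorem conv_formula [Fintype (Cfsg.IrrCharacter G)] [DecidableEq G]
    (f h : G → ℂ) (hf : Cfsg.IsClassFunction G f) (hh : Cfsg.IsClassFunction G h) (z : G) :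
    (Fintype.card G : ℂ) * ∑ x, f x * h (x⁻¹ * z)
      = ∑ χ : Cfsg.IrrCharacter G,
          (∑ x, f x * (χ : G → ℂ) x) * (∑ y, h y * (χ : G → ℂ) y) * (χ : G → ℂ) z⁻¹
            / (χ : G → ℂ) 1 := by
  have h0 : ∀ x : G, (Fintype.card G : ℂ) * h (x⁻¹ * z)
      = ∑ y, h y * ∑ χ : Cfsg.IrrCharacter G, (χ : G → ℂ) 1 * (χ : G → ℂ) (z⁻¹ * x * y) := by
    intro x
    simp only [sum_irr_one_mul]
    rw [Finset.sum_eq_single (x⁻¹ * z)]
    · rw [if_pos (by group), mul_comm]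
    · intro y _ hy
      rw [if_neg, mul_zero]
      intro h1
      apply hy
      have : y = (z⁻¹ * x)⁻¹ := eq_inv_of_mul_eq_one_right h1
      rw [this]; group
    · intro h1; exact absurd (Finset.mem_univ _) h1
  have h1 : (Fintype.card G : ℂ) * ∑ x, f x * h (x⁻¹ * z)
      = ∑ χ : Cfsg.IrrCharacter G, ∑ x, f x *
          ((χ : G → ℂ) 1 * ∑ y, h y * (χ : G → ℂ) (z⁻¹ * x * y)) := by
    rw [Finset.mul_sum]
    have : ∀ x : G, (Fintype.card G : ℂ) * (f x * h (x⁻¹ * z))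
        = ∑ χ : Cfsg.IrrCharacter G, f x *
          ((χ : G → ℂ) 1 * ∑ y, h y * (χ : G → ℂ) (z⁻¹ * x * y)) := by
      intro x
      rw [mul_left_comm, h0 x, ← Finset.mul_sum]
      congr 1
      simp only [Finset.mul_sum]
      rw [Finset.sum_comm]
      refine Finset.sum_congr rfl fun χ _ => Finset.sum_congr rfl fun y _ => ?_
      ring
    simp only [this]
    rw [Finset.sum_comm]
  rw [h1]
  refine Finset.sum_congr rfl fun χ _ => ?_
  have hχ1 : (χ : G → ℂ) 1 ≠ 0 := irr_apply_one_ne_zero χ.2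
  have h2 : ∀ x : G, ∑ y, h y * (χ : G → ℂ) (z⁻¹ * x * y)
      = ((∑ y, h y * (χ : G → ℂ) y) / (χ : G → ℂ) 1) * (χ : G → ℂ) (z⁻¹ * x) :=
    fun x => sum_classFunction_mul_irr χ.2 h hh (z⁻¹ * x)
  simp only [h2]
  have h3 := sum_classFunction_mul_irr χ.2 f hf z⁻¹
  have h4 : ∀ x : G, f x * ((χ : G → ℂ) 1 * (((∑ y, h y * (χ : G → ℂ) y) / (χ : G → ℂ) 1)
      * (χ : G → ℂ) (z⁻¹ * x))) = (∑ y, h y * (χ : G → ℂ) y) * (f x * (χ : G → ℂ) (z⁻¹ * x)) := by
    intro x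
    field_simp
  simp only [h4]
  rw [← Finset.mul_sum, h3]
  field_simp

end D8C

end Cfsg.Agent.Lib.Helper2
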