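import Mathlib

set_option autoImplicit false

namespace Cfsg.Agent.Lib.Helper2

namespace D8C

def Nf (x y : ℤ) : ℤ := (1 + x) * (1 + y) * (-x - y)
def Mf (x y : ℤ) : ℤ := 256 * (x * y * (-1 - x - y))

set_option maxRecDepth 100000 in
theorem arith_fin : ∀ x ∈ Finset.Icc (-27 : ℤ) 27, ∀ y ∈ Finset.Icc (-27 : ℤ) 27,
    x % 2 = 1 → y % 2 = 1 → 3 ≤ |x| → 3 ≤ |y| → 3 ≤ |-1 - x - y| →
    Nf x y ∣ Mf x y → 8 ∣ Mf x y / Nf x y → ¬ 16 ∣ Mf x y / Nf x y →
    1 + x ^ 2 + y ^ 2 + (-1 - x - y) ^ 2 ≤ Mf x y / Nf x y →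
    (Mf x y / Nf x y = 168 ∨ Mf x y / Nf x y = 360) := by
  decide

theorem inv_ge (x : ℤ) (h : 3 ≤ |x|) : (-1 / 3 : ℚ) ≤ 1 / (x : ℚ) := by
  rcases le_or_gt 0 x with h0 | h0
  · have : (0 : ℚ) ≤ 1 / (x : ℚ) := by
      apply div_nonneg zero_le_one
      exact_mod_cast h0
    linarith
  · rw [abs_of_neg h0] at h
    have hx : (x : ℚ) ≤ -3 := by
      have : x ≤ -3 := by omega
      exact_mod_cast this
    have h1 : 1 / (-(x : ℚ)) ≤ 1 / 3 :=
      one_div_le_one_div_of_le (by norm_num) (by linarith)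
    have h2 : 1 / (x : ℚ) = -(1 / (-(x : ℚ))) := by
      rw [one_div, one_div, inv_neg, neg_neg]
    rw [h2]
    linarith

theorem inv_pos_of_pos (x : ℤ) (h0 : 0 < x) : (0 : ℚ) < 1 / (x : ℚ) := by
  apply div_pos one_pos
  exact_mod_cast h0

theorem ne_zero_of_abs {x : ℤ} (h : 3 ≤ |x|) : x ≠ 0 := by
  intro h0
  rw [h0] at h
  norm_num at h

theorem le_of_abs_of_nonpos {x : ℤ} (h : 3 ≤ |x|) (h0 : x ≤ 0) : x ≤ -3 := by
  rw [abs_of_nonpos h0] at h
  omega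

theorem one_add_ne_zero {x : ℤ} (h : 3 ≤ |x|) : 1 + x ≠ 0 := by
  intro h0
  have : x = -1 := by omega
  rw [this] at h
  norm_num at h

theorem arith (g : ℕ) (x y z : ℤ) (hx : x % 2 = 1) (hy : y % 2 = 1)
    (hx3 : 3 ≤ |x|) (hy3 : 3 ≤ |y|) (hz3 : 3 ≤ |z|) (hsum : x + y + z = -1)
    (heq : 256 * (x * y * z) = (g : ℤ) * (x * y * z + y * z + x * z + x * y))
    (hsq : 1 + x ^ 2 + y ^ 2 + z ^ 2 ≤ (g : ℤ)) (h8 : 8 ∣ g) (h16 : ¬ 16 ∣ g) :
    g = 168 ∨ g = 360 := by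
  have hz : z = -1 - x - y := by linarith
  have hx0 : (x : ℚ) ≠ 0 := by exact_mod_cast ne_zero_of_abs hx3
  have hy0 : (y : ℚ) ≠ 0 := by exact_mod_cast ne_zero_of_abs hy3
  have hz0 : (z : ℚ) ≠ 0 := by exact_mod_cast ne_zero_of_abs hz3
  have hgpos : (0 : ℚ) < g := by
    have : (1 : ℤ) ≤ g := by nlinarith [sq_nonneg x, sq_nonneg y, sq_nonneg z]
    have h2 : (0 : ℤ) < g := by linarith
    exact_mod_cast h2
  have hq : (256 : ℚ) = g * (1 + 1 / x + 1 / y + 1 / z) := by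
    have := congrArg (Int.cast : ℤ → ℚ) heq
    push_cast at this
    field_simp
    linarith
  have hS : (1 / 3 : ℚ) < 1 + 1 / x + 1 / y + 1 / z := by
    have ix := inv_ge x hx3
    have iy := inv_ge y hy3
    have iz := inv_ge z hz3
    rcases lt_or_ge 0 x with h1 | h1
    · have := inv_pos_of_pos x h1
      linarith
    rcases lt_or_ge 0 y with h2 | h2
    · have := inv_pos_of_pos y h2
      linarith
    rcases lt_or_ge 0 z with h3 | h3
    · have := inv_pos_of_pos z h3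
      linarith
    exfalso
    have := le_of_abs_of_nonpos hx3 h1
    have := le_of_abs_of_nonpos hy3 h2
    have := le_of_abs_of_nonpos hz3 h3
    omega
  have hg768 : g < 768 := by
    have h1 : (g : ℚ) * (1 / 3) < g * (1 + 1 / x + 1 / y + 1 / z) :=
      mul_lt_mul_of_pos_left hS hgpos
    rw [← hq] at h1
    have h2 : (g : ℚ) < 768 := by linarith
    exact_mod_cast h2
  have hg768' : (g : ℤ) < 768 := by exact_mod_cast hg768
  have hxb : -27 ≤ x ∧ x ≤ 27 := by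
    constructor <;> nlinarith [sq_nonneg y, sq_nonneg z]
  have hyb : -27 ≤ y ∧ y ≤ 27 := by
    constructor <;> nlinarith [sq_nonneg x, sq_nonneg z]
  subst hz
  have hM : Mf x y = (g : ℤ) * Nf x y := by
    unfold Mf Nf
    rw [heq]; ring
  have hN : Nf x y ≠ 0 := by
    unfold Nf
    have h1 := one_add_ne_zero hx3
    have h2 := one_add_ne_zero hy3
    have h3 := one_add_ne_zero hz3
    have h4 : -x - y = 1 + (-1 - x - y) := by ring
    rw [h4]
    exact mul_ne_zero (mul_ne_zero h1 h2) h3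
  have hquot : Mf x y / Nf x y = (g : ℤ) := Int.ediv_eq_of_eq_mul_left hN hM
  have hdiv : Nf x y ∣ Mf x y := ⟨g, by rw [hM]; ring⟩
  have h8' : (8 : ℤ) ∣ Mf x y / Nf x y := by
    rw [hquot]; exact_mod_cast h8
  have h16' : ¬ (16 : ℤ) ∣ Mf x y / Nf x y := by
    rw [hquot]; exact_mod_cast h16
  have hsq' : 1 + x ^ 2 + y ^ 2 + (-1 - x - y) ^ 2 ≤ Mf x y / Nf x y := by
    rw [hquot]; exact hsq
  have := arith_fin x (Finset.mem_Icc.mpr hxb) y (Finset.mem_Icc.mpr hyb) hx hy hx3 hy3 hz3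
    hdiv h8' h16' hsq'
  rw [hquot] at this
  rcases this with h | h
  · left; exact_mod_cast h
  · right; exact_mod_cast h

end D8C

end Cfsg.Agent.Lib.Helper2
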