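import Mathlib
import Cfsg.Agent.Lib.Helper2.D8C3
import Cfsg.Agent.Lib.Helper2.D8C4
import Cfsg.Agent.Lib.Helper2.D8C5
import Cfsg.Agent.Lib.Helper1.ConjCount

set_option autoImplicit false

namespace Cfsg.Agent.Lib.Helper2

namespace D8C

open Cfsg.Agent.Lib.Helper1 Cfsg.Agent.Lib.Helper4 Cfsg.Agent.Lib.Helper8

universe u

variable {G : Type u} [Group G]

theorem char_ints [Finite G] {t a : G} (hyp : Hyp G t a) {χ : G → ℂ}
    (hχ : Cfsg.IsIrrCharacter G χ) :
    ∃ d A T : ℤ, χ 1 = d ∧ χ a = A ∧ χ t = T ∧ 0 < d ∧ 2 ∣ d - A ∧ 2 ∣ T - A := by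
  obtain ⟨M₀, M₁, M₂, h1, h2, h3⟩ := exists_three (isCharacter_of_irr hχ) a hyp.ha hyp.conjInv
  rw [hyp.ha2] at h3
  refine ⟨(M₀ : ℤ) + M₂ + 2 * M₁, (M₀ : ℤ) - M₂, (M₀ : ℤ) + M₂ - 2 * M₁, ?_, ?_, ?_, ?_, ?_, ?_⟩
  · rw [h1]; push_cast; ring
  · rw [h2]; push_cast; ring
  · rw [h3]; push_cast; ring
  · have hne := irr_apply_one_ne_zero hχ
    rw [h1] at hne
    have : (M₀ : ℤ) + M₂ + 2 * M₁ ≠ 0 := by
      intro h0
      apply hne
      have := congrArg (Int.cast : ℤ → ℂ) h0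
      push_cast at this
      exact this
    omega
  · exact ⟨(M₂ : ℤ) + M₁, by ring⟩
  · exact ⟨(M₂ : ℤ) - M₁, by ring⟩

/-- the indicator function of involutions. -/
noncomputable def invInd (G : Type u) [Group G] : G → ℂ := fun x => if orderOf x = 2 then 1 else 0

theorem invInd_isClassFunction : Cfsg.IsClassFunction G (invInd G) := by
  intro g h
  unfold invInd
  have : orderOf (h * g * h⁻¹) = orderOf g := by
    have h1 : h * g * h⁻¹ = MulAut.conj h g := by simp
    rw [h1, MulEquiv.orderOf_eq]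
  rw [this]

theorem pair_iff {t a : G} (hyp : Hyp G t a) (x : G) :
    (orderOf x = 2 ∧ orderOf (x⁻¹ * a) = 2) ↔ (x * a * x⁻¹ = a⁻¹ ∧ x * x = 1) := by
  have ha1 : a ≠ 1 := by
    intro h
    have := hyp.ha
    rw [h, orderOf_one] at this
    omega
  have haa : a * a ≠ 1 := by
    intro h
    have h1 : orderOf a ∣ 2 := orderOf_dvd_of_pow_eq_one (by rw [pow_two]; exact h)
    rw [hyp.ha] at h1
    omega
  constructor
  · rintro ⟨h1, h2⟩
    have hxx : x * x = 1 := by
      rw [← pow_two, ← h1]; exact pow_orderOf_eq_one x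
    have hxi : x⁻¹ = x := inv_eq_of_mul_eq_one_left hxx
    refine ⟨?_, hxx⟩
    have h3 : (x⁻¹ * a) * (x⁻¹ * a) = 1 := by
      rw [← pow_two, ← h2]; exact pow_orderOf_eq_one _
    rw [hxi] at h3 ⊢
    have h4 : x * a * x = (x * a * (x * a)) * a⁻¹ := by group
    rw [h4, h3, one_mul]
  · rintro ⟨h1, h2⟩
    have hxi : x⁻¹ = x := inv_eq_of_mul_eq_one_left h2
    have hx1 : x ≠ 1 := by
      intro h
      rw [h] at h1
      apply haa
      have : a = a⁻¹ := by simpa using h1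
      calc a * a = a * a⁻¹ := by rw [← this]
        _ = 1 := mul_inv_cancel a
    refine ⟨orderOf_eq_prime (by rw [pow_two]; exact h2) hx1, ?_⟩
    rw [hxi]
    apply orderOf_eq_prime
    · rw [pow_two]
      rw [hxi] at h1
      have : x * a * (x * a) = (x * a * x) * a := by group
      rw [this, h1, inv_mul_cancel]
    · intro h
      have hxa : x = a⁻¹ := eq_inv_of_mul_eq_one_left h
      have : a⁻¹ * a⁻¹ = 1 := by rw [← hxa]; exact h2
      apply haa
      have h5 : (a * a)⁻¹ = 1 := by rw [mul_inv_rev]; exact this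
      exact inv_eq_one.mp h5

end D8C

end Cfsg.Agent.Lib.Helper2
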