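import Mathlib
import Cfsg.Agent.Lib.Helper2.D8C7

set_option autoImplicit false

namespace Cfsg.Agent.Lib.Helper2

namespace D8C

open Cfsg.Agent.Lib.Helper1 Cfsg.Agent.Lib.Helper4 Cfsg.Agent.Lib.Helper8
open scoped ComplexConjugate

universe u

variable {G : Type u} [Group G] [Fintype G]

theorem card_inv_mul_eight {t a : G} (hyp : Hyp G t a) :
    Fintype.card {x : G // orderOf x = 2} * 8 = Fintype.card G := by
  have h1 := card_isConj_mul_card_centralizer t
  rw [hyp.cardCt] at h1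
  rw [← Nat.card_eq_fintype_card, ← Nat.card_eq_fintype_card, ← h1]
  congr 1
  apply Nat.card_congr
  refine Equiv.subtypeEquivRight fun v => ?_
  constructor
  · intro h; exact hyp.invConj v h
  · intro h
    obtain ⟨c, hc⟩ := isConj_iff.mp h
    rw [← hc]
    have h1 : c * t * c⁻¹ = MulAut.conj c t := by simp
    rw [h1, MulEquiv.orderOf_eq]; exact hyp.ht

theorem sum_invInd_mul [DecidableEq G] {t a : G} (hyp : Hyp G t a) {χ : G → ℂ}
    (hχ : Cfsg.IsClassFunction G χ) :
    ∑ x, invInd G x * χ x = (Fintype.card {x : G // orderOf x = 2} : ℂ) * χ t := by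
  have h1 : ∀ x : G, invInd G x * χ x = if orderOf x = 2 then χ t else 0 := by
    intro x
    unfold invInd
    split_ifs with h
    · rw [one_mul]
      obtain ⟨c, hc⟩ := isConj_iff.mp (hyp.invConj x h)
      rw [← hc]; exact hχ t c
    · rw [zero_mul]
  simp only [h1]
  rw [← Finset.sum_filter, Finset.sum_const, Fintype.card_subtype, nsmul_eq_mul]

theorem sum_pairs [DecidableEq G] {t a : G} (hyp : Hyp G t a) :
    ∑ x, invInd G x * invInd G (x⁻¹ * a) = 4 := by
  have h1 : ∀ x : G, invInd G x * invInd G (x⁻¹ * a)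
      = if (x * a * x⁻¹ = a⁻¹ ∧ x * x = 1) then 1 else 0 := by
    intro x
    have := pair_iff hyp x
    unfold invInd
    by_cases h : x * a * x⁻¹ = a⁻¹ ∧ x * x = 1
    · rw [if_pos h, if_pos (this.mpr h).1, if_pos (this.mpr h).2, one_mul]
    · rw [if_neg h]
      by_cases h2 : orderOf x = 2
      · rw [if_pos h2, one_mul, if_neg]
        intro h3; exact h (this.mp ⟨h2, h3⟩)
      · rw [if_neg h2, zero_mul]
  simp only [h1]
  rw [← Finset.sum_filter, Finset.sum_const, nsmul_eq_mul, mul_one, ← Fintype.card_subtype,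
    ← Nat.card_eq_fintype_card, hyp.cardInv]
  norm_num

theorem sums [Fintype (Cfsg.IrrCharacter G)] {t a : G} (hyp : Hyp G t a)
    (d A T : Cfsg.IrrCharacter G → ℤ)
    (hd : ∀ χ : Cfsg.IrrCharacter G, (χ : G → ℂ) 1 = d χ)
    (hA : ∀ χ : Cfsg.IrrCharacter G, (χ : G → ℂ) a = A χ)
    (hT : ∀ χ : Cfsg.IrrCharacter G, (χ : G → ℂ) t = T χ) :
    (∑ χ, A χ * A χ = 4) ∧ (∑ χ, T χ * T χ = 8) ∧ (∑ χ, d χ * A χ = 0) ∧
    (∑ χ, d χ * d χ = Fintype.card G) ∧
    ((256 : ℚ) = (Fintype.card G : ℚ) * ∑ χ, ((T χ * T χ * A χ : ℤ) : ℚ) / d χ) := by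
  classical
  have ha1 : a ≠ 1 := by
    intro h
    have := hyp.ha
    rw [h, orderOf_one] at this
    omega
  refine ⟨?_, ?_, ?_, ?_, ?_⟩
  · have := sum_irr_mul_conj_self a
    simp only [hA, map_intCast] at this
    rw [hyp.cardCa] at this
    exact_mod_cast this
  · have := sum_irr_mul_conj_self t
    simp only [hT, map_intCast] at this
    rw [hyp.cardCt] at this
    exact_mod_cast this
  · have := sum_irr_one_mul a
    rw [if_neg ha1] at this
    simp only [hd, hA] at this
    exact_mod_cast this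
  · have := sum_irr_one_mul (1 : G)
    rw [if_pos rfl] at this
    simp only [hd] at this
    exact_mod_cast this
  · have hconv := conv_formula (invInd G) (invInd G) invInd_isClassFunction
      invInd_isClassFunction a
    rw [sum_pairs hyp] at hconv
    have hainv : ∀ χ : Cfsg.IrrCharacter G, (χ : G → ℂ) a⁻¹ = A χ := by
      intro χ
      obtain ⟨c, hc⟩ := isConj_iff.mp hyp.conjInv
      rw [← hc, isClassFunction_irr χ.2 a c, hA]
    have hF : ∀ χ : Cfsg.IrrCharacter G, ∑ x, invInd G x * (χ : G → ℂ) x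
        = (Fintype.card {x : G // orderOf x = 2} : ℂ) * T χ := by
      intro χ
      rw [sum_invInd_mul hyp (isClassFunction_irr χ.2), hT]
    simp only [hF, hainv, hd] at hconv
    have h8 := card_inv_mul_eight hyp
    set n := Fintype.card {x : G // orderOf x = 2} with hn
    have hn0 : (n : ℂ) ≠ 0 := by
      intro h0
      have : n = 0 := by exact_mod_cast h0
      rw [this, zero_mul] at h8
      exact Fintype.card_ne_zero h8.symm
    have hgc : (Fintype.card G : ℂ) = (n : ℂ) * 8 := by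
      rw [← h8]; push_cast; ring
    have h2 : ∑ χ : Cfsg.IrrCharacter G, (n : ℂ) * (T χ : ℂ) * ((n : ℂ) * (T χ : ℂ)) * (A χ : ℂ)
        / (d χ : ℂ) = (n : ℂ) * (n : ℂ) * ∑ χ : Cfsg.IrrCharacter G,
          ((T χ * T χ * A χ : ℤ) : ℂ) / (d χ : ℂ) := by
      rw [Finset.mul_sum]
      refine Finset.sum_congr rfl fun χ _ => ?_
      push_cast
      ring
    rw [h2, hgc] at hconv
    have h3 : (32 : ℂ) = (n : ℂ) * ∑ χ : Cfsg.IrrCharacter G,
          ((T χ * T χ * A χ : ℤ) : ℂ) / (d χ : ℂ) := by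
      apply mul_left_cancel₀ hn0
      rw [← mul_assoc, ← hconv]; ring
    have h4 : ((256 : ℚ) : ℂ) = (((Fintype.card G : ℚ) *
        ∑ χ, ((T χ * T χ * A χ : ℤ) : ℚ) / d χ : ℚ) : ℂ) := by
      push_cast
      rw [hgc]
      have : (n : ℂ) * 8 * ∑ χ : Cfsg.IrrCharacter G,
          ((T χ : ℂ) * (T χ : ℂ) * (A χ : ℂ)) / (d χ : ℂ) = 8 * ((n : ℂ) *
          ∑ χ : Cfsg.IrrCharacter G, ((T χ * T χ * A χ : ℤ) : ℂ) / (d χ : ℂ)) := by
        push_cast; ring
      rw [this, ← h3]; norm_num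
    exact_mod_cast h4

end D8C

end Cfsg.Agent.Lib.Helper2
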