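import Mathlib
import Cfsg.Agent.Lib.Helper2.D8C8
import Cfsg.Agent.Lib.Helper2.D8C6

set_option autoImplicit false

namespace Cfsg.Agent.Lib.Helper2

namespace D8C

open Cfsg.Agent.Lib.Helper1 Cfsg.Agent.Lib.Helper4 Cfsg.Agent.Lib.Helper8
open scoped ComplexConjugate

universe u

variable {G : Type u} [Group G]

theorem sq_one_of_le_three {A : ℤ} (h0 : A ≠ 0) (h : A * A ≤ 3) : A = 1 ∨ A = -1 := by
  have h1 : A ≤ 1 := by nlinarith
  have h2 : -1 ≤ A := by nlinarith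
  omega

theorem odd_sq_le_seven {T : ℤ} (hodd : T % 2 = 1) (h : T * T ≤ 7) : T * T = 1 := by
  have h1 : T ≤ 2 := by nlinarith
  have h2 : -2 ≤ T := by nlinarith
  have : T = 1 ∨ T = -1 := by omega
  rcases this with h | h <;> rw [h] <;> norm_num

theorem clear_denoms (g x y z : ℚ) (hx : x ≠ 0) (hy : y ≠ 0) (hz : z ≠ 0)
    (h : 256 = g * (1 + (1 / x + (1 / y + 1 / z)))) :
    256 * (x * y * z) = g * (x * y * z + y * z + x * z + x * y) := by
  rw [h]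
  field_simp
  ring

theorem main [Finite G] (hperf : commutator G = ⊤) {t a : G} (hyp : Hyp G t a) :
    Nat.card G = 168 ∨ Nat.card G = 360 := by
  classical
  have : Fintype G := Fintype.ofFinite G
  have : Fintype (Cfsg.IrrCharacter G) := Fintype.ofFinite _
  have hex : ∀ χ : Cfsg.IrrCharacter G, ∃ d A T : ℤ, (χ : G → ℂ) 1 = d ∧ (χ : G → ℂ) a = A ∧
      (χ : G → ℂ) t = T ∧ 0 < d ∧ 2 ∣ d - A ∧ 2 ∣ T - A := fun χ => char_ints hyp χ.2
  choose d A T hd hA hT hdpos hdA hTA using hex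
  obtain ⟨E1, E2, E3, E4, E5⟩ := sums hyp d A T hd hA hT
  -- trivial character
  let χ₀ : Cfsg.IrrCharacter G := ⟨fun g => ((1 : G →* ℂˣ) g : ℂ), isIrrCharacter_of_hom 1⟩
  have h0val : ∀ g, (χ₀ : G → ℂ) g = 1 := fun g => by simp [χ₀]
  have hd0 : d χ₀ = 1 := by
    have := hd χ₀
    rw [h0val] at this
    exact_mod_cast this.symm
  have hA0 : A χ₀ = 1 := by
    have := hA χ₀
    rw [h0val] at this
    exact_mod_cast this.symm
  have hT0 : T χ₀ = 1 := by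
    have := hT χ₀
    rw [h0val] at this
    exact_mod_cast this.symm
  have hlin : ∀ χ : Cfsg.IrrCharacter G, d χ = 1 → χ = χ₀ := by
    intro χ h1
    have h2 : (χ : G → ℂ) 1 = 1 := by rw [hd, h1]; simp
    obtain ⟨φ, hφ⟩ := exists_hom_of_isIrrCharacter χ.2 h2
    have hker : φ.ker = ⊤ := by
      have := Abelianization.commutator_subset_ker φ
      rw [hperf] at this
      exact top_le_iff.mp this
    apply Subtype.ext
    funext g
    rw [hφ, h0val]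
    have : φ g = 1 := MonoidHom.mem_ker.mp (hker ▸ Subgroup.mem_top g)
    simp [this]
  -- the special characters
  set S : Finset (Cfsg.IrrCharacter G) := Finset.univ.filter (fun χ => A χ ≠ 0) with hS
  have h0S : χ₀ ∈ S := by
    rw [hS, Finset.mem_filter]
    exact ⟨Finset.mem_univ _, by rw [hA0]; norm_num⟩
  have hSsum : ∑ χ ∈ S, A χ * A χ = 4 := by
    rw [hS, Finset.sum_filter_of_ne, E1]
    intro χ _ h h0
    apply h
    rw [h0, mul_zero]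
  have hS'sum : ∑ χ ∈ S.erase χ₀, A χ * A χ = 3 := by
    have := Finset.add_sum_erase S (fun χ => A χ * A χ) h0S
    rw [hSsum, hA0] at this
    linarith
  have hmemS' : ∀ χ ∈ S.erase χ₀, χ ≠ χ₀ ∧ (A χ = 1 ∨ A χ = -1) := by
    intro χ hχ
    have h1 := Finset.mem_erase.mp hχ
    have h2 : A χ ≠ 0 := by
      have := h1.2
      rw [hS, Finset.mem_filter] at this
      exact this.2
    refine ⟨h1.1, sq_one_of_le_three h2 ?_⟩
    rw [← hS'sum]
    exact Finset.single_le_sum (f := fun χ => A χ * A χ) (fun χ _ => mul_self_nonneg _) hχ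
  have hcard : (S.erase χ₀).card = 3 := by
    have h1 : ∑ χ ∈ S.erase χ₀, A χ * A χ = ∑ χ ∈ S.erase χ₀, (1 : ℤ) := by
      refine Finset.sum_congr rfl fun χ hχ => ?_
      rcases (hmemS' χ hχ).2 with h | h <;> rw [h] <;> norm_num
    rw [hS'sum, Finset.sum_const, nsmul_eq_mul, mul_one] at h1
    exact_mod_cast h1.symm
  obtain ⟨χ₁, χ₂, χ₃, h12, h13, h23, hS'eq⟩ := Finset.card_eq_three.mp hcard
  have hm1 : χ₁ ∈ S.erase χ₀ := by rw [hS'eq]; simp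
  have hm2 : χ₂ ∈ S.erase χ₀ := by rw [hS'eq]; simp
  have hm3 : χ₃ ∈ S.erase χ₀ := by rw [hS'eq]; simp
  obtain ⟨h10, hA1⟩ := hmemS' χ₁ hm1
  obtain ⟨h20, hA2⟩ := hmemS' χ₂ hm2
  obtain ⟨h30, hA3⟩ := hmemS' χ₃ hm3
  have hSeq : S = insert χ₀ (insert χ₁ (insert χ₂ {χ₃})) := by
    rw [← Finset.insert_erase h0S, hS'eq]
  have hn0 : χ₀ ∉ insert χ₁ (insert χ₂ ({χ₃} : Finset (Cfsg.IrrCharacter G))) := by
    simp only [Finset.mem_insert, Finset.mem_singleton, not_or]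
    exact ⟨fun h => h10 h.symm, fun h => h20 h.symm, fun h => h30 h.symm⟩
  have hn1 : χ₁ ∉ insert χ₂ ({χ₃} : Finset (Cfsg.IrrCharacter G)) := by
    simp only [Finset.mem_insert, Finset.mem_singleton, not_or]
    exact ⟨h12, h13⟩
  have hn2 : χ₂ ∉ ({χ₃} : Finset (Cfsg.IrrCharacter G)) := by
    simp only [Finset.mem_singleton]
    exact h23
  have sumZ : ∀ f : Cfsg.IrrCharacter G → ℤ, ∑ χ ∈ S, f χ = f χ₀ + (f χ₁ + (f χ₂ + f χ₃)) := by
    intro f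
    rw [hSeq, Finset.sum_insert hn0, Finset.sum_insert hn1, Finset.sum_insert hn2,
      Finset.sum_singleton]
  have sumQ : ∀ f : Cfsg.IrrCharacter G → ℚ, ∑ χ ∈ S, f χ = f χ₀ + (f χ₁ + (f χ₂ + f χ₃)) := by
    intro f
    rw [hSeq, Finset.sum_insert hn0, Finset.sum_insert hn1, Finset.sum_insert hn2,
      Finset.sum_singleton]
  -- E3
  have E3' : 1 + (d χ₁ * A χ₁ + (d χ₂ * A χ₂ + d χ₃ * A χ₃)) = 0 := by
    have h1 : ∑ χ ∈ S, d χ * A χ = ∑ χ, d χ * A χ := by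
      rw [hS, Finset.sum_filter_of_ne]
      intro χ _ h h0
      apply h
      rw [h0, mul_zero]
    rw [sumZ, E3, hd0, hA0] at h1
    linarith
  -- E2
  have E2' : 1 + (T χ₁ * T χ₁ + (T χ₂ * T χ₂ + T χ₃ * T χ₃)) ≤ 8 := by
    have h1 : ∑ χ ∈ S, T χ * T χ ≤ ∑ χ, T χ * T χ :=
      Finset.sum_le_sum_of_subset_of_nonneg (Finset.subset_univ _)
        (fun χ _ _ => mul_self_nonneg _)
    rw [sumZ, E2, hT0] at h1
    linarith
  -- E4
  have E4' : 1 + (d χ₁ * d χ₁ + (d χ₂ * d χ₂ + d χ₃ * d χ₃)) ≤ (Fintype.card G : ℤ) := by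
    have h1 : ∑ χ ∈ S, d χ * d χ ≤ ∑ χ, d χ * d χ :=
      Finset.sum_le_sum_of_subset_of_nonneg (Finset.subset_univ _)
        (fun χ _ _ => mul_self_nonneg _)
    rw [sumZ, E4, hd0] at h1
    linarith
  -- E5
  have E5' : (256 : ℚ) = (Fintype.card G : ℚ) * (1 +
      (((T χ₁ * T χ₁ * A χ₁ : ℤ) : ℚ) / d χ₁ + (((T χ₂ * T χ₂ * A χ₂ : ℤ) : ℚ) / d χ₂
        + ((T χ₃ * T χ₃ * A χ₃ : ℤ) : ℚ) / d χ₃))) := by
    have h1 : ∑ χ ∈ S, ((T χ * T χ * A χ : ℤ) : ℚ) / d χ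
        = ∑ χ, ((T χ * T χ * A χ : ℤ) : ℚ) / d χ := by
      rw [hS, Finset.sum_filter_of_ne]
      intro χ _ h h0
      apply h
      rw [h0, mul_zero, Int.cast_zero, zero_div]
    rw [← h1, sumQ, hT0, hA0, hd0] at E5
    rw [E5]
    norm_num
  -- parity facts
  have oddOf : ∀ {X Y : ℤ}, (Y = 1 ∨ Y = -1) → 2 ∣ X - Y → X % 2 = 1 := by
    intro X Y hY hdiv
    rcases hY with h | h <;> rw [h] at hdiv <;> omega
  have hT1 := odd_sq_le_seven (oddOf hA1 (hTA χ₁))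
    (by nlinarith [mul_self_nonneg (T χ₂), mul_self_nonneg (T χ₃)])
  have hT2 := odd_sq_le_seven (oddOf hA2 (hTA χ₂))
    (by nlinarith [mul_self_nonneg (T χ₁), mul_self_nonneg (T χ₃)])
  have hT3 := odd_sq_le_seven (oddOf hA3 (hTA χ₃))
    (by nlinarith [mul_self_nonneg (T χ₁), mul_self_nonneg (T χ₂)])
  have hdge : ∀ χ : Cfsg.IrrCharacter G, χ ≠ χ₀ → (A χ = 1 ∨ A χ = -1) → 3 ≤ d χ ∧ d χ % 2 = 1 := by
    intro χ hne hAχ
    have h1 := oddOf hAχ (hdA χ)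
    have h2 := hdpos χ
    have h3 : d χ ≠ 1 := fun h => hne (hlin χ h)
    omega
  obtain ⟨hd1, hd1o⟩ := hdge χ₁ h10 hA1
  obtain ⟨hd2, hd2o⟩ := hdge χ₂ h20 hA2
  obtain ⟨hd3, hd3o⟩ := hdge χ₃ h30 hA3
  -- the variables
  have habs : ∀ {X Y : ℤ}, (Y = 1 ∨ Y = -1) → 3 ≤ X → 3 ≤ |Y * X| := by
    intro X Y hY hX
    rcases hY with h | h <;> rw [h]
    · rw [one_mul, abs_of_nonneg (by linarith)]; exact hX
    · rw [neg_one_mul, abs_neg, abs_of_nonneg (by linarith)]; exact hX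
  have hoddm : ∀ {X Y : ℤ}, (Y = 1 ∨ Y = -1) → X % 2 = 1 → (Y * X) % 2 = 1 := by
    intro X Y hY hX
    rcases hY with h | h <;> rw [h] <;> omega
  have hsqm : ∀ {X Y : ℤ}, (Y = 1 ∨ Y = -1) → (Y * X) ^ 2 = X * X := by
    intro X Y hY
    rcases hY with h | h <;> rw [h] <;> ring
  have hdivm : ∀ {X Y W : ℤ}, (Y = 1 ∨ Y = -1) → W = 1 → X ≠ 0 →
      ((W * Y : ℤ) : ℚ) / (X : ℚ) = 1 / ((Y * X : ℤ) : ℚ) := by
    intro X Y W hY hW hX
    have hXq : (X : ℚ) ≠ 0 := by exact_mod_cast hX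
    rcases hY with h | h <;> rw [h, hW]
    · push_cast; ring
    · push_cast
      field_simp
  have hg8 : 8 ∣ Fintype.card G := ⟨_, (by rw [mul_comm]; exact (card_inv_mul_eight hyp).symm)⟩
  have hg16 : ¬ 16 ∣ Fintype.card G := by
    have := hyp.not16
    rwa [Nat.card_eq_fintype_card] at this
  rw [Nat.card_eq_fintype_card]
  apply arith (Fintype.card G) (A χ₁ * d χ₁) (A χ₂ * d χ₂) (A χ₃ * d χ₃)
    (hoddm hA1 hd1o) (hoddm hA2 hd2o) (habs hA1 hd1) (habs hA2 hd2) (habs hA3 hd3)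
  · linarith
  · -- the equation
    rw [hdivm hA1 hT1 (by omega), hdivm hA2 hT2 (by omega), hdivm hA3 hT3 (by omega)] at E5'
    have hx1 : ((A χ₁ * d χ₁ : ℤ) : ℚ) ≠ 0 := by
      have := habs hA1 hd1
      exact_mod_cast ne_zero_of_abs this
    have hx2 : ((A χ₂ * d χ₂ : ℤ) : ℚ) ≠ 0 := by
      have := habs hA2 hd2
      exact_mod_cast ne_zero_of_abs this
    have hx3 : ((A χ₃ * d χ₃ : ℤ) : ℚ) ≠ 0 := by
      have := habs hA3 hd3
      exact_mod_cast ne_zero_of_abs this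
    have h2 := clear_denoms _ _ _ _ hx1 hx2 hx3 E5'
    exact_mod_cast h2
  · rw [hsqm hA1, hsqm hA2, hsqm hA3]
    linarith
  · exact hg8
  · exact hg16

end D8C

end Cfsg.Agent.Lib.Helper2
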