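import Mathlib
import Cfsg.Agent.Lib.Helper2.DSub9

set_option autoImplicit false
set_option linter.style.haveILetI false

/-!
# Dickson's subgroup theorem: the classification at a given parabolic point
-/

namespace Cfsg.Agent.Lib.Helper2

namespace DSub

open MulAction

variable {H X : Type*} [Group H] [MulAction H X]

/-- the orbit data of a point with a parabolic element -/
theorem classify_at (M : Mob H X) [Finite H] (x : X) (g₀ : H) (hg₀ : IsPar g₀ x) :
    (∀ h : H, h • x = x) ∨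
    (Nat.card (Q M x) = 2) ∨
    ((∀ (y : X) (g : H), IsPar g y → y ∈ orbit H x) ∧
      ((3 ≤ Nat.card (Q M x) ∧ Nat.card (orbit H x) = Nat.card (Q M x) + 1 ∧
        ∃ k : ℕ, Nat.card (stabilizer H x) = Nat.card (Q M x) * k ∧
          (k = Nat.card (Q M x) - 1 ∨ 2 * k = Nat.card (Q M x) - 1)) ∨
      (Nat.card (Q M x) = 3 ∧ Nat.card (orbit H x) = 10 ∧ Nat.card (stabilizer H x) = 6 ∧
        Nat.card H = 60))) := by
  classical
  haveI : Fintype H := Fintype.ofFinite H
  haveI : Finite ↥(Om H X) := finite_Om M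
  haveI : Fintype ↥(Om H X) := Fintype.ofFinite _
  haveI : Fintype (orbitRel.Quotient H ↥(Om H X)) := Fintype.ofFinite _
  set g := Nat.card H with hg
  have hgpos : 1 ≤ g := Nat.card_pos
  have hgF : (Fintype.card H : ℤ) = g := by rw [hg, Nat.card_eq_fintype_card]
  set ι := orbitRel.Quotient H ↥(Om H X)
  let xx : ι → X := fun ω => ((ω.out : ↥(Om H X)) : X)
  let n : ι → ℕ := fun ω => Nat.card (orbit H (ω.out : ↥(Om H X)))
  let e : ι → ℕ := fun ω => Nat.card (stabilizer H (xx ω))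
  let q : ι → ℕ := fun ω => Nat.card (Q M (xx ω))
  have hne : ∀ ω, n ω * e ω = g := fun ω => card_orbit_Om ω.out
  have he : ∀ ω, 2 ≤ e ω := by
    intro ω
    have h1 : stabilizer H (xx ω) ≠ ⊥ := stabilizer_ne_bot_of_mem_Om _ (ω.out : ↥(Om H X)).2
    exact (Subgroup.one_lt_card_iff_ne_bot _).mpr h1
  have hq1 : ∀ ω, 1 ≤ q ω := fun ω => Nat.card_pos
  have hqe : ∀ ω, q ω ≤ e ω := fun ω => Subgroup.card_le_of_le (Q_le_stabilizer M _)
  have hsum : ∑ ω, (n ω : ℤ) * ((e ω : ℤ) + q ω - 2) = 2 * (g : ℤ) - 2 := by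
    rw [← hgF]
    exact count_orbits M
  have hcls : ∀ (y : X) (hy : y ∈ Om H X),
      Nat.card (stabilizer H y) = e (Quotient.mk'' ⟨y, hy⟩) ∧
      Nat.card (Q M y) = q (Quotient.mk'' ⟨y, hy⟩) :=
    fun y hy => ⟨card_stabilizer_out y hy, card_Q_out M y hy⟩
  have hnX : ∀ ω, Nat.card (orbit H (xx ω)) = n ω :=
    fun ω => card_orbit_eq_of_mul (xx ω) (n ω) (e ω) (hne ω) rfl
  -- the class of `x`
  have hxO : x ∈ Om H X := ⟨g₀, hg₀.1, hg₀.2.1⟩
  set ωx : ι := Quotient.mk'' ⟨x, hxO⟩ with hωx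
  have hxe : Nat.card (stabilizer H x) = e ωx := (hcls x hxO).1
  have hxq : Nat.card (Q M x) = q ωx := (hcls x hxO).2
  have hqx2 : 2 ≤ q ωx := by
    rw [← hxq]
    have : Nontrivial ↥(Q M x) :=
      ⟨⟨⟨g₀, Or.inr hg₀⟩, 1, fun h => hg₀.1 (congrArg Subtype.val h)⟩⟩
    exact Finite.one_lt_card
  obtain ⟨h₁, hh₁⟩ := exists_smul_out_eq x hxO
  have horb : orbit H x = orbit H (xx ωx) := by
    have h2 := orbit_smul h₁ (xx ωx)
    rw [hh₁] at h2
    exact h2
  have hxn : Nat.card (orbit H x) = n ωx := by rw [horb]; exact hnX ωx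
  have hfixx : n ωx = 1 → ∀ h : H, h • x = x := by
    intro h1 h
    exact fixes_of_card_orbit_eq_one x (hxn.trans h1) h
  -- a parabolic point in the class of `x` lies in the orbit of `x`
  have hmem : ∀ (y : X) (hy : y ∈ Om H X), (Quotient.mk'' ⟨y, hy⟩ : ι) = ωx → y ∈ orbit H x := by
    intro y hy h
    have h2 := Quotient.exact' h
    rw [orbitRel_apply] at h2
    obtain ⟨k, hk⟩ := h2
    exact ⟨k, congrArg Subtype.val hk⟩
  rcases num g hgpos n e q hne he hq1 hqe hsum with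
    ⟨hemp, hg1⟩ | ⟨i, j, hij, hall, hqi, hqj, hni, hnj⟩ |
    ⟨i, j, k, hT, hqi, hqj, hqk, hei, hcase⟩ | ⟨i, hall, hqi, hni⟩ |
    ⟨i, j, hij, hall, hqi, hqj, hnn⟩
  · exact (hemp.false ωx).elim
  · exfalso
    rcases hall ωx with h | h <;> rw [h] at hqx2 <;> omega
  · exfalso
    rcases hT.2.2.2 ωx with h | h | h <;> rw [h] at hqx2 <;> omega
  · left
    apply hfixx
    rw [hall ωx]; exact hni
  · have hωi : ωx = i := by
      rcases hall ωx with h | h
      · exact h
      · rw [h] at hqx2; omega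
    obtain ⟨r, hr⟩ := card_orbit_modEq M x
    rw [hxn, hxq, hωi] at hr
    rcases Nat.eq_zero_or_pos r with hr0 | hrpos
    · left
      apply hfixx
      rw [hωi, hr, hr0, mul_zero, add_zero]
    obtain ⟨kk, hk1, hk2⟩ := index_dvd M x
    rw [hxq, hxe, hωi] at hk1
    rw [hxq, hωi] at hk2
    have hg1 : (1 + q i * r) * (q i * kk) = g := by
      have := hne i
      rw [hr] at this
      rw [← this]
      congr 1
      exact hk1.symm
    have hn2 : n j + 2 * (1 + q i * r) = (1 + q i * r) * q i + 2 := by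
      rw [← hr]; exact hnn
    have hpar : ∀ (y : X) (a : H), IsPar a y → y ∈ orbit H x := by
      intro y a ha
      have hy : y ∈ Om H X := ⟨a, ha.1, ha.2.1⟩
      apply hmem y hy
      rcases hall (Quotient.mk'' ⟨y, hy⟩) with h | h
      · rw [h, hωi]
      · exfalso
        have h1 := (hcls y hy).2
        rw [h, hqj] at h1
        exact not_isPar_of_card_Q M y h1 a ha
    rw [hxq, hxn, hxe, hωi]
    rcases num2 g (q i) kk r (n j) (e j) hqi hk2 hrpos hg1 (hne j) hn2 with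
      ⟨hq2, hkk1, hnj2⟩ | ⟨hq3, hr1, hkq⟩ | ⟨hq3, hr3, hkk2, hej5, hg60⟩
    · right; left; exact hq2
    · right; right
      refine ⟨hpar, Or.inl ⟨hq3, ?_, kk, hk1, hkq⟩⟩
      rw [hr, hr1, mul_one, add_comm]
    · right; right
      refine ⟨hpar, Or.inr ⟨hq3, ?_, ?_, hg60⟩⟩
      · rw [hr, hq3, hr3]
      · rw [hk1, hq3, hkk2]

end DSub

end Cfsg.Agent.Lib.Helper2
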