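import Mathlib
import Cfsg.Agent.Lib.Helper2.DSubP7

set_option autoImplicit false
set_option linter.unusedSectionVars false
set_option linter.style.haveILetI false

/-!
# Dickson's subgroup theorem: Sylow `p`-subgroups of `PSL₂(q)` and their normalizers
-/

namespace Cfsg.Agent.Lib.Helper2

namespace DSub

open Matrix OnePoint MulAction
open scoped MatrixGroups commutatorElement

section pgl

variable {L : Type*} [Field L] [DecidableEq L]

attribute [local instance] pglAct

/-- commutators of elements fixing `x` are trivial or parabolic at `x` -/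
theorem commutator_isPar_pgl (x : OnePoint L) (a b : PGL(Fin 2, L)) (ha : a • x = x)
    (hb : b • x = x) : ⁅a, b⁆ = 1 ∨ IsPar ⁅a, b⁆ x := by
  obtain ⟨δ, rfl⟩ := exists_smul_infty_eq x
  by_cases h1 : ⁅a, b⁆ = 1
  · exact Or.inl h1
  right
  set a' : stabilizer (PGL(Fin 2, L)) (δ • (∞ : OnePoint L)) := ⟨a, mem_stabilizer_iff.mpr ha⟩
  set b' : stabilizer (PGL(Fin 2, L)) (δ • (∞ : OnePoint L)) := ⟨b, mem_stabilizer_iff.mpr hb⟩
  have hc : ((⁅a', b'⁆ : stabilizer (PGL(Fin 2, L)) (δ • (∞ : OnePoint L))) : PGL(Fin 2, L)) =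
      ⁅a, b⁆ := rfl
  rw [← hc, ← chiAt_eq_one_iff δ ⁅a', b'⁆ (by rw [hc]; exact h1)]
  rw [commutatorElement_def, map_mul, map_mul, map_mul, map_inv, map_inv]
  rw [mul_comm (chiAt δ a') (chiAt δ b')]
  group

end pgl

variable {F : Type*} [Field F] {L : Type*} [Field L] [DecidableEq L] [Algebra F L]

attribute [local instance] pglAct pslAct finite_psl

variable [IsAlgClosed L] [Fintype F]

theorem commutator_isPar_psl (x : OnePoint L) (a b : ProjectiveSpecialLinearGroup (Fin 2) F)
    (ha : a • x = x) (hb : b • x = x) : ⁅a, b⁆ = 1 ∨ IsPar ⁅a, b⁆ x := by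
  rcases commutator_isPar_pgl x (rho a : PGL(Fin 2, L)) (rho b) ha hb with h | h
  · left
    apply rho_injective (F := F) (L := L)
    rw [map_commutatorElement, h, map_one]
  · right
    rw [isPar_map_iff rho rho_injective psl_smul, map_commutatorElement]
    exact h

/-- every Sylow `p`-subgroup is the parabolic subgroup of a point, and its normalizer is the
stabilizer of that point -/
theorem sylow_eq_Q (p : ℕ) [hp : Fact p.Prime] [CharP L p] [CharP F p]
    (P : Sylow p (ProjectiveSpecialLinearGroup (Fin 2) F)) :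
    ∃ (x : OnePoint L) (g₀ : ProjectiveSpecialLinearGroup (Fin 2) F), IsPar g₀ x ∧
      (P : Subgroup (ProjectiveSpecialLinearGroup (Fin 2) F)) = Q (mobG (F := F) (L := L)) x ∧
      Subgroup.normalizer ((P : Subgroup (ProjectiveSpecialLinearGroup (Fin 2) F)) :
        Set (ProjectiveSpecialLinearGroup (Fin 2) F)) =
        stabilizer (ProjectiveSpecialLinearGroup (Fin 2) F) x := by
  have hq : 2 ≤ Fintype.card F := Fintype.one_lt_card
  have hcard := card_sylow_psl p P
  haveI : Nontrivial ↥(P : Subgroup (ProjectiveSpecialLinearGroup (Fin 2) F)) := by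
    rw [← Finite.one_lt_card_iff_nontrivial]
    omega
  obtain ⟨⟨g₀, hg₀⟩, hne⟩ :=
    exists_ne (1 : ↥(P : Subgroup (ProjectiveSpecialLinearGroup (Fin 2) F)))
  have hg₀1 : g₀ ≠ 1 := fun h => hne (Subtype.ext h)
  obtain ⟨k, hk⟩ := P.2 ⟨g₀, hg₀⟩
  have hk' : g₀ ^ (p ^ k) = 1 := congrArg Subtype.val hk
  obtain ⟨x, hx⟩ := psl_isPar_of_pow_eq_one (L := L) p g₀ k hk' hg₀1
  have hle : (P : Subgroup (ProjectiveSpecialLinearGroup (Fin 2) F)) ≤
      Q (mobG (F := F) (L := L)) x :=
    le_Q_of_isPGroup mobG p (psl_isPar_of_pow_eq_one p) P P.2 x g₀ hg₀ hx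
  have heq : (P : Subgroup (ProjectiveSpecialLinearGroup (Fin 2) F)) =
      Q (mobG (F := F) (L := L)) x :=
    (P.3 (isPGroup_Q mobG p (psl_pow_char_of_isPar p) x) hle).symm
  refine ⟨x, g₀, hx, heq, ?_⟩
  apply le_antisymm
  · intro g hg
    rw [heq, Subgroup.mem_normalizer_iff] at hg
    have h1 : g * g₀ * g⁻¹ ∈ Q (mobG (F := F) (L := L)) x := (hg g₀).mp (Or.inr hx)
    have h2 : IsPar (g * g₀ * g⁻¹) (g • x) := hx.conj g
    rcases h1 with h1 | h1
    · exact absurd h1 h2.1
    · exact mem_stabilizer_iff.mpr (h2.unique h1)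
  · rw [heq]
    exact stabilizer_le_normalizer_Q mobG x

end DSub

end Cfsg.Agent.Lib.Helper2
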