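import Mathlib
import Cfsg.Agent.Lib.Helper2.DSubP8

set_option autoImplicit false
set_option linter.unusedSectionVars false
set_option linter.style.haveILetI false

/-!
# Dickson's subgroup theorem: statements not mentioning the projective line
-/

namespace Cfsg.Agent.Lib.Helper2

namespace DSub

open Matrix OnePoint MulAction
open scoped MatrixGroups commutatorElement

section aux

variable {F : Type*} [Field F] (L : Type*) [Field L] [DecidableEq L] [Algebra F L]

attribute [local instance] pglAct pslAct finite_psl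

variable [IsAlgClosed L] [Fintype F]

theorem sylow_psl_facts_aux (p : ℕ) [hp : Fact p.Prime] [CharP L p] [CharP F p]
    (P : Sylow p (ProjectiveSpecialLinearGroup (Fin 2) F)) :
    (∀ a ∈ P, ∀ b ∈ P, a * b = b * a) ∧
    (Subgroup.normalizer ((P : Subgroup (ProjectiveSpecialLinearGroup (Fin 2) F)) :
        Set (ProjectiveSpecialLinearGroup (Fin 2) F))).index = Fintype.card F + 1 ∧
    Nat.gcd 2 (Fintype.card F - 1) *
      Nat.card (Subgroup.normalizer ((P : Subgroup (ProjectiveSpecialLinearGroup (Fin 2) F)) :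
        Set (ProjectiveSpecialLinearGroup (Fin 2) F))) =
        Fintype.card F * (Fintype.card F - 1) ∧
    (∀ a ∈ Subgroup.normalizer ((P : Subgroup (ProjectiveSpecialLinearGroup (Fin 2) F)) :
        Set (ProjectiveSpecialLinearGroup (Fin 2) F)),
      ∀ b ∈ Subgroup.normalizer ((P : Subgroup (ProjectiveSpecialLinearGroup (Fin 2) F)) :
        Set (ProjectiveSpecialLinearGroup (Fin 2) F)), ⁅a, b⁆ ∈ P) := by
  obtain ⟨x, g₀, hg₀, hPQ, hN⟩ := sylow_eq_Q (L := L) p P
  obtain ⟨hO, hS⟩ := card_orbit_of_isPar (L := L) p x g₀ hg₀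
  refine ⟨?_, ?_, ?_, ?_⟩
  · intro a ha b hb
    have ha' : a ∈ Q (mobG (F := F) (L := L)) x := by rw [← hPQ]; exact ha
    have hb' : b ∈ Q (mobG (F := F) (L := L)) x := by rw [← hPQ]; exact hb
    exact Q_comm mobG x a b ha' hb'
  · rw [hN, index_stabilizer, ← Nat.card_coe_set_eq]
    exact hO
  · rw [hN]; exact hS
  · intro a ha b hb
    rw [hN] at ha hb
    have : ⁅a, b⁆ ∈ Q (mobG (F := F) (L := L)) x :=
      commutator_isPar_psl x a b (mem_stabilizer_iff.mp ha) (mem_stabilizer_iff.mp hb)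
    rw [← hPQ] at this
    exact this

/-- Dickson's theorem, with a concrete second case -/
theorem dickson_psl_concrete_aux (p : ℕ) [hp : Fact p.Prime] [CharP L p] [CharP F p]
    (H : Subgroup (ProjectiveSpecialLinearGroup (Fin 2) F)) :
    (∃ k : ℕ, (k ∣ (Fintype.card F + 1) / Nat.gcd 2 (Fintype.card F - 1) ∨
        k ∣ (Fintype.card F - 1) / Nat.gcd 2 (Fintype.card F - 1)) ∧
      ((IsCyclic H ∧ Nat.card H = k) ∨ Nonempty (H ≃* DihedralGroup k))) ∨
    (∃ (P : Sylow p (Matrix.ProjectiveSpecialLinearGroup (Fin 2) F)),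
      H ≤ Subgroup.normalizer ((P : Subgroup (Matrix.ProjectiveSpecialLinearGroup (Fin 2) F)) :
        Set (Matrix.ProjectiveSpecialLinearGroup (Fin 2) F))) ∨
    Nonempty (H ≃* alternatingGroup (Fin 4)) ∨ Nonempty (H ≃* Equiv.Perm (Fin 4)) ∨
    Nonempty (H ≃* alternatingGroup (Fin 5)) ∨
    (∃ (K : Type) (_ : Field K) (_ : Fintype K) (m : ℕ), Fintype.card K ^ m = Fintype.card F ∧
      (Nonempty (H ≃* Matrix.ProjectiveSpecialLinearGroup (Fin 2) K) ∨
        Nonempty (H ≃* Matrix.ProjGenLinGroup (Fin 2) K))) := by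
  set MH := mobH (L := L) H with hMH
  rcases classify MH with ⟨x, hx⟩ | ⟨y, hnp, hiso⟩ | h | h | h | ⟨x, hq, hO, k, hst, hk⟩
  · -- `H` fixes a point
    by_cases hnp : ∀ g : ↥H, ¬ IsPar g x
    · left
      have hcyc := MH.cyc x hnp
      have htop : stabilizer ↥H x = ⊤ := by
        rw [eq_top_iff]
        intro h _
        exact mem_stabilizer_iff.mpr (hx h)
      have hd := card_dvd_of_cyclic (L := L) H p (stabilizer ↥H x) hcyc x
        (fun c hc => mem_stabilizer_iff.mp hc) hnp
      have hcard : Nat.card (stabilizer ↥H x) = Nat.card ↥H := by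
        rw [htop, Subgroup.card_top]
      rw [hcard] at hd
      refine ⟨Nat.card ↥H, hd, Or.inl ⟨?_, rfl⟩⟩
      rw [htop] at hcyc
      exact isCyclic_of_surjective (Subgroup.topEquiv (G := ↥H)).toMonoidHom
        (Subgroup.topEquiv (G := ↥H)).surjective
    · right; left
      push Not at hnp
      obtain ⟨g, hg⟩ := hnp
      have hg' : IsPar (g : ProjectiveSpecialLinearGroup (Fin 2) F) x :=
        (isPar_subtype_iff H g x).mp hg
      obtain ⟨P, hP⟩ := psl_exists_sylow (L := L) p x _ hg'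
      refine ⟨P, ?_⟩
      rw [hP]
      intro h hh
      apply stabilizer_le_normalizer_Q (mobG (F := F) (L := L)) x
      exact mem_stabilizer_iff.mpr (hx ⟨h, hh⟩)
  · -- dihedral
    left
    have hcyc := MH.cyc y hnp
    have hd := card_dvd_of_cyclic (L := L) H p (stabilizer ↥H y) hcyc y
      (fun c hc => mem_stabilizer_iff.mp hc) hnp
    exact ⟨_, hd, Or.inr hiso⟩
  · exact Or.inr (Or.inr (Or.inl h))
  · exact Or.inr (Or.inr (Or.inr (Or.inl h)))
  · exact Or.inr (Or.inr (Or.inr (Or.inr (Or.inl h))))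
  · exact Or.inr (Or.inr (Or.inr (Or.inr (Or.inr
      (subfield_psl (L := L) H p x k hq hO hst hk)))))

end aux

variable {F : Type*} [Field F] [Fintype F]

/-- Sylow `p`-subgroups of `PSL₂(q)` are abelian, their normalizers have index `q + 1` and
abelian quotient by the Sylow subgroup -/
theorem sylow_psl_facts (p : ℕ) [hp : Fact p.Prime] [CharP F p]
    (P : Sylow p (ProjectiveSpecialLinearGroup (Fin 2) F)) :
    (∀ a ∈ P, ∀ b ∈ P, a * b = b * a) ∧
    (Subgroup.normalizer ((P : Subgroup (ProjectiveSpecialLinearGroup (Fin 2) F)) :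
        Set (ProjectiveSpecialLinearGroup (Fin 2) F))).index = Fintype.card F + 1 ∧
    Nat.gcd 2 (Fintype.card F - 1) *
      Nat.card (Subgroup.normalizer ((P : Subgroup (ProjectiveSpecialLinearGroup (Fin 2) F)) :
        Set (ProjectiveSpecialLinearGroup (Fin 2) F))) =
        Fintype.card F * (Fintype.card F - 1) ∧
    (∀ a ∈ Subgroup.normalizer ((P : Subgroup (ProjectiveSpecialLinearGroup (Fin 2) F)) :
        Set (ProjectiveSpecialLinearGroup (Fin 2) F)),
      ∀ b ∈ Subgroup.normalizer ((P : Subgroup (ProjectiveSpecialLinearGroup (Fin 2) F)) :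
        Set (ProjectiveSpecialLinearGroup (Fin 2) F)), ⁅a, b⁆ ∈ P) := by
  classical
  haveI : CharP (AlgebraicClosure F) p :=
    charP_of_injective_algebraMap (algebraMap F (AlgebraicClosure F)).injective p
  exact sylow_psl_facts_aux (AlgebraicClosure F) p P

/-- Dickson's theorem, with a concrete second case -/
theorem dickson_psl_concrete (p : ℕ) [hp : Fact p.Prime] [CharP F p]
    (H : Subgroup (ProjectiveSpecialLinearGroup (Fin 2) F)) :
    (∃ k : ℕ, (k ∣ (Fintype.card F + 1) / Nat.gcd 2 (Fintype.card F - 1) ∨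
        k ∣ (Fintype.card F - 1) / Nat.gcd 2 (Fintype.card F - 1)) ∧
      ((IsCyclic H ∧ Nat.card H = k) ∨ Nonempty (H ≃* DihedralGroup k))) ∨
    (∃ (P : Sylow p (Matrix.ProjectiveSpecialLinearGroup (Fin 2) F)),
      H ≤ Subgroup.normalizer ((P : Subgroup (Matrix.ProjectiveSpecialLinearGroup (Fin 2) F)) :
        Set (Matrix.ProjectiveSpecialLinearGroup (Fin 2) F))) ∨
    Nonempty (H ≃* alternatingGroup (Fin 4)) ∨ Nonempty (H ≃* Equiv.Perm (Fin 4)) ∨
    Nonempty (H ≃* alternatingGroup (Fin 5)) ∨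
    (∃ (K : Type) (_ : Field K) (_ : Fintype K) (m : ℕ), Fintype.card K ^ m = Fintype.card F ∧
      (Nonempty (H ≃* Matrix.ProjectiveSpecialLinearGroup (Fin 2) K) ∨
        Nonempty (H ≃* Matrix.ProjGenLinGroup (Fin 2) K))) := by
  classical
  haveI : CharP (AlgebraicClosure F) p :=
    charP_of_injective_algebraMap (algebraMap F (AlgebraicClosure F)).injective p
  exact dickson_psl_concrete_aux (AlgebraicClosure F) p H

end DSub

end Cfsg.Agent.Lib.Helper2
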