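import Mathlib
import Cfsg.Agent.Lib.Helper2.DSubP9

set_option autoImplicit false
set_option linter.unusedSectionVars false
set_option linter.style.haveILetI false

/-!
# Dickson's subgroup theorem: orders of the groups in the list
-/

namespace Cfsg.Agent.Lib.Helper2

namespace DSub

open Matrix
open scoped MatrixGroups

theorem card_A4 : Nat.card (alternatingGroup (Fin 4)) = 12 := by
  rw [nat_card_alternatingGroup, Nat.card_eq_fintype_card, Fintype.card_fin]
  rfl

theorem card_S4 : Nat.card (Equiv.Perm (Fin 4)) = 24 := by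
  rw [Nat.card_eq_fintype_card, Fintype.card_perm, Fintype.card_fin]
  rfl

theorem card_A5 : Nat.card (alternatingGroup (Fin 5)) = 60 := by
  rw [nat_card_alternatingGroup, Nat.card_eq_fintype_card, Fintype.card_fin]
  rfl

theorem gcd_two_cases (n : ℕ) : Nat.gcd 2 n = 1 ∨ Nat.gcd 2 n = 2 := by
  have h1 : Nat.gcd 2 n ∣ 2 := Nat.gcd_dvd_left _ _
  have h2 : Nat.gcd 2 n ≤ 2 := Nat.le_of_dvd (by norm_num) h1
  have h3 : 0 < Nat.gcd 2 n := Nat.gcd_pos_of_pos_left _ (by norm_num)
  interval_cases (Nat.gcd 2 n) <;> simp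

variable {K : Type*} [Field K] [Fintype K]

theorem card_pgl_two : Nat.card (PGL(Fin 2, K)) =
    Fintype.card K * (Fintype.card K - 1) * (Fintype.card K + 1) := by
  classical
  rw [Cfsg.Agent.Lib.Helper1.card_PGL_eq_card_SL, Cfsg.Agent.Lib.Helper5.card_SL2]

/-- a subgroup of small order has index at least `q + 1` -/
theorem index_ge_of_card_le (H : Subgroup (ProjectiveSpecialLinearGroup (Fin 2) K))
    (h : Nat.gcd 2 (Fintype.card K - 1) * Nat.card H ≤ Fintype.card K * (Fintype.card K - 1)) :
    Fintype.card K + 1 ≤ H.index := by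
  haveI := finite_psl (F := K)
  have h1 := card_psl_two (F := K)
  rw [← H.index_mul_card] at h1
  have hpos : 0 < Nat.gcd 2 (Fintype.card K - 1) * Nat.card H :=
    Nat.mul_pos (Nat.gcd_pos_of_pos_left _ (by norm_num)) Nat.card_pos
  by_contra hlt
  push Not at hlt
  have h2 : H.index * (Nat.gcd 2 (Fintype.card K - 1) * Nat.card H) <
      (Fintype.card K + 1) * (Nat.gcd 2 (Fintype.card K - 1) * Nat.card H) :=
    Nat.mul_lt_mul_of_pos_right hlt hpos
  have h3 : (Fintype.card K + 1) * (Nat.gcd 2 (Fintype.card K - 1) * Nat.card H) ≤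
      (Fintype.card K + 1) * (Fintype.card K * (Fintype.card K - 1)) :=
    Nat.mul_le_mul_left _ h
  have h4 : H.index * (Nat.gcd 2 (Fintype.card K - 1) * Nat.card H) =
      (Fintype.card K + 1) * (Fintype.card K * (Fintype.card K - 1)) := by
    rw [← mul_assoc, mul_comm H.index, mul_assoc, h1]; ring
  omega

end DSub

end Cfsg.Agent.Lib.Helper2
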