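import Mathlib
import Cfsg.Agent.Lib.Helper2.DSubP9
import Cfsg.Agent.Lib.Helper2.DSub7

set_option autoImplicit false
set_option linter.unusedSectionVars false
set_option linter.style.haveILetI false

/-!
# Dickson's subgroup theorem: dihedral subgroups of `PSL₂(q)`
-/

namespace Cfsg.Agent.Lib.Helper2

namespace DSub

open Matrix OnePoint MulAction
open scoped MatrixGroups

/-- the setwise stabilizer of a pair of points -/
def pairStab (G : Type*) {X : Type*} [Group G] [MulAction G X] (y y' : X) : Subgroup G where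
  carrier := {g | (g • y = y ∧ g • y' = y') ∨ (g • y = y' ∧ g • y' = y)}
  one_mem' := Or.inl ⟨one_smul _ _, one_smul _ _⟩
  mul_mem' := by
    rintro a b (⟨a1, a2⟩ | ⟨a1, a2⟩) (⟨b1, b2⟩ | ⟨b1, b2⟩)
    · left; rw [mul_smul, mul_smul, b1, b2]; exact ⟨a1, a2⟩
    · right; rw [mul_smul, mul_smul, b1, b2]; exact ⟨a2, a1⟩
    · right; rw [mul_smul, mul_smul, b1, b2]; exact ⟨a1, a2⟩
    · left; rw [mul_smul, mul_smul, b1, b2]; exact ⟨a2, a1⟩
  inv_mem' := by
    rintro a (⟨a1, a2⟩ | ⟨a1, a2⟩)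
    · left
      rw [inv_smul_eq_iff, inv_smul_eq_iff]
      exact ⟨a1.symm, a2.symm⟩
    · right
      rw [inv_smul_eq_iff, inv_smul_eq_iff]
      exact ⟨a2.symm, a1.symm⟩

theorem mem_pairStab {G : Type*} {X : Type*} [Group G] [MulAction G X] (y y' : X) (g : G) :
    g ∈ pairStab G y y' ↔ (g • y = y ∧ g • y' = y') ∨ (g • y = y' ∧ g • y' = y) := Iff.rfl

variable {F : Type*} [Field F] (L : Type*) [Field L] [DecidableEq L] [Algebra F L]

attribute [local instance] pglAct pslAct finite_psl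

variable [IsAlgClosed L] [Fintype F]

/-- an element inverted by another one lies in a dihedral subgroup -/
theorem exists_dihedral_aux (p : ℕ) [hp : Fact p.Prime] [CharP L p] [CharP F p]
    (c w : ProjectiveSpecialLinearGroup (Fin 2) F) (hc2 : c * c ≠ 1) (y : OnePoint L)
    (hcy : c • y = y) (hnp : ¬ IsPar c y) (hw : w * c * w⁻¹ = c⁻¹) :
    ∃ (N : Subgroup (ProjectiveSpecialLinearGroup (Fin 2) F)) (n : ℕ), orderOf c ∣ n ∧
      (n ∣ (Fintype.card F + 1) / Nat.gcd 2 (Fintype.card F - 1) ∨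
        n ∣ (Fintype.card F - 1) / Nat.gcd 2 (Fintype.card F - 1)) ∧
      Nonempty (N ≃* DihedralGroup n) := by
  have hc1 : c ≠ 1 := by
    intro h
    apply hc2
    rw [h, mul_one]
  obtain ⟨y', hy'ne, hcy', hall⟩ :=
    exists_other_fixed (mobG (F := F) (L := L)) c y hc1 hcy hnp
  set N := pairStab (ProjectiveSpecialLinearGroup (Fin 2) F) y y' with hN
  have MN := mobH (L := L) N
  have hnpN : ∀ g : ↥N, ¬ IsPar g y := by
    intro g hpar
    rcases g.2 with ⟨-, g2⟩ | ⟨g1, -⟩
    · exact hy'ne (hpar.2.2 y' g2)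
    · have : ((g : ProjectiveSpecialLinearGroup (Fin 2) F) • y : OnePoint L) = y := hpar.2.1
      exact hy'ne (g1.symm.trans this)
  have hcyc := MN.cyc y hnpN
  set cN : ↥N := ⟨c, Or.inl ⟨hcy, hcy'⟩⟩ with hcN
  have hcNmem : cN ∈ stabilizer ↥N y := mem_stabilizer_iff.mpr hcy
  -- `w` swaps the two points
  have hcw : c * w = w * c⁻¹ := by
    have h1 : (w * c * w⁻¹)⁻¹ = c := by rw [hw, inv_inv]
    have h2 : (w * c * w⁻¹)⁻¹ = w * c⁻¹ * w⁻¹ := by group
    calc c * w = (w * c⁻¹ * w⁻¹) * w := by rw [← h2, h1]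
      _ = w * c⁻¹ := by group
  have hwy : c • (w • y) = w • y := by
    rw [← mul_smul, hcw, mul_smul, inv_smul_eq_iff.mpr hcy.symm]
  have hwy' : c • (w • y') = w • y' := by
    rw [← mul_smul, hcw, mul_smul, inv_smul_eq_iff.mpr hcy'.symm]
  have hswap : w • y = y' ∧ w • y' = y := by
    rcases hall _ hwy with h | h
    · exfalso
      have h' : w • y' = y' := by
        rcases hall _ hwy' with h' | h'
        · exact absurd (smul_left_cancel w (h'.trans h.symm)) hy'ne
        · exact h'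
      set wN : ↥N := ⟨w, Or.inl ⟨h, h'⟩⟩ with hwN
      have hwNmem : wN ∈ stabilizer ↥N y := mem_stabilizer_iff.mpr h
      haveI := hcyc
      have hcomm : (⟨wN, hwNmem⟩ : stabilizer ↥N y) * ⟨cN, hcNmem⟩ =
          ⟨cN, hcNmem⟩ * ⟨wN, hwNmem⟩ := by
        obtain ⟨z, hz⟩ := IsCyclic.exists_generator (α := stabilizer ↥N y)
        obtain ⟨a, ha⟩ := hz ⟨wN, hwNmem⟩
        obtain ⟨b, hb⟩ := hz ⟨cN, hcNmem⟩
        rw [← ha, ← hb]
        simp only
        rw [← _root_.zpow_add, ← _root_.zpow_add, add_comm]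
      have hcomm' : w * c = c * w := by
        have := congrArg (fun z : stabilizer ↥N y => ((z : ↥N) : ProjectiveSpecialLinearGroup (Fin 2) F))
          hcomm
        exact this
      apply hc2
      have : c⁻¹ = c := by
        rw [← hw, hcomm']; group
      calc c * c = c⁻¹ * c := by rw [this]
        _ = 1 := inv_mul_cancel c
    · refine ⟨h, ?_⟩
      rcases hall _ hwy' with h' | h'
      · exact h'
      · exact absurd (smul_left_cancel w (h'.trans h.symm)) hy'ne
  set wN : ↥N := ⟨w, Or.inr hswap⟩ with hwN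
  have hidx : (stabilizer ↥N y).index = 2 := by
    rw [index_stabilizer]
    have horb : orbit ↥N y = {y, y'} := by
      ext z
      constructor
      · rintro ⟨⟨g, hg⟩, rfl⟩
        rcases hg with ⟨g1, -⟩ | ⟨g1, -⟩
        · left; exact g1
        · right; exact g1
      · rintro (rfl | rfl)
        · exact mem_orbit_self _
        · exact ⟨wN, hswap.1⟩
    rw [horb]
    exact Set.ncard_pair (fun h => hy'ne h.symm)
  have hne : stabilizer ↥N y ≠ ⊥ := by
    intro h
    have : cN ∈ (⊥ : Subgroup ↥N) := by rw [← h]; exact hcNmem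
    rw [Subgroup.mem_bot] at this
    exact hc1 (congrArg Subtype.val this)
  refine ⟨N, Nat.card (stabilizer ↥N y), ?_, ?_, dihedral_of_index_two MN y hnpN hidx hne⟩
  · have h1 : orderOf cN = orderOf c := (Subgroup.orderOf_coe cN).symm
    rw [← h1]
    exact orderOf_dvd_card_stabilizer cN y hcy
  · exact card_dvd_of_cyclic (L := L) N p (stabilizer ↥N y) hcyc y
      (fun c hc => mem_stabilizer_iff.mp hc) hnpN

end DSub

end Cfsg.Agent.Lib.Helper2
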