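import Mathlib
import Cfsg.Agent.Lib.Helper2.DSubD1
import Cfsg.Agent.Lib.Helper2.DSubC1

set_option autoImplicit false
set_option linter.unusedSectionVars false
set_option linter.style.haveILetI false

/-!
# Dickson's subgroup theorem: existence of the dihedral subgroups of `PSL₂(q)`
-/

namespace Cfsg.Agent.Lib.Helper2

namespace DSub

open Matrix OnePoint MulAction
open scoped MatrixGroups

variable {F : Type*} [Field F]

theorem trace_inv_sl (g : SpecialLinearGroup (Fin 2) F) :
    ((g⁻¹ : SpecialLinearGroup (Fin 2) F) : Matrix (Fin 2) (Fin 2) F).trace =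
      (g : Matrix (Fin 2) (Fin 2) F).trace := by
  rw [Matrix.SpecialLinearGroup.SL2_inv_expl, Matrix.trace_fin_two (g : Matrix (Fin 2) (Fin 2) F)]
  show Matrix.trace !![(g : Matrix (Fin 2) (Fin 2) F) 1 1, -(g : Matrix (Fin 2) (Fin 2) F) 0 1;
    -(g : Matrix (Fin 2) (Fin 2) F) 1 0, (g : Matrix (Fin 2) (Fin 2) F) 0 0] = _
  rw [Matrix.trace_fin_two_of, add_comm]

variable [Fintype F]

/-- the order of the image in `PSL₂` of an element of `SL₂` whose order is divisible by `d` -/
theorem orderOf_mk_psl (g : SpecialLinearGroup (Fin 2) F)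
    (hd : Nat.gcd 2 (Fintype.card F - 1) ∣ orderOf g) :
    orderOf (QuotientGroup.mk g : ProjectiveSpecialLinearGroup (Fin 2) F) =
      orderOf g / Nat.gcd 2 (Fintype.card F - 1) := by
  by_cases h2 : (2 : F) = 0
  · rw [gcd_two_of_even h2, Nat.div_one]
    apply orderOf_eq_orderOf_iff.mpr
    intro n
    exact Cfsg.Agent.Lib.Helper5.mk_pow_eq_one_iff_even h2 g n
  · obtain ⟨hd2, -⟩ := gcd_two_of_odd h2
    rw [hd2] at hd ⊢
    obtain ⟨m, hm⟩ := hd
    rw [hm, Nat.mul_div_cancel_left m (by norm_num)]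
    apply Nat.dvd_antisymm
    · apply orderOf_dvd_of_pow_eq_one
      rw [Cfsg.Agent.Lib.Helper5.mk_pow_eq_one_iff_odd h2, ← hm]
      exact pow_orderOf_eq_one g
    · have h1 := pow_orderOf_eq_one (QuotientGroup.mk g : ProjectiveSpecialLinearGroup (Fin 2) F)
      rw [Cfsg.Agent.Lib.Helper5.mk_pow_eq_one_iff_odd h2] at h1
      have h3 := orderOf_dvd_of_pow_eq_one h1
      rw [hm] at h3
      exact Nat.dvd_of_mul_dvd_mul_left (by norm_num) h3

/-- an element of `PSL₂(q)` of order at least `3` prime to `p` lies in a dihedral subgroup -/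
theorem exists_dihedral_of_orderOf (p : ℕ) [hp : Fact p.Prime] [CharP F p]
    (g : SpecialLinearGroup (Fin 2) F)
    (h3 : 3 ≤ orderOf (QuotientGroup.mk g : ProjectiveSpecialLinearGroup (Fin 2) F))
    (hcop : ¬ p ∣ orderOf (QuotientGroup.mk g : ProjectiveSpecialLinearGroup (Fin 2) F)) :
    ∃ (N : Subgroup (ProjectiveSpecialLinearGroup (Fin 2) F)) (n : ℕ),
      orderOf (QuotientGroup.mk g : ProjectiveSpecialLinearGroup (Fin 2) F) ∣ n ∧
      (n ∣ (Fintype.card F + 1) / Nat.gcd 2 (Fintype.card F - 1) ∨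
        n ∣ (Fintype.card F - 1) / Nat.gcd 2 (Fintype.card F - 1)) ∧
      Nonempty (N ≃* DihedralGroup n) := by
  classical
  haveI : CharP (AlgebraicClosure F) p :=
    charP_of_injective_algebraMap (algebraMap F (AlgebraicClosure F)).injective p
  letI := pslAct (F := F) (L := AlgebraicClosure F)
  haveI := finite_psl (F := F)
  set c : ProjectiveSpecialLinearGroup (Fin 2) F := QuotientGroup.mk g with hc
  have hcp : c ^ p ≠ 1 := by
    intro h
    have h1 := orderOf_dvd_of_pow_eq_one h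
    have h2 : orderOf c = 1 ∨ orderOf c = p := (Nat.dvd_prime hp.out).mp h1
    rcases h2 with h2 | h2
    · omega
    · exact hcop (by rw [h2])
  have hc2 : c * c ≠ 1 := by
    intro h
    have h1 : orderOf c ∣ 2 := orderOf_dvd_of_pow_eq_one (by rw [pow_two]; exact h)
    have := Nat.le_of_dvd (by norm_num) h1
    omega
  have htr : (g : Matrix (Fin 2) (Fin 2) F).trace ^ 2 ≠ 4 := by
    intro h
    exact hcp (Cfsg.Agent.Lib.Helper5.mk_pow_char_eq_one p g h)
  have hconj := Cfsg.Agent.Lib.Helper5.isConj_of_trace_eq g g⁻¹ (trace_inv_sl g).symm htr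
  obtain ⟨u, hu⟩ := isConj_iff.mp hconj
  set w : ProjectiveSpecialLinearGroup (Fin 2) F := QuotientGroup.mk u with hw
  have hwc : w * c * w⁻¹ = c⁻¹ := by
    have := congrArg (fun z : SpecialLinearGroup (Fin 2) F =>
      (QuotientGroup.mk z : ProjectiveSpecialLinearGroup (Fin 2) F)) hu
    exact this
  obtain ⟨y, hy⟩ := (mobG (F := F) (L := AlgebraicClosure F)).exists_fixed c
  have hnp : ¬ IsPar c y := fun h => hcp (psl_pow_char_of_isPar p c y h)
  exact exists_dihedral_aux (AlgebraicClosure F) p c w hc2 y hy hnp hwc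

/-- the dihedral subgroup of order `2 (q + 1) / d` -/
theorem exists_dihedral_add (p : ℕ) [hp : Fact p.Prime] [CharP F p]
    (h3 : 3 ≤ (Fintype.card F + 1) / Nat.gcd 2 (Fintype.card F - 1)) :
    ∃ N : Subgroup (ProjectiveSpecialLinearGroup (Fin 2) F),
      Nonempty (N ≃* DihedralGroup ((Fintype.card F + 1) / Nat.gcd 2 (Fintype.card F - 1))) := by
  classical
  have hq : 2 ≤ Fintype.card F := Fintype.one_lt_card
  obtain ⟨g, hg⟩ := Cfsg.Agent.Lib.Helper5.exists_orderOf_eq_card_add_one (F := F) p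
  obtain ⟨n0, -, hn0⟩ := FiniteField.card F p
  have hpq : p ∣ Fintype.card F := by rw [hn0]; exact dvd_pow_self p n0.ne_zero
  have hdd : Nat.gcd 2 (Fintype.card F - 1) ∣ Fintype.card F + 1 := by
    by_cases h2 : (2 : F) = 0
    · rw [gcd_two_of_even h2]; exact one_dvd _
    · obtain ⟨hd2, hodd⟩ := gcd_two_of_odd h2
      rw [hd2]; omega
  have ho := orderOf_mk_psl g (by rw [hg]; exact hdd)
  rw [hg] at ho
  have hcop : ¬ p ∣ orderOf (QuotientGroup.mk g : ProjectiveSpecialLinearGroup (Fin 2) F) := by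
    intro h
    rw [ho] at h
    have h1 : p ∣ Fintype.card F + 1 := h.trans (Nat.div_dvd_of_dvd hdd)
    have h2 : p ∣ Fintype.card F + 1 - Fintype.card F := Nat.dvd_sub h1 hpq
    have e : Fintype.card F + 1 - Fintype.card F = 1 := by omega
    rw [e] at h2
    exact hp.out.one_lt.ne' (Nat.dvd_one.mp h2)
  obtain ⟨N, n, hn1, hn2, hN⟩ := exists_dihedral_of_orderOf p g (by rw [ho]; exact h3) hcop
  rw [ho] at hn1
  have hn : n = (Fintype.card F + 1) / Nat.gcd 2 (Fintype.card F - 1) := by
    rcases hn2 with hn2 | hn2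
    · exact Nat.dvd_antisymm hn2 hn1
    · exfalso
      have h4 := hn1.trans hn2
      by_cases h2 : (2 : F) = 0
      · rw [gcd_two_of_even h2, Nat.div_one, Nat.div_one] at h4
        have := Nat.le_of_dvd (by omega) h4
        omega
      · obtain ⟨hd2, hodd⟩ := gcd_two_of_odd h2
        rw [hd2] at h4 h3
        have h5 : 0 < (Fintype.card F - 1) / 2 := by omega
        have := Nat.le_of_dvd h5 h4
        omega
  rw [hn] at hN
  exact ⟨N, hN⟩

/-- the dihedral subgroup of order `2 (q - 1) / d` -/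
theorem exists_dihedral_sub (p : ℕ) [hp : Fact p.Prime] [CharP F p]
    (h3 : 3 ≤ (Fintype.card F - 1) / Nat.gcd 2 (Fintype.card F - 1)) :
    ∃ N : Subgroup (ProjectiveSpecialLinearGroup (Fin 2) F),
      Nonempty (N ≃* DihedralGroup ((Fintype.card F - 1) / Nat.gcd 2 (Fintype.card F - 1))) := by
  classical
  have hq : 2 ≤ Fintype.card F := Fintype.one_lt_card
  obtain ⟨g, hg⟩ := Cfsg.Agent.Lib.Helper5.exists_orderOf_eq_card_sub_one (F := F)
  obtain ⟨n0, -, hn0⟩ := FiniteField.card F p
  have hpq : p ∣ Fintype.card F := by rw [hn0]; exact dvd_pow_self p n0.ne_zero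
  have hdd : Nat.gcd 2 (Fintype.card F - 1) ∣ Fintype.card F - 1 := Nat.gcd_dvd_right _ _
  have ho := orderOf_mk_psl g (by rw [hg]; exact hdd)
  rw [hg] at ho
  have hcop : ¬ p ∣ orderOf (QuotientGroup.mk g : ProjectiveSpecialLinearGroup (Fin 2) F) := by
    intro h
    rw [ho] at h
    have h1 : p ∣ Fintype.card F - 1 := h.trans (Nat.div_dvd_of_dvd hdd)
    have h2 : p ∣ Fintype.card F - (Fintype.card F - 1) := Nat.dvd_sub hpq h1
    have e : Fintype.card F - (Fintype.card F - 1) = 1 := by omega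
    rw [e] at h2
    exact hp.out.one_lt.ne' (Nat.dvd_one.mp h2)
  obtain ⟨N, n, hn1, hn2, hN⟩ := exists_dihedral_of_orderOf p g (by rw [ho]; exact h3) hcop
  rw [ho] at hn1
  have hn : n = (Fintype.card F - 1) / Nat.gcd 2 (Fintype.card F - 1) := by
    rcases hn2 with hn2 | hn2
    · exfalso
      have h4 := hn1.trans hn2
      by_cases h2 : (2 : F) = 0
      · simp only [gcd_two_of_even h2, Nat.div_one] at h4 h3
        have h5 : Fintype.card F - 1 ∣ (Fintype.card F + 1) - (Fintype.card F - 1) :=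
          Nat.dvd_sub h4 dvd_rfl
        have e : (Fintype.card F + 1) - (Fintype.card F - 1) = 2 := by omega
        rw [e] at h5
        have := Nat.le_of_dvd (by norm_num) h5
        omega
      · obtain ⟨hd2, hodd⟩ := gcd_two_of_odd h2
        rw [hd2] at h4 h3
        have e1 : (Fintype.card F + 1) / 2 = (Fintype.card F - 1) / 2 + 1 := by omega
        rw [e1] at h4
        have h5 : (Fintype.card F - 1) / 2 ∣ 1 := (Nat.dvd_add_right dvd_rfl).mp h4
        have := Nat.le_of_dvd (by norm_num) h5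
        omega
    · exact Nat.dvd_antisymm hn2 hn1
  rw [hn] at hN
  exact ⟨N, hN⟩

end DSub

end Cfsg.Agent.Lib.Helper2
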