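import Mathlib
import Cfsg.Agent.Lib.Helper2.DSubG2

set_option autoImplicit false
set_option linter.unusedSectionVars false
set_option linter.style.haveILetI false

/-!
# Dickson's subgroup theorem: embeddings of dihedral groups
-/

namespace Cfsg.Agent.Lib.Helper2

namespace DSub

open MulAction

section dihedral

variable {n : ℕ} {X : Type*} [Group X] (φ : DihedralGroup n →* X) (hφ : Function.Injective φ)

include hφ

/-- a group containing `D_n` has an element of order `n` -/
theorem exists_orderOf_of_dihedral : ∃ x : X, orderOf x = n :=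
  ⟨φ (DihedralGroup.r 1), by rw [orderOf_injective φ hφ, DihedralGroup.orderOf_r_one]⟩

/-- a group containing `D_n`, `n ≥ 3`, has two noncommuting involutions -/
theorem exists_involutions_of_dihedral (hn : 3 ≤ n) :
    ∃ s t : X, s * s = 1 ∧ t * t = 1 ∧ s * t ≠ t * s := by
  refine ⟨φ (DihedralGroup.sr 0), φ (DihedralGroup.sr 1), ?_, ?_, ?_⟩
  · rw [← map_mul, DihedralGroup.sr_mul_self, map_one]
  · rw [← map_mul, DihedralGroup.sr_mul_self, map_one]
  · rw [← map_mul, ← map_mul]
    intro h
    have h1 := hφ h
    rw [DihedralGroup.sr_mul_sr, DihedralGroup.sr_mul_sr] at h1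
    have h2 : (1 : ZMod n) - 0 = 0 - 1 := by
      injection h1
    have h3 : ((2 : ℕ) : ZMod n) = 0 := by
      have : (2 : ZMod n) = (1 - 0) - (0 - 1) := by ring
      rw [Nat.cast_ofNat, this, h2]; ring
    rw [ZMod.natCast_eq_zero_iff] at h3
    have := Nat.le_of_dvd (by norm_num) h3
    omega

/-- a cyclic group does not contain `D_n`, `n ≥ 2` -/
theorem not_isCyclic_of_dihedral (hn : 2 ≤ n) : ¬ IsCyclic X := by
  intro hcyc
  haveI : NeZero n := ⟨by omega⟩
  haveI : Fact (1 < n) := ⟨by omega⟩
  -- three solutions of `x ^ 2 = 1` in the image, a cyclic group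
  haveI : IsCyclic (DihedralGroup n) := isCyclic_of_injective φ hφ
  have hcard := IsCyclic.card_pow_eq_one_le (α := DihedralGroup n) (n := 2) (by norm_num)
  have hsub : ({1, DihedralGroup.sr 0, DihedralGroup.sr 1} : Finset (DihedralGroup n)) ⊆
      Finset.univ.filter (fun a : DihedralGroup n => a ^ 2 = 1) := by
    intro a ha
    simp only [Finset.mem_insert, Finset.mem_singleton] at ha
    rw [Finset.mem_filter]
    refine ⟨Finset.mem_univ _, ?_⟩
    rcases ha with rfl | rfl | rfl
    · exact one_pow 2
    · rw [pow_two, DihedralGroup.sr_mul_self]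
    · rw [pow_two, DihedralGroup.sr_mul_self]
  have h3 : ({1, DihedralGroup.sr 0, DihedralGroup.sr 1} : Finset (DihedralGroup n)).card = 3 := by
    rw [Finset.card_insert_of_notMem, Finset.card_insert_of_notMem, Finset.card_singleton]
    · rw [Finset.mem_singleton]
      intro h
      injection h with h
      exact zero_ne_one h
    · rw [Finset.mem_insert, Finset.mem_singleton]
      rintro (h | h)
      · exact absurd h (by rw [DihedralGroup.one_def]; exact fun h => by cases h)
      · exact absurd h (by rw [DihedralGroup.one_def]; exact fun h => by cases h)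
  have := Finset.card_le_card hsub
  omega

end dihedral

section small

set_option maxRecDepth 100000 in
theorem pow_A4 : ∀ g : alternatingGroup (Fin 4), g ^ 2 = 1 ∨ g ^ 3 = 1 := by decide

set_option maxRecDepth 100000 in
theorem pow_S4 : ∀ g : Equiv.Perm (Fin 4), g ^ 2 = 1 ∨ g ^ 3 = 1 ∨ g ^ 4 = 1 := by decide

set_option maxRecDepth 100000 in
theorem comm_A4 : ∀ g h : alternatingGroup (Fin 4), g ^ 2 = 1 → h ^ 2 = 1 → g * h = h * g := by
  decide

set_option maxRecDepth 1000000 in
theorem pow_A5 : ∀ g : alternatingGroup (Fin 5), g ^ 2 = 1 ∨ g ^ 3 = 1 ∨ g ^ 5 = 1 := by decide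

theorem dihedral_A4 {n : ℕ} (φ : DihedralGroup n →* alternatingGroup (Fin 4))
    (hφ : Function.Injective φ) : n = 1 ∨ n = 2 := by
  obtain ⟨x, hx⟩ := exists_orderOf_of_dihedral φ hφ
  have h1 : n ∣ 2 ∨ n ∣ 3 := by
    rcases pow_A4 x with h | h
    · left; rw [← hx]; exact orderOf_dvd_of_pow_eq_one h
    · right; rw [← hx]; exact orderOf_dvd_of_pow_eq_one h
  have h2 : n ≤ 3 := by
    rcases h1 with h | h
    · have := Nat.le_of_dvd (by norm_num) h; omega
    · exact Nat.le_of_dvd (by norm_num) h
  have h0 : n ≠ 0 := by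
    rintro rfl
    rcases h1 with h | h <;> simp at h
  by_contra hcon
  have h3 : n = 3 := by omega
  obtain ⟨s, t, hs, ht, hst⟩ := exists_involutions_of_dihedral φ hφ (by omega)
  exact hst (comm_A4 s t (by rw [pow_two]; exact hs) (by rw [pow_two]; exact ht))

theorem dihedral_S4 {n : ℕ} (φ : DihedralGroup n →* Equiv.Perm (Fin 4))
    (hφ : Function.Injective φ) : 1 ≤ n ∧ n ≤ 4 := by
  obtain ⟨x, hx⟩ := exists_orderOf_of_dihedral φ hφ
  have h1 : n ∣ 2 ∨ n ∣ 3 ∨ n ∣ 4 := by
    rcases pow_S4 x with h | h | h
    · left; rw [← hx]; exact orderOf_dvd_of_pow_eq_one h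
    · right; left; rw [← hx]; exact orderOf_dvd_of_pow_eq_one h
    · right; right; rw [← hx]; exact orderOf_dvd_of_pow_eq_one h
  have h0 : n ≠ 0 := by
    rintro rfl
    rcases h1 with h | h | h <;> simp at h
  refine ⟨by omega, ?_⟩
  rcases h1 with h | h | h
  · have := Nat.le_of_dvd (by norm_num) h; omega
  · have := Nat.le_of_dvd (by norm_num) h; omega
  · exact Nat.le_of_dvd (by norm_num) h

theorem dihedral_A5 {n : ℕ} (φ : DihedralGroup n →* alternatingGroup (Fin 5))
    (hφ : Function.Injective φ) : n = 1 ∨ n = 2 ∨ n = 3 ∨ n = 5 := by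
  obtain ⟨x, hx⟩ := exists_orderOf_of_dihedral φ hφ
  have h1 : n ∣ 2 ∨ n ∣ 3 ∨ n ∣ 5 := by
    rcases pow_A5 x with h | h | h
    · left; rw [← hx]; exact orderOf_dvd_of_pow_eq_one h
    · right; left; rw [← hx]; exact orderOf_dvd_of_pow_eq_one h
    · right; right; rw [← hx]; exact orderOf_dvd_of_pow_eq_one h
  rcases h1 with h | h | h
  · rcases (Nat.dvd_prime Nat.prime_two).mp h with h | h <;> omega
  · rcases (Nat.dvd_prime Nat.prime_three).mp h with h | h <;> omega
  · rcases (Nat.dvd_prime Nat.prime_five).mp h with h | h <;> omega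

end small

section sharp

variable {G X : Type*} [Group G] [MulAction G X] [Finite X]

/-- in a group acting so that only the identity fixes three points, element orders are bounded by
the number of points -/
theorem orderOf_le_card_of_sharp
    (hsharp : ∀ (h : G) (x y z : X), x ≠ y → x ≠ z → y ≠ z → h • x = x → h • y = y → h • z = z →
      h = 1) (h3 : 3 ≤ Nat.card X) (g : G) : orderOf g ≤ Nat.card X := by
  rcases Nat.eq_zero_or_pos (orderOf g) with h0 | hpos
  · rw [h0]; exact Nat.zero_le _
  by_cases hA : ∃ z : X, ∀ j : ℕ, 0 < j → j < orderOf g → g ^ j • z ≠ z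
  · obtain ⟨z, hz⟩ := hA
    have hinj : Function.Injective (fun j : Fin (orderOf g) => g ^ (j : ℕ) • z) := by
      intro a b hab
      simp only at hab
      by_contra hne
      rcases Nat.lt_or_gt_of_ne (fun h => hne (Fin.ext h)) with hlt | hlt
      · apply hz (b - a) (by omega) (by omega)
        have : g ^ (b : ℕ) = g ^ (a : ℕ) * g ^ ((b : ℕ) - a) := by
          rw [← pow_add]; congr 1; omega
        rw [this, mul_smul] at hab
        exact (smul_left_cancel _ hab).symm
      · apply hz (a - b) (by omega) (by omega)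
        have : g ^ (a : ℕ) = g ^ (b : ℕ) * g ^ ((a : ℕ) - b) := by
          rw [← pow_add]; congr 1; omega
        rw [this, mul_smul] at hab
        exact smul_left_cancel _ hab
    have := Nat.card_le_card_of_injective _ hinj
    rwa [Nat.card_eq_fintype_card, Fintype.card_fin] at this
  · push Not at hA
    -- `g ^ 2` fixes every point
    have hfix : ∀ z : X, (g * g) • z = z := by
      intro z
      obtain ⟨j, hj0, hjN, hjz⟩ := hA z
      set h := g ^ j with hh
      have hne : h ≠ 1 := pow_ne_one_of_lt_orderOf hj0.ne' hjN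
      have hcomm : ∀ w : X, h • w = w → h • (g • w) = g • w := by
        intro w hw
        rw [← mul_smul, hh, ← pow_succ, pow_succ', mul_smul, ← hh, hw]
      have h1 := hcomm z hjz
      have h2 := hcomm _ h1
      by_contra hcon
      have d1 : z ≠ g • z := by
        intro e
        apply hcon
        rw [mul_smul, ← e, ← e]
      have d2 : z ≠ g • g • z := by
        intro e
        apply hcon
        rw [mul_smul, ← e]
      have d3 : g • z ≠ g • g • z := by
        intro e
        exact d1 (smul_left_cancel g e)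
      exact hne (hsharp h z (g • z) (g • g • z) d1 d2 d3 hjz h1 h2)
    haveI : Fintype X := Fintype.ofFinite X
    obtain ⟨x, y, z, hxy, hxz, hyz⟩ := Fintype.two_lt_card_iff.mp
      (by rw [← Nat.card_eq_fintype_card]; omega : 2 < Fintype.card X)
    have h1 : g * g = 1 := hsharp _ x y z hxy hxz hyz (hfix x) (hfix y) (hfix z)
    have h2 : orderOf g ∣ 2 := orderOf_dvd_of_pow_eq_one (by rw [pow_two]; exact h1)
    have := Nat.le_of_dvd (by norm_num) h2
    omega

end sharp

end DSub

end Cfsg.Agent.Lib.Helper2
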