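import Mathlib
import Cfsg.Agent.Lib.Helper2.DSubD2
import Cfsg.Agent.Lib.Helper2.DSubD3

set_option autoImplicit false
set_option linter.unusedSectionVars false
set_option linter.style.haveILetI false

/-!
# Dickson's subgroup theorem: tools for the maximality of the dihedral subgroups
-/

namespace Cfsg.Agent.Lib.Helper2

namespace DSub

open Matrix OnePoint MulAction
open scoped MatrixGroups

section order

variable {K : Type*} [Field K] [Fintype K]

/-- element orders in `PGL₂(K)` are at most `|K| + 1` -/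
theorem orderOf_le_pgl (γ : PGL(Fin 2, K)) : orderOf γ ≤ Fintype.card K + 1 := by
  classical
  letI := pglAct (L := K)
  haveI : Finite (OnePoint K) := inferInstanceAs (Finite (Option K))
  have hcard : Nat.card (OnePoint K) = Fintype.card K + 1 := by
    show Nat.card (Option K) = _
    rw [Finite.card_option, Nat.card_eq_fintype_card]
  have hq : 2 ≤ Fintype.card K := Fintype.one_lt_card
  rw [← hcard]
  exact orderOf_le_card_of_sharp (fun h x y z => sharp h x y z) (by omega) γ

/-- element orders in `PSL₂(K)` are at most `|K| + 1` -/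
theorem orderOf_le_psl (γ : ProjectiveSpecialLinearGroup (Fin 2) K) :
    orderOf γ ≤ Fintype.card K + 1 := by
  rw [← orderOf_injective _ (ProjectiveSpecialLinearGroup.toPGL_injective (n := Fin 2) (R := K)) γ]
  exact orderOf_le_pgl _

end order

section sylow

variable {G : Type*} [Group G] (p : ℕ) [hp : Fact p.Prime]

/-- a `p`-element normalizing a Sylow `p`-subgroup lies in it -/
theorem mem_sylow_of_mem_normalizer (P : Sylow p G) (x : G)
    (hx : x ∈ Subgroup.normalizer ((P : Subgroup G) : Set G)) (k : ℕ) (hk : x ^ (p ^ k) = 1) :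
    x ∈ P := by
  have h1 : IsPGroup p (Subgroup.zpowers x) := by
    rintro ⟨y, hy⟩
    obtain ⟨j, rfl⟩ := Subgroup.mem_zpowers_iff.mp hy
    refine ⟨k, ?_⟩
    apply Subtype.ext
    show (x ^ j) ^ (p ^ k) = 1
    rw [← zpow_natCast, ← _root_.zpow_mul, mul_comm, _root_.zpow_mul, zpow_natCast, hk, _root_.one_zpow]
  have h2 : Subgroup.zpowers x ≤ Subgroup.normalizer ((P : Subgroup G) : Set G) :=
    Subgroup.zpowers_le.mpr hx
  have h3 := IsPGroup.to_sup_of_normal_right' h1 P.2 h2
  have h4 : Subgroup.zpowers x ⊔ (P : Subgroup G) = P := P.3 h3 le_sup_right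
  have h5 : x ∈ Subgroup.zpowers x ⊔ (P : Subgroup G) :=
    Subgroup.mem_sup_left (Subgroup.mem_zpowers x)
  rw [h4] at h5
  exact h5

end sylow

section borel

variable {F : Type*} [Field F] [Fintype F]

/-- in even characteristic the normalizer of a Sylow `2`-subgroup contains no `D_n`, `n ≥ 3` -/
theorem not_dihedral_le_normalizer [CharP F 2]
    (P : Sylow 2 (ProjectiveSpecialLinearGroup (Fin 2) F)) {n : ℕ} (hn : 3 ≤ n)
    (φ : DihedralGroup n →* ProjectiveSpecialLinearGroup (Fin 2) F) (hφ : Function.Injective φ)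
    (hle : φ.range ≤ Subgroup.normalizer
      ((P : Subgroup (ProjectiveSpecialLinearGroup (Fin 2) F)) :
        Set (ProjectiveSpecialLinearGroup (Fin 2) F))) : False := by
  haveI : Fact (Nat.Prime 2) := ⟨Nat.prime_two⟩
  obtain ⟨hcomm, -, -, -⟩ := sylow_psl_facts 2 P
  have key : ∀ a : DihedralGroup n, a * a = 1 → φ a ∈ P := by
    intro a ha
    apply mem_sylow_of_mem_normalizer 2 P (φ a) (hle ⟨a, rfl⟩) 1
    rw [pow_one, pow_two, ← map_mul, ha, map_one]
  have h1 := key (DihedralGroup.sr 0) (DihedralGroup.sr_mul_self 0)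
  have h2 := key (DihedralGroup.sr 1) (DihedralGroup.sr_mul_self 1)
  have h3 := hcomm _ h1 _ h2
  rw [← map_mul, ← map_mul] at h3
  have h4 := hφ h3
  rw [DihedralGroup.sr_mul_sr, DihedralGroup.sr_mul_sr] at h4
  have h5 : (1 : ZMod n) - 0 = 0 - 1 := by
    injection h4
  have h6 : ((2 : ℕ) : ZMod n) = 0 := by
    have : (2 : ZMod n) = (1 - 0) - (0 - 1) := by ring
    rw [Nat.cast_ofNat, this, h5]; ring
  rw [ZMod.natCast_eq_zero_iff] at h6
  have := Nat.le_of_dvd (by norm_num) h6
  omega

end borel

section frame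

variable {G : Type*} [Group G] [Finite G]

/-- numerical facts about an intermediate subgroup -/
theorem card_between (N M : Subgroup G) (hNM : N < M) (hM : M ≠ ⊤) :
    Nat.card N ∣ Nat.card M ∧ Nat.card N < Nat.card M ∧ Nat.card M ∣ Nat.card G ∧
      Nat.card M < Nat.card G := by
  refine ⟨Subgroup.card_dvd_of_le hNM.le, ?_, Subgroup.card_subgroup_dvd_card M, ?_⟩
  · rcases (Subgroup.card_le_of_le hNM.le).lt_or_eq with h | h
    · exact h
    · exact absurd (Subgroup.eq_of_le_of_card_ge hNM.le h.ge) hNM.ne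
  · rcases (Subgroup.card_le_card_group M).lt_or_eq with h | h
    · exact h
    · exact absurd ((Subgroup.card_eq_iff_eq_top M).mp h) hM

/-- the embedding of a dihedral subgroup into an overgroup identified with `X` -/
theorem exists_embedding {X : Type*} [Group X] {n : ℕ} (N M : Subgroup G) (hNM : N ≤ M)
    (eN : N ≃* DihedralGroup n) (eM : M ≃* X) :
    ∃ φ : DihedralGroup n →* X, Function.Injective φ :=
  ⟨(eM.toMonoidHom.comp (Subgroup.inclusion hNM)).comp eN.symm.toMonoidHom,
    (eM.injective.comp (Subgroup.inclusion_injective hNM)).comp eN.symm.injective⟩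

end frame

end DSub

end Cfsg.Agent.Lib.Helper2
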