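import Mathlib
import Cfsg.Agent.Lib.Helper2.DSubD4

set_option autoImplicit false
set_option linter.unusedSectionVars false
set_option linter.style.haveILetI false

/-!
# Dickson's subgroup theorem: the dihedral subgroup of order `2 (q + 1) / d` is maximal
-/

namespace Cfsg.Agent.Lib.Helper2

namespace DSub

open Matrix
open scoped MatrixGroups

theorem gcd_two_sub_one (q : ℕ) (hq : 1 ≤ q) :
    (q % 2 = 0 ∧ Nat.gcd 2 (q - 1) = 1) ∨ (q % 2 = 1 ∧ Nat.gcd 2 (q - 1) = 2) := by
  rcases Nat.mod_two_eq_zero_or_one q with h | h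
  · left
    refine ⟨h, ?_⟩
    have : (q - 1) % 2 = 1 := by omega
    rw [Nat.gcd_rec, this]
    rfl
  · right
    refine ⟨h, ?_⟩
    have : (q - 1) % 2 = 0 := by omega
    rw [Nat.gcd_rec, this]
    rfl

theorem arith_small_add (q d n G m : ℕ) (hq3 : 3 ≤ q)
    (hpar : (q % 2 = 0 ∧ d = 1) ∨ (q % 2 = 1 ∧ d = 2)) (hnd : n * d = q + 1) (hn2 : 2 ≤ n)
    (hG : d * G = q * (q - 1) * (q + 1)) (hmG : m ∣ G) (hlt : m < G)
    (hcase : (m = 12 ∧ n ≤ 2) ∨ (m = 24 ∧ n ≤ 4) ∨
      (m = 60 ∧ (n = 1 ∨ n = 2 ∨ n = 3 ∨ n = 5)))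
    (h7 : q ≠ 7) (h9 : q ≠ 9) : False := by
  have hq9 : q ≤ 9 := by
    rcases hpar with ⟨_, rfl⟩ | ⟨_, rfl⟩ <;> rcases hcase with ⟨_, h⟩ | ⟨_, h⟩ | ⟨_, h⟩ <;> omega
  rcases hpar with ⟨h1, rfl⟩ | ⟨h1, rfl⟩
  · interval_cases q <;> simp at h1 <;>
      rcases hcase with ⟨rfl, h⟩ | ⟨rfl, h⟩ | ⟨rfl, h⟩ <;> omega
  · interval_cases q <;> simp at h1 <;>
      rcases hcase with ⟨rfl, h⟩ | ⟨rfl, h⟩ | ⟨rfl, h⟩ <;> omega

variable {F : Type*} [Field F] [Fintype F]

/-- numerical setup -/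
theorem setup_psl (hq3 : 3 ≤ Fintype.card F) :
    ((Fintype.card F % 2 = 0 ∧ Nat.gcd 2 (Fintype.card F - 1) = 1) ∨
      (Fintype.card F % 2 = 1 ∧ Nat.gcd 2 (Fintype.card F - 1) = 2)) ∧
    (Fintype.card F + 1) / Nat.gcd 2 (Fintype.card F - 1) * Nat.gcd 2 (Fintype.card F - 1) =
      Fintype.card F + 1 ∧
    (Fintype.card F - 1) / Nat.gcd 2 (Fintype.card F - 1) * Nat.gcd 2 (Fintype.card F - 1) =
      Fintype.card F - 1 := by
  have h := gcd_two_sub_one (Fintype.card F) (by omega)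
  refine ⟨h, ?_, ?_⟩
  · rcases h with ⟨h1, h2⟩ | ⟨h1, h2⟩ <;> rw [h2] <;> omega
  · rcases h with ⟨h1, h2⟩ | ⟨h1, h2⟩ <;> rw [h2] <;> omega

/-- the dihedral subgroups of order `2 (q + 1) / d` are maximal for `q ∉ {2, 7, 9}` -/
theorem dihedral_add_isCoatom (p : ℕ) [hp : Fact p.Prime] [CharP F p]
    (hq : Fintype.card F ∉ ({2, 7, 9} : Finset ℕ))
    (N : Subgroup (ProjectiveSpecialLinearGroup (Fin 2) F))
    (eN : N ≃* DihedralGroup ((Fintype.card F + 1) / Nat.gcd 2 (Fintype.card F - 1))) :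
    IsCoatom N := by
  haveI := finite_psl (F := F)
  have hq2 : 2 ≤ Fintype.card F := Fintype.one_lt_card
  simp only [Finset.mem_insert, Finset.mem_singleton, not_or] at hq
  obtain ⟨hq2', hq7, hq9⟩ := hq
  have hq3 : 3 ≤ Fintype.card F := by omega
  obtain ⟨hpar, hnd, -⟩ := setup_psl hq3
  have hG := card_psl_two (F := F)
  have hNcard : Nat.card N =
      2 * ((Fintype.card F + 1) / Nat.gcd 2 (Fintype.card F - 1)) := by
    rw [Nat.card_congr eN.toEquiv, DihedralGroup.nat_card]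
  set q := Fintype.card F with hqdef
  set d := Nat.gcd 2 (q - 1) with hddef
  set n := (q + 1) / d with hndef
  set G := Nat.card (ProjectiveSpecialLinearGroup (Fin 2) F) with hGdef
  have hd12 : d = 1 ∨ d = 2 := by rcases hpar with ⟨-, h⟩ | ⟨-, h⟩ <;> [left; right] <;> exact h
  have hn2 : 2 ≤ n := by
    rcases hd12 with h | h <;> rw [h] at hnd <;> omega
  have hqq : 6 ≤ q * (q - 1) := by
    have : 3 * 2 ≤ q * (q - 1) := Nat.mul_le_mul hq3 (by omega)
    omega
  constructor
  · -- `N ≠ ⊤`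
    intro htop
    have h1 : Nat.card N = G := by rw [htop, Subgroup.card_top]
    rw [hNcard] at h1
    have h2 : 2 * (q + 1) = q * (q - 1) * (q + 1) := by
      rw [← hG, ← h1, ← hnd]; ring
    have h3 : q * (q - 1) = 2 := by
      have : (q * (q - 1)) * (q + 1) = 2 * (q + 1) := h2.symm
      exact Nat.eq_of_mul_eq_mul_right (by omega) this
    omega
  · intro M hNM
    by_contra hM
    obtain ⟨hc1, hc2, hc3, hc4⟩ := card_between N M hNM hM
    rw [hNcard] at hc1 hc2
    rcases dickson_psl_concrete p M with ⟨k, hk, hM'⟩ | ⟨P, hP⟩ | ⟨⟨e⟩⟩ | ⟨⟨e⟩⟩ | ⟨⟨e⟩⟩ |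
      ⟨K, hKf, hKfin, m, hm, hiso⟩
    · -- cyclic or dihedral
      rcases hM' with ⟨hcyc, -⟩ | ⟨⟨e⟩⟩
      · obtain ⟨φ, hφ⟩ := exists_embedding N M hNM.le eN (MulEquiv.refl _)
        exact not_isCyclic_of_dihedral φ hφ hn2 hcyc
      · rw [Nat.card_congr e.toEquiv, DihedralGroup.nat_card] at hc2
        have hkn : k ≤ n := by
          rcases hk with hk | hk
          · exact Nat.le_of_dvd (by omega) hk
          · have h1 : (q - 1) / d ≤ n := Nat.div_le_div_right (by omega)
            have h2 : 0 < (q - 1) / d := by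
              rcases hd12 with h | h <;> rw [h]
              · rw [Nat.div_one]; omega
              · rcases hpar with ⟨h1, h2⟩ | ⟨h1, h2⟩
                · omega
                · omega
            exact (Nat.le_of_dvd h2 hk).trans h1
        omega
    · -- in a Borel subgroup
      obtain ⟨-, -, h3, -⟩ := sylow_psl_facts p P
      have h4 : 2 * n ∣ Nat.card (Subgroup.normalizer
          ((P : Subgroup (ProjectiveSpecialLinearGroup (Fin 2) F)) :
            Set (ProjectiveSpecialLinearGroup (Fin 2) F))) :=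
        hc1.trans (Subgroup.card_dvd_of_le hP)
      have h5 : d * (2 * n) ∣ q * (q - 1) := by
        rw [← h3]; exact Nat.mul_dvd_mul_left d h4
      have h6 : q + 1 ∣ q * (q - 1) := by
        have : d * (2 * n) = 2 * (q + 1) := by rw [← hnd]; ring
        rw [this] at h5
        exact (Dvd.intro_left 2 rfl).trans h5
      have hcop : Nat.Coprime (q + 1) q := by
        rw [Nat.coprime_comm]; simp
      have h7 : q + 1 ∣ q - 1 := by
        rw [mul_comm] at h6
        exact hcop.dvd_of_dvd_mul_right h6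
      have := Nat.le_of_dvd (by omega) h7
      omega
    · obtain ⟨φ, hφ⟩ := exists_embedding N M hNM.le eN e
      have h1 := dihedral_A4 φ hφ
      rw [Nat.card_congr e.toEquiv, card_A4] at hc3 hc4
      exact arith_small_add q d n G 12 hq3 (by tauto) hnd hn2 hG hc3 hc4
        (Or.inl ⟨rfl, by omega⟩) hq7 hq9
    · obtain ⟨φ, hφ⟩ := exists_embedding N M hNM.le eN e
      have h1 := dihedral_S4 φ hφ
      rw [Nat.card_congr e.toEquiv, card_S4] at hc3 hc4
      exact arith_small_add q d n G 24 hq3 (by tauto) hnd hn2 hG hc3 hc4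
        (Or.inr (Or.inl ⟨rfl, h1.2⟩)) hq7 hq9
    · obtain ⟨φ, hφ⟩ := exists_embedding N M hNM.le eN e
      have h1 := dihedral_A5 φ hφ
      rw [Nat.card_congr e.toEquiv, card_A5] at hc3 hc4
      exact arith_small_add q d n G 60 hq3 (by tauto) hnd hn2 hG hc3 hc4
        (Or.inr (Or.inr ⟨rfl, h1⟩)) hq7 hq9
    · -- subfield subgroups
      have hq₀ : 2 ≤ Fintype.card K := Fintype.one_lt_card
      rw [← hqdef] at hm
      have hK := card_psl_two (F := K)
      have hK' := card_pgl_two (K := K)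
      set q₀ := Fintype.card K with hq₀def
      rcases Nat.lt_or_ge m 2 with hm2 | hm2
      · have hm01 : m = 0 ∨ m = 1 := by omega
        rcases hm01 with rfl | rfl
        · rw [pow_zero] at hm; omega
        · rw [pow_one] at hm
          rcases hiso with ⟨⟨e⟩⟩ | ⟨⟨e⟩⟩
          · rw [← Nat.card_congr e.toEquiv, hm, ← hG] at hK
            have := Nat.eq_of_mul_eq_mul_left (by omega) hK
            omega
          · rw [← Nat.card_congr e.toEquiv, hm, ← hG] at hK'
            rcases hd12 with h | h <;> rw [h] at hK' <;> omega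
      · have hMdvd : Nat.card M ∣ q₀ * (q₀ - 1) * (q₀ + 1) := by
          rcases hiso with ⟨⟨e⟩⟩ | ⟨⟨e⟩⟩
          · rw [← Nat.card_congr e.toEquiv] at hK
            exact Dvd.intro_left _ hK
          · rw [← Nat.card_congr e.toEquiv] at hK'
            rw [hK']
        have hn1 : n ∣ q₀ * ((q₀ - 1) * (q₀ + 1)) := by
          rw [← mul_assoc]
          exact ((Dvd.intro_left 2 rfl).trans hc1).trans hMdvd
        have hq₀q : q₀ ∣ q := by
          rw [← hm]; exact dvd_pow_self q₀ (by omega)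
        have hcop : Nat.Coprime n q₀ := by
          have h1 : Nat.Coprime (q + 1) q := by rw [Nat.coprime_comm]; simp
          have h2 : Nat.Coprime (q + 1) q₀ := Nat.Coprime.coprime_dvd_right hq₀q h1
          exact Nat.Coprime.coprime_dvd_left (Dvd.intro _ hnd) h2
        have hn3 : n ∣ (q₀ - 1) * (q₀ + 1) := hcop.dvd_of_dvd_mul_left hn1
        have ha : (q₀ - 1) * (q₀ + 1) + 1 = q₀ ^ 2 := by
          obtain ⟨t, ht⟩ : ∃ t, q₀ = t + 1 := ⟨q₀ - 1, by omega⟩
          rw [ht, Nat.add_sub_cancel]; ring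
        have hpos : 0 < (q₀ - 1) * (q₀ + 1) := Nat.mul_pos (by omega) (by omega)
        have hnle : n ≤ (q₀ - 1) * (q₀ + 1) := Nat.le_of_dvd hpos hn3
        have hq4 : 4 ≤ q₀ ^ 2 := by
          have : 2 ^ 2 ≤ q₀ ^ 2 := Nat.pow_le_pow_left hq₀ 2
          omega
        rcases Nat.lt_or_ge m 3 with hm3 | hm3
        · have hm2' : m = 2 := by omega
          rw [hm2'] at hm
          have h1 : n ∣ q + 1 := Dvd.intro _ hnd
          have h2 : n ∣ (q + 1) - (q₀ - 1) * (q₀ + 1) := Nat.dvd_sub h1 hn3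
          have e : (q + 1) - (q₀ - 1) * (q₀ + 1) = 2 := by omega
          rw [e] at h2
          have h3 : n ≤ 2 := Nat.le_of_dvd (by norm_num) h2
          rcases hd12 with h | h <;> rw [h] at hnd <;> omega
        · have h1 : q₀ ^ 3 ≤ q := by
            rw [← hm]; exact Nat.pow_le_pow_right (by omega) hm3
          have h2 : 2 * q₀ ^ 2 ≤ q₀ ^ 3 := by
            rw [pow_succ q₀ 2, mul_comm]
            exact Nat.mul_le_mul_left _ hq₀
          have h3 : n * d ≤ 2 * ((q₀ - 1) * (q₀ + 1)) := by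
            rcases hd12 with h | h <;> rw [h] <;> omega
          omega

end DSub

end Cfsg.Agent.Lib.Helper2
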