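import Mathlib
import Cfsg.Agent.Lib.Helper2.DSubD5

set_option autoImplicit false
set_option linter.unusedSectionVars false
set_option linter.style.haveILetI false

/-!
# Dickson's subgroup theorem: the dihedral subgroup of order `2 (q - 1) / d` is maximal
-/

namespace Cfsg.Agent.Lib.Helper2

namespace DSub

open Matrix
open scoped MatrixGroups

theorem arith_small_sub (q d n G m : ℕ) (hq4 : 4 ≤ q)
    (hpar : (q % 2 = 0 ∧ d = 1) ∨ (q % 2 = 1 ∧ d = 2)) (hnd : n * d = q - 1)
    (hG : d * G = q * (q - 1) * (q + 1)) (hmG : m ∣ G) (hlt : m < G)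
    (hcase : (m = 12 ∧ n ≤ 2) ∨ (m = 24 ∧ n ≤ 4) ∨
      (m = 60 ∧ (n = 1 ∨ n = 2 ∨ n = 3 ∨ n = 5)))
    (h5 : q ≠ 5) (h7 : q ≠ 7) (h9 : q ≠ 9) (h11 : q ≠ 11) : False := by
  have hq9 : q ≤ 11 := by
    rcases hpar with ⟨_, rfl⟩ | ⟨_, rfl⟩ <;> rcases hcase with ⟨_, h⟩ | ⟨_, h⟩ | ⟨_, h⟩ <;> omega
  rcases hpar with ⟨h1, rfl⟩ | ⟨h1, rfl⟩
  · interval_cases q <;> simp at h1 <;>
      rcases hcase with ⟨rfl, h⟩ | ⟨rfl, h⟩ | ⟨rfl, h⟩ <;> omega
  · interval_cases q <;> simp at h1 <;>
      rcases hcase with ⟨rfl, h⟩ | ⟨rfl, h⟩ | ⟨rfl, h⟩ <;> omega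

variable {F : Type*} [Field F] [Fintype F]

/-- the dihedral subgroups of order `2 (q - 1) / d` are maximal for
`q ∉ {2, 3, 5, 7, 9, 11}` -/
theorem dihedral_sub_isCoatom (p : ℕ) [hp : Fact p.Prime] [CharP F p]
    (hq : Fintype.card F ∉ ({2, 3, 5, 7, 9, 11} : Finset ℕ))
    (N : Subgroup (ProjectiveSpecialLinearGroup (Fin 2) F))
    (eN : N ≃* DihedralGroup ((Fintype.card F - 1) / Nat.gcd 2 (Fintype.card F - 1))) :
    IsCoatom N := by
  haveI := finite_psl (F := F)
  have hq2 : 2 ≤ Fintype.card F := Fintype.one_lt_card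
  simp only [Finset.mem_insert, Finset.mem_singleton, not_or] at hq
  obtain ⟨hq2', hq3', hq5, hq7, hq9, hq11⟩ := hq
  have hq4 : 4 ≤ Fintype.card F := by omega
  obtain ⟨hpar, hnd1, hnd⟩ := setup_psl (F := F) (by omega)
  have hG := card_psl_two (F := F)
  have hNcard : Nat.card N =
      2 * ((Fintype.card F - 1) / Nat.gcd 2 (Fintype.card F - 1)) := by
    rw [Nat.card_congr eN.toEquiv, DihedralGroup.nat_card]
  obtain ⟨n0, -, hn0⟩ := FiniteField.card F p
  set q := Fintype.card F with hqdef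
  set d := Nat.gcd 2 (q - 1) with hddef
  set n := (q - 1) / d with hndef
  set G := Nat.card (ProjectiveSpecialLinearGroup (Fin 2) F) with hGdef
  have hd12 : d = 1 ∨ d = 2 := by rcases hpar with ⟨-, h⟩ | ⟨-, h⟩ <;> [left; right] <;> exact h
  have hn3 : 3 ≤ n := by
    rcases hpar with ⟨h1, h⟩ | ⟨h1, h⟩ <;> rw [h] at hnd <;> omega
  have hqq : 12 ≤ q * (q + 1) := by
    have : 3 * 4 ≤ q * (q + 1) := Nat.mul_le_mul (by omega) (by omega)
    omega
  constructor
  · -- `N ≠ ⊤`
    intro htop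
    have h1 : Nat.card N = G := by rw [htop, Subgroup.card_top]
    rw [hNcard] at h1
    have h2 : 2 * (q - 1) = q * (q - 1) * (q + 1) := by
      rw [← hG, ← h1, ← hnd]; ring
    have h3 : q * (q + 1) = 2 := by
      have : (q * (q + 1)) * (q - 1) = 2 * (q - 1) := by rw [h2]; ring
      exact Nat.eq_of_mul_eq_mul_right (by omega) this
    omega
  · intro M hNM
    by_contra hM
    obtain ⟨hc1, hc2, hc3, hc4⟩ := card_between N M hNM hM
    rw [hNcard] at hc1 hc2
    rcases dickson_psl_concrete p M with ⟨k, hk, hM'⟩ | ⟨P, hP⟩ | ⟨⟨e⟩⟩ | ⟨⟨e⟩⟩ | ⟨⟨e⟩⟩ |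
      ⟨K, hKf, hKfin, m, hm, hiso⟩
    · -- cyclic or dihedral
      rw [← hqdef, ← hddef, ← hndef] at hk
      rcases hM' with ⟨hcyc, -⟩ | ⟨⟨e⟩⟩
      · obtain ⟨φ, hφ⟩ := exists_embedding N M hNM.le eN (MulEquiv.refl _)
        exact not_isCyclic_of_dihedral φ hφ (by omega) hcyc
      · rw [Nat.card_congr e.toEquiv, DihedralGroup.nat_card] at hc1 hc2
        have hnk : n ∣ k := Nat.dvd_of_mul_dvd_mul_left (by norm_num) hc1
        rcases hk with hk | hk
        · -- `k ∣ (q + 1) / d`
          have h1 : n ∣ (q + 1) / d := hnk.trans hk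
          have h2 : n * d ∣ q + 1 := by
            rw [← hnd1]; exact Nat.mul_dvd_mul_right h1 d
          rw [hnd] at h2
          have h3 : q - 1 ∣ (q + 1) - (q - 1) := Nat.dvd_sub h2 dvd_rfl
          have e : (q + 1) - (q - 1) = 2 := by omega
          rw [e] at h3
          have := Nat.le_of_dvd (by norm_num) h3
          omega
        · have := Nat.le_of_dvd (by omega) hk
          omega
    · -- in a Borel subgroup
      obtain ⟨-, -, h3, -⟩ := sylow_psl_facts p P
      rw [← hqdef, ← hddef] at h3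
      have h4 : 2 * n ∣ Nat.card (Subgroup.normalizer
          ((P : Subgroup (ProjectiveSpecialLinearGroup (Fin 2) F)) :
            Set (ProjectiveSpecialLinearGroup (Fin 2) F))) :=
        hc1.trans (Subgroup.card_dvd_of_le hP)
      have h5 : d * (2 * n) ∣ q * (q - 1) := by
        rw [← h3]; exact Nat.mul_dvd_mul_left d h4
      have h6 : 2 ∣ q := by
        have : d * (2 * n) = 2 * (q - 1) := by rw [← hnd]; ring
        rw [this] at h5
        have hpos : 0 < q - 1 := by omega
        exact Nat.dvd_of_mul_dvd_mul_right hpos h5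
      -- the characteristic is two
      have hp2 : p = 2 := by
        have h7 : 2 ∣ p ^ (n0 : ℕ) := by rw [← hn0]; exact h6
        have h8 := Nat.Prime.dvd_of_dvd_pow Nat.prime_two h7
        exact ((Nat.prime_dvd_prime_iff_eq Nat.prime_two hp.out).mp h8).symm
      subst hp2
      refine not_dihedral_le_normalizer P hn3 (N.subtype.comp eN.symm.toMonoidHom)
        (N.subtype_injective.comp eN.symm.injective) ?_
      rintro _ ⟨a, rfl⟩
      exact hP (hNM.le (eN.symm a).2)
    · obtain ⟨φ, hφ⟩ := exists_embedding N M hNM.le eN e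
      have h1 := dihedral_A4 φ hφ
      rw [Nat.card_congr e.toEquiv, card_A4] at hc3 hc4
      exact arith_small_sub q d n G 12 hq4 (by tauto) hnd hG hc3 hc4
        (Or.inl ⟨rfl, by omega⟩) hq5 hq7 hq9 hq11
    · obtain ⟨φ, hφ⟩ := exists_embedding N M hNM.le eN e
      have h1 := dihedral_S4 φ hφ
      rw [Nat.card_congr e.toEquiv, card_S4] at hc3 hc4
      exact arith_small_sub q d n G 24 hq4 (by tauto) hnd hG hc3 hc4
        (Or.inr (Or.inl ⟨rfl, h1.2⟩)) hq5 hq7 hq9 hq11
    · obtain ⟨φ, hφ⟩ := exists_embedding N M hNM.le eN e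
      have h1 := dihedral_A5 φ hφ
      rw [Nat.card_congr e.toEquiv, card_A5] at hc3 hc4
      exact arith_small_sub q d n G 60 hq4 (by tauto) hnd hG hc3 hc4
        (Or.inr (Or.inr ⟨rfl, h1⟩)) hq5 hq7 hq9 hq11
    · -- subfield subgroups
      have hq₀ : 2 ≤ Fintype.card K := Fintype.one_lt_card
      rw [← hqdef] at hm
      have hK := card_psl_two (F := K)
      have hK' := card_pgl_two (K := K)
      have hnle : n ≤ Fintype.card K + 1 := by
        rcases hiso with ⟨⟨e⟩⟩ | ⟨⟨e⟩⟩
        · obtain ⟨φ, hφ⟩ := exists_embedding N M hNM.le eN e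
          obtain ⟨x, hx⟩ := exists_orderOf_of_dihedral φ hφ
          rw [← hx]; exact orderOf_le_psl x
        · obtain ⟨φ, hφ⟩ := exists_embedding N M hNM.le eN e
          obtain ⟨x, hx⟩ := exists_orderOf_of_dihedral φ hφ
          rw [← hx]; exact orderOf_le_pgl x
      set q₀ := Fintype.card K with hq₀def
      rcases Nat.lt_or_ge m 2 with hm2 | hm2
      · have hm01 : m = 0 ∨ m = 1 := by omega
        rcases hm01 with rfl | rfl
        · rw [pow_zero] at hm; omega
        · rw [pow_one] at hm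
          rcases hiso with ⟨⟨e⟩⟩ | ⟨⟨e⟩⟩
          · rw [← Nat.card_congr e.toEquiv, hm, ← hG] at hK
            have := Nat.eq_of_mul_eq_mul_left (by omega) hK
            omega
          · rw [← Nat.card_congr e.toEquiv, hm, ← hG] at hK'
            rcases hd12 with h | h <;> rw [h] at hK' <;> omega
      · have hMdvd : Nat.card M ∣ q₀ * (q₀ - 1) * (q₀ + 1) := by
          rcases hiso with ⟨⟨e⟩⟩ | ⟨⟨e⟩⟩
          · rw [← Nat.card_congr e.toEquiv] at hK
            exact Dvd.intro_left _ hK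
          · rw [← Nat.card_congr e.toEquiv] at hK'
            rw [hK']
        have hsq : q₀ ^ 2 ≤ q := by
          rw [← hm]; exact Nat.pow_le_pow_right (by omega) hm2
        have hq₀3 : q₀ ≤ 3 := by
          by_contra hcon
          push Not at hcon
          have h1 : 4 * q₀ ≤ q₀ ^ 2 := by
            rw [pow_two]; exact Nat.mul_le_mul_right q₀ hcon
          have h2 : n * d ≤ (q₀ + 1) * 2 := Nat.mul_le_mul hnle (by omega)
          omega
        have hq₀23 : q₀ = 2 ∨ q₀ = 3 := by omega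
        rcases hq₀23 with h | h
        · rw [h] at hm hMdvd hnle hsq
          have hqe : q % 2 = 0 := by
            have : 2 ∣ q := by rw [← hm]; exact dvd_pow_self 2 (by omega)
            omega
          have hd1 : d = 1 := by rcases hpar with ⟨_, h⟩ | ⟨h', _⟩ <;> omega
          rw [hd1] at hnd
          have hM6 : Nat.card M ≤ 6 := Nat.le_of_dvd (by norm_num) hMdvd
          omega
        · rw [h] at hm hMdvd hnle hsq
          have hqo : q % 2 = 1 := by
            rw [← hm]
            exact Nat.odd_iff.mp (Odd.pow (by decide : Odd 3))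
          have hd2 : d = 2 := by rcases hpar with ⟨h', _⟩ | ⟨_, h⟩ <;> omega
          rw [hd2] at hnd
          omega

end DSub

end Cfsg.Agent.Lib.Helper2
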