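import Mathlib
import Cfsg.Agent.Lib.Helper5.SL2Class
import Cfsg.Agent.Lib.Helper1.SL2Quat

set_option autoImplicit false

namespace Cfsg.Agent.Lib.Helper2

namespace SL2Four

open Matrix

variable {F : Type*} [Field F]

/-- elements of square `-1` are those of trace zero -/
theorem sq_eq_neg_one_iff (g : SpecialLinearGroup (Fin 2) F) :
    g * g = -1 ↔ (g : Matrix (Fin 2) (Fin 2) F).trace = 0 := by
  have hdet := g.2
  rw [Matrix.det_fin_two] at hdet
  rw [Matrix.trace_fin_two]
  constructor
  · intro h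
    have h1 : (g : Matrix (Fin 2) (Fin 2) F) * (g : Matrix (Fin 2) (Fin 2) F) = -1 := by
      have := congrArg (fun z : SpecialLinearGroup (Fin 2) F => (z : Matrix (Fin 2) (Fin 2) F)) h
      simpa using this
    have e00 := congrFun (congrFun h1 0) 0
    have e01 := congrFun (congrFun h1 0) 1
    have e10 := congrFun (congrFun h1 1) 0
    have e11 := congrFun (congrFun h1 1) 1
    simp only [Matrix.mul_apply, Fin.sum_univ_two, Matrix.neg_apply, Matrix.one_apply_eq,
      Matrix.one_apply_ne, ne_eq, zero_ne_one, one_ne_zero, not_false_eq_true, neg_zero] at e00 e01 e10 e11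
    by_contra hne
    have hb : g.1 0 1 = 0 := by
      have : g.1 0 1 * (g.1 0 0 + g.1 1 1) = 0 := by linear_combination e01
      exact (mul_eq_zero.1 this).resolve_right hne
    have hc : g.1 1 0 = 0 := by
      have : g.1 1 0 * (g.1 0 0 + g.1 1 1) = 0 := by linear_combination e10
      exact (mul_eq_zero.1 this).resolve_right hne
    rw [hb, hc] at hdet e00 e11
    apply hne
    have ha0 : g.1 0 0 ≠ 0 := by
      intro h0
      rw [h0] at hdet
      simp at hdet
    have : g.1 0 0 * (g.1 0 0 + g.1 1 1) = 0 := by linear_combination e00 + hdet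
    exact (mul_eq_zero.1 this).resolve_left ha0
  · intro h
    have hd : g.1 1 1 = -g.1 0 0 := by linear_combination h
    apply Subtype.ext
    show (g : Matrix (Fin 2) (Fin 2) F) * (g : Matrix (Fin 2) (Fin 2) F) =
      ((-1 : SpecialLinearGroup (Fin 2) F) : Matrix (Fin 2) (Fin 2) F)
    rw [Matrix.SpecialLinearGroup.coe_neg, Matrix.SpecialLinearGroup.coe_one]
    ext i j
    fin_cases i <;> fin_cases j <;>
      simp only [Matrix.mul_apply, Fin.sum_univ_two, Matrix.neg_apply, Matrix.one_apply_eq,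
        Matrix.one_apply_ne, ne_eq, zero_ne_one, one_ne_zero, not_false_eq_true, neg_zero,
        Fin.zero_eta, Fin.mk_one]
    · linear_combination g.1 0 0 * h - hdet
    · linear_combination g.1 0 1 * h
    · linear_combination g.1 1 0 * h
    · linear_combination g.1 1 1 * h - hdet

theorem neg_one_ne_one (h2 : (2 : F) ≠ 0) : (-1 : SpecialLinearGroup (Fin 2) F) ≠ 1 :=
  Cfsg.Agent.Lib.Helper1.sl2_neg_one_ne_one h2

theorem neg_one_mul_self : (-1 : SpecialLinearGroup (Fin 2) F) * -1 = 1 := by
  rw [neg_mul_neg, one_mul]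

/-- a subgroup of order four is generated by an element of square `-1` -/
theorem exists_gen (h2 : (2 : F) ≠ 0) (A : Subgroup (SpecialLinearGroup (Fin 2) F))
    (hA : Nat.card A = 4) :
    ∃ g : SpecialLinearGroup (Fin 2) F, g * g = -1 ∧ A = Subgroup.zpowers g := by
  classical
  haveI : Finite A := Nat.finite_of_card_ne_zero (by rw [hA]; norm_num)
  obtain ⟨x, hxA, hx1, hxm⟩ : ∃ x ∈ A, x ≠ 1 ∧ x ≠ -1 := by
    by_contra hcon
    push Not at hcon
    have hsub : (A : Set (SpecialLinearGroup (Fin 2) F)) ⊆ {1, -1} := by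
      intro x hx
      by_cases h1 : x = 1
      · exact Or.inl h1
      · exact Or.inr (hcon x hx h1)
    have h3 := Set.ncard_le_ncard hsub (Set.toFinite _)
    have h4 : ({1, -1} : Set (SpecialLinearGroup (Fin 2) F)).ncard ≤ 2 :=
      (Set.ncard_insert_le _ _).trans (by rw [Set.ncard_singleton])
    have h5 : (A : Set (SpecialLinearGroup (Fin 2) F)).ncard = 4 := by
      rw [← Nat.card_coe_set_eq]
      exact hA
    omega
  have hx4 : x ^ 4 = 1 := by
    have h1 : (⟨x, hxA⟩ : A) ^ Nat.card A = 1 := pow_card_eq_one'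
    rw [hA] at h1
    exact congrArg Subtype.val h1
  have hxx : x * x = -1 := by
    have h1 : (x * x) * (x * x) = 1 := by
      rw [← hx4, pow_succ, pow_succ, pow_succ, pow_one]
      simp only [mul_assoc]
    rcases Cfsg.Agent.Lib.Helper1.sl2_mul_self_eq_one h2 (x * x) h1 with h3 | h3
    · rcases Cfsg.Agent.Lib.Helper1.sl2_mul_self_eq_one h2 x h3 with h5 | h5
      · exact absurd h5 hx1
      · exact absurd h5 hxm
    · exact h3
  refine ⟨x, hxx, ?_⟩
  have hord : orderOf x = 2 ^ (1 + 1) := by
    apply orderOf_eq_prime_pow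
    · rw [pow_one, pow_two, hxx]
      exact neg_one_ne_one h2
    · exact hx4
  apply Eq.symm
  apply Subgroup.eq_of_le_of_card_ge
  · rw [Subgroup.zpowers_le]
    exact hxA
  · rw [Nat.card_zpowers, hord, hA]
    norm_num

/-- elements of square `-1` are conjugate -/
theorem isConj_of_sq [Fintype F] [DecidableEq F] (h2 : (2 : F) ≠ 0)
    {g h : SpecialLinearGroup (Fin 2) F} (hg : g * g = -1) (hh : h * h = -1) : IsConj g h := by
  have htg := (sq_eq_neg_one_iff g).1 hg
  have hth := (sq_eq_neg_one_iff h).1 hh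
  apply Cfsg.Agent.Lib.Helper5.isConj_of_trace_eq g h (by rw [htg, hth])
  rw [htg]
  intro h4
  apply h2
  have : (2 : F) * 2 = 0 := by linear_combination -h4
  exact (mul_self_eq_zero.1 this)

/-- subgroups of order four are conjugate -/
theorem conj_order_four [Fintype F] [DecidableEq F] (h2 : (2 : F) ≠ 0)
    (A B : Subgroup (SpecialLinearGroup (Fin 2) F)) (hA : Nat.card A = 4)
    (hB : Nat.card B = 4) :
    ∃ c : SpecialLinearGroup (Fin 2) F, B = A.map (MulAut.conj c).toMonoidHom := by
  obtain ⟨g, hg, rfl⟩ := exists_gen h2 A hA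
  obtain ⟨h, hh, rfl⟩ := exists_gen h2 B hB
  obtain ⟨c, hc⟩ := isConj_iff.1 (isConj_of_sq h2 hg hh)
  refine ⟨c, ?_⟩
  rw [MonoidHom.map_zpowers]
  congr 1
  exact hc.symm

end SL2Four

end Cfsg.Agent.Lib.Helper2
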