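import Mathlib
import Cfsg.Agent.Lib.Helper2.SL2Four1

set_option autoImplicit false

namespace Cfsg.Agent.Lib.Helper2

namespace SL2Four

open Matrix

variable {F : Type*} [Field F]

theorem inv_eq_neg {g : SpecialLinearGroup (Fin 2) F} (hg : g * g = -1) : g⁻¹ = -g := by
  apply inv_eq_of_mul_eq_one_right
  rw [mul_neg, hg, neg_neg]

/-- commuting elements of square `-1` are equal or inverse -/
theorem eq_or_eq_inv (h2 : (2 : F) ≠ 0) {g y : SpecialLinearGroup (Fin 2) F}
    (hg : g * g = -1) (hy : y * y = -1) (hc : Commute y g) : y = g ∨ y = g⁻¹ := by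
  have hz : (y * g⁻¹) * (y * g⁻¹) = 1 := by
    have hc' : Commute y g⁻¹ := hc.inv_right
    have : (y * g⁻¹) * (y * g⁻¹) = (y * y) * (g * g)⁻¹ := by
      rw [_root_.mul_inv_rev, mul_assoc, ← mul_assoc g⁻¹ y, ← hc'.eq]
      simp only [mul_assoc]
    rw [this, hy, hg, mul_inv_cancel]
  rcases Cfsg.Agent.Lib.Helper1.sl2_mul_self_eq_one h2 _ hz with h3 | h3
  · left
    exact mul_inv_eq_one.1 h3
  · right
    rw [inv_eq_neg hg]
    have : y = (y * g⁻¹) * g := by group
    rw [this, h3, neg_mul, one_mul]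

theorem conj_sq {g : SpecialLinearGroup (Fin 2) F} (hg : g * g = -1)
    (n : SpecialLinearGroup (Fin 2) F) : (n * g * n⁻¹) * (n * g * n⁻¹) = -1 := by
  have : (n * g * n⁻¹) * (n * g * n⁻¹) = n * (g * g) * n⁻¹ := by group
  rw [this, hg, mul_neg, mul_one, neg_mul, mul_inv_cancel]

/-- the normaliser of the group generated by an element of square `-1` -/
theorem mem_normalizer_iff (h2 : (2 : F) ≠ 0) {g : SpecialLinearGroup (Fin 2) F}
    (hg : g * g = -1) (n : SpecialLinearGroup (Fin 2) F) :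
    n ∈ Subgroup.normalizer (Subgroup.zpowers g : Set (SpecialLinearGroup (Fin 2) F)) ↔
      n * g * n⁻¹ = g ∨ n * g * n⁻¹ = g⁻¹ := by
  constructor
  · intro hn
    have h1 : n * g * n⁻¹ ∈ Subgroup.zpowers g :=
      (Subgroup.mem_normalizer_iff.1 hn g).1 (Subgroup.mem_zpowers g)
    apply eq_or_eq_inv h2 hg (conj_sq hg n)
    obtain ⟨k, hk⟩ := Subgroup.mem_zpowers_iff.1 h1
    rw [← hk]
    exact (Commute.refl g).zpow_left k
  · intro h
    rw [Subgroup.mem_normalizer_iff_map_conj_eq]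
    have h3 : (Subgroup.zpowers g).map (MulAut.conj n).toMonoidHom =
        Subgroup.zpowers (n * g * n⁻¹) := by
      rw [MonoidHom.map_zpowers]
      rfl
    rcases h with h | h
    · rw [h] at h3
      exact h3
    · rw [h, Subgroup.zpowers_inv] at h3
      exact h3

/-- the centraliser has index two in the normaliser -/
theorem card_normalizer_eq [Fintype F] [DecidableEq F] (h2 : (2 : F) ≠ 0)
    {g : SpecialLinearGroup (Fin 2) F} (hg : g * g = -1) :
    Nat.card ↥(Subgroup.normalizer (Subgroup.zpowers g : Set (SpecialLinearGroup (Fin 2) F))) =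
      2 * Nat.card ↥(Subgroup.centralizer ({g} : Set (SpecialLinearGroup (Fin 2) F))) := by
  obtain ⟨N, hN⟩ : ∃ N : Subgroup (SpecialLinearGroup (Fin 2) F),
      N = Subgroup.normalizer (Subgroup.zpowers g : Set (SpecialLinearGroup (Fin 2) F)) :=
    ⟨_, rfl⟩
  obtain ⟨C, hC⟩ : ∃ C : Subgroup (SpecialLinearGroup (Fin 2) F),
      C = Subgroup.centralizer ({g} : Set (SpecialLinearGroup (Fin 2) F)) := ⟨_, rfl⟩
  rw [← hN, ← hC]
  have hmemC : ∀ x, x ∈ C ↔ x * g * x⁻¹ = g := by
    intro x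
    rw [hC, Subgroup.mem_centralizer_singleton_iff, mul_inv_eq_iff_eq_mul]
  have hmemN : ∀ x, x ∈ N ↔ x * g * x⁻¹ = g ∨ x * g * x⁻¹ = g⁻¹ := by
    intro x
    rw [hN]
    exact mem_normalizer_iff h2 hg x
  have hCN : C ≤ N := fun x hx => (hmemN x).2 (Or.inl ((hmemC x).1 hx))
  have hgne : g ≠ g⁻¹ := by
    intro h
    have : g * g = 1 := by
      nth_rewrite 2 [h]
      exact mul_inv_cancel g
    rw [hg] at this
    exact neg_one_ne_one h2 this
  obtain ⟨n₀, hn₀⟩ := isConj_iff.1 (isConj_of_sq h2 hg (by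
    rw [inv_eq_neg hg, neg_mul_neg, hg] : g⁻¹ * g⁻¹ = -1))
  have hn₀N : n₀ ∈ N := (hmemN n₀).2 (Or.inr hn₀)
  have hidx : (C.subgroupOf N).index = 2 := by
    rw [Subgroup.index_eq_two_iff]
    refine ⟨⟨n₀, hn₀N⟩, ?_⟩
    intro b
    have hb := (hmemN b.1).1 b.2
    have hmul : (b.1 * n₀) * g * (b.1 * n₀)⁻¹ = b.1 * (n₀ * g * n₀⁻¹) * b.1⁻¹ := by group
    have e1 : b * ⟨n₀, hn₀N⟩ ∈ C.subgroupOf N ↔ (b.1 * n₀) * g * (b.1 * n₀)⁻¹ = g := by
      rw [Subgroup.mem_subgroupOf]
      exact hmemC _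
    have e2 : b ∈ C.subgroupOf N ↔ b.1 * g * b.1⁻¹ = g := by
      rw [Subgroup.mem_subgroupOf]
      exact hmemC _
    rw [e1, e2, hmul, hn₀]
    have hinv : b.1 * g⁻¹ * b.1⁻¹ = (b.1 * g * b.1⁻¹)⁻¹ := by group
    rw [hinv]
    rcases hb with hb | hb
    · rw [hb]
      exact Or.inr ⟨rfl, fun h => hgne h.symm⟩
    · rw [hb, inv_inv]
      exact Or.inl ⟨rfl, fun h => hgne h.symm⟩
  have h5 := Subgroup.index_mul_card (C.subgroupOf N)
  rw [hidx, Nat.card_congr (Subgroup.subgroupOfEquivOfLe hCN).toEquiv] at h5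
  exact h5.symm

/-- the number of square roots of `-1` -/
theorem rootCount_zero [Fintype F] [DecidableEq F] (h2 : (2 : F) ≠ 0) :
    Cfsg.Agent.Lib.Helper5.rootCount (0 : F) = if Fintype.card F % 4 = 3 then 0 else 2 := by
  unfold Cfsg.Agent.Lib.Helper5.rootCount
  by_cases h3 : Fintype.card F % 4 = 3
  · rw [if_pos h3, Finset.card_eq_zero, Finset.filter_eq_empty_iff]
    intro x _ hx
    have hsq : IsSquare (-1 : F) := ⟨x, by linear_combination -hx⟩
    exact (FiniteField.isSquare_neg_one_iff.1 hsq) h3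
  · rw [if_neg h3]
    obtain ⟨i, hi⟩ := FiniteField.isSquare_neg_one_iff.2 h3
    have hi0 : i ≠ 0 := by
      rintro rfl
      rw [mul_zero] at hi
      exact one_ne_zero (neg_eq_zero.1 hi)
    have hne : i ≠ -i := by
      intro h
      have : (2 : F) * i = 0 := by linear_combination h
      rcases mul_eq_zero.1 this with h4 | h4
      · exact h2 h4
      · exact hi0 h4
    have hset : Finset.univ.filter (fun x : F => x ^ 2 - 0 * x + 1 = 0) = {i, -i} := by
      ext x
      simp only [Finset.mem_filter, Finset.mem_univ, true_and, Finset.mem_insert,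
        Finset.mem_singleton]
      constructor
      · intro hx
        have : (x - i) * (x + i) = 0 := by linear_combination hx + hi
        rcases mul_eq_zero.1 this with h4 | h4
        · left
          exact sub_eq_zero.1 h4
        · right
          exact eq_neg_of_add_eq_zero_left h4
      · rintro (rfl | rfl)
        · linear_combination -hi
        · linear_combination -hi
    rw [hset, Finset.card_pair hne]

/-- the order of the normaliser of a subgroup of order four -/
theorem card_normalizer [Fintype F] [DecidableEq F] (h2 : (2 : F) ≠ 0)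
    (A : Subgroup (SpecialLinearGroup (Fin 2) F)) (hA : Nat.card A = 4) :
    Nat.card ↥(Subgroup.normalizer (A : Set (SpecialLinearGroup (Fin 2) F))) =
      if Fintype.card F % 4 = 3 then 2 * (Fintype.card F + 1) else 2 * (Fintype.card F - 1) := by
  obtain ⟨g, hg, rfl⟩ := exists_gen h2 A hA
  rw [card_normalizer_eq h2 hg]
  have htg := (sq_eq_neg_one_iff g).1 hg
  have h4 : (g : Matrix (Fin 2) (Fin 2) F).trace ^ 2 ≠ 4 := by
    rw [htg]
    intro h4
    apply h2
    have : (2 : F) * 2 = 0 := by linear_combination -h4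
    exact (mul_self_eq_zero.1 this)
  have h5 := Cfsg.Agent.Lib.Helper5.card_centralizer_generic g h4
  rw [htg, rootCount_zero h2] at h5
  have hq : 2 ≤ Fintype.card F := Fintype.one_lt_card
  by_cases h3 : Fintype.card F % 4 = 3
  · rw [if_pos h3] at h5 ⊢
    omega
  · rw [if_neg h3] at h5 ⊢
    omega

end SL2Four

end Cfsg.Agent.Lib.Helper2
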