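import Mathlib
import Cfsg.Agent.Lib.Helper2.SL2Four2

set_option autoImplicit false

namespace Cfsg.Agent.Lib.Helper2

namespace SL2Four

open Matrix

variable {F : Type*} [Field F]

/-- the centre of `SL₂` is `±1` -/
theorem mem_center_iff' (A : SpecialLinearGroup (Fin 2) F) :
    A ∈ Subgroup.center (SpecialLinearGroup (Fin 2) F) ↔ A = 1 ∨ A = -1 := by
  constructor
  · intro h
    obtain ⟨r, hr, hA⟩ := Matrix.SpecialLinearGroup.mem_center_iff.1 h
    rw [Fintype.card_fin] at hr
    have h3 : (r - 1) * (r + 1) = 0 := by linear_combination hr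
    rcases mul_eq_zero.1 h3 with h4 | h4
    · left
      apply Subtype.ext
      rw [← hA, sub_eq_zero.1 h4, map_one]
      rfl
    · right
      apply Subtype.ext
      rw [← hA, eq_neg_of_add_eq_zero_left h4, map_neg, map_one]
      rfl
  · rintro (rfl | rfl)
    · exact Subgroup.one_mem _
    · rw [Subgroup.mem_center_iff]
      intro x
      rw [mul_neg, neg_mul, mul_one, one_mul]

/-- an involution of `PSL₂` lifts to an element of square `-1` -/
theorem exists_lift (h2 : (2 : F) ≠ 0) (x : ProjectiveSpecialLinearGroup (Fin 2) F)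
    (hx : orderOf x = 2) :
    ∃ g : SpecialLinearGroup (Fin 2) F, g * g = -1 ∧ (QuotientGroup.mk g : _ ⧸ _) = x := by
  obtain ⟨g, rfl⟩ := QuotientGroup.mk_surjective x
  refine ⟨g, ?_, rfl⟩
  have h1 : (QuotientGroup.mk g : ProjectiveSpecialLinearGroup (Fin 2) F) ^ 2 = 1 := by
    have := pow_orderOf_eq_one (QuotientGroup.mk g : ProjectiveSpecialLinearGroup (Fin 2) F)
    rw [hx] at this
    exact this
  have hne : (QuotientGroup.mk g : ProjectiveSpecialLinearGroup (Fin 2) F) ≠ 1 := by
    intro h
    rw [h, orderOf_one] at hx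
    omega
  rw [← QuotientGroup.mk_pow, QuotientGroup.eq_one_iff, mem_center_iff', pow_two] at h1
  rcases h1 with h1 | h1
  · exfalso
    apply hne
    rw [QuotientGroup.eq_one_iff, mem_center_iff']
    exact Cfsg.Agent.Lib.Helper1.sl2_mul_self_eq_one h2 g h1
  · exact h1

/-- all involutions of `PSL₂(q)`, `q` odd, are conjugate -/
theorem isConj_invol [Fintype F] [DecidableEq F] (h2 : (2 : F) ≠ 0)
    (x y : ProjectiveSpecialLinearGroup (Fin 2) F) (hx : orderOf x = 2) (hy : orderOf y = 2) :
    IsConj x y := by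
  obtain ⟨g, hg, rfl⟩ := exists_lift h2 x hx
  obtain ⟨h, hh, rfl⟩ := exists_lift h2 y hy
  exact MonoidHom.map_isConj
    (QuotientGroup.mk' (Subgroup.center (SpecialLinearGroup (Fin 2) F)))
    (isConj_of_sq h2 hg hh)

end SL2Four

end Cfsg.Agent.Lib.Helper2
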