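import Mathlib
import Cfsg.Agent.Lib.Helper2.SL2Four3

set_option autoImplicit false

namespace Cfsg.Agent.Lib.Helper2

namespace PGLsub

open SL2Four

variable {K F : Type*} [Field K] [Field F] (ι : K →+* F)

theorem map_injective :
    Function.Injective (Matrix.SpecialLinearGroup.map (n := Fin 2) ι) := by
  intro g h hgh
  apply Subtype.ext
  ext i j
  have h1 := congrArg (fun m : Matrix.SpecialLinearGroup (Fin 2) F =>
    (m : Matrix (Fin 2) (Fin 2) F) i j) hgh
  simp only [Matrix.SpecialLinearGroup.map_apply_coe, RingHom.mapMatrix_apply,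
    Matrix.map_apply] at h1
  exact ι.injective h1

theorem map_neg_one :
    Matrix.SpecialLinearGroup.map (n := Fin 2) ι (-1) = -1 := by
  apply Subtype.ext
  ext i j
  simp only [Matrix.SpecialLinearGroup.map_apply_coe, RingHom.mapMatrix_apply,
    Matrix.map_apply, Matrix.SpecialLinearGroup.coe_neg, Matrix.SpecialLinearGroup.coe_one,
    Matrix.neg_apply]
  by_cases hij : i = j
  · subst hij; simp
  · simp [Matrix.one_apply_ne hij]

/-- the composite `SL₂(K) → SL₂(F) → PSL₂(F)` -/
noncomputable def φ₁ : Matrix.SpecialLinearGroup (Fin 2) K →*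
    Matrix.ProjectiveSpecialLinearGroup (Fin 2) F :=
  (QuotientGroup.mk' (Subgroup.center (Matrix.SpecialLinearGroup (Fin 2) F))).comp
    (Matrix.SpecialLinearGroup.map ι)

theorem ker_φ₁ : (φ₁ ι).ker = Subgroup.center (Matrix.SpecialLinearGroup (Fin 2) K) := by
  ext g
  rw [MonoidHom.mem_ker, mem_center_iff']
  change (QuotientGroup.mk' _ (Matrix.SpecialLinearGroup.map ι g)) = 1 ↔ _
  rw [QuotientGroup.mk'_apply, QuotientGroup.eq_one_iff, mem_center_iff']
  constructor
  · rintro (h | h)
    · left
      apply map_injective ι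
      rw [h, map_one]
    · right
      apply map_injective ι
      rw [h, map_neg_one]
  · rintro (rfl | rfl)
    · left; exact map_one _
    · right; exact map_neg_one ι

include ι in
theorem exists_PSL : ∃ H : Subgroup (Matrix.ProjectiveSpecialLinearGroup (Fin 2) F),
    Nonempty (H ≃* Matrix.ProjectiveSpecialLinearGroup (Fin 2) K) := by
  refine ⟨(φ₁ ι).range, ⟨?_⟩⟩
  exact (QuotientGroup.quotientKerEquivRange (φ₁ ι)).symm.trans
    (QuotientGroup.quotientMulEquivOfEq (ker_φ₁ ι))

end PGLsub

end Cfsg.Agent.Lib.Helper2
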