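import Mathlib
import Cfsg.Agent.Lib.Helper2.DSubD6
import Cfsg.Agent.Lib.Helper8.SmallSolvable
import Cfsg.Agent.Lib.Helper2.PGLsub2
import Cfsg.Agent.Lib.Helper5.FieldExt

set_option autoImplicit false
set_option linter.unusedSectionVars false
set_option linter.style.haveILetI false

/-!
# `PSL₂(q)` as a minimal simple group: solvability of the groups in Dickson's list
-/

namespace Cfsg.Agent.Lib.Helper2

namespace DSub

open Matrix
open scoped MatrixGroups commutatorElement

/-- a group with an abelian subgroup containing all commutators is solvable -/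
theorem isSolvable_of_metabelian {B : Type*} [Group B] (A : Subgroup B)
    (hA : ∀ a ∈ A, ∀ b ∈ A, a * b = b * a) (hc : ∀ a b : B, ⁅a, b⁆ ∈ A) :
    Group.IsSolvable B := by
  rw [isSolvable_def]
  refine ⟨2, ?_⟩
  have h1 : derivedSeries B 1 ≤ A := by
    rw [derivedSeries_succ, derivedSeries_zero, Subgroup.commutator_le]
    intro a _ b _
    exact hc a b
  rw [derivedSeries_succ, eq_bot_iff, Subgroup.commutator_le]
  intro a ha b hb
  rw [Subgroup.mem_bot, commutatorElement_eq_one_iff_mul_comm]
  exact hA a (h1 ha) b (h1 hb)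

/-- dihedral groups are solvable -/
theorem isSolvable_dihedral (k : ℕ) : Group.IsSolvable (DihedralGroup k) := by
  let A : Subgroup (DihedralGroup k) :=
    { carrier := {g | ∃ i, g = DihedralGroup.r i}
      one_mem' := ⟨0, rfl⟩
      mul_mem' := by
        rintro _ _ ⟨i, rfl⟩ ⟨j, rfl⟩
        exact ⟨i + j, rfl⟩
      inv_mem' := by
        rintro _ ⟨i, rfl⟩
        exact ⟨-i, rfl⟩ }
  apply isSolvable_of_metabelian A
  · rintro _ ⟨i, rfl⟩ _ ⟨j, rfl⟩
    show DihedralGroup.r (i + j) = DihedralGroup.r (j + i)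
    rw [add_comm]
  · intro a b
    rw [commutatorElement_def]
    rcases a with i | i <;> rcases b with j | j
    · exact ⟨i + j + -i + -j, rfl⟩
    · exact ⟨_, rfl⟩
    · exact ⟨_, rfl⟩
    · exact ⟨_, rfl⟩

variable {F : Type*} [Field F] [Fintype F]

/-- the normalizer of a Sylow `p`-subgroup of `PSL₂(q)` is solvable -/
theorem isSolvable_normalizer_sylow (p : ℕ) [hp : Fact p.Prime] [CharP F p]
    (P : Sylow p (ProjectiveSpecialLinearGroup (Fin 2) F)) :
    Group.IsSolvable ↥(Subgroup.normalizer ((P : Subgroup (ProjectiveSpecialLinearGroup (Fin 2) F)) :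
      Set (ProjectiveSpecialLinearGroup (Fin 2) F))) := by
  obtain ⟨h1, -, -, h4⟩ := sylow_psl_facts p P
  apply isSolvable_of_metabelian ((P : Subgroup (ProjectiveSpecialLinearGroup (Fin 2) F)).subgroupOf
    (Subgroup.normalizer ((P : Subgroup (ProjectiveSpecialLinearGroup (Fin 2) F)) :
      Set (ProjectiveSpecialLinearGroup (Fin 2) F))))
  · intro a ha b hb
    rw [Subgroup.mem_subgroupOf] at ha hb
    apply Subtype.ext
    exact h1 _ ha _ hb
  · intro a b
    rw [Subgroup.mem_subgroupOf]
    exact h4 _ a.2 _ b.2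

end DSub

end Cfsg.Agent.Lib.Helper2
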