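import Mathlib
import Cfsg.Agent.Lib.Helper2.DSubM1

set_option autoImplicit false
set_option linter.unusedSectionVars false
set_option linter.style.haveILetI false

/-!
# `PSL₂(q)` as a minimal simple group: proper subgroups are solvable
-/

namespace Cfsg.Agent.Lib.Helper2

namespace DSub

open Matrix
open scoped MatrixGroups

variable {F : Type*} [Field F] [Fintype F]

theorem isSolvable_of_isCyclic {H : Type*} [Group H] [IsCyclic H] : Group.IsSolvable H := by
  apply isSolvable_of_comm
  intro a b
  obtain ⟨g, hg⟩ := IsCyclic.exists_generator (α := H)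
  obtain ⟨i, rfl⟩ := Subgroup.mem_zpowers_iff.mp (hg a)
  obtain ⟨j, rfl⟩ := Subgroup.mem_zpowers_iff.mp (hg b)
  rw [← _root_.zpow_add, ← _root_.zpow_add, add_comm]

/-- proper subgroups of `PSL₂(p ^ n)` are solvable when `n = 1` or `n` is prime and `p ≤ 3`,
and `5` does not divide the order unless the order is `60` -/
theorem proper_solvable (p : ℕ) [hp : Fact p.Prime] [CharP F p] (n : ℕ)
    (hqn : Fintype.card F = p ^ n)
    (hn : n = 1 ∨ (n.Prime ∧ (p = 2 ∨ p = 3)))
    (h5 : ¬ 5 ∣ Fintype.card F * (Fintype.card F - 1) * (Fintype.card F + 1) ∨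
      Nat.card (ProjectiveSpecialLinearGroup (Fin 2) F) = 60)
    (H : Subgroup (ProjectiveSpecialLinearGroup (Fin 2) F)) (hH : H ≠ ⊤) :
    Group.IsSolvable H := by
  haveI := finite_psl (F := F)
  have hq2 : 2 ≤ Fintype.card F := Fintype.one_lt_card
  have hG := card_psl_two (F := F)
  have hd12 := gcd_two_cases (Fintype.card F - 1)
  have hne : Nat.card H ≠ Nat.card (ProjectiveSpecialLinearGroup (Fin 2) F) := by
    intro h
    exact hH ((Subgroup.card_eq_iff_eq_top H).mp h)
  rcases dickson_psl_concrete p H with ⟨k, hk, hH'⟩ | ⟨P, hP⟩ | ⟨⟨e⟩⟩ | ⟨⟨e⟩⟩ | ⟨⟨e⟩⟩ |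
    ⟨K, hKf, hKfin, m, hm, hiso⟩
  · rcases hH' with ⟨hcyc, -⟩ | ⟨⟨e⟩⟩
    · exact isSolvable_of_isCyclic
    · haveI := isSolvable_dihedral k
      exact Group.isSolvable_of_isSolvable_injective (f := e.toMonoidHom) e.injective
  · haveI := isSolvable_normalizer_sylow p P
    exact Group.isSolvable_of_isSolvable_injective (Subgroup.inclusion_injective hP)
  · apply Cfsg.Agent.Lib.Helper8.isSolvable_of_card_dvd_24
    rw [Nat.card_congr e.toEquiv, card_A4]
    norm_num
  · apply Cfsg.Agent.Lib.Helper8.isSolvable_of_card_dvd_24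
    rw [Nat.card_congr e.toEquiv, card_S4]
  · exfalso
    have h60 : Nat.card H = 60 := by rw [Nat.card_congr e.toEquiv, card_A5]
    have hdvd : 60 ∣ Nat.card (ProjectiveSpecialLinearGroup (Fin 2) F) := by
      rw [← h60]; exact Subgroup.card_subgroup_dvd_card H
    rcases h5 with h5 | h5
    · apply h5
      rw [← hG]
      exact (Dvd.intro _ rfl : 5 ∣ 5 * 12).trans (hdvd.trans (Dvd.intro_left _ rfl))
    · exact hne (h60.trans h5.symm)
  · -- subfield subgroups
    have hq₀ : 2 ≤ Fintype.card K := Fintype.one_lt_card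
    have hK := card_psl_two (F := K)
    have hK' := card_pgl_two (K := K)
    have hm0 : m ≠ 0 := by
      rintro rfl
      rw [pow_zero] at hm; omega
    -- the order of `K` is a power of `p`
    have hdvd : Fintype.card K ∣ p ^ n := by
      rw [← hqn, ← hm]; exact dvd_pow_self _ hm0
    obtain ⟨e, hen, he⟩ := (Nat.dvd_prime_pow hp.out).mp hdvd
    have hem : e * m = n := by
      have : p ^ (e * m) = p ^ n := by rw [pow_mul, ← he, hm, hqn]
      exact Nat.pow_right_injective hp.out.two_le this
    have hcases : m = 1 ∨ (e = 1 ∧ (p = 2 ∨ p = 3)) := by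
      rcases hn with rfl | ⟨hnp, hp23⟩
      · left
        exact Nat.eq_one_of_mul_eq_one_left hem
      · have h1 : e ∣ n := Dvd.intro _ hem
        rcases (Nat.dvd_prime hnp).mp h1 with h | h
        · right; exact ⟨h, hp23⟩
        · left
          rw [h] at hem
          have : n * m = n * 1 := by rw [hem, mul_one]
          exact Nat.eq_of_mul_eq_mul_left hnp.pos this
    rcases hcases with rfl | ⟨rfl, hp23⟩
    · exfalso
      rw [pow_one] at hm
      rcases hiso with ⟨⟨f⟩⟩ | ⟨⟨f⟩⟩
      · rw [← Nat.card_congr f.toEquiv, hm, ← hG] at hK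
        exact hne (Nat.eq_of_mul_eq_mul_left (by rcases hd12 with h | h <;> omega) hK)
      · rw [← Nat.card_congr f.toEquiv, hm, ← hG] at hK'
        have hle := Subgroup.card_le_card_group H
        rcases hd12 with h | h <;> rw [h] at hK'
        · rw [one_mul] at hK'
          exact hne hK'
        · have : 0 < Nat.card (ProjectiveSpecialLinearGroup (Fin 2) F) := Nat.card_pos
          omega
    · rw [pow_one] at he
      apply Cfsg.Agent.Lib.Helper8.isSolvable_of_card_dvd_24
      have hdvd2 : Nat.card H ∣ Fintype.card K * (Fintype.card K - 1) * (Fintype.card K + 1) := by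
        rcases hiso with ⟨⟨f⟩⟩ | ⟨⟨f⟩⟩
        · rw [← Nat.card_congr f.toEquiv] at hK
          exact Dvd.intro_left _ hK
        · rw [← Nat.card_congr f.toEquiv] at hK'
          rw [hK']
      rw [he] at hdvd2
      rcases hp23 with rfl | rfl
      · exact hdvd2.trans (by norm_num)
      · exact hdvd2.trans (by norm_num)

end DSub

end Cfsg.Agent.Lib.Helper2
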