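import Mathlib
import Cfsg.Agent.Lib.Helper2.SL2Four3
import Cfsg.Agent.Lib.Helper3.Count

set_option autoImplicit false

namespace Cfsg.Agent.Lib.Helper2

namespace SL2Four

open Matrix

variable {F : Type*} [Field F]

/-- an element of square `-1` -/
def J : SpecialLinearGroup (Fin 2) F := ⟨!![0, 1; -1, 0], by simp [Matrix.det_fin_two]⟩

theorem J_sq : (J : SpecialLinearGroup (Fin 2) F) * J = -1 := by
  rw [sq_eq_neg_one_iff]
  simp [J, Matrix.trace_fin_two]

variable [Fintype F] [DecidableEq F]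

/-- pairs of anticommuting elements of square `-1` -/
abbrev That (F : Type*) [Field F] : Type _ :=
  {p : SpecialLinearGroup (Fin 2) F × SpecialLinearGroup (Fin 2) F //
    p.1 * p.1 = -1 ∧ p.2 * p.1 * p.2⁻¹ = p.1⁻¹}

theorem card_centralizer_sq (h2 : (2 : F) ≠ 0) {g : SpecialLinearGroup (Fin 2) F}
    (hg : g * g = -1) :
    Nat.card ↥(Subgroup.centralizer ({g} : Set (SpecialLinearGroup (Fin 2) F))) =
      Nat.card ↥(Subgroup.centralizer ({(J : SpecialLinearGroup (Fin 2) F)} :
        Set (SpecialLinearGroup (Fin 2) F))) := by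
  have key : ∀ g : SpecialLinearGroup (Fin 2) F, g * g = -1 →
      Nat.card ↥(Subgroup.centralizer ({g} : Set (SpecialLinearGroup (Fin 2) F))) +
        Cfsg.Agent.Lib.Helper5.rootCount (0 : F) = Fintype.card F + 1 := by
    intro g hg
    have htg := (sq_eq_neg_one_iff g).1 hg
    have h4 : (g : Matrix (Fin 2) (Fin 2) F).trace ^ 2 ≠ 4 := by
      rw [htg]
      intro h4
      apply h2
      have : (2 : F) * 2 = 0 := by linear_combination -h4
      exact (mul_self_eq_zero.1 this)
    have h5 := Cfsg.Agent.Lib.Helper5.card_centralizer_generic g h4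
    rw [htg] at h5
    exact h5
  have h1 := key g hg
  have h3 := key J J_sq
  omega

/-- the number of such pairs is the order of the group -/
theorem card_That (h2 : (2 : F) ≠ 0) :
    Nat.card (That F) = Nat.card (SpecialLinearGroup (Fin 2) F) := by
  rw [← Cfsg.Agent.Lib.Helper3.card_conj_class_mul_card_centralizer
    (J : SpecialLinearGroup (Fin 2) F)]
  have e : That F ≃ Σ g : {g : SpecialLinearGroup (Fin 2) F // g * g = -1},
      {h : SpecialLinearGroup (Fin 2) F // h * g.1 * h⁻¹ = g.1⁻¹} :=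
    { toFun := fun p => ⟨⟨p.1.1, p.2.1⟩, ⟨p.1.2, p.2.2⟩⟩
      invFun := fun s => ⟨(s.1.1, s.2.1), s.1.2, s.2.2⟩
      left_inv := fun p => rfl
      right_inv := fun s => rfl }
  rw [Nat.card_congr e, Nat.card_sigma]
  have hfib : ∀ g : {g : SpecialLinearGroup (Fin 2) F // g * g = -1},
      Nat.card {h : SpecialLinearGroup (Fin 2) F // h * g.1 * h⁻¹ = g.1⁻¹} =
      Nat.card ↥(Subgroup.centralizer ({(J : SpecialLinearGroup (Fin 2) F)} :
        Set (SpecialLinearGroup (Fin 2) F))) := by
    intro g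
    obtain ⟨n₀, hn₀⟩ := isConj_iff.1 (isConj_of_sq h2 g.2 (by
      rw [inv_eq_neg g.2, neg_mul_neg, g.2] : g.1⁻¹ * g.1⁻¹ = -1))
    rw [Cfsg.Agent.Lib.Helper3.card_conj_fibre' g.1 g.1⁻¹ n₀ hn₀]
    exact card_centralizer_sq h2 g.2
  simp only [hfib, Finset.sum_const, Finset.card_univ, smul_eq_mul]
  congr 1
  rw [← Nat.card_eq_fintype_card]
  apply Nat.card_congr
  apply Equiv.subtypeEquivRight
  intro g
  constructor
  · intro hg
    exact isConj_of_sq h2 J_sq hg
  · intro hc
    obtain ⟨c, hc⟩ := isConj_iff.1 hc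
    rw [← hc]
    exact conj_sq J_sq c

end SL2Four

end Cfsg.Agent.Lib.Helper2
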