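import Mathlib
import Cfsg.Agent.Lib.Helper2.SL2Four4
import Cfsg.Agent.Lib.Helper5.SL2Class2

set_option autoImplicit false

namespace Cfsg.Agent.Lib.Helper2

namespace SL2Four

open Matrix

variable {F : Type*} [Field F]

/-- pairs of distinct commuting involutions of `PSL₂` -/
abbrev T (F : Type*) [Field F] : Type _ :=
  {p : ProjectiveSpecialLinearGroup (Fin 2) F × ProjectiveSpecialLinearGroup (Fin 2) F //
    orderOf p.1 = 2 ∧ orderOf p.2 = 2 ∧ p.1 ≠ p.2 ∧ Commute p.1 p.2}

theorem mk_eq_mk_iff (g h : SpecialLinearGroup (Fin 2) F) :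
    (QuotientGroup.mk g : ProjectiveSpecialLinearGroup (Fin 2) F) = QuotientGroup.mk h ↔
      h = g ∨ h = -g := by
  rw [QuotientGroup.eq, mem_center_iff']
  constructor
  · rintro (h1 | h1)
    · left
      have : h = g * (g⁻¹ * h) := by group
      rw [this, h1, mul_one]
    · right
      have : h = g * (g⁻¹ * h) := by group
      rw [this, h1, mul_neg, mul_one]
  · rintro (rfl | rfl)
    · left
      exact inv_mul_cancel h
    · right
      rw [mul_neg, inv_mul_cancel]

theorem mk_neg (g : SpecialLinearGroup (Fin 2) F) :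
    (QuotientGroup.mk (-g) : ProjectiveSpecialLinearGroup (Fin 2) F) = QuotientGroup.mk g :=
  ((mk_eq_mk_iff g (-g)).2 (Or.inr rfl)).symm

theorem orderOf_mk (h2 : (2 : F) ≠ 0) {g : SpecialLinearGroup (Fin 2) F} (hg : g * g = -1) :
    orderOf (QuotientGroup.mk g : ProjectiveSpecialLinearGroup (Fin 2) F) = 2 := by
  haveI : Fact (Nat.Prime 2) := ⟨Nat.prime_two⟩
  apply orderOf_eq_prime
  · rw [pow_two, ← QuotientGroup.mk_mul, hg, mk_neg]
    rfl
  · intro h1
    rw [QuotientGroup.eq_one_iff, mem_center_iff'] at h1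
    rcases h1 with rfl | rfl
    · rw [mul_one] at hg
      exact neg_one_ne_one h2 hg.symm
    · rw [neg_mul_neg, mul_one] at hg
      exact neg_one_ne_one h2 hg.symm

variable [Fintype F] [DecidableEq F]

/-- the projection of an anticommuting pair -/
theorem proj_mem (h2 : (2 : F) ≠ 0) (p : That F) :
    orderOf (QuotientGroup.mk p.1.1 : ProjectiveSpecialLinearGroup (Fin 2) F) = 2 ∧
    orderOf (QuotientGroup.mk p.1.2 : ProjectiveSpecialLinearGroup (Fin 2) F) = 2 ∧
    (QuotientGroup.mk p.1.1 : ProjectiveSpecialLinearGroup (Fin 2) F) ≠ QuotientGroup.mk p.1.2 ∧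
    Commute (QuotientGroup.mk p.1.1 : ProjectiveSpecialLinearGroup (Fin 2) F)
      (QuotientGroup.mk p.1.2) := by
  obtain ⟨⟨g, h⟩, hg, hgh⟩ := p
  simp only at hg hgh ⊢
  have hgne : g ≠ g⁻¹ := by
    intro h0
    have : g * g = 1 := by
      nth_rewrite 2 [h0]
      exact mul_inv_cancel g
    rw [hg] at this
    exact neg_one_ne_one h2 this
  have hh : h * h = -1 := by
    -- `h` anticommutes with `g`, hence has trace zero
    rw [sq_eq_neg_one_iff]
    have h1 : h * g = -(g * h) := by
      have : h * g = (h * g * h⁻¹) * h := by group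
      rw [this, hgh, inv_eq_neg hg, neg_mul]
    have h3 : g⁻¹ * h * g = -h := by
      rw [mul_assoc, h1, mul_neg, ← mul_assoc, inv_mul_cancel, one_mul]
    have h4 := Cfsg.Agent.Lib.Helper5.trace_conj g⁻¹ h
    rw [inv_inv, h3] at h4
    have h5 : ((-h : SpecialLinearGroup (Fin 2) F) : Matrix (Fin 2) (Fin 2) F).trace =
        -(h : Matrix (Fin 2) (Fin 2) F).trace := by
      rw [Matrix.SpecialLinearGroup.coe_neg, Matrix.trace_neg]
    rw [h5] at h4
    have h6 : (2 : F) * (h : Matrix (Fin 2) (Fin 2) F).trace = 0 := by linear_combination -h4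
    exact (mul_eq_zero.1 h6).resolve_left h2
  refine ⟨orderOf_mk h2 hg, orderOf_mk h2 hh, ?_, ?_⟩
  · intro h0
    rw [mk_eq_mk_iff] at h0
    apply hgne
    rcases h0 with rfl | rfl
    · rw [← hgh, mul_inv_cancel_right]
    · rw [← hgh]
      simp
  · show _ * _ = _ * _
    rw [← QuotientGroup.mk_mul, ← QuotientGroup.mk_mul, mk_eq_mk_iff]
    right
    have : h * g = (h * g * h⁻¹) * h := by group
    rw [this, hgh, inv_eq_neg hg, neg_mul]

/-- the projection -/
def proj (h2 : (2 : F) ≠ 0) (p : That F) : T F :=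
  ⟨(QuotientGroup.mk p.1.1, QuotientGroup.mk p.1.2), proj_mem h2 p⟩

end SL2Four

end Cfsg.Agent.Lib.Helper2
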