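import Mathlib
import Cfsg.Agent.Lib.Helper2.SL2Four5
import Cfsg.Agent.Lib.Helper5.SL2Torus

set_option autoImplicit false

namespace Cfsg.Agent.Lib.Helper2

namespace SL2A5


variable {F : Type*} [Field F]

section powers

variable {N : Matrix (Fin 2) (Fin 2) F} {t : F}

theorem pow3 (h2 : N * N = t • N - 1) : N ^ 3 = (t ^ 2 - 1) • N - t • (1 : Matrix (Fin 2) (Fin 2) F) := by
  rw [pow_succ, pow_two, h2, sub_mul, smul_mul_assoc, one_mul, h2]
  module

theorem pow4 (h2 : N * N = t • N - 1) :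
    N ^ 4 = (t ^ 3 - 2 * t) • N - (t ^ 2 - 1) • (1 : Matrix (Fin 2) (Fin 2) F) := by
  rw [pow_succ, pow3 h2, sub_mul, smul_mul_assoc, smul_mul_assoc, one_mul, h2]
  module

theorem pow5 (h2 : N * N = t • N - 1) :
    N ^ 5 = (t ^ 4 - 3 * t ^ 2 + 1) • N - (t ^ 3 - 2 * t) • (1 : Matrix (Fin 2) (Fin 2) F) := by
  rw [pow_succ, pow4 h2, sub_mul, smul_mul_assoc, smul_mul_assoc, one_mul, h2]
  module

end powers

theorem sq_eq (g : Matrix.SpecialLinearGroup (Fin 2) F) :
    (g : Matrix (Fin 2) (Fin 2) F) * (g : Matrix (Fin 2) (Fin 2) F) =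
      (g : Matrix (Fin 2) (Fin 2) F).trace • (g : Matrix (Fin 2) (Fin 2) F) - 1 := by
  rw [← Cfsg.Agent.Lib.Helper5.cayley_two_sl g, add_sub_cancel_right]

/-- trace 0 gives square `-1` -/
theorem sq_of_trace_zero {g : Matrix.SpecialLinearGroup (Fin 2) F}
    (h : (g : Matrix (Fin 2) (Fin 2) F).trace = 0) : g * g = -1 := by
  apply Subtype.ext
  rw [Matrix.SpecialLinearGroup.coe_mul, sq_eq, h, zero_smul, zero_sub, Matrix.SpecialLinearGroup.coe_neg,
    Matrix.SpecialLinearGroup.coe_one]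

/-- trace 1 gives cube `-1` -/
theorem cube_of_trace_one {g : Matrix.SpecialLinearGroup (Fin 2) F}
    (h : (g : Matrix (Fin 2) (Fin 2) F).trace = 1) : g ^ 3 = -1 := by
  apply Subtype.ext
  have h2 := sq_eq g
  rw [Matrix.SpecialLinearGroup.coe_pow, pow3 h2, h, Matrix.SpecialLinearGroup.coe_neg,
    Matrix.SpecialLinearGroup.coe_one]
  simp

/-- trace `τ` with `τ² = τ + 1` gives fifth power `-1` -/
theorem pow5_of_trace {g : Matrix.SpecialLinearGroup (Fin 2) F} {τ : F}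
    (h : (g : Matrix (Fin 2) (Fin 2) F).trace = τ) (hτ : τ ^ 2 = τ + 1) : g ^ 5 = -1 := by
  apply Subtype.ext
  have h2 := sq_eq g
  rw [Matrix.SpecialLinearGroup.coe_pow, pow5 h2, h, Matrix.SpecialLinearGroup.coe_neg,
    Matrix.SpecialLinearGroup.coe_one]
  have e1 : τ ^ 4 - 3 * τ ^ 2 + 1 = 0 := by
    have : τ ^ 4 = (τ ^ 2) ^ 2 := by ring
    rw [this, hτ]; linear_combination hτ
  have e2 : τ ^ 3 - 2 * τ = 1 := by
    have : τ ^ 3 = τ * τ ^ 2 := by ring
    rw [this, hτ]; linear_combination hτ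
  rw [e1, e2, zero_smul, zero_sub, one_smul]

/-- an element of order 5 of `SL₂` has trace `τ` or `-τ` with `τ² = τ + 1` -/
theorem exists_tau_of_order_five (h2 : (2 : F) ≠ 0) (g : Matrix.SpecialLinearGroup (Fin 2) F)
    (hg : orderOf g = 5) : ∃ τ : F, τ ^ 2 = τ + 1 := by
  obtain ⟨t, ht⟩ : ∃ t : F, t = (g : Matrix (Fin 2) (Fin 2) F).trace := ⟨_, rfl⟩
  have hsq := sq_eq g
  rw [← ht] at hsq
  have h5 := pow5 hsq
  have hg5 : g ^ 5 = 1 := by rw [← hg]; exact pow_orderOf_eq_one g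
  have hg5' : (g : Matrix (Fin 2) (Fin 2) F) ^ 5 = 1 := by
    rw [← Matrix.SpecialLinearGroup.coe_pow, hg5, Matrix.SpecialLinearGroup.coe_one]
  rw [hg5'] at h5
  by_cases hz : t ^ 4 - 3 * t ^ 2 + 1 = 0
  · have hfac : (t ^ 2 - t - 1) * (t ^ 2 + t - 1) = 0 := by linear_combination hz
    rcases mul_eq_zero.1 hfac with h | h
    · exact ⟨t, by linear_combination h⟩
    · exact ⟨-t, by linear_combination h⟩
  · exfalso
    -- `g` is scalar
    obtain ⟨s, hs⟩ : ∃ s : F, (g : Matrix (Fin 2) (Fin 2) F) = s • 1 := by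
      refine ⟨(t ^ 4 - 3 * t ^ 2 + 1)⁻¹ * (1 + (t ^ 3 - 2 * t)), ?_⟩
      have e : (t ^ 4 - 3 * t ^ 2 + 1) • (g : Matrix (Fin 2) (Fin 2) F) =
          (1 + (t ^ 3 - 2 * t)) • (1 : Matrix (Fin 2) (Fin 2) F) := by
        have e' : (1 + (t ^ 3 - 2 * t)) • (1 : Matrix (Fin 2) (Fin 2) F) =
            1 + (t ^ 3 - 2 * t) • (1 : Matrix (Fin 2) (Fin 2) F) := by rw [add_smul, one_smul]
        rw [e']
        rw [eq_sub_iff_add_eq] at h5
        exact h5.symm
      rw [mul_smul, ← e, smul_smul, inv_mul_cancel₀ hz, one_smul]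
    have hdet := g.det_coe
    rw [hs, Matrix.det_smul, Matrix.det_one, Fintype.card_fin, mul_one] at hdet
    have hs1 : (s - 1) * (s + 1) = 0 := by linear_combination hdet
    have hg1 : g ≠ 1 := by
      intro h
      rw [h, orderOf_one] at hg
      omega
    rcases mul_eq_zero.1 hs1 with h | h
    · apply hg1
      apply Subtype.ext
      rw [hs, sub_eq_zero.1 h, one_smul, Matrix.SpecialLinearGroup.coe_one]
    · have hsm : s = -1 := eq_neg_of_add_eq_zero_left h
      rw [hs, hsm, smul_pow, one_pow] at hg5'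
      have e00 := congrFun (congrFun hg5' 0) 0
      simp only [Matrix.smul_apply, Matrix.one_apply_eq, smul_eq_mul, mul_one] at e00
      apply h2
      have : (-1 : F) ^ 5 = -1 := by ring
      rw [this] at e00
      linear_combination -e00

end SL2A5

end Cfsg.Agent.Lib.Helper2
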