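import Mathlib

set_option autoImplicit false

/-!
A group generated by `a`, `c` with `a² = c⁵ = (ac)³ = 1` has order at most 60.
-/

namespace Cfsg.Agent.Lib.Helper2

namespace Tri235

variable {G : Type*} [Group G] {a c : G}

section rel

variable (ha : a * a = 1) (hc : c ^ 5 = 1) (hac : a * c * a * c * a * c = 1)

include ha in
theorem inv_a : a⁻¹ = a := inv_eq_of_mul_eq_one_right ha

include hc in
theorem inv_c : c⁻¹ = c ^ 4 := by
  apply inv_eq_of_mul_eq_one_right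
  rw [← pow_succ', hc]

include hc in
theorem inv_c2 : c⁻¹ * c⁻¹ = c ^ 3 := by
  rw [← mul_inv_rev, inv_eq_iff_mul_eq_one, ← pow_two, ← pow_add, hc]

include hc in
theorem inv_c3 : c⁻¹ * c⁻¹ * c⁻¹ = c ^ 2 := by
  have : c⁻¹ * c⁻¹ * c⁻¹ = (c ^ 3)⁻¹ := by
    simp only [pow_succ, pow_zero, one_mul, mul_inv_rev, mul_assoc]
  rw [this, inv_eq_iff_mul_eq_one, ← pow_add, hc]

include ha hac in
theorem R2 : c * a * c = a * c⁻¹ * a := by
  have h1 : c * a * c = (a * c * a)⁻¹ := by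
    rw [eq_inv_iff_mul_eq_one]
    have : c * a * c * (a * c * a) = a⁻¹ * (a * c * a * c * a * c) * a := by
      simp only [mul_assoc, inv_mul_cancel_left]
    rw [this, hac, mul_one, inv_mul_cancel]
  rw [h1, mul_inv_rev, mul_inv_rev, inv_a ha, mul_assoc]

include ha hac in
theorem R1 : a * c * a = c⁻¹ * a * c⁻¹ := by
  have h := congrArg Inv.inv (R2 ha hac)
  rw [mul_inv_rev, mul_inv_rev, mul_inv_rev, mul_inv_rev, inv_inv, inv_a ha] at h
  rw [mul_assoc, ← h, mul_assoc]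

include ha hc hac in
theorem cac_sq : c * a * c * (c * a * c) = a * c ^ 3 * a := by
  rw [R2 ha hac]
  have : a * c⁻¹ * a * (a * c⁻¹ * a) = a * c⁻¹ * (a * a) * c⁻¹ * a := by
    simp only [mul_assoc]
  rw [this, ha, mul_one, mul_assoc a, inv_c2 hc]

include ha hc hac in
theorem cac_cube : c * a * c * (c * a * c) * (c * a * c) = a * c ^ 2 * a := by
  rw [R2 ha hac]
  have : a * c⁻¹ * a * (a * c⁻¹ * a) * (a * c⁻¹ * a) =
      a * (c⁻¹ * (a * a) * c⁻¹ * (a * a) * c⁻¹) * a := by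
    simp only [mul_assoc]
  rw [this, ha, mul_one, mul_one, inv_c3 hc]

include ha hc hac in
theorem I1 : a * c * a * c = c ^ 4 * a := by
  rw [R1 ha hac, ← inv_c hc, mul_assoc, inv_mul_cancel, mul_one]

include ha hc hac in
theorem I2 : a * c ^ 3 * a = c * (a * c ^ 2 * a * c) := by
  rw [← cac_sq ha hc hac]
  simp only [pow_succ, pow_zero, one_mul, mul_assoc]

include ha hc hac in
theorem I3 : a * c ^ 3 * c = c * (a * c * a) := by
  have : c * (a * c * a) = c * a * c * a := by simp only [mul_assoc]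
  rw [this, R2 ha hac, mul_assoc _ a a, ha, mul_one, inv_c hc, mul_assoc, ← pow_succ]

include ha hc hac in
theorem I4 : a * c ^ 2 * a * c * a = c ^ 4 * (a * c ^ 3) := by
  have h := I2 ha hc hac
  have h2 : a * c ^ 3 = c * (a * c ^ 2 * a * c) * a := by
    rw [← h, mul_assoc, ha, mul_one]
  rw [h2, ← inv_c hc]
  simp only [mul_assoc, inv_mul_cancel_left]

include ha hc hac in
theorem I5 : a * c ^ 2 * a * c ^ 2 * a * c = c ^ 4 * (a * c ^ 2 * a) := by
  have h := cac_cube ha hc hac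
  have : a * c ^ 2 * a * c ^ 2 * a * c = c⁻¹ * (c * a * c * (c * a * c) * (c * a * c)) := by
    simp only [pow_succ, pow_zero, one_mul, mul_assoc, inv_mul_cancel_left]
  rw [this, h, inv_c hc]

include ha hc hac in
theorem I6 : a * c ^ 2 * a * c ^ 3 * c = c * (a * c ^ 2 * a * c ^ 2 * a) := by
  have e1 : c * (a * c ^ 2 * a * c ^ 2 * a) = c * a * c * (c * a * c) * (c * a) := by
    simp only [pow_succ, pow_zero, one_mul, mul_assoc]
  rw [e1, cac_sq ha hc hac]
  have e2 : a * c ^ 3 * a * (c * a) = a * c ^ 3 * (a * c * a) := by simp only [mul_assoc]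
  rw [e2, R1 ha hac]
  have e3 : a * c ^ 3 * (c⁻¹ * a * c⁻¹) = a * c ^ 2 * a * c⁻¹ := by
    simp only [pow_succ, pow_zero, one_mul, mul_assoc, mul_inv_cancel_left]
  rw [e3, inv_c hc, mul_assoc (a * c ^ 2 * a), ← pow_succ]

include ha hc hac in
theorem I7 : a * c ^ 2 * a * c ^ 3 * a * c = c ^ 4 * (a * c ^ 2 * a * c ^ 3 * a) := by
  have h2 := I2 ha hc hac
  have hy : c * (a * c ^ 2 * a) * c = a * c ^ 3 * a := by
    rw [h2]; simp only [mul_assoc]
  have hyc : a * c ^ 2 * a * c = c⁻¹ * (a * c ^ 3 * a) := by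
    rw [← hy]; simp only [mul_assoc, inv_mul_cancel_left]
  have e1 : a * c ^ 2 * a * c ^ 3 * a * c =
      c⁻¹ * ((c * (a * c ^ 2 * a) * c) * (c ^ 2 * a * c)) := by
    simp only [pow_succ, pow_zero, one_mul, mul_assoc, inv_mul_cancel_left]
  rw [e1, hy]
  have e2 : a * c ^ 3 * a * (c ^ 2 * a * c) = a * c ^ 3 * (a * c ^ 2 * a * c) := by
    simp only [mul_assoc]
  rw [e2, hyc, inv_c hc]
  have e3 : a * c ^ 3 * (c ^ 4 * (a * c ^ 3 * a)) = a * (c ^ 5 * c ^ 2) * a * c ^ 3 * a := by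
    simp only [pow_succ, pow_zero, one_mul, mul_assoc]
  rw [e3, hc, one_mul]

end rel

end Tri235

end Cfsg.Agent.Lib.Helper2
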