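import Mathlib
import Cfsg.Agent.Lib.Helper2.Tri235a

set_option autoImplicit false

namespace Cfsg.Agent.Lib.Helper2

namespace Tri235

variable {G : Type*} [Group G]

/-- coset representatives of `⟨c⟩` -/
def w (a c : G) : Fin 12 → G :=
  ![1, a, a * c, a * c * a, a * c ^ 2, a * c ^ 2 * a, a * c ^ 3, a * c ^ 2 * a * c,
    a * c ^ 2 * a * c ^ 2, a * c ^ 2 * a * c ^ 2 * a, a * c ^ 2 * a * c ^ 3,
    a * c ^ 2 * a * c ^ 3 * a]

variable {a c : G}

section rel

variable (ha : a * a = 1) (hc : c ^ 5 = 1) (hac : a * c * a * c * a * c = 1)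

include ha hc hac in
theorem step_a (j : Fin 12) : ∃ (k : ℕ) (j' : Fin 12), w a c j * a = c ^ k * w a c j' := by
  fin_cases j
  · exact ⟨0, 1, by show 1 * a = c ^ 0 * a; rw [pow_zero]⟩
  · exact ⟨0, 0, by show a * a = c ^ 0 * 1; rw [ha, pow_zero, one_mul]⟩
  · exact ⟨0, 3, by show a * c * a = c ^ 0 * (a * c * a); rw [pow_zero, one_mul]⟩
  · exact ⟨0, 2, by show a * c * a * a = c ^ 0 * (a * c); rw [pow_zero, one_mul, mul_assoc, ha, mul_one]⟩
  · exact ⟨0, 5, by show a * c ^ 2 * a = c ^ 0 * (a * c ^ 2 * a); rw [pow_zero, one_mul]⟩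
  · exact ⟨0, 4, by
      show a * c ^ 2 * a * a = c ^ 0 * (a * c ^ 2); rw [pow_zero, one_mul, mul_assoc, ha, mul_one]⟩
  · exact ⟨1, 7, by
      show a * c ^ 3 * a = c ^ 1 * (a * c ^ 2 * a * c); rw [pow_one]; exact I2 ha hc hac⟩
  · exact ⟨4, 6, by
      show a * c ^ 2 * a * c * a = c ^ 4 * (a * c ^ 3); exact I4 ha hc hac⟩
  · exact ⟨0, 9, by
      show a * c ^ 2 * a * c ^ 2 * a = c ^ 0 * (a * c ^ 2 * a * c ^ 2 * a); rw [pow_zero, one_mul]⟩
  · exact ⟨0, 8, by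
      show a * c ^ 2 * a * c ^ 2 * a * a = c ^ 0 * (a * c ^ 2 * a * c ^ 2)
      rw [pow_zero, one_mul, mul_assoc, ha, mul_one]⟩
  · exact ⟨0, 11, by
      show a * c ^ 2 * a * c ^ 3 * a = c ^ 0 * (a * c ^ 2 * a * c ^ 3 * a); rw [pow_zero, one_mul]⟩
  · exact ⟨0, 10, by
      show a * c ^ 2 * a * c ^ 3 * a * a = c ^ 0 * (a * c ^ 2 * a * c ^ 3)
      rw [pow_zero, one_mul, mul_assoc, ha, mul_one]⟩

include ha hc hac in
theorem step_c (j : Fin 12) : ∃ (k : ℕ) (j' : Fin 12), w a c j * c = c ^ k * w a c j' := by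
  fin_cases j
  · exact ⟨1, 0, by show 1 * c = c ^ 1 * 1; rw [pow_one, one_mul, mul_one]⟩
  · exact ⟨0, 2, by show a * c = c ^ 0 * (a * c); rw [pow_zero, one_mul]⟩
  · exact ⟨0, 4, by show a * c * c = c ^ 0 * (a * c ^ 2); rw [pow_zero, one_mul, pow_two, mul_assoc]⟩
  · exact ⟨4, 1, by show a * c * a * c = c ^ 4 * a; exact I1 ha hc hac⟩
  · exact ⟨0, 6, by
      show a * c ^ 2 * c = c ^ 0 * (a * c ^ 3); rw [pow_zero, one_mul, mul_assoc, ← pow_succ]⟩
  · exact ⟨0, 7, by show a * c ^ 2 * a * c = c ^ 0 * (a * c ^ 2 * a * c); rw [pow_zero, one_mul]⟩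
  · exact ⟨1, 3, by show a * c ^ 3 * c = c ^ 1 * (a * c * a); rw [pow_one]; exact I3 ha hc hac⟩
  · exact ⟨0, 8, by
      show a * c ^ 2 * a * c * c = c ^ 0 * (a * c ^ 2 * a * c ^ 2)
      rw [pow_zero, one_mul, mul_assoc (a * c ^ 2 * a), ← pow_two]⟩
  · exact ⟨0, 10, by
      show a * c ^ 2 * a * c ^ 2 * c = c ^ 0 * (a * c ^ 2 * a * c ^ 3)
      rw [pow_zero, one_mul, mul_assoc (a * c ^ 2 * a), ← pow_succ]⟩
  · exact ⟨4, 5, by
      show a * c ^ 2 * a * c ^ 2 * a * c = c ^ 4 * (a * c ^ 2 * a); exact I5 ha hc hac⟩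
  · exact ⟨1, 9, by
      show a * c ^ 2 * a * c ^ 3 * c = c ^ 1 * (a * c ^ 2 * a * c ^ 2 * a)
      rw [pow_one]; exact I6 ha hc hac⟩
  · exact ⟨4, 11, by
      show a * c ^ 2 * a * c ^ 3 * a * c = c ^ 4 * (a * c ^ 2 * a * c ^ 3 * a)
      exact I7 ha hc hac⟩

/-- the 60-element set -/
def T (a c : G) : Set G := {x | ∃ (i : ℕ) (j : Fin 12), x = c ^ i * w a c j}

include ha hc hac in
theorem T_mul_a {x : G} (hx : x ∈ T a c) : x * a ∈ T a c := by
  obtain ⟨i, j, rfl⟩ := hx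
  obtain ⟨k, j', h⟩ := step_a ha hc hac j
  exact ⟨i + k, j', by rw [mul_assoc, h, ← mul_assoc, ← pow_add]⟩

include ha hc hac in
theorem T_mul_c {x : G} (hx : x ∈ T a c) : x * c ∈ T a c := by
  obtain ⟨i, j, rfl⟩ := hx
  obtain ⟨k, j', h⟩ := step_c ha hc hac j
  exact ⟨i + k, j', by rw [mul_assoc, h, ← mul_assoc, ← pow_add]⟩

include ha hc hac in
theorem closure_le_T : ∀ x ∈ Subgroup.closure ({a, c} : Set G), x ∈ T a c := by
  intro x hx
  induction hx using Subgroup.closure_induction_right with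
  | one => exact ⟨0, 0, by show (1 : G) = c ^ 0 * 1; rw [pow_zero, one_mul]⟩
  | mul_right x _ y hy ih =>
    rcases hy with rfl | rfl
    · exact T_mul_a ha hc hac ih
    · exact T_mul_c ha hc hac ih
  | mul_inv_cancel x _ y hy ih =>
    rcases hy with rfl | rfl
    · rw [inv_a ha]; exact T_mul_a ha hc hac ih
    · rw [inv_c hc]
      have h1 := T_mul_c ha hc hac ih
      have h2 := T_mul_c ha hc hac h1
      have h3 := T_mul_c ha hc hac h2
      have h4 := T_mul_c ha hc hac h3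
      have : x * y ^ 4 = x * y * y * y * y := by
        simp only [pow_succ, pow_zero, one_mul, mul_assoc]
      rw [this]; exact h4

include ha hc hac in
theorem card_closure_le :
    Finite (Subgroup.closure ({a, c} : Set G)) ∧
      Nat.card (Subgroup.closure ({a, c} : Set G)) ≤ 60 := by
  classical
  have key : ∀ x : Subgroup.closure ({a, c} : Set G),
      ∃ p : Fin 5 × Fin 12, (x : G) = c ^ (p.1 : ℕ) * w a c p.2 := by
    intro x
    obtain ⟨i, j, h⟩ := closure_le_T ha hc hac x.1 x.2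
    refine ⟨(⟨i % 5, Nat.mod_lt _ (by norm_num)⟩, j), ?_⟩
    rw [h]
    congr 1
    show c ^ i = c ^ (i % 5)
    conv_lhs => rw [← Nat.div_add_mod i 5]
    rw [pow_add, pow_mul, hc, one_pow, one_mul]
  choose f hf using key
  have hinj : Function.Injective f := by
    intro x y hxy
    apply Subtype.ext
    rw [hf x, hf y, hxy]
  have hfin : Finite (Subgroup.closure ({a, c} : Set G)) := Finite.of_injective f hinj
  refine ⟨hfin, ?_⟩
  have := Nat.card_le_card_of_injective f hinj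
  simpa using this

end rel

end Tri235

end Cfsg.Agent.Lib.Helper2
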