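import Mathlib
import Cfsg.Agent.Lib.Helper2.Tri235b
import Cfsg.Agent.S0219

set_option autoImplicit false

namespace Cfsg.Agent.Lib.Helper2

namespace Tri235

/-- `G` is generated by `a`, `b` with `a² = b³ = (ab)⁵ = 1` -/
structure Gen (G : Type*) [Group G] (a b : G) : Prop where
  ha : a * a = 1
  hb : b ^ 3 = 1
  hab : (a * b) ^ 5 = 1
  top : Subgroup.closure ({a, b} : Set G) = ⊤

variable {G : Type*} [Group G] {a b : G}

theorem Gen.closure_ac (h : Gen G a b) : Subgroup.closure ({a, a * b} : Set G) = ⊤ := by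
  rw [eq_top_iff, ← h.top, Subgroup.closure_le]
  rintro x (rfl | rfl)
  · exact Subgroup.subset_closure (by simp)
  · have ha : a ∈ Subgroup.closure ({a, a * x} : Set G) := Subgroup.subset_closure (by simp)
    have hax : a * x ∈ Subgroup.closure ({a, a * x} : Set G) := Subgroup.subset_closure (by simp)
    have hx := Subgroup.mul_mem _ (Subgroup.inv_mem _ ha) hax
    rwa [inv_mul_cancel_left] at hx

theorem Gen.finite_card_le (h : Gen G a b) : Finite G ∧ Nat.card G ≤ 60 := by
  have hac : a * (a * b) * a * (a * b) * a * (a * b) = 1 := by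
    have e : a * (a * b) * a * (a * b) * a * (a * b) = (a * a) * b * ((a * a) * b) * ((a * a) * b) := by
      simp only [mul_assoc]
    rw [e, h.ha, one_mul, ← pow_two, ← pow_succ]
    exact h.hb
  obtain ⟨hfin, hle⟩ := card_closure_le h.ha h.hab hac
  rw [h.closure_ac] at hfin hle
  have e : (⊤ : Subgroup G) ≃ G := Subgroup.topEquiv.toEquiv
  refine ⟨Finite.of_equiv _ e, ?_⟩
  rwa [Nat.card_congr e] at hle

theorem Gen.quot (h : Gen G a b) (N : Subgroup G) [N.Normal] :
    Gen (G ⧸ N) (QuotientGroup.mk a) (QuotientGroup.mk b) := by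
  refine ⟨?_, ?_, ?_, ?_⟩
  · rw [← QuotientGroup.mk_mul, h.ha]; rfl
  · rw [← QuotientGroup.mk_pow, h.hb]; rfl
  · rw [← QuotientGroup.mk_mul, ← QuotientGroup.mk_pow, h.hab]; rfl
  · have h1 := MonoidHom.map_closure (QuotientGroup.mk' N) ({a, b} : Set G)
    rw [h.top, Subgroup.map_top_of_surjective _ (QuotientGroup.mk'_surjective N)] at h1
    rw [h1]
    congr 1
    ext x
    simp [Set.image_pair]

theorem Gen.trivial_of (h : Gen G a b) (h1 : a = 1 ∨ b = 1 ∨ a * b = 1) : ∀ g : G, g = 1 := by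
  have hab1 : a = 1 ∧ b = 1 := by
    rcases h1 with h1 | h1 | h1
    · refine ⟨h1, ?_⟩
      have h5 := h.hab
      rw [h1, one_mul] at h5
      have : b = (b ^ 3) ^ 2 * (b ^ 5)⁻¹ := by
        rw [← pow_mul, eq_mul_inv_iff_mul_eq, ← pow_succ']
      rw [this, h.hb, h5]; simp
    · refine ⟨?_, h1⟩
      have h5 := h.hab
      rw [h1, mul_one] at h5
      have h2 : a ^ 2 = 1 := by rw [pow_two]; exact h.ha
      have : a = a ^ 5 * ((a ^ 2) ^ 2)⁻¹ := by
        rw [← pow_mul, eq_mul_inv_iff_mul_eq, ← pow_succ']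
      rw [this, h2, h5]; simp
    · have hb : b = a := by
        have : b = a⁻¹ := (inv_eq_of_mul_eq_one_right h1).symm
        rw [this, inv_a h.ha]
      have h3 := h.hb
      rw [hb] at h3
      have h2 : a ^ 2 = 1 := by rw [pow_two]; exact h.ha
      have ha1 : a = 1 := by
        have : a = a ^ 3 * (a ^ 2)⁻¹ := by
          rw [eq_mul_inv_iff_mul_eq, ← pow_succ']
        rw [this, h2, h3]; simp
      exact ⟨ha1, hb.trans ha1⟩
  intro g
  have hg : g ∈ Subgroup.closure ({a, b} : Set G) := by rw [h.top]; trivial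
  rw [hab1.1, hab1.2] at hg
  have : Subgroup.closure ({1, 1} : Set G) = ⊥ := by
    rw [Subgroup.closure_eq_bot_iff]
    rintro x (rfl | rfl) <;> rfl
  rw [this, Subgroup.mem_bot] at hg
  exact hg

theorem Gen.thirty_dvd (h : Gen G a b) (hne : ∃ g : G, g ≠ 1) : 30 ∣ Nat.card G := by
  haveI := h.finite_card_le.1
  have ha1 : a ≠ 1 := fun e => by
    obtain ⟨g, hg⟩ := hne
    exact hg (h.trivial_of (Or.inl e) g)
  have hb1 : b ≠ 1 := fun e => by
    obtain ⟨g, hg⟩ := hne
    exact hg (h.trivial_of (Or.inr (Or.inl e)) g)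
  have hab1 : a * b ≠ 1 := fun e => by
    obtain ⟨g, hg⟩ := hne
    exact hg (h.trivial_of (Or.inr (Or.inr e)) g)
  haveI : Fact (Nat.Prime 2) := ⟨Nat.prime_two⟩
  haveI : Fact (Nat.Prime 3) := ⟨Nat.prime_three⟩
  haveI : Fact (Nat.Prime 5) := ⟨Nat.prime_five⟩
  have o2 : orderOf a = 2 := orderOf_eq_prime (by rw [pow_two]; exact h.ha) ha1
  have o3 : orderOf b = 3 := orderOf_eq_prime h.hb hb1
  have o5 : orderOf (a * b) = 5 := orderOf_eq_prime h.hab hab1
  have d2 : 2 ∣ Nat.card G := o2 ▸ orderOf_dvd_natCard a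
  have d3 : 3 ∣ Nat.card G := o3 ▸ orderOf_dvd_natCard b
  have d5 : 5 ∣ Nat.card G := o5 ▸ orderOf_dvd_natCard (a * b)
  have d6 : 6 ∣ Nat.card G := Nat.Coprime.mul_dvd_of_dvd_of_dvd (by norm_num) d2 d3
  exact Nat.Coprime.mul_dvd_of_dvd_of_dvd (by norm_num) d6 d5

theorem Gen.card_ne_thirty (h : Gen G a b) : Nat.card G ≠ 30 := by
  intro h30
  haveI := h.finite_card_le.1
  haveI : Fact (Nat.Prime 2) := ⟨Nat.prime_two⟩
  let S : Sylow 2 G := default
  have hS : Nat.card S = 2 := by
    rw [Sylow.card_eq_multiplicity, h30]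
    have : (30 : ℕ).factorization 2 = 1 := by
      have : (30 : ℕ) = 2 ^ 1 * 15 := by norm_num
      rw [this, Nat.factorization_mul (by norm_num) (by norm_num), Finsupp.add_apply,
        Nat.factorization_pow, Finsupp.smul_apply, Nat.prime_two.factorization_self,
        Nat.factorization_eq_zero_of_not_dvd (by norm_num : ¬ 2 ∣ 15)]
      norm_num
    rw [this]; norm_num
  have hcyc : IsCyclic (S : Subgroup G) := isCyclic_of_prime_card hS
  obtain ⟨H, hH⟩ := Cfsg.Agent.S0219.result (by rw [h30]; decide) S hcyc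
  haveI : H.Normal := Subgroup.normal_of_index_eq_two hH
  have hq := h.quot H
  have hcard : Nat.card (G ⧸ H) = 2 := hH
  have hne : ∃ g : G ⧸ H, g ≠ 1 := by
    by_contra hcon
    push Not at hcon
    have : Nat.card (G ⧸ H) = 1 := by
      haveI : Subsingleton (G ⧸ H) := ⟨fun x y => (hcon x).trans (hcon y).symm⟩
      exact Nat.card_unique
    omega
  have := hq.thirty_dvd hne
  rw [hcard] at this
  omega

theorem Gen.card_eq_sixty (h : Gen G a b) (hne : ∃ g : G, g ≠ 1) : Nat.card G = 60 := by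
  have h1 := h.finite_card_le.2
  have h2 := h.thirty_dvd hne
  have h3 := h.card_ne_thirty
  haveI := h.finite_card_le.1
  have hpos : 0 < Nat.card G := Nat.card_pos
  obtain ⟨k, hk⟩ := h2
  have : k = 1 ∨ k = 2 := by omega
  rcases this with rfl | rfl <;> omega

theorem Gen.isSimpleGroup (h : Gen G a b) (hne : ∃ g : G, g ≠ 1) : IsSimpleGroup G := by
  haveI := h.finite_card_le.1
  haveI : Nontrivial G := by
    obtain ⟨g, hg⟩ := hne
    exact ⟨⟨g, 1, hg⟩⟩
  refine ⟨fun N hN => ?_⟩
  by_cases hN1 : N = ⊤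
  · exact Or.inr hN1
  · left
    haveI := hN
    have hq := h.quot N
    have hne' : ∃ g : G ⧸ N, g ≠ 1 := by
      by_contra hcon
      push Not at hcon
      apply hN1
      rw [eq_top_iff]
      intro g _
      have := hcon (QuotientGroup.mk g)
      exact (QuotientGroup.eq_one_iff g).1 this
    have h60 := hq.card_eq_sixty hne'
    have h60' := h.card_eq_sixty hne
    have hidx : N.index = 60 := h60
    have := Subgroup.card_mul_index N
    rw [hidx, h60'] at this
    have hN1' : Nat.card N = 1 := by omega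
    exact Subgroup.card_eq_one.1 hN1'

end Tri235

end Cfsg.Agent.Lib.Helper2
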