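import Mathlib
import Cfsg.Agent.Lib.Helper2.SL2A5a
import Cfsg.Agent.Lib.Helper2.Tri235c
import Cfsg.Agent.Lib.Helper1.SL2Torus
import Cfsg.Agent.Lib.Helper1.SL2Quat
import Cfsg.Agent.S0494

set_option autoImplicit false

namespace Cfsg.Agent.Lib.Helper2

namespace SL2A5

variable {F : Type*} [Field F]

theorem exists_conic [Fintype F] (hodd : Fintype.card F % 2 = 1) (τ : F) :
    ∃ y₁ y₂ : F, y₁ ^ 2 - y₁ + (y₂ ^ 2 + τ * y₂ + 1) = 0 := by
  open Polynomial in
  have hf : degree (C (1 : F) * X ^ 2 + C (-1 : F) * X + C 0) = 2 :=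
    degree_quadratic one_ne_zero
  open Polynomial in
  have hg : degree (C (1 : F) * X ^ 2 + C τ * X + C 1) = 2 :=
    degree_quadratic one_ne_zero
  obtain ⟨a, b, hab⟩ := FiniteField.exists_root_sum_quadratic hf hg hodd
  refine ⟨a, b, ?_⟩
  simp only [Polynomial.eval_add, Polynomial.eval_mul, Polynomial.eval_C, Polynomial.eval_pow,
    Polynomial.eval_X] at hab
  linear_combination hab

/-- the standard element of trace 0 -/
def Xm : Matrix.SpecialLinearGroup (Fin 2) F :=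
  ⟨!![0, 1; -1, 0], by rw [Matrix.det_fin_two_of]; ring⟩

/-- an element of trace 1 whose product with `Xm` has trace `τ` -/
def Ym (y₁ y₂ τ : F) (h : y₁ ^ 2 - y₁ + (y₂ ^ 2 + τ * y₂ + 1) = 0) :
    Matrix.SpecialLinearGroup (Fin 2) F :=
  ⟨!![y₁, y₂; τ + y₂, 1 - y₁], by rw [Matrix.det_fin_two_of]; linear_combination -h⟩

theorem trace_Xm : ((Xm : Matrix.SpecialLinearGroup (Fin 2) F) :
    Matrix (Fin 2) (Fin 2) F).trace = 0 := by
  simp [Xm, Matrix.trace_fin_two]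

theorem trace_Ym (y₁ y₂ τ : F) (h : y₁ ^ 2 - y₁ + (y₂ ^ 2 + τ * y₂ + 1) = 0) :
    ((Ym y₁ y₂ τ h : Matrix.SpecialLinearGroup (Fin 2) F) :
      Matrix (Fin 2) (Fin 2) F).trace = 1 := by
  simp [Ym, Matrix.trace_fin_two]

theorem trace_XY (y₁ y₂ τ : F) (h : y₁ ^ 2 - y₁ + (y₂ ^ 2 + τ * y₂ + 1) = 0) :
    ((Xm * Ym y₁ y₂ τ h : Matrix.SpecialLinearGroup (Fin 2) F) :
      Matrix (Fin 2) (Fin 2) F).trace = τ := by
  rw [Matrix.SpecialLinearGroup.coe_mul]
  simp [Xm, Ym, Matrix.trace_fin_two, Matrix.mul_apply, Fin.sum_univ_two]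

theorem Xm_not_center (h2 : (2 : F) ≠ 0) :
    (Xm : Matrix.SpecialLinearGroup (Fin 2) F) ∉
      Subgroup.center (Matrix.SpecialLinearGroup (Fin 2) F) := by
  intro h
  rw [SL2Four.mem_center_iff'] at h
  rcases h with h | h
  · have := congrArg (fun A : Matrix.SpecialLinearGroup (Fin 2) F =>
      (A : Matrix (Fin 2) (Fin 2) F) 0 1) h
    simp [Xm] at this
  · have := congrArg (fun A : Matrix.SpecialLinearGroup (Fin 2) F =>
      (A : Matrix (Fin 2) (Fin 2) F) 0 1) h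
    simp [Xm] at this

variable [Fintype F]

local notation "P" => Matrix.ProjectiveSpecialLinearGroup (Fin 2) F

theorem mk_neg_one : (QuotientGroup.mk (-1 : Matrix.SpecialLinearGroup (Fin 2) F) : P) = 1 := by
  rw [SL2Four.mk_neg]; rfl

theorem exists_A5_odd (hodd : Odd (Fintype.card F))
    (h5 : 5 ∣ Fintype.card F * (Fintype.card F ^ 2 - 1)) :
    ∃ H : Subgroup P, Nonempty (H ≃* alternatingGroup (Fin 5)) := by
  classical
  have h2 : (2 : F) ≠ 0 := Cfsg.Agent.Lib.Helper1.two_ne_zero_of_odd_card hodd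
  haveI : Fact (Nat.Prime 5) := ⟨Nat.prime_five⟩
  have hcard := Cfsg.Agent.Lib.Helper1.card_SL2 (F := F)
  obtain ⟨g, hg⟩ := exists_prime_orderOf_dvd_card' (G := Matrix.SpecialLinearGroup (Fin 2) F) 5
    (by rw [hcard]; exact h5)
  obtain ⟨τ, hτ⟩ := exists_tau_of_order_five h2 g hg
  obtain ⟨y₁, y₂, hy⟩ := exists_conic (Nat.odd_iff.1 hodd) τ
  set X : Matrix.SpecialLinearGroup (Fin 2) F := Xm with hX
  set Y : Matrix.SpecialLinearGroup (Fin 2) F := Ym y₁ y₂ τ hy with hY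
  have hXX : X * X = -1 := sq_of_trace_zero trace_Xm
  have hY3 : Y ^ 3 = -1 := cube_of_trace_one (trace_Ym y₁ y₂ τ hy)
  have hXY5 : (X * Y) ^ 5 = -1 := pow5_of_trace (trace_XY y₁ y₂ τ hy) hτ
  set a : P := QuotientGroup.mk X with ha
  set b : P := QuotientGroup.mk Y with hb
  have haa : a * a = 1 := by rw [ha, ← QuotientGroup.mk_mul, hXX]; exact mk_neg_one
  have hb3 : b ^ 3 = 1 := by rw [hb, ← QuotientGroup.mk_pow, hY3]; exact mk_neg_one
  have hab5 : (a * b) ^ 5 = 1 := by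
    rw [ha, hb, ← QuotientGroup.mk_mul, ← QuotientGroup.mk_pow, hXY5]; exact mk_neg_one
  have ha1 : a ≠ 1 := by
    intro h
    rw [ha, QuotientGroup.eq_one_iff] at h
    exact Xm_not_center h2 h
  let K : Subgroup P := Subgroup.closure {a, b}
  have haK : a ∈ K := Subgroup.subset_closure (by simp)
  have hbK : b ∈ K := Subgroup.subset_closure (by simp)
  have hgen : Tri235.Gen K ⟨a, haK⟩ ⟨b, hbK⟩ := by
    refine ⟨Subtype.ext haa, Subtype.ext ?_, Subtype.ext ?_, ?_⟩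
    · rw [Subgroup.coe_pow]; exact hb3
    · rw [Subgroup.coe_pow]; exact hab5
    · have h1 := Subgroup.closure_closure_coe_preimage (k := ({a, b} : Set P))
      convert h1 using 2
      ext x
      simp only [Set.mem_insert_iff, Set.mem_singleton_iff, Set.mem_preimage, Subtype.ext_iff]
  have hne : ∃ x : K, x ≠ 1 := ⟨⟨a, haK⟩, fun h => ha1 (congrArg Subtype.val h)⟩
  haveI := hgen.isSimpleGroup hne
  haveI := hgen.finite_card_le.1
  exact ⟨K, Cfsg.Agent.S0494.result (hgen.card_eq_sixty hne)⟩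

end SL2A5

end Cfsg.Agent.Lib.Helper2
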