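import Mathlib
import Cfsg.Agent.Lib.Helper2.SL2Four5
import Cfsg.Agent.Lib.Helper5.SL2Torus

set_option autoImplicit false

namespace Cfsg.Agent.Lib.Helper2

namespace SL2S4

variable {F : Type*} [Field F]

theorem two_eq_zero_of_even_card [Fintype F] (hF : Even (Fintype.card F)) : (2 : F) = 0 := by
  have h1 : ringChar F = 2 :=
    (FiniteField.even_card_iff_char_two (F := F)).2 (Nat.even_iff.1 hF)
  have h2 := CharP.cast_eq_zero F (ringChar F)
  rw [h1] at h2
  exact_mod_cast h2

theorem neg_one_eq_one (h2 : (2 : F) = 0) : (-1 : Matrix.SpecialLinearGroup (Fin 2) F) = 1 := by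
  apply Subtype.ext
  rw [Matrix.SpecialLinearGroup.coe_neg, Matrix.SpecialLinearGroup.coe_one]
  have : (-1 : F) = 1 := by linear_combination -h2
  ext i j
  fin_cases i <;> fin_cases j <;> simp [this]

theorem center_eq_bot (h2 : (2 : F) = 0) :
    Subgroup.center (Matrix.SpecialLinearGroup (Fin 2) F) = ⊥ := by
  rw [eq_bot_iff]
  intro A hA
  rw [SL2Four.mem_center_iff'] at hA
  rw [Subgroup.mem_bot]
  rcases hA with h | h
  · exact h
  · rw [h, neg_one_eq_one h2]

theorem mk_injective (h2 : (2 : F) = 0) :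
    Function.Injective (QuotientGroup.mk :
      Matrix.SpecialLinearGroup (Fin 2) F → Matrix.ProjectiveSpecialLinearGroup (Fin 2) F) := by
  intro a b h
  rw [SL2Four.mk_eq_mk_iff] at h
  rcases h with h | h
  · exact h.symm
  · rw [h]
    have : -a = (-1 : Matrix.SpecialLinearGroup (Fin 2) F) * a := by rw [neg_mul, one_mul]
    rw [this, neg_one_eq_one h2, one_mul]

/-- in characteristic 2, `SL₂` has no element of order 4 -/
theorem sq_eq_one_of_pow_four (h2 : (2 : F) = 0) (g : Matrix.SpecialLinearGroup (Fin 2) F)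
    (h : g ^ 4 = 1) : g ^ 2 = 1 := by
  obtain ⟨M, hM⟩ : ∃ M : Matrix (Fin 2) (Fin 2) F, M = (g : Matrix (Fin 2) (Fin 2) F) := ⟨_, rfl⟩
  have hch := Cfsg.Agent.Lib.Helper5.cayley_two_sl g
  rw [← hM] at hch
  obtain ⟨t, ht⟩ : ∃ t : F, t = M.trace := ⟨_, rfl⟩
  rw [← ht] at hch
  have hneg : (-1 : Matrix (Fin 2) (Fin 2) F) = 1 := by
    have : (-1 : F) = 1 := by linear_combination -h2
    ext i j
    fin_cases i <;> fin_cases j <;> simp [this]
  have hMM : M * M = t • M + 1 := by
    have : M * M = t • M - 1 := by rw [← hch]; abel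
    rw [this, sub_eq_add_neg, hneg]
  have h4 : M ^ 4 = 1 := by
    have := congrArg (fun A : Matrix.SpecialLinearGroup (Fin 2) F =>
      (A : Matrix (Fin 2) (Fin 2) F)) h
    simp only [Matrix.SpecialLinearGroup.coe_pow, Matrix.SpecialLinearGroup.coe_one] at this
    rw [hM]; exact this
  have h5 : M ^ 4 = (t ^ 2) • (M * M) + 1 := by
    have e1 : M ^ 4 = (M * M) * (M * M) := by
      rw [show (4 : ℕ) = 2 + 2 from rfl, pow_add, pow_two]
    have e2 : (t • M + 1) * (t • M + 1) = (t ^ 2) • (M * M) + (2 : F) • (t • M) + 1 := by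
      rw [add_mul, mul_add, mul_add, Matrix.smul_mul, Matrix.mul_smul, smul_smul, mul_one, one_mul,
        mul_one, two_smul]
      rw [pow_two]
      abel
    rw [e1]
    nth_rewrite 1 [hMM]
    nth_rewrite 1 [hMM]
    rw [e2, h2, zero_smul, add_zero]
  have h6 : (t ^ 2) • (M * M) = 0 := by
    have := h5.symm.trans h4
    exact add_eq_right.1 this
  have hdet : (M * M).det = 1 := by
    rw [Matrix.det_mul, hM, g.det_coe, mul_one]
  have ht0 : t = 0 := by
    by_contra hne
    have h7 : M * M = 0 := by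
      have := congrArg (fun A => (t ^ 2)⁻¹ • A) h6
      simp only [smul_smul, smul_zero] at this
      rwa [inv_mul_cancel₀ (pow_ne_zero 2 hne), one_smul] at this
    rw [h7, Matrix.det_zero] at hdet
    exact zero_ne_one hdet
  apply Subtype.ext
  rw [Matrix.SpecialLinearGroup.coe_pow, Matrix.SpecialLinearGroup.coe_one, ← hM, pow_two, hMM, ht0,
    zero_smul, zero_add]

theorem psl_sq_eq_one_of_pow_four (h2 : (2 : F) = 0)
    (g : Matrix.ProjectiveSpecialLinearGroup (Fin 2) F) (h : g ^ 4 = 1) : g ^ 2 = 1 := by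
  obtain ⟨a, rfl⟩ := QuotientGroup.mk_surjective g
  rw [← QuotientGroup.mk_pow] at h ⊢
  have h1 : a ^ 4 = 1 := mk_injective h2 h
  rw [sq_eq_one_of_pow_four h2 a h1]
  rfl

end SL2S4

end Cfsg.Agent.Lib.Helper2
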