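import Mathlib
import Cfsg.Agent.Lib.Helper2.SL2A5b
import Cfsg.Agent.Lib.Helper2.PGLsub2
import Cfsg.Agent.Lib.Helper2.SL2S4b
import Cfsg.Agent.Lib.Helper5.FieldExt
import Cfsg.Agent.S0252

set_option autoImplicit false

namespace Cfsg.Agent.Lib.Helper2

namespace SL2A5

variable {F : Type*} [Field F] [Fintype F]

local notation "P" => Matrix.ProjectiveSpecialLinearGroup (Fin 2) F

theorem four_pow_mod (n : ℕ) : 4 ^ n % 5 = if Even n then 1 else 4 := by
  induction n with
  | zero => simp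
  | succ n ih =>
    rw [pow_succ, Nat.mul_mod, ih]
    by_cases h : Even n
    · have : ¬ Even (n + 1) := by rw [Nat.even_add_one]; exact not_not.2 h
      simp [h, this]
    · have : Even (n + 1) := by rw [Nat.even_add_one]; exact h
      simp [h, this]

theorem exists_A5_even (heven : Even (Fintype.card F))
    (h5 : 5 ∣ Fintype.card F * (Fintype.card F ^ 2 - 1)) :
    ∃ H : Subgroup P, Nonempty (H ≃* alternatingGroup (Fin 5)) := by
  classical
  haveI : Fact (Nat.Prime 2) := ⟨Nat.prime_two⟩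
  have hch : ringChar F = 2 :=
    (FiniteField.even_card_iff_char_two (F := F)).2 (Nat.even_iff.1 heven)
  obtain ⟨n, -, hn⟩ := FiniteField.card F (ringChar F)
  rw [hch] at hn
  -- `n` is even
  have hnev : Even (n : ℕ) := by
    by_contra hodd
    rw [hn] at h5
    have h4 : ((2 : ℕ) ^ (n : ℕ)) ^ 2 = 4 ^ (n : ℕ) := by rw [← pow_mul, mul_comm, pow_mul]; norm_num
    rw [h4] at h5
    have hcop : Nat.Coprime 5 (2 ^ (n : ℕ)) := Nat.Coprime.pow_right _ (by norm_num)
    have h6 : 5 ∣ 4 ^ (n : ℕ) - 1 := hcop.dvd_of_dvd_mul_left h5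
    have h7 := four_pow_mod (n : ℕ)
    rw [if_neg hodd] at h7
    have hpos : 0 < 4 ^ (n : ℕ) := pos_of_gt (Nat.one_le_pow _ _ (by norm_num))
    omega
  obtain ⟨k, hk⟩ := hnev
  have hk0 : 0 < k := by
    have := n.pos
    omega
  let K := GaloisField 2 2
  letI : Fintype K := Fintype.ofFinite K
  have hK : Fintype.card K = 4 := by
    rw [← Nat.card_eq_fintype_card, GaloisField.card 2 2 (by norm_num)]
    norm_num
  have hF' : Fintype.card F = 4 ^ k := by
    rw [hn, hk, ← two_mul, pow_mul]; norm_num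
  obtain ⟨alg, -⟩ := Cfsg.Agent.Lib.Helper5.FieldExt.exists_algebra (K := F) (F := K) k hk0 hF' hK
  obtain ⟨H, ⟨e⟩⟩ := PGLsub.exists_PSL (algebraMap K F)
  obtain ⟨e'⟩ := Cfsg.Agent.S0252.result (F := K) hK
  exact ⟨H, ⟨e.trans e'⟩⟩

end SL2A5

end Cfsg.Agent.Lib.Helper2
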