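import Mathlib
import Cfsg.Agent.Lib.Helper2.DSubM2
import Cfsg.Agent.S0804

set_option autoImplicit false
set_option linter.unusedSectionVars false
set_option linter.style.haveILetI false

/-!
# `PSL₂(q)` as a minimal simple group: nonsolvable proper subgroups
-/

namespace Cfsg.Agent.Lib.Helper2

namespace DSub

open Matrix
open scoped MatrixGroups

set_option maxRecDepth 100000 in
theorem A5_not_comm : ∃ a b : alternatingGroup (Fin 5), a * b ≠ b * a := by decide

theorem A5_not_solvable : ¬ Group.IsSolvable (alternatingGroup (Fin 5)) := by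
  intro h
  haveI := alternatingGroup.isSimpleGroup_five
  obtain ⟨a, b, hab⟩ := A5_not_comm
  exact hab (IsSimpleGroup.comm_iff_isSolvable.mpr h a b)

variable {F : Type*} [Field F] [Fintype F]

/-- `PSL₂(q)`, `q ≥ 4`, is not commutative -/
theorem psl_not_comm (h4 : 4 ≤ Fintype.card F) :
    ∃ a b : ProjectiveSpecialLinearGroup (Fin 2) F, a * b ≠ b * a := by
  obtain ⟨p, hchar⟩ := CharP.exists F
  haveI : Fact p.Prime := ⟨CharP.char_is_prime F p⟩
  obtain ⟨hpar, hnd, -⟩ := setup_psl (F := F) (by omega)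
  have h3 : 3 ≤ (Fintype.card F + 1) / Nat.gcd 2 (Fintype.card F - 1) := by
    rcases hpar with ⟨h1, hd⟩ | ⟨h1, hd⟩ <;> rw [hd] at hnd ⊢ <;> omega
  obtain ⟨N, ⟨e⟩⟩ := exists_dihedral_add p h3
  obtain ⟨s, t, -, -, hst⟩ := exists_involutions_of_dihedral
    (N.subtype.comp e.symm.toMonoidHom) (N.subtype_injective.comp e.symm.injective) h3
  exact ⟨s, t, hst⟩

theorem psl_not_solvable (h4 : 4 ≤ Fintype.card F) :
    ¬ Group.IsSolvable (ProjectiveSpecialLinearGroup (Fin 2) F) := by
  intro h
  haveI : IsSimpleGroup (ProjectiveSpecialLinearGroup (Fin 2) F) :=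
    Matrix.ProjectiveSpecialLinearGroup.rank_two_simple
      (by rw [Nat.card_eq_fintype_card]; exact h4)
  obtain ⟨a, b, hab⟩ := psl_not_comm h4
  exact hab (IsSimpleGroup.comm_iff_isSolvable.mpr h a b)

/-- the order of the field is determined by the order of the group -/
theorem card_field_eq_of_card_psl_eq (p : ℕ) [hp : Fact p.Prime] [CharP F p]
    {K : Type*} [Field K] [Fintype K] [CharP K p]
    (h : Nat.card (ProjectiveSpecialLinearGroup (Fin 2) K) =
      Nat.card (ProjectiveSpecialLinearGroup (Fin 2) F)) : Fintype.card K = Fintype.card F := by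
  haveI := finite_psl (F := F)
  haveI := finite_psl (F := K)
  obtain ⟨P⟩ : Nonempty (Sylow p (ProjectiveSpecialLinearGroup (Fin 2) F)) := inferInstance
  obtain ⟨P'⟩ : Nonempty (Sylow p (ProjectiveSpecialLinearGroup (Fin 2) K)) := inferInstance
  rw [← card_sylow_psl p P, ← card_sylow_psl p P', Sylow.card_eq_multiplicity,
    Sylow.card_eq_multiplicity, h]

/-- a proper subfield of order at least `4` gives a nonsolvable proper subgroup -/
theorem exists_nonsolvable_subfield (p : ℕ) [hp : Fact p.Prime] [CharP F p] (n m : ℕ)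
    (hqn : Fintype.card F = p ^ n) (hm : m ∣ n) (hmn : m < n) (h4 : 4 ≤ p ^ m) :
    ∃ H : Subgroup (ProjectiveSpecialLinearGroup (Fin 2) F), H ≠ ⊤ ∧ ¬ Group.IsSolvable H := by
  have hm0 : m ≠ 0 := by
    rintro rfl
    rw [pow_zero] at h4; omega
  haveI : Fintype (GaloisField p m) := Fintype.ofFinite _
  have hKcard : Fintype.card (GaloisField p m) = p ^ m := by
    rw [← Nat.card_eq_fintype_card, GaloisField.card p m hm0]
  obtain ⟨c, hc⟩ := hm
  have hc0 : 0 < c := by
    rcases Nat.eq_zero_or_pos c with h | h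
    · rw [h, mul_zero] at hc; omega
    · exact h
  obtain ⟨alg, -⟩ := Cfsg.Agent.Lib.Helper5.FieldExt.exists_algebra (K := F)
    (F := GaloisField p m) (q := p ^ m) c hc0 (by rw [hqn, hc, pow_mul]) hKcard
  obtain ⟨H, ⟨e⟩⟩ := PGLsub.exists_PSL (algebraMap (GaloisField p m) F)
  refine ⟨H, ?_, ?_⟩
  · intro htop
    have h1 : Nat.card (ProjectiveSpecialLinearGroup (Fin 2) (GaloisField p m)) =
        Nat.card (ProjectiveSpecialLinearGroup (Fin 2) F) := by
      rw [← Nat.card_congr e.toEquiv, htop, Subgroup.card_top]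
    have h2 := card_field_eq_of_card_psl_eq p h1
    rw [hKcard, hqn] at h2
    have := Nat.pow_right_injective hp.out.two_le h2
    omega
  · intro hs
    apply psl_not_solvable (F := GaloisField p m) (by rw [hKcard]; exact h4)
    exact Group.isSolvable_of_isSolvable_injective (f := e.symm.toMonoidHom) e.symm.injective

/-- if `5` divides the order and `q > 5` there is a nonsolvable proper subgroup -/
theorem exists_nonsolvable_A5 (h5 : 5 ∣ Fintype.card F * (Fintype.card F ^ 2 - 1))
    (hq : 5 < Fintype.card F) :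
    ∃ H : Subgroup (ProjectiveSpecialLinearGroup (Fin 2) F), H ≠ ⊤ ∧ ¬ Group.IsSolvable H := by
  haveI := finite_psl (F := F)
  obtain ⟨H, ⟨e⟩⟩ := (Cfsg.Agent.S0804.result (F := F) rfl).mpr h5
  refine ⟨H, ?_, ?_⟩
  · intro htop
    have h1 : Nat.card (ProjectiveSpecialLinearGroup (Fin 2) F) = 60 := by
      rw [← card_A5, ← Nat.card_congr e.toEquiv, htop, Subgroup.card_top]
    have hG := card_psl_two (F := F)
    rw [h1] at hG
    have hd12 := gcd_two_cases (Fintype.card F - 1)
    have h2 : 6 * 5 * 7 ≤ Fintype.card F * (Fintype.card F - 1) * (Fintype.card F + 1) :=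
      Nat.mul_le_mul (Nat.mul_le_mul (by omega) (by omega)) (by omega)
    rcases hd12 with h | h <;> rw [h] at hG <;> omega
  · intro hs
    apply A5_not_solvable
    exact Group.isSolvable_of_isSolvable_injective (f := e.symm.toMonoidHom) e.symm.injective

end DSub

end Cfsg.Agent.Lib.Helper2
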