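import Mathlib
import Cfsg.Agent.Lib.Helper2.DSubP9

set_option autoImplicit false
set_option linter.unusedSectionVars false
set_option linter.style.haveILetI false

/-!
# Two transvections: concrete action of `PSL₂(F)` on the projective line
-/

namespace Cfsg.Agent.Lib.Helper2

namespace DSub

open Matrix OnePoint MulAction
open scoped MatrixGroups

variable {F : Type*} [Field F] {L : Type*} [Field L] [DecidableEq L] [Algebra F L]

attribute [local instance] pglAct pslAct

/-- the image in `PSL₂(F)` of a matrix of `SL₂(F)` -/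
noncomputable def pmk (A : SpecialLinearGroup (Fin 2) F) : ProjectiveSpecialLinearGroup (Fin 2) F :=
  QuotientGroup.mk' (Subgroup.center (SpecialLinearGroup (Fin 2) F)) A

theorem pmk_mul (A B : SpecialLinearGroup (Fin 2) F) : pmk (A * B) = pmk A * pmk B := rfl

theorem pmk_one : pmk (1 : SpecialLinearGroup (Fin 2) F) = 1 := rfl

theorem pmk_inv (A : SpecialLinearGroup (Fin 2) F) : pmk A⁻¹ = (pmk A)⁻¹ := rfl

theorem pmk_pow (A : SpecialLinearGroup (Fin 2) F) (n : ℕ) : pmk (A ^ n) = pmk A ^ n := rfl

theorem pmk_smul_infty (A : SpecialLinearGroup (Fin 2) F) :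
    pmk A • (∞ : OnePoint L) =
      if algebraMap F L (A 1 0) = 0 then ∞
      else ((algebraMap F L (A 0 0) / algebraMap F L (A 1 0) : L) : OnePoint L) := by
  show (ProjGenLinGroup.mk (GeneralLinearGroup.map (algebraMap F L)
    (SpecialLinearGroup.toGL A)) : PGL(Fin 2, L)) • (∞ : OnePoint L) = _
  rw [mk_smul, smul_infty_eq_ite]
  rfl

theorem pmk_smul_coe (A : SpecialLinearGroup (Fin 2) F) (c : L) :
    pmk A • (c : OnePoint L) =
      if algebraMap F L (A 1 0) * c + algebraMap F L (A 1 1) = 0 then ∞
      else (((algebraMap F L (A 0 0) * c + algebraMap F L (A 0 1)) /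
        (algebraMap F L (A 1 0) * c + algebraMap F L (A 1 1)) : L) : OnePoint L) := by
  show (ProjGenLinGroup.mk (GeneralLinearGroup.map (algebraMap F L)
    (SpecialLinearGroup.toGL A)) : PGL(Fin 2, L)) • (c : OnePoint L) = _
  rw [mk_smul, smul_some_eq_ite]
  rfl

/-- an upper unitriangular matrix is parabolic at `∞` -/
theorem isPar_upper (A : SpecialLinearGroup (Fin 2) F) (h00 : A 0 0 = 1) (h10 : A 1 0 = 0)
    (h11 : A 1 1 = 1) (h01 : A 0 1 ≠ 0) : IsPar (pmk A) (∞ : OnePoint L) := by
  have hb : algebraMap F L (A 0 1) ≠ 0 := by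
    rwa [Ne, map_eq_zero]
  have hinf : pmk A • (∞ : OnePoint L) = ∞ := by
    rw [pmk_smul_infty, h10, map_zero, if_pos rfl]
  have hcoe : ∀ c : L, pmk A • (c : OnePoint L) = ((c + algebraMap F L (A 0 1) : L) : OnePoint L) := by
    intro c
    rw [pmk_smul_coe, h10, h11, h00, map_zero, map_one, zero_mul, zero_add, if_neg one_ne_zero,
      one_mul, div_one]
  refine ⟨?_, hinf, ?_⟩
  · intro h1
    have := hcoe 0
    rw [h1, one_smul, zero_add] at this
    exact hb (OnePoint.coe_injective this).symm
  · intro y hy
    cases y with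
    | infty => rfl
    | coe c =>
      exfalso
      rw [hcoe] at hy
      have := OnePoint.coe_injective hy
      apply hb
      linear_combination this

/-- a lower unitriangular matrix is parabolic at `0` -/
theorem isPar_lower (A : SpecialLinearGroup (Fin 2) F) (h00 : A 0 0 = 1) (h01 : A 0 1 = 0)
    (h11 : A 1 1 = 1) (h10 : A 1 0 ≠ 0) : IsPar (pmk A) (((0 : L) : OnePoint L)) := by
  have hb : algebraMap F L (A 1 0) ≠ 0 := by
    rwa [Ne, map_eq_zero]
  have hinf : pmk A • (∞ : OnePoint L) = (((algebraMap F L (A 1 0))⁻¹ : L) : OnePoint L) := by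
    rw [pmk_smul_infty, if_neg hb, h00, map_one, one_div]
  have hzero : pmk A • (((0 : L) : OnePoint L)) = ((0 : L) : OnePoint L) := by
    rw [pmk_smul_coe, h00, h01, h11, map_one, map_zero, mul_zero, zero_add, if_neg one_ne_zero,
      mul_zero, zero_add, zero_div]
  refine ⟨?_, hzero, ?_⟩
  · intro h1
    rw [h1, one_smul] at hinf
    exact OnePoint.infty_ne_coe _ hinf
  · intro y hy
    cases y with
    | infty =>
      exfalso
      rw [hinf] at hy
      exact OnePoint.coe_ne_infty _ hy
    | coe c =>
      rw [pmk_smul_coe, h00, h01, h11, map_one, map_zero, one_mul, add_zero] at hy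
      split_ifs at hy with hden
      · exact absurd hy (OnePoint.infty_ne_coe _)
      · have h1 := OnePoint.coe_injective hy
        rw [div_eq_iff hden] at h1
        have h2 : algebraMap F L (A 1 0) * (c * c) = 0 := by linear_combination -h1
        rcases mul_eq_zero.mp h2 with h | h
        · exact absurd h hb
        · have : c = 0 := by
            rcases mul_eq_zero.mp h with h | h <;> exact h
          rw [this]

end DSub

end Cfsg.Agent.Lib.Helper2
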