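import Mathlib
import Cfsg.Agent.Lib.Helper2.DSubF7

set_option autoImplicit false
set_option linter.unusedSectionVars false
set_option linter.style.haveILetI false

/-!
# Dickson's subgroup theorem: in the subfield case the orbit of `∞` is a projective subline
-/

namespace Cfsg.Agent.Lib.Helper2

namespace DSub

open Matrix OnePoint MulAction
open scoped MatrixGroups

variable {L : Type*} [Field L] [DecidableEq L]

attribute [local instance] pglAct

variable {K : Type*} [Group K] [MulAction K (OnePoint L)] (φ : K →* PGL(Fin 2, L))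

/-- in the subfield case, if the orbit of `∞` contains `0` and `1` then it is the projective line
over a subfield with `q₀` elements -/
theorem orbit_subfield [IsAlgClosed L] [Finite K] (hφ : Function.Injective φ)
    (hact : ∀ (k : K) (x : OnePoint L), k • x = φ k • x) (k : ℕ)
    (hq : 3 ≤ Nat.card (Q (mob_of_hom φ hφ hact) (∞ : OnePoint L)))
    (hO : Nat.card (orbit K (∞ : OnePoint L)) =
      Nat.card (Q (mob_of_hom φ hφ hact) (∞ : OnePoint L)) + 1)
    (hst : Nat.card (stabilizer K (∞ : OnePoint L)) =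
      Nat.card (Q (mob_of_hom φ hφ hact) (∞ : OnePoint L)) * k)
    (hk : k = Nat.card (Q (mob_of_hom φ hφ hact) (∞ : OnePoint L)) - 1 ∨
      2 * k = Nat.card (Q (mob_of_hom φ hφ hact) (∞ : OnePoint L)) - 1)
    (h0 : ((0 : L) : OnePoint L) ∈ orbit K (∞ : OnePoint L))
    (h1 : ((1 : L) : OnePoint L) ∈ orbit K (∞ : OnePoint L)) :
    ∃ K₀ : Subfield L, Nat.card K₀ = Nat.card (Q (mob_of_hom φ hφ hact) (∞ : OnePoint L)) ∧
      ∀ c : L, (c : OnePoint L) ∈ orbit K (∞ : OnePoint L) ↔ c ∈ K₀ := by
  classical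
  set q₀ := Nat.card (Q (mob_of_hom φ hφ hact) (∞ : OnePoint L)) with hq₀
  set S : Subgroup (PGL(Fin 2, L)) := (conjHom φ 1).range with hS
  haveI : Finite S := by
    rw [hS]
    exact Finite.of_surjective (conjHom φ 1).rangeRestrict (conjHom φ 1).rangeRestrict_surjective
  have horb : orbit S (∞ : OnePoint L) = orbit K (∞ : OnePoint L) := by
    rw [hS, orbit_range_conjHom φ 1 hact, one_smul]
    ext z
    constructor
    · rintro ⟨w, hw, rfl⟩
      simpa using hw
    · intro hz
      exact ⟨z, hz, by simp⟩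
  have hO' : Nat.card (orbit S (∞ : OnePoint L)) = q₀ + 1 := by
    rw [horb]; exact hO
  have h0' : ((0 : L) : OnePoint L) ∈ orbit S (∞ : OnePoint L) := by
    rw [horb]; exact h0
  have h1' : ((1 : L) : OnePoint L) ∈ orbit S (∞ : OnePoint L) := by
    rw [horb]; exact h1
  have hU : Nat.card (US S) = q₀ := by
    have := card_US_range_conjHom φ 1 hφ hact
    rw [one_smul] at this
    exact this
  have hst' : Nat.card (stabilizer S (∞ : OnePoint L)) = q₀ * k := by
    have := card_stabilizer_range_conjHom φ 1 hφ hact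
    rw [one_smul] at this
    rw [hS, this]; exact hst
  have hq2 : 2 ≤ q₀ := by omega
  have hk2 : q₀ ≤ 2 * k + 1 := by omega
  obtain ⟨hmem, hK0⟩ := orbit_eq_K0 S q₀ k hq2 hk2 hO' h0' h1' hU hst'
  refine ⟨K0 S, hK0, fun c => ?_⟩
  rw [← horb]
  exact hmem c

end DSub

end Cfsg.Agent.Lib.Helper2
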