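import Mathlib
import Cfsg.Agent.Lib.Helper2.DSubT1
import Cfsg.Agent.Lib.Helper2.DSubT2
import Cfsg.Agent.Lib.Helper2.DSub11

set_option autoImplicit false
set_option linter.unusedSectionVars false
set_option linter.style.haveILetI false

/-!
# Two transvections: the subfield case
-/

namespace Cfsg.Agent.Lib.Helper2

namespace DSub

open Matrix OnePoint MulAction
open scoped MatrixGroups

variable {F : Type*} [Field F] {L : Type*} [Field L] [DecidableEq L] [Algebra F L]

attribute [local instance] pglAct pslAct finite_psl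

theorem pmk_upper_smul_coe (A : SpecialLinearGroup (Fin 2) F) (h00 : A 0 0 = 1) (h10 : A 1 0 = 0)
    (h11 : A 1 1 = 1) (c : L) :
    pmk A • (c : OnePoint L) = ((c + algebraMap F L (A 0 1) : L) : OnePoint L) := by
  rw [pmk_smul_coe, h10, h11, h00, map_zero, map_one, zero_mul, zero_add, if_neg one_ne_zero,
    one_mul, div_one]

variable [IsAlgClosed L] [Fintype F]

/-- in the subfield case, two transvections whose parameter generates the field generate
`PSL₂(F)` -/
theorem top_of_subfield_type (p : ℕ) [hp : Fact p.Prime] [CharP L p] [CharP F p]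
    (h2 : (2 : F) ≠ 0)
    (H : Subgroup (ProjectiveSpecialLinearGroup (Fin 2) F)) (U W : SpecialLinearGroup (Fin 2) F)
    (hU00 : U 0 0 = 1) (hU10 : U 1 0 = 0) (hU11 : U 1 1 = 1) (hU01 : U 0 1 ≠ 0)
    (hgen : Subfield.closure ({U 0 1} : Set F) = ⊤)
    (hW00 : W 0 0 = 1) (hW01 : W 0 1 = 0) (hW10 : W 1 0 = 1) (hW11 : W 1 1 = 1)
    (hUH : pmk U ∈ H) (hWH : pmk W ∈ H) (k : ℕ)
    (hq : 3 ≤ Nat.card (Q (mobH (L := L) H) (∞ : OnePoint L)))
    (hO : Nat.card (orbit ↥H (∞ : OnePoint L)) =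
      Nat.card (Q (mobH (L := L) H) (∞ : OnePoint L)) + 1)
    (hst : Nat.card (stabilizer ↥H (∞ : OnePoint L)) =
      Nat.card (Q (mobH (L := L) H) (∞ : OnePoint L)) * k)
    (hk : k = Nat.card (Q (mobH (L := L) H) (∞ : OnePoint L)) - 1 ∨
      2 * k = Nat.card (Q (mobH (L := L) H) (∞ : OnePoint L)) - 1)
    (hpar : ∀ (y : OnePoint L) (g : ↥H), IsPar g y → y ∈ orbit ↥H (∞ : OnePoint L)) :
    H = ⊤ := by
  classical
  set u : ↥H := ⟨pmk U, hUH⟩ with hu
  set w : ↥H := ⟨pmk W, hWH⟩ with hw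
  have hupar : IsPar (pmk U) (∞ : OnePoint L) := isPar_upper U hU00 hU10 hU11 hU01
  have hwpar : IsPar (pmk W) (((0 : L) : OnePoint L)) :=
    isPar_lower W hW00 hW01 hW11 (by rw [hW10]; exact one_ne_zero)
  have h0 : ((0 : L) : OnePoint L) ∈ orbit ↥H (∞ : OnePoint L) :=
    hpar _ w ((isPar_subtype_iff H w _).mpr hwpar)
  have h1 : ((1 : L) : OnePoint L) ∈ orbit ↥H (∞ : OnePoint L) := by
    refine ⟨w, ?_⟩
    show pmk W • (∞ : OnePoint L) = _
    rw [pmk_smul_infty, hW10, hW00, map_one, if_neg one_ne_zero, div_one]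
  obtain ⟨K₀, hK₀card, hK₀mem⟩ := orbit_subfield (phiH (L := L) H) (phiH_injective H) (smulH H) k
    hq hO hst hk h0 h1
  set q₀ := Nat.card (Q (mobH (L := L) H) (∞ : OnePoint L)) with hq₀
  -- the parameter lies in `K₀`
  have hlam : algebraMap F L (U 0 1) ∈ K₀ := by
    rw [← hK₀mem]
    obtain ⟨h', hh'⟩ := h0
    have hh'' : h' • (∞ : OnePoint L) = ((0 : L) : OnePoint L) := hh'
    refine ⟨u * h', ?_⟩
    show (u * h') • (∞ : OnePoint L) = _
    rw [mul_smul, hh'']
    show pmk U • ((0 : L) : OnePoint L) = _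
    rw [pmk_upper_smul_coe U hU00 hU10 hU11, zero_add]
  have hrange : (algebraMap F L).fieldRange ≤ K₀ := by
    rw [RingHom.fieldRange_eq_map, ← hgen, RingHom.map_field_closure, Subfield.closure_le]
    rintro _ ⟨x, hx, rfl⟩
    rw [Set.mem_singleton_iff] at hx
    rw [hx]
    exact hlam
  haveI : Finite ↥K₀ := Nat.finite_of_card_ne_zero (by rw [hK₀card]; omega)
  have hqle : Fintype.card F ≤ q₀ := by
    rw [← hK₀card, ← Nat.card_eq_fintype_card,
      ← Nat.card_range_of_injective (algebraMap F L).injective]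
    exact Nat.card_le_card_of_injective (Set.inclusion hrange)
      (Set.inclusion_injective hrange)
  -- `q₀ ≤ q`
  obtain ⟨P, hP⟩ := psl_exists_sylow (L := L) p (∞ : OnePoint L) _ hupar
  have hQG : Nat.card (Q (mobG (F := F) (L := L)) (∞ : OnePoint L)) = Fintype.card F := by
    rw [← hP]; exact card_sylow_psl p P
  have hd1 : q₀ ∣ Fintype.card F := by
    rw [← hQG, hq₀, ← Subgroup.card_map_of_injective H.subtype_injective]
    apply Subgroup.card_dvd_of_le
    rintro _ ⟨v, hv, rfl⟩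
    rcases hv with rfl | hv
    · exact Or.inl rfl
    · exact Or.inr ((isPar_subtype_iff H v _).mp hv)
  have hqpos : 0 < Fintype.card F := Fintype.card_pos
  have hqeq : q₀ = Fintype.card F := le_antisymm (Nat.le_of_dvd hqpos hd1) hqle
  -- orders
  have hcardH : Nat.card ↥H = (q₀ + 1) * (q₀ * k) := by
    rw [← hO, ← hst]
    exact (card_orbit_mul_card_stabilizer _).symm
  have hG := card_psl_two (F := F)
  obtain ⟨hgcd, hodd⟩ := gcd_two_of_odd (F := F) h2
  rw [hgcd] at hG
  apply Subgroup.eq_top_of_le_card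
  rw [hcardH, hqeq]
  rw [hqeq] at hk
  have hq1 : 1 ≤ Fintype.card F := hqpos
  obtain ⟨m, hm⟩ : ∃ m, Fintype.card F = m + 1 := ⟨Fintype.card F - 1, by omega⟩
  rw [hm] at hG hk ⊢
  rw [Nat.add_sub_cancel] at hG hk
  rcases hk with hk | hk
  · rw [hk]
    nlinarith
  · have : 2 * Nat.card (ProjectiveSpecialLinearGroup (Fin 2) F) = 2 * ((m + 1 + 1) * ((m + 1) * k)) := by
      rw [hG, ← hk]; ring
    omega

end DSub

end Cfsg.Agent.Lib.Helper2
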