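import Mathlib
import Cfsg.Agent.Lib.Helper2.DSubT3

set_option autoImplicit false
set_option linter.unusedSectionVars false
set_option linter.style.haveILetI false

/-!
# Two transvections: the exceptional case
-/

namespace Cfsg.Agent.Lib.Helper2

namespace DSub

open Matrix OnePoint MulAction
open scoped MatrixGroups

section field

variable {F : Type*} [Field F]

theorem pmk_eq_one_entry (X : SpecialLinearGroup (Fin 2) F) (h : pmk X = 1) : X 1 0 = 0 := by
  obtain ⟨c, hc⟩ := (Cfsg.Agent.Lib.Helper5.mk_eq_one_iff X).mp h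
  rw [hc]
  simp

theorem pow_entries (b : F) :
    (!![1, b; 1, 1 + b] * !![1, b; 1, 1 + b] : Matrix (Fin 2) (Fin 2) F) 1 0 = 2 + b ∧
    (!![1, b; 1, 1 + b] * !![1, b; 1, 1 + b] * !![1, b; 1, 1 + b] :
      Matrix (Fin 2) (Fin 2) F) 1 0 = (2 + b) ^ 2 - 1 ∧
    (!![1, b; 1, 1 + b] * !![1, b; 1, 1 + b] * !![1, b; 1, 1 + b] * !![1, b; 1, 1 + b] *
      !![1, b; 1, 1 + b] : Matrix (Fin 2) (Fin 2) F) 1 0 = (2 + b) ^ 4 - 3 * (2 + b) ^ 2 + 1 := by
  refine ⟨?_, ?_, ?_⟩
  · simp [Matrix.mul_apply, Fin.sum_univ_two]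
    ring
  · simp [Matrix.mul_apply, Fin.sum_univ_two]
    ring
  · simp [Matrix.mul_apply, Fin.sum_univ_two]
    ring

/-- elements of a subfield generated by a fixed point of an iterated Frobenius are fixed -/
theorem pow_eq_of_closure (p : ℕ) [Fact p.Prime] [CharP F p] (k : ℕ) (lam : F)
    (hgen : Subfield.closure ({lam} : Set F) = ⊤) (hlam : lam ^ p ^ k = lam) (x : F) :
    x ^ p ^ k = x := by
  have hle : Subfield.closure ({lam} : Set F) ≤
      RingHom.eqLocusField (iterateFrobenius F p k) (RingHom.id F) := by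
    rw [Subfield.closure_le, Set.singleton_subset_iff]
    show iterateFrobenius F p k lam = RingHom.id F lam
    rw [iterateFrobenius_def, hlam]
    rfl
  have hx : x ∈ RingHom.eqLocusField (iterateFrobenius F p k) (RingHom.id F) := by
    apply hle
    rw [hgen]
    trivial
  have : iterateFrobenius F p k x = RingHom.id F x := hx
  rw [iterateFrobenius_def] at this
  exact this

theorem card_le_of_forall_pow [Fintype F] (n : ℕ) (hn : 0 < n) (h : ∀ x : F, x ^ (n + 1) = x) :
    Fintype.card F ≤ n + 1 := by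
  classical
  have hu : ∀ u : Fˣ, u ^ n = 1 := by
    intro u
    apply Units.ext
    rw [Units.val_pow_eq_pow_val, Units.val_one]
    have := h (u : F)
    rw [pow_succ] at this
    exact mul_right_cancel₀ u.ne_zero (by rw [this, one_mul])
  have h1 : Monoid.exponent Fˣ ∣ n := Monoid.exponent_dvd_of_forall_pow_eq_one hu
  rw [IsCyclic.exponent_eq_card, Nat.card_eq_fintype_card, Fintype.card_units] at h1
  have := Nat.le_of_dvd hn h1
  omega

end field

variable {F : Type*} [Field F] {L : Type*} [Field L] [DecidableEq L] [Algebra F L]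

attribute [local instance] pglAct pslAct finite_psl

variable [IsAlgClosed L] [Fintype F]

theorem entry_of_ord (H : Subgroup (ProjectiveSpecialLinearGroup (Fin 2) F))
    (hord : ∀ a : ↥H, orderOf a = 1 ∨ orderOf a = 2 ∨ orderOf a = 3 ∨ orderOf a = 5)
    (X : SpecialLinearGroup (Fin 2) F) (hX : pmk X ∈ H) :
    (X : Matrix (Fin 2) (Fin 2) F) 1 0 = 0 ∨
    ((X : Matrix (Fin 2) (Fin 2) F) * X) 1 0 = 0 ∨
    ((X : Matrix (Fin 2) (Fin 2) F) * X * X) 1 0 = 0 ∨
    ((X : Matrix (Fin 2) (Fin 2) F) * X * X * X * X) 1 0 = 0 := by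
  have key : ∀ n : ℕ, orderOf (⟨pmk X, hX⟩ : ↥H) = n →
      ((X : Matrix (Fin 2) (Fin 2) F) ^ n) 1 0 = 0 := by
    intro n hn
    have h1 : (⟨pmk X, hX⟩ : ↥H) ^ n = 1 := by rw [← hn]; exact pow_orderOf_eq_one _
    have h2 : pmk X ^ n = 1 := congrArg Subtype.val h1
    rw [← pmk_pow] at h2
    have h3 := pmk_eq_one_entry _ h2
    rwa [Matrix.SpecialLinearGroup.coe_pow] at h3
  rcases hord ⟨pmk X, hX⟩ with h | h | h | h
  · left
    have := key 1 h
    rwa [pow_one] at this
  · right; left
    have := key 2 h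
    rwa [pow_two] at this
  · right; right; left
    have := key 3 h
    rwa [pow_succ, pow_two] at this
  · right; right; right
    have := key 5 h
    rwa [pow_succ, pow_succ, pow_succ, pow_two] at this

/-- the exceptional case only occurs for `q = 9` and `λ² = -1` -/
theorem exceptional_type (p : ℕ) [hp : Fact p.Prime] [CharP L p] [CharP F p]
    (h2 : (2 : F) ≠ 0)
    (H : Subgroup (ProjectiveSpecialLinearGroup (Fin 2) F)) (U W : SpecialLinearGroup (Fin 2) F)
    (lam : F) (hlam : lam ≠ 0)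
    (hU : (U : Matrix (Fin 2) (Fin 2) F) = !![1, lam; 0, 1])
    (hW : (W : Matrix (Fin 2) (Fin 2) F) = !![1, 0; 1, 1])
    (hgen : Subfield.closure ({lam} : Set F) = ⊤)
    (hUH : pmk U ∈ H) (hWH : pmk W ∈ H)
    (hQ3 : Nat.card (Q (mobH (L := L) H) (∞ : OnePoint L)) = 3)
    (h60 : Nat.card ↥H = 60)
    (hord : ∀ a : ↥H, orderOf a = 1 ∨ orderOf a = 2 ∨ orderOf a = 3 ∨ orderOf a = 5) :
    Fintype.card F = 9 ∧ lam ^ 2 = -1 := by
  classical
  -- the characteristic is 3
  have hPG : IsPGroup p (Q (mobH (L := L) H) (∞ : OnePoint L)) := by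
    apply isPGroup_Q (mobH (L := L) H) p
    intro g x hg
    apply Subtype.ext
    rw [Subgroup.coe_pow, Subgroup.coe_one]
    exact psl_pow_char_of_isPar p _ x ((isPar_subtype_iff H g x).mp hg)
  obtain ⟨n, hn⟩ := hPG.exists_card_eq
  rw [hQ3] at hn
  have hp3 : p = 3 := by
    have hn0 : n ≠ 0 := by
      rintro rfl
      rw [pow_zero] at hn
      omega
    have hd : p ∣ 3 := by rw [hn]; exact dvd_pow_self p hn0
    exact (Nat.prime_dvd_prime_iff_eq hp.out Nat.prime_three).mp hd
  subst hp3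
  have h3 : (3 : F) = 0 := by
    have := CharP.cast_eq_zero F 3
    exact_mod_cast this
  -- the two products
  have hX1 : ((W * U : SpecialLinearGroup (Fin 2) F) : Matrix (Fin 2) (Fin 2) F) =
      !![1, lam; 1, 1 + lam] := by
    rw [Matrix.SpecialLinearGroup.coe_mul, hU, hW]
    ext i j
    fin_cases i <;> fin_cases j <;> simp [add_comm]
  have hX2 : ((W * U * U : SpecialLinearGroup (Fin 2) F) : Matrix (Fin 2) (Fin 2) F) =
      !![1, 2 * lam; 1, 1 + 2 * lam] := by
    rw [Matrix.SpecialLinearGroup.coe_mul, hX1, hU]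
    ext i j
    fin_cases i <;> fin_cases j <;> simp <;> ring
  have hX1H : pmk (W * U) ∈ H := by
    rw [pmk_mul]; exact H.mul_mem hWH hUH
  have hX2H : pmk (W * U * U) ∈ H := by
    rw [pmk_mul]; exact H.mul_mem hX1H hUH
  have e1 := entry_of_ord H hord _ hX1H
  have e2 := entry_of_ord H hord _ hX2H
  rw [hX1] at e1
  rw [hX2] at e2
  obtain ⟨a1, a2, a3⟩ := pow_entries lam
  obtain ⟨b1, b2, b3⟩ := pow_entries (2 * lam)
  rw [a1, a2, a3] at e1
  rw [b1, b2, b3] at e2
  have hone : (!![1, lam; 1, 1 + lam] : Matrix (Fin 2) (Fin 2) F) 1 0 = 1 := by simp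
  have hone' : (!![1, 2 * lam; 1, 1 + 2 * lam] : Matrix (Fin 2) (Fin 2) F) 1 0 = 1 := by simp
  rw [hone] at e1
  rw [hone'] at e2
  have hG := card_psl_two (F := F)
  obtain ⟨hgcd, hodd⟩ := gcd_two_of_odd (F := F) h2
  rw [hgcd] at hG
  have hHG : Nat.card ↥H ≤ Nat.card (ProjectiveSpecialLinearGroup (Fin 2) F) :=
    Subgroup.card_le_card_group H
  -- the case where `λ` lies in the prime field
  have hprime : lam ^ 3 = lam → False := by
    intro hl
    have hall : ∀ x : F, x ^ (2 + 1) = x := by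
      intro x
      have := pow_eq_of_closure 3 1 lam hgen (by rw [pow_one]; exact hl) x
      rwa [pow_one] at this
    have hq3 := card_le_of_forall_pow 2 (by norm_num) hall
    have : Fintype.card F * (Fintype.card F - 1) * (Fintype.card F + 1) ≤ 3 * 2 * 4 := by
      gcongr <;> omega
    omega
  have hcase : lam ^ 2 = -1 := by
    rcases e1 with e1 | e1 | e1 | e1
    · exact absurd e1 one_ne_zero
    · exfalso
      apply hprime
      linear_combination (lam ^ 2 - 2 * lam + 3) * e1 + (-2) * h3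
    · exfalso
      apply hprime
      linear_combination (lam - 4) * e1 + (4 * lam + 4) * h3
    · rcases e2 with e2 | e2 | e2 | e2
      · exact absurd e2 one_ne_zero
      · exfalso
        apply hprime
        linear_combination 2 * (lam ^ 2 - lam) * e2 - (lam ^ 2 - lam) * (1 + lam) * h3
      · exfalso
        apply hprime
        linear_combination (lam + 1) * e2 + (-lam ^ 3 - 4 * lam ^ 2 - 4 * lam - 1) * h3
      · have h5 : lam * (lam ^ 2 + 1) = 0 := by
          linear_combination e1 - e2 + (5 * lam ^ 4 + 19 * lam ^ 3 + 21 * lam ^ 2 + 7 * lam) * h3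
        rcases mul_eq_zero.mp h5 with h | h
        · exact absurd h hlam
        · linear_combination h
  refine ⟨?_, hcase⟩
  have h9 : lam ^ 3 ^ 2 = lam := by
    have : lam ^ 3 ^ 2 = lam * (lam ^ 2) ^ 4 := by ring
    rw [this, hcase]
    ring
  have hall : ∀ x : F, x ^ (8 + 1) = x := by
    intro x
    have := pow_eq_of_closure 3 2 lam hgen h9 x
    have e : (3 : ℕ) ^ 2 = 8 + 1 := by norm_num
    rwa [e] at this
  have hq9 := card_le_of_forall_pow 8 (by norm_num) hall
  obtain ⟨m, -, hm⟩ := FiniteField.card F 3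
  have hm1 : (m : ℕ) ≠ 1 := by
    intro h1
    rw [h1, pow_one] at hm
    have := FiniteField.pow_card lam
    rw [hm] at this
    exact hprime this
  have hmpos : 0 < (m : ℕ) := m.pos
  have hm3 : ¬ 3 ≤ (m : ℕ) := by
    intro h
    have : 3 ^ 3 ≤ 3 ^ (m : ℕ) := Nat.pow_le_pow_right (by norm_num) h
    rw [← hm] at this
    omega
  have hm2 : (m : ℕ) = 2 := by omega
  rw [hm, hm2]
  norm_num

end DSub

end Cfsg.Agent.Lib.Helper2
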