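import Mathlib
import Cfsg.Agent.Lib.Helper2.DSubT1
import Cfsg.Agent.Lib.Helper2.Tri235b

set_option autoImplicit false
set_option linter.unusedSectionVars false
set_option linter.unusedVariables false
set_option linter.style.haveILetI false

/-!
# Two transvections: the group of order 60 for `q = 9`, `λ² = -1`
-/

namespace Cfsg.Agent.Lib.Helper2

namespace DSub

open Matrix
open scoped MatrixGroups

section mats

variable {F : Type*} [Field F]

theorem mat_eq {a b c d a' b' c' d' : F} (h1 : a = a') (h2 : b = b') (h3 : c = c') (h4 : d = d') :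
    (!![a, b; c, d] : Matrix (Fin 2) (Fin 2) F) = !![a', b'; c', d'] := by
  rw [h1, h2, h3, h4]

variable {lam : F} (hl : lam ^ 2 = -1) (h3 : (3 : F) = 0)

include hl h3

theorem m_UW : (!![1, lam; 0, 1] * !![1, 0; 1, 1] : Matrix (Fin 2) (Fin 2) F) = !![1 + lam, lam; 1, 1] := by
  rw [Matrix.mul_fin_two]
  apply mat_eq
  · linear_combination (0) * hl + ((0) + (0) * lam) * h3
  · linear_combination (0) * hl + ((0) + (0) * lam) * h3
  · linear_combination (0) * hl + ((0) + (0) * lam) * h3
  · linear_combination (0) * hl + ((0) + (0) * lam) * h3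

theorem m_UWU : (!![1 + lam, lam; 1, 1] * !![1, lam; 0, 1] : Matrix (Fin 2) (Fin 2) F) = !![1 + lam, -1 - lam; 1, 1 + lam] := by
  rw [Matrix.mul_fin_two]
  apply mat_eq
  · linear_combination (0) * hl + ((0) + (0) * lam) * h3
  · linear_combination (1) * hl + ((0) + (1) * lam) * h3
  · linear_combination (0) * hl + ((0) + (0) * lam) * h3
  · linear_combination (0) * hl + ((0) + (0) * lam) * h3

theorem m_UWUU : (!![1 + lam, -1 - lam; 1, 1 + lam] * !![1, lam; 0, 1] : Matrix (Fin 2) (Fin 2) F) = !![1 + lam, 1; 1, 1 - lam] := by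
  rw [Matrix.mul_fin_two]
  apply mat_eq
  · linear_combination (0) * hl + ((0) + (0) * lam) * h3
  · linear_combination (1) * hl + ((-1) + (0) * lam) * h3
  · linear_combination (0) * hl + ((0) + (0) * lam) * h3
  · linear_combination (0) * hl + ((0) + (1) * lam) * h3

theorem m_A : (!![1 + lam, 1; 1, 1 - lam] * !![1, 0; 1, 1] : Matrix (Fin 2) (Fin 2) F) = !![-1 + lam, 1; -1 - lam, 1 - lam] := by
  rw [Matrix.mul_fin_two]
  apply mat_eq
  · linear_combination (0) * hl + ((1) + (0) * lam) * h3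
  · linear_combination (0) * hl + ((0) + (0) * lam) * h3
  · linear_combination (0) * hl + ((1) + (0) * lam) * h3
  · linear_combination (0) * hl + ((0) + (0) * lam) * h3

theorem m_C : (!![1 + lam, lam; 1, 1] * !![1, 0; 1, 1] : Matrix (Fin 2) (Fin 2) F) = !![1 - lam, lam; -1, 1] := by
  rw [Matrix.mul_fin_two]
  apply mat_eq
  · linear_combination (0) * hl + ((0) + (1) * lam) * h3
  · linear_combination (0) * hl + ((0) + (0) * lam) * h3
  · linear_combination (0) * hl + ((1) + (0) * lam) * h3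
  · linear_combination (0) * hl + ((0) + (0) * lam) * h3

theorem m_AA : (!![-1 + lam, 1; -1 - lam, 1 - lam] * !![-1 + lam, 1; -1 - lam, 1 - lam] : Matrix (Fin 2) (Fin 2) F) = !![-1, 0; 0, -1] := by
  rw [Matrix.mul_fin_two]
  apply mat_eq
  · linear_combination (1) * hl + ((0) + (-1) * lam) * h3
  · linear_combination (0) * hl + ((0) + (0) * lam) * h3
  · linear_combination (0) * hl + ((0) + (0) * lam) * h3
  · linear_combination (1) * hl + ((0) + (-1) * lam) * h3

theorem m_C2 : (!![1 - lam, lam; -1, 1] * !![1 - lam, lam; -1, 1] : Matrix (Fin 2) (Fin 2) F) = !![0, 1 - lam; 1 + lam, 1 - lam] := by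
  rw [Matrix.mul_fin_two]
  apply mat_eq
  · linear_combination (1) * hl + ((0) + (-1) * lam) * h3
  · linear_combination (-1) * hl + ((0) + (1) * lam) * h3
  · linear_combination (0) * hl + ((-1) + (0) * lam) * h3
  · linear_combination (0) * hl + ((0) + (0) * lam) * h3

theorem m_C3 : (!![0, 1 - lam; 1 + lam, 1 - lam] * !![1 - lam, lam; -1, 1] : Matrix (Fin 2) (Fin 2) F) = !![-1 + lam, 1 - lam; 1 + lam, 0] := by
  rw [Matrix.mul_fin_two]
  apply mat_eq
  · linear_combination (0) * hl + ((0) + (0) * lam) * h3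
  · linear_combination (0) * hl + ((0) + (0) * lam) * h3
  · linear_combination (-1) * hl + ((0) + (0) * lam) * h3
  · linear_combination (1) * hl + ((0) + (0) * lam) * h3

theorem m_C5 : (!![-1 + lam, 1 - lam; 1 + lam, 0] * !![0, 1 - lam; 1 + lam, 1 - lam] : Matrix (Fin 2) (Fin 2) F) = !![-1, 0; 0, -1] := by
  rw [Matrix.mul_fin_two]
  apply mat_eq
  · linear_combination (-1) * hl + ((1) + (0) * lam) * h3
  · linear_combination (0) * hl + ((0) + (0) * lam) * h3
  · linear_combination (0) * hl + ((0) + (0) * lam) * h3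
  · linear_combination (-1) * hl + ((1) + (0) * lam) * h3

theorem m_AC : (!![-1 + lam, 1; -1 - lam, 1 - lam] * !![1 - lam, lam; -1, 1] : Matrix (Fin 2) (Fin 2) F) = !![-1 - lam, -lam; lam, -1 + lam] := by
  rw [Matrix.mul_fin_two]
  apply mat_eq
  · linear_combination (-1) * hl + ((0) + (1) * lam) * h3
  · linear_combination (1) * hl + ((0) + (0) * lam) * h3
  · linear_combination (1) * hl + ((-1) + (0) * lam) * h3
  · linear_combination (-1) * hl + ((1) + (-1) * lam) * h3

theorem m_AC2 : (!![-1 - lam, -lam; lam, -1 + lam] * !![-1 - lam, -lam; lam, -1 + lam] : Matrix (Fin 2) (Fin 2) F) = !![1 - lam, -lam; lam, 1 + lam] := by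
  rw [Matrix.mul_fin_two]
  apply mat_eq
  · linear_combination (0) * hl + ((0) + (1) * lam) * h3
  · linear_combination (0) * hl + ((0) + (1) * lam) * h3
  · linear_combination (0) * hl + ((0) + (-1) * lam) * h3
  · linear_combination (0) * hl + ((0) + (-1) * lam) * h3

theorem m_AC3 : (!![1 - lam, -lam; lam, 1 + lam] * !![-1 - lam, -lam; lam, -1 + lam] : Matrix (Fin 2) (Fin 2) F) = !![-1, 0; 0, -1] := by
  rw [Matrix.mul_fin_two]
  apply mat_eq
  · linear_combination (0) * hl + ((0) + (0) * lam) * h3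
  · linear_combination (0) * hl + ((0) + (0) * lam) * h3
  · linear_combination (0) * hl + ((0) + (0) * lam) * h3
  · linear_combination (0) * hl + ((0) + (0) * lam) * h3

theorem m_CA : (!![1 - lam, lam; -1, 1] * !![-1 + lam, 1; -1 - lam, 1 - lam] : Matrix (Fin 2) (Fin 2) F) = !![1 + lam, -1; lam, -lam] := by
  rw [Matrix.mul_fin_two]
  apply mat_eq
  · linear_combination (-2) * hl + ((0) + (0) * lam) * h3
  · linear_combination (-1) * hl + ((1) + (0) * lam) * h3
  · linear_combination (0) * hl + ((0) + (-1) * lam) * h3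
  · linear_combination (0) * hl + ((0) + (0) * lam) * h3

theorem m_CAC3 : (!![1 + lam, -1; lam, -lam] * !![-1 + lam, 1 - lam; 1 + lam, 0] : Matrix (Fin 2) (Fin 2) F) = !![-lam, -1; lam, 1 + lam] := by
  rw [Matrix.mul_fin_two]
  apply mat_eq
  · linear_combination (1) * hl + ((-1) + (0) * lam) * h3
  · linear_combination (-1) * hl + ((1) + (0) * lam) * h3
  · linear_combination (0) * hl + ((0) + (-1) * lam) * h3
  · linear_combination (-1) * hl + ((0) + (0) * lam) * h3

theorem m_CAC3A : (!![-lam, -1; lam, 1 + lam] * !![-1 + lam, 1; -1 - lam, 1 - lam] : Matrix (Fin 2) (Fin 2) F) = !![-1 - lam, -1; -1, -1 + lam] := by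
  rw [Matrix.mul_fin_two]
  apply mat_eq
  · linear_combination (-1) * hl + ((1) + (1) * lam) * h3
  · linear_combination (0) * hl + ((0) + (0) * lam) * h3
  · linear_combination (0) * hl + ((0) + (-1) * lam) * h3
  · linear_combination (-1) * hl + ((1) + (0) * lam) * h3

theorem m_CAC3AC : (!![-1 - lam, -1; -1, -1 + lam] * !![1 - lam, lam; -1, 1] : Matrix (Fin 2) (Fin 2) F) = !![-1, -lam; 0, -1] := by
  rw [Matrix.mul_fin_two]
  apply mat_eq
  · linear_combination (1) * hl + ((0) + (0) * lam) * h3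
  · linear_combination (-1) * hl + ((0) + (0) * lam) * h3
  · linear_combination (0) * hl + ((0) + (0) * lam) * h3
  · linear_combination (0) * hl + ((0) + (0) * lam) * h3

theorem m_A_C3 : (!![-1 + lam, 1; -1 - lam, 1 - lam] * !![-1 + lam, 1 - lam; 1 + lam, 0] : Matrix (Fin 2) (Fin 2) F) = !![1 - lam, -lam; 1, 1] := by
  rw [Matrix.mul_fin_two]
  apply mat_eq
  · linear_combination (1) * hl + ((0) + (0) * lam) * h3
  · linear_combination (-1) * hl + ((0) + (1) * lam) * h3
  · linear_combination (-2) * hl + ((1) + (0) * lam) * h3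
  · linear_combination (1) * hl + ((-1) + (0) * lam) * h3

theorem m_A_C3_A : (!![1 - lam, -lam; 1, 1] * !![-1 + lam, 1; -1 - lam, 1 - lam] : Matrix (Fin 2) (Fin 2) F) = !![-1, lam; 1, -1 - lam] := by
  rw [Matrix.mul_fin_two]
  apply mat_eq
  · linear_combination (0) * hl + ((0) + (1) * lam) * h3
  · linear_combination (1) * hl + ((0) + (-1) * lam) * h3
  · linear_combination (0) * hl + ((-1) + (0) * lam) * h3
  · linear_combination (0) * hl + ((1) + (0) * lam) * h3

theorem m_A_C3_A_C : (!![-1, lam; 1, -1 - lam] * !![1 - lam, lam; -1, 1] : Matrix (Fin 2) (Fin 2) F) = !![-1, 0; -1, -1] := by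
  rw [Matrix.mul_fin_two]
  apply mat_eq
  · linear_combination (0) * hl + ((0) + (0) * lam) * h3
  · linear_combination (0) * hl + ((0) + (0) * lam) * h3
  · linear_combination (0) * hl + ((1) + (0) * lam) * h3
  · linear_combination (0) * hl + ((0) + (0) * lam) * h3


end mats

section grp

variable {F : Type*} [Field F]

theorem pmk_neg_one : pmk (-1 : SpecialLinearGroup (Fin 2) F) = 1 := by
  apply (Cfsg.Agent.Lib.Helper5.mk_eq_one_iff _).mpr
  refine ⟨-1, ?_⟩
  rw [Matrix.SpecialLinearGroup.coe_neg, Matrix.SpecialLinearGroup.coe_one, neg_one_smul]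

theorem pmk_eq_of_coe_eq_neg (X Y : SpecialLinearGroup (Fin 2) F)
    (h : (X : Matrix (Fin 2) (Fin 2) F) = -(Y : Matrix (Fin 2) (Fin 2) F)) : pmk X = pmk Y := by
  have h1 : X = -1 * Y := by
    apply Subtype.ext
    rw [Matrix.SpecialLinearGroup.coe_mul, Matrix.SpecialLinearGroup.coe_neg,
      Matrix.SpecialLinearGroup.coe_one, neg_one_mul]
    exact h
  rw [h1, pmk_mul, pmk_neg_one, one_mul]

theorem neg_one_mat : (!![-1, 0; 0, -1] : Matrix (Fin 2) (Fin 2) F) =
    -((1 : SpecialLinearGroup (Fin 2) F) : Matrix (Fin 2) (Fin 2) F) := by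
  rw [Matrix.SpecialLinearGroup.coe_one]
  ext i j
  fin_cases i <;> fin_cases j <;> simp

/-- for `λ² = -1` in characteristic 3 the two transvections generate a group of order at most
60 in `PSL₂(F)` -/
theorem card_closure_le_sixty [Finite F] {lam : F} (hl : lam ^ 2 = -1) (h3 : (3 : F) = 0)
    (U W : SpecialLinearGroup (Fin 2) F)
    (hU : (U : Matrix (Fin 2) (Fin 2) F) = !![1, lam; 0, 1])
    (hW : (W : Matrix (Fin 2) (Fin 2) F) = !![1, 0; 1, 1]) :
    Nat.card (Subgroup.closure ({pmk U, pmk W} :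
      Set (ProjectiveSpecialLinearGroup (Fin 2) F))) ≤ 60 := by
  haveI := finite_psl (F := F)
  set A : SpecialLinearGroup (Fin 2) F := U * W * U * U * W with hA
  set C : SpecialLinearGroup (Fin 2) F := U * W * W with hC
  have cA : (A : Matrix (Fin 2) (Fin 2) F) = !![-1 + lam, 1; -1 - lam, 1 - lam] := by
    rw [hA]
    simp only [Matrix.SpecialLinearGroup.coe_mul, hU, hW]
    rw [m_UW hl h3, m_UWU hl h3, m_UWUU hl h3, m_A hl h3]
  have cC : (C : Matrix (Fin 2) (Fin 2) F) = !![1 - lam, lam; -1, 1] := by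
    rw [hC]
    simp only [Matrix.SpecialLinearGroup.coe_mul, hU, hW]
    rw [m_UW hl h3, m_C hl h3]
  have cC3 : ((C * C * C : SpecialLinearGroup (Fin 2) F) : Matrix (Fin 2) (Fin 2) F) =
      !![-1 + lam, 1 - lam; 1 + lam, 0] := by
    simp only [Matrix.SpecialLinearGroup.coe_mul, cC]
    rw [m_C2 hl h3, m_C3 hl h3]
  set a := pmk A with ha'
  set c := pmk C with hc'
  have ha : a * a = 1 := by
    rw [ha', ← pmk_mul, ← pmk_one]
    apply pmk_eq_of_coe_eq_neg
    rw [Matrix.SpecialLinearGroup.coe_mul, cA, m_AA hl h3, neg_one_mat]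
  have hc : c ^ 5 = 1 := by
    have e : c ^ 5 = (c * c * c) * (c * c) := by
      rw [show (5 : ℕ) = 3 + 2 from rfl, pow_add, pow_succ, pow_two]
    rw [e, hc', ← pmk_mul, ← pmk_mul, ← pmk_mul, ← pmk_one]
    apply pmk_eq_of_coe_eq_neg
    rw [Matrix.SpecialLinearGroup.coe_mul, cC3, Matrix.SpecialLinearGroup.coe_mul, cC,
      m_C2 hl h3, m_C5 hl h3, neg_one_mat]
  have hac : a * c * a * c * a * c = 1 := by
    have e : a * c * a * c * a * c = (a * c) * (a * c) * (a * c) := by simp only [mul_assoc]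
    rw [e, ha', hc', ← pmk_mul, ← pmk_mul, ← pmk_mul, ← pmk_one]
    apply pmk_eq_of_coe_eq_neg
    simp only [Matrix.SpecialLinearGroup.coe_mul, cA, cC]
    rw [m_AC hl h3, m_AC2 hl h3, m_AC3 hl h3, neg_one_mat]
  have hUm : pmk U = c * a * (c * c * c) * a * c := by
    rw [ha', hc', ← pmk_mul, ← pmk_mul, ← pmk_mul, ← pmk_mul, ← pmk_mul, ← pmk_mul]
    symm
    apply pmk_eq_of_coe_eq_neg
    rw [Matrix.SpecialLinearGroup.coe_mul, Matrix.SpecialLinearGroup.coe_mul,
      Matrix.SpecialLinearGroup.coe_mul, Matrix.SpecialLinearGroup.coe_mul, cC3, cA, cC,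
      m_CA hl h3, m_CAC3 hl h3, m_CAC3A hl h3, m_CAC3AC hl h3, hU]
    ext i j
    fin_cases i <;> fin_cases j <;> simp
  have hWm : pmk W = a * (c * c * c) * a * c := by
    rw [ha', hc', ← pmk_mul, ← pmk_mul, ← pmk_mul, ← pmk_mul, ← pmk_mul]
    symm
    apply pmk_eq_of_coe_eq_neg
    rw [Matrix.SpecialLinearGroup.coe_mul, Matrix.SpecialLinearGroup.coe_mul,
      Matrix.SpecialLinearGroup.coe_mul, cC3, cA, cC,
      m_A_C3 hl h3, m_A_C3_A hl h3, m_A_C3_A_C hl h3, hW]
    ext i j
    fin_cases i <;> fin_cases j <;> simp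
  obtain ⟨hfin, hle⟩ := Tri235.card_closure_le ha hc hac
  have hsub : Subgroup.closure ({pmk U, pmk W} : Set (ProjectiveSpecialLinearGroup (Fin 2) F)) ≤
      Subgroup.closure ({a, c} : Set (ProjectiveSpecialLinearGroup (Fin 2) F)) := by
    rw [Subgroup.closure_le]
    have ham : a ∈ Subgroup.closure ({a, c} : Set (ProjectiveSpecialLinearGroup (Fin 2) F)) :=
      Subgroup.subset_closure (by simp)
    have hcm : c ∈ Subgroup.closure ({a, c} : Set (ProjectiveSpecialLinearGroup (Fin 2) F)) :=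
      Subgroup.subset_closure (by simp)
    rintro x (rfl | rfl)
    · rw [hUm]
      exact mul_mem (mul_mem (mul_mem (mul_mem hcm ham) (mul_mem (mul_mem hcm hcm) hcm)) ham) hcm
    · rw [hWm]
      exact mul_mem (mul_mem (mul_mem ham (mul_mem (mul_mem hcm hcm) hcm)) ham) hcm
  exact (Subgroup.card_le_of_le hsub).trans hle

end grp

end DSub

end Cfsg.Agent.Lib.Helper2
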