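import Mathlib
import Cfsg.Agent.Lib.Helper2.DSubT4
import Cfsg.Agent.Lib.Helper2.DSubT5

set_option autoImplicit false
set_option linter.unusedSectionVars false
set_option linter.style.haveILetI false

/-!
# Two transvections generate `SL₂(F)`, with one exception
-/

namespace Cfsg.Agent.Lib.Helper2

namespace DSub

open Matrix OnePoint MulAction
open scoped MatrixGroups

section aux

variable {F : Type*} [Field F] (L : Type*) [Field L] [DecidableEq L] [Algebra F L]

attribute [local instance] pglAct pslAct finite_psl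

variable [IsAlgClosed L] [Fintype F]

theorem two_transv_psl_aux (p : ℕ) [hp : Fact p.Prime] [CharP L p] [CharP F p]
    (h2 : (2 : F) ≠ 0) (lam : F) (hlam : lam ≠ 0)
    (hgen : Subfield.closure ({lam} : Set F) = ⊤)
    (U W : SpecialLinearGroup (Fin 2) F)
    (hU : (U : Matrix (Fin 2) (Fin 2) F) = !![1, lam; 0, 1])
    (hW : (W : Matrix (Fin 2) (Fin 2) F) = !![1, 0; 1, 1]) :
    (Subgroup.closure ({pmk U, pmk W} : Set (ProjectiveSpecialLinearGroup (Fin 2) F)) = ⊤ ∧
      ¬ (Fintype.card F = 9 ∧ lam ^ 2 = -1)) ∨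
    (Fintype.card F = 9 ∧ lam ^ 2 = -1 ∧
      Nat.card (Subgroup.closure ({pmk U, pmk W} :
        Set (ProjectiveSpecialLinearGroup (Fin 2) F))) = 60) := by
  classical
  set H := Subgroup.closure ({pmk U, pmk W} : Set (ProjectiveSpecialLinearGroup (Fin 2) F))
    with hH
  have hUH : pmk U ∈ H := Subgroup.subset_closure (by simp)
  have hWH : pmk W ∈ H := Subgroup.subset_closure (by simp)
  have hU00 : U 0 0 = 1 := by rw [hU]; rfl
  have hU01 : U 0 1 = lam := by rw [hU]; rfl
  have hU10 : U 1 0 = 0 := by rw [hU]; rfl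
  have hU11 : U 1 1 = 1 := by rw [hU]; rfl
  have hW00 : W 0 0 = 1 := by rw [hW]; rfl
  have hW01 : W 0 1 = 0 := by rw [hW]; rfl
  have hW10 : W 1 0 = 1 := by rw [hW]; rfl
  have hW11 : W 1 1 = 1 := by rw [hW]; rfl
  have hupar : IsPar (pmk U) (∞ : OnePoint L) :=
    isPar_upper U hU00 hU10 hU11 (by rw [hU01]; exact hlam)
  set u : ↥H := ⟨pmk U, hUH⟩ with hu
  set w : ↥H := ⟨pmk W, hWH⟩ with hw
  have hupar' : IsPar u (∞ : OnePoint L) := (isPar_subtype_iff H u _).mpr hupar
  have hG := card_psl_two (F := F)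
  obtain ⟨hgcd, hodd⟩ := gcd_two_of_odd (F := F) h2
  rw [hgcd] at hG
  rcases classify_at_ord (mobH (L := L) H) (∞ : OnePoint L) u hupar' with
    hfix | hQ2 | ⟨hpar, ⟨hq3, hO, k, hst, hk⟩ | ⟨hQ3, -, -, h60, hord⟩⟩
  · -- a fixed point: impossible
    exfalso
    have h1 : w • (∞ : OnePoint L) = ∞ := hfix w
    have h2' : pmk W • (∞ : OnePoint L) = ∞ := h1
    rw [pmk_smul_infty, hW10, hW00, map_one, if_neg one_ne_zero, div_one] at h2'
    exact OnePoint.coe_ne_infty _ h2'
  · -- `|Q| = 2`: impossible in odd characteristic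
    exfalso
    have hPG : IsPGroup p (Q (mobH (L := L) H) (∞ : OnePoint L)) := by
      apply isPGroup_Q (mobH (L := L) H) p
      intro g x hg
      apply Subtype.ext
      rw [Subgroup.coe_pow, Subgroup.coe_one]
      exact psl_pow_char_of_isPar p _ x ((isPar_subtype_iff H g x).mp hg)
    obtain ⟨n, hn⟩ := hPG.exists_card_eq
    rw [hQ2] at hn
    have hn0 : n ≠ 0 := by
      rintro rfl
      rw [pow_zero] at hn
      omega
    have hd : p ∣ 2 := by rw [hn]; exact dvd_pow_self p hn0
    have hp2 : p = 2 := (Nat.prime_dvd_prime_iff_eq hp.out Nat.prime_two).mp hd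
    subst hp2
    apply h2
    have := CharP.cast_eq_zero F 2
    exact_mod_cast this
  · -- the subfield case
    left
    have htop : H = ⊤ := top_of_subfield_type (L := L) p h2 H U W hU00 hU10 hU11
      (by rw [hU01]; exact hlam) (by rw [hU01]; exact hgen) hW00 hW01 hW10 hW11 hUH hWH k
      hq3 hO hst hk hpar
    refine ⟨htop, ?_⟩
    rintro ⟨hq9, hl⟩
    have h9 : ((9 : ℕ) : F) = 0 := by
      rw [← hq9]; exact Nat.cast_card_eq_zero F
    have h3 : (3 : F) = 0 := by
      have : (3 : F) * 3 = 0 := by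
        rw [← h9]; norm_num
      exact mul_self_eq_zero.mp this
    have hle := card_closure_le_sixty hl h3 U W hU hW
    rw [← hH, htop, Subgroup.card_top] at hle
    rw [hq9] at hG
    omega
  · -- the exceptional case
    right
    obtain ⟨hq9, hl⟩ := exceptional_type (L := L) p h2 H U W lam hlam hU hW hgen hUH hWH hQ3 h60
      hord
    exact ⟨hq9, hl, h60⟩

end aux

end DSub

end Cfsg.Agent.Lib.Helper2
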