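import Mathlib
import Cfsg.Agent.Lib.Helper2.DSubT6

set_option autoImplicit false
set_option linter.unusedSectionVars false
set_option linter.style.haveILetI false

/-!
# Two transvections generate `SL₂(F)`, with one exception: lifting from `PSL₂` to `SL₂`
-/

namespace Cfsg.Agent.Lib.Helper2

namespace DSub

open Matrix
open scoped MatrixGroups

variable {F : Type*} [Field F] [Fintype F]

/-- the elements of the centre of `SL₂(F)` are `±1` -/
theorem center_sl_two (z : SpecialLinearGroup (Fin 2) F)
    (hz : z ∈ Subgroup.center (SpecialLinearGroup (Fin 2) F)) : z = 1 ∨ z = -1 := by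
  obtain ⟨r, hr, hrz⟩ := Matrix.SpecialLinearGroup.mem_center_iff.mp hz
  rw [Fintype.card_fin] at hr
  have hr' : (r - 1) * (r + 1) = 0 := by linear_combination hr
  rcases mul_eq_zero.mp hr' with h | h
  · left
    apply Subtype.ext
    rw [← hrz, Matrix.SpecialLinearGroup.coe_one]
    have : r = 1 := by linear_combination h
    rw [this, map_one]
  · right
    apply Subtype.ext
    rw [← hrz, Matrix.SpecialLinearGroup.coe_neg, Matrix.SpecialLinearGroup.coe_one]
    have : r = -1 := by linear_combination h
    rw [this, map_neg, map_one]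

/-- a subgroup of even order of `SL₂(F)` contains `-1` -/
theorem neg_one_mem_of_even (h2 : (2 : F) ≠ 0) (H : Subgroup (SpecialLinearGroup (Fin 2) F))
    (hev : 2 ∣ Nat.card H) : (-1 : SpecialLinearGroup (Fin 2) F) ∈ H := by
  classical
  haveI : Fact (Nat.Prime 2) := ⟨Nat.prime_two⟩
  obtain ⟨t, ht⟩ := exists_prime_orderOf_dvd_card' 2 hev
  have htt : (t : SpecialLinearGroup (Fin 2) F) * t = 1 := by
    have := pow_orderOf_eq_one t
    rw [ht, pow_two] at this
    exact congrArg Subtype.val this
  obtain ⟨c, hc⟩ := Cfsg.Agent.Lib.Helper5.scalar_of_mul_self_eq_one h2 _ htt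
  have hcen : (t : SpecialLinearGroup (Fin 2) F) ∈
      Subgroup.center (SpecialLinearGroup (Fin 2) F) := by
    have := (Cfsg.Agent.Lib.Helper5.mk_eq_one_iff (t : SpecialLinearGroup (Fin 2) F)).mpr ⟨c, hc⟩
    exact (QuotientGroup.eq_one_iff _).mp this
  rcases center_sl_two _ hcen with h | h
  · exfalso
    have : t = 1 := Subtype.ext h
    rw [this, orderOf_one] at ht
    omega
  · rw [← h]
    exact t.2

theorem center_le_of_neg_one_mem (H : Subgroup (SpecialLinearGroup (Fin 2) F))
    (hneg : (-1 : SpecialLinearGroup (Fin 2) F) ∈ H) :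
    Subgroup.center (SpecialLinearGroup (Fin 2) F) ≤ H := by
  intro z hz
  rcases center_sl_two z hz with rfl | rfl
  · exact H.one_mem
  · exact hneg

/-- a subgroup containing `-1` has twice the order of its image in `PSL₂(F)` -/
theorem card_eq_two_mul (h2 : (2 : F) ≠ 0) (H : Subgroup (SpecialLinearGroup (Fin 2) F))
    (hneg : (-1 : SpecialLinearGroup (Fin 2) F) ∈ H) :
    Nat.card H = 2 * Nat.card (H.map (QuotientGroup.mk'
      (Subgroup.center (SpecialLinearGroup (Fin 2) F)))) := by
  classical
  set f := QuotientGroup.mk' (Subgroup.center (SpecialLinearGroup (Fin 2) F)) with hf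
  have hZ := center_le_of_neg_one_mem H hneg
  have hcomap : (H.map f).comap f = H := by
    rw [Subgroup.comap_map_eq, hf, QuotientGroup.ker_mk', sup_eq_left.mpr hZ]
  have hidx : (H.map f).index = H.index := by
    rw [← Subgroup.index_comap_of_surjective (H.map f) (QuotientGroup.mk'_surjective _), hcomap]
  have h1 := Subgroup.card_mul_index H
  have h2' := Subgroup.card_mul_index (H.map f)
  have h3 := Subgroup.card_eq_card_quotient_mul_card_subgroup
    (Subgroup.center (SpecialLinearGroup (Fin 2) F))
  have h4 : Nat.card (Subgroup.center (SpecialLinearGroup (Fin 2) F)) = 2 := by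
    rw [Cfsg.Agent.Lib.Helper1.card_center_SL_field (F := F) 2 (by norm_num)]
    exact (gcd_two_of_odd (F := F) h2).1
  rw [h4] at h3
  rw [hidx] at h2'
  have hpos : 0 < H.index := Nat.pos_of_ne_zero Subgroup.index_ne_zero_of_finite
  have : Nat.card H * H.index = (2 * Nat.card (H.map f)) * H.index := by
    rw [h1, h3]
    have : Nat.card (SpecialLinearGroup (Fin 2) F ⧸
      Subgroup.center (SpecialLinearGroup (Fin 2) F)) = Nat.card (H.map f) * H.index := h2'.symm
    rw [this]; ring
  exact Nat.eq_of_mul_eq_mul_right hpos this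

/-- **Dickson**: the transvections `!![1, 0; 1, 1]` and `!![1, λ; 0, 1]` generate `SL₂(F)` when `λ`
generates the finite field `F` of odd characteristic, unless `|F| = 9` and `λ² = -1`, where they
generate a group of order 120 -/
theorem two_transvections (h2 : (2 : F) ≠ 0) (lam : F) (hlam : lam ≠ 0)
    (hgen : Subfield.closure ({lam} : Set F) = ⊤) :
    (Subgroup.closure {g : Matrix.SpecialLinearGroup (Fin 2) F |
        (g : Matrix (Fin 2) (Fin 2) F) = !![1, 0; 1, 1] ∨
        (g : Matrix (Fin 2) (Fin 2) F) = !![1, lam; 0, 1]} = ⊤ ∧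
      ¬ (Fintype.card F = 9 ∧ lam ^ 2 = -1)) ∨
    (Fintype.card F = 9 ∧ lam ^ 2 = -1 ∧
      Nat.card ↥(Subgroup.closure {g : Matrix.SpecialLinearGroup (Fin 2) F |
        (g : Matrix (Fin 2) (Fin 2) F) = !![1, 0; 1, 1] ∨
        (g : Matrix (Fin 2) (Fin 2) F) = !![1, lam; 0, 1]}) = 120) := by
  classical
  set p := ringChar F with hp
  haveI hpp : Fact p.Prime := ⟨CharP.char_is_prime F p⟩
  haveI : CharP (AlgebraicClosure F) p :=
    charP_of_injective_algebraMap (algebraMap F (AlgebraicClosure F)).injective p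
  let U : SpecialLinearGroup (Fin 2) F := ⟨!![1, lam; 0, 1], by simp [Matrix.det_fin_two]⟩
  let W : SpecialLinearGroup (Fin 2) F := ⟨!![1, 0; 1, 1], by simp [Matrix.det_fin_two]⟩
  have hU : (U : Matrix (Fin 2) (Fin 2) F) = !![1, lam; 0, 1] := rfl
  have hW : (W : Matrix (Fin 2) (Fin 2) F) = !![1, 0; 1, 1] := rfl
  have hS : {g : Matrix.SpecialLinearGroup (Fin 2) F |
        (g : Matrix (Fin 2) (Fin 2) F) = !![1, 0; 1, 1] ∨
        (g : Matrix (Fin 2) (Fin 2) F) = !![1, lam; 0, 1]} = {U, W} := by
    ext g
    simp only [Set.mem_setOf_eq, Set.mem_insert_iff, Set.mem_singleton_iff]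
    constructor
    · rintro (h | h)
      · right; exact Subtype.ext h
      · left; exact Subtype.ext h
    · rintro (h | h)
      · right; rw [h]
      · left; rw [h]
  rw [hS]
  set H := Subgroup.closure ({U, W} : Set (SpecialLinearGroup (Fin 2) F)) with hH
  set f := QuotientGroup.mk' (Subgroup.center (SpecialLinearGroup (Fin 2) F)) with hf
  have hmap : H.map f = Subgroup.closure ({pmk U, pmk W} :
      Set (ProjectiveSpecialLinearGroup (Fin 2) F)) := by
    rw [hH, MonoidHom.map_closure, Set.image_pair]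
    rfl
  have hdvd : Nat.card (H.map f) ∣ Nat.card H := Subgroup.card_map_dvd H f
  have hG := card_psl_two (F := F)
  obtain ⟨hgcd, hodd⟩ := gcd_two_of_odd (F := F) h2
  rw [hgcd] at hG
  rcases two_transv_psl_aux (AlgebraicClosure F) p h2 lam hlam hgen U W hU hW with
    ⟨htop, hnot⟩ | ⟨hq9, hl, h60⟩
  · left
    refine ⟨?_, hnot⟩
    rw [← hmap] at htop
    -- the order of `PSL₂(F)` is even
    have hev : 2 ∣ Nat.card (ProjectiveSpecialLinearGroup (Fin 2) F) := by
      obtain ⟨m, hm⟩ : ∃ m, Fintype.card F = 2 * m + 1 := ⟨Fintype.card F / 2, by omega⟩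
      rw [hm] at hG
      have e : (2 * m + 1) * (2 * m + 1 - 1) * (2 * m + 1 + 1) =
          2 * (2 * ((2 * m + 1) * (m * (m + 1)))) := by
        rw [Nat.add_sub_cancel]; ring
      rw [e] at hG
      have := Nat.eq_of_mul_eq_mul_left (by norm_num : 0 < 2) hG
      rw [this]
      exact Dvd.intro _ rfl
    have hev' : 2 ∣ Nat.card H := by
      refine dvd_trans ?_ hdvd
      rw [htop, Subgroup.card_top]
      exact hev
    have hneg := neg_one_mem_of_even h2 H hev'
    have hcard := card_eq_two_mul h2 H hneg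
    rw [← hf, htop, Subgroup.card_top] at hcard
    apply Subgroup.eq_top_of_card_eq
    rw [hcard, Subgroup.card_eq_card_quotient_mul_card_subgroup
      (Subgroup.center (SpecialLinearGroup (Fin 2) F)),
      Cfsg.Agent.Lib.Helper1.card_center_SL_field (F := F) 2 (by norm_num), hgcd, mul_comm]
  · right
    refine ⟨hq9, hl, ?_⟩
    rw [← hmap] at h60
    have hev' : 2 ∣ Nat.card H := by
      refine dvd_trans ?_ hdvd
      rw [h60]
      norm_num
    have hneg := neg_one_mem_of_even h2 H hev'
    have hcard := card_eq_two_mul h2 H hneg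
    rw [← hf, h60] at hcard
    exact hcard

end DSub

end Cfsg.Agent.Lib.Helper2
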