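import Mathlib
import Cfsg.Agent.Lib.Helper2.BrauerLocal

set_option autoImplicit false

/-! Dade's lemma on detecting extendibility on `p`-elementary subgroups. -/

namespace Cfsg.Agent.Lib.Helper2.Dade

open Cfsg Cfsg.Agent.Lib.Helper1 Cfsg.Agent.Lib.Helper4 Cfsg.Agent.Lib.Helper2.BrauerLocal
open scoped ComplexConjugate

universe u

/-- Weighted fixed point congruence. -/
theorem exists_fixed_of_not_dvd_sum {Γ α : Type*} [Group Γ] [MulAction Γ α] [Fintype α] (p : ℕ)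
    (horb : ∀ a : α, Nat.card (MulAction.orbit Γ a) = 1 ∨ p ∣ Nat.card (MulAction.orbit Γ a))
    (F : α → ℤ) (hF : ∀ (g : Γ) (a : α), F (g • a) = F a) (h : ¬ (p : ℤ) ∣ ∑ a, F a) :
    ∃ a ∈ MulAction.fixedPoints Γ α, ¬ (p : ℤ) ∣ F a := by
  classical
  by_contra hcon
  push Not at hcon
  apply h
  let e := MulAction.selfEquivSigmaOrbits Γ α
  haveI : Fintype (MulAction.orbitRel.Quotient Γ α) := Fintype.ofFinite _
  haveI : ∀ ω : MulAction.orbitRel.Quotient Γ α, Fintype (MulAction.orbit Γ ω.out) :=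
    fun ω => Fintype.ofFinite _
  have he : ∀ a : α, ((e a).2 : α) = a := fun a => rfl
  have h1 : ∑ a, F a = ∑ x : (Σ ω : MulAction.orbitRel.Quotient Γ α, MulAction.orbit Γ ω.out),
      F (x.2 : α) := by
    rw [← Equiv.sum_comp e (fun x => F (x.2 : α))]
    refine Finset.sum_congr rfl fun a _ => ?_
    rw [he]
  rw [h1, Fintype.sum_sigma]
  apply Finset.dvd_sum
  intro ω _
  have h2 : ∀ b : MulAction.orbit Γ ω.out, F (b : α) = F ω.out := by
    rintro ⟨b, g, rfl⟩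
    exact hF g _
  rw [Finset.sum_congr rfl (fun b _ => h2 b), Finset.sum_const, Finset.card_univ, nsmul_eq_mul]
  rcases horb ω.out with h3 | h3
  · apply Dvd.dvd.mul_left
    apply hcon
    rw [MulAction.mem_fixedPoints_iff_card_orbit_eq_one, ← Nat.card_eq_fintype_card]
    exact h3
  · apply Dvd.dvd.mul_right
    rw [← Nat.card_eq_fintype_card]
    exact_mod_cast h3

section Stage1

variable {G : Type u} [Group G] [Fintype G] (N : Subgroup G) [hN : N.Normal]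

/-- The extension by zero of an invariant class function of `N` is a class function of `G`. -/
theorem isClassFunction_extendByZero (ϑ : N → ℂ)
    (hinv : ∀ (g : G) (n : N), ϑ ⟨g * n * g⁻¹, hN.conj_mem (n : G) n.2 g⟩ = ϑ n) :
    Cfsg.IsClassFunction G (Cfsg.extendByZero N ϑ) := by
  intro g h
  by_cases hg : g ∈ N
  · rw [extendByZero_of_mem N ϑ hg, extendByZero_of_mem N ϑ (hN.conj_mem g hg h)]
    exact hinv h ⟨g, hg⟩
  · have hg' : h * g * h⁻¹ ∉ N := by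
      intro hc
      apply hg
      have h1 := hN.conj_mem _ hc h⁻¹
      have h2 : h⁻¹ * (h * g * h⁻¹) * h⁻¹⁻¹ = g := by group
      rw [h2] at h1
      exact h1
    rw [extendByZero_of_notMem N ϑ hg, extendByZero_of_notMem N ϑ hg']

/-- The norm of the extension by zero of an irreducible character of `N`. -/
theorem classInner_extendByZero_self (ϑ : N → ℂ) (hϑ : Cfsg.IsIrrCharacter N ϑ) :
    (N.index : ℂ) * Cfsg.classInner (Cfsg.extendByZero N ϑ) (Cfsg.extendByZero N ϑ) = 1 := by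
  classical
  haveI : Fintype N := Fintype.ofFinite N
  have h1 : Cfsg.classInner ϑ ϑ = 1 := classInner_irr_self hϑ
  rw [classInner_def] at h1 ⊢
  have h2 : ∑ g : G, Cfsg.extendByZero N ϑ g * conj (Cfsg.extendByZero N ϑ g)
      = ∑ n : N, ϑ n * conj (ϑ n) := by
    rw [sum_extendByZero_mul N ϑ (fun g => conj (Cfsg.extendByZero N ϑ g))]
    refine Finset.sum_congr rfl fun n _ => ?_
    rw [extendByZero_coe]
  rw [h2]
  have hN0 : (Nat.card N : ℂ) ≠ 0 := Nat.cast_ne_zero.2 Nat.card_pos.ne'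
  have hG0 : (Nat.card G : ℂ) ≠ 0 := Nat.cast_ne_zero.2 Nat.card_pos.ne'
  have h3 : ∑ n : N, ϑ n * conj (ϑ n) = (Nat.card N : ℂ) := by
    rw [← mul_one (Nat.card N : ℂ), ← h1, ← mul_assoc, mul_inv_cancel₀ hN0, one_mul]
  rw [h3]
  have h4 : (Nat.card G : ℂ) = (N.index : ℂ) * (Nat.card N : ℂ) := by
    rw [← Nat.cast_mul, Subgroup.index_mul_card]
  have hi0 : (N.index : ℂ) ≠ 0 := by
    intro h0
    rw [h0, zero_mul] at h4
    exact hG0 h4
  rw [h4]
  field_simp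

/-- Restriction of a function on `E` to `E ⊓ N`. -/
def resE (E : Subgroup G) (ψ : E → ℂ) : ↥(E ⊓ N) → ℂ := fun x => ψ ⟨x, x.2.1⟩

/-- Restriction of a function on `N` to `E ⊓ N`. -/
def resN (E : Subgroup G) (ϑ : N → ℂ) : ↥(E ⊓ N) → ℂ := fun x => ϑ ⟨x, x.2.2⟩

omit [Fintype G] hN in
theorem isCharacter_resE (E : Subgroup G) {ψ : E → ℂ} (hψ : Cfsg.IsCharacter E ψ) :
    Cfsg.IsCharacter ↥(E ⊓ N) (resE N E ψ) :=
  isCharacter_comp_hom hψ (Subgroup.inclusion inf_le_left)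

omit [Fintype G] hN in
theorem isCharacter_resN (E : Subgroup G) {ϑ : N → ℂ} (hϑ : Cfsg.IsCharacter N ϑ) :
    Cfsg.IsCharacter ↥(E ⊓ N) (resN N E ϑ) :=
  isCharacter_comp_hom hϑ (Subgroup.inclusion inf_le_right)

theorem classInner_ind_mul (E : Subgroup G) [Fintype ↥(E ⊓ N)] (ψ : E → ℂ) (ϑ : N → ℂ)
    (hinv : ∀ (g : G) (n : N), ϑ ⟨g * n * g⁻¹, hN.conj_mem (n : G) n.2 g⟩ = ϑ n) :
    Cfsg.classInner (Cfsg.indFun E ψ * Cfsg.extendByZero N ϑ) (Cfsg.extendByZero N ϑ)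
      = (Nat.card E : ℂ)⁻¹ * ((Nat.card ↥(E ⊓ N) : ℂ) *
        Cfsg.classInner (resE N E ψ * resN N E ϑ) (resN N E ϑ)) := by
  classical
  haveI : Fintype E := Fintype.ofFinite E
  have hcls := isClassFunction_extendByZero N ϑ hinv
  rw [Cfsg.Agent.S0177.indFun_mul E ψ _ hcls, Cfsg.Agent.S0146.result E _ _ hcls,
    classInner_def, classInner_def]
  have hB0 : (Nat.card ↥(E ⊓ N) : ℂ) ≠ 0 := Nat.cast_ne_zero.2 Nat.card_pos.ne'
  rw [← mul_assoc (Nat.card ↥(E ⊓ N) : ℂ), mul_inv_cancel₀ hB0, one_mul]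
  congr 1
  symm
  apply Finset.sum_of_injOn (fun x : ↥(E ⊓ N) => (⟨x, x.2.1⟩ : E))
  · intro a _ b _ hab
    apply Subtype.ext
    exact congrArg (fun t : E => (t : G)) hab
  · intro a _
    exact Finset.mem_coe.2 (Finset.mem_univ _)
  · intro e' _ he'
    have h1 : (e' : G) ∉ N := by
      intro hc
      apply he'
      exact ⟨⟨(e' : G), ⟨e'.2, hc⟩⟩, Finset.mem_coe.2 (Finset.mem_univ _), rfl⟩
    rw [Pi.mul_apply, extendByZero_of_notMem N ϑ h1, mul_zero, zero_mul]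
  · intro x _
    rw [Pi.mul_apply, Pi.mul_apply]
    show ψ ⟨x, x.2.1⟩ * ϑ ⟨x, x.2.2⟩ * conj (ϑ ⟨x, x.2.2⟩) = _
    rw [extendByZero_of_mem N ϑ x.2.2]

omit [Fintype G] in
theorem index_factor [Finite G] (E : Subgroup G) :
    (N.index : ℂ) * ((Nat.card E : ℂ)⁻¹ * (Nat.card ↥(E ⊓ N) : ℂ)) = ((E ⊔ N).index : ℂ) := by
  have h1 : N.relIndex (E ⊔ N) * (E ⊔ N).index = N.index := Subgroup.relIndex_mul_index le_sup_right
  have h2 : N.relIndex (E ⊔ N) = N.relIndex E := Subgroup.relIndex_sup_right E N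
  have h3 : (E ⊓ N).relIndex E = N.relIndex E := Subgroup.inf_relIndex_left E N
  have h4 : (⊥ : Subgroup G).relIndex (E ⊓ N) * (E ⊓ N).relIndex E = (⊥ : Subgroup G).relIndex E :=
    Subgroup.relIndex_mul_relIndex _ _ _ bot_le inf_le_left
  rw [Subgroup.relIndex_bot_left, Subgroup.relIndex_bot_left, h3] at h4
  have hE0 : (Nat.card E : ℂ) ≠ 0 := Nat.cast_ne_zero.2 Nat.card_pos.ne'
  have h5 : (Nat.card E : ℂ) = (Nat.card ↥(E ⊓ N) : ℂ) * (N.relIndex E : ℂ) := by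
    rw [← Nat.cast_mul, h4]
  have h6 : (N.index : ℂ) = (N.relIndex E : ℂ) * ((E ⊔ N).index : ℂ) := by
    rw [← Nat.cast_mul, ← h2, h1]
  have hB0 : (Nat.card ↥(E ⊓ N) : ℂ) ≠ 0 := Nat.cast_ne_zero.2 Nat.card_pos.ne'
  have hr0 : (N.relIndex E : ℂ) ≠ 0 := by
    intro h0
    rw [h0, mul_zero] at h5
    exact hE0 h5
  rw [h6, h5]
  field_simp

/-- First stage of Dade's lemma. -/
theorem exists_elementary_not_dvd (p : ℕ) (hp : p.Prime) (hind : ∃ k : ℕ, N.index = p ^ k)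
    (ϑ : N → ℂ) (hϑ : Cfsg.IsIrrCharacter N ϑ)
    (hinv : ∀ (g : G) (n : N), ϑ ⟨g * n * g⁻¹, hN.conj_mem (n : G) n.2 g⟩ = ϑ n) :
    ∃ (E : Subgroup G) (ψ : E → ℂ), Cfsg.IsElementary p E ∧ Cfsg.IsCharacter E ψ ∧ E ⊔ N = ⊤ ∧
      ∀ (inst : Fintype ↥(E ⊓ N)), ∃ a : ℕ, ¬ p ∣ a ∧
        Cfsg.classInner (resE N E ψ * resN N E ϑ) (resN N E ϑ) = a := by
  classical
  obtain ⟨k, hk⟩ := hind
  set θ₀ : G → ℂ := Cfsg.extendByZero N ϑ with hθ₀
  set Q : Prop := ∃ (E : Subgroup G) (ψ : E → ℂ), Cfsg.IsElementary p E ∧ Cfsg.IsCharacter E ψ ∧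
      E ⊔ N = ⊤ ∧ ∀ (inst : Fintype ↥(E ⊓ N)), ∃ a : ℕ, ¬ p ∣ a ∧
        Cfsg.classInner (resE N E ψ * resN N E ϑ) (resN N E ϑ) = a with hQ
  let L : (G → ℂ) → ℂ := fun f => (N.index : ℂ) * Cfsg.classInner (f * θ₀) θ₀
  have key : ∀ f ∈ elemSpan (G := G) p, (∃ z : ℤ, L f = (p : ℂ) * z) ∨ Q := by
    intro f hf
    induction hf using AddSubgroup.closure_induction with
    | mem f hf =>
      obtain ⟨E, ψ, hE, hψ, rfl⟩ := hf
      haveI inst0 : Fintype ↥(E ⊓ N) := Fintype.ofFinite _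
      obtain ⟨a, ha⟩ := classInner_char_nat
        (Cfsg.Agent.S0177.isCharacter_mul (isCharacter_resE N E hψ)
          (isCharacter_resN N E (isCharacter_of_irr hϑ)))
        (isCharacter_resN N E (isCharacter_of_irr hϑ))
      have hL : L (Cfsg.indFun E ψ) = ((E ⊔ N).index : ℂ) * a := by
        show (N.index : ℂ) * Cfsg.classInner (Cfsg.indFun E ψ * θ₀) θ₀ = _
        rw [classInner_ind_mul N E ψ ϑ hinv, ha, ← mul_assoc, ← mul_assoc, mul_assoc (N.index : ℂ),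
          index_factor]
      by_cases hEN : E ⊔ N = ⊤
      · by_cases hpa : p ∣ a
        · left
          obtain ⟨b, rfl⟩ := hpa
          refine ⟨b, ?_⟩
          rw [hL, hEN, Subgroup.index_top]
          push_cast
          ring
        · right
          refine ⟨E, ψ, hE, hψ, hEN, fun inst => ⟨a, hpa, ?_⟩⟩
          rw [Subsingleton.elim inst inst0]
          exact ha
      · left
        have h1 : (E ⊔ N).index ∣ N.index := Subgroup.index_dvd_of_le le_sup_right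
        rw [hk] at h1
        obtain ⟨j, -, hj⟩ := (Nat.dvd_prime_pow hp).1 h1
        have hj0 : j ≠ 0 := by
          rintro rfl
          rw [pow_zero] at hj
          exact hEN (Subgroup.index_eq_one.1 hj)
        obtain ⟨b, hb⟩ : p ∣ (E ⊔ N).index := by
          rw [hj]
          exact dvd_pow_self p hj0
        refine ⟨(b : ℤ) * a, ?_⟩
        rw [hL, hb]
        push_cast
        ring
    | zero =>
      left
      refine ⟨0, ?_⟩
      show (N.index : ℂ) * Cfsg.classInner (0 * θ₀) θ₀ = _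
      rw [zero_mul, classInner_zero_left]
      simp
    | add x y _ _ hx hy =>
      rcases hx with ⟨z₁, h₁⟩ | hx
      · rcases hy with ⟨z₂, h₂⟩ | hy
        · left
          refine ⟨z₁ + z₂, ?_⟩
          have h3 : L (x + y) = L x + L y := by
            show (N.index : ℂ) * Cfsg.classInner ((x + y) * θ₀) θ₀ = _
            rw [add_mul, classInner_add_left, mul_add]
          rw [h3, h₁, h₂]
          push_cast
          ring
        · exact Or.inr hy
      · exact Or.inr hx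
    | neg x _ hx =>
      rcases hx with ⟨z₁, h₁⟩ | hx
      · left
        refine ⟨-z₁, ?_⟩
        have h3 : L (-x) = - L x := by
          show (N.index : ℂ) * Cfsg.classInner ((-x) * θ₀) θ₀ = _
          rw [neg_mul, classInner_neg_left, mul_neg]
        rw [h3, h₁]
        push_cast
        ring
      · exact Or.inr hx
  obtain ⟨m, hm, hmem⟩ := exists_const_mem_elemSpan (G := G) p hp
  rcases key _ hmem with ⟨z, hz⟩ | hq
  · exfalso
    have h1 : L (fun _ : G => (m : ℂ)) = m := by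
      show (N.index : ℂ) * Cfsg.classInner ((fun _ : G => (m : ℂ)) * θ₀) θ₀ = _
      have h2 : (fun _ : G => (m : ℂ)) * θ₀ = (m : ℂ) • θ₀ := by
        funext x
        rw [Pi.mul_apply, Pi.smul_apply, smul_eq_mul]
      rw [h2, classInner_smul_left, mul_left_comm, classInner_extendByZero_self N ϑ hϑ, mul_one]
    rw [h1] at hz
    have h3 : (m : ℤ) = (p : ℤ) * z := by exact_mod_cast hz
    apply hm
    have h4 : (p : ℤ) ∣ (m : ℤ) := ⟨z, h3⟩
    exact Int.natCast_dvd_natCast.1 h4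
  · exact hq

end Stage1


section Stage2

variable {G : Type u} [Group G] (E N : Subgroup G) [hN : N.Normal]

/-- Conjugation by an element of `E` as an automorphism of `E ⊓ N`. -/
def cj (g : E) : ↥(E ⊓ N) ≃* ↥(E ⊓ N) where
  toFun x := ⟨g * x * g⁻¹, ⟨E.mul_mem (E.mul_mem g.2 x.2.1) (E.inv_mem g.2),
    hN.conj_mem x x.2.2 g⟩⟩
  invFun x := ⟨g⁻¹ * x * g, ⟨E.mul_mem (E.mul_mem (E.inv_mem g.2) x.2.1) g.2, by
    have h := hN.conj_mem x x.2.2 (g : G)⁻¹
    rwa [inv_inv] at h⟩⟩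
  left_inv x := by apply Subtype.ext; simp [mul_assoc]
  right_inv x := by apply Subtype.ext; simp [mul_assoc]
  map_mul' x y := by apply Subtype.ext; simp [mul_assoc]

theorem cj_coe (g : E) (x : ↥(E ⊓ N)) : ((cj E N g x : ↥(E ⊓ N)) : G) = g * x * g⁻¹ := rfl

/-- The conjugation action of `E` on the irreducible characters of `E ⊓ N`. -/
@[reducible]
noncomputable def irrAction : MulAction E (Cfsg.IrrCharacter ↥(E ⊓ N)) where
  smul g φ := ⟨fun x => φ.1 (cj E N g⁻¹ x), isIrrCharacter_comp_mulEquiv φ.2 (cj E N g⁻¹)⟩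
  one_smul φ := by
    apply Subtype.ext
    funext x
    show φ.1 (cj E N 1⁻¹ x) = φ.1 x
    refine congrArg φ.1 ?_
    apply Subtype.ext
    rw [cj_coe]
    simp
  mul_smul g h φ := by
    apply Subtype.ext
    funext x
    show φ.1 (cj E N (g * h)⁻¹ x) = φ.1 (cj E N h⁻¹ (cj E N g⁻¹ x))
    refine congrArg φ.1 ?_
    apply Subtype.ext
    rw [cj_coe, cj_coe, cj_coe]
    simp [mul_assoc]

attribute [local instance] irrAction

theorem classInner_comp_equiv {B : Type*} [Group B] [Fintype B] (c : B ≃* B) (f h : B → ℂ) :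
    Cfsg.classInner (fun x => f (c x)) (fun x => h (c x)) = Cfsg.classInner f h := by
  rw [classInner_def, classInner_def]
  congr 1
  exact Equiv.sum_comp c.toEquiv (fun x => f x * conj (h x))

theorem card_orbit_irrAction [Finite G] (p : ℕ) (hp : p.Prime) {k : ℕ} (hk : N.index = p ^ k)
    (hEN : E ⊔ N = ⊤) (φ : Cfsg.IrrCharacter ↥(E ⊓ N)) :
    Nat.card (MulAction.orbit E φ) = 1 ∨ p ∣ Nat.card (MulAction.orbit E φ) := by
  have hstab : (E ⊓ N).subgroupOf E ≤ MulAction.stabilizer E φ := by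
    intro g hg
    rw [Subgroup.mem_subgroupOf] at hg
    rw [MulAction.mem_stabilizer_iff]
    apply Subtype.ext
    funext x
    show φ.1 (cj E N g⁻¹ x) = φ.1 x
    let b : ↥(E ⊓ N) := ⟨g, hg⟩
    have h1 : cj E N g⁻¹ x = b⁻¹ * x * b⁻¹⁻¹ := by
      apply Subtype.ext
      rw [cj_coe]
      simp [b]
    rw [h1]
    exact isClassFunction_irr φ.2 x b⁻¹
  have h1 : (MulAction.stabilizer E φ).index ∣ ((E ⊓ N).subgroupOf E).index :=
    Subgroup.index_dvd_of_le hstab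
  have h2 : ((E ⊓ N).subgroupOf E).index = p ^ k := by
    have h3 : (E ⊓ N).relIndex E = N.relIndex E := Subgroup.inf_relIndex_left E N
    have h4 : N.relIndex (E ⊔ N) = N.relIndex E := Subgroup.relIndex_sup_right E N
    rw [hEN, Subgroup.relIndex_top_right] at h4
    show (E ⊓ N).relIndex E = p ^ k
    rw [h3, ← h4, hk]
  rw [h2, MulAction.index_stabilizer, ← Nat.card_coe_set_eq] at h1
  obtain ⟨j, -, hj⟩ := (Nat.dvd_prime_pow hp).1 h1
  by_cases hj0 : j = 0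
  · left
    rw [hj, hj0, pow_zero]
  · right
    rw [hj]
    exact dvd_pow_self p hj0

/-- Second stage of Dade's lemma. -/
theorem exists_invariant_constituent [Finite G] (p : ℕ) (hp : p.Prime) {k : ℕ}
    (hk : N.index = p ^ k) (hEN : E ⊔ N = ⊤) (ψ : E → ℂ) (hψ : Cfsg.IsCharacter E ψ)
    (ϑ : N → ℂ) (hϑ : Cfsg.IsCharacter N ϑ)
    (hinv : ∀ (g : G) (n : N), ϑ ⟨g * n * g⁻¹, hN.conj_mem (n : G) n.2 g⟩ = ϑ n)
    [Fintype ↥(E ⊓ N)] (a : ℕ)
    (ha : Cfsg.classInner (resE N E ψ * resN N E ϑ) (resN N E ϑ) = a) (hpa : ¬ p ∣ a) :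
    ∃ φ : ↥(E ⊓ N) → ℂ, Cfsg.IsIrrCharacter ↥(E ⊓ N) φ ∧
      (∀ (g : G) (hg : g ∈ E) (x : ↥(E ⊓ N)),
        φ ⟨g * x * g⁻¹, ⟨(E.mul_mem (E.mul_mem hg x.2.1) (E.inv_mem hg)),
          hN.conj_mem (x : G) x.2.2 g⟩⟩ = φ x) ∧
      ∃ m : ℕ, ¬ p ∣ m ∧ Cfsg.classInner (resN N E ϑ) φ = m := by
  classical
  haveI : Fintype (Cfsg.IrrCharacter ↥(E ⊓ N)) := Fintype.ofFinite _
  set ϑB := resN N E ϑ with hϑB
  set ψB := resE N E ψ with hψB
  have hϑBc : Cfsg.IsCharacter ↥(E ⊓ N) ϑB := isCharacter_resN N E hϑ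
  have hψBc : Cfsg.IsCharacter ↥(E ⊓ N) ψB := isCharacter_resE N E hψ
  have hb : ∀ φ : Cfsg.IrrCharacter ↥(E ⊓ N), ∃ b : ℕ, Cfsg.classInner ϑB (φ : ↥(E ⊓ N) → ℂ) = b :=
    fun φ => classInner_char_irr_nat hϑBc φ.2
  choose b hb using hb
  have hd : ∀ φ : Cfsg.IrrCharacter ↥(E ⊓ N), ∃ d : ℕ,
      Cfsg.classInner (ψB * (φ : ↥(E ⊓ N) → ℂ)) ϑB = d :=
    fun φ => classInner_char_nat (Cfsg.Agent.S0177.isCharacter_mul hψBc (isCharacter_of_irr φ.2))
      hϑBc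
  choose d hd using hd
  -- the sum formula
  have hsum : (a : ℤ) = ∑ φ : Cfsg.IrrCharacter ↥(E ⊓ N), (b φ : ℤ) * (d φ : ℤ) := by
    have hexp := class_function_expansion ϑB (isClassFunction_of_isCharacter hϑBc)
    have h1 : ψB * ϑB = ∑ φ : Cfsg.IrrCharacter ↥(E ⊓ N),
        (b φ : ℂ) • (ψB * (φ : ↥(E ⊓ N) → ℂ)) := by
      conv_lhs => rw [hexp]
      rw [Finset.mul_sum]
      refine Finset.sum_congr rfl fun φ _ => ?_
      rw [hb φ, mul_smul_comm]
    have h2 : (a : ℂ) = ∑ φ : Cfsg.IrrCharacter ↥(E ⊓ N), (b φ : ℂ) * (d φ : ℂ) := by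
      rw [← ha, h1, classInner_sum_left]
      refine Finset.sum_congr rfl fun φ _ => ?_
      rw [classInner_smul_left, hd φ]
    exact_mod_cast h2
  -- invariance
  have hϑinv : ∀ (g : E) (x : ↥(E ⊓ N)), ϑB (cj E N g x) = ϑB x := by
    intro g x
    exact hinv (g : G) ⟨x, x.2.2⟩
  have hψinv : ∀ (g : E) (x : ↥(E ⊓ N)), ψB (cj E N g x) = ψB x := by
    intro g x
    exact isClassFunction_of_isCharacter hψ ⟨x, x.2.1⟩ g
  have hbinv : ∀ (g : E) (φ : Cfsg.IrrCharacter ↥(E ⊓ N)), b (g • φ) = b φ := by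
    intro g φ
    have h1 : Cfsg.classInner ϑB ((g • φ : Cfsg.IrrCharacter ↥(E ⊓ N)) : ↥(E ⊓ N) → ℂ)
        = Cfsg.classInner ϑB (φ : ↥(E ⊓ N) → ℂ) := by
      have h2 := classInner_comp_equiv (cj E N g⁻¹) ϑB (φ : ↥(E ⊓ N) → ℂ)
      rw [← h2]
      congr 1
      funext x
      exact (hϑinv g⁻¹ x).symm
    rw [hb, hb] at h1
    exact_mod_cast h1
  have hdinv : ∀ (g : E) (φ : Cfsg.IrrCharacter ↥(E ⊓ N)), d (g • φ) = d φ := by
    intro g φ
    have h1 : Cfsg.classInner (ψB * ((g • φ : Cfsg.IrrCharacter ↥(E ⊓ N)) : ↥(E ⊓ N) → ℂ)) ϑB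
        = Cfsg.classInner (ψB * (φ : ↥(E ⊓ N) → ℂ)) ϑB := by
      have h2 := classInner_comp_equiv (cj E N g⁻¹) (ψB * (φ : ↥(E ⊓ N) → ℂ)) ϑB
      rw [← h2]
      congr 1
      · funext x
        show ψB x * φ.1 (cj E N g⁻¹ x) = ψB (cj E N g⁻¹ x) * φ.1 (cj E N g⁻¹ x)
        rw [hψinv]
      · funext x
        exact (hϑinv g⁻¹ x).symm
    rw [hd, hd] at h1
    exact_mod_cast h1
  have hnd : ¬ (p : ℤ) ∣ ∑ φ : Cfsg.IrrCharacter ↥(E ⊓ N), (b φ : ℤ) * (d φ : ℤ) := by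
    rw [← hsum]
    exact fun h => hpa (Int.natCast_dvd_natCast.1 h)
  obtain ⟨φ, hφfix, hφnd⟩ := exists_fixed_of_not_dvd_sum (Γ := E) p
    (card_orbit_irrAction E N p hp hk hEN) (fun φ => (b φ : ℤ) * (d φ : ℤ))
    (fun g φ => by rw [hbinv, hdinv]) hnd
  refine ⟨φ.1, φ.2, ?_, b φ, ?_, hb φ⟩
  · intro g hg x
    have h1 := hφfix (⟨g, hg⟩⁻¹ : E)
    have h2 := congrFun (congrArg Subtype.val h1) x
    have h3 : ((⟨g, hg⟩⁻¹ : E) • φ).1 x = φ.1 (cj E N (⟨g, hg⟩⁻¹ : E)⁻¹ x) := rfl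
    rw [h3, inv_inv] at h2
    exact h2
  · intro h
    apply hφnd
    exact Dvd.dvd.mul_right (Int.natCast_dvd_natCast.2 h) _

end Stage2

end Cfsg.Agent.Lib.Helper2.Dade
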