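import Mathlib
import Cfsg.Agent.Lib.Helper2.Dade
import Cfsg.Agent.Lib.Helper2.DegRatio
import Cfsg.Agent.Lib.Helper2.LinExt

set_option autoImplicit false

/-! Extension of invariant characters when `G / N` is a `p`-group and `P ⊓ N` is central in a Sylow
`p`-subgroup `P` (an application of Dade's lemma). -/

namespace Cfsg.Agent.Lib.Helper2.DadeExt

open Cfsg Cfsg.Agent.Lib.Helper1 Cfsg.Agent.Lib.Helper4 Cfsg.Agent.Lib.Helper2.LinExt
open scoped ComplexConjugate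

section Glue

/-- Gluing a homomorphism on a central subgroup `B` with one on a subgroup `R`, `B R = E`. -/
theorem exists_glue {E : Type*} [Group E] (B R : Subgroup E) (hBc : B ≤ Subgroup.center E)
    (hBR : B ⊔ R = ⊤) (φ : B →* ℂˣ) (α : R →* ℂˣ)
    (hag : ∀ (x : E) (hb : x ∈ B) (hr : x ∈ R), φ ⟨x, hb⟩ = α ⟨x, hr⟩) :
    ∃ φh : E →* ℂˣ, ∀ b : B, φh b = φ b := by
  haveI hBn : B.Normal := by
    refine ⟨fun y hy g => ?_⟩
    have h1 : g * y * g⁻¹ = y := by
      rw [(Subgroup.mem_center_iff.1 (hBc hy)) g, mul_inv_cancel_right]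
    rw [h1]
    exact hy
  let f : B × R →* E :=
    { toFun := fun x => (x.1 : E) * (x.2 : E)
      map_one' := by simp
      map_mul' := by
        intro x y
        show ((x.1 * y.1 : B) : E) * ((x.2 * y.2 : R) : E) = (x.1 : E) * (x.2 : E) * ((y.1 : E) * (y.2 : E))
        rw [Subgroup.coe_mul, Subgroup.coe_mul]
        have h1 : ((y.1 : B) : E) * (x.2 : E) = (x.2 : E) * (y.1 : E) :=
          ((Subgroup.mem_center_iff.1 (hBc y.1.2)) (x.2 : E)).symm
        calc (x.1 : E) * (y.1 : E) * ((x.2 : E) * (y.2 : E))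
            = (x.1 : E) * ((y.1 : E) * (x.2 : E)) * (y.2 : E) := by group
          _ = (x.1 : E) * ((x.2 : E) * (y.1 : E)) * (y.2 : E) := by rw [h1]
          _ = (x.1 : E) * (x.2 : E) * ((y.1 : E) * (y.2 : E)) := by group }
  have hf : Function.Surjective f := by
    intro e
    have he : e ∈ B ⊔ R := by rw [hBR]; exact Subgroup.mem_top e
    obtain ⟨b, hb, r, hr, hbr⟩ := Subgroup.mem_sup_of_normal_left.1 he
    exact ⟨(⟨b, hb⟩, ⟨r, hr⟩), hbr⟩
  let g : B × R →* ℂˣ := (φ.comp (MonoidHom.fst B R)) * (α.comp (MonoidHom.snd B R))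
  have hg : ∀ x : B × R, g x = φ x.1 * α x.2 := fun x => rfl
  have hker : f.ker ≤ g.ker := by
    intro x hx
    rw [MonoidHom.mem_ker] at hx ⊢
    have h1 : (x.1 : E) * (x.2 : E) = 1 := hx
    have h2 : ((x.2 : R) : E) = ((x.1⁻¹ : B) : E) := by
      rw [Subgroup.coe_inv]
      exact (eq_inv_of_mul_eq_one_right h1)
    have h3 : ((x.2 : R) : E) ∈ B := by
      rw [h2]
      exact (x.1⁻¹).2
    have h4 := hag (x.2 : E) h3 x.2.2
    rw [hg, ← (show (⟨(x.2 : E), x.2.2⟩ : R) = x.2 from rfl), ← h4]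
    have h5 : (⟨(x.2 : E), h3⟩ : B) = x.1⁻¹ := Subtype.ext h2
    rw [h5, ← map_mul, mul_inv_cancel, map_one]
  let φh : E →* ℂˣ := MonoidHom.liftOfRightInverse f (Function.surjInv hf)
    (Function.rightInverse_surjInv hf) ⟨g, hker⟩
  refine ⟨φh, fun b => ?_⟩
  have h1 : φh (f (b, 1)) = g (b, 1) :=
    MonoidHom.liftOfRightInverse_comp_apply f (Function.surjInv hf)
      (Function.rightInverse_surjInv hf) ⟨g, hker⟩ (b, 1)
  have h2 : f (b, 1) = (b : E) := by
    show (b : E) * ((1 : R) : E) = b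
    rw [OneMemClass.coe_one, mul_one]
  rw [h2, hg] at h1
  rw [h1, map_one, mul_one]

end Glue


section Hyp

variable {G : Type*} [Group G] [Finite G] (p : ℕ) [hp : Fact p.Prime] (N : Subgroup G)
  [hN : N.Normal] (P : Sylow p G)

/-- A `p`-subgroup is conjugate into `P`. -/
theorem exists_conj_mem (R : Subgroup G) (hR : IsPGroup p R) :
    ∃ g : G, ∀ r ∈ R, g⁻¹ * r * g ∈ (P : Subgroup G) := by
  obtain ⟨Q, hRQ⟩ := hR.exists_le_sylow
  obtain ⟨g, hg⟩ := MulAction.exists_smul_eq G P Q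
  refine ⟨g, fun r hr => ?_⟩
  have h1 : r ∈ ((g • P : Sylow p G) : Subgroup G) := by
    rw [hg]
    exact hRQ hr
  rw [Sylow.coe_subgroup_smul, Subgroup.mem_pointwise_smul_iff_inv_smul_mem] at h1
  have h2 : (MulAut.conj g)⁻¹ • r = g⁻¹ * r * g := by
    rw [MulAut.smul_def, MulAut.conj_inv_apply]
  rw [h2] at h1
  exact h1

variable (hcent : ∀ x ∈ (P : Subgroup G) ⊓ N, ∀ y ∈ (P : Subgroup G), x * y = y * x)
  (hlin : ∀ lam : ↥((P : Subgroup G) ⊓ N) → ℂ, Cfsg.IsCharacter ↥((P : Subgroup G) ⊓ N) lam →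
    lam 1 = 1 → ∃ μ : ↥(P : Subgroup G) → ℂ, Cfsg.IsCharacter ↥(P : Subgroup G) μ ∧ μ 1 = 1 ∧
      ∀ x : ↥((P : Subgroup G) ⊓ N), μ ⟨(x : G), x.2.1⟩ = lam x)

include hcent in
omit [Finite G] in
/-- Elements of `R ⊓ N` commute with `R` for every `p`-subgroup `R` conjugate into `P`. -/
theorem commute_of_conj (R : Subgroup G) (g : G) (hg : ∀ r ∈ R, g⁻¹ * r * g ∈ (P : Subgroup G))
    (u : G) (hu : u ∈ R ⊓ N) (v : G) (hv : v ∈ R) : u * v = v * u := by
  have h1 : g⁻¹ * u * g ∈ (P : Subgroup G) ⊓ N := by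
    refine ⟨hg u hu.1, ?_⟩
    have := hN.conj_mem u hu.2 g⁻¹
    rwa [inv_inv] at this
  have h2 := hcent _ h1 _ (hg v hv)
  have h3 : g⁻¹ * u * g * (g⁻¹ * v * g) = g⁻¹ * (u * v) * g := by group
  have h4 : g⁻¹ * v * g * (g⁻¹ * u * g) = g⁻¹ * (v * u) * g := by group
  rw [h3, h4] at h2
  exact mul_left_cancel (mul_right_cancel h2)

include hcent hlin in
/-- Homomorphisms `R ⊓ N →* ℂˣ` extend to `R`, for every `p`-subgroup `R`. -/
theorem exists_hom_extension (R : Subgroup G) (hR : IsPGroup p R) (α : ↥(R ⊓ N) →* ℂˣ) :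
    ∃ αh : R →* ℂˣ, ∀ x : ↥(R ⊓ N), αh ⟨x, x.2.1⟩ = α x := by
  classical
  obtain ⟨g, hg⟩ := exists_conj_mem p P R hR
  let c : R →* (P : Subgroup G) :=
    { toFun := fun r => ⟨g⁻¹ * r * g, hg r r.2⟩
      map_one' := by apply Subtype.ext; simp
      map_mul' := by intro a b; apply Subtype.ext; simp [mul_assoc] }
  have hmemN : ∀ x : ↥(R ⊓ N), g⁻¹ * (x : G) * g ∈ N := by
    intro x
    have := hN.conj_mem x x.2.2 g⁻¹
    rwa [inv_inv] at this
  let cN : ↥(R ⊓ N) →* ↥((P : Subgroup G) ⊓ N) :=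
    { toFun := fun x => ⟨g⁻¹ * x * g, ⟨hg x x.2.1, hmemN x⟩⟩
      map_one' := by apply Subtype.ext; simp
      map_mul' := by intro a b; apply Subtype.ext; simp [mul_assoc] }
  have hcN : Function.Injective cN := by
    intro a b hab
    apply Subtype.ext
    have h1 : g⁻¹ * (a : G) * g = g⁻¹ * (b : G) * g := congrArg Subtype.val hab
    exact mul_left_cancel (mul_right_cancel h1)
  letI : CommGroup ↥((P : Subgroup G) ⊓ N) :=
    { (inferInstance : Group ↥((P : Subgroup G) ⊓ N)) with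
      mul_comm := fun a b => Subtype.ext (hcent a a.2 b b.2.1) }
  let e : ↥(R ⊓ N) ≃* cN.range := MonoidHom.ofInjective hcN
  let α₀ : cN.range →* ℂˣ := α.comp e.symm.toMonoidHom
  obtain ⟨lam, hlam⟩ := MonoidHom.domRestrict_surjective (M := ℂ) cN.range α₀
  have hlam' : ∀ a : cN.range, lam a = α₀ a := by
    intro a
    rw [← hlam]
    rfl
  obtain ⟨μ, hμc, hμ1, hμN⟩ := hlin (coeHom _ lam) (isLinear_coeHom lam).1 (isLinear_coeHom lam).2
  obtain ⟨μ', rfl⟩ := exists_hom_of_linear ⟨hμc, hμ1⟩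
  refine ⟨μ'.comp c, fun x => ?_⟩
  apply Units.ext
  have h1 := hμN (cN x)
  rw [coeHom_apply, coeHom_apply] at h1
  have h2 : lam (cN x) = α x := by
    have h3 := hlam' ⟨cN x, ⟨x, rfl⟩⟩
    rw [h3]
    show α (e.symm ⟨cN x, ⟨x, rfl⟩⟩) = α x
    congr 1
    apply e.injective
    rw [MulEquiv.apply_symm_apply]
    apply Subtype.ext
    exact (MonoidHom.ofInjective_apply hcN).symm
  rw [h2] at h1
  exact h1

include hcent hlin in
/-- For a `p`-elementary subgroup `E` (with `G / N` a `p`-group), `E ⊓ N` is central in `E` and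
every homomorphism `E ⊓ N →* ℂˣ` extends to `E`. -/
theorem exists_elementary_extension {k : ℕ} (hk : N.index = p ^ k) (E : Subgroup G)
    (hE : Cfsg.IsElementary p E) :
    (∀ b ∈ E ⊓ N, ∀ e ∈ E, b * e = e * b) ∧
    ∀ φ : ↥(E ⊓ N) →* ℂˣ, ∃ φh : E →* ℂˣ, ∀ b : ↥(E ⊓ N), φh ⟨b, b.2.1⟩ = φ b := by
  classical
  obtain ⟨x, hxc, hxcop, k', hk'⟩ := hE
  let R : Sylow p E := default
  have hxcomm : ∀ e : E, e * x = x * e := fun e => (Subgroup.mem_center_iff.1 hxc) e
  haveI hZn : (Subgroup.zpowers x).Normal := by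
    refine ⟨fun y hy g => ?_⟩
    obtain ⟨i, rfl⟩ := Subgroup.mem_zpowers_iff.1 hy
    have h2 : Commute g x := hxcomm g
    have h1 : g * x ^ i * g⁻¹ = x ^ i := by
      rw [(h2.zpow_right i).eq, mul_inv_cancel_right]
    rw [h1]
    exact Subgroup.zpow_mem_zpowers x i
  have hsup : Subgroup.zpowers x ⊔ (R : Subgroup E) = ⊤ := by
    rw [← Subgroup.index_eq_one]
    have h1 : (Subgroup.zpowers x ⊔ (R : Subgroup E)).index ∣ (Subgroup.zpowers x).index :=
      Subgroup.index_dvd_of_le le_sup_left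
    have h2 : (Subgroup.zpowers x ⊔ (R : Subgroup E)).index ∣ (R : Subgroup E).index :=
      Subgroup.index_dvd_of_le le_sup_right
    rw [hk'] at h1
    obtain ⟨j, -, hj⟩ := (Nat.dvd_prime_pow hp.out).1 h1
    rw [hj] at h2 ⊢
    by_contra hne
    have hj0 : j ≠ 0 := by
      rintro rfl
      exact hne (pow_zero p)
    exact R.not_dvd_index ((dvd_pow_self p hj0).trans h2)
  -- `x ∈ N`
  have hxN : ((x : E) : G) ∈ N := by
    rw [← QuotientGroup.eq_one_iff]
    have h1 : orderOf (QuotientGroup.mk ((x : E) : G) : G ⧸ N) ∣ Nat.card (G ⧸ N) :=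
      orderOf_dvd_natCard _
    rw [← Subgroup.index_eq_card, hk] at h1
    have h2 : orderOf (QuotientGroup.mk ((x : E) : G) : G ⧸ N) ∣ orderOf x := by
      have h3 : (QuotientGroup.mk ((x : E) : G) : G ⧸ N) = ((QuotientGroup.mk' N).comp E.subtype) x :=
        rfl
      rw [h3]
      exact orderOf_map_dvd _ x
    have h4 : Nat.Coprime (orderOf (QuotientGroup.mk ((x : E) : G) : G ⧸ N)) (p ^ k) :=
      Nat.Coprime.pow_right k (Nat.Coprime.coprime_dvd_left h2 hxcop)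
    exact orderOf_eq_one_iff.1 (Nat.Coprime.eq_one_of_dvd h4 h1)
  set R' : Subgroup G := (R : Subgroup E).map E.subtype with hR'
  have hR'E : R' ≤ E := Subgroup.map_subtype_le _
  have hR'p : IsPGroup p R' := R.2.map E.subtype
  obtain ⟨g, hg⟩ := exists_conj_mem p P R' hR'p
  have hQc := commute_of_conj p N P hcent R' g hg
  -- decomposition
  have hdec : ∀ e : E, ∃ (i : ℤ) (r : E), r ∈ (R : Subgroup E) ∧ e = x ^ i * r := by
    intro e
    have he : e ∈ Subgroup.zpowers x ⊔ (R : Subgroup E) := by rw [hsup]; exact Subgroup.mem_top e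
    obtain ⟨y, hy, r, hr, hyr⟩ := Subgroup.mem_sup_of_normal_left.1 he
    obtain ⟨i, rfl⟩ := Subgroup.mem_zpowers_iff.1 hy
    exact ⟨i, r, hr, hyr.symm⟩
  have hxzN : ∀ i : ℤ, (((x ^ i : E) : E) : G) ∈ N := by
    intro i
    rw [Subgroup.coe_zpow]
    exact N.zpow_mem hxN i
  have hcentral : ∀ b : E, (b : G) ∈ N → ∀ e : E, b * e = e * b := by
    intro b hb e
    obtain ⟨i, rb, hrb, rfl⟩ := hdec b
    obtain ⟨j, re, hre, rfl⟩ := hdec e
    have hrbN : (rb : G) ∈ N := by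
      have h1 : (rb : G) = (((x ^ i : E) : E) : G)⁻¹ * ((x ^ i * rb : E) : G) := by
        rw [Subgroup.coe_mul, inv_mul_cancel_left]
      rw [h1]
      exact N.mul_mem (N.inv_mem (hxzN i)) hb
    have h2 : (rb : G) * (re : G) = (re : G) * (rb : G) :=
      hQc (rb : G) ⟨⟨rb, hrb, rfl⟩, hrbN⟩ (re : G) ⟨re, hre, rfl⟩
    have h3 : rb * re = re * rb := Subtype.ext h2
    have hxi : ∀ (i : ℤ) (e : E), e * x ^ i = x ^ i * e := by
      intro i e
      have h4 : Commute e x := hxcomm e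
      exact (h4.zpow_right i).eq
    calc x ^ i * rb * (x ^ j * re) = x ^ i * (rb * x ^ j) * re := by group
      _ = x ^ i * (x ^ j * rb) * re := by rw [hxi j rb]
      _ = x ^ i * x ^ j * (rb * re) := by group
      _ = x ^ i * x ^ j * (re * rb) := by rw [h3]
      _ = x ^ j * (x ^ i * re) * rb := by
        rw [← zpow_add, add_comm, zpow_add]
        group
      _ = x ^ j * (re * x ^ i) * rb := by rw [hxi i re]
      _ = x ^ j * re * (x ^ i * rb) := by group
  refine ⟨fun b hb e he => ?_, fun φ => ?_⟩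
  · exact congrArg Subtype.val (hcentral ⟨b, hb.1⟩ hb.2 ⟨e, he⟩)
  · -- extension
    let incl : ↥(R' ⊓ N) →* ↥(E ⊓ N) := Subgroup.inclusion (inf_le_inf_right N hR'E)
    obtain ⟨αh, hαh⟩ := exists_hom_extension p N P hcent hlin R' hR'p (φ.comp incl)
    set BE : Subgroup E := N.subgroupOf E with hBE
    have hBc : BE ≤ Subgroup.center E := by
      intro b hb
      rw [Subgroup.mem_center_iff]
      intro e
      exact (hcentral b (Subgroup.mem_subgroupOf.1 hb) e).symm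
    have hBR : BE ⊔ (R : Subgroup E) = ⊤ := by
      rw [eq_top_iff, ← hsup]
      apply sup_le_sup_right
      rw [Subgroup.zpowers_le]
      exact Subgroup.mem_subgroupOf.2 hxN
    let j : BE →* ↥(E ⊓ N) :=
      { toFun := fun b => ⟨((b : E) : G), ⟨(b : E).2, Subgroup.mem_subgroupOf.1 b.2⟩⟩
        map_one' := rfl
        map_mul' := fun a b => rfl }
    let j' : (R : Subgroup E) →* R' :=
      { toFun := fun r => ⟨((r : E) : G), ⟨(r : E), r.2, rfl⟩⟩
        map_one' := rfl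
        map_mul' := fun a b => rfl }
    obtain ⟨φh, hφh⟩ := exists_glue BE (R : Subgroup E) hBc hBR (φ.comp j) (αh.comp j') (by
      intro y hb hr
      show φ (j ⟨y, hb⟩) = αh (j' ⟨y, hr⟩)
      have h1 := hαh ⟨(y : G), ⟨⟨y, hr, rfl⟩, Subgroup.mem_subgroupOf.1 hb⟩⟩
      rw [← (show (⟨(y : G), ⟨y, hr, rfl⟩⟩ : R') = j' ⟨y, hr⟩ from rfl)]
      rw [h1]
      rfl)
    refine ⟨φh, fun b => ?_⟩
    have h1 := hφh ⟨⟨b, b.2.1⟩, Subgroup.mem_subgroupOf.2 b.2.2⟩
    rw [h1]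
    rfl

end Hyp


section Final

universe u

open Cfsg.Agent.Lib.Helper2.Dade Cfsg.Agent.Lib.Helper2.DegRatio

variable {G : Type u} [Group G] [Fintype G] (N : Subgroup G) [hN : N.Normal]

omit hN in
theorem conj_extendByZero (ϑ : N → ℂ) (g : G) :
    conj (Cfsg.extendByZero N ϑ g) = Cfsg.extendByZero N (fun n => conj (ϑ n)) g := by
  by_cases hg : g ∈ N
  · rw [extendByZero_of_mem N ϑ hg, extendByZero_of_mem N _ hg]
  · rw [extendByZero_of_notMem N ϑ hg, extendByZero_of_notMem N _ hg, map_zero]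

omit hN in
/-- The inner product on `N` in terms of the inner product on `G` with the extension by zero. -/
theorem classInner_restrict_eq [Fintype N] (F : G → ℂ) (ϑ : N → ℂ) :
    Cfsg.classInner (fun n : N => F n) ϑ
      = (N.index : ℂ) * Cfsg.classInner F (Cfsg.extendByZero N ϑ) := by
  rw [classInner_def, classInner_def]
  have h1 : ∑ g : G, F g * conj (Cfsg.extendByZero N ϑ g) = ∑ n : N, F n * conj (ϑ n) := by
    have h2 := sum_extendByZero_mul N (fun n => conj (ϑ n)) F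
    rw [← Finset.sum_congr rfl (fun g _ => by rw [conj_extendByZero, mul_comm])]
    rw [h2]
    exact Finset.sum_congr rfl fun n _ => mul_comm _ _
  rw [h1]
  have hN0 : (Nat.card N : ℂ) ≠ 0 := Nat.cast_ne_zero.2 Nat.card_pos.ne'
  have h4 : (Nat.card G : ℂ) = (N.index : ℂ) * (Nat.card N : ℂ) := by
    rw [← Nat.cast_mul, Subgroup.index_mul_card]
  have hi0 : (N.index : ℂ) ≠ 0 := by
    have hG0 : (Nat.card G : ℂ) ≠ 0 := Nat.cast_ne_zero.2 Nat.card_pos.ne'
    intro h0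
    rw [h0, zero_mul] at h4
    exact hG0 h4
  rw [h4]
  field_simp

theorem classInner_restrict_ind [Fintype N] (E : Subgroup G) [Fintype ↥(E ⊓ N)] (ψ : E → ℂ)
    (ϑ : N → ℂ)
    (hinv : ∀ (g : G) (n : N), ϑ ⟨g * n * g⁻¹, hN.conj_mem (n : G) n.2 g⟩ = ϑ n) :
    Cfsg.classInner (fun n : N => Cfsg.indFun E ψ n) ϑ
      = ((E ⊔ N).index : ℂ) * Cfsg.classInner (resE N E ψ) (resN N E ϑ) := by
  classical
  haveI : Fintype E := Fintype.ofFinite E
  have hcls := isClassFunction_extendByZero N ϑ hinv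
  rw [classInner_restrict_eq, Cfsg.Agent.S0146.result E ψ _ hcls, ← index_factor N E,
    classInner_def, classInner_def]
  have hB0 : (Nat.card ↥(E ⊓ N) : ℂ) ≠ 0 := Nat.cast_ne_zero.2 Nat.card_pos.ne'
  have h1 : ∑ x : ↥(E ⊓ N), resE N E ψ x * conj (resN N E ϑ x)
      = ∑ e' : E, ψ e' * conj (Cfsg.extendByZero N ϑ (e' : G)) := by
    apply Finset.sum_of_injOn (fun x : ↥(E ⊓ N) => (⟨x, x.2.1⟩ : E))
    · intro a _ b _ hab
      apply Subtype.ext
      exact congrArg (fun t : E => (t : G)) hab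
    · intro a _
      exact Finset.mem_coe.2 (Finset.mem_univ _)
    · intro e' _ he'
      have h1 : (e' : G) ∉ N := by
        intro hc
        apply he'
        exact ⟨⟨(e' : G), ⟨e'.2, hc⟩⟩, Finset.mem_coe.2 (Finset.mem_univ _), rfl⟩
      rw [extendByZero_of_notMem N ϑ h1, map_zero, mul_zero]
    · intro x _
      show ψ ⟨x, x.2.1⟩ * conj (ϑ ⟨x, x.2.2⟩) = _
      rw [extendByZero_of_mem N ϑ x.2.2]
  rw [h1]
  field_simp

/-- Every invariant irreducible character of `N` extends to `G`, when `G / N` is a `p`-group and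
`P ⊓ N` is central in the Sylow `p`-subgroup `P` with all its linear characters extendible to
`P`. -/
theorem exists_extension (p : ℕ) [hp : Fact p.Prime] (hind : ∃ k : ℕ, N.index = p ^ k)
    (P : Sylow p G)
    (hcent : ∀ x ∈ (P : Subgroup G) ⊓ N, ∀ y ∈ (P : Subgroup G), x * y = y * x)
    (hlin : ∀ lam : ↥((P : Subgroup G) ⊓ N) → ℂ, Cfsg.IsCharacter ↥((P : Subgroup G) ⊓ N) lam →
      lam 1 = 1 → ∃ μ : ↥(P : Subgroup G) → ℂ, Cfsg.IsCharacter ↥(P : Subgroup G) μ ∧ μ 1 = 1 ∧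
        ∀ x : ↥((P : Subgroup G) ⊓ N), μ ⟨(x : G), x.2.1⟩ = lam x)
    (ϑ : N → ℂ) (hϑ : Cfsg.IsIrrCharacter N ϑ)
    (hinv : ∀ (g : G) (n : N), ϑ ⟨g * n * g⁻¹, hN.conj_mem (n : G) n.2 g⟩ = ϑ n) :
    ∃ χ : G → ℂ, Cfsg.IsIrrCharacter G χ ∧ ∀ n : N, χ n = ϑ n := by
  classical
  haveI : Fintype N := Fintype.ofFinite N
  haveI : Fintype (Cfsg.IrrCharacter G) := Fintype.ofFinite _
  obtain ⟨E, ψ₀, hE, hψ₀, hEN, hall⟩ := exists_elementary_not_dvd N p hp.out hind ϑ hϑ hinv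
  obtain ⟨k, hk⟩ := hind
  haveI inst : Fintype ↥(E ⊓ N) := Fintype.ofFinite _
  obtain ⟨a, hpa, ha⟩ := hall inst
  obtain ⟨φ, hφ, -, m, hm, hmeq⟩ := exists_invariant_constituent E N p hp.out hk hEN ψ₀ hψ₀ ϑ
    (isCharacter_of_irr hϑ) hinv a ha hpa
  obtain ⟨hcen, hext⟩ := exists_elementary_extension p N P hcent hlin hk E hE
  have hφ1 : φ 1 = 1 := Cfsg.Agent.S0176.irr_linear_of_comm
    (fun a b => Subtype.ext (hcen a a.2 b b.2.1)) hφ
  obtain ⟨φ', hφ'⟩ := exists_hom_of_isIrrCharacter hφ hφ1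
  obtain ⟨φh, hφh⟩ := hext φ'
  set ψ : E → ℂ := coeHom E φh with hψdef
  have hψc : Cfsg.IsCharacter E ψ := (isLinear_coeHom φh).1
  set Ψ : G → ℂ := Cfsg.indFun E ψ with hΨdef
  have hΨc : Cfsg.IsCharacter G Ψ := Cfsg.Agent.S0148.result E ψ hψc
  have hres : resE N E ψ = φ := by
    funext b
    show ((φh ⟨b, b.2.1⟩ : ℂˣ) : ℂ) = φ b
    rw [hφh b, hφ']
  have hΨN : Cfsg.classInner (fun n : N => Ψ n) ϑ = m := by
    rw [classInner_restrict_ind N E ψ ϑ hinv, hEN, Subgroup.index_top, Nat.cast_one, one_mul, hres,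
      ← classInner_conj_symm, hmeq, Complex.conj_natCast]
  by_contra hno
  push Not at hno
  -- multiplicities
  have hmult : ∀ χ : Cfsg.IrrCharacter G, ∃ t : ℕ,
      Cfsg.classInner (fun n : N => (χ : G → ℂ) n) ϑ = t ∧ p ∣ t := by
    intro χ
    by_cases hc : Cfsg.classInner (fun n : N => (χ : G → ℂ) n) ϑ = 0
    · exact ⟨0, by rw [hc, Nat.cast_zero], dvd_zero p⟩
    · obtain ⟨e, he1, he2⟩ := ratio_dvd_of_invariant N (χ : G → ℂ) χ.2 ϑ hϑ hinv hc
      have hrest := restrict_of_invariant N ϑ hϑ hinv (χ : G → ℂ) χ.2 hc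
      have h1 := hrest 1
      rw [OneMemClass.coe_one, he1] at h1
      have hϑ1 : ϑ 1 ≠ 0 := irr_apply_one_ne_zero hϑ
      have h2 : Cfsg.classInner (fun n : N => (χ : G → ℂ) n) ϑ = e :=
        (mul_right_cancel₀ hϑ1 h1).symm
      refine ⟨e, h2, ?_⟩
      rw [hk] at he2
      obtain ⟨j, -, hj⟩ := (Nat.dvd_prime_pow hp.out).1 he2
      by_cases hj0 : j = 0
      · exfalso
        obtain ⟨n, hn⟩ := hno (χ : G → ℂ) χ.2
        apply hn
        rw [hrest n, h2, hj, hj0, pow_zero, Nat.cast_one, one_mul]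
      · rw [hj]
        exact dvd_pow_self p hj0
  choose t ht htp using hmult
  have hmultΨ : ∀ χ : Cfsg.IrrCharacter G, ∃ c : ℕ, Cfsg.classInner Ψ (χ : G → ℂ) = c :=
    fun χ => classInner_char_irr_nat hΨc χ.2
  choose c hc using hmultΨ
  have hexp := class_function_expansion Ψ (isClassFunction_of_isCharacter hΨc)
  have h1 : (fun n : N => Ψ n) = ∑ χ : Cfsg.IrrCharacter G,
      (c χ : ℂ) • (fun n : N => (χ : G → ℂ) n) := by
    funext n
    have h2 := congrFun hexp (n : G)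
    rw [Finset.sum_apply] at h2 ⊢
    rw [h2]
    refine Finset.sum_congr rfl fun χ _ => ?_
    rw [Pi.smul_apply, Pi.smul_apply, hc χ]
  have h2 : (m : ℂ) = ∑ χ : Cfsg.IrrCharacter G, (c χ : ℂ) * (t χ : ℂ) := by
    rw [← hΨN, h1, classInner_sum_left]
    refine Finset.sum_congr rfl fun χ _ => ?_
    rw [classInner_smul_left, ht χ]
  have h3 : m = ∑ χ : Cfsg.IrrCharacter G, c χ * t χ := by exact_mod_cast h2
  apply hm
  rw [h3]
  apply Finset.dvd_sum
  intro χ _
  exact Dvd.dvd.mul_left (htp χ) _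

end Final

end Cfsg.Agent.Lib.Helper2.DadeExt
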