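import Mathlib
import Cfsg.Prelude.Def_Characters
import Cfsg.Agent.Lib.Helper8.ClassAlgebra
import Cfsg.Agent.Lib.Helper1.CharFound5

/-!
# S4737, package B: Burnside's class-constant formula

`card_conj_pairs`: for `x y : G`, with `c = |C_G(x)|`,
`#{g ∈ x^G : g⁻¹ y ∈ x^G} · c² = |G| · ∑_χ conj(χ x)² χ(y) / χ(1)`.

Proof: by column orthogonality `c · [x ~ h] = ∑_χ χ h · conj (χ x)`; insert twice into
`∑_g [x ~ g] [x ~ g⁻¹ y]`, and use `∑_g χ g · ψ (g⁻¹ y) = [χ = ψ] |G| χ y / χ 1`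
(helper8's `sum_irr_inv_mul_irr` after `g ↦ g⁻¹` and `ψ (g y) = ψ (y g)`).
-/

set_option autoImplicit false

open Cfsg
open scoped ComplexConjugate

namespace Cfsg.Agent.Lib.Helper2.DefZ3B

open Cfsg.Agent.Lib.Helper1 Cfsg.Agent.Lib.Helper8

universe u

variable {G : Type u} [Group G] [Fintype G]

/-- `∑_g χ g · ψ (g⁻¹ y) = [χ = ψ] |G| χ y / χ 1`. -/
theorem sum_irr_mul_irr_inv {χ ψ : G → ℂ} (hχ : IsIrrCharacter G χ) (hψ : IsIrrCharacter G ψ)
    (y : G) :
    ∑ g : G, χ g * ψ (g⁻¹ * y) = if ψ = χ then (Fintype.card G : ℂ) * ψ y / ψ 1 else 0 := by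
  have hψc : IsClassFunction G ψ := isClassFunction_irr hψ
  rw [← sum_irr_inv_mul_irr hψ hχ y, ← Equiv.sum_comp (Equiv.inv G)]
  refine Finset.sum_congr rfl fun g _ => ?_
  have h1 : ψ (g * y) = ψ (y * g) := by
    have h2 := hψc (g * y) g⁻¹
    rw [← h2]
    congr 1
    group
  simp only [Equiv.inv_apply, inv_inv]
  rw [h1]

/-- the number of pairs as a sum of products of class indicators -/
theorem card_eq_sum (x y : G) :
    (Nat.card {g : G // IsConj x g ∧ IsConj x (g⁻¹ * y)} : ℂ)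
      = ∑ g : G, classIndicator x g * classIndicator x (g⁻¹ * y) := by
  classical
  have h1 : ∀ g : G, classIndicator x g * classIndicator x (g⁻¹ * y)
      = if IsConj x g ∧ IsConj x (g⁻¹ * y) then (1 : ℂ) else 0 := by
    intro g
    unfold classIndicator
    by_cases h : IsConj x g
    · by_cases h' : IsConj x (g⁻¹ * y)
      · rw [if_pos h, if_pos h', if_pos ⟨h, h'⟩, one_mul]
      · have hn : ¬ (IsConj x g ∧ IsConj x (g⁻¹ * y)) := fun hh => h' hh.2
        rw [if_neg h', if_neg hn, mul_zero]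
    · have hn : ¬ (IsConj x g ∧ IsConj x (g⁻¹ * y)) := fun hh => h hh.1
      rw [if_neg h, if_neg hn, zero_mul]
  rw [Finset.sum_congr rfl fun g _ => h1 g, Finset.sum_boole, Nat.subtype_card]
  simp

end Cfsg.Agent.Lib.Helper2.DefZ3B

namespace Cfsg.Agent.Lib.DefZ3

open Cfsg.Agent.Lib.Helper1 Cfsg.Agent.Lib.Helper8 Cfsg.Agent.Lib.Helper2.DefZ3B

universe u

/-- **S4737, package B.**  Burnside's class-constant formula in the shape needed. -/
theorem card_conj_pairs {G : Type u} [Group G] [Fintype G] [Fintype (IrrCharacter G)] (x y : G) :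
    (Nat.card {g : G // IsConj x g ∧ IsConj x (g⁻¹ * y)} : ℂ) *
        (Nat.card (Subgroup.centralizer ({x} : Set G)) : ℂ) ^ 2
      = (Fintype.card G : ℂ) *
        ∑ χ : IrrCharacter G, conj ((χ : G → ℂ) x) ^ 2 * (χ : G → ℂ) y / (χ : G → ℂ) 1 := by
  classical
  set c : ℂ := (Nat.card (Subgroup.centralizer ({x} : Set G)) : ℂ) with hc
  have hcol : ∀ h : G, c * classIndicator x h
      = ∑ χ : IrrCharacter G, (χ : G → ℂ) h * conj ((χ : G → ℂ) x) :=
    fun h => (column_orthogonality x h).symm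
  rw [card_eq_sum, Finset.sum_mul]
  have h1 : ∀ g : G, classIndicator x g * classIndicator x (g⁻¹ * y) * c ^ 2
      = ∑ χ : IrrCharacter G, ∑ ψ : IrrCharacter G,
          conj ((χ : G → ℂ) x) * conj ((ψ : G → ℂ) x) * ((χ : G → ℂ) g * (ψ : G → ℂ) (g⁻¹ * y)) := by
    intro g
    have h2 : classIndicator x g * classIndicator x (g⁻¹ * y) * c ^ 2
        = (c * classIndicator x g) * (c * classIndicator x (g⁻¹ * y)) := by ring
    rw [h2, hcol, hcol, Finset.sum_mul_sum]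
    refine Finset.sum_congr rfl fun χ _ => Finset.sum_congr rfl fun ψ _ => ?_
    ring
  rw [Finset.sum_congr rfl fun g _ => h1 g, Finset.sum_comm, Finset.mul_sum]
  refine Finset.sum_congr rfl fun χ _ => ?_
  rw [Finset.sum_comm]
  have h3 : ∀ ψ : IrrCharacter G,
      ∑ g : G, conj ((χ : G → ℂ) x) * conj ((ψ : G → ℂ) x) * ((χ : G → ℂ) g * (ψ : G → ℂ) (g⁻¹ * y))
        = if ψ = χ then (Fintype.card G : ℂ) *
            (conj ((χ : G → ℂ) x) ^ 2 * (χ : G → ℂ) y / (χ : G → ℂ) 1) else 0 := by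
    intro ψ
    rw [← Finset.mul_sum, sum_irr_mul_irr_inv χ.2 ψ.2 y]
    by_cases hψ : ψ = χ
    · subst hψ
      rw [if_pos rfl, if_pos rfl]
      ring
    · have hne : ¬ ((ψ : G → ℂ) = (χ : G → ℂ)) := fun h => hψ (Subtype.ext h)
      rw [if_neg hψ, if_neg hne, mul_zero]
  rw [Finset.sum_congr rfl fun ψ _ => h3 ψ, Finset.sum_ite_eq' Finset.univ χ]
  simp

end Cfsg.Agent.Lib.DefZ3
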