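import Mathlib
import Cfsg.Agent.Lib.Helper4.Deg11_Defs
import Cfsg.Agent.Lib.Helper5.Deg11_P1x
import Cfsg.Agent.Lib.Helper7.Deg11_P1a
import Cfsg.Agent.Lib.Helper2.PrimeDeg7
import Cfsg.Agent.Lib.Helper2.PrimeDeg5
import Cfsg.Agent.S0675
import Cfsg.Agent.S1013

/-!
# S0679, package P1: the frame of a non-solvable subgroup of `Sym(11)` containing `c = (x ↦ x + 1)`

`d11_frame`: such a group `G` (not containing `Alt(11)`) has no cycles of length `2, 3, 5, 7`
(Jordan, via S0713; this part is helper7's `Deg11_P1a`), contains `d = (x ↦ 3 x)`, and either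
contains `z = (x ↦ 2 x)` or is simple with `|Syl_11 G| * 55 = |G|`.

Proof: `P = <c>` is a Sylow `11`-subgroup, `|N_G(P)| = 11 r` with `r ∣ 10`, `r ≠ 1` (Burnside, as
`G` is not solvable: `PrimeDeg.card_normalizer_ne`).  Elements of prime order `q ∣ r` of the
normalizer are affine, and conjugating by a power of `c` gives a multiplication `x ↦ n x` of order
`q` in `G`; helper5's `Deg11_P1x` turns these into `d11d ∈ G` (`q = 5`) and `d11n ∈ G` (`q = 2`).
If `r` is prime then `G` is simple by S1013 (`|G| = 110 m` by `2`-transitivity (S0675), so there is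
more than one Sylow `11`-subgroup); `r = 2` is then impossible (`-x` is odd), `r = 5` is the
simple case and `r = 10` gives `2 x`.
-/

set_option autoImplicit false
set_option linter.style.haveILetI false
set_option linter.unusedSectionVars false
set_option maxHeartbeats 800000

namespace Cfsg.Agent.Lib.Helper2.Deg11P1

open Cfsg.Agent.Lib.Deg11 Cfsg.Agent.Lib.Helper2.PrimeDeg Cfsg.Agent.Lib.Helper5.Deg11P1x Equiv MulAction

theorem fact11 : Fact (Nat.Prime 11) := ⟨by norm_num⟩

/-! ### affine computations, on `ZMod 11` -/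

section affine

variable (σ : Perm (ZMod 11)) (hσ : ∀ j : ZMod 11, σ j = j + 1)
include hσ

theorem s_pow_apply (n : ℕ) (x : ZMod 11) : (σ ^ n) x = x + (n : ZMod 11) := by
  haveI := fact11
  exact coord_pow (p := 11) (e := Equiv.refl (ZMod 11)) hσ n x

theorem s_ne_one : σ ≠ 1 := by
  intro h
  have h1 := hσ 0
  rw [h, Perm.one_apply, zero_add] at h1
  exact absurd h1 (by decide)

theorem s_pow_eleven : σ ^ 11 = 1 := by
  apply Equiv.ext
  intro x
  rw [s_pow_apply σ hσ]
  have h0 : ((11 : ℕ) : ZMod 11) = 0 := ZMod.natCast_self 11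
  rw [h0, add_zero, Perm.one_apply]

theorem orderOf_s : orderOf σ = 11 := by
  haveI := fact11
  exact orderOf_eq_prime (s_pow_eleven σ hσ) (s_ne_one σ hσ)

/-- elements normalizing `<σ>` are affine -/
theorem affine_of_normalizes (g : Perm (ZMod 11)) (n : ℕ) (hn : g * σ * g⁻¹ = σ ^ n) :
    ∀ j : ZMod 11, g j = (n : ZMod 11) * j + g 0 := by
  haveI := fact11
  intro j
  exact affine_of_conj (p := 11) (e := Equiv.refl (ZMod 11)) hσ hn j

/-- conjugating an affine map with multiplier `n ≠ 1` by a power of `σ` kills the translation -/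
theorem exists_conj_mul (g : Perm (ZMod 11)) (n b : ZMod 11)
    (hgn : ∀ j : ZMod 11, g j = n * j + b) (hn1 : n ≠ 1) :
    ∃ k : ℕ, ∀ j : ZMod 11, (σ ^ k * g * (σ ^ k)⁻¹) j = n * j := by
  haveI := fact11
  refine ⟨(b / (n - 1)).val, fun j => ?_⟩
  set k := (b / (n - 1)).val with hk
  have hkc : ((k : ℕ) : ZMod 11) = b / (n - 1) := ZMod.natCast_zmod_val _
  have hinv : (σ ^ k)⁻¹ j = j - (k : ZMod 11) := by
    rw [Equiv.Perm.inv_eq_iff_eq, s_pow_apply σ hσ]
    exact (sub_add_cancel j (k : ZMod 11)).symm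
  rw [Perm.mul_apply, Perm.mul_apply, hinv, hgn, s_pow_apply σ hσ, hkc]
  have hne : n - 1 ≠ 0 := sub_ne_zero.mpr hn1
  field_simp
  ring

/-- from an element of the normalizer of order `q ∤ 11`, `q ≠ 1`, to a multiplication `x ↦ n x` -/
theorem exists_mul_of_normalizes (G : Subgroup (Perm (ZMod 11))) (hc : σ ∈ G)
    (g : Perm (ZMod 11)) (hg : g ∈ G) (m : ℕ) (hm : g * σ * g⁻¹ = σ ^ m)
    (q : ℕ) (hq : orderOf g = q) (hq1 : q ≠ 1) (hq11 : ¬ q ∣ 11) :
    ∃ h ∈ G, ∃ n : ZMod 11, (∀ j : ZMod 11, h j = n * j) ∧ h ^ q = 1 ∧ h ≠ 1 := by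
  haveI := fact11
  have hgn := affine_of_normalizes σ hσ g m hm
  by_cases hn1 : (m : ZMod 11) = 1
  · exfalso
    apply hq11
    have hgc : g = σ ^ (g 0).val := by
      apply Equiv.ext
      intro x
      rw [s_pow_apply σ hσ, ZMod.natCast_zmod_val, hgn x, hn1, one_mul]
    rw [← hq, hgc]
    have h3 := orderOf_pow_dvd (x := σ) (g 0).val
    rwa [orderOf_s σ hσ] at h3
  · obtain ⟨k, hk⟩ := exists_conj_mul σ hσ g (m : ZMod 11) (g 0) hgn hn1
    refine ⟨σ ^ k * g * (σ ^ k)⁻¹, ?_, (m : ZMod 11), hk, ?_, ?_⟩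
    · exact G.mul_mem (G.mul_mem (G.pow_mem hc k) hg) (G.inv_mem (G.pow_mem hc k))
    · rw [conj_pow, ← hq, pow_orderOf_eq_one, mul_one, mul_inv_cancel]
    · intro h1
      apply hq1
      have hg1 : g = 1 := by
        have := congrArg (fun f => (σ ^ k)⁻¹ * f * σ ^ k) h1
        simpa [mul_assoc] using this
      rw [← hq, hg1, orderOf_one]

end affine

/-! ### the frame on `Fin 11` -/

theorem c_apply' : ∀ j : ZMod 11, (DFunLike.coe (F := Perm (ZMod 11)) d11c j : ZMod 11) = j + 1 :=
  fun j => d11c_apply j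

/-- a subgroup containing `c` is transitive -/
theorem pretransitive_of_mem (G : Subgroup (Perm (Fin 11))) (hc : d11c ∈ G) :
    IsPretransitive G (Fin 11) := Cfsg.Agent.Lib.Helper7.Deg11P1a.pretransitive_of_d11c G hc

theorem frame_main (G : Subgroup (Perm (Fin 11))) (hc : d11c ∈ G) (hsol : ¬ Group.IsSolvable G) :
    d11d ∈ G ∧ (d11z ∈ G ∨ (IsSimpleGroup G ∧ Nat.card (Sylow 11 G) * 55 = Nat.card G)) := by
  classical
  haveI := fact11
  haveI := pretransitive_of_mem G hc
  have hα : Fintype.card (Fin 11) = 11 := Fintype.card_fin 11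
  have hαn : Nat.card (Fin 11) = 11 := by rw [Nat.card_eq_fintype_card, hα]
  have h11 : (Fintype.card (Fin 11)).Prime := by rw [hα]; norm_num
  have h2t : IsMultiplyPretransitive G (Fin 11) 2 :=
    (Cfsg.Agent.S0675.result h11 G).resolve_left hsol
  -- the Sylow subgroup
  set cG : G := ⟨d11c, hc⟩ with hcG
  have hordc : orderOf cG = 11 :=
    (Subgroup.orderOf_mk d11c hc).trans (orderOf_s d11c c_apply')
  have hpg : IsPGroup 11 (Subgroup.zpowers cG) :=
    IsPGroup.of_card (n := 1) (by rw [Nat.card_zpowers, hordc, pow_one])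
  obtain ⟨P, hP⟩ := hpg.exists_le_sylow
  have hcardP := card_sylow hα G P
  have hPz : (P : Subgroup G) = Subgroup.zpowers cG := by
    symm
    apply Subgroup.eq_of_le_of_card_ge hP
    rw [hcardP, Nat.card_zpowers, hordc]
  set N : Subgroup G := Subgroup.normalizer ((P : Subgroup G) : Set G) with hN
  have hNdvd : Nat.card N ∣ 11 * (11 - 1) := card_normalizer_dvd hα G P
  have hPN : 11 ∣ Nat.card N := by
    have h0 := Subgroup.card_dvd_of_le (Subgroup.le_normalizer (H := (P : Subgroup G)))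
    rwa [hcardP] at h0
  obtain ⟨r, hr⟩ := hPN
  have hr10 : r ∣ 10 := by
    rw [hr] at hNdvd
    exact Nat.dvd_of_mul_dvd_mul_left (by norm_num : 0 < 11) (show 11 * r ∣ 11 * 10 from hNdvd)
  have hr1 : r ≠ 1 := by
    rintro rfl
    exact card_normalizer_ne hα G hsol P (by rw [← hN, hr])
  -- the order of `G`
  set m : ℕ := Nat.card (fixingSubgroup G ({0, 1} : Set (Fin 11))) with hm
  have hidx2 : (fixingSubgroup G ({0, 1} : Set (Fin 11))).index = 110 := by
    have h1 := h2t.index_of_fixingSubgroup_mul (s := ({0, 1} : Set (Fin 11)))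
      (Set.ncard_pair (by decide))
    rw [hαn] at h1
    have h2 : (11 - 2).factorial = 362880 := by decide
    have h3 : (11 : ℕ).factorial = 110 * 362880 := by decide
    rw [h2, h3] at h1
    exact Nat.eq_of_mul_eq_mul_right (by norm_num) h1
  have hGm : Nat.card G = 110 * m := by
    have h1 := Subgroup.card_mul_index (fixingSubgroup G ({0, 1} : Set (Fin 11)))
    rw [hidx2] at h1
    rw [← h1, mul_comm]
  have hmpos : 0 < m := Nat.card_pos
  have hnidx : Nat.card (Sylow 11 G) = N.index := Sylow.card_eq_index_normalizer P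
  have hNG : 11 * r * N.index = 110 * m := by
    rw [← hr, ← hGm]
    exact Subgroup.card_mul_index N
  -- elements of prime order in the normalizer give multiplications
  have key : ∀ q : ℕ, q.Prime → q ∣ Nat.card N → q ≠ 11 →
      ∃ h ∈ G, ∃ n : ZMod 11, (∀ j : ZMod 11, h j = n * j) ∧ h ^ q = 1 ∧ h ≠ 1 := by
    intro q hq hqd hq11
    haveI : Fact q.Prime := ⟨hq⟩
    obtain ⟨x, hx⟩ := exists_prime_orderOf_dvd_card' q hqd
    have hxN : (x : G) ∈ N := x.2
    have hmem : (x : G) * cG * (x : G)⁻¹ ∈ (P : Subgroup G) :=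
      (Subgroup.mem_normalizer_iff.mp hxN cG).mp (hP (Subgroup.mem_zpowers cG))
    rw [hPz, ← mem_powers_iff_mem_zpowers] at hmem
    obtain ⟨k, hk⟩ := (Submonoid.mem_powers_iff _ _).mp hmem
    have hk' : ((x : G) : Perm (Fin 11)) * d11c * ((x : G) : Perm (Fin 11))⁻¹ = d11c ^ k := by
      have := congrArg Subtype.val hk
      simpa [hcG] using this.symm
    have hord : orderOf ((x : G) : Perm (Fin 11)) = q := by
      rw [Subgroup.orderOf_coe, Subgroup.orderOf_coe, hx]
    exact exists_mul_of_normalizes d11c c_apply' G hc _ (x : G).2 k hk' q hord hq.ne_one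
      (fun hdvd => hq11 ((Nat.prime_dvd_prime_iff_eq hq (by norm_num)).mp hdvd))
  have h5 : 5 ∣ Nat.card N → d11d ∈ G := by
    intro hd
    obtain ⟨h, hh, n, hgn, hp, h1⟩ := key 5 (by norm_num) hd (by norm_num)
    exact d11d_mem_of_mul G h hh n hgn hp h1
  have h2 : 2 ∣ Nat.card N → d11n ∈ G := by
    intro hd
    obtain ⟨h, hh, n, hgn, hp, h1⟩ := key 2 (by norm_num) hd (by norm_num)
    exact d11n_mem_of_mul G h hh n hgn hp h1
  -- the three cases
  have hr_le : r ≤ 10 := Nat.le_of_dvd (by norm_num) hr10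
  have hrpos : 0 < r := Nat.pos_of_dvd_of_pos hr10 (by norm_num)
  have hsimple : r.Prime → IsSimpleGroup G := by
    intro hrp
    apply Cfsg.Agent.S1013.result hα G P
    · rw [hnidx]
      have : r ≤ 5 := by
        interval_cases r <;> first | omega | (exfalso; revert hrp; decide)
      nlinarith
    · have h1 : ((P : Subgroup G).subgroupOf N).index = r := by
        have h2 := Subgroup.relIndex_mul_index (H := (P : Subgroup G)) (K := N)
          Subgroup.le_normalizer
        have h3 := Subgroup.card_mul_index (P : Subgroup G)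
        have h4 := Subgroup.card_mul_index N
        rw [hcardP] at h3
        rw [hr] at h4
        show (P : Subgroup G).relIndex N = r
        have h5 : 11 * ((P : Subgroup G).relIndex N * N.index) = 11 * (r * N.index) := by
          rw [h2, h3, ← mul_assoc, h4]
        have h6 := Nat.eq_of_mul_eq_mul_left (by norm_num : 0 < 11) h5
        have hNpos : 0 < N.index := Nat.pos_of_ne_zero (Subgroup.index_ne_zero_of_finite)
        exact Nat.eq_of_mul_eq_mul_right hNpos h6
      rw [h1]
      exact hrp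
  have hcases : r = 2 ∨ r = 5 ∨ r = 10 := by
    interval_cases r <;> omega
  rcases hcases with rfl | rfl | rfl
  · exfalso
    have hs := hsimple (by norm_num)
    have hn := h2 (by rw [hr]; norm_num)
    exact not_simple_of_d11n_mem G hc hn hs
  · refine ⟨h5 (by rw [hr]; norm_num), Or.inr ⟨hsimple (by norm_num), ?_⟩⟩
    rw [hnidx]
    have h4 := Subgroup.card_mul_index N
    rw [hr] at h4
    rw [← h4]
    ring
  · have hd := h5 (by rw [hr]; norm_num)
    have hn := h2 (by rw [hr]; norm_num)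
    exact ⟨hd, Or.inl (d11z_mem_of_mem G hd hn)⟩


end Cfsg.Agent.Lib.Helper2.Deg11P1

namespace Cfsg.Agent.Lib.Deg11

open Equiv MulAction

/-- **S0679, package P1**: the frame. -/
theorem d11_frame (G : Subgroup (Perm (Fin 11))) (hc : d11c ∈ G) (hsol : ¬ Group.IsSolvable G)
    (hA : ¬ alternatingGroup (Fin 11) ≤ G) :
    NoSmallCycle G ∧ d11d ∈ G ∧
      (d11z ∈ G ∨ (IsSimpleGroup G ∧ Nat.card (Sylow 11 G) * 55 = Nat.card G)) :=
  ⟨Cfsg.Agent.Lib.Helper7.Deg11P1a.noSmallCycle G hc hsol hA,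
    Cfsg.Agent.Lib.Helper2.Deg11P1.frame_main G hc hsol⟩

end Cfsg.Agent.Lib.Deg11
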