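import Mathlib

set_option autoImplicit false

namespace Cfsg.Agent.Lib.Helper2.Dickson

open Finset Nat

/-- relative Euler product formula -/
theorem totient_rel (n m : ℕ) (hn : n ≠ 0) (hm : m ≠ 0) :
    φ (n * m) * ∏ p ∈ n.primeFactors \ m.primeFactors, p =
      n * φ m * ∏ p ∈ n.primeFactors \ m.primeFactors, (p - 1) := by
  have h1 := Nat.totient_mul_prod_primeFactors (n * m)
  have h2 := Nat.totient_mul_prod_primeFactors m
  have hpf : (n * m).primeFactors = m.primeFactors ∪ (n.primeFactors \ m.primeFactors) := by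
    rw [Nat.primeFactors_mul hn hm, Finset.union_sdiff_self_eq_union, Finset.union_comm]
  have hdisj : Disjoint m.primeFactors (n.primeFactors \ m.primeFactors) :=
    Finset.disjoint_sdiff
  rw [hpf, Finset.prod_union hdisj, Finset.prod_union hdisj] at h1
  have hA : 0 < ∏ p ∈ m.primeFactors, p :=
    Finset.prod_pos (fun p hp => Nat.pos_of_mem_primeFactors hp)
  apply Nat.eq_of_mul_eq_mul_left hA
  calc (∏ p ∈ m.primeFactors, p) * (φ (n * m) * ∏ p ∈ n.primeFactors \ m.primeFactors, p)
      = φ (n * m) * ((∏ p ∈ m.primeFactors, p) * ∏ p ∈ n.primeFactors \ m.primeFactors, p) := by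
        ring
    _ = n * m * ((∏ p ∈ m.primeFactors, (p - 1)) *
          ∏ p ∈ n.primeFactors \ m.primeFactors, (p - 1)) := h1
    _ = n * (m * ∏ p ∈ m.primeFactors, (p - 1)) *
          ∏ p ∈ n.primeFactors \ m.primeFactors, (p - 1) := by ring
    _ = n * (φ m * ∏ p ∈ m.primeFactors, p) *
          ∏ p ∈ n.primeFactors \ m.primeFactors, (p - 1) := by rw [h2]
    _ = _ := by ring

theorem primes_dvd_of_totient (n m : ℕ) (hn : n ≠ 0) (hm : m ≠ 0)
    (h : n * φ m ∣ φ (n * m)) : ∀ r : ℕ, r.Prime → r ∣ n → r ∣ m := by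
  have hrel := totient_rel n m hn hm
  set R := n.primeFactors \ m.primeFactors with hR
  obtain ⟨k, hk⟩ := h
  have hpos : 0 < n * φ m := Nat.mul_pos (Nat.pos_of_ne_zero hn)
    (Nat.totient_pos.mpr (Nat.pos_of_ne_zero hm))
  have hkB : k * ∏ p ∈ R, p = ∏ p ∈ R, (p - 1) := by
    apply Nat.eq_of_mul_eq_mul_left hpos
    rw [← hrel, hk]
    ring
  have hRe : R = ∅ := by
    by_contra hne
    have hne' : R.Nonempty := Finset.nonempty_iff_ne_empty.mpr hne
    set r := R.max' hne' with hr
    have hrR : r ∈ R := Finset.max'_mem R hne'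
    have hrp : r.Prime := by
      have : r ∈ n.primeFactors := (Finset.mem_sdiff.mp hrR).1
      exact Nat.prime_of_mem_primeFactors this
    have hdvd : r ∣ ∏ p ∈ R, (p - 1) := by
      rw [← hkB]
      exact Dvd.dvd.mul_left (Finset.dvd_prod_of_mem (fun p => p) hrR) k
    obtain ⟨p, hpR, hrp1⟩ := (Prime.dvd_finsetProd_iff hrp.prime _).mp hdvd
    have hpp : p.Prime := by
      have : p ∈ n.primeFactors := (Finset.mem_sdiff.mp hpR).1
      exact Nat.prime_of_mem_primeFactors this
    have hle : p ≤ r := Finset.le_max' R p hpR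
    have h1 : 0 < p - 1 := by have := hpp.two_le; omega
    have := Nat.le_of_dvd h1 hrp1
    omega
  intro r hr hrn
  by_contra hrm
  have : r ∈ R := by
    rw [hR, Finset.mem_sdiff]
    refine ⟨Nat.mem_primeFactors.mpr ⟨hr, hrn, hn⟩, ?_⟩
    intro hmem
    exact hrm (Nat.dvd_of_mem_primeFactors hmem)
  rw [hRe] at this
  exact absurd this (Finset.notMem_empty r)


theorem totient_dvd_of_order (q n : ℕ) (hq : 2 ≤ q) (hn : 0 < n)
    (h1 : q ^ n ≡ 1 [MOD n * (q - 1)])
    (h2 : ∀ i : ℕ, 0 < i → i < n → ¬ q ^ i ≡ 1 [MOD n * (q - 1)]) :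
    n * φ (q - 1) ∣ φ (n * (q - 1)) := by
  set N := n * (q - 1) with hN
  have hq1 : q - 1 ≠ 0 := by omega
  have hN0 : N ≠ 0 := Nat.mul_ne_zero hn.ne' hq1
  have : NeZero N := ⟨hN0⟩
  have : NeZero (q - 1) := ⟨hq1⟩
  have e1 : (q : ZMod N) ^ n = 1 := by
    have := (ZMod.natCast_eq_natCast_iff _ _ _).mpr h1
    push_cast at this
    exact this
  have hmul : (q : ZMod N) * (q : ZMod N) ^ (n - 1) = 1 := by
    rw [← _root_.pow_succ', Nat.sub_add_cancel hn, e1]
  set u : (ZMod N)ˣ := Units.mkOfMulEqOne (q : ZMod N) ((q : ZMod N) ^ (n - 1)) hmul with hu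
  have huval : (u : ZMod N) = q := rfl
  have hord : orderOf u = n := by
    rw [orderOf_eq_iff hn]
    constructor
    · apply Units.ext
      rw [Units.val_pow_eq_pow_val, huval, e1, Units.val_one]
    · intro m hmn hm0 hc
      apply h2 m hm0 hmn
      have := congrArg Units.val hc
      rw [Units.val_pow_eq_pow_val, huval, Units.val_one] at this
      rw [← ZMod.natCast_eq_natCast_iff]
      push_cast
      exact this
  have hd : (q - 1) ∣ N := Dvd.intro_left n rfl
  have hfu : ZMod.unitsMap hd u = 1 := by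
    apply Units.ext
    rw [ZMod.unitsMap_val, huval, ZMod.cast_natCast hd, Units.val_one]
    have : q = (q - 1) + 1 := by omega
    rw [this]
    push_cast
    rw [ZMod.natCast_self, zero_add]
  have hsurj := ZMod.unitsMap_surjective hd
  have hcard : Nat.card (ZMod.unitsMap hd).ker * φ (q - 1) = φ N := by
    have h3 := Subgroup.card_mul_index (ZMod.unitsMap hd).ker
    rw [Subgroup.index_ker, MonoidHom.range_eq_top.mpr hsurj, Subgroup.card_top,
      Nat.card_eq_fintype_card, Nat.card_eq_fintype_card, Nat.card_eq_fintype_card,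
      ZMod.card_units_eq_totient, ZMod.card_units_eq_totient] at h3
    rw [Nat.card_eq_fintype_card]
    exact h3
  have hdvd : n ∣ Nat.card (ZMod.unitsMap hd).ker := by
    rw [← hord]
    exact Subgroup.orderOf_dvd_natCard _ (MonoidHom.mem_ker.mpr hfu)
  rw [← hcard]
  exact Nat.mul_dvd_mul_right hdvd _

end Cfsg.Agent.Lib.Helper2.Dickson
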