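import Mathlib
import Cfsg.Agent.Lib.Helper2.DicksonPair1

set_option autoImplicit false

namespace Cfsg.Agent.Lib.Helper2.Dickson

open Finset

theorem dvd_of_padic {a b : ℕ} (ha : a ≠ 0) (hb : b ≠ 0)
    (h : ∀ p : ℕ, p.Prime → padicValNat p a ≤ padicValNat p b) : a ∣ b := by
  rw [← Nat.factorization_prime_le_iff_dvd ha hb]
  intro p hp
  rw [Nat.factorization_def _ hp, Nat.factorization_def _ hp]
  exact h p hp

theorem padic_le_of_dvd {a b : ℕ} (hb : b ≠ 0) (h : a ∣ b) (p : ℕ) (hp : p.Prime) :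
    padicValNat p a ≤ padicValNat p b := by
  have ha : a ≠ 0 := ne_zero_of_dvd_ne_zero hb h
  have := (Nat.factorization_prime_le_iff_dvd ha hb).mpr h p hp
  rwa [Nat.factorization_def _ hp, Nat.factorization_def _ hp] at this

theorem pow_sub_one_ne_zero {q k : ℕ} (hq : 2 ≤ q) (hk : k ≠ 0) : q ^ k - 1 ≠ 0 := by
  have : 2 ≤ q ^ k := by
    calc 2 ≤ q := hq
      _ = q ^ 1 := (pow_one q).symm
      _ ≤ q ^ k := Nat.pow_le_pow_right (by omega) (Nat.one_le_iff_ne_zero.mpr hk)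
  omega

theorem sub_one_dvd {q k : ℕ} : q - 1 ∣ q ^ k - 1 := by
  exact Nat.sub_one_dvd_pow_sub_one q k

theorem not_dvd_of_dvd_pred {p q : ℕ} (hp : p.Prime) (hq : 2 ≤ q) (hpq : p ∣ q - 1) : ¬ p ∣ q := by
  intro h
  have h1 : p ∣ q - (q - 1) := Nat.dvd_sub h hpq
  have h2 : q - (q - 1) = 1 := by omega
  rw [h2] at h1
  exact hp.one_lt.ne' (Nat.dvd_one.mp h1)

theorem v_odd {p q k : ℕ} (hp : p.Prime) (hp2 : p ≠ 2) (hq : 2 ≤ q) (hpq : p ∣ q - 1)
    (hk : k ≠ 0) :
    padicValNat p (q ^ k - 1) = padicValNat p (q - 1) + padicValNat p k := by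
  have := Fact.mk hp
  have hodd : Odd p := hp.odd_of_ne_two hp2
  have hnq : ¬ p ∣ q := not_dvd_of_dvd_pred hp hq hpq
  have := padicValNat.pow_sub_pow hodd (show 1 < q by omega) hpq hnq hk
  simpa using this

theorem v_two_even {q k : ℕ} (hq : 2 ≤ q) (hodd : ¬ 2 ∣ q) (hk : k ≠ 0) (hke : Even k) :
    padicValNat 2 (q ^ k - 1) + 1 =
      padicValNat 2 (q + 1) + padicValNat 2 (q - 1) + padicValNat 2 k :=
  padicValNat.pow_two_sub_one (by omega) hodd hk hke

theorem geom_odd {q k : ℕ} (hq : Odd q) (hk : Odd k) : Odd (∑ i ∈ range k, q ^ i) := by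
  rw [Finset.odd_sum_iff_odd_card_odd]
  have : (range k).filter (fun i => Odd (q ^ i)) = range k := by
    apply Finset.filter_true_of_mem
    intro i _
    exact hq.pow
  rw [this, Finset.card_range]
  exact hk

theorem geom_mul {q k : ℕ} (hq : 1 ≤ q) : (∑ i ∈ range k, q ^ i) * (q - 1) = q ^ k - 1 := by
  have := geom_sum_mul_add (q - 1) k
  rw [Nat.sub_add_cancel hq] at this
  omega

/-- Claim A -/
theorem claimA (q n : ℕ) (hq : 2 ≤ q) (hn : 0 < n)
    (hpr : ∀ r : ℕ, r.Prime → r ∣ n → r ∣ q - 1) : n * (q - 1) ∣ q ^ n - 1 := by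
  have hq1 : q - 1 ≠ 0 := by omega
  apply dvd_of_padic (Nat.mul_ne_zero hn.ne' hq1) (pow_sub_one_ne_zero hq hn.ne')
  intro p hp
  have := Fact.mk hp
  rw [padicValNat.mul hn.ne' hq1]
  by_cases hpn : p ∣ n
  · have hpq := hpr p hp hpn
    by_cases hp2 : p = 2
    · subst hp2
      have hodd : ¬ 2 ∣ q := not_dvd_of_dvd_pred hp hq hpq
      have hev : Even n := (even_iff_two_dvd).mpr hpn
      have h1 := v_two_even hq hodd hn.ne' hev
      have h2 : 1 ≤ padicValNat 2 (q + 1) := by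
        apply one_le_padicValNat_of_dvd (by omega)
        omega
      omega
    · rw [v_odd hp hp2 hq hpq hn.ne']
      omega
  · rw [padicValNat.eq_zero_of_not_dvd hpn, zero_add]
    exact padic_le_of_dvd (pow_sub_one_ne_zero hq hn.ne') sub_one_dvd p hp

/-- Claim B -/
theorem claimB (q n r : ℕ) (hq : 2 ≤ q) (hn : 0 < n)
    (hpr : ∀ r : ℕ, r.Prime → r ∣ n → r ∣ q - 1) (h4 : 4 ∣ n → 4 ∣ q - 1)
    (hr : r.Prime) (hrn : r ∣ n) : ¬ n * (q - 1) ∣ q ^ (n / r) - 1 := by
  intro hdvd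
  have hq1 : q - 1 ≠ 0 := by omega
  have := Fact.mk hr
  obtain ⟨k, hk⟩ := hrn
  have hk0 : k ≠ 0 := by
    rintro rfl
    simp at hk
    omega
  have hnk : n / r = k := by
    rw [hk]
    exact Nat.mul_div_cancel_left k hr.pos
  rw [hnk] at hdvd
  have hrq := hpr r hr ⟨k, hk⟩
  have hle := padic_le_of_dvd (pow_sub_one_ne_zero hq hk0) hdvd r hr
  rw [padicValNat.mul hn.ne' hq1] at hle
  have hvn : padicValNat r n = 1 + padicValNat r k := by
    rw [hk, padicValNat.mul hr.ne_zero hk0, padicValNat_self]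
  by_cases hr2 : r = 2
  · subst hr2
    have hodd : ¬ 2 ∣ q := not_dvd_of_dvd_pred hr hq hrq
    rcases Nat.even_or_odd k with hke | hko
    · have h4n : 4 ∣ n := by
        obtain ⟨j, hj⟩ := hke
        exact ⟨j, by omega⟩
      have h4q := h4 h4n
      have h1 := v_two_even hq hodd hk0 hke
      have h2 : padicValNat 2 (q + 1) < 2 := by
        by_contra hcon
        rw [not_lt] at hcon
        have : 2 ^ 2 ∣ q + 1 := (padicValNat_dvd_iff_le (by omega)).mpr hcon
        omega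
      omega
    · -- k odd
      have hgm := geom_mul (k := k) (show 1 ≤ q by omega)
      rw [← hgm, hk] at hdvd
      have h2 : 2 * k ∣ ∑ i ∈ range k, q ^ i :=
        Nat.dvd_of_mul_dvd_mul_right (Nat.pos_of_ne_zero hq1) hdvd
      have hqodd : Odd q := by
        rw [← Nat.not_even_iff_odd, even_iff_two_dvd]
        exact hodd
      have hS := geom_odd hqodd hko
      have : 2 ∣ ∑ i ∈ range k, q ^ i := Dvd.dvd.trans (Dvd.intro k rfl) h2
      rw [← even_iff_two_dvd, ← Nat.not_odd_iff_even] at this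
      exact this hS
  · rw [v_odd hr hr2 hq hrq hk0] at hle
    omega

end Cfsg.Agent.Lib.Helper2.Dickson
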