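import Mathlib
import Cfsg.Agent.Lib.Helper2.DicksonPair2

set_option autoImplicit false

namespace Cfsg.Agent.Lib.Helper2.Dickson

open Finset

/-- Claim C: if `4 ∣ n`, all primes of `n` divide `q - 1` but `4 ∤ q - 1`, then already
`q ^ (n / 2) ≡ 1`. -/
theorem claimC (q n : ℕ) (hq : 2 ≤ q) (hn : 0 < n)
    (hpr : ∀ r : ℕ, r.Prime → r ∣ n → r ∣ q - 1) (h4n : 4 ∣ n) (h4q : ¬ 4 ∣ q - 1) :
    n * (q - 1) ∣ q ^ (n / 2) - 1 := by
  have hq1 : q - 1 ≠ 0 := by omega
  obtain ⟨j, hj⟩ := h4n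
  have hj0 : j ≠ 0 := by
    rintro rfl
    omega
  set k := n / 2 with hk
  have hk2 : k = 2 * j := by omega
  have hnk : n = 2 * k := by omega
  have hk0 : k ≠ 0 := by omega
  have hke : Even k := ⟨j, by omega⟩
  have h2n : 2 ∣ n := ⟨k, hnk⟩
  have h2q := hpr 2 Nat.prime_two h2n
  have hodd : ¬ 2 ∣ q := not_dvd_of_dvd_pred Nat.prime_two hq h2q
  apply dvd_of_padic (Nat.mul_ne_zero hn.ne' hq1) (pow_sub_one_ne_zero hq hk0)
  intro p hp
  have := Fact.mk hp
  rw [padicValNat.mul hn.ne' hq1]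
  by_cases hpn : p ∣ n
  · have hpq := hpr p hp hpn
    by_cases hp2 : p = 2
    · subst hp2
      have h1 := v_two_even hq hodd hk0 hke
      have hvn : padicValNat 2 n = 1 + padicValNat 2 k := by
        rw [hnk, padicValNat.mul (by norm_num) hk0, padicValNat_self]
      have h2 : 2 ≤ padicValNat 2 (q + 1) := by
        apply (padicValNat_dvd_iff_le (by omega)).mp
        omega
      omega
    · rw [v_odd hp hp2 hq hpq hk0]
      have hvn : padicValNat p n = padicValNat p k := by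
        rw [hnk, padicValNat.mul (by norm_num) hk0]
        have : ¬ p ∣ 2 := by
          intro h
          have := (Nat.prime_dvd_prime_iff_eq hp Nat.prime_two).mp h
          exact hp2 this
        rw [padicValNat.eq_zero_of_not_dvd this, zero_add]
      omega
  · rw [padicValNat.eq_zero_of_not_dvd hpn, zero_add]
    exact padic_le_of_dvd (pow_sub_one_ne_zero hq hk0) sub_one_dvd p hp

theorem modEq_one_iff {q i N : ℕ} (hq : 1 ≤ q) : q ^ i ≡ 1 [MOD N] ↔ N ∣ q ^ i - 1 := by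
  have h1 : 1 ≤ q ^ i := Nat.one_le_pow _ _ hq
  rw [Nat.ModEq.comm, Nat.modEq_iff_dvd' h1]

theorem main (q n : ℕ) (hq : 2 ≤ q) (hn : 1 < n) :
    ((∀ r : ℕ, r.Prime → r ∣ n → r ∣ q - 1) ∧ (4 ∣ n → 4 ∣ q - 1)) ↔
      (q ^ n ≡ 1 [MOD n * (q - 1)] ∧
        ∀ i : ℕ, 0 < i → i < n → ¬ q ^ i ≡ 1 [MOD n * (q - 1)]) := by
  have hn0 : 0 < n := by omega
  have hq1 : 1 ≤ q := by omega
  constructor
  · rintro ⟨hpr, h4⟩
    have hA := claimA q n hq hn0 hpr
    refine ⟨(modEq_one_iff hq1).mpr hA, ?_⟩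
    intro i hi0 hin hi
    have hi' := (modEq_one_iff hq1).mp hi
    -- gcd
    set N := n * (q - 1) with hN
    have e1 : (q : ZMod N) ^ n = 1 := by
      have := (ZMod.natCast_eq_natCast_iff _ _ _).mpr ((modEq_one_iff hq1).mpr hA)
      push_cast at this
      exact this
    have e2 : (q : ZMod N) ^ i = 1 := by
      have := (ZMod.natCast_eq_natCast_iff _ _ _).mpr hi
      push_cast at this
      exact this
    have o1 := orderOf_dvd_of_pow_eq_one e1
    have o2 := orderOf_dvd_of_pow_eq_one e2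
    set g := Nat.gcd i n with hg
    have o3 : orderOf (q : ZMod N) ∣ g := Nat.dvd_gcd o2 o1
    have e3 : (q : ZMod N) ^ g = 1 := orderOf_dvd_iff_pow_eq_one.mp o3
    have hgn : g ∣ n := Nat.gcd_dvd_right i n
    have hgi : g ∣ i := Nat.gcd_dvd_left i n
    have hg0 : 0 < g := Nat.gcd_pos_of_pos_right i hn0
    have hglt : g < n := lt_of_le_of_lt (Nat.le_of_dvd hi0 hgi) hin
    obtain ⟨t, ht⟩ := hgn
    have ht1 : t ≠ 1 := by
      rintro rfl
      omega
    obtain ⟨r, hr, hrt⟩ := Nat.exists_prime_and_dvd ht1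
    obtain ⟨s, hs⟩ := hrt
    have hrn : r ∣ n := ⟨g * s, by rw [ht, hs]; ring⟩
    have hnr : n / r = g * s := by
      rw [ht, hs, show g * (r * s) = r * (g * s) by ring]
      exact Nat.mul_div_cancel_left _ hr.pos
    have e4 : (q : ZMod N) ^ (n / r) = 1 := by
      rw [hnr, pow_mul, e3, one_pow]
    have hmod : q ^ (n / r) ≡ 1 [MOD N] := by
      rw [← ZMod.natCast_eq_natCast_iff]
      push_cast
      exact e4
    exact claimB q n r hq hn0 hpr h4 hr hrn ((modEq_one_iff hq1).mp hmod)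
  · rintro ⟨h1, h2⟩
    have hq10 : q - 1 ≠ 0 := by omega
    have htot := totient_dvd_of_order q n hq hn0 h1 h2
    have hpr := primes_dvd_of_totient n (q - 1) hn0.ne' hq10 htot
    refine ⟨hpr, ?_⟩
    intro h4n
    by_contra h4q
    have hC := claimC q n hq hn0 hpr h4n h4q
    have hlt : n / 2 < n := Nat.div_lt_self hn0 (by norm_num)
    have hpos : 0 < n / 2 := by
      obtain ⟨j, hj⟩ := h4n
      omega
    exact h2 (n / 2) hpos hlt ((modEq_one_iff hq1).mpr hC)

end Cfsg.Agent.Lib.Helper2.Dickson
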