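import Mathlib
import Cfsg.Agent.Lib.Helper2.CentOmega6

set_option autoImplicit false

namespace Cfsg.Agent.Lib.Helper2

namespace Exc3

open Matrix

variable {F : Type*} [Field F]

/-- the index type of the three-dimensional form -/
abbrev I3 := Unit ⊕ (Fin 1 ⊕ Fin 1)

/-- matrix of `X ↦ g X adj(g)` on trace-zero `2 × 2` matrices `[[x₀, x₁], [y₁, -x₀]]` -/
def R (g : Matrix (Fin 2) (Fin 2) F) : Matrix I3 I3 F :=
  Matrix.of fun i j => match i, j with
  | .inl _, .inl _ => g 0 0 * g 1 1 + g 0 1 * g 1 0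
  | .inl _, .inr (.inl _) => - (g 0 0 * g 1 0)
  | .inl _, .inr (.inr _) => g 0 1 * g 1 1
  | .inr (.inl _), .inl _ => - (2 * g 0 0 * g 0 1)
  | .inr (.inl _), .inr (.inl _) => g 0 0 ^ 2
  | .inr (.inl _), .inr (.inr _) => - g 0 1 ^ 2
  | .inr (.inr _), .inl _ => 2 * g 1 0 * g 1 1
  | .inr (.inr _), .inr (.inl _) => - g 1 0 ^ 2
  | .inr (.inr _), .inr (.inr _) => g 1 1 ^ 2

theorem R_mulVec_0 (g : Matrix (Fin 2) (Fin 2) F) (v : I3 → F) (u : Unit) :
    (R g *ᵥ v) (.inl u) = (g 0 0 * g 1 1 + g 0 1 * g 1 0) * v (.inl ())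
      - g 0 0 * g 1 0 * v (.inr (.inl 0)) + g 0 1 * g 1 1 * v (.inr (.inr 0)) := by
  simp only [Matrix.mulVec, dotProduct, Fintype.sum_sum_type, Finset.univ_unique,
    Finset.sum_singleton, R, Matrix.of_apply, Fin.default_eq_zero]
  ring

theorem R_mulVec_1 (g : Matrix (Fin 2) (Fin 2) F) (v : I3 → F) (i : Fin 1) :
    (R g *ᵥ v) (.inr (.inl i)) = - (2 * g 0 0 * g 0 1) * v (.inl ())
      + g 0 0 ^ 2 * v (.inr (.inl 0)) - g 0 1 ^ 2 * v (.inr (.inr 0)) := by
  simp only [Matrix.mulVec, dotProduct, Fintype.sum_sum_type, Finset.univ_unique,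
    Finset.sum_singleton, R, Matrix.of_apply, Fin.default_eq_zero]
  ring

theorem R_mulVec_2 (g : Matrix (Fin 2) (Fin 2) F) (v : I3 → F) (i : Fin 1) :
    (R g *ᵥ v) (.inr (.inr i)) = 2 * g 1 0 * g 1 1 * v (.inl ())
      - g 1 0 ^ 2 * v (.inr (.inl 0)) + g 1 1 ^ 2 * v (.inr (.inr 0)) := by
  simp only [Matrix.mulVec, dotProduct, Fintype.sum_sum_type, Finset.univ_unique,
    Finset.sum_singleton, R, Matrix.of_apply, Fin.default_eq_zero]
  ring

theorem R_mul (g h : Matrix (Fin 2) (Fin 2) F) : R (g * h) = R g * R h := by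
  apply Matrix.toLin'.injective
  apply LinearMap.ext
  intro v
  rw [Matrix.toLin'_apply, Matrix.toLin'_apply, ← Matrix.mulVec_mulVec]
  funext i
  rcases i with ⟨⟩ | i | i
  · simp only [R_mulVec_0, R_mulVec_1, R_mulVec_2, Matrix.mul_apply, Fin.sum_univ_two]
    ring
  · simp only [R_mulVec_0, R_mulVec_1, R_mulVec_2, Matrix.mul_apply, Fin.sum_univ_two]
    ring
  · simp only [R_mulVec_0, R_mulVec_1, R_mulVec_2, Matrix.mul_apply, Fin.sum_univ_two]
    ring

theorem R_one : R (1 : Matrix (Fin 2) (Fin 2) F) = 1 := by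
  apply Matrix.toLin'.injective
  apply LinearMap.ext
  intro v
  rw [Matrix.toLin'_apply, Matrix.toLin'_apply, Matrix.one_mulVec]
  funext i
  rcases i with ⟨⟩ | i | i
  · rw [R_mulVec_0]
    simp
  · rw [R_mulVec_1]
    simp [Subsingleton.elim i 0]
  · rw [R_mulVec_2]
    simp [Subsingleton.elim i 0]

theorem Q_R (g : Matrix (Fin 2) (Fin 2) F) (v : I3 → F) :
    Cfsg.quadFormOdd 1 F (R g *ᵥ v) = g.det ^ 2 * Cfsg.quadFormOdd 1 F v := by
  unfold Cfsg.quadFormOdd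
  simp only [Finset.univ_unique, Finset.sum_singleton, Fin.default_eq_zero]
  rw [R_mulVec_0, R_mulVec_1, R_mulVec_2, Matrix.det_fin_two]
  ring

end Exc3

end Cfsg.Agent.Lib.Helper2
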