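import Mathlib
import Cfsg.Agent.Lib.Helper2.OrthCard3

set_option autoImplicit false

namespace Cfsg.Agent.Lib.Helper2

namespace OrthCard

open Matrix HypExt OrthSum Cfsg.Agent.Lib.Helper5.QuadGlue

variable {F : Type*} [Field F]

theorem odd_zero_apply (v : Unit ⊕ (Fin 0 ⊕ Fin 0) → F) :
    Cfsg.quadFormOdd 0 F v = v (Sum.inl ()) ^ 2 := by
  unfold Cfsg.quadFormOdd
  simp

theorem mulVec_zero_dim (M : Matrix (Unit ⊕ (Fin 0 ⊕ Fin 0)) (Unit ⊕ (Fin 0 ⊕ Fin 0)) F)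
    (v : Unit ⊕ (Fin 0 ⊕ Fin 0) → F) :
    (M *ᵥ v) (Sum.inl ()) = M (Sum.inl ()) (Sum.inl ()) * v (Sum.inl ()) := by
  simp [Matrix.mulVec, dotProduct, Fintype.sum_sum_type]

theorem card_odd_zero (h2 : (2 : F) ≠ 0) :
    Nat.card ↥(Cfsg.isometryGroup F (Cfsg.quadFormOdd 0 F)) = 2 := by
  have hneg : (-1 : Matrix.GeneralLinearGroup (Unit ⊕ (Fin 0 ⊕ Fin 0)) F) ∈
      Cfsg.isometryGroup F (Cfsg.quadFormOdd 0 F) := by
    intro u _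
    show Cfsg.quadFormOdd 0 F (((-1 : Matrix.GeneralLinearGroup (Unit ⊕ (Fin 0 ⊕ Fin 0)) F) :
      Matrix (Unit ⊕ (Fin 0 ⊕ Fin 0)) (Unit ⊕ (Fin 0 ⊕ Fin 0)) F) *ᵥ u) = Cfsg.quadFormOdd 0 F u
    rw [odd_zero_apply, odd_zero_apply, mulVec_zero_dim]
    simp
  have hentry : ∀ g : ↥(Cfsg.isometryGroup F (Cfsg.quadFormOdd 0 F)),
      ((g : Matrix.GeneralLinearGroup (Unit ⊕ (Fin 0 ⊕ Fin 0)) F) :
        Matrix (Unit ⊕ (Fin 0 ⊕ Fin 0)) (Unit ⊕ (Fin 0 ⊕ Fin 0)) F) (Sum.inl ()) (Sum.inl ()) = 1 ∨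
      ((g : Matrix.GeneralLinearGroup (Unit ⊕ (Fin 0 ⊕ Fin 0)) F) :
        Matrix (Unit ⊕ (Fin 0 ⊕ Fin 0)) (Unit ⊕ (Fin 0 ⊕ Fin 0)) F) (Sum.inl ()) (Sum.inl ()) = -1 := by
    intro g
    have h := g.2 (fun _ => 1) (fun _ => 1)
    have h' : Cfsg.quadFormOdd 0 F (((g : Matrix.GeneralLinearGroup (Unit ⊕ (Fin 0 ⊕ Fin 0)) F) :
        Matrix (Unit ⊕ (Fin 0 ⊕ Fin 0)) (Unit ⊕ (Fin 0 ⊕ Fin 0)) F) *ᵥ (fun _ => 1)) =
        Cfsg.quadFormOdd 0 F (fun _ => 1) := h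
    rw [odd_zero_apply, odd_zero_apply, mulVec_zero_dim] at h'
    simp only [mul_one, one_pow] at h'
    have h3 : (((g : Matrix.GeneralLinearGroup (Unit ⊕ (Fin 0 ⊕ Fin 0)) F) :
        Matrix (Unit ⊕ (Fin 0 ⊕ Fin 0)) (Unit ⊕ (Fin 0 ⊕ Fin 0)) F) (Sum.inl ()) (Sum.inl ()) - 1) *
        (((g : Matrix.GeneralLinearGroup (Unit ⊕ (Fin 0 ⊕ Fin 0)) F) :
        Matrix (Unit ⊕ (Fin 0 ⊕ Fin 0)) (Unit ⊕ (Fin 0 ⊕ Fin 0)) F) (Sum.inl ()) (Sum.inl ()) + 1) = 0 := by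
      linear_combination h'
    rcases mul_eq_zero.1 h3 with h | h
    · left; exact sub_eq_zero.1 h
    · right; exact eq_neg_of_add_eq_zero_left h
  have hext : ∀ g h : ↥(Cfsg.isometryGroup F (Cfsg.quadFormOdd 0 F)),
      ((g : Matrix.GeneralLinearGroup (Unit ⊕ (Fin 0 ⊕ Fin 0)) F) :
        Matrix (Unit ⊕ (Fin 0 ⊕ Fin 0)) (Unit ⊕ (Fin 0 ⊕ Fin 0)) F) (Sum.inl ()) (Sum.inl ()) =
      ((h : Matrix.GeneralLinearGroup (Unit ⊕ (Fin 0 ⊕ Fin 0)) F) :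
        Matrix (Unit ⊕ (Fin 0 ⊕ Fin 0)) (Unit ⊕ (Fin 0 ⊕ Fin 0)) F) (Sum.inl ()) (Sum.inl ()) →
      g = h := by
    intro g h hgh
    apply Subtype.ext
    apply Units.ext
    ext i j
    rcases i with u | (i | i)
    · rcases j with u' | (j | j)
      · exact hgh
      · exact Fin.elim0 j
      · exact Fin.elim0 j
    · exact Fin.elim0 i
    · exact Fin.elim0 i
  rw [Nat.card_eq_two_iff]
  refine ⟨1, ⟨-1, hneg⟩, ?_, ?_⟩
  · intro h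
    have h1 := congrArg (fun g : ↥(Cfsg.isometryGroup F (Cfsg.quadFormOdd 0 F)) =>
      ((g : Matrix.GeneralLinearGroup (Unit ⊕ (Fin 0 ⊕ Fin 0)) F) :
        Matrix (Unit ⊕ (Fin 0 ⊕ Fin 0)) (Unit ⊕ (Fin 0 ⊕ Fin 0)) F) (Sum.inl ()) (Sum.inl ())) h
    simp at h1
    apply h2
    linear_combination h1
  · ext g
    simp only [Set.mem_insert_iff, Set.mem_singleton_iff, Set.mem_univ, iff_true]
    rcases hentry g with h | h
    · left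
      apply hext
      rw [h]
      simp
    · right
      apply hext
      rw [h]
      simp

theorem card_odd [Fintype F] (h2 : (2 : F) ≠ 0) (hodd : Odd (Fintype.card F)) (m : ℕ) :
    Nat.card ↥(Cfsg.isometryGroup F (Cfsg.quadFormOdd m F)) =
      2 * Fintype.card F ^ (m ^ 2) *
        ∏ i ∈ Finset.range m, (Fintype.card F ^ (2 * (i + 1)) - 1) := by
  induction m with
  | zero =>
    rw [card_odd_zero h2]
    simp
  | succ m ih =>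
    rw [card_odd_succ h2 m, Cfsg.Agent.S0291.result (F := F) rfl hodd (m + 1), ih,
      Finset.prod_range_succ]
    have : (m + 1) ^ 2 = m ^ 2 + (2 * m + 1) := by ring
    rw [this, pow_add]
    ring

end OrthCard

end Cfsg.Agent.Lib.Helper2
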