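import Mathlib
import Cfsg.Agent.Lib.Helper2.Exc3a
import Cfsg.Agent.Lib.Helper2.ExcIso
import Cfsg.Agent.Lib.Helper2.OrthCard4
import Cfsg.Agent.Lib.Helper1.SL2Torus

set_option autoImplicit false

namespace Cfsg.Agent.Lib.Helper2

namespace Exc3

open Matrix

variable {F : Type*} [Field F]

/-- the image of `g ∈ SL₂` in `GL₃` -/
noncomputable def rhoGL (g : Matrix.SpecialLinearGroup (Fin 2) F) : Matrix.GeneralLinearGroup I3 F :=
  ⟨R g.1, R (g⁻¹).1,
    by rw [← R_mul, ← Matrix.SpecialLinearGroup.coe_mul, mul_inv_cancel,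
      Matrix.SpecialLinearGroup.coe_one, R_one],
    by rw [← R_mul, ← Matrix.SpecialLinearGroup.coe_mul, inv_mul_cancel,
      Matrix.SpecialLinearGroup.coe_one, R_one]⟩

/-- the conjugation action of `SL₂` on trace-zero matrices, as a hom into `O₃` -/
noncomputable def rho : Matrix.SpecialLinearGroup (Fin 2) F →*
    ↥(Cfsg.isometryGroup F (Cfsg.quadFormOdd 1 F)) where
  toFun g := ⟨rhoGL g, by
    intro u _
    show Cfsg.quadFormOdd 1 F (R g.1 *ᵥ u) = Cfsg.quadFormOdd 1 F u
    rw [Q_R, g.det_coe, one_pow, one_mul]⟩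
  map_one' := Subtype.ext (Units.ext R_one)
  map_mul' g h := Subtype.ext (Units.ext (R_mul g.1 h.1))

theorem rho_coe (g : Matrix.SpecialLinearGroup (Fin 2) F) :
    (((rho g : ↥(Cfsg.isometryGroup F (Cfsg.quadFormOdd 1 F))) :
      Matrix.GeneralLinearGroup I3 F) : Matrix I3 I3 F) = R g.1 := rfl

theorem rho_eq_one_iff (g : Matrix.SpecialLinearGroup (Fin 2) F) :
    rho g = 1 ↔ R g.1 = 1 := by
  constructor
  · intro h
    rw [← rho_coe, h]
    rfl
  · intro h
    apply Subtype.ext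
    apply Units.ext
    exact h

/-- entries of a matrix in the kernel -/
theorem entries_of_R_eq_one (g : Matrix (Fin 2) (Fin 2) F) (h : R g = 1) :
    g 0 1 = 0 ∧ g 1 0 = 0 ∧ g 0 0 * g 1 1 = 1 ∧ g 0 0 ^ 2 = 1 := by
  have h12 := congrFun (congrFun h (.inr (.inl 0))) (.inr (.inr 0))
  have h21 := congrFun (congrFun h (.inr (.inr 0))) (.inr (.inl 0))
  have h00 := congrFun (congrFun h (.inl ())) (.inl ())
  have h11 := congrFun (congrFun h (.inr (.inl 0))) (.inr (.inl 0))
  simp only [R, Matrix.of_apply, Matrix.one_apply, reduceCtorEq, if_false, if_true] at h12 h21 h00 h11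
  have e01 : g 0 1 = 0 := by
    have : g 0 1 ^ 2 = 0 := by simpa using h12
    exact pow_eq_zero_iff (two_ne_zero) |>.1 this
  have e10 : g 1 0 = 0 := by
    have : g 1 0 ^ 2 = 0 := by simpa using h21
    exact pow_eq_zero_iff (two_ne_zero) |>.1 this
  refine ⟨e01, e10, ?_, ?_⟩
  · rw [e01, zero_mul, add_zero] at h00
    simpa using h00
  · simpa using h11

end Exc3

end Cfsg.Agent.Lib.Helper2
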