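import Mathlib
import Cfsg.Agent.Lib.Helper2.Exc3b
import Cfsg.Agent.Lib.Helper1.SLn

set_option autoImplicit false

namespace Cfsg.Agent.Lib.Helper2

namespace Exc3

open Matrix

variable {F : Type*} [Field F]

/-- a matrix of determinant one with `R g = 1` is a scalar `±1` -/
theorem scalar_of_R_eq_one (g : Matrix.SpecialLinearGroup (Fin 2) F) (h : R g.1 = 1) :
    ∃ r : F, r ^ 2 = 1 ∧ Matrix.scalar (Fin 2) r = g.1 := by
  obtain ⟨e01, e10, e1, e2⟩ := entries_of_R_eq_one g.1 h
  refine ⟨g.1 0 0, e2, ?_⟩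
  have e11 : g.1 1 1 = g.1 0 0 := by
    have h0 : g.1 0 0 ≠ 0 := by
      intro h0
      rw [h0] at e2
      simp at e2
    apply mul_left_cancel₀ h0
    rw [e1, ← pow_two, e2]
  ext i j
  fin_cases i <;> fin_cases j <;> simp [e01, e10, e11]

theorem mem_center_of_R_eq_one (g : Matrix.SpecialLinearGroup (Fin 2) F) (h : R g.1 = 1) :
    g ∈ Subgroup.center (Matrix.SpecialLinearGroup (Fin 2) F) := by
  rw [Matrix.SpecialLinearGroup.mem_center_iff]
  obtain ⟨r, hr, hg⟩ := scalar_of_R_eq_one g h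
  exact ⟨r, by simpa using hr, hg⟩

/-- `R` is trivial on `±1` -/
theorem R_neg_one : R (-1 : Matrix (Fin 2) (Fin 2) F) = 1 := by
  apply Matrix.toLin'.injective
  apply LinearMap.ext
  intro v
  rw [Matrix.toLin'_apply, Matrix.toLin'_apply, Matrix.one_mulVec]
  funext i
  rcases i with ⟨⟩ | i | i
  · rw [R_mulVec_0]
    simp
  · rw [R_mulVec_1]
    simp [Subsingleton.elim i 0]
  · rw [R_mulVec_2]
    simp [Subsingleton.elim i 0]

/-- the kernel has two elements -/
theorem card_ker (h2 : (2 : F) ≠ 0) : Nat.card ↥(rho (F := F)).ker = 2 := by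
  rw [Nat.card_eq_two_iff]
  have hm1 : (-1 : Matrix.SpecialLinearGroup (Fin 2) F) ∈ (rho (F := F)).ker := by
    rw [MonoidHom.mem_ker, rho_eq_one_iff]
    rw [Matrix.SpecialLinearGroup.coe_neg, Matrix.SpecialLinearGroup.coe_one]
    exact R_neg_one
  refine ⟨1, ⟨-1, hm1⟩, ?_, ?_⟩
  · intro h
    have h1 := congrArg (fun x : ↥(rho (F := F)).ker => (x : Matrix.SpecialLinearGroup (Fin 2) F).1 0 0) h
    simp only [OneMemClass.coe_one, Matrix.SpecialLinearGroup.coe_one, Matrix.one_apply_eq,
      Matrix.SpecialLinearGroup.coe_neg, Matrix.neg_apply] at h1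
    apply h2
    have : (2 : F) = 1 + 1 := by norm_num
    rw [this]
    nth_rewrite 1 [h1]
    ring
  · ext ⟨z, hz⟩
    simp only [Set.mem_insert_iff, Set.mem_singleton_iff, Set.mem_univ, iff_true]
    rw [MonoidHom.mem_ker, rho_eq_one_iff] at hz
    obtain ⟨r, hr, hg⟩ := scalar_of_R_eq_one z hz
    have hr' : r = 1 ∨ r = -1 := by
      have : (r - 1) * (r + 1) = 0 := by ring_nf; rw [hr]; ring
      rcases mul_eq_zero.1 this with h | h
      · left; exact sub_eq_zero.1 h
      · right; exact eq_neg_of_add_eq_zero_left h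
    rcases hr' with rfl | rfl
    · left
      apply Subtype.ext
      apply Subtype.ext
      rw [← hg]
      simp
    · right
      apply Subtype.ext
      apply Subtype.ext
      rw [← hg]
      ext i j
      fin_cases i <;> fin_cases j <;> simp

end Exc3

end Cfsg.Agent.Lib.Helper2
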