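import Mathlib
import Cfsg.Agent.Lib.Helper2.Exc3c

set_option autoImplicit false

namespace Cfsg.Agent.Lib.Helper2

namespace ExcIso

/-- fourth powers lie in a normal subgroup of index four -/
theorem pow_four_mem {O : Type*} [Group O] (N : Subgroup O) [N.Normal] (h : N.index = 4) (x : O) :
    x ^ 4 ∈ N := by
  rw [← h]
  exact Subgroup.pow_index_mem N x

/-- a transvection in odd characteristic is a fourth power -/
theorem transvection_eq_pow_four {F : Type*} [Field F] {ι : Type*} [DecidableEq ι] [Fintype ι]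
    (h2 : (2 : F) ≠ 0) {i j : ι} (hij : i ≠ j) (c : F) :
    Matrix.SpecialLinearGroup.transvection hij c =
      (Matrix.SpecialLinearGroup.transvection hij (c / 4)) ^ 4 := by
  have h4 : (4 : F) ≠ 0 := by
    have : (4 : F) = 2 * 2 := by norm_num
    rw [this]
    exact mul_ne_zero h2 h2
  have : c = c / 4 + c / 4 + c / 4 + c / 4 := by field_simp; ring
  conv_lhs => rw [this]
  rw [Matrix.SpecialLinearGroup.transvection_add, Matrix.SpecialLinearGroup.transvection_add,
    Matrix.SpecialLinearGroup.transvection_add]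
  rw [pow_succ, pow_succ, pow_succ, pow_one]

end ExcIso

namespace Exc3

open Matrix

variable {F : Type*} [Field F] [Fintype F]

theorem index_Omega (h2 : (2 : F) ≠ 0) :
    (Cfsg.Omega F (Cfsg.quadFormOdd 1 F)).index = 4 := by
  classical
  rw [← OrthCard.QOd_coe]
  exact CentO.index_odd h2 (OrthCard.QOd_nondeg h2 1) (by simp)

theorem rho_mem_Omega (h2 : (2 : F) ≠ 0) (g : Matrix.SpecialLinearGroup (Fin 2) F) :
    rho g ∈ Cfsg.Omega F (Cfsg.quadFormOdd 1 F) := by
  have hidx := index_Omega h2
  have hH : (Cfsg.Omega F (Cfsg.quadFormOdd 1 F)).comap rho = ⊤ := by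
    apply Cfsg.Agent.Lib.Helper1.eq_top_of_transvection_mem
    intro i j hij c
    rw [Subgroup.mem_comap, ExcIso.transvection_eq_pow_four h2 hij c, map_pow]
    exact ExcIso.pow_four_mem _ hidx _
  have : g ∈ (Cfsg.Omega F (Cfsg.quadFormOdd 1 F)).comap rho := by rw [hH]; trivial
  exact this

theorem range_rho (h2 : (2 : F) ≠ 0) (hodd : Odd (Fintype.card F)) :
    (rho (F := F)).range = Cfsg.Omega F (Cfsg.quadFormOdd 1 F) := by
  apply ExcIso.range_eq_of_card
  · rintro _ ⟨g, rfl⟩
    exact rho_mem_Omega h2 g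
  · rw [card_ker h2, Cfsg.Agent.Lib.Helper1.card_SL2]
    have hidx := index_Omega h2
    have h1 := Subgroup.card_mul_index (Cfsg.Omega F (Cfsg.quadFormOdd 1 F))
    rw [hidx, OrthCard.card_odd h2 hodd 1] at h1
    simp only [Finset.range_one, Finset.prod_singleton, one_pow, pow_one, zero_add, mul_one] at h1
    have h3 : 2 * (2 * Nat.card ↥(Cfsg.Omega F (Cfsg.quadFormOdd 1 F))) =
        2 * (Fintype.card F * (Fintype.card F ^ 2 - 1)) := by
      rw [← mul_assoc, ← mul_assoc, ← h1]; ring
    exact (Nat.eq_of_mul_eq_mul_left (by norm_num) h3).symm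

end Exc3

end Cfsg.Agent.Lib.Helper2
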