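import Mathlib
import Cfsg.Agent.Lib.Helper2.Exc3d

set_option autoImplicit false

namespace Cfsg.Agent.Lib.Helper2

namespace Exc3

open Matrix
open scoped commutatorElement

variable {F : Type*} [Field F]

/-- trace of a transvection in `SL₂` -/
theorem trace_transvection {i j : Fin 2} (hij : i ≠ j) (c : F) :
    Matrix.trace (Matrix.SpecialLinearGroup.transvection hij c).1 = 2 := by
  rw [Matrix.SpecialLinearGroup.transvection_coe, Matrix.trace_add, Matrix.trace_one]
  rw [Matrix.trace_fin_two]
  fin_cases i <;> fin_cases j <;> simp_all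

/-- if `[g, t]` is a scalar for a transvection `t`, it is trivial -/
theorem comm_transvection (h2 : (2 : F) ≠ 0) (g : Matrix.SpecialLinearGroup (Fin 2) F)
    {i j : Fin 2} (hij : i ≠ j) (c : F)
    (h : R (⁅g, Matrix.SpecialLinearGroup.transvection hij c⁆ :
      Matrix.SpecialLinearGroup (Fin 2) F).1 = 1) :
    Matrix.SpecialLinearGroup.transvection hij c * g =
      g * Matrix.SpecialLinearGroup.transvection hij c := by
  obtain ⟨t, ht⟩ : ∃ t, t = Matrix.SpecialLinearGroup.transvection (F := F) hij c := ⟨_, rfl⟩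
  rw [← ht] at h ⊢
  obtain ⟨r, hr, hs⟩ := scalar_of_R_eq_one _ h
  have h1 : (g * t * g⁻¹ : Matrix.SpecialLinearGroup (Fin 2) F) = ⁅g, t⁆ * t := by
    rw [commutatorElement_def]; group
  have h3 : (g * t * g⁻¹ : Matrix.SpecialLinearGroup (Fin 2) F).1 = r • t.1 := by
    rw [h1, Matrix.SpecialLinearGroup.coe_mul, ← hs]
    ext a b
    simp [Matrix.mul_apply, Matrix.diagonal_apply]
  have h4 : Matrix.trace (g * t * g⁻¹ : Matrix.SpecialLinearGroup (Fin 2) F).1 =
      Matrix.trace t.1 := by
    rw [Matrix.SpecialLinearGroup.coe_mul, Matrix.trace_mul_comm, ← Matrix.SpecialLinearGroup.coe_mul]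
    congr 2
    group
    rfl
  rw [h3, Matrix.trace_smul, ht, trace_transvection, smul_eq_mul] at h4
  have hr1 : r = 1 := by
    apply mul_right_cancel₀ h2
    rw [h4, one_mul]
  have h5 : (⁅g, t⁆ : Matrix.SpecialLinearGroup (Fin 2) F) = 1 := by
    apply Subtype.ext
    rw [← hs, hr1]
    simp
  rw [commutatorElement_eq_one_iff_commute] at h5
  exact h5.eq.symm

theorem center_iff (h2 : (2 : F) ≠ 0) (g : Matrix.SpecialLinearGroup (Fin 2) F) :
    g ∈ Subgroup.center (Matrix.SpecialLinearGroup (Fin 2) F) ↔
      ∀ h : Matrix.SpecialLinearGroup (Fin 2) F, rho g * rho h = rho h * rho g := by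
  constructor
  · intro hg h
    rw [← map_mul, ← map_mul, Subgroup.mem_center_iff.1 hg h]
  · intro hc
    have hC : Subgroup.centralizer {g} = ⊤ := by
      apply Cfsg.Agent.Lib.Helper1.eq_top_of_transvection_mem
      intro i j hij c
      rw [Subgroup.mem_centralizer_iff]
      intro x hx
      rw [Set.mem_singleton_iff] at hx
      subst hx
      refine (comm_transvection h2 x hij c ?_).symm
      rw [← rho_eq_one_iff, map_commutatorElement, commutatorElement_eq_one_iff_commute]
      exact hc _
    rw [Subgroup.mem_center_iff]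
    intro h
    have hh : h ∈ Subgroup.centralizer {g} := by rw [hC]; trivial
    rw [Subgroup.mem_centralizer_iff] at hh
    exact (hh g rfl).symm

theorem main [Fintype F] (hodd : Odd (Fintype.card F)) :
    Nonempty (Cfsg.POmega F (Cfsg.quadFormOdd 1 F) ≃*
      Matrix.ProjectiveSpecialLinearGroup (Fin 2) F) := by
  have h2 : (2 : F) ≠ 0 := by
    intro h
    have hch : ringChar F = 2 :=
      CharP.ringChar_of_prime_eq_zero Nat.prime_two (by exact_mod_cast h)
    have := FiniteField.even_card_of_char_two hch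
    rw [Nat.odd_iff] at hodd
    omega
  refine ExcIso.quotient_center_equiv (Cfsg.Omega F (Cfsg.quadFormOdd 1 F)) rho
    (range_rho h2 hodd) (QuotientGroup.mk' (Subgroup.center (Matrix.SpecialLinearGroup (Fin 2) F)))
    (QuotientGroup.mk'_surjective _) (fun g => ?_)
  rw [QuotientGroup.ker_mk']
  exact center_iff h2 g

end Exc3

end Cfsg.Agent.Lib.Helper2
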