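import Mathlib
import Cfsg.Agent.Lib.Helper2.CentOmega6

set_option autoImplicit false

namespace Cfsg.Agent.Lib.Helper2

namespace Exc4

open Matrix

variable {F : Type*} [Field F]

/-- the index type of the four-dimensional plus form -/
abbrev I4 := Fin 2 ⊕ Fin 2

/-- matrix of `X ↦ g X` on `2 × 2` matrices `[[x₁, -x₂], [y₂, y₁]]` -/
def L (g : Matrix (Fin 2) (Fin 2) F) : Matrix I4 I4 F :=
  Matrix.fromBlocks !![g 0 0, 0; 0, g 0 0] !![0, g 0 1; - g 0 1, 0]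
    !![0, - g 1 0; g 1 0, 0] !![g 1 1, 0; 0, g 1 1]

/-- matrix of `X ↦ X adj(h)` on `2 × 2` matrices `[[x₁, -x₂], [y₂, y₁]]` -/
def Rt (h : Matrix (Fin 2) (Fin 2) F) : Matrix I4 I4 F :=
  Matrix.fromBlocks !![h 1 1, h 1 0; h 0 1, h 0 0] 0 0 !![h 0 0, - h 0 1; - h 1 0, h 1 1]

theorem L_mulVec_x1 (g : Matrix (Fin 2) (Fin 2) F) (v : I4 → F) :
    (L g *ᵥ v) (.inl 0) = g 0 0 * v (.inl 0) + g 0 1 * v (.inr 1) := by
  simp [L, Matrix.mulVec, dotProduct, Fintype.sum_sum_type, Fin.sum_univ_two]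

theorem L_mulVec_x2 (g : Matrix (Fin 2) (Fin 2) F) (v : I4 → F) :
    (L g *ᵥ v) (.inl 1) = g 0 0 * v (.inl 1) - g 0 1 * v (.inr 0) := by
  simp [L, Matrix.mulVec, dotProduct, Fintype.sum_sum_type, Fin.sum_univ_two]
  ring

theorem L_mulVec_y1 (g : Matrix (Fin 2) (Fin 2) F) (v : I4 → F) :
    (L g *ᵥ v) (.inr 0) = - g 1 0 * v (.inl 1) + g 1 1 * v (.inr 0) := by
  simp [L, Matrix.mulVec, dotProduct, Fintype.sum_sum_type, Fin.sum_univ_two]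

theorem L_mulVec_y2 (g : Matrix (Fin 2) (Fin 2) F) (v : I4 → F) :
    (L g *ᵥ v) (.inr 1) = g 1 0 * v (.inl 0) + g 1 1 * v (.inr 1) := by
  simp [L, Matrix.mulVec, dotProduct, Fintype.sum_sum_type, Fin.sum_univ_two]

theorem Rt_mulVec_x1 (h : Matrix (Fin 2) (Fin 2) F) (v : I4 → F) :
    (Rt h *ᵥ v) (.inl 0) = h 1 1 * v (.inl 0) + h 1 0 * v (.inl 1) := by
  simp [Rt, Matrix.mulVec, dotProduct, Fintype.sum_sum_type, Fin.sum_univ_two]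

theorem Rt_mulVec_x2 (h : Matrix (Fin 2) (Fin 2) F) (v : I4 → F) :
    (Rt h *ᵥ v) (.inl 1) = h 0 1 * v (.inl 0) + h 0 0 * v (.inl 1) := by
  simp [Rt, Matrix.mulVec, dotProduct, Fintype.sum_sum_type, Fin.sum_univ_two]

theorem Rt_mulVec_y1 (h : Matrix (Fin 2) (Fin 2) F) (v : I4 → F) :
    (Rt h *ᵥ v) (.inr 0) = h 0 0 * v (.inr 0) - h 0 1 * v (.inr 1) := by
  simp [Rt, Matrix.mulVec, dotProduct, Fintype.sum_sum_type, Fin.sum_univ_two]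
  ring

theorem Rt_mulVec_y2 (h : Matrix (Fin 2) (Fin 2) F) (v : I4 → F) :
    (Rt h *ᵥ v) (.inr 1) = - h 1 0 * v (.inr 0) + h 1 1 * v (.inr 1) := by
  simp [Rt, Matrix.mulVec, dotProduct, Fintype.sum_sum_type, Fin.sum_univ_two]

/-- extensionality for matrices through `mulVec` on the four coordinates -/
theorem ext4 {A B : Matrix I4 I4 F}
    (h : ∀ v : I4 → F, (A *ᵥ v) (.inl 0) = (B *ᵥ v) (.inl 0) ∧
      (A *ᵥ v) (.inl 1) = (B *ᵥ v) (.inl 1) ∧ (A *ᵥ v) (.inr 0) = (B *ᵥ v) (.inr 0) ∧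
      (A *ᵥ v) (.inr 1) = (B *ᵥ v) (.inr 1)) : A = B := by
  apply Matrix.toLin'.injective
  apply LinearMap.ext
  intro v
  rw [Matrix.toLin'_apply, Matrix.toLin'_apply]
  obtain ⟨h1, h2, h3, h4⟩ := h v
  funext i
  rcases i with i | i <;> fin_cases i
  · exact h1
  · exact h2
  · exact h3
  · exact h4

theorem L_mul (g h : Matrix (Fin 2) (Fin 2) F) : L (g * h) = L g * L h := by
  apply ext4
  intro v
  simp only [← Matrix.mulVec_mulVec, L_mulVec_x1, L_mulVec_x2, L_mulVec_y1, L_mulVec_y2,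
    Matrix.mul_apply, Fin.sum_univ_two]
  refine ⟨?_, ?_, ?_, ?_⟩ <;> ring

theorem Rt_mul (g h : Matrix (Fin 2) (Fin 2) F) : Rt (g * h) = Rt g * Rt h := by
  apply ext4
  intro v
  simp only [← Matrix.mulVec_mulVec, Rt_mulVec_x1, Rt_mulVec_x2, Rt_mulVec_y1, Rt_mulVec_y2,
    Matrix.mul_apply, Fin.sum_univ_two]
  refine ⟨?_, ?_, ?_, ?_⟩ <;> ring

theorem L_Rt_comm (g h : Matrix (Fin 2) (Fin 2) F) : L g * Rt h = Rt h * L g := by
  apply ext4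
  intro v
  simp only [← Matrix.mulVec_mulVec, Rt_mulVec_x1, Rt_mulVec_x2, Rt_mulVec_y1, Rt_mulVec_y2,
    L_mulVec_x1, L_mulVec_x2, L_mulVec_y1, L_mulVec_y2]
  refine ⟨?_, ?_, ?_, ?_⟩ <;> ring

theorem L_one : L (1 : Matrix (Fin 2) (Fin 2) F) = 1 := by
  apply ext4
  intro v
  simp only [Matrix.one_mulVec, L_mulVec_x1, L_mulVec_x2, L_mulVec_y1, L_mulVec_y2]
  simp

theorem Rt_one : Rt (1 : Matrix (Fin 2) (Fin 2) F) = 1 := by
  apply ext4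
  intro v
  simp only [Matrix.one_mulVec, Rt_mulVec_x1, Rt_mulVec_x2, Rt_mulVec_y1, Rt_mulVec_y2]
  simp

theorem Q_L (g : Matrix (Fin 2) (Fin 2) F) (v : I4 → F) :
    Cfsg.quadFormPlus 2 F (L g *ᵥ v) = g.det * Cfsg.quadFormPlus 2 F v := by
  unfold Cfsg.quadFormPlus
  simp only [Fin.sum_univ_two]
  rw [L_mulVec_x1, L_mulVec_x2, L_mulVec_y1, L_mulVec_y2, Matrix.det_fin_two]
  ring

theorem Q_Rt (h : Matrix (Fin 2) (Fin 2) F) (v : I4 → F) :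
    Cfsg.quadFormPlus 2 F (Rt h *ᵥ v) = h.det * Cfsg.quadFormPlus 2 F v := by
  unfold Cfsg.quadFormPlus
  simp only [Fin.sum_univ_two]
  rw [Rt_mulVec_x1, Rt_mulVec_x2, Rt_mulVec_y1, Rt_mulVec_y2, Matrix.det_fin_two]
  ring

end Exc4

end Cfsg.Agent.Lib.Helper2
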