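import Mathlib
import Cfsg.Agent.Lib.Helper2.Exc4a
import Cfsg.Agent.Lib.Helper2.ExcIso

set_option autoImplicit false

namespace Cfsg.Agent.Lib.Helper2

namespace Exc4

open Matrix

variable {F : Type*} [Field F]

/-- matrix of `X ↦ g X adj(h)` -/
def M (g h : Matrix (Fin 2) (Fin 2) F) : Matrix I4 I4 F := L g * Rt h

theorem M_mul (g g' h h' : Matrix (Fin 2) (Fin 2) F) : M (g * g') (h * h') = M g h * M g' h' := by
  unfold M
  rw [L_mul, Rt_mul, Matrix.mul_assoc, ← Matrix.mul_assoc (L g') (Rt h) (Rt h'), L_Rt_comm g' h,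
    Matrix.mul_assoc, Matrix.mul_assoc]

theorem M_one : M (1 : Matrix (Fin 2) (Fin 2) F) 1 = 1 := by
  unfold M
  rw [L_one, Rt_one, Matrix.one_mul]

theorem Q_M (g h : Matrix (Fin 2) (Fin 2) F) (v : I4 → F) :
    Cfsg.quadFormPlus 2 F (M g h *ᵥ v) = g.det * h.det * Cfsg.quadFormPlus 2 F v := by
  unfold M
  rw [← Matrix.mulVec_mulVec, Q_L, Q_Rt, mul_assoc]

/-- the image of `(g, h) ∈ SL₂ × SL₂` in `GL₄` -/
noncomputable def rhoGL (p : Matrix.SpecialLinearGroup (Fin 2) F × Matrix.SpecialLinearGroup (Fin 2) F) :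
    Matrix.GeneralLinearGroup I4 F :=
  ⟨M p.1.1 p.2.1, M (p.1⁻¹).1 (p.2⁻¹).1,
    by rw [← M_mul, ← Matrix.SpecialLinearGroup.coe_mul, ← Matrix.SpecialLinearGroup.coe_mul,
      mul_inv_cancel, mul_inv_cancel, Matrix.SpecialLinearGroup.coe_one, M_one],
    by rw [← M_mul, ← Matrix.SpecialLinearGroup.coe_mul, ← Matrix.SpecialLinearGroup.coe_mul,
      inv_mul_cancel, inv_mul_cancel, Matrix.SpecialLinearGroup.coe_one, M_one]⟩

/-- the action of `SL₂ × SL₂` on `2 × 2` matrices, as a hom into `O⁺₄` -/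
noncomputable def rho : Matrix.SpecialLinearGroup (Fin 2) F × Matrix.SpecialLinearGroup (Fin 2) F →*
    ↥(Cfsg.isometryGroup F (Cfsg.quadFormPlus 2 F)) where
  toFun p := ⟨rhoGL p, by
    intro u _
    show Cfsg.quadFormPlus 2 F (M p.1.1 p.2.1 *ᵥ u) = Cfsg.quadFormPlus 2 F u
    rw [Q_M, p.1.det_coe, p.2.det_coe, one_mul, one_mul]⟩
  map_one' := Subtype.ext (Units.ext M_one)
  map_mul' p p' := Subtype.ext (Units.ext (M_mul p.1.1 p'.1.1 p.2.1 p'.2.1))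

theorem rho_coe (p : Matrix.SpecialLinearGroup (Fin 2) F × Matrix.SpecialLinearGroup (Fin 2) F) :
    (((rho p : ↥(Cfsg.isometryGroup F (Cfsg.quadFormPlus 2 F))) :
      Matrix.GeneralLinearGroup I4 F) : Matrix I4 I4 F) = M p.1.1 p.2.1 := rfl

theorem rho_eq_one_iff (p : Matrix.SpecialLinearGroup (Fin 2) F × Matrix.SpecialLinearGroup (Fin 2) F) :
    rho p = 1 ↔ M p.1.1 p.2.1 = 1 := by
  constructor
  · intro h
    rw [← rho_coe, h]
    rfl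
  · intro h
    apply Subtype.ext
    apply Units.ext
    exact h

theorem M_mulVec (g h : Matrix (Fin 2) (Fin 2) F) (v : I4 → F) :
    (M g h *ᵥ v) (.inl 0) = g 0 0 * (h 1 1 * v (.inl 0) + h 1 0 * v (.inl 1)) +
        g 0 1 * (- h 1 0 * v (.inr 0) + h 1 1 * v (.inr 1)) ∧
    (M g h *ᵥ v) (.inl 1) = g 0 0 * (h 0 1 * v (.inl 0) + h 0 0 * v (.inl 1)) -
        g 0 1 * (h 0 0 * v (.inr 0) - h 0 1 * v (.inr 1)) ∧
    (M g h *ᵥ v) (.inr 0) = - g 1 0 * (h 0 1 * v (.inl 0) + h 0 0 * v (.inl 1)) +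
        g 1 1 * (h 0 0 * v (.inr 0) - h 0 1 * v (.inr 1)) ∧
    (M g h *ᵥ v) (.inr 1) = g 1 0 * (h 1 1 * v (.inl 0) + h 1 0 * v (.inl 1)) +
        g 1 1 * (- h 1 0 * v (.inr 0) + h 1 1 * v (.inr 1)) := by
  unfold M
  simp only [← Matrix.mulVec_mulVec, Rt_mulVec_x1, Rt_mulVec_x2, Rt_mulVec_y1, Rt_mulVec_y2,
    L_mulVec_x1, L_mulVec_x2, L_mulVec_y1, L_mulVec_y2, and_self]

/-- entries of a pair in the kernel -/
theorem entries_of_M_eq_one (g h : Matrix (Fin 2) (Fin 2) F) (hM : M g h = 1) :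
    g 0 1 = 0 ∧ g 1 0 = 0 ∧ h 0 1 = 0 ∧ h 1 0 = 0 ∧ g 0 0 * h 0 0 = 1 ∧ g 0 0 * h 1 1 = 1 ∧
      g 1 1 * h 0 0 = 1 := by
  have key : ∀ v : I4 → F, M g h *ᵥ v = v := fun v => by rw [hM, Matrix.one_mulVec]
  obtain ⟨a1, a2, a3, a4⟩ := M_mulVec g h (Pi.single (.inl 0) 1)
  obtain ⟨b1, b2, b3, b4⟩ := M_mulVec g h (Pi.single (.inl 1) 1)
  obtain ⟨c1, c2, c3, c4⟩ := M_mulVec g h (Pi.single (.inr 0) 1)
  obtain ⟨d1, d2, d3, d4⟩ := M_mulVec g h (Pi.single (.inr 1) 1)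
  rw [key] at a1 a2 a3 a4 b1 b2 b3 b4 c1 c2 c3 c4 d1 d2 d3 d4
  simp at a1 a2 a3 a4 b1 b2 b3 b4 c1 c2 c3 c4 d1 d2 d3 d4
  have ha : g 0 0 ≠ 0 := by
    intro h0; rw [h0] at a1; simp at a1
  have he : h 0 0 ≠ 0 := by
    intro h0; rw [h0] at b2; simp at b2
  have hf : h 0 1 = 0 := by
    rcases a2 with h | h
    · exact absurd h ha
    · exact h
  have hk : h 1 0 = 0 := by
    rcases b1 with h | h
    · exact absurd h ha
    · exact h
  have hb : g 0 1 = 0 := by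
    rcases c2 with h | h
    · exact h
    · exact absurd h he
  have hc : g 1 0 = 0 := by
    rcases b3 with h | h
    · exact h
    · exact absurd h he
  exact ⟨hb, hc, hf, hk, b2.symm, a1.symm, c3.symm⟩

end Exc4

end Cfsg.Agent.Lib.Helper2
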