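import Mathlib
import Cfsg.Agent.Lib.Helper2.Exc4b
import Cfsg.Agent.Lib.Helper2.ExcIso2
import Cfsg.Agent.Lib.Helper2.OrthCard4
import Cfsg.Agent.Lib.Helper2.QuadStd
import Cfsg.Agent.Lib.Helper1.SL2Torus

set_option autoImplicit false

namespace Cfsg.Agent.Lib.Helper2

namespace Exc4

open Matrix
open scoped commutatorElement

variable {F : Type*} [Field F]

/-- a pair of determinant-one matrices with `M g h = 1` is `±(1, 1)` -/
theorem scalar_of_M_eq_one
    (p : Matrix.SpecialLinearGroup (Fin 2) F × Matrix.SpecialLinearGroup (Fin 2) F)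
    (h : M p.1.1 p.2.1 = 1) :
    ∃ r : F, r ^ 2 = 1 ∧ Matrix.scalar (Fin 2) r = p.1.1 ∧ Matrix.scalar (Fin 2) r = p.2.1 := by
  obtain ⟨hb, hc, hf, hk, e1, e2, e3⟩ := entries_of_M_eq_one _ _ h
  have hdet := p.1.det_coe
  rw [Matrix.det_fin_two, hb, hc, mul_zero, sub_zero] at hdet
  have ha : p.1.1 0 0 ≠ 0 := by
    intro h0; rw [h0] at e1; simp at e1
  have he : p.2.1 0 0 ≠ 0 := by
    intro h0; rw [h0] at e1; simp at e1
  have hd : p.1.1 1 1 = p.1.1 0 0 := by
    apply mul_right_cancel₀ he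
    rw [e3, e1]
  rw [hd] at hdet
  have hee : p.2.1 0 0 = p.1.1 0 0 := by
    apply mul_left_cancel₀ ha
    rw [e1]
    exact hdet.symm
  have hl : p.2.1 1 1 = p.1.1 0 0 := by
    apply mul_left_cancel₀ ha
    rw [e2]
    exact hdet.symm
  refine ⟨p.1.1 0 0, ?_, ?_, ?_⟩
  · rw [pow_two]
    exact hdet
  · ext i j
    fin_cases i <;> fin_cases j <;> simp [hb, hc, hd]
  · ext i j
    fin_cases i <;> fin_cases j <;> simp [hf, hk, hee, hl]

theorem coe_eq_of_M_eq_one
    (p : Matrix.SpecialLinearGroup (Fin 2) F × Matrix.SpecialLinearGroup (Fin 2) F)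
    (h : M p.1.1 p.2.1 = 1) : p.1 = p.2 := by
  obtain ⟨r, -, h1, h2⟩ := scalar_of_M_eq_one p h
  apply Subtype.ext
  rw [← h1, ← h2]

theorem M_neg_one : M (-1 : Matrix (Fin 2) (Fin 2) F) (-1) = 1 := by
  apply ext4
  intro v
  obtain ⟨h1, h2, h3, h4⟩ := M_mulVec (-1 : Matrix (Fin 2) (Fin 2) F) (-1) v
  rw [h1, h2, h3, h4, Matrix.one_mulVec]
  simp

/-- the kernel has two elements in odd characteristic -/
theorem card_ker_odd (h2 : (2 : F) ≠ 0) : Nat.card ↥(rho (F := F)).ker = 2 := by
  rw [Nat.card_eq_two_iff]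
  have hm1 : ((-1, -1) : Matrix.SpecialLinearGroup (Fin 2) F × Matrix.SpecialLinearGroup (Fin 2) F) ∈
      (rho (F := F)).ker := by
    rw [MonoidHom.mem_ker, rho_eq_one_iff]
    show M (-1 : Matrix.SpecialLinearGroup (Fin 2) F).1 (-1 : Matrix.SpecialLinearGroup (Fin 2) F).1 = 1
    rw [Matrix.SpecialLinearGroup.coe_neg, Matrix.SpecialLinearGroup.coe_one]
    exact M_neg_one
  refine ⟨1, ⟨(-1, -1), hm1⟩, ?_, ?_⟩
  · intro h
    have h1 := congrArg (fun x : ↥(rho (F := F)).ker =>
      (x : Matrix.SpecialLinearGroup (Fin 2) F × Matrix.SpecialLinearGroup (Fin 2) F).1.1 0 0) h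
    simp only [OneMemClass.coe_one, Prod.fst_one, Matrix.SpecialLinearGroup.coe_one,
      Matrix.one_apply_eq, Matrix.SpecialLinearGroup.coe_neg, Matrix.neg_apply] at h1
    apply h2
    have : (2 : F) = 1 + 1 := by norm_num
    rw [this]
    nth_rewrite 1 [h1]
    ring
  · ext ⟨z, hz⟩
    simp only [Set.mem_insert_iff, Set.mem_singleton_iff, Set.mem_univ, iff_true]
    rw [MonoidHom.mem_ker, rho_eq_one_iff] at hz
    obtain ⟨r, hr, hg1, hg2⟩ := scalar_of_M_eq_one z hz
    have hr' : r = 1 ∨ r = -1 := by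
      have : (r - 1) * (r + 1) = 0 := by ring_nf; rw [hr]; ring
      rcases mul_eq_zero.1 this with h | h
      · left; exact sub_eq_zero.1 h
      · right; exact eq_neg_of_add_eq_zero_left h
    rcases hr' with rfl | rfl
    · left
      apply Subtype.ext
      apply Prod.ext
      · apply Subtype.ext
        rw [← hg1]
        simp
      · apply Subtype.ext
        rw [← hg2]
        simp
    · right
      apply Subtype.ext
      apply Prod.ext
      · apply Subtype.ext
        rw [← hg1]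
        ext i j
        fin_cases i <;> fin_cases j <;> simp
      · apply Subtype.ext
        rw [← hg2]
        ext i j
        fin_cases i <;> fin_cases j <;> simp

/-- the kernel is trivial in characteristic two -/
theorem card_ker_even (h2 : (2 : F) = 0) : Nat.card ↥(rho (F := F)).ker = 1 := by
  have : (rho (F := F)).ker = ⊥ := by
    rw [eq_bot_iff]
    intro z hz
    rw [MonoidHom.mem_ker, rho_eq_one_iff] at hz
    obtain ⟨r, hr, hg1, hg2⟩ := scalar_of_M_eq_one z hz
    have hr1 : r = 1 := by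
      have h3 : (r - 1) ^ 2 = 0 := by
        have : (r - 1) ^ 2 = r ^ 2 - 2 * r + 1 := by ring
        rw [this, hr, h2]; ring_nf
        exact h2
      have := pow_eq_zero_iff (two_ne_zero) |>.1 h3
      exact sub_eq_zero.1 this
    rw [Subgroup.mem_bot]
    apply Prod.ext
    · apply Subtype.ext
      rw [← hg1, hr1]
      simp
    · apply Subtype.ext
      rw [← hg2, hr1]
      simp
  rw [this]
  exact Subgroup.card_bot

end Exc4

end Cfsg.Agent.Lib.Helper2
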