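import Mathlib
import Cfsg.Agent.Lib.Helper2.Exc4c

set_option autoImplicit false

namespace Cfsg.Agent.Lib.Helper2

namespace Exc4

open Matrix
open scoped commutatorElement

variable {F : Type*} [Field F] [Fintype F]

theorem index_Omega_odd (h2 : (2 : F) ≠ 0) :
    (Cfsg.Omega F (Cfsg.quadFormPlus 2 F)).index = 4 := by
  classical
  rw [← QuadStd.QP_coe]
  exact CentO.index_odd h2 (QuadStd.QP_nondeg 2) (by simp)

theorem index_Omega_even (h2 : (2 : F) = 0) (hF : 3 ≤ Fintype.card F) :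
    (Cfsg.Omega F (Cfsg.quadFormPlus 2 F)).index = 2 := by
  classical
  rw [← QuadStd.QP_coe]
  exact CentO.index_two h2 (QuadStd.QP_nondeg 2) (Or.inl (by omega)) (by simp)

theorem card_O : Nat.card ↥(Cfsg.isometryGroup F (Cfsg.quadFormPlus 2 F)) =
    2 * Fintype.card F ^ 2 * (Fintype.card F ^ 2 - 1) * (Fintype.card F ^ 2 - 1) := by
  have h := OrthCard.card_plus (F := F) 1
  simpa using h

theorem rho_mem_Omega (hF : 3 ≤ Fintype.card F)
    (p : Matrix.SpecialLinearGroup (Fin 2) F × Matrix.SpecialLinearGroup (Fin 2) F) :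
    rho p ∈ Cfsg.Omega F (Cfsg.quadFormPlus 2 F) := by
  have key : ∀ (φ : Matrix.SpecialLinearGroup (Fin 2) F →*
      ↥(Cfsg.isometryGroup F (Cfsg.quadFormPlus 2 F))) (g : Matrix.SpecialLinearGroup (Fin 2) F),
      φ g ∈ commutator ↥(Cfsg.isometryGroup F (Cfsg.quadFormPlus 2 F)) := by
    intro φ g
    by_cases h2 : (2 : F) = 0
    · exact ExcIso.map_mem_commutator_of_perfect (ExcIso.SL2_perfect_of_char_two h2 hF) φ g
    · exact ExcIso.SL_map_mem_commutator h2 (index_Omega_odd h2) φ g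
  have h1 := key (rho.comp (MonoidHom.inl _ _)) p.1
  have h3 := key (rho.comp (MonoidHom.inr _ _)) p.2
  have h4 : rho p = (rho.comp (MonoidHom.inl _ _)) p.1 * (rho.comp (MonoidHom.inr _ _)) p.2 := by
    rw [MonoidHom.comp_apply, MonoidHom.comp_apply, ← map_mul]
    congr 1
    simp
  rw [h4]
  exact Subgroup.mul_mem _ h1 h3

theorem range_rho (hF : 3 ≤ Fintype.card F) :
    (rho (F := F)).range = Cfsg.Omega F (Cfsg.quadFormPlus 2 F) := by
  apply ExcIso.range_eq_of_card
  · rintro _ ⟨g, rfl⟩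
    exact rho_mem_Omega hF g
  · rw [Nat.card_prod, Cfsg.Agent.Lib.Helper1.card_SL2]
    have h1 := Subgroup.card_mul_index (Cfsg.Omega F (Cfsg.quadFormPlus 2 F))
    rw [card_O] at h1
    by_cases h2 : (2 : F) = 0
    · rw [card_ker_even h2, one_mul]
      rw [index_Omega_even h2 hF] at h1
      have h3 : 2 * Nat.card ↥(Cfsg.Omega F (Cfsg.quadFormPlus 2 F)) =
          2 * (Fintype.card F * (Fintype.card F ^ 2 - 1) *
            (Fintype.card F * (Fintype.card F ^ 2 - 1))) := by
        rw [mul_comm 2, h1]; ring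
      exact (Nat.eq_of_mul_eq_mul_left (by norm_num) h3).symm
    · rw [card_ker_odd h2]
      rw [index_Omega_odd h2] at h1
      have h3 : 2 * (2 * Nat.card ↥(Cfsg.Omega F (Cfsg.quadFormPlus 2 F))) =
          2 * (Fintype.card F * (Fintype.card F ^ 2 - 1) *
            (Fintype.card F * (Fintype.card F ^ 2 - 1))) := by
        rw [← mul_assoc, show 2 * 2 = 4 from rfl, mul_comm 4, h1]; ring
      exact (Nat.eq_of_mul_eq_mul_left (by norm_num) h3).symm

end Exc4

end Cfsg.Agent.Lib.Helper2
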