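import Mathlib
import Cfsg.Agent.Lib.Helper2.Exc4d

set_option autoImplicit false

namespace Cfsg.Agent.Lib.Helper2

namespace Exc4

open Matrix
open scoped commutatorElement

variable {F : Type*} [Field F]

/-- the projection onto `PSL₂ × PSL₂` -/
noncomputable def proj : Matrix.SpecialLinearGroup (Fin 2) F × Matrix.SpecialLinearGroup (Fin 2) F →*
    Matrix.ProjectiveSpecialLinearGroup (Fin 2) F × Matrix.ProjectiveSpecialLinearGroup (Fin 2) F :=
  MonoidHom.prodMap (QuotientGroup.mk' (Subgroup.center (Matrix.SpecialLinearGroup (Fin 2) F)))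
    (QuotientGroup.mk' (Subgroup.center (Matrix.SpecialLinearGroup (Fin 2) F)))

theorem proj_surjective : Function.Surjective (proj (F := F)) := by
  rintro ⟨a, b⟩
  obtain ⟨g, rfl⟩ := QuotientGroup.mk'_surjective _ a
  obtain ⟨h, rfl⟩ := QuotientGroup.mk'_surjective _ b
  exact ⟨(g, h), rfl⟩

theorem mem_ker_proj
    (p : Matrix.SpecialLinearGroup (Fin 2) F × Matrix.SpecialLinearGroup (Fin 2) F) :
    p ∈ (proj (F := F)).ker ↔ p.1 ∈ Subgroup.center (Matrix.SpecialLinearGroup (Fin 2) F) ∧
      p.2 ∈ Subgroup.center (Matrix.SpecialLinearGroup (Fin 2) F) := by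
  rw [MonoidHom.mem_ker]
  unfold proj
  rw [MonoidHom.prodMap_def, MonoidHom.prod_apply, Prod.mk_eq_one, MonoidHom.comp_apply,
    MonoidHom.comp_apply, QuotientGroup.mk'_apply, QuotientGroup.mk'_apply,
    QuotientGroup.eq_one_iff, QuotientGroup.eq_one_iff]
  rfl

theorem center_iff
    (p : Matrix.SpecialLinearGroup (Fin 2) F × Matrix.SpecialLinearGroup (Fin 2) F) :
    p ∈ (proj (F := F)).ker ↔
      ∀ p' : Matrix.SpecialLinearGroup (Fin 2) F × Matrix.SpecialLinearGroup (Fin 2) F,
        rho p * rho p' = rho p' * rho p := by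
  rw [mem_ker_proj]
  constructor
  · rintro ⟨h1, h2⟩ p'
    rw [← map_mul, ← map_mul]
    congr 1
    apply Prod.ext
    · exact (Subgroup.mem_center_iff.1 h1 p'.1).symm
    · exact (Subgroup.mem_center_iff.1 h2 p'.2).symm
  · intro hc
    have key : ∀ p' : Matrix.SpecialLinearGroup (Fin 2) F × Matrix.SpecialLinearGroup (Fin 2) F,
        (⁅p, p'⁆ : Matrix.SpecialLinearGroup (Fin 2) F × Matrix.SpecialLinearGroup (Fin 2) F).1 =
          (⁅p, p'⁆ : Matrix.SpecialLinearGroup (Fin 2) F × Matrix.SpecialLinearGroup (Fin 2) F).2 := by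
      intro p'
      apply coe_eq_of_M_eq_one
      rw [← rho_eq_one_iff, map_commutatorElement, commutatorElement_eq_one_iff_commute]
      exact hc p'
    constructor
    · rw [Subgroup.mem_center_iff]
      intro g
      have h := key (g, 1)
      have h1 : (⁅p, (g, 1)⁆ : Matrix.SpecialLinearGroup (Fin 2) F ×
          Matrix.SpecialLinearGroup (Fin 2) F).2 = 1 := by
        simp [commutatorElement_def]
      rw [h1] at h
      have h3 : (⁅p, (g, 1)⁆ : Matrix.SpecialLinearGroup (Fin 2) F ×
          Matrix.SpecialLinearGroup (Fin 2) F).1 = ⁅p.1, g⁆ := by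
        simp [commutatorElement_def]
      rw [h3, commutatorElement_eq_one_iff_commute] at h
      exact h.eq.symm
    · rw [Subgroup.mem_center_iff]
      intro g
      have h := key (1, g)
      have h1 : (⁅p, (1, g)⁆ : Matrix.SpecialLinearGroup (Fin 2) F ×
          Matrix.SpecialLinearGroup (Fin 2) F).1 = 1 := by
        simp [commutatorElement_def]
      rw [h1] at h
      have h3 : (⁅p, (1, g)⁆ : Matrix.SpecialLinearGroup (Fin 2) F ×
          Matrix.SpecialLinearGroup (Fin 2) F).2 = ⁅p.2, g⁆ := by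
        simp [commutatorElement_def]
      rw [h3] at h
      have h4 := h.symm
      rw [commutatorElement_eq_one_iff_commute] at h4
      exact h4.eq.symm

theorem main [Fintype F] (hF : 3 ≤ Fintype.card F) :
    Nonempty (Cfsg.POmega F (Cfsg.quadFormPlus 2 F) ≃*
      Matrix.ProjectiveSpecialLinearGroup (Fin 2) F × Matrix.ProjectiveSpecialLinearGroup (Fin 2) F) :=
  ExcIso.quotient_center_equiv (Cfsg.Omega F (Cfsg.quadFormPlus 2 F)) rho
    (range_rho hF) proj proj_surjective center_iff

end Exc4

end Cfsg.Agent.Lib.Helper2
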