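import Mathlib
import Cfsg.Agent.Lib.Helper2.CentOmega6

set_option autoImplicit false

namespace Cfsg.Agent.Lib.Helper2

namespace Exc4m

open Matrix QuadraticAlgebra

variable {F : Type*} [Field F] (a b : F)

/-- the index type of the four-dimensional minus form -/
abbrev I4m := (Fin 1 ⊕ Fin 1) ⊕ Fin 2

/-- the Hermitian matrix with coordinates `v` -/
def X (v : I4m → F) : Matrix (Fin 2) (Fin 2) (QuadraticAlgebra F (-b) a) :=
  !![⟨v (.inl (.inl 0)), 0⟩, ⟨v (.inr 0), v (.inr 1)⟩;
     star ⟨v (.inr 0), v (.inr 1)⟩, ⟨- v (.inl (.inr 0)), 0⟩]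

/-- the coordinates of a `2 × 2` matrix -/
def co (P : Matrix (Fin 2) (Fin 2) (QuadraticAlgebra F (-b) a)) : I4m → F :=
  Sum.elim (Sum.elim (fun _ => (P 0 0).re) (fun _ => - (P 1 1).re)) ![(P 0 1).re, (P 0 1).im]

theorem co_X (v : I4m → F) : co a b (X a b v) = v := by
  funext i
  rcases i with (i | i) | i
  · simp [co, X, Subsingleton.elim i 0]
  · simp [co, X, Subsingleton.elim i 0]
  · fin_cases i <;> simp [co, X]

theorem X_isHermitian (v : I4m → F) : (X a b v).IsHermitian := by
  unfold Matrix.IsHermitian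
  ext i j
  · fin_cases i <;> fin_cases j <;> simp [X, Matrix.conjTranspose_apply]
  · fin_cases i <;> fin_cases j <;> simp [X, Matrix.conjTranspose_apply]

theorem X_add (u v : I4m → F) : X a b (u + v) = X a b u + X a b v := by
  ext i j
  · fin_cases i <;> fin_cases j <;> simp [X] <;> ring
  · fin_cases i <;> fin_cases j <;> simp [X] <;> ring

theorem X_smul (c : F) (v : I4m → F) : X a b (c • v) = c • X a b v := by
  ext i j
  · fin_cases i <;> fin_cases j <;> simp [X] <;> ring
  · fin_cases i <;> fin_cases j <;> simp [X]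

theorem co_add (P P' : Matrix (Fin 2) (Fin 2) (QuadraticAlgebra F (-b) a)) :
    co a b (P + P') = co a b P + co a b P' := by
  funext i
  rcases i with (i | i) | i
  · simp [co]
  · simp [co]; ring
  · fin_cases i <;> simp [co]

theorem co_smul (c : F) (P : Matrix (Fin 2) (Fin 2) (QuadraticAlgebra F (-b) a)) :
    co a b (c • P) = c • co a b P := by
  funext i
  rcases i with (i | i) | i
  · simp [co]
  · simp [co]
  · fin_cases i <;> simp [co]

/-- the quadratic form is minus the determinant -/
theorem det_X (v : I4m → F) :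
    (X a b v).det = ⟨- Cfsg.quadFormMinus 1 F a b v, 0⟩ := by
  rw [Matrix.det_fin_two]
  unfold Cfsg.quadFormMinus
  ext
  · simp [X]
    ring
  · simp [X]
    ring

end Exc4m

end Cfsg.Agent.Lib.Helper2
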