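import Mathlib
import Cfsg.Agent.Lib.Helper2.Exc4ma

set_option autoImplicit false

namespace Cfsg.Agent.Lib.Helper2

namespace Exc4m

open Matrix QuadraticAlgebra

variable {F : Type*} [Field F] (a b : F)

/-- anisotropy in the form used by `QuadraticAlgebra` -/
theorem fact_of_aniso
    (hab : ∀ z₁ z₂ : F, z₁ ^ 2 + a * z₁ * z₂ + b * z₂ ^ 2 = 0 → z₁ = 0 ∧ z₂ = 0) :
    Fact (∀ r : F, r ^ 2 ≠ -b + a * r) := by
  constructor
  intro r hr
  have := hab r (-1) (by rw [hr]; ring)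
  have h1 : (-1 : F) = 0 := this.2
  simp at h1

/-- elements fixed by conjugation have no `ω`-component -/
theorem im_eq_zero_of_star_eq [Finite F]
    (hab : ∀ z₁ z₂ : F, z₁ ^ 2 + a * z₁ * z₂ + b * z₂ ^ 2 = 0 → z₁ = 0 ∧ z₂ = 0)
    (z : QuadraticAlgebra F (-b) a) (h : star z = z) : z.im = 0 := by
  by_contra hne
  have h1 := congrArg QuadraticAlgebra.re h
  have h2 := congrArg QuadraticAlgebra.im h
  simp only [re_star, im_star] at h1 h2
  have ha : a = 0 := by
    have : a * z.im = 0 := by linear_combination h1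
    rcases mul_eq_zero.1 this with h | h
    · exact h
    · exact absurd h hne
  have h2' : (2 : F) = 0 := by
    have : 2 * z.im = 0 := by linear_combination -h2
    rcases mul_eq_zero.1 this with h | h
    · exact h
    · exact absurd h hne
  have hch : ringChar F = 2 := CharP.ringChar_of_prime_eq_zero Nat.prime_two (by exact_mod_cast h2')
  haveI := Fintype.ofFinite F
  obtain ⟨c, hc⟩ := FiniteField.isSquare_of_char_two hch b
  have := hab c 1 (by rw [ha, hc]; linear_combination c * c * h2')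
  exact one_ne_zero this.2

theorem X_co [Finite F]
    (hab : ∀ z₁ z₂ : F, z₁ ^ 2 + a * z₁ * z₂ + b * z₂ ^ 2 = 0 → z₁ = 0 ∧ z₂ = 0)
    (P : Matrix (Fin 2) (Fin 2) (QuadraticAlgebra F (-b) a)) (hP : P.IsHermitian) :
    X a b (co a b P) = P := by
  have h00 : star (P 0 0) = P 0 0 := by
    have := congrFun (congrFun hP 0) 0
    rwa [Matrix.conjTranspose_apply] at this
  have h11 : star (P 1 1) = P 1 1 := by
    have := congrFun (congrFun hP 1) 1
    rwa [Matrix.conjTranspose_apply] at this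
  have h10 : star (P 0 1) = P 1 0 := by
    have := congrFun (congrFun hP 1) 0
    rwa [Matrix.conjTranspose_apply] at this
  have i00 := im_eq_zero_of_star_eq a b hab _ h00
  have i11 := im_eq_zero_of_star_eq a b hab _ h11
  have e00 : X a b (co a b P) 0 0 = P 0 0 := by ext <;> simp [X, co, i00]
  have e01 : X a b (co a b P) 0 1 = P 0 1 := by ext <;> simp [X, co]
  have e10 : X a b (co a b P) 1 0 = P 1 0 := by
    rw [← h10]
    ext <;> simp [X, co]
  have e11 : X a b (co a b P) 1 1 = P 1 1 := by ext <;> simp [X, co, i11]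
  apply Matrix.ext
  intro i j
  fin_cases i <;> fin_cases j
  · exact e00
  · exact e01
  · exact e10
  · exact e11

/-- the action of `g` on coordinates, as a linear map -/
def actL (g : Matrix (Fin 2) (Fin 2) (QuadraticAlgebra F (-b) a)) : (I4m → F) →ₗ[F] (I4m → F) where
  toFun v := co a b (g * X a b v * gᴴ)
  map_add' u v := by rw [X_add, Matrix.mul_add, Matrix.add_mul, co_add]
  map_smul' c v := by
    rw [X_smul, Matrix.mul_smul, Matrix.smul_mul, co_smul]
    rfl

theorem actL_apply (g : Matrix (Fin 2) (Fin 2) (QuadraticAlgebra F (-b) a)) (v : I4m → F) :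
    actL a b g v = co a b (g * X a b v * gᴴ) := rfl

/-- the matrix of the action -/
noncomputable def Hm (g : Matrix (Fin 2) (Fin 2) (QuadraticAlgebra F (-b) a)) : Matrix I4m I4m F :=
  LinearMap.toMatrix' (actL a b g)

theorem Hm_mulVec (g : Matrix (Fin 2) (Fin 2) (QuadraticAlgebra F (-b) a)) (v : I4m → F) :
    Hm a b g *ᵥ v = co a b (g * X a b v * gᴴ) := by
  unfold Hm
  rw [← Matrix.toLin'_apply, Matrix.toLin'_toMatrix']
  rfl

theorem X_Hm [Finite F]
    (hab : ∀ z₁ z₂ : F, z₁ ^ 2 + a * z₁ * z₂ + b * z₂ ^ 2 = 0 → z₁ = 0 ∧ z₂ = 0)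
    (g : Matrix (Fin 2) (Fin 2) (QuadraticAlgebra F (-b) a)) (v : I4m → F) :
    X a b (Hm a b g *ᵥ v) = g * X a b v * gᴴ := by
  rw [Hm_mulVec, X_co a b hab _ (Matrix.isHermitian_mul_mul_conjTranspose g (X_isHermitian a b v))]

theorem actL_mul [Finite F]
    (hab : ∀ z₁ z₂ : F, z₁ ^ 2 + a * z₁ * z₂ + b * z₂ ^ 2 = 0 → z₁ = 0 ∧ z₂ = 0)
    (g h : Matrix (Fin 2) (Fin 2) (QuadraticAlgebra F (-b) a)) :
    actL a b (g * h) = actL a b g ∘ₗ actL a b h := by
  apply LinearMap.ext
  intro v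
  rw [LinearMap.comp_apply, actL_apply, actL_apply, actL_apply,
    X_co a b hab _ (Matrix.isHermitian_mul_mul_conjTranspose h (X_isHermitian a b v)),
    Matrix.conjTranspose_mul]
  simp only [Matrix.mul_assoc]

theorem Hm_mul [Finite F]
    (hab : ∀ z₁ z₂ : F, z₁ ^ 2 + a * z₁ * z₂ + b * z₂ ^ 2 = 0 → z₁ = 0 ∧ z₂ = 0)
    (g h : Matrix (Fin 2) (Fin 2) (QuadraticAlgebra F (-b) a)) :
    Hm a b (g * h) = Hm a b g * Hm a b h := by
  unfold Hm
  rw [actL_mul a b hab, LinearMap.toMatrix'_comp]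

theorem Hm_one : Hm a b (1 : Matrix (Fin 2) (Fin 2) (QuadraticAlgebra F (-b) a)) = 1 := by
  unfold Hm
  have : actL a b (1 : Matrix (Fin 2) (Fin 2) (QuadraticAlgebra F (-b) a)) = LinearMap.id := by
    apply LinearMap.ext
    intro v
    rw [actL_apply, Matrix.one_mul, Matrix.conjTranspose_one, Matrix.mul_one, co_X]
    rfl
  rw [this, LinearMap.toMatrix'_id]

theorem Q_Hm [Finite F]
    (hab : ∀ z₁ z₂ : F, z₁ ^ 2 + a * z₁ * z₂ + b * z₂ ^ 2 = 0 → z₁ = 0 ∧ z₂ = 0)
    (g : Matrix (Fin 2) (Fin 2) (QuadraticAlgebra F (-b) a)) (hg : g.det = 1) (v : I4m → F) :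
    Cfsg.quadFormMinus 1 F a b (Hm a b g *ᵥ v) = Cfsg.quadFormMinus 1 F a b v := by
  have h1 := det_X a b (Hm a b g *ᵥ v)
  rw [X_Hm a b hab, Matrix.det_mul, Matrix.det_mul, Matrix.det_conjTranspose, hg, star_one, one_mul,
    mul_one, det_X] at h1
  have h2 := congrArg QuadraticAlgebra.re h1
  simpa using h2.symm

end Exc4m

end Cfsg.Agent.Lib.Helper2
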