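import Mathlib
import Cfsg.Agent.Lib.Helper2.Exc4mb

set_option autoImplicit false

namespace Cfsg.Agent.Lib.Helper2

namespace Exc4m

open Matrix QuadraticAlgebra

variable {F : Type*} [Field F] (a b : F)

theorem X_ex : X a b (Pi.single (.inl (.inl 0)) 1) = !![1, 0; 0, 0] := by
  apply Matrix.ext
  intro i j
  fin_cases i <;> fin_cases j <;> (ext <;> simp [X])

theorem X_ey : X a b (Pi.single (.inl (.inr 0)) 1) = !![0, 0; 0, -1] := by
  apply Matrix.ext
  intro i j
  fin_cases i <;> fin_cases j <;> (ext <;> simp [X])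

theorem X_ez : X a b (Pi.single (.inr 0) 1) = !![0, 1; 1, 0] := by
  apply Matrix.ext
  intro i j
  fin_cases i <;> fin_cases j <;> (ext <;> simp [X])

/-- a matrix of determinant one acting trivially on Hermitian matrices is `±1` -/
theorem scalar_of_Hm_eq_one [Finite F]
    (hab : ∀ z₁ z₂ : F, z₁ ^ 2 + a * z₁ * z₂ + b * z₂ ^ 2 = 0 → z₁ = 0 ∧ z₂ = 0)
    (g : Matrix (Fin 2) (Fin 2) (QuadraticAlgebra F (-b) a)) (hdet : g.det = 1)
    (h : Hm a b g = 1) : ∃ c : QuadraticAlgebra F (-b) a, c * c = 1 ∧ g = Matrix.scalar (Fin 2) c := by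
  haveI := fact_of_aniso a b hab
  have key : ∀ v : I4m → F, g * X a b v * gᴴ = X a b v := by
    intro v
    rw [← X_Hm a b hab, h, Matrix.one_mulVec]
  have k1 := key (Pi.single (.inl (.inl 0)) 1)
  have k2 := key (Pi.single (.inl (.inr 0)) 1)
  have k3 := key (Pi.single (.inr 0) 1)
  rw [X_ex] at k1
  rw [X_ey] at k2
  rw [X_ez] at k3
  have a00 := congrFun (congrFun k1 0) 0
  have a10 := congrFun (congrFun k1 1) 0
  have b11 := congrFun (congrFun k2 1) 1
  have b01 := congrFun (congrFun k2 0) 1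
  have c01 := congrFun (congrFun k3 0) 1
  simp [Matrix.mul_apply, Fin.sum_univ_two, Matrix.conjTranspose_apply] at a00 a10 b11 b01 c01
  have hs00 : g 0 0 ≠ 0 := by
    intro h0; rw [h0] at a00; simp at a00
  have hs11 : g 1 1 ≠ 0 := by
    intro h0; rw [h0] at b11; simp at b11
  have g10 : g 1 0 = 0 := by
    rcases a10 with h | h
    · exact h
    · exact absurd h hs00
  have g01 : g 0 1 = 0 := by
    rcases b01 with h | h
    · exact h
    · exact absurd h hs11
  rw [g01, g10] at c01
  simp at c01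
  rw [Matrix.det_fin_two, g01, g10, mul_zero, sub_zero] at hdet
  have g00ne : g 0 0 ≠ 0 := by
    intro h0; rw [h0] at hdet; simp at hdet
  have hstar : star (g 1 1) = g 1 1 := by
    apply mul_left_cancel₀ g00ne
    rw [c01, hdet]
  rw [hstar] at b11
  have g00 : g 0 0 = g 1 1 := by
    have g11ne : g 1 1 ≠ 0 := by
      intro h0; rw [h0] at hdet; simp at hdet
    apply mul_right_cancel₀ g11ne
    rw [hdet, b11]
  refine ⟨g 1 1, b11, ?_⟩
  apply Matrix.ext
  intro i j
  fin_cases i <;> fin_cases j <;> simp [g00, g01, g10]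

end Exc4m

end Cfsg.Agent.Lib.Helper2
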