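import Mathlib
import Cfsg.Agent.Lib.Helper2.Exc4mc
import Cfsg.Agent.Lib.Helper2.ExcIso4
import Cfsg.Agent.Lib.Helper2.OrthCard3
import Cfsg.Agent.Lib.Helper1.SL2Torus

set_option autoImplicit false

namespace Cfsg.Agent.Lib.Helper2

namespace Exc4m

open Matrix QuadraticAlgebra

variable {F : Type*} [Field F] (a b : F)

/-- the image of `g ∈ SL₂(K₀)` in `GL₄` -/
noncomputable def rhoGL [Finite F]
    (hab : ∀ z₁ z₂ : F, z₁ ^ 2 + a * z₁ * z₂ + b * z₂ ^ 2 = 0 → z₁ = 0 ∧ z₂ = 0)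
    (g : Matrix.SpecialLinearGroup (Fin 2) (QuadraticAlgebra F (-b) a)) :
    Matrix.GeneralLinearGroup I4m F :=
  ⟨Hm a b g.1, Hm a b (g⁻¹).1,
    by rw [← Hm_mul a b hab, ← Matrix.SpecialLinearGroup.coe_mul, mul_inv_cancel,
      Matrix.SpecialLinearGroup.coe_one, Hm_one],
    by rw [← Hm_mul a b hab, ← Matrix.SpecialLinearGroup.coe_mul, inv_mul_cancel,
      Matrix.SpecialLinearGroup.coe_one, Hm_one]⟩

/-- the action of `SL₂(K₀)` on Hermitian matrices, as a hom into `O⁻₄` -/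
noncomputable def rho [Finite F]
    (hab : ∀ z₁ z₂ : F, z₁ ^ 2 + a * z₁ * z₂ + b * z₂ ^ 2 = 0 → z₁ = 0 ∧ z₂ = 0) :
    Matrix.SpecialLinearGroup (Fin 2) (QuadraticAlgebra F (-b) a) →*
      ↥(Cfsg.isometryGroup F (Cfsg.quadFormMinus 1 F a b)) where
  toFun g := ⟨rhoGL a b hab g, by
    intro u _
    show Cfsg.quadFormMinus 1 F a b (Hm a b g.1 *ᵥ u) = Cfsg.quadFormMinus 1 F a b u
    exact Q_Hm a b hab g.1 g.det_coe u⟩
  map_one' := Subtype.ext (Units.ext (Hm_one a b))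
  map_mul' g h := Subtype.ext (Units.ext (Hm_mul a b hab g.1 h.1))

theorem rho_eq_one_iff [Finite F]
    (hab : ∀ z₁ z₂ : F, z₁ ^ 2 + a * z₁ * z₂ + b * z₂ ^ 2 = 0 → z₁ = 0 ∧ z₂ = 0)
    (g : Matrix.SpecialLinearGroup (Fin 2) (QuadraticAlgebra F (-b) a)) :
    rho a b hab g = 1 ↔ Hm a b g.1 = 1 := by
  constructor
  · intro h
    have : (((rho a b hab g : ↥(Cfsg.isometryGroup F (Cfsg.quadFormMinus 1 F a b))) :
      Matrix.GeneralLinearGroup I4m F) : Matrix I4m I4m F) = Hm a b g.1 := rfl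
    rw [← this, h]
    rfl
  · intro h
    apply Subtype.ext
    apply Units.ext
    exact h

theorem scalar_of_rho_eq_one [Finite F]
    (hab : ∀ z₁ z₂ : F, z₁ ^ 2 + a * z₁ * z₂ + b * z₂ ^ 2 = 0 → z₁ = 0 ∧ z₂ = 0)
    (g : Matrix.SpecialLinearGroup (Fin 2) (QuadraticAlgebra F (-b) a))
    (h : rho a b hab g = 1) :
    ∃ c : QuadraticAlgebra F (-b) a, c * c = 1 ∧ g.1 = Matrix.scalar (Fin 2) c := by
  rw [rho_eq_one_iff] at h
  exact scalar_of_Hm_eq_one a b hab g.1 g.det_coe h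

theorem Hm_neg_one : Hm a b (-1 : Matrix (Fin 2) (Fin 2) (QuadraticAlgebra F (-b) a)) = 1 := by
  apply Matrix.toLin'.injective
  apply LinearMap.ext
  intro v
  rw [Matrix.toLin'_apply, Matrix.toLin'_apply, Matrix.one_mulVec, Hm_mulVec,
    Matrix.conjTranspose_neg, Matrix.conjTranspose_one, Matrix.neg_mul, Matrix.one_mul,
    Matrix.mul_neg, Matrix.mul_one, neg_neg, co_X]

/-- the kernel has two elements in odd characteristic -/
theorem card_ker_odd [Finite F]
    (hab : ∀ z₁ z₂ : F, z₁ ^ 2 + a * z₁ * z₂ + b * z₂ ^ 2 = 0 → z₁ = 0 ∧ z₂ = 0)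
    (h2 : (2 : F) ≠ 0) : Nat.card ↥(rho a b hab).ker = 2 := by
  haveI := fact_of_aniso a b hab
  rw [Nat.card_eq_two_iff]
  have hm1 : (-1 : Matrix.SpecialLinearGroup (Fin 2) (QuadraticAlgebra F (-b) a)) ∈
      (rho a b hab).ker := by
    rw [MonoidHom.mem_ker, rho_eq_one_iff]
    rw [Matrix.SpecialLinearGroup.coe_neg, Matrix.SpecialLinearGroup.coe_one]
    exact Hm_neg_one a b
  refine ⟨1, ⟨-1, hm1⟩, ?_, ?_⟩
  · intro h
    have h1 := congrArg (fun x : ↥(rho a b hab).ker =>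
      ((x : Matrix.SpecialLinearGroup (Fin 2) (QuadraticAlgebra F (-b) a)).1 0 0).re) h
    simp only [OneMemClass.coe_one, Matrix.SpecialLinearGroup.coe_one, Matrix.one_apply_eq,
      Matrix.SpecialLinearGroup.coe_neg, Matrix.neg_apply, QuadraticAlgebra.re_one,
      QuadraticAlgebra.re_neg] at h1
    apply h2
    have : (2 : F) = 1 + 1 := by norm_num
    rw [this]
    nth_rewrite 1 [h1]
    ring
  · ext ⟨z, hz⟩
    simp only [Set.mem_insert_iff, Set.mem_singleton_iff, Set.mem_univ, iff_true]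
    obtain ⟨r, hr, hg⟩ := scalar_of_rho_eq_one a b hab z hz
    have hr' : r = 1 ∨ r = -1 := by
      have : (r - 1) * (r + 1) = 0 := by ring_nf; rw [← pow_two] at *; rw [← hr]; ring
      rcases mul_eq_zero.1 this with h | h
      · left; exact sub_eq_zero.1 h
      · right; exact eq_neg_of_add_eq_zero_left h
    rcases hr' with rfl | rfl
    · left
      apply Subtype.ext
      apply Subtype.ext
      rw [hg]
      simp
    · right
      apply Subtype.ext
      apply Subtype.ext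
      rw [hg]
      apply Matrix.ext
      intro i j
      fin_cases i <;> fin_cases j <;> simp

/-- the kernel is trivial in characteristic two -/
theorem card_ker_even [Finite F]
    (hab : ∀ z₁ z₂ : F, z₁ ^ 2 + a * z₁ * z₂ + b * z₂ ^ 2 = 0 → z₁ = 0 ∧ z₂ = 0)
    (h2 : (2 : F) = 0) : Nat.card ↥(rho a b hab).ker = 1 := by
  haveI := fact_of_aniso a b hab
  have h2' : (2 : QuadraticAlgebra F (-b) a) = 0 := by
    ext
    · simpa using h2
    · simp
  have : (rho a b hab).ker = ⊥ := by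
    rw [eq_bot_iff]
    intro z hz
    obtain ⟨r, hr, hg⟩ := scalar_of_rho_eq_one a b hab z hz
    have hr1 : r = 1 := by
      have h3 : (r - 1) ^ 2 = 0 := by
        have : (r - 1) ^ 2 = r * r - 2 * r + 1 := by ring
        rw [this, hr, h2']; ring_nf
        exact h2'
      have := pow_eq_zero_iff (two_ne_zero) |>.1 h3
      exact sub_eq_zero.1 this
    rw [Subgroup.mem_bot]
    apply Subtype.ext
    rw [hg, hr1]
    simp
  rw [this]
  exact Subgroup.card_bot

end Exc4m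

end Cfsg.Agent.Lib.Helper2
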