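import Mathlib
import Cfsg.Agent.Lib.Helper2.Exc4md

set_option autoImplicit false

namespace Cfsg.Agent.Lib.Helper2

namespace Exc4m

open Matrix QuadraticAlgebra

variable {F : Type*} [Field F] [Fintype F] (a b : F)

instance instFiniteQA : Finite (QuadraticAlgebra F (-b) a) :=
  Finite.of_equiv _ (QuadraticAlgebra.equivProd (-b) a).symm

theorem card_QA : Nat.card (QuadraticAlgebra F (-b) a) = Fintype.card F ^ 2 := by
  rw [Nat.card_congr (QuadraticAlgebra.equivProd (-b) a), Nat.card_prod, Nat.card_eq_fintype_card,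
    pow_two]

theorem card_SL2_QA
    (hab : ∀ z₁ z₂ : F, z₁ ^ 2 + a * z₁ * z₂ + b * z₂ ^ 2 = 0 → z₁ = 0 ∧ z₂ = 0) :
    Nat.card (Matrix.SpecialLinearGroup (Fin 2) (QuadraticAlgebra F (-b) a)) =
      Fintype.card F ^ 2 * ((Fintype.card F ^ 2 + 1) * (Fintype.card F ^ 2 - 1)) := by
  haveI := fact_of_aniso a b hab
  haveI : Fintype (QuadraticAlgebra F (-b) a) := Fintype.ofFinite _
  rw [Cfsg.Agent.Lib.Helper1.card_SL2, ← Nat.card_eq_fintype_card, card_QA]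
  congr 1
  have hq : 1 ≤ Fintype.card F ^ 2 := Nat.one_le_pow _ _ Fintype.card_pos
  obtain ⟨y, hy⟩ : ∃ y, Fintype.card F ^ 2 = y + 1 := ⟨Fintype.card F ^ 2 - 1, by omega⟩
  rw [hy]
  simp only [Nat.add_sub_cancel]
  have : (y + 1) ^ 2 = (y + 1 + 1) * y + 1 := by ring
  rw [this, Nat.add_sub_cancel]

theorem card_O
    (hab : ∀ z₁ z₂ : F, z₁ ^ 2 + a * z₁ * z₂ + b * z₂ ^ 2 = 0 → z₁ = 0 ∧ z₂ = 0) :
    Nat.card ↥(Cfsg.isometryGroup F (Cfsg.quadFormMinus 1 F a b)) =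
      2 * (Fintype.card F ^ 2 * ((Fintype.card F ^ 2 + 1) * (Fintype.card F ^ 2 - 1))) := by
  have h := OrthCard.card_minus a b hab 1
  rw [h, Finset.prod_range_one]
  ring

theorem index_Omega_odd
    (hab : ∀ z₁ z₂ : F, z₁ ^ 2 + a * z₁ * z₂ + b * z₂ ^ 2 = 0 → z₁ = 0 ∧ z₂ = 0)
    (h2 : (2 : F) ≠ 0) :
    (Cfsg.Omega F (Cfsg.quadFormMinus 1 F a b)).index = 4 := by
  classical
  rw [← OrthCard.QMn_coe]
  exact CentO.index_odd h2 (OrthCard.QMn_nondeg 1 a b hab) (by simp)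

theorem SL2_QA_perfect
    (hab : ∀ z₁ z₂ : F, z₁ ^ 2 + a * z₁ * z₂ + b * z₂ ^ 2 = 0 → z₁ = 0 ∧ z₂ = 0) :
    haveI := fact_of_aniso a b hab
    commutator (Matrix.SpecialLinearGroup (Fin 2) (QuadraticAlgebra F (-b) a)) = ⊤ := by
  haveI := fact_of_aniso a b hab
  haveI : Fintype (QuadraticAlgebra F (-b) a) := Fintype.ofFinite _
  apply ExcIso.SL2_perfect_of_four_le
  rw [← Nat.card_eq_fintype_card, card_QA]
  have : 2 ≤ Fintype.card F := Fintype.one_lt_card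
  nlinarith

theorem range_rho
    (hab : ∀ z₁ z₂ : F, z₁ ^ 2 + a * z₁ * z₂ + b * z₂ ^ 2 = 0 → z₁ = 0 ∧ z₂ = 0) :
    (rho a b hab).range = Cfsg.Omega F (Cfsg.quadFormMinus 1 F a b) := by
  haveI := fact_of_aniso a b hab
  haveI : Finite (Matrix.SpecialLinearGroup (Fin 2) (QuadraticAlgebra F (-b) a)) :=
    Subtype.finite
  have hle : (rho a b hab).range ≤ Cfsg.Omega F (Cfsg.quadFormMinus 1 F a b) := by
    rintro _ ⟨g, rfl⟩
    exact ExcIso.map_mem_commutator_of_perfect (SL2_QA_perfect a b hab) (rho a b hab) g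
  by_cases h2 : (2 : F) = 0
  · apply ExcIso.range_eq_commutator_of_two_mul _ hle
    rw [card_ker_even a b hab h2, one_mul, card_SL2_QA a b hab, card_O a b hab]
  · apply ExcIso.range_eq_of_card _ _ hle
    rw [card_ker_odd a b hab h2, card_SL2_QA a b hab]
    have h1 := Subgroup.card_mul_index (Cfsg.Omega F (Cfsg.quadFormMinus 1 F a b))
    rw [index_Omega_odd a b hab h2, card_O a b hab] at h1
    have h3 : 2 * (2 * Nat.card ↥(Cfsg.Omega F (Cfsg.quadFormMinus 1 F a b))) =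
        2 * (Fintype.card F ^ 2 * ((Fintype.card F ^ 2 + 1) * (Fintype.card F ^ 2 - 1))) := by
      rw [← mul_assoc, show 2 * 2 = 4 from rfl, mul_comm 4, h1]
    exact (Nat.eq_of_mul_eq_mul_left (by norm_num) h3).symm

end Exc4m

end Cfsg.Agent.Lib.Helper2
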