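import Mathlib
import Cfsg.Agent.Lib.Helper2.Exc4me

set_option autoImplicit false

namespace Cfsg.Agent.Lib.Helper2

namespace Exc4m

open Matrix QuadraticAlgebra

variable {F K : Type*} [Field F] [Fintype F] [Field K] [Fintype K] (a b : F)

theorem main {q : ℕ} (hF : Fintype.card F = q) (hK : Fintype.card K = q ^ 2)
    (hab : ∀ z₁ z₂ : F, z₁ ^ 2 + a * z₁ * z₂ + b * z₂ ^ 2 = 0 → z₁ = 0 ∧ z₂ = 0) :
    Nonempty (Cfsg.POmega F (Cfsg.quadFormMinus 1 F a b) ≃*
      Matrix.ProjectiveSpecialLinearGroup (Fin 2) K) := by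
  haveI := fact_of_aniso a b hab
  haveI : Fintype (QuadraticAlgebra F (-b) a) := Fintype.ofFinite _
  have hcard : Fintype.card K = Fintype.card (QuadraticAlgebra F (-b) a) := by
    rw [hK, ← Nat.card_eq_fintype_card (α := QuadraticAlgebra F (-b) a), card_QA, hF]
  let e : K ≃+* QuadraticAlgebra F (-b) a := FiniteField.ringEquivOfCardEq hcard
  let e' : Matrix.SpecialLinearGroup (Fin 2) K →*
      Matrix.SpecialLinearGroup (Fin 2) (QuadraticAlgebra F (-b) a) :=
    Matrix.SpecialLinearGroup.map e.toRingHom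
  have he'surj : Function.Surjective e' := by
    intro g
    refine ⟨Matrix.SpecialLinearGroup.map e.symm.toRingHom g, ?_⟩
    apply Subtype.ext
    apply Matrix.ext
    intro i j
    show e (e.symm (g.1 i j)) = g.1 i j
    exact e.apply_symm_apply _
  have hK4 : 4 ≤ Fintype.card K := by
    rw [hK, ← hF]
    have : 2 ≤ Fintype.card F := Fintype.one_lt_card
    nlinarith
  have hperf := ExcIso.SL2_perfect_of_four_le hK4
  have hrange : ((rho a b hab).comp e').range = Cfsg.Omega F (Cfsg.quadFormMinus 1 F a b) := by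
    rw [MonoidHom.range_comp, MonoidHom.range_eq_top.2 he'surj, ← MonoidHom.range_eq_map,
      range_rho a b hab]
  have hker : ((rho a b hab).comp e').ker ≤
      Subgroup.center (Matrix.SpecialLinearGroup (Fin 2) K) := by
    intro g hg
    rw [MonoidHom.mem_ker, MonoidHom.comp_apply] at hg
    obtain ⟨c, hc, hs⟩ := scalar_of_rho_eq_one a b hab (e' g) hg
    rw [Matrix.SpecialLinearGroup.mem_center_iff]
    refine ⟨e.symm c, ?_, ?_⟩
    · rw [Fintype.card_fin, pow_two, ← map_mul, hc, map_one]
    · apply Matrix.ext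
      intro i j
      have h1 := congrFun (congrFun hs i) j
      have h3 : (e' g).1 i j = e (g.1 i j) := rfl
      rw [h3] at h1
      have h4 : g.1 i j = e.symm (Matrix.scalar (Fin 2) c i j) := by
        rw [← h1, RingEquiv.symm_apply_apply]
      rw [h4]
      simp only [Matrix.scalar_apply, Matrix.diagonal_apply]
      split_ifs <;> simp
  refine ExcIso.quotient_center_equiv (Cfsg.Omega F (Cfsg.quadFormMinus 1 F a b))
    ((rho a b hab).comp e') hrange
    (QuotientGroup.mk' (Subgroup.center (Matrix.SpecialLinearGroup (Fin 2) K)))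
    (QuotientGroup.mk'_surjective _) (fun g => ?_)
  rw [QuotientGroup.ker_mk']
  exact ExcIso.center_iff_of_perfect hperf _ hker g

end Exc4m

end Cfsg.Agent.Lib.Helper2
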