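import Mathlib

set_option autoImplicit false

namespace Cfsg.Agent.Lib.Helper2

namespace ExcKer

open Matrix

variable {F : Type*} [Field F] {n : Type*} [Fintype n] [DecidableEq n]

/-- the elementary alternating matrix `E_ij - E_ji` -/
def B (F : Type*) [Field F] {n : Type*} [DecidableEq n] (i j : n) : Matrix n n F :=
  Matrix.single i j 1 - Matrix.single j i 1

theorem B_mul_transpose_apply (g : Matrix n n F) (i j k l : n) :
    (B F i j * gᵀ) k l = (if k = i then g l j else 0) - (if k = j then g l i else 0) := by
  simp [B, Matrix.mul_apply, Matrix.single_apply, Matrix.sub_apply, sub_mul, ite_and,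
    Finset.sum_sub_distrib, eq_comm]

theorem mul_B_apply (h : Matrix n n F) (i j k l : n) :
    (h * B F i j) k l = (if l = j then h k i else 0) - (if l = i then h k j else 0) := by
  simp [B, Matrix.mul_apply, Matrix.single_apply, Matrix.sub_apply, mul_sub, ite_and,
    Finset.sum_sub_distrib, eq_comm]

/-- a matrix fixing every elementary alternating matrix under `P ↦ g P gᵀ` is `±1`
(in dimension at least three) -/
theorem scalar_of_conj_fix (g h : Matrix n n F) (hhg : h * g = 1)
    (H : ∀ i j : n, i ≠ j → g * B F i j * gᵀ = B F i j)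
    (h3 : ∀ i k : n, ∃ j, j ≠ i ∧ j ≠ k) :
    ∃ c : F, c * c = 1 ∧ g = Matrix.scalar n c := by
  have H' : ∀ i j : n, i ≠ j → B F i j * gᵀ = h * B F i j := by
    intro i j hij
    have : h * (g * B F i j * gᵀ) = h * B F i j := by rw [H i j hij]
    rw [← Matrix.mul_assoc, ← Matrix.mul_assoc, hhg, Matrix.one_mul] at this
    exact this
  have key : ∀ i j k l : n, i ≠ j →
      (if k = i then g l j else 0) - (if k = j then g l i else 0) =
      (if l = j then h k i else 0) - (if l = i then h k j else 0) := by
    intro i j k l hij
    rw [← B_mul_transpose_apply, ← mul_B_apply, H' i j hij]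
  -- `h` is diagonal
  have hoff : ∀ k i : n, k ≠ i → h k i = 0 := by
    intro k i hki
    obtain ⟨j, hji, hjk⟩ := h3 i k
    have := key i j k j hji.symm
    rw [if_neg hki, if_neg hjk.symm, if_pos rfl, if_neg hji] at this
    simpa using this.symm
  -- diagonal entries
  have hdiag : ∀ i j : n, i ≠ j → g j j = h i i := by
    intro i j hij
    have := key i j i j hij
    rw [if_pos rfl, if_neg hij, if_pos rfl, if_neg hij.symm] at this
    simpa using this
  have hgh : g * h = 1 := mul_eq_one_comm.1 hhg
  have hprod : ∀ i : n, h i i * g i i = 1 := by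
    intro i
    have := congrFun (congrFun hhg i) i
    rw [Matrix.mul_apply, Matrix.one_apply_eq] at this
    rw [← this]
    symm
    apply Finset.sum_eq_single i
    · intro b _ hb
      rw [hoff i b hb.symm, zero_mul]
    · intro hi
      exact absurd (Finset.mem_univ i) hi
  have hne : ∀ i : n, h i i ≠ 0 := by
    intro i h0
    have := hprod i
    rw [h0, zero_mul] at this
    exact zero_ne_one this
  -- `g` is diagonal
  have goff : ∀ k i : n, k ≠ i → g k i = 0 := by
    intro k i hki
    have := congrFun (congrFun hhg k) i
    rw [Matrix.mul_apply, Matrix.one_apply_ne hki] at this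
    have h2 : ∑ j, h k j * g j i = h k k * g k i := by
      apply Finset.sum_eq_single k
      · intro b _ hb
        rw [hoff k b hb.symm, zero_mul]
      · intro hk
        exact absurd (Finset.mem_univ k) hk
    rw [h2] at this
    rcases mul_eq_zero.1 this with h0 | h0
    · exact absurd h0 (hne k)
    · exact h0
  -- all diagonal entries agree
  have hall : ∀ i j : n, g i i = g j j := by
    intro i j
    by_cases hij : i = j
    · rw [hij]
    · obtain ⟨k, hki, hkj⟩ := h3 i j
      rw [hdiag k i hki, hdiag k j hkj]
  rcases isEmpty_or_nonempty n with hn | ⟨⟨i₀⟩⟩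
  · exact ⟨1, one_mul 1, by ext i; exact (hn.false i).elim⟩
  · obtain ⟨j₀, hj₀, -⟩ := h3 i₀ i₀
    refine ⟨g i₀ i₀, ?_, ?_⟩
    · have h1 := hdiag j₀ i₀ hj₀
      have h2 := hprod j₀
      rw [← h1, hall j₀ i₀] at h2
      exact h2
    · ext a b
      by_cases hab : a = b
      · subst hab
        rw [hall a i₀]
        simp
      · rw [goff a b hab]
        simp [hab]

end ExcKer

end Cfsg.Agent.Lib.Helper2
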