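import Mathlib
import Cfsg.Agent.Lib.Helper2.Exc6b
import Cfsg.Agent.Lib.Helper2.ExcKer
import Cfsg.Agent.Lib.Helper2.ExcIso2

set_option autoImplicit false

namespace Cfsg.Agent.Lib.Helper2

namespace Exc6

open Matrix

variable {F : Type*} [Field F]

theorem alt_coord_B (i j : Fin 4) : alt (coord (ExcKer.B F i j)) = ExcKer.B F i j := by
  fin_cases i <;> fin_cases j <;>
    (ext a b; fin_cases a <;> fin_cases b <;> simp [alt, coord, ExcKer.B, Matrix.single_apply])

theorem exists_third (i k : Fin 4) : ∃ j, j ≠ i ∧ j ≠ k := by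
  fin_cases i <;> fin_cases k <;> decide

/-- a matrix acting trivially on the second exterior power is `±1` -/
theorem scalar_of_Lam_eq_one (g h : Matrix (Fin 4) (Fin 4) F) (hhg : h * g = 1)
    (hL : Lam g = 1) : ∃ c : F, c * c = 1 ∧ g = Matrix.scalar (Fin 4) c := by
  have H : ∀ v : I6 → F, g * alt v * gᵀ = alt v := by
    intro v
    have h1 : Lam g *ᵥ v = v := by rw [hL, Matrix.one_mulVec]
    rw [Lam_mulVec] at h1
    rw [← alt_coord_conj, h1]
  apply ExcKer.scalar_of_conj_fix g h hhg _ exists_third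
  intro i j _
  rw [← alt_coord_B]
  exact H _

theorem Lam_scalar (c : F) (hc : c * c = 1) : Lam (Matrix.scalar (Fin 4) c) = 1 := by
  apply Matrix.toLin'.injective
  apply LinearMap.ext
  intro v
  rw [Matrix.toLin'_apply, Matrix.toLin'_apply, Matrix.one_mulVec, Lam_mulVec]
  have : Matrix.scalar (Fin 4) c * alt v * (Matrix.scalar (Fin 4) c)ᵀ = alt v := by
    rw [Matrix.scalar_apply, Matrix.diagonal_transpose]
    ext a b
    rw [Matrix.mul_diagonal, Matrix.diagonal_mul, mul_comm, ← mul_assoc, hc, one_mul]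
  rw [this, coord_alt]

/-- the image of `g ∈ SL₄` in `GL₆` -/
noncomputable def rhoGL (g : Matrix.SpecialLinearGroup (Fin 4) F) : Matrix.GeneralLinearGroup I6 F :=
  ⟨Lam g.1, Lam (g⁻¹).1,
    by rw [← Lam_mul, ← Matrix.SpecialLinearGroup.coe_mul, mul_inv_cancel,
      Matrix.SpecialLinearGroup.coe_one, Lam_one],
    by rw [← Lam_mul, ← Matrix.SpecialLinearGroup.coe_mul, inv_mul_cancel,
      Matrix.SpecialLinearGroup.coe_one, Lam_one]⟩

/-- the action of `SL₄` on the second exterior power, as a hom into `O⁺₆` -/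
noncomputable def rho : Matrix.SpecialLinearGroup (Fin 4) F →*
    ↥(Cfsg.isometryGroup F (Cfsg.quadFormPlus 3 F)) where
  toFun g := ⟨rhoGL g, by
    intro u _
    show Cfsg.quadFormPlus 3 F (Lam g.1 *ᵥ u) = Cfsg.quadFormPlus 3 F u
    rw [Q_Lam, g.det_coe, one_mul]⟩
  map_one' := Subtype.ext (Units.ext Lam_one)
  map_mul' g h := Subtype.ext (Units.ext (Lam_mul g.1 h.1))

theorem rho_coe (g : Matrix.SpecialLinearGroup (Fin 4) F) :
    (((rho g : ↥(Cfsg.isometryGroup F (Cfsg.quadFormPlus 3 F))) :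
      Matrix.GeneralLinearGroup I6 F) : Matrix I6 I6 F) = Lam g.1 := rfl

theorem rho_eq_one_iff (g : Matrix.SpecialLinearGroup (Fin 4) F) :
    rho g = 1 ↔ Lam g.1 = 1 := by
  constructor
  · intro h
    rw [← rho_coe, h]
    rfl
  · intro h
    apply Subtype.ext
    apply Units.ext
    exact h

theorem scalar_of_rho_eq_one (g : Matrix.SpecialLinearGroup (Fin 4) F) (h : rho g = 1) :
    ∃ c : F, c * c = 1 ∧ g.1 = Matrix.scalar (Fin 4) c := by
  rw [rho_eq_one_iff] at h
  refine scalar_of_Lam_eq_one g.1 (g⁻¹).1 ?_ h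
  rw [← Matrix.SpecialLinearGroup.coe_mul, inv_mul_cancel, Matrix.SpecialLinearGroup.coe_one]

theorem ker_le_center : (rho (F := F)).ker ≤ Subgroup.center (Matrix.SpecialLinearGroup (Fin 4) F) := by
  intro g hg
  obtain ⟨c, hc, hs⟩ := scalar_of_rho_eq_one g hg
  rw [Matrix.SpecialLinearGroup.mem_center_iff]
  refine ⟨c, ?_, hs.symm⟩
  rw [Fintype.card_fin]
  have : c ^ 4 = (c * c) * (c * c) := by ring
  rw [this, hc, one_mul]

end Exc6

end Cfsg.Agent.Lib.Helper2
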