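import Mathlib
import Cfsg.Agent.Lib.Helper2.Exc6c

set_option autoImplicit false

namespace Cfsg.Agent.Lib.Helper2

namespace Exc5

open Matrix Exc6

variable {F : Type*} [Field F]

/-- the index type of the five-dimensional form -/
abbrev I5 := Unit ⊕ (Fin 2 ⊕ Fin 2)

/-- the index type of symplectic `4 × 4` matrices -/
abbrev S4 := Fin 2 ⊕ Fin 2

/-- the identification of `Fin 4` with `Fin 2 ⊕ Fin 2` -/
def e4 : Fin 4 ≃ S4 where
  toFun := ![.inl 0, .inl 1, .inr 0, .inr 1]
  invFun := Sum.elim ![0, 1] ![2, 3]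
  left_inv := by intro i; fin_cases i <;> rfl
  right_inv := by intro i; rcases i with i | i <;> fin_cases i <;> rfl

/-- reindexing a symplectic-indexed matrix by `Fin 4` -/
def re (g : Matrix S4 S4 F) : Matrix (Fin 4) (Fin 4) F := g.submatrix e4 e4

theorem re_mul (g h : Matrix S4 S4 F) : re (g * h) = re g * re h :=
  (Matrix.submatrix_mul_equiv g h e4 e4 e4).symm

theorem re_one : re (1 : Matrix S4 S4 F) = 1 := Matrix.submatrix_one_equiv e4

theorem re_transpose (g : Matrix S4 S4 F) : re gᵀ = (re g)ᵀ := rfl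

theorem det_re (g : Matrix S4 S4 F) : (re g).det = g.det := Matrix.det_submatrix_equiv_self e4 g

theorem re_injective : Function.Injective (re (F := F)) := by
  intro g h hgh
  ext i j
  have := congrFun (congrFun hgh (e4.symm i)) (e4.symm j)
  simpa [re] using this

/-- Plücker coordinates of the symplectic form -/
def vJ : I6 → F := Sum.elim ![0, -1, 0] ![0, 1, 0]

theorem re_J : re (Matrix.J (Fin 2) F) = alt vJ := by
  ext i j
  fin_cases i <;> fin_cases j <;> simp [re, alt, vJ, Matrix.J, e4, Matrix.one_apply]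

/-- the inclusion of the five-dimensional space, on indices -/
def sg : I6 → I5 :=
  Sum.elim ![.inr (.inl 0), .inl (), .inr (.inl 1)] ![.inr (.inr 0), .inl (), .inr (.inr 1)]

/-- the projection to the five-dimensional space, on indices -/
def tu : I5 → I6 := Sum.elim (fun _ => .inl 1) (Sum.elim ![.inl 0, .inl 2] ![.inr 0, .inr 2])

theorem sg_tu (i : I5) : sg (tu i) = i := by
  rcases i with ⟨⟩ | i | i
  · rfl
  · fin_cases i <;> rfl
  · fin_cases i <;> rfl

/-- the hyperplane orthogonal to the symplectic form -/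
def InW (v : I6 → F) : Prop := v (.inl 1) = v (.inr 1)

theorem comp_sg_inW (u : I5 → F) : InW (u ∘ sg) := rfl

theorem comp_tu_sg (v : I6 → F) (hv : InW v) : (v ∘ tu) ∘ sg = v := by
  funext i
  rcases i with i | i <;> fin_cases i
  · rfl
  · rfl
  · rfl
  · rfl
  · exact hv
  · rfl

theorem comp_sg_tu (u : I5 → F) : (u ∘ sg) ∘ tu = u := by
  funext i
  show u (sg (tu i)) = u i
  rw [sg_tu]

theorem Q_comp_sg (u : I5 → F) :
    Cfsg.quadFormPlus 3 F (u ∘ sg) = Cfsg.quadFormOdd 2 F u := by
  unfold Cfsg.quadFormPlus Cfsg.quadFormOdd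
  rw [Fin.sum_univ_three, Fin.sum_univ_two]
  simp only [Function.comp_apply, sg, Sum.elim_inl, Sum.elim_inr, Matrix.cons_val_zero,
    Matrix.cons_val_one, Matrix.cons_val_two, Matrix.head_cons, Matrix.tail_cons]
  ring

/-- the polar form of the six-dimensional plus form -/
def bil (v w : I6 → F) : F := ∑ i : Fin 3, (v (.inl i) * w (.inr i) + w (.inl i) * v (.inr i))

theorem Q_add (v w : I6 → F) :
    Cfsg.quadFormPlus 3 F (v + w) = Cfsg.quadFormPlus 3 F v + Cfsg.quadFormPlus 3 F w + bil v w := by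
  unfold Cfsg.quadFormPlus bil
  simp only [Fin.sum_univ_three, Pi.add_apply]
  ring

theorem bil_vJ (v : I6 → F) : bil v vJ = v (.inl 1) - v (.inr 1) := by
  unfold bil
  simp only [Fin.sum_univ_three, vJ, Sum.elim_inl, Sum.elim_inr, Matrix.cons_val_zero,
    Matrix.cons_val_one, Matrix.cons_val_two, Matrix.head_cons, Matrix.tail_cons]
  ring

theorem inW_iff (v : I6 → F) : InW v ↔ bil v vJ = 0 := by
  rw [bil_vJ, sub_eq_zero]
  rfl

end Exc5

end Cfsg.Agent.Lib.Helper2
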