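import Mathlib
import Cfsg.Agent.Lib.Helper2.Exc5a

set_option autoImplicit false

namespace Cfsg.Agent.Lib.Helper2

namespace Exc5

open Matrix Exc6

variable {F : Type*} [Field F]

/-- matrix of the inclusion -/
def EM : Matrix I6 I5 F := Matrix.of fun i j => if sg i = j then 1 else 0

/-- matrix of the projection -/
def PM : Matrix I5 I6 F := Matrix.of fun i j => if tu i = j then 1 else 0

theorem EM_mulVec (u : I5 → F) : (EM : Matrix I6 I5 F) *ᵥ u = u ∘ sg := by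
  funext i
  simp [EM, Matrix.mulVec, dotProduct]

theorem PM_mulVec (v : I6 → F) : (PM : Matrix I5 I6 F) *ᵥ v = v ∘ tu := by
  funext i
  simp [PM, Matrix.mulVec, dotProduct]

/-- the five-dimensional representation -/
noncomputable def R5 (g : Matrix S4 S4 F) : Matrix I5 I5 F :=
  (PM : Matrix I5 I6 F) * Lam (re g) * (EM : Matrix I6 I5 F)

theorem R5_mulVec (g : Matrix S4 S4 F) (u : I5 → F) :
    R5 g *ᵥ u = (Lam (re g) *ᵥ (u ∘ sg)) ∘ tu := by
  unfold R5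
  rw [← Matrix.mulVec_mulVec, ← Matrix.mulVec_mulVec, EM_mulVec, PM_mulVec]

theorem Lam_vJ (g : Matrix S4 S4 F) (hg : g ∈ Matrix.symplecticGroup (Fin 2) F) :
    Lam (re g) *ᵥ vJ = vJ := by
  rw [Lam_mulVec, ← re_J, ← re_transpose, ← re_mul, ← re_mul,
    (SymplecticGroup.mem_iff).1 hg, re_J, coord_alt]

theorem Q_Lam_re (g : Matrix S4 S4 F) (hg : g ∈ Matrix.symplecticGroup (Fin 2) F) (v : I6 → F) :
    Cfsg.quadFormPlus 3 F (Lam (re g) *ᵥ v) = Cfsg.quadFormPlus 3 F v := by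
  rw [Q_Lam, det_re, SymplecticGroup.det_eq_one hg, one_mul]

theorem bil_Lam_re (g : Matrix S4 S4 F) (hg : g ∈ Matrix.symplecticGroup (Fin 2) F) (v w : I6 → F) :
    bil (Lam (re g) *ᵥ v) (Lam (re g) *ᵥ w) = bil v w := by
  have h1 := Q_add (Lam (re g) *ᵥ v) (Lam (re g) *ᵥ w)
  rw [← Matrix.mulVec_add, Q_Lam_re g hg, Q_Lam_re g hg, Q_Lam_re g hg, Q_add] at h1
  exact (add_left_cancel h1).symm

theorem inW_Lam (g : Matrix S4 S4 F) (hg : g ∈ Matrix.symplecticGroup (Fin 2) F) (v : I6 → F)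
    (hv : InW v) : InW (Lam (re g) *ᵥ v) := by
  rw [inW_iff] at hv ⊢
  rw [← hv]
  conv_lhs => rw [← Lam_vJ g hg]
  exact bil_Lam_re g hg v vJ

theorem R5_mul (g h : Matrix S4 S4 F) (hh : h ∈ Matrix.symplecticGroup (Fin 2) F) :
    R5 (g * h) = R5 g * R5 h := by
  apply Matrix.toLin'.injective
  apply LinearMap.ext
  intro u
  rw [Matrix.toLin'_apply, Matrix.toLin'_apply, ← Matrix.mulVec_mulVec, R5_mulVec, R5_mulVec,
    R5_mulVec, re_mul, Lam_mul, ← Matrix.mulVec_mulVec,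
    comp_tu_sg _ (inW_Lam h hh _ (comp_sg_inW u))]

theorem R5_one : R5 (1 : Matrix S4 S4 F) = 1 := by
  apply Matrix.toLin'.injective
  apply LinearMap.ext
  intro u
  rw [Matrix.toLin'_apply, Matrix.toLin'_apply, R5_mulVec, re_one, Lam_one, Matrix.one_mulVec,
    Matrix.one_mulVec, comp_sg_tu]

theorem Q_R5 (g : Matrix S4 S4 F) (hg : g ∈ Matrix.symplecticGroup (Fin 2) F) (u : I5 → F) :
    Cfsg.quadFormOdd 2 F (R5 g *ᵥ u) = Cfsg.quadFormOdd 2 F u := by
  rw [R5_mulVec, ← Q_comp_sg, comp_tu_sg _ (inW_Lam g hg _ (comp_sg_inW u)), Q_Lam_re g hg,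
    Q_comp_sg]

/-- the image of `g ∈ Sp₄` in `GL₅` -/
noncomputable def rhoGL (g : Matrix.symplecticGroup (Fin 2) F) : Matrix.GeneralLinearGroup I5 F :=
  ⟨R5 g.1, R5 (g⁻¹).1,
    by rw [← R5_mul _ _ (g⁻¹).2, ← Submonoid.coe_mul, mul_inv_cancel, Submonoid.coe_one, R5_one],
    by rw [← R5_mul _ _ g.2, ← Submonoid.coe_mul, inv_mul_cancel, Submonoid.coe_one, R5_one]⟩

/-- the action of `Sp₄` on the five-dimensional space, as a hom into `O₅` -/
noncomputable def rho : Matrix.symplecticGroup (Fin 2) F →*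
    ↥(Cfsg.isometryGroup F (Cfsg.quadFormOdd 2 F)) where
  toFun g := ⟨rhoGL g, by
    intro u _
    show Cfsg.quadFormOdd 2 F (R5 g.1 *ᵥ u) = Cfsg.quadFormOdd 2 F u
    exact Q_R5 g.1 g.2 u⟩
  map_one' := Subtype.ext (Units.ext R5_one)
  map_mul' g h := Subtype.ext (Units.ext (R5_mul g.1 h.1 h.2))

theorem rho_coe (g : Matrix.symplecticGroup (Fin 2) F) :
    (((rho g : ↥(Cfsg.isometryGroup F (Cfsg.quadFormOdd 2 F))) :
      Matrix.GeneralLinearGroup I5 F) : Matrix I5 I5 F) = R5 g.1 := rfl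

theorem rho_eq_one_iff (g : Matrix.symplecticGroup (Fin 2) F) :
    rho g = 1 ↔ R5 g.1 = 1 := by
  constructor
  · intro h
    rw [← rho_coe, h]
    rfl
  · intro h
    apply Subtype.ext
    apply Units.ext
    exact h

end Exc5

end Cfsg.Agent.Lib.Helper2
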