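import Mathlib
import Cfsg.Agent.Lib.Helper2.Exc5b

set_option autoImplicit false

namespace Cfsg.Agent.Lib.Helper2

namespace Exc5

open Matrix Exc6

variable {F : Type*} [Field F]

theorem Lam_fix_of_R5 (g : Matrix S4 S4 F) (hg : g ∈ Matrix.symplecticGroup (Fin 2) F)
    (h : R5 g = 1) (w : I6 → F) (hw : InW w) : Lam (re g) *ᵥ w = w := by
  have h1 : (Lam (re g) *ᵥ w) ∘ tu = w ∘ tu := by
    have := R5_mulVec g (w ∘ tu)
    rw [h, Matrix.one_mulVec, comp_tu_sg w hw] at this
    exact this.symm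
  rw [← comp_tu_sg _ (inW_Lam g hg w hw), h1, comp_tu_sg w hw]

theorem Lam_eq_one_of_R5 (h2 : (2 : F) ≠ 0) (g : Matrix S4 S4 F)
    (hg : g ∈ Matrix.symplecticGroup (Fin 2) F) (h : R5 g = 1) : Lam (re g) = 1 := by
  apply Matrix.toLin'.injective
  apply LinearMap.ext
  intro v
  rw [Matrix.toLin'_apply, Matrix.toLin'_apply, Matrix.one_mulVec]
  obtain ⟨c, hc⟩ : ∃ c : F, c = (v (.inr 1) - v (.inl 1)) / 2 := ⟨_, rfl⟩
  have hw : InW (v - c • vJ) := by
    unfold InW
    simp only [Pi.sub_apply, Pi.smul_apply, vJ, Sum.elim_inl, Sum.elim_inr, Matrix.cons_val_one,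
      Matrix.cons_val_zero, Matrix.head_cons, Matrix.tail_cons, smul_eq_mul]
    rw [hc]
    field_simp
    ring
  have h3 := Lam_fix_of_R5 g hg h _ hw
  have h4 : v = (v - c • vJ) + c • vJ := by abel
  conv_lhs => rw [h4]
  rw [Matrix.mulVec_add, Matrix.mulVec_smul, h3, Lam_vJ g hg]
  abel

theorem re_scalar (c : F) : re (Matrix.scalar S4 c) = Matrix.scalar (Fin 4) c := by
  ext i j
  simp [re, Matrix.diagonal_apply]

/-- a symplectic matrix acting trivially on the five-dimensional space is `±1` -/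
theorem scalar_of_R5_eq_one (h2 : (2 : F) ≠ 0) (g : Matrix.symplecticGroup (Fin 2) F)
    (h : R5 g.1 = 1) : ∃ c : F, c * c = 1 ∧ g.1 = Matrix.scalar S4 c := by
  have hL := Lam_eq_one_of_R5 h2 g.1 g.2 h
  have hinv : re (g⁻¹).1 * re g.1 = 1 := by
    rw [← re_mul, ← Submonoid.coe_mul, inv_mul_cancel, Submonoid.coe_one, re_one]
  obtain ⟨c, hc, hs⟩ := scalar_of_Lam_eq_one (re g.1) (re (g⁻¹).1) hinv hL
  refine ⟨c, hc, ?_⟩
  apply re_injective
  rw [hs, re_scalar]

theorem ker_le_center (h2 : (2 : F) ≠ 0) :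
    (rho (F := F)).ker ≤ Subgroup.center (Matrix.symplecticGroup (Fin 2) F) := by
  intro g hg
  rw [MonoidHom.mem_ker, rho_eq_one_iff] at hg
  obtain ⟨c, -, hs⟩ := scalar_of_R5_eq_one h2 g hg
  rw [Subgroup.mem_center_iff]
  intro h
  apply Subtype.ext
  rw [Submonoid.coe_mul, Submonoid.coe_mul, hs]
  exact (Matrix.scalar_commute c (fun _ => Commute.all _ _) h.1).eq.symm

/-- the scalar `-1` in `Sp₄` -/
def negOneSp : Matrix.symplecticGroup (Fin 2) F :=
  ⟨-1, SymplecticGroup.neg_mem (Submonoid.one_mem _)⟩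

theorem R5_neg_one : R5 (-1 : Matrix S4 S4 F) = 1 := by
  have h1 : (-1 : Matrix S4 S4 F) = Matrix.scalar S4 (-1) := by
    ext i j
    simp only [Matrix.neg_apply, Matrix.one_apply, Matrix.scalar_apply, Matrix.diagonal_apply]
    split_ifs <;> simp
  have h3 : R5 (-1 : Matrix S4 S4 F) = R5 1 := by
    unfold R5
    rw [h1, re_scalar, Lam_scalar (-1) (by ring), re_one, Lam_one]
  rw [h3, R5_one]

/-- the kernel has two elements in odd characteristic -/
theorem card_ker (h2 : (2 : F) ≠ 0) : Nat.card ↥(rho (F := F)).ker = 2 := by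
  rw [Nat.card_eq_two_iff]
  have hm1 : (negOneSp : Matrix.symplecticGroup (Fin 2) F) ∈ (rho (F := F)).ker := by
    rw [MonoidHom.mem_ker, rho_eq_one_iff]
    exact R5_neg_one
  refine ⟨1, ⟨negOneSp, hm1⟩, ?_, ?_⟩
  · intro h
    have h1 := congrArg (fun x : ↥(rho (F := F)).ker =>
      (x : Matrix.symplecticGroup (Fin 2) F).1 (.inl 0) (.inl 0)) h
    simp only [OneMemClass.coe_one, Matrix.one_apply_eq, negOneSp, Matrix.neg_apply] at h1
    apply h2
    have : (2 : F) = 1 + 1 := by norm_num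
    rw [this]
    nth_rewrite 1 [h1]
    ring
  · ext ⟨z, hz⟩
    simp only [Set.mem_insert_iff, Set.mem_singleton_iff, Set.mem_univ, iff_true]
    rw [MonoidHom.mem_ker, rho_eq_one_iff] at hz
    obtain ⟨r, hr, hg⟩ := scalar_of_R5_eq_one h2 z hz
    have hr' : r = 1 ∨ r = -1 := by
      have : (r - 1) * (r + 1) = 0 := by ring_nf; rw [← pow_two] at *; rw [← hr]; ring
      rcases mul_eq_zero.1 this with h | h
      · left; exact sub_eq_zero.1 h
      · right; exact eq_neg_of_add_eq_zero_left h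
    rcases hr' with rfl | rfl
    · left
      apply Subtype.ext
      apply Subtype.ext
      rw [hg]
      simp
    · right
      apply Subtype.ext
      apply Subtype.ext
      rw [hg]
      ext i j
      simp only [negOneSp, Matrix.neg_apply, Matrix.one_apply, Matrix.scalar_apply,
        Matrix.diagonal_apply]
      split_ifs <;> simp

end Exc5

end Cfsg.Agent.Lib.Helper2
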