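import Mathlib
import Cfsg.Agent.Lib.Helper2.Exc5c
import Cfsg.Agent.Lib.Helper2.ExcIso3
import Cfsg.Agent.Lib.Helper2.OrthCard4
import Cfsg.Agent.S0245
import Cfsg.Agent.S0269

set_option autoImplicit false

namespace Cfsg.Agent.Lib.Helper2

namespace Exc5

open Matrix

variable {F : Type*} [Field F] [Fintype F]

theorem index_Omega (h2 : (2 : F) ≠ 0) :
    (Cfsg.Omega F (Cfsg.quadFormOdd 2 F)).index = 4 := by
  classical
  rw [← OrthCard.QOd_coe]
  exact CentO.index_odd h2 (OrthCard.QOd_nondeg h2 2) (by simp)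

theorem Sp4_perfect (hF : 3 ≤ Fintype.card F) :
    commutator (Matrix.symplecticGroup (Fin 2) F) = ⊤ :=
  Cfsg.Agent.S0269.result 2 (Or.inr (Or.inl ⟨rfl, hF⟩))

theorem range_rho (h2 : (2 : F) ≠ 0) (hodd : Odd (Fintype.card F)) :
    (rho (F := F)).range = Cfsg.Omega F (Cfsg.quadFormOdd 2 F) := by
  have hF : 3 ≤ Fintype.card F := by
    have h1 : 1 < Fintype.card F := Fintype.one_lt_card
    rcases hodd with ⟨k, hk⟩
    omega
  apply ExcIso.range_eq_of_card
  · rintro _ ⟨g, rfl⟩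
    exact ExcIso.map_mem_commutator_of_perfect (Sp4_perfect hF) rho g
  · rw [card_ker h2, Cfsg.Agent.S0245.result (F := F) rfl 2]
    have h1 := Subgroup.card_mul_index (Cfsg.Omega F (Cfsg.quadFormOdd 2 F))
    rw [index_Omega h2, OrthCard.card_odd h2 hodd 2] at h1
    have h3 : 2 * (2 * Nat.card ↥(Cfsg.Omega F (Cfsg.quadFormOdd 2 F))) =
        2 * (Fintype.card F ^ (2 ^ 2) *
          ∏ i ∈ Finset.range 2, (Fintype.card F ^ (2 * (i + 1)) - 1)) := by
      rw [← mul_assoc, show 2 * 2 = 4 from rfl, mul_comm 4, h1]; ring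
    exact (Nat.eq_of_mul_eq_mul_left (by norm_num) h3).symm

theorem main (hodd : Odd (Fintype.card F)) :
    Nonempty (Cfsg.POmega F (Cfsg.quadFormOdd 2 F) ≃* Cfsg.PSp 2 F) := by
  have h2 : (2 : F) ≠ 0 := by
    intro h
    have hch : ringChar F = 2 :=
      CharP.ringChar_of_prime_eq_zero Nat.prime_two (by exact_mod_cast h)
    have := FiniteField.even_card_of_char_two hch
    rw [Nat.odd_iff] at hodd
    omega
  have hF : 3 ≤ Fintype.card F := by
    have h1 : 1 < Fintype.card F := Fintype.one_lt_card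
    rcases hodd with ⟨k, hk⟩
    omega
  refine ExcIso.quotient_center_equiv (Cfsg.Omega F (Cfsg.quadFormOdd 2 F)) rho
    (range_rho h2 hodd) (QuotientGroup.mk' (Subgroup.center (Matrix.symplecticGroup (Fin 2) F)))
    (QuotientGroup.mk'_surjective _) (fun g => ?_)
  rw [QuotientGroup.ker_mk']
  exact ExcIso.center_iff_of_perfect (Sp4_perfect hF) rho (ker_le_center h2) g

end Exc5

end Cfsg.Agent.Lib.Helper2
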