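import Mathlib
import Cfsg.Agent.Lib.Helper2.Exc6c
import Cfsg.Agent.Lib.Helper2.OrthCard4
import Cfsg.Agent.Lib.Helper2.QuadStd
import Cfsg.Agent.Lib.Helper1.SLCard

set_option autoImplicit false

namespace Cfsg.Agent.Lib.Helper2

namespace Exc6

open Matrix

variable {F : Type*} [Field F]

/-- the scalar `-1` in `SL₄` -/
def negOne4 : Matrix.SpecialLinearGroup (Fin 4) F :=
  ⟨Matrix.scalar (Fin 4) (-1), by
    rw [Matrix.scalar_apply, Matrix.det_diagonal, Finset.prod_const, Finset.card_univ,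
      Fintype.card_fin]
    norm_num⟩

theorem negOne4_coe : (negOne4 : Matrix.SpecialLinearGroup (Fin 4) F).1 = Matrix.scalar (Fin 4) (-1) :=
  rfl

/-- the kernel has two elements in odd characteristic -/
theorem card_ker_odd (h2 : (2 : F) ≠ 0) : Nat.card ↥(rho (F := F)).ker = 2 := by
  rw [Nat.card_eq_two_iff]
  have hm1 : (negOne4 : Matrix.SpecialLinearGroup (Fin 4) F) ∈ (rho (F := F)).ker := by
    rw [MonoidHom.mem_ker, rho_eq_one_iff, negOne4_coe]
    exact Lam_scalar (-1) (by ring)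
  refine ⟨1, ⟨negOne4, hm1⟩, ?_, ?_⟩
  · intro h
    have h1 := congrArg (fun x : ↥(rho (F := F)).ker =>
      (x : Matrix.SpecialLinearGroup (Fin 4) F).1 0 0) h
    simp only [OneMemClass.coe_one, Matrix.SpecialLinearGroup.coe_one, Matrix.one_apply_eq,
      negOne4_coe, Matrix.scalar_apply, Matrix.diagonal_apply_eq] at h1
    apply h2
    have : (2 : F) = 1 + 1 := by norm_num
    rw [this]
    nth_rewrite 1 [h1]
    ring
  · ext ⟨z, hz⟩
    simp only [Set.mem_insert_iff, Set.mem_singleton_iff, Set.mem_univ, iff_true]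
    obtain ⟨r, hr, hg⟩ := scalar_of_rho_eq_one z hz
    have hr' : r = 1 ∨ r = -1 := by
      have : (r - 1) * (r + 1) = 0 := by ring_nf; rw [← pow_two] at *; rw [← hr]; ring
      rcases mul_eq_zero.1 this with h | h
      · left; exact sub_eq_zero.1 h
      · right; exact eq_neg_of_add_eq_zero_left h
    rcases hr' with rfl | rfl
    · left
      apply Subtype.ext
      apply Subtype.ext
      rw [hg]
      simp
    · right
      apply Subtype.ext
      apply Subtype.ext
      rw [hg]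
      rfl

/-- the kernel is trivial in characteristic two -/
theorem card_ker_even (h2 : (2 : F) = 0) : Nat.card ↥(rho (F := F)).ker = 1 := by
  have : (rho (F := F)).ker = ⊥ := by
    rw [eq_bot_iff]
    intro z hz
    obtain ⟨r, hr, hg⟩ := scalar_of_rho_eq_one z hz
    have hr1 : r = 1 := by
      have h3 : (r - 1) ^ 2 = 0 := by
        have : (r - 1) ^ 2 = r * r - 2 * r + 1 := by ring
        rw [this, hr, h2]; ring_nf
        exact h2
      have := pow_eq_zero_iff (two_ne_zero) |>.1 h3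
      exact sub_eq_zero.1 this
    rw [Subgroup.mem_bot]
    apply Subtype.ext
    rw [hg, hr1]
    simp
  rw [this]
  exact Subgroup.card_bot

variable [Fintype F]

theorem index_Omega_odd (h2 : (2 : F) ≠ 0) :
    (Cfsg.Omega F (Cfsg.quadFormPlus 3 F)).index = 4 := by
  classical
  rw [← QuadStd.QP_coe]
  exact CentO.index_odd h2 (QuadStd.QP_nondeg 3) (by simp)

theorem index_Omega_even (h2 : (2 : F) = 0) :
    (Cfsg.Omega F (Cfsg.quadFormPlus 3 F)).index = 2 := by
  classical
  rw [← QuadStd.QP_coe]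
  exact CentO.index_two h2 (QuadStd.QP_nondeg 3) (Or.inr (by simp)) (by simp)

theorem card_O : Nat.card ↥(Cfsg.isometryGroup F (Cfsg.quadFormPlus 3 F)) =
    2 * Fintype.card F ^ 6 * (Fintype.card F ^ 3 - 1) *
      ((Fintype.card F ^ 2 - 1) * (Fintype.card F ^ 4 - 1)) := by
  have h := OrthCard.card_plus (F := F) 2
  rw [h, Finset.prod_range_succ, Finset.prod_range_one]

theorem card_SL4 : Nat.card (Matrix.SpecialLinearGroup (Fin 4) F) =
    Fintype.card F ^ 6 * (Fintype.card F ^ 3 - 1) *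
      ((Fintype.card F ^ 2 - 1) * (Fintype.card F ^ 4 - 1)) := by
  have h := Cfsg.Agent.Lib.Helper1.card_SL_field (F := F) 4 (by norm_num)
  have hq : 1 < Fintype.card F := Fintype.one_lt_card
  obtain ⟨q, hq'⟩ : ∃ q, q = Fintype.card F := ⟨_, rfl⟩
  rw [← hq'] at h hq ⊢
  simp only [Fin.prod_univ_four, Fin.val_zero, Fin.val_one, Fin.val_two, pow_zero] at h
  have hv3 : ((3 : Fin 4) : ℕ) = 3 := rfl
  rw [hv3] at h
  have e1 : q ^ 4 - q ^ 1 = q * (q ^ 3 - 1) := by
    rw [Nat.mul_sub, mul_one, ← pow_succ', pow_one]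
  have e2 : q ^ 4 - q ^ 2 = q ^ 2 * (q ^ 2 - 1) := by
    rw [Nat.mul_sub, mul_one, ← pow_add]
  have e3 : q ^ 4 - q ^ 3 = q ^ 3 * (q - 1) := by
    rw [Nat.mul_sub, mul_one, ← pow_succ]
  rw [e1, e2, e3] at h
  have hpos : 0 < q - 1 := by omega
  apply Nat.eq_of_mul_eq_mul_left hpos
  rw [h]
  ring

end Exc6

end Cfsg.Agent.Lib.Helper2
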