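import Mathlib
import Cfsg.Agent.Lib.Helper2.Exc6d
import Cfsg.Agent.Lib.Helper2.ExcIso3

set_option autoImplicit false

namespace Cfsg.Agent.Lib.Helper2

namespace Exc6

open Matrix

variable {F : Type*} [Field F] [Fintype F]

theorem SL4_perfect : commutator (Matrix.SpecialLinearGroup (Fin 4) F) = ⊤ :=
  Cfsg.Agent.Lib.Helper1.commutator_SL_eq_top 4 (by norm_num)

theorem range_rho : (rho (F := F)).range = Cfsg.Omega F (Cfsg.quadFormPlus 3 F) := by
  apply ExcIso.range_eq_of_card
  · rintro _ ⟨g, rfl⟩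
    exact ExcIso.map_mem_commutator_of_perfect SL4_perfect rho g
  · rw [card_SL4]
    have h1 := Subgroup.card_mul_index (Cfsg.Omega F (Cfsg.quadFormPlus 3 F))
    rw [card_O] at h1
    by_cases h2 : (2 : F) = 0
    · rw [card_ker_even h2, one_mul]
      rw [index_Omega_even h2] at h1
      have h3 : 2 * Nat.card ↥(Cfsg.Omega F (Cfsg.quadFormPlus 3 F)) =
          2 * (Fintype.card F ^ 6 * (Fintype.card F ^ 3 - 1) *
            ((Fintype.card F ^ 2 - 1) * (Fintype.card F ^ 4 - 1))) := by
        rw [mul_comm 2, h1]; ring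
      exact (Nat.eq_of_mul_eq_mul_left (by norm_num) h3).symm
    · rw [card_ker_odd h2]
      rw [index_Omega_odd h2] at h1
      have h3 : 2 * (2 * Nat.card ↥(Cfsg.Omega F (Cfsg.quadFormPlus 3 F))) =
          2 * (Fintype.card F ^ 6 * (Fintype.card F ^ 3 - 1) *
            ((Fintype.card F ^ 2 - 1) * (Fintype.card F ^ 4 - 1))) := by
        rw [← mul_assoc, show 2 * 2 = 4 from rfl, mul_comm 4, h1]; ring
      exact (Nat.eq_of_mul_eq_mul_left (by norm_num) h3).symm

theorem main : Nonempty (Cfsg.POmega F (Cfsg.quadFormPlus 3 F) ≃*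
    Matrix.ProjectiveSpecialLinearGroup (Fin 4) F) := by
  refine ExcIso.quotient_center_equiv (Cfsg.Omega F (Cfsg.quadFormPlus 3 F)) rho
    range_rho (QuotientGroup.mk' (Subgroup.center (Matrix.SpecialLinearGroup (Fin 4) F)))
    (QuotientGroup.mk'_surjective _) (fun g => ?_)
  rw [QuotientGroup.ker_mk']
  exact ExcIso.center_iff_of_perfect SL4_perfect rho ker_le_center g

end Exc6

end Cfsg.Agent.Lib.Helper2
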