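import Mathlib
import Cfsg.Agent.Lib.Helper2.Exc6b

set_option autoImplicit false

namespace Cfsg.Agent.Lib.Helper2

namespace Exc6m

open Matrix Exc6

variable {F : Type*} [Field F]

/-- the Hodge dual on Plücker coordinates -/
def dual (v : I6 → F) : I6 → F := Sum.elim (fun i => v (.inr i)) (fun i => v (.inl i))

theorem dual_dual (v : I6 → F) : dual (dual v) = v := by
  funext i
  rcases i with i | i <;> rfl

theorem alt_dual_entry (v : I6 → F) :
    alt (dual v) = !![0, v (.inr 0), v (.inr 1), v (.inr 2);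
     - v (.inr 0), 0, v (.inl 2), - v (.inl 1);
     - v (.inr 1), - v (.inl 2), 0, v (.inl 0);
     - v (.inr 2), v (.inl 1), - v (.inl 0), 0] := rfl

set_option maxHeartbeats 1600000 in
/-- the key identity: the Hodge dual intertwines `g` and `g⁻ᵀ` up to the determinant -/
theorem dual_conj (g : Matrix (Fin 4) (Fin 4) F) (v : I6 → F) :
    gᵀ * alt (dual (coord (g * alt v * gᵀ))) * g = g.det • alt (dual v) := by
  rw [det4, alt_dual_entry, alt_dual_entry]
  obtain ⟨h1, h2, h3, h4, h5, h6⟩ := coord_apply (g * alt v * gᵀ)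
  rw [h1, h2, h3, h4, h5, h6]
  simp only [conj_entry]
  ext i j
  fin_cases i <;> fin_cases j <;>
    (simp [Matrix.mul_apply, Fin.sum_univ_four]; ring)

end Exc6m

end Cfsg.Agent.Lib.Helper2
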