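import Mathlib
import Cfsg.Agent.Lib.Helper2.Exc6ma

set_option autoImplicit false

namespace Cfsg.Agent.Lib.Helper2

namespace Exc6m

open Matrix Exc6

variable {K : Type*} [Field K] (σ : K →+* K)

/-- apply `σ` to all coordinates -/
def sig (v : I6 → K) : I6 → K := fun i => σ (v i)

/-- the semilinear involution whose fixed points carry the minus-type form -/
def J (v : I6 → K) : I6 → K := dual (sig σ v)

theorem alt_sig (v : I6 → K) : alt (sig σ v) = (alt v).map σ := by
  ext i j
  fin_cases i <;> fin_cases j <;> simp [alt, sig]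

theorem coord_map (P : Matrix (Fin 4) (Fin 4) K) : coord (P.map σ) = sig σ (coord P) := by
  funext i
  rcases i with i | i <;> fin_cases i <;> simp [coord, sig]

theorem Lam_map_sig (g : Matrix (Fin 4) (Fin 4) K) (v : I6 → K) :
    Lam (g.map σ) *ᵥ sig σ v = sig σ (Lam g *ᵥ v) := by
  rw [Lam_mulVec, Lam_mulVec, alt_sig, ← Matrix.transpose_map, ← Matrix.map_mul,
    ← Matrix.map_mul, coord_map]

theorem dual_Lam (g : Matrix (Fin 4) (Fin 4) K) (hg : gᵀ * g.map σ = 1) (hd : g.det = 1)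
    (v : I6 → K) : dual (Lam g *ᵥ v) = Lam (g.map σ) *ᵥ dual v := by
  have h1 := dual_conj g v
  rw [hd, one_smul] at h1
  have hg' : g.map σ * gᵀ = 1 := mul_eq_one_comm.1 hg
  have hg'' : g * (g.map σ)ᵀ = 1 := by
    have := congrArg Matrix.transpose hg'
    rw [Matrix.transpose_mul, Matrix.transpose_transpose, Matrix.transpose_one] at this
    exact this
  have h2 : alt (dual (coord (g * alt v * gᵀ))) = g.map σ * alt (dual v) * (g.map σ)ᵀ := by
    rw [← h1]
    calc alt (dual (coord (g * alt v * gᵀ)))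
        = (g.map σ * gᵀ) * alt (dual (coord (g * alt v * gᵀ))) * (g * (g.map σ)ᵀ) := by
          rw [hg', hg'', Matrix.one_mul, Matrix.mul_one]
      _ = g.map σ * (gᵀ * alt (dual (coord (g * alt v * gᵀ))) * g) * (g.map σ)ᵀ := by
          simp only [Matrix.mul_assoc]
  rw [Lam_mulVec, Lam_mulVec, ← h2, coord_alt]

theorem Lam_J (g : Matrix (Fin 4) (Fin 4) K) (hg : gᵀ * g.map σ = 1) (hd : g.det = 1)
    (v : I6 → K) : Lam g *ᵥ J σ v = J σ (Lam g *ᵥ v) := by
  have h1 := dual_Lam σ g hg hd (J σ v)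
  unfold J at h1 ⊢
  rw [dual_dual, Lam_map_sig] at h1
  rw [← h1, dual_dual]

/-- the parametrisation of the fixed space of `J` -/
def iota (w : Fin 3 → K) : I6 → K := Sum.elim w (fun i => σ (w i))

theorem J_iota (hσ : ∀ x, σ (σ x) = x) (w : Fin 3 → K) : J σ (iota σ w) = iota σ w := by
  funext i
  rcases i with i | i
  · show σ (σ (w i)) = w i
    exact hσ _
  · rfl

theorem eq_iota_of_J (v : I6 → K) (hv : J σ v = v) : v = iota σ (fun i => v (.inl i)) := by
  funext i
  rcases i with i | i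
  · rfl
  · have := congrFun hv (.inr i)
    rw [← this]
    rfl

theorem Lam_iota (hσ : ∀ x, σ (σ x) = x) (g : Matrix (Fin 4) (Fin 4) K)
    (hg : gᵀ * g.map σ = 1) (hd : g.det = 1) (w : Fin 3 → K) :
    Lam g *ᵥ iota σ w = iota σ (fun i => (Lam g *ᵥ iota σ w) (.inl i)) := by
  apply eq_iota_of_J
  rw [← Lam_J σ g hg hd, J_iota σ hσ]

theorem quadFormPlus_iota (w : Fin 3 → K) :
    Cfsg.quadFormPlus 3 K (iota σ w) = ∑ i, w i * σ (w i) := rfl

end Exc6m

end Cfsg.Agent.Lib.Helper2
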