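import Mathlib
import Cfsg.Agent.Lib.Helper2.Exc6mb
import Cfsg.Agent.Lib.Helper5.HermQuad3

set_option autoImplicit false
set_option linter.unusedSectionVars false

namespace Cfsg.Agent.Lib.Helper2

namespace Exc6m

open Matrix Exc6 Cfsg.Agent.Lib.Helper5.HermQuad Cfsg.Agent.Lib.Helper5.HermRes

variable (F K : Type*) [Field F] [Fintype F] [Field K] [Fintype K] [Algebra F K]

/-- the Frobenius `x ↦ x ^ |F|` as a ring hom -/
noncomputable def frob : K →+* K := (FiniteField.frobeniusAlgHom F K : K →ₐ[F] K).toRingHom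

variable {F K}

theorem frob_apply (x : K) : frob F K x = x ^ Fintype.card F := rfl

theorem frob_frob (hK : Fintype.card K = Fintype.card F ^ 2) (x : K) :
    frob F K (frob F K x) = x :=
  pow_card_pow_card hK x

theorem frob_algebraMap (c : F) : frob F K (algebraMap F K c) = algebraMap F K c :=
  pow_card_algebraMap c

/-- the matrix form of unitarity -/
theorem SU_matrix (g : Matrix.SpecialLinearGroup (Fin 4) K)
    (hg : g ∈ Cfsg.SU 4 K (Fintype.card F)) :
    (g.1)ᵀ * (g.1).map (frob F K) = 1 := by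
  ext a b
  have h1 := hg (Pi.single a 1) (Pi.single b 1)
  change Cfsg.hermForm 4 K (Fintype.card F) (g.1 *ᵥ Pi.single a 1) (g.1 *ᵥ Pi.single b 1) =
    Cfsg.hermForm 4 K (Fintype.card F) (Pi.single a 1) (Pi.single b 1) at h1
  unfold Cfsg.hermForm at h1
  rw [Matrix.mul_apply]
  simp only [Matrix.mulVec_single_one, Matrix.col_apply] at h1
  simp only [Matrix.transpose_apply, Matrix.map_apply, frob_apply]
  rw [h1, Matrix.one_apply]
  by_cases hab : a = b
  · subst hab
    rw [if_pos rfl, Finset.sum_eq_single a]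
    · simp
    · intro i _ hi
      simp [hi]
    · simp
  · rw [if_neg hab]
    apply Finset.sum_eq_zero
    intro i _
    by_cases hia : i = a
    · subst hia
      have : (Pi.single b (1 : K) : Fin 4 → K) i = 0 := by simp [hab]
      rw [this, zero_pow Fintype.card_ne_zero, mul_zero]
    · simp [Pi.single_apply, hia]

theorem iota_add (w w' : Fin 3 → K) :
    iota (frob F K) (w + w') = iota (frob F K) w + iota (frob F K) w' := by
  funext i
  rcases i with i | i
  · rfl
  · show frob F K (w i + w' i) = frob F K (w i) + frob F K (w' i)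
    exact map_add _ _ _

theorem iota_smul (c : F) (w : Fin 3 → K) :
    iota (frob F K) (c • w) = algebraMap F K c • iota (frob F K) w := by
  funext i
  rcases i with i | i
  · show c • w i = algebraMap F K c * w i
    exact Algebra.smul_def _ _
  · show frob F K (c • w i) = algebraMap F K c * frob F K (w i)
    rw [Algebra.smul_def, map_mul, frob_algebraMap]

variable (F) in
/-- the action on the fixed space of `J`, in the coordinates `K³` -/
noncomputable def rho0 (g : Matrix (Fin 4) (Fin 4) K) : (Fin 3 → K) →ₗ[F] (Fin 3 → K) where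
  toFun w := fun i => (Lam g *ᵥ iota (frob F K) w) (.inl i)
  map_add' w w' := by
    funext i
    rw [iota_add, Matrix.mulVec_add]
    rfl
  map_smul' c w := by
    funext i
    rw [iota_smul, Matrix.mulVec_smul]
    show algebraMap F K c * _ = c • _
    rw [Algebra.smul_def]

theorem rho0_apply (g : Matrix (Fin 4) (Fin 4) K) (w : Fin 3 → K) (i : Fin 3) :
    rho0 F g w i = (Lam g *ᵥ iota (frob F K) w) (.inl i) := rfl

theorem iota_rho0 (hK : Fintype.card K = Fintype.card F ^ 2) (g : Matrix (Fin 4) (Fin 4) K)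
    (hg : gᵀ * g.map (frob F K) = 1) (hd : g.det = 1) (w : Fin 3 → K) :
    iota (frob F K) (rho0 F g w) = Lam g *ᵥ iota (frob F K) w :=
  (Lam_iota (frob F K) (frob_frob hK) g hg hd w).symm

theorem iota_injective (w w' : Fin 3 → K) (h : iota (frob F K) w = iota (frob F K) w') :
    w = w' := by
  funext i
  exact congrFun h (.inl i)

theorem rho0_mul (hK : Fintype.card K = Fintype.card F ^ 2) (g h : Matrix (Fin 4) (Fin 4) K)
    (hg : gᵀ * g.map (frob F K) = 1) (hgd : g.det = 1)
    (hh : hᵀ * h.map (frob F K) = 1) (hhd : h.det = 1) :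
    rho0 F (g * h) = rho0 F g ∘ₗ rho0 F h := by
  apply LinearMap.ext
  intro w
  apply iota_injective (F := F)
  have hgh : (g * h)ᵀ * (g * h).map (frob F K) = 1 := by
    rw [Matrix.transpose_mul, Matrix.map_mul, Matrix.mul_assoc, ← Matrix.mul_assoc gᵀ, hg,
      Matrix.one_mul, hh]
  have hghd : (g * h).det = 1 := by rw [Matrix.det_mul, hgd, hhd, one_mul]
  rw [LinearMap.comp_apply, iota_rho0 hK _ hgh hghd, iota_rho0 hK _ hg hgd, iota_rho0 hK _ hh hhd,
    Lam_mul, Matrix.mulVec_mulVec]

theorem rho0_one : rho0 F (1 : Matrix (Fin 4) (Fin 4) K) = LinearMap.id := by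
  apply LinearMap.ext
  intro w
  funext i
  rw [rho0_apply, Lam_one, Matrix.one_mulVec]
  rfl

theorem herm_rho0 (hK : Fintype.card K = Fintype.card F ^ 2) (g : Matrix (Fin 4) (Fin 4) K)
    (hg : gᵀ * g.map (frob F K) = 1) (hd : g.det = 1) (w : Fin 3 → K) :
    hermQuad F 3 (rho0 F g w) = hermQuad F 3 w := by
  apply (algebraMap F K).injective
  rw [algebraMap_hermQuad hK, algebraMap_hermQuad hK]
  have h1 : ∀ w' : Fin 3 → K, Cfsg.hermForm 3 K (Fintype.card F) w' w' =
      Cfsg.quadFormPlus 3 K (iota (frob F K) w') := fun w' => rfl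
  rw [h1, h1, iota_rho0 hK g hg hd, Q_Lam, hd, one_mul]

end Exc6m

end Cfsg.Agent.Lib.Helper2
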