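import Mathlib
import Cfsg.Agent.Lib.Helper2.Exc6mc
import Cfsg.Agent.Lib.Helper2.Exc6c

set_option autoImplicit false
set_option linter.unusedSectionVars false

namespace Cfsg.Agent.Lib.Helper2

namespace Exc6m

open Matrix Exc6 Cfsg.Agent.Lib.Helper5.HermQuad Cfsg.Agent.Lib.Helper5.HermRes

variable {F K : Type*} [Field F] [Fintype F] [Field K] [Fintype K] [Algebra F K]

/-- the index type of the six-dimensional minus form -/
abbrev I6m := (Fin 2 ⊕ Fin 2) ⊕ Fin 2

variable (E : (Fin 3 → K) ≃ₗ[F] (I6m → F))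

/-- the action transported to `F⁶` -/
noncomputable def rho1 (g : Matrix (Fin 4) (Fin 4) K) : (I6m → F) →ₗ[F] (I6m → F) :=
  E.toLinearMap ∘ₗ rho0 F g ∘ₗ E.symm.toLinearMap

/-- its matrix -/
noncomputable def Mm (g : Matrix (Fin 4) (Fin 4) K) : Matrix I6m I6m F :=
  LinearMap.toMatrix' (rho1 E g)

theorem Mm_mulVec (g : Matrix (Fin 4) (Fin 4) K) (u : I6m → F) :
    Mm E g *ᵥ u = E (rho0 F g (E.symm u)) := by
  unfold Mm
  rw [← Matrix.toLin'_apply, Matrix.toLin'_toMatrix']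
  rfl

theorem Mm_mul (hK : Fintype.card K = Fintype.card F ^ 2) (g h : Matrix (Fin 4) (Fin 4) K)
    (hg : gᵀ * g.map (frob F K) = 1) (hgd : g.det = 1)
    (hh : hᵀ * h.map (frob F K) = 1) (hhd : h.det = 1) :
    Mm E (g * h) = Mm E g * Mm E h := by
  unfold Mm
  rw [← LinearMap.toMatrix'_comp]
  congr 1
  unfold rho1
  rw [rho0_mul hK g h hg hgd hh hhd]
  apply LinearMap.ext
  intro u
  simp

theorem Mm_one : Mm E (1 : Matrix (Fin 4) (Fin 4) K) = 1 := by
  unfold Mm rho1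
  rw [rho0_one]
  have : E.toLinearMap ∘ₗ LinearMap.id ∘ₗ E.symm.toLinearMap = LinearMap.id := by
    apply LinearMap.ext
    intro u
    simp
  rw [this, LinearMap.toMatrix'_id]

theorem Q_Mm (hK : Fintype.card K = Fintype.card F ^ 2) (a b : F)
    (hE : ∀ w, Cfsg.quadFormMinus 2 F a b (E w) = hermQuad F 3 w)
    (g : Matrix (Fin 4) (Fin 4) K) (hg : gᵀ * g.map (frob F K) = 1) (hd : g.det = 1)
    (u : I6m → F) :
    Cfsg.quadFormMinus 2 F a b (Mm E g *ᵥ u) = Cfsg.quadFormMinus 2 F a b u := by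
  rw [Mm_mulVec, hE, herm_rho0 hK g hg hd, ← hE, LinearEquiv.apply_symm_apply]

theorem rho0_eq_id_of_Mm (g : Matrix (Fin 4) (Fin 4) K) (h : Mm E g = 1) (w : Fin 3 → K) :
    rho0 F g w = w := by
  have h1 := Mm_mulVec E g (E w)
  rw [h, Matrix.one_mulVec, LinearEquiv.symm_apply_apply] at h1
  exact (E.injective h1).symm

/-- vectors supported on the first three coordinates are fixed -/
theorem fix_inl (θ : K) (hθ : frob F K θ ≠ θ) (g : Matrix (Fin 4) (Fin 4) K)
    (hfix : ∀ w, Lam g *ᵥ iota (frob F K) w = iota (frob F K) w) (x : Fin 3 → K) :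
    Lam g *ᵥ (Sum.elim x 0 : I6 → K) = Sum.elim x 0 := by
  have hne : frob F K θ - θ ≠ 0 := sub_ne_zero.2 hθ
  have h1 : (Sum.elim x 0 : I6 → K) = (frob F K θ - θ)⁻¹ •
      (frob F K θ • iota (frob F K) x - iota (frob F K) (θ • x)) := by
    funext i
    rcases i with i | i
    · show x i = (frob F K θ - θ)⁻¹ * (frob F K θ * x i - θ * x i)
      field_simp
    · show (0 : K) = (frob F K θ - θ)⁻¹ * (frob F K θ * frob F K (x i) - frob F K (θ * x i))
      rw [map_mul, sub_self, mul_zero]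
  rw [h1, Matrix.mulVec_smul, Matrix.mulVec_sub, Matrix.mulVec_smul, hfix, hfix]

/-- vectors supported on the last three coordinates are fixed -/
theorem fix_inr (hK : Fintype.card K = Fintype.card F ^ 2) (θ : K) (hθ : frob F K θ ≠ θ)
    (g : Matrix (Fin 4) (Fin 4) K)
    (hfix : ∀ w, Lam g *ᵥ iota (frob F K) w = iota (frob F K) w) (y : Fin 3 → K) :
    Lam g *ᵥ (Sum.elim (0 : Fin 3 → K) y : I6 → K) = Sum.elim (0 : Fin 3 → K) y := by
  have hne : θ - frob F K θ ≠ 0 := sub_ne_zero.2 (Ne.symm hθ)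
  have h1 : (Sum.elim (0 : Fin 3 → K) y : I6 → K) = (θ - frob F K θ)⁻¹ •
      (θ • iota (frob F K) (fun i => frob F K (y i))
        - iota (frob F K) (θ • fun i => frob F K (y i))) := by
    funext i
    rcases i with i | i
    · show (0 : K) = (θ - frob F K θ)⁻¹ * (θ * frob F K (y i) - θ * frob F K (y i))
      rw [sub_self, mul_zero]
    · show y i = (θ - frob F K θ)⁻¹ *
        (θ * frob F K (frob F K (y i)) - frob F K (θ * frob F K (y i)))
      rw [map_mul, frob_frob hK]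
      field_simp
  rw [h1, Matrix.mulVec_smul, Matrix.mulVec_sub, Matrix.mulVec_smul, hfix, hfix]

theorem Lam_eq_one_of_fix (hK : Fintype.card K = Fintype.card F ^ 2) (θ : K)
    (hθ : frob F K θ ≠ θ) (g : Matrix (Fin 4) (Fin 4) K)
    (hfix : ∀ w, Lam g *ᵥ iota (frob F K) w = iota (frob F K) w) : Lam g = 1 := by
  apply Matrix.toLin'.injective
  apply LinearMap.ext
  intro v
  rw [Matrix.toLin'_apply, Matrix.toLin'_apply, Matrix.one_mulVec]
  have hv : v = (Sum.elim (fun i => v (.inl i)) 0 : I6 → K) + Sum.elim (0 : Fin 3 → K) (fun i => v (.inr i)) := by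
    funext i
    rcases i with i | i <;> simp
  rw [hv, Matrix.mulVec_add, fix_inl θ hθ g hfix, fix_inr hK θ hθ g hfix]

theorem scalar_of_Mm_eq_one (hK : Fintype.card K = Fintype.card F ^ 2) (θ : K)
    (hθ : frob F K θ ≠ θ) (g h : Matrix (Fin 4) (Fin 4) K) (hhg : h * g = 1)
    (hg : gᵀ * g.map (frob F K) = 1) (hd : g.det = 1) (hM : Mm E g = 1) :
    ∃ c : K, c * c = 1 ∧ g = Matrix.scalar (Fin 4) c := by
  apply scalar_of_Lam_eq_one g h hhg
  apply Lam_eq_one_of_fix hK θ hθ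
  intro w
  rw [← iota_rho0 hK g hg hd, rho0_eq_id_of_Mm E g hM]

end Exc6m

end Cfsg.Agent.Lib.Helper2
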