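import Mathlib
import Cfsg.Agent.Lib.Helper2.Exc6md
import Cfsg.Agent.Lib.Helper2.ExcIso4
import Cfsg.Agent.Lib.Helper2.ExcIso3
import Cfsg.Agent.Lib.Helper2.OrthCard3
import Cfsg.Agent.Lib.Helper2.UT18
import Cfsg.Agent.S0278

set_option autoImplicit false
set_option linter.unusedSectionVars false

namespace Cfsg.Agent.Lib.Helper2

namespace Exc6m

open Matrix Exc6 Cfsg.Agent.Lib.Helper5.HermQuad Cfsg.Agent.Lib.Helper5.HermRes

variable {F K : Type*} [Field F] [Fintype F] [Field K] [Fintype K] [Algebra F K]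

variable (E : (Fin 3 → K) ≃ₗ[F] (I6m → F))

theorem SU_mat (g : ↥(Cfsg.SU 4 K (Fintype.card F))) :
    (g.1.1)ᵀ * (g.1.1).map (frob F K) = 1 := SU_matrix g.1 g.2

theorem SU_det (g : ↥(Cfsg.SU 4 K (Fintype.card F))) : (g.1.1).det = 1 := g.1.2

/-- the image of `g ∈ SU₄` in `GL₆(F)` -/
noncomputable def rhoGL (hK : Fintype.card K = Fintype.card F ^ 2)
    (g : ↥(Cfsg.SU 4 K (Fintype.card F))) : Matrix.GeneralLinearGroup I6m F :=
  ⟨Mm E g.1.1, Mm E (g⁻¹).1.1,
    by
      rw [← Mm_mul E hK _ _ (SU_mat g) (SU_det g) (SU_mat g⁻¹) (SU_det g⁻¹),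
        ← Matrix.SpecialLinearGroup.coe_mul, ← Subgroup.coe_mul, mul_inv_cancel,
        Subgroup.coe_one, Matrix.SpecialLinearGroup.coe_one, Mm_one],
    by
      rw [← Mm_mul E hK _ _ (SU_mat g⁻¹) (SU_det g⁻¹) (SU_mat g) (SU_det g),
        ← Matrix.SpecialLinearGroup.coe_mul, ← Subgroup.coe_mul, inv_mul_cancel,
        Subgroup.coe_one, Matrix.SpecialLinearGroup.coe_one, Mm_one]⟩

/-- the action of `SU₄` on the fixed space of `J`, as a hom into `O⁻₆` -/
noncomputable def rho (hK : Fintype.card K = Fintype.card F ^ 2) (a b : F)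
    (hE : ∀ w, Cfsg.quadFormMinus 2 F a b (E w) = hermQuad F 3 w) :
    ↥(Cfsg.SU 4 K (Fintype.card F)) →*
      ↥(Cfsg.isometryGroup F (Cfsg.quadFormMinus 2 F a b)) where
  toFun g := ⟨rhoGL E hK g, by
    intro u _
    show Cfsg.quadFormMinus 2 F a b (Mm E g.1.1 *ᵥ u) = Cfsg.quadFormMinus 2 F a b u
    exact Q_Mm E hK a b hE g.1.1 (SU_mat g) (SU_det g) u⟩
  map_one' := Subtype.ext (Units.ext (Mm_one E))
  map_mul' g h := Subtype.ext (Units.ext
    (Mm_mul E hK g.1.1 h.1.1 (SU_mat g) (SU_det g) (SU_mat h) (SU_det h)))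

theorem rho_eq_one_iff (hK : Fintype.card K = Fintype.card F ^ 2) (a b : F)
    (hE : ∀ w, Cfsg.quadFormMinus 2 F a b (E w) = hermQuad F 3 w)
    (g : ↥(Cfsg.SU 4 K (Fintype.card F))) :
    rho E hK a b hE g = 1 ↔ Mm E g.1.1 = 1 := by
  constructor
  · intro h
    have : (((rho E hK a b hE g : ↥(Cfsg.isometryGroup F (Cfsg.quadFormMinus 2 F a b))) :
      Matrix.GeneralLinearGroup I6m F) : Matrix I6m I6m F) = Mm E g.1.1 := rfl
    rw [← this, h]
    rfl
  · intro h
    apply Subtype.ext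
    apply Units.ext
    exact h

theorem scalar_of_rho_eq_one (hK : Fintype.card K = Fintype.card F ^ 2) (a b : F)
    (hE : ∀ w, Cfsg.quadFormMinus 2 F a b (E w) = hermQuad F 3 w) (θ : K)
    (hθ : frob F K θ ≠ θ) (g : ↥(Cfsg.SU 4 K (Fintype.card F)))
    (h : rho E hK a b hE g = 1) :
    ∃ c : K, c * c = 1 ∧ g.1.1 = Matrix.scalar (Fin 4) c := by
  rw [rho_eq_one_iff] at h
  refine scalar_of_Mm_eq_one E hK θ hθ g.1.1 (g⁻¹).1.1 ?_ (SU_mat g) (SU_det g) h
  rw [← Matrix.SpecialLinearGroup.coe_mul, ← Subgroup.coe_mul, inv_mul_cancel,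
    Subgroup.coe_one, Matrix.SpecialLinearGroup.coe_one]

theorem ker_le_center (hK : Fintype.card K = Fintype.card F ^ 2) (a b : F)
    (hE : ∀ w, Cfsg.quadFormMinus 2 F a b (E w) = hermQuad F 3 w) (θ : K)
    (hθ : frob F K θ ≠ θ) :
    (rho E hK a b hE).ker ≤ Subgroup.center ↥(Cfsg.SU 4 K (Fintype.card F)) := by
  intro g hg
  obtain ⟨c, -, hs⟩ := scalar_of_rho_eq_one E hK a b hE θ hθ g hg
  rw [Subgroup.mem_center_iff]
  intro h
  apply Subtype.ext
  apply Subtype.ext
  rw [Subgroup.coe_mul, Subgroup.coe_mul, Matrix.SpecialLinearGroup.coe_mul,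
    Matrix.SpecialLinearGroup.coe_mul, hs]
  exact (Matrix.scalar_commute c (fun r => mul_comm _ _) _).eq.symm

theorem card_ker_le_two (hK : Fintype.card K = Fintype.card F ^ 2) (a b : F)
    (hE : ∀ w, Cfsg.quadFormMinus 2 F a b (E w) = hermQuad F 3 w) (θ : K)
    (hθ : frob F K θ ≠ θ) : Nat.card ↥(rho E hK a b hE).ker ≤ 2 := by
  classical
  let f : ↥(rho E hK a b hE).ker → Bool := fun g => decide (g.1.1.1 0 0 = 1)
  have hf : Function.Injective f := by
    intro g g' hgg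
    obtain ⟨c, hc, hs⟩ := scalar_of_rho_eq_one E hK a b hE θ hθ g.1 g.2
    obtain ⟨c', hc', hs'⟩ := scalar_of_rho_eq_one E hK a b hE θ hθ g'.1 g'.2
    have hcc : ∀ d : K, d * d = 1 → d = 1 ∨ d = -1 := by
      intro d hd
      have : (d - 1) * (d + 1) = 0 := by ring_nf; rw [pow_two, hd]; ring
      rcases mul_eq_zero.1 this with h | h
      · left; exact sub_eq_zero.1 h
      · right; exact eq_neg_of_add_eq_zero_left h
    have h00 : g.1.1.1 0 0 = c := by rw [hs]; simp
    have h00' : g'.1.1.1 0 0 = c' := by rw [hs']; simp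
    have hcc' : c = c' := by
      have h1 : decide (g.1.1.1 0 0 = 1) = decide (g'.1.1.1 0 0 = 1) := hgg
      rw [h00, h00'] at h1
      rcases hcc c hc with rfl | rfl
      · have : c' = 1 := by simpa using h1
        exact this.symm
      · rcases hcc c' hc' with rfl | rfl
        · have : (-1 : K) = 1 := by simpa using h1
          exact this
        · rfl
    apply Subtype.ext
    apply Subtype.ext
    apply Subtype.ext
    rw [hs, hs', hcc']
  have := Nat.card_le_card_of_injective f hf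
  simpa using this

theorem card_ker_even (hK : Fintype.card K = Fintype.card F ^ 2) (a b : F)
    (hE : ∀ w, Cfsg.quadFormMinus 2 F a b (E w) = hermQuad F 3 w) (θ : K)
    (hθ : frob F K θ ≠ θ) (h2 : (2 : K) = 0) : Nat.card ↥(rho E hK a b hE).ker = 1 := by
  have : (rho E hK a b hE).ker = ⊥ := by
    rw [eq_bot_iff]
    intro z hz
    obtain ⟨r, hr, hg⟩ := scalar_of_rho_eq_one E hK a b hE θ hθ z hz
    have hr1 : r = 1 := by
      have h3 : (r - 1) ^ 2 = 0 := by
        have : (r - 1) ^ 2 = r * r - 2 * r + 1 := by ring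
        rw [this, hr, h2]; ring_nf
        exact h2
      have := pow_eq_zero_iff (two_ne_zero) |>.1 h3
      exact sub_eq_zero.1 this
    rw [Subgroup.mem_bot]
    apply Subtype.ext
    apply Subtype.ext
    rw [hg, hr1]
    simp
  rw [this]
  exact Subgroup.card_bot

end Exc6m

end Cfsg.Agent.Lib.Helper2
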