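import Mathlib
import Cfsg.Agent.Lib.Helper2.Exc6me
import Cfsg.Agent.Lib.Helper5.FieldExt

set_option autoImplicit false
set_option linter.unusedSectionVars false

namespace Cfsg.Agent.Lib.Helper2

namespace Exc6m

open Matrix Exc6 Cfsg.Agent.Lib.Helper5.HermQuad Cfsg.Agent.Lib.Helper5.HermRes

/-- a hom whose range lies in `N`, with kernel of order at most two and `|G| = 2 |N|`, is onto `N` -/
theorem range_eq_of_card_le {G O : Type*} [Group G] [Finite G] [Group O] (N : Subgroup O)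
    (ρ : G →* O) (hle : ρ.range ≤ N) (hker : Nat.card ↥ρ.ker ≤ 2)
    (hcard : Nat.card G = 2 * Nat.card ↥N) : ρ.range = N := by
  have h1 : Nat.card G = Nat.card ↥ρ.range * Nat.card ↥ρ.ker := by
    rw [Subgroup.card_eq_card_quotient_mul_card_subgroup ρ.ker,
      Nat.card_congr (QuotientGroup.quotientKerEquivRange ρ).toEquiv]
  have hR : Finite ↥ρ.range := Finite.of_surjective ρ.rangeRestrict ρ.rangeRestrict_surjective
  have hN : Finite ↥N := by
    apply Nat.finite_of_card_ne_zero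
    intro h0
    rw [h0, mul_zero] at hcard
    exact (Nat.card_pos (α := G)).ne' hcard
  have h2 : Nat.card ↥N ≤ Nat.card ↥ρ.range := by
    have h3 : 2 * Nat.card ↥N ≤ Nat.card ↥ρ.range * 2 := by
      rw [← hcard, h1]
      exact Nat.mul_le_mul_left _ hker
    omega
  exact Subgroup.eq_of_le_of_card_ge hle h2

variable {F K : Type*} [Field F] [Fintype F] [Field K] [Fintype K]

theorem card_SU4 (hK : Fintype.card K = Fintype.card F ^ 2) :
    Nat.card ↥(Cfsg.SU 4 K (Fintype.card F)) =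
      Fintype.card F ^ 6 * ((Fintype.card F ^ 2 - 1) * (Fintype.card F ^ 3 + 1) *
        (Fintype.card F ^ 4 - 1)) := by
  have h := Cfsg.Agent.S0278.result (F := K) hK 4 (by norm_num)
  obtain ⟨q, hq⟩ : ∃ q, q = Fintype.card F := ⟨_, rfl⟩
  rw [← hq] at h ⊢
  have e : (Finset.range 4).prod (fun i => if Even i then q ^ (i + 1) + 1 else q ^ (i + 1) - 1) =
      (q + 1) * ((q ^ 2 - 1) * (q ^ 3 + 1) * (q ^ 4 - 1)) := by
    simp [Finset.prod_range_succ, Nat.even_add_one]
    ring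
  rw [e] at h
  have h6 : 4 * (4 - 1) / 2 = 6 := by norm_num
  rw [h6] at h
  apply Nat.eq_of_mul_eq_mul_left (Nat.succ_pos q)
  rw [Nat.succ_eq_add_one, h]
  ring

theorem card_O (a b : F)
    (hab : ∀ z₁ z₂ : F, z₁ ^ 2 + a * z₁ * z₂ + b * z₂ ^ 2 = 0 → z₁ = 0 ∧ z₂ = 0) :
    Nat.card ↥(Cfsg.isometryGroup F (Cfsg.quadFormMinus 2 F a b)) =
      2 * (Fintype.card F ^ 6 * ((Fintype.card F ^ 2 - 1) * (Fintype.card F ^ 3 + 1) *
        (Fintype.card F ^ 4 - 1))) := by
  have h := OrthCard.card_minus a b hab 2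
  rw [h, Finset.prod_range_succ, Finset.prod_range_one]
  ring

theorem index_Omega_odd (a b : F)
    (hab : ∀ z₁ z₂ : F, z₁ ^ 2 + a * z₁ * z₂ + b * z₂ ^ 2 = 0 → z₁ = 0 ∧ z₂ = 0)
    (h2 : (2 : F) ≠ 0) :
    (Cfsg.Omega F (Cfsg.quadFormMinus 2 F a b)).index = 4 := by
  classical
  rw [← OrthCard.QMn_coe]
  exact CentO.index_odd h2 (OrthCard.QMn_nondeg 2 a b hab) (by simp)

theorem main {q : ℕ} (hF : Fintype.card F = q) (hK : Fintype.card K = q ^ 2) (a b : F)
    (hab : ∀ z₁ z₂ : F, z₁ ^ 2 + a * z₁ * z₂ + b * z₂ ^ 2 = 0 → z₁ = 0 ∧ z₂ = 0) :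
    Nonempty (Cfsg.POmega F (Cfsg.quadFormMinus 2 F a b) ≃* Cfsg.PSU 4 K q) := by
  subst hF
  obtain ⟨alg, h2⟩ := Cfsg.Agent.Lib.Helper5.FieldExt.exists_algebra (K := K) (F := F) 2
    (by norm_num) hK rfl
  obtain ⟨E, hE⟩ := exists_minus_equiv (F := F) (K := K) hK h2 2 (by decide) a b hab
  obtain ⟨θ, hθ, -, -⟩ := exists_root_conj (K := K) h2 a b hab
  have hθ' : frob F K θ ≠ θ := hθ
  have hperf : commutator ↥(Cfsg.SU 4 K (Fintype.card F)) = ⊤ :=
    UT.commutator_SU hK (by norm_num) (by omega)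
  have hker := ker_le_center E hK a b hE θ hθ'
  have hle : (rho E hK a b hE).range ≤ Cfsg.Omega F (Cfsg.quadFormMinus 2 F a b) := by
    rintro _ ⟨g, rfl⟩
    exact ExcIso.map_mem_commutator_of_perfect hperf (rho E hK a b hE) g
  have hrange : (rho E hK a b hE).range = Cfsg.Omega F (Cfsg.quadFormMinus 2 F a b) := by
    by_cases h2F : (2 : F) = 0
    · have h2K : (2 : K) = 0 := by
        have h3 := congrArg (algebraMap F K) h2F
        rw [map_ofNat, map_zero] at h3
        exact h3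
      apply ExcIso.range_eq_commutator_of_two_mul _ hle
      rw [card_ker_even E hK a b hE θ hθ' h2K, one_mul, card_SU4 hK, card_O a b hab]
    · apply range_eq_of_card_le _ _ hle (card_ker_le_two E hK a b hE θ hθ')
      have h1 := Subgroup.card_mul_index (Cfsg.Omega F (Cfsg.quadFormMinus 2 F a b))
      rw [index_Omega_odd a b hab h2F, card_O a b hab] at h1
      rw [card_SU4 hK]
      omega
  refine ExcIso.quotient_center_equiv (Cfsg.Omega F (Cfsg.quadFormMinus 2 F a b))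
    (rho E hK a b hE) hrange
    (QuotientGroup.mk' (Subgroup.center ↥(Cfsg.SU 4 K (Fintype.card F))))
    (QuotientGroup.mk'_surjective _) (fun g => ?_)
  rw [QuotientGroup.ker_mk']
  exact ExcIso.center_iff_of_perfect hperf _ hker g

end Exc6m

end Cfsg.Agent.Lib.Helper2
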