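import Mathlib
import Cfsg.Agent.Lib.Helper8.ClassAlgebra3

set_option autoImplicit false

namespace Cfsg.Agent.Lib.Helper2

namespace FT

open Cfsg.Agent.Lib.Helper1 Cfsg.Agent.Lib.Helper4 Cfsg.Agent.Lib.Helper8
open scoped ComplexConjugate

universe u

variable {N : Type u} [Group N] [Fintype N] (K : Subgroup N) [Fintype K]

/-- right averaging over a subgroup. -/
noncomputable def avg (f : N → ℂ) : N → ℂ :=
  fun x => (Nat.card K : ℂ)⁻¹ * ∑ k : K, f (x * (k : N))

theorem avg_apply (f : N → ℂ) (x : N) :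
    avg K f x = (Nat.card K : ℂ)⁻¹ * ∑ k : K, f (x * (k : N)) := rfl

theorem cardK_ne_zero : (Nat.card K : ℂ) ≠ 0 := Nat.cast_ne_zero.2 Nat.card_pos.ne'

theorem avg_mul_right (f : N → ℂ) (x : N) (k : K) : avg K f (x * (k : N)) = avg K f x := by
  rw [avg_apply, avg_apply]
  congr 1
  rw [← Equiv.sum_comp (Equiv.mulLeft k) (fun j : K => f (x * (j : N)))]
  refine Finset.sum_congr rfl fun k' _ => ?_
  rw [Equiv.coe_mulLeft, Subgroup.coe_mul, mul_assoc]

theorem avg_idem (f : N → ℂ) : avg K (avg K f) = avg K f := by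
  funext x
  rw [avg_apply]
  simp only [avg_mul_right]
  rw [Finset.sum_const, Finset.card_univ, nsmul_eq_mul, ← Nat.card_eq_fintype_card, ← mul_assoc,
    inv_mul_cancel₀ (cardK_ne_zero K), one_mul]

theorem avg_sub (f g : N → ℂ) : avg K (f - g) = avg K f - avg K g := by
  funext x
  simp only [avg_apply, Pi.sub_apply, Finset.sum_sub_distrib, mul_sub]

theorem avg_smul (c : ℂ) (f : N → ℂ) : avg K (c • f) = c • avg K f := by
  funext x
  simp only [avg_apply, Pi.smul_apply, smul_eq_mul, ← Finset.mul_sum]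
  ring

theorem avg_isClassFunction [K.Normal] {f : N → ℂ} (hf : Cfsg.IsClassFunction N f) :
    Cfsg.IsClassFunction N (avg K f) := by
  intro x g
  rw [avg_apply, avg_apply]
  congr 1
  let e : K ≃ K :=
    { toFun := fun k => ⟨g * k * g⁻¹, (inferInstance : K.Normal).conj_mem (k : N) k.2 g⟩
      invFun := fun k => ⟨g⁻¹ * k * g, by
        have := (inferInstance : K.Normal).conj_mem (k : N) k.2 g⁻¹
        rwa [inv_inv] at this⟩
      left_inv := fun k => by apply Subtype.ext; simp only []; group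
      right_inv := fun k => by apply Subtype.ext; simp only []; group }
  rw [← Equiv.sum_comp e (fun j : K => f (g * x * g⁻¹ * (j : N)))]
  refine Finset.sum_congr rfl fun k _ => ?_
  have h1 : g * x * g⁻¹ * ((e k : K) : N) = g * (x * (k : N)) * g⁻¹ := by
    show g * x * g⁻¹ * (g * k * g⁻¹) = g * (x * (k : N)) * g⁻¹
    group
  rw [h1, hf]

theorem avg_selfadjoint (f g : N → ℂ) :
    Cfsg.classInner (avg K f) g = Cfsg.classInner f (avg K g) := by
  rw [classInner_def, classInner_def]
  congr 1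
  simp only [avg_apply, map_mul, map_inv₀, map_natCast, map_sum]
  have h1 : ∀ x : N, (Nat.card K : ℂ)⁻¹ * (∑ k : K, f (x * (k : N))) * conj (g x)
      = (Nat.card K : ℂ)⁻¹ * ∑ k : K, f (x * (k : N)) * conj (g x) := by
    intro x; rw [mul_assoc, Finset.sum_mul]
  have h2 : ∀ x : N, f x * ((Nat.card K : ℂ)⁻¹ * ∑ k : K, conj (g (x * (k : N))))
      = (Nat.card K : ℂ)⁻¹ * ∑ k : K, f x * conj (g (x * (k : N))) := by
    intro x; rw [mul_left_comm, Finset.mul_sum]
  simp only [h1, h2]
  rw [← Finset.mul_sum, ← Finset.mul_sum]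
  congr 1
  calc ∑ x : N, ∑ k : K, f (x * (k : N)) * conj (g x)
      = ∑ k : K, ∑ x : N, f (x * (k : N)) * conj (g x) := Finset.sum_comm
    _ = ∑ k : K, ∑ y : N, f y * conj (g (y * ((k⁻¹ : K) : N))) := by
        refine Finset.sum_congr rfl fun k _ => ?_
        rw [← Equiv.sum_comp (Equiv.mulRight ((k : N)))
          (fun y : N => f y * conj (g (y * ((k⁻¹ : K) : N))))]
        refine Finset.sum_congr rfl fun x _ => ?_
        simp only [Equiv.coe_mulRight, Subgroup.coe_inv]
        rw [mul_assoc, mul_inv_cancel, mul_one]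
    _ = ∑ k : K, ∑ y : N, f y * conj (g (y * (k : N))) := by
        rw [← Equiv.sum_comp (Equiv.inv K)
          (fun k : K => ∑ y : N, f y * conj (g (y * (k : N))))]
        rfl
    _ = ∑ y : N, ∑ k : K, f y * conj (g (y * (k : N))) := Finset.sum_comm

end FT

end Cfsg.Agent.Lib.Helper2
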