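import Mathlib
import Cfsg.Agent.Lib.Helper2.FT1
import Cfsg.Agent.Lib.Helper1.CharFound6

set_option autoImplicit false

namespace Cfsg.Agent.Lib.Helper2

namespace FT

open Cfsg.Agent.Lib.Helper1 Cfsg.Agent.Lib.Helper4 Cfsg.Agent.Lib.Helper8
open scoped ComplexConjugate

universe u

variable {N : Type u} [Group N] [Fintype N] (K : Subgroup N) [Fintype K]

omit [Fintype N] in
theorem sum_indicator [DecidablePred (· ∈ K)] [Fintype N] (F : N → ℂ) :
    ∑ g : N, (if g ∈ K then (1 : ℂ) else 0) * F g = ∑ k : K, F (k : N) := by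
  have h1 : ∀ g : N, (if g ∈ K then (1 : ℂ) else 0) * F g = if g ∈ K then F g else 0 := by
    intro g; split_ifs <;> simp
  simp only [h1]
  rw [← Finset.sum_filter]
  exact Finset.sum_subtype (Finset.univ.filter (· ∈ K)) (fun x => by simp) F

theorem avg_irr [K.Normal] {ψ : N → ℂ} (hψ : Cfsg.IsIrrCharacter N ψ) :
    ∃ κ : ℂ, (κ = 0 ∨ κ = 1) ∧ avg K ψ = κ • ψ := by
  classical
  let f : N → ℂ := fun g => if g ∈ K then 1 else 0
  have hf : Cfsg.IsClassFunction N f := by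
    intro g h
    show (if h * g * h⁻¹ ∈ K then (1 : ℂ) else 0) = if g ∈ K then 1 else 0
    have : h * g * h⁻¹ ∈ K ↔ g ∈ K := by
      constructor
      · intro h1
        have := (inferInstance : K.Normal).conj_mem _ h1 h⁻¹
        have h2 : h⁻¹ * (h * g * h⁻¹) * h⁻¹⁻¹ = g := by group
        rwa [h2] at this
      · intro h1
        exact (inferInstance : K.Normal).conj_mem _ h1 h
    rw [if_congr this rfl rfl]
  set κ : ℂ := (Nat.card K : ℂ)⁻¹ * ((∑ k : K, ψ (k : N)) / ψ 1) with hκ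
  have h1 : avg K ψ = κ • ψ := by
    funext a
    have h2 := sum_classFunction_mul_irr hψ f hf a
    rw [sum_indicator K (fun g => ψ (a * g)), sum_indicator K ψ] at h2
    rw [avg_apply, h2, Pi.smul_apply, smul_eq_mul, hκ]
    ring
  refine ⟨κ, ?_, h1⟩
  have h3 := avg_idem K ψ
  rw [h1, avg_smul, h1] at h3
  have h4 := congrFun h3 1
  simp only [Pi.smul_apply, smul_eq_mul] at h4
  have hψ1 : ψ 1 ≠ 0 := irr_apply_one_ne_zero hψ
  have h5 : κ * κ = κ := by
    have : κ * (κ * ψ 1) = (κ * κ) * ψ 1 := by ring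
    rw [this] at h4
    exact mul_right_cancel₀ hψ1 h4
  by_cases h0 : κ = 0
  · left; exact h0
  · right
    exact mul_left_cancel₀ h0 (by rw [h5, mul_one])

theorem char_parts [K.Normal] {ξ : N → ℂ} (hξ : Cfsg.IsCharacter N ξ) :
    Cfsg.IsCharacter N (avg K ξ) ∧ Cfsg.IsCharacter N (ξ - avg K ξ) ∧
      Cfsg.classInner (ξ - avg K ξ) (avg K ξ) = 0 := by
  have hcf := isClassFunction_of_isCharacter hξ
  have hacf := avg_isClassFunction K hcf
  have key : ∀ ψ : N → ℂ, Cfsg.IsIrrCharacter N ψ →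
      ∃ m : ℕ, ∃ κ : ℂ, (κ = 0 ∨ κ = 1) ∧ Cfsg.classInner ξ ψ = m ∧
        Cfsg.classInner (avg K ξ) ψ = κ * m := by
    intro ψ hψ
    obtain ⟨m, hm⟩ := classInner_char_irr_nat hξ hψ
    obtain ⟨κ, hκ, h1⟩ := avg_irr K hψ
    refine ⟨m, κ, hκ, hm, ?_⟩
    rw [avg_selfadjoint, h1, classInner_smul_right, hm]
    rcases hκ with h | h <;> rw [h] <;> simp
  refine ⟨?_, ?_, ?_⟩
  · apply isCharacter_of_nat_mult _ hacf
    intro ψ hψ
    obtain ⟨m, κ, hκ, _, h2⟩ := key ψ hψ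
    rcases hκ with h | h
    · exact ⟨0, by rw [h2, h]; simp⟩
    · exact ⟨m, by rw [h2, h]; simp⟩
  · apply isCharacter_of_nat_mult _ (isClassFunction_sub hcf hacf)
    intro ψ hψ
    obtain ⟨m, κ, hκ, h1, h2⟩ := key ψ hψ
    rw [classInner_sub_left, h1, h2]
    rcases hκ with h | h
    · exact ⟨m, by rw [h]; simp⟩
    · exact ⟨0, by rw [h]; simp⟩
  · rw [← avg_selfadjoint, avg_sub, avg_idem, sub_self, classInner_zero_left]

end FT

end Cfsg.Agent.Lib.Helper2
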