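import Mathlib
import Cfsg.Agent.Lib.Helper2.FT2

set_option autoImplicit false

namespace Cfsg.Agent.Lib.Helper2

namespace FT

open Cfsg.Agent.Lib.Helper1 Cfsg.Agent.Lib.Helper4 Cfsg.Agent.Lib.Helper8
open scoped ComplexConjugate

universe u

variable {N : Type u} [Group N] [Fintype N]

/-- the sum of the squared absolute values. -/
noncomputable def nsum (f : N → ℂ) : ℝ := ∑ x : N, Complex.normSq (f x)

theorem classInner_self (f : N → ℂ) :
    Cfsg.classInner f f = (((Nat.card N : ℝ)⁻¹ * nsum f : ℝ) : ℂ) := by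
  rw [classInner_def, nsum]
  push_cast
  congr 1
  refine Finset.sum_congr rfl fun x _ => ?_
  rw [Complex.mul_conj]

theorem card_le_nsum {α : N → ℂ} (hα : Cfsg.IsCharacter N α) (h0 : α ≠ 0) :
    (Nat.card N : ℝ) ≤ nsum α := by
  obtain ⟨m, hm⟩ := classInner_char_nat hα hα
  rw [classInner_self] at hm
  have hm' : (Nat.card N : ℝ)⁻¹ * nsum α = m := by exact_mod_cast hm
  have hN : (0 : ℝ) < Nat.card N := by exact_mod_cast Nat.card_pos
  have hpos : 0 < nsum α := by
    obtain ⟨x, hx⟩ : ∃ x, α x ≠ 0 := by
      by_contra hcon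
      push Not at hcon
      exact h0 (funext hcon)
    have h1 : 0 < Complex.normSq (α x) := Complex.normSq_pos.mpr hx
    have h2 : Complex.normSq (α x) ≤ nsum α :=
      Finset.single_le_sum (f := fun x => Complex.normSq (α x))
        (fun y _ => Complex.normSq_nonneg _) (Finset.mem_univ x)
    linarith
  have hm1 : (1 : ℝ) ≤ m := by
    have : (0 : ℝ) < m := by rw [← hm']; positivity
    have h2 : 0 < m := by exact_mod_cast this
    exact_mod_cast h2
  have h3 : nsum α = (Nat.card N : ℝ) * m := by
    rw [← hm']; field_simp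
  rw [h3]
  nlinarith

theorem nsum_add_of_orth {α β : N → ℂ} (h : Cfsg.classInner α β = 0) :
    nsum (α + β) = nsum α + nsum β := by
  have h1 : ∀ x : N, Complex.normSq ((α + β) x)
      = Complex.normSq (α x) + Complex.normSq (β x) + 2 * (α x * conj (β x)).re := by
    intro x
    rw [Pi.add_apply, Complex.normSq_add]
  simp only [nsum, h1, Finset.sum_add_distrib]
  rw [← Finset.mul_sum]
  have h2 : ∑ x : N, (α x * conj (β x)).re = 0 := by
    rw [classInner_def] at h
    have hN : (Nat.card N : ℂ) ≠ 0 := Nat.cast_ne_zero.2 Nat.card_pos.ne'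
    have h3 : ∑ x : N, α x * conj (β x) = 0 := by
      rcases mul_eq_zero.mp h with h4 | h4
      · exact absurd (inv_eq_zero.mp h4) hN
      · exact h4
    have h4 := congrArg Complex.re h3
    rw [Complex.re_sum] at h4
    simpa using h4
  rw [h2, mul_zero, add_zero]

end FT

end Cfsg.Agent.Lib.Helper2
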