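import Mathlib
import Cfsg.Agent.Lib.Helper2.FT3

set_option autoImplicit false

namespace Cfsg.Agent.Lib.Helper2

namespace FT

open Cfsg.Agent.Lib.Helper1 Cfsg.Agent.Lib.Helper4 Cfsg.Agent.Lib.Helper8
open scoped ComplexConjugate

universe u

variable {N : Type u} [Group N] [Fintype N] (K : Subgroup N) [Fintype K]

/-- `x` commutes with a nontrivial element of `K`. -/
def Fix (x : N) : Prop := ∃ k ∈ K, k ≠ 1 ∧ k * x = x * k

omit [Fintype N] in
theorem exists_conj_of_not_fix [K.Normal] {x : N} (hx : ¬ Fix K x) (k : K) :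
    ∃ k' : K, x * (k : N) = (k' : N) * x * (k' : N)⁻¹ := by
  let φ : K → K := fun k' => ⟨x⁻¹ * (k' : N) * x * (k' : N)⁻¹, by
    have h1 : x⁻¹ * (k' : N) * x ∈ K := by
      have := (inferInstance : K.Normal).conj_mem (k' : N) k'.2 x⁻¹
      rwa [inv_inv] at this
    exact K.mul_mem h1 (K.inv_mem k'.2)⟩
  have hinj : Function.Injective φ := by
    intro k₁ k₂ h
    have h1 : x⁻¹ * (k₁ : N) * x * (k₁ : N)⁻¹ = x⁻¹ * (k₂ : N) * x * (k₂ : N)⁻¹ :=
      congrArg Subtype.val h
    have h2 : ((k₂ : N)⁻¹ * (k₁ : N)) * x = x * ((k₂ : N)⁻¹ * (k₁ : N)) := by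
      have h3 : (k₁ : N) * x * (k₁ : N)⁻¹ = (k₂ : N) * x * (k₂ : N)⁻¹ := by
        have : x * (x⁻¹ * (k₁ : N) * x * (k₁ : N)⁻¹) = x * (x⁻¹ * (k₂ : N) * x * (k₂ : N)⁻¹) := by
          rw [h1]
        simpa [mul_assoc] using this
      calc ((k₂ : N)⁻¹ * (k₁ : N)) * x
          = (k₂ : N)⁻¹ * ((k₁ : N) * x * (k₁ : N)⁻¹) * (k₁ : N) := by group
        _ = (k₂ : N)⁻¹ * ((k₂ : N) * x * (k₂ : N)⁻¹) * (k₁ : N) := by rw [h3]
        _ = x * ((k₂ : N)⁻¹ * (k₁ : N)) := by group
    by_contra hne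
    apply hx
    refine ⟨(k₂ : N)⁻¹ * (k₁ : N), K.mul_mem (K.inv_mem k₂.2) k₁.2, ?_, h2⟩
    intro h4
    apply hne
    apply Subtype.ext
    have : (k₁ : N) = (k₂ : N) * ((k₂ : N)⁻¹ * (k₁ : N)) := by group
    rw [this, h4, mul_one]
  obtain ⟨k', hk'⟩ := (Finite.injective_iff_surjective.mp hinj) k
  refine ⟨k', ?_⟩
  have h1 : (k : N) = x⁻¹ * (k' : N) * x * (k' : N)⁻¹ := (congrArg Subtype.val hk').symm
  rw [h1]; group

theorem avg_eq_of_not_fix [K.Normal] {f : N → ℂ} (hf : Cfsg.IsClassFunction N f) {x : N}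
    (hx : ¬ Fix K x) : avg K f x = f x := by
  rw [avg_apply]
  have h1 : ∀ k : K, f (x * (k : N)) = f x := by
    intro k
    obtain ⟨k', hk'⟩ := exists_conj_of_not_fix K hx k
    rw [hk', hf]
  simp only [h1]
  rw [Finset.sum_const, Finset.card_univ, nsmul_eq_mul, ← Nat.card_eq_fintype_card, ← mul_assoc,
    inv_mul_cancel₀ (cardK_ne_zero K), one_mul]

/-- The lower bound. -/
theorem lower_bound [K.Normal] [DecidablePred (Fix K)] {ξ : N → ℂ} (hξ : Cfsg.IsCharacter N ξ)
    (hne : ξ ≠ avg K ξ) (T : Finset N) (hT : ∀ x ∈ T, Fix K x)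
    (hTc : ∀ x ∈ T, Complex.normSq (avg K ξ x) = Complex.normSq (avg K ξ 1)) :
    (Nat.card N : ℝ) + (T.card : ℝ) * Complex.normSq (avg K ξ 1)
      ≤ ∑ x : N, if Fix K x then Complex.normSq (ξ x) else 0 := by
  obtain ⟨hβ, hα, horth⟩ := char_parts K hξ
  set β := avg K ξ with hβdef
  set α := ξ - β with hαdef
  have hα0 : α ≠ 0 := by
    intro h
    apply hne
    have : ξ = α + β := by rw [hαdef]; simp
    rw [this, h, zero_add]
  have h1 := card_le_nsum hα hα0
  have h2 : nsum ξ = nsum α + nsum β := by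
    have : ξ = α + β := by rw [hαdef]; simp
    rw [this]
    exact nsum_add_of_orth horth
  have hcf := isClassFunction_of_isCharacter hξ
  have h3 : ∀ x : N, ¬ Fix K x → ξ x = β x := fun x hx => (avg_eq_of_not_fix K hcf hx).symm
  -- split sums
  have h4 : nsum ξ = (∑ x : N, if Fix K x then Complex.normSq (ξ x) else 0)
      + ∑ x : N, if Fix K x then 0 else Complex.normSq (ξ x) := by
    rw [nsum, ← Finset.sum_add_distrib]
    refine Finset.sum_congr rfl fun x _ => ?_
    split_ifs <;> simp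
  have h5 : nsum β = (∑ x : N, if Fix K x then Complex.normSq (β x) else 0)
      + ∑ x : N, if Fix K x then 0 else Complex.normSq (β x) := by
    rw [nsum, ← Finset.sum_add_distrib]
    refine Finset.sum_congr rfl fun x _ => ?_
    split_ifs <;> simp
  have h6 : (∑ x : N, if Fix K x then 0 else Complex.normSq (ξ x))
      = ∑ x : N, if Fix K x then 0 else Complex.normSq (β x) := by
    refine Finset.sum_congr rfl fun x _ => ?_
    split_ifs with h
    · rfl
    · rw [h3 x h]
  have h7 : (T.card : ℝ) * Complex.normSq (β 1)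
      ≤ ∑ x : N, if Fix K x then Complex.normSq (β x) else 0 := by
    have h8 : ∑ x ∈ T, Complex.normSq (β x) = (T.card : ℝ) * Complex.normSq (β 1) := by
      rw [Finset.sum_congr rfl (fun x hx => hTc x hx), Finset.sum_const, nsmul_eq_mul]
    rw [← h8]
    have h9 : ∑ x ∈ T, Complex.normSq (β x)
        = ∑ x ∈ T, if Fix K x then Complex.normSq (β x) else 0 := by
      refine Finset.sum_congr rfl fun x hx => ?_
      rw [if_pos (hT x hx)]
    rw [h9]
    apply Finset.sum_le_sum_of_subset_of_nonneg (Finset.subset_univ T)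
    intro x _ _
    split_ifs
    · exact Complex.normSq_nonneg _
    · exact le_refl _
  linarith

end FT

end Cfsg.Agent.Lib.Helper2
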