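import Mathlib
import Cfsg.Agent.Lib.Helper2.FT4
import Cfsg.Agent.Lib.Helper4.CharTools

set_option autoImplicit false

namespace Cfsg.Agent.Lib.Helper2

namespace FT

open Cfsg.Agent.Lib.Helper1 Cfsg.Agent.Lib.Helper4 Cfsg.Agent.Lib.Helper8
open scoped ComplexConjugate

universe u

variable {G : Type u} [Group G] (H : Subgroup G)

/-- the non-central elements commuting with a nontrivial element of `H`. -/
def Dp (y : G) : Prop := y ∉ Subgroup.center G ∧ ∃ h ∈ H, h ≠ 1 ∧ h * y = y * h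

/-- the hypothesis on centralizers. -/
def OneConj : Prop := ∀ g : G, g ∉ Subgroup.center G → ∀ a b : G,
  Subgroup.centralizer ({g} : Set G) ⊓ H.map (MulAut.conj a).toMonoidHom ≠ ⊥ →
  Subgroup.centralizer ({g} : Set G) ⊓ H.map (MulAut.conj b).toMonoidHom ≠ ⊥ →
  H.map (MulAut.conj a).toMonoidHom = H.map (MulAut.conj b).toMonoidHom

variable {H}

theorem inf_ne_bot_of_Dp {g x : G} (h : Dp H (x * g * x⁻¹)) :
    Subgroup.centralizer ({g} : Set G) ⊓ H.map (MulAut.conj x⁻¹).toMonoidHom ≠ ⊥ := by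
  obtain ⟨-, k, hkH, hk1, hk⟩ := h
  intro hbot
  have hmem : x⁻¹ * k * x ∈ Subgroup.centralizer ({g} : Set G) ⊓
      H.map (MulAut.conj x⁻¹).toMonoidHom := by
    refine Subgroup.mem_inf.mpr ⟨?_, ?_⟩
    · rw [Subgroup.mem_centralizer_singleton_iff]
      calc x⁻¹ * k * x * g = x⁻¹ * (k * (x * g * x⁻¹)) * x := by group
        _ = x⁻¹ * ((x * g * x⁻¹) * k) * x := by rw [hk]
        _ = g * (x⁻¹ * k * x) := by group
    · refine Subgroup.mem_map.mpr ⟨k, hkH, ?_⟩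
      simp [MulAut.conj_apply]
  rw [hbot, Subgroup.mem_bot] at hmem
  apply hk1
  have : k = x * (x⁻¹ * k * x) * x⁻¹ := by group
  rw [this, hmem]; group

theorem map_conj_le_of_eq {x x' : G}
    (h : H.map (MulAut.conj x⁻¹).toMonoidHom = H.map (MulAut.conj x'⁻¹).toMonoidHom)
    {k : G} (hk : k ∈ H) : (x' * x⁻¹) * k * (x' * x⁻¹)⁻¹ ∈ H := by
  have h1 : x⁻¹ * k * x ∈ H.map (MulAut.conj x⁻¹).toMonoidHom := by
    refine Subgroup.mem_map.mpr ⟨k, hk, ?_⟩
    simp [MulAut.conj_apply]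
  rw [h] at h1
  obtain ⟨k', hk', hkk⟩ := Subgroup.mem_map.mp h1
  have h2 : x'⁻¹ * k' * x' = x⁻¹ * k * x := by
    simpa [MulAut.conj_apply] using hkk
  have h3 : (x' * x⁻¹) * k * (x' * x⁻¹)⁻¹ = x' * (x⁻¹ * k * x) * x'⁻¹ := by group
  rw [h3, ← h2]
  have : x' * (x'⁻¹ * k' * x') * x'⁻¹ = k' := by group
  rw [this]; exact hk'

theorem mem_normalizer_of_Dp (hone : OneConj H) {g x x' : G} (hx : Dp H (x * g * x⁻¹))
    (hx' : Dp H (x' * g * x'⁻¹)) : x' * x⁻¹ ∈ Subgroup.normalizer (H : Set G) := by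
  have hg : g ∉ Subgroup.center G := by
    intro hg
    apply hx.1
    have : x * g * x⁻¹ = g := by
      have h2 := Subgroup.mem_center_iff.mp hg x
      rw [h2]; group
    rw [this]; exact hg
  have h1 := hone g hg x⁻¹ x'⁻¹ (inf_ne_bot_of_Dp hx) (inf_ne_bot_of_Dp hx')
  rw [Subgroup.mem_normalizer_iff]
  intro k
  constructor
  · intro hk
    exact map_conj_le_of_eq h1 hk
  · intro hk
    have h2 := map_conj_le_of_eq h1.symm hk
    have h3 : x * x'⁻¹ * (x' * x⁻¹ * k * (x' * x⁻¹)⁻¹) * (x * x'⁻¹)⁻¹ = k := by group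
    rwa [h3] at h2

end FT

end Cfsg.Agent.Lib.Helper2
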