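import Mathlib
import Cfsg.Agent.Lib.Helper2.FT5

set_option autoImplicit false

namespace Cfsg.Agent.Lib.Helper2

namespace FT

open Cfsg.Agent.Lib.Helper1 Cfsg.Agent.Lib.Helper4 Cfsg.Agent.Lib.Helper8
open scoped ComplexConjugate

universe u

variable {G : Type u} [Group G] [Fintype G] {H : Subgroup G}

open Classical in
/-- the number of conjugators moving `g` into the set `Dp`. -/
noncomputable def wt (H : Subgroup G) (g : G) : ℕ :=
  (Finset.univ.filter (fun x : G => Dp H (x * g * x⁻¹))).card

open Classical in
theorem wt_le (hone : OneConj H) (g : G) :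
    wt H g ≤ Nat.card (Subgroup.normalizer (H : Set G)) := by
  unfold wt
  by_cases hemp : (Finset.univ.filter (fun x : G => Dp H (x * g * x⁻¹))) = ∅
  · rw [hemp, Finset.card_empty]; exact Nat.zero_le _
  · obtain ⟨x₀, hx₀⟩ := Finset.nonempty_iff_ne_empty.mpr hemp
    rw [Finset.mem_filter] at hx₀
    have h1 : Nat.card (Subgroup.normalizer (H : Set G))
        = (Finset.univ.filter (fun x : G => x ∈ Subgroup.normalizer (H : Set G))).card := by
      rw [Nat.card_eq_fintype_card, Fintype.card_subtype]
    rw [h1]
    apply Finset.card_le_card_of_injOn (fun x => x * x₀⁻¹)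
    · intro x hx
      have hx' := (Finset.mem_filter.mp hx).2
      simp only [Finset.coe_filter, Finset.mem_univ, true_and, Set.mem_setOf_eq]
      exact mem_normalizer_of_Dp hone hx₀.2 hx'
    · intro x _ y _ hxy
      exact mul_right_cancel hxy

open Classical in
theorem wt_center {g : G} (hg : g ∈ Subgroup.center G) : wt H g = 0 := by
  unfold wt
  rw [Finset.card_eq_zero, Finset.filter_eq_empty_iff]
  intro x _ hD
  apply hD.1
  have : x * g * x⁻¹ = g := by
    have h2 := Subgroup.mem_center_iff.mp hg x
    rw [h2]; group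
  rw [this]; exact hg

open Classical in
theorem sum_wt {F : G → ℝ} (hF : ∀ g x : G, F (x * g * x⁻¹) = F g) :
    ∑ g : G, (wt H g : ℝ) * F g = (Nat.card G : ℝ) * ∑ y : G, if Dp H y then F y else 0 := by
  have h1 : ∀ g : G, (wt H g : ℝ) * F g
      = ∑ x : G, if Dp H (x * g * x⁻¹) then F (x * g * x⁻¹) else 0 := by
    intro g
    unfold wt
    rw [Finset.card_filter]
    push_cast
    rw [Finset.sum_mul]
    refine Finset.sum_congr rfl fun x _ => ?_
    split_ifs
    · rw [one_mul, hF]
    · rw [zero_mul]
  simp only [h1]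
  rw [Finset.sum_comm]
  have h2 : ∀ x : G, ∑ g : G, (if Dp H (x * g * x⁻¹) then F (x * g * x⁻¹) else 0)
      = ∑ y : G, if Dp H y then F y else 0 := by
    intro x
    exact Equiv.sum_comp (MulAut.conj x).toEquiv (fun y => if Dp H y then F y else 0)
  simp only [h2]
  rw [Finset.sum_const, Finset.card_univ, nsmul_eq_mul, Nat.card_eq_fintype_card]

open Classical in
theorem weight_bound (hone : OneConj H) {χ : G → ℂ} (hχ : Cfsg.IsIrrCharacter G χ) :
    (Nat.card G : ℝ) * ∑ y : G, (if Dp H y then Complex.normSq (χ y) else 0)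
      ≤ (Nat.card (Subgroup.normalizer (H : Set G)) : ℝ) *
        ((Nat.card G : ℝ) - (Nat.card (Subgroup.center G) : ℝ) * Complex.normSq (χ 1)) := by
  have hcf := isClassFunction_irr hχ
  have hF : ∀ g x : G, Complex.normSq (χ (x * g * x⁻¹)) = Complex.normSq (χ g) := by
    intro g x; rw [hcf]
  rw [← sum_wt hF]
  have hsum : ∑ g : G, Complex.normSq (χ g) = (Nat.card G : ℝ) := by
    rw [← sum_norm_sq_irr hχ]
    refine Finset.sum_congr rfl fun g _ => ?_
    rw [Complex.normSq_eq_norm_sq]
  have hcen : ∀ z : G, z ∈ Subgroup.center G →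
      Complex.normSq (χ z) = Complex.normSq (χ 1) := by
    intro z hz
    have := norm_eq_of_central_mod_ker hχ z (fun c => by
      have h2 := Subgroup.mem_center_iff.mp hz c
      have : z * c * z⁻¹ * c⁻¹ = 1 := by rw [← h2]; group
      rw [this])
    rw [Complex.normSq_eq_norm_sq, Complex.normSq_eq_norm_sq, this]
  have hZsum : ∑ g : G, (if g ∈ Subgroup.center G then Complex.normSq (χ g) else 0)
      = (Nat.card (Subgroup.center G) : ℝ) * Complex.normSq (χ 1) := by
    have : ∀ g : G, (if g ∈ Subgroup.center G then Complex.normSq (χ g) else 0)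
        = if g ∈ Subgroup.center G then Complex.normSq (χ 1) else 0 := by
      intro g
      split_ifs with h
      · exact hcen g h
      · rfl
    simp only [this]
    rw [← Finset.sum_filter, Finset.sum_const, nsmul_eq_mul, Nat.card_eq_fintype_card,
      Fintype.card_subtype]
  have hle : ∀ g : G, (wt H g : ℝ) * Complex.normSq (χ g)
      ≤ (Nat.card (Subgroup.normalizer (H : Set G)) : ℝ) *
        (Complex.normSq (χ g) - if g ∈ Subgroup.center G then Complex.normSq (χ g) else 0) := by
    intro g
    split_ifs with h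
    · rw [wt_center h]; simp
    · rw [sub_zero]
      apply mul_le_mul_of_nonneg_right _ (Complex.normSq_nonneg _)
      exact_mod_cast wt_le hone g
  calc ∑ g : G, (wt H g : ℝ) * Complex.normSq (χ g)
      ≤ ∑ g : G, (Nat.card (Subgroup.normalizer (H : Set G)) : ℝ) *
        (Complex.normSq (χ g) - if g ∈ Subgroup.center G then Complex.normSq (χ g) else 0) :=
        Finset.sum_le_sum fun g _ => hle g
    _ = (Nat.card (Subgroup.normalizer (H : Set G)) : ℝ) *
        ((Nat.card G : ℝ) - (Nat.card (Subgroup.center G) : ℝ) * Complex.normSq (χ 1)) := by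
        rw [← Finset.mul_sum, Finset.sum_sub_distrib, hsum, hZsum]

end FT

end Cfsg.Agent.Lib.Helper2
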