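import Mathlib
import Cfsg.Agent.Lib.Helper2.FT6
import Cfsg.Agent.Lib.Helper1.CharCenter
import Cfsg.Agent.S0148

set_option autoImplicit false

namespace Cfsg.Agent.Lib.Helper2

namespace FT

open Cfsg.Agent.Lib.Helper1 Cfsg.Agent.Lib.Helper4 Cfsg.Agent.Lib.Helper8
open scoped ComplexConjugate

universe u

variable {G : Type u} [Group G]

/-- central elements act by a scalar of absolute value one. -/
theorem central_mul [Finite G] {χ : G → ℂ} (hχ : Cfsg.IsIrrCharacter G χ) {z : G}
    (hz : z ∈ Subgroup.center G) :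
    Complex.normSq (χ z / χ 1) = 1 ∧ ∀ y : G, χ (z * y) = (χ z / χ 1) * χ y := by
  have h1 : ‖χ z‖ = ‖χ 1‖ := norm_eq_of_central_mod_ker hχ z (fun c => by
    have h2 := Subgroup.mem_center_iff.mp hz c
    have : z * c * z⁻¹ * c⁻¹ = 1 := by rw [← h2]; group
    rw [this])
  have hχ1 : χ 1 ≠ 0 := irr_apply_one_ne_zero hχ
  refine ⟨?_, ?_⟩
  · rw [Complex.normSq_eq_norm_sq, norm_div, h1, div_self (norm_ne_zero_iff.mpr hχ1), one_pow]
  · obtain ⟨n, ρ, hirr, rfl⟩ := hχ
    intro y
    have h2 := central_eq_char ρ hz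
    rw [Representation.char_one]
    set c := ρ.character z / (Module.finrank ℂ (Fin n → ℂ) : ℂ) with hc
    show LinearMap.trace ℂ _ (ρ (z * y)) = c * LinearMap.trace ℂ _ (ρ y)
    rw [map_mul, h2, smul_mul_assoc, map_smul, smul_eq_mul]
    congr 1

variable [Fintype G] {H : Subgroup G}

/-- commuting with a nontrivial element of `H`. -/
def FixG (H : Subgroup G) (y : G) : Prop := ∃ h ∈ H, h ≠ 1 ∧ h * y = y * h

omit [Fintype G] in
theorem fix_iff (x : Subgroup.normalizer (H : Set G)) :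
    Fix (H.subgroupOf (Subgroup.normalizer (H : Set G))) x ↔ FixG H (x : G) := by
  constructor
  · rintro ⟨k, hk, hk1, hkx⟩
    refine ⟨(k : G), Subgroup.mem_subgroupOf.mp hk, ?_, ?_⟩
    · intro h; apply hk1; exact Subtype.ext h
    · have := congrArg Subtype.val hkx
      simpa using this
  · rintro ⟨h, hh, h1, hx⟩
    refine ⟨⟨h, Subgroup.le_normalizer hh⟩, Subgroup.mem_subgroupOf.mpr hh, ?_, ?_⟩
    · intro h2; apply h1; exact congrArg Subtype.val h2
    · apply Subtype.ext; exact hx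

end FT

end Cfsg.Agent.Lib.Helper2
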