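import Mathlib
import Cfsg.Agent.Lib.Helper2.FT7

set_option autoImplicit false

namespace Cfsg.Agent.Lib.Helper2

namespace FT

open Cfsg.Agent.Lib.Helper1 Cfsg.Agent.Lib.Helper4 Cfsg.Agent.Lib.Helper8
open scoped ComplexConjugate

universe u

variable {G : Type u} [Group G] [Fintype G] {H : Subgroup G}

open Classical in
theorem partA [Fintype H] (hab : ∀ a ∈ H, ∀ b ∈ H, a * b = b * a)
    (hZ : H ⊓ Subgroup.center G = ⊥) (hone : OneConj H) {χ : G → ℂ}
    (hχ : Cfsg.IsIrrCharacter G χ) (hker : ∃ h ∈ H, χ h ≠ χ 1) :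
    (Nat.card H : ℝ) * Complex.normSq (Cfsg.classInner (fun h : H => χ h) (fun _ => 1))
      < Complex.normSq (χ 1) := by
  set N := Subgroup.normalizer (H : Set G) with hN
  have hHN : H ≤ N := Subgroup.le_normalizer
  have hZN : Subgroup.center G ≤ N := Subgroup.center_le_normalizer _
  set K := H.subgroupOf N with hK
  set Zc := (Subgroup.center G).subgroupOf N with hZc
  let ξ : N → ℂ := fun x => χ (x : G)
  have hξ : Cfsg.IsCharacter N ξ := Cfsg.Agent.S0148.isCharacter_restrict N (isCharacter_of_irr hχ)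
  let eK : K ≃* H := Subgroup.subgroupOfEquivOfLe hHN
  let eZ : Zc ≃* Subgroup.center G := Subgroup.subgroupOfEquivOfLe hZN
  have hcardK : Nat.card K = Nat.card H := Nat.card_congr eK.toEquiv
  have hcardZ : Nat.card Zc = Nat.card (Subgroup.center G) := Nat.card_congr eZ.toEquiv
  -- β 1 = c
  have hβ1 : avg K ξ 1 = Cfsg.classInner (fun h : H => χ h) (fun _ => 1) := by
    rw [avg_apply, classInner_def, hcardK]
    congr 1
    rw [← Equiv.sum_comp eK.toEquiv (fun h : H => χ (h : G) * conj (1 : ℂ))]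
    refine Finset.sum_congr rfl fun k _ => ?_
    simp only [map_one, mul_one, one_mul]
    rfl
  -- ξ ≠ avg ξ
  obtain ⟨h₀, hh₀, hχh₀⟩ := hker
  have hh₀1 : h₀ ≠ 1 := by
    intro h; rw [h] at hχh₀; exact hχh₀ rfl
  have hne : ξ ≠ avg K ξ := by
    intro h
    have h1 := avg_mul_right K ξ 1 ⟨⟨h₀, hHN hh₀⟩, Subgroup.mem_subgroupOf.mpr hh₀⟩
    rw [← h] at h1
    apply hχh₀
    have h2 : ξ (1 * (⟨h₀, hHN hh₀⟩ : N)) = χ h₀ := by
      show χ (((1 : N) * (⟨h₀, hHN hh₀⟩ : N) : N) : G) = χ h₀
      simp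
    have h3 : ξ 1 = χ 1 := rfl
    rw [← h2, ← h3]
    exact h1
  -- the set T
  let T : Finset N := Finset.image (fun p : K × Zc => ((p.1 : N) * (p.2 : N))) Finset.univ
  have hinj : Function.Injective (fun p : K × Zc => ((p.1 : N) * (p.2 : N))) := by
    rintro ⟨k₁, z₁⟩ ⟨k₂, z₂⟩ h
    have h1 : ((k₁ : N) : G) * ((z₁ : N) : G) = ((k₂ : N) : G) * ((z₂ : N) : G) := by
      have := congrArg Subtype.val h
      simpa using this
    have hk₁ : ((k₁ : N) : G) ∈ H := Subgroup.mem_subgroupOf.mp k₁.2
    have hk₂ : ((k₂ : N) : G) ∈ H := Subgroup.mem_subgroupOf.mp k₂.2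
    have hz₁ : ((z₁ : N) : G) ∈ Subgroup.center G := Subgroup.mem_subgroupOf.mp z₁.2
    have hz₂ : ((z₂ : N) : G) ∈ Subgroup.center G := Subgroup.mem_subgroupOf.mp z₂.2
    have h2 : ((k₂ : N) : G)⁻¹ * ((k₁ : N) : G) = ((z₂ : N) : G) * ((z₁ : N) : G)⁻¹ := by
      calc ((k₂ : N) : G)⁻¹ * ((k₁ : N) : G)
          = ((k₂ : N) : G)⁻¹ * (((k₁ : N) : G) * ((z₁ : N) : G)) * ((z₁ : N) : G)⁻¹ := by group
        _ = ((k₂ : N) : G)⁻¹ * (((k₂ : N) : G) * ((z₂ : N) : G)) * ((z₁ : N) : G)⁻¹ := by rw [h1]
        _ = ((z₂ : N) : G) * ((z₁ : N) : G)⁻¹ := by group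
    have h3 : ((k₂ : N) : G)⁻¹ * ((k₁ : N) : G) ∈ H ⊓ Subgroup.center G := by
      refine Subgroup.mem_inf.mpr ⟨H.mul_mem (H.inv_mem hk₂) hk₁, ?_⟩
      rw [h2]
      exact (Subgroup.center G).mul_mem hz₂ ((Subgroup.center G).inv_mem hz₁)
    rw [hZ, Subgroup.mem_bot] at h3
    have h4 : ((k₁ : N) : G) = ((k₂ : N) : G) := by
      have : ((k₁ : N) : G) = ((k₂ : N) : G) * (((k₂ : N) : G)⁻¹ * ((k₁ : N) : G)) := by group
      rw [this, h3, mul_one]
    have h5 : ((z₁ : N) : G) = ((z₂ : N) : G) := by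
      rw [h4] at h1
      exact mul_left_cancel h1
    have e1 : k₁ = k₂ := Subtype.ext (Subtype.ext h4)
    have e2 : z₁ = z₂ := Subtype.ext (Subtype.ext h5)
    rw [e1, e2]
  have hTcard : T.card = Nat.card H * Nat.card (Subgroup.center G) := by
    rw [Finset.card_image_of_injective _ hinj, Finset.card_univ, Fintype.card_prod,
      ← Nat.card_eq_fintype_card, ← Nat.card_eq_fintype_card, hcardK, hcardZ]
  have hT : ∀ x ∈ T, Fix K x := by
    intro x hx
    obtain ⟨⟨k, z⟩, -, rfl⟩ := Finset.mem_image.mp hx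
    rw [fix_iff]
    refine ⟨h₀, hh₀, hh₀1, ?_⟩
    have hk : ((k : N) : G) ∈ H := Subgroup.mem_subgroupOf.mp k.2
    have hz : ((z : N) : G) ∈ Subgroup.center G := Subgroup.mem_subgroupOf.mp z.2
    show h₀ * (((k : N) : G) * ((z : N) : G)) = (((k : N) : G) * ((z : N) : G)) * h₀
    have h1 := hab h₀ hh₀ _ hk
    have h2 := Subgroup.mem_center_iff.mp hz h₀
    calc h₀ * (((k : N) : G) * ((z : N) : G)) = (h₀ * ((k : N) : G)) * ((z : N) : G) := by group
      _ = (((k : N) : G) * h₀) * ((z : N) : G) := by rw [h1]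
      _ = ((k : N) : G) * (h₀ * ((z : N) : G)) := by group
      _ = ((k : N) : G) * (((z : N) : G) * h₀) := by rw [h2]
      _ = (((k : N) : G) * ((z : N) : G)) * h₀ := by group
  have hTc : ∀ x ∈ T, Complex.normSq (avg K ξ x) = Complex.normSq (avg K ξ 1) := by
    intro x hx
    obtain ⟨⟨k, z⟩, -, rfl⟩ := Finset.mem_image.mp hx
    have hz : ((z : N) : G) ∈ Subgroup.center G := Subgroup.mem_subgroupOf.mp z.2
    have hcomm : (k : N) * (z : N) = (z : N) * (k : N) := by
      apply Subtype.ext
      show ((k : N) : G) * ((z : N) : G) = ((z : N) : G) * ((k : N) : G)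
      exact (Subgroup.mem_center_iff.mp hz _)
    show Complex.normSq (avg K ξ ((k : N) * (z : N))) = _
    rw [hcomm, avg_mul_right]
    obtain ⟨hω1, hω⟩ := central_mul hχ hz
    have h1 : avg K ξ (z : N) = (χ ((z : N) : G) / χ 1) * avg K ξ 1 := by
      rw [avg_apply, avg_apply]
      have : ∀ k' : K, ξ ((z : N) * (k' : N)) = (χ ((z : N) : G) / χ 1) * ξ (1 * (k' : N)) := by
        intro k'
        show χ (((z : N) : G) * ((k' : N) : G)) = _ * χ (((1 : N) : G) * ((k' : N) : G))
        rw [hω]; simp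
      simp only [this]
      rw [← Finset.mul_sum]; ring
    rw [h1, Complex.normSq_mul, hω1, one_mul]
  have hlow := lower_bound K hξ hne T hT hTc
  rw [hTcard, hβ1] at hlow
  -- transfer the sum to G
  have htrans : (∑ x : N, if Fix K x then Complex.normSq (ξ x) else 0)
      ≤ (∑ y : G, if Dp H y then Complex.normSq (χ y) else 0)
        + (Nat.card (Subgroup.center G) : ℝ) * Complex.normSq (χ 1) := by
    have h1 : (∑ x : N, if Fix K x then Complex.normSq (ξ x) else 0)
        = ∑ x : N, (fun y : G => if FixG H y then Complex.normSq (χ y) else 0) (x : G) := by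
      refine Finset.sum_congr rfl fun x _ => ?_
      exact if_congr (fix_iff x) rfl rfl
    rw [h1]
    have h2 : ∑ x : N, (fun y : G => if FixG H y then Complex.normSq (χ y) else 0) (x : G)
        = ∑ y ∈ Finset.univ.filter (· ∈ N), if FixG H y then Complex.normSq (χ y) else 0 :=
      (Finset.sum_subtype (Finset.univ.filter (· ∈ N)) (fun x => by simp)
        (fun y : G => if FixG H y then Complex.normSq (χ y) else 0)).symm
    rw [h2]
    have h3 : ∑ y ∈ Finset.univ.filter (· ∈ N), (if FixG H y then Complex.normSq (χ y) else 0)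
        ≤ ∑ y : G, if FixG H y then Complex.normSq (χ y) else 0 := by
      apply Finset.sum_le_sum_of_subset_of_nonneg (Finset.subset_univ _)
      intro y _ _
      split_ifs
      · exact Complex.normSq_nonneg _
      · exact le_refl _
    have hcen : ∀ z : G, z ∈ Subgroup.center G →
        Complex.normSq (χ z) = Complex.normSq (χ 1) := by
      intro z hz
      have := (central_mul hχ hz).2 1
      rw [mul_one] at this
      have h5 := (central_mul hχ hz).1
      have hχ1 : χ 1 ≠ 0 := irr_apply_one_ne_zero hχ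
      rw [Complex.normSq_div] at h5
      have h6 : Complex.normSq (χ 1) ≠ 0 := by
        intro h0; exact hχ1 (Complex.normSq_eq_zero.mp h0)
      field_simp at h5
      exact h5
    have hZsum : ∑ g : G, (if g ∈ Subgroup.center G then Complex.normSq (χ g) else 0)
        = (Nat.card (Subgroup.center G) : ℝ) * Complex.normSq (χ 1) := by
      have : ∀ g : G, (if g ∈ Subgroup.center G then Complex.normSq (χ g) else 0)
          = if g ∈ Subgroup.center G then Complex.normSq (χ 1) else 0 := by
        intro g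
        split_ifs with h
        · exact hcen g h
        · rfl
      simp only [this]
      rw [← Finset.sum_filter, Finset.sum_const, nsmul_eq_mul, Nat.card_eq_fintype_card,
        Fintype.card_subtype]
    rw [← hZsum, ← Finset.sum_add_distrib]
    refine le_trans h3 (Finset.sum_le_sum fun y _ => ?_)
    by_cases hf : FixG H y
    · rw [if_pos hf]
      by_cases hc : y ∈ Subgroup.center G
      · rw [if_pos hc]
        have : (0 : ℝ) ≤ if Dp H y then Complex.normSq (χ y) else 0 := by
          split_ifs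
          · exact Complex.normSq_nonneg _
          · exact le_refl _
        linarith
      · rw [if_neg hc, if_pos ⟨hc, hf⟩, add_zero]
    · rw [if_neg hf]
      have h5 : (0 : ℝ) ≤ if Dp H y then Complex.normSq (χ y) else 0 := by
        split_ifs
        · exact Complex.normSq_nonneg _
        · exact le_refl _
      have h6 : (0 : ℝ) ≤ if y ∈ Subgroup.center G then Complex.normSq (χ y) else 0 := by
        split_ifs
        · exact Complex.normSq_nonneg _
        · exact le_refl _
      linarith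
  have hw := weight_bound hone hχ
  -- arithmetic
  set SD := ∑ y : G, if Dp H y then Complex.normSq (χ y) else 0 with hSD
  set c2 := Complex.normSq (Cfsg.classInner (fun h : H => χ h) (fun _ => 1)) with hc2
  set n2 := Complex.normSq (χ 1) with hn2
  have hn2pos : 0 < n2 := Complex.normSq_pos.mpr (irr_apply_one_ne_zero hχ)
  have hGpos : (0 : ℝ) < Nat.card G := by exact_mod_cast Nat.card_pos
  have hNpos : (0 : ℝ) < Nat.card N := by exact_mod_cast Nat.card_pos
  have hZpos : (0 : ℝ) < Nat.card (Subgroup.center G) := by exact_mod_cast Nat.card_pos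
  have hHpos : (0 : ℝ) < Nat.card H := by exact_mod_cast Nat.card_pos
  push_cast at hlow
  have h1 : (Nat.card N : ℝ) + (Nat.card H : ℝ) * (Nat.card (Subgroup.center G) : ℝ) * c2
      - (Nat.card (Subgroup.center G) : ℝ) * n2 ≤ SD := by linarith
  have h2 : (Nat.card G : ℝ) * ((Nat.card N : ℝ)
      + (Nat.card H : ℝ) * (Nat.card (Subgroup.center G) : ℝ) * c2
      - (Nat.card (Subgroup.center G) : ℝ) * n2) ≤ (Nat.card G : ℝ) * SD :=
    mul_le_mul_of_nonneg_left h1 hGpos.le
  have h3 : (Nat.card G : ℝ) * (Nat.card (Subgroup.center G) : ℝ) * ((Nat.card H : ℝ) * c2 - n2)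
      ≤ -((Nat.card N : ℝ) * (Nat.card (Subgroup.center G) : ℝ) * n2) := by nlinarith
  have h4 : (Nat.card H : ℝ) * c2 - n2 < 0 := by
    by_contra hcon
    push Not at hcon
    have h5 : 0 ≤ (Nat.card G : ℝ) * (Nat.card (Subgroup.center G) : ℝ)
        * ((Nat.card H : ℝ) * c2 - n2) := by positivity
    have h6 : 0 < (Nat.card N : ℝ) * (Nat.card (Subgroup.center G) : ℝ) * n2 := by positivity
    linarith
  linarith

end FT

end Cfsg.Agent.Lib.Helper2
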