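import Mathlib
import Cfsg.Agent.Lib.Helper2.FT8
import Cfsg.Agent.S0187
import Cfsg.Agent.S0139
import Cfsg.Agent.S0177

set_option autoImplicit false

namespace Cfsg.Agent.Lib.Helper2

namespace FT

open Cfsg.Agent.Lib.Helper1 Cfsg.Agent.Lib.Helper4 Cfsg.Agent.Lib.Helper8
open scoped ComplexConjugate

universe u

/-- for an abelian group, the norm of a character is at least its degree. -/
theorem inner_self_ge {A : Type u} [Group A] [Fintype A] (hcomm : ∀ a b : A, a * b = b * a)
    {θ : A → ℂ} (hθ : Cfsg.IsCharacter A θ) :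
    ∃ n a : ℕ, θ 1 = n ∧ Cfsg.classInner θ θ = a ∧ n ≤ a := by
  classical
  have : Fintype (Cfsg.IrrCharacter A) := Fintype.ofFinite _
  have hcf := isClassFunction_of_isCharacter hθ
  have hm : ∀ ψ : Cfsg.IrrCharacter A, ∃ m : ℕ, Cfsg.classInner θ ψ = m :=
    fun ψ => classInner_char_irr_nat hθ ψ.2
  choose m hm using hm
  have hlin := (Cfsg.Agent.S0187.result (G := A)).1 hcomm
  have hexp := class_function_expansion θ hcf
  refine ⟨∑ ψ, m ψ, ∑ ψ, m ψ * m ψ, ?_, ?_, ?_⟩
  · have h1 := congrFun hexp 1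
    rw [Finset.sum_apply] at h1
    rw [h1]
    push_cast
    refine Finset.sum_congr rfl fun ψ _ => ?_
    rw [Pi.smul_apply, smul_eq_mul, hm, hlin ψ, mul_one]
  · rw [classInner_eq_sum_mult θ θ hcf]
    push_cast
    refine Finset.sum_congr rfl fun ψ _ => ?_
    have h2 : Cfsg.classInner (ψ : A → ℂ) θ = m ψ := by
      rw [← classInner_conj_symm, hm ψ, Complex.conj_natCast]
    rw [hm, h2]
  · apply Finset.sum_le_sum
    intro ψ _
    exact Nat.le_mul_self _

variable {G : Type u} [Group G] [Fintype G] {H : Subgroup G}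

theorem exists_ne_of_ne_one (hnorm : ∀ M : Subgroup G, M.Normal → H ≤ M → M = ⊤)
    {ψ : G → ℂ} (hψ : Cfsg.IsIrrCharacter G ψ) (hne : ψ ≠ fun _ => 1) :
    ∃ h ∈ H, ψ h ≠ ψ 1 := by
  by_contra hcon
  push Not at hcon
  apply hne
  have hψ' := hψ
  obtain ⟨n, ρ, hirr, rfl⟩ := hψ
  have hker : (ρ : G →* ((Fin n → ℂ) →ₗ[ℂ] (Fin n → ℂ))).ker = ⊤ := by
    apply hnorm _ (MonoidHom.normal_ker _)
    intro h hh
    rw [MonoidHom.mem_ker]
    have h1 := hcon h hh
    rw [Representation.char_one] at h1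
    exact (Cfsg.Agent.S0139.result ρ h).mp h1
  have hall : ∀ g : G, ρ.character g = ρ.character 1 := by
    intro g
    have : g ∈ (ρ : G →* ((Fin n → ℂ) →ₗ[ℂ] (Fin n → ℂ))).ker := by rw [hker]; trivial
    rw [MonoidHom.mem_ker] at this
    rw [Representation.char_one]
    exact (Cfsg.Agent.S0139.result ρ g).mpr this
  have h1irr : Cfsg.IsIrrCharacter G (fun _ : G => (1 : ℂ)) := by
    have := isIrrCharacter_of_hom (1 : G →* ℂˣ)
    simpa using this
  by_contra hne2
  have horth := classInner_irr_ne hψ' h1irr hne2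
  rw [classInner_def] at horth
  have hG : (Nat.card G : ℂ) ≠ 0 := Nat.cast_ne_zero.2 Nat.card_pos.ne'
  have h2 : ∑ g : G, ρ.character g * conj (1 : ℂ) = (Nat.card G : ℂ) * ρ.character 1 := by
    simp only [hall, map_one, mul_one]
    rw [Finset.sum_const, Finset.card_univ, nsmul_eq_mul, Nat.card_eq_fintype_card]
  rw [h2, ← mul_assoc, inv_mul_cancel₀ hG, one_mul] at horth
  exact irr_apply_one_ne_zero hψ' horth

end FT

end Cfsg.Agent.Lib.Helper2
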