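import Mathlib
import Cfsg.Agent.Lib.Helper2.FT9

set_option autoImplicit false

namespace Cfsg.Agent.Lib.Helper2

namespace FT

open Cfsg.Agent.Lib.Helper1 Cfsg.Agent.Lib.Helper4 Cfsg.Agent.Lib.Helper8
open scoped ComplexConjugate

universe u

variable {G : Type u} [Group G] [Fintype G] {H : Subgroup G}

theorem partB [Fintype H] (hab : ∀ a ∈ H, ∀ b ∈ H, a * b = b * a)
    (hA : ∀ ψ : G → ℂ, Cfsg.IsIrrCharacter G ψ → (∃ h ∈ H, ψ h ≠ ψ 1) →
      (Nat.card H : ℝ) * Complex.normSq (Cfsg.classInner (fun h : H => ψ h) (fun _ => 1))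
        < Complex.normSq (ψ 1))
    (hnorm : ∀ M : Subgroup G, M.Normal → H ≤ M → M = ⊤)
    {χ : G → ℂ} (hχ : Cfsg.IsIrrCharacter G χ) (hχ1 : χ 1 ≠ 1) :
    (Nat.card H : ℝ) < (1 + (χ 1).re) ^ 2 := by
  classical
  have : Fintype (Cfsg.IrrCharacter G) := Fintype.ofFinite _
  obtain ⟨n, hn0, hn⟩ := irr_apply_one_pos hχ
  have hn2 : 2 ≤ n := by
    have : n ≠ 1 := by
      intro h; apply hχ1; rw [hn, h]; simp
    omega
  have hχc : Cfsg.IsCharacter G χ := isCharacter_of_irr hχ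
  have hχbar : Cfsg.IsCharacter G (fun g => conj (χ g)) := isCharacter_of_irr (isIrrCharacter_conj hχ)
  set φ : G → ℂ := χ * (fun g => conj (χ g)) with hφdef
  have hφ : Cfsg.IsCharacter G φ := Cfsg.Agent.S0177.isCharacter_mul hχc hχbar
  have hφcf := isClassFunction_of_isCharacter hφ
  have h1irrH : Cfsg.IsIrrCharacter H (fun _ : H => (1 : ℂ)) := by
    have := isIrrCharacter_of_hom (1 : H →* ℂˣ)
    simpa using this
  have h1irr : Cfsg.IsIrrCharacter G (fun _ : G => (1 : ℂ)) := by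
    have := isIrrCharacter_of_hom (1 : G →* ℂˣ)
    simpa using this
  -- the numbers
  have hb : ∀ ψ : Cfsg.IrrCharacter G, ∃ b : ℕ, Cfsg.classInner φ ψ = b :=
    fun ψ => classInner_char_irr_nat hφ ψ.2
  choose b hb using hb
  have hd : ∀ ψ : Cfsg.IrrCharacter G, ∃ d : ℕ, 0 < d ∧ (ψ : G → ℂ) 1 = d :=
    fun ψ => irr_apply_one_pos ψ.2
  choose d hdpos hd using hd
  have hc : ∀ ψ : Cfsg.IrrCharacter G, ∃ c : ℕ,
      Cfsg.classInner (fun h : H => (ψ : G → ℂ) h) (fun _ => 1) = c :=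
    fun ψ => classInner_char_irr_nat
      (Cfsg.Agent.S0148.isCharacter_restrict H (isCharacter_of_irr ψ.2)) h1irrH
  choose c hc using hc
  let χ₀ : Cfsg.IrrCharacter G := ⟨fun _ => 1, h1irr⟩
  have hexp := class_function_expansion φ hφcf
  -- b χ₀ = 1
  have hb0 : b χ₀ = 1 := by
    have h1 : Cfsg.classInner φ (χ₀ : G → ℂ) = Cfsg.classInner χ χ := by
      rw [classInner_def, classInner_def]
      congr 1
      refine Finset.sum_congr rfl fun g _ => ?_
      show (χ g * conj (χ g)) * conj (1 : ℂ) = χ g * conj (χ g)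
      rw [map_one, mul_one]
    rw [hb, classInner_irr_self hχ] at h1
    exact_mod_cast h1
  have hd0 : d χ₀ = 1 := by
    have := hd χ₀
    have h2 : (χ₀ : G → ℂ) 1 = 1 := rfl
    rw [h2] at this
    exact_mod_cast this.symm
  have hc0 : c χ₀ = 1 := by
    have := hc χ₀
    have h2 : Cfsg.classInner (fun h : H => (χ₀ : G → ℂ) h) (fun _ => 1) = 1 :=
      classInner_irr_self h1irrH
    rw [h2] at this
    exact_mod_cast this.symm
  -- E1
  have E1 : n * n = ∑ ψ, b ψ * d ψ := by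
    have h1 := congrFun hexp 1
    rw [Finset.sum_apply] at h1
    have h2 : φ 1 = (n : ℂ) * n := by
      show χ 1 * conj (χ 1) = _
      rw [hn, Complex.conj_natCast]
    rw [h2] at h1
    have h3 : ∑ ψ : Cfsg.IrrCharacter G, (Cfsg.classInner φ ψ • (ψ : G → ℂ)) 1
        = ((∑ ψ, b ψ * d ψ : ℕ) : ℂ) := by
      push_cast
      refine Finset.sum_congr rfl fun ψ _ => ?_
      rw [Pi.smul_apply, smul_eq_mul, hb, hd]
    rw [h3] at h1
    exact_mod_cast h1
  -- E2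
  have hcommH : ∀ a b : H, a * b = b * a := fun a b => Subtype.ext (hab a a.2 b b.2)
  obtain ⟨n', A, hn', hA', hnA⟩ := inner_self_ge hcommH
    (Cfsg.Agent.S0148.isCharacter_restrict H hχc)
  have hnn' : n' = n := by
    have : ((n' : ℕ) : ℂ) = (n : ℂ) := by rw [← hn', ← hn]; rfl
    exact_mod_cast this
  rw [hnn'] at hnA
  have E2 : A = ∑ ψ, b ψ * c ψ := by
    have h1 : Cfsg.classInner (fun h : H => φ h) (fun _ => 1)
        = Cfsg.classInner (fun h : H => χ h) (fun h : H => χ h) := by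
      rw [classInner_def, classInner_def]
      congr 1
      refine Finset.sum_congr rfl fun g _ => ?_
      show (χ g * conj (χ g)) * conj (1 : ℂ) = χ g * conj (χ g)
      rw [map_one, mul_one]
    have h2 : (fun h : H => φ h) = ∑ ψ : Cfsg.IrrCharacter G,
        (b ψ : ℂ) • (fun h : H => (ψ : G → ℂ) h) := by
      funext h
      have := congrFun hexp (h : G)
      rw [Finset.sum_apply] at this
      rw [this, Finset.sum_apply]
      refine Finset.sum_congr rfl fun ψ _ => ?_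
      rw [Pi.smul_apply, Pi.smul_apply, hb]
    rw [h2, classInner_sum_left] at h1
    simp only [classInner_smul_left, hc] at h1
    rw [hA'] at h1
    have h3 : ((∑ ψ, b ψ * c ψ : ℕ) : ℂ) = (A : ℂ) := by
      push_cast; exact h1
    exact_mod_cast h3.symm
  -- the key estimate
  set s := Real.sqrt (Nat.card H : ℝ) with hs
  have hs0 : 0 ≤ s := Real.sqrt_nonneg _
  have hs2 : s ^ 2 = (Nat.card H : ℝ) := Real.sq_sqrt (by positivity)
  have hkey : ∀ ψ : Cfsg.IrrCharacter G, ψ ≠ χ₀ → (c ψ : ℝ) * s < d ψ := by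
    intro ψ hne
    have hne' : (ψ : G → ℂ) ≠ fun _ => 1 := fun h => hne (Subtype.ext h)
    have h1 := hA ψ ψ.2 (exists_ne_of_ne_one hnorm ψ.2 hne')
    rw [hc, hd, Complex.normSq_natCast, Complex.normSq_natCast] at h1
    apply lt_of_pow_lt_pow_left₀ 2 (by positivity)
    rw [mul_pow, hs2]
    nlinarith
  -- split off χ₀
  have S1 : ∑ ψ, b ψ * d ψ = 1 + ∑ ψ ∈ Finset.univ.erase χ₀, b ψ * d ψ := by
    rw [← Finset.add_sum_erase Finset.univ _ (Finset.mem_univ χ₀), hb0, hd0]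
  have S2 : ∑ ψ, b ψ * c ψ = 1 + ∑ ψ ∈ Finset.univ.erase χ₀, b ψ * c ψ := by
    rw [← Finset.add_sum_erase Finset.univ _ (Finset.mem_univ χ₀), hb0, hc0]
  have hex : ∃ ψ ∈ Finset.univ.erase χ₀, 0 < b ψ := by
    by_contra hcon
    push Not at hcon
    have : ∑ ψ ∈ Finset.univ.erase χ₀, b ψ * d ψ = 0 := by
      apply Finset.sum_eq_zero
      intro ψ hψ
      have := hcon ψ hψ
      have h0 : b ψ = 0 := by omega
      rw [h0, zero_mul]
    rw [this] at S1
    have : n * n = 1 := by rw [E1, S1]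
    nlinarith
  have hlt : ∑ ψ ∈ Finset.univ.erase χ₀, ((b ψ * c ψ : ℕ) : ℝ) * s
      < ∑ ψ ∈ Finset.univ.erase χ₀, ((b ψ * d ψ : ℕ) : ℝ) := by
    apply Finset.sum_lt_sum
    · intro ψ hψ
      have h1 := hkey ψ (Finset.ne_of_mem_erase hψ)
      push_cast
      have hb0' : (0 : ℝ) ≤ b ψ := by positivity
      nlinarith
    · obtain ⟨ψ, hψ, hbpos⟩ := hex
      refine ⟨ψ, hψ, ?_⟩
      have h1 := hkey ψ (Finset.ne_of_mem_erase hψ)
      push_cast
      have hb0' : (0 : ℝ) < b ψ := by exact_mod_cast hbpos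
      nlinarith
  rw [← Finset.sum_mul] at hlt
  have hA1 : ((∑ ψ ∈ Finset.univ.erase χ₀, b ψ * c ψ : ℕ) : ℝ) = (A : ℝ) - 1 := by
    have : A = 1 + ∑ ψ ∈ Finset.univ.erase χ₀, b ψ * c ψ := by rw [E2, S2]
    rw [this]; push_cast; ring
  have hN1 : ((∑ ψ ∈ Finset.univ.erase χ₀, b ψ * d ψ : ℕ) : ℝ) = (n : ℝ) * n - 1 := by
    have : n * n = 1 + ∑ ψ ∈ Finset.univ.erase χ₀, b ψ * d ψ := by rw [E1, S1]
    have h2 : ((n * n : ℕ) : ℝ) = ((1 + ∑ ψ ∈ Finset.univ.erase χ₀, b ψ * d ψ : ℕ) : ℝ) := by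
      rw [this]
    push_cast at h2 ⊢
    linarith
  have hlt' : ((A : ℝ) - 1) * s < (n : ℝ) * n - 1 := by
    rw [← hA1, ← hN1]
    push_cast at hlt ⊢
    exact hlt
  have hnA' : (n : ℝ) ≤ A := by exact_mod_cast hnA
  have hn2' : (2 : ℝ) ≤ n := by exact_mod_cast hn2
  have hslt : s < (n : ℝ) + 1 := by
    by_contra hcon
    push Not at hcon
    have h1 : ((n : ℝ) - 1) * ((n : ℝ) + 1) ≤ ((A : ℝ) - 1) * s := by
      have h2 : ((n : ℝ) - 1) ≤ (A : ℝ) - 1 := by linarith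
      have h3 : (0 : ℝ) ≤ (n : ℝ) - 1 := by linarith
      calc ((n : ℝ) - 1) * ((n : ℝ) + 1) ≤ ((n : ℝ) - 1) * s :=
            mul_le_mul_of_nonneg_left hcon h3
        _ ≤ ((A : ℝ) - 1) * s := mul_le_mul_of_nonneg_right h2 hs0
    nlinarith
  have hre : (χ 1).re = n := by rw [hn]; simp
  rw [hre, ← hs2]
  have : s ^ 2 < ((n : ℝ) + 1) ^ 2 := pow_lt_pow_left₀ hslt hs0 (by norm_num)
  linarith [this]

end FT

end Cfsg.Agent.Lib.Helper2
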