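import Cfsg.Agent.Lib.Helper2.Fi23Out5m

set_option autoImplicit false
set_option maxRecDepth 100000

/-! # The group `Fi23`: the inverse letters and the two verified stabilizer chains -/

namespace Cfsg.Agent.Lib.Helper2.Fi23Out

open Cfsg.Spor Cfsg.Agent.Lib.Helper6.TC Cfsg.Agent.Lib.Helper6.PM Cfsg.Agent.Lib.Helper2.PMS
open Cfsg.Agent.Lib.Helper2.PMC Cfsg.Agent.Lib.Helper5.Chain Cfsg.Agent.Lib.Helper5.Srch

set_option Elab.async false

/-! One letter in each check: a second loop over the points in the same declaration is quadratic in the kernel. -/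

theorem chk_inv_0 : chkRange (chkInv1 M iv) 0 1 = true := by decide +kernel
theorem chk_inv_1 : chkRange (chkInv1 M iv) 1 1 = true := by decide +kernel
theorem chk_inv_2 : chkRange (chkInv1 M iv) 2 1 = true := by decide +kernel
theorem chk_inv_3 : chkRange (chkInv1 M iv) 3 1 = true := by decide +kernel
theorem chk_inv_4 : chkRange (chkInv1 M iv) 4 1 = true := by decide +kernel
theorem chk_inv_5 : chkRange (chkInv1 M iv) 5 1 = true := by decide +kernel
theorem chk_inv_6 : chkRange (chkInv1 M iv) 6 1 = true := by decide +kernel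
theorem chk_inv_7 : chkRange (chkInv1 M iv) 7 1 = true := by decide +kernel
theorem chk_inv_8 : chkRange (chkInv1 M iv) 8 1 = true := by decide +kernel
theorem chk_inv_9 : chkRange (chkInv1 M iv) 9 1 = true := by decide +kernel
theorem chk_inv_10 : chkRange (chkInv1 M iv) 10 1 = true := by decide +kernel
theorem chk_inv_11 : chkRange (chkInv1 M iv) 11 1 = true := by decide +kernel
theorem chk_inv_12 : chkRange (chkInv1 M iv) 12 1 = true := by decide +kernel
theorem chk_inv_13 : chkRange (chkInv1 M iv) 13 1 = true := by decide +kernel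
theorem chk_inv_14 : chkRange (chkInv1 M iv) 14 1 = true := by decide +kernel
theorem chk_inv_15 : chkRange (chkInv1 M iv) 15 1 = true := by decide +kernel
theorem chk_inv_16 : chkRange (chkInv1 M iv) 16 1 = true := by decide +kernel
theorem chk_inv_17 : chkRange (chkInv1 M iv) 17 1 = true := by decide +kernel
theorem chk_inv_18 : chkRange (chkInv1 M iv) 18 1 = true := by decide +kernel
theorem chk_inv_19 : chkRange (chkInv1 M iv) 19 1 = true := by decide +kernel
theorem chk_inv_20 : chkRange (chkInv1 M iv) 20 1 = true := by decide +kernel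
theorem chk_inv_21 : chkRange (chkInv1 M iv) 21 1 = true := by decide +kernel

theorem chk_inv : chkRange (chkInv1 M iv) 0 22 = true :=
  chkRange_append _ 1 0 21 chk_inv_0 (chkRange_append _ 1 1 20 chk_inv_1 (chkRange_append _ 1 2 19 chk_inv_2 (chkRange_append _ 1 3 18 chk_inv_3 (chkRange_append _ 1 4 17 chk_inv_4 (chkRange_append _ 1 5 16 chk_inv_5 (chkRange_append _ 1 6 15 chk_inv_6 (chkRange_append _ 1 7 14 chk_inv_7 (chkRange_append _ 1 8 13 chk_inv_8 (chkRange_append _ 1 9 12 chk_inv_9 (chkRange_append _ 1 10 11 chk_inv_10 (chkRange_append _ 1 11 10 chk_inv_11 (chkRange_append _ 1 12 9 chk_inv_12 (chkRange_append _ 1 13 8 chk_inv_13 (chkRange_append _ 1 14 7 chk_inv_14 (chkRange_append _ 1 15 6 chk_inv_15 (chkRange_append _ 1 16 5 chk_inv_16 (chkRange_append _ 1 17 4 chk_inv_17 (chkRange_append _ 1 18 3 chk_inv_18 (chkRange_append _ 1 19 2 chk_inv_19 (chkRange_append _ 1 20 1 chk_inv_20 (chk_inv_21)))))))))))))))))))))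

theorem invMap : InvMap M iv := invMap_of_pieces M iv chk_inv

theorem chk_lvA : chkLevels M [] lvA = true := by decide +kernel

theorem factsA : ChainFacts M lvA where
  hchk := chk_lvA
  hcard := by
    rw [card_G]
    decide +kernel

theorem chk_msA : chkMasks lvA msA = true := by decide +kernel

theorem chk_lvB : chkLevels M [] lvB = true := by decide +kernel

theorem factsB : ChainFacts M lvB where
  hchk := chk_lvB
  hcard := by
    rw [card_G]
    decide +kernel

theorem chk_msB : chkMasks lvB msB = true := by decide +kernel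

end Cfsg.Agent.Lib.Helper2.Fi23Out
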