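import Cfsg.Agent.Lib.Helper2.Fi23OutD1
import Cfsg.Agent.Lib.Helper5.Srch3

set_option autoImplicit false
set_option maxRecDepth 100000

/-! # The group `Fi23`: the tables of the new letters agree with their definitions (part a) -/

namespace Cfsg.Agent.Lib.Helper2.Fi23Out

open Cfsg.Agent.Lib.Helper5.Srch

set_option Elab.async false

theorem chk_new_0 : chkRange (chkNew 31671 10 ds pm) 0 1 = true := by decide +kernel
theorem chk_new_1 : chkRange (chkNew 31671 10 ds pm) 1 1 = true := by decide +kernel
theorem chk_new_2 : chkRange (chkNew 31671 10 ds pm) 2 1 = true := by decide +kernel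
theorem chk_new_3 : chkRange (chkNew 31671 10 ds pm) 3 1 = true := by decide +kernel

end Cfsg.Agent.Lib.Helper2.Fi23Out
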