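import Cfsg.Agent.Lib.Helper2.Fi23OutD1
import Cfsg.Agent.Lib.Helper5.Srch3

set_option autoImplicit false
set_option maxRecDepth 100000

/-! # The group `Fi23`: the tables of the new letters agree with their definitions (part b) -/

namespace Cfsg.Agent.Lib.Helper2.Fi23Out

open Cfsg.Agent.Lib.Helper5.Srch

set_option Elab.async false

theorem chk_new_4 : chkRange (chkNew 31671 10 ds pm) 4 1 = true := by decide +kernel
theorem chk_new_5 : chkRange (chkNew 31671 10 ds pm) 5 1 = true := by decide +kernel
theorem chk_new_6 : chkRange (chkNew 31671 10 ds pm) 6 1 = true := by decide +kernel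
theorem chk_new_7 : chkRange (chkNew 31671 10 ds pm) 7 1 = true := by decide +kernel

end Cfsg.Agent.Lib.Helper2.Fi23Out
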