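import Cfsg.Agent.Lib.Helper5.Srch3

set_option autoImplicit false

/-! # Small complements: ranges of checks that hold by definition, conjugates of centralizers -/

namespace Cfsg.Agent.Lib.Helper2.PMC

open Cfsg.Agent.Lib.Helper5.Srch

theorem chkRange_of_forall (f : ℕ → Bool) (h : ∀ i, f i = true) :
    ∀ (k lo : ℕ), chkRange f lo k = true
  | 0, _ => rfl
  | k + 1, lo => by
    show (f lo && chkRange f (lo + 1) k) = true
    rw [h lo, chkRange_of_forall f h k (lo + 1)]
    rfl

/-- the check of the table of an old letter, when the new table is the old one by definition -/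
theorem chkOld_of_eq (px : ℕ → ℕ → ℕ) (n : ℕ) (pm : ℕ → ℕ → ℕ) (c : ℕ)
    (h : ∀ q, pm c q = px c q) : chkOld px n pm c = true := by
  unfold chkOld
  apply chkRange_of_forall
  intro q
  rw [h q]
  exact Nat.beq_refl _

/-- the check of the tables of the old letters from a list of pointwise equalities -/
theorem chkOld_range (px : ℕ → ℕ → ℕ) (n : ℕ) (pm : ℕ → ℕ → ℕ) (nl : ℕ)
    (h : ∀ c < nl, ∀ q, pm c q = px c q) : chkRange (chkOld px n pm) 0 nl = true := by
  have : ∀ (k lo : ℕ), lo + k ≤ nl → chkRange (chkOld px n pm) lo k = true := by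
    intro k
    induction k with
    | zero => intro _ _; rfl
    | succ k ih =>
      intro lo hlo
      show (chkOld px n pm lo && chkRange (chkOld px n pm) (lo + 1) k) = true
      rw [chkOld_of_eq px n pm lo (h lo (by omega)), ih (lo + 1) (by omega)]
      rfl
  exact this nl 0 (by omega)

section conj

variable {G : Type*} [Group G]

/-- the centralizer of a conjugate -/
theorem centralizer_conj (p e : G) (hC : ∀ g : G, g⁻¹ * p * g = p → ∃ i : ℕ, g = p ^ i) :
    ∀ g : G, g⁻¹ * (e * p * e⁻¹) * g = e * p * e⁻¹ → ∃ i : ℕ, g = (e * p * e⁻¹) ^ i := by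
  intro g hg
  have h1 : (e⁻¹ * g * e)⁻¹ * p * (e⁻¹ * g * e) = p := by
    have : (e⁻¹ * g * e)⁻¹ * p * (e⁻¹ * g * e) = e⁻¹ * (g⁻¹ * (e * p * e⁻¹) * g) * e := by group
    rw [this, hg]
    group
  obtain ⟨i, hi⟩ := hC _ h1
  refine ⟨i, ?_⟩
  have h2 : g = e * (e⁻¹ * g * e) * e⁻¹ := by group
  rw [h2, hi]
  have h3 : e * p * e⁻¹ = MulAut.conj e p := by rw [MulAut.conj_apply]
  have h4 : e * p ^ i * e⁻¹ = MulAut.conj e (p ^ i) := by rw [MulAut.conj_apply]
  rw [h3, h4, map_pow]

end conj

end Cfsg.Agent.Lib.Helper2.PMC
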