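import Cfsg.Agent.Lib.Helper2.Fi23Out1
import Cfsg.Agent.Lib.Helper2.Fi23OutD3
import Cfsg.Agent.Lib.Helper2.Fi23Out5a
import Cfsg.Agent.Lib.Helper2.Fi23Out5b
import Cfsg.Agent.Lib.Helper2.Fi23Out5c
import Cfsg.Agent.Lib.Helper2.PMChain9

set_option autoImplicit false
set_option maxRecDepth 100000

/-! # The group `Fi23`: the model with more letters -/

namespace Cfsg.Agent.Lib.Helper2.Fi23Out

open Cfsg.Spor Cfsg.Agent.Lib.Helper6.TC Cfsg.Agent.Lib.Helper6.PM Cfsg.Agent.Lib.Helper2.PMS
open Cfsg.Agent.Lib.Helper2.PMC Cfsg.Agent.Lib.Helper5.Chain Cfsg.Agent.Lib.Helper5.Srch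

set_option Elab.async false

theorem pm_old : ∀ c < 10, ∀ q, pm c q = fi23Model.px c q := by
  intro c hc q
  interval_cases c <;> rfl

theorem chk_old : chkRange (chkOld fi23Model.px 31671 pm) 0 10 = true :=
  chkOld_range fi23Model.px 31671 pm 10 pm_old

theorem chk_new : chkRange (chkNew 31671 10 ds pm) 0 12 = true :=
  chkRange_append _ 1 0 11 chk_new_0 (chkRange_append _ 1 1 10 chk_new_1 (chkRange_append _ 1 2 9 chk_new_2 (chkRange_append _ 1 3 8 chk_new_3 (chkRange_append _ 1 4 7 chk_new_4 (chkRange_append _ 1 5 6 chk_new_5 (chkRange_append _ 1 6 5 chk_new_6 (chkRange_append _ 1 7 4 chk_new_7 (chkRange_append _ 1 8 3 chk_new_8 (chkRange_append _ 1 9 2 chk_new_9 (chkRange_append _ 1 10 1 chk_new_10 (chk_new_11)))))))))))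

theorem chk_slp : chkSLP fi23Model.px fi23Model.n fi23Model.nl ds pm = true :=
  chkSLP_of_pieces fi23Model.px 31671 10 ds pm chk_old chk_new

/-- the model with the new letters -/
noncomputable def M : PModel := slpModel fi23Model ds pm chk_slp

instance finite_G : Finite M.G := finite_Fi23

theorem card_G : Nat.card M.G = 4089470473293004800 := card_Fi23

theorem M_nl : M.nl = 22 := slpModel_nl fi23Model ds pm chk_slp


end Cfsg.Agent.Lib.Helper2.Fi23Out
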