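import Cfsg.Agent.Lib.Helper5.Srch2
import Cfsg.Agent.Lib.Helper2.Fi23OutD3

set_option autoImplicit false
set_option maxRecDepth 100000
set_option maxHeartbeats 0

/-! # The group `Fi23`: certificate of a search (generated data) -/

namespace Cfsg.Agent.Lib.Helper2.Fi23Out

open Cfsg.Agent.Lib.Helper5.Srch

/-- a piece of a certificate -/
noncomputable def cCp_0 : Cert := (Cert.rl [(6, .fail),
  (1, (.step [2, 9, 16, 2, 20] .fail)),
  (1, .fail),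
  (1, (.step [0, 2, 11, 10, 18, 8] .fail)),
  (1, (.step [0, 2, 20, 21, 10, 11] .fail)),
  (1, (.step [0, 13, 20, 7, 18] .fail)),
  (1, (.step [0, 17, 20] (.step [8, 16, 21, 8, 10, 20] .fail))),
  (2, .fail),
  (1, (.step [2, 15, 0, 17] (.step [8, 13, 18, 10, 12] .fail))),
  (1, (.step [7, 13, 15] .fail)),
  (1, (.step [7, 20, 16] .fail)),
  (3, .fail),
  (1, (.step [0, 13, 8, 19, 7] .fail)),
  (1, (.step [0, 16, 8, 13, 19] .fail)),
  (2, .fail),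
  (1, (.step [0, 9, 8, 10, 16] (.step [8, 13, 21, 10, 11, 18] .fail))),
  (1, .fail),
  (1, (.step [0, 16, 8, 9, 20] .fail)),
  (3, .fail),
  (1, (.step [7, 18, 9, 19] .fail)),
  (3, .fail),
  (1, (.step [0, 15, 8, 18, 10] (.step [8, 18, 10, 17, 20, 10] .fail))),
  (2, .fail),
  (1, (.step [7, 13, 8, 19] (.step [8, 13, 15, 8, 20, 12] .fail))),
  (3, .fail),
  (1, (.step [0, 16, 7, 20] .fail)),
  (5, .fail),
  (1, (.step [0, 9, 10, 15, 17] .fail)),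
  (2, .fail),
  (1, (.step [2, 21, 10, 20, 16] .fail)),
  (1, (.step [7, 21, 10] .fail)),
  (1, .fail),
  (1, (.step [0, 16, 2, 19] .fail)),
  (3, .fail),
  (1, (.step [2, 9, 16, 7, 9] .fail)),
  (2, .fail),
  (1, (.step [0, 7, 11, 0] .fail)),
  (9, .fail),
  (1, (.step [2, 15, 20, 18, 9] .fail)),
  (2, .fail),
  (1, (.step [0, 7, 9, 8, 17] .fail)),
  (2, .fail),
  (1, (.step [7, 9, 16, 2] .fail)),
  (1, .fail),
  (1, (.step [7, 11, 12, 17, 0] .fail)),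
  (7, .fail),
  (1, (.step [0, 11, 16, 0] .fail)),
  (11, .fail),
  (1, (.step [0, 2, 11, 16, 19] .fail)),
  (7, .fail),
  (1, (.step [2, 15, 20, 18] .fail)),
  (6, .fail),
  (1, (.step [0, 2, 11, 10, 20] .fail)),
  (6, .fail),
  (1, (.step [2, 7, 17, 2] .fail)),
  (12, .fail),
  (1, (.step [2, 17, 7, 10, 19] .fail)),
  (6, .fail),
  (1, (.step [7, 11, 21, 10] (.step [8, 13, 15, 20, 10] .fail))),
  (9, .fail),
  (1, (.step [0, 11, 7, 15, 17] .fail)),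
  (6, .fail),
  (1, (.step [0, 13, 15, 8, 21] .fail)),
  (2, .fail),
  (1, (.step [0, 2, 12, 10, 20] .fail)),
  (1, (.step [0, 11, 7, 10] .fail)),
  (9, .fail),
  (1, (.step [0, 11, 7, 21, 10] .fail)),
  (3, .fail),
  (1, (.step [0, 11] .fail)),
  (2, .fail),
  (1, (.step [7, 11, 10] .fail)),
  (3, .fail),
  (1, (.step [7, 19, 21, 7] (.step [8, 13, 21, 8, 10, 19] .fail))),
  (2, .fail),
  (1, (.step [7, 11, 12, 13] (.step [8, 16, 20, 18] .fail))),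
  (18, .fail),
  (1, (.step [0, 2, 16, 9, 17] (.step [8, 13, 15, 8, 20, 12] (.step [10, 11, 19, 20, 21] .fail)))),
  (5, .fail),
  (1, (.step [0, 16, 2, 8, 18] (.step [8, 13, 21, 8, 10, 20, 18, 10] .fail))),
  (16, .fail),
  (1, (.step [0, 2, 12, 10, 20] .fail)),
  (3, .fail),
  (1, (.step [2, 12, 10, 11] .fail)),
  (1, .fail),
  (1, (.step [9, 16, 17, 18] .fail)),
  (10, .fail),
  (1, (.step [0, 2, 20, 21, 10] .fail)),
  (3, .fail),
  (1, (.step [7, 13, 18, 9, 10] (.step [8, 18, 20, 10, 12, 16] .fail))),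
  (7, .fail),
  (1, (.step [7, 13, 21] (.step [8, 18, 20, 21] .fail))),
  (9, .fail),
  (1, (.step [0, 9, 8, 10] .fail)),
  (1, .fail),
  (1, (.step [2, 17, 10, 21] .fail)),
  (2, .fail),
  (1, (.step [7, 15, 19, 7] .fail)),
  (1, (.step [0, 15, 17, 7, 16] (.step [8, 13, 18, 8, 20, 10] .fail))),
  (32, .fail),
  (1, (.step [2, 16, 9, 8] (.step [8, 18, 20, 12, 10, 11] .fail))),
  (4, .fail),
  (1, (.step [0, 16, 17, 7, 21] .fail)),
  (3, .fail),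
  (1, (.step [2, 9, 10, 19, 9] .fail)),
  (1, (.step [7, 11, 20, 11, 19] .fail)),
  (7, .fail),
  (1, (.step [7, 19, 21, 7] .fail)),
  (9, .fail),
  (1, (.step [2, 7, 9, 16] (.step [8, 13, 15, 8, 20, 19] (.step [10, 11, 19, 20, 15, 18] .fail)))),
  (2, .fail),
  (1, (.step [0, 16, 8, 20, 21] .fail)),
  (1, (.step [0, 7, 17, 10] .fail)),
  (1, (.step [0, 2, 21, 7, 19] .fail)),
  (2, .fail),
  (1, (.step [9, 18, 7, 13] .fail)),
  (3, .fail),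
  (1, (.step [7, 15, 17, 2] (.step [8, 15, 20, 16, 21] .fail))),
  (3, .fail),
  (1, (.step [2, 7, 13, 19] (.step [8, 15, 16, 18, 10, 20] (.step [10, 11, 19, 20, 12] .fail)))),
  (2, .fail),
  (1, (.step [0, 2, 9, 11, 19, 21] .fail)),
  (3, .fail),
  (1, (.step [0, 9, 11, 13, 15] (.step [8, 15, 20, 10, 12, 17] .fail))),
  (6, .fail),
  (1, (.step [0, 2, 7, 9, 8] (.step [8, 15, 20, 12, 10, 18] .fail))),
  (5, .fail),
  (1, (.step [0, 9, 8, 11, 7] (.step [8, 21, 10, 12, 20] (.step [10, 20, 18, 10] .fail)))),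
  (5, .fail),
  (1, (.step [7, 18, 21, 10] .fail)),
  (6, .fail),
  (1, (.step [0, 9, 11, 18] .fail)),
  (9, .fail),
  (1, (.step [7, 16] .fail)),
  (5, .fail),
  (1, (.step [0, 7, 17, 0, 7, 12] (.step [8, 13, 18, 8, 10, 12, 21] (.step [10, 12, 21, 10] .fail)))),
  (10, .fail),
  (1, (.step [9, 8, 21] .fail)),
  (1, .fail),
  (1, (.step [0, 9, 8, 11, 7] .fail)),
  (4, .fail),
  (1, (.step [0, 15, 20, 10] (.step [8, 13, 18, 10, 20, 19] (.step [10, 12, 20, 15, 18] .fail)))),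
  (6, .fail),
  (1, (.step [7, 11, 17, 20] .fail)),
  (2, .fail),
  (1, (.step [0, 2, 9, 8, 13, 19] .fail)),
  (4, .fail),
  (1, (.step [0, 16, 17, 2] (.step [8, 15, 20, 16, 8] (.step [10, 12, 20, 19, 10] .fail)))),
  (4, .fail),
  (1, (.step [0, 2, 9, 8, 17] .fail)),
  (2, .fail),
  (1, (.step [0, 16, 19, 7, 18] .fail)),
  (3, .fail),
  (1, (.step [7, 20, 10, 12] (.step [8, 13, 18, 10, 20, 18] .fail))),
  (15, .fail),
  (1, (.step [2, 12, 15, 21, 8] (.step [8, 18, 20, 21] (.step [10, 11, 17, 20, 11] .fail)))),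
  (22, .fail),
  (1, (.step [0, 7, 12, 10, 19] .fail)),
  (18, .fail),
  (1, (.step [7, 12, 15, 17] (.step [8, 16, 20, 10, 21, 10] .fail))),
  (1, (.step [2, 15, 8, 18, 10] (.step [8, 15, 16, 8, 20] (.step [10, 17, 18, 21] .fail)))),
  (3, .fail),
  (1, (.step [7, 12, 13, 18] (.step [8, 13, 16, 20, 21, 10, 17] .fail))),
  (1, (.step [0, 13, 15, 2, 20] .fail)),
  (2, .fail),
  (1, (.step [0, 2, 9, 15, 18, 20] .fail)),
  (1, .fail),
  (1, (.step [0, 11, 7] .fail)),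
  (1, .fail),
  (1, (.step [9, 8, 14, 16] .fail)),
  (3, .fail),
  (1, (.step [7, 20, 16, 8] (.step [8, 15, 20, 10, 12, 16] .fail))),
  (8, .fail),
  (1, (.step [0, 11, 19, 9] .fail)),
  (2, .fail),
  (1, (.step [0, 15, 8, 18, 10] .fail)),
  (2, .fail),
  (1, (.step [7, 18, 10, 17, 20] (.step [8, 18, 10, 21] .fail))),
  (23, .fail),
  (1, (.step [9, 16, 7, 12] (.step [8, 16, 20, 11, 10, 18] .fail))),
  (3, .fail),
  (1, (.step [0, 9, 20, 19] .fail)),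
  (1, (.step [0, 7, 16, 0, 19, 20] (.step [8, 13, 18, 8, 10, 17] .fail))),
  (1, .fail),
  (1, (.step [7, 11, 16, 2] (.step [8, 13, 21, 8, 10, 11] .fail))),
  (5, .fail),
  (1, (.step [9, 8, 16, 0] (.step [8, 16, 20, 21, 8, 10, 20] (.step [] .fail)))),
  (20, .fail),
  (1, (.step [2, 12, 10, 14] .fail)),
  (4, .fail),
  (1, (.step [2, 7, 11, 10] .fail)),
  (13, .fail),
  (1, (.step [0, 2, 16, 8, 18] .fail)),
  (1, (.step [0, 7, 17, 0, 7] (.step [8, 13, 21, 8] (.step [10, 20, 18, 10, 21] .fail)))),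
  (3, .fail),
  (1, (.step [] .fail)),
  (1, .fail),
  (1, (.step [9, 10, 19, 7] .fail)),
  (5, .fail),
  (1, (.step [0, 2, 9, 11, 13, 19] .fail)),
  (3, .fail),
  (1, (.step [0, 7, 12, 17, 7] .fail)),
  (29, .fail),
  (1, (.step [2, 7] .fail)),
  (43, .fail),
  (1, (.step [0, 11, 10, 15] .fail)),
  (2, .fail),
  (1, (.step [2, 7, 18, 19, 9] .fail)),
  (1, .fail),
  (1, (.step [9, 8, 15, 20] .fail)),
  (3, .fail),
  (1, (.step [7, 18, 10, 21] .fail)),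
  (1, .fail),
  (1, (.step [0, 13, 20, 16, 18] (.step [8, 18, 20, 12] .fail))),
  (4, .fail),
  (1, (.step [2, 21, 7, 15] (.step [8, 13, 18, 10, 21, 8] .fail))),
  (1, .fail),
  (1, (.step [7, 12, 21, 2] (.step [8, 16, 18, 10, 20, 11] (.step [10, 19] .fail)))),
  (2, .fail),
  (1, (.step [0, 9, 20, 15, 2] (.step [8, 16, 18, 8, 20, 10, 17] .fail))),
  (4, .fail),
  (1, (.step [0, 2, 9, 8, 20] (.step [8, 13, 15, 8, 20] .fail))),
  (1, .fail),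
  (1, (.step [2, 12, 20, 18, 10] (.step [8, 16, 18, 8, 10, 20, 15] .fail))),
  (15, .fail),
  (1, (.step [0, 7, 9, 14] .fail)),
  (4, .fail),
  (1, (.step [0, 2, 13, 15, 7] .fail)),
  (19, .fail),
  (1, (.step [2, 12, 21, 8, 9] .fail)),
  (25, .fail),
  (1, (.step [0, 2, 9, 15, 21] (.step [8, 13, 15, 18, 10] .fail))),
  (9, .fail),
  (1, (.step [2, 16, 9, 10] .fail)),
  (6, .fail),
  (1, (.step [0, 2, 9, 12, 17, 18] .fail)),
  (56, .fail),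
  (1, (.step [0, 11, 17, 10, 20] .fail)),
  (3, .fail),
  (1, (.step [7, 20] .fail)),
  (2, .fail),
  (1, (.step [7, 20, 18] .fail)),
  (15, .fail),
  (1, (.step [2, 15, 8, 18, 10] .fail)),
  (1, (.step [2, 7, 17, 0, 10] .fail)),
  (1, (.step [0, 11, 17, 7, 20] (.step [8, 13, 15, 20, 18, 21, 10] .fail))),
  (4, .fail),
  (1, (.step [9, 10, 19, 10] (.step [8, 18, 20, 10, 16, 20] .fail))),
  (52, .fail),
  (1, (.step [7, 9, 10, 15, 8] .fail)),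
  (13, .fail),
  (1, (.step [0, 16, 17, 9, 20] (.step [8, 16, 21] .fail))),
  (1, (.step [0, 9, 15, 2, 14] .fail)),
  (20, .fail),
  (1, (.step [9, 18, 7, 13] .fail)),
  (9, .fail),
  (1, (.step [0, 2, 20, 21, 10] (.step [8, 18, 20, 10, 18, 8] (.step [10, 11, 17, 10] .fail)))),
  (3, .fail),
  (1, (.step [0, 19, 9, 18] (.step [8, 13, 15] (.step [10, 12, 20, 10] .fail)))),
  (1, (.step [0, 15, 2, 12] (.step [8, 16, 20, 21, 8] .fail))),
  (9, .fail),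
  (1, (.step [0, 9, 15, 17, 0] .fail)),
  (3, .fail),
  (1, (.step [0, 7, 17, 9, 14] .fail)),
  (6, .fail),
  (1, (.step [0, 20, 18, 7, 9] (.step [8, 13, 15, 18, 20, 19] .fail))),
  (14, .fail),
  (1, (.step [2, 9, 8, 19] .fail)),
  (4, .fail),
  (1, (.step [0, 7, 21, 8] (.step [8, 13, 21, 10, 11, 18] (.step [10, 17, 20, 10, 16, 20] .fail)))),
  (5, .fail),
  (1, (.step [0, 9, 8, 19, 9] (.step [8, 15, 16, 20, 10] .fail))),
  (3, .fail),
  (1, (.step [2, 17, 7, 18] (.step [8, 13, 21, 10, 19] .fail))),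
  (54, .fail),
  (1, (.step [0, 9, 18, 7, 15] (.step [8, 15, 16, 20, 21] .fail))),
  (12, .fail),
  (1, (.step [0, 17, 7, 20, 11] (.step [8, 13, 16, 8, 20, 19] (.step [10, 12, 20, 15] .fail)))),
  (4, .fail),
  (1, (.step [7, 11, 13, 15] (.step [8, 18, 10, 20, 10, 16] .fail))),
  (13, .fail),
  (1, (.step [0, 9, 20, 16, 7] (.step [8, 13, 15, 16, 20] .fail))),
  (10, .fail),
  (1, (.step [0, 9, 13, 19] (.step [8, 16, 18, 21] .fail))),
  (59, .fail),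
  (1, (.step [2, 16, 8, 20] .fail)),
  (9, .fail),
  (1, (.step [0, 2, 11, 7, 13, 20] .fail)),
  (1, .fail),
  (1, (.step [9, 19, 20, 11, 7] (.step [8, 13, 16, 8, 20, 10, 11] (.step [10, 11, 20, 21] .fail)))),
  (4, .fail),
  (1, (.step [9, 14, 16, 18] (.step [8, 16, 18, 8, 20, 10, 11] (.step [10, 18, 19, 21] .fail)))),
  (14, .fail),
  (1, (.step [2, 21, 10, 20, 16] .fail)),
  (4, .fail),
  (1, (.step [0, 13, 17, 7, 15] .fail)),
  (1, (.step [2, 16, 20, 19, 0] (.step [8, 13, 15, 16, 20, 21] .fail))),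
  (4, .fail),
  (1, (.step [7, 18, 19, 9, 10] .fail)),
  (3, .fail),
  (1, (.step [7, 11, 17, 7, 10] (.step [8, 16, 20, 21, 10, 20, 16] .fail))),
  (1, (.step [0, 2, 7, 11, 10] .fail)),
  (59, .fail),
  (1, (.step [7, 11, 16, 0, 9] (.step [8, 13, 15, 8, 20, 18, 19, 10] (.step [10, 20, 11, 10] .fail)))),
  (2, .fail),
  (1, (.step [7, 9, 17] .fail)),
  (49, .fail),
  (1, (.step [0, 2, 20, 18] .fail)),
  (4, .fail),
  (1, (.step [7, 20, 18, 10] (.step [8, 13, 16, 20, 10, 11, 18] .fail))),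
  (1, .fail),
  (1, (.step [2, 12, 15, 7, 21] (.step [8, 13, 15, 8, 20, 18, 19, 10] .fail))),
  (1, (.step [7, 13, 16, 17, 7] .fail)),
  (5, .fail),
  (1, (.step [7, 21, 8, 15, 2] (.step [8, 13, 16, 20, 15] .fail))),
  (1, (.step [2, 9, 16, 7] (.step [8, 16, 20, 12, 10, 19] .fail))),
  (1, (.step [0, 7, 17, 0] .fail)),
  (32, .fail),
  (1, (.step [0, 2, 11, 7, 14] .fail)),
  (1, (.step [0, 19, 10, 12] .fail)),
  (2, .fail),
  (1, (.step [7, 15, 18, 10] .fail)),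
  (6, .fail),
  (1, (.step [0, 9, 13, 19, 9] .fail)),
  (9, .fail),
  (1, (.step [0, 15, 8, 18, 10] .fail)),
  (15, .fail),
  (1, (.step [7, 9, 16, 9] .fail)),
  (4, .fail),
  (1, (.step [7, 13, 8, 14, 17] (.step [8, 16, 20, 10, 18] (.step [10, 20, 11, 21, 10] .fail)))),
  (9, .fail),
  (1, (.step [7, 14, 18] .fail)),
  (28, .fail),
  (1, (.step [2, 15, 20, 11, 7] .fail)),
  (1, (.step [7, 11, 13, 15, 17] .fail)),
  (1, (.step [9, 8, 17, 7] .fail)),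
  (5, .fail),
  (1, (.step [0, 11, 16] (.step [8, 13, 15, 18, 21, 10, 18] .fail))),
  (11, .fail),
  (1, (.step [0, 9, 13, 15, 2] (.step [8, 15, 18, 8, 10] (.step [10, 12, 20, 15] .fail)))),
  (6, .fail),
  (1, (.step [2, 12, 10, 11, 21] .fail)),
  (15, .fail),
  (1, (.step [2, 12, 10, 16, 7] .fail)),
  (1, .fail),
  (1, (.step [2, 7, 20, 15, 0] .fail)),
  (14, .fail),
  (1, (.step [2, 14, 17] .fail)),
  (37, .fail),
  (1, (.step [7, 12, 13, 19, 7] (.step [8, 21, 10, 18, 19] .fail))),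
  (38, .fail),
  (1, (.step [7, 12, 13, 19, 7] .fail)),
  (1, (.step [0, 16, 20, 10, 19] .fail)),
  (1, (.step [7, 11, 19, 10] .fail)),
  (13, .fail),
  (1, (.step [7, 18, 10, 11, 20] .fail)),
  (50, .fail),
  (1, (.step [9, 10, 12] (.step [8, 18, 10, 20, 16, 8] (.step [10, 17, 20] .fail)))),
  (4, .fail),
  (1, (.step [9, 19, 20] .fail)),
  (7, .fail),
  (1, (.step [2, 7, 9, 8, 18] (.step [8, 13, 16, 20, 10, 11, 17] .fail))),
  (1, (.step [0, 13, 8, 15, 20] .fail)),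
  (10, .fail),
  (1, (.step [2, 12, 21, 10, 11] .fail)),
  (33, .fail),
  (1, (.step [2, 21, 8, 9] .fail)),
  (19, .fail),
  (1, (.step [0, 2, 11, 7, 16] .fail)),
  (23, .fail),
  (1, (.step [7, 13, 21] .fail)),
  (13, .fail),
  (1, (.step [0, 13, 17, 7, 15] .fail)),
  (21, .fail),
  (1, (.step [2, 7, 9, 10, 14] .fail)),
  (11, .fail),
  (1, (.step [0, 7, 11, 18] .fail)),
  (1, .fail),
  (1, (.step [0, 9, 15, 2, 18] .fail)),
  (15, .fail),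
  (1, (.step [0, 16, 2, 12, 10] .fail)),
  (1, (.step [9, 18, 20, 10, 9] (.step [8, 13, 15, 16, 20, 10, 16] .fail))),
  (1, .fail),
  (1, (.step [2, 9, 21, 7, 11] (.step [8, 16, 20, 11, 10, 20] .fail))),
  (2, .fail),
  (1, (.step [0, 9, 10, 17] .fail)),
  (25, .fail),
  (1, (.step [0, 9, 11, 15, 19] .fail)),
  (17, .fail),
  (1, (.step [0, 9, 8, 10, 12] .fail)),
  (15, .fail),
  (1, (.step [7, 11, 15, 20, 18] .fail)),
  (1, (.step [0, 13, 16, 8, 18] .fail)),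
  (13, .fail),
  (1, (.step [0, 13, 16, 20, 19] .fail)),
  (1, (.step [0, 2, 15, 2] .fail)),
  (10, .fail),
  (1, (.step [2, 7, 16, 9, 10] (.step [8, 16, 20, 11, 10, 18, 8] (.step [10, 20, 11, 21] .fail)))),
  (3, .fail),
  (1, (.step [0, 9, 10, 21, 8] (.step [8, 18, 20, 10, 12, 16] .fail))),
  (22, .fail),
  (1, (.step [2, 16, 8] (.step [8, 16, 18, 10, 21, 8] .fail))),
  (36, .fail),
  (1, (.step [7, 11, 16, 2] .fail)),
  (14, .fail),
  (1, (.step [0, 2, 9, 14, 18, 20] .fail)),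
  (5, .fail),
  (1, (.step [9, 8, 16, 20, 11] .fail)),
  (5, .fail),
  (1, (.step [2, 16, 20, 10] .fail)),
  (24, .fail),
  (1, (.step [0, 9, 15, 7] .fail)),
  (21, .fail),
  (1, (.step [0, 16, 17, 9] .fail)),
  (16, .fail),
  (1, (.step [0, 9, 13, 15, 19] .fail)),
  (2, .fail),
  (1, (.step [0, 19, 9, 10, 21] .fail)),
  (4, .fail),
  (1, (.step [9, 8, 16, 19, 7] .fail)),
  (4, .fail),
  (1, (.step [0, 15, 20, 18, 9] (.step [8, 16, 20, 10, 15, 20] .fail))),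
  (1, (.step [0, 2, 7, 14] .fail)),
  (1, .fail),
  (1, (.step [7, 9, 16, 2, 9] .fail)),
  (43, .fail),
  (1, (.step [0, 7, 11, 10, 18, 8] .fail)),
  (9, .fail),
  (1, (.step [0, 11, 13, 15] .fail)),
  (10, .fail),
  (1, (.step [0, 9, 18, 20, 7] .fail)),
  (1, .fail),
  (1, (.step [2, 9, 12, 17] .fail)),
  (1, .fail),
  (1, (.step [7, 11, 15, 18] .fail)),
  (7, .fail),
  (1, (.step [2, 12, 20, 16, 7] .fail)),
  (1, .fail),
  (1, (.step [7, 11, 0, 18] .fail)),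
  (34, .fail),
  (1, (.step [2, 21, 7, 10, 12] .fail)),
  (86, .fail),
  (1, (.step [7, 11, 15, 18] .fail)),
  (1, .fail),
  (1, (.step [9, 8, 19, 20] .fail)),
  (6, .fail),
  (1, (.step [0, 11, 7, 13, 20] (.step [8, 13, 18, 10, 20, 19] (.step [10, 17, 20, 10, 15, 20] .fail)))),
  (3, .fail),
  (1, (.step [0, 2, 9, 8, 16, 2] (.step [8, 15, 16, 8, 20, 18, 10] (.step [10, 11, 18, 19, 20] .fail)))),
  (3, .fail),
  (1, (.step [7, 11, 15, 20, 18] .fail)),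
  (4, .fail),
  (1, (.step [9, 18, 20, 0, 13] .fail)),
  (26, .fail),
  (1, (.step [7, 11, 17, 7, 20] .fail)),
  (2, .fail),
  (1, (.step [2, 7, 11, 20, 15] .fail)),
  (1, (.step [7, 21, 2, 8] (.step [8, 15, 20, 10, 12, 16, 17] .fail))),
  (8, .fail),
  (1, (.step [7, 11, 19, 10] .fail)),
  (5, .fail),
  (1, (.step [2, 14] .fail)),
  (21, .fail),
  (1, (.step [0, 16, 7, 12] .fail)),
  (2, .fail),
  (1, (.step [0, 13, 16, 7, 8] .fail)),
  (5, .fail),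
  (1, (.step [0, 17, 10, 11] .fail)),
  (4, .fail),
  (1, (.step [0, 9, 20, 16, 9] .fail)),
  (1, .fail),
  (1, (.step [0, 2, 9, 14, 18, 20] .fail)),
  (22, .fail),
  (1, (.step [7, 17, 9, 20, 7] .fail)),
  (1, (.step [9, 8, 16, 9] .fail)),
  (23, .fail),
  (1, (.step [0, 7, 11, 18] .fail)),
  (24, .fail),
  (1, (.step [0, 11, 17, 7, 20] .fail)),
  (2, .fail),
  (1, (.step [7, 9, 11, 0, 12] .fail)),
  (4, .fail),
  (1, (.step [9, 16, 17] (.step [8, 18, 20, 21] .fail))),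
  (9, .fail),
  (1, (.step [7, 14, 19] .fail)),
  (1, .fail),
  (1, (.step [2, 15, 21, 8] .fail)),
  (6, .fail),
  (1, (.step [0, 11, 7, 17, 9] .fail)),
  (12, .fail),
  (1, (.step [0, 9, 20, 16, 0] .fail)),
  (3, .fail),
  (1, (.step [0, 2, 9, 14, 18, 20] .fail)),
  (5, .fail),
  (1, (.step [2, 9, 17, 7, 9] .fail)),
  (3, .fail),
  (1, (.step [0, 2, 9, 11, 18] .fail)),
  (6, .fail),
  (1, (.step [0, 11, 19, 7, 9] (.step [8, 16, 20, 10, 18] .fail))),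
  (10, .fail),
  (1, (.step [0, 11, 7, 21, 10] .fail)),
  (3, .fail),
  (1, (.step [2, 9, 16, 20, 7] (.step [8, 18, 20, 10, 17] .fail))),
  (26, .fail),
  (1, (.step [7, 11, 10] .fail)),
  (22, .fail),
  (1, (.step [2, 15, 20, 10, 21] .fail)),
  (16, .fail),
  (1, (.step [0, 11, 19, 9, 20] (.step [8, 16, 20, 10, 17] .fail))),
  (1, (.step [9, 18, 7, 19] .fail)),
  (17, .fail),
  (1, (.step [0, 2, 9, 14, 19] .fail)),
  (58, .fail),
  (1, (.step [0, 17, 9, 10] .fail)),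
  (9, .fail),
  (1, (.step [9, 16, 20, 12] .fail)),
  (3, .fail),
  (1, (.step [7, 13, 21] .fail)),
  (1, (.step [7, 11, 0, 13] .fail)),
  (13, .fail),
  (1, (.step [7, 9, 10, 15] .fail)),
  (9, .fail),
  (1, (.step [7, 18, 19] .fail)),
  (16, .fail),
  (1, (.step [0, 13, 20, 10] .fail)),
  (5, .fail),
  (1, (.step [0, 7, 15, 16, 9] .fail)),
  (5, .fail),
  (1, (.step [0, 9, 19, 20, 11] .fail)),
  (9, .fail),
  (1, (.step [0, 13, 20, 16, 7] .fail)),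
  (2, .fail),
  (1, (.step [9, 10, 19] .fail)),
  (23, .fail),
  (1, (.step [9, 19, 0, 16] .fail)),
  (1, .fail),
  (1, (.step [2, 9, 16] .fail)),
  (3, .fail),
  (1, (.step [2, 9, 17, 7, 12] .fail)),
  (17, .fail),
  (1, (.step [7, 16, 21, 7, 20] .fail)),
  (1, .fail),
  (1, (.step [0, 2, 11, 10, 18, 8] .fail)),
  (4, .fail),
  (1, (.step [2, 14, 17, 7, 12] .fail)),
  (6, .fail),
  (1, (.step [0, 13, 15, 20, 11] .fail)),
  (5, .fail),
  (1, (.step [7, 11, 14, 17] .fail)),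
  (7, .fail),
  (1, (.step [9, 16, 20, 12] .fail)),
  (1, (.step [2, 7, 9, 8, 11] (.step [8, 13, 15, 8, 20, 18] .fail))),
  (1, .fail),
  (1, (.step [2, 9, 17, 9, 8] .fail)),
  (1, (.step [7, 9, 10, 12] .fail)),
  (27, .fail),
  (1, (.step [2, 9, 21, 7, 17] (.step [8, 15, 20, 10, 12, 16] .fail))),
  (17, .fail),
  (1, (.step [2, 16, 21, 10, 12] .fail)),
  (3, .fail),
  (1, (.step [0, 7, 15, 7] .fail)),
  (1, .fail),
  (1, (.step [7, 20, 21, 7] .fail)),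
  (10, .fail),
  (1, (.step [2, 9, 17, 7, 12] .fail)),
  (1, (.step [0, 11, 16, 19] .fail)),
  (36, .fail),
  (1, (.step [7, 17, 18] .fail)),
  (8, .fail),
  (1, (.step [0, 9, 15, 18, 8] .fail)),
  (6, .fail),
  (1, (.step [0, 16, 8, 20, 12] .fail)),
  (13, .fail),
  (1, (.step [0, 7, 15, 0, 2] .fail)),
  (14, .fail),
  (1, (.step [0, 17, 7, 18] (.step [8, 16, 20, 10, 18, 10] (.step [10, 12, 21] .fail)))),
  (3, .fail),
  (1, (.step [7, 12, 16, 2] .fail)),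
  (64, .fail),
  (1, (.step [0, 2, 16, 0] .fail)),
  (26, .fail),
  (1, (.step [9, 14, 17, 10] .fail)),
  (7, .fail),
  (1, (.step [9, 8, 16, 2] .fail)),
  (2, .fail),
  (1, (.step [7, 9, 11, 0, 13] .fail)),
  (4, .fail),
  (1, (.step [0, 2, 12, 10, 20] (.step [8, 16, 20, 12, 10, 19] (.step [10, 20, 11, 10] .fail)))),
  (2, .fail),
  (1, (.step [0, 11, 13, 8] .fail)),
  (2, .fail)])

/-- a piece of a certificate -/
noncomputable def cCp_1 : Cert := (Cert.rl [(1, (.step [7, 20, 10] .fail)),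
  (12, .fail),
  (1, (.step [7, 12, 19, 20, 11] .fail)),
  (14, .fail),
  (1, (.step [0, 11, 15, 7, 19] (.step [8, 15, 16, 20, 10, 11] .fail))),
  (1, (.step [0, 17, 20, 7, 14] (.step [8, 16, 18, 8, 10] .fail))),
  (4, .fail),
  (1, (.step [7, 11, 13, 17, 10] .fail)),
  (30, .fail),
  (1, (.step [0, 15, 8, 17, 2] .fail)),
  (5, .fail),
  (1, (.step [0, 9, 18, 7, 11, 20] .fail)),
  (27, .fail),
  (1, (.step [7, 18, 21, 7] .fail)),
  (8, .fail),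
  (1, (.step [0, 9, 8, 10, 16, 20] .fail)),
  (1, (.step [0] .fail)),
  (18, .fail),
  (1, (.step [0, 17, 20, 7] .fail)),
  (11, .fail),
  (1, (.step [7, 9, 10, 15, 8] .fail)),
  (11, .fail),
  (1, (.step [0, 15, 8, 17, 9] .fail)),
  (22, .fail),
  (1, (.step [2, 21, 8, 16] .fail)),
  (1, .fail),
  (1, (.step [0, 2, 9, 20] .fail)),
  (11, .fail),
  (1, (.step [0, 11, 16] .fail)),
  (13, .fail),
  (1, (.step [9, 8, 14, 18] .fail)),
  (13, .fail),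
  (1, (.step [0, 16, 2, 21, 10] .fail)),
  (2, .fail),
  (1, (.step [7, 20, 10, 18, 10] .fail)),
  (16, .fail),
  (1, (.step [0, 9, 15, 20, 0] .fail)),
  (8, .fail),
  (1, (.step [0, 15, 7, 8] .fail)),
  (7, .fail),
  (1, (.step [0, 7, 16, 8] .fail)),
  (10, .fail),
  (1, (.step [0, 20, 18, 7, 11] .fail)),
  (1, (.step [0, 11, 7, 18, 8] .fail)),
  (1, .fail),
  (1, (.step [0, 20] .fail)),
  (29, .fail),
  (1, (.step [7, 13, 18, 10] .fail)),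
  (3, .fail),
  (1, (.step [7, 12, 19] .fail)),
  (24, .fail),
  (1, (.step [0, 11, 10, 16, 2] .fail)),
  (5, .fail),
  (1, (.step [0, 16, 20, 19, 9] .fail)),
  (13, .fail),
  (1, (.step [0, 20, 12, 10, 21] .fail)),
  (3, .fail),
  (1, (.step [0, 13, 20, 16, 7] .fail)),
  (1, .fail),
  (1, (.step [7, 15, 8, 16] .fail)),
  (33, .fail),
  (1, (.step [2, 7, 9, 18, 10] .fail)),
  (2, .fail),
  (1, (.step [0, 7, 12, 18, 8, 9] (.step [8, 15, 18, 20] .fail))),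
  (14, .fail),
  (1, (.step [2, 16, 8, 13] .fail)),
  (6, .fail),
  (1, (.step [0, 13, 19, 7, 11] .fail)),
  (6, .fail),
  (1, (.step [0, 7, 17, 7, 16, 21] (.step [8, 16, 21, 10, 20] (.step [10, 11, 20, 19, 10] .fail)))),
  (4, .fail),
  (1, (.step [0, 16, 7, 15] .fail)),
  (64, .fail),
  (1, (.step [0, 2, 11, 12] .fail)),
  (22, .fail),
  (1, (.step [0, 2, 9, 16, 7, 11] .fail)),
  (9, .fail),
  (1, (.step [2, 12, 20, 18] .fail)),
  (12, .fail),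
  (1, (.step [0, 13, 8] .fail)),
  (14, .fail),
  (1, (.step [0, 19, 9, 10, 9] .fail)),
  (1, .fail),
  (1, (.step [2, 17, 10, 20, 12] .fail)),
  (4, .fail),
  (1, (.step [0, 17, 20, 7, 12] .fail)),
  (3, .fail),
  (1, (.step [9, 18, 7, 13] .fail)),
  (31, .fail),
  (1, (.step [0, 11, 7, 15, 17] .fail)),
  (1, (.step [0, 9, 17, 0] .fail)),
  (3, .fail),
  (1, (.step [2, 17, 9, 8] .fail)),
  (19, .fail),
  (1, (.step [0, 2, 16, 9] .fail)),
  (26, .fail),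
  (1, (.step [2, 16, 8, 20] .fail)),
  (1, (.step [7, 14, 20, 10, 16] .fail)),
  (1, .fail),
  (1, (.step [0, 13, 19, 9, 16] .fail)),
  (1, .fail),
  (1, (.step [0, 2, 9, 10, 16, 7] .fail)),
  (1, .fail),
  (1, (.step [0, 13, 19, 7, 21] (.step [8, 13, 15, 8, 20, 12, 10, 15] .fail))),
  (7, .fail),
  (1, (.step [0, 2, 7, 11, 0, 16] (.step [8, 15, 18, 21, 10, 18] .fail))),
  (11, .fail),
  (1, (.step [0, 7, 17, 9] (.step [8, 18, 10, 17, 20, 16, 8] .fail))),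
  (4, .fail),
  (1, (.step [0, 13, 8, 21] .fail)),
  (1, .fail),
  (1, (.step [0, 16, 20, 7, 13] .fail)),
  (1, .fail),
  (1, (.step [0, 13, 17, 9, 18] .fail)),
  (10, .fail),
  (1, (.step [0, 2, 9, 15, 2] .fail)),
  (12, .fail),
  (1, (.step [2, 9, 8, 16, 2] .fail)),
  (15, .fail),
  (1, (.step [2, 7, 19, 10, 17] (.step [8, 18, 10, 12, 20] .fail))),
  (9, .fail),
  (1, (.step [0, 9, 18, 7, 11, 20] .fail)),
  (26, .fail),
  (1, (.step [0, 7, 16, 9, 21] .fail)),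
  (4, .fail),
  (1, (.step [2, 16, 0, 20, 18] .fail)),
  (8, .fail),
  (1, (.step [0, 9, 19, 20, 11] (.step [8, 15, 16, 20, 10, 16, 20] (.step [10, 18, 19, 10, 20] .fail)))),
  (27, .fail),
  (1, (.step [7, 11, 15, 20] .fail)),
  (16, .fail),
  (1, (.step [0, 17, 10, 20, 18] .fail)),
  (23, .fail),
  (1, (.step [0, 7, 11, 17, 2] .fail)),
  (4, .fail),
  (1, (.step [0, 13, 16, 2, 8] (.step [8, 21, 10, 20, 16] (.step [10, 12, 18, 20] .fail)))),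
  (14, .fail),
  (1, (.step [0, 16, 8, 13, 18] .fail)),
  (8, .fail),
  (1, (.step [0, 15, 7, 19, 9] .fail)),
  (11, .fail),
  (1, (.step [7, 17, 2, 16] (.step [8, 21, 10, 12, 18] (.step [10, 11, 20, 19] .fail)))),
  (6, .fail),
  (1, (.step [0, 16, 7, 8, 13] .fail)),
  (7, .fail),
  (1, (.step [0, 7, 17, 7, 21, 8] .fail)),
  (1, (.step [7, 11, 10, 17, 7] .fail)),
  (3, .fail),
  (1, (.step [0, 11, 7, 16, 9] .fail)),
  (5, .fail),
  (1, (.step [7, 20, 18, 7, 10] (.step [8, 16, 20, 10, 11, 21] .fail))),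
  (7, .fail),
  (1, (.step [0, 16, 17, 7, 20] .fail)),
  (12, .fail),
  (1, (.step [0, 2, 21, 8, 10] (.step [8, 13, 18, 20, 15] .fail))),
  (25, .fail),
  (1, (.step [2, 16, 20, 15, 7] .fail)),
  (1, .fail),
  (1, (.step [0, 2, 11, 13, 16] .fail)),
  (6, .fail),
  (1, (.step [7, 12, 19, 20, 11] (.step [8, 16, 18, 20, 10, 17] .fail))),
  (1, (.step [0, 11, 16, 8, 15] .fail)),
  (1, .fail),
  (1, (.step [2, 9, 12, 17, 7] (.step [8, 13, 15, 18, 21, 10, 18] .fail))),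
  (5, .fail),
  (1, (.step [0, 2, 9, 8, 19] .fail)),
  (2, .fail),
  (1, (.step [0, 2, 12, 13, 7, 18] (.step [8, 13, 21, 10, 11, 20] (.step [10, 18, 20, 19, 10] .fail)))),
  (6, .fail),
  (1, (.step [7, 14, 19, 10, 20] (.step [8, 13, 15, 16, 21, 10] (.step [10, 18, 21] .fail)))),
  (11, .fail),
  (1, (.step [0, 13, 16, 2] .fail)),
  (35, .fail),
  (1, (.step [0, 2, 9, 15, 20] .fail)),
  (2, .fail),
  (1, (.step [9, 14, 16, 18] .fail)),
  (3, .fail),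
  (1, (.step [0, 20, 18, 9] .fail)),
  (29, .fail),
  (1, (.step [0, 17, 7, 18] .fail)),
  (1, (.step [0, 7, 12, 18, 8, 13] .fail)),
  (5, .fail),
  (1, (.step [7, 17] .fail)),
  (8, .fail),
  (1, (.step [7, 14, 15, 18, 10] .fail)),
  (10, .fail),
  (1, (.step [7, 14, 19, 9] .fail)),
  (1, (.step [9, 14] .fail)),
  (7, .fail),
  (1, (.step [0, 2, 19, 10, 9] .fail)),
  (10, .fail),
  (1, (.step [9, 8, 18, 20] .fail)),
  (6, .fail),
  (1, (.step [2, 14, 21, 2] .fail)),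
  (12, .fail),
  (1, (.step [0, 2, 9, 20, 21] .fail)),
  (3, .fail),
  (1, (.step [0, 7, 18, 9, 10] .fail)),
  (23, .fail),
  (1, (.step [2, 12, 16, 7, 18] .fail)),
  (13, .fail),
  (1, (.step [0, 14, 20, 7] .fail)),
  (9, .fail),
  (1, (.step [0, 2, 13, 8, 18] .fail)),
  (8, .fail),
  (1, (.step [0, 2, 9, 11, 13, 17] .fail)),
  (13, .fail),
  (1, (.step [7, 12, 14, 16] .fail)),
  (41, .fail),
  (1, (.step [2, 7, 20, 10, 18] .fail)),
  (53, .fail),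
  (1, (.step [0, 7, 11, 0, 17] .fail)),
  (9, .fail),
  (1, (.step [0, 16, 17, 0] (.step [8, 13, 18, 10, 19, 20, 15] .fail))),
  (1, .fail),
  (1, (.step [0, 9, 13, 19, 9] .fail)),
  (9, .fail),
  (1, (.step [0, 2, 9, 13, 14, 19] .fail)),
  (2, .fail),
  (1, (.step [0, 11, 10, 21, 8] .fail)),
  (16, .fail),
  (1, (.step [9, 18, 20, 11] .fail)),
  (17, .fail),
  (1, (.step [0, 13, 16, 20, 19] .fail)),
  (1, .fail),
  (1, (.step [9, 10, 20, 15, 8] .fail)),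
  (2, .fail),
  (1, (.step [0, 15, 8, 18, 9] .fail)),
  (3, .fail),
  (1, (.step [0, 13, 20, 18] .fail)),
  (3, .fail),
  (1, (.step [0, 17, 20, 10, 11] .fail)),
  (1, (.step [9, 10, 12, 14] .fail)),
  (7, .fail),
  (1, (.step [7, 13, 18, 21] .fail)),
  (20, .fail),
  (1, (.step [7, 9, 11, 0, 18] .fail)),
  (8, .fail),
  (1, (.step [7, 17, 19] (.step [8, 15, 21, 10, 18, 20] (.step [10, 17, 20, 10] .fail)))),
  (5, .fail),
  (1, (.step [2, 14, 17, 7, 12] .fail)),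
  (2, .fail),
  (1, (.step [2, 17, 7, 13, 15] .fail)),
  (3, .fail),
  (1, (.step [2, 7, 20, 18] .fail)),
  (9, .fail),
  (1, (.step [0, 20, 18, 7, 19] (.step [8, 18, 10, 12, 21] .fail))),
  (18, .fail),
  (1, (.step [0, 7, 9, 8, 12] .fail)),
  (3, .fail),
  (1, (.step [7, 11, 13, 15, 7] .fail)),
  (11, .fail),
  (1, (.step [7, 17, 10, 11] .fail)),
  (8, .fail),
  (1, (.step [7, 11, 15, 8, 16] .fail)),
  (13, .fail),
  (1, (.step [0, 11, 19, 7, 16] .fail)),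
  (3, .fail),
  (1, (.step [0, 11, 10, 15, 8] .fail)),
  (1, .fail),
  (1, (.step [0, 15, 17, 9, 8] .fail)),
  (1, .fail),
  (1, (.step [2, 16, 7, 18, 10] (.step [8, 16, 20] (.step [10, 11, 20, 19, 10] .fail)))),
  (51, .fail),
  (1, (.step [0, 9, 8, 11, 7, 16] .fail)),
  (16, .fail),
  (1, (.step [0, 11, 10, 12, 17] (.step [8, 13, 18, 8, 20, 11] .fail))),
  (12, .fail),
  (1, (.step [0, 9, 8, 10] .fail)),
  (32, .fail),
  (1, (.step [0, 9, 19] .fail)),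
  (13, .fail),
  (1, (.step [0, 9, 11, 18, 7] .fail)),
  (3, .fail),
  (1, (.step [0, 9, 10, 17, 9] .fail)),
  (2, .fail),
  (1, (.step [2, 16, 7, 17] .fail)),
  (24, .fail),
  (1, (.step [2, 17, 10, 20, 12] .fail)),
  (22, .fail),
  (1, (.step [2, 21, 10, 11] .fail)),
  (4, .fail),
  (1, (.step [0, 11, 16, 8, 13] (.step [8, 21, 10, 12, 20, 19] .fail))),
  (41, .fail),
  (1, (.step [7, 17, 9] .fail)),
  (23, .fail),
  (1, (.step [0, 2, 9, 17, 18, 8] .fail)),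
  (13, .fail),
  (1, (.step [0, 2, 9, 13, 20, 21] .fail)),
  (14, .fail),
  (1, (.step [0, 2, 21, 7, 10] .fail)),
  (5, .fail),
  (1, (.step [0, 17, 10, 20, 21] .fail)),
  (1, .fail),
  (1, (.step [0, 13, 8, 9, 19] .fail)),
  (31, .fail),
  (1, (.step [2, 16, 7, 9, 15] .fail)),
  (2, .fail),
  (1, (.step [0, 2, 11, 16, 20] .fail)),
  (21, .fail),
  (1, (.step [0, 19, 10, 21] .fail)),
  (4, .fail),
  (1, (.step [7, 15, 16] .fail)),
  (1, .fail),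
  (1, (.step [0, 2, 16, 2, 9] .fail)),
  (5, .fail),
  (1, (.step [0, 13, 19, 7, 11] (.step [8, 16, 20, 10, 11, 10] .fail))),
  (5, .fail),
  (1, (.step [2, 7, 13, 16] .fail)),
  (7, .fail),
  (1, (.step [0, 2, 9, 21, 7] .fail)),
  (3, .fail),
  (1, (.step [7, 16, 20, 7, 13] .fail)),
  (12, .fail),
  (1, (.step [7, 9, 16, 2, 20] .fail)),
  (13, .fail),
  (1, (.step [2, 15, 21, 8, 18] .fail)),
  (2, .fail),
  (1, (.step [7, 12, 10, 13, 17] .fail)),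
  (16, .fail),
  (1, (.step [0, 2, 21, 8, 16] .fail)),
  (6, .fail),
  (1, (.step [0, 2, 9, 12, 18, 20] .fail)),
  (8, .fail),
  (1, (.step [0, 2, 13, 8, 18] .fail)),
  (8, .fail),
  (1, (.step [2, 21, 10] .fail)),
  (8, .fail),
  (1, (.step [0, 16, 2] (.step [8, 16, 21, 10, 18, 20] .fail))),
  (12, .fail),
  (1, (.step [2, 12, 21, 10, 11] (.step [8, 21, 10, 11, 20] .fail))),
  (1, (.step [0, 9, 15, 2, 17] (.step [8, 18, 21, 8] .fail))),
  (1, (.step [0, 11, 10, 12, 13] .fail)),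
  (1, (.step [9, 18] .fail)),
  (3, .fail),
  (1, (.step [0, 2, 9, 18, 20] (.step [8, 16, 20, 10, 12] .fail))),
  (3, .fail),
  (1, (.step [0, 13, 20, 10] .fail)),
  (2, .fail),
  (1, (.step [0, 11, 15, 8, 19] .fail)),
  (2, .fail),
  (1, (.step [7, 13, 8, 19] .fail)),
  (15, .fail),
  (1, (.step [2, 7, 11] .fail)),
  (3, .fail),
  (1, (.step [0, 13, 15, 20, 12] .fail)),
  (9, .fail),
  (1, (.step [0, 17, 7, 15, 20] .fail)),
  (4, .fail),
  (1, (.step [2, 9, 8, 19, 9] (.step [8, 13, 15, 16, 20, 16] (.step [10, 18, 20, 19, 10] .fail)))),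
  (1, (.step [0, 13, 20, 16, 18] .fail)),
  (8, .fail),
  (1, (.step [0, 11, 7, 20] .fail)),
  (9, .fail),
  (1, (.step [0, 15, 19, 20] (.step [8, 13, 16, 20, 21] .fail))),
  (3, .fail),
  (1, (.step [7, 11, 0, 15, 7] (.step [8, 16, 20, 10, 11, 15] .fail))),
  (28, .fail),
  (1, (.step [0, 20, 10, 11] .fail)),
  (2, .fail),
  (1, (.step [2, 17, 21, 8] (.step [8, 13, 18, 10, 12] .fail))),
  (1, (.step [0, 13, 16, 7, 11] .fail)),
  (1, (.step [0, 20, 16, 9, 10] (.step [8, 15, 16, 8, 20, 12, 18, 20] .fail))),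
  (6, .fail),
  (1, (.step [0, 17, 20, 10, 19] .fail)),
  (7, .fail),
  (1, (.step [0, 2, 16, 20, 16] .fail)),
  (20, .fail),
  (1, (.step [0, 7, 17, 0, 7] .fail)),
  (1, (.step [0, 16, 20, 12] .fail)),
  (2, .fail),
  (1, (.step [0, 2, 9, 12] .fail)),
  (6, .fail),
  (1, (.step [7, 11, 19, 0, 15] .fail)),
  (12, .fail),
  (1, (.step [2, 15, 20] .fail)),
  (3, .fail),
  (1, (.step [2, 16, 7, 13] .fail)),
  (1, .fail),
  (1, (.step [7, 11, 19, 20, 21] .fail)),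
  (28, .fail),
  (1, (.step [0, 2, 9, 11, 13, 21] .fail)),
  (1, .fail),
  (1, (.step [7, 11, 10, 15] (.step [8, 18, 10, 20, 19] .fail))),
  (12, .fail),
  (1, (.step [0, 16, 19, 9, 20, 18] (.step [] .fail))),
  (1, .fail),
  (1, (.step [0, 7, 15, 8, 13, 16] .fail)),
  (6, .fail),
  (1, (.step [7, 11, 14, 19] .fail)),
  (19, .fail),
  (1, (.step [0, 2, 15, 7, 13] .fail)),
  (5, .fail),
  (1, (.step [7, 19, 10, 20] .fail)),
  (19, .fail),
  (1, (.step [0, 13, 19, 9, 18] .fail)),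
  (9, .fail),
  (1, (.step [0, 15, 8, 17, 9] (.step [8, 13, 18, 10, 19] (.step [10, 18, 20, 21] (.step [20, 16, 19] (.step [11, 1, 6, 7, 18, 19, 14, 18, 20, 12, 6, 4, 0, 18, 20, 19, 10, 18, 8, 16, 15, 20, 10, 20, 19, 16, 20, 21, 11, 11, 12] (.step [19, 1, 6, 7, 18, 19, 14, 18, 20, 12, 6, 4, 0, 18, 20, 19, 10, 18, 8, 16, 15, 20, 10, 20, 19, 16, 20, 21, 11] (.step [] (.step [17] (.step [] (.done [3, 0, 2, 8, 9, 5, 4, 6, 8, 7, 1, 3, 0, 2, 8, 9, 5, 4, 6, 8, 7, 1, 3, 0, 2, 8, 9, 5, 4, 6, 8, 7, 1, 3, 0, 2, 8, 9, 5, 4, 6, 8, 7, 1, 3, 0, 2, 8, 9, 5, 4, 6, 8, 7, 1, 3, 0, 2, 8, 9, 5, 4, 6, 8, 7, 1, 3, 0, 2, 8, 9, 5, 4, 6, 8, 7, 1, 3, 0, 2, 8, 9, 5, 4, 6, 8, 7, 1, 3, 0, 2, 8, 9, 5, 4, 6, 8, 7, 1, 3, 0, 2, 8, 9, 5, 4, 6, 8, 7, 1, 3, 0, 2, 8, 9, 5, 4, 6, 8, 7, 1, 3, 0, 2, 8, 9, 5, 4, 6, 8, 7, 1, 3, 0, 2, 8, 9, 5, 4, 6, 8, 7, 1, 3, 0, 2, 8, 9, 5, 4, 6, 8, 7, 1, 3, 0, 2, 8, 9, 5, 4, 6, 8, 7,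 1]))))))))))),
  (1, (.step [2, 16, 20, 7, 10] .fail)),
  (31, .fail),
  (1, (.step [7, 15, 17, 7, 11] .fail)),
  (7, .fail),
  (1, (.step [7, 16, 21, 7] .fail)),
  (32, .fail),
  (1, (.step [0, 13, 8, 9, 19] .fail)),
  (7, .fail),
  (1, (.step [0, 2, 7, 11, 17] .fail)),
  (20, .fail),
  (1, (.step [7, 19, 10, 11] .fail)),
  (50, .fail),
  (1, (.step [9, 10, 20, 12] .fail)),
  (6, .fail),
  (1, (.step [2, 16, 21, 8, 16] (.step [8, 16, 21, 8] .fail))),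
  (1, (.step [0, 16] .fail)),
  (7, .fail),
  (1, (.step [7, 16, 9, 17] .fail)),
  (8, .fail),
  (1, (.step [0, 2, 7, 11, 0, 16] .fail)),
  (5, .fail),
  (1, (.step [2, 21, 10, 20, 12] .fail)),
  (15, .fail),
  (1, (.step [0, 2, 9, 18, 7, 17] .fail)),
  (1, .fail),
  (1, (.step [0, 2, 9, 11, 13, 21] .fail)),
  (20, .fail),
  (1, (.step [9, 17, 7, 10] .fail)),
  (6, .fail),
  (1, (.step [0, 2, 16, 20, 16] (.step [8, 16, 21, 10, 20] .fail))),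
  (22, .fail),
  (1, (.step [0, 2, 20, 15] .fail)),
  (19, .fail),
  (1, (.step [7, 9, 10] .fail)),
  (17, .fail),
  (1, (.step [0, 9, 15, 20, 18, 8] .fail)),
  (3, .fail),
  (1, (.step [0, 2, 20, 16, 18] .fail)),
  (1, (.step [2, 21, 10, 9, 16] .fail)),
  (10, .fail),
  (1, (.step [0, 9, 10, 15, 19] .fail)),
  (39, .fail),
  (1, (.step [2, 7, 9, 21] .fail)),
  (78, .fail),
  (1, (.step [7, 11, 12, 16, 21] .fail)),
  (13, .fail),
  (1, (.step [7, 20, 21, 8] .fail)),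
  (8, .fail),
  (1, (.step [0, 9, 17, 9, 18] .fail)),
  (10, .fail),
  (1, (.step [0, 2, 16, 9, 8] .fail)),
  (28, .fail),
  (1, (.step [0, 11, 10, 12, 15] .fail)),
  (1, (.step [0, 9, 17, 2, 20] .fail)),
  (12, .fail),
  (1, (.step [0, 9, 8, 19, 0] .fail)),
  (3, .fail),
  (1, (.step [2, 12, 10, 19, 0] .fail)),
  (22, .fail),
  (1, (.step [2, 21, 8, 15] .fail)),
  (29, .fail),
  (1, (.step [0, 2, 16, 9, 18] .fail)),
  (4, .fail),
  (1, (.step [2, 21, 10, 12] .fail)),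
  (6, .fail),
  (1, (.step [2, 16, 21, 7] .fail)),
  (17, .fail),
  (1, (.step [0, 17, 10, 9, 8] .fail)),
  (1, (.step [0, 16, 17, 7] .fail)),
  (17, .fail),
  (1, (.step [7, 17, 0, 2, 20] .fail)),
  (15, .fail),
  (1, (.step [2, 21, 7] .fail)),
  (5, .fail),
  (1, (.step [0, 13, 19, 9, 16] .fail)),
  (19, .fail),
  (1, (.step [0, 9, 11, 18, 10] .fail)),
  (9, .fail),
  (1, (.step [0, 16, 7, 11, 10] .fail)),
  (6, .fail),
  (1, (.step [7, 17, 0, 2] .fail)),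
  (6, .fail),
  (1, (.step [0, 2, 9, 8, 11, 17] .fail)),
  (9, .fail),
  (1, (.step [0, 9, 8, 10, 21] .fail)),
  (1, (.step [0, 13, 16, 8] .fail)),
  (2, .fail),
  (1, (.step [0, 9, 20, 15, 7] (.step [8, 13, 16, 20, 12] (.step [10, 20, 11, 21, 10] .fail)))),
  (9, .fail),
  (1, (.step [2, 7, 11, 20, 15] .fail)),
  (2, .fail),
  (1, (.step [7, 18, 8, 15] .fail)),
  (1, .fail),
  (1, (.step [0, 2, 11, 7, 19, 9] .fail)),
  (1, .fail),
  (1, (.step [0, 11, 19, 7, 9] .fail)),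
  (1, (.step [7, 19, 10, 12, 20] (.step [8, 13, 16, 20, 10, 18] .fail))),
  (13, .fail),
  (1, (.step [0, 16, 7, 8, 21] .fail)),
  (16, .fail),
  (1, (.step [0, 2, 12, 13, 7] (.step [8, 13, 21, 8, 10, 17, 20] .fail))),
  (1, (.step [0, 2, 20, 15] .fail)),
  (3, .fail),
  (1, (.step [0, 16, 17, 20, 7] .fail)),
  (1, .fail),
  (1, (.step [0, 16, 19, 7, 20] .fail)),
  (1, (.step [0, 2, 12, 13] .fail)),
  (3, .fail),
  (1, (.step [2, 7, 11, 0, 16] .fail)),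
  (33, .fail),
  (1, (.step [0, 11, 13, 7, 12] .fail)),
  (3, .fail),
  (1, (.step [0, 7, 12, 18, 7] .fail)),
  (4, .fail),
  (1, (.step [7, 17, 9, 8] .fail)),
  (17, .fail),
  (1, (.step [0, 9, 17, 20, 0, 13] .fail)),
  (1, (.step [2, 16, 7, 17, 10] .fail)),
  (5, .fail),
  (1, (.step [0, 2, 11, 16, 20] .fail)),
  (5, .fail),
  (1, (.step [7, 14, 17, 21] .fail)),
  (1, (.step [7, 20, 18, 7, 15] (.step [8, 13, 15, 18, 21, 8, 10] (.step [10, 11, 20, 19] .fail)))),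
  (1, .fail),
  (1, (.step [0, 9, 8, 11, 18] .fail)),
  (12, .fail),
  (1, (.step [2, 14, 16, 21, 8] .fail)),
  (1, (.step [0, 2, 9, 19, 0] .fail)),
  (7, .fail),
  (1, (.step [0, 13, 17, 7, 15] .fail)),
  (6, .fail),
  (1, (.step [7, 12, 19, 20, 11] .fail)),
  (7, .fail),
  (1, (.step [7, 20] .fail)),
  (6, .fail),
  (1, (.step [7, 12, 13, 8] .fail)),
  (1, .fail),
  (1, (.step [7, 14, 20, 10] .fail)),
  (15, .fail),
  (1, (.step [7, 14, 18, 8] .fail)),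
  (10, .fail)])

/-- a piece of a certificate -/
noncomputable def cCp_2 : Cert := (Cert.rl [(5, .fail),
  (1, (.step [0, 7, 18, 10, 11] (.step [8, 15, 20, 16, 21] .fail))),
  (6, .fail),
  (1, (.step [9, 16, 20, 12] .fail)),
  (1, .fail),
  (1, (.step [0, 15, 20, 10] .fail)),
  (14, .fail),
  (1, (.step [0, 2, 11, 12] .fail)),
  (13, .fail),
  (1, (.step [7, 12, 13, 14] .fail)),
  (1, (.step [7, 12, 13] .fail)),
  (23, .fail),
  (1, (.step [7, 12, 19, 20] .fail)),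
  (32, .fail),
  (1, (.step [0, 7, 15, 20] .fail)),
  (7, .fail),
  (1, (.step [0, 15, 7, 18, 20] .fail)),
  (23, .fail),
  (1, (.step [2, 7, 9, 14, 17] .fail)),
  (2, .fail),
  (1, (.step [9, 10, 17, 10] .fail)),
  (9, .fail),
  (1, (.step [0, 13, 8, 16] .fail)),
  (15, .fail),
  (1, (.step [7, 16, 18] .fail)),
  (9, .fail),
  (1, (.step [0, 2, 20, 15, 7] .fail)),
  (10, .fail),
  (1, (.step [0, 13, 19, 7, 21] .fail)),
  (1, (.step [2, 16, 20, 7, 10] .fail)),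
  (1, .fail),
  (1, (.step [0, 15, 8, 18, 10] .fail)),
  (4, .fail),
  (1, (.step [9, 19, 20, 11] .fail)),
  (1, (.step [2, 7, 17, 10, 19] .fail)),
  (2, .fail),
  (1, (.step [0, 7, 9] .fail)),
  (1, .fail),
  (1, (.step [0, 11, 10] .fail)),
  (15, .fail),
  (1, (.step [0, 7, 15, 0, 11, 13] .fail)),
  (3, .fail),
  (1, (.step [7, 17, 10, 12] .fail)),
  (1, (.step [7, 15, 18, 10, 20] .fail)),
  (13, .fail),
  (1, (.step [9, 18, 20, 19] .fail)),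
  (18, .fail),
  (1, (.step [0, 2, 7, 14] .fail)),
  (6, .fail),
  (1, (.step [2, 15, 0, 13, 20] .fail)),
  (19, .fail),
  (1, (.step [7, 17, 9, 8] .fail)),
  (1, (.step [2, 9, 15, 0] .fail)),
  (5, .fail),
  (1, (.step [7, 9, 21] .fail)),
  (4, .fail),
  (1, (.step [7, 11, 17, 20] .fail)),
  (3, .fail),
  (1, (.step [9, 8, 15, 16] .fail)),
  (6, .fail),
  (1, (.step [0, 16, 2, 21] .fail)),
  (2, .fail),
  (1, (.step [0, 13, 20, 16, 18] .fail)),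
  (9, .fail),
  (1, (.step [0, 15, 8, 18, 9] .fail)),
  (19, .fail),
  (1, (.step [0, 17, 9, 10, 16] (.step [8, 13, 15, 16, 20] .fail))),
  (1, (.step [7, 17, 10, 9, 8] .fail)),
  (5, .fail),
  (1, (.step [0, 13, 14, 7] .fail)),
  (30, .fail),
  (1, (.step [0, 11, 17, 0, 20] .fail)),
  (15, .fail),
  (1, (.step [0, 16, 17, 7, 18] .fail)),
  (19, .fail),
  (1, (.step [7, 11, 17, 9] .fail)),
  (18, .fail),
  (1, (.step [9, 18, 8, 20, 16] .fail)),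
  (1, .fail),
  (1, (.step [9, 8, 15, 16, 20] .fail)),
  (3, .fail),
  (1, (.step [7, 14, 19] .fail)),
  (24, .fail),
  (1, (.step [9] .fail)),
  (18, .fail),
  (1, (.step [2, 12, 20, 18, 7] .fail)),
  (19, .fail),
  (1, (.step [7, 11, 19, 20] .fail)),
  (2, .fail),
  (1, (.step [2, 21, 7, 8] (.step [8, 18, 10, 20, 16] .fail))),
  (11, .fail),
  (1, (.step [0, 7, 15, 0, 8] .fail)),
  (14, .fail),
  (1, (.step [0, 15, 8, 20, 18] .fail)),
  (12, .fail),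
  (1, (.step [2, 9, 17, 9, 8] .fail)),
  (2, .fail),
  (1, (.step [2, 21, 7, 11, 15] .fail)),
  (12, .fail),
  (1, (.step [0, 7, 11, 7] .fail)),
  (7, .fail),
  (1, (.step [0, 9, 17, 2, 20] .fail)),
  (7, .fail),
  (1, (.step [0, 16, 20, 0, 19] .fail)),
  (1, .fail),
  (1, (.step [7, 16, 17, 10] .fail)),
  (13, .fail),
  (1, (.step [7, 20, 10, 18] .fail)),
  (1, .fail),
  (1, (.step [0, 2, 11, 21, 7] .fail)),
  (25, .fail),
  (1, (.step [0, 9, 10, 17, 21] (.step [8, 16, 18, 10, 20, 15] .fail))),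
  (9, .fail),
  (1, (.step [0, 7, 17, 9] .fail)),
  (1, (.step [0, 9, 17, 20, 7] (.step [8, 13, 18, 8, 10, 19, 20] .fail))),
  (8, .fail),
  (1, (.step [7, 11, 14, 15] (.step [8, 15, 16, 8, 20, 15] .fail))),
  (7, .fail),
  (1, (.step [0, 15, 20, 0, 19] (.step [8, 15, 16, 8, 20, 18] .fail))),
  (10, .fail),
  (1, (.step [0, 9, 17, 10, 12] .fail)),
  (3, .fail),
  (1, (.step [0, 2, 9, 15] .fail)),
  (6, .fail),
  (1, (.step [0, 2, 12, 10, 20] .fail)),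
  (39, .fail),
  (1, (.step [0, 2, 16, 0, 19] .fail)),
  (13, .fail),
  (1, (.step [7, 16, 20, 0] .fail)),
  (1, (.step [0, 20, 10, 16, 0] .fail)),
  (4, .fail),
  (1, (.step [0, 9, 15, 20] (.step [8, 15, 18, 10, 21, 10] .fail))),
  (1, (.step [7, 9, 10, 15] .fail)),
  (8, .fail),
  (1, (.step [0, 9, 10, 19, 21] (.step [8, 16, 20, 21, 8, 10, 19] .fail))),
  (6, .fail),
  (1, (.step [2, 7, 11, 20, 19] .fail)),
  (31, .fail),
  (1, (.step [2, 9, 8, 16, 2] .fail)),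
  (26, .fail),
  (1, (.step [9, 18, 20, 0] .fail)),
  (4, .fail),
  (1, (.step [7, 17, 0, 2, 17] .fail)),
  (3, .fail),
  (1, (.step [0, 16, 17, 10] (.step [8, 15, 16, 18, 10, 20] .fail))),
  (1, (.step [9, 8, 15, 17, 20] .fail)),
  (17, .fail),
  (1, (.step [7, 12, 16, 20] (.step [8, 18, 10, 19, 20, 18] (.step [10, 18, 19, 10] .fail)))),
  (24, .fail),
  (1, (.step [0, 16, 20, 0] .fail)),
  (4, .fail),
  (1, (.step [9, 17, 0] .fail)),
  (17, .fail),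
  (1, (.step [2, 12, 15, 20, 19] .fail)),
  (9, .fail),
  (1, (.step [0, 16, 2, 20] .fail)),
  (3, .fail),
  (1, (.step [0, 11, 10, 18] .fail)),
  (12, .fail),
  (1, (.step [7, 16, 21] (.step [8, 13, 15, 8, 20, 15, 19, 20] .fail))),
  (4, .fail),
  (1, (.step [0, 7, 9, 16, 21] .fail)),
  (11, .fail),
  (1, (.step [0, 9, 13, 8] .fail)),
  (4, .fail),
  (1, (.step [2, 12, 15, 20, 12] .fail)),
  (1, (.step [7, 12, 13, 15] .fail)),
  (3, .fail),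
  (1, (.step [0, 17, 7, 15, 19] (.step [8, 18, 21, 10, 18, 20] (.step [10, 11, 20, 10, 18] (.step [20, 11, 18, 19] (.step [11, 1, 6, 7, 18, 19, 14, 18, 20, 12, 6, 4, 0, 18, 20, 19, 10, 18, 8, 16, 15, 20, 10, 20, 19, 16, 20, 21, 11, 11, 12] (.step [1, 6, 7, 18, 19, 14, 18, 20, 12, 6, 4, 0, 18, 20, 19, 10, 18, 8, 16, 15, 20, 10, 20, 19, 16, 20, 21, 11, 19] .fail))))))),
  (28, .fail),
  (1, (.step [7, 17, 19, 0] .fail)),
  (6, .fail),
  (1, (.step [0, 11, 16, 8, 21] .fail)),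
  (43, .fail),
  (1, (.step [7, 9, 17, 9, 16] (.step [8, 15, 20, 18, 21, 10] .fail))),
  (6, .fail),
  (1, (.step [0, 11, 10, 16, 19] (.step [8, 15, 18, 21, 10] .fail))),
  (7, .fail),
  (1, (.step [2, 16, 20, 21, 10] (.step [8, 15, 20, 11, 10, 21] .fail))),
  (35, .fail),
  (1, (.step [0, 11, 15, 2, 20] .fail)),
  (10, .fail),
  (1, (.step [7, 17, 9, 20, 10] .fail)),
  (12, .fail),
  (1, (.step [0, 13, 8, 15, 19] .fail)),
  (1, .fail),
  (1, (.step [0, 2, 16, 2, 20] .fail)),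
  (11, .fail),
  (1, (.step [0, 13, 14, 0] .fail)),
  (1, (.step [2, 21, 7, 11] .fail)),
  (3, .fail),
  (1, (.step [0, 2, 9, 13, 16] .fail)),
  (1, (.step [9, 16, 20, 7] (.step [8, 15, 18, 8, 10, 18] .fail))),
  (1, .fail),
  (1, (.step [7, 9, 12, 17] .fail)),
  (9, .fail),
  (1, (.step [0, 11, 7, 16, 17] (.step [8, 13, 18, 20, 12, 10] (.step [10, 20, 18, 10] .fail)))),
  (7, .fail),
  (1, (.step [7, 12, 10, 13] (.step [8, 13, 15] (.step [10, 18, 19, 10, 20] .fail)))),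
  (19, .fail),
  (1, (.step [0, 7, 18, 20] .fail)),
  (2, .fail),
  (1, (.step [0, 16, 17, 0, 9] (.step [8, 13, 21, 8] (.step [10, 11, 17, 20, 16] .fail)))),
  (3, .fail),
  (1, (.step [0, 9, 18, 20, 7] .fail)),
  (2, .fail),
  (1, (.step [0, 2, 9, 17, 18, 8] (.step [8, 13, 15, 8] .fail))),
  (30, .fail),
  (1, (.step [0, 15, 7, 18, 20] .fail)),
  (19, .fail),
  (1, (.step [0, 15, 2, 7] .fail)),
  (17, .fail),
  (1, (.step [7, 14, 15, 16, 9] (.step [8, 13, 21, 10, 17, 20] (.step [10, 11, 18, 21] .fail)))),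
  (1, .fail),
  (1, (.step [0, 11, 10, 14, 9] .fail)),
  (5, .fail),
  (1, (.step [7, 14, 16] .fail)),
  (1, (.step [7, 12, 13, 16] .fail)),
  (1, .fail),
  (1, (.step [2, 16, 7, 9, 14] (.step [8, 13, 18, 21, 10, 19] (.step [10, 20, 11, 12, 10, 20] .fail)))),
  (2, .fail),
  (1, (.step [7, 20, 11, 7] .fail)),
  (1, .fail),
  (1, (.step [2, 7, 20, 16, 0] .fail)),
  (8, .fail),
  (1, (.step [0, 16, 7, 17, 21] .fail)),
  (7, .fail),
  (1, (.step [7, 13, 8, 17] .fail)),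
  (1, (.step [2, 9, 17, 2, 7] (.step [8, 15, 21, 10] .fail))),
  (1, .fail),
  (1, (.step [2, 7, 21, 7, 16] .fail)),
  (9, .fail),
  (1, (.step [0, 2, 9, 14, 18, 20] .fail)),
  (1, .fail),
  (1, (.step [0, 7, 11, 10, 18] .fail)),
  (2, .fail),
  (1, (.step [0, 9, 8, 20, 19] .fail)),
  (6, .fail),
  (1, (.step [0, 9, 18, 7, 17] .fail)),
  (6, .fail),
  (1, (.step [0, 9, 18, 7, 19] .fail)),
  (1, (.step [2, 9, 15, 16] .fail)),
  (10, .fail),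
  (1, (.step [2, 15, 20, 11] .fail)),
  (3, .fail),
  (1, (.step [0, 2, 9, 12, 13] .fail)),
  (5, .fail),
  (1, (.step [0, 9, 19, 10] (.step [8, 15, 20, 19, 21] (.step [10, 11, 12, 10, 20, 15] .fail)))),
  (7, .fail),
  (1, (.step [7, 20, 10, 18] .fail)),
  (3, .fail),
  (1, (.step [7, 18, 20] .fail)),
  (4, .fail),
  (1, (.step [0, 9, 15, 18, 7] (.step [8, 13, 15, 8, 20, 18, 10] .fail))),
  (6, .fail),
  (1, (.step [0, 11, 7, 21] (.step [8, 13, 15, 18, 20, 21, 10] .fail))),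
  (1, (.step [0, 2, 12] (.step [8, 21, 10, 18, 19] .fail))),
  (2, .fail),
  (1, (.step [2, 16, 20, 12] .fail)),
  (11, .fail),
  (1, (.step [0, 14] .fail)),
  (16, .fail),
  (1, (.step [0, 11, 10, 20] (.step [8, 15, 20, 11, 18, 10] .fail))),
  (6, .fail),
  (1, (.step [2, 12, 14, 16] .fail)),
  (10, .fail),
  (1, (.step [0, 2, 21, 7, 19] .fail)),
  (8, .fail),
  (1, (.step [0, 7, 17, 9, 19] (.step [8, 13, 15, 20, 11, 10, 16] (.step [10, 12, 18, 20, 16] (.step [20, 12, 15] (.step [11, 21] (.step [18] .fail))))))),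
  (23, .fail),
  (1, (.step [0, 9, 18, 20, 10] .fail)),
  (15, .fail),
  (1, (.step [7, 12, 10, 15, 16] .fail)),
  (2, .fail),
  (1, (.step [7, 11, 12, 17, 9] (.step [8, 13, 16, 20, 10, 12, 17] (.step [10, 20] .fail)))),
  (5, .fail),
  (1, (.step [0, 7, 15, 7] .fail)),
  (4, .fail),
  (1, (.step [0, 2, 15, 0, 2] .fail)),
  (11, .fail),
  (1, (.step [0, 11, 7, 15, 0] (.step [8, 13, 15, 18] (.step [10, 11, 19, 20, 15] .fail)))),
  (14, .fail),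
  (1, (.step [0, 2, 9, 14, 19] .fail)),
  (5, .fail),
  (1, (.step [2, 12, 20, 21] .fail)),
  (9, .fail),
  (1, (.step [0, 9, 8] .fail)),
  (5, .fail),
  (1, (.step [0, 11, 10, 12, 19] .fail)),
  (1, (.step [9, 17, 7, 11] .fail)),
  (10, .fail),
  (1, (.step [0, 2, 9, 15] .fail)),
  (11, .fail),
  (1, (.step [0, 7, 9, 21, 2] .fail)),
  (1, (.step [7] (.step [8, 13, 18, 8, 10, 20, 12] .fail))),
  (12, .fail),
  (1, (.step [0, 2, 19, 9, 16, 18] (.step [8, 16, 20, 10, 11, 20] .fail))),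
  (3, .fail),
  (1, (.step [2, 21, 7, 10] .fail)),
  (1, (.step [0, 2, 11, 7, 10] .fail)),
  (10, .fail),
  (1, (.step [0, 2, 12, 13] .fail)),
  (15, .fail),
  (1, (.step [0, 15, 8, 17, 0] .fail)),
  (3, .fail),
  (1, (.step [0, 2, 15, 2, 20] (.step [8, 13, 18, 10, 17] .fail))),
  (1, (.step [9, 10, 14, 17, 2] .fail)),
  (2, .fail),
  (1, (.step [0, 2, 9, 12, 15, 16] .fail)),
  (6, .fail),
  (1, (.step [7, 18, 19, 7] .fail)),
  (30, .fail),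
  (1, (.step [0, 2, 16, 2] .fail)),
  (1, .fail),
  (1, (.step [0, 14, 20, 15] .fail)),
  (1, .fail),
  (1, (.step [7, 15, 18] .fail)),
  (12, .fail),
  (1, (.step [7, 19, 10, 21, 7] .fail)),
  (1, (.step [0, 16, 19, 0, 10] .fail)),
  (1, (.step [7, 11, 16, 9, 19] .fail)),
  (13, .fail),
  (1, (.step [9, 8, 17, 0] .fail)),
  (12, .fail),
  (1, (.step [0, 2, 13, 16] .fail)),
  (4, .fail),
  (1, (.step [0, 2, 7, 11, 18, 7] .fail)),
  (1, (.step [2, 12, 14, 20, 11] (.step [8, 13, 15, 16, 20, 10, 17] (.step [10, 17, 20, 15] .fail)))),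
  (1, .fail),
  (1, (.step [0, 13, 8, 17, 7] .fail)),
  (12, .fail),
  (1, (.step [0, 2, 16, 19, 9] .fail)),
  (16, .fail),
  (1, (.step [9, 10, 20, 0, 21] .fail)),
  (9, .fail),
  (1, (.step [9, 17, 18, 20, 7] .fail)),
  (1, (.step [2, 12, 10, 11] .fail)),
  (6, .fail),
  (1, (.step [7, 20, 18, 10, 19] .fail)),
  (2, .fail),
  (1, (.step [0, 15, 7, 17, 0] .fail)),
  (4, .fail),
  (1, (.step [0, 9, 17, 10, 12] .fail)),
  (1, (.step [9, 10, 14, 19] .fail)),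
  (2, .fail),
  (1, (.step [0, 15, 20, 0, 11] .fail)),
  (1, (.step [7, 13, 15, 16, 19] .fail)),
  (10, .fail),
  (1, (.step [7, 13, 18, 10] .fail)),
  (1, .fail),
  (1, (.step [0, 7, 11, 10, 19] .fail)),
  (1, .fail),
  (1, (.step [0, 11, 10, 18, 8] .fail)),
  (4, .fail),
  (1, (.step [0, 9, 15, 7, 14] .fail)),
  (7, .fail),
  (1, (.step [0, 9, 11, 15, 19, 0] .fail)),
  (17, .fail),
  (1, (.step [7, 11, 0, 13] .fail)),
  (1, (.step [7, 12, 17, 2] .fail)),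
  (5, .fail),
  (1, (.step [0, 11, 7, 15, 18] .fail)),
  (23, .fail),
  (1, (.step [0, 7, 16, 0, 21] .fail)),
  (11, .fail),
  (1, (.step [0, 7, 12, 17, 7, 19] .fail)),
  (15, .fail),
  (1, (.step [2, 14, 16] (.step [8, 16, 21, 10, 18] .fail))),
  (23, .fail),
  (1, (.step [0, 2, 11, 7, 19, 9] .fail)),
  (3, .fail),
  (1, (.step [7, 9, 15, 8] .fail)),
  (41, .fail),
  (1, (.step [0, 15, 19, 20, 19] (.step [8, 15, 16, 20, 10, 15] .fail))),
  (16, .fail),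
  (1, (.step [0, 9, 15, 2, 7] .fail)),
  (25, .fail),
  (1, (.step [0, 16, 20, 0, 11] .fail)),
  (12, .fail),
  (1, (.step [0, 15, 7] .fail)),
  (10, .fail),
  (1, (.step [0, 16, 2, 17] .fail)),
  (6, .fail),
  (1, (.step [0, 15, 20, 0, 11] .fail)),
  (2, .fail),
  (1, (.step [0, 9, 17, 0] (.step [8, 16, 20, 10, 12, 17] (.step [10, 11, 17, 20, 16] .fail)))),
  (9, .fail),
  (1, (.step [7, 15, 17, 0, 14] (.step [8, 15, 18, 21, 10, 20, 16] .fail))),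
  (2, .fail),
  (1, (.step [2, 15] .fail)),
  (19, .fail),
  (1, (.step [7, 9, 21] .fail)),
  (1, (.step [7, 13, 15, 16, 19] .fail)),
  (11, .fail),
  (1, (.step [2, 16, 0, 9] .fail)),
  (10, .fail),
  (1, (.step [7, 12, 16, 20] .fail)),
  (11, .fail),
  (1, (.step [7, 14, 20, 10, 16] .fail)),
  (6, .fail),
  (1, (.step [7, 15, 16, 7] .fail)),
  (2, .fail),
  (1, (.step [7, 11, 13, 15, 16] .fail)),
  (15, .fail),
  (1, (.step [0, 19] .fail)),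
  (6, .fail),
  (1, (.step [0, 2, 16, 9, 14] .fail)),
  (3, .fail),
  (1, (.step [2, 21, 10, 20] (.step [8, 13, 16, 20, 10, 11, 20] .fail))),
  (31, .fail),
  (1, (.step [0, 2, 9, 14, 17, 18] .fail)),
  (3, .fail),
  (1, (.step [0, 2, 9, 17, 19] .fail)),
  (2, .fail),
  (1, (.step [0, 16, 17, 7, 10] .fail)),
  (38, .fail),
  (1, (.step [0, 2, 21, 7, 8] .fail)),
  (3, .fail),
  (1, (.step [0, 16, 19, 0] .fail)),
  (7, .fail),
  (1, (.step [2, 9, 10, 19, 7] .fail)),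
  (12, .fail),
  (1, (.step [2, 7, 21, 10, 9, 14] .fail)),
  (7, .fail),
  (1, (.step [0, 2, 9, 8, 13, 15] .fail)),
  (10, .fail),
  (1, (.step [0, 7, 15, 2, 12] .fail)),
  (26, .fail),
  (1, (.step [7, 13, 21, 7] .fail)),
  (14, .fail),
  (1, (.step [0, 7, 18, 9, 14] .fail)),
  (9, .fail),
  (1, (.step [0, 16, 7, 11, 12] .fail)),
  (7, .fail),
  (1, (.step [0, 7, 16, 17, 2] .fail)),
  (4, .fail),
  (1, (.step [2, 15, 20, 16] .fail)),
  (16, .fail),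
  (1, (.step [7, 18, 19, 9, 8] .fail)),
  (4, .fail),
  (1, (.step [7, 20, 11, 18] .fail)),
  (3, .fail),
  (1, (.step [2, 9, 10, 21, 2] .fail)),
  (6, .fail),
  (1, (.step [2, 21, 10, 9] .fail)),
  (9, .fail),
  (1, (.step [0, 16, 2, 8, 21] .fail)),
  (11, .fail),
  (1, (.step [0, 9, 17, 10, 11] .fail)),
  (1, .fail),
  (1, (.step [7, 17, 10, 18] (.step [8, 18, 20, 10, 12] .fail))),
  (1, (.step [0, 2, 15, 7, 11, 14] .fail)),
  (8, .fail),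
  (1, (.step [2, 9, 17, 7, 9] .fail)),
  (12, .fail),
  (1, (.step [7, 9, 12, 16, 2] .fail)),
  (13, .fail),
  (1, (.step [0, 2, 15, 0, 17] .fail)),
  (10, .fail),
  (1, (.step [0, 2, 7, 11, 0, 18] .fail)),
  (15, .fail),
  (1, (.step [0, 13, 15, 20, 7] .fail)),
  (1, (.step [0, 11, 13, 17, 10] .fail)),
  (11, .fail),
  (1, (.step [0, 7, 15, 16, 9] .fail)),
  (1, .fail),
  (1, (.step [0, 2, 21, 7, 10] .fail)),
  (2, .fail),
  (1, (.step [0, 16, 7, 20, 7] .fail)),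
  (8, .fail),
  (1, (.step [0, 9, 11, 7, 16] .fail)),
  (7, .fail),
  (1, (.step [9, 17, 7, 16, 9] .fail)),
  (11, .fail),
  (1, (.step [0, 15, 8, 13, 19] .fail)),
  (5, .fail),
  (1, (.step [7, 20, 10] .fail)),
  (11, .fail),
  (1, (.step [0, 15, 19, 7] .fail)),
  (1, (.step [0, 16, 17, 2, 9] .fail)),
  (6, .fail),
  (1, (.step [0, 16, 2, 20, 0] .fail)),
  (20, .fail),
  (1, (.step [0, 2, 15, 0, 17, 20] .fail)),
  (18, .fail),
  (1, (.step [0, 2, 7] .fail)),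
  (25, .fail),
  (1, (.step [0, 11, 10, 15, 19] .fail)),
  (1, .fail),
  (1, (.step [0, 11, 13, 7, 21] .fail)),
  (1, .fail),
  (1, (.step [0, 7, 9, 8, 19, 20] .fail)),
  (18, .fail),
  (1, (.step [2, 12, 20, 16] .fail)),
  (12, .fail),
  (1, (.step [7, 9, 16, 7] .fail)),
  (31, .fail),
  (1, (.step [0, 7, 15, 2] .fail)),
  (16, .fail),
  (1, (.step [0, 2, 11, 7, 21, 8] .fail)),
  (39, .fail),
  (1, (.step [7, 12, 13, 8, 14] .fail)),
  (2, .fail),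
  (1, (.step [0, 7, 21, 2, 16] .fail)),
  (2, .fail),
  (1, (.step [7, 11, 12, 18] .fail)),
  (9, .fail),
  (1, (.step [7, 11, 13, 20] .fail)),
  (1, (.step [0, 9, 10, 17, 7] .fail)),
  (5, .fail),
  (1, (.step [7, 16, 19, 20] (.step [8, 13, 21, 10, 19] .fail))),
  (7, .fail),
  (1, (.step [0, 16, 2, 20] .fail)),
  (35, .fail),
  (1, (.step [7, 12, 17, 9] .fail)),
  (7, .fail),
  (1, (.step [7, 15, 16, 19, 10] .fail)),
  (1, (.step [7, 12, 13, 17] (.step [8, 13, 16, 18, 10, 20, 18, 8] .fail))),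
  (12, .fail),
  (1, (.step [0, 2, 9, 12, 17, 10] .fail)),
  (3, .fail),
  (1, (.step [2, 16, 8, 13] .fail)),
  (5, .fail),
  (1, (.step [7, 16, 20, 0] .fail)),
  (11, .fail),
  (1, (.step [0, 13, 15, 20, 18] .fail)),
  (19, .fail),
  (1, (.step [9, 17, 2, 7] .fail)),
  (13, .fail),
  (1, (.step [0, 15, 17, 7] .fail)),
  (13, .fail),
  (1, (.step [7, 14, 18, 10] .fail)),
  (3, .fail),
  (1, (.step [0, 11, 7, 15, 18] (.step [8, 15, 21, 10] (.step [10, 12, 18, 10] .fail)))),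
  (7, .fail),
  (1, (.step [7, 14, 20, 11] .fail)),
  (4, .fail),
  (1, (.step [7, 11, 10, 16] .fail)),
  (2, .fail),
  (1, (.step [2, 9, 8, 16, 2] (.step [8, 13, 16, 20, 21, 10] .fail))),
  (1, (.step [0, 2, 15, 19] .fail)),
  (15, .fail),
  (1, (.step [0, 2, 9, 11, 15, 18] .fail)),
  (13, .fail),
  (1, (.step [2, 15, 21, 8, 9] .fail)),
  (13, .fail),
  (1, (.step [0, 9, 20, 15, 2] .fail)),
  (8, .fail),
  (1, (.step [0, 2, 9, 14, 20] .fail)),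
  (1, (.step [7, 17, 18, 7] .fail)),
  (12, .fail),
  (1, (.step [0, 11, 15, 17, 9, 8] (.step [8, 18, 10, 20, 18, 19] .fail))),
  (12, .fail),
  (1, (.step [0, 7, 17, 7, 20] (.step [8, 13, 15, 8, 20, 10, 18, 20] (.step [10, 12, 18, 20, 12] .fail)))),
  (17, .fail),
  (1, (.step [0, 7, 11, 15] .fail)),
  (6, .fail),
  (1, (.step [0, 2, 9, 10] .fail)),
  (1, .fail),
  (1, (.step [0, 2, 9, 10, 14] (.step [8, 16, 18, 10, 20, 10] (.step [10, 11, 20, 19] .fail)))),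
  (5, .fail),
  (1, (.step [2, 14, 17, 7, 13] .fail)),
  (28, .fail),
  (1, (.step [0, 9, 17, 2] .fail)),
  (8, .fail),
  (1, (.step [0, 11, 16, 8, 20] .fail)),
  (10, .fail),
  (1, (.step [2, 7, 9, 11, 18] .fail)),
  (12, .fail),
  (1, (.step [7, 11, 13, 20, 15] .fail)),
  (1, .fail),
  (1, (.step [9, 10, 20, 18] (.step [8, 13, 15, 18, 21] .fail))),
  (8, .fail),
  (1, (.step [7, 13, 8, 19] .fail)),
  (20, .fail),
  (1, (.step [0, 13, 16, 8, 13] .fail)),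
  (18, .fail),
  (1, (.step [7, 11, 20, 18] (.step [8, 16, 20, 11, 10, 17] .fail))),
  (1, (.step [0, 7, 9, 8, 19] .fail)),
  (1, .fail),
  (1, (.step [0, 2, 7, 21, 2] (.step [8, 13, 18, 8, 10, 21] (.step [10, 12, 20, 21] (.step [20, 11, 12, 20] (.step [12, 21] (.step [18] (.step [] (.step [17] (.step [] (.done [3, 0, 2, 8, 9, 5, 4, 6, 8, 7, 1, 3, 0, 2, 8, 9, 5, 4, 6, 8, 7, 1, 3, 0, 2, 8, 9, 5, 4, 6, 8, 7, 1, 3, 0, 2, 8, 9, 5, 4, 6, 8, 7, 1, 3, 0, 2, 8, 9, 5, 4, 6, 8, 7, 1, 3, 0, 2, 8, 9, 5, 4, 6, 8, 7, 1, 3, 0, 2, 8, 9, 5, 4, 6, 8, 7, 1, 3, 0, 2, 8, 9, 5, 4, 6, 8, 7, 1, 3, 0, 2, 8, 9, 5, 4, 6, 8, 7, 1, 3, 0, 2, 8, 9, 5, 4, 6, 8, 7, 1, 3, 0, 2, 8, 9, 5, 4, 6, 8, 7, 1, 3, 0, 2, 8, 9, 5, 4, 6, 8, 7, 1]))))))))))),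
  (12, .fail),
  (1, (.step [7, 16, 17] .fail)),
  (32, .fail),
  (1, (.step [2, 14, 17, 7, 9] (.step [8, 13, 18, 10, 17, 20] .fail))),
  (5, .fail),
  (1, (.step [0, 16, 19, 7, 11] .fail)),
  (3, .fail),
  (1, (.step [7, 15, 8, 18] .fail)),
  (7, .fail),
  (1, (.step [2, 16, 20, 19] (.step [8, 18, 20, 11, 16] .fail))),
  (6, .fail),
  (1, (.step [0, 20, 18, 10, 9] .fail)),
  (1, .fail),
  (1, (.step [7, 14, 17, 9, 18] (.step [8, 13, 15, 20, 11, 16] (.step [10, 11, 12, 10, 20, 15] (.step [20, 15] (.step [12, 11, 21, 20, 16, 19, 20, 10, 20, 15, 16, 8, 18, 10, 19, 20, 18, 0, 4, 6, 12, 20, 18, 14, 19, 18, 7, 6, 1] (.step [14, 19, 1, 6, 7, 18, 19, 14, 18, 20, 12, 6, 4, 0, 18, 20, 19, 10, 18, 8, 16, 15, 20, 10, 20, 19, 16, 20, 21, 11] (.step [] (.step [] (.step [] (.done [3, 0, 2, 8, 9, 5, 4, 6, 8, 7, 1, 3, 0, 2, 8, 9, 5, 4, 6, 8, 7, 1, 3, 0, 2, 8, 9, 5, 4, 6, 8, 7, 1, 3, 0, 2, 8,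 9, 5, 4, 6, 8, 7, 1, 3, 0, 2, 8, 9, 5, 4, 6, 8, 7, 1, 3, 0, 2, 8, 9, 5, 4, 6, 8, 7, 1, 3, 0, 2, 8, 9, 5, 4, 6, 8, 7, 1, 3, 0, 2, 8, 9, 5, 4, 6, 8, 7, 1, 3, 0, 2, 8, 9, 5, 4, 6, 8, 7, 1, 3, 0, 2, 8, 9, 5, 4, 6, 8, 7, 1, 3, 0, 2, 8, 9, 5, 4, 6, 8, 7, 1, 3, 0, 2, 8, 9, 5, 4, 6, 8, 7, 1, 3, 0, 2, 8, 9, 5, 4, 6, 8, 7, 1, 3, 0, 2, 8, 9, 5, 4, 6, 8, 7, 1]))))))))))),
  (19, .fail),
  (1, (.step [0, 16, 17, 9, 18] .fail)),
  (3, .fail)])

/-- a piece of a certificate -/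
noncomputable def cCp_3 : Cert := (Cert.rl [(18, .fail),
  (1, (.step [0, 11, 15, 2, 21] .fail)),
  (4, .fail),
  (1, (.step [0, 9, 8, 20, 15] .fail)),
  (16, .fail),
  (1, (.step [0, 7, 21, 2, 8] .fail)),
  (1, .fail),
  (1, (.step [0, 2, 15, 8, 21] .fail)),
  (3, .fail),
  (1, (.step [7, 11, 20, 18, 10] .fail)),
  (12, .fail),
  (1, (.step [0, 11, 17, 9, 18] .fail)),
  (5, .fail),
  (1, (.step [2, 16, 20, 15] .fail)),
  (7, .fail),
  (1, (.step [0, 16, 20, 0, 11] .fail)),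
  (1, (.step [7, 16, 19, 20, 19] .fail)),
  (6, .fail),
  (1, (.step [2, 14, 17, 10, 20] .fail)),
  (5, .fail),
  (1, (.step [0, 11, 7, 16, 9] .fail)),
  (36, .fail),
  (1, (.step [0, 16, 2, 8, 13] (.step [8, 15, 20, 11, 10, 20, 21] .fail))),
  (19, .fail),
  (1, (.step [7, 11, 14, 21] .fail)),
  (1, (.step [0, 15, 7, 11, 0] (.step [8, 13, 16, 18, 10, 20, 18] (.step [10, 11, 12, 10, 20] .fail)))),
  (6, .fail),
  (1, (.step [9, 16, 17, 19] (.step [8, 13, 15, 8, 20, 18, 10] (.step [10, 20, 11, 21] .fail)))),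
  (1, .fail),
  (1, (.step [0, 9, 10, 15, 7] (.step [8, 21] (.step [10, 11, 18, 10, 20, 11] .fail)))),
  (1, .fail),
  (1, (.step [9, 10, 20, 12] (.step [8, 15, 20, 18, 21, 10] .fail))),
  (1, .fail),
  (1, (.step [0, 2, 9, 15, 2, 21] .fail)),
  (1, .fail),
  (1, (.step [2, 16, 9, 17, 2] .fail)),
  (19, .fail),
  (1, (.step [0, 2, 21, 8, 16] .fail)),
  (6, .fail),
  (1, (.step [7, 18, 9, 8] .fail)),
  (1, .fail),
  (1, (.step [0, 16, 8, 15] .fail)),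
  (4, .fail),
  (1, (.step [7, 9, 16, 2, 20] (.step [8, 13, 18, 8, 10, 12] .fail))),
  (3, .fail),
  (1, (.step [0, 2, 16, 19] (.step [8, 13, 18, 21, 10] .fail))),
  (2, .fail),
  (1, (.step [9, 19, 0, 16, 7] .fail)),
  (1, (.step [0, 15, 17, 2, 9] .fail)),
  (6, .fail),
  (1, (.step [2, 7, 18, 19] .fail)),
  (5, .fail),
  (1, (.step [0, 2, 11, 21, 8] .fail)),
  (15, .fail),
  (1, (.step [0, 13, 16, 20] .fail)),
  (13, .fail),
  (1, (.step [7, 18, 8, 15] .fail)),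
  (5, .fail),
  (1, (.step [0, 13, 8, 18, 10] .fail)),
  (18, .fail),
  (1, (.step [0, 20, 15, 2, 14] .fail)),
  (7, .fail),
  (1, (.step [0, 11, 7, 16] .fail)),
  (3, .fail),
  (1, (.step [7, 16, 8, 20] .fail)),
  (3, .fail),
  (1, (.step [0, 9, 17, 20, 7] .fail)),
  (1, .fail),
  (1, (.step [0, 7, 11, 0, 21] .fail)),
  (7, .fail),
  (1, (.step [7, 13, 16, 8] .fail)),
  (4, .fail),
  (1, (.step [0, 2, 11, 19] .fail)),
  (7, .fail),
  (1, (.step [0, 2, 12, 16, 0] .fail)),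
  (19, .fail),
  (1, (.step [2, 15, 0, 13] .fail)),
  (8, .fail),
  (1, (.step [7, 14, 15] .fail)),
  (18, .fail),
  (1, (.step [0, 11, 15, 7] .fail)),
  (9, .fail),
  (1, (.step [0, 16, 19, 10, 11] (.step [8, 13, 15, 16, 20, 10, 11] .fail))),
  (3, .fail),
  (1, (.step [2, 16, 8, 20, 12] .fail)),
  (10, .fail),
  (1, (.step [0, 13, 16, 20, 12] .fail)),
  (2, .fail),
  (1, (.step [2, 7, 20, 15, 0] .fail)),
  (9, .fail),
  (1, (.step [0, 14, 20, 7, 15] (.step [8, 15, 20, 11, 18] .fail))),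
  (8, .fail),
  (1, (.step [0, 13, 8, 17, 7] (.step [8, 13, 18, 8, 20, 11] .fail))),
  (4, .fail),
  (1, (.step [2, 16, 20] (.step [8, 13, 15, 20, 11] (.step [10, 20, 11, 21, 10] .fail)))),
  (2, .fail),
  (1, (.step [7, 19, 21, 2] .fail)),
  (2, .fail),
  (1, (.step [0, 11, 15, 2] (.step [8, 15, 20, 10, 12] (.step [10, 11, 18, 19] .fail)))),
  (12, .fail),
  (1, (.step [7, 13, 16, 7] .fail)),
  (15, .fail),
  (1, (.step [7, 9, 10, 15] .fail)),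
  (9, .fail),
  (1, (.step [2, 15, 21, 8, 9] .fail)),
  (7, .fail),
  (1, (.step [2, 9, 18, 20, 10] (.step [8, 13, 15, 8, 20, 10, 11, 21] (.step [10, 12, 18, 20, 16] .fail)))),
  (4, .fail),
  (1, (.step [0, 2, 9, 16, 7] .fail)),
  (4, .fail),
  (1, (.step [7, 16, 0, 21, 7] .fail)),
  (4, .fail),
  (1, (.step [7, 12, 10] .fail)),
  (17, .fail),
  (1, (.step [7, 11, 0, 21, 2] .fail)),
  (2, .fail),
  (1, (.step [2, 16, 7, 13] .fail)),
  (9, .fail),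
  (1, (.step [0, 2, 9, 8, 14] .fail)),
  (22, .fail),
  (1, (.step [7, 11, 17, 10, 12] .fail)),
  (6, .fail),
  (1, (.step [2, 7, 13, 21] .fail)),
  (17, .fail),
  (1, (.step [2, 9, 8, 21, 7] .fail)),
  (9, .fail),
  (1, (.step [7, 15, 8, 18] (.step [8, 16, 18, 10, 20, 15, 19] .fail))),
  (3, .fail),
  (1, (.step [2, 16, 0, 20, 7] .fail)),
  (12, .fail),
  (1, (.step [0, 20, 15, 7] .fail)),
  (13, .fail),
  (1, (.step [0, 15, 17, 20, 7] .fail)),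
  (4, .fail),
  (1, (.step [0, 2, 13, 8, 9] (.step [8, 13, 15, 8, 20, 10, 12, 20] .fail))),
  (12, .fail),
  (1, (.step [0, 11] .fail)),
  (23, .fail),
  (1, (.step [7, 11, 16, 20, 21] .fail)),
  (6, .fail),
  (1, (.step [0, 15, 7, 13] .fail)),
  (1, (.step [2, 15, 20, 0] .fail)),
  (3, .fail),
  (1, (.step [9, 10, 12, 16] (.step [8, 13, 16, 18, 10] .fail))),
  (41, .fail),
  (1, (.step [0, 20, 12, 15, 7] .fail)),
  (1, .fail),
  (1, (.step [7, 14] .fail)),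
  (7, .fail),
  (1, (.step [2, 12, 14, 17, 9] (.step [8, 13, 15, 8, 20, 10, 21] .fail))),
  (17, .fail),
  (1, (.step [7, 18, 21, 10] (.step [8, 16, 21, 8, 10, 20, 15] .fail))),
  (11, .fail),
  (1, (.step [2, 12, 14, 16] (.step [8, 13, 15, 8, 20, 10, 18, 20] .fail))),
  (8, .fail),
  (1, (.step [0, 20, 12, 16, 7] .fail)),
  (21, .fail),
  (1, (.step [0, 16, 19, 7, 15] .fail)),
  (12, .fail),
  (1, (.step [0, 7, 18, 20, 19] .fail)),
  (3, .fail),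
  (1, (.step [0, 9, 17, 10] .fail)),
  (5, .fail),
  (1, (.step [7, 11, 14, 17] .fail)),
  (3, .fail),
  (1, (.step [0, 7, 15] .fail)),
  (8, .fail),
  (1, (.step [0, 7, 16, 7, 21] .fail)),
  (1, .fail),
  (1, (.step [7, 9, 17, 0, 13] .fail)),
  (8, .fail),
  (1, (.step [0, 2, 7, 9] .fail)),
  (15, .fail),
  (1, (.step [2, 7, 9, 18, 8] .fail)),
  (19, .fail),
  (1, (.step [7, 9, 18, 9] .fail)),
  (10, .fail),
  (1, (.step [2, 12, 20] (.step [8, 13, 18, 8, 10, 20, 16] .fail))),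
  (11, .fail),
  (1, (.step [7, 12, 10, 13, 17] .fail)),
  (2, .fail),
  (1, (.step [0, 2, 9, 8, 14] .fail)),
  (3, .fail),
  (1, (.step [0, 15, 20, 12, 2] (.step [8, 16, 18, 10, 20, 16] .fail))),
  (15, .fail),
  (1, (.step [0, 15, 19, 10, 17] .fail)),
  (2, .fail),
  (1, (.step [0, 16, 19, 7, 18] (.step [8, 16, 20, 18, 10, 11, 19] (.step [10, 18, 21, 10, 20] .fail)))),
  (3, .fail),
  (1, (.step [0, 9, 8, 10, 16] .fail)),
  (21, .fail),
  (1, (.step [0, 2, 11, 16, 20] .fail)),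
  (4, .fail),
  (1, (.step [7, 11, 13, 16] .fail)),
  (8, .fail),
  (1, (.step [0, 13, 16, 7, 12] .fail)),
  (2, .fail),
  (1, (.step [2, 7, 18, 19, 9] .fail)),
  (7, .fail),
  (1, (.step [7, 11, 12, 13] .fail)),
  (8, .fail),
  (1, (.step [7, 14, 17, 9, 16] (.step [8, 18, 10] .fail))),
  (37, .fail),
  (1, (.step [0, 14, 20, 12] .fail)),
  (15, .fail),
  (1, (.step [0, 2, 9, 20] .fail)),
  (5, .fail),
  (1, (.step [0, 11, 16, 2] .fail)),
  (30, .fail),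
  (1, (.step [0, 2, 9, 13, 8] .fail)),
  (24, .fail),
  (1, (.step [2, 7, 9, 17] .fail)),
  (10, .fail),
  (1, (.step [7, 11] .fail)),
  (3, .fail),
  (1, (.step [0, 2, 15, 20, 10] .fail)),
  (17, .fail),
  (1, (.step [0, 7, 16, 9, 21] (.step [8, 15, 20, 11, 10, 18] .fail))),
  (1, .fail),
  (1, (.step [7, 9, 12, 16, 2] .fail)),
  (5, .fail),
  (1, (.step [0, 9, 11, 13, 19, 9] (.step [8, 13, 18, 8, 10, 18, 19] .fail))),
  (1, (.step [0, 20, 18, 9, 14] (.step [8, 15, 16, 20, 10, 11] .fail))),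
  (1, (.step [0, 13, 16, 8] .fail)),
  (1, (.step [0, 17, 7, 21] .fail)),
  (2, .fail),
  (2, (.step [2, 12, 16, 7] .fail)),
  (1, (.step [2, 7, 20, 15] .fail)),
  (1, (.step [0, 13, 8, 9, 19] (.step [8, 18, 20, 19, 10, 21] .fail))),
  (5, .fail),
  (1, (.step [7, 17, 0, 2, 17] .fail)),
  (1, (.step [2, 9, 10, 16, 0] .fail)),
  (20, .fail),
  (1, (.step [9, 10, 14, 19] .fail)),
  (19, .fail),
  (1, (.step [0, 7, 9, 17] .fail)),
  (1, .fail),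
  (1, (.step [7, 9, 16, 7, 19] .fail)),
  (2, .fail),
  (1, (.step [0, 9, 11, 15, 19, 0] .fail)),
  (1, .fail),
  (1, (.step [7, 12, 18, 20] (.step [8, 13, 16] .fail))),
  (6, .fail),
  (1, (.step [0, 16, 19] .fail)),
  (3, .fail),
  (1, (.step [7, 20, 18, 10, 19] .fail)),
  (5, .fail),
  (1, (.step [7, 14, 20, 16, 8] .fail)),
  (13, .fail),
  (1, (.step [0, 15, 8, 21] .fail)),
  (4, .fail),
  (1, (.step [0, 7, 12, 18, 8, 9] .fail)),
  (3, .fail),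
  (1, (.step [7, 9, 16, 2, 9] .fail)),
  (3, .fail),
  (1, (.step [0, 16, 8, 15] .fail)),
  (17, .fail),
  (1, (.step [2, 15, 8] (.step [8, 15, 18, 8, 10, 21] .fail))),
  (7, .fail),
  (1, (.step [0, 9, 18, 7, 21] .fail)),
  (2, .fail),
  (1, (.step [9, 10, 12, 19] .fail)),
  (1, (.step [0, 2, 16, 20] .fail)),
  (1, (.step [0, 9, 8, 11, 13] (.step [8, 13, 18, 20, 10] .fail))),
  (6, .fail),
  (1, (.step [0, 2, 11, 12, 19] .fail)),
  (10, .fail),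
  (1, (.step [9, 16, 2, 15] .fail)),
  (11, .fail),
  (1, (.step [0, 9, 18, 7, 11, 17] .fail)),
  (3, .fail),
  (1, (.step [7, 11, 16, 18] (.step [8, 15, 20, 12, 10, 20] .fail))),
  (2, .fail),
  (1, (.step [0, 11, 10, 12, 16] (.step [8, 18, 20, 21, 8] (.step [10, 17, 20, 15] .fail)))),
  (8, .fail),
  (1, (.step [0, 16, 2, 8, 18] .fail)),
  (4, .fail),
  (1, (.step [0, 7, 16, 9, 14] .fail)),
  (1, .fail),
  (1, (.step [0, 11, 10, 15] .fail)),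
  (7, .fail),
  (1, (.step [0, 16, 7, 8, 11] .fail)),
  (26, .fail),
  (1, (.step [7, 13, 17, 0] .fail)),
  (3, .fail),
  (1, (.step [2, 9, 8, 17, 2] .fail)),
  (23, .fail),
  (1, (.step [0, 11, 16, 2, 20] (.step [8, 13, 15, 16, 18, 10, 20, 15] .fail))),
  (9, .fail),
  (1, (.step [0, 2, 9, 15] .fail)),
  (7, .fail),
  (1, (.step [0, 16, 8, 17, 10] .fail)),
  (13, .fail),
  (1, (.step [9, 18, 20, 10, 9] .fail)),
  (9, .fail),
  (1, (.step [7, 16, 9, 18] .fail)),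
  (9, .fail),
  (1, (.step [2, 9, 18, 20] .fail)),
  (29, .fail),
  (1, (.step [0, 2, 13, 8, 15, 7] (.step [8, 13, 21, 8, 10, 11] .fail))),
  (4, .fail),
  (1, (.step [0, 11, 7, 17, 0] (.step [8, 21, 10, 12, 18] .fail))),
  (7, .fail),
  (1, (.step [2, 9, 12, 20] .fail)),
  (11, .fail),
  (1, (.step [0, 17, 20, 10, 19] .fail)),
  (25, .fail),
  (1, (.step [0, 2, 13, 8, 18] .fail)),
  (7, .fail),
  (1, (.step [7, 16, 17] .fail)),
  (8, .fail),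
  (1, (.step [0, 9, 10, 17] .fail)),
  (7, .fail),
  (1, (.step [0, 2, 15, 2, 20] .fail)),
  (21, .fail),
  (1, (.step [0, 2, 16, 0, 11] .fail)),
  (5, .fail),
  (1, (.step [7, 13, 16, 8] (.step [8, 16, 18, 10, 20, 16] (.step [10, 18, 20] .fail)))),
  (5, .fail),
  (1, (.step [2, 16, 21, 8, 16] (.step [8, 15, 18] .fail))),
  (3, .fail),
  (1, (.step [0, 16, 20, 7, 12] (.step [8, 15, 18, 10, 21, 10, 20] .fail))),
  (3, .fail),
  (1, (.step [9, 16, 20, 7] .fail)),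
  (3, .fail),
  (1, (.step [0, 2, 7, 14, 17] .fail)),
  (12, .fail),
  (1, (.step [0, 2, 16, 2, 21] .fail)),
  (6, .fail),
  (1, (.step [0, 7, 9, 16, 0, 21] .fail)),
  (24, .fail),
  (1, (.step [2, 12, 10, 19] .fail)),
  (35, .fail),
  (1, (.step [2, 12, 20, 16, 8] (.step [8, 18, 10, 12] .fail))),
  (5, .fail),
  (1, (.step [0, 2, 15, 8, 21] (.step [8, 13, 18, 8, 20, 19] .fail))),
  (7, .fail),
  (1, (.step [0, 16, 17, 2, 10] (.step [8, 15, 16, 8, 20, 16] .fail))),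
  (1, .fail),
  (1, (.step [0, 2, 9, 19, 20] (.step [8, 15, 16, 8, 20, 12] .fail))),
  (2, .fail),
  (1, (.step [7, 11, 15, 17] (.step [8, 15, 16, 8, 20, 12, 10] .fail))),
  (7, .fail),
  (1, (.step [7, 17, 21, 8] .fail)),
  (3, .fail),
  (1, (.step [7, 16, 19, 20] (.step [8, 15, 20, 10, 12, 20, 15] .fail))),
  (26, .fail),
  (1, (.step [0, 2, 9, 8] (.step [8, 13, 15, 20, 16] .fail))),
  (1, (.step [0, 2, 12, 19, 10] .fail)),
  (1, (.step [2, 7, 11, 16] .fail)),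
  (6, .fail),
  (1, (.step [2, 21, 10, 9, 12] .fail)),
  (1, (.step [0, 13, 20, 7] .fail)),
  (10, .fail),
  (1, (.step [0, 7, 18, 8, 16, 2] .fail)),
  (2, .fail),
  (1, (.step [0, 16, 7, 8, 15] .fail)),
  (8, .fail),
  (1, (.step [0, 15, 2, 21, 7] .fail)),
  (1, .fail),
  (1, (.step [7, 13, 18, 10] .fail)),
  (3, .fail),
  (1, (.step [9, 8, 16, 7, 17] .fail)),
  (6, .fail),
  (1, (.step [0, 7, 15, 16, 0, 9] .fail)),
  (16, .fail),
  (1, (.step [2, 16, 7, 20] .fail)),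
  (7, .fail),
  (1, (.step [0, 16, 7, 21, 8] .fail)),
  (16, .fail),
  (1, (.step [0, 2, 7, 18, 20] .fail)),
  (11, .fail),
  (1, (.step [9, 17, 7, 19] .fail)),
  (4, .fail),
  (1, (.step [0, 16, 17, 7, 12] .fail)),
  (11, .fail),
  (1, (.step [7, 14, 18, 20] .fail)),
  (4, .fail),
  (1, (.step [7, 13, 8, 21] (.step [8, 16, 18] .fail))),
  (4, .fail),
  (1, (.step [9] (.step [8, 13, 18, 8, 10, 21] (.step [10, 12] .fail)))),
  (14, .fail),
  (1, (.step [9, 8, 16, 9] .fail)),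
  (2, .fail),
  (1, (.step [0, 2, 7, 11, 17, 18] (.step [8, 16, 20, 11, 10] .fail))),
  (1, (.step [0, 2, 20, 16, 7] .fail)),
  (5, .fail),
  (1, (.step [0, 16, 8, 21, 2] .fail)),
  (4, .fail),
  (1, (.step [0, 16, 17, 7, 12] .fail)),
  (3, .fail),
  (1, (.step [7, 15] .fail)),
  (3, .fail),
  (1, (.step [0, 16, 8, 15] .fail)),
  (3, .fail),
  (1, (.step [7, 17, 0, 16] .fail)),
  (1, (.step [2, 12, 10, 16, 7] .fail)),
  (1, (.step [2, 9, 12, 17, 9] .fail)),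
  (4, .fail),
  (1, (.step [7, 12, 15, 8] .fail)),
  (2, .fail),
  (1, (.step [0, 2, 12, 21, 7] .fail)),
  (12, .fail),
  (1, (.step [0, 2, 15, 7, 21] (.step [8, 16, 20, 11, 10, 17] (.step [10, 18, 19, 10] (.step [20, 12, 15, 20] (.step [11, 1, 6, 7, 18, 19, 14, 18, 20, 12, 6, 4, 0, 18, 20, 19, 10, 18, 8, 16, 15, 20, 10, 20, 19, 16, 20, 21, 11, 11, 12] (.step [14, 1, 6, 7, 18, 19, 14, 18, 20, 12, 6, 4, 0, 18, 20, 19, 10, 18, 8, 16, 15, 20, 10, 20, 19, 16, 20, 21, 11] (.step [] (.step [17] (.step [] (.done [3, 0, 2, 8, 9, 5, 4, 6, 8, 7, 1]))))))))))),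
  (1, .fail),
  (1, (.step [0, 9, 17, 2, 9] .fail)),
  (4, .fail),
  (1, (.step [7, 12, 10, 14, 16] .fail)),
  (32, .fail),
  (1, (.step [7, 16, 2, 18] .fail)),
  (1, (.step [7, 17, 10, 9, 8] .fail)),
  (14, .fail),
  (1, (.step [7, 15, 19, 10] .fail)),
  (1, (.step [2, 14, 16, 21, 10] .fail)),
  (20, .fail),
  (1, (.step [0, 7, 21, 8, 16] .fail)),
  (2, .fail),
  (1, (.step [2, 17, 10, 21] .fail)),
  (6, .fail),
  (1, (.step [2, 16, 21, 8, 16] (.step [8, 13, 21, 10] .fail))),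
  (3, .fail),
  (1, (.step [7, 11, 14, 20] .fail)),
  (1, .fail),
  (1, (.step [7, 14, 17, 20] (.step [8, 15, 16, 8, 20, 10, 11] (.step [10, 17] .fail)))),
  (6, .fail),
  (1, (.step [7, 9, 15, 8] (.step [8, 16, 20, 18, 8, 10] .fail))),
  (15, .fail),
  (1, (.step [7, 9, 17, 0, 10] .fail)),
  (4, .fail),
  (1, (.step [7, 11, 14, 17] .fail)),
  (16, .fail),
  (1, (.step [0, 2, 15, 7, 18] .fail)),
  (11, .fail),
  (1, (.step [7, 18, 19, 9] (.step [8, 13, 16, 18] (.step [10, 11, 12, 18, 21] .fail)))),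
  (7, .fail),
  (1, (.step [7, 9, 8, 18] (.step [8, 13, 21, 10, 12, 18] .fail))),
  (2, .fail),
  (1, (.step [2, 17, 7, 15, 20] (.step [8, 13, 21, 8, 10, 17] (.step [10, 12] .fail)))),
  (2, .fail),
  (1, (.step [2, 17, 9, 21] .fail)),
  (1, .fail),
  (1, (.step [0, 7, 21, 2, 16] .fail)),
  (15, .fail),
  (1, (.step [0, 11, 19, 0] .fail)),
  (1, (.step [7, 18, 20, 7] (.step [8, 16, 20, 11, 10, 18] .fail))),
  (10, .fail),
  (1, (.step [0, 2, 11, 7, 13, 20] .fail)),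
  (1, .fail),
  (1, (.step [0, 11, 7, 15, 0] .fail)),
  (1, (.step [7, 18, 10, 9] .fail)),
  (2, .fail),
  (1, (.step [0, 2, 7, 21, 10] .fail)),
  (17, .fail),
  (1, (.step [0, 20, 12, 16, 8] (.step [8, 15, 20, 21, 8] .fail))),
  (7, .fail),
  (1, (.step [7, 11, 10, 16, 8] .fail)),
  (7, .fail),
  (1, (.step [0, 11, 16, 0, 20] .fail)),
  (12, .fail),
  (1, (.step [2, 16, 7, 15] .fail)),
  (9, .fail),
  (1, (.step [0, 11, 7, 21, 10] .fail)),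
  (8, .fail),
  (1, (.step [9, 17, 2, 10] .fail)),
  (30, .fail),
  (1, (.step [0, 9, 8] .fail)),
  (10, .fail),
  (1, (.step [0, 9, 18, 7, 12] (.step [8, 13, 16, 20, 18] .fail))),
  (1, .fail),
  (1, (.step [0, 11, 16, 8, 20] (.step [8, 15, 18, 8, 10, 18] .fail))),
  (6, .fail),
  (1, (.step [0, 11, 13, 7, 12] .fail)),
  (5, .fail),
  (1, (.step [0, 13, 17, 10, 11] .fail)),
  (24, .fail),
  (1, (.step [7, 13, 15] .fail)),
  (3, .fail),
  (1, (.step [0, 13, 17, 9, 18] .fail)),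
  (1, .fail),
  (1, (.step [7, 9, 10, 19] (.step [8, 15, 20, 10, 12, 17] .fail))),
  (40, .fail),
  (1, (.step [0, 2, 12, 21, 8] .fail)),
  (16, .fail),
  (1, (.step [0, 11, 19, 9, 20] .fail)),
  (17, .fail),
  (1, (.step [7, 9, 12, 10, 9] .fail)),
  (16, .fail),
  (1, (.step [2, 9, 18, 20, 0] .fail)),
  (11, .fail),
  (1, (.step [0, 15, 17, 2, 10] .fail)),
  (1, .fail),
  (1, (.step [7, 14, 20, 10] .fail)),
  (16, .fail),
  (1, (.step [0, 16, 19, 9, 20, 18] (.step [8, 13, 16, 20, 11] (.step [10, 11, 20, 15] .fail)))),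
  (12, .fail),
  (1, (.step [0, 7, 12, 10, 19] .fail)),
  (19, .fail),
  (1, (.step [0, 7, 16, 8, 17] .fail)),
  (2, .fail),
  (1, (.step [9, 16, 2, 15] .fail)),
  (4, .fail),
  (1, (.step [7, 18, 19] .fail)),
  (5, .fail),
  (1, (.step [0, 19, 10, 9, 18] .fail)),
  (1, (.step [2, 16, 20, 18, 10] (.step [8, 13, 15, 20, 10, 12] (.step [10, 11, 20, 16] (.step [20, 12, 15] (.step [12, 11, 21, 20, 16, 19, 20, 10, 20, 15, 16, 8, 18, 10, 19, 20, 18, 0, 4, 6, 12, 20, 18, 14, 19, 18, 7, 6, 1] (.step [11, 21, 20, 16, 19, 20, 10, 20, 15, 16, 8, 18, 10, 19, 20, 18, 0, 4, 6, 12, 20, 18, 14, 19, 18, 7, 6, 1, 18] .fail))))))),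
  (12, .fail),
  (1, (.step [0, 7, 17, 10] .fail)),
  (6, .fail),
  (1, (.step [7, 12, 16, 18] .fail)),
  (1, .fail),
  (1, (.step [7, 17, 18] .fail)),
  (13, .fail),
  (1, (.step [0, 16, 20, 7, 13] .fail)),
  (4, .fail),
  (1, (.step [7, 20, 10, 18, 10] .fail)),
  (16, .fail),
  (1, (.step [0, 7, 9, 11, 0, 18] .fail)),
  (3, .fail),
  (1, (.step [2, 15, 21, 8] (.step [8, 13, 18, 20, 12, 10] .fail))),
  (21, .fail),
  (1, (.step [2, 9, 16, 2] (.step [8, 13, 15, 20, 11, 16] .fail))),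
  (6, .fail),
  (1, (.step [0, 2, 9, 17, 20] .fail)),
  (14, .fail),
  (1, (.step [7, 12, 13, 14] .fail)),
  (2, .fail),
  (1, (.step [2, 12, 15, 8] .fail)),
  (1, (.step [0, 7, 16, 0, 21] (.step [8, 15, 16, 20, 16] .fail))),
  (1, (.step [0, 15] .fail)),
  (13, .fail),
  (1, (.step [7, 20, 21, 10, 9] .fail)),
  (17, .fail),
  (1, (.step [0, 11, 19, 9, 8] (.step [8, 13, 18, 8, 10, 11, 18, 20] .fail))),
  (6, .fail),
  (1, (.step [0, 20, 10, 17, 2] .fail)),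
  (19, .fail),
  (1, (.step [2, 21, 8, 9, 15] .fail)),
  (9, .fail),
  (1, (.step [0, 9, 8, 17, 20] .fail)),
  (1, .fail),
  (1, (.step [0, 9, 10, 17, 2] .fail)),
  (2, .fail),
  (1, (.step [9, 8, 18, 7, 11] .fail)),
  (2, .fail),
  (1, (.step [0, 11, 15, 8, 18] (.step [8, 13, 16, 20, 10, 18, 10] .fail))),
  (28, .fail),
  (1, (.step [0, 17, 7, 12, 20] .fail)),
  (9, .fail),
  (1, (.step [2, 15, 0, 20, 18] .fail)),
  (2, .fail),
  (1, (.step [0, 7, 11, 10, 18, 8] .fail)),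
  (7, .fail),
  (1, (.step [2, 7, 16, 20, 11] .fail)),
  (5, .fail),
  (1, (.step [7, 15, 16, 20, 21] .fail)),
  (1, (.step [0, 15, 7, 8] .fail)),
  (1, (.step [7, 15, 8, 18] .fail)),
  (1, (.step [9, 8, 14, 16] (.step [8, 13, 18, 10, 19, 20, 21] .fail))),
  (29, .fail),
  (1, (.step [9, 10, 19, 20] (.step [8, 13, 16, 8, 20, 10, 12] .fail))),
  (1, .fail),
  (1, (.step [2, 9, 18, 20, 0] .fail)),
  (3, .fail),
  (1, (.step [0, 7, 17, 7, 10] (.step [8, 13, 18, 10, 20, 12] (.step [10, 12, 18, 10] (.step [20, 16, 19, 20] (.step [11] (.step [18] .fail))))))),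
  (1, .fail),
  (1, (.step [7, 9, 16, 2] (.step [8, 13, 15, 20, 12] .fail))),
  (3, .fail),
  (1, (.step [9, 19, 20, 18] .fail)),
  (5, .fail),
  (1, (.step [0, 2, 11, 10, 16] .fail)),
  (18, .fail),
  (1, (.step [2, 7, 20, 10, 15] .fail)),
  (6, .fail),
  (1, (.step [7, 14, 18] (.step [8, 15, 20, 11, 10, 21] (.step [10, 12, 21, 10, 20] .fail)))),
  (33, .fail),
  (1, (.step [0, 20, 18, 7, 13] .fail)),
  (30, .fail),
  (1, (.step [0, 9, 18, 8, 20] .fail)),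
  (11, .fail),
  (1, (.step [2, 7, 21] .fail)),
  (29, .fail),
  (1, (.step [0, 14, 20, 16, 7] .fail)),
  (18, .fail),
  (1, (.step [2, 9, 18, 20] .fail)),
  (10, .fail),
  (1, (.step [7, 11, 13, 15, 16] .fail)),
  (8, .fail),
  (1, (.step [0, 2, 11, 7, 14] .fail)),
  (16, .fail),
  (1, (.step [0, 7, 16, 20, 7] .fail)),
  (11, .fail),
  (1, (.step [7, 14, 17, 9] (.step [8, 18, 20, 15, 19, 10] .fail))),
  (1, .fail),
  (1, (.step [0, 14, 20, 16, 9] .fail)),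
  (9, .fail),
  (1, (.step [7, 11, 19, 20] .fail)),
  (2, .fail),
  (1, (.step [2, 7, 11, 17] .fail)),
  (13, .fail),
  (1, (.step [0, 15, 20, 15, 8] (.step [8, 13, 15, 8, 20, 11, 10] .fail))),
  (30, .fail),
  (1, (.step [7, 13, 17, 21] .fail)),
  (24, .fail),
  (1, (.step [7, 11, 15, 8, 16] .fail)),
  (13, .fail),
  (1, (.step [0, 16, 2] .fail)),
  (5, .fail),
  (1, (.step [7, 12, 17, 18] .fail)),
  (4, .fail),
  (1, (.step [7, 20, 21, 2, 8] .fail)),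
  (8, .fail),
  (1, (.step [0, 11, 7, 13] .fail)),
  (11, .fail),
  (1, (.step [0, 11, 19, 7, 12] .fail)),
  (1, (.step [9, 8, 15, 18] .fail)),
  (10, .fail),
  (1, (.step [0, 2, 13] (.step [8, 15, 20, 11, 10, 20] .fail))),
  (12, .fail),
  (1, (.step [7, 15, 17] .fail)),
  (11, .fail),
  (1, (.step [0, 16, 7, 11, 10] .fail)),
  (17, .fail),
  (1, (.step [0, 20, 18, 9, 17] .fail)),
  (5, .fail),
  (1, (.step [2, 7, 9, 8] .fail)),
  (17, .fail),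
  (1, (.step [7, 9, 16, 0, 8] .fail)),
  (1, (.step [0, 2, 15, 8, 16] .fail)),
  (22, .fail),
  (1, (.step [2, 15, 20, 12, 21] .fail)),
  (6, .fail)])

/-- a piece of a certificate -/
noncomputable def cCp_4 : Cert := (Cert.rl [(8, .fail),
  (1, (.step [7, 11, 16, 17, 7] .fail)),
  (9, .fail),
  (1, (.step [7, 17, 21, 7] .fail)),
  (7, .fail),
  (1, (.step [2, 9, 8, 21] (.step [8, 13, 15, 20, 19, 21] (.step [10, 12, 18, 21] .fail)))),
  (9, .fail),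
  (1, (.step [2, 16, 7, 17, 2] .fail)),
  (5, .fail),
  (1, (.step [0, 2, 9, 19, 20, 16] .fail)),
  (5, .fail),
  (1, (.step [9, 10, 19, 7] .fail)),
  (24, .fail),
  (1, (.step [2, 9, 12, 15, 7] .fail)),
  (28, .fail),
  (1, (.step [0, 11, 16, 19, 10] .fail)),
  (4, .fail),
  (1, (.step [0, 15] .fail)),
  (3, .fail),
  (1, (.step [2, 17, 21, 2, 8] .fail)),
  (10, .fail),
  (1, (.step [0, 9, 8, 11, 7] .fail)),
  (8, .fail),
  (1, (.step [2, 21, 10, 9, 16] .fail)),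
  (22, .fail),
  (1, (.step [7, 20, 10, 12] .fail)),
  (46, .fail),
  (1, (.step [0, 9, 20, 19, 7] (.step [8, 13, 16, 8, 20, 11] .fail))),
  (2, .fail),
  (1, (.step [2, 7, 17, 2, 10] (.step [8, 16, 18, 10, 20] .fail))),
  (13, .fail),
  (1, (.step [0, 2, 9, 15, 18] (.step [8, 13, 16, 20, 11, 10] .fail))),
  (26, .fail),
  (1, (.step [0, 7, 9, 15] .fail)),
  (1, .fail),
  (1, (.step [7, 15, 8, 17] (.step [8, 16, 20, 18, 10, 11, 19] .fail))),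
  (1, (.step [0, 15, 7, 17] .fail)),
  (4, .fail),
  (1, (.step [9, 10, 19, 7] .fail)),
  (7, .fail),
  (1, (.step [9, 19] .fail)),
  (1, .fail),
  (1, (.step [7, 18, 19] (.step [8, 13, 16, 8, 20, 10] .fail))),
  (9, .fail),
  (1, (.step [0, 16, 8, 9, 21] .fail)),
  (20, .fail),
  (1, (.step [2, 16, 20] (.step [8, 15, 20, 10, 12] .fail))),
  (2, .fail),
  (1, (.step [7, 15, 16, 19] .fail)),
  (13, .fail),
  (1, (.step [7, 12, 15, 0, 7] .fail)),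
  (19, .fail),
  (1, (.step [0, 13, 8, 20] (.step [8, 16, 20, 10, 11, 21] (.step [10, 11, 12, 10, 20] .fail)))),
  (7, .fail),
  (1, (.step [7, 20, 21, 2] .fail)),
  (5, .fail),
  (1, (.step [7, 11, 12, 16] (.step [8, 13, 18, 8, 20, 10, 19] .fail))),
  (1, (.step [0, 7, 12, 16, 0] .fail)),
  (4, .fail),
  (1, (.step [7, 9, 18, 8, 9] .fail)),
  (24, .fail),
  (1, (.step [0, 2, 12, 19, 20, 10] (.step [8, 15, 20, 19, 21] .fail))),
  (24, .fail),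
  (1, (.step [0, 11, 19] .fail)),
  (5, .fail),
  (1, (.step [7, 20, 21, 7] .fail)),
  (7, .fail),
  (1, (.step [0, 7, 9, 15] .fail)),
  (1, .fail),
  (1, (.step [7, 18, 9, 20] .fail)),
  (6, .fail),
  (1, (.step [0, 16, 8, 13, 18] .fail)),
  (23, .fail),
  (1, (.step [0, 7, 21] (.step [8, 13, 15, 8, 20, 12, 15] (.step [10, 11, 17] (.step [20, 11, 15, 19] (.step [15, 1, 6, 7, 18, 19, 14, 18, 20, 12, 6, 4, 0, 18, 20, 19, 10, 18, 8, 16, 15, 20, 10, 20, 19, 16, 20, 21, 11] (.step [1, 6, 7, 18, 19, 14, 18, 20, 12, 6, 4, 0, 18, 20, 19, 10, 18, 8, 16, 15, 20, 10, 20, 19, 16, 20, 21, 11, 19] .fail))))))),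
  (27, .fail),
  (1, (.step [7, 20, 18, 10, 20] .fail)),
  (2, .fail),
  (1, (.step [0, 2, 9, 11, 15, 18] .fail)),
  (4, .fail),
  (1, (.step [2, 14, 17, 7, 9, 13] .fail)),
  (27, .fail),
  (1, (.step [0, 2, 19, 10, 20] (.step [8, 21, 10] .fail))),
  (1, (.step [0, 16, 7, 17, 9] .fail)),
  (5, .fail),
  (1, (.step [7, 14, 16, 20] .fail)),
  (3, .fail),
  (1, (.step [9, 14, 19, 20, 15] .fail)),
  (10, .fail),
  (1, (.step [0, 2, 11, 7, 19, 9] .fail)),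
  (5, .fail),
  (1, (.step [0, 11, 7, 15, 0] .fail)),
  (1, .fail),
  (1, (.step [0, 9, 20, 16, 0] .fail)),
  (12, .fail),
  (1, (.step [0, 13, 15, 20, 7] .fail)),
  (8, .fail),
  (1, (.step [7, 11, 14, 16] .fail)),
  (20, .fail),
  (1, (.step [7, 9, 11, 15] .fail)),
  (8, .fail),
  (1, (.step [0, 11, 7, 20] .fail)),
  (11, .fail),
  (1, (.step [0, 16, 7, 12] (.step [8, 15, 16, 8, 20, 12] .fail))),
  (3, .fail),
  (1, (.step [0, 11, 10, 18, 20] .fail)),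
  (19, .fail),
  (1, (.step [7, 11, 21, 7] .fail)),
  (2, .fail),
  (1, (.step [7, 12, 15, 20] .fail)),
  (1, (.step [9, 8, 21, 7, 16] .fail)),
  (4, .fail),
  (1, (.step [9, 17, 0] .fail)),
  (3, .fail),
  (1, (.step [0, 2, 11, 16, 19] (.step [8, 13, 18, 8, 20, 19, 10] .fail))),
  (6, .fail),
  (1, (.step [7, 11, 17] .fail)),
  (9, .fail),
  (1, (.step [0, 16, 17, 10, 11] .fail)),
  (7, .fail),
  (1, (.step [2, 9, 8, 17, 2] .fail)),
  (14, .fail),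
  (1, (.step [0, 13, 20, 16, 8] .fail)),
  (3, .fail),
  (1, (.step [2, 15] .fail)),
  (23, .fail),
  (1, (.step [7, 14, 17, 19] .fail)),
  (6, .fail),
  (1, (.step [2, 17, 9, 21] .fail)),
  (9, .fail),
  (1, (.step [9, 10, 12, 16] .fail)),
  (2, .fail),
  (1, (.step [9, 8, 15, 17] .fail)),
  (14, .fail),
  (1, (.step [0, 13, 8, 18] (.step [8, 13, 16, 18, 21, 8, 10] .fail))),
  (9, .fail),
  (1, (.step [0, 7, 11, 18] .fail)),
  (4, .fail),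
  (1, (.step [0, 9, 17, 2] .fail)),
  (1, .fail),
  (1, (.step [0, 9, 10, 19, 21] (.step [8, 13, 15, 20, 10, 16] .fail))),
  (12, .fail),
  (1, (.step [0, 7, 18, 20] .fail)),
  (26, .fail),
  (1, (.step [0, 15, 8, 17] (.step [8, 18, 10, 12, 20] (.step [10, 11, 17, 20, 11, 16] .fail)))),
  (1, .fail),
  (1, (.step [0, 2, 9, 16, 7, 12] (.step [8, 16, 20, 10, 18, 10] .fail))),
  (3, .fail),
  (1, (.step [0, 17, 7, 20, 15, 8] .fail)),
  (1, .fail),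
  (1, (.step [0, 11, 7, 19] .fail)),
  (50, .fail),
  (1, (.step [0, 20, 18, 7, 19] .fail)),
  (3, .fail),
  (1, (.step [0, 16, 2, 21, 8] .fail)),
  (2, .fail),
  (1, (.step [0, 17, 7, 20, 11] (.step [8, 15, 16, 8, 20, 12, 18, 20] (.step [10, 20, 11, 21] .fail)))),
  (7, .fail),
  (1, (.step [0, 2, 9, 17, 10] .fail)),
  (19, .fail),
  (1, (.step [0, 11, 15, 7, 12] .fail)),
  (34, .fail),
  (1, (.step [2, 7, 17, 2] .fail)),
  (21, .fail),
  (1, (.step [2, 7, 16, 20, 0] .fail)),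
  (30, .fail),
  (1, (.step [0, 13, 17, 0] (.step [8, 15, 16, 8, 20, 12, 18, 20] (.step [10, 11, 20, 15, 21] (.step [20, 12, 16, 20] (.step [21, 11, 21, 20, 16, 19, 20, 10, 20, 15, 16, 8, 18, 10, 19, 20, 18, 0, 4, 6, 12, 20, 18, 14, 19, 18, 7, 6, 1] (.step [14, 1, 6, 7, 18, 19, 14, 18, 20, 12, 6, 4, 0, 18, 20, 19, 10, 18, 8, 16, 15, 20, 10, 20, 19, 16, 20, 21, 11] (.step [] (.step [] (.step [] (.done [3, 0, 2, 8, 9, 5, 4, 6, 8, 7, 1, 3, 0, 2, 8, 9, 5, 4, 6, 8, 7, 1]))))))))))),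
  (14, .fail),
  (1, (.step [0, 15, 2, 21] .fail)),
  (1, (.step [7, 11, 14, 17] .fail)),
  (19, .fail),
  (1, (.step [2, 14, 15, 21, 8] .fail)),
  (11, .fail),
  (1, (.step [7, 11, 20, 11] .fail)),
  (4, .fail),
  (1, (.step [0, 2, 21, 7, 13] (.step [8, 13, 15, 20, 10, 16, 20] .fail))),
  (27, .fail),
  (1, (.step [0, 2, 9, 10, 21] .fail)),
  (4, .fail),
  (1, (.step [0, 7, 17, 0, 7, 21] .fail)),
  (5, .fail),
  (1, (.step [7, 17, 10, 9, 8] (.step [8, 21, 10, 12, 20, 19] .fail))),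
  (11, .fail),
  (1, (.step [0, 2, 7, 9, 8] (.step [8, 13, 16, 20, 18, 10] .fail))),
  (13, .fail),
  (1, (.step [7, 9, 8, 11, 0] .fail)),
  (5, .fail),
  (1, (.step [7, 12, 17, 0] .fail)),
  (1, .fail),
  (1, (.step [0, 19, 9, 10, 9] .fail)),
  (6, .fail),
  (1, (.step [0, 7, 17, 0, 15] .fail)),
  (25, .fail),
  (1, (.step [0, 7, 15, 8] .fail)),
  (1, (.step [0] .fail)),
  (20, .fail),
  (1, (.step [2, 14, 21, 7] .fail)),
  (7, .fail),
  (1, (.step [0, 11, 10, 13, 0] .fail)),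
  (7, .fail),
  (1, (.step [7, 19, 10] .fail)),
  (7, .fail),
  (1, (.step [2, 7, 9, 10, 19] .fail)),
  (13, .fail),
  (1, (.step [7, 16, 17, 10] .fail)),
  (1, .fail),
  (1, (.step [7, 9, 17, 9] .fail)),
  (6, .fail),
  (1, (.step [0, 9, 10, 15, 2] .fail)),
  (6, .fail),
  (1, (.step [0, 14, 20, 7, 17] .fail)),
  (7, .fail),
  (1, (.step [7, 9, 18] .fail)),
  (3, .fail),
  (1, (.step [0, 17, 9, 20, 0] .fail)),
  (1, .fail),
  (1, (.step [2, 12, 15, 20, 21] .fail)),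
  (3, .fail),
  (1, (.step [7, 17, 0, 2, 17] .fail)),
  (31, .fail),
  (1, (.step [2, 17, 7, 20] .fail)),
  (8, .fail),
  (1, (.step [0, 2, 7, 18, 20] (.step [8, 13, 15, 16, 18, 21, 10] .fail))),
  (17, .fail),
  (1, (.step [2, 7, 19, 10] .fail)),
  (30, .fail),
  (1, (.step [0, 7, 12, 16, 9] .fail)),
  (9, .fail),
  (1, (.step [0, 11, 10, 21, 8] (.step [8, 15, 20, 18, 21, 10] .fail))),
  (1, (.step [7, 14, 20, 21] .fail)),
  (3, .fail),
  (1, (.step [0, 13, 15, 0, 8] (.step [8, 18, 20, 10, 16, 17] .fail))),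
  (27, .fail),
  (1, (.step [0, 11, 7, 15, 18] (.step [8, 13, 16, 20, 10] .fail))),
  (1, .fail),
  (1, (.step [9, 18, 7, 13] .fail)),
  (1, (.step [0, 2, 9, 16, 7] .fail)),
  (4, .fail),
  (1, (.step [0, 15, 7, 16, 9] .fail)),
  (8, .fail),
  (1, (.step [0, 2, 11, 7] .fail)),
  (18, .fail),
  (1, (.step [2, 16, 21, 8, 16] (.step [8, 13, 15, 8, 20, 11, 10, 15] (.step [10, 20, 11, 10] (.step [20, 15, 19] (.step [11, 12, 1, 6, 7, 18, 19, 14, 18, 20, 12, 6, 4, 0, 18, 20, 19, 10, 18, 8, 16, 15, 20, 10, 20, 19, 16, 20, 21, 11, 12] (.step [14, 19, 11, 21, 20, 16, 19, 20, 10, 20, 15, 16, 8, 18, 10, 19, 20, 18, 0, 4, 6, 12, 20, 18, 14, 19, 18, 7, 6, 1] .fail))))))),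
  (4, .fail),
  (1, (.step [7, 11, 16, 0] .fail)),
  (3, .fail),
  (1, (.step [2, 21, 7, 10, 15] .fail)),
  (3, .fail),
  (1, (.step [7, 9, 16, 7, 12] (.step [8, 16, 20, 10, 12] .fail))),
  (19, .fail),
  (1, (.step [0, 11, 13, 7] .fail)),
  (4, .fail),
  (1, (.step [7, 16, 20, 15] .fail)),
  (6, .fail),
  (1, (.step [0, 7, 9, 16] .fail)),
  (5, .fail),
  (1, (.step [7, 20, 16, 8] (.step [8, 21, 10, 12, 20, 19] (.step [10, 20, 18, 10, 11] .fail)))),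
  (13, .fail),
  (1, (.step [7, 15, 16, 20, 21] .fail)),
  (6, .fail),
  (1, (.step [9, 10, 14, 9] .fail)),
  (8, .fail),
  (1, (.step [7, 12, 13, 18] .fail)),
  (8, .fail),
  (1, (.step [0, 11, 10] .fail)),
  (2, .fail),
  (1, (.step [0, 2, 9, 19, 21] .fail)),
  (7, .fail),
  (1, (.step [0, 11, 19, 7, 21] .fail)),
  (2, .fail),
  (1, (.step [0, 20, 15, 7, 12] .fail)),
  (10, .fail),
  (1, (.step [0, 9, 11, 19] (.step [8, 13, 18, 8, 20, 10] .fail))),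
  (1, (.step [2, 9, 16] .fail)),
  (12, .fail),
  (1, (.step [0, 7, 18, 9, 8] .fail)),
  (1, .fail),
  (1, (.step [2, 9, 8, 18] .fail)),
  (1, (.step [2, 12, 15] .fail)),
  (3, .fail),
  (1, (.step [2, 17, 7, 10] .fail)),
  (8, .fail),
  (1, (.step [0, 15, 8, 20, 21] .fail)),
  (6, .fail),
  (1, (.step [0, 9, 10, 17, 19] .fail)),
  (2, .fail),
  (1, (.step [7, 18, 9, 19] .fail)),
  (18, .fail),
  (1, (.step [0, 2, 15, 8, 19] (.step [8, 15, 18, 20, 21, 10, 19] .fail))),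
  (36, .fail),
  (1, (.step [7, 9, 11, 15, 8] .fail)),
  (12, .fail),
  (1, (.step [2, 21, 7, 11] (.step [8, 15, 16, 20, 10, 18] .fail))),
  (12, .fail),
  (1, (.step [2, 16, 7, 9, 21] .fail)),
  (35, .fail),
  (1, (.step [0, 13, 8, 19, 7] .fail)),
  (5, .fail),
  (1, (.step [0, 15, 17, 2, 9] .fail)),
  (1, (.step [0, 14, 20, 15, 7] .fail)),
  (6, .fail),
  (1, (.step [0, 2, 11, 21, 7, 17] .fail)),
  (19, .fail),
  (1, (.step [2, 12, 10, 21] .fail)),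
  (24, .fail),
  (1, (.step [0, 11, 7, 17, 9] .fail)),
  (4, .fail),
  (1, (.step [7, 17, 20, 7, 13] .fail)),
  (6, .fail),
  (1, (.step [0, 2, 9, 12, 17, 18] .fail)),
  (14, .fail),
  (1, (.step [0, 9, 10, 15, 2] .fail)),
  (1, .fail),
  (1, (.step [0, 9, 20, 16, 7] .fail)),
  (15, .fail),
  (1, (.step [0, 13, 17, 10, 19] .fail)),
  (32, .fail),
  (1, (.step [7, 19, 10, 20] (.step [8, 15, 20, 11, 10, 18] .fail))),
  (9, .fail),
  (1, (.step [0, 2, 16, 9, 18] .fail)),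
  (4, .fail),
  (1, (.step [0, 20, 18, 7, 11] .fail)),
  (11, .fail),
  (1, (.step [7, 11, 14, 16] .fail)),
  (1, .fail),
  (1, (.step [7, 16, 18, 7] (.step [8, 13, 18, 8, 20, 10, 19] .fail))),
  (24, .fail),
  (1, (.step [0, 9, 11, 15, 20] .fail)),
  (12, .fail),
  (1, (.step [2, 15, 8, 18, 9] .fail)),
  (1, .fail),
  (1, (.step [0, 20, 15, 0, 13] .fail)),
  (4, .fail),
  (1, (.step [0, 2, 12, 10, 20, 19] (.step [8, 13, 18, 8, 10, 11] .fail))),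
  (8, .fail),
  (1, (.step [0, 2, 9, 12, 17, 18] .fail)),
  (4, .fail),
  (1, (.step [0, 13, 14, 20, 10] (.step [8, 21, 10, 11, 20, 18] .fail))),
  (12, .fail),
  (1, (.step [0, 2, 11, 10, 15] .fail)),
  (1, .fail),
  (1, (.step [0, 9, 13, 18] .fail)),
  (1, (.step [7, 11, 18, 8] .fail)),
  (21, .fail),
  (1, (.step [9, 18, 8] .fail)),
  (28, .fail),
  (1, (.step [7, 13, 15, 18] .fail)),
  (8, .fail),
  (1, (.step [2, 16, 0, 9] .fail)),
  (2, .fail),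
  (1, (.step [7, 12, 10, 9] .fail)),
  (5, .fail),
  (1, (.step [0, 17, 20, 7, 11] .fail)),
  (6, .fail),
  (1, (.step [0, 9, 13, 19] .fail)),
  (22, .fail),
  (1, (.step [7, 17, 20] .fail)),
  (12, .fail),
  (1, (.step [9, 8, 14, 18] .fail)),
  (12, .fail),
  (1, (.step [0, 9, 19, 20, 11] .fail)),
  (5, .fail),
  (1, (.step [9, 19, 0] .fail)),
  (1, .fail),
  (1, (.step [0, 2, 11, 19, 7] .fail)),
  (6, .fail),
  (1, (.step [0, 9, 15, 17] .fail)),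
  (5, .fail),
  (1, (.step [7, 9, 12, 10, 9] .fail)),
  (1, .fail),
  (1, (.step [7, 9, 16, 7, 13] .fail)),
  (6, .fail),
  (1, (.step [0, 9, 10, 17, 10, 20] .fail)),
  (16, .fail),
  (1, (.step [0, 20, 10, 18, 20] .fail)),
  (1, (.step [7, 19, 10] .fail)),
  (18, .fail),
  (1, (.step [0, 11, 15, 19, 7] .fail)),
  (2, .fail),
  (1, (.step [2, 14, 16] .fail)),
  (1, (.step [0, 2, 12, 10, 18] .fail)),
  (26, .fail),
  (1, (.step [7, 11, 0, 21, 8] .fail)),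
  (3, .fail),
  (1, (.step [7, 9, 16] .fail)),
  (7, .fail),
  (1, (.step [7, 12, 13, 8] .fail)),
  (8, .fail),
  (1, (.step [0, 13, 17, 7, 18] .fail)),
  (13, .fail),
  (1, (.step [0, 11, 7, 15] .fail)),
  (1, .fail),
  (1, (.step [0, 13, 17, 10, 19] (.step [8, 15, 16, 18, 10, 20] .fail))),
  (1, (.step [7, 17, 9, 20] (.step [8, 15, 18, 20, 18, 10, 19] .fail))),
  (1, .fail),
  (1, (.step [0, 9, 11, 15, 20] .fail)),
  (1, (.step [0, 11, 15, 7, 14] .fail)),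
  (2, .fail),
  (1, (.step [0, 9, 10, 12, 7] (.step [8, 13, 18, 20, 12, 10] .fail))),
  (16, .fail),
  (1, (.step [7, 15, 17] .fail)),
  (7, .fail),
  (1, (.step [0, 14, 20, 16, 7] .fail)),
  (1, (.step [0, 13, 20, 15, 18] .fail)),
  (4, .fail),
  (1, (.step [0, 2, 21, 10, 18] .fail)),
  (16, .fail),
  (1, (.step [7, 11, 10, 14, 16] .fail)),
  (13, .fail),
  (1, (.step [7, 14, 17, 9, 18] (.step [8, 13, 15, 16, 20, 10, 21, 8] .fail))),
  (3, .fail),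
  (1, (.step [7, 12, 16, 0, 20] .fail)),
  (4, .fail),
  (1, (.step [2, 9, 8, 21, 7] .fail)),
  (21, .fail),
  (1, (.step [0, 16, 7, 11, 12] .fail)),
  (1, (.step [0, 7, 15, 7] .fail)),
  (9, .fail),
  (1, (.step [2, 9, 16, 7, 12] .fail)),
  (1, (.step [2, 21, 7, 11, 17] .fail)),
  (5, .fail),
  (1, (.step [2, 7, 17, 0, 10] .fail)),
  (2, .fail),
  (1, (.step [2, 16, 7, 17, 10] .fail)),
  (16, .fail),
  (1, (.step [0, 13, 20, 10, 17] .fail)),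
  (10, .fail),
  (1, (.step [2, 12, 21, 7, 15] .fail)),
  (13, .fail),
  (1, (.step [0, 20, 18, 7] .fail)),
  (1, (.step [7, 16, 20, 19] (.step [8, 18, 20, 10, 15, 19] .fail))),
  (1, .fail),
  (1, (.step [0, 16, 20, 18, 8] .fail)),
  (9, .fail),
  (1, (.step [0, 7, 16, 17, 20] .fail)),
  (6, .fail),
  (1, (.step [0, 2, 20, 16] (.step [8, 15, 20, 12, 10, 21] .fail))),
  (5, .fail),
  (1, (.step [7, 16, 19, 10, 11] .fail)),
  (2, .fail),
  (1, (.step [0, 2, 9, 21, 8, 16] .fail)),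
  (3, .fail),
  (1, (.step [0, 16, 8, 19, 9] (.step [8, 15, 16, 20, 10, 12, 16] .fail))),
  (1, (.step [7, 11, 15, 18] .fail)),
  (13, .fail),
  (1, (.step [0, 7, 11, 0, 21] .fail)),
  (1, (.step [0, 7, 12, 18, 8] (.step [8, 15, 20, 11, 10, 18, 8] (.step [10, 11, 17, 10, 20, 12] .fail)))),
  (6, .fail),
  (1, (.step [0, 9, 19, 0] .fail)),
  (2, .fail),
  (1, (.step [2, 12, 15, 8] (.step [8, 15, 16, 20, 10] .fail))),
  (72, .fail),
  (1, (.step [0, 13, 8, 21, 7] .fail)),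
  (10, .fail),
  (1, (.step [0, 13, 16, 7, 17] .fail)),
  (9, .fail),
  (1, (.step [7, 11, 17, 9] .fail)),
  (32, .fail),
  (1, (.step [0, 9, 11, 7, 21] .fail)),
  (14, .fail),
  (1, (.step [7, 15, 16, 21] .fail)),
  (6, .fail),
  (1, (.step [7, 20, 21, 8, 10] .fail)),
  (1, .fail),
  (1, (.step [7, 12, 10, 16, 0] .fail)),
  (7, .fail),
  (1, (.step [0, 15, 7, 18, 20] (.step [8, 13, 18, 10, 17] .fail))),
  (4, .fail),
  (1, (.step [2, 21, 7, 11] .fail)),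
  (7, .fail),
  (1, (.step [0, 9, 18, 20, 7] .fail)),
  (2, .fail),
  (1, (.step [7, 16] .fail)),
  (20, .fail),
  (1, (.step [2, 9, 21, 8] .fail)),
  (6, .fail),
  (1, (.step [9, 16, 7, 15] .fail)),
  (17, .fail),
  (1, (.step [0, 13, 15, 2] .fail)),
  (22, .fail),
  (1, (.step [2, 12, 10, 11, 18] .fail)),
  (6, .fail),
  (1, (.step [9, 19, 0, 10] .fail)),
  (5, .fail),
  (1, (.step [2, 7, 20, 11] .fail)),
  (1, .fail),
  (1, (.step [0, 11, 13, 16, 8] .fail)),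
  (32, .fail),
  (1, (.step [0, 2, 9, 12, 18] .fail)),
  (3, .fail),
  (1, (.step [2, 15, 0, 17] (.step [8, 15, 20, 11] (.step [10, 11, 19, 20, 15] (.step [20, 12, 19] (.step [11, 1, 6, 7, 18, 19, 14, 18, 20, 12, 6, 4, 0, 18, 20, 19, 10, 18, 8, 16, 15, 20, 10, 20, 19, 16, 20, 21, 11] (.step [14, 19, 1, 6, 7, 18, 19, 14, 18, 20, 12, 6, 4, 0, 18, 20, 19, 10, 18, 8, 16, 15, 20, 10, 20, 19, 16, 20, 21, 11] .fail))))))),
  (20, .fail),
  (1, (.step [0, 15, 20, 0] .fail)),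
  (4, .fail),
  (1, (.step [7, 14, 16] .fail)),
  (9, .fail),
  (1, (.step [7, 19, 21, 7] .fail)),
  (1, (.step [0, 17, 10, 9, 16] .fail)),
  (3, .fail),
  (1, (.step [7, 9, 17, 9] .fail)),
  (3, .fail),
  (1, (.step [7, 15, 19, 10] .fail)),
  (1, (.step [2, 14, 21, 10, 12] .fail)),
  (16, .fail),
  (1, (.step [0, 2, 11, 15, 19, 9] .fail)),
  (2, .fail),
  (1, (.step [2, 21, 7, 17] .fail)),
  (5, .fail),
  (1, (.step [0, 11, 16, 20, 10] .fail)),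
  (2, .fail),
  (1, (.step [9, 14, 17, 18] .fail)),
  (1, (.step [0, 9, 15, 7, 18] .fail)),
  (2, .fail),
  (1, (.step [9, 10, 17, 7, 12] .fail)),
  (2, .fail),
  (1, (.step [0, 16, 8, 17, 10] .fail)),
  (11, .fail),
  (1, (.step [7, 13, 18, 10] .fail)),
  (1, (.step [7, 11, 15, 20, 18] .fail)),
  (1, .fail),
  (1, (.step [0, 7, 16, 9] .fail)),
  (11, .fail),
  (1, (.step [7, 11, 17, 0] .fail)),
  (1, .fail),
  (1, (.step [2, 14, 21, 2] (.step [8, 16, 20, 21, 10, 12] .fail))),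
  (7, .fail),
  (1, (.step [0, 11, 19, 7, 21] (.step [8, 13, 15, 20, 10, 11] .fail))),
  (4, .fail),
  (1, (.step [0, 9, 13, 15] .fail)),
  (1, (.step [7, 11, 18] (.step [8, 18, 10, 20, 21, 8] .fail))),
  (11, .fail),
  (1, (.step [0, 17, 10, 21, 8] .fail)),
  (4, .fail),
  (1, (.step [0, 9, 17, 20, 0, 13] .fail)),
  (5, .fail),
  (1, (.step [9, 16, 2, 8, 12] (.step [8, 13, 15, 8, 20, 10, 12, 20] .fail))),
  (6, .fail),
  (1, (.step [2, 16, 7, 17, 18] (.step [8, 16, 20, 21, 10, 20] .fail))),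
  (10, .fail),
  (1, (.step [0, 16, 20, 16, 9] .fail)),
  (15, .fail),
  (1, (.step [7, 12, 14, 16] .fail)),
  (1, (.step [9, 8, 21] .fail)),
  (1, .fail),
  (1, (.step [7, 11, 17, 20] (.step [8, 13, 15, 8, 20, 11, 15, 20] .fail))),
  (2, .fail),
  (1, (.step [7, 9, 8, 16] .fail)),
  (4, .fail),
  (1, (.step [7, 12, 13, 21] .fail)),
  (2, .fail),
  (1, (.step [7, 13, 15, 16, 8] .fail)),
  (6, .fail),
  (1, (.step [0, 2, 9, 15, 19] .fail)),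
  (1, (.step [7, 11, 13, 15, 17] .fail)),
  (2, .fail),
  (1, (.step [0, 2, 11, 10] .fail)),
  (1, .fail),
  (1, (.step [7, 11, 19, 20, 19] .fail)),
  (3, .fail),
  (1, (.step [7, 14, 21, 8, 16] .fail)),
  (8, .fail),
  (1, (.step [0, 2, 15, 7, 21] .fail)),
  (1, (.step [7, 11, 0, 18, 21] (.step [8, 18, 20, 12, 10, 17] (.step [10, 17, 21] .fail)))),
  (2, .fail),
  (1, (.step [2, 9, 17, 0, 9] .fail)),
  (4, .fail),
  (1, (.step [0, 16, 19, 7, 15] .fail)),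
  (3, .fail),
  (1, (.step [0, 13, 8, 14, 15] .fail)),
  (4, .fail),
  (1, (.step [0, 11, 7, 18] .fail)),
  (1, (.step [7, 20, 21, 8, 10] (.step [8, 13, 16, 20, 15, 21, 10] .fail))),
  (1, (.step [0, 15, 2, 7] .fail)),
  (4, .fail),
  (1, (.step [7, 12, 17, 2] .fail)),
  (9, .fail),
  (1, (.step [7, 13, 14, 19, 10] (.step [8, 13, 16, 20, 10, 11, 21] .fail))),
  (4, .fail),
  (1, (.step [0, 16, 2, 20] .fail)),
  (2, .fail),
  (1, (.step [0, 15, 20, 0] (.step [8, 15, 16, 20, 10, 18] .fail))),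
  (3, .fail),
  (1, (.step [7, 11, 15, 21] .fail)),
  (9, .fail),
  (1, (.step [0, 11, 19, 10] .fail)),
  (6, .fail),
  (1, (.step [2, 12, 21, 10] .fail)),
  (4, .fail),
  (1, (.step [7, 15, 0, 11] .fail)),
  (2, .fail),
  (1, (.step [2, 17, 9, 21] .fail)),
  (7, .fail),
  (1, (.step [0, 15, 7, 16, 19] .fail)),
  (3, .fail),
  (1, (.step [0, 16, 17, 0, 10] .fail)),
  (2, .fail),
  (1, (.step [0, 13, 16, 0] .fail)),
  (4, .fail),
  (1, (.step [0, 2, 11, 10, 19, 7] (.step [8, 13, 16, 20, 12] .fail))),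
  (7, .fail),
  (1, (.step [0, 2, 12, 21, 7, 8] .fail)),
  (10, .fail),
  (1, (.step [0, 13, 15, 2, 12] .fail)),
  (1, (.step [7, 17, 9, 10] (.step [8, 15, 20, 12, 10, 21] .fail))),
  (17, .fail),
  (1, (.step [7, 16, 9, 10, 18] .fail)),
  (3, .fail),
  (1, (.step [0, 13, 8, 19, 0] .fail)),
  (11, .fail),
  (1, (.step [0, 13, 15, 20, 11] .fail)),
  (1, .fail),
  (1, (.step [2, 15, 20, 18, 9] .fail)),
  (1, .fail),
  (1, (.step [0, 7, 11, 0, 17] .fail)),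
  (22, .fail),
  (1, (.step [0, 15, 2, 17, 20] .fail)),
  (2, .fail),
  (1, (.step [0, 9, 10, 19, 21] .fail)),
  (1, (.step [0, 9, 13, 19, 9] .fail)),
  (2, .fail),
  (1, (.step [7, 11, 10, 16] .fail)),
  (7, .fail),
  (1, (.step [2, 16, 9, 21] .fail)),
  (6, .fail),
  (1, (.step [0, 7, 15, 8] .fail)),
  (1, (.step [7, 11, 0, 15, 21] (.step [8, 15, 20, 10, 11] .fail))),
  (1, (.step [0, 9, 8, 18] .fail)),
  (6, .fail),
  (1, (.step [0, 7, 15, 16, 9] .fail)),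
  (19, .fail),
  (1, (.step [0, 2, 9, 12, 18] (.step [8, 16, 20, 18, 10, 19] (.step [10, 12, 20, 21] .fail)))),
  (4, .fail),
  (1, (.step [7, 9, 8] .fail)),
  (1, .fail),
  (1, (.step [9, 10, 12, 19] (.step [8, 13, 18, 8, 10, 20, 16] .fail))),
  (1, .fail),
  (1, (.step [0, 7, 18] .fail)),
  (3, .fail),
  (1, (.step [9, 8, 18, 9] .fail)),
  (1, .fail),
  (1, (.step [7, 17, 2, 20] .fail)),
  (1, (.step [0, 9, 15, 2, 14] .fail)),
  (5, .fail)])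

/-- a piece of a certificate -/
noncomputable def cCp_5 : Cert := (Cert.rl [(10, .fail),
  (1, (.step [0, 2, 15, 8, 19] .fail)),
  (18, .fail),
  (1, (.step [0, 2, 11, 7, 10] .fail)),
  (7, .fail),
  (1, (.step [0, 9, 15, 2, 19] (.step [8, 13, 18, 8, 20, 10] .fail))),
  (4, .fail),
  (1, (.step [0, 14, 20, 7, 17] .fail)),
  (1, (.step [2, 17, 10, 20] .fail)),
  (1, (.step [0, 13, 15, 8, 21] .fail)),
  (4, .fail),
  (1, (.step [7, 11, 17] .fail)),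
  (1, .fail),
  (1, (.step [0, 9, 20, 15] .fail)),
  (2, .fail),
  (1, (.step [0, 2, 21, 10] (.step [8, 13, 18, 10, 17, 20] (.step [10, 11, 17, 18] .fail)))),
  (1, .fail),
  (1, (.step [0, 11, 10, 14, 9] (.step [8, 15, 16, 18, 10, 20] (.step [10, 18, 21, 10, 20] .fail)))),
  (1, (.step [0, 13, 20, 18, 7] .fail)),
  (1, (.step [0, 7, 11, 15, 16] .fail)),
  (9, .fail),
  (1, (.step [0, 20, 10, 15, 7] .fail)),
  (8, .fail),
  (1, (.step [9, 14, 18, 19, 10] .fail)),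
  (1, .fail),
  (1, (.step [0, 13, 20, 7, 21] (.step [8, 15, 16, 18] .fail))),
  (9, .fail),
  (1, (.step [0, 2, 15, 20, 15] (.step [8, 13, 15, 20, 10, 11, 10, 21] .fail))),
  (2, .fail),
  (1, (.step [0, 2, 11, 7, 20] .fail)),
  (4, .fail),
  (1, (.step [0, 2, 7, 14] .fail)),
  (13, .fail),
  (1, (.step [7, 20, 18, 10] .fail)),
  (9, .fail),
  (1, (.step [7, 13, 17, 7] .fail)),
  (9, .fail),
  (1, (.step [2, 17] .fail)),
  (9, .fail),
  (1, (.step [0, 2, 16, 9] .fail)),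
  (8, .fail),
  (1, (.step [2, 9, 12, 17, 2] (.step [8, 13, 15, 21, 10, 18] (.step [10, 11, 20, 19, 10, 18] (.step [20, 11, 15, 20] (.step [11, 1, 6, 7, 18, 19, 14, 18, 20, 12, 6, 4, 0, 18, 20, 19, 10, 18, 8, 16, 15, 20, 10, 20, 19, 16, 20, 21, 11] (.step [14, 11, 21, 20, 16, 19, 20, 10, 20, 15, 16, 8, 18, 10, 19, 20, 18, 0, 4, 6, 12, 20, 18, 14, 19, 18, 7, 6, 1] (.step [] (.step [17] (.step [] (.done [3, 0, 2, 8, 9, 5, 4, 6, 8, 7, 1, 3, 0, 2, 8, 9, 5, 4, 6, 8, 7, 1, 3, 0, 2, 8, 9, 5, 4, 6, 8, 7, 1, 3, 0, 2, 8, 9, 5, 4, 6, 8, 7, 1, 3, 0, 2, 8, 9, 5, 4, 6, 8, 7, 1, 3, 0, 2, 8, 9, 5, 4, 6, 8, 7, 1, 3, 0, 2, 8, 9, 5, 4, 6, 8, 7, 1, 3, 0, 2, 8, 9, 5, 4, 6, 8, 7, 1, 3, 0, 2, 8, 9, 5, 4, 6, 8, 7, 1, 3, 0, 2, 8, 9, 5, 4, 6, 8, 7, 1, 3, 0, 2, 8, 9, 5, 4, 6, 8, 7, 1, 3, 0, 2, 8, 9, 5, 4, 6, 8, 7, 1, 3, 0, 2, 8, 9, 5, 4, 6, 8, 7, 1]))))))))))),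
  (15, .fail),
  (1, (.step [0, 2, 16, 19, 9] (.step [8, 13, 15, 20, 10, 12] .fail))),
  (1, .fail),
  (1, (.step [2, 7, 20, 10, 15] .fail)),
  (2, .fail),
  (1, (.step [0, 9, 11, 18, 20] .fail)),
  (6, .fail),
  (1, (.step [0, 11, 16, 0, 7] .fail)),
  (7, .fail),
  (1, (.step [7, 12, 17, 18] .fail)),
  (14, .fail),
  (1, (.step [0, 7, 17, 7, 16, 21] .fail)),
  (31, .fail),
  (1, (.step [7, 18] .fail)),
  (14, .fail),
  (1, (.step [7, 16, 9] .fail)),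
  (2, .fail),
  (1, (.step [7, 11, 10, 14, 16] .fail)),
  (7, .fail),
  (1, (.step [0, 20, 10, 11, 0] (.step [8, 13, 16, 18, 10] .fail))),
  (19, .fail),
  (1, (.step [0, 7, 16, 8] .fail)),
  (47, .fail),
  (1, (.step [9, 14, 16, 17] .fail)),
  (8, .fail),
  (1, (.step [7, 12, 18, 8] .fail)),
  (39, .fail),
  (1, (.step [0, 16, 17, 0, 7] (.step [8, 13, 16, 20, 18] .fail))),
  (2, .fail),
  (1, (.step [2, 9, 16, 2, 9] .fail)),
  (13, .fail),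
  (1, (.step [0, 7, 18, 8, 16] .fail)),
  (3, .fail),
  (1, (.step [2, 14, 17] .fail)),
  (1, .fail),
  (1, (.step [0, 15, 7, 16, 19] .fail)),
  (9, .fail),
  (1, (.step [9, 8] .fail)),
  (18, .fail),
  (1, (.step [2, 21, 8, 9, 19] .fail)),
  (1, (.step [0, 11, 15, 7, 12] .fail)),
  (12, .fail),
  (1, (.step [0, 9, 18, 8, 20, 15] .fail)),
  (13, .fail),
  (1, (.step [2, 9, 8, 16, 2] .fail)),
  (3, .fail),
  (1, (.step [0, 9, 17, 0] .fail)),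
  (23, .fail),
  (1, (.step [0, 13, 8, 9] .fail)),
  (21, .fail),
  (1, (.step [7, 9, 18] .fail)),
  (9, .fail),
  (1, (.step [2, 16, 7] (.step [8, 16, 18, 20] .fail))),
  (17, .fail),
  (1, (.step [9, 16, 19, 20] .fail)),
  (2, .fail),
  (1, (.step [7, 13, 14, 19, 10] .fail)),
  (1, (.step [0, 2, 20, 21, 10, 12] .fail)),
  (21, .fail),
  (1, (.step [2, 7, 13] .fail)),
  (3, .fail),
  (1, (.step [2, 7, 17, 2, 10] .fail)),
  (15, .fail),
  (1, (.step [0, 7, 15, 16, 7] .fail)),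
  (5, .fail),
  (1, (.step [2, 7, 16, 20, 0] .fail)),
  (14, .fail),
  (1, (.step [7, 18, 19, 9, 10] .fail)),
  (3, .fail),
  (1, (.step [7, 19, 21, 8] .fail)),
  (12, .fail),
  (1, (.step [0, 16, 2, 12, 10] .fail)),
  (5, .fail),
  (1, (.step [7, 11, 18, 10] .fail)),
  (31, .fail),
  (1, (.step [2, 12, 15, 20] .fail)),
  (1, (.step [0, 9, 8, 19] .fail)),
  (4, .fail),
  (1, (.step [7, 9, 8, 18] .fail)),
  (12, .fail),
  (1, (.step [2, 7, 20, 10, 15] .fail)),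
  (1, .fail),
  (1, (.step [0, 11, 7, 18, 10] .fail)),
  (3, .fail),
  (1, (.step [2, 16, 21, 7] .fail)),
  (5, .fail),
  (1, (.step [7, 11, 20, 21] .fail)),
  (12, .fail),
  (1, (.step [0, 2, 12, 13, 8] (.step [8, 13, 15, 20, 12] .fail))),
  (25, .fail),
  (1, (.step [2, 16, 8, 18, 21] .fail)),
  (1, .fail),
  (1, (.step [9, 16, 19] .fail)),
  (47, .fail),
  (1, (.step [0, 20] (.step [8, 13, 18, 8] (.step [10, 11, 20, 11, 16] .fail)))),
  (2, .fail),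
  (1, (.step [0, 19, 10, 9, 19] .fail)),
  (1, (.step [0, 7, 18, 10, 9] .fail)),
  (8, .fail),
  (1, (.step [0, 7, 12, 10, 9] .fail)),
  (13, .fail),
  (1, (.step [0, 2, 12, 13, 7] .fail)),
  (2, .fail),
  (1, (.step [9, 8, 19] .fail)),
  (1, .fail),
  (1, (.step [0, 9, 15, 17, 7] .fail)),
  (1, (.step [7, 13, 8, 19] (.step [8, 16, 20, 21, 10, 20] .fail))),
  (18, .fail),
  (1, (.step [7, 14, 18, 20] .fail)),
  (14, .fail),
  (1, (.step [7, 11, 18, 10] .fail)),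
  (9, .fail),
  (1, (.step [0, 2, 9, 12, 13] (.step [8, 16, 21, 10, 20, 19] .fail))),
  (9, .fail),
  (1, (.step [2, 16, 20, 19] .fail)),
  (1, (.step [2, 12, 14, 17] .fail)),
  (2, .fail),
  (1, (.step [7, 11, 19, 20, 16] (.step [8, 13, 16, 20, 21, 10] (.step [10, 20, 21, 10] .fail)))),
  (1, (.step [0, 11, 13, 19, 7] .fail)),
  (11, .fail),
  (1, (.step [0, 2, 9, 15, 21, 10] .fail)),
  (5, .fail),
  (1, (.step [2, 15, 0, 20, 18] .fail)),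
  (6, .fail),
  (1, (.step [7, 11, 16, 8] .fail)),
  (2, .fail),
  (1, (.step [7, 14, 19, 10, 12] .fail)),
  (23, .fail),
  (1, (.step [0, 2, 9, 13, 14, 19] (.step [8, 13, 18, 21, 10, 11] .fail))),
  (6, .fail),
  (1, (.step [7, 17, 2, 10] .fail)),
  (1, (.step [0, 9, 10, 19] .fail)),
  (4, .fail),
  (1, (.step [0, 11, 7, 15, 8] .fail)),
  (6, .fail),
  (1, (.step [7, 9, 18, 20] .fail)),
  (15, .fail),
  (1, (.step [7, 17, 0, 2, 20] .fail)),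
  (6, .fail),
  (1, (.step [0, 16, 17, 7, 21] .fail)),
  (1, (.step [0, 15, 19, 7] .fail)),
  (20, .fail),
  (1, (.step [0, 11, 7, 19, 21] .fail)),
  (31, .fail),
  (1, (.step [0, 15, 8] .fail)),
  (9, .fail),
  (1, (.step [7, 15, 0, 21] (.step [8, 13, 16, 20, 10, 11, 20] .fail))),
  (1, .fail),
  (1, (.step [2, 9, 18] .fail)),
  (9, .fail),
  (1, (.step [0, 7, 16, 17, 7] .fail)),
  (20, .fail),
  (1, (.step [7, 14, 20, 21, 8] .fail)),
  (30, .fail),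
  (1, (.step [0, 17, 10, 20, 16] .fail)),
  (33, .fail),
  (1, (.step [2, 7, 11, 20, 15] .fail)),
  (8, .fail),
  (1, (.step [0, 11, 15, 8, 19] .fail)),
  (8, .fail),
  (1, (.step [0, 2, 7, 21, 8, 15] .fail)),
  (8, .fail),
  (1, (.step [2, 14, 21, 2] .fail)),
  (12, .fail),
  (1, (.step [0, 2, 7, 21, 10] (.step [8, 13, 18, 10, 11, 21] (.step [10, 11] .fail)))),
  (31, .fail),
  (1, (.step [2, 17, 9, 8, 13] .fail)),
  (7, .fail),
  (1, (.step [0, 11, 10, 12, 18] .fail)),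
  (1, (.step [2, 21, 10, 9, 12] .fail)),
  (12, .fail),
  (1, (.step [0, 11, 16, 8, 15] .fail)),
  (4, .fail),
  (1, (.step [9, 10, 16, 8] .fail)),
  (6, .fail),
  (1, (.step [7, 12, 13, 21] .fail)),
  (4, .fail),
  (1, (.step [0, 13, 20, 16, 8] (.step [8, 18, 21, 10, 18, 20] (.step [10, 11, 17, 20, 11, 16] .fail)))),
  (32, .fail),
  (1, (.step [2, 9, 16, 2, 20] (.step [8, 15, 18, 21] .fail))),
  (4, .fail),
  (1, (.step [0, 13, 19, 9] (.step [8, 13, 16, 20, 15] .fail))),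
  (7, .fail),
  (1, (.step [7, 12, 16, 0] (.step [8, 16, 21, 10] .fail))),
  (10, .fail),
  (1, (.step [0, 17, 7, 20, 0] .fail)),
  (20, .fail),
  (1, (.step [9, 10, 20] .fail)),
  (4, .fail),
  (1, (.step [7, 12, 17, 21] .fail)),
  (4, .fail),
  (1, (.step [7, 15, 16, 20, 0] .fail)),
  (2, .fail),
  (1, (.step [0, 15, 17, 9] .fail)),
  (1, (.step [7, 16, 0, 11] .fail)),
  (2, .fail),
  (1, (.step [0, 2, 13] .fail)),
  (1, (.step [7, 9, 16, 2] .fail)),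
  (4, .fail),
  (1, (.step [9, 17, 7, 16] .fail)),
  (2, .fail),
  (1, (.step [2, 9, 10, 21, 7] .fail)),
  (11, .fail),
  (1, (.step [0, 7, 9, 16, 0] (.step [8, 13, 15, 20, 10, 12, 17] (.step [10, 11, 12, 10, 20, 15] .fail)))),
  (1, .fail),
  (1, (.step [0, 2, 21, 7, 8] .fail)),
  (9, .fail),
  (1, (.step [0, 2, 7, 9] (.step [8, 18, 20, 10, 12] .fail))),
  (5, .fail),
  (1, (.step [0, 2, 9, 18, 7, 20] .fail)),
  (2, .fail),
  (1, (.step [0, 2, 9, 10, 15] .fail)),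
  (5, .fail),
  (1, (.step [7, 15, 17, 0, 14] .fail)),
  (8, .fail),
  (1, (.step [2, 9, 8, 18] .fail)),
  (5, .fail),
  (1, (.step [0, 9, 20, 19, 7] .fail)),
  (5, .fail),
  (1, (.step [9, 8, 19, 20, 0] .fail)),
  (2, .fail),
  (1, (.step [7, 9, 21, 2, 8] .fail)),
  (18, .fail),
  (1, (.step [0, 7, 9] .fail)),
  (10, .fail),
  (1, (.step [2, 7, 13, 8] .fail)),
  (4, .fail),
  (1, (.step [9, 10, 17, 20] .fail)),
  (14, .fail),
  (1, (.step [0, 19, 10, 20] (.step [8, 13, 15, 20, 11, 10, 21] .fail))),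
  (1, (.step [] (.step [] (.step [] (.step [] (.step [] (.step [] (.step [] (.step [] (.step [] (.done []))))))))))),
  (13, .fail),
  (1, (.step [7, 11, 15, 16] .fail)),
  (13, .fail),
  (1, (.step [9, 10, 19, 0] .fail)),
  (39, .fail),
  (1, (.step [2, 15, 8, 18, 20] .fail)),
  (11, .fail),
  (1, (.step [0, 15, 2, 7, 8] .fail)),
  (4, .fail),
  (1, (.step [0, 17, 7, 20, 21] .fail)),
  (21, .fail),
  (1, (.step [7, 20, 18, 7] .fail)),
  (5, .fail),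
  (1, (.step [2, 17, 7, 16, 21] .fail)),
  (13, .fail),
  (1, (.step [0, 19, 10, 9, 19] .fail)),
  (15, .fail),
  (1, (.step [2, 21, 10, 11] .fail)),
  (1, .fail),
  (1, (.step [2, 9, 15, 0, 19] .fail)),
  (16, .fail),
  (1, (.step [0, 9, 10, 17, 19] (.step [8, 13, 15, 16, 20, 15] .fail))),
  (1, (.step [0, 2, 9, 16, 7, 9] .fail)),
  (20, .fail),
  (1, (.step [0, 2, 16, 0, 17] .fail)),
  (8, .fail),
  (1, (.step [0, 9, 20, 18, 7] .fail)),
  (13, .fail),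
  (1, (.step [2, 12, 15, 21, 7] .fail)),
  (6, .fail),
  (1, (.step [7, 13, 15, 16] (.step [8, 13, 16, 8, 20, 10, 12, 17] (.step [10, 11, 12, 18, 21] .fail)))),
  (9, .fail),
  (1, (.step [0, 16, 8, 19] (.step [8, 16, 18, 21, 10] .fail))),
  (4, .fail),
  (1, (.step [0, 9, 11, 19] .fail)),
  (1, (.step [2, 21, 7, 11] .fail)),
  (3, .fail),
  (1, (.step [0, 7, 11, 7, 15] .fail)),
  (2, .fail),
  (1, (.step [0, 11, 13, 15, 2] .fail)),
  (1, (.step [0, 9, 8, 16, 9] .fail)),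
  (2, .fail),
  (1, (.step [7, 17, 0, 20, 10] .fail)),
  (4, .fail),
  (1, (.step [7, 20, 18] .fail)),
  (1, (.step [0, 13, 8, 21, 7] (.step [8, 13, 16, 20, 15, 19] .fail))),
  (5, .fail),
  (1, (.step [0, 15, 7, 11, 0] .fail)),
  (1, (.step [7, 16, 0, 21] .fail)),
  (12, .fail),
  (1, (.step [7, 16, 0, 18] .fail)),
  (1, .fail),
  (1, (.step [0, 16, 8, 19, 9] .fail)),
  (10, .fail),
  (1, (.step [7, 11, 14, 16] .fail)),
  (9, .fail),
  (1, (.step [0, 11, 14] (.step [8, 15, 20, 10, 16] .fail))),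
  (10, .fail),
  (1, (.step [2, 12, 10, 15, 8] .fail)),
  (6, .fail),
  (1, (.step [2, 16, 8, 20, 12] .fail)),
  (1, .fail),
  (1, (.step [0, 13, 8, 16, 2] .fail)),
  (1, .fail),
  (1, (.step [0, 7, 17, 2, 14] .fail)),
  (5, .fail),
  (1, (.step [0, 13, 8, 9, 20] .fail)),
  (3, .fail),
  (1, (.step [0, 7, 21, 8, 16] (.step [8, 15, 21] (.step [10, 11, 17, 10, 20, 18] .fail)))),
  (12, .fail),
  (1, (.step [7, 15, 16, 20, 0] .fail)),
  (2, .fail),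
  (1, (.step [0, 9, 19, 20, 10] .fail)),
  (6, .fail),
  (1, (.step [9, 16, 8, 9] .fail)),
  (30, .fail),
  (1, (.step [0, 15, 7, 17, 10] .fail)),
  (1, .fail),
  (1, (.step [0, 14, 20, 7, 13] .fail)),
  (6, .fail),
  (1, (.step [2, 7, 11, 10, 16] .fail)),
  (1, .fail),
  (1, (.step [9, 18, 7, 13] .fail)),
  (2, .fail),
  (1, (.step [7, 16, 8] .fail)),
  (15, .fail),
  (1, (.step [2, 16, 0, 20, 7] .fail)),
  (5, .fail),
  (1, (.step [2, 9, 8, 16, 2] (.step [8, 13, 15, 8, 20, 10, 16] .fail))),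
  (1, (.step [2, 7, 13, 21, 7] (.step [8, 13, 21, 10, 18] .fail))),
  (3, .fail),
  (1, (.step [2, 21, 10, 9, 16] .fail)),
  (13, .fail),
  (1, (.step [9, 8, 17, 0] .fail)),
  (11, .fail),
  (1, (.step [0, 14, 20, 7, 10] .fail)),
  (28, .fail),
  (1, (.step [0, 17, 9, 8] (.step [] (.step [10, 18, 21] .fail)))),
  (15, .fail),
  (1, (.step [7, 17, 0, 2, 17] .fail)),
  (1, (.step [7, 11, 15, 20] .fail)),
  (3, .fail),
  (1, (.step [2, 7, 13, 21, 7] (.step [8, 15, 18, 10, 21] .fail))),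
  (1, (.step [0, 11, 19, 0, 10] .fail)),
  (10, .fail),
  (1, (.step [0, 2, 9, 8, 12] (.step [8, 13, 21, 8, 10, 20, 18] (.step [10, 11, 17, 10, 20] .fail)))),
  (2, .fail),
  (1, (.step [0, 20, 12, 15, 7] .fail)),
  (8, .fail),
  (1, (.step [0, 11, 15, 7, 12] .fail)),
  (10, .fail),
  (1, (.step [0, 16, 19, 0, 10] .fail)),
  (1, (.step [7, 16, 17, 9, 10] .fail)),
  (8, .fail),
  (1, (.step [9, 8, 19, 0] .fail)),
  (15, .fail),
  (1, (.step [2, 7, 11] .fail)),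
  (5, .fail),
  (1, (.step [2, 9, 17, 2, 7] .fail)),
  (4, .fail),
  (1, (.step [2, 12, 20, 15, 19] .fail)),
  (6, .fail),
  (1, (.step [2, 16, 8] .fail)),
  (10, .fail),
  (1, (.step [0, 2, 7, 17, 18] .fail)),
  (5, .fail),
  (1, (.step [0, 9, 13, 8] .fail)),
  (11, .fail),
  (1, (.step [9, 19, 20, 11, 0] (.step [8, 15, 16, 8, 20, 10] .fail))),
  (2, .fail),
  (1, (.step [7, 11, 19, 0] .fail)),
  (20, .fail),
  (1, (.step [7, 15, 0] .fail)),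
  (44, .fail),
  (1, (.step [2, 9, 21, 8, 9] .fail)),
  (18, .fail),
  (1, (.step [0, 11, 13, 16] .fail)),
  (10, .fail),
  (1, (.step [0, 2, 11, 19] (.step [8, 15, 16, 18, 21, 8] (.step [10, 20, 16, 21] .fail)))),
  (1, .fail),
  (1, (.step [0, 13, 16, 8] (.step [8, 13, 15, 20, 11, 10, 20] .fail))),
  (31, .fail),
  (1, (.step [2, 17, 10, 9, 20] .fail)),
  (1, .fail),
  (1, (.step [0, 2, 15, 0, 17, 20] .fail)),
  (6, .fail),
  (1, (.step [2, 21, 10, 11, 20] .fail)),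
  (17, .fail),
  (1, (.step [9, 16, 8, 9] (.step [8, 15, 20, 10, 17] .fail))),
  (4, .fail),
  (1, (.step [2, 9, 16] .fail)),
  (3, .fail),
  (1, (.step [0, 13, 8, 14, 15] .fail)),
  (1, (.step [2, 7, 21, 2] .fail)),
  (2, .fail),
  (1, (.step [9, 17, 19, 20] (.step [8, 18, 10, 11] (.step [10, 12, 20, 15, 19] .fail)))),
  (18, .fail),
  (1, (.step [0, 7, 11, 0, 21] .fail)),
  (3, .fail),
  (1, (.step [7, 16, 19, 7, 13] .fail)),
  (14, .fail),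
  (1, (.step [0, 7, 21, 10, 11] (.step [8, 18, 20, 21, 8] (.step [10, 20, 12] (.step [20, 12, 15] (.step [12, 11, 21, 20, 16, 19, 20, 10, 20, 15, 16, 8, 18, 10, 19, 20, 18, 0, 4, 6, 12, 20, 18, 14, 19, 18, 7, 6, 1] (.step [14, 1, 6, 7, 18, 19, 14, 18, 20, 12, 6, 4, 0, 18, 20, 19, 10, 18, 8, 16, 15, 20, 10, 20, 19, 16, 20, 21, 11, 19] (.step [] (.step [] (.step [] (.done [3, 0, 2, 8, 9, 5, 4, 6, 8, 7, 1, 3, 0, 2, 8, 9, 5, 4, 6, 8, 7, 1, 3, 0, 2, 8, 9, 5, 4, 6, 8, 7, 1, 3, 0, 2, 8, 9, 5, 4, 6, 8, 7, 1, 3, 0, 2, 8, 9, 5, 4, 6, 8, 7, 1, 3, 0, 2, 8, 9, 5, 4, 6, 8, 7, 1, 3, 0, 2, 8, 9, 5, 4, 6, 8, 7, 1, 3, 0, 2, 8, 9, 5, 4, 6, 8, 7, 1, 3, 0, 2, 8, 9, 5, 4, 6, 8, 7, 1, 3, 0, 2, 8, 9, 5, 4, 6, 8, 7, 1, 3, 0, 2, 8, 9, 5, 4, 6, 8, 7, 1, 3, 0, 2, 8, 9, 5, 4, 6, 8, 7, 1, 3, 0, 2, 8, 9, 5, 4, 6, 8, 7, 1, 3, 0, 2, 8, 9, 5, 4, 6, 8, 7, 1, 3, 0, 2, 8, 9, 5, 4, 6, 8, 7, 1, 3, 0, 2, 8, 9, 5, 4,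 6, 8, 7, 1]))))))))))),
  (2, .fail),
  (1, (.step [0, 16, 17, 9, 20] (.step [8, 21, 10] (.step [10, 17, 20, 10, 15, 20] (.step [20, 12] (.step [11, 12, 11, 21, 20, 16, 19, 20, 10, 20, 15, 16, 8, 18, 10, 19, 20, 18, 0, 4, 6, 12, 20, 18, 14, 19, 18, 7, 6, 1] (.step [14] .fail))))))),
  (3, .fail),
  (1, (.step [7, 14, 18, 10, 11] .fail)),
  (12, .fail),
  (1, (.step [0, 2, 12, 13, 7] .fail)),
  (13, .fail),
  (1, (.step [0, 13, 8, 21, 7] .fail)),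
  (1, .fail),
  (1, (.step [7, 11, 16, 17, 7] .fail)),
  (15, .fail),
  (1, (.step [0, 2, 9, 11, 7] .fail)),
  (26, .fail),
  (1, (.step [7, 14, 21] (.step [8, 16, 18, 10] .fail))),
  (3, .fail),
  (1, (.step [2, 7, 19, 10] .fail)),
  (5, .fail),
  (1, (.step [2, 16, 21, 7, 16] .fail)),
  (17, .fail),
  (1, (.step [0, 2, 15, 8, 18] .fail)),
  (39, .fail),
  (1, (.step [7, 15, 0, 8] .fail)),
  (5, .fail),
  (1, (.step [7, 14, 17] .fail)),
  (5, .fail),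
  (1, (.step [7, 16, 20, 19] .fail)),
  (3, .fail),
  (1, (.step [7, 19, 21, 8, 9] .fail)),
  (1, (.step [7, 11, 12, 13, 17] .fail)),
  (12, .fail),
  (1, (.step [0, 2, 9, 8, 11, 17] .fail)),
  (3, .fail),
  (1, (.step [0, 7, 11, 10, 20] .fail)),
  (9, .fail),
  (1, (.step [0, 9, 18, 7, 11, 17] .fail)),
  (6, .fail),
  (1, (.step [0, 2, 9, 15, 20] .fail)),
  (1, .fail),
  (1, (.step [7, 11, 16, 17] .fail)),
  (10, .fail),
  (1, (.step [0, 2, 9, 10, 15, 2] .fail)),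
  (1, (.step [2, 21, 10, 20, 0] (.step [8, 16, 20, 21, 8, 10, 21] .fail))),
  (10, .fail),
  (1, (.step [7, 18, 20, 7] .fail)),
  (5, .fail),
  (1, (.step [0, 19, 10, 21] .fail)),
  (3, .fail),
  (1, (.step [7, 20, 10, 18, 9] .fail)),
  (1, (.step [0, 7, 16] .fail)),
  (6, .fail),
  (1, (.step [0, 16, 2, 20] .fail)),
  (4, .fail),
  (1, (.step [7, 11, 14, 20, 19] .fail)),
  (11, .fail),
  (1, (.step [7, 16, 19, 20, 7] .fail)),
  (1, .fail),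
  (1, (.step [0, 19] .fail)),
  (19, .fail),
  (1, (.step [2, 12, 17] (.step [8, 15, 20, 10, 11, 10, 16] .fail))),
  (7, .fail),
  (1, (.step [9, 17, 10, 18] .fail)),
  (5, .fail),
  (1, (.step [0, 13, 17] .fail)),
  (6, .fail),
  (1, (.step [0, 7, 12, 16, 9] .fail)),
  (2, .fail),
  (1, (.step [0, 13, 8, 17, 0] .fail)),
  (5, .fail),
  (1, (.step [0, 16, 2, 20] .fail)),
  (6, .fail),
  (1, (.step [0, 13, 8, 19, 7] .fail)),
  (6, .fail),
  (1, (.step [0, 2, 9, 8] .fail)),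
  (15, .fail),
  (1, (.step [0, 11, 15, 7, 17] .fail)),
  (7, .fail),
  (1, (.step [0, 15, 20, 18] .fail)),
  (5, .fail),
  (1, (.step [0, 20, 18] .fail)),
  (1, .fail),
  (1, (.step [2, 14, 17, 9, 8] (.step [8, 15, 20, 11, 10, 18] (.step [10, 12, 20, 19] .fail)))),
  (20, .fail),
  (1, (.step [2, 7, 17, 10, 19] .fail)),
  (9, .fail),
  (1, (.step [7, 16, 21, 7] .fail)),
  (1, (.step [9, 8, 15] .fail)),
  (8, .fail),
  (1, (.step [7, 13, 14, 17, 9] .fail)),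
  (11, .fail),
  (1, (.step [7, 11, 19, 0, 15] .fail)),
  (5, .fail),
  (1, (.step [2, 14, 16, 21, 8] .fail)),
  (1, (.step [9, 17, 18] (.step [8, 13, 15, 18, 21, 10, 18] .fail))),
  (1, .fail),
  (1, (.step [0, 9, 10, 21] (.step [8, 13, 18, 20, 15, 19] (.step [10, 12, 18] .fail)))),
  (22, .fail),
  (1, (.step [9, 19, 0, 10] .fail)),
  (10, .fail),
  (1, (.step [0, 2, 9, 12, 15, 17] (.step [8, 16, 20, 21] (.step [10, 12, 21, 10] .fail)))),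
  (1, .fail),
  (1, (.step [0, 2, 15, 8, 16] .fail)),
  (10, .fail),
  (1, (.step [0, 19, 9, 8] .fail)),
  (2, .fail),
  (1, (.step [0, 9, 10, 17, 0, 2] .fail)),
  (1, (.step [0, 11, 10, 18, 7] .fail)),
  (12, .fail),
  (1, (.step [2, 7, 9, 18] .fail)),
  (37, .fail),
  (1, (.step [0, 7, 15, 0, 19] .fail)),
  (13, .fail),
  (1, (.step [0, 15, 2, 7, 15] .fail)),
  (17, .fail),
  (1, (.step [0, 13, 16, 7, 17] .fail)),
  (1, (.step [0, 17, 7, 21] (.step [8, 13, 18, 10, 12, 20] (.step [10, 17, 20, 11, 21] .fail)))),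
  (1, .fail),
  (1, (.step [0, 9, 10, 15, 2] .fail)),
  (11, .fail),
  (1, (.step [0, 11, 10, 17, 10] .fail)),
  (1, .fail),
  (1, (.step [9, 17, 10, 19] .fail)),
  (1, (.step [0, 9, 15, 20, 12] .fail)),
  (4, .fail),
  (1, (.step [0, 11, 14, 7, 21] .fail)),
  (2, .fail),
  (1, (.step [0, 11, 7, 15, 2] .fail)),
  (3, .fail),
  (1, (.step [7, 13, 17, 7] .fail)),
  (1, (.step [7, 11, 19, 21, 8] .fail)),
  (3, .fail),
  (1, (.step [0, 9, 13, 19, 9] .fail)),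
  (7, .fail),
  (1, (.step [0, 2, 12, 13, 7] .fail)),
  (4, .fail),
  (1, (.step [] .fail)),
  (12, .fail),
  (1, (.step [2, 12, 20, 16] .fail)),
  (5, .fail),
  (1, (.step [0, 2, 11, 7, 20, 0] .fail)),
  (2, .fail),
  (1, (.step [2, 12, 14, 16] .fail)),
  (1, .fail),
  (1, (.step [9, 14, 16, 20] .fail)),
  (5, .fail),
  (1, (.step [0, 7, 18, 20, 0] .fail)),
  (5, .fail),
  (1, (.step [0, 9, 15, 20, 18, 8] .fail)),
  (3, .fail),
  (1, (.step [0, 11, 16, 2] .fail)),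
  (1, .fail),
  (1, (.step [0, 2, 9, 14, 18, 20] .fail)),
  (19, .fail),
  (1, (.step [0, 9, 17, 0, 10] .fail)),
  (4, .fail),
  (1, (.step [7, 9, 18, 9, 19] .fail)),
  (2, .fail),
  (1, (.step [0, 15, 19, 0] .fail)),
  (8, .fail),
  (1, (.step [0, 17, 7, 10, 9] .fail)),
  (1, .fail),
  (1, (.step [7, 14, 20, 10] .fail)),
  (19, .fail),
  (1, (.step [2, 15, 21, 8] .fail)),
  (2, .fail),
  (1, (.step [7, 11, 19, 0, 15] .fail)),
  (4, .fail),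
  (1, (.step [9, 8, 16, 8] .fail)),
  (7, .fail),
  (1, (.step [0, 11, 15, 8, 13] (.step [8, 13, 16] .fail))),
  (2, .fail),
  (1, (.step [7, 19, 21, 2] (.step [8, 16, 20, 18, 10, 11] (.step [10, 11, 17, 18, 21, 10] .fail)))),
  (6, .fail),
  (1, (.step [0, 2, 15, 19, 9] .fail)),
  (6, .fail),
  (1, (.step [0, 13, 8, 19, 0] .fail)),
  (6, .fail),
  (1, (.step [0, 16, 7, 21] .fail)),
  (4, .fail),
  (1, (.step [0, 11, 17, 0, 20] .fail)),
  (1, (.step [0, 2, 20, 18] .fail)),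
  (1, .fail),
  (1, (.step [9, 14, 17, 18] (.step [8, 15, 18, 20, 18] .fail))),
  (2, .fail),
  (1, (.step [0, 2, 19, 10, 20] (.step [8, 13, 15, 8, 20, 10, 18] .fail))),
  (12, .fail),
  (1, (.step [0, 11, 16, 8, 17] .fail)),
  (2, .fail),
  (1, (.step [7, 12, 13, 16] .fail)),
  (17, .fail),
  (1, (.step [0, 20, 12, 16, 2] .fail)),
  (1, (.step [7, 9, 17, 7] (.step [8, 15, 20, 11, 10, 20, 21] .fail))),
  (4, .fail),
  (1, (.step [0, 11, 15, 7, 14] .fail)),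
  (12, .fail),
  (1, (.step [7, 17, 20, 7, 13] .fail)),
  (7, .fail),
  (1, (.step [2, 9, 21, 8, 9] .fail)),
  (28, .fail),
  (1, (.step [7, 11, 13, 16, 20] .fail)),
  (3, .fail),
  (1, (.step [0, 13, 8, 20] (.step [8, 15, 18, 8, 10] .fail))),
  (7, .fail),
  (1, (.step [2, 17, 10, 9] .fail)),
  (8, .fail),
  (1, (.step [7, 11, 12, 7] .fail)),
  (1, .fail),
  (1, (.step [2, 7, 16, 20, 19] (.step [8, 16, 20, 10, 17] .fail))),
  (4, .fail),
  (1, (.step [7, 11, 13, 15, 16] (.step [8, 15, 18, 20, 18, 10] (.step [10, 17, 21] .fail)))),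
  (1, .fail),
  (1, (.step [7, 21, 10] .fail)),
  (4, .fail),
  (1, (.step [0, 20, 16, 0, 19] .fail)),
  (21, .fail),
  (1, (.step [0, 16, 8] .fail)),
  (1, .fail)])

/-- a piece of a certificate -/
noncomputable def cCp_6 : Cert := (Cert.rl [(8, .fail),
  (1, (.step [7, 9, 17, 0, 10] .fail)),
  (4, .fail),
  (1, (.step [0, 13, 15, 7, 18] (.step [8, 13, 15, 16, 20, 10, 12] (.step [10, 12, 20, 21] .fail)))),
  (2, .fail),
  (1, (.step [9, 16, 17] .fail)),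
  (1, .fail),
  (1, (.step [7, 20, 18, 10] .fail)),
  (21, .fail),
  (1, (.step [7, 18, 20] .fail)),
  (1, (.step [2, 12, 10, 19, 0] .fail)),
  (1, (.step [0, 9, 8, 11, 18] .fail)),
  (1, (.step [2, 12, 10, 14] .fail)),
  (2, .fail),
  (1, (.step [0, 2, 9, 16, 7, 11] .fail)),
  (31, .fail),
  (1, (.step [0, 11, 19, 10, 18] .fail)),
  (1, .fail),
  (1, (.step [7, 16, 2, 18] .fail)),
  (5, .fail),
  (1, (.step [0, 9, 17, 0, 13, 20] .fail)),
  (2, .fail),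
  (1, (.step [9, 16, 7, 12] .fail)),
  (26, .fail),
  (1, (.step [7, 9, 11, 17, 9] (.step [8, 16, 21, 10, 20, 19] (.step [10, 17, 18] .fail)))),
  (1, (.step [0, 9, 8, 10, 12] .fail)),
  (10, .fail),
  (1, (.step [0, 9, 13, 19, 9] (.step [8, 21, 10, 11, 20, 18] (.step [10, 12, 18, 20, 12] (.step [20, 11, 12, 15] (.step [11, 21] (.step [19] .fail))))))),
  (16, .fail),
  (1, (.step [2, 17, 7, 21, 8] .fail)),
  (4, .fail),
  (1, (.step [0, 17, 10, 20, 15] .fail)),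
  (13, .fail),
  (1, (.step [2, 9, 10, 21, 7] (.step [8, 13, 15, 20, 10, 12, 17] .fail))),
  (12, .fail),
  (1, (.step [0, 11, 10, 13, 14] .fail)),
  (23, .fail),
  (1, (.step [0, 2, 7, 9, 11] (.step [8, 16, 18, 10, 20, 10] (.step [10, 12, 20, 19, 10] .fail)))),
  (11, .fail),
  (1, (.step [0, 11, 13, 14] .fail)),
  (9, .fail),
  (1, (.step [0, 17, 20, 10, 19] .fail)),
  (22, .fail),
  (1, (.step [0, 17, 7, 20, 21] .fail)),
  (5, .fail),
  (1, (.step [0, 2, 15, 2, 7, 17] .fail)),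
  (3, .fail),
  (1, (.step [0, 11, 16, 8] .fail)),
  (14, .fail),
  (1, (.step [0, 2, 9, 18, 7, 12] .fail)),
  (3, .fail),
  (1, (.step [0, 16, 2, 20, 0] .fail)),
  (5, .fail),
  (1, (.step [2, 15, 20, 10, 18] .fail)),
  (8, .fail),
  (1, (.step [0, 13, 8, 19, 0] (.step [8, 13, 18, 8, 10, 12, 18] (.step [10, 11, 12, 18, 20, 11] (.step [20, 12, 18] (.step [11, 11, 21, 20, 16, 19, 20, 10, 20, 15, 16, 8, 18, 10, 19, 20, 18, 0, 4, 6, 12, 20, 18, 14, 19, 18, 7, 6, 1, 15] (.step [19, 11, 21, 20, 16, 19, 20, 10, 20, 15, 16, 8, 18, 10, 19, 20, 18, 0, 4, 6, 12, 20, 18, 14, 19, 18, 7, 6, 1] (.step [] (.step [17] (.step [16] (.done [3, 0, 2, 8, 9, 5, 4, 6, 8, 7, 1, 3, 0, 2, 8, 9, 5, 4, 6, 8, 7, 1, 3, 0, 2, 8, 9, 5, 4, 6, 8, 7, 1, 3, 0, 2, 8, 9, 5, 4, 6, 8, 7, 1]))))))))))),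
  (4, .fail),
  (1, (.step [0, 2, 9, 11, 15] .fail)),
  (4, .fail),
  (1, (.step [9, 17, 18, 7, 8] .fail)),
  (21, .fail),
  (1, (.step [0, 11, 15, 17, 9] .fail)),
  (12, .fail),
  (1, (.step [0, 2, 16, 2, 17] (.step [8, 18, 10, 20, 19] .fail))),
  (25, .fail),
  (1, (.step [0, 2, 16, 9, 20] .fail)),
  (1, .fail),
  (1, (.step [0, 14, 20, 7, 13] (.step [8, 13, 21, 10] (.step [10, 12, 18] .fail)))),
  (8, .fail),
  (1, (.step [9, 14] .fail)),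
  (28, .fail),
  (1, (.step [0, 2, 9, 18, 7, 12] .fail)),
  (8, .fail),
  (1, (.step [0, 2, 9, 8, 16, 2] .fail)),
  (4, .fail),
  (1, (.step [0, 2, 11, 10, 18] .fail)),
  (11, .fail),
  (1, (.step [0, 15, 8, 21, 10] .fail)),
  (3, .fail),
  (1, (.step [0, 14, 20, 16, 7] .fail)),
  (5, .fail),
  (1, (.step [0, 11, 7, 18, 19] .fail)),
  (1, .fail),
  (1, (.step [2, 15, 8, 18] .fail)),
  (33, .fail),
  (1, (.step [2, 16, 9, 17] .fail)),
  (34, .fail),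
  (1, (.step [0, 9, 15, 7, 14] .fail)),
  (9, .fail),
  (1, (.step [0, 17, 10, 21, 2] .fail)),
  (4, .fail),
  (1, (.step [7, 11, 12, 18] .fail)),
  (28, .fail),
  (1, (.step [2, 7, 17, 0, 7] .fail)),
  (2, .fail),
  (1, (.step [0, 19, 9, 10, 21] .fail)),
  (4, .fail),
  (1, (.step [7, 20, 11, 18] .fail)),
  (9, .fail),
  (1, (.step [9, 10, 17, 9] .fail)),
  (6, .fail),
  (1, (.step [0, 2, 9, 15, 18] .fail)),
  (15, .fail),
  (1, (.step [7, 12, 16, 20] .fail)),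
  (14, .fail),
  (1, (.step [0, 7, 11, 21, 2] .fail)),
  (1, (.step [0, 15, 20, 18, 8] .fail)),
  (14, .fail),
  (1, (.step [7, 16] (.step [8, 15, 20, 10, 12] (.step [10, 11, 21, 10, 20] .fail)))),
  (1, (.step [0, 13, 14, 20, 15] .fail)),
  (12, .fail),
  (1, (.step [0, 16, 2, 21, 8] .fail)),
  (18, .fail),
  (1, (.step [7, 14, 20, 16] .fail)),
  (48, .fail),
  (1, (.step [2, 21, 10, 17] .fail)),
  (7, .fail),
  (1, (.step [0, 7, 15, 0, 8] .fail)),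
  (18, .fail),
  (1, (.step [0, 15, 7, 18] .fail)),
  (7, .fail),
  (1, (.step [0, 9, 17, 9, 20] (.step [8, 13, 15, 18, 20, 15, 21] .fail))),
  (2, .fail),
  (1, (.step [0, 13, 14, 20, 16] .fail)),
  (2, .fail),
  (1, (.step [0, 2, 9, 8, 13, 19] .fail)),
  (19, .fail),
  (1, (.step [0, 11, 7, 16, 17] .fail)),
  (3, .fail),
  (1, (.step [0, 2, 15, 7] (.step [8, 16, 21, 10, 20, 19] .fail))),
  (7, .fail),
  (1, (.step [2, 9, 16, 7, 13] (.step [8, 16, 20, 10, 11, 20] (.step [10, 17, 20, 10, 16] .fail)))),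
  (2, .fail),
  (1, (.step [0, 2, 11, 16, 0] (.step [8, 18, 10, 19, 20, 21] (.step [10, 17, 20, 12] .fail)))),
  (4, .fail),
  (1, (.step [0, 7, 11, 15, 16] .fail)),
  (12, .fail),
  (1, (.step [0, 9, 15, 2] .fail)),
  (1, .fail),
  (1, (.step [7, 20, 18, 10, 19] .fail)),
  (2, .fail),
  (1, (.step [0, 15, 8, 17] .fail)),
  (4, .fail),
  (1, (.step [0, 2, 9, 12, 13, 7] .fail)),
  (10, .fail),
  (1, (.step [7, 18, 10, 20] .fail)),
  (7, .fail),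
  (1, (.step [9, 10, 14, 20] .fail)),
  (12, .fail),
  (1, (.step [0, 16, 8, 15, 7] .fail)),
  (9, .fail),
  (1, (.step [7, 17, 9, 8] .fail)),
  (2, .fail),
  (1, (.step [2, 12, 10, 21, 2] .fail)),
  (11, .fail),
  (1, (.step [7, 13, 21] .fail)),
  (13, .fail),
  (1, (.step [0, 16, 8, 20, 19] .fail)),
  (1, (.step [0, 16, 7, 12] .fail)),
  (7, .fail),
  (1, (.step [9, 17] .fail)),
  (10, .fail),
  (1, (.step [0, 2, 9, 13, 15, 17] .fail)),
  (35, .fail),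
  (1, (.step [0, 7, 12, 10, 17] (.step [8, 15, 16, 21, 10] .fail))),
  (22, .fail),
  (1, (.step [0, 9, 15, 19, 7] (.step [8, 13, 16, 8, 20, 19] (.step [10, 11] .fail)))),
  (2, .fail),
  (1, (.step [7, 13, 21, 7] .fail)),
  (1, .fail),
  (1, (.step [0, 7, 15, 0] (.step [8, 16, 18, 10, 20, 10] (.step [10, 11, 12, 18, 20] .fail)))),
  (1, .fail),
  (1, (.step [0, 2, 9, 8, 13, 15] .fail)),
  (9, .fail),
  (1, (.step [7, 11, 20, 11, 19] .fail)),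
  (7, .fail),
  (1, (.step [7, 16, 20, 7, 19] .fail)),
  (24, .fail),
  (1, (.step [0, 11, 16, 8, 13] .fail)),
  (3, .fail),
  (1, (.step [7, 11, 20] .fail)),
  (1, (.step [0, 15, 7, 16, 9] (.step [8, 18, 10, 19, 21] .fail))),
  (8, .fail),
  (1, (.step [0, 7, 9, 8, 19, 20] .fail)),
  (13, .fail),
  (1, (.step [0, 7, 17, 7, 20] .fail)),
  (8, .fail),
  (1, (.step [0, 16, 8, 17] .fail)),
  (8, .fail),
  (1, (.step [0, 2, 11, 7, 20, 0] .fail)),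
  (10, .fail),
  (1, (.step [7, 16, 17, 9] .fail)),
  (1, (.step [0, 13, 8, 19, 0] .fail)),
  (10, .fail),
  (1, (.step [7, 14, 15, 18, 10] .fail)),
  (1, .fail),
  (1, (.step [0, 15, 7] (.step [8, 13, 15, 16, 20] (.step [10, 18, 19, 20, 11] .fail)))),
  (14, .fail),
  (1, (.step [0, 2, 9, 19, 9] .fail)),
  (2, .fail),
  (1, (.step [9, 8, 14] .fail)),
  (13, .fail),
  (1, (.step [0, 7, 17, 7, 10] .fail)),
  (3, .fail),
  (1, (.step [2, 9, 16, 7, 12] .fail)),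
  (4, .fail),
  (1, (.step [7, 11, 20, 19] .fail)),
  (6, .fail),
  (1, (.step [0, 11, 19, 0] .fail)),
  (4, .fail),
  (1, (.step [7, 21, 8, 16] .fail)),
  (2, .fail),
  (1, (.step [0, 20, 12, 16] (.step [8, 16, 21, 8, 10, 18] (.step [10, 11, 12, 10, 20, 16] .fail)))),
  (8, .fail),
  (1, (.step [7, 20, 11, 0, 13] .fail)),
  (4, .fail),
  (1, (.step [0, 2, 19, 9, 17, 0] (.step [8, 13, 18, 20, 10, 19] (.step [10, 11, 19, 20, 16] .fail)))),
  (4, .fail),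
  (1, (.step [0, 2, 16, 20, 0] .fail)),
  (9, .fail),
  (1, (.step [0, 14, 20, 16, 2] .fail)),
  (2, .fail),
  (1, (.step [2, 17, 21, 2] .fail)),
  (5, .fail),
  (1, (.step [9, 16, 8, 13] .fail)),
  (34, .fail),
  (1, (.step [0, 16, 17, 10, 9] .fail)),
  (11, .fail),
  (1, (.step [0, 2, 11, 10, 18, 8] (.step [8, 16, 20, 10, 12, 17] .fail))),
  (4, .fail),
  (1, (.step [0, 2, 9, 18, 8] .fail)),
  (1, (.step [0, 2, 7, 9, 18, 7] .fail)),
  (1, (.step [0, 20, 10, 15, 0] .fail)),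
  (10, .fail),
  (1, (.step [0, 13, 15, 8] .fail)),
  (15, .fail),
  (1, (.step [0, 16, 7, 15] .fail)),
  (4, .fail),
  (1, (.step [7, 11, 12, 17] .fail)),
  (13, .fail),
  (1, (.step [2, 16, 8] .fail)),
  (23, .fail),
  (1, (.step [0, 15, 20, 16, 8] .fail)),
  (3, .fail),
  (1, (.step [7, 15, 16, 19] .fail)),
  (8, .fail),
  (1, (.step [7, 16, 17, 10, 11] .fail)),
  (31, .fail),
  (1, (.step [0, 16, 2, 8] (.step [8, 16, 21, 8, 10, 20] .fail))),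
  (6, .fail),
  (1, (.step [7, 15, 21, 7] .fail)),
  (1, .fail),
  (1, (.step [0, 9, 17, 2, 9] .fail)),
  (19, .fail),
  (1, (.step [0, 11, 15, 2, 20] .fail)),
  (4, .fail),
  (1, (.step [0, 11, 15, 8, 13] (.step [8, 16, 18, 10, 20, 10, 18] (.step [10, 12, 18, 20, 21] .fail)))),
  (1, .fail),
  (1, (.step [0, 2, 9, 11, 13, 19] (.step [8, 13, 16, 20, 10, 11, 17] .fail))),
  (1, .fail),
  (1, (.step [0, 11, 13, 0] .fail)),
  (1, (.step [0, 7, 17, 7, 10] .fail)),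
  (9, .fail),
  (1, (.step [2, 7, 9, 10, 14] .fail)),
  (1, (.step [0, 2, 19, 9, 17] .fail)),
  (3, .fail),
  (1, (.step [7, 9, 12, 10, 20] (.step [8, 13, 16, 18, 10] (.step [10, 17, 20, 11, 21] (.step [20, 11, 12, 18, 19] (.step [11, 1, 6, 7, 18, 19, 14, 18, 20, 12, 6, 4, 0, 18, 20, 19, 10, 18, 8, 16, 15, 20, 10, 20, 19, 16, 20, 21, 11] (.step [14, 18] .fail))))))),
  (1, (.step [2, 7] (.step [8, 13, 16, 20, 11] .fail))),
  (1, .fail),
  (1, (.step [0, 2, 11, 15, 19, 9] .fail)),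
  (1, .fail),
  (1, (.step [2, 9, 16, 0, 19] .fail)),
  (4, .fail),
  (1, (.step [2, 16, 0, 9, 18] .fail)),
  (8, .fail),
  (1, (.step [9, 17, 19, 7, 20] .fail)),
  (2, .fail),
  (1, (.step [7, 16, 9, 18, 19] .fail)),
  (12, .fail),
  (1, (.step [2, 9, 16, 9] .fail)),
  (5, .fail),
  (1, (.step [0, 15, 17, 10, 9] .fail)),
  (10, .fail),
  (1, (.step [0, 11, 15, 0, 20] (.step [8, 13, 18, 20, 10, 17] (.step [10, 11, 20, 16] (.step [20, 11, 12] (.step [11, 12] (.step [14] (.step [13] (.step [17] (.step [] (.done [3, 0, 2, 8, 9, 5, 4, 6, 8, 7, 1, 3, 0, 2, 8, 9, 5, 4, 6, 8, 7, 1, 3, 0, 2, 8, 9, 5, 4, 6, 8, 7, 1, 3, 0, 2, 8, 9, 5, 4, 6, 8, 7, 1, 3, 0, 2, 8, 9, 5, 4, 6, 8, 7, 1, 3, 0, 2, 8, 9, 5, 4, 6, 8, 7, 1, 3, 0, 2, 8, 9, 5, 4, 6, 8, 7, 1, 3, 0, 2, 8, 9, 5, 4, 6, 8, 7, 1, 3, 0, 2, 8, 9, 5, 4, 6, 8, 7, 1, 3, 0, 2, 8, 9, 5, 4, 6, 8, 7, 1, 3, 0, 2, 8, 9, 5, 4, 6, 8, 7, 1]))))))))))),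
  (5, .fail),
  (1, (.step [7, 12, 10, 15, 16] .fail)),
  (1, .fail),
  (1, (.step [2, 12, 15, 8, 21] .fail)),
  (4, .fail),
  (1, (.step [0, 7, 18, 9, 19] .fail)),
  (1, (.step [0, 9, 20, 19] (.step [8, 13, 18, 8, 10, 17, 20, 15] .fail))),
  (4, .fail),
  (1, (.step [0, 19, 10, 9, 18] .fail)),
  (13, .fail),
  (1, (.step [0, 2, 9, 8, 17, 21] (.step [8, 13, 15, 16, 18] .fail))),
  (19, .fail),
  (1, (.step [0, 2, 7, 14, 17, 0] .fail)),
  (15, .fail),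
  (1, (.step [0, 11, 13, 19] .fail)),
  (3, .fail),
  (1, (.step [0, 7, 17, 0, 20] .fail)),
  (1, (.step [9, 10, 21, 2] .fail)),
  (3, .fail),
  (1, (.step [0, 9, 10, 17, 2, 12] .fail)),
  (6, .fail),
  (1, (.step [0, 2, 9, 19, 10] .fail)),
  (6, .fail),
  (1, (.step [7, 17, 20, 7] .fail)),
  (1, .fail),
  (1, (.step [2, 9, 8, 18, 9] .fail)),
  (9, .fail),
  (1, (.step [2, 7, 18, 9, 10] .fail)),
  (1, (.step [0, 2, 12, 15] .fail)),
  (7, .fail),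
  (1, (.step [0, 17, 7, 11] (.step [8, 15, 20, 10, 12, 20, 18] .fail))),
  (2, .fail),
  (1, (.step [0, 9, 15, 19, 10] .fail)),
  (1, .fail),
  (1, (.step [0, 15, 7, 8, 15] .fail)),
  (6, .fail),
  (1, (.step [0, 7, 9, 16, 21] (.step [8, 15, 16, 21, 10] .fail))),
  (3, .fail),
  (1, (.step [7, 11, 20, 18, 10] .fail)),
  (3, .fail),
  (1, (.step [0, 7, 11, 10, 18] .fail)),
  (5, .fail),
  (1, (.step [2, 9, 8, 18, 9] .fail)),
  (6, .fail),
  (1, (.step [0, 2, 15, 2, 20] .fail)),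
  (2, .fail),
  (1, (.step [0, 13, 17, 10, 19] .fail)),
  (1, (.step [9, 8, 15, 17] .fail)),
  (2, .fail),
  (1, (.step [7, 17, 0, 2, 17] .fail)),
  (1, .fail),
  (1, (.step [0, 9, 10, 12, 17] .fail)),
  (2, .fail),
  (1, (.step [0, 11, 10, 14, 9] .fail)),
  (3, .fail),
  (1, (.step [0, 16, 20, 10, 9] .fail)),
  (1, (.step [7, 19, 10, 21] .fail)),
  (1, .fail),
  (1, (.step [0, 13, 17, 0] .fail)),
  (1, (.step [0, 2, 11, 15, 19] .fail)),
  (6, .fail),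
  (1, (.step [0, 11, 16, 8, 20] .fail)),
  (1, (.step [2, 17, 7, 20] .fail)),
  (19, .fail),
  (1, (.step [7, 17, 9] .fail)),
  (3, .fail),
  (1, (.step [2, 15, 21, 8, 16] .fail)),
  (21, .fail),
  (1, (.step [9, 19, 10, 9, 20] .fail)),
  (1, (.step [2, 7, 11, 13, 20] .fail)),
  (11, .fail),
  (1, (.step [0, 15, 20, 18, 7] (.step [8, 13, 18, 20, 10] .fail))),
  (1, .fail),
  (1, (.step [0, 11, 10, 18, 20] .fail)),
  (14, .fail),
  (1, (.step [7, 16, 2, 20] .fail)),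
  (1, (.step [2, 17, 7, 10] (.step [8, 15, 16, 8, 20, 10, 11] .fail))),
  (5, .fail),
  (1, (.step [0, 2, 9, 18, 8] .fail)),
  (2, .fail),
  (1, (.step [2, 12, 10, 11, 21] .fail)),
  (4, .fail),
  (1, (.step [0, 2, 12, 10, 18] .fail)),
  (1, (.step [0, 15, 17, 10, 9] .fail)),
  (4, .fail),
  (1, (.step [0, 11, 14, 7, 18] .fail)),
  (23, .fail),
  (1, (.step [0, 20, 18, 9] .fail)),
  (4, .fail),
  (1, (.step [2, 7, 16, 20, 0] .fail)),
  (16, .fail),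
  (1, (.step [9, 8, 21, 7] .fail)),
  (10, .fail),
  (1, (.step [7, 15, 0, 11] .fail)),
  (2, .fail),
  (1, (.step [0, 2, 7, 14, 17] .fail)),
  (1, .fail),
  (1, (.step [7, 20, 21, 2, 8] .fail)),
  (4, .fail),
  (1, (.step [0, 2, 15, 7, 14] (.step [8, 18, 20, 10, 17] (.step [10, 20, 18] .fail)))),
  (2, .fail),
  (1, (.step [0, 9, 13] (.step [8, 18, 10, 17, 20, 10] (.step [10, 17, 20, 21] .fail)))),
  (7, .fail),
  (1, (.step [2, 7, 18, 9] .fail)),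
  (1, .fail),
  (1, (.step [0, 2, 20, 16, 2, 21] (.step [8, 13, 15, 20, 10, 12, 17] (.step [10, 20, 16, 21, 10, 20] .fail)))),
  (10, .fail),
  (1, (.step [0, 2, 11, 15, 8, 16] .fail)),
  (8, .fail),
  (1, (.step [0, 7, 15, 0, 8] (.step [8, 16, 18, 10, 20, 15] (.step [10, 17, 20, 16, 18] .fail)))),
  (9, .fail),
  (1, (.step [0, 17, 20, 7, 19] .fail)),
  (20, .fail),
  (1, (.step [0, 16, 8, 17] (.step [8, 13, 15, 20, 16] (.step [10, 11, 19, 10] .fail)))),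
  (3, .fail),
  (1, (.step [0, 9, 17, 20, 7] .fail)),
  (9, .fail),
  (1, (.step [9, 17, 18, 20] .fail)),
  (11, .fail),
  (1, (.step [0, 11, 13, 15, 2] .fail)),
  (22, .fail),
  (1, (.step [7, 9, 15, 8] .fail)),
  (23, .fail),
  (1, (.step [0, 2, 16, 20, 16] .fail)),
  (2, .fail),
  (1, (.step [0, 2, 9, 19, 20, 18] .fail)),
  (4, .fail),
  (1, (.step [2, 9, 10, 20] .fail)),
  (21, .fail),
  (1, (.step [0, 2, 21, 7, 16] .fail)),
  (5, .fail),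
  (1, (.step [7, 11, 0, 15, 20] .fail)),
  (8, .fail),
  (1, (.step [2, 7, 20, 15, 16] .fail)),
  (9, .fail),
  (1, (.step [0, 16, 19, 7, 11] .fail)),
  (6, .fail),
  (1, (.step [0, 13, 15, 0, 20] .fail)),
  (3, .fail),
  (1, (.step [0, 19, 10, 18, 8] (.step [8, 16, 20, 10, 15] .fail))),
  (1, .fail),
  (1, (.step [0, 2, 15, 0, 2] .fail)),
  (3, .fail),
  (1, (.step [0, 13, 15, 7, 20] .fail)),
  (1, .fail),
  (1, (.step [7, 20, 21, 2] .fail)),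
  (32, .fail),
  (1, (.step [9, 18, 20] .fail)),
  (3, .fail),
  (1, (.step [2] .fail)),
  (17, .fail),
  (1, (.step [0, 16, 17, 20] (.step [8, 13, 15, 20, 18, 21, 10] (.step [10, 12, 20] .fail)))),
  (22, .fail),
  (1, (.step [0, 13, 15, 7, 12] .fail)),
  (2, .fail),
  (1, (.step [9, 10, 12, 14] .fail)),
  (3, .fail),
  (1, (.step [0, 9, 10, 19, 0] .fail)),
  (11, .fail),
  (1, (.step [0, 7, 21, 2] .fail)),
  (26, .fail),
  (1, (.step [0, 17, 7, 20, 15, 8] .fail)),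
  (6, .fail),
  (1, (.step [2, 16, 0, 20, 10] .fail)),
  (1, .fail),
  (1, (.step [0, 2, 9, 13, 15, 17] (.step [8, 16, 21, 10, 20, 18] (.step [10, 17, 20, 10, 16, 20] .fail)))),
  (1, (.step [0, 2, 15, 7, 13] .fail)),
  (7, .fail),
  (1, (.step [0, 16, 2, 20, 12] (.step [8, 13, 18, 10, 17, 21] (.step [10, 20, 18, 10] .fail)))),
  (50, .fail),
  (1, (.step [0, 2, 12, 10, 17, 7] .fail)),
  (21, .fail),
  (1, (.step [0, 11, 7, 21, 8] .fail)),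
  (3, .fail),
  (1, (.step [0, 2, 9, 14, 21] .fail)),
  (18, .fail),
  (1, (.step [9, 10, 14, 20] (.step [8, 13, 21, 10, 12] (.step [10, 11, 19, 20, 19] .fail)))),
  (15, .fail),
  (1, (.step [0, 15, 8, 17, 2] .fail)),
  (17, .fail),
  (1, (.step [0, 15, 17, 20, 10] .fail)),
  (4, .fail),
  (1, (.step [0, 2, 12, 15, 20, 16] .fail)),
  (2, .fail),
  (1, (.step [0, 17, 7, 9, 8] .fail)),
  (6, .fail),
  (1, (.step [0, 15, 17, 9] .fail)),
  (11, .fail),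
  (1, (.step [0, 11, 16, 8, 21] (.step [8, 16, 20, 21, 8, 10, 20] .fail))),
  (11, .fail),
  (1, (.step [0, 11, 7, 15, 18, 7] .fail)),
  (10, .fail),
  (1, (.step [0, 11, 15, 17, 9, 8] .fail)),
  (4, .fail),
  (1, (.step [0, 11, 16, 7] .fail)),
  (16, .fail),
  (1, (.step [0, 7, 11, 12] (.step [8, 13, 18, 20] (.step [10, 11, 19, 20, 16] .fail)))),
  (8, .fail),
  (1, (.step [0, 2, 9, 10, 14] .fail)),
  (2, .fail),
  (1, (.step [0, 20, 16, 8] .fail)),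
  (1, (.step [0, 11, 7, 17, 0, 13] .fail)),
  (2, .fail),
  (1, (.step [2, 7, 18, 9, 20] .fail)),
  (2, .fail),
  (1, (.step [0, 9, 17, 2, 20] .fail)),
  (1, (.step [2, 14, 16] .fail)),
  (1, .fail),
  (1, (.step [0, 16, 20, 7, 19] .fail)),
  (30, .fail),
  (1, (.step [0, 15, 17, 0, 10] .fail)),
  (6, .fail),
  (1, (.step [0, 20, 18] .fail)),
  (1, (.step [2, 9, 16, 0, 17] (.step [8, 13, 18, 20, 15, 19] .fail))),
  (5, .fail),
  (1, (.step [2, 21, 10, 9, 16] (.step [8, 13, 18, 10, 20, 21] .fail))),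
  (2, .fail),
  (1, (.step [0, 2, 20] .fail)),
  (12, .fail),
  (1, (.step [2, 15, 21, 10, 11] .fail)),
  (3, .fail),
  (1, (.step [7, 11, 14, 19, 20] .fail)),
  (3, .fail),
  (1, (.step [0, 16, 7, 17, 9] .fail)),
  (4, .fail),
  (1, (.step [0, 2, 16, 2, 9] .fail)),
  (15, .fail),
  (1, (.step [0, 7, 11, 0, 17] .fail)),
  (1, .fail),
  (1, (.step [0, 11, 15, 17, 9, 8] .fail)),
  (1, (.step [0, 7, 11, 0, 17] .fail)),
  (31, .fail),
  (1, (.step [0, 11, 15, 8, 13] .fail)),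
  (3, .fail),
  (1, (.step [0, 7, 16, 7, 21] (.step [8, 18, 20, 12, 10, 11] .fail))),
  (12, .fail),
  (1, (.step [7, 18, 10, 11, 0] (.step [8, 15, 16, 20, 10, 16, 20] .fail))),
  (5, .fail),
  (1, (.step [0, 19, 10, 12] .fail)),
  (9, .fail),
  (1, (.step [7, 9, 16, 7, 13] .fail)),
  (4, .fail),
  (1, (.step [7, 14, 20, 11] .fail)),
  (8, .fail),
  (1, (.step [7, 18, 9, 8] .fail)),
  (2, .fail),
  (1, (.step [9, 16, 7, 12] .fail)),
  (16, .fail),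
  (1, (.step [7, 11, 10, 21, 7] .fail)),
  (9, .fail),
  (1, (.step [2, 15, 20, 10, 21] .fail)),
  (25, .fail),
  (1, (.step [7, 9, 17, 0, 20] .fail)),
  (4, .fail),
  (1, (.step [0, 7, 15, 20, 19] .fail)),
  (2, .fail),
  (1, (.step [0, 16, 2, 8, 18] .fail)),
  (32, .fail),
  (1, (.step [7, 12, 14, 16] (.step [8, 13, 15, 20, 11] .fail))),
  (8, .fail),
  (1, (.step [0, 19, 9, 10, 9] .fail)),
  (16, .fail),
  (1, (.step [0, 2, 9, 18, 20, 0] (.step [8, 16, 21, 10, 20, 16] .fail))),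
  (27, .fail),
  (1, (.step [0, 9, 19, 20, 10] .fail)),
  (5, .fail),
  (1, (.step [2, 12, 16, 7, 13] .fail)),
  (9, .fail),
  (1, (.step [2, 9, 16, 20] .fail)),
  (1, (.step [0, 2, 9, 8, 11] .fail)),
  (6, .fail),
  (1, (.step [2, 9, 10, 19, 9] .fail)),
  (5, .fail),
  (1, (.step [0, 15, 7, 18] (.step [8, 16, 18, 20, 10, 21] .fail))),
  (18, .fail),
  (1, (.step [0, 2, 13, 8, 16] .fail)),
  (1, .fail),
  (1, (.step [0, 15, 8, 16, 9] .fail)),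
  (14, .fail),
  (1, (.step [0, 9, 8, 18, 9] .fail)),
  (5, .fail),
  (1, (.step [9, 19, 20, 15] .fail)),
  (1, .fail),
  (1, (.step [0, 11, 13, 17, 10] (.step [8, 16, 21, 10, 20] .fail))),
  (3, .fail),
  (1, (.step [0, 2, 21, 8, 10] .fail)),
  (14, .fail),
  (1, (.step [2, 12, 16, 9, 20] .fail)),
  (3, .fail),
  (1, (.step [7, 12, 15, 16] .fail)),
  (7, .fail),
  (1, (.step [7, 12, 13, 21] .fail)),
  (4, .fail),
  (1, (.step [2, 17, 9, 8, 15] .fail)),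
  (9, .fail),
  (1, (.step [7, 9, 18, 9, 19] .fail)),
  (4, .fail),
  (1, (.step [0, 16, 8, 21] .fail)),
  (40, .fail),
  (1, (.step [2, 21, 7, 17] .fail)),
  (1, .fail),
  (1, (.step [9, 18, 20, 7, 17] .fail)),
  (1, (.step [0, 7, 12, 20, 10] .fail)),
  (2, .fail),
  (1, (.step [0, 20, 12, 10, 19] (.step [8, 18, 20, 21, 8] (.step [10, 11, 18, 10, 20, 19] .fail)))),
  (7, .fail),
  (1, (.step [0, 9, 20, 19, 7] .fail)),
  (8, .fail),
  (1, (.step [7, 12, 10, 16, 0] .fail)),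
  (10, .fail),
  (1, (.step [0, 9, 15, 7, 14] .fail)),
  (1, .fail),
  (1, (.step [2, 9, 8, 21, 7] .fail)),
  (15, .fail),
  (1, (.step [0, 16, 20, 19] .fail)),
  (1, .fail),
  (1, (.step [7, 12, 14, 17, 9] .fail)),
  (29, .fail),
  (1, (.step [0, 7, 9, 21, 2] .fail)),
  (1, (.step [0, 7, 18, 9, 19] (.step [8, 13, 18, 10, 17, 20] (.step [10, 12] .fail)))),
  (9, .fail),
  (1, (.step [0, 17, 10, 9] (.step [8, 13, 18, 10, 20] (.step [10, 11, 17, 20] .fail)))),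
  (3, .fail),
  (1, (.step [7, 12, 13, 16, 18] (.step [8, 16, 18, 8, 20, 10, 11] .fail))),
  (7, .fail),
  (1, (.step [0, 11, 15, 17] .fail)),
  (24, .fail),
  (1, (.step [0, 16, 19, 20, 7] (.step [8, 16, 18, 10, 20, 16] (.step [10, 17, 20, 12] .fail)))),
  (8, .fail),
  (1, (.step [7, 9, 16] (.step [8, 13, 18, 10, 12, 21, 8] .fail))),
  (7, .fail),
  (1, (.step [0, 17, 20, 7, 19] (.step [8, 13, 21, 8, 10, 17, 20] (.step [10, 20, 15, 16] .fail)))),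
  (19, .fail),
  (1, (.step [0, 7, 21, 8] .fail)),
  (13, .fail),
  (1, (.step [2, 21, 7, 16] .fail)),
  (2, .fail),
  (1, (.step [0, 9, 18, 8, 13, 20] .fail)),
  (11, .fail),
  (1, (.step [0, 9, 8, 20, 12] .fail)),
  (12, .fail),
  (1, (.step [0, 2, 11, 7, 21] .fail)),
  (8, .fail),
  (1, (.step [0, 2, 15, 8, 18] .fail)),
  (8, .fail),
  (1, (.step [7, 9, 21, 2, 8] .fail)),
  (20, .fail),
  (1, (.step [0, 16, 7, 17, 21] .fail)),
  (3, .fail),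
  (1, (.step [0, 16, 20, 0] .fail)),
  (16, .fail),
  (1, (.step [0, 11, 13, 16] (.step [8, 18, 20, 12, 10, 17] .fail))),
  (4, .fail),
  (1, (.step [7, 9] .fail)),
  (4, .fail),
  (1, (.step [0, 2, 7, 11, 14] .fail)),
  (23, .fail),
  (1, (.step [0, 14] .fail)),
  (5, .fail),
  (1, (.step [2, 12, 17, 7, 19] .fail)),
  (1, (.step [0, 11, 7, 16, 17] .fail))])

/-- a piece of a certificate -/
noncomputable def cCp_7 : Cert := (Cert.rl [(3, .fail),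
  (1, (.step [0, 9, 11, 17, 2] .fail)),
  (4, .fail),
  (1, (.step [9, 8, 21, 10] .fail)),
  (1, .fail),
  (1, (.step [0, 2, 7, 15] .fail)),
  (1, (.step [7, 9, 11, 0, 12] .fail)),
  (5, .fail),
  (1, (.step [0, 2, 9, 15, 8] .fail)),
  (1, (.step [2, 14, 17] .fail)),
  (2, .fail),
  (1, (.step [0, 16, 19, 20, 7] .fail)),
  (28, .fail),
  (1, (.step [2, 9, 17, 7, 12] .fail)),
  (6, .fail),
  (1, (.step [7, 13, 19, 0, 11] .fail)),
  (15, .fail),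
  (1, (.step [0, 2, 21, 7, 13] .fail)),
  (5, .fail),
  (1, (.step [7, 16, 0, 21, 7] .fail)),
  (4, .fail),
  (1, (.step [0, 20, 15, 0, 13] .fail)),
  (1, (.step [2, 9, 16, 7] .fail)),
  (5, .fail),
  (1, (.step [0, 7, 16, 0, 15, 20] (.step [8, 13, 15, 16, 20, 12] .fail))),
  (8, .fail),
  (1, (.step [0, 9, 11, 19] .fail)),
  (2, .fail),
  (1, (.step [2, 17, 21, 10] (.step [8, 15, 16, 21, 10, 18] (.step [10, 11, 21, 10, 20, 19] (.step [20] (.step [11, 12] (.step [14, 18, 1, 6, 7, 18, 19, 14, 18, 20, 12, 6, 4, 0, 18, 20, 19, 10, 18, 8, 16, 15, 20, 10, 20, 19, 16, 20, 21, 11] .fail))))))),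
  (20, .fail),
  (1, (.step [0, 16, 7, 20, 7] .fail)),
  (11, .fail),
  (1, (.step [2, 12, 15, 20, 18] .fail)),
  (1, .fail),
  (1, (.step [2, 9, 12, 21] .fail)),
  (3, .fail),
  (1, (.step [0, 16, 7, 20, 10] .fail)),
  (2, .fail),
  (1, (.step [2, 7, 16, 20, 15] .fail)),
  (3, .fail),
  (1, (.step [2, 12, 16, 8, 9] .fail)),
  (6, .fail),
  (1, (.step [0, 13, 15, 7, 18] .fail)),
  (1, .fail),
  (1, (.step [0, 2, 9, 12, 15] .fail)),
  (1, .fail),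
  (1, (.step [2, 7, 9, 10, 14] .fail)),
  (1, (.step [9] .fail)),
  (1, (.step [7, 14, 20, 21, 8] .fail)),
  (2, .fail),
  (1, (.step [7, 20, 10, 16, 8] .fail)),
  (1, (.step [0, 9, 8, 10, 12] .fail)),
  (1, .fail),
  (1, (.step [7, 11, 13, 20, 16] .fail)),
  (1, .fail),
  (1, (.step [7, 9, 10, 17] .fail)),
  (3, .fail),
  (1, (.step [0, 2, 9, 10, 15] .fail)),
  (5, .fail),
  (1, (.step [0, 13, 17, 9, 18] .fail)),
  (12, .fail),
  (1, (.step [0, 13, 14, 0] (.step [8, 18, 10, 20, 19] .fail))),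
  (1, (.step [0, 15, 19, 10, 17] .fail)),
  (14, .fail),
  (1, (.step [7, 9, 12, 17] .fail)),
  (8, .fail),
  (1, (.step [2, 17, 9, 16] .fail)),
  (4, .fail),
  (1, (.step [0, 11, 16, 17, 9] .fail)),
  (4, .fail),
  (1, (.step [0, 11, 19, 20, 10] .fail)),
  (1, .fail),
  (1, (.step [7, 19, 10, 12] .fail)),
  (3, .fail),
  (1, (.step [2, 15, 21, 10] .fail)),
  (10, .fail),
  (1, (.step [7, 18, 19, 9] .fail)),
  (1, .fail),
  (1, (.step [2, 12, 20, 21] .fail)),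
  (1, .fail),
  (1, (.step [0, 13, 15, 20, 10] .fail)),
  (5, .fail),
  (1, (.step [7, 12, 16, 9] .fail)),
  (10, .fail),
  (1, (.step [9, 8, 18, 20] .fail)),
  (8, .fail),
  (1, (.step [7, 20, 10, 21] .fail)),
  (21, .fail),
  (1, (.step [7, 16, 0, 19] .fail)),
  (18, .fail),
  (1, (.step [7, 9] .fail)),
  (8, .fail),
  (1, (.step [7, 16, 0, 19, 21] .fail)),
  (16, .fail),
  (1, (.step [0, 15, 17, 10] .fail)),
  (1, .fail),
  (1, (.step [0, 17, 7, 9, 8] .fail)),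
  (1, .fail),
  (1, (.step [2, 16, 7, 13, 15] .fail)),
  (1, .fail),
  (1, (.step [0, 11, 15, 17] .fail)),
  (10, .fail),
  (1, (.step [0, 7, 9, 10, 18] .fail)),
  (9, .fail),
  (1, (.step [0, 2, 9, 15, 2] .fail)),
  (1, (.step [2, 14, 21, 2] .fail)),
  (6, .fail),
  (1, (.step [0, 7, 9, 21, 2] .fail)),
  (20, .fail),
  (1, (.step [0, 15, 8, 16, 9] .fail)),
  (6, .fail),
  (1, (.step [0, 9, 10, 12, 19] .fail)),
  (8, .fail),
  (1, (.step [7, 18, 10, 9] .fail)),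
  (1, (.step [2, 21, 8, 9, 15] .fail)),
  (8, .fail),
  (1, (.step [7, 9, 16] .fail)),
  (10, .fail),
  (1, (.step [0, 9, 11, 15, 17] .fail)),
  (2, .fail),
  (1, (.step [0, 2, 16, 20] .fail)),
  (1, (.step [7, 12, 13, 17] (.step [8, 15, 20, 21] .fail))),
  (1, .fail),
  (1, (.step [7, 18, 20] .fail)),
  (1, (.step [2, 16, 9, 21, 8] .fail)),
  (10, .fail),
  (1, (.step [0, 16, 8, 15, 7] .fail)),
  (12, .fail),
  (1, (.step [2, 9, 16, 2, 9] (.step [8, 13, 18, 21, 10] .fail))),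
  (4, .fail),
  (1, (.step [0, 16, 2, 20, 11] .fail)),
  (16, .fail),
  (1, (.step [2, 7, 16, 20, 10] (.step [8, 13, 15, 18, 21, 10] (.step [10, 11, 20, 19, 10] .fail)))),
  (4, .fail),
  (1, (.step [0, 7, 17, 2] .fail)),
  (6, .fail),
  (1, (.step [0, 2, 9, 16, 7, 13] .fail)),
  (3, .fail),
  (1, (.step [0, 2, 13, 20, 7] .fail)),
  (14, .fail),
  (1, (.step [0, 20, 15] .fail)),
  (3, .fail),
  (1, (.step [0, 2, 9, 12, 15, 17] .fail)),
  (7, .fail),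
  (1, (.step [2, 17, 21] .fail)),
  (18, .fail),
  (1, (.step [2, 7, 18, 9] .fail)),
  (14, .fail),
  (1, (.step [0, 7, 11, 0, 17] .fail)),
  (2, .fail),
  (1, (.step [7, 16, 9, 18, 19] .fail)),
  (17, .fail),
  (1, (.step [2, 9, 18, 8] .fail)),
  (12, .fail),
  (1, (.step [0, 9, 11, 17, 2] .fail)),
  (21, .fail),
  (1, (.step [0, 9, 18, 7, 12] .fail)),
  (1, (.step [9, 8, 16] .fail)),
  (8, .fail),
  (1, (.step [7, 20, 10, 21] .fail)),
  (4, .fail),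
  (1, (.step [0, 16, 7, 11, 10] .fail)),
  (2, .fail),
  (1, (.step [0, 2, 16, 8, 18] .fail)),
  (3, .fail),
  (1, (.step [0, 16, 20, 10] .fail)),
  (10, .fail),
  (1, (.step [0, 9, 8, 10, 9] .fail)),
  (3, .fail),
  (1, (.step [0, 7, 15, 7, 11] .fail)),
  (11, .fail),
  (1, (.step [7, 11, 20, 11] .fail)),
  (3, .fail),
  (1, (.step [0, 7, 9, 11] (.step [8, 15, 18, 21, 10, 18] (.step [10, 18, 20, 18] (.step [20, 16, 19, 20] (.step [11, 21] (.step [1, 6, 7, 18, 19, 14, 18, 20, 12, 6, 4, 0, 18, 20, 19, 10, 18, 8, 16, 15, 20, 10, 20, 19, 16, 20, 21, 11, 19] (.step [] (.step [] (.step [] (.done [3, 0, 2, 8, 9, 5, 4, 6, 8, 7, 1, 3, 0, 2, 8, 9, 5, 4, 6, 8, 7, 1, 3, 0, 2, 8, 9, 5, 4, 6, 8, 7, 1, 3, 0, 2, 8, 9, 5, 4, 6, 8, 7, 1, 3, 0, 2, 8, 9, 5, 4, 6, 8, 7, 1]))))))))))),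
  (1, (.step [2, 7, 16, 20, 11] (.step [8, 15, 21, 8, 10, 18] .fail))),
  (1, .fail),
  (1, (.step [2, 16, 7, 9, 21] .fail)),
  (17, .fail),
  (1, (.step [0, 15, 17, 7, 16] (.step [8, 13, 15, 20, 10, 12, 20] (.step [10, 11, 18, 19, 21] .fail)))),
  (1, .fail),
  (1, (.step [0, 20, 12, 15] (.step [8, 15, 18, 20, 19] .fail))),
  (1, .fail),
  (1, (.step [0, 2, 11, 15, 8] .fail)),
  (1, .fail),
  (1, (.step [0, 7, 9, 14] (.step [8, 13, 15, 20, 10, 12, 17] (.step [10, 11, 20, 10, 18] .fail)))),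
  (1, .fail),
  (1, (.step [7, 12, 17, 9] .fail)),
  (9, .fail),
  (1, (.step [7, 11, 13, 20] .fail)),
  (3, .fail),
  (1, (.step [0, 7, 15, 20, 18] .fail)),
  (8, .fail),
  (1, (.step [0, 2, 11, 13] .fail)),
  (1, (.step [0, 2, 19, 10, 20, 7] .fail)),
  (4, .fail),
  (1, (.step [0, 15, 8, 19, 10] .fail)),
  (2, .fail),
  (1, (.step [0, 14, 20, 10, 9] .fail)),
  (3, .fail),
  (1, (.step [0, 2, 16, 9, 8] .fail)),
  (5, .fail),
  (1, (.step [0, 2, 9, 16, 9] .fail)),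
  (1, (.step [0, 2, 9, 8, 11, 17] .fail)),
  (2, .fail),
  (1, (.step [0, 15, 7, 8, 15] .fail)),
  (3, .fail),
  (1, (.step [2, 15, 8, 18, 10] .fail)),
  (8, .fail),
  (1, (.step [7, 16, 18, 19, 21] .fail)),
  (1, .fail),
  (1, (.step [7, 12, 13] .fail)),
  (1, .fail),
  (1, (.step [0, 7, 18, 20, 19] .fail)),
  (7, .fail),
  (1, (.step [0, 2, 11, 15, 2] .fail)),
  (8, .fail),
  (1, (.step [0, 7, 15, 20, 11] .fail)),
  (5, .fail),
  (1, (.step [7, 18, 9, 8] .fail)),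
  (1, (.step [7, 18, 9, 19] .fail)),
  (16, .fail),
  (1, (.step [2, 16, 9, 21, 8] .fail)),
  (3, .fail),
  (1, (.step [0, 20, 10, 15, 8] .fail)),
  (2, .fail),
  (1, (.step [0, 7, 15, 20, 11] .fail)),
  (3, .fail),
  (1, (.step [0, 20, 10, 16, 17] (.step [8, 13, 18, 10, 19, 21] .fail))),
  (14, .fail),
  (1, (.step [0, 7, 9, 11, 15] .fail)),
  (1, (.step [0, 17, 20, 7, 12] .fail)),
  (10, .fail),
  (1, (.step [0, 14, 20, 16, 9] .fail)),
  (3, .fail),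
  (1, (.step [2, 7, 21, 2, 17] .fail)),
  (1, (.step [0, 2, 7, 21, 8] .fail)),
  (1, .fail),
  (1, (.step [2, 12, 14, 2] .fail)),
  (3, .fail),
  (1, (.step [9, 8, 14, 16] .fail)),
  (1, .fail),
  (1, (.step [0, 2, 7, 17, 10] (.step [8, 13, 15, 20, 21] .fail))),
  (1, (.step [7, 11, 14, 16] .fail)),
  (1, (.step [0, 16, 7, 8, 18] (.step [8, 13, 18, 20, 12] (.step [10, 12, 18, 20, 18] .fail)))),
  (8, .fail),
  (1, (.step [0, 11, 19, 10, 20] .fail)),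
  (6, .fail),
  (1, (.step [7, 13, 19, 21] (.step [8, 15, 16, 8, 20, 12, 10] (.step [10, 18, 20, 16] .fail)))),
  (1, (.step [2, 7, 9, 11, 20] .fail)),
  (8, .fail),
  (1, (.step [2, 15, 20, 10, 21] .fail)),
  (3, .fail),
  (1, (.step [7, 17, 9, 20, 7] .fail)),
  (1, (.step [2, 15, 20, 18, 9] .fail)),
  (1, (.step [7, 19, 10, 21] .fail)),
  (26, .fail),
  (1, (.step [0, 7, 9, 16, 9] .fail)),
  (9, .fail),
  (1, (.step [0, 7, 9, 17] .fail)),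
  (21, .fail),
  (1, (.step [0, 2, 15, 20] .fail)),
  (2, .fail),
  (1, (.step [0, 16, 2, 20] .fail)),
  (8, .fail),
  (1, (.step [7, 12, 17, 21] .fail)),
  (7, .fail),
  (1, (.step [2, 7, 11, 20, 19] .fail)),
  (1, .fail),
  (1, (.step [7, 9, 8, 10] .fail)),
  (16, .fail),
  (1, (.step [7, 20, 21] .fail)),
  (1, (.step [0, 11, 15, 0, 20] .fail)),
  (16, .fail),
  (1, (.step [2, 14, 17, 7, 20] .fail)),
  (14, .fail),
  (1, (.step [0, 9, 17, 0, 9] (.step [8, 15, 20, 10, 16, 8] .fail))),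
  (8, .fail),
  (1, (.step [0, 9, 17, 0] .fail)),
  (3, .fail),
  (1, (.step [0, 13, 20, 7, 15] .fail)),
  (5, .fail),
  (1, (.step [2, 9, 10, 20, 11] .fail)),
  (7, .fail),
  (1, (.step [0, 2, 9, 15, 16] .fail)),
  (12, .fail),
  (1, (.step [0, 11, 7, 15, 18] (.step [8, 18, 10, 17, 20] (.step [10, 20, 15, 16] .fail)))),
  (12, .fail),
  (1, (.step [7, 9, 10, 17, 0] (.step [8, 13, 16, 8, 20] .fail))),
  (1, (.step [0, 11, 19, 7, 12] .fail)),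
  (5, .fail),
  (1, (.step [0, 13, 20, 16, 9] .fail)),
  (20, .fail),
  (1, (.step [0, 16, 20, 16, 9] (.step [8, 16, 20, 21, 8, 10, 12] (.step [10, 11, 20, 10] .fail)))),
  (13, .fail),
  (1, (.step [0, 9, 17, 20, 0, 13] .fail)),
  (26, .fail),
  (1, (.step [0, 9, 11, 7, 21] .fail)),
  (13, .fail),
  (1, (.step [7, 12, 13, 17, 2] (.step [8, 16, 18, 10, 20, 16] .fail))),
  (2, .fail),
  (1, (.step [0, 2, 9, 19, 20, 18] (.step [8, 15, 18, 21, 10] .fail))),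
  (2, .fail),
  (1, (.step [0, 17, 7, 9, 10] .fail)),
  (3, .fail),
  (1, (.step [0, 9, 20, 16, 7] (.step [8, 16, 20, 21, 8, 10, 18] .fail))),
  (1, (.step [0, 16, 2, 8, 21] .fail)),
  (1, (.step [7, 12, 17, 21] .fail)),
  (3, .fail),
  (1, (.step [0, 13, 8, 15, 17] .fail)),
  (3, .fail),
  (1, (.step [0, 15, 7, 18, 20] .fail)),
  (6, .fail),
  (1, (.step [0, 7, 16, 0, 19, 9] .fail)),
  (3, .fail),
  (1, (.step [0, 16, 19, 0] .fail)),
  (20, .fail),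
  (1, (.step [2, 12, 10, 18] (.step [8, 13, 21, 10, 17, 20] .fail))),
  (4, .fail),
  (1, (.step [2, 9, 16, 2] .fail)),
  (3, .fail),
  (1, (.step [7, 9, 16, 2, 9] .fail)),
  (13, .fail),
  (1, (.step [0, 11, 15, 2, 21] .fail)),
  (1, .fail),
  (1, (.step [7, 13, 14, 19] .fail)),
  (3, .fail),
  (1, (.step [9, 17, 7] (.step [8, 13, 18, 20, 19, 10] .fail))),
  (9, .fail),
  (1, (.step [9, 10, 14, 20] .fail)),
  (21, .fail),
  (1, (.step [2, 12, 15, 20, 18] (.step [] .fail))),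
  (19, .fail),
  (1, (.step [7, 9, 21, 2] .fail)),
  (11, .fail),
  (1, (.step [0, 11, 15, 2, 17] .fail)),
  (6, .fail),
  (1, (.step [9, 19, 20, 18] .fail)),
  (1, .fail),
  (1, (.step [0, 7, 17, 2, 14, 7] .fail)),
  (2, .fail),
  (1, (.step [0, 19, 9, 10, 9] .fail)),
  (11, .fail),
  (1, (.step [7, 12, 16, 18] (.step [8, 13, 18, 10, 11] .fail))),
  (9, .fail),
  (1, (.step [0, 11, 17, 0] (.step [8, 13, 21, 8, 10, 20] (.step [10, 11, 19, 20, 19] (.step [20, 11, 12, 16, 19, 20] (.step [11, 12, 11, 21, 20, 16, 19, 20, 10, 20, 15, 16, 8, 18, 10, 19, 20, 18, 0, 4, 6, 12, 20, 18, 14, 19, 18, 7, 6, 1, 21] (.step [14, 18, 11, 21, 20, 16, 19, 20, 10, 20, 15, 16, 8, 18, 10, 19, 20, 18, 0, 4, 6, 12, 20, 18, 14, 19, 18, 7, 6, 1] (.step [] (.step [17] (.step [16] (.done [3, 0, 2, 8, 9, 5, 4, 6, 8, 7, 1, 3, 0, 2, 8, 9, 5, 4, 6, 8, 7, 1, 3, 0, 2, 8, 9, 5, 4, 6, 8, 7, 1]))))))))))),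
  (13, .fail),
  (1, (.step [0, 2, 15, 8] .fail)),
  (2, .fail),
  (1, (.step [2, 17, 10, 20, 12] .fail)),
  (9, .fail),
  (1, (.step [0, 9, 17, 0, 13, 20] (.step [8, 15, 18, 20, 15, 21] .fail))),
  (11, .fail),
  (1, (.step [0, 9, 8, 10, 9] .fail)),
  (3, .fail),
  (1, (.step [0, 9, 13, 19, 0] (.step [8, 15, 16, 20, 10, 21] (.step [10, 11, 17, 20, 19] (.step [20, 11, 19] (.step [11, 11, 21, 20, 16, 19, 20, 10, 20, 15, 16, 8, 18, 10, 19, 20, 18, 0, 4, 6, 12, 20, 18, 14, 19, 18, 7, 6, 1, 15] (.step [19] .fail))))))),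
  (1, (.step [7, 9, 17, 0, 7] .fail)),
  (1, (.step [0, 9, 10, 12, 7] (.step [8, 16, 18, 10, 20, 11] .fail))),
  (15, .fail),
  (1, (.step [0, 15, 17, 2, 20] .fail)),
  (1, .fail),
  (1, (.step [0, 7, 21, 2, 16] (.step [8, 18, 10, 21, 10] .fail))),
  (1, .fail),
  (1, (.step [7, 14, 18, 20] (.step [8, 18, 10, 20] .fail))),
  (2, .fail),
  (1, (.step [7, 11, 16, 8] .fail)),
  (3, .fail),
  (1, (.step [7, 11, 20, 15] (.step [8, 15, 16, 21, 10, 20] .fail))),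
  (4, .fail),
  (1, (.step [2, 7, 21, 7] .fail)),
  (9, .fail),
  (1, (.step [7, 17, 19, 9] .fail)),
  (2, .fail),
  (1, (.step [7, 21, 2, 8] .fail)),
  (1, (.step [7, 13, 8, 14, 17] .fail)),
  (23, .fail),
  (1, (.step [0, 20, 16, 0, 11] (.step [8, 13, 18, 8, 20, 19] .fail))),
  (1, .fail),
  (1, (.step [2, 7, 20, 11, 15] .fail)),
  (29, .fail),
  (1, (.step [0, 9, 11, 7, 20] .fail)),
  (1, .fail),
  (1, (.step [7, 9, 17, 9, 16] .fail)),
  (2, .fail),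
  (1, (.step [0, 9, 19, 20] .fail)),
  (1, (.step [7, 9, 16, 7, 9] .fail)),
  (7, .fail),
  (1, (.step [0, 11, 14, 7, 15] .fail)),
  (1, .fail),
  (1, (.step [2, 9, 12] (.step [8, 16, 20, 21, 8, 10, 18] .fail))),
  (28, .fail),
  (1, (.step [9, 8, 19] .fail)),
  (1, (.step [0, 13, 16, 7, 17] (.step [8, 13, 15, 8, 20, 12, 10, 15] .fail))),
  (4, .fail),
  (1, (.step [0, 7, 9, 16, 9] .fail)),
  (24, .fail),
  (1, (.step [0, 2, 19, 9, 8] .fail)),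
  (33, .fail),
  (1, (.step [7, 13, 14, 17, 9] .fail)),
  (5, .fail),
  (1, (.step [0, 9, 8, 11, 7] .fail)),
  (8, .fail),
  (1, (.step [0, 2, 9, 12, 17, 18] .fail)),
  (25, .fail),
  (1, (.step [2, 7, 11, 10, 17] .fail)),
  (1, (.step [0, 7, 11, 0] .fail)),
  (1, (.step [0, 2, 20, 21, 10, 12] (.step [8, 13, 18, 10, 12] .fail))),
  (1, .fail),
  (1, (.step [0, 7, 16, 9] .fail)),
  (4, .fail),
  (1, (.step [7, 14, 16] .fail)),
  (6, .fail),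
  (1, (.step [9, 16, 7, 12] .fail)),
  (1, (.step [2, 9, 16, 2, 15] (.step [8, 18, 10, 19, 20] .fail))),
  (1, (.step [0, 2, 15, 2, 20, 16] .fail)),
  (5, .fail),
  (1, (.step [0, 11, 13, 7, 12] .fail)),
  (6, .fail),
  (1, (.step [2, 7, 11, 10, 17] .fail)),
  (2, .fail),
  (1, (.step [0, 17, 10] .fail)),
  (2, .fail),
  (1, (.step [7, 17, 0] .fail)),
  (6, .fail),
  (1, (.step [2, 15, 20, 18] .fail)),
  (4, .fail),
  (1, (.step [2, 21, 7, 8, 20] .fail)),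
  (4, .fail),
  (1, (.step [9, 17, 2, 10] .fail)),
  (11, .fail),
  (1, (.step [2, 9, 10, 21, 2] .fail)),
  (4, .fail),
  (1, (.step [7, 11, 19, 21] .fail)),
  (5, .fail),
  (1, (.step [7, 12, 14, 17, 9] (.step [8, 13, 18, 20, 12] .fail))),
  (1, (.step [0, 17, 7, 20] .fail)),
  (4, .fail),
  (1, (.step [2, 7, 9, 17] .fail)),
  (1, .fail),
  (1, (.step [7, 9, 18] (.step [8, 15, 16, 8] .fail))),
  (1, .fail),
  (1, (.step [0, 2, 13, 15] .fail)),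
  (8, .fail),
  (1, (.step [9, 10, 16] .fail)),
  (4, .fail),
  (1, (.step [0, 9, 11, 13, 0] .fail)),
  (7, .fail),
  (1, (.step [2, 12, 10, 16] .fail)),
  (8, .fail),
  (1, (.step [7, 14, 16, 17, 9] (.step [8, 13, 21] .fail))),
  (1, (.step [7, 9, 11, 15, 8] .fail)),
  (7, .fail),
  (1, (.step [7, 17, 2, 9] .fail)),
  (4, .fail),
  (1, (.step [0, 16, 17, 0, 7] (.step [8, 13, 15, 20, 10, 12, 16] (.step [10, 19, 21, 10, 20] .fail)))),
  (17, .fail),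
  (1, (.step [2, 7, 19, 10] .fail)),
  (3, .fail),
  (1, (.step [0, 11, 13, 7, 12] (.step [8] (.step [10, 11, 12, 18, 20, 19] .fail)))),
  (31, .fail),
  (1, (.step [0, 9, 18, 7, 12] .fail)),
  (6, .fail),
  (1, (.step [0, 11, 10, 14] (.step [8, 13, 15, 16, 21, 8] (.step [10, 18, 19, 20, 11] .fail)))),
  (6, .fail),
  (1, (.step [7, 15, 17, 19, 7] .fail)),
  (18, .fail),
  (1, (.step [2, 16, 7, 20, 10] .fail)),
  (1, (.step [2, 16, 9, 18] .fail)),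
  (12, .fail),
  (1, (.step [2, 17, 7, 19, 10] .fail)),
  (7, .fail),
  (1, (.step [9, 10, 19, 20] .fail)),
  (1, (.step [9, 10, 14, 17] .fail)),
  (20, .fail),
  (1, (.step [0, 15, 19, 20, 19] (.step [8, 21, 10, 19] .fail))),
  (3, .fail),
  (1, (.step [9, 16, 17, 19] .fail)),
  (2, .fail),
  (1, (.step [0, 13, 15, 20, 16] (.step [8, 13, 16, 18, 20, 10, 17] .fail))),
  (1, (.step [0, 19, 10, 18, 8] .fail)),
  (3, .fail),
  (1, (.step [0, 11, 15, 17, 20] (.step [8, 18, 10, 20, 10] .fail))),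
  (9, .fail),
  (1, (.step [0, 15, 7] .fail)),
  (10, .fail),
  (1, (.step [7, 15, 0, 8, 9] .fail)),
  (2, .fail),
  (1, (.step [0, 9, 8, 10, 12] .fail)),
  (8, .fail),
  (1, (.step [9, 8, 18, 20] .fail)),
  (3, .fail),
  (1, (.step [7, 11, 12, 18] .fail)),
  (19, .fail),
  (1, (.step [0, 2, 12, 16, 9] .fail)),
  (1, (.step [0, 16, 19] .fail)),
  (2, .fail),
  (1, (.step [7, 11, 17] .fail)),
  (16, .fail),
  (1, (.step [2, 12, 10, 11] (.step [8, 16, 20] .fail))),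
  (9, .fail),
  (1, (.step [7, 18, 9, 8] .fail)),
  (8, .fail),
  (1, (.step [7, 16, 19, 9] .fail)),
  (4, .fail),
  (1, (.step [0, 2, 7, 15, 7, 13] (.step [8, 13, 18, 8, 20, 19] .fail))),
  (6, .fail),
  (1, (.step [2, 9, 17, 7, 15] .fail)),
  (5, .fail),
  (1, (.step [7, 18, 19, 9, 8] .fail)),
  (10, .fail),
  (1, (.step [2, 21, 10, 11] .fail)),
  (1, (.step [7, 11, 17, 7, 9] .fail)),
  (7, .fail),
  (1, (.step [2, 16, 20, 21, 10] .fail)),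
  (16, .fail),
  (1, (.step [2, 17, 9, 10] .fail)),
  (59, .fail),
  (1, (.step [2, 14, 15, 7] .fail)),
  (6, .fail),
  (1, (.step [0, 19, 9, 18] (.step [8, 15, 18, 20, 18, 10] .fail))),
  (3, .fail),
  (1, (.step [0, 9, 8, 19, 0] .fail)),
  (13, .fail),
  (1, (.step [0, 2, 19, 9] .fail)),
  (1, (.step [0, 2, 9, 11, 13] .fail)),
  (28, .fail),
  (1, (.step [7, 11, 12, 16, 21] .fail)),
  (5, .fail),
  (1, (.step [2, 16, 20, 7] .fail)),
  (9, .fail),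
  (1, (.step [0, 2, 19] (.step [8, 18, 10, 17] .fail))),
  (1, .fail),
  (1, (.step [7, 12, 15, 0, 7] .fail)),
  (3, .fail),
  (1, (.step [0, 2, 16, 2, 20] .fail)),
  (14, .fail),
  (1, (.step [7, 13, 21, 2] .fail)),
  (18, .fail),
  (1, (.step [0, 11, 7, 18] .fail)),
  (10, .fail),
  (1, (.step [2, 21, 7, 11, 15] .fail)),
  (16, .fail),
  (1, (.step [0, 11, 16, 2] .fail)),
  (2, .fail),
  (1, (.step [0, 2, 16, 20, 7] .fail)),
  (3, .fail),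
  (1, (.step [0, 9, 18, 20, 12] .fail)),
  (4, .fail),
  (1, (.step [2, 17, 21, 8] .fail)),
  (2, .fail),
  (1, (.step [0, 16, 19, 7, 20] .fail)),
  (18, .fail),
  (1, (.step [0, 15, 8, 13, 19] (.step [8, 13, 18, 8, 10, 12] .fail))),
  (7, .fail),
  (1, (.step [7, 9, 8, 11] (.step [8, 13, 18, 8, 10, 11, 18, 20] .fail))),
  (1, .fail),
  (1, (.step [7, 11, 10, 17] .fail)),
  (1, (.step [0, 11, 10, 12, 13] .fail)),
  (1, .fail),
  (1, (.step [7, 18, 21] .fail)),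
  (1, .fail),
  (1, (.step [0, 9, 8, 17, 9] .fail)),
  (5, .fail),
  (1, (.step [7, 15, 0, 8] .fail)),
  (7, .fail),
  (1, (.step [2, 9, 12, 16, 2] .fail)),
  (4, .fail),
  (1, (.step [0, 17, 10, 9] .fail)),
  (2, .fail),
  (1, (.step [0, 11, 7, 13] .fail)),
  (6, .fail),
  (1, (.step [0, 17, 10, 20, 18] .fail)),
  (5, .fail),
  (1, (.step [2, 7, 9, 14, 21] .fail)),
  (1, .fail),
  (1, (.step [7, 13, 18] .fail)),
  (5, .fail),
  (1, (.step [2, 16, 9, 10, 21] .fail)),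
  (11, .fail),
  (1, (.step [0, 2, 15, 0, 17, 20] .fail)),
  (15, .fail),
  (1, (.step [0, 16, 20, 7, 11] .fail)),
  (2, .fail),
  (1, (.step [9, 10, 17, 7] .fail)),
  (1, .fail),
  (1, (.step [0, 7, 9, 16, 0] .fail)),
  (26, .fail),
  (1, (.step [0, 7, 17, 7, 20] .fail)),
  (6, .fail),
  (1, (.step [0, 9, 8, 10, 16, 20] .fail)),
  (1, .fail),
  (1, (.step [0, 7, 15, 16, 9] .fail)),
  (6, .fail),
  (1, (.step [0, 13, 15, 0, 8] .fail)),
  (1, (.step [7, 16, 17, 9, 10] .fail)),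
  (6, .fail),
  (1, (.step [2, 9, 8, 16, 20] .fail)),
  (1, (.step [2, 9, 8] .fail)),
  (3, .fail),
  (1, (.step [0, 16, 2, 21] .fail)),
  (4, .fail),
  (1, (.step [2, 9, 19, 20] .fail)),
  (15, .fail),
  (1, (.step [9, 8, 18, 8] .fail)),
  (4, .fail),
  (1, (.step [7, 21, 10] .fail)),
  (9, .fail),
  (1, (.step [0, 2, 7, 18] .fail)),
  (3, .fail),
  (1, (.step [2, 12, 16, 20, 7] .fail)),
  (5, .fail),
  (1, (.step [0, 15, 20, 12] .fail)),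
  (6, .fail),
  (1, (.step [0, 11, 14] .fail)),
  (10, .fail),
  (1, (.step [0, 9, 17, 10, 11] .fail)),
  (1, (.step [7, 11, 21, 8] .fail)),
  (4, .fail),
  (1, (.step [7, 13, 19, 0, 11] .fail)),
  (7, .fail),
  (1, (.step [7, 12, 10] .fail)),
  (2, .fail),
  (1, (.step [0, 13, 16, 20, 16] .fail)),
  (1, .fail),
  (1, (.step [7, 15, 8, 17] .fail)),
  (4, .fail),
  (1, (.step [0, 16, 20, 7, 13] (.step [8, 13, 16, 18, 21, 8] .fail))),
  (2, .fail),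
  (1, (.step [0, 7, 9, 21, 2] .fail)),
  (5, .fail),
  (1, (.step [0, 14, 20, 10, 17] .fail)),
  (11, .fail),
  (1, (.step [0, 2, 9, 17, 20] .fail)),
  (4, .fail),
  (1, (.step [0, 13, 19, 7, 11] .fail)),
  (3, .fail),
  (1, (.step [7, 14, 17, 9, 16] .fail)),
  (9, .fail),
  (1, (.step [0, 2, 12, 19, 10] .fail)),
  (1, .fail),
  (1, (.step [0, 13, 17, 20] .fail)),
  (7, .fail),
  (1, (.step [0, 9, 15, 2] (.step [8, 15, 16, 20, 10, 12, 16] .fail))),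
  (4, .fail),
  (1, (.step [0, 9, 8] .fail)),
  (1, .fail),
  (1, (.step [2, 9, 10, 19, 0] .fail)),
  (1, (.step [7, 17, 10] .fail)),
  (3, .fail),
  (1, (.step [2, 16, 7, 15] .fail)),
  (7, .fail),
  (1, (.step [0, 16, 19, 7, 18] .fail)),
  (7, .fail),
  (1, (.step [0, 20, 15, 8] .fail)),
  (8, .fail),
  (1, (.step [2, 9, 8, 17, 2] .fail)),
  (27, .fail),
  (1, (.step [0, 11, 19, 10, 18] (.step [8, 13, 15, 8, 20, 16] (.step [10, 11, 12, 10, 20, 18] (.step [20, 18, 19] (.step [11, 1, 6, 7, 18, 19, 14, 18, 20, 12, 6, 4, 0, 18, 20, 19, 10, 18, 8, 16, 15, 20, 10, 20, 19, 16, 20, 21, 11] (.step [18, 1, 6, 7, 18, 19, 14, 18, 20, 12, 6, 4, 0, 18, 20, 19, 10, 18, 8, 16, 15, 20, 10, 20, 19, 16, 20, 21, 11] (.step [] (.step [] (.step [16] (.done [3, 0, 2, 8, 9, 5, 4, 6, 8, 7, 1, 3, 0, 2, 8, 9, 5, 4, 6, 8, 7, 1, 3, 0, 2, 8, 9, 5, 4, 6, 8, 7, 1, 3, 0, 2, 8, 9, 5, 4, 6, 8, 7, 1, 3, 0, 2,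 8, 9, 5, 4, 6, 8, 7, 1, 3, 0, 2, 8, 9, 5, 4, 6, 8, 7, 1, 3, 0, 2, 8, 9, 5, 4, 6, 8, 7, 1, 3, 0, 2, 8, 9, 5, 4, 6, 8, 7, 1, 3, 0, 2, 8, 9, 5, 4, 6, 8, 7, 1, 3, 0, 2, 8, 9, 5, 4, 6, 8, 7, 1]))))))))))),
  (5, .fail),
  (1, (.step [0, 9, 17, 20, 7] .fail)),
  (27, .fail),
  (1, (.step [0, 7, 11, 15] .fail)),
  (7, .fail),
  (1, (.step [2, 17, 21, 8] .fail)),
  (11, .fail),
  (1, (.step [9, 8, 15, 21] (.step [8, 13, 18, 21, 10, 17] .fail))),
  (1, (.step [2, 7, 9, 11, 0] .fail)),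
  (16, .fail),
  (1, (.step [0, 9, 18, 8, 13] .fail)),
  (4, .fail),
  (1, (.step [0, 2, 9, 13, 15] (.step [8, 16, 18, 20, 10, 11] .fail))),
  (2, .fail),
  (1, (.step [2, 12, 20, 18, 7] .fail)),
  (2, .fail),
  (1, (.step [0, 13, 14, 20, 10] .fail)),
  (15, .fail),
  (1, (.step [0, 2, 7, 14] .fail)),
  (3, .fail),
  (1, (.step [0, 7, 15, 16, 9] (.step [8, 13, 15, 8, 20, 10, 16, 17] (.step [10, 12, 20, 16] (.step [20, 11, 15] (.step [15, 1, 6, 7, 18, 19, 14, 18, 20, 12, 6, 4, 0, 18, 20, 19, 10, 18, 8, 16, 15, 20, 10, 20, 19, 16, 20, 21, 11] (.step [14, 18, 19] .fail))))))),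
  (2, .fail),
  (1, (.step [7, 15, 0, 21] .fail)),
  (3, .fail),
  (1, (.step [2, 12, 17, 21] .fail)),
  (43, .fail),
  (1, (.step [0, 7, 11, 15, 20] .fail)),
  (3, .fail),
  (1, (.step [0, 16, 19, 7, 15] .fail)),
  (1, (.step [7, 12, 17, 7] .fail)),
  (8, .fail),
  (1, (.step [0, 13, 16, 7, 8] .fail)),
  (2, .fail),
  (1, (.step [0, 16, 20, 0, 11] .fail)),
  (3, .fail),
  (1, (.step [7, 12, 13, 16] .fail)),
  (8, .fail),
  (1, (.step [0, 2, 20, 10, 16] .fail)),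
  (1, (.step [0, 9, 11, 19, 7] .fail)),
  (7, .fail),
  (1, (.step [7, 13, 8, 16, 7] .fail)),
  (5, .fail),
  (1, (.step [2, 12, 20] .fail)),
  (2, .fail),
  (1, (.step [7, 11, 20, 15] .fail)),
  (1, .fail),
  (1, (.step [0, 2, 7, 21, 10, 12] .fail)),
  (1, (.step [0, 9, 10, 12] .fail)),
  (8, .fail),
  (1, (.step [0, 7, 11, 21, 10] .fail)),
  (13, .fail),
  (1, (.step [2, 21, 8, 15] .fail)),
  (20, .fail),
  (1, (.step [7, 19, 21, 8, 9] .fail)),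
  (42, .fail),
  (1, (.step [7, 12, 13, 16, 18] .fail)),
  (10, .fail),
  (1, (.step [0, 2, 9, 12, 17, 10] .fail)),
  (4, .fail),
  (1, (.step [0, 13, 16] .fail)),
  (4, .fail),
  (1, (.step [7, 17, 0, 20] .fail)),
  (13, .fail),
  (1, (.step [0, 7, 12, 18, 8, 13] .fail)),
  (1, (.step [7, 14, 19, 21] .fail)),
  (1, (.step [0, 11, 7, 10, 21, 10] .fail)),
  (12, .fail),
  (1, (.step [0, 2, 9, 13, 8] .fail)),
  (5, .fail),
  (1, (.step [0, 9, 11, 17, 2] .fail)),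
  (3, .fail),
  (1, (.step [0, 2, 9, 8, 19, 20] .fail)),
  (3, .fail),
  (1, (.step [0, 7, 9, 12] (.step [8, 16, 20, 10, 12] (.step [10, 20, 11, 12, 10] .fail)))),
  (4, .fail),
  (1, (.step [0, 9, 8, 17, 10] .fail)),
  (2, .fail),
  (1, (.step [2, 16, 0, 13] (.step [8, 18, 10, 21, 10] .fail))),
  (15, .fail),
  (1, (.step [7, 16, 19, 10, 11] .fail)),
  (1, (.step [7, 11, 16, 21, 8] .fail)),
  (3, .fail),
  (1, (.step [0, 15, 8, 16, 19] .fail)),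
  (3, .fail),
  (1, (.step [2, 14, 17, 7, 12] .fail)),
  (2, .fail),
  (1, (.step [0, 16, 19, 0, 20] .fail)),
  (1, .fail),
  (1, (.step [0, 16, 19, 0, 20] .fail)),
  (5, .fail),
  (1, (.step [0, 2, 9, 18, 7, 17] .fail)),
  (3, .fail),
  (1, (.step [0, 2, 9, 13] .fail)),
  (9, .fail),
  (1, (.step [7, 9, 17, 10] (.step [8, 13, 16, 8, 20, 10, 12] .fail))),
  (53, .fail),
  (1, (.step [0, 9, 15, 20, 18] (.step [8, 16, 20, 19] .fail))),
  (8, .fail),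
  (1, (.step [7, 19, 21, 7, 20] .fail)),
  (6, .fail),
  (1, (.step [2, 12, 16, 8, 9] (.step [8, 13, 16, 20, 10, 11, 21] .fail))),
  (19, .fail),
  (1, (.step [0, 2, 13, 8, 15, 7] .fail)),
  (8, .fail),
  (1, (.step [2, 9, 18, 20, 10] .fail)),
  (1, (.step [7, 11, 10, 21, 7] .fail)),
  (6, .fail)])

/-- a piece of a certificate -/
noncomputable def cCp_8 : Cert := (Cert.rl [(6, .fail),
  (1, (.step [0, 14] .fail)),
  (1, .fail),
  (1, (.step [0, 2, 11, 10, 16, 8] .fail)),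
  (3, .fail),
  (1, (.step [0, 13, 17, 10, 11] .fail)),
  (10, .fail),
  (1, (.step [0, 9, 15, 20, 0] .fail)),
  (5, .fail),
  (1, (.step [0, 2, 15, 19, 9, 18] .fail)),
  (3, .fail),
  (1, (.step [0, 14, 20, 10, 18] .fail)),
  (8, .fail),
  (1, (.step [2, 9, 12, 17, 2] .fail)),
  (3, .fail),
  (1, (.step [2, 21, 10, 9, 14] .fail)),
  (5, .fail),
  (1, (.step [7, 11, 10, 15] .fail)),
  (15, .fail),
  (1, (.step [7, 9, 16, 0, 13] (.step [8, 15, 16, 18, 21] .fail))),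
  (1, (.step [0, 2, 21, 7, 19] (.step [8, 16, 18, 10, 20] .fail))),
  (1, (.step [2, 17, 7, 10, 19] .fail)),
  (18, .fail),
  (1, (.step [2, 9, 21, 7, 11] .fail)),
  (6, .fail),
  (1, (.step [0, 7, 16, 9, 21] .fail)),
  (10, .fail),
  (1, (.step [0, 16, 20, 18] .fail)),
  (9, .fail),
  (1, (.step [2, 9, 8, 17, 19] (.step [8, 15, 20, 11, 10, 17] .fail))),
  (7, .fail),
  (1, (.step [7, 13, 17] .fail)),
  (2, .fail),
  (1, (.step [7, 12, 16, 19] .fail)),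
  (8, .fail),
  (1, (.step [9, 17, 18, 8, 10] .fail)),
  (12, .fail),
  (1, (.step [2, 14, 21, 7] .fail)),
  (19, .fail),
  (1, (.step [7, 12, 10, 21] .fail)),
  (1, (.step [9, 19, 0, 10] .fail)),
  (1, .fail),
  (1, (.step [0, 9, 18, 7, 8] .fail)),
  (24, .fail),
  (1, (.step [0, 11, 16, 19, 10] .fail)),
  (14, .fail),
  (1, (.step [7, 12, 14, 19] .fail)),
  (53, .fail),
  (1, (.step [9, 19, 20] (.step [8, 13, 16, 20, 18, 10, 11] .fail))),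
  (1, .fail),
  (1, (.step [0, 9, 10, 17, 10] (.step [8, 13, 16, 8, 20, 19] .fail))),
  (9, .fail),
  (1, (.step [0, 13, 16, 2] .fail)),
  (1, (.step [0, 7, 12, 17, 7, 20] .fail)),
  (3, .fail),
  (1, (.step [7, 15] .fail)),
  (8, .fail),
  (1, (.step [7, 16, 19, 10] .fail)),
  (3, .fail),
  (1, (.step [0, 7, 18, 8, 20] .fail)),
  (12, .fail),
  (1, (.step [2, 12, 17, 7, 15] (.step [8, 15, 20, 11, 10] .fail))),
  (1, (.step [0, 16, 20, 7, 11] .fail)),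
  (3, .fail),
  (1, (.step [0, 7, 16, 7] .fail)),
  (13, .fail),
  (1, (.step [0, 11, 16, 0, 8] .fail)),
  (3, .fail),
  (1, (.step [7, 9, 16, 7, 13] .fail)),
  (9, .fail),
  (1, (.step [0, 16, 19, 10, 11] .fail)),
  (22, .fail),
  (1, (.step [7, 9, 10, 17, 0] .fail)),
  (2, .fail),
  (1, (.step [0, 2, 13, 15] .fail)),
  (21, .fail),
  (1, (.step [0, 9, 18, 7, 20] .fail)),
  (3, .fail),
  (1, (.step [0, 2, 11, 19, 20] .fail)),
  (15, .fail),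
  (1, (.step [0, 2, 15, 7, 21] .fail)),
  (2, .fail),
  (1, (.step [0, 7, 9, 12, 20] .fail)),
  (5, .fail),
  (1, (.step [0, 2, 11, 10, 19] .fail)),
  (9, .fail),
  (1, (.step [0, 2, 21, 8] .fail)),
  (32, .fail),
  (1, (.step [2, 7, 17, 20] .fail)),
  (3, .fail),
  (1, (.step [2, 12, 10, 14] .fail)),
  (1, (.step [2, 15, 21, 8, 13] .fail)),
  (4, .fail),
  (1, (.step [9, 19, 20, 10] .fail)),
  (1, (.step [0, 14, 20, 7, 16] (.step [8, 13, 15, 20, 10, 11, 16] .fail))),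
  (42, .fail),
  (1, (.step [0, 20, 16, 18] .fail)),
  (8, .fail),
  (1, (.step [0, 15, 2, 21, 7] .fail)),
  (1, .fail),
  (1, (.step [0, 16, 2, 17, 10] .fail)),
  (1, (.step [0, 2, 16, 2, 21] .fail)),
  (5, .fail),
  (1, (.step [0, 2, 9, 17, 18, 8] .fail)),
  (5, .fail),
  (1, (.step [0, 11, 7, 18, 8, 19] .fail)),
  (11, .fail),
  (1, (.step [7, 18, 20, 16] .fail)),
  (1, (.step [0, 2, 20, 18, 10, 17] (.step [8, 13, 16, 20, 10, 21, 8] .fail))),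
  (1, .fail),
  (1, (.step [0, 11, 19, 9, 8] (.step [8, 15, 18, 20, 18, 10, 19] .fail))),
  (15, .fail),
  (1, (.step [7, 11, 13, 15, 7] .fail)),
  (12, .fail),
  (1, (.step [0, 7, 9, 8, 15] (.step [8, 13, 18, 10, 12] .fail))),
  (1, (.step [0, 15, 2, 7, 8] .fail)),
  (3, .fail),
  (1, (.step [9, 18, 7, 19] .fail)),
  (2, .fail),
  (1, (.step [0, 11, 16, 19, 10] (.step [8, 13, 15, 18, 20, 19] .fail))),
  (8, .fail),
  (1, (.step [0, 15, 8, 16, 9] .fail)),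
  (2, .fail),
  (1, (.step [0, 14, 20, 7, 17] (.step [8, 13, 18, 10, 17, 20] .fail))),
  (3, .fail),
  (1, (.step [7, 9, 16, 7] .fail)),
  (1, .fail),
  (1, (.step [2, 16, 20, 18] .fail)),
  (3, .fail),
  (1, (.step [0, 11, 7, 10, 19] .fail)),
  (1, (.step [9, 16, 20, 7] .fail)),
  (1, (.step [2, 9, 16, 18] .fail)),
  (2, .fail),
  (1, (.step [0, 16, 2, 21, 10] .fail)),
  (3, .fail),
  (1, (.step [7, 12, 13, 19] (.step [8, 15, 16, 8, 20] .fail))),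
  (1, .fail),
  (1, (.step [0, 13, 15, 2, 12] .fail)),
  (1, (.step [0, 16, 7, 20] (.step [8, 13, 15, 16, 18, 10] .fail))),
  (6, .fail),
  (1, (.step [9, 18, 8] .fail)),
  (1, .fail),
  (1, (.step [0, 13, 17, 10] .fail)),
  (2, .fail),
  (1, (.step [0, 2, 9, 8, 19, 10] .fail)),
  (2, .fail),
  (1, (.step [7, 13, 16, 8] .fail)),
  (12, .fail),
  (1, (.step [0, 16, 7, 8] .fail)),
  (1, .fail),
  (1, (.step [9, 10, 12, 14] .fail)),
  (12, .fail),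
  (1, (.step [0, 9, 20, 19, 7] (.step [8, 18, 10, 17, 20, 16] .fail))),
  (1, (.step [2, 15, 20, 12, 7] .fail)),
  (9, .fail),
  (1, (.step [0, 20, 10] (.step [8, 13, 18, 8, 20] .fail))),
  (1, .fail),
  (1, (.step [2, 17, 9] .fail)),
  (10, .fail),
  (1, (.step [0, 11, 19, 7, 13] .fail)),
  (9, .fail),
  (1, (.step [9, 19, 20, 10] (.step [8, 18, 10, 17, 20, 16, 8] .fail))),
  (33, .fail),
  (1, (.step [7, 12, 10, 14, 16] .fail)),
  (15, .fail),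
  (1, (.step [0, 2, 20, 10, 9] .fail)),
  (1, (.step [9, 16, 8, 9, 18] .fail)),
  (42, .fail),
  (1, (.step [2, 12, 16, 20, 7] .fail)),
  (2, .fail),
  (1, (.step [7, 20, 18, 7, 17] (.step [8, 13, 18, 10, 20, 12, 19] .fail))),
  (5, .fail),
  (1, (.step [0, 20, 10] .fail)),
  (2, .fail),
  (1, (.step [0, 2, 15, 20, 15, 0] (.step [8, 13, 16, 20, 10, 12, 10] .fail))),
  (10, .fail),
  (1, (.step [9, 8, 16, 7] (.step [8, 18, 10, 21, 10] .fail))),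
  (6, .fail),
  (1, (.step [7, 11, 14, 21] .fail)),
  (12, .fail),
  (1, (.step [9, 17, 19, 7] .fail)),
  (5, .fail),
  (1, (.step [9, 17, 18, 20] .fail)),
  (2, .fail),
  (1, (.step [0, 16, 17, 7, 10] .fail)),
  (1, (.step [0, 9, 8] .fail)),
  (1, (.step [0, 2, 9, 14, 20] .fail)),
  (1, .fail),
  (1, (.step [2, 17, 9, 10] .fail)),
  (5, .fail),
  (1, (.step [0, 20, 10, 17] (.step [8, 13, 21, 8, 10, 12] .fail))),
  (2, .fail),
  (1, (.step [0, 9, 15, 2, 18] .fail)),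
  (12, .fail),
  (1, (.step [7, 11, 17, 21, 8] .fail)),
  (19, .fail),
  (1, (.step [0, 2, 9, 11, 13, 17] (.step [8, 18, 10, 19] .fail))),
  (9, .fail),
  (1, (.step [9, 8, 15, 20, 12] .fail)),
  (9, .fail),
  (1, (.step [0, 9, 10, 17, 19] .fail)),
  (7, .fail),
  (1, (.step [0, 2, 19, 10, 20, 7] .fail)),
  (9, .fail),
  (1, (.step [0, 7, 12, 10, 21] .fail)),
  (3, .fail),
  (1, (.step [0, 13, 19, 9, 16] .fail)),
  (22, .fail),
  (1, (.step [7, 21, 8, 13] .fail)),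
  (5, .fail),
  (1, (.step [7, 12, 16, 20, 10] (.step [8, 13, 16, 20, 10, 11, 21] (.step [10, 17, 18, 10] .fail)))),
  (18, .fail),
  (1, (.step [0, 7, 12, 10, 17] (.step [8, 18, 20, 12, 10, 17] .fail))),
  (1, (.step [0, 7, 15, 2, 8] .fail)),
  (16, .fail),
  (1, (.step [0, 16, 17, 9, 18] .fail)),
  (42, .fail),
  (1, (.step [0, 7, 11, 20, 10] .fail)),
  (2, .fail),
  (1, (.step [2, 17, 9, 21] .fail)),
  (18, .fail),
  (1, (.step [0, 2, 7, 11, 18] .fail)),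
  (4, .fail),
  (1, (.step [9, 17, 0, 7] .fail)),
  (13, .fail),
  (1, (.step [9, 14, 19] .fail)),
  (1, .fail),
  (1, (.step [0, 15, 19, 10, 11] .fail)),
  (1, (.step [0, 16, 17, 20, 7, 18] .fail)),
  (6, .fail),
  (1, (.step [2, 17, 9, 8, 13] .fail)),
  (21, .fail),
  (1, (.step [0, 17, 7, 20, 15, 8] (.step [8, 15, 16, 20, 10, 15] .fail))),
  (9, .fail),
  (1, (.step [2, 12, 20, 10] .fail)),
  (3, .fail),
  (1, (.step [0, 20, 15, 7] (.step [8, 16, 20, 12, 10] .fail))),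
  (10, .fail),
  (1, (.step [0, 16, 8, 15, 7] .fail)),
  (3, .fail),
  (1, (.step [7, 12, 17, 21] .fail)),
  (22, .fail),
  (1, (.step [9, 10, 20] .fail)),
  (4, .fail),
  (1, (.step [7, 11, 0, 18] .fail)),
  (8, .fail),
  (1, (.step [7, 9, 17, 7] .fail)),
  (6, .fail),
  (1, (.step [2, 7, 17, 2, 10] .fail)),
  (1, .fail),
  (1, (.step [0, 2, 20, 16] .fail)),
  (13, .fail),
  (1, (.step [7, 11, 21, 2] .fail)),
  (3, .fail),
  (1, (.step [0, 9, 17, 0, 10] (.step [8, 18, 10, 19, 20, 18] .fail))),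
  (2, .fail),
  (1, (.step [2, 7, 21, 7, 18] .fail)),
  (1, (.step [9, 14, 18, 8] .fail)),
  (3, .fail),
  (1, (.step [2, 9, 17, 7, 18] .fail)),
  (2, .fail),
  (1, (.step [7, 9, 10, 12, 16] .fail)),
  (7, .fail),
  (1, (.step [0, 7, 17, 0, 15] .fail)),
  (11, .fail),
  (1, (.step [7, 9, 11, 17, 9] .fail)),
  (9, .fail),
  (1, (.step [9, 10, 14] .fail)),
  (1, .fail),
  (1, (.step [7, 21, 8, 15, 2] .fail)),
  (29, .fail),
  (1, (.step [0, 19, 9, 10, 21] .fail)),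
  (5, .fail),
  (1, (.step [0, 19, 10, 18, 8] .fail)),
  (35, .fail),
  (1, (.step [7, 12, 18, 8] .fail)),
  (3, .fail),
  (1, (.step [0, 2, 13, 15, 8] .fail)),
  (15, .fail),
  (1, (.step [7, 11, 20, 16] .fail)),
  (6, .fail),
  (1, (.step [7, 12, 15, 17] .fail)),
  (30, .fail),
  (1, (.step [0, 20, 10] .fail)),
  (1, .fail),
  (1, (.step [0, 7, 16, 7, 19] (.step [8, 16, 18, 8, 10, 20, 16] .fail))),
  (1, (.step [9, 10, 19, 7] (.step [8, 18, 20, 10, 18] .fail))),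
  (18, .fail),
  (1, (.step [0, 2, 11, 15, 20] .fail)),
  (3, .fail),
  (1, (.step [2, 9, 8, 12, 18] .fail)),
  (1, (.step [7, 15, 16, 21, 8] .fail)),
  (19, .fail),
  (1, (.step [2, 17, 7, 15] .fail)),
  (27, .fail),
  (1, (.step [7, 13, 8, 14] (.step [8, 18, 10, 20] .fail))),
  (5, .fail),
  (1, (.step [7, 9, 18, 8] (.step [8, 15, 18, 20, 15, 21] .fail))),
  (1, (.step [0, 15, 8, 18, 20] (.step [8, 15, 20, 21, 8] .fail))),
  (1, (.step [2, 7, 17, 2, 7] .fail)),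
  (7, .fail),
  (1, (.step [7, 20, 10, 16] .fail)),
  (9, .fail),
  (1, (.step [9, 10, 14] .fail)),
  (1, (.step [0, 20, 18, 10, 9] .fail)),
  (5, .fail),
  (1, (.step [0, 13, 17, 9] .fail)),
  (2, .fail),
  (1, (.step [7, 17, 19, 7] .fail)),
  (7, .fail),
  (1, (.step [0, 7, 12, 10, 21] (.step [8, 15, 20, 11, 10, 21] (.step [10, 11, 17, 20, 16] .fail)))),
  (12, .fail),
  (1, (.step [0, 2, 16, 9, 19] .fail)),
  (1, (.step [2, 16, 0, 13] .fail)),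
  (5, .fail),
  (1, (.step [0, 15, 2, 7, 11] .fail)),
  (1, .fail),
  (1, (.step [2, 9, 16, 7, 11] .fail)),
  (8, .fail),
  (1, (.step [2, 21, 8] .fail)),
  (1, .fail),
  (1, (.step [2, 7, 21] .fail)),
  (20, .fail),
  (1, (.step [7, 12, 16, 20, 10] .fail)),
  (1, (.step [0, 13, 19, 10] .fail)),
  (1, .fail),
  (1, (.step [0, 9, 11, 7, 16] .fail)),
  (20, .fail),
  (1, (.step [7, 9, 16, 7, 13] .fail)),
  (15, .fail),
  (1, (.step [2, 9, 17, 7, 15] .fail)),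
  (3, .fail),
  (1, (.step [0, 9, 20, 19] .fail)),
  (1, .fail),
  (1, (.step [0, 11, 13, 19, 7] (.step [8, 15, 18, 8, 20] .fail))),
  (19, .fail),
  (1, (.step [2, 16, 8, 20, 11] .fail)),
  (4, .fail),
  (1, (.step [7, 9, 11, 0, 18] (.step [8, 13, 16, 20, 10, 18] .fail))),
  (2, .fail),
  (1, (.step [0, 15, 20, 0, 19] .fail)),
  (1, .fail),
  (1, (.step [0, 15, 8, 18, 20] .fail)),
  (21, .fail),
  (1, (.step [9, 10, 20, 21] .fail)),
  (7, .fail),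
  (1, (.step [9, 8, 18, 10] .fail)),
  (16, .fail),
  (1, (.step [0, 16, 8, 9, 10] .fail)),
  (3, .fail),
  (1, (.step [0, 2, 20, 16, 7] .fail)),
  (18, .fail),
  (1, (.step [0, 14, 20, 16, 2] (.step [8, 18, 10, 19] .fail))),
  (2, .fail),
  (1, (.step [0, 20, 12, 10, 19] .fail)),
  (19, .fail),
  (1, (.step [2, 16, 8, 20, 18] (.step [8, 15, 20, 10, 11, 10, 21] .fail))),
  (11, .fail),
  (1, (.step [7, 20, 16] .fail)),
  (6, .fail),
  (1, (.step [0, 7, 12, 20, 10] .fail)),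
  (1, .fail),
  (1, (.step [0, 19, 9, 18] (.step [8, 13, 15, 8, 20, 18, 19, 10] .fail))),
  (11, .fail),
  (1, (.step [7, 16, 2, 21] .fail)),
  (15, .fail),
  (1, (.step [0, 7, 11, 18, 10] .fail)),
  (1, (.step [0, 9, 8, 19, 9, 20] .fail)),
  (21, .fail),
  (1, (.step [0, 2, 11, 10, 18, 7] .fail)),
  (22, .fail),
  (1, (.step [7, 14, 18, 10, 11] .fail)),
  (1, (.step [7, 16, 9, 18, 19] .fail)),
  (1, (.step [0, 2, 13, 8, 15, 7] .fail)),
  (5, .fail),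
  (1, (.step [0, 16, 20, 7, 18] .fail)),
  (10, .fail),
  (1, (.step [9, 19, 0, 20, 11] .fail)),
  (16, .fail),
  (1, (.step [0, 2, 16, 9, 19] .fail)),
  (2, .fail),
  (1, (.step [0, 9, 17, 20, 0] (.step [8, 15, 16, 8, 20, 10] .fail))),
  (9, .fail),
  (1, (.step [0, 2, 12] (.step [8, 16, 20, 11, 10, 18] .fail))),
  (33, .fail),
  (1, (.step [0, 19, 9, 10, 20] .fail)),
  (17, .fail),
  (1, (.step [2, 16, 7, 13, 17] .fail)),
  (1, (.step [9, 16, 8, 9] .fail)),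
  (7, .fail),
  (1, (.step [9, 17, 10, 12, 7] .fail)),
  (15, .fail),
  (1, (.step [7, 18] .fail)),
  (2, .fail),
  (1, (.step [2, 16, 7, 11, 17] .fail)),
  (19, .fail),
  (1, (.step [0, 2, 16, 9, 10] .fail)),
  (3, .fail),
  (1, (.step [0, 11, 16, 2, 21] .fail)),
  (4, .fail),
  (1, (.step [0, 11, 16, 0, 20] .fail)),
  (5, .fail),
  (1, (.step [0, 7, 15, 0, 2, 19] (.step [8, 18, 10, 17, 20, 18] .fail))),
  (3, .fail),
  (1, (.step [0, 13, 15, 20, 11] .fail)),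
  (16, .fail),
  (1, (.step [0, 2, 9, 11, 7, 20] .fail)),
  (9, .fail),
  (1, (.step [0, 19, 10, 12, 7] (.step [8, 13, 18, 8, 10, 17, 20] .fail))),
  (7, .fail),
  (1, (.step [0, 13, 17, 7, 18] .fail)),
  (1, .fail),
  (1, (.step [7, 16, 2, 20] (.step [8, 13, 15, 16, 18, 8, 10] .fail))),
  (15, .fail),
  (1, (.step [0, 9, 8, 16, 9] .fail)),
  (1, .fail),
  (1, (.step [0, 2, 15, 19, 9, 18] .fail)),
  (13, .fail),
  (1, (.step [2, 7, 11, 20, 18] .fail)),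
  (22, .fail),
  (1, (.step [0, 7, 9, 14] .fail)),
  (9, .fail),
  (1, (.step [0, 7, 15, 0, 2, 19] .fail)),
  (3, .fail),
  (1, (.step [0, 7, 15, 20] (.step [8] .fail))),
  (1, .fail),
  (1, (.step [0, 2, 20, 10, 11] .fail)),
  (9, .fail),
  (1, (.step [0, 7, 16, 0, 9] .fail)),
  (40, .fail),
  (1, (.step [2, 15, 20, 18, 9] .fail)),
  (6, .fail),
  (1, (.step [7, 9, 16, 0, 20] .fail)),
  (21, .fail),
  (1, (.step [0, 14, 20, 15, 7] .fail)),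
  (5, .fail),
  (1, (.step [9, 19, 20, 16] (.step [8, 15, 20, 11, 16] .fail))),
  (5, .fail),
  (1, (.step [0, 2, 15, 7, 12] .fail)),
  (2, .fail),
  (1, (.step [0, 11, 17, 0, 20] .fail)),
  (7, .fail),
  (1, (.step [0, 2, 9, 12, 13] .fail)),
  (4, .fail),
  (1, (.step [0, 7, 21, 8, 10] .fail)),
  (2, .fail),
  (1, (.step [2, 12, 15, 20] .fail)),
  (8, .fail),
  (1, (.step [7, 21] (.step [8, 13, 15, 20, 16] (.step [10, 20, 11, 10, 18] .fail)))),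
  (7, .fail),
  (1, (.step [0, 11, 13, 7] .fail)),
  (1, (.step [0, 7, 12, 18, 8] .fail)),
  (4, .fail),
  (1, (.step [7, 14, 20] .fail)),
  (5, .fail),
  (1, (.step [0, 15, 20] .fail)),
  (5, .fail),
  (1, (.step [2, 7, 9, 21, 8] .fail)),
  (2, .fail),
  (1, (.step [0, 9, 18, 7, 8] .fail)),
  (9, .fail),
  (1, (.step [7, 11, 10, 16, 8] .fail)),
  (4, .fail),
  (1, (.step [2, 12, 14, 21] .fail)),
  (29, .fail),
  (1, (.step [7, 9, 8, 17, 9] .fail)),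
  (4, .fail),
  (1, (.step [7, 11, 16, 20] .fail)),
  (12, .fail),
  (1, (.step [0, 9, 10, 17, 0] .fail)),
  (4, .fail),
  (1, (.step [2, 7, 18, 20] .fail)),
  (13, .fail),
  (1, (.step [7, 14, 16, 20, 0] .fail)),
  (3, .fail),
  (1, (.step [7, 11, 16, 20, 16] (.step [8, 13, 21, 8, 10, 17] .fail))),
  (1, .fail),
  (1, (.step [0, 2, 16, 9, 17] (.step [8, 13, 15, 16] .fail))),
  (35, .fail),
  (1, (.step [9, 8, 19, 0] .fail)),
  (8, .fail),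
  (1, (.step [2, 7, 13, 8, 16] .fail)),
  (7, .fail),
  (1, (.step [7, 16, 2, 20] .fail)),
  (5, .fail),
  (1, (.step [0, 15, 7, 18] .fail)),
  (15, .fail),
  (1, (.step [7, 14, 17, 21, 8] .fail)),
  (2, .fail),
  (1, (.step [2, 9, 10, 21, 2] .fail)),
  (7, .fail),
  (1, (.step [7, 11, 15, 17] .fail)),
  (9, .fail),
  (1, (.step [0, 17, 10, 18, 8] .fail)),
  (1, .fail),
  (1, (.step [0, 20, 15, 8, 9] .fail)),
  (12, .fail),
  (1, (.step [0, 16, 2, 20, 11] .fail)),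
  (1, (.step [0, 2, 9, 8, 16, 2] .fail)),
  (22, .fail),
  (1, (.step [0, 9, 19, 10] .fail)),
  (12, .fail),
  (1, (.step [2, 7, 13] .fail)),
  (9, .fail),
  (1, (.step [0, 2, 7, 11, 21] .fail)),
  (3, .fail),
  (1, (.step [0, 13, 8, 17, 0] .fail)),
  (5, .fail),
  (1, (.step [9, 10, 17] .fail)),
  (10, .fail),
  (1, (.step [2, 9, 17, 7, 18] .fail)),
  (1, .fail),
  (1, (.step [0, 17, 10] (.step [8, 16, 18, 10, 20, 15] .fail))),
  (27, .fail),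
  (1, (.step [9, 10, 19, 0] .fail)),
  (1, .fail),
  (1, (.step [0, 9, 11, 7, 21] .fail)),
  (9, .fail),
  (1, (.step [0, 2, 11, 15, 19] .fail)),
  (26, .fail),
  (1, (.step [7, 9, 16, 0, 2] .fail)),
  (1, .fail),
  (1, (.step [2, 16, 7, 13, 17] .fail)),
  (4, .fail),
  (1, (.step [9, 8, 16, 2] .fail)),
  (3, .fail),
  (1, (.step [0, 9, 18, 8, 13, 20] (.step [8, 18, 21, 8, 10] .fail))),
  (4, .fail),
  (1, (.step [0, 7, 9, 16, 0, 21] .fail)),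
  (1, .fail),
  (1, (.step [0, 17, 7, 10, 9] .fail)),
  (14, .fail),
  (1, (.step [0, 2, 20, 15, 16] .fail)),
  (1, .fail),
  (1, (.step [9, 10, 14, 17] .fail)),
  (4, .fail),
  (1, (.step [0, 7, 16, 7, 21] .fail)),
  (13, .fail),
  (1, (.step [0, 2, 21, 7, 19] .fail)),
  (2, .fail),
  (1, (.step [2, 7, 21, 10, 9] .fail)),
  (1, (.step [9, 18] .fail)),
  (23, .fail),
  (1, (.step [0, 7, 15, 0, 2, 11] .fail)),
  (17, .fail),
  (1, (.step [0, 9, 17, 20, 7] .fail)),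
  (20, .fail),
  (1, (.step [7, 14, 20, 11, 21] .fail)),
  (5, .fail),
  (1, (.step [0, 2, 12, 10, 17] .fail)),
  (11, .fail),
  (1, (.step [0, 7, 12, 20, 10] (.step [8, 13, 18, 8, 10, 17, 18] .fail))),
  (19, .fail),
  (1, (.step [2, 7, 11, 20, 16] .fail)),
  (16, .fail),
  (1, (.step [9] .fail)),
  (8, .fail),
  (1, (.step [0, 7, 11, 16, 9] .fail)),
  (1, (.step [7, 17, 20, 7] (.step [8, 16, 20, 21, 8, 10, 18] .fail))),
  (8, .fail),
  (1, (.step [0, 2, 13, 16, 8] .fail)),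
  (23, .fail),
  (1, (.step [2, 15, 0, 13, 20] .fail)),
  (7, .fail),
  (1, (.step [9, 17, 18, 19] .fail)),
  (7, .fail),
  (1, (.step [7, 19, 21, 2] .fail)),
  (2, .fail),
  (1, (.step [0, 9, 15, 18] .fail)),
  (1, .fail),
  (1, (.step [7, 18, 8, 15] .fail)),
  (16, .fail),
  (1, (.step [0, 19, 10, 20] .fail)),
  (4, .fail),
  (1, (.step [0, 2, 9, 13, 15] .fail)),
  (1, (.step [7, 12, 13, 19] (.step [8, 13, 15, 16, 21] .fail))),
  (32, .fail),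
  (1, (.step [0, 15, 20, 19] (.step [8, 16, 21, 10, 20] (.step [10, 11, 20, 19, 10, 18] .fail)))),
  (5, .fail),
  (1, (.step [7, 11, 13, 20, 16] .fail)),
  (5, .fail),
  (1, (.step [0, 2, 9, 15, 21] (.step [8, 13, 15, 20, 11, 10, 20] .fail))),
  (4, .fail),
  (1, (.step [7, 17, 20, 7, 13] (.step [8, 18, 21, 10, 19] .fail))),
  (1, (.step [2, 9, 16, 19] .fail)),
  (1, (.step [9, 17, 18, 10] .fail)),
  (6, .fail),
  (1, (.step [0, 7, 9, 11, 18] .fail)),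
  (3, .fail),
  (1, (.step [2, 21, 10, 20] .fail)),
  (1, .fail),
  (1, (.step [7, 9, 10, 16] .fail)),
  (5, .fail),
  (1, (.step [0, 7, 11, 18, 9] .fail)),
  (7, .fail),
  (1, (.step [0, 17, 20, 10, 11] .fail)),
  (4, .fail),
  (1, (.step [0, 14, 20, 7, 10] .fail)),
  (1, .fail),
  (1, (.step [7, 21, 8, 15, 2] .fail)),
  (9, .fail),
  (1, (.step [2, 12, 16, 20] .fail)),
  (5, .fail),
  (1, (.step [0, 16, 7, 11, 0] .fail)),
  (1, (.step [0, 2, 9, 21, 7] .fail)),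
  (1, (.step [0, 7, 15, 16, 0, 20] .fail)),
  (4, .fail),
  (1, (.step [7, 11, 14, 20, 19] .fail)),
  (3, .fail),
  (1, (.step [0, 9, 19, 20, 11] .fail)),
  (6, .fail),
  (1, (.step [0, 7, 16, 17, 20] .fail)),
  (1, .fail),
  (1, (.step [7, 16, 0, 21, 7] (.step [8, 18, 10, 20, 12, 19] .fail))),
  (11, .fail),
  (1, (.step [0, 16, 20, 0, 11] .fail)),
  (2, (.step [0, 16, 19, 9, 20] .fail)),
  (10, .fail),
  (1, (.step [0, 9, 10] (.step [8, 18, 20, 15] (.step [10, 12, 18, 21] .fail)))),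
  (1, (.step [0, 7, 16, 0, 19, 20] .fail)),
  (2, .fail),
  (1, (.step [0, 11, 17, 9] .fail)),
  (1, .fail),
  (1, (.step [9, 10, 17, 20, 15] .fail)),
  (18, .fail),
  (1, (.step [0, 7, 17, 7] .fail)),
  (6, .fail),
  (1, (.step [0, 16, 8, 9, 16] .fail)),
  (18, .fail),
  (1, (.step [0, 19, 10, 11] (.step [8, 13, 21, 8, 10, 19] .fail))),
  (32, .fail),
  (1, (.step [0, 13, 19, 9, 8] (.step [8, 15, 21, 10, 18, 8] .fail))),
  (1, .fail),
  (1, (.step [0, 14, 20, 10, 17] .fail)),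
  (2, .fail),
  (1, (.step [2, 9, 12, 15] .fail)),
  (10, .fail),
  (1, (.step [0, 15, 8, 18, 20] .fail)),
  (7, .fail),
  (1, (.step [9, 8, 16, 21] .fail)),
  (4, .fail),
  (1, (.step [9, 17, 0, 20, 18] .fail)),
  (1, .fail),
  (1, (.step [7, 11, 13, 19] .fail)),
  (1, .fail),
  (1, (.step [0, 20, 15, 2, 18] .fail)),
  (4, .fail),
  (1, (.step [2, 12, 21, 8] .fail)),
  (28, .fail),
  (1, (.step [2, 15, 0, 17] .fail)),
  (1, (.step [0, 9, 19, 20, 11] .fail)),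
  (10, .fail),
  (1, (.step [7, 11, 0, 15, 7] .fail)),
  (1, .fail),
  (1, (.step [2, 7, 17, 7, 21] .fail)),
  (5, .fail),
  (1, (.step [0, 2, 15, 7, 11, 14] .fail)),
  (1, .fail)])

/-- a piece of a certificate -/
noncomputable def cCp_9 : Cert := (Cert.rl [(3, .fail),
  (1, (.step [0, 17, 9, 10, 16] .fail)),
  (1, (.step [0, 2, 9, 17, 10] .fail)),
  (15, .fail),
  (1, (.step [0, 17, 20, 7] .fail)),
  (2, .fail),
  (1, (.step [7, 18, 19, 9, 10] .fail)),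
  (11, .fail),
  (1, (.step [0, 2, 21, 8] .fail)),
  (2, .fail),
  (1, (.step [0] .fail)),
  (24, .fail),
  (1, (.step [0, 14, 20] .fail)),
  (7, .fail),
  (1, (.step [0, 15, 8, 20] (.step [8, 16, 20, 18, 8] (.step [10, 11, 17, 10, 20, 12] (.step [20, 11, 12, 18, 19] (.step [12, 15] (.step [14, 11, 21, 20, 16, 19, 20, 10, 20, 15, 16, 8, 18, 10, 19, 20, 18, 0, 4, 6, 12, 20, 18, 14, 19, 18, 7, 6, 1] .fail))))))),
  (3, .fail),
  (1, (.step [0, 15, 17, 10, 11] (.step [8, 16, 21, 10] (.step [10, 17, 20, 10, 15] .fail)))),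
  (12, .fail),
  (1, (.step [2, 16, 21, 10] .fail)),
  (1, (.step [0, 13, 15, 20, 16] .fail)),
  (20, .fail),
  (1, (.step [0, 2, 12, 16, 0] .fail)),
  (1, (.step [2, 21, 7, 17] .fail)),
  (17, .fail),
  (1, (.step [0, 9, 18, 7, 19] .fail)),
  (1, (.step [9, 16, 17] .fail)),
  (1, (.step [0, 9, 15, 19] .fail)),
  (2, .fail),
  (1, (.step [0, 11, 15, 19, 20] .fail)),
  (5, .fail),
  (1, (.step [0, 2, 7, 9, 18, 7] .fail)),
  (24, .fail),
  (1, (.step [2, 16, 9, 17] .fail)),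
  (4, .fail),
  (1, (.step [0, 9, 11, 13, 18] (.step [8, 16, 18, 10, 20, 15] .fail))),
  (3, .fail),
  (1, (.step [2, 12, 17, 7] (.step [8, 16, 20, 21, 10, 12] .fail))),
  (1, .fail),
  (1, (.step [2, 16, 7, 17] .fail)),
  (7, .fail),
  (1, (.step [2, 15, 21, 8, 16] .fail)),
  (18, .fail),
  (1, (.step [9, 10, 21, 8] (.step [8, 16, 20, 10, 12] .fail))),
  (1, (.step [0, 2, 9, 11, 7] .fail)),
  (9, .fail),
  (1, (.step [2, 9, 8, 21] .fail)),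
  (17, .fail),
  (1, (.step [7, 12, 17, 2] .fail)),
  (7, .fail),
  (1, (.step [7, 9, 8, 11] .fail)),
  (1, (.step [7, 9, 17, 2, 10] (.step [8, 15, 16, 8, 20, 12, 18, 20] .fail))),
  (2, .fail),
  (1, (.step [2, 15, 21, 10] .fail)),
  (5, .fail),
  (1, (.step [0, 7, 9, 15, 18] .fail)),
  (1, (.step [0, 2, 15, 20, 15] (.step [8, 13, 16, 18, 10] .fail))),
  (1, .fail),
  (1, (.step [2, 9, 10, 19] (.step [8, 15, 16, 20, 10] .fail))),
  (1, .fail),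
  (1, (.step [0, 2, 20, 15] .fail)),
  (17, .fail),
  (1, (.step [7, 11, 18, 10] .fail)),
  (5, .fail),
  (1, (.step [0, 13, 8, 15, 8] (.step [8, 15, 16, 20, 10, 16] .fail))),
  (3, .fail),
  (1, (.step [2, 7, 18, 9, 10] .fail)),
  (4, .fail),
  (1, (.step [2, 21, 8, 16] .fail)),
  (3, .fail),
  (1, (.step [0, 2, 16, 9, 18] .fail)),
  (7, .fail),
  (1, (.step [2, 9, 10] (.step [8, 13, 15, 16, 18, 21, 10] .fail))),
  (9, .fail),
  (1, (.step [0, 16, 2, 20, 0] .fail)),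
  (1, (.step [0, 17, 9, 10, 16] .fail)),
  (2, .fail),
  (1, (.step [0, 16, 8, 18, 20] .fail)),
  (4, .fail),
  (1, (.step [0, 2, 11, 10, 17] .fail)),
  (8, .fail),
  (1, (.step [0, 2, 9, 18, 20, 0] (.step [8, 13, 15, 8, 20, 10, 18] (.step [10, 20, 18, 10] .fail)))),
  (9, .fail),
  (1, (.step [7, 11, 12, 18, 7] .fail)),
  (4, .fail),
  (1, (.step [0, 2, 9, 12, 17, 10] .fail)),
  (6, .fail),
  (1, (.step [2, 17, 21, 2, 8] (.step [8, 15, 20, 12, 18, 10, 17] .fail))),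
  (1, .fail),
  (1, (.step [2, 12, 15, 20, 0] .fail)),
  (22, .fail),
  (1, (.step [7, 9, 17, 9, 16] .fail)),
  (2, .fail),
  (1, (.step [2, 15, 20] .fail)),
  (1, .fail),
  (1, (.step [2, 9, 16, 2, 20] .fail)),
  (11, .fail),
  (1, (.step [0, 16, 17, 7, 10] (.step [8, 18, 20, 11] .fail))),
  (1, (.step [7, 12, 17, 21] .fail)),
  (2, .fail),
  (1, (.step [0, 15, 7, 17] (.step [8, 13, 15, 18, 10, 21, 10] .fail))),
  (1, (.step [7, 18, 19, 7] (.step [8, 13, 18, 20, 16] .fail))),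
  (1, .fail),
  (1, (.step [7, 18, 10, 20] (.step [8, 13, 15, 20, 10, 11] (.step [10, 17, 20] (.step [20, 12, 15] (.step [12] (.step [1, 6, 7, 18, 19, 14, 18, 20, 12, 6, 4, 0, 18, 20, 19, 10, 18, 8, 16, 15, 20, 10, 20, 19, 16, 20, 21, 11, 19] (.step [] (.step [17] (.step [16] (.done [3, 0, 2, 8, 9, 5, 4, 6, 8, 7, 1, 3, 0, 2, 8, 9, 5, 4, 6, 8, 7, 1, 3, 0, 2, 8, 9, 5, 4, 6, 8, 7, 1, 3, 0, 2, 8, 9, 5, 4, 6, 8, 7, 1, 3, 0, 2, 8, 9, 5, 4, 6, 8, 7, 1, 3, 0, 2, 8, 9, 5, 4, 6, 8, 7, 1, 3, 0, 2, 8, 9, 5, 4, 6, 8, 7, 1, 3, 0, 2, 8, 9, 5, 4, 6, 8, 7, 1, 3, 0, 2, 8, 9, 5, 4, 6, 8, 7, 1]))))))))))),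
  (24, .fail),
  (1, (.step [2, 14, 15, 8] .fail)),
  (1, (.step [0, 13, 8, 9, 19] .fail)),
  (8, .fail),
  (1, (.step [0, 13, 20, 7, 21] .fail)),
  (11, .fail),
  (1, (.step [7, 12, 19, 21] .fail)),
  (4, .fail),
  (1, (.step [7, 11, 21, 10] .fail)),
  (2, .fail),
  (1, (.step [9, 10, 20, 0] (.step [8, 13, 16, 20, 12, 10] (.step [10, 11, 20, 11, 15] (.step [20, 12, 15, 20] (.step [11, 1, 6, 7, 18, 19, 14, 18, 20, 12, 6, 4, 0, 18, 20, 19, 10, 18, 8, 16, 15, 20, 10, 20, 19, 16, 20, 21, 11, 15] (.step [18, 19] .fail))))))),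
  (2, .fail),
  (1, (.step [0, 17, 7, 9, 8] .fail)),
  (4, .fail),
  (1, (.step [0, 7, 9, 10, 19] .fail)),
  (2, .fail),
  (1, (.step [7, 11, 14, 16] (.step [8, 13, 18, 10, 20, 21] (.step [10, 18, 20, 21] (.step [20, 11, 19, 20] (.step [12] (.step [14, 11, 21, 20, 16, 19, 20, 10, 20, 15, 16, 8, 18, 10, 19, 20, 18, 0, 4, 6, 12, 20, 18, 14, 19, 18, 7, 6, 1] (.step [13] (.step [] (.step [16] (.done [3, 0, 2, 8, 9, 5, 4, 6, 8, 7, 1, 3, 0, 2, 8, 9, 5, 4, 6, 8, 7, 1, 3, 0, 2, 8, 9, 5, 4, 6, 8, 7, 1, 3, 0, 2, 8, 9, 5, 4, 6, 8, 7, 1, 3, 0, 2, 8, 9, 5, 4, 6, 8, 7, 1, 3, 0, 2, 8, 9, 5, 4, 6, 8, 7, 1]))))))))))),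
  (6, .fail),
  (1, (.step [2, 9, 8, 12, 18] .fail)),
  (1, .fail),
  (1, (.step [0, 7, 17, 7, 20] .fail)),
  (2, .fail),
  (1, (.step [7, 17, 19, 21] .fail)),
  (36, .fail),
  (1, (.step [0, 11, 15, 19] .fail)),
  (1, (.step [0, 15, 17, 2] (.step [8, 16, 20, 21, 8, 10, 20] .fail))),
  (1, (.step [7, 11, 16, 2] .fail)),
  (37, .fail),
  (1, (.step [2, 7, 21, 10] (.step [8, 13, 18, 20, 10, 17, 19] .fail))),
  (8, .fail),
  (1, (.step [2, 7, 9, 8, 11] (.step [8, 13, 15, 16, 18, 10, 21] .fail))),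
  (7, .fail),
  (1, (.step [0, 13, 19, 10] .fail)),
  (2, .fail),
  (1, (.step [0, 2, 9, 19, 9, 16] (.step [8, 15, 16, 8] .fail))),
  (1, (.step [7, 17, 20] .fail)),
  (1, .fail),
  (1, (.step [0, 13, 8, 19, 0] .fail)),
  (5, .fail),
  (1, (.step [2, 7, 9, 17] .fail)),
  (12, .fail),
  (1, (.step [0, 9, 15, 7, 14] .fail)),
  (1, (.step [9, 10, 14, 19] (.step [8, 18, 20, 10, 12, 18] (.step [10, 17, 18] .fail)))),
  (11, .fail),
  (1, (.step [2, 7, 11, 16] .fail)),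
  (2, .fail),
  (1, (.step [7, 20, 16, 7] (.step [8, 21, 10, 12] .fail))),
  (1, (.step [0, 16, 19, 9] .fail)),
  (1, .fail),
  (1, (.step [9, 8, 16, 19, 7] (.step [8, 16, 20, 11, 10, 17] .fail))),
  (1, (.step [0, 13, 8, 9, 16] .fail)),
  (2, .fail),
  (1, (.step [0, 17, 7, 20, 0] (.step [8, 16, 18, 20] .fail))),
  (24, .fail),
  (1, (.step [0, 13, 20, 16] .fail)),
  (14, .fail),
  (1, (.step [2, 9, 15, 16] (.step [8, 13, 15, 18, 21, 8, 10] .fail))),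
  (12, .fail),
  (1, (.step [7, 18, 9, 20] .fail)),
  (1, (.step [0, 15, 8, 17] (.step [8, 13, 15, 20, 18, 21] .fail))),
  (1, .fail),
  (1, (.step [2, 9, 17, 9, 8] .fail)),
  (4, .fail),
  (1, (.step [7, 11, 13, 15, 17] (.step [8, 13, 15, 16, 18, 10] .fail))),
  (13, .fail),
  (1, (.step [0, 2, 15, 20, 15] .fail)),
  (7, .fail),
  (1, (.step [7, 9, 11, 15] .fail)),
  (1, (.step [0, 15, 19, 20, 10] .fail)),
  (6, .fail),
  (1, (.step [0, 9, 8, 17, 9] .fail)),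
  (3, .fail),
  (1, (.step [7, 14, 16, 17, 9] .fail)),
  (1, .fail),
  (1, (.step [0, 2, 11, 12, 21] .fail)),
  (1, (.step [7, 11, 0, 15, 20] .fail)),
  (1, (.step [7, 11, 10, 17, 7] .fail)),
  (20, .fail),
  (1, (.step [0, 2, 9, 20, 19] .fail)),
  (23, .fail),
  (1, (.step [0, 2, 9, 16, 9] .fail)),
  (9, .fail),
  (1, (.step [0, 11, 17, 10, 9] .fail)),
  (4, .fail),
  (1, (.step [0, 2, 9, 15, 21] .fail)),
  (4, .fail),
  (1, (.step [7, 11, 14, 17] .fail)),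
  (2, .fail),
  (1, (.step [0, 13, 14, 20] .fail)),
  (2, .fail),
  (1, (.step [2, 16, 9, 21, 8] .fail)),
  (1, (.step [0, 20, 15, 18, 9] .fail)),
  (13, .fail),
  (1, (.step [7, 17, 9, 8] .fail)),
  (9, .fail),
  (1, (.step [0, 2, 9, 14, 18, 20] (.step [8, 15, 18, 20, 19] .fail))),
  (21, .fail),
  (1, (.step [7, 12, 16, 0, 20] .fail)),
  (2, .fail),
  (1, (.step [7, 17, 2, 9] (.step [8, 13, 16, 8, 20, 10] .fail))),
  (3, .fail),
  (1, (.step [7, 9, 16, 9] .fail)),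
  (4, .fail),
  (1, (.step [0, 2, 11, 16] .fail)),
  (9, .fail),
  (1, (.step [0, 7, 9, 8, 17] .fail)),
  (1, .fail),
  (1, (.step [7, 9, 18, 8] .fail)),
  (1, .fail),
  (1, (.step [9, 17, 7, 16, 9] (.step [8, 13, 18, 20, 15, 19, 10] .fail))),
  (3, .fail),
  (1, (.step [2, 7, 20, 11] .fail)),
  (10, .fail),
  (1, (.step [7, 14, 16, 18] (.step [8, 18, 10, 17, 20, 21] .fail))),
  (2, .fail),
  (1, (.step [0, 2, 20, 15] .fail)),
  (2, .fail),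
  (1, (.step [9, 10, 14, 20] .fail)),
  (3, .fail),
  (1, (.step [0, 15, 19, 20, 19] (.step [8, 13, 18, 20, 15, 19, 10] (.step [10, 11, 17, 10, 20] .fail)))),
  (1, (.step [2, 14, 17, 7, 13] (.step [8, 13, 15, 8, 20, 15, 19, 20] .fail))),
  (1, .fail),
  (1, (.step [0, 9, 8, 20, 15] .fail)),
  (3, .fail),
  (1, (.step [2, 16, 7, 17, 10] .fail)),
  (14, .fail),
  (1, (.step [7, 11, 0, 15, 8] (.step [8, 13, 18, 8, 10, 12, 21] .fail))),
  (1, (.step [2, 16, 9, 17, 2] .fail)),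
  (3, .fail),
  (1, (.step [0, 2, 9, 8, 14, 18] .fail)),
  (4, .fail),
  (1, (.step [2, 9, 16, 9, 10] (.step [8, 13, 16, 18, 10, 20, 15] .fail))),
  (11, .fail),
  (1, (.step [0, 2, 7, 17] .fail)),
  (3, .fail),
  (1, (.step [2, 14, 17, 7, 13] (.step [8, 18, 20, 15, 19, 10] .fail))),
  (13, .fail),
  (1, (.step [0, 7, 16, 0, 15, 20] .fail)),
  (5, .fail),
  (1, (.step [7, 9, 11, 0, 12] .fail)),
  (6, .fail),
  (1, (.step [0, 11, 17, 0, 20] .fail)),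
  (27, .fail),
  (1, (.step [0, 13, 17, 10] .fail)),
  (9, .fail),
  (1, (.step [2, 17, 21, 10] .fail)),
  (2, .fail),
  (1, (.step [7, 18, 10] (.step [8, 15, 20, 11, 10, 16] .fail))),
  (16, .fail),
  (1, (.step [7, 11, 14, 20, 19] .fail)),
  (55, .fail),
  (1, (.step [7, 14, 20, 21] .fail)),
  (1, (.step [7, 11, 16, 0] .fail)),
  (3, .fail),
  (1, (.step [2, 14, 16, 20] .fail)),
  (6, .fail),
  (1, (.step [7, 12, 14, 17, 9] .fail)),
  (1, (.step [0, 2, 11, 16, 0] .fail)),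
  (2, .fail),
  (1, (.step [7, 11, 20, 15] .fail)),
  (3, .fail),
  (1, (.step [0, 16, 20, 0, 10] .fail)),
  (3, .fail),
  (1, (.step [0, 13, 8, 9] .fail)),
  (3, .fail),
  (1, (.step [0, 19, 10, 20, 0] .fail)),
  (2, .fail),
  (1, (.step [0, 7, 11, 21, 10] (.step [8, 16, 20, 18, 10, 11, 19] .fail))),
  (2, .fail),
  (1, (.step [0, 7, 15, 16, 9] .fail)),
  (4, .fail),
  (1, (.step [0, 17, 20, 7, 11] .fail)),
  (8, .fail),
  (1, (.step [0, 16, 7, 11, 17] (.step [8, 16, 18, 8] .fail))),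
  (13, .fail),
  (1, (.step [0, 20, 15, 0, 2] .fail)),
  (3, .fail),
  (1, (.step [0, 16, 8, 21, 2] .fail)),
  (2, .fail),
  (1, (.step [2, 7, 20, 21] (.step [8, 16, 20, 18] .fail))),
  (1, .fail),
  (1, (.step [2, 9, 18, 8] (.step [8, 13, 15, 8, 20, 11, 10] (.step [10, 11, 19, 20] .fail)))),
  (2, .fail),
  (1, (.step [0, 16, 7, 20] .fail)),
  (18, .fail),
  (1, (.step [7, 13, 16, 17] .fail)),
  (8, .fail),
  (1, (.step [0, 2, 9, 17, 2] .fail)),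
  (8, .fail),
  (1, (.step [0, 16, 8, 9, 18] .fail)),
  (1, (.step [0, 2, 11, 16, 0] .fail)),
  (34, .fail),
  (1, (.step [0, 9, 17, 0, 13, 20] .fail)),
  (9, .fail),
  (1, (.step [2, 9, 12, 15, 7] .fail)),
  (10, .fail),
  (1, (.step [0, 9, 19, 0, 13] .fail)),
  (28, .fail),
  (1, (.step [7, 11, 12, 16, 9] .fail)),
  (10, .fail),
  (1, (.step [2, 21, 10] .fail)),
  (1, (.step [0, 7, 18, 8, 9] (.step [8, 13, 21, 10] .fail))),
  (11, .fail),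
  (1, (.step [0, 15, 17, 20] .fail)),
  (2, .fail),
  (1, (.step [2, 17, 7, 20] .fail)),
  (1, (.step [0, 15, 8, 17, 20] .fail)),
  (13, .fail),
  (1, (.step [7, 9, 18, 9] .fail)),
  (1, .fail),
  (1, (.step [2, 12, 10] .fail)),
  (6, .fail),
  (1, (.step [9, 17, 7, 11] .fail)),
  (1, .fail),
  (1, (.step [0, 7, 15, 2] .fail)),
  (16, .fail),
  (1, (.step [2, 12, 20, 15] .fail)),
  (20, .fail),
  (1, (.step [2, 16, 20] .fail)),
  (7, .fail),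
  (1, (.step [9, 18, 19, 7] .fail)),
  (1, (.step [2, 16, 7, 9, 14] .fail)),
  (6, .fail),
  (1, (.step [0, 9, 8, 20, 21] .fail)),
  (4, .fail),
  (1, (.step [2, 7, 17, 10] .fail)),
  (3, .fail),
  (1, (.step [0, 15, 7, 17] .fail)),
  (1, (.step [0, 7, 16, 0, 17] .fail)),
  (2, .fail),
  (1, (.step [9, 16, 7] .fail)),
  (8, .fail),
  (1, (.step [2, 9, 17, 7, 21] .fail)),
  (3, .fail),
  (1, (.step [0, 2, 7, 9, 18, 7] .fail)),
  (6, .fail),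
  (1, (.step [2, 7, 11] .fail)),
  (15, .fail),
  (1, (.step [9, 17, 18, 20, 7] .fail)),
  (1, (.step [7, 17, 0, 2, 17] .fail)),
  (3, .fail),
  (1, (.step [2, 9, 17, 7, 18] .fail)),
  (1, (.step [2, 21, 7, 17, 9] .fail)),
  (14, .fail),
  (1, (.step [0, 15, 17, 7, 19] .fail)),
  (21, .fail),
  (1, (.step [7, 13, 18, 19] .fail)),
  (18, .fail),
  (1, (.step [7, 9, 16, 0, 19] .fail)),
  (7, .fail),
  (1, (.step [7, 16, 9, 18, 19] .fail)),
  (21, .fail),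
  (1, (.step [0, 2, 7, 14, 17, 0] .fail)),
  (2, .fail),
  (1, (.step [7, 16, 21, 7] .fail)),
  (7, .fail),
  (1, (.step [7, 15, 17, 2] .fail)),
  (1, (.step [0, 2, 9, 8, 11, 17] .fail)),
  (1, .fail),
  (1, (.step [0, 11, 7, 18, 8] .fail)),
  (2, .fail),
  (1, (.step [0, 17, 7, 15, 21] .fail)),
  (1, .fail),
  (1, (.step [0, 7, 11] .fail)),
  (1, .fail),
  (1, (.step [9, 14, 19, 20, 15] .fail)),
  (26, .fail),
  (1, (.step [9, 17, 2] .fail)),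
  (11, .fail),
  (1, (.step [7, 16, 19, 21] (.step [8, 13, 15, 16, 20, 12] .fail))),
  (1, .fail),
  (1, (.step [7, 11] (.step [8, 15, 20, 12, 10, 20, 15] .fail))),
  (1, .fail),
  (1, (.step [0, 2, 16, 20, 7, 18] .fail)),
  (12, .fail),
  (1, (.step [0, 13, 20, 10, 16] .fail)),
  (1, (.step [2, 16, 21] .fail)),
  (2, .fail),
  (1, (.step [0, 14, 20, 7, 13] .fail)),
  (6, .fail),
  (1, (.step [2, 16, 20, 18, 8] .fail)),
  (5, .fail),
  (1, (.step [0, 2, 15] .fail)),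
  (4, .fail),
  (1, (.step [0, 11, 13, 19, 7] .fail)),
  (4, .fail),
  (1, (.step [0, 11, 15, 17, 9, 20] .fail)),
  (2, .fail),
  (1, (.step [0, 9, 8, 19, 9, 20] .fail)),
  (3, .fail),
  (1, (.step [0, 16, 2, 19] .fail)),
  (1, .fail),
  (1, (.step [0, 7, 11, 20, 19] .fail)),
  (1, .fail),
  (1, (.step [0, 13, 8, 15] .fail)),
  (1, .fail),
  (1, (.step [9, 18, 19, 10] .fail)),
  (1, .fail),
  (1, (.step [2, 14, 17, 9, 8] .fail)),
  (3, .fail),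
  (1, (.step [7, 16, 17, 9] .fail)),
  (9, .fail),
  (1, (.step [7, 11, 19, 0] .fail)),
  (4, .fail),
  (1, (.step [0, 9, 19, 10, 9] .fail)),
  (9, .fail),
  (1, (.step [2, 15, 21, 8, 9] .fail)),
  (1, (.step [7, 12, 15, 7] .fail)),
  (1, (.step [2, 12, 10, 11, 15] .fail)),
  (3, .fail),
  (1, (.step [2, 9, 8, 21, 7] .fail)),
  (2, .fail),
  (1, (.step [2, 21, 8, 16] (.step [8, 21, 10, 11, 20, 18] (.step [10, 11, 17, 10] .fail)))),
  (5, .fail),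
  (1, (.step [9, 19, 20, 15] (.step [8, 13, 15, 20, 11] .fail))),
  (4, .fail),
  (1, (.step [0, 7, 9, 8, 19] .fail)),
  (11, .fail),
  (1, (.step [0, 7, 16, 9, 21] .fail)),
  (3, .fail),
  (1, (.step [0, 11, 19, 7, 18] .fail)),
  (4, .fail),
  (1, (.step [0, 2, 7, 11, 17, 18] .fail)),
  (1, .fail),
  (1, (.step [0, 15, 17, 7, 19] .fail)),
  (3, .fail),
  (1, (.step [0, 9, 18, 8, 20, 15] .fail)),
  (29, .fail),
  (1, (.step [0, 16, 7, 11, 12] .fail)),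
  (1, (.step [0, 13, 15, 2, 12] .fail)),
  (19, .fail),
  (1, (.step [0, 17, 9, 10] .fail)),
  (8, .fail),
  (1, (.step [7, 19, 10, 20] .fail)),
  (1, (.step [7, 9, 16, 7, 8] .fail)),
  (18, .fail),
  (1, (.step [2, 9, 10, 20] .fail)),
  (17, .fail),
  (1, (.step [0, 9, 15, 7, 19] (.step [8, 16, 18, 10, 20, 18] .fail))),
  (4, .fail),
  (1, (.step [2, 12, 16, 7] .fail)),
  (9, .fail),
  (1, (.step [0, 2, 11, 19, 10] .fail)),
  (1, (.step [0, 15, 19, 0] .fail)),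
  (2, .fail),
  (1, (.step [0, 2, 7, 17, 0] .fail)),
  (4, .fail),
  (1, (.step [2, 15, 20, 10, 11] (.step [8, 13, 15, 16, 20, 10, 12] (.step [10, 11, 17, 20, 11] .fail)))),
  (6, .fail),
  (1, (.step [7, 12, 13, 15] .fail)),
  (16, .fail),
  (1, (.step [9, 8, 19] .fail)),
  (7, .fail),
  (1, (.step [0, 2, 9, 15, 17] .fail)),
  (1, (.step [0, 2, 12, 10, 19] .fail)),
  (12, .fail),
  (1, (.step [7, 16, 17, 10, 11] (.step [8, 13, 18, 20, 19] .fail))),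
  (33, .fail),
  (1, (.step [0, 9, 8, 10, 20] .fail)),
  (18, .fail),
  (1, (.step [2, 17, 9, 16] .fail)),
  (7, .fail),
  (1, (.step [0, 19, 9, 10, 20] .fail)),
  (14, .fail),
  (1, (.step [7, 12, 10, 17] .fail)),
  (2, .fail),
  (1, (.step [0, 11, 7, 17, 9] .fail)),
  (7, .fail),
  (1, (.step [0, 2, 11, 19, 10] .fail)),
  (4, .fail),
  (1, (.step [0, 11, 15, 2] .fail)),
  (7, .fail),
  (1, (.step [0, 20, 15, 2] .fail)),
  (1, (.step [7, 17, 9, 10] .fail)),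
  (1, (.step [0, 17, 9, 10] .fail)),
  (4, .fail),
  (1, (.step [9, 10, 20, 18] .fail)),
  (12, .fail),
  (1, (.step [0, 9, 15, 7, 19] .fail)),
  (9, .fail),
  (1, (.step [0, 9, 13, 15, 19, 0] .fail)),
  (1, (.step [2, 12, 20, 15] (.step [8, 13, 15, 21, 10] (.step [10, 11, 20, 10, 18] .fail)))),
  (1, .fail),
  (1, (.step [0, 15, 17, 9, 10] (.step [8, 15, 21, 8, 10, 21] .fail))),
  (4, .fail),
  (1, (.step [0, 14, 20, 7, 10] .fail)),
  (8, .fail),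
  (1, (.step [0, 7, 11, 10, 9] .fail)),
  (8, .fail),
  (1, (.step [0, 9, 17, 0, 13] .fail)),
  (7, .fail),
  (1, (.step [0, 2, 9, 21, 8, 16] .fail)),
  (16, .fail),
  (1, (.step [0, 7, 11, 16] .fail)),
  (5, .fail),
  (1, (.step [0, 11, 15, 19, 20] .fail)),
  (4, .fail),
  (1, (.step [7, 20, 18, 7, 16] .fail)),
  (5, .fail),
  (1, (.step [0, 15, 20, 10, 19] .fail)),
  (1, .fail),
  (1, (.step [7, 15, 18] .fail)),
  (10, .fail),
  (1, (.step [7, 11, 19, 10, 9] (.step [8, 13, 15, 8, 20, 11, 16] .fail))),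
  (13, .fail),
  (1, (.step [0, 11, 13, 17, 10] .fail)),
  (4, .fail),
  (1, (.step [2, 7, 18, 19, 9] (.step [8, 13, 15, 20, 10, 16, 20] .fail))),
  (1, .fail),
  (1, (.step [2, 14, 16, 21] .fail)),
  (17, .fail),
  (1, (.step [0, 11, 16, 2, 12] .fail)),
  (1, (.step [0, 15, 7, 16, 17] .fail)),
  (7, .fail),
  (1, (.step [7, 11, 12, 19] (.step [8, 13, 15, 16, 20, 10, 21] .fail))),
  (17, .fail),
  (1, (.step [7, 11, 0, 15, 21] (.step [8, 13, 15, 16, 18] .fail))),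
  (8, .fail),
  (1, (.step [7, 11, 18] .fail)),
  (7, .fail),
  (1, (.step [0, 19, 10, 18, 8] .fail)),
  (10, .fail),
  (1, (.step [2, 12, 20, 18, 10] .fail)),
  (5, .fail),
  (1, (.step [0, 9, 15, 7] .fail)),
  (12, .fail),
  (1, (.step [0, 9, 10, 17, 0] .fail)),
  (3, .fail),
  (1, (.step [2, 12, 16, 8, 21] .fail)),
  (1, (.step [0, 20, 10, 11, 16] .fail)),
  (5, .fail),
  (1, (.step [2, 9, 12, 19, 20] .fail)),
  (11, .fail),
  (1, (.step [0, 16, 8, 21] .fail)),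
  (6, .fail),
  (1, (.step [0, 13, 20, 0] .fail)),
  (7, .fail),
  (1, (.step [0, 15, 17, 7] .fail)),
  (4, .fail),
  (1, (.step [0, 13, 8, 16, 20] .fail)),
  (1, .fail),
  (1, (.step [0, 11, 15, 0, 20] (.step [8, 18, 20, 12] (.step [10, 11, 20, 10, 18] .fail)))),
  (21, .fail),
  (1, (.step [0, 16, 2] (.step [8, 16, 20, 18, 8] .fail))),
  (2, .fail),
  (1, (.step [0, 14, 20, 16, 8] .fail)),
  (1, .fail),
  (1, (.step [0, 7, 16, 17, 10] .fail)),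
  (8, .fail),
  (1, (.step [7, 13, 16, 8] .fail)),
  (2, .fail),
  (1, (.step [2, 9, 17, 0] .fail)),
  (2, .fail),
  (1, (.step [2, 15, 21, 8, 18] .fail)),
  (1, .fail),
  (1, (.step [0, 2, 11, 12, 21] .fail)),
  (2, .fail),
  (1, (.step [0, 2, 7, 17, 10] .fail)),
  (6, .fail),
  (1, (.step [7, 12, 18] .fail)),
  (1, .fail),
  (1, (.step [2, 9, 18, 20] .fail)),
  (15, .fail),
  (1, (.step [0, 9, 13, 19, 9] .fail)),
  (23, .fail),
  (1, (.step [2, 14, 21, 10] .fail)),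
  (2, .fail),
  (1, (.step [2, 12, 14, 17] .fail)),
  (1, .fail),
  (1, (.step [0, 13, 8, 20, 7] .fail)),
  (5, .fail),
  (1, (.step [0, 16, 2, 20] .fail)),
  (1, (.step [7, 9, 8, 18, 8] .fail)),
  (2, .fail),
  (1, (.step [2, 9, 16, 18] .fail)),
  (1, .fail),
  (1, (.step [0, 19, 10, 18, 8] .fail)),
  (7, .fail),
  (1, (.step [0, 15, 2, 20] .fail)),
  (1, (.step [9, 16, 2, 7] .fail)),
  (10, .fail),
  (1, (.step [9, 8, 16, 20] .fail)),
  (5, .fail),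
  (1, (.step [0, 2, 11, 12] .fail)),
  (6, .fail),
  (1, (.step [0, 9, 13, 8, 15] .fail)),
  (1, (.step [0, 7, 18, 20] .fail)),
  (7, .fail),
  (1, (.step [0, 13, 8, 18] .fail)),
  (5, .fail),
  (1, (.step [9, 8, 19, 9, 20] .fail)),
  (3, .fail),
  (1, (.step [7, 13, 15, 17] (.step [8, 13, 16, 21, 10, 18] .fail))),
  (2, .fail),
  (1, (.step [0, 15, 17, 9, 8] .fail)),
  (4, .fail),
  (1, (.step [0, 15, 19, 20] (.step [8, 13, 15, 20, 11, 10, 20] .fail))),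
  (1, (.step [0, 15, 17, 2, 9] .fail)),
  (1, (.step [0, 11, 16, 8, 20] .fail)),
  (1, .fail),
  (1, (.step [0, 15, 19, 7, 12] (.step [8, 15, 18, 20, 21] (.step [10, 11, 12, 10, 20, 15] .fail)))),
  (1, .fail),
  (1, (.step [0, 2, 11, 10, 15] .fail)),
  (2, .fail),
  (1, (.step [7, 11, 19, 20] .fail)),
  (1, .fail),
  (1, (.step [0, 16, 17, 7] .fail)),
  (1, .fail),
  (1, (.step [7, 17, 20, 7, 13] .fail)),
  (1, (.step [0, 13, 8, 16] .fail)),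
  (5, .fail),
  (1, (.step [0, 9, 20, 19, 7] .fail)),
  (8, .fail),
  (1, (.step [2, 12, 17, 7, 21] (.step [8, 16, 20, 15] (.step [10, 11, 18] (.step [20, 11, 15, 19] (.step [11, 11, 21, 20, 16, 19, 20, 10, 20, 15, 16, 8, 18, 10, 19, 20, 18, 0, 4, 6, 12, 20, 18, 14, 19, 18, 7, 6, 1] (.step [14, 1, 6, 7, 18, 19, 14, 18, 20, 12, 6, 4, 0, 18, 20, 19, 10, 18, 8, 16, 15, 20, 10, 20, 19, 16, 20, 21, 11, 19] (.step [] (.step [17] (.step [16] (.done [3, 0, 2, 8, 9, 5, 4, 6, 8, 7, 1, 3, 0, 2, 8, 9, 5, 4, 6, 8, 7, 1, 3, 0, 2, 8, 9, 5, 4, 6, 8, 7, 1, 3, 0, 2, 8, 9, 5, 4, 6, 8, 7, 1, 3, 0, 2, 8, 9, 5, 4, 6, 8, 7, 1, 3, 0, 2, 8, 9, 5, 4, 6, 8, 7, 1, 3, 0, 2, 8, 9, 5, 4, 6, 8, 7, 1, 3, 0, 2, 8, 9, 5, 4, 6, 8, 7, 1]))))))))))),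
  (2, .fail),
  (1, (.step [0, 2, 9, 8, 11, 16] .fail)),
  (1, .fail),
  (1, (.step [9, 8, 14, 16, 2] .fail)),
  (10, .fail),
  (1, (.step [0, 9, 11, 15, 19] .fail)),
  (1, (.step [0, 2, 7, 14, 17] .fail)),
  (1, .fail),
  (1, (.step [7, 15, 17, 0] .fail)),
  (1, (.step [0, 7, 16, 8, 13] (.step [8, 13, 16, 18, 21, 8] (.step [10, 11, 19, 20, 12] (.step [20, 11, 12, 16] (.step [11, 1, 6, 7, 18, 19, 14, 18, 20, 12, 6, 4, 0, 18, 20, 19, 10, 18, 8, 16, 15, 20, 10, 20, 19, 16, 20, 21, 11, 12] (.step [14, 18, 11, 21, 20, 16, 19, 20, 10, 20, 15, 16, 8, 18, 10, 19, 20, 18, 0, 4, 6, 12, 20, 18, 14, 19, 18, 7, 6, 1] .fail))))))),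
  (1, (.step [2, 9, 16, 20, 7] .fail)),
  (5, .fail),
  (1, (.step [2, 7, 20, 12] (.step [8, 15, 20, 12, 10, 20, 15] (.step [10, 20, 11, 21] .fail)))),
  (1, (.step [0, 19, 9, 16, 20] .fail)),
  (5, .fail),
  (1, (.step [0, 16, 8, 9, 20] .fail)),
  (5, .fail),
  (1, (.step [0, 7, 17, 7, 13] .fail)),
  (1, .fail),
  (1, (.step [0, 9, 17, 20, 0, 13] .fail)),
  (5, .fail),
  (1, (.step [0, 7, 15] .fail)),
  (23, .fail),
  (1, (.step [0, 2, 21, 7, 11] .fail)),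
  (2, .fail),
  (1, (.step [2, 14, 17, 7, 12] (.step [8, 13, 18, 8, 10, 12, 18] .fail))),
  (12, .fail),
  (1, (.step [7, 11, 0, 21, 2] .fail)),
  (16, .fail),
  (1, (.step [0, 13, 20, 18, 7] .fail)),
  (7, .fail),
  (1, (.step [0, 13, 8, 19] .fail)),
  (6, .fail),
  (1, (.step [0, 13, 8] .fail)),
  (9, .fail),
  (1, (.step [0, 20, 16, 9, 10] .fail)),
  (2, .fail),
  (1, (.step [0, 2, 9, 8, 17, 10] .fail)),
  (8, .fail),
  (1, (.step [7, 11, 19, 21] .fail)),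
  (5, .fail),
  (1, (.step [0, 2, 13, 8, 18] .fail)),
  (12, .fail),
  (1, (.step [0, 9, 19, 9, 10] .fail)),
  (5, .fail),
  (1, (.step [0, 7, 12, 18, 7, 19] (.step [8, 15, 16, 8, 20, 10] (.step [10, 11, 20, 15, 19] .fail)))),
  (5, .fail),
  (1, (.step [0, 9, 11, 18, 7] .fail)),
  (1, .fail),
  (1, (.step [0, 20, 15, 8, 9] .fail)),
  (5, .fail),
  (1, (.step [0, 7, 12, 20, 10] .fail)),
  (14, .fail),
  (1, (.step [7, 9, 16, 0] .fail)),
  (4, .fail),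
  (1, (.step [2, 12, 15, 20, 18] .fail)),
  (9, .fail),
  (1, (.step [9, 10, 17, 10] .fail)),
  (5, .fail),
  (1, (.step [0, 13, 17, 7, 10] .fail)),
  (8, .fail),
  (1, (.step [0, 2, 9, 13, 20, 21] (.step [8, 13, 18, 8, 10, 20, 15] .fail))),
  (1, (.step [0, 7, 9, 11, 0, 18] .fail)),
  (1, (.step [7, 13, 17, 9] (.step [8, 13, 18, 10, 20, 18, 19] .fail))),
  (1, (.step [7, 18, 9, 10] .fail)),
  (23, .fail),
  (1, (.step [0, 2, 9, 16, 7] .fail)),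
  (11, .fail),
  (1, (.step [2, 14, 21, 10] .fail)),
  (8, .fail),
  (1, (.step [7, 12, 18] .fail)),
  (3, .fail),
  (1, (.step [0, 2, 9, 8, 18, 19] (.step [8, 15, 21, 8, 10, 21] .fail))),
  (1, (.step [0, 19, 10] .fail)),
  (1, (.step [0, 19, 10, 9, 8] (.step [8, 13, 18, 8, 20, 10, 17] .fail))),
  (1, .fail),
  (1, (.step [0, 2, 9, 16, 21] (.step [8, 21, 10, 18, 19] .fail))),
  (1, (.step [2, 12, 17, 20, 15] .fail)),
  (2, .fail),
  (1, (.step [9, 18, 8, 19] .fail)),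
  (1, (.step [0, 2, 9, 16, 21] .fail)),
  (1, .fail),
  (1, (.step [7, 12, 14, 15] .fail)),
  (5, .fail),
  (1, (.step [2, 21, 10, 9] .fail)),
  (1, (.step [0, 7, 17, 0, 7, 12] (.step [8, 13, 16, 8, 20, 10, 18] .fail))),
  (1, .fail),
  (1, (.step [0, 7, 17, 2] .fail)),
  (1, .fail),
  (1, (.step [0, 15, 7, 16, 9] (.step [8, 13, 15, 16, 21, 10] .fail))),
  (3, .fail),
  (1, (.step [2, 7, 11, 20, 19] .fail)),
  (2, .fail),
  (1, (.step [0, 9, 17, 0, 13, 20] .fail)),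
  (2, .fail),
  (1, (.step [7, 15, 18, 10, 20] .fail)),
  (1, .fail),
  (1, (.step [7, 11, 17, 7, 10] (.step [8, 18, 10, 17, 20, 18] .fail))),
  (3, .fail),
  (1, (.step [7, 20, 16] .fail)),
  (3, .fail),
  (1, (.step [7, 16, 21, 7, 20] .fail)),
  (2, .fail),
  (1, (.step [7, 16, 20] (.step [8, 18, 10, 17, 20, 16] .fail))),
  (1, .fail),
  (1, (.step [7, 11, 17, 7, 9] (.step [8, 15, 18] .fail))),
  (4, .fail),
  (1, (.step [0, 16, 8, 15] .fail)),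
  (3, .fail),
  (1, (.step [9, 16, 2, 8] (.step [8, 16, 20, 11] .fail))),
  (1, (.step [7, 20, 18, 7, 15] (.step [8, 15, 16, 18, 21] .fail))),
  (1, (.step [2, 7, 18, 19] .fail)),
  (4, .fail),
  (2, (.step [0, 13, 8, 19, 0] .fail)),
  (5, .fail),
  (1, (.step [7, 16, 18, 19, 21] .fail)),
  (1, (.step [2, 9, 16, 2, 15] .fail)),
  (7, .fail),
  (1, (.step [7, 17, 21, 7] (.step [8, 18, 20, 10, 18, 8] .fail))),
  (3, .fail),
  (1, (.step [0, 16, 17, 10, 11] .fail)),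
  (1, (.step [2, 7, 20, 16, 7] .fail)),
  (6, .fail),
  (1, (.step [0, 7, 17, 9, 8] .fail)),
  (25, .fail),
  (1, (.step [0, 7, 11, 7] .fail)),
  (3, .fail),
  (1, (.step [2, 12, 17, 20, 15] .fail)),
  (9, .fail),
  (1, (.step [2, 9, 17, 7, 18] .fail)),
  (1, .fail),
  (1, (.step [0, 2, 21] .fail)),
  (1, (.step [2, 21, 10, 9, 12] (.step [8, 13, 15, 20, 12] .fail))),
  (3, .fail),
  (1, (.step [0, 7, 11, 21, 8] .fail)),
  (3, .fail),
  (1, (.step [7, 13, 17] .fail)),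
  (1, (.step [0, 9, 13, 15, 19] (.step [8, 15, 21, 8, 10, 18] .fail))),
  (14, .fail),
  (1, (.step [2, 7, 9, 14, 21] (.step [8, 13, 16, 20] (.step [10, 11, 20, 10, 21] (.step [20, 12, 18] (.step [21, 11, 21, 20, 16, 19, 20, 10, 20, 15, 16, 8, 18, 10, 19, 20, 18, 0, 4, 6, 12, 20, 18, 14, 19, 18, 7, 6, 1] (.step [1, 6, 7, 18, 19, 14, 18, 20, 12, 6, 4, 0, 18, 20, 19, 10, 18, 8, 16, 15, 20, 10, 20, 19, 16, 20, 21, 11, 19] .fail))))))),
  (4, .fail),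
  (1, (.step [7, 13, 15, 17] .fail)),
  (4, .fail),
  (1, (.step [9, 10, 20, 19] (.step [8, 13, 21, 8, 10, 20, 18] .fail))),
  (3, .fail),
  (1, (.step [2, 12, 21, 7, 10] .fail)),
  (4, .fail),
  (1, (.step [0, 7, 15, 16, 2] .fail)),
  (3, .fail),
  (1, (.step [7, 11, 13] .fail)),
  (1, .fail),
  (1, (.step [2, 16, 0, 17, 7] .fail)),
  (2, .fail),
  (1, (.step [2, 14, 17, 7, 10] .fail)),
  (2, .fail),
  (1, (.step [2, 16, 0, 17, 7] .fail)),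
  (1, .fail),
  (1, (.step [7, 13, 14, 15] .fail)),
  (3, .fail),
  (1, (.step [0, 16, 17, 7, 12] .fail)),
  (1, (.step [7, 18, 19, 20] .fail)),
  (4, .fail),
  (1, (.step [0, 2, 7, 11, 18, 7] .fail)),
  (2, .fail),
  (1, (.step [7, 12, 16, 18] .fail)),
  (3, .fail),
  (1, (.step [7, 13, 14, 16, 19] .fail)),
  (7, .fail),
  (1, (.step [2, 9, 8, 17, 19] .fail)),
  (1, .fail),
  (1, (.step [0, 2, 11, 15, 2] .fail)),
  (1, .fail),
  (1, (.step [7, 20, 21, 2, 8] .fail)),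
  (3, .fail),
  (1, (.step [0, 9, 15, 7, 14] .fail)),
  (6, .fail),
  (1, (.step [2, 7, 9, 16, 0] .fail)),
  (7, .fail),
  (1, (.step [2, 14, 15] .fail)),
  (6, .fail),
  (1, (.step [2, 9, 10, 21, 2] (.step [8, 13, 18, 8, 10, 17] .fail))),
  (3, .fail),
  (1, (.step [0, 2, 21, 8, 15] (.step [8, 15, 20, 10, 16, 17] (.step [10, 11, 18, 10, 20, 11] .fail)))),
  (3, .fail),
  (1, (.step [2, 12, 20, 18] .fail)),
  (1, (.step [2, 12, 10, 11, 16] .fail)),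
  (6, .fail),
  (1, (.step [0, 11, 10, 16, 17] (.step [8, 13, 21, 8] .fail))),
  (1, .fail),
  (1, (.step [2, 9, 15, 19] .fail)),
  (1, (.step [0, 7, 18, 20, 0] .fail)),
  (2, .fail),
  (1, (.step [7, 11, 14, 15] .fail)),
  (1, .fail),
  (1, (.step [7, 13, 16, 2] .fail)),
  (1, (.step [7, 12, 21] .fail)),
  (2, .fail),
  (1, (.step [9, 10, 12, 7] .fail)),
  (6, .fail),
  (1, (.step [2, 17, 7, 13] .fail)),
  (2, .fail),
  (1, (.step [2, 9, 17, 2, 9] .fail)),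
  (3, .fail),
  (1, (.step [0, 13, 17] (.step [8, 15, 18, 8, 10] (.step [10, 18, 21, 10, 20] (.step [20, 19] (.step [11, 21] (.step [19] (.step [] (.step [17] (.step [16] (.done [3, 0, 2, 8, 9, 5, 4, 6, 8, 7, 1, 3, 0, 2, 8, 9, 5, 4, 6, 8, 7, 1, 3, 0, 2, 8, 9, 5, 4, 6, 8, 7, 1, 3, 0, 2, 8, 9, 5, 4, 6, 8, 7, 1, 3, 0, 2, 8, 9, 5, 4, 6, 8, 7, 1, 3, 0, 2, 8, 9, 5, 4, 6, 8, 7, 1, 3, 0, 2, 8, 9, 5, 4, 6, 8, 7, 1]))))))))))),
  (7, .fail),
  (1, (.step [2, 14, 17, 9, 8] (.step [8, 16, 18, 10, 20, 11] .fail))),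
  (1, .fail),
  (1, (.step [7, 14, 15, 8] .fail)),
  (6, .fail),
  (1, (.step [7, 11, 19, 20] .fail)),
  (12, .fail),
  (1, (.step [0, 9, 18, 7, 11, 17] .fail)),
  (5, .fail),
  (1, (.step [0, 11, 13, 0] .fail)),
  (10, .fail),
  (1, (.step [2, 14, 21] .fail)),
  (7, .fail),
  (1, (.step [2, 15, 20, 0] .fail)),
  (1, .fail),
  (1, (.step [7, 11, 18] .fail)),
  (1, .fail),
  (1, (.step [0, 15, 20, 16] .fail)),
  (6, .fail),
  (1, (.step [7, 18, 20, 7] .fail)),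
  (3, .fail),
  (1, (.step [0, 9, 17, 0, 15] .fail)),
  (2, .fail),
  (1, (.step [0, 13, 20, 16, 7] (.step [8, 18, 20, 10, 19] .fail))),
  (1, (.step [7, 15, 16, 9, 19] .fail)),
  (1, (.step [7, 13, 14, 17, 10] .fail)),
  (14, .fail),
  (1, (.step [2, 12, 16, 21, 10] .fail)),
  (5, .fail),
  (1, (.step [0, 17, 7, 20, 15] .fail)),
  (1, (.step [0, 7, 16, 0, 19, 9] .fail)),
  (9, .fail),
  (1, (.step [2, 14, 17, 7] .fail)),
  (1, (.step [0, 20, 10, 15, 20] .fail)),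
  (1, (.step [2, 17, 7, 10, 19] .fail)),
  (1, (.step [2, 7, 20] .fail)),
  (1, .fail),
  (1, (.step [0, 7, 12, 20, 10] .fail)),
  (1, (.step [2, 9, 21, 8, 9] .fail)),
  (1, (.step [0, 13, 19, 9, 8] .fail)),
  (1, .fail),
  (1, (.step [9, 17, 0, 2] (.step [8, 13, 15, 18, 20, 15, 21] .fail))),
  (1, (.step [7, 9, 12] (.step [8, 13, 15, 8, 20, 10, 18, 20] (.step [10, 11, 18] .fail)))),
  (1, (.step [7, 11, 15, 8, 16] .fail)),
  (1, .fail),
  (1, (.step [0, 16, 20, 7, 15] .fail)),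
  (1, .fail),
  (1, (.step [0, 16, 2, 8, 21] .fail)),
  (3, .fail),
  (1, (.step [0, 11, 19, 0] .fail)),
  (1, .fail),
  (1, (.step [0, 2, 7, 15, 2] .fail)),
  (1, .fail),
  (1, (.step [2, 16, 0, 9] .fail)),
  (1, (.step [2, 12, 16, 21, 7] .fail)),
  (1, (.step [0, 11, 7, 17, 21] (.step [8, 16, 20, 10, 11, 10] (.step [10, 20, 18] .fail)))),
  (8, .fail),
  (1, (.step [0, 2, 9, 15, 18] .fail)),
  (1, .fail),
  (1, (.step [9, 16, 17] .fail)),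
  (1, (.step [7, 13, 21, 7] .fail)),
  (1, (.step [0, 17, 10, 19] .fail)),
  (1, (.step [0, 2, 13, 15, 8] (.step [8, 16, 18, 10, 20, 10] .fail)))])

/-- the pieces of a certificate -/
noncomputable def pcsCp : List (List (List ℕ) × Cert) := [(U0_0, cCp_0), (U0_1, cCp_1), (U0_2, cCp_2), (U0_3, cCp_3), (U0_4, cCp_4), (U0_5, cCp_5), (U0_6, cCp_6), (U0_7, cCp_7), (U0_8, cCp_8), (U0_9, cCp_9)]

end Cfsg.Agent.Lib.Helper2.Fi23Out
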