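import Cfsg.Agent.Lib.Helper2.Fi23Out5
import Cfsg.Agent.Lib.Helper2.Fi23OutC1
import Cfsg.Agent.Lib.Helper2.Fi23OutC3
import Cfsg.Agent.Lib.Helper2.RigidOut4

set_option autoImplicit false
set_option maxRecDepth 100000

/-! # The group `Fi23`: the normalizer of a Sylow 17-subgroup -/

namespace Cfsg.Agent.Lib.Helper2.Fi23Out

open Cfsg.Spor Cfsg.Agent.Lib.Helper6.TC Cfsg.Agent.Lib.Helper6.PM Cfsg.Agent.Lib.Helper2.PMS
open Cfsg.Agent.Lib.Helper2.PMC Cfsg.Agent.Lib.Helper5.Chain Cfsg.Agent.Lib.Helper2.RigidOut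
open Cfsg.Agent.Lib.Helper5.Srch

set_option Elab.async false

/-- the word of the element of order 17: a conjugate of the word `wq` -/
def wp : List ℕ := we ++ wq ++ invw iv we

/-- the element of order 17 adapted to the first chain -/
noncomputable def gq : M.G := M.elt wq
/-- the conjugating element -/
noncomputable def ge : M.G := M.elt we
/-- the element of order 17 -/
noncomputable def gp : M.G := M.elt wp
/-- the element of order 16 -/
noncomputable def gh : M.G := M.elt wh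
/-- the involution centralizing the element of order 16 -/
noncomputable def gv : M.G := M.elt wv

theorem lt_wq : ∀ c ∈ wq, c < M.nl := by rw [M_nl]; decide
theorem lt_we : ∀ c ∈ we, c < M.nl := by rw [M_nl]; decide
theorem lt_wp : ∀ c ∈ wp, c < M.nl := by rw [M_nl]; decide
theorem lt_wh : ∀ c ∈ wh, c < M.nl := by rw [M_nl]; decide
theorem lt_wv : ∀ c ∈ wv, c < M.nl := by rw [M_nl]; decide

theorem gp_eq : gp = ge * gq * ge⁻¹ := by
  unfold gp wp ge gq
  rw [M.elt_append, M.elt_append, elt_invw M iv invMap we lt_we]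

theorem gp_pow (k : ℕ) : gp ^ k = M.elt (rep k wp) := (elt_rep M k wp).symm
theorem gq_pow (k : ℕ) : gq ^ k = M.elt (rep k wq) := (elt_rep M k wq).symm
theorem gh_pow (k : ℕ) : gh ^ k = M.elt (rep k wh) := (elt_rep M k wh).symm

theorem gp_inv : gp⁻¹ = M.elt (invw iv wp) := (elt_invw M iv invMap wp lt_wp).symm
theorem gh_inv : gh⁻¹ = M.elt (invw iv wh) := (elt_invw M iv invMap wh lt_wh).symm
theorem gv_inv : gv⁻¹ = M.elt (invw iv wv) := (elt_invw M iv invMap wv lt_wv).symm

theorem chk_p17 : chkBaseL M lvA (rep 17 wp) [] = true := by decide +kernel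
theorem chk_p1 : chkNeAt M wp [] 0 = true := by decide +kernel

theorem gp_ne : gp ≠ 1 := by
  have := elt_ne_of_chkNeAt (M := M) _ _ _ chk_p1
  rwa [M.elt_nil] at this

theorem orderOf_gp : orderOf gp = 17 := by
  have : Fact (Nat.Prime 17) := ⟨by norm_num⟩
  apply orderOf_eq_prime
  · rw [gp_pow, ← M.elt_nil]
    exact factsA.elt_eq_of_chk _ _ chk_p17
  · exact gp_ne

theorem chk_h16 : chkBaseL M lvA (rep 16 wh) [] = true := by decide +kernel
theorem chk_h8 : chkNeAt M (rep 8 wh) [] 0 = true := by decide +kernel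

theorem orderOf_gh : orderOf gh = 16 := by
  have : Fact (Nat.Prime 2) := ⟨by norm_num⟩
  have h16 : gh ^ 2 ^ (3 + 1) = 1 := by
    rw [show 2 ^ (3 + 1) = 16 by norm_num, gh_pow, ← M.elt_nil]
    exact factsA.elt_eq_of_chk _ _ chk_h16
  have h8 : ¬ gh ^ 2 ^ 3 = 1 := by
    rw [show 2 ^ 3 = 8 by norm_num, gh_pow]
    have := elt_ne_of_chkNeAt (M := M) _ _ _ chk_h8
    rwa [M.elt_nil] at this
  have := orderOf_eq_prime_pow h8 h16
  rw [this]
  norm_num

theorem chk_ph : chkBaseL M lvA (invw iv wh ++ wp ++ wh) (rep 6 wp) = true := by decide +kernel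

theorem rel_ph : gh⁻¹ * gp * gh = gp ^ 6 := by
  rw [gh_inv, gp_pow]
  unfold gp gh
  rw [← M.elt_append, ← M.elt_append]
  exact factsA.elt_eq_of_chk _ _ chk_ph

/-! ## The centralizer and the normalizer -/

theorem chk_wq : chkW M wq = true := by decide +kernel

theorem chk_srcA : chkSrc M wq [] (L0 :: lvA') = true := by decide +kernel

theorem chk_Cp_0 : chk M iv wq wq cCp_0 (L0 :: lvA') msA (some U0_0) [] [] = true := by
  decide +kernel
theorem chk_Cp_1 : chk M iv wq wq cCp_1 (L0 :: lvA') msA (some U0_1) [] [] = true := by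
  decide +kernel
theorem chk_Cp_2 : chk M iv wq wq cCp_2 (L0 :: lvA') msA (some U0_2) [] [] = true := by
  decide +kernel
theorem chk_Cp_3 : chk M iv wq wq cCp_3 (L0 :: lvA') msA (some U0_3) [] [] = true := by
  decide +kernel
theorem chk_Cp_4 : chk M iv wq wq cCp_4 (L0 :: lvA') msA (some U0_4) [] [] = true := by
  decide +kernel
theorem chk_Cp_5 : chk M iv wq wq cCp_5 (L0 :: lvA') msA (some U0_5) [] [] = true := by
  decide +kernel
theorem chk_Cp_6 : chk M iv wq wq cCp_6 (L0 :: lvA') msA (some U0_6) [] [] = true := by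
  decide +kernel
theorem chk_Cp_7 : chk M iv wq wq cCp_7 (L0 :: lvA') msA (some U0_7) [] [] = true := by
  decide +kernel
theorem chk_Cp_8 : chk M iv wq wq cCp_8 (L0 :: lvA') msA (some U0_8) [] [] = true := by
  decide +kernel
theorem chk_Cp_9 : chk M iv wq wq cCp_9 (L0 :: lvA') msA (some U0_9) [] [] = true := by
  decide +kernel

theorem chk_Cp : ∀ p ∈ pcsCp, chk M iv wq wq p.2 (L0 :: lvA') msA (some p.1) [] [] = true := by
  intro p hp
  simp only [pcsCp, List.mem_cons, List.not_mem_nil, or_false] at hp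
  rcases hp with rfl | rfl | rfl | rfl | rfl | rfl | rfl | rfl | rfl | rfl
  · exact chk_Cp_0
  · exact chk_Cp_1
  · exact chk_Cp_2
  · exact chk_Cp_3
  · exact chk_Cp_4
  · exact chk_Cp_5
  · exact chk_Cp_6
  · exact chk_Cp_7
  · exact chk_Cp_8
  · exact chk_Cp_9

theorem leaves_Cp : (pcsCp.all fun p => (leaves p.2).all fun z =>
    ((List.range 17).map fun i => rep i wq).contains z) = true := by decide +kernel

theorem centralizer_gq (g : M.G) (hg : g⁻¹ * gq * g = gq) : ∃ i : ℕ, g = gq ^ i := by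
  obtain ⟨p, hp, z, hz, hgz⟩ := search_pieces (L := L0) (lv' := lvA') factsA msA chk_msA iv invMap
    wq wq chk_wq chk_wq chk_srcA rfl pcsCp rfl chk_Cp g hg
  have h1 := leaves_Cp
  rw [List.all_eq_true] at h1
  have h2 := h1 p hp
  rw [List.all_eq_true] at h2
  have h3 := h2 z hz
  rw [List.contains_iff_mem, List.mem_map] at h3
  obtain ⟨i, _, rfl⟩ := h3
  exact ⟨i, by rw [hgz, gq_pow]⟩

theorem centralizer_gp (g : M.G) (hg : g⁻¹ * gp * g = gp) : ∃ i : ℕ, g = gp ^ i := by
  rw [gp_eq] at hg ⊢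
  exact centralizer_conj gq ge centralizer_gq g hg

theorem hE : ∀ k < 17, 0 < k → ∃ j, ∃ ε ∈ [1], 6 ^ j * k % 17 = ε % 17 := by
  have h : ∀ k < 17, 0 < k → ∃ j < 16, ∃ ε ∈ [1], 6 ^ j * k % 17 = ε % 17 := by decide
  intro k hk hk0
  obtain ⟨j, _, ε, hε, e⟩ := h k hk hk0
  exact ⟨j, ε, hε, e⟩

theorem normalizer_gp : ∀ n : M.G, (∃ k : ℕ, n⁻¹ * gp * n = gp ^ k) →
    ∃ i j : ℕ, n = gp ^ i * gh ^ j := by
  apply normalizer_of_transporters 17 6 [1] gp gh (by norm_num) orderOf_gp rel_ph hE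
    centralizer_gp
  intro ε hε hne g
  rw [List.mem_singleton] at hε
  subst hε
  exact absurd rfl hne

end Cfsg.Agent.Lib.Helper2.Fi23Out
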