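import Cfsg.Agent.Lib.Helper5.Srch2
import Cfsg.Agent.Lib.Helper2.Fi23OutD3

set_option autoImplicit false
set_option maxRecDepth 100000
set_option maxHeartbeats 0

/-! # The group `Fi23`: certificate of a search (generated data) -/

namespace Cfsg.Agent.Lib.Helper2.Fi23Out

open Cfsg.Agent.Lib.Helper5.Srch

/-- a piece of a certificate -/
noncomputable def cCh_0 : Cert := (Cert.rl [(3167, (.badPow 17289 1))])

/-- a piece of a certificate -/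
noncomputable def cCh_1 : Cert := (Cert.rl [(3167, (.badPow 17289 1))])

/-- a piece of a certificate -/
noncomputable def cCh_2 : Cert := (Cert.rl [(3167, (.badPow 17289 1))])

/-- a piece of a certificate -/
noncomputable def cCh_3 : Cert := (Cert.rl [(3167, (.badPow 17289 1))])

/-- a piece of a certificate -/
noncomputable def cCh_4 : Cert := (Cert.rl [(3167, (.badPow 17289 1))])

/-- a piece of a certificate -/
noncomputable def cCh_5 : Cert := (Cert.rl [(1454, (.badPow 17289 1)),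
  (1, (Cert.rl [(1, (.step [8, 18, 10, 20, 18, 8] .fail)),
  (1, (.step [8, 15, 18, 21, 10, 20, 16] .fail)),
  (23, .fail),
  (1, (.step [8, 15, 20, 19, 21] .fail)),
  (1, (.step [8, 16, 21, 8, 10, 20, 19] .fail)),
  (1, .fail),
  (1, (.step [8, 13, 15, 8, 20, 10, 16] .fail)),
  (2, .fail),
  (1, (.step [8, 13, 18, 10, 19] .fail)),
  (7, .fail),
  (1, (.step [8, 13, 18, 8, 10, 20, 12, 19] .fail)),
  (1, (.step [8, 13, 16, 8, 20, 11, 10, 21] .fail)),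
  (22, .fail),
  (1, (.step [8, 15, 20] .fail)),
  (11, .fail),
  (1, (.step [8, 18, 10, 21] (.step [10, 17, 18, 20] .fail))),
  (1, (.step [8, 18, 10, 19, 20] (.step [10, 20, 11, 10, 18] .fail))),
  (1, (.step [8, 13, 16, 20, 21, 10] .fail)),
  (1, .fail),
  (1, (.step [8, 16, 20, 21, 8] (.step [10, 17, 20] (.step [20, 12, 15, 19] (.step [19, 12, 15] (.step [13, 11] (.step [] (.step [] (Cert.rl [(1, (.done [13, 11, 19, 12, 15, 20, 12, 15, 19, 10, 17, 20, 8, 16, 20, 21, 8, 0, 7, 11, 0, 19, 10])),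
  (1, (.done [17, 14, 1, 6, 7, 18, 19, 14, 18, 20, 12, 6, 4, 0, 18, 20, 19, 10, 18, 8, 16, 15, 20, 10, 20, 19, 16, 20, 21, 11, 19, 11, 12, 11, 21, 20, 16, 19, 20, 10, 20, 15, 16, 8, 18, 10, 19, 20, 18, 0, 4, 6, 12, 20, 18, 14, 19, 18, 7, 6, 1, 15, 13, 11, 19, 12, 15, 20, 12, 15, 19, 10, 17, 20, 8, 16, 20, 21, 8, 0, 7, 11, 0, 19, 10]))]))))))))),
  (6, .fail),
  (1, (.step [8, 13, 16, 20, 21] .fail)),
  (6, .fail),
  (1, (.step [8, 13, 18, 10, 20, 21, 8] (.step [10, 12, 20, 19, 10] .fail))),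
  (19, .fail),
  (1, (.step [8, 16, 21, 10, 18, 20] .fail)),
  (11, .fail),
  (1, (.step [8, 15, 20, 10, 12, 20, 15] (.step [10, 12, 18, 20] .fail))),
  (2, .fail),
  (1, (.step [8, 13, 16, 20, 21, 10, 17] .fail)),
  (4, .fail),
  (1, (.step [8, 15, 18, 21, 10] .fail)),
  (1, (.step [8, 15, 16, 20, 10, 21] (.step [10, 18, 19, 10, 20] .fail))),
  (7, .fail),
  (1, (.step [8, 16, 18, 10, 20, 21] (.step [10, 11, 19, 20, 21] (.step [20, 11, 12, 18, 19] (.step [21] (.step [13, 11] (.step [13, 14, 11, 21, 20, 16, 19, 20, 10, 20, 15, 16, 8, 18, 10, 19, 20, 18, 0, 4, 6, 12, 20, 18, 14, 19, 18, 7, 6, 1, 18] (.step [16] (Cert.rl [(2, (.badAt 0))]))))))))),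
  (3, .fail),
  (1, (.step [8, 16, 20, 10, 12, 10] .fail)),
  (28, .fail),
  (1, (.step [8, 13, 15, 16, 20, 10, 11] (.step [10, 20, 11, 21] .fail))),
  (1, (.step [8, 16, 18, 10, 20] .fail)),
  (5, .fail),
  (1, (.step [8, 18, 20, 19, 10, 18] .fail)),
  (4, .fail),
  (1, (.step [8, 18, 10, 20, 18, 19] .fail)),
  (2, .fail),
  (1, (.step [8, 13, 16, 20, 10, 15] .fail)),
  (1, .fail),
  (1, (.step [8, 13, 21, 10, 20] .fail)),
  (1, (.step [8, 13, 18, 10, 20, 21] .fail)),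
  (1, (.step [8, 13, 18, 20, 21] .fail)),
  (1, .fail),
  (1, (.step [8, 18, 20] (.step [10, 17, 21] (.step [20, 11, 12, 16, 19, 20] .fail)))),
  (11, .fail),
  (1, (.step [8, 16, 21, 10] .fail)),
  (11, .fail),
  (1, (.step [8, 13, 15, 8, 20, 18] (.step [10, 12, 20, 12, 15] .fail))),
  (5, .fail),
  (1, (.step [8, 15, 18, 20, 18, 10, 19] .fail)),
  (7, .fail),
  (1, (.step [8, 13, 15, 18, 20] .fail)),
  (8, .fail),
  (1, (.step [8, 13, 15, 8, 20, 11, 10, 20] .fail)),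
  (4, .fail),
  (1, (.step [8, 16, 21, 10, 20] .fail)),
  (9, .fail),
  (1, (.step [8, 16, 20, 10, 12] (.step [10, 11, 17] (.step [20, 11, 16] (.step [18, 12, 15] (.step [18, 19, 12, 21] (.step [17, 13, 14, 11, 21, 20, 16, 19, 20, 10, 20, 15, 16, 8, 18, 10, 19, 20, 18, 0, 4, 6, 12, 20, 18, 14, 19, 18, 7, 6, 1, 18] (.step [16] (Cert.rl [(1, (.done [16, 17, 13, 14, 11, 21, 20, 16, 19, 20, 10, 20, 15, 16, 8, 18, 10, 19, 20, 18, 0, 4, 6, 12, 20, 18, 14, 19, 18, 7, 6, 1, 18, 18, 19, 12, 21, 18, 12, 15, 20, 11, 16, 10, 11, 17, 8, 16, 20, 10, 12, 0, 7, 16, 20, 19])),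
  (1, (.done [17, 14, 1, 6, 7, 18, 19, 14, 18, 20, 12, 6, 4, 0, 18, 20, 19, 10, 18, 8, 16, 15, 20, 10, 20, 19, 16, 20, 21, 11, 19, 11, 12, 11, 21, 20, 16, 19, 20, 10, 20, 15, 16, 8, 18, 10, 19, 20, 18, 0, 4, 6, 12, 20, 18, 14, 19, 18, 7, 6, 1, 15, 16, 17, 13, 14, 11, 21, 20, 16, 19, 20, 10, 20, 15, 16, 8, 18, 10, 19, 20, 18, 0, 4, 6, 12, 20, 18, 14, 19, 18, 7, 6, 1, 18, 18, 19, 12, 21, 18, 12, 15, 20, 11, 16, 10, 11, 17, 8, 16, 20, 10, 12, 0, 7, 16, 20, 19]))]))))))))),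
  (12, .fail),
  (1, (.step [8, 16, 20, 10] .fail)),
  (4, .fail),
  (1, (.step [8, 13, 15, 16, 21, 8, 10] .fail)),
  (4, .fail),
  (1, (.step [8, 13, 15, 20, 10, 11, 10] .fail)),
  (2, .fail),
  (1, (.step [8, 15, 16, 8, 20, 12, 18, 20] .fail)),
  (1, (.step [8, 18, 10, 12] .fail)),
  (6, .fail),
  (1, (.step [8, 13, 21, 10, 12] .fail)),
  (9, .fail),
  (1, (.step [8, 13, 15, 8, 20] .fail)),
  (1, .fail),
  (1, (.step [8, 18, 10, 19] (.step [10, 11, 20, 10, 21] (.step [20, 11, 12, 16] (.step [18] (.step [18, 19, 11, 11, 21, 20, 16, 19, 20, 10, 20, 15, 16, 8, 18, 10, 19, 20, 18, 0, 4, 6, 12, 20, 18, 14, 19, 18, 7, 6, 1] (.step [] (.step [] (Cert.rl [(2, (.badAt 0))]))))))))),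
  (10, .fail),
  (1, (.step [8, 13, 18, 8, 10, 20, 12, 19] (.step [10, 11, 20, 19, 10] (.step [20, 11] (.step [14, 15] (.step [18, 19, 11, 11, 21, 20, 16, 19, 20, 10, 20, 15, 16, 8, 18, 10, 19, 20, 18, 0, 4, 6, 12, 20, 18, 14, 19, 18, 7, 6, 1] (.step [17, 13, 14, 11, 21, 20, 16, 19, 20, 10, 20, 15, 16, 8, 18, 10, 19, 20, 18, 0, 4, 6, 12, 20, 18, 14, 19, 18, 7, 6, 1, 18] (.step [16] (Cert.rl [(2, (.badAt 0))]))))))))),
  (1, (.step [8, 13, 16] .fail)),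
  (1, .fail),
  (1, (.step [8, 18, 10, 20, 21, 8] .fail)),
  (5, .fail),
  (1, (.step [8, 13, 15, 8, 20, 18, 19, 10] .fail)),
  (6, .fail),
  (1, (.step [8, 13, 18, 10, 12, 21, 8] .fail)),
  (11, .fail),
  (1, (.step [8, 13, 18, 8, 20, 10, 17] .fail)),
  (11, .fail),
  (1, (.step [8, 16, 18, 8, 10, 20, 16] .fail)),
  (11, .fail),
  (1, (.step [8, 18, 20, 19, 10, 18] .fail)),
  (3, .fail),
  (1, (.step [8, 13, 16, 21, 10] (.step [10, 11, 12] (.step [20, 11, 12, 20] .fail)))),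
  (4, .fail),
  (1, (.step [8, 18, 20, 10, 18] (.step [10, 20, 11, 12] .fail))),
  (1, .fail),
  (1, (.step [8, 15, 16, 20, 10, 21] .fail)),
  (15, .fail),
  (1, (.step [8, 15, 20, 12, 10, 21] .fail)),
  (8, .fail),
  (1, (.step [8, 13, 16, 18, 10, 20] .fail)),
  (17, .fail),
  (1, (.step [8, 15, 16, 20, 10, 15] .fail)),
  (6, .fail),
  (1, (.step [8, 21, 10, 20] .fail)),
  (3, .fail),
  (1, (.step [8, 18, 20] .fail)),
  (4, .fail),
  (1, (.step [8, 13, 18, 8, 10, 20, 12, 19] .fail)),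
  (1, (.step [8, 15, 16, 20, 21, 10] .fail)),
  (3, .fail),
  (1, (.step [8, 18, 20, 10, 12, 15] (.step [10, 12, 21, 10] (.step [20, 12, 19] (.step [18, 12, 15] (.step [11] (.step [] (.step [] (Cert.rl [(1, (.done [11, 18, 12, 15, 20, 12, 19, 10, 12, 21, 10, 8, 18, 20, 10, 12, 15, 2, 12, 20, 18, 10])),
  (1, (.done [17, 14, 1, 6, 7, 18, 19, 14, 18, 20, 12, 6, 4, 0, 18, 20, 19, 10, 18, 8, 16, 15, 20, 10, 20, 19, 16, 20, 21, 11, 19, 11, 12, 11, 21, 20, 16, 19, 20, 10, 20, 15, 16, 8, 18, 10, 19, 20, 18, 0, 4, 6, 12, 20, 18, 14, 19, 18, 7, 6, 1, 15, 11, 18, 12, 15, 20, 12, 19, 10, 12, 21, 10, 8, 18, 20, 10, 12, 15, 2, 12, 20, 18, 10]))]))))))))),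
  (10, .fail),
  (1, (.step [8, 15, 18, 21, 10, 20] .fail)),
  (5, .fail),
  (1, (.step [8, 15, 18, 20] (.step [10, 11, 19] .fail))),
  (1, (.step [8, 18, 20, 12] .fail)),
  (1, (.step [8, 13, 18, 8, 20, 19, 10] .fail)),
  (2, .fail),
  (1, (.step [8, 13, 15, 16, 21] .fail)),
  (1, (.step [8, 13, 21, 8, 10, 20, 18] .fail)),
  (13, .fail),
  (1, (.step [8, 13, 18, 10, 20, 12] (.step [10, 12, 20, 19] .fail))),
  (3, .fail),
  (1, (.step [8, 18, 10] .fail)),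
  (1, (.step [8, 21, 10, 11, 20, 18, 8] .fail)),
  (2, .fail),
  (1, (.step [8, 15, 18, 8] .fail)),
  (6, .fail),
  (1, (.step [8, 13, 18, 20, 10] .fail)),
  (3, .fail),
  (1, (.step [8, 16, 20, 10, 11, 21] .fail)),
  (2, .fail),
  (1, (.step [8, 13, 15, 20, 16, 21] .fail)),
  (9, .fail),
  (1, (.step [8, 18, 10, 20, 18] .fail)),
  (1, .fail),
  (1, (.step [8, 15, 16, 20, 10] .fail)),
  (1, .fail),
  (1, (.step [8, 13, 16, 18, 21, 8] (.step [10, 17, 20, 21] (.step [20, 11, 18, 20] (.step [14, 19, 12, 15] (.step [13, 11] (.step [13, 14, 18, 1, 6, 7, 18, 19, 14, 18, 20, 12, 6, 4, 0, 18, 20, 19, 10, 18, 8, 16, 15, 20, 10, 20, 19, 16, 20, 21, 11] (.step [] (Cert.rl [(2, (.badAt 0))]))))))))),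
  (5, .fail),
  (1, (.step [8, 18, 20, 21, 8] .fail)),
  (3, .fail),
  (1, (.step [8, 15, 20, 16] .fail)),
  (5, .fail),
  (1, (.step [8, 13, 18, 10, 19, 20, 15] (.step [10, 20, 16, 18] .fail))),
  (6, .fail),
  (1, (.step [8, 15, 18, 8, 20, 16] .fail)),
  (9, .fail),
  (1, (.step [8, 13, 18, 10, 12] .fail)),
  (10, .fail),
  (1, (.step [8, 13, 15, 18, 20, 15] .fail)),
  (3, .fail),
  (1, (.step [8, 15, 20, 19, 21] .fail)),
  (9, .fail),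
  (1, (.step [8, 15, 20, 11, 10, 19] .fail)),
  (5, .fail),
  (1, (.step [8, 13, 16, 18, 10, 21, 10] (.step [10, 11, 12, 10, 20, 15] .fail))),
  (6, .fail),
  (1, (.step [8, 16, 20, 21, 10] .fail)),
  (2, .fail),
  (1, (.step [8, 13, 15, 18, 20, 18] .fail)),
  (4, .fail),
  (1, (.step [8, 13, 16, 20, 10, 11, 18] .fail)),
  (2, .fail),
  (1, (.step [8, 13, 18, 10] .fail)),
  (11, .fail),
  (1, (.step [8, 16, 20, 10, 18] .fail)),
  (1, (.step [8, 13, 15, 18, 20, 21, 10] .fail)),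
  (5, .fail),
  (1, (.step [8, 13, 18, 10, 19, 20] .fail)),
  (1, (.step [8, 13, 18, 8, 20, 19, 10] .fail)),
  (5, .fail),
  (1, (.step [8, 13, 15, 8, 20, 15] (.step [10, 11, 21, 10] (.step [20, 18, 19, 20] (.step [14, 19] (.step [13, 11] (.step [17, 13, 14, 11, 21, 20, 16, 19, 20, 10, 20, 15, 16, 8, 18, 10, 19, 20, 18, 0, 4, 6, 12, 20, 18, 14, 19, 18, 7, 6, 1, 18] (.step [] (Cert.rl [(1, (.done [17, 13, 14, 11, 21, 20, 16, 19, 20, 10, 20, 15, 16, 8, 18, 10, 19, 20, 18, 0, 4, 6, 12, 20, 18, 14, 19, 18, 7, 6, 1, 18, 13, 11, 14, 19, 20, 18, 19, 20, 10, 11, 21, 10, 8, 13, 15, 8, 20, 15, 0, 14, 20, 0])),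
  (1, (.done [17, 14, 1, 6, 7, 18, 19, 14, 18, 20, 12, 6, 4, 0, 18, 20, 19, 10, 18, 8, 16, 15, 20, 10, 20, 19, 16, 20, 21, 11, 19, 11, 12, 11, 21, 20, 16, 19, 20, 10, 20, 15, 16, 8, 18, 10, 19, 20, 18, 0, 4, 6, 12, 20, 18, 14, 19, 18, 7, 6, 1, 15, 17, 13, 14, 11, 21, 20, 16, 19, 20, 10, 20, 15, 16, 8, 18, 10, 19, 20, 18, 0, 4, 6, 12, 20, 18, 14, 19, 18, 7, 6, 1, 18, 13, 11, 14, 19, 20, 18, 19, 20, 10, 11, 21, 10, 8, 13, 15, 8, 20, 15, 0, 14, 20, 0]))]))))))))),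
  (1, (.step [8, 13, 15, 20, 11, 10] (.step [10, 11, 18, 10, 20, 11] .fail))),
  (8, .fail),
  (1, (.step [8, 13, 15, 20, 10, 11] .fail)),
  (1, .fail),
  (1, (.step [8, 13, 18, 8, 10, 20, 21] .fail)),
  (6, .fail),
  (1, (.step [8, 13, 15, 8, 20, 15, 19, 20] .fail)),
  (1, (.step [8, 18, 21, 10, 18, 20] (.step [10, 11, 18, 19, 21] (.step [20, 12, 18] (.step [19, 15] (.step [13, 18, 19, 12, 21] (.step [17] (.step [] (Cert.rl [(2, (.badAt 0))]))))))))),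
  (1, (.step [8, 13, 18, 10, 17, 20] .fail)),
  (9, .fail),
  (1, (.step [8, 15, 20, 10, 11, 10, 16] .fail)),
  (2, .fail),
  (1, (.step [8, 18, 20, 12, 10] (.step [10, 11, 19, 10, 20] (.step [20, 11, 12, 16, 19] .fail)))),
  (3, .fail),
  (1, (.step [8, 18, 10, 21, 10] .fail)),
  (13, .fail),
  (1, (.step [8, 18, 10, 20, 18, 21] (.step [10, 11, 20, 10, 21] .fail))),
  (1, (.step [8, 18, 20] .fail)),
  (4, .fail),
  (1, (.step [8, 13, 18, 20, 10] .fail)),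
  (3, .fail),
  (1, (.step [8, 15, 20, 10, 16, 20] (.step [10, 17] .fail))),
  (3, .fail),
  (1, (.step [8, 13, 15, 16, 20, 15] .fail)),
  (3, .fail),
  (1, (.step [8, 13, 15, 20, 11, 16] .fail)),
  (2, .fail),
  (1, (.step [8, 16, 20, 18, 10, 17] .fail)),
  (3, .fail),
  (1, (.step [8, 15, 21, 10] .fail)),
  (2, .fail),
  (1, (.step [8, 16, 18, 21] .fail)),
  (8, .fail),
  (1, (.step [8, 15, 16, 8, 20, 12] .fail)),
  (6, .fail),
  (1, (.step [8, 13, 15, 20, 10, 11, 10, 21] .fail)),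
  (1, .fail),
  (1, (.step [8, 15, 20, 11, 10, 20] .fail)),
  (6, .fail),
  (1, (.step [8, 16, 18, 20, 10] (.step [10, 11, 12, 18, 20, 11] .fail))),
  (4, .fail),
  (1, (.step [8, 13, 15, 8, 20, 11, 10, 20] .fail)),
  (4, .fail),
  (1, (.step [8, 13, 15, 8, 20, 10, 12] .fail)),
  (4, .fail),
  (1, (.step [8, 13, 18, 8, 10, 18, 19] .fail)),
  (10, .fail),
  (1, (.step [8, 16, 18, 10, 20] .fail)),
  (12, .fail),
  (1, (.step [8, 18, 10, 20, 12] .fail)),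
  (2, .fail),
  (1, (.step [8, 16, 20, 21, 10, 12] (.step [10, 17, 18, 10] .fail))),
  (7, .fail),
  (1, (.step [8, 18, 10, 21] .fail)),
  (1, (.step [8, 15, 18, 20] (.step [10, 18, 19, 21] (.step [20, 11, 15, 19] (.step [18, 12, 15] (.step [18, 19, 11, 11, 21, 20, 16, 19, 20, 10, 20, 15, 16, 8, 18, 10, 19, 20, 18, 0, 4, 6, 12, 20, 18, 14, 19, 18, 7, 6, 1] (.step [17, 13, 14, 18, 1, 6, 7, 18, 19, 14, 18, 20, 12, 6, 4, 0, 18, 20, 19, 10, 18, 8, 16, 15, 20, 10, 20, 19, 16, 20, 21, 11] (.step [16] (Cert.rl [(1, (.done [16, 17, 13, 14, 18, 1, 6, 7, 18, 19, 14, 18, 20, 12, 6, 4, 0, 18, 20, 19, 10, 18, 8, 16, 15, 20, 10, 20, 19, 16, 20, 21, 11, 18, 19, 11, 11, 21, 20, 16, 19, 20, 10, 20, 15, 16, 8, 18, 10, 19, 20, 18, 0, 4, 6, 12, 20, 18, 14, 19, 18, 7, 6, 1, 18, 12, 15, 20, 11, 15, 19, 10, 18, 19, 21, 8, 15, 18, 20, 0, 13, 17, 7])),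
  (1, (.done [17, 14, 1, 6, 7, 18, 19, 14, 18, 20, 12, 6, 4, 0, 18, 20, 19, 10, 18, 8, 16, 15, 20, 10, 20, 19, 16, 20, 21, 11, 19, 11, 12, 11, 21, 20, 16, 19, 20, 10, 20, 15, 16, 8, 18, 10, 19, 20, 18, 0, 4, 6, 12, 20, 18, 14, 19, 18, 7, 6, 1, 15, 16, 17, 13, 14, 18, 1, 6, 7, 18, 19, 14, 18, 20, 12, 6, 4, 0, 18, 20, 19, 10, 18, 8, 16, 15, 20, 10, 20, 19, 16, 20, 21, 11, 18, 19, 11, 11, 21, 20, 16, 19, 20, 10, 20, 15, 16, 8, 18, 10, 19, 20, 18, 0, 4, 6, 12, 20, 18, 14, 19, 18, 7, 6, 1, 18, 12, 15, 20, 11, 15, 19, 10, 18, 19, 21, 8, 15, 18, 20, 0, 13, 17, 7]))]))))))))),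
  (4, .fail),
  (1, (.step [8, 13, 16, 21, 10, 18] (.step [10, 18, 21, 10, 20] .fail))),
  (3, .fail),
  (1, (.step [8, 15, 20, 18, 21, 10] .fail)),
  (1, .fail),
  (1, (.step [8, 15, 16, 18, 21, 8] .fail)),
  (1, (.step [8, 13, 15, 8, 20, 10] .fail)),
  (1, .fail),
  (1, (.step [8, 16, 21, 10, 18] .fail)),
  (4, .fail),
  (1, (.step [8, 13, 16, 20, 21] .fail)),
  (1, (.step [8, 13, 18, 8, 20, 19, 10] .fail)),
  (7, .fail),
  (1, (.step [8, 15, 18, 20, 18, 10, 19] (.step [10, 12, 20, 12, 21] .fail))),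
  (1, (.step [8, 15, 20, 10, 11, 10, 16] .fail)),
  (5, .fail),
  (1, (.step [8, 18, 10, 19] .fail)),
  (11, .fail),
  (1, (.step [8, 18, 21, 8, 10] (.step [10, 11, 12, 10, 20, 15] .fail))),
  (5, .fail),
  (1, (.step [8, 15, 18, 20, 19] .fail)),
  (2, .fail),
  (1, (.step [8, 15, 16, 20] .fail)),
  (1, .fail),
  (1, (.step [8, 13, 15, 20, 11, 10, 17] .fail)),
  (5, .fail),
  (1, (.step [8, 15, 20, 11, 10, 21] .fail)),
  (5, .fail),
  (1, (.step [8, 13, 16, 18, 20, 10] .fail)),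
  (10, .fail),
  (1, (.step [8, 16, 21, 10, 20, 18] (.step [10, 11, 17, 10] (.step [20, 12, 15, 19] .fail)))),
  (9, .fail),
  (1, (.step [8, 13, 18, 20, 15] .fail)),
  (1, .fail),
  (1, (.step [8, 16, 18, 8, 20, 15] (.step [10, 12, 18, 20, 21] .fail))),
  (7, .fail),
  (1, (.step [8, 16, 18, 10, 20, 15] .fail)),
  (4, .fail),
  (1, (.step [8, 15, 20, 12, 16] .fail)),
  (9, .fail),
  (1, (.step [8, 15, 18, 10, 21] .fail)),
  (1, .fail),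
  (1, (.step [8, 18, 20, 10, 12] .fail)),
  (1, (.step [8, 13, 15, 20, 11, 19] .fail)),
  (10, .fail),
  (1, (.step [8, 15, 18, 20, 21, 10, 19] .fail)),
  (1, .fail),
  (1, (.step [8, 13, 21, 10, 18] .fail)),
  (3, .fail),
  (1, (.step [8, 13, 18, 20, 10, 17, 19] .fail)),
  (3, .fail),
  (1, (.step [8, 16, 20, 10, 11, 10] (.step [10, 11, 19, 20] (.step [20, 11, 12, 16] (.step [21] (.step [13, 18, 19, 12, 21] (.step [] (.step [16] (Cert.rl [(2, (.badAt 0))]))))))))),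
  (1, (.step [8, 13, 16, 18, 10, 20, 18] .fail)),
  (10, .fail),
  (1, (.step [8, 13, 15, 20, 10, 12] .fail)),
  (4, .fail),
  (1, (.step [8, 13, 18, 20, 12, 10] (.step [10, 11, 12, 10] .fail))),
  (11, .fail),
  (1, (.step [8, 18, 20, 12, 10, 17] .fail)),
  (1, (.step [8, 13, 18, 20, 11] .fail)),
  (2, .fail),
  (1, (.step [8, 15, 20, 18] .fail)),
  (12, .fail),
  (1, (.step [8, 16, 20, 21, 8, 10, 19] .fail)),
  (4, .fail),
  (1, (.step [8, 13, 18, 10, 20, 10] .fail)),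
  (5, .fail),
  (1, (.step [8, 16, 20, 10, 21] .fail)),
  (10, .fail),
  (1, (.step [8, 13, 15, 16, 20, 10, 16] .fail)),
  (5, .fail),
  (1, (.step [8, 15, 16, 20, 10, 12, 16] (.step [10, 12, 18, 20, 15] .fail))),
  (1, .fail),
  (1, (.step [8, 15, 18, 20, 21, 10, 19] (.step [10, 11, 12, 18, 20, 19] (.step [] .fail)))),
  (2, .fail),
  (1, (.step [8, 13, 15, 8, 20, 10, 21] .fail)),
  (13, .fail),
  (1, (.step [8, 13, 15, 16, 18, 10, 20] .fail)),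
  (10, .fail),
  (1, (.step [8, 21, 10, 12, 20] (.step [10, 11, 17, 10] .fail))),
  (17, .fail),
  (1, (.step [8, 13, 15, 20, 19] .fail)),
  (1, (.step [8, 13, 15, 18, 10, 21, 10] .fail)),
  (5, .fail),
  (1, (.step [8, 15, 16, 8, 20, 12, 18] .fail)),
  (12, .fail),
  (1, (.step [8, 13, 18] .fail)),
  (1, .fail),
  (1, (.step [8, 16, 18, 10, 20, 15] .fail)),
  (5, .fail),
  (1, (.step [8, 18, 21, 10, 19] .fail)),
  (5, .fail),
  (1, (.step [8, 13, 18, 10, 19, 20, 21] .fail)),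
  (8, .fail),
  (1, (.step [8, 15, 20, 19, 21] .fail)),
  (1, (.step [8, 21] .fail)),
  (3, .fail),
  (1, (.step [8, 15, 18, 8, 10, 21] .fail)),
  (11, .fail),
  (1, (.step [8, 15, 20, 10, 12, 17] .fail)),
  (4, .fail),
  (1, (.step [8, 13, 15, 20, 19, 21] .fail)),
  (1, .fail),
  (1, (.step [8, 21, 10, 19] .fail)),
  (8, .fail),
  (1, (.step [8, 15, 16, 20, 10] .fail)),
  (1, (.step [8, 15, 16, 20, 12] (.step [10, 11, 12, 18, 21] .fail))),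
  (2, .fail),
  (1, (.step [8, 13, 15, 8, 20, 15, 19] .fail)),
  (1, .fail),
  (1, (.step [8, 18, 20, 10, 12] .fail)),
  (1, (.step [8, 15, 20, 21, 8] .fail)),
  (4, .fail),
  (1, (.step [8, 13, 16, 20, 10, 11, 10] (.step [10, 11, 20, 10, 18] .fail))),
  (1, (.step [8, 13, 15, 8, 20, 10, 12, 20] .fail)),
  (1, .fail),
  (1, (.step [8, 13, 18, 21, 10, 17] .fail)),
  (1, (.step [8, 13, 16, 18, 10, 20] .fail)),
  (2, .fail),
  (1, (.step [8, 13, 15, 8, 20, 10] .fail)),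
  (1, .fail),
  (1, (.step [8, 13, 15, 8, 20, 10, 16] (.step [10, 11, 18, 19, 21, 10] .fail))),
  (2, .fail),
  (1, (.step [8, 13, 16, 20, 10, 11] (.step [10, 11, 19, 21] .fail))),
  (1, (.step [8, 15, 16, 20, 21, 10] (.step [10, 18, 20, 12] (.step [20, 11, 16, 20] (.step [14, 19, 12] (.step [13, 18, 19, 11, 11, 21, 20, 16, 19, 20, 10, 20, 15, 16, 8, 18, 10, 19, 20, 18, 0, 4, 6, 12, 20, 18, 14, 19, 18, 7, 6, 1] (.step [17, 13, 14, 18, 1, 6, 7, 18, 19, 14, 18, 20, 12, 6, 4, 0, 18, 20, 19, 10, 18, 8, 16, 15, 20, 10, 20, 19, 16, 20, 21, 11] (.step [] (Cert.rl [(2, (.badAt 0))]))))))))),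
  (2, .fail),
  (1, (.step [8, 13, 18, 21, 10, 17] .fail)),
  (21, .fail),
  (1, (.step [8, 13, 15, 18, 20, 15, 21] .fail)),
  (4, .fail),
  (1, (.step [8, 15, 21] (.step [10, 18, 20, 21] (.step [20, 11, 12, 15, 19] (.step [18, 15] (.step [11] (.step [13, 14, 18, 1, 6, 7, 18, 19, 14, 18, 20, 12, 6, 4, 0, 18, 20, 19, 10, 18, 8, 16, 15, 20, 10, 20, 19, 16, 20, 21, 11] (.step [16] (Cert.rl [(2, (.badAt 0))]))))))))),
  (1, (.step [8, 15, 16, 21, 10, 20] .fail)),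
  (1, .fail),
  (1, (.step [8, 18, 20, 10, 12, 10] (.step [10, 11, 17, 20, 11, 16] .fail))),
  (1, (.step [8, 13, 15, 8, 20, 10, 12, 18] .fail)),
  (1, (.step [8, 13, 16, 8, 20, 10, 18] .fail)),
  (1, (.step [8, 13, 18, 8, 20, 10, 17] (.step [10, 11, 19, 20, 16] .fail))),
  (1, .fail),
  (1, (.step [8, 13, 16, 20, 15] .fail)),
  (4, .fail),
  (1, (.step [8, 16, 18, 8, 20, 10] (.step [10, 17, 20, 10, 16, 20] (.step [20, 12, 16, 20] .fail)))),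
  (2, .fail),
  (1, (.step [8, 13, 15, 8, 20, 10, 12, 18] .fail)),
  (5, .fail),
  (1, (.step [8, 16, 20, 21, 10] (.step [10, 20, 21, 10] (.step [20, 11, 15] .fail)))),
  (8, .fail),
  (1, (.step [8, 16, 20, 21, 10] .fail)),
  (4, .fail),
  (1, (.step [8, 15, 16, 18, 10, 20, 15] (.step [10, 11, 12, 10, 20, 15] .fail))),
  (1, (.step [8, 13, 15, 20, 10, 12, 17] .fail)),
  (20, .fail),
  (1, (.step [8, 13, 18, 8, 20, 19, 10] (.step [10, 20, 16, 21] .fail))),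
  (6, .fail),
  (1, (.step [8, 18, 21, 8, 10] .fail)),
  (2, .fail),
  (1, (.step [8, 13, 18, 8, 10] (.step [10, 11, 17, 20, 11] (.step [20, 15, 19] (.step [14, 18, 19] (.step [13, 18, 19, 11, 11, 21, 20, 16, 19, 20, 10, 20, 15, 16, 8, 18, 10, 19, 20, 18, 0, 4, 6, 12, 20, 18, 14, 19, 18, 7, 6, 1] (.step [17, 13, 14, 11, 21, 20, 16, 19, 20, 10, 20, 15, 16, 8, 18, 10, 19, 20, 18, 0, 4, 6, 12, 20, 18, 14, 19, 18, 7, 6, 1, 18] (.step [] (Cert.rl [(1, (.done [17, 13, 14, 11, 21, 20, 16, 19, 20, 10, 20, 15, 16, 8, 18, 10, 19, 20, 18, 0, 4, 6, 12, 20, 18, 14, 19, 18, 7, 6, 1, 18, 13, 18, 19, 11, 11, 21, 20, 16, 19, 20, 10, 20, 15, 16, 8, 18, 10, 19, 20, 18, 0, 4, 6, 12, 20, 18, 14, 19, 18, 7, 6, 1, 14, 18, 19, 20, 15, 19, 10, 11, 17, 20, 11, 8, 13, 18, 8, 10, 0, 2, 11])),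
  (1, (.done [17, 14, 1, 6, 7, 18, 19, 14, 18, 20, 12, 6, 4, 0, 18, 20, 19, 10, 18, 8, 16, 15, 20, 10, 20, 19, 16, 20, 21, 11, 19, 11, 12, 11, 21, 20, 16, 19, 20, 10, 20, 15, 16, 8, 18, 10, 19, 20, 18, 0, 4, 6, 12, 20, 18, 14, 19, 18, 7, 6, 1, 15, 17, 13, 14, 11, 21, 20, 16, 19, 20, 10, 20, 15, 16, 8, 18, 10, 19, 20, 18, 0, 4, 6, 12, 20, 18, 14, 19, 18, 7, 6, 1, 18, 13, 18, 19, 11, 11, 21, 20, 16, 19, 20, 10, 20, 15, 16, 8, 18, 10, 19, 20, 18, 0, 4, 6, 12, 20, 18, 14, 19, 18, 7, 6, 1, 14, 18, 19, 20, 15, 19, 10, 11, 17, 20, 11, 8, 13, 18, 8, 10, 0, 2, 11]))]))))))))),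
  (1, (.step [8, 13, 16, 20, 10, 11, 10] (.step [10, 18, 19] .fail))),
  (5, .fail),
  (1, (.step [8, 15, 16, 20, 10, 15] .fail)),
  (2, .fail),
  (1, (.step [8, 16, 21, 8, 10, 20, 19] .fail)),
  (1, (.step [8, 18, 10, 12, 20] (.step [10, 20, 18, 10, 19] (.step [20, 11, 12, 15, 19, 20] (.step [] (.step [13] (.step [17, 13, 14, 11, 21, 20, 16, 19, 20, 10, 20, 15, 16, 8, 18, 10, 19, 20, 18, 0, 4, 6, 12, 20, 18, 14, 19, 18, 7, 6, 1, 18] (.step [] (Cert.rl [(1, (.done [17, 13, 14, 11, 21, 20, 16, 19, 20, 10, 20, 15, 16, 8, 18, 10, 19, 20, 18, 0, 4, 6, 12, 20, 18, 14, 19, 18, 7, 6, 1, 18, 13, 20, 11, 12, 15, 19, 20, 10, 20, 18, 10, 19, 8, 18, 10, 12, 20, 2, 16, 20])),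
  (1, (.done [17, 14, 1, 6, 7, 18, 19, 14, 18, 20, 12, 6, 4, 0, 18, 20, 19, 10, 18, 8, 16, 15, 20, 10, 20, 19, 16, 20, 21, 11, 19, 11, 12, 11, 21, 20, 16, 19, 20, 10, 20, 15, 16, 8, 18, 10, 19, 20, 18, 0, 4, 6, 12, 20, 18, 14, 19, 18, 7, 6, 1, 15, 17, 13, 14, 11, 21, 20, 16, 19, 20, 10, 20, 15, 16, 8, 18, 10, 19, 20, 18, 0, 4, 6, 12, 20, 18, 14, 19, 18, 7, 6, 1, 18, 13, 20, 11, 12, 15, 19, 20, 10, 20, 18, 10, 19, 8, 18, 10, 12, 20, 2, 16, 20]))]))))))))),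
  (4, .fail),
  (1, (.step [8, 13, 16, 20, 10, 11] .fail)),
  (1, .fail),
  (1, (.step [8, 15, 20, 10, 11, 16] .fail)),
  (12, .fail),
  (1, (.step [8, 16] .fail)),
  (1, .fail),
  (1, (.step [8, 13, 18, 10, 11] .fail)),
  (1, (.step [8, 18, 10, 20] .fail)),
  (6, .fail),
  (1, (.step [] (.step [] (.step [] (.step [] (.step [] (.step [] (.step [] (Cert.rl [(1, (.done [])),
  (1, (.done [3, 13, 12, 11, 3, 11, 12, 13, 3]))]))))))))),
  (1, (.step [8, 13, 15, 8, 20, 10, 11, 15] .fail)),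
  (2, .fail),
  (1, (.step [8, 13, 15, 8, 20, 12, 10, 15] .fail)),
  (1, (.step [8, 15, 20, 10] .fail)),
  (1, (.step [8, 18, 20, 21] .fail)),
  (5, .fail),
  (1, (.step [8, 13, 15, 8, 20, 11, 15, 20] .fail)),
  (2, .fail),
  (1, (.step [8, 15, 16, 18, 21, 10] .fail)),
  (6, .fail),
  (1, (.step [8, 18, 10, 19, 20, 21] .fail)),
  (8, .fail),
  (1, (.step [8, 13, 18, 10, 20, 21] .fail)),
  (6, .fail),
  (1, (.step [8, 18, 20, 11] .fail)),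
  (1, (.step [8, 13, 16, 8] .fail)),
  (1, .fail),
  (1, (.step [8, 18, 20, 11, 16] .fail)),
  (1, .fail),
  (1, (.step [8, 13, 15, 8, 20, 11] .fail)),
  (4, .fail),
  (1, (.step [8, 16, 21, 10, 20, 15] .fail)),
  (6, .fail),
  (1, (.step [8, 16, 20, 10, 12, 17] (.step [10, 12, 18] .fail))),
  (2, .fail),
  (1, (.step [8, 15, 16, 20, 10, 16] .fail)),
  (7, .fail),
  (1, (.step [8, 13, 21, 8] .fail)),
  (1, (.step [8, 16, 18, 8, 20, 10, 15] .fail)),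
  (5, .fail),
  (1, (.step [8, 13, 16, 8, 20, 10, 18] .fail)),
  (1, (.step [8, 15, 16, 20, 10, 17] (.step [10, 11, 17, 18, 21] (.step [20, 12, 15, 19] (.step [12] (.step [13, 18, 19, 12, 21] (.step [] (.step [] (Cert.rl [(2, (.badAt 0))]))))))))),
  (3, .fail),
  (1, (.step [8, 13, 21, 10, 17, 20] .fail)),
  (7, .fail),
  (1, (.step [8, 13, 16, 8, 20, 10] (.step [10, 12, 18, 20, 12] (.step [20, 15] (.step [19] (.step [11] (.step [13, 14, 11, 21, 20, 16, 19, 20, 10, 20, 15, 16, 8, 18, 10, 19, 20, 18, 0, 4, 6, 12, 20, 18, 14, 19, 18, 7, 6, 1, 18] (.step [] (Cert.rl [(2, (.badAt 0))]))))))))),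
  (4, .fail),
  (1, (.step [8, 13, 18, 8, 10, 12, 18] .fail)),
  (2, .fail),
  (1, (.step [8, 13, 18, 10, 17] (.step [10, 11, 17, 20, 11] .fail))),
  (10, .fail),
  (1, (.step [8, 16, 18, 10, 20, 11] .fail)),
  (1, .fail),
  (1, (.step [8, 13, 18, 10, 11, 21] (.step [10, 20, 11, 12, 10] .fail))),
  (15, .fail),
  (1, (.step [8, 16, 20, 18, 8] (.step [10, 12, 20, 19, 10] .fail))),
  (5, .fail),
  (1, (.step [8, 13, 16, 18, 20, 10, 17] .fail)),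
  (1, (.step [8, 18, 20, 10, 18, 8] .fail)),
  (4, .fail),
  (1, (.step [8, 16, 18, 10, 20, 11] .fail)),
  (3, .fail),
  (1, (.step [8, 13, 18, 8, 10, 11] .fail)),
  (3, .fail),
  (1, (.step [8, 13, 21, 10, 17, 20] .fail)),
  (1, (.step [8, 13, 16, 18, 20, 10] .fail)),
  (3, .fail),
  (1, (.step [8, 16, 21, 8, 10, 20, 21] .fail)),
  (2, .fail),
  (1, (.step [8, 13, 16, 18, 20, 10, 21] .fail)),
  (1, .fail),
  (1, (.step [8, 13, 18, 10, 12, 20] .fail)),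
  (1, .fail),
  (1, (.step [8, 21, 10, 17] .fail)),
  (1, .fail),
  (1, (.step [8, 13, 15, 8, 20] .fail)),
  (9, .fail),
  (1, (.step [8, 15, 18, 10, 21, 10] .fail)),
  (1, (.step [8, 16, 20, 10, 17] .fail)),
  (7, .fail),
  (1, (.step [8, 16, 18, 8, 20, 10] .fail)),
  (1, (.step [8, 13, 18, 10, 19, 20] (.step [10, 20, 12] (.step [20, 16, 19] (.step [19, 12, 15] (.step [11] (.step [17] (.step [16] (Cert.rl [(2, (.badAt 0))]))))))))),
  (1, (.step [8, 15, 16, 20] (.step [10, 12, 20, 15] .fail))),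
  (1, .fail),
  (1, (.step [8, 13, 18, 21, 10, 11] .fail)),
  (17, .fail),
  (1, (.step [8, 15, 16, 8, 20, 12, 18, 20] .fail)),
  (2, .fail),
  (1, (.step [8, 13, 21, 10, 12, 20] (.step [10, 18, 20, 12] .fail))),
  (9, .fail),
  (1, (.step [8, 13, 15, 8, 20, 19] .fail)),
  (1, .fail),
  (1, (.step [8, 13, 18, 8, 10, 12, 21] (.step [10, 17, 20, 10, 16] .fail))),
  (4, .fail),
  (1, (.step [8, 13, 15, 16, 18, 8] (.step [10, 18, 19, 10] (.step [20, 19] (.step [] (.step [11] (.step [] (.step [] (Cert.rl [(1, (.done [11, 20, 19, 10, 18, 19, 10, 8, 13, 15, 16, 18, 8, 0, 13, 14, 0])),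
  (1, (.done [17, 14, 1, 6, 7, 18, 19, 14, 18, 20, 12, 6, 4, 0, 18, 20, 19, 10, 18, 8, 16, 15, 20, 10, 20, 19, 16, 20, 21, 11, 19, 11, 12, 11, 21, 20, 16, 19, 20, 10, 20, 15, 16, 8, 18, 10, 19, 20, 18, 0, 4, 6, 12, 20, 18, 14, 19, 18, 7, 6, 1, 15, 11, 20, 19, 10, 18, 19, 10, 8, 13, 15, 16, 18, 8, 0, 13, 14, 0]))]))))))))),
  (5, .fail),
  (1, (.step [8, 15, 18, 8, 20] .fail)),
  (2, .fail),
  (1, (.step [8, 13, 16, 18, 21] .fail)),
  (8, .fail),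
  (1, (.step [8, 16, 20, 11, 10, 20] .fail)),
  (2, .fail),
  (1, (.step [8, 18, 20, 10, 16, 17] .fail)),
  (12, .fail),
  (1, (.step [8, 13, 21, 10, 12] .fail)),
  (1, .fail),
  (1, (.step [8, 16, 20, 10, 18] .fail)),
  (1, .fail),
  (1, (.step [8, 13, 21, 8, 10, 19] .fail)),
  (2, .fail),
  (1, (.step [8, 16, 18, 8, 20] .fail)),
  (6, .fail),
  (1, (.step [8, 16, 18, 8, 10, 20] .fail)),
  (2, .fail),
  (1, (.step [8, 21, 10, 12, 18] .fail)),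
  (18, .fail),
  (1, (.step [8, 13, 15, 8, 20, 11, 19] (.step [10, 11, 18, 19, 21, 10] .fail))),
  (2, .fail),
  (1, (.step [8, 15, 16, 8] .fail)),
  (8, .fail),
  (1, (.step [8, 15, 20, 10, 11, 10, 16] .fail)),
  (14, .fail),
  (1, (.step [8, 21, 10, 11, 20, 18] .fail)),
  (1, (.step [8, 18, 10, 17, 21] .fail)),
  (1, (.step [8, 13, 15, 8, 20, 18, 19] .fail)),
  (6, .fail),
  (1, (.step [8, 18, 20, 10, 15] .fail)),
  (4, .fail),
  (1, (.step [8, 21, 10, 11, 20, 18] (.step [10, 11, 17, 18] .fail))),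
  (16, .fail),
  (1, (.step [8, 13, 18, 8, 10, 17] .fail)),
  (4, .fail),
  (1, (.step [8, 13, 18, 20, 16] .fail)),
  (6, .fail),
  (1, (.step [8, 15, 20, 10, 16, 8] (.step [10, 12, 21] (.step [20, 11] (.step [19, 12] (.step [11] (.step [13, 14, 11, 21, 20, 16, 19, 20, 10, 20, 15, 16, 8, 18, 10, 19, 20, 18, 0, 4, 6, 12, 20, 18, 14, 19, 18, 7, 6, 1, 18] (.step [16] (Cert.rl [(2, (.badAt 0))]))))))))),
  (2, .fail),
  (1, (.step [8, 18, 10, 17, 20] .fail)),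
  (1, (.step [8, 13, 15, 16, 20, 10] .fail)),
  (22, .fail),
  (1, (.step [8, 13, 18, 10, 20, 12, 19] .fail)),
  (4, .fail),
  (1, (.step [8, 13, 16, 20, 10] (.step [10, 17, 18, 10, 20] .fail))),
  (6, .fail),
  (1, (.step [8, 13, 15, 20, 11, 16] .fail)),
  (1, (.step [8, 13, 15, 18, 20, 18] (.step [10, 12, 20, 19] .fail))),
  (1, (.step [8, 13, 18, 21, 10] (.step [10, 12, 18, 20, 15] (.step [20, 11, 16, 19] .fail)))),
  (8, .fail),
  (1, (.step [8, 15, 20, 12, 18, 10, 17] (.step [10, 20, 16, 21, 10] .fail))),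
  (4, .fail),
  (1, (.step [8, 15, 16, 18, 10, 21] .fail)),
  (5, .fail),
  (1, (.step [8, 18, 20, 12, 10, 11] .fail)),
  (2, .fail),
  (1, (.step [8, 13, 16, 18, 20, 10] .fail)),
  (5, .fail),
  (1, (.step [8, 13, 16, 20, 18, 10] .fail)),
  (4, .fail),
  (1, (.step [8, 16, 20, 21, 8, 10, 19] .fail)),
  (1, (.step [8, 13, 15, 16] .fail)),
  (9, .fail),
  (1, (.step [8, 13, 15, 16, 18, 8, 10] (.step [10, 12, 18, 20, 21] .fail))),
  (5, .fail),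
  (1, (.step [8, 13, 21, 8, 10, 12, 20] .fail)),
  (4, .fail),
  (1, (.step [8, 13, 21, 10] .fail)),
  (9, .fail),
  (1, (.step [8, 18, 10, 20, 18, 8] .fail)),
  (1, .fail),
  (1, (.step [8, 13, 15, 20, 10, 12, 16] (.step [10, 20, 11, 16] .fail))),
  (3, .fail),
  (1, (.step [8, 13, 15, 16, 20, 15] .fail)),
  (6, .fail),
  (1, (.step [8, 16, 20, 21, 10, 20] .fail)),
  (2, .fail),
  (1, (.step [8, 13, 18, 8, 10, 20, 12, 19] .fail)),
  (12, .fail),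
  (1, (.step [8, 13, 15, 20, 10] .fail)),
  (2, .fail),
  (1, (.step [8, 16, 20, 10, 12, 20] .fail)),
  (10, .fail),
  (1, (.step [8, 13, 16, 20, 10, 18] .fail)),
  (1, (.step [8, 13, 18, 8, 10, 19] (.step [10, 12, 20, 15, 19] .fail))),
  (1, (.step [8, 13, 15, 18, 21, 8] .fail)),
  (4, .fail),
  (1, (.step [8, 13, 18, 10, 12, 21] .fail)),
  (3, .fail),
  (1, (.step [8, 13, 15, 20, 11, 10, 21] .fail)),
  (17, .fail),
  (1, (.step [8, 13, 15, 16, 21, 8, 10] .fail)),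
  (11, .fail),
  (1, (.step [8, 13, 18, 10, 20, 19] (.step [10, 11, 20, 11, 21, 10] .fail))),
  (11, .fail),
  (1, (.step [8, 16, 18, 10, 20, 11] .fail)),
  (8, .fail),
  (1, (.step [8, 18, 10, 17, 21] .fail)),
  (1, (.step [8, 15, 16, 8, 20, 12, 10] .fail)),
  (1, (.step [8, 16, 20, 21, 10, 12] .fail)),
  (1, (.step [8, 13, 18, 20, 12, 10] .fail)),
  (1, .fail),
  (1, (.step [8, 13, 15, 16, 18, 10] .fail)),
  (1, .fail),
  (1, (.step [8, 16, 18, 21, 10] .fail)),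
  (1, .fail),
  (1, (.step [8, 13, 21, 10, 20, 16] .fail)),
  (27, .fail),
  (1, (.step [8, 13, 15, 8, 20, 11, 16] .fail)),
  (7, .fail),
  (1, (.step [8, 18, 20, 10, 15] .fail)),
  (29, .fail),
  (1, (.step [8, 16, 18, 20, 10, 11] .fail)),
  (3, .fail),
  (1, (.step [8, 18, 10, 12, 20] .fail)),
  (6, .fail),
  (1, (.step [8, 13, 15, 16, 18] .fail)),
  (9, .fail),
  (1, (.step [8, 13, 15, 20, 11, 16] .fail)),
  (1, .fail),
  (1, (.step [8, 18, 21] .fail)),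
  (24, .fail),
  (1, (.step [8, 13, 21, 8, 10, 11, 20, 16] .fail)),
  (19, .fail),
  (1, (.step [8, 15, 20, 11, 18, 10] (.step [10, 11, 20, 21] .fail))),
  (5, .fail),
  (1, (.step [8, 13, 21, 8, 10, 19] .fail)),
  (9, .fail),
  (1, (.step [8, 16] .fail)),
  (1, (.step [8, 15, 16, 18, 10, 20, 15] .fail)),
  (1, (.step [8, 18, 21, 10, 17] .fail)),
  (1, (.step [8, 13, 21, 8, 10, 11] .fail)),
  (1, (.step [8, 13, 18, 10, 12, 21] .fail)),
  (4, .fail),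
  (1, (.step [8, 13, 15, 20, 19, 21] (.step [10, 11, 17, 20, 19] .fail))),
  (4, .fail),
  (1, (.step [8, 13, 15, 16, 18] .fail)),
  (2, .fail),
  (1, (.step [8, 13, 18, 8, 10, 17, 18] .fail)),
  (2, .fail),
  (1, (.step [8, 13, 15, 16, 18, 21, 10] .fail)),
  (8, .fail),
  (1, (.step [8, 13, 16, 20, 15, 21, 10] .fail)),
  (5, .fail),
  (1, (.step [8, 13, 16, 18, 21, 10, 18] .fail)),
  (1, (.step [8, 13, 18, 10, 12] .fail)),
  (4, .fail),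
  (1, (.step [8, 15, 20, 10, 11] (.step [10, 11, 12, 18, 20, 11] .fail))),
  (3, .fail),
  (1, (.step [8, 18, 20, 12, 10] .fail)),
  (1, (.step [8, 16, 18, 8, 20, 10, 17] .fail)),
  (1, (.step [8, 13, 16, 20, 10, 18, 10] .fail)),
  (10, .fail),
  (1, (.step [8, 16, 20, 21, 8, 10, 21] .fail)),
  (8, .fail),
  (1, (.step [8, 16, 20, 21, 8, 10, 12] .fail)),
  (1, .fail),
  (1, (.step [8, 13, 15, 8, 20, 10, 16, 21] .fail)),
  (1, (.step [8, 16, 18, 10, 20, 19] .fail)),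
  (5, .fail),
  (1, (.step [8, 15, 18] (.step [10, 11, 20, 11, 21, 10] (.step [20, 11, 15, 20] .fail)))),
  (1, .fail),
  (1, (.step [8, 16, 18, 21, 10, 20] (.step [10, 11, 19, 20, 19] .fail))),
  (1, (.step [8, 16, 20, 11, 10, 17] .fail)),
  (1, (.step [8, 15, 20, 11, 18] .fail)),
  (2, .fail),
  (1, (.step [8, 13, 15, 20, 10, 11] .fail)),
  (4, .fail),
  (1, (.step [8, 13, 16, 21, 10, 18] .fail)),
  (1, (.step [8, 16, 20, 21, 10, 20, 16] (.step [10, 17, 20, 10, 16] (.step [] (.step [14] (.step [] (.step [17] (.step [16] (Cert.rl [(2, (.badAt 0))]))))))))),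
  (2, .fail),
  (1, (.step [8, 15, 16, 18, 10, 20] .fail)),
  (9, .fail),
  (1, (.step [8, 15, 16, 20, 10, 16] .fail)),
  (9, .fail),
  (1, (.step [8, 13, 15, 20, 11] (.step [10, 18, 19, 20] (.step [20, 11, 15] (.step [18, 15] (.step [13, 11] (.step [13, 14, 18, 1, 6, 7, 18, 19, 14, 18, 20, 12, 6, 4, 0, 18, 20, 19, 10, 18, 8, 16, 15, 20, 10, 20, 19, 16, 20, 21, 11] (.step [] (Cert.rl [(1, (.done [13, 14, 18, 1, 6, 7, 18, 19, 14, 18, 20, 12, 6, 4, 0, 18, 20, 19, 10, 18, 8, 16, 15, 20, 10, 20, 19, 16, 20, 21, 11, 13, 11, 18, 15, 20, 11, 15, 10, 18, 19, 20, 8, 13, 15, 20, 11, 0, 13, 15, 0])),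
  (1, (.done [17, 14, 1, 6, 7, 18, 19, 14, 18, 20, 12, 6, 4, 0, 18, 20, 19, 10, 18, 8, 16, 15, 20, 10, 20, 19, 16, 20, 21, 11, 19, 11, 12, 11, 21, 20, 16, 19, 20, 10, 20, 15, 16, 8, 18, 10, 19, 20, 18, 0, 4, 6, 12, 20, 18, 14, 19, 18, 7, 6, 1, 15, 13, 14, 18, 1, 6, 7, 18, 19, 14, 18, 20, 12, 6, 4, 0, 18, 20, 19, 10, 18, 8, 16, 15, 20, 10, 20, 19, 16, 20, 21, 11, 13, 11, 18, 15, 20, 11, 15, 10, 18, 19, 20, 8, 13, 15, 20, 11, 0, 13, 15, 0]))]))))))))),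
  (1, (.step [8, 18, 20, 10, 16] .fail)),
  (3, .fail),
  (1, (.step [8, 15, 16, 8, 20, 12, 10, 21] .fail)),
  (1, .fail),
  (1, (.step [8, 15, 20, 12, 10] .fail)),
  (1, (.step [8, 13, 15, 18, 20, 18] .fail)),
  (3, .fail),
  (1, (.step [8, 16, 20, 10] .fail)),
  (1, (.step [8, 15, 20, 10, 16, 20, 19] .fail)),
  (3, .fail),
  (1, (.step [8, 16, 18, 10, 20, 21] .fail)),
  (14, .fail),
  (1, (.step [8, 15, 16, 8, 20, 12, 10, 21] .fail)),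
  (26, .fail),
  (1, (.step [8, 13, 18, 10, 12, 20] .fail)),
  (4, .fail),
  (1, (.step [8, 16, 18, 8, 10, 20, 16] .fail)),
  (1, (.step [8, 15, 20, 10, 11, 16] (.step [10, 18, 19] (.step [20, 11, 12, 20] (.step [12, 15] (.step [18, 19, 12, 21] (.step [13, 14, 18, 1, 6, 7, 18, 19, 14, 18, 20, 12, 6, 4, 0, 18, 20, 19, 10, 18, 8, 16, 15, 20, 10, 20, 19, 16, 20, 21, 11] (.step [16] (Cert.rl [(1, (.done [16, 13, 14, 18, 1, 6, 7, 18, 19, 14, 18, 20, 12, 6, 4, 0, 18, 20, 19, 10, 18, 8, 16, 15, 20, 10, 20, 19, 16, 20, 21, 11, 18, 19, 12, 21, 12, 15, 20, 11, 12, 20, 10, 18, 19, 8, 15, 20, 10, 11, 16, 2, 7, 9, 8, 10])),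
  (1, (.done [17, 14, 1, 6, 7, 18, 19, 14, 18, 20, 12, 6, 4, 0, 18, 20, 19, 10, 18, 8, 16, 15, 20, 10, 20, 19, 16, 20, 21, 11, 19, 11, 12, 11, 21, 20, 16, 19, 20, 10, 20, 15, 16, 8, 18, 10, 19, 20, 18, 0, 4, 6, 12, 20, 18, 14, 19, 18, 7, 6, 1, 15, 16, 13, 14, 18, 1, 6, 7, 18, 19, 14, 18, 20, 12, 6, 4, 0, 18, 20, 19, 10, 18, 8, 16, 15, 20, 10, 20, 19, 16, 20, 21, 11, 18, 19, 12, 21, 12, 15, 20, 11, 12, 20, 10, 18, 19, 8, 15, 20, 10, 11, 16, 2, 7, 9, 8, 10]))]))))))))),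
  (1, (.step [8, 13, 15, 20, 10, 12, 17] (.step [10, 11, 17, 18, 21] .fail))),
  (3, .fail),
  (1, (.step [8, 13, 15, 18, 10] (.step [10, 18, 21] .fail))),
  (10, .fail),
  (1, (.step [8, 13, 15, 18, 20, 18] .fail)),
  (2, .fail),
  (1, (.step [8, 18, 21] (.step [10, 17, 20, 10, 15] .fail))),
  (1, (.step [8, 13, 16, 20, 10, 18] (.step [10, 17, 18, 21] .fail))),
  (9, .fail),
  (1, (.step [8, 13, 15, 8, 20, 10, 15] .fail)),
  (1, .fail),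
  (1, (.step [8, 15, 18, 20, 21, 10, 19] .fail)),
  (24, .fail),
  (1, (.step [8, 13, 18, 8, 10, 20, 21] .fail)),
  (2, .fail),
  (1, (.step [8, 18, 10, 19] .fail)),
  (2, .fail),
  (1, (.step [8, 13, 15, 18, 20, 19] .fail)),
  (8, .fail),
  (1, (.step [8, 16, 21, 8, 10, 20, 16] (.step [10, 11, 18, 19, 21] .fail))),
  (4, .fail),
  (1, (.step [8, 13, 18, 10, 19, 20, 16] .fail)),
  (8, .fail),
  (1, (.step [8, 16, 18, 20] .fail)),
  (1, .fail),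
  (1, (.step [8, 13, 15, 8, 20, 10, 16, 21] .fail)),
  (13, .fail),
  (1, (.step [8, 13, 16, 18, 10, 20] .fail)),
  (11, .fail),
  (1, (.step [8, 15, 20, 10, 16, 20] .fail)),
  (1, .fail),
  (1, (.step [8, 15, 16, 8, 20, 18, 10] (.step [10, 12, 20, 10, 15] (.step [20, 12, 19] .fail)))),
  (12, .fail),
  (1, (.step [8, 13, 16, 18, 21, 8, 10] .fail)),
  (1, (.step [8, 15, 20, 10, 12, 16, 17] .fail)),
  (1, (.step [8, 15, 18, 20, 19] .fail)),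
  (2, .fail),
  (1, (.step [8, 15, 18, 20, 18, 10] (.step [10, 11, 20, 10, 18] .fail))),
  (6, .fail),
  (1, (.step [8, 15, 18, 21] .fail)),
  (10, .fail),
  (1, (.step [8, 16, 20, 12, 10, 19] .fail)),
  (3, .fail),
  (1, (.step [8, 13, 16, 8, 20, 10, 18] .fail)),
  (26, .fail),
  (1, (.step [8, 15, 18, 8, 10] .fail)),
  (1, (.step [8, 13, 16] .fail)),
  (1, .fail),
  (1, (.step [8, 16, 20, 21, 10, 19] .fail)),
  (4, .fail),
  (1, (.step [8, 13, 16, 8, 20, 10, 11] (.step [10, 20, 15, 16] (.step [20, 11, 12, 18] .fail)))),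
  (2, .fail),
  (1, (.step [8, 16, 21, 8] .fail)),
  (9, .fail),
  (1, (.step [8, 16, 20, 18, 10, 11] .fail)),
  (5, .fail),
  (1, (.step [8, 15, 20, 10, 12, 16] .fail)),
  (8, .fail),
  (1, (.step [8, 13, 16, 20, 11] .fail)),
  (1, (.step [8, 13, 18, 8, 10, 12, 21] .fail)),
  (15, .fail),
  (1, (.step [8, 13, 18, 8, 10, 11, 18, 20] .fail)),
  (12, .fail),
  (1, (.step [8, 18, 10, 17, 20, 18] (.step [10, 11, 17, 20, 21] .fail))),
  (10, .fail),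
  (1, (.step [8, 18, 20, 12, 10, 18] .fail)),
  (3, .fail),
  (1, (.step [8, 15, 20, 12, 16] (.step [10, 11, 20, 10] (.step [20, 11, 12] .fail)))),
  (2, .fail),
  (1, (.step [8, 13, 16, 20, 10, 21, 10] .fail)),
  (2, .fail),
  (1, (.step [8, 15, 18, 20] (.step [10, 11, 19, 20, 15, 18] .fail))),
  (2, .fail),
  (1, (.step [8, 13, 15, 8, 20, 11, 10, 20] .fail)),
  (1, .fail),
  (1, (.step [8, 13, 18, 10, 20, 21] .fail)),
  (1, (.step [8, 13, 15, 18, 21, 8, 10] (.step [10, 11, 17] (.step [20, 15] (.step [19, 15] (.step [13, 18, 19, 12, 21] (.step [17, 13, 14, 11, 21, 20, 16, 19, 20, 10, 20, 15, 16, 8, 18, 10, 19, 20, 18, 0, 4, 6, 12, 20, 18, 14, 19, 18, 7, 6, 1, 18] (.step [] (Cert.rl [(1, (.done [17, 13, 14, 11, 21, 20, 16, 19, 20, 10, 20, 15, 16, 8, 18, 10, 19, 20, 18, 0, 4, 6, 12, 20, 18, 14, 19, 18, 7, 6, 1, 18, 13, 18, 19, 12, 21, 19, 15, 20, 15, 10, 11, 17, 8, 13,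 15, 18, 21, 8, 10, 7, 9, 21, 8, 13])),
  (1, (.done [17, 14, 1, 6, 7, 18, 19, 14, 18, 20, 12, 6, 4, 0, 18, 20, 19, 10, 18, 8, 16, 15, 20, 10, 20, 19, 16, 20, 21, 11, 19, 11, 12, 11, 21, 20, 16, 19, 20, 10, 20, 15, 16, 8, 18, 10, 19, 20, 18, 0, 4, 6, 12, 20, 18, 14, 19, 18, 7, 6, 1, 15, 17, 13, 14, 11, 21, 20, 16, 19, 20, 10, 20, 15, 16, 8, 18, 10, 19, 20, 18, 0, 4, 6, 12, 20, 18, 14, 19, 18, 7, 6, 1, 18, 13, 18, 19, 12, 21, 19, 15, 20, 15, 10, 11, 17, 8, 13, 15, 18, 21, 8, 10, 7, 9, 21, 8, 13]))]))))))))),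
  (1, .fail),
  (1, (.step [8, 13, 18, 10, 19] .fail)),
  (4, .fail),
  (1, (.step [8, 13, 15, 8, 20, 10, 12] .fail)),
  (4, .fail),
  (1, (.step [8, 13, 18, 10, 21] .fail)),
  (15, .fail),
  (1, (.step [8, 16, 20, 10, 11, 17] .fail)),
  (2, .fail),
  (1, (.step [8, 13, 16, 18, 21, 8, 10] .fail)),
  (9, .fail),
  (1, (.step [8, 13, 18, 10, 20, 19] .fail)),
  (3, .fail),
  (1, (.step [8, 13, 15, 20, 11, 10, 21] (.step [10, 18, 21, 10, 20] (.step [20, 11, 19] .fail)))),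
  (1, (.step [8, 15, 20] (.step [10, 11, 21, 10] (.step [20, 11, 16, 19] .fail)))),
  (7, .fail),
  (1, (.step [8, 16, 18, 20] .fail)),
  (14, .fail),
  (1, (.step [8, 13, 15, 16, 20, 10, 12] .fail)),
  (1, (.step [8, 13, 16, 20, 18, 10] (.step [10, 17, 20, 10] .fail))),
  (3, .fail),
  (1, (.step [8, 13, 15, 16, 18, 10, 20] (.step [10, 18, 20, 12] .fail))),
  (1, (.step [8, 13, 15, 16, 18, 10, 20] (.step [10, 11, 20, 19, 10] .fail))),
  (3, .fail),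
  (1, (.step [8, 18, 10, 20, 12, 19] .fail)),
  (2, .fail),
  (1, (.step [8, 16, 18, 8, 20] .fail)),
  (2, .fail),
  (1, (.step [8, 18, 21] .fail)),
  (1, .fail),
  (1, (.step [8, 13, 15, 16, 18, 8] (.step [10, 11, 19, 20, 12] .fail))),
  (19, .fail),
  (1, (.step [8, 13, 21, 10, 17, 18] .fail)),
  (1, .fail),
  (1, (.step [8, 13, 18, 8, 20, 10] .fail)),
  (2, .fail),
  (1, (.step [8, 13, 16, 18, 21, 8] (.step [10, 12, 18, 20, 15] (.step [] (.step [19, 12, 15] (.step [13, 18, 19, 12, 21] (.step [13, 14, 18, 1, 6, 7, 18, 19, 14, 18, 20, 12, 6, 4, 0, 18, 20, 19, 10, 18, 8, 16, 15, 20, 10, 20, 19, 16, 20, 21, 11] (.step [] (Cert.rl [(1, (.done [13, 14, 18, 1, 6, 7, 18, 19, 14, 18, 20, 12, 6, 4, 0, 18, 20, 19, 10, 18, 8, 16, 15, 20, 10, 20, 19, 16, 20, 21, 11, 13, 18, 19, 12, 21, 19, 12, 15, 10, 12, 18, 20, 15, 8, 13, 16, 18, 21, 8, 0, 11, 19, 0])),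
  (1, (.done [17, 14, 1, 6, 7, 18, 19, 14, 18, 20, 12, 6, 4, 0, 18, 20, 19, 10, 18, 8, 16, 15, 20, 10, 20, 19, 16, 20, 21, 11, 19, 11, 12, 11, 21, 20, 16, 19, 20, 10, 20, 15, 16, 8, 18, 10, 19, 20, 18, 0, 4, 6, 12, 20, 18, 14, 19, 18, 7, 6, 1, 15, 13, 14, 18, 1, 6, 7, 18, 19, 14, 18, 20, 12, 6, 4, 0, 18, 20, 19, 10, 18, 8, 16, 15, 20, 10, 20, 19, 16, 20, 21, 11, 13, 18, 19, 12, 21, 19, 12, 15, 10, 12, 18, 20, 15, 8, 13, 16, 18, 21, 8, 0, 11, 19, 0]))]))))))))),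
  (20, .fail),
  (1, (.step [8, 16, 20, 10, 11, 20] (.step [10, 11, 17, 21] .fail))),
  (1, .fail),
  (1, (.step [8, 13, 15, 16, 21, 8, 10] .fail)),
  (3, .fail),
  (1, (.step [8, 13, 21, 8, 10, 17, 20] .fail)),
  (1, (.step [8, 15, 16, 20, 15, 8] (.step [10, 12, 20, 21] .fail))),
  (3, .fail),
  (1, (.step [8, 13, 21, 10, 20, 16] .fail)),
  (1, (.step [8, 13, 21, 10, 17, 18] .fail)),
  (1, (.step [8, 15, 18, 20, 21] .fail)),
  (2, .fail),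
  (1, (.step [8, 13, 18, 8, 10, 21] .fail)),
  (2, .fail),
  (1, (.step [8, 13, 15, 20, 11, 19] (.step [10, 17, 20, 12] .fail))),
  (4, .fail),
  (1, (.step [8, 16, 20, 10, 17] .fail)),
  (1, .fail),
  (1, (.step [8, 13, 18, 21, 10, 17] .fail)),
  (4, .fail),
  (1, (.step [8, 13, 16, 18, 21] (.step [10, 11, 21, 10, 20] (.step [20, 11, 15, 19] (.step [14, 19, 12] (.step [13] (.step [17, 13, 14, 18, 1, 6, 7, 18, 19, 14, 18, 20, 12, 6, 4, 0, 18, 20, 19, 10, 18, 8, 16, 15, 20, 10, 20, 19, 16, 20, 21, 11] (.step [16] (Cert.rl [(2, (.badAt 0))]))))))))),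
  (7, .fail),
  (1, (.step [8, 13, 16, 20, 12, 10] .fail)),
  (1, (.step [8, 13, 15, 18, 20, 21] .fail)),
  (1, .fail),
  (1, (.step [8, 21, 10, 12] .fail)),
  (1, .fail),
  (1, (.step [8, 18, 10, 20, 21] (.step [10, 11, 18] .fail))),
  (10, .fail),
  (1, (.step [8, 15, 20, 10, 16, 17] .fail)),
  (1, (.step [8, 18, 10, 12] .fail)),
  (5, .fail),
  (1, (.step [8, 15, 18, 10] (.step [10, 12, 20, 10, 15] (.step [20, 18] .fail)))),
  (1, .fail),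
  (1, (.step [8, 15, 20, 11, 10, 21] .fail)),
  (1, .fail),
  (1, (.step [8, 16, 20, 12, 10] .fail)),
  (8, .fail),
  (1, (.step [8, 18, 10, 12, 21] (.step [10, 11, 17, 20, 21] .fail))),
  (1, .fail),
  (1, (.step [8, 13, 15, 20, 12, 18] (.step [10, 20, 18, 10] .fail))),
  (1, (.step [8, 21, 10, 20] .fail)),
  (2, .fail),
  (1, (.step [8, 15, 20, 21] .fail)),
  (1, .fail),
  (1, (.step [8, 18, 21, 10, 12, 20] (.step [10, 20, 11, 12] .fail))),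
  (1, (.step [8, 16, 20, 11, 10, 17] (.step [10, 18, 20, 16] .fail))),
  (3, .fail),
  (1, (.step [8, 13, 15, 21] .fail)),
  (5, .fail),
  (1, (.step [8, 13, 16, 8, 20, 10, 17] .fail)),
  (3, .fail),
  (1, (.step [8, 13, 16, 20, 10, 11, 18] .fail)),
  (1, .fail),
  (1, (.step [8, 18, 10, 19, 21] (.step [10, 11, 12, 10, 20, 15] .fail))),
  (1, .fail),
  (1, (.step [8, 13, 16, 8, 20] (.step [10, 17, 20] .fail))),
  (1, .fail),
  (1, (.step [8, 13, 15, 16, 20, 10, 12] .fail)),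
  (1, (.step [8, 13, 15, 20, 10, 11] .fail)),
  (2, .fail),
  (1, (.step [8, 18, 21] .fail)),
  (1, (.step [8, 13, 16, 20, 10, 15] .fail)),
  (1, (.step [8, 13, 21, 10, 12] .fail)),
  (2, .fail),
  (1, (.step [8, 16, 18, 8, 10, 20, 10] .fail)),
  (1, (.step [8, 18, 10, 20, 16, 8] .fail)),
  (11, .fail),
  (1, (.step [8, 13, 18, 20, 10] (.step [10, 18, 19, 20, 19] (.step [20] (.step [15, 21] (.step [13, 18, 19, 12, 21] (.step [17] (.step [16] (Cert.rl [(1, (.done [16, 17, 13, 18, 19, 12, 21, 15, 21, 20, 10, 18, 19, 20, 19, 8, 13, 18, 20, 10, 0, 9, 11, 13, 19])),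
  (1, (.done [17, 14, 1, 6, 7, 18, 19, 14, 18, 20, 12, 6, 4, 0, 18, 20, 19, 10, 18, 8, 16, 15, 20, 10, 20, 19, 16, 20, 21, 11, 19, 11, 12, 11, 21, 20, 16, 19, 20, 10, 20, 15, 16, 8, 18, 10, 19, 20, 18, 0, 4, 6, 12, 20, 18, 14, 19, 18, 7, 6, 1, 15, 16, 17, 13, 18, 19, 12, 21, 15, 21, 20, 10, 18, 19, 20, 19, 8, 13, 18, 20, 10, 0, 9, 11, 13, 19]))]))))))))),
  (3, .fail),
  (1, (.step [8, 13, 18, 21, 10] .fail)),
  (1, .fail),
  (1, (.step [8, 21, 10, 17, 18] .fail)),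
  (11, .fail),
  (1, (.step [8, 16, 20, 21, 10, 12] .fail)),
  (13, .fail),
  (1, (.step [8, 21, 10, 17, 20] (.step [10, 20, 12, 10] .fail))),
  (6, .fail),
  (1, (.step [8, 16, 20, 21, 10, 20, 16] .fail)),
  (1, .fail),
  (1, (.step [8, 15, 20, 11, 16] .fail)),
  (3, .fail),
  (1, (.step [8, 16, 20, 21, 8] .fail)),
  (2, .fail),
  (1, (.step [8, 15, 20, 11, 10, 21] .fail)),
  (5, .fail),
  (1, (.step [8, 13, 16, 8, 20, 10, 18] .fail)),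
  (13, .fail),
  (1, (.step [8, 16, 20, 21, 10, 20] .fail)),
  (8, .fail),
  (1, (.step [8, 13, 16, 18, 21, 8] (.step [10, 20, 16, 21, 10, 20] .fail))),
  (10, .fail),
  (1, (.step [8, 15, 16, 20, 10, 16] .fail)),
  (2, .fail),
  (1, (.step [8, 13, 15, 20, 11, 10, 17] .fail)),
  (1, (.step [8, 15, 16, 21] .fail)),
  (5, .fail),
  (1, (.step [8, 15, 20, 11, 16] (.step [10, 11, 20, 15] .fail))),
  (1, (.step [8, 13, 15, 20, 10] .fail)),
  (3, .fail),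
  (1, (.step [8, 13, 16, 20, 21] .fail)),
  (8, .fail),
  (1, (.step [8, 13, 16, 8, 20, 10, 12, 17] .fail)),
  (1, (.step [8, 13, 15, 8, 20, 15, 19] .fail)),
  (1, .fail),
  (1, (.step [8, 13, 18, 10, 19, 20, 15] (.step [10, 17, 18, 10, 20] .fail))),
  (7, .fail),
  (1, (.step [8, 13, 18, 10, 19, 20, 15] .fail)),
  (4, .fail),
  (1, (.step [8, 16, 20, 21] .fail)),
  (1, (.step [8, 16, 20, 10, 12, 10] .fail)),
  (1, (.step [8, 16, 18, 21, 10, 20] .fail)),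
  (5, .fail),
  (1, (.step [8, 13, 15, 20, 11, 16] .fail)),
  (2, .fail),
  (1, (.step [8, 13, 18, 8, 20, 19] (.step [10, 11, 12, 18, 21, 10] .fail))),
  (8, .fail),
  (1, (.step [8, 15, 18, 8, 20] .fail)),
  (1, .fail),
  (1, (.step [8, 16, 20, 11, 10, 18] .fail)),
  (4, .fail),
  (1, (.step [8, 13, 18, 10, 11] (.step [10, 11, 17, 10, 20] .fail))),
  (7, .fail),
  (1, (.step [8, 15, 20, 12] .fail)),
  (1, (.step [8, 13, 18, 10, 17] .fail)),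
  (4, .fail),
  (1, (.step [8, 13, 15, 8, 20, 10, 16] .fail)),
  (1, (.step [8, 13, 16, 20, 18, 10] .fail)),
  (3, .fail),
  (1, (.step [8, 13, 16, 18, 10, 20, 18] (.step [10, 11, 21, 10, 20] (.step [20, 12, 16, 19] (.step [14, 18, 12] (.step [13, 18, 19, 12, 21] (.step [13, 14, 11, 21, 20, 16, 19, 20, 10, 20, 15, 16, 8, 18, 10, 19, 20, 18, 0, 4, 6, 12, 20, 18, 14, 19, 18, 7, 6, 1, 18] (.step [] (Cert.rl [(2, (.badAt 0))]))))))))),
  (4, .fail),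
  (1, (.step [8, 13, 18, 20, 12, 10, 17] .fail)),
  (1, .fail),
  (1, (.step [8, 13, 18, 20, 21] .fail)),
  (3, .fail),
  (1, (.step [8, 18, 20, 21] .fail)),
  (1, (.step [8, 13, 15, 8, 20, 18, 19] .fail)),
  (4, .fail),
  (1, (.step [8, 15, 20, 12, 18, 10] (.step [10] (.step [20, 11, 12, 19] (.step [14, 19, 15] (.step [18, 19, 12, 21] (.step [] (.step [16] (Cert.rl [(2, (.badAt 0))]))))))))),
  (2, .fail),
  (1, (.step [8, 16, 18, 20] .fail)),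
  (2, .fail),
  (1, (.step [8, 13, 18, 10, 20, 16] .fail)),
  (4, .fail),
  (1, (.step [8, 18, 20, 16] .fail)),
  (12, .fail),
  (1, (.step [8, 13, 15, 16, 20, 15] .fail)),
  (9, .fail),
  (1, (.step [8, 13, 16, 20, 10, 21] .fail)),
  (1, (.step [8, 13, 15, 16, 18, 8] .fail)),
  (1, (.step [8, 15, 16, 20, 10, 12, 16] .fail)),
  (16, .fail),
  (1, (.step [8, 13, 15, 8, 20, 10, 18, 20] .fail)),
  (6, .fail),
  (1, (.step [8, 13, 16, 20, 19] (.step [10, 20, 11] .fail))),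
  (13, .fail),
  (1, (.step [8, 16, 18, 10] .fail)),
  (3, .fail),
  (1, (.step [8, 18, 10] .fail)),
  (1, (.step [8, 16, 20, 18, 10, 11] .fail)),
  (1, .fail),
  (1, (.step [8, 13, 15, 8, 20, 10] .fail)),
  (1, (.step [8, 13, 16, 20, 18] .fail)),
  (4, .fail),
  (1, (.step [8, 13, 21, 10, 20] .fail)),
  (6, .fail),
  (1, (.step [8, 13, 15, 16, 20, 10, 11] .fail)),
  (3, .fail),
  (1, (.step [8, 15, 20, 18, 8] (.step [10, 11, 20, 10] (.step [20, 12, 15, 19] (.step [18, 19, 15] (.step [] (.step [17, 13, 14, 11, 21, 20, 16, 19, 20, 10, 20, 15, 16, 8, 18, 10, 19, 20, 18, 0, 4, 6, 12, 20, 18, 14, 19, 18, 7, 6, 1, 18] (.step [16] (Cert.rl [(1, (.done [16, 17, 13, 14, 11, 21, 20, 16, 19, 20, 10, 20, 15, 16, 8, 18, 10, 19, 20, 18, 0, 4, 6, 12, 20, 18, 14, 19, 18, 7, 6, 1, 18, 18, 19, 15, 20, 12, 15, 19, 10, 11, 20, 10, 8, 15, 20, 18, 8, 7, 12, 16, 2])),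
  (1, (.done [17, 14, 1, 6, 7, 18, 19, 14, 18, 20, 12, 6, 4, 0, 18, 20, 19, 10, 18, 8, 16, 15, 20, 10, 20, 19, 16, 20, 21, 11, 19, 11, 12, 11, 21, 20, 16, 19, 20, 10, 20, 15, 16, 8, 18, 10, 19, 20, 18, 0, 4, 6, 12, 20, 18, 14, 19, 18, 7, 6, 1, 15, 16, 17, 13, 14, 11, 21, 20, 16, 19, 20, 10, 20, 15, 16, 8, 18, 10, 19, 20, 18, 0, 4, 6, 12, 20, 18, 14, 19, 18, 7, 6, 1, 18, 18, 19, 15, 20, 12, 15, 19, 10, 11, 20, 10, 8, 15, 20, 18, 8, 7, 12, 16, 2]))]))))))))),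
  (1, (.step [8, 13, 15, 8, 20, 10, 16, 18] (.step [10, 11, 19] .fail))),
  (4, .fail),
  (1, (.step [8, 13, 18, 20, 11] .fail)),
  (1, .fail),
  (1, (.step [8, 13, 16, 20, 21, 10, 17] .fail)),
  (1, .fail),
  (1, (.step [8, 16, 18, 10, 20, 18] .fail)),
  (8, .fail),
  (1, (.step [8, 16, 21, 8, 10, 20, 21] .fail)),
  (18, .fail),
  (1, (.step [8, 13, 16, 20, 21] .fail)),
  (8, .fail),
  (1, (.step [8, 13, 21, 10, 18, 19] (.step [10, 12, 21, 10, 20] .fail))),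
  (1, .fail),
  (1, (.step [8, 13, 15, 8, 20, 10, 12, 18] (.step [10, 12, 18, 20, 16] .fail))),
  (3, .fail),
  (1, (.step [8, 16, 20, 21, 10, 20] .fail)),
  (3, .fail),
  (1, (.step [8, 15, 20, 12, 18, 10, 17] (.step [10, 17, 20, 10, 15, 20] .fail))),
  (1, (.step [8, 15, 18, 21, 10, 18] .fail)),
  (1, .fail),
  (1, (.step [8, 13, 16, 20, 19] .fail)),
  (1, .fail),
  (1, (.step [8, 13, 16, 8, 20, 10, 17] (.step [10, 17, 20, 10] .fail))),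
  (5, .fail),
  (1, (.step [8, 13, 15, 8, 20, 10, 21] .fail)),
  (1, .fail),
  (1, (.step [8, 16, 21] .fail)),
  (2, .fail),
  (1, (.step [8, 13, 16, 18, 20, 10] .fail)),
  (30, .fail),
  (1, (.step [8, 16, 20, 10, 21, 10] .fail)),
  (1, .fail),
  (1, (.step [8, 18, 20, 21, 8] .fail)),
  (1, (.step [8, 18, 20, 10, 12] .fail)),
  (9, .fail),
  (1, (.step [8, 13, 18, 10, 19, 21] .fail)),
  (1, (.step [8, 13, 21, 10, 11, 20] (.step [10, 17, 20, 10] .fail))),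
  (15, .fail),
  (1, (.step [8, 13, 18, 20, 16] .fail)),
  (14, .fail),
  (1, (.step [8, 15, 20, 11, 10, 16] .fail)),
  (2, .fail),
  (1, (.step [8, 13, 18, 20, 16] .fail)),
  (1, (.step [8, 18, 20, 10] .fail)),
  (3, .fail),
  (1, (.step [8, 13, 16, 8, 20, 19] .fail)),
  (2, .fail),
  (1, (.step [8, 15, 18, 8, 10] (.step [10, 11, 19, 20, 15, 18] .fail))),
  (1, (.step [8, 15, 20, 12, 18, 10] .fail)),
  (9, .fail),
  (1, (.step [8, 18, 10, 11] .fail)),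
  (10, .fail),
  (1, (.step [8, 21, 10] .fail)),
  (1, (.step [8, 15, 16, 20, 15] (.step [10, 11, 20, 15, 19] .fail))),
  (5, .fail),
  (1, (.step [8, 13, 15, 21, 10, 18] (.step [10, 17, 20] .fail))),
  (3, .fail),
  (1, (.step [8, 15, 16, 8, 20, 10] .fail)),
  (1, (.step [8, 13, 15, 8, 20, 12, 15] .fail)),
  (11, .fail),
  (1, (.step [8, 13, 16, 18, 20] .fail)),
  (8, .fail),
  (1, (.step [8, 16, 18, 10, 20, 11] .fail)),
  (1, (.step [8, 13, 18, 20, 11, 16] .fail)),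
  (1, (.step [8, 18, 21, 10, 11, 20] (.step [10, 11, 20, 19, 10, 18] .fail))),
  (2, .fail),
  (1, (.step [8, 15, 16, 20, 10, 11] (.step [10, 12, 20, 15, 19] (.step [20, 16] .fail)))),
  (1, (.step [8, 15, 18, 10, 21, 8] .fail)),
  (1, .fail),
  (1, (.step [8, 13, 18, 21, 10] .fail)),
  (3, .fail),
  (1, (.step [8, 15, 20, 10, 17] (.step [10, 17, 21, 10] .fail))),
  (1, (.step [8, 18, 10, 17, 20] .fail)),
  (3, .fail),
  (1, (.step [8, 13, 16, 18, 20, 10] (.step [10, 11, 18, 19, 21] .fail))),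
  (2, .fail),
  (1, (.step [8, 13, 18, 10, 20, 10] .fail)),
  (12, .fail),
  (1, (.step [8, 13, 16, 8, 20, 10] .fail)),
  (14, .fail),
  (1, (.step [8, 13, 15, 8, 20, 11, 10, 20] .fail)),
  (6, .fail),
  (1, (.step [8, 16, 18, 10, 21, 10] .fail)),
  (5, .fail),
  (1, (.step [8, 16, 18, 10] .fail)),
  (1, (.step [8, 13, 16, 20] .fail)),
  (1, .fail),
  (1, (.step [8, 18, 10, 12, 21] .fail)),
  (2, .fail),
  (1, (.step [8, 16, 20, 10, 21] .fail)),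
  (3, .fail),
  (1, (.step [8, 13, 16, 20, 21, 10] .fail)),
  (2, .fail),
  (1, (.step [8, 15, 20, 12, 18] .fail)),
  (1, .fail),
  (1, (.step [8, 13, 15, 20, 10, 16, 17] .fail)),
  (1, .fail),
  (1, (.step [8, 18, 10, 19, 21] .fail)),
  (2, .fail),
  (1, (.step [8, 13, 15, 20, 12, 18, 10] .fail)),
  (2, .fail),
  (1, (.step [8, 15, 16, 8, 20, 12] .fail)),
  (1, .fail),
  (1, (.step [8, 15, 18, 20, 18, 10] .fail)),
  (2, .fail),
  (1, (.step [8, 13, 18, 20, 10, 16] .fail)),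
  (11, .fail),
  (1, (.step [8, 18, 20, 11] .fail)),
  (2, .fail),
  (1, (.step [8, 13, 16, 18, 21, 8] .fail)),
  (1, .fail),
  (1, (.step [8, 16, 20, 10, 18, 10] .fail)),
  (12, .fail),
  (1, (.step [8, 16, 21, 8, 10, 20] (.step [10, 11, 19, 20, 21] .fail))),
  (2, .fail),
  (1, (.step [8, 16, 21, 8, 10, 21] .fail)),
  (3, .fail),
  (1, (.step [8, 18, 20, 15, 19, 10] .fail)),
  (14, .fail),
  (1, (.step [8, 13, 16, 20, 10, 11, 21] (.step [10, 11, 20, 19, 10] .fail))),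
  (1, .fail),
  (1, (.step [8, 13, 18, 8, 10, 20, 12, 19] .fail)),
  (10, .fail),
  (1, (.step [8, 13, 18, 8, 10, 12, 21] (.step [10, 12, 20, 10, 15] .fail))),
  (2, .fail),
  (1, (.step [8, 13, 15, 16, 20, 21] (.step [10, 20, 12, 16] (.step [20, 16, 19] (.step [18, 12, 15] (.step [11] (.step [] (.step [16] (Cert.rl [(1, (.done [16, 11, 18, 12, 15, 20, 16, 19, 10, 20, 12, 16, 8, 13, 15, 16, 20, 21, 0, 13, 8, 19])),
  (1, (.done [17, 14, 1, 6, 7, 18, 19, 14, 18, 20, 12, 6, 4, 0, 18, 20, 19, 10, 18, 8, 16, 15, 20, 10, 20, 19, 16, 20, 21, 11, 19, 11, 12, 11, 21, 20, 16, 19, 20, 10, 20, 15, 16, 8, 18, 10, 19, 20, 18, 0, 4, 6, 12, 20, 18, 14, 19, 18, 7, 6, 1, 15, 16, 11, 18, 12, 15, 20, 16, 19, 10, 20, 12, 16, 8, 13, 15, 16, 20, 21, 0, 13, 8, 19]))]))))))))),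
  (9, .fail),
  (1, (.step [8, 15, 16, 20, 10, 16, 20] (.step [10, 11, 20, 11] .fail))),
  (5, .fail),
  (1, (.step [8, 13, 15, 16, 18, 10, 20] .fail)),
  (7, .fail),
  (1, (.step [8, 13, 16, 20, 10, 11, 20] .fail)),
  (14, .fail),
  (1, (.step [8, 15, 20, 10, 11, 16] .fail)),
  (6, .fail),
  (1, (.step [8, 13, 15, 8, 20, 11, 10, 15] .fail)),
  (1, .fail),
  (1, (.step [8, 13, 16, 20, 21] (.step [10, 11, 20] .fail))),
  (2, .fail),
  (1, (.step [8, 13] .fail)),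
  (8, .fail),
  (1, (.step [8, 13, 21, 10, 20] .fail)),
  (7, .fail),
  (1, (.step [8, 13, 15, 20, 16, 21] .fail)),
  (1, .fail),
  (1, (.step [8, 18, 21, 10, 12] .fail)),
  (11, .fail),
  (1, (.step [8, 16, 18, 8, 10, 20, 16] .fail)),
  (3, .fail),
  (1, (.step [8, 15, 16, 20, 10, 16, 20] .fail)),
  (17, .fail),
  (1, (.step [8, 15, 18, 20, 15] .fail)),
  (6, .fail),
  (1, (.step [8, 16, 20, 18, 10, 17] .fail)),
  (10, .fail),
  (1, (.step [8, 21, 10, 20] (.step [10, 17, 21, 10] .fail))),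
  (1, .fail),
  (1, (.step [8, 13, 15, 18, 20, 18] .fail)),
  (1, .fail),
  (1, (.step [8, 13, 18, 20, 15, 19] .fail))])),
  (1712, (.badPow 17289 1))])

/-- a piece of a certificate -/
noncomputable def cCh_6 : Cert := (Cert.rl [(3167, (.badPow 17289 1))])

/-- a piece of a certificate -/
noncomputable def cCh_7 : Cert := (Cert.rl [(3167, (.badPow 17289 1))])

/-- a piece of a certificate -/
noncomputable def cCh_8 : Cert := (Cert.rl [(3167, (.badPow 17289 1))])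

/-- a piece of a certificate -/
noncomputable def cCh_9 : Cert := (Cert.rl [(3168, (.badPow 17289 1))])

/-- the pieces of a certificate -/
noncomputable def pcsCh : List (List (List ℕ) × Cert) := [(U0_0, cCh_0), (U0_1, cCh_1), (U0_2, cCh_2), (U0_3, cCh_3), (U0_4, cCh_4), (U0_5, cCh_5), (U0_6, cCh_6), (U0_7, cCh_7), (U0_8, cCh_8), (U0_9, cCh_9)]

end Cfsg.Agent.Lib.Helper2.Fi23Out
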