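import Cfsg.Agent.Lib.Helper2.PMChain5

set_option autoImplicit false

/-! # Table-driven elimination of the candidates for the image of a generator -/

namespace Cfsg.Agent.Lib.Helper2.PMC

open Cfsg.Agent.Lib.Helper6.TC Cfsg.Agent.Lib.Helper6.PM Cfsg.Agent.Lib.Helper2.PMS

/-- the check of a table of candidates: an entry is the word of the candidate, a marker (1 for
the good candidate), the index of a relator and a point moved by the image of the relator -/
noncomputable def chkElimTab (M : PModel) (imgs : List ℕ → List (List ℕ)) (Rs : List (List ℕ))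
    (good : List ℕ) (tab : List (List ℕ × ℕ × ℕ × ℕ)) : Bool :=
  tab.all fun e => (Nat.beq e.2.1 1 && (e.1 == good)) ||
    (Nat.beq e.2.1 0 && chkNeAt M (expand (imgs e.1) (Rs.getD e.2.2.1 [])) [] e.2.2.2)

/-- the relators hold for the generators -/
noncomputable def chkRels (M : PModel) (lv : List Level) (ws Rs : List (List ℕ)) : Bool :=
  Rs.all fun R => (R.all fun c => Nat.blt c ws.length) && chkBaseL M lv (expand ws R) []

variable {M : PModel}

/-- a candidate of the table which is the image of a generator under a homomorphism mapping the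
generators `ws` to the words `imgs z` is the good candidate -/
theorem ChainFacts.good_of_elimTab [Finite M.G] {lv : List Level} (F : ChainFacts M lv)
    (f : M.G →* M.G) (ws : List (List ℕ)) (imgs : List ℕ → List (List ℕ)) (Rs : List (List ℕ))
    (hRs : chkRels M lv ws Rs = true) (good : List ℕ) (tab : List (List ℕ × ℕ × ℕ × ℕ))
    (h : chkElimTab M imgs Rs good tab = true) (z : List ℕ) (hz : z ∈ tab.map (·.1))
    (hf : ∀ i < ws.length, f (M.elt (ws.getD i [])) = M.elt ((imgs z).getD i [])) : z = good := by
  rw [List.mem_map] at hz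
  obtain ⟨e, he, rfl⟩ := hz
  unfold chkElimTab at h
  rw [List.all_eq_true] at h
  have h1 := h e he
  rw [Bool.or_eq_true, Bool.and_eq_true, Bool.and_eq_true] at h1
  rcases h1 with ⟨_, h2⟩ | ⟨_, h2⟩
  · exact eq_of_beq h2
  · exfalso
    have h3 := elt_ne_of_chkNeAt (M := M) _ _ _ h2
    rw [M.elt_nil] at h3
    apply h3
    by_cases hi : e.2.2.1 < Rs.length
    · have hR : Rs.getD e.2.2.1 [] ∈ Rs := by
        rw [List.getD_eq_getElem _ _ hi]
        exact List.getElem_mem _
      unfold chkRels at hRs
      rw [List.all_eq_true] at hRs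
      have h4 := hRs _ hR
      rw [Bool.and_eq_true, List.all_eq_true] at h4
      have hlt : ∀ c ∈ Rs.getD e.2.2.1 [], c < ws.length := by
        intro c hc
        have := h4.1 c hc
        rwa [Nat.blt_eq] at this
      have h5 := map_elt_expand (M := M) f ws (imgs e.1) hf (Rs.getD e.2.2.1 []) hlt
      rw [F.elt_eq_of_chk _ _ h4.2, M.elt_nil, map_one] at h5
      exact h5.symm
    · rw [List.getD_eq_default _ _ (by omega), expand_nil, M.elt_nil]

end Cfsg.Agent.Lib.Helper2.PMC
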