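import Cfsg.Agent.Lib.Helper2.Fi23Out6
import Cfsg.Agent.Lib.Helper2.Fi23OutC2
import Cfsg.Agent.Lib.Helper2.PMChain6

set_option autoImplicit false
set_option maxRecDepth 100000

/-! # The group `Fi23`: the centralizer of the element of order 16, rigidity, generation -/

namespace Cfsg.Agent.Lib.Helper2.Fi23Out

open Cfsg.Spor Cfsg.Agent.Lib.Helper6.TC Cfsg.Agent.Lib.Helper6.PM Cfsg.Agent.Lib.Helper2.PMS
open Cfsg.Agent.Lib.Helper2.PMC Cfsg.Agent.Lib.Helper5.Chain Cfsg.Agent.Lib.Helper2.RigidOut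
open Cfsg.Agent.Lib.Helper5.Srch

set_option Elab.async false

/-! ## The centralizer of the element of order 16 -/

theorem chk_wh : chkW M wh = true := by decide +kernel

theorem chk_srcB : chkSrc M wh [] (L0 :: lvB') = true := by decide +kernel

theorem chk_Ch_0 : chk M iv wh wh cCh_0 (L0 :: lvB') msB (some U0_0) [] [] = true := by
  decide +kernel
theorem chk_Ch_1 : chk M iv wh wh cCh_1 (L0 :: lvB') msB (some U0_1) [] [] = true := by
  decide +kernel
theorem chk_Ch_2 : chk M iv wh wh cCh_2 (L0 :: lvB') msB (some U0_2) [] [] = true := by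
  decide +kernel
theorem chk_Ch_3 : chk M iv wh wh cCh_3 (L0 :: lvB') msB (some U0_3) [] [] = true := by
  decide +kernel
theorem chk_Ch_4 : chk M iv wh wh cCh_4 (L0 :: lvB') msB (some U0_4) [] [] = true := by
  decide +kernel
theorem chk_Ch_5 : chk M iv wh wh cCh_5 (L0 :: lvB') msB (some U0_5) [] [] = true := by
  decide +kernel
theorem chk_Ch_6 : chk M iv wh wh cCh_6 (L0 :: lvB') msB (some U0_6) [] [] = true := by
  decide +kernel
theorem chk_Ch_7 : chk M iv wh wh cCh_7 (L0 :: lvB') msB (some U0_7) [] [] = true := by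
  decide +kernel
theorem chk_Ch_8 : chk M iv wh wh cCh_8 (L0 :: lvB') msB (some U0_8) [] [] = true := by
  decide +kernel
theorem chk_Ch_9 : chk M iv wh wh cCh_9 (L0 :: lvB') msB (some U0_9) [] [] = true := by
  decide +kernel

theorem chk_Ch : ∀ p ∈ pcsCh, chk M iv wh wh p.2 (L0 :: lvB') msB (some p.1) [] [] = true := by
  intro p hp
  simp only [pcsCh, List.mem_cons, List.not_mem_nil, or_false] at hp
  rcases hp with rfl | rfl | rfl | rfl | rfl | rfl | rfl | rfl | rfl | rfl
  · exact chk_Ch_0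
  · exact chk_Ch_1
  · exact chk_Ch_2
  · exact chk_Ch_3
  · exact chk_Ch_4
  · exact chk_Ch_5
  · exact chk_Ch_6
  · exact chk_Ch_7
  · exact chk_Ch_8
  · exact chk_Ch_9

theorem leaves_Ch : (pcsCh.all fun p => (leaves p.2).all fun z =>
    (tabH.map (·.1)).contains z) = true := by decide +kernel

theorem centralizer_gh (g : M.G) (hg : g⁻¹ * gh * g = gh) :
    ∃ z ∈ tabH.map (·.1), g = M.elt z := by
  obtain ⟨p, hp, z, hz, hgz⟩ := search_pieces (L := L0) (lv' := lvB') factsB msB chk_msB iv invMap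
    wh wh chk_wh chk_wh chk_srcB rfl pcsCh rfl chk_Ch g hg
  have h1 := leaves_Ch
  rw [List.all_eq_true] at h1
  have h2 := h1 p hp
  rw [List.all_eq_true] at h2
  have h3 := h2 z hz
  rw [List.contains_iff_mem] at h3
  exact ⟨z, h3, hgz⟩

/-! ## Rigidity -/

/-- the three generators -/
def ws3 : List (List ℕ) := [wp, wh, wv]

/-- the images of the three generators under a hypothetical automorphism -/
def ws3' (z : List ℕ) : List (List ℕ) := [wp, wh, z]

theorem chk_Rs : chkRels M lvA ws3 Rs = true := by decide +kernel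

theorem chk_tabH : chkElimTab M ws3' Rs wv tabH = true := by decide +kernel

theorem chk_vh : chkBaseL M lvA (invw iv wv ++ wh ++ wv) wh = true := by decide +kernel

theorem rel_vh : gv⁻¹ * gh * gv = gh := by
  rw [gv_inv]
  unfold gv gh
  rw [← M.elt_append, ← M.elt_append]
  exact factsA.elt_eq_of_chk _ _ chk_vh

theorem hf_of (α : MulAut M.G) (z : List ℕ) (hp : α gp = gp) (hh : α gh = gh)
    (hv : α gv = M.elt z) :
    ∀ k < ws3.length, α.toMonoidHom (M.elt (ws3.getD k [])) = M.elt ((ws3' z).getD k []) := by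
  intro k hk
  have hk' : k < 3 := hk
  interval_cases k
  · exact hp
  · exact hh
  · exact hv

theorem rigid (α : MulAut M.G) (hp : α gp = gp) (hh : α gh = gh) : α gv = gv := by
  have hc : (α gv)⁻¹ * gh * α gv = gh := by
    have := congrArg α rel_vh
    rw [map_mul, map_mul, map_inv, hh] at this
    exact this
  obtain ⟨z, hz, hv⟩ := centralizer_gh (α gv) hc
  have := factsA.good_of_elimTab α.toMonoidHom ws3 ws3' Rs chk_Rs wv tabH chk_tabH z hz
    (hf_of α z hp hh hv)
  rw [this] at hv
  exact hv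

/-! ## Generation -/

/-- the three generators and the inverses of the first two -/
def ws5 : List (List ℕ) := [wp, wh, wv, invw iv wp, invw iv wh]

theorem chk_gen : chkGenL M lvA ws5 Wl = true := by decide +kernel

theorem subH5_le : Cfsg.Agent.Lib.Helper6.PM.subH M ws5 ≤
    Subgroup.closure ({gp, gh, gv} : Set M.G) := by
  unfold Cfsg.Agent.Lib.Helper6.PM.subH
  rw [Subgroup.closure_le]
  rintro g ⟨i, hi, rfl⟩
  have hi' : i < 5 := hi
  have hp : gp ∈ Subgroup.closure ({gp, gh, gv} : Set M.G) := Subgroup.subset_closure (by simp)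
  have hh : gh ∈ Subgroup.closure ({gp, gh, gv} : Set M.G) := Subgroup.subset_closure (by simp)
  have hv : gv ∈ Subgroup.closure ({gp, gh, gv} : Set M.G) := Subgroup.subset_closure (by simp)
  interval_cases i
  · exact hp
  · exact hh
  · exact hv
  · show M.elt (invw iv wp) ∈ _
    rw [← gp_inv]
    exact Subgroup.inv_mem _ hp
  · show M.elt (invw iv wh) ∈ _
    rw [← gh_inv]
    exact Subgroup.inv_mem _ hh

theorem closure_gens : Subgroup.closure ({gp, gh, gv} : Set M.G) = ⊤ := by
  have h3 := factsA.subH_eq_top ws5 Wl chk_gen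
  rw [eq_top_iff, ← h3]
  exact subH5_le

theorem hom_det (γ δ : M.G →* M.G) (h1 : γ gp = δ gp) (h2 : γ gh = δ gh) (h3 : γ gv = δ gv) :
    γ = δ := by
  apply MonoidHom.eq_of_eqOn_dense closure_gens
  intro x hx
  rcases hx with rfl | rfl | rfl
  · exact h1
  · exact h2
  · exact h3

theorem det (γ δ : MulAut M.G) (h1 : γ gp = δ gp) (h2 : γ gh = δ gh) (h3 : γ gv = δ gv) :
    γ = δ := by
  have : γ.toMonoidHom = δ.toMonoidHom := hom_det _ _ h1 h2 h3
  ext x
  exact DFunLike.congr_fun this x

end Cfsg.Agent.Lib.Helper2.Fi23Out
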