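import Cfsg.Agent.Lib.Helper2.Fi23Out7

set_option autoImplicit false
set_option maxRecDepth 100000

/-! # The outer automorphism group of the presented group `Fi23` is trivial -/

namespace Cfsg.Agent.Lib.Helper2.Fi23Out

open Cfsg.Spor Cfsg.Agent.Lib.Helper6.TC Cfsg.Agent.Lib.Helper6.PM Cfsg.Agent.Lib.Helper2.PMS
open Cfsg.Agent.Lib.Helper2.PMC Cfsg.Agent.Lib.Helper2.RigidOut

theorem hclass (α : MulAut M.G) (ε : ℕ) (hε : ε ∈ [1]) (hp : α gp = gp ^ ε) (hh : α gh = gh) :
    α = 1 := by
  rw [List.mem_singleton] at hε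
  subst hε
  rw [pow_one] at hp
  exact det α 1 hp hh (rigid α hp hh)

theorem card_out_G : Nat.card (Cfsg.Out M.G) = 1 := by
  have : Fact (Nat.Prime 17) := ⟨by norm_num⟩
  have hnorm := rigid_normalize_two (G := M.G) 17 6 16 240557086664294400 9 [1] gp gh
    (by rw [card_G]) (by norm_num) orderOf_gp orderOf_gh
    (by norm_num) rel_ph (by norm_num) (by decide) hE (by decide) (by norm_num) normalizer_gp
  exact card_out_one_of_normalized_two (G := M.G) [1] gp gh hnorm hclass

end Cfsg.Agent.Lib.Helper2.Fi23Out
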