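import Cfsg.Agent.Lib.Helper6.TCD.Fi23a.P0
import Cfsg.Agent.Lib.Helper6.TCD.Fi23a.P1
import Cfsg.Agent.Lib.Helper6.TCD.Fi23a.P2
import Cfsg.Agent.Lib.Helper6.TCD.Fi23a.P3
import Cfsg.Agent.Lib.Helper6.TCD.Fi23a.P4
import Cfsg.Agent.Lib.Helper6.TCD.Fi23a.P5
import Cfsg.Agent.Lib.Helper6.TCD.Fi23a.P6
import Cfsg.Agent.Lib.Helper6.TCD.Fi23a.P7
import Cfsg.Agent.Lib.Helper6.TCD.Fi23a.P8
import Cfsg.Agent.Lib.Helper6.TCD.Fi23a.P9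
import Cfsg.Agent.Lib.Helper2.Fi23OutT0
import Cfsg.Agent.Lib.Helper2.Fi23OutT1
import Cfsg.Agent.Lib.Helper2.Fi23OutT2
import Cfsg.Agent.Lib.Helper2.Fi23OutT3

set_option autoImplicit false

/-! # The group `Fi23`: the action of all letters, the definitions of the new letters (generated data) -/

namespace Cfsg.Agent.Lib.Helper2.Fi23Out

/-- the right action of the letters -/
noncomputable def pm (c q : Nat) : Nat :=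
  (Bool.rec (Bool.rec (Bool.rec (Bool.rec (Cfsg.Agent.Lib.Helper6.TCD.Fi23a.P0 q) (Cfsg.Agent.Lib.Helper6.TCD.Fi23a.P1 q) (Nat.ble 1 c)) (Bool.rec (Cfsg.Agent.Lib.Helper6.TCD.Fi23a.P2 q) (Bool.rec (Cfsg.Agent.Lib.Helper6.TCD.Fi23a.P3 q) (Cfsg.Agent.Lib.Helper6.TCD.Fi23a.P4 q) (Nat.ble 4 c)) (Nat.ble 3 c)) (Nat.ble 2 c)) (Bool.rec (Bool.rec (Cfsg.Agent.Lib.Helper6.TCD.Fi23a.P5 q) (Bool.rec (Cfsg.Agent.Lib.Helper6.TCD.Fi23a.P6 q) (Cfsg.Agent.Lib.Helper6.TCD.Fi23a.P7 q) (Nat.ble 7 c)) (Nat.ble 6 c)) (Bool.rec (Cfsg.Agent.Lib.Helper6.TCD.Fi23a.P8 q) (Bool.rec (Cfsg.Agent.Lib.Helper6.TCD.Fi23a.P9 q) (pmL10 q) (Nat.ble 10 c)) (Nat.ble 9 c)) (Nat.ble 8 c)) (Nat.ble 5 c)) (Bool.rec (Bool.rec (Bool.rec (pmL11 q) (pmL12 q) (Nat.ble 12 c)) (Bool.rec (pmL13 q) (Bool.rec (pmL14 q) (pmL15 q) (Nat.ble 15 c)) (Nat.ble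 14 c)) (Nat.ble 13 c)) (Bool.rec (Bool.rec (pmL16 q) (Bool.rec (pmL17 q) (pmL18 q) (Nat.ble 18 c)) (Nat.ble 17 c)) (Bool.rec (pmL19 q) (Bool.rec (pmL20 q) (pmL21 q) (Nat.ble 21 c)) (Nat.ble 20 c)) (Nat.ble 19 c)) (Nat.ble 16 c)) (Nat.ble 11 c))

/-- the definitions of the new letters -/
def ds : List (List Nat) := [
[1, 2, 3, 8, 5, 4, 3, 2, 1, 0, 1, 2, 3, 4, 5, 8, 3, 2, 1], [4, 3, 8, 9, 6, 10, 1, 10, 6, 9, 8, 3, 4], [1, 11, 6, 5, 6, 11, 1], [8, 9, 10, 11, 7, 11, 10, 9, 8],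
[5, 12, 4, 11, 10, 11, 4, 12, 5], [5, 12, 3, 2, 1, 2, 3, 12, 5], [0, 15, 14, 13, 0, 13, 14, 15, 0], [2, 16, 15, 12, 2, 12, 15, 16, 2],
[3, 16, 13, 12, 3, 12, 13, 16, 3], [0, 17, 14, 11, 0, 11, 14, 17, 0], [7, 4, 12, 1, 0, 1, 12, 4, 7], [5, 12, 4, 13, 11, 0, 11, 13, 4, 12, 5]]

/-- the inverse letters: all letters are involutions -/
def iv (c : Nat) : Nat := c

end Cfsg.Agent.Lib.Helper2.Fi23Out
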