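import Cfsg.Agent.Lib.Helper6.Mult.PM3
import Cfsg.Agent.S1698

set_option autoImplicit false
set_option maxRecDepth 100000

/-! # The presented group `Fi24` acting on 306936 points, as a model -/

namespace Cfsg.Agent.Lib.Helper2.Fi24Out

open Cfsg.Spor Cfsg.Agent.Lib.Helper6.TC Cfsg.Agent.Lib.Helper6.TCD Cfsg.Agent.Lib.Helper6.PM
open Cfsg.Agent.Lib.Helper6.TCP.Fi24

/-- the permutation representation on 306936 points -/
noncomputable def phi : Fi24 →* Equiv.Perm (Fin 306936) :=
  Classical.choose Cfsg.Agent.Lib.Helper6.Fi24Orb.rep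

theorem phi_word : ∀ w, (∀ c ∈ w, c < 12) → ∀ p : Fin 306936,
    ((phi (PresentedGroup.mk Rels (wordElt gc w)))⁻¹ p).val = wapp Fi24a.px w p.val :=
  (Classical.choose_spec Cfsg.Agent.Lib.Helper6.Fi24Orb.rep).1

theorem phi_fix : ∀ h ∈ Cfsg.Agent.Lib.Helper6.Fi24Orb.H0,
    phi h ⟨0, by decide⟩ = ⟨0, by decide⟩ :=
  (Classical.choose_spec Cfsg.Agent.Lib.Helper6.Fi24Orb.rep).2.1

theorem phi_trans : ∀ p : Fin 306936, ∃ g, phi g ⟨0, by decide⟩ = p :=
  (Classical.choose_spec Cfsg.Agent.Lib.Helper6.Fi24Orb.rep).2.2.1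

theorem index_H0 : Cfsg.Agent.Lib.Helper6.Fi24Orb.H0.index = 306936 :=
  (Classical.choose_spec Cfsg.Agent.Lib.Helper6.Fi24Orb.rep).2.2.2.1

instance finite_Fi24 : Finite Fi24 := Cfsg.Agent.Lib.Helper6.Fi24H0.card_Fi24.1

theorem card_Fi24 : Nat.card Fi24 = 2 * 1255205709190661721292800 :=
  Cfsg.Agent.Lib.Helper6.Fi24H0.card_Fi24.2

/-- the action on the points -/
noncomputable instance actFi24 : MulAction Fi24 (Fin 306936) := MulAction.compHom _ phi

theorem smul_eq (g : Fi24) (p : Fin 306936) : g • p = phi g p := rfl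

/-- the stabilizer of the point `0` is the subgroup `H0` -/
theorem stabilizer_zero :
    MulAction.stabilizer Fi24 (⟨0, by decide⟩ : Fin 306936) = Cfsg.Agent.Lib.Helper6.Fi24Orb.H0 := by
  have hle : Cfsg.Agent.Lib.Helper6.Fi24Orb.H0 ≤
      MulAction.stabilizer Fi24 (⟨0, by decide⟩ : Fin 306936) := by
    intro h hh
    rw [MulAction.mem_stabilizer_iff, smul_eq]
    exact phi_fix h hh
  have horb : MulAction.orbit Fi24 (⟨0, by decide⟩ : Fin 306936) = Set.univ := by
    ext p
    simp only [Set.mem_univ, iff_true]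
    obtain ⟨g, hg⟩ := phi_trans p
    exact ⟨g, hg⟩
  have hidx : (MulAction.stabilizer Fi24 (⟨0, by decide⟩ : Fin 306936)).index = 306936 := by
    rw [MulAction.index_stabilizer, horb, Set.ncard_univ, Nat.card_eq_fintype_card, Fintype.card_fin]
  have h1 := Subgroup.relIndex_mul_index hle
  rw [hidx, index_H0] at h1
  have h2 : Cfsg.Agent.Lib.Helper6.Fi24Orb.H0.relIndex
      (MulAction.stabilizer Fi24 (⟨0, by decide⟩ : Fin 306936)) = 1 := by
    have h3 : Cfsg.Agent.Lib.Helper6.Fi24Orb.H0.relIndex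
        (MulAction.stabilizer Fi24 (⟨0, by decide⟩ : Fin 306936)) * 306936 = 1 * 306936 := by
      rw [h1, one_mul]
    exact Nat.eq_of_mul_eq_mul_right (by norm_num) h3
  exact le_antisymm (Subgroup.relIndex_eq_one.mp h2) hle

theorem phi_injective : Function.Injective phi := by
  rw [← MonoidHom.ker_eq_bot_iff]
  apply Cfsg.Agent.S1698.hcore _ (MonoidHom.normal_ker phi)
  intro g hg
  rw [MonoidHom.mem_ker] at hg
  rw [← stabilizer_zero, MulAction.mem_stabilizer_iff, smul_eq, hg]
  rfl

theorem ceOf_gc (c : ℕ) : ceOf gc c = FreeGroup.of (gen c) := rfl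

/-- the element of the group given by a word of columns -/
noncomputable def elt (w : List ℕ) : Fi24 := PresentedGroup.mk Rels (wordElt gc w)

theorem closure_letters : Subgroup.closure {g : Fi24 | ∃ c < 12, g = elt [c]} = ⊤ := by
  rw [eq_top_iff, ← PresentedGroup.closure_range_of]
  apply Subgroup.closure_mono
  rintro _ ⟨x, rfl⟩
  refine ⟨col x, col_lt x, ?_⟩
  unfold elt
  rw [wordElt_cons, wordElt_nil, mul_one, ceOf_gc]
  congr 2
  cases x <;> rfl

/-- the model of the group -/
noncomputable def fi24Model : PModel where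
  G := Fi24
  n := 306936
  nl := 12
  px := Fi24a.px
  elt := elt
  phi := phi
  elt_nil := by
    unfold elt
    rw [wordElt_nil, map_one]
  elt_append := fun u v => by
    unfold elt
    rw [wordElt_append, map_mul]
  px_lt := fun c hc q hq => Cfsg.Agent.S1690.hP.hlt c hc q hq
  phi_inv_val := phi_word
  phi_injective := phi_injective
  closure_letters := closure_letters

end Cfsg.Agent.Lib.Helper2.Fi24Out
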