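import Cfsg.Agent.Lib.Helper6.TCD.Fi24a.P0
import Cfsg.Agent.Lib.Helper6.TCD.Fi24a.P1
import Cfsg.Agent.Lib.Helper6.TCD.Fi24a.P2
import Cfsg.Agent.Lib.Helper6.TCD.Fi24a.P3
import Cfsg.Agent.Lib.Helper6.TCD.Fi24a.P4
import Cfsg.Agent.Lib.Helper6.TCD.Fi24a.P5
import Cfsg.Agent.Lib.Helper6.TCD.Fi24a.P6
import Cfsg.Agent.Lib.Helper6.TCD.Fi24a.P7
import Cfsg.Agent.Lib.Helper6.TCD.Fi24a.P8
import Cfsg.Agent.Lib.Helper6.TCD.Fi24a.P9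
import Cfsg.Agent.Lib.Helper6.TCD.Fi24a.P10
import Cfsg.Agent.Lib.Helper6.TCD.Fi24a.P11
import Cfsg.Agent.Lib.Helper2.Fi24OutT0
import Cfsg.Agent.Lib.Helper2.Fi24OutT1

set_option autoImplicit false

/-! # The group `Fi24`: the action of all letters, the words of the new letters (generated data) -/

namespace Cfsg.Agent.Lib.Helper2.Fi24Out

/-- the right action of the letters -/
noncomputable def pm (c q : Nat) : Nat :=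
  (Bool.rec (Bool.rec (Bool.rec (Cfsg.Agent.Lib.Helper6.TCD.Fi24a.P0 q) (Bool.rec (Cfsg.Agent.Lib.Helper6.TCD.Fi24a.P1 q) (Cfsg.Agent.Lib.Helper6.TCD.Fi24a.P2 q) (Nat.ble 2 c)) (Nat.ble 1 c)) (Bool.rec (Bool.rec (Cfsg.Agent.Lib.Helper6.TCD.Fi24a.P3 q) (Cfsg.Agent.Lib.Helper6.TCD.Fi24a.P4 q) (Nat.ble 4 c)) (Bool.rec (Cfsg.Agent.Lib.Helper6.TCD.Fi24a.P5 q) (Cfsg.Agent.Lib.Helper6.TCD.Fi24a.P6 q) (Nat.ble 6 c)) (Nat.ble 5 c)) (Nat.ble 3 c)) (Bool.rec (Bool.rec (Cfsg.Agent.Lib.Helper6.TCD.Fi24a.P7 q) (Bool.rec (Cfsg.Agent.Lib.Helper6.TCD.Fi24a.P8 q) (Cfsg.Agent.Lib.Helper6.TCD.Fi24a.P9 q) (Nat.ble 9 c)) (Nat.ble 8 c)) (Bool.rec (Bool.rec (Cfsg.Agent.Lib.Helper6.TCD.Fi24a.P10 q) (Cfsg.Agent.Lib.Helper6.TCD.Fi24a.P11 q) (Nat.ble 11 c)) (Bool.rec (pmL12 q) (pmL13 q) (Nat.ble 13 c)) (Nat.ble 12 c)) (Nat.ble 10 c)) (Nat.ble 7 c))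

/-- the word of the element of order 29, in the old letters -/
def wp : List Nat := [1, 2, 3, 4, 5, 6, 1, 9, 2, 1, 5, 10, 11, 6, 4, 7, 8, 10, 5, 2, 6, 5, 4, 5, 0, 3, 2, 10, 11, 3, 4, 5, 10, 7, 6, 5, 4, 3, 2, 1]

/-- the words of the letters in the old letters -/
def ws14 : List (List Nat) :=
  [[0], [1], [2], [3], [4], [5], [6], [7], [8], [9], [10], [11], wp, wp.reverse]

/-- the inverse letters -/
noncomputable def iv (c : Nat) : Nat := Bool.rec (Bool.rec c 12 (Nat.beq c 13)) 13 (Nat.beq c 12)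

end Cfsg.Agent.Lib.Helper2.Fi24Out
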