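import Cfsg.Agent.Lib.Helper2.PMChain10
import Cfsg.Agent.Lib.Helper2.Fi24Out2a

set_option autoImplicit false
set_option maxRecDepth 100000

/-! # The group `Fi24`: the tables of the new letters, checked by ranges (generated) -/

namespace Cfsg.Agent.Lib.Helper2.Fi24Out

open Cfsg.Agent.Lib.Helper2.PMC

set_option Elab.async false

theorem tabP_4 : chkTabR pm wp pmL12 30696 7674 = true := by decide +kernel
theorem tabP_5 : chkTabR pm wp pmL12 38370 7674 = true := by decide +kernel
theorem tabP_6 : chkTabR pm wp pmL12 46044 7674 = true := by decide +kernel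
theorem tabP_7 : chkTabR pm wp pmL12 53718 7674 = true := by decide +kernel

end Cfsg.Agent.Lib.Helper2.Fi24Out
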