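import Cfsg.Agent.Lib.Helper2.PMChain10
import Cfsg.Agent.Lib.Helper2.Fi24Out2h

set_option autoImplicit false
set_option maxRecDepth 100000

/-! # The group `Fi24`: the tables of the new letters, checked by ranges (generated) -/

namespace Cfsg.Agent.Lib.Helper2.Fi24Out

open Cfsg.Agent.Lib.Helper2.PMC

set_option Elab.async false

theorem tabP_32 : chkTabR pm wp pmL12 245568 7674 = true := by decide +kernel
theorem tabP_33 : chkTabR pm wp pmL12 253242 7674 = true := by decide +kernel
theorem tabP_34 : chkTabR pm wp pmL12 260916 7674 = true := by decide +kernel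
theorem tabP_35 : chkTabR pm wp pmL12 268590 7674 = true := by decide +kernel

end Cfsg.Agent.Lib.Helper2.Fi24Out
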