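import Cfsg.Agent.Lib.Helper2.PMChain10
import Cfsg.Agent.Lib.Helper2.Fi24Out2j

set_option autoImplicit false
set_option maxRecDepth 100000

/-! # The group `Fi24`: the tables of the new letters, checked by ranges (generated) -/

namespace Cfsg.Agent.Lib.Helper2.Fi24Out

open Cfsg.Agent.Lib.Helper2.PMC

set_option Elab.async false

theorem tabI_0 : chkInvR 306936 pmL12 pmL13 0 38367 = true := by decide +kernel
theorem tabI_1 : chkInvR 306936 pmL12 pmL13 38367 38367 = true := by decide +kernel
theorem tabI_2 : chkInvR 306936 pmL12 pmL13 76734 38367 = true := by decide +kernel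
theorem tabI_3 : chkInvR 306936 pmL12 pmL13 115101 38367 = true := by decide +kernel
theorem tabI_4 : chkInvR 306936 pmL12 pmL13 153468 38367 = true := by decide +kernel
theorem tabI_5 : chkInvR 306936 pmL12 pmL13 191835 38367 = true := by decide +kernel
theorem tabI_6 : chkInvR 306936 pmL12 pmL13 230202 38367 = true := by decide +kernel
theorem tabI_7 : chkInvR 306936 pmL12 pmL13 268569 38367 = true := by decide +kernel

/-- the ranges of the checks of the first table -/
def rsP : List (ℕ × ℕ) := [(0, 7674), (7674, 7674), (15348, 7674), (23022, 7674), (30696, 7674), (38370, 7674), (46044, 7674), (53718, 7674), (61392, 7674), (69066, 7674), (76740, 7674), (84414, 7674), (92088, 7674), (99762, 7674), (107436, 7674), (115110, 7674), (122784, 7674), (130458, 7674), (138132, 7674), (145806, 7674), (153480, 7674), (161154, 7674), (168828, 7674), (176502, 7674), (184176, 7674), (191850, 7674), (199524, 7674), (207198, 7674), (214872, 7674), (222546, 7674), (230220, 7674), (237894, 7674), (245568, 7674), (253242, 7674), (260916, 7674), (268590, 7674), (276264, 7674), (283938,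 7674), (291612, 7674), (299286, 7650)]

/-- the ranges of the checks of the second table -/
def rsI : List (ℕ × ℕ) := [(0, 38367), (38367, 38367), (76734, 38367), (115101, 38367), (153468, 38367), (191835, 38367), (230202, 38367), (268569, 38367)]

theorem tabP_all : ∀ r ∈ rsP, chkTabR pm wp pmL12 r.1 r.2 = true := by
  intro r hr
  simp only [rsP, List.mem_cons, List.not_mem_nil, or_false] at hr
  rcases hr with rfl | rfl | rfl | rfl | rfl | rfl | rfl | rfl | rfl | rfl | rfl | rfl | rfl | rfl | rfl | rfl | rfl | rfl | rfl | rfl | rfl | rfl | rfl | rfl | rfl | rfl | rfl | rfl | rfl | rfl | rfl | rfl | rfl | rfl | rfl | rfl | rfl | rfl | rfl | rfl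
  · exact tabP_0
  · exact tabP_1
  · exact tabP_2
  · exact tabP_3
  · exact tabP_4
  · exact tabP_5
  · exact tabP_6
  · exact tabP_7
  · exact tabP_8
  · exact tabP_9
  · exact tabP_10
  · exact tabP_11
  · exact tabP_12
  · exact tabP_13
  · exact tabP_14
  · exact tabP_15
  · exact tabP_16
  · exact tabP_17
  · exact tabP_18
  · exact tabP_19
  · exact tabP_20
  · exact tabP_21
  · exact tabP_22
  · exact tabP_23
  · exact tabP_24
  · exact tabP_25
  · exact tabP_26
  · exact tabP_27
  · exact tabP_28
  · exact tabP_29
  · exact tabP_30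
  · exact tabP_31
  · exact tabP_32
  · exact tabP_33
  · exact tabP_34
  · exact tabP_35
  · exact tabP_36
  · exact tabP_37
  · exact tabP_38
  · exact tabP_39

theorem tabI_all : ∀ r ∈ rsI, chkInvR 306936 pmL12 pmL13 r.1 r.2 = true := by
  intro r hr
  simp only [rsI, List.mem_cons, List.not_mem_nil, or_false] at hr
  rcases hr with rfl | rfl | rfl | rfl | rfl | rfl | rfl | rfl
  · exact tabI_0
  · exact tabI_1
  · exact tabI_2
  · exact tabI_3
  · exact tabI_4
  · exact tabI_5
  · exact tabI_6
  · exact tabI_7

end Cfsg.Agent.Lib.Helper2.Fi24Out
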