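import Cfsg.Agent.Lib.Helper2.Fi24Out1
import Cfsg.Agent.Lib.Helper2.Fi24Out2k
import Cfsg.Agent.Lib.Helper5.Chain2

set_option autoImplicit false
set_option maxRecDepth 100000

/-! # The group `Fi24`: the model with the element of order 29 and its inverse as letters -/

namespace Cfsg.Agent.Lib.Helper2.Fi24Out

open Cfsg.Spor Cfsg.Agent.Lib.Helper6.TC Cfsg.Agent.Lib.Helper6.TCD Cfsg.Agent.Lib.Helper6.PM
open Cfsg.Agent.Lib.Helper6.TCP.Fi24 Cfsg.Agent.Lib.Helper2.PMS Cfsg.Agent.Lib.Helper2.PMC
open Cfsg.Agent.Lib.Helper5.Chain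

set_option Elab.async false

theorem pm_old : ∀ c < 12, ∀ q, pm c q = fi24Model.px c q := by
  intro c hc q
  interval_cases c <;> rfl

theorem pm_12 (q : ℕ) : pm 12 q = pmL12 q := rfl

theorem pm_13 (q : ℕ) : pm 13 q = pmL13 q := rfl

theorem wapp_pm_old : ∀ (w : List ℕ), (∀ c ∈ w, c < 12) → ∀ q,
    wapp pm w q = wapp fi24Model.px w q
  | [], _, _ => rfl
  | c :: w, hw, q => by
    rw [wapp_cons, wapp_cons, pm_old c (hw c List.mem_cons_self),
      wapp_pm_old w fun c' hc' => hw c' (List.mem_cons_of_mem _ hc')]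

theorem lt_wp0 : ∀ c ∈ wp, c < 12 := by decide

theorem tab12 : ∀ q < 306936, wapp fi24Model.px wp q = pmL12 q := by
  apply forall_of_ranges (fun q => wapp fi24Model.px wp q = pmL12 q) 306936 rsP ?_ (by decide)
  intro r hr q h1 h2
  rw [← wapp_pm_old wp lt_wp0 q]
  exact tab_of_chkTabR pm wp pmL12 r.1 r.2 (tabP_all r hr) q h1 h2

theorem tabInv : ∀ q < 306936, pmL13 q < 306936 ∧ pmL12 (pmL13 q) = q :=
  forall_of_ranges _ 306936 rsI
    (fun r hr => inv_of_chkInvR 306936 pmL12 pmL13 r.1 r.2 (tabI_all r hr)) (by decide)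

theorem elt_letter (c : ℕ) : fi24Model.elt [c] = PresentedGroup.mk Rels (FreeGroup.of (gen c)) := by
  show elt [c] = _
  unfold elt
  rw [wordElt_cons, wordElt_nil, mul_one, ceOf_gc]

theorem elt_sq : ∀ c < fi24Model.nl, fi24Model.elt [c] * fi24Model.elt [c] = 1 := by
  intro c _
  rw [elt_letter]
  exact gen_sq (gen c)

theorem tab13 : ∀ q < 306936, wapp fi24Model.px wp.reverse q = pmL13 q :=
  wapp_reverse_of_inv fi24Model elt_sq wp lt_wp0 pmL12 pmL13 tab12 tabInv

theorem tabFacts : TabFacts fi24Model ws14 pm := by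
  constructor
  · show ∀ w ∈ ws14, ∀ c ∈ w, c < 12
    decide
  · intro i hi q hq
    have hi' : i < 14 := hi
    have hq' : q < 306936 := hq
    interval_cases i
    · exact (pm_old 0 (by norm_num) q).symm
    · exact (pm_old 1 (by norm_num) q).symm
    · exact (pm_old 2 (by norm_num) q).symm
    · exact (pm_old 3 (by norm_num) q).symm
    · exact (pm_old 4 (by norm_num) q).symm
    · exact (pm_old 5 (by norm_num) q).symm
    · exact (pm_old 6 (by norm_num) q).symm
    · exact (pm_old 7 (by norm_num) q).symm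
    · exact (pm_old 8 (by norm_num) q).symm
    · exact (pm_old 9 (by norm_num) q).symm
    · exact (pm_old 10 (by norm_num) q).symm
    · exact (pm_old 11 (by norm_num) q).symm
    · exact (tab12 q hq').trans (pm_12 q).symm
    · exact (tab13 q hq').trans (pm_13 q).symm

theorem ws14_gen : ∀ c < fi24Model.nl, ∃ i < ws14.length, ws14.getD i [] = [c] := by
  intro c hc
  have hc' : c < 12 := hc
  refine ⟨c, ?_, ?_⟩
  · show c < 14
    omega
  · interval_cases c <;> rfl

/-- the model with the new letters -/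
noncomputable def M : PModel := relabel fi24Model ws14 pm tabFacts ws14_gen

instance finite_G : Finite M.G := finite_Fi24

theorem card_G : Nat.card M.G = 2 * 1255205709190661721292800 := card_Fi24

theorem M_nl : M.nl = 14 := rfl

theorem M_n : M.n = 306936 := rfl

theorem M_elt (w : List ℕ) : M.elt w = fi24Model.elt (expand ws14 w) := rfl

theorem M_elt_old : ∀ (w : List ℕ), (∀ c ∈ w, c < 12) → M.elt w = fi24Model.elt w
  | [], _ => by
    rw [M.elt_nil, fi24Model.elt_nil]
    rfl
  | c :: w, hw => by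
    rw [M.elt_cons, fi24Model.elt_cons, M_elt_old w fun c' hc' => hw c' (List.mem_cons_of_mem _ hc')]
    congr 1
    have hc : c < 12 := hw c List.mem_cons_self
    rw [M_elt, expand_cons, expand_nil, List.append_nil]
    interval_cases c <;> rfl

theorem M_elt_12 : M.elt [12] = fi24Model.elt wp := by
  rw [M_elt, expand_cons, expand_nil, List.append_nil]
  rfl

theorem M_elt_13 : M.elt [13] = (fi24Model.elt wp)⁻¹ := by
  rw [M_elt, expand_cons, expand_nil, List.append_nil]
  exact elt_reverse_of_sq fi24Model elt_sq wp lt_wp0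

theorem iv_old : ∀ c < 12, iv c = c := by
  intro c hc
  interval_cases c <;> rfl

theorem invMap : InvMap M iv := by
  apply invMap_of_elt
  intro c hc
  have hc' : c < 14 := hc
  by_cases h12 : c < 12
  · rw [iv_old c h12]
    refine ⟨hc, ?_⟩
    have h1 : M.elt [c] = fi24Model.elt [c] := M_elt_old [c] (by
      intro c' hc''
      rw [List.mem_singleton] at hc''
      rw [hc'']
      exact h12)
    rw [h1]
    exact eq_inv_of_mul_eq_one_left (elt_sq c h12)
  · have h : c = 12 ∨ c = 13 := by omega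
    rcases h with rfl | rfl
    · refine ⟨by decide, ?_⟩
      show M.elt [13] = (M.elt [12])⁻¹
      rw [M_elt_12, M_elt_13]
      rfl
    · refine ⟨by decide, ?_⟩
      show M.elt [12] = (M.elt [13])⁻¹
      rw [M_elt_12, M_elt_13]
      exact (inv_inv (fi24Model.elt wp)).symm

theorem trans_aux (p p' : Fin 306936) : ∃ g : Fi24, phi g p = p' := by
  obtain ⟨g, hg⟩ := phi_trans p
  obtain ⟨g', hg'⟩ := phi_trans p'
  refine ⟨g' * g⁻¹, ?_⟩
  rw [map_mul, map_inv, Equiv.Perm.mul_apply, ← hg, Equiv.Perm.inv_def, Equiv.symm_apply_apply, hg']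

/-- the action is transitive -/
theorem transitive : MulAction.IsPretransitive M.G (Fin M.n) :=
  ⟨fun p p' => trans_aux p p'⟩

end Cfsg.Agent.Lib.Helper2.Fi24Out
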