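import Cfsg.Agent.Lib.Helper2.Fi24Out3
import Cfsg.Agent.Lib.Helper2.Fi24OutDA

set_option autoImplicit false
set_option maxRecDepth 100000

/-! # The group `Fi24`: the first verified chain of the stabilizer of the point 0 -/

namespace Cfsg.Agent.Lib.Helper2.Fi24Out

open Cfsg.Spor Cfsg.Agent.Lib.Helper6.TC Cfsg.Agent.Lib.Helper6.PM Cfsg.Agent.Lib.Helper2.PMS
open Cfsg.Agent.Lib.Helper2.PMC Cfsg.Agent.Lib.Helper5.Srch

set_option Elab.async false

/-! One loop over a big transversal in each declaration: the kernel keeps what it computed until the
end of the declaration. -/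

theorem chk_L1A_let : chkLetters M L1A.U = true := by decide +kernel
theorem chk_L1A_fix : ([0].all fun q => chkFixes M L1A.U q) = true := by decide +kernel
theorem chk_L1A_img : eqImgs M L1A.U L1A.b L1A.I = true := by decide +kernel
theorem chk_L1A_inc : strictInc L1A.I = true := by decide +kernel

theorem chk_L1A : chkLevel M [0] L1A = true :=
  chkLevel_of_parts M [0] L1A (by decide +kernel) chk_L1A_let chk_L1A_fix chk_L1A_img chk_L1A_inc

theorem chk_L2A : chkLevel M [305120, 0] L2A = true := by decide +kernel
theorem chk_L3A : chkLevel M [305068, 305120, 0] L3A = true := by decide +kernel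
theorem chk_L4A : chkLevel M [305362, 305068, 305120, 0] L4A = true := by decide +kernel
theorem chk_L5A : chkLevel M [183998, 305362, 305068, 305120, 0] L5A = true := by decide +kernel
theorem chk_L6A : chkLevel M [31017, 183998, 305362, 305068, 305120, 0] L6A = true := by
  decide +kernel
theorem chk_L7A : chkLevel M [3860, 31017, 183998, 305362, 305068, 305120, 0] L7A = true := by
  decide +kernel

theorem chk_lvA : chkLevels M [0] lvA = true := by
  have e : chkLevels M [0] lvA = (chkLevel M [0] L1A && (chkLevel M [305120, 0] L2A &&
      (chkLevel M [305068, 305120, 0] L3A && (chkLevel M [305362, 305068, 305120, 0] L4A &&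
      (chkLevel M [183998, 305362, 305068, 305120, 0] L5A &&
      (chkLevel M [31017, 183998, 305362, 305068, 305120, 0] L6A &&
      (chkLevel M [3860, 31017, 183998, 305362, 305068, 305120, 0] L7A && true))))))) := rfl
  rw [e, chk_L1A, chk_L2A, chk_L3A, chk_L4A, chk_L5A, chk_L6A, chk_L7A]
  rfl

theorem card_stab0 : Nat.card (stabL M [0]) = 8178940946586009600 := by
  have h := card_stabL_singleton transitive 0
  rw [card_G] at h
  have h' : Nat.card (stabL M [0]) * 306936 = 8178940946586009600 * 306936 := by
    rw [show (8178940946586009600 * 306936 : ℕ) = 2 * 1255205709190661721292800 by norm_num]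
    exact h
  exact Nat.eq_of_mul_eq_mul_right (by norm_num) h'

theorem factsA : RelChainFacts M [0] lvA where
  hfix := by
    intro q hq
    rw [List.mem_singleton] at hq
    rw [hq]
    show 0 < 306936
    norm_num
  hchk := chk_lvA
  hcard := by
    rw [card_stab0]
    decide +kernel

theorem chk_msA : chkMasks lvA msA = true := by decide +kernel

end Cfsg.Agent.Lib.Helper2.Fi24Out
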