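import Cfsg.Agent.Lib.Helper2.Fi24Out5d

set_option autoImplicit false
set_option maxRecDepth 100000

/-! # The group `Fi24`: the centralizer of the element of order 29 -/

namespace Cfsg.Agent.Lib.Helper2.Fi24Out

open Cfsg.Spor Cfsg.Agent.Lib.Helper6.TC Cfsg.Agent.Lib.Helper6.PM Cfsg.Agent.Lib.Helper2.PMS
open Cfsg.Agent.Lib.Helper2.PMC Cfsg.Agent.Lib.Helper5.Srch

set_option Elab.async false

/-- the pieces of the certificate of the first search -/
noncomputable def pcsCp : List (ℕ × ℕ × ℕ × List (List ℕ × Cfsg.Agent.Lib.Helper5.Srch.Cert)) := [(0, 15347, kCp_0, cCp_0), (15347, 15347, kCp_1, cCp_1), (30694, 15347, kCp_2, cCp_2), (46041, 15347, kCp_3, cCp_3), (61388, 15347, kCp_4, cCp_4), (76735, 15347, kCp_5, cCp_5), (92082, 15347, kCp_6, cCp_6), (107429, 15347, kCp_7, cCp_7), (122776, 15347, kCp_8, cCp_8), (138123, 15347, kCp_9, cCp_9), (153470, 15347, kCp_10, cCp_10), (168817, 15347, kCp_11, cCp_11), (184164, 15347, kCp_12, cCp_12), (199511,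 15347, kCp_13, cCp_13), (214858, 15347, kCp_14, cCp_14), (230205, 15347, kCp_15, cCp_15), (245552, 15347, kCp_16, cCp_16), (260899, 15347, kCp_17, cCp_17), (276246, 15347, kCp_18, cCp_18), (291593, 15343, kCp_19, cCp_19)]

theorem chk_Cp : ∀ p ∈ pcsCp, chkTopM M iv wq lvA msA 0 [12] p.2.2.1 p.1 p.2.1 0 p.2.2.2 = true := by
  intro p hp
  simp only [pcsCp, List.mem_cons, List.not_mem_nil, or_false] at hp
  rcases hp with rfl | rfl | rfl | rfl | rfl | rfl | rfl | rfl | rfl | rfl | rfl | rfl | rfl | rfl | rfl | rfl | rfl | rfl | rfl | rfl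
  · exact chk_Cp_0
  · exact chk_Cp_1
  · exact chk_Cp_2
  · exact chk_Cp_3
  · exact chk_Cp_4
  · exact chk_Cp_5
  · exact chk_Cp_6
  · exact chk_Cp_7
  · exact chk_Cp_8
  · exact chk_Cp_9
  · exact chk_Cp_10
  · exact chk_Cp_11
  · exact chk_Cp_12
  · exact chk_Cp_13
  · exact chk_Cp_14
  · exact chk_Cp_15
  · exact chk_Cp_16
  · exact chk_Cp_17
  · exact chk_Cp_18
  · exact chk_Cp_19

theorem cover_Cp : chkCoverR M.n 0 (pcsCp.map fun p => (p.1, p.2.1)) = true := by
  decide +kernel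

theorem leaves_Cp : (pcsCp.all fun p => p.2.2.2.all fun e => (leaves e.2).all fun z =>
    [([] : List ℕ)].contains z) = true := by decide +kernel

/-- the element of order 29 -/
noncomputable def gp : M.G := M.elt [12]

theorem gp_pow (k : ℕ) : gp ^ k = M.elt (rep k [12]) := (elt_rep M k [12]).symm

theorem elt_wq : M.elt wq = gp ^ 5 := by
  have h : rep 5 [12] = wq := by decide
  rw [gp_pow, h]

theorem centralizer_gq (g : M.G) (hg : g⁻¹ * M.elt wq * g = M.elt wq) : ∃ i : ℕ, g = gp ^ i := by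
  have hcw : M.elt [12] * M.elt wq = M.elt wq * M.elt [12] := by
    rw [elt_wq]
    show gp * gp ^ 5 = gp ^ 5 * gp
    rw [← pow_succ, ← pow_succ']
  obtain ⟨k, p, hp, e, he, z, hz, hgz⟩ := factsA.search_top_min msA chk_msA iv invMap wq chk_wq
    chk_srcA [12] chk_w12 hcw pcsCp chk_Cp cover_Cp g hg
  have h1 := leaves_Cp
  rw [List.all_eq_true] at h1
  have h2 := h1 p hp
  rw [List.all_eq_true] at h2
  have h3 := h2 e he
  rw [List.all_eq_true] at h3
  have h4 := h3 z hz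
  rw [List.contains_iff_mem, List.mem_singleton] at h4
  rw [h4, M.elt_nil, one_mul] at hgz
  have h5 : g ∈ Subgroup.zpowers gp := ⟨k, hgz.symm⟩
  rw [← (isOfFinOrder_of_finite gp).mem_powers_iff_mem_zpowers] at h5
  obtain ⟨i, hi⟩ := h5
  exact ⟨i, hi.symm⟩

theorem centralizer_gp (g : M.G) (hg : g⁻¹ * gp * g = gp) : ∃ i : ℕ, g = gp ^ i := by
  apply centralizer_gq g
  rw [elt_wq]
  have h : g⁻¹ * gp ^ 5 * g = (g⁻¹ * gp * g) ^ 5 := by
    have := conj_pow (a := g⁻¹) (b := gp) (i := 5)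
    rw [inv_inv] at this
    exact this.symm
  rw [h, hg]

end Cfsg.Agent.Lib.Helper2.Fi24Out
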