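import Cfsg.Agent.Lib.Helper2.Fi24Out5c
import Cfsg.Agent.Lib.Helper2.Fi24OutCP1

set_option autoImplicit false
set_option maxRecDepth 100000

/-! # The group `Fi24`: checks of pieces of the certificate of the first search (generated) -/

namespace Cfsg.Agent.Lib.Helper2.Fi24Out

open Cfsg.Spor Cfsg.Agent.Lib.Helper6.TC Cfsg.Agent.Lib.Helper6.PM Cfsg.Agent.Lib.Helper2.PMS
open Cfsg.Agent.Lib.Helper2.PMC Cfsg.Agent.Lib.Helper5.Srch

set_option Elab.async false

theorem chk_Cp_15 : chkTopM M iv wq lvA msA 0 [12] kCp_15 230205 15347 0 cCp_15 = true := by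
  decide +kernel
theorem chk_Cp_16 : chkTopM M iv wq lvA msA 0 [12] kCp_16 245552 15347 0 cCp_16 = true := by
  decide +kernel
theorem chk_Cp_17 : chkTopM M iv wq lvA msA 0 [12] kCp_17 260899 15347 0 cCp_17 = true := by
  decide +kernel
theorem chk_Cp_18 : chkTopM M iv wq lvA msA 0 [12] kCp_18 276246 15347 0 cCp_18 = true := by
  decide +kernel
theorem chk_Cp_19 : chkTopM M iv wq lvA msA 0 [12] kCp_19 291593 15343 0 cCp_19 = true := by
  decide +kernel

end Cfsg.Agent.Lib.Helper2.Fi24Out
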