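import Cfsg.Agent.Lib.Helper2.PMChain10

set_option autoImplicit false

/-! # Searches for the centralizer of an element, up to the powers of a commuting element: only
the smallest point of each orbit of the commuting element is a candidate for the image of the
first base point -/

namespace Cfsg.Agent.Lib.Helper2.PMC

open Cfsg.Agent.Lib.Helper6.TC Cfsg.Agent.Lib.Helper6.PM Cfsg.Agent.Lib.Helper2.PMS
open Cfsg.Agent.Lib.Helper5

variable {M : PModel}

/-- the check of a range of `len` points from `lo`: the codes, five bits for each point, are `0`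
for a point with an entry, a word and a certificate, the entries being used in order, or a power
of the word `wc` mapping the point to a smaller point -/
noncomputable def chkTopM (M : PModel) (iv : ℕ → ℕ) (ws : List ℕ) (lv : List Level)
    (ms : List ℕ) (x : ℕ) (wc : List ℕ) (codes lo : ℕ) :
    ℕ → ℕ → List (List ℕ × Srch.Cert) → Bool
  | 0, _, _ => true
  | len + 1, i, es =>
    Bool.rec
      (Nat.blt (wappS M.px (rep (Nat.land (Nat.shiftRight codes (Nat.mul 5 i)) 31) wc)
        (Nat.add lo i)) (Nat.add lo i) && chkTopM M iv ws lv ms x wc codes lo len (i + 1) es)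
      (match es with
        | [] => false
        | e :: es' => chkW M e.1 && Nat.beq (wappS M.px e.1 x) (Nat.add lo i) &&
            Srch.chk M iv ws ws e.2 lv ms (pendOf lv) [x] e.1 &&
            chkTopM M iv ws lv ms x wc codes lo len (i + 1) es')
      (Nat.beq (Nat.land (Nat.shiftRight codes (Nat.mul 5 i)) 31) 0)

theorem chkTopM_spec (iv : ℕ → ℕ) (ws : List ℕ) (lv : List Level) (ms : List ℕ) (x : ℕ)
    (wc : List ℕ) (codes lo : ℕ) :
    ∀ (len i : ℕ) (es : List (List ℕ × Srch.Cert)),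
    chkTopM M iv ws lv ms x wc codes lo len i es = true →
    ∀ y, lo + i ≤ y → y < lo + i + len →
    (∃ j, wapp M.px (rep j wc) y < y) ∨
    ∃ e ∈ es, chkW M e.1 = true ∧ wapp M.px e.1 x = y ∧
      Srch.chk M iv ws ws e.2 lv ms (pendOf lv) [x] e.1 = true
  | 0, i, es, _, y, h1, h2 => by omega
  | len + 1, i, es, h, y, h1, h2 => by
    unfold chkTopM at h
    cases hb : Nat.beq (Nat.land (Nat.shiftRight codes (Nat.mul 5 i)) 31) 0 with
    | false =>
      rw [hb] at h
      simp only [Bool.and_eq_true, Nat.blt_eq, wappS_eq] at h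
      obtain ⟨ha, hr⟩ := h
      rcases Nat.eq_or_lt_of_le h1 with rfl | hlt
      · exact Or.inl ⟨_, ha⟩
      · exact chkTopM_spec iv ws lv ms x wc codes lo len (i + 1) es hr y (by omega) (by omega)
    | true =>
      rw [hb] at h
      cases es with
      | nil => exact absurd h (by simp)
      | cons e es' =>
        simp only [Bool.and_eq_true, Nat.beq_eq, wappS_eq] at h
        obtain ⟨⟨⟨ha, hc⟩, hd⟩, hr⟩ := h
        rcases Nat.eq_or_lt_of_le h1 with rfl | hlt
        · exact Or.inr ⟨e, List.mem_cons_self, ha, hc, hd⟩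
        · rcases chkTopM_spec iv ws lv ms x wc codes lo len (i + 1) es' hr y (by omega)
            (by omega) with h' | ⟨e', he', h'⟩
          · exact Or.inl h'
          · exact Or.inr ⟨e', List.mem_cons_of_mem _ he', h'⟩

/-- a certified search along a chain of the stabilizer of a point `x`, for the elements
commuting with the element of the word `ws`, up to the powers of the element of a word `wc`
commuting with it -/
theorem RelChainFacts.search_top_min [Finite M.G] {x : ℕ} {lv : List Level}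
    (F : RelChainFacts M [x] lv) (ms : List ℕ) (hms : Srch.chkMasks lv ms = true)
    (iv : ℕ → ℕ) (hI : InvMap M iv) (ws : List ℕ) (hws : chkW M ws = true)
    (hsrc : chkSrc M ws [x] lv = true) (wc : List ℕ) (hwc : chkW M wc = true)
    (hcw : M.elt wc * M.elt ws = M.elt ws * M.elt wc)
    (pcs : List (ℕ × ℕ × ℕ × List (List ℕ × Srch.Cert)))
    (hc : ∀ p ∈ pcs, chkTopM M iv ws lv ms x wc p.2.2.1 p.1 p.2.1 0 p.2.2.2 = true)
    (hcov : chkCoverR M.n 0 (pcs.map fun p => (p.1, p.2.1)) = true)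
    (g : M.G) (hg : g⁻¹ * M.elt ws * g = M.elt ws) :
    ∃ k : ℤ, ∃ p ∈ pcs, ∃ e ∈ p.2.2.2, ∃ z ∈ Srch.leaves e.2, g = M.elt z * M.elt wc ^ k := by
  classical
  have hxn : x < M.n := F.hfix x List.mem_cons_self
  have hwc' := lt_of_chkW M wc hwc
  set C := M.elt wc with hC
  -- the smallest image of `x` under the elements `C ^ k * g⁻¹`
  have hex : ∃ n : ℕ, ∃ k : ℤ, ((C ^ k * g⁻¹) • pnt M x).val = n := ⟨_, 0, rfl⟩
  obtain ⟨k, hk⟩ := Nat.find_spec hex
  have hmin : ∀ k' : ℤ, Nat.find hex ≤ ((C ^ k' * g⁻¹) • pnt M x).val :=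
    fun k' => Nat.find_min' hex ⟨k', rfl⟩
  set y := Nat.find hex with hy
  have hyn : y < M.n := by
    rw [← hk]
    exact Fin.isLt _
  -- the element `g * C ^ (-k)`
  have hinv : (g * C ^ (-k))⁻¹ = C ^ k * g⁻¹ := by
    rw [mul_inv_rev, zpow_neg, inv_inv]
  have hcz : ∀ m : ℤ, C ^ m * M.elt ws = M.elt ws * C ^ m := by
    intro m
    exact ((Commute.zpow_left (show Commute C (M.elt ws) from hcw) m)).eq
  have hg' : (g * C ^ (-k))⁻¹ * M.elt ws * (g * C ^ (-k)) = M.elt ws := by
    rw [hinv]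
    calc C ^ k * g⁻¹ * M.elt ws * (g * C ^ (-k))
        = C ^ k * (g⁻¹ * M.elt ws * g) * C ^ (-k) := by group
      _ = C ^ k * M.elt ws * C ^ (-k) := by rw [hg]
      _ = M.elt ws * C ^ k * C ^ (-k) := by rw [hcz k]
      _ = M.elt ws := by group
  obtain ⟨r, hr, h1, h2⟩ := coverR_of_chk M.n _ 0 hcov y (Nat.zero_le _) hyn
  rw [List.mem_map] at hr
  obtain ⟨p, hp, rfl⟩ := hr
  rcases chkTopM_spec iv ws lv ms x wc p.2.2.1 p.1 p.2.1 0 p.2.2.2 (hc p hp) y (by simpa using h1)
    (by simpa using h2) with ⟨j, hj⟩ | ⟨e, he, hu, hux, hchk⟩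
  · -- a smaller image: impossible
    exfalso
    have h3 : (M.elt (rep j wc))⁻¹ • pnt M y = pnt M (wapp M.px (rep j wc) y) :=
      inv_elt_smul_pnt M (rep j wc) (rep_lt M.nl j wc hwc') y hyn
    have h4 : pnt M y = (C ^ k * g⁻¹) • pnt M x := by
      rw [← hk]
      exact pnt_eq M _
    rw [elt_rep, h4, ← mul_smul] at h3
    have h5 : (C ^ j)⁻¹ * (C ^ k * g⁻¹) = C ^ (k - j) * g⁻¹ := by
      rw [← mul_assoc, ← zpow_natCast, ← zpow_neg, ← zpow_add]
      congr 2
      ring
    rw [h5] at h3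
    have h6 := hmin (k - j)
    rw [h3, pnt_val M _ (M.wapp_lt _ (rep_lt M.nl j wc hwc') y hyn)] at h6
    omega
  · obtain ⟨z, hz, hgz⟩ := F.search_at ms hms iv hI ws ws hws hws hsrc (g * C ^ (-k)) hg' e.1 e.2
      hu (by rw [hux, hinv, hk]) hchk
    refine ⟨k, p, hp, e, he, z, hz, ?_⟩
    rw [← hgz]
    group

end Cfsg.Agent.Lib.Helper2.PMC
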