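import Cfsg.Agent.Lib.Helper2.Fi24Out4
import Cfsg.Agent.Lib.Helper2.PMChain11

set_option autoImplicit false
set_option maxRecDepth 100000

/-! # The group `Fi24`: the word of the first search -/

namespace Cfsg.Agent.Lib.Helper2.Fi24Out

open Cfsg.Spor Cfsg.Agent.Lib.Helper6.TC Cfsg.Agent.Lib.Helper6.PM Cfsg.Agent.Lib.Helper2.PMS
open Cfsg.Agent.Lib.Helper2.PMC Cfsg.Agent.Lib.Helper5.Srch

set_option Elab.async false

/-- the fifth power of the element of order 29 -/
def wq : List ℕ := [12, 12, 12, 12, 12]

theorem chk_wq : chkW M wq = true := by decide +kernel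

theorem chk_w12 : chkW M [12] = true := by decide +kernel

theorem chk_srcA : chkSrc M wq [0] lvA = true := by decide +kernel

end Cfsg.Agent.Lib.Helper2.Fi24Out
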