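import Cfsg.Agent.Lib.Helper2.Fi24Out5
import Cfsg.Agent.Lib.Helper2.Fi24OutCW
import Cfsg.Agent.Lib.Helper2.RigidOut4

set_option autoImplicit false
set_option maxRecDepth 100000

/-! # The group `Fi24`: the normalizer of a Sylow 29-subgroup -/

namespace Cfsg.Agent.Lib.Helper2.Fi24Out

open Cfsg.Spor Cfsg.Agent.Lib.Helper6.TC Cfsg.Agent.Lib.Helper6.PM Cfsg.Agent.Lib.Helper2.PMS
open Cfsg.Agent.Lib.Helper2.PMC Cfsg.Agent.Lib.Helper2.RigidOut Cfsg.Agent.Lib.Helper5.Srch

set_option Elab.async false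

/-- the element of order 28 -/
noncomputable def gn : M.G := M.elt wn
/-- the element of order 3 centralizing the square of the element of order 28 -/
noncomputable def gv : M.G := M.elt wv

theorem lt_wn : ∀ c ∈ wn, c < M.nl := by rw [M_nl]; decide
theorem lt_wv : ∀ c ∈ wv, c < M.nl := by rw [M_nl]; decide
theorem lt_12 : ∀ c ∈ [12], c < M.nl := by rw [M_nl]; decide

theorem gn_pow (k : ℕ) : gn ^ k = M.elt (rep k wn) := (elt_rep M k wn).symm
theorem gv_pow (k : ℕ) : gv ^ k = M.elt (rep k wv) := (elt_rep M k wv).symm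

theorem gp_inv : gp⁻¹ = M.elt (invw iv [12]) := (elt_invw M iv invMap [12] lt_12).symm
theorem gn_inv : gn⁻¹ = M.elt (invw iv wn) := (elt_invw M iv invMap wn lt_wn).symm
theorem gv_inv : gv⁻¹ = M.elt (invw iv wv) := (elt_invw M iv invMap wv lt_wv).symm

theorem chk_p29 : chkBaseR M [0] lvA (rep 29 [12]) [] = true := by decide +kernel
theorem chk_p1 : chkNeAt M [12] [] 0 = true := by decide +kernel

theorem gp_ne : gp ≠ 1 := by
  have := elt_ne_of_chkNeAt (M := M) _ _ _ chk_p1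
  rwa [M.elt_nil] at this

theorem orderOf_gp : orderOf gp = 29 := by
  have : Fact (Nat.Prime 29) := ⟨by norm_num⟩
  apply orderOf_eq_prime
  · rw [gp_pow, ← M.elt_nil]
    exact factsA.elt_eq_of_chk _ _ chk_p29
  · exact gp_ne

theorem chk_pn : chkBaseR M [0] lvA (invw iv wn ++ [12] ++ wn) [12, 12] = true := by
  decide +kernel

theorem rel_pn : gn⁻¹ * gp * gn = gp ^ 2 := by
  rw [gn_inv, gp_pow]
  unfold gp gn
  rw [← M.elt_append, ← M.elt_append]
  exact factsA.elt_eq_of_chk _ _ chk_pn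

theorem chk_n28 : chkBaseR M [0] lvA (rep 28 wn) [] = true := by decide +kernel
theorem chk_n14 : chkNeAt M (rep 14 wn) [] 1 = true := by decide +kernel
theorem chk_n4 : chkNeAt M (rep 4 wn) [] 0 = true := by decide +kernel

theorem gn_pow28 : gn ^ 28 = 1 := by
  rw [gn_pow, ← M.elt_nil]
  exact factsA.elt_eq_of_chk _ _ chk_n28

theorem gn_pow14 : gn ^ 14 ≠ 1 := by
  rw [gn_pow]
  have := elt_ne_of_chkNeAt (M := M) _ _ _ chk_n14
  rwa [M.elt_nil] at this

theorem gn_pow4 : gn ^ 4 ≠ 1 := by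
  rw [gn_pow]
  have := elt_ne_of_chkNeAt (M := M) _ _ _ chk_n4
  rwa [M.elt_nil] at this

theorem orderOf_gn : orderOf gn = 28 := by
  apply orderOf_eq_of_pow_and_pow_div_prime (by norm_num) gn_pow28
  intro p hp hd
  have hle : p ≤ 28 := Nat.le_of_dvd (by norm_num) hd
  have h27 : p = 2 ∨ p = 7 := by
    interval_cases p <;> first | (exfalso; revert hp; decide) | (exfalso; revert hd; decide) | simp
  rcases h27 with rfl | rfl
  · exact gn_pow14
  · exact gn_pow4

theorem hE1 : ∀ k < 29, 0 < k → ∃ j, ∃ ε ∈ [1], 2 ^ j * k % 29 = ε % 29 := by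
  have h : ∀ k < 29, 0 < k → ∃ j < 28, ∃ ε ∈ [1], 2 ^ j * k % 29 = ε % 29 := by decide
  intro k hk hk0
  obtain ⟨j, _, ε, hε, e⟩ := h k hk hk0
  exact ⟨j, ε, hε, e⟩

theorem normalizer_gp : ∀ x : M.G, (∃ k : ℕ, x⁻¹ * gp * x = gp ^ k) →
    ∃ i j : ℕ, x = gp ^ i * gn ^ j := by
  apply normalizer_of_transporters 29 2 [1] gp gn (by norm_num) orderOf_gp rel_pn hE1
    centralizer_gp
  intro ε hε hne g
  rw [List.mem_singleton] at hε
  subst hε
  exact absurd rfl hne

end Cfsg.Agent.Lib.Helper2.Fi24Out
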