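import Cfsg.Agent.Lib.Helper2.Fi24Out4
import Cfsg.Agent.Lib.Helper2.Fi24OutDB

set_option autoImplicit false
set_option maxRecDepth 100000

/-! # The group `Fi24`: the second verified chain of the stabilizer of the point 0 -/

namespace Cfsg.Agent.Lib.Helper2.Fi24Out

open Cfsg.Spor Cfsg.Agent.Lib.Helper6.TC Cfsg.Agent.Lib.Helper6.PM Cfsg.Agent.Lib.Helper2.PMS
open Cfsg.Agent.Lib.Helper2.PMC Cfsg.Agent.Lib.Helper5.Srch

set_option Elab.async false

theorem chk_L1B_let : chkLetters M L1B.U = true := by decide +kernel
theorem chk_L1B_fix : ([0].all fun q => chkFixes M L1B.U q) = true := by decide +kernel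
theorem chk_L1B_img : eqImgs M L1B.U L1B.b L1B.I = true := by decide +kernel
theorem chk_L1B_inc : strictInc L1B.I = true := by decide +kernel

theorem chk_L1B : chkLevel M [0] L1B = true :=
  chkLevel_of_parts M [0] L1B (by decide +kernel) chk_L1B_let chk_L1B_fix chk_L1B_img chk_L1B_inc

theorem chk_L2B : chkLevel M [97268, 0] L2B = true := by decide +kernel
theorem chk_L3B : chkLevel M [148493, 97268, 0] L3B = true := by decide +kernel
theorem chk_L4B : chkLevel M [274483, 148493, 97268, 0] L4B = true := by decide +kernel
theorem chk_L5B : chkLevel M [165963, 274483, 148493, 97268, 0] L5B = true := by decide +kernel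
theorem chk_L6B : chkLevel M [3498, 165963, 274483, 148493, 97268, 0] L6B = true := by
  decide +kernel
theorem chk_L7B : chkLevel M [17914, 3498, 165963, 274483, 148493, 97268, 0] L7B = true := by
  decide +kernel

theorem chk_lvB : chkLevels M [0] lvB = true := by
  have e : chkLevels M [0] lvB = (chkLevel M [0] L1B && (chkLevel M [97268, 0] L2B &&
      (chkLevel M [148493, 97268, 0] L3B && (chkLevel M [274483, 148493, 97268, 0] L4B &&
      (chkLevel M [165963, 274483, 148493, 97268, 0] L5B &&
      (chkLevel M [3498, 165963, 274483, 148493, 97268, 0] L6B &&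
      (chkLevel M [17914, 3498, 165963, 274483, 148493, 97268, 0] L7B && true))))))) := rfl
  rw [e, chk_L1B, chk_L2B, chk_L3B, chk_L4B, chk_L5B, chk_L6B, chk_L7B]
  rfl

theorem factsB : RelChainFacts M [0] lvB where
  hfix := factsA.hfix
  hchk := chk_lvB
  hcard := by
    rw [card_stab0]
    decide +kernel

theorem chk_msB : chkMasks lvB msB = true := by decide +kernel

end Cfsg.Agent.Lib.Helper2.Fi24Out
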