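import Cfsg.Agent.Lib.Helper2.Fi24Out8e

set_option autoImplicit false
set_option maxRecDepth 100000

/-! # The group `Fi24`: the fixed points of the involution -/

namespace Cfsg.Agent.Lib.Helper2.Fi24Out

open Cfsg.Spor Cfsg.Agent.Lib.Helper6.TC Cfsg.Agent.Lib.Helper6.PM Cfsg.Agent.Lib.Helper2.PMS
open Cfsg.Agent.Lib.Helper2.PMC Cfsg.Agent.Lib.Helper5.Srch

set_option Elab.async false

/-- the ranges of the scan -/
def rsZ : List (ℕ × ℕ) := [(0, 7674), (7674, 7674), (15348, 7674), (23022, 7674), (30696, 7674), (38370, 7674), (46044, 7674), (53718, 7674), (61392, 7674), (69066, 7674), (76740, 7674), (84414, 7674), (92088, 7674), (99762, 7674), (107436, 7674), (115110, 7674), (122784, 7674), (130458, 7674), (138132, 7674), (145806, 7674), (153480, 7674), (161154, 7674), (168828, 7674), (176502, 7674), (184176, 7674), (191850, 7674), (199524, 7674), (207198, 7674), (214872, 7674), (222546, 7674), (230220, 7674), (237894, 7674), (245568, 7674), (253242, 7674), (260916, 7674), (268590, 7674),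 (276264, 7674), (283938, 7674), (291612, 7674), (299286, 7650)]

theorem fixZ_all : ∀ r ∈ rsZ, chkFixRange M wz fixZ r.1 r.2 = true := by
  intro r hr
  simp only [rsZ, List.mem_cons, List.not_mem_nil, or_false] at hr
  rcases hr with rfl | rfl | rfl | rfl | rfl | rfl | rfl | rfl | rfl | rfl | rfl | rfl | rfl | rfl | rfl | rfl | rfl | rfl | rfl | rfl | rfl | rfl | rfl | rfl | rfl | rfl | rfl | rfl | rfl | rfl | rfl | rfl | rfl | rfl | rfl | rfl | rfl | rfl | rfl | rfl
  · exact fixZ_0
  · exact fixZ_1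
  · exact fixZ_2
  · exact fixZ_3
  · exact fixZ_4
  · exact fixZ_5
  · exact fixZ_6
  · exact fixZ_7
  · exact fixZ_8
  · exact fixZ_9
  · exact fixZ_10
  · exact fixZ_11
  · exact fixZ_12
  · exact fixZ_13
  · exact fixZ_14
  · exact fixZ_15
  · exact fixZ_16
  · exact fixZ_17
  · exact fixZ_18
  · exact fixZ_19
  · exact fixZ_20
  · exact fixZ_21
  · exact fixZ_22
  · exact fixZ_23
  · exact fixZ_24
  · exact fixZ_25
  · exact fixZ_26
  · exact fixZ_27
  · exact fixZ_28
  · exact fixZ_29
  · exact fixZ_30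
  · exact fixZ_31
  · exact fixZ_32
  · exact fixZ_33
  · exact fixZ_34
  · exact fixZ_35
  · exact fixZ_36
  · exact fixZ_37
  · exact fixZ_38
  · exact fixZ_39

theorem fixZ_spec : ∀ y < M.n, wapp M.px wz y = y → y ∈ fixZ :=
  forall_of_ranges (fun y => wapp M.px wz y = y → y ∈ fixZ) M.n rsZ
    (fun r hr => fixPts_of_range wz fixZ r.1 r.2 (fixZ_all r hr)) (by decide)

end Cfsg.Agent.Lib.Helper2.Fi24Out
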