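import Cfsg.Agent.Lib.Helper2.Fi24Out6
import Cfsg.Agent.Lib.Helper2.Fi24Out8f

set_option autoImplicit false
set_option maxRecDepth 100000

/-! # The group `Fi24`: the centralizer of the square of the element of order 28 -/

namespace Cfsg.Agent.Lib.Helper2.Fi24Out

open Cfsg.Spor Cfsg.Agent.Lib.Helper6.TC Cfsg.Agent.Lib.Helper6.PM Cfsg.Agent.Lib.Helper2.PMS
open Cfsg.Agent.Lib.Helper2.PMC Cfsg.Agent.Lib.Helper5.Srch

set_option Elab.async false

/-- the word of the square of the element of order 28 -/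
def wh : List ℕ := wn ++ wn

/-- the square of the element of order 28 -/
noncomputable def gh : M.G := M.elt wh

theorem gh_eq : gh = gn * gn := M.elt_append wn wn

theorem gh_pow (k : ℕ) : gh ^ k = M.elt (rep k wh) := (elt_rep M k wh).symm

theorem chk_wh : chkW M wh = true := by decide +kernel

theorem chk_wz : chkW M wz = true := by decide +kernel

theorem chk_srcB : chkSrc M wh [0] lvB = true := by decide +kernel

theorem chk_z : chkBaseR M [0] lvA (rep 7 wh) wz = true := by decide +kernel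

theorem gh_pow7 : gh ^ 7 = M.elt wz := by
  rw [gh_pow]
  exact factsA.elt_eq_of_chk _ _ chk_z

theorem wz_fix0 : wapp M.px wz 0 = 0 := by decide +kernel

theorem chk_Ch_0 : (cCh_0.all fun e => chkW M e.2.1 && Nat.beq (wappS M.px e.2.1 0) e.1 &&
    chk M iv wh wh e.2.2 lvB msB (pendOf lvB) [0] e.2.1) = true := by decide +kernel
theorem chk_Ch_1 : (cCh_1.all fun e => chkW M e.2.1 && Nat.beq (wappS M.px e.2.1 0) e.1 &&
    chk M iv wh wh e.2.2 lvB msB (pendOf lvB) [0] e.2.1) = true := by decide +kernel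
theorem chk_Ch_2 : (cCh_2.all fun e => chkW M e.2.1 && Nat.beq (wappS M.px e.2.1 0) e.1 &&
    chk M iv wh wh e.2.2 lvB msB (pendOf lvB) [0] e.2.1) = true := by decide +kernel

theorem chk_Ch : ∀ e ∈ cCh, (chkW M e.2.1 && Nat.beq (wappS M.px e.2.1 0) e.1 &&
    chk M iv wh wh e.2.2 lvB msB (pendOf lvB) [0] e.2.1) = true := by
  intro e he
  have h0 := chk_Ch_0
  have h1 := chk_Ch_1
  have h2 := chk_Ch_2
  rw [List.all_eq_true] at h0 h1 h2
  unfold cCh at he
  rcases List.mem_append.mp he with he | he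
  · rcases List.mem_append.mp he with he | he
    · exact h0 e he
    · exact h1 e he
  · exact h2 e he

theorem fixZ_eq : cCh.map (·.1) = fixZ := by decide +kernel

theorem leaves_Ch : (cCh.all fun e => (leaves e.2.2).all fun z =>
    (tabH.map (·.1)).contains z) = true := by decide +kernel

theorem centralizer_gh (g : M.G) (hg : g⁻¹ * gh * g = gh) :
    ∃ z ∈ tabH.map (·.1), g = M.elt z := by
  have hgz : g⁻¹ * M.elt wz * g = M.elt wz := by
    rw [← gh_pow7]
    have := conj_pow (a := g⁻¹) (b := gh) (i := 7)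
    rw [inv_inv] at this
    rw [← this, hg]
  obtain ⟨e, he, z, hz, hgz'⟩ := factsB.search_fixz msB chk_msB iv invMap wh wh chk_wh chk_wh
    chk_srcB wz chk_wz wz_fix0 cCh (by rw [fixZ_eq]; exact fixZ_spec) chk_Ch g hg hgz
  have h1 := leaves_Ch
  rw [List.all_eq_true] at h1
  have h2 := h1 e he
  rw [List.all_eq_true] at h2
  have h3 := h2 z hz
  rw [List.contains_iff_mem] at h3
  exact ⟨z, h3, hgz'⟩

end Cfsg.Agent.Lib.Helper2.Fi24Out
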