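import Cfsg.Agent.Lib.Helper2.Fi24Out7
import Cfsg.Agent.Lib.Helper2.Fi24OutCW
import Cfsg.Agent.Lib.Helper2.Fi24OutCH

set_option autoImplicit false
set_option maxRecDepth 100000

/-! # The group `Fi24`: the fixed points of the involution, by ranges (generated) -/

namespace Cfsg.Agent.Lib.Helper2.Fi24Out

open Cfsg.Spor Cfsg.Agent.Lib.Helper6.TC Cfsg.Agent.Lib.Helper6.PM Cfsg.Agent.Lib.Helper2.PMS
open Cfsg.Agent.Lib.Helper2.PMC Cfsg.Agent.Lib.Helper5.Srch

set_option Elab.async false

theorem fixZ_0 : chkFixRange M wz fixZ 0 7674 = true := by decide +kernel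
theorem fixZ_1 : chkFixRange M wz fixZ 7674 7674 = true := by decide +kernel
theorem fixZ_2 : chkFixRange M wz fixZ 15348 7674 = true := by decide +kernel
theorem fixZ_3 : chkFixRange M wz fixZ 23022 7674 = true := by decide +kernel
theorem fixZ_4 : chkFixRange M wz fixZ 30696 7674 = true := by decide +kernel
theorem fixZ_5 : chkFixRange M wz fixZ 38370 7674 = true := by decide +kernel
theorem fixZ_6 : chkFixRange M wz fixZ 46044 7674 = true := by decide +kernel
theorem fixZ_7 : chkFixRange M wz fixZ 53718 7674 = true := by decide +kernel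

end Cfsg.Agent.Lib.Helper2.Fi24Out
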