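import Cfsg.Agent.Lib.Helper2.Fi24Out8a

set_option autoImplicit false
set_option maxRecDepth 100000

/-! # The group `Fi24`: the fixed points of the involution, by ranges (generated) -/

namespace Cfsg.Agent.Lib.Helper2.Fi24Out

open Cfsg.Spor Cfsg.Agent.Lib.Helper6.TC Cfsg.Agent.Lib.Helper6.PM Cfsg.Agent.Lib.Helper2.PMS
open Cfsg.Agent.Lib.Helper2.PMC Cfsg.Agent.Lib.Helper5.Srch

set_option Elab.async false

theorem fixZ_8 : chkFixRange M wz fixZ 61392 7674 = true := by decide +kernel
theorem fixZ_9 : chkFixRange M wz fixZ 69066 7674 = true := by decide +kernel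
theorem fixZ_10 : chkFixRange M wz fixZ 76740 7674 = true := by decide +kernel
theorem fixZ_11 : chkFixRange M wz fixZ 84414 7674 = true := by decide +kernel
theorem fixZ_12 : chkFixRange M wz fixZ 92088 7674 = true := by decide +kernel
theorem fixZ_13 : chkFixRange M wz fixZ 99762 7674 = true := by decide +kernel
theorem fixZ_14 : chkFixRange M wz fixZ 107436 7674 = true := by decide +kernel
theorem fixZ_15 : chkFixRange M wz fixZ 115110 7674 = true := by decide +kernel

end Cfsg.Agent.Lib.Helper2.Fi24Out
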