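import Cfsg.Agent.Lib.Helper2.Fi24Out8b

set_option autoImplicit false
set_option maxRecDepth 100000

/-! # The group `Fi24`: the fixed points of the involution, by ranges (generated) -/

namespace Cfsg.Agent.Lib.Helper2.Fi24Out

open Cfsg.Spor Cfsg.Agent.Lib.Helper6.TC Cfsg.Agent.Lib.Helper6.PM Cfsg.Agent.Lib.Helper2.PMS
open Cfsg.Agent.Lib.Helper2.PMC Cfsg.Agent.Lib.Helper5.Srch

set_option Elab.async false

theorem fixZ_16 : chkFixRange M wz fixZ 122784 7674 = true := by decide +kernel
theorem fixZ_17 : chkFixRange M wz fixZ 130458 7674 = true := by decide +kernel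
theorem fixZ_18 : chkFixRange M wz fixZ 138132 7674 = true := by decide +kernel
theorem fixZ_19 : chkFixRange M wz fixZ 145806 7674 = true := by decide +kernel
theorem fixZ_20 : chkFixRange M wz fixZ 153480 7674 = true := by decide +kernel
theorem fixZ_21 : chkFixRange M wz fixZ 161154 7674 = true := by decide +kernel
theorem fixZ_22 : chkFixRange M wz fixZ 168828 7674 = true := by decide +kernel
theorem fixZ_23 : chkFixRange M wz fixZ 176502 7674 = true := by decide +kernel

end Cfsg.Agent.Lib.Helper2.Fi24Out
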