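import Cfsg.Agent.Lib.Helper2.Fi24Out8c

set_option autoImplicit false
set_option maxRecDepth 100000

/-! # The group `Fi24`: the fixed points of the involution, by ranges (generated) -/

namespace Cfsg.Agent.Lib.Helper2.Fi24Out

open Cfsg.Spor Cfsg.Agent.Lib.Helper6.TC Cfsg.Agent.Lib.Helper6.PM Cfsg.Agent.Lib.Helper2.PMS
open Cfsg.Agent.Lib.Helper2.PMC Cfsg.Agent.Lib.Helper5.Srch

set_option Elab.async false

theorem fixZ_24 : chkFixRange M wz fixZ 184176 7674 = true := by decide +kernel
theorem fixZ_25 : chkFixRange M wz fixZ 191850 7674 = true := by decide +kernel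
theorem fixZ_26 : chkFixRange M wz fixZ 199524 7674 = true := by decide +kernel
theorem fixZ_27 : chkFixRange M wz fixZ 207198 7674 = true := by decide +kernel
theorem fixZ_28 : chkFixRange M wz fixZ 214872 7674 = true := by decide +kernel
theorem fixZ_29 : chkFixRange M wz fixZ 222546 7674 = true := by decide +kernel
theorem fixZ_30 : chkFixRange M wz fixZ 230220 7674 = true := by decide +kernel
theorem fixZ_31 : chkFixRange M wz fixZ 237894 7674 = true := by decide +kernel

end Cfsg.Agent.Lib.Helper2.Fi24Out
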