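import Cfsg.Agent.Lib.Helper2.Fi24Out8d

set_option autoImplicit false
set_option maxRecDepth 100000

/-! # The group `Fi24`: the fixed points of the involution, by ranges (generated) -/

namespace Cfsg.Agent.Lib.Helper2.Fi24Out

open Cfsg.Spor Cfsg.Agent.Lib.Helper6.TC Cfsg.Agent.Lib.Helper6.PM Cfsg.Agent.Lib.Helper2.PMS
open Cfsg.Agent.Lib.Helper2.PMC Cfsg.Agent.Lib.Helper5.Srch

set_option Elab.async false

theorem fixZ_32 : chkFixRange M wz fixZ 245568 7674 = true := by decide +kernel
theorem fixZ_33 : chkFixRange M wz fixZ 253242 7674 = true := by decide +kernel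
theorem fixZ_34 : chkFixRange M wz fixZ 260916 7674 = true := by decide +kernel
theorem fixZ_35 : chkFixRange M wz fixZ 268590 7674 = true := by decide +kernel
theorem fixZ_36 : chkFixRange M wz fixZ 276264 7674 = true := by decide +kernel
theorem fixZ_37 : chkFixRange M wz fixZ 283938 7674 = true := by decide +kernel
theorem fixZ_38 : chkFixRange M wz fixZ 291612 7674 = true := by decide +kernel
theorem fixZ_39 : chkFixRange M wz fixZ 299286 7650 = true := by decide +kernel

end Cfsg.Agent.Lib.Helper2.Fi24Out
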