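import Cfsg.Agent.Lib.Helper2.RigidOut4

set_option autoImplicit false

/-! # The outer automorphism group of a normal subgroup of index two, by rigidity

`Γ` is a finite group, `N` the kernel of a homomorphism `sgn` onto the group of order two, `p` an
element of prime order `q` of `N` generating a Sylow subgroup, `n` an element outside `N` with
`n⁻¹ p n = p ^ s`, such that the normalizer of `⟨p⟩` in `Γ` is `⟨p⟩⟨n⟩`. -/

namespace Cfsg.Agent.Lib.Helper2.RigidOut

variable {Γ : Type*} [Group Γ]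

theorem zmod2_sq (t : Multiplicative (ZMod 2)) : t * t = 1 := by
  revert t
  decide

theorem zmod2_pow_even (t : Multiplicative (ZMod 2)) (k : ℕ) : t ^ (2 * k) = 1 := by
  rw [pow_mul, pow_two, zmod2_sq, one_pow]

/-- an element of odd order lies in the kernel -/
theorem sgn_eq_one_of_odd (sgn : Γ →* Multiplicative (ZMod 2)) (p : Γ) (q : ℕ) (hq : Odd q)
    (hp : p ^ q = 1) : sgn p = 1 := by
  obtain ⟨k, rfl⟩ := hq
  have h1 : sgn p ^ (2 * k + 1) = 1 := by rw [← map_pow, hp, map_one]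
  rwa [pow_succ, zmod2_pow_even, one_mul] at h1

theorem sgn_sq (sgn : Γ →* Multiplicative (ZMod 2)) (n : Γ) : sgn (n * n) = 1 := by
  rw [map_mul, zmod2_sq]

/-- a power of an element outside the kernel lies in the kernel only if the exponent is even -/
theorem even_of_sgn_pow (sgn : Γ →* Multiplicative (ZMod 2)) (n : Γ) (hn : sgn n ≠ 1) (j : ℕ)
    (h : sgn (n ^ j) = 1) : Even j := by
  rcases Nat.even_or_odd' j with ⟨k, rfl | rfl⟩
  · exact ⟨k, by ring⟩
  · exfalso
    apply hn
    rwa [map_pow, pow_succ, zmod2_pow_even, one_mul] at h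

/-- the subgroup generated by `p`, `n²` and `v` is the subgroup `N` -/
theorem closure_eq_of_normalized [Finite Γ] (N : Subgroup Γ) (p n v : Γ)
    (hp : p ∈ N) (hv : v ∈ N) (hn2 : n * n ∈ N) (hp1 : p ≠ 1)
    (s : ℕ) (hpn : n⁻¹ * p * n = p ^ s)
    (hvn : n⁻¹ * v * n ∈ Subgroup.closure {p, n * n, v})
    (hgen : Subgroup.closure {p, n, v} = ⊤)
    (hmin : ∀ K : Subgroup Γ, K.Normal → K ≠ ⊥ → N ≤ K) :
    Subgroup.closure {p, n * n, v} = N := by
  set K : Subgroup Γ := Subgroup.closure {p, n * n, v} with hK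
  have hpK : p ∈ K := Subgroup.subset_closure (by simp)
  have hhK : n * n ∈ K := Subgroup.subset_closure (by simp)
  have hvK : v ∈ K := Subgroup.subset_closure (by simp)
  have hKN : K ≤ N := by
    rw [hK, Subgroup.closure_le]
    intro x hx
    simp only [Set.mem_insert_iff, Set.mem_singleton_iff] at hx
    rcases hx with h | h | h
    · rw [h]; exact hp
    · rw [h]; exact hn2
    · rw [h]; exact hv
  -- conjugation by `n⁻¹` maps `K` into `K`
  have hφ : ∀ x, (MulAut.conj n⁻¹ : Γ ≃* Γ) x = n⁻¹ * x * n := by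
    intro x
    simp
  have hmap : K.map (MulAut.conj n⁻¹ : Γ ≃* Γ).toMonoidHom ≤ K := by
    rw [hK, MonoidHom.map_closure, Subgroup.closure_le]
    rintro _ ⟨x, hx, rfl⟩
    simp only [Set.mem_insert_iff, Set.mem_singleton_iff] at hx
    change (MulAut.conj n⁻¹ : Γ ≃* Γ) x ∈ Subgroup.closure {p, n * n, v}
    rw [hφ, ← hK]
    rcases hx with h | h | h
    · rw [h, hpn]
      exact Subgroup.pow_mem _ hpK _
    · have : n⁻¹ * (n * n) * n = n * n := by group
      rw [h, this]
      exact hhK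
    · rw [h]
      exact hvn
  have hcardmap : Nat.card (K.map (MulAut.conj n⁻¹ : Γ ≃* Γ).toMonoidHom) = Nat.card K :=
    Subgroup.card_map_of_injective (MulAut.conj n⁻¹ : Γ ≃* Γ).injective
  have hmapeq : K.map (MulAut.conj n⁻¹ : Γ ≃* Γ).toMonoidHom = K := by
    apply Subgroup.eq_of_le_of_card_ge hmap
    rw [hcardmap]
  have hninv : n⁻¹ ∈ Subgroup.normalizer (K : Set Γ) := by
    rw [Subgroup.mem_normalizer_iff_map_conj_eq]
    exact hmapeq
  have hnK : n ∈ Subgroup.normalizer (K : Set Γ) := by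
    have := Subgroup.inv_mem _ hninv
    rwa [inv_inv] at this
  have hnorm : Subgroup.normalizer (K : Set Γ) = ⊤ := by
    rw [eq_top_iff, ← hgen, Subgroup.closure_le]
    intro x hx
    simp only [Set.mem_insert_iff, Set.mem_singleton_iff] at hx
    rcases hx with h | h | h
    · rw [h]; exact Subgroup.le_normalizer hpK
    · rw [h]; exact hnK
    · rw [h]; exact Subgroup.le_normalizer hvK
  have hKn : K.Normal := Subgroup.normalizer_eq_top_iff.mp hnorm
  have hKb : K ≠ ⊥ := by
    intro hb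
    apply hp1
    have := hpK
    rwa [hb, Subgroup.mem_bot] at this
  exact le_antisymm hKN (hmin K hKn hKb)


/-- an automorphism of `N` fixing three generators is trivial -/
theorem eq_one_of_fix_three (N : Subgroup Γ) (a b c : N)
    (hcl : Subgroup.closure {(a : Γ), (b : Γ), (c : Γ)} = N) (α : MulAut N)
    (ha : α a = a) (hb : α b = b) (hc : α c = c) : α = 1 := by
  have htop : Subgroup.closure {a, b, c} = (⊤ : Subgroup N) := by
    apply Subgroup.map_injective N.subtype_injective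
    rw [MonoidHom.map_closure, ← MonoidHom.range_eq_map, Subgroup.range_subtype]
    have himg : (N.subtype : N → Γ) '' {a, b, c} = {(a : Γ), (b : Γ), (c : Γ)} := by
      ext x
      simp only [Set.mem_image, Set.mem_insert_iff, Set.mem_singleton_iff]
      constructor
      · rintro ⟨y, hy | hy | hy, rfl⟩
        · left; rw [hy]; rfl
        · right; left; rw [hy]; rfl
        · right; right; rw [hy]; rfl
      · rintro (h | h | h)
        · exact ⟨a, Or.inl rfl, h.symm⟩
        · exact ⟨b, Or.inr (Or.inl rfl), h.symm⟩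
        · exact ⟨c, Or.inr (Or.inr rfl), h.symm⟩
    rw [himg]
    exact hcl
  have hhom : α.toMonoidHom = MonoidHom.id N := by
    apply MonoidHom.eq_of_eqOn_dense htop
    intro x hx
    simp only [Set.mem_insert_iff, Set.mem_singleton_iff] at hx
    rcases hx with h | h | h
    · rw [h]; exact ha
    · rw [h]; exact hb
    · rw [h]; exact hc
  ext x
  have := DFunLike.congr_fun hhom x
  simpa using congrArg Subtype.val this

/-- the outer automorphism group of a subgroup of index two has order two, by rigidity -/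
theorem card_out_two_of_index_two [Finite Γ] (N : Subgroup Γ) [hNn : N.Normal]
    (sgn : Γ →* Multiplicative (ZMod 2)) (hNker : N = sgn.ker)
    (q m s e μ : ℕ) [hq : Fact q.Prime] (p n v : Γ)
    (hcard : Nat.card N = q * m) (hm : ¬ q ∣ m)
    (hp : orderOf p = q) (hn : orderOf n = 2 * e) (he : 0 < e)
    (hpN : p ∈ N) (hsn : sgn n ≠ 1) (hv : v ∈ N)
    (hpn : n⁻¹ * p * n = p ^ s)
    (hr1 : (s ^ 2) ^ e % q = 1 % q)
    (hord : ∀ j < e, (s ^ 2) ^ j % q = s ^ 2 % q → j = 1)
    (hE : ∀ k < q, 0 < k → ∃ j, ∃ ε ∈ [1, s], (s ^ 2) ^ j * k % q = ε % q)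
    (hEc : Nat.Coprime s q)
    (hμ : s ^ 2 * (μ + 1) % q = μ % q)
    (hnonres : ∀ j < e, (s ^ 2) ^ j % q ≠ s % q)
    (hNorm : ∀ x : Γ, (∃ k : ℕ, x⁻¹ * p * x = p ^ k) → ∃ i j : ℕ, x = p ^ i * n ^ j)
    (hvn : n⁻¹ * v * n ∈ Subgroup.closure {p, n * n, v})
    (hgen : Subgroup.closure {p, n, v} = ⊤)
    (hmin : ∀ K : Subgroup Γ, K.Normal → K ≠ ⊥ → N ≤ K)
    (hrig : ∀ (hh : n * n ∈ N) (α : MulAut N), α ⟨p, hpN⟩ = ⟨p, hpN⟩ → α ⟨n * n, hh⟩ = ⟨n * n, hh⟩ →
      α ⟨v, hv⟩ = ⟨v, hv⟩) :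
    Nat.card (Cfsg.Out N) = 2 := by
  have hq1 : 1 < q := hq.out.one_lt
  have hhN : n * n ∈ N := by
    rw [hNker, MonoidHom.mem_ker]
    exact sgn_sq sgn n
  have hp1 : p ≠ 1 := by
    intro h1
    rw [h1, orderOf_one] at hp
    omega
  have hker : ∀ y ∈ N, sgn y = 1 := by
    intro y hy
    rw [hNker] at hy
    exact MonoidHom.mem_ker.mp hy
  set gp : N := ⟨p, hpN⟩ with hgp
  set gh : N := ⟨n * n, hhN⟩ with hgh
  set gv : N := ⟨v, hv⟩ with hgv
  have hogp : orderOf gp = q := by rw [hgp, Subgroup.orderOf_mk, hp]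
  have hogh : orderOf gh = e := by
    rw [hgh, Subgroup.orderOf_mk, ← pow_two, orderOf_pow_of_dvd (by norm_num) (by rw [hn]; exact dvd_mul_right 2 e), hn]
    omega
  -- the relation in `Γ`
  have hrelΓ : (n * n)⁻¹ * p * (n * n) = p ^ (s ^ 2) := by
    have := conj_rel_pow_pow hpn 2 1
    rwa [pow_one, mul_one, pow_two n] at this
  have hrel : gh⁻¹ * gp * gh = gp ^ (s ^ 2) := by
    apply Subtype.ext
    simp only [hgp, hgh, Subgroup.coe_mul, Subgroup.coe_inv, Subgroup.coe_pow]
    exact hrelΓ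
  -- the normalizer in `N`
  have hN' : ∀ x : N, (∃ k : ℕ, x⁻¹ * gp * x = gp ^ k) → ∃ i j : ℕ, x = gp ^ i * gh ^ j := by
    rintro x ⟨k, hk⟩
    have hk' : (x : Γ)⁻¹ * p * (x : Γ) = p ^ k := by
      have := congrArg Subtype.val hk
      simpa only [hgp, Subgroup.coe_mul, Subgroup.coe_inv, Subgroup.coe_pow] using this
    obtain ⟨i, j, hij⟩ := hNorm (x : Γ) ⟨k, hk'⟩
    have hx1 : sgn (x : Γ) = 1 := hker _ x.2
    have hp1' : sgn p = 1 := hker _ hpN
    have hj : sgn (n ^ j) = 1 := by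
      rw [hij, map_mul, map_pow, hp1', one_pow, one_mul] at hx1
      exact hx1
    obtain ⟨j', rfl⟩ := even_of_sgn_pow sgn n hsn j hj
    refine ⟨i, j', ?_⟩
    apply Subtype.ext
    simp only [hgp, hgh, Subgroup.coe_mul, Subgroup.coe_pow]
    rw [hij, ← two_mul, pow_mul, pow_two]
  have hEc' : ∀ ε ∈ [1, s], Nat.Coprime ε q := by
    intro ε hε
    simp only [List.mem_cons, List.not_mem_nil, or_false] at hε
    rcases hε with rfl | rfl
    · exact Nat.coprime_one_left q
    · exact hEc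
  have hnorm := rigid_normalize_two (G := N) q (s ^ 2) e m μ [1, s] gp gh hcard hm hogp hogh he hrel
    hr1 hord hE hEc' hμ hN'
  -- the outer automorphism
  let β : MulAut N := MulAut.conjNormal n⁻¹
  have hβp : β gp = gp ^ s := by
    apply Subtype.ext
    simp only [β, hgp, MulAut.conjNormal_apply, inv_inv, Subgroup.coe_pow]
    exact hpn
  have hβh : β gh = gh := by
    apply Subtype.ext
    simp only [β, hgh, MulAut.conjNormal_apply, inv_inv]
    group
  have hT : ∀ g : N, g⁻¹ * gp * g ≠ gp ^ s := by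
    intro g hg
    obtain ⟨i, j, rfl⟩ := hN' g ⟨s, hg⟩
    have e1 : (gp ^ i * gh ^ j)⁻¹ * gp * (gp ^ i * gh ^ j) = (gh ^ j)⁻¹ * gp ^ 1 * gh ^ j := by
      rw [mul_inv_rev, pow_one]
      have : (gp ^ i)⁻¹ * gp * gp ^ i = gp := by
        rw [mul_assoc, (Commute.self_pow gp i).eq, ← mul_assoc, inv_mul_cancel, one_mul]
      calc (gh ^ j)⁻¹ * (gp ^ i)⁻¹ * gp * (gp ^ i * gh ^ j)
          = (gh ^ j)⁻¹ * ((gp ^ i)⁻¹ * gp * gp ^ i) * gh ^ j := by group
        _ = (gh ^ j)⁻¹ * gp * gh ^ j := by rw [this]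
    rw [e1, conj_rel_pow_pow hrel, mul_one] at hg
    have h2 := (pow_eq_pow_iff_modEq).mp hg
    rw [hogp] at h2
    have h3 : (s ^ 2) ^ j % q = s % q := h2
    rw [pow_mod_period hr1 j] at h3
    exact hnonres (j % e) (Nat.mod_lt _ he) h3
  have hβ : β ∉ (MulAut.conj : N →* MulAut N).range := not_inner_of_pow gp s hT β hβp
  -- generation
  have hcl : Subgroup.closure {(gp : Γ), (gh : Γ), (gv : Γ)} = N :=
    closure_eq_of_normalized N p n v hpN hv hhN hp1 s hpn hvn hgen hmin
  have hdet : ∀ α : MulAut N, α gp = gp → α gh = gh → α = 1 := by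
    intro α h1 h2
    exact eq_one_of_fix_three N gp gh gv hcl α h1 h2 (hrig hhN α h1 h2)
  refine card_out_two_of_normalized_two (G := N) [1, s] gp gh β hβ hnorm ?_
  intro α ε hε h1 h2
  simp only [List.mem_cons, List.not_mem_nil, or_false] at hε
  rcases hε with rfl | rfl
  · left
    rw [pow_one] at h1
    exact hdet α h1 h2
  · right
    have h3 : (β⁻¹ * α) gp = gp := by
      rw [MulAut.mul_apply, h1, ← hβp]
      exact MulEquiv.symm_apply_apply β gp
    have h4 : (β⁻¹ * α) gh = gh := by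
      rw [MulAut.mul_apply, h2]
      conv_lhs => rw [← hβh]
      exact MulEquiv.symm_apply_apply β gh
    have h5 := hdet _ h3 h4
    calc α = β * (β⁻¹ * α) := by group
      _ = β := by rw [h5, mul_one]

end Cfsg.Agent.Lib.Helper2.RigidOut
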