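import Cfsg.Agent.Lib.Helper2.Fi24Out8
import Cfsg.Agent.Lib.Helper2.RigidOut5
import Cfsg.Agent.S1691

set_option autoImplicit false
set_option maxRecDepth 100000

/-! # The group `Fi24`: rigidity, generation, and the outer automorphism group of the commutator
subgroup -/

namespace Cfsg.Agent.Lib.Helper2.Fi24Out

open Cfsg.Spor Cfsg.Agent.Lib.Helper6.TC Cfsg.Agent.Lib.Helper6.PM Cfsg.Agent.Lib.Helper2.PMS
open Cfsg.Agent.Lib.Helper2.PMC Cfsg.Agent.Lib.Helper2.RigidOut Cfsg.Agent.Lib.Helper5.Srch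
open Cfsg.Agent.Lib.Helper6.TCP.Fi24

set_option Elab.async false

/-! ## The sign -/

/-- the sign of the group -/
noncomputable def sg0 : fi24Model.G →* Multiplicative (ZMod 2) := Cfsg.Agent.S1691.sgn

/-- the sign of the group, on the model with the new letters -/
noncomputable def sg : M.G →* Multiplicative (ZMod 2) := sg0

theorem sg0_letter (c : ℕ) : sg0 (fi24Model.elt [c]) = Multiplicative.ofAdd (1 : ZMod 2) := by
  rw [elt_letter]
  exact Cfsg.Agent.S1691.sgn_of (gen c)

theorem sg0_old : ∀ w : List ℕ,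
    sg0 (fi24Model.elt w) = Multiplicative.ofAdd ((w.length : ℕ) : ZMod 2)
  | [] => by
    rw [fi24Model.elt_nil, map_one, List.length_nil, Nat.cast_zero, ofAdd_zero]
  | c :: w => by
    rw [fi24Model.elt_cons, map_mul, sg0_letter, sg0_old w, List.length_cons, Nat.cast_succ,
      ← ofAdd_add, add_comm]

theorem sg_elt (w : List ℕ) :
    sg (M.elt w) = Multiplicative.ofAdd (((expand ws14 w).length % 2 : ℕ) : ZMod 2) := by
  show sg0 (fi24Model.elt (expand ws14 w)) = _
  rw [sg0_old, ZMod.natCast_mod]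

theorem sg_gp : sg gp = 1 := by
  unfold gp
  rw [sg_elt, show (expand ws14 [12]).length % 2 = 0 by decide, Nat.cast_zero, ofAdd_zero]

theorem sg_gv : sg gv = 1 := by
  unfold gv
  rw [sg_elt, show (expand ws14 wv).length % 2 = 0 by decide, Nat.cast_zero, ofAdd_zero]

theorem sg_gn : sg gn ≠ 1 := by
  unfold gn
  rw [sg_elt, show (expand ws14 wn).length % 2 = 1 by decide, Nat.cast_one]
  decide

theorem comm_eq_ker : commutator M.G = sg.ker := by
  have hle : commutator M.G ≤ sg.ker := Abelianization.commutator_subset_ker sg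
  have h1 := Subgroup.relIndex_mul_index hle
  have hidx : (commutator M.G).index = 2 := Cfsg.Agent.S1691.result
  rw [hidx] at h1
  have hne : sg.ker.index ≠ 1 := by
    intro h
    rw [Subgroup.index_eq_one] at h
    have : gn ∈ sg.ker := by rw [h]; exact Subgroup.mem_top _
    exact sg_gn (MonoidHom.mem_ker.mp this)
  have hdvd : sg.ker.index ∣ 2 := ⟨_, by rw [mul_comm]; exact h1.symm⟩
  have h2 : sg.ker.index = 2 := by
    rcases (Nat.dvd_prime Nat.prime_two).mp hdvd with h | h
    · exact absurd h hne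
    · exact h
  rw [h2] at h1
  have h3 : (commutator M.G).relIndex sg.ker = 1 := by omega
  exact le_antisymm hle (Subgroup.relIndex_eq_one.mp h3)

theorem gp_mem : gp ∈ commutator M.G := by
  rw [comm_eq_ker]
  exact MonoidHom.mem_ker.mpr sg_gp

theorem gv_mem : gv ∈ commutator M.G := by
  rw [comm_eq_ker]
  exact MonoidHom.mem_ker.mpr sg_gv

/-! ## Rigidity -/

/-- the three generators -/
def ws3 : List (List ℕ) := [[12], wh, wv]

/-- the images of the three generators under a hypothetical automorphism -/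
def ws3' (z : List ℕ) : List (List ℕ) := [[12], wh, z]

theorem chk_R0 : chkBaseR M [0] lvA (expand ws3 (Rs.getD 0 [])) [] = true := by decide +kernel
theorem chk_R1 : chkBaseR M [0] lvA (expand ws3 (Rs.getD 1 [])) [] = true := by decide +kernel

theorem hRs : ∀ R ∈ Rs, (∀ c ∈ R, c < ws3.length) ∧ M.elt (expand ws3 R) = 1 := by
  intro R hR
  simp only [Rs, List.mem_cons, List.not_mem_nil, or_false] at hR
  rcases hR with rfl | rfl
  · refine ⟨by decide, ?_⟩
    rw [← M.elt_nil]
    exact factsA.elt_eq_of_chk _ _ chk_R0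
  · refine ⟨by decide, ?_⟩
    rw [← M.elt_nil]
    exact factsA.elt_eq_of_chk _ _ chk_R1

theorem chk_tabH : chkElimTab M ws3' Rs wv tabH = true := by decide +kernel

theorem chk_vh : chkBaseR M [0] lvA (invw iv wv ++ wh ++ wv) wh = true := by decide +kernel

theorem rel_vh : gv⁻¹ * gh * gv = gh := by
  rw [gv_inv]
  unfold gv gh
  rw [← M.elt_append, ← M.elt_append]
  exact factsA.elt_eq_of_chk _ _ chk_vh

theorem rigid (hp : gp ∈ commutator M.G) (hh : gn * gn ∈ commutator M.G)
    (hv : gv ∈ commutator M.G) (α : MulAut (commutator M.G))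
    (h1 : α ⟨gp, hp⟩ = ⟨gp, hp⟩) (h2 : α ⟨gn * gn, hh⟩ = ⟨gn * gn, hh⟩) :
    α ⟨gv, hv⟩ = ⟨gv, hv⟩ := by
  have h3 : (⟨gv, hv⟩ : commutator M.G)⁻¹ * ⟨gn * gn, hh⟩ * ⟨gv, hv⟩ = ⟨gn * gn, hh⟩ := by
    apply Subtype.ext
    show gv⁻¹ * (gn * gn) * gv = gn * gn
    rw [← gh_eq]
    exact rel_vh
  have h4 := congrArg α h3
  rw [map_mul, map_mul, map_inv, h2] at h4
  have h5 := congrArg Subtype.val h4
  have hc : ((α ⟨gv, hv⟩ : commutator M.G) : M.G)⁻¹ * gh * (α ⟨gv, hv⟩ : commutator M.G) = gh := by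
    rw [gh_eq]
    exact h5
  obtain ⟨z, hz, hvz⟩ := centralizer_gh _ hc
  let x : ℕ → commutator M.G := fun i =>
    if i = 0 then ⟨gp, hp⟩ else if i = 1 then ⟨gn * gn, hh⟩ else ⟨gv, hv⟩
  have hx : ∀ i < ws3.length, (commutator M.G).subtype (x i) = M.elt (ws3.getD i []) := by
    intro i hi
    have hi' : i < 3 := hi
    interval_cases i
    · rfl
    · exact gh_eq.symm
    · rfl
  have hf : ∀ i < ws3.length, ((commutator M.G).subtype.comp α.toMonoidHom) (x i) =
      M.elt ((ws3' z).getD i []) := by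
    intro i hi
    have hi' : i < 3 := hi
    interval_cases i
    · show ((α ⟨gp, hp⟩ : commutator M.G) : M.G) = gp
      rw [h1]
    · show ((α ⟨gn * gn, hh⟩ : commutator M.G) : M.G) = M.elt wh
      rw [h2]
      exact gh_eq.symm
    · exact hvz
  have hgood := good_of_elimTab_sub (M := M) (commutator M.G).subtype
    ((commutator M.G).subtype.comp α.toMonoidHom) Subtype.val_injective ws3 ws3' Rs hRs wv tabH
    chk_tabH z hz x hx (fun _ => rfl) hf
  apply Subtype.ext
  rw [hvz, hgood]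
  rfl

/-! ## Generation -/

/-- the three generators, their inverses and a transposition -/
noncomputable def ws7 : List (List ℕ) := [[12], wn, wv, [13], invw iv wn, invw iv wv, wd]

theorem chk_gen : chkGenR M [0] lvA ws7 Wl = true := by decide +kernel

theorem chk_d : chkBaseR M [0] lvA (rep 39 (wn ++ [12, 12] ++ wv)) wd = true := by decide +kernel

theorem elt_wd : M.elt wd = (gn * gp ^ 2 * gv) ^ 39 := by
  have h : rep 2 [12] = [12, 12] := by decide
  rw [← factsA.elt_eq_of_chk _ _ chk_d, elt_rep, M.elt_append, M.elt_append, gp_pow, h]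
  unfold gn gv
  rfl

theorem subH7_le : Cfsg.Agent.Lib.Helper6.PM.subH M ws7 ≤
    Subgroup.closure ({gp, gn, gv} : Set M.G) := by
  unfold Cfsg.Agent.Lib.Helper6.PM.subH
  rw [Subgroup.closure_le]
  rintro g ⟨i, hi, rfl⟩
  have hi' : i < 7 := hi
  have hp : gp ∈ Subgroup.closure ({gp, gn, gv} : Set M.G) := Subgroup.subset_closure (by simp)
  have hn : gn ∈ Subgroup.closure ({gp, gn, gv} : Set M.G) := Subgroup.subset_closure (by simp)
  have hv : gv ∈ Subgroup.closure ({gp, gn, gv} : Set M.G) := Subgroup.subset_closure (by simp)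
  interval_cases i
  · exact hp
  · exact hn
  · exact hv
  · show M.elt (invw iv [12]) ∈ _
    rw [← gp_inv]
    exact Subgroup.inv_mem _ hp
  · show M.elt (invw iv wn) ∈ _
    rw [← gn_inv]
    exact Subgroup.inv_mem _ hn
  · show M.elt (invw iv wv) ∈ _
    rw [← gv_inv]
    exact Subgroup.inv_mem _ hv
  · show M.elt wd ∈ _
    rw [elt_wd]
    exact Subgroup.pow_mem _ (Subgroup.mul_mem _ (Subgroup.mul_mem _ hn (Subgroup.pow_mem _ hp 2)) hv) 39

theorem closure_gens : Subgroup.closure ({gp, gn, gv} : Set M.G) = ⊤ := by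
  have h3 := factsA.subH_eq_top ws7 Wl chk_gen
  rw [eq_top_iff, ← h3]
  exact subH7_le

theorem chk_vn : chkBaseR M [0] lvA (invw iv wn ++ wv ++ wn) (invw iv wv) = true := by
  decide +kernel

theorem rel_vn : gn⁻¹ * gv * gn = gv⁻¹ := by
  rw [gn_inv, gv_inv]
  unfold gv gn
  rw [← M.elt_append, ← M.elt_append]
  exact factsA.elt_eq_of_chk _ _ chk_vn

/-! ## The outer automorphism group -/

theorem hE2 : ∀ k < 29, 0 < k → ∃ j, ∃ ε ∈ [1, 2], (2 ^ 2) ^ j * k % 29 = ε % 29 := by
  have h : ∀ k < 29, 0 < k → ∃ j < 14, ∃ ε ∈ [1, 2], (2 ^ 2) ^ j * k % 29 = ε % 29 := by decide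
  intro k hk hk0
  obtain ⟨j, _, ε, hε, e⟩ := h k hk hk0
  exact ⟨j, ε, hε, e⟩

theorem card_out_comm : Nat.card (Cfsg.Out (commutator M.G)) = 2 := by
  have : Fact (Nat.Prime 29) := ⟨by norm_num⟩
  exact card_out_two_of_index_two (Γ := M.G) (commutator M.G) sg comm_eq_ker 29
    43282955489333162803200 2 14 18 gp gn gv
    (by rw [show (29 * 43282955489333162803200 : ℕ) = 1255205709190661721292800 by norm_num]
        exact Cfsg.Agent.S1698.card_comm)
    (by norm_num) orderOf_gp (by rw [orderOf_gn]) (by norm_num) gp_mem sg_gn gv_mem rel_pn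
    (by norm_num) (by decide) hE2 (by norm_num) (by norm_num) (by decide) normalizer_gp
    (by
      rw [rel_vn]
      exact Subgroup.inv_mem _ (Subgroup.subset_closure (by simp)))
    closure_gens Cfsg.Agent.S1698.hmin
    (fun hh α h1 h2 => rigid gp_mem hh gv_mem α h1 h2)

end Cfsg.Agent.Lib.Helper2.Fi24Out
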