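import Mathlib

set_option autoImplicit false
set_option linter.style.haveILetI false

/-!
# Commuting fixed-point-free linear groups over a finite prime field are cyclic
-/

namespace Cfsg.Agent.Lib.Helper2.FpfLinear

variable {p : ℕ} [Fact p.Prime] {V : Type*} [AddCommGroup V] [Module (ZMod p) V]

/-- Below a nonzero invariant subspace there is a minimal nonzero invariant subspace. -/
theorem exists_min_invariant [Finite V] (S : Set (V ≃ₗ[ZMod p] V)) (W₁ : Submodule (ZMod p) V)
    (hW₁ : W₁ ≠ ⊥) (hinv : ∀ a ∈ S, ∀ v ∈ W₁, a v ∈ W₁) :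
    ∃ W : Submodule (ZMod p) V, W ≠ ⊥ ∧ W ≤ W₁ ∧ (∀ a ∈ S, ∀ v ∈ W, a v ∈ W) ∧
      ∀ W' : Submodule (ZMod p) V, W' ≤ W → (∀ a ∈ S, ∀ v ∈ W', a v ∈ W') →
        W' = ⊥ ∨ W' = W := by
  let T : Set (Submodule (ZMod p) V) := {W | W ≠ ⊥ ∧ W ≤ W₁ ∧ ∀ a ∈ S, ∀ v ∈ W, a v ∈ W}
  obtain ⟨W, hW, hmin⟩ := WellFounded.has_min
    (measure (fun W : Submodule (ZMod p) V => Nat.card W)).wf T ⟨W₁, hW₁, le_rfl, hinv⟩
  refine ⟨W, hW.1, hW.2.1, hW.2.2, ?_⟩
  intro W' hW'W hW'inv
  by_cases hb : W' = ⊥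
  · exact Or.inl hb
  right
  have h1 := hmin W' ⟨hb, hW'W.trans hW.2.1, hW'inv⟩
  change ¬ (Nat.card W' < Nat.card W) at h1
  apply SetLike.coe_injective
  apply Set.eq_of_subset_of_ncard_le hW'W _ (Set.toFinite _)
  rw [← Nat.card_coe_set_eq, ← Nat.card_coe_set_eq]
  exact not_lt.mp h1

instance [Finite V] : Finite (V ≃ₗ[ZMod p] V) :=
  Finite.of_injective (fun e => (e : V → V)) DFunLike.coe_injective

open scoped IsMulCommutative in
/-- An abelian
group of linear automorphisms of a finite nonzero `ZMod p`-space in which only the identity fixes a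
nonzero vector is cyclic. -/
theorem isCyclic_of_fpf_comm [Finite V] [Nontrivial V] (A : Subgroup (V ≃ₗ[ZMod p] V))
    (hcomm : ∀ a ∈ A, ∀ b ∈ A, a * b = b * a)
    (hfpf : ∀ a ∈ A, ∀ v : V, v ≠ 0 → a v = v → a = 1) : IsCyclic A := by
  classical
  obtain ⟨W, hWne, -, hWinv, hWmin⟩ := exists_min_invariant (A : Set (V ≃ₗ[ZMod p] V)) ⊤
    top_ne_bot (fun _ _ _ _ => Submodule.mem_top)
  obtain ⟨w₀, hw₀W, hw₀⟩ := (Submodule.ne_bot_iff W).mp hWne
  -- restriction
  let ρ : A →* Module.End (ZMod p) W :=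
    { toFun := fun a => ((a : V ≃ₗ[ZMod p] V) : V →ₗ[ZMod p] V).restrict
        (fun v hv => hWinv a a.2 v hv)
      map_one' := by
        apply LinearMap.ext
        intro v
        apply Subtype.ext
        rfl
      map_mul' := by
        intro a b
        apply LinearMap.ext
        intro v
        apply Subtype.ext
        rfl }
  have hρ : ∀ (a : A) (v : W), ((ρ a v : W) : V) = (a : V ≃ₗ[ZMod p] V) (v : V) := fun a v => rfl
  have hcommR : ∀ x ∈ Set.range ρ, ∀ y ∈ Set.range ρ, x * y = y * x := by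
    rintro _ ⟨a, rfl⟩ _ ⟨b, rfl⟩
    rw [← map_mul, ← map_mul]
    congr 1
    exact Subtype.ext (hcomm a a.2 b b.2)
  let R := Algebra.adjoin (ZMod p) (Set.range ρ)
  haveI hmc : IsMulCommutative R := Algebra.isMulCommutative_adjoin (ZMod p) hcommR
  letI : CommRing R := inferInstance
  -- nonzero elements of `R` are injective
  have key : ∀ f : R, f ≠ 0 → Function.Injective (f : Module.End (ZMod p) W) := by
    intro f hf
    let K : Submodule (ZMod p) V := (LinearMap.ker (f : Module.End (ZMod p) W)).map W.subtype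
    have hKW : K ≤ W := by
      rintro _ ⟨v, -, rfl⟩
      exact v.2
    have hKinv : ∀ a ∈ (A : Set (V ≃ₗ[ZMod p] V)), ∀ v ∈ K, a v ∈ K := by
      rintro a ha _ ⟨v, hv, rfl⟩
      have hv : v ∈ LinearMap.ker (f : Module.End (ZMod p) W) := hv
      refine ⟨ρ ⟨a, ha⟩ v, ?_, rfl⟩
      show ρ ⟨a, ha⟩ v ∈ LinearMap.ker (f : Module.End (ZMod p) W)
      rw [LinearMap.mem_ker] at hv ⊢
      have hc : (f : Module.End (ZMod p) W) * ρ ⟨a, ha⟩ = ρ ⟨a, ha⟩ * (f : Module.End (ZMod p) W) := by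
        have h1 : (⟨ρ ⟨a, ha⟩, Algebra.subset_adjoin ⟨⟨a, ha⟩, rfl⟩⟩ : R) * f =
            f * ⟨ρ ⟨a, ha⟩, Algebra.subset_adjoin ⟨⟨a, ha⟩, rfl⟩⟩ := mul_comm _ _
        have h2 := congrArg Subtype.val h1
        exact h2.symm
      have := congrArg (fun g : Module.End (ZMod p) W => g v) hc
      simp only [Module.End.mul_apply] at this
      rw [this, hv, map_zero]
    rcases hWmin K hKW hKinv with h | h
    · rw [← LinearMap.ker_eq_bot]
      rw [eq_bot_iff]
      intro v hv
      have : (v : V) ∈ K := ⟨v, hv, rfl⟩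
      rw [h, Submodule.mem_bot] at this
      rw [Submodule.mem_bot]
      exact Subtype.ext this
    · exfalso
      apply hf
      apply Subtype.ext
      apply LinearMap.ext
      intro v
      have hv : (v : V) ∈ K := by rw [h]; exact v.2
      obtain ⟨v', hv', hvv'⟩ := hv
      have : v' = v := Subtype.ext hvv'
      rw [← this]
      exact hv'
  haveI : Nontrivial R := by
    refine ⟨⟨0, 1, ?_⟩⟩
    intro h
    have h1 : ((0 : R) : Module.End (ZMod p) W) ⟨w₀, hw₀W⟩ =
        ((1 : R) : Module.End (ZMod p) W) ⟨w₀, hw₀W⟩ := by rw [h]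
    have h2 : ((0 : R) : Module.End (ZMod p) W) = 0 := rfl
    have h3 : ((1 : R) : Module.End (ZMod p) W) = 1 := rfl
    rw [h2, h3, LinearMap.zero_apply, Module.End.one_apply] at h1
    exact hw₀ (congrArg Subtype.val h1).symm
  haveI : NoZeroDivisors R := by
    refine ⟨fun {f g} hfg => ?_⟩
    by_cases hf : f = 0
    · exact Or.inl hf
    right
    have hinj := key f hf
    apply Subtype.ext
    apply LinearMap.ext
    intro v
    apply hinj
    have h1 : ((f * g : R) : Module.End (ZMod p) W) v = ((0 : R) : Module.End (ZMod p) W) v := by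
      rw [hfg]
    have h2 : ((f * g : R) : Module.End (ZMod p) W) =
        (f : Module.End (ZMod p) W) * (g : Module.End (ZMod p) W) := rfl
    rw [h2, Module.End.mul_apply] at h1
    rw [h1]
    have h3 : ((0 : R) : Module.End (ZMod p) W) = 0 := rfl
    rw [h3, LinearMap.zero_apply]
    show (0 : W) = (f : Module.End (ZMod p) W) ((0 : Module.End (ZMod p) W) v)
    rw [LinearMap.zero_apply, map_zero]
  haveI : IsDomain R := NoZeroDivisors.to_isDomain R
  let f : A →* R :=
    { toFun := fun a => ⟨ρ a, Algebra.subset_adjoin ⟨a, rfl⟩⟩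
      map_one' := Subtype.ext (map_one ρ)
      map_mul' := fun a b => Subtype.ext (map_mul ρ a b) }
  apply isCyclic_of_injective_ringHom f
  intro a b hab
  have h1 : ρ a = ρ b := congrArg Subtype.val hab
  have h2 : (a : V ≃ₗ[ZMod p] V) w₀ = (b : V ≃ₗ[ZMod p] V) w₀ := by
    have := congrArg (fun g : Module.End (ZMod p) W => ((g ⟨w₀, hw₀W⟩ : W) : V)) h1
    simpa [hρ] using this
  have h3 : (b⁻¹ * a : A) = 1 := by
    apply Subtype.ext
    apply hfpf _ (b⁻¹ * a).2 w₀ hw₀
    change ((b : V ≃ₗ[ZMod p] V)⁻¹ * (a : V ≃ₗ[ZMod p] V)) w₀ = w₀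
    rw [LinearEquiv.mul_apply, h2]
    exact (b : V ≃ₗ[ZMod p] V).symm_apply_apply w₀
  exact (inv_mul_eq_one.mp h3).symm

/-- The order of a fixed-point-free group of automorphisms of an invariant subspace `W` divides
`|W| - 1`. -/
theorem card_dvd_of_fpf [Finite V] (A : Subgroup (V ≃ₗ[ZMod p] V))
    (hfpf : ∀ a ∈ A, ∀ v : V, v ≠ 0 → a v = v → a = 1) (W : Submodule (ZMod p) V)
    (hWinv : ∀ a ∈ A, ∀ v ∈ W, a v ∈ W) : Nat.card A ∣ Nat.card W - 1 := by
  classical
  let X := {v : V // v ∈ W ∧ v ≠ 0}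
  letI : MulAction A X :=
    { smul := fun a x => ⟨(a : V ≃ₗ[ZMod p] V) x.1, hWinv a a.2 _ x.2.1, by
        intro h
        apply x.2.2
        have := (a : V ≃ₗ[ZMod p] V).map_eq_zero_iff.mp h
        exact this⟩
      one_smul := fun x => Subtype.ext rfl
      mul_smul := fun a b x => Subtype.ext rfl }
  have hsmul : ∀ (a : A) (x : X), ((a • x : X) : V) = (a : V ≃ₗ[ZMod p] V) x.1 := fun a x => rfl
  have hstab : ∀ x : X, MulAction.stabilizer A x = ⊥ := by
    intro x
    rw [eq_bot_iff]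
    intro a ha
    rw [MulAction.mem_stabilizer_iff] at ha
    have h1 : (a : V ≃ₗ[ZMod p] V) x.1 = x.1 := by rw [← hsmul, ha]
    rw [Subgroup.mem_bot]
    exact Subtype.ext (hfpf a a.2 x.1 x.2.2 h1)
  haveI : Fintype A := Fintype.ofFinite A
  haveI : Fintype X := Fintype.ofFinite X
  haveI : Fintype (MulAction.orbitRel.Quotient A X) := Fintype.ofFinite _
  have h1 := MulAction.card_eq_sum_card_group_div_card_stabilizer A X
  have h2 : ∀ ω : MulAction.orbitRel.Quotient A X,
      Fintype.card A / Fintype.card (MulAction.stabilizer A ω.out) = Fintype.card A := by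
    intro ω
    have : Fintype.card (MulAction.stabilizer A ω.out) = 1 := by
      rw [← Nat.card_eq_fintype_card, hstab, Subgroup.card_bot]
    rw [this, Nat.div_one]
  have hXcard : Nat.card X = Nat.card W - 1 := by
    have e : X ≃ {w : W // w ≠ 0} :=
      { toFun := fun x => ⟨⟨x.1, x.2.1⟩, fun h => x.2.2 (congrArg Subtype.val h)⟩
        invFun := fun w => ⟨w.1.1, w.1.2, fun h => w.2 (Subtype.ext h)⟩
        left_inv := fun x => rfl
        right_inv := fun w => rfl }
    rw [Nat.card_congr e]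
    haveI : Fintype W := Fintype.ofFinite W
    rw [Nat.card_eq_fintype_card, Nat.card_eq_fintype_card,
      Fintype.card_subtype_compl (fun w : W => w = 0), Fintype.card_subtype_eq]
  rw [← hXcard, Nat.card_eq_fintype_card, Nat.card_eq_fintype_card, h1]
  simp_rw [h2]
  rw [Finset.sum_const, smul_eq_mul]
  exact Dvd.intro_left _ rfl

end Cfsg.Agent.Lib.Helper2.FpfLinear
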