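import Mathlib

set_option autoImplicit false

/-! Sylow glue for S4427: in a group of order `p^a q^b r^c` (three distinct primes) a Sylow
`q`-subgroup `Q` and a Sylow `r`-subgroup `R` have `|Q| |R| = q^b r^c`, coprime orders, both
prime to `p`. -/

namespace Cfsg.Agent.Lib.Helper2.FrobS

theorem factorization_three (p q r a b c : ℕ) (hp : p.Prime) (hq : q.Prime) (hr : r.Prime)
    (hpq : p ≠ q) (hpr : p ≠ r) (hqr : q ≠ r) :
    (p ^ a * q ^ b * r ^ c).factorization q = b ∧ (p ^ a * q ^ b * r ^ c).factorization r = c := by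
  have hpa : p ^ a ≠ 0 := pow_ne_zero _ hp.ne_zero
  have hqb : q ^ b ≠ 0 := pow_ne_zero _ hq.ne_zero
  have hrc : r ^ c ≠ 0 := pow_ne_zero _ hr.ne_zero
  have h1 : (p ^ a * q ^ b * r ^ c).factorization =
      (p ^ a).factorization + (q ^ b).factorization + (r ^ c).factorization := by
    rw [Nat.factorization_mul (mul_ne_zero hpa hqb) hrc, Nat.factorization_mul hpa hqb]
  constructor
  · rw [h1]
    simp only [Finsupp.coe_add, Pi.add_apply, Nat.factorization_pow, Finsupp.smul_apply,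
      smul_eq_mul]
    rw [hq.factorization_self, Nat.factorization_eq_zero_of_not_dvd
        (fun h => hpq ((Nat.prime_dvd_prime_iff_eq hq hp).mp h).symm),
      Nat.factorization_eq_zero_of_not_dvd
        (fun h => hqr ((Nat.prime_dvd_prime_iff_eq hq hr).mp h))]
    simp
  · rw [h1]
    simp only [Finsupp.coe_add, Pi.add_apply, Nat.factorization_pow, Finsupp.smul_apply,
      smul_eq_mul]
    rw [hr.factorization_self, Nat.factorization_eq_zero_of_not_dvd
        (fun h => hpr ((Nat.prime_dvd_prime_iff_eq hr hp).mp h).symm),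
      Nat.factorization_eq_zero_of_not_dvd
        (fun h => hqr ((Nat.prime_dvd_prime_iff_eq hr hq).mp h).symm)]
    simp

theorem exists_QR {G : Type*} [Group G] [Finite G] (p q r a b c : ℕ) (hp : p.Prime) (hq : q.Prime)
    (hr : r.Prime) (hpq : p ≠ q) (hpr : p ≠ r) (hqr : q ≠ r)
    (hG : Nat.card G = p ^ a * q ^ b * r ^ c) :
    ∃ Q R : Subgroup G, Nat.card Q * Nat.card R = q ^ b * r ^ c ∧
      (Nat.card Q).Coprime (Nat.card R) ∧ ¬ p ∣ Nat.card Q ∧ ¬ p ∣ Nat.card R := by
  have : Fact q.Prime := ⟨hq⟩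
  have : Fact r.Prime := ⟨hr⟩
  obtain ⟨hfq, hfr⟩ := factorization_three p q r a b c hp hq hr hpq hpr hqr
  obtain ⟨Q⟩ : Nonempty (Sylow q G) := inferInstance
  obtain ⟨R⟩ : Nonempty (Sylow r G) := inferInstance
  have hQ : Nat.card (Q : Subgroup G) = q ^ b := by
    rw [Sylow.card_eq_multiplicity, hG, hfq]
  have hR : Nat.card (R : Subgroup G) = r ^ c := by
    rw [Sylow.card_eq_multiplicity, hG, hfr]
  refine ⟨(Q : Subgroup G), (R : Subgroup G), ?_, ?_, ?_, ?_⟩
  · rw [hQ, hR]
  · rw [hQ, hR]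
    exact Nat.Coprime.pow _ _ ((Nat.coprime_primes hq hr).mpr hqr)
  · rw [hQ]
    intro h
    exact hpq ((Nat.prime_dvd_prime_iff_eq hp hq).mp (hp.dvd_of_dvd_pow h))
  · rw [hR]
    intro h
    exact hpr ((Nat.prime_dvd_prime_iff_eq hp hr).mp (hp.dvd_of_dvd_pow h))

end Cfsg.Agent.Lib.Helper2.FrobS
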