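import Mathlib
import Cfsg.Agent.Lib.Helper2.G2LDefs
import Cfsg.Agent.Lib.Helper8.QC6

set_option autoImplicit false

/-!
# S3801, primitive core, part (a): class-two type representations

`Q` is a finite group of order invertible in the algebraically closed field `K`, `τ` a representation
such that commutators act as scalars and the elements that commute with everything act as scalars.
The images of coset representatives modulo the "centre" are linearly independent on every irreducible
invariant subspace; consequences: an element of the span of `τ Q` that kills an irreducible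
invariant subspace is `0`, and any two irreducible invariant subspaces are linked.
-/

namespace Cfsg.Agent.Lib.Helper2.G2L

open Module Cfsg.Agent.Lib.Helper8.TB Cfsg.Agent.Lib.Helper8

universe u v

section Ctx

variable {K : Type*} [Field K] {Q : Type*} [Group Q] {V : Type*} [AddCommGroup V] [Module K V]

/-- the standing hypotheses on `τ` -/
structure Cl2 (τ : Representation K Q V) : Prop where
  hcl : ∀ u v : Q, ∃ c : K, τ u * τ v = c • (τ v * τ u)
  hZ : ∀ u : Q, (∀ v : Q, τ u * τ v = τ v * τ u) → ∃ c : K, τ u = c • (1 : Module.End K V)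

/-- the elements whose image commutes with the image of `τ` -/
def zc (τ : Representation K Q V) : Subgroup Q where
  carrier := {u | ∀ v : Q, τ u * τ v = τ v * τ u}
  one_mem' := by intro v; rw [map_one, one_mul, mul_one]
  mul_mem' := by
    intro a b ha hb v
    rw [map_mul, mul_assoc, hb v, ← mul_assoc, ha v, mul_assoc]
  inv_mem' := by
    intro a ha v
    have h1 : τ a⁻¹ * τ a = 1 := by rw [← map_mul, inv_mul_cancel, map_one]
    have h2 : τ a * τ a⁻¹ = 1 := by rw [← map_mul, mul_inv_cancel, map_one]
    calc τ a⁻¹ * τ v = τ a⁻¹ * τ v * (τ a * τ a⁻¹) := by rw [h2, mul_one]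
      _ = τ a⁻¹ * (τ v * τ a) * τ a⁻¹ := by simp only [mul_assoc]
      _ = τ a⁻¹ * (τ a * τ v) * τ a⁻¹ := by rw [ha v]
      _ = (τ a⁻¹ * τ a) * τ v * τ a⁻¹ := by simp only [mul_assoc]
      _ = τ v * τ a⁻¹ := by rw [h1, one_mul]

theorem mem_zc (τ : Representation K Q V) (u : Q) :
    u ∈ zc τ ↔ ∀ v : Q, τ u * τ v = τ v * τ u := Iff.rfl

end Ctx

section Indep

variable {K : Type*} [Field K] [IsAlgClosed K] {Q : Type*} [Group Q]
  {V : Type*} [AddCommGroup V] [Module K V] [FiniteDimensional K V]

/-- on an irreducible invariant subspace the images of representatives of different cosets of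
`zc τ` are linearly independent -/
theorem indep_on_irr {τ : Representation K Q V} (hτ : Cl2 τ) {Y : Submodule K V}
    (hY : IrrSub τ Y) {ι : Type*} (f : ι → Q)
    (hf : ∀ i j, i ≠ j → (f i)⁻¹ * f j ∉ zc τ) :
    LinearIndependent K (fun i => FF.restrictRep τ Y hY.2.1 (f i)) := by
  have : Nontrivial Y := by
    rw [Submodule.nontrivial_iff_ne_bot]; exact hY.1
  apply QC.linearIndependent_of_cosets (FF.restrictRep τ Y hY.2.1) (QC.irr_restrict hY)
  · intro u v
    obtain ⟨c, hc⟩ := hτ.hcl u v
    refine ⟨c, ?_⟩
    apply LinearMap.ext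
    intro y
    apply Subtype.ext
    have h1 := congrArg (fun e : Module.End K V => e (y : V)) hc
    exact h1
  · intro i j hij
    rintro ⟨c, hc⟩
    apply hf i j hij
    set u := (f i)⁻¹ * f j with hu
    intro v
    obtain ⟨c', hc'⟩ := hτ.hcl u v
    -- on `Y` the two commute, so `c' = 1`
    obtain ⟨y, hy, hy0⟩ := Submodule.exists_mem_ne_zero_of_ne_bot hY.1
    have h1 : ∀ w : Y, ((FF.restrictRep τ Y hY.2.1 u w : Y) : V) = c • (w : V) := by
      intro w
      rw [hc]; simp
    have h2 : τ u (τ v y) = τ v (τ u y) := by
      have h3 : τ u (τ v y) = c • τ v y := h1 ⟨τ v y, hY.2.1 v y hy⟩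
      have h4 : τ u y = c • y := h1 ⟨y, hy⟩
      rw [h3, h4, map_smul]
    have h5 := congrArg (fun e : Module.End K V => e y) hc'
    simp only [Module.End.mul_apply, LinearMap.smul_apply] at h5
    rw [h2] at h5
    have h6 : τ v (τ u y) ≠ 0 := by
      intro h0
      have h7 : τ (v * u)⁻¹ (τ (v * u) y) = y := by
        rw [← Module.End.mul_apply, ← map_mul, inv_mul_cancel, map_one, Module.End.one_apply]
      rw [map_mul, Module.End.mul_apply, h0, map_zero] at h7
      exact hy0 h7.symm
    have h8 : c' = 1 := by
      by_contra hne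
      have h9 : (1 - c') • τ v (τ u y) = 0 := by
        rw [sub_smul, one_smul, ← h5, sub_self]
      rcases smul_eq_zero.mp h9 with h | h
      · exact hne (by rw [sub_eq_zero] at h; exact h.symm)
      · exact h6 h
    rw [hc', h8, one_smul]

end Indep

end Cfsg.Agent.Lib.Helper2.G2L
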