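import Mathlib
import Cfsg.Agent.Lib.Helper2.G2LE2a

set_option autoImplicit false

/-!
# S3801, primitive core, part (b): coset representatives, the span of the image, linked irreducibles
-/

namespace Cfsg.Agent.Lib.Helper2.G2L

open Module Cfsg.Agent.Lib.Helper8.TB Cfsg.Agent.Lib.Helper8

universe u v

section Reps

variable {K : Type*} [Field K] {Q : Type*} [Group Q] {V : Type*} [AddCommGroup V] [Module K V]

/-- representatives of the cosets of `zc τ` -/
noncomputable def rp (τ : Representation K Q V) (i : Q ⧸ zc τ) : Q := Quotient.out i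

theorem rp_mk_mem (τ : Representation K Q V) (u : Q) :
    (rp τ (u : Q ⧸ zc τ))⁻¹ * u ∈ zc τ := by
  have h1 : ((rp τ (u : Q ⧸ zc τ) : Q) : Q ⧸ zc τ) = (u : Q ⧸ zc τ) := QuotientGroup.out_eq' _
  exact QuotientGroup.eq.mp h1

theorem rp_ne (τ : Representation K Q V) (i j : Q ⧸ zc τ) (hij : i ≠ j) :
    (rp τ i)⁻¹ * rp τ j ∉ zc τ := by
  intro h
  apply hij
  have h1 : ((rp τ i : Q) : Q ⧸ zc τ) = ((rp τ j : Q) : Q ⧸ zc τ) := QuotientGroup.eq.mpr h
  have h2 : ((rp τ i : Q) : Q ⧸ zc τ) = i := QuotientGroup.out_eq' _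
  have h3 : ((rp τ j : Q) : Q ⧸ zc τ) = j := QuotientGroup.out_eq' _
  rw [← h2, ← h3, h1]

/-- every `τ u` is a scalar multiple of the image of the representative of its coset -/
theorem exists_smul_rp {τ : Representation K Q V} (hτ : Cl2 τ) (u : Q) :
    ∃ c : K, τ u = c • τ (rp τ (u : Q ⧸ zc τ)) := by
  obtain ⟨c, hc⟩ := hτ.hZ _ (rp_mk_mem τ u)
  refine ⟨c, ?_⟩
  have h1 : u = rp τ (u : Q ⧸ zc τ) * ((rp τ (u : Q ⧸ zc τ))⁻¹ * u) := by group
  conv_lhs => rw [h1]
  rw [map_mul, hc, mul_smul_comm, mul_one]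

theorem span_range_eq {τ : Representation K Q V} (hτ : Cl2 τ) :
    Submodule.span K (Set.range τ) = Submodule.span K (Set.range (fun i => τ (rp τ i))) := by
  apply le_antisymm
  · rw [Submodule.span_le]
    rintro _ ⟨u, rfl⟩
    obtain ⟨c, hc⟩ := exists_smul_rp hτ u
    rw [SetLike.mem_coe, hc]
    exact Submodule.smul_mem _ _ (Submodule.subset_span ⟨_, rfl⟩)
  · apply Submodule.span_mono
    rintro _ ⟨i, rfl⟩
    exact ⟨_, rfl⟩

end Reps

section Res

variable {K : Type*} [Field K] [IsAlgClosed K] {Q : Type*} [Group Q] [Finite Q]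
  {V : Type*} [AddCommGroup V] [Module K V] [FiniteDimensional K V]

/-- an element of the span of the image that kills an irreducible invariant subspace is zero -/
theorem eq_zero_of_span_of_irr {τ : Representation K Q V} (hτ : Cl2 τ) {Y : Submodule K V}
    (hY : IrrSub τ Y) (a : Module.End K V) (ha : a ∈ Submodule.span K (Set.range τ))
    (h0 : ∀ y ∈ Y, a y = 0) : a = 0 := by
  classical
  haveI : Fintype (Q ⧸ zc τ) := Fintype.ofFinite _
  rw [span_range_eq hτ, Submodule.mem_span_range_iff_exists_fun] at ha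
  obtain ⟨c, rfl⟩ := ha
  have hind := indep_on_irr hτ hY (rp τ) (rp_ne τ)
  rw [Fintype.linearIndependent_iff] at hind
  have h1 : ∑ i, c i • FF.restrictRep τ Y hY.2.1 (rp τ i) = 0 := by
    apply LinearMap.ext
    intro y
    apply Subtype.ext
    have h2 := h0 y y.2
    rw [LinearMap.sum_apply] at h2
    rw [LinearMap.sum_apply, LinearMap.zero_apply, Submodule.coe_sum, Submodule.coe_zero, ← h2]
    apply Finset.sum_congr rfl
    intro i _
    rfl
  have h3 := hind c h1
  apply Finset.sum_eq_zero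
  intro i _
  rw [h3 i, zero_smul]

/-- two elements of the span that agree on an irreducible invariant subspace are equal -/
theorem eq_of_span_of_irr {τ : Representation K Q V} (hτ : Cl2 τ) {Y : Submodule K V}
    (hY : IrrSub τ Y) (a b : Module.End K V) (ha : a ∈ Submodule.span K (Set.range τ))
    (hb : b ∈ Submodule.span K (Set.range τ)) (h0 : ∀ y ∈ Y, a y = b y) : a = b := by
  rw [← sub_eq_zero]
  apply eq_zero_of_span_of_irr hτ hY _ (Submodule.sub_mem _ ha hb)
  intro y hy
  rw [LinearMap.sub_apply, h0 y hy, sub_self]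

end Res

end Cfsg.Agent.Lib.Helper2.G2L
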