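import Mathlib
import Cfsg.Agent.Lib.Helper2.G2LE2b

set_option autoImplicit false

/-!
# S3801, primitive core, part (c): any two irreducible invariant subspaces are linked
-/

namespace Cfsg.Agent.Lib.Helper2.G2L

open Module Cfsg.Agent.Lib.Helper8.TB Cfsg.Agent.Lib.Helper8

universe u v

section Avg

variable {K : Type*} [Field K] {Q : Type*} [Group Q] {V : Type*} [AddCommGroup V] [Module K V]

/-- conjugate of an endomorphism -/
def cjE (τ : Representation K Q V) (R : Module.End K V) (u : Q) : Module.End K V :=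
  τ u * R * τ u⁻¹

theorem cjE_mul_right {τ : Representation K Q V} (hτ : Cl2 τ) (R : Module.End K V) (u z : Q)
    (hz : z ∈ zc τ) : cjE τ R (u * z) = cjE τ R u := by
  obtain ⟨c, hc⟩ := hτ.hZ z hz
  unfold cjE
  have h1 : τ z * R = R * τ z := by rw [hc, smul_mul_assoc, one_mul, mul_smul_comm, mul_one]
  have h2 : τ z * τ z⁻¹ = 1 := by rw [← map_mul, mul_inv_cancel, map_one]
  rw [mul_inv_rev, map_mul, map_mul]
  calc τ u * τ z * R * (τ z⁻¹ * τ u⁻¹) = τ u * (τ z * R) * τ z⁻¹ * τ u⁻¹ := by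
        simp only [mul_assoc]
    _ = τ u * R * (τ z * τ z⁻¹) * τ u⁻¹ := by rw [h1]; simp only [mul_assoc]
    _ = τ u * R * τ u⁻¹ := by rw [h2, mul_one]

theorem mul_cjE (τ : Representation K Q V) (R : Module.End K V) (g u : Q) :
    τ g * cjE τ R u = cjE τ R (g * u) * τ g := by
  unfold cjE
  rw [mul_inv_rev, map_mul, map_mul]
  have h2 : τ g⁻¹ * τ g = 1 := by rw [← map_mul, inv_mul_cancel, map_one]
  calc τ g * (τ u * R * τ u⁻¹) = τ g * τ u * R * τ u⁻¹ * 1 := by
        rw [mul_one]; simp only [mul_assoc]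
    _ = τ g * τ u * R * (τ u⁻¹ * τ g⁻¹) * τ g := by
        rw [← h2]; simp only [mul_assoc]

theorem cjE_rp_smul {τ : Representation K Q V} (hτ : Cl2 τ) (R : Module.End K V) (g : Q)
    (i : Q ⧸ zc τ) : cjE τ R (g * rp τ i) = cjE τ R (rp τ (g • i)) := by
  have h1 : ((g * rp τ i : Q) : Q ⧸ zc τ) = g • i := by
    have h2 : ((rp τ i : Q) : Q ⧸ zc τ) = i := QuotientGroup.out_eq' _
    have h5 : g • ((rp τ i : Q) : Q ⧸ zc τ) = ((g • rp τ i : Q) : Q ⧸ zc τ) :=
      MulAction.Quotient.smul_coe _ g (rp τ i)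
    rw [h2, smul_eq_mul] at h5
    exact h5.symm
  have h3 := rp_mk_mem τ (g * rp τ i)
  rw [h1] at h3
  have h4 : g * rp τ i = rp τ (g • i) * ((rp τ (g • i))⁻¹ * (g * rp τ i)) := by group
  rw [h4, cjE_mul_right hτ R _ _ h3]

variable [Finite Q]

/-- the average over coset representatives -/
noncomputable def avgE (τ : Representation K Q V) (R : Module.End K V) : Module.End K V :=
  haveI : Fintype (Q ⧸ zc τ) := Fintype.ofFinite _
  ∑ i : Q ⧸ zc τ, cjE τ R (rp τ i)

theorem avgE_comm {τ : Representation K Q V} (hτ : Cl2 τ) (R : Module.End K V) (g : Q) :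
    avgE τ R * τ g = τ g * avgE τ R := by
  classical
  letI : Fintype (Q ⧸ zc τ) := Fintype.ofFinite _
  unfold avgE
  rw [Finset.mul_sum, Finset.sum_mul]
  have h1 : ∀ i : Q ⧸ zc τ, τ g * cjE τ R (rp τ i) = cjE τ R (rp τ (g • i)) * τ g := by
    intro i
    rw [mul_cjE, cjE_rp_smul hτ]
  rw [Finset.sum_congr rfl (fun i _ => h1 i)]
  have h2 := Equiv.sum_comp (MulAction.toPerm g : Equiv.Perm (Q ⧸ zc τ))
    (fun j => cjE τ R (rp τ j) * τ g)
  simp only [MulAction.toPerm_apply] at h2
  exact h2.symm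

end Avg

section Linked

variable {K : Type*} [Field K] [IsAlgClosed K] {Q : Type*} [Group Q] [Finite Q]
  {V : Type*} [AddCommGroup V] [Module K V] [FiniteDimensional K V]

/-- any two irreducible invariant subspaces are linked -/
theorem linked_of_irr {τ : Representation K Q V} (hτ : Cl2 τ) {Y Y' : Submodule K V}
    (hY : IrrSub τ Y) (hY' : IrrSub τ Y') : Linked τ Y' Y := by
  classical
  letI : Fintype (Q ⧸ zc τ) := Fintype.ofFinite _
  by_contra hnl
  obtain ⟨y', hy', hy'0⟩ := Submodule.exists_mem_ne_zero_of_ne_bot hY'.1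
  -- for every functional and every `y ∈ Y` the average kills `Y'`
  have hkill : ∀ (l : Module.Dual K V) (y : V), y ∈ Y →
      ∀ w ∈ Y', avgE τ (l.smulRight y) w = 0 := by
    intro l y hy w hw
    by_contra hne
    apply hnl
    refine ⟨avgE τ (l.smulRight y), fun g => avgE_comm hτ _ g, ?_, ?_⟩
    · rintro _ ⟨v, _, rfl⟩
      unfold avgE
      rw [LinearMap.sum_apply]
      apply Submodule.sum_mem
      intro i _
      unfold cjE
      rw [Module.End.mul_apply, Module.End.mul_apply, LinearMap.smulRight_apply, map_smul]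
      exact Submodule.smul_mem _ _ (hY.2.1 _ _ hy)
    · intro hle
      exact hne (LinearMap.mem_ker.mp (hle hw))
  -- hence the coefficients vanish
  have hcoef : ∀ (l : Module.Dual K V) (i : Q ⧸ zc τ), l (τ (rp τ i)⁻¹ y') = 0 := by
    intro l
    have hind := indep_on_irr hτ hY (rp τ) (rp_ne τ)
    rw [Fintype.linearIndependent_iff] at hind
    apply hind (fun i => l (τ (rp τ i)⁻¹ y'))
    apply LinearMap.ext
    intro y
    apply Subtype.ext
    have h2 := hkill l y y.2 y' hy'
    unfold avgE at h2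
    rw [LinearMap.sum_apply] at h2
    rw [LinearMap.sum_apply, LinearMap.zero_apply, Submodule.coe_sum, Submodule.coe_zero, ← h2]
    refine Finset.sum_congr (by ext; simp) ?_
    intro i _
    unfold cjE
    rw [Module.End.mul_apply, Module.End.mul_apply, LinearMap.smulRight_apply, map_smul]
    rfl
  -- contradiction
  obtain ⟨i⟩ : Nonempty (Q ⧸ zc τ) := ⟨((1 : Q) : Q ⧸ zc τ)⟩
  have h3 : τ (rp τ i)⁻¹ y' = 0 := by
    rw [← Module.forall_dual_apply_eq_zero_iff K]
    intro l
    exact hcoef l i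
  apply hy'0
  have h4 : τ (rp τ i) (τ (rp τ i)⁻¹ y') = y' := by
    rw [← Module.End.mul_apply, ← map_mul, mul_inv_cancel, map_one, Module.End.one_apply]
  rw [h3, map_zero] at h4
  exact h4.symm

end Linked

end Cfsg.Agent.Lib.Helper2.G2L
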