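import Mathlib
import Cfsg.Agent.Lib.Helper2.G2LE2c
import Cfsg.Agent.Lib.Helper7.G2LE2c

set_option autoImplicit false

/-!
# S3801, primitive core, part (d): the factorisation `X = a * b`
-/

namespace Cfsg.Agent.Lib.Helper2.G2L

open Module Cfsg.Agent.Lib.Helper8.TB Cfsg.Agent.Lib.Helper8

universe u v

section Span

variable {K : Type*} [Field K] {Q : Type*} [Group Q] {V : Type*} [AddCommGroup V] [Module K V]

theorem one_mem_span (τ : Representation K Q V) :
    (1 : Module.End K V) ∈ Submodule.span K (Set.range τ) :=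
  Submodule.subset_span ⟨1, map_one τ⟩

theorem mul_mem_span (τ : Representation K Q V) {a b : Module.End K V}
    (ha : a ∈ Submodule.span K (Set.range τ)) (hb : b ∈ Submodule.span K (Set.range τ)) :
    a * b ∈ Submodule.span K (Set.range τ) := by
  induction ha using Submodule.span_induction with
  | mem x hx =>
    obtain ⟨u, rfl⟩ := hx
    induction hb using Submodule.span_induction with
    | mem y hy =>
      obtain ⟨v, rfl⟩ := hy
      rw [← map_mul]
      exact Submodule.subset_span ⟨_, rfl⟩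
    | zero => rw [mul_zero]; exact Submodule.zero_mem _
    | add y z _ _ hy hz => rw [mul_add]; exact Submodule.add_mem _ hy hz
    | smul c y _ hy => rw [mul_smul_comm]; exact Submodule.smul_mem _ _ hy
  | zero => rw [zero_mul]; exact Submodule.zero_mem _
  | add x y _ _ hx hy => rw [add_mul]; exact Submodule.add_mem _ hx hy
  | smul c x _ hx => rw [smul_mul_assoc]; exact Submodule.smul_mem _ _ hx

theorem pow_mem_span (τ : Representation K Q V) {a : Module.End K V}
    (ha : a ∈ Submodule.span K (Set.range τ)) (k : ℕ) :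
    a ^ k ∈ Submodule.span K (Set.range τ) := by
  induction k with
  | zero => rw [pow_zero]; exact one_mem_span τ
  | succ k ih => rw [pow_succ]; exact mul_mem_span τ ih ha

/-- an endomorphism commuting with the image commutes with its span -/
theorem comm_span (τ : Representation K Q V) {b : Module.End K V} (hb : ∀ u, b * τ u = τ u * b)
    {a : Module.End K V} (ha : a ∈ Submodule.span K (Set.range τ)) : b * a = a * b := by
  induction ha using Submodule.span_induction with
  | mem x hx => obtain ⟨u, rfl⟩ := hx; exact hb u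
  | zero => rw [mul_zero, zero_mul]
  | add x y _ _ hx hy => rw [mul_add, add_mul, hx, hy]
  | smul c x _ hx => rw [mul_smul_comm, smul_mul_assoc, hx]

end Span

section Fact

variable {K : Type*} [Field K] [IsAlgClosed K] {Q : Type*} [Group Q] [Finite Q]
  {V : Type*} [AddCommGroup V] [Module K V] [FiniteDimensional K V] [Nontrivial V]

theorem pow_apply_of_agree {a X : Module.End K V} {Y : Submodule K V}
    (hXY : ∀ y ∈ Y, X y ∈ Y) (haX : ∀ y ∈ Y, a y = X y) (k : ℕ) :
    ∀ y ∈ Y, (a ^ k) y = (X ^ k) y ∧ (X ^ k) y ∈ Y := by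
  induction k with
  | zero => intro y hy; rw [pow_zero, pow_zero]; exact ⟨rfl, hy⟩
  | succ k ih =>
    intro y hy
    rw [pow_succ', pow_succ', Module.End.mul_apply, Module.End.mul_apply, (ih y hy).1,
      haX _ (ih y hy).2]
    exact ⟨rfl, hXY _ (ih y hy).2⟩

/-- the factorisation -/
theorem exists_factorisation {τ : Representation K Q V} (hτ : Cl2 τ) (q : ℕ) [Fact q.Prime]
    (hqK : (q : K) ≠ 0) (hQ : IsPGroup q Q) (X : Module.End K V) (P : ℕ) (hP : 0 < P)
    (hX : X ^ P = 1) (hnorm : ∀ u, ∃ u', X * τ u = τ u' * X) :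
    ∃ (Y : Submodule K V) (a b : Module.End K V), IrrSub τ Y ∧ (∀ y ∈ Y, X y ∈ Y) ∧
      a ∈ Submodule.span K (Set.range τ) ∧ (∀ y ∈ Y, a y = X y) ∧ a * b = X ∧ b * a = X ∧
      a ^ P = 1 ∧ b ^ P = 1 ∧ ∀ u, b * τ u = τ u * b := by
  have hN : Nrm τ X := nrm_of_pow_eq_one hnorm P hP hX
  have hX1 : X * X ^ (P - 1) = 1 := by rw [← pow_succ', Nat.sub_add_cancel hP, hX]
  have hX2 : X ^ (P - 1) * X = 1 := by rw [← pow_succ, Nat.sub_add_cancel hP, hX]
  have hXinj : Function.Injective X := by
    intro v w hvw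
    have h1 := congrArg (X ^ (P - 1)) hvw
    rwa [← Module.End.mul_apply, ← Module.End.mul_apply, hX2] at h1
  -- an invariant irreducible subspace
  obtain ⟨Y₀, -, hY₀⟩ := exists_irrSub_le τ ⊤ (Inv.top τ) (by
    intro h
    exact top_ne_bot h)
  have hXY₀ : IrrSub τ (Y₀.map X) := hY₀.mapX hN (hN.pow (P - 1)) hX1 hX2
  obtain ⟨Y, hY, hXY, -⟩ := exists_invariant_irr hN hXinj hY₀ hXY₀ (linked_of_irr hτ hY₀ hXY₀)
  -- Burnside
  obtain ⟨a, ha, haX'⟩ := Cfsg.Agent.Lib.Helper7.G2LE2c.burnside_span τ q hqK hQ hY (X.restrict hXY)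
  have haX : ∀ y ∈ Y, a y = X y := fun y hy => haX' ⟨y, hy⟩
  have hpw := pow_apply_of_agree hXY haX
  -- a ^ P = 1
  have haP : a ^ P = 1 := by
    apply eq_of_span_of_irr hτ hY _ _ (pow_mem_span τ ha P) (one_mem_span τ)
    intro y hy
    rw [(hpw P y hy).1, hX]
  have ha1 : a * a ^ (P - 1) = 1 := by rw [← pow_succ', Nat.sub_add_cancel hP, haP]
  have ha2 : a ^ (P - 1) * a = 1 := by rw [← pow_succ, Nat.sub_add_cancel hP, haP]
  -- a normalises like X
  have hconj : ∀ u u', X * τ u = τ u' * X → a * τ u = τ u' * a := by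
    intro u u' huu'
    have h1 : a * τ u * a ^ (P - 1) = τ u' := by
      apply eq_of_span_of_irr hτ hY _ _
        (mul_mem_span τ (mul_mem_span τ ha (Submodule.subset_span ⟨u, rfl⟩))
          (pow_mem_span τ ha _)) (Submodule.subset_span ⟨u', rfl⟩)
      intro y hy
      rw [Module.End.mul_apply, Module.End.mul_apply, (hpw (P - 1) y hy).1,
        haX _ (hY.2.1 u _ (hpw (P - 1) y hy).2)]
      have h2 := congrArg (fun e : Module.End K V => e ((X ^ (P - 1)) y)) huu'
      simp only [Module.End.mul_apply] at h2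
      rw [h2, ← Module.End.mul_apply X, hX1, Module.End.one_apply]
    calc a * τ u = a * τ u * (a ^ (P - 1) * a) := by rw [ha2, mul_one]
      _ = (a * τ u * a ^ (P - 1)) * a := by simp only [mul_assoc]
      _ = τ u' * a := by rw [h1]
  -- b
  set b : Module.End K V := a ^ (P - 1) * X with hb
  have hbτ : ∀ u, b * τ u = τ u * b := by
    intro u
    obtain ⟨u', hu'⟩ := hnorm u
    have h1 := hconj u u' hu'
    -- a⁻¹ τ u' = τ u a⁻¹
    have h2 : a ^ (P - 1) * τ u' = τ u * a ^ (P - 1) := by
      calc a ^ (P - 1) * τ u' = a ^ (P - 1) * τ u' * (a * a ^ (P - 1)) := by rw [ha1, mul_one]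
        _ = a ^ (P - 1) * (τ u' * a) * a ^ (P - 1) := by simp only [mul_assoc]
        _ = a ^ (P - 1) * (a * τ u) * a ^ (P - 1) := by rw [h1]
        _ = (a ^ (P - 1) * a) * τ u * a ^ (P - 1) := by simp only [mul_assoc]
        _ = τ u * a ^ (P - 1) := by rw [ha2, one_mul]
    rw [hb, mul_assoc, hu', ← mul_assoc, h2, mul_assoc]
  have hba : b * a = a * b := comm_span τ hbτ ha
  have hab : a * b = X := by rw [hb, ← mul_assoc, ha1, one_mul]
  have hcomm : Commute a b := hba.symm
  have hbP : b ^ P = 1 := by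
    have h1 : (a * b) ^ P = a ^ P * b ^ P := hcomm.mul_pow P
    rw [hab, hX, haP, one_mul] at h1
    exact h1.symm
  exact ⟨Y, a, b, hY, hXY, ha, haX, hab, by rw [hba, hab], haP, hbP, hbτ⟩

end Fact

end Cfsg.Agent.Lib.Helper2.G2L
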