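import Mathlib
import Cfsg.Agent.Lib.Helper8.TB7

set_option autoImplicit false

/-! # S3801, package E2e : the Hall–Higman critical case without minimality

This is a cut-down copy of `Helper8.TB.endgame`: the minimality hypothesis, which was used there
only to show that the centraliser of the socle of `⟨X⟩` in `𝒬` is central, is replaced by the
hypothesis `hfpf` saying exactly this. -/

namespace Cfsg.Agent.Lib.Helper2.G2L

open Module Cfsg.Agent.Lib.Helper8.TB Cfsg.Agent.Lib.Helper8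

universe u v

/-- E2e : the Hall–Higman critical case without minimality: the square root of the socle of `⟨X⟩`
commutes only with scalar elements -/
theorem critical_dim {K : Type*} [Field K] [IsAlgClosed K] [CharP K 2] {Q : Type u} [Group Q]
    [Finite Q] (q : ℕ) [Fact q.Prime] (hq2 : q ≠ 2) (hQ : IsPGroup q Q)
    {Y : Type v} [AddCommGroup Y] [Module K Y] [FiniteDimensional K Y]
    (τ : Representation K Q Y) (hirr : HB.Irr τ) (X : Module.End K Y) (n : ℕ) (hn : 1 ≤ n)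
    (hX : X ^ 2 ^ n = 1) (hnorm : ∀ u, ∃ u', X * τ u = τ u' * X)
    (hfpf : ∀ u, X ^ 2 ^ (n - 1) * τ u = τ u * X ^ 2 ^ (n - 1) →
      ∃ c : K, τ u = c • (1 : Module.End K Y))
    (hnt : X ^ 2 ^ (n - 1) ≠ 1) (hexc : (X - 1) ^ (2 ^ n - 1) = 0) :
    finrank K Y = 2 ^ n - 1 ∧ (X - 1) ^ (2 ^ n - 2) ≠ 0 := by
  classical
  haveI : Fact (Nat.Prime 2) := ⟨Nat.prime_two⟩
  have hPpos : 0 < 2 ^ n := pow_pos (by norm_num) n
  haveI : Nontrivial Y := by
    by_contra hcon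
    rw [not_nontrivial_iff_subsingleton] at hcon
    exact hnt (Subsingleton.elim _ _)
  have hN : Nrm τ X := nrm_of_pow_eq_one hnorm (2 ^ n) hPpos hX
  -- the concrete group
  set τ' : Q →* (Module.End K Y)ˣ := τ.toHomUnits with hτ'
  have hτ'v : ∀ u, ((τ' u : (Module.End K Y)ˣ) : Module.End K Y) = τ u :=
    fun u => MonoidHom.coe_toHomUnits τ u
  set X' : (Module.End K Y)ˣ := Units.ofPowEqOne X (2 ^ n) hX hPpos.ne' with hX'
  have hX'v : ((X' : (Module.End K Y)ˣ) : Module.End K Y) = X := Units.val_ofPowEqOne X _ hX _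
  have hX'pow : X' ^ 2 ^ n = 1 := by
    apply Units.ext
    rw [Units.val_pow_eq_pow_val, hX'v, hX, Units.val_one]
  set 𝒬 : Subgroup (Module.End K Y)ˣ := τ'.range with h𝒬
  haveI : Finite 𝒬 := Finite.of_surjective τ'.rangeRestrict τ'.rangeRestrict_surjective
  have h𝒬p : IsPGroup q 𝒬 := hQ.of_surjective τ'.rangeRestrict τ'.rangeRestrict_surjective
  -- X' normalizes 𝒬
  have hconj : ∀ u, ∃ u', X' * τ' u * X'⁻¹ = τ' u' := by
    intro u
    obtain ⟨u', hu'⟩ := hN.fwd u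
    refine ⟨u', ?_⟩
    rw [mul_inv_eq_iff_eq_mul]
    apply Units.ext
    rw [Units.val_mul, Units.val_mul, hτ'v, hτ'v, hX'v]
    exact hu'
  have hconj' : ∀ u, ∃ u', X'⁻¹ * τ' u * X' = τ' u' := by
    intro u
    obtain ⟨u', hu'⟩ := hN.bwd u
    refine ⟨u', ?_⟩
    rw [mul_assoc, inv_mul_eq_iff_eq_mul]
    apply Units.ext
    rw [Units.val_mul, Units.val_mul, hτ'v, hτ'v, hX'v]
    exact hu'
  have hX'n : X' ∈ Subgroup.normalizer (𝒬 : Set (Module.End K Y)ˣ) := by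
    rw [Subgroup.mem_normalizer_iff]
    intro a
    constructor
    · rintro ⟨u, rfl⟩
      obtain ⟨u', hu'⟩ := hconj u
      exact ⟨u', hu'.symm⟩
    · rintro ⟨u, hu⟩
      obtain ⟨u', hu'⟩ := hconj' u
      refine ⟨u', ?_⟩
      rw [← hu', hu]
      group
  have hX'zn : ∀ i : ℤ, X' ^ i ∈ Subgroup.normalizer (𝒬 : Set (Module.End K Y)ˣ) :=
    fun i => Subgroup.zpow_mem _ hX'n i
  let 𝒢 : Subgroup (Module.End K Y)ˣ :=
    { carrier := {g | ∃ a ∈ 𝒬, ∃ i : ℤ, g = a * X' ^ i}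
      one_mem' := ⟨1, 𝒬.one_mem, 0, by simp⟩
      mul_mem' := by
        rintro _ _ ⟨a, ha, i, rfl⟩ ⟨b, hb, j, rfl⟩
        have h1 : X' ^ i * b * (X' ^ i)⁻¹ ∈ 𝒬 := (Subgroup.mem_normalizer_iff.mp (hX'zn i) b).mp hb
        refine ⟨a * (X' ^ i * b * (X' ^ i)⁻¹), 𝒬.mul_mem ha h1, i + j, ?_⟩
        rw [zpow_add]; group
      inv_mem' := by
        rintro _ ⟨a, ha, i, rfl⟩
        have h1 : X' ^ (-i) * a⁻¹ * (X' ^ (-i))⁻¹ ∈ 𝒬 :=
          (Subgroup.mem_normalizer_iff.mp (hX'zn (-i)) a⁻¹).mp (𝒬.inv_mem ha)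
        refine ⟨X' ^ (-i) * a⁻¹ * (X' ^ (-i))⁻¹, h1, -i, ?_⟩
        group }
  have h𝒬𝒢 : 𝒬 ≤ 𝒢 := fun a ha => ⟨a, ha, 0, by simp⟩
  have hX'𝒢 : X' ∈ 𝒢 := ⟨1, 𝒬.one_mem, 1, by simp⟩
  haveI : Finite 𝒢 := by
    have hfin : (𝒢 : Set (Module.End K Y)ˣ).Finite := by
      have h1 : (𝒢 : Set (Module.End K Y)ˣ) ⊆
          Set.range (fun x : 𝒬 × Fin (2 ^ n) => (x.1 : (Module.End K Y)ˣ) * X' ^ (x.2 : ℕ)) := by
        rintro _ ⟨a, ha, i, rfl⟩
        have hxz : X' ^ ((2 ^ n : ℕ) : ℤ) = 1 := by rw [zpow_natCast]; exact hX'pow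
        have h2 : X' ^ i = X' ^ (i % ((2 ^ n : ℕ) : ℤ)) := zpow_eq_zpow_emod i hxz
        have h3 : 0 ≤ i % ((2 ^ n : ℕ) : ℤ) := Int.emod_nonneg _ (by exact_mod_cast hPpos.ne')
        obtain ⟨i', hi'⟩ := Int.eq_ofNat_of_zero_le h3
        have hi'lt : i' < 2 ^ n := by
          have h4 : i % ((2 ^ n : ℕ) : ℤ) < ((2 ^ n : ℕ) : ℤ) :=
            Int.emod_lt_of_pos _ (by exact_mod_cast hPpos)
          rw [hi'] at h4
          exact_mod_cast h4
        refine ⟨(⟨a, ha⟩, ⟨i', hi'lt⟩), ?_⟩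
        show a * X' ^ i' = a * X' ^ i
        rw [h2, hi', zpow_natCast]
      exact Set.Finite.subset (Set.finite_range _) h1
    exact hfin.to_subtype
  have h𝒢n : 𝒢 ≤ Subgroup.normalizer (𝒬 : Set (Module.End K Y)ˣ) := by
    rintro _ ⟨a, ha, i, rfl⟩
    exact Subgroup.mul_mem _ (Subgroup.le_normalizer ha) (hX'zn i)
  haveI hQGn : (𝒬.subgroupOf 𝒢).Normal := Subgroup.normal_subgroupOf_of_le_normalizer h𝒢n
  have hQGp : IsPGroup q (𝒬.subgroupOf 𝒢) := h𝒬p.comap_subtype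
  set xG : 𝒢 := ⟨X', hX'𝒢⟩ with hxG
  set ρ : Representation K 𝒢 Y := (Units.coeHom (Module.End K Y)).comp 𝒢.subtype with hρ
  have hρv : ∀ g : 𝒢, ρ g = (((g : (Module.End K Y)ˣ)) : Module.End K Y) := fun g => rfl
  have hρx : ρ xG = X := hX'v
  have hfaith : Function.Injective ρ := by
    intro g h hgh
    apply Subtype.ext
    apply Units.ext
    exact hgh
  have hirr' : ∀ W : Submodule K Y, (∀ g ∈ 𝒬.subgroupOf 𝒢, Submodule.map (ρ g) W ≤ W) →
      W = ⊥ ∨ W = ⊤ := by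
    intro W hW
    apply hirr W
    intro u
    have h1 : (⟨τ' u, h𝒬𝒢 ⟨u, rfl⟩⟩ : 𝒢) ∈ 𝒬.subgroupOf 𝒢 := by
      rw [Subgroup.mem_subgroupOf]
      exact ⟨u, rfl⟩
    have h2 := hW _ h1
    rw [hρv] at h2
    rw [← hτ'v u]
    exact h2
  -- the order of xG
  have hxGpow : xG ^ 2 ^ n = 1 := Subtype.ext hX'pow
  have hxGne : ¬ xG ^ 2 ^ (n - 1) = 1 := by
    intro h
    apply hnt
    have h1 := congrArg (fun g : 𝒢 => (((g : (Module.End K Y)ˣ)) : Module.End K Y)) h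
    simp only [Subgroup.coe_pow, Units.val_pow_eq_pow_val, Subgroup.coe_one, Units.val_one] at h1
    rw [← hX'v]
    exact h1
  have hord : orderOf xG = 2 ^ n := by
    have h1 := orderOf_eq_prime_pow hxGne (by rw [Nat.sub_add_cancel hn]; exact hxGpow)
    rwa [Nat.sub_add_cancel hn] at h1
  have hcardz : Nat.card (Subgroup.zpowers xG) = 2 ^ n := by rw [Nat.card_zpowers, hord]
  have hx : IsPGroup 2 (Subgroup.zpowers xG) := IsPGroup.of_card hcardz
  set X₀' : (Module.End K Y)ˣ := X' ^ 2 ^ (n - 1) with hX₀'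
  have hX₀'v : ((X₀' : (Module.End K Y)ˣ) : Module.End K Y) = X ^ 2 ^ (n - 1) := by
    rw [hX₀', Units.val_pow_eq_pow_val, hX'v]
  have hA1 : ∀ y ∈ Subgroup.zpowers xG, y ≠ 1 → ∀ u ∈ 𝒬.subgroupOf 𝒢, u * y = y * u →
      u ∈ Subgroup.center 𝒢 := by
    rintro _ ⟨k, rfl⟩ hy1 u hu hcomm
    have huQ : (u : (Module.End K Y)ˣ) ∈ 𝒬 := Subgroup.mem_subgroupOf.mp hu
    have hy1' : X' ^ k ≠ 1 := by
      intro h
      apply hy1
      apply Subtype.ext
      rw [Subgroup.coe_zpow]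
      exact h
    have hcomm' : (u : (Module.End K Y)ˣ) * X' ^ k = X' ^ k * (u : (Module.End K Y)ˣ) := by
      have h1 := congrArg (fun g : 𝒢 => (g : (Module.End K Y)ˣ)) hcomm
      simp only [Subgroup.coe_mul, Subgroup.coe_zpow] at h1
      exact h1
    obtain ⟨m, hm⟩ := exists_pow_eq_socle 2 n hn X' hX'pow k hy1'
    have hcomm₀ : (u : (Module.End K Y)ˣ) * X₀' = X₀' * (u : (Module.End K Y)ˣ) := by
      rw [hX₀', ← hm]
      have h1 : Commute (u : (Module.End K Y)ˣ) (X' ^ k) := hcomm'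
      exact h1.pow_right m
    -- u acts as a scalar
    obtain ⟨w, hw⟩ := huQ
    have hscal : ∃ c : K, τ w = c • (1 : Module.End K Y) := by
      apply hfpf
      rw [← hw] at hcomm₀
      have h2 := congrArg (fun g : (Module.End K Y)ˣ => (g : Module.End K Y)) hcomm₀
      simp only [Units.val_mul, hτ'v, hX₀'v] at h2
      exact h2.symm
    obtain ⟨a, ha⟩ := hscal
    have hcommX : (u : (Module.End K Y)ˣ) * X' = X' * (u : (Module.End K Y)ˣ) := by
      apply Units.ext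
      rw [Units.val_mul, Units.val_mul, ← hw, hτ'v, hX'v, ha]
      rw [smul_mul_assoc, one_mul, mul_smul_comm, mul_one]
    have hcen : ∀ b ∈ 𝒬, (u : (Module.End K Y)ˣ) * b = b * (u : (Module.End K Y)ˣ) := by
      rintro _ ⟨v, rfl⟩
      apply Units.ext
      rw [Units.val_mul, Units.val_mul, ← hw, hτ'v, hτ'v, ha]
      rw [smul_mul_assoc, one_mul, mul_smul_comm, mul_one]
    rw [Subgroup.mem_center_iff]
    rintro ⟨_, b, hb, i, rfl⟩
    apply Subtype.ext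
    show b * X' ^ i * (u : (Module.End K Y)ˣ) = (u : (Module.End K Y)ˣ) * (b * X' ^ i)
    have h3 : Commute (u : (Module.End K Y)ˣ) (X' ^ i) := (show Commute _ X' from hcommX).zpow_right i
    have h4 : (u : (Module.End K Y)ˣ) * b = b * (u : (Module.End K Y)ˣ) := hcen b hb
    calc b * X' ^ i * (u : (Module.End K Y)ˣ) = b * ((u : (Module.End K Y)ˣ) * X' ^ i) := by
          rw [mul_assoc, h3.eq]
      _ = (u : (Module.End K Y)ˣ) * (b * X' ^ i) := by rw [← mul_assoc, ← h4, mul_assoc]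
  -- the nilpotency index
  have hex : ∃ s, (X - 1) ^ s = 0 := ⟨2 ^ n - 1, hexc⟩
  set s := Nat.find hex with hs
  have hs0 : (X - 1) ^ s = 0 := Nat.find_spec hex
  have hsmin : ∀ k < s, (X - 1) ^ k ≠ 0 := fun k hk => Nat.find_min hex hk
  have hsP : s ≤ 2 ^ n - 1 := Nat.find_le hexc
  have hcrit := HB.critical' 2 q (Ne.symm hq2) (𝒬.subgroupOf 𝒢) hQGp xG hx hA1 ρ hfaith hirr' s
    (by rw [hρx]; exact hs0) (by rw [hρx]; exact hsmin) (by rw [hcardz]; exact hsP)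
  rw [hcardz] at hcrit
  obtain ⟨h1, h2, h3⟩ := hcrit
  refine ⟨h2, ?_⟩
  apply hsmin
  omega

end Cfsg.Agent.Lib.Helper2.G2L
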