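import Mathlib
import Cfsg.Agent.Lib.Helper2.G2LE2d
import Cfsg.Agent.Lib.Helper2.G2LE2e0

set_option autoImplicit false

/-!
# S3801, primitive core, part (e): an exceptional normalising element lies in the span
-/

namespace Cfsg.Agent.Lib.Helper2.G2L

open Module Cfsg.Agent.Lib.Helper8.TB Cfsg.Agent.Lib.Helper8

universe u v

section Binom

variable {K : Type*} [Field K] {V : Type*} [AddCommGroup V] [Module K V]

/-- first order expansion of a power of a sum of commuting endomorphisms -/
theorem add_pow_apply_of_sq_zero (α γ : Module.End K V) (hc : α * γ = γ * α) (v : V)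
    (hv : γ (γ v) = 0) (k : ℕ) :
    ((α + γ) ^ (k + 1)) v = (α ^ (k + 1)) v + ((k + 1 : ℕ) : K) • (α ^ k) (γ v) := by
  have hcp : ∀ j : ℕ, γ * α ^ j = α ^ j * γ := by
    intro j
    induction j with
    | zero => rw [pow_zero, one_mul, mul_one]
    | succ j ih => rw [pow_succ, ← mul_assoc, ih, mul_assoc, ← hc, ← mul_assoc]
  have hcp' : ∀ (j : ℕ) (w : V), γ ((α ^ j) w) = (α ^ j) (γ w) := by
    intro j w
    have := congrArg (fun e : Module.End K V => e w) (hcp j)
    simpa using this
  induction k with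
  | zero =>
    simp
  | succ k ih =>
    have e1 : ((α + γ) ^ (k + 1 + 1)) v = (α + γ) (((α + γ) ^ (k + 1)) v) := by
      rw [pow_succ' _ (k + 1), Module.End.mul_apply]
    have e2 : γ ((α ^ (k + 1)) v) = (α ^ (k + 1)) (γ v) := hcp' _ _
    have e3 : γ ((α ^ k) (γ v)) = 0 := by rw [hcp', hv, map_zero]
    have e4 : α ((α ^ (k + 1)) v) = (α ^ (k + 1 + 1)) v := by
      rw [← Module.End.mul_apply, ← pow_succ']
    have e5 : α ((α ^ k) (γ v)) = (α ^ (k + 1)) (γ v) := by
      rw [← Module.End.mul_apply, ← pow_succ']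
    have h1 : ((k + 1 + 1 : ℕ) : K) = ((k + 1 : ℕ) : K) + 1 := by push_cast; ring
    rw [e1, ih, map_add, map_smul, LinearMap.add_apply, LinearMap.add_apply, e2, e3, e4, e5,
      add_zero, h1, add_smul, one_smul]
    abel

end Binom

section Core

variable {K : Type*} [Field K] [IsAlgClosed K] [CharP K 2] {Q : Type u} [Group Q] [Finite Q]
  {V : Type v} [AddCommGroup V] [Module K V] [FiniteDimensional K V] [Nontrivial V]

/-- the linear core of the primitive case -/
theorem exc_core {τ : Representation K Q V} (hτ : Cl2 τ) (q : ℕ) [Fact q.Prime] (hq2 : q ≠ 2)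
    (hQ : IsPGroup q Q) (X : Module.End K V) (n : ℕ) (hn : 1 ≤ n) (hexc : Exc X n)
    (hnorm : ∀ u, ∃ u', X * τ u = τ u' * X)
    (hfpf : ∀ u, X ^ 2 ^ (n - 1) * τ u = τ u * X ^ 2 ^ (n - 1) → u ∈ zc τ)
    (hnt : ∃ u, X ^ 2 ^ (n - 1) * τ u ≠ τ u * X ^ 2 ^ (n - 1)) :
    X ∈ Submodule.span K (Set.range τ) ∧ Nat.card (Q ⧸ zc τ) = (2 ^ n - 1) ^ 2 := by
  classical
  obtain ⟨hX, hX0⟩ := hexc
  have hqK : (q : K) ≠ 0 := by
    intro h0
    rw [CharP.cast_eq_zero_iff K 2 q] at h0
    exact hq2 ((Nat.prime_dvd_prime_iff_eq Nat.prime_two Fact.out).mp h0).symm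
  have hP : 0 < 2 ^ n := pow_pos (by norm_num) n
  obtain ⟨Y, a, b, hY, hXY, ha, haX, hab, hba, haP, hbP, hbτ⟩ :=
    exists_factorisation hτ q hqK hQ X (2 ^ n) hP hX hnorm
  have hpw := pow_apply_of_agree hXY haX
  have hcomm : Commute a b := by rw [Commute, SemiconjBy, hab, hba]
  -- the restricted data
  set τY : Representation K Q Y := FF.restrictRep τ Y hY.2.1 with hτY
  set XY : Module.End K Y := X.restrict hXY with hXYdef
  have hXYpow : ∀ (k : ℕ) (y : Y), (((XY ^ k) y : Y) : V) = (X ^ k) (y : V) := by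
    intro k y
    exact restrict_pow_apply X Y hXY k y
  have hXYsub : ∀ (k : ℕ) (y : Y), ((((XY - 1) ^ k) y : Y) : V) = ((X - 1) ^ k) (y : V) := by
    intro k y
    exact restrict_sub_one_pow_apply X Y hXY k y
  have hhalf : 2 ^ (n - 1) * 2 = 2 ^ n := by rw [← pow_succ, Nat.sub_add_cancel hn]
  -- a ^ (N/2) against τ u
  have hkey : ∀ u, (∀ y : Y, (X ^ 2 ^ (n - 1)) (τ u (y : V)) = τ u ((X ^ 2 ^ (n - 1)) (y : V))) →
      u ∈ zc τ := by
    intro u hu
    apply hfpf
    have h1 : a ^ 2 ^ (n - 1) * τ u = τ u * a ^ 2 ^ (n - 1) := by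
      apply eq_of_span_of_irr hτ hY _ _
        (mul_mem_span τ (pow_mem_span τ ha _) (Submodule.subset_span ⟨u, rfl⟩))
        (mul_mem_span τ (Submodule.subset_span ⟨u, rfl⟩) (pow_mem_span τ ha _))
      intro y hy
      rw [Module.End.mul_apply, Module.End.mul_apply, (hpw _ _ (hY.2.1 u y hy)).1,
        (hpw _ y hy).1]
      exact hu ⟨y, hy⟩
    have h2 : b ^ 2 ^ (n - 1) * τ u = τ u * b ^ 2 ^ (n - 1) := by
      have : Commute b (τ u) := hbτ u
      exact (this.pow_left _).eq
    rw [← hab, hcomm.mul_pow, mul_assoc, h2, ← mul_assoc, h1, mul_assoc]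
  have hcrit := critical_dim q hq2 hQ τY (QC.irr_restrict hY) XY n hn
    (by
      apply LinearMap.ext; intro y; apply Subtype.ext
      rw [hXYpow, hX]; rfl)
    (by
      intro u
      obtain ⟨u', hu'⟩ := hnorm u
      refine ⟨u', ?_⟩
      apply LinearMap.ext; intro y; apply Subtype.ext
      have h1 := congrArg (fun e : Module.End K V => e (y : V)) hu'
      exact h1)
    (by
      intro u hu
      have h1 : u ∈ zc τ := by
        apply hkey
        intro y
        have h2 := congrArg (fun e : Module.End K Y => ((e y : Y) : V)) hu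
        have h3 : (((XY ^ 2 ^ (n - 1)) (τY u y) : Y) : V) =
            τ u (((XY ^ 2 ^ (n - 1)) y : Y) : V) := h2
        rw [hXYpow, hXYpow] at h3
        exact h3
      obtain ⟨c, hc⟩ := hτ.hZ u h1
      refine ⟨c, ?_⟩
      apply LinearMap.ext; intro y; apply Subtype.ext
      show τ u (y : V) = c • (y : V)
      rw [hc]; rfl)
    (by
      intro h1
      obtain ⟨u, hu⟩ := hnt
      apply hu
      have h2 : a ^ 2 ^ (n - 1) = 1 := by
        apply eq_of_span_of_irr hτ hY _ _ (pow_mem_span τ ha _) (one_mem_span τ)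
        intro y hy
        rw [(hpw _ y hy).1]
        have h3 : (((XY ^ 2 ^ (n - 1)) ⟨y, hy⟩ : Y) : V) = y :=
          congrArg (fun e : Module.End K Y => ((e ⟨y, hy⟩ : Y) : V)) h1
        rw [hXYpow] at h3
        exact h3
      have h4 : Commute b (τ u) := hbτ u
      rw [← hab, hcomm.mul_pow, h2, one_mul]
      exact (h4.pow_left _).eq)
    (by
      apply LinearMap.ext; intro y; apply Subtype.ext
      rw [hXYsub, hX0]; rfl)
  obtain ⟨hdim, hnil⟩ := hcrit
  -- (a - 1) ^ (N - 1) = 0 and (a - 1) ^ (N - 2) ≠ 0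
  have hsub : ∀ (k : ℕ), ∀ y ∈ Y, ((a - 1) ^ k) y = ((X - 1) ^ k) y ∧ ((X - 1) ^ k) y ∈ Y := by
    intro k
    induction k with
    | zero => intro y hy; rw [pow_zero, pow_zero]; exact ⟨rfl, hy⟩
    | succ k ih =>
      intro y hy
      have h1 := ih y hy
      rw [pow_succ', pow_succ', Module.End.mul_apply, Module.End.mul_apply, h1.1,
        LinearMap.sub_apply, LinearMap.sub_apply, haX _ h1.2]
      exact ⟨rfl, Y.sub_mem (hXY _ h1.2) h1.2⟩
  have hα_mem : ∀ k, (a - 1) ^ k ∈ Submodule.span K (Set.range τ) := fun k =>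
    pow_mem_span τ (Submodule.sub_mem _ ha (one_mem_span τ)) k
  have hαtop : (a - 1) ^ (2 ^ n - 1) = 0 := by
    apply eq_zero_of_span_of_irr hτ hY _ (hα_mem _)
    intro y hy
    rw [(hsub _ y hy).1, hX0]; rfl
  -- b = 1
  have hb1 : b = 1 := by
    by_contra hne
    set β : Module.End K V := b - 1 with hβ
    have hβne : β ≠ 0 := fun h => hne (sub_eq_zero.mp h)
    have hβnil : β ^ 2 ^ n = 0 := by
      rw [hβ, HB.sub_one_pow_char 2 b n, hbP, sub_self]
    -- a vector with β v ≠ 0 and β² v = 0
    have hex : ∃ v : V, β v ≠ 0 ∧ β (β v) = 0 := by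
      have hfind : ∃ k, β ^ k = 0 := ⟨_, hβnil⟩
      set k := Nat.find hfind with hk
      have hk0 : β ^ k = 0 := Nat.find_spec hfind
      have hk2 : 2 ≤ k := by
        by_contra hlt
        have : k = 0 ∨ k = 1 := by omega
        rcases this with h | h
        · rw [h, pow_zero] at hk0; exact one_ne_zero hk0
        · rw [h, pow_one] at hk0; exact hβne hk0
      have hkm : β ^ (k - 1) ≠ 0 := Nat.find_min hfind (by omega)
      obtain ⟨w, hw⟩ : ∃ w, (β ^ (k - 1)) w ≠ 0 := by
        by_contra hall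
        push Not at hall
        exact hkm (LinearMap.ext hall)
      refine ⟨(β ^ (k - 2)) w, ?_, ?_⟩
      · rw [← Module.End.mul_apply, ← pow_succ']
        have : k - 2 + 1 = k - 1 := by omega
        rw [this]; exact hw
      · have h5 : β * (β * β ^ (k - 2)) = β ^ k := by
          rw [← pow_succ', ← pow_succ']
          congr 1; omega
        have h6 := congrArg (fun e : Module.End K V => e w) h5
        simp only [Module.End.mul_apply] at h6
        rw [h6, hk0]; rfl
    -- the subspace W = β (ker β²)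
    set W : Submodule K V := (LinearMap.ker (β * β)).map β with hW
    have hβτ : ∀ u, β * τ u = τ u * β := by
      intro u
      rw [hβ, sub_mul, mul_sub, hbτ u, one_mul, mul_one]
    have hWinv : Inv τ W := by
      rintro u _ ⟨v, hv, rfl⟩
      refine ⟨τ u v, ?_, ?_⟩
      · rw [SetLike.mem_coe, LinearMap.mem_ker] at hv ⊢
        have h1 : β * β * τ u = τ u * (β * β) := by
          rw [mul_assoc, hβτ u, ← mul_assoc, hβτ u, mul_assoc]
        have h2 := congrArg (fun e : Module.End K V => e v) h1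
        simp only [Module.End.mul_apply] at h2 hv ⊢
        rw [h2, hv, map_zero]
      · have h2 := congrArg (fun e : Module.End K V => e v) (hβτ u)
        simp only [Module.End.mul_apply] at h2
        exact h2
    have hWne : W ≠ ⊥ := by
      obtain ⟨v, hv1, hv2⟩ := hex
      intro h0
      have : β v ∈ W := ⟨v, by rw [SetLike.mem_coe, LinearMap.mem_ker]; exact hv2, rfl⟩
      rw [h0, Submodule.mem_bot] at this
      exact hv1 this
    -- (a-1)^(N-2) kills W
    have hN2 : 2 ≤ 2 ^ n := by
      calc 2 = 2 ^ 1 := (pow_one 2).symm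
        _ ≤ 2 ^ n := Nat.pow_le_pow_right (by norm_num) hn
    have hkillW : ∀ x ∈ W, ((a - 1) ^ (2 ^ n - 2) : Module.End K V) x = 0 := by
      rintro _ ⟨v, hv, rfl⟩
      rw [SetLike.mem_coe, LinearMap.mem_ker, Module.End.mul_apply] at hv
      set α : Module.End K V := a - 1 with hα
      set γ : Module.End K V := a * β with hγ
      have hcaβ : Commute a β := hcomm.sub_right (Commute.one_right a)
      have haβ : a * β = β * a := hcaβ.eq
      have hαa : Commute α a := (Commute.refl a).sub_left (Commute.one_left a)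
      have hαβ : Commute α β := hcaβ.sub_left (Commute.one_left β)
      have hαγ : α * γ = γ * α := (hαa.mul_right hαβ).eq
      have hγv : γ (γ v) = 0 := by
        rw [hγ, Module.End.mul_apply, Module.End.mul_apply]
        have h1 : β (a (β v)) = a (β (β v)) := by
          have := congrArg (fun e : Module.End K V => e (β v)) haβ
          simp only [Module.End.mul_apply] at this
          exact this.symm
        rw [h1, hv, map_zero, map_zero]
      have hsum : X - 1 = α + γ := by
        rw [← hab, hα, hγ, hβ, mul_sub, mul_one]; abel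
      have h1 := add_pow_apply_of_sq_zero α γ hαγ v hγv (2 ^ n - 2)
      have h2 : 2 ^ n - 2 + 1 = 2 ^ n - 1 := by omega
      rw [h2, ← hsum, hX0, hαtop] at h1
      have h3 : ((2 ^ n - 1 : ℕ) : K) = 1 := by
        have h4 : ((2 ^ n : ℕ) : K) = 0 := by
          rw [CharP.cast_eq_zero_iff K 2]
          exact dvd_pow_self 2 (by omega)
        have h5 : ((2 ^ n - 1 : ℕ) : K) + 1 = 0 := by
          rw [← h4]
          have : 2 ^ n - 1 + 1 = 2 ^ n := by omega
          rw [← this]; push_cast; ring
        have h6 : (1 : K) + 1 = 0 := by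
          have := CharTwo.add_self_eq_zero (1 : K)
          exact this
        have : ((2 ^ n - 1 : ℕ) : K) = ((2 ^ n - 1 : ℕ) : K) + ((1 : K) + 1) := by rw [h6, add_zero]
        rw [this, ← add_assoc, h5, zero_add]
      rw [h3, one_smul, LinearMap.zero_apply, zero_add] at h1
      replace h1 := h1.symm
      -- h1 : 0 = α^(N-2) (γ v) = α^(N-2) (a (β v))
      have h7 : (α ^ (2 ^ n - 2)) (a (β v)) = a ((α ^ (2 ^ n - 2)) (β v)) := by
        have hc1 : Commute α a := by
          rw [hα]; exact (Commute.refl a).sub_left (Commute.one_left a)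
        have := congrArg (fun e : Module.End K V => e (β v)) (hc1.pow_left (2 ^ n - 2)).eq
        simp only [Module.End.mul_apply] at this
        exact this
      rw [hγ, Module.End.mul_apply, h7] at h1
      have h8 : (a ^ (2 ^ n - 1) : Module.End K V) (a ((α ^ (2 ^ n - 2)) (β v))) =
          (a ^ (2 ^ n - 1) : Module.End K V) 0 :=
        congrArg (fun x : V => (a ^ (2 ^ n - 1) : Module.End K V) x) h1
      rw [map_zero, ← Module.End.mul_apply, ← pow_succ, Nat.sub_add_cancel hP, haP,
        Module.End.one_apply] at h8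
      exact h8
    obtain ⟨Y', hY'W, hY'⟩ := exists_irrSub_le τ W hWinv hWne
    have hzero : (a - 1) ^ (2 ^ n - 2) = 0 := by
      apply eq_zero_of_span_of_irr hτ hY' _ (hα_mem _)
      intro y hy
      exact hkillW y (hY'W hy)
    apply hnil
    apply LinearMap.ext; intro y; apply Subtype.ext
    rw [hXYsub, ← (hsub _ (y : V) y.2).1, hzero]; rfl
  have hXa : X = a := by rw [← hab, hb1, mul_one]
  refine ⟨by rw [hXa]; exact ha, ?_⟩
  -- the cardinality
  letI : Fintype (Q ⧸ zc τ) := Fintype.ofFinite _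
  have hind := indep_on_irr hτ hY (rp τ) (rp_ne τ)
  have hspan : ⊤ ≤ Submodule.span K (Set.range (fun i => τY (rp τ i))) := by
    intro φ _
    obtain ⟨a', ha', ha'φ⟩ := Cfsg.Agent.Lib.Helper7.G2LE2c.burnside_span τ q hqK hQ hY φ
    rw [span_range_eq hτ, Submodule.mem_span_range_iff_exists_fun] at ha'
    obtain ⟨c, rfl⟩ := ha'
    rw [Submodule.mem_span_range_iff_exists_fun]
    refine ⟨c, ?_⟩
    apply LinearMap.ext; intro y; apply Subtype.ext
    rw [← ha'φ y, LinearMap.sum_apply, LinearMap.sum_apply, Submodule.coe_sum]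
    apply Finset.sum_congr rfl
    intro i _
    rfl
  have hcard := Module.finrank_eq_card_basis (Basis.mk hind hspan)
  rw [Module.finrank_linearMap, hdim] at hcard
  rw [Nat.card_eq_fintype_card, ← hcard, sq]

end Core

end Cfsg.Agent.Lib.Helper2.G2L
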