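import Mathlib
import Cfsg.Agent.Lib.Helper2.G2LE2e
import Cfsg.Agent.Lib.Helper9.G2LE2h
import Cfsg.Agent.Lib.Helper7.G2LNT

set_option autoImplicit false

/-!
# S3801, primitive core: the group-theoretic glue (`primitive_core`)
-/

namespace Cfsg.Agent.Lib.Helper2.G2L

open Module Cfsg.Agent.Lib.Helper8.TB Cfsg.Agent.Lib.Helper8

universe u v

section PC

variable (K : Type*) [Field K] [IsAlgClosed K] [CharP K 2]

theorem primitive_core (H : Type u) [Group H] [Finite H] (V : Type v) [AddCommGroup V]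
    [Module K V] [FiniteDimensional K V] (ρ : Representation K H V) (hρ : Function.Injective ρ)
    (g : H) (n : ℕ) (hn : 1 ≤ n) (hg : Exc (ρ g) n)
    (q : ℕ) (hq : q.Prime) (hq2 : q ≠ 2) (D : Subgroup H) (hDn : D.Normal) (hDq : IsPGroup q D)
    (hDt : ∃ d ∈ D, g ^ 2 ^ (n - 1) * d ≠ d * g ^ 2 ^ (n - 1))
    (hcl : ∀ a ∈ D, ∀ b ∈ D, ∀ c ∈ D, cm a b * c = c * cm a b)
    (hex : ∀ a ∈ D, ∀ c ∈ D, a ^ q * c = c * a ^ q)
    (hZ : ∀ z ∈ D, (∀ c ∈ D, z * c = c * z) → ∃ c : K, ρ z = c • (1 : Module.End K V)) :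
    q = 2 ^ n - 1 ∧
    ((D ⊓ Subgroup.centralizer {g ^ 2 ^ (n - 1)}) ⊔
        (Subgroup.center D).map D.subtype).relIndex D = q ^ 2 ∧
    (∀ h : H, (∀ d ∈ D, h * d = d * h) → g * h = h * g) ∧
    (∀ d ∈ D, g ^ 2 ^ (n - 1) * d = d * g ^ 2 ^ (n - 1) → g * d = d * g) := by
  classical
  haveI : Fact q.Prime := ⟨hq⟩
  obtain ⟨t, htdef⟩ : ∃ t : H, t = g ^ 2 ^ (n - 1) := ⟨_, rfl⟩
  rw [← htdef] at hDt ⊢
  have hhalf : 2 ^ (n - 1) * 2 = 2 ^ n := by rw [← pow_succ, Nat.sub_add_cancel hn]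
  have hgN : g ^ 2 ^ n = 1 := by
    apply hρ
    rw [map_pow, hg.1, map_one]
  have ht2 : t * t = 1 := by
    rw [htdef, ← pow_two, ← pow_mul, hhalf, hgN]
  have hgt : g * t = t * g := by
    rw [htdef, ← pow_succ', ← pow_succ]
  have hρt : ρ t = ρ g ^ 2 ^ (n - 1) := by rw [htdef, map_pow]
  have hZt : ∀ z ∈ D, (∀ c ∈ D, z * c = c * z) → t * z = z * t := by
    intro z hz hzc
    obtain ⟨c, hc⟩ := hZ z hz hzc
    apply hρ
    rw [map_mul, map_mul, hc, mul_smul_comm, mul_one, smul_mul_assoc, one_mul]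
  -- V is nontrivial
  haveI : Nontrivial V := by
    by_contra hcon
    rw [not_nontrivial_iff_subsingleton] at hcon
    obtain ⟨d, hd, hne⟩ := hDt
    apply hne
    apply hρ
    apply LinearMap.ext
    intro v
    exact Subsingleton.elim _ _
  -- n ≥ 2
  have hn2 : 2 ≤ n := by
    by_contra hlt
    have hn1 : n = 1 := by omega
    subst hn1
    have h1 := hg.2
    norm_num at h1
    have h2 : ρ g = 1 := sub_eq_zero.mp h1
    have h3 : g = 1 := hρ (by rw [h2, map_one])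
    obtain ⟨d, hd, hne⟩ := hDt
    apply hne
    rw [htdef, h3, one_pow, one_mul, mul_one]
  obtain ⟨D₀, D₁, hD₀D, hD₁D, hD₀def, hZD₁, hcomm01, hcen1, hfix1, hnorm1, hnt1, hcard⟩ :=
    Cfsg.Agent.Lib.Helper9.G2LE2h.exists_split H q hq hq2 D hDn hDq hcl t ht2 hZt
  obtain ⟨Z, hZdef⟩ : ∃ Z : Subgroup H, Z = (Subgroup.center D).map D.subtype := ⟨_, rfl⟩
  rw [← hZdef] at hZD₁ hcard hD₀def ⊢
  have hmemZ : ∀ z : H, z ∈ Z ↔ z ∈ D ∧ ∀ c ∈ D, z * c = c * z := by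
    intro z
    rw [hZdef]
    constructor
    · rintro ⟨z', hz', rfl⟩
      refine ⟨z'.2, ?_⟩
      intro c hc
      have h1 := Subgroup.mem_center_iff.mp hz' ⟨c, hc⟩
      have h2 := congrArg (fun x : D => (x : H)) h1
      exact h2.symm
    · rintro ⟨hzD, hzc⟩
      refine ⟨⟨z, hzD⟩, Subgroup.mem_center_iff.mpr ?_, rfl⟩
      intro c
      apply Subtype.ext
      exact (hzc c c.2).symm
  -- the representation of D₁
  set τ : Representation K D₁ V := ρ.comp D₁.subtype with hτdef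
  have hτapp : ∀ u : D₁, τ u = ρ (u : H) := fun u => rfl
  have hQ : IsPGroup q D₁ := hDq.to_le hD₁D
  have hcomm_of : ∀ u v : H, ρ u * ρ v = ρ v * ρ u → u * v = v * u := by
    intro u v h
    apply hρ
    rw [map_mul, map_mul, h]
  have hτ : Cl2 τ := by
    constructor
    · intro u v
      have huD : (u : H) ∈ D := hD₁D u.2
      have hvD : (v : H) ∈ D := hD₁D v.2
      have hcD : cm (u : H) (v : H) ∈ D := by
        unfold cm
        exact D.mul_mem (D.mul_mem (D.mul_mem (D.inv_mem huD) (D.inv_mem hvD)) huD) hvD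
      obtain ⟨c, hc⟩ := hZ _ hcD (fun c hcc => hcl _ huD _ hvD c hcc)
      refine ⟨c, ?_⟩
      rw [hτapp, hτapp, ← map_mul, ← map_mul]
      have h1 : (u : H) * (v : H) = (v : H) * (u : H) * cm (u : H) (v : H) := by
        unfold cm; group
      rw [h1, map_mul, hc, mul_smul_comm, mul_one]
    · intro u hu
      apply hZ _ (hD₁D u.2)
      apply hcen1 _ u.2
      intro c hc
      exact hcomm_of _ _ (hu ⟨c, hc⟩)
  -- the hypotheses of the linear core
  have hnorm : ∀ u : D₁, ∃ u' : D₁, ρ g * τ u = τ u' * ρ g := by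
    intro u
    refine ⟨⟨g * (u : H) * g⁻¹, hnorm1 g hgt _ u.2⟩, ?_⟩
    rw [hτapp, hτapp, ← map_mul, ← map_mul]
    congr 1
    show g * (u : H) = g * (u : H) * g⁻¹ * g
    group
  have hfpf : ∀ u : D₁, ρ g ^ 2 ^ (n - 1) * τ u = τ u * ρ g ^ 2 ^ (n - 1) → u ∈ zc τ := by
    intro u hu
    rw [← hρt, hτapp] at hu
    have h1 := hfix1 _ u.2 (hcomm_of _ _ hu)
    intro v
    rw [hτapp, hτapp, ← map_mul, ← map_mul, h1 _ (hD₁D v.2)]
  have hnt : ∃ u : D₁, ρ g ^ 2 ^ (n - 1) * τ u ≠ τ u * ρ g ^ 2 ^ (n - 1) := by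
    obtain ⟨b, hb, hne⟩ := hnt1 hDt
    refine ⟨⟨b, hb⟩, ?_⟩
    rw [← hρt, hτapp]
    intro h
    exact hne (hcomm_of _ _ h)
  obtain ⟨hspan, hcardQ⟩ := exc_core hτ q hq2 hQ (ρ g) n hn hg hnorm hfpf hnt
  -- centralising consequences
  have hcent : ∀ h : H, (∀ b ∈ D₁, h * b = b * h) → g * h = h * g := by
    intro h hh
    apply hρ
    rw [map_mul, map_mul]
    have h1 : ∀ u : D₁, ρ h * τ u = τ u * ρ h := by
      intro u
      rw [hτapp, ← map_mul, ← map_mul, hh _ u.2]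
    exact (comm_span τ h1 hspan).symm
  -- the cardinalities
  have hzc_card : Nat.card (zc τ) = Nat.card Z := by
    have h1 : (zc τ).map D₁.subtype = Z := by
      ext z
      rw [hmemZ]
      constructor
      · rintro ⟨u, hu, rfl⟩
        refine ⟨hD₁D u.2, hcen1 _ u.2 ?_⟩
        intro c hc
        exact hcomm_of _ _ (hu ⟨c, hc⟩)
      · rintro ⟨hzD, hzc⟩
        have hz1 : z ∈ D₁ := hZD₁ ((hmemZ z).mpr ⟨hzD, hzc⟩)
        refine ⟨⟨z, hz1⟩, ?_, rfl⟩
        intro v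
        rw [hτapp, hτapp, ← map_mul, ← map_mul, hzc _ (hD₁D v.2)]
    rw [← h1]
    exact (Subgroup.card_map_of_injective D₁.subtype_injective).symm
  have hD₁card : Nat.card D₁ = (2 ^ n - 1) ^ 2 * Nat.card Z := by
    rw [Subgroup.card_eq_card_quotient_mul_card_subgroup (zc τ), hcardQ, hzc_card]
  have hZpos : 0 < Nat.card Z := Nat.card_pos
  have hDcard : Nat.card D = Nat.card D₀ * (2 ^ n - 1) ^ 2 := by
    rw [hD₁card] at hcard
    have h1 : Nat.card D * Nat.card Z = Nat.card D₀ * (2 ^ n - 1) ^ 2 * Nat.card Z := by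
      rw [hcard]; ring
    exact Nat.eq_of_mul_eq_mul_right hZpos h1
  have hrel : D₀.relIndex D = (2 ^ n - 1) ^ 2 := by
    have h1 := Subgroup.relIndex_mul_relIndex ⊥ D₀ D bot_le hD₀D
    rw [Subgroup.relIndex_bot_left, Subgroup.relIndex_bot_left, hDcard] at h1
    exact Nat.eq_of_mul_eq_mul_left Nat.card_pos h1
  -- the Mersenne prime
  have hqeq : q = 2 ^ n - 1 := by
    obtain ⟨k, hk⟩ := IsPGroup.iff_card.mp hQ
    have hdvd : (2 ^ n - 1) ^ 2 ∣ q ^ k := by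
      rw [← hk, hD₁card]
      exact dvd_mul_right _ _
    obtain ⟨m, -, hm⟩ := (Nat.dvd_prime_pow hq).mp hdvd
    exact Cfsg.Agent.Lib.Helper7.G2LNT.mersenne_of_sq hq hq2 hn2 hm.symm
  refine ⟨hqeq, ?_, ?_, ?_⟩
  · rw [← hD₀def, hrel, ← hqeq]
  · intro h hh
    exact hcent h (fun b hb => hh b (hD₁D hb))
  · intro d hd hdt
    apply hcent
    intro b hb
    apply hcomm01 _ _ _ hb
    rw [hD₀def]
    apply Subgroup.mem_sup_left
    refine Subgroup.mem_inf.mpr ⟨hd, Subgroup.mem_centralizer_iff.mpr ?_⟩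
    intro x hx
    rw [Set.mem_singleton_iff] at hx
    rw [hx]
    exact hdt

end PC

end Cfsg.Agent.Lib.Helper2.G2L
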