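import Mathlib
import Cfsg.Agent.Lib.Helper2.G2LE2f
import Cfsg.Agent.Lib.Lead.G2LA
import Cfsg.Agent.Lib.Helper4.G2LFS
import Cfsg.Agent.Lib.Helper1.G2LE1
import Cfsg.Agent.Lib.Helper6.G2LE3

set_option autoImplicit false

/-! # S3801, package E4 : the primitive case (glue of E1, E2, E3, Lemma S, A6, A7) -/

namespace Cfsg.Agent.Lib.Helper2.G2L

open Cfsg Cfsg.Agent.Lib.Lead.G2LA

universe u v

/-- iterated conjugation by `b` when the correction `z` is fixed by `b` -/
theorem conj_pow_of_central_step {H : Type*} [Group H] (b d z : H) (h1 : b * d * b⁻¹ = d * z)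
    (h2 : b * z = z * b) (j : ℕ) : b ^ j * d * (b ^ j)⁻¹ = d * z ^ j := by
  induction j with
  | zero => simp
  | succ j ih =>
    have hz : b * z ^ j * b⁻¹ = z ^ j := by
      have h3 : Commute b (z ^ j) := (show Commute b z from h2).pow_right j
      rw [h3.eq, mul_inv_cancel_right]
    calc b ^ (j + 1) * d * (b ^ (j + 1))⁻¹ = b * (b ^ j * d * (b ^ j)⁻¹) * b⁻¹ := by
          rw [pow_succ', mul_inv_rev]; group
      _ = b * (d * z ^ j) * b⁻¹ := by rw [ih]
      _ = (b * d * b⁻¹) * (b * z ^ j * b⁻¹) := by group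
      _ = d * z * z ^ j := by rw [h1, hz]
      _ = d * z ^ (j + 1) := by rw [pow_succ', mul_assoc]

/-- a `2`-element centralising `D / Z(D)` and `Z(D)` centralises the `q`-group `D` (`q` odd) -/
theorem comm_of_stable {H : Type*} [Group H] (q : ℕ) (hq : q.Prime) (hq2 : q ≠ 2)
    (D : Subgroup H) (hDq : IsPGroup q D) (b : H) (k : ℕ) (hbk : b ^ 2 ^ k = 1)
    (hbD : ∀ d ∈ D, ∃ z ∈ D, b * z = z * b ∧ b * d * b⁻¹ = d * z) :
    ∀ d ∈ D, b * d = d * b := by
  intro d hd
  obtain ⟨z, hz, hzb, hbd⟩ := hbD d hd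
  have h1 := conj_pow_of_central_step b d z hbd hzb (2 ^ k)
  rw [hbk, one_mul, inv_one, mul_one] at h1
  have hz1 : z ^ 2 ^ k = 1 := by
    have h2 : d * 1 = d * z ^ 2 ^ k := by rw [mul_one]; exact h1
    exact (mul_left_cancel h2).symm
  obtain ⟨r, hr⟩ := hDq ⟨z, hz⟩
  have hr' : z ^ q ^ r = 1 := by
    have h2 := congrArg Subtype.val hr
    simpa using h2
  have hcop : Nat.Coprime (2 ^ k) (q ^ r) :=
    Nat.Coprime.pow _ _ ((Nat.coprime_primes Nat.prime_two hq).mpr (Ne.symm hq2))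
  have ho1 : orderOf z = 1 := Nat.eq_one_of_dvd_coprimes hcop
    (orderOf_dvd_of_pow_eq_one hz1) (orderOf_dvd_of_pow_eq_one hr')
  have hz1' : z = 1 := orderOf_eq_one_iff.mp ho1
  rw [hz1', mul_one] at hbd
  calc b * d = b * d * b⁻¹ * b := by group
    _ = d * b := by rw [hbd]

/-- a scalar of `2`-power order in characteristic `2` is trivial -/
theorem eq_one_of_scalar_two {K : Type*} [Field K] [CharP K 2] {V : Type*} [AddCommGroup V]
    [Module K V] (X : Module.End K V) (c : K) (hc : X = c • (1 : Module.End K V)) (k : ℕ)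
    (hX : X ^ 2 ^ k = 1) : X = 1 := by
  have h1 : (c ^ 2 ^ k - 1) • (1 : Module.End K V) = 0 := by
    rw [hc, smul_pow, one_pow] at hX
    rw [sub_smul, hX, one_smul, sub_self]
  have h4 : c ^ 2 ^ k - 1 = (c - 1) ^ 2 ^ k := by
    haveI : Fact (Nat.Prime 2) := ⟨Nat.prime_two⟩
    rw [sub_pow_char_pow, one_pow]
  rw [h4] at h1
  rcases smul_eq_zero.mp h1 with h5 | h5
  · have hc1 : c = 1 := sub_eq_zero.mp ((pow_eq_zero_iff (by positivity)).mp h5)
    rw [hc, hc1, one_smul]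
  · calc X = X * 1 := (mul_one _).symm
      _ = X * 0 := by rw [h5]
      _ = 0 := mul_zero _
      _ = 1 := h5.symm

section aux

variable {K : Type*} [Field K] [CharP K 2] {H : Type u} [Group H] [Finite H] {V : Type v}
  [AddCommGroup V] [Module K V]
  {K' : Type*} [Field K'] [IsAlgClosed K'] {U' : Type u} [AddCommGroup U'] [Module K' U']
  [FiniteDimensional K' U']

/-- the pull-back step of the primitive case -/
theorem step_primitive_aux (ρ : Representation K H V) (hρ : Function.Injective ρ)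
    (hH : Group.IsSolvable H)
    (hsc : ∀ A : Subgroup H, A.Normal → (∀ a ∈ A, ∀ b ∈ A, a * b = b * a) →
      ∀ a ∈ A, ∃ c : K, ρ a = c • (1 : Module.End K V))
    (g : H) (m : ℕ) (hm : 1 ≤ m)
    (q : ℕ) (hq : q.Prime) (hq2 : q ≠ 2) (D : Subgroup H) (hDn : D.Normal) (hDq : IsPGroup q D)
    (hZc : ∀ z ∈ D, (∀ c ∈ D, z * c = c * z) → ∀ x : H, z * x = x * z)
    (hcC : ∀ h : H, (∀ d ∈ D, h * d = d * h) → g * h = h * g)
    (σ : Representation K' H U') (h2K' : (2 : K') ≠ 0)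
    (hker : ∀ h : H, σ h = 1 ↔
      ∀ d ∈ D, ∃ z ∈ D, (∀ c ∈ D, z * c = c * z) ∧ h * d * h⁻¹ = d * z)
    (hplane : PlaneType (σ g) (2 ^ m)) :
    g ^ 2 ^ m ∈ pPrimePCore 2 H := by
  classical
  haveI := hDn
  haveI := hH
  set σ' : Representation K' (H ⧸ MonoidHom.ker σ) U' :=
    QuotientGroup.lift (MonoidHom.ker σ) σ (fun _ h => MonoidHom.mem_ker.mp h) with hσ'def
  have hσ'mk : ∀ h : H, σ' (QuotientGroup.mk h : H ⧸ MonoidHom.ker σ) = σ h := fun h => rfl
  have hσ' : Function.Injective σ' := by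
    intro a b hab
    induction a using QuotientGroup.induction_on with
    | H a =>
      induction b using QuotientGroup.induction_on with
      | H b =>
        rw [hσ'mk, hσ'mk] at hab
        rw [QuotientGroup.eq, MonoidHom.mem_ker, map_mul, ← hab, ← map_mul, inv_mul_cancel,
          map_one]
  have hsolv : Group.IsSolvable (H ⧸ MonoidHom.ker σ) := inferInstance
  have hpl : PlaneType (σ' (QuotientGroup.mk g : H ⧸ MonoidHom.ker σ)) (2 ^ m) := by
    rw [hσ'mk]; exact hplane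
  have hS := Cfsg.Agent.Lib.Helper4.G2LFS.lemmaS h2K' (H ⧸ MonoidHom.ker σ) U' σ' hσ'
    hsolv (QuotientGroup.mk g) m hm hpl
  set π : H →* H ⧸ MonoidHom.ker σ := QuotientGroup.mk' (MonoidHom.ker σ) with hπ
  have hπt : π (g ^ 2 ^ m) ∈ pPrimePCore 2 (H ⧸ MonoidHom.ker σ) := by
    rw [map_pow]
    exact hS
  -- the subgroups
  set CD : Subgroup H := Subgroup.centralizer (D : Set H) with hCD
  haveI hCDn : CD.Normal := Subgroup.normal_centralizer
  set CC : Subgroup H := Subgroup.centralizer (CD : Set H) with hCC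
  haveI hCCn : CC.Normal := Subgroup.normal_centralizer
  haveI hPPn : (pPrimePCore 2 (H ⧸ MonoidHom.ker σ)).Normal := by
    unfold pPrimePCore
    exact Subgroup.Normal.comap inferInstance _
  have hle : pPrimeCore 2 (H ⧸ MonoidHom.ker σ) ≤ pPrimePCore 2 (H ⧸ MonoidHom.ker σ) := by
    intro x hx
    show QuotientGroup.mk' (pPrimeCore 2 (H ⧸ MonoidHom.ker σ)) x ∈ pCore 2 _
    have h1 : QuotientGroup.mk' (pPrimeCore 2 (H ⧸ MonoidHom.ker σ)) x = 1 :=
      (QuotientGroup.eq_one_iff x).2 hx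
    rw [h1]
    exact one_mem _
  have hXn : ((pPrimePCore 2 (H ⧸ MonoidHom.ker σ)).comap π ⊓ CC).Normal := inferInstance
  have hBn : ((pPrimeCore 2 (H ⧸ MonoidHom.ker σ)).comap π ⊓ CC).Normal := inferInstance
  have htX : g ^ 2 ^ m ∈ (pPrimePCore 2 (H ⧸ MonoidHom.ker σ)).comap π ⊓ CC := by
    refine Subgroup.mem_inf.mpr ⟨hπt, ?_⟩
    rw [hCC, Subgroup.mem_centralizer_iff]
    intro h hh
    have h1 : g * h = h * g :=
      hcC h (fun d hd => (Subgroup.mem_centralizer_iff.mp hh d hd).symm)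
    have h2 : Commute g h := h1
    exact (h2.pow_left _).eq.symm
  refine le_pPrimePCore_of_series _ _ hBn hXn (inf_le_inf_right _ (Subgroup.comap_mono hle)) ?_ ?_
    htX
  · -- `2`-elements of `B` are trivial
    rintro b hb ⟨k, hk⟩
    have hb1 : π b ∈ pPrimeCore 2 (H ⧸ MonoidHom.ker σ) := (Subgroup.mem_inf.mp hb).1
    have hb2 : b ∈ CC := (Subgroup.mem_inf.mp hb).2
    have hπb : π b = 1 := by
      apply (pPrimePCore_series (H := H ⧸ MonoidHom.ker σ)).2 (π b) hb1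
      exact two_pow_of_dvd (hk ▸ orderOf_map_dvd π b)
    have hbN : b ∈ MonoidHom.ker σ := (QuotientGroup.eq_one_iff b).mp hπb
    have hσb : σ b = 1 := MonoidHom.mem_ker.mp hbN
    have hbD := (hker b).mp hσb
    have hbk : b ^ 2 ^ k = 1 := by rw [← hk]; exact pow_orderOf_eq_one b
    have hbcD : ∀ d ∈ D, b * d = d * b := by
      apply comm_of_stable q hq hq2 D hDq b k hbk
      intro d hd
      obtain ⟨z, hz, hzc, hbd⟩ := hbD d hd
      exact ⟨z, hz, (hZc z hz hzc b).symm, hbd⟩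
    have hbCD : b ∈ CD := by
      rw [hCD, Subgroup.mem_centralizer_iff]
      intro d hd
      exact (hbcD d hd).symm
    have hAn : (CD ⊓ CC).Normal := inferInstance
    obtain ⟨c, hc⟩ := hsc (CD ⊓ CC) hAn
      (fun a ha b' hb' => Subgroup.mem_centralizer_iff.mp (Subgroup.mem_inf.mp hb').2 a
        (Subgroup.mem_inf.mp ha).1) b (Subgroup.mem_inf.mpr ⟨hbCD, hb2⟩)
    apply hρ
    rw [map_one]
    exact eq_one_of_scalar_two (ρ b) c hc k (by rw [← map_pow, hbk, map_one])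
  · -- odd elements of `X` lie in `B`
    intro y hy ho
    refine Subgroup.mem_inf.mpr ⟨?_, (Subgroup.mem_inf.mp hy).2⟩
    show π y ∈ pPrimeCore 2 (H ⧸ MonoidHom.ker σ)
    exact (pPrimePCore_series (H := H ⧸ MonoidHom.ker σ)).1 (π y) (Subgroup.mem_inf.mp hy).1
      (Odd.of_dvd_nat ho (orderOf_map_dvd π y))

end aux

/-- E : the primitive case -/
theorem step_primitive (K : Type*) [Field K] [CharP K 2] [IsAlgClosed K]
    (H : Type u) [Group H] [Finite H] (V : Type v) [AddCommGroup V] [Module K V]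
    [FiniteDimensional K V] (ρ : Representation K H V) (hρ : Function.Injective ρ)
    (hH : Group.IsSolvable H) (hO2 : pCore 2 H = ⊥)
    (hsc : ∀ A : Subgroup H, A.Normal → (∀ a ∈ A, ∀ b ∈ A, a * b = b * a) →
      ∀ a ∈ A, ∃ c : K, ρ a = c • (1 : Module.End K V))
    (g : H) (n : ℕ) (hn : 1 ≤ n) (hg : Exc (ρ g) n) :
    g ^ 2 ^ (n - 1) ∈ pPrimePCore 2 H := by
  classical
  have hgn : g ^ 2 ^ n = 1 := by
    apply hρ
    rw [map_pow, map_one]
    exact hg.1
  have ht2 : (g ^ 2 ^ (n - 1)) ^ 2 = 1 := by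
    rw [← pow_mul, ← pow_succ, Nat.sub_add_cancel hn]; exact hgn
  by_cases ht1 : g ^ 2 ^ (n - 1) = 1
  · rw [ht1]; exact one_mem _
  obtain ⟨q, D, hq, hq2, hDn, hDq, hDt, hcl, hex⟩ :=
    Cfsg.Agent.Lib.Helper1.G2LE1.exists_minimal_D H hH hO2 (g ^ 2 ^ (n - 1)) ht2 ht1
  haveI := hDn
  -- the centre of `D` acts by scalars, hence is central in `H`
  have hZ : ∀ z ∈ D, (∀ c ∈ D, z * c = c * z) → ∃ c : K, ρ z = c • (1 : Module.End K V) := by
    intro z hz hzc
    have hAn : (D ⊓ Subgroup.centralizer (D : Set H)).Normal := inferInstance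
    refine hsc (D ⊓ Subgroup.centralizer (D : Set H)) hAn ?_ z (Subgroup.mem_inf.mpr ⟨hz, ?_⟩)
    · intro a ha b hb
      exact Subgroup.mem_centralizer_iff.mp (Subgroup.mem_inf.mp hb).2 a (Subgroup.mem_inf.mp ha).1
    · rw [Subgroup.mem_centralizer_iff]
      intro c hc
      exact (hzc c hc).symm
  have hZc : ∀ z ∈ D, (∀ c ∈ D, z * c = c * z) → ∀ x : H, z * x = x * z := by
    intro z hz hzc x
    obtain ⟨c, hc⟩ := hZ z hz hzc
    apply hρ
    rw [map_mul, map_mul, hc, smul_mul_assoc, one_mul, mul_smul_comm, mul_one]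
  obtain ⟨hqn, hidx, hcC, hcD⟩ :=
    primitive_core K H V ρ hρ g n hn hg q hq hq2 D hDn hDq hDt hcl hex hZ
  have hn2 : 2 ≤ n := by
    by_contra hcon
    have h1 : n = 1 := by omega
    rw [h1] at hqn
    norm_num at hqn
    exact hq.ne_one hqn
  obtain ⟨K', iF, iAC, U', iA, iM, iFD, σ, h2K', hker, hplane⟩ :=
    Cfsg.Agent.Lib.Helper6.G2LE3.exists_plane_rep H q hq hq2 D hDn hDq hcl hex g (2 ^ (n - 1)) Nat.one_le_two_pow
      ht2 hidx hcD
  exact step_primitive_aux ρ hρ hH hsc g (n - 1) (by omega) q hq hq2 D hDn hDq hZc hcC σ h2K'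
    hker hplane

end Cfsg.Agent.Lib.Helper2.G2L
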