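import Mathlib
import Cfsg.Agent.Lib.Helper2.G2LE4
import Cfsg.Agent.Lib.Lead.G2LA
import Cfsg.Agent.Lib.Lead.G2LB1
import Cfsg.Agent.Lib.Lead.G2LD1
import Cfsg.Agent.Lib.Helper9.G2LD2w
import Cfsg.Agent.Lib.Helper8.G2LGT

set_option autoImplicit false

/-! # S3801 : Theorem R (the induction on the dimension) and Theorem GT -/

namespace Cfsg.Agent.Lib.Helper2.G2L

open Cfsg Cfsg.Agent.Lib.Lead.G2LA

universe u v w

theorem lowSub_congr {H : Type u} [Group H] (N N' : Subgroup H) [hN : N.Normal] [hN' : N'.Normal]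
    (h : N = N') : lowSub N = lowSub N' := by
  subst h; rfl

/-- with `O_2(H) = 1`, an abelian normal subgroup has odd order -/
theorem odd_card_of_abelian_normal {H : Type u} [Group H] [Finite H] (hO2 : pCore 2 H = ⊥)
    (A : Subgroup H) (hA : A.Normal) (hAc : ∀ a ∈ A, ∀ b ∈ A, a * b = b * a) :
    Odd (Nat.card A) := by
  classical
  let A₂ : Subgroup H :=
    { carrier := {a | a ∈ A ∧ ∃ k : ℕ, a ^ 2 ^ k = 1}
      one_mem' := ⟨A.one_mem, 0, by simp⟩
      mul_mem' := by
        rintro a b ⟨ha, k, hk⟩ ⟨hb, l, hl⟩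
        refine ⟨A.mul_mem ha hb, k + l, ?_⟩
        have hc : Commute a b := hAc a ha b hb
        rw [hc.mul_pow, pow_add, pow_mul, hk, one_pow, one_mul, mul_comm (2 ^ k) (2 ^ l), pow_mul,
          hl, one_pow]
      inv_mem' := by
        rintro a ⟨ha, k, hk⟩
        exact ⟨A.inv_mem ha, k, by rw [inv_pow, hk, inv_one]⟩ }
  have hA₂n : A₂.Normal := ⟨by
    rintro a ⟨ha, k, hk⟩ x
    refine ⟨hA.conj_mem a ha x, k, ?_⟩
    rw [conj_pow, hk, mul_one, mul_inv_cancel]⟩
  have hA₂p : IsPGroup 2 A₂ := by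
    rintro ⟨a, ha, k, hk⟩
    exact ⟨k, Subtype.ext hk⟩
  have hle : A₂ ≤ pCore 2 H := Cfsg.Agent.Lib.Helper6.le_pCore hA₂n hA₂p
  rw [hO2] at hle
  by_contra hodd
  rw [Nat.not_odd_iff_even, even_iff_two_dvd] at hodd
  haveI : Fact (Nat.Prime 2) := ⟨Nat.prime_two⟩
  obtain ⟨a, ha⟩ := exists_prime_orderOf_dvd_card' 2 hodd
  have ha2 : (a : H) ∈ A₂ := by
    refine ⟨a.2, 1, ?_⟩
    have h1 : a ^ 2 = 1 := by rw [← ha]; exact pow_orderOf_eq_one a
    have h2 := congrArg Subtype.val h1
    simpa using h2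
  have ha1 : (a : H) = 1 := Subgroup.mem_bot.mp (hle ha2)
  have h3 : a = 1 := Subtype.ext ha1
  rw [h3, orderOf_one] at ha
  omega

section R

variable (K : Type*) [Field K] [IsAlgClosed K] [CharP K 2]

/-- the induction step for a faithful representation -/
theorem thmR_faithful (d : ℕ) (ih : ∀ d' < d, RStmt.{u, v} K d')
    (H : Type u) [Group H] [Finite H] (V : Type v) [AddCommGroup V] [Module K V]
    [FiniteDimensional K V] (ρ : Representation K H V) (hρ : Function.Injective ρ)
    (hd : Module.finrank K V = d) (hH : Group.IsSolvable H)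
    (g : H) (n : ℕ) (hn : 1 ≤ n) (hg : Exc (ρ g) n) :
    g ^ 2 ^ (n - 1) ∈ lowSub (MonoidHom.ker ρ) := by
  classical
  by_cases hO2 : pCore 2 H = ⊥
  · by_cases hsc : ∀ A : Subgroup H, A.Normal → (∀ a ∈ A, ∀ b ∈ A, a * b = b * a) →
        ∀ a ∈ A, ∃ c : K, ρ a = c • (1 : Module.End K V)
    · have h1 := step_primitive K H V ρ hρ hH hO2 hsc g n hn hg
      have h2 := pPrimePCore_le_lowSub_bot h1
      have hker : MonoidHom.ker ρ = ⊥ := (MonoidHom.ker_eq_bot_iff ρ).mpr hρ
      rw [lowSub_congr (MonoidHom.ker ρ) ⊥ hker]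
      exact h2
    · push Not at hsc
      obtain ⟨A, hA, hAc, a, ha, hns⟩ := hsc
      refine Cfsg.Agent.Lib.Helper9.G2LD2w.step_weights K d ih H V ρ hd hH A hA hAc
        (odd_card_of_abelian_normal hO2 A hA hAc) ?_ g n hn hg
      intro hall
      obtain ⟨c, hc⟩ := hall a ha
      exact hns c hc
  · -- `O_2(H) ≠ 1` : the fixed space of `O_2(H)` is a proper nonzero invariant subspace
    have hPn : (pCore 2 H).Normal := inferInstance
    haveI : Nontrivial V := by
      by_contra hcon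
      rw [not_nontrivial_iff_subsingleton] at hcon
      apply hO2
      rw [eq_bot_iff]
      intro x _
      rw [Subgroup.mem_bot]
      apply hρ
      apply LinearMap.ext
      intro v
      exact Subsingleton.elim _ _
    let W : Submodule K V :=
      { carrier := {v | ∀ h ∈ pCore 2 H, ρ h v = v}
        add_mem' := fun {a b} ha hb h hh => by rw [map_add, ha h hh, hb h hh]
        zero_mem' := fun h _ => map_zero _
        smul_mem' := fun c v hv h hh => by rw [map_smul, hv h hh] }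
    have hWmem : ∀ v : V, v ∈ W ↔ ∀ h ∈ pCore 2 H, ρ h v = v := fun v => Iff.rfl
    have hW : ∀ h : H, ∀ w ∈ W, ρ h w ∈ W := by
      intro h w hw
      rw [hWmem]
      intro x hx
      have h1 : h⁻¹ * x * h ∈ pCore 2 H := by
        have h2 := hPn.conj_mem x hx h⁻¹
        simpa using h2
      have h2 := (hWmem w).mp hw _ h1
      calc ρ x (ρ h w) = (ρ x * ρ h) w := rfl
        _ = ρ (h * (h⁻¹ * x * h)) w := by rw [← map_mul]; congr 2; group
        _ = ρ h (ρ (h⁻¹ * x * h) w) := by rw [map_mul]; rfl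
        _ = ρ h w := by rw [h2]
    have hW0 : W ≠ ⊥ := by
      obtain ⟨v, hv0, hv⟩ := Cfsg.Agent.Lib.Lead.G2LB1.exists_fixed_of_two_group
        (ρ.comp (pCore 2 H).subtype) (Cfsg.Agent.Lib.Helper6.pCore_isPGroup 2)
      intro hbot
      apply hv0
      have h1 : v ∈ W := (hWmem v).mpr (fun h hh => hv ⟨h, hh⟩)
      rw [hbot] at h1
      exact (Submodule.mem_bot K).mp h1
    have hW1 : W ≠ ⊤ := by
      intro htop
      apply hO2
      rw [eq_bot_iff]
      intro x hx
      rw [Subgroup.mem_bot]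
      apply hρ
      rw [map_one]
      apply LinearMap.ext
      intro v
      have h1 : v ∈ W := by rw [htop]; trivial
      exact (hWmem v).mp h1 x hx
    exact Cfsg.Agent.Lib.Lead.G2LD1.step_reducible K d ih H V ρ hd hH W hW hW0 hW1 g n hn hg

/-- the main induction -/
theorem thmR (d : ℕ) : RStmt.{u, v} K d := by
  induction d using Nat.strong_induction_on with
  | _ d ih =>
    intro H _ _ V _ _ _ ρ hd hH g n hn hg
    set ρ' : Representation K (H ⧸ MonoidHom.ker ρ) V :=
      QuotientGroup.lift (MonoidHom.ker ρ) ρ (fun _ h => MonoidHom.mem_ker.mp h) with hρ'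
    have hρ'mk : ∀ h : H, ρ' (QuotientGroup.mk h : H ⧸ MonoidHom.ker ρ) = ρ h := fun h => rfl
    have hρ'inj : Function.Injective ρ' := by
      intro a b hab
      induction a using QuotientGroup.induction_on with
      | H a =>
        induction b using QuotientGroup.induction_on with
        | H b =>
          rw [hρ'mk, hρ'mk] at hab
          rw [QuotientGroup.eq, MonoidHom.mem_ker, map_mul, ← hab, ← map_mul, inv_mul_cancel,
            map_one]
    haveI := hH
    have hsolv : Group.IsSolvable (H ⧸ MonoidHom.ker ρ) := inferInstance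
    have hg' : Exc (ρ' (QuotientGroup.mk g : H ⧸ MonoidHom.ker ρ)) n := by
      rw [hρ'mk]; exact hg
    have h1 := thmR_faithful K d ih (H ⧸ MonoidHom.ker ρ) V ρ' hρ'inj hd hsolv
      (QuotientGroup.mk g) n hn hg'
    have hker : MonoidHom.ker ρ' = ⊥ := (MonoidHom.ker_eq_bot_iff ρ').mpr hρ'inj
    rw [lowSub_congr (MonoidHom.ker ρ') ⊥ hker] at h1
    have h2 : lowSub ((⊥ : Subgroup (H ⧸ MonoidHom.ker ρ)).comap
          (QuotientGroup.mk' (MonoidHom.ker ρ))) =
        (lowSub (⊥ : Subgroup (H ⧸ MonoidHom.ker ρ))).comap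
          (QuotientGroup.mk' (MonoidHom.ker ρ)) :=
      lowSub_comap_of_surjective (QuotientGroup.mk' (MonoidHom.ker ρ))
        (QuotientGroup.mk'_surjective (MonoidHom.ker ρ)) ⊥
    have h3 : (⊥ : Subgroup (H ⧸ MonoidHom.ker ρ)).comap (QuotientGroup.mk' (MonoidHom.ker ρ)) =
        MonoidHom.ker ρ := by
      rw [MonoidHom.comap_bot, QuotientGroup.ker_mk']
    rw [lowSub_congr (MonoidHom.ker ρ) _ h3.symm, h2, Subgroup.mem_comap, map_pow]
    exact h1

end R

/-- GT : any field of characteristic `2` -/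
theorem thmGT {F : Type w} [Field F] [CharP F 2] (H : Type u) [Group H] [Finite H] (V : Type v)
    [AddCommGroup V] [Module F V] [FiniteDimensional F V] (ρ : Representation F H V)
    (hρ : Function.Injective ρ) (hH : Group.IsSolvable H) (hO2 : pCore 2 H = ⊥)
    (g : H) (n : ℕ) (hn : 1 ≤ n) (hg : Exc (ρ g) n) : g ^ 2 ^ (n - 1) ∈ pPrimePCore 2 H := by
  haveI : CharP (AlgebraicClosure F) 2 :=
    charP_of_injective_algebraMap (algebraMap F (AlgebraicClosure F)).injective 2
  exact Cfsg.Agent.Lib.Helper8.G2LGT.thmGT_of (fun d => thmR (AlgebraicClosure F) d) H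
    (fun h => lowSub_bot_le_pPrimePCore h) V ρ hρ hH hO2 g n hn hg

end Cfsg.Agent.Lib.Helper2.G2L
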