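import Mathlib

set_option autoImplicit false

/-!
# PK-PRIM of the `S4632` swarm: 2-primary parts (generic)
-/

namespace Cfsg.Agent.Lib.Helper6.G2O

/-- In a finite group the elements of 2-power order of a subgroup `K`, if they form a subgroup
`H`, form one of order `2 ^ v₂|K|`. -/
theorem card_two_primary {G : Type*} [Group G] [Finite G] (K H : Subgroup G)
    (hK : ∀ a ∈ K, ∀ b ∈ K, a * b = b * a) (hH : ∀ g, g ∈ H ↔ g ∈ K ∧ ∃ k : ℕ, g ^ (2 ^ k) = 1) :
    Nat.card H = 2 ^ padicValNat 2 (Nat.card K) := by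
  have : Fact (Nat.Prime 2) := ⟨Nat.prime_two⟩
  have _hK := hK
  have hHK : H ≤ K := fun g hg => ((hH g).1 hg).1
  -- `H` as a subgroup of `K` is a 2-group
  have hp : IsPGroup 2 (H.subgroupOf K) := by
    intro g
    obtain ⟨k, hk⟩ := ((hH (g : K)).1 g.2).2
    refine ⟨k, ?_⟩
    apply Subtype.ext
    apply Subtype.ext
    rw [Subgroup.coe_pow, Subgroup.coe_pow]
    exact hk
  obtain ⟨P, hP⟩ := hp.exists_le_sylow
  have hPle : (P : Subgroup K) ≤ H.subgroupOf K := by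
    intro g hg
    rw [Subgroup.mem_subgroupOf, hH]
    refine ⟨g.2, ?_⟩
    obtain ⟨k, hk⟩ := P.isPGroup' ⟨g, hg⟩
    refine ⟨k, ?_⟩
    have h1 : ((⟨g, hg⟩ : (P : Subgroup K)) ^ 2 ^ k : (P : Subgroup K)) = 1 := hk
    have h2 := congrArg (fun x : (P : Subgroup K) => ((x : K) : G)) h1
    simpa using h2
  have heq : H.subgroupOf K = (P : Subgroup K) := le_antisymm hP hPle
  have hcard : Nat.card H = Nat.card (H.subgroupOf K) :=
    Nat.card_congr (Subgroup.subgroupOfEquivOfLe hHK).symm.toEquiv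
  rw [hcard, heq, Sylow.card_eq_multiplicity, Nat.factorization_def _ Nat.prime_two]

/-- preimages of 2-elements can be chosen to be 2-elements -/
theorem exists_two_primary_preimage {A B : Type*} [Group A] [Group B] [Finite A] (f : A →* B) (a : A)
    (hb : ∃ j : ℕ, (f a) ^ (2 ^ j) = 1) :
    ∃ a' : A, (∃ k : ℕ, a' ^ (2 ^ k) = 1) ∧ f a' = f a ∧ a' ∈ Subgroup.zpowers a := by
  obtain ⟨j, hj⟩ := hb
  have hj' : (f a) ^ (2 ^ (j + 1)) = 1 := by
    rw [pow_succ, pow_mul, hj, one_pow]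
  have hn0 : orderOf a ≠ 0 := (orderOf_pos a).ne'
  obtain ⟨k, m, hm, hkm⟩ := Nat.exists_eq_two_pow_mul_odd hn0
  have hcop : Nat.Coprime m (2 ^ (j + 1)) :=
    Nat.Coprime.pow_right _ (Nat.coprime_two_right.2 hm)
  have h1lt : 1 < 2 ^ (j + 1) := Nat.one_lt_two_pow (Nat.succ_ne_zero j)
  obtain ⟨m', -, hm'⟩ := Nat.exists_mul_mod_eq_one_of_coprime hcop h1lt
  refine ⟨a ^ (m * m'), ⟨k, ?_⟩, ?_, ?_⟩
  · rw [← pow_mul]
    have : m * m' * 2 ^ k = orderOf a * m' := by rw [hkm]; ring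
    rw [this, pow_mul, pow_orderOf_eq_one, one_pow]
  · rw [map_pow, pow_eq_pow_mod _ hj', hm', pow_one]
  · exact Subgroup.npow_mem_zpowers a _

end Cfsg.Agent.Lib.Helper6.G2O
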