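import Mathlib
import Cfsg.Agent.Lib.Helper6.G2O_Defs2
import Cfsg.Agent.Lib.Helper7.OrdTwoAdic

set_option autoImplicit false

/-!
# PK-TCARD of the `S4632` swarm: the order of `Tplus F` and its 2-adic valuation
-/

open Matrix

namespace Cfsg.Agent.Lib.Helper6.G2O

variable {F : Type*} [Field F]

/-- `Tplus F` is in bijection with the pairs `(x, y)` with `x² + y² ≠ 0` -/
noncomputable def tplusEquiv : Tplus F ≃ {p : F × F // p.1 ^ 2 + p.2 ^ 2 ≠ 0} where
  toFun g := ⟨((g : GL (Fin 2) F).1 0 0, (g : GL (Fin 2) F).1 1 0), by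
    obtain ⟨x, y, hg⟩ := g.2
    have h00 : (g : GL (Fin 2) F).1 0 0 = x := by
      have := congrFun (congrFun hg 0) 0
      simpa [cplx] using this
    have h10 : (g : GL (Fin 2) F).1 1 0 = y := by
      have := congrFun (congrFun hg 1) 0
      simpa [cplx] using this
    show (g : GL (Fin 2) F).1 0 0 ^ 2 + (g : GL (Fin 2) F).1 1 0 ^ 2 ≠ 0
    rw [h00, h10, ← det_cplx, ← hg]
    exact (Matrix.GeneralLinearGroup.det (g : GL (Fin 2) F)).ne_zero⟩
  invFun p := ⟨Matrix.GeneralLinearGroup.mkOfDetNeZero (cplx p.1.1 p.1.2)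
    (by rw [det_cplx]; exact p.2), ⟨p.1.1, p.1.2, rfl⟩⟩
  left_inv g := by
    obtain ⟨x, y, hg⟩ := g.2
    apply Subtype.ext
    apply Units.ext
    show cplx ((g : GL (Fin 2) F).1 0 0) ((g : GL (Fin 2) F).1 1 0) = (g : GL (Fin 2) F).1
    have hg' : (g : GL (Fin 2) F).1 = cplx x y := hg
    rw [hg']
    simp [cplx]
  right_inv p := by
    apply Subtype.ext
    apply Prod.ext
    · show (cplx p.1.1 p.1.2) 0 0 = p.1.1
      simp [cplx]
    · show (cplx p.1.1 p.1.2) 1 0 = p.1.2
      simp [cplx]

variable [Fintype F]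

/-- nonsplit case: only `(0, 0)` has `x² + y² = 0` -/
theorem card_sq_add_sq_ne_nonsplit [DecidableEq F] (hns : ∀ t : F, t * t ≠ -1) :
    Fintype.card {p : F × F // p.1 ^ 2 + p.2 ^ 2 ≠ 0} = Fintype.card F ^ 2 - 1 := by
  have hiff : ∀ p : F × F, p.1 ^ 2 + p.2 ^ 2 ≠ 0 ↔ p ≠ 0 := by
    intro p
    constructor
    · rintro h rfl
      apply h
      simp
    · intro hp h
      apply hp
      have hy : p.2 = 0 := by
        by_contra hy
        apply hns (p.1 / p.2)
        field_simp
        linear_combination h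
      have hx : p.1 = 0 := by
        rw [hy] at h
        simpa using h
      exact Prod.ext hx hy
  rw [Fintype.card_congr (Equiv.subtypeEquivRight hiff), Fintype.card_subtype_compl,
    Fintype.card_subtype_eq, Fintype.card_prod, pow_two]

/-- split case: `x² + y² = (x + i y)(x - i y)` -/
theorem card_sq_add_sq_ne_split [DecidableEq F] (h2 : (2 : F) ≠ 0) (i : F) (hi : i * i = -1) :
    Fintype.card {p : F × F // p.1 ^ 2 + p.2 ^ 2 ≠ 0} = (Fintype.card F - 1) ^ 2 := by
  have hi0 : i ≠ 0 := by
    rintro rfl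
    rw [mul_zero] at hi
    exact one_ne_zero (neg_eq_zero.1 hi.symm)
  let e : {p : F × F // p.1 ^ 2 + p.2 ^ 2 ≠ 0} ≃ Fˣ × Fˣ :=
    { toFun := fun p => (Units.mk0 (p.1.1 + i * p.1.2) (by
          intro h
          apply p.2
          have : p.1.1 ^ 2 + p.1.2 ^ 2 = (p.1.1 + i * p.1.2) * (p.1.1 - i * p.1.2) := by
            linear_combination (p.1.2 ^ 2) * hi
          rw [this, h, zero_mul]),
        Units.mk0 (p.1.1 - i * p.1.2) (by
          intro h
          apply p.2
          have : p.1.1 ^ 2 + p.1.2 ^ 2 = (p.1.1 + i * p.1.2) * (p.1.1 - i * p.1.2) := by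
            linear_combination (p.1.2 ^ 2) * hi
          rw [this, h, mul_zero]))
      invFun := fun u => ⟨(((u.1 : F) + (u.2 : F)) / 2, ((u.1 : F) - (u.2 : F)) / (2 * i)), by
        have : (((u.1 : F) + (u.2 : F)) / 2) ^ 2 + (((u.1 : F) - (u.2 : F)) / (2 * i)) ^ 2 =
            (u.1 : F) * (u.2 : F) := by
          field_simp
          linear_combination (((u.1 : F) + (u.2 : F)) ^ 2 - 4 * (u.1 : F) * (u.2 : F)) * hi
        show (((u.1 : F) + (u.2 : F)) / 2) ^ 2 + (((u.1 : F) - (u.2 : F)) / (2 * i)) ^ 2 ≠ 0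
        rw [this]
        exact mul_ne_zero u.1.ne_zero u.2.ne_zero⟩
      left_inv := by
        intro p
        apply Subtype.ext
        apply Prod.ext
        · show ((p.1.1 + i * p.1.2) + (p.1.1 - i * p.1.2)) / 2 = p.1.1
          field_simp
          ring
        · show ((p.1.1 + i * p.1.2) - (p.1.1 - i * p.1.2)) / (2 * i) = p.1.2
          field_simp
          ring
      right_inv := by
        intro u
        apply Prod.ext
        · apply Units.ext
          show ((u.1 : F) + (u.2 : F)) / 2 + i * (((u.1 : F) - (u.2 : F)) / (2 * i)) = (u.1 : F)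
          field_simp
          ring
        · apply Units.ext
          show ((u.1 : F) + (u.2 : F)) / 2 - i * (((u.1 : F) - (u.2 : F)) / (2 * i)) = (u.2 : F)
          field_simp
          ring }
  rw [Fintype.card_congr e, Fintype.card_prod, Fintype.card_units, pow_two]

/-- PK-TCARD: the 2-adic valuation of `|Tplus F|` -/
theorem val2_card_Tplus (hF : Odd (Fintype.card F)) :
    padicValNat 2 (Nat.card (Tplus F)) + 1 =
      padicValNat 2 (Fintype.card F ^ 2 - 1) + padicValNat 2 (Fintype.card F - 1) := by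
  classical
  have h2 : (2 : F) ≠ 0 := by
    intro h
    have hchar : ringChar F = 2 := CharP.ringChar_of_prime_eq_zero Nat.prime_two (by exact_mod_cast h)
    have := FiniteField.even_card_of_char_two hchar
    rw [Nat.odd_iff] at hF
    omega
  have hq1 : 1 < Fintype.card F := Fintype.one_lt_card
  have hcard : Nat.card (Tplus F) = Fintype.card {p : F × F // p.1 ^ 2 + p.2 ^ 2 ≠ 0} := by
    rw [Nat.card_congr tplusEquiv, Nat.card_eq_fintype_card]
  have hodd4 : Fintype.card F % 4 = 1 ∨ Fintype.card F % 4 = 3 := by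
    rw [Nat.odd_iff] at hF
    omega
  by_cases hsq : IsSquare (-1 : F)
  · have h4 : Fintype.card F % 4 = 1 := by
      have := FiniteField.isSquare_neg_one_iff.1 hsq
      rcases hodd4 with h | h
      · exact h
      · exact absurd h this
    obtain ⟨i, hi⟩ := hsq
    rw [hcard, card_sq_add_sq_ne_split h2 i hi.symm, padicValNat.pow (p := 2) (Fintype.card F - 1) 2,
      Cfsg.Agent.Lib.Helper7.OrdTwoAdic.val2_sq_sub_one_of_one hq1 h4]
    ring
  · have h4 : Fintype.card F % 4 = 3 := by
      by_contra h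
      exact hsq (FiniteField.isSquare_neg_one_iff.2 h)
    have hns : ∀ t : F, t * t ≠ -1 := fun t ht => hsq ⟨t, ht.symm⟩
    rw [hcard, card_sq_add_sq_ne_nonsplit hns,
      Cfsg.Agent.Lib.Helper7.OrdTwoAdic.val2_of_mod_four (n := Fintype.card F - 1) (by omega)]

end Cfsg.Agent.Lib.Helper6.G2O
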