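import Mathlib
import Cfsg.Prelude.Def_BaumannBlocks
import Cfsg.Prelude.Def_PLocal

set_option autoImplicit false

/-! S3008 (b): definitions for the Thompson-type replacement argument
(paper proof: notes/S3008_paper_helper2.md). -/

namespace Cfsg.Agent.Lib.Helper2.GCL

open scoped Pointwise

variable {G : Type*} [Group G]

/-- the conjugate `b A b⁻¹` -/
def cj (A : Subgroup G) (b : G) : Subgroup G := A.map (MulAut.conj b).toMonoidHom

theorem mem_cj {A : Subgroup G} {b x : G} : x ∈ cj A b ↔ b⁻¹ * x * b ∈ A := by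
  unfold cj
  constructor
  · rintro ⟨y, hy, rfl⟩
    have : b⁻¹ * ((MulAut.conj b).toMonoidHom y) * b = y := by
      simp [MulAut.conj_apply, mul_assoc]
    rw [this]; exact hy
  · intro h
    refine ⟨b⁻¹ * x * b, h, ?_⟩
    simp [MulAut.conj_apply, mul_assoc]

/-- the replacement subgroup `(A ∩ A^b)(B ∩ A A^b)` -/
def repl (A B : Subgroup G) (b : G) : Subgroup G := (A ⊓ cj A b) ⊔ (B ⊓ (A ⊔ cj A b))

/-- the hypotheses of Lemma R -/
structure RHyp (A B : Subgroup G) (b : G) : Prop where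
  hA : ∀ x ∈ A, ∀ y ∈ A, x * y = y * x
  hB : ∀ x ∈ B, ∀ y ∈ B, x * y = y * x
  hAB : ((A ⊔ B : Subgroup G) : Set G) = (A : Set G) * (B : Set G)
  hb : b ∈ B
  hT : ((A ⊔ cj A b : Subgroup G) : Set G) = (A : Set G) * (cj A b : Set G)

/-- `Z(Q)` as a subgroup of the ambient group -/
def zc (Q : Subgroup G) : Subgroup G := Q ⊓ Subgroup.centralizer (Q : Set G)

end Cfsg.Agent.Lib.Helper2.GCL
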