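import Mathlib
import Cfsg.Agent.Lib.Helper2.GCLDefs
import Cfsg.Agent.Lib.Helper6.ChermakDelgado

set_option autoImplicit false
set_option linter.unusedVariables false
set_option linter.unusedSectionVars false

/-! S3008 (b), package PR1: the replacement subgroup is abelian of the same order. -/

namespace Cfsg.Agent.Lib.Helper2.GCL

open scoped Pointwise
open Cfsg.Agent.Lib.Helper6

variable {G : Type*} [Group G]

theorem pr1_card_cj (A : Subgroup G) (b : G) : Nat.card (cj A b) = Nat.card A :=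
  Subgroup.card_map_of_injective (MulAut.conj b).injective

theorem pr1_conj_mem_cj {A : Subgroup G} {b x : G} (hx : x ∈ A) : b * x * b⁻¹ ∈ cj A b := by
  rw [mem_cj]
  have e : b⁻¹ * (b * x * b⁻¹) * b = x := by group
  rw [e]; exact hx

/-- `A^b` is abelian -/
theorem pr1_cj_comm {A : Subgroup G} (hA : ∀ x ∈ A, ∀ y ∈ A, x * y = y * x) (b : G) :
    ∀ x ∈ cj A b, ∀ y ∈ cj A b, x * y = y * x := by
  intro x hx y hy
  rw [mem_cj] at hx hy
  have h := hA _ hx _ hy
  have e1 : x * y = b * ((b⁻¹ * x * b) * (b⁻¹ * y * b)) * b⁻¹ := by group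
  have e2 : y * x = b * ((b⁻¹ * y * b) * (b⁻¹ * x * b)) * b⁻¹ := by group
  rw [e1, e2, h]

/-- if two subgroups commute elementwise, their join is their set product -/
theorem pr1_coe_sup_of_commute (H K : Subgroup G) (h : ∀ x ∈ H, ∀ y ∈ K, x * y = y * x) :
    ((H ⊔ K : Subgroup G) : Set G) = (H : Set G) * (K : Set G) := by
  have hn : H ≤ Subgroup.normalizer (K : Set G) := by
    intro x hx
    rw [Subgroup.mem_normalizer_iff]
    intro y
    constructor
    · intro hy
      have := h x hx y hy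
      have e : x * y * x⁻¹ = y := by rw [this]; group
      rw [e]; exact hy
    · intro hy
      have := h x hx _ hy
      have e : y = x⁻¹ * (x * y * x⁻¹) * x := by group
      have e2 : x⁻¹ * (x * y * x⁻¹) * x = x * y * x⁻¹ := by
        rw [mul_assoc, ← this]; group
      rw [e, e2]; exact hy
  exact Subgroup.coe_mul_of_left_le_normalizer_right H K hn

section

variable [Finite G] {A B : Subgroup G} {b : G}

/-- `A ∩ A^b` centralizes `A A^b` -/
theorem pr1_inf_le_centralizer (h : RHyp A B b) :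
    A ⊓ cj A b ≤ Subgroup.centralizer ((A ⊔ cj A b : Subgroup G) : Set G) := by
  rw [centralizer_sup_eq]
  intro x hx
  refine Subgroup.mem_inf.mpr ⟨?_, ?_⟩
  · rw [Subgroup.mem_centralizer_iff]
    intro y hy
    exact h.hA y hy x hx.1
  · rw [Subgroup.mem_centralizer_iff]
    intro y hy
    exact pr1_cj_comm h.hA b y hy x hx.2

/-- `A ∩ B ≤ A^b` -/
theorem pr1_inf_le_cj (h : RHyp A B b) : A ⊓ B ≤ cj A b := by
  intro x hx
  have hc : b * x * b⁻¹ = x := by
    rw [h.hB b h.hb x hx.2]; group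
  have := pr1_conj_mem_cj (b := b) hx.1
  rw [hc] at this
  exact this

theorem repl_comm (h : RHyp A B b) :
    ∀ x ∈ repl A B b, ∀ y ∈ repl A B b, x * y = y * x := by
  have hI : ∀ x ∈ A ⊓ cj A b, ∀ y ∈ A ⊓ cj A b, x * y = y * x :=
    fun x hx y hy => h.hA x hx.1 y hy.1
  have hB2 : ∀ x ∈ B ⊓ (A ⊔ cj A b), ∀ y ∈ B ⊓ (A ⊔ cj A b), x * y = y * x :=
    fun x hx y hy => h.hB x hx.1 y hy.1
  have hIB : ∀ x ∈ A ⊓ cj A b, ∀ y ∈ B ⊓ (A ⊔ cj A b), x * y = y * x := by
    intro x hx y hy
    exact (Subgroup.mem_centralizer_iff.mp (pr1_inf_le_centralizer h hx) y hy.2).symm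
  have hle : repl A B b ≤ Subgroup.centralizer ((repl A B b : Subgroup G) : Set G) := by
    unfold repl
    rw [centralizer_sup_eq]
    apply sup_le
    · intro x hx
      refine Subgroup.mem_inf.mpr ⟨?_, ?_⟩
      · rw [Subgroup.mem_centralizer_iff]; intro y hy; exact hI y hy x hx
      · rw [Subgroup.mem_centralizer_iff]; intro y hy; exact (hIB x hx y hy).symm
    · intro x hx
      refine Subgroup.mem_inf.mpr ⟨?_, ?_⟩
      · rw [Subgroup.mem_centralizer_iff]; intro y hy; exact hIB y hy x hx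
      · rw [Subgroup.mem_centralizer_iff]; intro y hy; exact hB2 y hy x hx
  intro x hx y hy
  exact (Subgroup.mem_centralizer_iff.mp (hle hx) y hy).symm

/-- `A A^b = A (B ∩ A A^b)` -/
theorem repl_setMul (h : RHyp A B b) :
    ((A ⊔ cj A b : Subgroup G) : Set G) =
      (A : Set G) * ((B ⊓ (A ⊔ cj A b) : Subgroup G) : Set G) := by
  apply Set.Subset.antisymm
  · rw [h.hT]
    rintro _ ⟨a, ha, y, hy, rfl⟩
    have hy' : y ∈ A ⊔ B := by
      have hy2 : b⁻¹ * y * b ∈ A := mem_cj.mp hy
      have : y = b * (b⁻¹ * y * b) * b⁻¹ := by group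
      rw [this]
      exact Subgroup.mul_mem _ (Subgroup.mul_mem _ (Subgroup.mem_sup_right h.hb)
        (Subgroup.mem_sup_left hy2)) (Subgroup.inv_mem _ (Subgroup.mem_sup_right h.hb))
    have hy'' : y ∈ (A : Set G) * (B : Set G) := by rw [← h.hAB]; exact hy'
    obtain ⟨a₁, ha₁, β, hβ, rfl⟩ := hy''
    have hβT : β ∈ A ⊔ cj A b := by
      have : β = a₁⁻¹ * (a₁ * β) := by group
      rw [this]
      exact Subgroup.mul_mem _ (Subgroup.inv_mem _ (Subgroup.mem_sup_left ha₁))
        (Subgroup.mem_sup_right hy)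
    refine ⟨a * a₁, A.mul_mem ha ha₁, β, Subgroup.mem_inf.mpr ⟨hβ, hβT⟩, ?_⟩
    simp only [mul_assoc]
  · rintro _ ⟨a, ha, β, hβ, rfl⟩
    exact Subgroup.mul_mem _ (Subgroup.mem_sup_left ha) hβ.2

theorem repl_card (h : RHyp A B b) : Nat.card (repl A B b) = Nat.card A := by
  set T1 : Subgroup G := A ⊔ cj A b with hT1
  set I : Subgroup G := A ⊓ cj A b with hI
  set B2 : Subgroup G := B ⊓ T1 with hB2
  -- |T1| |I| = |A|^2
  have e1 : Nat.card T1 * Nat.card I = Nat.card A * Nat.card A := by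
    have := card_setMul_mul_card_inf A (cj A b)
    rw [← h.hT, pr1_card_cj] at this
    exact this
  -- A ⊓ B2 = A ⊓ B
  have hAB2 : A ⊓ B2 = A ⊓ B := by
    apply le_antisymm
    · exact le_inf inf_le_left (inf_le_right.trans inf_le_left)
    · exact le_inf inf_le_left (le_inf inf_le_right (inf_le_left.trans le_sup_left))
  -- |T1| |A ⊓ B| = |A| |B2|
  have e2 : Nat.card T1 * Nat.card (A ⊓ B : Subgroup G) = Nat.card A * Nat.card B2 := by
    have := card_setMul_mul_card_inf A B2
    rw [← repl_setMul h, hAB2] at this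
    exact this
  -- I ⊓ B2 = A ⊓ B
  have hIB2 : I ⊓ B2 = A ⊓ B := by
    apply le_antisymm
    · intro x hx
      exact Subgroup.mem_inf.mpr ⟨hx.1.1, hx.2.1⟩
    · intro x hx
      refine Subgroup.mem_inf.mpr ⟨Subgroup.mem_inf.mpr ⟨hx.1, pr1_inf_le_cj h hx⟩,
        Subgroup.mem_inf.mpr ⟨hx.2, ?_⟩⟩
      exact Subgroup.mem_sup_left hx.1
  -- |repl| |A ⊓ B| = |I| |B2|
  have e3 : Nat.card (repl A B b) * Nat.card (A ⊓ B : Subgroup G) = Nat.card I * Nat.card B2 := by
    have hcoe : ((I ⊔ B2 : Subgroup G) : Set G) = (I : Set G) * (B2 : Set G) := by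
      apply pr1_coe_sup_of_commute
      intro x hx y hy
      exact (Subgroup.mem_centralizer_iff.mp (pr1_inf_le_centralizer h hx) y hy.2).symm
    have := card_setMul_mul_card_inf I B2
    rw [← hcoe, hIB2] at this
    exact this
  have hposA : 0 < Nat.card A := Nat.card_pos
  have hposB2 : 0 < Nat.card B2 := Nat.card_pos
  have hposT : 0 < Nat.card T1 := Nat.card_pos
  have hposAB : 0 < Nat.card (A ⊓ B : Subgroup G) := Nat.card_pos
  -- combine
  have key : Nat.card (repl A B b) * (Nat.card A * Nat.card B2) =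
      Nat.card A * (Nat.card A * Nat.card B2) := by
    calc Nat.card (repl A B b) * (Nat.card A * Nat.card B2)
        = Nat.card (repl A B b) * (Nat.card T1 * Nat.card (A ⊓ B : Subgroup G)) := by rw [e2]
      _ = (Nat.card (repl A B b) * Nat.card (A ⊓ B : Subgroup G)) * Nat.card T1 := by ring
      _ = (Nat.card I * Nat.card B2) * Nat.card T1 := by rw [e3]
      _ = (Nat.card T1 * Nat.card I) * Nat.card B2 := by ring
      _ = (Nat.card A * Nat.card A) * Nat.card B2 := by rw [e1]
      _ = Nat.card A * (Nat.card A * Nat.card B2) := by ring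
  exact Nat.eq_of_mul_eq_mul_right (Nat.mul_pos hposA hposB2) key

end

end Cfsg.Agent.Lib.Helper2.GCL
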