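import Mathlib
import Cfsg.Agent.Lib.Helper2.GCLPR1

set_option autoImplicit false
set_option linter.unusedVariables false
set_option linter.unusedSectionVars false

/-! S3008 (b), package PR2: the replacement is monotone on normal subgroups (via `G ⧸ K`). -/

namespace Cfsg.Agent.Lib.Helper2.GCL

open scoped Pointwise
open Cfsg.Agent.Lib.Helper6

variable {G : Type*} [Group G]

/-- `|f(X)| · |X ∩ ker f| = |X|` -/
theorem pr2_card_map_mul {N : Type*} [Group N] [Finite G] (f : G →* N) (X : Subgroup G) :
    Nat.card (X.map f) * Nat.card (X ⊓ f.ker : Subgroup G) = Nat.card X := by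
  rw [← Subgroup.relIndex_ker, ← Subgroup.inf_relIndex_right, inf_comm]
  have := Subgroup.relIndex_mul_relIndex (⊥ : Subgroup G) (X ⊓ f.ker) X bot_le inf_le_left
  rw [Subgroup.relIndex_bot_left, Subgroup.relIndex_bot_left] at this
  rw [mul_comm]; exact this

/-- the image of a conjugate is the conjugate of the image -/
theorem pr2_map_cj {N : Type*} [Group N] (f : G →* N) (A : Subgroup G) (b : G) :
    (cj A b).map f = cj (A.map f) (f b) := by
  unfold cj
  rw [Subgroup.map_map, Subgroup.map_map]
  congr 1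
  ext x
  simp [MulAut.conj_apply]

/-- the hypotheses of Lemma R pass to homomorphic images -/
theorem pr2_rhyp_map {N : Type*} [Group N] (f : G →* N) {A B : Subgroup G} {b : G}
    (h : RHyp A B b) : RHyp (A.map f) (B.map f) (f b) := by
  refine ⟨?_, ?_, ?_, Subgroup.mem_map_of_mem f h.hb, ?_⟩
  · rintro _ ⟨x, hx, rfl⟩ _ ⟨y, hy, rfl⟩
    rw [← map_mul, ← map_mul, h.hA x hx y hy]
  · rintro _ ⟨x, hx, rfl⟩ _ ⟨y, hy, rfl⟩
    rw [← map_mul, ← map_mul, h.hB x hx y hy]
  · rw [← Subgroup.map_sup, Subgroup.coe_map, h.hAB, Set.image_mul, Subgroup.coe_map,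
      Subgroup.coe_map]
  · rw [← pr2_map_cj, ← Subgroup.map_sup, Subgroup.coe_map, h.hT, Set.image_mul, Subgroup.coe_map,
      Subgroup.coe_map]

/-- the image of the replacement lies in the replacement of the images -/
theorem pr2_map_repl_le {N : Type*} [Group N] (f : G →* N) (A B : Subgroup G) (b : G) :
    (repl A B b).map f ≤ repl (A.map f) (B.map f) (f b) := by
  unfold repl
  rw [Subgroup.map_sup, ← pr2_map_cj]
  apply sup_le_sup
  · exact Subgroup.map_inf_le _ _ _
  · refine (Subgroup.map_inf_le _ _ _).trans ?_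
    rw [Subgroup.map_sup]

theorem repl_mono [Finite G] {A B : Subgroup G} {b : G} (h : RHyp A B b) (K : Subgroup G)
    (hK : K.Normal) : Nat.card (A ⊓ K : Subgroup G) ≤ Nat.card (repl A B b ⊓ K : Subgroup G) := by
  haveI := hK
  set f : G →* G ⧸ K := QuotientGroup.mk' K with hf
  have hker : f.ker = K := QuotientGroup.ker_mk' K
  have h1 := pr2_card_map_mul f A
  have h2 := pr2_card_map_mul f (repl A B b)
  rw [hker] at h1 h2
  have h3 : Nat.card ((repl A B b).map f) ≤ Nat.card (A.map f) := by
    have hle := Subgroup.card_le_of_le (pr2_map_repl_le f A B b)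
    rw [repl_card (pr2_rhyp_map f h)] at hle
    exact hle
  rw [repl_card h] at h2
  have hpos : 0 < Nat.card (A.map f) := Nat.card_pos
  have h4 : Nat.card (A.map f) * Nat.card (A ⊓ K : Subgroup G) ≤
      Nat.card (A.map f) * Nat.card (repl A B b ⊓ K : Subgroup G) := by
    calc Nat.card (A.map f) * Nat.card (A ⊓ K : Subgroup G) = Nat.card A := h1
      _ = Nat.card ((repl A B b).map f) * Nat.card (repl A B b ⊓ K : Subgroup G) := h2.symm
      _ ≤ Nat.card (A.map f) * Nat.card (repl A B b ⊓ K : Subgroup G) :=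
        Nat.mul_le_mul_right _ h3
  exact Nat.le_of_mul_le_mul_left h4 hpos

end Cfsg.Agent.Lib.Helper2.GCL
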