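import Mathlib
import Cfsg.Agent.Lib.Helper2.GCLPR2

set_option autoImplicit false
set_option linter.unusedVariables false
set_option linter.unusedSectionVars false

/-! S3008 (b), package PR3: the replacement is strictly bigger on some normal subgroup. -/

namespace Cfsg.Agent.Lib.Helper2.GCL

open scoped Pointwise
open Cfsg.Agent.Lib.Helper6

variable {G : Type*} [Group G]

/-- `(X ∩ f⁻¹(L))` has image `f(X) ∩ L` -/
theorem pr3_map_inf_comap {N : Type*} [Group N] (f : G →* N) (X : Subgroup G) (L : Subgroup N) :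
    (X ⊓ L.comap f).map f = X.map f ⊓ L := by
  ext y
  constructor
  · rintro ⟨x, hx, rfl⟩
    exact Subgroup.mem_inf.mpr ⟨Subgroup.mem_map_of_mem f hx.1, hx.2⟩
  · rintro ⟨⟨x, hx, rfl⟩, hy⟩
    exact ⟨x, Subgroup.mem_inf.mpr ⟨hx, hy⟩, rfl⟩

/-- counting `X ∩ K1` through the quotient by `K2 = ker f ≤ K1 = f⁻¹(L)` -/
theorem pr3_card_inf_comap {N : Type*} [Group N] [Finite G] (f : G →* N) (X : Subgroup G)
    (L : Subgroup N) :
    Nat.card (X.map f ⊓ L : Subgroup N) * Nat.card (X ⊓ f.ker : Subgroup G) =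
      Nat.card (X ⊓ L.comap f : Subgroup G) := by
  have h := pr2_card_map_mul f (X ⊓ L.comap f)
  rw [pr3_map_inf_comap] at h
  have e : X ⊓ L.comap f ⊓ f.ker = X ⊓ f.ker := by
    apply le_antisymm
    · exact le_inf (inf_le_left.trans inf_le_left) inf_le_right
    · refine le_inf (le_inf inf_le_left ?_) inf_le_right
      intro x hx
      have : f x = 1 := hx.2
      show f x ∈ L
      rw [this]; exact L.one_mem
  rw [e] at h
  exact h

theorem repl_strict [Finite G] {p : ℕ} [Fact p.Prime] (hG : IsPGroup p G) {A B : Subgroup G} {b : G}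
    (h : RHyp A B b) (hne : cj A b ≠ A) :
    ∃ K : Subgroup G, K.Normal ∧
      Nat.card (A ⊓ K : Subgroup G) < Nat.card (repl A B b ⊓ K : Subgroup G) := by
  by_contra hcon
  push Not at hcon
  have heq : ∀ K : Subgroup G, K.Normal →
      Nat.card (repl A B b ⊓ K : Subgroup G) = Nat.card (A ⊓ K : Subgroup G) :=
    fun K hK => le_antisymm (hcon K hK) (repl_mono h K hK)
  -- `K2` maximal normal with `A^b ⊄ A K2`
  set 𝒦 : Set (Subgroup G) := {K | K.Normal ∧ ¬ cj A b ≤ A ⊔ K} with h𝒦
  have hbot : (⊥ : Subgroup G) ∈ 𝒦 := by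
    refine ⟨inferInstance, ?_⟩
    rw [sup_bot_eq]
    intro hle
    apply hne
    exact Subgroup.eq_of_le_of_card_ge hle (pr1_card_cj A b).ge
  obtain ⟨K2, ⟨hK2n, hK2⟩, hK2max⟩ := Set.Finite.exists_maximal (Set.toFinite 𝒦) ⟨⊥, hbot⟩
  have := hK2n
  have hK2top : K2 ≠ ⊤ := by
    rintro rfl
    exact hK2 (le_sup_right.trans' le_top)
  set f : G →* G ⧸ K2 := QuotientGroup.mk' K2 with hf
  have hker : f.ker = K2 := QuotientGroup.ker_mk' K2
  have hsurj : Function.Surjective f := QuotientGroup.mk'_surjective K2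
  -- a central element of order `p` of `G ⧸ K2`
  have : Nontrivial (G ⧸ K2) := by
    rw [← not_subsingleton_iff_nontrivial]
    intro hs
    apply hK2top
    rw [eq_top_iff]
    intro x _
    have : f x = f 1 := Subsingleton.elim _ _
    rw [map_one] at this
    rw [← hker]; exact this
  have hQp : IsPGroup p (G ⧸ K2) := hG.to_quotient K2
  have := hQp.center_nontrivial
  have hdvd : p ∣ Nat.card (Subgroup.center (G ⧸ K2)) := by
    obtain ⟨n, hn⟩ := (IsPGroup.iff_card).mp (hQp.to_subgroup (Subgroup.center (G ⧸ K2)))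
    rw [hn]
    apply dvd_pow_self
    rintro rfl
    rw [pow_zero] at hn
    have := (Nat.card_eq_one_iff_unique.mp hn).1
    exact not_subsingleton _ this
  obtain ⟨⟨z, hzc⟩, hzo⟩ := exists_prime_orderOf_dvd_card' p hdvd
  have hzo' : orderOf z = p := by
    rw [← hzo]; exact (Subgroup.orderOf_mk z hzc).symm
  set L : Subgroup (G ⧸ K2) := Subgroup.zpowers z with hL
  have hLcard : Nat.card L = p := by rw [hL, Nat.card_zpowers, hzo']
  have hzcomm : ∀ y : G ⧸ K2, z * y = y * z := fun y => (Subgroup.mem_center_iff.mp hzc y).symm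
  have hLn : L.Normal := by
    constructor
    intro n hn g
    obtain ⟨k, rfl⟩ := Subgroup.mem_zpowers_iff.mp hn
    have : g * z ^ k * g⁻¹ = z ^ k := by
      have hc : Commute g (z ^ k) := (Commute.zpow_right (hzcomm g).symm k)
      rw [hc.eq]; group
    rw [this]; exact Subgroup.zpow_mem_zpowers z k
  set K1 : Subgroup G := L.comap f with hK1def
  have hK1n : K1.Normal := hLn.comap f
  have hK21 : K2 ≤ K1 := by
    rw [← hker]; exact Subgroup.ker_le_comap f L
  have hz1 : z ≠ 1 := by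
    intro h1
    rw [h1, orderOf_one] at hzo'
    exact (Fact.out : p.Prime).one_lt.ne hzo'
  have hK1map : K1.map f = L := Subgroup.map_comap_eq_self_of_surjective hsurj L
  have hK1 : cj A b ≤ A ⊔ K1 := by
    by_contra hnot
    have hmem : K1 ∈ 𝒦 := ⟨hK1n, hnot⟩
    have hle := hK2max hmem hK21
    -- then `z ∈ f(K2) = 1`
    have : L ≤ K2.map f := by rw [← hK1map]; exact Subgroup.map_mono hle
    have hz : z ∈ K2.map f := this (Subgroup.mem_zpowers z)
    obtain ⟨x, hx, hxz⟩ := hz
    have : f x = 1 := by rw [← hker] at hx; exact hx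
    exact hz1 (hxz ▸ this)
  -- the situation in the quotient
  have hbar := pr2_rhyp_map f h
  set Ab : Subgroup (G ⧸ K2) := A.map f with hAb
  set Bb : Subgroup (G ⧸ K2) := B.map f with hBb
  have hcjb : cj Ab (f b) = (cj A b).map f := (pr2_map_cj f A b).symm
  have hcomap : Ab.comap f = A ⊔ K2 := by rw [hAb, Subgroup.comap_map_eq, hker]
  have hcj_not : ¬ cj Ab (f b) ≤ Ab := by
    intro hle
    apply hK2
    rw [← hcomap]
    intro x hx
    show f x ∈ Ab
    apply hle
    rw [hcjb]
    exact Subgroup.mem_map_of_mem f hx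
  have hzA : z ∉ Ab := by
    intro hz
    apply hK2
    have : K1 ≤ A ⊔ K2 := by
      rw [← hcomap]
      intro x hx
      show f x ∈ Ab
      have hx' : f x ∈ L := hx
      obtain ⟨k, hk⟩ := Subgroup.mem_zpowers_iff.mp hx'
      rw [← hk]
      exact Ab.zpow_mem hz k
    exact hK1.trans (sup_le le_sup_left this)
  have hT1le : Ab ⊔ cj Ab (f b) ≤ Ab ⊔ L := by
    apply sup_le le_sup_left
    rw [hcjb]
    have := Subgroup.map_mono (f := f) hK1
    rw [Subgroup.map_sup, hK1map] at this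
    exact this
  -- the image of the replacement is the replacement of the images
  have himg : (repl A B b).map f = repl Ab Bb (f b) := by
    apply Subgroup.eq_of_le_of_card_ge (pr2_map_repl_le f A B b)
    rw [repl_card hbar]
    have h1 := pr2_card_map_mul f A
    have h2 := pr2_card_map_mul f (repl A B b)
    rw [hker] at h1 h2
    rw [repl_card h, heq K2 hK2n] at h2
    have hpos : 0 < Nat.card (A ⊓ K2 : Subgroup G) := Nat.card_pos
    have : Nat.card (A.map f) * Nat.card (A ⊓ K2 : Subgroup G) =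
        Nat.card ((repl A B b).map f) * Nat.card (A ⊓ K2 : Subgroup G) := by rw [h1, h2]
    exact (Nat.eq_of_mul_eq_mul_right hpos this).le
  -- `z ^ i ∈ repl` for some `z ^ i ≠ 1`
  have hex : ∃ w ∈ repl Ab Bb (f b), w ∈ L ∧ w ≠ 1 := by
    obtain ⟨y, hy, hyA⟩ := SetLike.not_le_iff_exists.mp hcj_not
    have hyT : y ∈ ((Ab ⊔ cj Ab (f b) : Subgroup (G ⧸ K2)) : Set (G ⧸ K2)) :=
      Subgroup.mem_sup_right hy
    rw [repl_setMul hbar] at hyT
    obtain ⟨u₀, hu₀, β, hβ, rfl⟩ := hyT
    have hβA : β ∉ Ab := fun hβA => hyA (Ab.mul_mem hu₀ hβA)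
    have hβ2 : β ∈ ((Ab ⊔ L : Subgroup (G ⧸ K2)) : Set (G ⧸ K2)) := hT1le hβ.2
    rw [pr1_coe_sup_of_commute Ab L (by
      intro x _ y hy
      obtain ⟨k, rfl⟩ := Subgroup.mem_zpowers_iff.mp hy
      exact (Commute.zpow_right (hzcomm x).symm k).eq)] at hβ2
    obtain ⟨u, hu, w, hw, rfl⟩ := hβ2
    have hw1 : w ≠ 1 := by
      rintro rfl
      apply hβA
      show u * 1 ∈ Ab
      rw [mul_one]; exact hu
    have hwc : ∀ y : G ⧸ K2, w * y = y * w := by
      intro y
      obtain ⟨k, rfl⟩ := Subgroup.mem_zpowers_iff.mp hw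
      exact (Commute.zpow_left (hzcomm y) k).eq
    -- `f b` commutes with `u * w` and `w`, hence with `u`
    have hbβ : f b * (u * w) = (u * w) * f b := hbar.hB _ hbar.hb _ hβ.1
    have hbu : f b * u = u * f b := by
      have e1 : f b * (u * w) = (f b * u) * w := by group
      have e2 : (u * w) * f b = (u * f b) * w := by
        rw [mul_assoc, hwc (f b), ← mul_assoc]
      rw [e1, e2] at hbβ
      exact mul_right_cancel hbβ
    have hucj : u ∈ cj Ab (f b) := by
      rw [mem_cj]
      have : (f b)⁻¹ * u * f b = u := by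
        rw [mul_assoc, ← hbu]; group
      rw [this]; exact hu
    refine ⟨w, ?_, hw, hw1⟩
    have hw' : w = u⁻¹ * (u * w) := by group
    rw [hw']
    unfold repl
    exact Subgroup.mul_mem _ (Subgroup.inv_mem _ (Subgroup.mem_sup_left
      (Subgroup.mem_inf.mpr ⟨hu, hucj⟩))) (Subgroup.mem_sup_right hβ)
  -- subgroups of `L` (prime order)
  have hLsub : ∀ X : Subgroup (G ⧸ K2), Nat.card (X ⊓ L : Subgroup (G ⧸ K2)) = 1 ∨
      Nat.card (X ⊓ L : Subgroup (G ⧸ K2)) = p := by
    intro X
    have hd : Nat.card (X ⊓ L : Subgroup (G ⧸ K2)) ∣ p := by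
      rw [← hLcard]
      exact Subgroup.card_dvd_of_le inf_le_right
    exact (Nat.dvd_prime (Fact.out : p.Prime)).mp hd
  have hA1 : Nat.card (Ab ⊓ L : Subgroup (G ⧸ K2)) = 1 := by
    rcases hLsub Ab with h1 | h1
    · exact h1
    · exfalso
      apply hzA
      have : Ab ⊓ L = L := Subgroup.eq_of_le_of_card_ge inf_le_right (by rw [h1, hLcard])
      have hz : z ∈ Ab ⊓ L := by rw [this]; exact Subgroup.mem_zpowers z
      exact hz.1
  have hR1 : Nat.card (repl Ab Bb (f b) ⊓ L : Subgroup (G ⧸ K2)) = p := by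
    rcases hLsub (repl Ab Bb (f b)) with h1 | h1
    · exfalso
      obtain ⟨w, hwR, hwL, hw1⟩ := hex
      have hbot := Subgroup.card_eq_one.mp h1
      have : w ∈ (repl Ab Bb (f b) ⊓ L : Subgroup (G ⧸ K2)) := Subgroup.mem_inf.mpr ⟨hwR, hwL⟩
      rw [hbot, Subgroup.mem_bot] at this
      exact hw1 this
    · exact h1
  -- final count at `K1`
  have c1 := pr3_card_inf_comap f A L
  have c2 := pr3_card_inf_comap f (repl A B b) L
  rw [hker] at c1 c2
  rw [himg, hR1, heq K2 hK2n] at c2
  rw [← hAb, hA1, one_mul] at c1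
  have c3 := heq K1 hK1n
  rw [← hK1def] at c1 c2
  rw [← c2, ← c1] at c3
  have hpos : 0 < Nat.card (A ⊓ K2 : Subgroup G) := Nat.card_pos
  have hp2 : 2 ≤ p := (Fact.out : p.Prime).two_le
  nlinarith

end Cfsg.Agent.Lib.Helper2.GCL
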