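import Mathlib
import Cfsg.Prelude.Def_BaumannBlocks
import Cfsg.Prelude.Def_PLocal
import Cfsg.Agent.Lib.Helper2.GCLDefs
import Cfsg.Agent.Lib.Helper2.GCLPR1
import Cfsg.Agent.Lib.Helper2.GCLPR2
import Cfsg.Agent.Lib.Helper2.GCLPR3
import Cfsg.Agent.Lib.Helper6.GCLPC3
import Cfsg.Agent.Lib.Helper6.GCLPC1
import Cfsg.Agent.Lib.Helper6.GCLPC2
import Cfsg.Agent.Lib.Helper6.GCLPC4
import Cfsg.Agent.Lib.Helper6.ChermakDelgado4
import Cfsg.Agent.Lib.Helper6.ChermakDelgado5

set_option autoImplicit false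

/-! S3008 (b), package PT: the extremal argument (paper proof: notes/S3008_paper_helper2.md, section 3). -/

namespace Cfsg.Agent.Lib.Helper2.GCL

open scoped Pointwise
open Cfsg Cfsg.Agent.Lib.Helper6

variable {S : Type*} [Group S]

/-- if `b A b⁻¹ = A` then `b` normalizes `A` -/
theorem pt_mem_normalizer_of_cj_eq {A : Subgroup S} {b : S} (h : cj A b = A) :
    b ∈ Subgroup.normalizer (A : Set S) := by
  rw [Subgroup.mem_normalizer_iff]
  intro x
  constructor
  · intro hx
    have : b * x * b⁻¹ ∈ cj A b := by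
      rw [mem_cj]
      have e : b⁻¹ * (b * x * b⁻¹) * b = x := by group
      rw [e]; exact hx
    rw [h] at this; exact this
  · intro hx
    have : b * x * b⁻¹ ∈ cj A b := by rw [h]; exact hx
    rw [mem_cj] at this
    have e : b⁻¹ * (b * x * b⁻¹) * b = x := by group
    rw [e] at this; exact this

/-- the normalizer of `X` normalizes `C(X)` -/
theorem pt_normalizer_le_normalizer_centralizer (X : Subgroup S) :
    Subgroup.normalizer (X : Set S) ≤
      Subgroup.normalizer ((Subgroup.centralizer (X : Set S) : Subgroup S) : Set S) := by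
  intro g hg
  have hfw : ∀ s ∈ Subgroup.normalizer (X : Set S), ∀ c ∈ Subgroup.centralizer (X : Set S),
      s * c * s⁻¹ ∈ Subgroup.centralizer (X : Set S) := by
    intro s hs c hc
    rw [Subgroup.mem_centralizer_iff]
    intro y hy
    have hy' : s⁻¹ * y * s ∈ X := by
      have := (Subgroup.mem_normalizer_iff.mp hs (s⁻¹ * y * s))
      rw [this]
      have e : s * (s⁻¹ * y * s) * s⁻¹ = y := by group
      rw [e]; exact hy
    have h1 := Subgroup.mem_centralizer_iff.mp hc _ hy'
    calc y * (s * c * s⁻¹) = s * ((s⁻¹ * y * s) * c) * s⁻¹ := by group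
      _ = s * (c * (s⁻¹ * y * s)) * s⁻¹ := by rw [h1]
      _ = s * c * s⁻¹ * y := by group
  rw [Subgroup.mem_normalizer_iff]
  intro c
  constructor
  · exact hfw g hg c
  · intro hc
    have := hfw g⁻¹ (Subgroup.inv_mem _ hg) _ hc
    have e : g⁻¹ * (g * c * g⁻¹) * g⁻¹⁻¹ = c := by group
    rw [e] at this; exact this

/-- the potential -/
noncomputable def phi [Finite S] (Q : Subgroup S) : ℕ :=
  ∑ K ∈ (Set.toFinite {K : Subgroup S | K.Normal}).toFinset, Nat.card (zc Q ⊓ K : Subgroup S)

theorem exists_mcl_normalized [Finite S] {p : ℕ} [Fact p.Prime] (hP : IsPGroup p S) :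
    ∃ Q : Subgroup S, IsMinimalCentrallyLarge Q ∧
      thompsonSubgroupA S ≤ Subgroup.normalizer (Q : Set S) ∧
      minimalCentrallyLargeJoin S ≤ Subgroup.normalizer (Q : Set S) := by
  classical
  obtain ⟨R, hR⟩ := exists_isCentrallyLarge (S := S)
  obtain ⟨Q₀, hQ₀, -⟩ := exists_isMinimalCentrallyLarge_le R hR
  have hne : {Q : Subgroup S | IsMinimalCentrallyLarge Q}.Nonempty := ⟨Q₀, hQ₀⟩
  obtain ⟨Q, hQ, hmax⟩ := Set.exists_max_image _ (phi (S := S)) (Set.toFinite _) hne
  have hQ : IsMinimalCentrallyLarge Q := hQ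
  -- the key claim
  have key : ∀ B : Subgroup S, (∀ b ∈ B, RHyp (zc Q) B b) →
      (∀ b ∈ B, IsCentralizerLarge (repl (zc Q) B b)) →
      B ≤ Subgroup.normalizer (zc Q : Set S) := by
    intro B hR hM b hb
    by_contra hcon
    have hne : cj (zc Q) b ≠ zc Q := fun h => hcon (pt_mem_normalizer_of_cj_eq h)
    have hr := hR b hb
    set Z3 := repl (zc Q) B b with hZ3
    have hab : Z3 ≤ Subgroup.centralizer (Z3 : Set S) := by
      intro x hx
      rw [Subgroup.mem_centralizer_iff]
      intro y hy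
      exact repl_comm hr y hy x hx
    have hcard : Nat.card (zc Q) ≤ Nat.card Z3 := (repl_card hr).ge
    obtain ⟨hQ3, hz3⟩ := mcl_of_abMember Q Z3 hQ (hM b hb) hab hcard
    have hle := hmax _ hQ3
    have hlt : phi Q < phi (Subgroup.centralizer (Z3 : Set S)) := by
      unfold phi
      rw [hz3]
      apply Finset.sum_lt_sum
      · intro K hK
        rw [Set.Finite.mem_toFinset] at hK
        exact repl_mono hr K hK
      · obtain ⟨K, hK, hlt⟩ := repl_strict hP hr hne
        exact ⟨K, by rw [Set.Finite.mem_toFinset]; exact hK, hlt⟩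
    omega
  have h1 : ∀ Q' : Subgroup S, IsMinimalCentrallyLarge Q' →
      Q' ≤ Subgroup.normalizer (zc Q : Set S) := by
    intro Q' hQ'
    apply mcl_le_normalizer Q Q' hQ hQ'
    exact key _ (fun b hb => rhyp_zc_zc Q Q' hQ hQ' b hb)
      (fun b hb => repl_zc_member Q Q' hQ hQ' b hb)
  have h2 : ∀ A ∈ maxAbelianSubgroups S, A ≤ Subgroup.normalizer (zc Q : Set S) := by
    intro A hA
    exact key _ (fun a ha => rhyp_zc_maxAb Q A hQ hA a ha)
      (fun a ha => repl_maxAb_member Q A hQ hA a ha)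
  have hN : Subgroup.normalizer (zc Q : Set S) ≤ Subgroup.normalizer (Q : Set S) := by
    have := pt_normalizer_le_normalizer_centralizer (zc Q)
    rw [(zc_facts Q hQ).2.1] at this
    exact this
  refine ⟨Q, hQ, ?_, ?_⟩
  · unfold thompsonSubgroupA
    exact sSup_le (fun A hA => (h2 A hA).trans hN)
  · unfold minimalCentrallyLargeJoin
    exact sSup_le (fun Q' hQ' => (h1 Q' hQ').trans hN)

end Cfsg.Agent.Lib.Helper2.GCL
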