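import Mathlib

set_option autoImplicit false
set_option linter.unusedSectionVars false

/-!
Sections of `GL₅(2)`, part a: `GL₅(2)` has no element of order nine.
-/

namespace Cfsg.Agent.Lib.Helper2.GL52

open Matrix

/-- an element of order three with a three-dimensional fixed space -/
def A5 : Matrix (Fin 5) (Fin 5) (ZMod 2) :=
  !![0, 1, 0, 0, 0; 1, 1, 0, 0, 0; 0, 0, 1, 0, 0; 0, 0, 0, 1, 0; 0, 0, 0, 0, 1]

/-- an element of order three with a one-dimensional fixed space -/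
def C5 : Matrix (Fin 5) (Fin 5) (ZMod 2) :=
  !![0, 1, 0, 0, 0; 1, 1, 0, 0, 0; 0, 0, 0, 1, 0; 0, 0, 1, 1, 0; 0, 0, 0, 0, 1]

theorem A5_cube : A5 * (A5 * A5) = 1 := by decide

theorem A5_cube' : (A5 * A5) * A5 = 1 := by decide

theorem C5_cube : C5 * (C5 * C5) = 1 := by decide

theorem C5_cube' : (C5 * C5) * C5 = 1 := by decide

theorem A5_ne : A5 ≠ 1 := by decide

theorem C5_ne : C5 ≠ 1 := by decide

theorem trace_A5 : Matrix.trace A5 = 0 := by decide

theorem trace_C5 : Matrix.trace C5 = 1 := by decide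

/-- `A5` as a unit -/
def aU : GL (Fin 5) (ZMod 2) := ⟨A5, A5 * A5, A5_cube, A5_cube'⟩

/-- `C5` as a unit -/
def cU : GL (Fin 5) (ZMod 2) := ⟨C5, C5 * C5, C5_cube, C5_cube'⟩

theorem aU_cube : aU ^ 3 = 1 := by
  apply Units.ext
  show (A5 : Matrix (Fin 5) (Fin 5) (ZMod 2)) ^ 3 = 1
  rw [pow_succ, pow_two]
  exact A5_cube'

theorem cU_cube : cU ^ 3 = 1 := by
  apply Units.ext
  show (C5 : Matrix (Fin 5) (Fin 5) (ZMod 2)) ^ 3 = 1
  rw [pow_succ, pow_two]
  exact C5_cube'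

theorem aU_ne : aU ≠ 1 := by
  intro h
  exact A5_ne (congrArg Units.val h)

theorem cU_ne : cU ≠ 1 := by
  intro h
  exact C5_ne (congrArg Units.val h)

theorem card_GL52 : Nat.card (GL (Fin 5) (ZMod 2)) = 9999360 := by
  rw [Matrix.card_GL_field]
  simp [ZMod.card, Fin.prod_univ_five]

end Cfsg.Agent.Lib.Helper2.GL52
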