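import Mathlib
import Cfsg.Agent.Lib.Helper2.GL52a

set_option autoImplicit false
set_option linter.unusedSectionVars false

/-!
Sections of `GL₅(2)`, part b: `GL₅(2)` has no element of order nine.
-/

namespace Cfsg.Agent.Lib.Helper2.GL52

open Matrix Pointwise

theorem zmod2_sq (z : ZMod 2) : z ^ 2 = z := by
  revert z
  decide

theorem no_order9 (g : GL (Fin 5) (ZMod 2)) (hg : orderOf g = 9) : False := by
  classical
  haveI : Fact (Nat.Prime 3) := ⟨by norm_num⟩
  have hP9 : Nat.card (Subgroup.zpowers g) = 9 := by rw [Nat.card_zpowers, hg]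
  have hP : IsPGroup 3 (Subgroup.zpowers g) := IsPGroup.of_card (n := 2) (by rw [hP9]; norm_num)
  have hidx : ¬ 3 ∣ (Subgroup.zpowers g).index := by
    have h1 := (Subgroup.zpowers g).card_mul_index
    rw [hP9, card_GL52] at h1
    omega
  have hS : ((hP.toSylow hidx : Sylow 3 (GL (Fin 5) (ZMod 2))) : Subgroup (GL (Fin 5) (ZMod 2))) =
      Subgroup.zpowers g := IsPGroup.toSylow_coe hP hidx
  have key : ∀ y : GL (Fin 5) (ZMod 2), y ^ 3 = 1 → y ≠ 1 →
      Matrix.trace (y : Matrix (Fin 5) (Fin 5) (ZMod 2)) =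
        Matrix.trace ((g ^ 3 : GL (Fin 5) (ZMod 2)) : Matrix (Fin 5) (Fin 5) (ZMod 2)) := by
    intro y hy3 hy1
    have hoy : orderOf y = 3 := by
      have h1 : orderOf y ∣ 3 := orderOf_dvd_of_pow_eq_one hy3
      rcases (Nat.dvd_prime (by norm_num : Nat.Prime 3)).mp h1 with h2 | h2
      · exact absurd (orderOf_eq_one_iff.mp h2) hy1
      · exact h2
    have hy : IsPGroup 3 (Subgroup.zpowers y) :=
      IsPGroup.of_card (n := 1) (by rw [Nat.card_zpowers, hoy]; norm_num)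
    obtain ⟨Q, hQ⟩ := hy.exists_le_sylow
    obtain ⟨x, hx⟩ := MulAction.exists_smul_eq (GL (Fin 5) (ZMod 2)) Q (hP.toSylow hidx)
    have h1 : y ∈ (Q : Subgroup (GL (Fin 5) (ZMod 2))) := hQ (Subgroup.mem_zpowers y)
    have h2 : MulAut.conj x • y ∈ MulAut.conj x • (Q : Subgroup (GL (Fin 5) (ZMod 2))) :=
      Subgroup.smul_mem_pointwise_smul _ _ _ h1
    rw [← Sylow.coe_subgroup_smul, hx, hS, MulAut.smul_def, MulAut.conj_apply] at h2
    rw [mem_zpowers_iff_mem_range_orderOf, hg] at h2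
    obtain ⟨k, hk, hkeq⟩ := Finset.mem_image.mp h2
    have hk9 : k < 9 := Finset.mem_range.mp hk
    have hk3 : (g ^ k) ^ 3 = 1 := by
      have : (g ^ k) = x * y * x⁻¹ := hkeq
      rw [this]
      have e : (x * y * x⁻¹) ^ 3 = x * y ^ 3 * x⁻¹ := by
        simp [pow_succ, mul_assoc]
      rw [e, hy3]
      simp
    have hdvd : 9 ∣ k * 3 := by
      rw [← hg]
      apply orderOf_dvd_of_pow_eq_one
      rw [pow_mul]
      exact hk3
    have htr : Matrix.trace (y : Matrix (Fin 5) (Fin 5) (ZMod 2)) =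
        Matrix.trace ((g ^ k : GL (Fin 5) (ZMod 2)) : Matrix (Fin 5) (Fin 5) (ZMod 2)) := by
      have h3 : ((g ^ k : GL (Fin 5) (ZMod 2)) : Matrix (Fin 5) (Fin 5) (ZMod 2)) =
          (x : Matrix (Fin 5) (Fin 5) (ZMod 2)) * (y : Matrix (Fin 5) (Fin 5) (ZMod 2)) *
            ((x⁻¹ : GL (Fin 5) (ZMod 2)) : Matrix (Fin 5) (Fin 5) (ZMod 2)) := by
        have : (g ^ k) = x * y * x⁻¹ := hkeq
        rw [this]
        simp
      rw [h3]
      exact (Matrix.trace_units_conj x _).symm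
    have hk0 : k ≠ 0 := by
      rintro rfl
      apply hy1
      have h3 : x * y * x⁻¹ = 1 := by rw [← hkeq, pow_zero]
      have h4 : y = x⁻¹ * (x * y * x⁻¹) * x := by group
      rw [h4, h3]
      group
    have hk36 : k = 3 ∨ k = 6 := by omega
    rcases hk36 with h | h
    · rw [htr, h]
    · rw [htr, h]
      have e6 : (g ^ 6 : GL (Fin 5) (ZMod 2)) = (g ^ 3) ^ 2 := by rw [← pow_mul]
      rw [e6, Units.val_pow_eq_pow_val, ZMod.trace_pow_card, zmod2_sq]
  have ha := key aU aU_cube aU_ne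
  have hc := key cU cU_cube cU_ne
  have h1 : Matrix.trace A5 = Matrix.trace C5 := ha.trans hc.symm
  rw [trace_A5, trace_C5] at h1
  exact absurd h1 (by decide)

end Cfsg.Agent.Lib.Helper2.GL52
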