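import Mathlib
import Cfsg.Agent.Lib.Helper3.Sz1

set_option autoImplicit false
set_option linter.unusedSectionVars false
set_option linter.style.haveILetI false

/-!
Sections of `GL₅(2)`, part c: `PSL₂(8)` has an element of order nine.
-/

namespace Cfsg.Agent.Lib.Helper2.GL52

open Matrix

variable {F : Type*} [Field F]

theorem exists_root [Fintype F] (hF : Fintype.card F = 8) : ∃ t : F, t ^ 3 + t + 1 = 0 := by
  classical
  haveI : CharP F 2 := Cfsg.Agent.Lib.Helper3.Sz.charP_two_of_card (n := 3) (by rw [hF]; norm_num)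
  have two : (2 : F) = 0 := CharTwo.two_eq_zero
  have hU : 1 < Fintype.card Fˣ := by
    rw [Fintype.card_units, hF]
    norm_num
  obtain ⟨u, hu⟩ := Fintype.exists_ne_of_one_lt_card hU (1 : Fˣ)
  have ht0 : (u : F) ≠ 0 := Units.ne_zero u
  have ht1 : (u : F) ≠ 1 := fun h => hu (Units.val_eq_one.mp h)
  have h8 : (u : F) ^ 8 = u := by
    have := FiniteField.pow_card (u : F)
    rwa [hF] at this
  obtain ⟨t, htdef⟩ : ∃ t : F, t = (u : F) := ⟨_, rfl⟩
  rw [← htdef] at ht0 ht1 h8
  have hprod : t * ((t + 1) * ((t ^ 3 + t + 1) * (t ^ 3 + t ^ 2 + 1))) = 0 := by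
    linear_combination h8 + (t ^ 7 + t ^ 6 + 2 * t ^ 5 + 2 * t ^ 4 + t ^ 3 + t ^ 2 + t) * two
  have ht1' : t + 1 ≠ 0 := by
    intro h
    apply ht1
    have h2 : ∀ y : F, y + y = 0 := CharTwo.add_self_eq_zero
    linear_combination h - h2 1
  rcases mul_eq_zero.mp hprod with h | h
  · exact absurd h ht0
  rcases mul_eq_zero.mp h with h | h
  · exact absurd h ht1'
  rcases mul_eq_zero.mp h with h | h
  · exact ⟨t, h⟩
  · refine ⟨t + 1, ?_⟩
    linear_combination h + (1 + 2 * t + t ^ 2) * two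

section mats

variable [CharP F 2]

/-- the companion matrix of `x² + t x + 1` -/
def Mt (t : F) : Matrix (Fin 2) (Fin 2) F := !![0, 1; 1, t]

/-- its cube, when `t³ = t + 1` -/
def M3 (t : F) : Matrix (Fin 2) (Fin 2) F := !![t, 1 + t ^ 2; 1 + t ^ 2, t + 1]

theorem Mt_det (t : F) : (Mt t).det = 1 := by
  rw [Matrix.det_fin_two]
  simp [Mt]
  exact CharTwo.neg_eq 1

theorem Mt_cube {t : F} (ht : t ^ 3 + t + 1 = 0) : Mt t * Mt t * Mt t = M3 t := by
  have two : (2 : F) = 0 := CharTwo.two_eq_zero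
  ext i j
  fin_cases i <;> fin_cases j
  · simp [Mt, M3, Matrix.mul_apply, Fin.sum_univ_two]
  · simp [Mt, M3, Matrix.mul_apply, Fin.sum_univ_two]
    ring
  · simp [Mt, M3, Matrix.mul_apply, Fin.sum_univ_two]
    ring
  · simp [Mt, M3, Matrix.mul_apply, Fin.sum_univ_two]
    linear_combination ht - two

theorem M3_sq {t : F} (ht : t ^ 3 + t + 1 = 0) : M3 t * M3 t = M3 t + 1 := by
  have two : (2 : F) = 0 := CharTwo.two_eq_zero
  ext i j
  fin_cases i <;> fin_cases j
  · simp [M3, Matrix.mul_apply, Fin.sum_univ_two]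
    linear_combination t * ht + (t ^ 2 - t) * two
  · simp [M3, Matrix.mul_apply, Fin.sum_univ_two]
    linear_combination (t + t ^ 3) * two
  · simp [M3, Matrix.mul_apply, Fin.sum_univ_two]
    linear_combination (t + t ^ 3) * two
  · simp [M3, Matrix.mul_apply, Fin.sum_univ_two]
    linear_combination t * ht + t ^ 2 * two

end mats

end Cfsg.Agent.Lib.Helper2.GL52
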