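import Mathlib
import Cfsg.Agent.Lib.Helper2.GL52c

set_option autoImplicit false
set_option linter.unusedSectionVars false
set_option linter.style.haveILetI false

/-!
Sections of `GL₅(2)`, part d: `PSL₂(8)` has an element of order nine.
-/

namespace Cfsg.Agent.Lib.Helper2.GL52

open Matrix

variable {F : Type*} [Field F]

theorem exists_order9 [Fintype F] (hF : Fintype.card F = 8) :
    ∃ x : Matrix.ProjectiveSpecialLinearGroup (Fin 2) F, orderOf x = 9 := by
  haveI : CharP F 2 := Cfsg.Agent.Lib.Helper3.Sz.charP_two_of_card (n := 3) (by rw [hF]; norm_num)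
  haveI : Fact (Nat.Prime 3) := ⟨by norm_num⟩
  have two : (2 : F) = 0 := CharTwo.two_eq_zero
  obtain ⟨t, ht⟩ := exists_root hF
  obtain ⟨m, hmdef⟩ : ∃ m : Matrix.SpecialLinearGroup (Fin 2) F,
      (m : Matrix (Fin 2) (Fin 2) F) = Mt t := ⟨⟨Mt t, Mt_det t⟩, rfl⟩
  have hm3 : ((m ^ 3 : Matrix.SpecialLinearGroup (Fin 2) F) : Matrix (Fin 2) (Fin 2) F) = M3 t := by
    rw [Matrix.SpecialLinearGroup.coe_pow, hmdef, pow_succ, pow_two]
    exact Mt_cube ht
  have hm9 : m ^ 9 = 1 := by
    have e : m ^ 9 = (m ^ 3) ^ 3 := by rw [← pow_mul]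
    have h2 : M3 t + M3 t = 0 := by
      ext i j
      exact CharTwo.add_self_eq_zero _
    have h : ((m ^ 9 : Matrix.SpecialLinearGroup (Fin 2) F) : Matrix (Fin 2) (Fin 2) F) = 1 := by
      rw [e, Matrix.SpecialLinearGroup.coe_pow, hm3, pow_succ, pow_two, M3_sq ht,
        add_mul, one_mul, M3_sq ht]
      calc M3 t + 1 + M3 t = (M3 t + M3 t) + 1 := by abel
        _ = 1 := by rw [h2, zero_add]
    exact Subtype.ext h
  have hnc : m ^ 3 ∉ Subgroup.center (Matrix.SpecialLinearGroup (Fin 2) F) := by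
    rw [Matrix.SpecialLinearGroup.mem_center_iff]
    rintro ⟨r, -, hr⟩
    have h01 := congrFun (congrFun hr 0) 1
    rw [hm3] at h01
    simp [M3] at h01
    have h1 : (1 + t) ^ 2 = 0 := by linear_combination -h01 + t * two
    have h2 : 1 + t = 0 := by
      exact pow_eq_zero_iff (by norm_num) |>.mp h1
    have h3 : t = 1 := by
      have h4 : ∀ y : F, y + y = 0 := CharTwo.add_self_eq_zero
      linear_combination h2 - h4 1
    rw [h3] at ht
    have : (1 : F) = 0 := by linear_combination ht - two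
    exact one_ne_zero this
  refine ⟨QuotientGroup.mk m, ?_⟩
  apply orderOf_eq_prime_pow (p := 3) (n := 1)
  · rw [pow_one, ← QuotientGroup.mk_pow, QuotientGroup.eq_one_iff]
    exact hnc
  · have : (3 : ℕ) ^ (1 + 1) = 9 := by norm_num
    rw [this, ← QuotientGroup.mk_pow, hm9]
    rfl

end Cfsg.Agent.Lib.Helper2.GL52
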