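import Mathlib
import Cfsg.Agent.Lib.Helper2.GL52b
import Cfsg.Agent.Lib.Helper2.GL52d
import Cfsg.Agent.Lib.Helper1.SLCard
import Cfsg.Agent.S1163
import Cfsg.Agent.S0280

set_option autoImplicit false
set_option linter.unusedSectionVars false
set_option linter.style.haveILetI false

/-!
Sections of `GL₅(2)`, part e: orders of sections; the three families.
-/

namespace Cfsg.Agent.Lib.Helper2.GL52

open Matrix

variable {H : Subgroup (GL (Fin 5) (ZMod 2))} {K : Subgroup ↥H} [K.Normal]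

theorem card_section_dvd : Nat.card (↥H ⧸ K) ∣ 9999360 := by
  have h1 : Nat.card (↥H ⧸ K) ∣ Nat.card H :=
    ⟨Nat.card K, Subgroup.card_eq_card_quotient_mul_card_subgroup K⟩
  have h2 : Nat.card H ∣ Nat.card (GL (Fin 5) (ZMod 2)) := Subgroup.card_subgroup_dvd_card H
  rw [card_GL52] at h2
  exact h1.trans h2

theorem no_order9_section (x : ↥H ⧸ K) (hx : orderOf x = 9) : False := by
  obtain ⟨h, rfl⟩ := QuotientGroup.mk_surjective x
  have h1 : orderOf (QuotientGroup.mk' K h) ∣ orderOf h := orderOf_map_dvd (QuotientGroup.mk' K) h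
  rw [QuotientGroup.mk'_apply, hx] at h1
  have h2 := orderOf_pow_orderOf_div (x := h) (n := 9) (orderOf_pos h).ne' h1
  exact no_order9 ((h ^ (orderOf h / 9) : H) : GL (Fin 5) (ZMod 2))
    (by rw [Subgroup.orderOf_coe]; exact h2)

theorem card_PSL2_even {F : Type*} [Field F] [Fintype F] {n : ℕ} (hn : 1 ≤ n)
    (hF : Fintype.card F = 2 ^ n) :
    Nat.card (Matrix.ProjectiveSpecialLinearGroup (Fin 2) F) = 2 ^ n * ((2 ^ n) ^ 2 - 1) := by
  have hc := Cfsg.Agent.Lib.Helper1.card_PSL_field (F := F) 2 (by norm_num)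
  rw [hF, Fin.prod_univ_two] at hc
  obtain ⟨q, hq⟩ : ∃ q : ℕ, q = 2 ^ n := ⟨_, rfl⟩
  have hq2 : 2 ∣ q := by
    rw [hq]
    exact dvd_pow_self 2 (by omega)
  have hqpos : 0 < q := by
    rw [hq]
    positivity
  rw [← hq] at hc ⊢
  generalize Nat.card (Matrix.ProjectiveSpecialLinearGroup (Fin 2) F) = N at hc ⊢
  have hg : Nat.gcd 2 (q - 1) = 1 := by
    have h1 : Nat.gcd 2 (q - 1) ∣ 2 := Nat.gcd_dvd_left _ _
    rcases (Nat.dvd_prime Nat.prime_two).mp h1 with h | h
    · exact h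
    · exfalso
      have h2 : 2 ∣ q - 1 := by
        rw [← h]
        exact Nat.gcd_dvd_right _ _
      omega
  rw [hg, one_mul] at hc
  simp only [Fin.val_zero, pow_zero, Fin.val_one, pow_one] at hc
  have hq1 : 0 < q - 1 := by
    obtain ⟨k, rfl⟩ := hq2
    omega
  have e1 : q ^ 2 - q = (q - 1) * q := by
    rw [Nat.sub_mul, one_mul, sq]
  rw [e1] at hc
  have e2 : (q - 1) * N = (q - 1) * (q * (q ^ 2 - 1)) := by
    rw [hc]
    ring
  exact Nat.eq_of_mul_eq_mul_left hq1 e2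

end Cfsg.Agent.Lib.Helper2.GL52
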