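import Mathlib
import Cfsg.Agent.Lib.Helper2.GL52e

set_option autoImplicit false
set_option linter.unusedSectionVars false
set_option linter.style.haveILetI false

/-!
Sections of `GL₅(2)`, part f: the three families.
-/

namespace Cfsg.Agent.Lib.Helper2.GL52

open Matrix

variable {H : Subgroup (GL (Fin 5) (ZMod 2))} {K : Subgroup ↥H} [K.Normal]

theorem psl_case {n : ℕ} {F : Type} [Field F] [Fintype F] (hn : 2 ≤ n)
    (hF : Fintype.card F = 2 ^ n)
    (e : ↥H ⧸ K ≃* Matrix.ProjectiveSpecialLinearGroup (Fin 2) F) : n = 2 := by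
  have hdvd := card_section_dvd (H := H) (K := K)
  rw [Nat.card_congr e.toEquiv, card_PSL2_even (by omega) hF] at hdvd
  have hn10 : n ≤ 10 := by
    by_contra hlt
    push Not at hlt
    have h1 : 2 ^ 11 ∣ 2 ^ n := pow_dvd_pow 2 hlt
    have h2 : 2 ^ 11 ∣ 9999360 := (h1.trans (dvd_mul_right _ _)).trans hdvd
    norm_num at h2
  interval_cases n
  · rfl
  · exfalso
    have hF8 : Fintype.card F = 8 := by rw [hF]; norm_num
    obtain ⟨x, hx⟩ := exists_order9 hF8
    apply no_order9_section (H := H) (K := K) (e.symm x)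
    rw [← hx]
    exact orderOf_injective e.symm.toMonoidHom e.symm.injective x
  all_goals (exfalso; norm_num at hdvd)

theorem sz_case {m : ℕ} {F : Type} [Field F] [Fintype F] (hm : 1 ≤ m)
    (hF : Fintype.card F = 2 ^ (2 * m + 1))
    (e : ↥H ⧸ K ≃* ↥(Cfsg.Lie.Sz F (2 ^ (m + 1)))) : False := by
  have hdvd := card_section_dvd (H := H) (K := K)
  rw [Nat.card_congr e.toEquiv, (Cfsg.Agent.S1163.result hm hF).1] at hdvd
  have hm2 : m ≤ 2 := by
    by_contra hlt
    push Not at hlt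
    have h1 : 2 ^ 11 ∣ (2 ^ (2 * m + 1)) ^ 2 := by
      rw [← pow_mul]
      exact pow_dvd_pow 2 (by omega)
    have h2 : 2 ^ 11 ∣ 9999360 :=
      ((h1.trans (dvd_mul_right _ _)).trans (dvd_mul_right _ _)).trans hdvd
    norm_num at h2
  interval_cases m
  all_goals norm_num at hdvd

theorem psu_case {n : ℕ} {F : Type} [Field F] [Fintype F] (hn : 2 ≤ n)
    (hF : Fintype.card F = 4 ^ n)
    (e : ↥H ⧸ K ≃* Cfsg.PSU 3 F (2 ^ n)) : False := by
  have hdvd := card_section_dvd (H := H) (K := K)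
  rw [Nat.card_congr e.toEquiv] at hdvd
  have hF' : Fintype.card F = (2 ^ n) ^ 2 := by
    rw [hF, show (4 : ℕ) = 2 ^ 2 by norm_num, ← pow_mul, ← pow_mul, mul_comm]
  have h := Cfsg.Agent.S0280.result hF' 3 (by norm_num)
  have hprod : ∀ q : ℕ, ∏ i ∈ Finset.range 3,
      (if Even i then q ^ (i + 1) + 1 else q ^ (i + 1) - 1) =
      (q + 1) * (q ^ 2 - 1) * (q ^ 3 + 1) := by
    intro q
    rw [Finset.prod_range_succ, Finset.prod_range_succ, Finset.prod_range_one,
      if_pos (by decide), if_neg (by decide), if_pos (by decide)]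
    simp
  have e32 : 3 * (3 - 1) / 2 = 3 := by norm_num
  rw [hprod, e32] at h
  generalize Nat.card (Cfsg.PSU 3 F (2 ^ n)) = P at h hdvd
  have hn3 : n ≤ 3 := by
    by_contra hlt
    push Not at hlt
    have h1 : 2 ^ 11 ∣ (2 ^ n) ^ 3 := by
      rw [← pow_mul]
      exact pow_dvd_pow 2 (by omega)
    have h2 : 2 ^ 11 ∣ P * (Nat.gcd 3 (2 ^ n + 1) * (2 ^ n + 1)) := by
      have : P * (Nat.gcd 3 (2 ^ n + 1) * (2 ^ n + 1)) =
          Nat.gcd 3 (2 ^ n + 1) * ((2 ^ n + 1) * P) := by ring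
      rw [this, h]
      exact (h1.trans (dvd_mul_right _ _))
    have hodd : ¬ 2 ∣ Nat.gcd 3 (2 ^ n + 1) * (2 ^ n + 1) := by
      intro hd
      rcases (Nat.Prime.dvd_mul Nat.prime_two).mp hd with h3 | h3
      · have := h3.trans (Nat.gcd_dvd_left 3 _)
        omega
      · have h4 : 2 ∣ 2 ^ n := dvd_pow_self 2 (by omega)
        omega
    have hcop : Nat.Coprime (2 ^ 11) (Nat.gcd 3 (2 ^ n + 1) * (2 ^ n + 1)) :=
      Nat.Coprime.pow_left 11 ((Nat.Prime.coprime_iff_not_dvd Nat.prime_two).mpr hodd)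
    have h5 : 2 ^ 11 ∣ P := hcop.dvd_of_dvd_mul_right h2
    have h6 : 2 ^ 11 ∣ 9999360 := h5.trans hdvd
    norm_num at h6
  interval_cases n
  · norm_num at h
    have : P = 62400 := by omega
    rw [this] at hdvd
    norm_num at hdvd
  · norm_num at h
    have : P = 5515776 := by omega
    rw [this] at hdvd
    norm_num at hdvd

end Cfsg.Agent.Lib.Helper2.GL52
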