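import Mathlib
import Cfsg.Prelude.Def_ClassicalGeometry
import Cfsg.Agent.Lib.Helper2.GUIsom

set_option autoImplicit false

namespace Cfsg.Agent.Lib.Helper2

namespace GLParabolic

open Matrix

variable {F : Type*} [Field F] {n : ℕ}

/-- the coordinate subspace spanned by the first `k` basis vectors -/
def U (F : Type*) [Field F] (n k : ℕ) : Submodule F (Fin n → F) where
  carrier := {v | ∀ i : Fin n, k ≤ (i : ℕ) → v i = 0}
  add_mem' := by
    intro a b ha hb i hi
    rw [Pi.add_apply, ha i hi, hb i hi, add_zero]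
  zero_mem' := fun _ _ => rfl
  smul_mem' := by
    intro c x hx i hi
    rw [Pi.smul_apply, hx i hi, smul_zero]

theorem mem_U (k : ℕ) (v : Fin n → F) : v ∈ U F n k ↔ ∀ i : Fin n, k ≤ (i : ℕ) → v i = 0 := Iff.rfl

theorem single_mem_U (k : ℕ) (j : Fin n) (hj : (j : ℕ) < k) : (Pi.single j 1 : Fin n → F) ∈ U F n k := by
  intro i hi
  rw [Pi.single_eq_of_ne]
  intro h
  rw [h] at hi
  omega

theorem single_notMem_U (k : ℕ) (j : Fin n) (hj : k ≤ (j : ℕ)) :
    (Pi.single j 1 : Fin n → F) ∉ U F n k := by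
  intro h
  have := h j hj
  rw [Pi.single_eq_same] at this
  exact one_ne_zero this

/-- vanishing of the lower left block -/
def BlockZero (k : ℕ) (M : Matrix (Fin n) (Fin n) F) : Prop :=
  ∀ i j : Fin n, k ≤ (i : ℕ) → (j : ℕ) < k → M i j = 0

theorem blockZero_iff (k : ℕ) (M : Matrix (Fin n) (Fin n) F) :
    BlockZero k M ↔ ∀ v ∈ U F n k, M *ᵥ v ∈ U F n k := by
  constructor
  · intro h v hv i hi
    rw [Matrix.mulVec, dotProduct]
    apply Finset.sum_eq_zero
    intro j _
    by_cases hj : (j : ℕ) < k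
    · rw [h i j hi hj, zero_mul]
    · rw [hv j (by omega), mul_zero]
  · intro h i j hi hj
    have := h _ (single_mem_U (F := F) k j hj) i hi
    rw [Matrix.mulVec_single_one, Matrix.col_apply] at this
    exact this

theorem mem_stab_iff (k : ℕ) (g : GL (Fin n) F) :
    g ∈ Cfsg.stabilizing (Cfsg.glToMat (Fin n) F) {v : Fin n → F | ∀ i : Fin n, k ≤ (i : ℕ) → v i = 0} ↔
      BlockZero k (g : Matrix (Fin n) (Fin n) F) ∧
        BlockZero k ((g⁻¹ : GL (Fin n) F) : Matrix (Fin n) (Fin n) F) := by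
  have hmem : g ∈ Cfsg.stabilizing (Cfsg.glToMat (Fin n) F)
      {v : Fin n → F | ∀ i : Fin n, k ≤ (i : ℕ) → v i = 0} ↔
      ∀ v, v ∈ U F n k ↔ (g : Matrix (Fin n) (Fin n) F) *ᵥ v ∈ U F n k := Iff.rfl
  rw [hmem, blockZero_iff, blockZero_iff]
  have hinv : ∀ v, ((g⁻¹ : GL (Fin n) F) : Matrix (Fin n) (Fin n) F) *ᵥ
      ((g : Matrix (Fin n) (Fin n) F) *ᵥ v) = v := by
    intro v
    rw [Matrix.mulVec_mulVec, ← Units.val_mul, inv_mul_cancel, Units.val_one, Matrix.one_mulVec]
  have hinv' : ∀ v, (g : Matrix (Fin n) (Fin n) F) *ᵥ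
      (((g⁻¹ : GL (Fin n) F) : Matrix (Fin n) (Fin n) F) *ᵥ v) = v := by
    intro v
    rw [Matrix.mulVec_mulVec, ← Units.val_mul, mul_inv_cancel, Units.val_one, Matrix.one_mulVec]
  constructor
  · intro h
    refine ⟨fun v hv => (h v).1 hv, fun v hv => ?_⟩
    rw [h, hinv']
    exact hv
  · rintro ⟨h1, h2⟩ v
    refine ⟨h1 v, fun hv => ?_⟩
    have := h2 _ hv
    rwa [hinv] at this

/-- the anti-automorphism: transpose and reverse -/
def tau (M : Matrix (Fin n) (Fin n) F) : Matrix (Fin n) (Fin n) F :=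
  Matrix.of fun i j => M j.rev i.rev

theorem tau_apply (M : Matrix (Fin n) (Fin n) F) (i j : Fin n) : tau M i j = M j.rev i.rev := rfl

theorem tau_mul (M N : Matrix (Fin n) (Fin n) F) : tau (M * N) = tau N * tau M := by
  ext i j
  rw [tau_apply, Matrix.mul_apply, Matrix.mul_apply]
  rw [← Equiv.sum_comp Fin.revPerm]
  apply Finset.sum_congr rfl
  intro l _
  rw [tau_apply, tau_apply, Fin.revPerm_apply, mul_comm]

theorem tau_one : tau (1 : Matrix (Fin n) (Fin n) F) = 1 := by
  ext i j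
  rw [tau_apply, Matrix.one_apply, Matrix.one_apply]
  by_cases h : i = j
  · rw [if_pos h, if_pos (by rw [h])]
  · rw [if_neg h, if_neg]
    intro h'
    exact h (Fin.rev_injective h').symm

theorem tau_tau (M : Matrix (Fin n) (Fin n) F) : tau (tau M) = M := by
  ext i j
  rw [tau_apply, tau_apply, Fin.rev_rev, Fin.rev_rev]

theorem blockZero_tau (k : ℕ) (M : Matrix (Fin n) (Fin n) F) (h : BlockZero k M) :
    BlockZero (n - k) (tau M) := by
  intro i j hi hj
  rw [tau_apply]
  apply h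
  · rw [Fin.val_rev]; omega
  · rw [Fin.val_rev]; have := i.2; omega

theorem blockZero_tau_iff (k : ℕ) (hk : k ≤ n) (M : Matrix (Fin n) (Fin n) F) :
    BlockZero k M ↔ BlockZero (n - k) (tau M) := by
  refine ⟨blockZero_tau k M, fun h => ?_⟩
  have := blockZero_tau (n - k) (tau M) h
  rw [tau_tau] at this
  have e : n - (n - k) = k := by omega
  rwa [e] at this

/-- the inverse transpose reversed, as an automorphism of the general linear group -/
def theta (n : ℕ) (F : Type*) [Field F] : GL (Fin n) F ≃* GL (Fin n) F where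
  toFun g := ⟨tau ((g⁻¹ : GL (Fin n) F) : Matrix (Fin n) (Fin n) F),
    tau (g : Matrix (Fin n) (Fin n) F),
    by rw [← tau_mul, ← Units.val_mul, mul_inv_cancel, Units.val_one, tau_one],
    by rw [← tau_mul, ← Units.val_mul, inv_mul_cancel, Units.val_one, tau_one]⟩
  invFun g := ⟨tau ((g⁻¹ : GL (Fin n) F) : Matrix (Fin n) (Fin n) F),
    tau (g : Matrix (Fin n) (Fin n) F),
    by rw [← tau_mul, ← Units.val_mul, mul_inv_cancel, Units.val_one, tau_one],
    by rw [← tau_mul, ← Units.val_mul, inv_mul_cancel, Units.val_one, tau_one]⟩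
  left_inv g := by
    apply Units.ext
    show tau (tau (g : Matrix (Fin n) (Fin n) F)) = _
    exact tau_tau _
  right_inv g := by
    apply Units.ext
    show tau (tau (g : Matrix (Fin n) (Fin n) F)) = _
    exact tau_tau _
  map_mul' g h := by
    apply Units.ext
    show tau (((g * h)⁻¹ : GL (Fin n) F) : Matrix (Fin n) (Fin n) F) =
      tau ((g⁻¹ : GL (Fin n) F) : Matrix (Fin n) (Fin n) F) *
        tau ((h⁻¹ : GL (Fin n) F) : Matrix (Fin n) (Fin n) F)
    rw [_root_.mul_inv_rev, Units.val_mul, tau_mul]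

theorem theta_coe (g : GL (Fin n) F) :
    ((theta n F g : GL (Fin n) F) : Matrix (Fin n) (Fin n) F) =
      tau ((g⁻¹ : GL (Fin n) F) : Matrix (Fin n) (Fin n) F) := rfl

theorem theta_inv_coe (g : GL (Fin n) F) :
    (((theta n F g)⁻¹ : GL (Fin n) F) : Matrix (Fin n) (Fin n) F) =
      tau (g : Matrix (Fin n) (Fin n) F) := rfl

/-- the isomorphism between the stabilizers of complementary dimensions -/
noncomputable def stabEquiv (k : ℕ) (hk : k ≤ n) :
    ↥(Cfsg.stabilizing (Cfsg.glToMat (Fin n) F)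
      {v : Fin n → F | ∀ i : Fin n, k ≤ (i : ℕ) → v i = 0}) ≃*
    ↥(Cfsg.stabilizing (Cfsg.glToMat (Fin n) F)
      {v : Fin n → F | ∀ i : Fin n, n - k ≤ (i : ℕ) → v i = 0}) :=
  GUIsom.equivOfMemIff (theta n F) _ _ (by
    intro g
    rw [mem_stab_iff, mem_stab_iff, theta_coe, theta_inv_coe, ← blockZero_tau_iff k hk,
      ← blockZero_tau_iff k hk]
    exact and_comm)

end GLParabolic

end Cfsg.Agent.Lib.Helper2
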