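import Mathlib
import Cfsg.Agent.Lib.Helper2.GLParabolic

set_option autoImplicit false

namespace Cfsg.Agent.Lib.Helper2

namespace GLParabolic

open Matrix

variable {F : Type*} [Field F] {n : ℕ}

/-- the stabilizer of the coordinate subspace -/
abbrev P (F : Type*) [Field F] (n k : ℕ) : Subgroup (GL (Fin n) F) :=
  Cfsg.stabilizing (Cfsg.glToMat (Fin n) F) {v : Fin n → F | ∀ i : Fin n, k ≤ (i : ℕ) → v i = 0}

theorem mem_P_iff (k : ℕ) (g : GL (Fin n) F) :
    g ∈ P F n k ↔ ∀ v, v ∈ U F n k ↔ (g : Matrix (Fin n) (Fin n) F) *ᵥ v ∈ U F n k := Iff.rfl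

/-- transvections as invertible matrices -/
def tGL (i j : Fin n) (hij : i ≠ j) (c : F) : GL (Fin n) F :=
  ⟨Matrix.transvection i j c, Matrix.transvection i j (-c),
    by rw [Matrix.transvection_mul_transvection_same _ _ hij, add_neg_cancel,
      Matrix.transvection_zero],
    by rw [Matrix.transvection_mul_transvection_same _ _ hij, neg_add_cancel,
      Matrix.transvection_zero]⟩

theorem blockZero_transvection (k : ℕ) (i j : Fin n) (hallow : ¬ (k ≤ (i : ℕ) ∧ (j : ℕ) < k))
    (c : F) : BlockZero k (Matrix.transvection i j c) := by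
  intro i' j' hi' hj'
  unfold Matrix.transvection
  rw [Matrix.add_apply, Matrix.one_apply, Matrix.single_apply, if_neg, if_neg, add_zero]
  · rintro ⟨rfl, rfl⟩
    exact hallow ⟨hi', hj'⟩
  · intro h
    rw [h] at hi'
    omega

theorem tGL_mem (k : ℕ) (i j : Fin n) (hij : i ≠ j)
    (hallow : ¬ (k ≤ (i : ℕ) ∧ (j : ℕ) < k)) (c : F) : tGL i j hij c ∈ P F n k := by
  rw [mem_stab_iff]
  exact ⟨blockZero_transvection k i j hallow c, blockZero_transvection k i j hallow (-c)⟩

theorem transvection_mulVec (i j : Fin n) (c : F) (x : Fin n → F) :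
    Matrix.transvection i j c *ᵥ x = x + (c * x j) • Pi.single i 1 := by
  unfold Matrix.transvection
  rw [Matrix.add_mulVec, Matrix.one_mulVec, Matrix.single_mulVec]
  congr 1
  ext l
  by_cases h : l = i
  · subst h; simp
  · simp [h]

section invariant

variable (k : ℕ) (X : Submodule F (Fin n → F))
  (hX : ∀ g ∈ P F n k, ∀ x ∈ X, (g : Matrix (Fin n) (Fin n) F) *ᵥ x ∈ X)

include hX in
theorem single_mem_of_allowed {x : Fin n → F} (hx : x ∈ X) (i j : Fin n) (hij : i ≠ j)
    (hallow : ¬ (k ≤ (i : ℕ) ∧ (j : ℕ) < k)) (hxj : x j ≠ 0) :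
    (Pi.single i 1 : Fin n → F) ∈ X := by
  have h1 := hX _ (tGL_mem k i j hij hallow 1) x hx
  have h2 : ((tGL i j hij (1 : F) : GL (Fin n) F) : Matrix (Fin n) (Fin n) F) *ᵥ x =
      x + (1 * x j) • Pi.single i 1 := transvection_mulVec i j 1 x
  rw [h2, one_mul] at h1
  have h3 : (x j) • (Pi.single i 1 : Fin n → F) ∈ X := by
    have := X.sub_mem h1 hx
    rwa [add_sub_cancel_left] at this
  have h4 := X.smul_mem (x j)⁻¹ h3
  rwa [smul_smul, inv_mul_cancel₀ hxj, one_smul] at h4

omit hX in
theorem single_mem_of_others {x : Fin n → F} (hx : x ∈ X) (j : Fin n) (hxj : x j ≠ 0)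
    (h : ∀ i, i ≠ j → x i ≠ 0 → (Pi.single i 1 : Fin n → F) ∈ X) :
    (Pi.single j 1 : Fin n → F) ∈ X := by
  classical
  have h1 : x = ∑ i, x i • (Pi.single i 1 : Fin n → F) := pi_eq_sum_univ' x
  rw [← Finset.add_sum_erase Finset.univ _ (Finset.mem_univ j)] at h1
  have h2 : ∑ i ∈ Finset.univ.erase j, x i • (Pi.single i 1 : Fin n → F) ∈ X := by
    apply Submodule.sum_mem
    intro i hi
    by_cases hxi : x i = 0
    · rw [hxi, zero_smul]; exact X.zero_mem
    · exact X.smul_mem _ (h i (Finset.ne_of_mem_erase hi) hxi)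
  have h3 : x j • (Pi.single j 1 : Fin n → F) ∈ X := by
    have e : x j • (Pi.single j 1 : Fin n → F) =
        x - ∑ i ∈ Finset.univ.erase j, x i • (Pi.single i 1 : Fin n → F) := by
      rw [eq_sub_iff_add_eq]
      exact h1.symm
    rw [e]
    exact X.sub_mem hx h2
  have h4 := X.smul_mem (x j)⁻¹ h3
  rwa [smul_smul, inv_mul_cancel₀ hxj, one_smul] at h4

include hX in
/-- the invariant subspaces of a maximal parabolic -/
theorem invariant_subspace : X = ⊥ ∨ X = U F n k ∨ X = ⊤ := by
  classical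
  by_cases hX0 : X = ⊥
  · left; exact hX0
  right
  by_cases hXU : X ≤ U F n k
  · left
    apply le_antisymm hXU
    obtain ⟨x, hx, hx0⟩ := Submodule.exists_mem_ne_zero_of_ne_bot hX0
    obtain ⟨j, hj⟩ : ∃ j, x j ≠ 0 := by
      by_contra hcon
      push Not at hcon
      exact hx0 (funext hcon)
    have hjk : (j : ℕ) < k := by
      by_contra hge
      exact hj (hXU hx j (by omega))
    have hej : (Pi.single j 1 : Fin n → F) ∈ X := by
      apply single_mem_of_others X hx j hj
      intro i hij hxi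
      have hik : (i : ℕ) < k := by
        by_contra hge
        exact hxi (hXU hx i (by omega))
      exact single_mem_of_allowed k X hX hx i j hij (by omega) hj
    have hall : ∀ i : Fin n, (i : ℕ) < k → (Pi.single i 1 : Fin n → F) ∈ X := by
      intro i hik
      by_cases hij : i = j
      · rw [hij]; exact hej
      · exact single_mem_of_allowed k X hX hej i j hij (by omega)
          (by rw [Pi.single_eq_same]; exact one_ne_zero)
    intro v hv
    rw [pi_eq_sum_univ' v]
    apply Submodule.sum_mem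
    intro i _
    by_cases hik : (i : ℕ) < k
    · exact X.smul_mem _ (hall i hik)
    · rw [hv i (by omega), zero_smul]; exact X.zero_mem
  · right
    rw [SetLike.not_le_iff_exists] at hXU
    obtain ⟨x, hx, hxU⟩ := hXU
    obtain ⟨j, hjk, hj⟩ : ∃ j : Fin n, k ≤ (j : ℕ) ∧ x j ≠ 0 := by
      by_contra hcon
      push Not at hcon
      exact hxU (fun i hi => hcon i hi)
    have hothers : ∀ i, i ≠ j → (Pi.single i 1 : Fin n → F) ∈ X := by
      intro i hij
      exact single_mem_of_allowed k X hX hx i j hij (by omega) hj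
    have hej : (Pi.single j 1 : Fin n → F) ∈ X :=
      single_mem_of_others X hx j hj (fun i hij _ => hothers i hij)
    rw [eq_top_iff]
    intro v _
    rw [pi_eq_sum_univ' v]
    apply Submodule.sum_mem
    intro i _
    by_cases hij : i = j
    · rw [hij]; exact X.smul_mem _ hej
    · exact X.smul_mem _ (hothers i hij)

end invariant

/-- non-conjugacy of the stabilizers of complementary dimensions -/
theorem not_conj [Finite F] (k : ℕ) (hk0 : 0 < k) (hkn : k < n) (h2 : 2 * k ≠ n)
    (g : GL (Fin n) F) :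
    (P F n k).map (MulAut.conj g).toMonoidHom ≠ P F n (n - k) := by
  classical
  intro heq
  have hgg : ∀ v, ((g⁻¹ : GL (Fin n) F) : Matrix (Fin n) (Fin n) F) *ᵥ
      ((g : Matrix (Fin n) (Fin n) F) *ᵥ v) = v := by
    intro v
    rw [Matrix.mulVec_mulVec, ← Units.val_mul, inv_mul_cancel, Units.val_one, Matrix.one_mulVec]
  have hgg' : ∀ v, (g : Matrix (Fin n) (Fin n) F) *ᵥ
      (((g⁻¹ : GL (Fin n) F) : Matrix (Fin n) (Fin n) F) *ᵥ v) = v := by
    intro v
    rw [Matrix.mulVec_mulVec, ← Units.val_mul, mul_inv_cancel, Units.val_one, Matrix.one_mulVec]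
  set X : Submodule F (Fin n → F) :=
    (U F n (n - k)).comap (Matrix.mulVecLin (g : Matrix (Fin n) (Fin n) F)) with hXdef
  have hXmem : ∀ x, x ∈ X ↔ (g : Matrix (Fin n) (Fin n) F) *ᵥ x ∈ U F n (n - k) := by
    intro x
    rw [hXdef, Submodule.mem_comap, Matrix.mulVecLin_apply]
  have hX : ∀ p ∈ P F n k, ∀ x ∈ X, (p : Matrix (Fin n) (Fin n) F) *ᵥ x ∈ X := by
    intro p hp x hx
    have h1 : (MulAut.conj g).toMonoidHom p ∈ P F n (n - k) := by
      rw [← heq]
      exact Subgroup.mem_map_of_mem _ hp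
    have h2 : (MulAut.conj g).toMonoidHom p = g * p * g⁻¹ := rfl
    rw [h2, mem_P_iff] at h1
    rw [hXmem] at hx ⊢
    have h3 := (h1 _).1 hx
    have h4 : ((g * p * g⁻¹ : GL (Fin n) F) : Matrix (Fin n) (Fin n) F) *ᵥ
        ((g : Matrix (Fin n) (Fin n) F) *ᵥ x) =
        (g : Matrix (Fin n) (Fin n) F) *ᵥ ((p : Matrix (Fin n) (Fin n) F) *ᵥ x) := by
      rw [Units.val_mul, Units.val_mul, ← Matrix.mulVec_mulVec, hgg, ← Matrix.mulVec_mulVec]
    rwa [h4] at h3
  have hn0 : 0 < n := by omega
  rcases invariant_subspace k X hX with h | h | h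
  · -- X = ⊥
    set e0 : Fin n → F := Pi.single ⟨0, hn0⟩ 1 with he0
    have h1 : ((g⁻¹ : GL (Fin n) F) : Matrix (Fin n) (Fin n) F) *ᵥ e0 ∈ X := by
      rw [hXmem, hgg']
      exact single_mem_U (n - k) _ (by simp; omega)
    rw [h, Submodule.mem_bot] at h1
    have h3 := hgg' e0
    rw [h1, Matrix.mulVec_zero] at h3
    have h4 := congrFun h3 ⟨0, hn0⟩
    rw [he0, Pi.single_eq_same] at h4
    exact zero_ne_one h4
  · -- X = U k
    have hiff : ∀ x, x ∈ U F n k ↔ (g : Matrix (Fin n) (Fin n) F) *ᵥ x ∈ U F n (n - k) := by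
      intro x
      rw [← h, hXmem]
    have himg : (fun x => (g : Matrix (Fin n) (Fin n) F) *ᵥ x) '' (U F n k : Set (Fin n → F)) =
        (U F n (n - k) : Set (Fin n → F)) := by
      ext y
      constructor
      · rintro ⟨x, hx, rfl⟩
        exact (hiff x).1 hx
      · intro hy
        refine ⟨((g⁻¹ : GL (Fin n) F) : Matrix (Fin n) (Fin n) F) *ᵥ y, ?_, hgg' y⟩
        rw [SetLike.mem_coe, hiff, hgg']
        exact hy
    have hinj : Function.Injective (fun x => (g : Matrix (Fin n) (Fin n) F) *ᵥ x) := by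
      intro a b hab
      have := congrArg (fun v => ((g⁻¹ : GL (Fin n) F) : Matrix (Fin n) (Fin n) F) *ᵥ v) hab
      simpa [hgg] using this
    have hcard : (U F n (n - k) : Set (Fin n → F)).ncard = (U F n k : Set (Fin n → F)).ncard := by
      rw [← himg, Set.ncard_image_of_injective _ hinj]
    rcases Nat.lt_or_ge k (n - k) with hlt | hge
    · have hss : (U F n k : Set (Fin n → F)) ⊂ (U F n (n - k) : Set (Fin n → F)) := by
        refine ⟨fun v hv i hi => hv i (by omega), fun hsub => ?_⟩
        have hmem : (Pi.single ⟨k, hkn⟩ 1 : Fin n → F) ∈ (U F n (n - k) : Set (Fin n → F)) :=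
          single_mem_U (n - k) _ (by simpa using hlt)
        exact single_notMem_U k _ (by simp) (hsub hmem)
      have := Set.ncard_lt_ncard hss (Set.toFinite _)
      omega
    · have hgt : n - k < k := by omega
      have hss : (U F n (n - k) : Set (Fin n → F)) ⊂ (U F n k : Set (Fin n → F)) := by
        refine ⟨fun v hv i hi => hv i (by omega), fun hsub => ?_⟩
        have hmem : (Pi.single ⟨n - k, by omega⟩ 1 : Fin n → F) ∈ (U F n k : Set (Fin n → F)) :=
          single_mem_U k _ (by simpa using hgt)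
        exact single_notMem_U (n - k) _ (by simp) (hsub hmem)
      have := Set.ncard_lt_ncard hss (Set.toFinite _)
      omega
  · -- X = ⊤
    set el : Fin n → F := Pi.single ⟨n - 1, by omega⟩ 1 with hel
    have h1 : ((g⁻¹ : GL (Fin n) F) : Matrix (Fin n) (Fin n) F) *ᵥ el ∈ X := by
      rw [h]; trivial
    rw [hXmem, hgg'] at h1
    exact single_notMem_U (n - k) _ (by simp; omega) h1

end GLParabolic

end Cfsg.Agent.Lib.Helper2
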