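import Mathlib
import Cfsg.Agent.Lib.Helper2.GLParabolic2
import Cfsg.Agent.Lib.Helper5.GLBruhat2

set_option autoImplicit false

namespace Cfsg.Agent.Lib.Helper2

namespace GLParabolic

open Matrix Cfsg.Agent.Lib.Helper5.GLBruhat

variable {F : Type*} [Field F] {n : ℕ}

theorem upper_le_P (k : ℕ) : Cfsg.upperTriangularGL n F ≤ P F n k := by
  have key : ∀ g : GL (Fin n) F, g ∈ Cfsg.upperTriangularGL n F →
      BlockZero k (g : Matrix (Fin n) (Fin n) F) := by
    intro g hg i j hi hj
    have hg' : (g : Matrix (Fin n) (Fin n) F).BlockTriangular id := hg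
    apply hg'
    show j < i
    rw [Fin.lt_def]
    omega
  intro g hg
  rw [mem_stab_iff]
  exact ⟨key g hg, key g⁻¹ ((Cfsg.upperTriangularGL n F).inv_mem hg)⟩

theorem blockZero_pmat (k : ℕ) (σ : Equiv.Perm (Fin n)) :
    BlockZero k (pmat σ : Matrix (Fin n) (Fin n) F) ↔ ∀ j : Fin n, (j : ℕ) < k → ((σ j : Fin n) : ℕ) < k := by
  constructor
  · intro h j hj
    by_contra hge
    have := h (σ j) j (by omega) hj
    rw [pmat_apply, if_pos rfl] at this
    exact one_ne_zero this
  · intro h i j hi hj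
    rw [pmat_apply, if_neg]
    rintro rfl
    have := h j hj
    omega

theorem permGL_mem_P_iff (k : ℕ) (σ : Equiv.Perm (Fin n)) :
    (permGL σ : GL (Fin n) F) ∈ P F n k ↔
      (∀ j : Fin n, (j : ℕ) < k → ((σ j : Fin n) : ℕ) < k) ∧
        ∀ j : Fin n, (j : ℕ) < k → ((σ⁻¹ j : Fin n) : ℕ) < k := by
  rw [mem_stab_iff, ← map_inv, coe_permGL, coe_permGL, blockZero_pmat, blockZero_pmat]

theorem pmat_mulVec_single (σ : Equiv.Perm (Fin n)) (j : Fin n) :
    (pmat σ : Matrix (Fin n) (Fin n) F) *ᵥ Pi.single j 1 = Pi.single (σ j) 1 := by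
  funext x
  rw [pmat_mulVec]
  by_cases h : x = σ j
  · rw [h, Pi.single_eq_same]
    simp
  · rw [Pi.single_eq_of_ne h, Pi.single_eq_of_ne]
    intro h'
    apply h
    rw [← h']
    simp

/-- conjugating a transvection by a permutation matrix -/
theorem conj_tGL (σ : Equiv.Perm (Fin n)) (a b : Fin n) (hab : a ≠ b) (c : F) :
    (permGL σ : GL (Fin n) F) * tGL a b hab c * (permGL σ)⁻¹ =
      tGL (σ a) (σ b) (fun h => hab (σ.injective h)) c := by
  apply Units.ext
  apply Matrix.mulVec_injective
  funext v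
  rw [Units.val_mul, Units.val_mul, ← Matrix.mulVec_mulVec, ← Matrix.mulVec_mulVec]
  show (pmat σ : Matrix (Fin n) (Fin n) F) *ᵥ (Matrix.transvection a b c *ᵥ
    (((permGL σ)⁻¹ : GL (Fin n) F) : Matrix (Fin n) (Fin n) F) *ᵥ v) =
    Matrix.transvection (σ a) (σ b) c *ᵥ v
  have hinv : (((permGL σ)⁻¹ : GL (Fin n) F) : Matrix (Fin n) (Fin n) F) = pmat σ⁻¹ := by
    rw [← map_inv, coe_permGL]
  rw [hinv, transvection_mulVec, transvection_mulVec, Matrix.mulVec_add, Matrix.mulVec_smul,
    pmat_mulVec_single, Matrix.mulVec_mulVec, pmat_mul, mul_inv_cancel, pmat_one,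
    Matrix.one_mulVec, pmat_mulVec, inv_inv]

/-- invertible diagonal matrices -/
def dGL (D : Fin n → F) (hD : ∀ i, D i ≠ 0) : GL (Fin n) F :=
  ⟨Matrix.diagonal D, Matrix.diagonal (fun i => (D i)⁻¹),
    by
      rw [Matrix.diagonal_mul_diagonal, ← Matrix.diagonal_one]
      congr 1
      funext i
      exact mul_inv_cancel₀ (hD i),
    by
      rw [Matrix.diagonal_mul_diagonal, ← Matrix.diagonal_one]
      congr 1
      funext i
      exact inv_mul_cancel₀ (hD i)⟩

theorem blockZero_diagonal (k : ℕ) (D : Fin n → F) : BlockZero k (Matrix.diagonal D) := by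
  intro i j hi hj
  rw [Matrix.diagonal_apply, if_neg]
  intro h
  rw [h] at hi
  omega

theorem dGL_mem_P (k : ℕ) (D : Fin n → F) (hD : ∀ i, D i ≠ 0) : dGL D hD ∈ P F n k := by
  rw [mem_stab_iff]
  exact ⟨blockZero_diagonal k D, blockZero_diagonal k _⟩

/-- a subgroup containing all transvections and the parabolic is everything -/
theorem eq_top_of_transvections (k : ℕ) (H : Subgroup (GL (Fin n) F)) (hPH : P F n k ≤ H)
    (hT : ∀ (i j : Fin n) (hij : i ≠ j) (c : F), tGL i j hij c ∈ H) : H = ⊤ := by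
  classical
  rw [eq_top_iff]
  intro g _
  have key : ∀ M : Matrix (Fin n) (Fin n) F, M.det ≠ 0 →
      ∃ h ∈ H, ((h : GL (Fin n) F) : Matrix (Fin n) (Fin n) F) = M := by
    intro M hM
    apply Matrix.diagonal_transvection_induction_of_det_ne_zero
      (fun M => ∃ h ∈ H, ((h : GL (Fin n) F) : Matrix (Fin n) (Fin n) F) = M) M hM
    · intro D hD
      rw [Matrix.det_diagonal] at hD
      have hD' : ∀ i, D i ≠ 0 := by
        intro i hi
        apply hD
        exact Finset.prod_eq_zero (Finset.mem_univ i) hi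
      exact ⟨dGL D hD', hPH (dGL_mem_P k D hD'), rfl⟩
    · intro t
      exact ⟨tGL t.i t.j t.hij t.c, hT _ _ _ _, rfl⟩
    · rintro A B _ _ ⟨a, ha, rfl⟩ ⟨b, hb, rfl⟩
      exact ⟨a * b, H.mul_mem ha hb, rfl⟩
  have hdet : (g : Matrix (Fin n) (Fin n) F).det ≠ 0 := by
    have := Matrix.GeneralLinearGroup.det g
    intro h0
    have h1 : ((Matrix.GeneralLinearGroup.det g : Fˣ) : F) = 0 := h0
    exact (Matrix.GeneralLinearGroup.det g).ne_zero h1
  obtain ⟨h, hh, hhg⟩ := key _ hdet
  have : h = g := Units.ext hhg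
  rw [← this]
  exact hh

/-- maximality of the maximal parabolics -/
theorem isCoatom_P (k : ℕ) (hk0 : 0 < k) (hkn : k < n) : IsCoatom (P F n k) := by
  classical
  have hn0 : 0 < n := by omega
  set z : Fin n := ⟨0, hn0⟩ with hz
  set y : Fin n := ⟨k, hkn⟩ with hy
  have hyz : y ≠ z := by
    intro h
    have := congrArg Fin.val h
    simp only [hy, hz] at this
    omega
  constructor
  · intro htop
    have : tGL y z hyz (1 : F) ∈ P F n k := by rw [htop]; trivial
    rw [mem_stab_iff] at this
    have h1 := this.1 y z (by simp [hy]) (by simp [hz]; exact hk0)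
    have h2 : ((tGL y z hyz (1 : F) : GL (Fin n) F) : Matrix (Fin n) (Fin n) F) y z = 1 := by
      show Matrix.transvection y z (1 : F) y z = 1
      unfold Matrix.transvection
      rw [Matrix.add_apply, Matrix.one_apply, if_neg hyz, Matrix.single_apply, if_pos ⟨rfl, rfl⟩,
        zero_add]
    rw [h2] at h1
    exact one_ne_zero h1
  · intro H hH
    obtain ⟨hle, h, hhH, hhP⟩ := SetLike.lt_iff_le_and_exists.1 hH
    -- reduce to a permutation matrix
    obtain ⟨σ, p, hp, p', hp', hpp⟩ := exists_bruhat_GL h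
    have hpH : p ∈ H := hle (upper_le_P k hp)
    have hp'H : p' ∈ H := hle (upper_le_P k hp')
    have hσH : (permGL σ : GL (Fin n) F) ∈ H := by
      have : (permGL σ : GL (Fin n) F) = p⁻¹ * h * p'⁻¹ := by
        rw [hpp]; group
      rw [this]
      exact H.mul_mem (H.mul_mem (H.inv_mem hpH) hhH) (H.inv_mem hp'H)
    have hσP : (permGL σ : GL (Fin n) F) ∉ P F n k := by
      intro hσP
      apply hhP
      rw [hpp]
      exact (P F n k).mul_mem ((P F n k).mul_mem (upper_le_P k hp) hσP) (upper_le_P k hp')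
    -- a permutation in `H` moving some index `< k` to an index `≥ k`
    obtain ⟨τ, hτH, a, hak, hτa⟩ : ∃ τ : Equiv.Perm (Fin n), (permGL τ : GL (Fin n) F) ∈ H ∧
        ∃ a : Fin n, (a : ℕ) < k ∧ k ≤ ((τ a : Fin n) : ℕ) := by
      rw [permGL_mem_P_iff] at hσP
      by_cases h1 : ∀ j : Fin n, (j : ℕ) < k → ((σ j : Fin n) : ℕ) < k
      · have h2 : ¬ ∀ j : Fin n, (j : ℕ) < k → ((σ⁻¹ j : Fin n) : ℕ) < k := fun h2 => hσP ⟨h1, h2⟩
        push Not at h2
        obtain ⟨a, ha, ha'⟩ := h2
        refine ⟨σ⁻¹, ?_, a, ha, ha'⟩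
        rw [map_inv]
        exact H.inv_mem hσH
      · push Not at h1
        obtain ⟨a, ha, ha'⟩ := h1
        exact ⟨σ, hσH, a, ha, ha'⟩
    set b : Fin n := τ⁻¹ z with hb
    have hτb : τ b = z := by rw [hb]; simp
    have hab : a ≠ b := by
      intro h
      rw [h, hτb] at hτa
      simp only [hz] at hτa
      omega
    -- one lower transvection family
    have h0 : ∀ c : F, tGL (τ a) (τ b) (fun h => hab (τ.injective h)) c ∈ H := by
      intro c
      rw [← conj_tGL τ a b hab c]
      exact H.mul_mem (H.mul_mem hτH (hle (tGL_mem k a b hab (by omega) c))) (H.inv_mem hτH)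
    -- all transvections
    have hswapP : ∀ u v : Fin n, ((k ≤ (u : ℕ) ∧ k ≤ (v : ℕ)) ∨ ((u : ℕ) < k ∧ (v : ℕ) < k)) →
        (permGL (Equiv.swap u v) : GL (Fin n) F) ∈ P F n k := by
      intro u v huv
      rw [permGL_mem_P_iff, Equiv.swap_inv]
      have key : ∀ j : Fin n, (j : ℕ) < k → ((Equiv.swap u v j : Fin n) : ℕ) < k := by
        intro j hj
        rcases huv with ⟨hu, hv⟩ | ⟨hu, hv⟩
        · rw [Equiv.swap_apply_of_ne_of_ne]
          · exact hj
          · intro h; rw [h] at hj; omega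
          · intro h; rw [h] at hj; omega
        · by_cases hju : j = u
          · rw [hju, Equiv.swap_apply_left]; exact hv
          · by_cases hjv : j = v
            · rw [hjv, Equiv.swap_apply_right]; exact hu
            · rw [Equiv.swap_apply_of_ne_of_ne hju hjv]; exact hj
      exact ⟨key, key⟩
    have h1 : ∀ (i : Fin n) (hi : k ≤ (i : ℕ)) (c : F),
        tGL i z (by intro h; rw [h] at hi; simp only [hz] at hi; omega) c ∈ H := by
      intro i hi c
      have hne : i ≠ z := by intro h; rw [h] at hi; simp only [hz] at hi; omega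
      have h2 := conj_tGL (F := F) (Equiv.swap (τ a) i) (τ a) (τ b)
        (fun h => hab (τ.injective h)) c
      have h3 : tGL (Equiv.swap (τ a) i (τ a)) (Equiv.swap (τ a) i (τ b))
          (fun h => hab (τ.injective ((Equiv.swap (τ a) i).injective h))) c = tGL i z hne c := by
        apply Units.ext
        show Matrix.transvection (Equiv.swap (τ a) i (τ a)) (Equiv.swap (τ a) i (τ b)) c =
          Matrix.transvection i z c
        rw [Equiv.swap_apply_left, hτb, Equiv.swap_apply_of_ne_of_ne]
        · intro h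
          rw [← h] at hτa
          simp only [hz] at hτa
          omega
        · exact hne.symm
      rw [← h3, ← h2]
      have hsw := hle (hswapP (τ a) i (Or.inl ⟨hτa, hi⟩))
      exact H.mul_mem (H.mul_mem hsw (h0 c)) (H.inv_mem hsw)
    have h2 : ∀ (i j : Fin n) (hi : k ≤ (i : ℕ)) (hj : (j : ℕ) < k) (c : F),
        tGL i j (by intro h; rw [h] at hi; omega) c ∈ H := by
      intro i j hi hj c
      have hne : i ≠ j := by intro h; rw [h] at hi; omega
      have hnez : i ≠ z := by intro h; rw [h] at hi; simp only [hz] at hi; omega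
      have h3 := conj_tGL (F := F) (Equiv.swap z j) i z hnez c
      have h4 : tGL (Equiv.swap z j i) (Equiv.swap z j z)
          (fun h => hnez ((Equiv.swap z j).injective h)) c = tGL i j hne c := by
        apply Units.ext
        show Matrix.transvection (Equiv.swap z j i) (Equiv.swap z j z) c =
          Matrix.transvection i j c
        rw [Equiv.swap_apply_left, Equiv.swap_apply_of_ne_of_ne hnez hne]
      rw [← h4, ← h3]
      have hsw := hle (hswapP z j (Or.inr ⟨by simp only [hz]; exact hk0, hj⟩))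
      exact H.mul_mem (H.mul_mem hsw (h1 i hi c)) (H.inv_mem hsw)
    apply eq_top_of_transvections k H hle
    intro i j hij c
    by_cases hallow : k ≤ (i : ℕ) ∧ (j : ℕ) < k
    · exact h2 i j hallow.1 hallow.2 c
    · exact hle (tGL_mem k i j hij hallow c)

end GLParabolic

end Cfsg.Agent.Lib.Helper2
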