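import Mathlib
import Cfsg.Prelude.Def_ClassicalGeometry
import Cfsg.Agent.Lib.Helper5.FlagCount
import Cfsg.Agent.Lib.Helper5.GLBruhat1

set_option autoImplicit false

/-!
The stabiliser in `GL_n(F)` of the coordinate subspace spanned by the first `k` basis vectors.
-/

namespace Cfsg.Agent.Lib.Helper2.GLStab

open Module Finset Matrix
open Cfsg.Agent.Lib.Helper5.GLBruhat Cfsg.Agent.Lib.Helper5.FlagCount

variable {F : Type*} [Field F] {n : ℕ}

/-- The coordinate subspace spanned by the first `k` basis vectors. -/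
def U (F : Type*) [Field F] (n k : ℕ) : Submodule F (Fin n → F) :=
  coordSub (univ.filter fun i : Fin n => i.val < k)

theorem mem_U {k : ℕ} {v : Fin n → F} : v ∈ U F n k ↔ ∀ i : Fin n, k ≤ i.val → v i = 0 := by
  unfold U
  rw [mem_coordSub]
  constructor
  · intro h i hi
    apply h
    rw [mem_filter, not_and, not_lt]
    exact fun _ => hi
  · intro h i hi
    apply h
    rw [mem_filter, not_and, not_lt] at hi
    exact hi (mem_univ _)

theorem coe_U (k : ℕ) : ((U F n k : Submodule F (Fin n → F)) : Set (Fin n → F))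
    = {v : Fin n → F | ∀ i : Fin n, k ≤ (i : ℕ) → v i = 0} := by
  ext v
  exact mem_U

theorem finrank_U {k : ℕ} (hk : k ≤ n) : finrank F (U F n k) = k := by
  unfold U
  rw [finrank_coordSub]
  have : (univ.filter fun i : Fin n => i.val < k) = (Finset.univ : Finset (Fin k)).map
      (Fin.castLEEmb hk) := by
    ext i
    simp only [mem_filter, mem_univ, true_and, mem_map, Fin.castLEEmb_apply]
    constructor
    · intro hi
      exact ⟨⟨i.val, hi⟩, Fin.ext rfl⟩
    · rintro ⟨j, rfl⟩
      exact j.2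
  rw [this, card_map, card_univ, Fintype.card_fin]

theorem mulVec_mem_U {k : ℕ} (A : Matrix (Fin n) (Fin n) F)
    (hA : ∀ j : Fin n, j.val < k → (fun i => A i j) ∈ U F n k) {v : Fin n → F}
    (hv : v ∈ U F n k) : A *ᵥ v ∈ U F n k := by
  rw [mem_U] at hv ⊢
  intro i hi
  show ∑ j, A i j * v j = 0
  apply Finset.sum_eq_zero
  intro j _
  by_cases hj : j.val < k
  · have : A i j = 0 := mem_U.mp (hA j hj) i hi
    rw [this, zero_mul]
  · rw [hv j (not_lt.mp hj), mul_zero]

theorem mem_stab_iff {k : ℕ} (g : GL (Fin n) F) :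
    g ∈ Cfsg.stabilizing (Cfsg.glToMat (Fin n) F)
        {v : Fin n → F | ∀ i : Fin n, k ≤ (i : ℕ) → v i = 0}
      ↔ ∀ j : Fin n, j.val < k → (fun i => g.1 i j) ∈ U F n k := by
  constructor
  · intro hg j hj
    have h1 : (Pi.single j (1 : F) : Fin n → F) ∈
        {v : Fin n → F | ∀ i : Fin n, k ≤ (i : ℕ) → v i = 0} := by
      intro i hi
      have : i ≠ j := by
        intro h
        rw [h] at hi
        omega
      rw [Pi.single_apply, if_neg this]
    have h2 := (hg _).mp h1
    have h3 : (Cfsg.glToMat (Fin n) F) g *ᵥ (Pi.single j (1 : F) : Fin n → F)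
        = fun i => g.1 i j := by
      funext i
      show (g.1 *ᵥ Pi.single j 1) i = g.1 i j
      rw [Matrix.mulVec_single_one]
      rfl
    rw [h3] at h2
    exact mem_U.mpr h2
  · intro h v
    show v ∈ {v : Fin n → F | ∀ i : Fin n, k ≤ (i : ℕ) → v i = 0} ↔
      g.1 *ᵥ v ∈ {v : Fin n → F | ∀ i : Fin n, k ≤ (i : ℕ) → v i = 0}
    rw [← coe_U, SetLike.mem_coe, SetLike.mem_coe]
    constructor
    · exact fun hv => mulVec_mem_U g.1 h hv
    · intro hgv
      have hmaps : ∀ x ∈ U F n k, Matrix.mulVecLin g.1 x ∈ U F n k := by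
        intro x hx
        rw [Matrix.mulVecLin_apply]
        exact mulVec_mem_U g.1 h hx
      have hinj0 : Function.Injective (Matrix.mulVecLin g.1) := by
        intro x y hxy
        rw [Matrix.mulVecLin_apply, Matrix.mulVecLin_apply] at hxy
        have := congrArg (fun w => (g⁻¹).1 *ᵥ w) hxy
        simp only [Matrix.mulVec_mulVec] at this
        have hinv : (g⁻¹).1 * g.1 = 1 := by
          rw [← Units.val_mul, inv_mul_cancel, Units.val_one]
        rwa [hinv, Matrix.one_mulVec, Matrix.one_mulVec] at this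
      have hinj : Function.Injective ((Matrix.mulVecLin g.1).restrict hmaps) := by
        intro x y hxy
        apply Subtype.ext
        apply hinj0
        exact congrArg Subtype.val hxy
      have hsurj := LinearMap.injective_iff_surjective.mp hinj
      obtain ⟨u, hu⟩ := hsurj ⟨g.1 *ᵥ v, hgv⟩
      have hu' : Matrix.mulVecLin g.1 u.1 = Matrix.mulVecLin g.1 v := by
        have := congrArg Subtype.val hu
        rw [LinearMap.coe_restrict_apply] at this
        rw [this, Matrix.mulVecLin_apply]
      rw [← hinj0 hu']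
      exact u.2

/-- The nested family of subspaces constraining the columns. -/
def Wfam (F : Type*) [Field F] (n k : ℕ) (j : Fin n) : Submodule F (Fin n → F) :=
  if j.val < k then U F n k else ⊤

theorem Wfam_mono (k : ℕ) : Monotone (Wfam F n k) := by
  intro j j' hjj'
  unfold Wfam
  by_cases hj' : j'.val < k
  · have hj : j.val < k := lt_of_le_of_lt hjj' hj'
    rw [if_pos hj, if_pos hj']
  · rw [if_neg hj']
    exact le_top

variable [Fintype F]

theorem mem_stab_iff' {k : ℕ} (g : GL (Fin n) F) :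
    g ∈ Cfsg.stabilizing (Cfsg.glToMat (Fin n) F)
        {v : Fin n → F | ∀ i : Fin n, k ≤ (i : ℕ) → v i = 0}
      ↔ ∀ j, ((Matrix.equiv_GL_linearindependent n g).1 j) ∈ Wfam F n k j := by
  rw [mem_stab_iff]
  constructor
  · intro h j
    unfold Wfam
    by_cases hj : j.val < k
    · rw [if_pos hj]
      exact h j hj
    · rw [if_neg hj]
      exact Submodule.mem_top
  · intro h j hj
    have := h j
    unfold Wfam at this
    rw [if_pos hj] at this
    exact this

noncomputable def stabEquiv (k : ℕ) :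
    ↥(Cfsg.stabilizing (Cfsg.glToMat (Fin n) F)
        {v : Fin n → F | ∀ i : Fin n, k ≤ (i : ℕ) → v i = 0}) ≃
      {s : Fin n → (Fin n → F) // LinearIndependent F s ∧ ∀ j, s j ∈ Wfam F n k j} :=
  ((Matrix.equiv_GL_linearindependent n).subtypeEquiv (fun g => mem_stab_iff' g)).trans
    (Equiv.subtypeSubtypeEquivSubtypeInter _ _)

theorem card_stab {k : ℕ} (hk : k ≤ n) :
    Nat.card ↥(Cfsg.stabilizing (Cfsg.glToMat (Fin n) F)
        {v : Fin n → F | ∀ i : Fin n, k ≤ (i : ℕ) → v i = 0})
      = ∏ j : Fin n, (Fintype.card F ^ (if j.val < k then k else n) - Fintype.card F ^ j.val) := by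
  rw [Nat.card_congr (stabEquiv k), card_nested n _ (Wfam_mono k)]
  refine Finset.prod_congr rfl fun j _ => ?_
  unfold Wfam
  by_cases hj : j.val < k
  · rw [if_pos hj, if_pos hj, finrank_U hk]
  · rw [if_neg hj, if_neg hj, finrank_top, Module.finrank_fintype_fun_eq_card, Fintype.card_fin]

theorem prod_arith (q n k : ℕ) (hk : k ≤ n) :
    ∏ j : Fin n, (q ^ (if j.val < k then k else n) - q ^ j.val)
      = q ^ (k * (n - k)) * (∏ i : Fin k, (q ^ k - q ^ (i : ℕ))) *
        ∏ i : Fin (n - k), (q ^ (n - k) - q ^ (i : ℕ)) := by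
  rw [Fin.prod_univ_eq_prod_range (fun j => q ^ (if j < k then k else n) - q ^ j) n,
    Fin.prod_univ_eq_prod_range (fun j => q ^ k - q ^ j) k,
    Fin.prod_univ_eq_prod_range (fun j => q ^ (n - k) - q ^ j) (n - k)]
  obtain ⟨d, rfl⟩ := Nat.exists_eq_add_of_le hk
  rw [Nat.add_sub_cancel_left, Finset.prod_range_add]
  have h1 : ∏ x ∈ range k, (q ^ (if x < k then k else k + d) - q ^ x)
      = ∏ x ∈ range k, (q ^ k - q ^ x) := by
    apply Finset.prod_congr rfl
    intro x hx
    rw [if_pos (mem_range.mp hx)]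
  have h2 : ∏ x ∈ range d, (q ^ (if k + x < k then k else k + d) - q ^ (k + x))
      = ∏ x ∈ range d, (q ^ k * (q ^ d - q ^ x)) := by
    apply Finset.prod_congr rfl
    intro x _
    rw [if_neg (by omega), Nat.mul_sub, pow_add, pow_add]
  rw [h1, h2, Finset.prod_mul_distrib, Finset.prod_const, card_range, ← pow_mul]
  ring

end Cfsg.Agent.Lib.Helper2.GLStab
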