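import Mathlib

set_option autoImplicit false

/-! Interface statements for the module side of Gross's theorem (S3795): the commutative case `AB`,
the sharp two-layer theorems `UP` (upper pair) and `LOW` (lower pair).  All in the
`DistribMulAction` form of `Helper4.PP.MTStatement`; `τ = x ^ (2 ^ n)`, `ι = x ^ (2 ^ (n - 1))`. -/

namespace Cfsg.Agent.Lib.Helper2.GR2M

open scoped commutatorElement

universe u

/-- (AB) an `x`-invariant commutative subgroup of order prime to `ℓ` commutes with `τ` on `M`. -/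
def ABStatement : Prop :=
  ∀ {A : Type u} [Group A] [Finite A] {M : Type u} [AddCommGroup M] [Finite M]
    [DistribMulAction A M] (ℓ n : ℕ), ℓ.Prime → ℓ ≠ 2 → (∀ m : M, ℓ • m = 0) →
    ∀ x : A, (∃ N : ℕ, x ^ (2 ^ N) = 1) → (∀ m : M, x ^ (2 ^ (n + 1)) • m = m) →
    (∀ m : M, x • m = m → m = 0) →
    ∀ B : Subgroup A, (∀ b ∈ B, ∀ b' ∈ B, b * b' = b' * b) → (Nat.card B).Coprime ℓ →
    (∀ b ∈ B, x * b * x⁻¹ ∈ B) →
    ∀ b ∈ B, ∀ m : M, x ^ (2 ^ n) • b • m = b • x ^ (2 ^ n) • m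

/-- (UP) if `τ` does not commute with the `x`-invariant `q`-group `Q` on `M` (`x` fixed-point-free
on `M` and on `Q`), then `n ≥ 1` and `ι = x ^ (2 ^ (n - 1))` has the eigenvalue `-1` on `M`. -/
def UPStatement : Prop :=
  ∀ {A : Type u} [Group A] [Finite A] {M : Type u} [AddCommGroup M] [Finite M]
    [DistribMulAction A M] (ℓ q n : ℕ), ℓ.Prime → q.Prime → ℓ ≠ 2 → q ≠ 2 → q ≠ ℓ →
    (∀ m : M, ℓ • m = 0) →
    ∀ x : A, (∃ N : ℕ, x ^ (2 ^ N) = 1) → (∀ m : M, x ^ (2 ^ (n + 1)) • m = m) →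
    (∀ m : M, x • m = m → m = 0) →
    ∀ Q : Subgroup A, IsPGroup q Q → (∀ u ∈ Q, x * u * x⁻¹ ∈ Q) →
    (∀ u ∈ Q, x * u = u * x → u = 1) →
    (∃ u ∈ Q, ∃ m : M, x ^ (2 ^ n) • u • m ≠ u • x ^ (2 ^ n) • m) →
    1 ≤ n ∧ ∃ m : M, m ≠ 0 ∧ x ^ (2 ^ (n - 1)) • m = -m

/-- (LOW) for a MINIMAL `x`-invariant `q`-group `Q` not commuting with `τ` on `M`: every operator
`g` commuting with `Q` on `M` commutes with `ι = x ^ (2 ^ (n - 1))` on `[M, Q']`. -/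
def LOWStatement : Prop :=
  ∀ {A : Type u} [Group A] [Finite A] {M : Type u} [AddCommGroup M] [Finite M]
    [DistribMulAction A M] (ℓ q n : ℕ), ℓ.Prime → q.Prime → ℓ ≠ 2 → q ≠ 2 → q ≠ ℓ →
    (∀ m : M, ℓ • m = 0) →
    ∀ x : A, (∃ N : ℕ, x ^ (2 ^ N) = 1) → (∀ m : M, x ^ (2 ^ (n + 1)) • m = m) →
    (∀ m : M, x • m = m → m = 0) →
    ∀ Q : Subgroup A, IsPGroup q Q → (∀ u ∈ Q, x * u * x⁻¹ ∈ Q) →
    (∀ u ∈ Q, x * u = u * x → u = 1) →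
    (∀ Q₁ : Subgroup A, Q₁ ≤ Q → Q₁ ≠ Q → (∀ u ∈ Q₁, x * u * x⁻¹ ∈ Q₁) →
      ∀ u ∈ Q₁, ∀ m : M, x ^ (2 ^ n) • u • m = u • x ^ (2 ^ n) • m) →
    (∃ u ∈ Q, ∃ m : M, x ^ (2 ^ n) • u • m ≠ u • x ^ (2 ^ n) • m) →
    ∀ g : A, (∀ u ∈ Q, ∀ m : M, g • u • m = u • g • m) →
    ∀ u ∈ Q, ∀ w ∈ Q, ∀ m : M,
      x ^ (2 ^ (n - 1)) • g • (⁅u, w⁆ • m - m) = g • x ^ (2 ^ (n - 1)) • (⁅u, w⁆ • m - m)

end Cfsg.Agent.Lib.Helper2.GR2M
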