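import Mathlib
import Cfsg.Agent.Lib.Helper2.GR2MDefs
import Cfsg.Agent.Lib.Helper3.GR2Defs

set_option autoImplicit false

/-! Definitions for the three-layer module theorem MT3 of Gross's theorem (S3795), group side of
the module argument: the faithful setting `M3Hyp`, the faithful statement `MT3FStatement`, and the
minimal configuration `M3Min` (output of step 1 of `notes/S3795_threelayer_helper2.md`). -/

namespace Cfsg.Agent.Lib.Helper2.GR2M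

open scoped commutatorElement

universe u

/-- `c_a = a⁻¹ τ a τ⁻¹` with `τ = x ^ (2 ^ n)`. -/
def cτ {A : Type*} [Group A] (x : A) (n : ℕ) (a : A) : A :=
  a⁻¹ * x ^ (2 ^ n) * a * (x ^ (2 ^ n))⁻¹

/-- the hypotheses of MT3 for a pair `(P, S)` in a group acting FAITHFULLY on `M`. -/
structure M3Hyp {A : Type u} [Group A] (M : Type u) [AddCommGroup M] [DistribMulAction A M]
    (ℓ q s n : ℕ) (x : A) (P S : Subgroup A) : Prop where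
  hℓ : ℓ.Prime
  hq : q.Prime
  hs : s.Prime
  hℓ2 : ℓ ≠ 2
  hq2 : q ≠ 2
  hs2 : s ≠ 2
  hqℓ : q ≠ ℓ
  hqs : q ≠ s
  htor : ∀ m : M, ℓ • m = 0
  hfaith : ∀ a : A, (∀ m : M, a • m = m) → a = 1
  hxn : x ^ (2 ^ (n + 1)) = 1
  hfM : ∀ m : M, x • m = m → m = 0
  hP : IsPGroup q P
  hS : IsPGroup s S
  hxP : ∀ u ∈ P, x * u * x⁻¹ ∈ P
  hxS : ∀ a ∈ S, x * a * x⁻¹ ∈ S
  hSP : ∀ a ∈ S, ∀ u ∈ P, a * u * a⁻¹ ∈ P
  hfP : ∀ u ∈ P, x * u = u * x → u = 1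
  hfS : ∀ a ∈ S, x * a = a * x → a = 1

/-- MT3 for faithful actions, at the level of the group. -/
def MT3FStatement : Prop :=
  ∀ {A : Type u} [Group A] [Finite A] {M : Type u} [AddCommGroup M] [Finite M]
    [DistribMulAction A M] (ℓ q s n : ℕ) (x : A) (P S : Subgroup A),
    M3Hyp M ℓ q s n x P S → ∀ a ∈ S, ∀ u ∈ P, cτ x n a * u = u * cτ x n a

/-- the minimal configuration: `Z` is a central subgroup of `P`, centralised by `S` and `τ`, with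
`P / Z` elementary abelian and irreducible under `S⟨x⟩`; `(P, S)` is a counterexample. -/
structure M3Min {A : Type u} [Group A] (M : Type u) [AddCommGroup M] [DistribMulAction A M]
    (ℓ q s n : ℕ) (x : A) (P S Z : Subgroup A) : Prop extends M3Hyp M ℓ q s n x P S where
  hZP : Z ≤ P
  hZx : ∀ z ∈ Z, x * z * x⁻¹ ∈ Z
  hZc : ∀ z ∈ Z, ∀ u ∈ P, u * z = z * u
  hZS : ∀ z ∈ Z, ∀ a ∈ S, a * z = z * a
  hZτ : ∀ z ∈ Z, x ^ (2 ^ n) * z = z * x ^ (2 ^ n)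
  hder : ∀ u ∈ P, ∀ v ∈ P, ⁅u, v⁆ ∈ Z
  hpow : ∀ u ∈ P, u ^ q ∈ Z
  hirr : ∀ P₁ : Subgroup A, Z ≤ P₁ → P₁ ≤ P → (∀ u ∈ P₁, x * u * x⁻¹ ∈ P₁) →
    (∀ a ∈ S, ∀ u ∈ P₁, a * u * a⁻¹ ∈ P₁) → P₁ = Z ∨ P₁ = P
  hnc : ∃ a ∈ S, ∃ u ∈ P, cτ x n a * u ≠ u * cτ x n a
  hτP : ∃ u ∈ P, x ^ (2 ^ n) * u ≠ u * x ^ (2 ^ n)

end Cfsg.Agent.Lib.Helper2.GR2M
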