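import Mathlib
import Cfsg.Agent.Lib.Helper2.GR2M3Defs
import Cfsg.Agent.Lib.Lead.CoprimeFrattini
import Cfsg.Agent.Lib.Lead.Frattini

set_option autoImplicit false
set_option linter.unusedVariables false
set_option linter.unusedSectionVars false

/-! S3795 module side, package M3-S1: the structure of a minimal counterexample to MT3
(step 1 of `notes/S3795_threelayer_helper2.md`). -/

namespace Cfsg.Agent.Lib.Helper2.GR2M3S1

open Cfsg.Agent.Lib.Helper2.GR2M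

open scoped commutatorElement

universe u

section general

variable {A : Type*} [Group A]

theorem conj_pow_mem (x : A) (H : Subgroup A) (h : ∀ a ∈ H, x * a * x⁻¹ ∈ H) (k : ℕ) :
    ∀ a ∈ H, x ^ k * a * (x ^ k)⁻¹ ∈ H := by
  induction k with
  | zero => intro a ha; simpa using ha
  | succ k ih =>
    intro a ha
    have h1 := h _ (ih a ha)
    have h2 : x ^ (k + 1) * a * (x ^ (k + 1))⁻¹ = x * (x ^ k * a * (x ^ k)⁻¹) * x⁻¹ := by group
    rw [h2]; exact h1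

theorem conj_inv_mem [Finite A] (x : A) (H : Subgroup A) (h : ∀ a ∈ H, x * a * x⁻¹ ∈ H) :
    ∀ a ∈ H, x⁻¹ * a * x ∈ H := by
  intro a ha
  have hk : x ^ (orderOf x - 1) = x⁻¹ := by
    apply eq_inv_of_mul_eq_one_left
    rw [← pow_succ, Nat.sub_add_cancel (orderOf_pos x), pow_orderOf_eq_one]
  have h1 := conj_pow_mem x H h (orderOf x - 1) a ha
  rw [hk, inv_inv] at h1
  exact h1

theorem mem_normalizer_of_conj_mem [Finite A] (g : A) (H : Subgroup A)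
    (h : ∀ a ∈ H, g * a * g⁻¹ ∈ H) : g ∈ Subgroup.normalizer (H : Set A) := by
  rw [Subgroup.mem_normalizer_iff]
  intro a
  refine ⟨h a, fun ha => ?_⟩
  have h1 := conj_inv_mem g H h _ ha
  have h2 : g⁻¹ * (g * a * g⁻¹) * g = a := by group
  rwa [h2] at h1

theorem conj_mem_closure (x : A) (X : Set A) (h : ∀ c ∈ X, x * c * x⁻¹ ∈ X) :
    ∀ c ∈ Subgroup.closure X, x * c * x⁻¹ ∈ Subgroup.closure X := by
  intro c hc
  induction hc using Subgroup.closure_induction with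
  | mem c hc => exact Subgroup.subset_closure (h c hc)
  | one => simp
  | mul a b _ _ iha ihb =>
    have h2 : x * (a * b) * x⁻¹ = (x * a * x⁻¹) * (x * b * x⁻¹) := by group
    rw [h2]; exact Subgroup.mul_mem _ iha ihb
  | inv a _ iha =>
    have h2 : x * a⁻¹ * x⁻¹ = (x * a * x⁻¹)⁻¹ := by group
    rw [h2]; exact Subgroup.inv_mem _ iha

/-- conjugation by `g` maps `P ⊓ C(H)` into itself, if it maps `P` into itself and `g⁻¹` maps `H`
into itself. -/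
theorem conj_mem_inf_centralizer (g : A) (P H : Subgroup A) (hP : ∀ u ∈ P, g * u * g⁻¹ ∈ P)
    (hH : ∀ a ∈ H, g⁻¹ * a * g ∈ H) :
    ∀ c ∈ P ⊓ Subgroup.centralizer (H : Set A), g * c * g⁻¹ ∈ P ⊓ Subgroup.centralizer (H : Set A) := by
  intro c hc
  refine Subgroup.mem_inf.2 ⟨hP c hc.1, ?_⟩
  rw [Subgroup.mem_centralizer_iff]
  intro a ha
  have h1 := (Subgroup.mem_centralizer_iff.1 hc.2) _ (hH a ha)
  calc a * (g * c * g⁻¹) = g * (g⁻¹ * a * g * c) * g⁻¹ := by group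
    _ = g * (c * (g⁻¹ * a * g)) * g⁻¹ := by rw [h1]
    _ = g * c * g⁻¹ * a := by group

/-- if `a u a⁻¹ = u w` with `a w = w a` then `a ^ k u a ^ (-k) = u w ^ k`. -/
theorem conj_pow_eq (a u w : A) (h1 : a * u * a⁻¹ = u * w) (h2 : a * w = w * a) (k : ℕ) :
    a ^ k * u * (a ^ k)⁻¹ = u * w ^ k := by
  induction k with
  | zero => simp
  | succ k ih =>
    have h3 : a ^ (k + 1) * u * (a ^ (k + 1))⁻¹ = a * (a ^ k * u * (a ^ k)⁻¹) * a⁻¹ := by group
    rw [h3, ih]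
    have h4 : a * (u * w ^ k) * a⁻¹ = (a * u * a⁻¹) * (a * w ^ k * a⁻¹) := by group
    have h5 : a * w ^ k * a⁻¹ = w ^ k := by
      have : Commute a (w ^ k) := (show Commute a w from h2).pow_right k
      rw [this.eq]; group
    rw [h4, h1, h5, pow_succ', mul_assoc]

/-- an element of order dividing coprime numbers is trivial -/
theorem eq_one_of_pow_pow (w : A) (q s i j : ℕ) (hq : q.Prime) (hs : s.Prime) (hqs : q ≠ s)
    (h1 : w ^ (q ^ i) = 1) (h2 : w ^ (s ^ j) = 1) : w = 1 := by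
  have h3 : w ^ (Nat.gcd (q ^ i) (s ^ j)) = 1 := pow_gcd_eq_one.2 ⟨h1, h2⟩
  have h4 : Nat.gcd (q ^ i) (s ^ j) = 1 :=
    Nat.Coprime.pow i j ((Nat.coprime_primes hq hs).2 hqs)
  rwa [h4, pow_one] at h3

end general

section

variable {A : Type u} [Group A] [Finite A] {M : Type u} [AddCommGroup M] [Finite M]
  [DistribMulAction A M] (ℓ q s n : ℕ) (x : A) (P S : Subgroup A)

/-- M3-S1: structure of a minimal counterexample; `Z := P ⊓ centralizer S`. -/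
theorem m3_structure (hAB : ABStatement.{u}) (h : M3Hyp M ℓ q s n x P S)
    (hminS : ∀ S₀ : Subgroup A, S₀ ≤ S → S₀ ≠ S → (∀ a ∈ S₀, x * a * x⁻¹ ∈ S₀) →
      ∀ a ∈ S₀, ∀ u ∈ P, cτ x n a * u = u * cτ x n a)
    (hminP : ∀ P₁ : Subgroup A, P₁ ≤ P → P₁ ≠ P → (∀ u ∈ P₁, x * u * x⁻¹ ∈ P₁) →
      (∀ a ∈ S, ∀ u ∈ P₁, a * u * a⁻¹ ∈ P₁) → ∀ a ∈ S, ∀ u ∈ P₁, cτ x n a * u = u * cτ x n a)
    (hbad : ∃ a ∈ S, ∃ u ∈ P, cτ x n a * u ≠ u * cτ x n a) :
    ∃ Z : Subgroup A, M3Min M ℓ q s n x P S Z := by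
  classical
  have : Fact q.Prime := ⟨h.hq⟩
  have : Fact s.Prime := ⟨h.hs⟩
  obtain ⟨τ, hτ⟩ : ∃ τ : A, τ = x ^ (2 ^ n) := ⟨_, rfl⟩
  have hcτ : ∀ a : A, cτ x n a = a⁻¹ * τ * a * τ⁻¹ := fun a => by rw [hτ]; rfl
  have hττ : τ * τ = 1 := by
    rw [hτ, ← pow_add, ← two_mul, ← pow_succ']; exact h.hxn
  have hτinv : τ⁻¹ = τ := inv_eq_of_mul_eq_one_right hττ
  have hτS : ∀ a ∈ S, τ * a * τ⁻¹ ∈ S := by rw [hτ]; exact conj_pow_mem x S h.hxS _
  have hτP : ∀ u ∈ P, τ * u * τ⁻¹ ∈ P := by rw [hτ]; exact conj_pow_mem x P h.hxP _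
  have hcS : ∀ a ∈ S, cτ x n a ∈ S := by
    intro a ha
    rw [hcτ]
    have h1 : a⁻¹ * τ * a * τ⁻¹ = a⁻¹ * (τ * a * τ⁻¹) := by group
    rw [h1]; exact S.mul_mem (S.inv_mem ha) (hτS a ha)
  -- `τ` inverts `cτ a`
  have hinv : ∀ a : A, τ * cτ x n a * τ⁻¹ = (cτ x n a)⁻¹ := by
    intro a
    rw [hcτ, hτinv, eq_inv_iff_mul_eq_one]
    calc τ * (a⁻¹ * τ * a * τ) * τ * (a⁻¹ * τ * a * τ)
        = τ * a⁻¹ * τ * a * (τ * τ) * a⁻¹ * τ * a * τ := by group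
      _ = τ * a⁻¹ * τ * a * 1 * a⁻¹ * τ * a * τ := by rw [hττ]
      _ = τ * a⁻¹ * (τ * τ) * a * τ := by group
      _ = τ * a⁻¹ * 1 * a * τ := by rw [hττ]
      _ = τ * τ := by group
      _ = 1 := hττ
  have hcc : ∀ a : A, cτ x n (cτ x n a) = ((cτ x n a) ^ 2)⁻¹ := by
    intro a
    have h1 := hinv a
    rw [hcτ (cτ x n a)]
    have h2 : (cτ x n a)⁻¹ * τ * cτ x n a * τ⁻¹ = (cτ x n a)⁻¹ * (τ * cτ x n a * τ⁻¹) := by group
    rw [h2, h1]; group
  -- `S` does not centralise `P`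
  have hSnc : ¬ (∀ a ∈ S, ∀ u ∈ P, a * u = u * a) := by
    intro hc
    obtain ⟨a, ha, u, hu, hne⟩ := hbad
    exact hne (hc _ (hcS a ha) u hu)
  -- `S = [S, τ]`
  set S₁ : Subgroup A := Subgroup.closure {c | ∃ a ∈ S, c = cτ x n a} with hS₁
  have hS₁le : S₁ ≤ S := (Subgroup.closure_le _).2 (by rintro c ⟨a, ha, rfl⟩; exact hcS a ha)
  have hS₁x : ∀ c ∈ S₁, x * c * x⁻¹ ∈ S₁ := by
    apply conj_mem_closure
    rintro c ⟨a, ha, rfl⟩
    refine ⟨x * a * x⁻¹, h.hxS a ha, ?_⟩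
    unfold cτ
    group
  have hS₁eq : S₁ = S := by
    by_contra hne
    have h1 := hminS S₁ hS₁le hne hS₁x
    obtain ⟨a, ha, u, hu, hbad'⟩ := hbad
    apply hbad'
    set c := cτ x n a with hc
    have hcS₁ : c ∈ S₁ := Subgroup.subset_closure ⟨a, ha, rfl⟩
    have h2 := h1 c hcS₁ u hu
    rw [hcc a] at h2
    -- `c ^ 2` commutes with `u`
    have h3 : Commute (c ^ 2) u := by
      have : Commute ((c ^ 2)⁻¹) u := h2
      simpa using this.inv_left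
    obtain ⟨j, hj⟩ := (IsPGroup.iff_orderOf.1 h.hS) ⟨c, hcS a ha⟩
    have hcj : c ^ (s ^ j) = 1 := by
      have : orderOf c = s ^ j := by
        rw [← hj]; exact (Subgroup.orderOf_mk c (hcS a ha)).symm
      rw [← this]; exact pow_orderOf_eq_one c
    have hodd : Odd (s ^ j) := (h.hs.odd_of_ne_two h.hs2).pow
    obtain ⟨k, hk⟩ := hodd
    have h4 : c = (c ^ 2) ^ (k + 1) := by
      rw [← pow_mul, show 2 * (k + 1) = (2 * k + 1) + 1 by ring, ← hk, pow_succ, hcj, one_mul]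
    have h5 : Commute c u := by rw [h4]; exact h3.pow_left _
    exact h5.eq
  -- proper invariant subgroups of `P` are centralised by `S`
  have hb : ∀ P₁ : Subgroup A, P₁ ≤ P → P₁ ≠ P → (∀ u ∈ P₁, x * u * x⁻¹ ∈ P₁) →
      (∀ a ∈ S, ∀ u ∈ P₁, a * u * a⁻¹ ∈ P₁) → ∀ a ∈ S, ∀ u ∈ P₁, a * u = u * a := by
    intro P₁ h1 h2 h3 h4
    have h5 := hminP P₁ h1 h2 h3 h4
    have h6 : S₁ ≤ Subgroup.centralizer (P₁ : Set A) := by
      rw [hS₁, Subgroup.closure_le]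
      rintro c ⟨a, ha, rfl⟩
      show cτ x n a ∈ Subgroup.centralizer (P₁ : Set A)
      rw [Subgroup.mem_centralizer_iff]
      intro u hu
      exact (h5 a ha u hu).symm
    intro a ha u hu
    rw [← hS₁eq] at ha
    exact ((Subgroup.mem_centralizer_iff.1 (h6 ha)) u hu).symm
  -- the subgroup `Z`
  set Z : Subgroup A := P ⊓ Subgroup.centralizer (S : Set A) with hZ
  have hZmem : ∀ z : A, z ∈ Z ↔ z ∈ P ∧ ∀ a ∈ S, a * z = z * a := by
    intro z
    rw [hZ, Subgroup.mem_inf, Subgroup.mem_centralizer_iff]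
    rfl
  have hZP : Z ≤ P := inf_le_left
  have hZx : ∀ z ∈ Z, x * z * x⁻¹ ∈ Z :=
    conj_mem_inf_centralizer x P S h.hxP (conj_inv_mem x S h.hxS)
  have hZS' : ∀ a ∈ S, ∀ z ∈ Z, a * z * a⁻¹ ∈ Z := by
    intro a ha z hz
    have h1 : a * z = z * a := ((hZmem z).1 hz).2 a ha
    have h2 : a * z * a⁻¹ = z := by rw [h1]; group
    rw [h2]; exact hz
  have hZne : Z ≠ P := by
    intro hZeq
    apply hSnc
    intro a ha u hu
    rw [← hZeq] at hu
    exact ((hZmem u).1 hu).2 a ha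
  have hPle : ∀ P₁ : Subgroup A, P₁ ≤ P → P₁ ≠ P → (∀ u ∈ P₁, x * u * x⁻¹ ∈ P₁) →
      (∀ a ∈ S, ∀ u ∈ P₁, a * u * a⁻¹ ∈ P₁) → P₁ ≤ Z := by
    intro P₁ h1 h2 h3 h4 u hu
    exact (hZmem u).2 ⟨h1 hu, fun a ha => hb P₁ h1 h2 h3 h4 a ha u hu⟩
  -- the Frattini subgroup of `P` lies in `Z`
  have hxN : x ∈ Subgroup.normalizer (P : Set A) := mem_normalizer_of_conj_mem x P h.hxP
  have hSN : ∀ a ∈ S, a ∈ Subgroup.normalizer (P : Set A) :=
    fun a ha => mem_normalizer_of_conj_mem a P (h.hSP a ha)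
  set Φ : Subgroup A := (frattini ↥P).map P.subtype with hΦ
  have hΦP : Φ ≤ P := Subgroup.map_subtype_le _
  have hΦN := Cfsg.Agent.Lib.Lead.le_normalizer_map_characteristic P (frattini ↥P)
  have hΦx : ∀ u ∈ Φ, x * u * x⁻¹ ∈ Φ := fun u hu =>
    (Subgroup.mem_normalizer_iff.1 (hΦN hxN) u).1 hu
  have hΦS : ∀ a ∈ S, ∀ u ∈ Φ, a * u * a⁻¹ ∈ Φ := fun a ha u hu =>
    (Subgroup.mem_normalizer_iff.1 (hΦN (hSN a ha)) u).1 hu
  have hPnt : Nontrivial ↥P := by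
    rw [Subgroup.nontrivial_iff_ne_bot]
    intro hP
    apply hZne
    apply le_antisymm hZP
    rw [hP]; exact bot_le
  have hΦne : Φ ≠ P := by
    intro hΦeq
    have h1 : frattini ↥P = ⊤ := by
      rw [eq_top_iff]
      intro u _
      have h2 : (u : A) ∈ Φ := by rw [hΦeq]; exact u.2
      obtain ⟨v, hv, hvu⟩ := h2
      have : v = u := Subtype.ext hvu
      rwa [← this]
    rcases eq_top_or_exists_le_coatom (⊥ : Subgroup ↥P) with h2 | ⟨K, hK, _⟩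
    · exact bot_ne_top h2
    · have h3 := frattini_le_coatom hK
      rw [h1, top_le_iff] at h3
      exact hK.1 h3
  have hΦZ : Φ ≤ Z := hPle Φ hΦP hΦne hΦx hΦS
  have hder : ∀ u ∈ P, ∀ v ∈ P, ⁅u, v⁆ ∈ Z := by
    intro u hu v hv
    apply hΦZ
    refine ⟨⁅(⟨u, hu⟩ : ↥P), ⟨v, hv⟩⁆, ?_, rfl⟩
    apply Cfsg.Agent.Lib.Lead.commutator_le_frattini_of_isPGroup h.hP
    exact Subgroup.commutator_mem_commutator (Subgroup.mem_top _) (Subgroup.mem_top _)
  have hpow : ∀ u ∈ P, u ^ q ∈ Z := by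
    intro u hu
    apply hΦZ
    exact ⟨(⟨u, hu⟩ : ↥P) ^ q, Cfsg.Agent.Lib.Lead.pow_mem_frattini_of_isPGroup h.hP _, rfl⟩
  -- `Z` is normal in `P`
  have hZn : ∀ u ∈ P, ∀ z ∈ Z, u * z * u⁻¹ ∈ Z := by
    intro u hu z hz
    have h1 : u * z * u⁻¹ = ⁅u, z⁆ * z := by rw [commutatorElement_def]; group
    rw [h1]; exact Z.mul_mem (hder u hu z (hZP hz)) hz
  have hZn' : ∀ u ∈ P, ∀ z ∈ Z, u⁻¹ * z * u ∈ Z := by
    intro u hu z hz
    have := hZn u⁻¹ (P.inv_mem hu) z hz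
    rwa [inv_inv] at this
  -- `Z` is central in `P`
  have hZc : ∀ z ∈ Z, ∀ u ∈ P, u * z = z * u := by
    set C : Subgroup A := P ⊓ Subgroup.centralizer (Z : Set A) with hC
    have hCmem : ∀ c : A, c ∈ C ↔ c ∈ P ∧ ∀ z ∈ Z, z * c = c * z := by
      intro c
      rw [hC, Subgroup.mem_inf, Subgroup.mem_centralizer_iff]
      rfl
    have hCP : C ≤ P := inf_le_left
    have hCx : ∀ c ∈ C, x * c * x⁻¹ ∈ C :=
      conj_mem_inf_centralizer x P Z h.hxP (conj_inv_mem x Z hZx)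
    have hCS : ∀ a ∈ S, ∀ c ∈ C, a * c * a⁻¹ ∈ C := fun a ha =>
      conj_mem_inf_centralizer a P Z (h.hSP a ha) (conj_inv_mem a Z (hZS' a ha))
    have hCeq : C = P := by
      by_contra hCne
      have h1 := hb C hCP hCne hCx hCS
      apply hSnc
      intro a ha u hu
      -- `w = u⁻¹ a u a⁻¹ ∈ C`
      have hauP : a * u * a⁻¹ ∈ P := h.hSP a ha u hu
      set w := u⁻¹ * (a * u * a⁻¹) with hw
      have hwP : w ∈ P := P.mul_mem (P.inv_mem hu) hauP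
      have hwC : w ∈ C := by
        rw [hCmem]
        refine ⟨hwP, ?_⟩
        intro z hz
        -- `u z u⁻¹ ∈ Z` is fixed by `a`
        have h2 : u * z * u⁻¹ ∈ Z := hZn u hu z hz
        have h3 : a * (u * z * u⁻¹) = (u * z * u⁻¹) * a := ((hZmem _).1 h2).2 a ha
        have h4 : a * z = z * a := ((hZmem _).1 hz).2 a ha
        have h4' : a⁻¹ * z = z * a⁻¹ := by
          have : Commute a⁻¹ z := (show Commute a z from h4).inv_left
          exact this.eq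
        -- `(a u a⁻¹) z (a u a⁻¹)⁻¹ = u z u⁻¹`
        have h5 : (a * u * a⁻¹) * z * (a * u * a⁻¹)⁻¹ = u * z * u⁻¹ := by
          calc (a * u * a⁻¹) * z * (a * u * a⁻¹)⁻¹
              = a * u * (a⁻¹ * z) * a * u⁻¹ * a⁻¹ := by group
            _ = a * u * (z * a⁻¹) * a * u⁻¹ * a⁻¹ := by rw [h4']
            _ = a * (u * z * u⁻¹) * a⁻¹ := by group
            _ = (u * z * u⁻¹) * a * a⁻¹ := by rw [h3]
            _ = u * z * u⁻¹ := by group
        rw [hw]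
        calc z * (u⁻¹ * (a * u * a⁻¹)) = u⁻¹ * (u * z * u⁻¹) * (a * u * a⁻¹) := by group
          _ = u⁻¹ * ((a * u * a⁻¹) * z * (a * u * a⁻¹)⁻¹) * (a * u * a⁻¹) := by rw [h5]
          _ = u⁻¹ * (a * u * a⁻¹) * z := by group
      have haw : a * w = w * a := h1 a ha w hwC
      have hauw : a * u * a⁻¹ = u * w := by rw [hw]; group
      obtain ⟨j, hj⟩ := (IsPGroup.iff_orderOf.1 h.hS) ⟨a, ha⟩
      have haj : a ^ (s ^ j) = 1 := by
        have : orderOf a = s ^ j := by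
          rw [← hj]; exact (Subgroup.orderOf_mk a ha).symm
        rw [← this]; exact pow_orderOf_eq_one a
      obtain ⟨i, hi⟩ := (IsPGroup.iff_orderOf.1 h.hP) ⟨w, hwP⟩
      have hwi : w ^ (q ^ i) = 1 := by
        have : orderOf w = q ^ i := by
          rw [← hi]; exact (Subgroup.orderOf_mk w hwP).symm
        rw [← this]; exact pow_orderOf_eq_one w
      have h6 := conj_pow_eq a u w hauw haw (s ^ j)
      rw [haj] at h6
      have hwj : w ^ (s ^ j) = 1 := by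
        have : u = u * w ^ (s ^ j) := by simpa using h6
        exact (mul_eq_left.1 this.symm)
      have hw1 : w = 1 := eq_one_of_pow_pow w q s i j h.hq h.hs h.hqs hwi hwj
      rw [hw1, mul_one] at hauw
      calc a * u = (a * u * a⁻¹) * a := by group
        _ = u * a := by rw [hauw]
    intro z hz u hu
    rw [← hCeq] at hu
    exact (((hCmem u).1 hu).2 z hz).symm
  -- `S` centralises `Z`
  have hZS : ∀ z ∈ Z, ∀ a ∈ S, a * z = z * a := fun z hz a ha => ((hZmem z).1 hz).2 a ha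
  -- `τ` centralises `Z`, by AB and faithfulness
  have hZτ : ∀ z ∈ Z, x ^ (2 ^ n) * z = z * x ^ (2 ^ n) := by
    intro z hz
    have hZq : IsPGroup q Z := h.hP.to_le hZP
    have hcop : (Nat.card Z).Coprime ℓ := by
      obtain ⟨k, hk⟩ := hZq.exists_card_eq
      rw [hk]
      exact Nat.Coprime.pow_left k ((Nat.coprime_primes h.hq h.hℓ).2 h.hqℓ)
    have h1 := hAB ℓ n h.hℓ h.hℓ2 h.htor x ⟨n + 1, h.hxn⟩
      (fun m => by rw [h.hxn, one_smul]) h.hfM Z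
      (fun b hb b' hb' => hZc b' hb' b (hZP hb)) hcop hZx z hz
    rw [← hτ] at h1 ⊢
    have h2 : (z * τ)⁻¹ * (τ * z) = 1 := by
      apply h.hfaith
      intro m
      rw [mul_smul, mul_smul, h1 m, ← mul_smul, ← mul_smul, mul_assoc, inv_mul_cancel, one_smul]
    exact (inv_mul_eq_one.1 h2).symm
  -- `τ` does not centralise `P`
  have hτPnc : ∃ u ∈ P, x ^ (2 ^ n) * u ≠ u * x ^ (2 ^ n) := by
    by_contra hcon
    push Not at hcon
    rw [← hτ] at hcon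
    obtain ⟨a, ha, u, hu, hne⟩ := hbad
    apply hne
    rw [hcτ]
    have h1 : τ * u = u * τ := hcon u hu
    have h1' : τ⁻¹ * u = u * τ⁻¹ := by rw [hτinv]; exact h1
    have h2 : τ * (a * u * a⁻¹) = (a * u * a⁻¹) * τ := hcon _ (h.hSP a ha u hu)
    calc a⁻¹ * τ * a * τ⁻¹ * u = a⁻¹ * τ * a * (τ⁻¹ * u) := by group
      _ = a⁻¹ * τ * a * (u * τ⁻¹) := by rw [h1']
      _ = a⁻¹ * (τ * (a * u * a⁻¹)) * a * τ⁻¹ := by group
      _ = a⁻¹ * ((a * u * a⁻¹) * τ) * a * τ⁻¹ := by rw [h2]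
      _ = u * (a⁻¹ * τ * a * τ⁻¹) := by group
  refine ⟨Z, ⟨h, hZP, hZx, hZc, hZS, hZτ, hder, hpow, ?_, hbad, hτPnc⟩⟩
  intro P₁ h1 h2 h3 h4
  by_cases h5 : P₁ = P
  · exact Or.inr h5
  · exact Or.inl (le_antisymm (hPle P₁ h2 h5 h3 h4) h1)

end

end Cfsg.Agent.Lib.Helper2.GR2M3S1
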