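import Mathlib
import Cfsg.Agent.Lib.Helper2.GR2M3Defs
import Cfsg.Agent.Lib.Helper2.GR2M3S1
import Cfsg.Agent.Lib.Helper7.GR2M3S3

set_option autoImplicit false
set_option linter.unusedVariables false
set_option linter.unusedSectionVars false

/-! S3795 module side, package M3-IND: the induction on `(|S|, |P|)` proving MT3 for faithful
actions from the structure step (M3-S1), the upper pair (M3-S3) and the lower pair (M3-S2, here
as a hypothesis `LowStep`). -/

namespace Cfsg.Agent.Lib.Helper2.GR2M3IND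

open Cfsg.Agent.Lib.Helper2.GR2M Cfsg.Agent.Lib.Helper2.GR2M3S1

open scoped commutatorElement

universe u

/-- the statement of package M3-S2 (`m3_low`), without its hypotheses AB and LOW. -/
def LowStep : Prop :=
  ∀ {A : Type u} [Group A] [Finite A] {M : Type u} [AddCommGroup M] [Finite M]
    [DistribMulAction A M] (ℓ q s n : ℕ) (x : A) (P S Z : Subgroup A),
    M3Min M ℓ q s n x P S Z → 1 ≤ n →
    ∀ u ∈ P, x ^ (2 ^ n) * u * (x ^ (2 ^ n))⁻¹ * u⁻¹ ∈ Z →
      x ^ (2 ^ (n - 1)) * u * (x ^ (2 ^ (n - 1)))⁻¹ * u⁻¹ ∈ Z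

section

variable {A : Type u} [Group A] [Finite A] {M : Type u} [AddCommGroup M] [Finite M]
  [DistribMulAction A M] (ℓ q s n : ℕ) (x : A) (P S Z : Subgroup A)

/-- the final computation: a minimal configuration is contradictory. -/
theorem m3_false (hUP : UPStatement.{u}) (hlow : LowStep.{u}) (h : M3Min M ℓ q s n x P S Z) :
    False := by
  obtain ⟨hn, u, hu, huZ, hι⟩ := Cfsg.Agent.Lib.Helper7.GR2M3S3.m3_up ℓ q s n x P S Z hUP h
  obtain ⟨ι, hιdef⟩ : ∃ ι : A, ι = x ^ (2 ^ (n - 1)) := ⟨_, rfl⟩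
  have hτι : x ^ (2 ^ n) = ι * ι := by
    rw [hιdef, ← pow_add, ← two_mul, ← pow_succ', Nat.sub_add_cancel hn]
  rw [← hιdef] at hι
  have hιZ : ∀ z ∈ Z, ι * z * ι⁻¹ ∈ Z := by rw [hιdef]; exact conj_pow_mem x Z h.hZx _
  set z := ι * u * ι⁻¹ * u with hz
  -- `τ u τ⁻¹ u⁻¹ ∈ Z`
  have h1 : x ^ (2 ^ n) * u * (x ^ (2 ^ n))⁻¹ * u⁻¹ ∈ Z := by
    have h2 : x ^ (2 ^ n) * u * (x ^ (2 ^ n))⁻¹ * u⁻¹ = (ι * z * ι⁻¹) * (u * z * u⁻¹)⁻¹ := by
      rw [hτι, hz]; group
    rw [h2]
    have h3 : u * z * u⁻¹ = z := by rw [h.hZc z hι u hu]; group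
    rw [h3]
    exact Z.mul_mem (hιZ z hι) (Z.inv_mem hι)
  have h4 := hlow ℓ q s n x P S Z h hn u hu h1
  rw [← hιdef] at h4
  -- `u ^ 2 ∈ Z`
  have h5 : u ^ 2 ∈ Z := by
    have h6 : u ^ 2 = (ι * u * ι⁻¹ * u⁻¹)⁻¹ * z := by rw [hz, pow_two]; group
    rw [h6]; exact Z.mul_mem (Z.inv_mem h4) hι
  -- `u ∈ Z`
  obtain ⟨k, hk⟩ := h.hq.odd_of_ne_two h.hq2
  have h7 : u = u ^ q * ((u ^ 2) ^ k)⁻¹ := by
    rw [← pow_mul, hk, pow_succ]; group
  apply huZ
  rw [h7]
  exact Z.mul_mem (h.hpow u hu) (Z.inv_mem (Z.pow_mem h5 k))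

end

/-- M3-IND: MT3 for faithful actions. -/
theorem mt3_faithful_of (hAB : ABStatement.{u}) (hUP : UPStatement.{u}) (hlow : LowStep.{u}) :
    MT3FStatement.{u} := by
  intro A _ _ M _ _ _ ℓ q s n x P S h
  have key : ∀ k : ℕ, ∀ S : Subgroup A, Nat.card S = k → ∀ j : ℕ, ∀ P : Subgroup A,
      Nat.card P = j → M3Hyp M ℓ q s n x P S →
      ∀ a ∈ S, ∀ u ∈ P, cτ x n a * u = u * cτ x n a := by
    intro k
    induction k using Nat.strong_induction_on with
    | _ k ihk =>
      intro S hSk j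
      induction j using Nat.strong_induction_on with
      | _ j ihj =>
        intro P hPj h
        by_contra hcon
        push Not at hcon
        have hminS : ∀ S₀ : Subgroup A, S₀ ≤ S → S₀ ≠ S → (∀ a ∈ S₀, x * a * x⁻¹ ∈ S₀) →
            ∀ a ∈ S₀, ∀ u ∈ P, cτ x n a * u = u * cτ x n a := by
          intro S₀ hle hne hx₀
          have hlt : Nat.card S₀ < k := by
            by_contra hge
            push Not at hge
            rw [← hSk] at hge
            exact hne (Subgroup.eq_of_le_of_card_ge hle hge)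
          exact ihk _ hlt S₀ rfl _ P rfl
            { h with
              hS := h.hS.to_le hle
              hxS := hx₀
              hSP := fun a ha => h.hSP a (hle ha)
              hfS := fun a ha => h.hfS a (hle ha) }
        have hminP : ∀ P₁ : Subgroup A, P₁ ≤ P → P₁ ≠ P → (∀ u ∈ P₁, x * u * x⁻¹ ∈ P₁) →
            (∀ a ∈ S, ∀ u ∈ P₁, a * u * a⁻¹ ∈ P₁) →
            ∀ a ∈ S, ∀ u ∈ P₁, cτ x n a * u = u * cτ x n a := by
          intro P₁ hle hne hx₁ hS₁
          have hlt : Nat.card P₁ < j := by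
            by_contra hge
            push Not at hge
            rw [← hPj] at hge
            exact hne (Subgroup.eq_of_le_of_card_ge hle hge)
          exact ihj _ hlt P₁ rfl
            { h with
              hP := h.hP.to_le hle
              hxP := hx₁
              hSP := hS₁
              hfP := fun u hu => h.hfP u (hle hu) }
        obtain ⟨Z, hZ⟩ := m3_structure ℓ q s n x P S hAB h hminS hminP hcon
        exact m3_false ℓ q s n x P S Z hUP hlow hZ
  exact key _ S rfl _ P rfl h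

end Cfsg.Agent.Lib.Helper2.GR2M3IND
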