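import Mathlib
import Cfsg.Agent.Lib.Helper2.GR2M3IND
import Cfsg.Agent.Lib.Helper3.GR2M3S2
import Cfsg.Agent.Lib.Helper6.GR2AB
import Cfsg.Agent.Lib.Helper6.GR2M3F

set_option autoImplicit false

/-! S3795 module side: assembly of the three-layer module theorem MT3 from the two sharp two-layer
statements UP and LOW. -/

namespace Cfsg.Agent.Lib.Helper2.GR2MT3

open Cfsg.Agent.Lib.Helper2.GR2M

universe u

/-- MT3 for faithful actions from UP and LOW. -/
theorem mt3_faithful (hUP : UPStatement.{u}) (hLOW : LOWStatement.{u}) : MT3FStatement.{u} :=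
  Cfsg.Agent.Lib.Helper2.GR2M3IND.mt3_faithful_of Cfsg.Agent.Lib.Helper6.GR2AB.ab_mod hUP
    (fun ℓ q s n x P S Z h hn =>
      Cfsg.Agent.Lib.Helper3.GR2M3S2.m3_low ℓ q s n x P S Z
        Cfsg.Agent.Lib.Helper6.GR2AB.ab_mod hLOW h hn)

/-- MT3 (helper3's group-side interface) from UP and LOW. -/
theorem mt3_of (hUP : UPStatement.{u}) (hLOW : LOWStatement.{u}) :
    Cfsg.Agent.Lib.Helper3.GR2.MT3Statement.{u} :=
  Cfsg.Agent.Lib.Helper6.GR2M3F.mt3_of_faithful (mt3_faithful hUP hLOW)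

end Cfsg.Agent.Lib.Helper2.GR2MT3
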