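import Mathlib
import Cfsg.Agent.Lib.Helper9.PPMA

set_option autoImplicit false

/-! S3795 (Gross, `p = 2`), package PW-A: the second Hall–Higman inequality as an equality, the trivial
bound `dim Y ≤ dim End_y(Y)`, and the resulting sharp description of an irreducible piece. -/

namespace Cfsg.Agent.Lib.Helper2.GrPWA

open Module Cfsg.Agent.Lib.Helper4.FM Cfsg.Agent.Lib.Helper4.HH

open scoped commutatorElement

variable {K : Type*} [Field K] [IsAlgClosed K] {G : Type*} [Group G] {Y : Type*} [AddCommGroup Y]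
  [Module K Y] [FiniteDimensional K Y] (ρ : Representation K G Y) (Q : Subgroup G)
  [hQn : Q.Normal] [Finite Q]

/-- the second inequality of Hall–Higman, as an equality. -/
theorem second_eq_pp (hQ : (Nat.card Q : K) ≠ 0)
    (H1 : ∀ u ∈ Q, ∀ v ∈ Q, ∃ c : K, ρ ⁅u, v⁆ = c • 1)
    (Z₁ : Subgroup G) (hZQ : Z₁ ≤ Q) (Hs : ∀ n ∈ Z₁, ∃ c : K, ρ n = c • 1)
    (x : G) (hfin : IsOfFinOrder x)
    (Hgen : ∀ e ∈ Subgroup.zpowers x, e ≠ 1 → ∀ S : Subgroup G,
      (∀ m ∈ Q, m⁻¹ * e⁻¹ * m * e ∈ S) → Z₁ ≤ S → Q ≤ S) :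
    orderOf x * finrank K (inv (ad ρ) (Subgroup.zpowers x)) + finrank K (inv (ad ρ) Q) =
      orderOf x * finrank K (inv ((ad ρ).subrepresentation _ (inv_invariant (ad ρ) Q))
        (Subgroup.zpowers x)) + finrank K Y * finrank K Y := by
  classical
  let _ : Fintype Q := Fintype.ofFinite Q
  have hcard : Nat.card (Subgroup.zpowers x) = orderOf x := Nat.card_zpowers x
  have : Finite (Subgroup.zpowers x) := by
    apply Nat.finite_of_card_ne_zero
    rw [hcard]
    exact (orderOf_pos_iff.mpr hfin).ne'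
  have hc : IsCompl (inv (ad ρ) Q) (ycomp (ad ρ) Q) := isCompl_inv_ycomp (ad ρ) Q hQ
  have hZ : ∀ g, inv (ad ρ) Q ≤ (inv (ad ρ) Q).comap (ad ρ g) := inv_invariant (ad ρ) Q
  have hY : ∀ g, ycomp (ad ρ) Q ≤ (ycomp (ad ρ) Q).comap (ad ρ g) := ycomp_invariant (ad ρ) Q
  have hadd := finrank_inv_add (ad ρ) _ _ hZ hY hc (Subgroup.zpowers x)
  have hcomm' : ∀ a b : Q, Commute ((ad ρ).subrepresentation _ hY (a : G))
      ((ad ρ).subrepresentation _ hY (b : G)) :=
    fun a b => sub_commute (ad ρ) _ hY _ _ (ad_commute ρ Q H1 a b)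
  have hindep := iSupIndep_wt ((ad ρ).subrepresentation _ hY) Q hcomm'
  have hspan := iSup_wt_eq_top ((ad ρ).subrepresentation _ hY) Q hcomm' hQ
  have hinv' : inv ((ad ρ).subrepresentation _ hY) Q = ⊥ :=
    inv_sub_eq_bot (ad ρ) _ hY Q hc.inf_eq_bot
  have hfree : ∀ e ∈ Subgroup.zpowers x, e ≠ 1 →
      ∀ χ : Q → K, wt ((ad ρ).subrepresentation _ hY) Q χ ≠ ⊥ → conjWt Q e χ ≠ χ := by
    intro e he he1
    apply free_of_gen _ Q e _ hinv'
    intro S hS hn
    apply Hgen e he he1 S hS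
    intro n hnZ
    apply hn n (hZQ hnZ)
    obtain ⟨c, hc'⟩ := Hs n hnZ
    have h1 : ad ρ n = ad ρ 1 := by
      rw [ad_eq_one_of_scalar ρ n c hc', map_one]
    rw [sub_eq_of_eq (ad ρ) _ hY n 1 h1, map_one]
  obtain ⟨h1, h2⟩ := finrank_eq_of_free _ Q (Subgroup.zpowers x) hindep hspan hfree
  have h3 := finrank_add_of_isCompl _ _ hc
  rw [Module.finrank_linearMap] at h3
  rw [hcard] at h1
  rw [hadd, h2, h3, h1, mul_add]
  ring

omit [hQn : Q.Normal] [Finite Q] in
/-- the trivial bound: the commutant of a diagonalisable operator is at least as large as the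
space.  Stated with the eigenvalue data that the sharp lemma needs. -/
theorem eig_data (x : G) (r : ℕ) (hr : 0 < r) (hx : x ^ r = 1) (hrK : (r : K) ≠ 0)
    (H4 : inv ρ (Subgroup.zpowers x) = ⊥) :
    ∃ S : Finset K, S.card ≤ r - 1 ∧ (∀ μ : K, μ ^ r = 1 → μ ≠ 1 → μ ∈ S) ∧
      ∑ μ ∈ S, finrank K (Module.End.eigenspace (ρ x) μ) = finrank K Y ∧
      ∑ μ ∈ S, finrank K (Module.End.eigenspace (ρ x) μ) ^ 2 ≤
        finrank K (inv (ad ρ) (Subgroup.zpowers x)) := by
  classical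
  set S : Finset K := (Polynomial.nthRootsFinset r (1 : K)).erase 1 with hS
  have hout : ∀ μ : K, μ ∉ S → Module.End.eigenspace (ρ x) μ = ⊥ := by
    intro μ hμ
    rw [Submodule.eq_bot_iff]
    intro v hv
    by_contra hv0
    apply hμ
    rw [Module.End.mem_eigenspace_iff] at hv
    have hpow : ∀ n : ℕ, ρ (x ^ n) v = μ ^ n • v := by
      intro n
      induction n with
      | zero => simp
      | succ n ih => rw [pow_succ, rho_mul_apply, hv, map_smul, ih, smul_smul, pow_succ, mul_comm]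
    have h1 := hpow r
    rw [hx, map_one, Module.End.one_apply] at h1
    have h2 : (μ ^ r - 1) • v = 0 := by rw [sub_smul, one_smul, ← h1, sub_self]
    have h3 : μ ^ r = 1 := by
      rcases smul_eq_zero.1 h2 with h | h
      · exact sub_eq_zero.1 h
      · exact absurd h hv0
    rw [hS, Finset.mem_erase, Polynomial.mem_nthRootsFinset hr]
    refine ⟨?_, h3⟩
    rintro rfl
    rw [one_smul] at hv
    have hxf : x ∈ fixer ρ v := hv
    have hle : Subgroup.zpowers x ≤ fixer ρ v := (Subgroup.zpowers_le).2 hxf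
    have hvi : v ∈ inv ρ (Subgroup.zpowers x) := fun s hs => hle hs
    rw [H4] at hvi
    exact hv0 ((Submodule.mem_bot K).1 hvi)
  have htop : ⨆ μ ∈ S, Module.End.eigenspace (ρ x) μ = ⊤ := by
    rw [eq_top_iff, ← iSup_eigenspace_eq_top ρ x r hrK hx]
    apply iSup_le
    intro μ
    by_cases hμ : μ ∈ S
    · exact le_biSup (fun μ => Module.End.eigenspace (ρ x) μ) hμ
    · rw [hout μ hμ]
      exact bot_le
  have hD := sum_finrank_eq_of_indep _ (Module.End.eigenspaces_iSupIndep (ρ x)) S htop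
  have hE : ∑ μ ∈ S, finrank K (emu (ρ x) μ) ≤
      finrank K (inv (ad ρ) (Subgroup.zpowers x)) := by
    rw [← finrank_biSup_of_indep _ (emu_indep (ρ x)) S]
    apply Submodule.finrank_mono
    apply iSup₂_le
    intro μ _
    exact emu_le_inv ρ x μ
  have hcard : S.card ≤ r - 1 := by
    have h1 : (1 : K) ∈ Polynomial.nthRootsFinset r (1 : K) := by
      rw [Polynomial.mem_nthRootsFinset hr, one_pow]
    rw [hS, Finset.card_erase_of_mem h1]
    apply Nat.sub_le_sub_right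
    rw [Polynomial.nthRootsFinset_def]
    exact le_trans (Multiset.toFinset_card_le _) (Polynomial.card_nthRoots r 1)
  refine ⟨S, hcard, ?_, hD, ?_⟩
  · intro μ hμ hμ1
    rw [hS, Finset.mem_erase, Polynomial.mem_nthRootsFinset hr]
    exact ⟨hμ1, hμ⟩
  · refine le_trans ?_ hE
    apply Finset.sum_le_sum
    intro μ _
    rw [sq]
    exact finrank_emu_ge (ρ x) μ

/-- arithmetic core of the sharp lemma. -/
theorem pw_arith (o d c D : ℕ) (hc : 1 ≤ c) (hd : 2 ≤ d)
    (h1 : o * D + c ≤ o + d * d) (h2 : d ≤ D) (h3 : d * d ≤ (o - 1) * D) :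
    d + 1 = o ∧ D = d := by
  have ho : 2 ≤ o := by
    by_contra h
    have : o - 1 = 0 := by omega
    rw [this, zero_mul] at h3
    nlinarith
  obtain ⟨s, rfl⟩ : ∃ s, o = s + 1 := ⟨o - 1, by omega⟩
  rw [Nat.add_sub_cancel] at h3
  have hs : 1 ≤ s := by omega
  -- `d ≤ s`
  have hds : d ≤ s := by
    by_contra h
    have hsd : s + 1 ≤ d := by omega
    nlinarith
  have hcD : D ≤ d ∨ d < D := le_or_gt D d
  have key : (s + 1) * d * d ≤ s * ((s + 1) + d * d) := by nlinarith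
  have key2 : d * d ≤ s * s + s := by nlinarith
  by_cases hds' : d = s
  · subst hds'
    refine ⟨rfl, ?_⟩
    nlinarith
  · exfalso
    have hlt : d + 1 ≤ s := by omega
    have h5 : (s + 1) * d + 1 ≤ (s + 1) + d * d := by nlinarith
    nlinarith

/-- the sharp lemma on an irreducible piece: dimension `o - 1`, and every non-trivial `o`-th root of
unity is an eigenvalue. -/
theorem pw_piece [Nontrivial Y] (hQ : (Nat.card Q : K) ≠ 0)
    (H1 : ∀ u ∈ Q, ∀ v ∈ Q, ∃ c : K, ρ ⁅u, v⁆ = c • 1)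
    (Z₁ : Subgroup G) (hZQ : Z₁ ≤ Q) (Hs : ∀ n ∈ Z₁, ∃ c : K, ρ n = c • 1)
    (x : G) (hfin : IsOfFinOrder x) (hrK : (orderOf x : K) ≠ 0)
    (Hgen : ∀ e ∈ Subgroup.zpowers x, e ≠ 1 → ∀ S : Subgroup G,
      (∀ m ∈ Q, m⁻¹ * e⁻¹ * m * e ∈ S) → Z₁ ≤ S → Q ≤ S)
    (H4 : inv ρ (Subgroup.zpowers x) = ⊥)
    (hschur : ∀ T : Module.End K Y, (∀ m ∈ Q, ρ m * T = T * ρ m) → ρ x * T = T * ρ x →
      ∃ c : K, T = c • 1)
    (hd : 2 ≤ finrank K Y) :
    finrank K Y + 1 = orderOf x ∧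
      ∀ μ : K, μ ^ orderOf x = 1 → μ ≠ 1 → Module.End.eigenspace (ρ x) μ ≠ ⊥ := by
  classical
  have hpos : 0 < orderOf x := orderOf_pos_iff.mpr hfin
  have h2eq := second_eq_pp ρ Q hQ H1 Z₁ hZQ Hs x hfin Hgen
  have h3 := Cfsg.Agent.Lib.Helper9.PPMA.third_ineq_pp ρ x (orderOf x) hpos
    (pow_orderOf_eq_one x) hrK H4
  -- the Schur bound
  have hc1 : finrank K (inv ((ad ρ).subrepresentation _ (inv_invariant (ad ρ) Q))
      (Subgroup.zpowers x)) ≤ 1 := by
    rw [finrank_inv_sub]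
    have hle : inv (ad ρ) (Subgroup.zpowers x) ⊓ inv (ad ρ) Q ≤
        Submodule.span K {(1 : Module.End K Y)} := by
      intro T hT
      obtain ⟨hTx, hTQ⟩ := Submodule.mem_inf.1 hT
      obtain ⟨c, hc⟩ := hschur T
        (fun m hm => (ad_eq_iff ρ m T).1 (hTQ m hm))
        ((ad_eq_iff ρ x T).1 (hTx x (Subgroup.mem_zpowers x)))
      rw [hc]
      exact Submodule.smul_mem _ _ (Submodule.mem_span_singleton_self _)
    refine le_trans (Submodule.finrank_mono hle) ?_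
    have := finrank_span_finset_le_card (R := K) ({(1 : Module.End K Y)} : Finset (Module.End K Y))
    rw [Set.finrank, Finset.coe_singleton, Finset.card_singleton] at this
    exact this
  have hc : 1 ≤ finrank K (inv (ad ρ) Q) := by
    rw [Nat.one_le_iff_ne_zero]
    intro h0
    have hbot := Submodule.finrank_eq_zero.1 h0
    have h1m := one_mem_inv_ad ρ Q
    rw [hbot, Submodule.mem_bot] at h1m
    obtain ⟨y, hy⟩ := exists_ne (0 : Y)
    apply hy
    have := LinearMap.congr_fun h1m y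
    rwa [Module.End.one_apply, LinearMap.zero_apply] at this
  obtain ⟨S, hScard, hSmem, hSsum, hSsq⟩ :=
    eig_data ρ x (orderOf x) hpos (pow_orderOf_eq_one x) hrK H4
  set dμ : K → ℕ := fun μ => finrank K (Module.End.eigenspace (ρ x) μ) with hdμ
  have hle2 : finrank K Y ≤ finrank K (inv (ad ρ) (Subgroup.zpowers x)) := by
    rw [← hSsum]
    refine le_trans ?_ hSsq
    apply Finset.sum_le_sum
    intro μ _
    nlinarith [Nat.zero_le (finrank K (Module.End.eigenspace (ρ x) μ))]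
  have h1' : orderOf x * finrank K (inv (ad ρ) (Subgroup.zpowers x)) + finrank K (inv (ad ρ) Q) ≤
      orderOf x + finrank K Y * finrank K Y := by
    rw [h2eq]
    have := Nat.mul_le_mul_left (orderOf x) hc1
    omega
  obtain ⟨ho, hD⟩ := pw_arith (orderOf x) (finrank K Y) (finrank K (inv (ad ρ) Q))
    (finrank K (inv (ad ρ) (Subgroup.zpowers x))) hc hd h1' hle2 h3
  refine ⟨ho, ?_⟩
  -- all multiplicities are `1`
  have hsq_le : ∑ μ ∈ S, dμ μ ^ 2 ≤ ∑ μ ∈ S, dμ μ := by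
    rw [hSsum, ← hD]
    exact hSsq
  have hterm : ∀ μ ∈ S, dμ μ ≤ dμ μ ^ 2 := by
    intro μ _
    nlinarith [Nat.zero_le (dμ μ)]
  have heq : ∀ μ ∈ S, dμ μ ^ 2 = dμ μ := by
    have hsum_eq : ∑ μ ∈ S, dμ μ = ∑ μ ∈ S, dμ μ ^ 2 :=
      le_antisymm (Finset.sum_le_sum hterm) hsq_le
    intro μ hμ
    exact ((Finset.sum_eq_sum_iff_of_le hterm).1 hsum_eq μ hμ).symm
  have hle1 : ∀ μ ∈ S, dμ μ ≤ 1 := by
    intro μ hμ
    have := heq μ hμ
    by_contra h
    have h2 : 2 ≤ dμ μ := by omega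
    nlinarith
  have hall1 : ∀ μ ∈ S, dμ μ = 1 := by
    by_contra hne
    push Not at hne
    obtain ⟨μ₀, hμ₀, hμ₀ne⟩ := hne
    have h0 : dμ μ₀ = 0 := by
      have := hle1 μ₀ hμ₀
      omega
    have hlt : ∑ μ ∈ S, dμ μ < ∑ μ ∈ S, 1 := by
      apply Finset.sum_lt_sum hle1
      exact ⟨μ₀, hμ₀, by rw [h0]; exact Nat.one_pos⟩
    rw [Finset.sum_const, smul_eq_mul, mul_one, hSsum] at hlt
    omega
  intro μ hμ hμ1 hbot
  have := hall1 μ (hSmem μ hμ hμ1)
  rw [hdμ] at this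
  simp only at this
  rw [hbot, finrank_bot] at this
  exact absurd this (by norm_num)

end Cfsg.Agent.Lib.Helper2.GrPWA
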