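import Mathlib
import Cfsg.Agent.Lib.Helper2.GR2MT3
import Cfsg.Agent.Lib.Helper3.GR2D
import Cfsg.Agent.Lib.Helper3.GR2E
import Cfsg.Agent.Lib.Helper6.GR2UP
import Cfsg.Agent.Lib.Helper8.GR2C2

set_option autoImplicit false

/-! S3795 (Gross, `p = 2`): the whole theorem from the last open module package LOW. -/

namespace Cfsg.Agent.Lib.Helper2.GR2FIN

open Cfsg.Agent.Lib.Helper2.GR2M

universe u

/-- MT3 from LOW. -/
theorem mt3_of_low (hLOW : LOWStatement.{u}) : Cfsg.Agent.Lib.Helper3.GR2.MT3Statement.{u} :=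
  Cfsg.Agent.Lib.Helper2.GR2MT3.mt3_of Cfsg.Agent.Lib.Helper6.GR2UP.up_mod hLOW

/-- KT2 from LOW. -/
theorem kt2_of_low (hLOW : LOWStatement.{u}) : Cfsg.Agent.Lib.Helper3.GR2.KT2Statement.{u} :=
  Cfsg.Agent.Lib.Helper3.GR2.kt2_of
    (fun h n hx H₁ H M _ _ _ hHG h1H hM1 r hr hM hnil hk =>
      Cfsg.Agent.Lib.Helper8.GR2C.kt2_step (mt3_of_low hLOW) h n hx H₁ H M hHG h1H hM1 r hr hM
        hnil hk)

/-- Gross's theorem from LOW. -/
theorem result_of_low (hLOW : LOWStatement.{u}) {G : Type u} [Group G] [Finite G]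
    (hG : Group.IsSolvable G) (σ : MulAut G) (n : ℕ) (hn : 1 < n) (hσ : orderOf σ = 2 ^ n)
    (hfpf : ∀ g : G, σ g = g → g = 1) :
    ∃ F : Fin ((2 * n - 2) + 1) → Subgroup G, F 0 = ⊥ ∧ F (Fin.last (2 * n - 2)) = ⊤ ∧
      Monotone F ∧ (∀ i, (F i).Normal) ∧
      ∀ i : Fin (2 * n - 2), ∃ k : ℕ, (F i.succ).lowerCentralSeries k ≤ F i.castSucc :=
  Cfsg.Agent.Lib.Helper3.GR2.result_of (kt2_of_low hLOW) hG σ n hn hσ hfpf

end Cfsg.Agent.Lib.Helper2.GR2FIN
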