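import Mathlib
import Cfsg.Agent.S0278

set_option autoImplicit false

namespace Cfsg.Agent.Lib.Helper2

namespace GUCenter

open Matrix Cfsg.Agent.Lib.Helper2.Herm Cfsg.Agent.Lib.Helper1.HermCount
  Cfsg.Agent.Lib.Helper1.GUBasic Cfsg.Agent.S0278

variable {F : Type*} [Field F] [Fintype F] {q : ℕ} {n : ℕ}

/-- a norm one element different from one -/
theorem exists_nrm_one_ne_one (hF : Fintype.card F = q ^ 2) : ∃ z : F, nrm q z = 1 ∧ z ≠ 1 := by
  have h1 := card_norm_one hF
  have hq2 := two_le_q hF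
  have h2 : 1 < Nat.card {l : Fˣ // nrm q (l : F) = 1} := by rw [h1]; omega
  rw [Finite.one_lt_card_iff_nontrivial] at h2
  have h3 : nrm q ((1 : Fˣ) : F) = 1 := by unfold nrm; simp
  obtain ⟨⟨l, hl⟩, hne⟩ := exists_ne (⟨1, h3⟩ : {l : Fˣ // nrm q (l : F) = 1})
  refine ⟨(l : F), hl, ?_⟩
  intro h
  apply hne
  apply Subtype.ext
  apply Units.ext
  exact h

omit [Fintype F] in
theorem swap_preserves (i j : Fin n) (u v : Fin n → F) :
    Cfsg.hermForm n F q (Matrix.swap F i j *ᵥ u) (Matrix.swap F i j *ᵥ v) =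
      Cfsg.hermForm n F q u v := by
  rw [Matrix.swap_mulVec, Matrix.swap_mulVec]
  unfold Cfsg.hermForm
  exact Equiv.sum_comp (Equiv.swap i j) (fun k => u k * v k ^ q)

omit [Fintype F] in
theorem smul_preserves (l : F) (hl : nrm q l = 1) (u v : Fin n → F) :
    Cfsg.hermForm n F q ((l • (1 : Matrix (Fin n) (Fin n) F)) *ᵥ u)
      ((l • (1 : Matrix (Fin n) (Fin n) F)) *ᵥ v) = Cfsg.hermForm n F q u v := by
  rw [Matrix.smul_mulVec, Matrix.smul_mulVec, Matrix.one_mulVec, Matrix.one_mulVec,
    herm_smul_left, herm_smul_right, ← mul_assoc]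
  unfold nrm at hl
  rw [hl, one_mul]

/-- central elements of the unitary group are scalar -/
theorem center_scalar (hF : Fintype.card F = q ^ 2) (hn : 1 ≤ n) (z : Cfsg.GU n F q)
    (hz : z ∈ Subgroup.center (Cfsg.GU n F q)) :
    ∃ l : F, nrm q l = 1 ∧
      ((z : Matrix.GeneralLinearGroup (Fin n) F) : Matrix (Fin n) (Fin n) F) =
        l • (1 : Matrix (Fin n) (Fin n) F) := by
  classical
  set M : Matrix (Fin n) (Fin n) F := ((z : Matrix.GeneralLinearGroup (Fin n) F) :
    Matrix (Fin n) (Fin n) F) with hM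
  rw [Subgroup.mem_center_iff] at hz
  have hcomm : ∀ (A : Matrix (Fin n) (Fin n) F)
      (hA : ∀ u v, Cfsg.hermForm n F q (A *ᵥ u) (A *ᵥ v) = Cfsg.hermForm n F q u v),
      A * M = M * A := by
    intro A hA
    have h1 := hz (mkGU hF A hA)
    have h2 := congrArg (fun g : Cfsg.GU n F q =>
      ((g : Matrix.GeneralLinearGroup (Fin n) F) : Matrix (Fin n) (Fin n) F)) h1
    simp only [Subgroup.coe_mul, Units.val_mul, mkGU_coe] at h2
    exact h2
  obtain ⟨ζ, hζ, hζ1⟩ := exists_nrm_one_ne_one hF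
  -- off-diagonal entries vanish
  have hoff : ∀ i b, i ≠ b → M i b = 0 := by
    intro i b hib
    set d : Fin n → F := Function.update (fun _ => 1) i ζ with hd
    have hd1 : ∀ k, nrm q (d k) = 1 := by
      intro k
      by_cases hk : k = i
      · rw [hk, hd, Function.update_self]; exact hζ
      · rw [hd, Function.update_of_ne hk]
        unfold nrm; simp
    have h1 := hcomm (Matrix.diagonal d) (diag_preserves d hd1)
    have h2 := congrFun (congrFun h1 i) b
    rw [Matrix.diagonal_mul, Matrix.mul_diagonal] at h2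
    have hdi : d i = ζ := by rw [hd, Function.update_self]
    have hdb : d b = 1 := by rw [hd, Function.update_of_ne (Ne.symm hib)]
    rw [hdi, hdb, mul_one] at h2
    have h3 : (ζ - 1) * M i b = 0 := by rw [sub_mul, h2, one_mul, sub_self]
    rcases mul_eq_zero.1 h3 with h4 | h4
    · exact absurd (sub_eq_zero.1 h4) hζ1
    · exact h4
  -- diagonal entries agree
  have hdiag : ∀ i j, M i i = M j j := by
    intro i j
    have h1 := hcomm (Matrix.swap F i j) (swap_preserves i j)
    have h2 := congrFun (congrFun h1 i) j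
    rw [Matrix.swap_mul_apply_left, Matrix.mul_swap_apply_right] at h2
    exact h2.symm
  set i₀ : Fin n := ⟨0, hn⟩ with hi₀
  have hMeq : M = M i₀ i₀ • (1 : Matrix (Fin n) (Fin n) F) := by
    ext a b
    rw [Matrix.smul_apply, Matrix.one_apply, smul_eq_mul]
    by_cases hab : a = b
    · rw [if_pos hab, mul_one, ← hab]
      exact hdiag a i₀
    · rw [if_neg hab, mul_zero]
      exact hoff a b hab
  refine ⟨M i₀ i₀, ?_, hMeq⟩
  have h1 := GU_preserves z (Pi.single i₀ 1) (Pi.single i₀ 1)
  rw [← hM, hMeq, Matrix.smul_mulVec, Matrix.one_mulVec, herm_smul_left, herm_smul_right,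
    herm_single_left, Pi.single_eq_same, one_pow, mul_one] at h1
  exact h1

/-- the scalar element of the unitary group -/
noncomputable def scalarGU (hF : Fintype.card F = q ^ 2) (n : ℕ) (l : F) (hl : nrm q l = 1) :
    Cfsg.GU n F q :=
  mkGU hF (l • (1 : Matrix (Fin n) (Fin n) F)) (smul_preserves l hl)

theorem scalarGU_coe (hF : Fintype.card F = q ^ 2) (l : F) (hl : nrm q l = 1) :
    (((scalarGU hF n l hl : Cfsg.GU n F q) : Matrix.GeneralLinearGroup (Fin n) F) :
      Matrix (Fin n) (Fin n) F) = l • (1 : Matrix (Fin n) (Fin n) F) := mkGU_coe hF _ _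

theorem scalarGU_mem_center (hF : Fintype.card F = q ^ 2) (l : F) (hl : nrm q l = 1) :
    scalarGU hF n l hl ∈ Subgroup.center (Cfsg.GU n F q) := by
  rw [Subgroup.mem_center_iff]
  intro g
  apply GU_ext
  simp only [Subgroup.coe_mul, Units.val_mul, scalarGU_coe]
  rw [Matrix.mul_smul, Matrix.smul_mul, Matrix.mul_one, Matrix.one_mul]

theorem det_scalarGU (hF : Fintype.card F = q ^ 2) (l : F) (hl : nrm q l = 1) :
    ((detGU n F q (scalarGU hF n l hl) : Fˣ) : F) = l ^ n := by
  rw [detGU_coe, scalarGU_coe, Matrix.det_smul, Matrix.det_one, mul_one, Fintype.card_fin]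

end GUCenter

end Cfsg.Agent.Lib.Helper2
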