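import Mathlib

set_option autoImplicit false

/-!
# Generously `k`-transitive groups (P. M. Neumann)

If every `(k+1)`-subset has the full symmetric group induced on it, then for a prime `p ≤ k`
and a `k`-set `Γ`, at most `p - 1` orbits of the pointwise stabiliser of `Γ` outside `Γ`
have length prime to `p`.
-/

namespace Cfsg.Agent.Lib.Helper2.Generous

open MulAction
open scoped Pointwise

variable {G : Type*} [Group G] {α : Type*} [DecidableEq α] [MulAction G α] {k : ℕ}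

/-- a generously `k`-transitive group is `k`-homogeneous -/
theorem homog
    (hgen : ∀ s : Finset α, s.card = k + 1 → ∀ σ : Equiv.Perm ↥s,
      ∃ g : G, ∀ x : ↥s, g • (x : α) = σ x)
    (A B : Finset α) (hA : A.card = k) (hB : B.card = k) : ∃ g : G, g • A = B := by
  induction' h : (A \ B).card using Nat.strong_induction_on with n ih generalizing A
  by_cases hn : n = 0
  · refine ⟨1, ?_⟩
    rw [one_smul]
    rw [hn, Finset.card_eq_zero, Finset.sdiff_eq_empty_iff_subset] at h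
    exact Finset.eq_of_subset_of_card_le h (by rw [hA, hB])
  · have hne : (A \ B).Nonempty := by
      rw [← Finset.card_pos, h]
      exact Nat.pos_of_ne_zero hn
    have hne' : (B \ A).Nonempty := by
      rw [← Finset.card_pos, ← Finset.card_sdiff_comm (hA.trans hB.symm), h]
      exact Nat.pos_of_ne_zero hn
    obtain ⟨a, ha⟩ := hne
    obtain ⟨b, hb⟩ := hne'
    rw [Finset.mem_sdiff] at ha hb
    have hscard : (insert b A).card = k + 1 := by
      rw [Finset.card_insert_of_notMem hb.2, hA]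
    have has : a ∈ insert b A := Finset.mem_insert_of_mem ha.1
    have hbs : b ∈ insert b A := Finset.mem_insert_self b A
    obtain ⟨g₁, hg₁⟩ := hgen (insert b A) hscard (Equiv.swap ⟨a, has⟩ ⟨b, hbs⟩)
    have hab : a ≠ b := fun h => hb.2 (h ▸ ha.1)
    have hg₁a : g₁ • a = b := by
      have := hg₁ ⟨a, has⟩
      rw [Equiv.swap_apply_left] at this
      exact this
    have hg₁x : ∀ x ∈ A, x ≠ a → g₁ • x = x := by
      intro x hx hxa
      have := hg₁ ⟨x, Finset.mem_insert_of_mem hx⟩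
      rw [Equiv.swap_apply_of_ne_of_ne] at this
      · exact this
      · intro h
        exact hxa (congrArg Subtype.val h)
      · intro h
        have h' : x = b := congrArg Subtype.val h
        exact hb.2 (h' ▸ hx)
    have hsub : (g₁ • A) \ B ⊆ (A \ B).erase a := by
      intro z hz
      rw [Finset.mem_sdiff, Finset.mem_smul_finset] at hz
      obtain ⟨⟨x, hx, rfl⟩, hzB⟩ := hz
      by_cases hxa : x = a
      · exfalso
        rw [hxa, hg₁a] at hzB
        exact hzB hb.1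
      · rw [hg₁x x hx hxa] at hzB ⊢
        rw [Finset.mem_erase, Finset.mem_sdiff]
        exact ⟨hxa, hx, hzB⟩
    have hlt : ((g₁ • A) \ B).card < n := by
      have h1 := Finset.card_le_card hsub
      rw [Finset.card_erase_of_mem (Finset.mem_sdiff.mpr ha), h] at h1
      omega
    obtain ⟨g₂, hg₂⟩ := ih _ hlt (g₁ • A) (by rw [Finset.card_smul_finset, hA]) rfl
    exact ⟨g₂ * g₁, by rw [mul_smul, hg₂]⟩

/-- pointwise stabilizers of `k`-sets have the same order -/
theorem card_fixing_eq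
    (hgen : ∀ s : Finset α, s.card = k + 1 → ∀ σ : Equiv.Perm ↥s,
      ∃ g : G, ∀ x : ↥s, g • (x : α) = σ x)
    (A B : Finset α) (hA : A.card = k) (hB : B.card = k) :
    Nat.card (fixingSubgroup G (A : Set α)) = Nat.card (fixingSubgroup G (B : Set α)) := by
  obtain ⟨g, hg⟩ := homog hgen A B hA hB
  have hg' : g • (A : Set α) = (B : Set α) := by
    rw [← Finset.coe_smul_finset, hg]
  rw [← SubMulAction.fixingSubgroup_map_conj_eq hg']
  exact (Subgroup.card_map_of_injective (MulAut.conj g).injective).symm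

/-- an element stabilizing the `k`-set `Γ` preserves every orbit of the pointwise
stabilizer outside `Γ` -/
theorem inv_smul_mem_orbit
    (hgen : ∀ s : Finset α, s.card = k + 1 → ∀ σ : Equiv.Perm ↥s,
      ∃ g : G, ∀ x : ↥s, g • (x : α) = σ x)
    (Γ : Finset α) (hΓ : Γ.card = k) (ℓ : G) (hℓ : ∀ γ ∈ Γ, ℓ • γ ∈ Γ) (y : α) (hy : y ∉ Γ) :
    ℓ⁻¹ • y ∈ MulAction.orbit (fixingSubgroup G (Γ : Set α)) y := by
  set c : Equiv.Perm α := Equiv.swap (ℓ • y) y * MulAction.toPerm ℓ with hc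
  have hcy : c y = y := by
    rw [hc, Equiv.Perm.mul_apply, MulAction.toPerm_apply, Equiv.swap_apply_left]
  have hcγ : ∀ γ ∈ Γ, c γ = ℓ • γ := by
    intro γ hγ
    rw [hc, Equiv.Perm.mul_apply, MulAction.toPerm_apply, Equiv.swap_apply_of_ne_of_ne]
    · intro h
      rw [smul_left_cancel_iff] at h
      exact hy (h ▸ hγ)
    · intro h
      exact hy (h ▸ hℓ γ hγ)
  have hscard : (insert y Γ).card = k + 1 := by
    rw [Finset.card_insert_of_notMem hy, hΓ]
  have hcs : ∀ x, x ∈ insert y Γ → c x ∈ insert y Γ := by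
    intro x hx
    rw [Finset.mem_insert] at hx
    rcases hx with rfl | hx
    · rw [hcy]
      exact Finset.mem_insert_self _ _
    · rw [hcγ x hx]
      exact Finset.mem_insert_of_mem (hℓ x hx)
  obtain ⟨g, hg⟩ := hgen (insert y Γ) hscard (c.subtypePermOfFintype hcs)
  have hgy : g • y = y := by
    have := hg ⟨y, Finset.mem_insert_self _ _⟩
    rw [Equiv.Perm.subtypePermOfFintype_apply] at this
    exact this.trans hcy
  have hgγ : ∀ γ ∈ Γ, g • γ = ℓ • γ := by
    intro γ hγ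
    have := hg ⟨γ, Finset.mem_insert_of_mem hγ⟩
    rw [Equiv.Perm.subtypePermOfFintype_apply] at this
    exact this.trans (hcγ γ hγ)
  have hk : ℓ⁻¹ * g ∈ fixingSubgroup G (Γ : Set α) := by
    rw [mem_fixingSubgroup_iff]
    intro γ hγ
    rw [mul_smul, hgγ γ hγ, inv_smul_smul]
  rw [MulAction.mem_orbit_iff]
  refine ⟨⟨ℓ⁻¹ * g, hk⟩, ?_⟩
  change (ℓ⁻¹ * g) • y = ℓ⁻¹ • y
  rw [mul_smul, hgy]

/-- **Neumann**: in a generously `k`-transitive group, for a prime `p ≤ k` and a `k`-set `Γ`,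
among `p` points outside `Γ` in distinct orbits of the pointwise stabilizer of `Γ`, one orbit
has length divisible by `p`. -/
theorem generous_orbits [Finite G]
    (hgen : ∀ s : Finset α, s.card = k + 1 → ∀ σ : Equiv.Perm ↥s,
      ∃ g : G, ∀ x : ↥s, g • (x : α) = σ x)
    {p : ℕ} (hp : p.Prime) (hpk : p ≤ k) (Γ : Finset α) (hΓ : Γ.card = k) (f : Fin p → α)
    (hf : ∀ i, f i ∉ Γ)
    (hdist : ∀ i j, i ≠ j → f j ∉ MulAction.orbit (fixingSubgroup G (Γ : Set α)) (f i)) :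
    ∃ i, p ∣ Nat.card (MulAction.orbit (fixingSubgroup G (Γ : Set α)) (f i)) := by
  classical
  by_contra hcon
  push Not at hcon
  haveI : Fact p.Prime := ⟨hp⟩
  set K := fixingSubgroup G (Γ : Set α) with hK
  have memK : ∀ g : G, g ∈ K ↔ ∀ γ ∈ Γ, g • γ = γ := by
    intro g
    rw [hK, mem_fixingSubgroup_iff]
    rfl
  -- a subset of `p` points and a permutation of order `p` on it
  obtain ⟨Γ₀, hΓ₀sub, hΓ₀card⟩ := Finset.exists_subset_card_eq (hΓ ▸ hpk : p ≤ Γ.card)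
  have hdvd : p ∣ Nat.card (Equiv.Perm ↥Γ₀) := by
    rw [Nat.card_eq_fintype_card, Fintype.card_perm, Fintype.card_coe, hΓ₀card]
    exact hp.dvd_factorial.mpr le_rfl
  obtain ⟨c₀, hc₀⟩ := exists_prime_orderOf_dvd_card' p hdvd
  set c : Equiv.Perm α := Equiv.Perm.ofSubtype c₀ with hc
  have hc_mem : ∀ x ∈ Γ₀, c x ∈ Γ₀ := by
    intro x hx
    rw [hc, Equiv.Perm.ofSubtype_apply_of_mem c₀ hx]
    exact (c₀ ⟨x, hx⟩).2
  have hc_not : ∀ x, x ∉ Γ₀ → c x = x := fun x hx =>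
    Equiv.Perm.ofSubtype_apply_of_not_mem c₀ hx
  have hc_pow : c ^ p = 1 := by
    rw [hc, ← map_pow, ← hc₀, pow_orderOf_eq_one, map_one]
  obtain ⟨γ₀, hγ₀, hcγ₀⟩ : ∃ γ₀ ∈ Γ₀, c γ₀ ≠ γ₀ := by
    by_contra h
    push Not at h
    have h1 : c₀ = 1 := by
      ext x
      have := h x x.2
      rw [hc, Equiv.Perm.ofSubtype_apply_of_mem c₀ x.2] at this
      rw [Equiv.Perm.one_apply]
      exact this
    rw [h1, orderOf_one] at hc₀
    exact hp.one_lt.ne hc₀
  -- an element `x` of `G` inducing `c` on `Γ`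
  let i₀ : Fin p := ⟨0, hp.pos⟩
  have hscard : (insert (f i₀) Γ).card = k + 1 := by
    rw [Finset.card_insert_of_notMem (hf i₀), hΓ]
  have hcs : ∀ z, z ∈ insert (f i₀) Γ → c z ∈ insert (f i₀) Γ := by
    intro z hz
    by_cases hz0 : z ∈ Γ₀
    · exact Finset.mem_insert_of_mem (hΓ₀sub (hc_mem z hz0))
    · rw [hc_not z hz0]
      exact hz
  obtain ⟨x, hx⟩ := hgen (insert (f i₀) Γ) hscard (c.subtypePermOfFintype hcs)
  have hxΓ : ∀ γ ∈ Γ, x • γ = c γ := by
    intro γ hγ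
    have := hx ⟨γ, Finset.mem_insert_of_mem hγ⟩
    rw [Equiv.Perm.subtypePermOfFintype_apply] at this
    exact this
  have hcΓ : ∀ γ ∈ Γ, c γ ∈ Γ := by
    intro γ hγ
    by_cases hz0 : γ ∈ Γ₀
    · exact hΓ₀sub (hc_mem γ hz0)
    · rw [hc_not γ hz0]
      exact hγ
  -- the subgroup `L₁`
  set L₁ : Subgroup G := fixingSubgroup G ((Γ \ Γ₀ : Finset α) : Set α) ⊓
    MulAction.stabilizer G ((Γ₀ : Finset α) : Set α) with hL₁
  have memL₁ : ∀ g : G, g ∈ L₁ ↔ (∀ γ ∈ Γ, γ ∉ Γ₀ → g • γ = γ) ∧ ∀ γ ∈ Γ₀, g • γ ∈ Γ₀ := by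
    intro g
    rw [hL₁, Subgroup.mem_inf, mem_fixingSubgroup_iff,
      MulAction.mem_stabilizer_set_iff_smul_set_subset (Finset.finite_toSet Γ₀)]
    constructor
    · rintro ⟨h1, h2⟩
      refine ⟨fun γ hγ hγ0 => h1 γ ?_, fun γ hγ => ?_⟩
      · rw [Finset.mem_coe, Finset.mem_sdiff]
        exact ⟨hγ, hγ0⟩
      · have : g • γ ∈ g • ((Γ₀ : Finset α) : Set α) := Set.smul_mem_smul_set hγ
        exact h2 this
    · rintro ⟨h1, h2⟩
      refine ⟨fun γ hγ => ?_, ?_⟩
      · rw [Finset.mem_coe, Finset.mem_sdiff] at hγ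
        exact h1 γ hγ.1 hγ.2
      · rintro _ ⟨γ, hγ, rfl⟩
        exact h2 γ hγ
  have hL₁Γ : ∀ g ∈ L₁, ∀ γ ∈ Γ, g • γ ∈ Γ := by
    intro g hg γ hγ
    rw [memL₁] at hg
    by_cases hγ0 : γ ∈ Γ₀
    · exact hΓ₀sub (hg.2 γ hγ0)
    · rw [hg.1 γ hγ hγ0]
      exact hγ
  have hKL₁ : K ≤ L₁ := by
    intro g hg
    rw [memK] at hg
    rw [memL₁]
    refine ⟨fun γ hγ _ => hg γ hγ, fun γ hγ => ?_⟩
    rw [hg γ (hΓ₀sub hγ)]
    exact hγ
  have hxL₁ : x ∈ L₁ := by
    rw [memL₁]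
    refine ⟨fun γ hγ hγ0 => ?_, fun γ hγ => ?_⟩
    · rw [hxΓ γ hγ, hc_not γ hγ0]
    · rw [hxΓ γ (hΓ₀sub hγ)]
      exact hc_mem γ hγ
  have hxK : x ∉ K := by
    intro h
    rw [memK] at h
    apply hcγ₀
    rw [← hxΓ γ₀ (hΓ₀sub hγ₀)]
    exact h γ₀ (hΓ₀sub hγ₀)
  have hxpow : ∀ j : ℕ, ∀ γ ∈ Γ, x ^ j • γ = (c ^ j) γ := by
    intro j
    induction j with
    | zero =>
      intro γ _
      rw [pow_zero, pow_zero, one_smul, Equiv.Perm.one_apply]
    | succ j ih =>
      intro γ hγ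
      rw [pow_succ, pow_succ, mul_smul, Equiv.Perm.mul_apply, hxΓ γ hγ, ih _ (hcΓ γ hγ)]
  have hxpK : x ^ p ∈ K := by
    rw [memK]
    intro γ hγ
    rw [hxpow p γ hγ, hc_pow, Equiv.Perm.one_apply]
  -- `K` is normal in `L₁` with index divisible by `p`
  haveI hKn : (K.subgroupOf L₁).Normal := by
    constructor
    intro g hg ℓ
    rw [Subgroup.mem_subgroupOf] at hg ⊢
    rw [memK] at hg ⊢
    intro γ hγ
    simp only [Subgroup.coe_mul, Subgroup.coe_inv]
    have h1 : (ℓ : G)⁻¹ • γ ∈ Γ := hL₁Γ _ (L₁.inv_mem ℓ.2) γ hγ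
    rw [mul_smul, mul_smul, hg _ h1, smul_inv_smul]
  have hpidx : p ∣ Nat.card (↥L₁ ⧸ K.subgroupOf L₁) := by
    have ho : orderOf (QuotientGroup.mk ⟨x, hxL₁⟩ : ↥L₁ ⧸ K.subgroupOf L₁) = p := by
      apply orderOf_eq_prime
      · rw [← QuotientGroup.mk_pow, QuotientGroup.eq_one_iff, Subgroup.mem_subgroupOf]
        exact hxpK
      · rw [Ne, QuotientGroup.eq_one_iff, Subgroup.mem_subgroupOf]
        exact hxK
    rw [← ho]
    exact orderOf_dvd_natCard _
  have hcardL₁ : Nat.card L₁ = Nat.card (↥L₁ ⧸ K.subgroupOf L₁) * Nat.card K := by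
    rw [Subgroup.card_eq_card_quotient_mul_card_subgroup (K.subgroupOf L₁),
      Nat.card_congr (Subgroup.subgroupOfEquivOfLe hKL₁).toEquiv]
  -- invariance of the orbits under `L₁`
  have hinv : ∀ h ∈ L₁, ∀ i, ∀ z ∈ MulAction.orbit K (f i), h • z ∈ MulAction.orbit K (f i) := by
    intro h hh i z hz
    rw [MulAction.mem_orbit_iff] at hz
    obtain ⟨k₁, rfl⟩ := hz
    have h1 := inv_smul_mem_orbit hgen Γ hΓ h⁻¹ (hL₁Γ _ (L₁.inv_mem hh)) (f i) (hf i)
    rw [inv_inv, MulAction.mem_orbit_iff] at h1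
    obtain ⟨k₂, hk₂⟩ := h1
    have hconj : h * (k₁ : G) * h⁻¹ ∈ K := by
      have := hKn.conj_mem ⟨(k₁ : G), hKL₁ k₁.2⟩ (by
        rw [Subgroup.mem_subgroupOf]
        exact k₁.2) ⟨h, hh⟩
      rw [Subgroup.mem_subgroupOf] at this
      exact this
    rw [MulAction.mem_orbit_iff]
    refine ⟨⟨h * (k₁ : G) * h⁻¹, hconj⟩ * k₂, ?_⟩
    change (h * (k₁ : G) * h⁻¹ * (k₂ : G)) • f i = h • ((k₁ : G) • f i)
    have hk₂' : (k₂ : G) • f i = h • f i := hk₂
    rw [mul_smul, hk₂', mul_smul, mul_smul, inv_smul_smul]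
  -- a Sylow `p`-subgroup of `L₁` and its fixed points
  obtain ⟨P⟩ : Nonempty (Sylow p L₁) := inferInstance
  have hfix : ∀ i, ∃ y ∈ MulAction.orbit K (f i), ∀ h : ↥(P : Subgroup L₁), ((h : L₁) : G) • y = y := by
    intro i
    let Θ : SubMulAction ↥(P : Subgroup L₁) α :=
      { carrier := MulAction.orbit K (f i)
        smul_mem' := fun h z hz => hinv ((h : L₁) : G) (h : L₁).2 i z hz }
    have hΘ : ¬ p ∣ Nat.card Θ := hcon i
    obtain ⟨y, hy⟩ := P.isPGroup'.nonempty_fixed_point_of_prime_not_dvd_card Θ hΘ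
    refine ⟨(y : α), y.2, fun h => ?_⟩
    have := MulAction.mem_fixedPoints.mp hy h
    exact congrArg Subtype.val this
  choose y' hy'orb hy'fix using hfix
  have hy'Γ : ∀ i, y' i ∉ Γ := by
    intro i hmem
    have h1 := hy'orb i
    rw [MulAction.mem_orbit_iff] at h1
    obtain ⟨k₁, hk₁⟩ := h1
    have hk₁' : (k₁ : G) • f i = y' i := hk₁
    have h2 : (k₁ : G)⁻¹ • y' i = y' i := by
      have := (memK _).mp (K.inv_mem k₁.2) (y' i) hmem
      exact this
    apply hf i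
    have h3 : f i = (k₁ : G)⁻¹ • y' i := by rw [← hk₁', inv_smul_smul]
    rw [h3, h2]
    exact hmem
  have hy'inj : Function.Injective y' := by
    intro i j hij
    by_contra hne
    apply hdist i j hne
    have h1 := hy'orb i
    have h2 := hy'orb j
    rw [hij] at h1
    rw [← MulAction.orbit_eq_iff] at h1 h2
    rw [← h1, h2]
    exact MulAction.mem_orbit_self _
  -- the new `k`-set
  set Γ' : Finset α := (Γ \ Γ₀) ∪ Finset.univ.image y' with hΓ'
  have hΓ'card : Γ'.card = k := by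
    rw [hΓ', Finset.card_union_of_disjoint, Finset.card_sdiff_of_subset hΓ₀sub,
      Finset.card_image_of_injective _ hy'inj, Finset.card_univ, Fintype.card_fin, hΓ, hΓ₀card]
    · omega
    · rw [Finset.disjoint_left]
      intro z hz hz'
      rw [Finset.mem_image] at hz'
      obtain ⟨i, _, rfl⟩ := hz'
      exact hy'Γ i (Finset.mem_sdiff.mp hz).1
  have hPle : (P : Subgroup L₁).map L₁.subtype ≤ fixingSubgroup G (Γ' : Set α) := by
    intro g hg
    rw [Subgroup.mem_map] at hg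
    obtain ⟨h, hh, rfl⟩ := hg
    rw [mem_fixingSubgroup_iff]
    intro z hz
    rw [hΓ', Finset.mem_coe, Finset.mem_union] at hz
    rcases hz with hz | hz
    · rw [Finset.mem_sdiff] at hz
      exact ((memL₁ _).mp h.2).1 z hz.1 hz.2
    · rw [Finset.mem_image] at hz
      obtain ⟨i, _, rfl⟩ := hz
      exact hy'fix i ⟨h, hh⟩
  have h1 : Nat.card (P : Subgroup L₁) ∣ Nat.card K := by
    rw [← Subgroup.card_map_of_injective L₁.subtype_injective, hK,
      card_fixing_eq hgen Γ Γ' hΓ hΓ'card]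
    exact Subgroup.card_dvd_of_le hPle
  rw [P.card_eq_multiplicity, hcardL₁] at h1
  have hK0 : Nat.card K ≠ 0 := Nat.card_pos.ne'
  have hq0 : Nat.card (↥L₁ ⧸ K.subgroupOf L₁) ≠ 0 := Nat.card_pos.ne'
  rw [Nat.factorization_mul hq0 hK0, Finsupp.add_apply] at h1
  have h2 : 1 ≤ (Nat.card (↥L₁ ⧸ K.subgroupOf L₁)).factorization p :=
    (hp.dvd_iff_one_le_factorization hq0).mp hpidx
  apply Nat.pow_succ_factorization_not_dvd hK0 hp
  refine dvd_trans (pow_dvd_pow p ?_) h1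
  omega

end Cfsg.Agent.Lib.Helper2.Generous
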