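import Cfsg.Agent.Lib.Helper2.GlFix1
import Cfsg.Agent.Lib.Helper3.Isolated

/-!
# Dihedral facts for S3067, step (S1)

Two involutions `t`, `u` of a group:
* `dihedral_even`: if `t * u` has even order `n > 0` then `z = (t * u) ^ (n / 2)` is an involution
  commuting with `t` and `u`;
* `dihedral_odd`: if `t * u` has odd order there is `k ∈ zpowers (t * u)` such that the involution
  `v = k⁻¹ * t * k` satisfies `v⁻¹ * t * v = u`; also `y⁻¹ * t * y = u` for some `y ∈ zpowers (t * u)`.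
-/

set_option autoImplicit false

namespace Cfsg.Agent.Lib.Helper2.GlFix

open Cfsg.Agent.Lib.Helper3

variable {Γ : Type*} [Group Γ]

/-- Even case: the central involution of the dihedral group `⟨t, u⟩`. -/
theorem dihedral_even {t u : Γ} (ht : t * t = 1) (hu : u * u = 1) (hpos : 0 < orderOf (t * u))
    (heven : Even (orderOf (t * u))) :
    orderOf ((t * u) ^ (orderOf (t * u) / 2)) = 2 ∧
      Commute t ((t * u) ^ (orderOf (t * u) / 2)) ∧ Commute u ((t * u) ^ (orderOf (t * u) / 2)) := by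
  obtain ⟨m, hm⟩ := heven
  have hm2 : orderOf (t * u) / 2 = m := by omega
  rw [hm2]
  have hm0 : 0 < m := by omega
  have hw1 : (t * u) ^ m ≠ 1 := pow_ne_one_of_lt_orderOf (by omega) (by omega)
  have hww : (t * u) ^ m * (t * u) ^ m = 1 := by
    rw [← pow_add, ← hm, pow_orderOf_eq_one]
  have hwinv : ((t * u) ^ m)⁻¹ = (t * u) ^ m := inv_eq_of_mul_eq_one_right hww
  refine ⟨?_, ?_, ?_⟩
  · apply orderOf_eq_prime
    · rw [pow_two]; exact hww
    · exact hw1
  · have h1 := dihedral_pow_mul_left t u ht hu m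
    have : (t * u) ^ m * t = t * ((t * u) ^ m)⁻¹ := by
      rw [eq_mul_inv_iff_mul_eq]; exact h1
    rw [hwinv] at this
    exact this.symm
  · have h1 := dihedral_pow_mul_right t u ht hu m
    have : (t * u) ^ m * u = u * ((t * u) ^ m)⁻¹ := by
      rw [eq_mul_inv_iff_mul_eq]; exact h1
    rw [hwinv] at this
    exact this.symm

/-- Odd case, conjugating element: `y⁻¹ * t * y = u` with `y ∈ zpowers (t * u)`, and `t` inverts `y`. -/
theorem dihedral_odd_conj' {t u : Γ} (ht : t * t = 1) (hu : u * u = 1)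
    (hodd : Odd (orderOf (t * u))) :
    ∃ y ∈ Subgroup.zpowers (t * u), y⁻¹ * t * y = u ∧ t * y * t⁻¹ = y⁻¹ := by
  obtain ⟨j, hj⟩ := hodd
  have hd : (t * u) ^ (2 * j + 1) = 1 := by rw [← hj]; exact pow_orderOf_eq_one _
  obtain ⟨h1, h2⟩ := dihedral_odd_conj t u ht hu j hd
  refine ⟨((t * u) ^ j)⁻¹, (Subgroup.zpowers (t * u)).inv_mem
    ((Subgroup.zpowers (t * u)).pow_mem (Subgroup.mem_zpowers _) j), ?_, ?_⟩
  · rw [inv_inv]; exact h1
  · rw [inv_inv]
    have : t * ((t * u) ^ j)⁻¹ * t⁻¹ = (t * (t * u) ^ j * t⁻¹)⁻¹ := by group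
    rw [this, h2, inv_inv]

/-- Odd case: an involution `v = k⁻¹ * t * k`, `k ∈ zpowers (t * u)`, with `v⁻¹ * t * v = u`. -/
theorem dihedral_odd [Finite Γ] {t u : Γ} (ht : t * t = 1) (hu : u * u = 1)
    (hodd : Odd (orderOf (t * u))) :
    ∃ k ∈ Subgroup.zpowers (t * u), (k⁻¹ * t * k) * (k⁻¹ * t * k) = 1 ∧
      (k⁻¹ * t * k)⁻¹ * t * (k⁻¹ * t * k) = u := by
  have hti : t⁻¹ = t := inv_eq_of_mul_eq_one_right ht
  obtain ⟨y, hy, hyu, hyinv⟩ := dihedral_odd_conj' ht hu hodd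
  -- `zpowers (t * u)` has odd order: take a square root `k` of `y`
  have hoddZ : Odd (Nat.card (Subgroup.zpowers (t * u))) := by
    rw [Nat.card_zpowers]; exact hodd
  obtain ⟨n, hn⟩ := exists_sqrt hoddZ hy
  have hkmem : y ^ n ∈ Subgroup.zpowers (t * u) := (Subgroup.zpowers (t * u)).pow_mem hy n
  have hkinv : t * y ^ n * t⁻¹ = (y ^ n)⁻¹ := by
    have : t * y ^ n * t⁻¹ = (t * y * t⁻¹) ^ n := by rw [conj_pow]
    rw [this, hyinv, inv_pow]
  -- `k⁻¹ t k = t * y`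
  have hv : (y ^ n)⁻¹ * t * y ^ n = t * y := by
    have e1 : (y ^ n)⁻¹ * t = t * y ^ n := by
      have : (y ^ n)⁻¹ = t * y ^ n * t⁻¹ := hkinv.symm
      rw [this, hti]
      calc t * y ^ n * t * t = t * y ^ n * (t * t) := by group
        _ = t * y ^ n := by rw [ht, mul_one]
    rw [e1, mul_assoc, hn]
  refine ⟨y ^ n, hkmem, ?_, ?_⟩
  · rw [hv]
    -- (t y)(t y) = (t y t⁻¹) y = y⁻¹ y = 1
    calc t * y * (t * y) = (t * y * t⁻¹) * y := by rw [hti]; group
      _ = 1 := by rw [hyinv]; group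
  · rw [hv]
    -- (t y)⁻¹ t (t y) = y⁻¹ t y = u  (using t t = 1)
    calc (t * y)⁻¹ * t * (t * y) = y⁻¹ * (t⁻¹ * t) * t * y := by group
      _ = y⁻¹ * t * y := by group
      _ = u := hyu

end Cfsg.Agent.Lib.Helper2.GlFix
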