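import Cfsg.Agent.Lib.Helper1.GC0

/-!
# S3067: a point `b` is conjugate to `a` inside `Lam0 G a b`

Second conjunct of (S5)/(S2): `∃ x ∈ Lam0 G a b, b = x⁻¹ * a * x`.  Uses only the prime-order
fixed-point lemma `fp` (taken as a hypothesis in the shape of the skeleton).
-/

set_option autoImplicit false

namespace Cfsg.Agent.Lib.Helper2.GlFix

open Cfsg.Agent.Lib.Helper1.GC

universe u
variable {Γ : Type u} [Group Γ] [Finite Γ] {G : Subgroup Γ} {a τ : Γ} {r : ℕ}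

/-- The set of `X`-conjugates of `b` has cardinality dividing `|X|`. -/
theorem ncard_conj_dvd (X : Subgroup Γ) (b : Γ) :
    ({y : Γ | ∃ x ∈ X, y = x⁻¹ * b * x} : Set Γ).ncard ∣ Nat.card X := by
  classical
  let φ : X →* MulAut Γ := (MulAut.conj).comp X.subtype
  let _ : MulAction X Γ := MulAction.compHom Γ φ
  have hsmul : ∀ (x : X) (g : Γ), x • g = (x : Γ) * g * (x : Γ)⁻¹ := fun x g => rfl
  have horb : ({y : Γ | ∃ x ∈ X, y = x⁻¹ * b * x} : Set Γ) = MulAction.orbit X b := by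
    ext y
    constructor
    · rintro ⟨x, hx, rfl⟩
      refine ⟨⟨x⁻¹, X.inv_mem hx⟩, ?_⟩
      show (⟨x⁻¹, X.inv_mem hx⟩ : X) • b = x⁻¹ * b * x
      rw [hsmul]; simp
    · rintro ⟨x, rfl⟩
      refine ⟨(x : Γ)⁻¹, X.inv_mem x.2, ?_⟩
      show x • b = ((x : Γ)⁻¹)⁻¹ * b * (x : Γ)⁻¹
      rw [hsmul]; simp
  rw [horb]
  have h1 : Nat.card (MulAction.orbit X b) * Nat.card (MulAction.stabilizer X b) = Nat.card X := by
    have e := MulAction.orbitEquivQuotientStabilizer X b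
    rw [Nat.card_congr e]
    rw [← Subgroup.card_eq_card_quotient_mul_card_subgroup]
  rw [← Nat.card_coe_set_eq]
  exact Dvd.intro _ h1

/-- A point `b` is conjugate to `a` by an element of `Lam0 G a b`. -/
theorem exists_conj_in_Lam0 (h : Hyp G a τ r)
    (hfp : ∀ S : Set Γ, (∀ x ∈ S, a⁻¹ * x * a ∈ S) → ¬ r ∣ S.ncard → ∃ x ∈ S, Commute x a)
    {b : Γ} (hb : IsPt G a b) : ∃ x ∈ Lam0 G a b, b = x⁻¹ * a * x := by
  have haΛ : a ∈ Subgroup.closure ({a, b} : Set Γ) := Subgroup.subset_closure (by simp)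
  have hbΛ : b ∈ Subgroup.closure ({a, b} : Set Γ) := Subgroup.subset_closure (by simp)
  -- `c' = b⁻¹ a ∈ X`
  have hc' : b⁻¹ * a ∈ Lam0 G a b := by
    refine ⟨(Subgroup.closure _).mul_mem ((Subgroup.closure _).inv_mem hbΛ) haΛ, ?_⟩
    obtain ⟨g, hg, rfl⟩ := hb
    have := h.comm_mem hg
    have e : (g⁻¹ * a * g)⁻¹ * a = g⁻¹ * a⁻¹ * g * a := by group
    rw [e]; exact this
  -- `a` normalises `X`
  have haX : ∀ x ∈ Lam0 G a b, a⁻¹ * x * a ∈ Lam0 G a b := by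
    rintro x ⟨hx1, hx2⟩
    exact ⟨(Subgroup.closure _).mul_mem ((Subgroup.closure _).mul_mem
      ((Subgroup.closure _).inv_mem haΛ) hx1) haΛ, h.hnorm x hx2⟩
  have hXG : Lam0 G a b ≤ G := inf_le_right
  obtain ⟨y, ⟨x, hx, rfl⟩, hy⟩ := hfp {y : Γ | ∃ x ∈ Lam0 G a b, y = x⁻¹ * b * x}
    (by
      rintro y ⟨x, hx, rfl⟩
      refine ⟨(b⁻¹ * a) * (a⁻¹ * x * a), (Lam0 G a b).mul_mem hc' (haX x hx), ?_⟩
      group)
    (by
      intro hd
      exact h.hcop ((hd.trans (ncard_conj_dvd _ _)).trans (Subgroup.card_dvd_of_le hXG)))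
  have hpt : IsPt G a (x⁻¹ * b * x) := hb.conj (hXG hx)
  have := hpt.eq_of_commute h hy
  refine ⟨x⁻¹, (Lam0 G a b).inv_mem hx, ?_⟩
  rw [← this]; group

end Cfsg.Agent.Lib.Helper2.GlFix
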