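import Mathlib
import Cfsg.Prelude.Def_Blocks
import Cfsg.Prelude.Def_BlockRank
import Cfsg.Agent.Lib.Helper8.MJ19

/-!
# S4588 swarm, package PK-A: the frame identity and the Galois lower bound

`frame_classInner` : for `C = C_G(x)`, `x` a `p`-element, and a class function `W` of `C`
vanishing on the `p`-singular elements, `∑_ζ |⟨ζ(x ·), W⟩|² = ⟨W, W⟩` (sum over `Irr G`).

`galois_bound` : if `W` has integral inner products with all irreducible characters of `C` and
`⟨ζ(x ·), W⟩ ≠ 0`, then the sum of `|⟨ζ(x^k ·), W⟩|²` over the `k < q p` prime to `p` is at least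
`q p - q` (where `x ^ (q p) = 1`).
-/

set_option autoImplicit false
set_option linter.unusedSectionVars false

namespace Cfsg.Agent.Lib.Helper8.HKS

open Cfsg
open scoped ComplexConjugate
open Cfsg.Agent.Lib.Helper1 Cfsg.Agent.Lib.Helper4 Cfsg.Agent.Lib.Helper8 Cfsg.Agent.Lib.Helper8.MJ

universe u

section PkA

variable {G : Type u} [Group G] [Fintype G] {p : ℕ} [Fact p.Prime]

theorem frame_classInner (C : Subgroup G) [Fintype C] {x : G} (hC : ∀ t, t ∈ C ↔ t * x = x * t)
    (hx : ∃ j : ℕ, orderOf x = p ^ j) [Fintype (IrrCharacter G)]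
    {W : C → ℂ} (hW : IsClassFunction C W) (hW0 : ∀ c : C, p ∣ orderOf c → W c = 0) :
    ∑ ζ : IrrCharacter G, Complex.normSq (classInner (secFun C x (ζ : G → ℂ)) W) =
      (classInner W W).re := by
  have hp : p.Prime := Fact.out
  have h := sum_irr_normSq_section hp C hC hx W hW hW0
  have hC0 : (Nat.card C : ℝ) ≠ 0 := by exact_mod_cast Nat.card_pos.ne'
  have h1 : ∀ ζ : IrrCharacter G, Complex.normSq (classInner (secFun C x (ζ : G → ℂ)) W) =
      ((Nat.card C : ℝ)⁻¹) ^ 2 *
        Complex.normSq (∑ c : C, (ζ : G → ℂ) (x * (c : G)) * conj (W c)) := by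
    intro ζ
    rw [classInner_def, map_mul, map_inv₀, Complex.normSq_natCast]
    simp only [secFun_apply]
    rw [pow_two, mul_inv]
  have h2 : (classInner W W).re = (Nat.card C : ℝ)⁻¹ * ∑ c : C, Complex.normSq (W c) := by
    rw [classInner_def]
    simp_rw [Complex.mul_conj]
    have : ((Nat.card C : ℂ)⁻¹ * ∑ c : C, ((Complex.normSq (W c) : ℝ) : ℂ)) =
        (((Nat.card C : ℝ)⁻¹ * ∑ c : C, Complex.normSq (W c) : ℝ) : ℂ) := by
      push_cast
      rfl
    rw [this, Complex.ofReal_re]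
  simp_rw [h1]
  rw [← Finset.mul_sum, h, h2]
  field_simp

/-- a power of the central element gives a class function of `C` -/
theorem isClassFunction_secFun_pow (C : Subgroup G) {x : G} (hC : ∀ t, t ∈ C ↔ t * x = x * t)
    {ζ : G → ℂ} (hζ : IsClassFunction G ζ) (k : ℕ) :
    IsClassFunction C (secFun C (x ^ k) ζ) := by
  intro c t
  show ζ (x ^ k * ((t : G) * (c : G) * (t : G)⁻¹)) = ζ (x ^ k * (c : G))
  have h2 : Commute (t : G) x := (hC t).1 t.2
  have h3 : Commute (t : G) (x ^ k) := h2.pow_right k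
  have : x ^ k * ((t : G) * (c : G) * (t : G)⁻¹) = (t : G) * (x ^ k * (c : G)) * (t : G)⁻¹ := by
    calc x ^ k * ((t : G) * (c : G) * (t : G)⁻¹) = (x ^ k * (t : G)) * (c : G) * (t : G)⁻¹ := by
          group
      _ = (t : G) * (x ^ k * (c : G)) * (t : G)⁻¹ := by rw [← h3.eq]; group
  rw [this, hζ]

theorem galois_bound (C : Subgroup G) [Fintype C] {x : G} (hC : ∀ t, t ∈ C ↔ t * x = x * t)
    {q : ℕ} (hq : 0 < q) (hxq : x ^ (q * p) = 1)
    {ζ : G → ℂ} (hζ : IsCharacter G ζ) {W : C → ℂ}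
    (hW : ∀ ψ : IrrCharacter C, ∃ n : ℤ, classInner (ψ : C → ℂ) W = n)
    (hne : classInner (secFun C x ζ) W ≠ 0) :
    (((q * p : ℕ) : ℝ) - q) ≤
      ∑ k ∈ unitsRange q p, Complex.normSq (classInner (secFun C (x ^ k) ζ) W) := by
  classical
  have : Fintype (IrrCharacter C) := Fintype.ofFinite _
  have hp : p.Prime := Fact.out
  have hxC : x ∈ C := (hC x).2 rfl
  set x' : C := ⟨x, hxC⟩ with hx'
  have hcen : x' ∈ Subgroup.center C := by
    rw [Subgroup.mem_center_iff]
    intro c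
    apply Subtype.ext
    exact (hC _).1 c.2
  have hx1 : x' ^ (q * p) = 1 := by
    apply Subtype.ext
    rw [Subgroup.coe_pow]
    exact hxq
  have hlam : ∀ ψ : IrrCharacter C, (lamC C hxC ψ) ^ (q * p) = 1 := by
    intro ψ
    unfold lamC
    rw [irr_central_pow ψ.2 hcen (q * p), hx1, div_self (irr_apply_one_ne_zero ψ.2)]
  have hP0 : q * p ≠ 0 := (Nat.mul_pos hq hp.pos).ne'
  have : NeZero (q * p) := ⟨hP0⟩
  have hprim := Complex.isPrimitiveRoot_exp (q * p) hP0
  have hex : ∀ ψ : IrrCharacter C, ∃ i < q * p,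
      Complex.exp (2 * Real.pi * Complex.I / ((q * p : ℕ) : ℂ)) ^ i = lamC C hxC ψ :=
    fun ψ => hprim.eq_pow_of_pow_eq_one (hlam ψ)
  choose e he1 he2 using hex
  choose n hn using hW
  have hres := Cfsg.Agent.S0148.isCharacter_restrict C hζ
  have hmex : ∀ ψ : IrrCharacter C, ∃ m : ℤ,
      classInner (fun c : C => ζ (c : G)) (ψ : C → ℂ) = m :=
    fun ψ => classInner_genChar_int (isGenChar_of_isCharacter hres)
      (isGenChar_of_isCharacter (isCharacter_of_irr ψ.2))
  choose m hm using hmex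
  have hζcf : IsClassFunction G ζ := isClassFunction_of_isCharacter hζ
  set ζ₀ : ℂ := Complex.exp (2 * Real.pi * Complex.I / ((q * p : ℕ) : ℂ)) with hζ₀
  have key : ∀ k : ℕ, classInner (secFun C (x ^ k) ζ) W =
      ∑ ψ : IrrCharacter C, ζ₀ ^ (k * e ψ) * (((m ψ * n ψ : ℤ)) : ℂ) := by
    intro k
    have hzk : x ^ k ∈ C := C.pow_mem hxC k
    have hv : ∀ c : C, (c : G) * x ^ k = x ^ k * (c : G) := by
      intro c
      have h1 : Commute (c : G) x := (hC _).1 c.2
      exact h1.pow_right k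
    have hcoef : ∀ ψ : IrrCharacter C, classInner (secFun C (x ^ k) ζ) (ψ : C → ℂ) =
        (lamC C hxC ψ) ^ k * classInner (fun c : C => ζ (c : G)) (ψ : C → ℂ) := by
      intro ψ
      have h0 := secCoeff_eq_of_central C hzk hv (ζ := ζ) ψ.2
      unfold secCoeff at h0
      rw [h0]
      congr 1
      unfold lamC
      rw [irr_central_pow ψ.2 hcen k]
      rfl
    have hexp := class_function_expansion _ (isClassFunction_secFun_pow C hC hζcf k)
    conv_lhs => rw [hexp]
    rw [classInner_sum_left]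
    refine Finset.sum_congr rfl fun ψ _ => ?_
    rw [classInner_smul_left, hcoef ψ, hn ψ, hm ψ, ← he2 ψ, ← pow_mul, mul_comm (e ψ) k]
    push_cast
    ring
  have h1 : ∑ ψ : IrrCharacter C, ζ₀ ^ (e ψ) * (((m ψ * n ψ : ℤ)) : ℂ) ≠ 0 := by
    have := key 1
    simp only [pow_one, one_mul] at this
    rwa [← this]
  have h := gs1_indexed_int hp.two_le hq hprim e he1 (fun ψ => m ψ * n ψ) h1
  simp only [← key] at h
  exact h

end PkA

end Cfsg.Agent.Lib.Helper8.HKS
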