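import Mathlib

/-!
# S4588 swarm, piece PK-Do1: `p`-singular elements when a Sylow `p`-subgroup has order `p`

If a Sylow `p`-subgroup `P` of `K` has order `p`, every `p`-singular element of `K` is conjugate to
a product `x * y` with `1 ≠ x ∈ P` and `y` a `p`-regular element of `C_K(P)`.
-/

set_option autoImplicit false

namespace Cfsg.Agent.Lib.Helper8.HKS

universe u

/-- the commuting decomposition of an element into its `p`-part and its `p'`-part, with the
`p`-part nontrivial when `p` divides the order -/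
theorem exists_pPart_decomp_ne_one {K : Type u} [Group K] [Finite K] {p : ℕ} [hp : Fact p.Prime]
    {g : K} (hg : p ∣ orderOf g) :
    ∃ u w : K, g = u * w ∧ Commute u w ∧ (∃ k : ℕ, u ^ p ^ k = 1) ∧ u ≠ 1 ∧ ¬ p ∣ orderOf w := by
  have hn : orderOf g ≠ 0 := (orderOf_pos g).ne'
  obtain ⟨k, m, hm, hkm⟩ := Nat.exists_eq_pow_mul_and_not_dvd hn p hp.out.one_lt.ne'
  have hcop : Nat.Coprime (p ^ k) m :=
    Nat.Coprime.pow_left k ((Nat.Prime.coprime_iff_not_dvd hp.out).mpr hm)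
  obtain ⟨a, b, hab⟩ := Nat.Coprime.isCoprime hcop
  have h1 : (g ^ (a * ((p ^ k : ℕ) : ℤ))) ^ m = 1 := by
    rw [← zpow_natCast, ← zpow_mul]
    have : a * ((p ^ k : ℕ) : ℤ) * (m : ℤ) = a * ((orderOf g : ℕ) : ℤ) := by
      rw [hkm]; push_cast; ring
    rw [this, zpow_mul', zpow_natCast, pow_orderOf_eq_one, one_zpow]
  have hprod : g = g ^ (b * (m : ℤ)) * g ^ (a * ((p ^ k : ℕ) : ℤ)) := by
    rw [← zpow_add, add_comm, hab, zpow_one]
  refine ⟨g ^ (b * (m : ℤ)), g ^ (a * ((p ^ k : ℕ) : ℤ)), hprod, ?_, ⟨k, ?_⟩, ?_, ?_⟩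
  · exact (Commute.refl g).zpow_zpow _ _
  · rw [← zpow_natCast, ← zpow_mul]
    have : b * (m : ℤ) * ((p ^ k : ℕ) : ℤ) = b * ((orderOf g : ℕ) : ℤ) := by
      rw [hkm]; push_cast; ring
    rw [this, zpow_mul', zpow_natCast, pow_orderOf_eq_one, one_zpow]
  · intro hu
    rw [hu, one_mul] at hprod
    apply hm
    have h2 : g ^ m = 1 := by
      rw [hprod]
      exact h1
    exact hg.trans (orderOf_dvd_of_pow_eq_one h2)
  · intro hdvd
    exact hm (hdvd.trans (orderOf_dvd_of_pow_eq_one h1))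

/-- PK-Do1 -/
theorem exists_conj_of_singular {K : Type u} [Group K] [Fintype K] {p : ℕ} [Fact p.Prime]
    (P : Sylow p K) (hP : Nat.card P = p) {g : K} (hg : p ∣ orderOf g) :
    ∃ h x y : K, x ∈ (P : Subgroup K) ∧ x ≠ 1 ∧
      y ∈ Subgroup.centralizer ((P : Subgroup K) : Set K) ∧ ¬ p ∣ orderOf y ∧
      h * g * h⁻¹ = x * y := by
  obtain ⟨u, w, hguw, hcomm, ⟨k, hk⟩, hu1, hw⟩ := exists_pPart_decomp_ne_one (p := p) hg
  -- the cyclic group generated by `u` is a `p`-group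
  have hpg : IsPGroup p (Subgroup.zpowers u) := by
    intro z
    obtain ⟨i, hi⟩ := Subgroup.mem_zpowers_iff.1 z.2
    refine ⟨k, ?_⟩
    apply Subtype.ext
    rw [Subgroup.coe_pow, Subgroup.coe_one, ← hi, ← zpow_natCast, ← zpow_mul, mul_comm, zpow_mul,
      zpow_natCast, hk, one_zpow]
  obtain ⟨Q, hQ⟩ := hpg.exists_le_sylow
  obtain ⟨h, hh⟩ := MulAction.exists_smul_eq K Q P
  have hxP : h * u * h⁻¹ ∈ (P : Subgroup K) := by
    rw [← hh, Sylow.coe_subgroup_smul]
    rw [Subgroup.mem_pointwise_smul_iff_inv_smul_mem]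
    have : (MulAut.conj h)⁻¹ • (h * u * h⁻¹) = u := by
      rw [← map_inv]
      show MulAut.conj h⁻¹ (h * u * h⁻¹) = u
      simp [mul_assoc]
    rw [this]
    exact hQ (Subgroup.mem_zpowers u)
  have hx1 : h * u * h⁻¹ ≠ 1 := by
    intro h1
    apply hu1
    have : u = h⁻¹ * (h * u * h⁻¹) * h := by group
    rw [this, h1]
    group
  have hcomm' : Commute (h * u * h⁻¹) (h * w * h⁻¹) := by
    show h * u * h⁻¹ * (h * w * h⁻¹) = h * w * h⁻¹ * (h * u * h⁻¹)
    have e1 : h * u * h⁻¹ * (h * w * h⁻¹) = h * (u * w) * h⁻¹ := by group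
    have e2 : h * w * h⁻¹ * (h * u * h⁻¹) = h * (w * u) * h⁻¹ := by group
    rw [e1, e2, hcomm.eq]
  refine ⟨h, h * u * h⁻¹, h * w * h⁻¹, hxP, hx1, ?_, ?_, ?_⟩
  · rw [Subgroup.mem_centralizer_iff]
    intro z hz
    -- `z` is a power of `x`
    have hx' : (⟨h * u * h⁻¹, hxP⟩ : (P : Subgroup K)) ≠ 1 := by
      intro h1
      exact hx1 (congrArg Subtype.val h1)
    have hmem := mem_zpowers_of_prime_card (G := (P : Subgroup K)) hP (g' := ⟨z, hz⟩) hx'
    obtain ⟨i, hi⟩ := Subgroup.mem_zpowers_iff.1 hmem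
    have hz' : z = (h * u * h⁻¹) ^ i := by
      have := congrArg Subtype.val hi
      rw [Subgroup.coe_zpow] at this
      exact this.symm
    rw [hz']
    exact (hcomm'.zpow_left i).eq
  · have : orderOf (h * w * h⁻¹) = orderOf w := by
      have hs : SemiconjBy h w (h * w * h⁻¹) := by
        show h * w = h * w * h⁻¹ * h
        group
      exact (hs.orderOf_eq h).symm
    rw [this]
    exact hw
  · rw [hguw]
    group

end Cfsg.Agent.Lib.Helper8.HKS
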