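import Mathlib
import Cfsg.Agent.Lib.Helper2.HKS_Do1

/-!
# S4588 swarm, piece PK-Do2: the number of `p`-singular elements when `|K|_p = p`

If a Sylow `p`-subgroup `P` of `K` has order `p`, then
`#{g : p ∣ orderOf g} * (p * |N_K(P) : C_K(P)|) = |K| * (p - 1)`.
-/

set_option autoImplicit false
set_option linter.unusedSectionVars false

namespace Cfsg.Agent.Lib.Helper8.HKS

universe u

section

variable {K : Type u} [Group K] [Fintype K] {p : ℕ} [Fact p.Prime]

/-- a nontrivial `p`-element power of a `p`-singular element -/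
theorem exists_pow_pElement_ne_one {g : K} (hg : p ∣ orderOf g) :
    ∃ m k : ℕ, (g ^ m) ^ p ^ k = 1 ∧ g ^ m ≠ 1 := by
  have hp : p.Prime := Fact.out
  have hn : orderOf g ≠ 0 := (orderOf_pos g).ne'
  obtain ⟨k, m, hm, hkm⟩ := Nat.exists_eq_pow_mul_and_not_dvd hn p hp.one_lt.ne'
  refine ⟨m, k, ?_, ?_⟩
  · rw [← pow_mul, mul_comm, ← hkm, pow_orderOf_eq_one]
  · intro h
    exact hm (hg.trans (orderOf_dvd_of_pow_eq_one h))

/-- a Sylow subgroup of prime order lies in the cyclic group generated by any of its nontrivial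
elements -/
theorem sylow_le_zpowers (Q : Sylow p K) (hQ : Nat.card Q = p) {x : K}
    (hx : x ∈ (Q : Subgroup K)) (hx1 : x ≠ 1) : (Q : Subgroup K) ≤ Subgroup.zpowers x := by
  intro z hz
  have hx' : (⟨x, hx⟩ : (Q : Subgroup K)) ≠ 1 := by
    intro h1
    exact hx1 (congrArg Subtype.val h1)
  have hmem := mem_zpowers_of_prime_card (G := (Q : Subgroup K)) hQ (g' := ⟨z, hz⟩) hx'
  obtain ⟨i, hi⟩ := Subgroup.mem_zpowers_iff.1 hmem
  have := congrArg Subtype.val hi
  rw [Subgroup.coe_zpow] at this
  exact Subgroup.mem_zpowers_iff.2 ⟨i, this⟩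

/-- a `p`-singular element centralizes exactly one Sylow `p`-subgroup -/
theorem existsUnique_sylow_centralizer (P : Sylow p K) (hP : Nat.card P = p) {g : K}
    (hg : p ∣ orderOf g) :
    ∃! Q : Sylow p K, g ∈ Subgroup.centralizer ((Q : Subgroup K) : Set K) := by
  have hcard : ∀ Q : Sylow p K, Nat.card Q = p := by
    intro Q
    rw [Sylow.card_eq_multiplicity Q, ← Sylow.card_eq_multiplicity P, hP]
  obtain ⟨m, k, hk, hu1⟩ := exists_pow_pElement_ne_one (p := p) hg
  set u : K := g ^ m with hu
  have hpg : IsPGroup p (Subgroup.zpowers u) := by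
    intro z
    obtain ⟨i, hi⟩ := Subgroup.mem_zpowers_iff.1 z.2
    refine ⟨k, ?_⟩
    apply Subtype.ext
    rw [Subgroup.coe_pow, Subgroup.coe_one, ← hi, ← zpow_natCast, ← zpow_mul, mul_comm, zpow_mul,
      zpow_natCast, hk, one_zpow]
  obtain ⟨Q, hQ⟩ := hpg.exists_le_sylow
  have huQ : u ∈ (Q : Subgroup K) := hQ (Subgroup.mem_zpowers u)
  have hgu : Commute g u := (Commute.refl g).pow_right m
  refine ⟨Q, ?_, ?_⟩
  · show g ∈ Subgroup.centralizer ((Q : Subgroup K) : Set K)
    rw [Subgroup.mem_centralizer_iff]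
    intro z hz
    obtain ⟨i, hi⟩ := Subgroup.mem_zpowers_iff.1 (sylow_le_zpowers Q (hcard Q) huQ hu1 hz)
    rw [← hi]
    exact ((hgu.zpow_right i).eq).symm
  · intro Q' hQ'
    have huC : u ∈ Subgroup.centralizer ((Q' : Subgroup K) : Set K) :=
      Subgroup.pow_mem _ hQ' m
    have hnorm : Subgroup.zpowers u ≤ Subgroup.normalizer ((Q' : Subgroup K) : Set K) := by
      rw [Subgroup.zpowers_le]
      exact Subgroup.centralizer_le_normalizer _ huC
    have hsup : IsPGroup p (Subgroup.zpowers u ⊔ (Q' : Subgroup K) : Subgroup K) :=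
      IsPGroup.to_sup_of_normal_right' hpg Q'.isPGroup' hnorm
    have hmax := Q'.is_maximal' hsup le_sup_right
    have huQ' : u ∈ (Q' : Subgroup K) := by
      rw [← hmax]
      exact (le_sup_left : Subgroup.zpowers u ≤ _) (Subgroup.mem_zpowers u)
    apply Sylow.ext
    apply Subgroup.eq_of_le_of_card_ge
    · exact (sylow_le_zpowers Q' (hcard Q') huQ' hu1).trans hQ
    · rw [hcard Q, hcard Q']

/-- membership in a conjugate Sylow subgroup -/
theorem mem_smul_sylow_iff (P : Sylow p K) (h z : K) :
    z ∈ ((h • P : Sylow p K) : Subgroup K) ↔ h⁻¹ * z * h ∈ (P : Subgroup K) := by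
  rw [Sylow.coe_subgroup_smul, Subgroup.mem_pointwise_smul_iff_inv_smul_mem]
  have : (MulAut.conj h)⁻¹ • z = h⁻¹ * z * h := by
    rw [← map_inv]
    show MulAut.conj h⁻¹ z = h⁻¹ * z * h
    simp
  rw [this]

/-- the centralizer of a conjugate Sylow subgroup -/
theorem conj_mem_centralizer_smul_iff (P : Sylow p K) (h g : K) :
    h * g * h⁻¹ ∈ Subgroup.centralizer (((h • P : Sylow p K) : Subgroup K) : Set K) ↔
      g ∈ Subgroup.centralizer ((P : Subgroup K) : Set K) := by
  rw [Subgroup.mem_centralizer_iff, Subgroup.mem_centralizer_iff]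
  constructor
  · intro H z hz
    have hz' : h * z * h⁻¹ ∈ ((h • P : Sylow p K) : Subgroup K) := by
      rw [mem_smul_sylow_iff]
      have : h⁻¹ * (h * z * h⁻¹) * h = z := by group
      rw [this]
      exact hz
    have := H _ hz'
    have e1 : h * z * h⁻¹ * (h * g * h⁻¹) = h * (z * g) * h⁻¹ := by group
    have e2 : h * g * h⁻¹ * (h * z * h⁻¹) = h * (g * z) * h⁻¹ := by group
    rw [e1, e2] at this
    exact mul_left_cancel (mul_right_cancel this)
  · intro H z hz
    have hz' : h⁻¹ * z * h ∈ (P : Subgroup K) := (mem_smul_sylow_iff P h z).1 hz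
    have := H _ hz'
    have e1 : z * (h * g * h⁻¹) = h * (h⁻¹ * z * h * g) * h⁻¹ := by group
    have e2 : h * g * h⁻¹ * z = h * (g * (h⁻¹ * z * h)) * h⁻¹ := by group
    rw [e1, e2, this]

end

section Central

variable {C : Type u} [Group C] [Fintype C] {p : ℕ} [Fact p.Prime]

/-- In a finite group with a central Sylow `p`-subgroup of order `p`, the number of `p`-regular
elements times `p` is the group order. -/
theorem card_regular_mul_of_central (P : Sylow p C) (hP : Nat.card P = p)
    (hcen : ∀ z ∈ (P : Subgroup C), ∀ c : C, z * c = c * z) :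
    Nat.card {c : C // ¬ p ∣ orderOf c} * p = Nat.card C := by
  have hp : p.Prime := Fact.out
  have hPN : Subgroup.normalizer ((P : Subgroup C) : Set C) ≤
      Subgroup.centralizer ((P : Subgroup C) : Set C) := by
    intro c _
    rw [Subgroup.mem_centralizer_iff]
    intro z hz
    exact hcen z hz c
  have hcompl := MonoidHom.ker_transferSylow_isComplement' P hPN
  have hndvd := MonoidHom.not_dvd_card_ker_transferSylow P hPN
  set f := MonoidHom.transferSylow P hPN with hf
  have hchar : ∀ c : C, ¬ p ∣ orderOf c ↔ c ∈ f.ker := by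
    intro c
    constructor
    · intro hc
      rw [MonoidHom.mem_ker]
      have h1 : orderOf (f c) ∣ orderOf c := orderOf_map_dvd f c
      have h2 : orderOf (f c) ∣ p := by
        have h2' : orderOf (f c) ∣ Nat.card P := orderOf_dvd_natCard (f c)
        rwa [hP] at h2'
      rcases (Nat.dvd_prime hp).1 h2 with h3 | h3
      · exact orderOf_eq_one_iff.1 h3
      · exact absurd (h3 ▸ h1) hc
    · intro hc hdvd
      apply hndvd
      have : orderOf (⟨c, hc⟩ : f.ker) = orderOf c := Subgroup.orderOf_mk c hc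
      rw [← this] at hdvd
      exact hdvd.trans (orderOf_dvd_natCard _)
  have hcardker : Nat.card {c : C // ¬ p ∣ orderOf c} = Nat.card f.ker := by
    apply Nat.card_congr
    exact Equiv.subtypeEquivRight hchar
  rw [hcardker]
  have hmul := hcompl.card_mul_card
  rwa [hP] at hmul

end Central

section

variable {K : Type u} [Group K] [Fintype K] {p : ℕ} [Fact p.Prime]

/-- the Sylow subgroup of order `p` lies in its centralizer -/
theorem sylow_le_centralizer (P : Sylow p K) (hP : Nat.card P = p) :
    (P : Subgroup K) ≤ Subgroup.centralizer ((P : Subgroup K) : Set K) := by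
  intro x hx
  rw [Subgroup.mem_centralizer_iff]
  intro z hz
  by_cases hx1 : x = 1
  · rw [hx1, mul_one, one_mul]
  · obtain ⟨i, hi⟩ := Subgroup.mem_zpowers_iff.1 (sylow_le_zpowers P hP hx hx1 hz)
    rw [← hi]
    exact ((Commute.refl x).zpow_left i).eq

/-- the `p`-singular elements of the centralizer of a Sylow subgroup of order `p` -/
theorem card_singular_centralizer_mul (P : Sylow p K) (hP : Nat.card P = p) :
    Nat.card {g : K // g ∈ Subgroup.centralizer ((P : Subgroup K) : Set K) ∧ p ∣ orderOf g} * p =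
      Nat.card (Subgroup.centralizer ((P : Subgroup K) : Set K)) * (p - 1) := by
  classical
  have hp : p.Prime := Fact.out
  set C := Subgroup.centralizer ((P : Subgroup K) : Set K) with hC
  have hPC : (P : Subgroup K) ≤ C := sylow_le_centralizer P hP
  set P' : Sylow p C := P.subtype hPC with hP'
  have hP'card : Nat.card P' = p :=
    (Nat.card_congr (Subgroup.subgroupOfEquivOfLe hPC).toEquiv).trans hP
  have hcen : ∀ z ∈ (P' : Subgroup C), ∀ c : C, z * c = c * z := by
    intro z hz c
    apply Subtype.ext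
    rw [Subgroup.coe_mul, Subgroup.coe_mul]
    have hz' : (z : K) ∈ (P : Subgroup K) := by
      have : z ∈ (P : Subgroup K).subgroupOf C := hz
      exact Subgroup.mem_subgroupOf.1 this
    exact (Subgroup.mem_centralizer_iff.1 c.2) _ hz'
  have hreg := card_regular_mul_of_central P' hP'card hcen
  -- transfer the count to `C`
  have e1 : Nat.card {g : K // g ∈ C ∧ p ∣ orderOf g} = Nat.card {c : C // p ∣ orderOf c} := by
    apply Nat.card_congr
    refine ⟨fun g => ⟨⟨g.1, g.2.1⟩, ?_⟩, fun c => ⟨c.1.1, c.1.2, ?_⟩, ?_, ?_⟩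
    · rw [Subgroup.orderOf_mk]
      exact g.2.2
    · have := c.2
      rwa [← Subgroup.orderOf_coe] at this
    · intro g
      rfl
    · intro c
      rfl
  have e2 : Nat.card {c : C // p ∣ orderOf c} + Nat.card {c : C // ¬ p ∣ orderOf c} =
      Nat.card C := by
    have : Fintype C := Fintype.ofFinite _
    simp only [Nat.card_eq_fintype_card]
    rw [Fintype.card_subtype_compl, Nat.add_sub_cancel']
    exact Fintype.card_subtype_le _
  rw [e1]
  set a := Nat.card {c : C // p ∣ orderOf c} with ha
  set r := Nat.card {c : C // ¬ p ∣ orderOf c} with hr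
  have hp1 : 1 ≤ p := hp.one_lt.le
  obtain ⟨p', rfl⟩ : ∃ p', p = p' + 1 := ⟨p - 1, by omega⟩
  rw [Nat.add_sub_cancel]
  have h : a + r = r * p' + r := by
    rw [e2, ← hreg]
    ring
  have ha' : a = r * p' := Nat.add_right_cancel h
  rw [← e2, ha']
  ring

/-- **PK-Do2**: the number of `p`-singular elements -/
theorem card_singular_mul (P : Sylow p K) (hP : Nat.card P = p) :
    Nat.card {g : K // p ∣ orderOf g} *
      (p * (Subgroup.centralizer ((P : Subgroup K) : Set K)).relIndex
        (Subgroup.normalizer ((P : Subgroup K) : Set K))) = Nat.card K * (p - 1) := by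
  classical
  have : Fintype (Sylow p K) := Fintype.ofFinite _
  set C := Subgroup.centralizer ((P : Subgroup K) : Set K) with hC
  set N := Subgroup.normalizer ((P : Subgroup K) : Set K) with hN
  -- the relation
  let R : Sylow p K → K → Prop := fun Q g =>
    g ∈ Subgroup.centralizer ((Q : Subgroup K) : Set K) ∧ p ∣ orderOf g
  have h1 : ∀ g : K, (∑ Q : Sylow p K, if R Q g then 1 else 0) =
      if p ∣ orderOf g then 1 else 0 := by
    intro g
    by_cases hg : p ∣ orderOf g
    · rw [if_pos hg]
      obtain ⟨Q₀, hQ₀, huniq⟩ := existsUnique_sylow_centralizer P hP hg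
      rw [Finset.sum_eq_single Q₀]
      · rw [if_pos ⟨hQ₀, hg⟩]
      · intro Q _ hne
        rw [if_neg]
        rintro ⟨hQ, _⟩
        exact hne (huniq Q hQ)
      · intro h
        exact absurd (Finset.mem_univ _) h
    · rw [if_neg hg]
      apply Finset.sum_eq_zero
      intro Q _
      rw [if_neg]
      rintro ⟨_, h⟩
      exact hg h
  have h2 : ∀ Q : Sylow p K, (∑ g : K, if R Q g then 1 else 0) =
      ∑ g : K, if R P g then 1 else 0 := by
    intro Q
    obtain ⟨h, hh⟩ := MulAction.exists_smul_eq K P Q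
    rw [← Equiv.sum_comp (MulAut.conj h).toEquiv]
    refine Finset.sum_congr rfl fun g _ => ?_
    have hiff : R Q ((MulAut.conj h).toEquiv g) ↔ R P g := by
      show (h * g * h⁻¹ ∈ Subgroup.centralizer ((Q : Subgroup K) : Set K) ∧
        p ∣ orderOf (h * g * h⁻¹)) ↔ _
      have hord : orderOf (h * g * h⁻¹) = orderOf g := by
        have hs : SemiconjBy h g (h * g * h⁻¹) := by
          show h * g = h * g * h⁻¹ * h
          group
        exact (hs.orderOf_eq h).symm
      rw [hord, ← hh, conj_mem_centralizer_smul_iff]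
    by_cases hR : R P g
    · rw [if_pos hR, if_pos (hiff.2 hR)]
    · rw [if_neg hR, if_neg (fun h' => hR (hiff.1 h'))]
  have h3 : Nat.card {g : K // p ∣ orderOf g} = ∑ g : K, if p ∣ orderOf g then 1 else 0 := by
    rw [Nat.card_eq_fintype_card, Fintype.card_subtype, Finset.card_filter]
  have h4 : Nat.card {g : K // R P g} = ∑ g : K, if R P g then 1 else 0 := by
    rw [Nat.card_eq_fintype_card, Fintype.card_subtype, Finset.card_filter]
  have h5 : Nat.card {g : K // p ∣ orderOf g} =
      Nat.card (Sylow p K) * Nat.card {g : K // R P g} := by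
    rw [h3, h4]
    simp_rw [← h1]
    rw [Finset.sum_comm]
    simp_rw [h2]
    rw [Finset.sum_const, Finset.card_univ, smul_eq_mul, Nat.card_eq_fintype_card]
  have h6 := card_singular_centralizer_mul P hP
  have h7 : Nat.card (Sylow p K) = N.index := Sylow.card_eq_index_normalizer P
  have hCN : C ≤ N := Subgroup.centralizer_le_normalizer _
  have h8 : Nat.card C * C.relIndex N = Nat.card N := by
    have := Subgroup.relIndex_mul_relIndex (⊥ : Subgroup K) C N bot_le hCN
    rwa [Subgroup.relIndex_bot_left, Subgroup.relIndex_bot_left] at this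
  have h9 : N.index * Nat.card N = Nat.card K := Subgroup.index_mul_card N
  rw [h5, h7]
  calc N.index * Nat.card {g : K // R P g} * (p * C.relIndex N)
      = N.index * (Nat.card {g : K // R P g} * p) * C.relIndex N := by ring
    _ = N.index * (Nat.card C * (p - 1)) * C.relIndex N := by rw [h6]
    _ = N.index * (Nat.card C * C.relIndex N) * (p - 1) := by ring
    _ = Nat.card K * (p - 1) := by rw [h8, h9]

/-- the density of the `p`-singular elements, in `ℂ` -/
theorem card_singular_div (P : Sylow p K) (hP : Nat.card P = p) :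
    (Nat.card {g : K // p ∣ orderOf g} : ℂ) / (Nat.card K : ℂ) =
      ((p : ℂ) - 1) / ((p : ℂ) * ((Subgroup.centralizer ((P : Subgroup K) : Set K)).relIndex
        (Subgroup.normalizer ((P : Subgroup K) : Set K)) : ℂ)) := by
  have hp : p.Prime := Fact.out
  have h := card_singular_mul P hP
  set e := (Subgroup.centralizer ((P : Subgroup K) : Set K)).relIndex
    (Subgroup.normalizer ((P : Subgroup K) : Set K)) with he
  have hK0 : (Nat.card K : ℂ) ≠ 0 := by exact_mod_cast Nat.card_pos.ne'
  have hp0 : (p : ℂ) ≠ 0 := by exact_mod_cast hp.pos.ne'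
  have he0 : e ≠ 0 := by
    intro h0
    rw [h0, mul_zero, mul_zero] at h
    have h1 : 0 < Nat.card K * (p - 1) :=
      Nat.mul_pos Nat.card_pos (Nat.sub_pos_of_lt hp.one_lt)
    omega
  have he0' : (e : ℂ) ≠ 0 := by exact_mod_cast he0
  have hc : (Nat.card {g : K // p ∣ orderOf g} : ℂ) * ((p : ℂ) * (e : ℂ)) =
      (Nat.card K : ℂ) * ((p : ℂ) - 1) := by
    have : ((Nat.card {g : K // p ∣ orderOf g} * (p * e) : ℕ) : ℂ) =
        ((Nat.card K * (p - 1) : ℕ) : ℂ) := by rw [h]
    rw [Nat.cast_mul, Nat.cast_mul, Nat.cast_mul, Nat.cast_sub hp.one_lt.le, Nat.cast_one] at this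
    exact this
  rw [div_eq_div_iff hK0 (mul_ne_zero hp0 he0'), hc]
  ring

end

end Cfsg.Agent.Lib.Helper8.HKS
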