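import Cfsg.Agent.Lib.Helper6.DC3

set_option autoImplicit false

namespace Cfsg.Agent.Lib.Helper2.HNQuot

open Cfsg.Agent.Lib.Helper6.DC

/-! # A double cover of an almost simple group with trivial centre has no proper perfect quotient -/

section
variable {G A : Type*} [Group G] [Group A]

open Classical in
/-- the sign of a subgroup of index two -/
noncomputable def signHom (L : Subgroup G) (hL : L.index = 2) : G →* ℤˣ :=
  MonoidHom.mk' (fun g => if g ∈ L then 1 else -1) (by
    intro a b
    have h := Subgroup.mul_mem_iff_of_index_two hL (a := a) (b := b)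
    by_cases ha : a ∈ L <;> by_cases hb : b ∈ L <;> simp [ha, hb, h])

theorem signHom_apply_eq_one_iff (L : Subgroup G) (hL : L.index = 2) (g : G) :
    signHom L hL g = 1 ↔ g ∈ L := by
  classical
  unfold signHom
  rw [MonoidHom.mk'_apply]
  by_cases hg : g ∈ L
  · simp [hg]
  · simp only [hg, if_false, iff_false]
    decide

/-- a normal subgroup of index two is everything if all the homomorphisms into `ℤˣ` which are
trivial on it are trivial -/
theorem false_of_index_two (K L : Subgroup G) (hKL : K ≤ L) (hL : L.index = 2)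
    (hperf : ∀ f : G →* ℤˣ, K ≤ f.ker → ∀ g, f g = 1) : False := by
  have h1 : ∀ g, g ∈ L := by
    intro g
    rw [← signHom_apply_eq_one_iff L hL]
    apply hperf
    intro k hk
    rw [MonoidHom.mem_ker, signHom_apply_eq_one_iff]
    exact hKL hk
  have h2 : L = ⊤ := by
    rw [eq_top_iff]
    intro g _
    exact h1 g
  rw [h2, Subgroup.index_top] at hL
  omega

variable {θ : G →* A} {H0 : Subgroup A} {k0 : G}

/-- a normal subgroup with a perfect quotient is everything -/
theorem eq_top_of_perfect_quotient [Finite G] (D : DHyp θ H0 k0)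
    (hcent : ∀ a : A, (∀ b, a * b = b * a) → a = 1)
    (K : Subgroup G) [hK : K.Normal]
    (hperf : ∀ f : G →* ℤˣ, K ≤ f.ker → ∀ g, f g = 1) : K = ⊤ := by
  have hN0 : H0.Normal := D.normalH0
  have hLidx : (H0.comap θ).index = 2 := by
    rw [Subgroup.index_comap_of_surjective H0 D.hθ]
    exact D.hidx
  -- an element of `K` outside the preimage of `H0`
  have hex : ∃ k ∈ K, θ k ∉ H0 := by
    by_contra hne
    have hne' : ∀ k ∈ K, θ k ∈ H0 := fun k hk => by
      by_contra h
      exact hne ⟨k, hk, h⟩
    exact false_of_index_two K (H0.comap θ) (fun k hk => hne' k hk) hLidx hperf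
  obtain ⟨k, hkK, hkH0⟩ := hex
  set T : Subgroup A := K.map θ with hT
  have hTn : T.Normal := Subgroup.Normal.map hK θ D.hθ
  have hgT : θ k ∈ T := Subgroup.mem_map_of_mem θ hkK
  have hsimp := D.hs
  have hTs : (T.subgroupOf H0).Normal := Subgroup.Normal.subgroupOf hTn H0
  rcases Subgroup.Normal.eq_bot_or_eq_top hTs with hbot | htop
  · -- the image of `K` meets `H0` trivially: the element is central
    exfalso
    have htriv : ∀ b ∈ H0, b ∈ T → b = 1 := by
      intro b hb hbT
      have h1 : (⟨b, hb⟩ : H0) ∈ T.subgroupOf H0 := Subgroup.mem_subgroupOf.mpr hbT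
      rw [hbot, Subgroup.mem_bot] at h1
      exact congrArg Subtype.val h1
    have hcomm0 : ∀ b ∈ H0, θ k * b = b * θ k := by
      intro b hb
      have hcT : θ k * b * (θ k)⁻¹ * b⁻¹ ∈ T := by
        have h1 : b * (θ k)⁻¹ * b⁻¹ ∈ T := hTn.conj_mem _ (T.inv_mem hgT) b
        have e : θ k * b * (θ k)⁻¹ * b⁻¹ = θ k * (b * (θ k)⁻¹ * b⁻¹) := by group
        rw [e]
        exact T.mul_mem hgT h1
      have hcH : θ k * b * (θ k)⁻¹ * b⁻¹ ∈ H0 :=
        H0.mul_mem (hN0.conj_mem b hb (θ k)) (H0.inv_mem hb)
      have h1 := htriv _ hcH hcT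
      have e : θ k * b = (θ k * b * (θ k)⁻¹ * b⁻¹) * (b * θ k) := by group
      rw [e, h1, one_mul]
    have hcomm : ∀ b, θ k * b = b * θ k := by
      intro b
      by_cases hb : b ∈ H0
      · exact hcomm0 b hb
      · have hb' : b * (θ k)⁻¹ ∈ H0 := by
          rw [Subgroup.mul_mem_iff_of_index_two D.hidx]
          constructor
          · intro h; exact absurd h hb
          · intro h; exact absurd (by simpa using H0.inv_mem h) hkH0
        have h1 := hcomm0 _ hb'
        calc θ k * b = θ k * (b * (θ k)⁻¹) * θ k := by group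
          _ = b * (θ k)⁻¹ * θ k * θ k := by rw [h1]
          _ = b * θ k := by group
    have h1 := hcent (θ k) hcomm
    rw [h1] at hkH0
    exact hkH0 H0.one_mem
  · -- the image of `K` contains `H0`, so it is everything
    have hH0T : ∀ b ∈ H0, b ∈ T := by
      intro b hb
      have h1 : (⟨b, hb⟩ : H0) ∈ T.subgroupOf H0 := by rw [htop]; exact Subgroup.mem_top _
      exact Subgroup.mem_subgroupOf.mp h1
    have hTtop : ∀ a : A, a ∈ T := by
      intro a
      by_cases ha : a ∈ H0
      · exact hH0T a ha
      · have ha' : a * (θ k)⁻¹ ∈ H0 := by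
          rw [Subgroup.mul_mem_iff_of_index_two D.hidx]
          constructor
          · intro h; exact absurd h ha
          · intro h; exact absurd (by simpa using H0.inv_mem h) hkH0
        have e : a = a * (θ k)⁻¹ * θ k := by group
        rw [e]
        exact T.mul_mem (hH0T _ ha') hgT
    have hlift : ∀ h : G, ∃ k' ∈ K, θ k' = θ h := by
      intro h
      obtain ⟨k', hk', e⟩ := Subgroup.mem_map.mp (hTtop (θ h))
      exact ⟨k', hk', e⟩
    by_cases hZ : θ.ker ≤ K
    · rw [eq_top_iff]
      intro h _
      obtain ⟨k', hk', e⟩ := hlift h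
      have h1 : k'⁻¹ * h ∈ θ.ker := by
        rw [MonoidHom.mem_ker, map_mul, map_inv, e, inv_mul_cancel]
      have e2 : h = k' * (k'⁻¹ * h) := by group
      rw [e2]
      exact K.mul_mem hk' (hZ h1)
    · -- `K` has index two
      obtain ⟨z, hzZ, hzK⟩ := SetLike.not_le_iff_exists.mp hZ
      have hz1 : z ≠ 1 := fun h => hzK (h ▸ K.one_mem)
      have hcard := D.card_ker
      have hzz : z * z = 1 := by
        rcases eq_of_card_two hcard hzZ hz1 (θ.ker.mul_mem hzZ hzZ) with h | h
        · exact h
        · exfalso
          apply hz1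
          have : z * z = z * 1 := by rw [mul_one]; exact h
          exact mul_left_cancel this
      have hKidx : K.index = 2 := by
        rw [Subgroup.index_eq_two_iff]
        refine ⟨z, ?_⟩
        intro b
        by_cases hb : b ∈ K
        · refine Or.inr ⟨hb, ?_⟩
          intro hbz
          apply hzK
          have e : z = b⁻¹ * (b * z) := by group
          rw [e]
          exact K.mul_mem (K.inv_mem hb) hbz
        · refine Or.inl ⟨?_, hb⟩
          obtain ⟨k', hk', e⟩ := hlift b
          have h1 : k'⁻¹ * b ∈ θ.ker := by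
            rw [MonoidHom.mem_ker, map_mul, map_inv, e, inv_mul_cancel]
          rcases eq_of_card_two hcard hzZ hz1 h1 with h | h
          · exfalso
            apply hb
            have e2 : b = k' * (k'⁻¹ * b) := by group
            rw [e2, h, mul_one]
            exact hk'
          · have e2 : b * z = k' * (k'⁻¹ * b) * z := by group
            rw [e2, h, mul_assoc, hzz, mul_one]
            exact hk'
      exact (false_of_index_two K K le_rfl hKidx hperf).elim

end

end Cfsg.Agent.Lib.Helper2.HNQuot
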