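import Mathlib

set_option autoImplicit false

namespace Cfsg.Agent.Lib.Helper2.HNDce

/-! # Double coset enumeration: the abstract index bound

`H` is a subgroup of `G`, the image of a finite group `P`; `G` is generated by `H` and one more
element `t`.  A list of rows (double coset representatives `w i`), subgroups `M i` of `P` fixing
the cosets `H (w i)`, and a table of entries `H (w i) s = H (w j) g₀` for conjugates `s` of `t`,
covering all conjugates up to `M i`, bound the index of `H` by the sum of the indices of the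
`M i`. -/

variable {G : Type*} [Group G]

/-- the right cosets `H a` and `H b` are equal -/
def CosetEq (H : Subgroup G) (a b : G) : Prop := a * b⁻¹ ∈ H

theorem CosetEq.refl (H : Subgroup G) (a : G) : CosetEq H a a := by
  unfold CosetEq; rw [mul_inv_cancel]; exact H.one_mem

theorem CosetEq.symm {H : Subgroup G} {a b : G} (h : CosetEq H a b) : CosetEq H b a := by
  unfold CosetEq at *
  have := H.inv_mem h
  rwa [mul_inv_rev, inv_inv] at this

theorem CosetEq.trans {H : Subgroup G} {a b c : G} (h1 : CosetEq H a b) (h2 : CosetEq H b c) :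
    CosetEq H a c := by
  unfold CosetEq at *
  have := H.mul_mem h1 h2
  rwa [mul_assoc, inv_mul_cancel_left] at this

theorem CosetEq.mul_right {H : Subgroup G} {a b : G} (h : CosetEq H a b) (c : G) :
    CosetEq H (a * c) (b * c) := by
  unfold CosetEq at *
  rwa [mul_inv_rev, mul_assoc, mul_inv_cancel_left]

theorem CosetEq.of_mem {H : Subgroup G} {h : G} (hh : h ∈ H) (a : G) : CosetEq H (h * a) a := by
  unfold CosetEq
  rwa [mul_assoc, mul_inv_cancel, mul_one]

theorem CosetEq.of_eq {H : Subgroup G} {a b : G} (h : a = b) : CosetEq H a b := by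
  subst h; exact CosetEq.refl H a

section index
variable {P : Type*} [Group P]

/-- the index bound from a covering by double cosets -/
theorem index_le_of_rows [Finite P] (ι : P →* G) (H : Subgroup G)
    {n : ℕ} (w : Fin n → G) (M : Fin n → Subgroup P)
    (hM : ∀ i, ∀ m ∈ M i, CosetEq H (w i * ι m) (w i))
    (hS : ∀ g : G, ∃ i p, CosetEq H g (w i * ι p)) :
    H.index ≤ ∑ i, (M i).index ∧ H.index ≠ 0 := by
  classical
  -- the map from the disjoint union of the `P ⧸ M i` onto `G ⧸ H`
  let F : (Σ i : Fin n, P ⧸ M i) → G ⧸ H := fun x =>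
    Quotient.liftOn' x.2 (fun p => ((ι p * (w x.1)⁻¹ : G) : G ⧸ H)) (by
      intro a b hab
      have hab' : a⁻¹ * b ∈ M x.1 := QuotientGroup.leftRel_apply.mp hab
      apply QuotientGroup.eq.mpr
      have h1 := hM x.1 _ hab'
      unfold CosetEq at h1
      have e : (ι a * (w x.1)⁻¹)⁻¹ * (ι b * (w x.1)⁻¹) = w x.1 * ι (a⁻¹ * b) * (w x.1)⁻¹ := by
        rw [map_mul, map_inv]; group
      rw [e]; exact h1)
  have hF : Function.Surjective F := by
    intro y
    induction y using QuotientGroup.induction_on with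
    | H g =>
      obtain ⟨i, p, hp⟩ := hS g⁻¹
      refine ⟨⟨i, ((p⁻¹ : P) : P ⧸ M i)⟩, ?_⟩
      show ((ι p⁻¹ * (w i)⁻¹ : G) : G ⧸ H) = (g : G ⧸ H)
      apply QuotientGroup.eq.mpr
      unfold CosetEq at hp
      have e : (ι p⁻¹ * (w i)⁻¹)⁻¹ * g = (g⁻¹ * (w i * ι p)⁻¹)⁻¹ := by
        rw [map_inv]; group
      rw [e]; exact H.inv_mem hp
  have : Finite (Σ i : Fin n, P ⧸ M i) := inferInstance
  have : Finite (G ⧸ H) := Finite.of_surjective F hF
  have hcard : Nat.card (G ⧸ H) ≤ Nat.card (Σ i : Fin n, P ⧸ M i) :=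
    Nat.card_le_card_of_surjective F hF
  have hsum : Nat.card (Σ i : Fin n, P ⧸ M i) = ∑ i, (M i).index := by
    rw [Nat.card_sigma]
    rfl
  refine ⟨?_, ?_⟩
  · exact hcard.trans hsum.le
  · unfold Subgroup.index
    exact Nat.card_pos.ne'

end index

end Cfsg.Agent.Lib.Helper2.HNDce
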