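import Cfsg.Agent.Lib.Helper2.HNDce1

set_option autoImplicit false

namespace Cfsg.Agent.Lib.Helper2.HNDce

/-! # Double coset enumeration: closure of the union of the double cosets -/

variable {G : Type*} [Group G] {P : Type*} [Group P]

/-- an entry of the table of a row: `(h, j, g₀)` with `H (w i) h⁻¹ t h = H (w j) g₀` -/
abbrev Entry (n : ℕ) (P : Type*) := P × Fin n × P

/-- the union of the double cosets `H (w i) H` -/
def InRows (ι : P →* G) (H : Subgroup G) {n : ℕ} (w : Fin n → G) (g : G) : Prop :=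
  ∃ i p, CosetEq H g (w i * ι p)

theorem inRows_mul_range (ι : P →* G) (H : Subgroup G) {n : ℕ} (w : Fin n → G) {g : G}
    (hg : InRows ι H w g) (p' : P) : InRows ι H w (g * ι p') := by
  obtain ⟨i, p, hp⟩ := hg
  refine ⟨i, p * p', ?_⟩
  have := hp.mul_right (ι p')
  rwa [mul_assoc, ← map_mul] at this

/-- closure under right multiplication by `t` -/
theorem inRows_mul_t (ι : P →* G) (H : Subgroup G) (t : G) {k : ℕ}
    (ψ : P →* Equiv.Perm (Fin k)) (ω : Fin k)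
    (hC : ∀ c : P, ψ c ω = ω → ι c * t = t * ι c)
    {n : ℕ} (w : Fin n → G) (M : Fin n → Subgroup P)
    (hM : ∀ i, ∀ m ∈ M i, CosetEq H (w i * ι m) (w i))
    (E : Fin n → List (Entry n P))
    (hE : ∀ i, ∀ e ∈ E i, CosetEq H (w i * ((ι e.1)⁻¹ * t * ι e.1)) (w e.2.1 * ι e.2.2))
    (hcov : ∀ i, ∀ q : Fin k, ∃ e ∈ E i, ∃ m ∈ M i, q = (ψ (e.1 * m))⁻¹ ω)
    {g : G} (hg : InRows ι H w g) : InRows ι H w (g * t) := by
  obtain ⟨i, p, hp⟩ := hg
  obtain ⟨e, he, m, hm, hq⟩ := hcov i (ψ p ω)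
  -- `c = h m p` fixes `ω`
  have hc : ψ (e.1 * m * p) ω = ω := by
    rw [map_mul, Equiv.Perm.mul_apply, hq, ← Equiv.Perm.mul_apply, mul_inv_cancel]
    rfl
  have hcomm := hC _ hc
  -- `ι p * t = ι m⁻¹ * (ι h⁻¹ t ι h) * ι (m p)`
  have e1 : ι p * t = ι m⁻¹ * ((ι e.1)⁻¹ * t * ι e.1) * ι (m * p) := by
    have : ι p = (ι (e.1 * m))⁻¹ * ι (e.1 * m * p) := by
      rw [← map_inv, ← map_mul]; congr 1; group
    calc ι p * t = (ι (e.1 * m))⁻¹ * (ι (e.1 * m * p) * t) := by rw [this]; group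
      _ = (ι (e.1 * m))⁻¹ * (t * ι (e.1 * m * p)) := by rw [hcomm]
      _ = ι m⁻¹ * ((ι e.1)⁻¹ * t * ι e.1) * ι (m * p) := by
        simp only [map_mul, map_inv]; group
  refine ⟨e.2.1, e.2.2 * (m * p), ?_⟩
  have h1 : CosetEq H (g * t) (w i * ι p * t) := hp.mul_right t
  have h2 : w i * ι p * t = w i * ι m⁻¹ * (((ι e.1)⁻¹ * t * ι e.1) * ι (m * p)) := by
    rw [mul_assoc, e1]; group
  have h3 : CosetEq H (w i * ι m⁻¹ * (((ι e.1)⁻¹ * t * ι e.1) * ι (m * p)))
      (w i * (((ι e.1)⁻¹ * t * ι e.1) * ι (m * p))) :=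
    (hM i _ ((M i).inv_mem hm)).mul_right _
  have h4 : CosetEq H (w i * (((ι e.1)⁻¹ * t * ι e.1) * ι (m * p)))
      (w e.2.1 * ι e.2.2 * ι (m * p)) := by
    have := (hE i e he).mul_right (ι (m * p))
    rwa [mul_assoc] at this
  rw [h2] at h1
  have h5 := (h1.trans h3).trans h4
  rwa [mul_assoc, ← map_mul] at h5

/-- the main theorem: the index of `H` is at most the sum of the indices of the `M i` -/
theorem index_le_of_dce [Finite P] (ι : P →* G) (H : Subgroup G) (hH : ∀ p, ι p ∈ H) (t : G)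
    (ht : t ^ 5 = 1)
    (hgen : Subgroup.closure (Set.range ι ∪ {t}) = ⊤)
    {k : ℕ} (ψ : P →* Equiv.Perm (Fin k)) (ω : Fin k)
    (hC : ∀ c : P, ψ c ω = ω → ι c * t = t * ι c)
    {n : ℕ} (w : Fin n → G) (i0 : Fin n) (hw0 : w i0 = 1) (M : Fin n → Subgroup P)
    (hM : ∀ i, ∀ m ∈ M i, CosetEq H (w i * ι m) (w i))
    (E : Fin n → List (Entry n P))
    (hE : ∀ i, ∀ e ∈ E i, CosetEq H (w i * ((ι e.1)⁻¹ * t * ι e.1)) (w e.2.1 * ι e.2.2))
    (hcov : ∀ i, ∀ q : Fin k, ∃ e ∈ E i, ∃ m ∈ M i, q = (ψ (e.1 * m))⁻¹ ω) :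
    H.index ≤ ∑ i, (M i).index ∧ H.index ≠ 0 := by
  have _ := hH
  apply index_le_of_rows ι H w M hM
  have hstep : ∀ g, InRows ι H w g → InRows ι H w (g * t) :=
    fun g hg => inRows_mul_t ι H t ψ ω hC w M hM E hE hcov hg
  have hall : ∀ g ∈ Subgroup.closure (Set.range ι ∪ {t}), InRows ι H w g := by
    intro g hg
    induction hg using Subgroup.closure_induction_right with
    | one =>
      refine ⟨i0, 1, ?_⟩
      rw [hw0, map_one, mul_one]; exact CosetEq.refl H 1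
    | mul_right x hx y hy ih =>
      rcases hy with ⟨p', rfl⟩ | hy
      · exact inRows_mul_range ι H w ih p'
      · rw [Set.mem_singleton_iff] at hy; subst hy
        exact hstep _ ih
    | mul_inv_cancel x hx y hy ih =>
      rcases hy with ⟨p', rfl⟩ | hy
      · rw [← map_inv]; exact inRows_mul_range ι H w ih p'⁻¹
      · rw [Set.mem_singleton_iff] at hy; subst hy
        have e : y⁻¹ = y ^ 4 := by
          rw [inv_eq_iff_mul_eq_one, ← pow_succ', ht]
        rw [e, pow_succ, pow_succ, pow_succ, pow_one, ← mul_assoc, ← mul_assoc, ← mul_assoc]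
        exact hstep _ (hstep _ (hstep _ (hstep _ ih)))
  intro g
  exact hall g (by rw [hgen]; exact Subgroup.mem_top g)

end Cfsg.Agent.Lib.Helper2.HNDce
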