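import Cfsg.Agent.Lib.Helper6.TC10

set_option autoImplicit false

namespace Cfsg.Agent.Lib.Helper2.HNDce

open Cfsg.Agent.Lib.Helper6.TC

/-! # Words over seven letters, and lower bounds for the orders of subgroups generated by words -/

/-- the inverse letter: `x, x⁻¹, y, y⁻¹, z, t, t⁻¹` -/
def ic (c : ℕ) : ℕ :=
  match c with
  | 0 => 1 | 1 => 0 | 2 => 3 | 3 => 2 | 4 => 4 | 5 => 6 | 6 => 5 | n => n

/-- the inverse word -/
def iw (w : List ℕ) : List ℕ := (w.map ic).reverse

theorem ic_lt5 {c : ℕ} (h : c < 5) : ic c < 5 := by interval_cases c <;> decide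
theorem ic_lt7 {c : ℕ} (h : c < 7) : ic c < 7 := by interval_cases c <;> decide

theorem iw_lt5 {w : List ℕ} (h : ∀ c ∈ w, c < 5) : ∀ c ∈ iw w, c < 5 := by
  intro c hc
  unfold iw at hc
  rw [List.mem_reverse, List.mem_map] at hc
  obtain ⟨d, hd, rfl⟩ := hc
  exact ic_lt5 (h d hd)

theorem iw_lt7 {w : List ℕ} (h : ∀ c ∈ w, c < 7) : ∀ c ∈ iw w, c < 7 := by
  intro c hc
  unfold iw at hc
  rw [List.mem_reverse, List.mem_map] at hc
  obtain ⟨d, hd, rfl⟩ := hc
  exact ic_lt7 (h d hd)

/-- Boolean test: all letters are below `k` -/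
def allLt (k : ℕ) (w : List ℕ) : Bool := w.all (fun c => Nat.blt c k)

theorem allLt_spec {k : ℕ} {w : List ℕ} (h : allLt k w = true) : ∀ c ∈ w, c < k := by
  intro c hc
  unfold allLt at h
  rw [List.all_eq_true] at h
  have := h c hc
  rwa [Nat.blt_eq] at this

/-- Boolean equality of words -/
def leq : List ℕ → List ℕ → Bool
  | [], [] => true
  | a :: u, b :: v => Nat.beq a b && leq u v
  | _, _ => false

theorem leq_spec : ∀ {u v : List ℕ}, leq u v = true → u = v
  | [], [], _ => rfl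
  | a :: u, b :: v, h => by
    simp only [leq, Bool.and_eq_true, Nat.beq_eq] at h
    rw [h.1, leq_spec h.2]
  | [], _ :: _, h => by simp [leq] at h
  | _ :: _, [], h => by simp [leq] at h

/-- a word given by a list of signed indices into a list of words: `2k` is the word `k`, `2k+1`
its inverse -/
def expand (G0 : List (List ℕ)) (path : List ℕ) : List ℕ :=
  path.flatMap (fun i => bif Nat.beq (i % 2) 0 then G0.getD (i / 2) [] else iw (G0.getD (i / 2) []))

theorem expand_nil (G0 : List (List ℕ)) : expand G0 [] = [] := rfl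
theorem expand_cons (G0 : List (List ℕ)) (i : ℕ) (path : List ℕ) :
    expand G0 (i :: path) =
      (bif Nat.beq (i % 2) 0 then G0.getD (i / 2) [] else iw (G0.getD (i / 2) [])) ++
        expand G0 path := by
  unfold expand
  rw [List.flatMap_cons]

section sem
variable {P : Type*} [Group P]

/-- the semantics of words in a group -/
structure WSem (P : Type*) [Group P] (nc : ℕ) where
  /-- the element of a word -/
  ev : List ℕ → P
  ev_nil : ev [] = 1
  ev_append : ∀ u v, ev (u ++ v) = ev u * ev v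
  ev_iw : ∀ w, (∀ c ∈ w, c < nc) → ev (iw w) = (ev w)⁻¹
  iw_lt : ∀ w, (∀ c ∈ w, c < nc) → ∀ c ∈ iw w, c < nc

variable {nc : ℕ} (W : WSem P nc)

/-- the subgroup generated by a list of words -/
def genSub (G0 : List (List ℕ)) : Subgroup P := Subgroup.closure {g | ∃ w ∈ G0, g = W.ev w}

theorem getD_lt {G0 : List (List ℕ)} (hG0 : ∀ w ∈ G0, ∀ c ∈ w, c < nc) (k : ℕ) :
    ∀ c ∈ G0.getD k [], c < nc := by
  intro c hc
  by_cases hk : k < G0.length
  · rw [List.getD_eq_getElem _ _ hk] at hc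
    exact hG0 _ (List.getElem_mem hk) c hc
  · rw [List.getD_eq_default _ _ (by omega)] at hc
    simp at hc

theorem getD_mem_genSub (G0 : List (List ℕ)) (k : ℕ) : W.ev (G0.getD k []) ∈ genSub W G0 := by
  by_cases hk : k < G0.length
  · rw [List.getD_eq_getElem _ _ hk]
    exact Subgroup.subset_closure ⟨_, List.getElem_mem hk, rfl⟩
  · rw [List.getD_eq_default _ _ (by omega), W.ev_nil]
    exact Subgroup.one_mem _

include W in
theorem expand_lt {G0 : List (List ℕ)} (hG0 : ∀ w ∈ G0, ∀ c ∈ w, c < nc) (path : List ℕ) :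
    ∀ c ∈ expand G0 path, c < nc := by
  induction path with
  | nil => intro c hc; simp [expand] at hc
  | cons i path ih =>
    intro c hc
    rw [expand_cons, List.mem_append] at hc
    rcases hc with hc | hc
    · cases hb : Nat.beq (i % 2) 0 with
      | true => rw [hb, cond_true] at hc; exact getD_lt hG0 _ c hc
      | false => rw [hb, cond_false] at hc; exact W.iw_lt _ (getD_lt hG0 _) c hc
    · exact ih c hc

theorem expand_mem {G0 : List (List ℕ)} (hG0 : ∀ w ∈ G0, ∀ c ∈ w, c < nc) (path : List ℕ) :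
    W.ev (expand G0 path) ∈ genSub W G0 := by
  induction path with
  | nil => rw [expand_nil, W.ev_nil]; exact Subgroup.one_mem _
  | cons i path ih =>
    rw [expand_cons, W.ev_append]
    refine Subgroup.mul_mem _ ?_ ih
    cases hb : Nat.beq (i % 2) 0 with
    | true => rw [cond_true]; exact getD_mem_genSub W G0 _
    | false =>
      rw [cond_false, W.ev_iw _ (getD_lt hG0 _)]
      exact Subgroup.inv_mem _ (getD_mem_genSub W G0 _)

end sem

section chain
variable {P : Type*} [Group P] {N : ℕ}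

/-- the subgroup fixing all points of a list -/
def pfix (ψ : P →* Equiv.Perm (Fin N)) (bs : List ℕ) : Subgroup P where
  carrier := {g | ∀ b ∈ bs, ∀ hb : b < N, ψ g ⟨b, hb⟩ = ⟨b, hb⟩}
  mul_mem' := by
    intro a b ha hb c hc hcN
    rw [map_mul, Equiv.Perm.mul_apply, hb c hc hcN, ha c hc hcN]
  one_mem' := by
    intro c _ hcN
    rw [map_one]; rfl
  inv_mem' := by
    intro a ha c hc hcN
    rw [map_inv, Equiv.Perm.inv_eq_iff_eq]
    exact (ha c hc hcN).symm

theorem mem_pfix {ψ : P →* Equiv.Perm (Fin N)} {bs : List ℕ} {g : P} :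
    g ∈ pfix ψ bs ↔ ∀ b ∈ bs, ∀ hb : b < N, ψ g ⟨b, hb⟩ = ⟨b, hb⟩ := Iff.rfl

/-- the orbit of a point under a subgroup has at most `|K| / |K_b|` points -/
theorem orbit_lb [Finite P] (ψ : P →* Equiv.Perm (Fin N)) (K : Subgroup P) (bs : List ℕ)
    (b : ℕ) (hb : b < N) (pts : List ℕ) (hnd : pts.Nodup)
    (hreach : ∀ q ∈ pts, ∃ hq : q < N, ∃ g ∈ K ⊓ pfix ψ bs, ψ g ⟨b, hb⟩ = ⟨q, hq⟩) :
    pts.length * Nat.card (K ⊓ pfix ψ (b :: bs) : Subgroup P) ≤ Nat.card (K ⊓ pfix ψ bs : Subgroup P) := by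
  classical
  have hreach' : ∀ q : {q // q ∈ pts}, ∃ g ∈ K ⊓ pfix ψ bs, (ψ g ⟨b, hb⟩).val = q.val := by
    intro q
    obtain ⟨hq, g, hg, e⟩ := hreach q.val q.property
    exact ⟨g, hg, by rw [e]⟩
  choose gq hgK hgq using hreach'
  let f : {q // q ∈ pts} × (K ⊓ pfix ψ (b :: bs) : Subgroup P) → (K ⊓ pfix ψ bs : Subgroup P) :=
    fun x => ⟨gq x.1 * x.2.val, by
      refine Subgroup.mul_mem _ (hgK x.1) ⟨x.2.property.1, ?_⟩
      intro c hc hcN
      exact x.2.property.2 c (List.mem_cons_of_mem _ hc) hcN⟩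
  have hf : Function.Injective f := by
    rintro ⟨q, s⟩ ⟨q', s'⟩ h
    have h1 : gq q * s.val = gq q' * s'.val := congrArg Subtype.val h
    have hs : ψ s.val ⟨b, hb⟩ = ⟨b, hb⟩ := s.property.2 b List.mem_cons_self hb
    have hs' : ψ s'.val ⟨b, hb⟩ = ⟨b, hb⟩ := s'.property.2 b List.mem_cons_self hb
    have h2 : ψ (gq q * s.val) ⟨b, hb⟩ = ψ (gq q' * s'.val) ⟨b, hb⟩ := by rw [h1]
    rw [map_mul, map_mul, Equiv.Perm.mul_apply, Equiv.Perm.mul_apply, hs, hs'] at h2
    have h3 : q.val = q'.val := by rw [← hgq q, ← hgq q', h2]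
    have hq : q = q' := Subtype.ext h3
    subst hq
    have h4 : s.val = s'.val := mul_left_cancel h1
    rw [Subtype.ext h4]
  have hcard := Nat.card_le_card_of_injective f hf
  rw [Nat.card_prod] at hcard
  have hT : Nat.card {q // q ∈ pts} = pts.length := by
    rw [Nat.card_eq_fintype_card]
    have : Fintype.card {q // q ∈ pts} = pts.toFinset.card := by
      rw [← Fintype.card_coe]
      apply Fintype.card_congr
      exact Equiv.subtypeEquivRight (fun q => by simp)
    rw [this, List.toFinset_card_of_nodup hnd]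
  rw [hT] at hcard
  exact hcard

end chain

end Cfsg.Agent.Lib.Helper2.HNDce
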