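import Cfsg.Agent.Lib.Helper2.HNDce3

set_option autoImplicit false

namespace Cfsg.Agent.Lib.Helper2.HNDce

open Cfsg.Agent.Lib.Helper6.TC

/-! # Chains of stabilisers for subgroups generated by words: the check and the lower bound -/

/-- strictly increasing list -/
def sortedLt : List ℕ → Bool
  | [] => true
  | [_] => true
  | a :: b :: l => Nat.blt a b && sortedLt (b :: l)

theorem sortedLt_spec : ∀ {l : List ℕ}, sortedLt l = true → l.Pairwise (· < ·)
  | [], _ => List.Pairwise.nil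
  | [_], _ => List.pairwise_singleton _ _
  | a :: b :: l, h => by
    simp only [sortedLt, Bool.and_eq_true, Nat.blt_eq] at h
    have ih := sortedLt_spec h.2
    rw [List.pairwise_cons]
    refine ⟨?_, ih⟩
    intro c hc
    rcases List.mem_cons.mp hc with rfl | hc'
    · exact h.1
    · exact lt_trans h.1 ((List.pairwise_cons.mp ih).1 c hc')

/-- the check of one point of the orbit of a level -/
def chkPt (px : ℕ → ℕ → ℕ) (N : ℕ) (G0 : List (List ℕ)) (bs : List ℕ) (b : ℕ)
    (e : ℕ × List ℕ) : Bool :=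
  Nat.blt e.1 N && (!(Nat.beq e.1 b)) && Nat.beq (wapp px (expand G0 e.2) b) e.1 &&
    bs.all (fun b' => Nat.beq (wapp px (expand G0 e.2) b') b')

/-- the check of a level -/
def chkLevel (px : ℕ → ℕ → ℕ) (N : ℕ) (G0 : List (List ℕ)) (bs : List ℕ) (b : ℕ)
    (lv : List (ℕ × List ℕ)) : Bool :=
  Nat.blt b N && sortedLt (lv.map Prod.fst) && lv.all (chkPt px N G0 bs b)

/-- the check of a chain of levels -/
def chkChain (px : ℕ → ℕ → ℕ) (N : ℕ) (G0 : List (List ℕ)) :
    List ℕ → List (ℕ × List (ℕ × List ℕ)) → Bool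
  | _, [] => true
  | bs, l :: rest => chkLevel px N G0 bs l.1 l.2 && chkChain px N G0 (l.1 :: bs) rest

/-- the product of the sizes of the orbits -/
def sizes : List (ℕ × List (ℕ × List ℕ)) → ℕ
  | [] => 1
  | l :: rest => (l.2.length + 1) * sizes rest

/-- all the base points -/
def allBase : List ℕ → List (ℕ × List (ℕ × List ℕ)) → List ℕ
  | bs, [] => bs
  | bs, l :: rest => allBase (l.1 :: bs) rest

section
variable {P : Type*} [Group P] [Finite P] {N nc : ℕ} (W : WSem P nc)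
  (ψ : P →* Equiv.Perm (Fin N)) (px : ℕ → ℕ → ℕ)

theorem level_lb' (hact : ∀ w, (∀ c ∈ w, c < nc) → ∀ p : Fin N,
      ((ψ (W.ev w))⁻¹ p).val = wapp px w p.val)
    (G0 : List (List ℕ)) (hG0 : ∀ w ∈ G0, ∀ c ∈ w, c < nc) (bs : List ℕ) (b : ℕ)
    (lv : List (ℕ × List ℕ)) (h : chkLevel px N G0 bs b lv = true) :
    (lv.length + 1) * Nat.card (genSub W G0 ⊓ pfix ψ (b :: bs) : Subgroup P) ≤
      Nat.card (genSub W G0 ⊓ pfix ψ bs : Subgroup P) := by
  simp only [chkLevel, Bool.and_eq_true, Nat.blt_eq, List.all_eq_true] at h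
  obtain ⟨⟨hb, hsort⟩, hall⟩ := h
  have hpw := sortedLt_spec hsort
  have hpt : ∀ e ∈ lv, e.1 < N ∧ e.1 ≠ b ∧ wapp px (expand G0 e.2) b = e.1 ∧
      ∀ b' ∈ bs, wapp px (expand G0 e.2) b' = b' := by
    intro e he
    have := hall e he
    simp only [chkPt, Bool.and_eq_true, Nat.blt_eq, Bool.not_eq_true', Nat.beq_eq,
      List.all_eq_true] at this
    obtain ⟨⟨⟨h1, h2⟩, h3⟩, h4⟩ := this
    refine ⟨h1, ?_, h3, h4⟩
    intro e'
    rw [e'] at h2
    simp at h2
  have hnd : (b :: lv.map Prod.fst).Nodup := by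
    rw [List.nodup_cons]
    refine ⟨?_, ?_⟩
    · intro hm
      obtain ⟨e, he, rfl⟩ := List.mem_map.mp hm
      exact (hpt e he).2.1 rfl
    · exact hpw.imp (fun hlt => Nat.ne_of_lt hlt)
  have key := orbit_lb ψ (genSub W G0) bs b hb (b :: lv.map Prod.fst) hnd (by
    intro q hq
    rcases List.mem_cons.mp hq with rfl | hq'
    · exact ⟨hb, 1, Subgroup.one_mem _, by rw [map_one]; rfl⟩
    · obtain ⟨e, he, rfl⟩ := List.mem_map.mp hq'
      obtain ⟨h1, _, h3, h4⟩ := hpt e he
      have hlt := expand_lt W hG0 e.2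
      refine ⟨h1, (W.ev (expand G0 e.2))⁻¹, ⟨Subgroup.inv_mem _ (expand_mem W hG0 e.2), ?_⟩, ?_⟩
      · intro b' hb' hb'N
        rw [map_inv]
        apply Fin.ext
        rw [hact _ hlt]
        exact h4 b' hb'
      · rw [map_inv]
        apply Fin.ext
        rw [hact _ hlt]
        exact h3)
  rw [List.length_cons, List.length_map] at key
  exact key

theorem chain_lb (hact : ∀ w, (∀ c ∈ w, c < nc) → ∀ p : Fin N,
      ((ψ (W.ev w))⁻¹ p).val = wapp px w p.val)
    (G0 : List (List ℕ)) (hG0 : ∀ w ∈ G0, ∀ c ∈ w, c < nc) :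
    ∀ (ch : List (ℕ × List (ℕ × List ℕ))) (bs : List ℕ), chkChain px N G0 bs ch = true →
      sizes ch * Nat.card (genSub W G0 ⊓ pfix ψ (allBase bs ch) : Subgroup P) ≤
        Nat.card (genSub W G0 ⊓ pfix ψ bs : Subgroup P) := by
  intro ch
  induction ch with
  | nil => intro bs _; simp [sizes, allBase]
  | cons l rest ih =>
    intro bs h
    simp only [chkChain, Bool.and_eq_true] at h
    have h1 := level_lb' W ψ px hact G0 hG0 bs l.1 l.2 h.1
    have h2 := ih (l.1 :: bs) h.2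
    show (l.2.length + 1) * sizes rest * _ ≤ _
    calc (l.2.length + 1) * sizes rest *
          Nat.card (genSub W G0 ⊓ pfix ψ (allBase (l.1 :: bs) rest) : Subgroup P)
        = (l.2.length + 1) * (sizes rest *
          Nat.card (genSub W G0 ⊓ pfix ψ (allBase (l.1 :: bs) rest) : Subgroup P)) := by ring
      _ ≤ (l.2.length + 1) * Nat.card (genSub W G0 ⊓ pfix ψ (l.1 :: bs) : Subgroup P) :=
        Nat.mul_le_mul_left _ h2
      _ ≤ _ := h1

/-- the lower bound for the order of the subgroup generated by the words -/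
theorem card_genSub_ge (hact : ∀ w, (∀ c ∈ w, c < nc) → ∀ p : Fin N,
      ((ψ (W.ev w))⁻¹ p).val = wapp px w p.val)
    (G0 : List (List ℕ)) (hG0 : ∀ w ∈ G0, ∀ c ∈ w, c < nc)
    (ch : List (ℕ × List (ℕ × List ℕ))) (h : chkChain px N G0 [] ch = true) :
    sizes ch ≤ Nat.card (genSub W G0) := by
  have h1 := chain_lb W ψ px hact G0 hG0 ch [] h
  have hpos : 0 < Nat.card (genSub W G0 ⊓ pfix ψ (allBase [] ch) : Subgroup P) := Nat.card_pos
  have h2 : Nat.card (genSub W G0 ⊓ pfix ψ [] : Subgroup P) ≤ Nat.card (genSub W G0) :=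
    Subgroup.card_le_of_le inf_le_left
  calc sizes ch = sizes ch * 1 := (mul_one _).symm
    _ ≤ sizes ch * Nat.card (genSub W G0 ⊓ pfix ψ (allBase [] ch) : Subgroup P) :=
      Nat.mul_le_mul_left _ hpos
    _ ≤ _ := h1.trans h2

end

end Cfsg.Agent.Lib.Helper2.HNDce
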