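import Cfsg.Agent.Lib.Helper2.HNDce3b
import Cfsg.Agent.Lib.Helper2.HNDce2

set_option autoImplicit false

namespace Cfsg.Agent.Lib.Helper2.HNDce

open Cfsg.Agent.Lib.Helper6.TC

/-! # The checker of rewriting chains for coset equalities, and its soundness -/

/-- a step of a chain -/
inductive Step
  /-- replace the subword `L` of letters `x, y, z` at `pos` by `R` (equal on the base points) -/
  | e2 (pos : ℕ) (L R : List ℕ)
  /-- replace `u T u'` at `pos` by `v T' v'` (`T`, `T'` words in `t`) -/
  | e3 (pos : ℕ) (u T u' v T' v' : List ℕ)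
  /-- delete (or insert, `ins = true`) `w w⁻¹` at `pos` -/
  | fr (pos : ℕ) (w : List ℕ) (ins : Bool)
  /-- delete or insert the relator `(z t)³` at `pos` -/
  | rel (pos : ℕ) (ins : Bool)
  /-- replace the prefix by a proved coset equality (`dir = true`: left to right) -/
  | pre (k : ℕ) (dir : Bool)
  /-- remove `k` leading letters among `x, y, z` -/
  | strip (k : ℕ)
  /-- add leading letters among `x, y, z` -/
  | add (w : List ℕ)

/-- replace `L` at `pos` by `R` -/
def repl (cur : List ℕ) (pos : ℕ) (L R : List ℕ) : Option (List ℕ) :=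
  bif leq ((cur.drop pos).take L.length) L then some (cur.take pos ++ (R ++ cur.drop (pos + L.length)))
  else none

theorem repl_spec {cur : List ℕ} {pos : ℕ} {L R cur' : List ℕ} (h : repl cur pos L R = some cur') :
    cur = cur.take pos ++ (L ++ cur.drop (pos + L.length)) ∧
      cur' = cur.take pos ++ (R ++ cur.drop (pos + L.length)) := by
  unfold repl at h
  cases hb : leq ((cur.drop pos).take L.length) L with
  | false => rw [hb, cond_false] at h; cases h
  | true =>
    rw [hb, cond_true] at h
    have e := leq_spec hb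
    refine ⟨?_, (Option.some.inj h).symm⟩
    conv_lhs => rw [← List.take_append_drop pos cur]
    congr 1
    conv_lhs => rw [← List.take_append_drop L.length (cur.drop pos)]
    rw [e, List.drop_drop]

/-- exponent of a word in `t` (letters `5`, `6`) -/
def texp : List ℕ → ℕ
  | [] => 0
  | c :: w => (bif Nat.beq c 5 then 1 else 4) + texp w

/-- all letters are `5` or `6` -/
def isT (w : List ℕ) : Bool := w.all (fun c => Nat.beq c 5 || Nat.beq c 6)

/-- the exponent `j` with `x⁻ʲ t xʲ = tᵉ` -/
def jOf (e : ℕ) : ℕ :=
  match e with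
  | 1 => 0 | 3 => 1 | 4 => 2 | 2 => 3 | _ => 0

/-- the word fixes the base points -/
def fixesAll (px : ℕ → ℕ → ℕ) (bp : List ℕ) (w : List ℕ) : Bool :=
  bp.all (fun b => Nat.beq (wapp px w b) b)

/-- the check of an `e3` step -/
def chkE3 (px : ℕ → ℕ → ℕ) (bp : List ℕ) (u T u' v T' v' : List ℕ) : Bool :=
  allLt 5 u && allLt 5 u' && allLt 5 v && allLt 5 v' && isT T && isT T' &&
  (bif Nat.beq (texp T % 5) 0 then
    Nat.beq (texp T' % 5) 0 && fixesAll px bp (u ++ (u' ++ iw (v ++ v')))
  else
    (!(Nat.beq (texp T' % 5) 0)) &&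
    Nat.beq (wapp px (List.replicate (jOf (texp T' % 5)) 0 ++ ((iw v ++ u) ++
      List.replicate (jOf (texp T % 5)) 1)) 0) 0 &&
    fixesAll px bp ((iw v ++ u) ++ (u' ++ iw v')))

/-- one step: the new word, if the step is correct -/
def step (px : ℕ → ℕ → ℕ) (bp : List ℕ) (facts : List (List ℕ × List ℕ)) (cur : List ℕ) :
    Step → Option (List ℕ)
  | .e2 pos L R =>
    bif allLt 5 L && allLt 5 R && fixesAll px bp (L ++ iw R) then repl cur pos L R else none
  | .e3 pos u T u' v T' v' =>
    bif chkE3 px bp u T u' v T' v' then repl cur pos (u ++ (T ++ u')) (v ++ (T' ++ v')) else none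
  | .fr pos w ins =>
    bif allLt 7 w then (bif ins then repl cur pos [] (w ++ iw w) else repl cur pos (w ++ iw w) [])
    else none
  | .rel pos ins =>
    bif ins then repl cur pos [] [4, 5, 4, 5, 4, 5] else repl cur pos [4, 5, 4, 5, 4, 5] []
  | .pre k dir =>
    let f := facts.getD k ([], [])
    bif Nat.blt k facts.length then
      (bif dir then repl cur 0 f.1 f.2 else repl cur 0 f.2 f.1)
    else none
  | .strip k => bif allLt 5 (cur.take k) then some (cur.drop k) else none
  | .add w => bif allLt 5 w then some (w ++ cur) else none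

/-- run a chain -/
def runChain (px : ℕ → ℕ → ℕ) (bp : List ℕ) (facts : List (List ℕ × List ℕ)) :
    List ℕ → List Step → Option (List ℕ)
  | cur, [] => some cur
  | cur, s :: ss =>
    match step px bp facts cur s with
    | none => none
    | some cur' => runChain px bp facts cur' ss

/-- the result of a chain is the given word -/
def chainOK (px : ℕ → ℕ → ℕ) (bp : List ℕ) (facts : List (List ℕ × List ℕ))
    (f : List ℕ × List ℕ × List Step) : Bool :=
  allLt 7 f.1 && allLt 7 f.2.1 &&
  match runChain px bp facts f.1 f.2.2 with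
  | none => false
  | some r => leq r f.2.1

/-- check a list of facts with their chains, each using the facts before it -/
def checkAll (px : ℕ → ℕ → ℕ) (bp : List ℕ) :
    List (List ℕ × List ℕ) → List (List ℕ × List ℕ × List Step) → Bool
  | _, [] => true
  | prev, f :: rest => chainOK px bp prev f && checkAll px bp (prev ++ [(f.1, f.2.1)]) rest

end Cfsg.Agent.Lib.Helper2.HNDce
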