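import Cfsg.Agent.Lib.Helper2.HNDce4

set_option autoImplicit false

namespace Cfsg.Agent.Lib.Helper2.HNDce

open Cfsg.Agent.Lib.Helper6.TC

/-! # Soundness of the chain checker -/

variable {G : Type*} [Group G]

/-- the context of the checker: words over seven letters in `G`, the subgroup `H` containing the
words in the first five letters, the tables of the action of these on a set, an oracle for the
equality of such words, and the relations of the last letters `t`, `t⁻¹` -/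
structure Ctx (G : Type*) [Group G] where
  /-- the subgroup -/
  H : Subgroup G
  /-- the semantics of words -/
  W : WSem G 7
  /-- the tables -/
  px : ℕ → ℕ → ℕ
  /-- the base points -/
  bp : List ℕ
  evH : ∀ w, (∀ c ∈ w, c < 5) → W.ev w ∈ H
  oracle : ∀ w, (∀ c ∈ w, c < 5) → (∀ b ∈ bp, wapp px w b = b) → W.ev w = 1
  comm : ∀ w, (∀ c ∈ w, c < 5) → wapp px w 0 = 0 → W.ev w * W.ev [5] = W.ev [5] * W.ev w
  t5 : W.ev [5] ^ 5 = 1
  t6 : W.ev [6] = (W.ev [5])⁻¹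
  xt : (W.ev [0])⁻¹ * W.ev [5] * W.ev [0] = ((W.ev [5])⁻¹) ^ 2
  x1 : W.ev [1] = (W.ev [0])⁻¹
  rel : W.ev [4, 5, 4, 5, 4, 5] = 1

variable (C : Ctx G)

theorem fixesAll_spec {px : ℕ → ℕ → ℕ} {bp w : List ℕ} (h : fixesAll px bp w = true) :
    ∀ b ∈ bp, wapp px w b = b := by
  intro b hb
  unfold fixesAll at h
  rw [List.all_eq_true] at h
  exact Nat.eq_of_beq_eq_true (h b hb)

theorem mem_append_lt {k : ℕ} {u v : List ℕ} (hu : ∀ c ∈ u, c < k) (hv : ∀ c ∈ v, c < k) :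
    ∀ c ∈ u ++ v, c < k := by
  intro c hc
  rcases List.mem_append.mp hc with h | h
  · exact hu c h
  · exact hv c h

theorem lt7_of_lt5 {w : List ℕ} (h : ∀ c ∈ w, c < 5) : ∀ c ∈ w, c < 7 :=
  fun c hc => lt_trans (h c hc) (by decide)

/-- two words in `x, y, z` whose quotient fixes the base points are equal -/
theorem ev_eq_of_fixes {L R : List ℕ} (hL : ∀ c ∈ L, c < 5) (hR : ∀ c ∈ R, c < 5)
    (h : ∀ b ∈ C.bp, wapp C.px (L ++ iw R) b = b) : C.W.ev L = C.W.ev R := by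
  have h1 := C.oracle (L ++ iw R) (mem_append_lt hL (iw_lt5 hR)) h
  rw [C.W.ev_append, C.W.ev_iw R (lt7_of_lt5 hR)] at h1
  exact mul_inv_eq_one.mp h1

theorem ev_cons (c : ℕ) (w : List ℕ) : C.W.ev (c :: w) = C.W.ev [c] * C.W.ev w := by
  rw [← C.W.ev_append]; rfl

theorem ev_replicate (c : ℕ) (n : ℕ) : C.W.ev (List.replicate n c) = C.W.ev [c] ^ n := by
  induction n with
  | zero => simp [C.W.ev_nil]
  | succ k ih => rw [List.replicate_succ, ev_cons, ih, pow_succ']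

/-- the element of a word in `t` -/
theorem ev_isT {T : List ℕ} (h : isT T = true) : C.W.ev T = C.W.ev [5] ^ texp T := by
  induction T with
  | nil => simp [texp, C.W.ev_nil]
  | cons c T ih =>
    unfold isT at h
    rw [List.all_cons, Bool.and_eq_true] at h
    have ih' := ih h.2
    rw [ev_cons, ih']
    rcases Bool.or_eq_true _ _ |>.mp h.1 with h5 | h6
    · have : c = 5 := Nat.eq_of_beq_eq_true h5
      subst this
      show _ = C.W.ev [5] ^ (1 + texp T)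
      rw [pow_add, pow_one]
    · have : c = 6 := Nat.eq_of_beq_eq_true h6
      subst this
      show _ = C.W.ev [5] ^ (4 + texp T)
      rw [pow_add, C.t6]
      congr 1
      rw [inv_eq_iff_mul_eq_one, ← pow_succ', C.t5]

theorem pow_mod5 (n : ℕ) : C.W.ev [5] ^ n = C.W.ev [5] ^ (n % 5) := by
  conv_lhs => rw [← Nat.div_add_mod n 5]
  rw [pow_add, pow_mul, C.t5, one_pow, one_mul]

/-- `x⁻ʲ t xʲ = tᵉ` for `j = jOf e` -/
theorem conj_x_pow : ∀ e, 0 < e → e < 5 →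
    (C.W.ev [0] ^ jOf e)⁻¹ * C.W.ev [5] * C.W.ev [0] ^ jOf e = C.W.ev [5] ^ e := by
  have ht5 := C.t5
  have hxt := C.xt
  set t := C.W.ev [5] with ht
  set x := C.W.ev [0] with hx
  -- one conjugation: x⁻¹ t^k x = (t⁻¹)^(2k)
  have hc : ∀ k : ℕ, x⁻¹ * t ^ k * x = (t⁻¹) ^ (2 * k) := by
    intro k
    induction k with
    | zero => simp
    | succ k ih =>
      have : x⁻¹ * t ^ (k + 1) * x = (x⁻¹ * t ^ k * x) * (x⁻¹ * t * x) := by
        rw [pow_succ]; group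
      rw [this, ih, hxt, ← pow_add]
      congr 1
  have hinv : t⁻¹ = t ^ 4 := by
    rw [inv_eq_iff_mul_eq_one, ← pow_succ', ht5]
  have hmod : ∀ n : ℕ, t ^ n = t ^ (n % 5) := by
    intro n
    conv_lhs => rw [← Nat.div_add_mod n 5]
    rw [pow_add, pow_mul, ht5, one_pow, one_mul]
  intro e he0 he5
  interval_cases e
  · -- e = 1, j = 0
    show (x ^ 0)⁻¹ * t * x ^ 0 = t ^ 1
    simp
  · -- e = 2, j = 3
    show (x ^ 3)⁻¹ * t * x ^ 3 = t ^ 2
    have e1 : (x ^ 3)⁻¹ * t * x ^ 3 = x⁻¹ * (x⁻¹ * (x⁻¹ * t ^ 1 * x) * x) * x := by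
      simp only [pow_succ, pow_zero, one_mul, mul_inv_rev, mul_assoc]
    rw [e1, hc 1, hinv, ← pow_mul, hc, hinv, ← pow_mul, hc, hinv, ← pow_mul, hmod]
  · -- e = 3, j = 1
    show (x ^ 1)⁻¹ * t * x ^ 1 = t ^ 3
    have e1 : (x ^ 1)⁻¹ * t * x ^ 1 = x⁻¹ * t ^ 1 * x := by rw [pow_one, pow_one]
    rw [e1, hc 1, hinv, ← pow_mul, hmod]
  · -- e = 4, j = 2
    show (x ^ 2)⁻¹ * t * x ^ 2 = t ^ 4
    have e1 : (x ^ 2)⁻¹ * t * x ^ 2 = x⁻¹ * (x⁻¹ * t ^ 1 * x) * x := by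
      simp only [pow_succ, pow_zero, one_mul, mul_inv_rev, mul_assoc]
    rw [e1, hc 1, hinv, ← pow_mul, hc, hinv, ← pow_mul, hmod]

end Cfsg.Agent.Lib.Helper2.HNDce
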