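import Cfsg.Agent.Lib.Helper2.HNDce5

set_option autoImplicit false

namespace Cfsg.Agent.Lib.Helper2.HNDce

open Cfsg.Agent.Lib.Helper6.TC

/-! # Soundness of the chain checker: the steps -/

variable {G : Type*} [Group G] (C : Ctx G)

theorem repl_sound {cur : List ℕ} {pos : ℕ} {L R cur' : List ℕ}
    (h : repl cur pos L R = some cur') (hLR : C.W.ev L = C.W.ev R) :
    C.W.ev cur = C.W.ev cur' := by
  obtain ⟨h1, h2⟩ := repl_spec h
  rw [h1, h2, C.W.ev_append, C.W.ev_append, C.W.ev_append, C.W.ev_append, hLR]

/-- soundness of the `e3` check -/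
theorem chkE3_sound {u T u' v T' v' : List ℕ} (h : chkE3 C.px C.bp u T u' v T' v' = true) :
    C.W.ev (u ++ (T ++ u')) = C.W.ev (v ++ (T' ++ v')) := by
  unfold chkE3 at h
  simp only [Bool.and_eq_true] at h
  obtain ⟨⟨⟨⟨⟨⟨hu, hu'⟩, hv⟩, hv'⟩, hT⟩, hT'⟩, hrest⟩ := h
  have hu := allLt_spec hu
  have hu' := allLt_spec hu'
  have hv := allLt_spec hv
  have hv' := allLt_spec hv'
  rw [C.W.ev_append, C.W.ev_append, C.W.ev_append, C.W.ev_append, ev_isT C hT, ev_isT C hT',
    pow_mod5 C (texp T), pow_mod5 C (texp T')]
  cases h0 : Nat.beq (texp T % 5) 0 with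
  | true =>
    rw [h0, cond_true, Bool.and_eq_true] at hrest
    have e0 : texp T % 5 = 0 := Nat.eq_of_beq_eq_true h0
    have e0' : texp T' % 5 = 0 := Nat.eq_of_beq_eq_true hrest.1
    rw [e0, e0', pow_zero, one_mul, one_mul]
    have h1 := ev_eq_of_fixes C (L := u ++ u') (R := v ++ v') (mem_append_lt hu hu')
      (mem_append_lt hv hv') (by
        have := fixesAll_spec hrest.2
        rwa [← List.append_assoc] at this)
    rwa [C.W.ev_append, C.W.ev_append] at h1
  | false =>
    rw [h0, cond_false, Bool.and_eq_true, Bool.and_eq_true] at hrest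
    obtain ⟨⟨hne', hfix0⟩, hfix⟩ := hrest
    have he : texp T % 5 ≠ 0 := by
      intro e; rw [e] at h0; simp at h0
    have he' : texp T' % 5 ≠ 0 := by
      intro e; rw [e] at hne'; simp at hne'
    set e := texp T % 5 with hedef
    set e' := texp T' % 5 with hedef'
    have he5 : e < 5 := Nat.mod_lt _ (by decide)
    have he5' : e' < 5 := Nat.mod_lt _ (by decide)
    set t := C.W.ev [5] with ht
    set x := C.W.ev [0] with hx
    -- the word n = v⁻¹ u
    have hn5 : ∀ c ∈ iw v ++ u, c < 5 := mem_append_lt (iw_lt5 hv) hu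
    have hnev : C.W.ev (iw v ++ u) = (C.W.ev v)⁻¹ * C.W.ev u := by
      rw [C.W.ev_append, C.W.ev_iw v (lt7_of_lt5 hv)]
    -- c = x^j' n x^-j commutes with t
    have hrep0 : ∀ k, ∀ c ∈ List.replicate k 0, c < 5 := by
      intro k c hc; rw [List.eq_of_mem_replicate hc]; decide
    have hrep1 : ∀ k, ∀ c ∈ List.replicate k 1, c < 5 := by
      intro k c hc; rw [List.eq_of_mem_replicate hc]; decide
    have hcw := C.comm (List.replicate (jOf e') 0 ++ ((iw v ++ u) ++ List.replicate (jOf e) 1))
      (mem_append_lt (hrep0 _) (mem_append_lt hn5 (hrep1 _))) (Nat.eq_of_beq_eq_true hfix0)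
    rw [C.W.ev_append, C.W.ev_append, ev_replicate, ev_replicate, C.x1, ← ht, ← hx] at hcw
    set n := C.W.ev (iw v ++ u) with hn
    -- conjugation identities
    have hj := conj_x_pow C e (Nat.pos_of_ne_zero he) he5
    have hj' := conj_x_pow C e' (Nat.pos_of_ne_zero he') he5'
    rw [← ht, ← hx] at hj hj'
    -- n t^e = t^e' n
    have key : n * t ^ e = t ^ e' * n := by
      have h1 : t ^ e = (x ^ jOf e)⁻¹ * t * x ^ jOf e := hj.symm
      have h2 : t ^ e' = (x ^ jOf e')⁻¹ * t * x ^ jOf e' := hj'.symm
      rw [h1, h2]
      -- hcw : x^j' * (n * (x⁻¹)^j) * t = t * (x^j' * (n * (x⁻¹)^j))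
      have h3 : n = (x ^ jOf e')⁻¹ * (x ^ jOf e' * (n * x⁻¹ ^ jOf e)) * x ^ jOf e := by
        rw [inv_pow]; group
      calc n * ((x ^ jOf e)⁻¹ * t * x ^ jOf e)
          = (x ^ jOf e')⁻¹ * ((x ^ jOf e' * (n * x⁻¹ ^ jOf e)) * t) * x ^ jOf e := by
            rw [inv_pow]; group
        _ = (x ^ jOf e')⁻¹ * (t * (x ^ jOf e' * (n * x⁻¹ ^ jOf e))) * x ^ jOf e := by rw [hcw]
        _ = (x ^ jOf e')⁻¹ * t * x ^ jOf e' * n := by
            rw [inv_pow]; group
    -- the second condition: n u' = v'
    have h2 := ev_eq_of_fixes C (L := (iw v ++ u) ++ u') (R := v') (mem_append_lt hn5 hu') hv'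
      (by
        have := fixesAll_spec hfix
        rwa [← List.append_assoc] at this)
    rw [C.W.ev_append, ← hn] at h2
    -- conclusion
    have hu_eq : C.W.ev u = C.W.ev v * n := by
      rw [hnev]; group
    calc C.W.ev u * (t ^ e * C.W.ev u') = C.W.ev v * (n * t ^ e) * C.W.ev u' := by
          rw [hu_eq]; group
      _ = C.W.ev v * (t ^ e' * n) * C.W.ev u' := by rw [key]
      _ = C.W.ev v * (t ^ e' * (n * C.W.ev u')) := by group
      _ = C.W.ev v * (t ^ e' * C.W.ev v') := by rw [h2]

/-- a fact: the cosets of two words are equal -/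
def Valid (f : List ℕ × List ℕ) : Prop := CosetEq C.H (C.W.ev f.1) (C.W.ev f.2)

theorem step_sound (facts : List (List ℕ × List ℕ)) (hf : ∀ f ∈ facts, Valid C f)
    (cur : List ℕ) (s : Step) (cur' : List ℕ)
    (h : step C.px C.bp facts cur s = some cur') :
    CosetEq C.H (C.W.ev cur) (C.W.ev cur') := by
  cases s with
  | e2 pos L R =>
    simp only [step] at h
    cases hb : (allLt 5 L && allLt 5 R && fixesAll C.px C.bp (L ++ iw R)) with
    | false => rw [hb, cond_false] at h; cases h
    | true =>
      rw [hb, cond_true] at h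
      simp only [Bool.and_eq_true] at hb
      exact CosetEq.of_eq (repl_sound C h (ev_eq_of_fixes C (allLt_spec hb.1.1) (allLt_spec hb.1.2)
        (fixesAll_spec hb.2)))
  | e3 pos u T u' v T' v' =>
    simp only [step] at h
    cases hb : chkE3 C.px C.bp u T u' v T' v' with
    | false => rw [hb, cond_false] at h; cases h
    | true =>
      rw [hb, cond_true] at h
      exact CosetEq.of_eq (repl_sound C h (chkE3_sound C hb))
  | fr pos w ins =>
    simp only [step] at h
    cases hb : allLt 7 w with
    | false => rw [hb, cond_false] at h; cases h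
    | true =>
      rw [hb, cond_true] at h
      have hw := allLt_spec hb
      have e1 : C.W.ev (w ++ iw w) = C.W.ev [] := by
        rw [C.W.ev_append, C.W.ev_iw w hw, mul_inv_cancel, C.W.ev_nil]
      cases ins with
      | true => rw [cond_true] at h; exact CosetEq.of_eq (repl_sound C h e1.symm)
      | false => rw [cond_false] at h; exact CosetEq.of_eq (repl_sound C h e1)
  | rel pos ins =>
    simp only [step] at h
    have e1 : C.W.ev [4, 5, 4, 5, 4, 5] = C.W.ev [] := by rw [C.rel, C.W.ev_nil]
    cases ins with
    | true => rw [cond_true] at h; exact CosetEq.of_eq (repl_sound C h e1.symm)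
    | false => rw [cond_false] at h; exact CosetEq.of_eq (repl_sound C h e1)
  | pre k dir =>
    simp only [step] at h
    cases hb : Nat.blt k facts.length with
    | false => rw [hb, cond_false] at h; cases h
    | true =>
      rw [hb, cond_true] at h
      have hk : k < facts.length := by rwa [Nat.blt_eq] at hb
      have hmem : facts.getD k ([], []) ∈ facts := by
        rw [List.getD_eq_getElem _ _ hk]; exact List.getElem_mem hk
      have hv := hf _ hmem
      cases dir with
      | true =>
        rw [cond_true] at h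
        obtain ⟨h1, h2⟩ := repl_spec h
        rw [List.take_zero, List.nil_append, Nat.zero_add] at h1 h2
        rw [h1, h2, C.W.ev_append, C.W.ev_append]
        exact hv.mul_right _
      | false =>
        rw [cond_false] at h
        obtain ⟨h1, h2⟩ := repl_spec h
        rw [List.take_zero, List.nil_append, Nat.zero_add] at h1 h2
        rw [h1, h2, C.W.ev_append, C.W.ev_append]
        exact hv.symm.mul_right _
  | strip k =>
    simp only [step] at h
    cases hb : allLt 5 (cur.take k) with
    | false => rw [hb, cond_false] at h; cases h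
    | true =>
      rw [hb, cond_true] at h
      have e := Option.some.inj h
      rw [← e]
      conv_lhs => rw [← List.take_append_drop k cur]
      rw [C.W.ev_append]
      exact CosetEq.of_mem (C.evH _ (allLt_spec hb)) _
  | add w =>
    simp only [step] at h
    cases hb : allLt 5 w with
    | false => rw [hb, cond_false] at h; cases h
    | true =>
      rw [hb, cond_true] at h
      have e := Option.some.inj h
      rw [← e, C.W.ev_append]
      exact (CosetEq.of_mem (C.evH _ (allLt_spec hb)) _).symm

theorem runChain_sound (facts : List (List ℕ × List ℕ)) (hf : ∀ f ∈ facts, Valid C f) :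
    ∀ (ss : List Step) (cur r : List ℕ), runChain C.px C.bp facts cur ss = some r →
      CosetEq C.H (C.W.ev cur) (C.W.ev r) := by
  intro ss
  induction ss with
  | nil =>
    intro cur r h
    simp only [runChain] at h
    rw [← Option.some.inj h]
    exact CosetEq.refl _ _
  | cons s ss ih =>
    intro cur r h
    simp only [runChain] at h
    cases hs : step C.px C.bp facts cur s with
    | none => rw [hs] at h; cases h
    | some cur' =>
      rw [hs] at h
      exact (step_sound C facts hf cur s cur' hs).trans (ih cur' r h)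

theorem chainOK_sound (facts : List (List ℕ × List ℕ)) (hf : ∀ f ∈ facts, Valid C f)
    (f : List ℕ × List ℕ × List Step) (h : chainOK C.px C.bp facts f = true) :
    Valid C (f.1, f.2.1) := by
  unfold chainOK at h
  rw [Bool.and_eq_true] at h
  cases hr : runChain C.px C.bp facts f.1 f.2.2 with
  | none => rw [hr] at h; simp at h
  | some r =>
    rw [hr] at h
    have e := leq_spec h.2
    have := runChain_sound C facts hf f.2.2 f.1 r hr
    rw [e] at this
    exact this

theorem checkAll_sound : ∀ (cert : List (List ℕ × List ℕ × List Step))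
    (prev : List (List ℕ × List ℕ)), (∀ f ∈ prev, Valid C f) →
    checkAll C.px C.bp prev cert = true → ∀ f ∈ cert, Valid C (f.1, f.2.1) := by
  intro cert
  induction cert with
  | nil => intro _ _ _ f hf; cases hf
  | cons f rest ih =>
    intro prev hprev h g hg
    simp only [checkAll, Bool.and_eq_true] at h
    have hv := chainOK_sound C prev hprev f h.1
    rcases List.mem_cons.mp hg with rfl | hg'
    · exact hv
    · refine ih (prev ++ [(f.1, f.2.1)]) ?_ h.2 g hg'
      intro f' hf'
      rcases List.mem_append.mp hf' with h1 | h1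
      · exact hprev f' h1
      · rw [List.mem_singleton] at h1
        rw [h1]; exact hv

end Cfsg.Agent.Lib.Helper2.HNDce
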