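import Cfsg.Agent.Lib.Helper2.HNDce6

set_option autoImplicit false

namespace Cfsg.Agent.Lib.Helper2.HNDce

open Cfsg.Agent.Lib.Helper6.TC

/-! # From the checked coset equalities to the hypotheses of the index bound -/

variable {G : Type*} [Group G] (C : Ctx G)

/-- the checked coset equalities remain valid after one more part of the certificate -/
theorem valid_next (prev : List (List ℕ × List ℕ)) (cert : List (List ℕ × List ℕ × List Step))
    (hp : ∀ f ∈ prev, Valid C f) (h : checkAll C.px C.bp prev cert = true) :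
    ∀ f ∈ prev ++ cert.map (fun f => (f.1, f.2.1)), Valid C f := by
  intro f hf
  rcases List.mem_append.mp hf with h1 | h1
  · exact hp f h1
  · obtain ⟨g, hg, rfl⟩ := List.mem_map.mp h1
    exact checkAll_sound C cert prev hp h g hg

/-- the coset equality number `f` is `(l, r)` -/
def isFact (facts : List (List ℕ × List ℕ)) (f : ℕ) (l r : List ℕ) : Bool :=
  Nat.blt f facts.length && leq (facts.getD f ([], [])).1 l && leq (facts.getD f ([], [])).2 r

theorem isFact_spec {facts : List (List ℕ × List ℕ)} (hf : ∀ f ∈ facts, Valid C f)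
    {f : ℕ} {l r : List ℕ} (h : isFact facts f l r = true) : Valid C (l, r) := by
  unfold isFact at h
  simp only [Bool.and_eq_true, Nat.blt_eq] at h
  obtain ⟨⟨h1, h2⟩, h3⟩ := h
  rw [List.getD_eq_getElem _ _ h1] at h2 h3
  have hv := hf _ (List.getElem_mem h1)
  have e : facts[f] = (l, r) := Prod.ext (leq_spec h2) (leq_spec h3)
  rwa [e] at hv

/-- the coset equalities of the generators of the subgroup of a row -/
def chkGens (facts : List (List ℕ × List ℕ)) (w : List ℕ) : List (List ℕ) → List ℕ → Bool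
  | [], [] => true
  | u :: us, f :: fs => allLt 5 u && isFact facts f (w ++ u) w && chkGens facts w us fs
  | _, _ => false

theorem chkGens_spec {facts : List (List ℕ × List ℕ)} (hf : ∀ f ∈ facts, Valid C f) (w : List ℕ) :
    ∀ (mg : List (List ℕ)) (mf : List ℕ), chkGens facts w mg mf = true →
      ∀ u ∈ mg, (∀ c ∈ u, c < 5) ∧ Valid C (w ++ u, w)
  | [], [], _ => by intro u hu; cases hu
  | u :: us, f :: fs, h => by
    simp only [chkGens, Bool.and_eq_true] at h
    intro u' hu'
    rcases List.mem_cons.mp hu' with rfl | hu''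
    · exact ⟨allLt_spec h.1.1, isFact_spec C hf h.1.2⟩
    · exact chkGens_spec hf w us fs h.2 u' hu''
  | [], _ :: _, h => by simp [chkGens] at h
  | _ :: _, [], h => by simp [chkGens] at h

/-- the check of an entry `(h, j, g₀, f)` of the row of `w` -/
def chkEnt (facts : List (List ℕ × List ℕ)) (rows : List (List ℕ)) (w : List ℕ)
    (e : List ℕ × ℕ × List ℕ × ℕ) : Bool :=
  allLt 5 e.1 && allLt 5 e.2.2.1 && Nat.blt e.2.1 rows.length &&
    isFact facts e.2.2.2 (w ++ (iw e.1 ++ (5 :: e.1))) (rows.getD e.2.1 [] ++ e.2.2.1)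

theorem chkEnt_spec {facts : List (List ℕ × List ℕ)} (hf : ∀ f ∈ facts, Valid C f)
    {rows : List (List ℕ)} {w : List ℕ} {e : List ℕ × ℕ × List ℕ × ℕ}
    (h : chkEnt facts rows w e = true) :
    (∀ c ∈ e.1, c < 5) ∧ (∀ c ∈ e.2.2.1, c < 5) ∧ e.2.1 < rows.length ∧
      CosetEq C.H (C.W.ev w * ((C.W.ev e.1)⁻¹ * C.W.ev [5] * C.W.ev e.1))
        (C.W.ev (rows.getD e.2.1 []) * C.W.ev e.2.2.1) := by
  unfold chkEnt at h
  simp only [Bool.and_eq_true, Nat.blt_eq] at h
  obtain ⟨⟨⟨h1, h2⟩, h3⟩, h4⟩ := h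
  have h1' := allLt_spec h1
  refine ⟨h1', allLt_spec h2, h3, ?_⟩
  have hv := isFact_spec C hf h4
  unfold Valid at hv
  simp only at hv
  rw [C.W.ev_append, C.W.ev_append, C.W.ev_append, ev_cons C 5 e.1,
    C.W.ev_iw e.1 (lt7_of_lt5 h1')] at hv
  rw [mul_assoc ((C.W.ev e.1)⁻¹)]
  exact hv

/-- the check of the covering of the points by the entries of a row -/
def chkCovAux (px : ℕ → ℕ → ℕ) (mg : List (List ℕ)) (ents : List (List ℕ × ℕ × List ℕ × ℕ)) :
    ℕ → List (ℕ × List ℕ) → Bool
  | _, [] => true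
  | q, c :: rest =>
    Nat.blt c.1 ents.length &&
      Nat.beq (wapp px ((ents.getD c.1 ([], 0, [], 0)).1 ++ expand mg c.2) 0) q &&
      chkCovAux px mg ents (q + 1) rest

theorem chkCovAux_spec {px : ℕ → ℕ → ℕ} {mg : List (List ℕ)}
    {ents : List (List ℕ × ℕ × List ℕ × ℕ)} :
    ∀ (cov : List (ℕ × List ℕ)) (q0 : ℕ), chkCovAux px mg ents q0 cov = true →
      ∀ k (hk : k < cov.length), (cov[k]).1 < ents.length ∧
        wapp px ((ents.getD (cov[k]).1 ([], 0, [], 0)).1 ++ expand mg (cov[k]).2) 0 = q0 + k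
  | [], _, _ => by intro k hk; simp at hk
  | c :: rest, q0, h => by
    simp only [chkCovAux, Bool.and_eq_true, Nat.blt_eq, Nat.beq_eq] at h
    intro k hk
    cases k with
    | zero => exact ⟨h.1.1, h.1.2⟩
    | succ k =>
      have hk' : k < rest.length := by simpa using hk
      have := chkCovAux_spec rest (q0 + 1) h.2 k hk'
      simp only [List.getElem_cons_succ]
      refine ⟨this.1, ?_⟩
      rw [this.2]; omega

/-- the check of the covering: all the points below `N` -/
def chkCov (px : ℕ → ℕ → ℕ) (N : ℕ) (mg : List (List ℕ)) (ents : List (List ℕ × ℕ × List ℕ × ℕ))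
    (cov : List (ℕ × List ℕ)) : Bool :=
  Nat.beq cov.length N && chkCovAux px mg ents 0 cov

theorem chkCov_spec {px : ℕ → ℕ → ℕ} {N : ℕ} {mg : List (List ℕ)}
    {ents : List (List ℕ × ℕ × List ℕ × ℕ)} {cov : List (ℕ × List ℕ)}
    (h : chkCov px N mg ents cov = true) :
    ∀ q < N, ∃ e ∈ ents, ∃ path : List ℕ, wapp px (e.1 ++ expand mg path) 0 = q := by
  unfold chkCov at h
  simp only [Bool.and_eq_true, Nat.beq_eq] at h
  intro q hq
  have hq' : q < cov.length := by rw [h.1]; exact hq
  obtain ⟨h1, h2⟩ := chkCovAux_spec cov 0 h.2 q hq'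
  rw [List.getD_eq_getElem _ _ h1, Nat.zero_add] at h2
  exact ⟨_, List.getElem_mem h1, _, h2⟩

section sub
variable {P : Type*} [Group P] {nc : ℕ}

/-- a subgroup generated by words all of whose generators fix a coset fixes it -/
theorem cosetEq_of_mem_genSub (H : Subgroup G) (ι : P →* G) (W : WSem P nc) (mg : List (List ℕ))
    (g : G) (hgen : ∀ u ∈ mg, CosetEq H (g * ι (W.ev u)) g) :
    ∀ m ∈ genSub W mg, CosetEq H (g * ι m) g := by
  let A : Subgroup P :=
    { carrier := {p | g * ι p * g⁻¹ ∈ H}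
      mul_mem' := by
        intro a b ha hb
        have e : g * ι (a * b) * g⁻¹ = (g * ι a * g⁻¹) * (g * ι b * g⁻¹) := by
          rw [map_mul]; group
        show g * ι (a * b) * g⁻¹ ∈ H
        rw [e]; exact H.mul_mem ha hb
      one_mem' := by
        show g * ι 1 * g⁻¹ ∈ H
        rw [map_one, mul_one, mul_inv_cancel]; exact H.one_mem
      inv_mem' := by
        intro a ha
        have e : g * ι a⁻¹ * g⁻¹ = (g * ι a * g⁻¹)⁻¹ := by
          rw [map_inv]; group
        show g * ι a⁻¹ * g⁻¹ ∈ H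
        rw [e]; exact H.inv_mem ha }
  have hle : genSub W mg ≤ A := by
    unfold genSub
    rw [Subgroup.closure_le]
    rintro _ ⟨u, hu, rfl⟩
    exact hgen u hu
  intro m hm
  exact hle hm

end sub

end Cfsg.Agent.Lib.Helper2.HNDce
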