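import Cfsg.Agent.Lib.Helper2.HNDce2

set_option autoImplicit false

namespace Cfsg.Agent.Lib.Helper2.HNDce

/-! # Double coset enumeration: the orbits of the subgroup on its cosets -/

variable {G : Type*} [Group G] {P : Type*} [Group P]

/-- every element lies in one of the double cosets of the rows -/
theorem inRows_all (ι : P →* G) (H : Subgroup G) (t : G)
    (ht : t ^ 5 = 1)
    (hgen : Subgroup.closure (Set.range ι ∪ {t}) = ⊤)
    {k : ℕ} (ψ : P →* Equiv.Perm (Fin k)) (ω : Fin k)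
    (hC : ∀ c : P, ψ c ω = ω → ι c * t = t * ι c)
    {n : ℕ} (w : Fin n → G) (i0 : Fin n) (hw0 : w i0 = 1) (M : Fin n → Subgroup P)
    (hM : ∀ i, ∀ m ∈ M i, CosetEq H (w i * ι m) (w i))
    (E : Fin n → List (Entry n P))
    (hE : ∀ i, ∀ e ∈ E i, CosetEq H (w i * ((ι e.1)⁻¹ * t * ι e.1)) (w e.2.1 * ι e.2.2))
    (hcov : ∀ i, ∀ q : Fin k, ∃ e ∈ E i, ∃ m ∈ M i, q = (ψ (e.1 * m))⁻¹ ω) :
    ∀ g : G, ∃ i p, CosetEq H g (w i * ι p) := by
  have hstep : ∀ g, InRows ι H w g → InRows ι H w (g * t) :=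
    fun g hg => inRows_mul_t ι H t ψ ω hC w M hM E hE hcov hg
  have hall : ∀ g ∈ Subgroup.closure (Set.range ι ∪ {t}), InRows ι H w g := by
    intro g hg
    induction hg using Subgroup.closure_induction_right with
    | one =>
      refine ⟨i0, 1, ?_⟩
      rw [hw0, map_one, mul_one]; exact CosetEq.refl H 1
    | mul_right x hx y hy ih =>
      rcases hy with ⟨p', rfl⟩ | hy
      · exact inRows_mul_range ι H w ih p'
      · rw [Set.mem_singleton_iff] at hy; subst hy
        exact hstep _ ih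
    | mul_inv_cancel x hx y hy ih =>
      rcases hy with ⟨p', rfl⟩ | hy
      · rw [← map_inv]; exact inRows_mul_range ι H w ih p'⁻¹
      · rw [Set.mem_singleton_iff] at hy; subst hy
        have e : y⁻¹ = y ^ 4 := by
          rw [inv_eq_iff_mul_eq_one, ← pow_succ', ht]
        rw [e, pow_succ, pow_succ, pow_succ, pow_one, ← mul_assoc, ← mul_assoc, ← mul_assoc]
        exact hstep _ (hstep _ (hstep _ (hstep _ ih)))
  intro g
  exact hall g (by rw [hgen]; exact Subgroup.mem_top g)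

/-- when the bound of the index by the rows is attained, the orbits of the subgroup on its cosets
are given by the rows, with the sizes given by the bounds -/
theorem orbits_of_rows [Finite P] (ι : P →* G)
    {n : ℕ} (w : Fin n → G) (M : Fin n → Subgroup P)
    (hM : ∀ i, ∀ m ∈ M i, CosetEq ι.range (w i * ι m) (w i))
    (hS : ∀ g : G, ∃ i p, CosetEq ι.range g (w i * ι p))
    (b : Fin n → ℕ) (hb : ∀ i, (M i).index ≤ b i) (hsum : ∑ i, b i ≤ ι.range.index) :
    (∀ i, (MulAction.orbit ι.range (((w i)⁻¹ : G) : G ⧸ ι.range)).ncard = b i) ∧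
      (∀ i j, i ≠ j → MulAction.orbit ι.range (((w i)⁻¹ : G) : G ⧸ ι.range) ≠
        MulAction.orbit ι.range (((w j)⁻¹ : G) : G ⧸ ι.range)) := by
  classical
  set H := ι.range with hH
  -- the map from the disjoint union of the `P ⧸ M i` onto `G ⧸ H`
  let F : (Σ i : Fin n, P ⧸ M i) → G ⧸ H := fun x =>
    Quotient.liftOn' x.2 (fun p => ((ι p * (w x.1)⁻¹ : G) : G ⧸ H)) (by
      intro a b hab
      have hab' : a⁻¹ * b ∈ M x.1 := QuotientGroup.leftRel_apply.mp hab
      apply QuotientGroup.eq.mpr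
      have h1 := hM x.1 _ hab'
      unfold CosetEq at h1
      have e : (ι a * (w x.1)⁻¹)⁻¹ * (ι b * (w x.1)⁻¹) = w x.1 * ι (a⁻¹ * b) * (w x.1)⁻¹ := by
        rw [map_mul, map_inv]; group
      rw [e]; exact h1)
  have hFmk : ∀ (i : Fin n) (p : P), F ⟨i, (p : P ⧸ M i)⟩ = ((ι p * (w i)⁻¹ : G) : G ⧸ H) :=
    fun i p => rfl
  have hF : Function.Surjective F := by
    intro y
    induction y using QuotientGroup.induction_on with
    | H g =>
      obtain ⟨i, p, hp⟩ := hS g⁻¹
      refine ⟨⟨i, ((p⁻¹ : P) : P ⧸ M i)⟩, ?_⟩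
      show ((ι p⁻¹ * (w i)⁻¹ : G) : G ⧸ H) = (g : G ⧸ H)
      apply QuotientGroup.eq.mpr
      unfold CosetEq at hp
      have e : (ι p⁻¹ * (w i)⁻¹)⁻¹ * g = (g⁻¹ * (w i * ι p)⁻¹)⁻¹ := by
        rw [map_inv]; group
      rw [e]; exact H.inv_mem hp
  have hfinS : Finite (Σ i : Fin n, P ⧸ M i) := inferInstance
  have hfinQ : Finite (G ⧸ H) := Finite.of_surjective F hF
  have hcard : Nat.card (G ⧸ H) ≤ Nat.card (Σ i : Fin n, P ⧸ M i) :=
    Nat.card_le_card_of_surjective F hF
  have hsumM : Nat.card (Σ i : Fin n, P ⧸ M i) = ∑ i, (M i).index := by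
    rw [Nat.card_sigma]
    rfl
  have hle1 : ∑ i, (M i).index ≤ ∑ i, b i := Finset.sum_le_sum (fun i _ => hb i)
  have hidx : H.index = Nat.card (G ⧸ H) := Subgroup.index_eq_card H
  -- all the inequalities are equalities
  have heq1 : ∑ i, (M i).index = ∑ i, b i := by
    apply le_antisymm hle1
    calc ∑ i, b i ≤ H.index := hsum
      _ = Nat.card (G ⧸ H) := hidx
      _ ≤ Nat.card (Σ i : Fin n, P ⧸ M i) := hcard
      _ = ∑ i, (M i).index := hsumM
  have hbi : ∀ i, (M i).index = b i := by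
    intro i
    exact (Finset.sum_eq_sum_iff_of_le (fun i _ => hb i)).mp heq1 i (Finset.mem_univ i)
  have hcardeq : Nat.card (Σ i : Fin n, P ⧸ M i) = Nat.card (G ⧸ H) := by
    apply le_antisymm _ hcard
    rw [hsumM, heq1, ← hidx]
    exact hsum
  have hFinj : Function.Injective F := by
    have hbij : Function.Bijective F :=
      (Nat.bijective_iff_surjective_and_card F).mpr ⟨hF, hcardeq⟩
    exact hbij.1
  -- the orbit of the coset of the row `i`
  have horb : ∀ i, MulAction.orbit H (((w i)⁻¹ : G) : G ⧸ H) =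
      F '' (Set.range (fun x : P ⧸ M i => (⟨i, x⟩ : Σ i : Fin n, P ⧸ M i))) := by
    intro i
    ext q
    constructor
    · rintro ⟨⟨h, hh⟩, rfl⟩
      obtain ⟨p, rfl⟩ := hh
      refine ⟨⟨i, (p : P ⧸ M i)⟩, ⟨(p : P ⧸ M i), rfl⟩, ?_⟩
      rw [hFmk]
      rfl
    · rintro ⟨_, ⟨x, rfl⟩, rfl⟩
      induction x using QuotientGroup.induction_on with
      | H p =>
        refine ⟨⟨ι p, ⟨p, rfl⟩⟩, ?_⟩
        rw [hFmk]
        rfl
  constructor
  · intro i
    rw [horb i, Set.ncard_image_of_injective _ hFinj,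
      Set.ncard_range_of_injective (fun a b h => by simpa using h), ← hbi i]
    rfl
  · intro i j hij heq
    have h1 : F ⟨i, ((1 : P) : P ⧸ M i)⟩ ∈ MulAction.orbit H (((w j)⁻¹ : G) : G ⧸ H) := by
      rw [← heq, horb i]
      exact ⟨_, ⟨_, rfl⟩, rfl⟩
    rw [horb j] at h1
    obtain ⟨_, ⟨x, rfl⟩, hx⟩ := h1
    have := hFinj hx
    exact hij (congrArg Sigma.fst this).symm

end Cfsg.Agent.Lib.Helper2.HNDce
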