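import Cfsg.Agent.Lib.Helper2.RigidOut4

set_option autoImplicit false

/-! # Outer automorphisms from a Sylow normalizer `(⟨p⟩ ⋊ ⟨h⟩) × ⟨z⟩`

The element `p` of prime order `q` generates a Sylow subgroup, `h` induces the full automorphism
group of `⟨p⟩`, the centralizer of `p` is `⟨p⟩ × ⟨z⟩` with `z` an involution commuting with `h`.
An automorphism is normalized by an inner automorphism to fix `p` and to map `h` to `h` or `h * z`.
-/

namespace Cfsg.Agent.Lib.Helper2.RigidOut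

open Cfsg.Agent.Lib.Helper1
open scoped Pointwise

variable {G : Type*} [Group G]

theorem commute_pow_pow_of_mul_eq {z h : G} (hzh : z * h = h * z) (a b : ℕ) :
    z ^ a * h ^ b = h ^ b * z ^ a :=
  ((Commute.pow_pow (show Commute z h from hzh) a b)).eq

/-- the conjugate of `p` by an element `p ^ i * h ^ j * z ^ δ` -/
theorem conj_shape {p h z : G} {r : ℕ} (hph : h⁻¹ * p * h = p ^ r) (hzp : z * p = p * z)
    (i j δ : ℕ) :
    (p ^ i * h ^ j * z ^ δ)⁻¹ * p * (p ^ i * h ^ j * z ^ δ) = p ^ (r ^ j) := by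
  have h1 : (p ^ i)⁻¹ * p * p ^ i = p := by
    rw [mul_assoc, (Commute.self_pow p i).eq, ← mul_assoc, inv_mul_cancel, one_mul]
  have h2 : (h ^ j)⁻¹ * p * h ^ j = p ^ (r ^ j) := by
    have := conj_rel_pow_pow hph j 1
    rwa [pow_one, mul_one] at this
  have h3 : (z ^ δ)⁻¹ * p ^ (r ^ j) * z ^ δ = p ^ (r ^ j) := by
    have hc : Commute z p := hzp
    have : z ^ δ * p ^ (r ^ j) = p ^ (r ^ j) * z ^ δ := (hc.pow_pow δ (r ^ j)).eq
    rw [mul_assoc, ← this, ← mul_assoc, inv_mul_cancel, one_mul]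
  calc (p ^ i * h ^ j * z ^ δ)⁻¹ * p * (p ^ i * h ^ j * z ^ δ)
      = (z ^ δ)⁻¹ * ((h ^ j)⁻¹ * ((p ^ i)⁻¹ * p * p ^ i) * h ^ j) * z ^ δ := by group
    _ = p ^ (r ^ j) := by rw [h1, h2, h3]

/-- the normalizer of the subgroup generated by `p`, from the centralizer `⟨p⟩ × ⟨z⟩` of `p`,
when `h` induces all the automorphisms of `⟨p⟩` -/
theorem normalizer_of_centralizer_z [Finite G] (q r : ℕ) (p h z : G) (hq1 : 1 < q)
    (hp : orderOf p = q) (hph : h⁻¹ * p * h = p ^ r)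
    (hE : ∀ k < q, 0 < k → ∃ j, r ^ j * k % q = 1 % q)
    (hzh : z * h = h * z)
    (hC : ∀ g : G, g⁻¹ * p * g = p → ∃ i δ : ℕ, g = p ^ i * z ^ δ) :
    ∀ n : G, (∃ k : ℕ, n⁻¹ * p * n = p ^ k) → ∃ i j δ : ℕ, n = p ^ i * h ^ j * z ^ δ := by
  have hp1 : p ≠ 1 := by
    intro h1
    rw [h1, orderOf_one] at hp
    omega
  rintro n ⟨k, hk⟩
  have hk' : n⁻¹ * p * n = p ^ (k % q) := by rw [hk, ← hp, pow_mod_orderOf]
  have hk0 : 0 < k % q := by
    rcases Nat.eq_zero_or_pos (k % q) with h0 | h0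
    · exfalso
      rw [h0, pow_zero] at hk'
      apply hp1
      have : p = n * (n⁻¹ * p * n) * n⁻¹ := by group
      rw [this, hk']
      group
    · exact h0
  obtain ⟨j, hj⟩ := hE (k % q) (Nat.mod_lt _ (by omega)) hk0
  have e1 : (n * h ^ j)⁻¹ * p * (n * h ^ j) = p := by
    have : (n * h ^ j)⁻¹ * p * (n * h ^ j) = (h ^ j)⁻¹ * (n⁻¹ * p * n) * h ^ j := by group
    rw [this, hk', conj_rel_pow_pow hph]
    conv_rhs => rw [← pow_one p]
    rw [pow_eq_pow_iff_modEq, hp]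
    exact hj
  obtain ⟨i, δ, hi⟩ := hC _ e1
  obtain ⟨j', hj'⟩ := exists_pow_eq_inv_pow h j
  refine ⟨i, j', δ, ?_⟩
  have e2 : n = p ^ i * z ^ δ * (h ^ j)⁻¹ := by
    rw [← hi]
    group
  rw [e2, hj', mul_assoc, commute_pow_pow_of_mul_eq hzh δ j', ← mul_assoc]

/-- the normalization of an automorphism on the two generators of the normalizer, up to the
central involution -/
theorem rigid_normalize_z [Finite G] (q r e m μ : ℕ) [hq : Fact q.Prime] (p h z : G)
    (hcard : Nat.card G = q * m) (hm : ¬ q ∣ m)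
    (hp : orderOf p = q) (hh : orderOf h = e) (he : 0 < e)
    (hph : h⁻¹ * p * h = p ^ r)
    (hr1 : r ^ e % q = 1 % q)
    (hord : ∀ j < e, r ^ j % q = r % q → j = 1)
    (hE : ∀ k < q, 0 < k → ∃ j, r ^ j * k % q = 1 % q)
    (hμ : r * (μ + 1) % q = μ % q)
    (hzp : z * p = p * z)
    (hN : ∀ n : G, (∃ k : ℕ, n⁻¹ * p * n = p ^ k) → ∃ i j δ : ℕ, n = p ^ i * h ^ j * z ^ δ)
    (α : MulAut G) :
    ∃ g : G, ∃ δ : ℕ, (MulAut.conj g * α) p = p ∧ (MulAut.conj g * α) h = h * z ^ δ := by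
  have hq1 : 1 < q := hq.out.one_lt
  have hp1 : p ≠ 1 := by
    intro h1
    rw [h1, orderOf_one] at hp
    omega
  have hshape : ∀ (n : G) (k : ℕ), n⁻¹ * p * n = p ^ k → ∃ i j δ : ℕ, n = p ^ i * h ^ j * z ^ δ ∧
      r ^ j % q = k % q := by
    intro n k hk
    obtain ⟨i, j, δ, rfl⟩ := hN n ⟨k, hk⟩
    refine ⟨i, j, δ, rfl, ?_⟩
    rw [conj_shape hph hzp] at hk
    have := (pow_eq_pow_iff_modEq).mp hk
    rw [hp] at this
    exact this
  have hph' : ∀ i : ℕ, p ^ i * h = h * p ^ (r * i) := by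
    intro i
    have := conj_rel_pow hph i
    rw [← this]
    group
  obtain ⟨g, k, hkq, hgk⟩ := exists_conj_pow' q p m hcard hm hp α
  have hk0 : 0 < k := by
    rcases Nat.eq_zero_or_pos k with rfl | h0
    · exfalso
      rw [pow_zero] at hgk
      have : α p = 1 := by
        have : α p = g⁻¹ * (g * α p * g⁻¹) * g := by group
        rw [this, hgk]
        group
      exact hp1 (by simpa using this)
    · exact h0
  obtain ⟨j, hj⟩ := hE k hkq hk0
  set α₂ : MulAut G := MulAut.conj ((h ^ j)⁻¹) * (MulAut.conj g * α) with hα₂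
  have hα₂p : α₂ p = p := by
    rw [hα₂, MulAut.mul_apply, MulAut.mul_apply, MulAut.conj_apply, MulAut.conj_apply, hgk, inv_inv,
      conj_rel_pow_pow hph]
    conv_rhs => rw [← pow_one p]
    rw [pow_eq_pow_iff_modEq, hp]
    exact hj
  have e2 : (α₂ h)⁻¹ * p * α₂ h = p ^ r := by
    have : α₂ (h⁻¹ * p * h) = α₂ (p ^ r) := by rw [hph]
    rw [map_mul, map_mul, map_inv, map_pow, hα₂p] at this
    exact this
  obtain ⟨i, j', δ, hij, hj'⟩ := hshape (α₂ h) _ e2
  have hj2 : j' % e = 1 := by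
    apply hord (j' % e) (Nat.mod_lt _ he)
    rw [← pow_mod_period hr1, hj']
  have hhj : h ^ j' = h := by
    rw [← pow_mod_orderOf, hh, hj2, pow_one]
  rw [hhj] at hij
  set α₃ : MulAut G := MulAut.conj (p ^ (μ * i)) * α₂ with hα₃
  have hα₃p : α₃ p = p := by
    rw [hα₃, MulAut.mul_apply, MulAut.conj_apply, hα₂p]
    have : p ^ (μ * i) * p = p * p ^ (μ * i) := ((Commute.self_pow p (μ * i)).symm).eq
    rw [this, mul_assoc, mul_inv_cancel, mul_one]
  have hα₃h : α₃ h = h * z ^ δ := by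
    rw [hα₃, MulAut.mul_apply, MulAut.conj_apply, hij]
    have e3 : p ^ (μ * i) * (p ^ i * h * z ^ δ) = p ^ (μ * i + i) * h * z ^ δ := by
      rw [← mul_assoc, ← mul_assoc, ← pow_add]
    have e4 : p ^ (r * (μ * i + i)) = p ^ (μ * i) := by
      rw [pow_eq_pow_iff_modEq, hp]
      show (r * (μ * i + i)) % q = (μ * i) % q
      have : r * (μ * i + i) = (r * (μ + 1)) * i := by ring
      rw [this, Nat.mul_mod, hμ, ← Nat.mul_mod]
    have e5 : z ^ δ * (p ^ (μ * i))⁻¹ = (p ^ (μ * i))⁻¹ * z ^ δ := by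
      have hc : Commute z p := hzp
      exact ((hc.pow_pow δ (μ * i)).inv_right).eq
    rw [e3, hph' (μ * i + i), e4, mul_assoc, mul_assoc, e5, ← mul_assoc (p ^ (μ * i)), mul_inv_cancel,
      one_mul]
  refine ⟨p ^ (μ * i) * ((h ^ j)⁻¹ * g), δ, ?_⟩
  have e6 : MulAut.conj (p ^ (μ * i) * ((h ^ j)⁻¹ * g)) * α = α₃ := by
    rw [hα₃, hα₂, map_mul, map_mul]
    simp only [mul_assoc]
  rw [e6]
  exact ⟨hα₃p, hα₃h⟩

/-- an automorphism fixing `p` and mapping `h` to `h * z` is not inner -/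
theorem not_inner_of_z [Finite G] (q r : ℕ) (p h z : G) (hq : Odd q)
    (hp : orderOf p = q) (hph : h⁻¹ * p * h = p ^ r)
    (hz2 : z * z = 1) (hz1 : z ≠ 1) (hzh : z * h = h * z)
    (hC : ∀ g : G, g⁻¹ * p * g = p → ∃ i δ : ℕ, g = p ^ i * z ^ δ)
    (β : MulAut G) (hβp : β p = p) (hβh : β h = h * z) :
    β ∉ (MulAut.conj : G →* MulAut G).range := by
  rintro ⟨k, hk⟩
  have hkp : k * p * k⁻¹ = p := by rw [← MulAut.conj_apply, hk, hβp]
  have hkh : k * h * k⁻¹ = h * z := by rw [← MulAut.conj_apply, hk, hβh]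
  have e1 : k⁻¹ * p * k = p := by
    conv_lhs => rw [← hkp]
    group
  obtain ⟨i, δ, rfl⟩ := hC k e1
  -- `z ^ δ` commutes with `h`
  have e2 : p ^ i * z ^ δ * h * (p ^ i * z ^ δ)⁻¹ = p ^ i * h * (p ^ i)⁻¹ := by
    have : z ^ δ * h = h * z ^ δ := by
      have := commute_pow_pow_of_mul_eq hzh δ 1
      rwa [pow_one] at this
    calc p ^ i * z ^ δ * h * (p ^ i * z ^ δ)⁻¹ = p ^ i * (z ^ δ * h) * (z ^ δ)⁻¹ * (p ^ i)⁻¹ := by
          group
      _ = p ^ i * h * (p ^ i)⁻¹ := by rw [this]; group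
  rw [e2] at hkh
  -- `z` is a power of `p`
  have hph' : p ^ i * h = h * p ^ (r * i) := by
    have := conj_rel_pow hph i
    rw [← this]
    group
  have e3 : z = p ^ (r * i) * (p ^ i)⁻¹ := by
    rw [hph', mul_assoc] at hkh
    exact (mul_left_cancel hkh).symm
  have e4 : z ^ q = 1 := by
    have hc : Commute (p ^ (r * i)) ((p ^ i)⁻¹) :=
      ((Commute.pow_pow (Commute.refl p) (r * i) i).inv_right)
    have hq' : (p ^ (r * i)) ^ q = 1 := by
      rw [← pow_mul, mul_comm, pow_mul, ← hp, pow_orderOf_eq_one, one_pow]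
    have hq'' : ((p ^ i)⁻¹) ^ q = 1 := by
      rw [inv_pow, ← pow_mul, mul_comm, pow_mul, ← hp, pow_orderOf_eq_one, one_pow, inv_one]
    rw [e3, hc.mul_pow, hq', hq'', one_mul]
  obtain ⟨t, ht⟩ := hq
  have e5 : z ^ q = z := by
    rw [ht, pow_succ, pow_mul, pow_two, hz2, one_pow, one_mul]
  rw [e5] at e4
  exact hz1 e4

/-- the outer automorphism group has order two, from the classification of the normalized
automorphisms -/
theorem card_out_two_of_normalized_z (p h z : G) (β : MulAut G)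
    (hβ : β ∉ (MulAut.conj : G →* MulAut G).range)
    (hz2 : z * z = 1) (hβp : β p = p) (hβh : β h = h * z)
    (hnorm : ∀ α : MulAut G, ∃ g : G, ∃ δ : ℕ, (MulAut.conj g * α) p = p ∧
      (MulAut.conj g * α) h = h * z ^ δ)
    (hclass : ∀ α : MulAut G, α p = p → α h = h → α ∈ (MulAut.conj : G →* MulAut G).range) :
    Nat.card (Cfsg.Out G) = 2 := by
  refine card_out_eq_two β hβ ?_
  intro α hα
  obtain ⟨g, δ, h1, h2⟩ := hnorm α
  rcases pow_two_cases hz2 δ with hδ | hδ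
  · exfalso
    apply hα
    rw [hδ, mul_one] at h2
    obtain ⟨c, hc⟩ := hclass _ h1 h2
    have : α = (MulAut.conj g)⁻¹ * MulAut.conj c := by
      rw [hc]
      group
    rw [this]
    exact Subgroup.mul_mem _ (Subgroup.inv_mem _ ⟨g, rfl⟩) ⟨c, rfl⟩
  · rw [hδ] at h2
    have h3 : (β⁻¹ * (MulAut.conj g * α)) p = p := by
      rw [MulAut.mul_apply, h1, ← hβp, MulAut.inv_apply_self, hβp]
    have h4 : (β⁻¹ * (MulAut.conj g * α)) h = h := by
      rw [MulAut.mul_apply, h2, ← hβh, MulAut.inv_apply_self]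
    obtain ⟨c, hc⟩ := hclass _ h3 h4
    have e : α * β⁻¹ = (MulAut.conj g)⁻¹ * (β * MulAut.conj c * β⁻¹) := by
      rw [hc]
      group
    have e2 : β * MulAut.conj c * β⁻¹ = MulAut.conj (β c) := by
      ext x
      simp only [MulAut.mul_apply, MulAut.conj_apply, map_mul, map_inv, MulAut.apply_inv_self]
    rw [e, e2]
    exact Subgroup.mul_mem _ (Subgroup.inv_mem _ ⟨g, rfl⟩) ⟨β c, rfl⟩

end Cfsg.Agent.Lib.Helper2.RigidOut
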