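import Cfsg.Agent.Lib.Helper2.PMChain8
import Cfsg.Agent.Lib.Helper2.PMChain9

set_option autoImplicit false

/-! # Searches along a chain of the stabilizer of a point, the first level being given by explicit
words; checks cut into ranges of points -/

namespace Cfsg.Agent.Lib.Helper2.PMC

open Cfsg.Agent.Lib.Helper6.TC Cfsg.Agent.Lib.Helper6.PM Cfsg.Agent.Lib.Helper2.PMS
open Cfsg.Agent.Lib.Helper5

variable {M : PModel}

/-! ## Ranges covering an interval -/

/-- consecutive ranges from `lo` reach `n` -/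
def chkCoverR (n : ℕ) : ℕ → List (ℕ × ℕ) → Bool
  | lo, [] => Nat.ble n lo
  | lo, r :: rs => Nat.beq r.1 lo && chkCoverR n (lo + r.2) rs

theorem coverR_of_chk (n : ℕ) : ∀ (rs : List (ℕ × ℕ)) (lo : ℕ), chkCoverR n lo rs = true →
    ∀ y, lo ≤ y → y < n → ∃ r ∈ rs, r.1 ≤ y ∧ y < r.1 + r.2
  | [], lo, h, y, h1, h2 => by
    unfold chkCoverR at h
    rw [Nat.ble_eq] at h
    omega
  | r :: rs, lo, h, y, h1, h2 => by
    unfold chkCoverR at h
    rw [Bool.and_eq_true, Nat.beq_eq] at h
    obtain ⟨ha, hb⟩ := h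
    by_cases hy : y < lo + r.2
    · exact ⟨r, List.mem_cons_self, by omega, by omega⟩
    · obtain ⟨r', hr', h'⟩ := coverR_of_chk n rs (lo + r.2) hb y (by omega) h2
      exact ⟨r', List.mem_cons_of_mem _ hr', h'⟩

/-- a property checked on ranges covering an interval holds on the interval -/
theorem forall_of_ranges (Pr : ℕ → Prop) (n : ℕ) (rs : List (ℕ × ℕ))
    (h : ∀ r ∈ rs, ∀ y, r.1 ≤ y → y < r.1 + r.2 → Pr y)
    (hcov : chkCoverR n 0 rs = true) : ∀ y < n, Pr y := by
  intro y hy
  obtain ⟨r, hr, h1, h2⟩ := coverR_of_chk n rs 0 hcov y (Nat.zero_le _) hy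
  exact h r hr y h1 h2

/-! ## Tables checked by ranges -/

/-- the table `T` is the action of the word `w`, on a range of points -/
noncomputable def chkTabR (px : ℕ → ℕ → ℕ) (w : List ℕ) (T : ℕ → ℕ) (lo len : ℕ) : Bool :=
  allR (fun q => Nat.beq (wappS px w q) (T q)) lo len

theorem tab_of_chkTabR (px : ℕ → ℕ → ℕ) (w : List ℕ) (T : ℕ → ℕ) (lo len : ℕ)
    (h : chkTabR px w T lo len = true) : ∀ q, lo ≤ q → q < lo + len → wapp px w q = T q := by
  intro q h1 h2
  have h3 := allR_spec h q h1 h2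
  rw [wappS_eq] at h3
  exact Nat.eq_of_beq_eq_true h3

/-- the table `T'` is a right inverse of the table `T`, on a range of points -/
noncomputable def chkInvR (n : ℕ) (T T' : ℕ → ℕ) (lo len : ℕ) : Bool :=
  allR (fun q => band (Nat.blt (T' q) n) (Nat.beq (T (T' q)) q)) lo len

theorem inv_of_chkInvR (n : ℕ) (T T' : ℕ → ℕ) (lo len : ℕ)
    (h : chkInvR n T T' lo len = true) :
    ∀ q, lo ≤ q → q < lo + len → T' q < n ∧ T (T' q) = q := by
  intro q h1 h2
  have h3 := allR_spec h q h1 h2
  rw [band_eq_true, Nat.blt_eq] at h3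
  exact ⟨h3.1, Nat.eq_of_beq_eq_true h3.2⟩

/-- the element of the reversed word, the letters being involutions of the group -/
theorem elt_reverse_of_sq (M : PModel) (hsq : ∀ c < M.nl, M.elt [c] * M.elt [c] = 1)
    (w : List ℕ) (hw : ∀ c ∈ w, c < M.nl) : M.elt w.reverse = (M.elt w)⁻¹ := by
  induction w with
  | nil => rw [List.reverse_nil, M.elt_nil, inv_one]
  | cons c w ih =>
    rw [List.reverse_cons, M.elt_append, ih fun c' hc' => hw c' (List.mem_cons_of_mem _ hc'),
      M.elt_cons c w, mul_inv_rev]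
    congr 1
    exact eq_inv_of_mul_eq_one_left (hsq c (hw c List.mem_cons_self))

/-- the table of the reversed word is a right inverse of the table of the word -/
theorem wapp_reverse_of_inv (M : PModel) (hsq : ∀ c < M.nl, M.elt [c] * M.elt [c] = 1)
    (w : List ℕ) (hw : ∀ c ∈ w, c < M.nl) (T T' : ℕ → ℕ)
    (hT : ∀ q < M.n, wapp M.px w q = T q) (hT' : ∀ q < M.n, T' q < M.n ∧ T (T' q) = q) :
    ∀ q < M.n, wapp M.px w.reverse q = T' q := by
  intro q hq
  obtain ⟨hr, hTr⟩ := hT' q hq
  have hw' : ∀ c ∈ w.reverse, c < M.nl := fun c hc => hw c (List.mem_reverse.mp hc)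
  have h1 : (M.elt w)⁻¹ • pnt M (T' q) = pnt M q := by
    rw [inv_elt_smul_pnt M w hw _ hr, hT _ hr, hTr]
  have h2 : (M.elt w.reverse)⁻¹ • pnt M q = pnt M (wapp M.px w.reverse q) :=
    inv_elt_smul_pnt M w.reverse hw' q hq
  rw [elt_reverse_of_sq M hsq w hw, inv_inv, ← h1, smul_inv_smul] at h2
  exact (pnt_injOn M _ _ hr (M.wapp_lt w.reverse hw' q hq) h2).symm

/-! ## Searches -/

/-- a certified search along a chain of the stabilizer of a point `x`, for an element whose
inverse maps `x` to the image of `x` under a given word -/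
theorem RelChainFacts.search_at [Finite M.G] {x : ℕ} {lv : List Level}
    (F : RelChainFacts M [x] lv) (ms : List ℕ) (hms : Srch.chkMasks lv ms = true)
    (iv : ℕ → ℕ) (hI : InvMap M iv) (ws ws' : List ℕ)
    (hws : chkW M ws = true) (hws' : chkW M ws' = true)
    (hsrc : chkSrc M ws [x] lv = true)
    (g : M.G) (hg : g⁻¹ * M.elt ws * g = M.elt ws')
    (u : List ℕ) (c : Srch.Cert) (hu : chkW M u = true)
    (hux : wapp M.px u x = (g⁻¹ • pnt M x).val)
    (hchk : Srch.chk M iv ws ws' c lv ms (pendOf lv) [x] u = true) :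
    ∃ z ∈ Srch.leaves c, g = M.elt z := by
  have hxn : x < M.n := F.hfix x List.mem_cons_self
  have hcompat := compat_of_conj M ws ws' (lt_of_chkW M ws hws) (lt_of_chkW M ws' hws') g hg
  have hu' := lt_of_chkW M u hu
  have h2 : g⁻¹ • pnt M x = pnt M (wapp M.px u x) := by
    rw [hux]
    exact (pnt_eq M _).symm
  have hr : M.elt u * g⁻¹ ∈ stabL M [x] := by
    rw [mem_stabL]
    intro q hq
    rw [List.mem_singleton] at hq
    subst hq
    rw [mul_smul, h2]
    exact elt_smul_pnt M u hu' _ _ hxn rfl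
  have S : St M ws g lv (pendOf lv) [x] u := {
    hfix := F.hfix
    hacc := hu'
    hok := F.ok
    hsrc := srcOK_of_chk M ws lv [x] hsrc
    hcomp := F.complete
    hr := hr
    hpend := pend_of_complete g lv [x] u F.ok F.complete hr }
  exact Srch.chk_sound hI (lt_of_chkW M ws hws) (lt_of_chkW M ws' hws') g hcompat c lv ms
    (pendOf lv) [x] u hchk (Srch.masksOK_of_chk _ _ hms) S

/-- the check of a list of entries, a word and a certificate, for consecutive points from `y`:
the word maps `x` to the point, the certificate is right for the word -/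
noncomputable def chkTop (M : PModel) (iv : ℕ → ℕ) (ws ws' : List ℕ) (lv : List Level)
    (ms : List ℕ) (x : ℕ) : ℕ → List (List ℕ × Srch.Cert) → Bool
  | _, [] => true
  | y, e :: es => chkW M e.1 && Nat.beq (wappS M.px e.1 x) y &&
      Srch.chk M iv ws ws' e.2 lv ms (pendOf lv) [x] e.1 &&
      chkTop M iv ws ws' lv ms x (y + 1) es

theorem chkTop_spec (iv : ℕ → ℕ) (ws ws' : List ℕ) (lv : List Level) (ms : List ℕ) (x : ℕ) :
    ∀ (es : List (List ℕ × Srch.Cert)) (y0 : ℕ), chkTop M iv ws ws' lv ms x y0 es = true →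
    ∀ y, y0 ≤ y → y < y0 + es.length →
    ∃ e ∈ es, chkW M e.1 = true ∧ wapp M.px e.1 x = y ∧
      Srch.chk M iv ws ws' e.2 lv ms (pendOf lv) [x] e.1 = true
  | [], y0, _, y, h1, h2 => by
    rw [List.length_nil] at h2
    omega
  | e :: es, y0, h, y, h1, h2 => by
    unfold chkTop at h
    simp only [Bool.and_eq_true, Nat.beq_eq, wappS_eq] at h
    obtain ⟨⟨⟨ha, hb⟩, hc⟩, hd⟩ := h
    rcases Nat.eq_or_lt_of_le h1 with rfl | hlt
    · exact ⟨e, List.mem_cons_self, ha, hb, hc⟩
    · rw [List.length_cons] at h2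
      obtain ⟨e', he', h'⟩ := chkTop_spec iv ws ws' lv ms x es (y0 + 1) hd y hlt (by omega)
      exact ⟨e', List.mem_cons_of_mem _ he', h'⟩

/-- a certified search along a chain of the stabilizer of a point `x`, the images of `x` being
cut into ranges with explicit words -/
theorem RelChainFacts.search_top [Finite M.G] {x : ℕ} {lv : List Level}
    (F : RelChainFacts M [x] lv) (ms : List ℕ) (hms : Srch.chkMasks lv ms = true)
    (iv : ℕ → ℕ) (hI : InvMap M iv) (ws ws' : List ℕ)
    (hws : chkW M ws = true) (hws' : chkW M ws' = true)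
    (hsrc : chkSrc M ws [x] lv = true)
    (pcs : List (ℕ × List (List ℕ × Srch.Cert)))
    (hc : ∀ p ∈ pcs, chkTop M iv ws ws' lv ms x p.1 p.2 = true)
    (hcov : chkCoverR M.n 0 (pcs.map fun p => (p.1, p.2.length)) = true)
    (g : M.G) (hg : g⁻¹ * M.elt ws * g = M.elt ws') :
    ∃ p ∈ pcs, ∃ e ∈ p.2, ∃ z ∈ Srch.leaves e.2, g = M.elt z := by
  obtain ⟨r, hr, h1, h2⟩ := coverR_of_chk M.n _ 0 hcov (g⁻¹ • pnt M x).val (Nat.zero_le _)
    (g⁻¹ • pnt M x).isLt
  rw [List.mem_map] at hr
  obtain ⟨p, hp, rfl⟩ := hr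
  obtain ⟨e, he, hu, hux, hchk⟩ := chkTop_spec iv ws ws' lv ms x p.2 p.1 (hc p hp) _ h1 h2
  obtain ⟨z, hz, hgz⟩ := F.search_at ms hms iv hI ws ws' hws hws' hsrc g hg e.1 e.2 hu hux hchk
  exact ⟨p, hp, e, he, z, hz, hgz⟩

/-- a certified search along a chain of the stabilizer of a point `x` fixed by a third word,
for the elements that commute with the element of the third word: the images of `x` are among
the fixed points of the third word -/
theorem RelChainFacts.search_fixz [Finite M.G] {x : ℕ} {lv : List Level}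
    (F : RelChainFacts M [x] lv) (ms : List ℕ) (hms : Srch.chkMasks lv ms = true)
    (iv : ℕ → ℕ) (hI : InvMap M iv) (ws ws' : List ℕ)
    (hws : chkW M ws = true) (hws' : chkW M ws' = true)
    (hsrc : chkSrc M ws [x] lv = true)
    (wz : List ℕ) (hwz : chkW M wz = true) (hzx : wapp M.px wz x = x)
    (Fl : List (ℕ × List ℕ × Srch.Cert))
    (hF : ∀ y < M.n, wapp M.px wz y = y → y ∈ Fl.map (·.1))
    (hc : ∀ e ∈ Fl, (chkW M e.2.1 && Nat.beq (wappS M.px e.2.1 x) e.1 &&
      Srch.chk M iv ws ws' e.2.2 lv ms (pendOf lv) [x] e.2.1) = true)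
    (g : M.G) (hg : g⁻¹ * M.elt ws * g = M.elt ws') (hgz : g⁻¹ * M.elt wz * g = M.elt wz) :
    ∃ e ∈ Fl, ∃ z ∈ Srch.leaves e.2.2, g = M.elt z := by
  have hxn : x < M.n := F.hfix x List.mem_cons_self
  have hwz' := lt_of_chkW M wz hwz
  have hcz := compat_of_conj M wz wz hwz' hwz' g hgz x hxn
  rw [hzx] at hcz
  have hyn : (g⁻¹ • pnt M x).val < M.n := (g⁻¹ • pnt M x).isLt
  have h1 : pnt M (g⁻¹ • pnt M x).val = g⁻¹ • pnt M x := pnt_eq M _
  have h3 : wapp M.px wz (g⁻¹ • pnt M x).val = (g⁻¹ • pnt M x).val := by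
    have h2 : pnt M (g⁻¹ • pnt M x).val = pnt M (wapp M.px wz (g⁻¹ • pnt M x).val) :=
      h1.trans hcz
    exact (pnt_injOn M _ _ hyn (M.wapp_lt wz hwz' _ hyn) h2).symm
  have h4 := hF _ hyn h3
  rw [List.mem_map] at h4
  obtain ⟨e, he, hey⟩ := h4
  have h5 := hc e he
  simp only [Bool.and_eq_true, Nat.beq_eq, wappS_eq] at h5
  obtain ⟨⟨hu, hux⟩, hchk⟩ := h5
  obtain ⟨z, hz, hgz'⟩ := F.search_at ms hms iv hI ws ws' hws hws' hsrc g hg e.2.1 e.2.2 hu
    (by rw [hux, hey]) hchk
  exact ⟨e, he, z, hz, hgz'⟩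

/-! ## Levels checked in parts -/

theorem chkLevels_cons (M : PModel) (fixed : List ℕ) (L : Level) (rest : List Level) :
    chkLevels M fixed (L :: rest) = (chkLevel M fixed L && chkLevels M (L.b :: fixed) rest) := rfl

theorem chkLevel_of_parts (M : PModel) (fixed : List ℕ) (L : Level)
    (h1 : Nat.blt L.b M.n = true) (h2 : chkLetters M L.U = true)
    (h3 : (fixed.all fun q => chkFixes M L.U q) = true) (h4 : eqImgs M L.U L.b L.I = true)
    (h5 : strictInc L.I = true) : chkLevel M fixed L = true := by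
  unfold chkLevel
  rw [h1, h2, h3, h4, h5]
  rfl

/-! ## Elimination of candidates, for a homomorphism from another group -/

/-- the image under a homomorphism of the product of some elements whose images are the elements
of words -/
theorem map_prod_expand {H : Type*} [Group H] (f : H →* M.G) (ws : List (List ℕ)) (x : ℕ → H)
    (hf : ∀ i < ws.length, f (x i) = M.elt (ws.getD i [])) (w : List ℕ)
    (hw : ∀ i ∈ w, i < ws.length) : f (w.map x).prod = M.elt (expand ws w) := by
  induction w with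
  | nil => rw [List.map_nil, List.prod_nil, map_one, expand_nil, M.elt_nil]
  | cons i w ih =>
    rw [List.map_cons, List.prod_cons, map_mul, expand_cons, M.elt_append,
      hf i (hw i List.mem_cons_self), ih fun j hj => hw j (List.mem_cons_of_mem _ hj)]

/-- a candidate of the table which is the image of a generator under a homomorphism, defined on a
group `H` embedded in the group of the model, mapping the generators `ws` to the words `imgs z`,
is the good candidate -/
theorem good_of_elimTab_sub {H : Type*} [Group H] (ι f : H →* M.G) (hι : Function.Injective ι)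
    (ws : List (List ℕ)) (imgs : List ℕ → List (List ℕ)) (Rs : List (List ℕ))
    (hRs : ∀ R ∈ Rs, (∀ c ∈ R, c < ws.length) ∧ M.elt (expand ws R) = 1) (good : List ℕ)
    (tab : List (List ℕ × ℕ × ℕ × ℕ)) (h : chkElimTab M imgs Rs good tab = true) (z : List ℕ)
    (hz : z ∈ tab.map (·.1)) (x : ℕ → H)
    (hx : ∀ i < ws.length, ι (x i) = M.elt (ws.getD i []))
    (hlen : ∀ z, (imgs z).length = ws.length)
    (hf : ∀ i < ws.length, f (x i) = M.elt ((imgs z).getD i [])) : z = good := by
  rw [List.mem_map] at hz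
  obtain ⟨e, he, rfl⟩ := hz
  unfold chkElimTab at h
  rw [List.all_eq_true] at h
  have h1 := h e he
  rw [Bool.or_eq_true, Bool.and_eq_true, Bool.and_eq_true] at h1
  rcases h1 with ⟨_, h2⟩ | ⟨_, h2⟩
  · exact eq_of_beq h2
  · exfalso
    have h3 := elt_ne_of_chkNeAt (M := M) _ _ _ h2
    rw [M.elt_nil] at h3
    apply h3
    by_cases hi : e.2.2.1 < Rs.length
    · have hR : Rs.getD e.2.2.1 [] ∈ Rs := by
        rw [List.getD_eq_getElem _ _ hi]
        exact List.getElem_mem _
      obtain ⟨hlt, h1R⟩ := hRs _ hR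
      have h4 := map_prod_expand ι ws x hx (Rs.getD e.2.2.1 []) hlt
      rw [h1R] at h4
      have h5 : ((Rs.getD e.2.2.1 []).map x).prod = 1 := by
        apply hι
        rw [h4, map_one]
      have h6 := map_prod_expand f (imgs e.1) x (by rw [hlen]; exact hf) (Rs.getD e.2.2.1 [])
        (by rw [hlen]; exact hlt)
      rw [h5, map_one] at h6
      exact h6.symm
    · rw [List.getD_eq_default _ _ (by omega), expand_nil, M.elt_nil]

end Cfsg.Agent.Lib.Helper2.PMC
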