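import Cfsg.Agent.Lib.Helper2.HNS.Ctx7

set_option autoImplicit false
set_option maxRecDepth 100000

namespace Cfsg.Agent.Lib.Helper2.HNS

open Cfsg.Spor Cfsg.Agent.Lib.Helper6.TC Cfsg.Agent.Lib.Helper6.TCP Cfsg.Agent.Lib.Helper2.HNDce

/-! # The presented Harada–Norton group is perfect -/

/-- the exponent sums of a word -/
def exS (a b : ℕ) (w : List ℕ) : ℤ := (w.count a : ℤ) - (w.count b : ℤ)

theorem exS_cons (a b c : ℕ) (w : List ℕ) :
    exS a b (c :: w) = exS a b w + ((if c = a then 1 else 0) - (if c = b then 1 else 0)) := by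
  unfold exS
  rw [List.count_cons, List.count_cons]
  by_cases h1 : c = a <;> by_cases h2 : c = b <;> simp [h1, h2] <;> ring

section
variable {M : Type*} [AddCommGroup M] (f : HNG →* Multiplicative M)

/-- the image of a word in an abelian group, written additively -/
theorem toAdd_word : ∀ w : List ℕ, (∀ c ∈ w, c < 7) →
    Multiplicative.toAdd (f (ev7 w)) =
      exS 0 1 w • Multiplicative.toAdd (f (ev7 [0])) + exS 2 3 w • Multiplicative.toAdd (f (ev7 [2])) +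
        exS 4 7 w • Multiplicative.toAdd (f (ev7 [4])) + exS 5 6 w • Multiplicative.toAdd (f (ev7 [5])) := by
  intro w
  induction w with
  | nil =>
    intro _
    rw [ev7_nil, map_one]
    simp [exS]
  | cons c w ih =>
    intro hw
    have hc : c < 7 := hw c List.mem_cons_self
    rw [ev7_cons, map_mul, toAdd_mul, ih (fun d hd => hw d (List.mem_cons_of_mem _ hd)),
      exS_cons, exS_cons, exS_cons, exS_cons]
    interval_cases c
    · simp only [if_true]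
      norm_num
      module
    · rw [x1_eq, map_inv, toAdd_inv]
      norm_num
      module
    · norm_num
      module
    · rw [y3_eq, map_inv, toAdd_inv]
      norm_num
      module
    · norm_num
      module
    · norm_num
      module
    · rw [t6_eq, map_inv, toAdd_inv]
      norm_num
      module

end

theorem ev7_x : ev7 [0] = PresentedGroup.of Cfsg.Spor.HN.Gen.x := by
  unfold ev7; rw [wordElt_cons, wordElt_nil, mul_one, HN.ce0]; rfl
theorem ev7_y : ev7 [2] = PresentedGroup.of Cfsg.Spor.HN.Gen.y := by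
  unfold ev7; rw [wordElt_cons, wordElt_nil, mul_one, HN.ce2]; rfl
theorem ev7_z : ev7 [4] = PresentedGroup.of Cfsg.Spor.HN.Gen.z := by
  unfold ev7; rw [wordElt_cons, wordElt_nil, mul_one, HN.ce4]; rfl
theorem ev7_t : ev7 [5] = PresentedGroup.of Cfsg.Spor.HN.Gen.t := by
  unfold ev7; rw [wordElt_cons, wordElt_nil, mul_one, HN.ce5]; rfl

section
variable {M : Type*} [AddCommGroup M] (f : HNG →* Multiplicative M)

theorem rel_word (w : List ℕ) (hw : w ∈ HN.base) :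
    exS 0 1 w • Multiplicative.toAdd (f (ev7 [0])) + exS 2 3 w • Multiplicative.toAdd (f (ev7 [2])) +
      exS 4 7 w • Multiplicative.toAdd (f (ev7 [4])) + exS 5 6 w • Multiplicative.toAdd (f (ev7 [5])) = 0 := by
  rw [← toAdd_word f w (HN.hbl w hw)]
  have h : ev7 w = 1 := HN.hbase w hw
  rw [h, map_one]
  rfl

/-- the images of the generators in an abelian group are trivial -/
theorem gens_trivial : f (ev7 [0]) = 1 ∧ f (ev7 [2]) = 1 ∧ f (ev7 [4]) = 1 ∧ f (ev7 [5]) = 1 := by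
  have key : Multiplicative.toAdd (f (ev7 [0])) = 0 ∧ Multiplicative.toAdd (f (ev7 [2])) = 0 ∧
      Multiplicative.toAdd (f (ev7 [4])) = 0 ∧ Multiplicative.toAdd (f (ev7 [5])) = 0 := by
    have rel := rel_word f
    generalize Multiplicative.toAdd (f (ev7 [0])) = a at rel ⊢
    generalize Multiplicative.toAdd (f (ev7 [2])) = b at rel ⊢
    generalize Multiplicative.toAdd (f (ev7 [4])) = c at rel ⊢
    generalize Multiplicative.toAdd (f (ev7 [5])) = d at rel ⊢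
    have h0 : (0 : ℤ) • a + (6 : ℤ) • b + (0 : ℤ) • c + (0 : ℤ) • d = 0 := by
      have h := rel [2, 2, 2, 2, 2, 2] (by decide)
      rwa [show exS 0 1 [2, 2, 2, 2, 2, 2] = 0 from by decide +kernel, show exS 2 3 [2, 2, 2, 2, 2, 2] = 6 from by decide +kernel,
        show exS 4 7 [2, 2, 2, 2, 2, 2] = 0 from by decide +kernel, show exS 5 6 [2, 2, 2, 2, 2, 2] = 0 from by decide +kernel] at h
    have h1 : (4 : ℤ) • a + (0 : ℤ) • b + (0 : ℤ) • c + (0 : ℤ) • d = 0 := by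
      have h := rel [0, 0, 2, 0, 0, 3] (by decide)
      rwa [show exS 0 1 [0, 0, 2, 0, 0, 3] = 4 from by decide +kernel, show exS 2 3 [0, 0, 2, 0, 0, 3] = 0 from by decide +kernel,
        show exS 4 7 [0, 0, 2, 0, 0, 3] = 0 from by decide +kernel, show exS 5 6 [0, 0, 2, 0, 0, 3] = 0 from by decide +kernel] at h
    have h3 : (0 : ℤ) • a + (15 : ℤ) • b + (0 : ℤ) • c + (0 : ℤ) • d = 0 := by
      have h := rel [1, 2, 2, 0, 2, 2, 2, 1, 2, 2, 0, 2, 2, 2, 1, 2, 2, 0, 2, 2, 2] (by decide)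
      rwa [show exS 0 1 [1, 2, 2, 0, 2, 2, 2, 1, 2, 2, 0, 2, 2, 2, 1, 2, 2, 0, 2, 2, 2] = 0 from by decide +kernel, show exS 2 3 [1, 2, 2, 0, 2, 2, 2, 1, 2, 2, 0, 2, 2, 2, 1, 2, 2, 0, 2, 2, 2] = 15 from by decide +kernel,
        show exS 4 7 [1, 2, 2, 0, 2, 2, 2, 1, 2, 2, 0, 2, 2, 2, 1, 2, 2, 0, 2, 2, 2] = 0 from by decide +kernel, show exS 5 6 [1, 2, 2, 0, 2, 2, 2, 1, 2, 2, 0, 2, 2, 2, 1, 2, 2, 0, 2, 2, 2] = 0 from by decide +kernel] at h
    have h4 : (8 : ℤ) • a + (8 : ℤ) • b + (0 : ℤ) • c + (0 : ℤ) • d = 0 := by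
      have h := rel [0, 2, 0, 2, 0, 2, 0, 2, 0, 2, 0, 2, 0, 2, 0, 2] (by decide)
      rwa [show exS 0 1 [0, 2, 0, 2, 0, 2, 0, 2, 0, 2, 0, 2, 0, 2, 0, 2] = 8 from by decide +kernel, show exS 2 3 [0, 2, 0, 2, 0, 2, 0, 2, 0, 2, 0, 2, 0, 2, 0, 2] = 8 from by decide +kernel,
        show exS 4 7 [0, 2, 0, 2, 0, 2, 0, 2, 0, 2, 0, 2, 0, 2, 0, 2] = 0 from by decide +kernel, show exS 5 6 [0, 2, 0, 2, 0, 2, 0, 2, 0, 2, 0, 2, 0, 2, 0, 2] = 0 from by decide +kernel] at h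
    have h6 : (0 : ℤ) • a + (0 : ℤ) • b + (2 : ℤ) • c + (0 : ℤ) • d = 0 := by
      have h := rel [4, 4] (by decide)
      rwa [show exS 0 1 [4, 4] = 0 from by decide +kernel, show exS 2 3 [4, 4] = 0 from by decide +kernel,
        show exS 4 7 [4, 4] = 2 from by decide +kernel, show exS 5 6 [4, 4] = 0 from by decide +kernel] at h
    have h8 : (-2 : ℤ) • a + (0 : ℤ) • b + (2 : ℤ) • c + (0 : ℤ) • d = 0 := by
      have h := rel [4, 2, 1, 3, 3, 1, 3, 1, 3, 4, 2, 0, 2, 0, 2, 2, 0, 3, 1, 1] (by decide)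
      rwa [show exS 0 1 [4, 2, 1, 3, 3, 1, 3, 1, 3, 4, 2, 0, 2, 0, 2, 2, 0, 3, 1, 1] = -2 from by decide +kernel, show exS 2 3 [4, 2, 1, 3, 3, 1, 3, 1, 3, 4, 2, 0, 2, 0, 2, 2, 0, 3, 1, 1] = 0 from by decide +kernel,
        show exS 4 7 [4, 2, 1, 3, 3, 1, 3, 1, 3, 4, 2, 0, 2, 0, 2, 2, 0, 3, 1, 1] = 2 from by decide +kernel, show exS 5 6 [4, 2, 1, 3, 3, 1, 3, 1, 3, 4, 2, 0, 2, 0, 2, 2, 0, 3, 1, 1] = 0 from by decide +kernel] at h
    have h9 : (3 : ℤ) • a + (0 : ℤ) • b + (4 : ℤ) • c + (0 : ℤ) • d = 0 := by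
      have h := rel [4, 3, 1, 3, 1, 3, 3, 3, 4, 2, 2, 2, 0, 2, 0, 2, 0, 3, 1, 3, 1, 3, 3, 3, 4, 2, 2, 2, 0, 2, 0, 2, 0, 3, 1, 3, 1, 3, 3, 3, 4, 2, 2, 2, 0, 2, 0, 2, 0] (by decide)
      rwa [show exS 0 1 [4, 3, 1, 3, 1, 3, 3, 3, 4, 2, 2, 2, 0, 2, 0, 2, 0, 3, 1, 3, 1, 3, 3, 3, 4, 2, 2, 2, 0, 2, 0, 2, 0, 3, 1, 3, 1, 3, 3, 3, 4, 2, 2, 2, 0, 2, 0, 2, 0] = 3 from by decide +kernel, show exS 2 3 [4, 3, 1, 3, 1, 3, 3, 3, 4, 2, 2, 2, 0, 2, 0, 2, 0, 3, 1, 3, 1, 3, 3, 3, 4, 2, 2, 2, 0, 2, 0, 2, 0, 3, 1, 3, 1, 3, 3, 3, 4, 2, 2, 2, 0, 2, 0, 2, 0] = 0 from by decide +kernel,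
        show exS 4 7 [4, 3, 1, 3, 1, 3, 3, 3, 4, 2, 2, 2, 0, 2, 0, 2, 0, 3, 1, 3, 1, 3, 3, 3, 4, 2, 2, 2, 0, 2, 0, 2, 0, 3, 1, 3, 1, 3, 3, 3, 4, 2, 2, 2, 0, 2, 0, 2, 0] = 4 from by decide +kernel, show exS 5 6 [4, 3, 1, 3, 1, 3, 3, 3, 4, 2, 2, 2, 0, 2, 0, 2, 0, 3, 1, 3, 1, 3, 3, 3, 4, 2, 2, 2, 0, 2, 0, 2, 0, 3, 1, 3, 1, 3, 3, 3, 4, 2, 2, 2, 0, 2, 0, 2, 0] = 0 from by decide +kernel] at h
    have h10 : (0 : ℤ) • a + (0 : ℤ) • b + (0 : ℤ) • c + (5 : ℤ) • d = 0 := by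
      have h := rel [5, 5, 5, 5, 5] (by decide)
      rwa [show exS 0 1 [5, 5, 5, 5, 5] = 0 from by decide +kernel, show exS 2 3 [5, 5, 5, 5, 5] = 0 from by decide +kernel,
        show exS 4 7 [5, 5, 5, 5, 5] = 0 from by decide +kernel, show exS 5 6 [5, 5, 5, 5, 5] = 5 from by decide +kernel] at h
    have h11 : (0 : ℤ) • a + (0 : ℤ) • b + (0 : ℤ) • c + (3 : ℤ) • d = 0 := by
      have h := rel [1, 5, 0, 5, 5] (by decide)
      rwa [show exS 0 1 [1, 5, 0, 5, 5] = 0 from by decide +kernel, show exS 2 3 [1, 5, 0, 5, 5] = 0 from by decide +kernel,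
        show exS 4 7 [1, 5, 0, 5, 5] = 0 from by decide +kernel, show exS 5 6 [1, 5, 0, 5, 5] = 3 from by decide +kernel] at h
    have h13 : (0 : ℤ) • a + (0 : ℤ) • b + (3 : ℤ) • c + (3 : ℤ) • d = 0 := by
      have h := rel [4, 5, 4, 5, 4, 5] (by decide)
      rwa [show exS 0 1 [4, 5, 4, 5, 4, 5] = 0 from by decide +kernel, show exS 2 3 [4, 5, 4, 5, 4, 5] = 0 from by decide +kernel,
        show exS 4 7 [4, 5, 4, 5, 4, 5] = 3 from by decide +kernel, show exS 5 6 [4, 5, 4, 5, 4, 5] = 3 from by decide +kernel] at h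
    have hd : d = 0 := by
      have e : d = (2 : ℤ) • ((0 : ℤ) • a + (0 : ℤ) • b + (0 : ℤ) • c + (3 : ℤ) • d) - ((0 : ℤ) • a + (0 : ℤ) • b + (0 : ℤ) • c + (5 : ℤ) • d) := by module
      rw [e, h11, h10]; simp
    have hc : c = 0 := by
      have e : c = ((0 : ℤ) • a + (0 : ℤ) • b + (3 : ℤ) • c + (3 : ℤ) • d) - ((0 : ℤ) • a + (0 : ℤ) • b + (2 : ℤ) • c + (0 : ℤ) • d) - (3 : ℤ) • d := by module
      rw [e, h13, h6, hd]; simp
    have hb : b = 0 := by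
      have e : b = (3 : ℤ) • ((0 : ℤ) • a + (15 : ℤ) • b + (0 : ℤ) • c + (0 : ℤ) • d) - (6 : ℤ) • ((0 : ℤ) • a + (6 : ℤ) • b + (0 : ℤ) • c + (0 : ℤ) • d) -
          ((8 : ℤ) • a + (8 : ℤ) • b + (0 : ℤ) • c + (0 : ℤ) • d) + (2 : ℤ) • ((4 : ℤ) • a + (0 : ℤ) • b + (0 : ℤ) • c + (0 : ℤ) • d) := by module
      rw [e, h3, h0, h4, h1]; simp
    have ha : a = 0 := by
      have e : a = ((3 : ℤ) • a + (0 : ℤ) • b + (4 : ℤ) • c + (0 : ℤ) • d) + ((-2 : ℤ) • a + (0 : ℤ) • b + (2 : ℤ) • c + (0 : ℤ) • d) - (6 : ℤ) • c := by module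
      rw [e, h9, h8, hc]; simp
    exact ⟨ha, hb, hc, hd⟩
  exact ⟨key.1, key.2.1, key.2.2.1, key.2.2.2⟩

/-- every homomorphism into an abelian group, written additively, is trivial -/
theorem hom_trivial_add : ∀ g : HNG, f g = 1 := by
  obtain ⟨hx, hy, hz, ht⟩ := gens_trivial f
  intro g
  have hg : g ∈ (⊤ : Subgroup HNG) := Subgroup.mem_top g
  rw [← PresentedGroup.closure_range_of] at hg
  induction hg using Subgroup.closure_induction with
  | mem x hx' =>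
    obtain ⟨i, rfl⟩ := hx'
    cases i
    · rw [← ev7_x]; exact hx
    · rw [← ev7_y]; exact hy
    · rw [← ev7_z]; exact hz
    · rw [← ev7_t]; exact ht
  | one => exact map_one f
  | mul a b _ _ ha hb => rw [map_mul, ha, hb, mul_one]
  | inv a _ ha => rw [map_inv, ha, inv_one]

end

/-- every homomorphism into a commutative group is trivial -/
theorem hom_trivial {A : Type*} [CommGroup A] (f : HNG →* A) : ∀ g : HNG, f g = 1 := by
  intro g
  have h := hom_trivial_add ((MulEquiv.multiplicativeAdditive A).symm.toMonoidHom.comp f) g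
  have h2 : (MulEquiv.multiplicativeAdditive A).symm (f g) = 1 := h
  rw [← map_one (MulEquiv.multiplicativeAdditive A).symm] at h2
  exact (MulEquiv.multiplicativeAdditive A).symm.injective h2

end Cfsg.Agent.Lib.Helper2.HNS
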