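import Cfsg.Agent.Lib.Helper6.TCP.HN
import Cfsg.Agent.Lib.Helper6.TC11

set_option autoImplicit false
set_option maxRecDepth 100000

namespace Cfsg.Agent.Lib.Helper2.HNTcp

open Cfsg.Spor Cfsg.Agent.Lib.Helper6.TC Cfsg.Agent.Lib.Helper6.TCP

/-! # The presentation of the Harada–Norton group: columns, generators and the cover of the
relators by the base words -/

/-- the column of a generator -/
def col : HN.Gen → ℕ
  | .x => 0
  | .y => 2
  | .z => 4
  | .t => 5

theorem invc_0 : invc HN.INV 0 = 1 := by decide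
theorem invc_1 : invc HN.INV 1 = 0 := by decide
theorem invc_2 : invc HN.INV 2 = 3 := by decide
theorem invc_3 : invc HN.INV 3 = 2 := by decide
theorem invc_4 : invc HN.INV 4 = 4 := by decide
theorem invc_5 : invc HN.INV 5 = 6 := by decide
theorem invc_6 : invc HN.INV 6 = 5 := by decide

theorem hinv1 : ∀ c < 7, invc HN.INV c < 7 := by decide
theorem hinvinv : ∀ c < 7, invc HN.INV (invc HN.INV c) = c := by decide

theorem hC : CHyp HN.gc col 7 HN.INV where
  hcol := by
    intro g
    cases g <;> exact ⟨by decide, rfl⟩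
  hgc := by
    intro c hc
    interval_cases c <;> decide
  hgc' := by
    intro c hc
    interval_cases c <;> decide

theorem hgen : ∀ g : HN.Gen, ∃ c < 7, HN.gc c = (g, false) :=
  fun g => ⟨col g, (hC.hcol g).1, (hC.hcol g).2⟩

/-- every relator is covered by a base word -/
theorem rel_cover {N : ℕ} {px : ℕ → ℕ → ℕ} (_hP : PHyp px N 7 HN.INV)
    (hfix : ∀ b ∈ HN.base, ∀ p < N, wapp px b p = p) :
    ∀ r ∈ HN.Rels, ∀ ψ : FreeGroup HN.Gen →* Equiv.Perm (Fin N),
      (∀ c < 7, ψ (ceOf HN.gc (invc HN.INV c)) = (ψ (ceOf HN.gc c))⁻¹) →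
      ∃ w, (∀ c ∈ w, c < 7) ∧ ψ r = ψ (wordElt HN.gc w) ∧ ∀ p < N, wapp px w p = p := by
  intro r hr ψ hψ
  rcases hr with hr | hr
  · obtain ⟨g, hg, _⟩ := hr
    simp [coxNodes, HN.edges] at hg
  · have hr' : r ∈ HN.extra := hr
    obtain ⟨k, hk, rfl⟩ := List.mem_iff_getElem.mp hr'
    have hk' : k < 14 := hk
    have key : ∀ b ∈ HN.base, ψ (HN.extra[k]) = ψ (wordElt HN.gc b) →
        ∃ w, (∀ c ∈ w, c < 7) ∧ ψ (HN.extra[k]) = ψ (wordElt HN.gc w) ∧
          ∀ p < N, wapp px w p = p :=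
      fun b hb h => ⟨b, HN.hbl b hb, h, hfix b hb⟩
    interval_cases k
    · exact key _ (by decide) (congrArg ψ HN.hb0.symm)
    · exact key _ (by decide) (congrArg ψ HN.hb1.symm)
    · exact key _ (by decide) (congrArg ψ HN.hb2.symm)
    · exact key _ (by decide) (congrArg ψ HN.hb3.symm)
    · exact key _ (by decide) (congrArg ψ HN.hb4.symm)
    · exact key _ (by decide) (congrArg ψ HN.hb5.symm)
    · exact key _ (by decide) (congrArg ψ HN.hb6.symm)
    · exact key _ (by decide) (congrArg ψ HN.hb7.symm)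
    · refine key [4, 2, 1, 3, 3, 1, 3, 1, 3, 4, 2, 0, 2, 0, 2, 2, 0, 3, 1, 1] (by decide)
        ((congrArg ψ HN.hb8).trans ?_)
      have h4 := hψ 4 (by decide)
      rw [invc_4, HN.ce4] at h4
      rw [wordElt_cons HN.gc 4, HN.ce4, map_mul, map_mul, map_inv, ← h4]
    · exact key _ (by decide) (congrArg ψ HN.hb9.symm)
    · exact key _ (by decide) (congrArg ψ HN.hb10.symm)
    · exact key _ (by decide) (congrArg ψ HN.hb11.symm)
    · exact key _ (by decide) (congrArg ψ HN.hb12.symm)
    · exact key _ (by decide) (congrArg ψ HN.hb13.symm)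

/-- the action of a power of a word, from the table of the word -/
theorem wapp_pow {N : ℕ} {px : ℕ → ℕ → ℕ} (hP : PHyp px N 7 HN.INV) (u : List ℕ)
    (hu : ∀ c ∈ u, c < 7) (Q : ℕ → ℕ) (hQ : ∀ p < N, Q p = wapp px u p) :
    ∀ (k : ℕ), ∀ p < N, wapp px (List.replicate k u).flatten p = Q^[k] p := by
  intro k
  induction k with
  | zero => intro p _; rfl
  | succ k ih =>
    intro p hp
    rw [List.replicate_succ, List.flatten_cons, wapp_append, Function.iterate_succ_apply,
      hQ p hp]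
    exact ih _ (wapp_lt hP u hu p hp)

end Cfsg.Agent.Lib.Helper2.HNTcp
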