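import Mathlib
import Cfsg.Agent.Lib.Helper9.CubeUDefs
import Cfsg.Agent.Lib.Helper2.CarveU3Core

/-!
# S2496, part A: the unitary matrix `B` behind the tori of `CarveU3Core`, with the exact
description of which powers of `B` are scalar
-/

set_option autoImplicit false

namespace Cfsg.Agent.Lib.Helper2.HalfTorus

open Polynomial Cfsg.Agent.S0278 Cfsg.Agent.Lib.Helper5.Wall Cfsg.Agent.Lib.Helper5.SUConj
  Cfsg.Agent.Lib.Helper5.SSOrder Cfsg.Agent.Lib.Helper5.Pal Cfsg.Agent.Lib.Helper9.CubeU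
  Cfsg.Agent.Lib.Helper2.U3

universe u v

section order

variable {F : Type u} [Field F] {L : Type v} [Field L] [Algebra F L]

/-- a root `ζ` of the characteristic polynomial in an extension: `B ^ k = c • 1` forces
`ζ ^ k = c` -/
theorem pow_eq_of_root {m : ℕ} (B : Matrix (Fin m) (Fin m) F) (ζ : L)
    (hroot : (B.charpoly.map (algebraMap F L)).eval ζ = 0) (k : ℕ) (c : F)
    (hk : B ^ k = c • (1 : Matrix (Fin m) (Fin m) F)) : ζ ^ k = algebraMap F L c := by
  classical
  obtain ⟨BL, hBL⟩ : ∃ BL : Matrix (Fin m) (Fin m) L, BL = (algebraMap F L).mapMatrix B :=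
    ⟨_, rfl⟩
  have hch : BL.charpoly = B.charpoly.map (algebraMap F L) := by
    rw [hBL, RingHom.mapMatrix_apply, Matrix.charpoly_map]
  have hdet : (Matrix.scalar (Fin m) ζ - BL).det = 0 := by
    rw [← Matrix.eval_charpoly, hch, hroot]
  obtain ⟨v, hv0, hv⟩ := Matrix.exists_mulVec_eq_zero_iff.2 hdet
  have hBv : BL.mulVec v = ζ • v := by
    rw [Matrix.sub_mulVec, sub_eq_zero] at hv
    rw [← hv]
    funext i
    simp [Matrix.mulVec, dotProduct, Matrix.scalar_apply, Matrix.diagonal_apply]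
  have hpow : ∀ j : ℕ, (BL ^ j).mulVec v = ζ ^ j • v := by
    intro j
    induction j with
    | zero => rw [pow_zero, pow_zero, Matrix.one_mulVec, one_smul]
    | succ j ih =>
      rw [pow_succ, ← Matrix.mulVec_mulVec, hBv, Matrix.mulVec_smul, ih, smul_smul, pow_succ,
        mul_comm]
  have hBLk : BL ^ k = algebraMap F L c • (1 : Matrix (Fin m) (Fin m) L) := by
    rw [hBL, ← map_pow, hk]
    ext i j
    simp [Matrix.one_apply]
    split_ifs <;> simp
  have h1 := hpow k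
  rw [hBLk, Matrix.smul_mulVec, Matrix.one_mulVec] at h1
  by_contra hne
  apply hv0
  have h2 : (ζ ^ k - algebraMap F L c) • v = 0 := by rw [sub_smul, ← h1, sub_self]
  exact (smul_eq_zero.1 h2).resolve_left (sub_ne_zero.2 hne)

end order

section main

variable {F : Type u} [Field F] [Fintype F] {q : ℕ}

/-- the unitary matrix `B` of exact order `M` with eigenvalues `ζ ^ ((-q) ^ j)`: its `k`-th power
is scalar iff `M ∣ k * (q + 1)` -/
theorem torus_B (hF : Fintype.card F = q ^ 2) (p : ℕ) [Fact p.Prime] [CharP F p] (d m M : ℕ)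
    (hd : 1 ≤ d) (hm : 2 ≤ m) (hMdvd : M ∣ q ^ (2 * d) - 1)
    (hper : (M : ℤ) ∣ (-(q : ℤ)) ^ m - 1)
    (hinj : ∀ k, 0 < k → k < m → ¬ (M : ℤ) ∣ (-(q : ℤ)) ^ k - 1)
    (U3a : 0 < M → M.Coprime p → ∀ f : F[X], f.Monic → f.natDegree = m → f ∣ X ^ M - 1 →
      dag hF f = f →
      ∃ B : Matrix (Fin m) (Fin m) F, ct hF B * B = 1 ∧ B.charpoly = f ∧ B ^ M = 1) :
    ∃ B : Matrix (Fin m) (Fin m) F, ct hF B * B = 1 ∧ B ^ M = 1 ∧
      (∀ k : ℕ, ∀ c : F, B ^ k = c • (1 : Matrix (Fin m) (Fin m) F) → M ∣ k * (q + 1)) ∧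
      (∀ T : ℕ, M ∣ T * (q + 1) → ∃ c : F, B ^ T = c • (1 : Matrix (Fin m) (Fin m) F)) := by
  classical
  have hq2 : 2 ≤ q := Cfsg.Agent.Lib.Helper1.HermCount.two_le_q hF
  haveI : NeZero d := ⟨by omega⟩
  have hcardL : Nat.card (FiniteField.Extension F p d) = q ^ (2 * d) := by
    rw [FiniteField.natCard_extension, Nat.card_eq_fintype_card, hF, ← pow_mul]
  have : Fintype (FiniteField.Extension F p d) := Fintype.ofFinite _
  obtain ⟨γ, hγ⟩ := IsCyclic.exists_generator (α := (FiniteField.Extension F p d)ˣ)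
  have hordγ : orderOf γ = q ^ (2 * d) - 1 := by
    rw [orderOf_eq_card_of_forall_mem_zpowers hγ, Nat.card_units, hcardL]
  have hqd1 : 1 ≤ q ^ (2 * d) := Nat.one_le_pow _ _ (by omega)
  have hqpos : 0 < q ^ (2 * d) - 1 := by
    have h1 : 2 ^ (2 * d) ≤ q ^ (2 * d) := Nat.pow_le_pow_left hq2 _
    have h2 : 2 ^ 1 ≤ 2 ^ (2 * d) := Nat.pow_le_pow_right (by omega) (by omega)
    omega
  have hMpos : 0 < M := Nat.pos_of_dvd_of_pos hMdvd hqpos
  -- `M` is coprime to `q`, hence to `p`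
  have hcopZ : IsCoprime (M : ℤ) (q : ℤ) := by
    obtain ⟨c, hc⟩ := hMdvd
    refine ⟨-(c : ℤ), (q : ℤ) ^ (2 * d - 1), ?_⟩
    have h1 : ((q ^ (2 * d) - 1 : ℕ) : ℤ) = (q : ℤ) ^ (2 * d) - 1 := by
      rw [Nat.cast_sub hqd1, Nat.cast_pow, Nat.cast_one]
    have h2 : (q : ℤ) ^ (2 * d - 1) * q = (q : ℤ) ^ (2 * d) := by
      rw [← pow_succ, Nat.sub_add_cancel (by omega)]
    have h3 : ((q ^ (2 * d) - 1 : ℕ) : ℤ) = (M : ℤ) * c := by rw [hc, Nat.cast_mul]
    rw [h2]
    linarith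
  have hcopN : Nat.Coprime M q := Nat.isCoprime_iff_coprime.1 hcopZ
  have hMp : M.Coprime p := by
    obtain ⟨e, he⟩ := exists_q_eq_pow hF p
    have hpq : p ∣ q := by
      rw [he]
      apply dvd_pow_self
      rintro rfl
      rw [pow_zero] at he
      omega
    exact Nat.Coprime.coprime_dvd_right hpq hcopN
  -- the element of order `M`
  obtain ⟨ζ, hordζ⟩ : ∃ ζ : (FiniteField.Extension F p d)ˣ, orderOf ζ = M := by
    refine ⟨γ ^ ((q ^ (2 * d) - 1) / M), ?_⟩
    rw [orderOf_pow_of_dvd ?_ ?_, hordγ, Nat.div_div_self hMdvd hqpos.ne']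
    · exact (Nat.div_pos (Nat.le_of_dvd hqpos hMdvd) hMpos).ne'
    · rw [hordγ]
      exact Nat.div_dvd_of_dvd hMdvd
  -- the roots
  obtain ⟨ρ, hρ⟩ : ∃ ρ : ℕ → (FiniteField.Extension F p d)ˣ,
      ∀ j, ρ j = ζ ^ ((-(q : ℤ)) ^ j) := ⟨_, fun _ => rfl⟩
  have hρeq : ∀ i j, ρ i = ρ j ↔ (M : ℤ) ∣ (-(q : ℤ)) ^ j - (-(q : ℤ)) ^ i := by
    intro i j
    rw [hρ, hρ, zpow_eq_zpow_iff_modEq, hordζ, Int.modEq_iff_dvd]
  have hρstep : ∀ j, ρ (j + 1) = (ρ j ^ q)⁻¹ := by
    intro j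
    rw [hρ, hρ, pow_succ, zpow_mul, zpow_neg, zpow_natCast]
  have hρper : ρ m = ρ 0 := by
    rw [hρeq, pow_zero]
    exact (dvd_sub_comm).1 hper
  have hρM : ∀ j, ρ j ^ M = 1 := by
    intro j
    rw [hρ, ← zpow_natCast, ← zpow_mul, mul_comm, zpow_mul, zpow_natCast, ← hordζ,
      pow_orderOf_eq_one, one_zpow]
  have hρinj : ∀ i j, i < j → j < m → ρ i ≠ ρ j := by
    intro i j hij hjm heq
    rw [hρeq] at heq
    have h1 : (-(q : ℤ)) ^ j - (-(q : ℤ)) ^ i = (-(q : ℤ)) ^ i * ((-(q : ℤ)) ^ (j - i) - 1) := by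
      have : j = i + (j - i) := by omega
      conv_lhs => rw [this, pow_add]
      ring
    rw [h1] at heq
    have h2 : IsCoprime (M : ℤ) ((-(q : ℤ)) ^ i) := (hcopZ.neg_right).pow_right
    exact hinj (j - i) (by omega) (by omega) (h2.dvd_of_dvd_mul_left heq)
  obtain ⟨r, hr⟩ : ∃ r : ℕ → FiniteField.Extension F p d, ∀ j, r j = ((ρ j : _ˣ) : _) :=
    ⟨_, fun _ => rfl⟩
  have hr0 : ∀ j, r j ≠ 0 := fun j => by rw [hr]; exact Units.ne_zero _
  have hrstep : ∀ j, r (j + 1) = (r j ^ q)⁻¹ := by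
    intro j
    rw [hr, hr, hρstep, Units.val_inv_eq_inv_val, Units.val_pow_eq_pow_val]
  have hrper : r m = r 0 := by rw [hr, hr, hρper]
  have hrM : ∀ j, r j ^ M = 1 := by
    intro j
    rw [hr, ← Units.val_pow_eq_pow_val, hρM, Units.val_one]
  have hrinj : ∀ i ∈ Finset.range m, ∀ j ∈ Finset.range m, i ≠ j → r i ≠ r j := by
    intro i hi j hj hij heq
    rw [hr, hr] at heq
    have heq' := Units.ext heq
    rw [Finset.mem_range] at hi hj
    rcases lt_or_gt_of_ne hij with h | h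
    · exact hρinj i j h hj heq'
    · exact hρinj j i h hi heq'.symm
  obtain ⟨f, hfmap, hfdag⟩ := exists_descent hF p m r hr0 hrstep hrper
  have hinjalg := (algebraMap F (FiniteField.Extension F p d)).injective
  have hfmon : f.Monic := by
    apply monic_of_injective hinjalg
    rw [hfmap]
    exact monic_prod_X_sub_C _ _
  have hfdeg : f.natDegree = m := by
    rw [← natDegree_map (algebraMap F (FiniteField.Extension F p d)), hfmap,
      natDegree_finsetProd_X_sub_C_eq_card, Finset.card_range]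
  have hfdvd : f ∣ X ^ M - 1 := by
    rw [← map_dvd_map' (algebraMap F (FiniteField.Extension F p d)), hfmap, Polynomial.map_sub,
      Polynomial.map_pow, map_X, Polynomial.map_one]
    apply Finset.prod_dvd_of_coprime
    · intro i hi j hj hij
      apply isCoprime_X_sub_C_of_isUnit_sub
      exact IsUnit.mk0 _ (sub_ne_zero.2 (hrinj i hi j hj hij))
    · intro j _
      rw [dvd_iff_isRoot, IsRoot, eval_sub, eval_pow, eval_X, eval_one, hrM, sub_self]
  obtain ⟨B, hB1, hB2, hB3⟩ := U3a hMpos hMp f hfmon hfdeg hfdvd hfdag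
  have hm1 : 1 ≤ m := by omega
  refine ⟨B, hB1, hB3, ?_, ?_⟩
  · intro k c hk
    have hroot0 : (B.charpoly.map (algebraMap F (FiniteField.Extension F p d))).eval (r 0) = 0 := by
      rw [hB2, hfmap, eval_prod]
      apply Finset.prod_eq_zero (Finset.mem_range.2 hm1)
      rw [eval_sub, eval_X, eval_C, sub_self]
    have hroot1 : (B.charpoly.map (algebraMap F (FiniteField.Extension F p d))).eval (r 1) = 0 := by
      rw [hB2, hfmap, eval_prod]
      apply Finset.prod_eq_zero (Finset.mem_range.2 (by omega : 1 < m))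
      rw [eval_sub, eval_X, eval_C, sub_self]
    have h0 := pow_eq_of_root B (r 0) hroot0 k c hk
    have h1 := pow_eq_of_root B (r 1) hroot1 k c hk
    rw [← h0, show (1 : ℕ) = 0 + 1 from rfl, hrstep 0, inv_pow, ← pow_mul] at h1
    have h2 : r 0 ^ (k * (q + 1)) = 1 := by
      have h3 : r 0 ^ (q * k) ≠ 0 := pow_ne_zero _ (hr0 0)
      rw [inv_eq_iff_eq_inv, ← one_div, eq_div_iff (pow_ne_zero _ (hr0 0)), ← pow_add] at h1
      rw [← h1]
      congr 1
      ring
    rw [hr, ← Units.val_pow_eq_pow_val, Units.val_eq_one, hρ, pow_zero, zpow_one] at h2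
    rw [← hordζ]
    exact orderOf_dvd_of_pow_eq_one h2
  · intro T hT
    -- the common value of the `T`-th powers of the roots
    have hcL : (r 0 ^ T) ^ (q + 1) = 1 := by
      rw [← pow_mul]
      obtain ⟨w, hw⟩ := hT
      rw [hw, pow_mul, hrM, one_pow]
    have hall : ∀ j, r j ^ T = r 0 ^ T := by
      intro j
      induction j with
      | zero => rfl
      | succ j ih =>
        rw [hrstep, inv_pow, ← pow_mul, mul_comm, pow_mul, ih]
        have h3 : (r 0 ^ T) ^ q * (r 0 ^ T) = 1 := by rw [← pow_succ]; exact hcL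
        exact inv_eq_of_mul_eq_one_right h3
    have hfix : (r 0 ^ T) ^ Fintype.card F = r 0 ^ T := by
      have h4 : q ^ 2 = (q + 1) * (q - 1) + 1 := by
        obtain ⟨b, rfl⟩ : ∃ b, q = b + 1 := ⟨q - 1, by omega⟩
        rw [Nat.add_sub_cancel]
        ring
      rw [hF, h4, pow_succ, pow_mul, hcL, one_pow, one_mul]
    obtain ⟨c₀, hc₀⟩ := mem_range_of_pow_card (F := F) (r 0 ^ T) hfix
    have hdvd : f ∣ X ^ T - C c₀ := by
      rw [← map_dvd_map' (algebraMap F (FiniteField.Extension F p d)), hfmap, Polynomial.map_sub,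
        Polynomial.map_pow, map_X, map_C, hc₀]
      apply Finset.prod_dvd_of_coprime
      · intro i hi j hj hij
        apply isCoprime_X_sub_C_of_isUnit_sub
        exact IsUnit.mk0 _ (sub_ne_zero.2 (hrinj i hi j hj hij))
      · intro j _
        rw [dvd_iff_isRoot, IsRoot, eval_sub, eval_pow, eval_X, eval_C, hall, sub_self]
    refine ⟨c₀, ?_⟩
    obtain ⟨w, hw⟩ := hdvd
    have h5 := congrArg (aeval B) hw
    rw [map_mul, ← hB2, Matrix.aeval_self_charpoly, zero_mul, map_sub, map_pow, aeval_X, aeval_C,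
      sub_eq_zero] at h5
    rw [h5, Algebra.algebraMap_eq_smul_one]

end main

end Cfsg.Agent.Lib.Helper2.HalfTorus
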