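import Mathlib
import Cfsg.Agent.Lib.Lead.CarveU7

/-!
# S2496, part B: arithmetic of `N = q^h + (-1)^h` inside `(q^(2h) - 1) / (q + 1)`
-/

set_option autoImplicit false

namespace Cfsg.Agent.Lib.Helper2.HalfTorus

/-- `q^h + 1` for even `h`, `q^h - 1` for odd `h` -/
def Nh (q h : ℕ) : ℕ := if Even h then q ^ h + 1 else q ^ h - 1

/-- for an even exponent: `(q+1) ∣ q^(2k) - 1` with quotient `≡ -2k mod (q+1)` -/
theorem arith_even (q k : ℕ) : ∃ a t : ℤ, ((q : ℤ) + 1) * a = (q : ℤ) ^ (2 * k) - 1 ∧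
    a = -(2 * (k : ℤ)) + ((q : ℤ) + 1) * t := by
  induction k with
  | zero => exact ⟨0, 0, by ring, by simp⟩
  | succ k ih =>
    obtain ⟨a, t, h1, h2⟩ := ih
    refine ⟨(q : ℤ) ^ 2 * a + ((q : ℤ) - 1),
      -2 * (k : ℤ) * ((q : ℤ) - 1) + (q : ℤ) ^ 2 * t + 1, ?_, ?_⟩
    · have : (q : ℤ) ^ (2 * (k + 1)) = (q : ℤ) ^ 2 * (q : ℤ) ^ (2 * k) := by ring
      rw [this]
      linear_combination (q : ℤ) ^ 2 * h1
    · rw [h2]
      push_cast
      ring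

theorem Nh_pos (q h : ℕ) (hq : 2 ≤ q) (hh : 1 ≤ h) : 0 < Nh q h := by
  unfold Nh
  split_ifs
  · omega
  · have : 2 ^ 1 ≤ q ^ h :=
      (Nat.pow_le_pow_left hq 1).trans (Nat.pow_le_pow_right (by omega) hh)
    omega

/-- the factorisation `q^(2h) - 1 = (q+1) N' N` with `N' ≡ ± h mod (q+1)` -/
theorem arith_core (q h : ℕ) (hq : 1 ≤ q) :
    ∃ (N' : ℕ) (t : ℤ), (q + 1) * N' * Nh q h = q ^ (2 * h) - 1 ∧
      ((N' : ℤ) = (h : ℤ) + ((q : ℤ) + 1) * t ∨ (N' : ℤ) = -(h : ℤ) + ((q : ℤ) + 1) * t) := by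
  have hqh : 1 ≤ q ^ h := Nat.one_le_pow _ _ hq
  have hq2h : 1 ≤ q ^ (2 * h) := Nat.one_le_pow _ _ hq
  have hsq : (q : ℤ) ^ (2 * h) = (q : ℤ) ^ h * (q : ℤ) ^ h := by rw [two_mul, pow_add]
  by_cases hev : Even h
  · obtain ⟨k, hk⟩ := hev
    have hk2 : h = 2 * k := by omega
    obtain ⟨a, t, h1, h2⟩ := arith_even q k
    have ha0 : 0 ≤ a := by
      have h3 : (0 : ℤ) ≤ ((q : ℤ) + 1) * a := by
        rw [h1, ← hk2]
        have : (1 : ℤ) ≤ (q : ℤ) ^ h := by exact_mod_cast hqh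
        linarith
      have h4 : (0 : ℤ) < (q : ℤ) + 1 := by positivity
      exact nonneg_of_mul_nonneg_right h3 h4
    obtain ⟨N', rfl⟩ := Int.eq_ofNat_of_zero_le ha0
    refine ⟨N', t, ?_, Or.inr ?_⟩
    · unfold Nh
      rw [if_pos ⟨k, hk⟩]
      zify [hq2h]
      rw [hsq]
      push_cast
      rw [← hk2] at h1
      linear_combination ((q : ℤ) ^ h + 1) * h1
    · rw [h2, hk2]
      push_cast
      ring
  · have hodd : Odd h := Nat.not_even_iff_odd.1 hev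
    obtain ⟨k, hk⟩ := hodd
    obtain ⟨a, t, h1, h2⟩ := Cfsg.Agent.Lib.Carve.U7.arith_odd q k
    have ha0 : 0 ≤ a := by
      have h3 : (0 : ℤ) ≤ ((q : ℤ) + 1) * a := by
        rw [h1]
        positivity
      have h4 : (0 : ℤ) < (q : ℤ) + 1 := by positivity
      exact nonneg_of_mul_nonneg_right h3 h4
    obtain ⟨N', rfl⟩ := Int.eq_ofNat_of_zero_le ha0
    refine ⟨N', t, ?_, Or.inl ?_⟩
    · unfold Nh
      rw [if_neg hev]
      zify [hq2h, hqh]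
      rw [hsq]
      push_cast
      rw [← hk] at h1
      linear_combination ((q : ℤ) ^ h - 1) * h1
    · rw [h2, hk]
      push_cast
      ring

/-- a common divisor of `N` and `q + 1` divides `2` -/
theorem dvd_two_of_dvd_Nh (q h x : ℕ) (hq : 1 ≤ q) (h1 : x ∣ Nh q h) (h2 : x ∣ q + 1) : x ∣ 2 := by
  have hqh : 1 ≤ q ^ h := Nat.one_le_pow _ _ hq
  have h3 : ((q : ℤ) + 1) ∣ (q : ℤ) ^ h - (-1) ^ h := by
    have := sub_dvd_pow_sub_pow (q : ℤ) (-1) h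
    rwa [sub_neg_eq_add] at this
  have h2' : (x : ℤ) ∣ (q : ℤ) + 1 := by exact_mod_cast h2
  have h4 := h2'.trans h3
  unfold Nh at h1
  apply Int.natCast_dvd_natCast.1
  by_cases hev : Even h
  · rw [if_pos hev] at h1
    have h1' : (x : ℤ) ∣ (q : ℤ) ^ h + 1 := by exact_mod_cast h1
    rw [hev.neg_one_pow] at h4
    have := dvd_sub h1' h4
    have h5 : (q : ℤ) ^ h + 1 - ((q : ℤ) ^ h - 1) = 2 := by ring
    rw [h5] at this
    exact_mod_cast this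
  · rw [if_neg hev] at h1
    have hodd : Odd h := Nat.not_even_iff_odd.1 hev
    have h1' : (x : ℤ) ∣ (q : ℤ) ^ h - 1 := by
      have : ((q ^ h - 1 : ℕ) : ℤ) = (q : ℤ) ^ h - 1 := by
        rw [Nat.cast_sub hqh]
        push_cast
        ring
      rw [← this]
      exact_mod_cast h1
    rw [hodd.neg_one_pow] at h4
    have := dvd_sub h4 h1'
    have h5 : (q : ℤ) ^ h - -1 - ((q : ℤ) ^ h - 1) = 2 := by ring
    rw [h5] at this
    exact_mod_cast this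

theorem arith_fwd (q h : ℕ) (hq : 2 ≤ q) (hh : 1 ≤ h)
    (hdvd : Nh q h ∣ (q ^ (2 * h) - 1) / ((q + 1) * Nat.gcd (2 * h) (q + 1))) :
    padicValNat 2 (q + 1) < padicValNat 2 (2 * h) := by
  haveI : Fact (Nat.Prime 2) := ⟨Nat.prime_two⟩
  obtain ⟨N', t, hfac, hcong⟩ := arith_core q h (by omega)
  have hNpos := Nh_pos q h hq hh
  obtain ⟨d, hd⟩ : ∃ d, d = Nat.gcd (2 * h) (q + 1) := ⟨_, rfl⟩
  have hdpos : 0 < d := by
    rw [hd]
    exact Nat.gcd_pos_of_pos_right _ (by omega)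
  have hdq : d ∣ q + 1 := hd ▸ Nat.gcd_dvd_right _ _
  have hd2h : d ∣ 2 * h := hd ▸ Nat.gcd_dvd_left _ _
  have hdT : d ∣ N' * Nh q h := by
    have h1 := Cfsg.Agent.Lib.Carve.U7.gcd_dvd_even' hq h
    rw [← hd, ← hfac, mul_assoc, Nat.mul_div_cancel_left _ (by omega : 0 < q + 1)] at h1
    exact h1
  rw [← hd, ← hfac, mul_assoc, Nat.mul_div_mul_left _ _ (by omega : 0 < q + 1)] at hdvd
  obtain ⟨Q, hQ⟩ := hdT
  rw [hQ, Nat.mul_div_cancel_left _ hdpos] at hdvd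
  obtain ⟨k, rfl⟩ := hdvd
  have hN' : N' = d * k := by
    have h1 : N' * Nh q h = (d * k) * Nh q h := by rw [hQ]; ring
    exact Nat.eq_of_mul_eq_mul_right hNpos h1
  have hdh : d ∣ h := by
    apply Int.natCast_dvd_natCast.1
    have h1 : (d : ℤ) ∣ (N' : ℤ) := by
      rw [hN']
      push_cast
      exact dvd_mul_right _ _
    have h2 : (d : ℤ) ∣ (q : ℤ) + 1 := by exact_mod_cast hdq
    rcases hcong with h3 | h3
    · have h4 : (h : ℤ) = (N' : ℤ) - ((q : ℤ) + 1) * t := by rw [h3]; ring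
      rw [h4]
      exact dvd_sub h1 (h2.mul_right t)
    · have h4 : (h : ℤ) = ((q : ℤ) + 1) * t - (N' : ℤ) := by rw [h3]; ring
      rw [h4]
      exact dvd_sub (h2.mul_right t) h1
  rw [padicValNat.mul (by norm_num) (by omega), padicValNat_self]
  by_contra hcon
  have hlt : padicValNat 2 h + 1 ≤ padicValNat 2 (q + 1) := by omega
  have h1 : 2 ^ (padicValNat 2 h + 1) ∣ q + 1 :=
    (pow_dvd_pow 2 hlt).trans pow_padicValNat_dvd
  have h2 : 2 ^ (padicValNat 2 h + 1) ∣ 2 * h := by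
    rw [pow_succ']
    exact Nat.mul_dvd_mul_left 2 pow_padicValNat_dvd
  have h3 : 2 ^ (padicValNat 2 h + 1) ∣ d := by
    rw [hd]
    exact Nat.dvd_gcd h2 h1
  have h4 := (padicValNat_dvd_iff_le (by omega : h ≠ 0)).1 (h3.trans hdh)
  omega

theorem arith_bwd (q h : ℕ) (hq : 2 ≤ q) (hh : 1 ≤ h)
    (hv : padicValNat 2 (q + 1) < padicValNat 2 (2 * h)) :
    ∃ t : ℕ, ∀ j : ℕ, q ^ (2 * h) - 1 ∣ ((q + 1) * t * j) * (q + 1) ↔ Nh q h ∣ j := by
  haveI : Fact (Nat.Prime 2) := ⟨Nat.prime_two⟩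
  obtain ⟨N', t', hfac, hcong⟩ := arith_core q h (by omega)
  have hNpos := Nh_pos q h hq hh
  rw [padicValNat.mul (by norm_num) (by omega), padicValNat_self] at hv
  have h2ah : 2 ^ padicValNat 2 (q + 1) ∣ h :=
    (pow_dvd_pow 2 (by omega)).trans pow_padicValNat_dvd
  have hqpos : 0 < q ^ (2 * h) - 1 := by
    have : 2 ^ 1 ≤ q ^ (2 * h) :=
      (Nat.pow_le_pow_left hq 1).trans (Nat.pow_le_pow_right (by omega) (by omega))
    omega
  have hN'pos : 0 < N' := by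
    rcases Nat.eq_zero_or_pos N' with h0 | h0
    · rw [h0, mul_zero, zero_mul] at hfac
      omega
    · exact h0
  obtain ⟨d₀, hd₀⟩ : ∃ d, d = Nat.gcd h (q + 1) := ⟨_, rfl⟩
  have hd₀pos : 0 < d₀ := by
    rw [hd₀]
    exact Nat.gcd_pos_of_pos_left _ hh
  have hd₀h : d₀ ∣ h := hd₀ ▸ Nat.gcd_dvd_left _ _
  obtain ⟨e₁, he₁⟩ : d₀ ∣ q + 1 := hd₀ ▸ Nat.gcd_dvd_right _ _
  have hd₀N' : d₀ ∣ N' := by
    apply Int.natCast_dvd_natCast.1
    have h1 : (d₀ : ℤ) ∣ (h : ℤ) := by exact_mod_cast hd₀h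
    have h2 : (d₀ : ℤ) ∣ (q : ℤ) + 1 := by exact_mod_cast (Dvd.intro _ he₁.symm : d₀ ∣ q + 1)
    rcases hcong with h3 | h3
    · rw [h3]
      exact dvd_add h1 (h2.mul_right _)
    · rw [h3]
      exact dvd_add (dvd_neg.2 h1) (h2.mul_right _)
  obtain ⟨t, ht⟩ := hd₀N'
  have htpos : 0 < t := by
    rcases Nat.eq_zero_or_pos t with h0 | h0
    · rw [h0, mul_zero] at ht
      omega
    · exact h0
  have he₁odd : ¬ 2 ∣ e₁ := by
    intro h2
    have h1 : 2 ^ padicValNat 2 (q + 1) ∣ d₀ := by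
      rw [hd₀]
      exact Nat.dvd_gcd h2ah pow_padicValNat_dvd
    have h3 : 2 ^ (padicValNat 2 (q + 1) + 1) ∣ d₀ * e₁ := by
      rw [pow_succ]
      exact Nat.mul_dvd_mul h1 h2
    rw [← he₁] at h3
    have := (padicValNat_dvd_iff_le (by omega : q + 1 ≠ 0)).1 h3
    omega
  have hcop : Nat.Coprime (Nh q h) e₁ := by
    apply Nat.Coprime.symm
    rw [Nat.coprime_comm]
    apply Nat.coprime_of_dvd
    intro x hx hx1 hx2
    have h1 : x ∣ 2 := dvd_two_of_dvd_Nh q h x (by omega) hx1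
      (hx2.trans (Dvd.intro_left _ he₁.symm))
    rcases (Nat.dvd_prime Nat.prime_two).1 h1 with h2 | h2
    · rw [h2] at hx
      exact Nat.not_prime_one hx
    · rw [h2] at hx2
      exact he₁odd hx2
  refine ⟨t, fun j => ?_⟩
  rw [← hfac, ht]
  have h5 : (q + 1) * (d₀ * t) * Nh q h = ((q + 1) * t) * (d₀ * Nh q h) := by ring
  have h6 : (q + 1) * t * j * (q + 1) = ((q + 1) * t) * (j * (q + 1)) := by ring
  rw [h5, h6, Nat.mul_dvd_mul_iff_left (Nat.mul_pos (by omega) htpos)]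
  have h7 : j * (q + 1) = d₀ * (j * e₁) := by rw [he₁]; ring
  rw [h7, Nat.mul_dvd_mul_iff_left hd₀pos]
  exact hcop.dvd_mul_right

end Cfsg.Agent.Lib.Helper2.HalfTorus
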