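import Mathlib
import Cfsg.Agent.Lib.Helper2.HalfTorusB
import Cfsg.Agent.Lib.Helper2.CarveU5bc
import Cfsg.Agent.Lib.Helper2.CarveU3Core
import Cfsg.Agent.Lib.Lead.CarveU7
import Cfsg.Agent.S2904

/-!
# S2496, part C: a unitary matrix of projective order `N = q^h + (-1)^h` in `SU_{2h}(q)` lies in
the torus of order `q^(2h) - 1`; hence `N` divides `(q^(2h) - 1) / ((q + 1) gcd (2h, q + 1))`
-/

set_option autoImplicit false

namespace Cfsg.Agent.Lib.Helper2.HalfTorus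

open Polynomial Cfsg.Agent.S0278 Cfsg.Agent.Lib.Helper5.Wall Cfsg.Agent.Lib.Helper5.SUConj
  Cfsg.Agent.Lib.Helper5.SSOrder Cfsg.Agent.Lib.Helper5.Pal Cfsg.Agent.Lib.Helper9.CubeU

universe u

section poly

variable {K : Type*} [Field K]

/-- a squarefree polynomial not dividing `P` has a monic irreducible factor not dividing `P` -/
theorem exists_irr_not_dvd {μ P : K[X]} (hμ0 : μ ≠ 0) (hsq : Squarefree μ) (hnd : ¬ μ ∣ P) :
    ∃ f : K[X], f.Monic ∧ Irreducible f ∧ f ∣ μ ∧ ¬ f ∣ P := by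
  classical
  obtain ⟨H, hH⟩ : EuclideanDomain.gcd μ P ∣ μ := EuclideanDomain.gcd_dvd_left μ P
  have hH0 : H ≠ 0 := by
    rintro rfl
    rw [mul_zero] at hH
    exact hμ0 hH
  have hHu : ¬ IsUnit H := by
    intro hu
    apply hnd
    have h1 : EuclideanDomain.gcd μ P * H ∣ EuclideanDomain.gcd μ P :=
      (hu.mul_right_dvd).2 dvd_rfl
    rw [← hH] at h1
    exact h1.trans (EuclideanDomain.gcd_dvd_right μ P)
  obtain ⟨f₀, hirr, hf₀H⟩ := WfDvdMonoid.exists_irreducible_factor hHu hH0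
  have hf₀μ : f₀ ∣ μ := hf₀H.trans (Dvd.intro_left _ hH.symm)
  have hf₀P : ¬ f₀ ∣ P := by
    intro h1
    have h2 : f₀ ∣ EuclideanDomain.gcd μ P := EuclideanDomain.dvd_gcd hf₀μ h1
    have h3 : f₀ * f₀ ∣ μ := by
      have h4 : f₀ * f₀ ∣ EuclideanDomain.gcd μ P * H := mul_dvd_mul h2 hf₀H
      rwa [← hH] at h4
    exact hirr.not_isUnit (hsq f₀ h3)
  have hf₀0 : f₀ ≠ 0 := hirr.ne_zero
  have hu : IsUnit (C (f₀.leadingCoeff)⁻¹) :=
    isUnit_C.2 (IsUnit.mk0 _ (inv_ne_zero (leadingCoeff_ne_zero.2 hf₀0)))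
  refine ⟨f₀ * C (f₀.leadingCoeff)⁻¹, monic_mul_leadingCoeff_inv hf₀0,
    (irreducible_mul_isUnit hu).2 hirr, (hu.mul_right_dvd).2 hf₀μ, ?_⟩
  intro h1
  exact hf₀P ((hu.mul_right_dvd).1 h1)

end poly

section zsig

/-- a primitive prime divisor of `q^n - 1` divides `q^j - 1` only for multiples `j` of `n` -/
theorem dvd_of_ppd (q n r : ℕ) (hr : r.Prime) (hq0 : 0 < q) (hn : 0 < n) (hrd : r ∣ q ^ n - 1)
    (hrk : ∀ k : ℕ, 0 < k → k < n → ¬ r ∣ q ^ k - 1) (j : ℕ) (hj : r ∣ q ^ j - 1) : n ∣ j := by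
  haveI := Fact.mk hr
  have hi : orderOf ((q : ℕ) : ZMod r) = n := by
    rw [orderOf_eq_iff hn]
    constructor
    · have h1 : 1 ≤ q ^ n := Nat.one_le_pow _ _ hq0
      rw [← ZMod.natCast_eq_zero_iff, Nat.cast_sub h1, sub_eq_zero] at hrd
      simpa using hrd
    · intro k hk hk0 hcon
      apply hrk k hk0 hk
      have h1 : 1 ≤ q ^ k := Nat.one_le_pow _ _ hq0
      rw [← ZMod.natCast_eq_zero_iff, Nat.cast_sub h1, sub_eq_zero]
      simpa using hcon
  rw [← hi]
  apply orderOf_dvd_of_pow_eq_one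
  have h1 : 1 ≤ q ^ j := Nat.one_le_pow _ _ hq0
  rw [← ZMod.natCast_eq_zero_iff, Nat.cast_sub h1, sub_eq_zero] at hj
  simpa using hj

/-- the Zsigmondy prime for `N = q^h + (-1)^h` -/
theorem exists_zsig (q h : ℕ) (hq : Odd q) (hq3 : 3 ≤ q) (hh : 2 ≤ h) :
    ∃ r : ℕ, r.Prime ∧ r ∣ Nh q h ∧ r ≠ 2 ∧ ¬ r ∣ q ∧ ¬ r ∣ q + 1 ∧
      (∀ k : ℕ, r ∣ q ^ (2 * k) - 1 → h ∣ k) ∧ (Odd h → ¬ r ∣ q ^ h + 1) := by
  have hq0 : 0 < q := by omega
  have h2q1 : 2 ∣ q - 1 := (Nat.Odd.sub_odd hq odd_one).two_dvd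
  have hsq : q ^ 2 - 1 = (q + 1) * (q - 1) := by
    obtain ⟨b, rfl⟩ : ∃ b, q = b + 1 := ⟨q - 1, by omega⟩
    rw [Nat.add_sub_cancel]
    apply Nat.sub_eq_of_eq_add
    ring
  by_cases hev : Even h
  · obtain ⟨r, hr, hrd, hrk⟩ := Cfsg.Agent.S2904.result q (2 * h) (by omega) (by omega)
      (by
        rintro ⟨h1, -⟩
        subst h1
        exact absurd hq (by decide))
      (by rintro ⟨h1, -⟩; omega)
    have hqh : 1 ≤ q ^ h := Nat.one_le_pow _ _ hq0
    have hq2h : 1 ≤ q ^ (2 * h) := Nat.one_le_pow _ _ hq0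
    have hr1 : ¬ r ∣ q - 1 := by
      have := hrk 1 (by omega) (by omega)
      rwa [pow_one] at this
    refine ⟨r, hr, ?_, ?_, ?_, ?_, ?_, ?_⟩
    · unfold Nh
      rw [if_pos hev]
      have h1 : q ^ (2 * h) - 1 = (q ^ h - 1) * (q ^ h + 1) := by
        zify [hqh, hq2h]
        ring
      rw [h1] at hrd
      rcases (Nat.Prime.dvd_mul hr).1 hrd with h2 | h2
      · exact absurd h2 (hrk h (by omega) (by omega))
      · exact h2
    · rintro rfl
      exact hr1 h2q1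
    · intro h1
      have h2 : r ∣ q ^ (2 * h) := dvd_pow h1 (by omega)
      have h4 : r ∣ q ^ (2 * h) - (q ^ (2 * h) - 1) := Nat.dvd_sub h2 hrd
      rw [Nat.sub_sub_self hq2h] at h4
      exact hr.one_lt.ne' (Nat.dvd_one.1 h4)
    · intro h1
      apply hrk 2 (by omega) (by omega)
      rw [hsq]
      exact Dvd.dvd.mul_right h1 _
    · intro k hk
      have := dvd_of_ppd q (2 * h) r hr hq0 (by omega) hrd hrk (2 * k) hk
      exact (Nat.mul_dvd_mul_iff_left (by norm_num : 0 < 2)).1 this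
    · intro hodd
      exact absurd hev (Nat.not_even_iff_odd.2 hodd)
  · have hodd : Odd h := Nat.not_even_iff_odd.1 hev
    have hh3 : 3 ≤ h := by
      obtain ⟨k, hk⟩ := hodd
      omega
    obtain ⟨r, hr, hrd, hrk⟩ := Cfsg.Agent.S2904.result q h (by omega) (by omega)
      (by
        rintro ⟨h1, -⟩
        subst h1
        exact absurd hq (by decide))
      (by rintro ⟨h1, -⟩; omega)
    have hqh : 1 ≤ q ^ h := Nat.one_le_pow _ _ hq0
    have hr1 : ¬ r ∣ q - 1 := by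
      have := hrk 1 (by omega) (by omega)
      rwa [pow_one] at this
    have hr2 : r ≠ 2 := by
      rintro rfl
      exact hr1 h2q1
    refine ⟨r, hr, ?_, hr2, ?_, ?_, ?_, ?_⟩
    · unfold Nh
      rw [if_neg hev]
      exact hrd
    · intro h1
      have h2 : r ∣ q ^ h := dvd_pow h1 (by omega)
      have h4 : r ∣ q ^ h - (q ^ h - 1) := Nat.dvd_sub h2 hrd
      rw [Nat.sub_sub_self hqh] at h4
      exact hr.one_lt.ne' (Nat.dvd_one.1 h4)
    · intro h1
      apply hrk 2 (by omega) (by omega)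
      rw [hsq]
      exact Dvd.dvd.mul_right h1 _
    · intro k hk
      have h1 := dvd_of_ppd q h r hr hq0 (by omega) hrd hrk (2 * k) hk
      have h2 : Nat.Coprime h 2 := (Nat.coprime_two_right).2 hodd
      exact h2.dvd_of_dvd_mul_left h1
    · intro _ h1
      have h4 : r ∣ q ^ h + 1 - (q ^ h - 1) := Nat.dvd_sub h1 hrd
      have h5 : q ^ h + 1 - (q ^ h - 1) = 2 := by omega
      rw [h5] at h4
      rcases (Nat.dvd_prime Nat.prime_two).1 h4 with h6 | h6
      · exact hr.one_lt.ne' h6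
      · exact hr2 h6

end zsig

section unitary

variable {F : Type u} [Field F] [Fintype F] {q : ℕ}

theorem ct_zero' (hF : Fintype.card F = q ^ 2) {n : ℕ} :
    ct hF (0 : Matrix (Fin n) (Fin n) F) = 0 := by
  ext i j
  simp [ct]

/-- the minimal polynomial of a unitary matrix is conjugate-reciprocal -/
theorem dag_minpoly (hF : Fintype.card F = q ^ 2) {n : ℕ} (g : Matrix (Fin n) (Fin n) F)
    (hg : ct hF g * g = 1) (h0 : (minpoly F g).coeff 0 ≠ 0) :
    dag hF (minpoly F g) = minpoly F g := by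
  have hint : IsIntegral F g := Algebra.IsIntegral.isIntegral g
  have hmon : (minpoly F g).Monic := minpoly.monic hint
  have h0' : ((minpoly F g).map (powQ hF)).coeff 0 ≠ 0 := by
    rw [coeff_map]
    show ((minpoly F g).coeff 0) ^ q ≠ 0
    exact pow_ne_zero _ h0
  have h1 : aeval g (dag hF (minpoly F g)) = 0 := by
    rw [Cfsg.Agent.Lib.Helper2.U5.aeval_dag hF g hg, minpoly.aeval, ct_zero', zero_mul, smul_zero]
  have h2 : minpoly F g ∣ dag hF (minpoly F g) := minpoly.dvd F g h1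
  have h3 : (dag hF (minpoly F g)).Monic := rc_monic h0'
  have h4 : (dag hF (minpoly F g)).natDegree ≤ (minpoly F g).natDegree := by
    rw [dag, rc_natDegree h0', natDegree_map]
  exact eq_of_monic_of_dvd_of_natDegree_le hmon h3 h2 h4

theorem not_dvd_Nh (q h p : ℕ) (hp : p.Prime) (hpq : p ∣ q) (hq : 1 ≤ q) (hh : 1 ≤ h) :
    ¬ p ∣ Nh q h := by
  have hqh : 1 ≤ q ^ h := Nat.one_le_pow _ _ hq
  have h1 : p ∣ q ^ h := dvd_pow hpq (by omega)
  unfold Nh
  split_ifs
  · intro h2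
    have h3 : p ∣ q ^ h + 1 - q ^ h := Nat.dvd_sub h2 h1
    rw [Nat.add_sub_cancel_left] at h3
    exact hp.one_lt.ne' (Nat.dvd_one.1 h3)
  · intro h2
    have h3 : p ∣ q ^ h - (q ^ h - 1) := Nat.dvd_sub h1 h2
    rw [Nat.sub_sub_self hqh] at h3
    exact hp.one_lt.ne' (Nat.dvd_one.1 h3)

theorem forward_mat (hF : Fintype.card F = q ^ 2) (hodd : Odd q) (hq3 : 3 ≤ q) {h : ℕ}
    (hh : 2 ≤ h) (g : Matrix (Fin (2 * h)) (Fin (2 * h)) F) (hg : ct hF g * g = 1)
    (hdet : g.det = 1) (hord : ProjOrd g (Nh q h)) :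
    Nh q h ∣ (q ^ (2 * h) - 1) / ((q + 1) * Nat.gcd (2 * h) (q + 1)) := by
  classical
  obtain ⟨p, hpc⟩ := CharP.exists F
  haveI hpp : Fact p.Prime := ⟨CharP.char_is_prime F p⟩
  obtain ⟨e, he⟩ := exists_q_eq_pow hF p
  have hpq : p ∣ q := by
    rw [he]
    apply dvd_pow_self
    rintro rfl
    rw [pow_zero] at he
    omega
  obtain ⟨N, hN⟩ : ∃ N, N = Nh q h := ⟨_, rfl⟩
  rw [← hN] at hord ⊢
  have hNpos : 0 < N := hN ▸ Nh_pos q h (by omega) (by omega)
  obtain ⟨r, hr, hrN, hr2, hrq, hrq1, hrord, hrodd⟩ := exists_zsig q h hodd hq3 hh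
  haveI := Fact.mk hr
  rw [← hN] at hrN
  have i0 : Fin (2 * h) := ⟨0, by omega⟩
  -- `g ^ N = c • 1`
  obtain ⟨c, hc⟩ := (hord N).2 dvd_rfl
  have hc0 : c ≠ 0 := by
    rintro rfl
    rw [zero_smul] at hc
    have h1 := congrArg Matrix.det hc
    haveI : Nonempty (Fin (2 * h)) := ⟨i0⟩
    rw [Matrix.det_pow, hdet, one_pow, Matrix.det_zero] at h1
    exact one_ne_zero h1
  have hcq : c ^ (q + 1) = 1 := by
    have hB' : g * ct hF g = 1 := mul_eq_one_comm.1 hg
    have hcm : Commute (ct hF g) g := by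
      show _ = _
      rw [hg, hB']
    have h1 : ct hF (g ^ N) * g ^ N = 1 := by
      rw [Cfsg.Agent.Lib.Helper2.U3.ct_pow', ← hcm.mul_pow, hg, one_pow]
    rw [hc, ct_smul, ct_one, smul_mul_smul_comm, one_mul, ← pow_succ] at h1
    have h2 := congrFun (congrFun h1 i0) i0
    simpa using h2
  -- an `r`-th root of `c⁻¹`
  obtain ⟨a, har, haq⟩ : ∃ a : F, a ^ r = c⁻¹ ∧ a ^ (q + 1) = 1 := by
    have hcop : Nat.Coprime r (q + 1) := (Nat.Prime.coprime_iff_not_dvd hr).2 hrq1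
    obtain ⟨u, -, hu⟩ := Nat.exists_mul_mod_eq_one_of_coprime hcop (by omega : 1 < q + 1)
    refine ⟨(c⁻¹) ^ u, ?_, ?_⟩
    · rw [← pow_mul, mul_comm u r]
      have h1 : r * u = (q + 1) * (r * u / (q + 1)) + 1 := by
        have := Nat.div_add_mod (r * u) (q + 1)
        omega
      rw [h1, pow_succ, pow_mul, inv_pow, hcq, inv_one, one_pow, one_mul]
    · rw [← pow_mul, mul_comm, pow_mul, inv_pow, hcq, inv_one, one_pow]
  have ha0 : a ≠ 0 := by
    rintro rfl
    rw [zero_pow (by omega)] at haq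
    exact zero_ne_one haq
  obtain ⟨N₁, hN₁⟩ := hrN
  have hN₁pos : 0 < N₁ := by
    rcases Nat.eq_zero_or_pos N₁ with h0 | h0
    · rw [h0, mul_zero] at hN₁
      omega
    · exact h0
  have hN₁lt : N₁ < N := by
    rw [hN₁]
    have := hr.two_le
    nlinarith
  -- the minimal polynomial
  have hint : IsIntegral F g := Algebra.IsIntegral.isIntegral g
  obtain ⟨μ, hμ⟩ : ∃ μ, μ = minpoly F g := ⟨_, rfl⟩
  have hμmon : μ.Monic := hμ ▸ minpoly.monic hint
  have hμg : aeval g μ = 0 := by rw [hμ, minpoly.aeval]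
  have hμdvd : μ ∣ X ^ N - C c := by
    rw [hμ]
    apply minpoly.dvd
    rw [map_sub, map_pow, aeval_X, aeval_C, hc, Algebra.algebraMap_eq_smul_one, sub_self]
  have hNF : (N : F) ≠ 0 := by
    intro h1
    rw [CharP.cast_eq_zero_iff F p, hN] at h1
    exact not_dvd_Nh q h p hpp.out hpq (by omega) (by omega) h1
  have hsep : (X ^ N - C c : F[X]).Separable := separable_X_pow_sub_C c hNF hc0
  have hμsq : Squarefree μ := (hsep.of_dvd hμdvd).squarefree
  have hμ0 : μ.coeff 0 ≠ 0 := by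
    obtain ⟨w, hw⟩ := hμdvd
    intro h1
    have h2 := congrArg (fun P => P.coeff 0) hw
    simp only [mul_coeff_zero, h1, zero_mul] at h2
    rw [coeff_sub, coeff_X_pow, coeff_C_zero, if_neg (by omega), zero_sub] at h2
    exact hc0 (neg_eq_zero.1 h2)
  have hμdag : dag hF μ = μ := by
    rw [hμ]
    exact dag_minpoly hF g hg (hμ ▸ hμ0)
  have hμdeg : μ.natDegree ≤ 2 * h := hμ ▸ Cfsg.Agent.Lib.Helper2.U5.natDegree_minpoly_le g
  -- the polynomial `P`
  obtain ⟨P, hP⟩ : ∃ P : F[X], P = X ^ N₁ - C a⁻¹ := ⟨_, rfl⟩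
  have hμP : ¬ μ ∣ P := by
    intro h1
    have h2 : aeval g P = 0 := by
      obtain ⟨w, hw⟩ := h1
      rw [hw, map_mul, hμg, zero_mul]
    rw [hP, map_sub, map_pow, aeval_X, aeval_C, sub_eq_zero, Algebra.algebraMap_eq_smul_one] at h2
    have h3 := (hord N₁).1 ⟨a⁻¹, h2⟩
    exact absurd (Nat.le_of_dvd hN₁pos h3) (by omega)
  obtain ⟨f, hfmon, hfirr, hfμ, hfP⟩ := exists_irr_not_dvd hμmon.ne_zero hμsq hμP
  haveI : Fact (Irreducible f) := ⟨hfirr⟩
  have hf0 : f ≠ 0 := hfmon.ne_zero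
  have hfcoeff0 : f.coeff 0 ≠ 0 := by
    obtain ⟨w, hw⟩ := hfμ
    intro h1
    apply hμ0
    rw [hw, mul_coeff_zero, h1, zero_mul]
  have hfin : FiniteDimensional F (AdjoinRoot f) := (AdjoinRoot.powerBasis hf0).finite
  haveI : Finite (AdjoinRoot f) := Module.finite_of_finite F
  haveI : Fintype (AdjoinRoot f) := Fintype.ofFinite _
  have hfr : Module.finrank F (AdjoinRoot f) = f.natDegree := by
    rw [(AdjoinRoot.powerBasis hf0).finrank, AdjoinRoot.powerBasis_dim]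
  have hcardK : Fintype.card (AdjoinRoot f) = q ^ (2 * f.natDegree) := by
    rw [Module.card_eq_pow_finrank (K := F), hfr, hF, pow_mul]
  have hβf : aeval (AdjoinRoot.root f) f = 0 := by rw [AdjoinRoot.aeval_eq, AdjoinRoot.mk_self]
  have hβN : (AdjoinRoot.root f) ^ N = algebraMap F (AdjoinRoot f) c := by
    obtain ⟨w, hw⟩ := hfμ.trans hμdvd
    have h1 := congrArg (aeval (AdjoinRoot.root f)) hw
    rw [map_mul, hβf, zero_mul, map_sub, map_pow, aeval_X, aeval_C, sub_eq_zero] at h1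
    exact h1
  obtain ⟨ε, hε⟩ : ∃ ε : AdjoinRoot f,
      ε = (AdjoinRoot.root f) ^ N₁ * algebraMap F (AdjoinRoot f) a := ⟨_, rfl⟩
  have hεr : ε ^ r = 1 := by
    rw [hε, mul_pow, ← pow_mul, mul_comm N₁ r, ← hN₁, hβN, ← map_pow, har, ← map_mul,
      mul_inv_cancel₀ hc0, map_one]
  have hε1 : ε ≠ 1 := by
    intro h1
    apply hfP
    have h2 : aeval (AdjoinRoot.root f) P = 0 := by
      rw [hP, map_sub, map_pow, aeval_X, aeval_C, map_inv₀, sub_eq_zero]
      rw [hε] at h1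
      exact eq_inv_of_mul_eq_one_left h1
    rw [AdjoinRoot.aeval_eq, AdjoinRoot.mk_eq_zero] at h2
    exact h2
  have hεord : orderOf ε = r := orderOf_eq_prime hεr hε1
  have hε0 : ε ≠ 0 := by
    intro h1
    rw [h1, zero_pow hr.ne_zero] at hεr
    exact zero_ne_one hεr
  have hrdvd : r ∣ q ^ (2 * f.natDegree) - 1 := by
    rw [← hεord, ← hcardK]
    exact orderOf_dvd_of_pow_eq_one (FiniteField.pow_card_sub_one_eq_one ε hε0)
  have hhf : h ∣ f.natDegree := hrord _ hrdvd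
  have hfdeg_pos : 0 < f.natDegree := hfirr.natDegree_pos
  have hfdeg_le : f.natDegree ≤ μ.natDegree := natDegree_le_of_dvd hfμ hμmon.ne_zero
  -- the conjugate reciprocal factor
  have h0' : (f.map (powQ hF)).coeff 0 ≠ 0 := by
    rw [coeff_map]
    show (f.coeff 0) ^ q ≠ 0
    exact pow_ne_zero _ hfcoeff0
  have hdfmon : (dag hF f).Monic := rc_monic h0'
  have hdfdeg : (dag hF f).natDegree = f.natDegree := by
    rw [dag, rc_natDegree h0', natDegree_map]
  have hdfμ : dag hF f ∣ μ := by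
    obtain ⟨w, hw⟩ := hfμ
    have h1 : dag hF μ = dag hF f * dag hF w := by rw [hw, dag_mul]
    rw [hμdag] at h1
    exact Dvd.intro _ h1.symm
  by_cases hdag : dag hF f = f
  · exfalso
    obtain ⟨hoddf, hβq⟩ := Cfsg.Agent.Lib.Carve.U7.root_self hF f hfmon hfcoeff0 hdag
    obtain ⟨k, hk⟩ := hhf
    have hle : f.natDegree ≤ 2 * h := le_trans hfdeg_le hμdeg
    have hk1 : k = 1 := by
      rcases k with _ | _ | _ | k
      · omega
      · rfl
      · exfalso
        rw [hk] at hoddf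
        exact (Nat.not_even_iff_odd.2 hoddf) ⟨h, by ring⟩
      · exfalso
        rw [hk] at hle
        nlinarith
    rw [hk1, mul_one] at hk
    have hhodd : Odd h := hk ▸ hoddf
    have h2 : ε ^ (q ^ h + 1) = 1 := by
      obtain ⟨w, hw⟩ := Odd.nat_add_dvd_pow_add_pow q 1 hhodd
      rw [one_pow] at hw
      rw [hε, mul_pow, ← pow_mul, mul_comm N₁, pow_mul, ← hk, hβq, one_pow, one_mul, ← map_pow,
        hk, hw, pow_mul, haq, one_pow, map_one]
    have h3 : r ∣ q ^ h + 1 := by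
      rw [← hεord]
      exact orderOf_dvd_of_pow_eq_one h2
    exact hrodd hhodd h3
  · have hcop : IsCoprime f (dag hF f) := by
      rw [hfirr.coprime_iff_not_dvd]
      intro hd
      exact hdag (eq_of_monic_of_dvd_of_natDegree_le hfmon hdfmon hd hdfdeg.le)
    have hprod : f * dag hF f ∣ μ := hcop.mul_dvd hfμ hdfμ
    have hdeg2 : 2 * f.natDegree ≤ μ.natDegree := by
      have := natDegree_le_of_dvd hprod hμmon.ne_zero
      rwa [natDegree_mul hf0 hdfmon.ne_zero, hdfdeg, ← two_mul] at this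
    have hfh : f.natDegree = h := by
      obtain ⟨k, hk⟩ := hhf
      have hle : 2 * f.natDegree ≤ 2 * h := le_trans hdeg2 hμdeg
      rcases k with _ | _ | k
      · omega
      · omega
      · exfalso
        rw [hk] at hle
        nlinarith
    have hμeq : μ = f * dag hF f := by
      refine eq_of_monic_of_dvd_of_natDegree_le (hfmon.mul hdfmon) hμmon hprod ?_
      rw [natDegree_mul hf0 hdfmon.ne_zero, hdfdeg]
      omega
    obtain ⟨c', hc'⟩ := Cfsg.Agent.Lib.Carve.U7.torus_pair hF (by omega) g hdet f hfmon hfirr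
      hfcoeff0 hdag (hμ ▸ hμeq) (by omega)
    exact (hord _).1 ⟨c', hc'⟩

end unitary

end Cfsg.Agent.Lib.Helper2.HalfTorus
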