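import Mathlib
import Cfsg.Agent.Lib.Helper2.HalfTorusA
import Cfsg.Agent.Lib.Helper2.HalfTorusB
import Cfsg.Agent.Lib.Lead.CarveU3a

/-!
# S2496, part D: the element of projective order `q^h + (-1)^h` in `SU_{2h}(q)`
-/

set_option autoImplicit false

namespace Cfsg.Agent.Lib.Helper2.HalfTorus

open Polynomial Cfsg.Agent.S0278 Cfsg.Agent.Lib.Helper5.Wall Cfsg.Agent.Lib.Helper5.SUConj
  Cfsg.Agent.Lib.Helper5.SSOrder Cfsg.Agent.Lib.Helper5.Pal Cfsg.Agent.Lib.Helper9.CubeU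
  Cfsg.Agent.Lib.Helper2.U3

universe u

variable {F : Type u} [Field F] [Fintype F] {q : ℕ}

/-- the unitary matrix of order `q^(2h) - 1` whose `k`-th power is scalar iff
`q^(2h) - 1 ∣ k (q + 1)` -/
theorem exists_B (hF : Fintype.card F = q ^ 2) (hq3 : 3 ≤ q) {h : ℕ} (hh : 1 ≤ h) :
    ∃ B : Matrix (Fin (2 * h)) (Fin (2 * h)) F, ct hF B * B = 1 ∧ B ^ (q ^ (2 * h) - 1) = 1 ∧
      (∀ k : ℕ, ∀ c : F, B ^ k = c • (1 : Matrix (Fin (2 * h)) (Fin (2 * h)) F) →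
        q ^ (2 * h) - 1 ∣ k * (q + 1)) ∧
      (∀ T : ℕ, q ^ (2 * h) - 1 ∣ T * (q + 1) →
        ∃ c : F, B ^ T = c • (1 : Matrix (Fin (2 * h)) (Fin (2 * h)) F)) := by
  obtain ⟨p, hpc⟩ := CharP.exists F
  haveI hpp : Fact p.Prime := ⟨CharP.char_is_prime F p⟩
  have hqd1 : 1 ≤ q ^ (2 * h) := Nat.one_le_pow _ _ (by omega)
  refine torus_B hF p h (2 * h) (q ^ (2 * h) - 1) hh (by omega) dvd_rfl ?_ ?_
    (fun h1 h2 f hf hdeg hdvd hdag =>
      Cfsg.Agent.Lib.Carve.U3.exists_unitary_of_charpoly hF p (q ^ (2 * h) - 1) h1 h2 f hf hdeg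
        hdvd hdag)
  · rw [(even_two_mul h).neg_pow]
    refine ⟨1, ?_⟩
    rw [Nat.cast_sub hqd1]
    push_cast
    ring
  · intro k hk0 hkd hdvd
    have hA : q ^ k ≤ q ^ (2 * h - 1) := Nat.pow_le_pow_right (by omega) (by omega)
    have hA2 : q ^ (2 * h) = q * q ^ (2 * h - 1) := by
      rw [← pow_succ', Nat.sub_add_cancel (by omega)]
    have hA3 : q ^ 1 ≤ q ^ (2 * h - 1) := Nat.pow_le_pow_right (by omega) (by omega)
    rw [pow_one] at hA3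
    have hlt : q ^ k + 2 < q ^ (2 * h) := by
      rw [hA2]
      nlinarith
    have h1 : |(-(q : ℤ)) ^ k - 1| < ((q ^ (2 * h) - 1 : ℕ) : ℤ) := by
      have h2 : |(-(q : ℤ)) ^ k - 1| ≤ |(-(q : ℤ)) ^ k| + |(1 : ℤ)| := abs_sub _ _
      have h3 : |(-(q : ℤ)) ^ k| = (q : ℤ) ^ k := by
        rw [abs_pow, abs_neg, Nat.abs_cast]
      have h4 : ((q ^ k + 2 : ℕ) : ℤ) < ((q ^ (2 * h) : ℕ) : ℤ) := by exact_mod_cast hlt
      rw [h3, abs_one] at h2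
      rw [Nat.cast_sub hqd1]
      push_cast at h4 ⊢
      linarith
    have h5 := Int.eq_zero_of_abs_lt_dvd hdvd h1
    have h6 : |(-(q : ℤ)) ^ k| = 1 := by
      rw [sub_eq_zero.1 h5, abs_one]
    rw [abs_pow, abs_neg, Nat.abs_cast] at h6
    have h7 : (2 : ℤ) ^ 1 ≤ (q : ℤ) ^ k := by
      calc (2 : ℤ) ^ 1 ≤ (2 : ℤ) ^ k := pow_le_pow_right₀ (by norm_num) hk0
        _ ≤ (q : ℤ) ^ k := pow_le_pow_left₀ (by norm_num) (by exact_mod_cast (by omega : 2 ≤ q)) k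
    rw [h6] at h7
    norm_num at h7

theorem backward_mat (hF : Fintype.card F = q ^ 2) (hq3 : 3 ≤ q) {h : ℕ} (hh : 1 ≤ h)
    (hv : padicValNat 2 (q + 1) < padicValNat 2 (2 * h)) :
    ∃ g : Matrix (Fin (2 * h)) (Fin (2 * h)) F, ct hF g * g = 1 ∧ g.det = 1 ∧
      ProjOrd g (Nh q h) := by
  obtain ⟨B, hB1, hB2, hB3, hB4⟩ := exists_B hF hq3 hh
  obtain ⟨t, ht⟩ := arith_bwd q h (by omega) hh hv
  have hB' : B * ct hF B = 1 := mul_eq_one_comm.1 hB1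
  have hc : Commute (ct hF B) B := by
    show _ = _
    rw [hB1, hB']
  refine ⟨B ^ ((q + 1) * t), ?_, ?_, ?_⟩
  · rw [ct_pow', ← hc.mul_pow, hB1, one_pow]
  · rw [Matrix.det_pow, pow_mul, pow_succ, ← det_ct hF, ← Matrix.det_mul, hB1, Matrix.det_one,
      one_pow]
  · intro j
    rw [← pow_mul]
    constructor
    · rintro ⟨c, hc⟩
      exact (ht j).1 (hB3 _ c hc)
    · intro hj
      exact hB4 _ ((ht j).2 hj)

end Cfsg.Agent.Lib.Helper2.HalfTorus
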