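import Cfsg.Agent.Lib.Helper2.HeOutC
import Cfsg.Agent.Lib.Helper6.Mult.HeA

set_option autoImplicit false
set_option maxRecDepth 100000

/-! # The presented group `He` on 2058 points: two verified stabilizer chains -/

namespace Cfsg.Agent.Lib.Helper2.HeOut

open Cfsg.Agent.Lib.Helper6 Cfsg.Agent.Lib.Helper6.TC Cfsg.Agent.Lib.Helper6.TCD
open Cfsg.Agent.Lib.Helper6.PM Cfsg.Agent.Lib.Helper2.PMS Cfsg.Agent.Lib.Helper2.PMC
open Cfsg.Agent.Lib.Helper2.HeOutD

/-- the model -/
noncomputable abbrev M : PModel := Cfsg.Agent.Lib.Helper6.HeM.heModel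

instance finite_G : Finite M.G := Cfsg.Agent.Lib.Helper6.HeM.finite_He

theorem card_G : Nat.card M.G = 4030387200 := Cfsg.Agent.Lib.Helper6.HeM.card_He

theorem chk_inv : chkInvLetters M = true := by decide +kernel

theorem invMap : InvMap M id := invMap_id_of_chk M chk_inv

theorem chk_lvA : chkLevels M [] lvA = true := by decide +kernel

theorem factsA : ChainFacts M lvA where
  hchk := chk_lvA
  hcard := by
    rw [card_G]
    decide +kernel

theorem chk_lvB : chkLevels M [] lvB = true := by decide +kernel

theorem factsB : ChainFacts M lvB where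
  hchk := chk_lvB
  hcard := by
    rw [card_G]
    decide +kernel

end Cfsg.Agent.Lib.Helper2.HeOut
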