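import Cfsg.Agent.Lib.Helper2.HeOut2

set_option autoImplicit false
set_option maxRecDepth 100000

/-! # The presented group `He`: the elements inverting an element of order 8 -/

namespace Cfsg.Agent.Lib.Helper2.HeOut

open Cfsg.Agent.Lib.Helper6 Cfsg.Agent.Lib.Helper6.TC Cfsg.Agent.Lib.Helper6.TCD
open Cfsg.Agent.Lib.Helper6.PM Cfsg.Agent.Lib.Helper2.PMS Cfsg.Agent.Lib.Helper2.PMC
open Cfsg.Agent.Lib.Helper2.HeOutD Cfsg.Agent.Lib.Helper2.RigidOut

theorem chk_vh : chkBaseL M lvA (invw id wv ++ wh ++ wv) (rep 7 wh) = true := by decide +kernel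

theorem rel_vh : gv⁻¹ * gh * gv = gh ^ 7 := by
  rw [gv_inv, gh_pow]
  unfold gv gh
  rw [← M.elt_append, ← M.elt_append]
  exact factsA.elt_eq_of_chk _ _ chk_vh

theorem chk_srcB : chkSrc M wh [] lvB = true := by decide +kernel

theorem chk_certH7 : chk M id wh (rep 7 wh) certH7 lvB (pendOf lvB) [] [] = true := by
  decide +kernel

/-- the words of the elements inverting the element of order 8 -/
def candW : List (List ℕ) :=
  (List.range 8).flatMap fun i => (List.range 2).map fun j => wv ++ rep i wh ++ rep j wt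

theorem leaves_certH7 : leavesIn certH7 candW = true := by decide +kernel

/-- the elements inverting the element of order 8 -/
theorem inverting_gh (c : M.G) (hc : c⁻¹ * gh * c = gh ^ 7) :
    ∃ i < 8, ∃ j < 2, c = gv * gh ^ i * gt ^ j := by
  rw [gh_pow] at hc
  obtain ⟨z, hz, hcz⟩ := factsB.search id invMap wh (rep 7 wh) (by decide) (by decide) chk_srcB certH7
    chk_certH7 c hc
  have h1 := mem_of_leavesIn leaves_certH7 z hz
  unfold candW at h1
  rw [List.mem_flatMap] at h1
  obtain ⟨i, hi, h2⟩ := h1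
  rw [List.mem_map] at h2
  obtain ⟨j, hj, rfl⟩ := h2
  refine ⟨i, List.mem_range.mp hi, j, List.mem_range.mp hj, ?_⟩
  rw [hcz, M.elt_append, M.elt_append, gh_pow, gt_pow]
  rfl

end Cfsg.Agent.Lib.Helper2.HeOut
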