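import Cfsg.Agent.Lib.Helper2.PMStab6
import Cfsg.Agent.Lib.Helper6.TC11

set_option autoImplicit false

/-! # Permutation models: the automorphism induced by a permutation of the points given by a table
which normalizes the group -/

namespace Cfsg.Agent.Lib.Helper2.PMS

open Cfsg.Agent.Lib.Helper6.TC Cfsg.Agent.Lib.Helper6.PM

variable (M : PModel) (tau tauInv : ℕ → ℕ) (B : List (List ℕ))

/-- the table conjugates the letter `c` to the element of the word `B c` -/
noncomputable def chkConj (c : ℕ) : Bool :=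
  allB (fun q => Nat.beq (tau (M.px c q)) (wappS M.px (B.getD c []) (tau q))) M.n

/-- the hypotheses on a table normalizing the group -/
structure ConjFacts : Prop where
  hcol : chkCol tau tauInv M.n = true
  hB : chkLetters M B = true
  hlen : B.length = M.nl
  hconj : ∀ c < M.nl, chkConj M tau B c = true

variable {M tau tauInv B}

namespace ConjFacts

variable (F : ConjFacts M tau tauInv B)
include F

theorem tau_lt (q : ℕ) (hq : q < M.n) : tau q < M.n := (chkCol_spec F.hcol q hq).1

theorem tau_inj (q q' : ℕ) (hq : q < M.n) (hq' : q' < M.n) (h : tau q = tau q') : q = q' := by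
  have h1 := (chkCol_spec F.hcol q hq).2
  have h2 := (chkCol_spec F.hcol q' hq').2
  rw [h] at h1
  exact h1.symm.trans h2

/-- the permutation of the points -/
noncomputable def perm : Equiv.Perm (Fin M.n) :=
  Equiv.ofBijective (fun q => ⟨tau q.val, F.tau_lt q.val q.isLt⟩) (by
    apply Finite.injective_iff_bijective.mp
    intro q q' h
    apply Fin.ext
    exact F.tau_inj q.val q'.val q.isLt q'.isLt (congrArg Fin.val h))

theorem perm_val (q : Fin M.n) : (F.perm q).val = tau q.val := rfl

theorem lt_B (c : ℕ) (hc : c < M.nl) : ∀ c' ∈ B.getD c [], c' < M.nl := by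
  have h := letters_of_chk M B F.hB
  have hc' : c < B.length := by rw [F.hlen]; exact hc
  rw [List.getD_eq_getElem _ _ hc']
  exact h _ (List.getElem_mem _)

/-- the conjugate of the image of a letter -/
theorem conj_letter (c : ℕ) (hc : c < M.nl) :
    F.perm * M.phi (M.elt [c]) * F.perm⁻¹ = M.phi (M.elt (B.getD c [])) := by
  have hcl : ∀ c' ∈ [c], c' < M.nl := by
    intro c' hc'
    rw [List.mem_singleton.mp hc']
    exact hc
  have key : ∀ q : Fin M.n, F.perm ((M.phi (M.elt [c]))⁻¹ q) = (M.phi (M.elt (B.getD c [])))⁻¹ (F.perm q) := by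
    intro q
    apply Fin.ext
    rw [F.perm_val, M.phi_inv_val [c] hcl, M.phi_inv_val _ (F.lt_B c hc), F.perm_val]
    have h := allB_spec (F.hconj c hc) q.val q.isLt
    rw [Nat.beq_eq, wappS_eq] at h
    exact h
  have e1 : F.perm * (M.phi (M.elt [c]))⁻¹ = (M.phi (M.elt (B.getD c [])))⁻¹ * F.perm := by
    ext q
    exact congrArg Fin.val (key q)
  have e2 : (M.phi (M.elt (B.getD c [])))⁻¹ = F.perm * (M.phi (M.elt [c]))⁻¹ * F.perm⁻¹ := by
    rw [e1]; group
  have e3 : M.phi (M.elt (B.getD c [])) = (F.perm * (M.phi (M.elt [c]))⁻¹ * F.perm⁻¹)⁻¹ := by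
    rw [← e2, inv_inv]
  rw [e3]
  group

/-- the conjugated representation -/
noncomputable def psi : M.G →* Equiv.Perm (Fin M.n) :=
  (MulAut.conj F.perm).toMonoidHom.comp M.phi

theorem psi_apply (g : M.G) : F.psi g = F.perm * M.phi g * F.perm⁻¹ := rfl

theorem psi_mem (g : M.G) : F.psi g ∈ M.phi.range := by
  have hg : g ∈ Subgroup.closure {g : M.G | ∃ c < M.nl, g = M.elt [c]} := by
    rw [M.closure_letters]; exact Subgroup.mem_top g
  induction hg using Subgroup.closure_induction with
  | mem x hx =>
    obtain ⟨c, hc, rfl⟩ := hx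
    rw [psi_apply, F.conj_letter c hc]
    exact ⟨_, rfl⟩
  | one => rw [map_one]; exact Subgroup.one_mem _
  | mul x y _ _ hx hy => rw [map_mul]; exact Subgroup.mul_mem _ hx hy
  | inv x _ hx => rw [map_inv]; exact Subgroup.inv_mem _ hx

/-- the endomorphism -/
noncomputable def end0 : M.G →* M.G :=
  (MonoidHom.ofInjective M.phi_injective).symm.toMonoidHom.comp
    (F.psi.codRestrict M.phi.range F.psi_mem)

theorem phi_end0 (g : M.G) : M.phi (F.end0 g) = F.perm * M.phi g * F.perm⁻¹ := by
  unfold end0
  rw [MonoidHom.comp_apply]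
  have := MonoidHom.apply_ofInjective_symm M.phi_injective (F.psi.codRestrict M.phi.range F.psi_mem g)
  rw [MulEquiv.coe_toMonoidHom, this]
  rfl

theorem end0_injective : Function.Injective F.end0 := by
  intro g g' h
  have h1 := F.phi_end0 g
  rw [h, F.phi_end0 g'] at h1
  apply M.phi_injective
  have h2 : F.perm⁻¹ * (F.perm * M.phi g' * F.perm⁻¹) * F.perm =
      F.perm⁻¹ * (F.perm * M.phi g * F.perm⁻¹) * F.perm := by rw [h1]
  have e : ∀ z : Equiv.Perm (Fin M.n), F.perm⁻¹ * (F.perm * z * F.perm⁻¹) * F.perm = z := by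
    intro z; group
  rw [e, e] at h2
  exact h2.symm

/-- the automorphism -/
noncomputable def aut : MulAut M.G :=
  MulEquiv.ofBijective F.end0 (Finite.injective_iff_bijective.mp F.end0_injective)

theorem aut_letter (c : ℕ) (hc : c < M.nl) : F.aut (M.elt [c]) = M.elt (B.getD c []) := by
  apply M.phi_injective
  show M.phi (F.end0 (M.elt [c])) = _
  rw [F.phi_end0, F.conj_letter c hc]

theorem aut_elt (w : List ℕ) (hw : ∀ c ∈ w, c < M.nl) : F.aut (M.elt w) = M.elt (expand B w) := by
  induction w with
  | nil => rw [expand_nil, M.elt_nil, map_one]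
  | cons c w ih =>
    rw [M.elt_cons, map_mul, F.aut_letter c (hw c List.mem_cons_self),
      ih (fun c' hc' => hw c' (List.mem_cons_of_mem _ hc')), expand_cons, M.elt_append]

end ConjFacts

end Cfsg.Agent.Lib.Helper2.PMS
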