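import Cfsg.Agent.Lib.Helper2.HeOut3
import Cfsg.Agent.Lib.Helper2.HeOutT
import Cfsg.Agent.Lib.Helper2.PMConj

set_option autoImplicit false
set_option maxRecDepth 100000

/-! # The presented group `He`: the outer automorphism -/

namespace Cfsg.Agent.Lib.Helper2.HeOut

open Cfsg.Agent.Lib.Helper6 Cfsg.Agent.Lib.Helper6.TC Cfsg.Agent.Lib.Helper6.TCD
open Cfsg.Agent.Lib.Helper6.PM Cfsg.Agent.Lib.Helper2.PMS Cfsg.Agent.Lib.Helper2.PMC
open Cfsg.Agent.Lib.Helper2.HeOutD Cfsg.Agent.Lib.Helper2.RigidOut

theorem chk_col : chkCol tau tauInv M.n = true := by decide +kernel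
theorem chk_B : chkLetters M Bw = true := by decide +kernel
theorem chk_conj0 : chkConj M tau Bw 0 = true := by decide +kernel
theorem chk_conj1 : chkConj M tau Bw 1 = true := by decide +kernel
theorem chk_conj2 : chkConj M tau Bw 2 = true := by decide +kernel
theorem chk_conj3 : chkConj M tau Bw 3 = true := by decide +kernel
theorem chk_conj4 : chkConj M tau Bw 4 = true := by decide +kernel
theorem chk_conj5 : chkConj M tau Bw 5 = true := by decide +kernel
theorem chk_conj6 : chkConj M tau Bw 6 = true := by decide +kernel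

theorem conjFacts : ConjFacts M tau tauInv Bw where
  hcol := chk_col
  hB := chk_B
  hlen := by decide
  hconj := by
    intro c hc
    have hc' : c < 7 := hc
    interval_cases c
    · exact chk_conj0
    · exact chk_conj1
    · exact chk_conj2
    · exact chk_conj3
    · exact chk_conj4
    · exact chk_conj5
    · exact chk_conj6

/-- the outer automorphism -/
noncomputable def beta : MulAut M.G := conjFacts.aut

theorem chk_bp : chkBaseL M lvA (expand Bw wp) (rep 3 wp) = true := by decide +kernel
theorem chk_bh : chkBaseL M lvA (expand Bw wh) wh = true := by decide +kernel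
theorem chk_bv : chkBaseL M lvA (expand Bw wv) (wv ++ rep 5 wh) = true := by decide +kernel

theorem beta_gp : beta gp = gp ^ 3 := by
  rw [gp_pow]
  unfold gp beta
  rw [conjFacts.aut_elt wp lt_wp]
  exact factsA.elt_eq_of_chk _ _ chk_bp

theorem beta_gh : beta gh = gh := by
  unfold gh beta
  rw [conjFacts.aut_elt wh lt_wh]
  exact factsA.elt_eq_of_chk _ _ chk_bh

theorem beta_gv : beta gv = gv * gh ^ 5 := by
  rw [gh_pow]
  unfold gv beta
  rw [conjFacts.aut_elt wv lt_wv, ← M.elt_append]
  exact factsA.elt_eq_of_chk _ _ chk_bv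

end Cfsg.Agent.Lib.Helper2.HeOut
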