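import Cfsg.Agent.Lib.Helper2.HeOut4

set_option autoImplicit false
set_option maxRecDepth 100000

/-! # The outer automorphism group of the presented group `He` has order two -/

namespace Cfsg.Agent.Lib.Helper2.HeOut

open Cfsg.Agent.Lib.Helper6 Cfsg.Agent.Lib.Helper6.TC Cfsg.Agent.Lib.Helper6.TCD
open Cfsg.Agent.Lib.Helper6.PM Cfsg.Agent.Lib.Helper2.PMS Cfsg.Agent.Lib.Helper2.PMC
open Cfsg.Agent.Lib.Helper2.HeOutD Cfsg.Agent.Lib.Helper2.RigidOut

/-- the three generators and the inverses of the first two -/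
def ws5 : List (List ℕ) := [wp, wh, wv, invw id wp, invw id wh]

theorem chk_gen : chkGenL M lvA ws5 Wl = true := by decide +kernel

theorem closure_gens : Subgroup.closure ({gp, gh, gv} : Set M.G) = ⊤ := by
  have h3 := factsA.subH_eq_top ws5 Wl chk_gen
  rw [eq_top_iff, ← h3]
  unfold Cfsg.Agent.Lib.Helper6.PM.subH
  rw [Subgroup.closure_le]
  rintro g ⟨i, hi, rfl⟩
  have hi' : i < 5 := hi
  have hp : gp ∈ Subgroup.closure ({gp, gh, gv} : Set M.G) := Subgroup.subset_closure (by simp)
  have hh : gh ∈ Subgroup.closure ({gp, gh, gv} : Set M.G) := Subgroup.subset_closure (by simp)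
  have hv : gv ∈ Subgroup.closure ({gp, gh, gv} : Set M.G) := Subgroup.subset_closure (by simp)
  interval_cases i
  · exact hp
  · exact hh
  · exact hv
  · show M.elt (invw id wp) ∈ _
    rw [← gp_inv]
    exact Subgroup.inv_mem _ hp
  · show M.elt (invw id wh) ∈ _
    rw [← gh_inv]
    exact Subgroup.inv_mem _ hh

theorem det (γ δ : MulAut M.G) (h1 : γ gp = δ gp) (h2 : γ gh = δ gh) (h3 : γ gv = δ gv) : γ = δ := by
  have : γ.toMonoidHom = δ.toMonoidHom := by
    apply MonoidHom.eq_of_eqOn_dense closure_gens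
    intro x hx
    rcases hx with rfl | rfl | rfl
    · exact h1
    · exact h2
    · exact h3
  ext x
  exact DFunLike.congr_fun this x

/-! ## The elimination of the other candidates -/

/-- the three generators -/
def ws3 : List (List ℕ) := [wp, wh, wv]

/-- the images of the three generators under a hypothetical automorphism -/
def ws3' (ε i j : ℕ) : List (List ℕ) := [rep ε wp, wh, wv ++ rep i wh ++ rep j wt]

/-- a relator -/
def R0 : List ℕ := [0, 0, 1, 0, 2, 0, 0, 1, 0, 2]
/-- a relator -/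
def R1 : List ℕ := rep 8 [0, 0, 0, 2]

theorem lt_R0 : ∀ c ∈ R0, c < 3 := by decide
theorem lt_R1 : ∀ c ∈ R1, c < 3 := by decide

theorem chk_R0 : chkBaseL M lvA (expand ws3 R0) [] = true := by decide +kernel
theorem chk_R1 : chkBaseL M lvA (expand ws3 R1) [] = true := by decide +kernel

theorem elim (α : MulAut M.G) (ε i j : ℕ) (hp : α gp = gp ^ ε) (hh : α gh = gh)
    (hv : α gv = gv * gh ^ i * gt ^ j) (R : List ℕ) (hRl : ∀ c ∈ R, c < 3)
    (hR : chkBaseL M lvA (expand ws3 R) [] = true) (q : ℕ)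
    (hne : chkNeAt M (expand (ws3' ε i j) R) [] q = true) : False := by
  have hf : ∀ k < ws3.length, α.toMonoidHom (M.elt (ws3.getD k [])) = M.elt ((ws3' ε i j).getD k []) := by
    intro k hk
    have hk' : k < 3 := hk
    interval_cases k
    · show α gp = M.elt (rep ε wp)
      rw [hp, gp_pow]
    · exact hh
    · show α gv = M.elt (wv ++ rep i wh ++ rep j wt)
      rw [hv, M.elt_append, M.elt_append, gh_pow, gt_pow]
      rfl
  have h1 := map_elt_expand (M := M) α.toMonoidHom ws3 (ws3' ε i j) hf R hRl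
  rw [factsA.elt_eq_of_chk _ _ hR, M.elt_nil, map_one] at h1
  have h2 := elt_ne_of_chkNeAt (M := M) _ _ _ hne
  rw [M.elt_nil] at h2
  exact h2 h1.symm

/-! ## The classification of the normalized automorphisms -/

theorem hclass (α : MulAut M.G) (ε : ℕ) (hε : ε ∈ [1, 3]) (hp : α gp = gp ^ ε) (hh : α gh = gh) :
    α = 1 ∨ α = beta := by
  have hc : (α gv)⁻¹ * gh * α gv = gh ^ 7 := by
    have := congrArg α rel_vh
    rw [map_mul, map_mul, map_inv, map_pow, hh] at this
    exact this
  obtain ⟨i, hi, j, hj, hv⟩ := inverting_gh (α gv) hc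
  simp only [List.mem_cons, List.not_mem_nil, or_false] at hε
  rcases hε with rfl | rfl
  · interval_cases i <;> interval_cases j
    · left
      rw [pow_one] at hp
      rw [pow_zero, pow_zero, mul_one, mul_one] at hv
      exact det α 1 hp hh hv
    · exact (elim α 1 0 1 hp hh hv R0 lt_R0 chk_R0 0 (by decide +kernel)).elim
    · exact (elim α 1 1 0 hp hh hv R1 lt_R1 chk_R1 0 (by decide +kernel)).elim
    · exact (elim α 1 1 1 hp hh hv R0 lt_R0 chk_R0 0 (by decide +kernel)).elim
    · exact (elim α 1 2 0 hp hh hv R1 lt_R1 chk_R1 0 (by decide +kernel)).elim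
    · exact (elim α 1 2 1 hp hh hv R0 lt_R0 chk_R0 0 (by decide +kernel)).elim
    · exact (elim α 1 3 0 hp hh hv R1 lt_R1 chk_R1 0 (by decide +kernel)).elim
    · exact (elim α 1 3 1 hp hh hv R0 lt_R0 chk_R0 0 (by decide +kernel)).elim
    · exact (elim α 1 4 0 hp hh hv R1 lt_R1 chk_R1 0 (by decide +kernel)).elim
    · exact (elim α 1 4 1 hp hh hv R0 lt_R0 chk_R0 0 (by decide +kernel)).elim
    · exact (elim α 1 5 0 hp hh hv R1 lt_R1 chk_R1 0 (by decide +kernel)).elim
    · exact (elim α 1 5 1 hp hh hv R0 lt_R0 chk_R0 0 (by decide +kernel)).elim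
    · exact (elim α 1 6 0 hp hh hv R1 lt_R1 chk_R1 0 (by decide +kernel)).elim
    · exact (elim α 1 6 1 hp hh hv R0 lt_R0 chk_R0 0 (by decide +kernel)).elim
    · exact (elim α 1 7 0 hp hh hv R1 lt_R1 chk_R1 0 (by decide +kernel)).elim
    · exact (elim α 1 7 1 hp hh hv R0 lt_R0 chk_R0 0 (by decide +kernel)).elim
  · interval_cases i <;> interval_cases j
    · exact (elim α 3 0 0 hp hh hv R1 lt_R1 chk_R1 0 (by decide +kernel)).elim
    · exact (elim α 3 0 1 hp hh hv R0 lt_R0 chk_R0 0 (by decide +kernel)).elim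
    · exact (elim α 3 1 0 hp hh hv R1 lt_R1 chk_R1 0 (by decide +kernel)).elim
    · exact (elim α 3 1 1 hp hh hv R0 lt_R0 chk_R0 0 (by decide +kernel)).elim
    · exact (elim α 3 2 0 hp hh hv R1 lt_R1 chk_R1 0 (by decide +kernel)).elim
    · exact (elim α 3 2 1 hp hh hv R0 lt_R0 chk_R0 0 (by decide +kernel)).elim
    · exact (elim α 3 3 0 hp hh hv R1 lt_R1 chk_R1 0 (by decide +kernel)).elim
    · exact (elim α 3 3 1 hp hh hv R0 lt_R0 chk_R0 0 (by decide +kernel)).elim
    · exact (elim α 3 4 0 hp hh hv R1 lt_R1 chk_R1 0 (by decide +kernel)).elim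
    · exact (elim α 3 4 1 hp hh hv R0 lt_R0 chk_R0 0 (by decide +kernel)).elim
    · right
      rw [pow_zero, mul_one] at hv
      exact det α beta (by rw [hp, beta_gp]) (by rw [hh, beta_gh]) (by rw [hv, beta_gv])
    · exact (elim α 3 5 1 hp hh hv R0 lt_R0 chk_R0 0 (by decide +kernel)).elim
    · exact (elim α 3 6 0 hp hh hv R1 lt_R1 chk_R1 0 (by decide +kernel)).elim
    · exact (elim α 3 6 1 hp hh hv R0 lt_R0 chk_R0 0 (by decide +kernel)).elim
    · exact (elim α 3 7 0 hp hh hv R1 lt_R1 chk_R1 0 (by decide +kernel)).elim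
    · exact (elim α 3 7 1 hp hh hv R0 lt_R0 chk_R0 0 (by decide +kernel)).elim

theorem card_out_G : Nat.card (Cfsg.Out M.G) = 2 := by
  have : Fact (Nat.Prime 17) := ⟨by norm_num⟩
  have hN := normalizer_gp
  have hβ : beta ∉ (MulAut.conj : M.G →* MulAut M.G).range :=
    not_inner_of_pow gp 3 no_cube beta beta_gp
  have hnorm := rigid_normalize_two (G := M.G) 17 8 8 237081600 11 [1, 3] gp gh
    (by rw [card_G]) (by norm_num) orderOf_gp orderOf_gh
    (by norm_num) rel_ph (by norm_num) (by decide) hE (by decide) (by norm_num) hN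
  exact card_out_two_of_normalized_two (G := M.G) [1, 3] gp gh beta hβ hnorm hclass

end Cfsg.Agent.Lib.Helper2.HeOut
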