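import Cfsg.Agent.Lib.Helper2.HeOutD

set_option autoImplicit false
set_option maxRecDepth 100000

/-! # Data for the automorphisms of the presented group `He`: the certificates of the searches -/

namespace Cfsg.Agent.Lib.Helper2.HeOutD

open Cfsg.Agent.Lib.Helper2.PMC

/-- the centralizer of the element of order 17 -/
def certCp : Cert := Cert.rl [(1462, Cert.bad 1462),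
  (1, Cert.rl [(1, Cert.step [] (Cert.step [] (Cert.done []))),
  (1, Cert.step [2, 1, 6, 6, 2, 3, 2, 1] (Cert.step [] (Cert.done [1, 2, 3, 5]))),
  (1, Cert.fail),
  (1, Cert.step [2, 1, 6, 6, 2, 3, 2, 1] (Cert.step [] (Cert.done [1, 2, 3, 5, 1, 2, 3, 5]))),
  (1, Cert.step [] (Cert.step [] (Cert.done [1, 2, 3, 5, 1, 2, 3, 5, 1, 2, 3, 5, 1, 2, 3, 5, 1, 2, 3, 5, 1, 2, 3, 5, 1, 2, 3, 5, 1, 2, 3, 5, 1, 2, 3, 5, 1, 2, 3, 5, 1, 2, 3, 5, 1, 2, 3, 5, 1, 2, 3, 5, 1, 2, 3, 5, 1, 2, 3, 5, 1, 2, 3, 5]))),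
  (1, Cert.fail),
  (1, Cert.step [2, 1, 6, 6, 2, 3, 2, 1] (Cert.step [] (Cert.done [1, 2, 3, 5, 1, 2, 3, 5, 1, 2, 3, 5]))),
  (2, Cert.step [6, 3, 2, 1, 4, 3, 2, 6, 3, 4, 3, 1, 2, 3, 6, 3, 1] (Cert.fail)),
  (1, Cert.step [0, 6, 3, 2, 3, 2, 1, 4, 5, 3, 2, 1, 6, 3, 2, 3, 5, 4, 3, 1, 2, 3, 5, 4, 3] (Cert.fail)),
  (1, Cert.step [2, 6, 3, 2, 4, 3, 2, 1, 5, 3, 6, 2, 3, 2, 3, 6, 3, 2, 3, 4, 2, 1] (Cert.fail)),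
  (2, Cert.fail),
  (1, Cert.step [] (Cert.step [] (Cert.done [1, 2, 3, 5, 1, 2, 3, 5, 1, 2, 3, 5, 1, 2, 3, 5, 1, 2, 3, 5, 1, 2, 3, 5, 1, 2, 3, 5, 1, 2, 3, 5, 1, 2, 3, 5, 1, 2, 3, 5, 1, 2, 3, 5, 1, 2, 3, 5, 1, 2, 3, 5, 1, 2, 3, 5, 1, 2, 3, 5]))),
  (1, Cert.fail),
  (1, Cert.step [2, 6, 3, 2, 4, 3, 2, 1, 5, 3, 6, 2, 3, 2, 3, 6, 3, 2, 3, 4, 2, 1] (Cert.fail)),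
  (1, Cert.step [6, 5, 3, 2, 1, 3, 2, 6, 3, 2, 1, 3, 6, 3, 6, 4, 3, 2, 3, 6] (Cert.fail)),
  (1, Cert.step [6, 3, 2, 1, 4, 3, 2, 6, 3, 4, 3, 1, 2, 3, 6, 3, 1] (Cert.fail)),
  (1, Cert.step [0, 3, 5, 3, 2, 3, 5, 4, 2, 3, 1, 2, 3, 4, 2, 3, 6, 3, 1, 2] (Cert.fail)),
  (1, Cert.step [1, 2, 3, 2, 1, 6, 3, 2, 5, 5, 4, 3, 2, 3, 6, 1, 2, 3, 2, 0, 1] (Cert.fail)),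
  (1, Cert.step [1, 5, 3, 6, 3, 2, 3, 2, 6, 3, 4, 6, 1, 2] (Cert.fail)),
  (1, Cert.fail),
  (1, Cert.step [1, 2, 3, 2, 1, 6, 3, 2, 5, 5, 4, 3, 2, 3, 6, 1, 2, 3, 2, 0, 1] (Cert.fail)),
  (1, Cert.step [0, 1, 2, 1, 3, 2, 1, 3, 6, 5, 6, 2, 3, 5, 2, 3, 1, 2, 3, 5, 2, 1] (Cert.fail)),
  (1, Cert.fail),
  (1, Cert.step [6, 5, 3, 2, 1, 3, 2, 6, 3, 2, 1, 3, 6, 3, 6, 4, 3, 2, 3, 6] (Cert.fail)),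
  (1, Cert.step [0, 6, 3, 2, 3, 2, 1, 4, 5, 3, 2, 1, 6, 3, 2, 3, 5, 4, 3, 1, 2, 3, 5, 4, 3] (Cert.fail)),
  (1, Cert.step [2, 6, 3, 2, 4, 3, 2, 1, 5, 3, 6, 2, 3, 2, 3, 6, 3, 2, 3, 4, 2, 1] (Cert.fail)),
  (1, Cert.fail),
  (1, Cert.step [4, 6, 3, 2, 3, 4, 5, 3, 2, 4, 3, 6, 1, 2, 3, 5, 4, 3, 2, 1] (Cert.fail)),
  (1, Cert.step [4, 6, 3, 2, 4, 3, 2, 1, 5, 3, 6, 2, 3, 5, 3, 4, 3, 2, 3, 6, 3, 0, 1] (Cert.fail)),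
  (1, Cert.step [4, 6, 3, 2, 4, 3, 6, 1, 2, 3, 1, 2, 3, 6, 3, 4, 1] (Cert.fail)),
  (1, Cert.step [1, 2, 3, 2, 1, 6, 3, 2, 5, 5, 4, 3, 2, 3, 6, 1, 2, 3, 2, 0, 1] (Cert.fail)),
  (1, Cert.step [2, 6, 3, 2, 1, 3, 2, 5, 3, 6, 3, 2, 3, 0, 1, 2, 3, 6, 0] (Cert.fail)),
  (1, Cert.step [1, 2, 3, 4, 5, 3, 2, 1, 6, 4, 3, 2, 3, 4, 2, 3, 6, 0] (Cert.fail)),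
  (1, Cert.step [2, 6, 3, 2, 4, 3, 2, 1, 6, 3, 2, 5, 3, 6, 3, 4, 3, 2, 3, 5, 3, 1, 2] (Cert.fail)),
  (1, Cert.step [0, 5, 6, 3, 2, 1, 3, 2, 6, 3, 2, 1, 4, 2, 3, 6, 3, 5, 0] (Cert.fail)),
  (1, Cert.fail),
  (1, Cert.step [0, 3, 5, 3, 2, 3, 5, 4, 2, 3, 1, 2, 3, 4, 2, 3, 6, 3, 1, 2] (Cert.step [] (Cert.done [1, 2, 3, 5, 1, 2, 3, 5, 1, 2, 3, 5, 1, 2, 3, 5, 1, 2, 3, 5, 1, 2, 3, 5, 1, 2, 3, 5, 1, 2, 3, 5, 1, 2, 3, 5, 1, 2, 3, 5, 1, 2, 3, 5, 1, 2, 3, 5, 1, 2, 3, 5, 1, 2, 3, 5]))),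
  (1, Cert.step [2, 1, 6, 6, 2, 3, 2, 1] (Cert.step [] (Cert.done [1, 2, 3, 5, 1, 2, 3, 5, 1, 2, 3, 5, 1, 2, 3, 5]))),
  (1, Cert.fail),
  (1, Cert.step [1, 0, 3, 6, 3, 2, 1, 3, 4, 5, 3, 2, 3, 5, 6, 3, 0, 1, 2, 3, 6, 5, 3] (Cert.step [6, 3, 2, 5, 3, 2, 1, 3, 2, 6, 3, 6, 4, 2, 3, 1, 2, 3, 5, 2, 3, 6, 4] (Cert.done [1, 2, 3, 5, 1, 2, 3, 5, 1, 2, 3, 5, 1, 2, 3, 5, 1, 2, 3, 5]))),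
  (1, Cert.fail),
  (1, Cert.step [0, 6, 3, 2, 3, 2, 1, 4, 5, 3, 2, 1, 6, 3, 2, 3, 5, 4, 3, 1, 2, 3, 5, 4, 3] (Cert.fail)),
  (1, Cert.step [6, 5, 3, 2, 1, 3, 2, 6, 3, 2, 1, 3, 6, 3, 6, 4, 3, 2, 3, 6] (Cert.fail)),
  (2, Cert.fail),
  (1, Cert.step [2, 3, 6, 5, 3, 2, 4, 3, 2, 3, 5, 6, 3, 5, 1, 2, 3, 2, 1] (Cert.fail)),
  (2, Cert.fail),
  (1, Cert.step [0, 6, 5, 3, 2, 3, 2, 1, 5, 3, 6, 2, 3, 2, 3, 6, 3, 0, 1, 2] (Cert.fail)),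
  (1, Cert.fail),
  (1, Cert.step [6, 3, 2, 1, 4, 3, 2, 6, 3, 4, 3, 1, 2, 3, 6, 3, 1] (Cert.fail)),
  (1, Cert.step [2, 5, 6, 3, 2, 1, 3, 2, 6, 3, 6, 1, 2, 3, 5, 4, 3, 6, 1] (Cert.fail)),
  (1, Cert.step [0, 2, 6, 3, 2, 1, 2, 3, 6, 3, 2, 3, 4, 1, 2, 3, 6, 2, 0] (Cert.fail)),
  (2, Cert.fail),
  (1, Cert.step [0, 3, 5, 3, 2, 3, 5, 4, 2, 3, 1, 2, 3, 4, 2, 3, 6, 3, 1, 2] (Cert.fail)),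
  (3, Cert.fail),
  (1, Cert.step [1, 6, 3, 2, 1, 5, 3, 2, 6, 3, 5, 3, 2, 3, 4, 1, 2, 3, 5, 6, 1, 2, 3] (Cert.fail)),
  (1, Cert.step [0, 1, 2, 3, 5, 3, 2, 1, 3, 2, 3, 5, 3, 6, 3, 5, 3, 6, 2, 3] (Cert.fail)),
  (1, Cert.step [0, 6, 3, 2, 3, 2, 1, 4, 5, 3, 2, 1, 6, 3, 2, 3, 5, 4, 3, 1, 2, 3, 5, 4, 3] (Cert.fail)),
  (2, Cert.fail),
  (1, Cert.step [0, 1, 2, 3, 2, 3, 4, 5, 3, 1, 2, 3, 5, 4, 3, 1, 2, 3, 2, 1, 0] (Cert.fail)),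
  (1, Cert.step [5, 6, 3, 2, 3, 2, 1, 5, 3, 2, 3, 6, 3, 2, 3, 6, 2, 3, 1, 2, 0, 1] (Cert.fail)),
  (2, Cert.fail),
  (1, Cert.step [1, 2, 5, 6, 3, 2, 3, 5, 3, 2, 1, 3, 2, 3, 5, 1, 2, 3, 4, 3, 0] (Cert.fail)),
  (2, Cert.fail),
  (1, Cert.step [3, 2, 1, 3, 2, 1, 5, 3, 2, 3, 2, 6, 3, 2, 3, 5, 3, 2, 3, 1, 2, 3] (Cert.fail)),
  (1, Cert.step [1, 2, 3, 2, 6, 3, 4, 3, 1, 2, 3, 2, 3, 6, 5] (Cert.fail)),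
  (1, Cert.step [2, 1, 0, 3, 6, 3, 2, 3, 2, 6, 3, 4, 1, 2, 3, 5, 2, 3, 6] (Cert.fail)),
  (2, Cert.fail),
  (1, Cert.step [6, 5, 3, 2, 1, 3, 2, 6, 3, 2, 1, 3, 6, 3, 6, 4, 3, 2, 3, 6] (Cert.fail)),
  (1, Cert.step [2, 4, 6, 3, 2, 3, 5, 3, 2, 3, 5, 6, 1, 2, 3, 5, 4, 3, 2, 1] (Cert.fail)),
  (2, Cert.fail),
  (1, Cert.step [0, 3, 2, 4, 3, 2, 1, 0, 3, 2, 3, 5, 3, 4, 3, 2, 3, 1, 2, 3, 4, 2, 3] (Cert.fail)),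
  (1, Cert.fail),
  (1, Cert.step [6, 5, 3, 2, 1, 3, 2, 6, 3, 2, 1, 3, 6, 3, 6, 4, 3, 2, 3, 6] (Cert.fail)),
  (1, Cert.fail),
  (1, Cert.step [0, 4, 6, 3, 2, 3, 2, 1, 4, 3, 2, 6, 3, 6, 2, 3, 5, 4, 1, 2, 3, 2, 3, 6, 4] (Cert.fail)),
  (1, Cert.fail),
  (1, Cert.step [1, 3, 2, 1, 5, 3, 4, 6, 3, 2, 4, 3, 0, 1, 2, 3, 6, 2, 3, 5, 2, 3, 0] (Cert.fail)),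
  (1, Cert.step [1, 2, 3, 2, 6, 3, 0, 1, 2, 3, 4, 2, 3, 6, 2] (Cert.fail)),
  (1, Cert.step [0, 1, 2, 1, 3, 2, 1, 3, 6, 5, 6, 2, 3, 5, 2, 3, 1, 2, 3, 5, 2, 1] (Cert.fail)),
  (1, Cert.step [0, 2, 5, 3, 4, 6, 3, 2, 3, 5, 3, 2, 3, 1, 2, 3, 5, 4, 3, 2, 1] (Cert.fail)),
  (1, Cert.step [6, 3, 4, 5, 3, 2, 3, 2, 1, 6, 2, 3, 6, 1, 2, 3, 4, 1, 2, 3, 6, 2] (Cert.fail)),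
  (2, Cert.fail),
  (1, Cert.step [1, 2, 5, 6, 3, 2, 3, 5, 3, 2, 1, 3, 2, 3, 0, 1, 2, 3, 5, 3] (Cert.fail)),
  (1, Cert.step [5, 3, 6, 5, 3, 2, 3, 4, 2, 3, 5, 6, 3, 4, 0] (Cert.fail)),
  (1, Cert.step [2, 1, 3, 6, 3, 2, 1, 0, 3, 5, 2, 3, 1, 2, 3, 6, 2, 3, 2, 3] (Cert.fail)),
  (1, Cert.step [1, 2, 1, 5, 3, 2, 6, 3, 4, 1, 2, 3, 2, 3, 6, 1, 2, 3, 4, 2, 1] (Cert.fail)),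
  (1, Cert.step [1, 0, 2, 3, 2, 3, 6, 3, 2, 3, 2, 6, 1, 2, 3, 2, 3, 5, 4, 3, 6] (Cert.fail)),
  (1, Cert.step [2, 1, 3, 6, 3, 2, 3, 2, 4, 6, 3, 1, 2, 3, 5, 4, 3, 2, 3, 5, 3, 6] (Cert.fail)),
  (1, Cert.fail),
  (1, Cert.step [6, 3, 2, 1, 5, 3, 2, 6, 5, 4, 3, 6, 2, 3, 0, 1, 2, 3, 5, 6] (Cert.fail)),
  (1, Cert.step [4, 6, 3, 2, 1, 3, 2, 3, 6, 3, 2, 3, 4, 1, 2, 3, 6, 5, 0] (Cert.fail)),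
  (1, Cert.step [0, 3, 2, 4, 3, 2, 1, 3, 2, 3, 4, 5, 3, 1, 2, 3, 4, 1, 2, 3, 2, 3, 5] (Cert.fail)),
  (1, Cert.step [0, 1, 2, 3, 5, 3, 2, 1, 3, 2, 3, 5, 3, 6, 3, 5, 3, 6, 2, 3] (Cert.fail)),
  (1, Cert.step [0, 2, 1, 3, 2, 6, 3, 2, 3, 2, 5, 1, 2, 3, 6, 4, 3, 5, 2, 3, 2] (Cert.step [3, 2, 5, 3, 2, 1, 6, 3, 5, 6, 3, 2, 4, 3, 6, 2, 3, 0, 1, 2, 3, 5, 2, 3, 6, 5] (Cert.done [1, 2, 3, 5, 1, 2, 3, 5, 1, 2, 3, 5, 1, 2, 3, 5, 1, 2, 3, 5, 1, 2, 3, 5]))),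
  (1, Cert.step [0, 1, 2, 1, 3, 2, 1, 3, 6, 5, 6, 2, 3, 5, 2, 3, 1, 2, 3, 5, 2, 1] (Cert.fail)),
  (1, Cert.step [2, 5, 6, 3, 2, 1, 3, 2, 6, 3, 6, 1, 2, 3, 5, 4, 3, 6, 1] (Cert.step [1, 5, 6, 3, 2, 1, 3, 2, 1, 3, 2, 4, 3, 2, 3, 1, 2, 3, 2, 3, 1, 2, 3, 6, 2] (Cert.done [1, 2, 3, 5, 1, 2, 3, 5, 1, 2, 3, 5, 1, 2, 3, 5, 1, 2, 3, 5, 1, 2, 3, 5, 1, 2, 3, 5, 1, 2, 3, 5, 1, 2, 3, 5, 1, 2, 3, 5, 1, 2, 3, 5, 1, 2, 3, 5]))),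
  (1, Cert.step [6, 3, 2, 1, 4, 3, 2, 6, 3, 4, 3, 1, 2, 3, 6, 3, 1] (Cert.fail)),
  (1, Cert.step [2, 5, 6, 3, 2, 1, 3, 2, 6, 3, 5, 4, 2, 3, 1, 2, 3, 6, 2, 3, 2, 3] (Cert.fail)),
  (1, Cert.step [0, 3, 2, 4, 3, 2, 1, 3, 2, 3, 4, 5, 3, 1, 2, 3, 4, 1, 2, 3, 2, 3, 5] (Cert.fail)),
  (1, Cert.fail),
  (1, Cert.step [0, 6, 3, 2, 4, 3, 2, 3, 4, 6, 1, 2, 3, 5, 4, 3, 2, 1] (Cert.fail)),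
  (2, Cert.fail),
  (1, Cert.step [1, 2, 1, 5, 3, 2, 6, 3, 4, 1, 2, 3, 2, 3, 6, 1, 2, 3, 4, 2, 1] (Cert.fail)),
  (1, Cert.step [2, 6, 3, 4, 5, 3, 2, 3, 2, 4, 6, 4, 1, 2, 3, 2, 3, 6, 3, 5, 1, 0] (Cert.fail)),
  (1, Cert.fail),
  (1, Cert.step [1, 2, 4, 3, 2, 3, 6, 3, 2, 3, 2, 6, 1, 2, 3, 5, 2, 3, 6, 4] (Cert.fail)),
  (1, Cert.step [6, 5, 3, 2, 1, 3, 2, 6, 3, 2, 1, 3, 6, 3, 6, 4, 3, 2, 3, 6] (Cert.fail)),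
  (1, Cert.step [0, 1, 2, 3, 5, 3, 2, 1, 3, 2, 3, 5, 3, 6, 3, 5, 3, 6, 2, 3] (Cert.fail)),
  (1, Cert.fail),
  (1, Cert.step [6, 3, 2, 1, 3, 4, 5, 3, 2, 1, 6, 3, 5, 4, 3, 2, 3, 6, 3, 1, 2] (Cert.fail)),
  (1, Cert.step [6, 3, 4, 5, 3, 2, 1, 3, 2, 5, 6, 3, 6, 0, 1, 2, 3, 5, 6, 1] (Cert.fail)),
  (1, Cert.step [2, 5, 6, 3, 2, 1, 3, 2, 6, 4, 3, 1, 2, 3, 6, 3, 5, 1, 2] (Cert.fail)),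
  (1, Cert.step [2, 1, 6, 4, 3, 6, 2, 3, 2, 3, 6, 3, 4, 0, 1] (Cert.fail)),
  (1, Cert.step [0, 1, 2, 3, 5, 3, 2, 1, 3, 2, 3, 5, 3, 6, 3, 5, 3, 6, 2, 3] (Cert.fail)),
  (1, Cert.fail),
  (1, Cert.step [0, 1, 2, 3, 2, 3, 4, 5, 3, 1, 2, 3, 5, 4, 3, 1, 2, 3, 2, 1, 0] (Cert.fail)),
  (1, Cert.step [2, 6, 3, 2, 1, 3, 2, 5, 3, 6, 3, 2, 3, 4, 1, 2, 3, 5, 6] (Cert.fail)),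
  (1, Cert.step [6, 3, 2, 1, 4, 3, 2, 6, 3, 4, 5, 3, 4, 1, 2, 3, 6, 3, 1, 2, 0] (Cert.step [2, 3, 2, 1, 0, 5, 3, 4, 6, 3, 2, 3, 6, 4, 3, 5, 6, 1, 2, 3, 5, 1, 2] (Cert.badAt 0))),
  (1, Cert.step [0, 6, 3, 2, 1, 0, 3, 2, 3, 6, 3, 5, 2, 3, 1, 2, 3, 6, 2] (Cert.fail)),
  (1, Cert.step [4, 6, 3, 2, 3, 2, 3, 5, 3, 2, 1, 4, 3, 2, 3, 6, 3, 2, 3, 1, 2, 3, 6, 5, 0] (Cert.fail)),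
  (1, Cert.step [1, 4, 3, 2, 5, 3, 4, 6, 3, 4, 2, 3, 1, 2, 3, 5, 2, 3, 6, 4, 3, 5] (Cert.fail)),
  (1, Cert.step [0, 5, 6, 3, 2, 1, 3, 2, 6, 3, 2, 1, 4, 2, 3, 6, 3, 5, 0] (Cert.step [1, 2, 1, 0, 3, 2, 6, 3, 2, 1, 6, 3, 2, 3, 1, 2, 3, 6, 2, 3, 2, 3] (Cert.done [1, 2, 3, 5, 1, 2, 3, 5, 1, 2, 3, 5, 1, 2, 3, 5, 1, 2, 3, 5, 1, 2, 3, 5, 1, 2, 3, 5, 1, 2, 3, 5, 1, 2, 3, 5]))),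
  (1, Cert.fail),
  (1, Cert.step [1, 3, 6, 3, 2, 3, 2, 1, 5, 6, 3, 5, 2, 3, 2, 3, 5, 6] (Cert.fail)),
  (1, Cert.step [5, 6, 3, 2, 3, 2, 1, 5, 3, 2, 3, 6, 3, 2, 3, 6, 2, 3, 1, 2, 0, 1] (Cert.fail)),
  (1, Cert.step [1, 0, 2, 3, 2, 3, 6, 3, 2, 3, 2, 6, 1, 2, 3, 2, 3, 5, 4, 3, 6] (Cert.fail)),
  (1, Cert.step [1, 2, 3, 4, 5, 3, 2, 1, 6, 4, 3, 2, 3, 4, 2, 3, 6, 0] (Cert.fail)),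
  (1, Cert.step [1, 2, 3, 6, 5, 3, 2, 1, 3, 4, 3, 2, 3, 2, 3, 0, 1, 2, 3, 5, 6, 3, 2, 1] (Cert.fail)),
  (1, Cert.fail),
  (1, Cert.step [6, 3, 2, 3, 2, 5, 2, 3, 2, 3, 6, 0] (Cert.fail)),
  (3, Cert.fail),
  (1, Cert.step [1, 3, 6, 3, 2, 3, 2, 6, 5, 3, 5, 1, 2, 3, 4, 3, 2, 3, 6] (Cert.fail)),
  (1, Cert.step [1, 3, 6, 3, 2, 1, 3, 4, 3, 6, 2, 3, 4, 1, 2, 3, 6] (Cert.fail)),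
  (1, Cert.fail),
  (1, Cert.step [4, 6, 3, 2, 3, 4, 5, 3, 2, 4, 3, 6, 1, 2, 3, 5, 4, 3, 2, 1] (Cert.fail)),
  (2, Cert.fail),
  (1, Cert.step [2, 1, 0, 3, 6, 3, 2, 3, 2, 6, 1, 2, 3, 2, 3, 5, 4, 3, 6] (Cert.fail)),
  (1, Cert.step [1, 6, 3, 2, 1, 5, 3, 2, 6, 3, 5, 3, 2, 3, 4, 1, 2, 3, 5, 6, 1, 2, 3] (Cert.fail)),
  (1, Cert.fail),
  (1, Cert.step [1, 2, 3, 2, 3, 6, 3, 2, 3, 2, 4, 6, 1, 2, 3, 2, 3, 5, 4, 3, 6] (Cert.fail)),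
  (1, Cert.step [1, 2, 4, 3, 2, 3, 6, 3, 2, 3, 2, 6, 1, 2, 3, 5, 2, 3, 6, 4] (Cert.fail)),
  (1, Cert.step [6, 3, 2, 4, 3, 2, 1, 3, 2, 3, 6, 3, 2, 3, 1, 2, 3, 4, 2, 3, 6, 2] (Cert.fail)),
  (1, Cert.fail),
  (1, Cert.step [1, 0, 3, 6, 3, 2, 1, 3, 4, 5, 3, 6, 2, 3, 1, 2, 3, 6, 5, 2] (Cert.fail)),
  (4, Cert.fail),
  (1, Cert.step [1, 2, 1, 3, 2, 1, 4, 6, 3, 2, 3, 5, 3, 2, 3, 6, 4, 2, 0] (Cert.fail)),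
  (1, Cert.step [1, 2, 1, 3, 2, 1, 6, 3, 2, 3, 5, 3, 4, 3, 2, 3, 5, 6, 0] (Cert.fail)),
  (1, Cert.step [3, 2, 1, 5, 3, 4, 6, 3, 5, 2, 3, 1, 2, 3, 6, 2, 3, 5, 0, 1] (Cert.step [4, 6, 3, 2, 4, 5, 3, 2, 1, 4, 3, 2, 1, 3, 6, 3, 2, 3, 0, 1, 2, 3, 5, 2, 3, 6] (Cert.done [1, 2, 3, 5, 1, 2, 3, 5, 1, 2, 3, 5, 1, 2, 3, 5, 1, 2, 3, 5, 1, 2, 3, 5, 1, 2, 3, 5, 1, 2, 3, 5, 1, 2, 3, 5, 1, 2, 3, 5, 1, 2, 3, 5, 1, 2, 3, 5, 1, 2, 3, 5]))),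
  (1, Cert.step [1, 4, 3, 6, 3, 2, 1, 3, 4, 5, 3, 2, 3, 5, 1, 2, 3, 6, 5, 2, 3, 0] (Cert.fail)),
  (1, Cert.step [1, 2, 5, 3, 2, 1, 4, 3, 2, 3, 5, 3, 4, 2, 3, 5, 1, 2, 3, 2, 1, 0] (Cert.fail)),
  (1, Cert.step [2, 6, 3, 2, 4, 3, 2, 1, 6, 3, 2, 5, 3, 6, 3, 4, 3, 2, 3, 5, 3, 1, 2] (Cert.fail)),
  (1, Cert.fail),
  (2, Cert.step [2, 6, 3, 2, 4, 3, 2, 1, 0, 3, 6, 2, 3, 2, 1] (Cert.fail)),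
  (1, Cert.step [1, 0, 3, 6, 3, 2, 1, 3, 4, 5, 3, 6, 2, 3, 1, 2, 3, 6, 5, 2] (Cert.fail)),
  (1, Cert.fail),
  (1, Cert.step [0, 6, 5, 3, 2, 3, 2, 1, 5, 3, 6, 2, 3, 2, 3, 6, 3, 2, 3, 2, 0, 1] (Cert.fail)),
  (1, Cert.fail),
  (1, Cert.step [2, 1, 0, 3, 6, 3, 2, 3, 2, 6, 1, 2, 3, 2, 3, 5, 4, 3, 6] (Cert.step [6, 3, 2, 5, 3, 2, 1, 3, 2, 6, 3, 6, 4, 2, 3, 1, 2, 3, 5, 2, 3, 6, 4] (Cert.done [1, 2, 3, 5, 1, 2, 3, 5, 1, 2, 3, 5, 1, 2, 3, 5, 1, 2, 3, 5, 1, 2, 3, 5, 1, 2, 3, 5, 1, 2, 3, 5, 1, 2, 3, 5, 1, 2, 3, 5, 1, 2, 3, 5]))),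
  (1, Cert.fail),
  (1, Cert.step [1, 3, 2, 1, 5, 3, 4, 6, 3, 2, 4, 3, 0, 1, 2, 3, 6, 2, 3, 5, 2, 3, 0] (Cert.fail)),
  (1, Cert.fail),
  (1, Cert.step [1, 3, 6, 3, 2, 3, 2, 1, 5, 6, 3, 5, 2, 3, 2, 3, 5, 6] (Cert.fail)),
  (1, Cert.step [1, 2, 3, 2, 3, 6, 3, 2, 3, 2, 4, 6, 3, 4, 1, 2, 3, 5, 2, 3, 6] (Cert.fail)),
  (1, Cert.step [6, 3, 2, 3, 5, 3, 4, 3, 2, 3, 5, 6, 0] (Cert.fail)),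
  (1, Cert.fail),
  (1, Cert.step [2, 6, 3, 2, 1, 3, 2, 5, 3, 6, 3, 2, 3, 4, 1, 2, 3, 5, 6] (Cert.fail)),
  (1, Cert.step [1, 2, 3, 5, 3, 2, 1, 3, 2, 3, 5, 3, 4, 2, 3, 1, 2, 3, 4, 2, 1] (Cert.fail)),
  (1, Cert.fail),
  (1, Cert.step [3, 2, 1, 3, 2, 1, 5, 3, 2, 3, 2, 6, 3, 2, 3, 5, 3, 2, 3, 1, 2, 3] (Cert.fail)),
  (5, Cert.fail),
  (1, Cert.step [4, 6, 3, 2, 5, 3, 2, 4, 3, 2, 6, 1, 2, 3, 6, 2, 3, 1, 2, 3, 6, 5] (Cert.fail)),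
  (3, Cert.fail),
  (1, Cert.step [1, 2, 5, 3, 2, 1, 4, 3, 2, 3, 5, 3, 4, 2, 3, 5, 1, 2, 3, 2, 1, 0] (Cert.fail)),
  (1, Cert.step [1, 2, 5, 3, 2, 1, 3, 2, 5, 3, 2, 6, 3, 5, 6, 3, 1, 2, 3, 5, 2, 1] (Cert.fail)),
  (1, Cert.step [2, 1, 0, 3, 6, 3, 2, 3, 2, 6, 1, 2, 3, 2, 3, 5, 4, 3, 6] (Cert.fail)),
  (2, Cert.fail),
  (1, Cert.step [1, 0, 2, 3, 2, 1, 0, 5, 2] (Cert.step [1, 4, 5, 0, 1] (Cert.badAt 0))),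
  (2, Cert.fail),
  (1, Cert.step [1, 2, 5, 3, 2, 1, 3, 6, 5, 3, 6, 2, 3, 5, 2, 3, 1, 2, 3, 5, 2, 1] (Cert.fail)),
  (3, Cert.fail),
  (1, Cert.step [1, 2, 3, 2, 1, 0, 3, 2, 3, 5, 3, 6, 3, 5, 3, 6, 2, 3, 2] (Cert.fail)),
  (1, Cert.step [2, 6, 3, 2, 1, 3, 2, 5, 3, 6, 3, 2, 3, 4, 1, 2, 3, 5, 6] (Cert.fail)),
  (1, Cert.step [3, 5, 6, 3, 2, 3, 4, 5, 3, 1, 2, 3, 0, 1, 2, 3, 6, 3, 1, 2, 0] (Cert.step [6, 3, 2, 5, 3, 2, 1, 3, 2, 6, 3, 6, 4, 2, 3, 1, 2, 3, 5, 2, 3, 6, 4] (Cert.done [1, 2, 3, 5, 1, 2, 3, 5, 1, 2, 3, 5, 1, 2, 3, 5, 1, 2, 3, 5, 1, 2, 3, 5, 1, 2, 3, 5]))),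
  (1, Cert.fail),
  (1, Cert.step [6, 3, 4, 5, 3, 2, 3, 2, 1, 6, 2, 3, 2, 3, 6, 3, 0, 1, 2] (Cert.fail)),
  (1, Cert.step [2, 5, 3, 6, 1, 2, 3, 2, 3, 6, 2, 3, 5, 1, 2] (Cert.fail)),
  (1, Cert.step [1, 4, 3, 2, 5, 3, 4, 6, 3, 4, 2, 3, 1, 2, 3, 5, 2, 3, 6, 4, 3, 5] (Cert.fail)),
  (1, Cert.step [4, 3, 6, 3, 2, 1, 3, 2, 5, 3, 6, 4, 3, 1, 2, 3, 5, 1, 2, 3, 2] (Cert.step [] (Cert.badAt 0))),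
  (1, Cert.step [3, 2, 6, 3, 5, 3, 6, 3, 5, 3, 2, 3, 1, 2, 3, 5, 3, 2, 1, 0] (Cert.fail)),
  (1, Cert.step [1, 0, 2, 3, 2, 1, 0, 5, 2] (Cert.fail)),
  (1, Cert.step [1, 2, 5, 6, 3, 2, 3, 5, 3, 2, 1, 3, 2, 3, 0, 1, 2, 3, 5, 3] (Cert.fail)),
  (1, Cert.fail),
  (1, Cert.step [4, 6, 3, 2, 3, 2, 1, 4, 5, 3, 2, 6, 3, 6, 2, 3, 5, 1, 2, 3, 4, 2, 3, 6, 5] (Cert.fail)),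
  (1, Cert.step [3, 6, 5, 3, 2, 3, 2, 1, 0, 4, 5, 3, 2, 3, 6, 2, 3, 1, 2, 3, 5, 3, 6, 2] (Cert.fail)),
  (1, Cert.fail),
  (1, Cert.step [1, 2, 5, 3, 2, 1, 3, 2, 5, 3, 2, 6, 3, 5, 6, 3, 1, 2, 3, 5, 2, 1] (Cert.fail)),
  (1, Cert.step [0, 3, 6, 3, 2, 1, 3, 2, 1, 5, 6, 3, 6, 4, 3, 2, 3, 5, 1, 2, 3, 6, 4, 3] (Cert.fail)),
  (1, Cert.step [4, 6, 3, 2, 5, 3, 2, 4, 3, 2, 6, 1, 2, 3, 6, 2, 3, 1, 2, 3, 6, 5] (Cert.fail)),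
  (1, Cert.step [1, 2, 3, 2, 1, 6, 3, 2, 5, 5, 4, 3, 2, 3, 6, 1, 2, 3, 2, 0, 1] (Cert.fail)),
  (1, Cert.step [0, 5, 6, 3, 2, 1, 3, 2, 3, 6, 3, 2, 3, 5, 4, 3, 1, 2, 3, 6, 4] (Cert.step [1, 5, 6, 3, 2, 1, 3, 2, 1, 3, 2, 4, 3, 2, 3, 1, 2, 3, 2, 3, 1, 2, 3, 6, 2] (Cert.badAt 0))),
  (1, Cert.step [1, 2, 3, 2, 6, 5, 1, 2, 3, 2, 3, 4, 2, 3, 6] (Cert.fail)),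
  (1, Cert.step [2, 6, 3, 2, 1, 4, 5, 3, 2, 6, 3, 2, 1, 6, 4, 2, 3, 5, 2, 3, 6, 5, 0] (Cert.fail)),
  (1, Cert.step [1, 2, 3, 4, 5, 3, 2, 1, 6, 5, 3, 4, 2, 3, 2, 3, 5, 6, 2] (Cert.fail)),
  (1, Cert.step [3, 4, 5, 3, 2, 1, 0, 3, 4, 5, 3, 2, 3, 6, 2, 3, 5, 1, 2, 3, 4, 2, 3, 6, 5] (Cert.fail)),
  (1, Cert.step [3, 5, 6, 3, 2, 1, 0, 3, 6, 5, 3, 2, 3, 5, 3, 1, 2, 3, 6, 3, 1] (Cert.fail)),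
  (1, Cert.step [5, 6, 3, 2, 3, 2, 1, 5, 3, 2, 3, 6, 3, 2, 3, 6, 2, 3, 1, 2, 0, 1] (Cert.fail)),
  (1, Cert.step [1, 4, 3, 2, 5, 3, 4, 6, 3, 4, 2, 3, 1, 2, 3, 5, 2, 3, 6, 4, 3, 5] (Cert.fail)),
  (1, Cert.step [6, 3, 4, 5, 3, 2, 3, 2, 1, 6, 2, 3, 2, 3, 6, 3, 5, 1, 2, 0] (Cert.fail)),
  (1, Cert.step [0, 2, 5, 3, 4, 6, 3, 2, 3, 5, 3, 2, 3, 1, 2, 3, 5, 4, 3, 2, 1] (Cert.fail)),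
  (1, Cert.step [1, 6, 3, 4, 5, 3, 2, 1, 6, 3, 6, 2, 3, 1, 2, 3, 6, 5, 2] (Cert.fail)),
  (1, Cert.step [2, 1, 6, 5, 3, 2, 4, 6, 3, 5, 6, 1, 2, 3, 5, 1, 2, 3, 6, 4, 2] (Cert.fail)),
  (2, Cert.fail),
  (1, Cert.step [2, 5, 6, 3, 2, 1, 3, 2, 6, 3, 6, 1, 2, 3, 5, 4, 3, 6, 1] (Cert.step [1, 2, 1, 0, 3, 2, 6, 3, 2, 1, 6, 3, 2, 3, 1, 2, 3, 6, 2, 3, 2, 3] (Cert.badAt 0))),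
  (2, Cert.fail),
  (1, Cert.step [1, 2, 3, 2, 1, 6, 3, 2, 5, 5, 4, 3, 2, 3, 6, 1, 2, 3, 2, 0, 1] (Cert.fail)),
  (1, Cert.fail),
  (1, Cert.step [1, 4, 6, 3, 2, 1, 4, 3, 2, 6, 3, 2, 3, 6, 2, 3, 4, 1, 2, 3, 6, 4, 1] (Cert.fail)),
  (1, Cert.step [1, 0, 2, 3, 2, 1, 3, 6, 3, 2, 3, 6, 5, 4, 3, 2, 3, 6, 5, 3] (Cert.fail)),
  (4, Cert.fail),
  (1, Cert.step [0, 3, 2, 5, 3, 2, 1, 3, 2, 3, 5, 4, 3, 1, 2, 3, 6, 5, 3, 1] (Cert.fail)),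
  (1, Cert.step [2, 5, 3, 6, 4, 3, 5, 2, 3, 2, 3, 5, 3] (Cert.fail)),
  (1, Cert.step [2, 6, 3, 2, 4, 3, 2, 1, 6, 3, 2, 5, 3, 6, 3, 4, 3, 2, 3, 5, 3, 1, 2] (Cert.fail)),
  (1, Cert.step [2, 1, 0, 3, 6, 3, 2, 3, 2, 6, 3, 1, 2, 3, 5, 4, 3, 2, 3, 5, 3, 6] (Cert.fail)),
  (1, Cert.step [1, 4, 3, 6, 3, 2, 3, 2, 1, 0, 3, 6, 3, 5, 4, 2] (Cert.fail)),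
  (3, Cert.fail),
  (1, Cert.step [0, 3, 2, 4, 3, 2, 1, 3, 2, 3, 4, 5, 3, 1, 2, 3, 4, 1, 2, 3, 2, 3, 5] (Cert.fail)),
  (1, Cert.step [2, 1, 6, 3, 4, 5, 3, 2, 4, 3, 6, 3, 0, 1, 2, 3, 1, 2, 3, 6, 5] (Cert.fail)),
  (1, Cert.step [4, 6, 3, 2, 1, 3, 2, 3, 6, 3, 2, 3, 4, 1, 2, 3, 6, 5, 0] (Cert.fail)),
  (1, Cert.step [0, 2, 4, 6, 3, 2, 4, 3, 6, 4, 1, 2, 3, 6, 2, 3, 1, 2, 3, 6, 5, 0] (Cert.step [2, 6, 3, 2, 1, 3, 2, 3, 2, 1, 3, 2, 3, 4, 2, 3, 1, 2, 3, 1, 2, 3, 6, 5, 1] (Cert.badAt 0))),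
  (1, Cert.step [3, 2, 6, 3, 5, 3, 6, 3, 5, 3, 2, 3, 4, 1, 2, 3, 2, 1] (Cert.step [1, 5, 6, 3, 2, 1, 3, 2, 1, 3, 2, 4, 3, 2, 3, 1, 2, 3, 2, 3, 1, 2, 3, 6, 2] (Cert.done [1, 2, 3, 5, 1, 2, 3, 5, 1, 2, 3, 5, 1, 2, 3, 5, 1, 2, 3, 5, 1, 2, 3, 5, 1, 2, 3, 5, 1, 2, 3, 5]))),
  (1, Cert.step [2, 5, 0, 1, 2, 3, 5, 4, 3, 1, 2, 1] (Cert.fail)),
  (1, Cert.step [0, 3, 6, 3, 2, 1, 3, 2, 1, 5, 6, 3, 6, 4, 3, 2, 3, 5, 1, 2, 3, 6, 4, 3] (Cert.fail)),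
  (1, Cert.step [2, 5, 3, 6, 1, 2, 3, 2, 3, 6, 2, 3, 5, 1, 2] (Cert.fail)),
  (1, Cert.step [1, 2, 3, 6, 5, 3, 2, 1, 3, 4, 3, 2, 3, 2, 3, 0, 1, 2, 3, 5, 6, 3, 2, 1] (Cert.fail)),
  (1, Cert.step [0, 2, 1, 3, 2, 6, 3, 2, 3, 2, 5, 1, 2, 3, 6, 4, 3, 5, 2, 3, 2] (Cert.fail)),
  (1, Cert.step [2, 6, 3, 2, 4, 3, 2, 1, 6, 3, 2, 5, 3, 6, 3, 4, 3, 2, 3, 5, 3, 1, 2] (Cert.fail)),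
  (1, Cert.fail),
  (1, Cert.step [2, 1, 0, 3, 6, 3, 2, 3, 2, 6, 3, 1, 2, 3, 5, 4, 3, 2, 3, 5, 3, 6] (Cert.fail)),
  (3, Cert.fail),
  (1, Cert.step [1, 2, 3, 6, 5, 3, 2, 1, 3, 4, 3, 2, 3, 2, 3, 0, 1, 2, 3, 5, 6, 3, 2, 1] (Cert.fail)),
  (1, Cert.fail),
  (1, Cert.step [4, 6, 3, 2, 3, 2, 1, 4, 5, 3, 2, 6, 3, 6, 2, 3, 5, 1, 2, 3, 4, 2, 3, 6, 5] (Cert.fail)),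
  (2, Cert.fail),
  (1, Cert.step [1, 2, 3, 2, 3, 6, 3, 2, 3, 2, 4, 6, 1, 2, 3, 2, 3, 5, 4, 3, 6] (Cert.fail)),
  (1, Cert.step [2, 6, 3, 2, 1, 4, 3, 2, 1, 6, 3, 2, 6, 3, 5, 4, 3, 6, 1, 0] (Cert.fail)),
  (1, Cert.step [0, 3, 6, 3, 2, 1, 3, 2, 1, 5, 6, 3, 6, 4, 3, 2, 3, 5, 1, 2, 3, 6, 4, 3] (Cert.fail)),
  (1, Cert.fail),
  (1, Cert.step [1, 3, 2, 5, 3, 4, 6, 3, 2, 3, 4, 5, 1, 2, 3, 2, 3, 6, 3, 2, 3, 5, 3] (Cert.fail)),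
  (1, Cert.step [1, 0, 2, 3, 2, 3, 6, 3, 2, 3, 2, 6, 1, 2, 3, 2, 3, 5, 4, 3, 6] (Cert.step [0, 1, 2, 1, 5, 3, 2, 6, 3, 2, 1, 6, 3, 2, 3, 1, 2, 3, 6, 2, 3, 2, 3] (Cert.badAt 0))),
  (1, Cert.step [2, 1, 0, 3, 6, 3, 2, 3, 2, 6, 3, 0, 1, 2, 3, 4, 2, 3, 5, 3, 6] (Cert.fail)),
  (1, Cert.step [0, 2, 6, 3, 2, 1, 4, 3, 2, 6, 3, 4, 6, 2, 3, 1, 2, 3, 6, 5, 2] (Cert.fail)),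
  (1, Cert.step [1, 6, 3, 2, 1, 5, 3, 2, 6, 3, 5, 3, 2, 3, 4, 1, 2, 3, 5, 6, 1, 2, 3] (Cert.fail)),
  (1, Cert.step [2, 4, 6, 3, 2, 1, 5, 3, 2, 1, 6, 3, 2, 3, 6, 3, 2, 3, 1, 2, 1, 0] (Cert.fail)),
  (1, Cert.fail),
  (1, Cert.step [0, 1, 3, 6, 3, 2, 3, 2, 1, 6, 3, 4, 6, 5, 0] (Cert.fail)),
  (1, Cert.step [6, 3, 2, 4, 3, 2, 1, 3, 2, 6, 3, 5, 1, 2, 1, 0] (Cert.fail)),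
  (2, Cert.fail),
  (1, Cert.step [0, 5, 6, 3, 2, 3, 2, 5, 3, 2, 6, 1, 2, 3, 6, 2, 3, 1, 2, 3, 6, 5] (Cert.fail)),
  (1, Cert.fail),
  (1, Cert.step [0, 3, 2, 4, 3, 2, 1, 0, 3, 2, 3, 5, 3, 4, 3, 2, 3, 1, 2, 3, 4, 2, 3] (Cert.fail)),
  (1, Cert.fail),
  (1, Cert.step [0, 6, 3, 2, 3, 2, 1, 4, 5, 3, 2, 1, 6, 3, 2, 3, 5, 4, 3, 1, 2, 3, 5, 4, 3] (Cert.fail)),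
  (1, Cert.step [2, 3, 2, 5, 6, 3, 2, 1, 4, 3, 2, 3, 5, 3, 4, 3, 1, 2, 3, 6, 5, 3, 1] (Cert.fail)),
  (1, Cert.step [6, 3, 2, 1, 5, 3, 2, 6, 5, 3, 5, 4, 3, 6, 2, 3, 4, 1, 2, 3, 6, 2] (Cert.fail)),
  (1, Cert.step [2, 5, 6, 3, 2, 1, 3, 2, 6, 3, 5, 4, 2, 3, 1, 2, 3, 6, 2, 3, 2, 3] (Cert.fail)),
  (1, Cert.step [6, 5, 3, 2, 1, 3, 2, 6, 3, 2, 1, 3, 6, 3, 5, 6, 3, 2, 3, 6, 0] (Cert.fail)),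
  (1, Cert.step [4, 6, 3, 2, 1, 2, 3, 6, 3, 2, 3, 4, 1, 2, 3, 6, 4] (Cert.fail)),
  (1, Cert.fail),
  (1, Cert.step [2, 1, 0, 3, 6, 3, 2, 3, 2, 6, 4, 3, 1, 2, 3, 5, 3, 4, 3, 2, 3, 6] (Cert.fail)),
  (1, Cert.fail),
  (1, Cert.step [0, 1, 0, 2, 3, 2, 4, 6, 3, 4, 1, 2, 3, 2, 3, 6, 1, 2, 3, 4, 2, 1] (Cert.fail)),
  (1, Cert.step [0, 3, 6, 3, 2, 1, 3, 2, 1, 5, 6, 3, 6, 4, 3, 2, 3, 5, 1, 2, 3, 6, 4, 3] (Cert.fail)),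
  (1, Cert.fail),
  (1, Cert.step [0, 6, 3, 2, 4, 3, 2, 3, 4, 6, 1, 2, 3, 5, 4, 3, 2, 1] (Cert.fail)),
  (1, Cert.step [6, 3, 4, 5, 3, 2, 3, 2, 1, 6, 2, 3, 2, 3, 6, 3, 2, 3, 5, 4, 2, 1] (Cert.fail)),
  (2, Cert.fail),
  (1, Cert.step [2, 1, 6, 6, 2, 3, 2, 1] (Cert.step [1, 2, 6, 3, 2, 1, 3, 2, 3, 2, 1, 4, 2, 3, 2, 3, 1, 2, 3, 4, 1, 2, 3, 6, 2] (Cert.badAt 0))),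
  (1, Cert.fail),
  (1, Cert.step [1, 2, 3, 2, 3, 6, 3, 2, 3, 2, 4, 6, 3, 4, 1, 2, 3, 5, 2, 3, 6] (Cert.fail)),
  (2, Cert.fail),
  (1, Cert.step [6, 3, 2, 5, 3, 2, 1, 4, 3, 6, 2, 3, 2, 3, 6, 3, 5, 1, 2, 0] (Cert.fail)),
  (1, Cert.step [1, 0, 3, 6, 3, 2, 1, 3, 4, 5, 3, 6, 2, 3, 1, 2, 3, 6, 5, 2] (Cert.fail)),
  (1, Cert.step [2, 1, 6, 4, 3, 6, 2, 3, 2, 3, 6, 3, 4, 0, 1] (Cert.fail)),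
  (1, Cert.step [2, 6, 3, 2, 1, 3, 2, 5, 3, 6, 3, 2, 3, 4, 1, 2, 3, 5, 6] (Cert.step [6, 3, 2, 5, 3, 2, 1, 3, 2, 6, 3, 6, 4, 2, 3, 1, 2, 3, 5, 2, 3, 6, 4] (Cert.badAt 0))),
  (1, Cert.step [5, 6, 3, 2, 3, 2, 1, 5, 3, 2, 3, 6, 3, 2, 3, 6, 2, 3, 1, 2, 0, 1] (Cert.fail)),
  (1, Cert.step [0, 6, 3, 4, 5, 3, 2, 1, 3, 2, 6, 3, 1, 2, 3, 5, 4, 0, 1, 2, 3, 2, 3, 5, 3] (Cert.fail)),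
  (1, Cert.step [0, 6, 5, 3, 2, 3, 4, 3, 5, 3, 2, 3, 6] (Cert.fail)),
  (1, Cert.step [2, 5, 3, 6, 3, 1, 2, 3, 2, 3, 6, 3, 1, 2, 0] (Cert.step [2, 1, 4, 5, 3, 2, 6, 5, 3, 4, 6, 3, 1, 2, 3, 1, 2, 3, 5, 3, 2, 3, 6, 3] (Cert.badAt 0))),
  (1, Cert.fail),
  (1, Cert.step [0, 6, 5, 3, 2, 3, 2, 1, 5, 3, 6, 2, 3, 2, 3, 6, 3, 2, 3, 2, 0, 1] (Cert.fail)),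
  (1, Cert.fail),
  (1, Cert.step [0, 2, 4, 6, 3, 2, 1, 3, 4, 2, 3, 6, 3, 2, 3, 1, 2, 3, 6, 4] (Cert.step [] (Cert.badAt 0))),
  (1, Cert.step [1, 2, 3, 6, 5, 3, 2, 1, 0, 3, 2, 3, 2, 3, 4, 3, 1, 2, 3, 5, 6, 3, 2, 1] (Cert.fail)),
  (1, Cert.step [6, 5, 3, 2, 3, 2, 5, 3, 6, 5, 1, 2, 3, 2, 3, 6, 3, 1] (Cert.fail)),
  (1, Cert.step [6, 3, 2, 5, 3, 2, 1, 4, 3, 6, 2, 3, 2, 3, 6, 3, 5, 1, 2, 0] (Cert.fail)),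
  (3, Cert.fail),
  (1, Cert.step [2, 1, 0, 3, 6, 3, 2, 3, 2, 6, 1, 2, 3, 2, 3, 5, 4, 3, 6] (Cert.step [6, 3, 2, 5, 3, 2, 1, 3, 2, 6, 3, 6, 4, 2, 3, 1, 2, 3, 5, 2, 3, 6, 4] (Cert.badAt 0))),
  (1, Cert.fail),
  (1, Cert.step [0, 5, 6, 3, 2, 3, 2, 5, 3, 2, 6, 1, 2, 3, 6, 2, 3, 1, 2, 3, 6, 5] (Cert.fail)),
  (1, Cert.step [2, 6, 3, 4, 5, 3, 2, 3, 2, 4, 6, 4, 1, 2, 3, 2, 3, 6, 3, 5, 1, 0] (Cert.fail)),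
  (1, Cert.step [1, 2, 3, 6, 5, 3, 2, 1, 0, 3, 2, 3, 2, 3, 4, 3, 1, 2, 3, 5, 6, 3, 2, 1] (Cert.fail)),
  (1, Cert.step [1, 2, 3, 2, 1, 0, 3, 2, 3, 5, 3, 6, 3, 5, 3, 6, 2, 3, 2] (Cert.fail)),
  (1, Cert.step [6, 5, 3, 2, 1, 3, 2, 6, 3, 2, 1, 3, 6, 3, 6, 4, 3, 2, 3, 6] (Cert.fail)),
  (2, Cert.fail),
  (1, Cert.step [2, 1, 3, 6, 3, 2, 3, 2, 4, 6, 1, 2, 3, 2, 3, 5, 4, 3, 6] (Cert.fail)),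
  (1, Cert.step [1, 4, 3, 6, 3, 2, 1, 3, 4, 5, 3, 2, 3, 5, 1, 2, 3, 6, 5, 2, 3, 0] (Cert.fail)),
  (1, Cert.step [2, 5, 6, 3, 2, 1, 3, 2, 6, 3, 5, 4, 2, 3, 1, 2, 3, 6, 2, 3, 2, 3] (Cert.fail)),
  (1, Cert.step [6, 3, 2, 3, 4, 5, 3, 2, 3, 4, 3, 6, 1, 2, 3, 5, 4, 3, 2, 1] (Cert.fail)),
  (1, Cert.step [1, 2, 4, 3, 2, 3, 6, 3, 2, 3, 2, 6, 1, 2, 3, 5, 2, 3, 6, 4] (Cert.fail)),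
  (1, Cert.fail),
  (1, Cert.step [2, 5, 6, 3, 2, 1, 3, 2, 6, 3, 6, 1, 2, 3, 5, 4, 3, 6, 1] (Cert.fail)),
  (1, Cert.fail),
  (1, Cert.step [2, 6, 3, 2, 1, 4, 3, 2, 1, 6, 3, 2, 6, 3, 5, 4, 3, 6, 1, 0] (Cert.fail)),
  (1, Cert.step [4, 6, 3, 2, 3, 2, 1, 4, 5, 3, 2, 6, 3, 6, 2, 3, 4, 1, 2, 3, 2, 3, 6, 4, 0] (Cert.fail)),
  (1, Cert.step [0, 1, 3, 6, 3, 2, 3, 2, 4, 6, 1, 2, 3, 5, 4, 3, 2, 3, 6] (Cert.step [4, 6, 3, 2, 4, 5, 3, 2, 1, 4, 3, 2, 1, 3, 6, 3, 2, 3, 0, 1, 2, 3, 5, 2, 3, 6] (Cert.done [1, 2, 3, 5, 1, 2, 3, 5, 1, 2, 3, 5, 1, 2, 3, 5, 1, 2, 3, 5, 1, 2, 3, 5, 1, 2, 3, 5, 1, 2, 3, 5, 1, 2, 3, 5, 1, 2, 3, 5]))),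
  (1, Cert.step [4, 6, 3, 2, 3, 2, 1, 4, 5, 3, 2, 6, 3, 6, 2, 3, 5, 1, 2, 3, 4, 2, 3, 6, 5] (Cert.fail)),
  (1, Cert.fail),
  (1, Cert.step [2, 1, 0, 3, 6, 3, 2, 3, 2, 6, 1, 2, 3, 2, 3, 5, 4, 3, 6] (Cert.fail)),
  (1, Cert.step [1, 3, 6, 3, 2, 3, 2, 6, 5, 3, 5, 1, 2, 3, 4, 3, 2, 3, 6] (Cert.fail)),
  (1, Cert.step [6, 3, 2, 1, 4, 3, 2, 6, 3, 4, 3, 1, 2, 3, 6, 3, 1] (Cert.fail)),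
  (1, Cert.step [0, 1, 2, 3, 2, 3, 4, 5, 3, 1, 2, 3, 5, 4, 3, 1, 2, 3, 2, 1, 0] (Cert.fail)),
  (1, Cert.step [1, 2, 3, 2, 1, 6, 3, 2, 5, 5, 4, 3, 2, 3, 6, 1, 2, 3, 2, 0, 1] (Cert.fail)),
  (1, Cert.step [4, 6, 3, 2, 5, 3, 2, 4, 3, 2, 6, 1, 2, 3, 6, 2, 3, 1, 2, 3, 6, 5] (Cert.step [2, 6, 3, 2, 1, 3, 2, 3, 2, 1, 3, 2, 3, 4, 2, 3, 1, 2, 3, 1, 2, 3, 6, 5, 1] (Cert.badAt 0))),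
  (1, Cert.step [4, 6, 3, 2, 3, 2, 5, 3, 2, 1, 0, 2, 3, 6, 3, 2, 3, 1, 2, 3, 6, 4] (Cert.fail)),
  (1, Cert.step [2, 1, 3, 6, 3, 2, 1, 0, 3, 5, 2, 3, 1, 2, 3, 6, 2, 3, 2, 3] (Cert.step [0, 1, 2, 1, 5, 3, 2, 6, 3, 2, 1, 6, 3, 2, 3, 1, 2, 3, 6, 2, 3, 2, 3] (Cert.badAt 0))),
  (1, Cert.fail),
  (1, Cert.step [1, 2, 3, 4, 3, 2, 3, 5, 3, 4, 3, 1, 2, 3, 5, 4, 3, 1, 2, 3, 2, 1, 0] (Cert.fail)),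
  (1, Cert.step [2, 6, 5, 3, 2, 3, 2, 4, 3, 5, 6, 1, 2, 3, 5, 4, 3, 2, 1] (Cert.fail)),
  (1, Cert.step [0, 1, 2, 3, 2, 1, 0, 6, 3, 2, 1, 3, 2, 5, 1, 2, 3, 6, 2, 3, 5, 1, 2, 0, 1] (Cert.fail)),
  (1, Cert.step [0, 1, 3, 6, 3, 2, 3, 2, 5, 6, 4, 0, 1, 2, 3, 5, 2, 3, 6] (Cert.fail)),
  (1, Cert.step [2, 5, 3, 6, 4, 3, 5, 2, 3, 2, 3, 5, 3] (Cert.step [] (Cert.badAt 0))),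
  (1, Cert.step [6, 3, 2, 4, 3, 2, 1, 3, 2, 6, 3, 5, 1, 2, 1, 0] (Cert.fail)),
  (1, Cert.step [6, 3, 2, 3, 4, 5, 3, 2, 1, 5, 3, 6, 2, 3, 2, 3, 6, 3, 2, 3, 2, 1] (Cert.fail)),
  (2, Cert.fail),
  (1, Cert.step [6, 3, 2, 4, 3, 2, 1, 3, 2, 6, 3, 5, 1, 2, 1, 0] (Cert.step [] (Cert.badAt 0))),
  (1, Cert.step [0, 1, 2, 1, 3, 2, 1, 3, 6, 5, 6, 2, 3, 5, 2, 3, 1, 2, 3, 5, 2, 1] (Cert.fail)),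
  (1, Cert.step [1, 2, 3, 6, 5, 3, 2, 1, 3, 4, 3, 2, 3, 2, 3, 0, 1, 2, 3, 5, 6, 3, 2, 1] (Cert.fail)),
  (1, Cert.step [2, 4, 6, 3, 2, 1, 5, 3, 2, 1, 6, 3, 2, 3, 6, 3, 2, 3, 1, 2, 1, 0] (Cert.fail)),
  (1, Cert.fail),
  (1, Cert.step [2, 1, 6, 5, 3, 2, 4, 6, 3, 5, 6, 1, 2, 3, 5, 1, 2, 3, 6, 4, 2] (Cert.fail)),
  (1, Cert.step [3, 5, 3, 2, 3, 2, 5, 3, 4, 6, 3, 5, 2] (Cert.fail)),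
  (1, Cert.step [2, 1, 0, 3, 6, 3, 2, 3, 2, 6, 3, 0, 1, 2, 3, 4, 2, 3, 5, 3, 6] (Cert.fail)),
  (1, Cert.step [2, 6, 3, 2, 1, 3, 2, 5, 3, 6, 3, 2, 3, 0, 1, 2, 3, 6, 0] (Cert.fail)),
  (1, Cert.step [2, 1, 6, 3, 4, 5, 3, 2, 4, 3, 6, 3, 0, 1, 2, 3, 1, 2, 3, 6, 5] (Cert.fail)),
  (1, Cert.step [2, 6, 3, 2, 4, 3, 2, 1, 6, 3, 2, 5, 3, 6, 3, 4, 3, 2, 3, 5, 3, 1, 2] (Cert.fail)),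
  (1, Cert.step [0, 2, 4, 6, 3, 2, 1, 3, 4, 2, 3, 6, 3, 2, 3, 1, 2, 3, 6, 4] (Cert.fail)),
  (1, Cert.step [0, 6, 5, 3, 2, 3, 2, 1, 5, 3, 6, 4, 2, 3, 2, 3, 6, 3, 1, 2] (Cert.fail)),
  (1, Cert.step [2, 1, 3, 6, 3, 2, 4, 3, 2, 5, 6, 3, 1, 2, 3, 5, 2, 3, 6, 4] (Cert.fail)),
  (1, Cert.step [2, 1, 0, 3, 6, 3, 2, 3, 2, 6, 3, 1, 2, 3, 5, 4, 3, 2, 3, 5, 3, 6] (Cert.fail)),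
  (1, Cert.fail),
  (1, Cert.step [1, 4, 6, 3, 2, 1, 4, 3, 2, 6, 3, 2, 3, 6, 2, 3, 4, 1, 2, 3, 6, 4, 1] (Cert.fail)),
  (1, Cert.step [6, 3, 2, 3, 4, 5, 3, 2, 1, 5, 3, 6, 2, 3, 2, 3, 6, 3, 2, 3, 2, 1] (Cert.fail)),
  (1, Cert.step [2, 1, 3, 6, 3, 2, 1, 3, 2, 5, 3, 1, 2, 3, 6, 2, 3, 2, 3, 0] (Cert.fail)),
  (1, Cert.fail),
  (1, Cert.step [1, 0, 2, 3, 2, 5, 3, 6, 5, 1, 2, 3, 6, 4, 3, 5, 2, 3, 2] (Cert.fail)),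
  (1, Cert.fail),
  (1, Cert.step [6, 3, 2, 3, 2, 1, 3, 2, 3, 6, 3, 4, 2, 3, 5, 0, 1, 2, 3, 2, 3, 6] (Cert.fail)),
  (1, Cert.step [2, 1, 0, 3, 6, 3, 2, 3, 2, 6, 4, 3, 1, 2, 3, 5, 3, 4, 3, 2, 3, 6] (Cert.fail)),
  (1, Cert.step [2, 5, 3, 6, 3, 1, 2, 3, 2, 3, 6, 3, 1, 2, 0] (Cert.fail)),
  (1, Cert.step [6, 3, 2, 3, 4, 3, 2, 1, 3, 2, 6, 4, 3, 2, 3, 6, 3, 4, 1, 2] (Cert.fail)),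
  (1, Cert.step [0, 6, 5, 3, 2, 3, 4, 2, 3, 6, 0] (Cert.fail)),
  (1, Cert.step [4, 6, 3, 2, 5, 3, 2, 4, 3, 2, 6, 1, 2, 3, 6, 2, 3, 1, 2, 3, 6, 5] (Cert.fail)),
  (1, Cert.step [3, 4, 5, 3, 2, 1, 0, 3, 4, 5, 3, 2, 3, 6, 2, 3, 5, 1, 2, 3, 4, 2, 3, 6, 5] (Cert.fail)),
  (1, Cert.fail),
  (1, Cert.step [3, 2, 3, 2, 1, 4, 3, 2, 3, 4, 5, 3, 2, 3, 5, 6, 3, 1, 2, 3, 5, 4, 2] (Cert.fail)),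
  (1, Cert.step [1, 0, 2, 3, 2, 1, 3, 4, 6, 3, 2, 5, 3, 2, 3, 5, 3, 0] (Cert.fail)),
  (1, Cert.step [0, 2, 4, 6, 3, 2, 4, 3, 6, 4, 1, 2, 3, 6, 2, 3, 1, 2, 3, 6, 5, 0] (Cert.fail)),
  (1, Cert.step [1, 4, 6, 3, 2, 1, 4, 3, 2, 6, 3, 2, 3, 6, 2, 3, 0, 1, 2, 3, 6, 5, 1, 0] (Cert.fail)),
  (1, Cert.fail),
  (1, Cert.step [1, 6, 3, 4, 5, 3, 2, 1, 6, 3, 6, 2, 3, 1, 2, 3, 6, 5, 2] (Cert.step [4, 6, 3, 2, 5, 3, 2, 1, 3, 2, 4, 6, 3, 6, 2, 3, 1, 2, 3, 5, 2, 3, 6] (Cert.badAt 0))),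
  (1, Cert.fail),
  (1, Cert.step [0, 1, 0, 2, 3, 2, 6, 3, 2, 1, 3, 6, 3, 5, 2, 3, 4, 1, 2, 3, 6] (Cert.fail)),
  (1, Cert.step [2, 5, 0, 1, 2, 3, 5, 4, 3, 1, 2, 1] (Cert.fail)),
  (1, Cert.step [1, 3, 2, 5, 3, 4, 6, 3, 2, 3, 4, 5, 1, 2, 3, 2, 3, 6, 3, 2, 3, 5, 3] (Cert.fail)),
  (1, Cert.step [6, 3, 2, 3, 5, 3, 4, 3, 2, 3, 5, 6, 0] (Cert.fail)),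
  (1, Cert.step [1, 2, 1, 3, 2, 1, 4, 6, 3, 2, 4, 3, 6, 1, 2, 3, 1, 2, 3, 6, 3, 4, 1] (Cert.fail)),
  (1, Cert.step [0, 1, 3, 6, 3, 2, 3, 2, 1, 6, 3, 4, 6, 5, 0] (Cert.fail))]),
  (595, Cert.bad 1462)]

/-- no element conjugates the element of order 17 to its cube -/
def certT3 : Cert := Cert.rl [(1462, Cert.bad 1462),
  (1, Cert.rl [(2, Cert.fail),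
  (1, Cert.step [1, 6, 3, 4, 5, 3, 2, 1, 6, 3, 6, 2, 3, 1, 2, 3, 6, 5, 2] (Cert.fail)),
  (2, Cert.fail),
  (1, Cert.step [1, 6, 3, 4, 5, 3, 2, 1, 6, 3, 6, 2, 3, 1, 2, 3, 6, 5, 2] (Cert.fail)),
  (3, Cert.fail),
  (1, Cert.step [6, 3, 2, 5, 3, 2, 1, 4, 3, 6, 2, 3, 2, 3, 6, 3, 2, 3, 2, 0, 1] (Cert.fail)),
  (1, Cert.fail),
  (1, Cert.step [1, 3, 5, 6, 3, 2, 1, 3, 4, 5, 3, 2, 3, 1, 2, 3, 5, 2, 3, 0] (Cert.fail)),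
  (1, Cert.step [] (Cert.fail)),
  (1, Cert.fail),
  (1, Cert.step [1, 3, 5, 6, 3, 2, 1, 3, 4, 5, 3, 2, 3, 1, 2, 3, 5, 2, 3, 0] (Cert.fail)),
  (1, Cert.fail),
  (1, Cert.step [2, 5, 6, 3, 2, 1, 3, 2, 6, 4, 3, 1, 2, 3, 6, 3, 5, 1, 2] (Cert.fail)),
  (2, Cert.fail),
  (1, Cert.step [2, 1, 3, 6, 3, 2, 3, 2, 4, 6, 1, 2, 3, 2, 3, 5, 4, 3, 6] (Cert.fail)),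
  (1, Cert.fail),
  (1, Cert.step [1, 2, 3, 2, 1, 5, 3, 6, 4, 3, 5, 2, 3, 2, 3, 5, 3] (Cert.fail)),
  (1, Cert.step [2, 1, 3, 6, 3, 2, 3, 2, 4, 6, 1, 2, 3, 2, 3, 5, 4, 3, 6] (Cert.fail)),
  (1, Cert.fail),
  (1, Cert.step [1, 6, 3, 4, 5, 3, 2, 1, 6, 3, 6, 2, 3, 1, 2, 3, 6, 5, 2] (Cert.fail)),
  (1, Cert.step [2, 5, 6, 3, 2, 1, 3, 2, 6, 4, 3, 1, 2, 3, 6, 3, 5, 1, 2] (Cert.fail)),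
  (1, Cert.step [6, 3, 2, 5, 3, 2, 1, 4, 3, 6, 2, 3, 2, 3, 6, 3, 2, 3, 2, 0, 1] (Cert.fail)),
  (1, Cert.fail),
  (1, Cert.step [1, 2, 5, 6, 3, 2, 3, 5, 3, 2, 1, 3, 2, 3, 0, 1, 2, 3, 5, 3] (Cert.fail)),
  (1, Cert.fail),
  (1, Cert.step [1, 0, 2, 3, 2, 1, 3, 6, 3, 2, 3, 6, 5, 4, 3, 2, 3, 6, 5, 3] (Cert.fail)),
  (1, Cert.step [1, 0, 3, 6, 3, 2, 1, 3, 4, 5, 3, 6, 2, 3, 1, 2, 3, 6, 5, 2] (Cert.fail)),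
  (1, Cert.step [1, 2, 3, 4, 3, 2, 3, 5, 3, 4, 1, 2, 3, 5, 2, 3, 1, 2, 3, 2, 0, 1, 0] (Cert.fail)),
  (1, Cert.step [2, 1, 0, 3, 6, 3, 2, 3, 2, 6, 3, 1, 2, 3, 5, 4, 3, 2, 3, 5, 3, 6] (Cert.fail)),
  (1, Cert.step [6, 3, 2, 3, 4, 6, 3, 6, 3, 1, 2, 3, 6, 2, 3, 1, 2, 3, 5, 6] (Cert.fail)),
  (1, Cert.fail),
  (1, Cert.step [2, 1, 0, 3, 6, 3, 2, 3, 2, 6, 3, 0, 1, 2, 3, 4, 2, 3, 5, 3, 6] (Cert.fail)),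
  (1, Cert.step [1, 2, 3, 6, 5, 3, 2, 1, 3, 4, 3, 2, 3, 2, 3, 0, 1, 2, 3, 5, 6, 3, 2, 1] (Cert.fail)),
  (2, Cert.fail),
  (1, Cert.step [1, 2, 5, 6, 3, 2, 3, 5, 3, 2, 1, 3, 2, 3, 0, 1, 2, 3, 5, 3] (Cert.fail)),
  (1, Cert.fail),
  (1, Cert.step [1, 3, 5, 6, 3, 2, 1, 3, 4, 5, 3, 2, 3, 1, 2, 3, 5, 2, 3, 0] (Cert.fail)),
  (1, Cert.step [6, 3, 2, 5, 3, 2, 1, 4, 3, 6, 2, 3, 2, 3, 6, 3, 2, 3, 2, 0, 1] (Cert.fail)),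
  (1, Cert.step [2, 5, 6, 3, 2, 1, 3, 2, 6, 4, 3, 1, 2, 3, 6, 3, 5, 1, 2] (Cert.fail)),
  (1, Cert.step [6, 3, 2, 5, 3, 2, 1, 3, 4, 6, 5, 2, 3, 2, 3, 6, 3, 1, 0] (Cert.fail)),
  (1, Cert.step [0, 1, 3, 6, 3, 2, 3, 2, 5, 6, 1, 2, 3, 4, 2, 3, 5, 3, 6] (Cert.fail)),
  (1, Cert.fail),
  (1, Cert.step [1, 2, 4, 3, 2, 1, 5, 3, 6, 5, 6, 2, 3, 5, 2, 3, 1, 2, 3, 5, 2, 1] (Cert.fail)),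
  (1, Cert.step [0, 6, 3, 4, 5, 3, 2, 1, 3, 2, 6, 3, 2, 3, 5, 6, 3, 0, 1, 2, 3, 6, 5, 3] (Cert.fail)),
  (1, Cert.fail),
  (1, Cert.step [2, 4, 6, 3, 4, 5, 3, 2, 1, 3, 2, 1, 6, 3, 4, 2, 3, 6, 3, 4, 1] (Cert.fail)),
  (1, Cert.fail),
  (1, Cert.step [6, 3, 2, 3, 4, 5, 3, 2, 1, 5, 3, 6, 2, 3, 2, 3, 6, 3, 1, 2] (Cert.fail)),
  (1, Cert.fail),
  (1, Cert.step [1, 2, 5, 6, 3, 2, 3, 5, 3, 2, 1, 3, 2, 3, 5, 1, 2, 3, 4, 3, 0] (Cert.fail)),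
  (1, Cert.step [1, 3, 6, 3, 2, 1, 3, 5, 3, 2, 3, 5, 6, 3, 0, 1, 2, 3, 6, 5, 3] (Cert.fail)),
  (1, Cert.fail),
  (1, Cert.step [1, 2, 4, 3, 2, 1, 6, 3, 2, 3, 2, 1, 4, 5, 4, 3, 6, 2, 3, 4, 2, 1] (Cert.fail)),
  (1, Cert.step [1, 2, 1, 3, 2, 1, 4, 6, 3, 2, 3, 5, 3, 2, 3, 6, 4, 2, 0] (Cert.fail)),
  (1, Cert.step [6, 3, 2, 5, 3, 2, 1, 4, 3, 6, 2, 3, 2, 3, 6, 3, 2, 3, 2, 0, 1] (Cert.fail)),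
  (1, Cert.step [0, 5, 6, 3, 2, 3, 2, 5, 3, 2, 6, 1, 2, 3, 6, 2, 3, 1, 2, 3, 6, 5] (Cert.fail)),
  (1, Cert.step [1, 3, 5, 3, 2, 3, 4, 6, 3, 4, 2, 3, 5, 3, 1, 0] (Cert.fail)),
  (1, Cert.step [6, 3, 2, 5, 3, 2, 1, 4, 3, 6, 2, 3, 2, 3, 6, 3, 2, 3, 2, 0, 1] (Cert.fail)),
  (1, Cert.step [1, 3, 6, 3, 5, 3, 2, 6, 3, 2, 3, 4, 5, 1, 2, 3, 1, 2, 3, 5, 3] (Cert.fail)),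
  (1, Cert.step [3, 4, 5, 3, 2, 1, 3, 4, 5, 3, 2, 3, 6, 2, 3, 5, 4, 1, 2, 3, 2, 3, 6, 4] (Cert.fail)),
  (1, Cert.step [1, 0, 3, 6, 3, 2, 1, 3, 4, 5, 3, 6, 2, 3, 1, 2, 3, 6, 5, 2] (Cert.fail)),
  (1, Cert.fail),
  (1, Cert.step [1, 6, 3, 2, 1, 5, 3, 2, 6, 3, 5, 3, 2, 3, 4, 1, 2, 3, 5, 6, 1, 2, 3] (Cert.fail)),
  (1, Cert.step [6, 3, 2, 5, 3, 2, 1, 4, 3, 6, 2, 3, 2, 3, 6, 3, 2, 3, 2, 0, 1] (Cert.fail)),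
  (1, Cert.fail),
  (1, Cert.step [2, 1, 5, 3, 6, 3, 2, 1, 3, 4, 6, 2, 3, 1, 2, 3, 6, 5, 2] (Cert.fail)),
  (1, Cert.step [2, 5, 6, 3, 2, 1, 3, 2, 6, 3, 5, 4, 2, 3, 1, 2, 3, 6, 2, 3, 2, 3] (Cert.fail)),
  (1, Cert.step [1, 3, 2, 1, 3, 2, 5, 6, 3, 2, 1, 3, 6, 4, 2, 3, 1, 2, 3, 6, 5, 3, 1] (Cert.fail)),
  (2, Cert.fail),
  (1, Cert.step [0, 2, 4, 6, 3, 2, 3, 5, 3, 2, 3, 6, 4] (Cert.fail)),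
  (1, Cert.step [6, 3, 2, 5, 3, 2, 1, 3, 4, 6, 5, 2, 3, 2, 3, 6, 3, 1, 0] (Cert.fail)),
  (2, Cert.fail),
  (1, Cert.step [1, 2, 3, 6, 5, 3, 2, 1, 0, 3, 2, 3, 2, 3, 4, 3, 1, 2, 3, 5, 6, 3, 2, 1] (Cert.fail)),
  (1, Cert.step [6, 3, 2, 5, 3, 2, 1, 3, 4, 6, 5, 2, 3, 2, 3, 6, 3, 1, 0] (Cert.fail)),
  (1, Cert.step [0, 3, 5, 6, 3, 2, 1, 3, 4, 5, 3, 2, 4, 3, 1, 2, 3, 6, 3, 5, 1, 2] (Cert.fail)),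
  (1, Cert.step [1, 3, 5, 6, 3, 2, 1, 3, 4, 5, 3, 2, 3, 1, 2, 3, 5, 2, 3, 0] (Cert.fail)),
  (1, Cert.step [2, 5, 6, 3, 2, 1, 3, 2, 6, 4, 3, 1, 2, 3, 6, 3, 5, 1, 2] (Cert.fail)),
  (1, Cert.step [0, 2, 4, 6, 3, 2, 3, 5, 3, 2, 3, 6, 4] (Cert.fail)),
  (1, Cert.step [6, 5, 3, 2, 3, 2, 1, 3, 2, 3, 6, 3, 2, 3, 5, 4, 3, 6, 1, 2] (Cert.fail)),
  (1, Cert.step [1, 2, 3, 2, 6, 1, 2, 3, 2, 3, 5, 3, 2, 3, 6, 0] (Cert.step [3, 2, 5, 3, 2, 1, 6, 3, 5, 6, 3, 2, 4, 3, 6, 2, 3, 0, 1, 2, 3, 5, 2, 3, 6, 5] (Cert.badAt 0))),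
  (1, Cert.fail),
  (1, Cert.step [6, 5, 3, 2, 1, 3, 2, 5, 6, 3, 5, 4, 3, 1, 2, 3, 6, 3, 5, 1, 2] (Cert.step [3, 2, 3, 2, 6, 3, 2, 1, 3, 2, 3, 6, 1, 2, 3, 6, 2, 3, 5, 1, 2, 1, 0] (Cert.badAt 0))),
  (2, Cert.fail),
  (1, Cert.step [6, 3, 2, 4, 3, 2, 1, 3, 2, 3, 6, 3, 2, 3, 1, 2, 3, 4, 2, 3, 6, 2] (Cert.step [1, 4, 5, 0, 1] (Cert.badAt 0))),
  (1, Cert.step [0, 1, 3, 6, 3, 2, 3, 2, 5, 1, 2, 3, 4, 3, 2, 3, 5, 3, 2, 3, 0] (Cert.fail)),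
  (1, Cert.step [1, 2, 5, 3, 2, 1, 3, 2, 5, 3, 2, 6, 3, 5, 6, 3, 1, 2, 3, 5, 2, 1] (Cert.fail)),
  (1, Cert.step [6, 3, 4, 5, 3, 2, 3, 2, 1, 6, 2, 3, 2, 3, 6, 3, 0, 1, 2] (Cert.fail)),
  (1, Cert.step [1, 2, 1, 3, 2, 1, 4, 6, 3, 2, 3, 5, 3, 2, 3, 6, 4, 2, 0] (Cert.fail)),
  (1, Cert.step [0, 2, 6, 3, 2, 1, 3, 2, 3, 6, 3, 4, 2, 3, 1, 2, 3, 6, 2] (Cert.fail)),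
  (1, Cert.fail),
  (1, Cert.step [1, 3, 6, 3, 2, 3, 2, 1, 5, 6, 3, 5, 2, 3, 2, 3, 5, 6] (Cert.fail)),
  (1, Cert.step [0, 6, 5, 3, 2, 3, 4, 3, 5, 3, 2, 3, 6] (Cert.fail)),
  (1, Cert.step [1, 3, 2, 5, 3, 4, 6, 3, 2, 1, 5, 6, 3, 4, 3, 2] (Cert.fail)),
  (1, Cert.step [6, 3, 2, 1, 5, 3, 2, 6, 5, 3, 5, 4, 3, 1, 2, 3, 6, 3, 0, 1, 2] (Cert.fail)),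
  (1, Cert.step [1, 2, 3, 2, 1, 0, 3, 2, 3, 5, 3, 6, 3, 5, 3, 6, 2, 3, 2] (Cert.fail)),
  (1, Cert.fail),
  (1, Cert.step [4, 6, 3, 2, 3, 4, 5, 3, 2, 4, 3, 6, 1, 2, 3, 5, 4, 3, 2, 1] (Cert.fail)),
  (3, Cert.fail),
  (1, Cert.step [0, 1, 3, 6, 3, 2, 3, 2, 5, 6, 1, 2, 3, 4, 2, 3, 5, 3, 6] (Cert.fail)),
  (1, Cert.step [2, 6, 3, 2, 1, 3, 2, 5, 3, 6, 3, 2, 3, 4, 1, 2, 3, 5, 6] (Cert.fail)),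
  (1, Cert.fail),
  (1, Cert.step [0, 2, 6, 3, 2, 1, 4, 3, 6, 2, 3, 1, 2, 3, 6, 3, 1, 2, 0] (Cert.step [2, 3, 2, 1, 5, 3, 4, 6, 3, 4, 2, 3, 6, 4, 3, 5, 1, 2, 3, 1, 2] (Cert.badAt 0))),
  (1, Cert.step [3, 2, 6, 3, 5, 3, 6, 3, 5, 3, 2, 3, 4, 1, 2, 3, 2, 1] (Cert.fail)),
  (1, Cert.step [2, 1, 0, 3, 6, 3, 2, 3, 2, 6, 4, 3, 1, 2, 3, 5, 3, 4, 3, 2, 3, 6] (Cert.fail)),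
  (1, Cert.step [1, 2, 5, 3, 2, 1, 3, 6, 5, 3, 6, 2, 3, 5, 2, 3, 1, 2, 3, 5, 2, 1] (Cert.fail)),
  (1, Cert.step [1, 3, 6, 3, 2, 1, 3, 5, 3, 2, 3, 5, 6, 3, 0, 1, 2, 3, 6, 5, 3] (Cert.step [1, 2, 1, 0, 3, 2, 6, 3, 2, 1, 6, 3, 2, 3, 1, 2, 3, 6, 2, 3, 2, 3] (Cert.badAt 0))),
  (1, Cert.step [1, 0, 2, 3, 2, 3, 6, 3, 2, 3, 2, 6, 1, 2, 3, 2, 3, 5, 4, 3, 6] (Cert.fail)),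
  (1, Cert.step [1, 2, 4, 3, 2, 3, 6, 3, 2, 3, 2, 6, 1, 2, 3, 5, 2, 3, 6, 4] (Cert.fail)),
  (1, Cert.fail),
  (1, Cert.step [2, 5, 6, 3, 2, 1, 3, 2, 6, 4, 3, 1, 2, 3, 6, 3, 5, 1, 2] (Cert.fail)),
  (1, Cert.step [1, 2, 3, 2, 5, 3, 6, 3, 2, 3, 2, 3, 6, 3, 1, 2, 0] (Cert.fail)),
  (1, Cert.step [0, 3, 2, 5, 3, 2, 1, 3, 2, 3, 5, 4, 3, 1, 2, 3, 6, 5, 3, 1] (Cert.fail)),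
  (1, Cert.step [6, 3, 2, 4, 3, 2, 1, 3, 2, 3, 6, 3, 2, 3, 1, 2, 3, 4, 2, 3, 6, 2] (Cert.fail)),
  (1, Cert.step [1, 2, 3, 2, 6, 1, 2, 3, 2, 3, 5, 3, 2, 3, 6, 0] (Cert.fail)),
  (1, Cert.step [0, 6, 5, 3, 2, 3, 2, 1, 5, 3, 6, 2, 3, 2, 3, 6, 3, 0, 1, 2] (Cert.fail)),
  (2, Cert.fail),
  (1, Cert.step [0, 2, 6, 3, 2, 1, 2, 3, 6, 3, 2, 3, 4, 1, 2, 3, 6, 2, 0] (Cert.fail)),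
  (1, Cert.step [1, 0, 3, 6, 3, 2, 1, 3, 4, 5, 3, 6, 2, 3, 1, 2, 3, 6, 5, 2] (Cert.fail)),
  (1, Cert.step [6, 3, 4, 5, 3, 2, 3, 2, 1, 6, 2, 3, 2, 3, 6, 3, 0, 1, 2] (Cert.fail)),
  (1, Cert.step [1, 2, 5, 3, 2, 1, 4, 3, 2, 3, 5, 3, 4, 2, 3, 5, 1, 2, 3, 2, 1, 0] (Cert.fail)),
  (1, Cert.fail),
  (1, Cert.step [6, 3, 2, 4, 3, 2, 1, 3, 2, 3, 6, 3, 2, 3, 1, 2, 3, 4, 2, 3, 6, 2] (Cert.fail)),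
  (1, Cert.step [2, 4, 6, 3, 2, 3, 5, 3, 2, 3, 5, 6, 1, 2, 3, 5, 4, 3, 2, 1] (Cert.step [2, 1, 4, 5, 3, 2, 6, 5, 3, 4, 6, 3, 1, 2, 3, 1, 2, 3, 5, 3, 2, 3, 6, 3] (Cert.badAt 0))),
  (1, Cert.fail),
  (1, Cert.step [0, 5, 3, 6, 3, 2, 4, 1, 2, 3, 6, 2, 3, 1, 2, 3, 6, 5, 0] (Cert.fail)),
  (1, Cert.step [0, 1, 3, 6, 3, 2, 3, 2, 5, 1, 2, 3, 4, 3, 2, 3, 5, 3, 2, 3, 0] (Cert.step [1, 2, 6, 3, 2, 1, 3, 2, 3, 2, 1, 4, 2, 3, 2, 3, 1, 2, 3, 4, 1, 2, 3, 6, 2] (Cert.badAt 0))),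
  (1, Cert.fail),
  (1, Cert.step [2, 1, 6, 5, 3, 2, 4, 6, 3, 5, 6, 1, 2, 3, 5, 1, 2, 3, 6, 4, 2] (Cert.fail)),
  (1, Cert.step [6, 3, 2, 3, 4, 6, 3, 6, 3, 1, 2, 3, 6, 2, 3, 1, 2, 3, 5, 6] (Cert.fail)),
  (1, Cert.fail),
  (1, Cert.step [2, 1, 3, 6, 3, 2, 3, 2, 4, 6, 1, 2, 3, 2, 3, 5, 4, 3, 6] (Cert.fail)),
  (1, Cert.fail),
  (1, Cert.step [1, 2, 1, 3, 5, 6, 3, 2, 3, 5, 3, 2, 1, 3, 2, 3, 0, 1, 2, 3, 5, 3] (Cert.fail)),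
  (1, Cert.step [0, 2, 5, 3, 4, 6, 3, 2, 3, 5, 3, 2, 3, 1, 2, 3, 5, 4, 3, 2, 1] (Cert.fail)),
  (1, Cert.step [0, 5, 6, 4, 3, 6, 1, 2, 3, 2, 3, 6, 3, 1, 0] (Cert.fail)),
  (2, Cert.fail),
  (1, Cert.step [3, 2, 3, 2, 1, 4, 3, 2, 3, 4, 5, 3, 2, 3, 5, 6, 3, 1, 2, 3, 5, 4, 2] (Cert.fail)),
  (1, Cert.fail),
  (1, Cert.step [0, 2, 6, 3, 4, 5, 3, 2, 3, 6, 1, 2, 3, 6, 2, 3, 1, 2, 3, 6, 5] (Cert.fail)),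
  (1, Cert.step [1, 3, 6, 3, 5, 3, 2, 6, 3, 2, 3, 4, 5, 1, 2, 3, 1, 2, 3, 5, 3] (Cert.fail)),
  (2, Cert.fail),
  (1, Cert.step [1, 2, 6, 3, 2, 1, 3, 2, 1, 3, 4, 3, 6, 2, 3, 0, 1, 2, 3, 6, 4, 3, 2, 3, 1] (Cert.fail)),
  (1, Cert.step [2, 6, 3, 2, 4, 3, 2, 1, 5, 3, 6, 2, 3, 2, 3, 6, 3, 2, 3, 4, 2, 1] (Cert.fail)),
  (1, Cert.fail),
  (1, Cert.step [1, 2, 3, 6, 5, 3, 2, 1, 0, 3, 2, 3, 2, 3, 4, 3, 1, 2, 3, 5, 6, 3, 2, 1] (Cert.fail)),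
  (1, Cert.step [3, 5, 6, 3, 2, 1, 0, 3, 6, 5, 3, 2, 4, 3, 1, 2, 3, 6, 3, 5, 1, 2] (Cert.fail)),
  (1, Cert.fail),
  (1, Cert.step [2, 6, 3, 4, 5, 3, 2, 3, 2, 4, 6, 4, 1, 2, 3, 2, 3, 6, 3, 5, 1, 0] (Cert.fail)),
  (1, Cert.step [6, 5, 3, 2, 1, 3, 2, 6, 3, 2, 1, 3, 6, 3, 5, 6, 3, 2, 3, 6, 0] (Cert.fail)),
  (1, Cert.step [1, 2, 3, 4, 5, 3, 2, 1, 6, 2, 3, 2, 3, 4, 2, 3, 6, 1, 2, 3, 2, 1] (Cert.step [2, 3, 2, 1, 0, 5, 3, 4, 6, 3, 2, 3, 6, 4, 3, 5, 6, 1, 2, 3, 5, 1, 2] (Cert.badAt 0))),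
  (1, Cert.step [1, 2, 3, 2, 1, 5, 3, 6, 4, 3, 5, 2, 3, 2, 3, 5, 3] (Cert.fail)),
  (3, Cert.fail),
  (1, Cert.step [1, 2, 3, 2, 1, 0, 3, 2, 3, 5, 3, 6, 3, 5, 3, 6, 2, 3, 2] (Cert.fail)),
  (1, Cert.step [0, 2, 4, 6, 3, 2, 3, 5, 3, 2, 3, 6, 4] (Cert.step [2, 1, 3, 5, 3, 2, 1, 3, 6, 3, 4, 3, 2, 3, 6, 4, 3, 1, 2, 3, 5, 3, 2] (Cert.badAt 0))),
  (1, Cert.fail),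
  (1, Cert.step [2, 1, 0, 3, 6, 3, 2, 3, 2, 6, 3, 4, 1, 2, 3, 5, 2, 3, 6] (Cert.fail)),
  (1, Cert.fail),
  (1, Cert.step [0, 2, 4, 6, 3, 2, 3, 5, 3, 2, 3, 6, 4] (Cert.fail)),
  (1, Cert.step [1, 3, 2, 1, 5, 3, 4, 6, 3, 2, 4, 3, 0, 1, 2, 3, 6, 2, 3, 5, 2, 3, 0] (Cert.step [4, 6, 3, 2, 4, 5, 3, 2, 1, 4, 3, 2, 1, 3, 6, 3, 2, 3, 0, 1, 2, 3, 5, 2, 3, 6] (Cert.badAt 0))),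
  (1, Cert.step [2, 6, 3, 2, 4, 3, 2, 1, 6, 3, 2, 5, 3, 6, 3, 4, 3, 2, 3, 5, 3, 1, 2] (Cert.step [1, 2, 1, 0, 3, 2, 6, 3, 2, 1, 6, 3, 2, 3, 1, 2, 3, 6, 2, 3, 2, 3] (Cert.badAt 0))),
  (1, Cert.step [3, 2, 1, 5, 3, 4, 6, 3, 4, 2, 3, 6, 4, 3, 5, 1, 2, 3, 1] (Cert.fail)),
  (1, Cert.step [0, 6, 5, 3, 2, 3, 2, 1, 5, 3, 6, 4, 2, 3, 2, 3, 6, 3, 1, 2] (Cert.fail)),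
  (1, Cert.fail),
  (1, Cert.step [4, 6, 3, 2, 3, 2, 1, 4, 5, 3, 2, 6, 3, 6, 2, 3, 4, 1, 2, 3, 2, 3, 6, 4, 0] (Cert.fail)),
  (1, Cert.step [0, 3, 2, 4, 3, 2, 1, 0, 3, 2, 3, 5, 3, 4, 3, 2, 3, 1, 2, 3, 4, 2, 3] (Cert.fail)),
  (1, Cert.step [1, 0, 2, 1, 3, 4, 5, 3, 2, 6, 3, 5, 1, 2, 3, 5, 2, 3, 6, 4] (Cert.fail)),
  (1, Cert.step [2, 6, 3, 4, 5, 3, 2, 3, 2, 4, 6, 4, 1, 2, 3, 2, 3, 6, 3, 5, 1, 0] (Cert.fail)),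
  (1, Cert.fail),
  (1, Cert.step [6, 3, 4, 5, 3, 2, 3, 2, 1, 6, 2, 3, 2, 3, 6, 3, 2, 3, 5, 4, 2, 1] (Cert.fail)),
  (1, Cert.step [1, 4, 3, 2, 5, 3, 4, 6, 3, 4, 2, 3, 1, 2, 3, 5, 2, 3, 6, 4, 3, 5] (Cert.fail)),
  (2, Cert.fail),
  (1, Cert.step [1, 3, 6, 3, 2, 3, 2, 6, 5, 3, 5, 0, 1, 2, 3, 2, 3, 5, 6] (Cert.fail)),
  (1, Cert.step [6, 3, 2, 1, 4, 3, 2, 6, 3, 4, 3, 1, 2, 3, 6, 3, 1] (Cert.fail)),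
  (1, Cert.step [0, 6, 5, 3, 2, 3, 4, 2, 3, 6, 0] (Cert.fail)),
  (1, Cert.step [1, 0, 2, 3, 6, 3, 2, 1, 0, 3, 4, 2, 3, 2, 3, 0, 1, 2, 3, 5, 6, 3, 2, 1] (Cert.fail)),
  (1, Cert.step [3, 5, 6, 3, 2, 1, 0, 3, 6, 5, 3, 2, 4, 3, 6, 2, 3, 4, 1, 2, 3, 6, 2, 0] (Cert.fail)),
  (1, Cert.step [1, 3, 5, 6, 3, 2, 1, 3, 4, 5, 3, 2, 3, 1, 2, 3, 5, 2, 3, 0] (Cert.fail)),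
  (1, Cert.step [6, 3, 2, 3, 4, 5, 3, 2, 1, 5, 3, 6, 2, 3, 2, 3, 6, 3, 1, 2] (Cert.fail)),
  (1, Cert.fail),
  (1, Cert.step [1, 2, 6, 3, 2, 1, 3, 2, 1, 3, 4, 3, 6, 2, 3, 0, 1, 2, 3, 6, 4, 3, 2, 3, 1] (Cert.fail)),
  (1, Cert.step [0, 2, 6, 3, 5, 3, 2, 3, 2, 6, 1, 2, 3, 6, 2, 3, 5, 4, 1, 2, 3, 6, 2] (Cert.step [2, 6, 3, 2, 1, 3, 2, 3, 2, 1, 3, 2, 3, 4, 2, 3, 1, 2, 3, 1, 2, 3, 6, 5, 1] (Cert.badAt 0))),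
  (1, Cert.step [3, 2, 3, 2, 1, 4, 3, 2, 3, 4, 5, 3, 2, 3, 5, 6, 3, 1, 2, 3, 5, 4, 2] (Cert.fail)),
  (1, Cert.step [1, 3, 6, 3, 2, 3, 2, 6, 5, 3, 5, 1, 2, 3, 4, 3, 2, 3, 6] (Cert.fail)),
  (2, Cert.fail),
  (1, Cert.step [1, 0, 2, 1, 3, 2, 1, 6, 3, 4, 3, 2, 3, 5, 4, 3, 2, 3, 6] (Cert.fail)),
  (1, Cert.step [1, 4, 6, 3, 2, 1, 4, 3, 2, 6, 3, 2, 3, 6, 2, 3, 4, 1, 2, 3, 6, 4, 1] (Cert.fail)),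
  (1, Cert.step [4, 6, 3, 2, 3, 2, 3, 5, 3, 2, 1, 4, 3, 2, 3, 6, 3, 2, 3, 1, 2, 3, 6, 5, 0] (Cert.fail)),
  (1, Cert.step [2, 1, 5, 3, 6, 3, 2, 1, 3, 4, 6, 2, 3, 1, 2, 3, 6, 5, 2] (Cert.fail)),
  (1, Cert.step [1, 2, 4, 3, 2, 1, 6, 3, 2, 3, 2, 1, 4, 5, 4, 3, 6, 2, 3, 4, 2, 1] (Cert.fail)),
  (1, Cert.step [0, 2, 4, 6, 3, 2, 4, 3, 6, 4, 1, 2, 3, 6, 2, 3, 1, 2, 3, 6, 5, 0] (Cert.fail)),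
  (1, Cert.step [1, 2, 4, 3, 2, 3, 6, 3, 2, 3, 2, 6, 1, 2, 3, 5, 2, 3, 6, 4] (Cert.fail)),
  (1, Cert.step [3, 5, 3, 2, 1, 3, 2, 1, 5, 4, 3, 2, 3, 6, 2, 3, 5, 3, 6, 3, 1] (Cert.fail)),
  (1, Cert.step [0, 6, 3, 2, 1, 0, 3, 2, 3, 6, 3, 5, 2, 3, 1, 2, 3, 6, 2] (Cert.fail)),
  (1, Cert.step [2, 6, 3, 4, 5, 3, 2, 3, 2, 4, 6, 4, 1, 2, 3, 2, 3, 6, 3, 5, 1, 0] (Cert.step [2, 1, 3, 5, 3, 2, 1, 3, 6, 3, 4, 3, 2, 3, 6, 4, 3, 1, 2, 3, 5, 3, 2] (Cert.badAt 0))),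
  (2, Cert.fail),
  (1, Cert.step [1, 2, 3, 6, 5, 3, 2, 1, 3, 4, 3, 2, 3, 2, 3, 0, 1, 2, 3, 5, 6, 3, 2, 1] (Cert.fail)),
  (1, Cert.step [0, 1, 2, 4, 3, 2, 1, 6, 3, 2, 3, 5, 3, 2, 3, 6, 4] (Cert.fail)),
  (2, Cert.fail),
  (1, Cert.step [6, 3, 2, 1, 0, 5, 3, 2, 3, 6, 3, 2, 3, 1, 2, 3, 5, 2, 3, 6, 5] (Cert.fail)),
  (1, Cert.fail),
  (1, Cert.step [2, 4, 6, 3, 2, 3, 5, 3, 2, 3, 5, 6, 1, 2, 3, 5, 4, 3, 2, 1] (Cert.fail)),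
  (1, Cert.fail),
  (1, Cert.step [1, 2, 3, 2, 5, 3, 6, 3, 2, 3, 2, 3, 6, 3, 1, 2, 0] (Cert.fail)),
  (1, Cert.step [0, 1, 3, 6, 3, 2, 3, 2, 5, 6, 4, 0, 1, 2, 3, 5, 2, 3, 6] (Cert.fail)),
  (1, Cert.fail),
  (1, Cert.step [1, 0, 2, 3, 2, 1, 0, 5, 2] (Cert.fail)),
  (3, Cert.fail),
  (1, Cert.step [6, 5, 3, 2, 3, 2, 5, 3, 6, 5, 1, 2, 3, 2, 3, 6, 3, 1] (Cert.step [3, 2, 3, 2, 6, 3, 2, 1, 3, 2, 3, 6, 1, 2, 3, 6, 2, 3, 5, 1, 2, 1, 0] (Cert.badAt 0))),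
  (1, Cert.step [2, 6, 3, 2, 4, 3, 2, 1, 0, 3, 6, 2, 3, 2, 1] (Cert.fail)),
  (1, Cert.step [1, 2, 4, 3, 2, 1, 3, 2, 4, 3, 5, 3, 2, 3, 1, 2, 3, 5, 3, 2, 1] (Cert.fail)),
  (1, Cert.fail),
  (1, Cert.step [6, 3, 2, 3, 4, 3, 2, 1, 3, 2, 6, 4, 3, 2, 3, 6, 3, 4, 1, 2] (Cert.fail)),
  (1, Cert.fail),
  (1, Cert.step [1, 4, 3, 6, 3, 2, 3, 2, 1, 0, 3, 6, 3, 5, 4, 2] (Cert.fail)),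
  (2, Cert.fail),
  (1, Cert.step [0, 1, 3, 6, 3, 2, 3, 2, 5, 6, 1, 2, 3, 4, 2, 3, 5, 3, 6] (Cert.step [3, 2, 5, 3, 2, 1, 6, 3, 5, 6, 3, 2, 4, 3, 6, 2, 3, 0, 1, 2, 3, 5, 2, 3, 6, 5] (Cert.badAt 0))),
  (3, Cert.fail),
  (1, Cert.step [1, 2, 4, 3, 2, 1, 6, 3, 2, 3, 2, 1, 4, 5, 4, 3, 6, 2, 3, 4, 2, 1] (Cert.fail)),
  (1, Cert.step [2, 5, 3, 6, 1, 2, 3, 2, 3, 6, 2, 3, 5, 1, 2] (Cert.fail)),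
  (1, Cert.step [1, 2, 3, 2, 6, 5, 1, 2, 3, 2, 3, 4, 2, 3, 6] (Cert.fail)),
  (1, Cert.step [3, 2, 6, 3, 5, 3, 6, 3, 5, 3, 2, 3, 1, 2, 3, 5, 3, 2, 1, 0] (Cert.fail)),
  (1, Cert.step [1, 2, 5, 3, 2, 1, 4, 3, 2, 3, 5, 3, 4, 2, 3, 5, 1, 2, 3, 2, 1, 0] (Cert.fail)),
  (1, Cert.step [0, 4, 6, 3, 2, 3, 2, 1, 4, 3, 2, 6, 3, 6, 2, 3, 5, 4, 1, 2, 3, 2, 3, 6, 4] (Cert.fail)),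
  (1, Cert.step [1, 2, 3, 2, 6, 5, 1, 2, 3, 2, 3, 4, 2, 3, 6] (Cert.fail)),
  (2, Cert.fail),
  (1, Cert.step [2, 1, 3, 6, 3, 2, 4, 3, 2, 5, 6, 3, 1, 2, 3, 5, 2, 3, 6, 4] (Cert.fail)),
  (1, Cert.step [1, 0, 2, 3, 2, 5, 3, 6, 5, 1, 2, 3, 6, 4, 3, 5, 2, 3, 2] (Cert.step [2, 3, 2, 1, 0, 5, 3, 4, 6, 3, 2, 3, 6, 4, 3, 5, 6, 1, 2, 3, 5, 1, 2] (Cert.badAt 0))),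
  (1, Cert.step [1, 2, 1, 5, 3, 2, 6, 3, 4, 1, 2, 3, 2, 3, 6, 1, 2, 3, 4, 2, 1] (Cert.step [2, 1, 5, 3, 2, 1, 6, 5, 3, 4, 6, 3, 2, 3, 6, 4, 3, 5, 0, 1, 2, 3, 2] (Cert.badAt 0))),
  (1, Cert.step [0, 1, 0, 2, 3, 2, 4, 6, 3, 4, 1, 2, 3, 2, 3, 6, 1, 2, 3, 4, 2, 1] (Cert.fail)),
  (1, Cert.fail),
  (1, Cert.step [0, 3, 2, 4, 3, 2, 1, 3, 2, 3, 4, 5, 3, 1, 2, 3, 4, 1, 2, 3, 2, 3, 5] (Cert.step [1, 5, 6, 3, 2, 1, 3, 2, 1, 3, 2, 4, 3, 2, 3, 1, 2, 3, 2, 3, 1, 2, 3, 6, 2] (Cert.badAt 0))),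
  (1, Cert.fail),
  (1, Cert.step [1, 3, 5, 6, 3, 2, 1, 3, 4, 5, 3, 2, 3, 1, 2, 3, 5, 2, 3, 0] (Cert.fail)),
  (1, Cert.step [1, 2, 5, 3, 2, 1, 3, 2, 5, 3, 2, 6, 3, 5, 6, 3, 1, 2, 3, 5, 2, 1] (Cert.step [2, 1, 3, 5, 3, 2, 1, 3, 6, 3, 4, 3, 2, 3, 6, 4, 3, 1, 2, 3, 5, 3, 2] (Cert.badAt 0))),
  (1, Cert.step [5, 6, 3, 2, 3, 2, 1, 5, 3, 2, 3, 6, 3, 2, 3, 6, 2, 3, 1, 2, 0, 1] (Cert.step [2, 6, 3, 2, 1, 3, 2, 3, 2, 1, 3, 2, 3, 4, 2, 3, 1, 2, 3, 1, 2, 3, 6, 5, 1] (Cert.badAt 0))),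
  (1, Cert.step [0, 5, 6, 3, 2, 1, 3, 2, 6, 3, 2, 1, 4, 2, 3, 6, 3, 5, 0] (Cert.fail)),
  (1, Cert.step [1, 2, 4, 3, 2, 1, 6, 3, 2, 3, 2, 1, 4, 5, 4, 3, 6, 2, 3, 4, 3, 1, 2, 1] (Cert.step [1, 4, 5, 0, 1, 2, 6, 3, 2, 1, 3, 2, 3, 2, 1, 3, 2, 3, 4, 2, 3, 1, 2, 3, 1, 2, 3, 6, 5, 1] (Cert.badAt 0))),
  (1, Cert.step [1, 2, 1, 5, 3, 2, 6, 3, 4, 1, 2, 3, 2, 3, 6, 1, 2, 3, 4, 2, 1] (Cert.fail)),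
  (1, Cert.fail),
  (1, Cert.step [1, 2, 3, 2, 1, 0, 3, 2, 3, 5, 3, 6, 3, 5, 3, 6, 2, 3, 2] (Cert.fail)),
  (1, Cert.step [6, 3, 4, 5, 3, 2, 1, 3, 2, 5, 6, 3, 6, 2, 3, 1, 2, 3, 5, 6, 0] (Cert.fail)),
  (1, Cert.fail),
  (1, Cert.step [1, 2, 3, 4, 3, 2, 3, 5, 3, 4, 1, 2, 3, 5, 2, 3, 1, 2, 3, 2, 0, 1, 0] (Cert.step [1, 2, 1, 0, 3, 2, 6, 3, 2, 1, 6, 3, 2, 3, 1, 2, 3, 6, 2, 3, 2, 3] (Cert.badAt 0))),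
  (3, Cert.fail),
  (1, Cert.step [1, 6, 3, 4, 5, 3, 2, 1, 6, 3, 6, 2, 3, 1, 2, 3, 6, 5, 2] (Cert.fail)),
  (1, Cert.fail),
  (1, Cert.step [1, 6, 3, 4, 5, 3, 2, 1, 6, 3, 6, 2, 3, 1, 2, 3, 6, 5, 2] (Cert.fail)),
  (1, Cert.fail),
  (1, Cert.step [2, 5, 0, 1, 2, 3, 5, 4, 3, 1, 2, 1] (Cert.fail)),
  (1, Cert.step [6, 3, 4, 5, 3, 2, 1, 3, 2, 5, 6, 3, 6, 0, 1, 2, 3, 5, 6, 1] (Cert.step [2, 1, 4, 5, 3, 2, 6, 5, 3, 4, 6, 3, 1, 2, 3, 1, 2, 3, 5, 3, 2, 3, 6, 3] (Cert.badAt 0))),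
  (1, Cert.step [0, 1, 0, 2, 1, 3, 2, 1, 3, 2, 3, 5, 3, 4, 2, 3, 1, 2, 3, 4, 1, 2, 1] (Cert.fail)),
  (1, Cert.fail),
  (1, Cert.step [0, 3, 2, 5, 3, 2, 1, 3, 2, 3, 5, 4, 3, 1, 2, 3, 6, 5, 3, 1] (Cert.fail)),
  (1, Cert.step [6, 3, 2, 3, 4, 5, 3, 2, 3, 4, 3, 6, 1, 2, 3, 5, 4, 3, 2, 1] (Cert.fail)),
  (1, Cert.step [0, 1, 0, 2, 1, 3, 2, 1, 3, 2, 3, 5, 3, 4, 2, 3, 1, 2, 3, 4, 1, 2, 1] (Cert.fail)),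
  (1, Cert.step [2, 1, 6, 4, 3, 6, 2, 3, 2, 3, 6, 3, 4, 0, 1] (Cert.fail)),
  (1, Cert.step [1, 3, 6, 3, 2, 1, 3, 4, 3, 6, 2, 3, 4, 1, 2, 3, 6] (Cert.fail)),
  (1, Cert.step [1, 2, 4, 3, 2, 1, 3, 2, 4, 3, 5, 3, 2, 3, 1, 2, 3, 5, 3, 2, 1] (Cert.fail)),
  (1, Cert.fail),
  (1, Cert.step [0, 1, 2, 1, 3, 2, 3, 4, 3, 5, 3, 1, 2, 3, 5, 4, 3, 1, 2, 3, 2, 1, 0] (Cert.fail)),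
  (1, Cert.fail),
  (1, Cert.step [3, 2, 1, 3, 2, 1, 5, 3, 2, 3, 2, 6, 3, 2, 3, 5, 3, 2, 3, 1, 2, 3] (Cert.fail)),
  (1, Cert.step [1, 2, 5, 3, 2, 1, 4, 3, 2, 3, 5, 3, 4, 2, 3, 5, 1, 2, 3, 2, 1, 0] (Cert.fail)),
  (2, Cert.fail),
  (1, Cert.step [2, 6, 3, 2, 4, 3, 2, 1, 5, 3, 6, 2, 3, 2, 3, 6, 3, 2, 3, 4, 2, 1] (Cert.fail)),
  (1, Cert.step [1, 2, 3, 6, 5, 3, 2, 1, 3, 4, 3, 2, 3, 2, 3, 0, 1, 2, 3, 5, 6, 3, 2, 1] (Cert.fail)),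
  (1, Cert.fail),
  (1, Cert.step [1, 4, 6, 3, 2, 1, 4, 3, 2, 6, 3, 2, 3, 6, 2, 3, 4, 1, 2, 3, 6, 4, 1] (Cert.fail)),
  (1, Cert.step [2, 1, 5, 3, 6, 3, 2, 3, 2, 6, 3, 5, 3, 1, 2, 3, 4, 2, 3, 6, 4] (Cert.fail)),
  (1, Cert.step [2, 3, 2, 5, 6, 3, 2, 1, 4, 3, 2, 3, 5, 3, 4, 3, 1, 2, 3, 6, 5, 3, 1] (Cert.fail)),
  (1, Cert.fail),
  (1, Cert.step [3, 5, 3, 2, 1, 3, 2, 1, 5, 4, 3, 2, 3, 6, 2, 3, 5, 3, 6, 3, 1] (Cert.fail)),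
  (1, Cert.step [1, 2, 6, 3, 2, 1, 3, 2, 1, 3, 4, 3, 6, 2, 3, 0, 1, 2, 3, 6, 4, 3, 2, 3, 1] (Cert.fail)),
  (1, Cert.step [1, 2, 1, 5, 3, 2, 6, 3, 4, 1, 2, 3, 2, 3, 6, 1, 2, 3, 4, 2, 1] (Cert.step [2, 1, 5, 3, 2, 1, 6, 5, 3, 4, 6, 3, 2, 3, 6, 4, 3, 5, 0, 1, 2, 3, 2] (Cert.badAt 0))),
  (1, Cert.step [6, 3, 2, 5, 3, 2, 1, 4, 3, 6, 2, 3, 2, 3, 6, 3, 2, 3, 2, 0, 1] (Cert.fail)),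
  (1, Cert.fail),
  (1, Cert.step [0, 3, 5, 6, 3, 2, 1, 3, 4, 5, 3, 2, 4, 3, 1, 2, 3, 6, 3, 5, 1, 2] (Cert.fail)),
  (1, Cert.fail),
  (1, Cert.step [2, 1, 0, 3, 6, 3, 2, 3, 2, 6, 3, 5, 1, 2, 3, 2, 3, 5, 6, 0] (Cert.fail)),
  (1, Cert.step [1, 2, 4, 3, 2, 1, 3, 2, 4, 3, 5, 3, 2, 3, 1, 2, 3, 5, 3, 2, 1] (Cert.fail)),
  (1, Cert.step [2, 1, 6, 4, 3, 6, 2, 3, 2, 3, 6, 3, 5, 1] (Cert.fail)),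
  (1, Cert.fail),
  (1, Cert.step [2, 5, 3, 6, 1, 2, 3, 2, 3, 6, 2, 3, 5, 1, 2] (Cert.fail)),
  (1, Cert.step [3, 2, 6, 3, 5, 3, 6, 3, 5, 3, 2, 3, 4, 1, 2, 3, 2, 1] (Cert.step [1, 2, 6, 3, 2, 1, 3, 2, 3, 2, 1, 4, 2, 3, 2, 3, 1, 2, 3, 4, 1, 2, 3, 6, 2] (Cert.badAt 0))),
  (1, Cert.fail),
  (1, Cert.step [6, 3, 2, 1, 3, 2, 3, 2, 3, 5, 3, 2, 3, 6, 2, 3, 4, 1, 2, 3, 6, 5, 3] (Cert.fail)),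
  (1, Cert.fail),
  (1, Cert.step [1, 2, 3, 2, 1, 4, 3, 2, 3, 5, 3, 6, 3, 5, 3, 6, 2, 3] (Cert.fail)),
  (1, Cert.step [1, 3, 5, 3, 2, 3, 4, 6, 3, 4, 2, 3, 5, 3, 1, 0] (Cert.fail)),
  (1, Cert.step [3, 5, 3, 2, 1, 3, 2, 1, 5, 4, 3, 2, 3, 6, 2, 3, 5, 3, 6, 3, 1] (Cert.fail)),
  (1, Cert.step [0, 5, 6, 3, 2, 4, 3, 2, 1, 3, 2, 6, 3, 6, 2, 3, 5, 1, 2, 3, 4, 2, 3, 6, 5] (Cert.fail)),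
  (1, Cert.step [1, 2, 4, 3, 2, 1, 6, 3, 2, 3, 2, 1, 4, 5, 4, 3, 6, 2, 3, 4, 2, 1] (Cert.fail)),
  (1, Cert.step [1, 0, 3, 6, 3, 2, 1, 3, 4, 5, 3, 2, 3, 5, 6, 3, 0, 1, 2, 3, 6, 5, 3] (Cert.fail)),
  (1, Cert.step [2, 6, 3, 2, 4, 3, 2, 1, 5, 3, 6, 2, 3, 2, 3, 6, 3, 2, 3, 4, 2, 1] (Cert.step [4, 6, 3, 2, 4, 5, 3, 2, 1, 4, 3, 2, 1, 3, 6, 3, 2, 3, 0, 1, 2, 3, 5, 2, 3, 6] (Cert.badAt 0))),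
  (1, Cert.step [5, 6, 3, 2, 3, 2, 1, 5, 3, 2, 3, 6, 3, 2, 3, 6, 2, 3, 1, 2, 0, 1] (Cert.step [3, 2, 3, 2, 6, 3, 2, 1, 3, 2, 3, 6, 1, 2, 3, 6, 2, 3, 5, 1, 2, 1, 0] (Cert.badAt 0))),
  (2, Cert.fail),
  (1, Cert.step [0, 1, 3, 6, 3, 2, 3, 2, 5, 6, 1, 2, 3, 4, 2, 3, 5, 3, 6] (Cert.fail)),
  (1, Cert.step [1, 3, 5, 6, 3, 2, 1, 3, 2, 4, 6, 3, 1, 2, 3, 6, 5, 2, 3, 1, 2, 3, 1] (Cert.fail)),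
  (1, Cert.step [2, 1, 0, 3, 6, 3, 2, 3, 2, 6, 3, 1, 2, 3, 5, 4, 3, 2, 3, 5, 3, 6] (Cert.fail)),
  (2, Cert.fail),
  (1, Cert.step [3, 5, 3, 2, 1, 3, 2, 1, 5, 4, 3, 2, 3, 6, 2, 3, 5, 3, 6, 3, 1] (Cert.fail)),
  (1, Cert.step [1, 2, 3, 5, 3, 2, 1, 3, 2, 3, 5, 3, 4, 2, 3, 1, 2, 3, 4, 2, 1] (Cert.step [2, 6, 3, 2, 1, 3, 2, 3, 2, 1, 3, 2, 3, 4, 2, 3, 1, 2, 3, 1, 2, 3, 6, 5, 1] (Cert.badAt 0))),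
  (1, Cert.step [3, 2, 1, 5, 3, 4, 6, 3, 4, 2, 3, 6, 4, 3, 5, 1, 2, 3, 1] (Cert.fail)),
  (1, Cert.step [2, 6, 3, 2, 1, 3, 2, 5, 3, 6, 3, 2, 3, 0, 1, 2, 3, 6, 0] (Cert.fail)),
  (1, Cert.step [1, 3, 5, 6, 3, 2, 1, 3, 4, 5, 3, 2, 3, 1, 2, 3, 5, 2, 3, 0] (Cert.fail)),
  (1, Cert.step [6, 3, 2, 3, 4, 5, 3, 2, 1, 5, 3, 6, 2, 3, 2, 3, 6, 3, 1, 2] (Cert.fail)),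
  (1, Cert.step [6, 3, 2, 1, 5, 3, 2, 6, 5, 4, 3, 6, 2, 3, 0, 1, 2, 3, 5, 6] (Cert.fail)),
  (1, Cert.fail),
  (1, Cert.step [0, 1, 2, 1, 3, 2, 3, 4, 3, 5, 3, 1, 2, 3, 5, 4, 3, 1, 2, 3, 2, 1, 0] (Cert.fail)),
  (1, Cert.step [1, 0, 2, 3, 2, 1, 3, 4, 6, 3, 2, 5, 3, 2, 3, 5, 3, 0] (Cert.fail)),
  (1, Cert.step [6, 3, 4, 5, 3, 2, 3, 2, 1, 6, 2, 3, 2, 3, 6, 3, 0, 1, 2] (Cert.step [2, 3, 2, 1, 0, 5, 3, 4, 6, 3, 2, 3, 6, 4, 3, 5, 6, 1, 2, 3, 5, 1, 2] (Cert.badAt 0))),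
  (1, Cert.step [6, 3, 4, 5, 3, 2, 1, 3, 2, 5, 6, 3, 6, 2, 3, 1, 2, 3, 5, 6, 0] (Cert.fail)),
  (1, Cert.step [1, 2, 3, 2, 6, 1, 2, 3, 2, 3, 5, 3, 2, 3, 6, 0] (Cert.fail)),
  (1, Cert.fail),
  (1, Cert.step [2, 5, 3, 6, 4, 3, 5, 2, 3, 2, 3, 5, 3] (Cert.fail)),
  (1, Cert.step [6, 3, 2, 3, 4, 5, 3, 2, 1, 5, 3, 6, 2, 3, 2, 3, 6, 3, 1, 2] (Cert.fail)),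
  (1, Cert.fail),
  (1, Cert.step [2, 5, 6, 3, 2, 1, 3, 2, 6, 4, 3, 1, 2, 3, 6, 3, 5, 1, 2] (Cert.fail)),
  (1, Cert.step [2, 1, 5, 3, 6, 3, 2, 1, 3, 4, 6, 2, 3, 1, 2, 3, 6, 5, 2] (Cert.fail)),
  (1, Cert.step [1, 2, 4, 3, 2, 1, 6, 3, 2, 3, 2, 1, 4, 5, 4, 3, 6, 2, 3, 4, 3, 1, 2, 1] (Cert.fail)),
  (1, Cert.step [6, 3, 2, 3, 4, 3, 2, 1, 3, 2, 6, 4, 3, 2, 3, 6, 3, 4, 1, 2] (Cert.fail)),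
  (1, Cert.step [1, 3, 2, 5, 3, 4, 6, 3, 2, 1, 5, 6, 3, 4, 3, 2] (Cert.fail)),
  (1, Cert.fail),
  (1, Cert.step [1, 2, 3, 2, 1, 4, 3, 2, 3, 5, 3, 6, 3, 5, 3, 6, 2, 3] (Cert.step [1, 4, 5, 0, 1, 2, 6, 3, 2, 1, 3, 2, 3, 2, 1, 3, 2, 3, 4, 2, 3, 1, 2, 3, 1, 2, 3, 6, 5, 1] (Cert.badAt 0))),
  (1, Cert.step [6, 5, 3, 2, 3, 2, 1, 3, 2, 3, 6, 3, 2, 3, 5, 4, 3, 6, 1, 2] (Cert.step [2, 1, 4, 5, 3, 2, 6, 5, 3, 4, 6, 3, 1, 2, 3, 1, 2, 3, 5, 3, 2, 3, 6, 3] (Cert.badAt 0))),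
  (1, Cert.step [3, 5, 6, 3, 2, 1, 0, 3, 6, 5, 3, 2, 4, 3, 1, 2, 3, 6, 3, 5, 1, 2] (Cert.step [3, 2, 5, 3, 2, 1, 6, 3, 5, 6, 3, 2, 4, 3, 6, 2, 3, 0, 1, 2, 3, 5, 2, 3, 6, 5] (Cert.badAt 0))),
  (1, Cert.step [6, 3, 4, 5, 3, 2, 1, 3, 2, 5, 6, 3, 6, 2, 3, 1, 2, 3, 5, 6, 0] (Cert.fail)),
  (1, Cert.step [4, 6, 3, 2, 1, 0, 3, 2, 3, 6, 3, 2, 3, 1, 2, 3, 6, 4] (Cert.fail)),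
  (1, Cert.step [1, 2, 3, 2, 1, 5, 3, 6, 4, 3, 5, 2, 3, 2, 3, 5, 3] (Cert.fail)),
  (1, Cert.step [6, 3, 2, 5, 3, 2, 1, 4, 3, 6, 2, 3, 2, 3, 6, 3, 0, 1, 2] (Cert.fail)),
  (1, Cert.fail),
  (1, Cert.step [2, 1, 0, 3, 6, 3, 2, 3, 2, 6, 3, 5, 1, 2, 3, 2, 3, 5, 6, 0] (Cert.fail)),
  (1, Cert.step [0, 6, 3, 2, 1, 5, 3, 2, 4, 6, 3, 5, 4, 3, 1, 2, 3, 6, 3, 5, 1, 2] (Cert.fail)),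
  (1, Cert.step [0, 2, 5, 3, 4, 6, 3, 2, 3, 5, 3, 2, 3, 1, 2, 3, 5, 4, 3, 2, 1] (Cert.fail)),
  (1, Cert.fail),
  (1, Cert.step [1, 0, 2, 1, 3, 4, 5, 3, 2, 6, 3, 5, 1, 2, 3, 5, 2, 3, 6, 4] (Cert.fail)),
  (1, Cert.step [1, 3, 5, 6, 3, 2, 1, 3, 2, 4, 6, 3, 1, 2, 3, 6, 5, 2, 3, 1, 2, 3, 1] (Cert.fail)),
  (1, Cert.step [6, 5, 3, 2, 3, 2, 5, 3, 6, 5, 1, 2, 3, 2, 3, 6, 3, 1] (Cert.step [3, 2, 3, 2, 6, 3, 2, 1, 3, 2, 3, 6, 1, 2, 3, 6, 2, 3, 5, 1, 2, 1, 0] (Cert.badAt 0))),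
  (1, Cert.step [1, 0, 2, 3, 2, 1, 4, 3, 2, 5, 3, 6, 4, 3, 2, 3, 5, 3, 4] (Cert.fail)),
  (1, Cert.step [4, 6, 3, 2, 1, 3, 2, 3, 6, 3, 2, 4, 3, 1, 2, 3, 6, 4, 2, 0] (Cert.fail)),
  (1, Cert.step [6, 3, 4, 5, 3, 2, 3, 2, 1, 6, 2, 3, 2, 3, 6, 3, 0, 1, 2] (Cert.fail)),
  (1, Cert.step [0, 1, 0, 2, 1, 3, 2, 1, 3, 2, 3, 5, 3, 4, 2, 3, 5, 1, 2, 3, 2, 1, 0] (Cert.fail)),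
  (1, Cert.step [2, 3, 2, 1, 5, 3, 2, 1, 3, 4, 6, 3, 5, 2, 3, 1, 2, 3, 6, 3, 4] (Cert.fail)),
  (1, Cert.step [0, 1, 2, 3, 2, 1, 0, 6, 3, 2, 1, 3, 2, 5, 1, 2, 3, 6, 2, 3, 5, 1, 2, 0, 1] (Cert.fail)),
  (1, Cert.step [1, 0, 2, 3, 2, 3, 6, 3, 2, 3, 2, 6, 1, 2, 3, 2, 3, 5, 4, 3, 6] (Cert.fail)),
  (1, Cert.fail),
  (1, Cert.step [1, 2, 3, 5, 3, 2, 1, 3, 2, 3, 5, 3, 4, 2, 3, 1, 2, 3, 4, 2, 1] (Cert.fail)),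
  (1, Cert.step [6, 5, 3, 2, 1, 3, 2, 6, 3, 2, 1, 3, 6, 3, 5, 6, 3, 2, 3, 6, 0] (Cert.fail)),
  (1, Cert.fail),
  (1, Cert.step [2, 1, 3, 6, 3, 2, 3, 2, 4, 6, 1, 2, 3, 2, 3, 5, 4, 3, 6] (Cert.fail)),
  (1, Cert.step [2, 1, 6, 4, 3, 6, 2, 3, 2, 3, 6, 3, 5, 1] (Cert.fail)),
  (1, Cert.step [0, 2, 1, 3, 2, 6, 3, 2, 3, 2, 5, 1, 2, 3, 6, 4, 3, 5, 2, 3, 2] (Cert.fail)),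
  (1, Cert.fail),
  (1, Cert.step [2, 4, 6, 3, 2, 1, 5, 3, 2, 1, 6, 3, 2, 3, 6, 3, 2, 3, 1, 2, 1, 0] (Cert.fail)),
  (1, Cert.step [2, 6, 3, 2, 1, 3, 2, 5, 3, 6, 3, 2, 3, 4, 1, 2, 3, 5, 6] (Cert.fail)),
  (1, Cert.step [2, 6, 3, 2, 1, 3, 2, 5, 3, 6, 3, 2, 3, 0, 1, 2, 3, 6, 0] (Cert.fail)),
  (3, Cert.fail),
  (1, Cert.step [2, 6, 3, 2, 4, 3, 2, 1, 6, 3, 2, 5, 3, 6, 3, 4, 3, 2, 3, 5, 3, 1, 2] (Cert.fail)),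
  (2, Cert.fail),
  (1, Cert.step [2, 6, 3, 2, 4, 3, 2, 1, 6, 3, 2, 5, 3, 6, 3, 4, 3, 2, 3, 5, 3, 1, 2] (Cert.fail)),
  (1, Cert.fail),
  (1, Cert.step [0, 1, 2, 4, 3, 2, 1, 6, 3, 2, 3, 5, 3, 2, 3, 6, 4] (Cert.fail)),
  (1, Cert.step [1, 3, 5, 6, 3, 2, 1, 3, 4, 5, 3, 2, 3, 1, 2, 3, 5, 2, 3, 0] (Cert.fail)),
  (1, Cert.step [6, 3, 2, 5, 3, 2, 1, 4, 3, 6, 2, 3, 2, 3, 6, 3, 0, 1, 2] (Cert.fail)),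
  (3, Cert.fail),
  (1, Cert.step [6, 3, 4, 5, 3, 2, 1, 3, 2, 5, 6, 3, 6, 2, 3, 4, 0, 1, 2, 3, 6] (Cert.fail)),
  (1, Cert.step [2, 6, 3, 2, 4, 3, 2, 1, 5, 3, 6, 2, 3, 2, 3, 6, 3, 2, 3, 4, 2, 1] (Cert.fail)),
  (1, Cert.step [0, 6, 3, 2, 1, 5, 3, 2, 4, 6, 3, 5, 4, 3, 1, 2, 3, 6, 3, 5, 1, 2] (Cert.fail)),
  (2, Cert.fail),
  (1, Cert.step [0, 6, 3, 4, 5, 3, 2, 1, 3, 2, 6, 3, 1, 2, 3, 5, 4, 0, 1, 2, 3, 2, 3, 5, 3] (Cert.fail)),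
  (1, Cert.fail),
  (1, Cert.step [1, 4, 6, 3, 2, 1, 4, 3, 2, 6, 3, 2, 3, 6, 2, 3, 0, 1, 2, 3, 6, 5, 1, 0] (Cert.fail)),
  (1, Cert.step [6, 3, 2, 1, 4, 3, 2, 6, 3, 4, 5, 3, 4, 1, 2, 3, 6, 3, 1, 2, 0] (Cert.fail)),
  (1, Cert.fail),
  (1, Cert.step [0, 1, 3, 6, 3, 2, 3, 2, 5, 6, 4, 3, 1, 2, 3, 5, 2, 3, 6] (Cert.fail)),
  (1, Cert.step [1, 0, 2, 3, 2, 1, 3, 6, 3, 2, 3, 6, 5, 4, 3, 2, 3, 6, 5, 3] (Cert.fail)),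
  (1, Cert.step [0, 2, 4, 6, 3, 2, 1, 3, 4, 2, 3, 6, 3, 2, 3, 1, 2, 3, 6, 4] (Cert.fail)),
  (1, Cert.step [0, 1, 0, 2, 1, 3, 2, 1, 3, 2, 3, 5, 3, 4, 2, 3, 1, 2, 3, 4, 1, 2, 1] (Cert.fail)),
  (1, Cert.fail),
  (1, Cert.step [3, 5, 6, 3, 2, 3, 4, 5, 3, 1, 2, 3, 0, 1, 2, 3, 6, 3, 1, 2, 0] (Cert.fail)),
  (1, Cert.step [1, 2, 1, 5, 3, 2, 6, 3, 4, 1, 2, 3, 2, 3, 6, 1, 2, 3, 4, 2, 1] (Cert.fail)),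
  (1, Cert.step [2, 1, 3, 6, 3, 2, 3, 2, 6, 3, 5, 1, 2, 3, 5, 4, 3, 2, 3, 6] (Cert.step [3, 2, 3, 2, 6, 3, 2, 1, 3, 2, 3, 6, 1, 2, 3, 6, 2, 3, 5, 1, 2, 1, 0] (Cert.badAt 0))),
  (1, Cert.step [3, 2, 6, 3, 5, 3, 6, 3, 5, 3, 2, 3, 4, 1, 2, 3, 2, 1] (Cert.fail)),
  (2, Cert.fail),
  (1, Cert.step [1, 2, 3, 6, 5, 3, 2, 1, 0, 3, 2, 3, 2, 3, 4, 3, 1, 2, 3, 5, 6, 3, 2, 1] (Cert.fail)),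
  (1, Cert.step [0, 1, 2, 3, 2, 1, 0, 6, 3, 2, 1, 3, 2, 5, 1, 2, 3, 6, 2, 3, 5, 1, 2, 0, 1] (Cert.fail)),
  (1, Cert.step [1, 2, 3, 2, 3, 6, 3, 2, 3, 2, 4, 6, 3, 4, 1, 2, 3, 5, 2, 3, 6] (Cert.fail))]),
  (595, Cert.bad 1462)]

/-- the elements inverting the element of order 8 -/
def certH7 : Cert := Cert.rl [(1462, Cert.bad 1462),
  (1, Cert.rl [(333, Cert.bad 1648),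
  (1, Cert.rl [(1, Cert.step [4, 3, 2, 3, 6, 5, 3, 2, 1, 6, 3, 2, 3, 4, 2, 3, 1, 2, 3, 5, 6, 3, 2, 3, 4] (Cert.fail)),
  (1, Cert.step [5, 3, 2, 1, 6, 5, 3, 2, 3, 4, 5, 3, 6, 1, 2, 3, 4, 1, 2, 3, 6, 5, 3, 6, 2] (Cert.fail)),
  (1, Cert.step [1, 2, 5, 6, 3, 2, 3, 2, 1, 2, 3, 6, 3, 2, 3, 5, 6, 3, 2, 3, 6] (Cert.fail)),
  (1, Cert.fail),
  (1, Cert.step [4, 3, 2, 3, 6, 5, 3, 2, 1, 3, 2, 4, 3, 2, 3, 6, 1, 2, 3, 5, 6, 3, 2, 3, 4] (Cert.fail)),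
  (1, Cert.step [2, 1, 6, 3, 5, 6, 3, 2, 1, 3, 2, 1, 0, 3, 5, 4, 3, 6, 5, 2, 3, 2] (Cert.fail)),
  (1, Cert.step [2, 1, 4, 5, 3, 2, 6, 5, 3, 4, 6, 3, 1, 2, 3, 1, 2, 3, 5, 3, 2, 3, 6, 3, 1, 3, 2, 5, 3, 4, 6, 3, 2, 3, 4, 5, 1, 2, 3, 2, 3, 6, 3, 2, 3, 5, 3, 2, 3, 2, 4, 3, 2, 1, 6, 3, 2, 3, 6, 5, 3, 6, 1, 2, 3, 0] (Cert.fail)),
  (1, Cert.fail),
  (1, Cert.step [2, 3, 2, 5, 3, 2, 1, 0, 4, 3, 2, 3, 5, 3, 2, 3, 4, 1, 2, 3, 5, 2, 3, 2] (Cert.fail)),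
  (2, Cert.fail),
  (1, Cert.step [1, 2, 5, 6, 3, 2, 3, 2, 1, 2, 3, 6, 3, 2, 3, 5, 6, 3, 2, 3, 6] (Cert.fail)),
  (1, Cert.step [2, 1, 3, 5, 3, 2, 1, 3, 6, 3, 4, 3, 2, 3, 6, 4, 3, 1, 2, 3, 5, 3, 2, 0, 5, 6, 3, 2, 3, 2, 5, 3, 2, 6, 1, 2, 3, 6, 2, 3, 1, 2, 3, 6, 3, 2, 3, 2, 1, 5, 3, 4, 2, 3, 2, 3, 1, 2, 3, 0] (Cert.fail)),
  (1, Cert.fail),
  (1, Cert.step [3, 4, 3, 2, 1, 6, 3, 2, 1, 3, 2, 4, 3, 2, 3, 1, 2, 3, 6, 2, 3, 4, 3, 0] (Cert.fail)),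
  (1, Cert.step [2, 1, 4, 5, 3, 2, 6, 5, 3, 4, 6, 3, 1, 2, 3, 1, 2, 3, 5, 3, 2, 3, 6, 3, 1, 3, 2, 5, 3, 4, 6, 3, 2, 3, 4, 5, 1, 2, 3, 2, 3, 6, 3, 2, 3, 5, 3, 2, 3, 2, 4, 3, 2, 1, 6, 3, 2, 3, 6, 5, 3, 6, 1, 2, 3, 0] (Cert.fail)),
  (1, Cert.step [6, 3, 2, 3, 6, 5, 3, 2, 3, 6, 3, 2, 1, 2, 3, 2, 3, 6, 5, 2, 1] (Cert.fail)),
  (1, Cert.step [2, 1, 4, 5, 3, 2, 6, 5, 3, 4, 6, 3, 1, 2, 3, 1, 2, 3, 5, 3, 2, 3, 6, 3, 1, 3, 2, 5, 3, 4, 6, 3, 2, 3, 4, 5, 1, 2, 3, 2, 3, 6, 3, 2, 3, 5, 3, 2, 3, 2, 4, 3, 2, 1, 6, 3, 2, 3, 6, 5, 3, 6, 1, 2, 3, 0] (Cert.fail)),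
  (1, Cert.fail),
  (1, Cert.step [1, 0, 2, 3, 5, 3, 2, 3, 1, 2, 3, 4, 2, 3, 1, 2, 3, 5, 3, 2, 1] (Cert.fail)),
  (1, Cert.step [1, 2, 1, 5, 3, 2, 1, 4, 3, 2, 6, 3, 2, 5, 3, 6, 1, 2, 3, 5, 3, 6, 3, 1, 2, 3] (Cert.fail)),
  (1, Cert.fail),
  (1, Cert.step [1, 4, 5, 0, 1, 0, 3, 6, 3, 2, 1, 3, 2, 1, 5, 6, 3, 6, 4, 3, 2, 3, 5, 1, 2, 3, 6, 4, 3, 1, 0, 6, 3, 2, 1, 3, 2, 1, 3, 2, 3, 6, 4, 3, 2, 0, 1] (Cert.fail)),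
  (1, Cert.step [0, 6, 3, 5, 3, 2, 1, 3, 2, 3, 5, 4, 3, 5, 2, 3, 0, 1, 2, 3, 5, 3, 6] (Cert.fail)),
  (1, Cert.step [4, 6, 3, 2, 4, 5, 3, 2, 1, 4, 3, 2, 1, 3, 6, 3, 2, 3, 0, 1, 2, 3, 5, 2, 3, 6, 2, 5, 3, 6, 4, 3, 5, 2, 3, 2, 3, 5, 3, 0, 1, 0, 2, 1, 6, 3, 2, 3, 5, 1, 2, 3, 4, 0, 1, 2, 3] (Cert.fail)),
  (1, Cert.step [2, 6, 3, 5, 6, 3, 2, 1, 4, 3, 2, 1, 6, 3, 5, 4, 3, 2, 3, 5, 6, 1, 2, 3, 5] (Cert.fail)),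
  (1, Cert.step [3, 2, 1, 3, 6, 3, 5, 3, 2, 1, 6, 3, 5, 2, 3, 6, 2, 3, 4, 1, 2, 3, 5, 1, 2, 1] (Cert.fail)),
  (1, Cert.step [5, 6, 3, 2, 1, 3, 4, 3, 2, 6, 3, 2, 3, 6, 2, 3, 4, 3, 1, 2, 3, 6, 5] (Cert.fail)),
  (1, Cert.step [5, 3, 2, 1, 6, 5, 3, 2, 3, 4, 5, 3, 6, 1, 2, 3, 4, 1, 2, 3, 6, 5, 3, 6, 2] (Cert.fail)),
  (1, Cert.fail),
  (1, Cert.step [3, 4, 3, 2, 1, 6, 3, 2, 1, 3, 2, 4, 3, 2, 3, 1, 2, 3, 6, 2, 3, 4, 3, 0] (Cert.fail)),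
  (1, Cert.step [3, 6, 5, 3, 2, 1, 0, 3, 2, 5, 3, 5, 4, 3, 2, 3, 1, 2, 3, 5, 6, 3, 0] (Cert.fail)),
  (1, Cert.fail),
  (1, Cert.step [2, 1, 4, 5, 3, 2, 6, 5, 3, 4, 6, 3, 1, 2, 3, 1, 2, 3, 5, 3, 2, 3, 6, 3, 1, 3, 2, 5, 3, 4, 6, 3, 2, 3, 4, 5, 1, 2, 3, 2, 3, 6, 3, 2, 3, 5, 3, 2, 3, 2, 4, 3, 2, 1, 6, 3, 2, 3, 6, 5, 3, 6, 1, 2, 3, 0] (Cert.fail)),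
  (1, Cert.step [1, 4, 3, 6, 3, 2, 3, 5, 6, 1, 2, 3, 5, 0, 1, 2, 3, 6, 4] (Cert.fail)),
  (1, Cert.step [3, 4, 3, 2, 1, 6, 3, 2, 1, 3, 2, 4, 3, 2, 3, 1, 2, 3, 6, 2, 3, 4, 3, 0] (Cert.fail)),
  (1, Cert.fail),
  (1, Cert.step [4, 3, 2, 3, 6, 5, 3, 2, 1, 3, 2, 4, 3, 2, 3, 6, 1, 2, 3, 5, 6, 3, 2, 3, 4] (Cert.fail)),
  (1, Cert.step [3, 4, 3, 2, 1, 6, 3, 2, 1, 3, 2, 4, 3, 2, 3, 1, 2, 3, 6, 2, 3, 4, 3, 0] (Cert.fail)),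
  (1, Cert.step [3, 6, 5, 3, 2, 1, 0, 3, 2, 5, 3, 5, 4, 3, 2, 3, 1, 2, 3, 5, 6, 3, 0] (Cert.fail)),
  (1, Cert.step [1, 2, 1, 5, 3, 2, 3, 4, 6, 3, 2, 6, 1, 2, 3, 2, 3, 6, 3, 5, 2, 3, 1, 0] (Cert.fail)),
  (1, Cert.fail),
  (1, Cert.step [4, 3, 2, 3, 4, 5, 3, 2, 1, 6, 5, 3, 2, 3, 4, 2, 3, 6, 5, 3, 4, 0, 1] (Cert.fail)),
  (1, Cert.step [2, 6, 3, 5, 6, 3, 2, 1, 4, 3, 2, 1, 6, 3, 5, 4, 3, 2, 3, 5, 6, 1, 2, 3, 5] (Cert.fail)),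
  (2, Cert.fail),
  (1, Cert.step [1, 5, 6, 3, 2, 1, 3, 2, 1, 3, 2, 4, 3, 2, 3, 1, 2, 3, 2, 3, 1, 2, 3, 6, 2, 1, 3, 5, 6, 3, 2, 1, 3, 2, 4, 6, 3, 1, 2, 3, 6, 5, 2, 3, 1, 2, 3, 1, 3, 2, 1, 0, 5, 3, 2, 6, 3, 4, 6, 2, 3, 4, 1, 2, 3, 2] (Cert.fail)),
  (1, Cert.step [4, 3, 2, 3, 6, 5, 3, 2, 1, 3, 2, 4, 3, 2, 3, 6, 1, 2, 3, 5, 6, 3, 2, 3, 4] (Cert.fail)),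
  (1, Cert.step [0, 5, 3, 2, 1, 0, 3, 5, 3, 2, 3, 5, 4, 3, 2, 3, 1, 2, 3, 5, 3] (Cert.fail)),
  (1, Cert.step [] (Cert.fail)),
  (1, Cert.step [4, 3, 2, 3, 6, 5, 3, 2, 1, 6, 3, 2, 3, 4, 2, 3, 1, 2, 3, 5, 6, 3, 2, 3, 4] (Cert.fail)),
  (1, Cert.step [6, 3, 2, 3, 6, 5, 3, 2, 3, 6, 3, 2, 1, 2, 3, 2, 3, 6, 5, 2, 1] (Cert.fail)),
  (1, Cert.step [2, 1, 3, 5, 3, 2, 1, 3, 6, 3, 4, 3, 2, 3, 6, 4, 3, 1, 2, 3, 5, 3, 2, 0, 5, 6, 3, 2, 3, 2, 5, 3, 2, 6, 1, 2, 3, 6, 2, 3, 1, 2, 3, 6, 3, 2, 3, 2, 1, 5, 3, 4, 2, 3, 2, 3, 1, 2, 3, 0] (Cert.fail)),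
  (1, Cert.step [5, 6, 3, 2, 1, 3, 4, 3, 2, 6, 3, 2, 3, 6, 2, 3, 4, 3, 1, 2, 3, 6, 5] (Cert.fail)),
  (1, Cert.step [2, 1, 3, 5, 3, 2, 1, 3, 6, 3, 4, 3, 2, 3, 6, 4, 3, 1, 2, 3, 5, 3, 2, 0, 5, 6, 3, 2, 3, 2, 5, 3, 2, 6, 1, 2, 3, 6, 2, 3, 1, 2, 3, 6, 3, 2, 3, 2, 1, 5, 3, 4, 2, 3, 2, 3, 1, 2, 3, 0] (Cert.fail)),
  (1, Cert.step [0, 6, 3, 5, 3, 2, 1, 3, 2, 3, 5, 4, 3, 5, 2, 3, 0, 1, 2, 3, 5, 3, 6] (Cert.fail)),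
  (1, Cert.step [1, 5, 6, 3, 2, 1, 3, 2, 1, 3, 2, 4, 3, 2, 3, 1, 2, 3, 2, 3, 1, 2, 3, 6, 2, 1, 3, 5, 6, 3, 2, 1, 3, 2, 4, 6, 3, 1, 2, 3, 6, 5, 2, 3, 1, 2, 3, 1, 3, 2, 1, 0, 5, 3, 2, 6, 3, 4, 6, 2, 3, 4, 1, 2, 3, 2] (Cert.fail)),
  (1, Cert.step [1, 4, 3, 2, 1, 3, 6, 3, 2, 3, 2, 3, 6, 1, 2, 3, 2, 3, 5, 2, 3, 2, 3, 1] (Cert.fail)),
  (1, Cert.step [1, 2, 1, 5, 3, 2, 3, 4, 6, 3, 2, 6, 1, 2, 3, 2, 3, 6, 3, 5, 2, 3, 1, 0] (Cert.fail)),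
  (1, Cert.step [0, 5, 3, 2, 1, 0, 3, 5, 3, 2, 3, 5, 4, 3, 2, 3, 1, 2, 3, 5, 3] (Cert.fail)),
  (1, Cert.fail),
  (1, Cert.step [1, 5, 6, 3, 2, 1, 3, 2, 1, 3, 2, 4, 3, 2, 3, 1, 2, 3, 2, 3, 1, 2, 3, 6, 2, 1, 3, 5, 6, 3, 2, 1, 3, 2, 4, 6, 3, 1, 2, 3, 6, 5, 2, 3, 1, 2, 3, 1, 3, 2, 1, 0, 5, 3, 2, 6, 3, 4, 6, 2, 3, 4, 1, 2, 3, 2] (Cert.fail)),
  (2, Cert.fail)]),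
  (91, Cert.bad 1648)]),
  (185, Cert.bad 1462),
  (1, Cert.rl [(158, Cert.bad 1648),
  (1, Cert.rl [(1, Cert.step [0, 5, 3, 2, 1, 0, 3, 5, 3, 2, 3, 5, 4, 3, 2, 3, 1, 2, 3, 5, 3] (Cert.fail)),
  (1, Cert.step [1, 0, 4, 3, 5, 6, 3, 2, 4, 3, 2, 3, 5, 6, 1, 2, 3, 5, 4, 3, 2, 3, 4] (Cert.step [] (Cert.done [0, 1, 2, 3, 5, 6, 3, 2, 5, 3, 6, 5, 3, 2, 1, 0]))),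
  (1, Cert.step [0, 1, 3, 2, 5, 3, 6, 3, 2, 3, 2, 1, 6, 2, 3, 6, 4, 3, 2, 3, 5, 1, 2, 1] (Cert.fail)),
  (1, Cert.step [2, 6, 3, 5, 6, 3, 2, 1, 4, 3, 2, 1, 6, 3, 5, 4, 3, 2, 3, 5, 6, 1, 2, 3, 5] (Cert.step [] (Cert.done [0, 1, 2, 3, 5, 6, 3, 2, 5, 3, 6, 5, 3, 2, 1, 0, 6, 5, 3, 2, 6, 3, 2, 1, 3, 2, 3, 2, 3, 4, 3, 1, 2, 3, 5, 2, 3, 2, 6, 5, 3, 2, 6, 3, 2, 1, 3, 2, 3, 2, 3, 4, 3, 1, 2, 3, 5, 2, 3, 2, 6, 5, 3, 2, 6, 3, 2, 1, 3, 2, 3, 2, 3, 4, 3, 1, 2, 3, 5, 2, 3, 2, 6, 5, 3, 2, 6, 3, 2, 1, 3, 2, 3, 2, 3, 4, 3, 1, 2, 3, 5, 2, 3, 2, 6, 5, 3, 2, 6, 3, 2, 1, 3, 2, 3, 2, 3, 4, 3, 1, 2, 3, 5, 2, 3, 2]))),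
  (1, Cert.step [] (Cert.fail)),
  (1, Cert.step [1, 3, 2, 3, 2, 5, 3, 2, 3, 2, 1, 6, 3, 2, 3, 2, 3, 6, 3, 1, 2, 3, 4, 1] (Cert.step [] (Cert.done [0, 1, 2, 3, 5, 6, 3, 2, 5, 3, 6, 5, 3, 2, 1, 0, 6, 5, 3, 2, 6, 3, 2, 1, 3, 2, 3, 2, 3, 4, 3, 1, 2, 3, 5, 2, 3, 2, 6, 5, 3, 2, 6, 3, 2, 1, 3, 2, 3, 2, 3, 4, 3, 1, 2, 3, 5, 2, 3, 2, 6, 5, 3, 2, 6, 3, 2, 1, 3, 2, 3, 2, 3, 4, 3, 1, 2, 3, 5, 2, 3, 2, 6, 5, 3, 2, 6, 3, 2, 1, 3, 2, 3, 2, 3, 4, 3, 1, 2, 3, 5, 2, 3, 2, 6, 5, 3, 2, 6, 3, 2, 1, 3, 2, 3, 2, 3, 4, 3, 1, 2, 3, 5, 2, 3, 2, 6, 5, 3, 2, 6, 3, 2, 1, 3, 2, 3, 2, 3, 4, 3, 1, 2, 3, 5, 2, 3, 2, 0, 1, 3, 2, 5, 3, 2, 1, 3, 2, 3, 6, 3, 2, 3, 0, 1, 2, 3, 5, 2, 3, 1, 0]))),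
  (1, Cert.step [4, 3, 2, 3, 4, 5, 3, 2, 1, 6, 5, 3, 2, 3, 4, 2, 3, 6, 5, 3, 4, 0, 1] (Cert.fail)),
  (1, Cert.step [1, 5, 6, 3, 2, 1, 3, 2, 1, 3, 2, 4, 3, 2, 3, 1, 2, 3, 2, 3, 1, 2, 3, 6, 2, 1, 3, 5, 6, 3, 2, 1, 3, 2, 4, 6, 3, 1, 2, 3, 6, 5, 2, 3, 1, 2, 3, 1, 3, 2, 1, 0, 5, 3, 2, 6, 3, 4, 6, 2, 3, 4, 1, 2, 3, 2] (Cert.step [1, 4, 5, 0, 1, 0, 5, 6, 3, 2, 1, 3, 2, 3, 6, 3, 2, 3, 5, 4, 3, 1, 2, 3, 6, 4, 1, 0, 6, 3, 2, 3, 5, 3, 4, 2, 3, 1] (Cert.done [0, 1, 2, 3, 5, 6, 3, 2, 5, 3, 6, 5, 3, 2, 1, 0, 6, 5, 3, 2, 6, 3, 2, 1, 3, 2, 3, 2, 3, 4, 3, 1, 2, 3, 5, 2, 3, 2, 6, 5, 3, 2, 6, 3, 2, 1, 3, 2, 3, 2, 3, 4, 3, 1, 2, 3, 5, 2, 3, 2]))),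
  (1, Cert.step [3, 6, 5, 3, 2, 1, 0, 3, 2, 5, 3, 5, 4, 3, 2, 3, 1, 2, 3, 5, 6, 3, 0] (Cert.step [] (Cert.done [0, 1, 2, 3, 5, 6, 3, 2, 5, 3, 6, 5, 3, 2, 1, 0, 6, 5, 3, 2, 6, 3, 2, 1, 3, 2, 3, 2, 3, 4, 3, 1, 2, 3, 5, 2, 3, 2, 6, 5, 3, 2, 6, 3, 2, 1, 3, 2, 3, 2, 3, 4, 3, 1, 2, 3, 5, 2, 3, 2, 6, 5, 3, 2, 6, 3, 2, 1, 3, 2, 3, 2, 3, 4, 3, 1, 2, 3, 5, 2, 3, 2, 6, 5, 3, 2, 6, 3, 2, 1, 3, 2, 3, 2, 3, 4, 3, 1, 2, 3, 5, 2, 3, 2, 0, 1, 3, 2, 5, 3, 2, 1, 3, 2, 3, 6, 3, 2, 3, 0, 1, 2, 3, 5, 2, 3, 1, 0]))),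
  (1, Cert.step [2, 6, 3, 2, 4, 3, 2, 1, 5, 3, 2, 3, 6, 5, 3, 2, 3, 6, 4, 1] (Cert.fail)),
  (2, Cert.fail),
  (1, Cert.step [4, 3, 2, 1, 3, 2, 1, 3, 4, 6, 3, 2, 3, 5, 3, 2, 3, 1, 2, 3, 2, 3, 4] (Cert.fail)),
  (1, Cert.step [4, 3, 2, 3, 4, 5, 3, 2, 1, 6, 5, 3, 2, 3, 4, 2, 3, 6, 5, 3, 4, 0, 1] (Cert.fail)),
  (1, Cert.fail),
  (1, Cert.step [4, 3, 2, 3, 2, 1, 5, 6, 3, 2, 3, 5, 3, 4, 3, 2, 3, 6, 1, 2, 3, 2, 3, 4] (Cert.fail)),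
  (2, Cert.fail),
  (1, Cert.step [1, 4, 3, 6, 3, 2, 3, 5, 6, 1, 2, 3, 5, 0, 1, 2, 3, 6, 4] (Cert.fail)),
  (1, Cert.fail),
  (1, Cert.step [0, 6, 3, 5, 3, 2, 1, 3, 2, 3, 5, 4, 3, 5, 2, 3, 0, 1, 2, 3, 5, 3, 6] (Cert.step [] (Cert.done [0, 1, 2, 3, 5, 6, 3, 2, 5, 3, 6, 5, 3, 2, 1, 0, 6, 5, 3, 2, 6, 3, 2, 1, 3, 2, 3, 2, 3, 4, 3, 1, 2, 3, 5, 2, 3, 2]))),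
  (1, Cert.step [4, 3, 2, 3, 2, 1, 5, 6, 3, 2, 3, 5, 3, 4, 3, 2, 3, 6, 1, 2, 3, 2, 3, 4] (Cert.step [] (Cert.done [0, 1, 2, 3, 5, 6, 3, 2, 5, 3, 6, 5, 3, 2, 1, 0, 6, 5, 3, 2, 6, 3, 2, 1, 3, 2, 3, 2, 3, 4, 3, 1, 2, 3, 5, 2, 3, 2, 6, 5, 3, 2, 6, 3, 2, 1, 3, 2, 3, 2, 3, 4, 3, 1, 2, 3, 5, 2, 3, 2, 6, 5, 3, 2, 6, 3, 2, 1, 3, 2, 3, 2, 3, 4, 3, 1, 2, 3, 5, 2, 3, 2, 6, 5, 3, 2, 6, 3, 2, 1, 3, 2, 3, 2, 3, 4, 3, 1, 2, 3, 5, 2, 3, 2, 6, 5, 3, 2, 6, 3, 2, 1, 3, 2, 3, 2, 3, 4, 3, 1, 2, 3, 5, 2, 3, 2, 6, 5, 3, 2, 6, 3, 2, 1, 3, 2, 3, 2, 3, 4, 3, 1, 2, 3, 5, 2, 3, 2, 6, 5, 3, 2, 6, 3, 2, 1, 3, 2, 3, 2, 3, 4, 3, 1, 2, 3, 5, 2, 3, 2, 0, 1, 3, 2, 5, 3, 2, 1, 3, 2, 3, 6, 3, 2, 3, 0, 1, 2, 3, 5, 2, 3,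 1, 0]))),
  (1, Cert.step [0, 1, 3, 2, 5, 3, 6, 3, 2, 3, 2, 1, 6, 2, 3, 6, 4, 3, 2, 3, 5, 1, 2, 1] (Cert.step [] (Cert.done [0, 1, 2, 3, 5, 6, 3, 2, 5, 3, 6, 5, 3, 2, 1, 0, 6, 5, 3, 2, 6, 3, 2, 1, 3, 2, 3, 2, 3, 4, 3, 1, 2, 3, 5, 2, 3, 2, 6, 5, 3, 2, 6, 3, 2, 1, 3, 2, 3, 2, 3, 4, 3, 1, 2, 3, 5, 2, 3, 2, 6, 5, 3, 2, 6, 3, 2, 1, 3, 2, 3, 2, 3, 4, 3, 1, 2, 3, 5, 2, 3, 2, 6, 5, 3, 2, 6, 3, 2, 1, 3, 2, 3, 2, 3, 4, 3, 1, 2, 3, 5, 2, 3, 2, 6, 5, 3, 2, 6, 3, 2, 1, 3, 2, 3, 2, 3, 4, 3, 1, 2, 3, 5, 2, 3, 2, 0, 1, 3, 2, 5, 3, 2, 1, 3, 2, 3, 6, 3, 2, 3, 0, 1, 2, 3, 5, 2, 3, 1, 0]))),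
  (1, Cert.fail),
  (1, Cert.step [1, 0, 2, 3, 5, 3, 2, 3, 1, 2, 3, 4, 2, 3, 1, 2, 3, 5, 3, 2, 1] (Cert.fail)),
  (1, Cert.step [1, 4, 5, 0, 1, 2, 6, 3, 2, 1, 3, 2, 3, 2, 1, 3, 2, 3, 4, 2, 3, 1, 2, 3, 1, 2, 3, 6, 5, 1, 6, 3, 4, 5, 3, 2, 1, 3, 2, 5, 6, 3, 6, 0, 1, 2, 3, 5, 6, 1, 2, 3, 4, 3, 2, 3, 6, 3, 2, 3, 1, 2, 3, 5, 4, 3] (Cert.step [] (Cert.done [0, 1, 2, 3, 5, 6, 3, 2, 5, 3, 6, 5, 3, 2, 1, 0, 6, 5, 3, 2, 6, 3, 2, 1, 3, 2, 3, 2, 3, 4, 3, 1, 2, 3, 5, 2, 3, 2, 0, 1, 3, 2, 5, 3, 2, 1, 3, 2, 3, 6, 3, 2, 3, 0, 1, 2, 3, 5, 2, 3, 1, 0]))),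
  (1, Cert.fail),
  (1, Cert.step [2, 1, 4, 5, 3, 2, 6, 5, 3, 4, 6, 3, 1, 2, 3, 1, 2, 3, 5, 3, 2, 3, 6, 3, 1, 3, 2, 5, 3, 4, 6, 3, 2, 3, 4, 5, 1, 2, 3, 2, 3, 6, 3, 2, 3, 5, 3, 2, 3, 2, 4, 3, 2, 1, 6, 3, 2, 3, 6, 5, 3, 6, 1, 2, 3, 0] (Cert.fail)),
  (1, Cert.step [2, 6, 3, 5, 6, 3, 2, 1, 4, 3, 2, 1, 6, 3, 5, 4, 3, 2, 3, 5, 6, 1, 2, 3, 5] (Cert.fail)),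
  (1, Cert.step [1, 2, 1, 5, 3, 2, 3, 4, 6, 3, 2, 6, 1, 2, 3, 2, 3, 6, 3, 5, 2, 3, 1, 0] (Cert.fail)),
  (1, Cert.step [0, 6, 3, 5, 3, 2, 1, 3, 2, 3, 5, 4, 3, 5, 2, 3, 0, 1, 2, 3, 5, 3, 6] (Cert.fail)),
  (1, Cert.step [1, 2, 1, 5, 3, 2, 3, 4, 6, 3, 2, 6, 1, 2, 3, 2, 3, 6, 3, 5, 2, 3, 1, 0] (Cert.fail)),
  (1, Cert.step [4, 3, 2, 3, 4, 5, 3, 2, 1, 6, 5, 3, 2, 3, 4, 2, 3, 6, 5, 3, 4, 0, 1] (Cert.step [] (Cert.done [0, 1, 2, 3, 5, 6, 3, 2, 5, 3, 6, 5, 3, 2, 1, 0, 0, 1, 3, 2, 5, 3, 2, 1, 3, 2, 3, 6, 3, 2, 3, 0, 1, 2, 3, 5, 2, 3, 1, 0]))),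
  (1, Cert.fail),
  (1, Cert.step [4, 3, 2, 3, 2, 1, 5, 6, 3, 2, 3, 5, 3, 4, 3, 2, 3, 6, 1, 2, 3, 2, 3, 4] (Cert.fail)),
  (1, Cert.step [1, 0, 4, 3, 5, 6, 3, 2, 4, 3, 2, 3, 5, 6, 1, 2, 3, 5, 4, 3, 2, 3, 4] (Cert.fail)),
  (1, Cert.step [3, 6, 5, 3, 2, 1, 0, 3, 2, 5, 3, 5, 4, 3, 2, 3, 1, 2, 3, 5, 6, 3, 0] (Cert.fail)),
  (1, Cert.step [0, 1, 3, 2, 5, 3, 6, 3, 2, 3, 2, 1, 6, 2, 3, 6, 4, 3, 2, 3, 5, 1, 2, 1] (Cert.step [1, 4, 5, 0, 1, 0, 5, 6, 3, 2, 1, 3, 2, 3, 6, 3, 2, 3, 5, 4, 3, 1, 2, 3, 6, 4, 1, 0, 6, 3, 2, 3, 5, 3, 4, 2, 3, 1] (Cert.done [0, 1, 2, 3, 5, 6, 3, 2, 5, 3, 6, 5, 3, 2, 1, 0, 6, 5, 3, 2, 6, 3, 2, 1, 3, 2, 3, 2, 3, 4, 3, 1, 2, 3, 5, 2, 3, 2, 6, 5, 3, 2, 6, 3, 2, 1, 3,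 2, 3, 2, 3, 4, 3, 1, 2, 3, 5, 2, 3, 2, 6, 5, 3, 2, 6, 3, 2, 1, 3, 2, 3, 2, 3, 4, 3, 1, 2, 3, 5, 2, 3, 2, 6, 5, 3, 2, 6, 3, 2, 1, 3, 2, 3, 2, 3, 4, 3, 1, 2, 3, 5, 2, 3, 2, 6, 5, 3, 2, 6, 3, 2, 1, 3, 2, 3, 2, 3, 4, 3, 1, 2, 3, 5, 2, 3, 2, 6, 5, 3, 2, 6, 3, 2, 1, 3, 2, 3, 2, 3, 4, 3, 1, 2, 3, 5, 2, 3, 2, 6, 5, 3, 2, 6, 3, 2, 1, 3, 2, 3, 2, 3, 4, 3, 1, 2, 3, 5, 2, 3, 2]))),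
  (1, Cert.step [3, 6, 5, 3, 2, 1, 0, 3, 2, 5, 3, 5, 4, 3, 2, 3, 1, 2, 3, 5, 6, 3, 0] (Cert.fail)),
  (1, Cert.step [1, 4, 3, 6, 3, 2, 3, 5, 6, 1, 2, 3, 5, 0, 1, 2, 3, 6, 4] (Cert.step [1, 4, 5, 0, 1, 0, 5, 6, 3, 2, 1, 3, 2, 3, 6, 3, 2, 3, 5, 4, 3, 1, 2, 3, 6, 4, 1, 0, 6, 3, 2, 3, 5, 3, 4, 2, 3, 1] (Cert.done [0, 1, 2, 3, 5, 6, 3, 2, 5, 3, 6, 5, 3, 2, 1, 0, 6, 5, 3, 2, 6, 3, 2, 1, 3, 2, 3, 2, 3, 4, 3, 1, 2, 3, 5, 2, 3, 2, 6, 5, 3, 2, 6, 3, 2, 1, 3, 2, 3, 2, 3, 4, 3, 1, 2, 3, 5, 2, 3, 2, 6, 5, 3, 2, 6, 3, 2, 1, 3, 2, 3, 2, 3, 4, 3, 1, 2, 3, 5, 2, 3, 2, 6, 5, 3, 2, 6, 3, 2, 1, 3, 2, 3, 2, 3, 4, 3, 1, 2, 3, 5, 2, 3, 2, 6, 5, 3, 2, 6, 3, 2, 1, 3, 2, 3, 2, 3, 4, 3, 1, 2, 3, 5, 2, 3, 2,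 6, 5, 3, 2, 6, 3, 2, 1, 3, 2, 3, 2, 3, 4, 3, 1, 2, 3, 5, 2, 3, 2]))),
  (1, Cert.step [1, 2, 5, 6, 3, 2, 3, 2, 1, 2, 3, 6, 3, 2, 3, 5, 6, 3, 2, 3, 6] (Cert.fail)),
  (1, Cert.step [1, 2, 1, 5, 3, 2, 3, 4, 6, 3, 2, 6, 1, 2, 3, 2, 3, 6, 3, 5, 2, 3, 1, 0] (Cert.fail)),
  (1, Cert.step [0, 6, 3, 5, 3, 2, 1, 3, 2, 3, 5, 4, 3, 5, 2, 3, 0, 1, 2, 3, 5, 3, 6] (Cert.fail)),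
  (1, Cert.step [5, 3, 2, 1, 6, 5, 3, 2, 3, 4, 5, 3, 6, 1, 2, 3, 4, 1, 2, 3, 6, 5, 3, 6, 2] (Cert.step [] (Cert.done [0, 1, 2, 3, 5, 6, 3, 2, 5, 3, 6, 5, 3, 2, 1, 0, 6, 5, 3, 2, 6, 3, 2, 1, 3, 2, 3, 2, 3, 4, 3, 1, 2, 3, 5, 2, 3, 2, 6, 5, 3, 2, 6, 3, 2, 1, 3, 2, 3, 2, 3, 4, 3, 1, 2, 3, 5, 2, 3, 2, 6, 5, 3, 2, 6, 3, 2, 1, 3, 2, 3, 2, 3, 4, 3, 1, 2, 3, 5, 2, 3, 2, 0, 1, 3, 2, 5, 3, 2, 1, 3, 2, 3, 6, 3, 2, 3, 0, 1, 2, 3, 5, 2, 3, 1, 0]))),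
  (1, Cert.fail),
  (1, Cert.step [0, 1, 3, 2, 5, 3, 6, 3, 2, 3, 2, 1, 6, 2, 3, 6, 4, 3, 2, 3, 5, 1, 2, 1] (Cert.fail)),
  (1, Cert.step [4, 3, 2, 3, 6, 5, 3, 2, 1, 6, 3, 2, 3, 4, 2, 3, 1, 2, 3, 5, 6, 3, 2, 3, 4] (Cert.fail)),
  (1, Cert.step [2, 3, 2, 5, 3, 2, 1, 0, 4, 3, 2, 3, 5, 3, 2, 3, 4, 1, 2, 3, 5, 2, 3, 2] (Cert.step [] (Cert.done [0, 1, 2, 3, 5, 6, 3, 2, 5, 3, 6, 5, 3, 2, 1, 0, 6, 5, 3, 2, 6, 3, 2, 1, 3, 2, 3, 2, 3, 4, 3, 1, 2, 3, 5, 2, 3, 2, 6, 5, 3, 2, 6, 3, 2, 1, 3, 2, 3, 2, 3, 4, 3, 1, 2, 3, 5, 2, 3, 2, 0, 1, 3, 2, 5, 3, 2, 1, 3, 2, 3, 6, 3, 2, 3, 0, 1, 2, 3, 5, 2, 3, 1, 0]))),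
  (1, Cert.step [1, 4, 3, 6, 3, 2, 3, 5, 6, 1, 2, 3, 5, 0, 1, 2, 3, 6, 4] (Cert.fail)),
  (1, Cert.step [1, 5, 6, 3, 2, 1, 3, 2, 1, 3, 2, 4, 3, 2, 3, 1, 2, 3, 2, 3, 1, 2, 3, 6, 2, 1, 3, 5, 6, 3, 2, 1, 3, 2, 4, 6, 3, 1, 2, 3, 6, 5, 2, 3, 1, 2, 3, 1, 3, 2, 1, 0, 5, 3, 2, 6, 3, 4, 6, 2, 3, 4, 1, 2, 3, 2] (Cert.fail)),
  (2, Cert.fail),
  (1, Cert.step [1, 0, 2, 3, 5, 3, 2, 3, 1, 2, 3, 4, 2, 3, 1, 2, 3, 5, 3, 2, 1] (Cert.fail)),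
  (1, Cert.step [1, 4, 5, 0, 1, 2, 6, 3, 2, 1, 3, 2, 3, 2, 1, 3, 2, 3, 4, 2, 3, 1, 2, 3, 1, 2, 3, 6, 5, 1, 6, 3, 4, 5, 3, 2, 1, 3, 2, 5, 6, 3, 6, 0, 1, 2, 3, 5, 6, 1, 2, 3, 4, 3, 2, 3, 6, 3, 2, 3, 1, 2, 3, 5, 4, 3] (Cert.step [] (Cert.done [0, 1, 2, 3, 5, 6, 3, 2, 5, 3, 6, 5, 3, 2, 1, 0, 6, 5, 3, 2, 6, 3, 2, 1, 3, 2, 3, 2, 3, 4, 3, 1, 2, 3, 5, 2, 3, 2, 6, 5, 3, 2, 6, 3, 2, 1, 3, 2, 3, 2, 3, 4, 3, 1, 2, 3, 5, 2, 3, 2, 6, 5, 3, 2, 6, 3, 2, 1, 3, 2, 3, 2, 3, 4, 3, 1, 2, 3, 5, 2, 3, 2, 6, 5, 3, 2, 6, 3, 2, 1, 3, 2, 3, 2, 3, 4, 3, 1, 2, 3, 5, 2, 3, 2]))),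
  (1, Cert.step [4, 3, 2, 3, 2, 1, 5, 6, 3, 2, 3, 5, 3, 4, 3, 2, 3, 6, 1, 2, 3, 2, 3, 4] (Cert.fail)),
  (1, Cert.step [2, 3, 2, 5, 3, 2, 1, 0, 4, 3, 2, 3, 5, 3, 2, 3, 4, 1, 2, 3, 5, 2, 3, 2] (Cert.fail)),
  (1, Cert.step [4, 3, 2, 3, 6, 5, 3, 2, 1, 3, 2, 4, 3, 2, 3, 6, 1, 2, 3, 5, 6, 3, 2, 3, 4] (Cert.step [] (Cert.done [0, 1, 2, 3, 5, 6, 3, 2, 5, 3, 6, 5, 3, 2, 1, 0, 6, 5, 3, 2, 6, 3, 2, 1, 3, 2, 3, 2, 3, 4, 3, 1, 2, 3, 5, 2, 3, 2, 6, 5, 3, 2, 6, 3, 2, 1, 3, 2, 3, 2, 3, 4, 3, 1, 2, 3, 5, 2, 3, 2, 6, 5, 3, 2, 6, 3, 2, 1, 3, 2, 3, 2, 3, 4, 3, 1, 2, 3, 5, 2, 3, 2]))),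
  (1, Cert.step [4, 3, 2, 3, 2, 1, 3, 2, 3, 5, 3, 2, 3, 6, 4, 3, 1, 2, 3, 1, 2, 3, 4] (Cert.fail)),
  (1, Cert.fail),
  (1, Cert.step [5, 6, 3, 2, 1, 3, 4, 3, 2, 6, 3, 2, 3, 6, 2, 3, 4, 3, 1, 2, 3, 6, 5] (Cert.fail)),
  (2, Cert.fail),
  (1, Cert.step [2, 1, 6, 3, 5, 6, 3, 2, 1, 3, 2, 1, 0, 3, 5, 4, 3, 6, 5, 2, 3, 2] (Cert.fail)),
  (1, Cert.fail)]),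
  (266, Cert.bad 1648)]),
  (409, Cert.bad 1462)]

end Cfsg.Agent.Lib.Helper2.HeOutD
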