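import Mathlib
import Cfsg.Prelude
import Cfsg.Agent.Lib.Helper2.Basic
import Cfsg.Agent.Lib.Lead.FrobConj1
import Cfsg.Agent.Lib.Lead.CoprimeSylow3
import Cfsg.Agent.Lib.Lead.Frattini
import Cfsg.Agent.Lib.Lead.HallTools
import Cfsg.Agent.S0707

set_option autoImplicit false
open Pointwise

namespace Cfsg.Agent.Lib.Helper2.Herstein

open Cfsg.Agent.Lib.Helper2 Cfsg.Agent.Lib.Lead

variable {G : Type*} [Group G]

/-- a subgroup normalized by the maximal subgroup `A`, meeting `A` trivially and nontrivial,
has order `|G : A|`. -/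
theorem card_of_invariant [Finite G] (A : Subgroup G) (hA : IsCoatom A) (M : Subgroup G)
    (hAM : A ≤ Subgroup.normalizer (M : Set G)) (hinf : A ⊓ M = ⊥) (hM : M ≠ ⊥) :
    Nat.card A * Nat.card M = Nat.card G := by
  have hlt : A < A ⊔ M := by
    apply lt_of_le_of_ne le_sup_left
    intro h
    apply hM
    have hle : M ≤ A := le_sup_right.trans (le_of_eq h.symm)
    rw [eq_bot_iff, ← hinf]
    exact le_inf hle le_rfl
  have htop := hA.2 _ hlt
  have h1 := card_sup_mul_card_inf A M hAM
  rw [htop, hinf, Subgroup.card_bot, mul_one, Subgroup.card_top] at h1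
  exact h1.symm

/-- core-free case: `G'' = 1`. -/
theorem corefree_case [Finite G] (A : Subgroup G) (hA : IsCoatom A)
    (hAc : ∀ a ∈ A, ∀ b ∈ A, a * b = b * a) (hcore : A.normalCore = ⊥) :
    derivedSeries G 2 = ⊥ := by
  by_cases hAbot : A = ⊥
  · -- G has prime order
    rw [hAbot] at hA
    have hp := Cfsg.Agent.S0707.prime_card_of_isCoatom_bot hA
    haveI : Fact (Nat.card G).Prime := ⟨hp⟩
    haveI : IsCyclic G := isCyclic_of_prime_card rfl
    have h1 : derivedSeries G 1 = ⊥ := by
      rw [derivedSeries_one, commutator_def, Subgroup.commutator_eq_bot_iff_le_centralizer]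
      intro x _
      rw [Subgroup.mem_centralizer_iff]
      intro y _
      obtain ⟨g, hg⟩ := IsCyclic.exists_generator (α := G)
      obtain ⟨m, rfl⟩ := Subgroup.mem_zpowers_iff.mp (hg x)
      obtain ⟨n, rfl⟩ := Subgroup.mem_zpowers_iff.mp (hg y)
      rw [← zpow_add, ← zpow_add, add_comm]
    rw [derivedSeries_succ, h1, Subgroup.commutator_bot_left]
  · have hAnn : ¬ A.Normal := by
      intro h
      apply hAbot
      rw [← hcore]
      exact (Subgroup.normalCore_eq_self A).symm
    have hNA : Subgroup.normalizer (A : Set G) = A := by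
      rcases eq_or_lt_of_le (Subgroup.le_normalizer : A ≤ Subgroup.normalizer (A : Set G))
        with h | h
      · exact h.symm
      · exact absurd (Subgroup.normalizer_eq_top_iff.mp (hA.2 _ h)) hAnn
    have hZ : Subgroup.center G = ⊥ := by
      have hZA : Subgroup.center G ≤ A := by
        by_contra hnot
        have h1 : A < A ⊔ Subgroup.center G :=
          lt_of_le_of_ne le_sup_left (fun h => hnot (le_sup_right.trans (le_of_eq h.symm)))
        have h2 := hA.2 _ h1
        apply hAnn
        rw [← Subgroup.normalizer_eq_top_iff, eq_top_iff, ← h2]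
        apply sup_le Subgroup.le_normalizer
        intro z hz
        apply mem_normalizer_of_commute
        intro n _
        exact (Subgroup.mem_center_iff.mp hz n).symm
      rw [eq_bot_iff, ← hcore]
      exact Subgroup.normal_le_normalCore.mpr hZA
    have hmal : ∀ g : G, g ∉ A → A ⊓ (MulAut.conj g • A) = ⊥ := by
      intro g hg
      have hne : MulAut.conj g • A ≠ A := by
        intro h
        apply hg
        rw [← hNA]
        exact (mem_normalizer_iff_conj_smul g A).mpr h
      have hsup : A ⊔ MulAut.conj g • A = ⊤ := by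
        apply hA.2
        apply lt_of_le_of_ne le_sup_left
        intro h
        have hle : MulAut.conj g • A ≤ A := le_sup_right.trans (le_of_eq h.symm)
        exact hne (Subgroup.eq_of_le_of_card_ge hle (by rw [card_conj_smul]))
      rw [eq_bot_iff, ← hZ]
      intro x hx
      obtain ⟨hxA, hxAg⟩ := Subgroup.mem_inf.mp hx
      have hcent : (⊤ : Subgroup G) ≤ Subgroup.centralizer {x} := by
        rw [← hsup]
        apply sup_le
        · intro a ha
          rw [Subgroup.mem_centralizer_iff]
          intro y hy
          rw [Set.mem_singleton_iff] at hy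
          subst hy
          exact hAc _ hxA _ ha
        · intro a ha
          rw [Subgroup.mem_centralizer_iff]
          intro y hy
          rw [Set.mem_singleton_iff] at hy
          subst hy
          have h1 : g⁻¹ * a * g ∈ A := mem_conj_smul_iff.mp ha
          have h2 : g⁻¹ * y * g ∈ A := mem_conj_smul_iff.mp hxAg
          have h3 := hAc _ h2 _ h1
          have h4 : g * (g⁻¹ * y * g * (g⁻¹ * a * g)) * g⁻¹ = y * a := by group
          have h5 : g * (g⁻¹ * a * g * (g⁻¹ * y * g)) * g⁻¹ = a * y := by group
          rw [← h4, ← h5, h3]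
      rw [Subgroup.mem_center_iff]
      intro y
      have := hcent (Subgroup.mem_top y)
      rw [Subgroup.mem_centralizer_iff] at this
      exact (this x rfl).symm
    have hfrob : Cfsg.IsFrobeniusComplement A := ⟨hAbot, hA.1, hmal⟩
    obtain ⟨K, hK⟩ := exists_frobData hfrob
    haveI hKn : K.Normal := hK.normal
    have hinfKA : A ⊓ K = ⊥ := by rw [inf_comm]; exact hK.inf_eq_bot
    have hcard : Nat.card K * Nat.card A = Nat.card G := hK.card_mul
    have hcop : (Nat.card A).Coprime (Nat.card K) := hK.coprime.symm
    have hKne : K ≠ ⊥ := hK.ne_bot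
    have hAK : A ≤ Subgroup.normalizer (K : Set G) := by
      rw [Subgroup.normalizer_eq_top_iff.mpr hKn]; exact le_top
    -- any nontrivial A-invariant subgroup of K is K
    have hkey : ∀ M : Subgroup G, M ≤ K → A ≤ Subgroup.normalizer (M : Set G) → M ≠ ⊥ →
        M = K := by
      intro M hMK hAM hM
      have hinf : A ⊓ M = ⊥ := by
        rw [eq_bot_iff, ← hinfKA]
        exact inf_le_inf_left A hMK
      have h1 := card_of_invariant A hA M hAM hinf hM
      apply Subgroup.eq_of_le_of_card_ge hMK
      have hApos : 0 < Nat.card A := Nat.card_pos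
      have : Nat.card A * Nat.card M = Nat.card A * Nat.card K := by
        rw [h1, ← hcard, mul_comm]
      exact le_of_eq (Nat.eq_of_mul_eq_mul_left hApos this).symm
    -- K is a q-group
    have hKcard : 1 < Nat.card K := by
      rw [Subgroup.one_lt_card_iff_ne_bot]; exact hKne
    obtain ⟨q, hq, hqd⟩ := Nat.exists_prime_and_dvd (ne_of_gt hKcard)
    haveI : Fact q.Prime := ⟨hq⟩
    have hsolvA : Group.IsSolvable A := by
      haveI : IsMulCommutative A := ⟨⟨fun a b => Subtype.ext (hAc a a.2 b b.2)⟩⟩
      exact Group.isSolvable_of_comm (fun a b => mul_comm' a b)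
    obtain ⟨Q, hQ⟩ := coprime_invariant_sylow_exists A K hAK hcop (Or.inl hsolvA) q
    have hQne : (Q : Subgroup K).map K.subtype ≠ ⊥ := by
      intro h
      have h1 : (Q : Subgroup K) = ⊥ := by
        rw [eq_bot_iff]
        intro x hx
        have : (x : G) ∈ (Q : Subgroup K).map K.subtype := ⟨x, hx, rfl⟩
        rw [h, Subgroup.mem_bot] at this
        rw [Subgroup.mem_bot]
        exact Subtype.ext this
      have h2 := Q.card_eq_multiplicity
      rw [h1, Subgroup.card_bot] at h2
      have h3 : q ^ 1 ∣ Nat.card K := by rwa [pow_one]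
      have h4 := (Nat.Prime.pow_dvd_iff_le_factorization hq (ne_of_gt Nat.card_pos)).mp h3
      have h5 : 1 < q ^ (Nat.card K).factorization q :=
        Nat.one_lt_pow (by omega) hq.one_lt
      omega
    have hQK := hkey _ (Subgroup.map_subtype_le _) hQ hQne
    have hQtop : (Q : Subgroup K) = ⊤ := by
      rw [eq_top_iff]
      intro x _
      have : (x : G) ∈ (Q : Subgroup K).map K.subtype := by rw [hQK]; exact x.2
      obtain ⟨y, hy, hyx⟩ := this
      have : y = x := Subtype.ext hyx
      rwa [← this]
    have hKp : IsPGroup q K := by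
      have := Q.isPGroup'
      rw [hQtop] at this
      exact IsPGroup.of_equiv this Subgroup.topEquiv
    -- center of K
    haveI : Nontrivial K := (Subgroup.nontrivial_iff_ne_bot K).mpr hKne
    haveI : Finite K := inferInstance
    have hZK : Nontrivial (Subgroup.center K) := hKp.center_nontrivial
    have hZKn : ((Subgroup.center K).map K.subtype).Normal :=
      ConjAct.normal_of_characteristic_of_normal
    have hZKne : (Subgroup.center K).map K.subtype ≠ ⊥ := by
      intro h
      obtain ⟨⟨z, hz⟩, hz1⟩ := exists_ne (1 : Subgroup.center K)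
      apply hz1
      apply Subtype.ext
      have : (z : G) ∈ (Subgroup.center K).map K.subtype := ⟨z, hz, rfl⟩
      rw [h, Subgroup.mem_bot] at this
      exact Subtype.ext this
    have hZKeq := hkey _ (Subgroup.map_subtype_le _)
      (by rw [Subgroup.normalizer_eq_top_iff.mpr hZKn]; exact le_top) hZKne
    have hKcomm : ∀ a ∈ K, ∀ b ∈ K, a * b = b * a := by
      intro a ha b hb
      have : a ∈ (Subgroup.center K).map K.subtype := by rw [hZKeq]; exact ha
      obtain ⟨z, hz, rfl⟩ := this
      have := Subgroup.mem_center_iff.mp hz ⟨b, hb⟩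
      exact (congrArg Subtype.val this).symm
    -- G/K is abelian
    have hquot : ∀ x y : G ⧸ K, x * y = y * x := by
      have hsup : A ⊔ K = ⊤ := by
        apply hA.2
        apply lt_of_le_of_ne le_sup_left
        intro h
        apply hKne
        have hle : K ≤ A := le_sup_right.trans (le_of_eq h.symm)
        rw [eq_bot_iff, ← hinfKA]
        exact le_inf hle le_rfl
      have hrep : ∀ x : G ⧸ K, ∃ a ∈ A, (QuotientGroup.mk' K) a = x := by
        intro x
        obtain ⟨g, rfl⟩ := QuotientGroup.mk_surjective x
        have hg : g ∈ ((A ⊔ K : Subgroup G) : Set G) := by rw [hsup]; trivial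
        rw [Subgroup.mul_normal] at hg
        obtain ⟨a, ha, k, hk, rfl⟩ := hg
        refine ⟨a, ha, ?_⟩
        rw [QuotientGroup.mk'_apply]
        apply QuotientGroup.eq.mpr
        have : a⁻¹ * (a * k) = k := by group
        rw [this]; exact hk
      intro x y
      obtain ⟨a, ha, rfl⟩ := hrep x
      obtain ⟨b, hb, rfl⟩ := hrep y
      rw [← map_mul, ← map_mul, hAc a ha b hb]
    have hG1 : derivedSeries G 1 ≤ K := by
      rw [derivedSeries_one]
      exact commutator_le_of_quotient_comm K hquot
    rw [derivedSeries_succ, eq_bot_iff]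
    have h1 : ⁅derivedSeries G 1, derivedSeries G 1⁆ ≤ ⁅K, K⁆ := Subgroup.commutator_mono hG1 hG1
    refine h1.trans ?_
    rw [Subgroup.commutator_eq_bot_iff_le_centralizer.mpr]
    intro a ha
    rw [Subgroup.mem_centralizer_iff]
    intro b hb
    exact hKcomm b hb a ha

/-- **Herstein**: a finite group with an abelian maximal subgroup has derived length at most 3. -/
theorem derived3_of_abelian_coatom [Finite G] (A : Subgroup G) (hA : IsCoatom A)
    [IsMulCommutative A] : derivedSeries G 3 = ⊥ := by
  have hAc : ∀ a ∈ A, ∀ b ∈ A, a * b = b * a := by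
    intro a ha b hb
    have := mul_comm' (⟨a, ha⟩ : A) ⟨b, hb⟩
    exact congrArg Subtype.val this
  set N := A.normalCore with hN
  haveI : N.Normal := Subgroup.normalCore_normal A
  have hNA : N ≤ A := Subgroup.normalCore_le A
  set π := QuotientGroup.mk' N with hπ
  have hsurj : Function.Surjective π := QuotientGroup.mk'_surjective N
  have hA' : IsCoatom (A.map π) := isCoatom_map_mk N hA hNA
  have hAc' : ∀ a ∈ A.map π, ∀ b ∈ A.map π, a * b = b * a := by
    rintro _ ⟨a, ha, rfl⟩ _ ⟨b, hb, rfl⟩
    rw [← map_mul, ← map_mul, hAc a ha b hb]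
  have hcore' : (A.map π).normalCore = ⊥ := by
    set C' := (A.map π).normalCore with hC'
    haveI : C'.Normal := Subgroup.normalCore_normal _
    have h1 : C'.comap π ≤ A := by
      have : C'.comap π ≤ (A.map π).comap π := Subgroup.comap_mono (Subgroup.normalCore_le _)
      rw [Subgroup.comap_map_eq, hπ, QuotientGroup.ker_mk', sup_of_le_left hNA] at this
      exact this
    have h2 : C'.comap π ≤ N := Subgroup.normal_le_normalCore.mpr h1
    rw [eq_bot_iff]
    intro x hx
    obtain ⟨g, rfl⟩ := hsurj x
    have hg : g ∈ N := h2 hx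
    rw [Subgroup.mem_bot]
    exact (QuotientGroup.eq_one_iff g).mpr hg
  have h2 := corefree_case (A.map π) hA' hAc' hcore'
  have h3 : derivedSeries G 2 ≤ N := by
    have h4 := map_derivedSeries_eq (f := π) hsurj 2
    rw [h2] at h4
    have h5 := (Subgroup.map_eq_bot_iff _).mp h4
    rwa [hπ, QuotientGroup.ker_mk'] at h5
  rw [derivedSeries_succ, eq_bot_iff]
  have h6 : ⁅derivedSeries G 2, derivedSeries G 2⁆ ≤ ⁅A, A⁆ :=
    Subgroup.commutator_mono (h3.trans hNA) (h3.trans hNA)
  refine h6.trans ?_
  rw [Subgroup.commutator_eq_bot_iff_le_centralizer.mpr]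
  intro a ha
  rw [Subgroup.mem_centralizer_iff]
  intro b hb
  exact hAc b hb a ha

end Cfsg.Agent.Lib.Helper2.Herstein
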