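import Mathlib
import Cfsg.Agent.Lib.Helper7.HkkDefs
import Cfsg.Agent.Lib.Helper2.HkkP4a
import Cfsg.Agent.Lib.Helper9.HkkP5

set_option autoImplicit false

/-!
# S3779 (Higman–Kreknin–Kostrikin), package P4: `exists_grading`
-/

namespace Cfsg.Agent.Lib.Helper7.Hkk

open scoped TensorProduct

universe u

/-- P4: base change to `ℤ[ω]` produces a graded Lie ring containing `L`. -/
theorem exists_grading {p : ℕ} [Fact p.Prime] {L : Type u} [LieRing L] (φ : L →+ L)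
    (hφlie : ∀ x y, φ ⁅x, y⁆ = ⁅φ x, φ y⁆) (hφp : ∀ x, φ^[p] x = x)
    (hfix : ∀ x, φ x = x → x = 0) (m : ℕ) (hm : ∀ x : L, m • x = 0) (hcop : Nat.Coprime m p) :
    ∃ (L' : Type u) (_ : LieRing L') (ι : L →+ L'), Function.Injective ι ∧
      (∀ x y, ι ⁅x, y⁆ = ⁅ι x, ι y⁆) ∧ Nonempty (PGrading p L') := by
  obtain ⟨u, k, huk⟩ := BC.exists_inv (p := p) m hcop
  have hu : ∀ z : BC.A p ⊗[ℤ] L, (u * p) • z = z := by
    intro z
    rw [huk, add_smul, one_smul, mul_smul, BC.exp_tensor m hm, add_zero]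
  refine ⟨BC.A p ⊗[ℤ] L, LieAlgebra.ExtendScalars.instLieRing ℤ (BC.A p) L, BC.ι p L,
    BC.ι_injective, BC.ι_lie, ?_⟩
  exact grading_of_eigen (A := BC.A p) (L' := BC.A p ⊗[ℤ] L) (BC.ω p) (BC.ω_pow p) (BC.sum_ω p)
    (BC.Φ p φ) (BC.Φ_lie φ hφlie) (BC.Φ_iter φ hφp) (BC.Φ_fix φ hφp hfix u hu) u hu

end Cfsg.Agent.Lib.Helper7.Hkk
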