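import Cfsg.Agent.Lib.Helper2.Zfp62

set_option autoImplicit false
set_option linter.style.haveILetI false

/-!
# The field generated by an abelian normal subgroup of a transitive linear group
-/

namespace Cfsg.Agent.Lib.Helper2.Htl

open Cfsg.Agent.Lib.Helper2.Zfp

universe u

variable {q : ℕ} [Fact q.Prime] {V : Type u} [AddCommGroup V] [Module (ZMod q) V]
  {G : Type*} [Group G]

variable (ρ : G →* (V ≃ₗ[ZMod q] V)) (A : Subgroup G)

/-- the representation with values in the endomorphism ring -/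
def rr : G →* Module.End (ZMod q) V where
  toFun g := ((ρ g : V ≃ₗ[ZMod q] V) : V →ₗ[ZMod q] V)
  map_one' := by rw [map_one]; rfl
  map_mul' g h := by rw [map_mul]; rfl

/-- the algebra generated by the subgroup -/
def adjAlg : Subalgebra (ZMod q) (Module.End (ZMod q) V) :=
  Algebra.adjoin (ZMod q) (imgSet ρ A)

variable {ρ A}

theorem rr_apply (g : G) (v : V) : rr ρ g v = ρ g v := rfl

theorem rr_mul_inv (g : G) : rr ρ g * rr ρ g⁻¹ = 1 := by
  rw [← map_mul, mul_inv_cancel, map_one]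

theorem rr_inv_mul (g : G) : rr ρ g⁻¹ * rr ρ g = 1 := by
  rw [← map_mul, inv_mul_cancel, map_one]

theorem rho_inv_apply (g : G) (v : V) : ρ g⁻¹ (ρ g v) = v := by
  have := congrArg (fun F : Module.End (ZMod q) V => F v) (rr_inv_mul (ρ := ρ) g)
  exact this

theorem rho_apply_inv (g : G) (v : V) : ρ g (ρ g⁻¹ v) = v := by
  have := congrArg (fun F : Module.End (ZMod q) V => F v) (rr_mul_inv (ρ := ρ) g)
  exact this

theorem rr_mem_adjAlg {a : G} (ha : a ∈ A) : rr ρ a ∈ adjAlg ρ A :=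
  Algebra.subset_adjoin ⟨a, ha, rfl⟩

theorem conj_mem_adjAlg [hA : A.Normal] (g : G) {t : Module.End (ZMod q) V}
    (ht : t ∈ adjAlg ρ A) : rr ρ g * t * rr ρ g⁻¹ ∈ adjAlg ρ A := by
  unfold adjAlg at ht ⊢
  induction ht using Algebra.adjoin_induction with
  | mem x hx =>
    obtain ⟨a, ha, rfl⟩ := hx
    have h1 : rr ρ g * rr ρ a * rr ρ g⁻¹ = rr ρ (g * a * g⁻¹) := by rw [map_mul, map_mul]
    have h2 : ((ρ a : V ≃ₗ[ZMod q] V) : V →ₗ[ZMod q] V) = rr ρ a := rfl
    rw [h2, h1]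
    exact Algebra.subset_adjoin ⟨_, hA.conj_mem a ha g, rfl⟩
  | algebraMap r =>
    have h1 : rr ρ g * algebraMap (ZMod q) (Module.End (ZMod q) V) r * rr ρ g⁻¹ =
        algebraMap (ZMod q) (Module.End (ZMod q) V) r := by
      rw [← Algebra.commutes r (rr ρ g), mul_assoc, rr_mul_inv, mul_one]
    rw [h1]
    exact Subalgebra.algebraMap_mem _ r
  | add x y hx hy ihx ihy =>
    rw [mul_add, add_mul]
    exact Subalgebra.add_mem _ ihx ihy
  | mul x y hx hy ihx ihy =>
    have h1 : rr ρ g * (x * y) * rr ρ g⁻¹ =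
        (rr ρ g * x * rr ρ g⁻¹) * (rr ρ g * y * rr ρ g⁻¹) := by
      calc rr ρ g * (x * y) * rr ρ g⁻¹ = rr ρ g * x * 1 * y * rr ρ g⁻¹ := by
            rw [mul_one]; simp only [mul_assoc]
        _ = _ := by rw [← rr_inv_mul (ρ := ρ) g]; simp only [mul_assoc]
    rw [h1]
    exact Subalgebra.mul_mem _ ihx ihy

theorem adjAlg_comm (hcomm : ∀ a ∈ A, ∀ b ∈ A, a * b = b * a)
    {s t : Module.End (ZMod q) V} (hs : s ∈ adjAlg ρ A) (ht : t ∈ adjAlg ρ A) :
    s * t = t * s := by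
  have hS : ∀ x ∈ imgSet ρ A, ∀ y ∈ imgSet ρ A, x * y = y * x := by
    rintro _ ⟨a, ha, rfl⟩ _ ⟨b, hb, rfl⟩
    show rr ρ a * rr ρ b = rr ρ b * rr ρ a
    rw [← map_mul, ← map_mul, hcomm a ha b hb]
  have := (Algebra.adjoinCommRingOfComm (ZMod q) hS).mul_comm ⟨s, hs⟩ ⟨t, ht⟩
  exact congrArg Subtype.val this

theorem adjAlg_commute_of_centralizes {g : G} (hg : ∀ a ∈ A, g * a = a * g)
    {t : Module.End (ZMod q) V} (ht : t ∈ adjAlg ρ A) : rr ρ g * t = t * rr ρ g := by
  have h1 : imgSet ρ A ⊆ Subalgebra.centralizer (ZMod q) {rr ρ g} := by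
    rintro _ ⟨a, ha, rfl⟩
    rw [SetLike.mem_coe, Subalgebra.mem_centralizer_iff]
    intro x hx
    rw [Set.mem_singleton_iff] at hx
    subst hx
    show rr ρ g * rr ρ a = rr ρ a * rr ρ g
    rw [← map_mul, ← map_mul, hg a ha]
  have h2 : adjAlg ρ A ≤ Subalgebra.centralizer (ZMod q) {rr ρ g} := Algebra.adjoin_le h1
  have h3 := h2 ht
  rw [Subalgebra.mem_centralizer_iff] at h3
  exact h3 _ rfl

theorem adjAlg_invariant {W : Submodule (ZMod q) V} (hW : ∀ a ∈ A, ∀ v ∈ W, ρ a v ∈ W)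
    {t : Module.End (ZMod q) V} (ht : t ∈ adjAlg ρ A) : ∀ v ∈ W, t v ∈ W := by
  unfold adjAlg at ht
  induction ht using Algebra.adjoin_induction with
  | mem x hx =>
    obtain ⟨a, ha, rfl⟩ := hx
    intro v hv
    exact hW a ha v hv
  | algebraMap r =>
    intro v hv
    rw [Module.algebraMap_end_apply]
    exact W.smul_mem r hv
  | add x y hx hy ihx ihy =>
    intro v hv
    rw [LinearMap.add_apply]
    exact W.add_mem (ihx v hv) (ihy v hv)
  | mul x y hx hy ihx ihy =>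
    intro v hv
    rw [Module.End.mul_apply]
    exact ihx _ (ihy v hv)

variable (ρ A) in
/-- annihilator of a vector in the adjoined algebra -/
def annSet (v : V) : Set (Module.End (ZMod q) V) := {t | t ∈ adjAlg ρ A ∧ t v = 0}

theorem annSet_conj [hA : A.Normal] (g : G) (v : V) :
    annSet ρ A (ρ g v) = (fun t => rr ρ g * t * rr ρ g⁻¹) '' annSet ρ A v := by
  ext s
  constructor
  · rintro ⟨hs, hsv⟩
    refine ⟨rr ρ g⁻¹ * s * rr ρ g, ⟨?_, ?_⟩, ?_⟩
    · have := conj_mem_adjAlg (ρ := ρ) (A := A) g⁻¹ hs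
      rwa [inv_inv] at this
    · show ρ g⁻¹ (s (ρ g v)) = 0
      rw [hsv, map_zero]
    · show rr ρ g * (rr ρ g⁻¹ * s * rr ρ g) * rr ρ g⁻¹ = s
      calc rr ρ g * (rr ρ g⁻¹ * s * rr ρ g) * rr ρ g⁻¹
          = (rr ρ g * rr ρ g⁻¹) * s * (rr ρ g * rr ρ g⁻¹) := by simp only [mul_assoc]
        _ = s := by rw [rr_mul_inv, one_mul, mul_one]
  · rintro ⟨t, ⟨ht, htv⟩, rfl⟩
    refine ⟨conj_mem_adjAlg g ht, ?_⟩
    show ρ g (t (ρ g⁻¹ (ρ g v))) = 0
    rw [rho_inv_apply, htv, map_zero]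

theorem ncard_annSet_conj [hA : A.Normal] (g : G) (v : V) :
    (annSet ρ A (ρ g v)).ncard = (annSet ρ A v).ncard := by
  rw [annSet_conj]
  apply Set.ncard_image_of_injective
  intro s t hst
  have h1 : rr ρ g⁻¹ * (rr ρ g * s * rr ρ g⁻¹) * rr ρ g =
      rr ρ g⁻¹ * (rr ρ g * t * rr ρ g⁻¹) * rr ρ g := by
    have : rr ρ g * s * rr ρ g⁻¹ = rr ρ g * t * rr ρ g⁻¹ := hst
    rw [this]
  have h2 : ∀ x : Module.End (ZMod q) V,
      rr ρ g⁻¹ * (rr ρ g * x * rr ρ g⁻¹) * rr ρ g = x := by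
    intro x
    calc rr ρ g⁻¹ * (rr ρ g * x * rr ρ g⁻¹) * rr ρ g
        = (rr ρ g⁻¹ * rr ρ g) * x * (rr ρ g⁻¹ * rr ρ g) := by simp only [mul_assoc]
      _ = x := by rw [rr_inv_mul, one_mul, mul_one]
  rwa [h2, h2] at h1

theorem annSet_subset (hcomm : ∀ a ∈ A, ∀ b ∈ A, a * b = b * a)
    {s : Module.End (ZMod q) V} (hs : s ∈ adjAlg ρ A) (v : V) :
    annSet ρ A v ⊆ annSet ρ A (s v) := by
  rintro t ⟨ht, htv⟩
  refine ⟨ht, ?_⟩
  have : t (s v) = (t * s) v := rfl
  rw [this, adjAlg_comm hcomm ht hs, Module.End.mul_apply, htv, map_zero]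

section

variable [hA : A.Normal] [Finite V]
  (hcomm : ∀ a ∈ A, ∀ b ∈ A, a * b = b * a)
  (htrans : ∀ v w : V, v ≠ 0 → w ≠ 0 → ∃ g : G, ρ g v = w)

include htrans in
theorem ncard_annSet_eq {v w : V} (hv : v ≠ 0) (hw : w ≠ 0) :
    (annSet ρ A v).ncard = (annSet ρ A w).ncard := by
  obtain ⟨g, rfl⟩ := htrans v w hv hw
  exact (ncard_annSet_conj g v).symm

include hcomm htrans in
theorem annSet_eq_of_smul {s : Module.End (ZMod q) V} (hs : s ∈ adjAlg ρ A) {v : V}
    (hv : v ≠ 0) (hsv : s v ≠ 0) : annSet ρ A v = annSet ρ A (s v) := by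
  haveI : Finite (Module.End (ZMod q) V) :=
    Finite.of_injective (fun f => (f : V → V)) DFunLike.coe_injective
  exact Set.eq_of_subset_of_ncard_le (annSet_subset hcomm hs v)
    (ncard_annSet_eq htrans hsv hv).le (Set.toFinite _)

include hcomm htrans in
theorem annSet_eq {v u : V} (hv : v ≠ 0) (hu : u ≠ 0) : annSet ρ A v = annSet ρ A u := by
  haveI : Finite (Module.End (ZMod q) V) :=
    Finite.of_injective (fun f => (f : V → V)) DFunLike.coe_injective
  by_contra hne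
  have hvu : v + u ≠ 0 := by
    intro h
    apply hne
    have h1 : u = -v := by
      have := eq_neg_of_add_eq_zero_right h
      exact this
    subst h1
    ext t
    constructor
    · rintro ⟨ht, htv⟩
      exact ⟨ht, by rw [map_neg, htv, neg_zero]⟩
    · rintro ⟨ht, htv⟩
      refine ⟨ht, ?_⟩
      rw [map_neg, neg_eq_zero] at htv
      exact htv
  -- every element of the annihilator of the sum kills both
  have hkey : ∀ t ∈ annSet ρ A (v + u), t v = 0 := by
    rintro t ⟨ht, htvu⟩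
    by_contra hx
    rw [map_add] at htvu
    have h1 : t u = - t v := by
      have := eq_neg_of_add_eq_zero_right htvu
      exact this
    have h2 : annSet ρ A v = annSet ρ A (t v) := annSet_eq_of_smul hcomm htrans ht hv hx
    have hx' : t u ≠ 0 := by rw [h1]; exact neg_ne_zero.mpr hx
    have h3 : annSet ρ A u = annSet ρ A (t u) := annSet_eq_of_smul hcomm htrans ht hu hx'
    apply hne
    rw [h2, h3, h1]
    ext s
    constructor
    · rintro ⟨hs, hsv⟩
      exact ⟨hs, by rw [map_neg, hsv, neg_zero]⟩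
    · rintro ⟨hs, hsv⟩
      refine ⟨hs, ?_⟩
      rw [map_neg, neg_eq_zero] at hsv
      exact hsv
  have hsub1 : annSet ρ A (v + u) ⊆ annSet ρ A v := fun t ht => ⟨ht.1, hkey t ht⟩
  have hsub2 : annSet ρ A (v + u) ⊆ annSet ρ A u := by
    intro t ht
    refine ⟨ht.1, ?_⟩
    have h1 := ht.2
    rw [map_add, hkey t ht, zero_add] at h1
    exact h1
  have e1 : annSet ρ A (v + u) = annSet ρ A v :=
    Set.eq_of_subset_of_ncard_le hsub1 (ncard_annSet_eq htrans hv hvu).le (Set.toFinite _)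
  have e2 : annSet ρ A (v + u) = annSet ρ A u :=
    Set.eq_of_subset_of_ncard_le hsub2 (ncard_annSet_eq htrans hu hvu).le (Set.toFinite _)
  exact hne (e1.symm.trans e2)

include hcomm htrans in
theorem adjAlg_eq_zero_of_apply_eq_zero {t : Module.End (ZMod q) V} (ht : t ∈ adjAlg ρ A)
    {v : V} (hv : v ≠ 0) (htv : t v = 0) : t = 0 := by
  apply LinearMap.ext
  intro u
  by_cases hu : u = 0
  · rw [hu, map_zero, map_zero]
  have : t ∈ annSet ρ A u := by
    rw [← annSet_eq hcomm htrans hv hu]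
    exact ⟨ht, htv⟩
  rw [this.2]; rfl

include hcomm htrans in
theorem adjAlg_isField [Nontrivial V] : IsField (adjAlg ρ A) := by
  classical
  obtain ⟨w₀, hw₀⟩ := exists_ne (0 : V)
  haveI : Finite (Module.End (ZMod q) V) :=
    Finite.of_injective (fun f => (f : V → V)) DFunLike.coe_injective
  haveI : Finite (adjAlg ρ A) := Subtype.finite
  haveI : Nontrivial (adjAlg ρ A) := by
    refine ⟨⟨0, 1, ?_⟩⟩
    intro h
    have h1 : ((0 : adjAlg ρ A) : Module.End (ZMod q) V) w₀ =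
        ((1 : adjAlg ρ A) : Module.End (ZMod q) V) w₀ := by rw [h]
    have h2 : ((0 : adjAlg ρ A) : Module.End (ZMod q) V) = 0 := rfl
    have h3 : ((1 : adjAlg ρ A) : Module.End (ZMod q) V) = 1 := rfl
    rw [h2, h3, LinearMap.zero_apply, Module.End.one_apply] at h1
    exact hw₀ h1.symm
  haveI : NoZeroDivisors (adjAlg ρ A) := by
    refine ⟨fun {f g} hfg => ?_⟩
    by_cases hg : g = 0
    · exact Or.inr hg
    left
    have hg' : (g : Module.End (ZMod q) V) ≠ 0 := fun e => hg (Subtype.ext e)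
    -- some vector is not killed by g
    have : ∃ v : V, (g : Module.End (ZMod q) V) v ≠ 0 := by
      by_contra hcon
      push_neg at hcon
      apply hg'
      apply LinearMap.ext
      intro v
      rw [hcon v]; rfl
    obtain ⟨v, hv⟩ := this
    apply Subtype.ext
    have h1 : ((f * g : adjAlg ρ A) : Module.End (ZMod q) V) v =
        ((0 : adjAlg ρ A) : Module.End (ZMod q) V) v := by rw [hfg]
    have h2 : ((f * g : adjAlg ρ A) : Module.End (ZMod q) V) =
        (f : Module.End (ZMod q) V) * (g : Module.End (ZMod q) V) := rfl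
    have h3 : ((0 : adjAlg ρ A) : Module.End (ZMod q) V) = 0 := rfl
    rw [h2, h3, Module.End.mul_apply, LinearMap.zero_apply] at h1
    exact adjAlg_eq_zero_of_apply_eq_zero hcomm htrans f.2 hv h1
  haveI : IsDomain (adjAlg ρ A) := NoZeroDivisors.to_isDomain _
  exact Finite.isDomain_to_isField _

end

end Cfsg.Agent.Lib.Helper2.Htl
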