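import Cfsg.Agent.Lib.Helper2.Htl5

set_option autoImplicit false
set_option linter.style.haveILetI false

/-!
# Class-two groups acting linearly with scalar centre: the index of the centre is small
-/

namespace Cfsg.Agent.Lib.Helper2.Htl

open scoped commutatorElement

section

variable {H : Type*} [Group H] [Finite H] {Z : Subgroup H} {F : Type*} [Field F]
  {V : Type*} [AddCommGroup V] [Module F V] [FiniteDimensional F V] [Nontrivial V]

set_option maxHeartbeats 800000 in
theorem index_le_finrank_sq (χ : Z →* Fˣ) (hc : ClassTwo Z)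
    (hcen : ∀ x : H, (∀ y : H, x * y = y * x) → x ∈ Z) (hχ : Function.Injective χ)
    (r : H →* Module.End F V) (hr : ∀ (z : Z) (v : V), r z v = ((χ z : Fˣ) : F) • v) :
    Z.index ≤ (Module.finrank F V) ^ 2 := by
  classical
  haveI := normal_of_central Z hc.central
  letI := quotCommGroup Z hc.comm_mem
  haveI : Fintype (H ⧸ Z) := Fintype.ofFinite _
  -- the characters
  let μ : H ⧸ Z → (H →* F) := fun x =>
    (Units.coeHom F).comp (((MonoidHom.eval x).comp (beta χ hc)).comp (QuotientGroup.mk' Z))
  have hμ : ∀ (x : H ⧸ Z) (y : H), μ x y = ((beta χ hc (y : H ⧸ Z) x : Fˣ) : F) := fun _ _ => rfl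
  have hμinj : Function.Injective μ := by
    intro x x' hxx'
    apply beta_injective χ hc hcen hχ
    apply MonoidHom.ext
    intro a
    induction a using QuotientGroup.induction_on with
    | H y =>
      have h1 : μ x y = μ x' y := by rw [hxx']
      rw [hμ, hμ] at h1
      have h2 : beta χ hc (y : H ⧸ Z) x = beta χ hc (y : H ⧸ Z) x' := Units.ext h1
      have s1 := pairing_skew (beta χ hc) (beta_alt χ hc) x (y : H ⧸ Z)
      have s2 := pairing_skew (beta χ hc) (beta_alt χ hc) x' (y : H ⧸ Z)
      rw [← h2] at s2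
      exact mul_right_cancel (s1.trans s2.symm)
  have hLI : LinearIndependent F (fun x : H ⧸ Z => (μ x : H → F)) :=
    (linearIndependent_monoidHom H F).comp μ hμinj
  -- the family of endomorphisms
  let e : H ⧸ Z → Module.End F V := fun x => r (Quotient.out x)
  have hconj : ∀ (y : H) (b : H) (v : V),
      r y (r b (r y⁻¹ v)) = ((χ ⟨⁅y, b⁆, hc.comm_mem y b⟩ : Fˣ) : F) • r b v := by
    intro y b v
    have h1 : y * b * y⁻¹ = ⁅y, b⁆ * b := by rw [commutatorElement_def]; group
    have h2 : r y (r b (r y⁻¹ v)) = r (y * b * y⁻¹) v := by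
      rw [map_mul, map_mul]; rfl
    rw [h2, h1, map_mul]
    exact hr ⟨⁅y, b⁆, hc.comm_mem y b⟩ (r b v)
  have hinvr : ∀ (y : H) (v : V), r y⁻¹ (r y v) = v := by
    intro y v
    have : r y⁻¹ (r y v) = r (y⁻¹ * y) v := by rw [map_mul]; rfl
    rw [this, inv_mul_cancel, map_one]; rfl
  have hrinj : ∀ (b : H) (v : V), r b v = 0 → v = 0 := by
    intro b v hv
    have := hinvr b v
    rw [hv, map_zero] at this
    exact this.symm
  have hLIe : LinearIndependent F e := by
    rw [Fintype.linearIndependent_iff]
    intro c hsum x₀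
    by_contra hx₀
    obtain ⟨v₀, hv₀⟩ := exists_ne (0 : V)
    have hw : r (Quotient.out x₀) v₀ ≠ 0 := fun h => hv₀ (hrinj _ _ h)
    obtain ⟨f, hf⟩ : ∃ f : Module.Dual F V, f (r (Quotient.out x₀) v₀) ≠ 0 := by
      by_contra hcon
      push_neg at hcon
      exact hw ((Module.forall_dual_apply_eq_zero_iff F _).mp hcon)
    -- conjugating the relation
    have hrel : ∀ y : H,
        ∑ x : H ⧸ Z, (c x * f (r (Quotient.out x) v₀)) • (μ x : H → F) y = 0 := by
      intro y
      have h1 : (∑ x : H ⧸ Z, c x • e x) (r y⁻¹ v₀) = 0 := by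
        rw [hsum]; rfl
      have h2 : r y ((∑ x : H ⧸ Z, c x • e x) (r y⁻¹ v₀)) = 0 := by
        rw [h1, map_zero]
      rw [LinearMap.sum_apply, map_sum] at h2
      have h3 : ∀ x : H ⧸ Z, r y ((c x • e x) (r y⁻¹ v₀)) =
          (c x * (μ x : H → F) y) • r (Quotient.out x) v₀ := by
        intro x
        rw [LinearMap.smul_apply, map_smul]
        show c x • r y (r (Quotient.out x) (r y⁻¹ v₀)) = _
        rw [hconj, smul_smul]
        congr 2
        rw [hμ]
        have : (x : H ⧸ Z) = ((Quotient.out x : H) : H ⧸ Z) := (QuotientGroup.out_eq' x).symm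
        conv_rhs => rw [this]
        rw [beta_mk]
      rw [Finset.sum_congr rfl (fun x _ => h3 x)] at h2
      have h4 := congrArg f h2
      rw [map_sum, map_zero] at h4
      rw [← h4]
      apply Finset.sum_congr rfl
      intro x _
      rw [map_smul, smul_eq_mul, smul_eq_mul]
      ring
    have hrel' : ∑ x : H ⧸ Z, (c x * f (r (Quotient.out x) v₀)) • (μ x : H → F) = 0 := by
      funext y
      rw [Finset.sum_apply, Pi.zero_apply]
      rw [← hrel y]
      apply Finset.sum_congr rfl
      intro x _
      rfl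
    have h5 := (Fintype.linearIndependent_iff.mp hLI) _ hrel' x₀
    rcases mul_eq_zero.mp h5 with h | h
    · exact hx₀ h
    · exact hf h
  have h1 := hLIe.fintype_card_le_finrank
  rw [Module.finrank_linearMap F F V V, ← Nat.card_eq_fintype_card, ← Subgroup.index_eq_card] at h1
  rw [sq]
  exact h1

end

end Cfsg.Agent.Lib.Helper2.Htl
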