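import Cfsg.Agent.Lib.Helper2.Htl2
import Cfsg.Agent.Lib.Helper7.EP13

set_option autoImplicit false
set_option linter.style.haveILetI false

/-!
# Consequences of the field structure: the scalar character and the Galois action
-/

namespace Cfsg.Agent.Lib.Helper2.Htl

universe u

variable {q : ℕ} [Fact q.Prime] {V : Type u} [AddCommGroup V] [Module (ZMod q) V]
  {G : Type*} [Group G]

/-- the field structure attached to an abelian normal subgroup -/
structure FieldData (ρ : G →* (V ≃ₗ[ZMod q] V)) (A : Subgroup G) (F : Type*) [Field F]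
    [Module F V] : Prop where
  scal : ∀ a ∈ A, ∃ c : F, ∀ v : V, ρ a v = c • v
  semi : ∀ (g : G) (c : F), ∃ c' : F, ∀ v : V, ρ g (c • v) = c' • ρ g v
  lin : ∀ g : G, (∀ a ∈ A, g * a = a * g) → ∀ (c : F) (v : V), ρ g (c • v) = c • ρ g v
  inv : ∀ W : Submodule (ZMod q) V, (∀ a ∈ A, ∀ v ∈ W, ρ a v ∈ W) →
    ∀ (c : F), ∀ v ∈ W, c • v ∈ W

variable {ρ : G →* (V ≃ₗ[ZMod q] V)} {A : Subgroup G} {F : Type*} [Field F] [Module F V]

theorem smul_cancel_of_ne_zero {v : V} (hv : v ≠ 0) {c c' : F} (h : c • v = c' • v) : c = c' :=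
  smul_left_injective F hv h

theorem rho_ne_zero (g : G) {v : V} (hv : v ≠ 0) : ρ g v ≠ 0 := by
  intro h
  apply hv
  have := (ρ g).injective (h.trans (map_zero (ρ g)).symm)
  exact this

theorem rho_mul_apply (g h : G) (v : V) : ρ (g * h) v = ρ g (ρ h v) := by
  rw [map_mul]; rfl

theorem rho_one_apply (v : V) : ρ (1 : G) v = v := by
  rw [map_one]; rfl

section

variable (hd : FieldData ρ A F)

/-- the scalar by which an element of the subgroup acts -/
noncomputable def chiFun (a : A) : F := Classical.choose (hd.scal a a.2)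

theorem chiFun_spec (a : A) (v : V) : ρ a v = chiFun hd a • v :=
  Classical.choose_spec (hd.scal a a.2) v

variable [Nontrivial V]

theorem chiFun_ne_zero (a : A) : chiFun hd a ≠ 0 := by
  obtain ⟨v, hv⟩ := exists_ne (0 : V)
  intro h
  have := chiFun_spec hd a v
  rw [h, zero_smul] at this
  exact rho_ne_zero (ρ := ρ) _ hv this

theorem chiFun_mul (a b : A) : chiFun hd (a * b) = chiFun hd a * chiFun hd b := by
  obtain ⟨v, hv⟩ := exists_ne (0 : V)
  apply smul_cancel_of_ne_zero hv
  rw [← chiFun_spec, mul_smul, ← chiFun_spec, ← chiFun_spec]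
  exact rho_mul_apply _ _ _

theorem chiFun_one : chiFun hd (1 : A) = 1 := by
  obtain ⟨v, hv⟩ := exists_ne (0 : V)
  apply smul_cancel_of_ne_zero hv
  rw [← chiFun_spec, one_smul]
  exact rho_one_apply v

/-- the scalar character -/
noncomputable def chi : A →* Fˣ where
  toFun a := Units.mk0 (chiFun hd a) (chiFun_ne_zero hd a)
  map_one' := by
    apply Units.ext
    exact chiFun_one hd
  map_mul' a b := by
    apply Units.ext
    exact chiFun_mul hd a b

theorem chi_spec (a : A) (v : V) : ρ a v = ((chi hd a : Fˣ) : F) • v := chiFun_spec hd a v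

theorem chi_injective (hρ : Function.Injective ρ) : Function.Injective (chi hd) := by
  intro a b hab
  apply Subtype.ext
  apply hρ
  apply LinearEquiv.ext
  intro v
  rw [chi_spec hd, chi_spec hd, hab]

/-- the Galois action of a group element, as a function -/
noncomputable def sigFun (g : G) (c : F) : F := Classical.choose (hd.semi g c)

theorem sigFun_spec (g : G) (c : F) (v : V) : ρ g (c • v) = sigFun hd g c • ρ g v :=
  Classical.choose_spec (hd.semi g c) v

theorem sigFun_unique (g : G) (c c' : F) (h : ∀ v : V, ρ g (c • v) = c' • ρ g v) :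
    sigFun hd g c = c' := by
  obtain ⟨v, hv⟩ := exists_ne (0 : V)
  apply smul_cancel_of_ne_zero (rho_ne_zero (ρ := ρ) g hv)
  rw [← sigFun_spec hd, h]

/-- the Galois action of a group element, as a ring homomorphism -/
noncomputable def sigHom (g : G) : F →+* F where
  toFun := sigFun hd g
  map_one' := by
    apply sigFun_unique hd
    intro v
    rw [one_smul, one_smul]
  map_mul' c c' := by
    apply sigFun_unique hd
    intro v
    rw [mul_smul, sigFun_spec hd, sigFun_spec hd, mul_smul]
  map_zero' := by
    apply sigFun_unique hd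
    intro v
    rw [zero_smul, zero_smul, map_zero]
  map_add' c c' := by
    apply sigFun_unique hd
    intro v
    rw [add_smul, map_add, sigFun_spec hd, sigFun_spec hd, add_smul]

theorem sigHom_spec (g : G) (c : F) (v : V) : ρ g (c • v) = sigHom hd g c • ρ g v :=
  sigFun_spec hd g c v

theorem sigHom_mul (g h : G) : sigHom hd (g * h) = (sigHom hd g).comp (sigHom hd h) := by
  apply RingHom.ext
  intro c
  apply sigFun_unique hd
  intro v
  rw [rho_mul_apply, rho_mul_apply, sigHom_spec hd, sigHom_spec hd]
  rfl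

theorem sigHom_one : sigHom hd (1 : G) = RingHom.id F := by
  apply RingHom.ext
  intro c
  apply sigFun_unique hd
  intro v
  rw [rho_one_apply, rho_one_apply]
  rfl

/-- the Galois action -/
noncomputable def sigAut : G →* RingAut F where
  toFun g := RingEquiv.ofRingHom (sigHom hd g) (sigHom hd g⁻¹)
    (by rw [← sigHom_mul, mul_inv_cancel, sigHom_one])
    (by rw [← sigHom_mul, inv_mul_cancel, sigHom_one])
  map_one' := by
    apply RingEquiv.ext
    intro c
    show sigHom hd 1 c = c
    rw [sigHom_one]; rfl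
  map_mul' g h := by
    apply RingEquiv.ext
    intro c
    show sigHom hd (g * h) c = sigHom hd g (sigHom hd h c)
    rw [sigHom_mul]; rfl

theorem sigAut_apply (g : G) (c : F) : sigAut hd g c = sigHom hd g c := rfl

theorem sigAut_ker (hρ : Function.Injective ρ) :
    (sigAut hd).ker = Subgroup.centralizer (A : Set G) := by
  ext g
  rw [MonoidHom.mem_ker, Subgroup.mem_centralizer_iff]
  constructor
  · intro hg a ha
    apply hρ
    apply LinearEquiv.ext
    intro v
    rw [rho_mul_apply, rho_mul_apply, chi_spec hd ⟨a, ha⟩ v, sigHom_spec hd,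
      chi_spec hd ⟨a, ha⟩ (ρ g v)]
    congr 1
    have := congrArg (fun σ : RingAut F => σ ((chi hd ⟨a, ha⟩ : Fˣ) : F)) hg
    exact this.symm
  · intro hg
    apply RingEquiv.ext
    intro c
    show sigFun hd g c = c
    apply sigFun_unique hd
    intro v
    exact hd.lin g (fun a ha => (hg a ha).symm) c v

include hd in
theorem index_centralizer_dvd (hρ : Function.Injective ρ) [Finite F] :
    (Subgroup.centralizer (A : Set G)).index ∣ Nat.card (RingAut F) := by
  rw [← sigAut_ker hd hρ, Subgroup.index_ker]
  exact Subgroup.card_subgroup_dvd_card _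

end

/-- the numerical data: `|F| = q ^ d`, `|Aut F| = d`, `|V| = |F| ^ m`, `|V| = q ^ (d * m)` -/
theorem exists_numbers [Finite V] [Nontrivial V] [Finite F] :
    ∃ d : ℕ, 0 < d ∧ Nat.card F = q ^ d ∧ Nat.card (RingAut F) = d ∧
      Nat.card V = q ^ (d * Module.finrank F V) ∧ 0 < Module.finrank F V := by
  classical
  obtain ⟨v, hv⟩ := exists_ne (0 : V)
  have hq0 : ((q : ℕ) : F) = 0 := by
    apply smul_cancel_of_ne_zero hv
    rw [zero_smul, Nat.cast_smul_eq_nsmul]
    have : ((q : ℕ) : ZMod q) • v = 0 := by rw [ZMod.natCast_self, zero_smul]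
    rwa [Nat.cast_smul_eq_nsmul] at this
  haveI : CharP F q := ringChar.of_eq (CharP.ringChar_of_prime_eq_zero Fact.out hq0)
  haveI : Fintype F := Fintype.ofFinite F
  haveI : Fintype V := Fintype.ofFinite V
  obtain ⟨d, -, hd⟩ := FiniteField.card F q
  have hcardF : Nat.card F = q ^ (d : ℕ) := by rw [Nat.card_eq_fintype_card, hd]
  have haut := (Cfsg.Agent.Lib.Helper7.EP.ringAut_field F q d hcardF).2
  have hV : Fintype.card V = Fintype.card F ^ Module.finrank F V := Module.card_eq_pow_finrank
  refine ⟨d, d.pos, hcardF, haut, ?_, ?_⟩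
  · rw [Nat.card_eq_fintype_card, hV, hd, pow_mul]
  · exact Module.finrank_pos

end Cfsg.Agent.Lib.Helper2.Htl
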