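import Mathlib

set_option autoImplicit false
set_option linter.style.haveILetI false

/-!
# Two counting lemmas: free conjugation actions, and quotients of order four
-/

namespace Cfsg.Agent.Lib.Helper2.Htl

section free

variable {G : Type*} [Group G] [Finite G]

theorem card_dvd_of_conj_free (P : Subgroup G) (S : Set G)
    (hstab : ∀ g ∈ P, ∀ s ∈ S, g * s * g⁻¹ ∈ S)
    (hfree : ∀ g ∈ P, ∀ s ∈ S, g * s * g⁻¹ = s → g = 1) : Nat.card P ∣ Nat.card S := by
  letI : MulAction P S :=
    { smul := fun g s => ⟨(g : G) * s * (g : G)⁻¹, hstab g g.2 s s.2⟩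
      one_smul := fun s => by
        apply Subtype.ext
        show ((1 : P) : G) * s * ((1 : P) : G)⁻¹ = s
        rw [Subgroup.coe_one]; group
      mul_smul := fun g h s => by
        apply Subtype.ext
        show ((g * h : P) : G) * s * ((g * h : P) : G)⁻¹ =
          (g : G) * ((h : G) * s * (h : G)⁻¹) * (g : G)⁻¹
        rw [Subgroup.coe_mul]; group }
  have hsmul : ∀ (g : P) (s : S), ((g • s : S) : G) = (g : G) * s * (g : G)⁻¹ := fun _ _ => rfl
  have hst : ∀ s : S, MulAction.stabilizer P s = ⊥ := by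
    intro s
    rw [eq_bot_iff]
    intro g hg
    rw [MulAction.mem_stabilizer_iff] at hg
    rw [Subgroup.mem_bot]
    apply Subtype.ext
    have h1 := congrArg Subtype.val hg
    rw [hsmul] at h1
    exact hfree g g.2 s s.2 h1
  have e := MulAction.selfEquivOrbitsQuotientProd hst
  rw [Nat.card_congr e, Nat.card_prod]
  exact dvd_mul_left _ _

end free

section four

theorem card_mulAut_dvd_six {X : Type*} [Group X] (hX : Nat.card X = 4) :
    Nat.card (MulAut X) ∣ 6 := by
  classical
  haveI : Finite X := Nat.finite_of_card_ne_zero (by rw [hX]; norm_num)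
  haveI : Fintype X := Fintype.ofFinite X
  have hT : Nat.card {x : X // x ≠ 1} = 3 := by
    have h1 : Fintype.card {x : X // x ≠ 1} = Fintype.card X - 1 := by
      rw [Fintype.card_subtype_compl, Fintype.card_subtype_eq]
    rw [Nat.card_eq_fintype_card, h1, ← Nat.card_eq_fintype_card, hX]
  let res : MulAut X →* Equiv.Perm {x : X // x ≠ 1} :=
    { toFun := fun σ => Equiv.subtypeEquiv σ.toEquiv (fun x => by
        show x ≠ 1 ↔ σ x ≠ 1
        rw [Ne, Ne, MulEquiv.map_eq_one_iff])
      map_one' := by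
        apply Equiv.ext
        intro x
        rfl
      map_mul' := fun σ τ => by
        apply Equiv.ext
        intro x
        rfl }
  have hres : ∀ (σ : MulAut X) (x : {x : X // x ≠ 1}), ((res σ x : {x : X // x ≠ 1}) : X) = σ x :=
    fun _ _ => rfl
  have hinj : Function.Injective res := by
    intro σ τ hστ
    apply MulEquiv.ext
    intro x
    by_cases hx : x = 1
    · rw [hx, map_one, map_one]
    · have := congrArg (fun π : Equiv.Perm {x : X // x ≠ 1} => ((π ⟨x, hx⟩ : {x : X // x ≠ 1}) : X))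
        hστ
      simp only [hres] at this
      exact this
  have h1 := Subgroup.card_dvd_of_injective res hinj
  rw [Nat.card_perm, hT] at h1
  exact h1

variable {H Γ : Type*} [Group H] [Group Γ]

theorem exists_index_dvd_six (Z : Subgroup H) [Z.Normal] (hZ : Z.index = 4)
    (θ : Γ →* MulAut H) (hθ : ∀ γ, ∀ z ∈ Z, θ γ z ∈ Z) :
    ∃ K : Subgroup Γ, K.index ∣ 6 ∧ ∀ γ ∈ K, ∀ h : H, θ γ h * h⁻¹ ∈ Z := by
  have hmap : ∀ γ, Z.map ((θ γ : H ≃* H) : H →* H) = Z := by
    intro γ
    ext h
    rw [Subgroup.mem_map]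
    constructor
    · rintro ⟨z, hz, rfl⟩
      exact hθ γ z hz
    · intro hh
      refine ⟨θ γ⁻¹ h, hθ γ⁻¹ h hh, ?_⟩
      show θ γ (θ γ⁻¹ h) = h
      rw [← MulAut.mul_apply, ← map_mul, mul_inv_cancel, map_one]; rfl
  let ψ : Γ →* MulAut (H ⧸ Z) :=
    { toFun := fun γ => QuotientGroup.congr Z Z (θ γ) (hmap γ)
      map_one' := by
        apply MulEquiv.ext
        intro a
        induction a using QuotientGroup.induction_on with
        | H h =>
          show ((θ 1 h : H) : H ⧸ Z) = (h : H ⧸ Z)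
          rw [map_one]; rfl
      map_mul' := fun γ δ => by
        apply MulEquiv.ext
        intro a
        induction a using QuotientGroup.induction_on with
        | H h =>
          show ((θ (γ * δ) h : H) : H ⧸ Z) = ((θ γ (θ δ h) : H) : H ⧸ Z)
          rw [map_mul]; rfl }
  have hψ : ∀ (γ : Γ) (h : H), ψ γ (h : H ⧸ Z) = ((θ γ h : H) : H ⧸ Z) := fun _ _ => rfl
  refine ⟨ψ.ker, ?_, ?_⟩
  · rw [Subgroup.index_ker]
    have h1 : Nat.card (H ⧸ Z) = 4 := by rw [← Subgroup.index_eq_card, hZ]
    haveI : Finite (H ⧸ Z) := Nat.finite_of_card_ne_zero (by rw [h1]; norm_num)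
    haveI : Finite (MulAut (H ⧸ Z)) :=
      Finite.of_injective (fun σ : MulAut (H ⧸ Z) => (σ : H ⧸ Z → H ⧸ Z)) DFunLike.coe_injective
    exact (Subgroup.card_subgroup_dvd_card _).trans (card_mulAut_dvd_six h1)
  · intro γ hγ h
    rw [MonoidHom.mem_ker] at hγ
    have h1 : ψ γ (h : H ⧸ Z) = (h : H ⧸ Z) := by rw [hγ]; rfl
    rw [hψ] at h1
    rw [← QuotientGroup.eq_one_iff, QuotientGroup.mk_mul, QuotientGroup.mk_inv, h1,
      mul_inv_cancel]

end four

end Cfsg.Agent.Lib.Helper2.Htl
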