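import Cfsg.Agent.Lib.Helper2.Htl6
import Cfsg.Agent.Lib.Helper2.Htl7
import Cfsg.Agent.Lib.Helper2.Htl8
import Cfsg.Agent.Lib.Helper2.Htl9

set_option autoImplicit false
set_option linter.style.haveILetI false

/-!
# The local configuration: an abelian normal subgroup acting by scalars and a class-two normal
subgroup above it
-/

namespace Cfsg.Agent.Lib.Helper2.Htl

open scoped commutatorElement

universe u

variable {q : ℕ} [Fact q.Prime] {V : Type u} [AddCommGroup V] [Module (ZMod q) V]
  {G : Type*} [Group G]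

/-- the local configuration -/
structure Config (ρ : G →* (V ≃ₗ[ZMod q] V)) (A B : Subgroup G) (F : Type*) [Field F]
    [Module F V] : Prop where
  inj : Function.Injective ρ
  An : A.Normal
  Bn : B.Normal
  fd : FieldData ρ A F
  hAB : A ≤ B
  hBC : B ≤ Subgroup.centralizer (A : Set G)
  hBB : ∀ x ∈ B, ∀ y ∈ B, ⁅x, y⁆ ∈ A
  hcen : ∀ x ∈ B, (∀ y ∈ B, x * y = y * x) → x ∈ A
  hcent : ∀ g : G, (∀ b ∈ B, g * b = b * g) → g ∈ A
  hker : ∀ g ∈ Subgroup.centralizer (A : Set G), (∀ b ∈ B, ⁅g, b⁆ ∈ A) → g ∈ B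

variable {ρ : G →* (V ≃ₗ[ZMod q] V)} {A B : Subgroup G} {F : Type*} [Field F] [Module F V]

namespace Config

variable (h : Config ρ A B F)

include h

theorem classTwo : ClassTwo (A.subgroupOf B) := by
  constructor
  · intro z hz x
    apply Subtype.ext
    show (z : G) * (x : G) = (x : G) * (z : G)
    have := h.hBC x.2
    rw [Subgroup.mem_centralizer_iff] at this
    exact this z (Subgroup.mem_subgroupOf.mp hz)
  · intro x y
    rw [Subgroup.mem_subgroupOf]
    exact h.hBB x x.2 y y.2

theorem hcen' : ∀ x : B, (∀ y : B, x * y = y * x) → x ∈ A.subgroupOf B := by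
  intro x hx
  rw [Subgroup.mem_subgroupOf]
  apply h.hcen x x.2
  intro y hy
  exact congrArg Subtype.val (hx ⟨y, hy⟩)

variable [Nontrivial V]

/-- the scalar character on the subgroup of `B` -/
noncomputable def chiZ : (A.subgroupOf B) →* Fˣ :=
  (chi h.fd).comp (Subgroup.subgroupOfEquivOfLe h.hAB).toMonoidHom

theorem chiZ_apply (z : A.subgroupOf B) :
    h.chiZ z = chi h.fd ⟨((z : B) : G), Subgroup.mem_subgroupOf.mp z.2⟩ := rfl

theorem chiZ_injective : Function.Injective h.chiZ := by
  intro z z' hzz'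
  have h1 := chi_injective h.fd h.inj hzz'
  exact (Subgroup.subgroupOfEquivOfLe h.hAB).injective h1

/-- the linear action of `B` -/
noncomputable def rB : B →* Module.End F V where
  toFun b :=
    { toFun := fun v => ρ b v
      map_add' := fun v w => map_add _ v w
      map_smul' := fun c v => by
        have hb := h.hBC b.2
        rw [Subgroup.mem_centralizer_iff] at hb
        exact h.fd.lin b (fun a ha => (hb a ha).symm) c v }
  map_one' := by
    apply LinearMap.ext
    intro v
    show ρ ((1 : B) : G) v = v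
    rw [Subgroup.coe_one]
    exact rho_one_apply v
  map_mul' b b' := by
    apply LinearMap.ext
    intro v
    show ρ ((b * b' : B) : G) v = ρ b (ρ b' v)
    rw [Subgroup.coe_mul]
    exact rho_mul_apply _ _ _

theorem rB_apply (b : B) (v : V) : h.rB b v = ρ b v := rfl

theorem rB_chiZ (z : A.subgroupOf B) (v : V) :
    h.rB (z : B) v = ((h.chiZ z : Fˣ) : F) • v := by
  rw [rB_apply, chiZ_apply]
  exact chi_spec h.fd ⟨((z : B) : G), Subgroup.mem_subgroupOf.mp z.2⟩ v

variable [Finite G]

theorem card_subgroupOf : Nat.card (A.subgroupOf B) = Nat.card A :=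
  Nat.card_congr (Subgroup.subgroupOfEquivOfLe h.hAB).toEquiv

theorem card_B : Nat.card B = Nat.card A * (A.subgroupOf B).index := by
  rw [← h.card_subgroupOf]
  exact (Subgroup.card_mul_index (A.subgroupOf B)).symm

theorem index_sq : ∃ s : ℕ, (A.subgroupOf B).index = s ^ 2 :=
  classTwo_index_sq h.chiZ h.classTwo h.hcen' h.chiZ_injective

theorem prime_dvd {r : ℕ} (hr : r.Prime) (hdvd : r ∣ (A.subgroupOf B).index) :
    r ∣ Nat.card A := by
  rw [← h.card_subgroupOf]
  exact classTwo_prime_dvd h.chiZ h.classTwo h.hcen' h.chiZ_injective hr hdvd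

theorem index_le [Finite V] : (A.subgroupOf B).index ≤ (Module.finrank F V) ^ 2 :=
  index_le_finrank_sq h.chiZ h.classTwo h.hcen' h.chiZ_injective h.rB h.rB_chiZ

theorem card_A_dvd [Finite F] : Nat.card A ∣ Nat.card F - 1 := by
  rw [← Nat.card_units]
  exact Subgroup.card_dvd_of_injective (chi h.fd) (chi_injective h.fd h.inj)

theorem mem_centralizer_of_coprime [Finite F] {g : G} {k : ℕ} (hg : g ^ k = 1)
    (hk : Nat.Coprime k (Nat.card (RingAut F))) : g ∈ Subgroup.centralizer (A : Set G) := by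
  rw [← sigAut_ker h.fd h.inj, MonoidHom.mem_ker]
  have h1 : (sigAut h.fd g) ^ k = 1 := by rw [← map_pow, hg, map_one]
  have h2 : (sigAut h.fd g) ^ (Nat.card (RingAut F)) = 1 := pow_card_eq_one'
  have h3 : orderOf (sigAut h.fd g) ∣ Nat.gcd k (Nat.card (RingAut F)) :=
    Nat.dvd_gcd (orderOf_dvd_of_pow_eq_one h1) (orderOf_dvd_of_pow_eq_one h2)
  rw [hk.gcd_eq_one, Nat.dvd_one] at h3
  exact orderOf_eq_one_iff.mp h3

theorem index_centralizer [Finite F] :
    (Subgroup.centralizer (A : Set G)).index ∣ Nat.card (RingAut F) :=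
  index_centralizer_dvd h.fd h.inj

end Config

end Cfsg.Agent.Lib.Helper2.Htl
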