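import Cfsg.Agent.Lib.Helper2.Htl10

set_option autoImplicit false
set_option linter.style.haveILetI false

/-!
# The local configuration: automorphisms of prime order and counting
-/

namespace Cfsg.Agent.Lib.Helper2.Htl

open scoped commutatorElement

universe u

variable {q : ℕ} [Fact q.Prime] {V : Type u} [AddCommGroup V] [Module (ZMod q) V]
  {G : Type*} [Group G]

variable {ρ : G →* (V ≃ₗ[ZMod q] V)} {A B : Subgroup G} {F : Type*} [Field F] [Module F V]

theorem card_sub_one_dvd_of_transitive [Finite G] [Finite V] [Nontrivial V]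
    (htrans : ∀ v w : V, v ≠ 0 → w ≠ 0 → ∃ g : G, ρ g v = w) :
    Nat.card V - 1 ∣ Nat.card G := by
  classical
  obtain ⟨v₀, hv₀⟩ := exists_ne (0 : V)
  letI : MulAction G V :=
    { smul := fun g v => ρ g v
      one_smul := fun v => rho_one_apply v
      mul_smul := fun g g' v => rho_mul_apply g g' v }
  have hsmul : ∀ (g : G) (v : V), g • v = ρ g v := fun _ _ => rfl
  have horb : MulAction.orbit G v₀ = {v : V | v ≠ 0} := by
    ext w
    rw [MulAction.mem_orbit_iff]
    constructor
    · rintro ⟨g, rfl⟩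
      exact rho_ne_zero g hv₀
    · intro hw
      obtain ⟨g, hg⟩ := htrans v₀ w hv₀ hw
      exact ⟨g, hg⟩
  have h1 : (MulAction.stabilizer G v₀).index = (MulAction.orbit G v₀).ncard :=
    MulAction.index_stabilizer G v₀
  have h2 : (MulAction.orbit G v₀).ncard = Nat.card V - 1 := by
    rw [horb]
    have : {v : V | v ≠ 0} = (Set.univ : Set V) \ {0} := by
      ext v; simp
    rw [this, Set.ncard_sdiff (Set.subset_univ _) (Set.toFinite _), Set.ncard_univ,
      Set.ncard_singleton]
  rw [← h2, ← h1]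
  exact Subgroup.index_dvd_card _

namespace Config

variable (h : Config ρ A B F)

include h

theorem aut_prime [Nontrivial V] [Finite G] {p : ℕ} [hp : Fact p.Prime] {g : G}
    (hg : g ^ p = 1) (hg1 : g ≠ 1) (hgC : g ∈ Subgroup.centralizer (A : Set G))
    (hpA : ¬ p ∣ Nat.card A) :
    ∃ t : ℕ, 2 ≤ t ∧ p ∣ t ^ 2 - 1 ∧ t ^ 2 ∣ (A.subgroupOf B).index ∧
      (t ^ 2 = (A.subgroupOf B).index → ∀ b ∈ B, g * b = b * g → b ∈ A) := by
  haveI := h.Bn
  haveI := h.An
  let φ : B ≃* B := MulAut.conjNormal g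
  have hφ : ∀ b : B, ((φ b : B) : G) = g * b * g⁻¹ := MulAut.conjNormal_apply g
  rw [Subgroup.mem_centralizer_iff] at hgC
  have hφZ : ∀ z ∈ A.subgroupOf B, φ z = z := by
    intro z hz
    apply Subtype.ext
    rw [hφ, ← hgC z (Subgroup.mem_subgroupOf.mp hz), mul_inv_cancel_right]
  have hit : ∀ (k : ℕ) (b : B), ((φ^[k] b : B) : G) = g ^ k * b * (g ^ k)⁻¹ := by
    intro k
    induction k with
    | zero => intro b; simp
    | succ k ih =>
      intro b
      rw [Function.iterate_succ_apply', hφ, ih, pow_succ']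
      group
  have hφp : ∀ b, φ^[p] b = b := by
    intro b
    apply Subtype.ext
    rw [hit, hg]
    group
  have hpZ : ¬ p ∣ Nat.card (A.subgroupOf B) := by rw [h.card_subgroupOf]; exact hpA
  obtain ⟨t, h1, h2, h3, h4⟩ := classTwo_aut h.chiZ h.classTwo h.hcen' h.chiZ_injective φ hφZ
    hφp hpZ
  have hcomm : ∀ b : B, ((φ b * b⁻¹ : B) : G) = ⁅g, (b : G)⁆ := by
    intro b
    rw [Subgroup.coe_mul, hφ, commutatorElement_def]
    rfl
  have hnontriv : ∃ b : B, φ b * b⁻¹ ∉ A.subgroupOf B := by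
    by_contra hcon
    push_neg at hcon
    have hgB : g ∈ B := by
      apply h.hker g (Subgroup.mem_centralizer_iff.mpr hgC)
      intro b hb
      have := hcon ⟨b, hb⟩
      rw [Subgroup.mem_subgroupOf, hcomm] at this
      exact this
    have ho : orderOf g = p := orderOf_eq_prime hg hg1
    have h5 : orderOf (⟨g, hgB⟩ : B) ∣ Nat.card B := orderOf_dvd_natCard _
    rw [Subgroup.orderOf_mk, ho, h.card_B] at h5
    rcases (Nat.Prime.dvd_mul hp.out).mp h5 with h6 | h6
    · exact hpA h6
    · exact hpA (h.prime_dvd hp.out h6)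
  refine ⟨t, h3 hnontriv, h1, h2, ?_⟩
  intro ht b hb hgb
  have := h4 ht ⟨b, hb⟩ (by
    rw [Subgroup.mem_subgroupOf, hcomm]
    have : ⁅g, b⁆ = 1 := commutatorElement_eq_one_iff_mul_comm.mpr hgb
    rw [this]
    exact A.one_mem)
  exact Subgroup.mem_subgroupOf.mp this

theorem sq_dvd [Nontrivial V] [Finite G] [Finite F] {p : ℕ} [hp : Fact p.Prime]
    (hpd : ¬ p ∣ Nat.card (RingAut F)) (hpA : ¬ p ∣ Nat.card A) (hpG : p ^ 2 ∣ Nat.card G)
    (huniq : ∀ t : ℕ, 2 ≤ t → p ∣ t ^ 2 - 1 → t ^ 2 ∣ (A.subgroupOf B).index →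
      t ^ 2 = (A.subgroupOf B).index) :
    p ^ 2 ∣ (A.subgroupOf B).index - 1 := by
  haveI := h.Bn
  haveI := h.An
  obtain ⟨P, hP⟩ := Sylow.exists_subgroup_card_pow_prime p hpG
  have hcop : Nat.Coprime p (Nat.card (RingAut F)) :=
    (Nat.Prime.coprime_iff_not_dvd hp.out).mpr hpd
  -- elements of order `p` have no fixed points outside `A`
  have hfix : ∀ g : G, g ^ p = 1 → g ≠ 1 → ∀ b ∈ B, g * b = b * g → b ∈ A := by
    intro g hg hg1 b hb hgb
    have hgC := h.mem_centralizer_of_coprime hg hcop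
    obtain ⟨t, ht2, ht1, htd, htf⟩ := h.aut_prime hg hg1 hgC hpA
    exact htf (huniq t ht2 ht1 htd) b hb hgb
  have hstab : ∀ g ∈ P, ∀ s ∈ ((B : Set G) \ (A : Set G)), g * s * g⁻¹ ∈ ((B : Set G) \ (A : Set G)) := by
    intro g _ s hs
    refine ⟨h.Bn.conj_mem s hs.1 g, ?_⟩
    intro hcon
    apply hs.2
    have := h.An.conj_mem _ hcon g⁻¹
    rw [inv_inv] at this
    have e : g⁻¹ * (g * s * g⁻¹) * g = s := by group
    rw [e] at this
    exact this
  have hfree : ∀ g ∈ P, ∀ s ∈ ((B : Set G) \ (A : Set G)), g * s * g⁻¹ = s → g = 1 := by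
    intro g hgP s hs hgs
    by_contra hg1
    have hgs' : g * s = s * g := by
      have := congrArg (fun z => z * g) hgs
      simp only [inv_mul_cancel_right] at this
      exact this
    have hgpp : g ^ (p ^ 2) = 1 := by
      have h1 : (⟨g, hgP⟩ : P) ^ (Nat.card P) = 1 := pow_card_eq_one'
      rw [hP] at h1
      exact congrArg Subtype.val h1
    by_cases hgp : g ^ p = 1
    · exact hs.2 (hfix g hgp hg1 s hs.1 hgs')
    · have h2 : (g ^ p) ^ p = 1 := by rw [← pow_mul, ← sq]; exact hgpp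
      have h3 : g ^ p * s = s * g ^ p := ((show Commute g s from hgs').pow_left p).eq
      exact hs.2 (hfix (g ^ p) h2 hgp s hs.1 h3)
  have hdvd := card_dvd_of_conj_free P ((B : Set G) \ (A : Set G)) hstab hfree
  rw [hP, Nat.card_coe_set_eq, Set.ncard_sdiff (by exact_mod_cast h.hAB) (Set.toFinite _)] at hdvd
  have hB : (B : Set G).ncard = Nat.card B := (Nat.card_coe_set_eq (B : Set G)).symm
  have hA : (A : Set G).ncard = Nat.card A := (Nat.card_coe_set_eq (A : Set G)).symm
  rw [hB, hA, h.card_B] at hdvd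
  have e : Nat.card A * (A.subgroupOf B).index - Nat.card A =
      Nat.card A * ((A.subgroupOf B).index - 1) := by
    rw [Nat.mul_sub, mul_one]
  rw [e] at hdvd
  have hcopA : Nat.Coprime (p ^ 2) (Nat.card A) :=
    Nat.Coprime.pow_left 2 ((Nat.Prime.coprime_iff_not_dvd hp.out).mpr hpA)
  exact hcopA.dvd_of_dvd_mul_left hdvd

theorem card_dvd_of_index_one [Nontrivial V] [Finite G] [Finite F]
    (hidx : (A.subgroupOf B).index = 1) :
    Nat.card G ∣ Nat.card (RingAut F) * Nat.card A := by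
  haveI := h.An
  have hBA : B ≤ A := by
    rw [Subgroup.index_eq_one, Subgroup.subgroupOf_eq_top] at hidx
    exact hidx
  have hCA : Subgroup.centralizer (A : Set G) = A := by
    apply le_antisymm
    · intro g hg
      apply hBA
      apply h.hker g hg
      intro b hb
      have hbA := hBA hb
      rw [commutatorElement_def]
      exact A.mul_mem (h.An.conj_mem b hbA g) (A.inv_mem hbA)
    · exact h.hAB.trans h.hBC
  have h1 := Subgroup.card_mul_index (Subgroup.centralizer (A : Set G))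
  rw [← h1, hCA, mul_comm]
  have h2 := h.index_centralizer
  rw [hCA] at h2
  exact Nat.mul_dvd_mul_right h2 _

theorem card_dvd_of_index_four [Nontrivial V] [Finite G]
    (hidx : (A.subgroupOf B).index = 4) (hC : Subgroup.centralizer (A : Set G) = ⊤) :
    Nat.card G ∣ 24 * Nat.card A := by
  haveI := h.An
  haveI := h.Bn
  haveI : (A.subgroupOf B).Normal := Subgroup.normal_subgroupOf
  have hθ : ∀ γ : G, ∀ z ∈ A.subgroupOf B,
      (MulAut.conjNormal γ : MulAut B) z ∈ A.subgroupOf B := by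
    intro γ z hz
    rw [Subgroup.mem_subgroupOf, MulAut.conjNormal_apply]
    exact h.An.conj_mem _ (Subgroup.mem_subgroupOf.mp hz) γ
  obtain ⟨K, hK6, hK⟩ := exists_index_dvd_six (A.subgroupOf B) hidx
    (MulAut.conjNormal : G →* MulAut B) hθ
  have hKB : K ≤ B := by
    intro γ hγ
    apply h.hker γ (by rw [hC]; exact Subgroup.mem_top γ)
    intro b hb
    have := hK γ hγ ⟨b, hb⟩
    rw [Subgroup.mem_subgroupOf, Subgroup.coe_mul, MulAut.conjNormal_apply] at this
    rw [commutatorElement_def]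
    exact this
  have h1 := Subgroup.card_mul_index K
  have h2 : Nat.card K ∣ Nat.card B := Subgroup.card_dvd_of_le hKB
  rw [h.card_B, hidx] at h2
  rw [← h1]
  have h3 : Nat.card K * K.index ∣ (Nat.card A * 4) * 6 := Nat.mul_dvd_mul h2 hK6
  have e : Nat.card A * 4 * 6 = 24 * Nat.card A := by ring
  rw [e] at h3
  exact h3

end Config

end Cfsg.Agent.Lib.Helper2.Htl
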