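import Cfsg.Agent.Lib.Helper2.Zfp62

set_option autoImplicit false
set_option linter.style.haveILetI false

/-!
# The semilinear case
-/

namespace Cfsg.Agent.Lib.Helper2.Zfp

universe u

variable {q : ℕ} [Fact q.Prime] {V : Type u} [AddCommGroup V] [Module (ZMod q) V]
  {G : Type*} [Group G]

variable {ρ : G →* (V ≃ₗ[ZMod q] V)} {A : Subgroup G}

set_option maxHeartbeats 800000 in
theorem field_case [hA : A.Normal] [Finite V] [Nontrivial V]
    (hcomm : ∀ a ∈ A, ∀ b ∈ A, ∀ v : V, ρ a (ρ b v) = ρ b (ρ a v))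
    (hirr : ∀ W : Submodule (ZMod q) V, (∀ a ∈ A, ∀ v ∈ W, ρ a v ∈ W) → W = ⊥ ∨ W = ⊤)
    (htrans : ∀ v w : V, v ≠ 0 → w ≠ 0 → ∃ g : G, ρ g v = w) :
    (∃ (F : Type) (_ : Field F) (_ : Fintype F) (e : V ≃+ F),
        ∀ g : G, ∃ (a : F) (σ : F ≃+* F), ∀ v : V, e (ρ g v) = a * σ (e v)) ∧
      (q ≠ 2 → ∃ N : Subgroup G, N.Normal ∧ N.index = 2) := by
  obtain ⟨e, h2, hsemi⟩ := exists_semilinear_core hcomm hirr
  have hfield := commAlg_isField hirr
  letI fld : Field (commAlg ρ A) := hfield.toField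
  haveI : Finite (Module.End (ZMod q) V) :=
    Finite.of_injective (fun f => (f : V → V)) DFunLike.coe_injective
  haveI : Finite (commAlg ρ A) := Subtype.finite
  constructor
  · let r : Shrink.{0} (commAlg ρ A) ≃+* commAlg ρ A := Shrink.ringEquiv _
    refine ⟨Shrink.{0} (commAlg ρ A), inferInstance, Fintype.ofFinite _,
      e.trans r.symm.toAddEquiv, ?_⟩
    intro g
    obtain ⟨a, σ, hσ⟩ := hsemi g
    refine ⟨r.symm a, r.trans (σ.trans r.symm), ?_⟩
    intro v
    show r.symm (e (ρ g v)) = r.symm a * r.symm (σ (r (r.symm (e v))))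
    rw [r.apply_symm_apply, hσ v, map_mul]
  · intro hq2
    exact exists_index_two_of_semilinear (K := commAlg ρ A) (h2 hq2) ρ e hsemi htrans

end Cfsg.Agent.Lib.Helper2.Zfp
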