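import Cfsg.Agent.Lib.Helper2.Htl11
import Cfsg.Agent.Lib.Helper2.Zfp63

set_option autoImplicit false
set_option linter.style.haveILetI false

/-!
# Solvable transitive linear groups: reduction to arithmetic
-/

namespace Cfsg.Agent.Lib.Helper2.Htl

open scoped commutatorElement

universe u

set_option maxHeartbeats 1000000 in
theorem exists_numerical_data
    (q : ℕ) [Fact q.Prime] {V : Type u} [AddCommGroup V] [Module (ZMod q) V] [Finite V]
    [Nontrivial V] {G : Type*} [Group G] [Finite G] (hsol : Group.IsSolvable G)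
    (ρ : G →* (V ≃ₗ[ZMod q] V)) (hρ : Function.Injective ρ)
    (htrans : ∀ v w : V, v ≠ 0 → w ≠ 0 → ∃ g : G, ρ g v = w) :
    (∃ (F : Type) (_ : Field F) (_ : Fintype F) (e : V ≃+ F),
        ∀ g : G, ∃ (a : F) (σ : F ≃+* F), ∀ v : V, e (ρ g v) = a * σ (e v)) ∨
    ∃ d m s a : ℕ,
      (Nat.card V = q ^ (d * m) ∧ 0 < d ∧ 2 ≤ m) ∧
      (q ^ (d * m) - 1 ∣ Nat.card G) ∧
      (a ∣ q ^ d - 1 ∧ 0 < a) ∧
      (s ≤ m ∧ 0 < s ∧ ∀ r : ℕ, r.Prime → r ∣ s → r ∣ a) ∧
      (∀ p : ℕ, p.Prime → p ∣ Nat.card G → ¬ p ∣ d → ¬ p ∣ a →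
        ∃ t : ℕ, 2 ≤ t ∧ p ∣ t ^ 2 - 1 ∧ t ∣ s) ∧
      (∀ p : ℕ, p.Prime → p ^ 2 ∣ Nat.card G → ¬ p ∣ d → ¬ p ∣ a →
        (∀ t : ℕ, 2 ≤ t → p ∣ t ^ 2 - 1 → t ∣ s → t = s) → p ^ 2 ∣ s ^ 2 - 1) ∧
      (s = 1 → Nat.card G ∣ d * a) ∧
      (s = 2 → d = 1 → Nat.card G ∣ 24 * a) := by
  classical
  obtain ⟨A, hAn, hAc, hAmax⟩ := exists_max_abelian_normal (G := G)
  haveI := hAn
  obtain ⟨F, instF, instFin, instMod, h1, h2, h3, h4⟩ :=
    exists_field_structure (ρ := ρ) (A := A) hAc htrans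
  have hfd : FieldData ρ A F := ⟨h1, h2, h3, h4⟩
  obtain ⟨d, hd0, hcardF, haut, hcardV, hm0⟩ := exists_numbers (q := q) (V := V) (F := F)
  by_cases hm1 : Module.finrank F V = 1
  · -- the subgroup `A` is irreducible
    left
    have hcomm' : ∀ a ∈ A, ∀ b ∈ A, ∀ v : V, ρ a (ρ b v) = ρ b (ρ a v) := by
      intro a ha b hb v
      rw [← rho_mul_apply, ← rho_mul_apply, hAc a ha b hb]
    have hirr : ∀ W : Submodule (ZMod q) V, (∀ a ∈ A, ∀ v ∈ W, ρ a v ∈ W) →
        W = ⊥ ∨ W = ⊤ := by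
      intro W hW
      by_cases hWb : W = ⊥
      · exact Or.inl hWb
      right
      obtain ⟨w, hw, hw0⟩ := Submodule.exists_mem_ne_zero_of_ne_bot hWb
      rw [eq_top_iff]
      intro v _
      obtain ⟨c, hc⟩ := (finrank_eq_one_iff_of_nonzero' w hw0).mp hm1 v
      rw [← hc]
      exact h4 W hW c w hw
    exact (Cfsg.Agent.Lib.Helper2.Zfp.field_case hcomm' hirr htrans).1
  right
  obtain ⟨B, hBn, hAB, hBC, hBB, hcen, hcent, hker⟩ := exists_classTwo_normal hsol A hAc hAmax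
  haveI := hBn
  have hcfg : Config ρ A B F := ⟨hρ, hAn, hBn, hfd, hAB, hBC, hBB, hcen, hcent, hker⟩
  obtain ⟨s, hs⟩ := hcfg.index_sq
  have hidxpos : 0 < (A.subgroupOf B).index := Nat.pos_of_ne_zero Subgroup.index_ne_zero_of_finite
  have hs0 : 0 < s := by
    rcases Nat.eq_zero_or_pos s with h | h
    · rw [h] at hs
      simp at hs
      omega
    · exact h
  have hcardA : 0 < Nat.card A := Nat.card_pos
  refine ⟨d, Module.finrank F V, s, Nat.card A, ⟨hcardV, hd0, by omega⟩, ?_, ?_, ?_, ?_, ?_, ?_, ?_⟩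
  · rw [← hcardV]
    exact card_sub_one_dvd_of_transitive htrans
  · refine ⟨?_, hcardA⟩
    rw [← hcardF]
    exact hcfg.card_A_dvd
  · refine ⟨?_, hs0, ?_⟩
    · have := hcfg.index_le
      rw [hs] at this
      exact (Nat.pow_le_pow_iff_left (by norm_num)).mp this
    · intro r hr hrs
      apply hcfg.prime_dvd hr
      rw [hs]
      exact dvd_pow hrs (by norm_num)
  · intro p hp hpG hpd hpA
    haveI : Fact p.Prime := ⟨hp⟩
    obtain ⟨g, hg⟩ := exists_prime_orderOf_dvd_card' (G := G) p hpG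
    have hgp : g ^ p = 1 := by rw [← hg]; exact pow_orderOf_eq_one g
    have hg1 : g ≠ 1 := by
      intro h
      rw [h, orderOf_one] at hg
      exact hp.one_lt.ne hg
    have hcop : Nat.Coprime p (Nat.card (RingAut F)) := by
      rw [haut]
      exact (Nat.Prime.coprime_iff_not_dvd hp).mpr hpd
    have hgC := hcfg.mem_centralizer_of_coprime hgp hcop
    obtain ⟨t, ht2, ht1, htd, -⟩ := hcfg.aut_prime hgp hg1 hgC hpA
    refine ⟨t, ht2, ht1, ?_⟩
    rw [hs] at htd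
    exact (Nat.pow_dvd_pow_iff (by norm_num)).mp htd
  · intro p hp hpG hpd hpA huniq
    haveI : Fact p.Prime := ⟨hp⟩
    have := hcfg.sq_dvd (by rw [haut]; exact hpd) hpA hpG (by
      intro t ht2 ht1 htd
      rw [hs] at htd ⊢
      have := huniq t ht2 ht1 ((Nat.pow_dvd_pow_iff (by norm_num)).mp htd)
      rw [this])
    rw [hs] at this
    exact this
  · intro hs1
    have := hcfg.card_dvd_of_index_one (by rw [hs, hs1]; norm_num)
    rw [haut] at this
    exact this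
  · intro hs2 hd1
    apply hcfg.card_dvd_of_index_four (by rw [hs, hs2]; norm_num)
    have := hcfg.index_centralizer
    rw [haut, hd1, Nat.dvd_one] at this
    exact Subgroup.index_eq_one.mp this

end Cfsg.Agent.Lib.Helper2.Htl
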