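import Mathlib
import Cfsg.Agent.S2904
import Cfsg.Agent.S3430

set_option autoImplicit false
set_option linter.style.haveILetI false

/-!
# Solvable transitive linear groups: the arithmetic
-/

namespace Cfsg.Agent.Lib.Helper2.Htl

theorem ppd_dvd_sub_one {q n p : ℕ} (hp : p.Prime) (hq : 0 < q) (hn : 0 < n)
    (hdiv : p ∣ q ^ n - 1) (hprim : ∀ i, 0 < i → i < n → ¬ p ∣ q ^ i - 1) : n ∣ p - 1 := by
  haveI : Fact p.Prime := ⟨hp⟩
  have hx : ∀ i : ℕ, p ∣ q ^ i - 1 ↔ ((q : ZMod p)) ^ i = 1 := by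
    intro i
    rw [← ZMod.natCast_eq_zero_iff, Nat.cast_sub (Nat.one_le_pow _ _ hq), Nat.cast_pow,
      Nat.cast_one, sub_eq_zero]
  have h1 : (q : ZMod p) ^ n = 1 := (hx n).mp hdiv
  have hord : orderOf (q : ZMod p) = n := by
    rw [orderOf_eq_iff hn]
    exact ⟨h1, fun i hi hi0 h => hprim i hi0 hi ((hx i).mpr h)⟩
  have hq0 : (q : ZMod p) ≠ 0 := by
    intro h
    rw [h, zero_pow hn.ne'] at h1
    exact zero_ne_one h1
  have h2 : (q : ZMod p) ^ (p - 1) = 1 := ZMod.pow_card_sub_one_eq_one hq0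
  rw [← hord]
  exact orderOf_dvd_of_pow_eq_one h2

theorem prime_le_of_dvd_sq_sub_one {p t : ℕ} (hp : p.Prime) (ht : 2 ≤ t) (h : p ∣ t ^ 2 - 1) :
    p ≤ t + 1 := by
  obtain ⟨u, rfl⟩ : ∃ u, t = u + 2 := ⟨t - 2, by omega⟩
  have e : (u + 2) ^ 2 - 1 = (u + 1) * (u + 3) := by
    have : (u + 2) ^ 2 = (u + 1) * (u + 3) + 1 := by ring
    omega
  rw [e] at h
  rcases (Nat.Prime.dvd_mul hp).mp h with h1 | h1
  · have := Nat.le_of_dvd (by omega) h1
    omega
  · have := Nat.le_of_dvd (by omega) h1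
    omega

section main

variable (q d m s a N : ℕ) (hq : q.Prime) (hd : 0 < d) (hm : 2 ≤ m)
  (hN : q ^ (d * m) - 1 ∣ N) (ha : a ∣ q ^ d - 1) (ha0 : 0 < a)
  (hsm : s ≤ m) (hs0 : 0 < s) (hsa : ∀ r : ℕ, r.Prime → r ∣ s → r ∣ a)
  (h5 : ∀ p : ℕ, p.Prime → p ∣ N → ¬ p ∣ d → ¬ p ∣ a →
    ∃ t : ℕ, 2 ≤ t ∧ p ∣ t ^ 2 - 1 ∧ t ∣ s)
  (h6 : ∀ p : ℕ, p.Prime → p ^ 2 ∣ N → ¬ p ∣ d → ¬ p ∣ a →
    (∀ t : ℕ, 2 ≤ t → p ∣ t ^ 2 - 1 → t ∣ s → t = s) → p ^ 2 ∣ s ^ 2 - 1)
  (h7 : s = 1 → N ∣ d * a) (h8 : s = 2 → d = 1 → N ∣ 24 * a)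

include hq hd hm hN ha ha0 h7 in
theorem s_ne_one : s ≠ 1 := by
  intro hs1
  have h1 : q ^ (d * m) - 1 ∣ d * a := hN.trans (h7 hs1)
  have hda : 0 < d * a := Nat.mul_pos hd ha0
  have h2 : q ^ (d * m) - 1 ≤ d * a := Nat.le_of_dvd hda h1
  have hq2 : 2 ≤ q := hq.two_le
  have hx2 : 2 ≤ q ^ d := by
    calc 2 ≤ q := hq2
      _ = q ^ 1 := (pow_one q).symm
      _ ≤ q ^ d := Nat.pow_le_pow_right (by omega) hd
  have hxd : d < q ^ d := Nat.lt_pow_self (by omega)
  have ha1 : a ≤ q ^ d - 1 := Nat.le_of_dvd (by omega) ha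
  have hpow : (q ^ d) ^ 2 ≤ q ^ (d * m) := by
    rw [← pow_mul]
    exact Nat.pow_le_pow_right (by omega) (Nat.mul_le_mul_left d hm)
  set x := q ^ d with hx
  have h3 : d * a ≤ (x - 1) * (x - 1) := Nat.mul_le_mul (by omega) ha1
  obtain ⟨y, hy⟩ : ∃ y, x = y + 2 := ⟨x - 2, by omega⟩
  rw [hy] at h3 hpow
  have e1 : (y + 2 - 1) * (y + 2 - 1) = y * y + 2 * y + 1 := by
    have : y + 2 - 1 = y + 1 := by omega
    rw [this]; ring
  have e2 : (y + 2) ^ 2 = y * y + 4 * y + 4 := by ring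
  rw [e1] at h3
  rw [e2] at hpow
  omega

include hq hd hm hN hsm hs0 ha h5 in
theorem ppd_forces {p : ℕ} (hp : p.Prime) (hdiv : p ∣ q ^ (d * m) - 1)
    (hprim : ∀ i, 0 < i → i < d * m → ¬ p ∣ q ^ i - 1) :
    d = 1 ∧ s = m ∧ p = m + 1 ∧ ¬ p ∣ d ∧ ¬ p ∣ a ∧ p ∣ N ∧
      (∀ t : ℕ, 2 ≤ t → p ∣ t ^ 2 - 1 → t ∣ s → t = s) := by
  have hn0 : 0 < d * m := Nat.mul_pos hd (by omega)
  have h1 := ppd_dvd_sub_one hp hq.pos hn0 hdiv hprim
  have hp2 := hp.two_le
  have h2 : d * m ≤ p - 1 := Nat.le_of_dvd (by omega) h1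
  have hdn : d < d * m := by nlinarith
  have hmn : m ≤ d * m := Nat.le_mul_of_pos_left m hd
  have hpd : ¬ p ∣ d := Nat.not_dvd_of_pos_of_lt hd (by omega)
  have hpa : ¬ p ∣ a := fun h => hprim d hd hdn (h.trans ha)
  have hpN : p ∣ N := hdiv.trans hN
  have hkey : ∀ t : ℕ, 2 ≤ t → p ∣ t ^ 2 - 1 → t ∣ s → t = s ∧ s = m ∧ d * m = m ∧ p = m + 1 := by
    intro t ht2 ht1 hts
    have h3 := prime_le_of_dvd_sq_sub_one hp ht2 ht1
    have h4 : t ≤ s := Nat.le_of_dvd hs0 hts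
    refine ⟨by omega, by omega, by omega, by omega⟩
  obtain ⟨t, ht2, ht1, hts⟩ := h5 p hp hpN hpd hpa
  obtain ⟨-, e2, e3, e4⟩ := hkey t ht2 ht1 hts
  refine ⟨?_, e2, e4, hpd, hpa, hpN, fun t ht2 ht1 hts => (hkey t ht2 ht1 hts).1⟩
  have : d * m = 1 * m := by rw [one_mul]; exact e3
  exact Nat.eq_of_mul_eq_mul_right (by omega) this

include hq hd hm hN ha ha0 hsm hs0 hsa h5 h6 h7 h8 in
theorem arith_main : q ^ (d * m) ∈ ({9, 25, 49, 121, 529, 81} : Set ℕ) := by
  have hs1 : s ≠ 1 := s_ne_one q d m s a N hq hd hm hN ha ha0 h7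
  have hq2 : 2 ≤ q := hq.two_le
  by_cases hn2 : d * m = 2
  · -- dimension two
    have hd1 : d = 1 := by
      rcases Nat.lt_or_ge d 2 with h | h
      · omega
      · have : 2 * 2 ≤ d * m := Nat.mul_le_mul h hm
        omega
    have hm2 : m = 2 := by rw [hd1, one_mul] at hn2; exact hn2
    have hs2 : s = 2 := by omega
    have h1 : q ^ (d * m) - 1 ∣ 24 * a := hN.trans (h8 hs2 hd1)
    rw [hd1, pow_one] at ha
    rw [hn2] at h1
    have h2 : 24 * a ∣ 24 * (q - 1) := Nat.mul_dvd_mul_left 24 ha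
    have h3 : q ^ 2 - 1 = (q - 1) * (q + 1) := by
      obtain ⟨u, rfl⟩ : ∃ u, q = u + 1 := ⟨q - 1, by omega⟩
      have : (u + 1) ^ 2 = (u + 1 - 1) * (u + 1 + 1) + 1 := by
        rw [Nat.add_sub_cancel]; ring
      omega
    have h4 : (q - 1) * (q + 1) ∣ (q - 1) * 24 := by
      rw [← h3, mul_comm (q - 1) 24]
      exact h1.trans h2
    have h5' : q + 1 ∣ 24 := Nat.dvd_of_mul_dvd_mul_left (by omega) h4
    have h6' : q + 1 ≤ 24 := Nat.le_of_dvd (by norm_num) h5'
    have h2a : 2 ∣ a := hsa 2 Nat.prime_two (by rw [hs2])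
    have h2q : 2 ∣ q - 1 := h2a.trans ha
    rw [hn2]
    have hq23 : q ≤ 23 := by omega
    interval_cases q <;> simp_all (config := {decide := true})
  · have hn3 : 3 ≤ d * m := by
      have : d * 2 ≤ d * m := Nat.mul_le_mul_left d hm
      omega
    by_cases h26 : q = 2 ∧ d * m = 6
    · -- the case `2 ^ 6`
      exfalso
      obtain ⟨rfl, hdm⟩ := h26
      have hd6 : d ∣ 6 := ⟨m, hdm.symm⟩
      have hdle : d ≤ 3 := by
        rcases Nat.lt_or_ge d 4 with h | h
        · omega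
        · have : 4 * 2 ≤ d * m := Nat.mul_le_mul h hm
          omega
      have hsprime : ∃ r : ℕ, r.Prime ∧ r ∣ s := Nat.exists_prime_and_dvd hs1
      obtain ⟨r, hr, hrs⟩ := hsprime
      have hra := hsa r hr hrs
      interval_cases d
      · -- d = 1
        have : a = 1 := by
          have := Nat.le_of_dvd (by norm_num) ha
          omega
        rw [this, Nat.dvd_one] at hra
        exact hr.one_lt.ne' hra
      · -- d = 2, m = 3
        have hm3 : m = 3 := by omega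
        have ha3 : a ∣ 3 := by simpa using ha
        have hr3 : r ∣ 3 := hra.trans ha3
        have hr3' : r = 3 := (Nat.prime_dvd_prime_iff_eq hr Nat.prime_three).mp hr3
        have hs3 : s = 3 := by
          have h3s : 3 ∣ s := hr3' ▸ hrs
          have := Nat.le_of_dvd hs0 h3s
          omega
        have h7N : 7 ∣ N := by
          refine Dvd.dvd.trans ?_ hN
          rw [hdm]; norm_num
        have h7a : ¬ 7 ∣ a := by
          intro h
          have := Nat.le_of_dvd (by norm_num) (h.trans ha3)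
          omega
        obtain ⟨t, ht2, ht1, hts⟩ := h5 7 (by norm_num) h7N (by norm_num) h7a
        rw [hs3] at hts
        have ht3 : t = 3 := by
          have := Nat.le_of_dvd (by norm_num) hts
          interval_cases t
          · omega
          · rfl
        rw [ht3] at ht1
        norm_num at ht1
      · -- d = 3, m = 2
        have hm2 : m = 2 := by omega
        have ha7 : a ∣ 7 := by simpa using ha
        have hr7 : r ∣ 7 := hra.trans ha7
        have hr7' : r = 7 := (Nat.prime_dvd_prime_iff_eq hr (by norm_num)).mp hr7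
        have := Nat.le_of_dvd hs0 (hr7' ▸ hrs)
        omega
    · -- Zsigmondy
      have hz := Cfsg.Agent.S2904.result q (d * m) (by omega) (by omega) h26
        (fun h => by omega)
      obtain ⟨r, hr, hrdiv, hrprim⟩ := hz
      obtain ⟨hd1, hsm', hrm, -, -, -, -⟩ := ppd_forces q d m s a N hq hd hm hN ha hsm hs0 h5 hr
        hrdiv hrprim
      rw [hd1, one_mul] at hn3 h26 hn2 ⊢
      rw [hd1, pow_one] at ha
      -- q is odd
      have hsprime : ∃ r : ℕ, r.Prime ∧ r ∣ s := Nat.exists_prime_and_dvd hs1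
      have hq2' : q ≠ 2 := by
        rintro rfl
        obtain ⟨r', hr', hrs'⟩ := hsprime
        have hra := hsa r' hr' hrs'
        have : a = 1 := by
          have := Nat.le_of_dvd (by norm_num) ha
          omega
        rw [this, Nat.dvd_one] at hra
        exact hr'.one_lt.ne' hra
      by_cases h34 : q = 3 ∧ m = 4
      · obtain ⟨rfl, rfl⟩ := h34
        norm_num
      exfalso
      have hex2 : ¬ (q = 2 ∧ (m = 4 ∨ m = 6 ∨ m = 10 ∨ m = 12 ∨ m = 18)) := fun h => hq2' h.1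
      have h3s : m = 6 → 3 ∣ a := by
        intro hm6
        apply hsa 3 Nat.prime_three
        rw [hsm', hm6]; norm_num
      have hex3 : ¬ (q = 3 ∧ (m = 4 ∨ m = 6)) := by
        rintro ⟨rfl, h | h⟩
        · exact h34 ⟨rfl, h⟩
        · have := (h3s h).trans ha
          norm_num at this
      have hex4 : ¬ (q = 5 ∧ m = 6) := by
        rintro ⟨rfl, h⟩
        have := (h3s h).trans ha
        norm_num at this
      obtain ⟨p, hp, hpdiv, hpprim, hpor⟩ := Cfsg.Agent.S3430.result q m hq2 hm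
        (fun h => by omega) hex2 hex3 hex4
      have hpprim' : ∀ i, 0 < i → i < d * m → ¬ p ∣ q ^ i - 1 := by
        intro i hi hi'
        rw [hd1, one_mul] at hi'
        exact hpprim i hi hi'
      have hpdiv' : p ∣ q ^ (d * m) - 1 := by rw [hd1, one_mul]; exact hpdiv
      obtain ⟨-, -, hpm, hpd, hpa, -, huniq⟩ := ppd_forces q d m s a N hq hd hm hN
        (by rw [hd1, pow_one]; exact ha) hsm hs0 h5 hp hpdiv' hpprim'
      rcases hpor with h | h
      · omega
      · have hpN : p ^ 2 ∣ N := by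
          refine Dvd.dvd.trans ?_ hN
          rw [hd1, one_mul]; exact h
        have h9 := h6 p hp hpN hpd hpa huniq
        rw [hsm', hpm] at h9
        have e : m ^ 2 - 1 = (m + 1) * (m - 1) := by
          obtain ⟨u, rfl⟩ : ∃ u, m = u + 1 := ⟨m - 1, by omega⟩
          have : (u + 1) ^ 2 = (u + 1 + 1) * (u + 1 - 1) + 1 := by
            rw [Nat.add_sub_cancel]; ring
          omega
        rw [e, sq] at h9
        have h10 : m + 1 ∣ m - 1 := Nat.dvd_of_mul_dvd_mul_left (by omega) h9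
        have := Nat.le_of_dvd (by omega) h10
        omega

end main

end Cfsg.Agent.Lib.Helper2.Htl
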