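import Cfsg.Agent.Lib.Helper2.Htl1

set_option autoImplicit false
set_option linter.style.haveILetI false

/-!
# The field structure attached to an abelian normal subgroup of a transitive linear group
-/

namespace Cfsg.Agent.Lib.Helper2.Htl

open Cfsg.Agent.Lib.Helper2.Zfp

universe u

variable {q : ℕ} [Fact q.Prime] {V : Type u} [AddCommGroup V] [Module (ZMod q) V]
  {G : Type*} [Group G]

variable {ρ : G →* (V ≃ₗ[ZMod q] V)} {A : Subgroup G}

theorem exists_field_structure [hA : A.Normal] [Finite V] [Nontrivial V]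
    (hcomm : ∀ a ∈ A, ∀ b ∈ A, a * b = b * a)
    (htrans : ∀ v w : V, v ≠ 0 → w ≠ 0 → ∃ g : G, ρ g v = w) :
    ∃ (F : Type u) (_ : Field F) (_ : Finite F) (_ : Module F V),
      (∀ a ∈ A, ∃ c : F, ∀ v : V, ρ a v = c • v) ∧
      (∀ (g : G) (c : F), ∃ c' : F, ∀ v : V, ρ g (c • v) = c' • ρ g v) ∧
      (∀ g : G, (∀ a ∈ A, g * a = a * g) → ∀ (c : F) (v : V), ρ g (c • v) = c • ρ g v) ∧
      (∀ W : Submodule (ZMod q) V, (∀ a ∈ A, ∀ v ∈ W, ρ a v ∈ W) →
        ∀ (c : F), ∀ v ∈ W, c • v ∈ W) := by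
  have hfield := adjAlg_isField hcomm htrans
  haveI : Finite (Module.End (ZMod q) V) :=
    Finite.of_injective (fun f => (f : V → V)) DFunLike.coe_injective
  haveI : Finite (adjAlg ρ A) := Subtype.finite
  have hsmul : ∀ (c : adjAlg ρ A) (v : V), c • v = (c : Module.End (ZMod q) V) v := fun _ _ => rfl
  refine ⟨adjAlg ρ A, hfield.toField, inferInstance, inferInstance, ?_, ?_, ?_, ?_⟩
  · intro a ha
    exact ⟨⟨rr ρ a, rr_mem_adjAlg ha⟩, fun v => rfl⟩
  · intro g c
    refine ⟨⟨_, conj_mem_adjAlg g c.2⟩, ?_⟩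
    intro v
    rw [hsmul, hsmul]
    show ρ g ((c : Module.End (ZMod q) V) v) =
      ρ g ((c : Module.End (ZMod q) V) (ρ g⁻¹ (ρ g v)))
    rw [rho_inv_apply]
  · intro g hg c v
    rw [hsmul, hsmul]
    have := adjAlg_commute_of_centralizes (ρ := ρ) hg c.2
    exact congrArg (fun F : Module.End (ZMod q) V => F v) this
  · intro W hW c v hv
    rw [hsmul]
    exact adjAlg_invariant hW c.2 v hv

end Cfsg.Agent.Lib.Helper2.Htl
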