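import Mathlib

set_option autoImplicit false
set_option linter.style.haveILetI false

/-!
# Nondegenerate alternating pairings on finite abelian groups
-/

namespace Cfsg.Agent.Lib.Helper2.Htl

section pairing

variable {X : Type*} [CommGroup X] [Finite X] {F : Type*} [CommRing F] [IsDomain F]
  (β : X →* (X →* Fˣ))

theorem pairing_skew (halt : ∀ x, β x x = 1) (x y : X) : β x y * β y x = 1 := by
  have h := halt (x * y)
  rw [map_mul (β (x * y)), map_mul β, MonoidHom.mul_apply, MonoidHom.mul_apply, halt x, halt y,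
    one_mul, mul_one, mul_comm] at h
  exact h

theorem pairing_skew' (halt : ∀ x, β x x = 1) {x y : X} (h : β x y = 1) : β y x = 1 := by
  have := pairing_skew β halt x y
  rwa [h, one_mul] at this

theorem card_eq_sq_of_pairing [HasEnoughRootsOfUnity F (Monoid.exponent X)]
    (hnd : Function.Injective β) (halt : ∀ x, β x x = 1) : ∃ s : ℕ, Nat.card X = s ^ 2 := by
  classical
  have hcard : Nat.card (X →* Fˣ) = Nat.card X :=
    CommGroup.card_monoidHom_of_hasEnoughRootsOfUnity X F
  have hbij : Function.Bijective β :=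
    (Nat.bijective_iff_injective_and_card β).mpr ⟨hnd, hcard.symm⟩
  let S : Set (Subgroup X) := {L | ∀ a ∈ L, ∀ b ∈ L, β a b = 1}
  have hS : S.Nonempty := by
    refine ⟨⊥, ?_⟩
    intro a ha b _
    rw [Subgroup.mem_bot] at ha
    rw [ha, map_one]; rfl
  obtain ⟨L, hL, hLmax⟩ := (Set.toFinite S).exists_maximal hS
  let ψ : X →* (L →* Fˣ) := (MonoidHom.domRestrictHom L Fˣ).comp β
  have hψ : ∀ (x : X) (l : L), ψ x l = β x l := fun _ _ => rfl
  have hψsurj : Function.Surjective ψ :=
    (MonoidHom.domRestrict_surjective (M := F) L).comp hbij.2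
  have hker : ψ.ker = L := by
    ext x
    rw [MonoidHom.mem_ker]
    constructor
    · intro hx
      have hx' : ∀ l ∈ L, β x l = 1 := by
        intro l hl
        have := DFunLike.congr_fun hx ⟨l, hl⟩
        rw [hψ] at this
        exact this
      have hML : ∀ l' ∈ L, L ⊔ Subgroup.zpowers x ≤ (β l').ker := by
        intro l' hl'
        apply sup_le
        · intro l hl
          rw [MonoidHom.mem_ker]
          exact hL l' hl' l hl
        · rw [Subgroup.zpowers_le, MonoidHom.mem_ker]
          exact pairing_skew' β halt (hx' l' hl')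
      have hMx : L ⊔ Subgroup.zpowers x ≤ (β x).ker := by
        apply sup_le
        · intro l hl
          rw [MonoidHom.mem_ker]
          exact hx' l hl
        · rw [Subgroup.zpowers_le, MonoidHom.mem_ker]
          exact halt x
      have hL' : L ⊔ Subgroup.zpowers x ∈ S := by
        intro a ha b hb
        have h1 : L ⊔ Subgroup.zpowers x ≤ (β a).ker := by
          apply sup_le
          · intro l hl
            rw [MonoidHom.mem_ker]
            apply pairing_skew' β halt
            exact MonoidHom.mem_ker.mp (hML l hl ha)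
          · rw [Subgroup.zpowers_le, MonoidHom.mem_ker]
            apply pairing_skew' β halt
            exact MonoidHom.mem_ker.mp (hMx ha)
        exact MonoidHom.mem_ker.mp (h1 hb)
      have := hLmax hL' le_sup_left
      exact this (Subgroup.mem_sup_right (Subgroup.mem_zpowers x))
    · intro hx
      apply MonoidHom.ext
      rintro ⟨l, hl⟩
      rw [hψ]
      exact hL x hx l hl
  haveI : HasEnoughRootsOfUnity F (Monoid.exponent L) :=
    HasEnoughRootsOfUnity.of_dvd F (Monoid.exponent_submonoid_dvd L.toSubmonoid)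
  have h1 : Nat.card ψ.ker * ψ.ker.index = Nat.card X := Subgroup.card_mul_index _
  have h2 : ψ.ker.index = Nat.card (L →* Fˣ) := by
    rw [Subgroup.index_ker, MonoidHom.range_eq_top.mpr hψsurj, Subgroup.card_top]
  have h3 : Nat.card (L →* Fˣ) = Nat.card L :=
    CommGroup.card_monoidHom_of_hasEnoughRootsOfUnity L F
  refine ⟨Nat.card L, ?_⟩
  rw [← h1, h2, h3, hker, sq]

theorem aut_of_pairing [HasEnoughRootsOfUnity F (Monoid.exponent X)]
    (hnd : Function.Injective β) (halt : ∀ x, β x x = 1)
    (φ : X ≃* X) (hφβ : ∀ x y, β (φ x) (φ y) = β x y) {p : ℕ} [hp : Fact p.Prime]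
    (hφp : ∀ x, φ^[p] x = x) (hpX : ¬ p ∣ Nat.card X) :
    ∃ t : ℕ, t ^ 2 * Nat.card {x : X // φ x = x} = Nat.card X ∧ p ∣ t ^ 2 - 1 ∧
      ((∃ x, φ x ≠ x) → 2 ≤ t) := by
  classical
  let θ : X →* X :=
    { toFun := fun x => φ x * x⁻¹
      map_one' := by simp
      map_mul' := fun x y => by
        rw [map_mul, mul_inv]
        exact mul_mul_mul_comm _ _ _ _ }
  have hθ : ∀ x, θ x = φ x * x⁻¹ := fun _ => rfl
  have hker : ∀ x, x ∈ θ.ker ↔ φ x = x := by
    intro x
    rw [MonoidHom.mem_ker, hθ]
    exact mul_inv_eq_one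
  -- the kernel and the range meet trivially
  have hdisj : ∀ y, y ∈ θ.ker → y ∈ θ.range → y = 1 := by
    rintro y hy1 ⟨x, hx⟩
    have hφy : φ y = y := (hker y).mp hy1
    have hφx : φ x = x * y := by
      rw [← hx, hθ, mul_comm (φ x), ← mul_assoc, mul_inv_cancel, one_mul]
    have hit : ∀ k : ℕ, φ^[k] x = x * y ^ k := by
      intro k
      induction k with
      | zero => simp
      | succ k ih =>
        rw [Function.iterate_succ_apply', ih, map_mul, map_pow, hφx, hφy, pow_succ, mul_assoc,
          mul_comm y]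
    have h1 : y ^ p = 1 := by
      have := hit p
      rw [hφp] at this
      exact (left_eq_mul).mp this
    have h2 : orderOf y ∣ p := orderOf_dvd_of_pow_eq_one h1
    have h3 : orderOf y ∣ Nat.card X := orderOf_dvd_natCard y
    rcases (Nat.dvd_prime hp.out).mp h2 with h | h
    · exact orderOf_eq_one_iff.mp h
    · exact absurd (h ▸ h3) hpX
  have hcardX : Nat.card θ.ker * Nat.card θ.range = Nat.card X := by
    rw [← Subgroup.index_ker]
    exact Subgroup.card_mul_index _
  have hsup : θ.ker ⊔ θ.range = ⊤ := by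
    apply Subgroup.IsComplement'.sup_eq_top
    apply Subgroup.isComplement'_of_card_mul_and_disjoint hcardX
    rw [Subgroup.disjoint_def]
    intro y h1 h2
    exact hdisj y h1 h2
  -- the kernel is orthogonal to the range
  have horth : ∀ f ∈ θ.ker, ∀ y ∈ θ.range, β f y = 1 := by
    rintro f hf _ ⟨x, rfl⟩
    have hφf : φ f = f := (hker f).mp hf
    rw [hθ, map_mul, map_inv]
    have : β f (φ x) = β f x := by
      conv_lhs => rw [← hφf]
      exact hφβ f x
    rw [this, mul_inv_cancel]
  -- the pairing on the range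
  let Y : Subgroup X := θ.range
  let βY : Y →* (Y →* Fˣ) := ((MonoidHom.domRestrictHom Y Fˣ).comp β).comp Y.subtype
  have hβY : ∀ a b : Y, βY a b = β a b := fun _ _ => rfl
  have hndY : Function.Injective βY := by
    rw [injective_iff_map_eq_one]
    intro y hy
    have hy' : ∀ y' ∈ Y, β (y : X) y' = 1 := by
      intro y' hy'
      have := DFunLike.congr_fun hy ⟨y', hy'⟩
      rw [hβY] at this
      exact this
    have : β (y : X) = 1 := by
      apply MonoidHom.ext
      intro x
      have hx : x ∈ θ.ker ⊔ θ.range := by rw [hsup]; exact Subgroup.mem_top x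
      obtain ⟨f, hf, y', hy'2, rfl⟩ := Subgroup.mem_sup.mp hx
      rw [map_mul, hy' y' hy'2, mul_one]
      exact pairing_skew' β halt (horth f hf y y.2)
    have h1 : (y : X) = 1 := hnd (by rw [this, map_one])
    exact Subtype.ext h1
  have haltY : ∀ y : Y, βY y y = 1 := fun y => halt y
  haveI : HasEnoughRootsOfUnity F (Monoid.exponent Y) :=
    HasEnoughRootsOfUnity.of_dvd F (Monoid.exponent_submonoid_dvd Y.toSubmonoid)
  obtain ⟨t, ht⟩ := card_eq_sq_of_pairing βY hndY haltY
  -- the action on the range
  have hφY : ∀ y ∈ Y, φ y ∈ Y := by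
    rintro _ ⟨x, rfl⟩
    refine ⟨φ x, ?_⟩
    rw [hθ, hθ, map_mul, map_inv]
  let f : Function.End Y := fun y => ⟨φ y, hφY y y.2⟩
  have hf : ∀ (k : ℕ) (y : Y), ((f^[k] y : Y) : X) = φ^[k] y := by
    intro k
    induction k with
    | zero => intro y; rfl
    | succ k ih =>
      intro y
      rw [Function.iterate_succ_apply', Function.iterate_succ_apply', ← ih]
  have hfp : f ^ p ^ 1 = 1 := by
    rw [pow_one]
    funext y
    apply Subtype.ext
    show ((f^[p] y : Y) : X) = y
    rw [hf, hφp]
  haveI : Fintype Y := Fintype.ofFinite Y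
  have hmod := Equiv.Perm.card_fixedPoints_modEq (f := f) hfp
  have hfix : Fintype.card (Function.fixedPoints f) = 1 := by
    rw [Fintype.card_eq_one_iff]
    refine ⟨⟨1, ?_⟩, ?_⟩
    · show f 1 = 1
      apply Subtype.ext
      show φ ((1 : Y) : X) = ((1 : Y) : X)
      rw [Subgroup.coe_one, map_one]
    · rintro ⟨y, hy⟩
      apply Subtype.ext
      apply Subtype.ext
      show (y : X) = 1
      apply hdisj y _ y.2
      rw [hker]
      have := congrArg (fun z : Y => (z : X)) hy
      exact this
  rw [hfix, ← Nat.card_eq_fintype_card] at hmod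
  have hY : Nat.card Y = t ^ 2 := ht
  have hYpos : 0 < Nat.card Y := Nat.card_pos
  refine ⟨t, ?_, ?_, ?_⟩
  · rw [← hcardX, ← hY, mul_comm]
    congr 1
    exact Nat.card_congr (Equiv.subtypeEquivRight fun x => (hker x).symm)
  · rw [← hY]
    exact (Nat.modEq_iff_dvd' hYpos).mp hmod.symm
  · rintro ⟨x, hx⟩
    by_contra hlt
    have ht1 : t ^ 2 ≤ 1 := by
      have : t ≤ 1 := by omega
      calc t ^ 2 ≤ 1 ^ 2 := Nat.pow_le_pow_left this 2
        _ = 1 := one_pow 2
    have hY1 : Nat.card Y = 1 := by omega
    have : (⟨θ x, ⟨x, rfl⟩⟩ : Y) = 1 := by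
      haveI : Subsingleton Y := (Nat.card_eq_one_iff_unique.mp hY1).1
      exact Subsingleton.elim _ _
    have h1 : θ x = 1 := congrArg (fun z : Y => (z : X)) this
    rw [hθ, mul_inv_eq_one] at h1
    exact hx h1

end pairing

end Cfsg.Agent.Lib.Helper2.Htl
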