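import Cfsg.Agent.Lib.Helper2.Htl3

set_option autoImplicit false
set_option linter.style.haveILetI false

/-!
# Groups of class two with cyclic centre: the commutator pairing
-/

namespace Cfsg.Agent.Lib.Helper2.Htl

open scoped commutatorElement

section classtwo

variable {H : Type*} [Group H] (Z : Subgroup H)

theorem normal_of_central (hZc : ∀ z ∈ Z, ∀ h : H, z * h = h * z) : Z.Normal := by
  refine ⟨fun z hz h => ?_⟩
  have : h * z * h⁻¹ = z := by rw [← hZc z hz h, mul_inv_cancel_right]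
  rw [this]; exact hz

/-- the quotient is commutative -/
@[reducible] def quotCommGroup [Z.Normal] (hcl : ∀ x y : H, ⁅x, y⁆ ∈ Z) : CommGroup (H ⧸ Z) :=
  { (inferInstance : Group (H ⧸ Z)) with
    mul_comm := by
      intro a b
      induction a using QuotientGroup.induction_on with
      | H x =>
        induction b using QuotientGroup.induction_on with
        | H y =>
          rw [← QuotientGroup.mk_mul, ← QuotientGroup.mk_mul, QuotientGroup.eq]
          have : (x * y)⁻¹ * (y * x) = ⁅y⁻¹, x⁻¹⁆ := by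
            rw [commutatorElement_def]; group
          rw [this]
          exact hcl _ _ }

/-- the hypotheses: central, with abelian quotient -/
structure ClassTwo : Prop where
  central : ∀ z ∈ Z, ∀ h : H, z * h = h * z
  comm_mem : ∀ x y : H, ⁅x, y⁆ ∈ Z

variable {Z}

theorem ClassTwo.comm_mul_right (hc : ClassTwo Z) (x y y' : H) :
    ⁅x, y * y'⁆ = ⁅x, y⁆ * ⁅x, y'⁆ := by
  have h1 : ⁅x, y * y'⁆ = x * y * x⁻¹ * ⁅x, y'⁆ * y⁻¹ := by
    simp only [commutatorElement_def]; group
  have h2 := hc.central ⁅x, y'⁆ (hc.comm_mem x y') y⁻¹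
  rw [h1, mul_assoc, h2, ← mul_assoc]
  simp only [commutatorElement_def]

theorem ClassTwo.comm_mul_left (hc : ClassTwo Z) (x x' y : H) :
    ⁅x * x', y⁆ = ⁅x, y⁆ * ⁅x', y⁆ := by
  have h1 : ⁅x * x', y⁆ = x * ⁅x', y⁆ * y * x⁻¹ * y⁻¹ := by
    simp only [commutatorElement_def]; group
  have h2 := hc.central ⁅x', y⁆ (hc.comm_mem x' y) x
  rw [h1, ← h2]
  have h3 := hc.central ⁅x', y⁆ (hc.comm_mem x' y) (x * y * x⁻¹ * y⁻¹)
  calc ⁅x', y⁆ * x * y * x⁻¹ * y⁻¹ = ⁅x', y⁆ * (x * y * x⁻¹ * y⁻¹) := by group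
    _ = (x * y * x⁻¹ * y⁻¹) * ⁅x', y⁆ := h3
    _ = ⁅x, y⁆ * ⁅x', y⁆ := by rw [commutatorElement_def x y]

theorem ClassTwo.comm_central (hc : ClassTwo Z) (x : H) {z : H} (hz : z ∈ Z) : ⁅x, z⁆ = 1 := by
  rw [commutatorElement_eq_one_iff_mul_comm]
  exact (hc.central z hz x).symm

variable {F : Type*} [Field F] (χ : Z →* Fˣ)

/-- the commutator character of an element -/
def beta1 (hc : ClassTwo Z) (x : H) : H →* Fˣ where
  toFun y := χ ⟨⁅x, y⁆, hc.comm_mem x y⟩
  map_one' := by
    have : (⟨⁅x, 1⁆, hc.comm_mem x 1⟩ : Z) = 1 := by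
      apply Subtype.ext
      show ⁅x, (1 : H)⁆ = 1
      rw [commutatorElement_def]; group
    rw [this, map_one]
  map_mul' y y' := by
    rw [← map_mul]
    congr 1
    apply Subtype.ext
    exact hc.comm_mul_right x y y'

theorem beta1_apply (hc : ClassTwo Z) (x y : H) :
    beta1 χ hc x y = χ ⟨⁅x, y⁆, hc.comm_mem x y⟩ := rfl

variable [Z.Normal]

/-- the commutator character of an element on the quotient -/
def beta2 (hc : ClassTwo Z) (x : H) : H ⧸ Z →* Fˣ :=
  QuotientGroup.lift Z (beta1 χ hc x) (by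
    intro z hz
    rw [MonoidHom.mem_ker, beta1_apply]
    have : (⟨⁅x, z⁆, hc.comm_mem x z⟩ : Z) = 1 := Subtype.ext (hc.comm_central x hz)
    rw [this, map_one])

theorem beta2_mk (hc : ClassTwo Z) (x y : H) :
    beta2 χ hc x (y : H ⧸ Z) = χ ⟨⁅x, y⁆, hc.comm_mem x y⟩ := rfl

/-- the commutator pairing, first variable upstairs -/
def beta3 (hc : ClassTwo Z) : H →* (H ⧸ Z →* Fˣ) where
  toFun x := beta2 χ hc x
  map_one' := by
    apply MonoidHom.ext
    intro a
    induction a using QuotientGroup.induction_on with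
    | H y =>
      rw [beta2_mk]
      have : (⟨⁅(1 : H), y⁆, hc.comm_mem 1 y⟩ : Z) = 1 := by
        apply Subtype.ext
        show ⁅(1 : H), y⁆ = 1
        rw [commutatorElement_def]; group
      rw [this, map_one]; rfl
  map_mul' x x' := by
    apply MonoidHom.ext
    intro a
    induction a using QuotientGroup.induction_on with
    | H y =>
      rw [MonoidHom.mul_apply, beta2_mk, beta2_mk, beta2_mk, ← map_mul]
      congr 1
      apply Subtype.ext
      exact hc.comm_mul_left x x' y

/-- the commutator pairing -/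
def beta (hc : ClassTwo Z) : H ⧸ Z →* (H ⧸ Z →* Fˣ) :=
  QuotientGroup.lift Z (beta3 χ hc) (by
    intro z hz
    rw [MonoidHom.mem_ker]
    apply MonoidHom.ext
    intro a
    induction a using QuotientGroup.induction_on with
    | H y =>
      show beta2 χ hc z (y : H ⧸ Z) = 1
      rw [beta2_mk]
      have : (⟨⁅z, y⁆, hc.comm_mem z y⟩ : Z) = 1 := by
        apply Subtype.ext
        show ⁅z, y⁆ = 1
        rw [commutatorElement_eq_one_iff_mul_comm]
        exact hc.central z hz y
      rw [this, map_one])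

theorem beta_mk (hc : ClassTwo Z) (x y : H) :
    beta χ hc (x : H ⧸ Z) (y : H ⧸ Z) = χ ⟨⁅x, y⁆, hc.comm_mem x y⟩ := rfl

theorem beta_alt (hc : ClassTwo Z) (a : H ⧸ Z) : beta χ hc a a = 1 := by
  induction a using QuotientGroup.induction_on with
  | H x =>
    rw [beta_mk]
    have : (⟨⁅x, x⁆, hc.comm_mem x x⟩ : Z) = 1 := by
      apply Subtype.ext
      show ⁅x, x⁆ = 1
      rw [commutatorElement_def]; group
    rw [this, map_one]

theorem beta_injective (hc : ClassTwo Z)
    (hcen : ∀ x : H, (∀ y : H, x * y = y * x) → x ∈ Z) (hχ : Function.Injective χ) :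
    Function.Injective (beta χ hc) := by
  rw [injective_iff_map_eq_one]
  intro a ha
  induction a using QuotientGroup.induction_on with
  | H x =>
    rw [QuotientGroup.eq_one_iff]
    apply hcen
    intro y
    have h1 : beta χ hc (x : H ⧸ Z) (y : H ⧸ Z) = 1 := by rw [ha]; rfl
    rw [beta_mk] at h1
    have h2 : (⟨⁅x, y⁆, hc.comm_mem x y⟩ : Z) = 1 := hχ (by rw [h1, map_one])
    have h3 : ⁅x, y⁆ = 1 := congrArg Subtype.val h2
    exact commutatorElement_eq_one_iff_mul_comm.mp h3

end classtwo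

end Cfsg.Agent.Lib.Helper2.Htl
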