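import Cfsg.Agent.Lib.Helper2.Htl4

set_option autoImplicit false
set_option linter.style.haveILetI false

/-!
# Groups of class two with cyclic centre: index of the centre, coprime automorphisms
-/

namespace Cfsg.Agent.Lib.Helper2.Htl

open scoped commutatorElement

section classtwo

variable {H : Type*} [Group H] [Finite H] {Z : Subgroup H} {F : Type*} [Field F] (χ : Z →* Fˣ)

theorem hasEnough_of_injective (hχ : Function.Injective χ) :
    HasEnoughRootsOfUnity F (Nat.card Z) := by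
  haveI : NeZero (Nat.card Z) := ⟨Nat.card_pos.ne'⟩
  apply HasEnoughRootsOfUnity.of_card_le
  let ι : Z → rootsOfUnity (Nat.card Z) F := fun z =>
    ⟨χ z, by rw [mem_rootsOfUnity, ← map_pow, pow_card_eq_one', map_one]⟩
  have hι : Function.Injective ι := by
    intro z z' h
    apply hχ
    exact congrArg Subtype.val h
  exact Nat.card_le_card_of_injective ι hι

theorem exponent_quot_dvd [Z.Normal] (hc : ClassTwo Z)
    (hcen : ∀ x : H, (∀ y : H, x * y = y * x) → x ∈ Z) (hχ : Function.Injective χ) :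
    Monoid.exponent (H ⧸ Z) ∣ Nat.card Z := by
  apply Monoid.exponent_dvd_of_forall_pow_eq_one
  intro a
  apply beta_injective χ hc hcen hχ
  rw [map_pow, map_one]
  apply MonoidHom.ext
  intro b
  rw [MonoidHom.pow_apply, MonoidHom.one_apply]
  induction a using QuotientGroup.induction_on with
  | H x =>
    induction b using QuotientGroup.induction_on with
    | H y =>
      rw [beta_mk, ← map_pow, pow_card_eq_one', map_one]

theorem classTwo_prime_dvd (hc : ClassTwo Z)
    (hcen : ∀ x : H, (∀ y : H, x * y = y * x) → x ∈ Z) (hχ : Function.Injective χ)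
    {r : ℕ} (hr : r.Prime) (hdvd : r ∣ Z.index) : r ∣ Nat.card Z := by
  haveI := normal_of_central Z hc.central
  haveI : Fact r.Prime := ⟨hr⟩
  rw [Subgroup.index_eq_card] at hdvd
  obtain ⟨a, ha⟩ := exists_prime_orderOf_dvd_card' (G := H ⧸ Z) r hdvd
  have h1 : orderOf a ∣ Monoid.exponent (H ⧸ Z) := Monoid.order_dvd_exponent a
  rw [ha] at h1
  exact h1.trans (exponent_quot_dvd χ hc hcen hχ)

theorem classTwo_index_sq (hc : ClassTwo Z)
    (hcen : ∀ x : H, (∀ y : H, x * y = y * x) → x ∈ Z) (hχ : Function.Injective χ) :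
    ∃ s : ℕ, Z.index = s ^ 2 := by
  haveI := normal_of_central Z hc.central
  letI := quotCommGroup Z hc.comm_mem
  haveI : NeZero (Nat.card Z) := ⟨Nat.card_pos.ne'⟩
  haveI := hasEnough_of_injective χ hχ
  haveI : HasEnoughRootsOfUnity F (Monoid.exponent (H ⧸ Z)) :=
    HasEnoughRootsOfUnity.of_dvd F (exponent_quot_dvd χ hc hcen hχ)
  rw [Subgroup.index_eq_card]
  exact card_eq_sq_of_pairing (beta χ hc) (beta_injective χ hc hcen hχ) (beta_alt χ hc)

theorem classTwo_aut (hc : ClassTwo Z)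
    (hcen : ∀ x : H, (∀ y : H, x * y = y * x) → x ∈ Z) (hχ : Function.Injective χ)
    (φ : H ≃* H) (hφZ : ∀ z ∈ Z, φ z = z) {p : ℕ} [hp : Fact p.Prime]
    (hφp : ∀ h, φ^[p] h = h) (hpZ : ¬ p ∣ Nat.card Z) :
    ∃ t : ℕ, p ∣ t ^ 2 - 1 ∧ t ^ 2 ∣ Z.index ∧ ((∃ h, φ h * h⁻¹ ∉ Z) → 2 ≤ t) ∧
      (t ^ 2 = Z.index → ∀ h, φ h * h⁻¹ ∈ Z → h ∈ Z) := by
  haveI := normal_of_central Z hc.central
  letI := quotCommGroup Z hc.comm_mem
  haveI : NeZero (Nat.card Z) := ⟨Nat.card_pos.ne'⟩
  haveI := hasEnough_of_injective χ hχ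
  haveI : HasEnoughRootsOfUnity F (Monoid.exponent (H ⧸ Z)) :=
    HasEnoughRootsOfUnity.of_dvd F (exponent_quot_dvd χ hc hcen hχ)
  have hmap : Z.map (φ : H →* H) = Z := by
    ext h
    rw [Subgroup.mem_map]
    constructor
    · rintro ⟨z, hz, rfl⟩
      show φ z ∈ Z
      rw [hφZ z hz]; exact hz
    · intro hh
      exact ⟨h, hh, hφZ h hh⟩
  let φ' : H ⧸ Z ≃* H ⧸ Z := QuotientGroup.congr Z Z φ hmap
  have hφ' : ∀ x : H, φ' (x : H ⧸ Z) = ((φ x : H) : H ⧸ Z) := fun _ => rfl
  have hφβ : ∀ a b, beta χ hc (φ' a) (φ' b) = beta χ hc a b := by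
    intro a b
    induction a using QuotientGroup.induction_on with
    | H x =>
      induction b using QuotientGroup.induction_on with
      | H y =>
        rw [hφ', hφ', beta_mk, beta_mk]
        congr 1
        apply Subtype.ext
        show ⁅φ x, φ y⁆ = ⁅x, y⁆
        rw [← map_commutatorElement]
        exact hφZ _ (hc.comm_mem x y)
  have hit : ∀ (k : ℕ) (x : H), φ'^[k] (x : H ⧸ Z) = ((φ^[k] x : H) : H ⧸ Z) := by
    intro k
    induction k with
    | zero => intro x; rfl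
    | succ k ih =>
      intro x
      rw [Function.iterate_succ_apply', Function.iterate_succ_apply', ih, hφ']
  have hφ'p : ∀ a, φ'^[p] a = a := by
    intro a
    induction a using QuotientGroup.induction_on with
    | H x => rw [hit, hφp]
  have hpX : ¬ p ∣ Nat.card (H ⧸ Z) := by
    intro h
    apply hpZ
    rw [← Subgroup.index_eq_card] at h
    exact classTwo_prime_dvd χ hc hcen hχ hp.out h
  obtain ⟨t, h1, h2, h3⟩ := aut_of_pairing (beta χ hc) (beta_injective χ hc hcen hχ)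
    (beta_alt χ hc) φ' hφβ hφ'p hpX
  have hfix : ∀ x : H, φ' (x : H ⧸ Z) = (x : H ⧸ Z) ↔ φ x * x⁻¹ ∈ Z := by
    intro x
    rw [hφ', ← QuotientGroup.eq_one_iff, QuotientGroup.mk_mul, QuotientGroup.mk_inv,
      mul_inv_eq_one]
  refine ⟨t, h2, ?_, ?_, ?_⟩
  · rw [Subgroup.index_eq_card, ← h1]
    exact dvd_mul_right _ _
  · rintro ⟨h, hh⟩
    apply h3
    refine ⟨(h : H ⧸ Z), ?_⟩
    rw [Ne, hfix]
    exact hh
  · intro ht h hh
    rw [Subgroup.index_eq_card] at ht
    rw [ht] at h1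
    have hpos : 0 < Nat.card (H ⧸ Z) := Nat.card_pos
    have h4 : Nat.card {x : H ⧸ Z // φ' x = x} = 1 := by
      have := Nat.eq_of_mul_eq_mul_left hpos (h1.trans (mul_one _).symm)
      exact this
    have h5 : (⟨(h : H ⧸ Z), (hfix h).mpr hh⟩ : {x : H ⧸ Z // φ' x = x}) =
        ⟨1, map_one φ'⟩ := by
      haveI : Subsingleton {x : H ⧸ Z // φ' x = x} := (Nat.card_eq_one_iff_unique.mp h4).1
      exact Subsingleton.elim _ _
    have h6 : (h : H ⧸ Z) = 1 := congrArg Subtype.val h5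
    exact (QuotientGroup.eq_one_iff h).mp h6

end classtwo

end Cfsg.Agent.Lib.Helper2.Htl
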