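import Mathlib

set_option autoImplicit false
set_option linter.style.haveILetI false

/-!
# A maximal abelian normal subgroup and a maximal class-two normal subgroup above it
-/

namespace Cfsg.Agent.Lib.Helper2.Htl

open scoped commutatorElement

variable {G : Type*} [Group G]

theorem exists_max_abelian_normal [Finite G] :
    ∃ A : Subgroup G, A.Normal ∧ (∀ a ∈ A, ∀ b ∈ A, a * b = b * a) ∧
      ∀ A' : Subgroup G, A'.Normal → (∀ a ∈ A', ∀ b ∈ A', a * b = b * a) → A ≤ A' → A' ≤ A := by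
  let S : Set (Subgroup G) := {A | A.Normal ∧ ∀ a ∈ A, ∀ b ∈ A, a * b = b * a}
  have hS : S.Nonempty := by
    refine ⟨⊥, inferInstance, ?_⟩
    intro a ha b hb
    rw [Subgroup.mem_bot] at ha hb
    rw [ha, hb]
  obtain ⟨A, ⟨hAn, hAc⟩, hAmax⟩ := (Set.toFinite S).exists_maximal hS
  exact ⟨A, hAn, hAc, fun A' h1 h2 h3 => hAmax ⟨h1, h2⟩ h3⟩

theorem comm_mul_left_gen (g g' b : G) : ⁅g * g', b⁆ = g * ⁅g', b⁆ * g⁻¹ * ⁅g, b⁆ := by
  simp only [commutatorElement_def]; group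

theorem comm_inv_left_gen (g b : G) : ⁅g⁻¹, b⁆ = g⁻¹ * ⁅g, b⁆⁻¹ * g := by
  simp only [commutatorElement_def]; group

theorem comm_conj_left_gen (x g b : G) : ⁅x * g * x⁻¹, b⁆ = x * ⁅g, x⁻¹ * b * x⁆ * x⁻¹ := by
  simp only [commutatorElement_def]; group

theorem comm_mul_of_commute {b m b' m' : G} (h1 : Commute m b) (h2 : Commute m b')
    (h3 : Commute m' b) (h4 : Commute m' b') : ⁅b * m, b' * m'⁆ = ⁅b, b'⁆ * ⁅m, m'⁆ := by
  have c1 : Commute (m * m') b⁻¹ := (h1.mul_left h3).inv_right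
  have c2 : Commute (m * m' * m⁻¹) b'⁻¹ := ((h2.mul_left h4).mul_left h2.inv_left).inv_right
  simp only [commutatorElement_def, mul_inv_rev]
  calc b * m * (b' * m') * (m⁻¹ * b⁻¹) * (m'⁻¹ * b'⁻¹)
      = b * (m * b') * m' * (m⁻¹ * b⁻¹) * (m'⁻¹ * b'⁻¹) := by group
    _ = b * (b' * m) * m' * (b⁻¹ * m⁻¹) * (b'⁻¹ * m'⁻¹) := by
        rw [h2.eq, h1.inv_inv.eq, h4.inv_inv.eq]
    _ = b * b' * ((m * m') * b⁻¹) * m⁻¹ * b'⁻¹ * m'⁻¹ := by group
    _ = b * b' * (b⁻¹ * (m * m')) * m⁻¹ * b'⁻¹ * m'⁻¹ := by rw [c1.eq]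
    _ = b * b' * b⁻¹ * ((m * m' * m⁻¹) * b'⁻¹) * m'⁻¹ := by group
    _ = b * b' * b⁻¹ * (b'⁻¹ * (m * m' * m⁻¹)) * m'⁻¹ := by rw [c2.eq]
    _ = (b * b' * b⁻¹ * b'⁻¹) * (m * m' * m⁻¹ * m'⁻¹) := by group

/-- the elements of the centralizer of `A` acting trivially on `B` modulo `A` -/
def trivModSubgroup (A B : Subgroup G) [hA : A.Normal] : Subgroup G where
  carrier := {g | g ∈ Subgroup.centralizer (A : Set G) ∧ ∀ b ∈ B, ⁅g, b⁆ ∈ A}
  one_mem' := by
    refine ⟨Subgroup.one_mem _, fun b _ => ?_⟩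
    have : ⁅(1 : G), b⁆ = 1 := by rw [commutatorElement_def]; group
    rw [this]; exact A.one_mem
  mul_mem' := by
    rintro g g' ⟨hg, hgb⟩ ⟨hg', hgb'⟩
    refine ⟨Subgroup.mul_mem _ hg hg', fun b hb => ?_⟩
    rw [comm_mul_left_gen]
    exact A.mul_mem (hA.conj_mem _ (hgb' b hb) g) (hgb b hb)
  inv_mem' := by
    rintro g ⟨hg, hgb⟩
    refine ⟨Subgroup.inv_mem _ hg, fun b hb => ?_⟩
    rw [comm_inv_left_gen]
    have := hA.conj_mem _ (A.inv_mem (hgb b hb)) g⁻¹
    rwa [inv_inv] at this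

theorem mem_trivModSubgroup {A B : Subgroup G} [hA : A.Normal] {g : G} :
    g ∈ trivModSubgroup A B ↔ g ∈ Subgroup.centralizer (A : Set G) ∧ ∀ b ∈ B, ⁅g, b⁆ ∈ A :=
  Iff.rfl

theorem trivModSubgroup_normal (A B : Subgroup G) [hA : A.Normal] [hB : B.Normal] :
    (trivModSubgroup A B).Normal := by
  refine ⟨fun g hg x => ?_⟩
  obtain ⟨hg1, hg2⟩ := mem_trivModSubgroup.mp hg
  rw [mem_trivModSubgroup]
  refine ⟨(Subgroup.normal_centralizer (H := A)).conj_mem g hg1 x, fun b hb => ?_⟩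
  rw [comm_conj_left_gen]
  apply hA.conj_mem
  apply hg2
  have := hB.conj_mem b hb x⁻¹
  rwa [inv_inv] at this

variable [Finite G]

set_option maxHeartbeats 800000 in
theorem exists_classTwo_normal (hsol : Group.IsSolvable G) (A : Subgroup G) [hA : A.Normal]
    (hAc : ∀ a ∈ A, ∀ b ∈ A, a * b = b * a)
    (hAmax : ∀ A' : Subgroup G, A'.Normal → (∀ a ∈ A', ∀ b ∈ A', a * b = b * a) →
      A ≤ A' → A' ≤ A) :
    ∃ B : Subgroup G, B.Normal ∧ A ≤ B ∧ B ≤ Subgroup.centralizer (A : Set G) ∧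
      (∀ x ∈ B, ∀ y ∈ B, ⁅x, y⁆ ∈ A) ∧
      (∀ x ∈ B, (∀ y ∈ B, x * y = y * x) → x ∈ A) ∧
      (∀ g : G, (∀ b ∈ B, g * b = b * g) → g ∈ A) ∧
      (∀ g ∈ Subgroup.centralizer (A : Set G), (∀ b ∈ B, ⁅g, b⁆ ∈ A) → g ∈ B) := by
  classical
  have hAC : A ≤ Subgroup.centralizer (A : Set G) := by
    intro a ha
    rw [Subgroup.mem_centralizer_iff]
    intro b hb
    exact hAc b hb a ha
  let S : Set (Subgroup G) := {B | B.Normal ∧ A ≤ B ∧ B ≤ Subgroup.centralizer (A : Set G) ∧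
    ∀ x ∈ B, ∀ y ∈ B, ⁅x, y⁆ ∈ A}
  have hS : S.Nonempty := by
    refine ⟨A, hA, le_rfl, hAC, ?_⟩
    intro x hx y hy
    have : ⁅x, y⁆ = 1 := commutatorElement_eq_one_iff_mul_comm.mpr (hAc x hx y hy)
    rw [this]; exact A.one_mem
  obtain ⟨B, ⟨hBn, hAB, hBC, hBB⟩, hBmax⟩ := (Set.toFinite S).exists_maximal hS
  haveI := hBn
  -- the centre of `B`
  have hcen : ∀ x ∈ B, (∀ y ∈ B, x * y = y * x) → x ∈ A := by
    intro x hx hxy
    let Zb : Subgroup G := B ⊓ Subgroup.centralizer (B : Set G)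
    have hZn : Zb.Normal := inferInstance
    have hZc : ∀ a ∈ Zb, ∀ b ∈ Zb, a * b = b * a := by
      intro a ha b hb
      obtain ⟨ha1, ha2⟩ := Subgroup.mem_inf.mp ha
      obtain ⟨hb1, hb2⟩ := Subgroup.mem_inf.mp hb
      rw [Subgroup.mem_centralizer_iff] at hb2
      exact hb2 a ha1
    have hAZ : A ≤ Zb := by
      intro a ha
      apply Subgroup.mem_inf.mpr
      refine ⟨hAB ha, ?_⟩
      rw [Subgroup.mem_centralizer_iff]
      intro b hb
      have := hBC hb
      rw [Subgroup.mem_centralizer_iff] at this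
      exact (this a ha).symm
    apply hAmax Zb hZn hZc hAZ
    apply Subgroup.mem_inf.mpr
    refine ⟨hx, ?_⟩
    rw [Subgroup.mem_centralizer_iff]
    intro y hy
    exact (hxy y hy).symm
  -- the centralizer of `B`
  have hcent : ∀ g : G, (∀ b ∈ B, g * b = b * g) → g ∈ A := by
    have hDn : (Subgroup.centralizer (B : Set G)).Normal := Subgroup.normal_centralizer
    have hDC : Subgroup.centralizer (B : Set G) ≤ Subgroup.centralizer (A : Set G) :=
      Subgroup.centralizer_le (by exact_mod_cast hAB)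
    obtain ⟨k, hk⟩ := (Group.isSolvable_def G).mp hsol
    have step : ∀ i : ℕ, Subgroup.centralizer (B : Set G) ⊓ derivedSeries G (i + 1) ≤ A →
        Subgroup.centralizer (B : Set G) ⊓ derivedSeries G i ≤ A := by
      intro i hi
      haveI : (derivedSeries G i).Normal := derivedSeries_normal G i
      have hMn : (Subgroup.centralizer (B : Set G) ⊓ derivedSeries G i).Normal := inferInstance
      have hB' : B ⊔ (Subgroup.centralizer (B : Set G) ⊓ derivedSeries G i) ∈ S := by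
        refine ⟨inferInstance, hAB.trans le_sup_left, sup_le hBC (inf_le_left.trans hDC), ?_⟩
        intro x hx y hy
        rw [← SetLike.mem_coe, Subgroup.mul_normal] at hx hy
        obtain ⟨b, hb, m, hm, rfl⟩ := Set.mem_mul.1 hx
        obtain ⟨b', hb', m', hm', rfl⟩ := Set.mem_mul.1 hy
        obtain ⟨hmD, hmd⟩ := Subgroup.mem_inf.mp hm
        obtain ⟨hm'D, hm'd⟩ := Subgroup.mem_inf.mp hm'
        have hmD' := Subgroup.mem_centralizer_iff.mp hmD
        have hm'D' := Subgroup.mem_centralizer_iff.mp hm'D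
        have e1 : Commute m b' := (hmD' b' hb').symm
        have e2 : Commute m' b := (hm'D' b hb).symm
        have e3 : Commute m b := (hmD' b hb).symm
        have e4 : Commute m' b' := (hm'D' b' hb').symm
        rw [comm_mul_of_commute e3 e1 e2 e4]
        apply A.mul_mem (hBB b hb b' hb')
        apply hi
        apply Subgroup.mem_inf.mpr
        refine ⟨?_, ?_⟩
        · rw [commutatorElement_def]
          exact Subgroup.mul_mem _ (Subgroup.mul_mem _ (Subgroup.mul_mem _ hmD hm'D)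
            (Subgroup.inv_mem _ hmD)) (Subgroup.inv_mem _ hm'D)
        · rw [derivedSeries_succ]
          exact Subgroup.commutator_mem_commutator hmd hm'd
      have h1 : B ⊔ (Subgroup.centralizer (B : Set G) ⊓ derivedSeries G i) ≤ B :=
        hBmax hB' le_sup_left
      intro x hx
      have hxB : x ∈ B := h1 (Subgroup.mem_sup_right hx)
      apply hcen x hxB
      intro y hy
      have := Subgroup.mem_centralizer_iff.mp (Subgroup.mem_inf.mp hx).1
      exact (this y hy).symm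
    have hall : ∀ j : ℕ, Subgroup.centralizer (B : Set G) ⊓ derivedSeries G (k - j) ≤ A := by
      intro j
      induction j with
      | zero =>
        rw [Nat.sub_zero, hk, inf_bot_eq]
        exact bot_le
      | succ j ih =>
        by_cases hj : k - j = 0
        · have : k - (j + 1) = 0 := by omega
          rw [this, ← hj]; exact ih
        · have : k - j = (k - (j + 1)) + 1 := by omega
          rw [this] at ih
          exact step _ ih
    intro g hg
    have h0 := hall k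
    rw [Nat.sub_self, derivedSeries_zero, inf_top_eq] at h0
    apply h0
    rw [Subgroup.mem_centralizer_iff]
    intro b hb
    exact (hg b hb).symm
  refine ⟨B, hBn, hAB, hBC, hBB, hcen, hcent, ?_⟩
  -- the kernel of the action on `B / A`
  intro g hg hgb
  have hTn := trivModSubgroup_normal A B
  have hT : trivModSubgroup A B ∈ S := by
    refine ⟨hTn, ?_, ?_, ?_⟩
    · intro a ha
      rw [mem_trivModSubgroup]
      refine ⟨hAC ha, fun b hb => ?_⟩
      have h1 : ⁅a, b⁆ = a * (b * a⁻¹ * b⁻¹) := by rw [commutatorElement_def]; group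
      rw [h1]
      exact A.mul_mem ha (hA.conj_mem _ (A.inv_mem ha) b)
    · intro x hx
      exact (mem_trivModSubgroup.mp hx).1
    · -- commutators of the kernel centralize `B`
      have hmain : ∀ x ∈ trivModSubgroup A B, ∀ y ∈ trivModSubgroup A B,
          ∀ b ∈ B, (x * y) * b * (x * y)⁻¹ = (y * x) * b * (y * x)⁻¹ := by
        intro x hx y hy b hb
        obtain ⟨hx1, hx2⟩ := mem_trivModSubgroup.mp hx
        obtain ⟨hy1, hy2⟩ := mem_trivModSubgroup.mp hy
        rw [Subgroup.mem_centralizer_iff] at hx1 hy1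
        have ex : x * b * x⁻¹ = ⁅x, b⁆ * b := by rw [commutatorElement_def]; group
        have ey : y * b * y⁻¹ = ⁅y, b⁆ * b := by rw [commutatorElement_def]; group
        have hxa := hx1 _ (hy2 b hb)
        have hya := hy1 _ (hx2 b hb)
        calc (x * y) * b * (x * y)⁻¹ = x * (y * b * y⁻¹) * x⁻¹ := by group
          _ = x * (⁅y, b⁆ * b) * x⁻¹ := by rw [ey]
          _ = (x * ⁅y, b⁆) * b * x⁻¹ := by group
          _ = (⁅y, b⁆ * x) * b * x⁻¹ := by rw [hxa]
          _ = ⁅y, b⁆ * (x * b * x⁻¹) := by group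
          _ = ⁅y, b⁆ * (⁅x, b⁆ * b) := by rw [ex]
          _ = (⁅y, b⁆ * ⁅x, b⁆) * b := by group
          _ = (⁅x, b⁆ * ⁅y, b⁆) * b := by rw [hAc _ (hy2 b hb) _ (hx2 b hb)]
          _ = ⁅x, b⁆ * (⁅y, b⁆ * b) := by group
          _ = ⁅x, b⁆ * (y * b * y⁻¹) := by rw [ey]
          _ = (⁅x, b⁆ * y) * b * y⁻¹ := by group
          _ = (y * ⁅x, b⁆) * b * y⁻¹ := by rw [hya]
          _ = y * (⁅x, b⁆ * b) * y⁻¹ := by group
          _ = y * (x * b * x⁻¹) * y⁻¹ := by rw [ex]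
          _ = (y * x) * b * (y * x)⁻¹ := by group
      intro x hx y hy
      apply hcent
      intro b hb
      have h1 := hmain x⁻¹ ((trivModSubgroup A B).inv_mem hx) y⁻¹
        ((trivModSubgroup A B).inv_mem hy) b hb
      have h2 : ⁅x, y⁆ = (y⁻¹ * x⁻¹)⁻¹ * (x⁻¹ * y⁻¹) := by
        rw [commutatorElement_def]; group
      rw [h2]
      have h3 : (y⁻¹ * x⁻¹)⁻¹ * ((x⁻¹ * y⁻¹) * b * (x⁻¹ * y⁻¹)⁻¹) * (y⁻¹ * x⁻¹) = b := by
        rw [h1]; group
      calc (y⁻¹ * x⁻¹)⁻¹ * (x⁻¹ * y⁻¹) * b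
          = ((y⁻¹ * x⁻¹)⁻¹ * ((x⁻¹ * y⁻¹) * b * (x⁻¹ * y⁻¹)⁻¹) * (y⁻¹ * x⁻¹)) *
              ((y⁻¹ * x⁻¹)⁻¹ * (x⁻¹ * y⁻¹)) := by group
        _ = b * ((y⁻¹ * x⁻¹)⁻¹ * (x⁻¹ * y⁻¹)) := by rw [h3]
  have hBT : B ≤ trivModSubgroup A B := by
    intro b hb
    rw [mem_trivModSubgroup]
    exact ⟨hBC hb, fun b' hb' => hBB b hb b' hb'⟩
  exact hBmax hT hBT (mem_trivModSubgroup.mpr ⟨hg, hgb⟩)

end Cfsg.Agent.Lib.Helper2.Htl
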