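import Mathlib
import Cfsg.Agent.Lib.Helper2.Cyclic

set_option autoImplicit false

/-!
# Tools for Huppert's theorem: the residual `apow`, eigenvectors
-/

namespace Cfsg.Agent.Lib.Helper2.Huppert

open Polynomial
open scoped commutatorElement

/-- The subgroup generated by all commutators and all `(p-1)`-th powers. -/
def apow (p : ℕ) (G : Type*) [Group G] : Subgroup G :=
  Subgroup.closure {x | (∃ g h : G, x = ⁅g, h⁆) ∨ ∃ g : G, x = g ^ (p - 1)}

theorem commutator_mem_apow (p : ℕ) {G : Type*} [Group G] (g h : G) : ⁅g, h⁆ ∈ apow p G :=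
  Subgroup.subset_closure (Or.inl ⟨g, h, rfl⟩)

theorem pow_mem_apow (p : ℕ) {G : Type*} [Group G] (g : G) : g ^ (p - 1) ∈ apow p G :=
  Subgroup.subset_closure (Or.inr ⟨g, rfl⟩)

theorem map_apow_le (p : ℕ) {G G' : Type*} [Group G] [Group G'] (f : G →* G') :
    (apow p G).map f ≤ apow p G' := by
  rw [apow, MonoidHom.map_closure, Subgroup.closure_le]
  rintro _ ⟨x, hx, rfl⟩
  rcases hx with ⟨g, h, rfl⟩ | ⟨g, rfl⟩
  · rw [map_commutatorElement]; exact commutator_mem_apow p _ _
  · rw [map_pow]; exact pow_mem_apow p _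

/-- `apow p G` centralizes every normal subgroup of order `p`. -/
theorem apow_le_centralizer {p : ℕ} (hp : p.Prime) {G : Type*} [Group G] (Z : Subgroup G)
    [hZn : Z.Normal] (hZ : Nat.card Z = p) : apow p G ≤ Subgroup.centralizer (Z : Set G) := by
  have : Fact p.Prime := ⟨hp⟩
  have hc : IsCyclic Z := isCyclic_of_prime_card hZ
  have : Finite Z := Nat.finite_of_card_ne_zero (by rw [hZ]; exact hp.ne_zero)
  rw [apow, Subgroup.closure_le]
  rintro x (⟨g, h, rfl⟩ | ⟨g, rfl⟩)
  · apply comm_le_centralizer_of_cyclic_normal Z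
    rw [commutator_def]
    exact Subgroup.commutator_mem_commutator (Subgroup.mem_top g) (Subgroup.mem_top h)
  · have hcard : Nat.card (MulAut Z) = p - 1 := by
      rw [IsCyclic.card_mulAut, hZ, Nat.totient_prime hp]
    have : Finite (MulAut Z) := Nat.finite_of_card_ne_zero (by
      rw [hcard]; have := hp.two_le; omega)
    have h1 : (MulAut.conjNormal g : MulAut Z) ^ (p - 1) = 1 := by
      rw [← hcard]; exact pow_card_eq_one'
    rw [← map_pow] at h1
    show g ^ (p - 1) ∈ Subgroup.centralizer (Z : Set G)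
    rw [Subgroup.mem_centralizer_iff]
    intro z hz
    have h2 := congrArg (fun φ : MulAut Z => ((φ ⟨z, hz⟩ : Z) : G)) h1
    simp only [MulAut.conjNormal_apply, MulAut.one_apply] at h2
    exact (mul_inv_eq_iff_eq_mul.mp h2).symm

section Eigen

variable {p : ℕ} [hp : Fact p.Prime]

theorem prod_X_sub_C_zmod : ∏ a : ZMod p, (X - C a) = (X ^ p - X : (ZMod p)[X]) := by
  have hroots := FiniteField.roots_X_pow_card_sub_X (ZMod p)
  rw [ZMod.card] at hroots
  have hmonic : (X ^ p - X : (ZMod p)[X]).Monic := by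
    apply (monic_X_pow p).sub_of_left
    rw [degree_X_pow, degree_X]
    exact_mod_cast hp.1.one_lt
  have hdeg : (X ^ p - X : (ZMod p)[X]).natDegree = p :=
    FiniteField.X_pow_card_sub_X_natDegree_eq (ZMod p) hp.1.one_lt
  have := prod_multiset_X_sub_C_of_monic_of_roots_card_eq hmonic (by
    rw [hroots, hdeg]; simp)
  rw [hroots] at this
  exact this

/-- An endomorphism `f` of a nonzero `ZMod p`-module with `f ^ p = f` has an eigenvector. -/
theorem exists_eigenvector {V : Type*} [AddCommGroup V] [Module (ZMod p) V]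
    (f : Module.End (ZMod p) V) (hf : f ^ p = f) (v : V) (hv : v ≠ 0) :
    ∃ a : ZMod p, ∃ w : V, w ≠ 0 ∧ f w = a • w := by
  classical
  have key : ∀ S : Finset (ZMod p), ∀ v : V, v ≠ 0 →
      (aeval f (∏ a ∈ S, (X - C a) : (ZMod p)[X])) v = 0 →
      ∃ a ∈ S, ∃ w : V, w ≠ 0 ∧ f w = a • w := by
    intro S
    induction S using Finset.induction_on with
    | empty =>
      intro v hv h
      simp at h
      exact absurd h hv
    | insert a S ha ih =>
      intro v hv h
      rw [Finset.prod_insert ha, map_mul, Module.End.mul_apply] at h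
      by_cases hw : (aeval f (∏ a ∈ S, (X - C a) : (ZMod p)[X])) v = 0
      · obtain ⟨b, hb, w, hw0, hw⟩ := ih v hv hw
        exact ⟨b, Finset.mem_insert_of_mem hb, w, hw0, hw⟩
      · refine ⟨a, Finset.mem_insert_self _ _, _, hw, ?_⟩
        rw [map_sub, aeval_X, aeval_C, LinearMap.sub_apply, Module.algebraMap_end_apply] at h
        exact sub_eq_zero.mp h
  have h0 : aeval f (X ^ p - X : (ZMod p)[X]) = 0 := by
    rw [map_sub, map_pow, aeval_X, hf, sub_self]
  obtain ⟨a, -, w, hw0, hw⟩ := key Finset.univ v hv (by rw [prod_X_sub_C_zmod, h0]; rfl)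
  exact ⟨a, w, hw0, hw⟩

end Eigen

end Cfsg.Agent.Lib.Helper2.Huppert
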