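import Mathlib
import Cfsg.Agent.Lib.Helper2.Huppert1

set_option autoImplicit false
set_option linter.style.haveILetI false

/-!
# Eigenvectors for the conjugation action on an elementary abelian normal subgroup
-/

namespace Cfsg.Agent.Lib.Helper2.Huppert

open scoped commutatorElement

variable {G : Type*} [Group G] {p : ℕ} [hp : Fact p.Prime]

/-- An element `g` whose `(p-1)`-th power centralizes the nontrivial elementary abelian normal
`p`-subgroup `N` acts on some nontrivial element of `N` as a power map. -/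
theorem exists_eigen_group (N : Subgroup G) [hN : N.Normal]
    (hab : ∀ a ∈ N, ∀ b ∈ N, a * b = b * a) (hexp : ∀ a ∈ N, a ^ p = 1) (g : G)
    (hg : ∀ n ∈ N, g ^ (p - 1) * n = n * g ^ (p - 1)) (hne : N ≠ ⊥) :
    ∃ k : ℕ, ∃ n ∈ N, n ≠ 1 ∧ g * n * g⁻¹ = n ^ k := by
  letI : CommGroup N := { N.toGroup with mul_comm := fun a b => Subtype.ext (hab a a.2 b b.2) }
  have h0 : ∀ x : Additive N, p • x = 0 := by
    intro x
    obtain ⟨x, rfl⟩ := Additive.ofMul.surjective x
    rw [← ofMul_pow]
    have : x ^ p = 1 := Subtype.ext (by simpa using hexp x x.2)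
    rw [this, ofMul_one]
  letI : Module (ZMod p) (Additive N) := AddCommGroup.zmodModule (n := p) h0
  let φ : N →* N := (MulAut.conjNormal g : MulAut N).toMonoidHom
  let f : Additive N →ₗ[ZMod p] Additive N := (MonoidHom.toAdditive φ).toZModLinearMap p
  have hfapp : ∀ x : N, f (Additive.ofMul x) = Additive.ofMul (φ x) := fun x => rfl
  have hφ : ∀ x : N, ((φ x : N) : G) = g * x * g⁻¹ := fun x => rfl
  have hiter : ∀ (k : ℕ) (x : N), (((f ^ k) (Additive.ofMul x)).toMul : G) = g ^ k * x * (g ^ k)⁻¹ := by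
    intro k
    induction k with
    | zero => intro x; simp
    | succ k ih =>
      intro x
      rw [pow_succ', Module.End.mul_apply]
      have := ih x
      obtain ⟨y, hy⟩ := Additive.ofMul.surjective ((f ^ k) (Additive.ofMul x))
      rw [← hy] at this ⊢
      rw [hfapp, toMul_ofMul, hφ]
      rw [toMul_ofMul] at this
      rw [this, pow_succ']
      group
  have hf : f ^ p = f := by
    have hp1 : p = (p - 1) + 1 := by have := hp.1.one_lt; omega
    apply LinearMap.ext
    intro x
    obtain ⟨x, rfl⟩ := Additive.ofMul.surjective x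
    apply Additive.toMul.injective
    apply Subtype.ext
    rw [hiter, hfapp, toMul_ofMul, hφ]
    have h1 : g ^ p = g * g ^ (p - 1) := by
      conv_lhs => rw [hp1, pow_succ']
    have h2 := hg x x.2
    rw [h1, mul_inv_rev, mul_assoc g, h2]
    group
  obtain ⟨n0, hn0, hn01⟩ : ∃ n ∈ N, n ≠ 1 := by
    by_contra hcon
    push Not at hcon
    apply hne
    rw [eq_bot_iff]
    intro x hx
    rw [Subgroup.mem_bot]; exact hcon x hx
  have hv : Additive.ofMul (⟨n0, hn0⟩ : N) ≠ 0 := by
    intro h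
    apply hn01
    have : (⟨n0, hn0⟩ : N) = 1 := by
      apply Additive.ofMul.injective
      rw [h, ofMul_one]
    exact congrArg Subtype.val this
  obtain ⟨a, w, hw0, hw⟩ := exists_eigenvector f hf _ hv
  obtain ⟨w, rfl⟩ := Additive.ofMul.surjective w
  refine ⟨a.val, w, w.2, ?_, ?_⟩
  · intro h
    apply hw0
    have : w = 1 := Subtype.ext h
    rw [this, ofMul_one]
  · have h1 : a • Additive.ofMul w = a.val • Additive.ofMul w := by
      conv_lhs => rw [← ZMod.natCast_zmod_val a]
      exact Nat.cast_smul_eq_nsmul _ _ _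
    rw [h1, hfapp, ← ofMul_pow] at hw
    have := congrArg (fun x => ((Additive.toMul x : N) : G)) hw
    simpa [hφ] using this

/-- A minimal normal subgroup which is an elementary abelian `p`-group and on which all
commutators and all `(p-1)`-th powers act trivially has order `p`. -/
theorem card_eq_prime_of_minNormal [Finite G] (N : Subgroup G) [hN : N.Normal] (hne : N ≠ ⊥)
    (hmin : ∀ M : Subgroup G, M.Normal → M ≤ N → M = ⊥ ∨ M = N)
    (hab : ∀ a ∈ N, ∀ b ∈ N, a * b = b * a) (hexp : ∀ a ∈ N, a ^ p = 1)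
    (hcomm : ∀ g h : G, ∀ n ∈ N, ⁅g, h⁆ * n = n * ⁅g, h⁆)
    (hpow : ∀ g : G, ∀ n ∈ N, g ^ (p - 1) * n = n * g ^ (p - 1)) :
    Nat.card N = p := by
  -- every element acts as a power map
  have hact : ∀ g : G, ∃ k : ℕ, ∀ n ∈ N, g * n * g⁻¹ = n ^ k := by
    intro g
    obtain ⟨k, n0, hn0, hn01, hk⟩ := exists_eigen_group N hab hexp g (hpow g) hne
    refine ⟨k, ?_⟩
    let M : Subgroup G :=
      { carrier := {n | n ∈ N ∧ g * n * g⁻¹ = n ^ k}
        one_mem' := ⟨N.one_mem, by simp⟩
        mul_mem' := by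
          rintro a b ⟨ha, ha'⟩ ⟨hb, hb'⟩
          refine ⟨N.mul_mem ha hb, ?_⟩
          have : g * (a * b) * g⁻¹ = (g * a * g⁻¹) * (g * b * g⁻¹) := by group
          rw [this, ha', hb']
          exact ((Commute.mul_pow (hab a ha b hb) k)).symm
        inv_mem' := by
          rintro a ⟨ha, ha'⟩
          refine ⟨N.inv_mem ha, ?_⟩
          have : g * a⁻¹ * g⁻¹ = (g * a * g⁻¹)⁻¹ := by group
          rw [this, ha', inv_pow] }
    have hMN : M ≤ N := fun x hx => hx.1
    have hMn : M.Normal := by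
      refine ⟨fun n hn h => ?_⟩
      obtain ⟨hnN, hn'⟩ := hn
      refine ⟨hN.conj_mem n hnN h, ?_⟩
      -- `g (h n h⁻¹) g⁻¹ = h (⁅h⁻¹, g⁆ g n g⁻¹ ⁅h⁻¹,g⁆⁻¹) h⁻¹`
      have hc := hcomm h⁻¹ g (g * n * g⁻¹) (hN.conj_mem n hnN g)
      have e1 : g * (h * n * h⁻¹) * g⁻¹ = h * (⁅h⁻¹, g⁆ * (g * n * g⁻¹) * ⁅h⁻¹, g⁆⁻¹) * h⁻¹ := by
        simp only [commutatorElement_def]; group
      rw [e1, hc, mul_inv_cancel_right, hn', conj_pow]
    rcases hmin M hMn hMN with h | h
    · exfalso
      have : n0 ∈ M := ⟨hn0, hk⟩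
      rw [h, Subgroup.mem_bot] at this
      exact hn01 this
    · intro n hn
      have : n ∈ M := by rw [h]; exact hn
      exact this.2
  -- every subgroup of `N` is normal
  obtain ⟨n0, hn0, hn01⟩ : ∃ n ∈ N, n ≠ 1 := by
    by_contra hcon
    push Not at hcon
    apply hne
    rw [eq_bot_iff]
    intro x hx
    rw [Subgroup.mem_bot]; exact hcon x hx
  have hZn : (Subgroup.zpowers n0).Normal := by
    refine ⟨fun y hy g => ?_⟩
    obtain ⟨k, hk⟩ := hact g
    have hyN : y ∈ N := (Subgroup.zpowers_le.mpr hn0) hy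
    rw [hk y hyN]
    exact Subgroup.pow_mem _ hy k
  have hZ : Subgroup.zpowers n0 = N := by
    rcases hmin _ hZn (Subgroup.zpowers_le.mpr hn0) with h | h
    · exfalso
      apply hn01
      have := Subgroup.mem_zpowers n0
      rwa [h, Subgroup.mem_bot] at this
    · exact h
  rw [← hZ, Nat.card_zpowers]
  exact orderOf_eq_prime (hexp n0 hn0) hn01

end Cfsg.Agent.Lib.Helper2.Huppert
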