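import Mathlib
import Cfsg.Agent.Lib.Helper2.Huppert2
import Cfsg.Agent.Lib.Helper2.Supersolvable
import Cfsg.Agent.Lib.Lead.CoprimeFrattini

set_option autoImplicit false

/-!
# Supersolvable quotients and the residual `apow`
-/

namespace Cfsg.Agent.Lib.Helper2.Huppert

open Cfsg Cfsg.Agent.Lib.Helper2
open scoped commutatorElement

universe u

/-- Inside a nontrivial intersection of a reachable subgroup with a normal subgroup there is a
normal subgroup of prime order. -/
theorem exists_normal_prime_inf {G : Type*} [Group G] [Finite G] {K : Subgroup G}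
    (h : SSReach K) (V : Subgroup G) [hV : V.Normal] (hKV : K ⊓ V ≠ ⊥) :
    ∃ N : Subgroup G, N ≤ K ⊓ V ∧ N.Normal ∧ (Nat.card N).Prime := by
  induction h with
  | bot => rw [bot_inf_eq] at hKV; exact absurd rfl hKV
  | step K g hK hn ih =>
    by_cases hb : K ⊓ V = ⊥
    · haveI := hK.normal
      obtain ⟨h, hhV, hhX, hdec⟩ := exists_inf_sup_zpowers K V g
      have e : (K ⊔ Subgroup.zpowers g) ⊓ V = Subgroup.zpowers h := by
        apply le_antisymm
        · intro x hx
          obtain ⟨y, hy, m, rfl⟩ := hdec x hx.1 hx.2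
          rw [hb, Subgroup.mem_bot] at hy
          rw [hy, one_mul]
          exact Subgroup.zpow_mem_zpowers h m
        · rw [Subgroup.zpowers_le]; exact ⟨hhX, hhV⟩
      have hn' : (Subgroup.zpowers h).Normal := by
        rw [← e]
        haveI := hn
        infer_instance
      have hne : h ≠ 1 := by
        rintro rfl
        apply hKV
        rw [e, Subgroup.zpowers_one_eq_bot]
      obtain ⟨N, hN1, hN2, hN3⟩ := exists_normal_prime_of_zpowers_normal h hn' hne
      exact ⟨N, by rw [e]; exact hN1, hN2, hN3⟩
    · obtain ⟨N, hN1, hN2, hN3⟩ := ih hb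
      exact ⟨N, hN1.trans (inf_le_inf_right V le_sup_left), hN2, hN3⟩

/-- In a supersolvable group, every nontrivial normal subgroup contains a normal subgroup of prime
order. -/
theorem exists_normal_prime_le {G : Type*} [Group G] [Finite G] (hG : IsSupersolvable G)
    (V : Subgroup G) [hV : V.Normal] (hne : V ≠ ⊥) :
    ∃ N : Subgroup G, N ≤ V ∧ N.Normal ∧ (Nat.card N).Prime := by
  rw [isSupersolvable_iff] at hG
  obtain ⟨N, h1, h2, h3⟩ := exists_normal_prime_inf hG V (by rwa [top_inf_eq])
  exact ⟨N, h1.trans inf_le_right, h2, h3⟩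

/-- In a supersolvable group, a `p'`-subgroup of `apow p G` centralizes every normal
`p`-subgroup. -/
theorem apow_centralizes_aux {p : ℕ} (hp : p.Prime) : ∀ (n : ℕ) (G : Type u) [Group G] [Finite G]
    (V R : Subgroup G), V.Normal → IsPGroup p V → Nat.card G = n → IsSupersolvable G →
    R ≤ apow p G → (Nat.card R).Coprime p → R ≤ Subgroup.centralizer (V : Set G) := by
  intro n
  induction n using Nat.strong_induction_on with
  | _ n ih =>
    intro G _ _ V R hVn hVp hn hss hR hcop
    haveI : Fact p.Prime := ⟨hp⟩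
    by_cases hVb : V = ⊥
    · subst hVb
      intro r _
      rw [Subgroup.mem_centralizer_iff]
      intro v hv
      have : v = 1 := by simpa using hv
      rw [this, one_mul, mul_one]
    obtain ⟨V₁, hV₁V, hV₁n, hV₁p⟩ := exists_normal_prime_le hss V hVb
    have hV₁card : Nat.card V₁ = p := by
      have hp₁ : IsPGroup p V₁ := hVp.to_le hV₁V
      obtain ⟨k, hk⟩ := IsPGroup.iff_card.mp hp₁
      have hk0 : k ≠ 0 := by
        rintro rfl
        rw [hk, pow_zero] at hV₁p
        exact Nat.not_prime_one hV₁p
      have hdvd : p ∣ Nat.card V₁ := by rw [hk]; exact dvd_pow_self p hk0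
      exact ((Nat.prime_dvd_prime_iff_eq hp hV₁p).mp hdvd).symm
    have hc1 : apow p G ≤ Subgroup.centralizer (V₁ : Set G) := apow_le_centralizer hp V₁ hV₁card
    -- pass to the quotient
    set π := QuotientGroup.mk' V₁ with hπ
    have hπs : Function.Surjective π := QuotientGroup.mk'_surjective V₁
    have hcard := card_eq_card_quotient_mul_card V₁
    have hlt : Nat.card (G ⧸ V₁) < n := by
      rw [← hn, hcard, hV₁card]
      have hpos : 0 < Nat.card (G ⧸ V₁) := Nat.card_pos
      have := hp.one_lt
      nlinarith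
    have hq : R.map π ≤ Subgroup.centralizer ((V.map π : Subgroup (G ⧸ V₁)) : Set (G ⧸ V₁)) := by
      apply ih _ hlt (G ⧸ V₁) (V.map π) (R.map π) (hVn.map π hπs) (hVp.map π) rfl
        (isSupersolvable_of_surjective π hπs hss)
      · exact (Subgroup.map_mono hR).trans (map_apow_le p π)
      · exact Nat.Coprime.coprime_dvd_left (Subgroup.card_map_dvd R π) hcop
    -- `[V, R] ≤ V₁`
    have h1 : ⁅V, R⁆ ≤ V₁ := by
      rw [Subgroup.commutator_le]
      intro v hv r hr
      have h2 := hq (Subgroup.mem_map_of_mem π hr)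
      rw [Subgroup.mem_centralizer_iff] at h2
      have h3 := h2 (π v) (Subgroup.mem_map_of_mem π hv)
      rw [← QuotientGroup.eq_one_iff, ← QuotientGroup.mk'_apply, ← hπ, map_commutatorElement,
        commutatorElement_eq_one_iff_mul_comm]
      exact h3
    have h2 : ⁅V₁, R⁆ = ⊥ := by
      rw [Subgroup.commutator_comm, Subgroup.commutator_eq_bot_iff_le_centralizer]
      exact hR.trans hc1
    have hRV : R ≤ Subgroup.normalizer (V : Set G) := by
      rw [Subgroup.normalizer_eq_top_iff.mpr hVn]; exact le_top
    have hcopV : (Nat.card R).Coprime (Nat.card V) := by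
      obtain ⟨k, hk⟩ := IsPGroup.iff_card.mp hVp
      rw [hk]
      exact Nat.Coprime.pow_right k hcop
    have hVsolv : Group.IsSolvable V := by
      haveI := hVp.isNilpotent
      infer_instance
    have h3 := Cfsg.Agent.Lib.Lead.coprime_commutator_stable R V hRV hcopV (Or.inr hVsolv)
    have h4 : ⁅V, R⁆ = ⊥ := by
      rw [← h3, eq_bot_iff, ← h2]
      exact Subgroup.commutator_mono h1 le_rfl
    rw [Subgroup.commutator_comm, Subgroup.commutator_eq_bot_iff_le_centralizer] at h4
    exact h4

theorem apow_centralizes {p : ℕ} (hp : p.Prime) {G : Type*} [Group G] [Finite G]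
    (V R : Subgroup G) (hVn : V.Normal) (hVp : IsPGroup p V) (hss : IsSupersolvable G)
    (hR : R ≤ apow p G) (hcop : (Nat.card R).Coprime p) :
    R ≤ Subgroup.centralizer (V : Set G) :=
  apow_centralizes_aux hp (Nat.card G) G V R hVn hVp rfl hss hR hcop

/-- The image of the Frattini subgroup of a normal subgroup is normal. -/
theorem frattini_map_normal {G : Type*} [Group G] (P : Subgroup G) [hP : P.Normal] :
    ((frattini P).map P.subtype).Normal := by
  rw [← Subgroup.normalizer_eq_top_iff, eq_top_iff]
  have := Cfsg.Agent.Lib.Lead.le_normalizer_map_characteristic P (frattini P)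
  rwa [Subgroup.normalizer_eq_top_iff.mpr hP] at this

/-- If `G / Φ(P)` is supersolvable for a normal `p`-subgroup `P`, then every `p'`-subgroup of
`apow p G` centralizes `P`. -/
theorem le_centralizer_of_supersolvable_quotient {p : ℕ} (hp : p.Prime) {G : Type*} [Group G]
    [Finite G] (P : Subgroup G) [hPn : P.Normal] (hP : IsPGroup p P)
    [hΦ : ((frattini P).map P.subtype).Normal]
    (hss : IsSupersolvable (G ⧸ (frattini P).map P.subtype)) (R : Subgroup G)
    (hR : R ≤ apow p G) (hcop : (Nat.card R).Coprime p) :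
    R ≤ Subgroup.centralizer (P : Set G) := by
  haveI : Fact p.Prime := ⟨hp⟩
  set Φ := (frattini P).map P.subtype with hΦdef
  set π := QuotientGroup.mk' Φ with hπ
  have hπs : Function.Surjective π := QuotientGroup.mk'_surjective Φ
  have hq : R.map π ≤ Subgroup.centralizer ((P.map π : Subgroup (G ⧸ Φ)) : Set (G ⧸ Φ)) := by
    apply apow_centralizes hp (P.map π) (R.map π) (hPn.map π hπs) (hP.map π) hss
    · exact (Subgroup.map_mono hR).trans (map_apow_le p π)
    · exact Nat.Coprime.coprime_dvd_left (Subgroup.card_map_dvd R π) hcop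
  apply Cfsg.Agent.Lib.Lead.coprime_trivial_on_frattini_quotient R P
  · rw [Subgroup.normalizer_eq_top_iff.mpr hPn]; exact le_top
  · obtain ⟨k, hk⟩ := IsPGroup.iff_card.mp (hP.to_subgroup (frattini P))
    rw [hk]
    exact Nat.Coprime.pow_right k hcop
  · intro a ha k hk
    have h2 := hq (Subgroup.mem_map_of_mem π ha)
    rw [Subgroup.mem_centralizer_iff] at h2
    have h3 := h2 (π k) (Subgroup.mem_map_of_mem π hk)
    rw [← QuotientGroup.eq_one_iff, ← QuotientGroup.mk'_apply, ← hπ]
    have : a * k * a⁻¹ * k⁻¹ = ⁅a, k⁆ := rfl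
    rw [this, map_commutatorElement, commutatorElement_eq_one_iff_mul_comm]
    exact h3.symm

end Cfsg.Agent.Lib.Helper2.Huppert
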