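import Mathlib
import Cfsg.Agent.Lib.Helper2.Huppert3
import Cfsg.Agent.Lib.Helper2.MinNormal
import Cfsg.Agent.Lib.Lead.Nilpotent

set_option autoImplicit false

/-!
# Huppert's theorem: the case `Φ(P) ≠ 1`
-/

namespace Cfsg.Agent.Lib.Helper2.Huppert

open Cfsg Cfsg.Agent.Lib.Helper2
open scoped commutatorElement

/-- A nontrivial normal subgroup of a finite group contains a minimal normal subgroup. -/
theorem exists_minNormal_le {G : Type*} [Group G] [Finite G] (Φ : Subgroup G) (hΦn : Φ.Normal)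
    (hΦ : Φ ≠ ⊥) : ∃ N : Subgroup G, N.Normal ∧ N ≠ ⊥ ∧ N ≤ Φ ∧
      ∀ M : Subgroup G, M.Normal → M ≤ N → M = ⊥ ∨ M = N := by
  let S : Set (Subgroup G) := {N | N.Normal ∧ N ≠ ⊥ ∧ N ≤ Φ}
  obtain ⟨N, hN, hmin⟩ := WellFounded.has_min
    (measure (fun N : Subgroup G => Nat.card N)).wf S ⟨Φ, hΦn, hΦ, le_rfl⟩
  refine ⟨N, hN.1, hN.2.1, hN.2.2, ?_⟩
  intro M hMn hMN
  by_cases hM : M = ⊥
  · exact Or.inl hM
  · right
    have h1 := hmin M ⟨hMn, hM, hMN.trans hN.2.2⟩
    apply Subgroup.eq_of_le_of_card_ge hMN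
    change ¬ (Nat.card M < Nat.card N) at h1
    omega

/-- The main step: a minimal normal subgroup inside `Φ(P)` has order `p`. -/
theorem card_minNormal_of_frattini {G : Type*} [Group G] [Finite G] {p : ℕ} (hp : p.Prime)
    (P : Subgroup G) [hPn : P.Normal] (hP : IsPGroup p P) (H : Subgroup G)
    (hPH : ∀ g : G, ∃ y ∈ P, ∃ h ∈ H, g = y * h) (hHcop : (Nat.card H).Coprime p)
    [hΦ : ((frattini P).map P.subtype).Normal]
    (hss : IsSupersolvable (G ⧸ (frattini P).map P.subtype))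
    (N : Subgroup G) [hNn : N.Normal] (hNne : N ≠ ⊥) (hNΦ : N ≤ (frattini P).map P.subtype)
    (hmin : ∀ M : Subgroup G, M.Normal → M ≤ N → M = ⊥ ∨ M = N) :
    Nat.card N = p := by
  haveI : Fact p.Prime := ⟨hp⟩
  have hNP : N ≤ P := hNΦ.trans (Subgroup.map_subtype_le _)
  -- `N` is central in `P`
  set Zc : Subgroup G := (Subgroup.center P).map P.subtype with hZc
  have hZcn : Zc.Normal := by
    rw [← Subgroup.normalizer_eq_top_iff, eq_top_iff]
    have := Cfsg.Agent.Lib.Lead.le_normalizer_map_characteristic P (Subgroup.center P)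
    rwa [Subgroup.normalizer_eq_top_iff.mpr hPn] at this
  have hNZ : N ≤ Zc := by
    have h1 : (N ⊓ Zc).Normal := inferInstance
    rcases hmin (N ⊓ Zc) h1 inf_le_left with h | h
    · exfalso
      haveI : Group.IsNilpotent P := hP.isNilpotent
      have h2 : N.subgroupOf P ≠ ⊥ := by
        rw [Ne, Subgroup.subgroupOf_eq_bot, disjoint_iff, inf_eq_left.mpr hNP]
        exact hNne
      have h3 := Cfsg.Agent.Lib.Lead.inf_center_ne_bot (N.subgroupOf P) h2
      apply h3
      rw [eq_bot_iff]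
      intro x hx
      have : (x : G) ∈ N ⊓ Zc := ⟨hx.1, ⟨x, hx.2, rfl⟩⟩
      rw [h, Subgroup.mem_bot] at this
      rw [Subgroup.mem_bot]
      exact Subtype.ext this
    · rw [← h]; exact inf_le_right
  have hcent : ∀ n ∈ N, ∀ y ∈ P, y * n = n * y := by
    intro n hn y hy
    obtain ⟨z, hz, rfl⟩ := hNZ hn
    have hz' : z ∈ Subgroup.center P := hz
    rw [Subgroup.mem_center_iff] at hz'
    have := hz' ⟨y, hy⟩
    exact congrArg Subtype.val this
  have hab : ∀ a ∈ N, ∀ b ∈ N, a * b = b * a := fun a ha b hb => hcent b hb a (hNP ha)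
  -- exponent `p`
  have hc : IsMulCommutative N := ⟨⟨fun a b => Subtype.ext (hab a a.2 b b.2)⟩⟩
  obtain ⟨p', hp', hexp', d, hd, hcard'⟩ := exists_prime_pow_of_minNormal_abelian N hNne hmin hc
  have hpp' : p' = p := by
    obtain ⟨k, hk⟩ := IsPGroup.iff_card.mp (hP.to_le hNP)
    have h1 : p' ∣ p ^ k := by
      rw [← hk, hcard']; exact dvd_pow_self p' hd.ne'
    exact (Nat.prime_dvd_prime_iff_eq hp' hp).mp (hp'.dvd_of_dvd_pow h1)
  subst hpp'
  -- the residual of `H`
  set R : Subgroup G := (apow p' H).map H.subtype with hR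
  have hRle : R ≤ apow p' G := map_apow_le p' H.subtype
  have hRcop : (Nat.card R).Coprime p' := by
    apply Nat.Coprime.coprime_dvd_left _ hHcop
    exact (Subgroup.card_map_dvd _ _).trans (Subgroup.card_subgroup_dvd_card _)
  have hRP : R ≤ Subgroup.centralizer (P : Set G) :=
    le_centralizer_of_supersolvable_quotient hp P hP hss R hRle hRcop
  set C : Subgroup G := Subgroup.centralizer (N : Set G) with hC
  have hPC : P ≤ C := by
    intro y hy
    rw [hC, Subgroup.mem_centralizer_iff]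
    intro n hn
    exact (hcent n hn y hy).symm
  have hRC : R ≤ C := hRP.trans (Subgroup.centralizer_le hNP)
  set π := QuotientGroup.mk' C with hπ
  have hπP : ∀ y ∈ P, π y = 1 := by
    intro y hy
    rw [hπ, QuotientGroup.mk'_apply, QuotientGroup.eq_one_iff]
    exact hPC hy
  have hπR : ∀ r ∈ R, π r = 1 := by
    intro r hr
    rw [hπ, QuotientGroup.mk'_apply, QuotientGroup.eq_one_iff]
    exact hRC hr
  have hrep : ∀ g : G, ∃ h ∈ H, π g = π h := by
    intro g
    obtain ⟨y, hy, h, hh, rfl⟩ := hPH g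
    exact ⟨h, hh, by rw [map_mul, hπP y hy, one_mul]⟩
  have hmemC : ∀ x : G, π x = 1 → ∀ n ∈ N, x * n = n * x := by
    intro x hx n hn
    rw [hπ, QuotientGroup.mk'_apply, QuotientGroup.eq_one_iff, hC,
      Subgroup.mem_centralizer_iff] at hx
    exact (hx n hn).symm
  apply card_eq_prime_of_minNormal N hNne hmin hab hexp'
  · intro g g' n hn
    apply hmemC _ _ n hn
    obtain ⟨h, hh, e⟩ := hrep g
    obtain ⟨h', hh', e'⟩ := hrep g'
    rw [map_commutatorElement, e, e', ← map_commutatorElement]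
    apply hπR
    refine ⟨⁅(⟨h, hh⟩ : H), ⟨h', hh'⟩⁆, commutator_mem_apow p' _ _, ?_⟩
    simp [commutatorElement_def]
  · intro g n hn
    apply hmemC _ _ n hn
    obtain ⟨h, hh, e⟩ := hrep g
    rw [map_pow, e, ← map_pow]
    apply hπR
    refine ⟨(⟨h, hh⟩ : H) ^ (p' - 1), pow_mem_apow p' _, ?_⟩
    simp

end Cfsg.Agent.Lib.Helper2.Huppert
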