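import Mathlib
import Cfsg.Agent.Lib.Helper2.Huppert4
import Cfsg.Agent.Lib.Helper2.Maschke
import Cfsg.Agent.Lib.Lead.Frattini

set_option autoImplicit false

/-!
# Huppert's theorem: the case `Φ(P) = 1`
-/

namespace Cfsg.Agent.Lib.Helper2.Huppert

open Cfsg Cfsg.Agent.Lib.Helper2
open scoped commutatorElement

/-- If the normal Sylow `p`-subgroup `P` has trivial Frattini subgroup and all maximal subgroups
have prime index, there is a normal subgroup of order `p`. -/
theorem exists_normal_prime_of_frattini_eq_bot {G : Type*} [Group G] [Finite G]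
    (h : ∀ M : Subgroup G, IsCoatom M → M.index.Prime) {p : ℕ} [hp : Fact p.Prime]
    (P : Sylow p G) [hPn : (P : Subgroup G).Normal] (hPne : (P : Subgroup G) ≠ ⊥)
    (hΦ : frattini (P : Subgroup G) = ⊥) :
    ∃ N : Subgroup G, N.Normal ∧ Nat.card N = p := by
  have hPp : IsPGroup p (P : Subgroup G) := P.2
  -- `P` is elementary abelian
  have hab : ∀ a ∈ (P : Subgroup G), ∀ b ∈ (P : Subgroup G), a * b = b * a := by
    intro a ha b hb
    have h1 := Cfsg.Agent.Lib.Lead.commutator_le_frattini_of_isPGroup hPp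
    rw [hΦ] at h1
    have h2 : ⁅(⟨a, ha⟩ : (P : Subgroup G)), ⟨b, hb⟩⁆ ∈ commutator (P : Subgroup G) := by
      rw [commutator_def]
      exact Subgroup.commutator_mem_commutator (Subgroup.mem_top _) (Subgroup.mem_top _)
    have h3 := h1 h2
    rw [Subgroup.mem_bot, commutatorElement_eq_one_iff_mul_comm] at h3
    exact congrArg Subtype.val h3
  have hexp : ∀ a ∈ (P : Subgroup G), a ^ p = 1 := by
    intro a ha
    have h1 := Cfsg.Agent.Lib.Lead.pow_mem_frattini_of_isPGroup hPp (⟨a, ha⟩ : (P : Subgroup G))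
    rw [hΦ, Subgroup.mem_bot] at h1
    exact congrArg Subtype.val h1
  have hVab : IsMulCommutative (P : Subgroup G) :=
    ⟨⟨fun a b => Subtype.ext (hab a a.2 b b.2)⟩⟩
  obtain ⟨k, hk⟩ := IsPGroup.iff_card.mp hPp
  have hP1 : 1 < Nat.card (P : Subgroup G) := by
    rw [Finite.one_lt_card_iff_nontrivial]
    exact (Subgroup.nontrivial_iff_ne_bot _).mpr hPne
  -- complement
  obtain ⟨H, hH⟩ := Subgroup.exists_right_complement'_of_coprime P.card_coprime_index
  have hcardG := hH.card_mul_card
  have hHcop : (Nat.card H).Coprime (Nat.card (P : Subgroup G)) := by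
    have h1 := P.card_coprime_index
    have h2 : (P : Subgroup G).index = Nat.card H := by
      have := Subgroup.card_mul_index (P : Subgroup G)
      have hpos : 0 < Nat.card (P : Subgroup G) := Nat.card_pos
      rw [← hcardG] at this
      exact Nat.eq_of_mul_eq_mul_left hpos this
    rw [h2] at h1
    exact h1.symm
  have hHtop : H ≠ ⊤ := by
    intro htop
    have h1 : Nat.card H = Nat.card G := by rw [htop, Subgroup.card_top]
    rw [h1] at hcardG
    have hpos : 0 < Nat.card G := Nat.card_pos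
    nlinarith
  obtain ⟨M, hM, hHM⟩ := (eq_top_or_exists_le_coatom H).resolve_left hHtop
  have hMp := h M hM
  have hMidx : M.index = p := by
    have h1 : M.index ∣ H.index := Subgroup.index_dvd_of_le hHM
    rw [hH.index_eq_card, hk] at h1
    exact (Nat.prime_dvd_prime_iff_eq hMp hp.1).mp (hMp.dvd_of_dvd_pow h1)
  have hPHtop : (P : Subgroup G) ⊔ H = ⊤ := hH.sup_eq_top
  obtain ⟨v, hvP, hvM⟩ : ∃ v ∈ (P : Subgroup G), v ∉ M := by
    by_contra hcon
    push Not at hcon
    have : (P : Subgroup G) ⊔ H ≤ M := sup_le hcon hHM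
    rw [hPHtop, top_le_iff] at this
    exact hM.1 this
  set D : Subgroup G := M ⊓ (P : Subgroup G) with hD
  have hDP : D ≤ (P : Subgroup G) := inf_le_right
  have hfac : ∀ g : G, ∃ m ∈ M, ∃ y ∈ (P : Subgroup G), g = m * y := by
    intro g
    obtain ⟨⟨y, x⟩, rfl⟩ := hH.2 g
    refine ⟨x, hHM x.2, (x : G)⁻¹ * y * x, ?_, by group⟩
    have := hPn.conj_mem y y.2 (x : G)⁻¹
    simpa using this
  have hcardD : p * Nat.card D = Nat.card (P : Subgroup G) := by
    have h1 := card_mul_card_inf_of_factorization M (P : Subgroup G) hfac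
    have h2 := Subgroup.card_mul_index M
    rw [hMidx] at h2
    rw [← h2] at h1
    have hpos : 0 < Nat.card M := Nat.card_pos
    have : Nat.card M * (p * Nat.card D) = Nat.card M * Nat.card (P : Subgroup G) := by
      rw [← h1]; ring
    exact Nat.eq_of_mul_eq_mul_left hpos this
  have hDpos : 0 < Nat.card D := Nat.card_pos
  -- the complement `W = ⟨v⟩`
  have hv1 : v ≠ 1 := by
    rintro rfl
    exact hvM M.one_mem
  have hov : orderOf v = p := orderOf_eq_prime (hexp v hvP) hv1
  set W : Subgroup G := Subgroup.zpowers v with hW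
  have hWcard : Nat.card W = p := by rw [hW, Nat.card_zpowers, hov]
  have hWP : W ≤ (P : Subgroup G) := Subgroup.zpowers_le.mpr hvP
  have hPnormalizes : ∀ X : Subgroup G, X ≤ (P : Subgroup G) →
      (P : Subgroup G) ≤ Subgroup.normalizer (X : Set G) := by
    intro X hX y hy
    apply mem_normalizer_of_commute
    intro n hn
    exact hab y hy n (hX hn)
  have hDW : D ⊓ W = ⊥ := by
    rw [← Subgroup.card_eq_one]
    have h1 : Nat.card (D ⊓ W : Subgroup G) ∣ p := by
      rw [← hWcard]; exact Subgroup.card_dvd_of_le inf_le_right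
    rcases (Nat.dvd_prime hp.1).mp h1 with h2 | h2
    · exact h2
    · exfalso
      have h3 : (D ⊓ W : Subgroup G) = W :=
        Subgroup.eq_of_le_of_card_ge inf_le_right (by rw [h2, hWcard])
      have : v ∈ D ⊓ W := by rw [h3]; exact Subgroup.mem_zpowers v
      exact hvM this.1.1
  have hDWP : D ⊔ W = (P : Subgroup G) := by
    apply Subgroup.eq_of_le_of_card_ge (sup_le hDP hWP)
    have h1 := card_sup_mul_card_inf W D ((hWP.trans (hPnormalizes D hDP)))
    rw [inf_comm, hDW, Subgroup.card_bot, mul_one, hWcard, sup_comm] at h1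
    rw [h1, hcardD]
  -- Maschke
  have hAV : H ≤ Subgroup.normalizer ((P : Subgroup G) : Set G) := by
    rw [Subgroup.normalizer_eq_top_iff.mpr hPn]; exact le_top
  have hAU : H ≤ Subgroup.normalizer (D : Set G) := by
    intro x hx
    have hxM := hHM hx
    have key : ∀ z ∈ M, ∀ d ∈ D, z * d * z⁻¹ ∈ D := by
      intro z hz d hd
      exact ⟨M.mul_mem (M.mul_mem hz hd.1) (M.inv_mem hz), hPn.conj_mem d hd.2 z⟩
    rw [Subgroup.mem_normalizer_iff]
    intro d
    constructor
    · exact key x hxM d
    · intro hd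
      have := key x⁻¹ (M.inv_mem hxM) _ hd
      simpa [mul_assoc] using this
  obtain ⟨W', hW'P, hHW', hDW', hDW'P⟩ := Maschke.exists_invariant_complement
    (P : Subgroup G) H D hVab hAV hHcop hDP hAU W hWP hDW hDWP
  refine ⟨W', ?_, ?_⟩
  · rw [← Subgroup.normalizer_eq_top_iff, eq_top_iff, ← hPHtop]
    exact sup_le (hPnormalizes W' hW'P) hHW'
  · have h1 := card_sup_mul_card_inf W' D ((hW'P.trans (hPnormalizes D hDP)))
    rw [inf_comm, hDW', Subgroup.card_bot, mul_one, sup_comm, hDW'P, ← hcardD] at h1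
    have : Nat.card D * p = Nat.card D * Nat.card W' := by
      rw [mul_comm, h1, mul_comm]
    exact (Nat.eq_of_mul_eq_mul_left hDpos this).symm

end Cfsg.Agent.Lib.Helper2.Huppert
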