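import Mathlib
import Cfsg.Agent.Lib.Lead.Hx3Defs
import Cfsg.Agent.Lib.Lead.Hx3Calc

set_option autoImplicit false

/-!
# S2933 / S1237 swarm, package E1: a two-Engel identity from a fixed-point-free automorphism of
order three (paper `notes/S2933_S1237_paper_lead.md`, L1 (a)).
-/

namespace Cfsg.Agent.Lib.Lead.Hx3

open Cfsg.Agent.Lib.Helper3.S64

variable {T : Type*} [Group T]

theorem e1_tw_apply (ρ : MulAut T) (k y : T) : (MulAut.conj k * ρ) y = k * ρ y * k⁻¹ := rfl

/-- the twisted automorphism `x ↦ k * ρ x * k⁻¹` is again fixed-point-free of order three -/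
theorem e1_twist [Finite T] {ρ : MulAut T} (h : Fpf3 ρ) (k : T) :
    Fpf3 (MulAut.conj k * ρ) := by
  constructor
  · intro y
    rw [e1_tw_apply, e1_tw_apply, e1_tw_apply]
    simp only [map_mul, map_inv, h.cube]
    have h1 := h.prod3 k
    calc k * (ρ k * (ρ (ρ k) * y * (ρ (ρ k))⁻¹) * (ρ k)⁻¹) * k⁻¹
        = (k * ρ k * ρ (ρ k)) * y * (k * ρ k * ρ (ρ k))⁻¹ := by group
      _ = y := by rw [h1]; simp
  · intro x hx
    obtain ⟨y, hy⟩ := h.surj_twist k
    rw [e1_tw_apply] at hx
    have h2 : ρ x = k⁻¹ * x * k := by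
      calc ρ x = k⁻¹ * (k * ρ x * k⁻¹) * k := by group
        _ = k⁻¹ * x * k := by rw [hx]
    have h1 : ρ (y * x * y⁻¹) = y * x * y⁻¹ := by
      rw [map_mul, map_mul, map_inv, h2]
      subst hy
      group
    have h3 := h.fpf _ h1
    have : x = y⁻¹ * (y * x * y⁻¹) * y := by group
    rw [this, h3]
    group

/-- the square of `ρ` is again fixed-point-free of order three -/
theorem e1_sq [Finite T] {ρ : MulAut T} (h : Fpf3 ρ) : Fpf3 (ρ * ρ) := by
  constructor
  · intro y
    simp only [MulAut.mul_apply, h.cube]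
  · intro y hy
    simp only [MulAut.mul_apply] at hy
    apply h.fpf
    have := congrArg ρ hy
    rw [h.cube] at this
    exact this.symm

/-- E1 (2-Engel): every element commutes with all its conjugates.  Paper L1(a). -/
theorem e1_engel [Finite T] {ρ : MulAut T} (h : Fpf3 ρ) (g k : T) :
    g * (k * g * k⁻¹) = k * g * k⁻¹ * g := by
  have c1 : Commute g (k * ρ g * k⁻¹) := by
    have := (e1_twist h k).comm g
    rw [e1_tw_apply] at this
    exact this
  have c2 : Commute g (k * ρ (ρ g) * k⁻¹) := by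
    have := (e1_twist (e1_sq h) k).comm g
    rw [e1_tw_apply] at this
    exact this
  -- g commutes with a := k * ρ g * k⁻¹ and with b := k * ρ (ρ g) * k⁻¹, hence with a * b
  have hab : k * ρ g * k⁻¹ * (k * ρ (ρ g) * k⁻¹) = (k * g * k⁻¹)⁻¹ := by
    have h1 := h.prod3 g
    have h2 : ρ g * ρ (ρ g) = g⁻¹ := by
      have : g * (ρ g * ρ (ρ g)) = 1 := by rw [← mul_assoc]; exact h1
      exact eq_inv_of_mul_eq_one_right this
    calc k * ρ g * k⁻¹ * (k * ρ (ρ g) * k⁻¹) = k * (ρ g * ρ (ρ g)) * k⁻¹ := by group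
      _ = (k * g * k⁻¹)⁻¹ := by rw [h2]; group
  have c3 : Commute g (k * g * k⁻¹)⁻¹ := by
    rw [← hab]
    exact c1.mul_right c2
  have c4 : Commute g (k * g * k⁻¹) := by
    have := c3.inv_right
    rwa [inv_inv] at this
  exact c4.eq

end Cfsg.Agent.Lib.Lead.Hx3
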