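import Mathlib
import Cfsg.Agent.Lib.Lead.Hx3Defs
import Cfsg.Agent.Lib.Lead.Hx3Calc
import Cfsg.Agent.Lib.Helper2.Hx3E1

set_option autoImplicit false

/-!
# S2933 / S1237 swarm, package E2: a finite two-group with a fixed-point-free automorphism of
order three has class at most two (paper `notes/S2933_S1237_paper_lead.md`, L1 (b)).
-/

namespace Cfsg.Agent.Lib.Lead.Hx3

open Cfsg.Agent.Lib.Helper3.S64
open scoped commutatorElement

variable {T : Type*} [Group T]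

/-- calculus of the triple commutator when all triple commutators are central -/
structure E2Hyp (T : Type*) [Group T] : Prop where
  cen : ∀ x y z : T, ⁅⁅x, y⁆, z⁆ ∈ Subgroup.center T
  engel : ∀ g k : T, g * (k * g * k⁻¹) = k * g * k⁻¹ * g

namespace E2Hyp

theorem cc (h : E2Hyp T) (x y z g : T) : ⁅⁅x, y⁆, z⁆ * g = g * ⁅⁅x, y⁆, z⁆ :=
  ((Subgroup.mem_center_iff.mp (h.cen x y z)) g).symm

/-- multiplicative in the third variable -/
theorem mul3 (h : E2Hyp T) (x y z w : T) :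
    ⁅⁅x, y⁆, z * w⁆ = ⁅⁅x, y⁆, z⁆ * ⁅⁅x, y⁆, w⁆ := by
  have e : ∀ a : T, ⁅a, z * w⁆ = ⁅a, z⁆ * (z * ⁅a, w⁆ * z⁻¹) := by
    intro a
    simp only [commutatorElement_def]; group
  rw [e, ← h.cc x y w z, mul_assoc, mul_inv_cancel, mul_one]

theorem one3 (x y : T) : ⁅⁅x, y⁆, (1 : T)⁆ = 1 := commutatorElement_one_right _

theorem inv3 (h : E2Hyp T) (x y z : T) : ⁅⁅x, y⁆, z⁻¹⁆ = ⁅⁅x, y⁆, z⁆⁻¹ := by
  have := h.mul3 x y z z⁻¹
  rw [mul_inv_cancel, one3] at this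
  exact eq_inv_of_mul_eq_one_right this.symm

/-- a central factor can be dropped from the left entry of a commutator -/
theorem comm_central_mul {ζ : T} (hζ : ζ ∈ Subgroup.center T) (u z : T) : ⁅ζ * u, z⁆ = ⁅u, z⁆ := by
  have hc : ∀ g : T, g * ζ = ζ * g := fun g => Subgroup.mem_center_iff.mp hζ g
  have hc' : ∀ g : T, g * ζ⁻¹ = ζ⁻¹ * g := by
    intro g
    have := Subgroup.mem_center_iff.mp ((Subgroup.center T).inv_mem hζ) g
    exact this
  simp only [commutatorElement_def, mul_inv_rev]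
  calc ζ * u * z * (u⁻¹ * ζ⁻¹) * z⁻¹ = ζ * (u * z * u⁻¹) * ζ⁻¹ * z⁻¹ := by group
    _ = (u * z * u⁻¹) * ζ * ζ⁻¹ * z⁻¹ := by rw [hc (u * z * u⁻¹)]
    _ = u * z * u⁻¹ * z⁻¹ := by group

/-- swapping the first two variables inverts -/
theorem swap12 (h : E2Hyp T) (x y z : T) : ⁅⁅y, x⁆, z⁆ = ⁅⁅x, y⁆, z⁆⁻¹ := by
  have e1 : ⁅y, x⁆ = ⁅x, y⁆⁻¹ := (commutatorElement_inv x y).symm
  have e2 : ∀ a : T, ⁅a⁻¹, z⁆ = a⁻¹ * ⁅a, z⁆⁻¹ * a := by
    intro a
    simp only [commutatorElement_def]; group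
  rw [e1, e2]
  have hc : (⁅⁅x, y⁆, z⁆)⁻¹ ∈ Subgroup.center T := (Subgroup.center T).inv_mem (h.cen x y z)
  have := Subgroup.mem_center_iff.mp hc (⁅x, y⁆⁻¹)
  rw [this, mul_assoc, inv_mul_cancel, mul_one]

/-- multiplicative in the first variable -/
theorem mul1 (h : E2Hyp T) (x x' y z : T) :
    ⁅⁅x * x', y⁆, z⁆ = ⁅⁅x, y⁆, z⁆ * ⁅⁅x', y⁆, z⁆ := by
  have e1 : ⁅x * x', y⁆ = ⁅x, ⁅x', y⁆⁆ * (⁅x', y⁆ * ⁅x, y⁆) := by
    simp only [commutatorElement_def]; group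
  have hζ : ⁅x, ⁅x', y⁆⁆ ∈ Subgroup.center T := by
    have : ⁅x, ⁅x', y⁆⁆ = ⁅⁅x', y⁆, x⁆⁻¹ := (commutatorElement_inv _ _).symm
    rw [this]
    exact (Subgroup.center T).inv_mem (h.cen x' y x)
  rw [e1, comm_central_mul hζ]
  have e2 : ∀ b a : T, ⁅b * a, z⁆ = b * ⁅a, z⁆ * b⁻¹ * ⁅b, z⁆ := by
    intro b a
    simp only [commutatorElement_def]; group
  rw [e2, ← h.cc x y z ⁅x', y⁆, mul_assoc ⁅⁅x, y⁆, z⁆, mul_inv_cancel, mul_one]

/-- multiplicative in the second variable -/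
theorem mul2 (h : E2Hyp T) (x y y' z : T) :
    ⁅⁅x, y * y'⁆, z⁆ = ⁅⁅x, y⁆, z⁆ * ⁅⁅x, y'⁆, z⁆ := by
  rw [h.swap12 (y * y') x z, h.mul1 y y' x z, mul_inv_rev, ← h.swap12 y' x z, ← h.swap12 y x z,
    h.cc x y' z]

theorem engel' (h : E2Hyp T) (g k : T) : ⁅⁅g, k⁆, g⁆ = 1 := by
  rw [commutatorElement_eq_one_iff_commute]
  have c : Commute g (k * g * k⁻¹) := h.engel g k
  have e : ⁅g, k⁆ = g * (k * g * k⁻¹)⁻¹ := by
    simp only [commutatorElement_def]; group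
  rw [e]
  exact ((Commute.refl g).mul_right c.inv_right).symm

/-- swapping the outer variables inverts -/
theorem swap13 (h : E2Hyp T) (g k x : T) : ⁅⁅k, x⁆, g⁆ = ⁅⁅g, x⁆, k⁆⁻¹ := by
  have e := h.engel' (g * k) x
  rw [h.mul3, h.mul1 g k x g, h.mul1 g k x k, h.engel' g x, h.engel' k x, one_mul, mul_one] at e
  exact eq_inv_of_mul_eq_one_left e

theorem cyc (h : E2Hyp T) (x y z : T) : ⁅⁅y, z⁆, x⁆ = ⁅⁅x, y⁆, z⁆ := by
  rw [h.swap13 x y z, h.swap12 z x y, inv_inv, h.swap13 y z x, h.swap12 x y z, inv_inv]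

theorem cube_eq_one (h : E2Hyp T) (x y z : T) : ⁅⁅x, y⁆, z⁆ ^ 3 = 1 := by
  have hw : ⁅⁅x, y⁆, y * z * y⁻¹⁆ * ⁅⁅y, z⁆, z * x * z⁻¹⁆ * ⁅⁅z, x⁆, x * y * x⁻¹⁆ = 1 := by
    simp only [commutatorElement_def]; group
  have e : ∀ a b c : T, ⁅⁅a, b⁆, b * c * b⁻¹⁆ = ⁅⁅a, b⁆, c⁆ := by
    intro a b c
    rw [h.mul3, h.mul3, h.inv3, ← h.cc a b c, mul_assoc, mul_inv_cancel, mul_one]
  rw [e, e, e, h.cyc x y z, h.cyc y z x, h.cyc x y z] at hw
  rw [pow_succ, pow_two]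
  exact hw

end E2Hyp

/-- in a two-group the calculus forces class two -/
theorem e2_of_hyp (hT : IsPGroup 2 T) (h : E2Hyp T) : C2 T := by
  intro x y
  rw [Subgroup.mem_center_iff]
  intro g
  have h3 := h.cube_eq_one x y g
  obtain ⟨k, hk⟩ := hT ⁅⁅x, y⁆, g⁆
  have d3 : orderOf ⁅⁅x, y⁆, g⁆ ∣ 3 := orderOf_dvd_of_pow_eq_one h3
  have d2 : orderOf ⁅⁅x, y⁆, g⁆ ∣ 2 ^ k := orderOf_dvd_of_pow_eq_one hk
  have hcop : Nat.Coprime 3 (2 ^ k) := Nat.Coprime.pow_right k (by norm_num)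
  have h1 : orderOf ⁅⁅x, y⁆, g⁆ = 1 := Nat.eq_one_of_dvd_coprimes hcop d3 d2
  have h2 : ⁅⁅x, y⁆, g⁆ = 1 := orderOf_eq_one_iff.mp h1
  exact ((commutatorElement_eq_one_iff_commute.mp h2).eq).symm

theorem e2_inv_center (ρ : MulAut T) : Inv ρ (Subgroup.center T) := by
  intro n hn
  rw [Subgroup.mem_center_iff] at hn ⊢
  intro g
  obtain ⟨g', rfl⟩ := ρ.surjective g
  rw [← map_mul, ← map_mul, hn g']

/-- E2 in induction form -/
theorem e2_aux : ∀ (n : ℕ) (T : Type*) [Group T] [Finite T], Nat.card T = n → IsPGroup 2 T →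
    ∀ ρ : MulAut T, Fpf3 ρ → C2 T := by
  intro n
  induction n using Nat.strong_induction_on with
  | _ n ih =>
    intro T _ _ hn hT ρ h
    rcases subsingleton_or_nontrivial T with hs | hnt
    · intro x y
      rw [Subsingleton.elim ⁅x, y⁆ 1]
      exact Subgroup.one_mem _
    · have : Fact (Nat.Prime 2) := ⟨Nat.prime_two⟩
      have hZ : Nontrivial (Subgroup.center T) := hT.center_nontrivial
      have hlt : Nat.card (T ⧸ Subgroup.center T) < n := by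
        have e := Subgroup.card_eq_card_quotient_mul_card_subgroup (Subgroup.center T)
        have h1 : 1 < Nat.card (Subgroup.center T) := Finite.one_lt_card
        have h0 : 0 < Nat.card (T ⧸ Subgroup.center T) := Nat.card_pos
        rw [← hn, e]
        nlinarith
      have hq : IsPGroup 2 (T ⧸ Subgroup.center T) := hT.to_quotient _
      have hInv := e2_inv_center ρ
      have hC := ih _ hlt (T ⧸ Subgroup.center T) rfl hq (quotAut (Subgroup.center T) ρ hInv)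
        (Fpf3.quot h (Subgroup.center T) hInv)
      apply e2_of_hyp hT
      refine ⟨?_, fun g k => e1_engel h g k⟩
      intro x y z
      have h1 := hC (QuotientGroup.mk x) (QuotientGroup.mk y)
      rw [Subgroup.mem_center_iff] at h1
      have h2 := h1 (QuotientGroup.mk z)
      have h3 : (QuotientGroup.mk ⁅⁅x, y⁆, z⁆ : T ⧸ Subgroup.center T) = 1 := by
        have : (QuotientGroup.mk ⁅⁅x, y⁆, z⁆ : T ⧸ Subgroup.center T) =
            ⁅⁅(QuotientGroup.mk x : T ⧸ Subgroup.center T),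
              (QuotientGroup.mk y : T ⧸ Subgroup.center T)⁆,
              (QuotientGroup.mk z : T ⧸ Subgroup.center T)⁆ := by
          simp [commutatorElement_def]
        rw [this, commutatorElement_eq_one_iff_commute]
        exact h2.symm
      exact (QuotientGroup.eq_one_iff _).mp h3

/-- E2 (Lemma E): class at most two.  Paper L1(b); uses `e1_engel`, `Fpf3.quot`. -/
theorem e2_class_two [Finite T] (hT : IsPGroup 2 T) {ρ : MulAut T} (h : Fpf3 ρ) : C2 T :=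
  e2_aux (Nat.card T) T rfl hT ρ h

end Cfsg.Agent.Lib.Lead.Hx3
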