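import Mathlib
import Cfsg.Agent.Lib.Lead.Hx3Defs
import Cfsg.Agent.Lib.Lead.Hx3Calc
import Cfsg.Agent.Lib.Helper2.Hx3E2
import Cfsg.Agent.Lib.Helper9.Hx3L2P

set_option autoImplicit false

/-!
# S2933 / S1237 swarm, package KA: a nonabelian two-group with a fixed-point-free automorphism of
order three whose involutions form a central four-group `V` has centre `V` and all squares in `V`
(paper `notes/S2933_S1237_paper_lead.md`, (K) (i)-(iv), in a slightly streamlined form: if the
centre `Z` is larger than `V`, then `V` consists of squares of central elements, the elements of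
order at most two of `T / Z` inject into `Z / Z²` (of order four), so `T / Z` is generated by
`b, ρ b` and `T` is abelian).
-/

namespace Cfsg.Agent.Lib.Lead.Hx3

open Cfsg.Agent.Lib.Helper3.S64
open scoped commutatorElement

variable {T : Type*} [Group T]

/-- the subgroup of squares of central elements -/
def kaSq (T : Type*) [Group T] : Subgroup T where
  carrier := {t | ∃ z ∈ Subgroup.center T, z ^ 2 = t}
  mul_mem' := by
    rintro a b ⟨z, hz, rfl⟩ ⟨w, hw, rfl⟩
    refine ⟨z * w, Subgroup.mul_mem _ hz hw, ?_⟩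
    have hc : Commute z w := (Subgroup.mem_center_iff.mp hz w).symm
    exact hc.mul_pow 2
  one_mem' := ⟨1, Subgroup.one_mem _, one_pow 2⟩
  inv_mem' := by
    rintro a ⟨z, hz, rfl⟩
    exact ⟨z⁻¹, Subgroup.inv_mem _ hz, inv_pow z 2⟩

theorem mem_kaSq {t : T} : t ∈ kaSq T ↔ ∃ z ∈ Subgroup.center T, z ^ 2 = t := Iff.rfl

theorem ka_inv_V {ρ : MulAut T} (V : Subgroup T) (hV : ∀ x : T, x ∈ V ↔ x ^ 2 = 1) : Inv ρ V := by
  intro v hv
  rw [hV] at hv ⊢
  rw [← map_pow, hv, map_one]

theorem ka_inv_sq (ρ : MulAut T) : Inv ρ (kaSq T) := by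
  rintro _ ⟨z, hz, rfl⟩
  exact ⟨ρ z, e2_inv_center ρ z hz, by rw [← map_pow]⟩

/-- if the centre is larger than `V`, every element of `V` is the square of a central element -/
theorem ka_V_le_sq [Finite T] (hT : IsPGroup 2 T) {ρ : MulAut T} (h : Fpf3 ρ) (V : Subgroup T)
    (hV : ∀ x : T, x ∈ V ↔ x ^ 2 = 1) (hVc : V ≤ Subgroup.center T) (hV4 : Nat.card V = 4)
    (hne : Subgroup.center T ≠ V) : V ≤ kaSq T := by
  classical
  obtain ⟨z, hzZ, hzV⟩ := SetLike.exists_of_lt (lt_of_le_of_ne hVc (Ne.symm hne))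
  have hex : ∃ k : ℕ, z ^ 2 ^ k = 1 := hT z
  set m := Nat.find hex with hm
  have hm1 : z ^ 2 ^ m = 1 := Nat.find_spec hex
  have hm2 : 2 ≤ m := by
    by_contra hlt
    have : m = 0 ∨ m = 1 := by omega
    rcases this with h0 | h0
    · rw [h0] at hm1
      apply hzV
      rw [hV]
      have hz1 : z = 1 := by simpa using hm1
      rw [hz1, one_pow]
    · rw [h0] at hm1
      apply hzV
      rw [hV]
      simpa using hm1
  obtain ⟨j, hj⟩ : ∃ j, m = j + 2 := ⟨m - 2, by omega⟩
  -- v = z^(2^(j+1)) is a nontrivial element of V which is the square of z^(2^j)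
  have hv1 : z ^ 2 ^ (j + 1) ≠ 1 := by
    intro hcon
    have := Nat.find_min hex (m := j + 1) (by omega)
    exact this hcon
  have hvV : z ^ 2 ^ (j + 1) ∈ V := by
    rw [hV, ← pow_mul, ← pow_succ, ← hj]
    exact hm1
  have hvS : z ^ 2 ^ (j + 1) ∈ kaSq T :=
    ⟨z ^ 2 ^ j, Subgroup.pow_mem _ hzZ _, by rw [← pow_mul, ← pow_succ]⟩
  -- the invariant subgroup N = kaSq ⊓ V
  have hN : Inv ρ (kaSq T ⊓ V) := fun n hn =>
    ⟨ka_inv_sq ρ n hn.1, ka_inv_V V hV n hn.2⟩
  have hmod := h.card_mod (kaSq T ⊓ V) hN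
  have hdvd : Nat.card ↥(kaSq T ⊓ V) ∣ 4 := by
    rw [← hV4]
    exact Subgroup.card_dvd_of_le inf_le_right
  have hne1 : Nat.card ↥(kaSq T ⊓ V) ≠ 1 := by
    intro h1
    have hbot : kaSq T ⊓ V = ⊥ := Subgroup.card_eq_one.mp h1
    have : z ^ 2 ^ (j + 1) ∈ (⊥ : Subgroup T) := hbot ▸ ⟨hvS, hvV⟩
    exact hv1 (Subgroup.mem_bot.mp this)
  have hle4 : Nat.card ↥(kaSq T ⊓ V) ≤ 4 := Nat.le_of_dvd (by norm_num) hdvd
  have h4 : Nat.card ↥(kaSq T ⊓ V) = 4 := by
    have hpos : 0 < Nat.card ↥(kaSq T ⊓ V) := Nat.card_pos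
    interval_cases hcard : Nat.card ↥(kaSq T ⊓ V) <;> simp_all
  have heq : kaSq T ⊓ V = V :=
    Subgroup.eq_of_le_of_card_ge inf_le_right (by rw [h4, hV4])
  rw [← heq]
  exact inf_le_left

/-- squaring on the centre -/
def kaSqHom (T : Type*) [Group T] : ↥(Subgroup.center T) →* ↥(Subgroup.center T) where
  toFun z := z ^ 2
  map_one' := one_pow 2
  map_mul' a b := by
    apply Subtype.ext
    have hc : Commute (a : T) (b : T) := (Subgroup.mem_center_iff.mp a.2 b).symm
    simpa using hc.mul_pow 2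

theorem kaSqHom_coe (z : ↥(Subgroup.center T)) : ((kaSqHom T z : ↥(Subgroup.center T)) : T) =
    (z : T) ^ 2 := rfl

/-- the quotient of the centre by its squares has order four -/
theorem ka_index_sq [Finite T] (V : Subgroup T)
    (hV : ∀ x : T, x ∈ V ↔ x ^ 2 = 1) (hVc : V ≤ Subgroup.center T) (hV4 : Nat.card V = 4) :
    Nat.card (↥(Subgroup.center T) ⧸ (kaSqHom T).range) = 4 := by
  set sq : ↥(Subgroup.center T) →* ↥(Subgroup.center T) := kaSqHom T with hsq
  have hker : Nat.card sq.ker = 4 := by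
    rw [← hV4]
    refine Nat.card_congr ⟨fun z => ⟨((z : ↥(Subgroup.center T)) : T), ?_⟩,
      fun v => ⟨⟨(v : T), hVc v.2⟩, ?_⟩, ?_, ?_⟩
    · have hz : sq (z : ↥(Subgroup.center T)) = 1 := z.2
      rw [hV]
      have := congrArg (fun w : ↥(Subgroup.center T) => (w : T)) hz
      simpa [hsq, kaSqHom_coe] using this
    · show sq ⟨(v : T), hVc v.2⟩ = 1
      apply Subtype.ext
      have := (hV (v : T)).mp v.2
      rw [hsq, kaSqHom_coe]
      simpa using this
    · intro z; rfl
    · intro v; rfl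
  have h1 := Subgroup.card_mul_index sq.range
  have h2 := Subgroup.card_mul_index sq.ker
  rw [Subgroup.index_ker, hker] at h2
  have hpos : 0 < Nat.card sq.range := Nat.card_pos
  have h3 : sq.range.index = 4 := by
    have : Nat.card sq.range * sq.range.index = Nat.card sq.range * 4 := by
      rw [h1, ← h2, mul_comm]
    exact Nat.eq_of_mul_eq_mul_left hpos this
  exact h3

/-- if `V` consists of squares of central elements, then `T / Z(T)` has at most four elements of
order at most two -/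
theorem ka_card_le [Finite T] (hc : C2 T) (V : Subgroup T)
    (hV : ∀ x : T, x ∈ V ↔ x ^ 2 = 1) (hVc : V ≤ Subgroup.center T) (hV4 : Nat.card V = 4)
    (hVS : V ≤ kaSq T) :
    Nat.card {b : T ⧸ Subgroup.center T // b ^ 2 = 1} ≤ 4 := by
  classical
  set sq : ↥(Subgroup.center T) →* ↥(Subgroup.center T) := kaSqHom T with hsq
  have hmem : ∀ b : {b : T ⧸ Subgroup.center T // b ^ 2 = 1},
      (Quotient.out b.1 : T) ^ 2 ∈ Subgroup.center T := by
    intro b
    rw [← QuotientGroup.eq_one_iff, QuotientGroup.mk_pow, QuotientGroup.out_eq']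
    exact b.2
  let f : {b : T ⧸ Subgroup.center T // b ^ 2 = 1} → ↥(Subgroup.center T) ⧸ sq.range :=
    fun b => QuotientGroup.mk ⟨(Quotient.out b.1 : T) ^ 2, hmem b⟩
  have hf : Function.Injective f := by
    intro b b' hbb
    have h1 : (⟨(Quotient.out b.1 : T) ^ 2, hmem b⟩ : ↥(Subgroup.center T))⁻¹ *
        ⟨(Quotient.out b'.1 : T) ^ 2, hmem b'⟩ ∈ sq.range := QuotientGroup.eq.mp hbb
    obtain ⟨w, hw⟩ := h1
    set x := (Quotient.out b.1 : T) with hx
    set x' := (Quotient.out b'.1 : T) with hx'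
    have hw' : ((w : T)) ^ 2 = (x ^ 2)⁻¹ * x' ^ 2 := by
      have := congrArg (fun u : ↥(Subgroup.center T) => (u : T)) hw
      rw [hsq, kaSqHom_coe] at this
      simpa using this
    -- the commutator c = ⁅x', x⁻¹⁆ has order at most two, hence is a central square
    have hc2 : ⁅x', x⁻¹⁆ ^ 2 = 1 := by
      rw [← hc.comm_pow_right, commutatorElement_eq_one_iff_commute]
      have hcen : (x⁻¹) ^ 2 ∈ Subgroup.center T := by
        rw [inv_pow]
        exact Subgroup.inv_mem _ (hmem b)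
      exact (Subgroup.mem_center_iff.mp hcen x')
    obtain ⟨w', hw'Z, hw'2⟩ := hVS ((hV _).mpr hc2)
    have hsqeq : (x⁻¹ * x') ^ 2 = ((w : T) * w') ^ 2 := by
      rw [hc.mul_sq, ← hw'2, inv_pow, ← hw']
      have hcw : Commute (w : T) w' := (Subgroup.mem_center_iff.mp w.2 w').symm
      rw [hcw.mul_pow]
    have hcen : (w : T) * w' ∈ Subgroup.center T := Subgroup.mul_mem _ w.2 hw'Z
    have hy : (x⁻¹ * x' * ((w : T) * w')⁻¹) ^ 2 = 1 := by
      have hcomm : Commute (x⁻¹ * x') ((w : T) * w')⁻¹ :=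
        (Subgroup.mem_center_iff.mp (Subgroup.inv_mem _ hcen) (x⁻¹ * x'))
      rw [hcomm.mul_pow, hsqeq, inv_pow, mul_inv_cancel]
    have hyZ : x⁻¹ * x' * ((w : T) * w')⁻¹ ∈ Subgroup.center T := hVc ((hV _).mpr hy)
    have hxx : x⁻¹ * x' ∈ Subgroup.center T := by
      have := Subgroup.mul_mem _ hyZ hcen
      simpa [mul_assoc] using this
    have : (QuotientGroup.mk x : T ⧸ Subgroup.center T) = QuotientGroup.mk x' :=
      QuotientGroup.eq.mpr hxx
    apply Subtype.ext
    rw [← QuotientGroup.out_eq' b.1, ← QuotientGroup.out_eq' b'.1]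
    exact this
  have := Nat.card_le_card_of_injective f hf
  rwa [ka_index_sq V hV hVc hV4] at this

/-- if `T / Z(T)` is generated by `b` and its image, then `T` is abelian -/
theorem ka_abelian_of_gen [Finite T] {ρ : MulAut T} (h : Fpf3 ρ) (b : T ⧸ Subgroup.center T)
    (hb : Subgroup.closure {b, quotAut (Subgroup.center T) ρ (e2_inv_center ρ) b} = ⊤) :
    ∀ a c : T, a * c = c * a := by
  obtain ⟨x, rfl⟩ := QuotientGroup.mk_surjective b
  have hxC : x ∈ Subgroup.centralizer ({x} : Set T) := by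
    rw [Subgroup.mem_centralizer_iff]
    intro s hs
    rw [Set.mem_singleton_iff.mp hs]
  have hρC : ρ x ∈ Subgroup.centralizer ({x} : Set T) := by
    rw [Subgroup.mem_centralizer_iff]
    intro s hs
    rw [Set.mem_singleton_iff.mp hs]
    exact h.comm x
  have htop : Subgroup.centralizer ({x} : Set T) = ⊤ := by
    rw [eq_top_iff]
    intro t _
    have hle : Subgroup.closure {(QuotientGroup.mk x : T ⧸ Subgroup.center T),
        quotAut (Subgroup.center T) ρ (e2_inv_center ρ) (QuotientGroup.mk x)} ≤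
        (Subgroup.centralizer ({x} : Set T)).map (QuotientGroup.mk' (Subgroup.center T)) := by
      rw [Subgroup.closure_le]
      intro y hy
      rcases hy with rfl | hy
      · exact ⟨x, hxC, rfl⟩
      · rw [Set.mem_singleton_iff.mp hy]
        exact ⟨ρ x, hρC, rfl⟩
    rw [hb] at hle
    obtain ⟨c, hcC, hct⟩ := hle (Subgroup.mem_top (QuotientGroup.mk t))
    have hZ : c⁻¹ * t ∈ Subgroup.center T := QuotientGroup.eq.mp hct
    have : t = c * (c⁻¹ * t) := by group
    rw [this]
    exact Subgroup.mul_mem _ hcC (Subgroup.center_le_centralizer _ hZ)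
  have hxZ : x ∈ Subgroup.center T := by
    rw [Subgroup.mem_center_iff]
    intro g
    have hg : g ∈ Subgroup.centralizer ({x} : Set T) := htop ▸ Subgroup.mem_top g
    exact ((Subgroup.mem_centralizer_iff.mp hg) x rfl).symm
  have hb1 : (QuotientGroup.mk x : T ⧸ Subgroup.center T) = 1 :=
    (QuotientGroup.eq_one_iff x).mpr hxZ
  rw [hb1, map_one] at hb
  have hall : ∀ t : T, t ∈ Subgroup.center T := by
    intro t
    have : (QuotientGroup.mk t : T ⧸ Subgroup.center T) ∈
        Subgroup.closure {(1 : T ⧸ Subgroup.center T), 1} := hb ▸ Subgroup.mem_top _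
    have hle : Subgroup.closure {(1 : T ⧸ Subgroup.center T), 1} ≤ ⊥ := by
      rw [Subgroup.closure_le]
      intro y hy
      rcases hy with rfl | hy
      · exact Subgroup.one_mem _
      · rw [Set.mem_singleton_iff.mp hy]; exact Subgroup.one_mem _
    exact (QuotientGroup.eq_one_iff t).mp (Subgroup.mem_bot.mp (hle this))
  intro a c
  exact (Subgroup.mem_center_iff.mp (hall a) c).symm

/-- the centre equals `V` -/
theorem ka_center_eq [Finite T] (hT : IsPGroup 2 T) {ρ : MulAut T} (h : Fpf3 ρ) (V : Subgroup T)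
    (hV : ∀ x : T, x ∈ V ↔ x ^ 2 = 1) (hVc : V ≤ Subgroup.center T) (hV4 : Nat.card V = 4)
    (hna : ∃ a b : T, a * b ≠ b * a) : Subgroup.center T = V := by
  by_contra hne
  have hc : C2 T := e2_class_two hT h
  have hVS := ka_V_le_sq hT h V hV hVc hV4 hne
  have hO := ka_card_le hc V hV hVc hV4 hVS
  have hab : ∀ a b : T ⧸ Subgroup.center T, a * b = b * a := by
    intro a b
    induction a using QuotientGroup.induction_on with
    | H a =>
      induction b using QuotientGroup.induction_on with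
      | H b =>
        rw [← QuotientGroup.mk_mul, ← QuotientGroup.mk_mul, C2.mul_eq a b, QuotientGroup.mk_mul,
          (QuotientGroup.eq_one_iff _).mpr (hc a b), one_mul]
  obtain ⟨b, hb⟩ := l2p_two_gen (hT.to_quotient _)
    (Fpf3.quot h (Subgroup.center T) (e2_inv_center ρ)) hab hO
  obtain ⟨a, c, hac⟩ := hna
  exact hac (ka_abelian_of_gen h b hb a c)

/-- Ka: steps (i)-(iv) of (K): a nonabelian such group has centre `V` and all squares in `V`.
Uses `e2_class_two`, `l2p_two_gen`. -/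
theorem k_center [Finite T] (hT : IsPGroup 2 T) {ρ : MulAut T} (h : Fpf3 ρ) (V : Subgroup T)
    (hV : ∀ x : T, x ∈ V ↔ x ^ 2 = 1) (hVc : V ≤ Subgroup.center T) (hV4 : Nat.card V = 4)
    (hna : ∃ a b : T, a * b ≠ b * a) : Subgroup.center T = V ∧ ∀ x : T, x ^ 2 ∈ V := by
  classical
  have hZ := ka_center_eq hT h V hV hVc hV4 hna
  refine ⟨hZ, ?_⟩
  have hc : C2 T := e2_class_two hT h
  intro x
  by_contra hx2
  have hex : ∃ k : ℕ, x ^ 2 ^ k ∈ V := by
    obtain ⟨k, hk⟩ := hT x
    exact ⟨k, by rw [hk]; exact Subgroup.one_mem _⟩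
  set m := Nat.find hex with hm
  have hm1 : x ^ 2 ^ m ∈ V := Nat.find_spec hex
  have hm2 : 2 ≤ m := by
    by_contra hlt
    have : m = 0 ∨ m = 1 := by omega
    rcases this with h0 | h0
    · rw [h0] at hm1
      apply hx2
      have hxV : x ∈ V := by simpa using hm1
      rw [(hV x).mp hxV]
      exact Subgroup.one_mem _
    · rw [h0] at hm1
      apply hx2
      simpa using hm1
  obtain ⟨j, hj⟩ : ∃ j, m = j + 2 := ⟨m - 2, by omega⟩
  have hw : x ^ 2 ^ (j + 1) ∉ V := Nat.find_min hex (m := j + 1) (by omega)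
  apply hw
  rw [← hZ, Subgroup.mem_center_iff]
  intro g
  have e : x ^ 2 ^ (j + 1) = (x ^ 2 ^ j) ^ 2 := by rw [← pow_mul, ← pow_succ]
  have hcomm : ⁅x ^ 2 ^ (j + 1), g⁆ = 1 := by
    rw [e, hc.comm_pow_left]
    have : ⁅x ^ 2 ^ j, g⁆ ∈ V := hZ ▸ hc (x ^ 2 ^ j) g
    exact (hV _).mp this
  exact ((commutatorElement_eq_one_iff_commute.mp hcomm).eq).symm

end Cfsg.Agent.Lib.Lead.Hx3
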