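import Mathlib
import Cfsg.Agent.Lib.Lead.Hx3Defs
import Cfsg.Agent.Lib.Lead.Hx3Calc
import Cfsg.Agent.Lib.Helper2.Hx3KA
import Cfsg.Agent.Lib.Helper5.Hx3CW

set_option autoImplicit false

/-!
# S2933 / S1237 swarm, package KB: classification (K) of the two-groups with a fixed-point-free
automorphism of order three whose involutions form a central four-group
(paper `notes/S2933_S1237_paper_lead.md`, (K) (v)).
-/

namespace Cfsg.Agent.Lib.Lead.Hx3

open Cfsg.Agent.Lib.Helper3.S64
open scoped commutatorElement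

variable {T : Type*} [Group T]

/-- an element commuting with its two images under `ρ`, in a group of order sixteen whose centre
has order four, is central -/
theorem kb_sixteen [Finite T] {ρ : MulAut T} (h : Fpf3 ρ) (hcard : Nat.card T = 16)
    (hZ4 : Nat.card (Subgroup.center T) = 4) (x : T) : x ∈ Subgroup.center T := by
  by_contra hx
  -- D = centralizer of {x, ρ x, ρ² x} is ρ-invariant and contains the centre and x
  set D : Subgroup T := Subgroup.centralizer ({x, ρ x, ρ (ρ x)} : Set T) with hD
  have hmemD : ∀ g : T, g ∈ D ↔ (x * g = g * x ∧ ρ x * g = g * ρ x ∧ ρ (ρ x) * g = g * ρ (ρ x)) := by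
    intro g
    rw [hD, Subgroup.mem_centralizer_iff]
    constructor
    · intro hg
      exact ⟨hg x (by simp), hg (ρ x) (by simp), hg (ρ (ρ x)) (by simp)⟩
    · rintro ⟨h1, h2, h3⟩ s hs
      rcases hs with rfl | rfl | hs
      · exact h1
      · exact h2
      · rw [Set.mem_singleton_iff.mp hs]; exact h3
  have hInv : Inv ρ D := by
    intro g hg
    rw [hmemD] at hg ⊢
    obtain ⟨h1, h2, h3⟩ := hg
    refine ⟨?_, ?_, ?_⟩
    · -- x = ρ (ρ² x)
      have := congrArg ρ h3
      simpa [map_mul, h.cube] using this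
    · have := congrArg ρ h1
      simpa [map_mul] using this
    · have := congrArg ρ h2
      simpa [map_mul] using this
  have hxD : x ∈ D := by
    rw [hmemD]
    exact ⟨rfl, (h.comm x).symm, (h.comm_sq x).symm⟩
  have hZD : Subgroup.center T ≤ D := Subgroup.center_le_centralizer _
  have hmod := h.card_mod D hInv
  have hdvd : Nat.card D ∣ 16 := hcard ▸ Subgroup.card_subgroup_dvd_card D
  have hlt : 4 < Nat.card D := by
    rw [← hZ4]
    have hlt' : Subgroup.center T < D := lt_of_le_of_ne hZD (fun heq => hx (heq ▸ hxD))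
    exact Set.ncard_lt_ncard hlt' (Set.toFinite _)
  have hle : Nat.card D ≤ 16 := Nat.le_of_dvd (by norm_num) hdvd
  have h16 : Nat.card D = 16 := by
    interval_cases hc : Nat.card D <;> simp_all
  have htop : D = ⊤ := by
    apply Subgroup.eq_top_of_card_eq
    rw [h16, hcard]
  apply hx
  rw [Subgroup.mem_center_iff]
  intro g
  have hg : g ∈ D := htop ▸ Subgroup.mem_top g
  exact ((hmemD g).mp hg).1.symm

/-- Kb: (K).  Uses Ka, `cw_bound`, `l2p_two_gen`. -/
theorem k_class [Finite T] (hT : IsPGroup 2 T) {ρ : MulAut T} (h : Fpf3 ρ) (V : Subgroup T)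
    (hV : ∀ x : T, x ∈ V ↔ x ^ 2 = 1) (hVc : V ≤ Subgroup.center T) (hV4 : Nat.card V = 4) :
    ((∀ a b : T, a * b = b * a) ∧ ∃ b : T, Subgroup.closure {b, ρ b} = ⊤) ∨
      (Nat.card T = 64 ∧ ∃ a b : T, a * b ≠ b * a) := by
  by_cases hab : ∀ a b : T, a * b = b * a
  · left
    refine ⟨hab, ?_⟩
    apply l2p_two_gen hT h hab
    have : Nat.card {x : T // x ^ 2 = 1} = Nat.card V := by
      apply Nat.card_congr
      exact ⟨fun x => ⟨x.1, (hV _).mpr x.2⟩, fun v => ⟨v.1, (hV _).mp v.2⟩, fun _ => rfl,
        fun _ => rfl⟩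
    rw [this, hV4]
  · right
    have hna : ∃ a b : T, a * b ≠ b * a := by
      by_contra hcon
      apply hab
      intro a b
      by_contra hab'
      exact hcon ⟨a, b, hab'⟩
    refine ⟨?_, hna⟩
    obtain ⟨hZ, hsq⟩ := k_center hT h V hV hVc hV4 hna
    have hc : C2 T := e2_class_two hT h
    have hcomm : ∀ g k : T, ⁅g, k⁆ ∈ V := fun g k => hZ ▸ hc g k
    have hle := cw_bound V hVc hV4 (fun v hv => (hV v).mp hv) hsq hcomm
      (fun g hg => (hV g).mpr hg)
    obtain ⟨n, hn⟩ := hT.exists_card_eq
    have hmod : Nat.card T % 3 = 1 := by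
      have := h.card_mod ⊤ (fun _ _ => Subgroup.mem_top _)
      rwa [Subgroup.card_top] at this
    have hge : 4 ≤ Nat.card T := by
      rw [← hV4]
      exact Subgroup.card_le_card_group V
    have hn6 : n ≤ 6 := by
      by_contra hgt
      have : 2 ^ 7 ≤ 2 ^ n := Nat.pow_le_pow_right (by norm_num) (by omega)
      omega
    rw [hn] at hle hmod hge ⊢
    interval_cases n <;> simp at hmod hge ⊢
    · -- order 4: T = V is abelian
      exfalso
      have htop : V = ⊤ := by
        apply Subgroup.eq_top_of_card_eq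
        rw [hV4, hn]; norm_num
      obtain ⟨a, b, hab'⟩ := hna
      apply hab'
      have ha : a ∈ Subgroup.center T := hVc (htop ▸ Subgroup.mem_top a)
      exact (Subgroup.mem_center_iff.mp ha b).symm
    · -- order 16
      exfalso
      obtain ⟨a, b, hab'⟩ := hna
      apply hab'
      have hZ4 : Nat.card (Subgroup.center T) = 4 := by rw [hZ, hV4]
      have ha := kb_sixteen h (by rw [hn]; norm_num) hZ4 a
      exact (Subgroup.mem_center_iff.mp ha b).symm

end Cfsg.Agent.Lib.Lead.Hx3
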