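import Mathlib
import Cfsg.Prelude.Def_Classical

/-!
# Isometric forms have isomorphic isometry groups (S4629–S4631 swarm, PK-ISO)

For `Q₁ : (ι₁ → F) → F`, `Q₂ : (ι₂ → F) → F` and a linear equivalence `e` with `Q₂ (e v) = Q₁ v`,
`isoOfLinearEquiv e h : isometryGroup F Q₁ ≃* isometryGroup F Q₂`, `g ↦ e ∘ g ∘ e⁻¹`.
-/

set_option autoImplicit false
set_option linter.unusedSectionVars false

namespace Cfsg.Agent.Lib.Helper2

namespace IsoLin

open Matrix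

variable {F : Type*} [Field F]
variable {ι₁ ι₂ : Type} [Fintype ι₁] [DecidableEq ι₁] [Fintype ι₂] [DecidableEq ι₂]

/-- the matrix of a linear equivalence between coordinate spaces -/
noncomputable def mat (e : (ι₁ → F) ≃ₗ[F] (ι₂ → F)) : Matrix ι₂ ι₁ F :=
  LinearMap.toMatrix' e.toLinearMap

theorem mat_mulVec (e : (ι₁ → F) ≃ₗ[F] (ι₂ → F)) (v : ι₁ → F) : mat e *ᵥ v = e v := by
  unfold mat
  rw [← Matrix.toLin'_apply, Matrix.toLin'_toMatrix']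
  rfl

theorem mat_mul_mat_symm (e : (ι₁ → F) ≃ₗ[F] (ι₂ → F)) : mat e * mat e.symm = 1 := by
  unfold mat
  rw [← LinearMap.toMatrix'_comp, ← LinearMap.toMatrix'_id]
  congr 1
  ext v : 1
  simp

theorem mat_symm_mul_mat (e : (ι₁ → F) ≃ₗ[F] (ι₂ → F)) : mat e.symm * mat e = 1 := by
  have := mat_mul_mat_symm e.symm
  rwa [LinearEquiv.symm_symm] at this

/-- conjugation of matrices by a linear equivalence -/
noncomputable def conjMat (e : (ι₁ → F) ≃ₗ[F] (ι₂ → F)) :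
    Matrix ι₁ ι₁ F ≃* Matrix ι₂ ι₂ F where
  toFun M := mat e * M * mat e.symm
  invFun N := mat e.symm * N * mat e
  left_inv M := by
    show mat e.symm * (mat e * M * mat e.symm) * mat e = M
    rw [Matrix.mul_assoc (mat e), ← Matrix.mul_assoc (mat e.symm), mat_symm_mul_mat, Matrix.one_mul,
      Matrix.mul_assoc, mat_symm_mul_mat, Matrix.mul_one]
  right_inv N := by
    show mat e * (mat e.symm * N * mat e) * mat e.symm = N
    rw [Matrix.mul_assoc (mat e.symm), ← Matrix.mul_assoc (mat e), mat_mul_mat_symm, Matrix.one_mul,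
      Matrix.mul_assoc, mat_mul_mat_symm, Matrix.mul_one]
  map_mul' M N := by
    show mat e * (M * N) * mat e.symm = mat e * M * mat e.symm * (mat e * N * mat e.symm)
    have : mat e * M * mat e.symm * (mat e * N * mat e.symm) =
        mat e * M * (mat e.symm * mat e) * N * mat e.symm := by
      simp only [Matrix.mul_assoc]
    rw [this, mat_symm_mul_mat, Matrix.mul_one]
    simp only [Matrix.mul_assoc]

theorem conjMat_mulVec (e : (ι₁ → F) ≃ₗ[F] (ι₂ → F)) (M : Matrix ι₁ ι₁ F) (w : ι₂ → F) :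
    conjMat e M *ᵥ w = e (M *ᵥ e.symm w) := by
  show (mat e * M * mat e.symm) *ᵥ w = _
  rw [← Matrix.mulVec_mulVec, ← Matrix.mulVec_mulVec, mat_mulVec, mat_mulVec]

/-- conjugation of invertible matrices -/
noncomputable def conjGL (e : (ι₁ → F) ≃ₗ[F] (ι₂ → F)) :
    Matrix.GeneralLinearGroup ι₁ F ≃* Matrix.GeneralLinearGroup ι₂ F :=
  Units.mapEquiv (conjMat e)

theorem conjGL_coe (e : (ι₁ → F) ≃ₗ[F] (ι₂ → F)) (g : Matrix.GeneralLinearGroup ι₁ F) :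
    ((conjGL e g : Matrix.GeneralLinearGroup ι₂ F) : Matrix ι₂ ι₂ F) =
      conjMat e (g : Matrix ι₁ ι₁ F) := rfl

theorem conjGL_symm_coe (e : (ι₁ → F) ≃ₗ[F] (ι₂ → F)) (g : Matrix.GeneralLinearGroup ι₂ F) :
    (((conjGL e).symm g : Matrix.GeneralLinearGroup ι₁ F) : Matrix ι₁ ι₁ F) =
      (conjMat e).symm (g : Matrix ι₂ ι₂ F) := rfl

theorem conjGL_mulVec (e : (ι₁ → F) ≃ₗ[F] (ι₂ → F)) (g : Matrix.GeneralLinearGroup ι₁ F)
    (w : ι₂ → F) :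
    ((conjGL e g : Matrix.GeneralLinearGroup ι₂ F) : Matrix ι₂ ι₂ F) *ᵥ w =
      e ((g : Matrix ι₁ ι₁ F) *ᵥ e.symm w) := by
  rw [conjGL_coe, conjMat_mulVec]

theorem mem_iff (e : (ι₁ → F) ≃ₗ[F] (ι₂ → F)) (Q₁ : (ι₁ → F) → F) (Q₂ : (ι₂ → F) → F)
    (h : ∀ v, Q₂ (e v) = Q₁ v) (g : Matrix.GeneralLinearGroup ι₁ F) :
    g ∈ Cfsg.isometryGroup F Q₁ ↔ conjGL e g ∈ Cfsg.isometryGroup F Q₂ := by
  constructor
  · intro hg w _
    show Q₂ (((conjGL e g : Matrix.GeneralLinearGroup ι₂ F) : Matrix ι₂ ι₂ F) *ᵥ w) = Q₂ w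
    rw [conjGL_mulVec, h]
    have h1 : Q₁ ((g : Matrix ι₁ ι₁ F) *ᵥ e.symm w) = Q₁ (e.symm w) := hg (e.symm w) (e.symm w)
    rw [h1, ← h, LinearEquiv.apply_symm_apply]
  · intro hg u _
    show Q₁ ((g : Matrix ι₁ ι₁ F) *ᵥ u) = Q₁ u
    have h1 : Q₂ (((conjGL e g : Matrix.GeneralLinearGroup ι₂ F) : Matrix ι₂ ι₂ F) *ᵥ e u) =
        Q₂ (e u) := hg (e u) (e u)
    rw [conjGL_mulVec, h, h, LinearEquiv.symm_apply_apply] at h1
    exact h1

/-- **PK-ISO**: isometric forms have isomorphic isometry groups -/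
noncomputable def isoOfLinearEquiv (e : (ι₁ → F) ≃ₗ[F] (ι₂ → F)) {Q₁ : (ι₁ → F) → F}
    {Q₂ : (ι₂ → F) → F} (h : ∀ v, Q₂ (e v) = Q₁ v) :
    ↥(Cfsg.isometryGroup F Q₁) ≃* ↥(Cfsg.isometryGroup F Q₂) where
  toFun g := ⟨conjGL e g.1, (mem_iff e Q₁ Q₂ h g.1).1 g.2⟩
  invFun g := ⟨(conjGL e).symm g.1, by
    rw [mem_iff e Q₁ Q₂ h, MulEquiv.apply_symm_apply]
    exact g.2⟩
  left_inv g := by
    apply Subtype.ext
    exact (conjGL e).symm_apply_apply g.1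
  right_inv g := by
    apply Subtype.ext
    exact (conjGL e).apply_symm_apply g.1
  map_mul' g k := by
    apply Subtype.ext
    exact map_mul (conjGL e) g.1 k.1

theorem isoOfLinearEquiv_mulVec (e : (ι₁ → F) ≃ₗ[F] (ι₂ → F)) {Q₁ : (ι₁ → F) → F}
    {Q₂ : (ι₂ → F) → F} (h : ∀ v, Q₂ (e v) = Q₁ v) (g : ↥(Cfsg.isometryGroup F Q₁))
    (w : ι₂ → F) :
    ((isoOfLinearEquiv e h g : Matrix.GeneralLinearGroup ι₂ F) : Matrix ι₂ ι₂ F) *ᵥ w =
      e (((g : Matrix.GeneralLinearGroup ι₁ F) : Matrix ι₁ ι₁ F) *ᵥ e.symm w) :=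
  conjGL_mulVec e g.1 w

theorem isoOfLinearEquiv_mulVec_apply (e : (ι₁ → F) ≃ₗ[F] (ι₂ → F)) {Q₁ : (ι₁ → F) → F}
    {Q₂ : (ι₂ → F) → F} (h : ∀ v, Q₂ (e v) = Q₁ v) (g : ↥(Cfsg.isometryGroup F Q₁))
    (v : ι₁ → F) :
    ((isoOfLinearEquiv e h g : Matrix.GeneralLinearGroup ι₂ F) : Matrix ι₂ ι₂ F) *ᵥ e v =
      e (((g : Matrix.GeneralLinearGroup ι₁ F) : Matrix ι₁ ι₁ F) *ᵥ v) := by
  rw [isoOfLinearEquiv_mulVec, LinearEquiv.symm_apply_apply]

/-- the determinant is preserved -/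
theorem det_isoOfLinearEquiv (e : (ι₁ → F) ≃ₗ[F] (ι₂ → F)) {Q₁ : (ι₁ → F) → F}
    {Q₂ : (ι₂ → F) → F} (h : ∀ v, Q₂ (e v) = Q₁ v) (g : ↥(Cfsg.isometryGroup F Q₁)) :
    (((isoOfLinearEquiv e h g : Matrix.GeneralLinearGroup ι₂ F) : Matrix ι₂ ι₂ F)).det =
      (((g : Matrix.GeneralLinearGroup ι₁ F) : Matrix ι₁ ι₁ F)).det := by
  show (mat e * (g.1 : Matrix ι₁ ι₁ F) * mat e.symm).det = _
  exact Matrix.det_conj_of_mul_eq_one (mat_mul_mat_symm e) (mat_symm_mul_mat e)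

/-- the commutator subgroups correspond -/
noncomputable def commutatorEquiv {G H : Type*} [Group G] [Group H] (f : G ≃* H) :
    ↥(commutator G) ≃* ↥(commutator H) :=
  (f.subgroupMap (commutator G)).trans (MulEquiv.subgroupCongr (by
    rw [commutator_def, commutator_def]
    show Subgroup.map f.toMonoidHom ⁅(⊤ : Subgroup G), ⊤⁆ = _
    rw [Subgroup.map_commutator, ← MonoidHom.range_eq_map,
      MonoidHom.range_eq_top.2 f.surjective]))

theorem commutatorEquiv_coe {G H : Type*} [Group G] [Group H] (f : G ≃* H)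
    (x : ↥(commutator G)) : ((commutatorEquiv f x : ↥(commutator H)) : H) = f x := rfl

/-- isometric forms: the groups `Ω` correspond -/
noncomputable def omegaEquiv (e : (ι₁ → F) ≃ₗ[F] (ι₂ → F)) {Q₁ : (ι₁ → F) → F}
    {Q₂ : (ι₂ → F) → F} (h : ∀ v, Q₂ (e v) = Q₁ v) :
    ↥(Cfsg.Omega F Q₁) ≃* ↥(Cfsg.Omega F Q₂) :=
  commutatorEquiv (isoOfLinearEquiv e h)

end IsoLin

end Cfsg.Agent.Lib.Helper2
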