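import Mathlib
import Cfsg.Prelude.Def_Classical

set_option autoImplicit false

namespace Cfsg.Agent.Lib.Helper2

namespace IsoRingEquiv

open Matrix

variable {F K : Type*} [Field F] [Field K] {ι : Type} [Fintype ι] [DecidableEq ι]

theorem map_coe (f : F →+* K) (g : Matrix.GeneralLinearGroup ι F) :
    ((Matrix.GeneralLinearGroup.map f g : Matrix.GeneralLinearGroup ι K) : Matrix ι ι K) =
      (g : Matrix ι ι F).map f := by
  ext i j
  exact Matrix.GeneralLinearGroup.map_apply f i j g

theorem map_mem (e : F ≃+* K) (QF : (ι → F) → F) (QK : (ι → K) → K)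
    (h : ∀ v : ι → F, QK (fun i => e (v i)) = e (QF v))
    (g : Matrix.GeneralLinearGroup ι F) (hg : g ∈ Cfsg.isometryGroup F QF) :
    Matrix.GeneralLinearGroup.map e.toRingHom g ∈ Cfsg.isometryGroup K QK := by
  intro u _
  show QK (((Matrix.GeneralLinearGroup.map e.toRingHom g : Matrix.GeneralLinearGroup ι K) :
    Matrix ι ι K) *ᵥ u) = QK u
  obtain ⟨v, hv⟩ : ∃ v : ι → F, v = fun i => e.symm (u i) := ⟨_, rfl⟩
  have hu : u = fun i => e (v i) := by
    funext i
    rw [hv]
    simp
  have hg' : QF ((g : Matrix ι ι F) *ᵥ v) = QF v := hg v v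
  rw [map_coe]
  have h1 : (g : Matrix ι ι F).map e.toRingHom *ᵥ u =
      fun i => e (((g : Matrix ι ι F) *ᵥ v) i) := by
    funext i
    rw [hu]
    exact (RingHom.map_mulVec e.toRingHom (g : Matrix ι ι F) v i).symm
  rw [h1, h, hg', hu, h]

/-- a ring isomorphism of the base fields identifies the isometry groups of corresponding forms -/
theorem isometryGroup_equiv (e : F ≃+* K) (QF : (ι → F) → F) (QK : (ι → K) → K)
    (h : ∀ v : ι → F, QK (fun i => e (v i)) = e (QF v)) :
    Nonempty (↥(Cfsg.isometryGroup F QF) ≃* ↥(Cfsg.isometryGroup K QK)) := by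
  have h' : ∀ w : ι → K, QF (fun i => e.symm (w i)) = e.symm (QK w) := by
    intro w
    apply e.injective
    rw [← h, RingEquiv.apply_symm_apply]
    congr 1
    funext i
    simp
  refine ⟨
    { toFun := fun g => ⟨Matrix.GeneralLinearGroup.map e.toRingHom g.1, map_mem e QF QK h g.1 g.2⟩
      invFun := fun g => ⟨Matrix.GeneralLinearGroup.map e.symm.toRingHom g.1,
        map_mem e.symm QK QF h' g.1 g.2⟩
      left_inv := ?_
      right_inv := ?_
      map_mul' := ?_ }⟩
  · intro g
    apply Subtype.ext
    apply Units.ext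
    ext i j
    simp
  · intro g
    apply Subtype.ext
    apply Units.ext
    ext i j
    simp
  · intro g g'
    apply Subtype.ext
    simp

end IsoRingEquiv

end Cfsg.Agent.Lib.Helper2
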