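import Mathlib
import Cfsg.Prelude.Def_Classical
import Cfsg.Prelude.Def_ClassicalGeometry
import Cfsg.Agent.Lib.Helper2.IsoRingEquiv

set_option autoImplicit false

namespace Cfsg.Agent.Lib.Helper2

namespace IsoRingEquiv

open Matrix

variable {F K : Type*} [Field F] [Field K] {ι : Type} [Fintype ι] [DecidableEq ι]

theorem h_symm (e : F ≃+* K) (QF : (ι → F) → F) (QK : (ι → K) → K)
    (h : ∀ v : ι → F, QK (fun i => e (v i)) = e (QF v)) :
    ∀ w : ι → K, QF (fun i => e.symm (w i)) = e.symm (QK w) := by
  intro w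
  apply e.injective
  rw [← h, RingEquiv.apply_symm_apply]
  congr 1
  funext i
  simp

/-- the explicit isomorphism of isometry groups induced by a ring isomorphism -/
noncomputable def isoEquiv (e : F ≃+* K) (QF : (ι → F) → F) (QK : (ι → K) → K)
    (h : ∀ v : ι → F, QK (fun i => e (v i)) = e (QF v)) :
    ↥(Cfsg.isometryGroup F QF) ≃* ↥(Cfsg.isometryGroup K QK) where
  toFun g := ⟨Matrix.GeneralLinearGroup.map e.toRingHom g.1, map_mem e QF QK h g.1 g.2⟩
  invFun g := ⟨Matrix.GeneralLinearGroup.map e.symm.toRingHom g.1,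
    map_mem e.symm QK QF (h_symm e QF QK h) g.1 g.2⟩
  left_inv g := by
    apply Subtype.ext
    apply Units.ext
    ext i j
    simp
  right_inv g := by
    apply Subtype.ext
    apply Units.ext
    ext i j
    simp
  map_mul' g g' := by
    apply Subtype.ext
    simp

theorem det_map (e : F ≃+* K) (g : Matrix.GeneralLinearGroup ι F) :
    Matrix.GeneralLinearGroup.det (Matrix.GeneralLinearGroup.map e.toRingHom g) =
      Units.map e.toRingHom.toMonoidHom (Matrix.GeneralLinearGroup.det g) := by
  apply Units.ext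
  show ((Matrix.GeneralLinearGroup.map e.toRingHom g : Matrix.GeneralLinearGroup ι K) :
    Matrix ι ι K).det = e.toRingHom ((g : Matrix ι ι F).det)
  rw [map_coe, RingHom.map_det]
  rfl

theorem mem_special_iff (e : F ≃+* K) (QF : (ι → F) → F) (QK : (ι → K) → K)
    (h : ∀ v : ι → F, QK (fun i => e (v i)) = e (QF v)) (g : ↥(Cfsg.isometryGroup F QF)) :
    isoEquiv e QF QK h g ∈ Cfsg.specialIsometryGroup K QK ↔
      g ∈ Cfsg.specialIsometryGroup F QF := by
  unfold Cfsg.specialIsometryGroup
  rw [MonoidHom.mem_ker, MonoidHom.mem_ker, MonoidHom.comp_apply, MonoidHom.comp_apply]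
  show Matrix.GeneralLinearGroup.det (Matrix.GeneralLinearGroup.map e.toRingHom g.1) = 1 ↔ _
  rw [det_map]
  constructor
  · intro h1
    have hinj : Function.Injective (Units.map e.toRingHom.toMonoidHom) :=
      Units.map_injective e.injective
    apply hinj
    rw [map_one]
    exact h1
  · intro h1
    have h2 : Matrix.GeneralLinearGroup.det (g : Matrix.GeneralLinearGroup ι F) = 1 := h1
    rw [h2, map_one]

/-- a ring isomorphism of the base fields identifies the special isometry groups -/
theorem special_equiv (e : F ≃+* K) (QF : (ι → F) → F) (QK : (ι → K) → K)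
    (h : ∀ v : ι → F, QK (fun i => e (v i)) = e (QF v)) :
    Nonempty (↥(Cfsg.specialIsometryGroup F QF) ≃* ↥(Cfsg.specialIsometryGroup K QK)) := by
  have hmap : (Cfsg.specialIsometryGroup F QF).map (isoEquiv e QF QK h).toMonoidHom =
      Cfsg.specialIsometryGroup K QK := by
    ext x
    rw [Subgroup.mem_map]
    constructor
    · rintro ⟨g, hg, rfl⟩
      exact (mem_special_iff e QF QK h g).2 hg
    · intro hx
      refine ⟨(isoEquiv e QF QK h).symm x, ?_, ?_⟩
      · rw [← mem_special_iff e QF QK h]
        rw [MulEquiv.apply_symm_apply]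
        exact hx
      · exact (isoEquiv e QF QK h).apply_symm_apply x
  exact ⟨((isoEquiv e QF QK h).subgroupMap (Cfsg.specialIsometryGroup F QF)).trans
    (MulEquiv.subgroupCongr hmap)⟩

end IsoRingEquiv

end Cfsg.Agent.Lib.Helper2
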