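import Mathlib
import Cfsg.Agent.S0572

set_option autoImplicit false
open scoped commutatorElement

namespace Cfsg.Agent.Lib.Helper2.Ito

universe u
variable {G : Type u} [Group G]

/-- `G = A B` with `A`, `B` abelian subgroups. -/
structure Fz (A B : Subgroup G) : Prop where
  cA : ∀ x ∈ A, ∀ y ∈ A, x * y = y * x
  cB : ∀ x ∈ B, ∀ y ∈ B, x * y = y * x
  fac : ∀ g : G, ∃ a ∈ A, ∃ b ∈ B, g = a * b

theorem Fz.symm {A B : Subgroup G} (h : Fz A B) : Fz B A :=
  ⟨h.cB, h.cA, fun g => by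
    obtain ⟨a, ha, b, hb, e⟩ := h.fac g⁻¹
    exact ⟨b⁻¹, B.inv_mem hb, a⁻¹, A.inv_mem ha, by rw [← mul_inv_rev, ← e, inv_inv]⟩⟩

theorem Fz.comm_commutator {A B : Subgroup G} (h : Fz A B) :
    ∀ x ∈ commutator G, ∀ y ∈ commutator G, x * y = y * x := by
  haveI : IsMulCommutative A := ⟨⟨fun x y => Subtype.ext (h.cA x x.2 y y.2)⟩⟩
  haveI : IsMulCommutative B := ⟨⟨fun x y => Subtype.ext (h.cB x x.2 y y.2)⟩⟩
  have h2 := Cfsg.Agent.S0572.result A B h.fac
  intro x hx y hy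
  have : ⁅x, y⁆ ∈ derivedSeries G 2 := by
    rw [derivedSeries_succ, derivedSeries_one]
    exact Subgroup.commutator_mem_commutator hx hy
  rw [h2, Subgroup.mem_bot, commutatorElement_eq_one_iff_mul_comm] at this
  exact this

theorem Fz.conj_fac {A B : Subgroup G} (h : Fz A B) (g x : G) :
    ∃ a ∈ A, ∃ b ∈ B, x = g * a * g⁻¹ * b := by
  obtain ⟨b₁, hb₁, a₁, ha₁, rfl⟩ := h.symm.fac g
  obtain ⟨a, ha, b, hb, e⟩ := h.fac (b₁⁻¹ * x)
  refine ⟨a₁⁻¹ * a * a₁, A.mul_mem (A.mul_mem (A.inv_mem ha₁) ha) ha₁, b₁ * b, B.mul_mem hb₁ hb, ?_⟩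
  have : x = b₁ * (a * b) := by rw [← e]; group
  rw [this]; group

/-- no nontrivial normal subgroup inside a factor -/
def NoN (A B : Subgroup G) : Prop :=
  ∀ N : Subgroup G, N.Normal → N ≤ A ∨ N ≤ B → N = ⊥

theorem NoN.symm {A B : Subgroup G} (h : NoN A B) : NoN B A :=
  fun N hN hle => h N hN hle.symm

theorem eq_one_of_mem_center {A B : Subgroup G} (hno : NoN A B) {x : G} (hx : x ∈ A)
    (hc : x ∈ Subgroup.center G) : x = 1 := by
  have hn : (Subgroup.zpowers x).Normal := by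
    refine ⟨fun n hn g => ?_⟩
    have hnc : n ∈ Subgroup.center G := (Subgroup.zpowers_le.2 hc) hn
    rw [Subgroup.mem_center_iff] at hnc
    rw [hnc g, mul_inv_cancel_right]
    exact hn
  have := hno _ hn (Or.inl (Subgroup.zpowers_le.2 hx))
  have hx' : x ∈ Subgroup.zpowers x := Subgroup.mem_zpowers x
  rw [this, Subgroup.mem_bot] at hx'
  exact hx'

theorem mem_center_of_comm {A B : Subgroup G} (h : Fz A B) {x : G} (hx : x ∈ A)
    (hc : ∀ b ∈ B, x * b = b * x) : x ∈ Subgroup.center G := by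
  rw [Subgroup.mem_center_iff]
  intro g
  obtain ⟨a, ha, b, hb, rfl⟩ := h.fac g
  calc a * b * x = a * (b * x) := by group
    _ = a * (x * b) := by rw [hc b hb]
    _ = (a * x) * b := by group
    _ = (x * a) * b := by rw [h.cA a ha x hx]
    _ = x * (a * b) := by group

theorem centralizer_le {A B : Subgroup G} (h : Fz A B) (hno : NoN A B) {g : G}
    (hg : ∀ a ∈ A, g * a = a * g) : g ∈ A := by
  obtain ⟨a, ha, b, hb, rfl⟩ := h.fac g
  have hb1 : b = 1 := by
    apply eq_one_of_mem_center hno.symm hb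
    apply mem_center_of_comm h.symm hb
    intro a' ha'
    have := hg a' ha'
    calc b * a' = a⁻¹ * (a * b * a') := by group
      _ = a⁻¹ * (a' * (a * b)) := by rw [this]
      _ = a⁻¹ * (a' * a) * b := by group
      _ = a⁻¹ * (a * a') * b := by rw [h.cA a' ha' a ha]
      _ = a' * b := by group
  rw [hb1, mul_one]; exact ha

theorem conj_comm {A B : Subgroup G} (h : Fz A B)
    {a : G} (ha : a ∈ A) (hc : ∀ m ∈ commutator G, a * m = m * a) {b : G} (hb : b ∈ B)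
    {a' : G} (ha' : a' ∈ A) : (b * a * b⁻¹) * a' = a' * (b * a * b⁻¹) := by
  have hM := h.comm_commutator
  obtain ⟨m, hm⟩ : ∃ m, m = a' * b * a'⁻¹ * b⁻¹ := ⟨_, rfl⟩
  obtain ⟨c, hc'⟩ : ∃ c, c = b * a * b⁻¹ * a⁻¹ := ⟨_, rfl⟩
  have hmM : m ∈ commutator G := by
    rw [hm, commutator_def, ← commutatorElement_def]
    exact Subgroup.commutator_mem_commutator (Subgroup.mem_top _) (Subgroup.mem_top _)
  have hcM : c ∈ commutator G := by
    rw [hc', commutator_def, ← commutatorElement_def]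
    exact Subgroup.commutator_mem_commutator (Subgroup.mem_top _) (Subgroup.mem_top _)
  have e1 : a * m⁻¹ = m⁻¹ * a := hc _ ((commutator G).inv_mem hmM)
  have e2 : m * c = c * m := hM m hmM c hcM
  have e3 : a' * a = a * a' := h.cA a' ha' a ha
  have k1 : a' * (b * a * b⁻¹) * a'⁻¹ = m * b * (a' * a * a'⁻¹) * b⁻¹ * m⁻¹ := by
    rw [hm]; group
  have k2 : a' * a * a'⁻¹ = a := by rw [e3]; group
  have k3 : a' * (b * a * b⁻¹) * a'⁻¹ = b * a * b⁻¹ := by
    rw [k1, k2]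
    calc m * b * a * b⁻¹ * m⁻¹ = m * c * (a * m⁻¹) := by rw [hc']; group
      _ = m * c * (m⁻¹ * a) := by rw [e1]
      _ = (m * c) * m⁻¹ * a := by group
      _ = (c * m) * m⁻¹ * a := by rw [e2]
      _ = c * a := by group
      _ = b * a * b⁻¹ := by rw [hc']; group
  calc (b * a * b⁻¹) * a' = (a' * (b * a * b⁻¹) * a'⁻¹) * a' := by rw [k3]
    _ = a' * (b * a * b⁻¹) := by group

theorem eq_one_of_centralizes {A B : Subgroup G} (h : Fz A B) (hno : NoN A B) {a : G} (ha : a ∈ A)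
    (hc : ∀ m ∈ commutator G, a * m = m * a) : a = 1 := by
  have hle : Subgroup.normalClosure ({a} : Set G) ≤ A := by
    unfold Subgroup.normalClosure
    rw [Subgroup.closure_le]
    intro x hx
    rw [Group.mem_conjugatesOfSet_iff] at hx
    obtain ⟨y, hy, hyx⟩ := hx
    rw [Set.mem_singleton_iff] at hy
    subst hy
    rw [isConj_iff] at hyx
    obtain ⟨g, rfl⟩ := hyx
    obtain ⟨b, hb, a₁, ha₁, rfl⟩ := h.symm.fac g
    have : b * a₁ * y * (b * a₁)⁻¹ = b * y * b⁻¹ := by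
      calc b * a₁ * y * (b * a₁)⁻¹ = b * (a₁ * y) * a₁⁻¹ * b⁻¹ := by group
        _ = b * (y * a₁) * a₁⁻¹ * b⁻¹ := by rw [h.cA a₁ ha₁ y ha]
        _ = b * y * b⁻¹ := by group
    rw [SetLike.mem_coe, this]
    apply centralizer_le h hno
    intro a' ha'
    exact conj_comm h ha hc hb ha'
  have hbot := hno _ Subgroup.normalClosure_normal (Or.inl hle)
  have hmem : a ∈ Subgroup.normalClosure ({a} : Set G) :=
    Subgroup.subset_normalClosure (Set.mem_singleton a)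
  rw [hbot, Subgroup.mem_bot] at hmem
  exact hmem

theorem step4 {A B : Subgroup G} (h : Fz A B) (hno : NoN A B) (Y : Subgroup G)
    (hMY : commutator G ≤ Y) (L : Subgroup Y) [hL : L.Normal] (hLA : L ≤ A.subgroupOf Y) :
    L = ⊥ := by
  have hM := h.comm_commutator
  rw [eq_bot_iff]
  intro x hx
  rw [Subgroup.mem_bot]
  have hxA : (x : G) ∈ A := Subgroup.mem_subgroupOf.1 (hLA hx)
  apply Subtype.ext
  rw [Subgroup.coe_one]
  apply eq_one_of_centralizes h hno hxA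
  intro m hm
  have h1 : (⟨m, hMY hm⟩ : Y) * x * (⟨m, hMY hm⟩ : Y)⁻¹ ∈ L := hL.conj_mem x hx _
  have h2 : m * (x : G) * m⁻¹ ∈ A := Subgroup.mem_subgroupOf.1 (hLA h1)
  have h3 : m * (x : G) * m⁻¹ * (x : G)⁻¹ ∈ A := A.mul_mem h2 (A.inv_mem hxA)
  have h4 : m * (x : G) * m⁻¹ * (x : G)⁻¹ ∈ commutator G := by
    rw [commutator_def, ← commutatorElement_def]
    exact Subgroup.commutator_mem_commutator (Subgroup.mem_top _) (Subgroup.mem_top _)
  have h5 : m * (x : G) * m⁻¹ * (x : G)⁻¹ = 1 :=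
    eq_one_of_centralizes h hno h3 (fun m₂ hm₂ => hM _ h4 m₂ hm₂)
  calc (x : G) * m = (m * (x : G) * m⁻¹ * (x : G)⁻¹)⁻¹ * (m * (x : G)) := by group
    _ = m * (x : G) := by rw [h5]; group

end Cfsg.Agent.Lib.Helper2.Ito
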