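import Mathlib
import Cfsg.Agent.Lib.Helper2.Ito1

set_option autoImplicit false
open scoped commutatorElement

namespace Cfsg.Agent.Lib.Helper2.Ito

universe u

/-- conjugacy of abelian supplements when some element acts fixed point freely -/
theorem exists_conj_le {H : Type*} [Group H] [Finite H] (N A' B' : Subgroup H) [hN : N.Normal]
    (cA : ∀ x ∈ A', ∀ y ∈ A', x * y = y * x) (cB : ∀ x ∈ B', ∀ y ∈ B', x * y = y * x)
    (hA : ∀ g : H, ∃ a ∈ A', ∃ n ∈ N, g = a * n) (hB : ∀ g : H, ∃ b ∈ B', ∃ n ∈ N, g = b * n)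
    (a₀ : H) (ha₀ : a₀ ∈ A') (hfpf : ∀ x ∈ N, x * a₀ = a₀ * x → x = 1) :
    ∃ n ∈ N, ∀ b ∈ B', n⁻¹ * b * n ∈ A' := by
  obtain ⟨b₀, hb₀, m₁, hm₁, e₀⟩ := hB a₀
  let θ : N → N := fun x => ⟨(x : H) * a₀ * (x : H)⁻¹ * a₀⁻¹, by
    have h1 : a₀ * (x : H)⁻¹ * a₀⁻¹ ∈ N := hN.conj_mem _ (N.inv_mem x.2) a₀
    have : (x : H) * a₀ * (x : H)⁻¹ * a₀⁻¹ = (x : H) * (a₀ * (x : H)⁻¹ * a₀⁻¹) := by group
    rw [this]
    exact N.mul_mem x.2 h1⟩
  have hinj : Function.Injective θ := by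
    intro x y hxy
    have h1 : (x : H) * a₀ * (x : H)⁻¹ * a₀⁻¹ = (y : H) * a₀ * (y : H)⁻¹ * a₀⁻¹ :=
      congrArg Subtype.val hxy
    have h2 : ((y : H)⁻¹ * (x : H)) * a₀ = a₀ * ((y : H)⁻¹ * (x : H)) := by
      have h3 : (x : H) * a₀ * (x : H)⁻¹ = (y : H) * a₀ * (y : H)⁻¹ := by
        have := congrArg (· * a₀) h1
        simpa using this
      calc ((y : H)⁻¹ * (x : H)) * a₀ = (y : H)⁻¹ * ((x : H) * a₀ * (x : H)⁻¹) * (x : H) := by group
        _ = (y : H)⁻¹ * ((y : H) * a₀ * (y : H)⁻¹) * (x : H) := by rw [h3]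
        _ = a₀ * ((y : H)⁻¹ * (x : H)) := by group
    have h4 := hfpf _ (N.mul_mem (N.inv_mem y.2) x.2) h2
    apply Subtype.ext
    calc (x : H) = (y : H) * ((y : H)⁻¹ * (x : H)) := by group
      _ = (y : H) := by rw [h4, mul_one]
  have hsurj : Function.Surjective θ := Finite.surjective_of_injective hinj
  obtain ⟨n, hn⟩ := hsurj ⟨a₀ * m₁⁻¹ * a₀⁻¹, hN.conj_mem _ (N.inv_mem hm₁) a₀⟩
  have hn' : (n : H) * a₀ * (n : H)⁻¹ * a₀⁻¹ = a₀ * m₁⁻¹ * a₀⁻¹ := congrArg Subtype.val hn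
  have hb₀' : (n : H) * a₀ * (n : H)⁻¹ = b₀ := by
    have e1 : b₀ = a₀ * m₁⁻¹ := by rw [e₀]; group
    calc (n : H) * a₀ * (n : H)⁻¹ = ((n : H) * a₀ * (n : H)⁻¹ * a₀⁻¹) * a₀ := by group
      _ = (a₀ * m₁⁻¹ * a₀⁻¹) * a₀ := by rw [hn']
      _ = b₀ := by rw [e1]; group
  refine ⟨n, n.2, ?_⟩
  intro b hb
  obtain ⟨a', ha', m', hm', e⟩ := hA ((n : H)⁻¹ * b * n)
  have hbe : b = (n : H) * a' * m' * (n : H)⁻¹ := by
    calc b = (n : H) * ((n : H)⁻¹ * b * n) * (n : H)⁻¹ := by group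
      _ = (n : H) * a' * m' * (n : H)⁻¹ := by rw [e]; group
  have hcomm : b * b₀ = b₀ * b := cB b hb b₀ hb₀
  have hm1 : m' * a₀ = a₀ * m' := by
    rw [hbe, ← hb₀'] at hcomm
    have h5 : a' * m' * a₀ = a₀ * a' * m' := by
      calc a' * m' * a₀ = (n : H)⁻¹ * ((n : H) * a' * m' * (n : H)⁻¹ * ((n : H) * a₀ * (n : H)⁻¹)) * n := by
            group
        _ = (n : H)⁻¹ * ((n : H) * a₀ * (n : H)⁻¹ * ((n : H) * a' * m' * (n : H)⁻¹)) * n := by
            rw [hcomm]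
        _ = a₀ * a' * m' := by group
    calc m' * a₀ = a'⁻¹ * (a' * m' * a₀) := by group
      _ = a'⁻¹ * (a₀ * a' * m') := by rw [h5]
      _ = a'⁻¹ * (a' * a₀) * m' := by rw [cA a₀ ha₀ a' ha']; group
      _ = a₀ * m' := by group
  have := hfpf m' hm' hm1
  rw [e, this, mul_one]
  exact ha'

variable {G : Type u} [Group G]

theorem sup_commutator_ne_top [Finite G] {A B : Subgroup G} (h : Fz A B)
    (hne : commutator G ≠ ⊥)
    (hA : A ⊔ commutator G = ⊤) (hB : B ⊔ commutator G = ⊤) : False := by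
  have hM := h.comm_commutator
  have facA : ∀ g : G, ∃ a ∈ A, ∃ m ∈ commutator G, g = a * m := by
    intro g
    have : g ∈ A ⊔ commutator G := hA ▸ Subgroup.mem_top g
    rw [← SetLike.mem_coe, Subgroup.mul_normal] at this
    obtain ⟨a, ha, m, hm, e⟩ := Set.mem_mul.1 this
    exact ⟨a, ha, m, hm, e.symm⟩
  have facB : ∀ g : G, ∃ b ∈ B, ∃ m ∈ commutator G, g = b * m := by
    intro g
    have : g ∈ B ⊔ commutator G := hB ▸ Subgroup.mem_top g
    rw [← SetLike.mem_coe, Subgroup.mul_normal] at this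
    obtain ⟨a, ha, m, hm, e⟩ := Set.mem_mul.1 this
    exact ⟨a, ha, m, hm, e.symm⟩
  let S : Set (Subgroup G) := {C | C.Normal ∧ C ≤ commutator G ∧ C ≠ commutator G}
  have hS : S.Nonempty := ⟨⊥, inferInstance, bot_le, fun e => hne e.symm⟩
  obtain ⟨C, ⟨hCn, hCM, hCne⟩, hCmax⟩ := (Set.toFinite S).exists_maximal hS
  haveI := hCn
  -- some element of `A` acts nontrivially modulo `C`
  have hex : ∃ a₀ ∈ A, ∃ m₀ ∈ commutator G, m₀ * a₀ * m₀⁻¹ * a₀⁻¹ ∉ C := by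
    by_contra hcon
    push_neg at hcon
    apply hCne
    apply le_antisymm hCM
    rw [commutator_def, Subgroup.commutator_le]
    intro g _ k _
    obtain ⟨a, ha, m, hm, rfl⟩ := facA g
    obtain ⟨a', ha', m', hm', rfl⟩ := facA k
    rw [← QuotientGroup.eq_one_iff, ← QuotientGroup.mk'_apply, map_commutatorElement,
      commutatorElement_eq_one_iff_mul_comm]
    simp only [map_mul]
    set f := QuotientGroup.mk' C
    have e1 : f a * f a' = f a' * f a := by rw [← map_mul, h.cA a ha a' ha', map_mul]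
    have e2 : f m * f m' = f m' * f m := by rw [← map_mul, hM m hm m' hm', map_mul]
    have key : ∀ x ∈ A, ∀ y ∈ commutator G, f y * f x = f x * f y := by
      intro x hx y hy
      have h1 := hcon x hx y hy
      have h2 : f (y * x * y⁻¹ * x⁻¹) = 1 := by
        rw [QuotientGroup.mk'_apply, QuotientGroup.eq_one_iff]; exact h1
      simp only [map_mul, map_inv] at h2
      calc f y * f x = (f y * f x * (f y)⁻¹ * (f x)⁻¹) * (f x * f y) := by group
        _ = f x * f y := by rw [h2, one_mul]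
    have e3 := key a ha m' hm'
    have e4 := key a' ha' m hm
    calc f a * f m * (f a' * f m') = f a * (f m * f a') * f m' := by group
      _ = f a * (f a' * f m) * f m' := by rw [e4]
      _ = (f a * f a') * (f m * f m') := by group
      _ = (f a' * f a) * (f m' * f m) := by rw [e1, e2]
      _ = f a' * (f a * f m') * f m := by group
      _ = f a' * (f m' * f a) * f m := by rw [e3]
      _ = f a' * f m' * (f a * f m) := by group
  obtain ⟨a₀, ha₀, m₀, hm₀, hnot⟩ := hex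
  have hMn : (commutator G).Normal := inferInstance
  let E : Subgroup G :=
    { carrier := {m | m ∈ commutator G ∧ m * a₀ * m⁻¹ * a₀⁻¹ ∈ C}
      one_mem' := ⟨(commutator G).one_mem, by simp⟩
      mul_mem' := by
        rintro m m' ⟨hm, hmC⟩ ⟨hm', hmC'⟩
        refine ⟨(commutator G).mul_mem hm hm', ?_⟩
        have : (m * m') * a₀ * (m * m')⁻¹ * a₀⁻¹ =
            (m * (m' * a₀ * m'⁻¹ * a₀⁻¹) * m⁻¹) * (m * a₀ * m⁻¹ * a₀⁻¹) := by group
        rw [this]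
        exact C.mul_mem (hCn.conj_mem _ hmC' m) hmC
      inv_mem' := by
        rintro m ⟨hm, hmC⟩
        refine ⟨(commutator G).inv_mem hm, ?_⟩
        have : m⁻¹ * a₀ * m⁻¹⁻¹ * a₀⁻¹ = m⁻¹ * (m * a₀ * m⁻¹ * a₀⁻¹)⁻¹ * m⁻¹⁻¹ := by group
        rw [this]
        exact hCn.conj_mem _ (C.inv_mem hmC) m⁻¹ }
  have hEmem : ∀ m, m ∈ E ↔ m ∈ commutator G ∧ m * a₀ * m⁻¹ * a₀⁻¹ ∈ C := fun m => Iff.rfl
  have hEn : E.Normal := by
    refine ⟨fun e he g => ?_⟩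
    rw [hEmem] at he ⊢
    obtain ⟨he1, he2⟩ := he
    refine ⟨hMn.conj_mem e he1 g, ?_⟩
    obtain ⟨a, ha, m₁, hm₁, rfl⟩ := facA g
    have e1 : a * m₁ * e * (a * m₁)⁻¹ = a * e * a⁻¹ := by
      calc a * m₁ * e * (a * m₁)⁻¹ = a * (m₁ * e) * m₁⁻¹ * a⁻¹ := by group
        _ = a * (e * m₁) * m₁⁻¹ * a⁻¹ := by rw [hM m₁ hm₁ e he1]
        _ = a * e * a⁻¹ := by group
    rw [e1]
    have e2 : a * e * a⁻¹ * a₀ * (a * e * a⁻¹)⁻¹ * a₀⁻¹ = a * (e * a₀ * e⁻¹ * a₀⁻¹) * a⁻¹ := by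
      have c1 : a⁻¹ * a₀ = a₀ * a⁻¹ := h.cA _ (A.inv_mem ha) _ ha₀
      have c2 : a⁻¹ * a₀⁻¹ = a₀⁻¹ * a⁻¹ := h.cA _ (A.inv_mem ha) _ (A.inv_mem ha₀)
      calc a * e * a⁻¹ * a₀ * (a * e * a⁻¹)⁻¹ * a₀⁻¹
          = a * e * (a⁻¹ * a₀) * a * e⁻¹ * (a⁻¹ * a₀⁻¹) := by group
        _ = a * e * (a₀ * a⁻¹) * a * e⁻¹ * (a₀⁻¹ * a⁻¹) := by rw [c1, c2]
        _ = a * (e * a₀ * e⁻¹ * a₀⁻¹) * a⁻¹ := by group
    rw [e2]
    exact hCn.conj_mem _ he2 a
  have hCE : C ≤ E := by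
    intro c hc
    rw [hEmem]
    refine ⟨hCM hc, ?_⟩
    have : c * a₀ * c⁻¹ * a₀⁻¹ = c * (a₀ * c⁻¹ * a₀⁻¹) := by group
    rw [this]
    exact C.mul_mem hc (hCn.conj_mem _ (C.inv_mem hc) a₀)
  have hES : E ∈ S := by
    refine ⟨hEn, fun m hm => ((hEmem m).1 hm).1, ?_⟩
    intro hEM
    have : m₀ ∈ E := hEM ▸ hm₀
    exact hnot ((hEmem m₀).1 this).2
  have hEC : E ≤ C := hCmax hES hCE
  have hfpf : ∀ m ∈ commutator G, m * a₀ * m⁻¹ * a₀⁻¹ ∈ C → m ∈ C :=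
    fun m hm hmC => hEC ((hEmem m).2 ⟨hm, hmC⟩)
  -- pass to the quotient
  set π := QuotientGroup.mk' C with hπ
  have hsurj : Function.Surjective π := QuotientGroup.mk'_surjective C
  haveI : ((commutator G).map π).Normal := Subgroup.Normal.map hMn π hsurj
  obtain ⟨n, -, hnB⟩ := exists_conj_le ((commutator G).map π) (A.map π) (B.map π)
    (by
      rintro x ⟨a, ha, rfl⟩ y ⟨a', ha', rfl⟩
      rw [← map_mul, ← map_mul, h.cA a ha a' ha'])
    (by
      rintro x ⟨a, ha, rfl⟩ y ⟨a', ha', rfl⟩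
      rw [← map_mul, ← map_mul, h.cB a ha a' ha'])
    (by
      intro g
      obtain ⟨g₀, rfl⟩ := hsurj g
      obtain ⟨a, ha, m, hm, rfl⟩ := facA g₀
      exact ⟨π a, Subgroup.mem_map_of_mem π ha, π m, Subgroup.mem_map_of_mem π hm, map_mul π a m⟩)
    (by
      intro g
      obtain ⟨g₀, rfl⟩ := hsurj g
      obtain ⟨a, ha, m, hm, rfl⟩ := facB g₀
      exact ⟨π a, Subgroup.mem_map_of_mem π ha, π m, Subgroup.mem_map_of_mem π hm, map_mul π a m⟩)
    (π a₀) (Subgroup.mem_map_of_mem π ha₀)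
    (by
      rintro x ⟨m, hm, rfl⟩ hx
      have h1 : π (m * a₀ * m⁻¹ * a₀⁻¹) = 1 := by
        simp only [map_mul, map_inv]
        rw [hx]; group
      have h2 : m * a₀ * m⁻¹ * a₀⁻¹ ∈ C := by
        rw [hπ, QuotientGroup.mk'_apply, QuotientGroup.eq_one_iff] at h1
        exact h1
      have h3 := hfpf m hm h2
      rw [hπ, QuotientGroup.mk'_apply, QuotientGroup.eq_one_iff]
      exact h3)
  -- every element of the quotient is conjugate into the image of `A`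
  obtain ⟨g₁, hg₁⟩ := hsurj n
  have hall : ∀ x : G ⧸ C, n⁻¹ * x * n ∈ A.map π := by
    intro x
    obtain ⟨x₀, rfl⟩ := hsurj x
    obtain ⟨a, ha, b, hb, e⟩ := h.conj_fac g₁ x₀
    have hb' := hnB (π b) (Subgroup.mem_map_of_mem π hb)
    have : n⁻¹ * π x₀ * n = π a * (n⁻¹ * π b * n) := by
      rw [e]
      simp only [map_mul, map_inv, hg₁]
      group
    rw [this]
    exact (A.map π).mul_mem (Subgroup.mem_map_of_mem π ha) hb'
  have hab : ∀ x y : G ⧸ C, x * y = y * x := by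
    intro x y
    obtain ⟨a, ha, e1⟩ := hall x
    obtain ⟨a', ha', e2⟩ := hall y
    have hx : x = n * π a * n⁻¹ := by rw [e1]; group
    have hy : y = n * π a' * n⁻¹ := by rw [e2]; group
    have hc : π a * π a' = π a' * π a := by rw [← map_mul, ← map_mul, h.cA a ha a' ha']
    calc x * y = n * (π a * π a') * n⁻¹ := by rw [hx, hy]; group
      _ = n * (π a' * π a) * n⁻¹ := by rw [hc]
      _ = y * x := by rw [hx, hy]; group
  apply hCne
  apply le_antisymm hCM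
  rw [commutator_def, Subgroup.commutator_le]
  intro g _ k _
  rw [← QuotientGroup.eq_one_iff, ← QuotientGroup.mk'_apply, map_commutatorElement,
    commutatorElement_eq_one_iff_mul_comm]
  exact hab _ _

end Cfsg.Agent.Lib.Helper2.Ito
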