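import Mathlib
import Cfsg.Agent.Lib.Helper2.Ito2

set_option autoImplicit false
open scoped commutatorElement

namespace Cfsg.Agent.Lib.Helper2.Ito

universe u

theorem main : ∀ (n : ℕ) (G : Type u) [Group G] [Finite G] [Nontrivial G], Nat.card G = n →
    ∀ A B : Subgroup G, Fz A B → ∃ N : Subgroup G, N.Normal ∧ N ≠ ⊥ ∧ (N ≤ A ∨ N ≤ B) := by
  intro n
  induction n using Nat.strong_induction_on with
  | _ n ih =>
    intro G _ _ _ hn A B h
    by_contra hcon
    have hno : NoN A B := by
      intro N hN hle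
      by_contra hne
      exact hcon ⟨N, hN, hne, hle⟩
    have hM := h.comm_commutator
    -- the derived subgroup is nontrivial
    have hMne : commutator G ≠ ⊥ := by
      intro hbot
      have hcomm : ∀ g k : G, g * k = k * g := by
        intro g k
        have : ⁅g, k⁆ ∈ commutator G := by
          rw [commutator_def]
          exact Subgroup.commutator_mem_commutator (Subgroup.mem_top _) (Subgroup.mem_top _)
        rw [hbot, Subgroup.mem_bot, commutatorElement_eq_one_iff_mul_comm] at this
        exact this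
      have hA1 : ∀ a ∈ A, a = 1 := fun a ha =>
        eq_one_of_mem_center hno ha (Subgroup.mem_center_iff.2 (fun g => hcomm g a))
      have hB1 : ∀ b ∈ B, b = 1 := fun b hb =>
        eq_one_of_mem_center hno.symm hb (Subgroup.mem_center_iff.2 (fun g => hcomm g b))
      obtain ⟨x, y, hxy⟩ := exists_pair_ne G
      have h1 : ∀ g : G, g = 1 := by
        intro g
        obtain ⟨a, ha, b, hb, rfl⟩ := h.fac g
        rw [hA1 a ha, hB1 b hb, mul_one]
      exact hxy ((h1 x).trans (h1 y).symm)
    set Y : Subgroup G := (A ⊔ commutator G) ⊓ (B ⊔ commutator G) with hY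
    have hYne : Y ≠ ⊤ := by
      intro hYt
      rw [hY, inf_eq_top_iff] at hYt
      exact sup_commutator_ne_top h hMne hYt.1 hYt.2
    have hMY : commutator G ≤ Y := le_inf le_sup_right le_sup_right
    have hcard : Nat.card Y < n := by
      rw [← hn]
      refine lt_of_le_of_ne (Subgroup.card_le_card_group Y) ?_
      intro hc
      exact hYne ((Subgroup.card_eq_iff_eq_top Y).1 hc)
    haveI : Nontrivial Y := by
      obtain ⟨m, hm⟩ := (Subgroup.ne_bot_iff_exists_ne_one).1 hMne
      refine ⟨⟨⟨m, hMY m.2⟩, 1, ?_⟩⟩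
      intro hm1
      apply hm
      apply Subtype.ext
      have := congrArg (fun z : Y => (z : G)) hm1
      simpa using this
    have hFz : Fz (A.subgroupOf Y) (B.subgroupOf Y) := by
      refine ⟨?_, ?_, ?_⟩
      · intro x hx y hy
        exact Subtype.ext (h.cA x (Subgroup.mem_subgroupOf.1 hx) y (Subgroup.mem_subgroupOf.1 hy))
      · intro x hx y hy
        exact Subtype.ext (h.cB x (Subgroup.mem_subgroupOf.1 hx) y (Subgroup.mem_subgroupOf.1 hy))
      · intro y
        obtain ⟨a, ha, b, hb, e⟩ := h.fac (y : G)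
        have hy1 : (y : G) ∈ A ⊔ commutator G := (Subgroup.mem_inf.1 y.2).1
        have hy2 : (y : G) ∈ B ⊔ commutator G := (Subgroup.mem_inf.1 y.2).2
        have ha1 : a ∈ A ⊔ commutator G := (le_sup_left : A ≤ A ⊔ commutator G) ha
        have hb2 : b ∈ B ⊔ commutator G := (le_sup_left : B ≤ B ⊔ commutator G) hb
        have hb1 : b ∈ A ⊔ commutator G := by
          have : b = a⁻¹ * (y : G) := by rw [e]; group
          rw [this]
          exact Subgroup.mul_mem _ (Subgroup.inv_mem _ ha1) hy1
        have ha2 : a ∈ B ⊔ commutator G := by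
          have : a = (y : G) * b⁻¹ := by rw [e]; group
          rw [this]
          exact Subgroup.mul_mem _ hy2 (Subgroup.inv_mem _ hb2)
        refine ⟨⟨a, Subgroup.mem_inf.2 ⟨ha1, ha2⟩⟩, Subgroup.mem_subgroupOf.2 ha,
          ⟨b, Subgroup.mem_inf.2 ⟨hb1, hb2⟩⟩, Subgroup.mem_subgroupOf.2 hb, Subtype.ext e⟩
    obtain ⟨L, hLn, hLne, hLle⟩ := ih (Nat.card Y) hcard Y rfl _ _ hFz
    haveI := hLn
    rcases hLle with hLA | hLB
    · exact hLne (step4 h hno Y hMY L hLA)
    · exact hLne (step4 h.symm hno.symm Y hMY L hLB)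

end Cfsg.Agent.Lib.Helper2.Ito
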