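import Mathlib

set_option autoImplicit false

/-! # Data for the automorphisms of the presented group `J2` on 100 points -/

namespace Cfsg.Agent.Lib.Helper2.J2OutD

/-- the word of an element of order 7 -/
def wp : List ℕ := [3, 1, 2, 1, 3, 0, 1, 4, 2]

/-- the word of an element of order 6 normalizing it -/
def wh : List ℕ := [1, 0, 2, 1, 3, 4, 3, 2, 3, 2, 1, 0, 1, 2, 3, 2]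

/-- the word of an involution centralizing the element of order 6 -/
def wv : List ℕ := [0, 1, 0, 3, 2, 1, 0, 3, 4, 3, 2, 1, 0, 3, 2, 1, 0, 3, 4, 3, 2, 1, 0, 3]

/-- words moving the point 9 to all points -/
def W1 : List (List ℕ) := [
  [3, 2],
  [1, 4, 3],
  [3],
  [4],
  [3, 2, 4],
  [1, 0, 4, 3],
  [1, 4],
  [1, 3, 4, 3],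
  [1, 3],
  [],
  [3, 4],
  [1, 3, 2],
  [1, 0, 4],
  [1, 0, 3, 4, 3],
  [1, 2, 4],
  [1],
  [1, 3, 4],
  [1, 0, 3],
  [1, 0, 3, 2],
  [1, 0, 1, 4],
  [1, 3, 2, 4],
  [1, 0, 2, 4],
  [1, 0],
  [1, 0, 3, 4],
  [1, 2, 4, 3],
  [1, 2],
  [1, 0, 1, 3],
  [1, 0, 1, 0, 4],
  [1, 0, 3, 2, 4],
  [1, 0, 1, 2, 4],
  [1, 0, 1],
  [1, 0, 1, 3, 4],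
  [1, 0, 2, 1, 4],
  [1, 0, 2, 4, 3],
  [1, 0, 2],
  [1, 2, 3, 4, 3],
  [1, 2, 3],
  [1, 0, 1, 0, 3],
  [1, 2, 3, 2, 3],
  [1, 0, 1, 0],
  [1, 0, 1, 0, 3, 4],
  [1, 0, 1, 2, 1, 4],
  [1, 0, 2, 3, 2],
  [1, 0, 1, 2],
  [1, 0, 2, 1, 0, 4],
  [1, 0, 2, 1, 4, 3],
  [1, 0, 2, 1],
  [1, 0, 2, 3, 4, 3],
  [1, 0, 2, 3],
  [1, 2, 3, 4],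
  [1, 2, 3, 2],
  [1, 2, 3, 2, 1, 3],
  [1, 0, 1, 0, 2],
  [1, 0, 1, 2, 1, 0, 4],
  [1, 0, 2, 3, 2, 1],
  [1, 0, 1, 2, 1],
  [1, 0, 2, 3, 2, 4],
  [1, 0, 1, 2, 3],
  [1, 0, 2, 1, 0, 1, 4],
  [1, 0, 2, 1, 0, 4, 3],
  [1, 0, 2, 1, 0],
  [1, 0, 2, 1, 4, 3, 2],
  [1, 0, 2, 1, 3, 4, 3],
  [1, 0, 2, 1, 3],
  [1, 0, 2, 3, 4],
  [1, 2, 3, 2, 4],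
  [1, 2, 3, 2, 1],
  [1, 0, 1, 0, 2, 1],
  [1, 0, 1, 0, 2, 3],
  [1, 0, 2, 3, 2, 1, 0],
  [1, 0, 1, 2, 1, 0],
  [1, 0, 2, 1, 3, 2, 1],
  [1, 0, 2, 3, 2, 1, 4],
  [1, 0, 1, 2, 1, 3],
  [1, 0, 1, 2, 3, 4],
  [1, 0, 2, 1, 0, 1, 4, 3],
  [1, 0, 2, 1, 0, 1],
  [1, 0, 1, 2, 1, 3, 4],
  [1, 0, 1, 2, 1, 3, 2],
  [1, 0, 2, 1, 0, 3],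
  [1, 0, 2, 1, 4, 3, 2, 3],
  [1, 0, 1, 2, 1, 0, 3],
  [1, 0, 2, 1, 3, 4],
  [1, 0, 2, 1, 3, 2],
  [1, 2, 3, 2, 1, 4],
  [1, 2, 3, 2, 4, 3],
  [1, 0, 1, 0, 2, 1, 3],
  [1, 0, 2, 1, 3, 2, 1, 0],
  [1, 0, 2, 1, 3, 2, 1, 3],
  [1, 2, 3, 2, 1, 4, 3],
  [1, 0, 1, 0, 2, 1, 3, 2],
  [1, 0, 2, 1, 0, 1, 3],
  [1, 0, 2, 1, 0, 3, 4],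
  [1, 0, 2, 1, 0, 3, 2],
  [1, 0, 2, 1, 3, 2, 1, 0, 3],
  [1, 0, 2, 1, 3, 2, 3],
  [1, 0, 2, 1, 3, 2, 1, 0, 1],
  [1, 0, 2, 1, 0, 1, 3, 4],
  [1, 0, 2, 1, 0, 3, 2, 3],
  [1, 0, 2, 1, 3, 2, 1, 0, 1, 3]]

/-- words fixing the point 9 and moving the point 62 to the points of its orbit -/
def W2 : List (List ℕ) := [
  [1, 0, 1, 4, 3, 2, 1, 3],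
  [1, 0, 1, 4, 3, 2, 1, 3, 2],
  [1, 0, 4, 3, 2, 1, 3, 4],
  [0, 2, 1, 3, 2, 3, 4, 3, 2, 1, 0, 1, 3],
  [1, 0, 4, 3, 2, 1, 3, 2, 4],
  [0, 1, 3, 2, 1, 0, 1, 3, 4, 3, 2, 3, 4],
  [0, 1, 3, 2, 1, 0, 1, 0, 3, 4],
  [1, 0, 1, 3, 2, 3, 4, 3, 2, 1, 0, 3],
  [3, 2, 3, 4, 3, 2, 3, 4],
  [0, 1, 3, 2, 1, 0, 1, 3, 4],
  [1, 0, 1, 3, 2, 3, 4, 3, 2, 1, 3],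
  [2, 3, 2, 3, 4, 3, 2, 3, 4],
  [3, 4, 3, 2, 3, 2, 4, 3],
  [3, 2, 1, 3, 4, 3, 2, 1, 0, 1, 2, 3],
  [2, 3, 4, 3, 2, 3, 2, 4, 3],
  [4, 3, 2, 3],
  [4, 3, 2, 3, 2, 1, 0, 4, 3, 2, 1, 3, 4],
  [],
  [0, 1, 0, 3, 2, 1, 0, 3, 4, 3, 2, 1, 0, 1, 3],
  [2, 1, 3, 2, 3, 4, 3, 2, 1, 0, 1, 3],
  [0, 4, 3, 2, 3],
  [4, 3, 2, 3, 2],
  [0, 2],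
  [0, 1, 3, 2, 1, 0, 1, 2, 3],
  [0, 1, 0, 1, 3, 2, 3, 4, 3, 2, 1, 3],
  [0],
  [2],
  [3, 2, 3, 2, 4],
  [0, 3, 4, 3, 2, 1, 0, 1, 3, 2, 1, 4, 3],
  [1, 0, 1, 3, 2, 1, 0, 1, 3],
  [2, 4, 3, 2, 3],
  [3, 2, 3, 2, 1, 4, 3, 2, 1, 0, 1, 3, 4],
  [2, 3, 2, 3, 4],
  [3, 2, 3, 4],
  [0, 3, 2, 1, 0, 1, 4, 3, 2, 3, 2, 1, 4, 3],
  [0, 3, 2, 3, 4]]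

/-- words of the elements of the stabilizer of the points 9 and 62 outside the normalizer -/
def Lrest : List (List ℕ) := [
  [1, 0, 1, 2, 3, 2, 1, 4, 3, 2, 1, 3, 2, 4, 3, 2, 1, 0, 1],
  [0, 1, 0, 1, 2, 3, 2, 4, 3, 2, 1, 0, 1, 3, 2, 3, 2, 1, 4, 3, 2, 1, 3, 2, 4, 3, 2, 1],
  [0, 1, 0, 1, 2, 3, 2, 1, 4, 3, 2, 1, 3, 2, 4, 3, 2, 1, 0, 1, 0],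
  [0, 1, 2, 1, 0, 1, 0, 3, 2, 3, 4, 3, 2, 1, 0, 1, 3, 2, 1, 3, 2, 4, 3, 2, 1, 3],
  [0, 4, 3, 2, 1, 0, 3, 2, 1, 0, 3, 4, 3, 2, 1, 0, 3, 2, 1, 0, 4, 3, 2, 1, 3],
  [0, 2, 1, 3, 2, 4, 3, 2, 1, 0, 1, 0, 3, 2, 3, 4, 3, 2, 1, 0, 1, 3, 2, 1, 0, 3],
  [3, 2, 1, 0, 1, 4, 3, 2, 1, 0, 1, 3, 2, 4, 3],
  [1, 2, 1, 3, 2, 1, 4, 3, 2, 1, 3, 2, 3, 4, 3, 2, 1, 0, 1, 2, 3, 2, 1, 4],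
  [1, 0, 1, 4, 3, 2, 1, 3, 2, 1, 3, 4, 3, 2, 1, 3, 2, 1, 0, 1, 4, 3, 2],
  [0, 1, 2, 3, 4, 3, 2, 1, 3, 2, 1, 0, 1, 2, 3, 2, 3, 4, 3, 2, 1, 3, 2, 3, 4],
  [1, 2, 3, 2, 1, 0, 3, 2, 4, 3, 2, 1, 0, 1, 2, 3, 2, 4, 3, 2, 1, 0, 1, 3, 2, 3],
  [0, 3, 2, 1, 4, 3, 2, 1, 0, 1, 3, 2, 3, 2, 4, 3, 2, 1, 0, 1, 3, 2, 1, 3],
  [0, 2, 1, 0, 1, 3, 2, 1, 0, 3, 2, 1, 4, 3, 2, 3, 2, 1, 0, 4],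
  [1, 0, 2, 1, 3, 2, 1, 3, 2, 1, 3, 4, 3, 2, 1, 0, 1, 2, 3, 2, 3, 4],
  [0, 2, 3, 2, 1, 0, 1, 2, 3, 2, 4, 3, 2, 1, 3, 2, 4, 3, 2, 1, 0, 1, 3, 4],
  [1, 2, 3, 2, 1, 3, 2, 3, 2, 4, 3, 2, 1, 0, 1, 0, 2, 3, 2, 1, 4, 3, 2, 3, 4],
  [1, 0, 3, 2, 3, 4, 3, 2, 1, 0, 3, 2, 1, 0, 3, 2, 1, 0, 3, 4, 3, 2, 1],
  [0, 4, 3, 2, 1, 3, 2, 3, 2, 1, 0, 1, 2, 3, 2, 1],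
  [1, 0, 1, 0, 2, 1, 3, 4, 3, 2, 1, 3, 2, 3, 4, 3, 2, 1, 0, 1, 2, 3, 2, 3],
  [2, 3, 4, 3, 2, 1, 0, 3, 2, 1, 0, 4, 3, 2, 1, 0, 3, 2, 1, 3, 4, 3, 2, 3, 4],
  [1, 3, 4, 3, 2, 1, 0, 1, 2, 3, 2, 1, 3, 2, 4, 3, 2, 1, 0, 1, 3, 2, 1, 3],
  [0, 1, 0, 4, 3, 2, 1, 0, 3, 4],
  [3, 2, 4, 3, 2, 1, 3, 2, 4, 3, 2, 1, 0, 1, 2, 3, 2, 1, 4, 3, 2, 1, 0, 1],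
  [1, 2, 1, 3, 2, 4, 3, 2, 1, 0, 1, 3, 2, 3, 2, 4, 3, 2, 1, 0, 1, 2, 3, 2, 1, 4],
  [1, 2, 1, 3, 4, 3, 2, 3, 2, 1, 0, 1, 2, 3, 4, 3, 2, 1, 3, 2, 3],
  [1, 2, 1, 0, 1, 3, 2, 3, 2, 1, 4, 3, 2, 1, 3, 2, 1, 0, 1, 3, 2, 4, 3, 2, 3],
  [1, 3, 4, 3, 2, 1, 0, 1, 2, 3, 2, 1, 3, 2, 3, 4, 3],
  [1, 4, 3, 2, 1, 3, 2, 1, 0, 3, 4, 3, 2, 1, 0, 3, 2, 1, 3, 2, 3, 4, 3, 2, 3],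
  [3, 2, 1, 3, 2, 4, 3, 2, 1, 0, 1, 2, 3, 2, 1, 4, 3, 2, 3],
  [1, 0, 2, 1, 0, 3, 4, 3, 2, 1, 0, 3, 2, 1, 0, 3, 2, 3, 4, 3, 2, 1, 3],
  [1, 3, 2, 1, 0, 1, 3, 2, 3, 2, 1, 4, 3, 2, 1, 3, 2, 1, 0, 1, 2, 3, 4, 3],
  [2, 1, 0, 3, 2, 1, 0, 3, 2, 1, 4, 3, 2, 1, 3, 2, 4, 3, 2, 1, 0, 1, 0, 2, 1],
  [1, 2, 3, 2, 1, 0, 1, 2, 3, 2, 1, 0, 3, 2, 3, 4],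
  [0, 1, 0, 2, 1, 0, 3, 4, 3, 2, 1, 0, 3, 2, 1, 0, 3, 2, 3, 4, 3, 2, 1, 3, 2],
  [2, 3, 2, 1, 4, 3, 2, 1, 0, 1, 2, 3, 2, 4, 3, 2],
  [1, 0, 1, 0, 2, 1, 3, 2, 1, 0, 1, 0, 3, 4, 3, 2, 1, 3, 2, 3, 2, 4],
  [1, 0, 1, 0, 2, 1, 3, 2, 4, 3, 2, 1, 0, 1, 2, 3, 2, 1, 3, 4, 3, 2, 3, 4],
  [2, 1, 0, 1, 3, 2, 1, 4, 3, 2, 1, 3, 2, 4, 3, 2, 1, 0, 3, 2, 1, 3, 4],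
  [1, 0, 2, 1, 0, 1, 3, 2, 4, 3, 2, 1, 0, 3, 2, 1, 0, 1],
  [0, 1, 0, 2, 1, 4, 3, 2, 1, 0, 1, 2, 3, 2, 1, 4, 3, 2, 1],
  [0, 2, 1, 3, 2, 1, 0, 1, 2, 3, 4, 3, 2, 3, 2, 1, 0, 1, 4, 3, 2, 1, 0, 3, 2],
  [0, 1, 3, 2, 3, 2, 4, 3, 2, 1, 0, 3, 2, 1, 3, 2, 3, 2, 4, 3, 2, 1, 0, 3],
  [1, 0, 2, 1, 0, 1, 4, 3, 2, 1, 3, 2, 4, 3, 2, 1],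
  [2, 1, 3, 2, 1, 0, 4, 3, 2, 1, 0, 1, 2, 3, 2, 4, 3, 2],
  [1, 0, 1, 0, 2, 1, 3, 2, 1, 0, 1, 3, 2, 4, 3, 2, 1, 0, 1, 3, 2, 3],
  [0, 1, 2, 1, 3, 2, 1, 0, 1, 3, 2, 3, 4, 3, 2, 1, 0, 1, 3, 2, 1, 3, 4, 3],
  [0, 1, 0, 2, 1, 4, 3, 2, 1, 0, 1, 0, 3, 2, 3, 4, 3, 2, 1, 3, 2, 3],
  [1, 3, 4, 3, 2, 1, 3, 2, 1, 0, 1, 2, 3, 4, 3, 2, 1, 3, 2, 1, 0, 1, 3, 4],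
  [0, 1, 2, 1, 3, 2, 1, 0, 1, 2, 3, 4, 3, 2, 3, 2, 1, 4, 3, 2, 3, 4],
  [3, 2, 1, 0, 1, 0, 3, 2, 1, 3, 4, 3, 2, 3, 2, 1, 0, 1, 0, 2, 1, 4],
  [3, 4, 3, 2, 1, 0, 3, 2, 1, 3, 2, 3, 4, 3],
  [3, 4, 3, 2, 1, 3, 2, 1, 3, 2, 1, 0, 1, 2, 3, 4, 3],
  [3, 2, 1, 0, 3, 2, 1, 4, 3, 2, 3, 2, 1, 0, 1, 4, 3, 2, 1, 0],
  [1, 2, 1, 0, 1, 0, 3, 2, 1, 0, 3, 2, 1, 0, 3, 4, 3, 2, 1, 3, 2, 3],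
  [1, 0, 1, 3, 2, 1, 3, 4, 3, 2, 1, 3, 2, 1, 4, 3, 2, 1, 0, 1, 0, 2, 3],
  [1, 0, 4, 3, 2, 1, 3, 2, 3, 2, 1, 4, 3, 2, 1, 3, 2, 1, 0, 1, 4, 3, 2],
  [0, 1, 3, 2, 1, 0, 1, 2, 3, 2, 1, 3, 4, 3, 2, 1, 3, 2, 1, 0, 1, 4, 3],
  [0, 3, 2, 1, 0, 1, 2, 3, 2, 1, 4, 3, 2, 1, 3, 2, 4, 3, 2, 1, 0, 1, 0, 2, 3],
  [1, 2, 4, 3, 2, 1, 0, 1, 2, 3, 2, 4, 3, 2, 1, 0, 1, 3, 2, 3, 2, 1, 4, 3, 2, 1],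
  [1, 0, 1, 0, 2, 1, 0, 3, 2, 1, 3, 4, 3, 2, 1, 3, 2, 1, 0, 1, 3, 4, 3, 2, 1],
  [1, 4, 3, 2, 1, 3, 2, 1, 0, 1, 2, 3, 2, 1, 4, 3, 2, 1, 0, 1, 0],
  [0, 2, 3, 2, 1, 0, 1, 2, 4, 3, 2, 1, 3, 2, 3, 2, 1, 4, 3],
  [1, 2, 1, 3, 2, 1, 4, 3, 2, 1, 0, 1, 0, 2, 3, 2, 1, 0, 4],
  [1, 0, 4, 3, 2, 1, 3, 2, 3, 2, 1, 0, 1, 2, 3, 4, 3, 2, 1, 3],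
  [1, 3, 2, 3, 2, 1, 4, 3, 2, 1, 3, 2, 1, 0, 1, 0, 3, 4, 3, 2, 1, 3, 2, 3],
  [0, 1, 0, 2, 3, 2, 1, 0, 4, 3, 2, 1, 0, 3, 2, 1, 3, 2, 3, 2, 4, 3, 2, 3],
  [2, 3, 2, 4, 3, 2, 1, 0, 1, 0, 2, 1, 3, 2, 1, 4, 3, 2],
  [0, 1, 2, 3, 2, 4, 3, 2, 1, 0, 1, 3, 2, 3, 2, 4, 3, 2, 1, 0, 3, 2, 1, 3, 2, 3, 2],
  [2, 1, 0, 1, 0, 4, 3, 2, 1, 3, 2, 3, 2, 1, 4, 3, 2, 1, 3, 2, 4, 3, 2, 1, 0, 1],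
  [0, 3, 2, 1, 3, 2, 4, 3, 2, 1, 0, 1, 0, 2, 3, 2, 1, 4, 3, 2, 1, 3, 2],
  [0, 4, 3, 2, 1, 3, 2, 3, 4, 3, 2, 1, 0, 1, 0, 2, 1, 3, 2, 1, 0, 1],
  [1, 3, 2, 1, 0, 3, 4, 3, 2, 1, 0, 1, 2, 3, 2],
  [1, 3, 2, 1, 3, 2, 1, 0, 1, 0, 3, 2, 1, 3, 2, 4, 3, 2, 1],
  [1, 3, 2, 4, 3, 2, 1, 3, 2, 3, 2, 1, 0, 1, 0, 2, 4, 3, 2],
  [3, 2, 3, 4, 3, 2, 1, 0, 3, 2, 1, 0, 3, 2, 1, 3, 4, 3, 2, 1, 3, 2, 1, 3, 4],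
  [1, 0, 3, 2, 1, 0, 3, 4, 3, 2, 1, 0, 3, 2, 1, 4, 3, 2, 3, 2, 1, 0, 4],
  [2, 1, 3, 2, 3, 2, 4, 3, 2, 1, 0, 3, 2, 1, 3, 2, 3, 2, 4, 3, 2, 1, 3, 2],
  [1, 4, 3, 2, 1, 3, 2, 3, 4, 3, 2, 1, 0, 1, 3, 2, 1, 3, 2, 3, 4, 3, 2, 1, 0],
  [2, 1, 4, 3, 2, 3, 2, 1, 4, 3, 2, 3, 2, 1, 0, 1, 4, 3, 2, 1, 0],
  [1, 3, 2, 3, 4, 3, 2, 1, 0, 1, 2, 3, 2, 1, 0, 3, 2, 1, 3, 4],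
  [1, 2, 3, 4, 3, 2, 1, 0, 1, 2, 3, 2, 1, 4, 3, 2, 1, 3, 2, 1, 4, 3, 2, 1],
  [3, 2, 1, 3, 2, 1, 0, 1, 0, 3, 2, 1, 4, 3, 2, 1, 0, 1, 2],
  [1, 2, 1, 0, 1, 2, 3, 2, 1, 0, 1, 3, 4, 3, 2, 3, 2, 1, 0, 1, 2, 3, 4, 3, 2, 1, 0],
  [1, 0, 1, 4, 3, 2, 1, 3, 2, 3, 4, 3, 2, 1, 0, 3, 2, 1, 3, 4, 3],
  [0, 1, 0, 3, 2, 1, 3, 2, 3, 2, 1, 4, 3, 2, 1, 3, 2, 1, 0, 1, 2, 4, 3, 2, 1, 0],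
  [1, 2, 1, 0, 1, 3, 2, 3, 4, 3, 2, 1, 0, 1, 3, 2, 3, 4, 3, 2, 1, 3, 2, 3, 4],
  [1, 0, 1, 2, 3, 2, 1, 0, 4, 3, 2, 1, 3, 2, 4, 3, 2, 1, 0, 1],
  [0, 2, 1, 3, 4, 3, 2, 1, 0, 1, 2, 3, 2, 1, 0, 3, 4, 3],
  [3, 2, 1, 0, 3, 2, 3, 4, 3, 2, 1, 0, 3, 2, 1, 0, 3, 2, 1, 0, 4],
  [4, 3, 2, 1, 3, 2, 3, 4, 3, 2, 1, 0, 1, 3, 2, 3, 4, 3, 2, 1, 0, 1, 3, 2, 1],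
  [2, 1, 3, 2, 1, 0, 1, 2, 3, 2],
  [0, 1, 0, 2, 1, 3, 2, 4, 3, 2, 1, 0, 1, 0, 3, 2, 1, 3, 4, 3, 2, 1, 3, 2, 4, 3],
  [2, 1, 3, 2, 1, 0, 3, 2, 4, 3, 2, 1, 0, 1, 2, 3, 2, 1, 0, 4, 3, 2, 3],
  [3, 2, 1, 0, 1, 4, 3, 2, 1, 3, 2, 1, 3, 4, 3, 2],
  [0, 1, 0, 1, 3, 2, 3, 2, 1, 4, 3, 2, 3, 2, 1, 0, 4, 3, 2, 1, 0, 3, 2, 1, 3, 2],
  [0, 2, 1, 0, 1, 3, 2, 1, 3, 2, 1, 0, 1, 2, 4, 3, 2, 1, 3, 2, 4, 3, 2, 1],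
  [0, 4, 3, 2, 1, 0, 3, 2, 1, 3, 2, 4, 3, 2, 1, 0, 1, 3, 2, 1, 0],
  [0, 1, 2, 1, 0, 1, 3, 2, 3, 2, 1, 0, 1, 4, 3, 2, 3, 2, 1, 0, 1, 2, 3],
  [0, 1, 2, 3, 4, 3, 2, 1, 0, 1, 0, 2, 1, 3, 2, 1, 0, 1, 4, 3, 2, 3],
  [1, 2, 3, 2, 1, 3, 4, 3, 2, 1, 0, 1, 3, 2, 3, 4, 3, 2, 1, 0, 1, 2],
  [0, 1, 0, 1, 2, 1, 0, 3, 2, 1, 0, 1, 2, 3, 4, 3, 2, 1],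
  [0, 4, 3, 2, 1, 0, 1, 3, 2, 1, 3, 2, 4, 3, 2, 1, 0, 1, 2, 3, 2, 1, 3, 2],
  [0, 1, 0, 1, 2, 1, 3, 2, 1, 4, 3, 2, 1, 0, 1, 2, 3, 2, 1, 3, 4],
  [2, 3, 4, 3, 2, 1, 0, 3, 2, 1, 3, 2, 3, 4, 3, 2],
  [0, 1, 2, 4, 3, 2, 1, 0, 3, 2, 1, 0, 3, 4, 3, 2, 1, 0, 3, 2, 1, 4, 3],
  [1, 0, 2, 3, 2, 1, 0, 4, 3, 2, 1, 0, 1, 3, 2, 1, 3, 2, 3],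
  [3, 2, 1, 3, 2, 3, 4, 3, 2, 1, 0, 1, 2, 3, 2, 1, 3, 4, 3, 2, 1],
  [0, 1, 3, 2, 1, 0, 3, 2, 4, 3, 2, 1, 0, 1, 0, 2, 3, 2, 1, 4, 3, 2, 1, 0, 3],
  [0, 1, 2, 1, 0, 1, 3, 2, 4, 3, 2, 1, 0, 3, 2, 1, 4, 3, 2, 3],
  [4, 3, 2, 1, 3, 2, 1, 3, 2, 1, 0, 1, 2, 3, 4, 3, 2, 3, 2, 1, 0, 4],
  [2, 1, 0, 1, 2, 3, 4, 3, 2, 1, 0, 1, 3, 2, 1, 3, 4, 3, 2, 3, 2, 1],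
  [0, 2, 1, 3, 2, 1, 0, 1, 2, 3, 2, 3, 4, 3, 2, 1, 0, 1, 3, 2, 1, 0, 4, 3, 2],
  [3, 2, 3, 2, 1, 0, 1, 4, 3, 2, 1, 3, 2, 1, 3, 2, 4, 3, 2, 1, 0, 1, 3, 2, 1],
  [1, 2, 1, 0, 1, 3, 4, 3, 2, 1, 3, 2, 1, 0, 3, 4, 3, 2, 1, 0, 3, 2, 1, 0, 1],
  [3, 2, 1, 0, 3, 2, 1, 0, 3, 4, 3, 2, 1, 0, 3, 2, 1, 0, 1, 3, 2, 1],
  [0, 1, 2, 1, 3, 4, 3, 2, 1, 3, 2, 1, 0, 1, 2, 3, 2, 1, 3, 4, 3, 2, 1, 0],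
  [0, 1, 2, 3, 4, 3, 2, 1, 3, 2, 1, 0, 1, 2, 4, 3, 2, 1, 3, 2, 3, 4],
  [2, 1, 3, 2, 3, 2, 1, 0, 1, 2, 3, 2, 1, 4, 3, 2, 1, 0, 1, 0, 3, 2, 3, 4],
  [2, 3, 2, 1, 0, 1, 0, 2, 1, 3, 4, 3, 2, 1, 3],
  [0, 1, 0, 1, 2, 3, 4, 3, 2, 3, 2, 1, 0, 1, 4, 3, 2, 1, 3, 2, 1, 4, 3, 2, 1, 0, 1],
  [1, 2, 1, 0, 1, 0, 2, 3, 2, 1, 0, 1, 4, 3, 2, 1, 3, 2, 3],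
  [0, 1, 2, 1, 0, 1, 3, 2, 4, 3, 2, 1, 3, 2, 4, 3, 2, 1, 3, 2, 4],
  [1, 2, 3, 2, 1, 4, 3, 2, 1, 0, 1, 0, 3, 2, 1, 4],
  [1, 2, 3, 2, 1, 0, 4, 3, 2, 1, 0, 1, 0, 3, 2, 4, 3, 2, 1, 0, 1, 2, 3, 2],
  [0, 1, 0, 1, 2, 3, 2, 4, 3, 2, 1, 0, 1, 2, 3, 2, 1, 0, 3, 2, 1],
  [2, 1, 3, 4, 3, 2, 1, 3, 2, 1, 0, 1, 3, 2, 4, 3],
  [1, 0, 2, 1, 3, 2, 3, 2, 1, 0, 1, 2, 3, 2, 4, 3, 2, 1, 0, 1, 0],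
  [2, 1, 0, 1, 3, 2, 1, 3, 4, 3, 2, 1, 3, 2, 1, 4, 3, 2, 1, 0, 1, 3, 4],
  [0, 2, 1, 4, 3, 2, 3, 2, 1, 0, 1, 2, 4, 3, 2, 1, 0, 1, 3, 2, 1, 4, 3, 2, 1, 0, 3],
  [3, 2, 1, 0, 3, 2, 1, 0, 1, 3, 4, 3, 2, 1, 3, 2, 1, 3, 2, 4, 3, 2, 1, 3],
  [1, 0, 2, 1, 0, 1, 0, 4, 3, 2, 1, 3, 2, 4, 3, 2, 1, 0, 3, 2, 3, 4],
  [0, 1, 0, 4, 3, 2, 1, 0, 3, 2, 1, 4, 3, 2, 1, 0, 1, 2, 3, 2],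
  [3, 2, 3, 2, 1, 0, 1, 2, 3, 2, 4, 3, 2, 1, 3, 2, 3, 4, 3, 2, 1, 0, 3, 2, 1],
  [1, 2, 1, 0, 3, 2, 4, 3, 2, 1, 0, 1, 0, 2, 3, 2, 1, 4, 3, 2, 1],
  [0, 1, 2, 1, 0, 3, 2, 4, 3, 2, 1, 0, 1, 0, 2, 3, 2, 1, 4, 3, 2, 1, 0],
  [2, 1, 0, 1, 3, 2, 1, 0, 4, 3, 2, 1, 0, 1, 2, 3, 2, 1, 3, 4, 3],
  [1, 0, 3, 2, 4, 3, 2, 1, 0, 1, 2, 3, 2, 1, 0, 3, 2, 1, 4, 3, 2],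
  [0, 1, 0, 2, 1, 0, 4, 3, 2, 1, 0, 3, 2, 3, 4, 3, 2, 1, 3, 2, 3],
  [0, 1, 3, 4, 3, 2, 1, 3, 2, 1, 0, 1, 0, 2, 3, 4, 3, 2],
  [0, 1, 2, 1, 3, 2, 1, 0, 1, 0, 4, 3, 2, 1, 3, 2, 4, 3, 2, 1, 3, 2, 3, 2, 1, 0],
  [1, 0, 2, 1, 3, 2, 1, 4, 3, 2, 1, 3, 2, 4, 3, 2, 1, 0, 1, 3, 2, 4, 3, 2, 3],
  [1, 4, 3, 2, 1, 3, 2, 3, 4, 3, 2, 1, 0, 1, 3, 2, 1, 4, 3, 2, 1, 0],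
  [1, 0, 1, 3, 4, 3, 2, 1, 3, 2, 3, 4, 3, 2, 1, 0, 3, 2, 1, 3, 4],
  [3, 2, 1, 0, 1, 3, 2, 3, 2, 1, 0, 1, 4, 3, 2, 1, 0, 3, 2, 1, 0, 1],
  [0, 1, 2, 1, 0, 1, 3, 2, 3, 2, 1, 0, 4, 3, 2, 1, 0, 3, 2, 3, 4],
  [3, 2, 1, 0, 1, 2, 3, 2, 1, 0, 1, 3, 2, 4, 3, 2, 1, 0, 1, 3, 2, 1, 0],
  [0, 1, 4, 3, 2, 1, 3, 2, 1, 0, 3, 4, 3, 2, 1, 0, 1, 2, 3, 2, 1, 4]]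

/-- the letters as words in the three generators and the inverses of the first two -/
def Wl : List (List ℕ) := [
  [0, 0, 2, 3, 2, 3, 2, 4, 3, 2, 0, 1, 2, 0, 2, 3, 2, 3],
  [0, 2, 0, 2, 3, 3, 2, 3, 2, 3, 3, 2, 3, 2, 4, 0, 2],
  [0, 1, 2, 3, 2, 3, 2, 3, 2, 0, 2, 4, 3, 2, 0, 2, 3, 3, 2],
  [1, 2, 3, 1, 2, 0, 2, 3, 2, 0, 1, 2, 3, 3, 2],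
  [1, 1, 3, 2, 0, 2, 3, 1]]

/-- the images of the letters under the outer automorphism -/
def Bw : List (List ℕ) := [
  [1, 3, 4, 3, 2, 1, 3, 2, 4, 3, 2, 1, 0, 1, 2, 3, 2, 1, 3, 4, 3, 2, 1, 3, 4],
  [1, 2, 3, 4, 3, 2, 1, 0, 3, 2, 1, 0, 4, 3, 2, 1, 0, 3, 2, 1, 3, 4, 3, 2, 1, 3, 4],
  [1, 0, 1, 2, 3, 4, 3, 2, 1, 3, 2, 1, 0, 1, 2, 3, 2, 3, 4, 3, 2, 1, 0, 1],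
  [0, 1, 3, 4, 3, 2, 1, 0, 1, 3, 2, 3, 2, 1, 0, 1, 4, 3],
  [0, 1, 0, 1, 2, 1, 3, 4, 3, 2, 1, 3, 2, 1, 0, 1, 0, 3, 4, 3, 2, 1, 0, 3, 2, 1]]

end Cfsg.Agent.Lib.Helper2.J2OutD
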