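import Cfsg.Agent.Lib.Helper2.PMStab3
import Cfsg.Agent.Lib.Helper2.J2Model
import Cfsg.Agent.Lib.Helper2.J2OutD

set_option autoImplicit false
set_option maxRecDepth 100000

/-! # The stabilizer of two points in the presented group `J2`, and the basic relations -/

namespace Cfsg.Agent.Lib.Helper2.J2Out

open Cfsg.Agent.Lib.Helper6 Cfsg.Agent.Lib.Helper6.TC Cfsg.Agent.Lib.Helper6.TCD
open Cfsg.Agent.Lib.Helper6.PM Cfsg.Agent.Lib.Helper2.PMS Cfsg.Agent.Lib.Helper2.J2M
open Cfsg.Agent.Lib.Helper2.J2OutD

/-- the model -/
noncomputable abbrev M : PModel := j2Model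

/-- the word of the square of the element of order 6 -/
def ws : List ℕ := wh ++ wh

/-- the words of the normalizer inside the stabilizer -/
def L21 : List (List ℕ) :=
  (List.range 7).flatMap fun i => (List.range 3).map fun j => rep i wp ++ rep j ws

/-- the data of the stabilizer -/
def D : Stab2Data where
  x := 9
  y := 62
  W1 := W1
  W2 := W2
  L := L21 ++ Lrest
  bs := [0, 1]

theorem chk_W1 : chkLetters M D.W1 = true := by decide +kernel
theorem chk_W2 : chkLetters M D.W2 = true := by decide +kernel
theorem chk_L : chkLetters M D.L = true := by decide +kernel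
theorem chk_h1 : (imgs M D.W1 D.x).Nodup := by decide +kernel
theorem chk_h2x : chkFixes M D.W2 D.x = true := by decide +kernel
theorem chk_h2 : (imgs M D.W2 D.y).Nodup := by decide +kernel
theorem chk_h3x : chkFixes M D.L D.x = true := by decide +kernel
theorem chk_h3y : chkFixes M D.L D.y = true := by decide +kernel
theorem chk_h3 : (keys M D.L D.bs).Nodup := by decide +kernel

theorem facts : Stab2Facts M D where
  hx := by show (9 : ℕ) < 100; norm_num
  hy := by show (62 : ℕ) < 100; norm_num
  hbs := by
    intro b hb
    show b < 100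
    have : b ∈ [0, 1] := hb
    simp only [List.mem_cons, List.not_mem_nil, or_false] at this
    rcases this with rfl | rfl <;> norm_num
  hW1 := chk_W1
  hW2 := chk_W2
  hL := chk_L
  h1 := chk_h1
  h2x := chk_h2x
  h2 := chk_h2
  h3x := chk_h3x
  h3y := chk_h3y
  h3 := chk_h3
  hcard := by
    have e1 : D.W1.length = 100 := by decide +kernel
    have e2 : D.W2.length = 36 := by decide +kernel
    have e3 : D.L.length = 168 := by decide +kernel
    rw [e1, e2, e3]
    exact card_G

end Cfsg.Agent.Lib.Helper2.J2Out
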