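import Cfsg.Agent.Lib.Helper2.J2Out3

set_option autoImplicit false
set_option maxRecDepth 100000

/-! # The normalizer of an element of order 7 and the centralizer of an element of order 6 in the
presented group `J2` -/

namespace Cfsg.Agent.Lib.Helper2.J2Out

open Cfsg.Agent.Lib.Helper6 Cfsg.Agent.Lib.Helper6.TC Cfsg.Agent.Lib.Helper6.TCD
open Cfsg.Agent.Lib.Helper6.PM Cfsg.Agent.Lib.Helper2.PMS Cfsg.Agent.Lib.Helper2.J2M
open Cfsg.Agent.Lib.Helper2.J2OutD

/-- the element of order 7 -/
noncomputable def gp : M.G := M.elt wp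
/-- the element of order 6 -/
noncomputable def gh : M.G := M.elt wh
/-- the involution -/
noncomputable def gv : M.G := M.elt wv

theorem invLetters : InvLetters M := by
  intro c hc q hq
  have h := J2Idx.hP.hpx c hc q hq
  have e : invc TCP.J2.INV c = c := by
    have hc' : c < 5 := hc
    interval_cases c <;> decide
  rw [e] at h
  exact h

theorem lt_wp : ∀ c ∈ wp, c < M.nl := by decide
theorem lt_wh : ∀ c ∈ wh, c < M.nl := by decide
theorem lt_wv : ∀ c ∈ wv, c < M.nl := by decide

theorem gp_inv : gp⁻¹ = M.elt wp.reverse := (elt_reverse M invLetters wp lt_wp).symm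
theorem gh_inv : gh⁻¹ = M.elt wh.reverse := (elt_reverse M invLetters wh lt_wh).symm

theorem gp_pow (k : ℕ) : gp ^ k = M.elt (rep k wp) := (elt_rep M k wp).symm
theorem gh_pow (k : ℕ) : gh ^ k = M.elt (rep k wh) := (elt_rep M k wh).symm

theorem chk_p7 : chkEq M (rep 7 wp) [] = true := by decide +kernel
theorem chk_p1 : chkNe M wp [] = true := by decide +kernel
theorem chk_h6 : chkEq M (rep 6 wh) [] = true := by decide +kernel
theorem chk_hh3 : chkNe M (rep 3 wh) [] = true := by decide +kernel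
theorem chk_hh2 : chkNe M (rep 2 wh) [] = true := by decide +kernel
theorem chk_v2 : chkEq M (wv ++ wv) [] = true := by decide +kernel
theorem chk_vh : chkEq M (wv ++ wh) (wh ++ wv) = true := by decide +kernel
theorem chk_ph : chkEq M (wh.reverse ++ wp ++ wh) (rep 3 wp) = true := by decide +kernel
theorem chk_ph' : chkEq M (wh ++ wp ++ wh.reverse) (rep 5 wp) = true := by decide +kernel
theorem chk_v1 : chkNe M wv [] = true := by decide +kernel
theorem chk_v3 : chkNe M wv (rep 3 wh) = true := by decide +kernel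

theorem gp_pow7 : gp ^ 7 = 1 := by
  rw [gp_pow, elt_eq_of_chk M _ _ chk_p7, M.elt_nil]

theorem gp_ne : gp ≠ 1 := by
  have := elt_ne_of_chk M _ _ chk_p1
  rwa [M.elt_nil] at this

theorem orderOf_gp : orderOf gp = 7 :=
  haveI : Fact (Nat.Prime 7) := ⟨by norm_num⟩
  orderOf_eq_prime gp_pow7 gp_ne

theorem orderOf_gh : orderOf gh = 6 := by
  apply orderOf_eq_of_pow_and_pow_div_prime (by norm_num)
  · rw [gh_pow, elt_eq_of_chk M _ _ chk_h6, M.elt_nil]
  · intro q hq hd
    have h6 : q ∣ 2 * 3 := hd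
    rcases (Nat.Prime.dvd_mul hq).mp h6 with h2 | h3
    · have : q = 2 := (Nat.prime_dvd_prime_iff_eq hq Nat.prime_two).mp h2
      subst this
      have := elt_ne_of_chk M _ _ chk_hh3
      rw [M.elt_nil] at this
      rw [gh_pow]
      exact this
    · have : q = 3 := (Nat.prime_dvd_prime_iff_eq hq Nat.prime_three).mp h3
      subst this
      have := elt_ne_of_chk M _ _ chk_hh2
      rw [M.elt_nil] at this
      rw [gh_pow]
      exact this

theorem gv_sq : gv * gv = 1 := by
  unfold gv
  rw [← M.elt_append, elt_eq_of_chk M _ _ chk_v2, M.elt_nil]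

theorem gv_gh : gv * gh = gh * gv := by
  unfold gv gh
  rw [← M.elt_append, ← M.elt_append]
  exact elt_eq_of_chk M _ _ chk_vh

theorem rel_ph : gh⁻¹ * gp * gh = gp ^ 3 := by
  rw [gh_inv, gp_pow]
  unfold gp gh
  rw [← M.elt_append, ← M.elt_append]
  exact elt_eq_of_chk M _ _ chk_ph

theorem rel_ph' : gh * gp * gh⁻¹ = gp ^ 5 := by
  rw [gh_inv, gp_pow]
  unfold gp gh
  rw [← M.elt_append, ← M.elt_append]
  exact elt_eq_of_chk M _ _ chk_ph'

theorem gv_ne_one : gv ≠ 1 := by
  have := elt_ne_of_chk M _ _ chk_v1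
  rwa [M.elt_nil] at this

theorem gv_ne_h3 : gv ≠ gh ^ 3 := by
  rw [gh_pow]
  exact elt_ne_of_chk M _ _ chk_v3

end Cfsg.Agent.Lib.Helper2.J2Out
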