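import Cfsg.Agent.Lib.Helper2.J2Out4

set_option autoImplicit false
set_option maxRecDepth 100000

/-! # The normalizer of an element of order 7 and the centralizer of an element of order 6 in the
presented group `J2`: the proofs -/

namespace Cfsg.Agent.Lib.Helper2.J2Out

open Cfsg.Agent.Lib.Helper6 Cfsg.Agent.Lib.Helper6.TC Cfsg.Agent.Lib.Helper6.TCD
open Cfsg.Agent.Lib.Helper6.PM Cfsg.Agent.Lib.Helper2.PMS Cfsg.Agent.Lib.Helper2.J2M
open Cfsg.Agent.Lib.Helper2.J2OutD

/-- the first fixed point of the element of order 7 -/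
noncomputable def x0 : Fin M.n := pnt M 9
/-- the second fixed point of the element of order 7 -/
noncomputable def y0 : Fin M.n := pnt M 62
/-- the third fixed point of the element of order 3 -/
noncomputable def z1 : Fin M.n := pnt M 44
/-- the fourth fixed point of the element of order 3 -/
noncomputable def z2 : Fin M.n := pnt M 92

theorem lt9 : (9 : ℕ) < M.n := by show (9 : ℕ) < 100; norm_num
theorem lt62 : (62 : ℕ) < M.n := by show (62 : ℕ) < 100; norm_num
theorem lt44 : (44 : ℕ) < M.n := by show (44 : ℕ) < 100; norm_num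
theorem lt92 : (92 : ℕ) < M.n := by show (92 : ℕ) < 100; norm_num

theorem x0_ne_y0 : x0 ≠ y0 := by
  intro h
  have := pnt_injOn M 9 62 lt9 lt62 h
  omega

theorem lt_ws : ∀ c ∈ ws, c < M.nl := by decide

theorem chk_fixp : chkFixIn M wp [9, 62] = true := by decide +kernel
theorem chk_fixs : chkFixIn M ws [9, 44, 62, 92] = true := by decide +kernel

theorem gp_x0 : gp • x0 = x0 := elt_smul_pnt M wp lt_wp 9 9 lt9 (by decide +kernel)
theorem gp_y0 : gp • y0 = y0 := elt_smul_pnt M wp lt_wp 62 62 lt62 (by decide +kernel)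
theorem gh_x0 : gh • x0 = y0 := elt_smul_pnt M wh lt_wh 62 9 lt62 (by decide +kernel)
theorem gh_y0 : gh • y0 = x0 := elt_smul_pnt M wh lt_wh 9 62 lt9 (by decide +kernel)
theorem gh_z2 : gh • z2 = z1 := elt_smul_pnt M wh lt_wh 44 92 lt44 (by decide +kernel)
theorem gv_x0 : gv • x0 = z2 := elt_smul_pnt M wv lt_wv 92 9 lt92 (by decide +kernel)

theorem elt_ws : M.elt ws = gh * gh := M.elt_append wh wh

theorem ghgh_x0 : (gh * gh) • x0 = x0 := by rw [mul_smul, gh_x0, gh_y0]

theorem pow_smul_fix {g : M.G} {q : Fin M.n} (h : g • q = q) (k : ℕ) : g ^ k • q = q := by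
  induction k with
  | zero => simp
  | succ k ih => rw [pow_succ, mul_smul, h, ih]

theorem lettersL : ∀ w ∈ D.L, ∀ c ∈ w, c < M.nl := letters_of_chk M D.L chk_L

theorem chkN : Lrest.all (fun w => (List.range 7).all fun k =>
    chkNe M (w.reverse ++ wp ++ w) (rep k wp)) = true := by decide +kernel

/-- the words of the powers of the element of order 3 -/
def Ls : List (List ℕ) := (List.range 3).map fun j => rep j ws

theorem chkC : D.L.all (fun w => chkNe M (w ++ wh) (wh ++ w) || Ls.contains w) = true := by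
  decide +kernel

theorem mem_L21 (w : List ℕ) (hw : w ∈ L21) : ∃ i j : ℕ, M.elt w = gp ^ i * gh ^ j := by
  unfold L21 at hw
  rw [List.mem_flatMap] at hw
  obtain ⟨i, _, hw⟩ := hw
  rw [List.mem_map] at hw
  obtain ⟨j, _, rfl⟩ := hw
  refine ⟨i, 2 * j, ?_⟩
  rw [M.elt_append, elt_rep, elt_rep, elt_ws, pow_mul, pow_two]
  rfl

theorem norm_of_fix (n : M.G) (k : ℕ) (hk : n⁻¹ * gp * n = gp ^ k) (hx : n • x0 = x0)
    (hy : n • y0 = y0) : ∃ i j : ℕ, n = gp ^ i * gh ^ j := by
  obtain ⟨w, hw, rfl⟩ := facts.mem_L n hx hy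
  have hwl := lettersL w hw
  have hw' : w ∈ L21 ++ Lrest := hw
  rcases List.mem_append.mp hw' with h1 | h1
  · exact mem_L21 w h1
  · exfalso
    have h2 := chkN
    rw [List.all_eq_true] at h2
    have h3 := h2 w h1
    rw [List.all_eq_true] at h3
    have h4 := h3 (k % 7) (List.mem_range.mpr (Nat.mod_lt _ (by norm_num)))
    have h5 := elt_ne_of_chk M _ _ h4
    apply h5
    rw [M.elt_append, M.elt_append, elt_reverse M invLetters w hwl, elt_rep]
    show (M.elt w)⁻¹ * gp * M.elt w = gp ^ (k % 7)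
    rw [hk, ← orderOf_gp, pow_mod_orderOf]

theorem gh_gp_pow (i : ℕ) : gh * gp ^ i = gp ^ (5 * i) * gh := by
  have h1 : (gh * gp * gh⁻¹) ^ i = gh * gp ^ i * gh⁻¹ := conj_pow
  rw [rel_ph', ← pow_mul] at h1
  rw [h1]
  group

/-- the normalizer of the element of order 7 -/
theorem normalizer_gp (n : M.G) (h : ∃ k : ℕ, n⁻¹ * gp * n = gp ^ k) :
    ∃ i j : ℕ, n = gp ^ i * gh ^ j := by
  obtain ⟨k, hk⟩ := h
  have hpn : gp * n = n * gp ^ k := by rw [← hk]; group
  have hfix : ∀ q : Fin M.n, gp • q = q → gp • (n • q) = n • q := by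
    intro q hq
    rw [← mul_smul, hpn, mul_smul, pow_smul_fix hq]
  have hcases : ∀ q : Fin M.n, gp • q = q → n • q = x0 ∨ n • q = y0 := by
    intro q hq
    have h1 := fix_in_of_chk M wp [9, 62] chk_fixp (n • q) (hfix q hq)
    simp only [List.mem_cons, List.not_mem_nil, or_false] at h1
    rcases h1 with h1 | h1
    · left; exact pnt_of_val_eq M _ _ h1
    · right; exact pnt_of_val_eq M _ _ h1
  have hne : n • x0 ≠ n • y0 := fun h => x0_ne_y0 (smul_left_cancel n h)
  rcases hcases x0 gp_x0 with hx | hx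
  · have hy : n • y0 = y0 := by
      rcases hcases y0 gp_y0 with hy | hy
      · exact absurd (hx.trans hy.symm) hne
      · exact hy
    exact norm_of_fix n k hk hx hy
  · have hy : n • y0 = x0 := by
      rcases hcases y0 gp_y0 with hy | hy
      · exact hy
      · exact absurd (hx.trans hy.symm) hne
    have hx' : (gh⁻¹ * n) • x0 = x0 := by
      rw [mul_smul, hx, inv_smul_eq_iff, gh_x0]
    have hy' : (gh⁻¹ * n) • y0 = y0 := by
      rw [mul_smul, hy, inv_smul_eq_iff, gh_y0]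
    have hk' : (gh⁻¹ * n)⁻¹ * gp * (gh⁻¹ * n) = gp ^ (k * 5) := by
      have e1 : (gh⁻¹ * n)⁻¹ * gp * (gh⁻¹ * n) = n⁻¹ * (gh * gp * gh⁻¹) * n := by group
      have e2 : (n⁻¹ * gp * n⁻¹⁻¹) ^ 5 = n⁻¹ * gp ^ 5 * n⁻¹⁻¹ := conj_pow
      rw [inv_inv] at e2
      rw [e1, rel_ph', ← e2, hk, ← pow_mul]
    obtain ⟨i, j, hij⟩ := norm_of_fix _ _ hk' hx' hy'
    refine ⟨5 * i, j + 1, ?_⟩
    have e3 : n = gh * (gp ^ i * gh ^ j) := by rw [← hij]; group
    rw [e3, ← mul_assoc, gh_gp_pow, mul_assoc, ← pow_succ']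

theorem cent_of_fix (m : M.G) (hm : m * gh = gh * m) (hx : m • x0 = x0) (hy : m • y0 = y0) :
    ∃ j : ℕ, m = gh ^ (2 * j) := by
  obtain ⟨w, hw, rfl⟩ := facts.mem_L m hx hy
  have h2 := chkC
  rw [List.all_eq_true] at h2
  have h3 := h2 w hw
  rw [Bool.or_eq_true] at h3
  rcases h3 with h3 | h3
  · exfalso
    have h5 := elt_ne_of_chk M _ _ h3
    apply h5
    rw [M.elt_append, M.elt_append]
    exact hm
  · rw [List.contains_iff_mem] at h3
    unfold Ls at h3
    rw [List.mem_map] at h3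
    obtain ⟨j, _, rfl⟩ := h3
    refine ⟨j, ?_⟩
    rw [elt_rep, elt_ws, pow_mul, pow_two]

/-- the centralizer of the element of order 6 -/
theorem centralizer_gh (c : M.G) (hc : c * gh = gh * c) : ∃ a b : ℕ, c = gh ^ a * gv ^ b := by
  have hcs : c * (gh * gh) = (gh * gh) * c := by
    rw [← mul_assoc, hc, mul_assoc, hc, mul_assoc]
  have hfix : (gh * gh) • (c • x0) = c • x0 := by
    rw [← mul_smul, ← hcs, mul_smul, ghgh_x0]
  have h1 := fix_in_of_chk M ws [9, 44, 62, 92] chk_fixs (c • x0) (by rw [elt_ws]; exact hfix)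
  simp only [List.mem_cons, List.not_mem_nil, or_false] at h1
  -- the common part
  have key : ∀ k : M.G, k * gh = gh * k → k • x0 = c • x0 → ∃ j : ℕ, c = k * gh ^ (2 * j) := by
    intro k hk hkx
    have hm : (k⁻¹ * c) * gh = gh * (k⁻¹ * c) := by
      have hk' : k⁻¹ * gh = gh * k⁻¹ := (Commute.inv_left (show Commute k gh from hk)).eq
      rw [mul_assoc, hc, ← mul_assoc, hk', mul_assoc]
    have hx : (k⁻¹ * c) • x0 = x0 := by rw [mul_smul, ← hkx, inv_smul_smul]
    have hy : (k⁻¹ * c) • y0 = y0 := by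
      rw [← gh_x0, ← mul_smul, hm, mul_smul, hx]
    obtain ⟨j, hj⟩ := cent_of_fix _ hm hx hy
    exact ⟨j, by rw [← hj]; group⟩
  have hvha : ∀ a : ℕ, gv * gh ^ a = gh ^ a * gv := by
    intro a
    have : Commute gv gh := gv_gh
    exact (this.pow_right a).eq
  rcases h1 with h1 | h1 | h1 | h1
  · -- the point 9
    have e := pnt_of_val_eq M _ _ h1
    obtain ⟨j, hj⟩ := key 1 (by simp) (by rw [one_smul]; exact e.symm)
    exact ⟨2 * j, 0, by rw [hj]; simp⟩
  · -- the point 44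
    have e := pnt_of_val_eq M _ _ h1
    obtain ⟨j, hj⟩ := key (gh * gv) (by rw [mul_assoc, gv_gh])
      (by rw [mul_smul, gv_x0, gh_z2]; exact e.symm)
    refine ⟨2 * j + 1, 1, ?_⟩
    rw [hj, mul_assoc, hvha, ← mul_assoc, ← pow_succ', pow_one]
  · -- the point 62
    have e := pnt_of_val_eq M _ _ h1
    obtain ⟨j, hj⟩ := key gh rfl (by rw [gh_x0]; exact e.symm)
    exact ⟨2 * j + 1, 0, by rw [hj, ← pow_succ']; simp⟩
  · -- the point 92
    have e := pnt_of_val_eq M _ _ h1
    obtain ⟨j, hj⟩ := key gv gv_gh (by rw [gv_x0]; exact e.symm)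
    exact ⟨2 * j, 1, by rw [hj, hvha, pow_one]⟩

end Cfsg.Agent.Lib.Helper2.J2Out
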