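import Cfsg.Agent.Lib.Helper2.J2Out5
import Cfsg.Agent.Lib.Helper6.Mult.PM2
import Cfsg.Agent.S0423

set_option autoImplicit false
set_option maxRecDepth 100000

/-! # Generation of the presented group `J2` by three elements, and the outer automorphism -/

namespace Cfsg.Agent.Lib.Helper2.J2Out

open Cfsg.Agent.Lib.Helper6 Cfsg.Agent.Lib.Helper6.TC Cfsg.Agent.Lib.Helper6.TCD
open Cfsg.Agent.Lib.Helper6.PM Cfsg.Agent.Lib.Helper2.PMS Cfsg.Agent.Lib.Helper2.J2M
open Cfsg.Agent.Lib.Helper2.J2OutD Cfsg.Agent.Lib.Helper6.TCP.J2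

/-- the three generators and the inverses of the first two -/
def ws5 : List (List ℕ) := [wp, wh, wv, wp.reverse, wh.reverse]

theorem chk_gen : (List.range 5).all (fun c => chkEq M [c] (expand ws5 (Wl.getD c []))) = true := by
  decide +kernel

theorem closure_gens : Subgroup.closure ({gp, gh, gv} : Set M.G) = ⊤ := by
  rw [eq_top_iff, ← M.closure_letters, Subgroup.closure_le]
  rintro g ⟨c, hc, rfl⟩
  have h1 := chk_gen
  rw [List.all_eq_true] at h1
  have h2 := elt_eq_of_chk M _ _ (h1 c (List.mem_range.mpr hc))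
  rw [h2]
  have h3 := elt_expand_mem M ws5 (Wl.getD c [])
  have h4 : PM.subH M ws5 ≤ Subgroup.closure ({gp, gh, gv} : Set M.G) := by
    unfold PM.subH
    rw [Subgroup.closure_le]
    rintro g ⟨i, hi, rfl⟩
    have hi' : i < 5 := hi
    have hp : gp ∈ Subgroup.closure ({gp, gh, gv} : Set M.G) := Subgroup.subset_closure (by simp)
    have hh : gh ∈ Subgroup.closure ({gp, gh, gv} : Set M.G) := Subgroup.subset_closure (by simp)
    have hv : gv ∈ Subgroup.closure ({gp, gh, gv} : Set M.G) := Subgroup.subset_closure (by simp)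
    interval_cases i
    · exact hp
    · exact hh
    · exact hv
    · show M.elt wp.reverse ∈ _
      rw [← gp_inv]
      exact Subgroup.inv_mem _ hp
    · show M.elt wh.reverse ∈ _
      rw [← gh_inv]
      exact Subgroup.inv_mem _ hh
  exact h4 h3

/-! ## The outer automorphism -/

/-- the images of the generators -/
noncomputable def bimg (i : Fin 5) : M.G := M.elt (Bw.getD i.val [])

theorem lift_wordElt (b : List ℕ) (hb : ∀ c ∈ b, c < 5) :
    FreeGroup.lift bimg (wordElt gc b) = M.elt (expand Bw b) := by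
  induction b with
  | nil =>
    rw [wordElt_nil, map_one, expand_nil, M.elt_nil]
  | cons c b ih =>
    have hc : c < 5 := hb c List.mem_cons_self
    rw [wordElt_cons, map_mul, ih (fun c' hc' => hb c' (List.mem_cons_of_mem _ hc')), expand_cons,
      M.elt_append]
    congr 1
    show FreeGroup.lift bimg (ceOf (gcF 5) c) = _
    rw [ceOf_gcF, FreeGroup.lift_apply_of]
    unfold bimg
    rw [Fin.val_ofNat, Nat.mod_eq_of_lt hc]

theorem chk_rels : base.all (fun b => chkEq M (expand Bw b) []) = true := by decide +kernel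

theorem lift_rels : ∀ r ∈ Rels, FreeGroup.lift bimg r = (1 : M.G) := by
  rintro r ⟨b, hb, rfl⟩
  rw [lift_wordElt b (hbl b hb)]
  have h1 := chk_rels
  rw [List.all_eq_true] at h1
  rw [elt_eq_of_chk M _ _ (h1 b hb), M.elt_nil]

/-- the endomorphism -/
noncomputable def beta0 : M.G →* M.G := PresentedGroup.toGroup (G := M.G) lift_rels

theorem beta0_elt (w : List ℕ) (hw : ∀ c ∈ w, c < 5) : beta0 (M.elt w) = M.elt (expand Bw w) := by
  rw [← lift_wordElt w hw]
  rfl

theorem chk_bp : chkEq M (expand Bw wp) wp = true := by decide +kernel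
theorem chk_bh : chkEq M (expand Bw wh) wh = true := by decide +kernel
theorem chk_bv : chkEq M (expand Bw wv) (wv ++ rep 3 wh) = true := by decide +kernel

theorem beta0_gp : beta0 gp = gp := by
  unfold gp
  rw [beta0_elt wp lt_wp]
  exact elt_eq_of_chk M _ _ chk_bp

theorem beta0_gh : beta0 gh = gh := by
  unfold gh
  rw [beta0_elt wh lt_wh]
  exact elt_eq_of_chk M _ _ chk_bh

theorem beta0_gv : beta0 gv = gv * gh ^ 3 := by
  rw [gh_pow]
  unfold gv
  rw [beta0_elt wv lt_wv, ← M.elt_append]
  exact elt_eq_of_chk M _ _ chk_bv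

theorem beta0_injective : Function.Injective beta0 := by
  have : IsSimpleGroup M.G := Cfsg.Agent.S0423.simple.1
  rw [← MonoidHom.ker_eq_bot_iff]
  rcases (MonoidHom.normal_ker beta0).eq_bot_or_eq_top with h | h
  · exact h
  · exfalso
    have h1 : gp ∈ beta0.ker := by rw [h]; exact Subgroup.mem_top _
    rw [MonoidHom.mem_ker, beta0_gp] at h1
    exact gp_ne h1

/-- the outer automorphism -/
noncomputable def beta : MulAut M.G :=
  MulEquiv.ofBijective beta0 (Finite.injective_iff_bijective.mp beta0_injective)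

theorem beta_apply (g : M.G) : beta g = beta0 g := rfl

end Cfsg.Agent.Lib.Helper2.J2Out
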