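import Cfsg.Agent.Lib.Helper2.RigidOut1

set_option autoImplicit false

namespace Cfsg.Agent.Lib.Helper2.RigidOut

open Cfsg.Agent.Lib.Helper1
open scoped Pointwise

variable {G : Type*} [Group G]

/-- Sylow: an automorphism maps `p` into a conjugate of `⟨p⟩` -/
theorem exists_conj_pow [Finite G] (p : G) (m : ℕ) (hcard : Nat.card G = 7 * m) (hm : ¬ 7 ∣ m)
    (hp : orderOf p = 7) (α : MulAut G) : ∃ g : G, ∃ k < 7, g * α p * g⁻¹ = p ^ k := by
  have : Fact (Nat.Prime 7) := ⟨by norm_num⟩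
  have hm0 : m ≠ 0 := by
    rintro rfl
    have := Nat.card_pos (α := G)
    omega
  have hfac : (Nat.card G).factorization 7 = 1 := by
    rw [hcard, Nat.factorization_mul (by norm_num) hm0]
    simp [Nat.Prime.factorization_self (show Nat.Prime 7 by norm_num),
      Nat.factorization_eq_zero_of_not_dvd hm]
  set P : Subgroup G := Subgroup.zpowers p with hP
  have hPc : Nat.card P = 7 := by rw [hP, Nat.card_zpowers, hp]
  set P' : Subgroup G := P.map α.toMonoidHom with hP'
  have hP'c : Nat.card P' = 7 := by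
    rw [hP', Subgroup.card_map_of_injective α.injective, hPc]
  let S : Sylow 7 G := Sylow.ofCard P (by rw [hPc, hfac, pow_one])
  let S' : Sylow 7 G := Sylow.ofCard P' (by rw [hP'c, hfac, pow_one])
  obtain ⟨g, hg⟩ := MulAction.exists_smul_eq G S' S
  have h1 : (g • S' : Sylow 7 G).toSubgroup = S.toSubgroup := by rw [hg]
  rw [Sylow.coe_subgroup_smul] at h1
  have h2 : g * α p * g⁻¹ ∈ P := by
    have h3 : g * α p * g⁻¹ ∈ MulAut.conj g • S'.toSubgroup := by
      rw [Subgroup.mem_pointwise_smul_iff_inv_smul_mem]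
      have : (MulAut.conj g)⁻¹ • (g * α p * g⁻¹) = α p := by
        rw [MulAut.smul_def, ← map_inv, MulAut.conj_apply]
        group
      rw [this]
      exact ⟨p, Subgroup.mem_zpowers p, rfl⟩
    rw [h1] at h3
    exact h3
  obtain ⟨j, hj, e⟩ := exists_pow_of_mem_zpowers' hp (by norm_num) h2
  exact ⟨g, j, hj, e⟩

theorem rigid_out_two [Finite G] (p h v : G) (m : ℕ)
    (hcard : Nat.card G = 7 * m) (hm : ¬ 7 ∣ m)
    (hp : orderOf p = 7) (hh : orderOf h = 6) (hv2 : v * v = 1) (hvh : v * h = h * v)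
    (hph : h⁻¹ * p * h = p ^ 3)
    (hN : ∀ n : G, (∃ k : ℕ, n⁻¹ * p * n = p ^ k) → ∃ i j : ℕ, n = p ^ i * h ^ j)
    (hC : ∀ c : G, c * h = h * c → ∃ a b : ℕ, c = h ^ a * v ^ b)
    (hv1 : v ≠ 1) (hv3 : v ≠ h ^ 3)
    (hgen : Subgroup.closure ({p, h, v} : Set G) = ⊤)
    (β : MulAut G) (hβp : β p = p) (hβh : β h = h) (hβv : β v = v * h ^ 3) :
    Nat.card (Cfsg.Out G) = 2 := by
  have hp1 : p ≠ 1 := by
    intro h1
    rw [h1, orderOf_one] at hp
    omega
  have hh3 : h ^ 3 ≠ 1 := by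
    intro h1
    have := orderOf_dvd_of_pow_eq_one h1
    rw [hh] at this
    omega
  -- the shape of an element normalizing `p` to a given power
  have hshape : ∀ (n : G) (k : ℕ), n⁻¹ * p * n = p ^ k → ∃ i j : ℕ, n = p ^ i * h ^ j ∧
      3 ^ j % 7 = k % 7 := by
    intro n k hk
    obtain ⟨i, j, rfl⟩ := hN n ⟨k, hk⟩
    refine ⟨i, j, rfl, ?_⟩
    have e1 : (p ^ i * h ^ j)⁻¹ * p * (p ^ i * h ^ j) = (h ^ j)⁻¹ * p ^ 1 * h ^ j := by
      rw [mul_inv_rev, pow_one]
      have : (p ^ i)⁻¹ * p * p ^ i = p := by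
        rw [mul_assoc, (Commute.self_pow p i).eq, ← mul_assoc, inv_mul_cancel, one_mul]
      calc (h ^ j)⁻¹ * (p ^ i)⁻¹ * p * (p ^ i * h ^ j)
          = (h ^ j)⁻¹ * ((p ^ i)⁻¹ * p * p ^ i) * h ^ j := by group
        _ = (h ^ j)⁻¹ * p * h ^ j := by rw [this]
    rw [e1, conj_rel_pow_pow hph, mul_one] at hk
    have := (pow_eq_pow_iff_modEq).mp hk
    rw [hp] at this
    exact this
  -- the other form of the conjugation relation
  have hph' : ∀ i : ℕ, p ^ i * h = h * p ^ (3 * i) := by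
    intro i
    have := conj_rel_pow hph i
    rw [← this]
    group
  -- `β` is not inner
  have hβ : β ∉ (MulAut.conj : G →* MulAut G).range := by
    rintro ⟨k, hk⟩
    have hkp : k * p * k⁻¹ = p := by rw [← MulAut.conj_apply, hk, hβp]
    have hkh : k * h * k⁻¹ = h := by rw [← MulAut.conj_apply, hk, hβh]
    have hkv : k * v * k⁻¹ = v * h ^ 3 := by rw [← MulAut.conj_apply, hk, hβv]
    have e1 : k⁻¹ * p * k = p ^ 1 := by
      rw [pow_one]
      conv_lhs => rw [← hkp]
      group
    obtain ⟨i, j, rfl, hj⟩ := hshape k 1 e1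
    have hj0 := three_pow_eq_one (by simpa using hj)
    have hhj : h ^ j = 1 := by
      rw [← pow_mod_orderOf, hh, hj0, pow_zero]
    rw [hhj, mul_one] at hkh hkv
    have e2 : p ^ i * h = h * p ^ i := by
      conv_rhs => rw [← hkh]
      group
    have e3 : p ^ i = p ^ (3 * i) := by
      have := hph' i
      rw [e2] at this
      exact mul_left_cancel this
    have e4 := (pow_eq_pow_iff_modEq).mp e3
    rw [hp] at e4
    have e5 : i % 7 = 0 := by
      have : i % 7 = (3 * i) % 7 := e4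
      omega
    have hpi : p ^ i = 1 := by rw [← pow_mod_orderOf, hp, e5, pow_zero]
    rw [hpi] at hkv
    apply hh3
    have : v = v * h ^ 3 := by simpa using hkv
    exact (mul_eq_left.mp this.symm)
  refine card_out_eq_two β hβ ?_
  intro α hα
  -- first normalization
  obtain ⟨g, k, hk7, hgk⟩ := exists_conj_pow p m hcard hm hp α
  have hk0 : k ≠ 0 := by
    rintro rfl
    rw [pow_zero] at hgk
    have : α p = 1 := by
      have : α p = g⁻¹ * (g * α p * g⁻¹) * g := by group
      rw [this, hgk]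
      group
    exact hp1 (by simpa using this)
  obtain ⟨j, hj⟩ := exists_three_pow k hk0 hk7
  set α₂ : MulAut G := MulAut.conj ((h ^ j)⁻¹) * (MulAut.conj g * α) with hα₂
  have hα₂p : α₂ p = p := by
    rw [hα₂, MulAut.mul_apply, MulAut.mul_apply, MulAut.conj_apply, MulAut.conj_apply, hgk, inv_inv,
      conj_rel_pow_pow hph, ← pow_mod_orderOf, hp, hj, pow_one]
  -- second normalization
  have e1 : (α₂ h)⁻¹ * p * α₂ h = p ^ 3 := by
    have : α₂ (h⁻¹ * p * h) = α₂ (p ^ 3) := by rw [hph]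
    rw [map_mul, map_mul, map_inv, map_pow, hα₂p] at this
    exact this
  obtain ⟨i, j', hij, hj'⟩ := hshape (α₂ h) 3 e1
  have hj1 := three_pow_eq_three (by simpa using hj')
  have hhj : h ^ j' = h := by
    rw [← pow_mod_orderOf, hh, hj1, pow_one]
  rw [hhj] at hij
  set α₃ : MulAut G := MulAut.conj (p ^ (2 * i)) * α₂ with hα₃
  have hα₃p : α₃ p = p := by
    rw [hα₃, MulAut.mul_apply, MulAut.conj_apply, hα₂p, (Commute.pow_self p (2 * i)).eq, mul_assoc,
      mul_inv_cancel, mul_one]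
  have hα₃h : α₃ h = h := by
    rw [hα₃, MulAut.mul_apply, MulAut.conj_apply, hij]
    have e2 : p ^ (2 * i) * (p ^ i * h) = p ^ (3 * i) * h := by
      rw [← mul_assoc, ← pow_add]
      congr 2
      ring
    have e3 : p ^ (3 * (3 * i)) = p ^ (2 * i) := by
      rw [pow_eq_pow_iff_modEq, hp]
      show (3 * (3 * i)) % 7 = (2 * i) % 7
      omega
    rw [e2, hph' (3 * i), e3, mul_assoc, mul_inv_cancel, mul_one]
  -- the image of `v`
  have hcv : α₃ v * h = h * α₃ v := by
    have : α₃ (v * h) = α₃ (h * v) := by rw [hvh]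
    rw [map_mul, map_mul, hα₃h] at this
    exact this
  have hcc : α₃ v * α₃ v = 1 := by rw [← map_mul, hv2, map_one]
  obtain ⟨a, b, hab⟩ := hC (α₃ v) hcv
  have hvha : ∀ a : ℕ, v * h ^ a = h ^ a * v := by
    intro a
    have : Commute v h := hvh
    exact (this.pow_right a).eq
  have hcase : α₃ v = v ∨ α₃ v = v * h ^ 3 := by
    rcases pow_two_cases hv2 b with hb | hb
    · exfalso
      rw [hb, mul_one] at hab
      have e2 : v = h ^ a := by
        apply α₃.injective
        rw [hab, map_pow, hα₃h]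
      have e3 : h ^ (2 * a) = 1 := by
        rw [two_mul, pow_add, ← e2, hv2]
      rcases pow_cases_of_sq hh a e3 with h4 | h4
      · exact hv1 (e2.trans h4)
      · exact hv3 (e2.trans h4)
    · rw [hb] at hab
      have e3 : h ^ (2 * a) = 1 := by
        have : α₃ v * α₃ v = h ^ (2 * a) := by
          rw [hab]
          calc h ^ a * v * (h ^ a * v) = h ^ a * (v * h ^ a) * v := by group
            _ = h ^ a * (h ^ a * v) * v := by rw [hvha]
            _ = h ^ (2 * a) * (v * v) := by rw [two_mul, pow_add]; group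
            _ = h ^ (2 * a) := by rw [hv2, mul_one]
        rw [← this, hcc]
      rcases pow_cases_of_sq hh a e3 with h4 | h4
      · left; rw [hab, h4, one_mul]
      · right; rw [hab, h4, hvha]
  -- the automorphism is determined by the images of the generators
  have hdet : ∀ γ δ : MulAut G, γ p = δ p → γ h = δ h → γ v = δ v → γ = δ := by
    intro γ δ h1 h2 h3
    have : γ.toMonoidHom = δ.toMonoidHom := by
      apply MonoidHom.eq_of_eqOn_dense hgen
      intro x hx
      rcases hx with rfl | rfl | rfl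
      · exact h1
      · exact h2
      · exact h3
    ext x
    exact DFunLike.congr_fun this x
  have hinn : MulAut.conj (p ^ (2 * i)) * (MulAut.conj ((h ^ j)⁻¹) * MulAut.conj g) ∈
      (MulAut.conj : G →* MulAut G).range :=
    ⟨p ^ (2 * i) * ((h ^ j)⁻¹ * g), by rw [map_mul, map_mul]⟩
  have hα₃' : α₃ = MulAut.conj (p ^ (2 * i)) * (MulAut.conj ((h ^ j)⁻¹) * MulAut.conj g) * α := by
    rw [hα₃, hα₂]
    simp only [mul_assoc]
  rcases hcase with hc | hc
  · exfalso
    have h1 : α₃ = 1 := hdet α₃ 1 (by rw [hα₃p]; rfl) (by rw [hα₃h]; rfl) (by rw [hc]; rfl)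
    apply hα
    rw [h1] at hα₃'
    have : α = (MulAut.conj (p ^ (2 * i)) * (MulAut.conj ((h ^ j)⁻¹) * MulAut.conj g))⁻¹ :=
      eq_inv_of_mul_eq_one_right hα₃'.symm
    rw [this]
    exact Subgroup.inv_mem _ hinn
  · have h1 : α₃ = β := hdet α₃ β (by rw [hα₃p, hβp]) (by rw [hα₃h, hβh]) (by rw [hc, hβv])
    rw [h1] at hα₃'
    have : α * β⁻¹ = (MulAut.conj (p ^ (2 * i)) * (MulAut.conj ((h ^ j)⁻¹) * MulAut.conj g))⁻¹ := by
      rw [hα₃']
      group
    rw [this]
    exact Subgroup.inv_mem _ hinn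

end Cfsg.Agent.Lib.Helper2.RigidOut
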