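import Cfsg.Agent.Lib.Helper2.J2Out6
import Cfsg.Agent.Lib.Helper2.RigidOut2

set_option autoImplicit false

/-! # The outer automorphism group of the presented group `J2` has order two -/

namespace Cfsg.Agent.Lib.Helper2.J2Out

open Cfsg.Agent.Lib.Helper6 Cfsg.Agent.Lib.Helper6.PM Cfsg.Agent.Lib.Helper2.J2M
open Cfsg.Agent.Lib.Helper2.RigidOut

theorem card_out_G : Nat.card (Cfsg.Out Cfsg.Agent.Lib.Helper6.TCP.J2.G) = 2 :=
  rigid_out_two (G := M.G) gp gh gv 86400 (by rw [show Nat.card M.G = 604800 from card_G])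
    (by norm_num) orderOf_gp orderOf_gh gv_sq gv_gh rel_ph normalizer_gp centralizer_gh gv_ne_one
    gv_ne_h3 closure_gens beta beta0_gp beta0_gh beta0_gv

end Cfsg.Agent.Lib.Helper2.J2Out
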