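import Mathlib

set_option autoImplicit false

/-! # Data for the automorphisms of the presented group `J3` on 6156 points -/

namespace Cfsg.Agent.Lib.Helper2.J3OutD

/-- the word of an element of order 17 -/
def wp : List ℕ := [0, 1, 3, 1]

/-- the word of an element of order 8 normalizing it -/
def wh : List ℕ := [0, 3, 0, 3, 0, 3, 3, 1, 0, 2, 3, 2]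

/-- the word of an involution normalizing the element of order 8 -/
def wv : List ℕ := [3, 3, 1, 0, 4, 2, 3, 3, 1, 0, 4, 2]

/-- words fixing the point 804 and moving the point 2655 to the points of its orbit -/
def W2 : List (List ℕ) := [
  [3, 0, 1, 4, 0, 3, 2, 0, 2, 0],
  [4, 2, 0, 1, 0, 1, 4, 0, 4, 2, 0],
  [1, 4, 2, 3, 0, 1, 4, 2, 3, 2],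
  [2, 3, 0, 3, 3, 1, 3, 3, 2],
  [1, 3, 3, 2, 3, 3, 0, 3, 3, 2, 0],
  [4, 2, 0, 1, 4, 1, 0, 1, 0, 4, 2],
  [2, 0, 4, 0, 3, 0, 4, 0, 3, 0],
  [0, 2, 0, 3, 3, 1, 4, 0, 3],
  [4, 2, 0, 4, 0, 3, 2, 0, 2, 4],
  [0, 3, 3, 2, 0, 4, 0, 3, 1],
  [3, 3, 0, 4, 1, 3, 1, 3, 3],
  [0, 3, 3, 0, 2, 0, 2, 3, 1, 0, 2, 3],
  [1, 0, 2, 4, 0, 4, 2, 3, 3, 1],
  [0, 1, 0, 1, 0, 3, 3, 0, 1, 3, 1, 3],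
  [1, 4, 1, 3, 1, 4, 2, 3, 0, 1],
  [0, 4, 1, 0, 1, 3, 1, 4, 0, 3, 2, 0],
  [3, 1, 0, 4, 2, 4, 1, 0],
  [0, 2, 3, 1, 3, 0, 2, 4],
  [0, 2, 0, 4, 1, 4, 1, 3, 2, 4, 1, 0],
  [0, 2, 3, 0, 4, 1, 4, 0, 3, 3, 0, 2],
  [2, 0, 3, 2, 0, 2, 0, 1, 3],
  [0, 3, 1, 0, 4, 0, 4, 1, 0, 4, 1],
  [0, 2, 0, 4, 1, 4, 1, 3, 3, 0, 2, 4],
  [3, 0, 4, 1, 0, 3, 2, 4, 1, 3],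
  [4, 1, 3, 2, 3, 3, 1, 4, 2, 3],
  [0, 1, 0, 3, 0, 1, 3, 3, 0],
  [4, 0, 1, 3, 1, 4, 2, 0, 4, 1, 3],
  [0, 3, 1, 0, 3, 2, 4, 2, 4, 2, 0, 4, 1],
  [4, 0, 1, 0, 1, 4, 1, 3, 2, 0, 3],
  [0, 2, 3, 0, 2, 0, 3, 2, 3],
  [3, 2, 3, 2, 3, 0, 4, 1, 3],
  [0, 1, 4, 2, 3, 1, 3, 0, 3, 2, 3],
  [0, 1, 4, 0, 4, 2, 3, 2, 3, 1, 4],
  [1, 3, 1, 4, 2, 0, 3, 0, 1, 4, 2],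
  [0, 1, 4, 1, 3, 0, 3, 1, 0, 2],
  [2, 3, 0, 2, 3, 0, 3, 0, 2, 4, 0],
  [0, 4, 1, 0, 1, 3, 0, 2, 0, 4],
  [0, 3, 3, 0, 3, 1, 4, 0, 1, 3, 3],
  [1, 0, 2, 4, 0, 4, 2, 3, 2, 0],
  [2, 0, 1, 3, 0, 4, 0, 2, 4],
  [1, 3, 3, 1, 0, 2, 4, 0, 2, 3, 2, 4],
  [1, 4, 0, 3, 3, 1, 3, 1, 3, 2, 4],
  [3, 0, 3, 1, 0, 2, 4, 0, 4],
  [1, 3, 1, 3, 3, 2, 3, 3, 2, 4, 2],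
  [3, 3, 0, 2, 3, 3, 1, 0, 3, 3],
  [0, 3, 1, 3, 1, 3, 3, 2, 0, 2, 0, 3],
  [2, 0, 4, 0, 4, 1, 0, 4, 0, 3, 1],
  [0, 1, 4, 2, 3, 0, 4, 1, 0, 4, 1],
  [3, 2, 0, 2, 3, 3, 0, 3, 1, 3, 3, 2],
  [4, 2, 3, 2, 0, 1, 3, 2, 0, 3],
  [0, 2, 4, 0, 1, 0, 3, 2, 0, 4, 2],
  [0, 3, 2, 3, 2, 0, 1, 0, 4],
  [0, 4, 0, 4, 2, 0, 1, 4, 2, 0, 2],
  [3, 1, 3, 1, 3, 3, 0, 2, 0, 3],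
  [0, 1, 4, 0, 3, 2, 0, 2, 0, 4],
  [],
  [1, 3, 3, 0, 4, 0, 4, 0, 2, 3, 2, 3],
  [1, 0, 1, 0, 4, 2, 0, 2, 3, 0, 1, 3],
  [2, 3, 0, 2, 3, 0, 4, 1, 3, 3, 1],
  [4, 1, 4, 0, 1, 0, 4, 2, 3, 1],
  [0, 2, 3, 0, 3, 3, 0, 4, 1, 0],
  [1, 3, 1, 4, 2, 0, 1, 3, 2, 4, 2],
  [4, 0, 3, 2, 3, 3, 0, 2, 3, 1],
  [1, 3, 1, 4, 0, 2, 4, 1, 0, 4, 0],
  [4, 0, 2, 4, 2, 0, 3, 3, 0, 1, 0, 4],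
  [0, 3, 3, 2, 0, 4, 0, 2, 0],
  [4, 1, 0, 3, 1, 4, 2, 4, 2],
  [0, 4, 0, 4, 2, 0, 4, 0, 3, 2],
  [1, 0, 4, 0, 2, 4, 2, 4, 1, 4, 0],
  [0, 2, 4, 0, 3, 0, 1, 3, 1, 4],
  [0, 1, 0, 2, 4, 2, 3, 3, 2, 0, 4],
  [0, 4, 0, 1, 0, 4, 0, 4, 0, 3, 2],
  [0, 1, 0, 2, 3, 3, 0, 1, 0, 3, 2, 4],
  [1, 4, 0, 3, 0, 1, 3, 0, 3, 0],
  [3, 0, 2, 0, 1, 4, 1, 4, 0],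
  [2, 3, 0, 2, 3, 0, 4, 1, 3, 2, 0],
  [0, 4, 0, 1, 0, 4, 0, 1, 4, 2, 0, 2],
  [0, 4, 0, 3, 0, 3, 3, 2, 3, 3, 0],
  [0, 1, 4, 2, 3, 2, 3, 2, 4, 1, 0, 4],
  [0, 4, 1, 0, 1, 0, 3, 0, 2, 0, 4],
  [4, 2, 0, 1, 0, 1, 4, 0, 1],
  [1, 3, 2, 3, 2, 4, 1, 4, 2],
  [2, 0, 4, 0, 4, 2, 3, 3, 0],
  [1, 4, 0, 3, 1, 4, 2, 0, 2],
  [1, 3, 0, 2, 0, 2, 3, 2, 0, 1, 3],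
  [0, 4, 0, 4, 1, 0, 3, 2, 4, 0, 4],
  [0, 4, 0, 1, 3, 2, 3, 2, 3],
  [4, 1, 4, 1, 4, 2, 0, 3, 0],
  [3, 0, 1, 4, 0, 3, 2, 0, 3, 1],
  [1, 0, 3, 0, 1, 3, 0, 3, 2, 0, 1],
  [1, 0, 3, 3, 0, 1, 3, 1, 3, 0],
  [0, 2, 0, 2, 3, 2, 3, 2, 0, 3, 2],
  [1, 3, 2, 3, 1, 4, 1, 4, 2],
  [4, 1, 0, 1, 4, 0, 4, 2, 3, 2],
  [1, 3, 0, 3, 2, 3, 2, 4, 1, 0, 3],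
  [2, 0, 1, 3, 0, 3, 3, 2, 4, 1, 0],
  [3, 2, 4, 1, 4, 1, 3, 0, 3, 2, 0],
  [1, 0, 4, 0, 3, 0, 4, 0, 3, 0, 2],
  [0, 3, 1, 3, 1, 3, 0, 1, 4, 1, 3],
  [2, 0, 4, 0, 4, 1, 0, 4, 0, 2, 0],
  [3, 3, 2, 0, 3, 2, 4, 0, 3, 3, 0],
  [0, 4, 0, 1, 0, 4, 1, 3, 0, 3, 0],
  [2, 3, 0, 3, 0, 2, 3, 2, 3, 1, 3],
  [3, 1, 3, 1, 4, 0, 1, 3, 3, 0, 4],
  [4, 2, 3, 0, 4, 1, 4, 1, 4],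
  [4, 0, 3, 2, 3, 2, 4, 1, 3, 0],
  [0, 3, 2, 3, 1, 4, 2, 0, 3, 0, 3, 1],
  [3, 0, 4, 1, 3, 0, 4, 2, 3, 0, 4],
  [0, 3, 0, 2, 3, 1, 0, 3, 2, 4, 2],
  [0, 3, 0, 3, 2, 3, 2, 3, 0, 3, 2],
  [3, 0, 2, 0, 2, 3, 1, 0, 3, 0, 2],
  [1, 4, 0, 1, 4, 1, 4, 1, 0, 1, 0],
  [0, 3, 0, 1, 3, 0, 2, 3, 2, 4, 2],
  [0, 1, 4, 1, 3, 1, 3, 2, 0, 3, 1],
  [0, 1, 0, 3, 0, 2, 3, 0, 3, 0, 1],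
  [0, 2, 3, 1, 4, 1, 3, 0, 3, 3, 1, 0],
  [2, 3, 2, 0, 3, 3, 0, 4, 1, 4, 2],
  [0, 3, 3, 1, 3, 0, 3, 0, 1],
  [1, 0, 1, 3, 2, 4, 0, 3, 2],
  [0, 1, 4, 1, 3, 1, 3, 2, 0, 2, 0]]

/-- the letters as words in the three generators and the inverses of the first two -/
def Wl : List (List ℕ) := [
  [4, 0, 1, 2, 0, 0, 2, 3, 2, 4, 0, 2, 4, 3, 2, 1, 0, 2, 1, 0],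
  [2, 0, 4, 3, 2, 3, 2, 0, 2, 1, 0, 1, 3, 2, 0, 0, 2, 0],
  [3, 2, 1, 0, 2, 0, 1, 3, 3, 2, 3, 2, 0, 2, 0, 1, 3, 2],
  [2, 0, 0, 0, 2, 0, 4, 3, 2, 3, 4, 2, 3, 4, 2, 0, 1],
  [4, 3, 1, 2, 3, 1, 2, 0, 2, 0, 1, 3, 2, 3, 3, 3, 2]]

/-- the images of the letters under the outer automorphism -/
def Bw : List (List ℕ) := [
  [3, 3, 2, 4, 1, 4, 1, 3, 2, 4, 1, 0, 2, 0, 3, 0],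
  [1, 3, 1, 4, 1, 0, 4, 0, 4, 0, 3, 2, 0],
  [0, 1, 4, 0, 3, 0, 3, 0, 2, 3, 2, 4, 2],
  [3, 2, 0, 3, 0, 3, 3, 0, 2, 0, 3, 0, 2, 3, 3],
  [3, 1, 4, 0, 1, 3, 2, 0, 2, 3, 0, 4, 0, 1, 4]]

end Cfsg.Agent.Lib.Helper2.J3OutD
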