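import Mathlib

set_option autoImplicit false
set_option maxRecDepth 100000

/-! # Data for the automorphisms of the presented group `J3` on 6156 points: the transversal -/

namespace Cfsg.Agent.Lib.Helper2.J3OutD

/-- words moving the point 804 to all points, in the order of the points -/
def W1 : List (List ℕ) := [
  [2, 3, 2, 3, 0, 1],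
  [2, 3, 2, 3, 0, 2],
  [2, 3, 2, 3, 0],
  [2, 3, 2, 3, 0, 2, 0],
  [4, 1, 4, 0, 4],
  [4, 1, 4, 0, 3],
  [2, 3, 2, 3],
  [2, 3, 2, 3, 0, 3],
  [2, 3, 2, 3, 0, 4],
  [1, 0, 3, 1, 0, 3, 1, 3],
  [0, 3, 0, 4, 1, 3, 2, 3],
  [2, 3, 2, 3, 0, 2, 0, 3],
  [1, 0, 3, 3, 1, 0, 2, 0],
  [4, 1, 4, 0, 4, 0],
  [0, 1, 4, 2, 3, 2],
  [0, 1, 4, 2, 3],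
  [4, 1, 4, 0],
  [4, 1, 4, 0, 3, 0],
  [4, 1, 4, 0, 3, 1],
  [0, 1, 4, 1, 0, 4],
  [2, 3, 2, 3, 1],
  [2, 3, 2, 3, 2],
  [2, 3, 2, 3, 3],
  [2, 3, 2],
  [2, 3, 2, 3, 0, 3, 0],
  [2, 0, 1, 4, 0, 2, 0],
  [2, 3, 2, 3, 0, 3, 2],
  [2, 3, 2, 3, 0, 3, 3],
  [2, 3, 2, 3, 0, 4, 0],
  [2, 0, 4, 0, 1, 3, 3],
  [2, 3, 2, 3, 0, 4, 2],
  [1, 4, 2, 0, 2, 3, 3],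
  [2, 0, 3, 3, 2, 4, 0],
  [1, 0, 3, 1, 0, 3, 1],
  [0, 4, 2, 3, 3, 1, 0, 4],
  [3, 2, 0, 1, 0, 1, 4, 0],
  [0, 3, 0, 4, 1, 3, 2],
  [1, 0, 1, 0, 4, 1, 0, 3],
  [3, 0, 2, 0, 4, 2, 4],
  [4, 0, 4, 1, 4, 0, 3],
  [1, 0, 3, 0, 3, 1, 3, 2],
  [1, 0, 3, 3, 1, 0, 2],
  [0, 2, 3, 3, 0, 2, 0, 3, 2],
  [0, 2, 3, 3, 0, 2, 0, 3],
  [2, 3, 1, 0, 2, 0, 4],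
  [0, 2, 4, 0, 4, 1, 4],
  [1, 0, 2, 3, 0, 1],
  [1, 0, 2, 4, 2, 4, 2],
  [0, 1, 4, 2, 3, 2, 0],
  [3, 0, 2, 3, 1],
  [3, 3, 1, 0, 2, 0],
  [2, 3, 0, 2, 3],
  [0, 3, 1, 0],
  [0, 1, 4, 2],
  [4, 1, 4],
  [0, 2, 3, 0],
  [0, 2, 3, 0, 1],
  [3, 0, 3, 0, 2, 0],
  [3, 0, 3, 0, 2, 0, 1],
  [3, 0, 2, 3, 2, 3, 0],
  [1, 4, 2, 0, 1, 4, 2],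
  [3, 2, 0, 1, 4, 2],
  [4, 1, 0, 1, 0, 4],
  [4, 1, 0, 1, 0, 3],
  [0, 1, 4, 1, 0, 4, 0],
  [0, 1, 4, 1, 0],
  [0, 1, 4, 1, 0, 3, 3],
  [2, 3, 2, 3, 1, 0],
  [2, 3, 2, 3, 1, 3],
  [2, 3, 2, 3, 1, 4],
  [2, 3, 2, 3, 2, 0],
  [2, 3, 2, 3, 2, 3],
  [2, 3, 2, 3, 2, 4],
  [2, 3, 2, 3, 3, 0],
  [2, 3, 2, 3, 3, 1],
  [2, 3, 2, 3, 3, 2],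
  [2, 3, 2, 4],
  [2, 3, 2, 0],
  [2, 3],
  [2, 3, 1],
  [2, 3, 2, 3, 0, 3, 0, 1],
  [1, 4, 2, 3, 3, 2, 4, 0],
  [4, 1, 0, 4, 1, 0],
  [4, 1, 3, 3, 0, 4, 0],
  [2, 0, 1, 4, 0, 2],
  [2, 0, 1, 4, 0, 2, 0, 3],
  [2, 0, 1, 3, 2, 0, 2],
  [1, 3, 2, 4, 0, 2, 3, 2],
  [1, 3, 0, 3, 3, 0, 1],
  [3, 2, 3, 0, 1, 0, 1],
  [1, 4, 2, 0, 2, 3, 2],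
  [2, 3, 2, 3, 0, 3, 3, 1],
  [0, 2, 4, 0, 4, 0, 3, 0],
  [0, 4, 0, 4, 0, 2, 3],
  [0, 2, 3, 3, 1, 0, 3, 3],
  [2, 3, 2, 3, 0, 4, 0, 3],
  [0, 1, 0, 1, 3, 2, 4, 1],
  [1, 4, 0, 4, 2, 0, 1, 3],
  [2, 0, 4, 0, 1, 4],
  [2, 0, 4, 0, 1, 3],
  [2, 3, 2, 3, 0, 4, 2, 0],
  [4, 1, 3, 0, 4, 0],
  [1, 4, 2, 0, 2, 3, 3, 1],
  [1, 4, 2, 0, 2, 3, 3, 2],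
  [1, 4, 2, 0, 2, 4],
  [1, 4, 2, 0, 2, 3],
  [2, 0, 3, 3, 2, 4],
  [3, 1, 0, 1, 3, 2, 4],
  [1, 3, 3, 1, 4, 2, 0],
  [1, 0, 3, 1, 0, 3, 1, 4],
  [2, 3, 2, 4, 1, 0, 4],
  [1, 0, 3, 1, 0, 3, 2],
  [1, 0, 3, 1, 0, 3],
  [4, 0, 2, 3, 3, 0, 3],
  [0, 4, 2, 3, 3, 1, 0],
  [0, 4, 1, 4, 0, 1, 0, 1, 3],
  [3, 2, 0, 1, 0, 1, 4],
  [0, 2, 4, 0, 1, 3, 2, 3],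
  [4, 2, 0, 1, 3, 1, 0],
  [0, 3, 0, 4, 1, 3, 2, 4],
  [2, 3, 1, 3, 3, 2, 3],
  [0, 3, 0, 4, 1, 3],
  [0, 3, 0, 4, 1, 3, 1],
  [3, 0, 4, 0, 4, 1, 4],
  [1, 3, 1, 3, 0, 3, 3],
  [2, 3, 2, 0, 1, 0, 4, 0],
  [1, 0, 1, 0, 4, 1, 0],
  [2, 0, 2, 3, 1, 0, 3],
  [3, 0, 2, 0, 4, 2],
  [1, 0, 3, 1, 3, 2, 3, 0],
  [4, 0, 4, 1, 4, 0, 3, 0],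
  [0, 2, 4, 0, 3, 2, 4, 2],
  [4, 0, 4, 1, 4, 0],
  [1, 0, 3, 0, 3, 2, 0, 2],
  [1, 0, 3, 0, 3, 1, 3],
  [1, 0, 3, 0, 3, 1, 3, 1],
  [1, 0, 3, 3, 1, 0],
  [0, 4, 0, 4, 0, 1, 4],
  [1, 0, 3, 1, 3, 2, 4, 2],
  [1, 0, 3, 3, 1, 0, 2, 4],
  [0, 2, 4, 1, 0, 4, 1, 4],
  [0, 2, 4, 0, 2, 0, 4, 1],
  [1, 0, 1, 4, 1, 3, 2],
  [0, 4, 2, 4, 1, 0, 1],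
  [0, 2, 3, 3, 0, 2, 0],
  [2, 0, 4, 1, 0, 1, 4],
  [2, 3, 1, 0, 2, 0],
  [4, 2, 4, 2, 3, 3, 1],
  [0, 1, 0, 4, 1, 0, 1, 3],
  [0, 2, 4, 0, 4, 1],
  [0, 1, 0, 2, 3, 1, 3, 2],
  [0, 3, 0, 1, 0, 2, 3],
  [1, 0, 2, 3, 0, 2],
  [1, 0, 2, 3, 0],
  [1, 0, 2, 3, 0, 1, 3],
  [1, 0, 2, 4, 2, 4, 2, 0],
  [1, 0, 2, 4, 2, 4],
  [2, 3, 2, 4, 1, 0],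
  [4, 0, 3, 2, 0, 1, 3],
  [2, 0, 3, 3, 0, 3, 0],
  [4, 1, 3, 0, 4, 0, 4],
  [3, 0, 2, 3, 1, 0],
  [3, 0, 2, 3, 2],
  [3, 0, 2, 3],
  [3, 0, 2, 3, 1, 3],
  [3, 3, 1, 0, 2],
  [3, 3, 1, 0, 2, 0, 1],
  [2, 3, 0, 3, 1, 0, 4],
  [2, 3, 0, 2, 3, 1],
  [0, 2, 0, 4, 1, 3],
  [0, 2, 3, 2, 4],
  [2, 3, 0, 2],
  [0, 3, 1],
  [0, 3, 1, 0, 1],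
  [0, 3, 1, 0, 2],
  [0, 1, 4, 2, 4],
  [0, 1, 4, 2, 0],
  [0, 1, 4],
  [0, 1, 4, 1],
  [4, 1, 4, 1],
  [4, 1, 4, 2],
  [4, 1],
  [4, 1, 3, 3],
  [0, 2, 3],
  [0, 2, 3, 0, 3],
  [0, 2, 3, 0, 1, 0],
  [0, 2, 3, 0, 1, 3],
  [0, 2, 3, 0, 1, 4],
  [3, 0, 3, 0, 2],
  [0, 3, 2, 3, 3, 1],
  [3, 0, 3, 0, 2, 0, 4],
  [3, 0, 3, 2, 4, 2],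
  [3, 0, 2, 0, 4, 0, 2, 0],
  [2, 0, 3, 1, 0, 2, 4, 2],
  [3, 0, 2, 3, 2, 3],
  [0, 3, 0, 1, 3, 3, 0, 4],
  [0, 3, 2, 0, 3, 2, 0],
  [1, 0, 1, 3, 0, 1, 4, 1],
  [2, 3, 2, 0, 1, 3],
  [1, 4, 2, 0, 1, 4],
  [1, 4, 2, 0, 1, 4, 1],
  [3, 2, 0, 1, 4],
  [3, 2, 0, 1, 4, 1],
  [3, 2, 0, 1, 4, 2, 3],
  [3, 2, 0, 1, 4, 2, 4],
  [4, 1, 0, 1, 0, 4, 0],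
  [3, 3, 2, 3, 1, 4, 0],
  [4, 1, 0, 1, 0, 4, 2],
  [4, 1, 0, 1, 0],
  [2, 0, 3, 3, 1, 4, 1],
  [1, 3, 3, 0, 3, 3],
  [1, 3, 3, 0, 3, 3, 1],
  [0, 1, 4, 1, 0, 4, 0, 1],
  [0, 1, 4, 1, 0, 4, 0, 2],
  [0, 1, 4, 1, 0, 4, 0, 3],
  [0, 1, 4, 1, 0, 4, 0, 4],
  [0, 1, 4, 1, 0, 1],
  [0, 1, 4, 1, 0, 2],
  [0, 1, 4, 1, 0, 3],
  [1, 4, 0, 4, 1, 0, 4],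
  [0, 1, 4, 1, 0, 3, 3, 1],
  [1, 4, 2, 0, 2, 0, 4],
  [2, 3, 2, 3, 1, 0, 1],
  [2, 3, 2, 3, 1, 0, 2],
  [0, 4, 1, 4, 2, 4, 1],
  [2, 3, 2, 3, 1, 0, 4],
  [2, 3, 2, 3, 1, 3, 0],
  [2, 3, 2, 3, 1, 3, 1],
  [1, 0, 4, 0, 4, 1, 4],
  [0, 4, 2, 4, 1, 3, 2],
  [2, 3, 2, 3, 1, 4, 0],
  [2, 3, 2, 3, 1, 4, 1],
  [0, 3, 0, 1, 0, 1, 4],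
  [2, 0, 4, 0, 1, 4, 2],
  [0, 3, 2, 4, 2, 3, 2],
  [1, 3, 3, 0, 4, 2],
  [0, 4, 0, 4, 0, 3, 1],
  [0, 3, 2, 0, 1, 3],
  [0, 4, 1, 0, 2, 4],
  [2, 3, 2, 3, 2, 3, 3],
  [2, 3, 1, 0, 3, 1],
  [2, 3, 2, 3, 3, 0, 1],
  [2, 3, 2, 3, 3, 0, 2],
  [2, 3, 2, 3, 3, 0, 3],
  [2, 3, 2, 3, 3, 0, 4],
  [2, 3, 2, 3, 3, 1, 3],
  [2, 3, 2, 3, 3, 1, 4],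
  [2, 3, 2, 3, 3, 2, 0],
  [1, 4, 0, 2, 0, 4],
  [1, 4, 0, 2, 0, 3],
  [2, 3, 2, 4, 0],
  [2, 3, 2, 4, 1],
  [2, 3, 2, 4, 2],
  [2, 3, 2, 0, 1],
  [2, 3, 2, 0, 2],
  [2, 3, 2, 0, 3],
  [2, 3, 2, 0, 4],
  [2, 3, 0],
  [2],
  [2, 3, 1, 0],
  [2, 3, 1, 3],
  [2, 3, 1, 4],
  [0, 1, 0, 1, 4, 1, 4, 1],
  [0, 2, 4, 0, 1, 3, 3, 0],
  [0, 3, 2, 3, 0, 1, 4, 0],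
  [1, 4, 2, 3, 3, 2, 4],
  [3, 2, 0, 3, 3, 2, 0, 2],
  [4, 1, 0, 4, 1],
  [4, 1, 0, 4, 1, 0, 1],
  [4, 1, 0, 4, 1, 0, 2],
  [4, 1, 0, 4, 1, 0, 3],
  [4, 1, 3, 3, 0, 4],
  [0, 2, 4, 1, 4, 0, 3],
  [1, 3, 0, 2, 3, 0, 4],
  [2, 0, 1, 4, 0],
  [2, 0, 1, 4, 0, 1],
  [2, 0, 1, 4, 0, 2, 3],
  [2, 0, 1, 4, 0, 2, 4],
  [0, 3, 2, 0, 1, 3, 0, 4],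
  [2, 0, 1, 0, 3, 0, 1, 3],
  [1, 4, 1, 4, 0, 1, 3, 0],
  [2, 0, 1, 4, 1, 0, 2],
  [1, 0, 4, 2, 3, 2, 3],
  [2, 0, 1, 3, 2, 0],
  [4, 2, 3, 2, 4, 0],
  [1, 3, 2, 4, 0, 2, 3],
  [1, 3, 0, 2, 4, 1, 0, 4],
  [2, 0, 4, 2, 3, 2, 4],
  [2, 0, 4, 2, 3, 2, 3],
  [0, 4, 2, 0, 2, 3, 1, 4],
  [2, 3, 1, 4, 0, 3],
  [1, 3, 0, 3, 3, 0],
  [1, 3, 0, 3, 3, 0, 1, 3],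
  [0, 1, 0, 4, 2, 0, 1],
  [3, 2, 3, 0, 1, 0, 2],
  [3, 2, 3, 0, 1, 0],
  [1, 4, 2, 0, 2, 3, 1],
  [0, 2, 0, 4, 1, 0, 1],
  [3, 0, 2, 3, 2, 0, 1],
  [3, 3, 1, 3, 3, 2, 0],
  [0, 2, 4, 0, 4, 0, 3],
  [2, 0, 1, 4, 2, 0],
  [0, 4, 0, 4, 0, 2],
  [1, 0, 1, 3, 1, 4, 0, 4],
  [0, 2, 3, 3, 1, 0, 4],
  [0, 2, 3, 3, 1, 0, 3],
  [0, 2, 3, 2, 4, 2, 3, 3],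
  [0, 2, 4, 1, 0, 2, 4, 1],
  [4, 1, 0, 2, 0, 1, 4],
  [0, 1, 0, 1, 3, 2, 4, 2],
  [0, 1, 0, 1, 3, 2, 4],
  [1, 0, 4, 1, 3, 3, 2, 0],
  [1, 4, 0, 4, 2, 0, 1],
  [1, 4, 0, 1, 0, 4, 1],
  [2, 0, 4, 0, 1],
  [1, 4, 0, 2, 3, 2, 3],
  [2, 0, 4, 0, 1, 3, 1],
  [2, 0, 4, 0, 1, 3, 2],
  [1, 0, 3, 1, 4, 0, 1, 0],
  [1, 0, 1, 4, 1, 3, 2, 3],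
  [0, 2, 3, 3, 1, 0, 3, 2],
  [0, 4, 0, 4, 0, 2, 0, 1],
  [4, 1, 3, 0, 4],
  [0, 3, 1, 4, 0, 3, 0],
  [2, 0, 3, 3, 0, 2, 4],
  [0, 2, 0, 4, 1, 0, 2, 3, 1],
  [3, 3, 0, 1, 0, 3, 3, 2],
  [1, 3, 2, 4, 0, 1, 4, 2],
  [0, 4, 0, 3, 2, 0, 4, 2],
  [1, 0, 3, 3, 2, 3, 3, 2],
  [1, 3, 3, 0, 3, 0, 2],
  [3, 0, 2, 4, 1, 4],
  [1, 4, 2, 0, 2, 4, 2],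
  [1, 4, 2, 0, 2],
  [2, 0, 2, 3, 1, 3],
  [2, 0, 3, 3, 2, 4, 1],
  [2, 0, 3, 3, 2, 4, 2],
  [2, 0, 3, 3, 2],
  [2, 0, 3, 3, 2, 3, 3],
  [0, 3, 0, 2, 0, 1, 4, 2],
  [3, 1, 0, 1, 3, 2],
  [3, 1, 0, 1, 3, 2, 3, 3],
  [1, 3, 3, 1, 4, 2],
  [0, 2, 4, 1, 4, 0, 4, 2],
  [0, 3, 2, 4, 0, 3, 2, 3],
  [4, 0, 2, 4, 2, 4, 1],
  [1, 4, 1, 0, 1, 3, 3],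
  [0, 3, 0, 3, 3, 2, 0],
  [1, 0, 3, 2, 3, 0, 4],
  [1, 0, 3, 0, 1, 4, 0, 2],
  [3, 3, 2, 0, 1, 3, 3],
  [0, 3, 2, 3, 0, 1, 3, 2],
  [1, 0, 3, 1, 0, 3, 2, 4],
  [1, 0, 3, 1, 0, 3, 0],
  [1, 0, 3, 1, 0, 3, 3],
  [1, 0, 3, 1, 0],
  [0, 2, 0, 4, 1, 3, 0, 2],
  [4, 0, 2, 3, 3, 0],
  [0, 4, 2, 3, 3, 1],
  [0, 4, 2, 3, 3, 1, 0, 1],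
  [1, 3, 0, 3, 0, 1, 0],
  [0, 4, 1, 4, 0, 1, 0, 1],
  [1, 4, 2, 0, 1, 0, 3, 1],
  [2, 0, 4, 2, 4, 0, 1, 3],
  [1, 4, 0, 4, 2, 0, 1, 0],
  [4, 0, 2, 4, 0, 1, 3],
  [3, 1, 4, 2, 0, 4, 0],
  [3, 2, 0, 1, 0, 1],
  [3, 0, 1, 0, 2, 0, 1],
  [2, 0, 2, 3, 2, 3, 2, 4],
  [0, 3, 1, 3, 0, 4, 2],
  [0, 2, 4, 0, 1, 3, 2],
  [4, 2, 0, 1, 3, 1],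
  [2, 3, 0, 2, 3, 1, 4],
  [2, 3, 0, 2, 3, 1, 3],
  [2, 0, 4, 2, 4, 0, 3],
  [1, 0, 1, 3, 0, 2, 0],
  [1, 0, 1, 3, 0, 2, 0, 1],
  [0, 3, 3, 1, 4, 0, 3, 2],
  [2, 3, 1, 3, 3, 2],
  [0, 3, 0, 4, 1, 3, 0],
  [0, 3, 0, 4, 1, 3, 3],
  [0, 3, 0, 4, 1],
  [0, 3, 2, 4, 2, 3],
  [3, 3, 2, 3, 1, 4],
  [3, 3, 2, 3, 1, 3],
  [2, 3, 2, 0, 2, 0, 4],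
  [3, 0, 4, 0, 4, 1],
  [1, 4, 1, 3, 3, 2, 0, 3],
  [1, 0, 2, 0, 4, 1, 3],
  [1, 3, 1, 3, 0, 4],
  [1, 3, 1, 3, 0, 3],
  [2, 3, 2, 0, 1, 0, 4],
  [3, 2, 3, 3, 2, 3, 3],
  [2, 3, 2, 0, 1, 0, 3, 0],
  [3, 0, 3, 2, 0, 4, 0],
  [1, 0, 1, 0, 4, 1],
  [1, 0, 3, 1, 3, 1, 0],
  [0, 2, 4, 0, 4, 1, 3, 0],
  [1, 3, 3, 0, 4, 1, 4],
  [1, 3, 2, 4, 0, 1, 0],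
  [3, 3, 2, 3, 0, 1, 0],
  [2, 0, 2, 3, 1, 0],
  [3, 0, 2, 0, 4, 2, 0],
  [3, 0, 2, 0, 4],
  [3, 0, 2, 0, 4, 1],
  [3, 0, 2, 0, 4, 2, 3],
  [1, 0, 3, 1, 3, 2, 3],
  [1, 3, 0, 2, 3, 2, 3, 0],
  [1, 4, 1, 4, 0, 3, 2, 0],
  [2, 3, 1, 3, 1, 4, 2, 0],
  [1, 4, 1, 3, 2, 3, 1, 3],
  [1, 0, 2, 4, 1, 0, 3, 2],
  [1, 3, 1, 3, 1, 3, 0, 2],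
  [1, 0, 4, 2, 4, 2, 3, 1],
  [0, 2, 4, 0, 3, 2, 4],
  [2, 0, 3, 3, 1, 4, 0],
  [4, 0, 4, 1, 4, 0, 4],
  [4, 0, 4, 1, 4],
  [4, 0, 4, 1, 4, 0, 1],
  [0, 4, 0, 3, 0, 1, 0],
  [1, 0, 3, 0, 3, 2, 0],
  [0, 2, 3, 1, 4, 0, 3, 0],
  [0, 4, 2, 4, 0, 1, 4, 2],
  [0, 3, 0, 1, 4, 2, 3, 1],
  [1, 0, 4, 2, 4, 1, 3],
  [0, 2, 0, 1, 3, 0, 1],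
  [1, 0, 3, 0, 3, 1],
  [3, 2, 0, 2, 3, 2, 3],
  [2, 3, 0, 1, 0, 1, 4],
  [2, 3, 0, 1, 0, 1, 3],
  [1, 0, 3, 3, 1],
  [1, 0, 3, 1, 4, 0, 1],
  [3, 1, 4, 1, 3, 0],
  [3, 3, 0, 1, 3, 2, 3],
  [0, 4, 0, 4, 0, 1],
  [0, 4, 0, 4, 0, 1, 3, 3],
  [1, 0, 3, 1, 3, 2, 4],
  [3, 2, 4, 1, 3, 0, 4],
  [1, 3, 0, 1, 4, 1, 3, 2],
  [1, 3, 0, 4, 2, 3, 3],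
  [1, 0, 3, 1, 0, 2, 4],
  [1, 0, 3, 1, 0, 2, 4, 1],
  [0, 2, 4, 1, 0, 4, 1],
  [0, 3, 3, 1, 0, 1, 4, 0],
  [0, 2, 4, 2, 4, 0, 4, 2],
  [0, 2, 4, 0, 2, 0, 4, 2],
  [0, 2, 4, 0, 2, 0, 4],
  [1, 0, 1, 4, 1, 3],
  [2, 3, 1, 4, 1, 3],
  [0, 2, 4, 0, 1, 4, 2],
  [0, 2, 0, 1, 4, 1, 4],
  [0, 4, 2, 4, 1, 0, 2],
  [0, 4, 2, 4, 1, 0],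
  [0, 2, 3, 3, 0, 2, 0, 4],
  [0, 2, 3, 3, 0, 2],
  [2, 3, 1, 0, 2, 4],
  [1, 0, 3, 3, 1, 4],
  [0, 2, 4, 0, 3, 1, 4, 0],
  [2, 0, 4, 1, 0, 1],
  [3, 0, 3, 0, 2, 3, 2],
  [2, 3, 1, 0, 2],
  [2, 3, 1, 0, 2, 0, 1],
  [2, 3, 1, 0, 2, 0, 2],
  [2, 3, 1, 0, 2, 0, 3],
  [0, 1, 0, 3, 2, 4, 0, 3],
  [4, 2, 4, 2, 3, 3, 2],
  [4, 2, 4, 2, 3, 3],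
  [3, 0, 3, 1, 3, 2, 3, 3],
  [4, 1, 3, 2, 3, 2, 0],
  [3, 3, 2, 3, 1, 3, 1],
  [0, 1, 0, 4, 1, 0, 1],
  [0, 2, 4, 0, 4, 1, 0],
  [0, 2, 4, 0, 4, 2],
  [0, 2, 4, 0, 4],
  [0, 2, 4, 0, 4, 1, 3],
  [0, 4, 0, 3, 1, 4, 2],
  [0, 1, 0, 2, 3, 1, 3],
  [3, 3, 1, 4, 1, 0, 2],
  [3, 3, 1, 4, 1, 0],
  [1, 3, 0, 4, 2, 3, 0],
  [0, 3, 0, 1, 0, 2],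
  [1, 0, 2, 3, 0, 2, 0],
  [1, 0, 2, 3, 0, 2, 3],
  [1, 0, 2, 3, 0, 2, 4],
  [1, 0, 2, 3],
  [1, 0, 2, 3, 0, 3],
  [1, 0, 2, 3, 0, 4],
  [1, 0, 2, 3, 0, 1, 3, 0],
  [4, 2, 3, 2, 4, 0, 3],
  [3, 2, 3, 1, 4, 1, 0],
  [0, 3, 1, 3, 3, 0, 4, 0],
  [0, 2, 4, 0, 3, 2, 0, 1],
  [4, 1, 0, 3, 0, 3, 0],
  [1, 0, 2, 4, 2, 4, 0],
  [1, 0, 2, 4, 2],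
  [1, 0, 2, 4, 2, 3, 3],
  [2, 3, 2, 4, 0, 4, 1],
  [2, 3, 1, 0, 3, 1, 3],
  [3, 1, 3, 0, 3, 2, 3, 2],
  [4, 0, 3, 2, 0, 1],
  [2, 0, 3, 3, 0, 3],
  [0, 2, 4, 2, 4, 0, 3, 1],
  [1, 3, 3, 1, 3, 0, 2],
  [3, 2, 0, 3, 1, 0, 1],
  [0, 1, 0, 1, 0, 3, 2, 0],
  [0, 2, 4, 1, 3, 0, 4],
  [3, 0, 2, 3, 1, 0, 1],
  [3, 0, 2, 3, 1, 0, 2],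
  [3, 0, 3, 3, 0, 1],
  [4, 2, 0, 2, 0, 1],
  [3, 0, 2, 3, 2, 0],
  [3, 0, 2, 3, 2, 4],
  [3, 0, 2, 3, 0],
  [3, 0, 2, 3, 3],
  [3, 0, 2],
  [3, 3, 0, 3, 3, 2],
  [3, 0, 2, 3, 1, 3, 1],
  [0, 4, 0, 2, 3, 2, 4],
  [3, 3, 1, 0],
  [3, 3, 1, 0, 1],
  [3, 3, 1, 0, 2, 3],
  [3, 3, 1, 0, 2, 4],
  [3, 0, 3, 3, 1, 3, 3],
  [2, 3, 0, 3, 2, 4, 2],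
  [1, 3, 0, 3, 3, 2, 4, 1],
  [3, 2, 0, 3, 0, 3],
  [2, 3, 0, 3, 1, 0],
  [0, 1, 4, 1, 0, 1, 3],
  [3, 0, 3, 3, 0, 4],
  [0, 2, 0, 4, 1, 3, 0],
  [3, 0, 4, 1, 3, 1],
  [0, 2, 0, 4, 1],
  [0, 2, 3, 2, 4, 0],
  [0, 2, 3, 2, 4, 1],
  [0, 2, 3, 2, 4, 2],
  [0, 2, 3, 2],
  [2, 3, 0, 2, 0],
  [2, 3, 0, 1],
  [0, 3, 2],
  [0, 3],
  [0, 3, 1, 3],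
  [0, 3, 1, 4],
  [0, 3, 1, 0, 1, 0],
  [0, 3, 1, 0, 1, 3],
  [0, 3, 1, 0, 1, 4],
  [0, 3, 1, 0, 2, 0],
  [0, 3, 1, 0, 2, 3],
  [0, 3, 1, 0, 2, 4],
  [0, 1, 4, 2, 4, 0],
  [3, 1, 0, 2, 0],
  [0, 1, 4, 2, 4, 2],
  [0, 1, 4, 2, 0, 1],
  [0, 1, 4, 2, 0, 2],
  [0, 1, 4, 2, 0, 3],
  [0, 1, 4, 2, 0, 4],
  [0, 1, 4, 0],
  [0, 1],
  [0, 1, 4, 1, 3],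
  [0, 1, 4, 1, 4],
  [4, 1, 4, 1, 0],
  [4, 1, 4, 1, 3],
  [0, 4, 0, 1],
  [4, 1, 4, 2, 0],
  [3, 2, 4, 1, 4],
  [3, 2, 4, 1, 3],
  [4, 1, 0],
  [4, 2],
  [4],
  [4, 1, 3],
  [4, 1, 3, 3, 0],
  [4, 1, 3, 3, 1],
  [4, 1, 3, 3, 2],
  [0, 2, 3, 1],
  [0, 2, 3, 3],
  [0, 2],
  [0, 2, 3, 0, 3, 0],
  [0, 2, 3, 0, 3, 1],
  [0, 2, 3, 0, 3, 2],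
  [0, 2, 3, 0, 1, 0, 1],
  [0, 1, 0, 2, 0, 1, 3],
  [0, 2, 3, 0, 1, 0, 4],
  [1, 0, 1, 3, 1, 3],
  [0, 2, 3, 0, 1, 3, 1],
  [1, 3, 0, 2, 4, 0],
  [0, 2, 3, 0, 1, 3, 3],
  [0, 2, 3, 0, 1, 4, 0],
  [0, 1, 4, 2, 0, 3, 2],
  [3, 0, 3, 0],
  [3, 0, 3, 0, 1],
  [3, 0, 3, 0, 2, 3],
  [3, 0, 3, 0, 2, 4],
  [0, 3, 2, 4, 2, 4],
  [0, 3, 2, 3, 3, 2],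
  [0, 3, 2, 3, 3],
  [0, 3, 2, 3, 3, 1, 3],
  [3, 0, 3, 0, 2, 0, 4, 0],
  [3, 2, 3, 2, 0, 1, 0],
  [3, 0, 1, 4, 2, 4, 0, 4],
  [3, 0, 3, 2, 4],
  [3, 0, 3, 2, 4, 1],
  [3, 0, 3, 2, 4, 2, 3],
  [1, 0, 4, 0, 4, 0, 2],
  [3, 0, 2, 0, 4, 0, 2],
  [0, 2, 0, 4, 0, 3, 3, 0],
  [3, 2, 0, 3, 0, 2, 4],
  [3, 3, 0, 4, 0, 1, 0],
  [3, 3, 2, 0, 3, 0, 4],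
  [2, 0, 3, 1, 0, 2, 4],
  [0, 1, 0, 1, 0, 4, 1, 0],
  [3, 0, 2, 3, 2, 3, 1],
  [3, 0, 2, 3, 2, 3, 2],
  [3, 0, 2, 3, 2, 3, 3],
  [1, 0, 1, 4, 0, 1, 4],
  [0, 3, 0, 1, 3, 3, 0],
  [2, 3, 2, 4, 1, 3, 2, 0],
  [0, 3, 2, 0, 3, 2],
  [0, 3, 2, 0, 3, 2, 0, 3],
  [0, 2, 4, 2, 4, 2, 4, 0],
  [3, 1, 3, 3, 1, 0, 2],
  [1, 0, 1, 3, 0, 1, 4, 2],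
  [1, 0, 1, 3, 0, 1, 4],
  [3, 1, 3, 1, 0, 4],
  [3, 3, 0, 2, 3],
  [2, 3, 2, 0, 1, 3, 3],
  [1, 4, 2, 0, 1, 4, 0],
  [1, 4, 2, 0, 1],
  [1, 4, 2, 0, 1, 3, 3],
  [1, 4, 0, 3, 3, 2, 0, 1],
  [3, 0, 3, 1, 3, 3, 2],
  [0, 4, 0, 2, 3, 2, 4, 0],
  [3, 2, 0, 1, 4, 0],
  [3, 2, 0, 1],
  [3, 0, 3, 0, 1, 0],
  [3, 2, 0, 1, 4, 1, 0],
  [1, 4, 2, 4, 0, 2, 4],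
  [1, 4, 2, 4, 0, 2, 3],
  [3, 2, 0, 1, 4, 2, 3, 0],
  [0, 3, 0, 3, 0, 3, 3, 0],
  [3, 1, 3, 0, 4, 0, 1, 0],
  [3, 1, 4, 2, 0, 2, 0],
  [2, 3, 0, 2, 0, 3, 3, 2],
  [1, 3, 0, 1, 0, 1, 3],
  [0, 1, 0, 4, 2, 4, 2, 0],
  [1, 3, 1, 0, 1, 4, 0, 2],
  [1, 3, 1, 0, 1, 4, 0],
  [0, 3, 1, 0, 2, 0, 3, 0],
  [4, 1, 0, 1, 0, 4, 0, 4],
  [4, 0, 3, 0, 4, 0, 4],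
  [4, 0, 3, 0, 4, 0, 3],
  [4, 2, 4, 2, 4, 2, 4],
  [0, 1, 0, 2, 4, 0, 2],
  [1, 0, 1, 0, 2, 0, 1, 0],
  [4, 1, 0, 1],
  [4, 1, 0, 1, 0, 1],
  [4, 1, 0, 1, 0, 2],
  [2, 0, 3, 3, 1, 4, 2],
  [2, 0, 3, 3, 1, 4],
  [4, 1, 3, 2, 0, 2, 4],
  [1, 0, 3, 2, 0, 3, 2],
  [1, 3, 3, 0, 3, 3, 0],
  [1, 3, 3, 0, 4],
  [1, 3, 3, 0, 3],
  [4, 0, 3, 1, 0, 1],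
  [0, 3, 0, 1, 4, 2, 4, 1],
  [0, 3, 1, 4, 1, 4, 2, 0],
  [4, 2, 3, 0, 1, 4, 1],
  [3, 3, 2, 4, 0, 3, 1, 0],
  [2, 0, 4, 1, 0, 3, 1],
  [3, 2, 3, 3, 2, 3, 2],
  [1, 4, 1, 4, 2, 0, 1, 0],
  [0, 1, 0, 1, 4, 1, 4, 0],
  [1, 0, 3, 1, 3, 0, 1],
  [2, 0, 2, 0, 4, 0, 3],
  [0, 1, 0, 2, 4, 1, 3, 3],
  [1, 0, 2, 0, 3, 0, 3],
  [1, 4, 0, 1, 3, 0, 1, 3],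
  [4, 0, 3, 3, 0, 1, 3],
  [0, 1, 4, 1, 0, 1, 0],
  [0, 4, 0, 3, 2, 3],
  [4, 1, 3, 0, 3],
  [0, 4, 1, 4, 1, 4],
  [0, 1, 4, 1, 0, 3, 1],
  [0, 1, 4, 1, 0, 3, 2],
  [0, 3, 2, 0, 3, 2, 3],
  [0, 3, 2, 0, 3, 2, 3, 1],
  [1, 4, 0, 4, 1, 0],
  [0, 3, 0, 3, 3, 2, 3, 0],
  [2, 0, 2, 3, 3, 2, 0, 4],
  [1, 4, 1, 4, 0, 3, 2],
  [3, 3, 2, 0, 2, 4, 1, 0],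
  [1, 4, 2, 0, 2, 0],
  [1, 0, 1, 3, 3, 2, 3],
  [2, 3, 1, 0, 3, 0, 2],
  [0, 2, 0, 1, 4, 0, 4, 2],
  [2, 0, 1, 0, 4, 1, 3, 0],
  [1, 0, 1, 3, 1, 4, 0, 1],
  [1, 4, 1, 0, 2, 4, 0],
  [4, 1, 0, 3, 3, 0, 1],
  [0, 4, 1, 4, 2, 4, 2],
  [0, 4, 1, 4, 2, 4],
  [1, 0, 1, 4, 0, 3, 0],
  [2, 3, 1, 3, 0, 2, 4],
  [0, 2, 4, 0, 1, 4, 2, 4],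
  [3, 1, 0, 1, 0, 3],
  [3, 1, 0, 1, 0, 3, 1],
  [1, 0, 3, 0, 4, 2, 4],
  [1, 0, 3, 0, 4, 2, 3],
  [3, 1, 4, 1, 3, 0, 4],
  [0, 3, 3, 0, 4, 1, 4],
  [0, 3, 3, 0, 4, 1, 3],
  [0, 3, 0, 3, 0, 3, 1],
  [1, 0, 4, 0, 4, 1],
  [3, 2, 0, 1, 4, 0, 2],
  [0, 4, 2, 4, 1, 3, 2, 0],
  [0, 4, 2, 4, 1, 3],
  [0, 4, 2, 4, 1, 3, 1],
  [1, 4, 0, 2, 3, 3, 1, 3],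
  [4, 1, 0, 3, 3, 0],
  [1, 0, 3, 0, 1, 0, 1],
  [0, 2, 4, 0, 2, 4, 1],
  [3, 2, 4, 1, 0, 3, 2],
  [0, 1, 0, 4, 0, 4, 2],
  [0, 3, 0, 1, 0, 1],
  [0, 3, 0, 1, 0, 1, 3, 3],
  [1, 0, 3, 3, 2, 3, 0, 2],
  [4, 0, 2, 4, 1, 4, 0],
  [1, 3, 3, 1, 0, 2, 3, 2],
  [1, 0, 3, 3, 2, 3, 1],
  [3, 0, 3, 0, 4, 0],
  [1, 3, 3, 0, 4, 2, 4],
  [0, 3, 3, 2, 4, 0, 2],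
  [1, 3, 3, 0, 4, 1],
  [0, 4, 0, 4, 0, 3, 2],
  [0, 4, 0, 4, 0, 3],
  [0, 3, 1, 4, 0, 3, 1, 4],
  [1, 3, 1, 0, 3, 3, 2],
  [0, 3, 2, 0, 1, 3, 0],
  [4, 0, 1, 3, 2],
  [0, 3, 2, 0, 1],
  [0, 4, 1, 0, 2, 4, 0],
  [0, 4, 1, 0, 2],
  [0, 2, 3, 1, 0, 2],
  [0, 3, 0, 2, 3, 2, 0, 2],
  [2, 0, 1, 3, 2, 0, 3, 3],
  [0, 3, 3, 1, 0, 1, 0, 3],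
  [2, 3, 1, 0, 3, 2],
  [2, 3, 1, 0, 3],
  [0, 3, 1, 3, 0, 3, 2],
  [3, 3, 0, 1, 3, 3],
  [3, 0, 1, 4, 2, 0],
  [2, 0, 1, 4, 1, 4, 2],
  [3, 0, 3, 1, 4, 2, 3],
  [3, 3, 2, 0, 2, 4, 1],
  [1, 0, 3, 1, 4, 0, 2],
  [1, 0, 2, 3, 1, 3, 3, 1],
  [0, 2, 3, 2, 4, 0, 3],
  [0, 2, 3, 2, 4, 0, 3, 1],
  [0, 4, 0, 3, 1, 0, 2],
  [2, 3, 1, 3, 1, 4, 1, 3],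
  [0, 1, 4, 0, 2, 4, 2, 4],
  [2, 0, 4, 1, 0, 4, 0, 4],
  [2, 3, 2, 0, 4, 2, 0, 4],
  [0, 1, 0, 4, 1, 4, 1, 4],
  [1, 0, 1, 0, 4, 2, 4],
  [3, 1, 0, 1, 4, 2],
  [0, 2, 4, 2, 4, 1, 0, 2],
  [0, 2, 0, 1, 3, 1, 0, 4],
  [0, 2, 0, 3, 0, 2, 4],
  [1, 4, 2, 0, 1, 0, 2, 3],
  [3, 3, 2, 0, 2, 0, 4],
  [1, 3, 0, 3, 3, 2, 4, 2],
  [0, 3, 1, 0, 1, 0, 4, 0],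
  [1, 4, 0, 2, 0, 4, 0],
  [0, 3, 0, 4, 0, 4, 2],
  [0, 3, 0, 4, 0, 4],
  [1, 4, 0, 2, 0],
  [1, 4, 0, 2, 0, 3, 0],
  [1, 4, 0, 2, 0, 3, 1],
  [1, 4, 0, 2, 0, 3, 2],
  [2, 3, 2, 4, 0, 1],
  [2, 3, 2, 4, 0, 2],
  [2, 3, 2, 4, 0, 3],
  [2, 3, 2, 4, 0, 4],
  [2, 3, 2, 4, 1, 3],
  [2, 3, 2, 4, 1, 4],
  [2, 3, 2, 4, 2, 0],
  [2, 3, 2, 4, 2, 3],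
  [2, 3, 2, 4, 2, 4],
  [2, 3, 2, 0, 1, 0],
  [2, 3, 2, 0, 1, 4],
  [2, 3, 2, 0, 2, 0],
  [2, 3, 2, 0, 2, 3],
  [2, 3, 2, 0, 2, 4],
  [2, 3, 2, 0, 3, 0],
  [2, 3, 2, 0, 3, 1],
  [2, 3, 2, 0, 3, 2],
  [1, 3, 2, 3, 0],
  [2, 3, 2, 0, 4, 0],
  [2, 3, 2, 0, 4, 1],
  [2, 3, 2, 0, 4, 2],
  [2, 3, 0, 3],
  [2, 3, 0, 4],
  [2, 0],
  [],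
  [1],
  [2, 3, 1, 0, 1],
  [2, 3, 1, 0, 4],
  [2, 3, 1, 3, 0],
  [2, 3, 1, 3, 1],
  [2, 3, 1, 3, 2],
  [2, 3, 1, 3, 3],
  [2, 3, 1, 4, 0],
  [2, 3, 1, 4, 1],
  [2, 3, 1, 4, 2],
  [0, 1, 0, 1, 4, 1, 4, 2],
  [0, 1, 0, 1, 4, 1, 4],
  [2, 0, 4, 2, 3, 3, 1],
  [1, 3, 0, 2, 3, 2, 4, 2],
  [0, 2, 4, 0, 1, 3, 3],
  [1, 3, 2, 3, 3, 1, 0, 3],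
  [2, 3, 2, 0, 2, 3, 3],
  [1, 3, 2, 0, 3, 0, 4, 2],
  [0, 3, 2, 3, 0, 1, 4],
  [1, 4, 1, 3, 0, 1, 3, 2],
  [1, 4, 1, 3, 0, 1, 3],
  [1, 4, 2, 3, 3, 2],
  [1, 4, 2, 3, 3, 2, 3, 3],
  [3, 2, 0, 3, 3, 2, 0],
  [0, 2, 3, 3, 1, 3, 3, 0],
  [4, 1, 0, 4, 2],
  [4, 1, 0, 4],
  [3, 3, 2, 3, 0, 2],
  [2, 0, 3, 3, 0, 2],
  [4, 1, 0, 4, 1, 0, 1, 0],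
  [0, 3, 1, 4, 2, 0, 4],
  [0, 3, 1, 4, 2, 0, 3],
  [0, 3, 3, 0, 1, 4, 2],
  [1, 3, 1, 3, 1, 3, 3, 0],
  [0, 2, 4, 0, 1, 4, 0, 4],
  [1, 4, 2, 0, 4, 2, 0],
  [4, 1, 3, 3, 0, 4, 1],
  [4, 1, 3, 3, 0, 4, 2],
  [4, 1, 3, 3, 0, 3, 3],
  [0, 2, 4, 1, 4, 0, 3, 0],
  [2, 0, 2, 3, 2, 0, 1],
  [0, 2, 4, 1, 4, 0],
  [0, 3, 1, 3, 2, 0, 3],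
  [1, 3, 0, 2, 3, 0],
  [1, 4, 2, 3, 1, 0],
  [2, 0, 1, 4],
  [2, 0, 1, 4, 0, 3],
  [1, 0, 3, 0, 1],
  [1, 0, 3, 2, 0, 1],
  [2, 0, 1, 4, 0, 1, 3],
  [2, 0, 1, 4, 0, 1, 4],
  [0, 1, 0, 3, 1, 4, 0, 4],
  [3, 2, 0, 3, 1, 0],
  [0, 4, 0, 2, 0, 3, 3, 0],
  [0, 2, 0, 4, 1, 0, 2],
  [3, 1, 0, 1, 0, 3, 1, 4],
  [4, 0, 3, 0, 4, 2, 3],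
  [0, 1, 0, 3, 1, 0, 2, 3],
  [3, 3, 0, 2, 3, 0, 2, 4],
  [4, 2, 0, 1, 3, 0, 1],
  [2, 0, 1, 0, 3, 0, 1],
  [1, 4, 1, 4, 0, 1, 3],
  [3, 0, 3, 2, 0, 1, 0],
  [0, 4, 1, 0, 2, 0, 2, 3],
  [2, 0, 1, 4, 1, 0],
  [1, 0, 4, 2, 4, 1, 4],
  [3, 0, 1, 0, 3, 0, 3],
  [0, 3, 3, 0, 1, 0, 2, 0],
  [3, 1, 4, 2, 0, 2],
  [1, 0, 4, 2, 3, 2],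
  [2, 0, 1, 3, 2],
  [2, 0, 1, 3, 2, 0, 3],
  [2, 0, 1, 3, 2, 0, 4],
  [4, 2, 3, 2, 4],
  [1, 3, 1, 3, 0, 2, 3],
  [2, 3, 1, 0, 1, 0],
  [1, 3, 2, 4, 0, 2],
  [1, 3, 0, 2, 4, 1, 0],
  [0, 2, 4, 2, 0, 4, 0, 3],
  [0, 2, 3, 3, 1, 4, 1],
  [0, 1, 0, 4, 0, 4, 2, 4],
  [1, 0, 2, 3, 3, 0, 4],
  [2, 0, 4, 2, 3, 2],
  [1, 3, 2, 0, 3, 0, 2],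
  [3, 0, 3, 3, 1, 0, 3],
  [0, 2, 0, 1, 0, 3, 2, 0],
  [3, 3, 2, 3, 0, 3, 1, 0],
  [1, 0, 1, 3, 3, 0, 4, 0],
  [0, 4, 2, 0, 2, 3, 1],
  [1, 3, 0, 3, 2, 0, 3, 1],
  [0, 3, 0, 3, 2, 0, 3],
  [1, 0, 3, 1, 4, 1, 0],
  [1, 3, 0, 3, 3],
  [1, 3, 0, 3, 0, 4, 0],
  [1, 3, 0, 3, 3, 0, 4],
  [3, 1, 0, 2, 3, 3, 1],
  [1, 3, 0, 4, 0, 2, 0],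
  [4, 2, 4, 0, 2, 3, 3],
  [0, 1, 0, 4, 2, 0, 2],
  [0, 1, 0, 4, 2, 0],
  [4, 1, 4, 1, 3, 0, 2],
  [1, 3, 1, 0, 2, 0, 2],
  [0, 3, 3, 2, 4, 1, 3, 1],
  [0, 2, 4, 2, 3, 2, 4, 2],
  [0, 1, 0, 3, 2, 4, 2],
  [3, 2, 3, 0, 1],
  [1, 4, 0, 4, 0, 3, 2],
  [3, 1, 0, 2, 4, 2, 0],
  [3, 2, 4, 1, 0, 3, 0],
  [1, 4, 2, 0, 2, 3, 1, 4],
  [0, 2, 0, 4, 1, 0, 1, 0],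
  [0, 2, 0, 4, 1, 0],
  [3, 0, 2, 3, 2, 0, 2],
  [2, 0, 2, 3, 2, 3, 2, 3],
  [3, 3, 1, 3, 3, 2],
  [3, 1, 3, 3, 0, 2, 0],
  [4, 0, 1, 3, 0, 2, 0],
  [0, 2, 3, 3, 0, 3, 0, 4],
  [3, 3, 2, 3, 3, 2, 4],
  [1, 0, 3, 1, 4, 2],
  [0, 2, 4, 0, 4, 0],
  [2, 0, 1, 4, 2],
  [1, 0, 4, 1, 3, 3, 2],
  [1, 0, 4, 1, 3, 3],
  [0, 4, 0, 4, 0, 2, 4],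
  [0, 4, 0, 4, 0, 2, 0],
  [0, 4, 0, 4, 0],
  [0, 2, 0, 4, 1, 0, 2, 3],
  [1, 0, 1, 3, 1, 4, 0],
  [1, 0, 4, 1, 0, 4, 0],
  [0, 2, 3, 3, 1, 0, 4, 0],
  [3, 3, 0, 1, 3, 3, 1],
  [0, 2, 3, 3, 1, 0],
  [0, 2, 3, 3, 2, 0, 4, 0],
  [0, 2, 3, 2, 4, 2, 4],
  [0, 2, 3, 2, 4, 2, 3],
  [3, 1, 3, 2, 3, 2, 3],
  [3, 1, 3, 2, 3, 1, 3],
  [0, 2, 4, 1, 0, 2, 4],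
  [0, 1, 0, 3, 1, 4, 1, 0],
  [0, 2, 3, 1, 4, 1, 0],
  [4, 1, 0, 2, 0, 1],
  [2, 3, 0, 2, 0, 1, 3],
  [0, 2, 4, 1, 3, 3, 1],
  [0, 3, 1, 3, 2, 4, 1],
  [3, 0, 3, 0, 3, 1, 0],
  [3, 2, 4, 1, 3, 2],
  [0, 1, 0, 1, 3, 2],
  [3, 3, 1, 4, 0, 2],
  [0, 3, 1, 0, 1, 0, 3, 1],
  [1, 4, 0, 4, 2, 0, 2],
  [1, 4, 0, 4, 2, 0],
  [3, 2, 0, 3, 0, 4],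
  [1, 4, 0, 1, 0, 4],
  [0, 4, 1, 0, 3, 3, 1],
  [4, 1, 3, 2, 0, 1],
  [2, 0, 4, 0, 1, 0],
  [2, 0, 4, 0, 2],
  [2, 0, 4, 0],
  [0, 2, 4, 2, 3, 1, 3, 2],
  [0, 2, 4, 2, 3, 1, 3],
  [3, 0, 2, 3, 0, 4, 0],
  [1, 4, 0, 2, 3, 2],
  [3, 2, 0, 3, 3, 1, 4],
  [1, 0, 2, 0, 3, 3, 0],
  [4, 0, 3, 3, 1, 0, 3],
  [0, 3, 1, 0, 1, 0, 4],
  [0, 3, 1, 0, 1, 0, 3],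
  [4, 1, 0, 3, 3, 2, 4],
  [4, 1, 0, 3, 3, 2, 3],
  [1, 3, 1, 3, 0, 3, 2],
  [4, 2, 0, 4, 1, 3, 3],
  [1, 0, 3, 2, 4, 1, 3],
  [0, 4, 0, 4, 0, 2, 0, 2],
  [4, 1, 3, 0, 4, 1],
  [4, 1, 3, 0, 4, 2],
  [4, 1, 3, 0],
  [0, 3, 1, 4, 0, 3],
  [2, 0, 3, 1, 3, 1, 0],
  [1, 3, 3, 1, 3, 2],
  [0, 4, 2, 3, 0, 4, 0, 2],
  [3, 3, 0, 1, 0, 3, 3],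
  [3, 1, 3, 0, 3, 0, 1, 0],
  [1, 3, 2, 4, 0, 1, 4],
  [0, 4, 0, 3, 2, 0, 4],
  [0, 4, 0, 3, 2, 0, 4, 1],
  [2, 0, 1, 0, 2, 3, 2],
  [1, 0, 3, 3, 2, 3, 3],
  [1, 0, 2, 3, 2, 0, 1, 4],
  [1, 3, 3, 0, 3, 0],
  [1, 3, 2, 0, 1, 4, 0],
  [1, 3, 1, 0, 3, 0, 1],
  [1, 3, 3, 0, 3, 0, 2, 4],
  [3, 0, 2, 4, 1, 4, 0],
  [3, 0, 2, 4, 1],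
  [3, 0, 2, 4, 1, 3, 3],
  [3, 1, 3, 0, 2, 3],
  [3, 2, 4, 1, 0, 1, 4],
  [3, 2, 4, 1, 0, 1, 3],
  [1, 4, 2, 0],
  [4, 1, 3, 2, 3, 2],
  [4, 1, 3, 2, 3],
  [0, 1, 4, 0, 3, 3, 1],
  [2, 0, 2, 3, 1],
  [4, 0, 3, 0, 4, 2, 4],
  [1, 4, 1, 0, 1, 3, 0, 4],
  [1, 3, 2, 4, 0, 3, 1, 0],
  [1, 4, 2, 4, 2, 0, 3, 2],
  [0, 1, 0, 2, 0, 3, 1, 4],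
  [2, 0, 3, 3, 2, 0],
  [2, 0, 3, 3],
  [2, 0, 3, 3, 1],
  [2, 0, 3, 3, 2, 3],
  [2, 3, 1, 3, 0, 2, 3],
  [0, 4, 1, 4, 1, 4, 1, 4],
  [0, 3, 0, 2, 0, 1, 4],
  [0, 3, 0, 2, 0, 1, 4, 1],
  [3, 1, 4, 1, 0, 4, 2],
  [1, 4, 0, 1, 0, 2, 3],
  [3, 1, 0, 1, 3],
  [2, 3, 0, 4, 2, 4],
  [3, 1, 0, 1, 3, 2, 3],
  [1, 4, 1, 0, 4, 1, 4, 1],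
  [0, 2, 0, 1, 0, 3, 0, 3],
  [4, 1, 0, 3, 3, 0, 1, 4],
  [1, 3, 3, 1, 4],
  [1, 3, 3, 1, 4, 1],
  [1, 4, 0, 4, 0, 4],
  [1, 4, 0, 4, 0, 3],
  [3, 0, 1, 3, 0, 4, 2],
  [0, 2, 4, 1, 4, 0, 4],
  [0, 2, 3, 2, 4, 2, 4, 0],
  [0, 3, 2, 4, 0, 3, 2],
  [3, 3, 1, 0, 1, 3, 3, 2],
  [4, 1, 3, 3, 2, 4, 0],
  [2, 0, 2, 4, 0, 1, 3, 3],
  [1, 0, 4, 2, 3, 0, 3],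
  [4, 0, 2, 4, 2, 4],
  [1, 4, 1, 3, 0, 1, 4],
  [1, 4, 1, 0, 1, 3, 3, 0],
  [1, 4, 1, 0, 1, 4],
  [1, 4, 1, 0, 1, 3],
  [0, 3, 0, 3, 3, 2],
  [0, 2, 4, 1, 3, 0, 1, 4],
  [0, 3, 2, 4, 0, 4, 1],
  [0, 3, 2, 4, 2, 4, 2, 3],
  [1, 0, 3, 2, 3, 0],
  [0, 2, 4, 2, 3, 1, 0],
  [3, 3, 0, 1, 4, 0, 2, 4],
  [1, 0, 3, 0, 1, 4, 0],
  [1, 0, 3, 0, 1, 4, 0, 1],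
  [0, 3, 0, 3, 3, 1, 4],
  [4, 1, 0, 2, 3, 0],
  [3, 3, 2, 0, 1, 4],
  [3, 3, 2, 0, 1, 3],
  [3, 1, 0, 3, 2, 4, 0, 2],
  [0, 3, 2, 3, 0, 1, 3],
  [0, 4, 0, 4, 0, 3, 0],
  [1, 4, 1, 0, 2, 3, 2],
  [2, 0, 3, 0, 2, 3, 1],
  [1, 4, 2, 0, 1, 4, 0, 2],
  [1, 0, 3, 1, 4, 0],
  [3, 1, 3, 0, 4, 1, 4],
  [0, 2, 3, 1, 4, 0, 2, 4],
  [0, 3, 0, 1, 4, 1, 4],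
  [1, 0, 3, 1, 0, 4],
  [1, 0, 3, 1],
  [1, 0, 3, 1, 0, 1],
  [1, 0, 3, 1, 0, 2],
  [1, 3, 3, 0, 1, 4, 2],
  [3, 2, 0, 2, 4, 1, 3],
  [4, 0, 2, 3, 3, 0, 4],
  [4, 0, 2, 3, 3],
  [4, 0, 2, 3, 3, 0, 1],
  [3, 2, 0, 2, 3, 1, 0],
  [0, 4, 2, 3, 3, 2],
  [0, 4, 2, 3, 3],
  [0, 4, 2, 3, 3, 1, 3],
  [0, 3, 2, 0, 2, 3, 0],
  [0, 3, 2, 4, 1, 0, 2, 4],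
  [4, 0, 4, 2, 0, 1, 0],
  [0, 3, 1, 0, 1, 4, 1, 0],
  [1, 3, 0, 3, 0, 1],
  [0, 3, 0, 1, 0, 2, 0],
  [3, 2, 4, 1, 0, 2, 0],
  [3, 1, 4, 0, 3, 1, 4],
  [0, 4, 1, 4, 0, 1, 0, 2],
  [0, 4, 1, 4, 0, 1, 0],
  [1, 4, 2, 0, 1, 0, 3, 2],
  [1, 4, 2, 0, 1, 0, 3],
  [3, 3, 1, 4, 2, 0, 2],
  [2, 0, 1, 3, 2, 4, 0],
  [3, 2, 4, 0, 1, 3, 0, 3],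
  [1, 0, 2, 4, 1, 0, 4, 1],
  [2, 0, 4, 2, 4, 0, 1],
  [4, 1, 3, 0, 3, 0, 2],
  [4, 2, 0, 3, 1, 4],
  [4, 0, 2, 4, 0, 1],
  [3, 1, 4, 2, 0, 4],
  [2, 3, 1, 3, 0, 2, 0],
  [2, 0, 2, 3, 1, 0, 1],
  [3, 2, 0, 1, 0, 2],
  [3, 2, 0, 1, 0],
  [3, 2, 0, 1, 0, 1, 3],
  [1, 0, 4, 1, 4, 1, 4],
  [3, 0, 1, 0, 2, 0],
  [2, 0, 2, 3, 2, 3, 2],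
  [0, 2, 4, 1, 3, 1, 3],
  [0, 3, 1, 3, 0, 4],
  [0, 3, 1, 3, 0, 4, 1],
  [0, 4, 0, 1, 0, 3, 1],
  [0, 2, 4, 0, 1, 3],
  [0, 1, 4, 0, 2, 4, 0],
  [4, 2, 0, 1, 3, 2],
  [4, 2, 0, 1, 3],
  [0, 2, 0, 2, 0, 1],
  [3, 0, 3, 3, 2, 3],
  [0, 2, 3, 3, 2, 3, 0, 2],
  [0, 4, 2, 0, 2, 3, 1, 3],
  [0, 2, 0, 2, 3, 3, 2, 3],
  [0, 4, 0, 3, 0, 2, 0],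
  [0, 2, 0, 4, 0, 2, 3],
  [1, 0, 2, 4, 1, 0, 3],
  [2, 0, 4, 2, 4, 0],
  [1, 0, 1, 3, 0, 2],
  [0, 2, 3, 3, 0, 1, 4],
  [0, 2, 3, 3, 0, 1, 3],
  [1, 4, 0, 2, 3, 3, 1],
  [1, 4, 2, 3, 2, 0, 2],
  [3, 3, 0, 2, 0, 2, 3],
  [2, 3, 1, 0, 3, 3, 1],
  [0, 3, 3, 1, 4, 0, 3],
  [0, 3, 3, 1, 4, 0, 3, 1],
  [2, 3, 1, 3, 3, 2, 4],
  [2, 3, 1, 3, 3, 2, 0],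
  [3, 1, 4, 2, 3],
  [0, 3, 2, 4, 0, 3, 3],
  [3, 2, 3, 1, 0, 1, 3],
  [0, 2, 4, 0, 1, 3, 0, 4],
  [0, 3, 0, 3, 1, 3, 0],
  [0, 3, 0, 4, 1, 3, 3, 2],
  [0, 3, 0, 4, 1, 4],
  [0, 3, 0, 4, 1, 0],
  [0, 3, 0, 4, 2],
  [0, 3, 0, 4],
  [0, 3, 2, 4, 2, 3, 3],
  [0, 3, 2, 4, 2],
  [3, 3, 2, 3, 1, 4, 1],
  [3, 3, 2, 3, 1],
  [0, 3, 2, 4, 0, 4, 0],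
  [4, 1, 0, 4, 0, 3, 3],
  [0, 2, 0, 2, 0, 3, 0],
  [2, 3, 2, 0, 2, 0, 3, 3],
  [2, 0, 2, 3, 3, 0, 4],
  [3, 0, 4, 0, 4, 2],
  [3, 0, 4, 0, 4],
  [1, 4, 1, 3, 3, 2, 0],
  [4, 0, 1, 3, 3, 2, 3],
  [0, 3, 0, 3, 1, 3, 2, 4],
  [0, 1, 4, 1, 4, 2, 0, 3],
  [1, 0, 1, 4, 2, 3, 0],
  [3, 1, 0, 3, 2, 0],
  [4, 0, 2, 4, 1, 4],
  [1, 0, 2, 0, 4, 1],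
  [4, 1, 0, 2, 0, 2],
  [0, 1, 4, 2, 0, 1, 3],
  [1, 3, 1, 3, 0],
  [1, 3, 1, 3, 0, 3, 0],
  [4, 2, 0, 4, 1, 4],
  [3, 0, 2, 0, 3, 0, 3],
  [2, 3, 2, 0, 1, 0, 3, 3],
  [0, 2, 3, 1, 4, 1, 0, 3],
  [3, 2, 3, 3, 2, 4],
  [3, 2, 3, 3, 2, 3],
  [2, 3, 2, 0, 1, 0, 3],
  [2, 0, 1, 0, 3, 0, 3, 1],
  [1, 0, 4, 2, 4, 1, 0, 2],
  [3, 0, 3, 2, 0, 4],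
  [1, 0, 2, 4, 2, 0, 4],
  [0, 1, 4, 1, 0, 3, 1, 3],
  [1, 0, 1, 0, 4, 2],
  [1, 0, 1, 0, 4],
  [1, 0, 1, 0, 4, 1, 3],
  [1, 0, 1, 0, 4, 1, 4],
  [1, 0, 3, 1, 3, 1],
  [4, 1, 3, 1, 4, 2, 4],
  [0, 4, 2, 4, 1, 4, 2],
  [0, 2, 4, 2, 3, 3, 0],
  [1, 0, 4, 2, 0, 1, 3],
  [1, 3, 2, 4, 0, 1],
  [0, 2, 3, 2, 0, 2, 3, 1],
  [3, 3, 2, 3, 0, 1],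
  [0, 1, 4, 0, 2, 0, 4, 2],
  [0, 1, 4, 0, 2, 0, 4],
  [2, 0, 2, 3, 1, 0, 4],
  [2, 0, 2, 3, 1, 0, 2],
  [1, 4, 0, 4, 0, 1, 3],
  [0, 1, 4, 1, 4, 2, 4],
  [0, 1, 4, 0, 2, 3, 0],
  [3, 0, 2, 0, 4, 0],
  [3, 0, 2, 0],
  [3, 0, 2, 0, 3, 3],
  [2, 0, 4, 2, 0, 4, 1],
  [3, 0, 2, 0, 4, 1, 3],
  [3, 0, 2, 0, 4, 1, 4],
  [1, 4, 0, 2, 4, 1, 3],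
  [2, 0, 3, 0, 3, 2, 3],
  [2, 0, 3, 0, 3, 2, 3, 1],
  [1, 0, 3, 1, 3, 2, 3, 3],
  [1, 0, 3, 1, 3, 2],
  [1, 3, 0, 2, 3, 2, 3],
  [1, 4, 1, 4, 0, 3, 0],
  [1, 0, 2, 4, 1, 0, 4, 0],
  [2, 3, 2, 0, 4, 2, 0, 1],
  [2, 3, 1, 3, 1, 4, 2],
  [4, 2, 0, 3, 0, 1, 4],
  [4, 2, 0, 3, 0, 1, 3],
  [0, 3, 1, 0, 1, 4, 2, 4],
  [1, 4, 1, 3, 2, 3, 1],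
  [3, 3, 1, 0, 1, 3, 3],
  [2, 0, 3, 0, 3, 2, 0],
  [2, 0, 2, 3, 3, 1, 0, 1],
  [1, 3, 1, 3, 1, 3, 0],
  [3, 1, 0, 2, 3, 0, 4],
  [4, 2, 0, 1, 3, 2, 3],
  [1, 0, 4, 2, 4, 2, 3],
  [1, 4, 0, 1, 0, 2, 4, 0],
  [3, 2, 0, 4, 0, 3, 0],
  [0, 2, 4, 0, 3, 2, 4, 0],
  [0, 2, 4, 0, 3, 2],
  [1, 4, 1, 0, 2, 0, 3],
  [3, 1, 3, 2, 4, 2, 0],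
  [0, 3, 0, 1, 4, 1, 0, 2],
  [0, 3, 1, 4, 0, 2, 0],
  [0, 3, 1, 4, 0, 2, 0, 1],
  [4, 0, 4, 1, 4, 1],
  [4, 0, 4, 1, 4, 2],
  [4, 0, 4, 1],
  [4, 0, 4, 1, 3, 3],
  [0, 3, 0, 3, 1, 3, 2],
  [1, 3, 3, 0, 3, 0, 3, 2],
  [0, 1, 4, 0, 3, 3, 2, 0],
  [0, 4, 0, 3, 0, 1],
  [0, 1, 0, 2, 0, 2, 3, 1],
  [4, 0, 3, 0, 4, 2, 0],
  [1, 0, 3, 0, 3, 2],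
  [4, 2, 3, 3, 1, 0, 1],
  [1, 0, 1, 4, 2, 3, 1],
  [0, 2, 3, 1, 4, 0, 3],
  [0, 3, 3, 2, 3, 1, 0, 2],
  [1, 3, 0, 3, 2, 0, 2, 3],
  [1, 4, 1, 0, 3, 3, 1],
  [0, 4, 2, 4, 0, 1, 4],
  [0, 4, 2, 4, 0, 1, 4, 1],
  [0, 3, 0, 1, 4, 2, 3, 1, 4],
  [0, 3, 0, 1, 4, 2, 3, 2],
  [0, 3, 0, 1, 4, 2, 3],
  [1, 3, 1, 4, 1, 3, 2],
  [1, 3, 1, 4, 1, 3],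
  [1, 3, 0, 1, 3, 1],
  [1, 0, 4, 2, 4, 1],
  [0, 2, 0, 1, 3, 0, 2],
  [0, 2, 0, 1, 3, 0],
  [1, 0, 3, 0, 3, 1, 4],
  [1, 0, 3, 0, 2, 3],
  [1, 0, 3, 0, 3],
  [0, 3, 3, 1, 0, 1, 4, 2],
  [0, 3, 3, 1, 0, 1, 4],
  [2, 0, 3, 1, 3, 2, 4, 2],
  [3, 2, 0, 2, 3, 2],
  [3, 3, 0, 4, 2, 0, 4],
  [0, 2, 4, 2, 3, 3, 1, 4],
  [1, 4, 1, 4, 0, 1, 4],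
  [2, 3, 0, 1, 0, 1],
  [0, 2, 0, 4, 0, 3, 1, 4],
  [1, 0, 3, 3, 2],
  [1, 0, 3, 3],
  [1, 0, 3, 3, 1, 3],
  [3, 1, 4, 1, 3],
  [3, 1, 4, 1, 3, 0, 1],
  [0, 4, 0, 1, 4, 1, 0],
  [3, 1, 3, 0, 1, 4, 1],
  [3, 3, 0, 1, 3, 2],
  [0, 4, 0, 4, 0, 1, 0],
  [0, 4, 0, 4, 0, 1, 3],
  [1, 3, 2, 4, 2, 0, 3],
  [1, 3, 2, 4, 2, 0, 3, 1],
  [3, 3, 0, 1, 3, 1, 4],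
  [3, 2, 4, 1, 3, 0],
  [0, 4, 1, 0, 4, 2, 4, 1],
  [0, 2, 0, 3, 2, 4, 2, 0, 3],
  [1, 3, 0, 1, 4, 1, 3],
  [3, 0, 4, 0, 3, 0, 4],
  [0, 4, 0, 1, 0, 1, 4],
  [0, 4, 0, 1, 0, 1, 4, 1],
  [1, 3, 0, 4, 2, 4],
  [1, 3, 0, 4, 2, 3],
  [0, 3, 0, 1, 4, 1, 0, 3],
  [4, 0, 4, 0, 2, 0, 1],
  [3, 0, 3, 0, 3, 2, 4],
  [1, 3, 0, 1, 0, 3, 0],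
  [0, 2, 3, 3, 1, 0, 2, 0],
  [3, 0, 4, 0, 3, 0, 3],
  [0, 2, 4, 1, 0, 4, 2],
  [0, 2, 4, 1, 0, 4],
  [0, 4, 2, 4, 2, 4, 1, 0],
  [4, 1, 4, 1, 3, 0, 4],
  [0, 2, 4, 2, 4, 0, 4],
  [0, 2, 4, 2, 4, 0, 4, 1],
  [0, 2, 4, 2, 0, 4, 2, 4],
  [0, 2, 4, 2, 0, 4, 2, 3],
  [1, 3, 3, 1, 4, 1, 4, 2],
  [2, 3, 1, 3, 2, 0, 4],
  [2, 3, 1, 3, 2, 0, 3],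
  [0, 2, 4, 0, 2, 0, 4, 0],
  [0, 2, 4, 0, 2, 0],
  [0, 4, 1, 0, 3, 1, 3],
  [4, 0, 2, 3, 2],
  [1, 0, 1, 4, 1, 3, 3],
  [1, 0, 1, 4, 1],
  [3, 2, 0, 4, 0, 3, 2],
  [0, 2, 4, 0, 1, 4],
  [0, 2, 4, 0, 1, 4, 1],
  [0, 2, 0, 1, 4, 1, 4, 1],
  [0, 2, 0, 1, 4, 1],
  [3, 2, 0, 4, 2, 0, 3],
  [0, 2, 0, 1, 3, 2, 4],
  [0, 3, 2, 4, 1, 3, 0, 1],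
  [0, 3, 3, 0, 4, 0, 4, 1],
  [0, 4, 2, 4, 1],
  [0, 4, 2, 4, 1, 0, 3],
  [0, 4, 2, 4, 1, 0, 4],
  [3, 3, 2, 0, 4, 2, 3],
  [2, 3, 0, 4, 0, 2, 3],
  [1, 4, 1, 4, 0, 2, 4, 0],
  [0, 2, 3, 3, 0],
  [0, 2, 3, 3, 0, 1],
  [1, 4, 0, 4, 0, 1],
  [0, 2, 3, 3, 0, 2, 4],
  [2, 3, 1, 0, 2, 4, 0],
  [2, 3, 1, 0, 2, 3, 3],
  [1, 0, 3, 3, 1, 4, 0],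
  [4, 1, 3, 0, 1],
  [0, 2, 4, 0, 3, 1, 4],
  [0, 3, 1, 0, 1, 3, 2],
  [3, 2, 4, 0, 3, 1, 0],
  [2, 0, 4, 1, 0, 1, 0],
  [2, 0, 4, 1, 0, 2],
  [2, 0, 4, 1, 0],
  [2, 0, 4, 1, 0, 1, 3],
  [1, 0, 3, 0, 1, 4, 2],
  [3, 0, 3, 0, 2, 3, 1],
  [2, 3, 1, 0, 2, 3],
  [3, 3, 1, 3, 2, 3, 2],
  [4, 0, 4, 0, 1, 4, 2],
  [0, 4, 1, 4, 1, 0, 4],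
  [0, 3, 0, 2, 0, 1, 3, 0],
  [1, 0, 3, 3, 2, 0, 4, 1],
  [3, 2, 4, 1, 0, 4],
  [3, 2, 0, 2, 0, 4],
  [3, 2, 0, 2, 0, 4, 1],
  [0, 2, 4, 2, 4, 2, 0, 4],
  [2, 0, 4, 2, 3, 1, 3],
  [4, 0, 4, 2, 4, 1, 4],
  [0, 1, 0, 3, 2, 4, 0],
  [0, 4, 1, 0, 3, 3, 0, 1],
  [3, 2, 4, 0, 2, 3, 3, 0],
  [0, 4, 1, 0, 3, 2, 4],
  [4, 2, 4, 2, 4],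
  [4, 2, 4, 2, 3],
  [0, 1, 0, 3, 1, 0, 1, 4],
  [3, 0, 3, 1, 3, 2, 4],
  [3, 0, 3, 1, 3, 2, 3],
  [2, 0, 3, 0, 3, 0, 2],
  [3, 0, 2, 3, 0, 3, 2, 3],
  [0, 2, 0, 1, 3, 0, 4],
  [2, 0, 4, 0, 1, 0, 2],
  [0, 1, 0, 4, 1, 0, 1, 0],
  [3, 1, 4, 2, 0, 3],
  [0, 1, 0, 4, 1, 0],
  [1, 0, 3, 0, 3, 2, 4],
  [0, 2, 4, 0, 4, 1, 0, 2],
  [0, 2, 4, 0, 4, 1, 0, 3],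
  [0, 2, 4, 0, 4, 2, 0],
  [0, 2, 4, 0, 4, 2, 3],
  [0, 2, 4, 0],
  [0, 2, 4, 0, 3, 3],
  [0, 2, 4, 0, 4, 1, 3, 1],
  [3, 3, 1, 3, 3, 0, 4],
  [0, 4, 0, 3, 1, 4],
  [0, 4, 0, 3, 1, 4, 1],
  [3, 3, 0, 4, 2, 0, 3],
  [1, 3, 2, 4, 2, 4],
  [0, 1, 0, 2, 3, 1, 3, 3],
  [0, 1, 0, 2, 3, 1],
  [3, 3, 2, 0, 1, 4, 1],
  [2, 3, 0, 3, 2, 4, 1, 4],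
  [2, 3, 0, 3, 2, 4, 1, 3],
  [3, 3, 1, 4, 1],
  [0, 2, 4, 2, 4, 1, 0],
  [1, 3, 0, 4, 2, 3, 0, 1],
  [1, 3, 0, 1, 0, 4, 1, 3],
  [0, 3, 0, 1, 0, 2, 4],
  [0, 3, 0, 1, 0],
  [3, 2, 0, 1, 3, 1, 4],
  [1, 0, 2, 3, 0, 2, 0, 2],
  [1, 0, 1, 0, 4, 0, 2],
  [2, 0, 1, 3, 3, 2, 4],
  [1, 0, 2, 3, 0, 2, 3, 1],
  [3, 1, 0, 2, 3, 2, 4],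
  [3, 2, 4, 0, 2, 4, 0],
  [2, 0, 1, 0, 2, 3, 3],
  [1, 0, 3, 1, 0, 4, 2],
  [1, 0, 2, 3, 1],
  [1, 0, 2, 3, 2],
  [1, 0, 2, 3, 3],
  [1, 0, 2],
  [1, 0, 2, 3, 0, 3, 0],
  [1, 0, 2, 3, 0, 3, 1],
  [0, 4, 0, 3, 3, 1, 0],
  [1, 0, 2, 3, 0, 3, 3],
  [1, 0, 2, 3, 0, 4, 0],
  [1, 0, 2, 3, 0, 4, 1],
  [3, 2, 0, 4, 1, 0],
  [4, 0, 4, 2, 3, 3, 0],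
  [4, 2, 3, 1, 3, 1, 4],
  [0, 3, 0, 3, 0, 4, 2],
  [3, 2, 3, 1, 4, 1],
  [3, 2, 4, 1, 0, 3],
  [0, 3, 1, 3, 3, 0, 4],
  [2, 0, 3, 3, 2, 0, 3, 2],
  [2, 0, 3, 1, 3, 1, 3, 0],
  [4, 2, 0, 2, 3, 3, 2],
  [0, 2, 4, 0, 3, 2, 0, 2],
  [0, 2, 4, 0, 3, 2, 0],
  [2, 0, 2, 3, 3, 0, 2, 0],
  [4, 1, 0, 3, 0, 3],
  [1, 0, 3, 2, 3, 2, 4],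
  [3, 1, 3, 1, 0, 1, 4],
  [3, 2, 0, 2, 3, 2, 4],
  [1, 0, 2, 4, 2, 4, 0, 3],
  [3, 3, 1, 4, 2, 4, 0],
  [1, 0, 2, 4, 2, 0],
  [1, 0, 2, 4],
  [1, 0, 2, 4, 1],
  [1, 0, 2, 4, 2, 3],
  [3, 0, 3, 3, 0, 3, 2],
  [0, 2, 4, 1, 3, 3, 1, 4],
  [1, 4, 1, 3, 3, 0, 3],
  [0, 4, 0, 4, 0, 3, 0, 4],
  [2, 3, 2, 4, 0, 4, 2],
  [3, 0, 2, 3, 0, 4, 2],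
  [3, 1, 3, 0, 3, 2, 3],
  [0, 4, 2, 0, 1, 3, 3, 0],
  [4, 0, 3, 2, 0, 1, 4],
  [1, 3, 3, 2, 0, 3],
  [4, 0, 3, 2, 0, 2],
  [4, 0, 3, 2, 0],
  [2, 0, 2, 3, 0, 3, 2],
  [2, 0, 2, 3, 0, 3],
  [2, 0, 3, 3, 0, 3, 3],
  [2, 0, 3, 3, 0],
  [4, 0, 2, 0, 4, 2, 0, 4],
  [0, 2, 4, 2, 4, 0, 3, 2],
  [0, 2, 4, 2, 4, 0, 3],
  [1, 3, 3, 1, 3, 0, 2, 4],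
  [3, 0, 1, 3, 2, 3],
  [1, 3, 3, 1, 3, 0],
  [1, 3, 3, 1, 3, 0, 1],
  [0, 4, 1, 0, 2, 3, 0, 4],
  [2, 3, 2, 4, 0, 4, 0],
  [0, 1, 0, 1, 0, 3, 2],
  [4, 2, 0, 2, 3, 0, 1],
  [4, 2, 0, 2, 0, 1, 0],
  [3, 3, 0, 4, 2, 3, 1],
  [0, 2, 4, 1, 3, 0],
  [3, 3, 2, 0, 2, 4, 2],
  [1, 0, 4, 0, 1, 0, 3],
  [0, 3, 1, 4, 2, 4, 0, 1],
  [4, 1, 3, 0, 3, 0, 3],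
  [4, 1, 0, 4, 0, 4, 0],
  [4, 1, 0, 3, 3, 1, 0],
  [0, 1, 4, 0, 1, 3, 2],
  [3, 0, 3, 3, 0, 2],
  [3, 0, 3, 3, 0],
  [3, 0, 3, 3, 0, 1, 3],
  [4, 2, 0, 2, 0, 2],
  [4, 2, 0, 2, 0],
  [3, 0, 2, 3, 2, 0, 3],
  [1, 3, 3, 1, 3, 3, 2],
  [1, 0, 1, 0, 2, 0, 3],
  [3, 1, 3, 3, 2, 0],
  [3, 0, 2, 3, 0, 1],
  [3, 0, 2, 3, 0, 2],
  [3, 0, 2, 3, 0, 3],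
  [3, 0, 2, 3, 0, 4],
  [0, 3, 2, 0, 4, 2],
  [3, 0, 2, 3, 3, 1],
  [3, 0, 2, 3, 3, 2],
  [3, 0, 2, 4],
  [3, 0],
  [3, 0, 1],
  [3, 3, 0, 3, 3],
  [3, 3, 0, 3, 3, 1],
  [1, 0, 3, 0, 4, 2, 0],
  [0, 2, 3, 2, 4, 2, 0],
  [0, 3, 2, 0, 1, 4, 1, 3],
  [3, 3, 1, 0, 3, 1, 4],
  [3, 3, 1, 0, 3, 1, 3],
  [0, 4, 0, 2, 3, 2],
  [0, 3, 3, 0, 2, 4, 1],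
  [3, 3, 1],
  [3, 3, 1, 0, 3],
  [3, 3, 1, 0, 4],
  [3, 3, 0, 4, 2, 3],
  [3, 3, 1, 0, 1, 3],
  [3, 3, 1, 0, 1, 4],
  [3, 3, 1, 0, 2, 3, 0],
  [3, 3, 1, 0, 2, 3, 1],
  [3, 3, 1, 0, 2, 3, 2],
  [3, 3, 1, 0, 2, 3, 3],
  [3, 3, 1, 0, 2, 4, 0],
  [3, 3, 2, 3, 3, 0],
  [0, 2, 4, 2, 3, 2, 3],
  [3, 3, 1, 3, 0, 1, 3],
  [4, 0, 3, 3, 0, 1, 4],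
  [3, 0, 3, 3, 1, 4],
  [3, 0, 3, 3, 1, 3],
  [1, 0, 1, 4, 0, 2, 3, 1],
  [2, 3, 0, 3, 2, 4],
  [2, 3, 0, 3, 2, 4, 1],
  [1, 0, 3, 0, 1, 0, 2, 0],
  [3, 2, 0, 1, 0, 2, 3, 2],
  [1, 3, 0, 3, 3, 2, 4],
  [0, 4, 0, 2, 0, 4],
  [0, 4, 0, 2, 0, 4, 1],
  [3, 2, 0, 3, 0, 3, 3],
  [3, 2, 0, 3, 0],
  [2, 3, 0, 3, 1],
  [2, 3, 0, 3, 1, 0, 1],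
  [2, 3, 0, 3, 1, 0, 2],
  [4, 1, 0, 1, 0, 2, 3],
  [0, 1, 4, 1, 0, 1, 3, 1],
  [0, 1, 4, 1, 0, 1, 3, 2],
  [4, 1, 0, 4, 0, 3],
  [3, 0, 3, 3, 0, 4, 2],
  [2, 3, 0, 1, 0, 2, 0],
  [0, 3, 0, 3, 0, 1],
  [0, 2, 0, 4, 1, 3, 0, 4],
  [3, 2, 4, 2, 3],
  [3, 0, 4, 1, 3, 2],
  [3, 0, 4, 1, 3],
  [0, 2, 0, 4, 1, 4],
  [0, 4, 2, 3],
  [0, 2, 0, 4],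
  [3, 2, 3, 2, 4, 0],
  [0, 2, 3, 2, 4, 0, 2],
  [0, 2, 3, 2, 4, 0, 4],
  [0, 2, 3, 2, 4, 1, 0],
  [1, 4, 2, 3, 2, 4],
  [1, 4, 2, 3, 2, 3],
  [0, 2, 3, 2, 0],
  [2, 3, 0, 2, 0, 1],
  [3, 3, 0, 1, 4],
  [2, 3, 0, 2, 0, 3],
  [2, 3, 0, 2, 0, 4],
  [2, 3, 0, 1, 0],
  [2, 3, 0, 1, 3],
  [2, 3, 0, 1, 4],
  [0, 3, 2, 0],
  [0, 3, 2, 3],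
  [0, 3, 2, 4],
  [0, 3, 0],
  [0, 3, 3],
  [0],
  [0, 3, 1, 3, 0],
  [0, 3, 1, 3, 1],
  [0, 3, 1, 3, 2],
  [0, 3, 1, 3, 3],
  [0, 3, 1, 4, 0],
  [0, 3, 1, 4, 1],
  [0, 3, 1, 4, 2],
  [0, 3, 1, 0, 1, 0, 1],
  [3, 0, 4, 2, 0, 3],
  [0, 3, 1, 0, 1, 3, 0],
  [0, 3, 1, 0, 1, 3, 1],
  [0, 3, 1, 0, 1, 3, 3],
  [4, 1, 3, 3, 0, 1],
  [0, 3, 1, 0, 1, 4, 1],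
  [0, 3, 1, 0, 1, 4, 2],
  [0, 3, 1, 0, 2, 0, 1],
  [0, 3, 1, 0, 2, 0, 2],
  [0, 3, 1, 0, 2, 0, 3],
  [0, 3, 1, 0, 2, 0, 4],
  [0, 3, 1, 0, 2, 3, 0],
  [0, 3, 1, 0, 2, 3, 1],
  [0, 3, 1, 0, 2, 3, 2],
  [0, 3, 1, 0, 2, 3, 3],
  [0, 3, 1, 0, 2, 4, 0],
  [0, 2, 0, 3, 0, 3, 3],
  [0, 3, 1, 0, 2, 4, 2],
  [0, 4, 2, 0, 3, 2],
  [0, 4, 2, 0, 3],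
  [0, 1, 4, 2, 4, 0, 3],
  [0, 1, 4, 2, 4, 0, 4],
  [3, 1, 0, 2],
  [3, 1, 0, 2, 0, 3],
  [2, 0, 2, 0, 3, 1],
  [0, 1, 4, 2, 4, 2, 0],
  [1, 0, 2, 0, 2],
  [2, 3, 0, 1, 3, 1],
  [0, 1, 4, 2, 0, 1, 0],
  [0, 3, 0, 3, 3, 1],
  [0, 1, 4, 2, 0, 2, 0],
  [1, 0, 1, 4, 0, 2],
  [0, 1, 4, 2, 0, 2, 4],
  [0, 1, 4, 2, 0, 3, 0],
  [0, 1, 4, 2, 0, 3, 3],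
  [0, 3, 2, 0, 4, 1],
  [0, 1, 4, 2, 0, 4, 1],
  [3, 2, 3, 3, 2, 0],
  [0, 1, 4, 0, 1],
  [0, 1, 4, 0, 2],
  [0, 1, 4, 0, 3],
  [0, 1, 4, 0, 4],
  [0, 1, 0],
  [0, 1, 0, 1, 4],
  [0, 1, 0, 1, 4, 1],
  [0, 1, 4, 1, 3, 3],
  [0, 1, 4, 1, 4, 0],
  [0, 1, 4, 1, 4, 1],
  [0, 1, 4, 1, 4, 2],
  [3, 0, 2, 4, 0, 2],
  [3, 0, 2, 4, 0],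
  [1, 3, 3, 0, 4, 0],
  [4, 1, 4, 1, 0, 4],
  [4, 1, 4, 1, 3, 0],
  [4, 1, 4, 1, 3, 1],
  [4, 1, 4, 1, 3, 2],
  [0, 4, 0, 1, 4],
  [0, 4, 0, 1, 0],
  [0, 4, 0, 2],
  [0, 4, 0],
  [4, 1, 4, 2, 0, 1],
  [4, 1, 4, 2, 0, 2],
  [4, 1, 4, 2, 0, 3],
  [1, 3, 1, 0, 4, 0],
  [3, 2, 4, 1, 4, 0],
  [0, 1, 4, 0, 4, 1],
  [3, 2, 4, 1],
  [3, 2, 4, 1, 3, 1],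
  [4, 1, 0, 2],
  [4, 1, 0, 3],
  [4, 2, 0],
  [4, 2, 3],
  [4, 2, 4],
  [4, 0],
  [3, 3],
  [4, 1, 3, 1],
  [4, 1, 3, 2],
  [4, 1, 3, 3, 0, 2],
  [4, 1, 3, 3, 0, 3],
  [4, 1, 3, 3, 1, 0],
  [4, 1, 3, 3, 1, 3],
  [4, 1, 3, 3, 1, 4],
  [2, 3, 0, 1, 4, 2],
  [4, 1, 3, 3, 2, 3],
  [4, 1, 3, 3, 2, 4],
  [0, 2, 3, 1, 0],
  [3, 1, 0],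
  [0, 2, 3, 1, 4],
  [0, 2, 3, 3, 1],
  [0, 2, 3, 3, 2],
  [0, 2, 4],
  [0, 2, 0],
  [0, 2, 3, 0, 3, 0, 1],
  [0, 2, 3, 0, 3, 0, 2],
  [0, 2, 3, 0, 3, 0, 3],
  [0, 2, 3, 0, 3, 0, 4],
  [0, 2, 3, 0, 3, 1, 0],
  [0, 2, 3, 0, 3, 1, 3],
  [0, 4, 2, 4, 2],
  [0, 2, 3, 0, 3, 2, 0],
  [0, 3, 0, 3, 0, 2],
  [0, 2, 3, 0, 3, 2, 4],
  [0, 2, 3, 0, 1, 0, 1, 0],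
  [0, 1, 0, 2, 3, 2, 0],
  [3, 2, 0, 4, 0, 2, 0],
  [0, 1, 0, 2, 0, 1, 3, 0],
  [2, 0, 1, 4, 1, 3, 1],
  [0, 1, 0, 2, 0, 1],
  [0, 3, 3, 1, 0, 3, 3],
  [3, 2, 0, 4, 2, 3, 3],
  [4, 0, 1, 3, 3, 1, 3],
  [1, 0, 1, 3, 1, 3, 1],
  [1, 0, 1, 3, 1, 3, 2],
  [1, 0, 1, 3, 1, 3, 3],
  [1, 0, 1, 3, 1],
  [0, 3, 0, 3, 1, 0, 4],
  [0, 3, 0, 3, 1, 0, 3],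
  [1, 3, 0, 2, 4],
  [1, 3, 0, 2, 4, 0, 4],
  [0, 2, 3, 0, 1, 3, 3, 0],
  [0, 3, 3, 0, 1, 4, 0],
  [4, 2, 0, 2, 0, 4],
  [0, 3, 3, 1, 4, 1, 4],
  [2, 0, 2, 4, 2, 0],
  [0, 2, 3, 0, 1, 4, 0, 3],
  [4, 0, 4, 1, 0, 2],
  [1, 3, 0, 2, 0, 1, 3],
  [0, 1, 0, 2, 0, 3, 0, 2],
  [3, 2, 3, 3, 0, 3, 0],
  [3, 0, 3],
  [3, 0, 3, 0, 3],
  [3, 0, 3, 0, 4],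
  [3, 0, 3, 0, 1, 3],
  [3, 0, 3, 0, 1, 4],
  [0, 3, 3, 1, 0, 3, 2],
  [3, 0, 3, 0, 2, 3, 3],
  [3, 0, 3, 0, 2, 4, 1],
  [0, 1, 4, 1, 4, 1, 4],
  [3, 0, 4, 0, 1, 4],
  [0, 3, 2, 4, 2, 4, 2],
  [0, 1, 0, 2, 4, 1, 4],
  [0, 1, 4, 0, 1, 4, 0],
  [0, 3, 2, 3, 3, 2, 4],
  [0, 3, 2, 3, 3, 0],
  [2, 3, 0, 3, 1, 4, 0],
  [2, 0, 1, 0, 3, 2, 4],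
  [3, 2, 0, 1, 0, 2, 3],
  [4, 1, 0, 3, 0, 3, 1],
  [3, 2, 3, 2, 0, 1],
  [1, 0, 1, 3, 3, 0, 4, 1],
  [3, 0, 1, 4, 2, 4, 0],
  [3, 0, 1, 4, 2, 4, 0, 3, 3],
  [3, 0, 3, 2, 4, 0],
  [3, 0, 3, 2],
  [3, 0, 3, 2, 3, 3],
  [3, 3, 0, 1, 0, 3],
  [0, 2, 3, 3, 2, 3, 1],
  [2, 0, 3, 1, 4, 1],
  [3, 0, 3, 0, 4, 1, 3, 1],
  [0, 3, 0, 4, 2, 4, 1, 4],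
  [4, 0, 4, 1, 0, 3, 0],
  [4, 2, 3, 2, 3, 2],
  [0, 2, 4, 2, 3, 1, 0, 2],
  [1, 0, 4, 0, 4, 0],
  [1, 0, 4, 0, 4, 0, 1],
  [3, 0, 2, 0, 4, 0, 1],
  [0, 3, 1, 3, 2, 4, 0, 4],
  [0, 3, 1, 3, 2, 4, 0, 3],
  [0, 2, 0, 4, 0, 3, 3],
  [3, 2, 0, 1, 3, 1, 0],
  [0, 2, 4, 2, 3, 3, 2],
  [0, 2, 0, 3, 2, 0, 1, 4],
  [3, 2, 0, 3, 0, 2],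
  [4, 1, 0, 4, 0, 1],
  [3, 3, 0, 4, 0, 1],
  [1, 0, 1, 0, 3, 2, 4],
  [4, 0, 3, 3, 0, 2, 0],
  [4, 0, 1, 0, 1, 0, 2],
  [4, 0, 1, 0, 1, 0],
  [3, 3, 2, 0, 3, 0],
  [3, 3, 2, 0, 3, 0, 3, 3],
  [4, 2, 3, 3, 2, 4, 1],
  [2, 0, 3, 1, 0, 2],
  [0, 4, 1, 0, 2, 4, 0, 3],
  [0, 1, 0, 1, 0, 4, 1],
  [3, 0, 4, 1, 4, 2, 3],
  [4, 0, 3, 1, 0, 1, 4],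
  [1, 4, 1, 4, 0, 4, 0],
  [0, 1, 4, 1, 3, 3, 1],
  [3, 0, 4, 0, 3, 3, 0],
  [1, 0, 2, 3, 3, 1, 3, 3],
  [1, 0, 1, 4, 0, 1],
  [0, 4, 2, 0, 2, 4, 1, 3],
  [0, 3, 0, 1, 3, 3],
  [0, 3, 0, 1, 3, 3, 0, 1],
  [0, 3, 0, 2, 3, 2, 3],
  [0, 3, 0, 1, 3, 3, 0, 3],
  [2, 3, 2, 4, 1, 3, 2],
  [2, 3, 0, 1, 3, 0, 4, 0],
  [0, 3, 2, 0, 3],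
  [0, 3, 2, 0, 3, 1],
  [0, 3, 2, 0, 3, 2, 4],
  [1, 0, 3, 1, 3, 0, 2, 3],
  [0, 4, 2, 0, 1, 3, 1, 3],
  [3, 0, 4, 1, 3, 3, 0, 3],
  [0, 4, 1, 4, 2, 3, 3, 0],
  [0, 2, 4, 2, 4, 2, 4],
  [1, 0, 2, 0, 4, 1, 0],
  [1, 0, 2, 0, 4, 1, 0, 1],
  [3, 1, 3, 3, 1, 0],
  [3, 1, 3, 3, 1, 0, 1],
  [3, 0, 3, 1, 3, 0, 4],
  [3, 2, 3, 2, 0, 1, 4],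
  [3, 2, 3, 2, 0, 1, 3],
  [4, 0, 2, 3, 2, 4, 2],
  [1, 0, 1, 3, 0, 1],
  [1, 0, 1, 3, 0, 1, 3, 3],
  [0, 4, 2, 0, 1, 4, 1],
  [3, 1, 3, 1, 0],
  [3, 1, 3, 1, 0, 3, 3],
  [3, 3, 0, 2, 3, 0],
  [3, 3, 0, 2],
  [2, 0, 2, 4, 1, 4, 1],
  [1, 3, 2, 3, 3, 1, 0],
  [1, 3, 2, 3, 3, 1, 0, 1],
  [1, 0, 3, 1, 4, 0, 3],
  [1, 4, 2, 0, 1, 0],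
  [1, 4, 2, 0, 1, 3],
  [1, 4, 2, 0, 1, 3, 3, 0],
  [1, 4, 2, 0, 1, 3, 3, 2],
  [2, 0, 2, 4, 1, 3, 3],
  [1, 4, 0, 3, 3, 2, 0],
  [2, 0, 2, 0, 3, 3, 2],
  [2, 0, 1, 0, 2, 3, 1, 0],
  [0, 4, 0, 3, 1, 3, 0, 4],
  [3, 0, 3, 1, 3, 3],
  [3, 3, 1, 3, 1, 3],
  [3, 0, 3, 1, 3, 3, 2, 3],
  [1, 4, 1, 0, 3, 1, 3],
  [1, 4, 0, 1, 0, 3, 0],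
  [3, 2, 0, 1, 4, 0, 1],
  [3, 2, 0, 1, 4, 0, 3],
  [0, 3, 3, 2, 4, 0, 1],
  [3, 2, 0, 2],
  [3, 2, 0],
  [3, 2, 0, 1, 3],
  [3, 0, 3, 0, 1, 0, 1],
  [3, 0, 3, 0, 1, 0, 2],
  [3, 2, 3, 1, 4, 2, 3],
  [3, 0, 3, 2, 0, 1, 3],
  [3, 2, 0, 1, 4, 1, 0, 3],
  [0, 2, 0, 2, 4, 0, 3, 1],
  [1, 3, 2, 0, 2, 3, 0, 4],
  [1, 4, 2, 4, 0, 2, 4, 1],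
  [1, 4, 2, 4, 0, 2, 4, 2],
  [1, 4, 2, 4, 0, 2],
  [1, 4, 2, 4, 0, 2, 3, 0],
  [1, 3, 2, 0, 3, 2, 0, 4],
  [3, 2, 3, 1, 0, 1, 4],
  [2, 3, 0, 4, 1, 4, 0, 3],
  [2, 0, 2, 3, 0, 1, 0, 4],
  [0, 3, 1, 4, 0, 2, 0, 1, 4],
  [4, 0, 1, 3, 0, 1, 3, 1],
  [0, 3, 0, 3, 0, 3, 3],
  [3, 1, 3, 2, 0, 3, 3, 1],
  [3, 1, 3, 0, 4, 0, 1],
  [1, 3, 0, 1, 3, 2, 4, 2],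
  [4, 1, 3, 3, 0, 3, 3, 2],
  [3, 1, 4, 2, 0, 2, 0, 1],
  [4, 0, 1, 3, 3, 0, 4],
  [2, 3, 0, 2, 0, 3, 3],
  [0, 2, 3, 2, 4, 0, 2, 3],
  [3, 0, 2, 0, 4, 0, 4],
  [3, 0, 2, 0, 4, 0, 3],
  [0, 3, 3, 2, 4, 1, 3],
  [1, 3, 0, 1, 0, 1],
  [0, 1, 0, 4, 2, 4, 2],
  [0, 4, 2, 3, 0, 1, 3, 0],
  [3, 3, 2, 0, 4, 1, 0, 3],
  [3, 2, 0, 2, 4, 1, 4],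
  [2, 0, 2, 4, 1, 0, 3, 0],
  [1, 3, 1, 0, 1, 4],
  [0, 4, 2, 4, 0, 4, 1],
  [0, 3, 0, 2, 0, 2, 0, 4],
  [4, 0, 3, 1, 4, 1, 0],
  [3, 1, 3, 1, 0, 3, 1, 0],
  [3, 2, 0, 2, 4, 1, 4, 1],
  [1, 3, 0, 3, 2, 0, 3, 3],
  [1, 3, 0, 4, 2, 0, 1, 3],
  [1, 4, 0, 2, 3, 2, 4],
  [0, 3, 0, 1, 4, 0, 3],
  [0, 3, 0, 1, 4, 0, 3, 1],
  [4, 0, 3, 0, 4, 0],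
  [0, 4, 2, 0, 4, 2, 3],
  [3, 2, 0, 3, 0, 2, 0],
  [1, 4, 2, 0, 3, 0, 4],
  [4, 0, 2, 0, 4, 1, 0, 2],
  [4, 0, 2, 0, 4, 1, 0],
  [4, 2, 4, 2, 4, 2],
  [1, 3, 0, 1, 0, 4, 1, 0],
  [0, 1, 0, 2, 4, 0, 2, 0],
  [0, 1, 0, 2, 4, 0],
  [0, 1, 0, 2, 4, 0, 1],
  [1, 0, 1, 0, 2, 0, 1],
  [4, 2, 0, 2, 0, 2, 0],
  [4, 2, 0, 2, 0, 2, 0, 1],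
  [4, 1, 0, 1, 3],
  [1, 4, 1, 3, 0],
  [2, 0, 4, 2, 0, 4, 2],
  [4, 1, 0, 1, 0, 1, 3],
  [0, 2, 0, 3, 1, 3, 2],
  [4, 1, 0, 1, 0, 2, 0],
  [4, 1, 0, 1, 0, 2, 4],
  [0, 1, 0, 3, 1, 3, 3],
  [1, 3, 0, 1, 3, 3, 2],
  [1, 3, 3, 0, 1, 3, 3, 0],
  [2, 0, 3, 3, 1, 3, 3],
  [1, 4, 1, 0, 4, 0, 4],
  [4, 0, 2, 0, 1, 3, 0],
  [4, 0, 2, 0, 1, 3, 0, 1],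
  [4, 1, 3, 2, 0, 2],
  [1, 0, 3, 2, 0, 3, 2, 0],
  [1, 0, 3, 2, 0, 3],
  [0, 2, 4, 0, 2, 4, 0],
  [2, 0, 4, 0, 2, 0, 1],
  [1, 3, 3, 0, 3, 3, 0, 4],
  [1, 3, 3, 0],
  [1, 3, 3, 0, 3, 1],
  [1, 3, 3, 0, 3, 2],
  [4, 0, 3, 1, 0, 2],
  [4, 0, 3, 1, 0],
  [4, 2, 3, 1, 3, 2],
  [4, 0, 3, 0, 3, 3, 1, 4],
  [0, 3, 0, 1, 4, 2, 4, 2],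
  [0, 3, 0, 1, 4, 2, 4],
  [3, 2, 3, 3, 2, 4, 1],
  [0, 3, 1, 4, 1, 4, 2],
  [0, 4, 0, 1, 4, 0, 3],
  [1, 3, 1, 0, 1, 3, 0],
  [4, 2, 3, 0, 1, 4],
  [0, 3, 2, 0, 3, 3, 2, 4],
  [4, 2, 3, 3, 2, 3, 0],
  [3, 3, 2, 4, 0, 3, 1],
  [2, 0, 2, 3, 2, 3, 3, 0],
  [0, 4, 0, 2, 0, 4, 1, 4],
  [0, 4, 0, 3, 3, 2, 3, 0],
  [0, 3, 1, 4, 2, 3, 3, 2],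
  [2, 0, 4, 1, 0, 3, 2],
  [2, 0, 4, 1, 0, 3],
  [0, 3, 3, 0, 1, 0, 3],
  [0, 2, 3, 0, 3, 0, 1, 0],
  [1, 0, 2, 0, 1, 0, 4, 1],
  [1, 4, 1, 4, 2, 0, 1],
  [3, 3, 2, 4, 0, 2, 3],
  [1, 0, 3, 3, 2, 4, 1, 4],
  [2, 3, 1, 0, 2, 3, 2],
  [0, 2, 3, 2, 0, 2, 3],
  [1, 0, 3, 1, 3, 0, 2],
  [1, 0, 3, 1, 3, 0],
  [3, 3, 2, 0, 2, 0, 3],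
  [2, 0, 2, 0, 4, 0, 3, 3],
  [2, 0, 2, 0, 4, 0],
  [0, 1, 0, 3, 2, 4, 2, 4],
  [0, 1, 0, 2, 4, 1, 3],
  [1, 3, 1, 3, 1, 0, 3],
  [0, 2, 0, 1, 4, 2, 0, 2],
  [1, 0, 2, 0, 3, 0],
  [2, 0, 4, 2, 0, 3, 2],
  [1, 3, 3, 0, 1, 4, 1, 4],
  [1, 4, 0, 1, 3, 0, 1],
  [0, 4, 0, 2, 4, 1, 4],
  [4, 0, 3, 3, 0, 1],
  [0, 3, 1, 3, 3, 2, 4],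
  [0, 2, 4, 1, 3, 2, 3],
  [0, 4, 0, 3, 2, 3, 2],
  [0, 3, 3, 0, 2, 3, 1],
  [0, 4, 0, 3, 2],
  [4, 1, 3, 0, 3, 0],
  [3, 0, 4, 0, 1, 3],
  [4, 2, 3, 1, 0],
  [0, 4, 1, 4, 1, 4, 1],
  [1, 0, 3, 0, 2, 0],
  [0, 4, 1, 4, 1],
  [0, 4, 1, 4, 1, 3, 3],
  [3, 3, 2, 3, 0, 1, 3],
  [3, 2, 3, 0, 2, 0],
  [1, 4, 2, 3, 2, 3, 2],
  [2, 0, 2, 4, 0, 2],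
  [0, 1, 4, 1, 0, 3, 2, 4],
  [3, 1, 3, 3, 2, 0, 4],
  [1, 3, 0, 3, 3, 2, 3, 3],
  [2, 0, 3, 3, 1, 3, 3, 1],
  [3, 0, 3, 2, 0, 3, 3, 1],
  [1, 4, 0, 4, 1],
  [1, 4, 0, 4, 1, 0, 1],
  [1, 4, 0, 4, 1, 0, 2],
  [1, 4, 0, 4, 1, 0, 3],
  [0, 3, 0, 3, 3, 2, 3],
  [3, 1, 3, 1, 4, 1, 3],
  [2, 3, 1, 3, 0, 1, 4, 0],
  [1, 3, 2, 3, 3, 1, 0, 4],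
  [2, 3, 2, 4, 0, 3, 0],
  [2, 0, 2, 3, 3, 2, 0],
  [1, 3, 1, 0, 3, 1, 3, 0],
  [1, 4, 1, 4, 0, 3],
  [1, 4, 1, 4, 0, 3, 1],
  [1, 4, 1, 4, 0, 3, 2, 3],
  [2, 3, 0, 4, 0, 1, 3, 0],
  [0, 2, 4, 1, 3, 2, 3, 0],
  [1, 4, 2, 0, 2, 0, 1],
  [1, 4, 2, 0, 2, 0, 2],
  [1, 0, 1, 3, 3, 2],
  [2, 0, 3, 2, 3, 0],
  [2, 0, 3, 2, 3, 0, 1],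
  [2, 3, 1, 0, 3, 0],
  [2, 3, 1, 0, 3, 0, 1],
  [2, 3, 1, 4, 2, 3, 2],
  [0, 2, 0, 4, 1, 0, 3, 1],
  [1, 0, 4, 0, 4, 0, 1, 4],
  [0, 2, 0, 1, 4, 0, 4],
  [1, 4, 2, 3, 3, 1, 3],
  [2, 0, 1, 0, 4, 1, 3],
  [4, 0, 1, 3, 1, 3, 0],
  [1, 0, 1, 3, 1, 4, 0, 2],
  [1, 4, 1, 0, 2, 4],
  [2, 0, 1, 0, 2, 0, 4],
  [2, 3, 0, 1, 4, 1, 3],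
  [1, 0, 3, 0, 4, 0, 3],
  [0, 2, 3, 3, 2, 3, 3, 2],
  [0, 2, 3, 3, 0, 3, 2],
  [2, 0, 4, 2, 0, 2],
  [1, 4, 1, 4, 0, 4, 2],
  [0, 4, 1, 4, 2, 4, 0],
  [0, 4, 1, 4, 2],
  [0, 4, 1, 4, 2, 3, 3],
  [1, 0, 1, 4, 0, 3],
  [0, 3, 2, 4, 2, 0, 4],
  [1, 3, 0, 1, 4, 2, 3],
  [0, 1, 0, 1, 3, 1, 3],
  [2, 3, 1, 3, 0, 2],
  [2, 3, 1, 3, 0, 2, 3, 3],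
  [3, 0, 1, 4, 1, 3, 1],
  [3, 1, 0, 1, 0, 3, 3],
  [3, 1, 0, 1, 0],
  [1, 0, 4, 1, 0, 3, 2],
  [3, 1, 0, 1, 0, 3, 1, 3],
  [1, 0, 3, 0, 4, 2],
  [1, 3, 1, 4, 1, 3, 3],
  [4, 0, 2, 3, 2, 4],
  [1, 0, 4, 1, 3, 3, 0],
  [3, 0, 4, 1, 4, 1, 3],
  [0, 3, 3, 0, 4, 1, 4, 0],
  [3, 0, 3, 1, 3, 1, 0],
  [1, 0, 2, 0, 4, 2, 3],
  [0, 3, 3, 0, 4, 1],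
  [3, 2, 0, 4, 1, 3, 3],
  [0, 3, 2, 0, 1, 0, 4],
  [0, 3, 0, 3, 0, 3, 2],
  [0, 3, 0, 3, 0, 3],
  [4, 0, 4, 2, 4, 2, 4],
  [4, 0, 2, 3, 0, 4, 1],
  [4, 0, 2, 0, 2],
  [1, 0, 4, 0, 4, 2],
  [1, 0, 4, 0, 4],
  [0, 2, 4, 1, 4, 1, 0],
  [3, 2, 3, 2, 4, 0, 3],
  [0, 2, 4, 1, 0, 2, 0, 4],
  [4, 0, 2, 0, 1, 4, 0],
  [1, 4, 1, 0, 2, 3, 0],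
  [1, 4, 1, 4, 1, 4, 2],
  [0, 4, 2, 4, 1, 3, 0],
  [0, 4, 2, 4, 1, 3, 3],
  [4, 0, 1, 3, 0, 4],
  [1, 4, 1, 0, 3, 0],
  [1, 4, 0, 1, 0, 3, 2],
  [1, 0, 3, 2, 0, 2, 0, 1],
  [0, 2, 3, 3, 1, 3, 3, 2],
  [4, 1, 0, 3, 3],
  [3, 2, 0, 2, 3, 1],
  [1, 0, 3, 0, 1, 0, 2],
  [1, 0, 3, 0, 1, 0],
  [0, 2, 4, 0, 2, 4, 2],
  [0, 2, 4, 0, 2, 4],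
  [0, 4, 1, 0, 4, 1],
  [0, 1, 0, 4, 2, 4, 2, 3],
  [1, 0, 3, 1, 3, 1, 3],
  [0, 1, 0, 4, 0, 4],
  [0, 1, 0, 4, 0, 4, 1],
  [3, 0, 3, 0, 4, 2],
  [1, 3, 3, 0, 1],
  [0, 3, 0, 1, 0, 1, 3],
  [0, 3, 3, 2, 4, 0, 3],
  [1, 0, 3, 3, 2, 3, 0],
  [1, 0, 3, 3, 2, 3, 0, 1],
  [3, 2, 0, 2, 0, 1, 4, 1],
  [1, 0, 4, 1, 0, 4, 1],
  [1, 0, 3, 3, 1, 3, 0],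
  [1, 0, 3, 1, 3, 3, 0, 3],
  [3, 3, 2, 0, 1, 0, 4, 0],
  [1, 3, 0, 3, 1, 3, 1, 4],
  [1, 3, 3, 1, 0, 2, 3],
  [1, 0, 3, 2, 0, 3, 0, 4],
  [1, 0, 3, 3, 2, 3, 2],
  [1, 0, 3, 3, 2, 3],
  [0, 1, 0, 2, 3, 2],
  [3, 1, 4, 1, 4, 0, 4],
  [0, 1, 0, 1, 0, 4, 0],
  [0, 3, 3, 2, 4, 0],
  [0, 3, 3, 2, 4, 0, 2, 3],
  [3, 3, 2, 3, 0, 4, 2],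
  [3, 2, 3, 1, 0, 1],
  [1, 3, 3, 0, 4, 1, 3],
  [3, 1, 3, 1, 0, 2, 0],
  [0, 4, 0, 4, 0, 3, 3],
  [0, 3, 0, 3, 0, 4, 2, 3],
  [3, 3, 2, 3, 3, 2, 3],
  [2, 3, 0, 1, 0, 1, 0],
  [0, 3, 1, 4, 0, 3, 1],
  [2, 0, 3, 1, 0, 4],
  [1, 3, 1, 0, 3, 3],
  [3, 0, 4, 0, 1, 4, 0],
  [3, 2, 4, 0, 1, 3],
  [0, 1, 0, 3, 1, 0, 2],
  [0, 3, 3, 0, 3, 3],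
  [4, 0, 1, 3],
  [4, 0, 1, 3, 1],
  [0, 3, 2, 0, 1, 4],
  [0, 3, 2, 0, 1, 0],
  [0, 3, 2, 0, 2],
  [0, 4, 1, 0, 2, 0],
  [0, 4, 1, 0],
  [0, 4, 1, 0, 1],
  [0, 4, 1, 0, 2, 3],
  [0, 2, 3, 1, 0, 2, 0],
  [0, 2, 3, 1, 0, 1],
  [0, 3, 0, 2, 3, 2, 0],
  [0, 3, 0, 2, 3, 2, 0, 1],
  [1, 0, 1, 4, 2, 3, 2],
  [3, 0, 4, 0, 1, 0, 3],
  [3, 1, 3, 0, 2, 4, 1],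
  [3, 0, 3, 3, 2, 3, 0, 4],
  [0, 3, 3, 1, 0, 1, 0],
  [1, 4, 0, 1, 0, 3],
  [2, 3, 1, 0, 3, 3],
  [3, 3, 1, 3, 1, 0, 3],
  [0, 3, 1, 3, 0, 3],
  [0, 3, 1, 3, 0, 3, 1],
  [3, 3, 0, 1, 3],
  [3, 0, 1, 4, 2],
  [3, 0, 1, 4, 2, 0, 1],
  [3, 0, 1, 4, 2, 0, 2],
  [0, 3, 1, 3, 2, 0, 2],
  [2, 0, 1, 4, 1, 4],
  [4, 1, 3, 2, 3, 2, 3],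
  [3, 1, 3, 3, 2, 3, 0],
  [3, 0, 3, 1, 4, 2],
  [3, 3, 2, 0, 2, 4],
  [0, 1, 0, 3, 1, 4, 2],
  [4, 2, 0, 3, 2, 3, 3],
  [1, 0, 2, 3, 1, 3, 3],
  [2, 3, 0, 2, 0, 1, 3, 0],
  [1, 0, 2, 3, 1, 3, 3, 1, 4],
  [0, 2, 3, 2, 4, 0, 3, 0],
  [0, 2, 3, 2, 4, 0, 3, 3],
  [2, 0, 3, 0, 1, 4, 2],
  [2, 3, 2, 0, 2, 4, 0],
  [1, 0, 2, 3, 3, 0, 2, 3],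
  [3, 2, 0, 4, 1, 4],
  [0, 4, 0, 3, 1, 0],
  [3, 2, 0, 2, 0, 3],
  [0, 2, 3, 3, 2, 4, 1, 4],
  [4, 2, 3, 2, 4, 1, 0],
  [4, 1, 0, 2, 0, 3, 1],
  [2, 3, 1, 3, 1, 4, 1],
  [1, 0, 2, 0, 3, 0, 4],
  [0, 1, 4, 0, 2, 4, 2],
  [2, 3, 1, 3, 1, 0, 3],
  [4, 0, 2, 4, 0, 4, 2],
  [2, 0, 4, 1, 0, 4, 0],
  [0, 2, 3, 2, 0, 3, 0, 1],
  [0, 2, 0, 2, 3, 1, 3, 3, 0],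
  [2, 3, 2, 0, 4, 2, 0],
  [1, 0, 3, 1, 3, 3, 1, 3],
  [2, 0, 1, 4, 1, 3, 3],
  [0, 1, 0, 4, 1, 4, 1],
  [0, 4, 0, 3, 3, 0, 1],
  [2, 3, 1, 3, 2, 3],
  [3, 1, 0, 1, 4],
  [3, 1, 0, 1, 4, 1],
  [2, 0, 2, 0, 3, 2, 3],
  [1, 0, 3, 2, 4, 1, 0, 2],
  [0, 4, 0, 3, 0, 2, 4],
  [0, 2, 0, 1, 3, 1, 0],
  [2, 3, 0, 3, 2, 3, 3, 1],
  [0, 2, 0, 3, 0, 2, 4, 0],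
  [0, 2, 0, 3, 0, 2],
  [3, 3, 2, 0, 1, 0, 4],
  [1, 4, 2, 0, 1, 0, 2],
  [3, 3, 2, 0, 2, 0],
  [3, 3, 0, 4, 0, 3, 3, 1],
  [1, 3, 3, 1, 4, 1, 4, 0],
  [0, 3, 1, 0, 1, 0, 4, 0, 2],
  [0, 3, 1, 3, 2, 3, 2, 0],
  [4, 0, 1, 4, 1, 3, 2],
  [0, 3, 1, 4, 2, 3, 3, 1],
  [2, 3, 1, 0, 3, 0, 3],
  [4, 1, 4, 2, 0, 3, 2],
  [0, 4, 2, 0, 2, 4, 0],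
  [0, 3, 0, 4, 0, 4, 0],
  [0, 3, 0, 4, 0],
  [0, 3, 0, 4, 0, 3, 3],
  [1, 4, 0, 2],
  [1, 4, 0, 1, 3, 3],
  [1, 4, 0, 2, 0, 2],
  [0, 4, 2, 4, 0, 4, 2],
  [0, 2, 4, 1, 4, 1, 4, 2],
  [1, 4, 0, 2, 0, 3, 1, 4],
  [1, 4, 1, 4, 2, 0, 2],
  [3, 3, 2, 3, 3, 1],
  [2, 3, 2, 4, 0, 1, 3],
  [2, 3, 2, 0, 2, 0, 3],
  [2, 3, 2, 4, 0, 3, 1],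
  [2, 3, 2, 4, 0, 3, 2],
  [2, 3, 2, 4, 0, 3, 3],
  [0, 4, 2, 0, 4, 1],
  [2, 0, 2, 3, 0, 1, 0],
  [2, 3, 2, 4, 1, 3, 3],
  [2, 3, 2, 4, 1, 4, 0],
  [0, 1, 0, 3, 1, 3],
  [2, 3, 2, 4, 2, 0, 1],
  [2, 3, 2, 4, 2, 0, 2],
  [1, 4, 1, 4, 1, 4],
  [1, 4, 1, 4, 1, 3],
  [2, 3, 0, 4, 1, 3, 1],
  [0, 2, 0, 1, 3, 3, 0],
  [2, 3, 2, 4, 2, 3, 2],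
  [2, 3, 2, 4, 2, 3, 3],
  [2, 3, 2, 4, 2, 4, 0],
  [2, 0, 1, 4, 0, 3, 2],
  [1, 4, 1, 4, 1, 4, 0],
  [0, 4, 0, 1, 0, 2, 3],
  [0, 2, 3, 3, 2, 4, 0],
  [2, 3, 2, 0, 2, 0, 1],
  [0, 2, 0, 3, 2, 3, 3],
  [1, 4, 2, 0, 4, 1, 3],
  [2, 3, 2, 0, 2, 3, 1],
  [2, 3, 2, 0, 2, 3, 2],
  [2, 3, 2, 0, 2, 4, 1],
  [2, 0, 2, 3, 0, 1, 4],
  [1, 3, 1, 4, 0, 4],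
  [1, 3, 1, 4, 0, 4, 1],
  [0, 2, 0, 1, 0, 1, 0],
  [2, 3, 2, 0, 3, 1, 0],
  [1, 3, 1, 3, 0, 2],
  [3, 0, 4, 2, 3, 1],
  [1, 3, 0, 3, 1, 3, 3],
  [2, 3, 0, 4, 2, 0],
  [0, 2, 3, 1, 0, 3, 1],
  [1, 3, 2, 3],
  [1, 3, 2, 3, 0, 1],
  [1, 3, 2, 3, 0, 2],
  [2, 3, 2, 0, 4, 0, 1],
  [2, 3, 2, 0, 4, 0, 2],
  [4, 0, 3, 1, 3, 0],
  [2, 3, 2, 0, 4, 0, 4],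
  [1, 0, 1, 0, 4, 0, 4],
  [2, 0, 2, 3, 3, 1, 4],
  [2, 0, 2, 3, 3, 1, 3],
  [1, 0, 4, 1, 4, 2],
  [2, 3, 2, 0, 4, 2, 4],
  [2, 3, 0, 3, 0],
  [2, 3, 0, 3, 2],
  [1, 3, 3, 2],
  [2, 3, 0, 4, 0],
  [2, 3, 0, 4, 1],
  [2, 3, 0, 4, 2],
  [2, 0, 1],
  [2, 0, 2],
  [2, 0, 3],
  [2, 0, 4],
  [3],
  [1, 0],
  [1, 3],
  [1, 4],
  [2, 3, 1, 0, 1, 3],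
  [2, 3, 1, 0, 1, 4],
  [2, 3, 1, 0, 4, 0],
  [1, 3, 0, 2, 4, 1],
  [2, 3, 1, 3, 0, 1],
  [2, 3, 1, 3, 0, 3],
  [2, 3, 1, 3, 1, 0],
  [2, 3, 1, 3, 1, 4],
  [2, 3, 1, 3, 2, 0],
  [2, 3, 1, 3, 3, 0],
  [2, 3, 1, 4, 0, 1],
  [0, 4, 1, 4, 0, 3],
  [2, 3, 1, 4, 0, 4],
  [2, 3, 1, 4, 1, 0],
  [2, 3, 1, 4, 2, 0],
  [2, 3, 1, 4, 2, 3],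
  [2, 3, 1, 4, 2, 4],
  [1, 0, 1, 0, 2, 3, 3, 2],
  [3, 1, 3, 1, 0, 2, 0, 2],
  [1, 3, 1, 4, 1, 4, 1],
  [0, 2, 4, 0, 2, 3, 3],
  [2, 0, 4, 2, 3, 3],
  [1, 3, 3, 2, 0, 4, 2],
  [0, 1, 0, 3, 3, 1, 3, 2],
  [1, 3, 0, 2, 3, 2, 4],
  [4, 0, 3, 0, 3, 0, 4],
  [0, 1, 0, 4, 2, 3, 3, 2],
  [0, 1, 0, 4, 2, 3, 3],
  [1, 0, 1, 0, 3, 2, 3, 2],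
  [1, 3, 2, 0, 3, 0, 4],
  [1, 0, 2, 0, 4, 0, 1, 4],
  [0, 2, 4, 1, 3, 0, 2, 3],
  [0, 3, 2, 3, 0, 1, 4, 2],
  [0, 3, 2, 3, 0, 1],
  [0, 3, 2, 3, 0, 1, 3, 3],
  [4, 0, 2, 0, 3, 2, 4, 2],
  [3, 1, 3, 0, 2, 0, 2],
  [3, 2, 0, 4, 0, 4, 1],
  [0, 1, 0, 1, 0, 4, 2, 4],
  [1, 4, 1, 3, 0, 1],
  [1, 4, 2, 3, 3],
  [1, 4, 2, 3, 3, 1],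
  [1, 4, 2, 3, 3, 2, 3],
  [3, 2, 0, 3, 3, 2],
  [0, 1, 0, 1, 3, 3, 0],
  [0, 4, 0, 2, 3, 3, 0, 2],
  [0, 2, 3, 3, 1, 3, 3],
  [3, 3, 1, 4, 1, 3, 0, 2],
  [1, 4, 0, 4, 2, 3, 1, 0],
  [4, 1, 0, 4, 2, 0],
  [3, 1, 3, 0, 2, 4],
  [4, 1, 0, 4, 0],
  [3, 3, 2, 3, 0],
  [0, 3, 1, 3, 2, 4, 2],
  [2, 0, 3, 3, 0, 1],
  [0, 4, 1, 4, 0, 4, 0, 3],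
  [0, 3, 0, 2, 0, 1, 3, 3],
  [0, 4, 0, 1, 4, 2, 0, 2],
  [1, 0, 2, 3, 3, 0, 1],
  [1, 0, 1, 4, 2, 0, 3],
  [0, 2, 4, 2, 0, 1, 0],
  [0, 3, 1, 4, 2, 0],
  [4, 0, 1, 4, 1, 0, 1],
  [3, 0, 4, 2, 0, 2, 0],
  [0, 3, 3, 0, 1, 4],
  [0, 3, 3, 0, 1, 4, 1],
  [4, 0, 2, 3, 3, 1],
  [3, 0, 1, 4, 1, 3, 2],
  [1, 3, 1, 3, 1, 3, 3],
  [2, 3, 1, 0, 2, 3, 0],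
  [0, 2, 4, 0, 1, 4, 0],
  [1, 0, 3, 1, 3, 3, 2],
  [1, 4, 2, 0, 4, 2],
  [1, 4, 2, 0, 4, 2, 0, 3],
  [1, 3, 0, 3, 1, 4, 0, 1],
  [0, 1, 0, 3, 3, 1, 4],
  [1, 0, 2, 4, 1, 0, 2, 0],
  [2, 3, 1, 4, 0, 4, 0, 1],
  [4, 1, 3, 3, 0, 4, 2, 0],
  [4, 0, 3, 2, 0, 2, 4],
  [1, 3, 1, 0, 1, 3, 2, 4],
  [3, 3, 1, 3, 2, 4, 1],
  [0, 4, 0, 3, 2, 0, 2],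
  [2, 0, 2, 3, 2, 0, 2],
  [2, 0, 2, 3, 2, 0],
  [0, 2, 4, 1, 4],
  [0, 2, 4, 1, 4, 0, 1],
  [3, 2, 4, 0, 2, 0],
  [4, 0, 4, 0, 2, 4, 0],
  [0, 3, 1, 3, 2, 0, 3, 2],
  [0, 3, 1, 3, 2, 0],
  [1, 3, 0, 2, 3],
  [1, 3, 0, 2, 3, 0, 3],
  [1, 4, 2, 3, 1],
  [1, 4, 2, 3, 1, 0, 1],
  [1, 4, 2, 3, 1, 0, 2],
  [2, 0, 1, 4, 1],
  [2, 0, 1, 3, 3],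
  [2, 0, 1, 4, 0, 3, 0],
  [1, 0, 3, 0, 1, 4],
  [1, 0, 3, 0, 2],
  [1, 0, 3, 0],
  [1, 0, 3, 2, 0, 2],
  [1, 0, 3, 2, 0],
  [1, 0, 3, 2, 0, 1, 3],
  [1, 0, 2, 3, 1, 0],
  [0, 2, 3, 0, 3, 0, 3, 2],
  [2, 3, 0, 2, 0, 4, 1],
  [0, 3, 3, 2, 4, 1, 3, 3],
  [2, 0, 2, 3, 2, 3, 3],
  [0, 1, 0, 3, 1, 4, 0],
  [1, 0, 4, 2, 0, 4, 2, 3],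
  [3, 2, 0, 3, 1],
  [3, 0, 4, 1, 4, 2, 0],
  [0, 4, 0, 2, 0, 3, 3],
  [3, 3, 0, 1, 0, 2, 0],
  [1, 0, 1, 3, 0, 1, 3],
  [0, 3, 3, 0, 4, 0],
  [3, 2, 3, 0, 2, 0, 1],
  [4, 0, 3, 0, 4, 2],
  [0, 3, 1, 4, 1, 4, 2, 3],
  [1, 0, 1, 4, 2, 0, 3, 3],
  [3, 3, 0, 3, 1, 0, 4],
  [3, 3, 0, 2, 3, 0, 2],
  [3, 0, 3, 0, 1, 4, 1, 0],
  [4, 1, 0, 3, 0, 4, 2],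
  [4, 2, 0, 1, 3, 0],
  [2, 0, 1, 0, 3, 0, 1, 4],
  [1, 3, 1, 4, 0, 3, 3],
  [2, 0, 1, 0, 3, 0, 2],
  [2, 0, 1, 0, 3, 0],
  [1, 3, 0, 4, 0, 4, 1, 3],
  [0, 1, 0, 2, 3, 3, 1, 4],
  [1, 4, 1, 4, 0, 1],
  [3, 0, 3, 2, 0, 1],
  [3, 1, 4, 2, 4, 0],
  [0, 1, 0, 1, 4, 1, 3],
  [0, 4, 1, 0, 2, 0, 2],
  [1, 3, 0, 2, 3, 2, 0],
  [1, 3, 0, 2, 3, 2, 0, 1],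
  [2, 0, 1, 4, 1, 0, 3],
  [2, 0, 1, 4, 1, 0, 4],
  [0, 1, 0, 4, 2, 3, 2],
  [1, 3, 0, 2, 0, 4, 0],
  [3, 0, 1, 0, 3, 0],
  [0, 3, 3, 0, 1, 0, 2],
  [3, 1, 4, 2, 0],
  [3, 1, 4, 2, 0, 1],
  [1, 0, 4, 2, 3, 2, 4],
  [0, 1, 0, 3, 1, 0, 3],
  [1, 0, 4, 2, 3],
  [1, 0, 4, 2, 3, 1],
  [2, 0, 1, 3],
  [2, 0, 1, 3, 1],
  [2, 0, 1, 3, 2, 3],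
  [2, 0, 1, 3, 2, 4],
  [1, 3, 2, 4, 0, 3, 2],
  [3, 2, 0, 2, 0, 1, 3],
  [1, 3, 2, 4, 1, 4, 0],
  [1, 0, 3, 1, 3, 1, 3, 3],
  [4, 2, 3, 2, 4, 1],
  [4, 2, 3, 2, 4, 2],
  [4, 2, 3, 2],
  [4, 2, 3, 2, 3, 3],
  [2, 3, 1, 0, 1, 0, 1],
  [0, 2, 4, 0, 1, 3, 0],
  [1, 3, 2, 4, 0],
  [0, 1, 0, 3, 2, 3, 0, 4],
  [0, 1, 0, 4, 2, 4, 1, 4],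
  [0, 2, 4, 2, 0, 4, 0],
  [2, 0, 1, 3, 2, 4, 0, 2],
  [0, 2, 0, 1, 0, 4, 1, 4],
  [0, 2, 3, 3, 1, 4, 2, 4],
  [0, 2, 3, 3, 1, 4, 2],
  [0, 2, 3, 3, 1, 4],
  [4, 0, 1, 0, 2, 4],
  [4, 0, 1, 0, 2, 3],
  [3, 1, 3, 3, 0, 3, 3],
  [3, 0, 3, 0, 4, 2, 3],
  [1, 0, 2, 3, 3, 0, 4, 0],
  [1, 0, 2, 3, 3, 0],
  [1, 0, 1, 0, 2, 3, 2],
  [2, 0, 4, 2, 3],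
  [2, 0, 4, 2, 3, 1],
  [1, 3, 2, 0, 3, 0],
  [1, 3, 2, 0, 3, 0, 1],
  [3, 2, 0, 3, 2, 4, 1],
  [0, 4, 2, 0, 1, 3, 0, 3],
  [0, 3, 0, 3, 0, 4, 1],
  [3, 0, 3, 3, 1, 0],
  [0, 2, 0, 1, 0, 3, 2],
  [0, 4, 0, 3, 2, 0, 3],
  [3, 3, 2, 3, 0, 3, 1],
  [3, 3, 2, 0, 4, 2, 3, 2],
  [2, 0, 4, 1, 4, 1, 0, 2],
  [1, 0, 1, 3, 3, 0, 4],
  [0, 3, 2, 4, 1, 3, 0, 2],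
  [0, 4, 2, 0, 2, 3, 2],
  [0, 4, 2, 0, 2, 3],
  [4, 2, 3, 3, 0, 3, 1],
  [4, 2, 4, 1, 4, 0, 4],
  [1, 3, 0, 3, 2, 0, 3],
  [3, 2, 3, 1, 3, 3],
  [0, 4, 0, 1, 0, 2, 0],
  [0, 2, 3, 2, 0, 3, 0, 2],
  [0, 3, 0, 3, 2, 0],
  [1, 0, 3, 1, 4, 1],
  [2, 0, 1, 3, 1, 3],
  [2, 0, 1, 3, 1, 3, 1],
  [1, 0, 3, 3, 2, 0],
  [1, 3, 0, 3, 3, 2],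
  [1, 3, 0, 4],
  [1, 3, 0, 3],
  [1, 3, 0, 3, 0, 4],
  [1, 3, 3, 2, 0, 4],
  [0, 4, 2, 4, 2, 4, 0, 1],
  [0, 2, 0, 3, 1, 0, 3],
  [0, 2, 0, 3, 1, 0, 3, 1],
  [4, 2, 4, 1, 4, 0],
  [3, 1, 0, 2, 3, 3],
  [3, 1, 0, 3, 1, 4],
  [3, 1, 0, 3, 1, 3],
  [1, 3, 0, 4, 0, 2],
  [0, 3, 0, 1, 0, 2, 4, 1],
  [4, 2, 4, 0, 2, 4],
  [4, 2, 4, 0, 2, 3],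
  [3, 1, 3, 3, 1, 4, 1],
  [0, 3, 2, 0, 3, 0],
  [0, 1, 0, 4, 2],
  [0, 1, 4, 0, 4, 0],
  [2, 0, 2, 0, 2, 3],
  [4, 0, 4, 0, 1, 0, 1],
  [4, 1, 3, 3, 1, 3, 0],
  [0, 3, 2, 0, 4, 2, 4, 0],
  [1, 3, 1, 0, 2, 0],
  [1, 3, 1, 0, 2, 0, 1],
  [0, 4, 0, 1, 4, 0, 4],
  [3, 2, 3, 0, 4, 1, 4, 1],
  [3, 2, 3, 1, 0, 3, 3, 0],
  [1, 0, 4, 2, 3, 1, 4],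
  [0, 2, 4, 2, 3, 2, 4],
  [0, 2, 4, 2, 3, 2, 4, 1],
  [0, 1, 0, 3, 2, 4],
  [1, 0, 2, 3, 2, 3],
  [3, 2, 3, 0, 2],
  [3, 2, 3, 0],
  [3, 2, 3, 0, 1, 3],
  [3, 2, 3, 0, 1, 4],
  [3, 0, 3, 3, 1, 4, 0],
  [3, 1, 0, 2, 4, 2],
  [4, 1, 3, 3, 1, 0, 1],
  [4, 0, 3, 1, 4, 2, 3],
  [3, 1, 0, 1, 0, 3, 3, 0],
  [1, 3, 2, 0, 1, 4, 0, 3],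
  [1, 0, 2, 3, 0, 3, 0, 3],
  [2, 0, 3, 2, 4, 2, 4, 0],
  [0, 2, 0, 4, 1, 0, 3],
  [0, 2, 0, 4, 1, 0, 4],
  [1, 0, 2, 3, 3, 0, 3, 2],
  [0, 1, 0, 2, 0, 3, 1],
  [1, 0, 2, 4, 1, 0, 3, 3],
  [3, 3, 1, 3, 3],
  [1, 4, 1, 4, 2, 4],
  [1, 4, 0, 2, 4, 1, 4],
  [3, 1, 3, 3, 0, 2],
  [4, 2, 4, 0, 2, 3, 2],
  [4, 0, 1, 3, 0, 2],
  [0, 2, 3, 3, 1, 0, 2],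
  [0, 2, 3, 3, 0, 3, 0],
  [3, 3, 2, 3, 3, 2],
  [1, 0, 3, 1, 4],
  [0, 2, 4, 0, 4, 0, 4],
  [0, 2, 4, 0, 4, 0, 1],
  [0, 2, 4, 0, 4, 0, 2],
  [2, 0, 1, 4, 2, 3],
  [2, 0, 1, 4, 2, 4],
  [1, 0, 4, 1, 3, 3, 2, 3],
  [1, 0, 4, 1, 4],
  [1, 0, 4, 1, 3],
  [0, 2, 0, 2, 3, 0, 4],
  [3, 0, 2, 0, 3, 0],
  [0, 4, 0, 4],
  [0, 4, 0, 4, 0, 4],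
  [0, 3, 3, 0, 4, 0, 4],
  [1, 0, 1, 3, 1, 4],
  [0, 3, 1, 4, 0, 4, 1, 0],
  [1, 0, 4, 1, 0, 4],
  [1, 3, 0, 3, 2, 0, 2],
  [1, 3, 0, 3, 2, 0],
  [0, 2, 0, 1, 4, 2, 0],
  [1, 4, 1, 3, 0, 2, 3, 0],
  [0, 2, 3, 3, 1, 0, 1],
  [0, 2, 3, 3, 2, 0, 4],
  [2, 0, 3, 0, 3, 3, 1],
  [3, 3, 0, 1, 0, 3, 1, 0],
  [0, 2, 3, 2, 4, 2, 4, 1],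
  [0, 2, 3, 2, 4, 2, 4, 2],
  [0, 2, 3, 0, 3, 1, 3, 1],
  [0, 2, 3, 2, 4, 2, 3, 1],
  [3, 2, 0, 4, 1, 0, 3],
  [0, 2, 3, 1, 4, 0, 3, 3],
  [3, 1, 3, 2, 3, 2, 3, 2],
  [0, 3, 1, 4, 1, 4, 0],
  [3, 1, 3, 2, 3, 2],
  [1, 0, 2, 3, 3, 2, 4],
  [3, 1, 3, 2, 3, 1],
  [1, 0, 2, 0, 4, 2],
  [0, 2, 4, 1, 0, 2],
  [4, 0, 4, 2, 0, 3],
  [0, 1, 0, 3, 1, 4, 1],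
  [0, 3, 1, 3, 3, 0, 3],
  [0, 2, 3, 1, 4, 1],
  [0, 2, 0, 4, 1, 4, 0],
  [2, 3, 0, 4, 1, 3, 3],
  [4, 1, 0, 2, 0],
  [4, 0, 4, 2, 3, 1, 3],
  [3, 2, 0, 4, 1, 0, 4],
  [0, 2, 4, 1, 3, 3, 2],
  [0, 2, 4, 1, 3, 3],
  [0, 3, 1, 3, 2, 4],
  [3, 0, 3, 0, 3, 1],
  [0, 3, 0, 1, 0, 3, 3, 0],
  [3, 2, 4, 1, 3, 2, 4],
  [0, 4, 1, 4, 2, 3],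
  [0, 1, 0, 1, 3],
  [0, 1, 0, 1, 3, 1],
  [0, 1, 0, 1, 3, 2, 3],
  [3, 3, 1, 4, 0],
  [3, 3, 0, 2, 0, 3],
  [0, 1, 4, 0, 3, 3, 0, 3],
  [1, 4, 0, 4, 2],
  [1, 4, 0, 1, 0],
  [4, 2, 4, 1, 0, 2, 3],
  [0, 4, 1, 0, 3, 3, 2],
  [0, 4, 1, 0, 3, 3],
  [3, 2, 0, 4, 0, 4, 2],
  [4, 1, 3, 2, 0, 1, 0],
  [4, 1, 3, 2, 0],
  [2, 0, 4, 0, 1, 0, 1],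
  [2, 0, 4, 0, 1, 0, 3],
  [0, 4, 0, 2, 4, 2],
  [2, 0, 4, 0, 2, 0],
  [2, 0, 4, 0, 2, 3],
  [2, 0, 4, 0, 2, 4],
  [0, 4, 0, 3, 0],
  [0, 3, 3, 1],
  [0, 2, 4, 2, 3, 1],
  [0, 3, 1, 0, 2, 3, 3, 2],
  [0, 4, 0, 3, 3, 1, 3],
  [1, 4, 0, 2, 3],
  [1, 4, 0, 2, 3, 1],
  [3, 2, 0, 3, 3, 1],
  [0, 4, 0, 3, 2, 4, 2],
  [1, 0, 2, 0, 3, 3],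
  [0, 2, 0, 4, 0, 2, 4],
  [2, 0, 3, 3, 0, 1, 0],
  [4, 0, 3, 3, 1, 0],
  [1, 3, 2, 4, 1, 3, 3],
  [2, 0, 3, 0, 2, 0, 3],
  [4, 1, 0, 3, 3, 2],
  [3, 1, 4, 0, 4, 1, 0],
  [4, 2, 0, 4, 1, 3],
  [1, 3, 0, 3, 0, 1, 3],
  [3, 2, 0, 3, 0, 1, 0],
  [1, 0, 3, 2, 4, 1],
  [4, 1, 3, 2, 3, 0, 2],
  [0, 1, 4, 2, 4, 0, 4, 2],
  [4, 1, 3, 0, 4, 1, 0],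
  [1, 3, 0, 4, 2, 0, 4],
  [1, 3, 0, 4, 2, 0, 3],
  [4, 1, 3, 0, 4, 2, 3],
  [0, 4, 0, 2, 0, 4, 0],
  [4, 1, 3, 0, 2],
  [0, 3, 1, 4, 0, 3, 2],
  [0, 3, 1, 4, 0, 3, 3],
  [2, 0, 3, 1, 3, 1],
  [1, 3, 3, 1, 3, 2, 4],
  [0, 2, 3, 2, 0, 2],
  [1, 3, 3, 1, 3],
  [1, 3, 3, 1, 3, 1],
  [0, 4, 2, 3, 0, 4, 0],
  [1, 0, 3, 1, 3, 3, 0],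
  [4, 0, 3, 3, 0, 4, 2],
  [3, 3, 0, 1, 0, 4],
  [3, 1, 3, 0, 3, 0, 1],
  [0, 4, 0, 3, 2, 0],
  [3, 0, 3, 2, 0, 3, 2],
  [3, 0, 3, 2, 3, 0, 4],
  [2, 0, 1, 0, 2, 3],
  [2, 0, 1, 0, 2, 3, 1],
  [1, 0, 2, 3, 1, 3, 2],
  [1, 0, 3, 3, 2, 4],
  [1, 4, 1, 4, 0, 3, 3, 1],
  [1, 0, 2, 3, 2, 0, 1],
  [4, 0, 4, 0, 2, 3, 3, 1],
  [1, 3, 3, 0, 3, 0, 3],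
  [1, 3, 2, 0, 1, 4],
  [4, 0, 3, 1, 4, 1, 4],
  [1, 3, 1, 0, 3, 0, 2],
  [1, 3, 1, 0, 3, 0],
  [1, 4, 1, 3, 0, 4, 0, 2],
  [0, 4, 0, 3, 0, 2, 0, 4],
  [2, 3, 1, 3, 3, 0, 2, 4],
  [3, 1, 3, 1, 3, 0, 4],
  [3, 0, 2, 4, 1, 0],
  [1, 3, 1, 0, 4],
  [3, 0, 2, 4, 1, 3],
  [3, 0, 2, 4, 1, 3, 3, 1],
  [4, 1, 3, 0, 2, 3, 3],
  [3, 1, 3, 0, 2, 3, 1],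
  [3, 0, 3, 3, 0, 2, 0],
  [3, 1, 3, 0, 2],
  [0, 3, 0, 4, 2, 0, 3],
  [2, 0, 3, 1, 0, 3, 0],
  [3, 2, 4, 1, 0, 1],
  [0, 2, 4, 2, 4, 1, 3, 3],
  [1, 0, 4, 2, 4, 2, 4, 0],
  [2, 0, 2, 0, 4, 2, 4],
  [1, 4, 2],
  [1, 4, 2, 0, 3],
  [1, 4, 2, 0, 4],
  [1, 0, 1, 0, 3, 3, 0],
  [4, 1, 3, 2, 3, 0],
  [0, 1, 4, 0, 3, 3, 1, 0],
  [0, 1, 4, 0, 3, 3, 2],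
  [0, 1, 4, 0, 3, 3],
  [2, 0, 2, 3, 1, 4],
  [2, 0, 2, 3, 2],
  [2, 0, 2, 3],
  [1, 3, 0, 4, 2, 4, 1, 4],
  [2, 3, 0, 3, 1, 4, 0, 4],
  [1, 4, 1, 0, 1, 3, 0],
  [1, 3, 2, 4, 0, 3, 1],
  [0, 3, 0, 4, 0, 3, 3, 0],
  [0, 2, 4, 1, 4, 0, 1, 0],
  [1, 4, 2, 4, 2, 0, 3],
  [3, 1, 0, 1, 3, 3, 0],
  [0, 3, 1, 3, 3, 1, 0, 2],
  [2, 0, 4, 2, 3, 0, 4, 0],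
  [0, 2, 4, 2, 0, 3, 3, 1],
  [0, 2, 0, 3, 2, 4, 1, 0],
  [3, 3, 0, 1, 0, 1, 0],
  [2, 0, 3, 3, 2, 0, 1],
  [2, 0, 3, 3, 2, 0, 2],
  [2, 0, 3, 3, 2, 0, 3],
  [2, 0, 3, 3, 2, 0, 4],
  [2, 0, 3, 3, 1, 0],
  [2, 0, 3, 3, 1, 3],
  [1, 0, 2, 3, 3, 0, 2],
  [2, 0, 3, 3, 2, 3, 1],
  [2, 0, 3, 1, 3, 1, 3],
  [2, 0, 3, 1, 3, 1, 3, 1],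
  [4, 2, 3, 0, 1, 0, 2],
  [0, 1, 0, 4, 1, 3, 3, 2],
  [0, 3, 0, 2, 0, 1],
  [3, 3, 2, 3, 0, 3, 2],
  [3, 1, 4, 1, 0, 4],
  [3, 1, 4, 1, 0, 4, 1],
  [1, 3, 1, 0, 1, 0, 2, 4],
  [1, 4, 0, 1, 0, 2],
  [3, 1, 0, 1, 3, 0],
  [3, 1, 0, 1, 3, 3],
  [3, 1, 0, 1],
  [0, 3, 1, 3, 0, 1],
  [2, 3, 0, 4, 2, 3, 3],
  [1, 3, 0, 4, 1, 4, 0, 1],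
  [0, 2, 3, 3, 0, 1, 4, 1],
  [2, 0, 1, 3, 3, 2, 3],
  [1, 4, 1, 0, 4, 1, 4],
  [4, 2, 0, 3, 1, 0, 4],
  [4, 1, 4, 1, 0, 4, 2],
  [0, 1, 0, 3, 1, 0, 3, 2],
  [0, 2, 0, 1, 0, 3, 0],
  [1, 4, 0, 2, 4, 0, 3, 2],
  [2, 3, 0, 2, 0, 4, 1, 0],
  [1, 3, 3, 1, 4, 0],
  [1, 3, 3, 1],
  [1, 3, 3, 1, 3, 3],
  [1, 0, 2, 3, 3, 1, 4],
  [1, 3, 3, 1, 4, 1, 3],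
  [1, 3, 3, 1, 4, 1, 4],
  [1, 0, 3, 0, 3, 0, 3],
  [1, 4, 0, 4, 0, 4, 1],
  [1, 4, 0, 4, 0, 4, 2],
  [1, 4, 0, 4, 0],
  [1, 4, 0, 4, 0, 3, 0],
  [3, 0, 1, 3, 0, 4],
  [0, 4, 2, 0, 4, 1, 4],
  [0, 3, 2, 4, 0, 4, 2],
  [0, 2, 4, 0, 1, 4, 0, 2],
  [2, 0, 3, 2, 4, 2, 4],
  [2, 0, 3, 2, 4, 2, 3],
  [0, 3, 2, 4, 0, 3],
  [1, 0, 1, 0, 2, 4],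
  [3, 3, 2, 0, 3, 3, 0],
  [0, 3, 3, 1, 0, 1, 3, 0],
  [0, 4, 1, 0, 4, 2, 4, 2],
  [2, 0, 2, 4, 0, 1, 4],
  [2, 0, 2, 4, 0, 1, 3],
  [0, 3, 1, 4, 1, 0, 3, 2],
  [1, 0, 4, 2, 3, 0],
  [1, 0, 4, 2, 4, 2],
  [4, 0, 2, 4, 2],
  [3, 1, 4, 2, 0, 3, 3],
  [0, 2, 0, 3, 0, 4, 1, 3],
  [3, 3, 0, 3, 0, 2, 4],
  [3, 0, 2, 0, 4, 0, 3, 1],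
  [4, 1, 3, 1, 4, 0, 4],
  [4, 1, 3, 1, 4, 0, 3],
  [1, 4, 1, 0, 1, 4, 0],
  [3, 2, 3, 3, 0, 3],
  [1, 4, 1, 0, 1, 4, 2],
  [1, 4, 1, 0, 1],
  [1, 0, 4, 1, 3, 0, 2],
  [1, 0, 4, 1, 3, 0],
  [0, 3, 0, 3, 3],
  [0, 3, 0, 3, 3, 2, 4],
  [1, 3, 1, 3, 1, 3, 1],
  [0, 2, 4, 1, 3, 0, 1],
  [0, 3, 2, 4, 0, 4],
  [1, 0, 3, 2, 3],
  [1, 3, 1, 3, 3, 0],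
  [1, 0, 3, 2, 3, 0, 2],
  [1, 0, 3, 2, 3, 0, 3],
  [3, 3, 0, 1, 4, 0, 2],
  [1, 0, 3, 0, 1, 4, 0, 3],
  [0, 4, 1, 4, 2, 0, 1],
  [4, 0, 4, 0, 3, 2, 3],
  [3, 1, 3, 3, 1, 4],
  [4, 1, 0, 2, 3],
  [3, 2, 0, 4, 0, 2],
  [1, 3, 3, 2, 0, 1, 3],
  [3, 3, 2, 0, 1],
  [3, 0, 3, 0, 1, 4, 2],
  [3, 3, 2, 0, 1, 3, 1],
  [2, 0, 3, 0, 2, 3, 0],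
  [3, 1, 0, 3, 2, 4, 0],
  [2, 3, 0, 1, 3, 0, 2, 0],
  [0, 4, 0, 4, 0, 1, 3, 0],
  [0, 4, 0, 4, 0, 3, 0, 3],
  [1, 4, 1, 0, 2, 3],
  [1, 4, 1, 0, 2, 3, 1],
  [2, 0, 3, 0, 2, 3, 2],
  [2, 0, 3, 0, 2, 3],
  [0, 3, 0, 4, 2, 3, 0, 4],
  [2, 0, 1, 4, 1, 4, 0],
  [1, 0, 2, 4, 1, 0, 4],
  [3, 1, 3, 0, 4, 1],
  [0, 2, 0, 1, 3, 3, 2, 4],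
  [0, 2, 3, 1, 4, 0, 2],
  [4, 1, 0, 1, 0, 1, 3, 1],
  [4, 0, 2, 4, 1, 0, 2],
  [0, 3, 0, 1, 4, 1],
  [1, 3, 0, 4, 1, 4, 0],
  [1, 0, 3, 1, 0, 4, 0],
  [1, 0, 3, 2],
  [1, 0, 3],
  [1, 0, 3, 1, 3],
  [0, 4, 2, 0, 4, 0, 3],
  [1, 0, 3, 1, 0, 1, 3],
  [0, 4, 2, 4, 0, 1],
  [0, 2, 0, 3, 2, 3, 2],
  [1, 0, 3, 1, 0, 2, 3],
  [1, 3, 3, 0, 1, 4],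
  [1, 3, 3, 0, 1, 4, 1],
  [1, 0, 2, 0, 3, 2, 0, 2],
  [0, 4, 0, 4, 1, 3, 2],
  [1, 0, 3, 2, 3, 2, 3],
  [0, 2, 0, 1, 0, 3, 0, 2],
  [3, 2, 0, 2, 4, 1],
  [3, 1, 3, 2, 0, 3, 2],
  [4, 0, 2, 3, 3, 2],
  [4, 0, 2, 4],
  [4, 0, 2, 3],
  [3, 3, 1, 0, 4, 0, 3, 3],
  [4, 0, 2, 3, 3, 0, 1, 3],
  [3, 1, 3, 3, 2, 3, 2],
  [3, 2, 0, 2, 3, 1, 0, 4],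
  [3, 0, 4, 0, 3, 2],
  [0, 4, 2, 3, 3, 2, 3],
  [0, 2, 0, 2, 0, 3, 1],
  [0, 4, 2, 3, 3, 0],
  [0, 4, 2, 4],
  [0, 4, 2, 3, 3, 1, 3, 1],
  [0, 3, 2, 0, 2, 3, 0, 4],
  [0, 3, 2, 0, 2, 3],
  [1, 3, 0, 4, 2, 3, 1],
  [0, 2, 0, 2, 0, 3, 2, 4],
  [0, 3, 2, 4, 1, 0, 2],
  [3, 2, 0, 3, 0, 2, 0, 3],
  [4, 0, 4, 2, 0, 1],
  [1, 0, 2, 4, 2, 3, 2, 0],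
  [0, 3, 0, 4, 2, 4, 0, 4],
  [0, 3, 0, 4, 0, 3],
  [1, 3, 0, 3, 0],
  [1, 3, 0, 3, 0, 1, 4],
  [3, 2, 3, 0, 4, 0],
  [0, 1, 4, 1, 3, 3, 0],
  [0, 3, 0, 1, 0, 2, 0, 3],
  [3, 2, 4, 1, 0, 2],
  [3, 0, 1, 3, 2, 0, 3],
  [3, 0, 1, 3, 2, 0, 3, 1],
  [3, 1, 4, 0, 3, 1],
  [3, 1, 4, 0, 3, 1, 3, 3],
  [2, 3, 0, 1, 3, 0, 1],
  [0, 4, 1, 4, 0, 1],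
  [0, 4, 1, 4, 0, 1, 0, 3],
  [0, 2, 0, 3, 0, 3, 1],
  [2, 3, 2, 0, 2, 4, 1, 0],
  [3, 2, 3, 0, 2, 4, 0],
  [0, 3, 0, 3, 0, 1, 0, 4],
  [1, 4, 2, 0, 1, 0, 3, 3],
  [2, 0, 2, 3, 2, 4, 2],
  [3, 3, 1, 4, 2, 0],
  [3, 3, 1, 4, 2, 0, 1],
  [1, 3, 1, 0, 1, 3, 1, 3],
  [3, 2, 4, 0, 1, 3, 0],
  [0, 2, 0, 2, 3, 1, 4, 1],
  [0, 3, 0, 1, 0, 2, 4, 2],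
  [0, 3, 0, 1, 4, 1, 3, 1],
  [1, 3, 1, 0, 3, 0, 3],
  [0, 4, 2, 0, 3, 2, 0],
  [3, 1, 0, 1, 0, 4, 2],
  [1, 0, 4, 2, 0, 1],
  [3, 0, 3, 1, 4, 2, 0],
  [4, 2, 0, 3, 1, 4, 2],
  [4, 2, 0, 3, 1],
  [4, 0, 2, 4, 0, 2],
  [4, 0, 2, 4, 0],
  [2, 3, 1, 3, 0, 2, 0, 1],
  [1, 3, 3, 1, 4, 0, 2, 0],
  [3, 2, 0, 1, 0, 2, 0],
  [3, 2, 0, 1, 0, 2, 4],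
  [3, 2, 0, 1, 0, 3],
  [3, 2, 0, 1, 0, 4],
  [1, 0, 2, 3, 1, 4, 2],
  [0, 4, 2, 4, 1, 0, 3, 2],
  [1, 0, 4, 1, 4, 1],
  [2, 0, 4, 2, 0, 3, 0],
  [3, 0, 1, 0, 2],
  [2, 0, 2, 0, 3, 2],
  [1, 0, 3, 2, 3, 3, 1],
  [4, 2, 4, 1, 3, 3, 2],
  [2, 0, 2, 3, 2, 3],
  [1, 0, 3, 1, 3, 0, 4],
  [3, 1, 0, 1, 3, 0, 2],
  [0, 2, 4, 1, 3, 1],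
  [0, 3, 1, 3, 0, 4, 1, 0],
  [3, 1, 0, 3, 1, 4, 1],
  [0, 4, 0, 1, 0, 3, 2],
  [0, 4, 0, 1, 0, 3],
  [0, 3, 2, 3, 3, 2, 4, 2],
  [2, 3, 0, 3, 1, 4, 1],
  [0, 2, 4, 0, 1],
  [0, 1, 4, 0, 2, 4],
  [0, 1, 4, 0, 2, 4, 0, 3],
  [3, 1, 4, 2, 3, 0],
  [4, 2, 0, 1, 3, 3],
  [4, 2, 0, 1],
  [0, 2, 0, 2, 0, 1, 0],
  [0, 2, 0, 2, 0, 2],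
  [0, 2, 0, 2, 0],
  [3, 0, 3, 3, 2],
  [3, 0, 3, 3, 2, 3, 0],
  [0, 3, 1, 4, 2, 3],
  [0, 2, 3, 3, 2, 3, 0],
  [1, 3, 1, 4, 1, 4, 0],
  [4, 0, 2, 0, 3, 3, 2],
  [1, 0, 4, 0, 3, 2, 4],
  [2, 0, 3, 0, 4, 2, 0],
  [0, 2, 0, 2, 3, 3, 2],
  [0, 4, 0, 3, 0, 2],
  [4, 2, 0, 3, 0, 2],
  [2, 0, 2, 0, 4, 2],
  [1, 0, 2, 4, 1, 0, 2],
  [0, 2, 0, 4, 0, 2],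
  [1, 0, 2, 4, 1, 0],
  [2, 0, 4, 2, 4],
  [1, 0, 1, 3, 0],
  [1, 0, 1, 3, 0, 2, 3],
  [4, 2, 0, 2, 3, 0],
  [0, 2, 3, 3, 0, 1, 4, 0],
  [1, 4, 2, 3, 1, 3, 1],
  [1, 3, 0, 3, 0, 3],
  [1, 3, 0, 3, 0, 3, 1],
  [1, 4, 0, 2, 3, 3, 2],
  [1, 4, 0, 2, 3, 3],
  [0, 4, 2, 0, 4, 0, 3, 2],
  [1, 4, 0, 4, 0, 4, 1, 3],
  [1, 4, 2, 3, 2, 0],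
  [1, 3, 2, 3, 3, 1, 4],
  [3, 3, 0, 2, 0, 2],
  [2, 3, 1, 0, 3, 3, 2],
  [3, 2, 0, 1, 0, 3, 1],
  [1, 0, 4, 2, 3, 0, 1],
  [1, 0, 3, 2, 0, 2, 0],
  [0, 3, 3, 1, 4, 0],
  [3, 3, 1, 3, 1, 3, 0, 4],
  [1, 4, 1, 4, 1, 4, 1],
  [0, 4, 2, 3, 3, 0, 3],
  [1, 0, 2, 3, 2, 4, 0],
  [1, 0, 2, 3, 2, 4, 0, 1],
  [3, 1, 4, 2, 3, 3],
  [3, 1, 4, 2],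
  [3, 0, 1, 0, 3, 0, 4],
  [3, 0, 4, 0, 2, 4, 1, 0],
  [0, 2, 4, 0, 3, 3, 1, 3],
  [0, 3, 2, 0, 4, 0, 2, 3],
  [0, 3, 0, 3, 1, 3],
  [3, 0, 3, 1, 3, 2, 0],
  [0, 4, 2, 4, 1, 4, 0],
  [0, 3, 0, 4, 1, 4, 0],
  [2, 0, 4, 1, 4, 0],
  [0, 3, 0, 4, 1, 4, 2],
  [1, 3, 2, 0, 3, 2],
  [1, 3, 2, 0, 3],
  [0, 3, 0, 4, 1, 0, 3],
  [0, 3, 0, 4, 1, 0, 4],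
  [0, 3, 0, 4, 2, 0],
  [0, 3, 0, 4, 2, 3],
  [0, 3, 0, 4, 2, 4],
  [0, 4, 2, 0, 1, 4, 2],
  [0, 2, 3, 2, 0, 1, 3],
  [1, 0, 1, 0, 3, 3],
  [0, 3, 2, 4, 2, 0],
  [0, 3, 2, 4, 1],
  [1, 3, 1, 4, 1, 4, 2],
  [0, 1, 0, 3, 2, 3, 1, 4],
  [4, 0, 4, 0, 1, 0],
  [3, 3, 2, 3, 1, 0],
  [3, 3, 2, 3, 2],
  [3, 3, 2, 3],
  [4, 2, 0, 3, 2, 4, 1],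
  [4, 1, 0, 4, 0, 4],
  [0, 2, 0, 2, 0, 3],
  [0, 2, 4, 2, 3, 3, 2, 4],
  [1, 0, 2, 3, 0, 3, 1, 0],
  [2, 0, 2, 3, 3, 0],
  [2, 0, 3, 1, 3, 0],
  [3, 0, 4, 0, 4, 2, 0],
  [4, 2, 4, 0, 4, 0],
  [3, 0, 4, 0],
  [3, 0, 4, 0, 3, 3],
  [1, 4, 1, 3, 3, 2],
  [1, 0, 4, 0, 4, 2, 0, 4],
  [1, 4, 0, 1, 0, 3, 0, 3],
  [0, 1, 0, 2, 0, 4, 0],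
  [4, 0, 1, 3, 3, 2],
  [2, 0, 3, 2, 3, 0, 3, 1],
  [4, 1, 3, 0, 2, 3, 3, 0],
  [0, 1, 4, 1, 4, 2, 0],
  [1, 0, 1, 4, 2, 3],
  [1, 0, 2, 0, 1, 0, 4],
  [0, 3, 0, 2, 0, 1, 0],
  [3, 1, 0, 3, 2],
  [3, 1, 0, 3, 2, 0, 3],
  [2, 0, 1, 3, 3, 0, 1],
  [4, 0, 2, 4, 1, 4, 1],
  [2, 3, 1, 3, 2, 3, 0],
  [4, 0, 2, 4, 1],
  [1, 0, 2, 0, 4],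
  [4, 1, 0, 2, 0, 2, 4],
  [1, 4, 1, 4, 1, 0, 3],
  [1, 3, 1, 3],
  [1, 3, 1, 3, 0, 1],
  [3, 0, 1, 4, 2, 3, 3],
  [1, 3, 1, 3, 0, 3, 0, 2],
  [1, 3, 1, 3, 0, 3, 0, 3],
  [4, 2, 0, 4, 1],
  [0, 4, 0, 3, 3, 1, 3, 1],
  [1, 4, 1, 4, 0, 3, 1, 0],
  [1, 3, 2, 4, 0, 4, 0, 3],
  [0, 2, 0, 4, 1, 4, 0, 4],
  [3, 2, 3, 1, 0, 2, 4],
  [3, 2, 3, 3, 2, 4, 2],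
  [3, 2, 3, 3, 2],
  [0, 2, 3, 2, 0, 3, 3, 2],
  [0, 2, 3, 2, 0, 3, 3],
  [2, 3, 0, 4, 1, 3, 0, 3],
  [2, 0, 1, 0, 3, 0, 3, 2],
  [2, 0, 1, 0, 3, 0, 3],
  [2, 0, 1, 3, 2, 4, 1],
  [1, 0, 4, 2, 4, 1, 0],
  [1, 0, 4, 2, 4, 1, 0, 1],
  [3, 0, 3, 2, 0],
  [3, 0, 3, 2, 0, 3, 3],
  [2, 0, 2, 4, 1, 3, 1],
  [0, 1, 4, 0, 4, 0, 2],
  [1, 0, 3, 1, 3, 2, 0, 4],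
  [3, 2, 3, 0, 2, 0, 4],
  [1, 0, 1, 0, 4, 0],
  [1, 0, 1, 0],
  [4, 0, 4, 2, 0, 1, 4],
  [1, 4, 1, 4, 1, 0, 2],
  [2, 0, 3, 0, 2, 0, 4],
  [1, 0, 3, 1, 3, 1, 4],
  [0, 1, 0, 1, 0, 4, 1, 3],
  [0, 1, 0, 3, 1, 0, 1, 3],
  [4, 1, 3, 1, 4, 2],
  [0, 1, 0, 4, 0, 4, 1, 4],
  [0, 4, 2, 4, 1, 4],
  [0, 3, 3, 0, 4, 2, 4],
  [0, 2, 4, 2, 3, 3],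
  [2, 0, 2, 4, 0, 3, 3],
  [4, 0, 2, 4, 0, 2, 3],
  [1, 3, 2, 4, 0, 1, 3],
  [3, 0, 3, 2, 0, 2, 4],
  [2, 3, 1, 3, 3, 0, 2],
  [0, 1, 0, 3, 2, 3, 2, 3],
  [0, 1, 4, 0, 2, 0, 4, 0],
  [0, 1, 4, 0, 2, 0],
  [0, 1, 4, 0, 2, 0, 3, 3],
  [3, 1, 0, 3, 2, 4],
  [4, 0, 3, 0, 1, 3],
  [0, 4, 0, 1, 0, 2, 4, 1],
  [4, 1, 0, 4, 2, 0, 2],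
  [0, 1, 4, 1, 4, 2, 3, 3],
  [0, 1, 4, 0, 2, 3],
  [0, 3, 2, 4, 0, 1, 4],
  [2, 0, 1, 0, 3, 1, 4],
  [0, 3, 2, 3, 1],
  [3, 0, 2, 0, 3],
  [3, 0, 2, 0, 3, 3, 1],
  [0, 3, 1, 3, 3, 2, 3],
  [2, 0, 4, 2, 0, 4],
  [3, 0, 1, 4, 2, 3, 0],
  [0, 1, 0, 2, 3, 0, 3, 1],
  [3, 2, 4, 0, 2, 3],
  [2, 3, 1, 3, 0, 3, 0],
  [1, 3, 2, 4, 2, 3, 3],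
  [1, 4, 0, 2, 4, 1],
  [1, 3, 0, 4, 0, 3, 2],
  [2, 0, 3, 0, 3, 2],
  [3, 1, 3, 3, 0, 2, 3],
  [4, 0, 3, 0, 3, 0, 1],
  [1, 4, 0, 1, 3, 1, 4, 0],
  [0, 2, 3, 3, 2, 4, 1, 3],
  [3, 0, 3, 2, 3, 0, 1, 4],
  [2, 0, 2, 3, 0, 1, 3, 0],
  [1, 0, 3, 1, 3, 2, 0],
  [4, 2, 0, 3, 0, 4, 0],
  [2, 0, 2, 3, 3, 2, 3],
  [1, 3, 0, 2, 3, 2, 3, 3],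
  [1, 3, 0, 2, 3, 2],
  [1, 4, 1, 4, 0, 3, 0, 1],
  [1, 4, 1, 4, 0, 3, 0, 2],
  [1, 3, 2, 4, 0, 3, 1, 4],
  [1, 0, 2, 4, 1, 0, 4, 0, 2],
  [4, 1, 3, 1, 4, 0, 4, 1],
  [1, 4, 0, 4, 1, 0, 1, 0],
  [1, 4, 0, 2, 4, 0, 1],
  [4, 2, 0, 3, 0, 1, 4, 0],
  [1, 3, 3, 2, 0, 4, 0],
  [1, 0, 1, 3, 1, 3, 1, 3],
  [4, 2, 0, 3, 0, 1],
  [1, 0, 1, 3, 0, 3, 1, 0],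
  [0, 3, 1, 3, 0, 1, 3, 0],
  [3, 0, 3, 2, 3, 0, 3],
  [1, 3, 3, 1, 0, 1, 4],
  [1, 4, 1, 3, 2, 3],
  [2, 0, 3, 0, 3, 2, 0, 1],
  [2, 0, 3, 0, 3, 2, 0, 2],
  [2, 0, 2, 3, 3, 1, 0, 2],
  [2, 0, 2, 3, 3, 1, 0],
  [3, 0, 2, 0, 3, 2, 0],
  [1, 0, 2, 0, 1, 3, 0, 3],
  [1, 3, 1, 3, 1, 3],
  [1, 4, 2, 4, 1, 0],
  [2, 0, 1, 0, 2, 3, 0, 1],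
  [3, 1, 0, 2, 3, 0],
  [1, 4, 1, 4, 0, 2, 0],
  [0, 2, 3, 1, 4, 0, 4],
  [3, 1, 4, 2, 3, 0, 4],
  [0, 2, 4, 1, 4, 1, 0, 1],
  [3, 0, 4, 1, 0, 1, 0],
  [1, 4, 0, 1, 0, 2, 4],
  [1, 3, 1, 0, 2, 3, 1, 4],
  [4, 0, 3, 0, 2, 4, 0],
  [0, 2, 4, 1, 0, 3, 0, 2],
  [3, 2, 0, 4, 0, 3],
  [0, 4, 2, 0, 1, 3, 3],
  [3, 2, 3, 0, 4, 1, 3],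
  [0, 2, 4, 2, 0, 1, 3, 2],
  [0, 2, 4, 2, 0, 1, 3],
  [1, 3, 2, 0, 3, 2, 4],
  [1, 3, 2, 0, 3, 2, 3],
  [0, 2, 4, 0, 3],
  [0, 2, 4, 0, 3, 1],
  [1, 4, 1, 0, 2, 0],
  [4, 0, 1, 3, 1, 0, 4],
  [3, 1, 3, 2, 4, 2],
  [4, 2, 4, 2, 4, 2, 0],
  [0, 3, 0, 1, 4, 1, 0],
  [2, 0, 1, 0, 4, 0, 3],
  [4, 2, 3, 0, 3, 2, 0],
  [0, 3, 1, 4, 0, 2],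
  [3, 1, 4, 1, 3, 2],
  [0, 3, 1, 4, 2, 3, 3],
  [4, 0, 4, 1, 4, 1, 0],
  [4, 0, 4, 1, 4, 1, 4],
  [4, 0, 4, 1, 4, 2, 3],
  [4, 0, 4, 1, 0],
  [4, 0, 4, 2],
  [4, 0, 4],
  [4, 0, 4, 1, 3],
  [4, 0, 4, 1, 3, 3, 2],
  [0, 3, 0, 3, 1, 3, 1],
  [0, 3, 0, 3, 1, 3, 2, 3],
  [0, 1, 4, 2, 0, 2, 0, 2],
  [0, 4, 1, 4, 2, 4, 0, 1],
  [0, 4, 0, 3, 0, 1, 3],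
  [2, 0, 2, 4, 1, 0, 4],
  [0, 1, 0, 2, 0, 2, 3],
  [1, 0, 1, 0, 3, 2, 3, 0],
  [0, 1, 0, 3, 1, 4, 2, 0],
  [0, 2, 0, 2, 3, 1, 4, 0],
  [1, 3, 1, 0, 2],
  [0, 3, 1, 4, 2, 4, 0, 4],
  [4, 2, 3, 3, 1, 0, 2],
  [4, 2, 3, 3, 1, 0],
  [1, 0, 1, 4, 2, 3, 1, 4],
  [1, 3, 0, 3, 1, 3],
  [3, 0, 4, 1, 4, 1, 4],
  [0, 3, 0, 2, 3, 0, 3],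
  [0, 2, 3, 1, 4, 0],
  [2, 0, 1, 0, 4, 0, 4],
  [0, 3, 3, 2, 3, 1, 0],
  [0, 2, 0, 1, 0, 4, 1, 0],
  [4, 1, 3, 3, 1, 0, 2],
  [1, 4, 1, 0, 3, 3, 2],
  [1, 4, 1, 0, 3, 3],
  [3, 3, 0, 2, 0, 4],
  [3, 1, 0, 2, 3, 2],
  [4, 0, 4, 2, 3, 1, 4],
  [0, 3, 0, 3, 3, 2, 3, 1],
  [1, 0, 2, 0, 1, 3, 2, 0],
  [2, 0, 2, 3, 3, 0, 3],
  [0, 3, 0, 1, 4, 2, 3, 3],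
  [0, 3, 0, 1, 4, 2],
  [0, 4, 0, 2, 0, 3, 1, 3],
  [0, 3, 3, 1, 4, 1, 3],
  [0, 3, 3, 0, 2, 4],
  [1, 3, 1, 4, 1],
  [0, 2, 0, 1, 0, 4],
  [1, 3, 0, 1, 3, 2],
  [1, 3, 0, 1, 3],
  [1, 0, 4, 2, 4],
  [1, 4, 0, 1, 3, 0, 2],
  [0, 2, 0, 1, 3, 0, 2, 3],
  [0, 3, 0, 1, 0, 4, 2],
  [0, 2, 0, 1, 3],
  [1, 0, 3, 0, 3, 1, 4, 0],
  [1, 0, 3, 0, 3, 1, 4, 1],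
  [0, 2, 0, 2, 3, 3, 0, 3],
  [1, 0, 3, 0, 2, 3, 1],
  [1, 0, 3, 0, 2, 3, 2],
  [1, 3, 2, 0, 1, 0],
  [1, 0, 3, 0, 3, 0],
  [1, 0, 3, 0, 3, 3],
  [0, 3, 3, 1, 0, 2, 0],
  [1, 0, 3, 2, 4, 1, 4, 0],
  [0, 3, 3, 1, 0, 1],
  [4, 0, 3, 0, 3, 2],
  [2, 0, 3, 1, 3, 2, 4],
  [2, 0, 4, 1, 0, 3, 0],
  [3, 2, 0, 2, 3, 2, 0],
  [3, 2, 0, 2, 3],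
  [1, 3, 2, 3, 0, 2, 3],
  [1, 0, 3, 0, 1, 0, 2, 4],
  [3, 3, 0, 4, 2, 0],
  [0, 2, 4, 2, 3, 3, 1],
  [2, 3, 0, 1, 0, 2],
  [1, 0, 3, 0, 1, 0, 3, 1],
  [0, 2, 0, 4, 0, 3, 1],
  [1, 0, 4],
  [0, 3, 2, 3, 3, 0, 1],
  [3, 1, 4, 1, 3, 1],
  [3, 1, 4, 1, 3, 3],
  [3, 1, 4, 1],
  [4, 0, 1, 0, 2, 4, 1],
  [0, 4, 0, 1, 4, 1],
  [3, 1, 3, 0, 1, 4],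
  [3, 3, 0, 1, 3, 2, 4],
  [1, 4, 2, 4, 0, 1, 4],
  [3, 3, 0, 1, 3, 1],
  [0, 3, 2, 0, 3, 1, 4],
  [0, 2, 0, 4, 0, 2, 0],
  [1, 4, 2, 0, 4, 0],
  [1, 0, 3, 1, 4, 1, 4],
  [3, 2, 4, 0, 2, 3, 2],
  [1, 4, 0, 2, 3, 1, 0],
  [1, 3, 2, 4, 2, 0],
  [3, 2, 3, 3, 0, 1, 3, 2],
  [0, 4, 0, 3, 2, 0, 3, 1],
  [2, 0, 3, 2, 3, 1, 3],
  [3, 2, 4, 1, 3, 0, 2],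
  [3, 2, 4, 1, 3, 0, 3],
  [0, 2, 4, 2, 4, 0, 3, 2, 3],
  [0, 4, 1, 0, 4, 2, 4],
  [0, 2, 0, 3, 2, 4, 2, 0],
  [0, 4, 2, 0, 2, 4, 2],
  [1, 4, 2, 0, 4, 1, 0],
  [1, 3, 0, 1, 4, 1],
  [4, 0, 4, 2, 3, 0, 1],
  [3, 0, 4, 0, 3, 0],
  [4, 1, 0, 3, 0, 2],
  [0, 4, 0, 1, 0, 1, 4, 0],
  [0, 4, 0, 1, 0, 1],
  [1, 4, 2, 4, 1, 3, 2, 4],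
  [1, 4, 2, 4, 1, 3, 2, 3],
  [1, 3, 0, 4, 2, 4, 0],
  [1, 3, 0, 4, 2, 4, 1],
  [1, 3, 0, 4, 2, 4, 2],
  [1, 3, 0, 4, 2],
  [3, 2, 0, 2, 3, 2, 0, 3],
  [0, 3, 0, 1, 3, 1, 3, 0],
  [0, 3, 0, 3, 0, 3, 2, 4],
  [2, 0, 2, 3, 0, 4, 0, 4],
  [4, 0, 4, 0, 2, 0, 2],
  [4, 0, 4, 0, 2, 0],
  [3, 0, 3, 0, 3, 2],
  [4, 2, 4, 2, 0, 1, 0],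
  [1, 3, 0, 1, 0, 3],
  [1, 0, 1, 0, 1, 0, 3],
  [0, 4, 1, 0, 4, 2, 3],
  [0, 2, 4, 0, 4, 0, 1, 3],
  [0, 4, 2, 0, 1, 3, 0],
  [1, 0, 3, 1, 4, 1, 3],
  [0, 3, 3, 0, 3, 0, 3],
  [3, 1, 3, 1, 3, 0],
  [0, 2, 4, 1, 0],
  [0, 2, 4, 1, 0, 3, 3],
  [0, 4, 2, 4, 2, 4, 1],
  [1, 3, 1, 4, 0, 3, 1],
  [1, 0, 4, 2, 4, 0, 3],
  [0, 2, 4, 2, 4, 0],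
  [0, 2, 4, 2, 4, 0, 3, 3],
  [0, 4, 2, 0, 4, 2, 4],
  [3, 1, 3, 3, 0, 3, 0],
  [0, 4, 0, 2, 0, 1, 0],
  [0, 2, 4, 2, 0, 4, 2],
  [1, 4, 1, 4, 2, 3, 0],
  [1, 3, 3, 1, 4, 1, 4, 1],
  [3, 1, 4, 0, 2, 4, 1],
  [1, 0, 2, 4, 1, 0, 3, 3, 0],
  [1, 3, 2, 0, 3, 0, 3],
  [1, 0, 2, 3, 3, 1, 3, 0],
  [2, 3, 1, 3, 2, 0, 3, 0],
  [0, 2, 0, 2, 3, 1, 0],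
  [0, 3, 0, 4, 2, 3, 0],
  [3, 1, 3, 1, 4, 1, 0],
  [0, 2, 4, 1, 4, 0, 1, 3],
  [1, 0, 4, 1, 4, 0, 3, 0],
  [0, 3, 1, 3, 2, 0, 1],
  [0, 2, 4, 0, 2],
  [0, 2, 4, 0, 2, 0, 1],
  [0, 4, 1, 0, 4, 0],
  [0, 4, 1, 0, 3, 1],
  [1, 3, 1, 0, 1, 3, 2],
  [0, 4, 1, 0, 3, 1, 3, 2],
  [4, 0, 2, 3, 1],
  [4, 1, 0, 3, 3, 2, 0],
  [1, 0, 1, 4, 1, 3, 3, 2],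
  [1, 0, 1, 4, 1, 4],
  [1, 0, 1, 4, 2],
  [1, 0, 1, 4],
  [1, 3, 3, 2, 0, 1, 0],
  [1, 0, 2, 3, 3, 0, 3],
  [0, 2, 3, 2, 4, 0, 4, 2],
  [0, 2, 4, 0, 1, 4, 1, 4],
  [0, 3, 2, 4, 1, 0, 3],
  [0, 2, 0, 1, 4, 1, 0],
  [0, 2, 0, 1, 4, 2],
  [0, 2, 0, 1, 4],
  [3, 2, 0, 4, 2, 0],
  [0, 1, 0, 4, 0, 2, 0],
  [0, 2, 3, 3, 0, 3],
  [0, 2, 0, 1, 3, 2],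
  [0, 3, 0, 2, 0, 2, 0, 2],
  [0, 3, 2, 4, 1, 3, 0],
  [2, 0, 3, 1, 3, 0, 2],
  [0, 3, 3, 0, 4, 0, 4, 2],
  [0, 4, 2, 4, 1, 0, 3, 3],
  [0, 2, 3, 2, 0, 3, 1, 4],
  [0, 1, 0, 3, 3, 2, 4, 0],
  [0, 3, 1, 0, 2, 3, 2, 3],
  [3, 3, 2, 0, 4, 2],
  [0, 3, 1, 3, 0, 2, 3],
  [2, 3, 0, 4, 0, 2],
  [1, 4, 1, 4, 0, 2, 4],
  [3, 3, 2, 0, 1, 0, 4, 1],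
  [0, 2, 3, 3, 0, 1, 0],
  [1, 4, 0, 4, 0, 1, 0],
  [1, 4, 0, 4, 0, 2],
  [3, 1, 0, 1, 0, 4],
  [1, 4, 0, 4, 2, 4, 0],
  [0, 3, 0, 2, 3, 0, 2, 3],
  [2, 3, 1, 0, 2, 4, 0, 4],
  [1, 3, 0, 4, 1, 4],
  [0, 2, 0, 2, 0, 3, 3],
  [3, 1, 3, 3, 2, 4],
  [3, 1, 3, 3, 2, 3],
  [4, 1, 3, 0, 1, 0],
  [3, 2, 0, 3, 2, 3],
  [1, 0, 1, 3, 3, 0, 3],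
  [3, 0, 4, 1, 3, 2, 3],
  [0, 3, 1, 0, 1, 3, 2, 0],
  [1, 3, 1, 3, 1, 3, 2],
  [3, 2, 4, 0, 3, 1],
  [0, 2, 4, 1, 3, 2, 0],
  [4, 0, 3, 2, 0, 3],
  [3, 3, 0, 4, 2, 4],
  [3, 3, 1, 4, 0, 4, 2],
  [3, 3, 0, 3, 1, 0],
  [0, 3, 3, 1, 0, 3, 0],
  [0, 1, 4, 0, 3, 0],
  [2, 0, 4, 1],
  [2, 0, 4, 1, 0, 4],
  [3, 0, 3, 1, 3, 3, 0],
  [2, 0, 4, 1, 0, 1, 3, 2],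
  [0, 3, 0, 2, 0, 3, 3],
  [1, 0, 3, 0, 1, 4, 2, 3],
  [1, 0, 3, 0, 1, 4, 2, 4],
  [1, 3, 2, 0, 3, 2, 3, 2],
  [0, 1, 0, 1, 3, 0, 4, 2],
  [0, 3, 0, 3, 0, 4, 1, 0],
  [0, 3, 3, 2, 4, 1, 0],
  [3, 3, 1, 3, 2, 3],
  [3, 3, 1, 3, 2, 3, 1],
  [0, 2, 3, 0, 3, 1, 3, 2],
  [1, 0, 4, 0, 1, 0, 2],
  [4, 0, 4, 0, 1, 4],
  [1, 3, 3, 0, 1, 3, 0],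
  [3, 0, 4, 2, 3, 0, 4],
  [0, 4, 1, 4, 1, 0],
  [0, 3, 1, 4, 2, 0, 2],
  [0, 3, 0, 2, 0, 1, 3],
  [2, 0, 1, 4, 1, 3, 0],
  [1, 0, 3, 3, 2, 0, 4],
  [3, 2, 4, 1, 0, 4, 1],
  [3, 2, 4, 1, 0],
  [3, 2, 0, 2, 0, 4, 0],
  [3, 2, 0, 2, 0],
  [3, 0, 1, 3, 3, 0, 1],
  [1, 4, 0, 1, 3, 0, 3],
  [0, 3, 0, 4, 2, 4, 1],
  [0, 2, 4, 2, 4, 2, 0],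
  [0, 3, 1, 4, 2, 4, 0, 2],
  [3, 1, 4, 0, 3, 3],
  [4, 0, 4, 0, 2, 0, 4],
  [1, 4, 1, 0, 4, 1, 0],
  [1, 4, 1, 0, 4, 1, 0, 1],
  [4, 0, 4, 2, 4, 1],
  [0, 2, 3, 3, 2, 3],
  [3, 0, 3, 2, 3, 1, 4],
  [0, 4, 1, 0, 3, 3, 0],
  [0, 4, 1, 0, 2, 0, 2, 0],
  [3, 2, 4, 0, 2, 3, 3],
  [3, 0, 3, 0, 4, 2, 0, 4],
  [3, 1, 3, 1, 4, 2, 4, 0],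
  [4, 1, 3, 0, 1, 0, 4],
  [0, 4, 1, 0, 3, 2, 4, 2],
  [0, 4, 1, 0, 3, 2],
  [4, 2, 4, 0, 1, 3],
  [4, 2, 4, 2, 4, 1],
  [4, 2, 4, 2],
  [4, 0, 4, 1, 3, 1],
  [4, 0, 4, 0, 3, 0],
  [4, 2, 4, 2, 3, 2],
  [0, 1, 0, 3, 1, 0, 1],
  [3, 0, 2, 4, 0, 2, 0],
  [2, 0, 3, 0, 1, 3, 1],
  [2, 3, 0, 4, 1, 3, 3, 1],
  [3, 0, 3, 1, 3, 2],
  [3, 2, 4, 1, 4, 0, 3],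
  [0, 2, 0, 2, 3, 1, 3, 3],
  [3, 0, 3, 1, 4, 1, 0],
  [2, 0, 3, 0, 3, 0, 2, 0],
  [2, 0, 3, 0, 3, 0],
  [2, 0, 3, 0, 3, 0, 1],
  [3, 0, 2, 3, 0, 3, 2],
  [0, 4, 2, 4, 0, 3, 1, 3],
  [2, 0, 2, 3, 3, 0, 2, 4],
  [1, 0, 3, 0, 3, 3, 2, 3],
  [3, 3, 0, 4, 0, 4, 0],
  [1, 0, 3, 0, 2, 0, 3],
  [3, 1, 4, 0, 2, 4],
  [0, 1, 0, 4, 1],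
  [0, 1, 0, 4, 1, 0, 3],
  [0, 1, 0, 4, 1, 0, 4],
  [4, 0, 3, 0, 3, 1],
  [1, 3, 1, 0, 2, 3],
  [1, 0, 3, 1, 0, 2, 3, 2],
  [2, 3, 0, 4, 1, 3, 2],
  [4, 0, 2, 0, 2, 3, 0],
  [0, 2, 4, 0, 4, 2, 0, 2],
  [3, 0, 3, 3, 0, 3, 1],
  [0, 3, 1, 3, 3, 0, 1],
  [0, 2, 4, 0, 4, 2, 3, 0],
  [0, 3, 3, 0, 4, 2, 0],
  [0, 2, 4, 0, 4, 2, 3, 2],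
  [0, 2, 4, 0, 3, 3, 1],
  [0, 2, 4, 0, 3, 3, 2],
  [0, 2, 4, 2, 4, 2, 3],
  [4, 1, 3, 3, 2, 3, 2],
  [3, 3, 1, 3, 3, 0],
  [2, 0, 2, 4, 0, 3, 0],
  [0, 4, 0, 3, 1],
  [0, 4, 0, 3, 1, 3, 3],
  [2, 0, 2, 3, 0, 1, 3],
  [3, 1, 0, 1, 3, 0, 4, 0],
  [1, 3, 2, 4, 0, 4, 2],
  [1, 3, 2, 4, 0, 4],
  [1, 3, 2, 4, 2],
  [3, 1, 3, 1, 4, 2, 3],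
  [4, 1, 0, 2, 3, 2, 4],
  [2, 0, 4, 1, 0, 3, 3, 0],
  [0, 1, 0, 2, 3, 1, 4],
  [0, 1, 0, 2, 3, 1, 0],
  [0, 1, 0, 2, 3],
  [4, 2, 3, 1, 0, 4],
  [4, 2, 3, 1, 0, 3],
  [3, 1, 3, 0, 3, 1, 4],
  [0, 3, 0, 2, 0, 2, 0, 3],
  [3, 3, 1, 4, 2],
  [3, 3, 1, 4],
  [3, 3, 1, 4, 1, 3],
  [3, 3, 1, 4, 1, 4],
  [0, 2, 4, 2, 4, 1],
  [0, 2, 4, 2, 0, 2, 0, 4],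
  [0, 2, 4, 2, 0, 2, 0, 3],
  [1, 3, 1, 3, 1, 4, 1, 4],
  [1, 3, 0, 1, 0, 4, 1],
  [0, 4, 2, 4, 0, 3, 1],
  [0, 3, 0, 1],
  [0, 3, 0, 1, 0, 3],
  [0, 3, 0, 1, 0, 4],
  [3, 2, 0, 1, 3, 1],
  [1, 0, 1, 4, 2, 0, 1, 3],
  [2, 0, 2, 4, 1, 3],
  [1, 0, 1, 0, 4, 0, 1],
  [0, 4, 0, 1, 4, 0, 3, 3],
  [0, 1, 0, 2, 3, 3, 2, 0],
  [2, 0, 1, 3, 3, 2],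
  [3, 3, 1, 4, 1, 4, 0],
  [3, 3, 2, 3, 0, 3, 3],
  [1, 3, 3, 2, 0, 3, 2],
  [3, 2, 4, 0, 2, 4],
  [1, 3, 3, 1, 0, 1, 0],
  [1, 4, 1, 0, 3, 2, 4],
  [2, 0, 1, 0, 2, 4],
  [4, 0, 4, 0, 3, 2],
  [0, 3, 2, 4, 1, 3, 3, 2],
  [3, 2, 0, 3, 1, 4, 2],
  [1, 0, 2, 3, 1, 3],
  [1, 0, 2, 3, 1, 4],
  [1, 0, 2, 3, 2, 0],
  [1, 0, 2, 3, 2, 4],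
  [1, 0, 2, 3, 3, 1],
  [1, 0, 2, 3, 3, 2],
  [1, 0, 2, 0],
  [1, 0, 1],
  [2, 0, 1, 3, 1, 4],
  [3, 1, 3, 1, 0, 1],
  [2, 0, 4, 1, 0, 4, 2],
  [0, 4, 0, 3, 3, 1],
  [0, 3, 0, 1, 4, 2, 0, 4],
  [4, 0, 2, 4, 0, 4],
  [3, 0, 1, 3, 0, 3, 2],
  [3, 3, 2, 0, 4, 0],
  [1, 0, 2, 3, 0, 4, 1, 3],
  [3, 2, 0, 4, 1],
  [4, 0, 4, 2, 3, 3],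
  [3, 0, 4, 0, 3, 3, 2],
  [3, 1, 3, 2, 4, 0, 4, 1],
  [3, 3, 0, 3, 0, 1, 4],
  [4, 2, 3, 1, 3, 1],
  [0, 3, 0, 3, 0, 4],
  [4, 1, 0, 4, 0, 2],
  [3, 2, 3, 1, 4, 2],
  [3, 2, 3, 1, 4],
  [3, 0, 4, 2, 4, 2],
  [3, 2, 3, 1, 4, 1, 4],
  [0, 3, 1, 3, 3, 0],
  [0, 4, 2, 0, 3, 2, 0, 2],
  [0, 3, 0, 2, 0, 2, 0, 1],
  [4, 2, 0, 2, 3, 3],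
  [3, 3, 2, 4, 0, 4, 2],
  [1, 3, 3, 1, 0, 4, 2],
  [2, 0, 2, 3, 3, 0, 2],
  [4, 1, 0, 3, 0, 3, 2],
  [4, 1, 0, 3, 0, 3, 3],
  [4, 1, 0, 3, 0],
  [1, 0, 3, 2, 3, 2],
  [3, 0, 2, 4, 1, 3, 2],
  [0, 4, 0, 4, 0, 3, 3, 1],
  [1, 0, 4, 0, 4, 2, 0, 2],
  [1, 0, 4, 0, 4, 2, 0],
  [2, 0, 4, 0, 2, 0, 2],
  [3, 3, 1, 4, 2, 4],
  [1, 0, 2, 4, 2, 0, 1],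
  [1, 0, 2, 4, 2, 0, 3],
  [1, 0, 2, 4, 1, 3],
  [1, 4, 1, 3, 1],
  [0, 4, 0, 3, 3, 1, 4],
  [1, 0, 2, 4, 2, 3, 2],
  [3, 0, 3, 3, 0, 3],
  [0, 4, 2, 0, 3, 0, 4, 2],
  [0, 3, 1, 0, 1, 3, 0, 3],
  [2, 0, 3, 2, 3, 3, 0],
  [1, 4, 1, 3, 3, 0],
  [3, 0, 3, 0, 2, 3, 3, 2],
  [3, 2, 3, 2, 0, 3, 0],
  [3, 1, 3, 0, 3, 2],
  [3, 3, 1, 0, 1, 3, 2],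
  [1, 4, 2, 4, 1, 0, 2, 3],
  [4, 1, 0, 2, 0, 4],
  [0, 3, 0, 3, 0, 4, 0],
  [2, 0, 3, 2, 4, 0, 4],
  [1, 3, 3, 2, 0, 3, 1],
  [1, 3, 3, 2, 0, 3, 3],
  [1, 3, 3, 2, 0],
  [0, 3, 1, 4, 1, 0, 4],
  [1, 0, 4, 0, 1, 0],
  [4, 0, 3, 2],
  [4, 0, 3, 2, 0, 4],
  [3, 3, 2, 0, 4, 2, 4],
  [1, 0, 2, 3, 3, 1, 4, 2],
  [1, 3, 0, 3, 1, 3, 1],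
  [3, 0, 4, 2, 3, 3],
  [2, 0, 2, 3, 0, 3, 3],
  [2, 0, 2, 3, 0],
  [3, 3, 1, 3, 0, 3],
  [3, 3, 0, 4, 0, 3],
  [3, 3, 0, 4, 0, 3, 1],
  [2, 0, 3, 3, 0, 4],
  [0, 2, 0, 3, 0, 1, 0, 4],
  [0, 2, 4, 2, 0, 1, 4, 0],
  [4, 0, 2, 0, 4, 2, 0],
  [1, 3, 0, 2, 3, 3],
  [2, 3, 0, 4, 1, 0, 4],
  [1, 0, 2, 0, 3, 1],
  [3, 0, 1, 3, 2],
  [1, 3, 3, 1, 3, 0, 3],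
  [1, 3, 2, 0, 2, 0, 1],
  [4, 0, 1, 4, 1, 3],
  [2, 3, 0, 3, 2, 4, 0],
  [0, 1, 0, 2, 4, 0, 4, 1],
  [4, 0, 4, 2, 0, 1, 3],
  [1, 0, 4, 0, 1, 3, 3, 0],
  [0, 4, 1, 0, 2, 3, 0],
  [0, 1, 0, 1, 0, 3],
  [0, 1, 0, 1, 0, 3, 1],
  [0, 3, 0, 1, 0, 3, 1],
  [0, 1, 0, 1, 0, 3, 2, 4],
  [3, 0, 4, 1, 3, 3, 0, 2],
  [1, 0, 2, 3, 1, 0, 4],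
  [0, 1, 0, 3, 2, 0, 1, 3],
  [0, 2, 4, 0, 2, 3, 0],
  [3, 3, 0, 4, 2, 3, 2],
  [0, 3, 2, 0, 4, 0, 4, 1],
  [0, 2, 4, 1, 3],
  [0, 2, 4, 1, 3, 0, 2],
  [0, 2, 4, 1, 3, 0, 3],
  [0, 3, 1, 0, 2, 4, 2, 4],
  [0, 3, 1, 4, 2, 4, 0],
  [0, 1, 0, 3, 3, 2, 4],
  [1, 3, 2, 3, 3, 1, 3],
  [4, 1, 0, 3, 3, 1],
  [0, 1, 4, 0, 1, 3],
  [0, 1, 4, 0, 1, 3, 1],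
  [1, 0, 3, 2, 4, 1, 0],
  [2, 0, 4, 0, 2, 0, 3],
  [3, 0, 3, 3],
  [0, 3, 0, 4, 2, 3, 3],
  [4, 2, 4, 0, 4],
  [4, 2, 4, 0, 3],
  [4, 2, 0, 2],
  [3, 3, 0, 1, 0, 1],
  [0, 4, 1, 4, 0, 3, 3],
  [1, 4, 1, 3, 2, 3, 0],
  [1, 0, 3, 2, 0, 2, 0, 2],
  [0, 3, 3, 0, 2, 0, 4],
  [1, 0, 1, 0, 2, 0],
  [3, 1, 3, 3, 2],
  [0, 3, 0, 3, 3, 0, 1],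
  [3, 0, 2, 3, 0, 1, 0],
  [1, 3, 0, 1, 3, 0],
  [3, 0, 3, 1, 4, 1],
  [3, 0, 2, 3, 0, 3, 1],
  [3, 0, 2, 3, 0, 3, 3],
  [0, 3, 2, 0, 4],
  [2, 0, 3, 1, 4, 2],
  [0, 3, 2, 0, 4, 2, 4],
  [3, 0, 2, 3, 3, 1, 0],
  [3, 0, 2, 3, 3, 1, 3],
  [3, 1, 4, 0, 3, 2],
  [3, 0, 2, 3, 3, 2, 0],
  [3, 0, 2, 3, 3, 2, 3],
  [3, 0, 2, 3, 3, 2, 4],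
  [3, 0, 4],
  [3, 0, 1, 0],
  [3, 0, 1, 3],
  [3, 0, 1, 4],
  [3, 3, 0, 4],
  [3, 3, 0, 3],
  [3, 3, 0, 3, 3, 1, 0],
  [3, 3, 0, 3, 3, 1, 3],
  [0, 3, 0, 4, 2, 4, 0],
  [0, 2, 3, 2, 4, 2, 0, 4],
  [4, 1, 0, 2, 3, 3],
  [4, 1, 0, 2, 3, 3, 1],
  [4, 0, 1, 3, 1, 0, 1],
  [0, 3, 2, 0, 1, 4, 1],
  [3, 1, 3, 2, 3, 2, 4],
  [3, 3, 1, 0, 3, 1],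
  [3, 0, 4, 0, 2, 3, 1],
  [3, 0, 4, 1, 0, 1, 4],
  [0, 3, 0, 1, 0, 4, 1],
  [0, 4, 0, 2, 3],
  [0, 4, 0, 2, 3, 1],
  [0, 3, 1, 3, 1, 0, 4],
  [3, 3, 2],
  [3, 3, 1, 3],
  [3, 3, 1, 0, 3, 0],
  [3, 3, 1, 0, 3, 2],
  [3, 3, 1, 0, 3, 3],
  [3, 3, 1, 0, 4, 0],
  [3, 2, 3, 0, 2, 4],
  [3, 3, 0, 4, 2],
  [3, 3, 1, 0, 1, 3, 0],
  [3, 1, 3, 0, 1, 3, 3],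
  [3, 3, 0, 4, 0, 1, 3],
  [0, 2, 4, 2, 0, 1, 4],
  [1, 0, 1, 0, 3, 0],
  [2, 0, 4, 1, 4, 1, 0],
  [0, 2, 4, 2, 3, 1, 4],
  [0, 3, 1, 4, 1, 0, 3],
  [0, 1, 0, 3, 2, 3, 3, 2],
  [2, 3, 0, 1, 3, 0, 3, 0],
  [1, 4, 2, 4, 2, 0, 1],
  [1, 0, 3, 0, 2, 0, 3, 2],
  [4, 1, 0, 2, 3, 2, 0],
  [3, 3, 1, 0, 2, 4, 0, 2],
  [3, 3, 2, 3, 3],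
  [3, 2, 4, 1, 4, 0, 4],
  [3, 1, 3, 2, 0, 4, 0],
  [0, 2, 4, 2, 3, 2],
  [4, 2, 4, 1, 0, 4],
  [4, 0, 2, 0, 4, 2],
  [3, 3, 1, 3, 0, 1],
  [0, 2, 0, 3, 1, 3, 3],
  [0, 3, 3, 0, 3, 2, 4],
  [0, 2, 4, 2, 0, 2, 0],
  [3, 0, 3, 3, 1],
  [0, 3, 0, 1, 0, 3, 3],
  [3, 0, 3, 3, 1, 3, 2],
  [1, 0, 3, 2, 3, 2, 0],
  [1, 0, 1, 4, 0, 2, 3],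
  [2, 3, 0, 3, 2, 3, 3],
  [1, 4, 1, 4, 0, 3, 3],
  [0, 4, 0, 2, 0],
  [0, 4, 0, 2, 0, 4, 1, 0],
  [3, 2, 0, 3],
  [3, 2, 0, 3, 0, 1],
  [2, 3, 0, 3, 1, 3],
  [2, 3, 0, 3, 1, 4],
  [0, 4, 2, 0, 2, 4, 1],
  [1, 3, 3, 1, 0, 2, 0],
  [0, 3, 0, 1, 4, 2, 0],
  [1, 3, 0, 4, 2, 4, 2, 0],
  [0, 2, 0, 3, 1, 3, 3, 2],
  [0, 2, 4, 2, 0, 3, 3, 2],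
  [3, 3, 0, 2, 0, 2, 0],
  [4, 1, 0, 4, 0, 3, 0],
  [0, 3, 0, 3, 0, 1, 0],
  [0, 3, 0, 3, 0],
  [0, 3, 0, 3, 0, 1, 3],
  [1, 3, 0, 3, 1, 4, 2],
  [4, 2, 3, 3, 2, 0, 4],
  [0, 3, 2, 0, 2, 0, 1, 4],
  [2, 0, 1, 0, 4, 0],
  [0, 4, 0, 2, 3, 3],
  [3, 2, 4, 2],
  [3, 0, 4, 1, 3, 2, 0],
  [3, 0, 4, 1, 3, 3],
  [3, 0, 4, 1],
  [0, 4, 2, 3, 0],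
  [0, 4, 2],
  [0, 2, 0, 4, 0],
  [3, 2, 3, 2, 4],
  [3, 1, 3, 3, 0, 1],
  [0, 3, 3, 1, 4, 2, 0],
  [0, 2, 3, 2, 4, 0, 4, 0],
  [0, 2, 3, 2, 4, 0, 4, 1],
  [1, 4, 2, 3, 2, 4, 1],
  [1, 4, 2, 3, 2, 4, 2],
  [1, 4, 2, 3, 2],
  [4, 0, 3, 3, 2, 3],
  [1, 4, 2, 3, 2, 3, 1],
  [0, 2, 3, 2, 0, 1],
  [0, 2, 3, 2, 0, 3],
  [0, 2, 3, 2, 0, 4],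
  [3, 3, 0, 1, 4, 0],
  [3, 3, 0, 1],
  [2, 3, 0, 2, 0, 3, 0],
  [4, 0, 4, 2, 3],
  [4, 0, 4, 2, 3, 1],
  [3, 0, 1, 4, 1, 3],
  [2, 3, 0, 1, 0, 3],
  [2, 3, 0, 1, 3, 0],
  [2, 3, 0, 1, 3, 2],
  [1, 4, 0, 2, 4, 2],
  [2, 3, 0, 1, 4, 1],
  [0, 3, 2, 3, 0],
  [0, 3, 2, 4, 0],
  [0, 3, 0, 2],
  [0, 3, 0, 3],
  [0, 3, 3, 0],
  [0, 3, 3, 2],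
  [0, 4],
  [0, 3, 1, 3, 0, 2],
  [0, 3, 1, 3, 1, 0],
  [4, 0, 1, 4, 2],
  [0, 3, 1, 3, 1, 4],
  [0, 3, 1, 3, 2, 3],
  [0, 3, 1, 3, 3, 1],
  [0, 3, 1, 3, 3, 2],
  [0, 3, 1, 4, 0, 1],
  [0, 3, 1, 4, 0, 4],
  [0, 3, 1, 4, 1, 0],
  [0, 3, 1, 4, 1, 3],
  [0, 3, 1, 4, 1, 4],
  [0, 3, 1, 4, 2, 4],
  [3, 1, 0, 1, 3, 3, 1],
  [0, 3, 1, 0, 1, 0, 1, 4],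
  [1, 3, 1, 0, 1, 0, 1],
  [0, 4, 2, 0, 1, 3, 2],
  [3, 0, 4, 2, 0],
  [1, 3, 3, 0, 1, 4, 0],
  [2, 0, 1, 0, 1, 0, 3],
  [0, 2, 0, 3, 1, 3, 1],
  [1, 4, 2, 0, 1, 3, 1],
  [0, 3, 1, 0, 1, 3, 3, 0],
  [0, 3, 1, 0, 1, 3, 3, 1],
  [0, 3, 1, 0, 1, 3, 3, 2],
  [0, 1, 0, 2, 3, 0, 1],
  [4, 1, 3, 3, 0, 1, 4],
  [0, 3, 1, 0, 1, 4, 1, 4],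
  [0, 4, 0, 1, 0, 2, 4],
  [0, 3, 3, 2, 3, 2, 0],
  [4, 0, 1, 4, 0, 2],
  [0, 2, 3, 3, 2, 3, 0, 4],
  [4, 0, 4, 1, 3, 0, 1],
  [0, 3, 1, 3, 2, 4, 0],
  [0, 2, 4, 1, 0, 1, 0, 4],
  [0, 3, 1, 0, 2, 3, 0, 1],
  [3, 1, 0, 2, 4, 1, 3],
  [0, 3, 1, 0, 2, 3, 0, 3],
  [1, 0, 2, 0, 3, 1, 0],
  [1, 3, 0, 1, 0, 2],
  [3, 2, 4, 0, 1, 4],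
  [0, 3, 0, 3, 2, 4, 1],
  [0, 3, 1, 0, 2, 4, 0, 1],
  [0, 2, 3, 3, 1, 4, 0, 3],
  [3, 3, 0, 1, 0, 2, 3],
  [0, 2, 0, 3, 0, 4],
  [0, 2, 0, 3, 0, 3],
  [3, 0, 4, 0, 2, 4],
  [3, 2, 0, 1, 3, 0],
  [4, 0, 2, 4, 1, 0],
  [0, 4, 2, 0, 3, 0],
  [0, 2, 0, 1, 3, 1],
  [0, 4, 2, 0],
  [2, 0, 4, 1, 4, 0, 3],
  [0, 3, 2, 0, 4, 0, 2],
  [0, 3, 2, 0, 4, 0],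
  [1, 3, 0, 4, 0, 3, 1],
  [0, 1, 4, 2, 4, 0, 4, 1],
  [3, 1, 0, 2, 3],
  [3, 1, 0, 2, 4],
  [1, 0, 2, 4, 1, 3, 1],
  [3, 1, 0, 2, 0, 3, 2],
  [2, 0, 2, 0, 3],
  [1, 0, 4, 2, 0, 3],
  [1, 0, 4, 2, 0, 3, 1],
  [0, 4, 1, 4, 0, 1, 4],
  [0, 4, 1, 4, 0, 1, 3],
  [1, 0, 2, 0, 2, 0],
  [1, 0, 2, 0, 1],
  [1, 0, 2, 0, 2, 3],
  [2, 0, 1, 0, 3, 0, 4],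
  [0, 1, 4, 0, 3, 3, 0],
  [4, 0, 3, 1, 0, 2, 0],
  [2, 0, 4, 2, 3, 0],
  [0, 1, 4, 2, 0, 2, 0, 1],
  [0, 1, 4, 2, 0, 2, 0, 3],
  [1, 0, 1, 4, 0],
  [2, 0, 3, 1, 3, 3, 1],
  [2, 3, 0, 3, 2, 3, 2],
  [2, 3, 0, 3, 2, 3],
  [0, 1, 4, 2, 0, 3, 0, 3],
  [3, 3, 2, 0, 3, 0, 3],
  [0, 1, 4, 2, 0, 3, 3, 1],
  [0, 1, 4, 2, 0, 3, 3, 2],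
  [0, 3, 2, 0, 4, 1, 3],
  [0, 3, 2, 0, 1, 4, 2],
  [0, 1, 4, 0, 1, 0],
  [0, 1, 4, 0, 1, 4],
  [0, 1, 0, 1],
  [0, 1, 0, 2],
  [0, 1, 0, 3],
  [0, 1, 0, 4],
  [0, 1, 0, 1, 3, 3],
  [3, 2, 3, 1, 0, 4],
  [0, 1, 4, 1, 3, 3, 2],
  [0, 3, 3, 0, 3, 0],
  [4, 0, 2, 0, 4, 0],
  [3, 0, 1, 3, 3, 0],
  [0, 4, 0, 2, 4, 1],
  [3, 0, 1, 3, 1],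
  [0, 1, 4, 1, 4, 1, 3],
  [0, 1, 4, 1, 4, 2, 3],
  [3, 0, 2, 4, 0, 2, 3],
  [3, 0, 2, 4, 0, 2, 4],
  [3, 0, 2, 4, 0, 3],
  [0, 4, 2, 0, 3, 0, 1],
  [0, 2, 0, 3, 0, 2, 0],
  [2, 3, 0, 1, 0, 3, 0],
  [1, 0, 4, 2, 4, 0],
  [3, 3, 2, 0, 3, 3, 2],
  [0, 4, 0, 1, 4, 0],
  [0, 4, 0, 1, 4, 2],
  [0, 4, 0, 1, 0, 2],
  [0, 4, 0, 4, 2],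
  [0, 4, 0, 2, 4],
  [0, 4, 0, 3],
  [4, 1, 4, 2, 0, 1, 3],
  [4, 1, 4, 2, 0, 1, 4],
  [4, 2, 0, 3, 3, 0],
  [4, 1, 4, 2, 0, 2, 4],
  [0, 2, 0, 2, 3, 1, 3],
  [1, 0, 4, 1, 0, 2, 4],
  [1, 3, 1, 0, 4, 0, 4],
  [0, 4, 0, 4, 2, 4, 0],
  [0, 1, 4, 0, 4, 1, 0],
  [3, 2, 4],
  [0, 3, 1, 3, 1, 0, 3],
  [3, 2, 4, 1, 3, 1, 4],
  [4, 1, 0, 2, 4],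
  [1, 3, 1, 3, 1],
  [4, 2, 0, 3],
  [4, 2, 0, 4],
  [4, 2, 3, 0],
  [4, 2, 3, 1],
  [4, 2, 3, 3],
  [4, 2, 4, 0],
  [4, 2, 4, 1],
  [4, 0, 1],
  [4, 0, 2],
  [4, 0, 3],
  [3, 3, 0],
  [0, 2, 4, 2, 3],
  [4, 1, 3, 1, 3],
  [4, 1, 3, 1, 4],
  [4, 1, 3, 3, 0, 2, 3],
  [0, 4, 0, 1, 0, 1, 0],
  [0, 3, 0, 2, 0, 3],
  [0, 3, 0, 2, 0, 3, 1],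
  [1, 0, 3, 2, 4, 2, 4],
  [1, 0, 3, 2, 4, 2, 3],
  [4, 1, 3, 3, 1, 3, 2],
  [1, 0, 4, 2, 3, 0, 4],
  [1, 4, 1, 3, 0, 4, 0],
  [2, 0, 3, 1, 0, 3, 3],
  [1, 3, 2, 3, 0, 1, 3],
  [4, 1, 3, 1, 3, 1],
  [0, 1, 0, 3, 2, 3, 0],
  [3, 1, 4, 1, 4, 2, 4],
  [0, 2, 3, 1, 0, 3],
  [2, 0, 2, 4, 2],
  [3, 1],
  [3, 1, 0, 3],
  [0, 2, 3, 3, 1, 3],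
  [0, 2, 3, 3, 2, 0],
  [0, 2, 3, 3, 2, 4],
  [0, 2, 4, 1],
  [0, 2, 4, 2],
  [0, 2, 0, 1],
  [0, 2, 0, 2],
  [0, 2, 0, 3],
  [3, 0, 1, 0, 3, 1],
  [0, 3, 2, 0, 3, 0, 1],
  [1, 0, 4, 1, 0, 1, 0],
  [4, 0, 4, 0, 3, 3, 0],
  [0, 4, 0, 4, 1, 3],
  [3, 0, 4, 1, 4, 2],
  [0, 3, 0, 1, 3, 1],
  [0, 4, 2, 4, 2, 4],
  [0, 3, 0, 3, 0, 2, 0],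
  [0, 3, 0, 3, 0, 2, 3],
  [0, 2, 3, 0, 3, 2, 4, 0],
  [0, 2, 3, 0, 3, 2, 4, 1],
  [0, 2, 3, 0, 3, 2, 4, 2],
  [1, 4, 1, 4, 1, 0, 1],
  [0, 1, 0, 4, 2, 3, 1],
  [3, 3, 1, 4, 1, 4, 1],
  [2, 0, 1, 4, 1, 3, 2],
  [2, 0, 1, 4, 1, 3],
  [2, 0, 2, 0, 2],
  [0, 1, 0, 2, 0, 2],
  [0, 1, 0, 2, 0],
  [0, 1, 0, 3, 1, 4, 0, 2],
  [0, 3, 3, 1, 0, 4],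
  [0, 3, 3, 1, 0, 3],
  [3, 2, 0, 4, 2, 4],
  [3, 2, 0, 4, 2, 3],
  [0, 2, 4, 1, 0, 3, 2, 4],
  [4, 0, 1, 3, 3, 1],
  [0, 1, 0, 2, 4, 0, 3, 3],
  [3, 1, 3, 3, 0, 4, 0],
  [4, 1, 0, 4, 0, 2, 4],
  [1, 3, 0, 1, 0, 1, 4],
  [0, 3, 3, 0, 1, 4, 1, 3],
  [3, 1, 4, 0, 2, 3, 2],
  [3, 1, 4, 0, 2, 3],
  [0, 4, 0, 2, 0, 3],
  [1, 4, 0, 3],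
  [1, 0, 1, 3],
  [0, 3, 0, 3, 1, 0],
  [1, 0, 4, 2, 3, 3, 2],
  [1, 0, 4, 2, 3, 3],
  [1, 3, 0, 2],
  [2, 0, 2, 4, 0, 2, 3],
  [3, 1, 4, 2, 4, 0, 4],
  [1, 3, 2, 3, 0, 1, 0],
  [1, 3, 2, 3, 0, 1, 0, 1],
  [4, 2, 0, 1, 3, 3, 0],
  [2, 0, 4, 2, 4, 2],
  [1, 0, 2, 4, 1, 3, 2],
  [0, 3, 3, 0, 4, 2, 3],
  [0, 3, 3, 1, 4, 1],
  [1, 3, 0, 3, 2, 4, 0],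
  [0, 3, 2, 4, 1, 4, 2],
  [4, 0, 4, 1, 0, 1],
  [0, 4, 1, 0, 4, 0, 3, 0],
  [1, 3, 2, 3, 0, 2, 0],
  [3, 2, 4, 0, 3, 1, 4],
  [1, 3, 0, 2, 0, 1],
  [0, 1, 0, 2, 0, 3, 0],
  [1, 0, 1, 0, 2, 3, 3],
  [3, 0, 3, 1],
  [3, 0, 3, 0, 3, 3],
  [3, 0, 3, 0, 4, 1],
  [4, 0, 2, 0, 3],
  [3, 0, 3, 0, 1, 3, 3],
  [3, 0, 3, 0, 1, 4, 0],
  [3, 0, 3, 0, 1, 4, 1],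
  [0, 3, 3, 1, 0, 3, 1],
  [4, 0, 3, 3, 1, 0, 2],
  [1, 3, 2, 0, 1, 3, 3, 1],
  [0, 3, 3, 2, 3, 3, 2, 0],
  [1, 0, 4, 1, 0, 1, 4],
  [0, 1, 4, 1, 4, 1, 3, 3],
  [3, 0, 4, 0, 1],
  [1, 4, 0, 4, 2, 3, 1],
  [1, 0, 1, 3, 1, 4, 1],
  [0, 1, 0, 2, 4, 1],
  [1, 0, 1, 0, 3, 1],
  [3, 1, 4, 0, 3, 3, 1],
  [0, 3, 2, 0, 1, 4, 2, 4],
  [1, 3, 3, 0, 2],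
  [0, 4, 1, 4, 0, 4, 0],
  [2, 0, 1, 0, 3, 2],
  [0, 2, 0, 4, 0, 3, 0, 1],
  [3, 2, 3, 2, 0, 2],
  [3, 2, 3, 2, 0],
  [4, 2, 3, 3, 0, 3, 3],
  [3, 0, 1, 4, 2, 4],
  [0, 2, 0, 1, 3, 1, 0, 3],
  [3, 0, 1, 4, 2, 4, 0, 3],
  [2, 0, 1, 3, 2, 3, 3],
  [3, 2, 0, 3, 3, 0],
  [3, 0, 3, 2, 4, 0, 3],
  [3, 0, 3, 2, 4, 0, 4],
  [3, 0, 3, 2, 3],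
  [4, 0, 2, 3, 0, 4],
  [3, 0, 3, 2, 3, 3, 1],
  [1, 3, 1, 0, 3, 1, 4],
  [3, 3, 0, 1, 0, 3, 1],
  [3, 1, 4, 2, 4, 0, 3],
  [3, 3, 0, 1, 0],
  [1, 3, 0, 3, 3, 2, 3],
  [2, 0, 3, 1, 4, 1, 4],
  [2, 0, 3, 1, 4, 1, 0],
  [2, 0, 3, 1, 4],
  [2, 3, 1, 0, 3, 0, 3, 3],
  [3, 0, 3, 0, 4, 1, 3],
  [3, 0, 3, 1, 3, 0, 3],
  [0, 2, 0, 4, 0, 1, 4, 1],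
  [4, 2, 4, 1, 0, 2, 0, 1],
  [4, 0, 4, 1, 0, 3],
  [1, 0, 1, 0, 2, 4, 0, 1],
  [3, 1, 3, 0, 1, 3, 1],
  [2, 0, 4, 1, 4, 2],
  [4, 2, 3, 2, 3],
  [3, 1, 3, 2, 3, 3],
  [1, 0, 4, 0, 4, 0, 1, 3],
  [0, 2, 4, 0, 2, 3, 1, 4, 2],
  [0, 2, 4, 0, 2, 3, 1, 4],
  [3, 2, 3, 1, 0, 2, 0],
  [0, 3, 1, 3, 3, 1, 3],
  [0, 2, 0, 4, 0, 3, 3, 1],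
  [0, 2, 0, 4, 0, 4],
  [0, 2, 0, 4, 0, 3],
  [3, 3, 0, 3, 1, 0, 2],
  [1, 4, 2, 4, 2, 4],
  [0, 3, 3, 0, 2, 3, 2, 4],
  [0, 2, 0, 3, 2, 4, 2, 4],
  [0, 2, 0, 3, 2, 0, 1],
  [3, 2, 0, 3, 0, 2, 3],
  [1, 4, 0, 1, 0, 1],
  [3, 3, 0, 4, 0, 2],
  [3, 3, 0, 4, 0],
  [3, 3, 0, 4, 0, 1, 4],
  [1, 0, 1, 0, 3, 2],
  [4, 0, 3, 3, 0, 2],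
  [0, 1, 0, 2, 4, 0, 3, 1],
  [3, 3, 2, 3, 0, 4, 2, 4],
  [3, 3, 1, 4, 2, 4, 1],
  [4, 0, 2, 0, 4, 1],
  [4, 0, 1, 0, 1],
  [3, 3, 2, 0, 3],
  [0, 2, 4, 0, 2, 3],
  [0, 2, 4, 0, 2, 3, 1],
  [0, 1, 0, 2, 0, 3, 3, 2, 4],
  [4, 2, 3, 3, 2, 4],
  [2, 0, 3, 1, 0],
  [2, 0, 2, 0, 3, 0],
  [3, 1, 4, 1, 4, 2, 0],
  [0, 1, 0, 1, 0, 4, 2],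
  [0, 1, 0, 1, 0, 4],
  [0, 1, 0, 1, 0, 4, 1, 4],
  [3, 2, 3, 3, 0, 1],
  [0, 3, 2, 0, 3, 3, 1, 4],
  [0, 3, 2, 0, 3, 3, 0, 4],
  [0, 2, 0, 4, 0, 2, 0, 2],
  [4, 2, 3, 1, 3, 2, 3],
  [1, 4, 1, 4, 0, 4],
  [2, 0, 3, 1, 3, 0, 1],
  [4, 2, 3, 2, 3, 0, 4],
  [1, 0, 2, 3, 2, 4, 0, 4],
  [1, 0, 2, 3, 3, 1, 3],
  [1, 0, 1, 4, 0, 1, 0],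
  [3, 1, 3, 0, 2, 0, 3],
  [0, 1, 0, 4, 1, 0, 4, 0],
  [0, 3, 0, 1, 3, 3, 1],
  [0, 3, 0, 1, 3, 3, 2],
  [0, 3, 0, 1, 4],
  [0, 3, 0, 1, 3],
  [4, 0, 1, 4, 1, 3, 1],
  [4, 0, 1, 0, 2, 4, 2],
  [0, 4, 1, 0, 2, 3, 2],
  [3, 1, 3, 2, 4, 1, 4],
  [0, 3, 0, 2, 3, 2],
  [1, 4, 2, 4, 2, 3, 1, 0],
  [0, 1, 0, 2, 0, 3, 3, 2],
  [2, 3, 0, 1, 3, 0, 4],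
  [4, 0, 2, 3, 3, 1, 0, 1],
  [0, 3, 2, 0, 3, 3],
  [0, 3, 2, 0, 3, 1, 0],
  [0, 3, 2, 0, 3, 2, 4, 1],
  [2, 3, 1, 0, 3, 0, 4],
  [2, 3, 0, 4, 0, 1, 0],
  [4, 0, 4, 0, 1, 0, 1, 4],
  [2, 3, 0, 4, 0, 3, 0],
  [0, 4, 2, 0, 1, 3, 1],
  [3, 1, 3, 0, 3, 1, 3],
  [3, 0, 4, 1, 3, 3, 0, 3, 3],
  [3, 0, 4, 1, 3, 3, 0],
  [2, 0, 3, 1, 3, 3, 0, 4],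
  [4, 0, 2, 3, 1, 3, 2],
  [4, 0, 2, 3, 1, 3],
  [0, 2, 4, 2, 4, 2],
  [0, 3, 0, 2, 3, 0, 4],
  [3, 1, 3, 3, 1],
  [3, 1, 3, 3, 1, 0, 3],
  [3, 1, 3, 3, 1, 0, 4],
  [4, 0, 4, 1, 3, 1, 3],
  [0, 2, 0, 3, 0, 1, 0, 1],
  [2, 3, 1, 4, 0, 4, 0],
  [2, 0, 3, 2, 3, 2, 0],
  [1, 0, 1, 4, 2, 0, 4],
  [3, 0, 3, 1, 3, 0],
  [3, 3, 0, 1, 3, 0],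
  [1, 4, 1, 3, 1, 3, 0],
  [1, 3, 2, 0, 3, 0, 3, 0],
  [3, 2, 3, 2, 0, 1, 3, 2],
  [0, 3, 0, 3, 0, 3, 2, 0],
  [2, 0, 2, 0, 4, 0, 4, 2],
  [0, 4, 0, 3, 3, 0, 3],
  [3, 3, 1, 0, 4, 0, 4],
  [3, 1, 3, 3, 1, 3, 0],
  [3, 1, 3, 3, 1, 3, 0, 1],
  [0, 4, 2, 0, 1, 4],
  [2, 0, 2, 3, 2, 3, 0],
  [3, 1, 3, 1],
  [3, 1, 3, 1, 0, 2],
  [3, 1, 3, 1, 0, 3],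
  [3, 3, 0, 2, 3, 0, 1],
  [3, 2, 3, 3, 0, 2, 4],
  [3, 1, 3, 2, 3, 0],
  [3, 3, 0, 2, 0],
  [2, 0, 2, 4, 1, 4, 2],
  [2, 0, 2, 4, 1, 4],
  [1, 3, 2, 3, 3, 1],
  [3, 0, 3, 0, 4, 1, 4, 1],
  [2, 0, 1, 0, 2, 3, 0],
  [0, 2, 3, 2, 4, 2, 0, 4, 0],
  [4, 2, 3, 0, 3, 1],
  [1, 4, 2, 0, 1, 0, 1],
  [1, 4, 2, 0, 1, 0, 4],
  [4, 0, 3, 0, 1],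
  [1, 4, 2, 0, 1, 3, 2],
  [2, 0, 2, 3, 3, 1, 4, 2],
  [1, 4, 0, 3, 3, 2],
  [2, 0, 2, 0, 3, 3],
  [0, 3, 2, 3, 0, 2, 0],
  [0, 1, 4, 0, 1, 3, 3, 2],
  [1, 3, 2, 0, 1, 3, 3],
  [0, 4, 0, 3, 1, 3, 0],
  [3, 0, 3, 1, 4],
  [3, 0, 3, 1, 3],
  [3, 3, 1, 3, 1, 3, 0],
  [3, 0, 3, 0, 3, 1, 4],
  [3, 3, 1, 3, 1],
  [1, 4, 0, 1, 0, 2, 0, 2],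
  [1, 3, 3, 0, 2, 0, 3],
  [1, 4, 1, 0, 3, 1],
  [0, 4, 0, 2, 3, 1, 3, 1],
  [3, 0, 1, 3, 1, 4, 1],
  [0, 3, 0, 3, 0, 2, 3, 0],
  [4, 0, 2, 3, 0, 1, 3],
  [3, 2, 0, 2, 4],
  [3, 2],
  [3, 2, 0, 4],
  [1, 4, 0, 3, 3, 2, 3],
  [4, 2, 3, 0, 3, 2],
  [3, 3, 1, 0, 4, 0, 3],
  [2, 0, 2, 3, 2, 4, 2, 4],
  [0, 1, 4, 0, 1, 3, 3, 1],
  [0, 2, 0, 2, 4, 0, 3],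
  [3, 2, 3, 1, 0, 2, 3, 3],
  [1, 3, 2, 0, 2, 3, 0],
  [1, 4, 0, 2, 4, 0, 3],
  [0, 2, 4, 1, 0, 2, 0, 3],
  [1, 4, 2, 4, 0],
  [1, 4, 2, 4, 0, 1],
  [1, 3, 2, 0, 3, 2, 0],
  [3, 2, 3, 1, 0, 1, 4, 0],
  [4, 0, 2, 0, 1, 0, 3],
  [2, 3, 0, 4, 1, 4, 0],
  [0, 3, 1, 4, 1, 0, 4, 1],
  [3, 0, 1, 4, 2, 3, 0, 4],
  [0, 4, 2, 0, 3, 0, 1, 3],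
  [1, 3, 0, 1, 3, 3, 0, 3],
  [4, 0, 1, 3, 0, 1, 3],
  [2, 0, 2, 0, 4, 1, 3],
  [2, 0, 1, 4, 2, 3, 0],
  [0, 3, 3, 2, 3, 2, 0, 3],
  [3, 1, 3, 2, 0, 3, 3, 2],
  [3, 1, 3, 2, 0, 3, 3],
  [3, 1, 3, 0, 4, 0],
  [1, 0, 1, 0, 2, 0, 1, 4],
  [2, 3, 1, 4, 2, 4, 2, 3],
  [1, 3, 0, 1, 3, 2, 4],
  [1, 4, 0, 2, 3, 3, 0],
  [1, 3, 3, 0, 2, 0, 3, 2],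
  [0, 1, 0, 1, 3, 0, 4, 1],
  [4, 0, 1, 3, 3, 0],
  [0, 1, 0, 3, 1, 0, 4, 0],
  [0, 2, 3, 3, 2, 4, 1],
  [0, 3, 3, 2, 4, 1],
  [4, 0, 4, 0, 2, 3],
  [1, 3, 0, 1, 0],
  [0, 1, 0, 4, 2, 4],
  [0, 1, 0, 4, 2, 4, 1],
  [0, 4, 2, 3, 0, 1, 3],
  [3, 2, 3, 0, 4, 1, 0],
  [1, 3, 3, 0, 2, 4, 0],
  [3, 3, 2, 0, 4, 1, 0],
  [0, 1, 0, 3, 2, 3, 2, 4],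
  [0, 4, 1, 4, 2, 4, 0, 3],
  [3, 2, 0, 2, 4, 1, 4, 2],
  [2, 0, 2, 4, 1, 0, 3],
  [0, 2, 4, 0, 2, 3, 1, 0],
  [0, 3, 0, 2, 3, 0, 2],
  [0, 3, 0, 2, 3, 0],
  [1, 3, 1, 0, 1],
  [1, 3, 1, 0, 1, 3, 3],
  [4, 2, 0, 3, 0, 3],
  [0, 4, 2, 4, 0, 4],
  [0, 3, 0, 2, 0, 2, 0],
  [4, 0, 3, 1, 4, 1],
  [1, 3, 2, 0, 2, 4, 1],
  [3, 1, 3, 1, 0, 3, 1],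
  [4, 0, 1, 4, 1, 0, 4],
  [4, 0, 1, 4, 1, 0, 3],
  [4, 0, 1, 0, 2, 0, 3],
  [1, 3, 0, 3, 2, 0, 4],
  [4, 2, 3, 3, 1, 3, 2],
  [1, 3, 0, 4, 2, 0, 1],
  [1, 0, 4, 2, 3, 3, 0, 2],
  [1, 0, 4, 2, 3, 3, 0],
  [2, 3, 0, 3, 1, 4, 2],
  [0, 3, 0, 1, 4, 0],
  [1, 4, 2, 3, 1, 3, 3, 0],
  [4, 0, 3, 0, 4],
  [3, 3, 0, 4, 2, 0, 2],
  [0, 4, 2, 0, 4, 2, 3, 1],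
  [1, 0, 3, 0, 4, 1, 0],
  [0, 4, 2, 0, 4, 2],
  [0, 1, 4, 0, 1, 3, 0, 3],
  [1, 4, 2, 0, 3, 0],
  [1, 4, 2, 4, 0, 3],
  [3, 3, 0, 4, 0, 1, 4, 1],
  [4, 2, 4, 2, 4, 2, 3],
  [1, 4, 2, 0, 3, 2, 4],
  [3, 1, 3, 2, 3, 2, 0],
  [2, 0, 4, 2, 0, 1, 0, 3],
  [4, 0, 1, 0, 2, 0, 1],
  [0, 1, 0, 2, 4],
  [0, 1, 0, 2, 4, 0, 3],
  [0, 1, 0, 2, 4, 0, 4],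
  [1, 0, 4, 0, 1, 4, 2],
  [0, 1, 0, 2, 4, 0, 1, 4],
  [1, 0, 1, 0, 2, 0, 2],
  [1, 0, 1, 3, 3, 0, 2],
  [1, 3, 1, 0, 1, 0, 1, 3],
  [3, 0, 1, 3, 2, 4],
  [1, 4, 1, 3, 1, 3],
  [4, 1, 0, 1, 3, 2],
  [1, 4, 1, 3, 0, 4],
  [1, 4, 1, 3],
  [1, 4, 1, 3, 0, 2],
  [1, 0, 4, 1, 0, 1, 3],
  [2, 3, 0, 4, 0, 3, 2, 0],
  [4, 0, 4, 0, 3, 1, 3],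
  [0, 2, 0, 3, 1, 3],
  [3, 1, 3, 0, 1, 3, 0],
  [2, 0, 4, 2, 0, 1, 0],
  [1, 4, 2, 0, 4, 0, 3],
  [2, 0, 3, 2, 3, 3],
  [0, 1, 0, 3, 1, 4],
  [1, 4, 1, 3, 3, 0, 1],
  [1, 3, 0, 1, 3, 3],
  [1, 3, 0, 1, 3, 3, 1],
  [3, 0, 1, 3, 1, 4, 0],
  [1, 3, 3, 0, 1, 3, 3],
  [1, 4, 1, 0, 4, 0],
  [3, 0, 4, 0, 3, 1],
  [4, 0, 2, 0, 1, 3],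
  [4, 0, 2, 0, 1, 3, 0, 3],
  [1, 3, 0, 1, 4, 2],
  [1, 0, 3, 2, 0, 3, 0],
  [2, 3, 1, 3, 0, 3, 1],
  [2, 3, 0, 4, 0, 3, 3],
  [1, 3, 3],
  [1, 3, 3, 0, 3, 1, 0],
  [1, 3, 3, 0, 3, 1, 3],
  [1, 3, 3, 0, 3, 1, 4],
  [4, 0, 3, 1, 0, 2, 4],
  [4, 0, 3, 1],
  [4, 0, 3, 1, 0, 3],
  [4, 0, 3, 1, 4, 1, 3],
  [4, 2, 3, 1, 3],
  [4, 0, 3, 0, 3, 3, 1],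
  [1, 4, 2, 0, 1, 0, 1, 4],
  [2, 3, 1, 0, 1, 4, 0],
  [3, 1, 3, 0, 1, 0, 3],
  [1, 0, 3, 1, 3, 2, 0, 3],
  [3, 1, 4, 1, 4, 0],
  [4, 0, 1, 3, 3, 1, 0],
  [1, 3, 1, 0, 1, 3],
  [3, 0, 3, 2, 3, 1],
  [4, 2, 3, 0, 1],
  [4, 0, 1, 3, 1, 3],
  [3, 2, 0, 1, 0, 2, 4, 1],
  [0, 3, 2, 0, 3, 3, 2],
  [4, 2, 3, 3, 2, 3],
  [3, 3, 2, 4, 0, 3, 2],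
  [3, 3, 2, 4, 0, 3],
  [1, 0, 3, 0, 1, 4, 2, 4, 1],
  [3, 0, 3, 0, 4, 2, 0],
  [4, 0, 1, 3, 3, 0, 2],
  [0, 4, 0, 3, 3, 2, 3],
  [1, 4, 0, 4, 1, 0, 1, 4],
  [0, 3, 2, 0, 2, 0, 4, 2],
  [2, 0, 1, 3, 3, 1, 4, 1],
  [2, 0, 4, 1, 0, 3, 3],
  [4, 0, 4, 1, 0, 1, 4],
  [0, 3, 3, 0, 1, 0],
  [3, 0, 4, 1, 3, 3, 1, 3],
  [4, 2, 0, 2, 3, 1, 0],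
  [2, 0, 2, 3, 0, 3, 3, 2],
  [0, 4, 1, 0, 4, 0, 4, 0],
  [1, 4, 1, 4, 2, 0],
  [0, 4, 2, 4, 0, 1, 0],
  [1, 4, 0, 4, 2, 4, 2],
  [3, 3, 2, 4, 0, 2],
  [1, 4, 1, 3, 3, 0, 2],
  [1, 0, 3, 3, 2, 4, 1],
  [3, 0, 4, 0, 2, 3, 2],
  [0, 2, 3, 2, 0, 2, 3, 3],
  [0, 2, 4, 2, 0, 1, 3, 3],
  [1, 0, 3, 1, 3, 0, 2, 4],
  [1, 0, 3, 1, 3, 0, 3],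
  [2, 0, 2, 0, 4, 0, 4],
  [2, 0, 2, 0, 4],
  [0, 4, 2, 4, 0, 4, 0],
  [0, 3, 2, 4, 2, 0, 1, 4],
  [1, 3, 1, 3, 1, 0],
  [1, 0, 2, 0, 3],
  [2, 0, 4, 2, 0, 3],
  [0, 2, 0, 2, 4, 1, 0],
  [1, 0, 1, 3, 3, 2, 0],
  [0, 3, 3, 2, 3, 2, 0, 3, 2],
  [1, 4, 0, 1, 3, 0],
  [1, 3, 3, 1, 3, 1, 3],
  [4, 0, 3, 3, 0],
  [0, 3, 1, 3, 3, 2, 3, 3],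
  [0, 3, 1, 4, 0, 1, 4],
  [0, 2, 4, 1, 3, 2],
  [0, 2, 3, 1, 0, 2, 0, 1],
  [3, 1, 4, 2, 3, 3, 2],
  [0, 3, 3, 0, 2, 3, 2],
  [0, 3, 3, 0, 2, 3],
  [0, 4, 0, 3, 2, 4],
  [0, 1, 0, 3, 3, 2],
  [0, 3, 2, 4, 1, 0, 4],
  [0, 4, 1, 4],
  [0, 4, 1, 4, 1, 3],
  [1, 3, 3, 1, 0, 3, 3],
  [0, 4, 1, 4, 1, 3, 3, 2],
  [3, 2, 0, 3, 2, 3, 0],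
  [2, 0, 2, 3, 0, 2, 0],
  [3, 2, 3, 0, 2, 0, 2],
  [4, 0, 3, 0, 3, 1, 3],
  [2, 0, 3, 0, 1, 4],
  [2, 0, 2, 4, 0],
  [2, 0, 2, 4, 0, 1],
  [0, 2, 0, 2, 4, 2, 4],
  [0, 3, 0, 3, 2, 4, 1, 0],
  [2, 0, 3, 2, 3, 2, 3, 3],
  [3, 1, 3, 0, 2, 0, 3, 1],
  [3, 1, 4, 1, 4, 1, 0],
  [4, 0, 3, 3, 2, 3, 3],
  [3, 1, 3, 3, 0, 2, 4],
  [3, 3, 0, 1, 4, 0, 4],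
  [4, 0, 3, 3, 2, 4, 2],
  [0, 3, 3, 0, 4, 1, 0, 4],
  [3, 0, 3, 2, 0, 3, 3, 2],
  [1, 4, 0, 4],
  [3, 3, 0, 3, 1],
  [0, 3, 0, 3, 2],
  [0, 3, 0, 2, 0, 1, 0, 1],
  [4, 0, 3, 1, 3, 0, 3],
  [2, 3, 0, 4, 1, 4, 1],
  [0, 2, 4, 2, 4, 1, 3],
  [3, 2, 4, 0, 2, 0, 4],
  [3, 1, 3, 1, 4, 1],
  [2, 3, 1, 3, 0, 1, 4],
  [0, 2, 0, 3, 2, 0, 4, 0],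
  [2, 3, 0, 4, 1, 0, 3, 1],
  [1, 3, 2, 3, 3, 0, 2],
  [0, 3, 1, 4, 1, 3, 0],
  [2, 0, 2, 3, 3, 2],
  [0, 2, 0, 2, 3, 1, 3, 2],
  [2, 0, 2, 3, 3, 2, 0, 3],
  [1, 3, 1, 0, 3, 1, 3],
  [1, 3, 2, 4, 0, 1, 3, 1],
  [1, 4, 1, 4, 0],
  [1, 4, 1, 4, 0, 3, 1, 3],
  [0, 2, 3, 2, 0, 3, 3, 0],
  [1, 3, 0, 1, 3, 3, 1, 3],
  [2, 0, 1, 3, 3, 1, 0],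
  [1, 4, 1, 4, 0, 2, 3, 3],
  [2, 3, 0, 4, 0, 1, 3],
  [1, 4, 2, 0, 2, 0, 1, 3],
  [2, 0, 2, 3, 0, 4, 0],
  [1, 3, 1, 0, 4, 0, 4, 1],
  [1, 0, 1, 3, 3],
  [1, 0, 1, 0, 1, 3],
  [2, 0, 3, 2, 3],
  [2, 0, 3, 2, 3, 0, 3],
  [4, 2, 0, 2, 3, 2],
  [0, 2, 0, 4, 0, 3, 0],
  [2, 3, 1, 4, 2, 3, 1],
  [0, 1, 0, 2, 3, 1, 4, 0],
  [0, 2, 0, 1, 0, 3, 1, 3],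
  [3, 0, 3, 0, 1, 4, 2, 4],
  [0, 2, 0, 1, 4, 0],
  [0, 2, 0, 1, 4, 0, 2, 0],
  [3, 1, 3, 2, 0, 2],
  [2, 0, 1, 0, 4, 1],
  [1, 3, 2, 3, 3, 0],
  [1, 4, 1, 0, 2],
  [1, 4, 1, 0, 2, 3, 3],
  [2, 0, 1, 0, 2, 0],
  [3, 3, 2, 4, 0, 1],
  [0, 3, 1, 3, 3, 1, 4],
  [0, 3, 0, 3, 1, 3, 1, 3],
  [3, 2, 0, 3, 1, 4],
  [1, 0, 3, 0, 4, 0],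
  [0, 1, 0, 4, 0, 4, 0, 2],
  [0, 2, 3, 3, 2, 3, 3],
  [0, 3, 3, 1, 4, 0, 4],
  [0, 2, 3, 3, 0, 3, 2, 3],
  [3, 1, 4, 2, 3, 3, 0],
  [2, 0, 4, 2, 0, 2, 0],
  [2, 0, 4, 2, 0],
  [2, 0, 4, 2, 0, 1],
  [0, 2, 0, 2, 3, 3, 1],
  [0, 4, 1, 4, 2, 0],
  [1, 0, 1, 4, 0, 3, 1],
  [0, 2, 3, 3, 1, 4, 0],
  [0, 2, 4, 2, 0, 2],
  [4, 1, 0, 2, 4, 2],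
  [1, 4, 0, 1, 3, 0, 4],
  [0, 4, 2, 0, 2, 3, 3, 2],
  [1, 0, 1, 3, 0, 3, 0, 1],
  [0, 1, 0, 1, 0, 2],
  [0, 1, 0, 1, 0],
  [1, 0, 4, 1, 0, 3],
  [1, 0, 4, 1, 0, 3, 1],
  [4, 0, 4, 0, 3, 3, 2],
  [0, 4, 2, 4, 0, 4, 0, 3],
  [0, 3, 1, 3, 1, 0, 4, 0],
  [1, 0, 3, 0, 4],
  [1, 0, 3, 0, 4, 1],
  [1, 3, 1, 4, 1, 4],
  [4, 0, 2, 3, 2, 4, 0],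
  [1, 0, 4, 1, 3, 3, 0, 4],
  [3, 0, 4, 1, 4, 1, 3, 3],
  [3, 0, 4, 1, 4, 1],
  [0, 4, 0, 3, 3, 0, 4, 0],
  [0, 1, 4, 1, 4, 2, 0, 4],
  [3, 0, 3, 1, 3, 1],
  [0, 3, 3, 0, 4, 1, 0],
  [0, 3, 3, 0, 4, 2],
  [0, 3, 3, 0, 4],
  [3, 2, 0, 4, 1, 3],
  [4, 0, 4, 0, 4],
  [4, 0, 4, 2, 4, 2],
  [4, 0, 2, 3, 0, 4, 2],
  [4, 0, 2, 0],
  [4, 0, 2, 0, 1],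
  [4, 0, 2, 0, 2, 3],
  [4, 0, 2, 0, 2, 4],
  [1, 0, 4, 0, 4, 2, 3],
  [1, 0, 4, 0],
  [1, 0, 4, 0, 3, 3],
  [0, 2, 4, 1, 4, 1],
  [0, 2, 4, 1, 4, 1, 0, 2],
  [1, 3, 0, 2, 0, 4, 1, 3],
  [3, 1, 0, 2, 0, 3, 2, 4],
  [0, 2, 4, 1, 0, 2, 0],
  [4, 0, 2, 0, 1, 4],
  [2, 3, 1, 4, 2, 4, 1],
  [1, 3, 1, 4, 0, 3, 2],
  [1, 3, 1, 4, 0, 3, 3, 1],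
  [1, 0, 3, 3, 2, 0, 4, 0],
  [1, 3, 0, 1, 3, 3, 1, 4],
  [0, 4, 2, 4, 1, 3, 0, 1],
  [0, 4, 2, 4, 1, 3, 0, 2],
  [3, 1, 0, 1, 3, 0, 4],
  [3, 1, 0, 1, 3, 0, 3],
  [0, 4, 2, 4, 1, 3, 3, 1],
  [0, 3, 1, 4, 0, 1, 4, 0],
  [1, 3, 0, 4, 0, 1, 0],
  [4, 0, 1, 3, 0],
  [1, 4, 1, 0, 3],
  [1, 4, 1, 0, 3, 0, 3],
  [0, 3, 0, 3, 0, 1, 3, 2],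
  [1, 4, 0, 1, 0, 3, 1],
  [0, 2, 3, 3, 1, 3, 3, 1],
  [1, 0, 3, 0, 1, 0, 3],
  [1, 0, 3, 0, 1, 0, 4],
  [0, 2, 3, 3, 1, 3, 1],
  [0, 4, 1, 0, 4, 2],
  [0, 4, 1, 0, 4],
  [3, 0, 1, 4, 2, 0, 2, 4],
  [1, 3, 0, 4, 0, 3],
  [0, 1, 0, 4, 0, 4, 0],
  [0, 1, 0, 4, 0],
  [0, 1, 0, 2, 3, 3, 1, 0],
  [1, 3, 3, 0, 1, 3],
  [1, 0, 3, 2, 4, 2, 0],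
  [0, 2, 0, 3, 2, 0, 4],
  [2, 0, 1, 4, 2, 4, 1],
  [1, 3, 1, 0, 2, 0, 4],
  [1, 0, 3, 3, 2, 3, 0, 4],
  [3, 2, 0, 2, 0, 1, 4],
  [3, 3, 1, 3, 0, 2, 4],
  [1, 0, 4, 1, 0, 4, 2],
  [1, 0, 3, 3, 1, 3, 0, 3],
  [2, 0, 4, 1, 4, 1, 0, 4],
  [0, 2, 3, 0, 3, 0, 3, 2, 3],
  [2, 3, 2, 4, 2, 0, 1, 3],
  [3, 3, 2, 4, 0, 3, 3, 0],
  [1, 3, 3, 1, 0, 2],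
  [0, 3, 0, 1, 4, 0, 4, 0, 3],
  [4, 2, 4, 1, 0, 1],
  [3, 1, 4, 1, 0, 1],
  [1, 4, 1, 0, 1, 0],
  [0, 3, 3, 2, 4],
  [1, 0, 4, 2, 4, 2, 4, 2],
  [1, 3, 0, 1, 4, 2, 4],
  [3, 3, 2, 3, 0, 4],
  [3, 3, 2, 3, 0, 4, 1],
  [3, 2, 3, 1, 0, 2],
  [3, 2, 3, 1, 0],
  [4, 0, 3, 3, 1, 3],
  [3, 2, 3, 0, 4, 2, 4],
  [3, 0, 1, 4, 2, 0, 2, 0],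
  [0, 4, 0, 4, 0, 3, 3, 2],
  [1, 4, 1, 4, 1, 4, 1, 0],
  [2, 3, 1, 4, 2, 0, 2],
  [3, 3, 0, 2, 0, 1],
  [0, 1, 0, 1, 3, 0],
  [2, 0, 2, 4, 0, 4],
  [1, 3, 1, 0, 3],
  [0, 2, 3, 2, 0, 3, 2],
  [3, 2, 4, 0, 1],
  [0, 3, 2, 4, 1, 3, 3],
  [0, 1, 0, 3, 1, 0],
  [0, 3, 3, 0, 3, 3, 1],
  [0, 3, 3, 0, 3],
  [4, 0, 1, 3, 3],
  [4, 0, 1, 3, 1, 0],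
  [0, 3, 2, 0, 1, 4, 0],
  [3, 0, 4, 1, 0],
  [3, 0, 4, 1, 0, 1],
  [0, 3, 2, 0, 1, 0, 3],
  [0, 3, 2, 0, 2, 0],
  [0, 3, 2, 0, 2, 4],
  [0, 4, 1, 0, 2, 0, 1],
  [0, 1, 0, 4, 1, 4, 2],
  [0, 4, 1],
  [0, 4, 1, 0, 3],
  [0, 4, 1, 0, 1, 4],
  [3, 0, 4, 2, 3, 0],
  [3, 3, 1, 3, 2, 3, 0],
  [0, 2, 3, 1, 0, 2, 0, 3],
  [0, 2, 3, 1, 0, 1, 4],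
  [0, 3, 0, 2, 3, 2, 0, 3],
  [0, 4, 1, 0, 1, 4, 2],
  [1, 3, 3, 1, 0, 4, 0, 3],
  [3, 0, 4, 0, 1, 0],
  [1, 3, 0, 3, 2, 0, 4, 1],
  [0, 3, 3, 2, 3, 2, 4, 0],
  [1, 0, 4, 0, 2, 3, 0],
  [1, 0, 4, 1, 0, 3, 3],
  [3, 1, 0, 1, 3, 0, 4, 2],
  [3, 3, 1, 3, 1, 0],
  [3, 0, 1, 4, 1],
  [1, 0, 2, 0, 3, 2, 0],
  [3, 0, 1, 4, 2, 3],
  [3, 3, 0, 4, 0, 4, 2],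
  [3, 0, 4, 0, 1, 0, 2],
  [0, 3, 1, 3, 2, 0, 2, 0],
  [3, 3, 2, 0, 2, 4, 0],
  [3, 3, 2, 0, 2],
  [2, 0, 1, 0, 1, 3],
  [4, 2, 0, 3, 2, 4],
  [4, 2, 0, 3, 2, 3],
  [0, 3, 0, 3, 1, 0, 2, 4],
  [3, 3, 2, 4, 0, 2, 4],
  [1, 4, 1, 0, 3, 3, 2, 0],
  [1, 3, 3, 0, 3, 1, 4, 0],
  [1, 0, 4, 2, 3, 3, 2, 3],
  [1, 0, 1, 3, 0, 3, 0, 3],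
  [0, 3, 2, 0, 1, 4, 2, 0],
  [3, 3, 2, 0, 1, 0, 1],
  [0, 2, 0, 3, 1, 3, 3, 2, 4],
  [2, 0, 3, 0, 1, 4, 1],
  [2, 3, 2, 0, 2, 4, 0, 2],
  [0, 3, 3, 2, 3, 3, 2, 3],
  [3, 3, 1, 3, 2, 4, 2, 4],
  [0, 1, 0, 1, 0, 3, 0],
  [0, 2, 0, 3, 1, 0],
  [4, 1, 0, 3, 3, 1, 4],
  [4, 1, 0, 3, 3, 1, 3],
  [4, 1, 0, 2, 0, 3, 2],
  [4, 1, 0, 2, 0, 3],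
  [3, 3, 1, 4, 2, 3, 3],
  [2, 3, 0, 4, 0, 3, 2],
  [2, 3, 0, 4, 0, 3],
  [0, 2, 3, 2, 0, 4, 0],
  [0, 2, 3, 2, 0, 3, 0],
  [1, 0, 3, 1, 3, 3, 1],
  [0, 1, 0, 3, 1, 4, 1, 3, 0],
  [0, 1, 0, 4, 1, 4, 1, 0],
  [0, 1, 0, 4, 1, 4],
  [0, 4, 0, 3, 3, 0, 1, 0],
  [3, 1, 4, 0, 4, 0],
  [0, 4, 0, 3, 3, 0],
  [1, 0, 1, 3, 0, 4],
  [1, 0, 1, 3, 0, 4, 1],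
  [4, 2, 0, 3, 2],
  [0, 4, 0, 3, 0, 2, 3],
  [1, 3, 3, 1, 3, 1, 4],
  [3, 0, 4, 0, 2, 3, 0],
  [3, 1, 4, 0, 4, 1, 4],
  [0, 2, 0, 3, 0],
  [0, 2, 0, 3, 0, 1],
  [3, 3, 2, 0, 1, 0, 4, 2],
  [3, 3, 2, 0, 1, 0],
  [0, 1, 0, 3, 2, 0, 4],
  [2, 0, 2, 3, 2, 4],
  [3, 1, 3, 2, 0, 4, 0, 2],
  [3, 3, 0, 4, 0, 3, 3],
  [2, 0, 1, 0, 1, 3, 1],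
  [0, 2, 0, 3, 0, 4, 0, 2],
  [1, 0, 3, 2, 4, 2, 3, 1],
  [0, 3, 1, 3, 2, 3, 2],
  [0, 1, 4, 0, 2, 3, 2, 0],
  [4, 0, 2, 3, 0, 2, 0],
  [3, 3, 2, 3, 1, 0, 4],
  [3, 0, 3, 2, 0, 3],
  [2, 3, 1, 4, 0, 4, 0, 4],
  [0, 4, 2, 0, 2, 4],
  [3, 1, 3, 0, 2, 0],
  [0, 3, 0, 4, 0, 1],
  [0, 3, 0, 4, 0, 2],
  [0, 3, 0, 4, 0, 3, 3, 1],
  [3, 1, 4, 0, 3, 1, 0],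
  [1, 4, 0],
  [1, 4, 0, 1],
  [1, 4, 0, 2, 4],
  [1, 4, 0, 1, 4],
  [1, 4, 0, 1, 3],
  [0, 3, 1, 4, 0, 4, 2],
  [1, 4, 0, 2, 0, 2, 3],
  [0, 3, 0, 1, 4, 0, 4, 1],
  [0, 2, 4, 1, 4, 1, 4],
  [0, 2, 0, 1, 3, 3, 1, 0],
  [0, 2, 0, 3, 1, 0, 4, 2, 4],
  [1, 4, 2, 4, 2, 3],
  [2, 3, 1, 4, 2, 3, 1, 4],
  [0, 3, 0, 3, 3, 0, 4, 2],
  [0, 3, 0, 3, 3, 0, 4],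
  [4, 0, 4, 1, 0, 4],
  [2, 3, 2, 4, 0, 3, 3, 1],
  [2, 3, 1, 4, 2, 4, 2, 4],
  [0, 4, 2, 0, 4],
  [2, 0, 2, 3, 0, 1],
  [1, 4, 2, 4, 1, 3, 0],
  [1, 3, 3, 2, 0, 2, 4],
  [0, 3, 3, 0, 3, 2, 3],
  [0, 1, 0, 3, 1],
  [3, 0, 4, 2, 3, 2, 3],
  [1, 0, 2, 3, 1, 0, 1, 4],
  [4, 0, 4, 0, 2, 3, 1],
  [1, 4, 1, 4, 1],
  [1, 0, 4, 2, 3, 1, 3],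
  [1, 0, 1, 3, 0, 3],
  [1, 0, 1, 3, 0, 3, 1],
  [2, 3, 0, 4, 1, 3],
  [0, 2, 0, 1, 3, 3],
  [1, 0, 1, 0, 3, 2, 3],
  [3, 3, 0, 3, 0, 1],
  [1, 4, 1, 4, 1, 4, 1, 4],
  [1, 0, 3, 0, 1, 0, 3, 3],
  [1, 3, 2, 4, 0, 3, 2, 3],
  [0, 4, 0, 1, 0, 2, 3, 3],
  [0, 2, 0, 3, 0, 3, 0],
  [0, 2, 0, 3, 2, 4],
  [0, 2, 0, 3, 2, 3],
  [1, 4, 1, 0, 4, 2, 4],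
  [1, 4, 2, 0, 4, 1],
  [0, 2, 4, 1, 0, 2, 0, 1],
  [3, 1, 3, 0, 3, 0, 4],
  [0, 4, 0, 4, 1, 4],
  [1, 3, 1, 4, 0],
  [0, 2, 0, 1, 0, 1],
  [3, 3, 1, 0, 3, 3, 1],
  [0, 2, 4, 2, 0, 4, 1],
  [1, 3, 1, 3, 0, 2, 0],
  [3, 0, 4, 2, 3, 2],
  [3, 0, 4, 2, 3],
  [0, 3, 2, 0, 4, 0, 2, 0],
  [1, 3, 0, 3, 1, 3, 3, 2],
  [1, 3, 0, 3, 1, 4],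
  [0, 4, 0, 1, 4, 1, 3],
  [2, 3, 0, 4, 2, 0, 2],
  [0, 2, 3, 1, 0, 3, 1, 0],
  [0, 2, 3, 1, 0, 3, 2],
  [1, 3, 2, 3, 3],
  [1, 3, 2],
  [0, 1, 0, 4, 1, 3, 0],
  [1, 3, 2, 3, 0, 2, 4],
  [2, 3, 2, 0, 4, 0, 2, 4],
  [4, 0, 3, 1, 3],
  [4, 0, 3, 1, 3, 0, 1],
  [0, 4, 0, 3, 3, 0, 4],
  [1, 0, 1, 0, 4, 0, 4, 1],
  [3, 1, 4, 0, 4, 0, 3],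
  [2, 3, 1, 4, 2, 3, 0],
  [2, 0, 2, 3, 3, 1],
  [0, 4, 1, 4, 0, 2, 0],
  [3, 2, 3, 1, 4, 0, 2],
  [3, 2, 3, 1, 4, 0],
  [4, 2, 4, 1, 4],
  [2, 3, 0, 3, 2, 0],
  [2, 3, 0, 4, 0, 1],
  [2, 3, 0, 4, 0, 4],
  [2, 3, 0, 4, 1, 0],
  [2, 3, 0, 4, 1, 4],
  [2, 3, 0, 4, 2, 3],
  [2, 0, 1, 0],
  [2, 0, 2, 0],
  [2, 0, 2, 4],
  [2, 0, 3, 0],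
  [2, 0, 3, 1],
  [2, 0, 3, 2],
  [2, 0, 4, 2],
  [1, 3, 0],
  [1, 3, 1],
  [1, 4, 1],
  [0, 2, 3, 3, 2, 0, 3],
  [2, 3, 1, 0, 1, 3, 2],
  [1, 4, 0, 1, 3, 2],
  [0, 4, 1, 4, 1, 0, 1],
  [1, 0, 2, 0, 1, 3],
  [1, 3, 0, 2, 4, 1, 3],
  [1, 3, 0, 2, 4, 1, 4],
  [2, 3, 1, 3, 0, 3, 2],
  [0, 4, 2, 3, 3, 0, 2],
  [1, 3, 0, 1, 0, 2, 3],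
  [1, 3, 2, 4, 1, 0],
  [1, 3, 2, 4, 1, 0, 1],
  [1, 4, 1, 3, 3, 1, 0],
  [2, 3, 1, 4, 0, 1, 4],
  [0, 4, 1, 4, 0],
  [1, 4, 1, 3, 2, 4, 2],
  [1, 4, 1, 3, 2, 4],
  [1, 0, 2, 3, 1, 0, 1],
  [2, 3, 1, 4, 2, 0, 1],
  [4, 0, 2, 4, 0, 3],
  [2, 3, 1, 4, 2, 3, 3],
  [3, 2, 3, 0, 3, 2],
  [2, 3, 1, 4, 2, 4, 2],
  [1, 0, 2, 3, 3, 1, 3, 1],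
  [3, 2, 0, 2, 0, 1],
  [0, 1, 0, 3, 3, 1, 3],
  [0, 1, 0, 3, 3, 1, 3, 1],
  [0, 4, 0, 1, 4, 1, 3, 0],
  [4, 0, 3, 0, 3, 0],
  [1, 3, 0, 3, 1, 3, 2],
  [4, 0, 4, 2, 4, 0, 2],
  [0, 2, 0, 2, 3, 3, 0, 2],
  [1, 4, 1, 0, 4, 2],
  [0, 1, 0, 4, 2, 3],
  [3, 2, 3, 3, 0, 2],
  [1, 3, 2, 0, 3, 0, 3, 3],
  [1, 4, 1, 0, 1, 4, 0, 3],
  [1, 0, 2, 0, 4, 0, 1],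
  [4, 2, 3, 3, 1, 3, 1],
  [3, 3, 2, 4, 0, 1, 0, 3],
  [1, 4, 2, 0, 1, 0, 1, 3],
  [0, 3, 2, 3, 0, 2],
  [0, 2, 3, 3, 0, 1, 0, 2],
  [4, 0, 2, 0, 3, 2, 4],
  [1, 3, 3, 0, 3, 1, 4, 1],
  [0, 4, 0, 3, 2, 0, 3, 2],
  [3, 2, 0, 4, 0, 4],
  [4, 0, 4, 2, 0, 2, 0],
  [0, 2, 0, 1, 0, 1, 4],
  [0, 1, 0, 1, 3, 1, 0],
  [1, 4, 2, 4],
  [1, 4, 2, 3],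
  [1, 4, 2, 3, 3, 1, 4],
  [3, 2, 0, 3, 3],
  [0, 1, 0, 1, 3, 3, 0, 3],
  [1, 0, 4, 0, 1, 4, 0, 1],
  [0, 4, 0, 2, 3, 3, 0],
  [0, 4, 0, 2, 3, 3, 0, 1],
  [3, 3, 1, 4, 1, 3, 0],
  [0, 1, 4, 0, 1, 4, 1, 4],
  [0, 1, 0, 3, 2, 0, 4, 1],
  [3, 3, 2, 3, 0, 3],
  [1, 3, 2, 4, 0, 3],
  [2, 0, 3, 3, 0, 1, 3],
  [0, 4, 0, 1, 4, 2, 0],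
  [2, 0, 4, 1, 0, 4, 1],
  [1, 0, 1, 4, 2, 0],
  [0, 2, 4, 2, 0, 1],
  [1, 3, 3, 1, 0, 4, 0],
  [4, 0, 1, 4, 1, 0],
  [3, 0, 4, 2, 0, 2],
  [0, 3, 3, 0, 1],
  [0, 3, 0, 1, 4, 0, 2],
  [4, 0, 2, 3, 3, 1, 0],
  [4, 0, 2, 3, 3, 1, 3],
  [0, 1, 0, 2, 3, 0, 2, 4],
  [1, 3, 1, 3, 1, 4],
  [0, 2, 4, 0, 1, 4, 0, 1],
  [1, 0, 3, 1, 3, 3],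
  [1, 3, 0, 4, 0, 4],
  [3, 0, 3, 0, 1, 3, 3, 2],
  [3, 2, 3, 0, 3, 2, 3],
  [1, 3, 0, 3, 1, 4, 0],
  [0, 1, 0, 3, 3, 1, 4, 2],
  [0, 1, 0, 3, 3, 1],
  [4, 0, 2, 0, 3, 1],
  [4, 0, 4, 0, 3, 0, 3, 2],
  [4, 0, 3, 2, 0, 4, 1],
  [4, 1, 3, 0, 2, 3, 0],
  [0, 3, 0, 3, 3, 2, 4, 0],
  [4, 0, 2, 3, 0, 3, 1, 3],
  [4, 1, 3, 1, 4, 2, 0, 3],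
  [4, 0, 2, 4, 1, 0, 2, 3],
  [3, 0, 3, 1, 3, 3, 0, 3],
  [3, 3, 1, 3, 2, 4, 2],
  [3, 3, 1, 3, 2, 4],
  [0, 4, 0, 3, 2, 0, 2, 4],
  [0, 3, 1, 3, 2, 3, 1],
  [0, 2, 4, 1, 4, 2],
  [1, 3, 0, 2, 0, 3, 2],
  [3, 2, 4, 0, 2],
  [4, 0, 4, 0, 2, 4],
  [4, 2, 3, 3, 2, 3, 1],
  [4, 0, 3, 1, 4, 1, 3, 2],
  [1, 0, 1, 4, 2, 0, 1, 0],
  [0, 3, 1, 3, 2, 0, 3, 2, 4],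
  [1, 0, 1, 3, 0, 3, 3, 1],
  [1, 4, 1, 3, 0, 2, 4],
  [4, 1, 3, 1, 4, 2, 0],
  [1, 4, 2, 3, 1, 3],
  [1, 4, 2, 3, 1, 4],
  [0, 2, 3, 1, 4, 1, 4],
  [2, 0, 1, 3, 3, 0],
  [2, 0, 1, 3, 3, 1],
  [0, 4, 0, 2, 0, 1],
  [4, 0, 4, 0, 4, 2],
  [0, 2, 0, 4, 0, 3, 2],
  [3, 3, 2, 4, 0, 1, 0],
  [1, 4, 1, 3, 0, 4, 2],
  [0, 2, 4, 0, 2, 0, 1, 0],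
  [0, 3, 3, 2, 4, 1, 4],
  [1, 0, 4, 2, 0, 4, 2],
  [3, 2, 3, 1, 3, 0, 3],
  [3, 2, 0, 3, 2],
  [4, 2, 0, 4, 2, 4],
  [3, 3, 0, 1, 0, 2],
  [4, 2, 3, 3, 2, 0],
  [3, 0, 1, 4, 1, 3, 3],
  [3, 1, 4, 1, 0, 2, 0],
  [3, 1, 4, 1, 0, 2, 0, 1],
  [3, 0, 2, 3, 3, 2, 3, 0],
  [0, 2, 0, 1, 4, 1, 0, 4],
  [4, 1, 0, 3, 0, 4],
  [4, 1, 0, 3, 0, 4, 1],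
  [3, 0, 3, 0, 4, 2, 0, 2],
  [0, 3, 2, 0, 2, 0, 1],
  [4, 2, 0, 1, 3, 0, 3],
  [3, 0, 1, 3, 3, 0, 2],
  [1, 3, 1, 4, 0, 3],
  [2, 0, 1, 0, 3],
  [1, 3, 0, 4, 0, 4, 1],
  [1, 0, 3, 2, 4, 2, 0, 4],
  [0, 1, 0, 2, 3, 3, 1],
  [1, 0, 3, 0, 4, 1, 3, 1],
  [1, 4, 1, 4, 0, 1, 0],
  [1, 4, 1, 4, 0, 2],
  [3, 0, 3, 2, 0, 2],
  [2, 0, 1, 0, 2, 4, 0],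
  [3, 1, 4, 2, 4],
  [1, 0, 4, 1, 0, 2],
  [0, 1, 0, 4, 2, 3, 0],
  [1, 3, 3, 1, 4, 0, 1],
  [4, 0, 2, 3, 0, 3, 3, 1],
  [4, 0, 2, 0, 3, 3],
  [1, 4, 1, 3, 0, 2, 3],
  [1, 4, 1, 3, 0, 2, 3, 1],
  [0, 1, 0, 3, 1, 4, 1, 3],
  [1, 3, 0, 2, 0, 4],
  [1, 0, 3, 0, 4, 1, 3],
  [3, 0, 1, 0, 3],
  [3, 0, 1, 0, 3, 0, 2],
  [0, 3, 0, 2, 0, 2, 3],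
  [3, 1, 4, 2, 0, 1, 4],
  [1, 3, 3, 1, 4, 0, 2],
  [1, 0, 4, 2],
  [2, 0, 1, 3, 2, 3, 1],
  [2, 0, 1, 3, 2, 3, 2],
  [0, 3, 1, 3, 0, 1, 4],
  [1, 3, 2, 4, 1, 4],
  [3, 0, 2, 3, 3, 1, 0, 3],
  [0, 2, 4, 0, 4, 2, 3, 2, 4],
  [3, 1, 4, 0, 4, 2],
  [3, 2, 3, 3, 1, 0],
  [1, 3, 2, 4],
  [0, 2, 4, 2, 0, 4],
  [3, 0, 1, 4, 1, 4, 0],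
  [3, 2, 0, 3, 2, 0],
  [4, 0, 4, 0, 2, 3, 2],
  [3, 1, 3, 3, 1, 4, 2],
  [0, 2, 0, 1, 0, 4, 1],
  [3, 1, 3, 1, 3, 0, 1],
  [4, 0, 1, 0, 2],
  [1, 4, 1, 0, 4, 0, 2],
  [3, 0, 4, 1, 0, 4, 0],
  [4, 0, 1, 0, 2, 3, 2],
  [3, 1, 3, 3, 0, 4],
  [3, 1, 3, 3, 0, 3],
  [1, 0, 1, 4, 2, 0, 2],
  [4, 1, 0, 3, 0, 2, 0],
  [1, 3, 0, 2, 0, 3, 3],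
  [3, 1, 3, 1, 4, 2, 0],
  [1, 0, 1, 0, 2, 3],
  [1, 0, 1, 0, 2, 3, 1],
  [1, 0, 1, 0, 2, 3, 2, 3],
  [2, 0, 4, 2, 3, 1, 0],
  [1, 0, 1, 0, 1, 0, 4],
  [0, 4, 2, 4, 0, 3, 2],
  [3, 2, 0, 3, 2, 4],
  [2, 0, 4, 2, 4, 1, 4, 2],
  [2, 0, 4, 2, 4, 1, 4],
  [1, 3, 1, 3, 1, 0, 1],
  [3, 1, 3, 0, 1, 0],
  [3, 0, 3, 3, 1, 0, 2],
  [0, 2, 0, 1, 0, 3],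
  [0, 2, 0, 1, 0, 3, 1],
  [0, 2, 0, 1, 0, 3, 2, 4],
  [3, 2, 0, 1, 3, 0, 3],
  [4, 2, 3, 1, 3, 1, 3],
  [4, 0, 4, 0, 2, 3, 3],
  [2, 3, 0, 1, 3, 2, 4],
  [1, 0, 1, 3, 3, 0],
  [1, 4, 2, 0, 3, 2, 0],
  [1, 3, 1, 3, 1, 4, 1],
  [0, 4, 2, 0, 2, 3, 3],
  [0, 4, 2, 0, 2],
  [4, 2, 3, 3, 0, 3],
  [0, 1, 0, 2, 4, 0, 4, 2],
  [3, 1, 4, 0, 3, 0, 2],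
  [3, 2, 3, 1, 3],
  [0, 3, 0, 3, 2, 0, 4],
  [1, 0, 2, 3, 2, 0, 2],
  [2, 0, 1, 3, 3, 2, 0],
  [1, 0, 3, 3, 2, 0, 3],
  [1, 3, 0, 4, 0],
  [1, 3, 0, 4, 1],
  [1, 3, 0, 3, 1],
  [1, 3, 0, 3, 2],
  [4, 2, 4, 0, 2, 4, 1],
  [0, 4, 2, 4, 2, 4, 0],
  [0, 2, 0, 1, 4, 2, 3, 1],
  [0, 2, 0, 3, 1, 0, 3, 3],
  [3, 1, 0, 2, 3, 3, 0],
  [1, 0, 2, 3, 3, 2, 0, 1],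
  [1, 3, 2, 0, 2, 4, 2],
  [0, 3, 2, 4, 1, 4],
  [1, 3, 2, 4, 0, 4, 0],
  [3, 1, 0, 3, 1],
  [0, 3, 0, 2, 0, 4, 2],
  [3, 1, 0, 3, 1, 3, 2],
  [1, 3, 0, 4, 0, 1],
  [1, 3, 0, 4, 0, 2, 4],
  [1, 4, 1, 4, 2, 3, 3],
  [4, 2, 4, 0, 2, 4, 2],
  [4, 2, 4, 0, 2],
  [3, 0, 1, 3, 2, 0, 1],
  [1, 4, 1, 0, 3, 2, 3],
  [2, 0, 3, 1, 0, 3],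
  [0, 1, 4, 0, 4, 0, 1],
  [1, 4, 2, 4, 2, 0, 4],
  [4, 0, 4, 0, 1, 0, 1, 3],
  [2, 0, 2, 4, 0, 1, 4, 1],
  [2, 3, 1, 4, 0, 1, 4, 0],
  [3, 2, 3, 0, 4, 1, 4],
  [3, 2, 3, 1, 0, 3, 3],
  [0, 2, 4, 1, 4, 0, 1, 0, 4],
  [0, 3, 0, 4, 0, 1, 0],
  [0, 1, 0, 3, 2],
  [0, 1, 0, 3, 2, 3, 3],
  [1, 0, 2, 3, 2, 3, 0],
  [3, 2, 3, 0, 2, 3],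
  [3, 2, 3],
  [3, 2, 3, 0, 3],
  [3, 2, 3, 0, 4],
  [3, 0, 4, 1, 3, 3, 2],
  [3, 2, 3, 0, 1, 4, 0],
  [3, 2, 3, 0, 1, 4, 1],
  [3, 2, 3, 0, 1, 4, 2],
  [3, 0, 3, 3, 1, 4, 0, 1],
  [0, 3, 2, 4, 0, 3, 0, 3],
  [3, 1, 0, 2, 4, 1],
  [3, 1, 0, 2, 4, 2, 3],
  [1, 4, 2, 4, 1, 4, 2],
  [4, 1, 3, 2, 3, 0, 4],
  [3, 0, 4, 2, 3, 2, 4],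
  [4, 0, 3, 1, 4, 2],
  [0, 2, 0, 4, 1, 0, 4, 1],
  [1, 0, 2, 3, 3, 0, 3, 1],
  [0, 1, 0, 2, 0, 3, 2],
  [0, 1, 0, 2, 0, 3],
  [1, 4, 1, 4, 2],
  [1, 0, 3, 2, 3, 3, 2],
  [3, 1, 3, 3, 0],
  [3, 2, 0, 4, 2, 3, 1],
  [4, 0, 1, 3, 0, 1],
  [1, 3, 2, 0, 2, 0],
  [0, 2, 0, 2, 0, 3, 2],
  [0, 2, 4, 0, 4, 0, 1, 4],
  [2, 0, 1, 4, 2, 4, 0],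
  [3, 2, 3, 0, 2, 3, 0],
  [1, 0, 4, 1, 4, 0],
  [1, 0, 4, 1],
  [0, 2, 0, 2, 3, 0],
  [0, 4, 0, 4, 1],
  [0, 4, 0, 3, 3],
  [0, 3, 1, 4, 0, 4, 1],
  [1, 0, 4, 1, 0],
  [0, 1, 4, 0, 2, 0, 3, 0],
  [1, 0, 4, 2, 3, 0, 1, 4],
  [2, 0, 3, 0, 3, 3],
  [4, 0, 2, 3, 0, 1, 4],
  [4, 0, 2, 3, 0, 3, 1],
  [1, 4, 0, 4, 0, 2, 3, 0],
  [1, 3, 3, 1, 4, 0, 4, 0],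
  [3, 2, 3, 3, 1, 0, 2],
  [3, 1, 3, 2, 3],
  [0, 3, 1, 3, 3, 1, 0, 4],
  [2, 0, 4, 2, 3, 0, 4],
  [3, 1, 3, 2, 3, 1, 0],
  [0, 2, 4, 1, 0, 1],
  [4, 0, 4, 2, 0],
  [2, 0, 3, 0, 1, 0, 1],
  [3, 2, 3, 0, 3, 1, 3],
  [4, 0, 4, 2, 3, 1, 3, 0],
  [0, 2, 4, 1, 3, 3, 2, 0],
  [3, 1, 3, 0, 4, 2],
  [0, 3, 1, 3, 2, 3, 3],
  [3, 0, 4, 0, 2, 4, 2],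
  [0, 2, 0, 2, 4, 0, 4],
  [4, 0, 1, 3, 0, 3],
  [0, 3, 0, 3, 1],
  [3, 3, 1, 4, 0, 4],
  [1, 3, 0, 2, 0, 1, 0],
  [0, 1, 0, 3, 2, 3, 1, 0],
  [4, 0, 4, 2, 0, 2, 4],
  [1, 4, 0, 4, 2, 3],
  [1, 4, 0, 4, 2, 4],
  [0, 3, 3, 0, 3, 0, 3, 1],
  [0, 3, 3, 2, 3, 2, 4],
  [4, 2, 4, 1, 0, 2],
  [0, 4, 2, 4, 0, 2],
  [0, 4, 1, 0, 3, 3, 2, 4],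
  [4, 1, 3, 2, 0, 1, 0, 3],
  [0, 3, 2, 0, 3, 3, 1],
  [4, 1, 3, 2, 0, 4],
  [1, 3, 0, 3, 1, 4, 1, 4],
  [1, 0, 1, 3, 0, 2, 3, 0],
  [3, 1, 0, 2, 4, 0],
  [1, 0, 2, 0, 3, 3, 2],
  [0, 3, 3, 1, 4],
  [0, 3, 3, 1, 0],
  [0, 4, 0, 3, 3, 1, 3, 2],
  [1, 4, 0, 2, 3, 0],
  [1, 0, 1, 4, 1, 4, 2],
  [3, 0, 3, 1, 3, 0, 1],
  [0, 4, 0, 3, 2, 4, 1],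
  [4, 0, 3, 3, 1],
  [4, 0, 3, 3, 1, 0, 1],
  [3, 0, 4, 2, 0, 4],
  [1, 3, 2, 4, 1, 3],
  [0, 2, 0, 1, 4, 1, 0, 1],
  [2, 0, 3, 0, 2, 0],
  [3, 1, 4, 0, 4, 1],
  [0, 3, 2, 0, 2, 0, 4, 0],
  [0, 1, 4, 0, 1, 0, 2],
  [3, 2, 0, 3, 0, 1, 0, 1],
  [1, 0, 3, 2, 4, 1, 4],
  [1, 0, 3, 2, 4, 2],
  [1, 0, 3, 2, 4],
  [4, 0, 1, 3, 0, 1, 4],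
  [1, 3, 0, 4, 2, 0],
  [3, 0, 1, 3, 1, 4],
  [0, 4, 0, 2, 0, 4, 0, 4],
  [0, 2, 0, 3, 0, 4, 2, 0],
  [0, 4, 0, 2, 0, 4, 0, 2],
  [4, 1, 3, 0, 2, 0],
  [4, 1, 3, 0, 2, 3],
  [4, 1, 3, 0, 2, 4],
  [2, 0, 3, 1, 3, 2],
  [2, 0, 3, 1, 3],
  [3, 2, 0, 2, 3, 0],
  [3, 2, 0, 2, 3, 0, 1],
  [0, 2, 3, 2, 0, 2, 4],
  [0, 4, 2, 3, 0, 4],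
  [2, 3, 0, 1, 3, 0, 2],
  [0, 3, 3, 1, 4, 1, 3, 2],
  [4, 0, 3, 3, 0, 4],
  [4, 0, 3, 3, 0, 4, 1],
  [3, 1, 3, 0, 3, 0],
  [2, 0, 1, 3, 3, 1, 4],
  [2, 0, 1, 3, 3, 1, 3],
  [3, 0, 3, 2, 3, 0],
  [2, 0, 1, 0, 2],
  [0, 2, 3, 2, 0, 2, 4, 0],
  [1, 0, 2, 3, 1, 3, 1],
  [1, 0, 3, 3, 2, 4, 2],
  [1, 0, 2, 3, 2, 0, 1, 3],
  [1, 3, 0, 4, 0, 1, 3, 2],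
  [4, 0, 4, 0, 2, 3, 2, 0],
  [1, 3, 1, 0, 2, 3, 2],
  [1, 3, 2, 0, 1],
  [3, 3, 0, 3, 3, 1, 3, 1],
  [3, 2, 3, 0, 3, 1, 0],
  [4, 2, 0, 3, 0, 2, 3],
  [0, 3, 0, 4, 2, 4, 2, 4],
  [0, 2, 0, 4, 0, 4, 1],
  [1, 3, 1, 0],
  [4, 0, 2, 0, 3, 3, 1],
  [3, 1, 3, 2, 4, 0, 1],
  [3, 0, 4, 0, 2, 3],
  [3, 1, 3, 0],
  [3, 1, 3, 0, 1],
  [1, 4, 2, 4, 1, 3, 2],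
  [1, 4, 2, 4, 1, 3],
  [3, 2, 0, 4, 2, 0, 1],
  [0, 1, 0, 3, 2, 3, 2, 0],
  [1, 3, 2, 0, 2, 3, 1, 3],
  [0, 3, 0, 1, 4, 0, 4, 0],
  [0, 2, 4, 2, 4, 1, 4],
  [1, 0, 4, 2, 4, 2, 4],
  [0, 2, 0, 1, 3, 3, 1, 0, 2],
  [3, 0, 3, 2, 3, 2, 3],
  [3, 1, 3, 2, 0, 1],
  [1, 3, 2, 4, 2, 3],
  [1, 4, 2, 0, 3, 2],
  [0, 4, 0, 3, 1, 3, 3, 1],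
  [0, 4, 2, 0, 1, 4, 0],
  [0, 4, 1, 4, 0, 2, 4],
  [0, 4, 1, 4, 0, 2, 3],
  [3, 2, 3, 1, 3, 1],
  [2, 0, 2, 3, 3],
  [1, 0, 4, 1, 0, 1, 3, 0],
  [1, 3, 2, 4, 1, 3, 2],
  [3, 0, 4, 2, 4, 1],
  [1, 4, 2, 4, 2, 0],
  [0, 1, 0, 2, 4, 0, 3, 2],
  [0, 3, 1, 3, 3, 1, 0],
  [0, 2, 4, 2, 0, 3, 3],
  [1, 0, 4, 1, 0, 2, 3],
  [0, 2, 0, 3, 2, 4, 1],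
  [1, 0, 4, 0, 1, 0, 1],
  [3, 3, 1, 3, 3, 0, 2],
  [4, 0, 3, 0, 3, 0, 2],
  [1, 4, 1, 3, 3, 0, 4],
  [1, 0, 1, 0, 1, 4],
  [1, 4, 1, 0, 4, 0, 1],
  [1, 0, 2, 0, 4, 0],
  [2, 0, 4, 1, 0, 4, 1, 0],
  [4, 2, 3, 0, 1, 0],
  [4, 2, 3, 0, 1, 0, 1],
  [0, 1, 0, 4, 1, 3, 3],
  [0, 1, 0, 4, 1, 3, 3, 1],
  [0, 3, 0, 2, 0, 2],
  [0, 3, 0, 2, 0],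
  [3, 1, 4, 1, 0, 4, 0],
  [3, 1, 4, 1, 0],
  [1, 3, 1, 0, 1, 0, 2, 4, 0],
  [1, 3, 1, 0, 1, 0, 2],
  [4, 0, 4, 2, 3, 3, 2],
  [1, 4, 0, 1, 0, 2, 0],
  [3, 1, 0, 1, 3, 3, 2],
  [0, 3, 1, 3, 0, 1, 3],
  [1, 4, 2, 4, 2, 4, 2],
  [1, 4, 2, 0, 3, 0, 1],
  [1, 4, 1, 0, 4, 1],
  [3, 3, 1, 3, 0, 2, 3],
  [4, 2, 0, 3, 1, 0],
  [3, 0, 1, 3, 0, 3, 0],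
  [3, 1, 3, 1, 0, 3, 0],
  [1, 3, 0, 3, 0, 1, 4, 0],
  [1, 3, 0, 4, 2, 0, 1, 4],
  [0, 3, 2, 4, 0, 3, 0],
  [1, 3, 3, 1, 4, 0, 4],
  [1, 3, 3, 1, 0],
  [1, 3, 0, 2, 0, 4, 1, 0],
  [3, 0, 1, 3, 0],
  [3, 1, 4, 1, 0, 2],
  [4, 0, 4, 2, 3, 3, 1],
  [0, 2, 4, 2, 3, 2, 0, 2],
  [0, 2, 4, 2, 3, 2, 0],
  [2, 0, 3, 2, 4, 2],
  [1, 0, 1, 0, 2, 4, 0],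
  [1, 0, 1, 0, 2],
  [3, 3, 2, 0, 3, 3],
  [1, 0, 3, 0, 4, 1, 4],
  [0, 3, 3, 1, 0, 1, 3],
  [4, 0, 3, 0, 3, 2, 0],
  [0, 2, 0, 2, 0, 2, 0],
  [0, 2, 0, 2, 0, 2, 0, 1],
  [3, 0, 1, 3, 0, 1, 0],
  [4, 2, 3, 3, 0, 4],
  [3, 1, 3, 0, 1, 3, 2],
  [0, 2, 0, 3, 0, 4, 1],
  [4, 0, 2, 0, 1, 3, 1],
  [3, 3, 0, 3, 0, 2],
  [4, 1, 3, 1, 4, 0],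
  [3, 1, 4, 0, 4, 2, 3],
  [0, 2, 0, 3, 1, 3, 0],
  [3, 2, 3, 3, 0],
  [1, 4, 1, 0],
  [0, 3, 0, 3, 3, 0],
  [1, 0, 3, 2, 3, 1],
  [1, 0, 3, 2, 3, 3],
  [1, 3, 1, 3, 3],
  [1, 0, 4, 0, 2, 3, 2],
  [1, 0, 3, 0, 4, 0, 2],
  [0, 1, 0, 2, 0, 3, 0, 4],
  [3, 2, 0, 4, 1, 3, 0],
  [0, 3, 0, 4, 2, 3, 1, 4],
  [0, 4, 1, 4, 2, 0, 1, 4],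
  [0, 4, 1, 4, 2, 0, 2],
  [4, 1, 0, 2, 3, 2],
  [3, 2, 0, 4, 0],
  [1, 3, 3, 2, 0, 1],
  [3, 3, 2, 3, 1, 0, 3],
  [0, 4, 2, 4, 0, 2, 3],
  [0, 2, 0, 3, 2, 3, 2, 3],
  [3, 3, 2, 0],
  [2, 0, 4, 1, 0, 3, 0, 4],
  [1, 0, 3, 0, 4, 0, 1],
  [0, 4, 1, 4, 0, 4, 1],
  [3, 3, 1, 3, 2, 0],
  [2, 0, 3, 0, 2],
  [4, 0, 2, 4, 0, 2, 4],
  [3, 1, 3, 0, 4],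
  [0, 2, 0, 1, 3, 3, 2],
  [0, 2, 3, 1, 4, 0, 2, 3],
  [0, 3, 0, 1, 4, 1, 3],
  [0, 4, 2, 0, 4, 0],
  [0, 4, 2, 4, 0],
  [3, 0, 1, 4, 1, 4],
  [0, 1, 4, 0, 1, 0, 2, 4],
  [1, 0, 2, 0, 3, 2, 0, 1],
  [4, 2, 3, 0, 1, 0, 4],
  [0, 1, 4, 0, 2, 0, 2, 3],
  [3, 1, 3, 2, 0, 3],
  [0, 2, 0, 1, 0, 2, 4],
  [1, 3, 2, 0, 3, 2, 4, 1],
  [3, 3, 2, 0, 4, 0, 2],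
  [4, 0, 3, 1, 4],
  [4, 0, 2, 3, 3, 2, 4],
  [4, 0, 2, 3, 0],
  [3, 0, 4, 0, 3],
  [0, 2, 3, 3, 1, 3, 2, 4],
  [0, 2, 0, 2, 0, 4],
  [0, 3, 1, 3, 1, 4, 2],
  [4, 0, 3, 3, 1, 3, 2],
  [0, 3, 2, 4, 1, 0, 2, 0],
  [0, 3, 2, 4, 1, 0],
  [0, 3, 2, 4, 1, 0, 1],
  [4, 0, 4, 2, 0, 2],
  [1, 4, 1, 3, 3, 1, 0, 2],
  [4, 1, 3, 1, 4, 0, 1],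
  [0, 1, 0, 2, 0, 4, 1],
  [3, 1, 4, 0, 2, 4, 2],
  [1, 0, 4, 0, 1, 4, 1],
  [3, 2, 4, 1, 0, 2, 3],
  [3, 2, 4, 0, 2, 3, 1],
  [3, 0, 1, 3, 2, 0],
  [4, 1, 3, 0, 2, 0, 4, 1],
  [3, 1, 4, 0, 3],
  [3, 1, 4, 0, 3, 1, 3],
  [2, 0, 1, 3, 3, 0, 2, 3],
  [0, 4, 0, 1, 4, 2, 0, 4],
  [0, 4, 1, 4, 0, 2],
  [3, 0, 3, 0, 4, 2, 0, 1],
  [1, 3, 3, 1, 3, 0, 3, 1],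
  [4, 0, 3, 2, 0, 3, 0],
  [0, 2, 0, 3, 0, 4, 0, 4],
  [0, 2, 0, 1, 3, 3, 1],
  [4, 0, 4, 1, 3, 1, 4],
  [1, 3, 1, 0, 1, 3, 1],
  [0, 2, 0, 2, 3, 1, 4],
  [0, 4, 2, 0, 3, 2, 0, 1],
  [1, 0, 4, 0, 2, 3, 1],
  [1, 0, 4, 2, 0, 2],
  [1, 0, 4, 2, 0],
  [2, 0, 2, 4, 1, 3, 2],
  [0, 3, 0, 3, 0, 2, 0, 3],
  [0, 2, 0, 3, 0, 4, 2, 4],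
  [0, 2, 0, 3, 0, 4, 2, 3],
  [0, 3, 2, 0, 4, 0, 4],
  [3, 2, 0, 1, 0, 2, 4, 2],
  [4, 2, 3, 3, 0, 2],
  [3, 2, 0, 1, 0, 4, 1],
  [1, 0, 4, 1, 4, 1, 3],
  [4, 2, 3, 3, 1, 4],
  [3, 0, 1, 0, 2, 3],
  [4, 2, 4, 1, 3, 3],
  [1, 0, 3, 1, 3, 0, 3, 3],
  [1, 3, 1, 3, 1, 4, 0, 2],
  [0, 3, 0, 3, 1, 0, 2],
  [0, 3, 2, 4, 0, 2],
  [3, 1, 0, 1, 3, 3, 2, 0],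
  [3, 1, 3, 1, 0, 2, 3],
  [3, 2, 3, 2, 0, 3, 2],
  [0, 1, 0, 4, 2, 4, 1, 0],
  [0, 4, 0, 4, 2, 4],
  [1, 3, 0, 1, 4],
  [0, 3, 0, 4, 2, 4, 1, 3],
  [4, 2, 0, 1, 3, 3, 2],
  [4, 2, 0, 1, 4],
  [1, 0, 4, 2, 0, 4],
  [3, 1, 3, 1, 4],
  [3, 2, 3, 3, 1, 3],
  [4, 2, 0, 2, 4, 1],
  [1, 0, 4, 0, 3, 2],
  [2, 0, 3, 0, 4, 2],
  [4, 2, 4, 0, 1, 4],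
  [1, 0, 1, 0, 3, 0, 4],
  [0, 2, 0, 2, 3, 3],
  [4, 2, 0, 3, 0],
  [2, 0, 2, 0, 4, 1],
  [1, 3, 1, 4, 2, 4],
  [0, 2, 0, 4, 0, 1],
  [2, 0, 4, 2, 4, 1],
  [1, 0, 1, 3, 0, 2, 3, 2],
  [4, 2, 0, 2, 3],
  [3, 1, 3, 3, 2, 4, 1],
  [0, 3, 3, 2, 3, 3, 1],
  [0, 3, 0, 2, 0, 3, 1, 3],
  [1, 4, 1, 3, 0, 4, 1],
  [0, 3, 3, 2, 3, 3, 2, 4],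
  [0, 2, 0, 3, 2, 4, 1, 4],
  [1, 4, 2, 3, 2, 0, 4],
  [1, 3, 2, 3, 3, 1, 3, 3],
  [0, 3, 3, 1, 4, 0, 2],
  [3, 1, 3, 0, 3, 3, 2],
  [3, 0, 4, 1, 4, 0, 3],
  [3, 1, 4],
  [3, 0, 4, 0, 2, 4, 1],
  [0, 3, 0, 2, 0, 4, 0],
  [0, 4, 2, 4, 1, 4, 0, 3],
  [2, 0, 4, 1, 4],
  [1, 0, 4, 0, 3, 3, 2],
  [1, 0, 1, 4, 2, 4, 1],
  [3, 1, 4, 0, 3, 0, 4],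
  [3, 1, 4, 0, 3, 0, 3],
  [1, 3, 2, 0],
  [3, 1, 3, 3, 0, 4, 2],
  [3, 1, 3, 0, 1, 4, 0],
  [0, 3, 0, 4, 2, 3, 1],
  [0, 1, 4, 0, 1, 3, 0],
  [0, 3, 0, 4, 2, 4, 2],
  [1, 0, 1, 0, 3],
  [0, 3, 2, 4, 2, 0, 1],
  [1, 3, 3, 0, 2, 4],
  [0, 3, 2, 4, 1, 3],
  [0, 1, 0, 3, 2, 3, 1],
  [4, 0, 4, 0, 1],
  [2, 0, 3, 2, 4, 0, 3],
  [0, 4, 2, 3, 0, 1, 0, 1],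
  [2, 3, 0, 1, 0, 3, 2, 0],
  [0, 3, 2, 0, 2, 0, 4],
  [3, 0, 4, 0, 2],
  [3, 0, 4, 0, 3, 3, 1],
  [1, 4, 1, 3, 3],
  [1, 4, 1, 3, 3, 1],
  [1, 3, 2, 3, 3, 2, 3],
  [3, 0, 4, 2, 4, 2, 3],
  [0, 1, 0, 2, 0, 4],
  [0, 4, 0, 4, 1, 4, 2],
  [0, 3, 3, 2, 4, 2],
  [2, 0, 3, 2, 3, 0, 3, 2],
  [0, 3, 0, 4, 2, 4, 2, 0],
  [0, 1, 4, 1, 4, 2, 0, 1],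
  [3, 0, 1, 3, 0, 1],
  [1, 0, 2, 0, 1, 0],
  [3, 1, 0, 3, 2, 3],
  [0, 3, 1, 3, 2, 3, 3, 2],
  [4, 0, 2, 3, 0, 2, 4],
  [0, 1, 0, 2, 3, 3, 2],
  [2, 0, 1, 3, 3, 0, 2],
  [3, 1, 3, 2, 0, 1, 0],
  [3, 1, 4, 1, 4, 1],
  [0, 3, 1, 4, 0, 2, 4],
  [1, 4, 1, 4, 1, 0],
  [1, 3, 1, 3, 0, 1, 0],
  [1, 0, 3, 2, 4, 1, 4, 2],
  [4, 2, 0, 4, 2],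
  [2, 3, 0, 1, 0, 3, 2],
  [3, 1, 3, 2, 4, 2, 3],
  [3, 2, 3, 3],
  [3, 2, 3, 3, 1],
  [2, 0, 2, 4, 1, 4, 0],
  [2, 3, 0, 4, 1, 3, 0],
  [1, 4, 1, 4, 0, 2, 3, 1],
  [0, 1, 0, 2, 0, 2, 4],
  [0, 4, 1, 4, 2, 0, 2, 3],
  [1, 0, 1, 0, 1],
  [0, 1, 0, 3, 2, 0, 3, 3],
  [1, 4, 0, 2, 4, 1, 0],
  [0, 1, 0, 4, 2, 3, 0, 1],
  [0, 3, 0, 1, 3, 2, 3],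
  [0, 2, 4, 2, 4],
  [2, 0, 2, 4, 0, 3],
  [0, 3, 3, 1, 4, 0, 2, 0],
  [1, 3, 3, 0, 1, 3, 1],
  [1, 0, 1, 0, 1, 0, 2, 3],
  [0, 1, 0, 3, 2, 3, 2],
  [4, 0, 4, 0, 3, 1, 0],
  [0, 1, 4, 0, 2, 0, 1],
  [0, 1, 4, 0, 2, 0, 2],
  [0, 1, 4, 0, 2, 0, 3],
  [3, 3, 0, 3, 2],
  [1, 0, 2, 0, 3, 2],
  [3, 0, 4, 1, 3, 3, 1, 4],
  [4, 0, 3, 3, 2, 3, 1],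
  [0, 1, 4, 0, 2, 3, 1],
  [0, 1, 4, 0, 2, 3, 2],
  [0, 3, 2, 4, 0, 1],
  [0, 3, 3, 2, 3, 1],
  [2, 0, 1, 0, 3, 1],
  [1, 0, 4, 0, 2],
  [0, 1, 0, 4, 0, 1],
  [1, 4, 0, 3, 3, 0],
  [3, 0, 2, 0, 3, 2],
  [1, 3, 2, 3, 3, 0, 4],
  [0, 3, 3, 0, 2, 3, 0],
  [2, 0, 4, 2, 0, 4, 0],
  [2, 0, 4, 2, 0, 3, 3],
  [0, 3, 3, 0, 4, 1, 0, 3],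
  [2, 0, 1, 0, 3, 1, 3],
  [0, 1, 0, 2, 3, 0, 3],
  [3, 0, 4, 0, 2, 0, 2],
  [0, 3, 1, 4, 0, 1, 0],
  [2, 0, 3, 0, 3],
  [1, 3, 0, 2, 3, 3, 1],
  [4, 0, 3, 0, 3, 0, 1, 3],
  [1, 4, 0, 1, 3, 1, 4],
  [3, 3, 1, 3, 3, 0, 3],
  [1, 0, 4, 2, 3, 1, 3, 1],
  [0, 3, 2, 3, 3, 0, 1, 4],
  [3, 0, 3, 2, 3, 0, 1],
  [3, 3, 0, 1, 3, 0, 3],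
  [4, 2, 0, 3, 0, 3, 1],
  [4, 2, 0, 3, 0, 4],
  [1, 0, 3, 2, 3, 1, 0, 4],
  [0, 2, 0, 3, 0, 3, 0, 2],
  [1, 0, 3, 2, 4, 1, 4, 1],
  [2, 0, 1, 0, 4, 1, 4],
  [1, 4, 0, 2, 4, 0],
  [0, 2, 4, 1, 0, 1, 0],
  [1, 3, 3, 1, 0, 1],
  [1, 0, 2, 3, 2, 4, 1],
  [1, 4, 1, 3, 2],
  [4, 0, 2, 3, 1, 0, 2],
  [0, 4, 0, 3, 0, 2, 3, 2],
  [1, 0, 2, 0, 1, 3, 0],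
  [1, 4, 0, 1, 0, 2, 0, 3],
  [1, 4, 2, 4, 1],
  [1, 4, 2, 4, 1, 0, 1],
  [1, 4, 2, 4, 1, 0, 2],
  [0, 4, 0, 2, 0, 1, 0, 3, 2],
  [3, 1, 0, 2, 3, 0, 1],
  [1, 4, 0, 1, 3, 1, 0],
  [1, 4, 1, 3, 3, 1, 3],
  [0, 2, 3, 1, 4, 0, 4, 1],
  [0, 2, 3, 1, 4, 0, 4, 2],
  [3, 1, 4, 0, 2, 3, 0],
  [1, 3, 1, 0, 2, 3, 1],
  [4, 0, 3, 0, 2, 4],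
  [1, 3, 2, 4, 1, 4, 2, 3],
  [0, 2, 4, 1, 0, 3, 0],
  [0, 4, 2, 0, 1, 3],
  [3, 2, 3, 0, 4, 1],
  [3, 1, 3, 2, 4, 0, 4],
  [1, 0, 1, 0, 1, 0, 3, 0],
  [0, 1, 0, 3, 2, 0, 3],
  [1, 4, 0, 1, 4, 0],
  [1, 4, 0, 1, 4, 0, 1],
  [3, 1, 3, 2, 0, 3, 0],
  [3, 1, 3, 2, 4],
  [3, 1, 3, 2, 4, 1],
  [3, 1, 3, 1, 0, 3, 2],
  [2, 0, 1, 0, 4, 0, 3, 0],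
  [0, 2, 4, 1, 0, 3, 0, 4],
  [4, 0, 4, 1, 4, 1, 4, 0],
  [0, 2, 0, 3, 0, 4, 0, 3],
  [2, 0, 2, 3, 0, 2, 3],
  [0, 2, 4, 1, 0, 3, 1],
  [1, 3, 0, 1, 4, 1, 4],
  [4, 0, 4, 2, 4],
  [4, 0, 4, 0],
  [4, 0, 3, 3],
  [4, 0, 4, 1, 3, 0],
  [1, 3, 3, 0, 2, 0],
  [3, 0, 4, 1, 3, 3, 0, 4],
  [1, 0, 1, 3, 0, 4, 0],
  [1, 4, 0, 3, 3, 2, 4],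
  [1, 3, 0, 1, 3, 0, 3],
  [1, 0, 4, 1, 4, 0, 2],
  [2, 0, 2, 4, 1, 0],
  [0, 1, 0, 2, 0, 2, 3, 0],
  [0, 1, 0, 3, 1, 4, 2, 0, 4],
  [3, 3, 1, 0, 3, 0, 3],
  [4, 2, 3, 3, 1],
  [4, 2, 3, 3, 1, 0, 3],
  [0, 2, 4, 0, 2, 3, 0, 4],
  [3, 0, 3, 2, 0, 3, 0],
  [1, 4, 1, 0, 4],
  [1, 0, 2, 0, 1, 3, 2],
  [1, 0, 2, 3, 1, 3, 1, 0],
  [1, 0, 1, 3, 0, 3, 0],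
  [0, 4, 0, 2, 0, 3, 1],
  [0, 3, 3, 0, 2],
  [1, 3, 1, 4, 2],
  [1, 3, 1, 4],
  [0, 2, 0, 1, 0],
  [3, 0, 4, 2, 0, 1],
  [1, 3, 0, 1],
  [0, 2, 0, 4, 0, 3, 0, 2],
  [0, 3, 0, 1, 0, 4, 2, 4],
  [1, 3, 3, 0, 2, 0, 4],
  [1, 3, 2, 4, 0, 4, 2, 4],
  [0, 2, 0, 2, 3, 3, 0],
  [1, 3, 2, 0, 1, 0, 2],
  [1, 0, 3, 0, 3, 3, 1],
  [1, 0, 3, 0, 3, 3, 2],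
  [0, 3, 3, 1, 0, 2],
  [4, 0, 4, 0, 3, 3],
  [0, 3, 3, 1, 0, 2, 0, 3],
  [4, 0, 3, 0, 3],
  [2, 3, 0, 1, 0, 2, 3],
  [2, 0, 3, 0, 1, 3, 0],
  [3, 1, 4, 1, 3, 1, 4],
  [3, 1, 4, 1, 4],
  [0, 3, 2, 0, 3, 0, 1, 0],
  [0, 2, 0, 4, 0, 1, 4],
  [0, 2, 3, 2, 0, 3, 1],
  [1, 3, 0, 1, 0, 2, 4],
  [1, 3, 2, 4, 2, 0, 4],
  [3, 2, 3, 3, 0, 1, 3],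
  [3, 0, 2, 3, 3, 2, 3, 3],
  [2, 0, 3, 2, 3, 1],
  [0, 3, 0, 3, 3, 0, 4, 0],
  [0, 2, 0, 3, 2, 4, 2],
  [0, 1, 0, 1, 0, 3, 0, 4],
  [3, 1, 4, 0, 2, 3, 3],
  [0, 1, 0, 4, 0, 2, 4],
  [1, 0, 4, 0, 3, 2, 3],
  [4, 0, 4, 2, 3, 0],
  [2, 0, 1, 0, 1, 0, 1],
  [0, 2, 0, 3, 1, 4],
  [0, 1, 0, 2, 4, 0, 4, 0],
  [0, 3, 0, 1, 3, 1, 3],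
  [3, 2, 3, 0, 3, 1, 4],
  [2, 0, 3, 2, 3, 2, 4],
  [1, 0, 2, 0, 1, 3, 2, 3],
  [3, 1, 3, 2, 0, 1, 0, 4],
  [4, 0, 4, 0, 2],
  [4, 2, 4, 2, 0, 1],
  [1, 3, 0, 1, 0, 3, 3],
  [1, 0, 1, 0, 1, 0],
  [4, 2, 4, 2, 0, 2],
  [3, 1, 3, 1, 3],
  [0, 2, 4, 1, 0, 3],
  [0, 4, 2, 4, 2, 4, 2],
  [0, 4, 0, 2, 0, 1, 0, 3],
  [0, 4, 0, 2, 0, 1, 0, 4],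
  [4, 0, 1, 4, 0, 3],
  [1, 4, 1, 4, 2, 3],
  [2, 0, 3, 2, 4, 2, 0],
  [3, 1, 3, 2, 4, 0, 2],
  [3, 1, 4, 0, 2, 4, 1, 3],
  [0, 2, 0, 3, 1, 3, 3, 2, 0],
  [1, 3, 3, 1, 3, 0, 3, 1, 4],
  [2, 0, 1, 0, 4, 1, 4, 1],
  [0, 2, 0, 2, 3, 1],
  [1, 0, 4, 1, 4, 0, 3],
  [3, 1, 3, 0, 3, 3, 0],
  [0, 4, 1, 0, 4, 0, 3],
  [0, 4, 1, 0, 4, 0, 4],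
  [4, 0, 2, 3, 1, 0],
  [1, 0, 1, 4, 2, 4],
  [4, 1, 3, 2, 0, 4, 0],
  [4, 0, 3, 2, 0, 4, 0],
  [0, 3, 2, 4, 1, 0, 3, 3],
  [0, 2, 0, 1, 4, 2, 3],
  [3, 2, 0, 4, 2],
  [0, 1, 0, 4, 0, 2],
  [0, 1, 0, 4, 0, 2, 0, 4],
  [4, 0, 4, 1, 3, 0, 2],
  [2, 0, 3, 2, 3, 1, 0],
  [0, 4, 2, 0, 4, 0, 2],
  [1, 4, 1, 0, 4, 0, 3],
  [3, 3, 1, 4, 1, 3, 3],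
  [0, 1, 0, 2, 0, 3, 2, 3],
  [0, 3, 2, 0, 1, 4, 0, 2],
  [3, 3, 2, 0, 4],
  [3, 3, 2, 0, 4, 1],
  [0, 4, 0, 1, 4, 2, 3],
  [1, 4, 0, 4, 0, 2, 3],
  [3, 1, 3, 3, 2, 4, 2],
  [1, 3, 3, 1, 0, 3, 1],
  [0, 3, 2, 0, 2, 0, 3],
  [3, 2, 4, 0, 3],
  [0, 2, 0, 1, 4, 0, 2],
  [3, 1, 3, 3, 1, 4, 2, 4],
  [1, 4, 1, 3, 0, 2, 0],
  [0, 3, 3, 1, 0, 3, 0, 1],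
  [4, 0, 1, 4, 0],
  [3, 3, 2, 0, 1, 0, 2],
  [2, 3, 0, 4, 2, 3, 1],
  [0, 3, 3, 0, 4, 1, 0, 4, 1],
  [0, 3, 0, 2, 0, 4],
  [1, 0, 4, 1, 4, 0, 3, 3],
  [0, 1, 0, 1, 3, 0, 4],
  [3, 1, 3, 1, 4, 2, 3, 3],
  [3, 2, 0, 1, 3, 0, 1],
  [3, 3, 1, 3, 2, 3, 3],
  [3, 3, 1, 3, 2],
  [0, 3, 2, 0, 4, 0, 4, 2],
  [4, 0, 4, 0, 3, 0, 3],
  [0, 3, 1, 4, 2, 4, 1],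
  [3, 2, 0, 2, 0, 2],
  [2, 0, 3, 1, 4, 0],
  [3, 1, 4, 0, 4],
  [1, 4, 0, 2, 4, 2, 0],
  [2, 0, 3, 1, 4, 2, 3],
  [1, 0, 1, 0, 2, 3, 1, 3],
  [3, 1, 3, 1, 4, 2, 4],
  [1, 3, 3, 1, 0, 3, 1, 3],
  [1, 3, 3, 2, 0, 2, 3],
  [1, 3, 0, 2, 0, 3],
  [4, 2, 4, 0, 1, 3, 3],
  [4, 2, 4, 0, 1],
  [4, 2, 4, 2, 0],
  [4, 0, 4, 0, 3],
  [0, 1, 0, 4, 1, 4, 0],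
  [2, 0, 3, 0, 1, 3],
  [0, 4, 1, 4, 1, 0, 1, 0],
  [0, 2, 0, 3, 0, 3, 0, 1],
  [2, 3, 0, 1, 0, 3, 1],
  [3, 3, 0, 4, 0, 4],
  [3, 1, 4, 0, 2],
  [0, 1, 0, 4, 1, 3],
  [1, 0, 2, 3, 2, 4, 2],
  [0, 4, 0, 3, 3, 2, 0],
  [4, 0, 1, 3, 1, 3, 1],
  [2, 3, 0, 2, 0, 3, 0, 4],
  [0, 3, 3, 0, 1, 3],
  [2, 0, 3, 0, 1, 3, 3],
  [0, 4, 0, 3, 1, 3],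
  [1, 3, 2, 4, 1],
  [3, 1, 3, 1, 4, 2],
  [4, 2, 3, 0, 3, 0, 3],
  [3, 0, 4, 1, 4, 0, 1],
  [0, 1, 0, 2, 3, 0],
  [0, 1, 0, 2, 3, 3],
  [4, 2, 3, 1, 0, 3, 0],
  [0, 2, 0, 2, 3, 0, 2],
  [0, 2, 0, 3, 1, 3, 1, 0],
  [2, 0, 3, 0, 1, 0, 1, 4],
  [3, 1, 3, 0, 3, 1],
  [3, 3, 1, 4, 2, 3],
  [3, 1, 3, 2, 0, 4],
  [0, 2, 0, 3, 0, 4, 0, 1],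
  [0, 4, 2, 4, 0, 2, 3, 0],
  [0, 3, 1, 3, 1, 4, 1],
  [4, 2, 4, 0, 3, 1, 4],
  [1, 3, 2, 4, 1, 3, 2, 3],
  [1, 3, 0, 1, 0, 4, 2],
  [1, 3, 0, 1, 0, 4],
  [0, 4, 2, 4, 0, 3],
  [1, 0, 1, 4, 2, 0, 1],
  [1, 0, 4, 1, 4, 1, 3, 1],
  [2, 0, 2, 4, 1],
  [0, 1, 0, 2, 0, 3, 3],
  [1, 4, 1, 0, 3, 2],
  [4, 2, 4, 1, 0, 2, 0],
  [4, 0, 4, 0, 3, 1],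
  [1, 0, 2, 3, 2, 0, 2, 3],
  [1, 3, 2, 0, 2, 3, 2],
  [3, 2, 0, 3, 1, 4, 1],
  [1, 0, 2, 3, 1, 4, 0],
  [1, 0, 2, 3, 3, 2, 0],
  [0, 4, 0, 3, 3, 2],
  [3, 0, 1, 3, 0, 3],
  [3, 0, 1, 3, 0, 3, 1],
  [3, 3, 2, 0, 4, 0, 4],
  [0, 1, 4, 1, 3, 3, 2, 0],
  [3, 2, 3, 1],
  [3, 0, 4, 2, 4],
  [1, 0, 2, 0, 1, 0, 2],
  [3, 2, 3, 3, 0, 4, 0],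
  [4, 2, 0, 2, 4],
  [3, 3, 2, 4, 0, 4],
  [0, 4, 1, 0, 1, 4, 2, 4],
  [1, 3, 3, 1, 0, 4],
  [2, 3, 0, 1, 4, 1, 0, 2],
  [3, 0, 1, 0, 2, 3, 1],
  [1, 3, 1, 0, 3, 1],
  [0, 4, 2, 0, 3, 0, 4],
  [0, 2, 0, 1, 0, 2, 4, 0],
  [3, 2, 3, 2, 0, 3],
  [1, 0, 1, 0, 1, 0, 4, 2],
  [3, 1, 3, 0, 3],
  [0, 3, 0, 3, 0, 4, 0, 4],
  [2, 0, 3, 2, 4, 0],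
  [3, 3, 2, 0, 4, 1, 4],
  [3, 3, 2, 0, 4, 1, 3],
  [1, 3, 3, 2, 0, 2],
  [1, 0, 4, 0, 1],
  [4, 0, 3, 2, 0, 4, 2],
  [2, 0, 2, 3, 0, 4],
  [2, 0, 2, 3, 0, 2],
  [3, 3, 1, 3, 0, 3, 1],
  [1, 0, 2, 0, 1, 0, 1],
  [3, 3, 1, 3, 0],
  [0, 2, 0, 3, 2, 0, 2],
  [0, 2, 4, 2, 0, 3],
  [0, 2, 4, 2, 0, 3, 1],
  [0, 2, 0, 3, 0, 1, 0],
  [3, 3, 0, 1, 4, 0, 3],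
  [1, 3, 3, 1, 3, 0, 3, 0],
  [4, 0, 1, 4, 1],
  [1, 0, 4, 0, 1, 3, 3],
  [0, 3, 2, 0, 2, 0, 2],
  [3, 1, 0, 1, 3, 3, 2, 4],
  [3, 3, 0, 1, 4, 0, 3, 1],
  [0, 1, 0, 3, 2, 0, 1],
  [0, 2, 4, 0, 2, 3, 0, 3],
  [0, 2, 4, 1, 3, 0, 3, 2],
  [0, 1, 4, 0, 1, 3, 3],
  [3, 0, 4, 0, 3, 1, 0],
  [0, 2, 0, 3, 2, 0, 3, 0],
  [0, 1, 4, 0, 1, 3, 0, 4],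
  [3, 1, 4, 0, 3, 0],
  [4, 2, 4, 0, 3, 1],
  [4, 2, 4, 0, 3, 2],
  [0, 4, 1, 4, 0, 4],
  [4, 2, 3, 0, 1, 0, 3],
  [0, 1, 0, 2, 0, 3, 3, 0],
  [0, 3, 3, 0, 2, 0],
  [3, 1, 3, 3],
  [4, 0, 3, 3, 0, 3],
  [3, 1, 0, 2, 4, 0, 1],
  [1, 4, 1, 4, 0, 2, 3],
  [3, 0, 4, 2],
  [3, 0, 1, 3, 3],
  [3, 3, 2, 4],
  [3, 3, 0, 3, 0],
  [0, 1, 0, 4, 1, 4, 2, 0],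
  [1, 3, 0, 1, 0, 4, 0],
  [1, 0, 1, 0, 3, 0, 3],
  [0, 4, 0, 2, 3, 0],
  [0, 4, 0, 2, 3, 1, 3],
  [4, 2, 4, 1, 0],
  [3, 2, 3, 1, 0, 3],
  [2, 0, 1, 0, 4, 2],
  [0, 2, 4, 1, 4, 2, 3],
  [3, 2, 3, 3, 0, 4],
  [3, 2, 3, 1, 0, 2, 3],
  [3, 1, 3, 0, 1, 3],
  [2, 0, 4, 1, 4, 1],
  [2, 0, 1, 4, 2, 4, 0, 2],
  [2, 3, 0, 1, 3, 0, 3],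
  [4, 0, 2, 0, 4],
  [2, 0, 3, 0, 4, 0],
  [3, 3, 1, 3, 0, 2],
  [0, 2, 0, 3, 1, 3, 3, 1],
  [0, 3, 3, 0, 3, 2],
  [3, 2, 3, 1, 3, 0, 2],
  [0, 2, 0, 2, 4, 1],
  [1, 4, 2, 4, 2, 3, 1],
  [3, 1, 3, 3, 1, 0, 3, 3],
  [0, 2, 0, 1, 0, 1, 3],
  [1, 3, 1, 3, 1, 4, 0],
  [4, 1, 3, 2, 0, 4, 2],
  [1, 3, 0, 3, 1, 4, 1],
  [2, 0, 1, 0, 4],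
  [3, 0, 4, 1, 3, 3, 1],
  [3, 0, 4, 1, 4],
  [0, 4, 2, 3, 0, 1],
  [3, 2, 3, 2],
  [4, 2, 3, 0, 3],
  [0, 3, 3, 1, 4, 2],
  [0, 3, 3, 2, 3, 2, 4, 1],
  [4, 0, 2, 3, 0, 3, 2],
  [4, 0, 3, 3, 2, 3, 2],
  [4, 0, 3, 3, 2],
  [0, 4, 1, 0, 1, 4, 1],
  [2, 3, 0, 1, 3, 2, 3],
  [2, 3, 0, 1, 4, 1, 0],
  [1, 3, 0, 2, 0, 4, 2],
  [0, 3, 0, 2, 3],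
  [0, 3, 3, 2, 3],
  [4, 0, 1, 4],
  [0, 2, 0, 1, 0, 2],
  [1, 3, 1, 0, 1, 0],
  [2, 0, 1, 0, 1, 0],
  [0, 1, 0, 2, 3, 0, 2],
  [0, 3, 0, 2, 0, 4, 1],
  [0, 3, 3, 2, 3, 2],
  [3, 0, 1, 3, 1, 3, 1],
  [4, 0, 3, 0, 3, 3],
  [3, 2, 4, 0, 1, 4, 2],
  [0, 3, 0, 3, 2, 4, 2],
  [0, 3, 0, 3, 2, 4],
  [4, 2, 3, 3, 1, 3, 0],
  [0, 2, 4, 2, 4, 1, 3, 1],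
  [0, 2, 0, 3, 0, 4, 0],
  [0, 2, 0, 3, 0, 4, 2],
  [2, 0, 3, 1, 3, 3, 0],
  [0, 4, 2, 0, 1],
  [0, 3, 2, 3, 0, 2, 4],
  [0, 1, 0, 1, 0, 2, 4],
  [1, 0, 2, 0, 2, 0, 4],
  [1, 0, 2, 0, 2, 3, 2],
  [0, 4, 0, 3, 2, 4, 0],
  [1, 0, 1, 4, 0, 4],
  [2, 0, 3, 1, 3, 3],
  [3, 2, 3, 3, 1, 3, 1],
  [0, 1, 4, 0, 1, 4, 1],
  [0, 1, 0, 3, 3],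
  [1, 3, 0, 3, 2, 4],
  [1, 4, 2, 4, 1, 4],
  [0, 4, 0, 2, 4, 1, 0],
  [3, 0, 1, 3, 1, 3],
  [3, 1, 4, 1, 0, 1, 0],
  [1, 0, 4, 2, 4, 0, 1],
  [4, 2, 3, 0, 3, 0],
  [0, 4, 0, 1, 4, 0, 2],
  [1, 0, 4, 1, 4, 0, 4],
  [4, 2, 0, 3, 3],
  [0, 2, 0, 2, 3, 0, 2, 0],
  [3, 2, 4, 0],
  [4, 2, 3, 3, 0],
  [4, 2, 3, 3, 2],
  [4, 2, 4, 1, 3],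
  [4, 0, 1, 0],
  [4, 0, 3, 0],
  [1, 3, 0, 4, 1, 3],
  [1, 3, 2, 0, 2, 3, 1],
  [0, 4, 0, 1, 0, 1, 0, 2],
  [1, 3, 2, 0, 1, 3],
  [0, 3, 0, 2, 0, 3, 1, 4],
  [0, 3, 0, 3, 0, 2, 3, 1],
  [1, 0, 3, 2, 3, 1, 0],
  [1, 0, 1, 4, 1, 4, 2, 0],
  [3, 0, 4, 1, 4, 0],
  [4, 0, 2, 4, 0, 3, 2],
  [0, 1, 0, 3, 2, 3],
  [3, 1, 4, 1, 4, 2],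
  [0, 4, 1, 0, 4, 0, 4, 1],
  [2, 0, 2, 0, 1],
  [3, 1, 3],
  [0, 2, 3, 3, 1, 3, 2],
  [0, 2, 4, 2, 0],
  [0, 2, 0, 2, 3],
  [0, 2, 0, 2, 4],
  [0, 2, 0, 3, 1],
  [0, 2, 0, 3, 2],
  [0, 4, 2, 0, 1, 0],
  [4, 2, 0, 2, 3, 1],
  [1, 0, 4, 1, 0, 1],
  [0, 3, 0, 1, 3, 2],
  [0, 3, 0, 3, 0, 2, 3, 2],
  [1, 3, 0, 3, 1, 4, 1, 0],
  [0, 2, 4, 1, 0, 3, 2],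
  [0, 4, 0, 2, 0, 3, 2],
  [1, 4, 0, 3, 3],
  [1, 3, 0, 2, 0],
  [0, 3, 0, 1, 3, 2, 0],
  [1, 0, 2, 4, 1, 3, 2, 0],
  [1, 3, 2, 0, 2, 4, 0],
  [0, 4, 1, 0, 4, 0, 3, 0, 4],
  [1, 3, 0, 3, 1, 4, 0, 4],
  [0, 3, 2, 3, 0, 2, 3],
  [3, 0, 3, 0, 4, 1, 4],
  [4, 0, 2, 0, 3, 2],
  [0, 4, 1, 0, 4, 0, 3, 3],
  [1, 0, 3, 0, 1, 0, 4, 1],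
  [0, 3, 3, 2, 3, 3, 2],
  [1, 4, 0, 4, 2, 3, 2],
  [0, 2, 4, 2, 4, 1, 4, 0],
  [2, 0, 1, 0, 3, 2, 3],
  [3, 3, 0, 4, 0, 4, 1],
  [3, 0, 3, 2, 3, 2],
  [4, 0, 2, 3, 0, 3, 3],
  [1, 3, 1, 0, 3, 1, 3, 3],
  [1, 0, 1, 0, 2, 4, 0, 2],
  [0, 1, 0, 4, 0, 1, 0],
  [3, 2, 3, 1, 3, 0],
  [0, 4, 1, 0, 4, 0, 3, 2],
  [0, 4, 0, 2, 3, 3, 0, 4],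
  [4, 0, 4, 1, 0, 3, 3],
  [4, 2, 3, 2, 3, 0],
  [4, 2, 3, 2, 3, 0, 3],
  [0, 1, 0, 3, 2, 0, 4, 2],
  [1, 4, 2, 4, 2],
  [3, 3, 2, 3, 0, 4, 1, 0],
  [0, 2, 0, 3, 2, 0],
  [0, 4, 1, 4, 0, 4, 2],
  [1, 0, 1, 4, 2, 4, 2],
  [4, 0, 2, 0, 4, 1, 4],
  [4, 2, 3, 3, 2, 3, 3],
  [1, 3, 3, 0, 1, 3, 2],
  [4, 0, 2, 3, 3, 1, 0, 2],
  [0, 3, 2, 0, 3, 3, 0],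
  [4, 2, 3, 3, 2, 0, 2],
  [0, 1, 0, 3, 1, 0, 4, 2],
  [1, 0, 3, 3, 2, 0, 3, 0],
  [4, 0, 3, 3, 1, 3, 1],
  [1, 3, 0, 3, 2, 0, 4, 0],
  [4, 2, 3, 2, 3, 0, 2],
  [4, 2, 4, 2, 0, 2, 3, 2],
  [3, 1, 3, 3, 1, 3],
  [1, 4, 2, 4, 0, 3, 0],
  [3, 0, 4, 2, 4, 1, 0],
  [2, 0, 3, 2, 3, 2],
  [1, 4, 1, 3, 3, 1, 4],
  [3, 0, 3, 1, 3, 0, 2],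
  [0, 4, 0, 3, 3, 1, 3, 2, 4],
  [3, 1, 3, 2],
  [1, 3, 3, 0, 3, 1, 3, 3],
  [4, 0, 4, 0, 1, 3],
  [4, 2, 4, 1, 3, 0],
  [1, 3, 2, 3, 3, 2],
  [4, 0, 3, 0, 2],
  [4, 0, 3, 0, 1, 4],
  [2, 0, 3, 2, 4, 1],
  [1, 3, 1, 3, 1, 0, 2],
  [4, 1, 0, 2, 3, 2, 3],
  [0, 2, 3, 1, 4, 1, 4, 1],
  [0, 3, 2, 0, 2, 0, 3, 3],
  [0, 4, 0, 2, 3, 1, 3, 2],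
  [3, 0, 1, 3, 1, 3, 3, 0],
  [4, 0, 4, 2, 4, 0],
  [4, 0, 2, 3, 0, 1],
  [0, 2, 0, 2, 4, 0],
  [1, 3, 2, 0, 2, 3],
  [3, 3, 1, 3, 0, 4],
  [1, 4, 2, 4, 0, 1, 0],
  [4, 0, 2, 0, 1, 0],
  [1, 3, 0, 1, 3, 3, 0],
  [4, 2, 0, 2, 4, 2],
  [0, 1, 0, 3, 1, 0, 4],
  [1, 3, 2, 4, 1, 4, 2],
  [4, 0, 2, 3, 0, 2, 3],
  [0, 4, 2, 3, 0, 1, 0],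
  [0, 4, 2, 4, 0, 3, 3],
  [3, 2, 3, 0, 4, 2],
  [1, 3, 2, 0, 2, 4],
  [3, 1, 4, 1, 4, 0, 3],
  [4, 0, 2, 3, 1, 0, 4],
  [4, 0, 1, 0, 2, 0],
  [4, 2, 3, 3, 1, 3],
  [0, 1, 4, 0, 2, 3, 1, 4],
  [1, 0, 1, 4, 0, 3, 1, 3],
  [3, 1, 3, 1, 4, 2, 0, 3],
  [0, 3, 0, 1, 4, 0, 4],
  [1, 4, 2, 3, 1, 3, 3],
  [2, 0, 3, 2, 4, 1, 4],
  [2, 0, 3, 0, 4, 0, 2],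
  [0, 3, 1, 4, 0, 1, 0, 1],
  [1, 0, 1, 4, 0, 4, 0],
  [4, 0, 1, 0, 2, 0, 2],
  [1, 0, 4, 0, 1, 4],
  [0, 1, 0, 3, 2, 0, 3, 1],
  [1, 0, 1, 0, 1, 0, 2, 4],
  [3, 3, 1, 3, 2, 0, 4],
  [1, 0, 1, 3, 3, 0, 1],
  [1, 0, 1, 0, 1, 0, 1],
  [2, 0, 3, 2, 4],
  [1, 3, 3, 0, 3, 1, 0, 2],
  [3, 3, 2, 4, 0, 3, 3],
  [3, 0, 4, 1, 0, 4],
  [1, 4, 1, 3, 3, 1, 3, 3],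
  [4, 2, 4, 2, 0, 2, 3],
  [3, 3, 2, 4, 0],
  [0, 3, 1, 4, 1, 3, 0, 4],
  [0, 2, 0, 2, 4, 1, 0, 3],
  [0, 4, 1, 4, 1, 3, 0],
  [1, 3, 3, 1, 0, 3],
  [3, 2, 3, 0, 1, 4, 2, 3],
  [2, 0, 3, 0, 1],
  [0, 2, 0, 2, 4, 2],
  [0, 4, 0, 3, 3, 2, 0, 1],
  [2, 0, 3, 2, 3, 2, 3],
  [1, 3, 0, 4, 0, 1, 4],
  [4, 0, 3, 3, 2, 4],
  [1, 4, 1, 3, 3, 0, 4, 0],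
  [2, 3, 0, 4, 1, 0, 3],
  [1, 4, 1, 4],
  [1, 4, 2, 4, 1, 4, 2, 4],
  [3, 1, 3, 2, 0],
  [0, 1, 0, 4, 0, 4, 0, 1],
  [2, 0, 1, 0, 4, 2, 4],
  [3, 1, 3, 3, 1, 3, 1],
  [4, 0, 4, 2, 4, 2, 0],
  [1, 0, 4, 0, 3],
  [1, 0, 4, 0, 3, 3, 1],
  [1, 3, 0, 2, 0, 4, 1],
  [1, 4, 2, 4, 1, 4, 0],
  [1, 4, 0, 4, 0, 2, 3, 1],
  [0, 2, 4, 2, 4, 1, 4, 1],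
  [1, 0, 3, 0, 4, 0, 1, 0],
  [3, 3, 1, 3, 0, 2, 4, 1],
  [1, 0, 2, 3, 3, 2, 0, 4],
  [1, 0, 4, 0, 1, 3],
  [1, 3, 2, 4, 1, 4, 1],
  [0, 3, 3, 2, 3, 3],
  [1, 4, 0, 4, 2, 3, 3],
  [0, 2, 4, 1, 0, 3, 2, 0],
  [1, 3, 1, 0, 3, 2],
  [4, 0, 1, 3, 1, 0, 3],
  [1, 3, 1, 0, 3, 2, 3],
  [3, 2, 3, 2, 0, 3, 1],
  [1, 0, 4, 0, 2, 3],
  [4, 2, 0, 2, 4, 1, 3],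
  [2, 0, 1, 0, 1],
  [2, 0, 3, 0, 1, 0],
  [3, 3, 1, 3, 2, 4, 0],
  [0, 2, 0, 3, 1, 0, 4],
  [1, 0, 2, 0, 3, 3, 2, 4],
  [3, 1, 3, 0, 3, 0, 4, 0],
  [0, 2, 3, 2, 0, 2, 4, 1],
  [3, 3, 0, 3, 0, 2, 0],
  [3, 3, 0, 3, 0, 2, 0, 1],
  [1, 0, 1, 3, 0, 3, 3],
  [0, 1, 0, 3, 2, 0],
  [4, 0, 2, 3, 0, 2],
  [1, 4, 0, 1, 3, 1],
  [0, 2, 0, 3, 1, 0, 4, 2],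
  [2, 0, 2, 0, 4, 1, 0],
  [3, 1, 4, 0, 1],
  [2, 0, 2, 4, 1, 3, 2, 4],
  [2, 0, 3, 0, 4],
  [1, 3, 0, 2, 4, 1, 3, 2],
  [3, 2, 3, 0, 3, 1],
  [3, 0, 1, 3, 1, 3, 3],
  [4, 2, 4, 1, 3, 1],
  [2, 0, 1, 0, 4, 2, 0],
  [1, 0, 3, 0, 3, 3, 2, 0],
  [1, 0, 4, 0, 1, 4, 0],
  [0, 2, 4, 1, 0, 3, 0, 3],
  [1, 3, 0, 2, 0, 3, 1],
  [0, 1, 4, 0, 4, 0, 1, 3],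
  [1, 3, 2, 4, 1, 3, 1],
  [0, 2, 4, 1, 0, 3, 1, 4],
  [1, 3, 0, 4, 0, 1, 3],
  [3, 1, 3, 2, 4, 0],
  [1, 3, 2, 0, 2],
  [3, 1, 4, 0, 3, 0, 4, 1],
  [4, 0, 2, 3, 0, 3],
  [4, 0, 3, 0, 1, 4, 2],
  [1, 3, 1, 0, 3, 2, 3, 2],
  [3, 0, 4, 0, 2, 0],
  [4, 1, 3, 0, 2, 0, 4],
  [0, 3, 1, 3, 3, 1, 0, 3],
  [1, 0, 1, 0, 1, 4, 1],
  [3, 1, 3, 0, 3, 3],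
  [0, 3, 3, 0, 3, 2, 0],
  [3, 1, 4, 0],
  [2, 0, 3, 0, 4, 2, 4],
  [1, 0, 1, 0, 3, 0, 3, 3],
  [1, 0, 1, 0, 1, 0, 2],
  [1, 0, 2, 0, 2, 3, 2, 0],
  [1, 3, 3, 1, 0, 3, 2],
  [0, 2, 0, 3, 2, 0, 3],
  [1, 0, 2, 0, 1, 0, 2, 3],
  [4, 2, 4, 0, 3, 2, 4],
  [2, 0, 3, 0, 4, 0, 1]]

end Cfsg.Agent.Lib.Helper2.J3OutD
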