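import Cfsg.Agent.Lib.Helper2.PMStab6
import Cfsg.Agent.Lib.Helper2.J3Model
import Cfsg.Agent.Lib.Helper2.J3OutD
import Cfsg.Agent.Lib.Helper2.J3OutW

set_option autoImplicit false
set_option maxRecDepth 100000

/-! # The stabilizer of two points in the presented group `J3` -/

namespace Cfsg.Agent.Lib.Helper2.J3Out

open Cfsg.Agent.Lib.Helper6 Cfsg.Agent.Lib.Helper6.TC Cfsg.Agent.Lib.Helper6.TCD
open Cfsg.Agent.Lib.Helper6.PM Cfsg.Agent.Lib.Helper2.PMS Cfsg.Agent.Lib.Helper2.J3M
open Cfsg.Agent.Lib.Helper2.J3OutD

/-- the model -/
noncomputable abbrev M : PModel := j3Model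

/-- the word of the square of the element of order 8 -/
def ws : List ℕ := wh ++ wh

/-- the words of the stabilizer of the two points -/
def L68 : List (List ℕ) :=
  (List.range 17).flatMap fun i => (List.range 4).map fun j => rep i wp ++ rep j ws

/-- the data of the stabilizer -/
def D : Stab2Data where
  x := 804
  y := 2655
  W1 := W1
  W2 := W2
  L := L68
  bs := [0]

theorem chk_W1 : chkLetters M D.W1 = true := by decide +kernel
theorem chk_W2 : chkLetters M D.W2 = true := by decide +kernel
theorem chk_L : chkLetters M D.L = true := by decide +kernel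
theorem chk_h1 : imgs M D.W1 D.x = List.range 6156 := by decide +kernel
theorem chk_h2x : chkFixes M D.W2 D.x = true := by decide +kernel
theorem chk_h2 : (imgs M D.W2 D.y).Nodup := by decide +kernel
theorem chk_h3x : chkFixes M D.L D.x = true := by decide +kernel
theorem chk_h3y : chkFixes M D.L D.y = true := by decide +kernel
theorem chk_h3 : (keys M D.L D.bs).Nodup := by decide +kernel

theorem facts : Stab2Facts M D where
  hx := by show (804 : ℕ) < 6156; norm_num
  hy := by show (2655 : ℕ) < 6156; norm_num
  hbs := by
    intro b hb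
    show b < 6156
    have : b ∈ [0] := hb
    simp only [List.mem_cons, List.not_mem_nil, or_false] at this
    rw [this]; norm_num
  hW1 := chk_W1
  hW2 := chk_W2
  hL := chk_L
  h1 := by rw [chk_h1]; exact List.nodup_range
  h2x := chk_h2x
  h2 := chk_h2
  h3x := chk_h3x
  h3y := chk_h3y
  h3 := chk_h3
  hcard := by
    have e1 : D.W1.length = 6156 := by decide +kernel
    have e2 : D.W2.length = 120 := by decide +kernel
    have e3 : D.L.length = 68 := by decide +kernel
    rw [e1, e2, e3]
    exact card_G

theorem nil_mem : [] ∈ D.L := by decide +kernel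

end Cfsg.Agent.Lib.Helper2.J3Out
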