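import Cfsg.Agent.Lib.Helper2.J3Out3

set_option autoImplicit false
set_option maxRecDepth 100000

/-! # The normalizer of an element of order 17 and the centralizer of an element of order 8 in the
presented group `J3` -/

namespace Cfsg.Agent.Lib.Helper2.J3Out

open Cfsg.Agent.Lib.Helper6 Cfsg.Agent.Lib.Helper6.TC Cfsg.Agent.Lib.Helper6.TCD
open Cfsg.Agent.Lib.Helper6.PM Cfsg.Agent.Lib.Helper2.PMS Cfsg.Agent.Lib.Helper2.J3M
open Cfsg.Agent.Lib.Helper2.J3OutD

/-- the element of order 17 -/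
noncomputable def gp : M.G := M.elt wp
/-- the element of order 8 -/
noncomputable def gh : M.G := M.elt wh
/-- the involution -/
noncomputable def gv : M.G := M.elt wv

/-- the inverse letters -/
noncomputable def iv (c : ℕ) : ℕ := invc TCP.J3.INV c

theorem invMap : InvMap M iv := by
  intro c hc
  exact ⟨TCP.J3.hinv1 c hc, fun q hq => J3Idx.hP.hpx c hc q hq⟩

theorem lt_wp : ∀ c ∈ wp, c < M.nl := by decide
theorem lt_wh : ∀ c ∈ wh, c < M.nl := by decide
theorem lt_wv : ∀ c ∈ wv, c < M.nl := by decide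

/-- the inverse word of the element of order 17 -/
def wpi : List ℕ := [2, 4, 2, 0]
/-- the inverse word of the element of order 8 -/
def whi : List ℕ := [1, 4, 1, 0, 2, 4, 4, 0, 4, 0, 4, 0]

theorem wpi_eq : invw iv wp = wpi := by decide +kernel
theorem whi_eq : invw iv wh = whi := by decide +kernel

theorem gp_inv : gp⁻¹ = M.elt wpi := by
  rw [← wpi_eq]; exact (elt_invw M iv invMap wp lt_wp).symm
theorem gh_inv : gh⁻¹ = M.elt whi := by
  rw [← whi_eq]; exact (elt_invw M iv invMap wh lt_wh).symm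

theorem gp_pow (k : ℕ) : gp ^ k = M.elt (rep k wp) := (elt_rep M k wp).symm
theorem gh_pow (k : ℕ) : gh ^ k = M.elt (rep k wh) := (elt_rep M k wh).symm

theorem chk_p17 : chkBase M D (rep 17 wp) [] = true := by decide +kernel
theorem chk_p1 : chkNe M wp [] = true := by decide +kernel
theorem chk_h8 : chkBase M D (rep 8 wh) [] = true := by decide +kernel
theorem chk_hh4 : chkNe M (rep 4 wh) [] = true := by decide +kernel
theorem chk_v2 : chkBase M D (wv ++ wv) [] = true := by decide +kernel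
theorem chk_vh : chkBase M D (wv ++ wh) (rep 5 wh ++ wv) = true := by decide +kernel
theorem chk_ph : chkBase M D (whi ++ wp ++ wh) (rep 8 wp) = true := by decide +kernel
theorem chk_ph' : chkBase M D (wh ++ wp ++ whi) (rep 15 wp) = true := by decide +kernel

theorem gp_pow17 : gp ^ 17 = 1 := by
  rw [gp_pow, facts.elt_eq_of_chkBase nil_mem _ _ chk_p17, M.elt_nil]

theorem gp_ne : gp ≠ 1 := by
  have := elt_ne_of_chk M _ _ chk_p1
  rwa [M.elt_nil] at this

theorem orderOf_gp : orderOf gp = 17 :=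
  haveI : Fact (Nat.Prime 17) := ⟨by norm_num⟩
  orderOf_eq_prime gp_pow17 gp_ne

theorem orderOf_gh : orderOf gh = 8 := by
  have h8' : gh ^ 8 = 1 := by
    rw [gh_pow, facts.elt_eq_of_chkBase nil_mem _ _ chk_h8, M.elt_nil]
  have h4' : ¬ gh ^ 4 = 1 := by
    rw [gh_pow]
    have := elt_ne_of_chk M _ _ chk_hh4
    rwa [M.elt_nil] at this
  have h8 : gh ^ (2 ^ 3) = 1 := by norm_num; exact h8'
  have h4 : ¬ gh ^ (2 ^ 2) = 1 := by norm_num; exact h4'
  have := orderOf_eq_prime_pow h4 h8
  simpa using this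

theorem gv_sq : gv * gv = 1 := by
  unfold gv
  rw [← M.elt_append, facts.elt_eq_of_chkBase nil_mem _ _ chk_v2, M.elt_nil]

theorem gv_gh : gv * gh = gh ^ 5 * gv := by
  rw [gh_pow]
  unfold gv gh
  rw [← M.elt_append, ← M.elt_append]
  exact facts.elt_eq_of_chkBase nil_mem _ _ chk_vh

theorem rel_ph : gh⁻¹ * gp * gh = gp ^ 8 := by
  rw [gh_inv, gp_pow]
  unfold gp gh
  rw [← M.elt_append, ← M.elt_append]
  exact facts.elt_eq_of_chkBase nil_mem _ _ chk_ph

theorem rel_ph' : gh * gp * gh⁻¹ = gp ^ 15 := by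
  rw [gh_inv, gp_pow]
  unfold gp gh
  rw [← M.elt_append, ← M.elt_append]
  exact facts.elt_eq_of_chkBase nil_mem _ _ chk_ph'

end Cfsg.Agent.Lib.Helper2.J3Out
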