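import Cfsg.Agent.Lib.Helper2.J3Out4

set_option autoImplicit false
set_option maxRecDepth 100000

/-! # The normalizer of an element of order 17 and the centralizer of an element of order 8 in the
presented group `J3`: the proofs -/

namespace Cfsg.Agent.Lib.Helper2.J3Out

open Cfsg.Agent.Lib.Helper6 Cfsg.Agent.Lib.Helper6.TC Cfsg.Agent.Lib.Helper6.TCD
open Cfsg.Agent.Lib.Helper6.PM Cfsg.Agent.Lib.Helper2.PMS Cfsg.Agent.Lib.Helper2.J3M
open Cfsg.Agent.Lib.Helper2.J3OutD

theorem chk_fixp : chkFixIn M wp [D.x, D.y] = true := by decide +kernel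
theorem hpx : wapp M.px wp D.x = D.x := by decide +kernel
theorem hpy : wapp M.px wp D.y = D.y := by decide +kernel
theorem hhx : wapp M.px wh D.x = D.y := by decide +kernel
theorem hhy : wapp M.px wh D.y = D.x := by decide +kernel

theorem elt_ws : M.elt ws = gh * gh := M.elt_append wh wh

theorem mem_L68 (l : List ℕ) (hl : l ∈ D.L) : ∃ i j : ℕ, M.elt l = gp ^ i * gh ^ j := by
  have hl' : l ∈ L68 := hl
  unfold L68 at hl'
  rw [List.mem_flatMap] at hl'
  obtain ⟨i, _, hl'⟩ := hl'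
  rw [List.mem_map] at hl'
  obtain ⟨j, _, rfl⟩ := hl'
  refine ⟨i, 2 * j, ?_⟩
  rw [M.elt_append, elt_rep, elt_rep, elt_ws, pow_mul, pow_two]
  rfl

/-- the normalizer of the element of order 17 -/
theorem normalizer_gp (n : M.G) (h : ∃ k : ℕ, n⁻¹ * gp * n = gp ^ k) :
    ∃ i j : ℕ, n = gp ^ i * gh ^ j :=
  facts.normalizer_of_two_fixed wp wh 15 chk_fixp lt_wh hpx hpy hhx hhy (by decide) rel_ph'
    (fun l hl _ => mem_L68 l hl) n h

theorem chk_cent : chkCent M D wh 8 = true := by decide +kernel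

/-- the centralizer of the element of order 8 -/
theorem centralizer_gh (c : M.G) (hc : c * gh = gh * c) : ∃ k : ℕ, c = gh ^ k :=
  facts.centralizer_of_chk nil_mem wh 8 lt_wh hhx hhy chk_cent c hc

theorem gh_pow8 : gh ^ 8 = 1 := by rw [← orderOf_gh]; exact pow_orderOf_eq_one gh

theorem gv_inv : gv⁻¹ = gv := inv_eq_of_mul_eq_one_right gv_sq

theorem gv_gh_pow (k : ℕ) : gv * gh ^ k = gh ^ (5 * k) * gv := by
  have h0 : gv * gh * gv⁻¹ = gh ^ 5 := by rw [gv_gh]; group
  have h1 : (gv * gh * gv⁻¹) ^ k = gv * gh ^ k * gv⁻¹ := conj_pow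
  rw [h0, ← pow_mul] at h1
  rw [h1]
  group

/-- the involutions acting on the element of order 8 as `gv` does -/
theorem cand (c : M.G) (hcc : c * c = 1) (hch : c * gh = gh ^ 5 * c) (_hz : c ∉ Subgroup.zpowers gh) :
    c = gv ∨ c = gv * gh ^ 4 := by
  have hd : (gv * c) * gh = gh * (gv * c) := by
    rw [mul_assoc, hch, ← mul_assoc, gv_gh_pow, mul_assoc]
    congr 1
    show gh ^ 25 = gh
    rw [← pow_mod_orderOf, orderOf_gh]
    norm_num
  obtain ⟨k, hk⟩ := centralizer_gh _ hd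
  have hc : c = gv * gh ^ k := by
    rw [← hk, ← mul_assoc, gv_sq, one_mul]
  have h6 : gh ^ (6 * k) = 1 := by
    have : c * c = gh ^ (6 * k) := by
      rw [hc]
      calc gv * gh ^ k * (gv * gh ^ k) = (gv * gh ^ k) * gv * gh ^ k := by group
        _ = gh ^ (5 * k) * gv * gv * gh ^ k := by rw [gv_gh_pow]
        _ = gh ^ (5 * k) * (gv * gv) * gh ^ k := by group
        _ = gh ^ (6 * k) := by
          rw [gv_sq, mul_one, ← pow_add]
          congr 1
          ring
    rw [← this, hcc]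
  have h7 : 8 ∣ 6 * k := by rw [← orderOf_gh]; exact orderOf_dvd_of_pow_eq_one h6
  have h8 : 4 ∣ k := by omega
  obtain ⟨t, rfl⟩ := h8
  rcases Nat.even_or_odd' t with ⟨u, rfl | rfl⟩
  · left
    rw [hc]
    have : 4 * (2 * u) = 8 * u := by ring
    rw [this, pow_mul, gh_pow8, one_pow, mul_one]
  · right
    rw [hc]
    have : 4 * (2 * u + 1) = 8 * u + 4 := by ring
    rw [this, pow_add, pow_mul, gh_pow8, one_pow, one_mul]

end Cfsg.Agent.Lib.Helper2.J3Out
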