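import Cfsg.Agent.Lib.Helper2.J3Out5
import Cfsg.Agent.Lib.Helper2.J3OutT
import Cfsg.Agent.Lib.Helper2.PMConj

set_option autoImplicit false
set_option maxRecDepth 100000

/-! # The outer automorphism of the presented group `J3` -/

namespace Cfsg.Agent.Lib.Helper2.J3Out

open Cfsg.Agent.Lib.Helper6 Cfsg.Agent.Lib.Helper6.TC Cfsg.Agent.Lib.Helper6.TCD
open Cfsg.Agent.Lib.Helper6.PM Cfsg.Agent.Lib.Helper2.PMS Cfsg.Agent.Lib.Helper2.J3M
open Cfsg.Agent.Lib.Helper2.J3OutD

theorem chk_col : chkCol tau tau M.n = true := by decide +kernel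
theorem chk_B : chkLetters M Bw = true := by decide +kernel
theorem chk_conj0 : chkConj M tau Bw 0 = true := by decide +kernel
theorem chk_conj1 : chkConj M tau Bw 1 = true := by decide +kernel
theorem chk_conj2 : chkConj M tau Bw 2 = true := by decide +kernel
theorem chk_conj3 : chkConj M tau Bw 3 = true := by decide +kernel
theorem chk_conj4 : chkConj M tau Bw 4 = true := by decide +kernel

theorem conjFacts : ConjFacts M tau tau Bw where
  hcol := chk_col
  hB := chk_B
  hlen := by decide
  hconj := by
    intro c hc
    have hc' : c < 5 := hc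
    interval_cases c
    · exact chk_conj0
    · exact chk_conj1
    · exact chk_conj2
    · exact chk_conj3
    · exact chk_conj4

/-- the outer automorphism -/
noncomputable def beta : MulAut M.G := conjFacts.aut

theorem chk_bp : chkBase M D (expand Bw wp) wp = true := by decide +kernel
theorem chk_bh : chkBase M D (expand Bw wh) wh = true := by decide +kernel
theorem chk_bv : chkBase M D (expand Bw wv) (wv ++ rep 4 wh) = true := by decide +kernel

theorem beta_gp : beta gp = gp := by
  unfold gp beta
  rw [conjFacts.aut_elt wp lt_wp]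
  exact facts.elt_eq_of_chkBase nil_mem _ _ chk_bp

theorem beta_gh : beta gh = gh := by
  unfold gh beta
  rw [conjFacts.aut_elt wh lt_wh]
  exact facts.elt_eq_of_chkBase nil_mem _ _ chk_bh

theorem beta_gv : beta gv = gv * gh ^ 4 := by
  rw [gh_pow]
  unfold gv beta
  rw [conjFacts.aut_elt wv lt_wv, ← M.elt_append]
  exact facts.elt_eq_of_chkBase nil_mem _ _ chk_bv

end Cfsg.Agent.Lib.Helper2.J3Out
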