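import Cfsg.Agent.Lib.Helper2.RigidOut2

set_option autoImplicit false

/-! # Outer automorphisms from a rigid triple of generators: the general normalization -/

namespace Cfsg.Agent.Lib.Helper2.RigidOut

open Cfsg.Agent.Lib.Helper1
open scoped Pointwise

variable {G : Type*} [Group G]

theorem pow_mod_period {r q e : ℕ} (hr : r ^ e % q = 1 % q) (j : ℕ) :
    r ^ j % q = r ^ (j % e) % q := by
  conv_lhs => rw [← Nat.div_add_mod j e]
  rw [pow_add, pow_mul, Nat.mul_mod, Nat.pow_mod, hr]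
  rcases Nat.lt_or_ge 1 q with h1 | h1
  · rw [Nat.mod_eq_of_lt h1, one_pow, Nat.mod_eq_of_lt h1, one_mul, Nat.mod_mod]
  · interval_cases q
    · simp
    · simp [Nat.mod_one]

/-- Sylow: an automorphism maps `p` into a conjugate of `⟨p⟩` -/
theorem exists_conj_pow' [Finite G] (q : ℕ) [hq : Fact q.Prime] (p : G) (m : ℕ)
    (hcard : Nat.card G = q * m) (hm : ¬ q ∣ m)
    (hp : orderOf p = q) (α : MulAut G) : ∃ g : G, ∃ k < q, g * α p * g⁻¹ = p ^ k := by
  have hm0 : m ≠ 0 := by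
    rintro rfl
    have := Nat.card_pos (α := G)
    rw [hcard] at this
    omega
  have hfac : (Nat.card G).factorization q = 1 := by
    rw [hcard, Nat.factorization_mul hq.out.ne_zero hm0]
    simp [Nat.Prime.factorization_self hq.out, Nat.factorization_eq_zero_of_not_dvd hm]
  set P : Subgroup G := Subgroup.zpowers p with hP
  have hPc : Nat.card P = q := by rw [hP, Nat.card_zpowers, hp]
  set P' : Subgroup G := P.map α.toMonoidHom with hP'
  have hP'c : Nat.card P' = q := by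
    rw [hP', Subgroup.card_map_of_injective α.injective, hPc]
  let S : Sylow q G := Sylow.ofCard P (by rw [hPc, hfac, pow_one])
  let S' : Sylow q G := Sylow.ofCard P' (by rw [hP'c, hfac, pow_one])
  obtain ⟨g, hg⟩ := MulAction.exists_smul_eq G S' S
  have h1 : (g • S' : Sylow q G).toSubgroup = S.toSubgroup := by rw [hg]
  rw [Sylow.coe_subgroup_smul] at h1
  have h2 : g * α p * g⁻¹ ∈ P := by
    have h3 : g * α p * g⁻¹ ∈ MulAut.conj g • S'.toSubgroup := by
      rw [Subgroup.mem_pointwise_smul_iff_inv_smul_mem]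
      have : (MulAut.conj g)⁻¹ • (g * α p * g⁻¹) = α p := by
        rw [MulAut.smul_def, ← map_inv, MulAut.conj_apply]
        group
      rw [this]
      exact ⟨p, Subgroup.mem_zpowers p, rfl⟩
    rw [h1] at h3
    exact h3
  obtain ⟨j, hj, e⟩ := exists_pow_of_mem_zpowers' hp hq.out.pos h2
  exact ⟨g, j, hj, e⟩

/-- the normalization of an automorphism by inner automorphisms -/
theorem rigid_normalize [Finite G] (q r e m μ κ : ℕ) [hq : Fact q.Prime] (E : List ℕ) (p h v v' : G)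
    (hcard : Nat.card G = q * m) (hm : ¬ q ∣ m)
    (hp : orderOf p = q) (hh : orderOf h = e) (he : 0 < e)
    (hph : h⁻¹ * p * h = p ^ r)
    (hr1 : r ^ e % q = 1 % q)
    (hord : ∀ j < e, r ^ j % q = r % q → j = 1)
    (hE : ∀ k < q, 0 < k → ∃ j, ∃ ε ∈ E, r ^ j * k % q = ε % q)
    (hEc : ∀ ε ∈ E, Nat.Coprime ε q)
    (hμ : r * (μ + 1) % q = μ % q)
    (hN : ∀ n : G, (∃ k : ℕ, n⁻¹ * p * n = p ^ k) → ∃ i j : ℕ, n = p ^ i * h ^ j)
    (hvh : v * h = h ^ κ * v) (hv2 : v * v = 1) (hvz : v ∉ Subgroup.zpowers h)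
    (hcand : ∀ c : G, c * c = 1 → c * h = h ^ κ * c → c ∉ Subgroup.zpowers h → c = v ∨ c = v')
    (α : MulAut G) :
    ∃ g : G, ∃ ε ∈ E, (MulAut.conj g * α) p = p ^ ε ∧ (MulAut.conj g * α) h = h ∧
      ((MulAut.conj g * α) v = v ∨ (MulAut.conj g * α) v = v') := by
  have hq1 : 1 < q := hq.out.one_lt
  have hp1 : p ≠ 1 := by
    intro h1
    rw [h1, orderOf_one] at hp
    omega
  -- the shape of an element normalizing `p` to a given power
  have hshape : ∀ (n : G) (k : ℕ), n⁻¹ * p * n = p ^ k → ∃ i j : ℕ, n = p ^ i * h ^ j ∧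
      r ^ j % q = k % q := by
    intro n k hk
    obtain ⟨i, j, rfl⟩ := hN n ⟨k, hk⟩
    refine ⟨i, j, rfl, ?_⟩
    have e1 : (p ^ i * h ^ j)⁻¹ * p * (p ^ i * h ^ j) = (h ^ j)⁻¹ * p ^ 1 * h ^ j := by
      rw [mul_inv_rev, pow_one]
      have : (p ^ i)⁻¹ * p * p ^ i = p := by
        rw [mul_assoc, (Commute.self_pow p i).eq, ← mul_assoc, inv_mul_cancel, one_mul]
      calc (h ^ j)⁻¹ * (p ^ i)⁻¹ * p * (p ^ i * h ^ j)
          = (h ^ j)⁻¹ * ((p ^ i)⁻¹ * p * p ^ i) * h ^ j := by group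
        _ = (h ^ j)⁻¹ * p * h ^ j := by rw [this]
    rw [e1, conj_rel_pow_pow hph, mul_one] at hk
    have := (pow_eq_pow_iff_modEq).mp hk
    rw [hp] at this
    exact this
  have hph' : ∀ i : ℕ, p ^ i * h = h * p ^ (r * i) := by
    intro i
    have := conj_rel_pow hph i
    rw [← this]
    group
  -- first normalization
  obtain ⟨g, k, hkq, hgk⟩ := exists_conj_pow' q p m hcard hm hp α
  have hk0 : 0 < k := by
    rcases Nat.eq_zero_or_pos k with rfl | h0
    · exfalso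
      rw [pow_zero] at hgk
      have : α p = 1 := by
        have : α p = g⁻¹ * (g * α p * g⁻¹) * g := by group
        rw [this, hgk]
        group
      exact hp1 (by simpa using this)
    · exact h0
  obtain ⟨j, ε, hεE, hj⟩ := hE k hkq hk0
  set α₂ : MulAut G := MulAut.conj ((h ^ j)⁻¹) * (MulAut.conj g * α) with hα₂
  have hα₂p : α₂ p = p ^ ε := by
    rw [hα₂, MulAut.mul_apply, MulAut.mul_apply, MulAut.conj_apply, MulAut.conj_apply, hgk, inv_inv,
      conj_rel_pow_pow hph, pow_eq_pow_iff_modEq, hp]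
    exact hj
  -- second normalization
  have e1 : (α₂ h)⁻¹ * p ^ ε * α₂ h = p ^ (ε * r) := by
    have : α₂ (h⁻¹ * p * h) = α₂ (p ^ r) := by rw [hph]
    rw [map_mul, map_mul, map_inv, map_pow, hα₂p, ← pow_mul] at this
    exact this
  obtain ⟨ε', -, hε'⟩ := Nat.exists_mul_mod_eq_one_of_coprime (hEc ε hεE) hq1
  have e2 : (α₂ h)⁻¹ * p * α₂ h = p ^ (ε * r * ε') := by
    have h1 : p = (p ^ ε) ^ ε' := by
      rw [← pow_mul]
      conv_lhs => rw [← pow_one p]
      rw [pow_eq_pow_iff_modEq, hp]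
      show 1 % q = (ε * ε') % q
      rw [hε', Nat.mod_eq_of_lt hq1]
    have h2 : ((α₂ h)⁻¹ * p ^ ε * (α₂ h)⁻¹⁻¹) ^ ε' = (α₂ h)⁻¹ * (p ^ ε) ^ ε' * (α₂ h)⁻¹⁻¹ := conj_pow
    rw [inv_inv] at h2
    conv_lhs => rw [h1]
    rw [← h2, e1, ← pow_mul]
  obtain ⟨i, j', hij, hj'⟩ := hshape (α₂ h) _ e2
  have hj1 : r ^ j' % q = r % q := by
    rw [hj']
    have : ε * r * ε' = r * (ε * ε') := by ring
    rw [this, Nat.mul_mod, hε', Nat.mul_one, Nat.mod_mod]
  have hj2 : j' % e = 1 := by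
    apply hord (j' % e) (Nat.mod_lt _ he)
    rw [← pow_mod_period hr1, hj1]
  have hhj : h ^ j' = h := by
    rw [← pow_mod_orderOf, hh, hj2, pow_one]
  rw [hhj] at hij
  set α₃ : MulAut G := MulAut.conj (p ^ (μ * i)) * α₂ with hα₃
  have hα₃p : α₃ p = p ^ ε := by
    rw [hα₃, MulAut.mul_apply, MulAut.conj_apply, hα₂p, ← pow_add, add_comm, pow_add, mul_assoc,
      mul_inv_cancel, mul_one]
  have hα₃h : α₃ h = h := by
    rw [hα₃, MulAut.mul_apply, MulAut.conj_apply, hij]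
    have e3 : p ^ (μ * i) * (p ^ i * h) = p ^ (μ * i + i) * h := by
      rw [← mul_assoc, ← pow_add]
    have e4 : p ^ (r * (μ * i + i)) = p ^ (μ * i) := by
      rw [pow_eq_pow_iff_modEq, hp]
      show (r * (μ * i + i)) % q = (μ * i) % q
      have : r * (μ * i + i) = (r * (μ + 1)) * i := by ring
      rw [this, Nat.mul_mod, hμ, ← Nat.mul_mod]
    rw [e3, hph' (μ * i + i), e4, mul_assoc, mul_inv_cancel, mul_one]
  -- the image of `v`
  have hcc : α₃ v * α₃ v = 1 := by rw [← map_mul, hv2, map_one]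
  have hch : α₃ v * h = h ^ κ * α₃ v := by
    have : α₃ (v * h) = α₃ (h ^ κ * v) := by rw [hvh]
    rw [map_mul, map_mul, map_pow, hα₃h] at this
    exact this
  have hcz : α₃ v ∉ Subgroup.zpowers h := by
    intro hz
    obtain ⟨z, hz⟩ := Subgroup.mem_zpowers_iff.mp hz
    apply hvz
    rw [Subgroup.mem_zpowers_iff]
    refine ⟨z, ?_⟩
    apply α₃.injective
    rw [map_zpow, hα₃h, hz]
  have hcase := hcand (α₃ v) hcc hch hcz
  refine ⟨p ^ (μ * i) * ((h ^ j)⁻¹ * g), ε, hεE, ?_⟩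
  have e5 : MulAut.conj (p ^ (μ * i) * ((h ^ j)⁻¹ * g)) * α = α₃ := by
    rw [hα₃, hα₂, map_mul, map_mul]
    simp only [mul_assoc]
  rw [e5]
  exact ⟨hα₃p, hα₃h, hcase⟩

/-- the order of the outer automorphism group from the classification of the normalized
automorphisms -/
theorem card_out_two_of_normalized (E : List ℕ) (p h v v' : G) (β : MulAut G)
    (hβ : β ∉ (MulAut.conj : G →* MulAut G).range)
    (hnorm : ∀ α : MulAut G, ∃ g : G, ∃ ε ∈ E, (MulAut.conj g * α) p = p ^ ε ∧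
      (MulAut.conj g * α) h = h ∧ ((MulAut.conj g * α) v = v ∨ (MulAut.conj g * α) v = v'))
    (hclass : ∀ (α : MulAut G) (ε : ℕ), ε ∈ E → α p = p ^ ε → α h = h → (α v = v ∨ α v = v') →
      α = 1 ∨ α = β) : Nat.card (Cfsg.Out G) = 2 := by
  refine card_out_eq_two β hβ ?_
  intro α hα
  obtain ⟨g, ε, hε, h1, h2, h3⟩ := hnorm α
  rcases hclass _ ε hε h1 h2 h3 with h4 | h4
  · exfalso
    apply hα
    have : α = (MulAut.conj g)⁻¹ := eq_inv_of_mul_eq_one_right h4
    rw [this]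
    exact Subgroup.inv_mem _ ⟨g, rfl⟩
  · have : α * β⁻¹ = (MulAut.conj g)⁻¹ := by
      rw [← h4]
      group
    rw [this]
    exact Subgroup.inv_mem _ ⟨g, rfl⟩

end Cfsg.Agent.Lib.Helper2.RigidOut

namespace Cfsg.Agent.Lib.Helper2.RigidOut

variable {G : Type*} [Group G]

/-- a nontrivial automorphism fixing `p` and `h` is not inner, when the normalizer of `⟨p⟩` is
`⟨p⟩⟨h⟩` with `h` acting faithfully -/
theorem not_inner_of_fix (q r e : ℕ) (p h : G) (hq : 0 < q)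
    (hp : orderOf p = q) (hh : orderOf h = e) (he : 0 < e)
    (hph : h⁻¹ * p * h = p ^ r)
    (hr1 : r ^ e % q = 1 % q)
    (hord0 : ∀ j < e, r ^ j % q = 1 % q → j = 0)
    (hr' : ∀ i < q, (r * i) % q = i → i = 0)
    (hN : ∀ n : G, (∃ k : ℕ, n⁻¹ * p * n = p ^ k) → ∃ i j : ℕ, n = p ^ i * h ^ j)
    (β : MulAut G) (hβp : β p = p) (hβh : β h = h) (hne : β ≠ 1) :
    β ∉ (MulAut.conj : G →* MulAut G).range := by
  rintro ⟨k, hk⟩
  apply hne
  have hkp : k * p * k⁻¹ = p := by rw [← MulAut.conj_apply, hk, hβp]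
  have hkh : k * h * k⁻¹ = h := by rw [← MulAut.conj_apply, hk, hβh]
  have e1 : k⁻¹ * p * k = p ^ 1 := by
    rw [pow_one]
    conv_lhs => rw [← hkp]
    group
  obtain ⟨i, j, rfl⟩ := hN k ⟨1, e1⟩
  have e2 : (p ^ i * h ^ j)⁻¹ * p * (p ^ i * h ^ j) = (h ^ j)⁻¹ * p ^ 1 * h ^ j := by
    rw [mul_inv_rev, pow_one]
    have : (p ^ i)⁻¹ * p * p ^ i = p := by
      rw [mul_assoc, (Commute.self_pow p i).eq, ← mul_assoc, inv_mul_cancel, one_mul]
    calc (h ^ j)⁻¹ * (p ^ i)⁻¹ * p * (p ^ i * h ^ j)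
        = (h ^ j)⁻¹ * ((p ^ i)⁻¹ * p * p ^ i) * h ^ j := by group
      _ = (h ^ j)⁻¹ * p * h ^ j := by rw [this]
  rw [e2, conj_rel_pow_pow hph, mul_one] at e1
  have e3 := (pow_eq_pow_iff_modEq).mp e1
  rw [hp] at e3
  have e4 : r ^ (j % e) % q = 1 % q := by rw [← pow_mod_period hr1]; exact e3
  have hj0 : j % e = 0 := hord0 _ (Nat.mod_lt _ he) e4
  have hhj : h ^ j = 1 := by rw [← pow_mod_orderOf, hh, hj0, pow_zero]
  rw [hhj, mul_one] at hkh hk
  have e5 : p ^ i * h = h * p ^ i := by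
    conv_rhs => rw [← hkh]
    group
  have hph' : p ^ i * h = h * p ^ (r * i) := by
    have := conj_rel_pow hph i
    rw [← this]
    group
  have e6 : p ^ i = p ^ (r * i) := by
    rw [e5] at hph'
    exact mul_left_cancel hph'
  have e7 := (pow_eq_pow_iff_modEq).mp e6
  rw [hp] at e7
  have e8 : (r * (i % q)) % q = i % q := by
    rw [Nat.mul_mod, Nat.mod_mod, ← Nat.mul_mod]
    exact e7.symm
  have hi0 : i % q = 0 := hr' _ (Nat.mod_lt _ hq) e8
  have hpi : p ^ i = 1 := by rw [← pow_mod_orderOf, hp, hi0, pow_zero]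
  rw [← hk, hpi, map_one]

end Cfsg.Agent.Lib.Helper2.RigidOut
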