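import Cfsg.Agent.Lib.Helper2.J3Out6
import Cfsg.Agent.Lib.Helper2.RigidOut3

set_option autoImplicit false
set_option maxRecDepth 100000

/-! # The outer automorphism group of the presented group `J3` has order two -/

namespace Cfsg.Agent.Lib.Helper2.J3Out

open Cfsg.Agent.Lib.Helper6 Cfsg.Agent.Lib.Helper6.TC Cfsg.Agent.Lib.Helper6.TCD
open Cfsg.Agent.Lib.Helper6.PM Cfsg.Agent.Lib.Helper2.PMS Cfsg.Agent.Lib.Helper2.J3M
open Cfsg.Agent.Lib.Helper2.J3OutD Cfsg.Agent.Lib.Helper2.RigidOut

/-- the three generators and the inverses of the first two -/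
def ws5 : List (List ℕ) := [wp, wh, wv, wpi, whi]

theorem chk_gen : (List.range 5).all (fun c => chkBase M D [c] (expand ws5 (Wl.getD c []))) = true := by
  decide +kernel

theorem letter_eq (c : ℕ) (hc : c < 5) : M.elt [c] = M.elt (expand ws5 (Wl.getD c [])) := by
  have h1 := chk_gen
  rw [List.all_eq_true] at h1
  exact facts.elt_eq_of_chkBase nil_mem _ _ (h1 c (List.mem_range.mpr hc))

theorem closure_gens : Subgroup.closure ({gp, gh, gv} : Set M.G) = ⊤ := by
  rw [eq_top_iff, ← M.closure_letters, Subgroup.closure_le]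
  rintro g ⟨c, hc, rfl⟩
  rw [letter_eq c hc]
  have h3 := elt_expand_mem M ws5 (Wl.getD c [])
  have h4 : Cfsg.Agent.Lib.Helper6.PM.subH M ws5 ≤ Subgroup.closure ({gp, gh, gv} : Set M.G) := by
    unfold Cfsg.Agent.Lib.Helper6.PM.subH
    rw [Subgroup.closure_le]
    rintro g ⟨i, hi, rfl⟩
    have hi' : i < 5 := hi
    have hp : gp ∈ Subgroup.closure ({gp, gh, gv} : Set M.G) := Subgroup.subset_closure (by simp)
    have hh : gh ∈ Subgroup.closure ({gp, gh, gv} : Set M.G) := Subgroup.subset_closure (by simp)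
    have hv : gv ∈ Subgroup.closure ({gp, gh, gv} : Set M.G) := Subgroup.subset_closure (by simp)
    interval_cases i
    · exact hp
    · exact hh
    · exact hv
    · show M.elt wpi ∈ _
      rw [← gp_inv]
      exact Subgroup.inv_mem _ hp
    · show M.elt whi ∈ _
      rw [← gh_inv]
      exact Subgroup.inv_mem _ hh
  exact h4 h3

theorem gh_pow4_ne : gh ^ 4 ≠ 1 := by
  rw [gh_pow]
  have := elt_ne_of_chk M _ _ chk_hh4
  rwa [M.elt_nil] at this

theorem gv_not_mem : gv ∉ Subgroup.zpowers gh := by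
  intro hz
  obtain ⟨z, hz⟩ := Subgroup.mem_zpowers_iff.mp hz
  have hcomm : gv * gh = gh * gv := by
    rw [← hz, ← zpow_add_one, ← zpow_one_add]
    congr 1
    ring
  have h1 : gh ^ 5 * gv = gh * gv := by rw [← gv_gh, hcomm]
  have h2 : gh ^ 5 = gh := mul_right_cancel h1
  apply gh_pow4_ne
  have h3 : gh ^ 4 * gh = 1 * gh := by rw [← pow_succ, one_mul]; exact h2
  exact mul_right_cancel h3

/-! ## The elimination of the other coset of exponents -/

/-- the images of the generators under a hypothetical automorphism cubing the element of order 17 -/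
def ws5' (wc : List ℕ) : List (List ℕ) := [rep 3 wp, wh, wc, rep 3 wpi, whi]

theorem chk_a2 : chkBase M D [0, 0] [] = true := by decide +kernel

theorem chk_elim1 : chkNe M (expand (ws5' wv) (Wl.getD 0 []) ++ expand (ws5' wv) (Wl.getD 0 [])) [] =
    true := by decide +kernel

theorem chk_elim2 : chkNe M (expand (ws5' (wv ++ rep 4 wh)) (Wl.getD 0 []) ++
    expand (ws5' (wv ++ rep 4 wh)) (Wl.getD 0 [])) [] = true := by decide +kernel

theorem elim (α : MulAut M.G) (wc : List ℕ) (hp : α gp = gp ^ 3) (hh : α gh = gh) (hv : α gv = M.elt wc)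
    (hchk : chkNe M (expand (ws5' wc) (Wl.getD 0 []) ++ expand (ws5' wc) (Wl.getD 0 [])) [] = true) :
    False := by
  have ha2 : M.elt [0] * M.elt [0] = 1 := by
    rw [← M.elt_append, ← M.elt_nil]
    exact facts.elt_eq_of_chkBase nil_mem _ _ chk_a2
  have hf : ∀ i < ws5.length, α.toMonoidHom (M.elt (ws5.getD i [])) = M.elt ((ws5' wc).getD i []) := by
    intro i hi
    have hi' : i < 5 := hi
    interval_cases i
    · show α gp = M.elt (rep 3 wp)
      rw [hp, gp_pow]
    · exact hh
    · exact hv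
    · show α (M.elt wpi) = M.elt (rep 3 wpi)
      rw [← gp_inv, map_inv, hp, elt_rep, ← gp_inv, inv_pow]
    · show α (M.elt whi) = M.elt whi
      rw [← gh_inv, map_inv, hh]
  have hW : ∀ i ∈ Wl.getD 0 [], i < ws5.length := by decide
  have h1 := map_elt_expand (M := M) α.toMonoidHom ws5 (ws5' wc) hf (Wl.getD 0 []) hW
  rw [← letter_eq 0 (by norm_num)] at h1
  have h2 : α.toMonoidHom (M.elt [0]) * α.toMonoidHom (M.elt [0]) = 1 := by
    rw [← map_mul, ha2, map_one]
  rw [h1, ← M.elt_append] at h2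
  have h3 := elt_ne_of_chk M _ _ hchk
  rw [M.elt_nil] at h3
  exact h3 h2

/-! ## The classification of the normalized automorphisms -/

theorem det (γ δ : MulAut M.G) (h1 : γ gp = δ gp) (h2 : γ gh = δ gh) (h3 : γ gv = δ gv) : γ = δ := by
  have : γ.toMonoidHom = δ.toMonoidHom := by
    apply MonoidHom.eq_of_eqOn_dense closure_gens
    intro x hx
    rcases hx with rfl | rfl | rfl
    · exact h1
    · exact h2
    · exact h3
  ext x
  exact DFunLike.congr_fun this x

theorem hclass (α : MulAut M.G) (ε : ℕ) (hε : ε ∈ [1, 3]) (hp : α gp = gp ^ ε) (hh : α gh = gh)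
    (hv : α gv = gv ∨ α gv = gv * gh ^ 4) : α = 1 ∨ α = beta := by
  simp only [List.mem_cons, List.not_mem_nil, or_false] at hε
  rcases hε with rfl | rfl
  · rw [pow_one] at hp
    rcases hv with hv | hv
    · left
      exact det α 1 hp hh hv
    · right
      exact det α beta (by rw [hp, beta_gp]) (by rw [hh, beta_gh]) (by rw [hv, beta_gv])
  · exfalso
    rcases hv with hv | hv
    · exact elim α wv hp hh hv chk_elim1
    · refine elim α (wv ++ rep 4 wh) hp hh ?_ chk_elim2
      rw [hv, M.elt_append, elt_rep]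
      rfl

theorem beta_ne_one : beta ≠ 1 := by
  intro h
  have h1 := beta_gv
  rw [h] at h1
  have h2 : gv * 1 = gv * gh ^ 4 := by rw [mul_one]; exact h1
  exact gh_pow4_ne (mul_left_cancel h2).symm

theorem card_out_G : Nat.card (Cfsg.Out Cfsg.Agent.Lib.Helper6.TCP.J3.G) = 2 := by
  haveI : Fact (Nat.Prime 17) := ⟨by norm_num⟩
  have hN := normalizer_gp
  have hβ : beta ∉ (MulAut.conj : M.G →* MulAut M.G).range :=
    not_inner_of_fix 17 8 8 gp gh (by norm_num) orderOf_gp orderOf_gh (by norm_num) rel_ph (by norm_num)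
      (by decide) (by decide) hN beta beta_gp beta_gh beta_ne_one
  have hE : ∀ k < 17, 0 < k → ∃ j, ∃ ε ∈ [1, 3], 8 ^ j * k % 17 = ε % 17 := by
    have h : ∀ k < 17, 0 < k → ∃ j < 8, ∃ ε ∈ [1, 3], 8 ^ j * k % 17 = ε % 17 := by decide
    intro k hk hk0
    obtain ⟨j, _, ε, hε, e⟩ := h k hk hk0
    exact ⟨j, ε, hε, e⟩
  have hnorm := rigid_normalize (G := M.G) 17 8 8 2954880 11 5 [1, 3] gp gh gv (gv * gh ^ 4)
    (by rw [show Nat.card M.G = 50232960 from card_G]) (by norm_num) orderOf_gp orderOf_gh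
    (by norm_num) rel_ph (by norm_num) (by decide) hE (by decide) (by norm_num) hN gv_gh gv_sq
    gv_not_mem cand
  exact card_out_two_of_normalized (G := M.G) [1, 3] gp gh gv (gv * gh ^ 4) beta hβ hnorm hclass

end Cfsg.Agent.Lib.Helper2.J3Out
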