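import Mathlib

set_option autoImplicit false
set_option linter.style.haveILetI false

namespace Cfsg.Agent.Lib.Helper2.KFS

open Subgroup

universe u

theorem comm_of_sq_one {G : Type*} [Group G] {a b : G} (ha : a * a = 1) (hb : b * b = 1)
    (hab : (a * b) * (a * b) = 1) : a * b = b * a := by
  have h1 : a⁻¹ = a := by rw [inv_eq_iff_mul_eq_one]; exact ha
  have h2 : b⁻¹ = b := by rw [inv_eq_iff_mul_eq_one]; exact hb
  have h3 : (a * b)⁻¹ = a * b := by rw [inv_eq_iff_mul_eq_one]; exact hab
  rw [mul_inv_rev, h1, h2] at h3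
  exact h3.symm

theorem comm_of_orderOf_eq_card {S : Type*} [Group S] [Finite S] (g : S)
    (hg : orderOf g = Nat.card S) (a b : S) : a * b = b * a := by
  haveI hcyc : IsCyclic S := isCyclic_of_orderOf_eq_card g hg
  exact (isMulCommutative_iff.1 (IsCyclic.isMulCommutative (α := S))) a b

theorem not_mem_center_of_card_lt {S : Type*} [Group S] [Finite S] (x : S)
    (h : Nat.card (centralizer ({x} : Set S)) < Nat.card S) : x ∉ center S := by
  intro hx
  have : centralizer ({x} : Set S) = ⊤ := by
    rw [eq_top_iff]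
    intro g _
    rw [mem_centralizer_singleton_iff]
    exact (mem_center_iff.1 hx g)
  rw [this, card_top] at h
  exact lt_irrefl _ h

/-- a group of order 8 with a non-central element has an element of order 4 -/
theorem exists_orderOf_four {S : Type*} [Group S] [Finite S] (h8 : Nat.card S = 8) (x : S)
    (hx : x ∉ center S) : ∃ r : S, orderOf r = 4 := by
  by_contra hcon
  push Not at hcon
  have hord : ∀ g : S, orderOf g = 1 ∨ orderOf g = 2 ∨ orderOf g = 8 := by
    intro g
    have hd : orderOf g ∣ 8 := h8 ▸ orderOf_dvd_natCard g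
    have hle : orderOf g ≤ 8 := Nat.le_of_dvd (by norm_num) hd
    have h4 := hcon g
    have hpos : 0 < orderOf g := orderOf_pos g
    interval_cases h : orderOf g <;> simp_all
  by_cases h8' : ∃ g : S, orderOf g = 8
  · obtain ⟨g, hg⟩ := h8'
    apply hx
    rw [mem_center_iff]
    intro y
    exact comm_of_orderOf_eq_card g (by rw [hg, h8]) y x
  · push Not at h8'
    have hsq : ∀ g : S, g * g = 1 := by
      intro g
      rcases hord g with h | h | h
      · rw [orderOf_eq_one_iff] at h; rw [h, one_mul]
      · rw [← sq, ← h]; exact pow_orderOf_eq_one g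
      · exact absurd h (h8' g)
    apply hx
    rw [mem_center_iff]
    intro y
    exact comm_of_sq_one (hsq y) (hsq x) (hsq _)

/-- in a finite 2-group, a non-central element has centralizer of order at least 4 -/
theorem four_le_card_centralizer {S : Type*} [Group S] [Finite S] (hS : IsPGroup 2 S) (x : S)
    (hx : x ∉ center S) : 4 ≤ Nat.card (centralizer ({x} : Set S)) := by
  haveI : Fact (Nat.Prime 2) := ⟨Nat.prime_two⟩
  haveI : Nontrivial S := ⟨⟨x, 1, fun h => hx (h ▸ (center S).one_mem)⟩⟩
  haveI := hS.center_nontrivial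
  have hle : center S ≤ centralizer ({x} : Set S) := center_le_centralizer _
  have hxC : x ∈ centralizer ({x} : Set S) := by rw [mem_centralizer_singleton_iff]
  have h1 : 1 < Nat.card (center S) := Finite.one_lt_card
  have hdvd : Nat.card (center S) ∣ Nat.card (centralizer ({x} : Set S)) := card_dvd_of_le hle
  have hne : Nat.card (center S) ≠ Nat.card (centralizer ({x} : Set S)) := by
    intro h
    have := eq_of_le_of_card_ge hle h.ge
    exact hx (this ▸ hxC)
  have hpos : 0 < Nat.card (centralizer ({x} : Set S)) := Nat.card_pos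
  obtain ⟨k, hk⟩ := hdvd
  have hk2 : 2 ≤ k := by
    rcases k with _ | _ | k
    · omega
    · omega
    · omega
  nlinarith

theorem card_center_eq_two {S : Type*} [Group S] [Finite S] (hS : IsPGroup 2 S) (x : S)
    (hx : x ∉ center S) (hC4 : Nat.card (centralizer ({x} : Set S)) = 4) :
    Nat.card (center S) = 2 := by
  haveI : Fact (Nat.Prime 2) := ⟨Nat.prime_two⟩
  haveI : Nontrivial S := ⟨⟨x, 1, fun h => hx (h ▸ (center S).one_mem)⟩⟩
  haveI := hS.center_nontrivial
  have hle : center S ≤ centralizer ({x} : Set S) := center_le_centralizer _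
  have hxC : x ∈ centralizer ({x} : Set S) := by rw [mem_centralizer_singleton_iff]
  have h1 : 1 < Nat.card (center S) := Finite.one_lt_card
  have hdvd : Nat.card (center S) ∣ Nat.card (centralizer ({x} : Set S)) := card_dvd_of_le hle
  have hne : Nat.card (center S) ≠ Nat.card (centralizer ({x} : Set S)) := by
    intro h
    have := eq_of_le_of_card_ge hle h.ge
    exact hx (this ▸ hxC)
  rw [hC4] at hdvd hne
  have hle4 : Nat.card (center S) ≤ 4 := Nat.le_of_dvd (by norm_num) hdvd
  interval_cases h : Nat.card (center S) <;> simp_all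

/-- centralizer orders do not grow in the quotient by a center of order 2 -/
theorem card_centralizer_quotient_le {S : Type u} [Group S] [Finite S] (x : S)
    (hZ2 : Nat.card (center S) = 2) :
    Nat.card (centralizer ({(x : S ⧸ center S)} : Set (S ⧸ center S))) ≤
      Nat.card (centralizer ({x} : Set S)) := by
  classical
  set Z := center S with hZ
  set C := centralizer ({x} : Set S) with hC
  set Cb := centralizer ({(x : S ⧸ Z)} : Set (S ⧸ Z)) with hCb
  set D := Cb.comap (QuotientGroup.mk' Z) with hD
  have hmemD : ∀ s : S, s ∈ D ↔ (s * x)⁻¹ * (x * s) ∈ Z := by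
    intro s
    rw [hD, mem_comap, hCb, mem_centralizer_singleton_iff]
    rw [QuotientGroup.mk'_apply, ← QuotientGroup.mk_mul, ← QuotientGroup.mk_mul, QuotientGroup.eq]
  have hidx : D.index = Cb.index := index_comap_of_surjective Cb (QuotientGroup.mk'_surjective Z)
  have h1 : D.index * Nat.card D = Nat.card S := D.index_mul_card
  have h2 : Cb.index * Nat.card Cb = Nat.card (S ⧸ Z) := Cb.index_mul_card
  have h3 : Nat.card S = Nat.card (S ⧸ Z) * Nat.card Z := card_eq_card_quotient_mul_card_subgroup Z
  have hDcard : Nat.card D = Nat.card Cb * 2 := by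
    have hpos : 0 < D.index := Nat.pos_of_ne_zero index_ne_zero_of_finite
    apply Nat.eq_of_mul_eq_mul_left hpos
    rw [h1, h3, ← h2, hZ2, hidx, mul_assoc]
  have hCD : C ≤ D := by
    intro s hs
    rw [hmemD]
    rw [hC, mem_centralizer_singleton_iff] at hs
    rw [hs, inv_mul_cancel]; exact Z.one_mem
  have hkey : ∀ s t : S, s ∈ D → t ∈ D → s ∉ C → t ∉ C → s * t⁻¹ ∈ C := by
    intro s t hs ht hsC htC
    rw [hmemD] at hs ht
    set ws := (s * x)⁻¹ * (x * s) with hws
    set wt := (t * x)⁻¹ * (x * t) with hwt
    have hws1 : ws ≠ 1 := by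
      intro h
      apply hsC
      rw [hC, mem_centralizer_singleton_iff]
      exact inv_mul_eq_one.1 h
    have hwt1 : wt ≠ 1 := by
      intro h
      apply htC
      rw [hC, mem_centralizer_singleton_iff]
      exact inv_mul_eq_one.1 h
    have heq : ws = wt := by
      obtain ⟨y, hy, hyu⟩ := (Nat.card_eq_two_iff' (1 : Z)).1 hZ2
      have e1 := hyu ⟨ws, hs⟩ (fun h => hws1 (congrArg Subtype.val h))
      have e2 := hyu ⟨wt, ht⟩ (fun h => hwt1 (congrArg Subtype.val h))
      exact congrArg Subtype.val (e1.trans e2.symm)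
    have hx1 : x * s = s * x * ws := by rw [hws]; group
    have hx2 : x * t = t * x * ws := by rw [heq, hwt]; group
    rw [hC, mem_centralizer_singleton_iff]
    have hx3 : t⁻¹ * x = x * ws * t⁻¹ := by
      have hc := mem_center_iff.1 hs
      have : t⁻¹ * (x * t) = x * ws := by rw [hx2]; group
      calc t⁻¹ * x = t⁻¹ * (x * t) * t⁻¹ := by group
        _ = x * ws * t⁻¹ := by rw [this]
    have hc := mem_center_iff.1 hs
    calc s * t⁻¹ * x = s * (t⁻¹ * x) := by group
      _ = s * (x * ws * t⁻¹) := by rw [hx3]
      _ = (s * x * ws) * t⁻¹ := by group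
      _ = x * s * t⁻¹ := by rw [← hx1]
      _ = x * (s * t⁻¹) := by group
  have hDle : Nat.card D ≤ Nat.card C * 2 := by
    by_cases hDC : D ≤ C
    · have := card_le_of_le hDC; omega
    · obtain ⟨t, htD, htC⟩ := SetLike.not_le_iff_exists.1 hDC
      have hidx2 : (C.subgroupOf D).index = 2 := by
        rw [index_eq_two_iff]
        refine ⟨⟨t, htD⟩⁻¹, fun b => ?_⟩
        by_cases hbC : (b : S) ∈ C
        · right
          refine ⟨by rw [mem_subgroupOf]; exact hbC, ?_⟩
          rw [mem_subgroupOf]
          intro h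
          have h' : (b : S) * t⁻¹ ∈ C := by simpa using h
          have h'' : t⁻¹ ∈ C := by
            have := C.mul_mem (C.inv_mem hbC) h'
            simpa using this
          exact htC (by simpa using C.inv_mem h'')
        · left
          refine ⟨?_, by rw [mem_subgroupOf]; exact hbC⟩
          rw [mem_subgroupOf]
          have := hkey b t b.2 htD hbC htC
          simpa using this
      have h4 : (C.subgroupOf D).index * Nat.card (C.subgroupOf D) = Nat.card D :=
        (C.subgroupOf D).index_mul_card
      have h5 : Nat.card (C.subgroupOf D) = Nat.card C :=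
        Nat.card_congr (subgroupOfEquivOfLe hCD).toEquiv
      rw [hidx2, h5] at h4; omega
  have hfin : Nat.card Cb * 2 ≤ Nat.card C * 2 := hDcard ▸ hDle
  exact Nat.le_of_mul_le_mul_right hfin (by norm_num)

/-- **Lemma A**: a 2-group of order `2^(n+3)` with an element whose centralizer has order at most
4 has an element of order `2^(n+2)` (a cyclic maximal subgroup). -/
theorem exists_orderOf_half (n : ℕ) : ∀ (S : Type u) [Group S] [Finite S],
    Nat.card S = 2 ^ (n + 3) → ∀ x : S, Nat.card (centralizer ({x} : Set S)) ≤ 4 →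
    ∃ r : S, orderOf r = 2 ^ (n + 2) := by
  induction n with
  | zero =>
    intro S _ _ hS x hC
    have hS8 : Nat.card S = 8 := by rw [hS]; norm_num
    have hxZ : x ∉ center S := not_mem_center_of_card_lt x (by omega)
    obtain ⟨r, hr⟩ := exists_orderOf_four hS8 x hxZ
    exact ⟨r, by rw [hr]; norm_num⟩
  | succ n ih =>
    intro S _ _ hS x hC
    haveI : Fact (Nat.Prime 2) := ⟨Nat.prime_two⟩
    have hp : IsPGroup 2 S := IsPGroup.of_card hS
    have h16 : 16 ≤ Nat.card S := by
      rw [hS]
      calc 16 = 2 ^ 4 := by norm_num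
        _ ≤ 2 ^ (n + 1 + 3) := Nat.pow_le_pow_right (by norm_num) (by omega)
    have hxZ : x ∉ center S := not_mem_center_of_card_lt x (by omega)
    have hC4 : Nat.card (centralizer ({x} : Set S)) = 4 :=
      le_antisymm hC (four_le_card_centralizer hp x hxZ)
    have hZ2 := card_center_eq_two hp x hxZ hC4
    have hQcard : Nat.card (S ⧸ center S) = 2 ^ (n + 3) := by
      have h3 := card_eq_card_quotient_mul_card_subgroup (center S)
      have e : 2 ^ (n + 1 + 3) = 2 ^ (n + 3) * 2 := by ring
      rw [hS, hZ2, e] at h3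
      exact (Nat.eq_of_mul_eq_mul_right (by norm_num) h3).symm
    have hCb := (card_centralizer_quotient_le x hZ2).trans hC
    obtain ⟨rb, hrb⟩ := ih (S ⧸ center S) hQcard (x : S ⧸ center S) hCb
    obtain ⟨r, rfl⟩ := QuotientGroup.mk_surjective rb
    have hdvd1 : orderOf (r : S ⧸ center S) ∣ orderOf r :=
      orderOf_map_dvd (QuotientGroup.mk' (center S)) r
    have hdvd2 : orderOf r ∣ 2 ^ (n + 1 + 3) := hS ▸ orderOf_dvd_natCard r
    obtain ⟨j, hj, hjr⟩ := (Nat.dvd_prime_pow Nat.prime_two).1 hdvd2
    rw [hrb, hjr] at hdvd1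
    have hj2 : n + 2 ≤ j := (Nat.pow_dvd_pow_iff_le_right (by norm_num)).1 hdvd1
    have hj3 : j = n + 2 ∨ j = n + 3 ∨ j = n + 4 := by omega
    rcases hj3 with rfl | rfl | rfl
    · exfalso
      set Z := center S with hZdef
      have hsqZ : ∀ w ∈ Z, w * w = 1 := by
        intro w hw
        have h1 := pow_card_eq_one' (G := Z) (x := ⟨w, hw⟩)
        rw [hZ2] at h1
        have h2 := congrArg Subtype.val h1
        simpa [sq] using h2
      set u := r ^ (2 ^ (n + 1)) with hu
      have hu2 : u * u = 1 := by
        have e : 2 ^ (n + 1) + 2 ^ (n + 1) = 2 ^ (n + 2) := by ring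
        rw [hu, ← pow_add, e, ← hjr]; exact pow_orderOf_eq_one r
      have hu1 : u ≠ 1 := by
        intro h
        have h1 := orderOf_dvd_of_pow_eq_one h
        rw [hjr] at h1
        have h2 := (Nat.pow_dvd_pow_iff_le_right (by norm_num)).1 h1
        omega
      have hidx : (zpowers (r : S ⧸ Z)).index = 2 := by
        have h1 := (zpowers (r : S ⧸ Z)).index_mul_card
        rw [Nat.card_zpowers, hrb, hQcard] at h1
        have e : 2 ^ (n + 3) = 2 * 2 ^ (n + 2) := by ring
        rw [e] at h1
        exact Nat.eq_of_mul_eq_mul_right (by positivity) h1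
      haveI hnorm : (zpowers (r : S ⧸ Z)).Normal := normal_of_index_eq_two hidx
      have hconj : ∀ g : S, g * u * g⁻¹ = u := by
        intro g
        have hmem := hnorm.conj_mem (r : S ⧸ Z) (mem_zpowers _) (g : S ⧸ Z)
        obtain ⟨i, hi⟩ := mem_zpowers_iff.1 hmem
        have hw : (r ^ i)⁻¹ * (g * r * g⁻¹) ∈ Z := by
          rw [← QuotientGroup.eq]
          simpa using hi
        set w := (r ^ i)⁻¹ * (g * r * g⁻¹) with hwdef
        have hgr : g * r * g⁻¹ = r ^ i * w := by rw [hwdef]; group
        have hcomm : Commute (r ^ i) w := mem_center_iff.1 hw (r ^ i)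
        have hwpow : w ^ (2 ^ (n + 1)) = 1 := by
          rw [pow_succ', pow_mul, sq, hsqZ w hw, one_pow]
        have hgu : g * u * g⁻¹ = u ^ i := by
          calc g * u * g⁻¹ = (g * r * g⁻¹) ^ (2 ^ (n + 1)) := by rw [hu, conj_pow]
            _ = (r ^ i * w) ^ (2 ^ (n + 1)) := by rw [hgr]
            _ = (r ^ i) ^ (2 ^ (n + 1)) * w ^ (2 ^ (n + 1)) := hcomm.mul_pow _
            _ = (r ^ i) ^ (2 ^ (n + 1)) := by rw [hwpow, mul_one]
            _ = u ^ i := by
              rw [hu, ← zpow_natCast, ← zpow_natCast, ← zpow_mul, ← zpow_mul, mul_comm]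
        have hou : orderOf u = 2 := orderOf_eq_prime (by rw [sq]; exact hu2) hu1
        have hui : u ^ i = 1 ∨ u ^ i = u := by
          have h1 := zpow_mod_orderOf u i
          rw [hou] at h1
          rw [← h1]
          rcases Int.emod_two_eq_zero_or_one i with h | h
          · left
            have : i % ((2 : ℕ) : ℤ) = 0 := by exact_mod_cast h
            rw [this, zpow_zero]
          · right
            have : i % ((2 : ℕ) : ℤ) = 1 := by exact_mod_cast h
            rw [this, zpow_one]
        rcases hui with h | h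
        · exfalso
          rw [h] at hgu
          exact hu1 (conj_eq_one_iff.1 hgu)
        · rw [hgu, h]
      have huZ : u ∈ Z := by
        rw [mem_center_iff]
        intro g
        calc g * u = g * u * g⁻¹ * g := by group
          _ = u * g := by rw [hconj g]
      have hpow1 : (r : S ⧸ Z) ^ (2 ^ (n + 1)) = 1 := by
        rw [← QuotientGroup.mk_pow, QuotientGroup.eq_one_iff]; exact huZ
      have h1 := orderOf_dvd_of_pow_eq_one hpow1
      rw [hrb] at h1
      have h2 := (Nat.pow_dvd_pow_iff_le_right (by norm_num)).1 h1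
      omega
    · exact ⟨r, hjr⟩
    · exfalso
      apply hxZ
      rw [mem_center_iff]
      intro y
      exact comm_of_orderOf_eq_card r (by rw [hjr, hS]) y x

end Cfsg.Agent.Lib.Helper2.KFS
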