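import Mathlib
import Cfsg.Agent.Lib.Helper2.KFS1
import Cfsg.Agent.Lib.Lead.ThompsonTransfer

/-!
# S3278, PK-SYL: a normal Klein four Sylow 2-subgroup `S₀` of `C_G(x)` is a Sylow 2-subgroup of `G`
(if `G` has no normal subgroup of index 2)
-/

set_option autoImplicit false
set_option linter.style.haveILetI false

namespace Cfsg.Agent.Lib.Helper2.KFS

open Subgroup

/-- two elements of order two in a cyclic subgroup coincide -/
theorem involution_unique_zpowers {H : Type*} [Group H] [Finite H] (q a b : H)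
    (ha : a ∈ zpowers q) (hb : b ∈ zpowers q) (hao : orderOf a = 2) (hbo : orderOf b = 2) :
    a = b := by
  classical
  set Q : Subgroup H := zpowers q with hQ
  haveI : IsCyclic Q := by rw [hQ]; infer_instance
  set a' : Q := ⟨a, ha⟩ with ha'
  set b' : Q := ⟨b, hb⟩ with hb'
  have hao' : orderOf a' = 2 := by rw [← hao, ← Subgroup.orderOf_coe a']
  have hbo' : orderOf b' = 2 := by rw [← hbo, ← Subgroup.orderOf_coe b']
  haveI : Fintype Q := Fintype.ofFinite Q
  have hcard := IsCyclic.card_pow_eq_one_le (α := Q) (n := 2) (by norm_num)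
  by_contra hab
  have ha1 : a' ≠ 1 := by
    intro h
    rw [h, orderOf_one] at hao'
    norm_num at hao'
  have hb1 : b' ≠ 1 := by
    intro h
    rw [h, orderOf_one] at hbo'
    norm_num at hbo'
  have hab' : a' ≠ b' := fun h => hab (congrArg Subtype.val h)
  have hsub : ({1, a', b'} : Finset Q) ⊆ Finset.univ.filter (fun g : Q => g ^ 2 = 1) := by
    intro g hg
    simp only [Finset.mem_insert, Finset.mem_singleton] at hg
    rw [Finset.mem_filter]
    refine ⟨Finset.mem_univ _, ?_⟩
    rcases hg with rfl | rfl | rfl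
    · simp
    · rw [← hao']; exact pow_orderOf_eq_one _
    · rw [← hbo']; exact pow_orderOf_eq_one _
  have h3 : ({1, a', b'} : Finset Q).card = 3 := by
    rw [Finset.card_insert_of_notMem, Finset.card_insert_of_notMem, Finset.card_singleton]
    · simpa using hab'
    · simp only [Finset.mem_insert, Finset.mem_singleton, not_or]
      exact ⟨ha1.symm, hb1.symm⟩
  have := (Finset.card_le_card hsub).trans hcard
  omega

section
variable {G : Type*} [Group G] [Finite G]

/-- elements of 2-power order of `C(x)` lie in the normal Sylow 2-subgroup `S₀` of `C(x)` -/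
theorem mem_of_two_power (x : G) (S₀ : Subgroup G) (hle : S₀ ≤ centralizer ({x} : Set G))
    (hcard : Nat.card S₀ = 4) (hodd : ¬ 2 ∣ S₀.relIndex (centralizer ({x} : Set G)))
    (hn : (S₀.subgroupOf (centralizer ({x} : Set G))).Normal) {g : G}
    (hg : g ∈ centralizer ({x} : Set G)) {k : ℕ} (hk : orderOf g = 2 ^ k) : g ∈ S₀ := by
  haveI : Fact (Nat.Prime 2) := ⟨Nat.prime_two⟩
  set C := centralizer ({x} : Set G) with hC
  have hp : IsPGroup 2 (S₀.subgroupOf C) := by
    apply IsPGroup.of_card (n := 2)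
    rw [Nat.card_congr (subgroupOfEquivOfLe hle).toEquiv, hcard]; norm_num
  let P₀ : Sylow 2 C := hp.toSylow hodd
  haveI : Unique (Sylow 2 C) := Sylow.unique_of_normal P₀ hn
  have hgp : IsPGroup 2 (zpowers (⟨g, hg⟩ : C)) := by
    apply IsPGroup.of_card (n := k)
    rw [Nat.card_zpowers, ← hk]
    exact Subgroup.orderOf_mk g hg
  obtain ⟨Q, hQ⟩ := hgp.exists_le_sylow
  have hQP : Q = P₀ := Subsingleton.elim _ _
  have h1 : (⟨g, hg⟩ : C) ∈ (P₀ : Subgroup C) := hQP ▸ hQ (mem_zpowers _)
  have h2 : (⟨g, hg⟩ : C) ∈ S₀.subgroupOf C := h1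
  simpa [mem_subgroupOf] using h2

/-- **PK-SYL** -/
theorem exists_sylow_eq (x : G) (hx : orderOf x = 2) (S₀ : Subgroup G)
    (hle : S₀ ≤ centralizer ({x} : Set G))
    (hcard : Nat.card S₀ = 4) (hodd : ¬ 2 ∣ S₀.relIndex (centralizer ({x} : Set G)))
    (hn : (S₀.subgroupOf (centralizer ({x} : Set G))).Normal)
    (hno2 : ¬ ∃ M : Subgroup G, M.Normal ∧ M.index = 2) :
    ∃ P : Sylow 2 G, (P : Subgroup G) = S₀ := by
  haveI : Fact (Nat.Prime 2) := ⟨Nat.prime_two⟩
  set C := centralizer ({x} : Set G) with hC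
  have hS₀p : IsPGroup 2 S₀ := IsPGroup.of_card (n := 2) (by rw [hcard]; norm_num)
  obtain ⟨P, hSP⟩ := hS₀p.exists_le_sylow
  refine ⟨P, ?_⟩
  by_contra hne
  have hxC : x ∈ C := by rw [hC, mem_centralizer_singleton_iff]
  have hxS : x ∈ S₀ := mem_of_two_power x S₀ hle hcard hodd hn hxC (k := 1) (by rw [hx]; norm_num)
  have hpow : ∀ g ∈ (P : Subgroup G), ∃ k : ℕ, orderOf g = 2 ^ k := by
    intro g hg
    obtain ⟨k, hk⟩ := (IsPGroup.iff_orderOf.1 P.isPGroup') ⟨g, hg⟩
    exact ⟨k, by rw [← hk]; exact (Subgroup.orderOf_mk g hg).symm⟩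
  -- the order of `P`
  obtain ⟨m, hm⟩ := IsPGroup.iff_card.1 P.isPGroup'
  have h4 : 4 ∣ Nat.card (P : Subgroup G) := hcard ▸ card_dvd_of_le hSP
  have hne4 : Nat.card (P : Subgroup G) ≠ 4 := by
    intro h
    exact hne (eq_of_le_of_card_ge hSP (by rw [h, hcard])).symm
  have hm3 : 3 ≤ m := by
    by_contra hlt
    push Not at hlt
    rw [hm] at h4 hne4
    interval_cases m
    · norm_num at h4
    · norm_num at h4
    · norm_num at hne4
  obtain ⟨n, rfl⟩ : ∃ n, m = n + 3 := ⟨m - 3, by omega⟩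
  have h8 : 8 ≤ Nat.card (P : Subgroup G) := by
    rw [hm]
    calc 8 = 2 ^ 3 := by norm_num
      _ ≤ 2 ^ (n + 3) := Nat.pow_le_pow_right (by norm_num) (by omega)
  -- the centralizer of `x` in `P` has order at most 4
  have hCP : Nat.card (centralizer ({(⟨x, hSP hxS⟩ : (P : Subgroup G))} :
      Set (P : Subgroup G))) ≤ 4 := by
    rw [← hcard]
    have hmemS : ∀ g : centralizer ({(⟨x, hSP hxS⟩ : (P : Subgroup G))} : Set (P : Subgroup G)),
        ((g : (P : Subgroup G)) : G) ∈ S₀ := by
      intro g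
      obtain ⟨k, hk⟩ := hpow _ (g : (P : Subgroup G)).2
      refine mem_of_two_power x S₀ hle hcard hodd hn ?_ hk
      show _ ∈ centralizer ({x} : Set G)
      rw [mem_centralizer_singleton_iff]
      have h1 := mem_centralizer_singleton_iff.1 g.2
      have h2 := congrArg Subtype.val h1
      exact h2
    apply Nat.card_le_card_of_injective (fun g => (⟨_, hmemS g⟩ : S₀))
    intro g₁ g₂ h
    apply Subtype.ext
    apply Subtype.ext
    have h' := congrArg Subtype.val h
    exact h'
  obtain ⟨r, hr⟩ := exists_orderOf_half n (P : Subgroup G) hm ⟨x, hSP hxS⟩ hCP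
  have hidx : (zpowers r).index = 2 := by
    have h1 := (zpowers r).index_mul_card
    rw [Nat.card_zpowers, hr, hm] at h1
    have e : 2 ^ (n + 3) = 2 * 2 ^ (n + 2) := by ring
    rw [e] at h1
    exact Nat.eq_of_mul_eq_mul_right (by positivity) h1
  haveI hnorm : (zpowers r).Normal := normal_of_index_eq_two hidx
  set M : Subgroup G := (zpowers r).map (P : Subgroup G).subtype with hM
  have hMi : M.relIndex (P : Subgroup G) = 2 := by
    have : M.subgroupOf (P : Subgroup G) = zpowers r :=
      comap_map_eq_self_of_injective (subtype_injective _) _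
    rw [relIndex, this, hidx]
  have hnc : ∀ g : G, g * x * g⁻¹ ∉ M := by
    intro g hy
    rw [hM, mem_map] at hy
    obtain ⟨y', hy'z, hy'⟩ := hy
    have hy'' : (y' : G) = g * x * g⁻¹ := hy'
    have hy'o : orderOf y' = 2 := by
      have h1 : orderOf (g * x * g⁻¹) = orderOf x := (MulAut.conj g).orderOf_eq x
      rw [← Subgroup.orderOf_coe, hy'', h1, hx]
    have hcent : ∀ h : (P : Subgroup G), h * y' * h⁻¹ = y' := by
      intro h
      have h1 : orderOf (h * y' * h⁻¹) = orderOf y' := (MulAut.conj h).orderOf_eq y'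
      exact involution_unique_zpowers r _ _ (hnorm.conj_mem y' hy'z h) hy'z (h1.trans hy'o) hy'o
    -- `g⁻¹ P g ≤ C(x)`, a 2-group of order at least 8
    have hmemS : ∀ h : (P : Subgroup G), g⁻¹ * (h : G) * g ∈ S₀ := by
      intro h
      obtain ⟨k, hk⟩ := hpow _ h.2
      have hk' : orderOf (g⁻¹ * (h : G) * g) = 2 ^ k := by
        rw [← hk]
        have := (MulAut.conj g⁻¹).orderOf_eq (h : G)
        simpa [MulAut.conj_apply] using this
      refine mem_of_two_power x S₀ hle hcard hodd hn ?_ hk'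
      show _ ∈ centralizer ({x} : Set G)
      rw [mem_centralizer_singleton_iff]
      have h1 : (h : G) * (g * x * g⁻¹) * (h : G)⁻¹ = g * x * g⁻¹ := by
        have := congrArg Subtype.val (hcent h)
        simpa [hy''] using this
      have h2 : (h : G) * (g * x * g⁻¹) = (g * x * g⁻¹) * (h : G) := by
        calc (h : G) * (g * x * g⁻¹) = (h : G) * (g * x * g⁻¹) * (h : G)⁻¹ * h := by group
          _ = (g * x * g⁻¹) * (h : G) := by rw [h1]
      calc g⁻¹ * (h : G) * g * x = g⁻¹ * ((h : G) * (g * x * g⁻¹)) * g := by group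
        _ = g⁻¹ * ((g * x * g⁻¹) * (h : G)) * g := by rw [h2]
        _ = x * (g⁻¹ * (h : G) * g) := by group
    have hle' : Nat.card (P : Subgroup G) ≤ Nat.card S₀ := by
      apply Nat.card_le_card_of_injective (fun h => (⟨_, hmemS h⟩ : S₀))
      intro h₁ h₂ h
      apply Subtype.ext
      have h3 : g⁻¹ * (h₁ : G) * g = g⁻¹ * (h₂ : G) * g := congrArg Subtype.val h
      exact mul_left_cancel (mul_right_cancel h3)
    omega
  obtain ⟨N, hN1, hN2, _⟩ := Cfsg.Agent.Lib.Lead.thompson_transfer P M hMi x hx hnc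
  exact hno2 ⟨N, hN1, hN2⟩

end

end Cfsg.Agent.Lib.Helper2.KFS
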