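import Mathlib
import Cfsg.Agent.Lib.Helper2.KFS1
import Cfsg.Agent.Lib.Helper8.KF1
import Cfsg.Agent.Lib.Helper1.SimpleIndex

/-!
# S3278: PK-CENT, PK-NUM, PK-NC3, PK-END
-/

set_option autoImplicit false
set_option linter.style.haveILetI false

namespace Cfsg.Agent.Lib.Helper2.KFS

open Subgroup
open Cfsg.Agent.Lib.Helper8 (IsK4 kleinFour_fourth)

/-- enumeration of a Klein four-group -/
theorem klein_enum {G : Type*} [Group G] [Finite G] (S₀ : Subgroup G) (hcard : Nat.card S₀ = 4)
    (hsq : ∀ g ∈ S₀, g * g = 1) {x y : G} (hx : x ∈ S₀) (hy : y ∈ S₀) (hx1 : x ≠ 1) (hy1 : y ≠ 1)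
    (hxy : y ≠ x) {s : G} (hs : s ∈ S₀) : s = 1 ∨ s = x ∨ s = y ∨ s = x * y := by
  by_cases h1 : s = 1
  · exact Or.inl h1
  by_cases h2 : s = x
  · exact Or.inr (Or.inl h2)
  by_cases h3 : s = y
  · exact Or.inr (Or.inr (Or.inl h3))
  right; right; right
  have hP : IsK4 S₀ := ⟨hcard, hsq⟩
  exact kleinFour_fourth hP hy hx hs hy1 hx1 h1 hxy (Ne.symm h3) (Ne.symm h2)

/-- **PK-CENT** -/
theorem centralizer_eq_of_klein {G : Type*} [Group G] [Finite G] (x : G) (S₀ : Subgroup G)
    (hxS : x ∈ S₀) (hx1 : x ≠ 1)
    (hle : S₀ ≤ centralizer ({x} : Set G)) (hcard : Nat.card S₀ = 4) (hsq : ∀ g ∈ S₀, g * g = 1)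
    (hodd : ¬ 2 ∣ S₀.relIndex (centralizer ({x} : Set G)))
    (hn : (S₀.subgroupOf (centralizer ({x} : Set G))).Normal) :
    centralizer ({x} : Set G) = centralizer (S₀ : Set G) := by
  apply le_antisymm
  · intro c hc
    set K := centralizer (S₀ : Set G) with hK
    have hSK : S₀ ≤ K := by
      intro a ha
      rw [hK, mem_centralizer_iff]
      intro b hb
      exact comm_of_sq_one (hsq b hb) (hsq a ha) (hsq _ (S₀.mul_mem hb ha))
    have hcx : c * x = x * c := mem_centralizer_singleton_iff.1 hc
    -- an odd power of `c` lies in `S₀`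
    have hcm : c ^ (S₀.relIndex (centralizer ({x} : Set G))) ∈ S₀ := by
      haveI := hn
      have h1 := Subgroup.pow_index_mem (S₀.subgroupOf (centralizer ({x} : Set G)))
        (⟨c, hc⟩ : centralizer ({x} : Set G))
      rw [mem_subgroupOf] at h1
      have h2 : c ^ (S₀.subgroupOf (centralizer ({x} : Set G))).index ∈ S₀ := by simpa using h1
      exact h2
    -- a second generator
    have hox : orderOf x = 2 := orderOf_eq_prime (by rw [sq]; exact hsq x hxS) hx1
    obtain ⟨y, hyS, hy1, hyx⟩ : ∃ y ∈ S₀, y ≠ 1 ∧ y ≠ x := by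
      have hzle : zpowers x ≤ S₀ := by rw [zpowers_le]; exact hxS
      have hzlt : zpowers x < S₀ := by
        apply lt_of_le_of_ne hzle
        intro h
        have h2 : Nat.card (zpowers x) = 2 := by rw [Nat.card_zpowers, hox]
        rw [h] at h2
        omega
      obtain ⟨y, hyS, hyz⟩ := SetLike.exists_of_lt hzlt
      refine ⟨y, hyS, ?_, ?_⟩
      · rintro rfl; exact hyz (one_mem _)
      · rintro rfl; exact hyz (mem_zpowers _)
    have henum := fun {s : G} (hs : s ∈ S₀) => klein_enum S₀ hcard hsq hxS hyS hx1 hy1 hyx hs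
    -- an element commuting with `x` and `y` centralizes `S₀`
    have hgen : ∀ d : G, d * x = x * d → d * y = y * d → d ∈ K := by
      intro d hdx hdy
      rw [hK, mem_centralizer_iff]
      intro s hs
      rcases henum hs with rfl | rfl | rfl | rfl
      · rw [one_mul, mul_one]
      · exact hdx.symm
      · exact hdy.symm
      · rw [mul_assoc, ← hdy, ← mul_assoc, ← hdx, mul_assoc]
    -- `c * c` centralizes `S₀`
    have hc2 : c * c ∈ K := by
      have hy'S : c * y * c⁻¹ ∈ S₀ := by
        have h1 := hn.conj_mem ⟨y, hle hyS⟩ (mem_subgroupOf.2 hyS) ⟨c, hc⟩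
        rw [mem_subgroupOf] at h1
        simpa using h1
      have hy'1 : c * y * c⁻¹ ≠ 1 := fun h => hy1 (conj_eq_one_iff.1 h)
      have hy'x : c * y * c⁻¹ ≠ x := by
        intro h
        apply hyx
        calc y = c⁻¹ * (c * y * c⁻¹) * c := by group
          _ = c⁻¹ * x * c := by rw [h]
          _ = c⁻¹ * (x * c) := by group
          _ = c⁻¹ * (c * x) := by rw [hcx]
          _ = x := by group
      rcases henum hy'S with h | h | h | h
      · exact absurd h hy'1
      · exact absurd h hy'x
      · have hcy : c * y = y * c := by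
          calc c * y = c * y * c⁻¹ * c := by group
            _ = y * c := by rw [h]
        exact K.mul_mem (hgen c hcx hcy) (hgen c hcx hcy)
      · apply hgen
        · rw [mul_assoc, hcx, ← mul_assoc, hcx, mul_assoc]
        · have hcy : c * y = x * y * c := by
            calc c * y = c * y * c⁻¹ * c := by group
              _ = x * y * c := by rw [h]
          have hxx : x * x = 1 := hsq x hxS
          calc c * c * y = c * (c * y) := by group
            _ = c * (x * y * c) := by rw [hcy]
            _ = (c * x) * y * c := by group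
            _ = (x * c) * y * c := by rw [hcx]
            _ = x * (c * y) * c := by group
            _ = x * (x * y * c) * c := by rw [hcy]
            _ = (x * x) * y * (c * c) := by group
            _ = y * (c * c) := by rw [hxx, one_mul]
    -- conclude
    have hoddm : Odd (S₀.relIndex (centralizer ({x} : Set G))) := by
      rcases Nat.even_or_odd (S₀.relIndex (centralizer ({x} : Set G))) with h | h
      · exact absurd (even_iff_two_dvd.1 h) hodd
      · exact h
    obtain ⟨j, hj⟩ := hoddm
    have hcmK : c ^ (2 * j + 1) ∈ K := hSK (hj ▸ hcm)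
    have hc2j : (c * c) ^ j ∈ K := K.pow_mem hc2 j
    have heq : c = ((c * c) ^ j)⁻¹ * c ^ (2 * j + 1) := by
      rw [pow_succ, pow_mul, sq, ← mul_assoc, inv_mul_cancel, one_mul]
    rw [heq]
    exact K.mul_mem (K.inv_mem hc2j) hcmK
  · apply centralizer_le
    intro s hs
    rw [Set.mem_singleton_iff] at hs
    rw [hs]
    exact hxS

/-- **PK-NC3** -/
theorem three_mul_card_centralizer_le {G : Type*} [Group G] [Finite G] (P : Sylow 2 G)
    (hcard : Nat.card (P : Subgroup G) = 4) (hsq : ∀ g ∈ (P : Subgroup G), g * g = 1)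
    (hN : ¬ normalizer ((P : Subgroup G) : Set G) ≤ centralizer ((P : Subgroup G) : Set G)) :
    3 * Nat.card (centralizer ((P : Subgroup G) : Set G)) ≤
      Nat.card (normalizer ((P : Subgroup G) : Set G)) := by
  haveI : Fact (Nat.Prime 2) := ⟨Nat.prime_two⟩
  set C := centralizer ((P : Subgroup G) : Set G) with hC
  set N := normalizer ((P : Subgroup G) : Set G) with hNdef
  have hPC : (P : Subgroup G) ≤ C := by
    intro a ha
    rw [hC, mem_centralizer_iff]
    intro b hb
    exact comm_of_sq_one (hsq b hb) (hsq a ha) (hsq _ ((P : Subgroup G).mul_mem hb ha))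
  have hCN : C ≤ N := centralizer_le_normalizer _
  have h4 : 4 ∣ Nat.card C := hcard ▸ card_dvd_of_le hPC
  obtain ⟨k, hk⟩ := card_dvd_of_le hCN
  have hk1 : k ≠ 1 := by
    rintro rfl
    rw [mul_one] at hk
    exact hN (eq_of_le_of_card_ge hCN hk.le).symm.le
  have hk0 : k ≠ 0 := by
    rintro rfl
    have : 0 < Nat.card N := Nat.card_pos
    omega
  have hk2 : ¬ 2 ∣ k := by
    intro h2
    have h8 : 2 ^ ((Nat.card G).factorization 2 + 1) ∣ Nat.card G := by
      have hf : (Nat.card G).factorization 2 = 2 := by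
        have h1 := Sylow.card_eq_multiplicity P
        rw [hcard] at h1
        have h2' : (2 : ℕ) ^ 2 = 2 ^ (Nat.card G).factorization 2 := by rw [← h1]; norm_num
        exact (Nat.pow_right_injective (le_refl 2) h2').symm
      rw [hf]
      have h8N : 8 ∣ Nat.card N := by
        rw [hk]
        obtain ⟨a, ha⟩ := h4
        obtain ⟨b, hb⟩ := h2
        exact ⟨a * b, by rw [ha, hb]; ring⟩
      exact h8N.trans (card_subgroup_dvd_card N)
    exact Nat.pow_succ_factorization_not_dvd Nat.card_pos.ne' Nat.prime_two h8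
  have hk3 : 3 ≤ k := by
    by_contra hlt
    push Not at hlt
    interval_cases k
    · exact hk0 rfl
    · exact hk1 rfl
    · exact hk2 (dvd_refl 2)
  rw [hk]
  nlinarith

/-- **PK-END** -/
theorem card_eq_sixty {G : Type*} [Group G] [Finite G] [IsSimpleGroup G] (g₀ : ℕ) (hg₀ : Odd g₀)
    (hG : Nat.card G = 4 * g₀) (H : Subgroup G) (hH : H ≠ ⊤) (c : ℕ) (h4 : 4 ∣ c)
    (h3 : 3 * c ≤ Nat.card H) (hlt : Nat.card G < 18 * c) : Nat.card G = 60 := by
  have hdvd := Cfsg.Agent.Lib.Helper1.card_dvd_factorial_index_of_simple H hH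
  have hmul : H.index * Nat.card H = Nat.card G := H.index_mul_card
  have hc0 : 0 < c := by
    by_contra h
    push Not at h
    have : c = 0 := by omega
    rw [this] at hlt
    omega
  have hi1 : H.index ≠ 1 := fun h => hH (index_eq_one.1 h)
  have hi0 : H.index ≠ 0 := index_ne_zero_of_finite
  have hile : H.index ≤ 5 := by
    by_contra hgt
    push Not at hgt
    have : 6 * (3 * c) ≤ H.index * Nat.card H := Nat.mul_le_mul hgt h3
    omega
  obtain ⟨a, ha⟩ := h4
  have h12 : 12 * H.index ≤ Nat.card G := by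
    rw [← hmul]
    have : 12 ≤ Nat.card H := by omega
    nlinarith
  obtain ⟨b, hb⟩ := hg₀
  interval_cases hidx : H.index
  · exact absurd rfl hi0
  · exact absurd rfl hi1
  · have := Nat.le_of_dvd (by norm_num) hdvd
    norm_num [Nat.factorial] at this
    omega
  · have := Nat.le_of_dvd (by norm_num) hdvd
    norm_num [Nat.factorial] at this
    omega
  · have := Nat.le_of_dvd (by norm_num) hdvd
    norm_num [Nat.factorial] at this
    omega
  · have h120 : Nat.card G ∣ 120 := by
      have e : Nat.factorial 5 = 120 := by norm_num [Nat.factorial]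
      rw [← e]; exact hdvd
    have hle : Nat.card G ≤ 120 := Nat.le_of_dvd (by norm_num) h120
    obtain ⟨d, hd⟩ := h120
    have hd0 : d ≠ 0 := by rintro rfl; omega
    have hd2 : d ≤ 2 := by
      by_contra hgt
      push Not at hgt
      have : 3 * Nat.card G ≤ Nat.card G * d := by nlinarith
      omega
    interval_cases d
    · exact absurd rfl hd0
    · omega
    · omega

end Cfsg.Agent.Lib.Helper2.KFS
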