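import Mathlib

/-!
# S3278: PK-NUM (arithmetic of the order formula)
-/

set_option autoImplicit false

namespace Cfsg.Agent.Lib.Helper2.KFS

/-- **PK-NUM** -/
theorem kf_num (n c x₁ x₂ x₃ : ℕ) (ε₁ ε₂ ε₃ : ℤ) (h1 : ε₁ = 1) (h2 : ε₂ = 1 ∨ ε₂ = -1) (h3 : ε₃ = -1)
    (hc : 0 < c)
    (hd1 : (4 : ℤ) ∣ (x₁ : ℤ) - 1) (hd2 : (4 : ℤ) ∣ (x₂ : ℤ) - ε₂) (hd3 : (4 : ℤ) ∣ (x₃ : ℤ) + 1)
    (hform : (n : ℚ) = 8 * (((x₁ : ℚ) * x₂ * x₃) /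
      (((x₁ : ℚ) + ε₁) * ((x₂ : ℚ) + ε₂) * ((x₃ : ℚ) + ε₃))) * (c : ℚ) ^ 3 / (c : ℚ) ^ 2) :
    n < 18 * c := by
  subst h1 h3
  have hx₃ : 3 ≤ x₃ := by
    obtain ⟨k, hk⟩ := hd3
    omega
  have hx₁ : 1 ≤ x₁ := by
    obtain ⟨k, hk⟩ := hd1
    omega
  have hx₂ : 1 ≤ x₂ ∧ (ε₂ = -1 → 3 ≤ x₂) := by
    obtain ⟨k, hk⟩ := hd2
    rcases h2 with rfl | rfl
    · constructor
      · omega
      · intro h; norm_num at h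
    · constructor
      · omega
      · intro _; omega
  have hcq : (0 : ℚ) < c := by exact_mod_cast hc
  have hx₁q : (1 : ℚ) ≤ x₁ := by exact_mod_cast hx₁
  have hx₂q : (1 : ℚ) ≤ x₂ := by exact_mod_cast hx₂.1
  have hx₃q : (3 : ℚ) ≤ x₃ := by exact_mod_cast hx₃
  have hcc : (c : ℚ) ^ 3 / (c : ℚ) ^ 2 = c := by
    field_simp
  have hlt : (n : ℚ) < 18 * c := by
    rw [hform, mul_div_assoc, hcc]
    rcases h2 with rfl | rfl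
    · have hD : (0 : ℚ) < ((x₁ : ℚ) + ((1 : ℤ) : ℚ)) * ((x₂ : ℚ) + ((1 : ℤ) : ℚ)) *
          ((x₃ : ℚ) + ((-1 : ℤ) : ℚ)) := by
        push_cast
        have : (0 : ℚ) < (x₃ : ℚ) + -1 := by linarith
        positivity
      have hkey : 4 * ((x₁ : ℚ) * x₂ * x₃) < 9 * (((x₁ : ℚ) + ((1 : ℤ) : ℚ)) *
          ((x₂ : ℚ) + ((1 : ℤ) : ℚ)) * ((x₃ : ℚ) + ((-1 : ℤ) : ℚ))) := by
        push_cast
        have h12 : (0 : ℚ) < (x₁ : ℚ) * x₂ := by positivity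
        nlinarith [mul_pos h12 (by linarith : (0 : ℚ) < (x₃ : ℚ) - 3 + 1),
          mul_nonneg h12.le (by linarith : (0 : ℚ) ≤ (x₃ : ℚ) - 3)]
      have hα : ((x₁ : ℚ) * x₂ * x₃) / (((x₁ : ℚ) + ((1 : ℤ) : ℚ)) * ((x₂ : ℚ) + ((1 : ℤ) : ℚ)) *
          ((x₃ : ℚ) + ((-1 : ℤ) : ℚ))) < 9 / 4 := by
        rw [div_lt_div_iff₀ hD (by norm_num)]
        linarith
      nlinarith
    · have hx₂3 : (3 : ℚ) ≤ x₂ := by exact_mod_cast hx₂.2 rfl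
      have hD : (0 : ℚ) < ((x₁ : ℚ) + ((1 : ℤ) : ℚ)) * ((x₂ : ℚ) + ((-1 : ℤ) : ℚ)) *
          ((x₃ : ℚ) + ((-1 : ℤ) : ℚ)) := by
        push_cast
        have : (0 : ℚ) < (x₃ : ℚ) + -1 := by linarith
        have : (0 : ℚ) < (x₂ : ℚ) + -1 := by linarith
        positivity
      have hkey : 4 * ((x₁ : ℚ) * x₂ * x₃) < 9 * (((x₁ : ℚ) + ((1 : ℤ) : ℚ)) *
          ((x₂ : ℚ) + ((-1 : ℤ) : ℚ)) * ((x₃ : ℚ) + ((-1 : ℤ) : ℚ))) := by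
        push_cast
        have ha : (0 : ℚ) ≤ (x₂ : ℚ) - 3 := by linarith
        have hb : (0 : ℚ) ≤ (x₃ : ℚ) - 3 := by linarith
        have hx1 : (0 : ℚ) < x₁ := by linarith
        nlinarith [mul_nonneg ha hb, mul_nonneg hx1.le (mul_nonneg ha hb), mul_nonneg hx1.le ha,
          mul_nonneg hx1.le hb]
      have hα : ((x₁ : ℚ) * x₂ * x₃) / (((x₁ : ℚ) + ((1 : ℤ) : ℚ)) * ((x₂ : ℚ) + ((-1 : ℤ) : ℚ)) *
          ((x₃ : ℚ) + ((-1 : ℤ) : ℚ))) < 9 / 4 := by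
        rw [div_lt_div_iff₀ hD (by norm_num)]
        linarith
      nlinarith
  have : (n : ℚ) < ((18 * c : ℕ) : ℚ) := by push_cast; exact hlt
  exact_mod_cast this

end Cfsg.Agent.Lib.Helper2.KFS
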