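import Mathlib
import Cfsg.Agent.Lib.Helper2.KegW17

set_option autoImplicit false

/-!
Products of two nilpotent subgroups: one factor lies in a proper normal subgroup (conclusion).
-/

namespace Cfsg.Agent.Lib.Helper2.KegW

open scoped Pointwise

open Cfsg.Agent.Lib.Lead

universe u

variable {G : Type u} [Group G] [Finite G] {A B : Subgroup G}

theorem NCtx.false_of_nctx (c : NCtx G A B) : False := by
  haveI : Group.IsSolvable G := nilpotent_prod_solvable A B c.nilA c.nilB c.prod
  haveI : Nontrivial G := by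
    by_contra h
    rw [not_nontrivial_iff_subsingleton] at h
    apply c.A_ne_top
    rw [eq_top_iff]
    intro x _
    have : x = 1 := Subsingleton.elim _ _
    rw [this]; exact one_mem _
  obtain ⟨p, M, hp, hMn, hMc, hMp, hM1, -⟩ := exists_normal_abelian_pgroup (G := G)
  haveI := hMn
  haveI := hMc
  haveI : Fact p.Prime := ⟨hp⟩
  have hcomm : ∀ x ∈ M, ∀ y ∈ M, x * y = y * x := fun x hx y hy =>
    Subgroup.mul_comm_of_mem_isMulCommutative M hx hy
  have hpA := c.not_dvd_card hM1 hMp hcomm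
  have hAM := c.inf_eq_bot hM1 hcomm
  have hBM := c.symm.inf_eq_bot hM1 hcomm
  have hcA : Subgroup.IsComplement' M A := by
    apply Subgroup.isComplement'_of_disjoint_and_mul_eq_univ
    · rw [disjoint_iff, inf_comm]; exact hAM
    · rw [← Subgroup.normal_mul, sup_comm, (c.sup_eq_top M hM1).1]; rfl
  have hcB : Subgroup.IsComplement' M B := by
    apply Subgroup.isComplement'_of_disjoint_and_mul_eq_univ
    · rw [disjoint_iff, inf_comm]; exact hBM
    · rw [← Subgroup.normal_mul, sup_comm, (c.sup_eq_top M hM1).2]; rfl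
  have hcop : (Nat.card M).Coprime M.index := by
    rw [hcA.symm.index_eq_card]
    obtain ⟨k, hk⟩ := IsPGroup.iff_card.mp hMp
    rw [hk]; exact Nat.Coprime.pow_left k ((Nat.Prime.coprime_iff_not_dvd hp).mpr hpA)
  obtain ⟨m, hmM, hm⟩ := schur_conj_abelian M hcop A B hcA hcB
  obtain ⟨a₁, ha₁, b, hb, h1⟩ := c.prod m⁻¹
  have hb2 : m⁻¹ * b * m ∈ A := by
    have hb' : b ∈ MulAut.conj m • A := by rw [hm]; exact hb
    exact (mem_cs m b A).mp hb'
  have hmA : m ∈ A := by
    have h2 : m = a₁⁻¹ * (m⁻¹ * b * m)⁻¹ := by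
      have hb' : b = a₁⁻¹ * m⁻¹ := by rw [h1]; group
      rw [hb']; group
    rw [h2]; exact mul_mem (inv_mem ha₁) (inv_mem hb2)
  have hAB : A = B := by
    rw [← hm, smul_eq_of_mem_normalizer (Subgroup.le_normalizer hmA)]
  apply c.A_ne_top
  rw [eq_top_iff]
  intro g _
  obtain ⟨a, ha, b', hb', rfl⟩ := c.prod g
  exact mul_mem ha (hAB ▸ hb')

/-- in a product of two nilpotent subgroups, not both the whole group, one of the factors lies in a
proper normal subgroup -/
theorem exists_normal_of_prod_aux : ∀ (n : ℕ) (G : Type u) [Group G] [Finite G]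
    (A B : Subgroup G), Nat.card G = n → Group.IsNilpotent A → Group.IsNilpotent B →
    (∀ g : G, ∃ a ∈ A, ∃ b ∈ B, g = a * b) → (A ≠ ⊤ ∨ B ≠ ⊤) →
    ∃ N : Subgroup G, N.Normal ∧ N ≠ ⊤ ∧ (A ≤ N ∨ B ≤ N) := by
  intro n
  induction n using Nat.strong_induction_on with
  | _ n ih =>
  intro G _ _ A B hn hA hB hAB hpr
  by_contra hcon
  have c : NCtx G A B :=
    { nilA := hA
      nilB := hB
      prod := hAB
      proper := hpr
      no := fun N hN hNt h => hcon ⟨N, hN, hNt, h⟩
      ih := by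
        intro H _ _ A' B' hlt hA' hB' hp hpr'
        rw [hn] at hlt
        exact ih _ hlt H A' B' rfl hA' hB' hp hpr' }
  exact c.false_of_nctx

theorem exists_normal_of_prod {G : Type u} [Group G] [Finite G] (A B : Subgroup G)
    (hA : Group.IsNilpotent A) (hB : Group.IsNilpotent B)
    (hAB : ∀ g : G, ∃ a ∈ A, ∃ b ∈ B, g = a * b) (hproper : A ≠ ⊤ ∨ B ≠ ⊤) :
    ∃ N : Subgroup G, N.Normal ∧ N ≠ ⊤ ∧ (A ≤ N ∨ B ≤ N) :=
  exists_normal_of_prod_aux _ G A B rfl hA hB hAB hproper

end Cfsg.Agent.Lib.Helper2.KegW
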