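import Mathlib

set_option autoImplicit false

namespace Cfsg.Agent.Lib.Helper2

namespace KleinCount

variable {P : Type*} [Group P]

/-- the four-group generated by two commuting involutions -/
def four (x y : P) (hx : x * x = 1) (hy : y * y = 1) (hc : x * y = y * x) : Subgroup P where
  carrier := {z | z = 1 ∨ z = x ∨ z = y ∨ z = x * y}
  one_mem' := Or.inl rfl
  inv_mem' := by
    have hxi : x⁻¹ = x := inv_eq_of_mul_eq_one_left hx
    have hyi : y⁻¹ = y := inv_eq_of_mul_eq_one_left hy
    rintro z (rfl | rfl | rfl | rfl)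
    · exact Or.inl inv_one
    · exact Or.inr (Or.inl hxi)
    · exact Or.inr (Or.inr (Or.inl hyi))
    · right; right; right
      rw [mul_inv_rev, hxi, hyi, hc]
  mul_mem' := by
    have h1 : x * (x * y) = y := by rw [← mul_assoc, hx, one_mul]
    have h2 : y * (x * y) = x := by rw [hc, ← mul_assoc, hy, one_mul]
    have h3 : x * y * x = y := by rw [hc, mul_assoc, hx, mul_one]
    have h4 : x * y * y = x := by rw [mul_assoc, hy, mul_one]
    have h5 : x * y * (x * y) = 1 := by rw [mul_assoc, h2, hx]
    rintro a b (rfl | rfl | rfl | rfl) (rfl | rfl | rfl | rfl)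
    · exact Or.inl (mul_one 1)
    · exact Or.inr (Or.inl (one_mul _))
    · exact Or.inr (Or.inr (Or.inl (one_mul _)))
    · exact Or.inr (Or.inr (Or.inr (one_mul _)))
    · exact Or.inr (Or.inl (mul_one _))
    · exact Or.inl hx
    · exact Or.inr (Or.inr (Or.inr rfl))
    · exact Or.inr (Or.inr (Or.inl h1))
    · exact Or.inr (Or.inr (Or.inl (mul_one _)))
    · exact Or.inr (Or.inr (Or.inr hc.symm))
    · exact Or.inl hy
    · exact Or.inr (Or.inl h2)
    · exact Or.inr (Or.inr (Or.inr (mul_one _)))
    · exact Or.inr (Or.inr (Or.inl h3))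
    · exact Or.inr (Or.inl h4)
    · exact Or.inl h5

theorem mem_four {x y : P} (hx : x * x = 1) (hy : y * y = 1) (hc : x * y = y * x) (z : P) :
    z ∈ four x y hx hy hc ↔ z = 1 ∨ z = x ∨ z = y ∨ z = x * y := Iff.rfl

theorem card_four {x y : P} (hx : x * x = 1) (hy : y * y = 1) (hc : x * y = y * x)
    (hx1 : x ≠ 1) (hy1 : y ≠ 1) (hxy : x ≠ y) : Nat.card (four x y hx hy hc) = 4 := by
  classical
  have h1 : Nat.card (four x y hx hy hc) = ({1, x, y, x * y} : Finset P).card := by
    rw [← Nat.card_eq_finsetCard]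
    apply Nat.card_congr
    apply Equiv.subtypeEquivRight
    intro z
    rw [mem_four]
    simp only [Finset.mem_insert, Finset.mem_singleton]
  rw [h1]
  have n1 : (1 : P) ∉ ({x, y, x * y} : Finset P) := by
    simp only [Finset.mem_insert, Finset.mem_singleton, not_or]
    refine ⟨hx1.symm, hy1.symm, ?_⟩
    intro h
    apply hxy
    have : y = x⁻¹ := (inv_eq_of_mul_eq_one_right h.symm).symm
    rw [this]
    exact (inv_eq_of_mul_eq_one_left hx).symm
  have n2 : x ∉ ({y, x * y} : Finset P) := by
    simp only [Finset.mem_insert, Finset.mem_singleton, not_or]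
    refine ⟨hxy, ?_⟩
    intro h
    apply hy1
    exact (mul_eq_left.1 h.symm)
  have n3 : y ∉ ({x * y} : Finset P) := by
    simp only [Finset.mem_singleton]
    intro h
    apply hx1
    exact (mul_eq_right.1 h.symm)
  rw [Finset.card_insert_of_notMem n1, Finset.card_insert_of_notMem n2,
    Finset.card_insert_of_notMem n3, Finset.card_singleton]

theorem isKleinFour_four {x y : P} (hx : x * x = 1) (hy : y * y = 1) (hc : x * y = y * x)
    (hx1 : x ≠ 1) (hy1 : y ≠ 1) (hxy : x ≠ y) : IsKleinFour (four x y hx hy hc) where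
  card_four := card_four hx hy hc hx1 hy1 hxy
  exponent_two := by
    have hdvd : Monoid.exponent (four x y hx hy hc) ∣ 2 := by
      apply Monoid.exponent_dvd_of_forall_pow_eq_one
      rintro ⟨z, hz⟩
      apply Subtype.ext
      show z ^ 2 = 1
      rw [pow_two]
      have h2 : y * (x * y) = x := by rw [hc, ← mul_assoc, hy, one_mul]
      rcases hz with rfl | rfl | rfl | rfl
      · exact mul_one 1
      · exact hx
      · exact hy
      · rw [mul_assoc, h2, hx]
    rcases (Nat.dvd_prime Nat.prime_two).1 hdvd with h1 | h1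
    · exfalso
      rw [Monoid.exp_eq_one_iff] at h1
      have := card_four hx hy hc hx1 hy1 hxy
      rw [Nat.card_unique] at this
      omega
    · exact h1

/-- a four-group is generated by any two of its distinct involutions -/
theorem four_eq {V : Subgroup P} [hV : IsKleinFour V] {x y : P} (hxV : x ∈ V) (hyV : y ∈ V)
    (hx : x * x = 1) (hy : y * y = 1) (hc : x * y = y * x)
    (hx1 : x ≠ 1) (hy1 : y ≠ 1) (hxy : x ≠ y) : four x y hx hy hc = V := by
  haveI : Finite V := Nat.finite_of_card_ne_zero (by rw [hV.card_four]; norm_num)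
  apply Subgroup.eq_of_le_of_card_ge
  · rintro z (rfl | rfl | rfl | rfl)
    · exact V.one_mem
    · exact hxV
    · exact hyV
    · exact V.mul_mem hxV hyV
  · rw [card_four hx hy hc hx1 hy1 hxy, hV.card_four]

end KleinCount

end Cfsg.Agent.Lib.Helper2
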