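import Mathlib
import Cfsg.Agent.Lib.Helper2.KleinCount1
import Cfsg.Agent.Lib.Helper3.Count

set_option autoImplicit false

namespace Cfsg.Agent.Lib.Helper2

namespace KleinCount

variable {P : Type*} [Group P]

theorem sq_of_orderOf {x : P} (hx : orderOf x = 2) : x * x = 1 ∧ x ≠ 1 := by
  haveI : Fact (Nat.Prime 2) := ⟨Nat.prime_two⟩
  have := orderOf_eq_prime_iff.1 hx
  rw [pow_two] at this
  exact this

theorem orderOf_of_sq {x : P} (hx : x * x = 1) (hx1 : x ≠ 1) : orderOf x = 2 := by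
  haveI : Fact (Nat.Prime 2) := ⟨Nat.prime_two⟩
  apply orderOf_eq_prime_iff.2
  rw [pow_two]
  exact ⟨hx, hx1⟩

/-- ordered pairs of distinct non-identity elements of a type with four elements -/
theorem card_pairs {A : Type*} [Finite A] (hA : Nat.card A = 4) (e : A) :
    Nat.card {q : A × A // q.1 ≠ e ∧ q.2 ≠ e ∧ q.1 ≠ q.2} = 6 := by
  classical
  have := Fintype.ofFinite A
  have hB : Nat.card {a : A // a ≠ e} = 3 := by
    have h1 : Fintype.card {a : A // ¬ a = e} =
        Fintype.card A - Fintype.card {a : A // a = e} := Fintype.card_subtype_compl _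
    rw [Fintype.card_subtype_eq, ← Nat.card_eq_fintype_card, ← Nat.card_eq_fintype_card,
      hA] at h1
    exact h1
  have e1 : {q : A × A // q.1 ≠ e ∧ q.2 ≠ e ∧ q.1 ≠ q.2} ≃
      {q : {a : A // a ≠ e} × {a : A // a ≠ e} // q.1 ≠ q.2} :=
    { toFun := fun q => ⟨(⟨q.1.1, q.2.1⟩, ⟨q.1.2, q.2.2.1⟩), fun h => q.2.2.2 (congrArg Subtype.val h)⟩
      invFun := fun q => ⟨(q.1.1.1, q.1.2.1), q.1.1.2, q.1.2.2, fun h => q.2 (Subtype.ext h)⟩
      left_inv := fun q => rfl
      right_inv := fun q => rfl }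
  rw [Nat.card_congr e1]
  have h2 : Nat.card ({a : A // a ≠ e} × {a : A // a ≠ e}) = 9 := by
    rw [Nat.card_prod, hB]
  have h3 : Nat.card {q : {a : A // a ≠ e} × {a : A // a ≠ e} // q.1 = q.2} = 3 := by
    rw [← hB]
    apply Nat.card_congr
    exact
      { toFun := fun q => q.1.1
        invFun := fun a => ⟨(a, a), rfl⟩
        left_inv := fun q => Subtype.ext (Prod.ext rfl q.2)
        right_inv := fun a => rfl }
  have h4 := Nat.card_congr (Equiv.sumCompl
    (fun q : {a : A // a ≠ e} × {a : A // a ≠ e} => q.1 = q.2))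
  rw [Nat.card_sum, h2, h3] at h4
  have h5 : Nat.card {q : {a : A // a ≠ e} × {a : A // a ≠ e} // q.1 ≠ q.2} =
      Nat.card {q : {a : A // a ≠ e} × {a : A // a ≠ e} // ¬ q.1 = q.2} := rfl
  omega

/-- pairs of distinct commuting involutions -/
abbrev Tp (P : Type*) [Group P] : Type _ :=
  {p : P × P // orderOf p.1 = 2 ∧ orderOf p.2 = 2 ∧ p.1 ≠ p.2 ∧ Commute p.1 p.2}

/-- the four-group of a pair -/
def Ψ (p : Tp P) : {V : Subgroup P // IsKleinFour V} :=
  ⟨four p.1.1 p.1.2 (sq_of_orderOf p.2.1).1 (sq_of_orderOf p.2.2.1).1 p.2.2.2.2.eq,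
    isKleinFour_four _ _ _ (sq_of_orderOf p.2.1).2 (sq_of_orderOf p.2.2.1).2 p.2.2.2.1⟩

/-- the number of pairs is six times the number of four-groups -/
theorem card_Tp [Finite P] :
    Nat.card (Tp P) = Nat.card {V : Subgroup P // IsKleinFour V} * 6 := by
  apply Cfsg.Agent.Lib.Helper3.card_eq_mul_of_fibres Ψ
  rintro ⟨V, hV⟩
  haveI := hV
  haveI : Finite V := Nat.finite_of_card_ne_zero (by rw [hV.card_four]; norm_num)
  rw [← card_pairs (A := V) hV.card_four 1]
  apply Nat.card_congr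
  have hmem : ∀ p : Tp P, Ψ p = ⟨V, hV⟩ → p.1.1 ∈ V ∧ p.1.2 ∈ V := by
    intro p hp
    have h1 : four p.1.1 p.1.2 (sq_of_orderOf p.2.1).1 (sq_of_orderOf p.2.2.1).1
        p.2.2.2.2.eq = V := congrArg Subtype.val hp
    rw [← h1]
    exact ⟨Or.inr (Or.inl rfl), Or.inr (Or.inr (Or.inl rfl))⟩
  refine
    { toFun := fun p => ⟨(⟨p.1.1.1, (hmem p.1 p.2).1⟩, ⟨p.1.1.2, (hmem p.1 p.2).2⟩), ?_, ?_, ?_⟩
      invFun := fun q => ⟨⟨(q.1.1.1, q.1.2.1), ?_, ?_, ?_, ?_⟩, ?_⟩
      left_inv := fun p => rfl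
      right_inv := fun q => rfl }
  · intro h
    exact (sq_of_orderOf p.1.2.1).2 (congrArg Subtype.val h)
  · intro h
    exact (sq_of_orderOf p.1.2.2.1).2 (congrArg Subtype.val h)
  · intro h
    exact p.1.2.2.2.1 (congrArg Subtype.val h)
  · apply orderOf_of_sq
    · exact congrArg Subtype.val (IsKleinFour.mul_self q.1.1)
    · intro h
      exact q.2.1 (Subtype.ext h)
  · apply orderOf_of_sq
    · exact congrArg Subtype.val (IsKleinFour.mul_self q.1.2)
    · intro h
      exact q.2.2.1 (Subtype.ext h)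
  · intro h
    exact q.2.2.2 (Subtype.ext h)
  · have := IsKleinFour.isMulCommutative (G := V)
    have hc : q.1.1 * q.1.2 = q.1.2 * q.1.1 := mul_comm' _ _
    exact congrArg Subtype.val hc
  · apply Subtype.ext
    have hx : (q.1.1 : P) * (q.1.1 : P) = 1 := congrArg Subtype.val (IsKleinFour.mul_self q.1.1)
    have hy : (q.1.2 : P) * (q.1.2 : P) = 1 := congrArg Subtype.val (IsKleinFour.mul_self q.1.2)
    have hc : (q.1.1 : P) * (q.1.2 : P) = (q.1.2 : P) * (q.1.1 : P) := by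
      have := IsKleinFour.isMulCommutative (G := V)
      have hc : q.1.1 * q.1.2 = q.1.2 * q.1.1 := mul_comm' _ _
      exact congrArg Subtype.val hc
    exact four_eq q.1.1.2 q.1.2.2 hx hy hc (fun h => q.2.1 (Subtype.ext h))
      (fun h => q.2.2.1 (Subtype.ext h)) (fun h => q.2.2.2 (Subtype.ext h))

end KleinCount

end Cfsg.Agent.Lib.Helper2
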