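import Mathlib
import Cfsg.Agent.Lib.Lead.BrandtDefs
import Cfsg.Agent.Lib.Helper3.Brandt_A1
import Cfsg.Agent.Lib.Helper4.Brandt_A3
import Cfsg.Agent.Lib.Helper4.Kuls_K1
import Cfsg.Agent.Lib.Helper2.Brandt_A2

/-! S4648 swarm, package K2 (helper2): Kuelshammer's lemma in abstract form, `kuls_local` and `kuls_alg`
(see `notes/S4648_PROOF_helper8.md`, Part I).  Uses K1' (`corner_finrank_le_of_no_indep`, helper4), the S4607 packages
A1 (`exists_wedderburn`, helper3), A3 (`full_of_mod`, `central_transfer`, helper4) and the matrix-unit lemmas of A2. -/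

set_option autoImplicit false

namespace Cfsg.Agent.Lib.Helper2.KulsK2

open Cfsg.Agent.Lib.Lead.Brandt Cfsg.Agent.Lib.Helper2.BrandtA2 Module



section loc
variable {k R : Type*} [Field k] [Ring R] [Algebra k R] [FiniteDimensional k R]

/-- K2 (local case): `brandt_local` with `n ≤ 4` instead of `2`. -/
theorem kuls_local_aux (t : R →ₗ[k] k) (ht : ∀ a b, t (a * b) = t (b * a))
    (hnd : ∀ a, (∀ b, t (a * b) = 0) → a = 0)
    (ε : R) (hε : IsIdempotentElem ε) (hεc : ∀ x, ε * x = x * ε)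
    (n : ℕ) (hn : n ≤ 4)
    (hZ : ∀ z : Fin (n + 1) → R, (∀ i x, z i * x = x * z i) → (∀ i, z i * ε = z i) →
      ¬ LinearIndependent k z)
    (e : R) (he : IsIdempotentElem e) (heε : e * ε = e)
    (J : Set R) (hJadd : ∀ a ∈ J, ∀ b ∈ J, a + b ∈ J) (hJl : ∀ a ∈ J, ∀ x, x * a ∈ J)
    (hJr : ∀ a ∈ J, ∀ x, a * x ∈ J) (hJsmul : ∀ (c : k), ∀ a ∈ J, c • a ∈ J)
    (hJnil : ∃ N : ℕ, ∀ f : Fin N → R, (∀ i, f i ∈ J) → (List.ofFn f).prod = 0)
    (hC : ∀ x, ∃ c : k, e * x * e - c • e ∈ J)
    (hfull : ∃ (n : ℕ) (a b : Fin n → R), ε - ∑ i, a i * e * b i ∈ J) :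
    Module.finrank k ↥(corner k e) ≤ n := by
  classical
  -- J as a submodule
  have h0 : (0 : R) ∈ J := by
    obtain ⟨m, a, b, hj⟩ := hfull
    have := hJsmul 0 _ hj
    rwa [zero_smul] at this
  let Js : Submodule k R :=
    { carrier := J
      add_mem' := fun {a b} ha hb => hJadd a ha b hb
      zero_mem' := h0
      smul_mem' := fun c {a} ha => hJsmul c a ha }
  -- nilpotency
  have hnil : ∃ M : ℕ, Js ^ M = ⊥ := by
    obtain ⟨N, hN⟩ := hJnil
    refine ⟨N, ?_⟩
    rw [Submodule.pow_eq_span_pow_set, eq_bot_iff, Submodule.span_le]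
    intro x hx
    obtain ⟨f, rfl⟩ := Set.mem_pow.1 hx
    have := hN (fun i => (f i : R)) (fun i => (f i).2)
    rw [this]
    exact Submodule.zero_mem _
  -- fullness
  obtain ⟨m, a, b, hεab⟩ := full_of_mod e ε hε J hJnil hfull
  -- nondegeneracy on the corner
  have hndC : ∀ a', e * a' * e = a' → (∀ c, t (a' * (e * c * e)) = 0) → a' = 0 := by
    intro a' ha' h
    apply hnd
    intro x
    have h1 : t (a' * x) = t (a' * (e * x * e)) := by
      calc t (a' * x) = t (e * (a' * e * x)) := by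
            congr 1
            calc a' * x = (e * a' * e) * x := by rw [ha']
              _ = e * (a' * e * x) := by noncomm_ring
        _ = t ((a' * e * x) * e) := ht _ _
        _ = t (a' * (e * x * e)) := by congr 1; noncomm_ring
    rw [h1]; exact h x
  -- no `n + 1` independent central elements of the corner
  have hZC : ∀ w : Fin (n + 1) → R, (∀ i, e * w i * e = w i) →
      (∀ i x, w i * (e * x * e) = (e * x * e) * w i) → ¬ LinearIndependent k w := by
    intro w hw hwc hli
    have key := fun i => central_transfer e ε he hεc heε a b hεab (w i) (hw i) (hwc i)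
    refine hZ (fun i => ∑ j, a j * w i * b j) (fun i => (key i).1) (fun i => (key i).2.1) ?_
    apply LinearIndependent.of_comp (LinearMap.mulRight k e)
    have : (LinearMap.mulRight k e) ∘ (fun i => ∑ j, a j * w i * b j) = w := by
      funext i
      exact (key i).2.2
    rw [this]
    exact hli
  exact corner_finrank_le_of_no_indep t ht e he Js (fun a' ha' x => hJl a' ha' x)
    (fun a' ha' x => hJr a' ha' x) hnil hC hndC n hn hZC

end loc

section main

variable {k R : Type*} [Field k] [IsAlgClosed k] [Ring R] [Algebra k R] [FiniteDimensional k R]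

theorem kuls_alg_aux (t : R →ₗ[k] k) (ht : ∀ a b, t (a * b) = t (b * a))
    (hnd : ∀ a, (∀ b, t (a * b) = 0) → a = 0)
    (ε : R) (hε : IsIdempotentElem ε) (hεc : ∀ x, ε * x = x * ε) (hε0 : ε ≠ 0)
    (n : ℕ) (hn : n ≤ 4)
    (hZ : ∀ z : Fin (n + 1) → R, (∀ i x, z i * x = x * z i) → (∀ i, z i * ε = z i) →
      ¬ LinearIndependent k z)
    (c : R → k)
    (hc : ∀ f f' : R, IsIdempotentElem f → f * ε = f → IsIdempotentElem f' → f' * ε = f' →
      ∀ τ : R →ₗ[k] k, (∀ a b, τ (a * b) = τ (b * a)) → c f' * τ f = c f * τ f')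
    (hc0 : ∃ f0 : R, IsIdempotentElem f0 ∧ f0 * ε = f0 ∧ c f0 ≠ 0) :
    ∃ e : R, IsIdempotentElem e ∧ e ≠ 0 ∧ e * ε = e ∧
      Module.finrank k ↥(corner k e) ≤ n := by
  classical
  obtain ⟨L, d, hd, π, hπ, N, hN⟩ := exists_wedderburn k R
  -- kernel elements are nilpotent
  have hnil : ∀ x, π x = 0 → x ^ N = 0 := by
    intro x hx
    have := hN (fun _ => x) (fun _ => hx)
    simpa [List.ofFn_const, List.prod_replicate] using this
  -- `π ε` is a central idempotent
  have hπεc : ∀ Y, π ε * Y = Y * π ε := by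
    intro Y
    obtain ⟨y, rfl⟩ := hπ Y
    rw [← map_mul, ← map_mul, hεc]
  have hπεi : π ε * π ε = π ε := by rw [← map_mul, hε.eq]
  have hcomp : ∀ i, π ε i = 0 ∨ π ε i = 1 := by
    intro i
    have : NeZero (d i) := hd i
    apply matrix_central_idem
    · intro X
      have := congrFun (hπεc (Pi.single i X)) i
      simpa using this
    · exact congrFun hπεi i
  -- lifts
  choose lift hlift using hπ
  -- the trace functionals
  let τ : Fin L → (R →ₗ[k] k) := fun i =>
    { toFun := fun x => Matrix.trace (π x i)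
      map_add' := by intro x y; simp [Matrix.trace_add]
      map_smul' := by intro c x; simp [Matrix.trace_smul] }
  have hτ : ∀ i x, τ i x = Matrix.trace (π x i) := fun i x => rfl
  have hτc : ∀ i a b, τ i (a * b) = τ i (b * a) := by
    intro i a b
    simp only [hτ, map_mul, Pi.mul_apply]
    exact Matrix.trace_mul_comm _ _
  -- the index set
  let I : Finset (Fin L) := Finset.univ.filter (fun i => π ε i = 1)
  have hI : ∀ i, i ∈ I ↔ π ε i = 1 := by intro i; simp [I]
  have hInot : ∀ i, i ∉ I → π ε i = 0 := by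
    intro i hi
    rcases hcomp i with h | h
    · exact h
    · exact absurd ((hI i).mpr h) hi
  have hIne : I.Nonempty := by
    by_contra hne
    rw [Finset.not_nonempty_iff_eq_empty] at hne
    have h0 : π ε = 0 := by
      funext i
      exact hInot i (by rw [hne]; exact Finset.notMem_empty i)
    have h1 := hnil ε h0
    apply hε0
    cases N with
    | zero =>
      rw [pow_zero] at h1
      calc ε = ε * 1 := (mul_one ε).symm
        _ = 0 := by rw [h1, mul_zero]
    | succ n => rwa [hε.pow_succ_eq] at h1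
  -- construction of the idempotent over a component in `I`
  have key : ∀ (i0 : Fin L) (o : Fin (d i0)), π ε i0 = 1 →
      ∃ e : R, IsIdempotentElem e ∧ e * ε = e ∧ π e = EE k d i0 o o := by
    intro i0 o hi
    have hEid : IsIdempotentElem (EE k d i0 o o) := EE_mul_EE i0 o o o
    obtain ⟨e0, he0, hπe0⟩ := exists_isIdempotentElem_eq_of_ker_isNilpotent (π : R →+* _)
      (fun x hx => ⟨N, hnil x (by simpa [RingHom.mem_ker] using hx)⟩) (EE k d i0 o o)
      ⟨lift _, by simpa using hlift _⟩ hEid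
    have hπe0' : π e0 = EE k d i0 o o := by simpa using hπe0
    refine ⟨e0 * ε, ?_, ?_, ?_⟩
    · show e0 * ε * (e0 * ε) = e0 * ε
      rw [mul_assoc, ← mul_assoc ε, hεc e0, mul_assoc, hε.eq, ← mul_assoc, he0.eq]
    · rw [mul_assoc, hε.eq]
    · rw [map_mul, hπe0']
      unfold EE
      rw [← Pi.single_mul_left, hi, mul_one]
  have hne0 : ∀ (i0 : Fin L) (o : Fin (d i0)) (e : R), π e = EE k d i0 o o → e ≠ 0 := by
    intro i0 o e hπe he
    rw [he, map_zero] at hπe
    have := congrArg (fun Y => Matrix.trace (Y i0)) hπe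
    simp [EE_apply] at this
  have hCker : ∀ (i0 : Fin L) (o : Fin (d i0)) (e : R), π e = EE k d i0 o o →
      ∀ x, π (e * x * e - (π x i0 o o) • e) = 0 := by
    intro i0 o e hπe x
    rw [map_sub, map_mul, map_mul, map_smul, hπe, EE_mul_mul_EE]
    unfold EE
    rw [← Pi.single_smul, Matrix.smul_single, smul_eq_mul, mul_one, sub_self]
  -- `I` has exactly one element
  have hIone : I.card = 1 := by
    have hpos : 0 < I.card := Finset.card_pos.mpr hIne
    by_contra hcard
    have h2 : 1 < I.card := by omega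
    obtain ⟨i1, hi1, i2, hi2, hne12⟩ := Finset.one_lt_card.mp h2
    have : NeZero (d i1) := hd i1
    have : NeZero (d i2) := hd i2
    obtain ⟨e1, he1, he1ε, hπe1⟩ := key i1 0 ((hI i1).mp hi1)
    obtain ⟨e2, he2, he2ε, hπe2⟩ := key i2 0 ((hI i2).mp hi2)
    have ht11 : τ i1 e1 = 1 := by rw [hτ, hπe1, EE_apply, if_pos rfl]
    have ht12 : τ i1 e2 = 0 := by rw [hτ, hπe2, EE_apply, if_neg hne12]
    have ht22 : τ i2 e2 = 1 := by rw [hτ, hπe2, EE_apply, if_pos rfl]
    have hce2 : c e2 = 0 := by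
      have := hc e1 e2 he1 he1ε he2 he2ε (τ i1) (hτc i1)
      rw [ht11, ht12, mul_one, mul_zero] at this
      exact this
    obtain ⟨f0, hf0, hf0ε, hcf0⟩ := hc0
    have := hc f0 e2 hf0 hf0ε he2 he2ε (τ i2) (hτc i2)
    rw [hce2, zero_mul, ht22, mul_one] at this
    exact hcf0 this.symm
  -- one component: the local case
  obtain ⟨i0, hi0⟩ := Finset.card_eq_one.mp hIone
  have : NeZero (d i0) := hd i0
  have hi0I : π ε i0 = 1 := (hI i0).mp (by rw [hi0]; exact Finset.mem_singleton_self i0)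
  obtain ⟨e, he, heε, hπe⟩ := key i0 0 hi0I
  refine ⟨e, he, hne0 i0 0 e hπe, heε, ?_⟩
  have hπε : π ε = Pi.single i0 1 := by
    funext i
    by_cases h : i = i0
    · subst h; simp [hi0I]
    · rw [Pi.single_eq_of_ne h]
      exact hInot i (by rw [hi0]; simpa using h)
  apply kuls_local_aux t ht hnd ε hε hεc n hn hZ e he heε {x | π x = 0}
  · intro a ha b hb
    have ha' : π a = 0 := ha
    have hb' : π b = 0 := hb
    show π (a + b) = 0
    rw [map_add, ha', hb', add_zero]
  · intro a ha x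
    have ha' : π a = 0 := ha
    show π (x * a) = 0
    rw [map_mul, ha', mul_zero]
  · intro a ha x
    have ha' : π a = 0 := ha
    show π (a * x) = 0
    rw [map_mul, ha', zero_mul]
  · intro c a ha
    have ha' : π a = 0 := ha
    show π (c • a) = 0
    rw [map_smul, ha', smul_zero]
  · exact ⟨N, fun f hf => hN f hf⟩
  · intro x
    exact ⟨π x i0 0 0, hCker i0 0 e hπe x⟩
  · refine ⟨d i0, fun j => lift (EE k d i0 j 0), fun j => lift (EE k d i0 0 j), ?_⟩
    show π (ε - ∑ j, lift (EE k d i0 j 0) * e * lift (EE k d i0 0 j)) = 0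
    rw [map_sub, map_sum]
    simp only [map_mul, hlift, hπe, EE_mul_EE]
    rw [hπε, sub_eq_zero]
    funext i
    by_cases h : i = i0
    · subst h
      rw [Finset.sum_apply]
      simp only [EE, Pi.single_eq_same]
      exact (sum_single_diag (d i)).symm
    · rw [Finset.sum_apply, Pi.single_eq_of_ne h]
      symm
      apply Finset.sum_eq_zero
      intro j _
      simp [EE, Pi.single_eq_of_ne h]

end main

end Cfsg.Agent.Lib.Helper2.KulsK2

namespace Cfsg.Agent.Lib.Lead.Brandt

/-- K2 (the local case): `brandt_local` with a bound `n ≤ 4` instead of `2`. -/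
theorem kuls_local {k R : Type*} [Field k] [Ring R] [Algebra k R] [FiniteDimensional k R]
    (t : R →ₗ[k] k) (ht : ∀ a b, t (a * b) = t (b * a))
    (hnd : ∀ a, (∀ b, t (a * b) = 0) → a = 0)
    (ε : R) (hε : IsIdempotentElem ε) (hεc : ∀ x, ε * x = x * ε)
    (n : ℕ) (hn : n ≤ 4)
    (hZ : ∀ z : Fin (n + 1) → R, (∀ i x, z i * x = x * z i) → (∀ i, z i * ε = z i) →
      ¬ LinearIndependent k z)
    (e : R) (he : IsIdempotentElem e) (heε : e * ε = e)
    (J : Set R) (hJadd : ∀ a ∈ J, ∀ b ∈ J, a + b ∈ J) (hJl : ∀ a ∈ J, ∀ x, x * a ∈ J)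
    (hJr : ∀ a ∈ J, ∀ x, a * x ∈ J) (hJsmul : ∀ (c : k), ∀ a ∈ J, c • a ∈ J)
    (hJnil : ∃ N : ℕ, ∀ f : Fin N → R, (∀ i, f i ∈ J) → (List.ofFn f).prod = 0)
    (hC : ∀ x, ∃ c : k, e * x * e - c • e ∈ J)
    (hfull : ∃ (n : ℕ) (a b : Fin n → R), ε - ∑ i, a i * e * b i ∈ J) :
    Module.finrank k ↥(corner k e) ≤ n :=
  Cfsg.Agent.Lib.Helper2.KulsK2.kuls_local_aux t ht hnd ε hε hεc n hn hZ e he heε J hJadd hJl hJr
    hJsmul hJnil hC hfull

/-- K2 (main): **Kuelshammer's lemma, abstract form**: a central idempotent `ε` of a symmetric algebra with at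
most `n ≤ 4` independent central elements under `ε`, such that the idempotents under `ε` are "proportional on all
trace functionals" with weights `c` not all zero, has a nonzero idempotent `e ≤ ε` with `dim e R e ≤ n`. -/
theorem kuls_alg {k R : Type*} [Field k] [IsAlgClosed k] [Ring R] [Algebra k R]
    [FiniteDimensional k R] (t : R →ₗ[k] k) (ht : ∀ a b, t (a * b) = t (b * a))
    (hnd : ∀ a, (∀ b, t (a * b) = 0) → a = 0)
    (ε : R) (hε : IsIdempotentElem ε) (hεc : ∀ x, ε * x = x * ε) (hε0 : ε ≠ 0)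
    (n : ℕ) (hn : n ≤ 4)
    (hZ : ∀ z : Fin (n + 1) → R, (∀ i x, z i * x = x * z i) → (∀ i, z i * ε = z i) →
      ¬ LinearIndependent k z)
    (c : R → k)
    (hc : ∀ f f' : R, IsIdempotentElem f → f * ε = f → IsIdempotentElem f' → f' * ε = f' →
      ∀ τ : R →ₗ[k] k, (∀ a b, τ (a * b) = τ (b * a)) → c f' * τ f = c f * τ f')
    (hc0 : ∃ f0 : R, IsIdempotentElem f0 ∧ f0 * ε = f0 ∧ c f0 ≠ 0) :
    ∃ e : R, IsIdempotentElem e ∧ e ≠ 0 ∧ e * ε = e ∧
      Module.finrank k ↥(corner k e) ≤ n :=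
  Cfsg.Agent.Lib.Helper2.KulsK2.kuls_alg_aux t ht hnd ε hε hεc hε0 n hn hZ c hc hc0

end Cfsg.Agent.Lib.Lead.Brandt
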