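import Mathlib

/-!
# S2355 core 1: a free family in `SL₂(K[t])` by degree ping-pong

For nonzero `a b : K` the matrices `U i = [[1, a t^(i+1)], [0, 1]] * [[1, 0], [b t^(i+1), 1]]`
freely generate a free subgroup of `SL₂(K[t])` in every characteristic: for a reduced nonempty
word the `(1,0)` entry of the value is a nonzero polynomial, of degree bounded in terms of the
word only.
-/

set_option autoImplicit false

namespace Cfsg.Agent.Lib.Helper2.Law

open Polynomial Matrix

variable {K : Type*} [Field K]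

/-! ### the degree step -/

theorem deg_step (p r g : K[X]) (hp : p ≠ 0) (hr : degree r ≤ degree p) (hg : 0 < degree g) :
    r + g * p ≠ 0 ∧ degree p ≤ degree (r + g * p) := by
  have hg0 : g ≠ 0 := by
    rintro rfl
    simp at hg
  have h1 : degree r < degree (g * p) := by
    rw [degree_mul]
    have hpd : (0 : WithBot ℕ) ≤ degree p := zero_le_degree_iff.mpr hp
    calc degree r ≤ degree p := hr
      _ = 0 + degree p := by rw [zero_add]
      _ < degree g + degree p := by
        have hp' : degree p = (natDegree p : WithBot ℕ) := degree_eq_natDegree hp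
        have hg' : degree g = (natDegree g : WithBot ℕ) := degree_eq_natDegree hg0
        have hgn : 0 < natDegree g := natDegree_pos_iff_degree_pos.mpr hg
        rw [hp', hg']
        exact_mod_cast (by omega : 0 + natDegree p < natDegree g + natDegree p)
  have h2 : degree (r + g * p) = degree (g * p) := degree_add_eq_right_of_degree_lt h1
  constructor
  · intro h0
    rw [h0, degree_zero] at h2
    have : g * p = 0 := degree_eq_bot.mp h2.symm
    rcases mul_eq_zero.mp this with h | h
    · exact hg0 h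
    · exact hp h
  · rw [h2, mul_comm]
    exact degree_le_mul_left p hg0

/-! ### words acting on pairs of polynomials -/

/-- the action of the letter `(i, b)` on a column `(p, r)`: `U i` for `b = true`,
`(U i)⁻¹` for `b = false`, where `U i = [[1 + f g, f], [g, 1]]`. -/
noncomputable def stepL (f g : ℕ → K[X]) (s : ℕ × Bool) (v : K[X] × K[X]) : K[X] × K[X] :=
  if s.2 then (v.1 + f s.1 * (v.2 + g s.1 * v.1), v.2 + g s.1 * v.1)
  else (v.1 - f s.1 * v.2, v.2 - g s.1 * (v.1 - f s.1 * v.2))

/-- the first column of the value of a word. -/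
noncomputable def colW (f g : ℕ → K[X]) : List (ℕ × Bool) → K[X] × K[X]
  | [] => (1, 0)
  | s :: L => stepL f g s (colW f g L)

/-- the invariant carried along a reduced word. -/
def Inv (f g : ℕ → K[X]) (s : ℕ × Bool) (u : K[X] × K[X]) : Prop :=
  if s.2 then ∃ z : K[X] × K[X], z.2 ≠ 0 ∧ degree z.1 ≤ degree z.2 ∧
      u = (z.1 + f s.1 * z.2, z.2)
  else ∃ z : K[X] × K[X], z.1 ≠ 0 ∧ degree z.2 ≤ degree z.1 ∧
      u = (z.1, z.2 - g s.1 * z.1)

theorem inv_snd_ne {f g : ℕ → K[X]} (hg : ∀ i, 0 < degree (g i)) {s : ℕ × Bool}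
    {u : K[X] × K[X]} (h : Inv f g s u) : u.2 ≠ 0 := by
  unfold Inv at h
  split_ifs at h with hs
  · obtain ⟨z, hz, -, rfl⟩ := h
    exact hz
  · obtain ⟨z, hz, hd, rfl⟩ := h
    have := deg_step z.1 z.2 (-g s.1) hz hd (by rw [degree_neg]; exact hg _)
    simpa [sub_eq_add_neg] using this.1

/-- from `T₋` to `T₊` by an upper step -/
theorem up_mem (z : K[X] × K[X]) (f : K[X]) (hz : z.2 ≠ 0) (hd : degree z.1 ≤ degree z.2)
    (hf : 0 < degree f) : z.1 + f * z.2 ≠ 0 ∧ degree z.2 ≤ degree (z.1 + f * z.2) :=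
  deg_step z.2 z.1 f hz hd hf

theorem inv_cons {f g : ℕ → K[X]} (hf : ∀ i, 0 < degree (f i)) (hg : ∀ i, 0 < degree (g i))
    (hff : ∀ i j, i ≠ j → 0 < degree (f i - f j)) (hgg : ∀ i j, i ≠ j → 0 < degree (g i - g j))
    {s s' : ℕ × Bool} (hred : s.1 = s'.1 → s.2 = s'.2) {u : K[X] × K[X]} (h : Inv f g s' u) :
    Inv f g s (stepL f g s u) := by
  obtain ⟨j, b⟩ := s
  obtain ⟨i, b'⟩ := s'
  cases b <;> cases b'
  · -- false after false
    simp only [Inv, Bool.false_eq_true, if_false] at h ⊢
    obtain ⟨z, hz, hd, rfl⟩ := h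
    have h1 := deg_step z.1 z.2 (-g i) hz hd (by rw [degree_neg]; exact hg _)
    -- u ∈ S₋ ⊆ T₋
    have hu2 : z.2 - g i * z.1 ≠ 0 := by simpa [sub_eq_add_neg] using h1.1
    have hud : degree z.1 ≤ degree (z.2 - g i * z.1) := by simpa [sub_eq_add_neg] using h1.2
    have h2 := deg_step (z.2 - g i * z.1) z.1 (-f j) hu2 hud (by rw [degree_neg]; exact hf _)
    refine ⟨(z.1 - f j * (z.2 - g i * z.1), z.2 - g i * z.1), ?_, ?_, ?_⟩
    · simpa [sub_eq_add_neg] using h2.1
    · simpa [sub_eq_add_neg] using h2.2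
    · simp [stepL]
  · -- false after true, j ≠ i
    have hji : j ≠ i := by
      intro h'
      have := hred h'
      simp at this
    simp only [Inv, Bool.false_eq_true, if_false, if_true] at h ⊢
    obtain ⟨z, hz, hd, rfl⟩ := h
    have h2 := deg_step z.2 z.1 (f i - f j) hz hd (hff i j (Ne.symm hji))
    refine ⟨(z.1 + (f i - f j) * z.2, z.2), h2.1, h2.2, ?_⟩
    simp only [stepL, Bool.false_eq_true, if_false]
    refine Prod.ext ?_ ?_
    · simp only; ring
    · simp only; ring
  · -- true after false, j ≠ i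
    have hji : j ≠ i := by
      intro h'
      have := hred h'
      simp at this
    simp only [Inv, Bool.false_eq_true, if_false, if_true] at h ⊢
    obtain ⟨z, hz, hd, rfl⟩ := h
    have h2 := deg_step z.1 z.2 (g j - g i) hz hd (hgg j i hji)
    refine ⟨(z.1, z.2 + (g j - g i) * z.1), h2.1, h2.2, ?_⟩
    simp only [stepL, if_true]
    refine Prod.ext ?_ ?_
    · simp only; ring
    · simp only; ring
  · -- true after true
    simp only [Inv, if_true] at h ⊢
    obtain ⟨z, hz, hd, rfl⟩ := h
    have h1 := deg_step z.2 z.1 (f i) hz hd (hf _)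
    have h2 := deg_step (z.1 + f i * z.2) z.2 (g j) h1.1 h1.2 (hg _)
    refine ⟨(z.1 + f i * z.2, z.2 + g j * (z.1 + f i * z.2)), h2.1, h2.2, ?_⟩
    simp [stepL]

theorem inv_single {f g : ℕ → K[X]} (hg : ∀ i, 0 < degree (g i)) (s : ℕ × Bool) :
    Inv f g s (stepL f g s (1, 0)) := by
  obtain ⟨j, b⟩ := s
  cases b
  · simp only [Inv, Bool.false_eq_true, if_false]
    refine ⟨(1, 0), one_ne_zero, by simp, ?_⟩
    simp [stepL]
  · simp only [Inv, if_true]
    refine ⟨(1, g j), ?_, ?_, ?_⟩
    · intro h0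
      have := hg j
      simp only at h0
      rw [h0] at this
      simp at this
    · simp only [degree_one]
      exact le_of_lt (hg j)
    · simp [stepL]

theorem inv_colW {f g : ℕ → K[X]} (hf : ∀ i, 0 < degree (f i)) (hg : ∀ i, 0 < degree (g i))
    (hff : ∀ i j, i ≠ j → 0 < degree (f i - f j)) (hgg : ∀ i j, i ≠ j → 0 < degree (g i - g j)) :
    ∀ (s : ℕ × Bool) (L : List (ℕ × Bool)), FreeGroup.IsReduced (s :: L) →
      Inv f g s (colW f g (s :: L))
  | s, [], _ => by
      simpa [colW] using inv_single (f := f) hg s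
  | s, s' :: L, h => by
      rw [FreeGroup.isReduced_cons_cons] at h
      have ih := inv_colW hf hg hff hgg s' L h.2
      show Inv f g s (stepL f g s (colW f g (s' :: L)))
      exact inv_cons hf hg hff hgg h.1 ih

theorem colW_snd_ne {f g : ℕ → K[X]} (hf : ∀ i, 0 < degree (f i)) (hg : ∀ i, 0 < degree (g i))
    (hff : ∀ i j, i ≠ j → 0 < degree (f i - f j)) (hgg : ∀ i j, i ≠ j → 0 < degree (g i - g j))
    (L : List (ℕ × Bool)) (hL : FreeGroup.IsReduced L) (hne : L ≠ []) :
    (colW f g L).2 ≠ 0 := by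
  cases L with
  | nil => exact absurd rfl hne
  | cons s L => exact inv_snd_ne hg (inv_colW hf hg hff hgg s L hL)

end Cfsg.Agent.Lib.Helper2.Law
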