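import Cfsg.Agent.Lib.Helper2.LawCore1

/-!
# S2355 core 2: a nontrivial word is not a law of `SL₂(K)` modulo its centre when `K` is large

`exists_eval`: for `a b ≠ 0` and a finite set `S ⊆ K` with more than `wdeg w` elements there is
`t ∈ S` such that the value of `w` at the matrices
`upper (a t^(i+1)) * lower (b t^(i+1))` does not commute with `upper a`.
-/

set_option autoImplicit false

namespace Cfsg.Agent.Lib.Helper2.Law

open Polynomial

variable {K : Type*} [Field K]

/-- upper elementary matrix in `SL₂(R)`. -/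
def upper {R : Type*} [CommRing R] (x : R) : Matrix.SpecialLinearGroup (Fin 2) R :=
  ⟨!![1, x; 0, 1], by rw [Matrix.det_fin_two_of]; ring⟩

/-- lower elementary matrix in `SL₂(R)`. -/
def lower {R : Type*} [CommRing R] (y : R) : Matrix.SpecialLinearGroup (Fin 2) R :=
  ⟨!![1, 0; y, 1], by rw [Matrix.det_fin_two_of]; ring⟩

/-- the generic polynomials -/
noncomputable def pf (a : K) (i : ℕ) : K[X] := C a * X ^ (i + 1)

theorem degree_pf {a : K} (ha : a ≠ 0) (i : ℕ) : degree (pf a i) = ((i + 1 : ℕ) : WithBot ℕ) :=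
  degree_C_mul_X_pow (i + 1) ha

theorem degree_pf_pos {a : K} (ha : a ≠ 0) (i : ℕ) : 0 < degree (pf a i) := by
  rw [degree_pf ha]
  exact_mod_cast Nat.succ_pos i

theorem degree_pf_sub_pos {a : K} (ha : a ≠ 0) (i j : ℕ) (hij : i ≠ j) :
    0 < degree (pf a i - pf a j) := by
  rcases Nat.lt_or_gt_of_ne hij with h | h
  · have hlt : degree (pf a i) < degree (pf a j) := by
      rw [degree_pf ha, degree_pf ha]
      exact_mod_cast Nat.succ_lt_succ h
    rw [degree_sub_eq_right_of_degree_lt hlt]
    exact degree_pf_pos ha j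
  · have hlt : degree (pf a j) < degree (pf a i) := by
      rw [degree_pf ha, degree_pf ha]
      exact_mod_cast Nat.succ_lt_succ h
    rw [degree_sub_eq_left_of_degree_lt hlt]
    exact degree_pf_pos ha i

/-- the generic matrices `U i = upper (a t^(i+1)) * lower (b t^(i+1))` over `K[t]`. -/
noncomputable def gU (a b : K) (i : ℕ) : Matrix.SpecialLinearGroup (Fin 2) K[X] :=
  upper (pf a i) * lower (pf b i)

theorem gU_coe (a b : K) (i : ℕ) :
    (gU a b i : Matrix (Fin 2) (Fin 2) K[X]) =
      !![1 + pf a i * pf b i, pf a i; pf b i, 1] := by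
  rw [gU, Matrix.SpecialLinearGroup.coe_mul]
  refine Matrix.ext fun k l => ?_
  fin_cases k <;> fin_cases l <;> simp [upper, lower, Matrix.mul_apply, Fin.sum_univ_two]

theorem gU_inv_coe (a b : K) (i : ℕ) :
    ((gU a b i)⁻¹ : Matrix.SpecialLinearGroup (Fin 2) K[X]).1 =
      !![1, - pf a i; - pf b i, 1 + pf a i * pf b i] := by
  rw [Matrix.SpecialLinearGroup.coe_inv, gU_coe, Matrix.adjugate_fin_two_of]

/-- the first column. -/
def col (M : Matrix.SpecialLinearGroup (Fin 2) K[X]) : K[X] × K[X] := (M.1 0 0, M.1 1 0)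

theorem col_one : col (1 : Matrix.SpecialLinearGroup (Fin 2) K[X]) = (1, 0) := by
  simp [col]

theorem col_gU_mul (a b : K) (i : ℕ) (M : Matrix.SpecialLinearGroup (Fin 2) K[X]) :
    col (gU a b i * M) = stepL (pf a) (pf b) (i, true) (col M) := by
  simp only [col, Matrix.SpecialLinearGroup.coe_mul, gU_coe, stepL, if_true]
  refine Prod.ext ?_ ?_
  · simp [Matrix.mul_apply, Fin.sum_univ_two]; ring
  · simp [Matrix.mul_apply, Fin.sum_univ_two]; ring

theorem col_gU_inv_mul (a b : K) (i : ℕ) (M : Matrix.SpecialLinearGroup (Fin 2) K[X]) :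
    col ((gU a b i)⁻¹ * M) = stepL (pf a) (pf b) (i, false) (col M) := by
  simp only [col, Matrix.SpecialLinearGroup.coe_mul, gU_inv_coe, stepL, Bool.false_eq_true, if_false]
  refine Prod.ext ?_ ?_
  · simp [Matrix.mul_apply, Fin.sum_univ_two]; ring
  · simp [Matrix.mul_apply, Fin.sum_univ_two]; ring

theorem col_lift (a b : K) (L : List (ℕ × Bool)) :
    col (FreeGroup.lift (gU a b) (FreeGroup.mk L)) = colW (pf a) (pf b) L := by
  induction L with
  | nil =>
    rw [FreeGroup.lift_mk]
    simp [colW, col_one]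
  | cons s L ih =>
    rw [FreeGroup.lift_mk] at ih ⊢
    rw [List.map_cons, List.prod_cons]
    obtain ⟨i, b'⟩ := s
    cases b'
    · simp only [cond_false]
      rw [col_gU_inv_mul, ih]
      rfl
    · simp only [cond_true]
      rw [col_gU_mul, ih]
      rfl

/-- the degree weight of a word. -/
def wdeg (L : List (ℕ × Bool)) : ℕ := (L.map fun s => 2 * (s.1 + 1)).sum

theorem natDegree_pf_le (a : K) (i : ℕ) : natDegree (pf a i) ≤ i + 1 :=
  natDegree_C_mul_X_pow_le a (i + 1)

theorem natDegree_corner_le (a b : K) (i : ℕ) :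
    natDegree (1 + pf a i * pf b i) ≤ 2 * (i + 1) := by
  refine le_trans (natDegree_add_le _ _) (max_le (by simp) ?_)
  refine le_trans natDegree_mul_le ?_
  have h1 := natDegree_pf_le a i
  have h2 := natDegree_pf_le b i
  omega

theorem bd_mul {A M : Matrix (Fin 2) (Fin 2) K[X]} {m n : ℕ}
    (hA : ∀ i j, natDegree (A i j) ≤ m) (hM : ∀ i j, natDegree (M i j) ≤ n) :
    ∀ i j, natDegree ((A * M) i j) ≤ m + n := by
  intro i j
  rw [Matrix.mul_apply, Fin.sum_univ_two]
  refine le_trans (natDegree_add_le _ _) (max_le ?_ ?_)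
  · exact le_trans natDegree_mul_le (Nat.add_le_add (hA _ _) (hM _ _))
  · exact le_trans natDegree_mul_le (Nat.add_le_add (hA _ _) (hM _ _))

theorem bd_gU (a b : K) (i : ℕ) :
    ∀ k l, natDegree ((gU a b i).1 k l) ≤ 2 * (i + 1) := by
  intro k l
  rw [gU_coe]
  have h1 := natDegree_pf_le a i
  have h2 := natDegree_pf_le b i
  have h3 := natDegree_corner_le a b i
  fin_cases k <;> fin_cases l <;> simp <;> omega

theorem bd_gU_inv (a b : K) (i : ℕ) :
    ∀ k l, natDegree (((gU a b i)⁻¹ : Matrix.SpecialLinearGroup (Fin 2) K[X]).1 k l) ≤ 2 * (i + 1) := by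
  intro k l
  rw [gU_inv_coe]
  have h1 := natDegree_pf_le a i
  have h2 := natDegree_pf_le b i
  have h3 := natDegree_corner_le a b i
  fin_cases k <;> fin_cases l <;> simp <;> omega

theorem bd_lift (a b : K) (L : List (ℕ × Bool)) :
    ∀ k l, natDegree ((FreeGroup.lift (gU a b) (FreeGroup.mk L)).1 k l) ≤ wdeg L := by
  induction L with
  | nil =>
    intro k l
    rw [FreeGroup.lift_mk]
    simp only [List.map_nil, List.prod_nil, Matrix.SpecialLinearGroup.coe_one, wdeg, List.sum_nil,
      Nat.le_zero]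
    by_cases h : k = l
    · subst h; simp
    · simp [Matrix.one_apply_ne h]
  | cons s L ih =>
    rw [FreeGroup.lift_mk] at ih ⊢
    rw [List.map_cons, List.prod_cons]
    obtain ⟨i, b'⟩ := s
    have hw : wdeg ((i, b') :: L) = 2 * (i + 1) + wdeg L := by simp [wdeg]
    rw [hw]
    cases b'
    · simp only [cond_false, Matrix.SpecialLinearGroup.coe_mul]
      exact bd_mul (bd_gU_inv a b i) ih
    · simp only [cond_true, Matrix.SpecialLinearGroup.coe_mul]
      exact bd_mul (bd_gU a b i) ih

/-- **Core**: the `(1,0)` entry of the value of a nontrivial word at the generic matrices is a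
nonzero polynomial of degree at most `wdeg`. -/
theorem core_poly {a b : K} (ha : a ≠ 0) (hb : b ≠ 0) (w : FreeGroup ℕ) (hw : w ≠ 1) :
    (FreeGroup.lift (gU a b) w).1 1 0 ≠ 0 ∧
      natDegree ((FreeGroup.lift (gU a b) w).1 1 0) ≤ wdeg w.toWord := by
  have hne : w.toWord ≠ [] := fun h => hw (FreeGroup.toWord_eq_nil_iff.mp h)
  have hred : FreeGroup.IsReduced w.toWord := FreeGroup.isReduced_toWord
  have hmk : FreeGroup.mk w.toWord = w := FreeGroup.mk_toWord
  constructor
  · have h1 := colW_snd_ne (f := pf a) (g := pf b) (degree_pf_pos ha) (degree_pf_pos hb)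
      (degree_pf_sub_pos ha) (degree_pf_sub_pos hb) w.toWord hred hne
    rw [← col_lift a b, hmk] at h1
    exact h1
  · have := bd_lift a b w.toWord 1 0
    rwa [hmk] at this

/-! ### evaluation -/

/-- evaluation at `t` as a group homomorphism `SL₂(K[X]) → SL₂(K)`. -/
noncomputable def evalSL (t : K) : Matrix.SpecialLinearGroup (Fin 2) K[X] →* Matrix.SpecialLinearGroup (Fin 2) K :=
  Matrix.SpecialLinearGroup.map (evalRingHom t)

theorem evalSL_apply (t : K) (M : Matrix.SpecialLinearGroup (Fin 2) K[X]) (i j : Fin 2) :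
    (evalSL t M).1 i j = eval t (M.1 i j) := by
  rw [evalSL, Matrix.SpecialLinearGroup.map_apply_coe]
  simp

theorem evalSL_upper (t : K) (p : K[X]) : evalSL t (upper p) = upper (eval t p) := by
  ext i j
  rw [evalSL_apply]
  fin_cases i <;> fin_cases j <;> simp [upper]

theorem evalSL_lower (t : K) (p : K[X]) : evalSL t (lower p) = lower (eval t p) := by
  ext i j
  rw [evalSL_apply]
  fin_cases i <;> fin_cases j <;> simp [lower]

/-- the specialised matrices. -/
def sU (a b t : K) (i : ℕ) : Matrix.SpecialLinearGroup (Fin 2) K :=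
  upper (a * t ^ (i + 1)) * lower (b * t ^ (i + 1))

theorem evalSL_gU (a b t : K) (i : ℕ) : evalSL t (gU a b i) = sU a b t i := by
  simp [gU, sU, map_mul, evalSL_upper, evalSL_lower, pf]

theorem evalSL_lift (a b t : K) (w : FreeGroup ℕ) :
    evalSL t (FreeGroup.lift (gU a b) w) = FreeGroup.lift (sU a b t) w := by
  have : (evalSL t).comp (FreeGroup.lift (gU a b)) = FreeGroup.lift (sU a b t) := by
    ext i
    simp [evalSL_gU]
  rw [← this]
  rfl

theorem not_commute_upper {M : Matrix.SpecialLinearGroup (Fin 2) K} (hM : M.1 1 0 ≠ 0) {x : K}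
    (hx : x ≠ 0) : ¬ Commute M (upper x) := by
  intro h
  have h1 := congrArg (fun N : Matrix.SpecialLinearGroup (Fin 2) K => N.1 0 0) h.eq
  simp only [Matrix.SpecialLinearGroup.coe_mul, Matrix.mul_apply, Fin.sum_univ_two] at h1
  simp [upper] at h1
  rcases h1 with h1 | h1
  · exact hx h1
  · exact hM h1

/-- **Core, evaluated**: for a finite set `S` with more than `wdeg w` elements some `t ∈ S` makes
the value of `w` at `sU a b t` not commute with `upper a`. -/
theorem exists_eval {a b : K} (ha : a ≠ 0) (hb : b ≠ 0) (w : FreeGroup ℕ) (hw : w ≠ 1)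
    (S : Finset K) (hS : wdeg w.toWord < S.card) :
    ∃ t ∈ S, ¬ Commute (FreeGroup.lift (sU a b t) w) (upper a) := by
  classical
  obtain ⟨h0, hdeg⟩ := core_poly ha hb w hw
  set c := (FreeGroup.lift (gU a b) w).1 1 0 with hc
  have hroots : ¬ S ⊆ c.roots.toFinset := by
    intro hsub
    have h1 : S.card ≤ c.roots.toFinset.card := Finset.card_le_card hsub
    have h2 : c.roots.toFinset.card ≤ Multiset.card c.roots := Multiset.toFinset_card_le _
    have h3 : Multiset.card c.roots ≤ natDegree c := card_roots' c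
    omega
  obtain ⟨t, htS, htr⟩ := Finset.not_subset.mp hroots
  refine ⟨t, htS, ?_⟩
  have hev : eval t c ≠ 0 := by
    intro h
    apply htr
    rw [Multiset.mem_toFinset, mem_roots h0]
    exact h
  apply not_commute_upper _ ha
  rw [← evalSL_lift, evalSL_apply]
  exact hev

end Cfsg.Agent.Lib.Helper2.Law
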