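import Cfsg.Agent.Lib.Helper2.LawCore2

/-!
# S2355 core 3: the refutation framework

`Refutes w H`: the word `w` has a value on elements of `H` which does not commute with some
element of `H`.  If `w` is a law of `G ⧸ center G` then `Refutes w ⊤` is impossible; refutations
are transported along injective homomorphisms.
-/

set_option autoImplicit false

namespace Cfsg.Agent.Lib.Helper2.Law

variable {G : Type*} [Group G] {G' : Type*} [Group G']

/-- `w` is refuted inside the subgroup `H`. -/
def Refutes (w : FreeGroup ℕ) (H : Subgroup G) : Prop :=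
  ∃ f : ℕ → G, (∀ i, f i ∈ H) ∧ ∃ y ∈ H, ¬ Commute (FreeGroup.lift f w) y

theorem lift_comp (φ : G →* G') (f : ℕ → G) (w : FreeGroup ℕ) :
    φ (FreeGroup.lift f w) = FreeGroup.lift (φ ∘ f) w := by
  have : φ.comp (FreeGroup.lift f) = FreeGroup.lift (φ ∘ f) := by
    ext i
    simp
  rw [← this]
  rfl

theorem Refutes.mono {w : FreeGroup ℕ} {H H' : Subgroup G} (h : H ≤ H') (hr : Refutes w H) :
    Refutes w H' := by
  obtain ⟨f, hf, y, hy, hc⟩ := hr
  exact ⟨f, fun i => h (hf i), y, h hy, hc⟩

theorem Refutes.map {w : FreeGroup ℕ} {H : Subgroup G} (φ : G →* G')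
    (hφ : Function.Injective φ) (hr : Refutes w H) : Refutes w (H.map φ) := by
  obtain ⟨f, hf, y, hy, hc⟩ := hr
  refine ⟨φ ∘ f, fun i => Subgroup.mem_map_of_mem φ (hf i), φ y, Subgroup.mem_map_of_mem φ hy, ?_⟩
  intro h
  apply hc
  rw [← lift_comp] at h
  have h1 : φ (FreeGroup.lift f w * y) = φ (y * FreeGroup.lift f w) := by
    rw [map_mul, map_mul]
    exact h.eq
  exact hφ h1

/-- refutations inside the range of an injective (indeed any) homomorphism can be pulled back. -/
theorem Refutes.comap {w : FreeGroup ℕ} (φ : G →* G') {H' : Subgroup G'} (hle : H' ≤ φ.range)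
    (hr : Refutes w H') : Refutes w (H'.comap φ) := by
  obtain ⟨f, hf, y, hy, hc⟩ := hr
  choose f' hf' using fun i => hle (hf i)
  obtain ⟨y', hy'⟩ := hle hy
  refine ⟨f', fun i => ?_, y', ?_, ?_⟩
  · rw [Subgroup.mem_comap, hf']
    exact hf i
  · rw [Subgroup.mem_comap, hy']
    exact hy
  · intro h
    apply hc
    have h1 : φ ∘ f' = f := funext hf'
    have h2 := congrArg φ h.eq
    rw [map_mul, map_mul, lift_comp, h1, hy'] at h2
    exact h2

theorem Refutes.to_top_subtype {w : FreeGroup ℕ} {H : Subgroup G} (hr : Refutes w H) :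
    Refutes w (⊤ : Subgroup ↥H) := by
  have h1 : Refutes w (H.comap H.subtype) := by
    apply Refutes.comap H.subtype _ hr
    rw [Subgroup.range_subtype]
  exact h1.mono le_top

theorem Refutes.of_map_subtype {w : FreeGroup ℕ} {H : Subgroup G} {K : Subgroup ↥H}
    (hr : Refutes w (K.map H.subtype)) : Refutes w K := by
  have h1 : Refutes w ((K.map H.subtype).comap H.subtype) := by
    apply Refutes.comap H.subtype _ hr
    rw [Subgroup.range_subtype]
    exact Subgroup.map_subtype_le K
  rwa [Subgroup.comap_map_eq_self_of_injective (Subgroup.subtype_injective H)] at h1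

/-- a law of the central quotient cannot be refuted. -/
theorem not_refutes_of_law {w : FreeGroup ℕ} {Q : Type*} [Group Q]
    (e : Q ≃* G ⧸ Subgroup.center G) (hlaw : ∀ f : ℕ → Q, FreeGroup.lift f w = 1) :
    ¬ Refutes w (⊤ : Subgroup G) := by
  rintro ⟨f, -, y, -, hc⟩
  apply hc
  have h1 : QuotientGroup.mk' (Subgroup.center G) (FreeGroup.lift f w) = 1 := by
    rw [lift_comp]
    have h2 := hlaw (fun i => e.symm (QuotientGroup.mk' (Subgroup.center G) (f i)))
    have h3 := congrArg e h2
    rw [map_one] at h3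
    have h4 := lift_comp e.toMonoidHom
      (fun i => e.symm (QuotientGroup.mk' (Subgroup.center G) (f i))) w
    simp only [MulEquiv.coe_toMonoidHom] at h4
    rw [h4] at h3
    have h5 : (⇑e ∘ fun i => e.symm (QuotientGroup.mk' (Subgroup.center G) (f i))) =
        (⇑(QuotientGroup.mk' (Subgroup.center G)) ∘ f) := by
      funext i
      simp
    rw [h5] at h3
    exact h3
  have h2 : FreeGroup.lift f w ∈ Subgroup.center G := by
    rw [← QuotientGroup.ker_mk' (Subgroup.center G)]
    exact h1
  exact (Subgroup.mem_center_iff.mp h2 y).symm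

end Cfsg.Agent.Lib.Helper2.Law
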