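import Cfsg.Agent.Lib.Helper2.LawCore3

/-!
# S2355 core 4: basic injective homomorphisms into `SL_k(F)`

* `embSL2 hk : SL₂(F) →* SL_k(F)` (block embedding, `2 ≤ k`);
* `permSL : alternatingGroup (Fin k) →* SL_k(F)` (permutation matrices).
-/

set_option autoImplicit false

namespace Cfsg.Agent.Lib.Helper2.Law

variable {R : Type*} [CommRing R]

/-- reindexing `SL`. -/
noncomputable def slReindex {m n : Type*} [Fintype m] [DecidableEq m] [Fintype n] [DecidableEq n]
    (e : m ≃ n) : Matrix.SpecialLinearGroup m R →* Matrix.SpecialLinearGroup n R where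
  toFun A := ⟨Matrix.reindexAlgEquiv R R e A.1, by
    rw [Matrix.det_reindexAlgEquiv]; exact A.2⟩
  map_one' := by
    apply Subtype.ext
    simp
  map_mul' A B := by
    apply Subtype.ext
    change Matrix.reindexAlgEquiv R R e (A.1 * B.1) =
      Matrix.reindexAlgEquiv R R e A.1 * Matrix.reindexAlgEquiv R R e B.1
    rw [map_mul]

theorem slReindex_injective {m n : Type*} [Fintype m] [DecidableEq m] [Fintype n] [DecidableEq n]
    (e : m ≃ n) : Function.Injective (slReindex (R := R) e) := by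
  intro A B h
  apply Subtype.ext
  have h1 := congrArg Subtype.val h
  exact (Matrix.reindexAlgEquiv R R e).injective h1

/-- block embedding `A ↦ [[A, 0], [0, 1]]`. -/
def blockSL (r : Type*) [Fintype r] [DecidableEq r] :
    Matrix.SpecialLinearGroup (Fin 2) R →* Matrix.SpecialLinearGroup (Fin 2 ⊕ r) R where
  toFun A := ⟨Matrix.fromBlocks A.1 0 0 1, by
    rw [Matrix.det_fromBlocks_zero₂₁, Matrix.det_one, mul_one]; exact A.2⟩
  map_one' := by
    apply Subtype.ext
    simp [Matrix.fromBlocks_one]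
  map_mul' A B := by
    apply Subtype.ext
    change Matrix.fromBlocks (A.1 * B.1) 0 0 1 =
      Matrix.fromBlocks A.1 0 0 1 * Matrix.fromBlocks B.1 0 0 1
    rw [Matrix.fromBlocks_multiply]
    simp

theorem blockSL_injective (r : Type*) [Fintype r] [DecidableEq r] :
    Function.Injective (blockSL (R := R) r) := by
  intro A B h
  apply Subtype.ext
  have h1 := congrArg Subtype.val h
  exact (Matrix.fromBlocks_inj.mp h1).1

/-- the equivalence `Fin 2 ⊕ Fin (k - 2) ≃ Fin k`. -/
def finTwoSum {k : ℕ} (hk : 2 ≤ k) : Fin 2 ⊕ Fin (k - 2) ≃ Fin k :=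
  finSumFinEquiv.trans (finCongr (by omega))

/-- `SL₂ → SL_k`. -/
noncomputable def embSL2 {k : ℕ} (hk : 2 ≤ k) :
    Matrix.SpecialLinearGroup (Fin 2) R →* Matrix.SpecialLinearGroup (Fin k) R :=
  (slReindex (finTwoSum hk)).comp (blockSL (Fin (k - 2)))

theorem embSL2_injective {k : ℕ} (hk : 2 ≤ k) : Function.Injective (embSL2 (R := R) hk) := by
  intro A B h
  exact blockSL_injective _ (slReindex_injective _ h)

/-- even permutation matrices. -/
noncomputable def permSL (k : ℕ) :
    ↥(alternatingGroup (Fin k)) →* Matrix.SpecialLinearGroup (Fin k) R where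
  toFun σ := ⟨Matrix.permMatrixHom (R := R) σ.1, by
    rw [Matrix.permMatrixHom_apply, Matrix.det_permutation]
    have := σ.2
    rw [Equiv.Perm.mem_alternatingGroup] at this
    rw [Equiv.Perm.sign_inv, this]
    simp⟩
  map_one' := by
    apply Subtype.ext
    simp
  map_mul' σ τ := by
    apply Subtype.ext
    change Matrix.permMatrixHom (R := R) (σ.1 * τ.1) =
      Matrix.permMatrixHom (R := R) σ.1 * Matrix.permMatrixHom (R := R) τ.1
    rw [map_mul]

theorem permSL_coe (k : ℕ) (σ : ↥(alternatingGroup (Fin k))) :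
    (permSL (R := R) k σ).1 = (σ.1⁻¹).permMatrix R := rfl

theorem permSL_mulVec (k : ℕ) (σ : ↥(alternatingGroup (Fin k))) (v : Fin k → R) :
    (permSL (R := R) k σ).1.mulVec v = v ∘ (σ.1⁻¹ : Equiv.Perm (Fin k)) := by
  rw [permSL_coe, Matrix.permMatrix_mulVec]

theorem permSL_injective [Nontrivial R] (k : ℕ) : Function.Injective (permSL (R := R) k) := by
  intro σ τ h
  apply Subtype.ext
  have h1 : ∀ v : Fin k → R, v ∘ (σ.1⁻¹ : Equiv.Perm (Fin k)) = v ∘ (τ.1⁻¹ : Equiv.Perm (Fin k)) := by
    intro v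
    rw [← permSL_mulVec, ← permSL_mulVec, h]
  have h2 : (σ.1⁻¹ : Equiv.Perm (Fin k)) = τ.1⁻¹ := by
    ext i
    by_contra hne
    have hne' : (σ.1⁻¹ : Equiv.Perm (Fin k)) i ≠ (τ.1⁻¹ : Equiv.Perm (Fin k)) i := fun h => hne (by rw [h])
    have := congrFun (h1 (Pi.single ((σ.1⁻¹ : Equiv.Perm (Fin k)) i) 1)) i
    simp only [Function.comp_apply, Pi.single_eq_same] at this
    rw [Pi.single_eq_of_ne (Ne.symm hne')] at this
    exact one_ne_zero this
  exact inv_injective h2

end Cfsg.Agent.Lib.Helper2.Law
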