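import Cfsg.Agent.Lib.Helper2.LawCore4

/-!
# S2355 core 5: the sources of refutations

* `sl2_refutes`: `SL₂(F)` for a finite field with more than `wdeg` elements;
* `alt_refutes`: `alternatingGroup (Fin k)` for `k ≥ altBound w`;
* `sl_refutes_rank`, `sl_refutes_field`: `SL_k(F)`.
-/

set_option autoImplicit false

namespace Cfsg.Agent.Lib.Helper2.Law

/-- `SL₂(F)` refutes `w` when `F` is a finite field with more than `wdeg w` elements. -/
theorem sl2_refutes (F : Type*) [Field F] [Fintype F] (w : FreeGroup ℕ) (hw : w ≠ 1)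
    (hF : wdeg w.toWord < Fintype.card F) :
    Refutes w (⊤ : Subgroup (Matrix.SpecialLinearGroup (Fin 2) F)) := by
  classical
  obtain ⟨t, -, ht⟩ := exists_eval (K := F) (a := 1) (b := 1) one_ne_zero one_ne_zero w hw
    Finset.univ (by rwa [Finset.card_univ])
  exact ⟨sU 1 1 t, fun _ => Subgroup.mem_top _, upper 1, Subgroup.mem_top _, ht⟩

/-! ### Cayley into an alternating group -/

section cayley

variable {H : Type*} [Group H] [Fintype H] [DecidableEq H]

/-- `σ ↦ σ ⊕ σ`. -/
def dblHom : Equiv.Perm H →* Equiv.Perm (H ⊕ H) :=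
  (Equiv.Perm.sumCongrHom H H).comp ((MonoidHom.id _).prod (MonoidHom.id _))

theorem dblHom_injective : Function.Injective (dblHom (H := H)) := by
  intro σ τ h
  have := Equiv.Perm.sumCongrHom_injective h
  simpa using congrArg Prod.fst this

theorem sign_dblHom (σ : Equiv.Perm H) : Equiv.Perm.sign (dblHom σ) = 1 := by
  change Equiv.Perm.sign (Equiv.Perm.sumCongr σ σ) = 1
  rw [Equiv.Perm.sign_sumCongr]
  exact Int.units_mul_self _

end cayley

/-- a finite group embeds into `alternatingGroup (Fin k)` for `k ≥ 2 |H|`. -/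
theorem exists_embed_alt (H : Type*) [Group H] [Finite H] (k : ℕ) (hk : 2 * Nat.card H ≤ k) :
    ∃ φ : H →* ↥(alternatingGroup (Fin k)), Function.Injective φ := by
  classical
  haveI : Fintype H := Fintype.ofFinite H
  have hcard : Fintype.card (H ⊕ H) ≤ Fintype.card (Fin k) := by
    rw [Fintype.card_sum, Fintype.card_fin, ← Nat.card_eq_fintype_card]
    omega
  obtain ⟨ι⟩ := Function.Embedding.nonempty_of_card_le hcard
  let f : (H ⊕ H) ≃ {x : Fin k // x ∈ Set.range ι} := Equiv.ofInjective ι ι.injective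
  let ψ : H →* Equiv.Perm (Fin k) :=
    (Equiv.Perm.extendDomainHom f).comp (dblHom.comp (MulAction.toPermHom H H))
  have hψ : Function.Injective ψ := by
    intro a b hab
    have h1 := Equiv.Perm.extendDomainHom_injective f hab
    have h2 := dblHom_injective h1
    exact MulAction.toPerm_injective h2
  have hsign : ∀ h : H, ψ h ∈ alternatingGroup (Fin k) := by
    intro h
    rw [Equiv.Perm.mem_alternatingGroup]
    change Equiv.Perm.sign (Equiv.Perm.extendDomain (dblHom (MulAction.toPermHom H H h)) f) = 1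
    rw [Equiv.Perm.sign_extendDomain, sign_dblHom]
  refine ⟨ψ.codRestrict (alternatingGroup (Fin k)) hsign, ?_⟩
  intro a b hab
  apply hψ
  have := congrArg Subtype.val hab
  simpa using this

/-- a prime larger than `wdeg w`. -/
noncomputable def lawPrime (w : FreeGroup ℕ) : ℕ :=
  Classical.choose (Nat.exists_infinite_primes (wdeg w.toWord + 1))

theorem lawPrime_prime (w : FreeGroup ℕ) : (lawPrime w).Prime :=
  (Classical.choose_spec (Nat.exists_infinite_primes (wdeg w.toWord + 1))).2

theorem lawPrime_gt (w : FreeGroup ℕ) : wdeg w.toWord < lawPrime w :=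
  (Classical.choose_spec (Nat.exists_infinite_primes (wdeg w.toWord + 1))).1

instance lawPrime_fact (w : FreeGroup ℕ) : Fact (lawPrime w).Prime := ⟨lawPrime_prime w⟩

/-- the rank bound. -/
noncomputable def altBound (w : FreeGroup ℕ) : ℕ :=
  2 * Nat.card (Matrix.SpecialLinearGroup (Fin 2) (ZMod (lawPrime w)))

/-- `alternatingGroup (Fin k)` refutes `w` for `k ≥ altBound w`. -/
theorem alt_refutes (w : FreeGroup ℕ) (hw : w ≠ 1) (k : ℕ) (hk : altBound w ≤ k) :
    Refutes w (⊤ : Subgroup ↥(alternatingGroup (Fin k))) := by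
  have h1 : Refutes w (⊤ : Subgroup (Matrix.SpecialLinearGroup (Fin 2) (ZMod (lawPrime w)))) := by
    apply sl2_refutes _ w hw
    rw [ZMod.card]
    exact lawPrime_gt w
  obtain ⟨φ, hφ⟩ := exists_embed_alt
    (Matrix.SpecialLinearGroup (Fin 2) (ZMod (lawPrime w))) k hk
  exact (h1.map φ hφ).mono le_top

/-- `SL_k(F)` refutes `w` for `k ≥ altBound w`. -/
theorem sl_refutes_rank (F : Type*) [Field F] (w : FreeGroup ℕ) (hw : w ≠ 1) (k : ℕ)
    (hk : altBound w ≤ k) :
    Refutes w (⊤ : Subgroup (Matrix.SpecialLinearGroup (Fin k) F)) :=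
  ((alt_refutes w hw k hk).map (permSL k) (permSL_injective k)).mono le_top

/-- `SL_k(F)`, `k ≥ 2`, refutes `w` when `F` has more than `wdeg w` elements. -/
theorem sl_refutes_field (F : Type*) [Field F] [Fintype F] (w : FreeGroup ℕ) (hw : w ≠ 1)
    (k : ℕ) (hk : 2 ≤ k) (hF : wdeg w.toWord < Fintype.card F) :
    Refutes w (⊤ : Subgroup (Matrix.SpecialLinearGroup (Fin k) F)) :=
  ((sl2_refutes F w hw hF).map (embSL2 hk) (embSL2_injective hk)).mono le_top

end Cfsg.Agent.Lib.Helper2.Law
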