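import Cfsg.Agent.Lib.Helper2.LawCore5
import Cfsg.Agent.Lib.Helper1.SLn
import Cfsg.Prelude.Def_Classical

/-!
# S2355 core 6: refutations in the classical groups, from an injective homomorphism out of `GL_k`
-/

set_option autoImplicit false

namespace Cfsg.Agent.Lib.Helper2.Law

/-- a law of (a group isomorphic to) `G` cannot be refuted. -/
theorem not_refutes_of_law' {G : Type*} [Group G] {w : FreeGroup ℕ} {Q : Type*} [Group Q]
    (e : Q ≃* G) (hlaw : ∀ f : ℕ → Q, FreeGroup.lift f w = 1) :
    ¬ Refutes w (⊤ : Subgroup G) := by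
  rintro ⟨f, -, y, -, hc⟩
  apply hc
  have h2 := hlaw (fun i => e.symm (f i))
  have h3 := congrArg e h2
  rw [map_one] at h3
  have h4 := lift_comp e.toMonoidHom (fun i => e.symm (f i)) w
  simp only [MulEquiv.coe_toMonoidHom] at h4
  rw [h4] at h3
  have h5 : (⇑e ∘ fun i => e.symm (f i)) = f := by
    funext i
    simp
  rw [h5] at h3
  rw [h3]
  exact Commute.one_left y

/-- from `SL_k` to any group receiving `GL_k` injectively. -/
theorem refutes_of_gl_embed {F : Type*} [Field F] {w : FreeGroup ℕ} {k : ℕ} {A : Type*} [Group A]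
    (φ : Matrix.GeneralLinearGroup (Fin k) F →* A) (hφ : Function.Injective φ)
    (h : Refutes w (⊤ : Subgroup (Matrix.SpecialLinearGroup (Fin k) F))) :
    Refutes w (⊤ : Subgroup A) :=
  (h.map (φ.comp Matrix.SpecialLinearGroup.toGL)
    (hφ.comp Matrix.SpecialLinearGroup.toGL_injective)).mono le_top

/-- from `SL_k`, `k ≥ 3`, to the commutator subgroup of any group receiving `GL_k` injectively. -/
theorem refutes_commutator_of_gl_embed {F : Type*} [Field F] {w : FreeGroup ℕ} {k : ℕ}
    (hk : 3 ≤ k) {A : Type*} [Group A]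
    (φ : Matrix.GeneralLinearGroup (Fin k) F →* A) (hφ : Function.Injective φ)
    (h : Refutes w (⊤ : Subgroup (Matrix.SpecialLinearGroup (Fin k) F))) :
    Refutes w (⊤ : Subgroup ↥(commutator A)) := by
  apply Refutes.to_top_subtype
  set ψ := φ.comp (Matrix.SpecialLinearGroup.toGL (n := Fin k) (R := F)) with hψ
  have hinj : Function.Injective ψ := hφ.comp Matrix.SpecialLinearGroup.toGL_injective
  refine (h.map ψ hinj).mono ?_
  have hperf := Cfsg.Agent.Lib.Helper1.commutator_SL_eq_top (F := F) k hk
  rw [← hperf, commutator_def, Subgroup.map_commutator, commutator_def]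
  exact Subgroup.commutator_mono le_top le_top

end Cfsg.Agent.Lib.Helper2.Law
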