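import Cfsg.Agent.Lib.Helper2.LawCore6

/-!
# S2355 core 7: the unitary groups, field growth
-/

set_option autoImplicit false

namespace Cfsg.Agent.Lib.Helper2.Law

open Finset

/-- in a finite field with `q ^ 2` elements at least `q` elements satisfy `x ^ q = x`. -/
theorem card_fixed_ge {F : Type*} [Field F] [Fintype F] [DecidableEq F] (q : ℕ)
    (hF : Fintype.card F = q ^ 2) :
    q ≤ (Finset.univ.filter (fun x : F => x ^ q = x)).card := by
  classical
  have hq2 : 2 ≤ q := by
    have h1 : 1 < Fintype.card F := Fintype.one_lt_card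
    rw [hF] at h1
    by_contra hlt
    have : q ≤ 1 := by omega
    have : q ^ 2 ≤ 1 ^ 2 := Nat.pow_le_pow_left this 2
    omega
  -- the kernel of `x ↦ x ^ (q - 1)` on the units
  let ψ : Fˣ →* Fˣ := powMonoidHom (q - 1)
  have hcardU : Nat.card Fˣ = (q - 1) * (q + 1) := by
    rw [Nat.card_eq_fintype_card, Fintype.card_units, hF]
    have : q ^ 2 = (q - 1) * (q + 1) + 1 := by
      obtain ⟨r, rfl⟩ : ∃ r, q = r + 1 := ⟨q - 1, by omega⟩
      simp only [Nat.add_sub_cancel]
      ring
    omega
  have hker : Nat.card ψ.ker * Nat.card ψ.range = (q - 1) * (q + 1) := by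
    rw [← hcardU, ← Subgroup.index_ker]
    exact Subgroup.card_mul_index _
  have hrange : Nat.card ψ.range ≤ q + 1 := by
    have h1 : Nat.card ψ.range ≤ (Finset.univ.filter (fun a : Fˣ => a ^ (q + 1) = 1)).card := by
      rw [Nat.card_eq_fintype_card, ← Fintype.card_subtype]
      apply Fintype.card_le_of_injective
        (fun y : ψ.range => (⟨y.1, by
          obtain ⟨x, hx⟩ := y.2
          rw [← hx]
          change (x ^ (q - 1)) ^ (q + 1) = 1
          rw [← pow_mul]
          have : (q - 1) * (q + 1) = Fintype.card Fˣ := by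
            rw [← Nat.card_eq_fintype_card, hcardU]
          rw [this]
          exact pow_card_eq_one⟩ : {a : Fˣ // a ^ (q + 1) = 1}))
      intro a b hab
      apply Subtype.ext
      simpa using congrArg Subtype.val hab
    refine le_trans h1 ?_
    have := IsCyclic.card_pow_eq_one_le (α := Fˣ) (n := q + 1) (Nat.succ_pos q)
    convert this
  have hrpos : 0 < Nat.card ψ.range := Nat.card_pos
  have hkerge : q - 1 ≤ Nat.card ψ.ker := by
    by_contra hlt
    push_neg at hlt
    have : Nat.card ψ.ker * Nat.card ψ.range < (q - 1) * (q + 1) := by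
      calc Nat.card ψ.ker * Nat.card ψ.range ≤ Nat.card ψ.ker * (q + 1) :=
            Nat.mul_le_mul_left _ hrange
        _ < (q - 1) * (q + 1) := Nat.mul_lt_mul_of_pos_right hlt (Nat.succ_pos q)
    omega
  -- inject `ker ψ ⊕ Unit`
  have hinj : Nat.card ψ.ker + 1 ≤ (Finset.univ.filter (fun x : F => x ^ q = x)).card := by
    rw [Nat.card_eq_fintype_card, ← Fintype.card_unit, ← Fintype.card_sum,
      ← Fintype.card_subtype]
    apply Fintype.card_le_of_injective
      (fun s : ψ.ker ⊕ Unit => (Sum.elim
        (fun x : ψ.ker => (⟨((x.1 : Fˣ) : F), by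
          have hx : (x.1 : Fˣ) ^ (q - 1) = 1 := x.2
          have hx' : ((x.1 : Fˣ) : F) ^ (q - 1) = 1 := by
            have := congrArg (fun u : Fˣ => (u : F)) hx
            simpa using this
          have : q = (q - 1) + 1 := by omega
          rw [this, pow_succ, hx', one_mul]⟩ : {x : F // x ^ q = x}))
        (fun _ => (⟨0, by
          rw [zero_pow (by omega)]⟩ : {x : F // x ^ q = x})) s))
    intro a b hab
    rcases a with a | a <;> rcases b with b | b
    · simp only [Sum.elim_inl, Subtype.mk.injEq] at hab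
      have : a.1 = b.1 := Units.ext hab
      rw [Subtype.ext this]
    · simp only [Sum.elim_inl, Sum.elim_inr, Subtype.mk.injEq] at hab
      exact absurd hab (Units.ne_zero _)
    · simp only [Sum.elim_inl, Sum.elim_inr, Subtype.mk.injEq] at hab
      exact absurd hab.symm (Units.ne_zero _)
    · rfl
  omega

/-- the unitary groups, field growth, from the package `su_root`. -/
theorem su_refutes_field {F : Type*} [Field F] [Fintype F] (n q : ℕ)
    (hF : Fintype.card F = q ^ 2) (w : FreeGroup ℕ) (hw : w ≠ 1) (hq : wdeg w.toWord < q)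
    (φ : Matrix.SpecialLinearGroup (Fin 2) F →* Matrix.SpecialLinearGroup (Fin n) F) (μ : F)
    (hφ : Function.Injective φ) (hμ : μ ≠ 0)
    (hmem : ∀ x : F, x ^ q = x →
      φ (upper (μ * x)) ∈ Cfsg.SU n F q ∧ φ (lower (μ * x)) ∈ Cfsg.SU n F q) :
    Refutes w (⊤ : Subgroup ↥(Cfsg.SU n F q)) := by
  classical
  apply Refutes.to_top_subtype
  have hS : wdeg w.toWord < (Finset.univ.filter (fun x : F => x ^ q = x)).card :=
    lt_of_lt_of_le hq (card_fixed_ge q hF)
  obtain ⟨t, htS, ht⟩ := exists_eval (K := F) hμ hμ w hw _ hS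
  have htq : t ^ q = t := (Finset.mem_filter.mp htS).2
  refine ⟨φ ∘ sU μ μ t, fun i => ?_, φ (upper μ), ?_, ?_⟩
  · have hti : (t ^ (i + 1)) ^ q = t ^ (i + 1) := by
      rw [← pow_mul, mul_comm, pow_mul, htq]
    have := hmem _ hti
    simp only [Function.comp_apply, sU, map_mul]
    exact Subgroup.mul_mem _ this.1 this.2
  · have := (hmem 1 (one_pow q)).1
    rwa [mul_one] at this
  · intro h
    apply ht
    rw [← lift_comp] at h
    have h1 : φ (FreeGroup.lift (sU μ μ t) w * upper μ) =
        φ (upper μ * FreeGroup.lift (sU μ μ t) w) := by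
      rw [map_mul, map_mul]
      exact h.eq
    exact hφ h1

end Cfsg.Agent.Lib.Helper2.Law
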