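import Cfsg.Agent.Lib.Helper2.LawCore7

/-!
# S2355 core 8: cardinality bounds
-/

set_option autoImplicit false

namespace Cfsg.Agent.Lib.Helper2.Law

/-- a type injecting into square matrices over a finite field. -/
theorem card_le_of_inj_matrix {ι : Type*} [Fintype ι] [DecidableEq ι] {F : Type*} [Field F]
    [Fintype F] {X : Type*} (f : X → Matrix ι ι F) (hf : Function.Injective f) :
    Nat.card X ≤ Fintype.card F ^ (Fintype.card ι * Fintype.card ι) := by
  classical
  have h1 : Nat.card X ≤ Nat.card (Matrix ι ι F) := Nat.card_le_card_of_injective f hf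
  have h2 : Nat.card (Matrix ι ι F) = Fintype.card F ^ (Fintype.card ι * Fintype.card ι) := by
    rw [Nat.card_eq_fintype_card]
    change Fintype.card (ι → ι → F) = _
    rw [Fintype.card_fun, Fintype.card_fun, ← pow_mul]
  rw [h2] at h1
  exact h1

/-- a quotient of such a type. -/
theorem card_quot_le {ι : Type*} [Fintype ι] [DecidableEq ι] {F : Type*} [Field F]
    [Fintype F] {X : Type*} [Group X] (N : Subgroup X) [N.Normal]
    (f : X → Matrix ι ι F) (hf : Function.Injective f) :
    Nat.card (X ⧸ N) ≤ Fintype.card F ^ (Fintype.card ι * Fintype.card ι) := by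
  classical
  have : Finite X := Finite.of_injective f hf
  refine le_trans ?_ (card_le_of_inj_matrix f hf)
  exact Nat.card_le_card_of_surjective (QuotientGroup.mk' N) (QuotientGroup.mk'_surjective N)

/-- the final numeric bound. -/
theorem pow_bound {c d B M : ℕ} (hc : c ≤ B) (hB : 1 ≤ B) (hd : d ≤ 2 * M + 2) :
    c ^ (d * d) ≤ B ^ ((2 * M + 2) * (2 * M + 2)) :=
  le_trans (Nat.pow_le_pow_left hc _) (Nat.pow_le_pow_right hB (Nat.mul_le_mul hd hd))

/-- the order of `PΩ(Q)`. -/
theorem card_pomega_le {ι : Type} [Fintype ι] [DecidableEq ι] (F : Type*) [Field F] [Fintype F]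
    (Q : (ι → F) → F) :
    Nat.card (Cfsg.POmega F Q) ≤ Fintype.card F ^ (Fintype.card ι * Fintype.card ι) := by
  apply card_quot_le (Subgroup.center ↥(Cfsg.Omega F Q))
    (fun A : ↥(Cfsg.Omega F Q) => ((A.1.1 : Matrix.GeneralLinearGroup ι F) : Matrix ι ι F))
  intro A B h
  exact Subtype.ext (Subtype.ext (Units.ext h))

end Cfsg.Agent.Lib.Helper2.Law
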