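import Mathlib

set_option autoImplicit false

namespace Cfsg.Agent.Lib.Helper2.M16

section mod
variable {S : Type*} [Group S] {M : Type*} [AddCommGroup M] [Module (ZMod 2) M]
  (ρ : Representation (ZMod 2) S M)

theorem rmul (g h : S) (m : M) : ρ (g * h) m = ρ g (ρ h m) := by
  rw [map_mul]; rfl

theorem rone (m : M) : ρ 1 m = m := by
  rw [map_one]; rfl

theorem rinv (g : S) (m : M) : ρ g⁻¹ (ρ g m) = m := by
  rw [← rmul, inv_mul_cancel, rone]

theorem rinv' (g : S) (m : M) : ρ g (ρ g⁻¹ m) = m := by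
  rw [← rmul, mul_inv_cancel, rone]

theorem add_self2 (m : M) : m + m = 0 := by
  have h : (2 : ZMod 2) = 0 := by decide
  rw [← two_smul (ZMod 2) m, h, zero_smul]

theorem eq_of_add_eq_zero {m n : M} (h : m + n = 0) : n = m :=
  (add_left_cancel (h.trans (add_self2 m).symm))

/-- if `g * c = c' * g` and `c` fixes `m` then `c'` fixes `g m` -/
theorem fix_of_comm {g c c' : S} (h : g * c = c' * g) {m : M} (hm : ρ c m = m) :
    ρ c' (ρ g m) = ρ g m := by
  rw [← rmul, ← h, rmul, hm]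

theorem fix_inv {c : S} {m : M} (hm : ρ c m = m) : ρ c⁻¹ m = m := by
  conv_lhs => rw [← hm]
  exact rinv ρ c m

theorem fix_of_inv {c : S} {m : M} (hm : ρ c⁻¹ m = m) : ρ c m = m := by
  have := fix_inv ρ hm
  rwa [inv_inv] at this

theorem invol_apply {t : S} (ht : t * t = 1) (m : M) : ρ t (ρ t m) = m := by
  rw [← rmul, ht, rone]

theorem cube_apply {c : S} (hc : c ^ 3 = 1) (m : M) : ρ c (ρ c (ρ c m)) = m := by
  have h : c ^ 3 = c * c * c := by rw [pow_succ, pow_two]
  rw [← rmul, ← rmul, ← h, hc, rone]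

/-- the fixed points of an element, as a submodule -/
def Fx (g : S) : Submodule (ZMod 2) M where
  carrier := {m | ρ g m = m}
  add_mem' := by
    intro a b ha hb
    show ρ g (a + b) = a + b
    rw [map_add, ha, hb]
  zero_mem' := map_zero _
  smul_mem' := by
    intro c x hx
    show ρ g (c • x) = c • x
    rw [map_smul, hx]

theorem mem_Fx {g : S} {m : M} : m ∈ Fx ρ g ↔ ρ g m = m := Iff.rfl

/-- the stabilizer of a vector -/
def stabM (m : M) : Subgroup S where
  carrier := {s | ρ s m = m}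
  mul_mem' := by
    intro a b ha hb
    show ρ (a * b) m = m
    rw [rmul, hb, ha]
  one_mem' := rone ρ m
  inv_mem' := by
    intro a ha
    exact fix_inv ρ ha

theorem mem_stabM {s : S} {m : M} : s ∈ stabM ρ m ↔ ρ s m = m := Iff.rfl

/-- the elements leaving a submodule invariant (a subgroup as `S` is finite) -/
def invSub [Finite S] (N : Submodule (ZMod 2) M) : Subgroup S where
  carrier := {s | ∀ m ∈ N, ρ s m ∈ N}
  mul_mem' := by
    intro a b ha hb m hm
    rw [rmul]
    exact ha _ (hb _ hm)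
  one_mem' := by
    intro m hm
    rw [rone]
    exact hm
  inv_mem' := by
    intro a ha m hm
    have hpow : ∀ n : ℕ, ∀ m ∈ N, ρ (a ^ n) m ∈ N := by
      intro n
      induction n with
      | zero =>
        intro m hm
        rw [pow_zero, rone]
        exact hm
      | succ n ih =>
        intro m hm
        rw [pow_succ, rmul]
        exact ih _ (ha _ hm)
    have hpos := orderOf_pos a
    have h1 : a⁻¹ = a ^ (orderOf a - 1) := by
      apply inv_eq_of_mul_eq_one_right
      rw [← pow_succ', Nat.sub_add_cancel hpos, pow_orderOf_eq_one]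
    rw [h1]
    exact hpow _ m hm

theorem inv_of_closure [Finite S] (N : Submodule (ZMod 2) M) (gens : Set S)
    (hgen : Subgroup.closure gens = ⊤) (h : ∀ g ∈ gens, ∀ m ∈ N, ρ g m ∈ N) :
    ∀ s : S, ∀ m ∈ N, ρ s m ∈ N := by
  have h1 : Subgroup.closure gens ≤ invSub ρ N := (Subgroup.closure_le _).mpr h
  intro s
  have hs : s ∈ invSub ρ N := h1 (hgen ▸ Subgroup.mem_top s)
  exact hs

theorem exists_fixed_of_invol {t : S} (ht : t * t = 1) (N : Submodule (ZMod 2) M)
    (hN : ∀ m ∈ N, ρ t m ∈ N) (hne : N ≠ ⊥) : ∃ w ∈ N, w ≠ 0 ∧ ρ t w = w := by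
  obtain ⟨w0, hw0, hw0ne⟩ := (Submodule.ne_bot_iff N).mp hne
  by_cases h : w0 + ρ t w0 = 0
  · exact ⟨w0, hw0, hw0ne, eq_of_add_eq_zero h⟩
  · refine ⟨w0 + ρ t w0, N.add_mem hw0 (hN _ hw0), h, ?_⟩
    rw [map_add, invol_apply ρ ht, add_comm]

theorem fix_T {c : S} (hc : c ^ 3 = 1) (m : M) :
    ρ c (m + ρ c m + ρ c (ρ c m)) = m + ρ c m + ρ c (ρ c m) := by
  rw [map_add, map_add, cube_apply ρ hc]
  abel

end mod

section grp
variable {S : Type*} [Group S]

theorem eq_one_of_sq_cube {x : S} (h2 : x * x = 1) (h3 : x ^ 3 = 1) : x = 1 := by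
  have h : x ^ 3 = x * x * x := by rw [pow_succ, pow_two]
  rw [h, h2, one_mul] at h3
  exact h3

theorem mem_triple [Finite S] (A : Subgroup S) (hA9 : Nat.card A = 9)
    (hA3 : ∀ a ∈ A, a ^ 3 = 1) (H : Subgroup S) (hHA : H ≤ A) (hne : H ≠ A) {d : S}
    (hd : d ∈ H) (hd1 : d ≠ 1) : ∀ e ∈ H, e = 1 ∨ e = d ∨ e = d⁻¹ := by
  have hdvd : Nat.card H ∣ 9 := hA9 ▸ Subgroup.card_dvd_of_le hHA
  have hne9 : Nat.card H ≠ 9 := by
    intro h9
    exact hne (Subgroup.eq_of_le_of_card_ge hHA (by rw [hA9, h9]))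
  have hle3 : Nat.card H ≤ 3 := by
    have hm : Nat.card H ∈ Nat.divisors 9 := Nat.mem_divisors.mpr ⟨hdvd, by norm_num⟩
    have h9 : Nat.divisors 9 = {1, 3, 9} := by decide
    rw [h9] at hm
    simp only [Finset.mem_insert, Finset.mem_singleton] at hm
    omega
  have : Fact (Nat.Prime 3) := ⟨Nat.prime_three⟩
  have hord : orderOf d = 3 := orderOf_eq_prime (hA3 d (hHA hd)) hd1
  have hz : Subgroup.zpowers d = H := by
    apply Subgroup.eq_of_le_of_card_ge ((Subgroup.zpowers_le).mpr hd)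
    rw [Nat.card_zpowers, hord]
    exact hle3
  intro e he
  rw [← hz] at he
  obtain ⟨n, rfl⟩ := Subgroup.mem_zpowers_iff.mp he
  rw [← zpow_mod_orderOf, hord]
  have h1 : 0 ≤ n % 3 := Int.emod_nonneg _ (by norm_num)
  have h2 : n % 3 < 3 := Int.emod_lt_of_pos _ (by norm_num)
  have h012 : n % 3 = 0 ∨ n % 3 = 1 ∨ n % 3 = 2 := by omega
  have hd3 := hA3 d (hHA hd)
  rcases h012 with h | h | h
  · left
    simp [h]
  · right; left
    simp [h]
  · right; right
    simp only [Nat.cast_ofNat, h]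
    apply eq_inv_of_mul_eq_one_left
    have : d ^ (2 : ℤ) * d = d ^ 3 := by group
    rw [this, hd3]

end grp

end Cfsg.Agent.Lib.Helper2.M16
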