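import Mathlib
import Cfsg.Agent.Lib.Helper2.M16a

set_option autoImplicit false

namespace Cfsg.Agent.Lib.Helper2.M16

section grp
variable {S : Type*} [Group S]

/-- `r` of order dividing 4 whose square does not centralize the elementary abelian group `A`
of order 9 inverts `A` by its square. -/
theorem inverts_of_sq [Finite S] (A : Subgroup S) [hAn : A.Normal]
    (hcomm : ∀ a ∈ A, ∀ b ∈ A, a * b = b * a) (h3 : ∀ a ∈ A, a ^ 3 = 1) (hA9 : Nat.card A = 9)
    (r : S) (hr4 : r ^ 4 = 1) (hfaith : ¬ ∀ a ∈ A, (r * r) * a = a * (r * r)) :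
    ∀ a ∈ A, (r * r) * a * (r * r)⁻¹ = a⁻¹ := by
  obtain ⟨z, hz⟩ : ∃ z, z = r * r := ⟨_, rfl⟩
  rw [← hz] at hfaith ⊢
  have hzr : z * r = r * z := by rw [hz, mul_assoc]
  have hzz : z * z = 1 := by
    have h4 : r * r * (r * r) = r ^ 4 := by simp [pow_succ, mul_assoc]
    rw [hz, h4, hr4]
  have hconjA : ∀ g : S, ∀ a ∈ A, g * a * g⁻¹ ∈ A := fun g a ha => hAn.conj_mem a ha g
  have hzzc : ∀ a : S, z * (z * a * z⁻¹) * z⁻¹ = a := by
    intro a
    have : z * (z * a * z⁻¹) * z⁻¹ = (z * z) * a * (z * z)⁻¹ := by group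
    rw [this, hzz]
    simp
  by_contra hcon
  push Not at hcon
  obtain ⟨a, ha, hane⟩ := hcon
  obtain ⟨c, hc⟩ : ∃ c, c = a * (z * a * z⁻¹) := ⟨_, rfl⟩
  have hcA : c ∈ A := hc ▸ A.mul_mem ha (hconjA z a ha)
  have hzc : z * c * z⁻¹ = c := by
    rw [hc, ← conj_mul, hzzc, hcomm _ (hconjA z a ha) _ ha]
  have hc1 : c ≠ 1 := by
    intro h
    rw [h] at hc
    exact hane (eq_inv_of_mul_eq_one_right hc.symm)
  -- the inverted elements
  let D : Subgroup S :=
    { carrier := {a | a ∈ A ∧ z * a * z⁻¹ = a⁻¹}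
      mul_mem' := by
        rintro a b ⟨ha, ha'⟩ ⟨hb, hb'⟩
        refine ⟨A.mul_mem ha hb, ?_⟩
        rw [← conj_mul, ha', hb', mul_inv_rev, hcomm _ (A.inv_mem ha) _ (A.inv_mem hb)]
      one_mem' := ⟨A.one_mem, by simp⟩
      inv_mem' := by
        rintro a ⟨ha, ha'⟩
        refine ⟨A.inv_mem ha, ?_⟩
        rw [← conj_inv, ha'] }
  have hDA : D ≤ A := fun x hx => hx.1
  have hcD : c ∉ D := by
    rintro ⟨_, h⟩
    rw [hzc] at h
    have h2 : c * c = 1 := by
      nth_rewrite 1 [h]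
      exact inv_mul_cancel c
    exact hc1 (eq_one_of_sq_cube h2 (h3 c hcA))
  have hDne : D ≠ A := fun h => hcD (h ▸ hcA)
  obtain ⟨d, hdD, hd1⟩ : ∃ d ∈ D, d ≠ 1 := by
    by_contra hno
    push Not at hno
    apply hfaith
    intro a' ha'
    have heD : a' * (z * a' * z⁻¹)⁻¹ ∈ D := by
      refine ⟨A.mul_mem ha' (A.inv_mem (hconjA z a' ha')), ?_⟩
      rw [← conj_mul, ← conj_inv, hzzc, mul_inv_rev, inv_inv,
        hcomm _ (hconjA z a' ha') _ (A.inv_mem ha')]
    have h1 := hno _ heD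
    have h2 : a' = z * a' * z⁻¹ := by
      have := mul_inv_eq_one.mp h1
      exact this
    have h3' : z * a' = (z * a' * z⁻¹) * z := by group
    rw [h3', ← h2]
  have htri := mem_triple A hA9 h3 D hDA hDne hdD hd1
  have hrd : r * d * r⁻¹ ∈ D := by
    refine ⟨hconjA r d (hDA hdD), ?_⟩
    have h1 : z * (r * d * r⁻¹) * z⁻¹ = r * (z * d * z⁻¹) * r⁻¹ := by
      have : z * (r * d * r⁻¹) * z⁻¹ = (z * r) * d * (z * r)⁻¹ := by group
      rw [this, hzr]
      group
    rw [h1, hdD.2, conj_inv]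
  have hzd : z * d * z⁻¹ = r * (r * d * r⁻¹) * r⁻¹ := by
    rw [hz]
    group
  have hfin : z * d * z⁻¹ = d → False := by
    intro h
    rw [hdD.2] at h
    have h2 : d * d = 1 := by
      nth_rewrite 1 [← h]
      exact inv_mul_cancel d
    exact hd1 (eq_one_of_sq_cube h2 (h3 d (hDA hdD)))
  rcases htri _ hrd with h | h | h
  · apply hd1
    have : d = r⁻¹ * (r * d * r⁻¹) * r := by group
    rw [this, h]
    group
  · apply hfin
    rw [hzd, h, h]
  · apply hfin
    rw [hzd, h, ← conj_inv, h, inv_inv]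

/-- the dihedral context: two involutions `f`, `y` generating a dihedral group of order 8 with
central involution `z` inverting `A`, with `A ⟨f, y⟩` the whole group -/
structure Ctx (A : Subgroup S) (f y z : S) : Prop where
  hf : f * f = 1
  hy : y * y = 1
  hzz : z * z = 1
  hzf : z * f = f * z
  hzy : z * y = y * z
  hyfy : y * f * y = f * z
  hfyf : f * y * f = y * z
  hG1 : ∀ a ∈ A, z * a * z = a⁻¹
  hgen : A ⊔ Subgroup.closure {f, y} = ⊤

theorem Ctx.symm {A : Subgroup S} {f y z : S} (c : Ctx A f y z) : Ctx A y f z where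
  hf := c.hy
  hy := c.hf
  hzz := c.hzz
  hzf := c.hzy
  hzy := c.hzf
  hyfy := c.hfyf
  hfyf := c.hyfy
  hG1 := c.hG1
  hgen := by
    rw [Set.pair_comm]
    exact c.hgen

end grp

end Cfsg.Agent.Lib.Helper2.M16
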