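import Mathlib
import Cfsg.Agent.Lib.Helper2.M16b

set_option autoImplicit false

namespace Cfsg.Agent.Lib.Helper2.M16

section rel
variable {S : Type*} [Group S] {A : Subgroup S} {f y z : S}

theorem Ctx.finv (c : Ctx A f y z) : f⁻¹ = f := inv_eq_of_mul_eq_one_left c.hf
theorem Ctx.yinv (c : Ctx A f y z) : y⁻¹ = y := inv_eq_of_mul_eq_one_left c.hy
theorem Ctx.zinv (c : Ctx A f y z) : z⁻¹ = z := inv_eq_of_mul_eq_one_left c.hzz

theorem Ctx.hfy (c : Ctx A f y z) : f * y = y * (z * f) := by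
  have h : f * y = f * y * f * f := by rw [mul_assoc (f * y), c.hf, mul_one]
  rw [h, c.hfyf, mul_assoc]

theorem Ctx.fmem [hAn : A.Normal] (c : Ctx A f y z) {a : S} (ha : a ∈ A) : f * a * f ∈ A := by
  have := hAn.conj_mem a ha f
  rwa [c.finv] at this

theorem Ctx.ymem [hAn : A.Normal] (c : Ctx A f y z) {a : S} (ha : a ∈ A) : y * a * y ∈ A := by
  have := hAn.conj_mem a ha y
  rwa [c.yinv] at this

/-- relations between `f, y, z` and `k`, `b = y k y` -/
structure Rel (A : Subgroup S) (f y z k b : S) : Prop where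
  hkA : k ∈ A
  hbA : b ∈ A
  hkb : k * b = b * k
  hyk : y * k = b * y
  hyb : y * b = k * y
  hfk : f * k = k * f
  hfb : f * b = b⁻¹ * f
  hzk : z * k = k⁻¹ * z
  hzb : z * b = b⁻¹ * z
  hk3 : k ^ 3 = 1
  hb3 : b ^ 3 = 1
  hk1 : k ≠ 1
  hb1 : b ≠ 1

theorem Ctx.zconj (c : Ctx A f y z) {a : S} (ha : a ∈ A) : z * a = a⁻¹ * z := by
  rw [← c.hG1 a ha, mul_assoc (z * a), c.hzz, mul_one]

theorem rel_of [hAn : A.Normal] (c : Ctx A f y z)
    (hcomm : ∀ a ∈ A, ∀ b ∈ A, a * b = b * a) (h3 : ∀ a ∈ A, a ^ 3 = 1) {k : S} (hkA : k ∈ A)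
    (hk1 : k ≠ 1) (hfk : f * k = k * f) : Rel A f y z k (y * k * y) := by
  have hbA : y * k * y ∈ A := c.ymem hkA
  have hzk := c.zconj hkA
  refine ⟨hkA, hbA, hcomm _ hkA _ hbA, ?_, ?_, hfk, ?_, hzk, c.zconj hbA, h3 k hkA, h3 _ hbA,
    hk1, ?_⟩
  · rw [mul_assoc (y * k), c.hy, mul_one]
  · rw [← mul_assoc, ← mul_assoc, c.hy, one_mul]
  · have hinv : (y * k * y)⁻¹ = y * k⁻¹ * y := by
      rw [mul_inv_rev, mul_inv_rev, c.yinv, mul_assoc]
    rw [hinv]
    calc f * (y * k * y) = (f * y) * k * y := by simp only [mul_assoc]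
      _ = y * z * (f * k) * y := by rw [c.hfy]; simp only [mul_assoc]
      _ = y * (z * k) * (f * y) := by rw [hfk]; simp only [mul_assoc]
      _ = y * k⁻¹ * (z * y) * (z * f) := by rw [hzk, c.hfy]; simp only [mul_assoc]
      _ = y * k⁻¹ * y * (z * z) * f := by rw [c.hzy]; simp only [mul_assoc]
      _ = y * k⁻¹ * y * f := by rw [c.hzz, mul_one]
  · intro h
    apply hk1
    have h1 : k = y * (y * k * y) * y := by
      rw [← mul_assoc, ← mul_assoc, c.hy, one_mul, mul_assoc, c.hy, mul_one]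
    rw [h1, h, mul_one, c.hy]

/-- a noncentral involution centralizes a nontrivial element of `A` -/
theorem exists_fixed [hAn : A.Normal] (c : Ctx A f y z)
    (hcomm : ∀ a ∈ A, ∀ b ∈ A, a * b = b * a) (h3 : ∀ a ∈ A, a ^ 3 = 1)
    (hA9 : Nat.card A = 9) : ∃ k ∈ A, k ≠ 1 ∧ f * k = k * f := by
  by_contra hno
  push Not at hno
  have hinv : ∀ a ∈ A, f * a * f = a⁻¹ := by
    intro a ha
    have hk : a * (f * a * f) ∈ A := A.mul_mem ha (c.fmem ha)
    have hfk : f * (a * (f * a * f)) = a * (f * a * f) * f := by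
      rw [hcomm _ ha _ (c.fmem ha)]
      have h1 : f * (f * a * f * a) = (f * f) * a * f * a := by simp only [mul_assoc]
      have h2 : f * a * f * a * f = (f * a * f) * a * f := by simp only [mul_assoc]
      rw [h1, c.hf, one_mul, hcomm _ (c.fmem ha) _ ha]
      have h3' : a * (f * a * f) * f = a * f * a * (f * f) := by simp only [mul_assoc]
      rw [h3', c.hf, mul_one]
    have h1 : a * (f * a * f) = 1 := by
      by_contra hne
      exact hno _ hk hne hfk
    exact eq_inv_of_mul_eq_one_right h1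
  have hall : ∀ a ∈ A, a = 1 := by
    intro a ha
    -- `y f y` inverts `a`
    have hX1 : (y * f * y) * a * (y * f * y) = a⁻¹ := by
      have h1 : (y * f * y) * a * (y * f * y) = y * (f * (y * a * y) * f) * y := by
        simp only [mul_assoc]
      rw [h1, hinv _ (c.ymem ha)]
      have h2 : (y * a * y)⁻¹ = y * a⁻¹ * y := by
        rw [mul_inv_rev, mul_inv_rev, c.yinv, mul_assoc]
      rw [h2]
      have h3' : y * (y * a⁻¹ * y) * y = (y * y) * a⁻¹ * (y * y) := by simp only [mul_assoc]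
      rw [h3', c.hy, one_mul, mul_one]
    have hX2 : (f * z) * a * (f * z) = a := by
      have h1 : (f * z) * a * (f * z) = f * (z * a * z) * f := by
        nth_rewrite 2 [← c.hzf]
        simp only [mul_assoc]
      rw [h1, c.hG1 a ha, hinv _ (A.inv_mem ha), inv_inv]
    rw [c.hyfy, hX2] at hX1
    have h2 : a * a = 1 := by
      nth_rewrite 1 [hX1]
      exact inv_mul_cancel a
    exact eq_one_of_sq_cube h2 (h3 a ha)
  have hbot : A = ⊥ := (Subgroup.eq_bot_iff_forall A).mpr hall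
  rw [hbot, Subgroup.card_bot] at hA9
  omega

theorem closure_eq [Finite S] {k b : S} (R : Rel A f y z k b) (h3 : ∀ a ∈ A, a ^ 3 = 1)
    (hA9 : Nat.card A = 9) : Subgroup.closure {k, b} = A := by
  have hle : Subgroup.closure {k, b} ≤ A := by
    rw [Subgroup.closure_le]
    rintro x (rfl | rfl)
    · exact R.hkA
    · exact R.hbA
  by_contra hne
  have hkH : k ∈ Subgroup.closure {k, b} := Subgroup.subset_closure (by simp)
  have hbH : b ∈ Subgroup.closure {k, b} := Subgroup.subset_closure (by simp)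
  have hkk : k⁻¹ ≠ k := by
    intro h
    have h2 : k * k = 1 := by
      nth_rewrite 1 [← h]
      exact inv_mul_cancel k
    exact R.hk1 (eq_one_of_sq_cube h2 R.hk3)
  rcases mem_triple A hA9 h3 _ hle hne hkH R.hk1 b hbH with h | h | h
  · exact R.hb1 h
  · have h1 := R.hfb
    rw [h, R.hfk] at h1
    exact hkk (mul_right_cancel h1).symm
  · have h1 := R.hfb
    rw [h, inv_inv] at h1
    have h2 : f * k⁻¹ = k⁻¹ * f := by
      have : f * k⁻¹ = k⁻¹ * (k * f) * k⁻¹ := by group
      rw [this, ← R.hfk]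
      group
    rw [h2] at h1
    exact hkk (mul_right_cancel h1)

theorem closure4_eq [Finite S] (c : Ctx A f y z) {k b : S} (R : Rel A f y z k b)
    (h3 : ∀ a ∈ A, a ^ 3 = 1) (hA9 : Nat.card A = 9) :
    Subgroup.closure {k, b, f, y} = ⊤ := by
  have h1 : ({k, b, f, y} : Set S) = {k, b} ∪ {f, y} := by
    ext x
    simp only [Set.mem_insert_iff, Set.mem_singleton_iff, Set.mem_union]
    tauto
  rw [h1, Subgroup.closure_union, closure_eq R h3 hA9, c.hgen]

end rel

end Cfsg.Agent.Lib.Helper2.M16
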