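import Mathlib
import Cfsg.Agent.Lib.Helper2.M16c

set_option autoImplicit false

namespace Cfsg.Agent.Lib.Helper2.M16

section core
variable {S : Type*} [Group S] [Finite S] {A : Subgroup S} {f y z k b : S}
  {M : Type*} [AddCommGroup M] [Module (ZMod 2) M] (ρ : Representation (ZMod 2) S M)

theorem fix0 (R : Rel A f y z k b) (h3 : ∀ a ∈ A, a ^ 3 = 1) (hA9 : Nat.card A = 9)
    (hfixA : ∀ m, (∀ a ∈ A, ρ a m = m) → m = 0) :
    ∀ m, ρ k m = m → ρ b m = m → m = 0 := by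
  intro m hk hb
  apply hfixA
  intro a ha
  have hle : Subgroup.closure {k, b} ≤ stabM ρ m := by
    rw [Subgroup.closure_le]
    intro x hx
    rcases hx with h | h
    · rw [h]; exact hk
    · rw [Set.mem_singleton_iff.mp h]; exact hb
  rw [← closure_eq R h3 hA9] at ha
  exact hle ha

set_option maxHeartbeats 1000000 in
theorem core (c : Ctx A f y z) (R : Rel A f y z k b) (h3 : ∀ a ∈ A, a ^ 3 = 1)
    (hA9 : Nat.card A = 9)
    (hirr : ∀ N : Submodule (ZMod 2) M, (∀ s : S, ∀ m ∈ N, ρ s m ∈ N) → N = ⊥ ∨ N = ⊤)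
    (hfixA : ∀ m, (∀ a ∈ A, ρ a m = m) → m = 0) [Nontrivial M]
    (hW : Fx ρ k ⊔ Fx ρ b = ⊤) :
    Nat.card M = 16 ∧ Nat.card {m : M // ρ f m = m ∧ ρ z m = m} ≠ 2 ∧
      Nat.card {m : M // ρ y m = m ∧ ρ z m = m} = 2 := by
  have hgen4 := closure4_eq c R h3 hA9
  have hfix0 := fix0 ρ R h3 hA9 hfixA
  -- b b m = m + b m on Fx k
  have hbb : ∀ m, ρ k m = m → ρ b (ρ b m) = m + ρ b m := by
    intro m hm
    have hT := fix_T ρ R.hb3 m
    have hTk : ρ k (m + ρ b m + ρ b (ρ b m)) = m + ρ b m + ρ b (ρ b m) := by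
      have h1 : ρ k (ρ b m) = ρ b m := fix_of_comm ρ R.hkb.symm hm
      have h2 : ρ k (ρ b (ρ b m)) = ρ b (ρ b m) := fix_of_comm ρ R.hkb.symm h1
      rw [map_add, map_add, hm, h1, h2]
    exact eq_of_add_eq_zero (hfix0 _ hTk hT)
  have hyW1 : ∀ m, ρ k m = m → ρ b (ρ y m) = ρ y m := fun m hm => fix_of_comm ρ R.hyk hm
  have hyW2 : ∀ m, ρ b m = m → ρ k (ρ y m) = ρ y m := fun m hm => fix_of_comm ρ R.hyb hm
  have hW1 : Fx ρ k ≠ ⊥ := by
    intro h0
    have hW2 : Fx ρ b = ⊥ := by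
      rw [Submodule.eq_bot_iff]
      intro m hm
      have h1 : ρ y m ∈ Fx ρ k := hyW2 m hm
      rw [h0, Submodule.mem_bot] at h1
      have := invol_apply ρ c.hy m
      rw [h1, map_zero] at this
      exact this.symm
    rw [h0, hW2, bot_sup_eq] at hW
    exact bot_ne_top hW
  have hfW1 : ∀ m ∈ Fx ρ k, ρ f m ∈ Fx ρ k := fun m hm => fix_of_comm ρ R.hfk hm
  obtain ⟨w1, hw1W, hw1ne, hw1f⟩ := exists_fixed_of_invol ρ c.hf (Fx ρ k) hfW1 hW1
  have hzN : ∀ m ∈ Fx ρ k ⊓ Fx ρ f, ρ z m ∈ Fx ρ k ⊓ Fx ρ f := by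
    intro m hm
    obtain ⟨hmk, hmf⟩ := Submodule.mem_inf.mp hm
    exact Submodule.mem_inf.mpr
      ⟨fix_of_inv ρ (fix_of_comm ρ R.hzk hmk), fix_of_comm ρ c.hzf hmf⟩
  have hN' : Fx ρ k ⊓ Fx ρ f ≠ ⊥ := by
    intro h
    have : w1 ∈ Fx ρ k ⊓ Fx ρ f := Submodule.mem_inf.mpr ⟨hw1W, hw1f⟩
    rw [h, Submodule.mem_bot] at this
    exact hw1ne this
  obtain ⟨w, hwN, hwne, hwz⟩ := exists_fixed_of_invol ρ c.hzz _ hzN hN'
  have hwk : ρ k w = w := (Submodule.mem_inf.mp hwN).1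
  have hwf : ρ f w = w := (Submodule.mem_inf.mp hwN).2
  obtain ⟨bw, hbw⟩ : ∃ bw, bw = ρ b w := ⟨_, rfl⟩
  have hbwk : ρ k bw = bw := by
    rw [hbw]
    exact fix_of_comm ρ R.hkb.symm hwk
  have hbbw : ρ b bw = w + bw := by
    rw [hbw]
    exact hbb w hwk
  have hbinv : ∀ m, ρ b⁻¹ m = ρ b (ρ b m) := by
    intro m
    have h1 : b⁻¹ = b * b := by
      apply inv_eq_of_mul_eq_one_right
      have h2 : b * (b * b) = b ^ 3 := by rw [pow_succ, pow_two, mul_assoc]
      rw [h2, R.hb3]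
    rw [h1, rmul]
  have hfbw : ρ f bw = w + bw := by
    rw [hbw, ← rmul, R.hfb, rmul, hwf, hbinv, ← hbw, hbbw]
  have hzbw : ρ z bw = w + bw := by
    rw [hbw, ← rmul, R.hzb, rmul, hwz, hbinv, ← hbw, hbbw]
  have hbw0 : bw ≠ 0 := by
    intro h
    apply hwne
    have := rinv ρ b w
    rw [← hbw, h, map_zero] at this
    exact this.symm
  have hwbw : w + bw ≠ 0 := by
    intro h
    have h1 : bw = w := eq_of_add_eq_zero h
    exact hwne (hfix0 w hwk (by rw [← hbw]; exact h1))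
  let U1 : Submodule (ZMod 2) M := Submodule.span (ZMod 2) {w, bw}
  have hwU : w ∈ U1 := Submodule.subset_span (by simp)
  have hbwU : bw ∈ U1 := Submodule.subset_span (by simp)
  have hwbwU : w + bw ∈ U1 := U1.add_mem hwU hbwU
  have hU1inv : ∀ g : S, ρ g w ∈ U1 → ρ g bw ∈ U1 → ∀ u ∈ U1, ρ g u ∈ U1 := by
    intro g h1 h2 u hu
    obtain ⟨a, c', rfl⟩ := Submodule.mem_span_pair.mp hu
    rw [map_add, map_smul, map_smul]
    exact U1.add_mem (U1.smul_mem _ h1) (U1.smul_mem _ h2)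
  have hU1W : U1 ≤ Fx ρ k := by
    apply Submodule.span_le.mpr
    intro x hx
    rcases hx with h | h
    · rw [h]; exact hwk
    · rw [Set.mem_singleton_iff.mp h]; exact hbwk
  have hU1b := hU1inv b (by rw [← hbw]; exact hbwU) (by rw [hbbw]; exact hwbwU)
  have hU1f := hU1inv f (by rw [hwf]; exact hwU) (by rw [hfbw]; exact hwbwU)
  have hU1z := hU1inv z (by rw [hwz]; exact hwU) (by rw [hzbw]; exact hwbwU)
  let U : Submodule (ZMod 2) M := U1 ⊔ U1.map (ρ y)
  have hUmem : ∀ u1 ∈ U1, ∀ u2 ∈ U1, u1 + ρ y u2 ∈ U := fun u1 h1 u2 h2 =>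
    Submodule.add_mem_sup h1 (Submodule.mem_map_of_mem h2)
  have hUel : ∀ m ∈ U, ∃ u1 ∈ U1, ∃ u2 ∈ U1, m = u1 + ρ y u2 := by
    intro m hm
    obtain ⟨u1, h1, v, hv, rfl⟩ := Submodule.mem_sup.mp hm
    obtain ⟨u2, h2, rfl⟩ := Submodule.mem_map.mp hv
    exact ⟨u1, h1, u2, h2, rfl⟩
  have hUinv : ∀ s : S, ∀ m ∈ U, ρ s m ∈ U := by
    apply inv_of_closure ρ U _ hgen4
    intro g hg m hm
    obtain ⟨u1, h1, u2, h2, rfl⟩ := hUel m hm
    rw [map_add]
    simp only [Set.mem_insert_iff, Set.mem_singleton_iff] at hg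
    rcases hg with h | h | h | h <;> rw [h]
    · have e : ρ k (ρ y u2) = ρ y (ρ b u2) := by rw [← rmul, ← rmul, R.hyb]
      rw [e, hU1W h1]
      exact hUmem _ h1 _ (hU1b _ h2)
    · have e : ρ b (ρ y u2) = ρ y (ρ k u2) := by rw [← rmul, ← rmul, R.hyk]
      rw [e, hU1W h2]
      exact hUmem _ (hU1b _ h1) _ h2
    · have e : ρ f (ρ y u2) = ρ y (ρ z (ρ f u2)) := by rw [← rmul, c.hfy, rmul, rmul]
      rw [e]
      exact hUmem _ (hU1f _ h1) _ (hU1z _ (hU1f _ h2))
    · rw [invol_apply ρ c.hy, add_comm]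
      exact hUmem _ h2 _ h1
  have hUtop : U = ⊤ := by
    rcases hirr U hUinv with h | h
    · exfalso
      have : w ∈ U := Submodule.mem_sup_left hwU
      rw [h, Submodule.mem_bot] at this
      exact hwne this
    · exact h
  have hrep : ∀ m : M, ∃ u1 ∈ U1, ∃ u2 ∈ U1, m = u1 + ρ y u2 :=
    fun m => hUel m (hUtop ▸ Submodule.mem_top)
  have huniq : ∀ u1 ∈ U1, ∀ u2 ∈ U1, ∀ v1 ∈ U1, ∀ v2 ∈ U1,
      u1 + ρ y u2 = v1 + ρ y v2 → u1 = v1 ∧ u2 = v2 := by
    intro u1 hu1 u2 hu2 v1 hv1 v2 hv2 h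
    have he : u1 - v1 = ρ y (v2 - u2) := by
      rw [map_sub, sub_eq_sub_iff_add_eq_add, h, add_comm]
    have h1 : ρ k (u1 - v1) = u1 - v1 := hU1W (U1.sub_mem hu1 hv1)
    have h2 : ρ b (u1 - v1) = u1 - v1 := by
      rw [he]
      exact hyW1 _ (hU1W (U1.sub_mem hv2 hu2))
    have h0 := hfix0 _ h1 h2
    refine ⟨sub_eq_zero.mp h0, ?_⟩
    rw [h0] at he
    have h3' := invol_apply ρ c.hy (v2 - u2)
    rw [← he, map_zero] at h3'
    exact (sub_eq_zero.mp h3'.symm).symm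
  have h01 : ∀ a : ZMod 2, a = 0 ∨ a = 1 := by decide
  let lin : ZMod 2 × ZMod 2 → M := fun p => p.1 • w + p.2 • bw
  have hlinU : ∀ p, lin p ∈ U1 := fun p =>
    U1.add_mem (U1.smul_mem _ hwU) (U1.smul_mem _ hbwU)
  have hlin0 : ∀ p, lin p = 0 → p = 0 := by
    rintro ⟨a, c'⟩ h
    rcases h01 a with ha | ha <;> rcases h01 c' with hc | hc <;> rw [ha, hc] at h ⊢
    · rfl
    · exfalso; apply hbw0; simpa [lin] using h
    · exfalso; apply hwne; simpa [lin] using h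
    · exfalso; apply hwbw; simpa [lin] using h
  have hlininj : Function.Injective lin := by
    intro p q h
    have h1 : lin (p - q) = lin p - lin q := by
      simp only [lin, Prod.fst_sub, Prod.snd_sub, sub_smul]
      abel
    have h2 : lin (p - q) = 0 := by rw [h1, h, sub_self]
    exact sub_eq_zero.mp (hlin0 _ h2)
  have hlinsurj : ∀ u ∈ U1, ∃ p, lin p = u := by
    intro u hu
    obtain ⟨a, c', rfl⟩ := Submodule.mem_span_pair.mp hu
    exact ⟨(a, c'), rfl⟩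
  have hU1el : ∀ u ∈ U1, u = 0 ∨ u = w ∨ u = bw ∨ u = w + bw := by
    intro u hu
    obtain ⟨a, c', rfl⟩ := Submodule.mem_span_pair.mp hu
    rcases h01 a with ha | ha <;> rcases h01 c' with hc | hc <;> rw [ha, hc] <;> simp
  let Φ : (ZMod 2 × ZMod 2) × (ZMod 2 × ZMod 2) → M := fun p => lin p.1 + ρ y (lin p.2)
  have hΦ : Function.Bijective Φ := by
    constructor
    · rintro ⟨p1, p2⟩ ⟨q1, q2⟩ h
      obtain ⟨h1, h2⟩ := huniq _ (hlinU p1) _ (hlinU p2) _ (hlinU q1) _ (hlinU q2) h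
      rw [hlininj h1, hlininj h2]
    · intro m
      obtain ⟨u1, h1, u2, h2, rfl⟩ := hrep m
      obtain ⟨p1, rfl⟩ := hlinsurj u1 h1
      obtain ⟨p2, rfl⟩ := hlinsurj u2 h2
      exact ⟨(p1, p2), rfl⟩
  have hcard : Nat.card M = 16 := by
    rw [← Nat.card_eq_of_bijective Φ hΦ]
    simp [Nat.card_prod]
  have hywne : ρ y w ≠ 0 := by
    intro h
    apply hwne
    have := invol_apply ρ c.hy w
    rw [h, map_zero] at this
    exact this.symm
  have hwyw : w ≠ ρ y w := by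
    intro h
    apply hwne
    apply hfix0 w hwk
    have := hyW1 w hwk
    rw [← h] at this
    exact this
  refine ⟨hcard, ?_, ?_⟩
  · intro h2
    obtain ⟨x, x', hxx, huniv⟩ := Nat.card_eq_two_iff.mp h2
    have hall : ∀ t : {m : M // ρ f m = m ∧ ρ z m = m}, t = x ∨ t = x' := by
      intro t
      have : t ∈ ({x, x'} : Set _) := by rw [huniv]; trivial
      simpa using this
    have hyw_f : ρ f (ρ y w) = ρ y w := by
      rw [← rmul, c.hfy, rmul, rmul, hwf, hwz]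
    have hyw_z : ρ z (ρ y w) = ρ y w := by
      rw [← rmul, c.hzy, rmul, hwz]
    let t0 : {m : M // ρ f m = m ∧ ρ z m = m} := ⟨0, by simp⟩
    let t1 : {m : M // ρ f m = m ∧ ρ z m = m} := ⟨w, hwf, hwz⟩
    let t2 : {m : M // ρ f m = m ∧ ρ z m = m} := ⟨ρ y w, hyw_f, hyw_z⟩
    have h01' : t0 ≠ t1 := fun h => hwne (congrArg Subtype.val h).symm
    have h02 : t0 ≠ t2 := fun h => hywne (congrArg Subtype.val h).symm
    have h12 : t1 ≠ t2 := fun h => hwyw (congrArg Subtype.val h)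
    rcases hall t0 with a | a <;> rcases hall t1 with b' | b' <;> rcases hall t2 with c' | c'
    all_goals first | exact h01' (a.trans b'.symm) | exact h02 (a.trans c'.symm) |
      exact h12 (b'.trans c'.symm)
  · have hfixyz : ∀ m : M, (ρ y m = m ∧ ρ z m = m) ↔ (m = 0 ∨ m = w + ρ y w) := by
      intro m
      constructor
      · rintro ⟨hy', hz'⟩
        obtain ⟨u1, h1, u2, h2, hm⟩ := hrep m
        rw [hm] at hy' hz'
        have e1 : u2 + ρ y u1 = u1 + ρ y u2 := by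
          rw [map_add, invol_apply ρ c.hy] at hy'
          rw [add_comm]
          exact hy'
        obtain ⟨h21, _⟩ := huniq _ h2 _ h1 _ h1 _ h2 e1
        rw [h21] at hz' hm
        have e2 : ρ z u1 + ρ y (ρ z u1) = u1 + ρ y u1 := by
          rw [map_add, ← rmul ρ z y, c.hzy, rmul] at hz'
          exact hz'
        obtain ⟨hzu, _⟩ := huniq _ (hU1z _ h1) _ (hU1z _ h1) _ h1 _ h1 e2
        rcases hU1el _ h1 with h | h | h | h
        · left
          rw [hm, h, map_zero, add_zero]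
        · right
          rw [hm, h]
        · exfalso
          rw [h, hzbw] at hzu
          exact hwne (by simpa using hzu)
        · exfalso
          rw [h, map_add, hwz, hzbw] at hzu
          apply hwne
          have : w + (w + bw) = bw := by rw [← add_assoc, add_self2, zero_add]
          rw [this] at hzu
          have h5 : bw + w = bw := by rw [add_comm]; exact hzu.symm
          simpa using h5
      · rintro (h | h) <;> rw [h]
        · simp
        · constructor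
          · rw [map_add, invol_apply ρ c.hy, add_comm]
          · rw [map_add, ← rmul ρ z y, c.hzy, rmul, hwz]
    have hset : {m : M | ρ y m = m ∧ ρ z m = m} = {0, w + ρ y w} := by
      ext m
      simp only [Set.mem_setOf_eq, Set.mem_insert_iff, Set.mem_singleton_iff]
      exact hfixyz m
    have hne : (0 : M) ≠ w + ρ y w := by
      intro h
      have e : w + ρ y w = 0 + ρ y 0 := by rw [← h, map_zero, add_zero]
      exact hwne (huniq _ hwU _ hwU _ U1.zero_mem _ U1.zero_mem e).1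
    show Nat.card ↥{m : M | ρ y m = m ∧ ρ z m = m} = 2
    rw [hset, Nat.card_coe_set_eq, Set.ncard_pair hne]

end core

end Cfsg.Agent.Lib.Helper2.M16
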