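import Mathlib
import Cfsg.Agent.Lib.Helper2.M16d

set_option autoImplicit false

namespace Cfsg.Agent.Lib.Helper2.M16

section top
variable {S : Type*} [Group S] [Finite S] {A : Subgroup S} {f y z k b : S}
  {M : Type*} [AddCommGroup M] [Module (ZMod 2) M] (ρ : Representation (ZMod 2) S M)

theorem inv_sup (c : Ctx A f y z) (R : Rel A f y z k b) (h3 : ∀ a ∈ A, a ^ 3 = 1)
    (hA9 : Nat.card A = 9) :
    ∀ s : S, ∀ m ∈ Fx ρ k ⊔ Fx ρ b, ρ s m ∈ Fx ρ k ⊔ Fx ρ b := by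
  apply inv_of_closure ρ _ _ (closure4_eq c R h3 hA9)
  intro g hg m hm
  obtain ⟨m1, h1, m2, h2, rfl⟩ := Submodule.mem_sup.mp hm
  rw [map_add]
  simp only [Set.mem_insert_iff, Set.mem_singleton_iff] at hg
  rcases hg with h | h | h | h <;> rw [h]
  · exact Submodule.add_mem_sup (fix_of_comm ρ (rfl : k * k = k * k) h1)
      (fix_of_comm ρ R.hkb h2)
  · exact Submodule.add_mem_sup (fix_of_comm ρ R.hkb.symm h1)
      (fix_of_comm ρ (rfl : b * b = b * b) h2)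
  · exact Submodule.add_mem_sup (fix_of_comm ρ R.hfk h1)
      (fix_of_inv ρ (fix_of_comm ρ R.hfb h2))
  · rw [add_comm]
    exact Submodule.add_mem_sup (fix_of_comm ρ R.hyb h2) (fix_of_comm ρ R.hyk h1)

theorem trace_id (R : Rel A f y z k b) (h3 : ∀ a ∈ A, a ^ 3 = 1) (hA9 : Nat.card A = 9)
    (hfixA : ∀ m, (∀ a ∈ A, ρ a m = m) → m = 0) (m : M) :
    ∃ m1 m2 m3 m4, ρ k m1 = m1 ∧ ρ b m2 = m2 ∧ ρ (k * b) m3 = m3 ∧
      ρ (k * (b * b)) m4 = m4 ∧ m = m1 + m2 + m3 + m4 := by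
  have hfix0 := fix0 ρ R h3 hA9 hfixA
  have hkbA : k * b ∈ A := A.mul_mem R.hkA R.hbA
  have hkbbA : k * (b * b) ∈ A := A.mul_mem R.hkA (A.mul_mem R.hbA R.hbA)
  have comm : ∀ x, ρ b (ρ k x) = ρ k (ρ b x) := by
    intro x
    rw [← rmul, ← rmul, R.hkb]
  have b3 : ∀ x, ρ b (ρ b (ρ b x)) = x := cube_apply ρ R.hb3
  refine ⟨m + ρ k m + ρ k (ρ k m), m + ρ b m + ρ b (ρ b m),
    m + ρ (k * b) m + ρ (k * b) (ρ (k * b) m),
    m + ρ (k * (b * b)) m + ρ (k * (b * b)) (ρ (k * (b * b)) m),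
    fix_T ρ R.hk3 m, fix_T ρ R.hb3 m, fix_T ρ (h3 _ hkbA) m, fix_T ρ (h3 _ hkbbA) m, ?_⟩
  -- the double trace vanishes
  obtain ⟨X, hX⟩ : ∃ X, X = m + ρ b m + ρ b (ρ b m) := ⟨_, rfl⟩
  have hXb : ρ b X = X := by rw [hX]; exact fix_T ρ R.hb3 m
  have hTk : ρ k (X + ρ k X + ρ k (ρ k X)) = X + ρ k X + ρ k (ρ k X) := fix_T ρ R.hk3 X
  have hTb : ρ b (X + ρ k X + ρ k (ρ k X)) = X + ρ k X + ρ k (ρ k X) := by
    rw [map_add, map_add, comm, comm, comm, hXb]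
  have h0 := hfix0 _ hTk hTb
  rw [hX] at h0
  simp only [map_add] at h0
  have e1 : ρ (k * b) m = ρ k (ρ b m) := rmul ρ k b m
  have e2 : ρ (k * b) (ρ (k * b) m) = ρ k (ρ k (ρ b (ρ b m))) := by
    rw [e1, rmul, comm]
  have e3 : ρ (k * (b * b)) m = ρ k (ρ b (ρ b m)) := by rw [rmul, rmul]
  have e4 : ρ (k * (b * b)) (ρ (k * (b * b)) m) = ρ k (ρ k (ρ b m)) := by
    rw [e3, rmul, rmul, comm, comm, b3]
  rw [e2, e1, e4, e3]
  have key : m + ρ k m + ρ k (ρ k m) + (m + ρ b m + ρ b (ρ b m)) +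
      (m + ρ k (ρ b m) + ρ k (ρ k (ρ b (ρ b m)))) +
      (m + ρ k (ρ b (ρ b m)) + ρ k (ρ k (ρ b m))) =
      (m + ρ b m + ρ b (ρ b m) + (ρ k m + ρ k (ρ b m) + ρ k (ρ b (ρ b m))) +
        (ρ k (ρ k m) + ρ k (ρ k (ρ b m)) + ρ k (ρ k (ρ b (ρ b m))))) + (m + m) + m := by
    abel
  rw [key, h0, add_self2, add_zero, zero_add]

/-- the fixed points of `A` vanish -/
theorem fixA_zero [hAn : A.Normal] (hA1 : A ≠ ⊥) (hfaith : Function.Injective ρ)
    (hirr : ∀ N : Submodule (ZMod 2) M, (∀ s : S, ∀ m ∈ N, ρ s m ∈ N) → N = ⊥ ∨ N = ⊤) :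
    ∀ m, (∀ a ∈ A, ρ a m = m) → m = 0 := by
  let N : Submodule (ZMod 2) M :=
    { carrier := {m | ∀ a ∈ A, ρ a m = m}
      add_mem' := by
        intro x x' hx hx' a ha
        rw [map_add, hx a ha, hx' a ha]
      zero_mem' := fun a _ => map_zero _
      smul_mem' := by
        intro t x hx a ha
        rw [map_smul, hx a ha] }
  have hNinv : ∀ s : S, ∀ m ∈ N, ρ s m ∈ N := by
    intro s m hm a ha
    have hc : s⁻¹ * a * s ∈ A := by
      have := hAn.conj_mem a ha s⁻¹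
      rwa [inv_inv] at this
    exact fix_of_comm ρ (by group : s * (s⁻¹ * a * s) = a * s) (hm _ hc)
  rcases hirr N hNinv with h | h
  · intro m hm
    have : m ∈ N := hm
    rw [h, Submodule.mem_bot] at this
    exact this
  · exfalso
    apply hA1
    rw [Subgroup.eq_bot_iff_forall]
    intro a ha
    apply hfaith
    apply LinearMap.ext
    intro m
    have hm : m ∈ N := h ▸ Submodule.mem_top
    rw [hm a ha, rone]

theorem main_split [hAn : A.Normal] (c : Ctx A f y z)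
    (hcomm : ∀ a ∈ A, ∀ b ∈ A, a * b = b * a) (h3 : ∀ a ∈ A, a ^ 3 = 1)
    (hA9 : Nat.card A = 9)
    (hirr : ∀ N : Submodule (ZMod 2) M, (∀ s : S, ∀ m ∈ N, ρ s m ∈ N) → N = ⊥ ∨ N = ⊤)
    (hfixA : ∀ m, (∀ a ∈ A, ρ a m = m) → m = 0) [Nontrivial M] :
    Nat.card M = 16 ∧
      ((Nat.card {m : M // ρ f m = m ∧ ρ z m = m} ≠ 2 ∧
          Nat.card {m : M // ρ y m = m ∧ ρ z m = m} = 2) ∨
        (Nat.card {m : M // ρ y m = m ∧ ρ z m = m} ≠ 2 ∧
          Nat.card {m : M // ρ f m = m ∧ ρ z m = m} = 2)) := by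
  obtain ⟨k, hkA, hk1, hfk⟩ := exists_fixed c hcomm h3 hA9
  have R := rel_of c hcomm h3 hkA hk1 hfk
  obtain ⟨b, hb⟩ : ∃ b, b = y * k * y := ⟨_, rfl⟩
  rw [← hb] at R
  have hbinv : b⁻¹ = b * b := by
    apply inv_eq_of_mul_eq_one_right
    have h2 : b * (b * b) = b ^ 3 := by rw [pow_succ, pow_two, mul_assoc]
    rw [h2, R.hb3]
  have hcA : k * b ∈ A := A.mul_mem R.hkA R.hbA
  have hc1 : k * b ≠ 1 := by
    intro h
    have h1 : b = k⁻¹ := eq_inv_of_mul_eq_one_right h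
    have h2 := R.hfb
    rw [h1, inv_inv] at h2
    have h4 : f * k⁻¹ = k⁻¹ * f := by
      have : f * k⁻¹ = k⁻¹ * (k * f) * k⁻¹ := by group
      rw [this, ← R.hfk]
      group
    rw [h4] at h2
    have h5 : k⁻¹ = k := mul_right_cancel h2
    have h6 : k * k = 1 := by
      nth_rewrite 1 [← h5]
      exact inv_mul_cancel k
    exact R.hk1 (eq_one_of_sq_cube h6 R.hk3)
  have hyc : y * (k * b) = (k * b) * y := by
    calc y * (k * b) = (y * k) * b := by rw [mul_assoc]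
      _ = b * (y * b) := by rw [R.hyk, mul_assoc]
      _ = b * k * y := by rw [R.hyb, mul_assoc]
      _ = k * b * y := by rw [R.hkb]
  have R' := rel_of c.symm hcomm h3 hcA hc1 hyc
  have hfc : f * (k * b) * f = k * (b * b) := by
    calc f * (k * b) * f = (f * k) * b * f := by simp only [mul_assoc]
      _ = k * (f * b) * f := by rw [R.hfk]; simp only [mul_assoc]
      _ = k * b⁻¹ * (f * f) := by rw [R.hfb]; simp only [mul_assoc]
      _ = k * (b * b) := by rw [c.hf, mul_one, hbinv]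
  rw [hfc] at R'
  have hinv1 := inv_sup ρ c R h3 hA9
  have hinv2 := inv_sup ρ c.symm R' h3 hA9
  rcases hirr _ hinv1 with h1 | h1
  · rcases hirr _ hinv2 with h2 | h2
    · exfalso
      obtain ⟨m, hm⟩ := exists_ne (0 : M)
      apply hm
      obtain ⟨m1, m2, m3, m4, e1, e2, e3, e4, e⟩ := trace_id ρ R h3 hA9 hfixA m
      have z1 : m1 = 0 := by
        have : m1 ∈ Fx ρ k ⊔ Fx ρ b := Submodule.mem_sup_left e1
        rwa [h1, Submodule.mem_bot] at this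
      have z2 : m2 = 0 := by
        have : m2 ∈ Fx ρ k ⊔ Fx ρ b := Submodule.mem_sup_right e2
        rwa [h1, Submodule.mem_bot] at this
      have z3 : m3 = 0 := by
        have : m3 ∈ Fx ρ (k * b) ⊔ Fx ρ (k * (b * b)) := Submodule.mem_sup_left e3
        rwa [h2, Submodule.mem_bot] at this
      have z4 : m4 = 0 := by
        have : m4 ∈ Fx ρ (k * b) ⊔ Fx ρ (k * (b * b)) := Submodule.mem_sup_right e4
        rwa [h2, Submodule.mem_bot] at this
      rw [e, z1, z2, z3, z4]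
      simp
    · obtain ⟨h16, ha, hb'⟩ := core ρ c.symm R' h3 hA9 hirr hfixA h2
      exact ⟨h16, Or.inr ⟨ha, hb'⟩⟩
  · obtain ⟨h16, ha, hb'⟩ := core ρ c R h3 hA9 hirr hfixA h1
    exact ⟨h16, Or.inl ⟨ha, hb'⟩⟩

end top

end Cfsg.Agent.Lib.Helper2.M16
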