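import Mathlib
import Cfsg.Agent.Lib.Helper2.M16e

set_option autoImplicit false

namespace Cfsg.Agent.Lib.Helper2.M16

open DihedralGroup

theorem d8_closure : Subgroup.closure ({sr 0, sr 1} : Set (DihedralGroup 4)) = ⊤ := by
  rw [eq_top_iff]
  intro d _
  have h0 : (sr 0 : DihedralGroup 4) ∈ Subgroup.closure ({sr 0, sr 1} : Set (DihedralGroup 4)) :=
    Subgroup.subset_closure (by simp)
  have h1 : (sr 1 : DihedralGroup 4) ∈ Subgroup.closure ({sr 0, sr 1} : Set (DihedralGroup 4)) :=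
    Subgroup.subset_closure (by simp)
  have hr1 : (r 1 : DihedralGroup 4) ∈ Subgroup.closure ({sr 0, sr 1} : Set (DihedralGroup 4)) := by
    have : (r 1 : DihedralGroup 4) = sr 0 * sr 1 := by decide
    rw [this]
    exact mul_mem h0 h1
  have hr : ∀ i : ZMod 4, (r i : DihedralGroup 4) ∈
      Subgroup.closure ({sr 0, sr 1} : Set (DihedralGroup 4)) := by
    intro i
    have : (r i : DihedralGroup 4) = (r 1) ^ i.val := by
      rw [r_one_pow, ZMod.natCast_zmod_val]
    rw [this]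
    exact pow_mem hr1 _
  cases d with
  | r i => exact hr i
  | sr i =>
    have : (sr i : DihedralGroup 4) = sr 0 * r i := by rw [sr_mul_r, zero_add]
    rw [this]
    exact mul_mem h0 (hr i)

section ctx
variable {S : Type*} [Group S] [Finite S]

theorem ctx_of (A : Subgroup S) [hAn : A.Normal]
    (hcomm : ∀ a ∈ A, ∀ b ∈ A, a * b = b * a) (h3 : ∀ a ∈ A, a ^ 3 = 1) (hA9 : Nat.card A = 9)
    (hAC : Subgroup.centralizer (A : Set S) = A) (ψ : DihedralGroup 4 →* S)
    (hψ : Function.Injective ψ) (hAX : A ⊔ ψ.range = ⊤) :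
    Ctx A (ψ (sr 0)) (ψ (sr 1)) (ψ (r 2)) := by
  have hz2 : ψ (r 2) = ψ (r 1) * ψ (r 1) := by
    rw [← map_mul]
    exact congrArg ψ (by decide)
  have hzz : ψ (r 2) * ψ (r 2) = 1 := by
    rw [← map_mul]
    exact (congrArg ψ (by decide : (r 2 * r 2 : DihedralGroup 4) = 1)).trans (map_one ψ)
  have hzinv : (ψ (r 2))⁻¹ = ψ (r 2) := inv_eq_of_mul_eq_one_left hzz
  have hr4 : ψ (r 1) ^ 4 = 1 := by
    rw [← map_pow]
    exact (congrArg ψ (by decide : ((r 1) ^ 4 : DihedralGroup 4) = 1)).trans (map_one ψ)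
  have hfaith : ¬ ∀ a ∈ A, (ψ (r 1) * ψ (r 1)) * a = a * (ψ (r 1) * ψ (r 1)) := by
    intro h
    rw [← hz2] at h
    have hzA : ψ (r 2) ∈ A := by
      rw [← hAC, Subgroup.mem_centralizer_iff]
      intro a ha
      exact (h a ha).symm
    have h1 : ψ (r 2) = 1 := eq_one_of_sq_cube hzz (h3 _ hzA)
    have h2 : (r 2 : DihedralGroup 4) = 1 := hψ (h1.trans (map_one ψ).symm)
    revert h2
    decide
  have hG := inverts_of_sq A hcomm h3 hA9 (ψ (r 1)) hr4 hfaith
  rw [← hz2, hzinv] at hG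
  refine ⟨?_, ?_, hzz, ?_, ?_, ?_, ?_, hG, ?_⟩
  · rw [← map_mul]
    exact (congrArg ψ (by decide : (sr 0 * sr 0 : DihedralGroup 4) = 1)).trans (map_one ψ)
  · rw [← map_mul]
    exact (congrArg ψ (by decide : (sr 1 * sr 1 : DihedralGroup 4) = 1)).trans (map_one ψ)
  · rw [← map_mul, ← map_mul]
    exact congrArg ψ (by decide)
  · rw [← map_mul, ← map_mul]
    exact congrArg ψ (by decide)
  · rw [← map_mul, ← map_mul, ← map_mul]
    exact congrArg ψ (by decide)
  · rw [← map_mul, ← map_mul, ← map_mul]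
    exact congrArg ψ (by decide)
  · have hle : ψ.range ≤ Subgroup.closure {ψ (sr 0), ψ (sr 1)} := by
      rw [MonoidHom.range_eq_map, ← d8_closure, MonoidHom.map_closure, Set.image_pair]
    rw [eq_top_iff, ← hAX]
    exact sup_le_sup_left hle A

theorem four_eq (B : Subgroup S) (T : Set S) (hT : T.Finite) (hT4 : T.ncard ≤ 4)
    (hB : ∀ b ∈ B, b ∈ T) (hc : Nat.card B = 4) : ∀ t ∈ T, t ∈ B := by
  have h1 : (B : Set S) = T := by
    apply Set.eq_of_subset_of_ncard_le hB _ hT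
    rw [← Nat.card_coe_set_eq]
    exact hT4.trans (le_of_eq hc.symm)
  intro t ht
  rw [← h1] at ht
  exact ht

theorem ncard_four_le (a b c d : S) : ({a, b, c, d} : Set S).ncard ≤ 4 := by
  classical
  have h : ({a, b, c, d} : Set S) = ↑({a, b, c, d} : Finset S) := by simp
  rw [h, Set.ncard_coe_finset]
  exact Finset.card_le_four

/-- the four-subgroups of the dihedral group of order 8 -/
def Vg (i : ZMod 4) : Subgroup (DihedralGroup 4) where
  carrier := {d | d = 1 ∨ d = r 2 ∨ d = sr i ∨ d = sr i * r 2}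
  mul_mem' := by
    intro a b ha hb
    have h : ∀ (i : ZMod 4) (a b : DihedralGroup 4),
        (a = 1 ∨ a = r 2 ∨ a = sr i ∨ a = sr i * r 2) →
        (b = 1 ∨ b = r 2 ∨ b = sr i ∨ b = sr i * r 2) →
        (a * b = 1 ∨ a * b = r 2 ∨ a * b = sr i ∨ a * b = sr i * r 2) := by decide
    exact h i a b ha hb
  one_mem' := Or.inl rfl
  inv_mem' := by
    intro a ha
    have h : ∀ (i : ZMod 4) (a : DihedralGroup 4),
        (a = 1 ∨ a = r 2 ∨ a = sr i ∨ a = sr i * r 2) →
        (a⁻¹ = 1 ∨ a⁻¹ = r 2 ∨ a⁻¹ = sr i ∨ a⁻¹ = sr i * r 2) := by decide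
    exact h i a ha

theorem mem_Vg {i : ZMod 4} {d : DihedralGroup 4} :
    d ∈ Vg i ↔ d = 1 ∨ d = r 2 ∨ d = sr i ∨ d = sr i * r 2 := Iff.rfl

theorem card_Vg (i : ZMod 4) : Nat.card (Vg i) = 4 := by
  have h1 : ((Vg i : Subgroup (DihedralGroup 4)) : Set (DihedralGroup 4)) =
      ↑({1, r 2, sr i, sr i * r 2} : Finset (DihedralGroup 4)) := by
    ext d
    simp only [SetLike.mem_coe, mem_Vg, Finset.coe_insert, Finset.coe_singleton,
      Set.mem_insert_iff, Set.mem_singleton_iff]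
  show Nat.card ↥((Vg i : Subgroup (DihedralGroup 4)) : Set (DihedralGroup 4)) = 4
  rw [h1, Nat.card_coe_set_eq, Set.ncard_coe_finset]
  clear h1
  revert i
  decide

theorem sq_Vg : ∀ (i : ZMod 4) (d : DihedralGroup 4), d ∈ Vg i → d ^ 2 = 1 := by
  have h : ∀ (i : ZMod 4) (a : DihedralGroup 4),
      (a = 1 ∨ a = r 2 ∨ a = sr i ∨ a = sr i * r 2) → a ^ 2 = 1 := by decide
  exact fun i d hd => h i d hd

end ctx

end Cfsg.Agent.Lib.Helper2.M16
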