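import Mathlib
import Cfsg.Agent.Lib.Helper2.M16f

set_option autoImplicit false

namespace Cfsg.Agent.Lib.Helper2.M16

open DihedralGroup

section fin
variable {S : Type*} [Group S] [Finite S]

/-- membership in the four-group generated by `g` and `z` -/
def Q (g z s : S) : Prop := s = 1 ∨ s = z ∨ s = g ∨ s = g * z

theorem classify (ψ : DihedralGroup 4 →* S) (hψ : Function.Injective ψ) (B : Subgroup S)
    (hBX : B ≤ ψ.range) (hB4 : Nat.card B = 4) (hB2 : ∀ b ∈ B, b ^ 2 = 1) :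
    (∀ s, s ∈ B ↔ Q (ψ (sr 0)) (ψ (r 2)) s) ∨ (∀ s, s ∈ B ↔ Q (ψ (sr 1)) (ψ (r 2)) s) := by
  have hel : ∀ s ∈ B, ∃ d : DihedralGroup 4, ψ d = s ∧ d ^ 2 = 1 := by
    intro s hs
    obtain ⟨d, rfl⟩ := hBX hs
    refine ⟨d, rfl, hψ ?_⟩
    rw [map_pow, hB2 _ hs, map_one]
  have d8inv : ∀ d : DihedralGroup 4, d ^ 2 = 1 →
      d = 1 ∨ d = r 2 ∨ d = sr 0 ∨ d = sr 0 * r 2 ∨ d = sr 1 ∨ d = sr 1 * r 2 := by decide
  have hprod : ∀ g h : DihedralGroup 4, (g = sr 0 ∨ g = sr 0 * r 2) →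
      (h = sr 1 ∨ h = sr 1 * r 2) → (g * h) ^ 2 ≠ 1 := by decide
  have hB' : ∀ g h : DihedralGroup 4, ψ g ∈ B → ψ h ∈ B → (g * h) ^ 2 = 1 := by
    intro g h hg hh
    apply hψ
    rw [map_pow, map_mul, hB2 _ (B.mul_mem hg hh), map_one]
  by_cases hf : ψ (sr 0) ∈ B ∨ ψ (sr 0 * r 2) ∈ B
  · left
    have hsub : ∀ s ∈ B, s ∈ ({1, ψ (r 2), ψ (sr 0), ψ (sr 0) * ψ (r 2)} : Set S) := by
      intro s hs
      obtain ⟨d, rfl, hd⟩ := hel s hs
      rcases d8inv d hd with h | h | h | h | h | h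
      · rw [h, map_one]; simp
      · rw [h]; simp
      · rw [h]; simp
      · rw [h, map_mul]; simp
      · exfalso
        rw [h] at hs
        rcases hf with hf | hf
        · exact hprod _ _ (Or.inl rfl) (Or.inl rfl) (hB' _ _ hf hs)
        · exact hprod _ _ (Or.inr rfl) (Or.inl rfl) (hB' _ _ hf hs)
      · exfalso
        rw [h] at hs
        rcases hf with hf | hf
        · exact hprod _ _ (Or.inl rfl) (Or.inr rfl) (hB' _ _ hf hs)
        · exact hprod _ _ (Or.inr rfl) (Or.inr rfl) (hB' _ _ hf hs)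
    have hall := four_eq B _ (Set.toFinite _) (ncard_four_le _ _ _ _) hsub hB4
    intro s
    constructor
    · intro hs
      have := hsub s hs
      simpa only [Q, Set.mem_insert_iff, Set.mem_singleton_iff] using this
    · intro hs
      apply hall
      simpa only [Q, Set.mem_insert_iff, Set.mem_singleton_iff] using hs
  · right
    push Not at hf
    have hsub : ∀ s ∈ B, s ∈ ({1, ψ (r 2), ψ (sr 1), ψ (sr 1) * ψ (r 2)} : Set S) := by
      intro s hs
      obtain ⟨d, rfl, hd⟩ := hel s hs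
      rcases d8inv d hd with h | h | h | h | h | h
      · rw [h, map_one]; simp
      · rw [h]; simp
      · exfalso
        rw [h] at hs
        exact hf.1 hs
      · exfalso
        rw [h] at hs
        exact hf.2 hs
      · rw [h]; simp
      · rw [h, map_mul]; simp
    have hall := four_eq B _ (Set.toFinite _) (ncard_four_le _ _ _ _) hsub hB4
    intro s
    constructor
    · intro hs
      have := hsub s hs
      simpa only [Q, Set.mem_insert_iff, Set.mem_singleton_iff] using this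
    · intro hs
      apply hall
      simpa only [Q, Set.mem_insert_iff, Set.mem_singleton_iff] using hs

theorem exists_four (ψ : DihedralGroup 4 →* S) (hψ : Function.Injective ψ) (i : ZMod 4) :
    ∃ B : Subgroup S, B ≤ ψ.range ∧ Nat.card B = 4 ∧ (∀ b ∈ B, b ^ 2 = 1) ∧
      ∀ s, s ∈ B ↔ Q (ψ (sr i)) (ψ (r 2)) s := by
  refine ⟨(Vg i).map ψ, Subgroup.map_le_range ψ _, ?_, ?_, ?_⟩
  · rw [Subgroup.card_map_of_injective hψ, card_Vg]
  · intro b hb
    obtain ⟨d, hd, rfl⟩ := Subgroup.mem_map.mp hb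
    rw [← map_pow, sq_Vg i d hd, map_one]
  · intro s
    constructor
    · intro hs
      obtain ⟨d, hd, rfl⟩ := Subgroup.mem_map.mp hs
      rcases mem_Vg.mp hd with h | h | h | h <;> rw [h]
      · exact Or.inl (map_one ψ)
      · exact Or.inr (Or.inl rfl)
      · exact Or.inr (Or.inr (Or.inl rfl))
      · exact Or.inr (Or.inr (Or.inr (map_mul ψ _ _)))
    · intro hs
      rcases hs with h | h | h | h <;> rw [h]
      · exact Subgroup.one_mem _
      · exact Subgroup.mem_map_of_mem ψ (mem_Vg.mpr (Or.inr (Or.inl rfl)))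
      · exact Subgroup.mem_map_of_mem ψ (mem_Vg.mpr (Or.inr (Or.inr (Or.inl rfl))))
      · rw [← map_mul]
        exact Subgroup.mem_map_of_mem ψ (mem_Vg.mpr (Or.inr (Or.inr (Or.inr rfl))))

variable {M : Type*} [AddCommGroup M] [Module (ZMod 2) M] (ρ : Representation (ZMod 2) S M)

theorem card_fix_eq (B : Subgroup S) (g z : S) (hB : ∀ s, s ∈ B ↔ Q g z s) :
    Nat.card {m : M // ∀ b ∈ B, ρ b m = m} = Nat.card {m : M // ρ g m = m ∧ ρ z m = m} := by
  apply Nat.card_congr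
  apply Equiv.subtypeEquivRight
  intro m
  constructor
  · intro hall
    exact ⟨hall g ((hB g).mpr (Or.inr (Or.inr (Or.inl rfl)))),
      hall z ((hB z).mpr (Or.inr (Or.inl rfl)))⟩
  · rintro ⟨hg, hz⟩ b hb
    rcases (hB b).mp hb with h | h | h | h <;> rw [h]
    · exact rone ρ m
    · exact hz
    · exact hg
    · rw [rmul, hz, hg]

theorem finish_abs (X : Subgroup S) (g h z : S)
    (P1 : ∀ B : Subgroup S, B ≤ X → Nat.card B = 4 → (∀ b ∈ B, b ^ 2 = 1) →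
      (∀ s, s ∈ B ↔ Q g z s) ∨ (∀ s, s ∈ B ↔ Q h z s))
    (P2 : ∃ B : Subgroup S, B ≤ X ∧ Nat.card B = 4 ∧ (∀ b ∈ B, b ^ 2 = 1) ∧
      ∀ s, s ∈ B ↔ Q h z s)
    (P3a : Nat.card {m : M // ρ g m = m ∧ ρ z m = m} ≠ 2)
    (P3b : Nat.card {m : M // ρ h m = m ∧ ρ z m = m} = 2) :
    ∃! B : Subgroup S, B ≤ X ∧ Nat.card B = 4 ∧ (∀ b ∈ B, b ^ 2 = 1) ∧
      Nat.card {m : M // ∀ b ∈ B, ρ b m = m} = 2 := by
  obtain ⟨B0, h1, h2, h3, h4⟩ := P2
  refine ⟨B0, ⟨h1, h2, h3, ?_⟩, ?_⟩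
  · rw [card_fix_eq ρ B0 h z h4]
    exact P3b
  · rintro B ⟨b1, b2, b3, b4⟩
    rcases P1 B b1 b2 b3 with hB | hB
    · exfalso
      rw [card_fix_eq ρ B g z hB] at b4
      exact P3a b4
    · ext s
      rw [hB s, h4 s]

/-- the faithful irreducible module of `3^2 : D_8` over the field of two elements -/
theorem main (A : Subgroup S) [A.Normal] (hcomm : ∀ a ∈ A, ∀ b ∈ A, a * b = b * a)
    (h3 : ∀ a ∈ A, a ^ 3 = 1) (hA9 : Nat.card ↥A = 9)
    (hAC : Subgroup.centralizer (A : Set S) = A) (X : Subgroup S)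
    (φ : ↥X ≃* DihedralGroup 4) (hAX : A ⊔ X = ⊤)
    (hfaith : Function.Injective ρ)
    (hirr : ∀ N : Submodule (ZMod 2) M, (∀ s : S, ∀ m ∈ N, ρ s m ∈ N) → N = ⊥ ∨ N = ⊤)
    [Nontrivial M] :
    Nat.card M = 16 ∧
      ∃! B : Subgroup S, B ≤ X ∧ Nat.card ↥B = 4 ∧ (∀ b ∈ B, b ^ 2 = 1) ∧
        Nat.card {m : M // ∀ b ∈ B, ρ b m = m} = 2 := by
  obtain ⟨ψ, hψdef⟩ : ∃ ψ : DihedralGroup 4 →* S, ψ = X.subtype.comp φ.symm.toMonoidHom :=
    ⟨_, rfl⟩
  have hψ : Function.Injective ψ := by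
    intro a b h
    rw [hψdef] at h
    exact φ.symm.injective (Subtype.val_injective h)
  have hrange : ψ.range = X := by
    ext x
    constructor
    · rintro ⟨d, rfl⟩
      rw [hψdef]
      exact (φ.symm d).2
    · intro hx
      refine ⟨φ ⟨x, hx⟩, ?_⟩
      rw [hψdef]
      simp
  have ctx := ctx_of A hcomm h3 hA9 hAC ψ hψ (by rw [hrange]; exact hAX)
  have hA1 : A ≠ ⊥ := by
    intro h
    rw [h, Subgroup.card_bot] at hA9
    omega
  have hfixA := fixA_zero ρ hA1 hfaith hirr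
  obtain ⟨h16, hcase⟩ := main_split ρ ctx hcomm h3 hA9 hirr hfixA
  refine ⟨h16, ?_⟩
  rcases hcase with ⟨ha, hb⟩ | ⟨ha, hb⟩
  · apply finish_abs ρ X (ψ (sr 0)) (ψ (sr 1)) (ψ (r 2)) _ _ ha hb
    · intro B hBX h4 h2
      exact classify ψ hψ B (hrange.symm ▸ hBX) h4 h2
    · obtain ⟨B, h1, h2⟩ := exists_four ψ hψ 1
      exact ⟨B, hrange ▸ h1, h2⟩
  · apply finish_abs ρ X (ψ (sr 1)) (ψ (sr 0)) (ψ (r 2)) _ _ ha hb
    · intro B hBX h4 h2
      exact (classify ψ hψ B (hrange.symm ▸ hBX) h4 h2).symm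
    · obtain ⟨B, h1, h2⟩ := exists_four ψ hψ 0
      exact ⟨B, hrange ▸ h1, h2⟩

end fin

end Cfsg.Agent.Lib.Helper2.M16
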