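import Mathlib
import Cfsg.Agent.Lib.Helper2.MaxTS3
import Cfsg.Agent.Lib.Helper2.Witt3

set_option autoImplicit false

namespace Cfsg.Agent.Lib.Helper2

namespace MaxTS2

open Cfsg.Agent.Lib.Helper5.QuadGlue

variable {F : Type*} [Field F] {m : ℕ}

/-- the count for the standard submaximal subspace -/
theorem card_std (l : Fin m) :
    Nat.card {W : Submodule F (Fin m ⊕ Fin m → F) // Module.finrank F W = m ∧
      (∀ w ∈ W, Cfsg.quadFormPlus m F w = 0) ∧ coordSub F (S0 l) ≤ W} = 2 := by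
  rw [Nat.card_eq_two_iff]
  refine ⟨⟨coordSub F (S1 m), finrank_W1, Q_W1, U0_le_W1 l⟩,
    ⟨coordSub F (S2 l), finrank_W2 l, Q_W2 l, U0_le_W2 l⟩, ?_, ?_⟩
  · intro h
    exact W1_ne_W2 l (congrArg Subtype.val h)
  · ext ⟨W, h1, h2, h3⟩
    simp only [Set.mem_insert_iff, Set.mem_singleton_iff, Set.mem_univ, iff_true]
    rcases std_unique l W h1 h2 h3 with h | h
    · left
      exact Subtype.ext h
    · right
      exact Subtype.ext h

/-- a submaximal totally singular subspace can be moved to the standard one by an isometry -/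
theorem exists_isometry_map (U : Submodule F (Fin m ⊕ Fin m → F))
    (hU : Module.finrank F U + 1 = m) (hQ : ∀ u ∈ U, Cfsg.quadFormPlus m F u = 0) (l : Fin m) :
    ∃ g : (Fin m ⊕ Fin m → F) ≃ₗ[F] (Fin m ⊕ Fin m → F),
      (∀ v, Cfsg.quadFormPlus m F (g v) = Cfsg.quadFormPlus m F v) ∧
      U.map (g : (Fin m ⊕ Fin m → F) →ₗ[F] (Fin m ⊕ Fin m → F)) = coordSub F (S0 l) := by
  have hfin : Module.finrank F U = Module.finrank F ↥(coordSub F (S0 l)) := by
    have := finrank_U0 (F := F) l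
    omega
  let e : U ≃ₗ[F] ↥(coordSub F (S0 l)) := LinearEquiv.ofFinrankEq _ _ hfin
  obtain ⟨α, hα⟩ := LinearMap.exists_extend ((coordSub F (S0 l)).subtype ∘ₗ e.toLinearMap)
  have hαx : ∀ x (hx : x ∈ U), α x = (e ⟨x, hx⟩ : Fin m ⊕ Fin m → F) := by
    intro x hx
    have := LinearMap.congr_fun hα ⟨x, hx⟩
    simpa using this
  have hQ0 : ∀ v ∈ coordSub F (S0 l), Cfsg.quadFormPlus m F v = 0 :=
    fun v hv => Q_W1 v (U0_le_W1 l hv)
  have hiso : ∀ x ∈ U, (QP m F) (α x) = (QP m F) x := by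
    intro x hx
    rw [QuadStd.QP_coe, hαx x hx, hQ x hx, hQ0 _ (e ⟨x, hx⟩).2]
  have hinj : ∀ x ∈ U, α x = 0 → x = 0 := by
    intro x hx h0
    rw [hαx x hx] at h0
    have h1 : e ⟨x, hx⟩ = 0 := Subtype.ext h0
    have h2 : (⟨x, hx⟩ : U) = 0 := by
      rw [← e.symm_apply_apply ⟨x, hx⟩, h1, map_zero]
    exact congrArg Subtype.val h2
  obtain ⟨g, hg, hgα⟩ := Witt.witt (QP m F) (QuadStd.QP_nondeg m) U α hiso hinj
  refine ⟨g, fun v => ?_, ?_⟩
  · have := hg v
    rwa [QuadStd.QP_coe] at this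
  · apply Submodule.eq_of_le_of_finrank_eq
    · rintro _ ⟨x, hx, rfl⟩
      show g x ∈ coordSub F (S0 l)
      rw [hgα x hx, hαx x hx]
      exact (e ⟨x, hx⟩).2
    · rw [← hfin]
      exact LinearEquiv.finrank_map_eq g U

/-- the count for an arbitrary submaximal totally singular subspace -/
theorem card_general (hm : 1 ≤ m) (U : Submodule F (Fin m ⊕ Fin m → F))
    (hU : Module.finrank F U + 1 = m) (hQ : ∀ u ∈ U, Cfsg.quadFormPlus m F u = 0) :
    Nat.card {W : Submodule F (Fin m ⊕ Fin m → F) // Module.finrank F W = m ∧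
      (∀ w ∈ W, Cfsg.quadFormPlus m F w = 0) ∧ U ≤ W} = 2 := by
  let l : Fin m := ⟨0, hm⟩
  obtain ⟨g, hg, hgU⟩ := exists_isometry_map U hU hQ l
  rw [← card_std (F := F) l]
  have hgs : ∀ v, Cfsg.quadFormPlus m F (g.symm v) = Cfsg.quadFormPlus m F v := by
    intro v
    have := hg (g.symm v)
    rw [LinearEquiv.apply_symm_apply] at this
    exact this.symm
  refine Nat.card_congr
    { toFun := fun W => ⟨W.1.map (g : (Fin m ⊕ Fin m → F) →ₗ[F] (Fin m ⊕ Fin m → F)), ?_, ?_, ?_⟩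
      invFun := fun W => ⟨W.1.map (g.symm : (Fin m ⊕ Fin m → F) →ₗ[F] (Fin m ⊕ Fin m → F)),
        ?_, ?_, ?_⟩
      left_inv := ?_
      right_inv := ?_ }
  · rw [LinearEquiv.finrank_map_eq g W.1]
    exact W.2.1
  · rintro _ ⟨w, hw, rfl⟩
    show Cfsg.quadFormPlus m F (g w) = 0
    rw [hg]
    exact W.2.2.1 w hw
  · rw [← hgU]
    exact Submodule.map_mono W.2.2.2
  · rw [LinearEquiv.finrank_map_eq g.symm W.1]
    exact W.2.1
  · rintro _ ⟨w, hw, rfl⟩
    show Cfsg.quadFormPlus m F (g.symm w) = 0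
    rw [hgs]
    exact W.2.2.1 w hw
  · intro u hu
    have h1 : g u ∈ W.1 := by
      apply W.2.2.2
      rw [← hgU]
      exact ⟨u, hu, rfl⟩
    exact ⟨g u, h1, g.symm_apply_apply u⟩
  · intro W
    apply Subtype.ext
    ext x
    simp only [Submodule.mem_map, LinearEquiv.coe_coe]
    constructor
    · rintro ⟨_, ⟨w, hw, rfl⟩, rfl⟩
      rw [LinearEquiv.symm_apply_apply]
      exact hw
    · intro hx
      exact ⟨g x, ⟨x, hx, rfl⟩, g.symm_apply_apply x⟩
  · intro W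
    apply Subtype.ext
    ext x
    simp only [Submodule.mem_map, LinearEquiv.coe_coe]
    constructor
    · rintro ⟨_, ⟨w, hw, rfl⟩, rfl⟩
      rw [LinearEquiv.apply_symm_apply]
      exact hw
    · intro hx
      exact ⟨g.symm x, ⟨x, hx, rfl⟩, g.apply_symm_apply x⟩

end MaxTS2

end Cfsg.Agent.Lib.Helper2
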