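import Mathlib
import Cfsg.Agent.Lib.Helper2.MaxTS5

set_option autoImplicit false

namespace Cfsg.Agent.Lib.Helper2

namespace MaxTS2

open Module

variable {F V : Type*} [Field F] [AddCommGroup V] [Module F V] [FiniteDimensional F V]
variable {Q : QuadraticForm F V}

/-- Lemma A: passing to an adjacent maximal totally singular subspace changes the dimension of the
intersection with a third one by exactly one -/
theorem adjacent_step (hQ : (QuadraticMap.polarBilin Q).Nondegenerate) {m : ℕ}
    (hV : finrank F V = 2 * m) {U W X : Submodule F V}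
    (hU : IsTS Q U) (hUm : finrank F U = m) (hW : IsTS Q W) (hWm : finrank F W = m)
    (hX : IsTS Q X) (hXm : finrank F X = m)
    (hadj : finrank F ↥(U ⊓ W) + 1 = m)
    (hTwo : ∀ Y : Submodule F V, IsTS Q Y → finrank F Y = m → U ⊓ W ≤ Y → Y = U ∨ Y = W) :
    finrank F ↥(X ⊓ U) = finrank F ↥(X ⊓ W) + 1 ∨ finrank F ↥(X ⊓ W) = finrank F ↥(X ⊓ U) + 1 := by
  obtain ⟨H, hH⟩ : ∃ H, H = U ⊓ W := ⟨_, rfl⟩
  rw [← hH] at hadj hTwo
  have hHU : H ≤ U := hH ▸ inf_le_left
  have hHW : H ≤ W := hH ▸ inf_le_right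
  have hHts : IsTS Q H := isTS_mono hU hHU
  have hHperp : H ≤ perp Q H := le_orthogonal_of_isTS hHts
  have hUperp : U ≤ perp Q H :=
    (le_orthogonal_of_isTS hU).trans (LinearMap.BilinForm.orthogonal_le hHU)
  have hWperp : W ≤ perp Q H :=
    (le_orthogonal_of_isTS hW).trans (LinearMap.BilinForm.orthogonal_le hHW)
  have hdim := finrank_inf_orthogonal hQ hV hX hXm H
  -- the subspace `Y`
  have hYts : IsTS Q ((X ⊓ perp Q H) ⊔ H) :=
    isTS_sup (isTS_mono hX inf_le_left) hHts inf_le_right
  have hinf : (X ⊓ perp Q H) ⊓ H = X ⊓ H := by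
    rw [inf_assoc, inf_eq_right.2 hHperp]
  have hYm : finrank F ↥((X ⊓ perp Q H) ⊔ H) = m := by
    have h2 := Submodule.finrank_sup_add_finrank_inf_eq (X ⊓ perp Q H) H
    rw [hinf] at h2
    have h3 : finrank F ↥(X ⊓ H) ≤ finrank F H := Submodule.finrank_mono inf_le_right
    omega
  have key : ∀ U' W' : Submodule F V, U' ≤ perp Q H → W' ≤ perp Q H → H = U' ⊓ W' →
      (X ⊓ perp Q H) ⊔ H = U' →
      finrank F ↥(X ⊓ U') = finrank F ↥(X ⊓ W') + 1 := by
    intro U' W' hU' hW' hH' hY
    have e1 : X ⊓ U' = X ⊓ perp Q H := by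
      apply le_antisymm
      · exact inf_le_inf_left X hU'
      · refine le_inf inf_le_left ?_
        rw [← hY]
        exact le_sup_left
    have e2 : X ⊓ W' = X ⊓ H := by
      apply le_antisymm
      · refine le_inf inf_le_left ?_
        rw [hH']
        refine le_inf ?_ inf_le_right
        have : X ⊓ W' ≤ X ⊓ perp Q H := inf_le_inf_left X hW'
        rw [← e1] at this
        exact this.trans inf_le_right
      · rw [hH']
        exact inf_le_inf_left X inf_le_right
    rw [e1, e2]
    have h3 : finrank F ↥(X ⊓ H) ≤ finrank F H := Submodule.finrank_mono inf_le_right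
    omega
  rcases hTwo _ hYts hYm le_sup_right with hY | hY
  · left
    exact key U W hUperp hWperp hH hY
  · right
    exact key W U hWperp hUperp (by rw [hH, inf_comm]) hY

end MaxTS2

end Cfsg.Agent.Lib.Helper2
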