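import Mathlib
import Cfsg.Agent.Lib.Helper2.MaxTS6

set_option autoImplicit false

namespace Cfsg.Agent.Lib.Helper2

namespace MaxTS2

open Module

variable {F V : Type*} [Field F] [AddCommGroup V] [Module F V] [FiniteDimensional F V]
variable {Q : QuadraticForm F V}

/-- the hypothesis that a submaximal intersection lies in exactly two maximal subspaces -/
def TwoThrough (Q : QuadraticForm F V) (m : ℕ) : Prop :=
  ∀ U W : Submodule F V, IsTS Q U → finrank F U = m → IsTS Q W → finrank F W = m →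
    finrank F ↥(U ⊓ W) + 1 = m →
    ∀ Y : Submodule F V, IsTS Q Y → finrank F Y = m → U ⊓ W ≤ Y → Y = U ∨ Y = W

/-- Lemma B: a step towards `W` -/
theorem exists_adjacent (hQ : (QuadraticMap.polarBilin Q).Nondegenerate) {m : ℕ}
    (hV : finrank F V = 2 * m) (hTwo : TwoThrough Q m) {U W : Submodule F V}
    (hU : IsTS Q U) (hUm : finrank F U = m) (hW : IsTS Q W) (hWm : finrank F W = m)
    (hne : U ≠ W) :
    ∃ U' : Submodule F V, IsTS Q U' ∧ finrank F U' = m ∧ finrank F ↥(U ⊓ U') + 1 = m ∧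
      finrank F ↥(U' ⊓ W) = finrank F ↥(U ⊓ W) + 1 := by
  obtain ⟨w, hwW, hwU⟩ : ∃ w ∈ W, w ∉ U := by
    by_contra hcon
    push Not at hcon
    have hle : W ≤ U := hcon
    exact hne (Submodule.eq_of_le_of_finrank_eq hle (by rw [hUm, hWm])).symm
  have hw0 : w ≠ 0 := by
    rintro rfl
    exact hwU U.zero_mem
  obtain ⟨L, hL⟩ : ∃ L, L = Submodule.span F {w} := ⟨_, rfl⟩
  have hLW : L ≤ W := by
    rw [hL, Submodule.span_le]
    intro x hx
    rw [Set.mem_singleton_iff] at hx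
    rw [hx]; exact hwW
  have hwL : w ∈ L := by rw [hL]; exact Submodule.mem_span_singleton_self w
  have hLm : finrank F L = 1 := by rw [hL]; exact finrank_span_singleton hw0
  have hUL : U ⊓ L = ⊥ := by
    rw [← disjoint_iff, hL, Submodule.disjoint_span_singleton' hw0]
    exact hwU
  have hdim := finrank_inf_orthogonal hQ hV hU hUm L
  rw [hUL, finrank_bot, hLm] at hdim
  obtain ⟨H, hH⟩ : ∃ H, H = U ⊓ perp Q L := ⟨_, rfl⟩
  rw [← hH] at hdim
  have hHU : H ≤ U := hH ▸ inf_le_left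
  have hHL : H ⊓ L = ⊥ := by
    rw [eq_bot_iff, ← hUL]
    exact inf_le_inf_right L hHU
  have hU'ts : IsTS Q (H ⊔ L) :=
    isTS_sup (isTS_mono hU hHU) (isTS_mono hW hLW) (hH ▸ inf_le_right)
  have hU'm : finrank F ↥(H ⊔ L) = m := by
    have h2 := Submodule.finrank_sup_add_finrank_inf_eq H L
    rw [hHL, finrank_bot, hLm] at h2
    omega
  have hwU' : w ∈ H ⊔ L := (le_sup_right : L ≤ H ⊔ L) hwL
  have hadj : finrank F ↥(U ⊓ (H ⊔ L)) + 1 = m := by
    have h1 : finrank F H ≤ finrank F ↥(U ⊓ (H ⊔ L)) :=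
      Submodule.finrank_mono (le_inf hHU le_sup_left)
    have h2 : finrank F ↥(U ⊓ (H ⊔ L)) ≤ finrank F U := Submodule.finrank_mono inf_le_left
    have h3 : finrank F ↥(U ⊓ (H ⊔ L)) ≠ m := by
      intro h
      have e1 : U ⊓ (H ⊔ L) = U := Submodule.eq_of_le_of_finrank_eq inf_le_left (by rw [h, hUm])
      have e2 : U ≤ H ⊔ L := inf_eq_left.1 e1
      have e3 : U = H ⊔ L := Submodule.eq_of_le_of_finrank_eq e2 (by rw [hUm, hU'm])
      rw [e3] at hwU
      exact hwU hwU'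
    omega
  refine ⟨H ⊔ L, hU'ts, hU'm, hadj, ?_⟩
  have hstep := adjacent_step hQ hV hU hUm hU'ts hU'm hW hWm hadj
    (hTwo U (H ⊔ L) hU hUm hU'ts hU'm hadj)
  have hlt : U ⊓ W < (H ⊔ L) ⊓ W := by
    refine lt_of_le_of_ne ?_ ?_
    · refine le_inf ?_ inf_le_right
      intro x hx
      apply (le_sup_left : H ≤ H ⊔ L)
      rw [hH]
      refine ⟨hx.1, ?_⟩
      intro n hn
      exact polar_eq_zero_of_isTS hW (hLW hn) hx.2
    · intro h
      have : w ∈ U ⊓ W := by rw [h]; exact ⟨hwU', hwW⟩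
      exact hwU this.1
  have hlt' := Submodule.finrank_lt_finrank_of_lt hlt
  rw [inf_comm W U, inf_comm W (H ⊔ L)] at hstep
  omega

end MaxTS2

end Cfsg.Agent.Lib.Helper2
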