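import Mathlib
import Cfsg.Agent.Lib.Helper2.MaxTS7
import Cfsg.Agent.Lib.Helper2.MaxTS4

set_option autoImplicit false

namespace Cfsg.Agent.Lib.Helper2

namespace MaxTS2

open Module

variable {F V : Type*} [Field F] [AddCommGroup V] [Module F V] [FiniteDimensional F V]
variable {Q : QuadraticForm F V}

/-- the parity theorem for maximal totally singular subspaces -/
theorem parity (hQ : (QuadraticMap.polarBilin Q).Nondegenerate) {m : ℕ}
    (hV : finrank F V = 2 * m) (hTwo : TwoThrough Q m) (k : ℕ) :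
    ∀ U W X : Submodule F V, IsTS Q U → finrank F U = m → IsTS Q W → finrank F W = m →
      IsTS Q X → finrank F X = m → m - finrank F ↥(U ⊓ W) = k →
      Even ((m - finrank F ↥(U ⊓ W)) + (m - finrank F ↥(W ⊓ X)) + (m - finrank F ↥(U ⊓ X))) := by
  induction k with
  | zero =>
    intro U W X hU hUm hW hWm hX hXm hk
    have h1 : finrank F ↥(U ⊓ W) ≤ finrank F U := Submodule.finrank_mono inf_le_left
    have h2 : finrank F ↥(U ⊓ W) = m := by omega
    have e1 : U ⊓ W = U := Submodule.eq_of_le_of_finrank_eq inf_le_left (by rw [h2, hUm])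
    have e2 : U ≤ W := inf_eq_left.1 e1
    have e3 : U = W := Submodule.eq_of_le_of_finrank_eq e2 (by rw [hUm, hWm])
    subst e3
    rw [Nat.even_iff]
    omega
  | succ k ih =>
    intro U W X hU hUm hW hWm hX hXm hk
    have hne : U ≠ W := by
      rintro rfl
      rw [inf_idem, hUm] at hk
      omega
    obtain ⟨U', hU', hU'm, hadj, hstep⟩ := exists_adjacent hQ hV hTwo hU hUm hW hWm hne
    have hIH := ih U' W X hU' hU'm hW hWm hX hXm (by omega)
    have hA := adjacent_step hQ hV hU hUm hU' hU'm hX hXm hadj (hTwo U U' hU hUm hU' hU'm hadj)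
    rw [inf_comm X U, inf_comm X U'] at hA
    have b1 : finrank F ↥(U ⊓ W) ≤ finrank F U := Submodule.finrank_mono inf_le_left
    have b2 : finrank F ↥(W ⊓ X) ≤ finrank F W := Submodule.finrank_mono inf_le_left
    have b3 : finrank F ↥(U ⊓ X) ≤ finrank F U := Submodule.finrank_mono inf_le_left
    have b4 : finrank F ↥(U' ⊓ X) ≤ finrank F U' := Submodule.finrank_mono inf_le_left
    have b5 : finrank F ↥(U' ⊓ W) ≤ finrank F U' := Submodule.finrank_mono inf_le_left
    rw [Nat.even_iff] at hIH ⊢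
    omega

end MaxTS2

namespace MaxTS2

open Module Cfsg.Agent.Lib.Helper5.QuadGlue

variable {F : Type*} [Field F] {m : ℕ}

theorem isTS_iff (W : Submodule F (Fin m ⊕ Fin m → F)) :
    IsTS (QP m F) W ↔ ∀ w ∈ W, Cfsg.quadFormPlus m F w = 0 := by
  unfold IsTS
  rw [QuadStd.QP_coe]

theorem twoThrough_plus (hm : 1 ≤ m) : TwoThrough (QP m F) m := by
  intro U W hU hUm hW hWm hadj Y hY hYm hle
  rw [isTS_iff] at hU hW hY
  have hne : U ≠ W := by
    rintro rfl
    rw [inf_idem, hUm] at hadj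
    omega
  have hHts : ∀ u ∈ U ⊓ W, Cfsg.quadFormPlus m F u = 0 := fun u hu => hU u hu.1
  have hcard := card_general hm (U ⊓ W) hadj hHts
  rw [Nat.card_eq_two_iff' ⟨U, hUm, hU, inf_le_left⟩] at hcard
  obtain ⟨Z, -, hZ⟩ := hcard
  have hWZ := hZ ⟨W, hWm, hW, inf_le_right⟩ (fun h => hne (congrArg Subtype.val h).symm)
  by_cases hYU : Y = U
  · left; exact hYU
  · right
    have hYZ := hZ ⟨Y, hYm, hY, hle⟩ (fun h => hYU (congrArg Subtype.val h))
    have := hYZ.trans hWZ.symm
    exact congrArg Subtype.val this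

theorem finrank_space : finrank F (Fin m ⊕ Fin m → F) = 2 * m := by
  rw [Module.finrank_fintype_fun_eq_card, Fintype.card_sum, Fintype.card_fin]
  ring

theorem main (hm : 1 ≤ m) :
    (∀ U W X : Submodule F (Fin m ⊕ Fin m → F),
      (Module.finrank F U = m ∧ ∀ w ∈ U, Cfsg.quadFormPlus m F w = 0) →
      (Module.finrank F W = m ∧ ∀ w ∈ W, Cfsg.quadFormPlus m F w = 0) →
      (Module.finrank F X = m ∧ ∀ w ∈ X, Cfsg.quadFormPlus m F w = 0) →
      Even ((m - Module.finrank F ↥(U ⊓ W)) + (m - Module.finrank F ↥(W ⊓ X)) +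
        (m - Module.finrank F ↥(U ⊓ X)))) ∧
    ∃ U W : Submodule F (Fin m ⊕ Fin m → F),
      (Module.finrank F U = m ∧ ∀ w ∈ U, Cfsg.quadFormPlus m F w = 0) ∧
      (Module.finrank F W = m ∧ ∀ w ∈ W, Cfsg.quadFormPlus m F w = 0) ∧
      Module.finrank F ↥(U ⊓ W) + 1 = m := by
  constructor
  · intro U W X hU hW hX
    exact parity (QuadStd.QP_nondeg m) finrank_space (twoThrough_plus hm) _ U W X
      ((isTS_iff U).2 hU.2) hU.1 ((isTS_iff W).2 hW.2) hW.1 ((isTS_iff X).2 hX.2) hX.1 rfl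
  · let l : Fin m := ⟨0, hm⟩
    refine ⟨coordSub F (S1 m), coordSub F (S2 l), ⟨finrank_W1, Q_W1⟩, ⟨finrank_W2 l, Q_W2 l⟩, ?_⟩
    have : coordSub F (S1 m) ⊓ coordSub F (S2 l) = coordSub F (S0 l) := by
      apply le_antisymm
      · rintro v ⟨h1, h2⟩ j (hj | hj)
        · exact h1 j hj
        · exact h2 j (Or.inr hj)
      · exact le_inf (U0_le_W1 l) (U0_le_W2 l)
    rw [this]
    exact finrank_U0 l

end MaxTS2

end Cfsg.Agent.Lib.Helper2
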