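import Mathlib
import Cfsg.Prelude.Def_OddOrderLocal
import Cfsg.Agent.Lib.Lead.ClassTwo
import Cfsg.Agent.Lib.Helper7.Meta11

set_option autoImplicit false

/-!
# Metacyclic `p`-groups of exponent `p²` (`p` odd): the `p`-th power map

Package K of the S4079 swarm (helper7's plan), part 1: in a metacyclic `p`-group `H`, `p` odd, of
exponent dividing `p²`, all commutators lie in a central subgroup of exponent `p`; hence the
`p`-th power map is an endomorphism with central image.
-/

namespace Cfsg.Agent.Lib.Helper2.MetaOmegaK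

open scoped commutatorElement
open Cfsg.Agent.Lib.Helper7.Meta

variable {H : Type*} [Group H]

/-- all commutators of a metacyclic `p`-group of exponent dividing `p²` (`p` odd) lie in a central
subgroup of exponent `p` -/
theorem exists_central_comm [Finite H] {p : ℕ} [hp : Fact p.Prime] (hp2 : p ≠ 2)
    (hH : IsPGroup p H) (hm : Cfsg.IsMetacyclic H) (hexp : ∀ h : H, h ^ p ^ 2 = 1) :
    ∃ K : Subgroup H, (∀ k ∈ K, ∀ g : H, g * k = k * g) ∧ (∀ k ∈ K, k ^ p = 1) ∧
      ∀ x y : H, ⁅x, y⁆ ∈ K := by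
  obtain ⟨a, b, c, n, hd⟩ := exists_mcData hp2 hH hm
  haveI := hd.normal
  -- the action on `⟨a⟩`
  have hact : ∀ g : H, ∃ t : ℕ, ∀ z ∈ Subgroup.zpowers a, g * z * g⁻¹ = z ^ (p * t + 1) := by
    intro g
    obtain ⟨σ, hσ, hconj⟩ := exists_action_of_normal hH hd.normal g
    refine ⟨σ / p, ?_⟩
    intro z hz
    have : p * (σ / p) + 1 = σ := by
      have := Nat.div_add_mod σ p
      omega
    rw [this]
    exact hconj z hz
  have hap : ∀ g : H, g * a ^ p = a ^ p * g := by
    intro g
    obtain ⟨t, ht⟩ := hact g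
    have h1 := ht (a ^ p) (Subgroup.pow_mem _ (Subgroup.mem_zpowers a) p)
    have h2 : (a ^ p) ^ (p * t + 1) = a ^ p := by
      rw [pow_succ, ← pow_mul, ← mul_assoc, ← sq, pow_mul, hexp a, one_pow, one_mul]
    rw [h2] at h1
    calc g * a ^ p = g * a ^ p * g⁻¹ * g := by group
      _ = a ^ p * g := by rw [h1]
  refine ⟨Subgroup.zpowers (a ^ p), ?_, ?_, ?_⟩
  · intro k hk g
    obtain ⟨i, rfl⟩ := Subgroup.mem_zpowers_iff.mp hk
    exact ((show Commute g (a ^ p) from hap g).zpow_right i).eq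
  · intro k hk
    obtain ⟨i, rfl⟩ := Subgroup.mem_zpowers_iff.mp hk
    rw [← zpow_natCast, ← zpow_mul, mul_comm, zpow_mul, zpow_natCast, ← pow_mul, ← sq, hexp a,
      one_zpow]
  · -- the commutator of the generators
    have hab : ⁅a, b⁆ ∈ Subgroup.zpowers (a ^ p) := by
      obtain ⟨t, ht⟩ := hact b
      have h1 := ht a (Subgroup.mem_zpowers a)
      have h2 : ⁅a, b⁆ = a * (b * a * b⁻¹)⁻¹ := by
        rw [commutatorElement_def]; group
      rw [h2, h1, pow_succ, pow_mul]
      have h3 : a * ((a ^ p) ^ t * a)⁻¹ = ((a ^ p) ^ t)⁻¹ := by group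
      rw [h3]
      exact Subgroup.inv_mem _ (Subgroup.pow_mem _ (Subgroup.mem_zpowers _) t)
    have hle : commutator H ≤ Subgroup.zpowers (a ^ p) := by
      rw [hd.cd.comm, ← hd.cd.zpowers_comm_of_closure hd.gen]
      exact Subgroup.zpowers_le.mpr hab
    intro x y
    apply hle
    rw [commutator_def]
    exact Subgroup.commutator_mem_commutator (Subgroup.mem_top x) (Subgroup.mem_top y)

end Cfsg.Agent.Lib.Helper2.MetaOmegaK
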