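import Mathlib
import Cfsg.Agent.Lib.Helper2.MetaOmegaK1

set_option autoImplicit false

/-!
# Metacyclic `p`-groups of exponent `p²` and order `p⁴` with `p²` solutions of `x^p = 1`

Package K of the S4079 swarm, part 2: the `p`-th power map is an endomorphism onto the set of
solutions of `x ^ p = 1`, and these solutions are central.
-/

namespace Cfsg.Agent.Lib.Helper2.MetaOmegaK

open scoped commutatorElement

variable {H : Type*} [Group H]

theorem pow_structure [Finite H] {p : ℕ} [hp : Fact p.Prime] (hp2 : p ≠ 2)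
    (hH : IsPGroup p H) (hm : Cfsg.IsMetacyclic H) (hexp : ∀ h : H, h ^ p ^ 2 = 1)
    (hcard : Nat.card H = p ^ 4) (hE : Nat.card {h : H // h ^ p = 1} = p ^ 2) :
    (∀ x y : H, (x * y) ^ p = x ^ p * y ^ p) ∧ (∀ e : H, e ^ p = 1 → ∃ h : H, h ^ p = e) ∧
      (∀ e g : H, e ^ p = 1 → e * g = g * e) := by
  obtain ⟨K, hKc, hKp, hK⟩ := exists_central_comm hp2 hH hm hexp
  have hc : ∀ a b : H, ⁅a, b⁆ ∈ Subgroup.center H := by
    intro a b
    rw [Subgroup.mem_center_iff]
    exact fun g => hKc _ (hK a b) g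
  have hmul : ∀ x y : H, (x * y) ^ p = x ^ p * y ^ p := by
    intro x y
    rw [Cfsg.Agent.Lib.Lead.mul_pow_of_class_two hc x y p]
    have h3 : 2 < p := lt_of_le_of_ne hp.out.two_le (Ne.symm hp2)
    obtain ⟨k, hk⟩ := Nat.Prime.dvd_choose_self hp.out (by norm_num : (2 : ℕ) ≠ 0) h3
    rw [hk, pow_mul, hKp _ (hK y x), one_pow, mul_one]
  refine ⟨hmul, ?_⟩
  -- the power endomorphism
  let κ : H →* H :=
    { toFun := fun h => h ^ p
      map_one' := one_pow p
      map_mul' := hmul }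
  have hκ : ∀ h : H, κ h = h ^ p := fun _ => rfl
  have hker : Nat.card κ.ker = p ^ 2 := by
    rw [← hE]
    exact Nat.card_congr (Equiv.subtypeEquivRight (fun h => by rw [MonoidHom.mem_ker, hκ]))
  have hrange : Nat.card κ.range = p ^ 2 := by
    have h1 := Subgroup.card_mul_index κ.ker
    rw [Subgroup.index_ker, hker, hcard] at h1
    have hpos : 0 < p ^ 2 := pow_pos hp.out.pos 2
    have h2 : p ^ 2 * Nat.card κ.range = p ^ 2 * p ^ 2 := by rw [h1]; ring
    exact Nat.eq_of_mul_eq_mul_left hpos h2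
  have hsub : (κ.range : Set H) ⊆ {e : H | e ^ p = 1} := by
    intro e he
    obtain ⟨h, rfl⟩ := MonoidHom.mem_range.mp he
    show (κ h) ^ p = 1
    rw [hκ, ← pow_mul, ← sq, hexp]
  have heq : (κ.range : Set H) = {e : H | e ^ p = 1} := by
    apply Set.eq_of_subset_of_ncard_le hsub _ (Set.toFinite _)
    rw [← Nat.card_coe_set_eq, ← Nat.card_coe_set_eq]
    have h1 : Nat.card ↥({e : H | e ^ p = 1} : Set H) = p ^ 2 := hE
    have h2 : Nat.card ↥(κ.range : Set H) = p ^ 2 := hrange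
    rw [h1, h2]
  have hsurj : ∀ e : H, e ^ p = 1 → ∃ h : H, h ^ p = e := by
    intro e he
    have h1 : e ∈ (κ.range : Set H) := by rw [heq]; exact he
    obtain ⟨h, hh⟩ := MonoidHom.mem_range.mp h1
    exact ⟨h, hh⟩
  refine ⟨hsurj, ?_⟩
  intro e g he
  obtain ⟨h, rfl⟩ := hsurj e he
  have h1 : ⁅h ^ p, g⁆ = ⁅h, g⁆ ^ p :=
    Cfsg.Agent.Lib.Lead.commutatorElement_pow_left h g (hKc _ (hK h g) h).symm p
  rw [hKp _ (hK h g)] at h1
  exact commutatorElement_eq_one_iff_mul_comm.mp h1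

end Cfsg.Agent.Lib.Helper2.MetaOmegaK
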