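import Mathlib
import Cfsg.Prelude.Def_OddOrderLocal
import Cfsg.Agent.Lib.Helper7.Meta7

set_option autoImplicit false

/-!
# Quotients of metacyclic groups; the quotient by `Ω₁` is not cyclic

Package K of the S4079 swarm, part 3.
-/

namespace Cfsg.Agent.Lib.Helper2.MetaOmegaK

universe u

/-- quotients of metacyclic groups are metacyclic -/
theorem isMetacyclic_quotient {L : Type u} [Group L] (hmc : Cfsg.IsMetacyclic L)
    (E : Subgroup L) [E.Normal] : Cfsg.IsMetacyclic (L ⧸ E) := by
  obtain ⟨N, hNn, hNc, hQc⟩ := hmc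
  haveI := hNn
  haveI := hNc
  haveI := hQc
  have hπ : Function.Surjective (QuotientGroup.mk' E) := QuotientGroup.mk'_surjective E
  haveI : (N.map (QuotientGroup.mk' E)).Normal := Subgroup.Normal.map hNn _ hπ
  refine ⟨N.map (QuotientGroup.mk' E), inferInstance, ?_, ?_⟩
  · exact isCyclic_of_surjective ((QuotientGroup.mk' E).subgroupMap N)
      ((QuotientGroup.mk' E).subgroupMap_surjective N)
  · let φ : L ⧸ N →* (L ⧸ E) ⧸ N.map (QuotientGroup.mk' E) :=
      QuotientGroup.map N (N.map (QuotientGroup.mk' E)) (QuotientGroup.mk' E)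
        (Subgroup.le_comap_map _ N)
    apply isCyclic_of_surjective φ
    intro q
    obtain ⟨y, rfl⟩ := QuotientGroup.mk_surjective q
    obtain ⟨x, rfl⟩ := hπ y
    exact ⟨QuotientGroup.mk x, rfl⟩

/-- a nontrivial finite `p`-group without cyclic subgroups of index `p` is not cyclic -/
theorem not_isCyclic_of_no_cyclic_index {L : Type*} [Group L] [Finite L] {p : ℕ}
    [hp : Fact p.Prime] (hL : IsPGroup p L) (hnt : Nontrivial L)
    (hnc : ∀ C : Subgroup L, IsCyclic C → C.index ≠ p) : ¬ IsCyclic L := by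
  intro hcyc
  haveI := hcyc
  have hbot : (⊥ : Subgroup L) ≠ ⊤ := by
    intro h
    obtain ⟨e, he⟩ := exists_ne (1 : L)
    have hx : e ∈ (⊥ : Subgroup L) := h ▸ Subgroup.mem_top e
    exact he (Subgroup.mem_bot.mp hx)
  obtain ⟨M, -, hM⟩ := Cfsg.Agent.Lib.Helper7.Meta.exists_index_eq_prime_of_ne_top hL hbot
  exact hnc M (Subgroup.isCyclic M) hM

/-- if every `x` with `x ^ p = 1` lies in the normal subgroup `E` of order `p²` of the nontrivial
`p`-group `L`, and `L` has no cyclic subgroup of index `p`, then `L ⧸ E` is not cyclic -/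
theorem not_isCyclic_quotient {L : Type*} [Group L] [Finite L] {p : ℕ} [hp : Fact p.Prime]
    (hL : IsPGroup p L) (hnt : Nontrivial L)
    (hnc : ∀ C : Subgroup L, IsCyclic C → C.index ≠ p)
    (E : Subgroup L) [E.Normal] (hEmem : ∀ x : L, x ∈ E ↔ x ^ p = 1)
    (hEcard : Nat.card E = p ^ 2) : ¬ IsCyclic (L ⧸ E) := by
  classical
  intro hcyc
  obtain ⟨q, hq⟩ := hcyc.exists_generator
  obtain ⟨g, rfl⟩ := QuotientGroup.mk_surjective q
  set C := Subgroup.zpowers g with hC
  have hpp : p.Prime := hp.out
  have hsup : C ⊔ E = ⊤ := by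
    rw [eq_top_iff]
    intro x _
    obtain ⟨k, hk⟩ := Subgroup.mem_zpowers_iff.mp (hq (QuotientGroup.mk x))
    have h1 : (g ^ k)⁻¹ * x ∈ E := by
      rw [← QuotientGroup.eq, QuotientGroup.mk_zpow]
      exact hk
    have h2 : x = g ^ k * ((g ^ k)⁻¹ * x) := by group
    rw [h2]
    exact Subgroup.mul_mem _ (Subgroup.mem_sup_left (Subgroup.zpow_mem_zpowers g k))
      (Subgroup.mem_sup_right h1)
  have h3 : E.index = E.relIndex C := by
    rw [← Subgroup.relIndex_sup_right (H := C) (K := E), hsup, Subgroup.relIndex_top_right]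
  have h4 : Nat.card (E.subgroupOf C) * E.relIndex C = Nat.card C :=
    Subgroup.card_mul_index (E.subgroupOf C)
  have h5 : Nat.card E * E.index = Nat.card L := Subgroup.card_mul_index E
  have h6 : Nat.card C * C.index = Nat.card L := Subgroup.card_mul_index C
  set D := Nat.card (E.subgroupOf C) with hD
  have hrpos : 0 < E.relIndex C := by
    rw [← h3]
    exact Nat.pos_of_ne_zero Subgroup.index_ne_zero_of_finite
  have h7 : D * C.index = p ^ 2 := by
    have h8 : (D * C.index) * E.relIndex C = p ^ 2 * E.relIndex C := by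
      calc (D * C.index) * E.relIndex C = (D * E.relIndex C) * C.index := by ring
        _ = Nat.card C * C.index := by rw [h4]
        _ = Nat.card L := h6
        _ = Nat.card E * E.index := h5.symm
        _ = p ^ 2 * E.relIndex C := by rw [hEcard, h3]
    exact Nat.eq_of_mul_eq_mul_right hrpos h8
  -- `D ≤ p`
  have hDle : D ≤ p := by
    haveI : Fintype C := Fintype.ofFinite C
    have h1 := IsCyclic.card_pow_eq_one_le (α := C) (n := p) hpp.pos
    have h2 : D ≤ Nat.card {x : C // x ^ p = 1} :=
      Nat.card_le_card_of_injective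
        (fun w : E.subgroupOf C => (⟨w.1, by
          have hw : ((w.1 : C) : L) ∈ E := Subgroup.mem_subgroupOf.mp w.2
          have := (hEmem _).mp hw
          apply Subtype.ext
          rw [Subgroup.coe_pow, this, Subgroup.coe_one]⟩ : {x : C // x ^ p = 1}))
        (by
          intro a b hab
          apply Subtype.ext
          exact congrArg (fun z : {x : C // x ^ p = 1} => z.1) hab)
    rw [Nat.card_eq_fintype_card (α := {x : C // x ^ p = 1}), Fintype.card_subtype] at h2
    exact le_trans h2 h1
  have hDdvd : D ∣ p ^ 2 := Dvd.intro _ h7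
  obtain ⟨i, hi2, hi⟩ := (Nat.dvd_prime_pow hpp).mp hDdvd
  have hi1 : i ≤ 1 := by
    by_contra hlt
    have h4' : p ^ 2 ≤ p ^ i := Nat.pow_le_pow_right hpp.pos (by omega)
    have h5' : p < p ^ 2 := by
      have := hpp.one_lt
      nlinarith
    omega
  interval_cases i
  · -- `D = 1`: then `g = 1` and `L = E`
    rw [pow_zero] at hi
    have hbot : E.subgroupOf C = ⊥ := by
      rw [← Subgroup.card_eq_one]
      exact hi
    have hg1 : g = 1 := by
      by_contra hg
      obtain ⟨k, hk⟩ := IsPGroup.iff_orderOf.mp hL g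
      have hk0 : k ≠ 0 := by
        intro hk0
        rw [hk0, pow_zero, orderOf_eq_one_iff] at hk
        exact hg hk
      obtain ⟨j, rfl⟩ := Nat.exists_eq_succ_of_ne_zero hk0
      have he : (g ^ p ^ j) ^ p = 1 := by
        rw [← pow_mul, ← pow_succ, ← hk, pow_orderOf_eq_one]
      have hmem : (⟨g ^ p ^ j, Subgroup.pow_mem _ (Subgroup.mem_zpowers g) _⟩ : C) ∈
          E.subgroupOf C := by
        rw [Subgroup.mem_subgroupOf]
        exact (hEmem _).mpr he
      rw [hbot, Subgroup.mem_bot] at hmem
      have h1 : g ^ p ^ j = 1 := congrArg Subtype.val hmem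
      have h2 := orderOf_dvd_of_pow_eq_one h1
      rw [hk] at h2
      have := Nat.pow_dvd_pow_iff_le_right hpp.one_lt |>.mp h2
      omega
    have hCbot : C = ⊥ := by rw [hC, hg1, Subgroup.zpowers_one_eq_bot]
    rw [hCbot, bot_sup_eq] at hsup
    obtain ⟨e, he⟩ := exists_ne (1 : L)
    have heE : e ∈ E := hsup ▸ Subgroup.mem_top e
    have hep : e ^ p = 1 := (hEmem e).mp heE
    have hord : orderOf e = p := orderOf_eq_prime hep he
    have h8 := Subgroup.card_mul_index (Subgroup.zpowers e)
    rw [Nat.card_zpowers, hord] at h8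
    have hLcard : Nat.card L = p ^ 2 := by
      rw [← hEcard, hsup, Subgroup.card_top]
    rw [hLcard] at h8
    have h9 : (Subgroup.zpowers e).index = p := by
      have : p * (Subgroup.zpowers e).index = p * p := by rw [h8]; ring
      exact Nat.eq_of_mul_eq_mul_left hpp.pos this
    exact hnc _ (Subgroup.isCyclic_zpowers e) h9
  · -- `D = p`
    rw [pow_one] at hi
    rw [hi] at h7
    have h9 : C.index = p := by
      have : p * C.index = p * p := by rw [h7]; ring
      exact Nat.eq_of_mul_eq_mul_left hpp.pos this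
    exact hnc C (Subgroup.isCyclic_zpowers g) h9

end Cfsg.Agent.Lib.Helper2.MetaOmegaK
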