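import Mathlib
import Cfsg.Prelude.Def_OddOrderLocal
import Cfsg.Prelude.Def_PLocal
import Cfsg.Agent.Lib.Lead.MetacyclicOmega
import Cfsg.Agent.Lib.Helper2.MetaOmegaK2
import Cfsg.Agent.Lib.Helper2.MetaOmegaK3

set_option autoImplicit false

/-!
# `Ω₁` and `Ω₂` of a metacyclic `p`-group (`p` odd) without cyclic maximal subgroups

Package K of the S4079 swarm (helper7's plan `notes/S4079_plan_helper7.md`): `E = {x | x^p = 1}`
is a subgroup of order `p²`, `H = {x | x^(p²) = 1}` is a subgroup of order `p⁴`, `E ≤ Z(H)`, the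
`p`-th power map is multiplicative on `H` and maps `H` onto `E`.

The skeleton statement needs the extra hypothesis `Nontrivial L` (for the trivial group all
hypotheses hold and `|E| = 1`); in S4079 it follows from the existence of an automorphism of
order `p`.
-/

namespace Cfsg.Agent.Lib.Helper2.MetaOmegaK

open Cfsg.Agent.Lib.Helper7.Meta

/-- PACKAGE K (structure of `Ω₁`, `Ω₂` of a metacyclic `p`-group, `p` odd, without cyclic
maximal subgroups). -/
theorem omega_structure {L : Type*} [Group L] [Finite L] {p : ℕ} [hp : Fact p.Prime]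
    (hp2 : p ≠ 2) (hL : IsPGroup p L) (hmc : Cfsg.IsMetacyclic L) (hnt : Nontrivial L)
    (hnc : ∀ C : Subgroup L, IsCyclic C → C.index ≠ p) :
    ∃ E H : Subgroup L,
      (∀ x : L, x ∈ E ↔ x ^ p = 1) ∧ (∀ x : L, x ∈ H ↔ x ^ p ^ 2 = 1) ∧
      Nat.card E = p ^ 2 ∧ Nat.card H = p ^ 4 ∧
      (∀ e ∈ E, ∀ h ∈ H, e * h = h * e) ∧
      (∀ h₁ ∈ H, ∀ h₂ ∈ H, (h₁ * h₂) ^ p = h₁ ^ p * h₂ ^ p) ∧
      (∀ e ∈ E, ∃ h ∈ H, h ^ p = e) := by
  have hpp : p.Prime := hp.out
  have hncL : ¬ IsCyclic L := not_isCyclic_of_no_cyclic_index hL hnt hnc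
  obtain ⟨hEel, hEcard⟩ := Cfsg.Agent.Lib.Lead.omegaOne_of_metacyclic hp2 hL hmc hncL
  set E : Subgroup L := Cfsg.omegaOne p (⊤ : Subgroup L) with hE
  have hEmem : ∀ x : L, x ∈ E ↔ x ^ p = 1 := by
    intro x
    constructor
    · exact fun hx => hEel.2 x hx
    · intro hx
      exact Subgroup.subset_closure ⟨Subgroup.mem_top x, hx⟩
  haveI hEn : E.Normal := by
    refine ⟨fun x hx g => ?_⟩
    rw [hEmem] at hx ⊢
    rw [conj_pow, hx, mul_one, mul_inv_cancel]
  -- the quotient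
  have hQp : IsPGroup p (L ⧸ E) := hL.to_quotient E
  have hQm : Cfsg.IsMetacyclic (L ⧸ E) := isMetacyclic_quotient hmc E
  have hQnc : ¬ IsCyclic (L ⧸ E) := not_isCyclic_quotient hL hnt hnc E hEmem hEcard
  obtain ⟨hFel, hFcard⟩ := Cfsg.Agent.Lib.Lead.omegaOne_of_metacyclic hp2 hQp hQm hQnc
  set F : Subgroup (L ⧸ E) := Cfsg.omegaOne p (⊤ : Subgroup (L ⧸ E)) with hF
  have hFmem : ∀ y : L ⧸ E, y ∈ F ↔ y ^ p = 1 := by
    intro y
    constructor
    · exact fun hy => hFel.2 y hy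
    · intro hy
      exact Subgroup.subset_closure ⟨Subgroup.mem_top y, hy⟩
  set H : Subgroup L := F.comap (QuotientGroup.mk' E) with hH
  have hHmem : ∀ x : L, x ∈ H ↔ x ^ p ^ 2 = 1 := by
    intro x
    rw [hH, Subgroup.mem_comap, hFmem, ← map_pow, QuotientGroup.mk'_apply,
      QuotientGroup.eq_one_iff, hEmem, ← pow_mul, ← sq]
  have hHcard : Nat.card H = p ^ 4 := by
    have h1 : H.index = F.index :=
      Subgroup.index_comap_of_surjective F (QuotientGroup.mk'_surjective E)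
    have h2 := Subgroup.card_mul_index H
    have h3 := Subgroup.card_mul_index F
    have h4 := Subgroup.card_mul_index E
    rw [Subgroup.index_eq_card, hEcard] at h4
    rw [hFcard] at h3
    rw [h1] at h2
    have hpos : 0 < F.index := Nat.pos_of_ne_zero Subgroup.index_ne_zero_of_finite
    have h5 : Nat.card H * F.index = p ^ 4 * F.index := by
      calc Nat.card H * F.index = Nat.card L := h2
        _ = p ^ 2 * Nat.card (L ⧸ E) := h4.symm
        _ = p ^ 2 * (p ^ 2 * F.index) := by rw [h3]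
        _ = p ^ 4 * F.index := by ring
    exact Nat.eq_of_mul_eq_mul_right hpos h5
  have hEH : E ≤ H := by
    intro x hx
    rw [hHmem, sq, pow_mul, (hEmem x).mp hx, one_pow]
  -- the structure of `H`
  have hHp : IsPGroup p H := hL.to_subgroup H
  have hHm : Cfsg.IsMetacyclic H := isMetacyclic_subgroup hmc H
  have hHexp : ∀ h : H, h ^ p ^ 2 = 1 := by
    intro h
    apply Subtype.ext
    rw [Subgroup.coe_pow, Subgroup.coe_one]
    exact (hHmem _).mp h.2
  have hE' : Nat.card {h : H // h ^ p = 1} = p ^ 2 := by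
    rw [← hEcard]
    refine Nat.card_congr
      { toFun := fun h => ⟨h.1.1, (hEmem _).mpr (by
          have := congrArg Subtype.val h.2
          rw [Subgroup.coe_pow, Subgroup.coe_one] at this
          exact this)⟩
        invFun := fun e => ⟨⟨e.1, hEH e.2⟩, by
          apply Subtype.ext
          rw [Subgroup.coe_pow, Subgroup.coe_one]
          exact (hEmem _).mp e.2⟩
        left_inv := fun h => rfl
        right_inv := fun e => rfl }
  obtain ⟨hmul, hsurj, hcen⟩ := pow_structure hp2 hHp hHm hHexp hHcard hE'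
  refine ⟨E, H, hEmem, hHmem, hEcard, hHcard, ?_, ?_, ?_⟩
  · intro e he h hh
    have h1 : (⟨e, hEH he⟩ : H) ^ p = 1 := by
      apply Subtype.ext
      rw [Subgroup.coe_pow, Subgroup.coe_one]
      exact (hEmem e).mp he
    exact congrArg Subtype.val (hcen ⟨e, hEH he⟩ ⟨h, hh⟩ h1)
  · intro h₁ hh₁ h₂ hh₂
    exact congrArg Subtype.val (hmul ⟨h₁, hh₁⟩ ⟨h₂, hh₂⟩)
  · intro e he
    have h1 : (⟨e, hEH he⟩ : H) ^ p = 1 := by
      apply Subtype.ext
      rw [Subgroup.coe_pow, Subgroup.coe_one]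
      exact (hEmem e).mp he
    obtain ⟨h, hh⟩ := hsurj ⟨e, hEH he⟩ h1
    exact ⟨h.1, h.2, congrArg Subtype.val hh⟩

end Cfsg.Agent.Lib.Helper2.MetaOmegaK
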