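import Mathlib

set_option autoImplicit false

/-!
Generic lemmas on a subgroup `Q` of a group `H` acting on a set: orbits `orb Q a`, agreement of
elements on invariant sets, and orbits of prime size of a `p`-group.
-/

namespace Cfsg.Agent.Lib.Helper2.Miller

open MulAction

section gen

variable {H : Type*} [Group H] {α : Type*} [MulAction H α]

/-- the orbit of `a` under the subgroup `Q`, as a set -/
def orb (Q : Subgroup H) (a : α) : Set α := {b | ∃ x ∈ Q, x • a = b}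

theorem mem_orb_iff (Q : Subgroup H) (a b : α) : b ∈ orb Q a ↔ ∃ x ∈ Q, x • a = b := Iff.rfl

theorem mem_orb_self (Q : Subgroup H) (a : α) : a ∈ orb Q a := ⟨1, Q.one_mem, one_smul _ _⟩

theorem smul_mem_orb (Q : Subgroup H) {x : H} (hx : x ∈ Q) (a : α) : x • a ∈ orb Q a :=
  ⟨x, hx, rfl⟩

theorem orb_eq_orbit (Q : Subgroup H) (a : α) : orb Q a = MulAction.orbit ↥Q a := by
  ext b
  constructor
  · rintro ⟨x, hx, rfl⟩
    exact ⟨⟨x, hx⟩, rfl⟩
  · rintro ⟨x, rfl⟩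
    exact ⟨x.1, x.2, rfl⟩

theorem orb_eq_of_mem (Q : Subgroup H) {a b : α} (h : b ∈ orb Q a) : orb Q b = orb Q a := by
  obtain ⟨x, hx, rfl⟩ := h
  ext c
  constructor
  · rintro ⟨y, hy, rfl⟩
    exact ⟨y * x, Q.mul_mem hy hx, mul_smul _ _ _⟩
  · rintro ⟨y, hy, rfl⟩
    refine ⟨y * x⁻¹, Q.mul_mem hy (Q.inv_mem hx), ?_⟩
    rw [mul_smul, inv_smul_smul]

theorem mem_orb_symm (Q : Subgroup H) {a b : α} (h : b ∈ orb Q a) : a ∈ orb Q b := by
  rw [orb_eq_of_mem Q h]; exact mem_orb_self Q a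

theorem smul_mem_orb_of_mem (Q : Subgroup H) {x : H} (hx : x ∈ Q) {a b : α} (h : b ∈ orb Q a) :
    x • b ∈ orb Q a := by
  rw [← orb_eq_of_mem Q h]; exact smul_mem_orb Q hx b

/-- agreeing on an invariant set is preserved by powers -/
theorem agree_pow {g g' : H} {O : Set α} (hO : ∀ b ∈ O, g • b ∈ O)
    (h : ∀ b ∈ O, g • b = g' • b) (j : ℕ) : ∀ b ∈ O, g ^ j • b = g' ^ j • b := by
  induction j with
  | zero => intro b _; simp
  | succ j ih =>
    intro b hb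
    rw [pow_succ, pow_succ, mul_smul, mul_smul, ← h b hb, ih _ (hO b hb)]

theorem pow_mem_of_inv {g : H} {O : Set α} (hO : ∀ b ∈ O, g • b ∈ O) (j : ℕ) :
    ∀ b ∈ O, g ^ j • b ∈ O := by
  induction j with
  | zero => intro b hb; simpa using hb
  | succ j ih =>
    intro b hb
    rw [pow_succ, mul_smul]
    exact ih _ (hO b hb)

/-- conjugation maps orbits to orbits -/
theorem smul_mem_orb_conj (Q : Subgroup H) {n : H} (hn : n ∈ Subgroup.normalizer (Q : Set H))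
    {a b : α} (h : b ∈ orb Q a) : n • b ∈ orb Q (n • a) := by
  obtain ⟨x, hx, rfl⟩ := h
  refine ⟨n * x * n⁻¹, (Subgroup.mem_normalizer_iff.mp hn x).mp hx, ?_⟩
  rw [mul_smul, mul_smul, inv_smul_smul]

end gen

section pgroup

variable {H : Type*} [Group H] [Finite H] {α : Type*} [Finite α] [MulAction H α]
variable {p : ℕ} [hp : Fact p.Prime]

theorem ncard_orb_eq (Q : Subgroup H) (a : α) :
    (orb Q a).ncard = Nat.card (MulAction.orbit ↥Q a) := by
  rw [orb_eq_orbit]; rfl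

/-- the size of an orbit of a `p`-group is a power of `p` -/
theorem ncard_orb_pow (Q : Subgroup H) (hQ : IsPGroup p Q) (a : α) :
    ∃ n : ℕ, (orb Q a).ncard = p ^ n := by
  obtain ⟨n, hn⟩ := hQ.card_orbit a
  exact ⟨n, by rw [ncard_orb_eq, hn]⟩

/-- a point stabiliser of index `p` in a `p`-group is normal -/
theorem stabilizer_normal (Q : Subgroup H) (hQ : IsPGroup p Q) {a : α}
    (ha : (orb Q a).ncard = p) : (MulAction.stabilizer ↥Q a).Normal ∧
      (MulAction.stabilizer ↥Q a).index = p := by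
  have hidx : (MulAction.stabilizer ↥Q a).index = p := by
    rw [MulAction.index_stabilizer, ← orb_eq_orbit, ha]
  refine ⟨?_, hidx⟩
  apply Subgroup.normal_of_index_eq_minFac_card
  rw [hidx]
  obtain ⟨n, hn⟩ := IsPGroup.iff_card.mp hQ
  have hn0 : n ≠ 0 := by
    rintro rfl
    rw [pow_zero] at hn
    have h1 : (MulAction.stabilizer ↥Q a).index ∣ Nat.card ↥Q := Subgroup.index_dvd_card _
    rw [hidx, hn] at h1
    exact hp.out.one_lt.ne' (Nat.dvd_one.mp h1)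
  rw [hn, Nat.pow_minFac hn0, Nat.Prime.minFac_eq hp.out]

/-- an element of `Q` fixing a point of an orbit of size `p` fixes the whole orbit -/
theorem fix_orb_of_fix (Q : Subgroup H) (hQ : IsPGroup p Q) {a : α}
    (ha : (orb Q a).ncard = p) {s : H} (hs : s ∈ Q) (hsa : s • a = a) :
    ∀ b ∈ orb Q a, s • b = b := by
  haveI := (stabilizer_normal Q hQ ha).1
  rintro b ⟨y, hy, rfl⟩
  have h1 : (⟨s, hs⟩ : ↥Q) ∈ MulAction.stabilizer ↥Q a := by
    rw [MulAction.mem_stabilizer_iff]; exact hsa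
  have h2 : (⟨y, hy⟩ : ↥Q)⁻¹ * ⟨s, hs⟩ * (⟨y, hy⟩ : ↥Q)⁻¹⁻¹ ∈ MulAction.stabilizer ↥Q a :=
    Subgroup.Normal.conj_mem inferInstance _ h1 _
  rw [MulAction.mem_stabilizer_iff] at h2
  have h3 : (y⁻¹ * s * y) • a = a := by
    have : ((⟨y, hy⟩ : ↥Q)⁻¹ * ⟨s, hs⟩ * (⟨y, hy⟩ : ↥Q)⁻¹⁻¹ : ↥Q) • a = (y⁻¹ * s * y) • a := by
      rw [inv_inv]; rfl
    rw [← this]; exact h2
  calc s • y • a = y • (y⁻¹ * s * y) • a := by
        rw [← mul_smul, ← mul_smul]; congr 1; group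
    _ = y • a := by rw [h3]

/-- `x ^ p` fixes every point of an orbit of size `p` -/
theorem pow_p_fix (Q : Subgroup H) (hQ : IsPGroup p Q) {a : α}
    (ha : (orb Q a).ncard = p) {x : H} (hx : x ∈ Q) : x ^ p • a = a := by
  obtain ⟨hn, hidx⟩ := stabilizer_normal Q hQ ha
  haveI := hn
  have h1 := Subgroup.pow_index_mem (MulAction.stabilizer ↥Q a) (⟨x, hx⟩ : ↥Q)
  rw [hidx, MulAction.mem_stabilizer_iff] at h1
  exact h1

/-- on an orbit of size `p`, `Q` acts as the powers of any element moving a point -/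
theorem exists_pow_agree (Q : Subgroup H) (hQ : IsPGroup p Q) {a : α}
    (ha : (orb Q a).ncard = p) {x₀ : H} (hx₀ : x₀ ∈ Q) (hx₀a : x₀ • a ≠ a) {x : H} (hx : x ∈ Q) :
    ∃ j : ℕ, ∀ b ∈ orb Q a, x • b = x₀ ^ j • b := by
  obtain ⟨hn, hidx⟩ := stabilizer_normal Q hQ ha
  haveI := hn
  set K := MulAction.stabilizer ↥Q a with hK
  have hcard : Nat.card (↥Q ⧸ K) = p := by
    rw [← Subgroup.index_eq_card]; exact hidx
  have hne : ((⟨x₀, hx₀⟩ : ↥Q) : ↥Q ⧸ K) ≠ 1 := by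
    intro h
    rw [QuotientGroup.eq_one_iff, hK, MulAction.mem_stabilizer_iff] at h
    exact hx₀a h
  have htop := zpowers_eq_top_of_prime_card hcard hne
  have hmem : ((⟨x, hx⟩ : ↥Q) : ↥Q ⧸ K) ∈ Subgroup.zpowers ((⟨x₀, hx₀⟩ : ↥Q) : ↥Q ⧸ K) := by
    rw [htop]; exact Subgroup.mem_top _
  haveI : Finite (↥Q ⧸ K) := Nat.finite_of_card_ne_zero (by rw [hcard]; exact hp.out.ne_zero)
  rw [← mem_powers_iff_mem_zpowers] at hmem
  obtain ⟨j, hj⟩ := hmem
  refine ⟨j, ?_⟩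
  have h1 : ((⟨x₀, hx₀⟩ : ↥Q) ^ j)⁻¹ * ⟨x, hx⟩ ∈ K := by
    rw [← QuotientGroup.eq]
    exact hj
  rw [hK, MulAction.mem_stabilizer_iff] at h1
  have h2 : ((x₀ ^ j)⁻¹ * x) • a = a := h1
  have h3 := fix_orb_of_fix Q hQ ha (Q.mul_mem (Q.inv_mem (Q.pow_mem hx₀ j)) hx) h2
  intro b hb
  have := h3 b hb
  rw [mul_smul, inv_smul_eq_iff] at this
  exact this

end pgroup

end Cfsg.Agent.Lib.Helper2.Miller
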