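import Mathlib
import Cfsg.Agent.Lib.Helper2.Miller1

set_option autoImplicit false

/-!
The core configuration for Miller's theorem: a group `H` acting on `α`, preserving a set `F` on
which it induces the full symmetric group, and a `p`-subgroup `Q` of the pointwise stabiliser of
`F` all of whose orbits outside `F` have size `p`, with the Frattini property.
-/

namespace Cfsg.Agent.Lib.Helper2.Miller

open MulAction

variable {H : Type*} [Group H] {α : Type*} [MulAction H α]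

/-- the core hypotheses -/
structure Core (p : ℕ) (F : Set α) (Q : Subgroup H) : Prop where
  inv : ∀ (h : H) (a : α), a ∈ F → h • a ∈ F
  surj : ∀ σ : Equiv.Perm F, ∃ h : H, ∀ a : F, h • (a : α) = σ a
  faith : ∀ h : H, (∀ a, a ∉ F → h • a = a) → h = 1
  QT : Q ≤ fixingSubgroup H F
  Qp : IsPGroup p Q
  orbp : ∀ a, a ∉ F → (orb Q a).ncard = p
  frat : Subgroup.normalizer (Q : Set H) ⊔ fixingSubgroup H F = ⊤

section basic

variable {p : ℕ} {F : Set α} {Q : Subgroup H}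

theorem inv_compl (hinv : ∀ (h : H) (a : α), a ∈ F → h • a ∈ F) (h : H) {a : α} (ha : a ∉ F) :
    h • a ∉ F := by
  intro h1
  apply ha
  have := hinv h⁻¹ _ h1
  rwa [inv_smul_smul] at this

theorem Core.fixF (c : Core p F Q) {x : H} (hx : x ∈ Q) {a : α} (ha : a ∈ F) : x • a = a := by
  have := c.QT hx
  rw [mem_fixingSubgroup_iff] at this
  exact this a ha

theorem Core.orb_compl (c : Core p F Q) {a b : α} (ha : a ∉ F) (hb : b ∈ orb Q a) : b ∉ F := by
  obtain ⟨x, _, rfl⟩ := hb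
  exact inv_compl c.inv x ha

/-- two elements agreeing outside `F` and both fixing `F` pointwise are equal -/
theorem Core.eq_of_agree (c : Core p F Q) {g g' : H} (h : ∀ a, a ∉ F → g • a = g' • a) :
    g = g' := by
  have h1 : g'⁻¹ * g = 1 := by
    apply c.faith
    intro a ha
    rw [mul_smul, h a ha, inv_smul_smul]
  rw [inv_mul_eq_one] at h1
  exact h1.symm

/-- the restriction homomorphism to `F` -/
def resF (hinv : ∀ (h : H) (a : α), a ∈ F → h • a ∈ F) : H →* Equiv.Perm F where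
  toFun h := ⟨fun a => ⟨h • a.1, hinv h a.1 a.2⟩, fun a => ⟨h⁻¹ • a.1, hinv h⁻¹ a.1 a.2⟩,
    fun a => by simp, fun a => by simp⟩
  map_one' := by ext a; simp
  map_mul' g h := by ext a; simp [mul_smul]

theorem resF_apply (hinv : ∀ (h : H) (a : α), a ∈ F → h • a ∈ F) (h : H) (a : F) :
    ((resF hinv h) a : α) = h • (a : α) := rfl

theorem resF_eq_one_iff (hinv : ∀ (h : H) (a : α), a ∈ F → h • a ∈ F) (h : H) :
    resF hinv h = 1 ↔ ∀ a ∈ F, h • a = a := by
  constructor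
  · intro h1 a ha
    have := congrArg (fun σ : Equiv.Perm F => ((σ ⟨a, ha⟩ : F) : α)) h1
    exact this
  · intro h1
    ext a
    exact h1 a.1 a.2

/-- **Witt's lemma**: the normaliser of `Q` induces the full symmetric group on `F`. -/
theorem Core.witt (c : Core p F Q) (σ : Equiv.Perm F) :
    ∃ n ∈ Subgroup.normalizer (Q : Set H), resF c.inv n = σ := by
  obtain ⟨h, hh⟩ := c.surj σ
  have hT : (fixingSubgroup H F).Normal := by
    constructor
    intro t ht g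
    rw [mem_fixingSubgroup_iff] at ht ⊢
    intro a ha
    rw [mul_smul, mul_smul, ht _ (c.inv g⁻¹ a ha), smul_inv_smul]
  have h1 : h ∈ Subgroup.normalizer (Q : Set H) ⊔ fixingSubgroup H F := by
    rw [c.frat]; exact Subgroup.mem_top h
  rw [← SetLike.mem_coe, Subgroup.mul_normal] at h1
  obtain ⟨n, hn, t, ht, rfl⟩ := h1
  refine ⟨n, hn, ?_⟩
  ext a
  rw [resF_apply, ← hh a, mul_smul]
  rw [SetLike.mem_coe, mem_fixingSubgroup_iff] at ht
  rw [ht a.1 a.2]

end basic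

section MZ

variable {p : ℕ} {F : Set α} {Q : Subgroup H}

/-- elements of the normaliser of `Q` preserving each `Q`-orbit outside `F` -/
def Mg (hinv : ∀ (h : H) (a : α), a ∈ F → h • a ∈ F) (Q : Subgroup H) : Subgroup H where
  carrier := {g | g ∈ Subgroup.normalizer (Q : Set H) ∧ ∀ a, a ∉ F → g • a ∈ orb Q a}
  one_mem' := ⟨Subgroup.one_mem _, fun a _ => by rw [one_smul]; exact mem_orb_self Q a⟩
  mul_mem' := by
    rintro g g' ⟨hg, hg2⟩ ⟨hg', hg2'⟩
    refine ⟨Subgroup.mul_mem _ hg hg', fun a ha => ?_⟩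
    rw [mul_smul]
    have h1 := smul_mem_orb_conj Q hg (hg2' a ha)
    rwa [orb_eq_of_mem Q (hg2 a ha)] at h1
  inv_mem' := by
    rintro g ⟨hg, hg2⟩
    refine ⟨Subgroup.inv_mem _ hg, fun a ha => ?_⟩
    have hb : g⁻¹ • a ∉ F := inv_compl hinv g⁻¹ ha
    have h1 := hg2 _ hb
    rw [smul_inv_smul] at h1
    exact mem_orb_symm Q h1

theorem mem_Mg (hinv : ∀ (h : H) (a : α), a ∈ F → h • a ∈ F) (g : H) :
    g ∈ Mg hinv Q ↔ g ∈ Subgroup.normalizer (Q : Set H) ∧ ∀ a, a ∉ F → g • a ∈ orb Q a := Iff.rfl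

/-- elements of `Mg` centralising `Q` -/
def Zg (hinv : ∀ (h : H) (a : α), a ∈ F → h • a ∈ F) (Q : Subgroup H) : Subgroup H where
  carrier := {g | g ∈ Mg hinv Q ∧ ∀ x ∈ Q, g * x = x * g}
  one_mem' := ⟨Subgroup.one_mem _, fun x _ => by simp⟩
  mul_mem' := by
    rintro g g' ⟨hg, hg2⟩ ⟨hg', hg2'⟩
    refine ⟨Subgroup.mul_mem _ hg hg', fun x hx => ?_⟩
    rw [mul_assoc, hg2' x hx, ← mul_assoc, hg2 x hx, mul_assoc]
  inv_mem' := by
    rintro g ⟨hg, hg2⟩
    refine ⟨Subgroup.inv_mem _ hg, fun x hx => ?_⟩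
    have h1 := hg2 x hx
    calc g⁻¹ * x = g⁻¹ * (x * g) * g⁻¹ := by group
      _ = g⁻¹ * (g * x) * g⁻¹ := by rw [h1]
      _ = x * g⁻¹ := by group

theorem mem_Zg (hinv : ∀ (h : H) (a : α), a ∈ F → h • a ∈ F) (g : H) :
    g ∈ Zg hinv Q ↔ g ∈ Mg hinv Q ∧ ∀ x ∈ Q, g * x = x * g := Iff.rfl

theorem Mg_le_normalizer (hinv : ∀ (h : H) (a : α), a ∈ F → h • a ∈ F) :
    Mg hinv Q ≤ Subgroup.normalizer (Q : Set H) := fun _ hg => hg.1

theorem Zg_le_Mg (hinv : ∀ (h : H) (a : α), a ∈ F → h • a ∈ F) : Zg hinv Q ≤ Mg hinv Q :=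
  fun _ hg => hg.1

theorem conj_mem_Q {n : H} (hn : n ∈ Subgroup.normalizer (Q : Set H)) {x : H} (hx : x ∈ Q) :
    n * x * n⁻¹ ∈ Q := (Subgroup.mem_normalizer_iff.mp hn x).mp hx

theorem conj_mem_Q' {n : H} (hn : n ∈ Subgroup.normalizer (Q : Set H)) {x : H} (hx : x ∈ Q) :
    n⁻¹ * x * n ∈ Q := by
  have := conj_mem_Q (Subgroup.inv_mem _ hn) hx
  rwa [inv_inv] at this

/-- `Mg` is normalised by the normaliser of `Q` -/
theorem Mg_conj (hinv : ∀ (h : H) (a : α), a ∈ F → h • a ∈ F) {n g : H}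
    (hn : n ∈ Subgroup.normalizer (Q : Set H)) (hg : g ∈ Mg hinv Q) :
    n * g * n⁻¹ ∈ Mg hinv Q := by
  refine ⟨Subgroup.mul_mem _ (Subgroup.mul_mem _ hn hg.1) (Subgroup.inv_mem _ hn), fun a ha => ?_⟩
  have hb : n⁻¹ • a ∉ F := inv_compl hinv n⁻¹ ha
  have h1 := smul_mem_orb_conj Q hn (hg.2 _ hb)
  rw [smul_inv_smul] at h1
  rw [mul_smul, mul_smul]
  exact h1

/-- `Zg` is normalised by the normaliser of `Q` -/
theorem Zg_conj (hinv : ∀ (h : H) (a : α), a ∈ F → h • a ∈ F) {n g : H}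
    (hn : n ∈ Subgroup.normalizer (Q : Set H)) (hg : g ∈ Zg hinv Q) :
    n * g * n⁻¹ ∈ Zg hinv Q := by
  refine ⟨Mg_conj hinv hn hg.1, fun x hx => ?_⟩
  have h1 := hg.2 _ (conj_mem_Q' hn hx)
  calc n * g * n⁻¹ * x = n * (g * (n⁻¹ * x * n)) * n⁻¹ := by group
    _ = n * ((n⁻¹ * x * n) * g) * n⁻¹ := by rw [h1]
    _ = x * (n * g * n⁻¹) := by group

end MZ

end Cfsg.Agent.Lib.Helper2.Miller
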