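import Mathlib
import Cfsg.Agent.Lib.Helper2.Miller2

set_option autoImplicit false

/-!
Miller's theorem, core: elements of `Zg` have order dividing `p`; commutators of `Mg` lie in `Zg`.
-/

namespace Cfsg.Agent.Lib.Helper2.Miller

open MulAction

variable {H : Type*} [Group H] [Finite H] {α : Type*} [Finite α] [MulAction H α]
variable {p : ℕ} [hp : Fact p.Prime] {F : Set α} {Q : Subgroup H}

/-- elements of `Zg` have order dividing `p` -/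
theorem Core.pow_p_Zg (c : Core p F Q) {g : H} (hg : g ∈ Zg c.inv Q) : g ^ p = 1 := by
  apply c.faith
  intro b hb
  obtain ⟨x, hx, hxb⟩ := hg.1.2 b hb
  have hcomm : Commute g x := hg.2 x hx
  have key : ∀ j : ℕ, g ^ j • b = x ^ j • b := by
    intro j
    induction j with
    | zero => simp
    | succ j ih =>
      rw [pow_succ, mul_smul, ← hxb, ← mul_smul, (hcomm.pow_left j).eq, mul_smul, ih, ← mul_smul,
        ← pow_succ']
  rw [key p]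
  exact pow_p_fix Q c.Qp (c.orbp b hb) hx

/-- some element of `Q` moves a given point outside `F` -/
theorem Core.exists_move (c : Core p F Q) {a : α} (ha : a ∉ F) : ∃ x ∈ Q, x • a ≠ a := by
  by_contra hcon
  push Not at hcon
  have h1 : orb Q a = {a} := by
    ext b
    constructor
    · rintro ⟨x, hx, rfl⟩
      exact hcon x hx
    · rintro rfl
      exact mem_orb_self Q b
  have h2 := c.orbp a ha
  rw [h1, Set.ncard_singleton] at h2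
  exact hp.out.one_lt.ne' h2.symm

/-- an element of `Mg` acts on `Q`, restricted to an orbit, as a power map -/
theorem Core.exists_multiplier (c : Core p F Q) {m : H} (hm : m ∈ Mg c.inv Q) {a : α}
    (ha : a ∉ F) : ∃ l : ℕ, ∀ x ∈ Q, ∀ b ∈ orb Q a, (m * x * m⁻¹) • b = x ^ l • b := by
  obtain ⟨x₀, hx₀, hx₀a⟩ := c.exists_move ha
  have hy₀ : m * x₀ * m⁻¹ ∈ Q := conj_mem_Q hm.1 hx₀
  obtain ⟨l, hl⟩ := exists_pow_agree Q c.Qp (c.orbp a ha) hx₀ hx₀a hy₀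
  refine ⟨l, fun x hx b hb => ?_⟩
  obtain ⟨j, hj⟩ := exists_pow_agree Q c.Qp (c.orbp a ha) hx₀ hx₀a hx
  have hbF : b ∉ F := c.orb_compl ha hb
  have hb' : m⁻¹ • b ∈ orb Q a := by
    have := (Subgroup.inv_mem _ hm).2 b hbF
    rwa [orb_eq_of_mem Q hb] at this
  have hinvO : ∀ z ∈ Q, ∀ d ∈ orb Q a, z • d ∈ orb Q a :=
    fun z hz d hd => smul_mem_orb_of_mem Q hz hd
  calc (m * x * m⁻¹) • b = m • x • m⁻¹ • b := by rw [mul_smul, mul_smul]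
    _ = m • x₀ ^ j • m⁻¹ • b := by rw [hj _ hb']
    _ = (m * x₀ * m⁻¹) ^ j • b := by rw [conj_pow, mul_smul, mul_smul]
    _ = (x₀ ^ l) ^ j • b := agree_pow (hinvO _ hy₀) hl j b hb
    _ = (x₀ ^ j) ^ l • b := by rw [pow_right_comm]
    _ = x ^ l • b := (agree_pow (hinvO _ hx) hj l b hb).symm

/-- conjugation by `m m'` and by `m' m` agree on `Q` for `m, m' ∈ Mg` -/
theorem Core.conj_comm (c : Core p F Q) {m m' : H} (hm : m ∈ Mg c.inv Q) (hm' : m' ∈ Mg c.inv Q)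
    {x : H} (hx : x ∈ Q) : (m * m') * x * (m * m')⁻¹ = (m' * m) * x * (m' * m)⁻¹ := by
  apply c.eq_of_agree
  intro a ha
  obtain ⟨l, hl⟩ := c.exists_multiplier hm ha
  obtain ⟨l', hl'⟩ := c.exists_multiplier hm' ha
  have hinvO : ∀ z ∈ Q, ∀ d ∈ orb Q a, z • d ∈ orb Q a :=
    fun z hz d hd => smul_mem_orb_of_mem Q hz hd
  have h1 : m' * x * m'⁻¹ ∈ Q := conj_mem_Q hm'.1 hx
  have h2 : m * x * m⁻¹ ∈ Q := conj_mem_Q hm.1 hx
  have e1 : (m * m') * x * (m * m')⁻¹ = m * (m' * x * m'⁻¹) * m⁻¹ := by group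
  have e2 : (m' * m) * x * (m' * m)⁻¹ = m' * (m * x * m⁻¹) * m'⁻¹ := by group
  rw [e1, e2, hl _ h1 a (mem_orb_self Q a), hl' _ h2 a (mem_orb_self Q a)]
  rw [agree_pow (hinvO _ h1) (hl' x hx) l a (mem_orb_self Q a),
    agree_pow (hinvO _ h2) (hl x hx) l' a (mem_orb_self Q a), pow_right_comm]

/-- commutators of elements of `Mg` lie in `Zg` -/
theorem Core.comm_mem_Zg (c : Core p F Q) {m m' : H} (hm : m ∈ Mg c.inv Q)
    (hm' : m' ∈ Mg c.inv Q) : m * m' * m⁻¹ * m'⁻¹ ∈ Zg c.inv Q := by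
  have hM := Mg c.inv Q
  refine ⟨Subgroup.mul_mem _ (Subgroup.mul_mem _ (Subgroup.mul_mem _ hm hm')
    (Subgroup.inv_mem _ hm)) (Subgroup.inv_mem _ hm'), fun x hx => ?_⟩
  have h := c.conj_comm (Subgroup.inv_mem _ hm) (Subgroup.inv_mem _ hm') hx
  -- `(m⁻¹ m'⁻¹) x (m⁻¹ m'⁻¹)⁻¹ = (m'⁻¹ m⁻¹) x (m'⁻¹ m⁻¹)⁻¹`
  have h2 : m * m' * m⁻¹ * m'⁻¹ * x * (m * m' * m⁻¹ * m'⁻¹)⁻¹ = x := by
    calc m * m' * m⁻¹ * m'⁻¹ * x * (m * m' * m⁻¹ * m'⁻¹)⁻¹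
        = (m * m') * ((m⁻¹ * m'⁻¹) * x * (m⁻¹ * m'⁻¹)⁻¹) * (m * m')⁻¹ := by group
      _ = (m * m') * ((m'⁻¹ * m⁻¹) * x * (m'⁻¹ * m⁻¹)⁻¹) * (m * m')⁻¹ := by rw [h]
      _ = x := by group
  calc m * m' * m⁻¹ * m'⁻¹ * x
      = (m * m' * m⁻¹ * m'⁻¹ * x * (m * m' * m⁻¹ * m'⁻¹)⁻¹) * (m * m' * m⁻¹ * m'⁻¹) := by group
    _ = x * (m * m' * m⁻¹ * m'⁻¹) := by rw [h2]

end Cfsg.Agent.Lib.Helper2.Miller
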