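import Mathlib
import Cfsg.Agent.Lib.Helper2.Miller3

set_option autoImplicit false

/-!
Miller's theorem, core: the set of `Q`-orbits outside `F`, the action of the normaliser on it,
and the resulting bound.
-/

namespace Cfsg.Agent.Lib.Helper2.Miller

open MulAction

variable {H : Type*} [Group H] {α : Type*} [MulAction H α]

/-- the set of `Q`-orbits outside `F` -/
def orbSet (F : Set α) (Q : Subgroup H) : Set (Set α) := {O | ∃ a, a ∉ F ∧ O = orb Q a}

section perm

variable {F : Set α} {Q : Subgroup H}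

theorem image_orb {n : H} (hn : n ∈ Subgroup.normalizer (Q : Set H)) (a : α) :
    (fun b => n • b) '' orb Q a = orb Q (n • a) := by
  ext c
  constructor
  · rintro ⟨b, hb, rfl⟩
    exact smul_mem_orb_conj Q hn hb
  · rintro ⟨x, hx, rfl⟩
    refine ⟨(n⁻¹ * x * n) • a, ⟨_, conj_mem_Q' hn hx, rfl⟩, ?_⟩
    show n • (n⁻¹ * x * n) • a = x • n • a
    rw [← mul_smul, ← mul_smul]
    congr 1
    group

theorem image_mem_orbSet (hinv : ∀ (h : H) (a : α), a ∈ F → h • a ∈ F) {n : H}
    (hn : n ∈ Subgroup.normalizer (Q : Set H)) {O : Set α} (hO : O ∈ orbSet F Q) :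
    (fun b => n • b) '' O ∈ orbSet F Q := by
  obtain ⟨a, ha, rfl⟩ := hO
  exact ⟨n • a, inv_compl hinv n ha, image_orb hn a⟩

/-- the permutation of the orbit set induced by an element of the normaliser -/
def permO (hinv : ∀ (h : H) (a : α), a ∈ F → h • a ∈ F) (n : H)
    (hn : n ∈ Subgroup.normalizer (Q : Set H)) : Equiv.Perm (orbSet F Q) where
  toFun O := ⟨(fun b => n • b) '' O.1, image_mem_orbSet hinv hn O.2⟩
  invFun O := ⟨(fun b => n⁻¹ • b) '' O.1, image_mem_orbSet hinv (Subgroup.inv_mem _ hn) O.2⟩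
  left_inv O := by
    apply Subtype.ext
    show (fun b => n⁻¹ • b) '' ((fun b => n • b) '' O.1) = O.1
    rw [Set.image_image]
    simp
  right_inv O := by
    apply Subtype.ext
    show (fun b => n • b) '' ((fun b => n⁻¹ • b) '' O.1) = O.1
    rw [Set.image_image]
    simp

theorem permO_apply (hinv : ∀ (h : H) (a : α), a ∈ F → h • a ∈ F) (n : H)
    (hn : n ∈ Subgroup.normalizer (Q : Set H)) (O : orbSet F Q) :
    ((permO hinv n hn O : orbSet F Q) : Set α) = (fun b => n • b) '' O.1 := rfl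

end perm

section count

variable [Finite α] {p : ℕ} {F : Set α} {Q : Subgroup H}

/-- if `Mg` acts trivially on `F`, then `|F|! ≤ (number of orbits)!` -/
theorem Core.card_perm_le (c : Core p F Q)
    (hM : ∀ m ∈ Mg c.inv Q, resF c.inv m = 1) :
    Nat.card (Equiv.Perm F) ≤ Nat.card (Equiv.Perm (orbSet F Q)) := by
  classical
  choose nn hnn hres using c.witt
  apply Nat.card_le_card_of_injective (fun σ => permO c.inv (nn σ) (hnn σ))
  intro σ τ hστ
  have hmem : (nn σ)⁻¹ * nn τ ∈ Mg c.inv Q := by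
    refine ⟨Subgroup.mul_mem _ (Subgroup.inv_mem _ (hnn σ)) (hnn τ), fun a ha => ?_⟩
    have hO : orb Q a ∈ orbSet F Q := ⟨a, ha, rfl⟩
    have h1 := congrArg (fun π : Equiv.Perm (orbSet F Q) => ((π ⟨orb Q a, hO⟩ : orbSet F Q) : Set α))
      hστ
    simp only [permO_apply] at h1
    -- `nn σ • O = nn τ • O`
    have h2 : nn τ • a ∈ (fun b => nn σ • b) '' orb Q a := by
      rw [h1]; exact ⟨a, mem_orb_self Q a, rfl⟩
    obtain ⟨b, hb, hb2⟩ := h2
    have hb3 : nn σ • b = nn τ • a := hb2
    rw [mul_smul, ← hb3, inv_smul_smul]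
    exact hb
  have h3 := hM _ hmem
  rw [map_mul, map_inv, hres, hres, inv_mul_eq_one] at h3
  exact h3

/-- the number of orbits times `p` is the number of points outside `F` -/
theorem Core.card_orbSet (c : Core p F Q) : Nat.card (orbSet F Q) * p = (Fᶜ).ncard := by
  classical
  haveI : Fintype (orbSet F Q) := Fintype.ofFinite _
  let f : ↥(Fᶜ) → orbSet F Q := fun a => ⟨orb Q a.1, a.1, a.2, rfl⟩
  have e := Equiv.sigmaFiberEquiv f
  have h1 : Nat.card ↥(Fᶜ) = Nat.card (Σ O : orbSet F Q, {x : ↥(Fᶜ) // f x = O}) :=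
    (Nat.card_congr e).symm
  have h2 : ∀ O : orbSet F Q, Nat.card {x : ↥(Fᶜ) // f x = O} = p := by
    intro O
    obtain ⟨a, ha, hOa⟩ := O.2
    have e2 : {x : ↥(Fᶜ) // f x = O} ≃ ↥(O.1) :=
      { toFun := fun x => ⟨x.1.1, by
          have := congrArg Subtype.val x.2
          rw [← this]; exact mem_orb_self Q _⟩
        invFun := fun b => ⟨⟨b.1, by
          have hb : b.1 ∈ orb Q a := hOa ▸ b.2
          exact c.orb_compl ha hb⟩, by
          apply Subtype.ext
          show orb Q b.1 = O.1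
          have hb : b.1 ∈ orb Q a := hOa ▸ b.2
          exact (orb_eq_of_mem Q hb).trans hOa.symm⟩
        left_inv := fun x => by apply Subtype.ext; apply Subtype.ext; rfl
        right_inv := fun b => by apply Subtype.ext; rfl }
    rw [Nat.card_congr e2, Nat.card_coe_set_eq, hOa, c.orbp a ha]
  rw [← Nat.card_coe_set_eq, h1, Nat.card_sigma]
  simp only [h2, Finset.sum_const, Finset.card_univ, smul_eq_mul, Nat.card_eq_fintype_card]

end count

end Cfsg.Agent.Lib.Helper2.Miller
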