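import Mathlib
import Cfsg.Agent.Lib.Helper2.Miller4

set_option autoImplicit false

/-!
Miller's theorem, core: conclusions.  `Mg` cannot act trivially on `F`; but it does when
`|F| ≥ 5`, and also when `p ∤ |F|!` and `Mg` acts on `Q` by power maps.
-/

namespace Cfsg.Agent.Lib.Helper2.Miller

open MulAction

open scoped commutatorElement

variable {H : Type*} [Group H] [Finite H] {α : Type*} [Finite α] [MulAction H α]
variable {p : ℕ} [hp : Fact p.Prime] {F : Set α} {Q : Subgroup H}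

/-- `Mg` cannot act trivially on `F` when there are fewer orbits than points of `F` -/
theorem Core.false_of_trivial (c : Core p F Q) {r k : ℕ} (hr : F.ncard = r)
    (hk : (Fᶜ).ncard = k * p) (hk1 : 1 ≤ k) (hkr : k < r)
    (hM : ∀ m ∈ Mg c.inv Q, resF c.inv m = 1) : False := by
  have h1 := c.card_perm_le hM
  rw [Nat.card_perm, Nat.card_perm, Nat.card_coe_set_eq, hr] at h1
  have h2 := c.card_orbSet
  rw [hk] at h2
  have h3 : Nat.card (orbSet F Q) = k := Nat.eq_of_mul_eq_mul_right hp.out.pos h2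
  rw [h3] at h1
  exact absurd h1 (not_le.mpr ((Nat.factorial_lt hk1).mpr hkr))

theorem Core.map_Mg_normal (c : Core p F Q) : ((Mg c.inv Q).map (resF c.inv)).Normal := by
  constructor
  rintro y ⟨m, hm, rfl⟩ σ
  obtain ⟨n, hn, rfl⟩ := c.witt σ
  exact ⟨n * m * n⁻¹, Mg_conj c.inv hn hm, by simp [map_mul]⟩

theorem Core.map_Zg_normal (c : Core p F Q) : ((Zg c.inv Q).map (resF c.inv)).Normal := by
  constructor
  rintro y ⟨m, hm, rfl⟩ σ
  obtain ⟨n, hn, rfl⟩ := c.witt σ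
  exact ⟨n * m * n⁻¹, Zg_conj c.inv hn hm, by simp [map_mul]⟩

theorem Core.pow_p_map_Zg (c : Core p F Q) {w : Equiv.Perm F}
    (hw : w ∈ (Zg c.inv Q).map (resF c.inv)) : w ^ p = 1 := by
  obtain ⟨z, hz, rfl⟩ := hw
  rw [← map_pow, c.pow_p_Zg hz, map_one]

/-- when `|F| ≥ 5`, `Mg` acts trivially on `F` -/
theorem Core.trivial_of_five (c : Core p F Q) (h5 : 5 ≤ F.ncard) :
    ∀ m ∈ Mg c.inv Q, resF c.inv m = 1 := by
  classical
  haveI : Fintype F := Fintype.ofFinite F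
  have h5' : 5 ≤ Nat.card F := by rw [Nat.card_coe_set_eq]; exact h5
  by_contra hcon
  push Not at hcon
  obtain ⟨m, hm, hm1⟩ := hcon
  set Y := (Mg c.inv Q).map (resF c.inv) with hY
  set W := (Zg c.inv Q).map (resF c.inv) with hW
  haveI := c.map_Mg_normal
  have hYnt : Nontrivial ↥Y :=
    (Subgroup.nontrivial_iff_exists_ne_one Y).mpr ⟨_, ⟨m, hm, rfl⟩, hm1⟩
  have hAY : alternatingGroup F ≤ Y := Equiv.Perm.alternatingGroup_le_of_normal h5' hYnt
  have hYW : ⁅Y, Y⁆ ≤ W := by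
    rw [Subgroup.commutator_le]
    rintro _ ⟨m₁, hm₁, rfl⟩ _ ⟨m₂, hm₂, rfl⟩
    refine ⟨m₁ * m₂ * m₁⁻¹ * m₂⁻¹, c.comm_mem_Zg hm₁ hm₂, ?_⟩
    rw [commutatorElement_def]
    simp [map_mul]
  have hAW : alternatingGroup F ≤ W := by
    rw [← commutator_alternatingGroup_eq_self h5']
    exact (Subgroup.commutator_mono hAY hAY).trans hYW
  have hPG : IsPGroup p ↥(alternatingGroup F) := by
    intro g
    refine ⟨1, ?_⟩
    rw [pow_one]
    apply Subtype.ext
    rw [Subgroup.coe_pow]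
    exact c.pow_p_map_Zg (hAW g.2)
  obtain ⟨n, hn⟩ := IsPGroup.iff_card.mp hPG
  haveI : Nontrivial F := by
    rw [← Finite.one_lt_card_iff_nontrivial]; omega
  have hidx : (alternatingGroup F).index = 2 := alternatingGroup.index_eq_two
  have hcard := Subgroup.card_mul_index (alternatingGroup F)
  rw [hidx, Nat.card_perm, hn] at hcard
  have h24 : (4 : ℕ).factorial ∣ (Nat.card F).factorial := Nat.factorial_dvd_factorial (by omega)
  rw [← hcard] at h24
  have h12 : 12 ∣ p ^ n := by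
    have : (4 : ℕ).factorial = 12 * 2 := by decide
    rw [this] at h24
    exact Nat.dvd_of_mul_dvd_mul_right (by norm_num) h24
  have h2 : 2 ∣ p ^ n := Dvd.dvd.trans (by norm_num) h12
  have h3 : 3 ∣ p ^ n := Dvd.dvd.trans (by norm_num) h12
  have e2 := (Nat.prime_dvd_prime_iff_eq Nat.prime_two hp.out).mp (Nat.prime_two.dvd_of_dvd_pow h2)
  have e3 := (Nat.prime_dvd_prime_iff_eq Nat.prime_three hp.out).mp
    (Nat.prime_three.dvd_of_dvd_pow h3)
  omega

/-- a permutation commuting with every permutation is trivial (at least three points) -/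
theorem perm_eq_one_of_central {β : Type*} (h3 : ∃ a b c : β, a ≠ b ∧ a ≠ c ∧ b ≠ c)
    (y : Equiv.Perm β) (hy : ∀ σ : Equiv.Perm β, σ * y = y * σ) : y = 1 := by
  classical
  ext a
  by_contra hne
  have hne' : y a ≠ a := hne
  obtain ⟨u, v, w, huv, huw, hvw⟩ := h3
  -- a point `d` different from `a` and `y a`
  obtain ⟨d, hda, hdy⟩ : ∃ d : β, d ≠ a ∧ d ≠ y a := by
    by_cases h1 : u ≠ a ∧ u ≠ y a
    · exact ⟨u, h1.1, h1.2⟩
    by_cases h2 : v ≠ a ∧ v ≠ y a
    · exact ⟨v, h2.1, h2.2⟩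
    by_cases h4 : w ≠ a ∧ w ≠ y a
    · exact ⟨w, h4.1, h4.2⟩
    exfalso
    push Not at h1 h2 h4
    by_cases hu : u = a <;> by_cases hv : v = a <;> by_cases hw : w = a
    all_goals first
      | exact huv (hu.trans hv.symm)
      | exact huw (hu.trans hw.symm)
      | exact hvw (hv.trans hw.symm)
      | exact hvw ((h2 hv).trans (h4 hw).symm)
      | exact huw ((h1 hu).trans (h4 hw).symm)
      | exact huv ((h1 hu).trans (h2 hv).symm)
  have h := congrArg (fun π : Equiv.Perm β => π a) (hy (Equiv.swap (y a) d))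
  simp only [Equiv.Perm.mul_apply] at h
  rw [Equiv.swap_apply_left, Equiv.swap_apply_of_ne_of_ne hne'.symm hda.symm] at h
  exact hdy h

/-- when `p ∤ |F|!`, `|F| ≥ 3` and `Mg` acts on `Q` through power maps, `Mg` acts trivially on
`F` -/
theorem Core.trivial_of_pow (c : Core p F Q) (h3 : 3 ≤ F.ncard)
    (hpF : ¬ p ∣ (F.ncard).factorial)
    (hpow : ∀ m ∈ Mg c.inv Q, ∃ l : ℕ, ∀ x ∈ Q, m * x * m⁻¹ = x ^ l) :
    ∀ m ∈ Mg c.inv Q, resF c.inv m = 1 := by
  intro m hm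
  -- the image of `Zg` is trivial
  have hW : ∀ z ∈ Zg c.inv Q, resF c.inv z = 1 := by
    intro z hz
    have h1 : (resF c.inv z) ^ p = 1 := by rw [← map_pow, c.pow_p_Zg hz, map_one]
    have h2 : (resF c.inv z) ^ (F.ncard).factorial = 1 := by
      have := pow_card_eq_one' (G := Equiv.Perm F) (x := resF c.inv z)
      rwa [Nat.card_perm, Nat.card_coe_set_eq] at this
    have h3 : orderOf (resF c.inv z) ∣ Nat.gcd p (F.ncard).factorial :=
      Nat.dvd_gcd (orderOf_dvd_of_pow_eq_one h1) (orderOf_dvd_of_pow_eq_one h2)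
    rw [(Nat.Prime.coprime_iff_not_dvd hp.out).mpr hpF] at h3
    exact orderOf_eq_one_iff.mp (Nat.dvd_one.mp h3)
  -- `[N, Mg] ≤ Zg`
  have hcomm : ∀ n ∈ Subgroup.normalizer (Q : Set H), n * m * n⁻¹ * m⁻¹ ∈ Zg c.inv Q := by
    intro n hn
    refine ⟨Subgroup.mul_mem _ (Mg_conj c.inv hn hm) (Subgroup.inv_mem _ hm), fun x hx => ?_⟩
    obtain ⟨l, hl⟩ := hpow m hm
    have hx' : m⁻¹ * x * m ∈ Q := conj_mem_Q' hm.1 hx
    have hx'' : n⁻¹ * (m⁻¹ * x * m) * n ∈ Q := conj_mem_Q' hn hx'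
    have e1 : x = (m⁻¹ * x * m) ^ l := by
      rw [← hl _ hx']; group
    have e2 : m * (n⁻¹ * (m⁻¹ * x * m) * n) * m⁻¹ = n⁻¹ * x * n := by
      rw [hl _ hx'']
      have : (n⁻¹ * (m⁻¹ * x * m) * n) ^ l = n⁻¹ * (m⁻¹ * x * m) ^ l * n := by
        have := conj_pow (a := n⁻¹) (b := m⁻¹ * x * m) (i := l)
        rw [inv_inv] at this
        exact this
      rw [this, ← e1]
    calc n * m * n⁻¹ * m⁻¹ * x
        = n * (m * (n⁻¹ * (m⁻¹ * x * m) * n) * m⁻¹) * n⁻¹ * (n * m * n⁻¹ * m⁻¹) := by group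
      _ = n * (n⁻¹ * x * n) * n⁻¹ * (n * m * n⁻¹ * m⁻¹) := by rw [e2]
      _ = x * (n * m * n⁻¹ * m⁻¹) := by group
  -- so the image of `m` is central
  apply perm_eq_one_of_central
  · have h3' : 2 < F.ncard := by omega
    obtain ⟨a, b, c', ha, hb, hc, hab, hac, hbc⟩ := (Set.two_lt_ncard_iff (Set.toFinite F)).mp h3'
    exact ⟨⟨a, ha⟩, ⟨b, hb⟩, ⟨c', hc⟩, fun h => hab (congrArg Subtype.val h),
      fun h => hac (congrArg Subtype.val h), fun h => hbc (congrArg Subtype.val h)⟩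
  · intro σ
    obtain ⟨n, hn, rfl⟩ := c.witt σ
    have := hW _ (hcomm n hn)
    rw [map_mul, map_mul, map_mul, map_inv, map_inv, mul_inv_eq_one, mul_inv_eq_iff_eq_mul] at this
    exact this

end Cfsg.Agent.Lib.Helper2.Miller
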