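import Mathlib
import Cfsg.Agent.Lib.Helper2.Miller5

set_option autoImplicit false

/-!
Miller's theorem, core: with at most three orbits and no element of `Q` supported on a single
orbit, `Mg` acts on `Q` through power maps.
-/

namespace Cfsg.Agent.Lib.Helper2.Miller

open MulAction

variable {H : Type*} [Group H] [Finite H] {α : Type*} [Finite α] [MulAction H α]
variable {p : ℕ} [hp : Fact p.Prime] {F : Set α} {Q : Subgroup H}

theorem Core.pow_p_Q (c : Core p F Q) {x : H} (hx : x ∈ Q) : x ^ p = 1 := by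
  apply c.faith
  intro a ha
  exact pow_p_fix Q c.Qp (c.orbp a ha) hx

/-- `x` fixes `O` pointwise -/
def FixO (x : H) (O : Set α) : Prop := ∀ b ∈ O, x • b = b

theorem FixO.mul {x y : H} {O : Set α} (hx : FixO x O) (hy : FixO y O) : FixO (x * y) O := by
  intro b hb; rw [mul_smul, hy b hb, hx b hb]

theorem FixO.inv {x : H} {O : Set α} (hx : FixO x O) : FixO x⁻¹ O := by
  intro b hb; rw [inv_smul_eq_iff, hx b hb]

theorem FixO.pow {x : H} {O : Set α} (hx : FixO x O) (j : ℕ) : FixO (x ^ j) O := by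
  induction j with
  | zero => intro b _; simp
  | succ j ih => rw [pow_succ]; exact ih.mul hx

/-- the correction term fixes the orbit pointwise -/
theorem Core.fixO_corr (c : Core p F Q) {m : H} {a : α} {l : ℕ}
    (hl : ∀ x ∈ Q, ∀ b ∈ orb Q a, (m * x * m⁻¹) • b = x ^ l • b) {x : H} (hx : x ∈ Q) :
    FixO (m * x * m⁻¹ * (x ^ l)⁻¹) (orb Q a) := by
  intro b hb
  have hb' : (x ^ l)⁻¹ • b ∈ orb Q a :=
    smul_mem_orb_of_mem Q (Q.inv_mem (Q.pow_mem hx l)) hb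
  rw [mul_smul, hl x hx _ hb', smul_inv_smul]

theorem Core.fixO_conj (c : Core p F Q) {m : H} {a : α} {l : ℕ}
    (hl : ∀ x ∈ Q, ∀ b ∈ orb Q a, (m * x * m⁻¹) • b = x ^ l • b) {x : H} (hx : x ∈ Q)
    (hfx : FixO x (orb Q a)) : FixO (m * x * m⁻¹) (orb Q a) := by
  intro b hb
  rw [hl x hx b hb]
  exact hfx.pow l b hb

theorem eq_of_card_le_three {T : Type*} [Finite T] (h3 : Nat.card T ≤ 3) {t₁ t₂ t₃ : T}
    (h12 : t₁ ≠ t₂) (h13 : t₁ ≠ t₃) (h23 : t₂ ≠ t₃) (t : T) : t = t₁ ∨ t = t₂ ∨ t = t₃ := by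
  classical
  haveI : Fintype T := Fintype.ofFinite T
  by_contra hcon
  push Not at hcon
  have h4 : ({t, t₁, t₂, t₃} : Finset T).card = 4 := by
    rw [Finset.card_insert_of_notMem, Finset.card_insert_of_notMem, Finset.card_insert_of_notMem,
      Finset.card_singleton]
    · simpa using h23
    · simp [h12, h13]
    · simp [hcon.1, hcon.2.1, hcon.2.2]
  have h5 := Finset.card_le_univ ({t, t₁, t₂, t₃} : Finset T)
  rw [h4, ← Nat.card_eq_fintype_card] at h5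
  omega

/-- with at most three orbits and no element of `Q` supported on a single orbit, every element
of `Mg` acts on `Q` as a power map -/
theorem Core.exists_pow_map (c : Core p F Q) (h3 : Nat.card (orbSet F Q) ≤ 3)
    (hnc : ∀ x ∈ Q, ∀ O ∈ orbSet F Q, (∀ O' ∈ orbSet F Q, O' ≠ O → FixO x O') → x = 1)
    {m : H} (hm : m ∈ Mg c.inv Q) : ∃ l : ℕ, ∀ x ∈ Q, m * x * m⁻¹ = x ^ l := by
  by_cases hne : ∃ a₁, a₁ ∉ F
  swap
  · push Not at hne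
    refine ⟨1, fun x hx => ?_⟩
    have hx1 : x = 1 := c.faith x (fun a ha => absurd (hne a) ha)
    subst hx1
    simp
  obtain ⟨a₁, ha₁⟩ := hne
  obtain ⟨l₁, hl₁⟩ := c.exists_multiplier hm ha₁
  by_cases hA : ∀ x ∈ Q, m * x * m⁻¹ * (x ^ l₁)⁻¹ = 1
  · exact ⟨l₁, fun x hx => mul_inv_eq_one.mp (hA x hx)⟩
  push Not at hA
  obtain ⟨x₁, hx₁, hy1⟩ := hA
  set y := m * x₁ * m⁻¹ * (x₁ ^ l₁)⁻¹ with hy
  have hyQ : y ∈ Q := Q.mul_mem (conj_mem_Q hm.1 hx₁) (Q.inv_mem (Q.pow_mem hx₁ l₁))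
  have hyO₁ : FixO y (orb Q a₁) := c.fixO_corr hl₁ hx₁
  -- a second orbit, moved by `y`
  obtain ⟨a₂, ha₂, hya₂⟩ : ∃ a₂, a₂ ∉ F ∧ y • a₂ ≠ a₂ := by
    by_contra hcon
    push Not at hcon
    exact hy1 (c.faith y hcon)
  have hO₁ : orb Q a₁ ∈ orbSet F Q := ⟨a₁, ha₁, rfl⟩
  have hO₂ : orb Q a₂ ∈ orbSet F Q := ⟨a₂, ha₂, rfl⟩
  have hyO₂ : ¬ FixO y (orb Q a₂) := fun h => hya₂ (h a₂ (mem_orb_self Q a₂))
  have h12 : orb Q a₁ ≠ orb Q a₂ := fun h => hyO₂ (h ▸ hyO₁)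
  -- a third orbit, moved by `y`
  obtain ⟨O₃, hO₃, h32, hyO₃⟩ : ∃ O₃ ∈ orbSet F Q, O₃ ≠ orb Q a₂ ∧ ¬ FixO y O₃ := by
    by_contra hcon
    push Not at hcon
    exact hy1 (hnc y hyQ _ hO₂ hcon)
  obtain ⟨a₃, ha₃, rfl⟩ := hO₃
  have hO₃ : orb Q a₃ ∈ orbSet F Q := ⟨a₃, ha₃, rfl⟩
  have h13 : orb Q a₁ ≠ orb Q a₃ := fun h => hyO₃ (h ▸ hyO₁)
  have hall : ∀ O ∈ orbSet F Q, O = orb Q a₁ ∨ O = orb Q a₂ ∨ O = orb Q a₃ := by
    intro O hO
    have := eq_of_card_le_three h3 (t₁ := (⟨_, hO₁⟩ : orbSet F Q)) (t₂ := ⟨_, hO₂⟩)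
      (t₃ := ⟨_, hO₃⟩) (fun h => h12 (congrArg Subtype.val h))
      (fun h => h13 (congrArg Subtype.val h)) (fun h => h32.symm (congrArg Subtype.val h)) ⟨O, hO⟩
    rcases this with h | h | h
    · exact Or.inl (congrArg Subtype.val h)
    · exact Or.inr (Or.inl (congrArg Subtype.val h))
    · exact Or.inr (Or.inr (congrArg Subtype.val h))
  obtain ⟨l₂, hl₂⟩ := c.exists_multiplier hm ha₂
  obtain ⟨l₃, hl₃⟩ := c.exists_multiplier hm ha₃
  -- `m y m⁻¹ = y ^ l₂ = y ^ l₃`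
  have e2 : m * y * m⁻¹ * (y ^ l₂)⁻¹ = 1 := by
    apply hnc _ (Q.mul_mem (conj_mem_Q hm.1 hyQ) (Q.inv_mem (Q.pow_mem hyQ l₂))) _ hO₃
    intro O' hO' hne'
    rcases hall O' hO' with rfl | rfl | rfl
    · exact (c.fixO_conj hl₁ hyQ hyO₁).mul (hyO₁.pow l₂).inv
    · exact c.fixO_corr hl₂ hyQ
    · exact absurd rfl hne'
  have e3 : m * y * m⁻¹ * (y ^ l₃)⁻¹ = 1 := by
    apply hnc _ (Q.mul_mem (conj_mem_Q hm.1 hyQ) (Q.inv_mem (Q.pow_mem hyQ l₃))) _ hO₂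
    intro O' hO' hne'
    rcases hall O' hO' with rfl | rfl | rfl
    · exact (c.fixO_conj hl₁ hyQ hyO₁).mul (hyO₁.pow l₃).inv
    · exact absurd rfl hne'
    · exact c.fixO_corr hl₃ hyQ
  have e23 : y ^ l₂ = y ^ l₃ := by
    rw [← mul_inv_eq_one.mp e2, mul_inv_eq_one.mp e3]
  have hord : orderOf y = p := orderOf_eq_prime (c.pow_p_Q hyQ) hy1
  have hmod : l₂ ≡ l₃ [MOD p] := by
    rw [← hord]; exact pow_eq_pow_iff_modEq.mp e23
  have hpw : ∀ x ∈ Q, x ^ l₂ = x ^ l₃ := by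
    intro x hx
    rw [pow_eq_pow_iff_modEq]
    exact hmod.of_dvd (orderOf_dvd_of_pow_eq_one (c.pow_p_Q hx))
  refine ⟨l₂, fun x hx => ?_⟩
  apply mul_inv_eq_one.mp
  apply hnc _ (Q.mul_mem (conj_mem_Q hm.1 hx) (Q.inv_mem (Q.pow_mem hx l₂))) _ hO₁
  intro O' hO' hne'
  rcases hall O' hO' with rfl | rfl | rfl
  · exact absurd rfl hne'
  · exact c.fixO_corr hl₂ hx
  · rw [hpw x hx]; exact c.fixO_corr hl₃ hx

end Cfsg.Agent.Lib.Helper2.Miller
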