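import Mathlib
import Cfsg.Agent.Lib.Helper2.Miller6

set_option autoImplicit false

/-!
Miller's theorem, core: the final contradiction, and the construction of the core configuration
from a Sylow subgroup of the pointwise stabiliser.
-/

namespace Cfsg.Agent.Lib.Helper2.Miller

open MulAction

variable {H : Type*} [Group H] [Finite H] {α : Type*} [Finite α] [MulAction H α]
variable {p : ℕ} [hp : Fact p.Prime] {F : Set α}

/-- the core configuration is contradictory -/
theorem Core.false {Q : Subgroup H} (c : Core p F Q) {r k : ℕ} (hr : F.ncard = r)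
    (hk : (Fᶜ).ncard = k * p) (hk1 : 1 ≤ k) (hkr : k < r) (h3 : 3 ≤ r)
    (hsmall : r < 5 → ¬ p ∣ r.factorial ∧
      ∀ x ∈ Q, ∀ O ∈ orbSet F Q, (∀ O' ∈ orbSet F Q, O' ≠ O → FixO x O') → x = 1) : False := by
  rcases Nat.lt_or_ge r 5 with h5 | h5
  · obtain ⟨hpr, hnc⟩ := hsmall h5
    have h2 := c.card_orbSet
    rw [hk] at h2
    have hcard : Nat.card (orbSet F Q) = k := Nat.eq_of_mul_eq_mul_right hp.out.pos h2
    apply c.false_of_trivial hr hk hk1 hkr
    apply c.trivial_of_pow (by omega) (by rw [hr]; exact hpr)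
    intro m hm
    exact c.exists_pow_map (by omega) hnc hm
  · exact c.false_of_trivial hr hk hk1 hkr (c.trivial_of_five (by omega))

theorem fixingSubgroup_normal (hinv : ∀ (h : H) (a : α), a ∈ F → h • a ∈ F) :
    (fixingSubgroup H F).Normal := by
  constructor
  intro t ht g
  rw [mem_fixingSubgroup_iff] at ht ⊢
  intro a ha
  rw [mul_smul, mul_smul, ht _ (hinv g⁻¹ a ha), smul_inv_smul]

/-- orbits of a Sylow `p`-subgroup of the pointwise stabiliser outside `F` have size `p` -/
theorem orbp_of_sylow (hinv : ∀ (h : H) (a : α), a ∈ F → h • a ∈ F)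
    (htrans : ∀ a b, a ∉ F → b ∉ F → ∃ t ∈ fixingSubgroup H F, t • a = b)
    {k : ℕ} (hk : (Fᶜ).ncard = k * p) (hk1 : 1 ≤ k) (hkp : k < p)
    (P : Sylow p (fixingSubgroup H F)) (Q : Subgroup H)
    (hQ : Q = (P : Subgroup (fixingSubgroup H F)).map (fixingSubgroup H F).subtype) :
    ∀ a, a ∉ F → (orb Q a).ncard = p := by
  intro a ha
  have hQp : IsPGroup p Q := by
    rw [hQ]
    rintro ⟨y, z, hz, rfl⟩
    obtain ⟨j, hj⟩ := P.isPGroup' ⟨z, hz⟩
    refine ⟨j, ?_⟩
    apply Subtype.ext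
    have := congrArg (fun w : ↥(P : Subgroup (fixingSubgroup H F)) =>
      ((w : fixingSubgroup H F) : H)) hj
    simpa using this
  -- the orbit of `a` under `T` is the complement of `F`
  have horb : MulAction.orbit ↥(fixingSubgroup H F) a = Fᶜ := by
    ext b
    constructor
    · rintro ⟨t, rfl⟩
      exact inv_compl hinv (t : H) ha
    · intro hb
      obtain ⟨t, ht, rfl⟩ := htrans a b ha hb
      exact ⟨⟨t, ht⟩, rfl⟩
  have hidx : (MulAction.stabilizer ↥(fixingSubgroup H F) a).index = k * p := by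
    rw [MulAction.index_stabilizer, horb, hk]
  -- some element of `Q` moves `a`
  have hmove : ∃ x ∈ Q, x • a ≠ a := by
    by_contra hcon
    push Not at hcon
    have hle : (P : Subgroup (fixingSubgroup H F)) ≤
        MulAction.stabilizer ↥(fixingSubgroup H F) a := by
      intro y hy
      rw [MulAction.mem_stabilizer_iff]
      have hyQ : (y : H) ∈ Q := by rw [hQ]; exact ⟨y, hy, rfl⟩
      exact hcon (y : H) hyQ
    have h1 := Subgroup.index_dvd_of_le hle
    rw [hidx] at h1
    exact P.not_dvd_index ((Dvd.intro_left k rfl).trans h1)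
  obtain ⟨x, hx, hxa⟩ := hmove
  obtain ⟨n, hn⟩ := ncard_orb_pow Q hQp a
  have hn0 : n ≠ 0 := by
    rintro rfl
    rw [pow_zero, Set.ncard_eq_one] at hn
    obtain ⟨c, hc⟩ := hn
    have h1 : a ∈ orb Q a := mem_orb_self Q a
    have h2 : x • a ∈ orb Q a := smul_mem_orb Q hx a
    rw [hc, Set.mem_singleton_iff] at h1 h2
    exact hxa (h2.trans h1.symm)
  have hsub : orb Q a ⊆ Fᶜ := by
    rintro b ⟨y, hy, rfl⟩
    exact inv_compl hinv y ha
  have hle : (orb Q a).ncard ≤ (Fᶜ).ncard := Set.ncard_le_ncard hsub (Set.toFinite _)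
  rw [hn, hk] at hle
  have hlt : p ^ n < p ^ 2 := by
    calc p ^ n ≤ k * p := hle
      _ < p * p := Nat.mul_lt_mul_of_pos_right hkp hp.out.pos
      _ = p ^ 2 := (sq p).symm
  have hn2 : n < 2 := (Nat.pow_lt_pow_iff_right hp.out.one_lt).mp hlt
  have hn1 : n = 1 := by omega
  rw [hn, hn1, pow_one]

/-- the core configuration built from a Sylow subgroup -/
theorem core_of_sylow (hinv : ∀ (h : H) (a : α), a ∈ F → h • a ∈ F)
    (hsurj : ∀ σ : Equiv.Perm F, ∃ h : H, ∀ a : F, h • (a : α) = σ a)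
    (hfaith : ∀ h : H, (∀ a, a ∉ F → h • a = a) → h = 1)
    (htrans : ∀ a b, a ∉ F → b ∉ F → ∃ t ∈ fixingSubgroup H F, t • a = b)
    {k : ℕ} (hk : (Fᶜ).ncard = k * p) (hk1 : 1 ≤ k) (hkp : k < p)
    (P : Sylow p (fixingSubgroup H F)) :
    Core p F ((P : Subgroup (fixingSubgroup H F)).map (fixingSubgroup H F).subtype) := by
  haveI := fixingSubgroup_normal hinv
  refine ⟨hinv, hsurj, hfaith, ?_, ?_, orbp_of_sylow hinv htrans hk hk1 hkp P _ rfl, ?_⟩
  · rintro x ⟨z, _, rfl⟩
    exact z.2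
  · rintro ⟨y, z, hz, rfl⟩
    obtain ⟨j, hj⟩ := P.isPGroup' ⟨z, hz⟩
    refine ⟨j, ?_⟩
    apply Subtype.ext
    have := congrArg (fun w : ↥(P : Subgroup (fixingSubgroup H F)) =>
      ((w : fixingSubgroup H F) : H)) hj
    simpa using this
  · exact Sylow.normalizer_sup_eq_top P

end Cfsg.Agent.Lib.Helper2.Miller
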