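import Mathlib
import Cfsg.Agent.Lib.Helper2.Miller7

set_option autoImplicit false

/-!
Miller's theorem: instantiation of the core configuration for a multiply transitive permutation
group.
-/

namespace Cfsg.Agent.Lib.Helper2.Miller

open MulAction Equiv

variable {α : Type*} [Fintype α] [DecidableEq α]

/-- setwise stabiliser of `F` in `G` -/
def setStab (G : Subgroup (Perm α)) (F : Set α) : Subgroup (Perm α) where
  carrier := {g | g ∈ G ∧ ∀ a, a ∈ F ↔ g a ∈ F}
  one_mem' := ⟨G.one_mem, fun a => by simp⟩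
  mul_mem' := by
    rintro g h ⟨hg, hg2⟩ ⟨hh, hh2⟩
    exact ⟨G.mul_mem hg hh, fun a => by rw [Perm.mul_apply, ← hg2, ← hh2]⟩
  inv_mem' := by
    rintro g ⟨hg, hg2⟩
    refine ⟨G.inv_mem hg, fun a => ?_⟩
    rw [hg2 (g⁻¹ a)]; simp

theorem smul_setStab (G : Subgroup (Perm α)) (F : Set α) (h : setStab G F) (a : α) :
    h • a = (h : Perm α) a := rfl

theorem card_support_le {g : Perm α} {T : Set α} (h : ∀ a, a ∉ T → g a = a) :
    g.support.card ≤ T.ncard := by
  rw [← Set.ncard_coe_finset]
  apply Set.ncard_le_ncard _ (Set.toFinite T)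
  intro a ha
  by_contra hT
  rw [Finset.mem_coe, Perm.mem_support] at ha
  exact ha (h a hT)

/-- an element of prime order `p` moving at most `p` points is a `p`-cycle -/
theorem isCycle_of_pow_p {p : ℕ} (hp : p.Prime) {g : Perm α} (hg1 : g ≠ 1) (hgp : g ^ p = 1)
    (hsupp : g.support.card ≤ p) : g.IsCycle ∧ g.support.card = p := by
  haveI : Fact p.Prime := ⟨hp⟩
  have hord : orderOf g = p := orderOf_eq_prime hgp hg1
  obtain ⟨n, hn⟩ := Perm.cycleType_prime_order (σ := g) (by rw [hord]; exact hp)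
  have hsum := Perm.sum_cycleType g
  rw [hn, Multiset.sum_replicate, hord, smul_eq_mul] at hsum
  have hn0 : n = 0 := by
    by_contra h
    have : 2 * p ≤ (n + 1) * p := Nat.mul_le_mul_right p (by omega)
    have := hp.pos
    omega
  subst hn0
  refine ⟨?_, by omega⟩
  rw [← Perm.card_cycleType_eq_one, hn]
  simp

end Cfsg.Agent.Lib.Helper2.Miller
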