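import Mathlib
import Cfsg.Agent.Lib.Helper2.Miller8

set_option autoImplicit false

/-!
Miller's theorem: the main argument for a multiply transitive permutation group, modulo the
theorems on elements of small support, on `p`-cycles and the exceptional prime `3`.
-/

namespace Cfsg.Agent.Lib.Helper2.Miller

open MulAction Equiv

variable {α : Type*} [Fintype α] [DecidableEq α]

theorem miller_aux (G : Subgroup (Perm α)) {k p r : ℕ} [hp : Fact p.Prime]
    (hn : Fintype.card α = k * p + r) (hk : 1 ≤ k) (hpk : k < p) (hrk : k < r) (h3 : 3 ≤ r)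
    (hG : IsMultiplyPretransitive G α (r + 1))
    (hsupp : ∀ g ∈ G, g ≠ 1 → 2 * r ≤ g.support.card)
    (hcyc : ∀ g ∈ G, g.IsCycle → g.support.card ≠ p)
    (hp5 : 2 ≤ k → r < 5 → ¬ p ∣ r.factorial) : False := by
  classical
  have hkp1 : 1 ≤ k * p := Nat.mul_pos (by omega) hp.out.pos
  have hrn1 : r + 1 ≤ Fintype.card α := by omega
  have hrn : r ≤ Fintype.card α := by omega
  obtain ⟨x⟩ := Function.Embedding.nonempty_of_card_le (α := Fin r) (β := α) (by simpa using hrn)
  set F : Set α := Set.range x with hF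
  have hFr : F.ncard = r := by rw [hF, Set.ncard_range_of_injective x.injective, Nat.card_fin]
  have hFc : (Fᶜ).ncard = k * p := by
    rw [Set.ncard_compl, hFr, Nat.card_eq_fintype_card, hn]; omega
  have hinv : ∀ (h : setStab G F) (a : α), a ∈ F → h • a ∈ F := fun h a ha => (h.2.2 a).mp ha
  -- surjectivity onto `Perm F`
  haveI hr' : IsMultiplyPretransitive G α r :=
    isMultiplyPretransitive_of_le (n := r + 1) (by omega)
      (by rw [Nat.card_eq_fintype_card]; exact hrn1)
  have hsurj : ∀ σ : Equiv.Perm F, ∃ h : setStab G F, ∀ a : F, h • (a : α) = σ a := by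
    intro σ
    let x' : Fin r ↪ α := ⟨fun i => (σ ⟨x i, ⟨i, rfl⟩⟩ : α), by
      intro i j hij
      have h1 := σ.injective (Subtype.ext hij)
      exact x.injective (congrArg Subtype.val h1)⟩
    obtain ⟨g, hg⟩ := exists_smul_eq G x x'
    have hgx : ∀ i, (g : Perm α) (x i) = (σ ⟨x i, ⟨i, rfl⟩⟩ : α) := by
      intro i
      have := congrArg (fun e : Fin r ↪ α => e i) hg
      exact this
    have hmem : (g : Perm α) ∈ setStab G F := by
      refine ⟨g.2, fun a => ⟨?_, ?_⟩⟩
      · rintro ⟨i, rfl⟩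
        rw [hgx]
        exact (σ _).2
      · intro h
        obtain ⟨i, hi⟩ := (σ⁻¹ ⟨(g : Perm α) a, h⟩).2
        have h1 : (σ ⟨x i, ⟨i, rfl⟩⟩ : α) = (g : Perm α) a := by
          have : (⟨x i, ⟨i, rfl⟩⟩ : F) = σ⁻¹ ⟨(g : Perm α) a, h⟩ := Subtype.ext hi
          rw [this]
          simp
        rw [← hgx] at h1
        rw [← (g : Perm α).injective h1]
        exact ⟨i, rfl⟩
    refine ⟨⟨g, hmem⟩, ?_⟩
    rintro ⟨_, i, rfl⟩
    exact hgx i
  -- faithfulness outside `F`
  have hfaith : ∀ h : setStab G F, (∀ a, a ∉ F → h • a = a) → h = 1 := by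
    intro h hfix
    by_contra hne
    have h1 : (h : Perm α) ≠ 1 := fun e => hne (Subtype.ext e)
    have h2 := hsupp h h.2.1 h1
    have h4 : (h : Perm α).support.card ≤ F.ncard := card_support_le (T := F) hfix
    omega
  -- transitivity of the pointwise stabiliser
  have htrans : ∀ a b, a ∉ F → b ∉ F → ∃ t ∈ fixingSubgroup (setStab G F) F, t • a = b := by
    intro a b ha hb
    haveI : Finite F := Set.toFinite F
    have h1 : IsMultiplyPretransitive (fixingSubgroup G F) (SubMulAction.ofFixingSubgroup G F) 1 :=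
      SubMulAction.ofFixingSubgroup.isMultiplyPretransitive G (n := r + 1) F (by rw [hFr])
    haveI := is_one_pretransitive_iff.mp h1
    obtain ⟨t, ht⟩ := exists_smul_eq (fixingSubgroup G F)
      (⟨a, (SubMulAction.mem_ofFixingSubgroup_iff G).mpr ha⟩ : SubMulAction.ofFixingSubgroup G F)
      ⟨b, (SubMulAction.mem_ofFixingSubgroup_iff G).mpr hb⟩
    have hta : ((t : G) : Perm α) a = b := congrArg Subtype.val ht
    have htF : ∀ c ∈ F, ((t : G) : Perm α) c = c := by
      intro c hc
      have := (mem_fixingSubgroup_iff G).mp t.2 c hc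
      exact this
    have hmem : ((t : G) : Perm α) ∈ setStab G F := by
      refine ⟨(t : G).2, fun c => ⟨fun hc => by rw [htF c hc]; exact hc, fun hc => ?_⟩⟩
      have := htF _ hc
      rw [← ((t : G) : Perm α).injective this]
      exact hc
    refine ⟨⟨_, hmem⟩, ?_, hta⟩
    rw [mem_fixingSubgroup_iff]
    intro c hc
    exact htF c hc
  obtain ⟨P⟩ : Nonempty (Sylow p (fixingSubgroup (setStab G F) F)) := inferInstance
  have c := core_of_sylow hinv hsurj hfaith htrans hFc hk hpk P
  set Q := (P : Subgroup (fixingSubgroup (setStab G F) F)).map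
    (fixingSubgroup (setStab G F) F).subtype with hQ
  -- no element of `Q` is supported on a single orbit
  have hnc : ∀ y ∈ Q, ∀ O ∈ orbSet F Q, (∀ O' ∈ orbSet F Q, O' ≠ O → FixO y O') → y = 1 := by
    intro y hy O hO hfix
    by_contra hy1
    have hg1 : (y : Perm α) ≠ 1 := fun e => hy1 (Subtype.ext e)
    have hgp : (y : Perm α) ^ p = 1 := by
      have := congrArg (fun z : setStab G F => (z : Perm α)) (c.pow_p_Q hy)
      simpa using this
    have hfixO : ∀ a, a ∉ O → (y : Perm α) a = a := by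
      intro a haO
      by_cases haF : a ∈ F
      · exact c.fixF hy haF
      · have hO' : orb Q a ∈ orbSet F Q := ⟨a, haF, rfl⟩
        have hne : orb Q a ≠ O := fun e => haO (e ▸ mem_orb_self Q a)
        exact hfix _ hO' hne a (mem_orb_self Q a)
    obtain ⟨a₀, ha₀, rfl⟩ := hO
    have hle : (y : Perm α).support.card ≤ p := by
      have := card_support_le (T := orb Q a₀) hfixO
      rwa [c.orbp a₀ ha₀] at this
    obtain ⟨hcy, hcard⟩ := isCycle_of_pow_p hp.out hg1 hgp hle
    exact hcyc _ y.2.1 hcy hcard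
  by_cases hk2 : 2 ≤ k
  · exact c.false hFr hFc hk hrk h3 (fun h5 => ⟨hp5 hk2 h5, hnc⟩)
  · have hk1 : k = 1 := by omega
    have h2 := c.card_orbSet
    rw [hFc, hk1] at h2
    have hcard : Nat.card (orbSet F Q) = 1 := Nat.eq_of_mul_eq_mul_right hp.out.pos h2
    obtain ⟨hss, _⟩ := Nat.card_eq_one_iff_unique.mp hcard
    have hne : (Fᶜ).Nonempty := by
      rw [← Set.ncard_pos (Set.toFinite _), hFc]
      exact Nat.mul_pos (by omega) hp.out.pos
    obtain ⟨a, ha⟩ := hne
    obtain ⟨y, hy, hya⟩ := c.exists_move ha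
    have hO : orb Q a ∈ orbSet F Q := ⟨a, ha, rfl⟩
    have := hnc y hy _ hO (fun O' hO' hne' =>
      absurd (congrArg Subtype.val (hss.elim (⟨O', hO'⟩ : orbSet F Q) ⟨_, hO⟩)) hne')
    rw [this, one_smul] at hya
    exact hya rfl

end Cfsg.Agent.Lib.Helper2.Miller
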