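import Mathlib
import Cfsg.Agent.Lib.Helper9.SLRoot5
import Cfsg.Agent.Lib.Helper1.SLn
import Cfsg.Agent.Lib.Lead.MinIdxDefs

/-!
# S2140, package W1 (part a): stabilizers of subspaces in `SL_n`, the subspace of transvection
centres of a subgroup, transitivity of `SL_n` on nonzero vectors
-/

set_option autoImplicit false

namespace Cfsg.Agent.Lib.Helper2.MinIdx

open Matrix Cfsg.Agent.H9SLRoot Cfsg.Agent.Lib.Lead.MinIdx

section general

variable {G : Type*} [Group G]

/-- a family of elements whose quotients avoid `H` gives a lower bound for the index -/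
theorem card_le_index_of_inj [Finite G] (H : Subgroup G) {X : Type*} (f : X → G)
    (hf : ∀ a b, (f a)⁻¹ * f b ∈ H → a = b) : Nat.card X ≤ H.index := by
  have hinj : Function.Injective (fun a => (f a : G ⧸ H)) := by
    intro a b hab
    exact hf a b (QuotientGroup.eq.mp hab)
  exact Nat.card_le_card_of_injective _ hinj

end general

variable {F : Type*} [Field F] {n : ℕ}

/-- the stabilizer of a subspace -/
def stabSub (D : Submodule F (Fin n → F)) : Subgroup (Matrix.SpecialLinearGroup (Fin n) F) where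
  carrier := {g | ∀ v, (g : Matrix (Fin n) (Fin n) F) *ᵥ v ∈ D ↔ v ∈ D}
  one_mem' := by
    intro v
    rw [coe_one_mulVec]
  mul_mem' := by
    intro a b ha hb v
    rw [coe_mul_mulVec, ha, hb]
  inv_mem' := by
    intro a ha v
    have := (ha (((a⁻¹ : Matrix.SpecialLinearGroup (Fin n) F) : Matrix (Fin n) (Fin n) F) *ᵥ v)).symm
    rwa [mulVec_inv_mulVec] at this

theorem mem_stabSub {D : Submodule F (Fin n → F)} {g : Matrix.SpecialLinearGroup (Fin n) F} :
    g ∈ stabSub D ↔ ∀ v, (g : Matrix (Fin n) (Fin n) F) *ᵥ v ∈ D ↔ v ∈ D := Iff.rfl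

/-- the set of transvection centres all of whose transvections lie in `M` -/
def dirSet (M : Subgroup (Matrix.SpecialLinearGroup (Fin n) F)) : Set (Fin n → F) :=
  {y | ∀ φ : Fin n → F, φ ⬝ᵥ y = 0 → tv y φ 1 ∈ M}

theorem tv_zero_left (φ : Fin n → F) (c : F) : tv (0 : Fin n → F) φ c = 1 := by
  apply sl_ext
  intro v
  rw [tv_mulVec (dotProduct_zero _), coe_one_mulVec, smul_zero, add_zero]

theorem dirSet_zero (M : Subgroup (Matrix.SpecialLinearGroup (Fin n) F)) :
    (0 : Fin n → F) ∈ dirSet M := by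
  intro φ _
  rw [tv_zero_left]
  exact M.one_mem

theorem tv_smul_left (c : F) (y φ : Fin n → F) : tv (c • y) φ 1 = tv y (c • φ) 1 := by
  have h1 := tv_smul c 1 y φ 1
  have h2 := tv_smul 1 c y φ 1
  rw [one_smul] at h1 h2
  rw [h1, h2]
  congr 1
  ring

theorem dirSet_smul (M : Subgroup (Matrix.SpecialLinearGroup (Fin n) F)) (c : F) {y : Fin n → F}
    (hy : y ∈ dirSet M) : c • y ∈ dirSet M := by
  by_cases hc : c = 0
  · rw [hc, zero_smul]
    exact dirSet_zero M
  · intro φ hφ
    rw [tv_smul_left]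
    apply hy
    rw [dotProduct_smul, smul_eq_mul] at hφ
    rw [smul_dotProduct, smul_eq_mul]
    rcases mul_eq_zero.mp hφ with h | h
    · exact absurd h hc
    · rw [h, mul_zero]

theorem dirSet_mulVec (M : Subgroup (Matrix.SpecialLinearGroup (Fin n) F))
    {g : Matrix.SpecialLinearGroup (Fin n) F} (hg : g ∈ M) {y : Fin n → F} (hy : y ∈ dirSet M) :
    (g : Matrix (Fin n) (Fin n) F) *ᵥ y ∈ dirSet M := by
  intro φ hφ
  have h1 : (φ ᵥ* (g : Matrix (Fin n) (Fin n) F)) ⬝ᵥ y = 0 := by
    rw [← Matrix.dotProduct_mulVec]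
    exact hφ
  have h2 := tv_conj g y (φ ᵥ* (g : Matrix (Fin n) (Fin n) F)) 1
  rw [vecMul_vecMul_inv] at h2
  rw [← h2]
  exact M.mul_mem (M.mul_mem hg (hy _ h1)) (M.inv_mem hg)

theorem dirSet_add (M : Subgroup (Matrix.SpecialLinearGroup (Fin n) F)) {a b : Fin n → F}
    (ha : a ∈ dirSet M) (hb : b ∈ dirSet M) : a + b ∈ dirSet M := by
  by_cases hba : b ∈ Submodule.span F {a}
  · obtain ⟨c, rfl⟩ := Submodule.mem_span_singleton.mp hba
    have : a + c • a = (1 + c) • a := by rw [add_smul, one_smul]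
    rw [this]
    exact dirSet_smul M _ ha
  · obtain ⟨ρ, r1, r2⟩ := exists_dot_sep hba
    have ht : tv a ρ 1 ∈ M := ha ρ r2
    have := dirSet_mulVec M ht hb
    rw [tv_mulVec r2, r1, mul_one, one_smul, add_comm] at this
    exact this

/-- the subspace of transvection centres of `M` -/
def dirD (M : Subgroup (Matrix.SpecialLinearGroup (Fin n) F)) : Submodule F (Fin n → F) where
  carrier := dirSet M
  add_mem' := fun ha hb => dirSet_add M ha hb
  zero_mem' := dirSet_zero M
  smul_mem' := fun c _ hy => dirSet_smul M c hy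

theorem mem_dirD {M : Subgroup (Matrix.SpecialLinearGroup (Fin n) F)} {y : Fin n → F} :
    y ∈ dirD M ↔ ∀ φ : Fin n → F, φ ⬝ᵥ y = 0 → tv y φ 1 ∈ M := Iff.rfl

theorem le_stabSub_dirD (M : Subgroup (Matrix.SpecialLinearGroup (Fin n) F)) :
    M ≤ stabSub (dirD M) := by
  intro g hg v
  constructor
  · intro h
    have := dirSet_mulVec M (M.inv_mem hg) h
    rwa [inv_mulVec_mulVec] at this
  · intro h
    exact dirSet_mulVec M hg h

theorem mem_dirD_of_Qgrp_le {M : Subgroup (Matrix.SpecialLinearGroup (Fin n) F)} {x : Fin n → F}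
    (hQ : Qgrp x ≤ M) : x ∈ dirD M := by
  intro φ hφ
  exact hQ (mem_Qgrp.mpr ⟨φ, hφ, rfl⟩)

/-- if every vector is a transvection centre of `M`, then `M = ⊤` -/
theorem eq_top_of_dirD_eq_top (hn : 2 ≤ n) (M : Subgroup (Matrix.SpecialLinearGroup (Fin n) F))
    (h : dirD M = ⊤) : M = ⊤ := by
  have : Nontrivial (Fin n) := Fin.nontrivial_iff_two_le.2 hn
  apply Cfsg.Agent.Lib.Helper1.eq_top_of_transvection_mem
  intro i j hij c
  have he : (e i : Fin n → F) ∈ dirD M := by rw [h]; trivial
  have h1 : (c • (e j : Fin n → F)) ⬝ᵥ (e i : Fin n → F) = 0 := by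
    rw [smul_dotProduct, e_dot_e_ne hij.symm, smul_zero]
  have h2 := he _ h1
  have h3 := tv_smul (1 : F) c (e i : Fin n → F) (e j) 1
  rw [one_smul] at h3
  rw [h3] at h2
  have h4 : tv (e i : Fin n → F) (e j) (1 * c * 1) = Matrix.SpecialLinearGroup.transvection hij c := by
    apply Subtype.ext
    rw [tv_e_coe hij, one_mul, mul_one]
    rfl
  rwa [h4] at h2

/-- `SL_n` is transitive on nonzero vectors for `n ≥ 2` -/
theorem exists_sl_mulVec_eq (hn : 2 ≤ n) {x y : Fin n → F} (hx : x ≠ 0) (hy : y ≠ 0) :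
    ∃ g : Matrix.SpecialLinearGroup (Fin n) F, (g : Matrix (Fin n) (Fin n) F) *ᵥ x = y := by
  have key : ∀ {a b : Fin n → F}, a ∉ Submodule.span F {b} → b ∉ Submodule.span F {a} →
      ∃ g : Matrix.SpecialLinearGroup (Fin n) F, (g : Matrix (Fin n) (Fin n) F) *ᵥ a = b := by
    intro a b h1 h2
    obtain ⟨u, hu, _⟩ := move_center (φ := 0) (zero_dotProduct a) (zero_dotProduct b) h1 h2
    exact ⟨u, hu⟩
  rcases span_dichotomy hx hy with ⟨lam, hlam, rfl⟩ | ⟨h1, h2⟩
  · -- dependent: go through a third vector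
    have hlt : Submodule.span F {y} < ⊤ := by
      rw [lt_top_iff_ne_top]
      intro htop
      have h1 : Module.finrank F (Submodule.span F {y}) = 1 := finrank_span_singleton hy
      rw [htop, finrank_top, Module.finrank_fin_fun] at h1
      omega
    obtain ⟨z, -, hz⟩ := SetLike.exists_of_lt hlt
    have hz0 : z ≠ 0 := by
      rintro rfl
      exact hz (Submodule.zero_mem _)
    have hzy : z ∉ Submodule.span F {y} ∧ y ∉ Submodule.span F {z} := by
      rcases span_dichotomy hz0 hy with ⟨mu, _, rfl⟩ | h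
      · exact absurd (Submodule.smul_mem _ mu (Submodule.mem_span_singleton_self y)) hz
      · exact h
    have hzx : lam • y ∉ Submodule.span F {z} ∧ z ∉ Submodule.span F {lam • y} := by
      constructor
      · intro h
        apply hzy.2
        have := Submodule.smul_mem _ lam⁻¹ h
        rwa [smul_smul, inv_mul_cancel₀ hlam, one_smul] at this
      · intro h
        apply hzy.1
        obtain ⟨mu, rfl⟩ := Submodule.mem_span_singleton.mp h
        rw [smul_smul]
        exact Submodule.smul_mem _ _ (Submodule.mem_span_singleton_self y)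
    obtain ⟨g1, hg1⟩ := key hzx.1 hzx.2
    obtain ⟨g2, hg2⟩ := key hzy.1 hzy.2
    exact ⟨g2 * g1, by rw [coe_mul_mulVec, hg1, hg2]⟩
  · exact key h1 h2

end Cfsg.Agent.Lib.Helper2.MinIdx
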