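import Cfsg.Agent.Lib.Helper2.MinIdxW1a

/-!
# S2140, package W1 (part b): the stabilizer of a point or of a hyperplane has index
`(q^n - 1)/(q - 1)` at least
-/

set_option autoImplicit false

namespace Cfsg.Agent.Lib.Helper2.MinIdx

open Matrix Cfsg.Agent.H9SLRoot Cfsg.Agent.Lib.Lead.MinIdx
open scoped LinearAlgebra.Projectivization

variable {F : Type*} [Field F] [Fintype F] {n : ℕ}

theorem card_proj :
    Nat.card (ℙ F (Fin n → F)) = (Fintype.card F ^ n - 1) / (Fintype.card F - 1) := by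
  rw [Projectivization.card'', Nat.card_fun, Nat.card_eq_fintype_card, Nat.card_eq_fintype_card,
    Fintype.card_fin]

instance finite_sl : Finite (Matrix.SpecialLinearGroup (Fin n) F) := by
  unfold Matrix.SpecialLinearGroup
  infer_instance

/-- the stabilizer of a point -/
theorem index_stabSub_of_finrank_one (hn : 2 ≤ n) (D : Submodule F (Fin n → F))
    (hD : Module.finrank F D = 1) :
    (Fintype.card F ^ n - 1) / (Fintype.card F - 1) ≤ (stabSub D).index := by
  obtain ⟨⟨x0, hx0D⟩, hx0, hspan⟩ := finrank_eq_one_iff'.mp hD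
  have hx0' : x0 ≠ 0 := fun h => hx0 (Subtype.ext h)
  have hmem : ∀ w ∈ D, ∃ c : F, c • x0 = w := by
    intro w hw
    obtain ⟨c, hc⟩ := hspan ⟨w, hw⟩
    exact ⟨c, congrArg Subtype.val hc⟩
  choose f hf using fun P : ℙ F (Fin n → F) => exists_sl_mulVec_eq hn hx0' P.rep_nonzero
  rw [← card_proj]
  apply card_le_index_of_inj (stabSub D) f
  intro a b hab
  have h1 := (mem_stabSub.mp hab x0).mpr hx0D
  rw [coe_mul_mulVec, hf b] at h1
  obtain ⟨c, hc⟩ := hmem _ h1
  have h2 : c • a.rep = b.rep := by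
    have h3 : (f a : Matrix (Fin n) (Fin n) F) *ᵥ (c • x0) =
        (f a : Matrix (Fin n) (Fin n) F) *ᵥ
          (((f a)⁻¹ : Matrix.SpecialLinearGroup (Fin n) F) : Matrix (Fin n) (Fin n) F) *ᵥ b.rep := by
      rw [hc]
    rw [mulVec_inv_mulVec, Matrix.mulVec_smul, hf a] at h3
    exact h3
  rw [← Projectivization.mk_rep a, ← Projectivization.mk_rep b]
  exact ((Projectivization.mk_eq_mk_iff' F _ _ b.rep_nonzero a.rep_nonzero).mpr ⟨c, h2⟩).symm

omit [Fintype F] in
/-- a hyperplane is the kernel of a dot product -/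
theorem exists_dot_of_finrank (D : Submodule F (Fin n → F))
    (hD : Module.finrank F D + 1 = n) :
    ∃ ψ : Fin n → F, ψ ≠ 0 ∧ ∀ v, v ∈ D ↔ ψ ⬝ᵥ v = 0 := by
  have hne : D ≠ ⊤ := by
    intro h
    rw [h, finrank_top, Module.finrank_fin_fun] at hD
    omega
  obtain ⟨x, -, hx⟩ := SetLike.exists_of_lt (lt_top_iff_ne_top.mpr hne)
  obtain ⟨f, hfx, hf⟩ := Submodule.exists_dual_map_eq_bot_of_notMem hx inferInstance
  have hle : D ≤ LinearMap.ker f := by
    intro d hd
    rw [LinearMap.mem_ker]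
    have : f d ∈ D.map f := Submodule.mem_map_of_mem hd
    rw [hf] at this
    exact (Submodule.mem_bot F).mp this
  have hsurj : Function.Surjective f := by
    intro c
    refine ⟨(c / f x) • x, ?_⟩
    rw [map_smul, smul_eq_mul, div_mul_cancel₀ _ hfx]
  have hrk := LinearMap.finrank_range_add_finrank_ker f
  rw [LinearMap.range_eq_top.mpr hsurj, finrank_top, Module.finrank_self,
    Module.finrank_fin_fun] at hrk
  have heq : D = LinearMap.ker f := Submodule.eq_of_le_of_finrank_eq hle (by omega)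
  refine ⟨fun i => f (Pi.single i 1), ?_, ?_⟩
  · intro h0
    apply hfx
    rw [dual_eq_dot f x, h0, zero_dotProduct]
  · intro v
    rw [heq, LinearMap.mem_ker, dual_eq_dot f v]

/-- the stabilizer of a hyperplane -/
theorem index_stabSub_of_finrank_pred (hn : 2 ≤ n) (D : Submodule F (Fin n → F))
    (hD : Module.finrank F D + 1 = n) :
    (Fintype.card F ^ n - 1) / (Fintype.card F - 1) ≤ (stabSub D).index := by
  obtain ⟨ψ, hψ0, hψ⟩ := exists_dot_of_finrank D hD
  choose k hk using fun P : ℙ F (Fin n → F) => exists_sl_mulVec_eq hn hψ0 P.rep_nonzero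
  have hh : ∀ P : ℙ F (Fin n → F),
      ψ ᵥ* (((k P).transpose : Matrix.SpecialLinearGroup (Fin n) F) : Matrix (Fin n) (Fin n) F) =
        P.rep := by
    intro P
    rw [Matrix.SpecialLinearGroup.coe_transpose, Matrix.vecMul_transpose, hk]
  rw [← card_proj]
  apply card_le_index_of_inj (stabSub D) (fun P => ((k P).transpose)⁻¹)
  intro a b hab
  simp only [inv_inv] at hab
  have key : ∀ w : Fin n → F, a.rep ⬝ᵥ w = 0 ↔ b.rep ⬝ᵥ w = 0 := by
    intro w
    have := mem_stabSub.mp hab
      ((((k b).transpose : Matrix.SpecialLinearGroup (Fin n) F) : Matrix (Fin n) (Fin n) F) *ᵥ w)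
    rw [coe_mul_mulVec, inv_mulVec_mulVec, hψ, hψ, Matrix.dotProduct_mulVec,
      Matrix.dotProduct_mulVec, hh, hh] at this
    exact this
  rw [← Projectivization.mk_rep a, ← Projectivization.mk_rep b]
  rcases span_dichotomy a.rep_nonzero b.rep_nonzero with ⟨lam, _, h⟩ | ⟨h1, _⟩
  · exact (Projectivization.mk_eq_mk_iff' F _ _ a.rep_nonzero b.rep_nonzero).mpr ⟨lam, h.symm⟩
  · exfalso
    obtain ⟨ρ, r1, r2⟩ := exists_dot_sep h1
    have h3 := (key ρ).mpr (by rw [dotProduct_comm]; exact r2)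
    rw [dotProduct_comm, r1] at h3
    exact one_ne_zero h3

end Cfsg.Agent.Lib.Helper2.MinIdx
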