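import Cfsg.Agent.Lib.Helper2.MinIdxW1b

/-!
# S2140, package W1 (part c): the stabilizer of a subspace of dimension `2 ≤ r ≤ n - 2` has at
least `q ^ (r (n - r))` conjugates (graphs of linear maps to a complement), and the package
theorem `index_ge_of_Qgrp_le`
-/

set_option autoImplicit false
set_option linter.unusedSectionVars false

namespace Cfsg.Agent.Lib.Helper2.MinIdx

open Matrix Cfsg.Agent.H9SLRoot Cfsg.Agent.Lib.Lead.MinIdx

variable {F : Type*} [Field F] {n : ℕ}

section graph

variable {D C : Submodule F (Fin n → F)} (hDC : IsCompl D C)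

/-- the nilpotent map `v ↦ B (proj_D v)` -/
noncomputable def nilB (B : D →ₗ[F] C) : (Fin n → F) →ₗ[F] (Fin n → F) :=
  C.subtype ∘ₗ B ∘ₗ D.projectionOnto C hDC

/-- the projection onto `D` along `C` as an endomorphism -/
noncomputable def projD : (Fin n → F) →ₗ[F] (Fin n → F) :=
  D.subtype ∘ₗ D.projectionOnto C hDC

theorem nilB_comp_projD (B : D →ₗ[F] C) : nilB hDC B ∘ₗ projD hDC = nilB hDC B := by
  apply LinearMap.ext
  intro v
  simp only [nilB, projD, LinearMap.comp_apply, Submodule.subtype_apply]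
  rw [Submodule.projectionOnto_apply_left]

theorem projD_comp_nilB (B : D →ₗ[F] C) : projD hDC ∘ₗ nilB hDC B = 0 := by
  apply LinearMap.ext
  intro v
  simp only [nilB, projD, LinearMap.comp_apply, Submodule.subtype_apply, LinearMap.zero_apply]
  rw [Submodule.projectionOnto_apply_right]
  rfl

theorem det_one_add_nilB (B : D →ₗ[F] C) :
    (1 + LinearMap.toMatrix' (nilB hDC B)).det = 1 := by
  have h1 : LinearMap.toMatrix' (nilB hDC B) =
      LinearMap.toMatrix' (nilB hDC B) * LinearMap.toMatrix' (projD hDC) := by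
    rw [← LinearMap.toMatrix'_comp, nilB_comp_projD]
  have h2 : LinearMap.toMatrix' (projD hDC) * LinearMap.toMatrix' (nilB hDC B) = 0 := by
    rw [← LinearMap.toMatrix'_comp, projD_comp_nilB, map_zero]
  rw [h1, Matrix.det_one_add_mul_comm, h2, add_zero, Matrix.det_one]

/-- the unipotent element `1 + nilB B` -/
noncomputable def gB (B : D →ₗ[F] C) : Matrix.SpecialLinearGroup (Fin n) F :=
  ⟨1 + LinearMap.toMatrix' (nilB hDC B), det_one_add_nilB hDC B⟩

theorem gB_mulVec (B : D →ₗ[F] C) (v : Fin n → F) :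
    (gB hDC B : Matrix (Fin n) (Fin n) F) *ᵥ v = v + nilB hDC B v := by
  show (1 + LinearMap.toMatrix' (nilB hDC B)) *ᵥ v = _
  rw [Matrix.add_mulVec, Matrix.one_mulVec, LinearMap.toMatrix'_mulVec]

theorem gB_mulVec_mem (B : D →ₗ[F] C) (d : D) :
    (gB hDC B : Matrix (Fin n) (Fin n) F) *ᵥ (d : Fin n → F) = (d : Fin n → F) + (B d : Fin n → F) := by
  rw [gB_mulVec]
  simp only [nilB, LinearMap.comp_apply, Submodule.subtype_apply]
  rw [Submodule.projectionOnto_apply_left]

variable [Fintype F]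

include hDC in
theorem card_linearMap_le_index : Nat.card (D →ₗ[F] C) ≤ (stabSub D).index := by
  apply card_le_index_of_inj (stabSub D) (gB hDC)
  intro B B' h
  apply LinearMap.ext
  intro d
  have h1 := (mem_stabSub.mp h (d : Fin n → F)).mpr d.2
  rw [coe_mul_mulVec, gB_mulVec_mem] at h1
  set d' : Fin n → F :=
    (((gB hDC B)⁻¹ : Matrix.SpecialLinearGroup (Fin n) F) : Matrix (Fin n) (Fin n) F) *ᵥ
      ((d : Fin n → F) + (B' d : Fin n → F)) with hd'
  have h2 : (gB hDC B : Matrix (Fin n) (Fin n) F) *ᵥ d' = (d : Fin n → F) + (B' d : Fin n → F) := by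
    rw [hd', mulVec_inv_mulVec]
  have h3 := gB_mulVec_mem hDC B ⟨d', h1⟩
  rw [h2] at h3
  have h4 : (d : Fin n → F) - d' = ((B ⟨d', h1⟩ : C) : Fin n → F) - ((B' d : C) : Fin n → F) := by
    rw [sub_eq_sub_iff_add_eq_add, h3]
    exact add_comm _ _
  have h5 : (d : Fin n → F) - d' ∈ D ⊓ C :=
    ⟨D.sub_mem d.2 h1, by rw [h4]; exact C.sub_mem (B _).2 (B' d).2⟩
  rw [hDC.inf_eq_bot, Submodule.mem_bot, sub_eq_zero] at h5
  have h6 : (⟨d', h1⟩ : D) = d := Subtype.ext h5.symm
  rw [h6, h5, sub_self] at h4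
  exact Subtype.ext (sub_eq_zero.mp h4.symm)

omit hDC in
theorem card_linearMap :
    Nat.card (D →ₗ[F] C) = Fintype.card F ^ (Module.finrank F D * Module.finrank F C) := by
  rw [Module.natCard_eq_pow_finrank (K := F) (V := D →ₗ[F] C), Module.finrank_linearMap,
    Nat.card_eq_fintype_card]

end graph

variable [Fintype F]

/-- the stabilizer of a proper nonzero subspace has index at least `(q^n - 1)/(q - 1)` -/
theorem index_stabSub_ge (hn : 2 ≤ n) (D : Submodule F (Fin n → F)) (h0 : D ≠ ⊥) (h1 : D ≠ ⊤) :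
    (Fintype.card F ^ n - 1) / (Fintype.card F - 1) ≤ (stabSub D).index := by
  have hr0 : 0 < Module.finrank F D := by
    rw [Module.finrank_pos_iff_exists_ne_zero]
    obtain ⟨x, hx, hx0⟩ := Submodule.exists_mem_ne_zero_of_ne_bot h0
    exact ⟨⟨x, hx⟩, fun h => hx0 (congrArg Subtype.val h)⟩
  have hrn : Module.finrank F D < n := by
    have := Submodule.finrank_lt h1
    rwa [Module.finrank_fin_fun] at this
  by_cases hr1 : Module.finrank F D = 1
  · exact index_stabSub_of_finrank_one hn D hr1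
  by_cases hr2 : Module.finrank F D + 1 = n
  · exact index_stabSub_of_finrank_pred hn D hr2
  obtain ⟨C, hDC⟩ := Submodule.exists_isCompl D
  have hC := Submodule.finrank_add_eq_of_isCompl hDC
  rw [Module.finrank_fin_fun] at hC
  have hq : 2 ≤ Fintype.card F := Fintype.one_lt_card
  refine le_trans ?_ (card_linearMap_le_index hDC)
  rw [card_linearMap]
  set r := Module.finrank F D
  set s := Module.finrank F C
  have hrs : n ≤ r * s := by
    have hr : 2 ≤ r := by omega
    have hs : 2 ≤ s := by omega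
    rw [← hC]
    nlinarith
  calc (Fintype.card F ^ n - 1) / (Fintype.card F - 1) ≤ Fintype.card F ^ n - 1 := Nat.div_le_self _ _
    _ ≤ Fintype.card F ^ n := Nat.sub_le _ _
    _ ≤ Fintype.card F ^ (r * s) := Nat.pow_le_pow_right (by omega) hrs

end Cfsg.Agent.Lib.Helper2.MinIdx

namespace Cfsg.Agent.Lib.Lead.MinIdx

open Matrix Cfsg.Agent.H9SLRoot Cfsg.Agent.Lib.Helper2.MinIdx

variable {F : Type*} [Field F] [Fintype F] [DecidableEq F] {n : ℕ}

/-! ### (W1) a proper subgroup containing all transvections with a given centre -/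
theorem index_ge_of_Qgrp_le (hn : 2 ≤ n) (M : Subgroup (Matrix.SpecialLinearGroup (Fin n) F))
    (hM : M ≠ ⊤) (x : Fin n → F) (hx : x ≠ 0) (hQ : Qgrp x ≤ M) :
    (Fintype.card F ^ n - 1) / (Fintype.card F - 1) ≤ M.index := by
  have hxD : x ∈ dirD M := mem_dirD_of_Qgrp_le hQ
  have h0 : dirD M ≠ ⊥ := by
    intro h
    rw [h, Submodule.mem_bot] at hxD
    exact hx hxD
  have h1 : dirD M ≠ ⊤ := fun h => hM (eq_top_of_dirD_eq_top hn M h)
  have h2 := index_stabSub_ge hn (dirD M) h0 h1
  have h3 : (stabSub (dirD M)).index ≤ M.index := by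
    apply Nat.le_of_dvd
    · exact Nat.pos_of_ne_zero Subgroup.index_ne_zero_of_finite
    · exact Subgroup.index_dvd_of_le (le_stabSub_dirD M)
  exact le_trans h2 h3

end Cfsg.Agent.Lib.Lead.MinIdx
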