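import Mathlib

set_option autoImplicit false

/-!
A minimal normal subgroup of a finite group is a direct power of a simple group.
-/

namespace Cfsg.Agent.Lib.Helper2.MinNormalPower

/-- `(Fin m → T) × T ≃* (Fin (m + 1) → T)`. -/
def piConsMulEquiv (T : Type*) [Group T] (m : ℕ) : (Fin m → T) × T ≃* (Fin (m + 1) → T) where
  toFun x := Fin.cons x.2 x.1
  invFun f := (fun i => f i.succ, f 0)
  left_inv := by
    rintro ⟨a, b⟩
    simp
  right_inv f := by
    funext i
    refine Fin.cases ?_ (fun j => ?_) i <;> simp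
  map_mul' x y := by
    funext i
    refine Fin.cases ?_ (fun j => ?_) i <;> simp

variable {H : Type*} [Group H]

/-- `L` is a normal subgroup of `N`. -/
def NN (N L : Subgroup H) : Prop := L ≤ N ∧ N ≤ Subgroup.normalizer (L : Set H)

theorem NN.conj_mem {N L : Subgroup H} (h : NN N L) {n x : H} (hn : n ∈ N) (hx : x ∈ L) :
    n * x * n⁻¹ ∈ L :=
  (Subgroup.mem_normalizer_iff.mp (h.2 hn) x).mp hx

theorem NN.inf {N L₁ L₂ : Subgroup H} (h₁ : NN N L₁) (h₂ : NN N L₂) : NN N (L₁ ⊓ L₂) := by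
  refine ⟨inf_le_left.trans h₁.1, fun n hn => ?_⟩
  rw [Subgroup.mem_normalizer_iff]
  intro x
  constructor
  · intro hx
    rw [Subgroup.mem_inf] at hx ⊢
    exact ⟨h₁.conj_mem hn hx.1, h₂.conj_mem hn hx.2⟩
  · intro hx
    rw [Subgroup.mem_inf] at hx ⊢
    have e : x = n⁻¹ * (n * x * n⁻¹) * n⁻¹⁻¹ := by group
    rw [e]
    exact ⟨h₁.conj_mem (N.inv_mem hn) hx.1, h₂.conj_mem (N.inv_mem hn) hx.2⟩

theorem NN.sup {N L₁ L₂ : Subgroup H} (h₁ : NN N L₁) (h₂ : NN N L₂) : NN N (L₁ ⊔ L₂) := by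
  refine ⟨sup_le h₁.1 h₂.1, fun n hn => ?_⟩
  have key : ∀ m ∈ N, ∀ x ∈ L₁ ⊔ L₂, m * x * m⁻¹ ∈ L₁ ⊔ L₂ := by
    intro m hm x hx
    have hmap : (L₁ ⊔ L₂).map (MulAut.conj m).toMonoidHom ≤ L₁ ⊔ L₂ := by
      rw [Subgroup.map_sup]
      apply sup_le_sup
      · rintro _ ⟨y, hy, rfl⟩
        exact h₁.conj_mem hm hy
      · rintro _ ⟨y, hy, rfl⟩
        exact h₂.conj_mem hm hy
    exact hmap ⟨x, hx, rfl⟩
  rw [Subgroup.mem_normalizer_iff]
  intro x
  constructor
  · exact key n hn x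
  · intro hx
    have e : x = n⁻¹ * (n * x * n⁻¹) * n⁻¹⁻¹ := by group
    rw [e]
    exact key _ (N.inv_mem hn) _ hx

theorem NN.map_conj {N L : Subgroup H} [hN : N.Normal] (h : NN N L) (g : H) :
    NN N (L.map (MulAut.conj g).toMonoidHom) := by
  constructor
  · rintro _ ⟨x, hx, rfl⟩
    exact hN.conj_mem x (h.1 hx) g
  · intro n hn
    have key : ∀ m ∈ N, ∀ y ∈ L.map (MulAut.conj g).toMonoidHom,
        m * y * m⁻¹ ∈ L.map (MulAut.conj g).toMonoidHom := by
      rintro m hm _ ⟨x, hx, rfl⟩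
      refine ⟨(g⁻¹ * m * g⁻¹⁻¹) * x * (g⁻¹ * m * g⁻¹⁻¹)⁻¹, ?_, ?_⟩
      · exact h.conj_mem (hN.conj_mem m hm g⁻¹) hx
      · show g * ((g⁻¹ * m * g⁻¹⁻¹) * x * (g⁻¹ * m * g⁻¹⁻¹)⁻¹) * g⁻¹ = m * (g * x * g⁻¹) * m⁻¹
        group
    rw [Subgroup.mem_normalizer_iff]
    intro x
    constructor
    · exact key n hn x
    · intro hx
      have e : x = n⁻¹ * (n * x * n⁻¹) * n⁻¹⁻¹ := by group
      rw [e]
      exact key _ (N.inv_mem hn) _ hx

theorem commute_of_NN_disjoint {N L₁ L₂ : Subgroup H} (h₁ : NN N L₁) (h₂ : NN N L₂)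
    (hd : L₁ ⊓ L₂ = ⊥) {x y : H} (hx : x ∈ L₁) (hy : y ∈ L₂) : Commute x y := by
  have h1 : x * y * x⁻¹ * y⁻¹ ∈ L₁ ⊓ L₂ := by
    rw [Subgroup.mem_inf]
    constructor
    · have : y * x⁻¹ * y⁻¹ ∈ L₁ := h₁.conj_mem (h₂.1 hy) (L₁.inv_mem hx)
      have e : x * y * x⁻¹ * y⁻¹ = x * (y * x⁻¹ * y⁻¹) := by group
      rw [e]
      exact L₁.mul_mem hx this
    · have : x * y * x⁻¹ ∈ L₂ := h₂.conj_mem (h₁.1 hx) hy
      exact L₂.mul_mem this (L₂.inv_mem hy)
  rw [hd, Subgroup.mem_bot] at h1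
  show x * y = y * x
  calc x * y = (x * y * x⁻¹ * y⁻¹) * (y * x) := by group
    _ = y * x := by rw [h1, one_mul]

/-- internal direct product of two commuting subgroups with trivial intersection -/
theorem nonempty_sup_equiv_prod {L₁ L₂ : Subgroup H} (hc : ∀ x ∈ L₁, ∀ y ∈ L₂, Commute x y)
    (hd : L₁ ⊓ L₂ = ⊥) : Nonempty (↥(L₁ ⊔ L₂) ≃* ↥L₁ × ↥L₂) := by
  have hc' : ∀ (m : ↥L₁) (n : ↥L₂), Commute (L₁.subtype m) (L₂.subtype n) :=
    fun m n => hc m m.2 n n.2
  have hinj : Function.Injective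
      (MonoidHom.noncommCoprod L₁.subtype L₂.subtype hc') := by
    rw [MonoidHom.noncommCoprod_injective]
    refine ⟨L₁.subtype_injective, L₂.subtype_injective, ?_⟩
    rw [Subgroup.range_subtype, Subgroup.range_subtype, disjoint_iff, hd]
  have hrange : (MonoidHom.noncommCoprod L₁.subtype L₂.subtype hc').range = L₁ ⊔ L₂ := by
    rw [MonoidHom.noncommCoprod_range, Subgroup.range_subtype, Subgroup.range_subtype]
  exact ⟨((MonoidHom.ofInjective hinj).trans (MulEquiv.subgroupCongr hrange)).symm⟩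

variable [Finite H]

/-- A minimal normal subgroup of a finite group is a direct power of a simple group. -/
theorem exists_equiv_pi (N : Subgroup H) [hNn : N.Normal] (hN : N ≠ ⊥)
    (hmin : ∀ M : Subgroup H, M.Normal → M ≤ N → M = ⊥ ∨ M = N) :
    ∃ (T₀ : Subgroup H) (m : ℕ), IsSimpleGroup ↥T₀ ∧ 0 < m ∧ Nonempty (↥N ≃* (Fin m → ↥T₀)) := by
  classical
  have hNN : NN N N := ⟨le_refl _, Subgroup.le_normalizer⟩
  -- a minimal normal subgroup of N
  obtain ⟨T₀, ⟨hT₀, hT₀ne⟩, hT₀min⟩ := WellFounded.has_min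
    (measure (fun L : Subgroup H => Nat.card L)).wf {L | NN N L ∧ L ≠ ⊥} ⟨N, hNN, hN⟩
  have hT₀min' : ∀ L : Subgroup H, NN N L → L ≤ T₀ → L = ⊥ ∨ L = T₀ := by
    intro L hL hLT
    by_cases hL0 : L = ⊥
    · exact Or.inl hL0
    · right
      have h1 := hT₀min L ⟨hL, hL0⟩
      have h2 : Nat.card T₀ ≤ Nat.card L := not_lt.mp h1
      exact Subgroup.eq_of_le_of_card_ge hLT h2
  -- its conjugates
  have hCmin : ∀ g : H, ∀ L : Subgroup H, NN N L → L ≤ T₀.map (MulAut.conj g).toMonoidHom →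
      L = ⊥ ∨ L = T₀.map (MulAut.conj g).toMonoidHom := by
    intro g L hL hLC
    have h1 : L.map (MulAut.conj g⁻¹).toMonoidHom ≤ T₀ := by
      rintro _ ⟨x, hx, rfl⟩
      obtain ⟨t, ht, rfl⟩ := hLC hx
      show g⁻¹ * (g * t * g⁻¹) * g⁻¹⁻¹ ∈ T₀
      have e : g⁻¹ * (g * t * g⁻¹) * g⁻¹⁻¹ = t := by group
      rw [e]; exact ht
    have hback : (L.map (MulAut.conj g⁻¹).toMonoidHom).map (MulAut.conj g).toMonoidHom = L := by
      rw [Subgroup.map_map]
      have : (MulAut.conj g).toMonoidHom.comp (MulAut.conj g⁻¹).toMonoidHom = MonoidHom.id H := by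
        ext x
        show g * (g⁻¹ * x * g⁻¹⁻¹) * g⁻¹ = x
        group
      rw [this, Subgroup.map_id]
    rcases hT₀min' _ (hL.map_conj g⁻¹) h1 with h2 | h2
    · left
      rw [← hback, h2, Subgroup.map_bot]
    · right
      rw [← hback, h2]
  have hCNN : ∀ g : H, NN N (T₀.map (MulAut.conj g).toMonoidHom) := fun g => hT₀.map_conj g
  -- the conjugates generate N
  have hgen : (⨆ g : H, T₀.map (MulAut.conj g).toMonoidHom) = N := by
    have hnorm : (⨆ g : H, T₀.map (MulAut.conj g).toMonoidHom).Normal := by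
      constructor
      intro n hn k
      have hmap : (⨆ g : H, T₀.map (MulAut.conj g).toMonoidHom).map (MulAut.conj k).toMonoidHom
          ≤ ⨆ g : H, T₀.map (MulAut.conj g).toMonoidHom := by
        rw [Subgroup.map_iSup]
        apply iSup_le
        intro g
        rw [Subgroup.map_map]
        have : (MulAut.conj k).toMonoidHom.comp (MulAut.conj g).toMonoidHom
            = (MulAut.conj (k * g)).toMonoidHom := by
          ext x
          show k * (g * x * g⁻¹) * k⁻¹ = (k * g) * x * (k * g)⁻¹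
          group
        rw [this]
        exact le_iSup (fun g : H => T₀.map (MulAut.conj g).toMonoidHom) (k * g)
      exact hmap ⟨n, hn, rfl⟩
    have hle : (⨆ g : H, T₀.map (MulAut.conj g).toMonoidHom) ≤ N :=
      iSup_le fun g => (hCNN g).1
    rcases hmin _ hnorm hle with h | h
    · exfalso
      apply hT₀ne
      have h1 : T₀.map (MulAut.conj (1 : H)).toMonoidHom ≤ ⊥ := by
        rw [← h]
        exact le_iSup (fun g : H => T₀.map (MulAut.conj g).toMonoidHom) 1
      have h2 : T₀.map (MulAut.conj (1 : H)).toMonoidHom = T₀ := by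
        rw [map_one]
        exact Subgroup.map_id T₀
      rw [h2] at h1
      exact le_bot_iff.mp h1
    · exact h
  -- T₀ is simple
  have hsimple : IsSimpleGroup ↥T₀ := by
    haveI : Nontrivial ↥T₀ := (Subgroup.nontrivial_iff_ne_bot T₀).mpr hT₀ne
    refine ⟨fun L hL => ?_⟩
    -- L' = image of L in H is normal in N
    have hL'T : L.map T₀.subtype ≤ T₀ := Subgroup.map_subtype_le L
    have hT₀normL : ∀ t ∈ T₀, ∀ x ∈ L.map T₀.subtype, t * x * t⁻¹ ∈ L.map T₀.subtype := by
      rintro t ht _ ⟨x, hx, rfl⟩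
      exact ⟨⟨t, ht⟩ * x * ⟨t, ht⟩⁻¹, hL.conj_mem x hx ⟨t, ht⟩, rfl⟩
    have hNnormL : ∀ n ∈ N, ∀ x ∈ L.map T₀.subtype, n * x * n⁻¹ ∈ L.map T₀.subtype := by
      intro n hn
      rw [← hgen] at hn
      refine Subgroup.iSup_induction (C := fun n => ∀ x ∈ L.map T₀.subtype,
        n * x * n⁻¹ ∈ L.map T₀.subtype) _ hn ?_ ?_ ?_
      · intro g c hc x hx
        by_cases hCT : T₀.map (MulAut.conj g).toMonoidHom = T₀
        · rw [hCT] at hc
          exact hT₀normL c hc x hx
        · have hinf : T₀.map (MulAut.conj g).toMonoidHom ⊓ T₀ = ⊥ := by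
            rcases hT₀min' _ ((hCNN g).inf hT₀) inf_le_right with h | h
            · exact h
            · exfalso
              rcases hCmin g _ ((hCNN g).inf hT₀) inf_le_left with h' | h'
              · rw [h] at h'; exact hT₀ne h'
              · rw [h] at h'; exact hCT h'.symm
          have hcomm := commute_of_NN_disjoint (hCNN g) hT₀ hinf hc (hL'T hx)
          have e : c * x * c⁻¹ = x := by
            rw [hcomm.eq]; group
          rw [e]; exact hx
      · intro x hx
        rw [one_mul, inv_one, mul_one]; exact hx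
      · intro a b ha hb x hx
        have e : (a * b) * x * (a * b)⁻¹ = a * (b * x * b⁻¹) * a⁻¹ := by group
        rw [e]
        exact ha _ (hb x hx)
    have hL'NN : NN N (L.map T₀.subtype) := by
      refine ⟨hL'T.trans hT₀.1, fun n hn => ?_⟩
      rw [Subgroup.mem_normalizer_iff]
      intro x
      constructor
      · exact hNnormL n hn x
      · intro hx
        have e : x = n⁻¹ * (n * x * n⁻¹) * n⁻¹⁻¹ := by group
        rw [e]
        exact hNnormL _ (N.inv_mem hn) _ hx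
    rcases hT₀min' _ hL'NN hL'T with h | h
    · left
      exact (Subgroup.map_eq_bot_iff_of_injective L T₀.subtype_injective).mp h
    · right
      rw [eq_top_iff]
      intro x _
      have hx : (x : H) ∈ L.map T₀.subtype := by rw [h]; exact x.2
      obtain ⟨y, hy, hyx⟩ := hx
      have : y = x := Subtype.ext hyx
      rw [← this]; exact hy
  -- a maximal product
  obtain ⟨M, ⟨hM, m, ⟨eM⟩⟩, hMmax⟩ := WellFounded.has_min
    (measure (fun L : Subgroup H => Nat.card H - Nat.card L)).wf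
    {M | NN N M ∧ ∃ m : ℕ, Nonempty (↥M ≃* (Fin m → ↥T₀))}
    ⟨⊥, ⟨bot_le, fun n _ => by
      rw [Subgroup.mem_normalizer_iff]
      intro x
      simp only [SetLike.mem_coe, Subgroup.mem_bot]
      constructor
      · rintro rfl; group
      · intro h
        have : x = n⁻¹ * (n * x * n⁻¹) * n⁻¹⁻¹ := by group
        rw [this, h]; group⟩, 0,
      ⟨{ toFun := fun _ => 1
         invFun := fun _ => 1
         left_inv := fun x => (Subsingleton.elim _ _)
         right_inv := fun f => by funext i; exact i.elim0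
         map_mul' := fun _ _ => by funext i; exact i.elim0 }⟩⟩
  have hMN : M = N := by
    by_contra hne
    -- some conjugate is not in M
    have hex : ∃ g : H, ¬ T₀.map (MulAut.conj g).toMonoidHom ≤ M := by
      by_contra hcon
      push Not at hcon
      apply hne
      apply le_antisymm hM.1
      rw [← hgen]
      exact iSup_le hcon
    obtain ⟨g, hg⟩ := hex
    have hinf : M ⊓ T₀.map (MulAut.conj g).toMonoidHom = ⊥ := by
      rcases hCmin g _ (hM.inf (hCNN g)) inf_le_right with h | h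
      · exact h
      · exfalso
        apply hg
        rw [← h]
        exact inf_le_left
    have hcomm : ∀ x ∈ M, ∀ y ∈ T₀.map (MulAut.conj g).toMonoidHom, Commute x y :=
      fun x hx y hy => commute_of_NN_disjoint hM (hCNN g) hinf hx hy
    obtain ⟨e1⟩ := nonempty_sup_equiv_prod hcomm hinf
    have e2 : ↥(T₀.map (MulAut.conj g).toMonoidHom) ≃* ↥T₀ :=
      (T₀.equivMapOfInjective _ (MulAut.conj g).injective).symm
    have e3 : ↥(M ⊔ T₀.map (MulAut.conj g).toMonoidHom) ≃* (Fin (m + 1) → ↥T₀) :=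
      (e1.trans (MulEquiv.prodCongr eM e2)).trans (piConsMulEquiv ↥T₀ m)
    have hlt : Nat.card M < Nat.card ↥(M ⊔ T₀.map (MulAut.conj g).toMonoidHom) := by
      by_contra hcon
      push Not at hcon
      have heq : M ⊔ T₀.map (MulAut.conj g).toMonoidHom = M :=
        (Subgroup.eq_of_le_of_card_ge le_sup_left hcon).symm
      apply hg
      rw [← heq]
      exact le_sup_right
    have hcardle : Nat.card ↥(M ⊔ T₀.map (MulAut.conj g).toMonoidHom) ≤ Nat.card H :=
      Subgroup.card_le_card_group _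
    apply hMmax _ ⟨hM.sup (hCNN g), m + 1, ⟨e3⟩⟩
    show Nat.card H - Nat.card ↥(M ⊔ T₀.map (MulAut.conj g).toMonoidHom)
      < Nat.card H - Nat.card ↥M
    omega
  subst hMN
  refine ⟨T₀, m, hsimple, ?_, ⟨eM⟩⟩
  rcases Nat.eq_zero_or_pos m with h0 | h0
  · exfalso
    subst h0
    apply hN
    rw [Subgroup.eq_bot_iff_forall]
    intro x hx
    have h1 : eM ⟨x, hx⟩ = eM 1 := by
      funext i; exact i.elim0
    have h2 := eM.injective h1
    exact congrArg Subtype.val h2
  · exact h0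

end Cfsg.Agent.Lib.Helper2.MinNormalPower
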