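import Mathlib
import Cfsg.Agent.Lib.Helper2.NSub0

/-! S5121, package F0: the setting attached to the data of S5121 (strong closure, elementwise). -/

set_option autoImplicit false

namespace Cfsg.Agent.Lib.Helper2.NSub

open Cfsg Cfsg.FusionSystem

variable {p : ℕ} [Fact p.Prime] {G : Type*} [Group G]

/-- a subgroup strongly closed in `F_S(G)` is strongly closed in `S` with respect to `G`,
elementwise -/
theorem conj_mem_of_stronglyClosed (S T : Subgroup G)
    (h : (Cfsg.groupFusionSystem S).StronglyClosed T) (g t : G) (ht : t ∈ T)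
    (hg : g * t * g⁻¹ ∈ S) : g * t * g⁻¹ ∈ T := by
  have hle : Subgroup.zpowers t ≤ T := by
    rw [Subgroup.zpowers_le]; exact ht
  have hmem : conjHom (Subgroup.zpowers t) g ∈ (Cfsg.groupFusionSystem S).Hom (Subgroup.zpowers t) := by
    refine ⟨hle.trans h.1, ?_, g, fun x => rfl⟩
    rintro ⟨x, hx⟩
    obtain ⟨k, rfl⟩ := Subgroup.mem_zpowers_iff.mp hx
    show g * t ^ k * g⁻¹ ∈ S
    have e : g * t ^ k * g⁻¹ = (g * t * g⁻¹) ^ k := by
      rw [conj_zpow]
    rw [e]
    exact S.zpow_mem hg k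
  exact h.2 _ hle _ hmem ⟨t, Subgroup.mem_zpowers t⟩

/-- F0: the setting attached to the data of S5121 -/
theorem exists_setting (S : Sylow p G)
    (hG : Subgroup.centralizer ((Cfsg.pCore p G : Subgroup G) : Set G) ≤ Cfsg.pCore p G)
    (T : Subgroup G) (hTS : T ≤ S) (E : Cfsg.FusionSystem T)
    (hE : E.IsNormalIn (Cfsg.groupFusionSystem (S : Subgroup G)) p) :
    ∃ D : Setting p G, D.S = S ∧ D.T = T :=
  ⟨{ S := S, T := T, hTS := hTS, hchar := hG,
     hsc := fun g t ht hg => conj_mem_of_stronglyClosed _ _ hE.1.2.2.2.1 g t ht hg }, rfl, rfl⟩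

end Cfsg.Agent.Lib.Helper2.NSub
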