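import Mathlib
import Cfsg.Agent.Lib.Helper2.NSubF0
import Cfsg.Agent.Lib.Helper2.NSubC3
import Cfsg.Agent.Lib.Helper4.NSubB1
import Cfsg.Agent.Lib.Helper4.NSubB3
import Cfsg.Agent.Lib.Helper4.NSubC5
import Cfsg.Agent.Lib.Helper1.NSubB4
import Cfsg.Agent.Lib.Helper1.NSubC6a
import Cfsg.Agent.Lib.Helper6.NSubC1
import Cfsg.Agent.Lib.Helper6.NSubC4

/-! S5121: assembly of the packages (see `notes/S5121_plan_helper2.md`). -/

set_option autoImplicit false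

namespace Cfsg.Agent.Lib.Helper2.NSubMain

open Cfsg Cfsg.Agent.Lib.Helper2.NSub Cfsg.FusionSystem

/-- normal subsystems of `F_S(G)`, `G` of characteristic `p`, are the `F_T(H)`, `H ⊴ G` -/
theorem s5121 {G : Type*} [Group G] [Finite G] (p : ℕ) [Fact p.Prime] (S : Sylow p G) (hG : Subgroup.centralizer ((Cfsg.pCore p G : Subgroup G) : Set G) ≤ Cfsg.pCore p G) (T : Subgroup G) (hTS : T ≤ S) (E : Cfsg.FusionSystem T) (hE : E.IsNormalIn (Cfsg.groupFusionSystem (S : Subgroup G)) p) : ∃ H : Subgroup G, (∃ hTH : T ≤ H, H.Normal ∧ (∃ R : Sylow p H, (R : Subgroup H) = T.subgroupOf H) ∧ ∀ P : Subgroup G, E.Hom P = (Cfsg.fusionSystemOfSubgroup H T hTH).Hom P) ∧ ∀ H' : Subgroup G, (∃ hTH' : T ≤ H', H'.Normal ∧ (∃ R : Sylow p H', (R : Subgroup H') = T.subgroupOf H') ∧ ∀ P : Subgroup G, E.Hom P = (Cfsg.fusionSystemOfSubgroup H' T hTH').Hom P) → H' = H := by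
  obtain ⟨D, hDS, hDT⟩ := exists_setting S hG T hTS E hE
  subst hDS
  subst hDT
  obtain ⟨H₁, hn, hH₁, hC, hT, hsyl⟩ := Cfsg.Agent.Lib.Helper6.NSubC1.exists_H₁ D E hE
  haveI := hn
  have hTH : D.T ≤ D.H H₁ := le_sup_left
  have hB2 : (D.H H₁).Normal := Cfsg.Agent.Lib.Helper4.NSubB1.H_normal D H₁ hC hT hsyl
  have hEH : ∀ P : Subgroup G, E.Hom P = (Cfsg.fusionSystemOfSubgroup (D.H H₁) D.T hTH).Hom P :=
    fun P => Set.Subset.antisymm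
      (Cfsg.Agent.Lib.Helper4.NSubC5.le_fsos D E hE H₁ hH₁ hC hT hsyl hTH P)
      (Cfsg.Agent.Lib.Helper6.NSubC4.fsos_le D E hE H₁ hH₁ hC hT hsyl hTH P)
  refine ⟨D.H H₁, ⟨hTH, hB2,
    Cfsg.Agent.Lib.Helper4.NSubB3.exists_sylow_H D H₁ hC hT hsyl, hEH⟩, ?_⟩
  rintro H' ⟨hTH', hn', hs', hfs'⟩
  exact Cfsg.Agent.Lib.Helper1.NSubC6a.unique_H_of D E H₁ hH₁ hB2
    (Cfsg.Agent.Lib.Helper1.NSubB4.H_inf_C D H₁ hC hT hsyl) hTH hEH H' hTH' hn' hs' hfs'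

end Cfsg.Agent.Lib.Helper2.NSubMain
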