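import Mathlib
import Cfsg.Agent.Lib.Lead.BG10j
import Cfsg.Agent.Lib.Helper4.NilpSub
import Cfsg.Agent.Lib.Helper4.BG12b
import Cfsg.Agent.Lib.Helper7.CycAb12
import Cfsg.Agent.S0050

set_option autoImplicit false

/-!
# Fusion in nilpotent Hall subgroups of a minimal simple group of odd order: tools

* decomposition of an element into its `p`-part and `p'`-part (as powers);
* the `p`-complement of a nilpotent subgroup;
* local control of fusion in a Sylow subgroup inside any subgroup containing it;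
* the Frattini argument for Hall subgroups at the subgroup level.
-/

namespace Cfsg.Agent.Lib.Helper2.NilHallFusion

open Cfsg Cfsg.Agent.Lib.Lead Cfsg.Agent.Lib.Lead.BG10 Cfsg.Agent.Lib.Helper4
open Cfsg.Agent.Lib.Helper7 Cfsg.Agent.Lib.Helper4.BG76 Cfsg.Agent.Lib.Helper6 Cfsg.Agent.Lib.Helper4.BG9

universe u

variable {G : Type u} [Group G] [Finite G]

/-- an element is the product of a `p`-element and a `p'`-element, both powers of it -/
theorem exists_zpow_decomp (x : G) (p : ℕ) [hp : Fact p.Prime] (hpx : p ∣ orderOf x) :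
    ∃ i j : ℤ, x ^ i * x ^ j = x ∧ (∃ k, orderOf (x ^ i) = p ^ k) ∧ ¬ p ∣ orderOf (x ^ j) ∧
      orderOf (x ^ j) < orderOf x := by
  have ho : orderOf x ≠ 0 := (orderOf_pos x).ne'
  set n₁ := ordProj[p] (orderOf x) with hn₁
  set n₂ := ordCompl[p] (orderOf x) with hn₂
  have hmul : n₁ * n₂ = orderOf x := Nat.ordProj_mul_ordCompl_eq_self (orderOf x) p
  have hcop : Nat.Coprime n₁ n₂ := Nat.Coprime.pow_left _ (Nat.coprime_ordCompl hp.out ho)
  have hbez := Nat.gcd_eq_gcd_ab n₁ n₂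
  rw [hcop.gcd_eq_one] at hbez
  refine ⟨n₂ * Nat.gcdB n₁ n₂, n₁ * Nat.gcdA n₁ n₂, ?_, ?_, ?_, ?_⟩
  · rw [← zpow_add]
    have : (n₂ : ℤ) * Nat.gcdB n₁ n₂ + n₁ * Nat.gcdA n₁ n₂ = 1 := by
      rw [add_comm]; exact_mod_cast hbez.symm
    rw [this, zpow_one]
  · have h1 : (x ^ ((n₂ : ℤ) * Nat.gcdB n₁ n₂)) ^ n₁ = 1 := by
      rw [← zpow_natCast, ← zpow_mul]
      have : (n₂ : ℤ) * Nat.gcdB n₁ n₂ * n₁ = (orderOf x : ℤ) * Nat.gcdB n₁ n₂ := by
        rw [← hmul]; push_cast; ring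
      rw [this, zpow_mul, zpow_natCast, pow_orderOf_eq_one, one_zpow]
    have h2 := orderOf_dvd_of_pow_eq_one h1
    obtain ⟨k, -, hk⟩ := (Nat.dvd_prime_pow hp.out).mp h2
    exact ⟨k, hk⟩
  · have h1 : (x ^ ((n₁ : ℤ) * Nat.gcdA n₁ n₂)) ^ n₂ = 1 := by
      rw [← zpow_natCast, ← zpow_mul]
      have : (n₁ : ℤ) * Nat.gcdA n₁ n₂ * n₂ = (orderOf x : ℤ) * Nat.gcdA n₁ n₂ := by
        rw [← hmul]; push_cast; ring
      rw [this, zpow_mul, zpow_natCast, pow_orderOf_eq_one, one_zpow]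
    have h2 := orderOf_dvd_of_pow_eq_one h1
    intro h3
    exact Nat.not_dvd_ordCompl hp.out ho (h3.trans h2)
  · have h1 : (x ^ ((n₁ : ℤ) * Nat.gcdA n₁ n₂)) ^ n₂ = 1 := by
      rw [← zpow_natCast, ← zpow_mul]
      have : (n₁ : ℤ) * Nat.gcdA n₁ n₂ * n₂ = (orderOf x : ℤ) * Nat.gcdA n₁ n₂ := by
        rw [← hmul]; push_cast; ring
      rw [this, zpow_mul, zpow_natCast, pow_orderOf_eq_one, one_zpow]
    have h2 := orderOf_dvd_of_pow_eq_one h1
    have hn₂pos : 0 < n₂ := Nat.pos_of_ne_zero (fun h => by rw [h, mul_zero] at hmul; exact ho hmul.symm)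
    have h3 : orderOf (x ^ ((n₁ : ℤ) * Nat.gcdA n₁ n₂)) ≤ n₂ := Nat.le_of_dvd hn₂pos h2
    have h4 : p ∣ n₁ := Nat.dvd_ordProj_of_dvd ho hp.out hpx
    have h5 : 2 ≤ n₁ := by
      have hn₁pos : 0 < n₁ := Nat.pos_of_ne_zero (fun h => by rw [h, zero_mul] at hmul; exact ho hmul.symm)
      exact le_trans hp.out.two_le (Nat.le_of_dvd hn₁pos h4)
    have h6 : n₂ < orderOf x := by
      rw [← hmul]; nlinarith
    omega

/-- the `p`-complement of a nilpotent subgroup -/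
theorem exists_pComplement {B P : Subgroup G} (hB : Group.IsNilpotent B) {p : ℕ} [hp : Fact p.Prime]
    (hP : SylIn p B P) :
    ∃ B₁ : Subgroup G, B₁ ≤ B ∧ (Nat.card B₁).Coprime p ∧ Nat.card P * Nat.card B₁ = Nat.card B ∧
      ∀ b ∈ B, ∃ u ∈ P, ∃ v ∈ B₁, b = u * v := by
  have hBN := sylIn_normal_of_isNilpotent hB hP
  haveI hn : (P.subgroupOf B).Normal := (Subgroup.normal_subgroupOf_iff_le_normalizer hP.1).mpr hBN
  have hcardP : Nat.card (P.subgroupOf B) = Nat.card P :=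
    Nat.card_congr (Subgroup.subgroupOfEquivOfLe hP.1).toEquiv
  have hcop : (Nat.card (P.subgroupOf B)).Coprime (P.subgroupOf B).index := by
    obtain ⟨k, hk⟩ := IsPGroup.iff_card.mp hP.2.1
    rw [hcardP, hk]
    exact Nat.Coprime.pow_left k ((Nat.Prime.coprime_iff_not_dvd hp.out).mpr hP.2.2)
  obtain ⟨K, hK0⟩ := Subgroup.exists_right_complement'_of_coprime hcop
  have hK : Subgroup.IsComplement' (P.subgroupOf B) K := hK0
  refine ⟨K.map B.subtype, Subgroup.map_subtype_le _, ?_, ?_, ?_⟩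
  · rw [Subgroup.card_map_of_injective B.subtype_injective]
    have h1 : (P.subgroupOf B).index = Nat.card K := hK.symm.index_eq_card
    rw [← h1]
    exact ((Nat.Prime.coprime_iff_not_dvd hp.out).mpr hP.2.2).symm
  · rw [Subgroup.card_map_of_injective B.subtype_injective, ← hcardP]
    exact hK.card_mul_card
  · intro b hb
    obtain ⟨⟨u, v⟩, huv⟩ := hK0.2 ⟨b, hb⟩
    refine ⟨u.1.1, u.2, v.1.1, ⟨v.1, v.2, rfl⟩, ?_⟩
    have := congrArg Subtype.val huv
    simpa using this.symm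

omit [Finite G] in
theorem conj_mul_conj (g a b : G) : g * (a * b) * g⁻¹ = (g * a * g⁻¹) * (g * b * g⁻¹) := by group

/-- local control of fusion in a Sylow subgroup -/
theorem control_in (hG : IsMinSimpleOddOrder G) {p : ℕ} [hp : Fact p.Prime] (P : Sylow p G)
    {D : Subgroup G} (hPD : (P : Subgroup G) ≤ D) {u g : G} (hu : u ∈ (P : Subgroup G))
    (hg : g ∈ D) (hgu : g * u * g⁻¹ ∈ (P : Subgroup G)) :
    ∃ n ∈ D ⊓ Subgroup.normalizer ((P : Subgroup G) : Set G), n * u * n⁻¹ = g * u * g⁻¹ := by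
  by_cases hD : D = ⊤
  · obtain ⟨y, hy, hya⟩ := sylow_control hG P (Q := Subgroup.zpowers u)
      (Subgroup.zpowers_le.mpr hu) (cj_zpowers_le hgu)
    refine ⟨y, ⟨by rw [hD]; trivial, hy⟩, hya u (Subgroup.mem_zpowers u)⟩
  · have hpl : PLengthLE p 1 ↥D := corollary_10_7a hG p D hD
    have hsyl : SylIn p D (P : Subgroup G) := sylIn_of_sylow ⟨P, rfl⟩ hPD
    have hPp : IsPGroup p ↥(P : Subgroup G) := P.isPGroup'
    obtain ⟨k, hk, n, hn, e⟩ := exists_mul_of_plength_one hpl hsyl hg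
    refine ⟨n, hn, ?_⟩
    have hbP : n * u * n⁻¹ ∈ (P : Subgroup G) :=
      (Subgroup.mem_normalizer_iff.mp hn.2 u).mp hu
    have hxa : g * u * g⁻¹ = k * (n * u * n⁻¹) * k⁻¹ := by rw [e]; group
    have hkbP : k * (n * u * n⁻¹) * k⁻¹ ∈ (P : Subgroup G) := by rw [← hxa]; exact hgu
    have hcomm : k * (n * u * n⁻¹) * k⁻¹ * (n * u * n⁻¹)⁻¹ ∈ (P : Subgroup G) ⊓ cG p D := by
      refine ⟨Subgroup.mul_mem _ hkbP (Subgroup.inv_mem _ hbP), ?_⟩
      have hbD : n * u * n⁻¹ ∈ D := hPD hbP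
      have h1 : (n * u * n⁻¹) * k⁻¹ * (n * u * n⁻¹)⁻¹ ∈ cG p D :=
        (Subgroup.mem_normalizer_iff.mp (le_normalizer_cG p D hbD) k⁻¹).mp (Subgroup.inv_mem _ hk)
      have e3 : k * (n * u * n⁻¹) * k⁻¹ * (n * u * n⁻¹)⁻¹ =
          k * ((n * u * n⁻¹) * k⁻¹ * (n * u * n⁻¹)⁻¹) := by group
      rw [e3]
      exact Subgroup.mul_mem _ hk h1
    rw [isPGroup_inf_coprime_eq_bot (card_cG_coprime p D) hPp, Subgroup.mem_bot] at hcomm
    have h4 : k * (n * u * n⁻¹) * k⁻¹ = n * u * n⁻¹ := by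
      have := mul_eq_one_iff_eq_inv.mp hcomm
      rw [inv_inv] at this
      exact this
    rw [hxa, h4]

/-- the Frattini argument for a Hall subgroup of a solvable normal subgroup, subgroup level -/
theorem hall_frattini {X L B : Subgroup G} (hLX : L ≤ X)
    (hXL : X ≤ Subgroup.normalizer (L : Set G)) (hsolv : Group.IsSolvable L) (hBL : B ≤ L)
    (hcop : (Nat.card B).Coprime (B.relIndex L)) {x : G} (hx : x ∈ X) :
    ∃ l ∈ L, ∃ y ∈ X ⊓ Subgroup.normalizer (B : Set G), x = l * y := by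
  have hn : (L.subgroupOf X).Normal := Subgroup.normal_subgroupOf_of_le_normalizer hXL
  have hsolv' : Group.IsSolvable ↥(L.subgroupOf X) :=
    Group.isSolvable_of_isSolvable_injective (f := (Subgroup.subgroupOfEquivOfLe hLX).toMonoidHom)
      (Subgroup.subgroupOfEquivOfLe hLX).injective
  have hB'L' : B.subgroupOf X ≤ L.subgroupOf X := fun y hy => hBL hy
  have hcard : Nat.card (B.subgroupOf X) = Nat.card B :=
    Nat.card_congr (Subgroup.subgroupOfEquivOfLe (hBL.trans hLX)).toEquiv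
  have hrel : (B.subgroupOf X).relIndex (L.subgroupOf X) = B.relIndex L :=
    Subgroup.relIndex_subgroupOf hLX
  have htop := Cfsg.Agent.S0050.result (L.subgroupOf X) hsolv' (B.subgroupOf X) hB'L'
    (by rw [hcard, hrel]; exact hcop)
  have hmem : (⟨x, hx⟩ : ↥X) ∈ L.subgroupOf X ⊔
      Subgroup.normalizer ((B.subgroupOf X : Subgroup ↥X) : Set ↥X) := by rw [htop]; trivial
  rw [← SetLike.mem_coe, Subgroup.normal_mul] at hmem
  obtain ⟨l, hl, y, hy, hly⟩ := Set.mem_mul.mp hmem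
  refine ⟨l.1, hl, y.1, ⟨y.2, ?_⟩, ?_⟩
  · apply CycAb.mem_normalizer_of_conj_mem
    intro b hb
    have hbX : b ∈ X := hLX (hBL hb)
    have h1 : (⟨b, hbX⟩ : ↥X) ∈ B.subgroupOf X := hb
    have h2 := (Subgroup.mem_normalizer_iff.mp hy ⟨b, hbX⟩).mp h1
    exact h2
  · have := congrArg Subtype.val hly
    simpa using this.symm

end Cfsg.Agent.Lib.Helper2.NilHallFusion
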