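import Mathlib
import Cfsg.Agent.Lib.Helper2.NilHallFusion1
import Cfsg.Agent.Lib.Helper4.FittingHall

set_option autoImplicit false

/-!
# `N_G(H)` controls fusion in a nilpotent Hall subgroup `H` of a minimal simple group of odd order
-/

namespace Cfsg.Agent.Lib.Helper2.NilHallFusion

open Cfsg Cfsg.Agent.Lib.Lead Cfsg.Agent.Lib.Lead.BG10 Cfsg.Agent.Lib.Helper4
open Cfsg.Agent.Lib.Helper7 Cfsg.Agent.Lib.Helper4.BG76 Cfsg.Agent.Lib.Helper6 Cfsg.Agent.Lib.Helper4.BG9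
open Cfsg.Agent.Lib.Helper4.BG8 Cfsg.Agent.Lib.Helper4.BG12

universe u

variable {G : Type u} [Group G] [Finite G]

set_option maxHeartbeats 1600000 in
theorem control_aux (hG : IsMinSimpleOddOrder G) :
    ∀ (m : ℕ) (B : Subgroup G), Nat.card B = m → Group.IsNilpotent B →
      (Nat.card B).Coprime B.index →
      ∀ (A : Set G), B ≤ Subgroup.centralizer A →
      ∀ (k : ℕ) (x : G), orderOf x = k → x ∈ B → ∀ g ∈ Subgroup.centralizer A,
        g * x * g⁻¹ ∈ B →
        ∃ n ∈ Subgroup.normalizer (B : Set G) ⊓ Subgroup.centralizer A,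
          n * x * n⁻¹ = g * x * g⁻¹ := by
  intro m
  induction m using Nat.strong_induction_on with
  | _ m ihm =>
  intro B hBm hBn hBH A hBA k
  induction k using Nat.strong_induction_on with
  | _ k ihk =>
  intro x hxk hxB g hgA hgx
  by_cases hx1 : x = 1
  · subst hx1
    exact ⟨1, Subgroup.one_mem _, by simp⟩
  have hk1 : orderOf x ≠ 1 := by rwa [Ne, orderOf_eq_one_iff]
  obtain ⟨p, hp, hpx⟩ := Nat.exists_prime_and_dvd hk1
  haveI : Fact p.Prime := ⟨hp⟩
  obtain ⟨i, j, hij, ⟨e, hue⟩, hvp, hvlt⟩ := exists_zpow_decomp x p hpx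
  obtain ⟨u, hu⟩ : ∃ u, u = x ^ i := ⟨_, rfl⟩
  obtain ⟨v, hv⟩ : ∃ v, v = x ^ j := ⟨_, rfl⟩
  rw [← hu] at hue hij
  rw [← hv] at hvp hvlt hij
  have huB : u ∈ B := by rw [hu]; exact B.zpow_mem hxB i
  have hvB : v ∈ B := by rw [hv]; exact B.zpow_mem hxB j
  have hguB : g * u * g⁻¹ ∈ B := by rw [hu, ← conj_zpow]; exact B.zpow_mem hgx i
  have hgvB : g * v * g⁻¹ ∈ B := by rw [hv, ← conj_zpow]; exact B.zpow_mem hgx j
  -- the Sylow `p`-subgroup and the `p`-complement of `B`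
  obtain ⟨P, -, hP⟩ := exists_sylIn_ge (p := p) (bot_le : (⊥ : Subgroup G) ≤ B) IsPGroup.of_bot
  have hBNP : B ≤ Subgroup.normalizer (P : Set G) := sylIn_normal_of_isNilpotent hBn hP
  obtain ⟨B₁, hB₁B, hB₁p, hcard, hdec⟩ := exists_pComplement hBn hP
  have hpB : p ∣ Nat.card B := hpx.trans (Subgroup.orderOf_dvd_natCard B hxB)
  have hpP : p ∣ Nat.card P := by
    rw [← hcard] at hpB
    exact (Nat.Coprime.dvd_mul_right (Nat.Coprime.symm hB₁p)).mp hpB
  have hP1 : P ≠ ⊥ := by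
    intro h0
    rw [h0, Subgroup.card_bot] at hpP
    exact hp.one_lt.ne' (Nat.dvd_one.mp hpP)
  have hPp : IsPGroup p P := hP.2.1
  have hPtop : P ≠ ⊤ := isPGroup_ne_top hG hPp
  have hPidx : ¬ p ∣ P.index := by
    rw [← Subgroup.relIndex_mul_index hP.1]
    intro h
    rcases (Nat.Prime.dvd_mul hp).mp h with h | h
    · exact hP.2.2 h
    · have := Nat.Coprime.eq_one_of_dvd (Nat.Coprime.coprime_dvd_left hpB hBH) h
      exact hp.one_lt.ne' this
  obtain ⟨PS, hPS⟩ : ∃ PS : Sylow p G, (PS : Subgroup G) = P :=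
    ⟨hPp.toSylow hPidx, IsPGroup.toSylow_coe _ _⟩
  -- elements of `B` of `p`-power order lie in `P`
  have hpel : ∀ y ∈ B, ∀ e : ℕ, orderOf y = p ^ e → y ∈ P := by
    intro y hy e he
    have h1 : IsPGroup p (Subgroup.zpowers y) := IsPGroup.of_card (n := e) (by rw [Nat.card_zpowers, he])
    exact SylIn.le_of_normal hP hBNP (Subgroup.zpowers_le.mpr hy) h1 (Subgroup.mem_zpowers y)
  have huP : u ∈ P := hpel u huB e hue
  -- `P` and `B₁` commute
  have hcopB₁ : ∀ b ∈ B₁, (orderOf b).Coprime p := fun b hb =>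
    Nat.Coprime.coprime_dvd_left (Subgroup.orderOf_dvd_natCard B₁ hb) hB₁p
  have hcomm : ∀ a ∈ P, ∀ b ∈ B₁, a * b = b * a := fun a ha b hb =>
    commute_of_isNilpotent hBn (hP.1 ha) (hB₁B hb) (isPGroup_zpowers_of_mem hPp ha) (hcopB₁ b hb)
  -- `p'`-elements of `B` lie in `B₁`
  have hp'el : ∀ y ∈ B, ¬ p ∣ orderOf y → y ∈ B₁ := by
    intro y hy hyp
    obtain ⟨a, ha, b, hb, e1⟩ := hdec y hy
    have hab := hcomm a ha b hb
    have hyb : Commute y b⁻¹ := by
      have : Commute y b := by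
        rw [e1]
        exact (Commute.mul_left (show Commute a b from hab) (Commute.refl b))
      exact this.inv_right
    have ha_eq : a = y * b⁻¹ := by rw [e1]; group
    have hpow : a ^ (orderOf y * orderOf b) = 1 := by
      rw [ha_eq, hyb.mul_pow, pow_mul, pow_orderOf_eq_one, one_pow, mul_comm (orderOf y), pow_mul,
        inv_pow, pow_orderOf_eq_one, inv_one, one_pow, one_mul]
    have hdvd := orderOf_dvd_of_pow_eq_one hpow
    obtain ⟨f, hf⟩ := (IsPGroup.iff_orderOf.mp hPp) ⟨a, ha⟩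
    rw [Subgroup.orderOf_mk] at hf
    have hcop : (orderOf y * orderOf b).Coprime p :=
      Nat.Coprime.mul_left ((Nat.Prime.coprime_iff_not_dvd hp).mpr hyp).symm (hcopB₁ b hb)
    have hf0 : f = 0 := by
      by_contra hf0
      have : p ∣ orderOf a := by rw [hf]; exact dvd_pow_self p hf0
      have h2 := Nat.Coprime.eq_one_of_dvd hcop.symm (this.trans hdvd)
      exact hp.one_lt.ne' h2
    rw [hf0, pow_zero, orderOf_eq_one_iff] at hf
    rw [e1, hf, one_mul]; exact hb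
  have hvB₁ : v ∈ B₁ := hp'el v hvB hvp
  -- `N(P) ∩ N(B₁) ≤ N(B)`
  have hNB : ∀ y, y ∈ Subgroup.normalizer (P : Set G) → y ∈ Subgroup.normalizer (B₁ : Set G) →
      y ∈ Subgroup.normalizer (B : Set G) := by
    intro y hyP hyB₁
    apply CycAb.mem_normalizer_of_conj_mem
    intro b hb
    obtain ⟨a, ha, b₁, hb₁, e1⟩ := hdec b hb
    rw [e1, conj_mul_conj]
    exact B.mul_mem (hP.1 ((Subgroup.mem_normalizer_iff.mp hyP a).mp ha))
      (hB₁B ((Subgroup.mem_normalizer_iff.mp hyB₁ b₁).mp hb₁))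
  -- Step 2: the `p'`-part
  obtain ⟨n₁, hn₁, hn₁v⟩ := ihk (orderOf v) (by rw [← hxk]; exact hvlt) v rfl hvB g hgA hgvB
  -- Step 3
  obtain ⟨g', hg'⟩ : ∃ g', g' = n₁⁻¹ * g := ⟨_, rfl⟩
  have hg'A : g' ∈ Subgroup.centralizer A := by
    rw [hg']; exact Subgroup.mul_mem _ (Subgroup.inv_mem _ hn₁.2) hgA
  have hg'v : g' * v * g'⁻¹ = v := by
    have : g' * v * g'⁻¹ = n₁⁻¹ * (g * v * g⁻¹) * n₁ := by rw [hg']; group
    rw [this, ← hn₁v]; group
  have hg'uB : g' * u * g'⁻¹ ∈ B := by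
    have : g' * u * g'⁻¹ = n₁⁻¹ * (g * u * g⁻¹) * n₁⁻¹⁻¹ := by rw [hg']; group
    rw [this]
    exact (Subgroup.mem_normalizer_iff.mp (Subgroup.inv_mem _ hn₁.1) _).mp hguB
  have hg'uP : g' * u * g'⁻¹ ∈ P := by
    apply hpel _ hg'uB e
    rw [← hue]
    exact orderOf_injective (MulAut.conj g').toMonoidHom (MulAut.conj g').injective u
  -- Step 4
  have hPD : (PS : Subgroup G) ≤ Subgroup.centralizer A ⊓ Subgroup.centralizer ({v} : Set G) := by
    rw [hPS]
    intro a ha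
    refine Subgroup.mem_inf.mpr ⟨hBA (hP.1 ha), ?_⟩
    rw [Subgroup.mem_centralizer_singleton_iff]
    exact hcomm a ha v hvB₁
  have hg'D : g' ∈ Subgroup.centralizer A ⊓ Subgroup.centralizer ({v} : Set G) := by
    refine Subgroup.mem_inf.mpr ⟨hg'A, ?_⟩
    rw [Subgroup.mem_centralizer_singleton_iff]
    calc g' * v = (g' * v * g'⁻¹) * g' := by group
      _ = v * g' := by rw [hg'v]
  obtain ⟨n', hn', hn'u⟩ := control_in hG PS hPD (by rw [hPS]; exact huP) hg'D
    (by rw [hPS]; exact hg'uP)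
  rw [hPS] at hn'
  have hn'A : n' ∈ Subgroup.centralizer A := hn'.1.1
  have hn'v : n' * v = v * n' := Subgroup.mem_centralizer_singleton_iff.mp hn'.1.2
  have hn'N : n' ∈ Subgroup.normalizer (P : Set G) := hn'.2
  -- Step 5: Frattini
  have hLX : Subgroup.centralizer (P : Set G) ⊓ Subgroup.centralizer A ≤
      Subgroup.normalizer (P : Set G) ⊓ Subgroup.centralizer A :=
    inf_le_inf_right _ (Subgroup.centralizer_le_normalizer _)
  have hXL : Subgroup.normalizer (P : Set G) ⊓ Subgroup.centralizer A ≤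
      Subgroup.normalizer
        ((Subgroup.centralizer (P : Set G) ⊓ Subgroup.centralizer A : Subgroup G) : Set G) := by
    intro y hy
    apply CycAb.mem_normalizer_of_conj_mem
    intro l hl
    refine Subgroup.mem_inf.mpr
      ⟨?_, Subgroup.mul_mem _ (Subgroup.mul_mem _ hy.2 hl.2) (Subgroup.inv_mem _ hy.2)⟩
    rw [Subgroup.mem_centralizer_iff]
    intro a ha
    have h1 : y⁻¹ * a * y⁻¹⁻¹ ∈ P :=
      (Subgroup.mem_normalizer_iff.mp (Subgroup.inv_mem _ hy.1) a).mp ha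
    have h2 := Subgroup.mem_centralizer_iff.mp hl.1 _ h1
    calc a * (y * l * y⁻¹) = y * ((y⁻¹ * a * y⁻¹⁻¹) * l) * y⁻¹ := by group
      _ = y * (l * (y⁻¹ * a * y⁻¹⁻¹)) * y⁻¹ := by rw [h2]
      _ = y * l * y⁻¹ * a := by group
  have hLne : Subgroup.centralizer (P : Set G) ⊓ Subgroup.centralizer A ≠ ⊤ := by
    intro h0
    apply centralizer_ne_top_of hG hP1 hPtop
    rw [eq_top_iff, ← h0]; exact inf_le_left
  have hsolv := solvable_of_ne_top hG hLne
  have hB₁L : B₁ ≤ Subgroup.centralizer (P : Set G) ⊓ Subgroup.centralizer A := by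
    intro b hb
    refine Subgroup.mem_inf.mpr ⟨?_, hBA (hB₁B hb)⟩
    rw [Subgroup.mem_centralizer_iff]
    intro a ha
    exact hcomm a ha b hb
  have hB₁pos : 0 < Nat.card B₁ := Nat.card_pos
  have hB₁idx : B₁.index = Nat.card P * B.index := by
    have h1 := Subgroup.card_mul_index B₁
    have h2 := Subgroup.card_mul_index B
    rw [← hcard] at h2
    have h3 : Nat.card B₁ * B₁.index = Nat.card B₁ * (Nat.card P * B.index) := by
      rw [h1, ← h2]; ring
    exact Nat.eq_of_mul_eq_mul_left hB₁pos h3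
  have hB₁H : (Nat.card B₁).Coprime B₁.index := by
    rw [hB₁idx]
    apply Nat.Coprime.mul_right
    · obtain ⟨f, hf⟩ := IsPGroup.iff_card.mp hPp
      rw [hf]; exact Nat.Coprime.pow_right f hB₁p
    · exact Nat.Coprime.coprime_dvd_left (Subgroup.card_dvd_of_le hB₁B) hBH
  have hcop : (Nat.card B₁).Coprime
      (B₁.relIndex (Subgroup.centralizer (P : Set G) ⊓ Subgroup.centralizer A)) := by
    apply Nat.Coprime.coprime_dvd_right _ hB₁H
    exact Dvd.intro _ (Subgroup.relIndex_mul_index hB₁L)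
  obtain ⟨c, hc, m', hm', hcm⟩ := hall_frattini hLX hXL hsolv hB₁L hcop
    (show n' ∈ Subgroup.normalizer (P : Set G) ⊓ Subgroup.centralizer A from ⟨hn'N, hn'A⟩)
  have hm'P : m' ∈ Subgroup.normalizer (P : Set G) := hm'.1.1
  have hm'A : m' ∈ Subgroup.centralizer A := hm'.1.2
  have hm'B₁ : m' ∈ Subgroup.normalizer (B₁ : Set G) := hm'.2
  have hm'B : m' ∈ Subgroup.normalizer (B : Set G) := hNB m' hm'P hm'B₁
  have hm'eq : m' = c⁻¹ * n' := by rw [hcm]; group
  -- Step 6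
  have hn'uP : n' * u * n'⁻¹ ∈ P := (Subgroup.mem_normalizer_iff.mp hn'N u).mp huP
  have hcP : ∀ w ∈ P, c⁻¹ * w * c = w := by
    intro w hw
    have := Subgroup.mem_centralizer_iff.mp hc.1 w hw
    calc c⁻¹ * w * c = c⁻¹ * (w * c) := by group
      _ = c⁻¹ * (c * w) := by rw [this]
      _ = w := by group
  have hm'u : m' * u * m'⁻¹ = g' * u * g'⁻¹ := by
    have : m' * u * m'⁻¹ = c⁻¹ * (n' * u * n'⁻¹) * c := by rw [hm'eq]; group
    rw [this, hcP _ hn'uP, hn'u]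
  have hn'v' : n' * v * n'⁻¹ = v := by rw [hn'v]; group
  have hm'v : c * (m' * v * m'⁻¹) * c⁻¹ = v := by
    have : m' * v * m'⁻¹ = c⁻¹ * (n' * v * n'⁻¹) * c := by rw [hm'eq]; group
    rw [this, hn'v']; group
  have hv'B₁ : m' * v * m'⁻¹ ∈ B₁ := (Subgroup.mem_normalizer_iff.mp hm'B₁ v).mp hvB₁
  -- Step 7: recursion on `B₁`
  have hB₁lt : Nat.card B₁ < m := by
    rw [← hBm, ← hcard]
    have h2 : 2 ≤ Nat.card P := le_trans hp.two_le (Nat.le_of_dvd Nat.card_pos hpP)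
    nlinarith
  have hB₁n : Group.IsNilpotent B₁ := isNilpotent_of_le hBn hB₁B
  have hB₁AP : B₁ ≤ Subgroup.centralizer (A ∪ (P : Set G)) := by
    intro b hb
    rw [Subgroup.mem_centralizer_iff]
    rintro a (ha | ha)
    · exact Subgroup.mem_centralizer_iff.mp (hBA (hB₁B hb)) a ha
    · exact hcomm a ha b hb
  have hcAP : c ∈ Subgroup.centralizer (A ∪ (P : Set G)) := by
    rw [Subgroup.mem_centralizer_iff]
    rintro a (ha | ha)
    · exact Subgroup.mem_centralizer_iff.mp hc.2 a ha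
    · exact Subgroup.mem_centralizer_iff.mp hc.1 a ha
  obtain ⟨t, ht, htv⟩ := ihm (Nat.card B₁) hB₁lt B₁ rfl hB₁n hB₁H (A ∪ (P : Set G)) hB₁AP
    (orderOf (m' * v * m'⁻¹)) (m' * v * m'⁻¹) rfl hv'B₁ c hcAP (by rw [hm'v]; exact hvB₁)
  rw [hm'v] at htv
  have htA : t ∈ Subgroup.centralizer A := by
    rw [Subgroup.mem_centralizer_iff]
    intro a ha
    exact Subgroup.mem_centralizer_iff.mp ht.2 a (Or.inl ha)
  have htP : t ∈ Subgroup.centralizer (P : Set G) := by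
    rw [Subgroup.mem_centralizer_iff]
    intro a ha
    exact Subgroup.mem_centralizer_iff.mp ht.2 a (Or.inr ha)
  have htB : t ∈ Subgroup.normalizer (B : Set G) :=
    hNB t (Subgroup.centralizer_le_normalizer _ htP) ht.1
  -- Step 8
  refine ⟨n₁ * (t * m'), ⟨Subgroup.mul_mem _ hn₁.1 (Subgroup.mul_mem _ htB hm'B),
    Subgroup.mul_mem _ hn₁.2 (Subgroup.mul_mem _ htA hm'A)⟩, ?_⟩
  have htu : t * (g' * u * g'⁻¹) * t⁻¹ = g' * u * g'⁻¹ := by
    have := Subgroup.mem_centralizer_iff.mp htP _ hg'uP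
    calc t * (g' * u * g'⁻¹) * t⁻¹ = ((g' * u * g'⁻¹) * t) * t⁻¹ := by rw [this]
      _ = g' * u * g'⁻¹ := by group
  have hgn : g = n₁ * g' := by rw [hg']; group
  calc n₁ * (t * m') * x * (n₁ * (t * m'))⁻¹
      = n₁ * ((t * (m' * u * m'⁻¹) * t⁻¹) * (t * (m' * v * m'⁻¹) * t⁻¹)) * n₁⁻¹ := by
        rw [← hij]; group
    _ = n₁ * ((g' * u * g'⁻¹) * (g' * v * g'⁻¹)) * n₁⁻¹ := by rw [hm'u, htu, htv, hg'v]
    _ = g * x * g⁻¹ := by rw [← hij, hgn]; group

/-- **Nilpotent Hall subgroups**: `N_G(H)` controls fusion in `H`. -/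
theorem nilpotent_hall_fusion (hG : IsMinSimpleOddOrder G) (H : Subgroup G)
    (hHn : Group.IsNilpotent H) (hHall : (Nat.card H).Coprime H.index) :
    ∀ x ∈ H, ∀ g : G, g * x * g⁻¹ ∈ H →
      ∃ n ∈ Subgroup.normalizer (H : Set G), n * x * n⁻¹ = g * x * g⁻¹ := by
  intro x hx g hgx
  have hA : H ≤ Subgroup.centralizer (∅ : Set G) := by
    intro h _
    rw [Subgroup.mem_centralizer_iff]
    intro a ha
    exact absurd ha (Set.notMem_empty a)
  have hg : g ∈ Subgroup.centralizer (∅ : Set G) := by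
    rw [Subgroup.mem_centralizer_iff]
    intro a ha
    exact absurd ha (Set.notMem_empty a)
  obtain ⟨n, hn, e⟩ := control_aux hG (Nat.card H) H rfl hHn hHall ∅ hA (orderOf x) x rfl hx g hg hgx
  exact ⟨n, hn.1, e⟩

end Cfsg.Agent.Lib.Helper2.NilHallFusion
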