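import Mathlib
import Cfsg.Agent.Lib.Helper2.Spinor6

set_option autoImplicit false

namespace Cfsg.Agent.Lib.Helper2

namespace NormClass

open Matrix Polynomial Cfsg.Agent.Lib.Helper2.ReflGen Cfsg.Agent.Lib.Helper2.CDG

section binary

variable {F : Type*} [Field F] [Fintype F]

theorem card_mod_two (h2 : (2 : F) ≠ 0) : Fintype.card F % 2 = 1 := by
  have hF : ringChar F ≠ 2 := by
    intro h
    apply h2
    have := CharP.cast_eq_zero F (ringChar F)
    rw [h] at this
    exact_mod_cast this
  exact FiniteField.odd_card_of_char_ne_two hF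

/-- a diagonal binary form with nonzero coefficients is universal -/
theorem diag_universal (h2 : (2 : F) ≠ 0) {A C : F} (hA : A ≠ 0) (hC : C ≠ 0) (e : F) :
    ∃ s t : F, A * s ^ 2 + C * t ^ 2 = e := by
  have hf : degree (Polynomial.C A * X ^ 2 + Polynomial.C 0 * X + Polynomial.C 0) = 2 :=
    degree_quadratic hA
  have hg : degree (Polynomial.C C * X ^ 2 + Polynomial.C 0 * X + Polynomial.C (-e)) = 2 :=
    degree_quadratic hC
  obtain ⟨s, t, hst⟩ := FiniteField.exists_root_sum_quadratic hf hg (card_mod_two h2)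
  refine ⟨s, t, ?_⟩
  simp only [eval_add, eval_mul, eval_C, eval_pow, eval_X, zero_mul, add_zero] at hst
  linear_combination hst

/-- a binary quadratic form with nonzero discriminant and `A ≠ 0` is universal -/
theorem binary_universal (h2 : (2 : F) ≠ 0) {A B C : F} (hA : A ≠ 0)
    (hD : B ^ 2 - 4 * A * C ≠ 0) (e : F) :
    ∃ s t : F, A * s ^ 2 + B * s * t + C * t ^ 2 = e := by
  have h4 : (4 : F) ≠ 0 := by
    have : (4 : F) = 2 * 2 := by norm_num
    rw [this]
    exact mul_ne_zero h2 h2
  have hC' : C - B ^ 2 / (4 * A) ≠ 0 := by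
    intro h
    apply hD
    field_simp at h
    linear_combination -h
  obtain ⟨s, t, hst⟩ := diag_universal h2 hA hC' e
  refine ⟨s - B * t / (2 * A), t, ?_⟩
  rw [← hst]
  field_simp
  ring

end binary

end NormClass

end Cfsg.Agent.Lib.Helper2
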