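import Mathlib
import Cfsg.Agent.Lib.Helper2.NormClass1

set_option autoImplicit false

namespace Cfsg.Agent.Lib.Helper2

namespace NormClass

open Matrix Cfsg.Agent.Lib.Helper2.ReflGen Cfsg.Agent.Lib.Helper2.CDG

variable {F : Type*} [Field F] {ι : Type} [Fintype ι] [DecidableEq ι]
variable {Q : QuadraticForm F (ι → F)}

omit [Fintype ι] [DecidableEq ι] in
theorem Q_lin2 (u v : ι → F) (α β : F) :
    Q (α • u + β • v) = α ^ 2 * Q u + α * β * QuadraticMap.polar (⇑Q) u v + β ^ 2 * Q v := by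
  rw [QuadraticMap.map_add Q, QuadraticMap.map_smul, QuadraticMap.map_smul,
    QuadraticMap.polar_smul_left, QuadraticMap.polar_smul_right, smul_eq_mul, smul_eq_mul,
    smul_eq_mul, smul_eq_mul]
  ring

omit [Fintype ι] [DecidableEq ι] in
/-- the norm of the third reflection vector -/
theorem Q_third (u v : ι → F) (α β : F) :
    Q ((-(β * Q v)) • u + (α * Q u + β * QuadraticMap.polar (⇑Q) u v) • v) =
      Q (α • u + β • v) * Q u * Q v := by
  rw [Q_lin2, Q_lin2]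
  ring

/-- three reflections theorem: for `a` in the span of `u, v`, `r_a r_u r_v` is a reflection -/
theorem three_refl (u v : ι → F) (hu : Q u ≠ 0) (hv : Q v ≠ 0) (α β : F)
    (ha : Q (α • u + β • v) ≠ 0)
    (hb : Q ((-(β * Q v)) • u + (α * Q u + β * QuadraticMap.polar (⇑Q) u v) • v) ≠ 0) :
    refl Q (α • u + β • v) ha * refl Q u hu * refl Q v hv =
      refl Q ((-(β * Q v)) • u + (α * Q u + β * QuadraticMap.polar (⇑Q) u v) • v) hb := by
  apply iso_ext
  intro x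
  have hQb := Q_third (Q := Q) u v α β
  have hQa := Q_lin2 (Q := Q) u v α β
  have huu : QuadraticMap.polar (⇑Q) u u = 2 * Q u := polar_self Q u
  have hvv : QuadraticMap.polar (⇑Q) v v = 2 * Q v := polar_self Q v
  have hvu : QuadraticMap.polar (⇑Q) v u = QuadraticMap.polar (⇑Q) u v :=
    QuadraticMap.polar_comm _ _ _
  rw [mul_mulVec, mul_mulVec, refl_mulVec, refl_mulVec, refl_mulVec, refl_mulVec]
  simp only [QuadraticMap.polar_add_left, QuadraticMap.polar_smul_left, QuadraticMap.polar_sub_right,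
    QuadraticMap.polar_smul_right, smul_eq_mul, huu, hvv, hvu]
  rw [hQb]
  obtain ⟨X, hX⟩ : ∃ X, X = QuadraticMap.polar (⇑Q) u x := ⟨_, rfl⟩
  obtain ⟨Y, hY⟩ : ∃ Y, Y = QuadraticMap.polar (⇑Q) v x := ⟨_, rfl⟩
  obtain ⟨A, hA⟩ : ∃ A, A = Q u := ⟨_, rfl⟩
  obtain ⟨C, hC⟩ : ∃ C, C = Q v := ⟨_, rfl⟩
  obtain ⟨B, hB⟩ : ∃ B, B = QuadraticMap.polar (⇑Q) u v := ⟨_, rfl⟩
  obtain ⟨N, hN⟩ : ∃ N, N = Q (α • u + β • v) := ⟨_, rfl⟩
  rw [← hN, ← hA, ← hC, ← hB] at hQa
  rw [← hA] at hu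
  rw [← hC] at hv
  rw [← hN] at ha
  simp only [← hX, ← hY, ← hA, ← hC, ← hB, ← hN]
  match_scalars
  · ring
  · field_simp
    rw [hQa]
    ring
  · field_simp
    rw [hQa]
    ring

end NormClass

end Cfsg.Agent.Lib.Helper2
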