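import Mathlib
import Cfsg.Agent.Lib.Helper2.NormClass2

set_option autoImplicit false

namespace Cfsg.Agent.Lib.Helper2

namespace NormClass

open Matrix Cfsg.Agent.Lib.Helper2.ReflGen Cfsg.Agent.Lib.Helper2.CDG

variable {F : Type*} [Field F] {ι : Type} [Fintype ι] [DecidableEq ι]
variable (Q : QuadraticForm F (ι → F))

/-- reflections in vectors whose norm lies in the square class of `c` -/
def Sc (c : F) : Set ↥(Cfsg.isometryGroup F ⇑Q) :=
  {g | ∃ (v : ι → F) (t : F), t ≠ 0 ∧ Q v = c * t ^ 2 ∧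
    ((g : Matrix.GeneralLinearGroup ι F) : Matrix ι ι F) = Cfsg.reflectionMatrix ⇑Q v}

/-- the subgroup they generate -/
def Hc (c : F) : Subgroup ↥(Cfsg.isometryGroup F ⇑Q) := Subgroup.closure (Sc Q c)

variable {Q}

theorem refl_mem_Hc {c : F} (v : ι → F) (hv : Q v ≠ 0) (t : F) (ht : t ≠ 0)
    (hvt : Q v = c * t ^ 2) : refl Q v hv ∈ Hc Q c :=
  Subgroup.subset_closure ⟨v, t, ht, hvt, rfl⟩

/-- a product of two reflections in a plane where the form represents `c` lies in `Hc` -/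
theorem plane_mem [Fintype F] (h2 : (2 : F) ≠ 0) {c : F} (hc : c ≠ 0) (u v : ι → F)
    (hu : Q u ≠ 0) (hv : Q v ≠ 0)
    (hD : QuadraticMap.polar (⇑Q) u v ^ 2 - 4 * Q u * Q v ≠ 0)
    (τ : F) (hτ : τ ≠ 0) (hsq : Q u * Q v = τ ^ 2) :
    refl Q u hu * refl Q v hv ∈ Hc Q c := by
  obtain ⟨s, t, hst⟩ := binary_universal h2 hu hD c
  have hQa : Q (s • u + t • v) = c := by
    rw [Q_lin2, ← hst]
    ring
  have ha : Q (s • u + t • v) ≠ 0 := by rw [hQa]; exact hc
  have hQb : Q ((-(t * Q v)) • u + (s * Q u + t * QuadraticMap.polar (⇑Q) u v) • v) =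
      c * τ ^ 2 := by
    rw [Q_third, hQa, mul_assoc, hsq]
  have hb : Q ((-(t * Q v)) • u + (s * Q u + t * QuadraticMap.polar (⇑Q) u v) • v) ≠ 0 := by
    rw [hQb]
    exact mul_ne_zero hc (pow_ne_zero 2 hτ)
  have h3 := three_refl u v hu hv s t ha hb
  have h4 : refl Q u hu * refl Q v hv = refl Q (s • u + t • v) ha *
      refl Q ((-(t * Q v)) • u + (s * Q u + t * QuadraticMap.polar (⇑Q) u v) • v) hb := by
    rw [← h3, ← mul_assoc, ← mul_assoc, refl_mul_self, one_mul]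
  rw [h4]
  apply Subgroup.mul_mem
  · exact refl_mem_Hc _ ha 1 one_ne_zero (by rw [hQa]; ring)
  · exact refl_mem_Hc _ hb τ hτ hQb

end NormClass

end Cfsg.Agent.Lib.Helper2
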