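import Mathlib
import Cfsg.Agent.Lib.Helper2.NormClass3

set_option autoImplicit false

namespace Cfsg.Agent.Lib.Helper2

namespace NormClass

open Matrix Cfsg.Agent.Lib.Helper2.ReflGen Cfsg.Agent.Lib.Helper2.CDG

variable {F : Type*} [Field F] {ι : Type} [Fintype ι] [DecidableEq ι]
variable {Q : QuadraticForm F (ι → F)}

/-- a degenerate plane spanned by nonsingular vectors contains a singular vector orthogonal
to the first -/
theorem degenerate_decomp (h2 : (2 : F) ≠ 0) (u v : ι → F) (hu : Q u ≠ 0) (hv : Q v ≠ 0)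
    (hD : QuadraticMap.polar (⇑Q) u v ^ 2 - 4 * Q u * Q v = 0) (hind : ∀ l : F, v ≠ l • u) :
    ∃ (w : ι → F) (α : F), α ≠ 0 ∧ v = α • u + w ∧ Q w = 0 ∧
      QuadraticMap.polar (⇑Q) u w = 0 ∧ w ≠ 0 := by
  have hB : QuadraticMap.polar (⇑Q) u v ≠ 0 := by
    intro h
    rw [h] at hD
    have h4 : (4 : F) ≠ 0 := by
      have : (4 : F) = 2 * 2 := by norm_num
      rw [this]
      exact mul_ne_zero h2 h2
    have : 4 * Q u * Q v ≠ 0 := mul_ne_zero (mul_ne_zero h4 hu) hv
    apply this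
    linear_combination -hD
  refine ⟨v - (QuadraticMap.polar (⇑Q) u v / (2 * Q u)) • u,
    QuadraticMap.polar (⇑Q) u v / (2 * Q u), div_ne_zero hB (mul_ne_zero h2 hu), by abel, ?_, ?_, ?_⟩
  · have h1 : v - (QuadraticMap.polar (⇑Q) u v / (2 * Q u)) • u =
        (1 : F) • v + (-(QuadraticMap.polar (⇑Q) u v / (2 * Q u))) • u := by
      rw [one_smul, neg_smul, sub_eq_add_neg]
    rw [h1, Q_lin2, QuadraticMap.polar_comm (⇑Q) v u]
    field_simp
    linear_combination -hD
  · rw [QuadraticMap.polar_sub_right, QuadraticMap.polar_smul_right, polar_self, smul_eq_mul]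
    field_simp
    ring
  · intro h
    apply hind (QuadraticMap.polar (⇑Q) u v / (2 * Q u))
    exact sub_eq_zero.1 h

/-- a hyperbolic partner of `w` orthogonal to `u` -/
theorem exists_partner_perp (h2 : (2 : F) ≠ 0) (hQ : (QuadraticMap.polarBilin Q).Nondegenerate)
    (u w : ι → F) (hu : Q u ≠ 0) (hw0 : w ≠ 0) (hw : Q w = 0)
    (huw : QuadraticMap.polar (⇑Q) u w = 0) :
    ∃ w' : ι → F, Q w' = 0 ∧ QuadraticMap.polar (⇑Q) w w' = 1 ∧
      QuadraticMap.polar (⇑Q) u w' = 0 := by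
  obtain ⟨w₀, hw₀1, hw₀⟩ := Cfsg.Agent.Lib.Helper5.exists_partner Q hQ hw0 hw
  have hww : QuadraticMap.polar (⇑Q) w w = 0 := by rw [polar_self, hw, mul_zero]
  have hwu : QuadraticMap.polar (⇑Q) w u = 0 := by rw [QuadraticMap.polar_comm]; exact huw
  obtain ⟨β, hβ⟩ : ∃ β, β = QuadraticMap.polar (⇑Q) u w₀ / (2 * Q u) := ⟨_, rfl⟩
  refine ⟨(1 : F) • w₀ + (-β) • u + (Q u * β ^ 2) • w, ?_, ?_, ?_⟩
  · rw [Cfsg.Agent.Lib.Helper5.map_lin3, hw₀, hw, huw, QuadraticMap.polar_comm (⇑Q) w₀ u,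
      QuadraticMap.polar_comm (⇑Q) w₀ w, hw₀1, hβ]
    field_simp
    ring
  · rw [QuadraticMap.polar_add_right, QuadraticMap.polar_add_right, QuadraticMap.polar_smul_right,
      QuadraticMap.polar_smul_right, QuadraticMap.polar_smul_right, hww, hwu, hw₀1]
    simp
  · rw [QuadraticMap.polar_add_right, QuadraticMap.polar_add_right, QuadraticMap.polar_smul_right,
      QuadraticMap.polar_smul_right, QuadraticMap.polar_smul_right, huw, polar_self, hβ]
    simp only [smul_eq_mul]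
    field_simp
    ring

/-- in a field with at least five elements there is a nonzero element whose square avoids
a given value -/
theorem exists_rho [Fintype F] (h5 : 5 ≤ Fintype.card F) (κ : F) :
    ∃ ρ : F, ρ ≠ 0 ∧ ρ ^ 2 ≠ κ := by
  classical
  by_cases h : ∃ ρ₁ : F, ρ₁ ^ 2 = κ
  · obtain ⟨ρ₁, hρ₁⟩ := h
    have hcard : ({0, ρ₁, -ρ₁} : Finset F).card < (Finset.univ : Finset F).card := by
      rw [Finset.card_univ]
      have := Finset.card_le_three (a := (0 : F)) (b := ρ₁) (c := -ρ₁)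
      omega
    obtain ⟨ρ, -, hρ⟩ := Finset.exists_mem_notMem_of_card_lt_card hcard
    rw [Finset.mem_insert, Finset.mem_insert, Finset.mem_singleton] at hρ
    push Not at hρ
    refine ⟨ρ, hρ.1, ?_⟩
    intro h1
    have h3 : (ρ - ρ₁) * (ρ + ρ₁) = 0 := by
      rw [← hρ₁] at h1
      linear_combination h1
    rcases mul_eq_zero.1 h3 with h4 | h4
    · exact hρ.2.1 (sub_eq_zero.1 h4)
    · exact hρ.2.2 (eq_neg_of_add_eq_zero_left h4)
  · push Not at h
    exact ⟨1, one_ne_zero, h 1⟩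

end NormClass

end Cfsg.Agent.Lib.Helper2
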