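import Mathlib
import Cfsg.Agent.Lib.Helper2.NormClass4

set_option autoImplicit false

namespace Cfsg.Agent.Lib.Helper2

namespace NormClass

open Matrix Cfsg.Agent.Lib.Helper2.ReflGen Cfsg.Agent.Lib.Helper2.CDG

variable {F : Type*} [Field F] {ι : Type} [Fintype ι] [DecidableEq ι]
variable {Q : QuadraticForm F (ι → F)}

/-- the orthogonal complement of a nonsingular vector and a hyperbolic pair orthogonal to it
represents every nonzero value, in dimension at least five -/
theorem exists_perp_value [Finite F] (h2 : (2 : F) ≠ 0)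
    (hQ : (QuadraticMap.polarBilin Q).Nondegenerate)
    (u w w' : ι → F) (hu : Q u ≠ 0) (hw : Q w = 0) (hw' : Q w' = 0)
    (hww' : QuadraticMap.polar (⇑Q) w w' = 1) (huw : QuadraticMap.polar (⇑Q) u w = 0)
    (huw' : QuadraticMap.polar (⇑Q) u w' = 0) (hn : 5 ≤ Fintype.card ι) (d : F) (hd : d ≠ 0) :
    ∃ y : ι → F, Q y = d ∧ QuadraticMap.polar (⇑Q) u y = 0 ∧ QuadraticMap.polar (⇑Q) w y = 0 ∧
      QuadraticMap.polar (⇑Q) w' y = 0 := by
  obtain ⟨B, hB⟩ : ∃ B : LinearMap.BilinForm F (ι → F), B = QuadraticMap.polarBilin Q := ⟨_, rfl⟩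
  have hBap : ∀ x y, B x y = QuadraticMap.polar (⇑Q) x y := by
    intro x y; rw [hB]; rfl
  obtain ⟨L, hL⟩ : ∃ L : (ι → F) →ₗ[F] (Fin 3 → F), L = LinearMap.pi ![B u, B w, B w'] :=
    ⟨_, rfl⟩
  have hmem : ∀ x, x ∈ LinearMap.ker L ↔ QuadraticMap.polar (⇑Q) u x = 0 ∧
      QuadraticMap.polar (⇑Q) w x = 0 ∧ QuadraticMap.polar (⇑Q) w' x = 0 := by
    intro x
    rw [LinearMap.mem_ker, hL, funext_iff]
    simp only [LinearMap.pi_apply, Pi.zero_apply, Fin.forall_fin_succ, Matrix.cons_val_zero,
      Matrix.cons_val_succ, hBap]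
    simp
  obtain ⟨W, hW⟩ : ∃ W : Submodule F (ι → F), W = LinearMap.ker L := ⟨_, rfl⟩
  rw [← hW] at hmem
  have hdim : 2 ≤ Module.finrank F W := by
    have h1 := LinearMap.finrank_range_add_finrank_ker L
    have h3 : Module.finrank F (LinearMap.range L) ≤ 3 := by
      have := Submodule.finrank_le (LinearMap.range L)
      rw [Module.finrank_fintype_fun_eq_card, Fintype.card_fin] at this
      exact this
    rw [Module.finrank_fintype_fun_eq_card, ← hW] at h1
    omega
  have hww : QuadraticMap.polar (⇑Q) w w = 0 := by rw [polar_self, hw, mul_zero]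
  have hw'w' : QuadraticMap.polar (⇑Q) w' w' = 0 := by rw [polar_self, hw', mul_zero]
  have hw'w : QuadraticMap.polar (⇑Q) w' w = 1 := by rw [QuadraticMap.polar_comm]; exact hww'
  have hwu : QuadraticMap.polar (⇑Q) w u = 0 := by rw [QuadraticMap.polar_comm]; exact huw
  have hw'u : QuadraticMap.polar (⇑Q) w' u = 0 := by rw [QuadraticMap.polar_comm]; exact huw'
  -- projection
  have hproj : ∀ z : ι → F, z - (QuadraticMap.polar (⇑Q) u z / (2 * Q u)) • u -
      (QuadraticMap.polar (⇑Q) w' z) • w - (QuadraticMap.polar (⇑Q) w z) • w' ∈ W := by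
    intro z
    rw [hmem]
    refine ⟨?_, ?_, ?_⟩
    · rw [QuadraticMap.polar_sub_right, QuadraticMap.polar_sub_right, QuadraticMap.polar_sub_right,
        QuadraticMap.polar_smul_right, QuadraticMap.polar_smul_right, QuadraticMap.polar_smul_right,
        polar_self, huw, huw']
      simp only [smul_eq_mul]
      field_simp
      ring
    · rw [QuadraticMap.polar_sub_right, QuadraticMap.polar_sub_right, QuadraticMap.polar_sub_right,
        QuadraticMap.polar_smul_right, QuadraticMap.polar_smul_right, QuadraticMap.polar_smul_right,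
        hww, hwu, hww']
      simp
    · rw [QuadraticMap.polar_sub_right, QuadraticMap.polar_sub_right, QuadraticMap.polar_sub_right,
        QuadraticMap.polar_smul_right, QuadraticMap.polar_smul_right, QuadraticMap.polar_smul_right,
        hw'w', hw'u, hw'w]
      simp
  obtain ⟨Q', hQ'⟩ : ∃ Q' : QuadraticForm F W, Q' = d⁻¹ • Q.comp W.subtype := ⟨_, rfl⟩
  have hQ'ap : ∀ x : W, Q' x = d⁻¹ * Q x.1 := by
    intro x; rw [hQ']; rfl
  have hpolar' : ∀ x y : W, QuadraticMap.polar (⇑Q') x y =
      d⁻¹ * QuadraticMap.polar (⇑Q) x.1 y.1 := by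
    intro x y
    unfold QuadraticMap.polar
    rw [hQ'ap, hQ'ap, hQ'ap, Submodule.coe_add]
    ring
  have hsep : ∀ x : W, (∀ y : W, QuadraticMap.polar (⇑Q') x y = 0) → x = 0 := by
    intro x hx
    apply Subtype.ext
    apply hQ.1 x.1
    intro z
    show QuadraticMap.polar (⇑Q) x.1 z = 0
    have hxm := (hmem x.1).1 x.2
    have h1 := hx ⟨_, hproj z⟩
    rw [hpolar'] at h1
    have h3 : QuadraticMap.polar (⇑Q) x.1 (z - (QuadraticMap.polar (⇑Q) u z / (2 * Q u)) • u -
      (QuadraticMap.polar (⇑Q) w' z) • w - (QuadraticMap.polar (⇑Q) w z) • w') = 0 := by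
      rcases mul_eq_zero.1 h1 with h | h
      · exact absurd h (inv_ne_zero hd)
      · exact h
    rw [QuadraticMap.polar_sub_right, QuadraticMap.polar_sub_right, QuadraticMap.polar_sub_right,
      QuadraticMap.polar_smul_right, QuadraticMap.polar_smul_right, QuadraticMap.polar_smul_right,
      QuadraticMap.polar_comm (⇑Q) x.1 u, QuadraticMap.polar_comm (⇑Q) x.1 w,
      QuadraticMap.polar_comm (⇑Q) x.1 w', hxm.1, hxm.2.1, hxm.2.2] at h3
    simpa using h3
  have hnd : (QuadraticMap.polarBilin Q').Nondegenerate := by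
    constructor
    · intro x hx
      exact hsep x hx
    · intro y hy
      apply hsep y
      intro x
      rw [QuadraticMap.polar_comm]
      exact hy x
  obtain ⟨y, hy⟩ := Cfsg.Agent.Lib.Helper5.exists_represents_one Q' hnd hdim
  rw [hQ'ap] at hy
  have hym := (hmem y.1).1 y.2
  refine ⟨y.1, ?_, hym.1, hym.2.1, hym.2.2⟩
  field_simp at hy
  exact hy

end NormClass

end Cfsg.Agent.Lib.Helper2
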