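import Mathlib
import Cfsg.Agent.Lib.Helper2.NormClass5

set_option autoImplicit false

namespace Cfsg.Agent.Lib.Helper2

namespace NormClass

open Matrix Cfsg.Agent.Lib.Helper2.ReflGen Cfsg.Agent.Lib.Helper2.CDG

variable {F : Type*} [Field F] [Fintype F] {ι : Type} [Fintype ι] [DecidableEq ι]
variable {Q : QuadraticForm F (ι → F)}

/-- bridging vector for a degenerate plane -/
theorem exists_bridge (h2 : (2 : F) ≠ 0) (hQ : (QuadraticMap.polarBilin Q).Nondegenerate)
    (heven : Even (Fintype.card ι)) (h43 : ¬ (Fintype.card ι = 4 ∧ Fintype.card F = 3))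
    (u v : ι → F) (hu : Q u ≠ 0) (hv : Q v ≠ 0)
    (hD : QuadraticMap.polar (⇑Q) u v ^ 2 - 4 * Q u * Q v = 0) (hind : ∀ l : F, v ≠ l • u) :
    ∃ (x : ι → F) (ρ : F), ρ ≠ 0 ∧ Q x = Q u * ρ ^ 2 ∧
      QuadraticMap.polar (⇑Q) u x ^ 2 - 4 * Q u * Q x ≠ 0 ∧
      QuadraticMap.polar (⇑Q) x v ^ 2 - 4 * Q x * Q v ≠ 0 := by
  have h4 : (4 : F) ≠ 0 := by
    have : (4 : F) = 2 * 2 := by norm_num
    rw [this]
    exact mul_ne_zero h2 h2
  obtain ⟨w, α, hα, hvw, hw, huw, hw0⟩ := degenerate_decomp h2 u v hu hv hD hind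
  obtain ⟨w', hw', hww', huw'⟩ := exists_partner_perp h2 hQ u w hu hw0 hw huw
  have hww : QuadraticMap.polar (⇑Q) w w = 0 := by rw [polar_self, hw, mul_zero]
  have hw'w' : QuadraticMap.polar (⇑Q) w' w' = 0 := by rw [polar_self, hw', mul_zero]
  have hw'w : QuadraticMap.polar (⇑Q) w' w = 1 := by rw [QuadraticMap.polar_comm]; exact hww'
  have hwu : QuadraticMap.polar (⇑Q) w u = 0 := by rw [QuadraticMap.polar_comm]; exact huw
  have hw'u : QuadraticMap.polar (⇑Q) w' u = 0 := by rw [QuadraticMap.polar_comm]; exact huw'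
  have hQv : Q v = α ^ 2 * Q u := by
    have : v = α • u + (1 : F) • w := by rw [one_smul]; exact hvw
    rw [this, Q_lin2, huw, hw]
    ring
  -- dimension at least three
  have hli : LinearIndependent F ![u, w, w'] := by
    rw [Fintype.linearIndependent_iff]
    intro g hg
    rw [Fin.sum_univ_three] at hg
    simp only [Matrix.cons_val_zero, Matrix.cons_val_one, Matrix.cons_val_two,
      Matrix.head_cons, Matrix.tail_cons] at hg
    have e1 := congrArg (fun z => QuadraticMap.polar (⇑Q) u z) hg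
    have e2 := congrArg (fun z => QuadraticMap.polar (⇑Q) w z) hg
    have e3 := congrArg (fun z => QuadraticMap.polar (⇑Q) w' z) hg
    simp only [QuadraticMap.polar_add_right, QuadraticMap.polar_smul_right, smul_eq_mul, huw, huw',
      hww, hwu, hww', hw'w', hw'u, hw'w, polar_self, QuadraticMap.polar_zero_right, mul_zero,
      add_zero, zero_add, mul_one] at e1 e2 e3
    have g0 : g 0 = 0 := by
      have : g 0 * (2 * Q u) = 0 := e1
      rcases mul_eq_zero.1 this with h | h
      · exact h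
      · exact absurd h (mul_ne_zero h2 hu)
    intro i
    fin_cases i
    · exact g0
    · exact e3
    · exact e2
  have hn3 : 3 ≤ Fintype.card ι := by
    have := hli.fintype_card_le_finrank
    rw [Fintype.card_fin, Module.finrank_fintype_fun_eq_card] at this
    exact this
  have hn4 : 4 ≤ Fintype.card ι := by
    obtain ⟨k, hk⟩ := heven
    omega
  by_cases hq : 5 ≤ Fintype.card F
  · obtain ⟨ρ, hρ0, hρ⟩ := exists_rho hq (((2 * Q u * α)⁻¹) ^ 2)
    refine ⟨(1 : F) • w' + (Q u * ρ ^ 2) • w, ρ, hρ0, ?_, ?_, ?_⟩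
    · rw [Q_lin2, hw', hw, hw'w]
      ring
    · have hp : QuadraticMap.polar (⇑Q) u ((1 : F) • w' + (Q u * ρ ^ 2) • w) = 0 := by
        rw [QuadraticMap.polar_add_right, QuadraticMap.polar_smul_right,
          QuadraticMap.polar_smul_right, huw, huw']
        simp
      have hQx : Q ((1 : F) • w' + (Q u * ρ ^ 2) • w) = Q u * ρ ^ 2 := by
        rw [Q_lin2, hw', hw, hw'w]
        ring
      rw [hp, hQx]
      have : 4 * Q u * (Q u * ρ ^ 2) ≠ 0 :=
        mul_ne_zero (mul_ne_zero h4 hu) (mul_ne_zero hu (pow_ne_zero 2 hρ0))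
      intro h
      apply this
      linear_combination -h
    · have hp : QuadraticMap.polar (⇑Q) ((1 : F) • w' + (Q u * ρ ^ 2) • w) v = 1 := by
        rw [hvw, QuadraticMap.polar_add_left, QuadraticMap.polar_smul_left,
          QuadraticMap.polar_smul_left, QuadraticMap.polar_add_right, QuadraticMap.polar_add_right,
          QuadraticMap.polar_smul_right, QuadraticMap.polar_smul_right, hw'u, hw'w, hwu, hww]
        simp
      have hQx : Q ((1 : F) • w' + (Q u * ρ ^ 2) • w) = Q u * ρ ^ 2 := by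
        rw [Q_lin2, hw', hw, hw'w]
        ring
      rw [hp, hQx, hQv]
      intro h
      apply hρ
      have h6 : 2 * Q u * α ≠ 0 := mul_ne_zero (mul_ne_zero h2 hu) hα
      field_simp
      linear_combination -h
  · have hq3 : Fintype.card F = 3 := by
      have h1 := card_mod_two h2
      have h3 := Fintype.one_lt_card (α := F)
      omega
    have hn6 : 5 ≤ Fintype.card ι := by
      obtain ⟨k, hk⟩ := heven
      have : Fintype.card ι ≠ 4 := fun h => h43 ⟨h, hq3⟩
      omega
    obtain ⟨y, hy, huy, hwy, -⟩ := exists_perp_value h2 hQ u w w' hu hw hw' hww' huw huw' hn6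
      (Q u) hu
    refine ⟨y, 1, one_ne_zero, by rw [hy]; ring, ?_, ?_⟩
    · rw [huy, hy]
      have : 4 * Q u * Q u ≠ 0 := mul_ne_zero (mul_ne_zero h4 hu) hu
      intro h
      apply this
      linear_combination -h
    · have hp : QuadraticMap.polar (⇑Q) y v = 0 := by
        rw [hvw, QuadraticMap.polar_add_right, QuadraticMap.polar_smul_right,
          QuadraticMap.polar_comm (⇑Q) y u, QuadraticMap.polar_comm (⇑Q) y w, huy, hwy]
        simp
      rw [hp, hy, hQv]
      have : 4 * Q u * (α ^ 2 * Q u) ≠ 0 :=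
        mul_ne_zero (mul_ne_zero h4 hu) (mul_ne_zero (pow_ne_zero 2 hα) hu)
      intro h
      apply this
      linear_combination -h

/-- the product of two reflections in vectors whose norms have a square product lies in `Hc` -/
theorem mul_mem_Hc (h2 : (2 : F) ≠ 0) (hQ : (QuadraticMap.polarBilin Q).Nondegenerate)
    (heven : Even (Fintype.card ι)) (h43 : ¬ (Fintype.card ι = 4 ∧ Fintype.card F = 3))
    {c : F} (hc : c ≠ 0) (u v : ι → F) (hu : Q u ≠ 0) (hv : Q v ≠ 0)
    (τ : F) (hτ : τ ≠ 0) (hsq : Q u * Q v = τ ^ 2) :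
    refl Q u hu * refl Q v hv ∈ Hc Q c := by
  by_cases hD : QuadraticMap.polar (⇑Q) u v ^ 2 - 4 * Q u * Q v = 0
  · by_cases hdep : ∃ l : F, v = l • u
    · obtain ⟨l, rfl⟩ := hdep
      have hl : l ≠ 0 := by
        rintro rfl
        rw [zero_smul, map_zero] at hv
        exact hv rfl
      have : refl Q (l • u) hv = refl Q u hu := Spinor.refl_smul_eq u hu l hl
      rw [this, refl_mul_self]
      exact Subgroup.one_mem _
    · push Not at hdep
      obtain ⟨x, ρ, hρ, hQx, hD1, hD2⟩ := exists_bridge h2 hQ heven h43 u v hu hv hD hdep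
      have hx : Q x ≠ 0 := by
        rw [hQx]
        exact mul_ne_zero hu (pow_ne_zero 2 hρ)
      have hsplit : refl Q u hu * refl Q v hv =
          (refl Q u hu * refl Q x hx) * (refl Q x hx * refl Q v hv) := by
        rw [mul_assoc, ← mul_assoc (refl Q x hx), refl_mul_self, one_mul]
      rw [hsplit]
      apply Subgroup.mul_mem
      · exact plane_mem h2 hc u x hu hx hD1 (Q u * ρ) (mul_ne_zero hu hρ) (by rw [hQx]; ring)
      · refine plane_mem h2 hc x v hx hv hD2 (ρ * τ) (mul_ne_zero hρ hτ) ?_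
        rw [hQx, mul_pow, ← hsq]
        ring
  · exact plane_mem h2 hc u v hu hv hD τ hτ hsq

end NormClass

end Cfsg.Agent.Lib.Helper2
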