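import Mathlib
import Cfsg.Agent.Lib.Helper2.NormClass6

set_option autoImplicit false

namespace Cfsg.Agent.Lib.Helper2

namespace NormClass

open Matrix Cfsg.Agent.Lib.Helper2.ReflGen Cfsg.Agent.Lib.Helper2.CDG

variable {F : Type*} [Field F] [Fintype F] [DecidableEq F] {ι : Type} [Fintype ι] [DecidableEq ι]
variable (Q : QuadraticForm F (ι → F))

/-- determinant times the sign on the level set `Q = c` -/
noncomputable def theta (c : F) : ↥(Cfsg.isometryGroup F ⇑Q) →* Fˣ :=
  (Matrix.GeneralLinearGroup.det.comp (Cfsg.isometryGroup F ⇑Q).subtype) *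
    (Units.map (Int.castRingHom F).toMonoidHom).comp (Spinor.levSign Q c)

variable {Q}

theorem theta_refl (h2 : (2 : F) ≠ 0) {c : F} (hc : c ≠ 0) (v : ι → F) (hv : Q v ≠ 0) :
    theta Q c (refl Q v hv) = if ∃ t : F, t * t * Q v = c then 1 else -1 := by
  unfold theta
  rw [MonoidHom.mul_apply, MonoidHom.comp_apply, MonoidHom.comp_apply,
    Spinor.levSign_refl h2 hc]
  have hdet : Matrix.GeneralLinearGroup.det ((Cfsg.isometryGroup F ⇑Q).subtype (refl Q v hv)) =
      -1 := by
    apply Units.ext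
    rw [Subgroup.coe_subtype, Matrix.GeneralLinearGroup.val_det_apply, det_refl]
    simp
  rw [hdet]
  split_ifs
  · apply Units.ext
    simp
  · apply Units.ext
    simp

theorem Hc_le_ker_theta (h2 : (2 : F) ≠ 0) {c : F} (hc : c ≠ 0) :
    Hc Q c ≤ (theta Q c).ker := by
  unfold Hc
  rw [Subgroup.closure_le]
  rintro g ⟨v, t, ht, hvt, hg⟩
  have hv : Q v ≠ 0 := by
    rw [hvt]
    exact mul_ne_zero hc (pow_ne_zero 2 ht)
  have : g = refl Q v hv := Spinor.eq_refl_of_coe g v hv hg
  rw [this, SetLike.mem_coe, MonoidHom.mem_ker, theta_refl h2 hc, if_pos]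
  refine ⟨t⁻¹, ?_⟩
  rw [hvt]
  field_simp

omit [Fintype F] [DecidableEq F] in
theorem Hc_normal {c : F} (hc : c ≠ 0) : (Hc Q c).Normal := by
  have hconj : Group.conjugatesOfSet (Sc Q c) ⊆ Sc Q c := by
    intro x hx
    obtain ⟨a, ha, hax⟩ := Group.mem_conjugatesOfSet_iff.1 hx
    obtain ⟨v, t, ht, hvt, hg⟩ := ha
    obtain ⟨g, hgc⟩ := isConj_iff.1 hax
    have hv : Q v ≠ 0 := by
      rw [hvt]
      exact mul_ne_zero hc (pow_ne_zero 2 ht)
    have ha' : a = refl Q v hv := Spinor.eq_refl_of_coe a v hv hg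
    refine ⟨((g : Matrix.GeneralLinearGroup ι F) : Matrix ι ι F) *ᵥ v, t, ht, ?_, ?_⟩
    · rw [iso_Q, hvt]
    · rw [← hgc, ha', Spinor.conj_refl g v hv, refl_coe]
  have h1 : Hc Q c = Subgroup.normalClosure (Sc Q c) := by
    apply le_antisymm
    · exact Subgroup.closure_le_normalClosure
    · unfold Subgroup.normalClosure Hc
      exact Subgroup.closure_mono hconj
  rw [h1]
  exact Subgroup.normalClosure_normal

/-- the subgroup generated by the reflections of one norm class has index two -/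
theorem index_Hc (h2 : (2 : F) ≠ 0) (hn : 2 ≤ Fintype.card ι)
    (hQ : (QuadraticMap.polarBilin Q).Nondegenerate)
    (heven : Even (Fintype.card ι)) (h43 : ¬ (Fintype.card ι = 4 ∧ Fintype.card F = 3))
    {c : F} (hc : c ≠ 0) : (Hc Q c).index = 2 := by
  have hgen := closure_R_eq_top (Q := Q) h2 hQ
  haveI hnorm := Hc_normal (Q := Q) hc
  obtain ⟨ν, hν⟩ := Spinor.exists_nonsquare' (F := F) h2
  have hν0 : ν ≠ 0 := by rintro rfl; exact hν ⟨0, by simp⟩
  obtain ⟨u₀, hu₀⟩ := Spinor.exists_value hQ hn (c * ν) (mul_ne_zero hc hν0)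
  have hu₀0 : Q u₀ ≠ 0 := by rw [hu₀]; exact mul_ne_zero hc hν0
  -- `u₀` is not of class `c`
  have hnot : ¬ ∃ t : F, t * t * Q u₀ = c := by
    rintro ⟨t, ht⟩
    have ht0 : t ≠ 0 := by
      rintro rfl
      rw [zero_mul, zero_mul] at ht
      exact hc ht.symm
    apply hν
    refine ⟨t⁻¹, ?_⟩
    rw [hu₀] at ht
    field_simp
    have h5 : c * (t * t * ν - 1) = 0 := by linear_combination ht
    rcases mul_eq_zero.1 h5 with h | h
    · exact absurd h hc
    · linear_combination h
  have hr₀ : refl Q u₀ hu₀0 ∉ Hc Q c := by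
    intro h
    have h1 := Hc_le_ker_theta h2 hc h
    rw [MonoidHom.mem_ker, theta_refl h2 hc, if_neg hnot] at h1
    have h3 : ((-1 : Fˣ) : F) = 1 := by rw [h1]; rfl
    rw [Units.val_neg, Units.val_one] at h3
    apply h2
    linear_combination -h3
  -- class dichotomy
  have hdich : ∀ v : ι → F, Q v ≠ 0 → (∃ t : F, t ≠ 0 ∧ Q v = c * t ^ 2) ∨
      (∃ τ : F, τ ≠ 0 ∧ Q v * Q u₀ = τ ^ 2) := by
    intro v hv
    by_cases hs : IsSquare (Q v * c⁻¹)
    · left
      obtain ⟨t, ht⟩ := hs
      have ht0 : t ≠ 0 := by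
        rintro rfl
        rw [mul_zero] at ht
        rcases mul_eq_zero.1 ht with h | h
        · exact hv h
        · exact inv_ne_zero hc h
      refine ⟨t, ht0, ?_⟩
      field_simp at ht
      linear_combination ht
    · right
      obtain ⟨s, hs'⟩ := Spinor.isSquare_mul_inv_of_nonsquare h2 hs hν
      have hs0 : s ≠ 0 := by
        rintro rfl
        rw [mul_zero] at hs'
        rcases mul_eq_zero.1 hs' with h | h
        · rcases mul_eq_zero.1 h with h | h
          · exact hv h
          · exact inv_ne_zero hc h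
        · exact inv_ne_zero hν0 h
      refine ⟨c * ν * s, mul_ne_zero (mul_ne_zero hc hν0) hs0, ?_⟩
      rw [hu₀]
      field_simp at hs'
      linear_combination (c * ν) * hs'
  -- every element lies in `Hc` or in `Hc r₀`
  have hcl : ∀ g : ↥(Cfsg.isometryGroup F ⇑Q), g ∈ Hc Q c ∨ g * refl Q u₀ hu₀0 ∈ Hc Q c := by
    intro g
    have hg : g ∈ Subgroup.closure (R Q) := by rw [hgen]; trivial
    induction hg using Subgroup.closure_induction with
    | mem x hx =>
      obtain ⟨v, hv, hxv⟩ := hx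
      have hx' : x = refl Q v hv := Spinor.eq_refl_of_coe x v hv hxv
      rcases hdich v hv with ⟨t, ht, hvt⟩ | ⟨τ, hτ, hvτ⟩
      · left
        rw [hx']
        exact refl_mem_Hc v hv t ht hvt
      · right
        rw [hx']
        exact mul_mem_Hc h2 hQ heven h43 hc v u₀ hv hu₀0 τ hτ hvτ
    | one => left; exact Subgroup.one_mem _
    | mul x y _ _ hx hy =>
      rcases hx with hx | hx <;> rcases hy with hy | hy
      · left; exact Subgroup.mul_mem _ hx hy
      · right
        rw [mul_assoc]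
        exact Subgroup.mul_mem _ hx hy
      · right
        have h1 : x * y * refl Q u₀ hu₀0 = (x * refl Q u₀ hu₀0) *
            (refl Q u₀ hu₀0 * y * (refl Q u₀ hu₀0)⁻¹) := by
          rw [refl_inv]
          have := refl_mul_self (Q := Q) u₀ hu₀0
          calc x * y * refl Q u₀ hu₀0 = x * (1 * y) * refl Q u₀ hu₀0 := by rw [one_mul]
            _ = x * ((refl Q u₀ hu₀0 * refl Q u₀ hu₀0) * y) * refl Q u₀ hu₀0 := by rw [this]
            _ = _ := by simp only [mul_assoc]
        rw [h1]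
        exact Subgroup.mul_mem _ hx (hnorm.conj_mem y hy _)
      · left
        have h1 : x * y = (x * refl Q u₀ hu₀0) *
            (refl Q u₀ hu₀0 * (y * refl Q u₀ hu₀0) * (refl Q u₀ hu₀0)⁻¹) := by
          rw [refl_inv]
          have := refl_mul_self (Q := Q) u₀ hu₀0
          calc x * y = x * (1 * (y * 1)) := by rw [one_mul, mul_one]
            _ = x * ((refl Q u₀ hu₀0 * refl Q u₀ hu₀0) *
                (y * (refl Q u₀ hu₀0 * refl Q u₀ hu₀0))) := by rw [this]
            _ = _ := by simp only [mul_assoc]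
        rw [h1]
        exact Subgroup.mul_mem _ hx (hnorm.conj_mem _ hy _)
    | inv x _ hx =>
      rcases hx with hx | hx
      · left; exact Subgroup.inv_mem _ hx
      · right
        have h1 : x⁻¹ * refl Q u₀ hu₀0 =
            refl Q u₀ hu₀0 * (x * refl Q u₀ hu₀0)⁻¹ * (refl Q u₀ hu₀0)⁻¹ := by
          rw [refl_inv, _root_.mul_inv_rev, refl_inv]
          have := refl_mul_self (Q := Q) u₀ hu₀0
          calc x⁻¹ * refl Q u₀ hu₀0 = 1 * x⁻¹ * refl Q u₀ hu₀0 := by rw [one_mul]
            _ = (refl Q u₀ hu₀0 * refl Q u₀ hu₀0) * x⁻¹ * refl Q u₀ hu₀0 := by rw [this]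
            _ = _ := by simp only [mul_assoc]
        rw [h1]
        exact hnorm.conj_mem _ (Subgroup.inv_mem _ hx) _
  rw [Subgroup.index_eq_two_iff]
  refine ⟨refl Q u₀ hu₀0, fun b => ?_⟩
  rcases hcl b with hb | hb
  · right
    refine ⟨hb, fun hb' => hr₀ ?_⟩
    have := Subgroup.mul_mem _ (Subgroup.inv_mem _ hb) hb'
    rwa [inv_mul_cancel_left] at this
  · left
    refine ⟨hb, fun hb' => hr₀ ?_⟩
    have := Subgroup.mul_mem _ (Subgroup.inv_mem _ hb') hb
    rwa [inv_mul_cancel_left] at this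

end NormClass

end Cfsg.Agent.Lib.Helper2
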