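import Mathlib
import Cfsg.Agent.Lib.Helper2.OrthNdW
import Cfsg.Agent.Lib.Helper5.OrthCls5
import Cfsg.Agent.Lib.Helper5.OrthCls8

set_option autoImplicit false

/-!
Characteristic-free type algebra for nondegenerate subspaces of even dimension of a quadratic space
over a finite field: `PlusS` against helper5's `IsPlus`, orthogonal sums, standard spaces.
-/

namespace Cfsg.Agent.Lib.Helper2.OrthCf

open Module QuadraticMap
open Cfsg.Agent.Lib.Helper2.MaxTS2 Cfsg.Agent.Lib.Helper2.OrthEl Cfsg.Agent.Lib.Helper2.OrthNd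
open Cfsg.Agent.Lib.Helper5.OrthCls
open Cfsg.Agent.Lib.Helper5.QuadGlue

universe u

section basic

variable {F : Type*} [Field F] {V : Type*} [AddCommGroup V] [Module F V]
variable {Q : QuadraticForm F V}

theorem plusS_iff_isPlus [FiniteDimensional F V] (W : Submodule F V) :
    PlusS Q W ↔ IsPlus (Q.comp W.subtype) := by
  constructor
  · rintro ⟨U, hUW, hU, hdim⟩
    refine ⟨U.comap W.subtype, ?_, ?_⟩
    · intro u hu
      rw [QuadraticMap.comp_apply]
      exact hU _ hu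
    · rw [(Submodule.comapSubtypeEquivOfLe hUW).finrank_eq]
      exact hdim
  · rintro ⟨U', hU', hdim⟩
    refine ⟨U'.map W.subtype, Submodule.map_subtype_le _ _, ?_, ?_⟩
    · rintro _ ⟨u, hu, rfl⟩
      have := hU' u hu
      rwa [QuadraticMap.comp_apply] at this
    · rw [← (Submodule.equivSubtypeMap W U').finrank_eq]
      exact hdim

/-- orthogonal sum of nondegenerate subspaces -/
theorem ndeg_sup' {W₁ W₂ : Submodule F V} (h₁ : NDeg Q W₁) (h₂ : NDeg Q W₂)
    (horth : W₁ ≤ perp Q W₂) : NDeg Q (W₁ ⊔ W₂) ∧ Disjoint W₁ W₂ := by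
  have horth' : W₂ ≤ perp Q W₁ := le_perp_comm horth
  constructor
  · unfold NDeg
    rw [Submodule.disjoint_def]
    intro v hv hvp
    obtain ⟨a, ha, b, hb, rfl⟩ := Submodule.mem_sup.1 hv
    rw [mem_perp_iff] at hvp
    have ha0 : a = 0 := by
      apply (Submodule.disjoint_def.1 h₁) a ha
      rw [mem_perp_iff]
      intro w hw
      have h1 := hvp w (Submodule.mem_sup_left hw)
      rw [polar_add_right] at h1
      have h3 : polar (⇑Q) w b = 0 := by
        rw [polar_comm]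
        exact (mem_perp_iff _ _).1 (horth hw) b hb
      rwa [h3, add_zero] at h1
    have hb0 : b = 0 := by
      apply (Submodule.disjoint_def.1 h₂) b hb
      rw [mem_perp_iff]
      intro w hw
      have h1 := hvp w (Submodule.mem_sup_right hw)
      rw [polar_add_right] at h1
      have h3 : polar (⇑Q) w a = 0 := by
        rw [polar_comm]
        exact (mem_perp_iff _ _).1 (horth' hw) a ha
      rwa [h3, zero_add] at h1
    rw [ha0, hb0, add_zero]
  · rw [Submodule.disjoint_def]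
    intro v hv₁ hv₂
    exact (Submodule.disjoint_def.1 h₂) v hv₂ (horth hv₁)

/-- the sum map of two disjoint subspaces -/
noncomputable def sumEquiv {W₁ W₂ : Submodule F V} (hd : Disjoint W₁ W₂) :
    (↥W₁ × ↥W₂) ≃ₗ[F] ↥(W₁ ⊔ W₂) :=
  (LinearEquiv.ofInjective (W₁.subtype.coprod W₂.subtype) (by
    rw [← LinearMap.ker_eq_bot, LinearMap.ker_eq_bot']
    rintro ⟨a, b⟩ hab
    rw [LinearMap.coprod_apply, Submodule.subtype_apply, Submodule.subtype_apply] at hab
    have h1 : (a : V) = -(b : V) := eq_neg_of_add_eq_zero_left hab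
    have h3 : (a : V) ∈ W₂ := by
      rw [h1]
      exact W₂.neg_mem b.2
    have h4 : (a : V) = 0 := (Submodule.disjoint_def.1 hd) _ a.2 h3
    have h5 : (b : V) = 0 := by
      rw [h4, zero_add] at hab
      exact hab
    exact Prod.ext (Subtype.ext h4) (Subtype.ext h5))).trans
    (LinearEquiv.ofEq _ _ (by
      rw [LinearMap.range_coprod, Submodule.range_subtype, Submodule.range_subtype]))

theorem sumEquiv_coe {W₁ W₂ : Submodule F V} (hd : Disjoint W₁ W₂) (x : ↥W₁ × ↥W₂) :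
    ((sumEquiv hd x : ↥(W₁ ⊔ W₂)) : V) = (x.1 : V) + (x.2 : V) := rfl

theorem sumEquiv_iso {W₁ W₂ : Submodule F V} (hd : Disjoint W₁ W₂) (horth : W₁ ≤ perp Q W₂)
    (x : ↥W₁ × ↥W₂) :
    (Q.comp (W₁ ⊔ W₂).subtype) (sumEquiv hd x) =
      ((Q.comp W₁.subtype).prod (Q.comp W₂.subtype)) x := by
  rw [QuadraticMap.comp_apply, Submodule.subtype_apply, sumEquiv_coe, QuadraticMap.prod_apply,
    QuadraticMap.comp_apply, QuadraticMap.comp_apply, Submodule.subtype_apply,
    Submodule.subtype_apply]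
  have h1 : polar (⇑Q) (x.1 : V) (x.2 : V) = 0 := by
    rw [polar_comm]
    exact (mem_perp_iff _ _).1 (horth x.1.2) _ x.2.2
  have h3 : Q ((x.1 : V) + (x.2 : V)) = Q (x.1 : V) + Q (x.2 : V) + polar (⇑Q) (x.1 : V) (x.2 : V) := by
    unfold polar
    ring
  rw [h3, h1, add_zero]

end basic

section fin

variable {F : Type*} [Field F] [Finite F] {V : Type*} [AddCommGroup V] [Module F V]
  [FiniteDimensional F V]
variable {Q : QuadraticForm F V}

/-- the type of an orthogonal sum -/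
theorem plusS_sup {W₁ W₂ : Submodule F V} (h₁ : NDeg Q W₁) (h₂ : NDeg Q W₂)
    (horth : W₁ ≤ perp Q W₂) (hev₁ : Even (finrank F W₁)) (hev₂ : Even (finrank F W₂)) :
    NDeg Q (W₁ ⊔ W₂) ∧ finrank F ↥(W₁ ⊔ W₂) = finrank F W₁ + finrank F W₂ ∧
      (PlusS Q (W₁ ⊔ W₂) ↔ (PlusS Q W₁ ↔ PlusS Q W₂)) := by
  obtain ⟨hnd, hd⟩ := ndeg_sup' h₁ h₂ horth
  refine ⟨hnd, ?_, ?_⟩
  · rw [← (sumEquiv hd).finrank_eq, Module.finrank_prod]
  · rw [plusS_iff_isPlus, plusS_iff_isPlus, plusS_iff_isPlus,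
      ← isPlus_prod_iff h₁.restrict h₂.restrict hev₁ hev₂]
    exact (isPlus_iff_of_isometry (sumEquiv hd) (sumEquiv_iso hd horth)).symm

end fin

section std

variable {F : Type u} [Field F] [Finite F]

open QIso

/-- a standard space of dimension `2a ≥ 2` of prescribed type -/
theorem exists_std (a : ℕ) (ha : 1 ≤ a) (want : Prop) :
    ∃ A : QIso F, (polarBilin A.Q).Nondegenerate ∧ finrank F A.V = 2 * a ∧ (IsPlus A.Q ↔ want) := by
  by_cases hw : want
  · refine ⟨{ V := Fin a ⊕ Fin a → F, Q := QP a F, y := LinearMap.id },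
      Cfsg.Agent.Lib.Helper2.QuadStd.QP_nondeg a, ?_, ?_⟩
    · show finrank F (Fin a ⊕ Fin a → F) = 2 * a
      rw [Module.finrank_fintype_fun_eq_card]
      simp only [Fintype.card_sum, Fintype.card_fin]
      ring
    · exact ⟨fun _ => hw, fun _ => isPlus_QP a⟩
  · obtain ⟨ζ, hζ⟩ := Cfsg.Agent.Lib.Helper5.OrthCls.exists_aniso (F := F)
    refine ⟨{ V := (Fin (a - 1) ⊕ Fin (a - 1)) ⊕ Fin 2 → F,
              Q := Cfsg.Agent.Lib.Helper2.OrthCard.QMn (a - 1) 1 ζ, y := LinearMap.id },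
      Cfsg.Agent.Lib.Helper2.OrthCard.QMn_nondeg (a - 1) 1 ζ hζ, ?_, ?_⟩
    · show finrank F ((Fin (a - 1) ⊕ Fin (a - 1)) ⊕ Fin 2 → F) = 2 * a
      rw [Module.finrank_fintype_fun_eq_card]
      simp only [Fintype.card_sum, Fintype.card_fin]
      omega
    · exact ⟨fun h => absurd h (not_isPlus_QMn (a - 1) 1 ζ hζ), fun h => absurd h hw⟩

end std

end Cfsg.Agent.Lib.Helper2.OrthCf
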