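import Mathlib
import Cfsg.Agent.Lib.Helper2.OrthCfA

set_option autoImplicit false

/-!
Characteristic-free twin of `OrthNdD`/`OrthNdE`/`OrthNdO`: nondegenerate subspaces of prescribed even
dimension and type inside a nondegenerate subspace, transport of the type by isometries, Witt
transitivity by type, and the number of singular vectors in terms of the type.
-/

namespace Cfsg.Agent.Lib.Helper2.OrthCf

open Module QuadraticMap Pointwise
open Cfsg.Agent.Lib.Helper2.MaxTS2 Cfsg.Agent.Lib.Helper2.OrthEl Cfsg.Agent.Lib.Helper2.OrthNd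
open Cfsg.Agent.Lib.Helper5.OrthCls
open Cfsg.Agent.Lib.Helper5.QuadGlue

universe u

section sub

variable {F : Type u} [Field F] [Finite F] {V : Type*} [AddCommGroup V] [Module F V]
  [FiniteDimensional F V]
variable {Q : QuadraticForm F V}

/-- an isometric embedding gives a nondegenerate subspace of the same type -/
theorem range_props {V' : Type*} [AddCommGroup V'] [Module F V'] [FiniteDimensional F V']
    {Q' : QuadraticForm F V'} (hQ' : (polarBilin Q').Nondegenerate) (j : V' →ₗ[F] V)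
    (hinj : Function.Injective j) (hj : ∀ v, Q (j v) = Q' v) :
    NDeg Q (LinearMap.range j) ∧ finrank F ↥(LinearMap.range j) = finrank F V' ∧
      (PlusS Q (LinearMap.range j) ↔ IsPlus Q') := by
  set e : V' ≃ₗ[F] ↥(LinearMap.range j) := LinearEquiv.ofInjective j hinj with he_def
  have he : ∀ v, (Q.comp (LinearMap.range j).subtype) (e v) = Q' v := by
    intro v
    rw [QuadraticMap.comp_apply, Submodule.subtype_apply]
    show Q (j v) = Q' v
    exact hj v
  refine ⟨?_, e.finrank_eq.symm, ?_⟩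
  · apply ndeg_of_restrict
    exact nondeg_of_equiv e he hQ'
  · rw [plusS_iff_isPlus]
    exact (isPlus_iff_of_isometry e he).symm

/-- inside a nondegenerate subspace of even dimension there are nondegenerate subspaces of every
smaller positive even dimension and of every type -/
theorem exists_ndeg_sub' {M : Submodule F V} (hM : NDeg Q M) (hMev : Even (finrank F M)) (b : ℕ)
    (hb0 : 0 < b) (hbev : Even b) (hbM : b < finrank F M) (want : Prop) :
    ∃ W : Submodule F V, W ≤ M ∧ NDeg Q W ∧ finrank F W = b ∧ (PlusS Q W ↔ want) := by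
  obtain ⟨a, ha⟩ := hbev
  obtain ⟨μ, hμ⟩ := hMev
  obtain ⟨A, hAnd, hAdim, hAtype⟩ := exists_std (F := F) a (by omega) want
  obtain ⟨A', hA'nd, hA'dim, hA'type⟩ := exists_std (F := F) (μ - a) (by omega) (want ↔ PlusS Q M)
  have hprod := prod_nondeg A.Q A'.Q hAnd hA'nd
  have hpdim : finrank F (A.V × A'.V) = finrank F M := by
    rw [Module.finrank_prod, hAdim, hA'dim, hμ]
    omega
  have hptype : IsPlus (A.Q.prod A'.Q) ↔ IsPlus (Q.comp M.subtype) := by
    rw [isPlus_prod_iff hAnd hA'nd (by rw [hAdim]; exact even_two_mul a)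
      (by rw [hA'dim]; exact even_two_mul _), hAtype, hA'type, ← plusS_iff_isPlus]
    tauto
  obtain ⟨g, hg⟩ := iso_of_type (A.Q.prod A'.Q) (Q.comp M.subtype) hprod hM.restrict hpdim
    (by rw [hpdim, hμ]; exact ⟨μ, rfl⟩) hptype
  set j : A.V →ₗ[F] V := M.subtype ∘ₗ (g : (A.V × A'.V) →ₗ[F] ↥M) ∘ₗ LinearMap.inl F A.V A'.V
    with hj_def
  have hjapply : ∀ v, j v = ((g (v, 0) : ↥M) : V) := fun v => rfl
  have hinj : Function.Injective j := by
    intro v w hvw
    rw [hjapply, hjapply] at hvw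
    have h1 := g.injective (Subtype.ext hvw)
    exact (Prod.ext_iff.1 h1).1
  have hjQ : ∀ v, Q (j v) = A.Q v := by
    intro v
    have h1 := hg (v, 0)
    rw [QuadraticMap.comp_apply, Submodule.subtype_apply, QuadraticMap.prod_apply] at h1
    rw [hjapply, h1]
    simp
  obtain ⟨h1, h3, h4⟩ := range_props hAnd j hinj hjQ
  refine ⟨LinearMap.range j, ?_, h1, ?_, ?_⟩
  · rintro _ ⟨v, rfl⟩
    rw [hjapply]
    exact (g (v, 0)).2
  · rw [h3, hAdim, ha]
    ring
  · rw [h4, hAtype]

end sub

section iso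

variable {F : Type*} [Field F] {V : Type*} [AddCommGroup V] [Module F V] [FiniteDimensional F V]
variable {Q : QuadraticForm F V}

/-- transport of nondegeneracy, dimension and type by an isometry -/
theorem map_iso_props' (g : V ≃ₗ[F] V) (hg : ∀ v, Q (g v) = Q v) (W : Submodule F V) :
    (NDeg Q W → NDeg Q (W.map (g : V →ₗ[F] V))) ∧
      finrank F ↥(W.map (g : V →ₗ[F] V)) = finrank F W ∧
      (PlusS Q (W.map (g : V →ₗ[F] V)) ↔ PlusS Q W) := by
  have hpol : ∀ a b, polar (⇑Q) (g a) (g b) = polar (⇑Q) a b := by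
    intro a b
    unfold polar
    rw [← map_add, hg, hg, hg]
  refine ⟨?_, LinearEquiv.finrank_map_eq g W, ?_⟩
  · intro hW
    unfold NDeg
    rw [Submodule.disjoint_def]
    rintro _ ⟨w, hw, rfl⟩ hperp
    have h1 : w = 0 := by
      apply (Submodule.disjoint_def.1 hW) w hw
      rw [mem_perp_iff]
      intro x hx
      rw [← hpol]
      exact ((mem_perp_iff _ _).1 hperp) (g x) ⟨x, hx, rfl⟩
    rw [h1]
    exact map_zero _
  · rw [plusS_iff_isPlus, plusS_iff_isPlus]
    exact (isPlus_iff_of_isometry (g.submoduleMap W) (fun v => by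
      rw [QuadraticMap.comp_apply, QuadraticMap.comp_apply, Submodule.subtype_apply,
        Submodule.subtype_apply, LinearEquiv.submoduleMap_apply, hg])).symm

variable [Finite F]

/-- transitivity of the isometry group on nondegenerate subspaces of given even dimension and
type -/
theorem exists_iso_map_eq' (hQ : (polarBilin Q).Nondegenerate)
    {W₁ W₂ : Submodule F V} (h₁ : NDeg Q W₁) (h₂ : NDeg Q W₂)
    (hdim : finrank F W₁ = finrank F W₂) (hev : Even (finrank F W₁))
    (htype : PlusS Q W₁ ↔ PlusS Q W₂) :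
    ∃ g : V ≃ₗ[F] V, (∀ v, Q (g v) = Q v) ∧ W₁.map (g : V →ₗ[F] V) = W₂ := by
  obtain ⟨e, he⟩ := iso_of_type (Q.comp W₁.subtype) (Q.comp W₂.subtype) h₁.restrict h₂.restrict hdim
    hev (by rw [← plusS_iff_isPlus, ← plusS_iff_isPlus]; exact htype)
  obtain ⟨g, hg, hge⟩ := Witt.witt_equiv Q hQ W₁ W₂ e (fun x => by
    have := he x
    rw [QuadraticMap.comp_apply, QuadraticMap.comp_apply, Submodule.subtype_apply,
      Submodule.subtype_apply] at this
    exact this)
  refine ⟨g, hg, ?_⟩
  apply Submodule.eq_of_le_of_finrank_eq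
  · rintro _ ⟨w, hw, rfl⟩
    have := hge ⟨w, hw⟩
    show g w ∈ W₂
    rw [show g w = (e ⟨w, hw⟩ : V) from this]
    exact (e ⟨w, hw⟩).2
  · rw [LinearEquiv.finrank_map_eq g W₁, hdim]

/-- the number of nondegenerate subspaces of a given even dimension and type divides the order of
the isometry group -/
theorem card_dvd_card_qIso_type (hQ : (polarBilin Q).Nondegenerate)
    (W₀ : Submodule F V) (h₀ : NDeg Q W₀) (m : ℕ) (hm : finrank F W₀ = m) (hev : Even m)
    (want : Prop) (hw : PlusS Q W₀ ↔ want) :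
    Nat.card {W : Submodule F V // finrank F W = m ∧ NDeg Q W ∧ (PlusS Q W ↔ want)} ∣
      Nat.card ↥(qIso Q) := by
  have horb : MulAction.orbit ↥(qIso Q) W₀ = {W : Submodule F V | finrank F W = m ∧ NDeg Q W ∧
      (PlusS Q W ↔ want)} := by
    ext W
    constructor
    · rintro ⟨g, rfl⟩
      show finrank F ↥((g : V ≃ₗ[F] V) • W₀) = m ∧ NDeg Q ((g : V ≃ₗ[F] V) • W₀) ∧
        (PlusS Q ((g : V ≃ₗ[F] V) • W₀) ↔ want)
      rw [smul_eq_map]
      obtain ⟨g1, g2, g3⟩ := map_iso_props' g.1 g.2 W₀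
      exact ⟨g2.trans hm, g1 h₀, g3.trans hw⟩
    · rintro ⟨hdim, hW, htype⟩
      obtain ⟨g, hg, hgW⟩ := exists_iso_map_eq' hQ h₀ hW (hm.trans hdim.symm) (by rw [hm]; exact hev)
        (hw.trans htype.symm)
      refine ⟨⟨g, hg⟩, ?_⟩
      show (g : V ≃ₗ[F] V) • W₀ = W
      rw [smul_eq_map, hgW]
  have h1 := MulAction.index_stabilizer (G := ↥(qIso Q)) (x := W₀)
  have h3 : Nat.card {W : Submodule F V // finrank F W = m ∧ NDeg Q W ∧ (PlusS Q W ↔ want)} =
      (MulAction.orbit ↥(qIso Q) W₀).ncard := by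
    rw [horb]
    exact Nat.card_coe_set_eq _
  rw [h3, ← h1]
  exact Subgroup.index_dvd_card _

end iso

section restrict

variable {F : Type*} [Field F] {V : Type*} [AddCommGroup V] [Module F V] [FiniteDimensional F V]
variable {Q : QuadraticForm F V}

/-- subspaces of a subspace -/
theorem sub_props' (Y : Submodule F V) (W' : Submodule F ↥Y) :
    (NDeg (Q.comp Y.subtype) W' ↔ NDeg Q (W'.map Y.subtype)) ∧
      finrank F ↥(W'.map Y.subtype) = finrank F W' ∧
      (PlusS Q (W'.map Y.subtype) ↔ PlusS (Q.comp Y.subtype) W') := by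
  set ε : ↥W' ≃ₗ[F] ↥(W'.map Y.subtype) := Y.equivSubtypeMap W' with hε
  have hεiso : ∀ v, (Q.comp (W'.map Y.subtype).subtype) (ε v) =
      ((Q.comp Y.subtype).comp W'.subtype) v := by
    intro v
    simp only [QuadraticMap.comp_apply, Submodule.subtype_apply]
    rfl
  have hεiso' : ∀ v, ((Q.comp Y.subtype).comp W'.subtype) (ε.symm v) =
      (Q.comp (W'.map Y.subtype).subtype) v := by
    intro v
    rw [← hεiso, LinearEquiv.apply_symm_apply]
  refine ⟨?_, ε.finrank_eq.symm, ?_⟩
  · constructor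
    · intro h
      apply ndeg_of_restrict
      exact nondeg_of_equiv ε hεiso h.restrict
    · intro h
      apply ndeg_of_restrict
      exact nondeg_of_equiv ε.symm hεiso' h.restrict
  · rw [plusS_iff_isPlus, plusS_iff_isPlus]
    exact (isPlus_iff_of_isometry ε hεiso).symm

end restrict

section count

variable {F : Type u} [Field F] [Fintype F]
variable {V : Type*} [AddCommGroup V] [Module F V] [FiniteDimensional F V]
variable {Q : QuadraticForm F V}

/-- singular vectors of a space of plus type -/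
theorem card_singular_isPlus (hQ : (polarBilin Q).Nondegenerate) (a : ℕ)
    (ha : 1 ≤ a) (hdim : finrank F V = 2 * a) (hd : IsPlus Q) :
    Nat.card {v : V // Q v = 0} =
      Fintype.card F ^ (2 * a - 1) + Fintype.card F ^ a - Fintype.card F ^ (a - 1) := by
  classical
  obtain ⟨e, he⟩ := iso_of_type Q (QP a F) hQ (QuadStd.QP_nondeg a)
    (by rw [hdim, finrank_plus_space]) (by rw [hdim]; exact even_two_mul a)
    (iff_of_true hd (isPlus_QP a))
  rw [← Cfsg.Agent.S0289.result (F := F) rfl a ha]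
  apply Nat.card_congr
  refine ⟨fun v => ⟨e v.1, by rw [← QP_apply, he, v.2]⟩, fun u => ⟨e.symm u.1, ?_⟩, ?_, ?_⟩
  · have := he (e.symm u.1)
    rw [LinearEquiv.apply_symm_apply, QP_apply, u.2] at this
    exact this.symm
  · intro v
    apply Subtype.ext
    exact e.symm_apply_apply _
  · intro u
    apply Subtype.ext
    exact e.apply_symm_apply _

/-- singular vectors of a space of minus type -/
theorem card_singular_not_isPlus (hQ : (polarBilin Q).Nondegenerate) (a : ℕ)
    (ha : 1 ≤ a) (hdim : finrank F V = 2 * a) (hd : ¬ IsPlus Q) :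
    Nat.card {v : V // Q v = 0} =
      Fintype.card F ^ (2 * a - 1) + Fintype.card F ^ (a - 1) - Fintype.card F ^ a := by
  classical
  obtain ⟨a', rfl⟩ : ∃ a', a = a' + 1 := ⟨a - 1, by omega⟩
  obtain ⟨ζ, hζ⟩ := Cfsg.Agent.Lib.Helper5.OrthCls.exists_aniso (F := F)
  obtain ⟨e, he⟩ := iso_of_type Q (Cfsg.Agent.Lib.Helper2.OrthCard.QMn a' 1 ζ) hQ
    (Cfsg.Agent.Lib.Helper2.OrthCard.QMn_nondeg a' 1 ζ hζ)
    (by rw [hdim, finrank_minus_space]) (by rw [hdim]; exact even_two_mul _)
    (iff_of_false hd (not_isPlus_QMn a' 1 ζ hζ))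
  have h3 : Nat.card {v : (Fin a' ⊕ Fin a') ⊕ Fin 2 → F // Cfsg.quadFormMinus a' F 1 ζ v = 0} =
      Fintype.card F ^ (2 * (a' + 1) - 1) + Fintype.card F ^ (a' + 1 - 1) -
        Fintype.card F ^ (a' + 1) :=
    Cfsg.Agent.S0290.result (F := F) rfl (a' + 1) (by omega) 1 ζ hζ
  rw [← h3]
  have hco := Cfsg.Agent.Lib.Helper2.OrthCard.QMn_coe (F := F) a' 1 ζ
  apply Nat.card_congr
  refine ⟨fun v => ⟨e v.1, by rw [← hco, he, v.2]⟩,
    fun u => ⟨e.symm u.1, ?_⟩, ?_, ?_⟩
  · have := he (e.symm u.1)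
    rw [LinearEquiv.apply_symm_apply, hco, u.2] at this
    exact this.symm
  · intro v
    apply Subtype.ext
    exact e.symm_apply_apply _
  · intro u
    apply Subtype.ext
    exact e.apply_symm_apply _

end count

end Cfsg.Agent.Lib.Helper2.OrthCf
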