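import Mathlib
import Cfsg.Agent.Lib.Helper2.OrthCfB
import Cfsg.Agent.Lib.Helper5.AltForm

set_option autoImplicit false

/-!
Characteristic-free twin of `OrthElD`/`OrthElE` (for `i` odd): a minimal invariant subspace of the
cyclotomic kernel is totally singular or nondegenerate in every characteristic; for `i` odd it is
totally singular; peeling gives totally singular invariant subspaces of dimension `i * b` and the
divisibility by `2 i`.
-/

namespace Cfsg.Agent.Lib.Helper2.OrthCf

open Module QuadraticMap Polynomial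
open Cfsg.Agent.Lib.Helper2.MaxTS2 Cfsg.Agent.Lib.Helper2.OrthEl Cfsg.Agent.Lib.Helper2.OrthNd
open Cfsg.Agent.H9SemiInv
open Cfsg.Agent.Lib.Helper9.H9Elus

variable {F V : Type*} [Field F] [Fintype F] {p : ℕ} [Fact p.Prime] [CharP F p]
  [AddCommGroup V] [Module F V] [FiniteDimensional F V]
variable {Q : QuadraticForm F V} {y : V →ₗ[F] V}

omit [Fintype F] [Fact p.Prime] [CharP F p] in
/-- in characteristic `2` a nondegenerate subspace has even dimension -/
theorem even_finrank_of_ndeg_two (h2 : (2 : F) = 0) {Z : Submodule F V} (hZ : NDeg Q Z) :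
    Even (finrank F Z) := by
  have hQ' := hZ.restrict
  apply Cfsg.Agent.Lib.Helper5.AltForm.even_finrank_of_nondegenerate
    (B := polarBilin (Q.comp Z.subtype))
  · intro x
    rw [polarBilin_apply_apply, polar_self, two_smul, ← two_mul, h2, zero_mul]
  · intro x hx
    exact hQ'.1 x hx

omit [Fact p.Prime] [CharP F p] [FiniteDimensional F V] in
/-- in characteristic `2`, the singular vectors of a subspace on which the polar form vanishes
form a subspace -/
theorem singular_sub_two {Z : Submodule F V} (hZ : Z ≤ perp Q Z) :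
    ∃ K : Submodule F V, ∀ v, v ∈ K ↔ v ∈ Z ∧ Q v = 0 := by
  refine ⟨{ carrier := {v | v ∈ Z ∧ Q v = 0}
            add_mem' := ?_
            zero_mem' := ⟨Z.zero_mem, map_zero _⟩
            smul_mem' := ?_ }, fun v => Iff.rfl⟩
  · rintro a b ⟨ha, hqa⟩ ⟨hb, hqb⟩
    refine ⟨Z.add_mem ha hb, ?_⟩
    have h1 : polar (⇑Q) a b = 0 := by
      rw [polar_comm]
      exact (mem_perp_iff _ _).1 (hZ ha) b hb
    have h3 : Q (a + b) = Q a + Q b + polar (⇑Q) a b := by
      unfold polar
      ring
    rw [h3, hqa, hqb, h1]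
    simp
  · rintro c a ⟨ha, hqa⟩
    refine ⟨Z.smul_mem c ha, ?_⟩
    rw [QuadraticMap.map_smul, hqa, smul_zero]

/-- a minimal invariant subspace of the cyclotomic kernel is totally singular or nondegenerate -/
theorem isTS_or_ndeg' (hiso : ∀ v, Q (y v) = Q v) (r : ℕ) [Fact r.Prime]
    (hrp : r ≠ p) (hy : y ^ r = 1) (Z : Submodule F V) (hZV : Z ≤ cycS y r) (hZ : Inv y Z)
    (hZi : finrank F Z = orderOf ((Fintype.card F : ℕ) : ZMod r)) : IsTS Q Z ∨ NDeg Q Z := by
  by_cases h2 : (2 : F) = 0
  swap
  · exact isTS_or_ndeg h2 hiso r hrp hy Z hZV hZ hZi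
  by_cases hR : Z ⊓ perp Q Z = ⊥
  · right
    exact disjoint_iff.2 hR
  · left
    have hr1 : 1 ≤ r := (Fact.out : r.Prime).one_lt.le
    obtain ⟨Z', hZ'R, -, hZ'i⟩ := hmin_cyclotomic r hrp y (Z ⊓ perp Q Z) (inf_le_left.trans hZV)
      (hZ.inf (inv_perp hiso hr1 hy hZ)) hR
    have h3 : Z' = Z := by
      apply Submodule.eq_of_le_of_finrank_eq (hZ'R.trans inf_le_left)
      rw [hZ'i, hZi]
    rw [h3] at hZ'R
    have hZp : Z ≤ perp Q Z := hZ'R.trans inf_le_right
    obtain ⟨K, hK⟩ := singular_sub_two hZp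
    have hKZ : K ≤ Z := fun v hv => ((hK v).1 hv).1
    have hKinv : Inv y K := by
      intro v hv
      rw [hK] at hv ⊢
      exact ⟨hZ v hv.1, by rw [hiso]; exact hv.2⟩
    by_cases hK0 : K = ⊥
    · -- every nonzero vector of `Z` is nonsingular: `Z` is a line, impossible
      exfalso
      have hipos := order_pos (F := F) r hrp
      have hZne : Z ≠ ⊥ := by
        intro h0
        rw [h0, finrank_bot] at hZi
        omega
      obtain ⟨z, hzZ, hz0⟩ := Submodule.exists_mem_ne_zero_of_ne_bot hZne
      have hQz : Q z ≠ 0 := by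
        intro h
        have : z ∈ K := (hK z).2 ⟨hzZ, h⟩
        rw [hK0, Submodule.mem_bot] at this
        exact hz0 this
      have hline : ∀ w ∈ Z, ∃ a : F, w = a • z := by
        intro w hw
        haveI : CharP F 2 := by
          have hp2 : p = 2 := by
            have h1 : ((2 : ℕ) : F) = 0 := by exact_mod_cast h2
            have h3 := (CharP.cast_eq_zero_iff F p 2).1 h1
            exact ((Nat.prime_dvd_prime_iff_eq Fact.out Nat.prime_two).1 h3)
          rw [← hp2]
          infer_instance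
        obtain ⟨a, ha⟩ := FiniteField.isSquare_of_char_two (F := F) (ringChar.eq F 2)
          (Q w / Q z)
        refine ⟨a, ?_⟩
        have h5 : w - a • z ∈ K := by
          rw [hK]
          refine ⟨Z.sub_mem hw (Z.smul_mem a hzZ), ?_⟩
          have h6 : polar (⇑Q) w (-(a • z)) = 0 :=
            (mem_perp_iff _ _).1 (hZp (Z.neg_mem (Z.smul_mem a hzZ))) w hw
          have h7 : Q (w - a • z) = Q w + Q (-(a • z)) + polar (⇑Q) w (-(a • z)) := by
            rw [sub_eq_add_neg]
            unfold polar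
            ring
          rw [h7, h6, add_zero, QuadraticMap.map_neg, QuadraticMap.map_smul, smul_eq_mul]
          have h8 : a * a * Q z = Q w := by
            rw [← ha]
            field_simp
          rw [h8, ← two_mul, h2, zero_mul]
        rw [hK0, Submodule.mem_bot] at h5
        exact sub_eq_zero.1 h5
      obtain ⟨c, hc⟩ := hline (y z) (hZ z hzZ)
      have h3 : Q z = c * c * Q z := by
        conv_lhs => rw [← hiso, hc, QuadraticMap.map_smul, smul_eq_mul]
      have h4 : c * c = 1 := by
        have : (c * c - 1) * Q z = 0 := by linear_combination -h3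
        rcases mul_eq_zero.1 this with h5 | h5
        · exact sub_eq_zero.1 h5
        · exact absurd h5 hQz
      have h5 : c = 1 := by
        have h6 : (c - 1) * (c - 1) = 0 := by
          have : (c - 1) * (c - 1) = c * c - 2 * c + 1 := by ring
          rw [this, h4, h2, zero_mul, sub_zero, ← two_mul, h2, zero_mul]
        exact sub_eq_zero.1 (mul_self_eq_zero.1 h6)
      rw [h5, one_smul] at hc
      exact hz0 (eq_zero_of_fix_of_cyc r hrp hy hc (hZV hzZ))
    · obtain ⟨Z'', hZ''K, -, hZ''i⟩ := hmin_cyclotomic r hrp y K (hKZ.trans hZV) hKinv hK0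
      have h5 : K = Z := by
        apply Submodule.eq_of_le_of_finrank_eq hKZ
        apply le_antisymm (Submodule.finrank_mono hKZ)
        rw [hZi, ← hZ''i]
        exact Submodule.finrank_mono hZ''K
      intro v hv
      rw [← h5] at hv
      exact ((hK v).1 hv).2

/-- for `i` odd every invariant subspace of dimension `i` of the cyclotomic kernel is totally
singular -/
theorem isTS_of_odd' (hiso : ∀ v, Q (y v) = Q v) (r : ℕ)
    [Fact r.Prime] (hrp : r ≠ p) (hr2 : r ≠ 2) (hy : y ^ r = 1) (Z : Submodule F V)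
    (hZV : Z ≤ cycS y r) (hZ : Inv y Z)
    (hZi : finrank F Z = orderOf ((Fintype.card F : ℕ) : ZMod r))
    (hi : Odd (orderOf ((Fintype.card F : ℕ) : ZMod r))) : IsTS Q Z := by
  by_cases h2 : (2 : F) = 0
  · rcases isTS_or_ndeg' hiso r hrp hy Z hZV hZ hZi with h | h
    · exact h
    · exfalso
      have := even_finrank_of_ndeg_two h2 h
      rw [hZi] at this
      exact (Nat.not_even_iff_odd.2 hi) this
  · have hodd : Odd (Fintype.card F) := by
      rcases Nat.even_or_odd (Fintype.card F) with he | ho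
      · exfalso
        apply h2
        obtain ⟨k, hk⟩ := he
        have h1 : ((Fintype.card F : ℕ) : F) = 0 := Nat.cast_card_eq_zero F
        have hp2 : p ∣ Fintype.card F := (CharP.cast_eq_zero_iff F p _).1 h1
        obtain ⟨f, -, hf⟩ := FiniteField.card F p
        have h3 : 2 ∣ p ^ (f : ℕ) := by
          rw [← hf, hk]
          exact ⟨k, by ring⟩
        have h4 : 2 ∣ p := Nat.Prime.dvd_of_dvd_pow Nat.prime_two h3
        have h5 : p = 2 := ((Nat.prime_dvd_prime_iff_eq Nat.prime_two Fact.out).1 h4).symm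
        have h6 : ((p : ℕ) : F) = 0 := CharP.cast_eq_zero F p
        rw [h5] at h6
        exact_mod_cast h6
      · exact ho
    exact isTS_of_odd hodd hiso r hrp hr2 hy Z hZV hZ hZi hi

/-- totally singular invariant subspaces of dimension `i * b` in the cyclotomic kernel, `i` odd -/
theorem exists_isTS_inv_mul' (hQ : (polarBilin Q).Nondegenerate)
    (hiso : ∀ v, Q (y v) = Q v) (r : ℕ) [Fact r.Prime] (hrp : r ≠ p) (hr2 : r ≠ 2)
    (hy : y ^ r = 1) (hi : Odd (orderOf ((Fintype.card F : ℕ) : ZMod r))) :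
    ∀ (b : ℕ) (M : Submodule F V), NDeg Q M → Inv y M → M ≤ cycS y r →
      (b = 0 ∨ 2 * orderOf ((Fintype.card F : ℕ) : ZMod r) * (b - 1) < finrank F M) →
      ∃ T : Submodule F V, T ≤ M ∧ Inv y T ∧ IsTS Q T ∧
        finrank F T = orderOf ((Fintype.card F : ℕ) : ZMod r) * b := by
  intro b
  induction b with
  | zero =>
    intro M _ _ _ _
    refine ⟨⊥, bot_le, ?_, ?_, ?_⟩
    · intro x hx
      rw [Submodule.mem_bot] at hx
      rw [hx, map_zero]
      exact Submodule.zero_mem _
    · intro x hx
      rw [Submodule.mem_bot] at hx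
      rw [hx, map_zero]
    · rw [finrank_bot, mul_zero]
  | succ b ih =>
    intro M hM hMinv hMV hcond
    have hcond' : 2 * orderOf ((Fintype.card F : ℕ) : ZMod r) * b < finrank F M := by
      rcases hcond with h | h
      · exact absurd h (Nat.succ_ne_zero b)
      · simpa using h
    have hne : M ≠ ⊥ := by
      intro h0
      rw [h0, finrank_bot] at hcond'
      omega
    obtain ⟨Z, hZM, hZinv, hZi⟩ := hmin_cyclotomic r hrp y M hMV hMinv hne
    have hZ : IsTS Q Z := isTS_of_odd' hiso r hrp hr2 hy Z (hZM.trans hMV) hZinv hZi hi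
    obtain ⟨M₂, hM₂L, hM₂inv, hM₂nd, hdisj, hdim⟩ :=
      exists_peel hQ hiso r hrp hy hM hMinv hZM hZinv hZ
    have hM₂M : M₂ ≤ M := hM₂L.trans inf_le_left
    obtain ⟨T₂, hT₂M, hT₂inv, hT₂, hT₂i⟩ := ih M₂ hM₂nd hM₂inv (hM₂M.trans hMV) (by
      rcases Nat.eq_zero_or_pos b with hb | hb
      · left; exact hb
      · right
        rw [hZi] at hdim
        have : 2 * orderOf ((Fintype.card F : ℕ) : ZMod r) * b =
            2 * orderOf ((Fintype.card F : ℕ) : ZMod r) * (b - 1) +
              2 * orderOf ((Fintype.card F : ℕ) : ZMod r) := by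
          obtain ⟨b', rfl⟩ : ∃ b', b = b' + 1 := ⟨b - 1, by omega⟩
          rw [Nat.add_sub_cancel]
          ring
        omega)
    refine ⟨Z ⊔ T₂, sup_le hZM (hT₂M.trans hM₂M), hZinv.sup hT₂inv, ?_, ?_⟩
    · apply isTS_sup hZ hT₂
      apply le_perp_comm
      exact (hT₂M.trans hM₂L).trans inf_le_right
    · have hd : Disjoint Z T₂ := hdisj.mono_right hT₂M
      rw [finrank_sup_of_disjoint hd, hZi, hT₂i]
      ring

/-- for `i` odd, the dimension of a nondegenerate invariant subspace of the cyclotomic kernel is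
divisible by `2i` -/
theorem two_mul_dvd_finrank' (hQ : (polarBilin Q).Nondegenerate)
    (hiso : ∀ v, Q (y v) = Q v) (r : ℕ) [Fact r.Prime] (hrp : r ≠ p) (hr2 : r ≠ 2)
    (hy : y ^ r = 1) (hi : Odd (orderOf ((Fintype.card F : ℕ) : ZMod r))) :
    ∀ (n : ℕ) (M : Submodule F V), finrank F M = n → NDeg Q M → Inv y M → M ≤ cycS y r →
      2 * orderOf ((Fintype.card F : ℕ) : ZMod r) ∣ n := by
  intro n
  induction n using Nat.strong_induction_on with
  | _ n ih =>
    intro M hn hM hMinv hMV
    rcases Nat.eq_zero_or_pos n with h0 | h0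
    · rw [h0]
      exact dvd_zero _
    · have hne : M ≠ ⊥ := by
        intro hb
        rw [hb, finrank_bot] at hn
        omega
      obtain ⟨Z, hZM, hZinv, hZi⟩ := hmin_cyclotomic r hrp y M hMV hMinv hne
      have hZ : IsTS Q Z := isTS_of_odd' hiso r hrp hr2 hy Z (hZM.trans hMV) hZinv hZi hi
      obtain ⟨M₂, hM₂L, hM₂inv, hM₂nd, -, hdim⟩ :=
        exists_peel hQ hiso r hrp hy hM hMinv hZM hZinv hZ
      have hipos : 1 ≤ orderOf ((Fintype.card F : ℕ) : ZMod r) := order_pos r hrp
      rw [hZi, hn] at hdim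
      have h3 := ih (finrank F M₂) (by omega) M₂ rfl hM₂nd hM₂inv
        ((hM₂L.trans inf_le_left).trans hMV)
      rw [← hdim]
      exact Dvd.dvd.add h3 (dvd_refl _)

end Cfsg.Agent.Lib.Helper2.OrthCf
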