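import Mathlib
import Cfsg.Agent.Lib.Helper2.OrthElB
import Cfsg.Agent.Lib.Helper2.OrthElA
import Cfsg.Agent.Lib.Helper9.Elus1

set_option autoImplicit false

/-!
Counting totally singular subspaces of a nondegenerate quadratic space of dimension `2d+1` over
a finite field of odd characteristic, by counting totally singular frames.
-/

namespace Cfsg.Agent.Lib.Helper2.OrthEl

open Module QuadraticMap
open Cfsg.Agent.Lib.Helper2.MaxTS2
open Cfsg.Agent.Lib.Helper9.H9Elus

theorem card_ne {α : Type*} [Finite α] (a : α) : Nat.card {x : α // x ≠ a} = Nat.card α - 1 := by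
  classical
  have : Fintype α := Fintype.ofFinite α
  rw [Nat.card_eq_fintype_card, Nat.card_eq_fintype_card, Fintype.card_subtype,
    Finset.filter_ne' Finset.univ a, Finset.card_erase_of_mem (Finset.mem_univ a),
    Finset.card_univ]

variable {F V : Type*} [Field F] [Fintype F] [AddCommGroup V] [Module F V] [FiniteDimensional F V]
variable (Q : QuadraticForm F V)

/-- totally singular frames -/
def IsTSFrame {m : ℕ} (s : Fin m → V) : Prop :=
  LinearIndependent F s ∧ (∀ j, Q (s j) = 0) ∧ ∀ j l, polar (⇑Q) (s j) (s l) = 0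

variable {Q}

omit [Fintype F] [FiniteDimensional F V] in
theorem IsTSFrame.isTS {m : ℕ} {s : Fin m → V} (hs : IsTSFrame Q s) :
    IsTS Q (Submodule.span F (Set.range s)) := isTS_span s hs.2.1 hs.2.2

omit [Fintype F] [FiniteDimensional F V] in
theorem IsTSFrame.finrank {m : ℕ} {s : Fin m → V} (hs : IsTSFrame Q s) :
    finrank F (Submodule.span F (Set.range s)) = m := by
  rw [finrank_span_eq_card hs.1, Fintype.card_fin]

omit [Fintype F] [FiniteDimensional F V] in
theorem mem_perp_span_iff {m : ℕ} (s : Fin m → V) (v : V) :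
    v ∈ perp Q (Submodule.span F (Set.range s)) ↔ ∀ j, polar (⇑Q) (s j) v = 0 := by
  constructor
  · intro h j
    exact h _ (Submodule.subset_span ⟨j, rfl⟩)
  · intro h
    have h1 : Submodule.span F (Set.range s) ≤ perp Q (Submodule.span F {v}) := by
      rw [Submodule.span_le]
      rintro _ ⟨j, rfl⟩
      rw [SetLike.mem_coe, mem_perp_iff]
      intro x hx
      obtain ⟨c, rfl⟩ := Submodule.mem_span_singleton.1 hx
      rw [polar_smul_left, polar_comm, h j, smul_zero]
    exact le_perp_comm h1 (Submodule.mem_span_singleton_self v)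

omit [Fintype F] [FiniteDimensional F V] in
theorem isTSFrame_cons (h2 : (2 : F) ≠ 0) {m : ℕ} (s : Fin m → V) (v : V) :
    IsTSFrame Q (Fin.cons v s : Fin (m + 1) → V) ↔
      IsTSFrame Q s ∧ v ∈ perp Q (Submodule.span F (Set.range s)) ∧ Q v = 0 ∧
        v ∉ Submodule.span F (Set.range s) := by
  unfold IsTSFrame
  rw [linearIndependent_fin_cons, mem_perp_span_iff]
  constructor
  · rintro ⟨⟨h1, h3⟩, h4, h5⟩
    refine ⟨⟨h1, fun j => ?_, fun j l => ?_⟩, fun j => ?_, ?_, h3⟩
    · have := h4 j.succ
      rwa [Fin.cons_succ] at this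
    · have := h5 j.succ l.succ
      rwa [Fin.cons_succ, Fin.cons_succ] at this
    · have := h5 j.succ 0
      rwa [Fin.cons_succ, Fin.cons_zero] at this
    · have := h4 0
      rwa [Fin.cons_zero] at this
  · rintro ⟨⟨h1, h4, h5⟩, h6, h7, h3⟩
    refine ⟨⟨h1, h3⟩, fun j => ?_, fun j l => ?_⟩
    · induction j using Fin.cases with
      | zero => rw [Fin.cons_zero]; exact h7
      | succ j => rw [Fin.cons_succ]; exact h4 j
    · induction j using Fin.cases with
      | zero =>
        induction l using Fin.cases with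
        | zero => rw [Fin.cons_zero, polar_self, h7, smul_zero]
        | succ l => rw [Fin.cons_zero, Fin.cons_succ, polar_comm]; exact h6 l
      | succ j =>
        induction l using Fin.cases with
        | zero => rw [Fin.cons_zero, Fin.cons_succ]; exact h6 j
        | succ l => rw [Fin.cons_succ, Fin.cons_succ]; exact h5 j l

/-- the number of singular vectors outside `W'` in the orthogonal complement of a totally
singular subspace `W'` -/
theorem card_ext (hodd : Odd (Fintype.card F)) (hQ : (polarBilin Q).Nondegenerate) (d m : ℕ)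
    (hdim : finrank F V = 2 * d + 1) (hmd : m ≤ d) (W' : Submodule F V) (hW' : IsTS Q W')
    (hW'm : finrank F W' = m) :
    Nat.card {v : V // v ∈ perp Q W' ∧ Q v = 0 ∧ v ∉ W'} =
      Fintype.card F ^ m * (Fintype.card F ^ (2 * (d - m)) - 1) := by
  have hfin : Finite V := Module.finite_of_finite F
  obtain ⟨C, hC⟩ := Submodule.exists_isCompl W'
  have hW'perp : W' ≤ perp Q W' := le_orthogonal_of_isTS hW'
  set N := C ⊓ perp Q W' with hN
  have hsup : W' ⊔ N = perp Q W' := by
    rw [hN, ← sup_inf_assoc_of_le C hW'perp, hC.sup_eq_top, top_inf_eq]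
  have hdisj : Disjoint W' N := hC.disjoint.mono_right inf_le_left
  have hfr : finrank F W' + finrank F N = finrank F ↥((⊤ : Submodule F V) ⊓ perp Q W') := by
    rw [top_inf_eq, ← hsup]
    have := Submodule.finrank_sup_add_finrank_inf_eq W' N
    rw [hdisj.eq_bot, finrank_bot, add_zero] at this
    exact this.symm
  obtain ⟨hNnd, hNdim⟩ := ndeg_of_compl hQ (ndeg_top hQ) le_top hW'
    (show N ≤ ⊤ ⊓ perp Q W' by rw [top_inf_eq]; exact inf_le_right) hdisj hfr
  rw [finrank_top, hdim, hW'm] at hNdim
  have hNcard := card_singular_odd hodd hNnd.restrict (d - m) (by omega)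
  -- the bijection
  let S := {n : N // (Q.comp N.subtype) n = 0}
  have hzero : (Q.comp N.subtype) (0 : N) = 0 := map_zero _
  let f : W' × {z : S // z ≠ ⟨0, hzero⟩} → {v : V // v ∈ perp Q W' ∧ Q v = 0 ∧ v ∉ W'} :=
    fun x => ⟨(x.1 : V) + ((x.2.1.1 : N) : V), by
      have hn : ((x.2.1.1 : N) : V) ∈ perp Q W' := (x.2.1.1).2.2
      have hQn : Q ((x.2.1.1 : N) : V) = 0 := x.2.1.2
      refine ⟨Submodule.add_mem _ (hW'perp x.1.2) hn, ?_, ?_⟩
      · have h1 := QuadraticMap.map_add Q (x.1 : V) ((x.2.1.1 : N) : V)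
        have h3 : polar (⇑Q) (x.1 : V) ((x.2.1.1 : N) : V) = 0 := hn _ x.1.2
        rw [h1, hW' _ x.1.2, hQn, h3]
        simp
      · intro hmem
        have h4 : ((x.2.1.1 : N) : V) ∈ W' := by
          have := Submodule.sub_mem _ hmem x.1.2
          rwa [add_sub_cancel_left] at this
        have h5 := (Submodule.disjoint_def.1 hdisj) _ h4 (x.2.1.1).2
        apply x.2.2
        apply Subtype.ext
        apply Subtype.ext
        exact h5⟩
  have hf : Function.Bijective f := by
    constructor
    · intro x x' hxx'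
      have h1 : (x.1 : V) + ((x.2.1.1 : N) : V) = (x'.1 : V) + ((x'.2.1.1 : N) : V) :=
        congrArg Subtype.val hxx'
      have h3 : (x.1 : V) - (x'.1 : V) = ((x'.2.1.1 : N) : V) - ((x.2.1.1 : N) : V) := by
        rw [sub_eq_sub_iff_add_eq_add]
        rw [h1]
        abel
      have h4 : (x.1 : V) - (x'.1 : V) ∈ W' := Submodule.sub_mem _ x.1.2 x'.1.2
      have h5 : (x.1 : V) - (x'.1 : V) ∈ N := by
        rw [h3]
        exact Submodule.sub_mem _ (x'.2.1.1).2 (x.2.1.1).2
      have h6 := (Submodule.disjoint_def.1 hdisj) _ h4 h5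
      have h7 : ((x'.2.1.1 : N) : V) - ((x.2.1.1 : N) : V) = 0 := by rw [← h3, h6]
      apply Prod.ext
      · apply Subtype.ext
        exact sub_eq_zero.1 h6
      · apply Subtype.ext
        apply Subtype.ext
        apply Subtype.ext
        exact (sub_eq_zero.1 h7).symm
    · rintro ⟨v, hv1, hv2, hv3⟩
      rw [← hsup] at hv1
      obtain ⟨w, hw, n, hn, rfl⟩ := Submodule.mem_sup.1 hv1
      have hQn : Q n = 0 := by
        have h1 := QuadraticMap.map_add Q w n
        have h3 : polar (⇑Q) w n = 0 := hn.2 _ hw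
        rw [h1, hW' _ hw, h3] at hv2
        simpa using hv2
      have hn0 : n ≠ 0 := by
        rintro rfl
        apply hv3
        rw [add_zero]
        exact hw
      refine ⟨⟨⟨w, hw⟩, ⟨⟨⟨n, hn⟩, hQn⟩, ?_⟩⟩, rfl⟩
      intro h
      apply hn0
      have := congrArg (fun z : S => ((z.1 : N) : V)) h
      exact this
  rw [← Nat.card_congr (Equiv.ofBijective f hf), Nat.card_prod, card_ne, hNcard,
    Module.natCard_eq_pow_finrank (K := F) (V := W'), hW'm, Nat.card_eq_fintype_card]

end Cfsg.Agent.Lib.Helper2.OrthEl
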