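import Mathlib
import Cfsg.Agent.Lib.Helper2.OrthElH

set_option autoImplicit false

/-!
The number of totally singular `m`-spaces of a nondegenerate quadratic space of dimension `2d+1`:
`N * ∏_{j<m} (q^m - q^j) = ∏_{j<m} q^j (q^(2(d-j)) - 1)`, and the arithmetic consequences.
-/

namespace Cfsg.Agent.Lib.Helper2.OrthEl

open Module QuadraticMap
open Cfsg.Agent.Lib.Helper2.MaxTS2
open Cfsg.Agent.Lib.Helper9.H9Elus

variable {F V : Type*} [Field F] [Fintype F] [AddCommGroup V] [Module F V] [FiniteDimensional F V]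
variable {Q : QuadraticForm F V}

/-- extending totally singular frames by one vector -/
theorem card_frame_succ (hodd : Odd (Fintype.card F)) (hQ : (polarBilin Q).Nondegenerate)
    (d m : ℕ) (hdim : finrank F V = 2 * d + 1) (hmd : m ≤ d) :
    Nat.card {s : Fin (m + 1) → V // IsTSFrame Q s} =
      Nat.card {s : Fin m → V // IsTSFrame Q s} *
        (Fintype.card F ^ m * (Fintype.card F ^ (2 * (d - m)) - 1)) := by
  classical
  have h2 : (2 : F) ≠ 0 := two_ne_zero_of_odd_card hodd
  have hfin : Finite V := Module.finite_of_finite F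
  have : Fintype {s : Fin m → V // IsTSFrame Q s} := Fintype.ofFinite _
  let Φ : {s : Fin (m + 1) → V // IsTSFrame Q s} → {s : Fin m → V // IsTSFrame Q s} :=
    fun s => ⟨Fin.tail s.1, by
      have h := s.2
      rw [← Fin.cons_self_tail s.1, isTSFrame_cons h2] at h
      exact h.1⟩
  have e := Equiv.sigmaFiberEquiv Φ
  rw [← Nat.card_congr e, Nat.card_sigma]
  have hfib : ∀ s : {s : Fin m → V // IsTSFrame Q s},
      Nat.card {s' : {s : Fin (m + 1) → V // IsTSFrame Q s} // Φ s' = s} =
        Fintype.card F ^ m * (Fintype.card F ^ (2 * (d - m)) - 1) := by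
    intro s
    rw [← card_ext hodd hQ d m hdim hmd (Submodule.span F (Set.range s.1)) s.2.isTS s.2.finrank]
    apply Nat.card_congr
    refine ⟨fun s' => ⟨s'.1.1 0, ?_⟩, fun v => ⟨⟨Fin.cons v.1 s.1, ?_⟩, ?_⟩, ?_, ?_⟩
    · have h := s'.1.2
      rw [← Fin.cons_self_tail s'.1.1, isTSFrame_cons h2] at h
      have h3 : Fin.tail s'.1.1 = s.1 := congrArg Subtype.val s'.2
      rw [h3] at h
      exact h.2
    · rw [isTSFrame_cons h2]
      exact ⟨s.2, v.2⟩
    · apply Subtype.ext
      show Fin.tail (Fin.cons v.1 s.1 : Fin (m + 1) → V) = s.1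
      rw [Fin.tail_cons]
    · intro s'
      apply Subtype.ext
      apply Subtype.ext
      have h3 : Fin.tail s'.1.1 = s.1 := congrArg Subtype.val s'.2
      show (Fin.cons (s'.1.1 0) s.1 : Fin (m + 1) → V) = s'.1.1
      rw [← h3, Fin.cons_self_tail]
    · intro v
      apply Subtype.ext
      show (Fin.cons v.1 s.1 : Fin (m + 1) → V) 0 = v.1
      rw [Fin.cons_zero]
  rw [Finset.sum_congr rfl (fun s _ => hfib s), Finset.sum_const, Finset.card_univ,
    smul_eq_mul, Nat.card_eq_fintype_card]

/-- the number of totally singular frames -/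
theorem card_frame (hodd : Odd (Fintype.card F)) (hQ : (polarBilin Q).Nondegenerate)
    (d : ℕ) (hdim : finrank F V = 2 * d + 1) (m : ℕ) (hmd : m ≤ d) :
    Nat.card {s : Fin m → V // IsTSFrame Q s} =
      ∏ j ∈ Finset.range m, (Fintype.card F ^ j * (Fintype.card F ^ (2 * (d - j)) - 1)) := by
  induction m with
  | zero =>
    rw [Finset.range_zero, Finset.prod_empty]
    have : Unique {s : Fin 0 → V // IsTSFrame Q s} :=
      { default := ⟨fun j => j.elim0, linearIndependent_empty_type, fun j => j.elim0,
          fun j => j.elim0⟩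
        uniq := by
          intro s
          apply Subtype.ext
          funext j
          exact j.elim0 }
    exact Nat.card_unique
  | succ m ih =>
    rw [card_frame_succ hodd hQ d m hdim (by omega), ih (by omega), Finset.prod_range_succ]

/-- frames versus subspaces -/
theorem card_frame_eq (m : ℕ) :
    Nat.card {s : Fin m → V // IsTSFrame Q s} =
      Nat.card {W : Submodule F V // finrank F W = m ∧ ∀ w ∈ W, Q w = 0} *
        ∏ j : Fin m, (Fintype.card F ^ m - Fintype.card F ^ j.val) := by
  classical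
  have hfin : Finite V := Module.finite_of_finite F
  have : Fintype {W : Submodule F V // finrank F W = m ∧ ∀ w ∈ W, Q w = 0} := Fintype.ofFinite _
  let Φ : {s : Fin m → V // IsTSFrame Q s} →
      {W : Submodule F V // finrank F W = m ∧ ∀ w ∈ W, Q w = 0} :=
    fun s => ⟨Submodule.span F (Set.range s.1), s.2.finrank, s.2.isTS⟩
  have e := Equiv.sigmaFiberEquiv Φ
  rw [← Nat.card_congr e, Nat.card_sigma]
  have hfib : ∀ W : {W : Submodule F V // finrank F W = m ∧ ∀ w ∈ W, Q w = 0},
      Nat.card {s : {s : Fin m → V // IsTSFrame Q s} // Φ s = W} =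
        ∏ j : Fin m, (Fintype.card F ^ m - Fintype.card F ^ j.val) := by
    intro W
    have e1 : {s : {s : Fin m → V // IsTSFrame Q s} // Φ s = W} ≃
        {s : {s : Fin m → V // LinearIndependent F s} //
          Submodule.span F (Set.range s.1) = W.1} :=
      { toFun := fun s => ⟨⟨s.1.1, s.1.2.1⟩, congrArg Subtype.val s.2⟩
        invFun := fun s => ⟨⟨s.1.1, s.1.2, fun j => W.2.2 _
            (s.2.le (Submodule.subset_span ⟨j, rfl⟩)), fun j l =>
            polar_eq_zero_of_isTS (Q := Q) (W := W.1) W.2.2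
              (s.2.le (Submodule.subset_span ⟨j, rfl⟩))
              (s.2.le (Submodule.subset_span ⟨l, rfl⟩))⟩, Subtype.ext s.2⟩
        left_inv := fun s => rfl
        right_inv := fun s => rfl }
    rw [Nat.card_congr e1, Nat.card_congr (fiberEquiv m W.1 W.2.1)]
    have h := card_linearIndependent (K := F) (V := W.1) (k := m) (by rw [W.2.1])
    rw [W.2.1] at h
    exact h
  rw [Finset.sum_congr rfl (fun W _ => hfib W), Finset.sum_const, Finset.card_univ,
    smul_eq_mul, Nat.card_eq_fintype_card]

/-- the counting formula for totally singular `m`-spaces -/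
theorem card_ts_mul (hodd : Odd (Fintype.card F)) (hQ : (polarBilin Q).Nondegenerate)
    (d : ℕ) (hdim : finrank F V = 2 * d + 1) (m : ℕ) (hmd : m ≤ d) :
    Nat.card {W : Submodule F V // finrank F W = m ∧ ∀ w ∈ W, Q w = 0} *
        ∏ j ∈ Finset.range m, (Fintype.card F ^ (m - j) - 1) =
      ∏ j ∈ Finset.range m, (Fintype.card F ^ (2 * (d - j)) - 1) := by
  have h1 := card_frame_eq (Q := Q) m
  rw [card_frame hodd hQ d hdim m hmd] at h1
  have h3 : ∏ j : Fin m, (Fintype.card F ^ m - Fintype.card F ^ j.val) =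
      (∏ j ∈ Finset.range m, Fintype.card F ^ j) *
        ∏ j ∈ Finset.range m, (Fintype.card F ^ (m - j) - 1) := by
    rw [← Finset.prod_mul_distrib,
      ← Fin.prod_univ_eq_prod_range (fun j => Fintype.card F ^ j * (Fintype.card F ^ (m - j) - 1))]
    apply Finset.prod_congr rfl
    intro j _
    exact pow_sub_pow_eq _ _ _ j.2.le
  rw [h3, Finset.prod_mul_distrib] at h1
  have hpos : 0 < ∏ j ∈ Finset.range m, Fintype.card F ^ j := by
    apply Finset.prod_pos
    intro j _
    exact pow_pos Fintype.card_pos _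
  apply Nat.eq_of_mul_eq_mul_left hpos
  rw [h1]
  ring

end Cfsg.Agent.Lib.Helper2.OrthEl
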