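import Mathlib
import Cfsg.Agent.Lib.Helper9.OCf_R2E
import Cfsg.Agent.Lib.Helper5.AltForm
import Cfsg.Agent.Lib.Helper2.OrthCfC
import Cfsg.Agent.Lib.Helper2.OrthElC

set_option autoImplicit false

/-!
Characteristic two: isometric involutions `y` whose commutator space `range (y - 1)` is totally
singular (the classes `a_s` of Aschbacher and Seitz).  The invariant nondegenerate subspaces of such an
involution of large rank are of plus type.  Used for the derangements of the rows S5988 and S5990.
-/

namespace Cfsg.Agent.Lib.Helper2.OrthCf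

open Module QuadraticMap Polynomial
open Cfsg.Agent.Lib.Helper2.MaxTS2 Cfsg.Agent.Lib.Helper2.OrthEl Cfsg.Agent.Lib.Helper2.OrthNd
open Cfsg.Agent.H9SemiInv

section tsr_abs
variable {F : Type*} [Field F]
variable {V : Type*} [AddCommGroup V] [Module F V] [FiniteDimensional F V]
variable {Q : QuadraticForm F V} {y : V →ₗ[F] V}

omit [FiniteDimensional F V] in
theorem tsr_sub_apply (v : V) : (y - 1) v = y v - v := by
  rw [LinearMap.sub_apply, Module.End.one_apply]

omit [FiniteDimensional F V] in
theorem tsr_map_le {W : Submodule F V} (hWinv : Inv y W) : W.map (y - 1) ≤ W := by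
  rintro _ ⟨w, hw, rfl⟩
  rw [tsr_sub_apply]
  exact W.sub_mem (hWinv w hw) hw

omit [FiniteDimensional F V] in
theorem tsr_map_isTS (hts : ∀ u, Q (y u - u) = 0) (W : Submodule F V) :
    IsTS Q (W.map (y - 1)) := by
  rintro _ ⟨w, -, rfl⟩
  rw [tsr_sub_apply]
  exact hts w

theorem tsr_rank_le (hQ : (polarBilin Q).Nondegenerate) (hts : ∀ u, Q (y u - u) = 0)
    {W : Submodule F V} (hWinv : Inv y W) (hW : NDeg Q W) :
    2 * finrank F ↥(W.map (y - 1)) ≤ finrank F W :=
  two_mul_finrank_le_of_isTS hQ hW (tsr_map_isTS hts W) (tsr_map_le hWinv)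

omit [FiniteDimensional F V] in
theorem tsr_plusS_of_rank (hts : ∀ u, Q (y u - u) = 0) {W : Submodule F V} (hWinv : Inv y W)
    (h : 2 * finrank F ↥(W.map (y - 1)) = finrank F W) : PlusS Q W :=
  ⟨W.map (y - 1), tsr_map_le hWinv, tsr_map_isTS hts W, h⟩

/-- the rank of `y - 1` on an invariant nondegenerate subspace is even -/
theorem tsr_rank_even (h2 : (2 : F) = 0) (hiso : ∀ v, Q (y v) = Q v) (hy : ∀ v, y (y v) = v)
    (hts : ∀ u, Q (y u - u) = 0) {W : Submodule F V} (hWinv : Inv y W) (hW : NDeg Q W) :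
    Even (finrank F ↥(W.map (y - 1))) := by
  let β : LinearMap.BilinForm F V := (polarBilin Q).compl₂ (y - 1)
  have hβ : ∀ u v, β u v = polar (⇑Q) u (y v - v) := fun u v => by
    show polar (⇑Q) u ((y - 1) v) = _
    rw [tsr_sub_apply]
  have hβW : ∀ u v : W, β.restrict W u v = polar (⇑Q) (u : V) (y (v : V) - v) :=
    fun u v => hβ u v
  have halt : (β.restrict W).IsAlt := by
    intro u
    rw [hβW, ← r2e_Q_N h2 hiso]
    exact hts _
  have hker : LinearMap.ker (β.restrict W) = LinearMap.ker ((y - 1).domRestrict W) := by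
    ext u
    rw [LinearMap.mem_ker, LinearMap.mem_ker, LinearMap.domRestrict_apply, tsr_sub_apply]
    constructor
    · intro h
      have h1 : y (u : V) - u ∈ W := W.sub_mem (hWinv _ u.2) u.2
      have h3 : y (u : V) - u ∈ perp Q W := by
        rw [mem_perp_iff']
        intro w hw
        rw [r2e_adj hiso hy]
        have := congrArg (fun f => f ⟨w, hw⟩) h
        rw [hβW] at this
        exact this
      exact (Submodule.disjoint_def.1 hW) _ h1 h3
    · intro h
      ext v
      rw [hβW, ← r2e_adj hiso hy, h, polar_zero_left]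
      rfl
  have hev := Cfsg.Agent.Lib.Helper5.AltForm.even_finrank_sub_ker halt
  rw [hker] at hev
  have hrn := LinearMap.finrank_range_add_finrank_ker ((y - 1).domRestrict W)
  rw [LinearMap.range_domRestrict] at hrn
  have : finrank F ↥(W.map (y - 1)) =
      finrank F W - finrank F ↥(LinearMap.ker ((y - 1).domRestrict W)) := by omega
  rw [this]
  exact hev

/-- the ranks on an invariant nondegenerate subspace and on its orthogonal complement add up -/
theorem tsr_rank_add {W : Submodule F V} (hWinv : Inv y W) (hW'inv : Inv y (perp Q W))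
    (hW : NDeg Q W) :
    finrank F ↥(W.map (y - 1)) + finrank F ↥((perp Q W).map (y - 1)) =
      finrank F ↥(LinearMap.range (y - 1)) := by
  have hc := hW.isCompl
  have h1 : LinearMap.range (y - 1) = W.map (y - 1) ⊔ (perp Q W).map (y - 1) := by
    rw [← Submodule.map_sup, hc.sup_eq_top, Submodule.map_top]
  have h3 : Disjoint (W.map (y - 1)) ((perp Q W).map (y - 1)) :=
    hc.disjoint.mono (tsr_map_le hWinv) (tsr_map_le hW'inv)
  rw [h1, ← Submodule.finrank_sup_add_finrank_inf_eq, h3.eq_bot, finrank_bot, add_zero]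

omit [FiniteDimensional F V] in
theorem tsr_pow_two (hy : ∀ v, y (y v) = v) : y ^ 2 = 1 := by
  ext v
  rw [pow_two, Module.End.mul_apply, hy, Module.End.one_apply]

/-- rank `d - 1`: the invariant nondegenerate subspaces of dimension divisible by four are of plus
type -/
theorem tsr_plusS_of_even (h2 : (2 : F) = 0) (hQ : (polarBilin Q).Nondegenerate)
    (hiso : ∀ v, Q (y v) = Q v) (hy : ∀ v, y (y v) = v) (hts : ∀ u, Q (y u - u) = 0)
    (d a : ℕ) (hdim : finrank F V = 2 * d)
    (hs : finrank F ↥(LinearMap.range (y - 1)) + 1 = d)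
    (W : Submodule F V) (hWinv : Inv y W) (hW : NDeg Q W) (hWdim : finrank F W = 2 * a)
    (ha : Even a) : PlusS Q W := by
  have hW'inv : Inv y (perp Q W) := inv_perp hiso (by norm_num : 1 ≤ 2) (tsr_pow_two hy) hWinv
  have hW' := hW.perp hQ
  have h1 := tsr_rank_add hWinv hW'inv hW
  have h3 := tsr_rank_le hQ hts hWinv hW
  have h4 := tsr_rank_le hQ hts hW'inv hW'
  have h5 := finrank_perp_add hQ W
  obtain ⟨t, ht⟩ := tsr_rank_even h2 hiso hy hts hWinv hW
  obtain ⟨u, hu⟩ := ha
  apply tsr_plusS_of_rank hts hWinv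
  omega

/-- rank at least `d - 1` in a plus type space: all invariant nondegenerate subspaces are of plus
type -/
theorem tsr_plusS_of_top [Finite F] (h2 : (2 : F) = 0) (hQ : (polarBilin Q).Nondegenerate)
    (hiso : ∀ v, Q (y v) = Q v) (hy : ∀ v, y (y v) = v) (hts : ∀ u, Q (y u - u) = 0)
    (d : ℕ) (hdim : finrank F V = 2 * d) (hV : PlusS Q ⊤)
    (hs : d ≤ finrank F ↥(LinearMap.range (y - 1)) + 1)
    (W : Submodule F V) (hWinv : Inv y W) (hW : NDeg Q W) : PlusS Q W := by
  have hW'inv : Inv y (perp Q W) := inv_perp hiso (by norm_num : 1 ≤ 2) (tsr_pow_two hy) hWinv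
  have hW' := hW.perp hQ
  have h1 := tsr_rank_add hWinv hW'inv hW
  have h3 := tsr_rank_le hQ hts hWinv hW
  have h4 := tsr_rank_le hQ hts hW'inv hW'
  have h5 := finrank_perp_add hQ W
  by_cases hcase : 2 * finrank F ↥(W.map (y - 1)) = finrank F W
  · exact tsr_plusS_of_rank hts hWinv hcase
  · have hev := even_finrank_of_ndeg_two h2 hW
    have hev' := even_finrank_of_ndeg_two h2 hW'
    have hp' : PlusS Q (perp Q W) := by
      apply tsr_plusS_of_rank hts hW'inv
      obtain ⟨t, ht⟩ := hev
      obtain ⟨t', ht'⟩ := hev'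
      omega
    have horth : W ≤ perp Q (perp Q W) := by rw [perp_perp hQ]
    obtain ⟨-, -, g3⟩ := plusS_sup hW hW' horth hev hev'
    rw [hW.isCompl.sup_eq_top] at g3
    exact (g3.1 hV).2 hp'

end tsr_abs

end Cfsg.Agent.Lib.Helper2.OrthCf
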