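import Mathlib
import Cfsg.Agent.Lib.Helper2.OrthCfC

set_option autoImplicit false

/-!
Characteristic-free twin of `OrthNdG`: the type of an invariant nondegenerate subspace of the
cyclotomic kernel.
-/

namespace Cfsg.Agent.Lib.Helper2.OrthCf

open Module QuadraticMap Polynomial
open Cfsg.Agent.Lib.Helper2.MaxTS2 Cfsg.Agent.Lib.Helper2.OrthEl Cfsg.Agent.Lib.Helper2.OrthNd
open Cfsg.Agent.H9SemiInv
open Cfsg.Agent.Lib.Helper9.H9Elus
open Cfsg.Agent.Lib.Helper5.OrthCls

variable {F V : Type*} [Field F] [Fintype F] {p : ℕ} [Fact p.Prime] [CharP F p]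
  [AddCommGroup V] [Module F V] [FiniteDimensional F V]
variable {Q : QuadraticForm F V} {y : V →ₗ[F] V}

/-- even order: the type is the parity of the number of blocks -/
theorem plusS_iff_even' (hiso : ∀ v, Q (y v) = Q v) (r : ℕ)
    [Fact r.Prime] (hrp : r ≠ p) (hr2 : r ≠ 2) (hy : y ^ r = 1) (h : ℕ)
    (hi : orderOf ((Fintype.card F : ℕ) : ZMod r) = 2 * h) (W : Submodule F V)
    (hWV : W ≤ cycS y r) (hWinv : Inv y W) (hW : NDeg Q W) (j : ℕ) (hj : 1 ≤ j)
    (hdim : finrank F W = 2 * h * j) : PlusS Q W ↔ Even j := by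
  classical
  have hh : 1 ≤ h := by
    have := order_pos (F := F) r hrp
    omega
  have ha : 1 ≤ h * j := Nat.mul_pos hh hj
  have hdim' : finrank F W = 2 * (h * j) := by rw [hdim, mul_assoc]
  have hmod := card_singular_modEq hiso r hrp hy W hWV hWinv
  have hq : 2 ≤ Fintype.card F := Fintype.one_lt_card
  rw [plusS_iff_isPlus]
  constructor
  · intro hd
    rw [card_singular_isPlus hW.restrict (h * j) ha hdim' hd] at hmod
    exact arith_plus _ r h j hr2 hq hi hh hj hmod
  · intro hev
    by_contra hne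
    rw [card_singular_not_isPlus hW.restrict (h * j) ha hdim' hne] at hmod
    have := arith_minus _ r h j hr2 hq hi hh hj hmod
    exact (Nat.not_even_iff_odd.2 this) hev

/-- odd order: plus type -/
theorem plusS_of_odd' (hQ : (polarBilin Q).Nondegenerate)
    (hiso : ∀ v, Q (y v) = Q v) (r : ℕ) [Fact r.Prime] (hrp : r ≠ p) (hr2 : r ≠ 2)
    (hy : y ^ r = 1) (hi : Odd (orderOf ((Fintype.card F : ℕ) : ZMod r))) (W : Submodule F V)
    (hWV : W ≤ cycS y r) (hWinv : Inv y W) (hW : NDeg Q W) : PlusS Q W := by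
  obtain ⟨j, hj⟩ := two_mul_dvd_finrank' hQ hiso r hrp hr2 hy hi _ W rfl hW hWinv hWV
  have hi1 := order_pos (F := F) r hrp
  obtain ⟨T, hTW, -, hT, hTdim⟩ := exists_isTS_inv_mul' hQ hiso r hrp hr2 hy hi j W hW hWinv hWV
    (by
      rcases Nat.eq_zero_or_pos j with h0 | h0
      · left; exact h0
      · right
        rw [hj]
        apply Nat.mul_lt_mul_of_pos_left _ (by omega)
        omega)
  refine ⟨T, hTW, hT, ?_⟩
  rw [hTdim, hj]
  ring

/-- the type of an invariant nondegenerate subspace of the cyclotomic kernel, in terms of the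
number of blocks -/
theorem plusS_cyc_iff (hQ : (polarBilin Q).Nondegenerate)
    (hiso : ∀ v, Q (y v) = Q v) (r : ℕ) [Fact r.Prime] (hrp : r ≠ p) (hr2 : r ≠ 2)
    (hy : y ^ r = 1) (i c : ℕ) (hi : i = orderOf ((Fintype.card F : ℕ) : ZMod r))
    (hc : c = if Even i then i else 2 * i) (W : Submodule F V)
    (hWV : W ≤ cycS y r) (hWinv : Inv y W) (hW : NDeg Q W) (t : ℕ) (hdim : finrank F W = c * t) :
    PlusS Q W ↔ (Even i → Even t) := by
  by_cases hev : Even i
  · rw [if_pos hev] at hc
    rcases Nat.eq_zero_or_pos t with ht | ht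
    · rw [ht, mul_zero] at hdim
      constructor
      · intro _ _
        rw [ht]
        exact Even.zero
      · intro _
        refine ⟨⊥, bot_le, ?_, ?_⟩
        · intro v hv
          rw [Submodule.mem_bot] at hv
          rw [hv, map_zero]
        · rw [finrank_bot, hdim, mul_zero]
    · obtain ⟨h, hh⟩ := hev
      have hi2 : orderOf ((Fintype.card F : ℕ) : ZMod r) = 2 * h := by rw [← hi, hh]; ring
      rw [plusS_iff_even' hiso r hrp hr2 hy h hi2 W hWV hWinv hW t ht
        (by rw [hdim, hc, hh]; ring)]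
      constructor
      · intro h1 _
        exact h1
      · intro h1
        exact h1 ⟨h, hh⟩
  · have hodd : Odd i := Nat.not_even_iff_odd.1 hev
    constructor
    · intro _ h1
      exact absurd h1 hev
    · intro _
      exact plusS_of_odd' hQ hiso r hrp hr2 hy (by rw [← hi]; exact hodd) W hWV hWinv hW

end Cfsg.Agent.Lib.Helper2.OrthCf
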