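import Mathlib
import Cfsg.Agent.Lib.Helper2.OrthCfD

set_option autoImplicit false

/-!
Characteristic-free twin of `OrthNdI`/`OrthNdJ`: nondegenerate minimal invariant subspaces for `i`
even, divisibility of the dimension by the block size, and peeling of blocks.
-/

namespace Cfsg.Agent.Lib.Helper2.OrthCf

open Module QuadraticMap Polynomial
open Cfsg.Agent.Lib.Helper2.MaxTS2 Cfsg.Agent.Lib.Helper2.OrthEl Cfsg.Agent.Lib.Helper2.OrthNd
open Cfsg.Agent.H9SemiInv
open Cfsg.Agent.Lib.Helper9.H9Elus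

variable {F : Type*} [Field F] [Fintype F] {p : ℕ} [Fact p.Prime] [CharP F p]
variable {V : Type*} [AddCommGroup V] [Module F V] [FiniteDimensional F V]
variable {Q : QuadraticForm F V} {y : V →ₗ[F] V}

/-- even order: a nonzero invariant nondegenerate subspace of the cyclotomic kernel contains a
nondegenerate minimal invariant subspace -/
theorem exists_ndeg_irreducible' (hQ : (polarBilin Q).Nondegenerate)
    (hiso : ∀ v, Q (y v) = Q v) (r : ℕ) [Fact r.Prime] (hrp : r ≠ p) (hy : y ^ r = 1)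
    (hev : Even (orderOf ((Fintype.card F : ℕ) : ZMod r))) (B : Submodule F V)
    (hBV : B ≤ cycS y r) (hBinv : Inv y B) (hB : NDeg Q B) (hne : B ≠ ⊥) :
    ∃ Z : Submodule F V, Z ≤ B ∧ Inv y Z ∧ NDeg Q Z ∧
      finrank F Z = orderOf ((Fintype.card F : ℕ) : ZMod r) := by
  have hr1 : 1 ≤ r := (Fact.out : r.Prime).one_lt.le
  have hi1 := order_pos (F := F) r hrp
  obtain ⟨Z, hZB, hZinv, hZi⟩ := hmin_cyclotomic r hrp y B hBV hBinv hne
  rcases isTS_or_ndeg' hiso r hrp hy Z (hZB.trans hBV) hZinv hZi with hts | hnd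
  swap
  · exact ⟨Z, hZB, hZinv, hnd, hZi⟩
  obtain ⟨g, hg, hgd, hgZ⟩ := exists_ann_irreducible r hrp Z (hZB.trans hBV) hZinv hZi
  have hss := isSemisimple_of_pow_eq_one r hrp y hy
  have hLinv : Inv y (B ⊓ perp Q Z) := hBinv.inf (inv_perp hiso hr1 hy hZinv)
  obtain ⟨Z', hZ'B, hZ'inv, hdisj, hfr⟩ := exists_rel_compl y hss B hBinv (B ⊓ perp Q Z) inf_le_left
    hLinv
  have hfr2 := finrank_inf_perp hQ hB hZB
  have hZ'i : finrank F Z' = orderOf ((Fintype.card F : ℕ) : ZMod r) := by omega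
  -- `g` kills `Z'`
  have hgZ' : ∀ z' ∈ Z', aeval y g z' = 0 := by
    intro z' hz'
    have hw : aeval y g z' ∈ Z' := Inv.aeval hZ'inv g z' hz'
    have hwL : aeval y g z' ∈ B ⊓ perp Q Z := by
      refine ⟨hZ'B hw, ?_⟩
      rw [SetLike.mem_coe, mem_perp_iff]
      intro z hz
      rw [polar_comm, polar_aeval hiso hr1 hy,
        aeval_pow_pred_eq_zero r hrp g hg hgd hev (hgZ z hz), polar_zero_right]
    exact (Submodule.disjoint_def.1 hdisj) _ hwL hw
  have hgC : ∀ v ∈ Z ⊔ Z', aeval y g v = 0 := by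
    intro v hv
    obtain ⟨z, hz, z', hz', rfl⟩ := Submodule.mem_sup.1 hv
    rw [map_add, hgZ z hz, hgZ' z' hz', add_zero]
  -- a non-singular vector
  obtain ⟨v, hvC, hQv⟩ : ∃ v ∈ Z ⊔ Z', Q v ≠ 0 := by
    by_contra hcon
    push Not at hcon
    have hle : Z' ≤ B ⊓ perp Q Z := by
      intro z' hz'
      refine ⟨hZ'B hz', ?_⟩
      rw [SetLike.mem_coe, mem_perp_iff]
      intro z hz
      unfold polar
      rw [hcon _ (Submodule.add_mem_sup hz hz'), hcon _ (Submodule.mem_sup_left hz),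
        hcon _ (Submodule.mem_sup_right hz')]
      ring
    have hbot : Z' = ⊥ := by
      rw [eq_bot_iff]
      intro z' hz'
      exact (Submodule.disjoint_def.1 hdisj) _ (hle hz') hz'
    rw [hbot, finrank_bot] at hZ'i
    omega
  have hv0 : v ≠ 0 := by
    rintro rfl
    exact hQv (map_zero Q)
  have hCinv : Inv y (Z ⊔ Z') := hZinv.sup hZ'inv
  have hCB : Z ⊔ Z' ≤ B := sup_le hZB hZ'B
  obtain ⟨Z'', hZ''C, hZ''inv, hvZ'', hZ''dim⟩ := exists_cyclic' y (Z ⊔ Z') hCinv g hg v hvC hv0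
    (hgC v hvC)
  rw [natDegree_of_dvd_cyclotomic r hrp g hg hgd] at hZ''dim
  refine ⟨Z'', hZ''C.trans hCB, hZ''inv, ?_, hZ''dim⟩
  rcases isTS_or_ndeg' hiso r hrp hy Z'' ((hZ''C.trans hCB).trans hBV) hZ''inv hZ''dim with h | h
  · exact absurd (h v hvZ'') hQv
  · exact h

/-- the block size divides the dimension of an invariant nondegenerate subspace of the cyclotomic
kernel -/
theorem cc_dvd_finrank' (hQ : (polarBilin Q).Nondegenerate)
    (hiso : ∀ v, Q (y v) = Q v) (r : ℕ) [Fact r.Prime] (hrp : r ≠ p) (hr2 : r ≠ 2)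
    (hy : y ^ r = 1) (i c : ℕ) (hi : i = orderOf ((Fintype.card F : ℕ) : ZMod r))
    (hc : c = if Even i then i else 2 * i) (B : Submodule F V) (hBV : B ≤ cycS y r)
    (hBinv : Inv y B) (hB : NDeg Q B) : c ∣ finrank F B := by
  by_cases hev : Even i
  · rw [hc, if_pos hev, hi]
    have h := order_dvd_finrank_inf r hrp y hy B hBinv
    have h3 : B ⊓ LinearMap.ker (aeval y (cyclotomic r F)) = B := inf_eq_left.2 hBV
    rw [h3] at h
    exact h
  · rw [hc, if_neg hev, hi]
    rw [hi] at hev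
    exact two_mul_dvd_finrank' hQ hiso r hrp hr2 hy (Nat.not_even_iff_odd.1 hev) _ B rfl hB
      hBinv hBV

/-- peeling blocks off an invariant nondegenerate subspace of the cyclotomic kernel -/
theorem exists_inv_ndeg_chain' (hQ : (polarBilin Q).Nondegenerate)
    (hiso : ∀ v, Q (y v) = Q v) (r : ℕ) [Fact r.Prime] (hrp : r ≠ p) (hr2 : r ≠ 2)
    (hy : y ^ r = 1) (i c : ℕ) (hi : i = orderOf ((Fintype.card F : ℕ) : ZMod r))
    (hc : c = if Even i then i else 2 * i) (B : Submodule F V) (hBV : B ≤ cycS y r)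
    (hBinv : Inv y B) (hB : NDeg Q B) :
    ∀ s : ℕ, c * s ≤ finrank F B →
      ∃ M : Submodule F V, M ≤ B ∧ Inv y M ∧ NDeg Q M ∧ finrank F M + c * s = finrank F B := by
  have hr1 : 1 ≤ r := (Fact.out : r.Prime).one_lt.le
  have hi1 : 1 ≤ i := by rw [hi]; exact order_pos (F := F) r hrp
  have hc1 : 1 ≤ c := by
    rw [hc]
    split_ifs <;> omega
  intro s
  induction s with
  | zero =>
    intro _
    exact ⟨B, le_rfl, hBinv, hB, by rw [mul_zero, add_zero]⟩
  | succ s ih =>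
    intro hs
    have hs' : c * s ≤ finrank F B := by
      rw [mul_add, mul_one] at hs
      omega
    obtain ⟨M, hMB, hMinv, hM, hMdim⟩ := ih hs'
    have hMne : M ≠ ⊥ := by
      intro h
      rw [h, finrank_bot] at hMdim
      rw [mul_add, mul_one] at hs
      omega
    by_cases hev : Even i
    · have hci : c = i := by rw [hc, if_pos hev]
      obtain ⟨Z, hZM, hZinv, hZ, hZi⟩ := exists_ndeg_irreducible' hQ hiso r hrp hy
        (by rw [← hi]; exact hev) M (hMB.trans hBV) hMinv hM hMne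
      refine ⟨M ⊓ perp Q Z, inf_le_left.trans hMB, hMinv.inf (inv_perp hiso hr1 hy hZinv),
        ndeg_inf_perp hM hZM hZ, ?_⟩
      have := finrank_inf_perp hQ hM hZM
      rw [mul_add, mul_one, hci, hi]
      rw [hci, hi] at hMdim
      omega
    · have hci : c = 2 * i := by rw [hc, if_neg hev]
      obtain ⟨Z, hZM, hZinv, hZi⟩ := hmin_cyclotomic r hrp y M (hMB.trans hBV) hMinv hMne
      have hZts : IsTS Q Z := isTS_of_odd' hiso r hrp hr2 hy Z ((hZM.trans hMB).trans hBV)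
        hZinv hZi (by rw [← hi]; exact Nat.not_even_iff_odd.1 hev)
      obtain ⟨M₂, hM₂le, hM₂inv, hM₂, -, hM₂dim⟩ := exists_peel hQ hiso r hrp hy hM hMinv hZM hZinv
        hZts
      refine ⟨M₂, (hM₂le.trans inf_le_left).trans hMB, hM₂inv, hM₂, ?_⟩
      rw [mul_add, mul_one, hci, hi]
      rw [hci, hi] at hMdim
      omega

end Cfsg.Agent.Lib.Helper2.OrthCf
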