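import Mathlib
import Cfsg.Agent.Lib.Helper2.OrthCfE
import Cfsg.Agent.Lib.Helper2.OrthElR

set_option autoImplicit false

/-!
The FIX theorem in even dimension, in every characteristic: which nondegenerate subspaces of given
even dimension and type are fixed by an isometry of odd prime order `r ≠ p`, in terms of the
dimension and the type of its fixed space and the number of blocks of its cyclotomic kernel.
-/

namespace Cfsg.Agent.Lib.Helper2.OrthCf

open Module QuadraticMap Polynomial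
open Cfsg.Agent.Lib.Helper2.MaxTS2 Cfsg.Agent.Lib.Helper2.OrthEl Cfsg.Agent.Lib.Helper2.OrthNd
open Cfsg.Agent.H9SemiInv
open Cfsg.Agent.Lib.Helper9.H9Elus

variable {F : Type*} [Field F] [Fintype F] {p : ℕ} [Fact p.Prime] [CharP F p]
variable {V : Type*} [AddCommGroup V] [Module F V] [FiniteDimensional F V]
variable {Q : QuadraticForm F V} {y : V →ₗ[F] V}

omit [Fintype F] [Fact p.Prime] [CharP F p] [FiniteDimensional F V] in
theorem plusS_bot : PlusS Q (⊥ : Submodule F V) := by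
  refine ⟨⊥, le_rfl, ?_, ?_⟩
  · intro v hv
    rw [Submodule.mem_bot] at hv
    rw [hv, map_zero]
  · rw [finrank_bot]

omit [Fintype F] [Fact p.Prime] [CharP F p] in
theorem cc_even {i c : ℕ} (hc : c = if Even i then i else 2 * i) : Even c := by
  rw [hc]
  split_ifs with h
  · exact h
  · exact even_two_mul i

/-- the fixed space and the cyclotomic kernel are orthogonal -/
theorem fix_le_perp_cyc (hQ : (polarBilin Q).Nondegenerate) (hiso : ∀ v, Q (y v) = Q v)
    (r : ℕ) [Fact r.Prime] (hrp : r ≠ p) (hy : y ^ r = 1) : fixS y ≤ perp Q (cycS y r) :=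
  le_perp_comm (le_of_eq (cycS_eq_perp hQ hiso r hrp hy))

/-- the type of the whole space in terms of the type of the fixed space and the number of
blocks -/
theorem plusS_top_iff (hQ : (polarBilin Q).Nondegenerate) (hiso : ∀ v, Q (y v) = Q v)
    (r : ℕ) [Fact r.Prime] (hrp : r ≠ p) (hr2 : r ≠ 2) (hy : y ^ r = 1) (i c : ℕ)
    (hi : i = orderOf ((Fintype.card F : ℕ) : ZMod r)) (hc : c = if Even i then i else 2 * i)
    (hev : Even (finrank F V)) (A : ℕ) (hA : finrank F (cycS y r) = c * A) :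
    Even (finrank F (fixS y)) ∧
      (PlusS Q ⊤ ↔ (PlusS Q (fixS y) ↔ (Even i → Even A))) := by
  have hcomp := isCompl_ker r hrp y hy
  have hsum : finrank F (fixS y) + finrank F (cycS y r) = finrank F V :=
    Submodule.finrank_add_eq_of_isCompl hcomp
  have hnd₀ := ndeg_fixS hQ hiso r hrp hy
  have hnd₁ := ndeg_cycS hQ hiso r hrp hy
  have hinv₁ : Inv y (cycS y r) := inv_ker_aeval y _
  have hcev : Even (c * A) := (cc_even hc).mul_right A
  have hfev : Even (finrank F (fixS y)) := by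
    rw [hA] at hsum
    rcases Nat.even_or_odd (finrank F (fixS y)) with h | h
    · exact h
    · exfalso
      have := h.add_even hcev
      rw [hsum] at this
      exact (Nat.not_even_iff_odd.2 this) hev
  refine ⟨hfev, ?_⟩
  obtain ⟨-, -, g3⟩ := plusS_sup hnd₀ hnd₁ (fix_le_perp_cyc hQ hiso r hrp hy) hfev
    (by rw [hA]; exact hcev)
  have htop : fixS y ⊔ cycS y r = ⊤ := hcomp.sup_eq_top
  rw [htop] at g3
  rw [g3, plusS_cyc_iff hQ hiso r hrp hr2 hy i c hi hc (cycS y r) le_rfl hinv₁ hnd₁ A hA]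

/-- sufficiency -/
theorem fix_suff (hQ : (polarBilin Q).Nondegenerate) (hiso : ∀ v, Q (y v) = Q v)
    (r : ℕ) [Fact r.Prime] (hrp : r ≠ p) (hr2 : r ≠ 2) (hy : y ^ r = 1) (i c : ℕ)
    (hi : i = orderOf ((Fintype.card F : ℕ) : ZMod r)) (hc : c = if Even i then i else 2 * i)
    (hfev : Even (finrank F (fixS y))) (m t m₀ : ℕ) (ht : c * t ≤ finrank F (cycS y r))
    (hm : m = m₀ + c * t) (hm₀ : m₀ ≤ finrank F (fixS y)) (hm₀ev : Even m₀) (want : Prop)
    (h0 : m₀ = 0 → (want ↔ (Even i → Even t)))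
    (he : m₀ = finrank F (fixS y) → (want ↔ (PlusS Q (fixS y) ↔ (Even i → Even t)))) :
    ∃ W : Submodule F V, Inv y W ∧ NDeg Q W ∧ finrank F W = m ∧ (PlusS Q W ↔ want) := by
  have hnd₀ := ndeg_fixS hQ hiso r hrp hy
  have hnd₁ := ndeg_cycS hQ hiso r hrp hy
  have hinv₁ : Inv y (cycS y r) := inv_ker_aeval y _
  have horth₀ : fixS y ≤ perp Q (cycS y r) := fix_le_perp_cyc hQ hiso r hrp hy
  obtain ⟨A, hA⟩ := cc_dvd_finrank' hQ hiso r hrp hr2 hy i c hi hc (cycS y r) le_rfl hinv₁ hnd₁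
  have hi1 : 1 ≤ i := by rw [hi]; exact order_pos (F := F) r hrp
  have hc1 : 1 ≤ c := by
    rw [hc]
    split_ifs <;> omega
  have htA : t ≤ A := by
    rw [hA] at ht
    exact Nat.le_of_mul_le_mul_left ht hc1
  have hcs : c * (A - t) ≤ finrank F (cycS y r) := by
    rw [hA]
    exact Nat.mul_le_mul_left c (Nat.sub_le A t)
  obtain ⟨W₁, hW₁V, hW₁inv, hW₁, hW₁dim⟩ := exists_inv_ndeg_chain' hQ hiso r hrp hr2 hy i c hi hc
    (cycS y r) le_rfl hinv₁ hnd₁ (A - t) hcs
  have hW₁dim' : finrank F W₁ = c * t := by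
    have h1 : c * (A - t) + c * t = c * A := by
      rw [← mul_add, Nat.sub_add_cancel htA]
    omega
  have hW₁type := plusS_cyc_iff hQ hiso r hrp hr2 hy i c hi hc W₁ hW₁V hW₁inv hW₁ t hW₁dim'
  have hW₁ev : Even (finrank F W₁) := by
    rw [hW₁dim']
    exact (cc_even hc).mul_right t
  -- the part in the fixed space
  obtain ⟨W₀, hW₀M, hW₀, hW₀dim, hW₀type⟩ : ∃ W₀ : Submodule F V, W₀ ≤ fixS y ∧ NDeg Q W₀ ∧
      finrank F W₀ = m₀ ∧ (PlusS Q W₀ ↔ (want ↔ (Even i → Even t))) := by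
    rcases Nat.eq_zero_or_pos m₀ with hz | hpos
    · refine ⟨⊥, bot_le, ndeg_bot, by rw [finrank_bot, hz], ?_⟩
      exact iff_of_true plusS_bot (h0 hz)
    · rcases Nat.lt_or_ge m₀ (finrank F (fixS y)) with hlt | hge
      · exact exists_ndeg_sub' hnd₀ hfev m₀ hpos hm₀ev hlt _
      · have heq : m₀ = finrank F (fixS y) := le_antisymm hm₀ hge
        refine ⟨fixS y, le_rfl, hnd₀, heq.symm, ?_⟩
        have := he heq
        tauto
  have horth : W₀ ≤ perp Q W₁ := by
    intro u hu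
    rw [mem_perp_iff]
    intro w hw
    exact (mem_perp_iff _ _).1 (horth₀ (hW₀M hu)) w (hW₁V hw)
  obtain ⟨g1, g2, g3⟩ := plusS_sup hW₀ hW₁ horth (by rw [hW₀dim]; exact hm₀ev) hW₁ev
  refine ⟨W₀ ⊔ W₁, (inv_of_le_fix hW₀M).sup hW₁inv, g1, by rw [g2, hW₀dim, hW₁dim', hm], ?_⟩
  rw [g3, hW₀type, hW₁type]
  tauto

/-- necessity -/
theorem fix_nec (hQ : (polarBilin Q).Nondegenerate) (hiso : ∀ v, Q (y v) = Q v)
    (r : ℕ) [Fact r.Prime] (hrp : r ≠ p) (hr2 : r ≠ 2) (hy : y ^ r = 1) (i c : ℕ)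
    (hi : i = orderOf ((Fintype.card F : ℕ) : ZMod r)) (hc : c = if Even i then i else 2 * i)
    (W : Submodule F V) (hWinv : Inv y W) (hW : NDeg Q W) (hWev : Even (finrank F W))
    (want : Prop) (hWt : PlusS Q W ↔ want) :
    ∃ t m₀ : ℕ, c * t ≤ finrank F (cycS y r) ∧ finrank F W = m₀ + c * t ∧
      m₀ ≤ finrank F (fixS y) ∧ (m₀ = 0 → (want ↔ (Even i → Even t))) ∧
      (m₀ = finrank F (fixS y) → (want ↔ (PlusS Q (fixS y) ↔ (Even i → Even t)))) := by
  obtain ⟨hnd₀, hnd₁, hdim⟩ := ndeg_split hiso r hrp hy W hWinv hW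
  have hinv₁ : Inv y (W ⊓ cycS y r) := hWinv.inf (inv_ker_aeval y _)
  obtain ⟨t, ht⟩ := cc_dvd_finrank' hQ hiso r hrp hr2 hy i c hi hc (W ⊓ cycS y r) inf_le_right
    hinv₁ hnd₁
  have htype₁ := plusS_cyc_iff hQ hiso r hrp hr2 hy i c hi hc (W ⊓ cycS y r) inf_le_right
    hinv₁ hnd₁ t ht
  have hev₁ : Even (finrank F ↥(W ⊓ cycS y r)) := by
    rw [ht]
    exact (cc_even hc).mul_right t
  have hev₀ : Even (finrank F ↥(W ⊓ fixS y)) := by
    rcases Nat.even_or_odd (finrank F ↥(W ⊓ fixS y)) with h | h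
    · exact h
    · exfalso
      have := h.add_even hev₁
      rw [← hdim] at this
      exact (Nat.not_even_iff_odd.2 this) hWev
  have horth : W ⊓ fixS y ≤ perp Q (W ⊓ cycS y r) := by
    intro u hu
    rw [mem_perp_iff]
    intro w hw
    exact (mem_perp_iff _ _).1 (fix_le_perp_cyc hQ hiso r hrp hy hu.2) w hw.2
  obtain ⟨-, -, g3⟩ := plusS_sup hnd₀ hnd₁ horth hev₀ hev₁
  rw [← inv_split r hrp hy W hWinv, hWt, htype₁] at g3
  refine ⟨t, finrank F ↥(W ⊓ fixS y), ?_, by rw [hdim, ht], Submodule.finrank_mono inf_le_right,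
    ?_, ?_⟩
  · rw [← ht]
    exact Submodule.finrank_mono inf_le_right
  · intro h0
    have hbot : W ⊓ fixS y = ⊥ := Submodule.finrank_eq_zero.1 h0
    rw [hbot] at g3
    have := plusS_bot (Q := Q)
    tauto
  · intro he
    have htop : W ⊓ fixS y = fixS y := Submodule.eq_of_le_of_finrank_eq inf_le_right he
    rw [htop] at g3
    exact g3

end Cfsg.Agent.Lib.Helper2.OrthCf
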