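import Mathlib
import Cfsg.Agent.Lib.Helper2.OrthCfF

set_option autoImplicit false

/-!
Characteristic-free twin of `OrthNdP`/`OrthNdQ`: the counting lemma.  If an isometry `y` with
`y ^ r = 1` has a fixed space of dimension less than the block size `c` and fixes a nondegenerate
subspace of dimension `m < c` and of a given type, then the number of such subspaces is prime
to `r`.
-/

namespace Cfsg.Agent.Lib.Helper2.OrthCf

open Module QuadraticMap Polynomial
open Cfsg.Agent.Lib.Helper2.MaxTS2 Cfsg.Agent.Lib.Helper2.OrthEl Cfsg.Agent.Lib.Helper2.OrthNd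
open Cfsg.Agent.H9SemiInv
open Cfsg.Agent.Lib.Helper9.H9Elus

variable {F : Type*} [Field F] [Fintype F] {p : ℕ} [Fact p.Prime] [CharP F p]
variable {V : Type*} [AddCommGroup V] [Module F V] [FiniteDimensional F V]

/-- the nondegenerate subspaces of dimension `m` and of prescribed type -/
abbrev TySub (Q : QuadraticForm F V) (m : ℕ) (want : Prop) : Type _ :=
  {W : Submodule F V // finrank F W = m ∧ NDeg Q W ∧ (PlusS Q W ↔ want)}

variable {Q : QuadraticForm F V} {y : V →ₗ[F] V}

/-- a space of dimension less than the block size has no isometry of order `r` -/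
theorem not_dvd_card_qIso' (hQ : (polarBilin Q).Nondegenerate)
    (r : ℕ) [Fact r.Prime] (hrp : r ≠ p) (hr2 : r ≠ 2) (i c : ℕ)
    (hi : i = orderOf ((Fintype.card F : ℕ) : ZMod r)) (hc : c = if Even i then i else 2 * i)
    (hdim : finrank F V < c) : ¬ r ∣ Nat.card ↥(qIso Q) := by
  intro hdvd
  have : Finite V := Module.finite_of_finite F
  have : Finite (V ≃ₗ[F] V) := Finite.of_injective (fun g => (g : V → V)) DFunLike.coe_injective
  obtain ⟨g, hg⟩ := exists_prime_orderOf_dvd_card' r hdvd
  set y : V →ₗ[F] V := ((g : V ≃ₗ[F] V) : V →ₗ[F] V) with hy_def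
  have hiso : ∀ v, Q (y v) = Q v := g.2
  have hy : y ^ r = 1 := by
    apply LinearMap.ext
    intro v
    rw [coe_pow_apply, Module.End.one_apply]
    have h1 : g ^ r = 1 := by rw [← hg]; exact pow_orderOf_eq_one g
    have h2 : (g : V ≃ₗ[F] V) ^ r = 1 := by
      have := congrArg Subtype.val h1
      rwa [Subgroup.coe_pow] at this
    rw [h2]
    rfl
  have hne : cycS y r ≠ ⊥ := by
    intro hbot
    have hc' := isCompl_ker r hrp y hy
    have htop : fixS y = ⊤ := by
      have h0 : fixS y ⊔ cycS y r = ⊤ := hc'.sup_eq_top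
      rwa [hbot, sup_bot_eq] at h0
    have h1 : g = 1 := by
      apply Subtype.ext
      apply LinearEquiv.ext
      intro v
      have : v ∈ fixS y := by rw [htop]; trivial
      exact (mem_fixS v).1 this
    rw [h1, orderOf_one] at hg
    exact (Fact.out : r.Prime).one_lt.ne hg
  have hnd := ndeg_cycS hQ hiso r hrp hy
  obtain ⟨t, ht⟩ := cc_dvd_finrank' hQ hiso r hrp hr2 hy i c hi hc (cycS y r) le_rfl
    (inv_ker_aeval y _) hnd
  have hpos : 0 < finrank F (cycS y r) := by
    rw [Nat.pos_iff_ne_zero]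
    intro h0
    exact hne (Submodule.finrank_eq_zero.1 h0)
  have hle : finrank F (cycS y r) ≤ finrank F V := Submodule.finrank_le _
  have ht1 : 1 ≤ t := by
    rcases Nat.eq_zero_or_pos t with h | h
    · rw [h, mul_zero] at ht
      omega
    · exact h
  have : c ≤ c * t := Nat.le_mul_of_pos_right c ht1
  omega


/-- an invariant nondegenerate subspace of dimension less than the block size is fixed -/
theorem le_fix_of_small' (hQ : (polarBilin Q).Nondegenerate)
    (hiso : ∀ v, Q (y v) = Q v) (r : ℕ) [Fact r.Prime] (hrp : r ≠ p) (hr2 : r ≠ 2)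
    (hy : y ^ r = 1) (i c : ℕ) (hi : i = orderOf ((Fintype.card F : ℕ) : ZMod r))
    (hc : c = if Even i then i else 2 * i) (W : Submodule F V) (hWinv : Inv y W)
    (hW : NDeg Q W) (hWc : finrank F W < c) : W ≤ fixS y := by
  obtain ⟨hA, hB, hdim⟩ := ndeg_split hiso r hrp hy W hWinv hW
  obtain ⟨t, ht⟩ := cc_dvd_finrank' hQ hiso r hrp hr2 hy i c hi hc (W ⊓ cycS y r) inf_le_right
    (hWinv.inf (inv_ker_aeval y _)) hB
  have ht0 : t = 0 := by
    rcases Nat.eq_zero_or_pos t with h | h
    · exact h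
    · exfalso
      have : c ≤ c * t := Nat.le_mul_of_pos_right c h
      omega
  rw [ht0, mul_zero] at ht
  have hbot : W ⊓ cycS y r = ⊥ := Submodule.finrank_eq_zero.1 ht
  have h1 := inv_split r hrp hy W hWinv
  rw [hbot, sup_bot_eq] at h1
  rw [h1]
  exact inf_le_right

/-- the counting lemma -/
theorem not_dvd_card_tySub (hQ : (polarBilin Q).Nondegenerate)
    (hiso : ∀ v, Q (y v) = Q v) (r : ℕ) [Fact r.Prime] (hrp : r ≠ p) (hr2 : r ≠ 2)
    (hy : y ^ r = 1) (i c : ℕ) (hi : i = orderOf ((Fintype.card F : ℕ) : ZMod r))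
    (hc : c = if Even i then i else 2 * i) (hkc : finrank F (fixS y) < c) (m : ℕ) (hmc : m < c)
    (hmev : Even m) (want : Prop)
    (hex : ∃ W : Submodule F V, Inv y W ∧ finrank F W = m ∧ NDeg Q W ∧ (PlusS Q W ↔ want)) :
    ¬ r ∣ Nat.card (TySub Q m want) := by
  classical
  have hfinV : Finite V := Module.finite_of_finite F
  have hYnd : NDeg Q (fixS y) := ndeg_fixS hQ hiso r hrp hy
  have hr1 : 1 ≤ r := (Fact.out : r.Prime).one_lt.le
  -- step A: the subspaces inside the fixed space
  have hA : ¬ r ∣ Nat.card (TySub (Q.comp (fixS y).subtype) m want) := by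
    obtain ⟨W₀, hW₀inv, hW₀dim, hW₀nd, hW₀t⟩ := hex
    have hW₀Y : W₀ ≤ fixS y := le_fix_of_small' hQ hiso r hrp hr2 hy i c hi hc W₀ hW₀inv hW₀nd
      (by rw [hW₀dim]; exact hmc)
    have hmap : (W₀.comap (fixS y).subtype).map (fixS y).subtype = W₀ := by
      rw [Submodule.map_comap_subtype]
      exact inf_eq_right.2 hW₀Y
    obtain ⟨p1, p2, p3⟩ := sub_props' (Q := Q) (fixS y) (W₀.comap (fixS y).subtype)
    rw [hmap] at p1 p2 p3
    have hdvd := card_dvd_card_qIso_type hYnd.restrict (W₀.comap (fixS y).subtype) (p1.2 hW₀nd) m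
      (by rw [← p2, hW₀dim]) hmev want (by rw [← p3, hW₀t])
    intro hr
    exact not_dvd_card_qIso' hYnd.restrict r hrp hr2 i c hi hc hkc (hr.trans hdvd)
  -- step B: the action of `y`
  have h₁ : y.comp (y ^ (r - 1)) = LinearMap.id := by
    rw [← Module.End.mul_eq_comp, ← pow_succ', Nat.sub_add_cancel hr1, hy]
    rfl
  have h₂ : (y ^ (r - 1)).comp y = LinearMap.id := by
    rw [← Module.End.mul_eq_comp, ← pow_succ, Nat.sub_add_cancel hr1, hy]
    rfl
  set g : V ≃ₗ[F] V := LinearEquiv.ofLinear y (y ^ (r - 1)) h₁ h₂ with hg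
  have hgy : (g : V →ₗ[F] V) = y := rfl
  have hgiso : ∀ v, Q (g v) = Q v := hiso
  haveI : Finite (Submodule F V) :=
    Finite.of_injective (fun W : Submodule F V => (W : Set V)) SetLike.coe_injective
  haveI : Fintype (TySub Q m want) := Fintype.ofFinite _
  let f : Function.End (TySub Q m want) := fun W =>
    ⟨W.1.map y, by
      obtain ⟨q1, q2, q3⟩ := map_iso_props' g hgiso W.1
      rw [hgy] at q1 q2 q3
      exact ⟨q2.trans W.2.1, q1 W.2.2.1, q3.trans W.2.2.2⟩⟩
  have hfpow : ∀ k : ℕ, ∀ W, ((f ^ k) W).1 = W.1.map (y ^ k) := by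
    intro k
    induction k with
    | zero =>
      intro W
      rw [pow_zero, pow_zero]
      show W.1 = W.1.map LinearMap.id
      rw [Submodule.map_id]
    | succ k ih =>
      intro W
      rw [pow_succ', pow_succ']
      show ((f ^ k) W).1.map y = _
      rw [ih, Module.End.mul_eq_comp, Submodule.map_comp]
  have hf : f ^ r ^ 1 = 1 := by
    rw [pow_one]
    funext W
    apply Subtype.ext
    rw [hfpow, hy]
    show W.1.map LinearMap.id = W.1
    rw [Submodule.map_id]
  have hmod := Equiv.Perm.card_fixedPoints_modEq (p := r) (n := 1) hf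
  -- step C: the fixed points
  have hfixle : ∀ W : TySub Q m want, f W = W → W.1 ≤ fixS y := by
    intro W hW
    have h1 : W.1.map y = W.1 := congrArg Subtype.val hW
    have hinv : Inv y W.1 := by
      rw [inv_iff, h1]
    apply le_fix_of_small' hQ hiso r hrp hr2 hy i c hi hc W.1 hinv W.2.2.1
    rw [W.2.1]
    exact hmc
  let φ : TySub (Q.comp (fixS y).subtype) m want → Function.fixedPoints f := fun W' =>
    ⟨⟨W'.1.map (fixS y).subtype, by
      obtain ⟨p1, p2, p3⟩ := sub_props' (Q := Q) (fixS y) W'.1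
      exact ⟨p2.trans W'.2.1, p1.1 W'.2.2.1, p3.trans W'.2.2.2⟩⟩, by
      show f _ = _
      apply Subtype.ext
      show (W'.1.map (fixS y).subtype).map y = W'.1.map (fixS y).subtype
      exact map_eq_of_le_fix (Submodule.map_subtype_le _ _)⟩
  have hφinj : Function.Injective φ := by
    intro A B hAB
    have h1 : A.1.map (fixS y).subtype = B.1.map (fixS y).subtype :=
      congrArg (fun z : Function.fixedPoints f => z.1.1) hAB
    apply Subtype.ext
    exact Submodule.map_injective_of_injective (fixS y).injective_subtype h1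
  have hφsurj : Function.Surjective φ := by
    rintro ⟨W, hW⟩
    have hle : W.1 ≤ fixS y := hfixle W hW
    have hmap : (W.1.comap (fixS y).subtype).map (fixS y).subtype = W.1 := by
      rw [Submodule.map_comap_subtype]
      exact inf_eq_right.2 hle
    obtain ⟨p1, p2, p3⟩ := sub_props' (Q := Q) (fixS y) (W.1.comap (fixS y).subtype)
    rw [hmap] at p1 p2 p3
    refine ⟨⟨W.1.comap (fixS y).subtype, by rw [← p2, W.2.1], p1.2 W.2.2.1,
      by rw [← p3]; exact W.2.2.2⟩, ?_⟩
    apply Subtype.ext
    apply Subtype.ext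
    exact hmap
  have hcard : Nat.card (TySub (Q.comp (fixS y).subtype) m want) =
      Fintype.card (Function.fixedPoints f) := by
    rw [← Nat.card_eq_fintype_card]
    exact Nat.card_congr (Equiv.ofBijective φ ⟨hφinj, hφsurj⟩)
  intro hr
  apply hA
  rw [hcard]
  rw [Nat.card_eq_fintype_card] at hr
  exact (Nat.modEq_zero_iff_dvd.1 (hmod.symm.trans (Nat.modEq_zero_iff_dvd.2 hr)))

end Cfsg.Agent.Lib.Helper2.OrthCf
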