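import Mathlib
import Cfsg.Agent.Lib.Helper2.OrthElN

set_option autoImplicit false

/-!
PK-HERM (S5974 board): the hermitian block for `i` even in every characteristic.  The form
`u ↦ Tr(θ u σ(u))` with `θ + σ θ = 1` has polar form `Tr(u σ(w))`.
-/

namespace Cfsg.Agent.Lib.Helper2.OrthCf

open Module QuadraticMap Polynomial
open Cfsg.Agent.Lib.Helper9.H9Elus
open Cfsg.Agent.Lib.Helper2.OrthEl Cfsg.Agent.Lib.Helper2.OrthEl.QIso

universe u

section form

variable {F : Type u} [Field F] (K : Type u) [Field K] [Algebra F K]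

/-- the twisted hermitian trace form `u ↦ Tr(θ u σ(u))` -/
noncomputable def hermFormT (σ : K →ₐ[F] K) (θ : K) : QuadraticForm F K :=
  LinearMap.BilinMap.toQuadraticMap
    ((Algebra.traceForm F K).compl₁₂ (LinearMap.mulLeft F θ) σ.toLinearMap)

variable {K}

theorem hermFormT_apply (σ : K →ₐ[F] K) (θ u : K) :
    hermFormT K σ θ u = Algebra.trace F K (θ * u * σ u) := rfl

theorem hermFormT_polar (σ : K →ₐ[F] K) (θ u w : K) :
    polar (⇑(hermFormT K σ θ)) u w =
      Algebra.trace F K (θ * u * σ w) + Algebra.trace F K (θ * w * σ u) := by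
  unfold hermFormT
  rw [LinearMap.BilinMap.polar_toQuadraticMap]
  rfl

theorem hermFormT_polar' (σ : K →ₐ[F] K) (hσ : ∀ u, σ (σ u) = u) (θ : K) (hθ : θ + σ θ = 1)
    (u w : K) : polar (⇑(hermFormT K σ θ)) u w = Algebra.trace F K (u * σ w) := by
  rw [hermFormT_polar, ← trace_sigma σ hσ (θ * w * σ u), map_mul σ, map_mul σ, hσ, ← map_add]
  congr 1
  have : θ * u * σ w + σ θ * σ w * u = (θ + σ θ) * (u * σ w) := by ring
  rw [this, hθ, one_mul]

variable [FiniteDimensional F K]

variable (K) in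
/-- the twisted hermitian block -/
@[reducible] noncomputable def hermT (σ : K →ₐ[F] K) (θ ζ : K) : QIso F where
  V := K
  Q := hermFormT K σ θ
  y := LinearMap.mulLeft F ζ

theorem hermT_ann (σ : K →ₐ[F] K) (θ ζ : K) (h : F[X]) (hζ : aeval ζ h = 0) :
    (hermT K σ θ ζ).Ann h := by
  unfold Ann
  show aeval (LinearMap.mulLeft F ζ) h = 0
  rw [aeval_mulLeft, hζ]
  exact LinearMap.mulLeft_zero_eq_zero _ _

theorem hermT_good [Algebra.IsSeparable F K] (σ : K →ₐ[F] K)
    (hσ : ∀ u, σ (σ u) = u) (θ : K) (hθ : θ + σ θ = 1) (ζ : K) (hσζ : σ ζ * ζ = 1) (r : ℕ)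
    (hζr : ζ ^ r = 1) : (hermT K σ θ ζ).Good r := by
  refine ⟨?_, ?_, ?_⟩
  · apply nondeg_of_left
    intro u hu
    have hnd := traceForm_nondegenerate F K
    apply hnd.1
    intro z
    have h := hu (σ z)
    rw [hermFormT_polar' σ hσ θ hθ, hσ] at h
    rw [Algebra.traceForm_apply]
    exact h
  · intro v
    show hermFormT K σ θ (ζ * v) = hermFormT K σ θ v
    rw [hermFormT_apply, hermFormT_apply, map_mul σ]
    congr 1
    calc θ * (ζ * v) * (σ ζ * σ v) = (σ ζ * ζ) * (θ * v * σ v) := by ring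
      _ = θ * v * σ v := by rw [hσζ, one_mul]
  · show (LinearMap.mulLeft F ζ) ^ r = 1
    apply LinearMap.ext
    intro v
    have : ∀ k : ℕ, ((LinearMap.mulLeft F ζ) ^ k) v = ζ ^ k * v := by
      intro k
      induction k with
      | zero => rw [pow_zero, pow_zero, Module.End.one_apply, one_mul]
      | succ k ih =>
        rw [pow_succ', Module.End.mul_apply, ih, LinearMap.mulLeft_apply, pow_succ']
        ring
    rw [this, hζr, one_mul, Module.End.one_apply]

end form

section fin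

variable {F : Type u} [Field F] [Fintype F] {p : ℕ} [Fact p.Prime] [CharP F p]

/-- existence of the hermitian block for `i` even, in every characteristic -/
theorem exists_herm' (r : ℕ) [Fact r.Prime] (hrp : r ≠ p) (hr2 : r ≠ 2)
    (g : F[X]) (hg : Irreducible g) (hgd : g ∣ cyclotomic r F)
    (hev : Even (orderOf ((Fintype.card F : ℕ) : ZMod r))) :
    ∃ B : QIso F, B.Good r ∧ B.Ann g ∧
      finrank F B.V = orderOf ((Fintype.card F : ℕ) : ZMod r) := by
  haveI : Fact (Irreducible g) := ⟨hg⟩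
  haveI : FiniteDimensional F (AdjoinRoot g) := (AdjoinRoot.powerBasis hg.ne_zero).finite
  haveI : Finite (AdjoinRoot g) := Module.finite_of_finite F
  haveI : Fintype (AdjoinRoot g) := Fintype.ofFinite _
  obtain ⟨k, hk⟩ := hev
  have hk' : orderOf ((Fintype.card F : ℕ) : ZMod r) = 2 * k := by omega
  have hfr : finrank F (AdjoinRoot g) = orderOf ((Fintype.card F : ℕ) : ZMod r) := by
    rw [finrank_adjoin g hg.ne_zero, natDegree_of_dvd_cyclotomic r hrp g hg hgd]
  set σ : AdjoinRoot g →ₐ[F] AdjoinRoot g := (FiniteField.frobeniusAlgHom F (AdjoinRoot g)) ^ k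
    with hσdef
  have hσapply : ∀ u, σ u = u ^ (Fintype.card F ^ k) := by
    intro u
    rw [hσdef, AlgHom.coe_pow, FiniteField.coe_frobeniusAlgHom, pow_iterate]
  have hcardK : Fintype.card (AdjoinRoot g) = Fintype.card F ^ k * Fintype.card F ^ k := by
    rw [Module.card_eq_pow_finrank (K := F) (V := AdjoinRoot g), hfr, hk, pow_add]
  have hσ : ∀ u, σ (σ u) = u := by
    intro u
    rw [hσapply, hσapply, ← pow_mul, ← hcardK, FiniteField.pow_card]
  set ζ : AdjoinRoot g := AdjoinRoot.root g with hζdef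
  have hζr : ζ ^ r = 1 := root_pow r g hgd
  have hζ1 : ζ ≠ 1 := root_ne_one r hrp g hgd
  have hζ0 : ζ ≠ 0 := root_ne_zero r g hgd
  have hσζ : σ ζ * ζ = 1 := by
    rw [hσapply, ← pow_succ]
    obtain ⟨m, hm⟩ := dvd_pow_half_add_one (F := F) r hrp k hk'
    rw [hm, pow_mul, hζr, one_pow]
  have hsum : ζ + σ ζ ≠ 0 := by
    intro h0
    have h1 : ζ * ζ = -1 := by
      have : ζ * (ζ + σ ζ) = 0 := by rw [h0, mul_zero]
      rw [mul_add, mul_comm ζ (σ ζ), hσζ] at this
      exact eq_neg_of_add_eq_zero_left this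
    have h4 : ζ ^ 4 = 1 := by
      have : ζ ^ 4 = (ζ * ζ) * (ζ * ζ) := by ring
      rw [this, h1]
      ring
    have hcop : Nat.gcd 4 r = 1 := by
      have hr : r.Prime := Fact.out
      have h5 : Nat.Coprime r 4 := by
        rw [Nat.Prime.coprime_iff_not_dvd hr]
        intro h6
        have h7 : r ∣ 2 ^ 2 := by simpa using h6
        have h8 := (Nat.prime_dvd_prime_iff_eq hr Nat.prime_two).1 (hr.dvd_of_dvd_pow h7)
        exact hr2 h8
      exact h5.symm
    have h9 := pow_gcd_eq_one.2 ⟨h4, hζr⟩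
    rw [hcop, pow_one] at h9
    exact hζ1 h9
  set θ : AdjoinRoot g := ζ * (ζ + σ ζ)⁻¹ with hθdef
  have hθ : θ + σ θ = 1 := by
    rw [hθdef, map_mul σ, map_inv₀ σ, map_add σ, hσ, add_comm (σ ζ) ζ, ← add_mul,
      mul_inv_cancel₀ hsum]
  refine ⟨hermT (AdjoinRoot g) σ θ ζ, hermT_good σ hσ θ hθ ζ hσζ r hζr, hermT_ann σ θ ζ g ?_, hfr⟩
  rw [hζdef, AdjoinRoot.aeval_eq, AdjoinRoot.mk_self]

end fin

end Cfsg.Agent.Lib.Helper2.OrthCf
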