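import Mathlib
import Cfsg.Agent.Lib.Helper2.OrthCfG
import Cfsg.Agent.Lib.Helper2.OrthCfHerm
import Cfsg.Agent.Lib.Helper2.OrthElP
import Cfsg.Agent.Lib.Helper2.OrthNdW
import Cfsg.Agent.Lib.Helper5.NsPt10

set_option autoImplicit false

/-!
Characteristic-free models in even dimension: a space with `J'` blocks, fixed space of dimension `e₀`
and prescribed type; its transport to any nondegenerate space of the same dimension and type; the
resulting element of `Ω`.
-/

namespace Cfsg.Agent.Lib.Helper2.OrthCf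

open Module QuadraticMap Polynomial
open scoped Matrix
open Cfsg.Agent.Lib.Helper2.MaxTS2 Cfsg.Agent.Lib.Helper2.OrthEl Cfsg.Agent.Lib.Helper2.OrthNd
open Cfsg.Agent.H9SemiInv
open Cfsg.Agent.Lib.Helper9.H9Elus
open Cfsg.Agent.Lib.Helper5.OrthCls

universe u

section basic

variable {F : Type*} [Field F] {V : Type*} [AddCommGroup V] [Module F V]
  [FiniteDimensional F V] {Q : QuadraticForm F V}

theorem plusS_top_iff_isPlus : PlusS Q ⊤ ↔ IsPlus Q := by
  constructor
  · rintro ⟨U, -, hU, hdim⟩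
    exact ⟨U, hU, by rw [hdim, finrank_top]⟩
  · rintro ⟨U, hU, hdim⟩
    exact ⟨U, le_top, hU, by rw [hdim, finrank_top]⟩

end basic

section model

variable {F : Type u} [Field F] [Fintype F] {p : ℕ} [Fact p.Prime] [CharP F p]

open QIso

/-- the block of dimension `c` -/
theorem exists_block' (r : ℕ) [Fact r.Prime] (hrp : r ≠ p) (hr2' : r ≠ 2)
    (i c : ℕ) (hi : i = orderOf ((Fintype.card F : ℕ) : ZMod r))
    (hc : c = if Even i then i else 2 * i) :
    ∃ B : QIso F, B.Good r ∧ B.Ann (cyclotomic r F) ∧ finrank F B.V = c := by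
  by_cases hev : Even i
  · obtain ⟨S, hS, hcard⟩ := exists_factors (F := F) r hrp
    have hr2 := (Fact.out : r.Prime).two_le
    have hSne : S.Nonempty := by
      rw [Finset.nonempty_iff_ne_empty]
      intro h
      rw [h, Finset.card_empty, zero_mul] at hcard
      omega
    obtain ⟨g, hg⟩ := hSne
    obtain ⟨hgirr, hgd, -⟩ := hS g hg
    obtain ⟨B, hB, hBann, hBdim⟩ := exists_herm' r hrp hr2' g hgirr hgd (by rw [← hi]; exact hev)
    refine ⟨B, hB, ann_of_dvd hBann hgd, ?_⟩
    rw [hBdim, hc, if_pos hev, hi]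
  · obtain ⟨B, hB, hBann, hBdim⟩ := exists_pair (F := F) r hrp
    refine ⟨B, hB, hBann, ?_⟩
    rw [hBdim, hc, if_neg hev, hi]

omit [Fact p.Prime] [CharP F p] in
/-- a space with the identity, of prescribed even dimension and type -/
theorem exists_space' (r a : ℕ) (ha : 1 ≤ a) (want : Prop) :
    ∃ E : QIso F, E.Good r ∧ E.Ann (X - 1 : F[X]) ∧ finrank F E.V = 2 * a ∧
      (IsPlus E.Q ↔ want) := by
  obtain ⟨A, hAnd, hAdim, hAtype⟩ := exists_std (F := F) a ha want
  refine ⟨{ V := A.V, Q := A.Q, y := LinearMap.id }, ⟨hAnd, fun v => rfl, ?_⟩, ?_, hAdim, hAtype⟩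
  · show (1 : Module.End F A.V) ^ r = 1
    exact one_pow r
  · show aeval (1 : Module.End F A.V) (X - 1 : F[X]) = 0
    rw [map_sub, aeval_X, map_one, sub_self]

/-- the model with `J'` blocks, fixed space of dimension `e₀` and prescribed type -/
theorem exists_model_type' (d : ℕ) (r : ℕ) [Fact r.Prime]
    (hrp : r ≠ p) (hr2 : r ≠ 2) (i c : ℕ) (hi : i = orderOf ((Fintype.card F : ℕ) : ZMod r))
    (hc : c = if Even i then i else 2 * i) (J' e₀ : ℕ) (hJ : 1 ≤ J')
    (hdim : 2 * d = c * J' + e₀) (wantV : Prop)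
    (hcompat : e₀ = 0 → (wantV ↔ (Even i → Even J'))) :
    ∃ M : QIso F, M.Good r ∧ finrank F M.V = 2 * d ∧ M.y ≠ 1 ∧ finrank F (fixS M.y) = e₀ ∧
      (IsPlus M.Q ↔ wantV) := by
  have hi1 : 1 ≤ i := by rw [hi]; exact order_pos (F := F) r hrp
  have hc1 : 1 ≤ c := by
    rw [hc]
    split_ifs <;> omega
  obtain ⟨B, hB, hBann, hBdim⟩ := exists_block' r hrp hr2 i c hi hc
  obtain ⟨R, hR, hRann, hRdim⟩ := exists_pow B hB hBann J'
  have hRpos : 0 < finrank F R.V := by
    rw [hRdim, hBdim]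
    positivity
  have hRne : R.y ≠ 1 := ne_one_of_free r hrp hR hRann hRpos
  have hRtop : cycS R.y r = ⊤ := cycS_eq_top hRann
  have hRfix : ∀ v, R.y v = v → v = 0 := by
    intro v hv
    apply eq_zero_of_fix_of_cyc r hrp hR.2.2 hv
    rw [hRtop]
    exact Submodule.mem_top
  have htopinv : Inv R.y (⊤ : Submodule F R.V) := fun v _ => Submodule.mem_top
  have htopnd : NDeg R.Q (⊤ : Submodule F R.V) := ndeg_top hR.1
  have hRtype : IsPlus R.Q ↔ (Even i → Even J') := by
    rw [← plusS_top_iff_isPlus]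
    exact plusS_cyc_iff hR.1 hR.2.1 r hrp hr2 hR.2.2 i c hi hc ⊤ (by rw [hRtop]) htopinv htopnd J'
      (by rw [finrank_top, hRdim, hBdim, mul_comm])
  have hcev : Even (c * J') := (cc_even hc).mul_right J'
  rcases Nat.eq_zero_or_pos e₀ with he0 | he0
  · -- no fixed part
    refine ⟨R, hR, ?_, hRne, ?_, ?_⟩
    · rw [hRdim, hBdim, hdim, he0, add_zero, mul_comm]
    · rw [he0]
      apply Submodule.finrank_eq_zero.2
      rw [Submodule.eq_bot_iff]
      intro v hv
      exact hRfix v ((mem_fixS v).1 hv)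
    · rw [hRtype, hcompat he0]
  · -- a fixed part of the right type
    obtain ⟨a, ha⟩ : ∃ a, e₀ = 2 * a := by
      obtain ⟨t, ht⟩ := hcev
      exact ⟨d - t, by omega⟩
    obtain ⟨E, hE, hEann, hEdim, hEt⟩ := exists_space' (F := F) r a (by omega)
      (wantV ↔ IsPlus R.Q)
    have hEy : ∀ a, E.y a = a := by
      intro a
      have h1 : aeval E.y (X - 1 : F[X]) = 0 := hEann
      have h3 : a ∈ fixS E.y := by
        rw [LinearMap.mem_ker, h1, LinearMap.zero_apply]
      exact (mem_fixS a).1 h3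
    refine ⟨E.prod R, prod_good hE hR, ?_, ?_, ?_, ?_⟩
    · rw [QIso.finrank_prod, hEdim, hRdim, hBdim, hdim, ha]
      ring
    · intro h1
      apply hRne
      apply LinearMap.ext
      intro v
      have := congrArg (fun f : (E.prod R).V →ₗ[F] (E.prod R).V => (f (0, v)).2) h1
      exact this
    · have hfix : fixS (E.prod R).y = LinearMap.range (LinearMap.inl F E.V R.V) := by
        ext v
        rw [mem_fixS, LinearMap.mem_range]
        constructor
        · intro hv
          have h1 : R.y v.2 = v.2 := by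
            have := congrArg Prod.snd hv
            exact this
          have h3 : v.2 = 0 := hRfix v.2 h1
          refine ⟨v.1, ?_⟩
          apply Prod.ext
          · rfl
          · exact h3.symm
        · rintro ⟨a, rfl⟩
          show (E.y a, R.y 0) = (a, 0)
          rw [hEy, map_zero]
      rw [hfix, LinearMap.finrank_range_of_inj LinearMap.inl_injective, hEdim, ha]
    · show IsPlus (E.Q.prod R.Q) ↔ wantV
      rw [isPlus_prod_iff hE.1 hR.1 (by rw [hEdim]; exact even_two_mul a)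
        (by rw [hRdim, hBdim, mul_comm]; exact hcev), hEt]
      tauto

end model

section transport

variable {F : Type u} [Field F] [Fintype F] {p : ℕ} [Fact p.Prime] [CharP F p]
variable {V : Type*} [AddCommGroup V] [Module F V] [FiniteDimensional F V]

/-- an isometry of order `r` with `J'` blocks and fixed space of dimension `e₀` on a given
nondegenerate space of dimension `2d` -/
theorem exists_iso_fix' (Q : QuadraticForm F V)
    (hQ : (polarBilin Q).Nondegenerate) (d : ℕ) (hV : finrank F V = 2 * d) (r : ℕ)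
    [Fact r.Prime] (hrp : r ≠ p) (hr2 : r ≠ 2) (i c : ℕ)
    (hi : i = orderOf ((Fintype.card F : ℕ) : ZMod r))
    (hc : c = if Even i then i else 2 * i) (J' e₀ : ℕ) (hJ : 1 ≤ J')
    (hdim : 2 * d = c * J' + e₀)
    (hcompat : e₀ = 0 → (IsPlus Q ↔ (Even i → Even J'))) :
    ∃ y : V →ₗ[F] V, (∀ v, Q (y v) = Q v) ∧ y ^ r = 1 ∧ y ≠ 1 ∧ finrank F (fixS y) = e₀ := by
  obtain ⟨M, hM, hMdim, hMne, hMfix, hMd⟩ := exists_model_type' d r hrp hr2 i c hi hc J' e₀ hJ
    hdim (IsPlus Q) hcompat
  obtain ⟨e, he⟩ := iso_of_type M.Q Q hM.1 hQ (hMdim.trans hV.symm)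
    (by rw [hMdim]; exact even_two_mul d) hMd
  set y' : V →ₗ[F] V := e.toLinearMap ∘ₗ M.y ∘ₗ e.symm.toLinearMap with hy'
  have hy'app : ∀ u, y' u = e (M.y (e.symm u)) := fun u => rfl
  have hy'pow : ∀ k : ℕ, ∀ u, (y' ^ k) u = e ((M.y ^ k) (e.symm u)) := by
    intro k
    induction k with
    | zero =>
      intro u
      rw [pow_zero, pow_zero, Module.End.one_apply, Module.End.one_apply,
        LinearEquiv.apply_symm_apply]
    | succ k ih =>
      intro u
      rw [pow_succ, Module.End.mul_apply, ih, hy'app, LinearEquiv.symm_apply_apply, pow_succ,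
        Module.End.mul_apply]
  refine ⟨y', ?_, ?_, ?_, ?_⟩
  · intro v
    rw [hy'app, he, hM.2.1, ← he, LinearEquiv.apply_symm_apply]
  · apply LinearMap.ext
    intro u
    rw [hy'pow, hM.2.2, Module.End.one_apply, Module.End.one_apply, LinearEquiv.apply_symm_apply]
  · intro h3
    apply hMne
    apply LinearMap.ext
    intro v
    have := congrArg (fun f : V →ₗ[F] V => e.symm (f (e v))) h3
    simp only [hy'app, LinearEquiv.symm_apply_apply, Module.End.one_apply] at this
    rw [this, Module.End.one_apply]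
  · have hmap : fixS y' = (fixS M.y).map (e : M.V →ₗ[F] V) := by
      ext v
      rw [mem_fixS, Submodule.mem_map]
      constructor
      · intro hv
        refine ⟨e.symm v, ?_, LinearEquiv.apply_symm_apply e v⟩
        rw [mem_fixS]
        rw [hy'app] at hv
        have := congrArg e.symm hv
        rwa [LinearEquiv.symm_apply_apply] at this
      · rintro ⟨w, hw, rfl⟩
        rw [mem_fixS] at hw
        show y' (e w) = e w
        rw [hy'app, LinearEquiv.symm_apply_apply, hw]
    rw [hmap, LinearEquiv.finrank_map_eq e (fixS M.y), hMfix]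

end transport

section omega

variable {F : Type u} [Field F] [Fintype F] {p : ℕ} [Fact p.Prime] [CharP F p]
variable {ι : Type} [Fintype ι] [DecidableEq ι]

/-- the model element of `Ω` -/
theorem exists_omega_fix (Q : QuadraticForm F (ι → F)) (hQ : (polarBilin Q).Nondegenerate)
    (d : ℕ) (hd : 3 ≤ d) (hcard : Fintype.card ι = 2 * d) (r : ℕ)
    [Fact r.Prime] (hrp : r ≠ p) (hr2 : r ≠ 2) (i c : ℕ)
    (hi : i = orderOf ((Fintype.card F : ℕ) : ZMod r))
    (hc : c = if Even i then i else 2 * i) (J' e₀ : ℕ) (hJ : 1 ≤ J')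
    (hdim : 2 * d = c * J' + e₀)
    (hcompat : e₀ = 0 → (IsPlus Q ↔ (Even i → Even J'))) :
    ∃ x : Matrix.GeneralLinearGroup ι F, x ∈ Cfsg.Geo.omegaGL ⇑Q ∧ x ^ r = 1 ∧ x ≠ 1 ∧
      finrank F (fixS (Matrix.toLin' (x : Matrix ι ι F))) = e₀ := by
  have hr : r.Prime := Fact.out
  have hV : finrank F (ι → F) = 2 * d := by
    rw [Module.finrank_fintype_fun_eq_card, hcard]
  obtain ⟨y, hyiso, hyr, hyne, hyfix⟩ := exists_iso_fix' Q hQ d hV r hrp hr2 i c hi hc J' e₀ hJ
    hdim hcompat
  obtain ⟨x, hxy, hxr⟩ := exists_gl_of_pow_eq_one y r hr.one_lt.le hyr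
  have hxiso : x ∈ Cfsg.isometryGroup F ⇑Q := by
    intro u _
    show Q ((x : Matrix ι ι F) *ᵥ u) = Q u
    rw [← Matrix.toLin'_apply, hxy]
    exact hyiso u
  have hn : 2 ≤ Fintype.card ι := by omega
  obtain ⟨k, hk⟩ : ∃ k, r = 2 * k + 1 := by
    rcases hr.eq_two_or_odd with h6 | h6
    · exact absurd h6 hr2
    · exact ⟨r / 2, by omega⟩
  refine ⟨x, ?_, hxr, ?_, by rw [hxy]; exact hyfix⟩
  · by_cases h2 : (2 : F) = 0
    · refine Subgroup.mem_map.2 ⟨⟨x, hxiso⟩, ?_, rfl⟩
      apply Cfsg.Agent.Lib.Helper5.NsPt.mem_commutator_of_pow_eq_one Q h2 hQ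
        (Or.inr (by omega)) hn _ r (hr.odd_of_ne_two hr2)
      apply Subtype.ext
      rw [SubmonoidClass.coe_pow]
      exact hxr
    · exact mem_omegaGL_of_odd_order h2 Q _ rfl hQ hn x hxiso k (by rw [← hk]; exact hxr)
  · intro h
    apply hyne
    rw [← hxy, h, Units.val_one, Matrix.toLin'_one]
    rfl

end omega

end Cfsg.Agent.Lib.Helper2.OrthCf
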