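import Mathlib

set_option autoImplicit false

/-!
The arithmetic of the FIX theorem in even dimension (pure arithmetic and propositional logic).
`τ t` stands for `Even i → Even t`.
-/

namespace Cfsg.Agent.Lib.Helper2.OrthCf

theorem arith_div_mod (c m m₀ t : ℕ) (hm : m = m₀ + c * t) (hm₀ : m₀ < c) :
    m % c = m₀ ∧ m / c = t := by
  have hc : 0 < c := by omega
  constructor
  · rw [hm, Nat.add_mul_mod_self_left, Nat.mod_eq_of_lt hm₀]
  · rw [hm, Nat.add_mul_div_left _ _ hc, Nat.div_eq_of_lt hm₀, zero_add]

theorem tau_pred (i M : ℕ) (hi : Even i) :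
    ((Even i → Even M) ↔ ¬ (Even i → Even (M + 1))) := by
  constructor
  · intro h1 h2
    have e1 := h1 hi
    have e2 := h2 hi
    rw [Nat.even_add_one] at e2
    exact e2 e1
  · intro h1 _
    by_contra h3
    apply h1
    intro _
    rw [Nat.even_add_one]
    exact h3

theorem prop_aux1 (want wantV P a b : Prop) (h3 : want ↔ ((wantV ↔ a) ↔ b))
    (hP : wantV ↔ (P ↔ a)) : want ↔ (P ↔ b) := by
  by_cases hp : P <;> by_cases ha : a <;> by_cases hb : b <;> by_cases hv : wantV <;>
    by_cases hw : want <;> simp_all

theorem prop_aux2 (want wantV P a b : Prop) (h3 : want ↔ (P ↔ b))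
    (hP : wantV ↔ (P ↔ a)) : want ↔ ((wantV ↔ a) ↔ b) := by
  by_cases hp : P <;> by_cases ha : a <;> by_cases hb : b <;> by_cases hv : wantV <;>
    by_cases hw : want <;> simp_all

theorem mul_lt_cancel (c a b : ℕ) (h : c * a < c * b) : a < b := by
  by_contra hge
  have : c * b ≤ c * a := Nat.mul_le_mul_left c (Nat.le_of_not_lt hge)
  omega

/-- sufficiency, in terms of quotients and remainders -/
theorem arith_suff_aux (i c N k M l e A : ℕ) (hc : 1 ≤ c) (hk : k < c) (hl : l < c)
    (hn : k + c * N = e + c * A) (hm0 : 0 < l + c * M) (hmn : l + c * M < k + c * N)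
    (wantV want P : Prop) (hP : wantV ↔ (P ↔ (Even i → Even A)))
    (he0 : e = 0 → P)
    (hcond : (k = 0 ∧ ¬ (wantV ↔ (Even i → Even N))) ∨
      (l ≤ k ∧ (l = 0 → (want ↔ (Even i → Even M))) ∧
        (l = k → (want ↔ ((wantV ↔ (Even i → Even N)) ↔ (Even i → Even M)))))) :
    ∃ t m₀ : ℕ, c * t ≤ c * A ∧ l + c * M = m₀ + c * t ∧ m₀ ≤ e ∧
      (m₀ = 0 → (want ↔ (Even i → Even t))) ∧
      (m₀ = e → (want ↔ (P ↔ (Even i → Even t)))) := by
  -- `e = k + c s`, `N = A + s`
  obtain ⟨s, hN, hes⟩ : ∃ s, N = A + s ∧ e = k + c * s := by
    have h1 : (k + c * N) % c = k := by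
      rw [Nat.add_mul_mod_self_left, Nat.mod_eq_of_lt hk]
    have h2 : (k + c * N) / c = N := by
      rw [Nat.add_mul_div_left _ _ (by omega), Nat.div_eq_of_lt hk, zero_add]
    have h3 : (e + c * A) % c = e % c := Nat.add_mul_mod_self_left _ _ _
    have h4 : (e + c * A) / c = e / c + A := Nat.add_mul_div_left _ _ (by omega)
    rw [hn] at h1 h2
    refine ⟨e / c, by omega, ?_⟩
    have := Nat.mod_add_div e c
    omega
  rcases hcond with ⟨hk0, hnot⟩ | ⟨hlk, h0, hkk⟩
  · -- no model with all blocks: the fixed space is large
    have hs1 : 1 ≤ s := by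
      rcases Nat.eq_zero_or_pos s with h | h
      · exfalso
        have he : e = 0 := by rw [hes, hk0, h]; simp
        have hNA : N = A := by omega
        rw [hNA] at hnot
        have hp := he0 he
        apply hnot
        rw [hP]
        exact ⟨fun h => h.1 hp, fun h => ⟨fun _ => h, fun _ => hp⟩⟩
      · exact h
    have hcs' : c ≤ c * s := Nat.le_mul_of_pos_right c hs1
    have hMltN : M < N := by
      apply mul_lt_cancel c
      omega
    rcases Nat.eq_zero_or_pos l with hl0 | hlpos
    · -- `m` is a multiple of `c`
      obtain ⟨M', rfl⟩ : ∃ M', M = M' + 1 := by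
        rcases Nat.eq_zero_or_pos M with h | h
        · rw [h, hl0] at hm0
          omega
        · exact ⟨M - 1, by omega⟩
      have hcM : c * (M' + 1) = c * M' + c := by ring
      rcases Nat.lt_or_ge 1 s with hs2 | hs2
      · -- `s ≥ 2`
        have hc2 : c * 2 ≤ c * s := Nat.mul_le_mul_left c hs2
        rcases Nat.le_total M' A with hle | hle
        · have := Nat.mul_le_mul_left c hle
          exact ⟨M', c, this, by omega, by omega, fun h => by omega, fun h => by omega⟩
        · have hAM : c * A ≤ c * M' := Nat.mul_le_mul_left c hle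
          have hNs : c * N = c * A + c * s := by rw [hN]; ring
          exact ⟨A, l + c * (M' + 1) - c * A, le_rfl, by omega, by omega, fun h => by omega,
            fun h => by omega⟩
      · -- `s = 1`
        have hs : s = 1 := by omega
        subst hs
        rw [mul_one] at hes
        have hMA : M' + 1 ≤ A := by omega
        have hMA' : c * (M' + 1) ≤ c * A := Nat.mul_le_mul_left c hMA
        have hMA'' : c * M' ≤ c * A := Nat.mul_le_mul_left c (by omega)
        by_cases hev : Even i
        · -- `i` even
          have hτN : (Even i → Even A) ↔ ¬ (Even i → Even N) := by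
            rw [hN]
            exact tau_pred i A hev
          have hPt : P := by
            by_contra hnp
            apply hnot
            rw [hP, hτN]
            tauto
          by_cases hw : (want ↔ (Even i → Even (M' + 1)))
          · exact ⟨M' + 1, 0, hMA', by omega, by omega, fun _ => hw, fun h => by omega⟩
          · refine ⟨M', c, hMA'', by omega, by omega, fun h => by omega, ?_⟩
            intro _
            rw [tau_pred i M' hev]
            tauto
        · -- `i` odd
          have hnV : ¬ wantV := by
            intro h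
            apply hnot
            exact ⟨fun _ h' => absurd h' hev, fun _ => h⟩
          have hnP : ¬ P := by
            intro h
            apply hnV
            rw [hP]
            exact ⟨fun _ h' => absurd h' hev, fun _ => h⟩
          by_cases hw : want
          · refine ⟨M' + 1, 0, hMA', by omega, by omega, ?_, fun h => by omega⟩
            intro _
            exact ⟨fun _ h' => absurd h' hev, fun _ => hw⟩
          · refine ⟨M', c, hMA'', by omega, by omega, fun h => by omega, ?_⟩
            intro _
            constructor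
            · intro h
              exact absurd h hw
            · intro h
              exfalso
              exact hnP (h.2 (fun h' => absurd h' hev))
    · -- `m` is not a multiple of `c`
      rcases Nat.le_total M A with hle | hle
      · have := Nat.mul_le_mul_left c hle
        refine ⟨M, l, this, rfl, by omega, fun h => by omega, ?_⟩
        intro h
        exfalso
        -- `l = e = c * s` is impossible since `0 < l < c`
        omega
      · have hAM : c * A ≤ c * M := Nat.mul_le_mul_left c hle
        have hNs : c * N = c * A + c * s := by rw [hN]; ring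
        exact ⟨A, l + c * M - c * A, le_rfl, by omega, by omega, fun h => by omega,
          fun h => by omega⟩
  · -- the generic case
    rcases Nat.lt_or_ge A M with hlt | hge
    · have hAM : c * A + c ≤ c * M := by
        have : c * (A + 1) ≤ c * M := Nat.mul_le_mul_left c hlt
        rw [mul_add, mul_one] at this
        exact this
      have hNs : c * N = c * A + c * s := by rw [hN]; ring
      exact ⟨A, l + c * M - c * A, le_rfl, by omega, by omega, fun h => by omega,
        fun h => by omega⟩
    · have := Nat.mul_le_mul_left c hge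
      refine ⟨M, l, this, rfl, by omega, h0, ?_⟩
      intro hle'
      have hs0 : s = 0 := by
        rcases Nat.eq_zero_or_pos s with h | h
        · exact h
        · exfalso
          have : c ≤ c * s := Nat.le_mul_of_pos_right c h
          omega
      have hlk' : l = k := by rw [hes, hs0] at hle'; omega
      have hNA : N = A := by omega
      have h3 := hkk hlk'
      rw [hNA] at h3
      exact prop_aux1 _ _ _ _ _ h3 hP

/-- sufficiency: the choice of the number of blocks -/
theorem arith_suff (i c n m e A : ℕ) (hc : 1 ≤ c) (hn : n = e + c * A) (hm0 : 0 < m)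
    (hmn : m < n) (wantV want P : Prop) (hP : wantV ↔ (P ↔ (Even i → Even A)))
    (he0 : e = 0 → P)
    (hcond : (n % c = 0 ∧ ¬ (wantV ↔ (Even i → Even (n / c)))) ∨
      (c ≤ m ∧ m % c ≤ n % c ∧ (m % c = 0 → (want ↔ (Even i → Even (m / c)))) ∧
        (m % c = n % c →
          (want ↔ ((wantV ↔ (Even i → Even (n / c))) ↔ (Even i → Even (m / c))))))) :
    ∃ t m₀ : ℕ, c * t ≤ c * A ∧ m = m₀ + c * t ∧ m₀ ≤ e ∧
      (m₀ = 0 → (want ↔ (Even i → Even t))) ∧
      (m₀ = e → (want ↔ (P ↔ (Even i → Even t)))) := by
  have hkc : n % c < c := Nat.mod_lt _ (by omega)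
  have hlc : m % c < c := Nat.mod_lt _ (by omega)
  have hmdm := Nat.mod_add_div m c
  have hndn := Nat.mod_add_div n c
  have h := arith_suff_aux i c (n / c) (n % c) (m / c) (m % c) e A hc hkc hlc (by omega)
    (by omega) (by omega) wantV want P hP he0 (by
      rcases hcond with h1 | ⟨-, h2⟩
      · left; exact h1
      · right; exact h2)
  rw [hmdm] at h
  exact h

/-- necessity: the conditions read off from a model whose fixed space is small -/
theorem arith_nec (i c n m k N : ℕ) (hkc : k < c) (hn : n = k + c * N)
    (wantV want P : Prop) (hP : wantV ↔ (P ↔ (Even i → Even N)))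
    (h : ∃ t m₀ : ℕ, c * t ≤ c * N ∧ m = m₀ + c * t ∧ m₀ ≤ k ∧
      (m₀ = 0 → (want ↔ (Even i → Even t))) ∧
      (m₀ = k → (want ↔ (P ↔ (Even i → Even t))))) :
    m % c ≤ n % c ∧ (m % c = 0 → (want ↔ (Even i → Even (m / c)))) ∧
      (m % c = n % c →
        (want ↔ ((wantV ↔ (Even i → Even (n / c))) ↔ (Even i → Even (m / c))))) := by
  obtain ⟨t, m₀, -, hm, hm₀, h0, hk⟩ := h
  obtain ⟨e1, e2⟩ := arith_div_mod c m m₀ t hm (by omega)
  obtain ⟨e3, e4⟩ := arith_div_mod c n k N hn hkc
  rw [e1, e2, e3, e4]
  refine ⟨hm₀, h0, ?_⟩
  intro h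
  exact prop_aux2 _ _ _ _ _ (hk h) hP

end Cfsg.Agent.Lib.Helper2.OrthCf
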