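import Mathlib
import Cfsg.Agent.Lib.Helper2.OrthCfH
import Cfsg.Agent.Lib.Helper2.OrthCfI
import Cfsg.Agent.Lib.Helper2.OrthElF

set_option autoImplicit false

/-!
The generic core of the rows on nondegenerate even-dimensional subspaces of a given type in even
dimension, for an odd prime `r ≠ p`, in every characteristic: ambient form of type `wantV`,
subspaces of type `want`.
-/

namespace Cfsg.Agent.Lib.Helper2.OrthCf

open Module QuadraticMap Polynomial
open scoped Matrix
open Cfsg.Agent.Lib.Helper2.MaxTS2 Cfsg.Agent.Lib.Helper2.OrthEl Cfsg.Agent.Lib.Helper2.OrthNd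
open Cfsg.Agent.H9SemiInv
open Cfsg.Agent.Lib.Helper9.H9Elus
open Cfsg.Agent.Lib.Helper5.OrthCls

section abs

variable {F : Type*} [Field F] {V : Type*} [AddCommGroup V] [Module F V]
variable {Q : QuadraticForm F V}

/-- a nondegenerate form on a nonzero space takes a nonzero value -/
theorem exists_Q_ne_zero [Nontrivial V] (hQ : (polarBilin Q).Nondegenerate) : ∃ v, Q v ≠ 0 := by
  by_contra hcon
  push Not at hcon
  obtain ⟨u, hu⟩ := exists_ne (0 : V)
  apply hu
  apply hQ.1
  intro w
  rw [polarBilin_apply_apply]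
  unfold polar
  rw [hcon, hcon, hcon]
  ring

/-- an isometry whose `r`-th power is the scalar `z` (`r` odd): `z * z = 1`, and `z • y` is an
isometry with `r`-th power `1` -/
theorem scalar_normalise [Nontrivial V] (hQ : (polarBilin Q).Nondegenerate) {y : V →ₗ[F] V}
    (hiso : ∀ v, Q (y v) = Q v) (r : ℕ) (hr : Odd r) (z : F) (hy : y ^ r = z • (1 : V →ₗ[F] V)) :
    z * z = 1 ∧ (∀ v, Q ((z • y) v) = Q v) ∧ (z • y) ^ r = 1 := by
  obtain ⟨v, hv⟩ := exists_Q_ne_zero hQ
  have h1 : Q ((y ^ r) v) = Q v := iso_pow hiso r v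
  rw [hy, LinearMap.smul_apply, Module.End.one_apply, QuadraticMap.map_smul, smul_eq_mul] at h1
  have hzz : z * z = 1 := by
    have : (z * z - 1) * Q v = 0 := by linear_combination h1
    rcases mul_eq_zero.1 this with h | h
    · exact sub_eq_zero.1 h
    · exact absurd h hv
  refine ⟨hzz, ?_, ?_⟩
  · intro w
    rw [LinearMap.smul_apply, QuadraticMap.map_smul, smul_eq_mul, hzz, one_mul, hiso]
  · obtain ⟨k, hk⟩ := hr
    rw [_root_.smul_pow, hy, smul_smul]
    have : z ^ r * z = 1 := by
      rw [hk, ← pow_succ, show 2 * k + 1 + 1 = 2 * (k + 1) by ring, pow_mul, pow_two, hzz, one_pow]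
    rw [this, one_smul]

end abs

section std

variable {F : Type*} [Field F] [Fintype F] {p : ℕ} [Fact p.Prime] [CharP F p]
variable {ι : Type} [Fintype ι] [DecidableEq ι]

/-- the generic core for an odd prime `r ≠ p` -/
theorem core_even (Q : QuadraticForm F (ι → F)) (hQ : (polarBilin Q).Nondegenerate)
    (d m : ℕ) (hd : 3 ≤ d) (hcard : Fintype.card ι = 2 * d) (hm0 : 0 < m) (hmev : Even m)
    (hmn : m < 2 * d) (r : ℕ) [Fact r.Prime] (hrp : r ≠ p) (hr2 : r ≠ 2) (wantV want : Prop)
    (hV : IsPlus Q ↔ wantV) (hrΩ : r ∣ Nat.card (TySub Q m want))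
    (i c : ℕ) (hi : i = orderOf ((Fintype.card F : ℕ) : ZMod r))
    (hc : c = if Even i then i else 2 * i) :
    (∀ x : Matrix.GeneralLinearGroup ι F, x ∈ Cfsg.Geo.omegaGL ⇑Q →
      (∃ z : F, ((x ^ r : Matrix.GeneralLinearGroup ι F) : Matrix ι ι F) =
        z • (1 : Matrix ι ι F)) →
      (∀ z : F, (x : Matrix ι ι F) ≠ z • (1 : Matrix ι ι F)) →
      ∃ W : Submodule F (ι → F),
        (finrank F W = m ∧ NDeg Q W ∧ (PlusS Q W ↔ want)) ∧
        W.map (Matrix.toLin' (x : Matrix ι ι F)) ≤ W) ↔
    (((2 * d) % c = 0 ∧ ¬ (wantV ↔ (Even i → Even ((2 * d) / c)))) ∨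
      (c ≤ m ∧ m % c ≤ (2 * d) % c ∧ (m % c = 0 → (want ↔ (Even i → Even (m / c)))) ∧
        (m % c = (2 * d) % c →
          (want ↔ ((wantV ↔ (Even i → Even ((2 * d) / c))) ↔ (Even i → Even (m / c))))))) := by
  classical
  have hr : r.Prime := Fact.out
  have hrodd : Odd r := hr.odd_of_ne_two hr2
  have hn : finrank F (ι → F) = 2 * d := by
    rw [Module.finrank_fintype_fun_eq_card, hcard]
  haveI : Nontrivial (ι → F) := by
    apply Module.nontrivial_of_finrank_pos (R := F)
    rw [hn]
    omega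
  have hi1 : 1 ≤ i := by rw [hi]; exact order_pos (F := F) r hrp
  have hceven : Even c := cc_even hc
  have hc2 : 2 ≤ c := by
    obtain ⟨t, ht⟩ := hceven
    have : 1 ≤ c := by
      rw [hc]
      split_ifs <;> omega
    omega
  have hkc : (2 * d) % c < c := Nat.mod_lt _ (by omega)
  have hVtop : PlusS Q ⊤ ↔ wantV := plusS_top_iff_isPlus.trans hV
  constructor
  · -- necessity
    intro hall
    by_cases hfirst : (2 * d) % c = 0 ∧ ¬ (wantV ↔ (Even i → Even ((2 * d) / c)))
    · left
      exact hfirst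
    right
    have hcompat : (2 * d) % c = 0 → (IsPlus Q ↔ (Even i → Even ((2 * d) / c))) := by
      intro hk0
      rw [hV]
      by_contra hne
      exact hfirst ⟨hk0, hne⟩
    have hdecomp : 2 * d = c * ((2 * d) / c) + (2 * d) % c := (Nat.div_add_mod (2 * d) c).symm
    -- there is at least one block
    have hN1 : 1 ≤ (2 * d) / c := by
      rcases Nat.eq_zero_or_pos ((2 * d) / c) with hN0 | hN0
      · exfalso
        have hnc : 2 * d < c := by
          rcases (Nat.div_eq_zero_iff).1 hN0 with h | h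
          · omega
          · exact h
        have hfix1 : fixS (1 : Module.End F (ι → F)) = ⊤ := by
          ext v
          rw [mem_fixS, Module.End.one_apply]
          exact ⟨fun _ => Submodule.mem_top, fun _ => rfl⟩
        obtain ⟨W, -, hWnd, hWdim, hWt⟩ := exists_ndeg_sub' (Q := Q) (ndeg_top hQ)
          (by rw [finrank_top, hn]; exact even_two_mul d) m hm0 hmev
          (by rw [finrank_top, hn]; exact hmn) want
        exact not_dvd_card_tySub hQ (y := 1) (fun v => rfl) r hrp hr2 (one_pow r) i c hi hc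
          (by rw [hfix1, finrank_top, hn]; exact hnc) m (by omega) hmev want
          ⟨W, fun v hv => hv, hWdim, hWnd, hWt⟩ hrΩ
      · exact hN0
    obtain ⟨x₀, hx₀, hx₀r, hx₀ne, hx₀fix⟩ := exists_omega_fix Q hQ d hd hcard r hrp hr2 i c hi hc
      ((2 * d) / c) ((2 * d) % c) hN1 hdecomp hcompat
    have hiso₀ : ∀ v, Q (Matrix.toLin' (x₀ : Matrix ι ι F) v) = Q v :=
      iso_apply (mem_iso_of_mem_omegaGL hx₀)
    have hy₀ : (Matrix.toLin' (x₀ : Matrix ι ι F)) ^ r = 1 := toLin'_pow_eq_one hx₀r
    -- `x₀` is not a scalar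
    have hns : ∀ z : F, (x₀ : Matrix ι ι F) ≠ z • (1 : Matrix ι ι F) := by
      intro z hz
      have hlin : Matrix.toLin' (x₀ : Matrix ι ι F) = z • (1 : Module.End F (ι → F)) := by
        rw [hz, map_smul, Matrix.toLin'_one]
        rfl
      obtain ⟨v, hv⟩ := exists_Q_ne_zero hQ
      have h1 := hiso₀ v
      rw [hlin, LinearMap.smul_apply, Module.End.one_apply, QuadraticMap.map_smul,
        smul_eq_mul] at h1
      have hzz : z ^ 2 = 1 := by
        have : (z * z - 1) * Q v = 0 := by linear_combination h1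
        rcases mul_eq_zero.1 this with h | h
        · rw [pow_two]
          exact sub_eq_zero.1 h
        · exact absurd h hv
      have hzr : z ^ r = 1 := by
        have h3 := hy₀
        rw [hlin, _root_.smul_pow, one_pow] at h3
        have h4 := congrArg (fun f : Module.End F (ι → F) => Q (f v)) h3
        simp only [LinearMap.smul_apply, Module.End.one_apply] at h4
        have h5 : (z ^ r • (1 : Module.End F (ι → F))) v = v := by
          rw [h3, Module.End.one_apply]
        rw [LinearMap.smul_apply, Module.End.one_apply] at h5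
        have hv0 : v ≠ 0 := by
          rintro rfl
          exact hv (map_zero _)
        have h6 : (z ^ r - 1) • v = 0 := by rw [sub_smul, h5, one_smul, sub_self]
        rcases smul_eq_zero.1 h6 with h7 | h7
        · exact sub_eq_zero.1 h7
        · exact absurd h7 hv0
      have hcop : Nat.gcd 2 r = 1 := by
        have h5 : Nat.Coprime r 2 := by
          rw [Nat.Prime.coprime_iff_not_dvd hr]
          intro h6
          exact hr2 ((Nat.prime_dvd_prime_iff_eq hr Nat.prime_two).1 h6)
        exact h5.symm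
      have h9 := pow_gcd_eq_one.2 ⟨hzz, hzr⟩
      rw [hcop, pow_one] at h9
      apply hx₀ne
      apply Units.ext
      rw [hz, h9, one_smul, Units.val_one]
    obtain ⟨W, ⟨hWdim, hWnd, hWt⟩, hWmap⟩ := hall x₀ hx₀
      ⟨1, by rw [hx₀r, Units.val_one, one_smul]⟩ hns
    have hWinv : Inv (Matrix.toLin' (x₀ : Matrix ι ι F)) W := (inv_iff _ _).2 hWmap
    -- dimensions of the fixed space and of the cyclotomic kernel
    have hcomp := isCompl_ker r hrp (Matrix.toLin' (x₀ : Matrix ι ι F)) hy₀
    have hsum : finrank F (fixS (Matrix.toLin' (x₀ : Matrix ι ι F))) +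
        finrank F (cycS (Matrix.toLin' (x₀ : Matrix ι ι F)) r) = 2 * d := by
      rw [← hn]
      exact Submodule.finrank_add_eq_of_isCompl hcomp
    have hA : finrank F (cycS (Matrix.toLin' (x₀ : Matrix ι ι F)) r) = c * ((2 * d) / c) := by
      omega
    obtain ⟨-, hP⟩ := plusS_top_iff hQ hiso₀ r hrp hr2 hy₀ i c hi hc
      (by rw [hn]; exact even_two_mul d) ((2 * d) / c) hA
    rw [hVtop] at hP
    obtain ⟨t, m₀, g1, g2, g3, g4, g5⟩ := fix_nec hQ hiso₀ r hrp hr2 hy₀ i c hi hc W hWinv hWnd
      (by rw [hWdim]; exact hmev) want hWt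
    rw [hx₀fix] at g3 g5
    rw [hA] at g1
    rw [hWdim] at g2
    obtain ⟨n1, n2, n3⟩ := arith_nec i c (2 * d) m ((2 * d) % c) ((2 * d) / c) hkc
      (by omega) wantV want _ hP ⟨t, m₀, g1, g2, g3, g4, g5⟩
    refine ⟨?_, n1, n2, n3⟩
    by_contra hlt
    exact not_dvd_card_tySub hQ hiso₀ r hrp hr2 hy₀ i c hi hc (by rw [hx₀fix]; exact hkc) m
      (by omega) hmev want ⟨W, hWinv, hWdim, hWnd, hWt⟩ hrΩ
  · -- sufficiency
    intro hcond x hx hxr _
    obtain ⟨z, hz⟩ := hxr
    have hiso₀ : ∀ v, Q (Matrix.toLin' (x : Matrix ι ι F) v) = Q v :=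
      iso_apply (mem_iso_of_mem_omegaGL hx)
    have hpow : (Matrix.toLin' (x : Matrix ι ι F)) ^ r = z • (1 : Module.End F (ι → F)) := by
      rw [← Matrix.toLin'_pow, ← Units.val_pow_eq_pow_val, hz, map_smul, Matrix.toLin'_one]
      rfl
    obtain ⟨hzz, hiso, hy⟩ := scalar_normalise hQ hiso₀ r hrodd z hpow
    set y : Module.End F (ι → F) := z • Matrix.toLin' (x : Matrix ι ι F) with hy_def
    have hcomp := isCompl_ker r hrp y hy
    have hsum : finrank F (fixS y) + finrank F (cycS y r) = 2 * d := by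
      rw [← hn]
      exact Submodule.finrank_add_eq_of_isCompl hcomp
    obtain ⟨A, hA⟩ := cc_dvd_finrank' hQ hiso r hrp hr2 hy i c hi hc (cycS y r) le_rfl
      (inv_ker_aeval y _) (ndeg_cycS hQ hiso r hrp hy)
    obtain ⟨hfev, hP⟩ := plusS_top_iff hQ hiso r hrp hr2 hy i c hi hc
      (by rw [hn]; exact even_two_mul d) A hA
    rw [hVtop] at hP
    have he0 : finrank F (fixS y) = 0 → PlusS Q (fixS y) := by
      intro h0
      rw [Submodule.finrank_eq_zero.1 h0]
      exact plusS_bot
    obtain ⟨t, m₀, g1, g2, g3, g4, g5⟩ := arith_suff i c (2 * d) m (finrank F (fixS y)) A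
      (by omega) (by omega) hm0 hmn wantV want _ hP he0 hcond
    have hm₀ev : Even m₀ := by
      have hct : Even (c * t) := hceven.mul_right t
      rcases Nat.even_or_odd m₀ with h | h
      · exact h
      · exfalso
        have := h.add_even hct
        rw [← g2] at this
        exact (Nat.not_even_iff_odd.2 this) hmev
    obtain ⟨W, hWinv, hWnd, hWdim, hWt⟩ := fix_suff hQ hiso r hrp hr2 hy i c hi hc hfev m t m₀
      (by rw [hA]; exact g1) g2 g3 hm₀ev want g4 g5
    refine ⟨W, ⟨hWdim, hWnd, hWt⟩, (inv_iff _ _).1 ?_⟩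
    intro v hv
    have h1 : Matrix.toLin' (x : Matrix ι ι F) v = z • y v := by
      rw [hy_def, LinearMap.smul_apply, smul_smul, hzz, one_smul]
    rw [h1]
    exact W.smul_mem z (hWinv v hv)

end std

end Cfsg.Agent.Lib.Helper2.OrthCf
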