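import Mathlib

set_option autoImplicit false

/-!
The arithmetic evaluation of the generic core for S5974 (ambient plus type, subspaces of plus type).
-/

namespace Cfsg.Agent.Lib.Helper2.OrthCf

theorem arith_sum_div (i d m N k M : ℕ) (hi : 1 ≤ i) (hn : 2 * d = k + i * N) (hm : m = k + i * M) :
    (2 * d + m - 2 * k) / i = N + M := by
  have : 2 * d + m - 2 * k = i * (N + M) := by
    rw [hn, hm, mul_add]
    omega
  rw [this, Nat.mul_div_cancel_left _ (by omega)]

theorem arith_S5974_even (i d m : ℕ) (hi1 : 1 ≤ i) (hev : Even i) (hm0 : 0 < m) :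
    (((2 * d) % i = 0 ∧ ¬ (True ↔ (Even i → Even ((2 * d) / i)))) ∨
      (i ≤ m ∧ m % i ≤ (2 * d) % i ∧ (m % i = 0 → (True ↔ (Even i → Even (m / i)))) ∧
        (m % i = (2 * d) % i →
          (True ↔ ((True ↔ (Even i → Even ((2 * d) / i))) ↔ (Even i → Even (m / i))))))) ↔
    (((2 * d) % i = 0 ∧ (Odd ((2 * d) / i) ∨ (m % i = 0 ∧ Even (m / i)))) ∨
      (i ≤ m ∧ ((m % i < (2 * d) % i ∧ 0 < m % i) ∨
        ((2 * d) % i = m % i ∧ 0 < m % i ∧ Even ((2 * d + m - 2 * ((2 * d) % i)) / i)) ∨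
        (0 < (2 * d) % i ∧ m % i = 0 ∧ Even (m / i))))) := by
  have hmdm := Nat.mod_add_div m i
  have hndn := Nat.mod_add_div (2 * d) i
  have hτ : ∀ t : ℕ, (Even i → Even t) ↔ Even t := fun t => ⟨fun h => h hev, fun h _ => h⟩
  simp only [hτ, true_iff]
  have hkey : m % i = (2 * d) % i →
      (2 * d + m - 2 * ((2 * d) % i)) / i = (2 * d) / i + m / i := by
    intro h
    exact arith_sum_div i d m _ _ _ hi1 hndn.symm (by rw [← h]; exact hmdm.symm)
  constructor
  · rintro (⟨hk0, hN⟩ | ⟨him, hlk, h0, hk⟩)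
    · left
      exact ⟨hk0, Or.inl (Nat.not_even_iff_odd.1 hN)⟩
    · rcases Nat.eq_zero_or_pos (m % i) with hl0 | hlpos
      · rcases Nat.eq_zero_or_pos ((2 * d) % i) with hk0 | hkpos
        · left
          exact ⟨hk0, Or.inr ⟨hl0, h0 hl0⟩⟩
        · right
          exact ⟨him, Or.inr (Or.inr ⟨hkpos, hl0, h0 hl0⟩)⟩
      · right
        refine ⟨him, ?_⟩
        rcases Nat.lt_or_ge (m % i) ((2 * d) % i) with hlt | hge
        · left
          exact ⟨hlt, hlpos⟩
        · right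
          left
          have heq : m % i = (2 * d) % i := le_antisymm hlk hge
          refine ⟨heq.symm, hlpos, ?_⟩
          rw [hkey heq, Nat.even_add]
          exact hk heq
  · rintro (⟨hk0, hN | ⟨hl0, hM⟩⟩ | ⟨him, ⟨hlt, hlpos⟩ | ⟨heq, hlpos, hE⟩ | ⟨hkpos, hl0, hM⟩⟩)
    · left
      exact ⟨hk0, Nat.not_even_iff_odd.2 hN⟩
    · by_cases hN : Even ((2 * d) / i)
      · right
        refine ⟨?_, by omega, fun _ => hM, fun _ => ⟨fun _ => hM, fun _ => hN⟩⟩
        rcases Nat.eq_zero_or_pos (m / i) with h | h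
        · rw [h, hl0] at hmdm
          omega
        · have : i ≤ i * (m / i) := Nat.le_mul_of_pos_right i h
          omega
      · left
        exact ⟨hk0, hN⟩
    · right
      exact ⟨him, hlt.le, fun h => by omega, fun h => by omega⟩
    · right
      refine ⟨him, by omega, fun h => by omega, fun h => ?_⟩
      rw [hkey heq.symm, Nat.even_add] at hE
      exact hE
    · right
      exact ⟨him, by omega, fun _ => hM, fun h => by omega⟩

theorem arith_S5974 (i c d m : ℕ) (hi1 : 1 ≤ i) (hc : c = if Even i then i else 2 * i)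
    (hm0 : 0 < m) :
    (((2 * d) % c = 0 ∧ ¬ (True ↔ (Even i → Even ((2 * d) / c)))) ∨
      (c ≤ m ∧ m % c ≤ (2 * d) % c ∧ (m % c = 0 → (True ↔ (Even i → Even (m / c)))) ∧
        (m % c = (2 * d) % c →
          (True ↔ ((True ↔ (Even i → Even ((2 * d) / c))) ↔ (Even i → Even (m / c))))))) ↔
    ((Odd i ∧ c ≤ m ∧ m % c ≤ (2 * d) % c) ∨
     (Even i ∧
       (((2 * d) % c = 0 ∧ (Odd ((2 * d) / i) ∨ (m % c = 0 ∧ Even (m / i)))) ∨
        (i ≤ m ∧ ((m % c < (2 * d) % c ∧ 0 < m % c) ∨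
                  ((2 * d) % c = m % c ∧ 0 < m % c ∧
                    Even ((2 * d + m - 2 * ((2 * d) % c)) / i)) ∨
                  (0 < (2 * d) % c ∧ m % c = 0 ∧ Even (m / i))))))) := by
  by_cases hev : Even i
  · have hci : c = i := by rw [hc, if_pos hev]
    subst hci
    rw [arith_S5974_even c d m hi1 hev hm0]
    constructor
    · intro h
      right
      exact ⟨hev, h⟩
    · rintro (⟨hodd, -⟩ | ⟨-, h⟩)
      · exact absurd hev (Nat.not_even_iff_odd.2 hodd)
      · exact h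
  · have hodd : Odd i := Nat.not_even_iff_odd.1 hev
    have hτ : ∀ t : ℕ, (Even i → Even t) ↔ True :=
      fun t => ⟨fun _ => trivial, fun _ h => absurd h hev⟩
    simp only [hτ]
    constructor
    · rintro (⟨-, h⟩ | ⟨h1, h2, -, -⟩)
      · exact absurd (by simp) h
      · left
        exact ⟨hodd, h1, h2⟩
    · rintro (⟨-, h1, h2⟩ | ⟨h, -⟩)
      · right
        exact ⟨h1, h2, fun _ => by simp, fun _ => by simp⟩
      · exact absurd h hev

end Cfsg.Agent.Lib.Helper2.OrthCf
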