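import Mathlib
import Cfsg.Agent.Lib.Helper2.Spinor6

set_option autoImplicit false

/-!
# `Phi` on diagonal forms: coordinate swaps, sign changes, products of reflections

Tools for the `S4629`–`S4631` swarm (package `PK-PHI`).  `Q` is any quadratic form on `ι → F`
with `Q v = ∑ i, c i * (v i * v i)`.
-/

namespace Cfsg.Agent.Lib.Helper2

namespace PhiDiag

open Matrix Cfsg.Agent.Lib.Helper2.ReflGen Cfsg.Agent.Lib.Helper2.CDG Cfsg.Agent.Lib.Helper2.Spinor

variable {F : Type*} [Field F] [Fintype F] [DecidableEq F] {ι : Type} [Fintype ι] [DecidableEq ι]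
variable {Q : QuadraticForm F (ι → F)}

omit [Fintype F] [DecidableEq F] in
/-- the second component of `Phi` on a reflection only depends on the square class -/
theorem class_iff {a b : F} (ha : a ≠ 0) (h : ∃ t : F, a = t * t * b) :
    (∃ t : F, t * t * a = 1) ↔ (∃ t : F, t * t * b = 1) := by
  obtain ⟨s, hs⟩ := h
  have hs0 : s ≠ 0 := by
    rintro rfl
    rw [zero_mul, zero_mul] at hs
    exact ha hs
  constructor
  · rintro ⟨t, ht⟩
    exact ⟨t * s, by rw [← ht, hs]; ring⟩
  · rintro ⟨t, ht⟩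
    refine ⟨t * s⁻¹, ?_⟩
    rw [hs]
    have : t * s⁻¹ * (t * s⁻¹) * (s * s * b) = (t * t * b) * (s * s⁻¹) * (s * s⁻¹) := by ring
    rw [this, ht, mul_inv_cancel₀ hs0, mul_one, mul_one]

/-- reflections in vectors of the same square class have the same `Phi` -/
theorem Phi_refl_eq_of_class (h2 : (2 : F) ≠ 0) (u v : ι → F) (hu : Q u ≠ 0) (hv : Q v ≠ 0)
    (h : ∃ t : F, Q u = t * t * Q v) : Phi Q (refl Q u hu) = Phi Q (refl Q v hv) := by
  rw [Phi_refl h2, Phi_refl h2]
  have := class_iff hu h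
  by_cases h1 : ∃ t : F, t * t * Q u = 1
  · rw [if_pos h1, if_pos (this.1 h1)]
  · rw [if_neg h1, if_neg (fun h' => h1 (this.2 h'))]

theorem Phi_mul_self (g : ↥(Cfsg.isometryGroup F ⇑Q)) (hg : g * g = 1) : Phi Q g * Phi Q g = 1 := by
  rw [← map_mul, hg, map_one]

/-- the product of two reflections in vectors of the same square class lies in the kernel of
`Phi` -/
theorem Phi_refl_mul_refl (h2 : (2 : F) ≠ 0) (u v : ι → F) (hu : Q u ≠ 0) (hv : Q v ≠ 0)
    (h : ∃ t : F, Q u = t * t * Q v) : Phi Q (refl Q u hu * refl Q v hv) = 1 := by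
  rw [map_mul, Phi_refl_eq_of_class h2 u v hu hv h]
  exact Phi_mul_self _ (refl_mul_self v hv)

/-- the product of two reflections in vectors of the same square class lies in `Ω` -/
theorem refl_mul_refl_mem_commutator (h2 : (2 : F) ≠ 0)
    (hQ : (QuadraticMap.polarBilin Q).Nondegenerate) (hn : 2 ≤ Fintype.card ι)
    (u v : ι → F) (hu : Q u ≠ 0) (hv : Q v ≠ 0)
    (h : ∃ t : F, Q u = t * t * Q v) :
    refl Q u hu * refl Q v hv ∈ commutator ↥(Cfsg.isometryGroup F ⇑Q) := by
  rw [mem_commutator_iff h2 hQ hn]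
  exact Phi_refl_mul_refl h2 u v hu hv h

omit [Fintype F] [DecidableEq F] [Fintype ι] [DecidableEq ι] in
/-- a homomorphism from a finite symmetric group that kills all transpositions is trivial -/
theorem hom_perm_eq_one {κ : Type*} [DecidableEq κ] [Finite κ] {A : Type*} [Group A]
    (φ : Equiv.Perm κ →* A) (h : ∀ i j : κ, i ≠ j → φ (Equiv.swap i j) = 1)
    (t : Equiv.Perm κ) : φ t = 1 := by
  have hle : (⊤ : Subgroup (Equiv.Perm κ)) ≤ φ.ker := by
    rw [← Equiv.Perm.closure_isSwap, Subgroup.closure_le]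
    rintro σ ⟨i, j, hij, rfl⟩
    exact h i j hij
  exact hle (Subgroup.mem_top t)

section Diag

variable {c : ι → F} (hQ : ∀ v : ι → F, Q v = ∑ i, c i * (v i * v i))
include hQ

omit [Fintype F] [DecidableEq F] [DecidableEq ι] in
theorem polar_diag (u x : ι → F) :
    QuadraticMap.polar (⇑Q) u x = 2 * ∑ i, c i * (u i * x i) := by
  unfold QuadraticMap.polar
  rw [hQ, hQ, hQ, ← Finset.sum_sub_distrib, ← Finset.sum_sub_distrib, Finset.mul_sum]
  apply Finset.sum_congr rfl
  intro i _
  simp only [Pi.add_apply]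
  ring

omit [Fintype F] [DecidableEq F] in
theorem Q_single (l : ι) (t : F) : Q (Pi.single l t) = c l * (t * t) := by
  rw [hQ, Finset.sum_eq_single l]
  · rw [Pi.single_eq_same]
  · intro i _ hi
    rw [Pi.single_eq_of_ne hi, mul_zero, mul_zero]
  · intro h
    exact absurd (Finset.mem_univ l) h

omit [Fintype F] [DecidableEq F] hQ in
theorem sum_single_mul (l : ι) (t : F) (x : ι → F) :
    ∑ i, c i * ((Pi.single l t : ι → F) i * x i) = c l * (t * x l) := by
  rw [Finset.sum_eq_single l]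
  · rw [Pi.single_eq_same]
  · intro i _ hi
    rw [Pi.single_eq_of_ne hi, zero_mul, mul_zero]
  · intro h
    exact absurd (Finset.mem_univ l) h

omit [Fintype F] [DecidableEq F] in
theorem Q_single_sub_single {a b : ι} (hab : a ≠ b) :
    Q (Pi.single a 1 - Pi.single b 1) = c a + c b := by
  have h1 : Q (Pi.single a (1 : F) - Pi.single b (1 : F)) =
      Q (Pi.single a (1 : F)) + Q (Pi.single b (1 : F)) -
        QuadraticMap.polar (⇑Q) (Pi.single a (1 : F)) (Pi.single b (1 : F)) := by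
    have h3 : (Pi.single a (1 : F) - Pi.single b (1 : F) : ι → F) =
        Pi.single a (1 : F) + (-1 : F) • Pi.single b (1 : F) := by
      rw [neg_one_smul, sub_eq_add_neg]
    have h4 := QuadraticMap.polar_smul_right Q (-1 : F) (Pi.single a (1 : F) : ι → F)
      (Pi.single b (1 : F) : ι → F)
    have h5 : Q ((-1 : F) • Pi.single b (1 : F)) = Q (Pi.single b (1 : F)) := by
      rw [QuadraticMap.map_smul]
      simp
    unfold QuadraticMap.polar at h4 ⊢
    rw [h3]
    rw [h5] at h4
    rw [smul_eq_mul] at h4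
    linear_combination h4
  rw [h1, polar_diag hQ, sum_single_mul, Q_single hQ, Q_single hQ, Pi.single_eq_of_ne hab]
  ring

end Diag

section Diag2

variable {c : ι → F} (hQ : ∀ v : ι → F, Q v = ∑ i, c i * (v i * v i))
include hQ

omit [Fintype F] [DecidableEq F] in
theorem Q_swap_ne {a b : ι} (hab : a ≠ b) (h2 : (2 : F) ≠ 0) (hc : c a = c b) (hca : c a ≠ 0) :
    Q (Pi.single a 1 - Pi.single b 1) ≠ 0 := by
  rw [Q_single_sub_single hQ hab, ← hc, ← two_mul]
  exact mul_ne_zero h2 hca

omit [Fintype F] [DecidableEq F] in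
/-- for a diagonal form, the reflection in `e_a - e_b` (where `c a = c b`) swaps the
coordinates `a` and `b` -/
theorem refl_swap_mulVec (h2 : (2 : F) ≠ 0) {a b : ι} (hab : a ≠ b) (hc : c a = c b)
    (hca : c a ≠ 0) (x : ι → F) :
    ((refl Q (Pi.single a 1 - Pi.single b 1) (Q_swap_ne hQ hab h2 hc hca) :
      Matrix.GeneralLinearGroup ι F) : Matrix ι ι F) *ᵥ x = fun i => x (Equiv.swap a b i) := by
  rw [refl_mulVec, polar_diag hQ, Q_single_sub_single hQ hab]
  have hsum : ∑ i, c i * ((Pi.single a (1 : F) - Pi.single b (1 : F) : ι → F) i * x i) =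
      c a * (x a - x b) := by
    have : ∀ i, c i * ((Pi.single a (1 : F) - Pi.single b (1 : F) : ι → F) i * x i) =
        c i * ((Pi.single a (1 : F) : ι → F) i * x i) -
          c i * ((Pi.single b (1 : F) : ι → F) i * x i) := by
      intro i
      rw [Pi.sub_apply]
      ring
    rw [Finset.sum_congr rfl (fun i _ => this i), Finset.sum_sub_distrib, sum_single_mul,
      sum_single_mul, ← hc]
    ring
  rw [hsum, ← hc]
  have hcoef : (c a + c a)⁻¹ * (2 * (c a * (x a - x b))) = x a - x b := by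
    have h2c : (2 : F) * c a ≠ 0 := mul_ne_zero h2 hca
    have e : (c a + c a)⁻¹ * (2 * (c a * (x a - x b))) =
        ((2 * c a)⁻¹ * (2 * c a)) * (x a - x b) := by
      rw [← two_mul]
      ring
    rw [e, inv_mul_cancel₀ h2c, one_mul]
  rw [hcoef]
  funext i
  rw [Pi.sub_apply, Pi.smul_apply, Pi.sub_apply, smul_eq_mul]
  by_cases hia : i = a
  · subst hia
    rw [Pi.single_eq_same, Pi.single_eq_of_ne hab, Equiv.swap_apply_left]
    ring
  · by_cases hib : i = b
    · subst hib
      rw [Pi.single_eq_same, Pi.single_eq_of_ne hia, Equiv.swap_apply_right]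
      ring
    · rw [Pi.single_eq_of_ne hia, Pi.single_eq_of_ne hib, Equiv.swap_apply_of_ne_of_ne hia hib]
      ring

omit [Fintype F] [DecidableEq F] in
theorem Q_single_ne {l : ι} (hcl : c l ≠ 0) : Q (Pi.single l 1) ≠ 0 := by
  rw [Q_single hQ, mul_one, mul_one]
  exact hcl

omit [Fintype F] [DecidableEq F] in
/-- for a diagonal form, the reflection in `e_l` changes the sign of the coordinate `l` -/
theorem refl_single_mulVec {l : ι} (hcl : c l ≠ 0) (x : ι → F) :
    ((refl Q (Pi.single l 1) (Q_single_ne hQ hcl) :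
      Matrix.GeneralLinearGroup ι F) : Matrix ι ι F) *ᵥ x = Function.update x l (- x l) := by
  rw [refl_mulVec, polar_diag hQ, Q_single hQ, sum_single_mul]
  have hcoef : (c l * (1 * 1))⁻¹ * (2 * (c l * (1 * x l))) = 2 * x l := by
    field_simp
  rw [hcoef]
  funext i
  rw [Pi.sub_apply, Pi.smul_apply, smul_eq_mul]
  by_cases hil : i = l
  · subst hil
    rw [Pi.single_eq_same, Function.update_self]
    ring
  · rw [Pi.single_eq_of_ne hil, Function.update_of_ne hil]
    ring

/-- `Phi` of a coordinate swap -/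
theorem Phi_of_swap (h2 : (2 : F) ≠ 0) {a b : ι} (hab : a ≠ b) (hc : c a = c b)
    (hca : c a ≠ 0) (g : ↥(Cfsg.isometryGroup F ⇑Q))
    (hg : ∀ x : ι → F, ((g : Matrix.GeneralLinearGroup ι F) : Matrix ι ι F) *ᵥ x =
      fun i => x (Equiv.swap a b i)) :
    Phi Q g = (-1, if ∃ t : F, t * t * (2 * c a) = 1 then -1 else 1) := by
  have hge : g = refl Q (Pi.single a 1 - Pi.single b 1) (Q_swap_ne hQ hab h2 hc hca) := by
    apply iso_ext
    intro x
    rw [hg, refl_swap_mulVec hQ h2 hab hc hca]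
  rw [hge, Phi_refl h2, Q_single_sub_single hQ hab, ← hc, ← two_mul]

/-- `Phi` of a coordinate sign change -/
theorem Phi_of_neg (h2 : (2 : F) ≠ 0) {l : ι} (hcl : c l ≠ 0) (g : ↥(Cfsg.isometryGroup F ⇑Q))
    (hg : ∀ x : ι → F, ((g : Matrix.GeneralLinearGroup ι F) : Matrix ι ι F) *ᵥ x =
      Function.update x l (- x l)) :
    Phi Q g = (-1, if ∃ t : F, t * t * c l = 1 then -1 else 1) := by
  have hge : g = refl Q (Pi.single l 1) (Q_single_ne hQ hcl) := by
    apply iso_ext
    intro x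
    rw [hg, refl_single_mulVec hQ hcl]
  rw [hge, Phi_refl h2, Q_single hQ, mul_one, mul_one]

/-- a product of two coordinate swaps with coefficients in the same square class lies in the
kernel of `Phi` -/
theorem Phi_of_swap_swap (h2 : (2 : F) ≠ 0) {a b a' b' : ι} (hab : a ≠ b) (hc : c a = c b)
    (hca : c a ≠ 0) (hab' : a' ≠ b') (hc' : c a' = c b') (hca' : c a' ≠ 0)
    (hcl : ∃ t : F, c a' = t * t * c a)
    (g : ↥(Cfsg.isometryGroup F ⇑Q))
    (hg : ∀ x : ι → F, ((g : Matrix.GeneralLinearGroup ι F) : Matrix ι ι F) *ᵥ x =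
      fun i => x (Equiv.swap a b (Equiv.swap a' b' i))) :
    Phi Q g = 1 := by
  have hge : g = refl Q (Pi.single a' 1 - Pi.single b' 1) (Q_swap_ne hQ hab' h2 hc' hca') *
      refl Q (Pi.single a 1 - Pi.single b 1) (Q_swap_ne hQ hab h2 hc hca) := by
    apply iso_ext
    intro x
    rw [hg, mul_mulVec, refl_swap_mulVec hQ h2 hab hc hca, refl_swap_mulVec hQ h2 hab' hc' hca']
  rw [hge]
  apply Phi_refl_mul_refl h2
  rw [Q_single_sub_single hQ hab', Q_single_sub_single hQ hab, ← hc, ← hc']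
  obtain ⟨t, ht⟩ := hcl
  exact ⟨t, by rw [ht]; ring⟩

/-- block permutations (permuting planes spanned by the coordinates `p i`, `q i`) lie in the
kernel of `Phi` -/
theorem Phi_block_perm (h2 : (2 : F) ≠ 0) {κ : Type*} [DecidableEq κ] [Finite κ]
    (p q : κ → ι) (hp : Function.Injective p) (hq : Function.Injective q)
    (hcp : ∀ i j, c (p i) = c (p j)) (hcq : ∀ i j, c (q i) = c (q j))
    (hne : ∀ i, c (p i) ≠ 0) (hne' : ∀ i, c (q i) ≠ 0)
    (hcl : ∀ i, ∃ t : F, c (q i) = t * t * c (p i))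
    (φ : Equiv.Perm κ →* ↥(Cfsg.isometryGroup F ⇑Q))
    (hφ : ∀ i j : κ, i ≠ j → ∀ x : ι → F,
      ((φ (Equiv.swap i j) : Matrix.GeneralLinearGroup ι F) : Matrix ι ι F) *ᵥ x =
        fun l => x (Equiv.swap (p i) (p j) (Equiv.swap (q i) (q j) l)))
    (t : Equiv.Perm κ) : Phi Q (φ t) = 1 := by
  have := hom_perm_eq_one ((Phi Q).comp φ) (fun i j hij => by
    rw [MonoidHom.comp_apply]
    exact Phi_of_swap_swap hQ h2 (fun h => hij (hp h)) (hcp i j) (hne i)
      (fun h => hij (hq h)) (hcq i j) (hne' i) (hcl i) _ (hφ i j hij)) t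
  rwa [MonoidHom.comp_apply] at this

end Diag2

end PhiDiag

end Cfsg.Agent.Lib.Helper2
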