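import Mathlib
import Cfsg.Agent.Lib.Helper2.PhiDiag

set_option autoImplicit false

/-!
# `Phi` on elements acting on a coordinate plane of a diagonal form

For a diagonal form `Q v = ∑ i, c i * (v i * v i)` and two coordinates `a ≠ b` with
`c a = c b`, we compute `Phi` on plane reflections and plane rotations.
-/

namespace Cfsg.Agent.Lib.Helper2

namespace PhiDiag

open Matrix Cfsg.Agent.Lib.Helper2.ReflGen Cfsg.Agent.Lib.Helper2.CDG Cfsg.Agent.Lib.Helper2.Spinor

variable {F : Type*} [Field F] [Fintype F] [DecidableEq F] {ι : Type} [Fintype ι] [DecidableEq ι]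
variable {Q : QuadraticForm F (ι → F)}

/-- the sign attached to a square class: `-1` on nonzero squares and `1` otherwise -/
noncomputable def cls (d : F) : ℤˣ := if ∃ t : F, t * t * d = 1 then -1 else 1

theorem Phi_refl' (h2 : (2 : F) ≠ 0) (v : ι → F) (hv : Q v ≠ 0) :
    Phi Q (refl Q v hv) = (-1, cls (Q v)) := Phi_refl h2 v hv

omit [Fintype F] [DecidableEq F] in
theorem exists_iff (d : F) : (∃ t : F, t * t * d = 1) ↔ d ≠ 0 ∧ IsSquare d := by
  constructor
  · rintro ⟨t, ht⟩
    have ht0 : t ≠ 0 := by
      rintro rfl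
      rw [zero_mul, zero_mul] at ht
      exact zero_ne_one ht
    have hd0 : d ≠ 0 := by
      rintro rfl
      rw [mul_zero] at ht
      exact zero_ne_one ht
    refine ⟨hd0, t⁻¹, ?_⟩
    have : d = (t * t)⁻¹ := eq_inv_of_mul_eq_one_right ht
    rw [this, mul_inv]
  · rintro ⟨hd0, s, rfl⟩
    have hs0 : s ≠ 0 := by
      rintro rfl
      exact hd0 (mul_zero 0)
    refine ⟨s⁻¹, ?_⟩
    have : s⁻¹ * s⁻¹ * (s * s) = (s⁻¹ * s) * (s⁻¹ * s) := by ring
    rw [this, inv_mul_cancel₀ hs0, one_mul]

theorem cls_eq_neg_one_iff (d : F) : cls d = -1 ↔ d ≠ 0 ∧ IsSquare d := by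
  unfold cls
  rw [← exists_iff]
  constructor
  · intro h
    by_contra h'
    rw [if_neg h'] at h
    exact absurd h (by decide)
  · intro h
    rw [if_pos h]

theorem cls_eq_one_iff (d : F) : cls d = 1 ↔ ¬ (d ≠ 0 ∧ IsSquare d) := by
  rw [← cls_eq_neg_one_iff]
  unfold cls
  split_ifs with h
  · simp
  · simp

theorem cls_of_class {d d' : F} (hd : d ≠ 0) (h : ∃ t : F, d = t * t * d') : cls d = cls d' := by
  unfold cls
  have := class_iff hd h
  by_cases h1 : ∃ t : F, t * t * d = 1
  · rw [if_pos h1, if_pos (this.1 h1)]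
  · rw [if_neg h1, if_neg (fun h' => h1 (this.2 h'))]

theorem isSquare_mul_iff (h2 : (2 : F) ≠ 0) {d d' : F} (hd : d ≠ 0) (hd' : d' ≠ 0) :
    IsSquare (d * d') ↔ (IsSquare d ↔ IsSquare d') := by
  have hF : ringChar F ≠ 2 := by
    intro h
    apply h2
    have := CharP.cast_eq_zero F (ringChar F)
    rw [h] at this
    exact_mod_cast this
  rw [← quadraticChar_one_iff_isSquare (mul_ne_zero hd hd'), ← quadraticChar_one_iff_isSquare hd,
    ← quadraticChar_one_iff_isSquare hd', map_mul]
  rcases quadraticChar_dichotomy hd with h | h <;> rcases quadraticChar_dichotomy hd' with h' | h'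
  · rw [h, h']; decide
  · rw [h, h']; decide
  · rw [h, h']; decide
  · rw [h, h']; decide

/-- product of the signs of two nonzero elements -/
theorem cls_mul_cls (h2 : (2 : F) ≠ 0) {d d' : F} (hd : d ≠ 0) (hd' : d' ≠ 0) :
    cls d * cls d' = if IsSquare (d * d') then 1 else -1 := by
  have key := isSquare_mul_iff h2 hd hd'
  by_cases h1 : IsSquare d
  · have e1 : cls d = -1 := (cls_eq_neg_one_iff d).2 ⟨hd, h1⟩
    by_cases h3 : IsSquare d'
    · have e2 : cls d' = -1 := (cls_eq_neg_one_iff d').2 ⟨hd', h3⟩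
      rw [e1, e2, if_pos (key.2 ⟨fun _ => h3, fun _ => h1⟩)]
      decide
    · have e2 : cls d' = 1 := (cls_eq_one_iff d').2 (fun h => h3 h.2)
      rw [e1, e2, if_neg (fun h => h3 ((key.1 h).1 h1))]
      decide
  · have e1 : cls d = 1 := (cls_eq_one_iff d).2 (fun h => h1 h.2)
    by_cases h3 : IsSquare d'
    · have e2 : cls d' = -1 := (cls_eq_neg_one_iff d').2 ⟨hd', h3⟩
      rw [e1, e2, if_neg (fun h => h1 ((key.1 h).2 h3))]
      decide
    · have e2 : cls d' = 1 := (cls_eq_one_iff d').2 (fun h => h3 h.2)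
      rw [e1, e2, if_pos (key.2 ⟨fun h => absurd h h1, fun h => absurd h h3⟩)]
      decide

theorem isSquare_mul_sq (h2 : (2 : F) ≠ 0) {d k : F} (hd : d ≠ 0) (hk : k ≠ 0) :
    IsSquare (k * d * k) ↔ IsSquare d := by
  have e : k * d * k = d * (k * k) := by ring
  rw [e, isSquare_mul_iff h2 hd (mul_ne_zero hk hk)]
  constructor
  · intro h
    exact h.2 ⟨k, rfl⟩
  · intro h
    exact ⟨fun _ => ⟨k, rfl⟩, fun _ => h⟩

section Plane

variable {c : ι → F} (hQ : ∀ v : ι → F, Q v = ∑ i, c i * (v i * v i))
include hQ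

omit [Fintype F] [DecidableEq F] hQ in
theorem sum_plane_mul {a b : ι} (hab : a ≠ b) (α β : F) (x : ι → F) :
    ∑ i, c i * ((Pi.single a α + Pi.single b β : ι → F) i * x i) =
      c a * (α * x a) + c b * (β * x b) := by
  rw [Fintype.sum_eq_add a b hab]
  · rw [Pi.add_apply, Pi.add_apply, Pi.single_eq_same, Pi.single_eq_same,
      Pi.single_eq_of_ne hab, Pi.single_eq_of_ne hab.symm, add_zero, zero_add]
  · rintro i ⟨hia, hib⟩
    rw [Pi.add_apply, Pi.single_eq_of_ne hia, Pi.single_eq_of_ne hib, add_zero, zero_mul,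
      mul_zero]

omit [Fintype F] [DecidableEq F] in
theorem Q_plane {a b : ι} (hab : a ≠ b) (α β : F) :
    Q (Pi.single a α + Pi.single b β) = c a * (α * α) + c b * (β * β) := by
  rw [hQ, Fintype.sum_eq_add a b hab]
  · rw [Pi.add_apply, Pi.add_apply, Pi.single_eq_same, Pi.single_eq_same,
      Pi.single_eq_of_ne hab, Pi.single_eq_of_ne hab.symm, add_zero, zero_add]
  · rintro i ⟨hia, hib⟩
    rw [Pi.add_apply, Pi.single_eq_of_ne hia, Pi.single_eq_of_ne hib, add_zero, zero_mul,
      mul_zero]

omit [Fintype F] [DecidableEq F] in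
theorem Q_plane_ne {a b : ι} (hab : a ≠ b) (hc : c a = c b) (hca : c a ≠ 0) {α β : F}
    (hN : α * α + β * β ≠ 0) : Q (Pi.single a α + Pi.single b β) ≠ 0 := by
  rw [Q_plane hQ hab, ← hc, ← mul_add]
  exact mul_ne_zero hca hN

omit [Fintype F] [DecidableEq F] in
/-- the reflection in `α e_a + β e_b` acts on the plane of the coordinates `a`, `b` only -/
theorem refl_plane_mulVec {a b : ι} (hab : a ≠ b) (hc : c a = c b) (hca : c a ≠ 0) {α β : F}
    (hN : α * α + β * β ≠ 0) (x : ι → F) :
    ((refl Q (Pi.single a α + Pi.single b β) (Q_plane_ne hQ hab hc hca hN) :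
      Matrix.GeneralLinearGroup ι F) : Matrix ι ι F) *ᵥ x =
      fun i => if i = a then x a - 2 * α * (α * x a + β * x b) / (α * α + β * β)
        else if i = b then x b - 2 * β * (α * x a + β * x b) / (α * α + β * β) else x i := by
  rw [refl_mulVec, polar_diag hQ, Q_plane hQ hab, sum_plane_mul hab, ← hc]
  have hcoef : (c a * (α * α) + c a * (β * β))⁻¹ * (2 * (c a * (α * x a) + c a * (β * x b))) =
      2 * (α * x a + β * x b) / (α * α + β * β) := by
    field_simp
  rw [hcoef]
  funext i
  rw [Pi.sub_apply, Pi.smul_apply, Pi.add_apply, smul_eq_mul]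
  by_cases hia : i = a
  · subst hia
    rw [if_pos rfl, Pi.single_eq_same, Pi.single_eq_of_ne hab, add_zero]
    ring
  · by_cases hib : i = b
    · subst hib
      rw [if_neg hia, if_pos rfl, Pi.single_eq_same, Pi.single_eq_of_ne hia, zero_add]
      ring
    · rw [if_neg hia, if_neg hib, Pi.single_eq_of_ne hia, Pi.single_eq_of_ne hib, add_zero,
        mul_zero, sub_zero]

/-- `Phi` of the reflection in a vector of a coordinate plane, given by its action -/
theorem Phi_of_plane_refl_vec (h2 : (2 : F) ≠ 0) {a b : ι} (hab : a ≠ b) (hc : c a = c b)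
    (hca : c a ≠ 0) {α β : F} (hN : α * α + β * β ≠ 0) (g : ↥(Cfsg.isometryGroup F ⇑Q))
    (hg : ∀ x : ι → F, ((g : Matrix.GeneralLinearGroup ι F) : Matrix ι ι F) *ᵥ x =
      fun i => if i = a then x a - 2 * α * (α * x a + β * x b) / (α * α + β * β)
        else if i = b then x b - 2 * β * (α * x a + β * x b) / (α * α + β * β) else x i) :
    Phi Q g = (-1, cls (c a * (α * α + β * β))) := by
  have hge : g = refl Q (Pi.single a α + Pi.single b β) (Q_plane_ne hQ hab hc hca hN) := by
    apply iso_ext
    intro x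
    rw [hg, refl_plane_mulVec hQ hab hc hca hN]
  rw [hge, Phi_refl' h2, Q_plane hQ hab, ← hc, ← mul_add]

/-- `Phi` of the plane reflection with matrix `[[p, q], [q, -p]]`, `p² + q² = 1`, `p ≠ -1` -/
theorem Phi_of_plane_refl (h2 : (2 : F) ≠ 0) {a b : ι} (hab : a ≠ b) (hc : c a = c b)
    (hca : c a ≠ 0) {p q : F} (hpq : p * p + q * q = 1) (hp : p ≠ -1)
    (g : ↥(Cfsg.isometryGroup F ⇑Q))
    (hg : ∀ x : ι → F, ((g : Matrix.GeneralLinearGroup ι F) : Matrix ι ι F) *ᵥ x =
      fun i => if i = a then p * x a + q * x b else if i = b then q * x a - p * x b else x i) :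
    Phi Q g = (-1, cls (c a * (2 * (1 + p)))) := by
  have h1p : 1 + p ≠ 0 := by
    intro h
    apply hp
    linear_combination h
  have hN : q * q + (-(1 + p)) * (-(1 + p)) ≠ 0 := by
    have : q * q + (-(1 + p)) * (-(1 + p)) = 2 * (1 + p) := by linear_combination hpq
    rw [this]
    exact mul_ne_zero h2 h1p
  have hN' : q * q + (-(1 + p)) * (-(1 + p)) = 2 * (1 + p) := by linear_combination hpq
  rw [Phi_of_plane_refl_vec hQ h2 hab hc hca hN g, hN']
  intro x
  rw [hg]
  funext i
  rw [hN']
  have h21p : 2 * (1 + p) ≠ 0 := mul_ne_zero h2 h1p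
  by_cases hia : i = a
  · rw [if_pos hia, if_pos hia]
    field_simp
    linear_combination (x a) * hpq
  · rw [if_neg hia, if_neg hia]
    by_cases hib : i = b
    · rw [if_pos hib, if_pos hib]
      field_simp
      ring
    · rw [if_neg hib, if_neg hib]

/-- `Phi` of the plane rotation with matrix `[[p, -q], [q, p]]`, `p² + q² = 1` -/
theorem Phi_of_plane_rot (h2 : (2 : F) ≠ 0) {a b : ι} (hab : a ≠ b) (hc : c a = c b)
    (hca : c a ≠ 0) {p q : F} (hpq : p * p + q * q = 1)
    (g : ↥(Cfsg.isometryGroup F ⇑Q))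
    (hg : ∀ x : ι → F, ((g : Matrix.GeneralLinearGroup ι F) : Matrix ι ι F) *ᵥ x =
      fun i => if i = a then p * x a - q * x b else if i = b then q * x a + p * x b else x i) :
    Phi Q g = (1, if IsSquare (2 * (1 + p)) then 1 else -1) := by
  have hcb : c b ≠ 0 := by rw [← hc]; exact hca
  by_cases hp : p = -1
  · -- the rotation is `-1` on the plane
    have hq : q = 0 := by
      have : q * q = 0 := by
        rw [hp] at hpq
        linear_combination hpq
      exact mul_self_eq_zero.1 this
    have hge : g = refl Q (Pi.single a 1) (Q_single_ne hQ hca) *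
        refl Q (Pi.single b 1) (Q_single_ne hQ hcb) := by
      apply iso_ext
      intro x
      rw [hg, mul_mulVec, refl_single_mulVec hQ hcb, refl_single_mulVec hQ hca]
      funext i
      by_cases hia : i = a
      · subst hia
        rw [if_pos rfl, Function.update_self, Function.update_of_ne hab, hp, hq]
        ring
      · rw [if_neg hia, Function.update_of_ne hia]
        by_cases hib : i = b
        · subst hib
          rw [if_pos rfl, Function.update_self, hp, hq]
          ring
        · rw [if_neg hib, Function.update_of_ne hib]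
    have hsq : IsSquare (2 * (1 + p)) := ⟨0, by rw [hp]; ring⟩
    rw [if_pos hsq, hge, map_mul, Phi_refl' h2, Phi_refl' h2, Q_single hQ, Q_single hQ, ← hc]
    rw [Prod.mk_mul_mk, Int.units_mul_self]
    norm_num
  · have h1p : 1 + p ≠ 0 := by
      intro h
      apply hp
      linear_combination h
    have h21p : 2 * (1 + p) ≠ 0 := mul_ne_zero h2 h1p
    have hN : q * q + (-(1 + p)) * (-(1 + p)) ≠ 0 := by
      have : q * q + (-(1 + p)) * (-(1 + p)) = 2 * (1 + p) := by linear_combination hpq
      rw [this]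
      exact h21p
    -- the plane reflection `[[p, q], [q, -p]]`
    set r : ↥(Cfsg.isometryGroup F ⇑Q) :=
      refl Q (Pi.single a q + Pi.single b (-(1 + p))) (Q_plane_ne hQ hab hc hca hN) with hr
    have hr_act : ∀ x : ι → F, ((r : Matrix.GeneralLinearGroup ι F) : Matrix ι ι F) *ᵥ x =
        fun i => if i = a then p * x a + q * x b else if i = b then q * x a - p * x b
          else x i := by
      intro x
      rw [hr, refl_plane_mulVec hQ hab hc hca hN]
      have hN' : q * q + (-(1 + p)) * (-(1 + p)) = 2 * (1 + p) := by linear_combination hpq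
      funext i
      rw [hN']
      by_cases hia : i = a
      · rw [if_pos hia, if_pos hia]
        field_simp
        linear_combination (-(x a)) * hpq
      · rw [if_neg hia, if_neg hia]
        by_cases hib : i = b
        · rw [if_pos hib, if_pos hib]
          field_simp
          ring
        · rw [if_neg hib, if_neg hib]
    have hrPhi : Phi Q r = (-1, cls (c a * (2 * (1 + p)))) :=
      Phi_of_plane_refl hQ h2 hab hc hca hpq hp r hr_act
    have hge : g = r * refl Q (Pi.single b 1) (Q_single_ne hQ hcb) := by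
      apply iso_ext
      intro x
      rw [hg, mul_mulVec, refl_single_mulVec hQ hcb, hr_act]
      funext i
      by_cases hia : i = a
      · subst hia
        rw [if_pos rfl, if_pos rfl, Function.update_self, Function.update_of_ne hab]
        ring
      · rw [if_neg hia, if_neg hia]
        by_cases hib : i = b
        · subst hib
          rw [if_pos rfl, if_pos rfl, Function.update_self, Function.update_of_ne (Ne.symm hia)]
          ring
        · rw [if_neg hib, if_neg hib, Function.update_of_ne hib]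
    have e : c a * (2 * (1 + p)) * (c b * (1 * 1)) = c a * (2 * (1 + p)) * c a := by
      rw [← hc]
      ring
    have hcls : cls (c a * (2 * (1 + p))) * cls (c b * (1 * 1)) =
        if IsSquare (2 * (1 + p)) then 1 else -1 := by
      rw [cls_mul_cls h2 (mul_ne_zero hca h21p) (by rw [mul_one, mul_one]; exact hcb)]
      exact if_congr (by rw [e]; exact isSquare_mul_sq h2 h21p hca) rfl rfl
    rw [hge, map_mul, hrPhi, Phi_refl' h2, Q_single hQ, Prod.mk_mul_mk, hcls]
    norm_num

end Plane

end PhiDiag

end Cfsg.Agent.Lib.Helper2
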