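import Mathlib
import Cfsg.Agent.Lib.Helper2.OrthElR
import Cfsg.Agent.Lib.Helper2.OrthElB
import Cfsg.Agent.Lib.Helper2.OrthElF
import Cfsg.Agent.Lib.Helper2.PhiPlane
import Cfsg.Agent.Lib.Helper2.PlusType3

set_option autoImplicit false

/-!
Products of commuting reflections and the value of `Phi` on an isometric involution.
-/

namespace Cfsg.Agent.Lib.Helper2.OrthEl

open Module QuadraticMap
open scoped Matrix
open Cfsg.Agent.Lib.Helper2.MaxTS2
open Cfsg.Agent.H9SemiInv

section reflprod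

variable {F : Type*} [Field F] {ι : Type} [Fintype ι] [DecidableEq ι]
variable (Q : QuadraticForm F (ι → F))

open Classical in
/-- the reflection in `v` when `Q v ≠ 0`, the identity otherwise -/
noncomputable def reflOr (v : ι → F) : ↥(Cfsg.isometryGroup F ⇑Q) :=
  if h : Q v ≠ 0 then CDG.refl Q v h else 1

/-- the product of the first `k` reflections of a family -/
noncomputable def reflProd (u : ℕ → ι → F) : ℕ → ↥(Cfsg.isometryGroup F ⇑Q)
  | 0 => 1
  | k + 1 => reflProd u k * reflOr Q (u k)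

variable {Q}

theorem reflOr_of_ne {v : ι → F} (hv : Q v ≠ 0) : reflOr Q v = CDG.refl Q v hv := by
  unfold reflOr
  rw [dif_pos hv]

theorem reflOr_fix (v z : ι → F) (hz : polar (⇑Q) v z = 0) :
    ((reflOr Q v : Matrix.GeneralLinearGroup ι F) : Matrix ι ι F) *ᵥ z = z := by
  by_cases hv : Q v ≠ 0
  · rw [reflOr_of_ne hv]
    exact CDG.refl_fix v hv z hz
  · unfold reflOr
    rw [dif_neg hv]
    exact CDG.one_mulVec' z

theorem reflOr_self {v : ι → F} (hv : Q v ≠ 0) :
    ((reflOr Q v : Matrix.GeneralLinearGroup ι F) : Matrix ι ι F) *ᵥ v = -v := by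
  rw [reflOr_of_ne hv, CDG.refl_mulVec, polar_self, two_smul, mul_add, inv_mul_cancel₀ hv,
    add_smul, one_smul]
  abel

theorem reflProd_zero (u : ℕ → ι → F) : reflProd Q u 0 = 1 := rfl

theorem reflProd_succ (u : ℕ → ι → F) (k : ℕ) :
    reflProd Q u (k + 1) = reflProd Q u k * reflOr Q (u k) := rfl

theorem reflProd_fix (u : ℕ → ι → F) (z : ι → F) :
    ∀ k : ℕ, (∀ j < k, polar (⇑Q) (u j) z = 0) →
      ((reflProd Q u k : Matrix.GeneralLinearGroup ι F) : Matrix ι ι F) *ᵥ z = z := by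
  intro k
  induction k with
  | zero =>
    intro _
    rw [reflProd_zero]
    exact CDG.one_mulVec' z
  | succ k ih =>
    intro hz
    rw [reflProd_succ, CDG.mul_mulVec, reflOr_fix _ _ (hz k (Nat.lt_succ_self k))]
    exact ih (fun j hj => hz j (Nat.lt_succ_of_lt hj))

theorem reflProd_neg (u : ℕ → ι → F) :
    ∀ k : ℕ, (∀ j l, j < k → l < k → j ≠ l → polar (⇑Q) (u j) (u l) = 0) →
      (∀ j < k, Q (u j) ≠ 0) → ∀ l < k,
      ((reflProd Q u k : Matrix.GeneralLinearGroup ι F) : Matrix ι ι F) *ᵥ (u l) = -(u l) := by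
  intro k
  induction k with
  | zero =>
    intro _ _ l hl
    exact absurd hl (Nat.not_lt_zero l)
  | succ k ih =>
    intro horth hne l hl
    rw [reflProd_succ, CDG.mul_mulVec]
    rcases Nat.lt_succ_iff_lt_or_eq.1 hl with hlk | hlk
    · rw [reflOr_fix _ _ (horth k l (Nat.lt_succ_self k) hl (Nat.ne_of_gt hlk))]
      exact ih (fun j l' hj hl' hjl => horth j l' (Nat.lt_succ_of_lt hj) (Nat.lt_succ_of_lt hl') hjl)
        (fun j hj => hne j (Nat.lt_succ_of_lt hj)) l hlk
    · subst hlk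
      rw [reflOr_self (hne l hl), Matrix.mulVec_neg]
      congr 1
      apply reflProd_fix
      intro j hj
      exact horth j l (Nat.lt_succ_of_lt hj) hl (Nat.ne_of_lt hj)

end reflprod

section phi

variable {F : Type*} [Field F] [Fintype F] [DecidableEq F] {ι : Type} [Fintype ι] [DecidableEq ι]
variable {Q : QuadraticForm F (ι → F)}

theorem Phi_reflProd (h2 : (2 : F) ≠ 0) (u : ℕ → ι → F) :
    ∀ k : ℕ, (∀ j < k, Q (u j) ≠ 0) →
      Spinor.Phi Q (reflProd Q u k) =
        ((-1) ^ k, ∏ j ∈ Finset.range k, PhiDiag.cls (Q (u j))) := by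
  intro k
  induction k with
  | zero =>
    intro _
    rw [reflProd_zero, map_one, pow_zero, Finset.range_zero, Finset.prod_empty]
    rfl
  | succ k ih =>
    intro hne
    rw [reflProd_succ, map_mul, ih (fun j hj => hne j (Nat.lt_succ_of_lt hj)),
      reflOr_of_ne (hne k (Nat.lt_succ_self k)), PhiDiag.Phi_refl' h2, Finset.prod_range_succ,
      pow_succ]
    rfl

/-- the sign of a square class -/
noncomputable def chi' (d : F) : ℤˣ := if IsSquare d then 1 else -1

theorem cls_eq_neg_chi' {d : F} (hd : d ≠ 0) : PhiDiag.cls d = -chi' d := by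
  unfold chi'
  by_cases h : IsSquare d
  · rw [if_pos h, (PhiDiag.cls_eq_neg_one_iff d).2 ⟨hd, h⟩]
  · rw [if_neg h, (PhiDiag.cls_eq_one_iff d).2 (fun h' => h h'.2), neg_neg]

theorem chi'_mul (h2 : (2 : F) ≠ 0) {d d' : F} (hd : d ≠ 0) (hd' : d' ≠ 0) :
    chi' (d * d') = chi' d * chi' d' := by
  have key := PhiDiag.isSquare_mul_iff h2 hd hd'
  unfold chi'
  by_cases h1 : IsSquare d <;> by_cases h3 : IsSquare d'
  · rw [if_pos h1, if_pos h3, if_pos (key.2 ⟨fun _ => h3, fun _ => h1⟩), one_mul]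
  · rw [if_pos h1, if_neg h3, if_neg (fun h => h3 ((key.1 h).1 h1)), one_mul]
  · rw [if_neg h1, if_pos h3, if_neg (fun h => h1 ((key.1 h).2 h3)), mul_one]
  · rw [if_neg h1, if_neg h3, if_pos (key.2 ⟨fun h => absurd h h1, fun h => absurd h h3⟩)]
    decide

theorem prod_cls (h2 : (2 : F) ≠ 0) (c : ℕ → F) :
    ∀ k : ℕ, (∀ j < k, c j ≠ 0) →
      ∏ j ∈ Finset.range k, PhiDiag.cls (c j) = (-1) ^ k * chi' (∏ j ∈ Finset.range k, c j) := by
  intro k
  induction k with
  | zero =>
    intro _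
    rw [Finset.range_zero, Finset.prod_empty, Finset.prod_empty, pow_zero, one_mul]
    unfold chi'
    rw [if_pos ⟨1, (mul_one 1).symm⟩]
  | succ k ih =>
    intro hne
    have hP : ∏ j ∈ Finset.range k, c j ≠ 0 := by
      rw [Finset.prod_ne_zero_iff]
      intro j hj
      exact hne j (Nat.lt_succ_of_lt (Finset.mem_range.1 hj))
    rw [Finset.prod_range_succ, Finset.prod_range_succ, ih (fun j hj => hne j (Nat.lt_succ_of_lt hj)),
      chi'_mul h2 hP (hne k (Nat.lt_succ_self k)), cls_eq_neg_chi' (hne k (Nat.lt_succ_self k)),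
      pow_succ]
    simp only [mul_neg, neg_mul, mul_one, mul_assoc]

theorem isSquare_prod_of_cls (h2 : (2 : F) ≠ 0) (c : ℕ → F) (k : ℕ) (hne : ∀ j < k, c j ≠ 0)
    (hk : Even k) (h : ∏ j ∈ Finset.range k, PhiDiag.cls (c j) = 1) :
    IsSquare (∏ j ∈ Finset.range k, c j) := by
  rw [prod_cls h2 c k hne, hk.neg_one_pow, one_mul] at h
  unfold chi' at h
  by_contra hns
  rw [if_neg hns] at h
  exact absurd h (by decide)

end phi

end Cfsg.Agent.Lib.Helper2.OrthEl
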