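import Mathlib
import Cfsg.Agent.Lib.Helper2.OrthCfJ
import Cfsg.Agent.Lib.Helper2.OrthCfK
import Cfsg.Agent.Lib.Helper2.OrthNdL
import Cfsg.Agent.Lib.Helper2.QuadStd
import Cfsg.Agent.Lib.Helper5.OCf_R2O
import Cfsg.Agent.Lib.Helper5.NsPt4
import Cfsg.Agent.Lib.Helper5.OmegaCrit
import Cfsg.Agent.Lib.Helper9.OCf_R2E

set_option autoImplicit false

/-!
The row on plus type nondegenerate subspaces of the plus type orthogonal group: the dictionary and
the case `r = 2`.
-/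

namespace Cfsg.Agent.Lib.Helper2.OrthCf

open Module QuadraticMap
open scoped Matrix
open Cfsg.Agent.Lib.Helper2.MaxTS2 Cfsg.Agent.Lib.Helper2.OrthEl Cfsg.Agent.Lib.Helper2.OrthNd
open Cfsg.Agent.H9SemiInv
open Cfsg.Agent.Lib.Helper5.QuadGlue
open Cfsg.Agent.Lib.Helper5.OrthCls

section abs

variable {F : Type*} [Field F] {V : Type*} [AddCommGroup V] [Module F V]
variable {Q : QuadraticForm F V}

/-- an isometry whose square is the scalar `z`: `z * z = 1` -/
theorem sq_scalar_mul_self [Nontrivial V] (hQ : (polarBilin Q).Nondegenerate) {y : V →ₗ[F] V}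
    (hiso : ∀ v, Q (y v) = Q v) (z : F) (hy : ∀ v, y (y v) = z • v) : z * z = 1 := by
  obtain ⟨v, hv⟩ := exists_Q_ne_zero hQ
  have h1 : Q (y (y v)) = Q v := by rw [hiso, hiso]
  rw [hy, QuadraticMap.map_smul, smul_eq_mul] at h1
  have : (z * z - 1) * Q v = 0 := by linear_combination h1
  rcases mul_eq_zero.1 this with h | h
  · exact sub_eq_zero.1 h
  · exact absurd h hv

end abs

section std

variable {F : Type*} [Field F] [Fintype F]

/-- the dictionary for the plus type nondegenerate subspaces -/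
theorem key_plus (d m : ℕ) (W : Submodule F (Fin d ⊕ Fin d → F)) :
    (finrank F W = m ∧
      (∀ u ∈ W, u ≠ 0 → ∃ v ∈ W, QuadraticMap.polar (Cfsg.quadFormPlus d F) u v ≠ 0) ∧
      ∃ U : Submodule F (Fin d ⊕ Fin d → F), U ≤ W ∧ 2 * finrank F U = m ∧
        ∀ u ∈ U, Cfsg.quadFormPlus d F u = 0) ↔
    (finrank F W = m ∧ NDeg (QP d F) W ∧ (PlusS (QP d F) W ↔ True)) := by
  rw [← QuadStd.QP_coe, iff_true]
  constructor
  · rintro ⟨h1, h2, U, hUW, hUdim, hU⟩
    refine ⟨h1, ?_, U, hUW, hU, by rw [hUdim, h1]⟩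
    unfold NDeg
    rw [Submodule.disjoint_def]
    intro w hw hw'
    by_contra hne
    obtain ⟨x, hx, hx0⟩ := h2 w hw hne
    exact hx0 ((mem_perp_iff' _ _).1 hw' x hx)
  · rintro ⟨h1, h2, U, hUW, hU, hUdim⟩
    refine ⟨h1, ?_, U, hUW, by rw [hUdim, h1], hU⟩
    intro w hw hne
    unfold NDeg at h2
    rw [Submodule.disjoint_def] at h2
    have h3 : w ∉ perp (QP d F) W := fun h' => hne (h2 w hw h')
    rw [mem_perp_iff'] at h3
    push Not at h3
    exact h3

theorem finrank_plus_space (d : ℕ) : finrank F (Fin d ⊕ Fin d → F) = 2 * d := by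
  rw [Module.finrank_fintype_fun_eq_card]
  simp only [Fintype.card_sum, Fintype.card_fin]
  ring

theorem card_mod_four_of_two_eq_zero (h2 : (2 : F) = 0) : Fintype.card F % 4 ≠ 1 := by
  have hch : ringChar F = 2 :=
    CharP.ringChar_of_prime_eq_zero Nat.prime_two (by exact_mod_cast h2)
  have := FiniteField.even_card_iff_char_two.1 hch
  omega

theorem odd_card_of_two_ne_zero (h2 : (2 : F) ≠ 0) : Fintype.card F % 2 = 1 := by
  apply FiniteField.odd_card_of_char_ne_two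
  intro hch
  have h := ringChar.Nat.cast_ringChar (R := F)
  rw [hch] at h
  exact h2 (by exact_mod_cast h)

/-- sufficiency for `r = 2` -/
theorem suff_two_plus (d m a : ℕ) (hd : 4 ≤ d) (hma : m = 2 * a) (hm0 : 0 < m) (hmd : m < d)
    (hcond : (2 * d) % 4 = 2 ∨ m % 4 = 0 ∨ Fintype.card F % 4 = 1)
    (x : Matrix.GeneralLinearGroup (Fin d ⊕ Fin d) F)
    (hx : x ∈ Cfsg.Geo.omegaGL ⇑(QP d F)) (z : F)
    (hz : ((x ^ 2 : Matrix.GeneralLinearGroup (Fin d ⊕ Fin d) F) :
      Matrix (Fin d ⊕ Fin d) (Fin d ⊕ Fin d) F) = z • 1) :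
    ∃ W : Submodule F (Fin d ⊕ Fin d → F),
      (finrank F W = m ∧ NDeg (QP d F) W ∧ (PlusS (QP d F) W ↔ True)) ∧
      W.map (Matrix.toLin' (x : Matrix (Fin d ⊕ Fin d) (Fin d ⊕ Fin d) F)) ≤ W := by
  classical
  have hQ := QuadStd.QP_nondeg (F := F) d
  have hn := finrank_plus_space (F := F) d
  haveI : Nontrivial (Fin d ⊕ Fin d → F) := by
    apply Module.nontrivial_of_finrank_pos (R := F)
    rw [hn]
    omega
  have hV : PlusS (QP d F) ⊤ := plusS_top_iff_isPlus.2 (isPlus_QP d)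
  set y : Module.End F (Fin d ⊕ Fin d → F) :=
    Matrix.toLin' (x : Matrix (Fin d ⊕ Fin d) (Fin d ⊕ Fin d) F) with hy_def
  have hiso : ∀ v, QP d F (y v) = QP d F v := iso_apply (mem_iso_of_mem_omegaGL hx)
  have hpow : y ^ 2 = z • (1 : Module.End F (Fin d ⊕ Fin d → F)) := by
    rw [hy_def, ← Matrix.toLin'_pow, ← Units.val_pow_eq_pow_val, hz, map_smul, Matrix.toLin'_one]
    rfl
  have hyy : ∀ v, y (y v) = z • v := by
    intro v
    have := congrArg (fun f : Module.End F (Fin d ⊕ Fin d → F) => f v) hpow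
    simpa [pow_two] using this
  have hzz := sq_scalar_mul_self hQ hiso z hyy
  by_cases h2 : (2 : F) = 0
  · -- characteristic two
    have hz1 : z = 1 := by
      have h3 : (z - 1) * (z - 1) = 0 := by
        have : (z - 1) * (z - 1) = z * z - 2 * z + 1 := by ring
        rw [this, hzz, h2]
        have h4 : (1 : F) + 1 = 0 := by rw [one_add_one_eq_two]; exact h2
        linear_combination h4
      rcases mul_eq_zero.1 h3 with h | h <;> exact sub_eq_zero.1 h
    have hyy' : ∀ v, y (y v) = v := by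
      intro v
      rw [hyy, hz1, one_smul]
    obtain ⟨g, hg, hgx⟩ := Subgroup.mem_map.1 hx
    have hrank := (Cfsg.Agent.Lib.Helper5.OmegaCrit.mem_commutator_iff_rank₂ h2 hQ
      (Or.inr (by simp only [Fintype.card_sum, Fintype.card_fin]; omega))
      (by simp only [Fintype.card_sum, Fintype.card_fin]; omega) g).1 hg
    have hgx' : ((g : Matrix.GeneralLinearGroup (Fin d ⊕ Fin d) F) :
        Matrix (Fin d ⊕ Fin d) (Fin d ⊕ Fin d) F) = x := by
      rw [← hgx]
      rfl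
    rw [hgx'] at hrank
    have hrk : finrank F ↥(LinearMap.range (y - 1)) =
        ((x : Matrix (Fin d ⊕ Fin d) (Fin d ⊕ Fin d) F) - 1).rank := by
      unfold Matrix.rank
      have : (y - 1 : Module.End F (Fin d ⊕ Fin d → F)) =
          ((x : Matrix (Fin d ⊕ Fin d) (Fin d ⊕ Fin d) F) - 1).mulVecLin := by
        rw [hy_def]
        ext v
        simp [Matrix.sub_mulVec]
      rw [this]
    have hc : Even a ∨ (Odd d ∧ Even (finrank F ↥(LinearMap.range (y - 1)))) := by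
      have hq := card_mod_four_of_two_eq_zero h2
      rcases hcond with h | h | h
      · right
        refine ⟨?_, by rw [hrk]; exact hrank⟩
        rw [← Nat.not_even_iff_odd]
        rintro ⟨t, ht⟩
        omega
      · left
        exact ⟨a / 2, by omega⟩
      · exact absurd h hq
    obtain ⟨W, hWinv, hWnd, hWdim, hWt⟩ := r2e_pos h2 hQ hiso hyy' d a hn hV (by omega)
      (by omega) hc
    exact ⟨W, ⟨by rw [hWdim, hma], hWnd, iff_of_true hWt trivial⟩, (inv_iff _ _).1 hWinv⟩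
  · -- odd characteristic
    have hz' : z = 1 ∨ z = -1 := by
      have h3 : (z - 1) * (z + 1) = 0 := by linear_combination hzz
      rcases mul_eq_zero.1 h3 with h | h
      · left
        exact sub_eq_zero.1 h
      · right
        exact eq_neg_of_add_eq_zero_left h
    rcases hz' with hz1 | hz1
    · have hy2 : y ^ 2 = 1 := by rw [hpow, hz1, one_smul]
      obtain ⟨W, hWinv, hWnd, hWdim, hWt⟩ := exists_inv_ndeg_two h2 hQ hiso hy2 (2 * d) m a hn hma
        hm0 (by omega) True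
      exact ⟨W, ⟨hWdim, hWnd, hWt⟩, (inv_iff _ _).1 hWinv⟩
    · have hyy' : ∀ v, y (y v) = -v := by
        intro v
        rw [hyy, hz1, neg_one_smul]
      have hc : Odd d ∨ Even a ∨ Fintype.card F % 4 = 1 := by
        rcases hcond with h | h | h
        · left
          rw [← Nat.not_even_iff_odd]
          rintro ⟨t, ht⟩
          omega
        · right
          left
          exact ⟨a / 2, by omega⟩
        · right
          right
          exact h
      obtain ⟨W, hWinv, hWnd, hWdim, hWt⟩ := r2o_pos h2 hQ hiso hyy' d a hn hV (by omega)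
        (by omega) hc
      exact ⟨W, ⟨by rw [hWdim, hma], hWnd, iff_of_true hWt trivial⟩, (inv_iff _ _).1 hWinv⟩

/-- necessity for `r = 2` -/
theorem nec_two_plus (d m a : ℕ) (hd : 4 ≤ d) (hma : m = 2 * a)
    (hall : ∀ x : Matrix.GeneralLinearGroup (Fin d ⊕ Fin d) F,
      x ∈ Cfsg.Geo.omegaGL ⇑(QP d F) →
      (∃ z : F, ((x ^ 2 : Matrix.GeneralLinearGroup (Fin d ⊕ Fin d) F) :
        Matrix (Fin d ⊕ Fin d) (Fin d ⊕ Fin d) F) = z • 1) →
      (∀ z : F, (x : Matrix (Fin d ⊕ Fin d) (Fin d ⊕ Fin d) F) ≠ z • 1) →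
      ∃ W : Submodule F (Fin d ⊕ Fin d → F),
        (finrank F W = m ∧ NDeg (QP d F) W ∧ (PlusS (QP d F) W ↔ True)) ∧
        W.map (Matrix.toLin' (x : Matrix (Fin d ⊕ Fin d) (Fin d ⊕ Fin d) F)) ≤ W) :
    (2 * d) % 4 = 2 ∨ m % 4 = 0 ∨ Fintype.card F % 4 = 1 := by
  classical
  by_contra hcon
  push Not at hcon
  obtain ⟨hc1, hc2, hc3⟩ := hcon
  have hdev : Even d := ⟨d / 2, by omega⟩
  have haodd : ¬ Even a := by
    rintro ⟨t, ht⟩
    omega
  have hQ := QuadStd.QP_nondeg (F := F) d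
  by_cases h2 : (2 : F) = 0
  · haveI : CharP F 2 := CharTwo.of_one_ne_zero_of_two_eq_zero one_ne_zero h2
    obtain ⟨g, hg, hgg, hgns, hgfix⟩ :=
      Cfsg.Agent.Lib.Helper5.NsPt.exists_invol_no_fixed (F := F) (d := d) (by omega) hdev
    have hx : (g : Matrix.GeneralLinearGroup (Fin d ⊕ Fin d) F) ∈
        Cfsg.Geo.omegaGL ⇑(QP d F) := Subgroup.mem_map.2 ⟨g, hg, rfl⟩
    obtain ⟨W, ⟨hWdim, hWnd, -⟩, hWmap⟩ := hall _ hx
      ⟨1, by rw [Units.val_pow_eq_pow_val, pow_two, hgg, one_smul]⟩ hgns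
    have hiso : ∀ v, QP d F (Matrix.toLin' ((g : Matrix.GeneralLinearGroup (Fin d ⊕ Fin d) F) :
        Matrix (Fin d ⊕ Fin d) (Fin d ⊕ Fin d) F) v) = QP d F v :=
      iso_apply (mem_iso_of_mem_omegaGL hx)
    have hyy : ∀ v, Matrix.toLin' ((g : Matrix.GeneralLinearGroup (Fin d ⊕ Fin d) F) :
        Matrix (Fin d ⊕ Fin d) (Fin d ⊕ Fin d) F)
        (Matrix.toLin' ((g : Matrix.GeneralLinearGroup (Fin d ⊕ Fin d) F) :
        Matrix (Fin d ⊕ Fin d) (Fin d ⊕ Fin d) F) v) = v := by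
      intro v
      rw [Matrix.toLin'_apply, Matrix.toLin'_apply, Matrix.mulVec_mulVec, hgg, Matrix.one_mulVec]
    have hfix : ∀ v, Matrix.toLin' ((g : Matrix.GeneralLinearGroup (Fin d ⊕ Fin d) F) :
        Matrix (Fin d ⊕ Fin d) (Fin d ⊕ Fin d) F) v = v → QP d F v = 0 := by
      intro v hv
      rw [Matrix.toLin'_apply] at hv
      exact hgfix v hv
    have h4 := r2e_neg h2 hiso hyy hfix W ((inv_iff _ _).2 hWmap) hWnd
    rw [hWdim] at h4
    omega
  · have hodd := odd_card_of_two_ne_zero h2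
    have hns : ¬ IsSquare (-1 : F) := by
      rw [FiniteField.isSquare_neg_one_iff]
      push Not
      omega
    obtain ⟨x, hx, hxx⟩ := r2o_exists h2 d (by omega) hdev
    rw [← QuadStd.QP_coe] at hx
    have hxns : ∀ z : F, (x : Matrix (Fin d ⊕ Fin d) (Fin d ⊕ Fin d) F) ≠ z • 1 := by
      intro z hz
      rw [hz, smul_mul_smul_comm, one_mul] at hxx
      have h3 := congrFun (congrFun hxx (Sum.inl ⟨0, by omega⟩)) (Sum.inl ⟨0, by omega⟩)
      rw [Matrix.smul_apply, Matrix.neg_apply, Matrix.one_apply_eq, smul_eq_mul, mul_one] at h3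
      exact hns ⟨z, h3.symm⟩
    obtain ⟨W, ⟨hWdim, hWnd, hWt⟩, hWmap⟩ := hall x hx
      ⟨-1, by rw [Units.val_pow_eq_pow_val, pow_two, hxx, neg_one_smul]⟩ hxns
    have hiso : ∀ v, QP d F (Matrix.toLin' (x : Matrix (Fin d ⊕ Fin d) (Fin d ⊕ Fin d) F) v) =
        QP d F v := iso_apply (mem_iso_of_mem_omegaGL hx)
    have hyy : ∀ v, Matrix.toLin' (x : Matrix (Fin d ⊕ Fin d) (Fin d ⊕ Fin d) F)
        (Matrix.toLin' (x : Matrix (Fin d ⊕ Fin d) (Fin d ⊕ Fin d) F) v) = -v := by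
      intro v
      rw [Matrix.toLin'_apply, Matrix.toLin'_apply, Matrix.mulVec_mulVec, hxx, Matrix.neg_mulVec,
        Matrix.one_mulVec]
    have h5 := r2o_type h2 hQ hiso hyy hns W ((inv_iff _ _).2 hWmap) hWnd a (by rw [hWdim, hma])
    exact haodd (h5.1 (hWt.2 trivial))

/-- the case `r = 2` of the row -/
theorem core_two_plus (d m a : ℕ) (hd : 4 ≤ d) (hma : m = 2 * a) (hm0 : 0 < m) (hmd : m < d) :
    (∀ x : Matrix.GeneralLinearGroup (Fin d ⊕ Fin d) F,
      x ∈ Cfsg.Geo.omegaGL ⇑(QP d F) →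
      (∃ z : F, ((x ^ 2 : Matrix.GeneralLinearGroup (Fin d ⊕ Fin d) F) :
        Matrix (Fin d ⊕ Fin d) (Fin d ⊕ Fin d) F) = z • 1) →
      (∀ z : F, (x : Matrix (Fin d ⊕ Fin d) (Fin d ⊕ Fin d) F) ≠ z • 1) →
      ∃ W : Submodule F (Fin d ⊕ Fin d → F),
        (finrank F W = m ∧ NDeg (QP d F) W ∧ (PlusS (QP d F) W ↔ True)) ∧
        W.map (Matrix.toLin' (x : Matrix (Fin d ⊕ Fin d) (Fin d ⊕ Fin d) F)) ≤ W) ↔
    ((2 * d) % 4 = 2 ∨ m % 4 = 0 ∨ Fintype.card F % 4 = 1) := by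
  constructor
  · intro hall
    exact nec_two_plus d m a hd hma hall
  · rintro hcond x hx ⟨z, hz⟩ -
    exact suff_two_plus d m a hd hma hm0 hmd hcond x hx z hz

end std

end Cfsg.Agent.Lib.Helper2.OrthCf
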