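import Mathlib
import Cfsg.Agent.Lib.Helper2.OrthCfK

set_option autoImplicit false

/-!
The arithmetic evaluation of the generic core `OrthCf.core_even` for S5988 (ambient plus type,
subspaces of minus type) and S5990 (ambient minus type, subspaces of minus type).
-/

namespace Cfsg.Agent.Lib.Helper2.OrthCf

theorem arith_S5988_even (i d m : ℕ) (hi1 : 1 ≤ i) (hev : Even i) (hm0 : 0 < m) :
    (((2 * d) % i = 0 ∧ ¬ (True ↔ (Even i → Even ((2 * d) / i)))) ∨
      (i ≤ m ∧ m % i ≤ (2 * d) % i ∧ (m % i = 0 → (False ↔ (Even i → Even (m / i)))) ∧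
        (m % i = (2 * d) % i →
          (False ↔ ((True ↔ (Even i → Even ((2 * d) / i))) ↔ (Even i → Even (m / i))))))) ↔
    (((2 * d) % i = 0 ∧ (Odd ((2 * d) / i) ∨ (m % i = 0 ∧ Odd (m / i)))) ∨
      (i ≤ m ∧ ((0 < m % i ∧ m % i < (2 * d) % i) ∨
        (0 < m % i ∧ m % i = (2 * d) % i ∧ Odd ((2 * d + m - 2 * ((2 * d) % i)) / i)) ∨
        (m % i = 0 ∧ 0 < (2 * d) % i ∧ Odd (m / i))))) := by
  have hmdm := Nat.mod_add_div m i
  have hndn := Nat.mod_add_div (2 * d) i
  have hτ : ∀ t : ℕ, (Even i → Even t) ↔ Even t := fun t => ⟨fun h => h hev, fun h _ => h⟩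
  have hX : m % i = (2 * d) % i →
      (2 * d + m - 2 * ((2 * d) % i)) / i = (2 * d) / i + m / i := by
    intro h
    exact arith_sum_div i d m _ _ _ hi1 hndn.symm (by rw [← h]; exact hmdm.symm)
  have hM1 : 1 ≤ m / i ↔ i ≤ m := by
    rw [Nat.one_le_div_iff (by omega)]
  simp only [hτ]
  simp only [true_iff, false_iff, Nat.even_iff, Nat.odd_iff]
  clear hmdm hndn hτ hev
  generalize (2 * d) % i = k at *
  generalize (2 * d + m - 2 * k) / i = X at *
  generalize (2 * d) / i = N at *
  generalize m / i = M at *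
  generalize m % i = l at *
  omega

theorem arith_S5990_even (i d m : ℕ) (hi1 : 1 ≤ i) (hev : Even i) (hm0 : 0 < m) :
    (((2 * d) % i = 0 ∧ ¬ (False ↔ (Even i → Even ((2 * d) / i)))) ∨
      (i ≤ m ∧ m % i ≤ (2 * d) % i ∧ (m % i = 0 → (False ↔ (Even i → Even (m / i)))) ∧
        (m % i = (2 * d) % i →
          (False ↔ ((False ↔ (Even i → Even ((2 * d) / i))) ↔ (Even i → Even (m / i))))))) ↔
    (((2 * d) % i = 0 ∧ (Even ((2 * d) / i) ∨ (m % i = 0 ∧ Odd (m / i)))) ∨
      (0 < (2 * d) % i ∧ i ≤ m ∧ ((0 < m % i ∧ m % i < (2 * d) % i) ∨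
        (m % i = 0 ∧ Odd (m / i)) ∨
        (m % i = (2 * d) % i ∧ Even ((2 * d + m - 2 * ((2 * d) % i)) / i))))) := by
  have hmdm := Nat.mod_add_div m i
  have hndn := Nat.mod_add_div (2 * d) i
  have hτ : ∀ t : ℕ, (Even i → Even t) ↔ Even t := fun t => ⟨fun h => h hev, fun h _ => h⟩
  have hX : m % i = (2 * d) % i →
      (2 * d + m - 2 * ((2 * d) % i)) / i = (2 * d) / i + m / i := by
    intro h
    exact arith_sum_div i d m _ _ _ hi1 hndn.symm (by rw [← h]; exact hmdm.symm)
  have hM1 : 1 ≤ m / i ↔ i ≤ m := by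
    rw [Nat.one_le_div_iff (by omega)]
  simp only [hτ]
  simp only [true_iff, false_iff, Nat.even_iff, Nat.odd_iff]
  clear hmdm hndn hτ hev
  generalize (2 * d) % i = k at *
  generalize (2 * d + m - 2 * k) / i = X at *
  generalize (2 * d) / i = N at *
  generalize m / i = M at *
  generalize m % i = l at *
  omega

theorem arith_S5988 (i c d m : ℕ) (hi1 : 1 ≤ i) (hc : c = if Even i then i else 2 * i)
    (hm0 : 0 < m) :
    (((2 * d) % c = 0 ∧ ¬ (True ↔ (Even i → Even ((2 * d) / c)))) ∨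
      (c ≤ m ∧ m % c ≤ (2 * d) % c ∧ (m % c = 0 → (False ↔ (Even i → Even (m / c)))) ∧
        (m % c = (2 * d) % c →
          (False ↔ ((True ↔ (Even i → Even ((2 * d) / c))) ↔ (Even i → Even (m / c))))))) ↔
    ((Odd i ∧ c ≤ m ∧ 0 < m % c ∧ m % c < (2 * d) % c) ∨
     (Even i ∧
       (((2 * d) % c = 0 ∧ (Odd ((2 * d) / i) ∨ (m % c = 0 ∧ Odd (m / i)))) ∨
        (i ≤ m ∧ ((0 < m % c ∧ m % c < (2 * d) % c) ∨
                  (0 < m % c ∧ m % c = (2 * d) % c ∧
                    Odd ((2 * d + m - 2 * ((2 * d) % c)) / i)) ∨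
                  (m % c = 0 ∧ 0 < (2 * d) % c ∧ Odd (m / i))))))) := by
  by_cases hev : Even i
  · have hci : c = i := by rw [hc, if_pos hev]
    subst hci
    rw [arith_S5988_even c d m hi1 hev hm0]
    constructor
    · intro h
      right
      exact ⟨hev, h⟩
    · rintro (⟨hodd, -⟩ | ⟨-, h⟩)
      · exact absurd hev (Nat.not_even_iff_odd.2 hodd)
      · exact h
  · have hodd : Odd i := Nat.not_even_iff_odd.1 hev
    have hτ : ∀ t : ℕ, (Even i → Even t) ↔ True :=
      fun t => ⟨fun _ => trivial, fun _ h => absurd h hev⟩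
    have h1 : Odd i ↔ True := iff_true_intro hodd
    have h2 : Even i ↔ False := iff_false_intro hev
    have hc' : c = 2 * i := by rw [hc, if_neg hev]
    clear hc
    simp only [h1, h2, true_and, false_and, or_false, false_or, iff_true, not_true_eq_false,
      and_false, imp_false, iff_false, not_false_eq_true, false_imp_iff, iff_self, implies_true,
      and_true, true_iff, false_iff]
    clear hτ h1 h2 hodd hev
    generalize (2 * d) % c = k at *
    generalize m % c = l at *
    omega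

theorem arith_S5990 (i c d m : ℕ) (hi1 : 1 ≤ i) (hc : c = if Even i then i else 2 * i)
    (hm0 : 0 < m) :
    (((2 * d) % c = 0 ∧ ¬ (False ↔ (Even i → Even ((2 * d) / c)))) ∨
      (c ≤ m ∧ m % c ≤ (2 * d) % c ∧ (m % c = 0 → (False ↔ (Even i → Even (m / c)))) ∧
        (m % c = (2 * d) % c →
          (False ↔ ((False ↔ (Even i → Even ((2 * d) / c))) ↔ (Even i → Even (m / c))))))) ↔
    ((Odd i ∧ ((2 * d) % c = 0 ∨ (c ≤ m ∧ 0 < m % c ∧ m % c ≤ (2 * d) % c))) ∨
     (Even i ∧
       (((2 * d) % c = 0 ∧ (Even ((2 * d) / i) ∨ (m % c = 0 ∧ Odd (m / i)))) ∨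
        (0 < (2 * d) % c ∧ i ≤ m ∧ ((0 < m % c ∧ m % c < (2 * d) % c) ∨
          (m % c = 0 ∧ Odd (m / i)) ∨
          (m % c = (2 * d) % c ∧ Even ((2 * d + m - 2 * ((2 * d) % c)) / i))))))) := by
  by_cases hev : Even i
  · have hci : c = i := by rw [hc, if_pos hev]
    subst hci
    rw [arith_S5990_even c d m hi1 hev hm0]
    constructor
    · intro h
      right
      exact ⟨hev, h⟩
    · rintro (⟨hodd, -⟩ | ⟨-, h⟩)
      · exact absurd hev (Nat.not_even_iff_odd.2 hodd)
      · exact h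
  · have hodd : Odd i := Nat.not_even_iff_odd.1 hev
    have hτ : ∀ t : ℕ, (Even i → Even t) ↔ True :=
      fun t => ⟨fun _ => trivial, fun _ h => absurd h hev⟩
    have h1 : Odd i ↔ True := iff_true_intro hodd
    have h2 : Even i ↔ False := iff_false_intro hev
    have hc' : c = 2 * i := by rw [hc, if_neg hev]
    clear hc
    simp only [h1, h2, true_and, false_and, or_false, false_or, iff_true, not_true_eq_false,
      and_false, imp_false, iff_false, not_false_eq_true, false_imp_iff, iff_self, implies_true,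
      and_true, true_iff, false_iff]
    clear hτ h1 h2 hodd hev
    generalize (2 * d) % c = k at *
    generalize m % c = l at *
    omega

end Cfsg.Agent.Lib.Helper2.OrthCf
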