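import Mathlib
import Cfsg.Agent.Lib.Helper2.OrthCfJ
import Cfsg.Agent.Lib.Helper2.OrthCfM
import Cfsg.Agent.Lib.Helper2.OrthNdT
import Cfsg.Agent.Lib.Helper2.QuadStd
import Cfsg.Agent.Lib.Helper2.OrthCard1

set_option autoImplicit false

/-!
The `r` odd, `r ≠ p` halves of the rows on elliptic nondegenerate subspaces of the even-dimensional
orthogonal groups (S5988: plus type ambient; S5990: minus type ambient), in the frozen language.
-/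

namespace Cfsg.Agent.Lib.Helper2.OrthCf

open Module QuadraticMap
open scoped Matrix
open Cfsg.Agent.Lib.Helper2.MaxTS2 Cfsg.Agent.Lib.Helper2.OrthEl Cfsg.Agent.Lib.Helper2.OrthNd
open Cfsg.Agent.H9SemiInv
open Cfsg.Agent.Lib.Helper5.QuadGlue
open Cfsg.Agent.Lib.Helper5.OrthCls
open Cfsg.Agent.Lib.Helper2.OrthCard

variable {F : Type*} [Field F] [Fintype F] {p : ℕ} [Fact p.Prime] [CharP F p]

omit [Fintype F] in
/-- the dictionary for the minus type nondegenerate subspaces -/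
theorem key_not_plus {ι : Type} [Fintype ι] [DecidableEq ι] (Q : QuadraticForm F (ι → F)) (m : ℕ)
    (W : Submodule F (ι → F)) :
    (finrank F W = m ∧ Cfsg.Geo.IsNondegenerateOn (QuadraticMap.polar ⇑Q) W ∧
      ¬ Cfsg.Geo.IsPlusTypeOn ⇑Q W) ↔
    (finrank F W = m ∧ NDeg Q W ∧ (PlusS Q W ↔ False)) := by
  rw [ndegOn_iff, plusOn_iff, iff_false]

/-- the `r` odd half of S5988 -/
theorem odd_half_S5988 {q : ℕ} (hq : Fintype.card F = q)
    (d m : ℕ) (hd : 4 ≤ d) (hm : 2 ≤ m) (hme : Even m) (hmd : m < d)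
    (r : ℕ) [Fact r.Prime] (hrp : r ≠ p) (hr2 : r ≠ 2)
    (hrΩ : r ∣ Nat.card {W : Submodule F (Fin d ⊕ Fin d → F) // Module.finrank F ↥W = m ∧
      Cfsg.Geo.IsNondegenerateOn (QuadraticMap.polar (Cfsg.quadFormPlus d F)) W ∧
      ¬ Cfsg.Geo.IsPlusTypeOn (Cfsg.quadFormPlus d F) W})
    (i c : ℕ) (hi : i = orderOf (q : ZMod r)) (hc : c = if Even i then i else 2 * i) :
    (∀ x : Matrix.GeneralLinearGroup (Fin d ⊕ Fin d) F,
      x ∈ Cfsg.Geo.omegaGL (Cfsg.quadFormPlus d F) →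
      (∃ z : F, ((x ^ r : Matrix.GeneralLinearGroup (Fin d ⊕ Fin d) F) :
        Matrix (Fin d ⊕ Fin d) (Fin d ⊕ Fin d) F) =
          z • (1 : Matrix (Fin d ⊕ Fin d) (Fin d ⊕ Fin d) F)) →
      (∀ z : F, (x : Matrix (Fin d ⊕ Fin d) (Fin d ⊕ Fin d) F) ≠
        z • (1 : Matrix (Fin d ⊕ Fin d) (Fin d ⊕ Fin d) F)) →
      ∃ W : Submodule F (Fin d ⊕ Fin d → F), (Module.finrank F ↥W = m ∧
        Cfsg.Geo.IsNondegenerateOn (QuadraticMap.polar (Cfsg.quadFormPlus d F)) W ∧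
        ¬ Cfsg.Geo.IsPlusTypeOn (Cfsg.quadFormPlus d F) W) ∧
        W.map (Matrix.toLin' (x : Matrix (Fin d ⊕ Fin d) (Fin d ⊕ Fin d) F)) ≤ W) ↔
    ((Odd i ∧ c ≤ m ∧ 0 < m % c ∧ m % c < (2 * d) % c) ∨
     (Even i ∧
       (((2 * d) % c = 0 ∧ (Odd ((2 * d) / i) ∨ (m % c = 0 ∧ Odd (m / i)))) ∨
        (i ≤ m ∧ ((0 < m % c ∧ m % c < (2 * d) % c) ∨
                  (0 < m % c ∧ m % c = (2 * d) % c ∧
                    Odd ((2 * d + m - 2 * ((2 * d) % c)) / i)) ∨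
                  (m % c = 0 ∧ 0 < (2 * d) % c ∧ Odd (m / i))))))) := by
  classical
  have hi' : i = orderOf ((Fintype.card F : ℕ) : ZMod r) := by rw [hq]; exact hi
  have hi1 : 1 ≤ i := by
    rw [hi']
    exact Cfsg.Agent.Lib.Helper9.H9Elus.order_pos (F := F) r hrp
  rw [← QuadStd.QP_coe] at hrΩ ⊢
  have hrΩ' : r ∣ Nat.card (TySub (QP d F) m False) := by
    rw [← Nat.card_congr (Equiv.subtypeEquivRight (key_not_plus (QP d F) m))]
    exact hrΩ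
  simp only [key_not_plus]
  rw [core_even (QP d F) (QuadStd.QP_nondeg d) d m (by omega)
    (by simp only [Fintype.card_sum, Fintype.card_fin]; ring) (by omega) hme (by omega) r
    hrp hr2 True False (iff_of_true (isPlus_QP d) trivial) hrΩ' i c hi' hc,
    arith_S5988 i c d m hi1 hc (by omega)]

/-- the `r` odd half of S5990 -/
theorem odd_half_S5990 {q : ℕ} (hq : Fintype.card F = q)
    (d m : ℕ) (hd : 4 ≤ d) (hm : 2 ≤ m) (hme : Even m) (hmn : m + 2 ≤ 2 * d) (a b : F)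
    (hab : ∀ x y : F, x ^ 2 + a * x * y + b * y ^ 2 = 0 → x = 0 ∧ y = 0)
    (r : ℕ) [Fact r.Prime] (hrp : r ≠ p) (hr2 : r ≠ 2)
    (hrΩ : r ∣ Nat.card {W : Submodule F ((Fin (d - 1) ⊕ Fin (d - 1)) ⊕ Fin 2 → F) //
      Module.finrank F ↥W = m ∧
      Cfsg.Geo.IsNondegenerateOn (QuadraticMap.polar (Cfsg.quadFormMinus (d - 1) F a b)) W ∧
      ¬ Cfsg.Geo.IsPlusTypeOn (Cfsg.quadFormMinus (d - 1) F a b) W})
    (i c : ℕ) (hi : i = orderOf (q : ZMod r)) (hc : c = if Even i then i else 2 * i) :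
    (∀ x : Matrix.GeneralLinearGroup ((Fin (d - 1) ⊕ Fin (d - 1)) ⊕ Fin 2) F,
      x ∈ Cfsg.Geo.omegaGL (Cfsg.quadFormMinus (d - 1) F a b) →
      (∃ z : F, ((x ^ r : Matrix.GeneralLinearGroup ((Fin (d - 1) ⊕ Fin (d - 1)) ⊕ Fin 2) F) :
        Matrix ((Fin (d - 1) ⊕ Fin (d - 1)) ⊕ Fin 2) ((Fin (d - 1) ⊕ Fin (d - 1)) ⊕ Fin 2) F) =
          z • (1 : Matrix ((Fin (d - 1) ⊕ Fin (d - 1)) ⊕ Fin 2)
            ((Fin (d - 1) ⊕ Fin (d - 1)) ⊕ Fin 2) F)) →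
      (∀ z : F, (x : Matrix ((Fin (d - 1) ⊕ Fin (d - 1)) ⊕ Fin 2)
          ((Fin (d - 1) ⊕ Fin (d - 1)) ⊕ Fin 2) F) ≠
        z • (1 : Matrix ((Fin (d - 1) ⊕ Fin (d - 1)) ⊕ Fin 2)
          ((Fin (d - 1) ⊕ Fin (d - 1)) ⊕ Fin 2) F)) →
      ∃ W : Submodule F ((Fin (d - 1) ⊕ Fin (d - 1)) ⊕ Fin 2 → F), (Module.finrank F ↥W = m ∧
        Cfsg.Geo.IsNondegenerateOn (QuadraticMap.polar (Cfsg.quadFormMinus (d - 1) F a b)) W ∧
        ¬ Cfsg.Geo.IsPlusTypeOn (Cfsg.quadFormMinus (d - 1) F a b) W) ∧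
        W.map (Matrix.toLin' (x : Matrix ((Fin (d - 1) ⊕ Fin (d - 1)) ⊕ Fin 2)
          ((Fin (d - 1) ⊕ Fin (d - 1)) ⊕ Fin 2) F)) ≤ W) ↔
    ((Odd i ∧ ((2 * d) % c = 0 ∨ (c ≤ m ∧ 0 < m % c ∧ m % c ≤ (2 * d) % c))) ∨
     (Even i ∧
       (((2 * d) % c = 0 ∧ (Even ((2 * d) / i) ∨ (m % c = 0 ∧ Odd (m / i)))) ∨
        (0 < (2 * d) % c ∧ i ≤ m ∧ ((0 < m % c ∧ m % c < (2 * d) % c) ∨
          (m % c = 0 ∧ Odd (m / i)) ∨
          (m % c = (2 * d) % c ∧ Even ((2 * d + m - 2 * ((2 * d) % c)) / i))))))) := by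
  classical
  have hi' : i = orderOf ((Fintype.card F : ℕ) : ZMod r) := by rw [hq]; exact hi
  have hi1 : 1 ≤ i := by
    rw [hi']
    exact Cfsg.Agent.Lib.Helper9.H9Elus.order_pos (F := F) r hrp
  rw [← QMn_coe] at hrΩ ⊢
  have hrΩ' : r ∣ Nat.card (TySub (QMn (d - 1) a b) m False) := by
    rw [← Nat.card_congr (Equiv.subtypeEquivRight (key_not_plus (QMn (d - 1) a b) m))]
    exact hrΩ
  simp only [key_not_plus]
  rw [core_even (QMn (d - 1) a b) (QMn_nondeg (d - 1) a b hab) d m (by omega)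
    (by simp only [Fintype.card_sum, Fintype.card_fin]; omega) (by omega) hme (by omega) r
    hrp hr2 False False (iff_of_false (not_isPlus_QMn (d - 1) a b hab) not_false) hrΩ' i c hi' hc,
    arith_S5990 i c d m hi1 hc (by omega)]

end Cfsg.Agent.Lib.Helper2.OrthCf
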