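import Mathlib
import Cfsg.Agent.Lib.Helper2.OCf_TSR
import Cfsg.Agent.Lib.Helper2.OrthCfL
import Cfsg.Agent.Lib.Helper2.OrthCfN
import Cfsg.Agent.Lib.Helper5.NsPt4
import Cfsg.Agent.Lib.Helper5.OmegaCrit

set_option autoImplicit false

/-!
Characteristic two: explicit involutions of type `a_s` of large rank in `Ω⁺_{2d}(q)` and in
`Ω⁻_{2d}(q)` (`d` odd), and the resulting statements for the rows S5988 and S5990 in the frozen
language.
-/

namespace Cfsg.Agent.Lib.Helper2.OrthCf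

open Module QuadraticMap
open scoped Matrix
open Cfsg.Agent.Lib.Helper2.MaxTS2 Cfsg.Agent.Lib.Helper2.OrthEl Cfsg.Agent.Lib.Helper2.OrthNd
open Cfsg.Agent.H9SemiInv
open Cfsg.Agent.Lib.Helper5.QuadGlue
open Cfsg.Agent.Lib.Helper5.OrthCls
open Cfsg.Agent.Lib.Helper2.OrthCard
open Cfsg.Agent.Lib.Helper5.SpInv2
open Cfsg.Agent.Lib.Helper2.OrthSum

section zmat

variable {F : Type*} [Field F] {n : ℕ}

/-- the antidiagonal matrix with its middle entry (if any) removed -/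
def zMat (n : ℕ) (F : Type*) [Field F] : Matrix (Fin n) (Fin n) F :=
  fun i j => if j = Fin.rev i ∧ i ≠ Fin.rev i then 1 else 0

theorem zMat_mulVec (b : Fin n → F) (i : Fin n) :
    (zMat n F *ᵥ b) i = if i = Fin.rev i then 0 else b (Fin.rev i) := by
  unfold Matrix.mulVec dotProduct zMat
  by_cases h : i = Fin.rev i
  · rw [if_pos h]
    apply Finset.sum_eq_zero
    intro j _
    beta_reduce
    rw [if_neg (fun hc : j = Fin.rev i ∧ i ≠ Fin.rev i => hc.2 h), zero_mul]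
  · rw [if_neg h, Finset.sum_eq_single (Fin.rev i)]
    · beta_reduce
      rw [if_pos (⟨rfl, h⟩ : Fin.rev i = Fin.rev i ∧ i ≠ Fin.rev i), one_mul]
    · intro j _ hj
      beta_reduce
      rw [if_neg (fun hc : j = Fin.rev i ∧ i ≠ Fin.rev i => hj hc.1), zero_mul]
    · intro hc
      exact absurd (Finset.mem_univ _) hc

theorem zMat_alt (h2 : (2 : F) = 0) (b : Fin n → F) : b ⬝ᵥ zMat n F *ᵥ b = 0 := by
  unfold dotProduct
  simp only [zMat_mulVec]
  apply Finset.sum_involution (fun i _ => Fin.rev i)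
  · intro i _
    rw [Fin.rev_rev]
    by_cases h : i = Fin.rev i
    · rw [if_pos h, if_pos h.symm, mul_zero, mul_zero, add_zero]
    · rw [if_neg h, if_neg (fun hc => h hc.symm), mul_comm (b (Fin.rev i)), ← two_mul, h2, zero_mul]
  · intro i _ hne hc
    apply hne
    rw [if_pos hc.symm, mul_zero]
  · intro i _
    exact Finset.mem_univ _
  · intro i _
    exact Fin.rev_rev i

theorem zMat_rank_ge : n ≤ (zMat n F).rank + 1 := by
  classical
  let r : {i : Fin n // i ≠ Fin.rev i} → Fin n := fun i => i.1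
  let c : {i : Fin n // i ≠ Fin.rev i} → Fin n := fun i => Fin.rev i.1
  have h1 : (zMat n F).submatrix r c = 1 := by
    ext i j
    rw [Matrix.submatrix_apply, Matrix.one_apply]
    unfold zMat
    by_cases hij : i = j
    · rw [if_pos hij, if_pos ⟨by rw [hij], i.2⟩]
    · rw [if_neg hij, if_neg]
      rintro ⟨h, -⟩
      apply hij
      apply Subtype.ext
      exact (Fin.rev_injective h).symm
  have h3 := Matrix.rank_submatrix_le (zMat n F) r c
  rw [h1, Matrix.rank_one] at h3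
  have h4 : Fintype.card {i : Fin n // i ≠ Fin.rev i} + Fintype.card {i : Fin n // i = Fin.rev i} =
      n := by
    have := Fintype.card_subtype_compl (fun i : Fin n => i = Fin.rev i)
    have h5 := Fintype.card_subtype_le (fun i : Fin n => i = Fin.rev i)
    rw [Fintype.card_fin] at this h5
    have h6 : Fintype.card {i : Fin n // i ≠ Fin.rev i} =
        Fintype.card {i : Fin n // ¬ i = Fin.rev i} := rfl
    omega
  have h7 : Fintype.card {i : Fin n // i = Fin.rev i} ≤ 1 := by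
    rw [Fintype.card_le_one_iff_subsingleton]
    constructor
    rintro ⟨i, hi⟩ ⟨j, hj⟩
    have hij : i = j := by
      apply Fin.ext
      have e1 := congrArg Fin.val hi
      have e2 := congrArg Fin.val hj
      rw [Fin.val_rev] at e1 e2
      have := i.isLt
      have := j.isLt
      omega
    exact Subtype.ext hij
  omega

end zmat

section model

variable {F : Type*} [Field F] [Fintype F] {ι : Type} [Fintype ι] [DecidableEq ι]

omit [Fintype F] in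
theorem tsr_rank_eq (M : Matrix ι ι F) :
    finrank F ↥(LinearMap.range (Matrix.toLin' M - 1)) = (M - 1).rank := by
  unfold Matrix.rank
  have : (Matrix.toLin' M - 1 : Module.End F (ι → F)) = (M - 1).mulVecLin := by
    ext v
    simp [Matrix.sub_mulVec]
  rw [this]

/-- an isometric involution with totally singular commutator space lies in `Ω` -/
theorem tsr_mem_omegaGL (Q : QuadraticForm F (ι → F)) (h2 : (2 : F) = 0)
    (hQ : (polarBilin Q).Nondegenerate) (hex : Fintype.card F ≠ 2 ∨ Fintype.card ι ≠ 4)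
    (hn : 2 ≤ Fintype.card ι) (M : Matrix ι ι F) (hMM : M * M = 1)
    (hpres : ∀ v, Q (M *ᵥ v) = Q v) (hts : ∀ v, Q (M *ᵥ v - v) = 0) :
    ∃ x : Matrix.GeneralLinearGroup ι F, (x : Matrix ι ι F) = M ∧ x ∈ Cfsg.Geo.omegaGL ⇑Q := by
  let x : Matrix.GeneralLinearGroup ι F := ⟨M, M, hMM, hMM⟩
  let g : ↥(Cfsg.isometryGroup F ⇑Q) := ⟨x, fun u _ => hpres u⟩
  refine ⟨x, rfl, Subgroup.mem_map.2 ⟨g, ?_, rfl⟩⟩
  rw [Cfsg.Agent.Lib.Helper5.OmegaCrit.mem_commutator_iff_rank₂ h2 hQ hex hn g]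
  show Even (M - 1).rank
  have hiso : ∀ v, Q (Matrix.toLin' M v) = Q v := fun v => by
    rw [Matrix.toLin'_apply]
    exact hpres v
  have hy : ∀ v, Matrix.toLin' M (Matrix.toLin' M v) = v := by
    intro v
    rw [Matrix.toLin'_apply, Matrix.toLin'_apply, Matrix.mulVec_mulVec, hMM, Matrix.one_mulVec]
  have hts' : ∀ u, Q (Matrix.toLin' M u - u) = 0 := fun u => by
    rw [Matrix.toLin'_apply]
    exact hts u
  have hev := tsr_rank_even h2 hiso hy hts' (W := ⊤) (fun v _ => Submodule.mem_top) (ndeg_top hQ)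
  rw [Submodule.map_top, tsr_rank_eq] at hev
  exact hev

omit [Fintype F] in
theorem tsr_uMat_mul_self (h2 : (2 : F) = 0) {n : ℕ} (S : Matrix (Fin n) (Fin n) F) :
    uMat S * uMat S = 1 := by
  unfold uMat
  rw [Matrix.fromBlocks_multiply]
  simp only [Matrix.one_mul, Matrix.mul_one, Matrix.zero_mul, Matrix.mul_zero, add_zero, zero_add]
  have e0 : S + S = 0 := by
    ext i j
    simp only [Matrix.add_apply, Matrix.zero_apply]
    rw [← two_mul, h2, zero_mul]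
  rw [e0, Matrix.fromBlocks_one]

omit [Fintype F] in
theorem tsr_uMat_sub (n : ℕ) (S : Matrix (Fin n) (Fin n) F) (v : Fin n ⊕ Fin n → F) :
    uMat S *ᵥ v - v = Sum.elim (S *ᵥ fun i => v (Sum.inr i)) 0 := by
  rw [uMat_mulVec, add_sub_cancel_left]

omit [Fintype F] in
theorem tsr_QP_elim (n : ℕ) (w : Fin n → F) : QP n F (Sum.elim w 0) = 0 := by
  rw [QP_apply]
  unfold Cfsg.quadFormPlus
  apply Finset.sum_eq_zero
  intro i _
  simp

/-- the model in `Ω⁺_{2d}(q)`, `q` even -/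
theorem tsr_exists_plus (h2 : (2 : F) = 0) (d : ℕ) (hd : 3 ≤ d) :
    ∃ x : Matrix.GeneralLinearGroup (Fin d ⊕ Fin d) F,
      x ∈ Cfsg.Geo.omegaGL ⇑(QP d F) ∧
      (x : Matrix (Fin d ⊕ Fin d) (Fin d ⊕ Fin d) F) *
        (x : Matrix (Fin d ⊕ Fin d) (Fin d ⊕ Fin d) F) = 1 ∧
      (∀ z : F, (x : Matrix (Fin d ⊕ Fin d) (Fin d ⊕ Fin d) F) ≠ z • 1) ∧
      (∀ u, QP d F (Matrix.toLin' (x : Matrix (Fin d ⊕ Fin d) (Fin d ⊕ Fin d) F) u - u) = 0) ∧
      d ≤ finrank F ↥(LinearMap.range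
        (Matrix.toLin' (x : Matrix (Fin d ⊕ Fin d) (Fin d ⊕ Fin d) F) - 1)) + 1 := by
  haveI : CharP F 2 := CharTwo.of_one_ne_zero_of_two_eq_zero one_ne_zero h2
  have hpres : ∀ v, QP d F (uMat (zMat d F) *ᵥ v) = QP d F v :=
    fun v => Cfsg.Agent.Lib.Helper5.NsPt.QP_uMat (zMat d F) (zMat_alt h2) v
  have hts : ∀ v, QP d F (uMat (zMat d F) *ᵥ v - v) = 0 := by
    intro v
    rw [tsr_uMat_sub, tsr_QP_elim]
  obtain ⟨x, hx, hxΩ⟩ := tsr_mem_omegaGL (QP d F) h2 (QuadStd.QP_nondeg d)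
    (Or.inr (by simp only [Fintype.card_sum, Fintype.card_fin]; omega))
    (by simp only [Fintype.card_sum, Fintype.card_fin]; omega) (uMat (zMat d F))
    (tsr_uMat_mul_self h2 _) hpres hts
  refine ⟨x, hxΩ, ?_, ?_, ?_, ?_⟩
  · rw [hx]
    exact tsr_uMat_mul_self h2 _
  · intro z hz
    rw [hx] at hz
    have hz1 : zMat d F (⟨0, by omega⟩ : Fin d) (Fin.rev (⟨0, by omega⟩ : Fin d)) = 1 := by
      unfold zMat
      rw [if_pos]
      refine ⟨rfl, ?_⟩
      intro hc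
      have := congrArg Fin.val hc
      rw [Fin.val_rev] at this
      simp only at this
      omega
    have := congrFun (congrFun hz (Sum.inl (⟨0, by omega⟩ : Fin d)))
      (Sum.inr (Fin.rev (⟨0, by omega⟩ : Fin d)))
    unfold uMat at this
    rw [Matrix.fromBlocks_apply₁₂, hz1, Matrix.smul_apply, Matrix.one_apply_ne (by simp),
      smul_zero] at this
    exact one_ne_zero this
  · intro u
    rw [hx, Matrix.toLin'_apply]
    exact hts u
  · rw [hx, tsr_rank_eq, rank_uMat_sub_one]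
    exact zMat_rank_ge

end model

section minus

variable {F : Type*} [Field F] [Fintype F]

/-- the matrix of the model in the minus type space -/
def tsrM (n : ℕ) (F : Type*) [Field F] :
    Matrix ((Fin n ⊕ Fin n) ⊕ Fin 2) ((Fin n ⊕ Fin n) ⊕ Fin 2) F :=
  Matrix.fromBlocks (uMat (zMat n F)) 0 0 1

omit [Fintype F] in
theorem tsrM_mul_self (h2 : (2 : F) = 0) (n : ℕ) : tsrM n F * tsrM n F = 1 := by
  unfold tsrM
  rw [Matrix.fromBlocks_multiply]
  simp only [Matrix.one_mul, Matrix.mul_one, Matrix.zero_mul, Matrix.mul_zero, add_zero, zero_add]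
  rw [tsr_uMat_mul_self h2, Matrix.fromBlocks_one]

omit [Fintype F] in
theorem tsrM_mulVec (n : ℕ) (v : (Fin n ⊕ Fin n) ⊕ Fin 2 → F) :
    tsrM n F *ᵥ v =
      Sum.elim (uMat (zMat n F) *ᵥ fun i => v (Sum.inl i)) (fun j => v (Sum.inr j)) := by
  unfold tsrM
  rw [Matrix.fromBlocks_mulVec]
  funext k
  rcases k with k | k
  · simp only [Sum.elim_inl, Matrix.zero_mulVec, add_zero]
    rfl
  · simp only [Sum.elim_inr, Matrix.zero_mulVec, zero_add, Matrix.one_mulVec]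
    rfl

theorem tsrM_pres (h2 : (2 : F) = 0) (n : ℕ) (a b : F) (v : (Fin n ⊕ Fin n) ⊕ Fin 2 → F) :
    QMn n a b (tsrM n F *ᵥ v) = QMn n a b v := by
  haveI : CharP F 2 := CharTwo.of_one_ne_zero_of_two_eq_zero one_ne_zero h2
  unfold QMn
  rw [osum_apply, osum_apply, tsrM_mulVec]
  simp only [Sum.elim_inl, Sum.elim_inr]
  rw [Cfsg.Agent.Lib.Helper5.NsPt.QP_uMat (zMat n F) (zMat_alt h2)]

omit [Fintype F] in
theorem tsrM_ts (n : ℕ) (a b : F) (v : (Fin n ⊕ Fin n) ⊕ Fin 2 → F) :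
    QMn n a b (tsrM n F *ᵥ v - v) = 0 := by
  unfold QMn
  rw [osum_apply, tsrM_mulVec]
  have h1 : (fun i => (Sum.elim (uMat (zMat n F) *ᵥ fun i => v (Sum.inl i))
      (fun j => v (Sum.inr j)) - v) (Sum.inl i)) =
      uMat (zMat n F) *ᵥ (fun i => v (Sum.inl i)) - fun i => v (Sum.inl i) := by
    funext i
    simp
  have h3 : (fun j => (Sum.elim (uMat (zMat n F) *ᵥ fun i => v (Sum.inl i))
      (fun j => v (Sum.inr j)) - v) (Sum.inr j)) = 0 := by
    funext j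
    simp
  rw [h1, h3, tsr_uMat_sub, tsr_QP_elim, map_zero, add_zero]

/-- the model in `Ω⁻_{2d}(q)`, `q` even, `d` odd -/
theorem tsr_exists_minus (h2 : (2 : F) = 0) (d : ℕ) (hd : 3 ≤ d) (hodd : Odd d) (a b : F)
    (hab : ∀ x y : F, x ^ 2 + a * x * y + b * y ^ 2 = 0 → x = 0 ∧ y = 0) :
    ∃ x : Matrix.GeneralLinearGroup ((Fin (d - 1) ⊕ Fin (d - 1)) ⊕ Fin 2) F,
      x ∈ Cfsg.Geo.omegaGL ⇑(QMn (d - 1) a b) ∧
      (x : Matrix ((Fin (d - 1) ⊕ Fin (d - 1)) ⊕ Fin 2) ((Fin (d - 1) ⊕ Fin (d - 1)) ⊕ Fin 2) F) *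
        (x : Matrix ((Fin (d - 1) ⊕ Fin (d - 1)) ⊕ Fin 2)
          ((Fin (d - 1) ⊕ Fin (d - 1)) ⊕ Fin 2) F) = 1 ∧
      (∀ z : F, (x : Matrix ((Fin (d - 1) ⊕ Fin (d - 1)) ⊕ Fin 2)
        ((Fin (d - 1) ⊕ Fin (d - 1)) ⊕ Fin 2) F) ≠ z • 1) ∧
      (∀ u, QMn (d - 1) a b (Matrix.toLin' (x : Matrix ((Fin (d - 1) ⊕ Fin (d - 1)) ⊕ Fin 2)
        ((Fin (d - 1) ⊕ Fin (d - 1)) ⊕ Fin 2) F) u - u) = 0) ∧
      finrank F ↥(LinearMap.range
        (Matrix.toLin' (x : Matrix ((Fin (d - 1) ⊕ Fin (d - 1)) ⊕ Fin 2)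
          ((Fin (d - 1) ⊕ Fin (d - 1)) ⊕ Fin 2) F) - 1)) + 1 = d := by
  have hQ := QMn_nondeg (d - 1) a b hab
  have hcard : Fintype.card ((Fin (d - 1) ⊕ Fin (d - 1)) ⊕ Fin 2) = 2 * d := by
    simp only [Fintype.card_sum, Fintype.card_fin]
    omega
  obtain ⟨x, hx, hxΩ⟩ := tsr_mem_omegaGL (QMn (d - 1) a b) h2 hQ
    (Or.inr (by rw [hcard]; omega)) (by rw [hcard]; omega) (tsrM (d - 1) F)
    (tsrM_mul_self h2 _) (tsrM_pres h2 _ a b) (tsrM_ts _ a b)
  have hiso : ∀ v, QMn (d - 1) a b (Matrix.toLin' (tsrM (d - 1) F) v) = QMn (d - 1) a b v :=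
    fun v => by
      rw [Matrix.toLin'_apply]
      exact tsrM_pres h2 _ a b v
  have hy : ∀ v, Matrix.toLin' (tsrM (d - 1) F) (Matrix.toLin' (tsrM (d - 1) F) v) = v := by
    intro v
    rw [Matrix.toLin'_apply, Matrix.toLin'_apply, Matrix.mulVec_mulVec, tsrM_mul_self h2,
      Matrix.one_mulVec]
  have hts' : ∀ u, QMn (d - 1) a b (Matrix.toLin' (tsrM (d - 1) F) u - u) = 0 := fun u => by
    rw [Matrix.toLin'_apply]
    exact tsrM_ts _ a b u
  refine ⟨x, hxΩ, ?_, ?_, ?_, ?_⟩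
  · rw [hx]
    exact tsrM_mul_self h2 _
  · intro z hz
    rw [hx] at hz
    have hz1 : zMat (d - 1) F (⟨0, by omega⟩ : Fin (d - 1))
        (Fin.rev (⟨0, by omega⟩ : Fin (d - 1))) = 1 := by
      unfold zMat
      rw [if_pos]
      refine ⟨rfl, ?_⟩
      intro hc
      have := congrArg Fin.val hc
      rw [Fin.val_rev] at this
      simp only at this
      obtain ⟨t, ht⟩ := hodd
      omega
    have := congrFun (congrFun hz (Sum.inl (Sum.inl (⟨0, by omega⟩ : Fin (d - 1)))))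
      (Sum.inl (Sum.inr (Fin.rev (⟨0, by omega⟩ : Fin (d - 1)))))
    unfold tsrM uMat at this
    rw [Matrix.fromBlocks_apply₁₁, Matrix.fromBlocks_apply₁₂, hz1, Matrix.smul_apply,
      Matrix.one_apply_ne (by simp), smul_zero] at this
    exact one_ne_zero this
  · intro u
    rw [hx]
    exact hts' u
  · rw [hx]
    have hev := tsr_rank_even h2 hiso hy hts' (W := ⊤) (fun v _ => Submodule.mem_top)
      (ndeg_top hQ)
    have hle := tsr_rank_le hQ hts' (W := ⊤) (fun v _ => Submodule.mem_top) (ndeg_top hQ)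
    rw [Submodule.map_top] at hev hle
    rw [finrank_top, Module.finrank_fintype_fun_eq_card, hcard] at hle
    have hge : d ≤ finrank F ↥(LinearMap.range (Matrix.toLin' (tsrM (d - 1) F) - 1)) + 2 := by
      rw [tsr_rank_eq]
      have h5 := Matrix.rank_submatrix_le (tsrM (d - 1) F - 1)
        (Sum.inl : Fin (d - 1) ⊕ Fin (d - 1) → _) (Sum.inl : Fin (d - 1) ⊕ Fin (d - 1) → _)
      have h6 : (tsrM (d - 1) F - 1).submatrix
          (Sum.inl : Fin (d - 1) ⊕ Fin (d - 1) → (Fin (d - 1) ⊕ Fin (d - 1)) ⊕ Fin 2)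
          (Sum.inl : Fin (d - 1) ⊕ Fin (d - 1) → (Fin (d - 1) ⊕ Fin (d - 1)) ⊕ Fin 2) =
          uMat (zMat (d - 1) F) - 1 := by
        ext i j
        unfold tsrM
        rw [Matrix.submatrix_apply, Matrix.sub_apply, Matrix.fromBlocks_apply₁₁, Matrix.sub_apply,
          Matrix.one_apply, Matrix.one_apply]
        simp only [Sum.inl.injEq]
      rw [h6, rank_uMat_sub_one] at h5
      have h7 := zMat_rank_ge (F := F) (n := d - 1)
      omega
    obtain ⟨t, ht⟩ := hev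
    obtain ⟨u, hu⟩ := hodd
    omega

end minus

section frozen

variable {F : Type*} [Field F] [Fintype F]

/-- S5988, `r = 2 = p`: some involution of `Ω⁺_{2d}(q)` fixes no elliptic subspace at all -/
theorem S5988_two_char2 (h2 : (2 : F) = 0) (d m : ℕ) (hd : 4 ≤ d) :
    ¬ (∀ x : Matrix.GeneralLinearGroup (Fin d ⊕ Fin d) F,
      x ∈ Cfsg.Geo.omegaGL (Cfsg.quadFormPlus d F) →
      (∃ z : F, ((x ^ 2 : Matrix.GeneralLinearGroup (Fin d ⊕ Fin d) F) :
        Matrix (Fin d ⊕ Fin d) (Fin d ⊕ Fin d) F) =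
          z • (1 : Matrix (Fin d ⊕ Fin d) (Fin d ⊕ Fin d) F)) →
      (∀ z : F, (x : Matrix (Fin d ⊕ Fin d) (Fin d ⊕ Fin d) F) ≠
        z • (1 : Matrix (Fin d ⊕ Fin d) (Fin d ⊕ Fin d) F)) →
      ∃ W : Submodule F (Fin d ⊕ Fin d → F), (Module.finrank F ↥W = m ∧
        Cfsg.Geo.IsNondegenerateOn (QuadraticMap.polar (Cfsg.quadFormPlus d F)) W ∧
        ¬ Cfsg.Geo.IsPlusTypeOn (Cfsg.quadFormPlus d F) W) ∧
        W.map (Matrix.toLin' (x : Matrix (Fin d ⊕ Fin d) (Fin d ⊕ Fin d) F)) ≤ W) := by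
  classical
  intro hall
  rw [← QuadStd.QP_coe] at hall
  have hQ := QuadStd.QP_nondeg (F := F) d
  obtain ⟨x, hxΩ, hxx, hxns, hts, hrk⟩ := tsr_exists_plus (F := F) h2 d (by omega)
  obtain ⟨W, ⟨-, hWnd, hWnp⟩, hWmap⟩ := hall x hxΩ
    ⟨1, by rw [Units.val_pow_eq_pow_val, pow_two, hxx, one_smul]⟩ hxns
  rw [ndegOn_iff] at hWnd
  rw [plusOn_iff] at hWnp
  apply hWnp
  have hiso : ∀ v, QP d F (Matrix.toLin' (x : Matrix (Fin d ⊕ Fin d) (Fin d ⊕ Fin d) F) v) =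
      QP d F v := iso_apply (mem_iso_of_mem_omegaGL hxΩ)
  have hy : ∀ v, Matrix.toLin' (x : Matrix (Fin d ⊕ Fin d) (Fin d ⊕ Fin d) F)
      (Matrix.toLin' (x : Matrix (Fin d ⊕ Fin d) (Fin d ⊕ Fin d) F) v) = v := by
    intro v
    rw [Matrix.toLin'_apply, Matrix.toLin'_apply, Matrix.mulVec_mulVec, hxx, Matrix.one_mulVec]
  exact tsr_plusS_of_top h2 hQ hiso hy hts d (finrank_plus_space d)
    (plusS_top_iff_isPlus.2 (isPlus_QP d)) hrk W ((inv_iff _ _).2 hWmap) hWnd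

/-- S5990, `r = 2 = p`, necessity: if every involution of `Ω⁻_{2d}(q)` fixes an elliptic
`m`-space then `d` is even or `m ≡ 2 (mod 4)` -/
theorem S5990_two_char2_nec (h2 : (2 : F) = 0) (d m : ℕ) (hd : 4 ≤ d) (hme : Even m) (a b : F)
    (hab : ∀ x y : F, x ^ 2 + a * x * y + b * y ^ 2 = 0 → x = 0 ∧ y = 0)
    (hall : ∀ x : Matrix.GeneralLinearGroup ((Fin (d - 1) ⊕ Fin (d - 1)) ⊕ Fin 2) F,
      x ∈ Cfsg.Geo.omegaGL (Cfsg.quadFormMinus (d - 1) F a b) →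
      (∃ z : F, ((x ^ 2 : Matrix.GeneralLinearGroup ((Fin (d - 1) ⊕ Fin (d - 1)) ⊕ Fin 2) F) :
        Matrix ((Fin (d - 1) ⊕ Fin (d - 1)) ⊕ Fin 2) ((Fin (d - 1) ⊕ Fin (d - 1)) ⊕ Fin 2) F) =
          z • (1 : Matrix ((Fin (d - 1) ⊕ Fin (d - 1)) ⊕ Fin 2)
            ((Fin (d - 1) ⊕ Fin (d - 1)) ⊕ Fin 2) F)) →
      (∀ z : F, (x : Matrix ((Fin (d - 1) ⊕ Fin (d - 1)) ⊕ Fin 2)
          ((Fin (d - 1) ⊕ Fin (d - 1)) ⊕ Fin 2) F) ≠
        z • (1 : Matrix ((Fin (d - 1) ⊕ Fin (d - 1)) ⊕ Fin 2)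
          ((Fin (d - 1) ⊕ Fin (d - 1)) ⊕ Fin 2) F)) →
      ∃ W : Submodule F ((Fin (d - 1) ⊕ Fin (d - 1)) ⊕ Fin 2 → F), (Module.finrank F ↥W = m ∧
        Cfsg.Geo.IsNondegenerateOn (QuadraticMap.polar (Cfsg.quadFormMinus (d - 1) F a b)) W ∧
        ¬ Cfsg.Geo.IsPlusTypeOn (Cfsg.quadFormMinus (d - 1) F a b) W) ∧
        W.map (Matrix.toLin' (x : Matrix ((Fin (d - 1) ⊕ Fin (d - 1)) ⊕ Fin 2)
          ((Fin (d - 1) ⊕ Fin (d - 1)) ⊕ Fin 2) F)) ≤ W) :
    Even d ∨ m % 4 = 2 := by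
  classical
  by_contra hcon
  push Not at hcon
  obtain ⟨hdodd, hm4⟩ := hcon
  rw [Nat.not_even_iff_odd] at hdodd
  obtain ⟨a', ha'⟩ := hme
  have ha'ev : Even a' := ⟨a' / 2, by omega⟩
  rw [← QMn_coe] at hall
  have hQ := QMn_nondeg (d - 1) a b hab
  obtain ⟨x, hxΩ, hxx, hxns, hts, hrk⟩ := tsr_exists_minus (F := F) h2 d (by omega) hdodd a b hab
  obtain ⟨W, ⟨hWdim, hWnd, hWnp⟩, hWmap⟩ := hall x hxΩ
    ⟨1, by rw [Units.val_pow_eq_pow_val, pow_two, hxx, one_smul]⟩ hxns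
  rw [ndegOn_iff] at hWnd
  rw [plusOn_iff] at hWnp
  apply hWnp
  have hiso : ∀ v, QMn (d - 1) a b (Matrix.toLin' (x : Matrix ((Fin (d - 1) ⊕ Fin (d - 1)) ⊕ Fin 2)
      ((Fin (d - 1) ⊕ Fin (d - 1)) ⊕ Fin 2) F) v) = QMn (d - 1) a b v :=
    iso_apply (mem_iso_of_mem_omegaGL hxΩ)
  have hy : ∀ v, Matrix.toLin' (x : Matrix ((Fin (d - 1) ⊕ Fin (d - 1)) ⊕ Fin 2)
      ((Fin (d - 1) ⊕ Fin (d - 1)) ⊕ Fin 2) F)
      (Matrix.toLin' (x : Matrix ((Fin (d - 1) ⊕ Fin (d - 1)) ⊕ Fin 2)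
      ((Fin (d - 1) ⊕ Fin (d - 1)) ⊕ Fin 2) F) v) = v := by
    intro v
    rw [Matrix.toLin'_apply, Matrix.toLin'_apply, Matrix.mulVec_mulVec, hxx, Matrix.one_mulVec]
  have hn : finrank F ((Fin (d - 1) ⊕ Fin (d - 1)) ⊕ Fin 2 → F) = 2 * d := by
    rw [Module.finrank_fintype_fun_eq_card]
    simp only [Fintype.card_sum, Fintype.card_fin]
    omega
  exact tsr_plusS_of_even h2 hQ hiso hy hts d a' hn hrk W ((inv_iff _ _).2 hWmap) hWnd
    (by rw [hWdim, ha']; ring) ha'ev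

end frozen

end Cfsg.Agent.Lib.Helper2.OrthCf
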