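import Mathlib
import Cfsg.Prelude
import Cfsg.Agent.Lib.Helper6.ODec1

set_option autoImplicit false

/-! # S5677, package PK-KLCEND: the uniform end of case KL-C.

`w = a + b` singular, `a ∈ D_j` nonsingular, `0 ≠ b ⊥ D_j`, and `W = D_j ∩ a^⊥ ⊆ X_w`.  Then `w` is
"full relative to `U = D_j + <b>`"; moving `w` by a block Eichler element `h` and then by an
`E_{w,v}` with `v ∈ w^⊥ ∩ U` to a singular vector `u₁` of `D_j` gives `b ∈ X_{u₁}`. -/

namespace Cfsg.Agent.Lib.Helper6.ODec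

open Matrix Module Cfsg.Agent.H9Orth Cfsg.Agent.Lib.Helper2.ReflGen Cfsg.Agent.Lib.Helper2.CDG
  Cfsg.Agent.Lib.Helper2.LongRoot

variable {F : Type*} [Field F] [Fintype F] {ι : Type} [Fintype ι] [DecidableEq ι]
variable {Q : QuadraticForm F (ι → F)} {t k : ℕ} {D : Fin t → Submodule F (ι → F)}
  {M : Subgroup (Matrix.GeneralLinearGroup ι F)}

omit [Fintype F] in
/-- Eichler transformations with both parameters in a subspace `U` preserve `U` -/
theorem klcend_eich_mem_sub (hQ : (QuadraticMap.polarBilin Q).Nondegenerate)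
    (U : Submodule F (ι → F)) {u v x : ι → F} (hu : u ∈ U) (hv : v ∈ U) (hx : x ∈ U)
    (hQu : Q u = 0) (huv : QuadraticMap.polar (⇑Q) u v = 0) :
    ((eich hQ u v hQu huv : Matrix.GeneralLinearGroup ι F) : Matrix ι ι F) *ᵥ x ∈ U := by
  rw [eich_mulVec]
  exact U.sub_mem (U.sub_mem (U.add_mem hx (U.smul_mem _ hv)) (U.smul_mem _ hu))
    (U.smul_mem _ hu)

omit [Fintype F] in
/-- `Q b = - Q a` when `a + b` is singular and `b ⊥ a` -/
theorem klcend_Qb {j : Fin t} {a b : ι → F} (ha : a ∈ D j) (hb : b ∈ perpS Q (D j))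
    (hQw : Q (a + b) = 0) : Q b = - Q a := by
  have hab : QuadraticMap.polar (⇑Q) a b = 0 := (mem_perpS _ _).1 hb a ha
  rw [QuadraticMap.map_add Q, hab, add_zero] at hQw
  linear_combination hQw

omit [Fintype F] in
/-- `w^⊥ ∩ (D_j + <b>) ⊆ X_w` -/
theorem klcend_XS_of_U (hQ : (QuadraticMap.polarBilin Q).Nondegenerate)
    {j : Fin t} {a b : ι → F} (ha : a ∈ D j)
    (hb : b ∈ perpS Q (D j)) (hQw : Q (a + b) = 0)
    (hW : ∀ x ∈ D j, QuadraticMap.polar (⇑Q) a x = 0 → x ∈ XS hQ M (a + b))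
    {y : ι → F} (hy : y ∈ D j ⊔ Submodule.span F {b})
    (hwy : QuadraticMap.polar (⇑Q) (a + b) y = 0) : y ∈ XS hQ M (a + b) := by
  obtain ⟨d, hd, z, hz, rfl⟩ := Submodule.mem_sup.1 hy
  obtain ⟨s, rfl⟩ := Submodule.mem_span_singleton.1 hz
  have hbD : ∀ x ∈ D j, QuadraticMap.polar (⇑Q) x b = 0 := (mem_perpS _ _).1 hb
  have hQb := klcend_Qb ha hb hQw
  have h1 : QuadraticMap.polar (⇑Q) a d = 2 * s * Q a := by
    rw [QuadraticMap.polar_add_left, QuadraticMap.polar_add_right, QuadraticMap.polar_add_right,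
      QuadraticMap.polar_smul_right, QuadraticMap.polar_smul_right, hbD a ha,
      QuadraticMap.polar_comm (⇑Q) b d, hbD d hd, polar_self, hQb] at hwy
    simp only [smul_eq_mul, mul_zero, add_zero, zero_add] at hwy
    linear_combination hwy
  have e : d + s • b = (d - s • a) + s • (a + b) := by module
  rw [e]
  apply Submodule.add_mem
  · apply hW _ ((D j).sub_mem hd ((D j).smul_mem _ ha))
    rw [QuadraticMap.polar_sub_right, QuadraticMap.polar_smul_right, polar_self, h1, smul_eq_mul]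
    ring
  · exact Submodule.smul_mem _ _ (XS_self hQ hQw)

/-- **PK-KLCEND** (uniform end of KL-C): if `W = D_j ∩ a^⊥ ⊆ X_w` then the KEY conclusion holds. -/
theorem pk_klcend (hQ : (QuadraticMap.polarBilin Q).Nondegenerate)
    (c : Ctx Q k D M) {j : Fin t} {a b : ι → F} (ha : a ∈ D j)
    (hb : b ∈ perpS Q (D j)) (hb0 : b ≠ 0) (hQa : Q a ≠ 0) (hQw : Q (a + b) = 0)
    (hW : ∀ x ∈ D j, QuadraticMap.polar (⇑Q) a x = 0 → x ∈ XS hQ M (a + b)) :
    Key hQ M D := by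
  have hbD : ∀ x ∈ D j, QuadraticMap.polar (⇑Q) x b = 0 := (mem_perpS _ _).1 hb
  -- a singular `p ∈ D_j` not orthogonal to `a`
  have haP : a ∉ perpS Q (D j) := by
    intro h
    exact c.polar_self_ne hQa ((mem_perpS _ _).1 h a ha)
  obtain ⟨p, hp, hQp, hpa⟩ := c.exists_sing_not_perp hQ j haP
  have hp0 : p ≠ 0 := by
    rintro rfl
    apply hpa
    simp [QuadraticMap.polar]
  obtain ⟨cc, hcc, hpc, hQc⟩ := c.exists_nonsing_perp hQ hp hp0 hQp
  obtain ⟨α, hα⟩ : ∃ α : F, α = QuadraticMap.polar (⇑Q) p a := ⟨_, rfl⟩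
  obtain ⟨γ, hγ⟩ : ∃ γ : F, γ = QuadraticMap.polar (⇑Q) cc a := ⟨_, rfl⟩
  have hα0 : α ≠ 0 := by rw [hα]; exact hpa
  have hpw : QuadraticMap.polar (⇑Q) p (a + b) = α := by
    rw [QuadraticMap.polar_add_right, hbD p hp, add_zero, hα]
  have hcw : QuadraticMap.polar (⇑Q) cc (a + b) = γ := by
    rw [QuadraticMap.polar_add_right, hbD cc hcc, add_zero, hγ]
  -- the block Eichler element `h` and `w₁ = h w`
  have hhM : ((eich hQ p cc hQp hpc : ↥(Cfsg.isometryGroup F ⇑Q)) :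
      Matrix.GeneralLinearGroup ι F) ∈ M := c.eich_mem hQ hp hcc hQp hpc
  obtain ⟨w1, hw1def⟩ : ∃ w1 : ι → F, w1 =
      ((eich hQ p cc hQp hpc : Matrix.GeneralLinearGroup ι F) : Matrix ι ι F) *ᵥ (a + b) :=
    ⟨_, rfl⟩
  have hw1 : w1 = (a + b) + α • cc - γ • p - (Q cc * α) • p := by
    rw [hw1def, eich_mulVec, hpw, hcw]
  have hQw1 : Q w1 = 0 := by rw [hw1def, iso_Q]; exact hQw
  have hβ : QuadraticMap.polar (⇑Q) (a + b) w1 = -(Q cc * α * α) := by
    rw [hw1]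
    simp only [QuadraticMap.polar_sub_right, QuadraticMap.polar_add_right,
      QuadraticMap.polar_smul_right, smul_eq_mul]
    rw [← QuadraticMap.polar_add_right, polar_self, hQw,
      QuadraticMap.polar_comm (⇑Q) (a + b) cc, hcw, QuadraticMap.polar_comm (⇑Q) (a + b) p, hpw]
    ring
  have hβ0 : QuadraticMap.polar (⇑Q) (a + b) w1 ≠ 0 := by
    rw [hβ]
    exact neg_ne_zero.2 (mul_ne_zero (mul_ne_zero hQc hα0) hα0)
  -- the target `u₁ = λ p`
  obtain ⟨lam, hlam⟩ : ∃ lam : F, lam = -(Q cc * α) := ⟨_, rfl⟩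
  have hlam0 : lam ≠ 0 := by rw [hlam]; exact neg_ne_zero.2 (mul_ne_zero hQc hα0)
  have hQu1 : Q (lam • p) = 0 := by rw [QuadraticMap.map_smul, hQp, smul_zero]
  have hwu1 : QuadraticMap.polar (⇑Q) (a + b) (lam • p) =
      QuadraticMap.polar (⇑Q) (a + b) w1 := by
    rw [QuadraticMap.polar_smul_right, QuadraticMap.polar_comm, hpw, hβ, hlam, smul_eq_mul]
    ring
  obtain ⟨v, hwv, hmove⟩ := eich_move hQ (a + b) w1 (lam • p) hQw hQw1 hQu1 hβ0 hwu1
  -- everything happens in `U = D_j + <b>`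
  obtain ⟨U, hU⟩ : ∃ U : Submodule F (ι → F), U = D j ⊔ Submodule.span F {b} := ⟨_, rfl⟩
  have hDU : D j ≤ U := by rw [hU]; exact le_sup_left
  have hbU : b ∈ U := by
    rw [hU]; exact Submodule.mem_sup_right (Submodule.mem_span_singleton_self b)
  have hwU : a + b ∈ U := U.add_mem (hDU ha) hbU
  have hw1U : w1 ∈ U := by
    rw [hw1def]
    exact klcend_eich_mem_sub hQ U (hDU hp) (hDU hcc) hwU hQp hpc
  have hu1U : lam • p ∈ U := U.smul_mem _ (hDU hp)
  have hvU : v ∈ U := by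
    rw [eich_mulVec] at hmove
    have e1 : QuadraticMap.polar (⇑Q) (a + b) w1 • v = lam • p - w1 +
        QuadraticMap.polar (⇑Q) v w1 • (a + b) +
        (Q v * QuadraticMap.polar (⇑Q) (a + b) w1) • (a + b) := by
      rw [← hmove]; module
    have e2 : v = (QuadraticMap.polar (⇑Q) (a + b) w1)⁻¹ • (lam • p - w1 +
        QuadraticMap.polar (⇑Q) v w1 • (a + b) +
        (Q v * QuadraticMap.polar (⇑Q) (a + b) w1) • (a + b)) := by
      rw [← e1, smul_smul, inv_mul_cancel₀ hβ0, one_smul]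
    rw [e2]
    exact U.smul_mem _ (U.add_mem (U.add_mem (U.sub_mem hu1U hw1U) (U.smul_mem _ hwU))
      (U.smul_mem _ hwU))
  have hvX : v ∈ XS hQ M (a + b) := by
    apply klcend_XS_of_U hQ ha hb hQw hW _ hwv
    rw [← hU]; exact hvU
  have hmM : ((eich hQ (a + b) v hQw hwv : ↥(Cfsg.isometryGroup F ⇑Q)) :
      Matrix.GeneralLinearGroup ι F) ∈ M := XS_eich hQ hQw hvX hwv
  -- `g = m h` maps `w` to `u₁`
  obtain ⟨g, hg⟩ : ∃ g : ↥(Cfsg.isometryGroup F ⇑Q),
      g = eich hQ (a + b) v hQw hwv * eich hQ p cc hQp hpc := ⟨_, rfl⟩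
  have hgM : (g : Matrix.GeneralLinearGroup ι F) ∈ M := by
    rw [hg, Cfsg.Agent.H9Orth.coe_mul_coe]
    exact M.mul_mem hmM hhM
  have hgw : ((g : Matrix.GeneralLinearGroup ι F) : Matrix ι ι F) *ᵥ (a + b) = lam • p := by
    rw [hg, mul_mulVec, ← hw1def]
    exact hmove
  -- `y = g⁻¹ b ∈ w^⊥ ∩ U ⊆ X_w`
  obtain ⟨y, hy⟩ : ∃ y : ι → F, y = (((g⁻¹ : ↥(Cfsg.isometryGroup F ⇑Q)) :
      Matrix.GeneralLinearGroup ι F) : Matrix ι ι F) *ᵥ b := ⟨_, rfl⟩
  have hgy : ((g : Matrix.GeneralLinearGroup ι F) : Matrix ι ι F) *ᵥ y = b := by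
    rw [hy]; exact inv_mulVec_mulVec g b
  have hwy : QuadraticMap.polar (⇑Q) (a + b) y = 0 := by
    rw [← iso_polar g, hgw, hgy, QuadraticMap.polar_smul_left, hbD p hp, smul_zero]
  have hyU : y ∈ U := by
    have e : g⁻¹ = eich hQ p (-cc) hQp (by rw [QuadraticMap.polar_neg_right, hpc, neg_zero]) *
        eich hQ (a + b) (-v) hQw (by rw [QuadraticMap.polar_neg_right, hwv, neg_zero]) := by
      rw [hg, _root_.mul_inv_rev, eich_inv, eich_inv]
    rw [hy, e, mul_mulVec]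
    apply klcend_eich_mem_sub hQ U (hDU hp) (U.neg_mem (hDU hcc)) _ hQp
    exact klcend_eich_mem_sub hQ U hwU (U.neg_mem hvU) hbU hQw _
  have hyX : y ∈ XS hQ M (a + b) := by
    apply klcend_XS_of_U hQ ha hb hQw hW _ hwy
    rw [← hU]; exact hyU
  have hbX : b ∈ XS hQ M (lam • p) := by
    have h := XS_map hQ hQw g hgM hyX
    rwa [hgw, hgy] at h
  have hbXp : b ∈ XS hQ M p := XS_of_smul hQ hQp hlam0 hbX
  refine ⟨j, p, b, hp, hp0, hQp, hbXp, ?_⟩
  intro hbDj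
  exact hb0 (c.eq_zero_of_mem_of_perp hQ hbDj hb)

end Cfsg.Agent.Lib.Helper6.ODec
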