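import Mathlib
import Cfsg.Prelude

set_option autoImplicit false

namespace Cfsg.Agent.Lib.Helper2.OMinus

open Matrix

/-- index type of the 4-dimensional minus-type space over the field with two elements -/
abbrev I4 : Type := (Fin 1 ⊕ Fin 1) ⊕ Fin 2

abbrev Vec : Type := I4 → ZMod 2

/-- the minus-type quadratic form in dimension 4 -/
abbrev Qm : Vec → ZMod 2 := Cfsg.quadFormMinus 1 (ZMod 2) 1 1

abbrev O4 : Subgroup (Matrix.GeneralLinearGroup I4 (ZMod 2)) := Cfsg.isometryGroup (ZMod 2) Qm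

/-- vector with given coordinates -/
def mkV (a b c d : ZMod 2) : Vec :=
  Sum.elim (Sum.elim (fun _ => a) (fun _ => b)) ![c, d]

abbrev ix : I4 := Sum.inl (Sum.inl 0)
abbrev iy : I4 := Sum.inl (Sum.inr 0)
abbrev iz : I4 := Sum.inr 0
abbrev iw : I4 := Sum.inr 1

theorem eq_mkV (u : Vec) : u = mkV (u ix) (u iy) (u iz) (u iw) := by
  funext i
  rcases i with (i | i) | i
  · fin_cases i; rfl
  · fin_cases i; rfl
  · fin_cases i <;> rfl

theorem mkV_inj {a b c d a' b' c' d' : ZMod 2} (h : mkV a b c d = mkV a' b' c' d') :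
    a = a' ∧ b = b' ∧ c = c' ∧ d = d' :=
  ⟨congrFun h ix, congrFun h iy, congrFun h iz, congrFun h iw⟩

theorem Qm_mkV (a b c d : ZMod 2) : Qm (mkV a b c d) = a * b + (c ^ 2 + c * d + d ^ 2) := by
  simp [Qm, Cfsg.quadFormMinus, mkV]

theorem dot_mkV (a b c d : ZMod 2) (u : Vec) :
    mkV a b c d ⬝ᵥ u = a * u ix + b * u iy + c * u iz + d * u iw := by
  simp [dotProduct, Fintype.sum_sum_type, Fin.sum_univ_two, mkV]
  ring

/-- matrix with given rows -/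
def mkM (r1 r2 r3 r4 : Vec) : Matrix I4 I4 (ZMod 2) :=
  Matrix.of (Sum.elim (Sum.elim (fun _ => r1) (fun _ => r2)) ![r3, r4])

theorem mulVec_mkM (r1 r2 r3 r4 u : Vec) :
    mkM r1 r2 r3 r4 *ᵥ u = mkV (r1 ⬝ᵥ u) (r2 ⬝ᵥ u) (r3 ⬝ᵥ u) (r4 ⬝ᵥ u) := by
  funext i
  rcases i with (i | i) | i
  · fin_cases i; rfl
  · fin_cases i; rfl
  · fin_cases i <;> rfl

theorem mulVec_mkM_mkV (r1 r2 r3 r4 : Vec) (a b c d : ZMod 2) :
    mkM r1 r2 r3 r4 *ᵥ mkV a b c d =
      mkV (r1 ix * a + r1 iy * b + r1 iz * c + r1 iw * d)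
          (r2 ix * a + r2 iy * b + r2 iz * c + r2 iw * d)
          (r3 ix * a + r3 iy * b + r3 iz * c + r3 iw * d)
          (r4 ix * a + r4 iy * b + r4 iz * c + r4 iw * d) := by
  rw [mulVec_mkM]
  rw [eq_mkV r1, eq_mkV r2, eq_mkV r3, eq_mkV r4]
  simp only [dot_mkV]
  rfl

end Cfsg.Agent.Lib.Helper2.OMinus
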