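import Mathlib
import Cfsg.Prelude
import Cfsg.Agent.Lib.Helper2.OMinus1

set_option autoImplicit false

namespace Cfsg.Agent.Lib.Helper2.OMinus

open Matrix

/-- the five nonzero singular vectors -/
def sv : Fin 5 → Vec :=
  ![mkV 1 0 0 0, mkV 0 1 0 0, mkV 1 1 1 0, mkV 1 1 0 1, mkV 1 1 1 1]

theorem sv_injective : Function.Injective sv := by
  intro i j h
  fin_cases i <;> fin_cases j <;> first | rfl | (exfalso; have := mkV_inj h; revert this; decide)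

theorem sv_ne_zero (i : Fin 5) : sv i ≠ 0 := by
  intro h
  have h0 : (0 : Vec) = mkV 0 0 0 0 := by
    rw [eq_mkV 0]; rfl
  rw [h0] at h
  fin_cases i <;> (have := mkV_inj h; revert this; decide)

theorem Qm_sv (i : Fin 5) : Qm (sv i) = 0 := by
  fin_cases i <;> (simp only [sv]; first | (show Qm (mkV _ _ _ _) = 0; rw [Qm_mkV]; decide))

theorem singular_cases : ∀ a b c d : ZMod 2, a * b + (c ^ 2 + c * d + d ^ 2) = 0 →
    ¬ (a = 0 ∧ b = 0 ∧ c = 0 ∧ d = 0) →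
    (a = 1 ∧ b = 0 ∧ c = 0 ∧ d = 0) ∨ (a = 0 ∧ b = 1 ∧ c = 0 ∧ d = 0) ∨
    (a = 1 ∧ b = 1 ∧ c = 1 ∧ d = 0) ∨ (a = 1 ∧ b = 1 ∧ c = 0 ∧ d = 1) ∨
    (a = 1 ∧ b = 1 ∧ c = 1 ∧ d = 1) := by
  decide

theorem exists_sv_of_singular (v : Vec) (hv : v ≠ 0) (hQ : Qm v = 0) : ∃ i, v = sv i := by
  rw [eq_mkV v] at hQ hv ⊢
  rw [Qm_mkV] at hQ
  have hne : ¬ (v ix = 0 ∧ v iy = 0 ∧ v iz = 0 ∧ v iw = 0) := by
    rintro ⟨h1, h2, h3, h4⟩
    apply hv
    rw [h1, h2, h3, h4, eq_mkV 0]; rfl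
  rcases singular_cases _ _ _ _ hQ hne with ⟨h1, h2, h3, h4⟩ | ⟨h1, h2, h3, h4⟩ | ⟨h1, h2, h3, h4⟩ |
    ⟨h1, h2, h3, h4⟩ | ⟨h1, h2, h3, h4⟩
  · exact ⟨0, by rw [h1, h2, h3, h4]; rfl⟩
  · exact ⟨1, by rw [h1, h2, h3, h4]; rfl⟩
  · exact ⟨2, by rw [h1, h2, h3, h4]; rfl⟩
  · exact ⟨3, by rw [h1, h2, h3, h4]; rfl⟩
  · exact ⟨4, by rw [h1, h2, h3, h4]; rfl⟩

theorem mem_O4_iff (g : Matrix.GeneralLinearGroup I4 (ZMod 2)) :
    g ∈ O4 ↔ ∀ u : Vec, Qm (g.1 *ᵥ u) = Qm u := by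
  constructor
  · intro h u
    exact h u u
  · intro h u v
    exact h u

theorem mulVec_ne_zero (g : Matrix.GeneralLinearGroup I4 (ZMod 2)) {v : Vec} (hv : v ≠ 0) :
    g.1 *ᵥ v ≠ 0 := by
  intro h
  apply hv
  have : (g⁻¹).1 *ᵥ (g.1 *ᵥ v) = v := by
    rw [Matrix.mulVec_mulVec, ← Units.val_mul, inv_mul_cancel, Units.val_one, Matrix.one_mulVec]
  rw [← this, h, Matrix.mulVec_zero]

/-- the image index of a singular vector under an isometry -/
theorem exists_index (g : O4) (i : Fin 5) : ∃ j, g.1.1 *ᵥ sv i = sv j := by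
  apply exists_sv_of_singular
  · exact mulVec_ne_zero g.1 (sv_ne_zero i)
  · rw [(mem_O4_iff g.1).1 g.2, Qm_sv]

noncomputable def idx (g : O4) (i : Fin 5) : Fin 5 := (exists_index g i).choose

theorem idx_spec (g : O4) (i : Fin 5) : g.1.1 *ᵥ sv i = sv (idx g i) :=
  (exists_index g i).choose_spec

theorem idx_one (i : Fin 5) : idx 1 i = i := by
  apply sv_injective
  rw [← idx_spec]
  simp

theorem idx_mul (g h : O4) (i : Fin 5) : idx (g * h) i = idx g (idx h i) := by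
  apply sv_injective
  rw [← idx_spec, ← idx_spec, ← idx_spec]
  simp [Matrix.mulVec_mulVec]

/-- the action on singular vectors as a homomorphism -/
noncomputable def rho : O4 →* Equiv.Perm (Fin 5) where
  toFun g :=
    { toFun := idx g
      invFun := idx g⁻¹
      left_inv := fun i => by rw [← idx_mul, inv_mul_cancel, idx_one]
      right_inv := fun i => by rw [← idx_mul, mul_inv_cancel, idx_one] }
  map_one' := by
    ext i
    simp [idx_one]
  map_mul' g h := by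
    ext i
    simp [idx_mul]

theorem rho_apply (g : O4) (i : Fin 5) : sv (rho g i) = g.1.1 *ᵥ sv i := (idx_spec g i).symm

end Cfsg.Agent.Lib.Helper2.OMinus
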