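import Mathlib
import Cfsg.Prelude
import Cfsg.Agent.Lib.Helper2.OMinus2

set_option autoImplicit false

namespace Cfsg.Agent.Lib.Helper2.OMinus

open Matrix

@[simp] theorem mkV_ix (a b c d : ZMod 2) : mkV a b c d ix = a := rfl
@[simp] theorem mkV_iy (a b c d : ZMod 2) : mkV a b c d iy = b := rfl
@[simp] theorem mkV_iz (a b c d : ZMod 2) : mkV a b c d iz = c := rfl
@[simp] theorem mkV_iw (a b c d : ZMod 2) : mkV a b c d iw = d := rfl

theorem eq_one_of_mulVec (M : Matrix I4 I4 (ZMod 2)) (h : ∀ v : Vec, M *ᵥ v = v) : M = 1 := by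
  ext i j
  have := congrFun (h (Pi.single j 1)) i
  rw [Matrix.mulVec_single_one] at this
  rw [Matrix.one_apply]
  simpa [Pi.single_apply, eq_comm] using this

theorem mkV_add (a b c d a' b' c' d' : ZMod 2) :
    mkV a b c d + mkV a' b' c' d' = mkV (a + a') (b + b') (c + c') (d + d') := by
  rw [eq_mkV (mkV a b c d + mkV a' b' c' d')]
  rfl

theorem smul_mkV (t a b c d : ZMod 2) : t • mkV a b c d = mkV (t * a) (t * b) (t * c) (t * d) := by
  rw [eq_mkV (t • mkV a b c d)]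
  rfl

theorem decomp (a b c d : ZMod 2) :
    mkV a b c d = (a + c + d) • sv 0 + (b + c + d) • sv 1 + c • sv 2 + d • sv 3 := by
  show mkV a b c d = (a + c + d) • mkV 1 0 0 0 + (b + c + d) • mkV 0 1 0 0 + c • mkV 1 1 1 0
    + d • mkV 1 1 0 1
  simp only [smul_mkV, mkV_add]
  revert a b c d
  decide

theorem rho_injective : Function.Injective rho := by
  rw [injective_iff_map_eq_one]
  intro g hg
  have hfix : ∀ i, g.1.1 *ᵥ sv i = sv i := by
    intro i
    rw [← rho_apply, hg]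
    rfl
  have hall : ∀ v : Vec, g.1.1 *ᵥ v = v := by
    intro v
    rw [eq_mkV v, decomp]
    simp only [Matrix.mulVec_add, Matrix.mulVec_smul, hfix]
  have h1 := eq_one_of_mulVec _ hall
  apply Subtype.ext
  apply Units.ext
  exact h1

/-- build an isometry from an involutory matrix preserving the form -/
def mkO (M : Matrix I4 I4 (ZMod 2)) (h2 : M * M = 1) (hQ : ∀ u : Vec, Qm (M *ᵥ u) = Qm u) : O4 :=
  ⟨⟨M, M, h2, h2⟩, (mem_O4_iff _).2 hQ⟩

theorem sq_of_mulVec (M : Matrix I4 I4 (ZMod 2)) (h : ∀ v : Vec, M *ᵥ (M *ᵥ v) = v) : M * M = 1 := by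
  apply eq_one_of_mulVec
  intro v
  rw [← Matrix.mulVec_mulVec, h]

def M01 : Matrix I4 I4 (ZMod 2) := mkM (mkV 0 1 0 0) (mkV 1 0 0 0) (mkV 0 0 1 0) (mkV 0 0 0 1)
def M12 : Matrix I4 I4 (ZMod 2) := mkM (mkV 1 1 0 1) (mkV 0 1 0 0) (mkV 0 1 1 1) (mkV 0 0 0 1)
def M23 : Matrix I4 I4 (ZMod 2) := mkM (mkV 1 0 0 0) (mkV 0 1 0 0) (mkV 0 0 0 1) (mkV 0 0 1 0)
def M34 : Matrix I4 I4 (ZMod 2) := mkM (mkV 1 0 0 0) (mkV 0 1 0 0) (mkV 0 0 1 1) (mkV 0 0 0 1)

theorem mkV_congr {a b c d a' b' c' d' : ZMod 2} (h : a = a' ∧ b = b' ∧ c = c' ∧ d = d') :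
    mkV a b c d = mkV a' b' c' d' := by
  obtain ⟨rfl, rfl, rfl, rfl⟩ := h; rfl

theorem M01_sq : M01 * M01 = 1 := by
  apply sq_of_mulVec
  intro v
  rw [eq_mkV v, M01, mulVec_mkM_mkV, mulVec_mkM_mkV]
  simp only [mkV_ix, mkV_iy, mkV_iz, mkV_iw]
  apply mkV_congr
  generalize v ix = a; generalize v iy = b; generalize v iz = c; generalize v iw = d
  revert a b c d; decide

theorem M01_Q (u : Vec) : Qm (M01 *ᵥ u) = Qm u := by
  rw [eq_mkV u, M01, mulVec_mkM_mkV, Qm_mkV, Qm_mkV]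
  simp only [mkV_ix, mkV_iy, mkV_iz, mkV_iw]
  generalize u ix = a; generalize u iy = b; generalize u iz = c; generalize u iw = d
  revert a b c d; decide

theorem M12_sq : M12 * M12 = 1 := by
  apply sq_of_mulVec
  intro v
  rw [eq_mkV v, M12, mulVec_mkM_mkV, mulVec_mkM_mkV]
  simp only [mkV_ix, mkV_iy, mkV_iz, mkV_iw]
  apply mkV_congr
  generalize v ix = a; generalize v iy = b; generalize v iz = c; generalize v iw = d
  revert a b c d; decide

theorem M12_Q (u : Vec) : Qm (M12 *ᵥ u) = Qm u := by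
  rw [eq_mkV u, M12, mulVec_mkM_mkV, Qm_mkV, Qm_mkV]
  simp only [mkV_ix, mkV_iy, mkV_iz, mkV_iw]
  generalize u ix = a; generalize u iy = b; generalize u iz = c; generalize u iw = d
  revert a b c d; decide

theorem M23_sq : M23 * M23 = 1 := by
  apply sq_of_mulVec
  intro v
  rw [eq_mkV v, M23, mulVec_mkM_mkV, mulVec_mkM_mkV]
  simp only [mkV_ix, mkV_iy, mkV_iz, mkV_iw]
  apply mkV_congr
  generalize v ix = a; generalize v iy = b; generalize v iz = c; generalize v iw = d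
  revert a b c d; decide

theorem M23_Q (u : Vec) : Qm (M23 *ᵥ u) = Qm u := by
  rw [eq_mkV u, M23, mulVec_mkM_mkV, Qm_mkV, Qm_mkV]
  simp only [mkV_ix, mkV_iy, mkV_iz, mkV_iw]
  generalize u ix = a; generalize u iy = b; generalize u iz = c; generalize u iw = d
  revert a b c d; decide

theorem M34_sq : M34 * M34 = 1 := by
  apply sq_of_mulVec
  intro v
  rw [eq_mkV v, M34, mulVec_mkM_mkV, mulVec_mkM_mkV]
  simp only [mkV_ix, mkV_iy, mkV_iz, mkV_iw]
  apply mkV_congr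
  generalize v ix = a; generalize v iy = b; generalize v iz = c; generalize v iw = d
  revert a b c d; decide

theorem M34_Q (u : Vec) : Qm (M34 *ᵥ u) = Qm u := by
  rw [eq_mkV u, M34, mulVec_mkM_mkV, Qm_mkV, Qm_mkV]
  simp only [mkV_ix, mkV_iy, mkV_iz, mkV_iw]
  generalize u ix = a; generalize u iy = b; generalize u iz = c; generalize u iw = d
  revert a b c d; decide

end Cfsg.Agent.Lib.Helper2.OMinus
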