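import Mathlib
import Cfsg.Prelude
import Cfsg.Agent.Lib.Helper2.OMinus3

set_option autoImplicit false

namespace Cfsg.Agent.Lib.Helper2.OMinus

open Matrix

def g01 : O4 := mkO M01 M01_sq M01_Q
def g12 : O4 := mkO M12 M12_sq M12_Q
def g23 : O4 := mkO M23 M23_sq M23_Q
def g34 : O4 := mkO M34 M34_sq M34_Q

theorem rho_eq_of (g : O4) (σ : Equiv.Perm (Fin 5))
    (h : ∀ i, g.1.1 *ᵥ sv i = sv (σ i)) : rho g = σ := by
  ext i
  have := sv_injective ((rho_apply g i).trans (h i))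
  rw [this]

theorem sv_zero : sv 0 = mkV 1 0 0 0 := rfl
theorem sv_one : sv 1 = mkV 0 1 0 0 := rfl
theorem sv_two : sv 2 = mkV 1 1 1 0 := rfl
theorem sv_three : sv 3 = mkV 1 1 0 1 := rfl
theorem sv_four : sv 4 = mkV 1 1 1 1 := rfl

theorem check5 (M : Matrix I4 I4 (ZMod 2)) (σ : Equiv.Perm (Fin 5))
    (h0 : M *ᵥ mkV 1 0 0 0 = sv (σ 0)) (h1 : M *ᵥ mkV 0 1 0 0 = sv (σ 1))
    (h2 : M *ᵥ mkV 1 1 1 0 = sv (σ 2)) (h3 : M *ᵥ mkV 1 1 0 1 = sv (σ 3))
    (h4 : M *ᵥ mkV 1 1 1 1 = sv (σ 4)) : ∀ i, M *ᵥ sv i = sv (σ i) := by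
  intro i
  fin_cases i
  · exact h0
  · exact h1
  · exact h2
  · exact h3
  · exact h4

theorem rho_g01 : rho g01 = Equiv.swap 0 1 := by
  apply rho_eq_of
  apply check5 M01
  · rw [show (Equiv.swap (0 : Fin 5) 1) 0 = 1 by decide, sv_one, M01, mulVec_mkM_mkV]
    apply mkV_congr; decide
  · rw [show (Equiv.swap (0 : Fin 5) 1) 1 = 0 by decide, sv_zero, M01, mulVec_mkM_mkV]
    apply mkV_congr; decide
  · rw [show (Equiv.swap (0 : Fin 5) 1) 2 = 2 by decide, sv_two, M01, mulVec_mkM_mkV]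
    apply mkV_congr; decide
  · rw [show (Equiv.swap (0 : Fin 5) 1) 3 = 3 by decide, sv_three, M01, mulVec_mkM_mkV]
    apply mkV_congr; decide
  · rw [show (Equiv.swap (0 : Fin 5) 1) 4 = 4 by decide, sv_four, M01, mulVec_mkM_mkV]
    apply mkV_congr; decide

theorem rho_g12 : rho g12 = Equiv.swap 1 2 := by
  apply rho_eq_of
  apply check5 M12
  · rw [show (Equiv.swap (1 : Fin 5) 2) 0 = 0 by decide, sv_zero, M12, mulVec_mkM_mkV]
    apply mkV_congr; decide
  · rw [show (Equiv.swap (1 : Fin 5) 2) 1 = 2 by decide, sv_two, M12, mulVec_mkM_mkV]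
    apply mkV_congr; decide
  · rw [show (Equiv.swap (1 : Fin 5) 2) 2 = 1 by decide, sv_one, M12, mulVec_mkM_mkV]
    apply mkV_congr; decide
  · rw [show (Equiv.swap (1 : Fin 5) 2) 3 = 3 by decide, sv_three, M12, mulVec_mkM_mkV]
    apply mkV_congr; decide
  · rw [show (Equiv.swap (1 : Fin 5) 2) 4 = 4 by decide, sv_four, M12, mulVec_mkM_mkV]
    apply mkV_congr; decide

theorem rho_g23 : rho g23 = Equiv.swap 2 3 := by
  apply rho_eq_of
  apply check5 M23
  · rw [show (Equiv.swap (2 : Fin 5) 3) 0 = 0 by decide, sv_zero, M23, mulVec_mkM_mkV]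
    apply mkV_congr; decide
  · rw [show (Equiv.swap (2 : Fin 5) 3) 1 = 1 by decide, sv_one, M23, mulVec_mkM_mkV]
    apply mkV_congr; decide
  · rw [show (Equiv.swap (2 : Fin 5) 3) 2 = 3 by decide, sv_three, M23, mulVec_mkM_mkV]
    apply mkV_congr; decide
  · rw [show (Equiv.swap (2 : Fin 5) 3) 3 = 2 by decide, sv_two, M23, mulVec_mkM_mkV]
    apply mkV_congr; decide
  · rw [show (Equiv.swap (2 : Fin 5) 3) 4 = 4 by decide, sv_four, M23, mulVec_mkM_mkV]
    apply mkV_congr; decide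

theorem rho_g34 : rho g34 = Equiv.swap 3 4 := by
  apply rho_eq_of
  apply check5 M34
  · rw [show (Equiv.swap (3 : Fin 5) 4) 0 = 0 by decide, sv_zero, M34, mulVec_mkM_mkV]
    apply mkV_congr; decide
  · rw [show (Equiv.swap (3 : Fin 5) 4) 1 = 1 by decide, sv_one, M34, mulVec_mkM_mkV]
    apply mkV_congr; decide
  · rw [show (Equiv.swap (3 : Fin 5) 4) 2 = 2 by decide, sv_two, M34, mulVec_mkM_mkV]
    apply mkV_congr; decide
  · rw [show (Equiv.swap (3 : Fin 5) 4) 3 = 4 by decide, sv_four, M34, mulVec_mkM_mkV]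
    apply mkV_congr; decide
  · rw [show (Equiv.swap (3 : Fin 5) 4) 4 = 3 by decide, sv_three, M34, mulVec_mkM_mkV]
    apply mkV_congr; decide

theorem rho_surjective : Function.Surjective rho := by
  rw [← MonoidHom.mrange_eq_top]
  apply top_unique
  rw [← Equiv.Perm.mclosure_swap_castSucc_succ 4, Submonoid.closure_le]
  rintro _ ⟨i, rfl⟩
  fin_cases i
  · exact ⟨g01, rho_g01⟩
  · exact ⟨g12, rho_g12⟩
  · exact ⟨g23, rho_g23⟩
  · exact ⟨g34, rho_g34⟩

/-- the isometry group of the minus-type form in dimension 4 over the field with two elements is the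
symmetric group of degree 5 -/
noncomputable def isoPerm : O4 ≃* Equiv.Perm (Fin 5) :=
  MulEquiv.ofBijective rho ⟨rho_injective, rho_surjective⟩

end Cfsg.Agent.Lib.Helper2.OMinus
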