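import Cfsg.Agent.Lib.Helper6.Mult.PM1
import Cfsg.Agent.Lib.Helper6.Spor.ONOrd

set_option autoImplicit false
set_option maxRecDepth 100000

/-! # The presented group `O'N` acting on 122760 points, as a model -/

namespace Cfsg.Agent.Lib.Helper2.ONM

open Cfsg.Spor Cfsg.Agent.Lib.Helper6 Cfsg.Agent.Lib.Helper6.TC Cfsg.Agent.Lib.Helper6.TCD
open Cfsg.Agent.Lib.Helper6.PM Cfsg.Agent.Lib.Helper6.TCP.ON

/-- the faithful permutation representation on 122760 points -/
noncomputable def phi : ON →* Equiv.Perm (Fin 122760) := Classical.choose ONOrd.rep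

theorem phi_spec : (∀ w, (∀ c ∈ w, c < 8) → ∀ p : Fin 122760,
      ((phi (PresentedGroup.mk Rels (wordElt gc w)))⁻¹ p).val = wapp ONa.px w p.val) ∧
    (∃ F : (ON ⧸ subH Rels Cfsg.Agent.S1692.S) ≃ Fin 122760, ∀ g q, F (g • q) = phi g (F q)) ∧
    Function.Injective phi ∧ Nat.card ON = 460815505920 ∧ Finite ON :=
  Classical.choose_spec ONOrd.rep

instance finite_ON : Finite ON := phi_spec.2.2.2.2

theorem card_ON : Nat.card ON = 460815505920 := phi_spec.2.2.2.1

/-- the element of the group given by a word of columns -/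
noncomputable def elt (w : List ℕ) : ON := PresentedGroup.mk Rels (wordElt gc w)

theorem closure_letters : Subgroup.closure {g : ON | ∃ c < 8, g = elt [c]} = ⊤ := by
  rw [eq_top_iff, ← PresentedGroup.closure_range_of]
  apply Subgroup.closure_mono
  rintro _ ⟨i, rfl⟩
  refine ⟨col i, col_lt i, ?_⟩
  unfold elt
  rw [wordElt_cons, wordElt_nil, mul_one]
  unfold ceOf
  rw [gc_col]
  rfl

/-- the model of the group -/
noncomputable def onModel : PModel where
  G := ON
  n := 122760
  nl := 8
  px := ONa.px
  elt := elt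
  phi := phi
  elt_nil := by
    unfold elt
    rw [wordElt_nil, map_one]
  elt_append := fun u v => by
    unfold elt
    rw [wordElt_append, map_mul]
  px_lt := fun c hc q hq => Cfsg.Agent.S1692.hP.hlt c hc q hq
  phi_inv_val := phi_spec.1
  phi_injective := phi_spec.2.2.1
  closure_letters := closure_letters

/-- the action on the points is transitive -/
theorem transitive : MulAction.IsPretransitive onModel.G (Fin onModel.n) := by
  obtain ⟨F, hF⟩ := phi_spec.2.1
  constructor
  intro x y
  obtain ⟨g, hg⟩ := MulAction.exists_smul_eq ON (F.symm x) (F.symm y)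
  refine ⟨g, ?_⟩
  show phi g x = y
  have h1 := hF g (F.symm x)
  have h2 : F (F.symm x) = x := Equiv.apply_symm_apply F x
  have h3 : F (F.symm y) = y := Equiv.apply_symm_apply F y
  rw [hg, h2, h3] at h1
  exact h1.symm

end Cfsg.Agent.Lib.Helper2.ONM
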