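import Cfsg.Agent.Lib.Helper2.ONOutDA
import Cfsg.Agent.Lib.Helper2.ONOutDB
import Cfsg.Agent.Lib.Helper2.RigidOut4
import Cfsg.Agent.Lib.Helper2.ONModel

set_option autoImplicit false
set_option maxRecDepth 100000

/-! # The presented group `O'N` on 122760 points: two verified chains of the stabilizer of a point -/

namespace Cfsg.Agent.Lib.Helper2.ONOut

open Cfsg.Agent.Lib.Helper6 Cfsg.Agent.Lib.Helper6.TC Cfsg.Agent.Lib.Helper6.TCD
open Cfsg.Agent.Lib.Helper6.PM Cfsg.Agent.Lib.Helper2.PMS Cfsg.Agent.Lib.Helper2.PMC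
open Cfsg.Agent.Lib.Helper2.ONOutD Cfsg.Agent.Lib.Helper2.RigidOut

/-- the model -/
noncomputable abbrev M : PModel := Cfsg.Agent.Lib.Helper2.ONM.onModel

instance finite_G : Finite M.G := Cfsg.Agent.Lib.Helper2.ONM.finite_ON

theorem card_G : Nat.card M.G = 460815505920 := Cfsg.Agent.Lib.Helper2.ONM.card_ON

/-- the inverse letters -/
noncomputable def iv : ℕ → ℕ := invc Cfsg.Agent.Lib.Helper6.TCP.ON.INV

theorem invMap : InvMap M iv :=
  fun c hc => ⟨Cfsg.Agent.S1692.hP.hinv1 c hc, Cfsg.Agent.S1692.hP.hpx c hc⟩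

theorem card_stab0 : Nat.card (stabL M [0]) = 3753792 := by
  have h := card_stabL_singleton (M := M) Cfsg.Agent.Lib.Helper2.ONM.transitive 0
  rw [card_G] at h
  have hn : M.n = 122760 := rfl
  rw [hn] at h
  have h2 : (3753792 : ℕ) * 122760 = 460815505920 := by norm_num
  rw [← h2] at h
  exact Nat.eq_of_mul_eq_mul_right (by norm_num) h

theorem chk_lvA : chkLevels M [0] lvA = true := by decide +kernel

theorem factsA : RelChainFacts M [0] lvA where
  hfix := by
    intro q hq
    rw [List.mem_singleton] at hq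
    rw [hq]
    show 0 < 122760
    norm_num
  hchk := chk_lvA
  hcard := by
    rw [card_stab0]
    decide +kernel

theorem chk_lvB : chkLevels M [0] lvB = true := by decide +kernel

theorem factsB : RelChainFacts M [0] lvB where
  hfix := factsA.hfix
  hchk := chk_lvB
  hcard := by
    rw [card_stab0]
    decide +kernel

end Cfsg.Agent.Lib.Helper2.ONOut
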