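import Cfsg.Agent.Lib.Helper2.ONOut1

set_option autoImplicit false
set_option maxRecDepth 100000

/-! # The presented group `O'N`: three generators, their orders and relations -/

namespace Cfsg.Agent.Lib.Helper2.ONOut

open Cfsg.Agent.Lib.Helper6 Cfsg.Agent.Lib.Helper6.TC Cfsg.Agent.Lib.Helper6.TCD
open Cfsg.Agent.Lib.Helper6.PM Cfsg.Agent.Lib.Helper2.PMS Cfsg.Agent.Lib.Helper2.PMC
open Cfsg.Agent.Lib.Helper2.ONOutD Cfsg.Agent.Lib.Helper2.RigidOut

/-- the element of order 19 -/
noncomputable def gp : M.G := M.elt wp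
/-- the element of order 6 -/
noncomputable def gh : M.G := M.elt wh
/-- the third generator -/
noncomputable def gv : M.G := M.elt wv

theorem lt_wp : ∀ c ∈ wp, c < M.nl := by decide
theorem lt_wh : ∀ c ∈ wh, c < M.nl := by decide
theorem lt_wv : ∀ c ∈ wv, c < M.nl := by decide
theorem lt_wc : ∀ c ∈ wc, c < M.nl := by decide

theorem gp_pow (k : ℕ) : gp ^ k = M.elt (rep k wp) := (elt_rep M k wp).symm
theorem gh_pow (k : ℕ) : gh ^ k = M.elt (rep k wh) := (elt_rep M k wh).symm

theorem gp_inv : gp⁻¹ = M.elt (invw iv wp) := (elt_invw M iv invMap wp lt_wp).symm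
theorem gh_inv : gh⁻¹ = M.elt (invw iv wh) := (elt_invw M iv invMap wh lt_wh).symm
theorem gv_inv : gv⁻¹ = M.elt (invw iv wv) := (elt_invw M iv invMap wv lt_wv).symm

theorem chk_pq : chkBaseR M [0] lvA (rep 19 wp) [] = true := by decide +kernel
theorem chk_p1 : chkNeAt M wp [] 1 = true := by decide +kernel

theorem gp_ne : gp ≠ 1 := by
  have := elt_ne_of_chkNeAt (M := M) _ _ _ chk_p1
  rwa [M.elt_nil] at this

theorem orderOf_gp : orderOf gp = 19 := by
  have : Fact (Nat.Prime 19) := ⟨by norm_num⟩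
  apply orderOf_eq_prime
  · rw [gp_pow, ← M.elt_nil]
    exact factsA.elt_eq_of_chk _ _ chk_pq
  · exact gp_ne

theorem chk_he : chkBaseR M [0] lvA (rep 6 wh) [] = true := by decide +kernel
theorem chk_h_3 : chkNeAt M (rep 3 wh) [] 1 = true := by decide +kernel
theorem chk_h_2 : chkNeAt M (rep 2 wh) [] 1 = true := by decide +kernel

theorem gh_pow_e : gh ^ 6 = 1 := by
  rw [gh_pow, ← M.elt_nil]
  exact factsA.elt_eq_of_chk _ _ chk_he

theorem orderOf_gh : orderOf gh = 6 := by
  apply orderOf_eq_of_pow_and_pow_div_prime (by norm_num) gh_pow_e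
  intro f hf hfe
  have hle : f ≤ 6 := Nat.le_of_dvd (by norm_num) hfe
  have h2 : 2 ≤ f := hf.two_le
  interval_cases f
  · show gh ^ 3 ≠ 1
    intro hc
    rw [gh_pow] at hc
    have := elt_ne_of_chkNeAt (M := M) _ _ _ chk_h_3
    rw [M.elt_nil] at this
    exact this hc
  · show gh ^ 2 ≠ 1
    intro hc
    rw [gh_pow] at hc
    have := elt_ne_of_chkNeAt (M := M) _ _ _ chk_h_2
    rw [M.elt_nil] at this
    exact this hc
  · exact absurd hf (by norm_num)
  · exact absurd hfe (by norm_num)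
  · exact absurd hf (by norm_num)

theorem chk_ph : chkBaseR M [0] lvA (invw iv wh ++ wp ++ wh) (rep 8 wp) = true := by decide +kernel

theorem rel_ph : gh⁻¹ * gp * gh = gp ^ 8 := by
  rw [gh_inv, gp_pow]
  unfold gp gh
  rw [← M.elt_append, ← M.elt_append]
  exact factsA.elt_eq_of_chk _ _ chk_ph

theorem chk_vh : chkBaseR M [0] lvA (invw iv wv ++ wh ++ wv) wh = true := by decide +kernel

theorem rel_vh : gv⁻¹ * gh * gv = gh := by
  rw [gv_inv]
  unfold gv gh
  rw [← M.elt_append, ← M.elt_append]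
  exact factsA.elt_eq_of_chk _ _ chk_vh

theorem fix0_wp : wapp M.px wp 0 = 0 := by
  have : wappS M.px wp 0 = 0 := by decide +kernel
  rwa [wappS_eq] at this

theorem fix0_wh : wapp M.px wh 0 = 0 := by
  have : wappS M.px wh 0 = 0 := by decide +kernel
  rwa [wappS_eq] at this

end Cfsg.Agent.Lib.Helper2.ONOut
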