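import Cfsg.Agent.Lib.Helper2.ONOut1

set_option autoImplicit false
set_option maxRecDepth 100000

/-! # The presented group `O'N`: the element of order 19 fixes one point only -/

namespace Cfsg.Agent.Lib.Helper2.ONOut

open Cfsg.Agent.Lib.Helper6 Cfsg.Agent.Lib.Helper6.TC Cfsg.Agent.Lib.Helper6.TCD
open Cfsg.Agent.Lib.Helper6.PM Cfsg.Agent.Lib.Helper2.PMS Cfsg.Agent.Lib.Helper2.PMC
open Cfsg.Agent.Lib.Helper2.ONOutD Cfsg.Agent.Lib.Helper2.RigidOut

theorem chk_fix_wp : chkFixPts M wp [0] = true := by decide +kernel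

theorem fix_wp : ∀ y < M.n, wapp M.px wp y = y → y ∈ [0] := fixPts_of_chk wp [0] chk_fix_wp

end Cfsg.Agent.Lib.Helper2.ONOut
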