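import Cfsg.Agent.Lib.Helper2.PMChain8

set_option autoImplicit false
set_option maxRecDepth 100000

/-! # Data for the automorphisms of the presented group `O'N` on 122760 points: the certificates of the searches around the element of order 19, and the tables of the candidates -/

namespace Cfsg.Agent.Lib.Helper2.ONOutD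

open Cfsg.Agent.Lib.Helper2.PMC

/-- the centralizer of the element of order 19 -/
def certCp : Cert := Cert.rl [(1, Cert.step [] (Cert.step [] (Cert.step [] (Cert.step [] (Cert.done []))))),
  (1, Cert.step [4, 5, 4] (Cert.step [6] (Cert.step [] (Cert.step [] (Cert.done [2, 3, 4, 5, 6, 7, 2, 3, 4, 5, 6, 7, 2, 3, 4, 5, 6, 7, 2, 3, 4, 5, 6, 7, 2, 3, 4, 5, 6, 7, 2, 3, 4, 5, 6, 7, 2, 3, 4, 5, 6, 7, 2, 3, 4, 5, 6, 7]))))),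
  (3, Cert.fail),
  (1, Cert.step [7, 6, 5, 4] (Cert.step [] (Cert.step [] (Cert.step [] (Cert.done [2, 3, 4, 5, 6, 7, 2, 3, 4, 5, 6, 7, 2, 3, 4, 5, 6, 7, 2, 3, 4, 5, 6, 7, 2, 3, 4, 5, 6, 7, 2, 3, 4, 5, 6, 7, 2, 3, 4, 5, 6, 7, 2, 3, 4, 5, 6, 7, 2, 3, 4, 5, 6, 7, 2, 3, 4, 5, 6, 7, 2, 3, 4, 5, 6, 7, 2, 3, 4, 5, 6, 7, 2, 3, 4, 5, 6, 7, 2, 3, 4, 5, 6, 7, 2, 3, 4, 5, 6, 7, 2, 3, 4, 5, 6, 7, 2, 3, 4, 5, 6, 7, 2, 3, 4, 5, 6, 7]))))),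
  (1, Cert.fail),
  (1, Cert.step [4, 5, 6] (Cert.step [2, 6, 5, 4, 7, 6, 5, 6, 7, 4] (Cert.step [] (Cert.step [2, 6, 7, 6, 4, 5, 6, 7, 4] (Cert.done [2, 3, 4, 5, 6, 7, 2, 3, 4, 5, 6, 7, 2, 3, 4, 5, 6, 7, 2, 3, 4, 5, 6, 7, 2, 3, 4, 5, 6, 7, 2, 3, 4, 5, 6, 7, 2, 3, 4, 5, 6, 7, 2, 3, 4, 5, 6, 7, 2, 3, 4, 5, 6, 7]))))),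
  (2, Cert.fail),
  (1, Cert.step [7, 6, 5] (Cert.step [2, 6, 5, 4, 7, 6, 5, 6, 7, 4] (Cert.step [5] (Cert.step [] (Cert.done [2, 3, 4, 5, 6, 7, 2, 3, 4, 5, 6, 7, 2, 3, 4, 5, 6, 7, 2, 3, 4, 5, 6, 7, 2, 3, 4, 5, 6, 7, 2, 3, 4, 5, 6, 7, 2, 3, 4, 5, 6, 7, 2, 3, 4, 5, 6, 7, 2, 3, 4, 5, 6, 7, 2, 3, 4, 5, 6, 7, 2, 3, 4, 5, 6, 7, 2, 3, 4, 5, 6, 7, 2, 3, 4, 5, 6, 7, 2, 3, 4, 5, 6, 7, 2, 3, 4, 5, 6, 7, 2, 3, 4, 5, 6, 7, 2, 3, 4, 5, 6, 7]))))),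
  (3, Cert.fail),
  (1, Cert.step [7, 6, 4] (Cert.step [6, 5] (Cert.step [2, 5, 4, 5, 6, 7, 5, 6, 5, 4] (Cert.step [2, 6, 7, 6, 4, 5, 6, 7, 4] (Cert.done [2, 3, 4, 5, 6, 7, 2, 3, 4, 5, 6, 7, 2, 3, 4, 5, 6, 7, 2, 3, 4, 5, 6, 7, 2, 3, 4, 5, 6, 7, 2, 3, 4, 5, 6, 7, 2, 3, 4, 5, 6, 7, 2, 3, 4, 5, 6, 7, 2, 3, 4, 5, 6, 7, 2, 3, 4, 5, 6, 7]))))),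
  (17, Cert.fail),
  (1, Cert.step [7, 6, 5] (Cert.step [2, 6, 5, 4, 7, 6, 5, 6, 7, 4] (Cert.step [2, 5, 4, 5, 6, 7, 5, 6, 5, 4] (Cert.step [2, 6, 7, 6, 4, 5, 6, 7, 4] (Cert.done [2, 3, 4, 5, 6, 7, 2, 3, 4, 5, 6, 7, 2, 3, 4, 5, 6, 7, 2, 3, 4, 5, 6, 7, 2, 3, 4, 5, 6, 7, 2, 3, 4, 5, 6, 7, 2, 3, 4, 5, 6, 7, 2, 3, 4, 5, 6, 7, 2, 3, 4, 5, 6, 7, 2, 3, 4, 5, 6, 7, 2, 3, 4, 5, 6, 7, 2, 3, 4, 5, 6, 7, 2, 3, 4, 5, 6, 7, 2, 3, 4, 5, 6, 7, 2, 3, 4, 5, 6, 7, 2, 3, 4, 5, 6, 7]))))),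
  (11, Cert.fail),
  (1, Cert.step [2] (Cert.step [] (Cert.step [] (Cert.step [] (Cert.done [2, 3, 4, 5, 6, 7]))))),
  (6, Cert.fail),
  (1, Cert.step [4, 5, 6] (Cert.step [6] (Cert.step [5] (Cert.step [2, 6, 7, 6, 4, 5, 6, 7, 4] (Cert.done [2, 3, 4, 5, 6, 7, 2, 3, 4, 5, 6, 7, 2, 3, 4, 5, 6, 7, 2, 3, 4, 5, 6, 7, 2, 3, 4, 5, 6, 7, 2, 3, 4, 5, 6, 7, 2, 3, 4, 5, 6, 7, 2, 3, 4, 5, 6, 7, 2, 3, 4, 5, 6, 7, 2, 3, 4, 5, 6, 7, 2, 3, 4, 5, 6, 7]))))),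
  (7, Cert.fail),
  (1, Cert.step [2, 4, 5, 4] (Cert.step [] (Cert.step [] (Cert.step [2, 6, 7, 6, 4, 5, 6, 7, 4] (Cert.done [2, 3, 4, 5, 6, 7, 2, 3, 4, 5, 6, 7, 2, 3, 4, 5, 6, 7, 2, 3, 4, 5, 6, 7, 2, 3, 4, 5, 6, 7, 2, 3, 4, 5, 6, 7, 2, 3, 4, 5, 6, 7]))))),
  (64, Cert.fail),
  (1, Cert.step [2] (Cert.step [] (Cert.step [] (Cert.step [] (Cert.done [2, 3, 4, 5, 6, 7, 2, 3, 4, 5, 6, 7]))))),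
  (18, Cert.fail),
  (1, Cert.step [2, 4, 5, 4] (Cert.step [] (Cert.step [] (Cert.step [2, 6, 7, 6, 4, 5, 6, 7, 4] (Cert.done [2, 3, 4, 5, 6, 7, 2, 3, 4, 5, 6, 7, 2, 3, 4, 5, 6, 7, 2, 3, 4, 5, 6, 7, 2, 3, 4, 5, 6, 7, 2, 3, 4, 5, 6, 7]))))),
  (617, Cert.fail),
  (1, Cert.step [7, 6, 5] (Cert.step [2, 6, 5, 4, 7, 6, 5, 6, 7, 4] (Cert.step [2, 5, 4, 5, 6, 7, 5, 6, 5, 4] (Cert.step [] (Cert.done [2, 3, 4, 5, 6, 7, 2, 3, 4, 5, 6, 7, 2, 3, 4, 5, 6, 7, 2, 3, 4, 5, 6, 7, 2, 3, 4, 5, 6, 7, 2, 3, 4, 5, 6, 7, 2, 3, 4, 5, 6, 7, 2, 3, 4, 5, 6, 7, 2, 3, 4, 5, 6, 7, 2, 3, 4, 5, 6, 7, 2, 3, 4, 5, 6, 7, 2, 3, 4, 5, 6, 7, 2, 3, 4, 5, 6, 7, 2, 3, 4,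 5, 6, 7, 2, 3, 4, 5, 6, 7]))))),
  (453, Cert.fail),
  (1, Cert.step [7, 6, 4] (Cert.step [6] (Cert.step [2, 5, 4, 5, 6, 7, 5, 6, 5, 4] (Cert.step [2, 6, 7, 6, 4, 5, 6, 7, 4] (Cert.done [2, 3, 4, 5, 6, 7, 2, 3, 4, 5, 6, 7, 2, 3, 4, 5, 6, 7, 2, 3, 4, 5, 6, 7, 2, 3, 4, 5, 6, 7, 2, 3, 4, 5, 6, 7, 2, 3, 4, 5, 6, 7, 2, 3, 4, 5, 6, 7, 2, 3, 4, 5, 6, 7, 2, 3, 4, 5, 6, 7, 2, 3, 4, 5, 6, 7, 2, 3, 4, 5, 6, 7]))))),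
  (1034, Cert.fail),
  (1, Cert.step [4, 5, 4] (Cert.step [] (Cert.step [5] (Cert.step [] (Cert.done [2, 3, 4, 5, 6, 7, 2, 3, 4, 5, 6, 7, 2, 3, 4, 5, 6, 7]))))),
  (27, Cert.fail),
  (1, Cert.step [4, 5, 6, 2] (Cert.step [] (Cert.step [2, 5, 4, 5, 6, 7, 5, 6, 5, 4] (Cert.step [] (Cert.done [2, 3, 4, 5, 6, 7, 2, 3, 4, 5, 6, 7, 2, 3, 4, 5, 6, 7, 2, 3, 4, 5, 6, 7, 2, 3, 4, 5, 6, 7]))))),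
  (1356, Cert.fail),
  (1, Cert.step [4, 2] (Cert.step [] (Cert.step [] (Cert.step [] (Cert.done [2, 3, 4, 5, 6, 7, 2, 3, 4, 5, 6, 7, 2, 3, 4, 5, 6, 7, 2, 3, 4, 5, 6, 7]))))),
  (1803, Cert.fail),
  (1, Cert.step [7, 2] (Cert.step [6, 5] (Cert.step [2, 5, 4, 5, 6, 7, 5, 6, 5, 4] (Cert.step [2, 6, 7, 6, 4, 5, 6, 7, 4] (Cert.done [2, 3, 4, 5, 6, 7, 2, 3, 4, 5, 6, 7, 2, 3, 4, 5, 6, 7, 2, 3, 4, 5, 6, 7, 2, 3, 4, 5, 6, 7, 2, 3, 4, 5, 6, 7, 2, 3, 4, 5, 6, 7, 2, 3, 4, 5, 6, 7, 2, 3, 4, 5, 6, 7, 2, 3, 4, 5, 6, 7, 2, 3, 4, 5, 6, 7, 2, 3, 4, 5, 6, 7, 2, 3, 4, 5, 6, 7]))))),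
  (20, Cert.fail),
  (1, Cert.step [7, 6, 5] (Cert.step [2, 6, 5, 4, 7, 6, 5, 6, 7, 4] (Cert.step [2, 5, 4, 5, 6, 7, 5, 6, 5, 4] (Cert.step [] (Cert.done [2, 3, 4, 5, 6, 7, 2, 3, 4, 5, 6, 7, 2, 3, 4, 5, 6, 7, 2, 3, 4, 5, 6, 7, 2, 3, 4, 5, 6, 7, 2, 3, 4, 5, 6, 7, 2, 3, 4, 5, 6, 7, 2, 3, 4, 5, 6, 7, 2, 3, 4, 5, 6, 7, 2, 3, 4, 5, 6, 7, 2, 3, 4, 5, 6, 7, 2, 3, 4, 5, 6, 7, 2, 3, 4, 5, 6, 7, 2, 3, 4, 5, 6, 7]))))),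
  (125, Cert.fail)]

/-- no element conjugates the element of order 19 to its square -/
def certT2 : Cert := Cert.rl [(5586, Cert.fail)]

/-- no element conjugates the element of order 19 to its fourth power -/
def certT4 : Cert := Cert.rl [(5586, Cert.fail)]

/-- the candidates for the image of the third generator, but one, for the exponent 1 -/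
def tab1a : List (List ℕ × ℕ × ℕ × ℕ) := [
  ([], 0, 0, 1),
  ([3, 2, 4, 5, 4, 3, 6, 5, 7, 4, 5, 4, 3, 2, 6, 5, 4, 3, 7, 6, 5, 4, 3, 5, 4, 6, 7], 0, 0, 1),
  ([3, 5, 4, 5, 4, 6, 5, 4, 3, 5, 6, 4, 5, 4, 6, 5, 4, 3, 5, 4, 5, 6, 5, 4, 3, 2, 5, 4, 3, 7, 6], 0, 0, 1),
  ([4, 7, 6, 5, 4, 3, 5, 4, 6, 5, 4, 3, 2, 5, 4, 5, 4, 5, 3, 4, 5, 6, 7, 4, 5, 3, 4, 5, 3, 5, 4, 3, 6, 5, 4, 5, 4, 3, 6, 5, 4, 5, 6, 7, 6], 0, 0, 1),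
  ([3, 4, 5, 4, 5, 6, 5, 4, 3, 5, 7, 6, 5, 4, 5, 4, 6, 5, 4, 3, 5, 4, 5, 4, 3, 2, 6, 5, 4, 3, 5, 4], 0, 0, 1),
  ([3, 2, 5, 6, 5, 4, 5, 3, 4, 5, 4, 3, 6, 5, 4, 5, 4, 6, 5, 4, 3, 2, 5, 4, 3, 5, 4, 6, 5, 4, 7, 6], 0, 0, 1),
  ([4, 3, 7, 6, 5, 4, 5, 4, 5, 2, 3, 4, 5, 4, 5, 4, 3, 6, 5, 4, 5, 4, 3, 6, 5, 4, 3, 5, 4, 3, 5], 0, 0, 1),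
  ([3, 2, 4, 5, 6, 5, 7, 6, 5, 4, 3, 5, 6, 2, 4, 3, 5, 4, 3, 2, 5, 6, 5, 4, 3, 2, 7, 6, 5, 4], 0, 0, 1),
  ([6, 5, 4, 3, 4, 5, 6, 4, 5, 4, 3, 6, 5, 4, 5, 4, 3, 2, 6, 5, 7, 6], 0, 0, 1),
  ([3, 2, 4, 5, 6, 5, 4, 3, 5, 4, 5, 4, 6, 5, 4, 3, 2, 5, 4, 3, 5, 6, 5, 4, 3, 5, 4, 3, 5], 0, 0, 1),
  ([3, 2, 5, 4, 5, 7, 6, 5, 4, 3, 5, 6, 7, 2, 4, 3, 5, 4, 5, 6, 5, 4, 3, 2, 5, 4, 3, 5, 6, 5, 4], 0, 0, 1),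
  ([3, 2, 6, 5, 7, 6, 5, 4, 3, 5, 6, 4, 5, 4, 3, 6, 5, 4, 3, 2, 5, 4, 3, 6], 0, 0, 1),
  ([3, 7, 6, 0, 5, 4, 3, 5, 4, 0, 3, 6, 5, 0, 4, 5, 6, 1, 3, 1], 1, 0, 0),
  ([3, 4, 5, 7, 6, 5, 4, 3, 5, 6, 7, 4, 5, 4, 3, 6, 5, 4, 3, 5, 4, 3, 6, 5, 4, 3, 5, 4, 6, 5, 4, 3, 7, 0, 3, 4, 5, 4, 1, 3, 2, 6, 7], 0, 0, 0),
  ([3, 2, 4, 3, 6, 5, 4, 5, 4, 3, 6, 5, 4, 5, 1, 3, 4, 5, 4, 1, 6, 3, 1, 1], 0, 0, 0),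
  ([3, 2, 5, 6, 7, 6, 5, 4, 3, 5, 6, 4, 5, 4, 3, 6, 5, 4, 3, 5, 6, 7, 6, 5, 4, 3, 2, 5, 4, 3, 6, 0, 3, 4, 5, 4, 1, 3, 2, 6, 7], 0, 1, 0),
  ([1, 3, 4, 5, 6, 1, 3, 2, 6, 5, 4, 5, 6, 1, 3, 4, 5, 6, 2, 3, 4, 0, 5, 1], 0, 0, 0),
  ([2, 3, 4, 7, 6, 5, 4, 5, 4, 5, 6, 7, 3, 5, 4, 3, 6, 5, 4, 3, 5, 6, 7, 6, 5, 4, 3, 5, 4, 6, 0, 3, 4, 5, 4, 1, 3, 2, 6, 7], 0, 0, 0),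
  ([2, 6, 7, 6, 3, 4, 3, 5, 4, 3, 5, 6, 5, 4, 3, 5, 4, 5, 6, 5, 4, 3, 5, 7, 0, 3, 4, 5, 4, 1, 3, 2, 6, 7], 0, 0, 0),
  ([5, 4, 3, 6, 4, 5, 6, 7, 6, 4, 5, 4, 3, 6, 5, 4, 3, 2, 5, 4, 3, 6, 5, 7, 6, 5, 4, 3, 5, 0, 3, 4, 5, 4, 1, 3, 2, 6, 7], 0, 0, 0),
  ([3, 5, 4, 5, 4, 6, 5, 4, 3, 5, 2, 4, 5, 4, 3, 6, 5, 4, 3, 5, 4, 3, 2, 6, 5, 4, 5, 0, 3, 4, 5, 4, 1, 3, 2, 6, 7], 0, 0, 0),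
  ([4, 3, 2, 5, 4, 3, 5, 4, 6, 5, 7, 3, 4, 5, 4, 5, 6, 5, 4, 5, 3, 5, 4, 6, 5, 4, 3, 5, 4, 5, 6, 7, 0, 3, 4, 5, 4, 1, 3, 2, 6, 7], 0, 0, 0),
  ([0, 3, 4, 6, 0, 3, 5, 6, 1, 4, 5, 4, 6, 5, 3, 4, 0, 5, 6, 2, 3, 1, 4, 1], 0, 1, 0),
  ([3, 2, 4, 3, 6, 7, 5, 6, 5, 2, 4, 3, 5, 4, 3, 5, 6, 5, 4, 3, 2, 7, 6, 5, 4, 3, 2, 0, 3, 4, 5, 4, 1, 3, 2, 6, 7], 0, 0, 0),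
  ([3, 2, 6, 5, 7, 6, 5, 4, 3, 5, 6, 2, 4, 3, 5, 4, 3, 6, 5, 4, 3, 5, 4, 6, 5, 4, 7, 6, 5, 4, 3, 2, 5, 4, 3, 5, 4, 5, 6, 5, 4, 5, 0, 3, 4, 5, 4, 5, 6, 5, 4, 1, 3, 4, 0, 5], 0, 1, 0),
  ([5, 6, 2, 4, 3, 5, 4, 5, 6, 5, 4, 3, 5, 4, 5, 6, 5, 4, 3, 5, 4, 5, 6, 7, 6, 5, 4, 0, 3, 4, 5, 4, 5, 6, 5, 4, 1, 3, 4, 0, 5], 0, 0, 0),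
  ([3, 4, 7, 6, 5, 4, 3, 5, 6, 2, 4, 3, 5, 4, 3, 5, 6, 5, 4, 3, 5, 4, 5, 4, 6, 5, 4, 3, 2, 7, 6, 5, 4, 3, 5, 4, 6, 0, 3, 4, 5, 4, 5, 6, 5, 4, 1, 3, 4, 0, 5], 0, 0, 0),
  ([3, 5, 4, 5, 4, 6, 5, 4, 3, 7, 6, 5, 4, 5, 4, 6, 5, 4, 3, 2, 5, 4, 0, 3, 4, 5, 4, 5, 6, 5, 4, 1, 3, 4, 0, 5], 0, 0, 0),
  ([7, 6, 5, 0, 3, 4, 3, 5, 4, 0, 3, 0, 6, 5, 4, 5, 6, 7, 4, 3], 0, 1, 0),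
  ([2, 3, 4, 5, 4, 5, 6, 5, 4, 5, 7, 4, 5, 6, 5, 4, 5, 3, 4, 5, 2, 4, 5, 4, 3, 6, 5, 4, 3, 5, 4, 3, 6, 5, 4, 3, 2, 7, 6, 0, 3, 4, 5, 4, 5, 6, 5, 4, 1, 3, 4, 0, 5], 0, 0, 0),
  ([3, 2, 5, 4, 5, 7, 6, 5, 4, 3, 5, 6, 2, 4, 3, 5, 4, 3, 6, 5, 4, 3, 2, 5, 7, 6, 5, 4, 3, 2, 5, 4, 5, 0, 3, 4, 5, 4, 5, 6, 5, 4, 1, 3, 4, 0, 5], 0, 0, 0),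
  ([5, 4, 3, 2, 5, 4, 5, 4, 5, 6, 7, 3, 4, 5, 2, 4, 5, 4, 3, 2, 6, 5, 4, 3, 5, 4, 5, 6, 5, 4, 3, 7, 6, 5, 0, 3, 4, 5, 4, 5, 6, 5, 4, 1, 3, 4, 0, 5], 0, 0, 0),
  ([0, 5, 1, 4, 3, 2, 6, 5, 4, 3, 0, 6, 5, 4, 5, 6, 2, 3, 0, 6, 5, 4, 3, 0], 0, 0, 0),
  ([4, 3, 2, 6, 5, 4, 5, 4, 5, 3, 4, 5, 6, 2, 4, 3, 5, 4, 3, 6, 5, 4, 3, 2, 5, 4, 3, 6, 5, 4, 3, 2, 5, 6, 0, 3, 4, 5, 4, 5, 6, 5, 4, 1, 3, 4, 0, 5], 0, 0, 0),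
  ([4, 1, 3, 1, 6, 5, 4, 5, 1, 3, 6, 5, 4, 5, 1, 3, 1, 4, 3, 0, 5, 6, 3, 2], 0, 0, 0),
  ([4, 3, 2, 6, 5, 4, 5, 4, 5, 6, 7, 3, 4, 2, 4, 3, 5, 4, 5, 6, 5, 4, 3, 5, 4, 3, 5, 6, 5, 4, 3, 5, 4, 5, 4, 6, 5, 0, 5, 6, 5, 4, 3, 5, 0, 4, 3, 6, 1, 5, 4, 5], 0, 0, 0),
  ([3, 6, 5, 4, 5, 4, 6, 5, 4, 3, 7, 2, 4, 3, 5, 4, 3, 6, 5, 4, 3, 7, 6, 5, 4, 3, 2, 5, 4, 3, 6, 5, 7, 6, 0, 5, 6, 5, 4, 3, 5, 0, 4, 3, 6, 1, 5, 4, 5], 0, 0, 0),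
  ([2, 7, 3, 2, 4, 5, 4, 3, 6, 5, 4, 3, 2, 5, 4, 6, 5, 7, 0, 5, 6, 5, 4, 3, 5, 0, 4, 3, 6, 1, 5, 4, 5], 0, 0, 0),
  ([3, 2, 7, 6, 5, 4, 5, 4, 6, 5, 4, 3, 5, 2, 4, 5, 4, 3, 6, 5, 4, 5, 4, 3, 6, 5, 4, 5, 7, 6, 5, 4, 5, 0, 5, 6, 5, 4, 3, 5, 0, 4, 3, 6, 1, 5, 4, 5], 0, 0, 0),
  ([6, 5, 4, 3, 4, 5, 6, 7, 4, 5, 4, 3, 2, 6, 5, 4, 3, 5, 4, 5, 6, 5, 4, 5, 6, 7, 0, 5, 6, 5, 4, 3, 5, 0, 4, 3, 6, 1, 5, 4, 5], 0, 1, 0),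
  ([3, 2, 5, 4, 5, 4, 6, 5, 4, 3, 7, 6, 2, 4, 5, 4, 3, 2, 6, 5, 4, 3, 5, 4, 6, 5, 4, 3, 7, 6, 5, 4, 3, 5, 6, 7, 0, 5, 6, 5, 4, 3, 5, 0, 4, 3, 6, 1, 5, 4, 5], 0, 0, 0),
  ([3, 5, 4, 3, 6, 1, 5, 6, 5, 4, 3, 5, 4, 1, 6, 3, 4, 1, 5, 4, 3, 0], 0, 0, 0),
  ([3, 4, 5, 4, 6, 5, 4, 7, 6, 5, 4, 3, 2, 4, 3, 5, 4, 3, 5, 6, 5, 4, 3, 2, 5, 7, 6, 5, 4, 3, 5, 0, 5, 6, 5, 4, 3, 5, 0, 4, 3, 6, 1, 5, 4, 5], 0, 0, 0),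
  ([3, 4, 5, 6, 7, 6, 4, 3, 4, 5, 4, 3, 2, 6, 5, 4, 3, 2, 5, 4, 3, 6, 5, 0, 5, 6, 5, 4, 3, 5, 0, 4, 3, 6, 1, 5, 4, 5], 0, 0, 0),
  ([3, 2, 4, 5, 4, 7, 6, 5, 4, 3, 2, 4, 3, 5, 4, 3, 6, 5, 4, 3, 2, 5, 7, 6, 5, 4, 3, 5, 4, 3, 5, 6, 5, 7, 6, 0, 5, 6, 5, 4, 3, 5, 0, 4, 3, 6, 1, 5, 4, 5], 0, 0, 0),
  ([5, 4, 6, 7, 3, 5, 4, 3, 2, 6, 5, 4, 3, 5, 4, 6, 5, 4, 3, 5, 4, 6, 0, 5, 6, 5, 4, 3, 5, 0, 4, 3, 6, 1, 5, 4, 5], 0, 0, 0),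
  ([3, 2, 5, 6, 7, 4, 3, 4, 5, 4, 3, 6, 5, 4, 3, 5, 4, 3, 5, 4, 6, 5, 7, 6, 0, 5, 6, 5, 4, 3, 5, 0, 4, 3, 6, 1, 5, 4, 5], 0, 0, 0),
  ([3, 5, 4, 5, 4, 6, 5, 4, 3, 5, 4, 5, 4, 3, 6, 5, 4, 5, 4, 3, 2, 6, 5, 4, 5, 6, 7, 0, 6, 5, 1, 4, 3, 5, 4, 6, 5, 4, 3, 1, 3, 4], 0, 0, 0),
  ([3, 4, 6, 5, 4, 3, 2, 4, 3, 5, 4, 3, 2, 6, 5, 4, 3, 7, 6, 5, 4, 3, 5, 4, 3, 2, 6, 5, 4, 3, 5, 4, 6, 5, 4, 5, 6, 0, 6, 5, 1, 4, 3, 5, 4, 6, 5, 4, 3, 1, 3, 4], 0, 0, 0),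
  ([7, 6, 5, 4, 7, 3, 4, 5, 4, 5, 4, 3, 6, 5, 4, 3, 2, 5, 4, 3, 6, 5, 4, 3, 2, 5, 6, 0, 6, 5, 1, 4, 3, 5, 4, 6, 5, 4, 3, 1, 3, 4], 0, 0, 0),
  ([5, 4, 5, 1, 3, 6, 0, 4, 3, 2, 5, 4, 6, 3, 1, 6, 5, 4, 5, 6, 1, 3, 4, 3], 0, 0, 0),
  ([0, 4, 6, 0, 5, 6, 0, 4, 3, 5, 0, 4, 5, 3, 4, 3, 1, 6, 5, 1, 6, 4, 1], 0, 0, 0),
  ([3, 2, 5, 7, 4, 5, 3, 4, 5, 4, 3, 6, 5, 4, 5, 4, 3, 6, 5, 4, 3, 5, 7, 6, 0, 6, 5, 1, 4, 3, 5, 4, 6, 5, 4, 3, 1, 3, 4], 0, 0, 0),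
  ([3, 5, 4, 5, 6, 4, 5, 3, 4, 5, 4, 6, 5, 4, 3, 2, 5, 4, 3, 5, 6, 5, 4, 5, 4, 3, 2, 6, 7, 0, 6, 5, 1, 4, 3, 5, 4, 6, 5, 4, 3, 1, 3, 4], 0, 0, 0),
  ([3, 2, 5, 6, 5, 7, 6, 5, 4, 3, 5, 6, 7, 4, 5, 4, 3, 6, 5, 4, 3, 5, 4, 3, 2, 5, 6, 5, 4, 5, 6, 7, 0, 6, 5, 1, 4, 3, 5, 4, 6, 5, 4, 3, 1, 3, 4], 0, 0, 0),
  ([4, 3, 6, 5, 4, 3, 5, 4, 3, 4, 5, 6, 2, 3, 4, 3, 4, 3, 5, 4, 3, 2, 6, 5, 4, 3, 2, 7, 6, 5, 4, 5, 6, 7, 0, 6, 5, 1, 4, 3, 5, 4, 6, 5, 4, 3, 1, 3, 4], 0, 0, 0),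
  ([3, 5, 4, 7, 6, 5, 4, 3, 2, 4, 3, 5, 4, 3, 5, 6, 5, 4, 3, 2, 5, 4, 3, 5, 6, 7, 0, 6, 5, 1, 4, 3, 5, 4, 6, 5, 4, 3, 1, 3, 4], 0, 0, 0),
  ([6, 5, 4, 5, 1, 3, 2, 4, 3, 5, 0, 6, 5, 4, 5, 3, 4, 1, 6, 2, 3, 2], 0, 0, 0),
  ([4, 3, 0, 6, 5, 4, 0, 3, 5, 6, 0, 4, 5, 6, 4, 0, 3, 1, 4, 5, 3, 4, 5, 0], 0, 0, 0),
  ([4, 3, 5, 4, 5, 6, 5, 4, 5, 6, 7, 6, 5, 4, 5, 6, 4, 5, 3, 4, 5, 2, 4, 3, 5, 4, 3, 6, 5, 4, 3, 5, 4, 6, 5, 4, 7, 6, 5, 4, 3, 2, 5, 4, 3, 5, 4, 5, 6, 5, 4, 5, 0, 3, 2, 4, 3, 6, 5, 4, 3, 0, 6, 0, 5, 6, 1, 4], 0, 0, 0),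
  ([2, 5, 6, 5, 4, 3, 5, 4, 5, 4, 5, 4, 5, 3, 4, 5, 6, 4, 3, 5, 4, 3, 2, 5, 6, 5, 4, 3, 5, 4, 5, 6, 5, 0, 3, 2, 4, 3, 6, 5, 4, 3, 0, 6, 0, 5, 6, 1, 4], 0, 0, 0),
  ([5, 6, 5, 2, 4, 3, 5, 4, 3, 6, 5, 4, 3, 2, 5, 7, 6, 5, 4, 5, 4, 3, 2, 6, 5, 4, 3, 5, 6, 7, 0, 3, 2, 4, 3, 6, 5, 4, 3, 0, 6, 0, 5, 6, 1, 4], 0, 0, 0),
  ([3, 2, 4, 5, 4, 5, 3, 4, 5, 4, 3, 6, 5, 4, 3, 5, 4, 3, 5, 6, 5, 4, 3, 5, 4, 6, 5, 4, 0, 3, 2, 4, 3, 6, 5, 4, 3, 0, 6, 0, 5, 6, 1, 4], 0, 0, 0),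
  ([3, 2, 6, 7, 5, 4, 3, 4, 5, 4, 3, 6, 5, 4, 3, 2, 5, 6, 7, 6, 5, 4, 3, 2, 5, 4, 3, 6, 5, 0, 3, 2, 4, 3, 6, 5, 4, 3, 0, 6, 0, 5, 6, 1, 4], 0, 0, 0),
  ([5, 4, 3, 5, 4, 3, 5, 4, 6, 5, 4, 3, 2, 5, 4, 5, 4, 5, 3, 4, 5, 6, 4, 5, 3, 4, 5, 3, 4, 5, 2, 4, 3, 5, 4, 3, 5, 6, 5, 4, 3, 5, 4, 5, 6, 5, 4, 3, 0, 3, 2, 4, 3, 6, 5, 4, 3, 0, 6, 0, 5, 6, 1, 4], 0, 0, 0),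
  ([3, 4, 5, 6, 5, 4, 5, 4, 6, 5, 4, 3, 2, 4, 3, 5, 4, 3, 2, 5, 6, 5, 4, 3, 5, 4, 3, 6, 5, 4, 7, 6, 5, 0, 3, 2, 4, 3, 6, 5, 4, 3, 0, 6, 0, 5, 6, 1, 4], 0, 0, 0),
  ([3, 5, 4, 5, 6, 5, 4, 5, 4, 3, 6, 2, 4, 3, 5, 4, 3, 5, 6, 5, 4, 3, 2, 5, 4, 5, 6, 7, 0, 3, 2, 4, 3, 6, 5, 4, 3, 0, 6, 0, 5, 6, 1, 4], 0, 0, 0),
  ([1, 3, 4, 5, 0, 4, 3, 6, 0, 4, 3, 5, 4, 5, 6, 5, 0, 6, 3, 4, 5, 3], 0, 0, 0),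
  ([3, 2, 5, 4, 5, 6, 5, 4, 3, 5, 7, 6, 5, 4, 5, 4, 3, 2, 6, 5, 4, 3, 5, 4, 5, 4, 6, 5, 4, 3, 5, 4, 6, 5, 4, 7, 0, 3, 2, 4, 3, 6, 5, 4, 3, 0, 6, 0, 5, 6, 1, 4], 0, 1, 0),
  ([3, 7, 6, 5, 4, 5, 4, 3, 6, 5, 2, 4, 3, 5, 4, 3, 6, 5, 4, 3, 5, 4, 3, 6, 5, 4, 3, 2, 5, 6, 7, 0, 3, 2, 4, 3, 6, 5, 4, 3, 0, 6, 0, 5, 6, 1, 4], 0, 0, 0),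
  ([3, 6, 5, 4, 7, 6, 5, 4, 3, 5, 6, 2, 4, 5, 4, 3, 6, 5, 4, 5, 4, 3, 6, 5, 4, 5, 4, 6, 5, 4, 5, 0, 3, 2, 4, 3, 6, 5, 4, 3, 0, 6, 0, 5, 6, 1, 4], 0, 0, 0)]

/-- the last candidate for the image of the third generator, for the exponent 1 -/
def tab1b : List (List ℕ × ℕ × ℕ × ℕ) := [
  ([0, 4, 0, 3, 2, 6, 5, 1, 4, 3, 5, 4, 6, 5, 4, 0, 6, 5, 3, 1, 6, 4, 3, 1], 1, 0, 0)]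

/-- the candidates for the image of the third generator, for the exponent 2 -/
def tab2 : List (List ℕ × ℕ × ℕ × ℕ) := [
  ([], 0, 0, 1),
  ([3, 2, 4, 5, 4, 3, 6, 5, 7, 4, 5, 4, 3, 2, 6, 5, 4, 3, 7, 6, 5, 4, 3, 5, 4, 6, 7], 0, 0, 1),
  ([3, 5, 4, 5, 4, 6, 5, 4, 3, 5, 6, 4, 5, 4, 6, 5, 4, 3, 5, 4, 5, 6, 5, 4, 3, 2, 5, 4, 3, 7, 6], 0, 0, 1),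
  ([4, 7, 6, 5, 4, 3, 5, 4, 6, 5, 4, 3, 2, 5, 4, 5, 4, 5, 3, 4, 5, 6, 7, 4, 5, 3, 4, 5, 3, 5, 4, 3, 6, 5, 4, 5, 4, 3, 6, 5, 4, 5, 6, 7, 6], 0, 0, 1),
  ([3, 4, 5, 4, 5, 6, 5, 4, 3, 5, 7, 6, 5, 4, 5, 4, 6, 5, 4, 3, 5, 4, 5, 4, 3, 2, 6, 5, 4, 3, 5, 4], 0, 0, 1),
  ([3, 2, 5, 6, 5, 4, 5, 3, 4, 5, 4, 3, 6, 5, 4, 5, 4, 6, 5, 4, 3, 2, 5, 4, 3, 5, 4, 6, 5, 4, 7, 6], 0, 0, 1),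
  ([4, 3, 7, 6, 5, 4, 5, 4, 5, 2, 3, 4, 5, 4, 5, 4, 3, 6, 5, 4, 5, 4, 3, 6, 5, 4, 3, 5, 4, 3, 5], 0, 0, 1),
  ([3, 2, 4, 5, 6, 5, 7, 6, 5, 4, 3, 5, 6, 2, 4, 3, 5, 4, 3, 2, 5, 6, 5, 4, 3, 2, 7, 6, 5, 4], 0, 0, 1),
  ([6, 5, 4, 3, 4, 5, 6, 4, 5, 4, 3, 6, 5, 4, 5, 4, 3, 2, 6, 5, 7, 6], 0, 0, 1),
  ([3, 2, 4, 5, 6, 5, 4, 3, 5, 4, 5, 4, 6, 5, 4, 3, 2, 5, 4, 3, 5, 6, 5, 4, 3, 5, 4, 3, 5], 0, 0, 1),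
  ([3, 2, 5, 4, 5, 7, 6, 5, 4, 3, 5, 6, 7, 2, 4, 3, 5, 4, 5, 6, 5, 4, 3, 2, 5, 4, 3, 5, 6, 5, 4], 0, 0, 1),
  ([3, 2, 6, 5, 7, 6, 5, 4, 3, 5, 6, 4, 5, 4, 3, 6, 5, 4, 3, 2, 5, 4, 3, 6], 0, 0, 1),
  ([3, 7, 6, 0, 5, 4, 3, 5, 4, 0, 3, 6, 5, 0, 4, 5, 6, 1, 3, 1], 0, 0, 0),
  ([3, 4, 5, 7, 6, 5, 4, 3, 5, 6, 7, 4, 5, 4, 3, 6, 5, 4, 3, 5, 4, 3, 6, 5, 4, 3, 5, 4, 6, 5, 4, 3, 7, 0, 3, 4, 5, 4, 1, 3, 2, 6, 7], 0, 0, 0),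
  ([3, 2, 4, 3, 6, 5, 4, 5, 4, 3, 6, 5, 4, 5, 1, 3, 4, 5, 4, 1, 6, 3, 1, 1], 0, 0, 0),
  ([3, 2, 5, 6, 7, 6, 5, 4, 3, 5, 6, 4, 5, 4, 3, 6, 5, 4, 3, 5, 6, 7, 6, 5, 4, 3, 2, 5, 4, 3, 6, 0, 3, 4, 5, 4, 1, 3, 2, 6, 7], 0, 0, 0),
  ([1, 3, 4, 5, 6, 1, 3, 2, 6, 5, 4, 5, 6, 1, 3, 4, 5, 6, 2, 3, 4, 0, 5, 1], 0, 0, 0),
  ([2, 3, 4, 7, 6, 5, 4, 5, 4, 5, 6, 7, 3, 5, 4, 3, 6, 5, 4, 3, 5, 6, 7, 6, 5, 4, 3, 5, 4, 6, 0, 3, 4, 5, 4, 1, 3, 2, 6, 7], 0, 0, 0),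
  ([2, 6, 7, 6, 3, 4, 3, 5, 4, 3, 5, 6, 5, 4, 3, 5, 4, 5, 6, 5, 4, 3, 5, 7, 0, 3, 4, 5, 4, 1, 3, 2, 6, 7], 0, 0, 0),
  ([5, 4, 3, 6, 4, 5, 6, 7, 6, 4, 5, 4, 3, 6, 5, 4, 3, 2, 5, 4, 3, 6, 5, 7, 6, 5, 4, 3, 5, 0, 3, 4, 5, 4, 1, 3, 2, 6, 7], 0, 0, 0),
  ([3, 5, 4, 5, 4, 6, 5, 4, 3, 5, 2, 4, 5, 4, 3, 6, 5, 4, 3, 5, 4, 3, 2, 6, 5, 4, 5, 0, 3, 4, 5, 4, 1, 3, 2, 6, 7], 0, 0, 0),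
  ([4, 3, 2, 5, 4, 3, 5, 4, 6, 5, 7, 3, 4, 5, 4, 5, 6, 5, 4, 5, 3, 5, 4, 6, 5, 4, 3, 5, 4, 5, 6, 7, 0, 3, 4, 5, 4, 1, 3, 2, 6, 7], 0, 0, 0),
  ([0, 3, 4, 6, 0, 3, 5, 6, 1, 4, 5, 4, 6, 5, 3, 4, 0, 5, 6, 2, 3, 1, 4, 1], 0, 0, 0),
  ([3, 2, 4, 3, 6, 7, 5, 6, 5, 2, 4, 3, 5, 4, 3, 5, 6, 5, 4, 3, 2, 7, 6, 5, 4, 3, 2, 0, 3, 4, 5, 4, 1, 3, 2, 6, 7], 0, 0, 0),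
  ([3, 2, 6, 5, 7, 6, 5, 4, 3, 5, 6, 2, 4, 3, 5, 4, 3, 6, 5, 4, 3, 5, 4, 6, 5, 4, 7, 6, 5, 4, 3, 2, 5, 4, 3, 5, 4, 5, 6, 5, 4, 5, 0, 3, 4, 5, 4, 5, 6, 5, 4, 1, 3, 4, 0, 5], 0, 0, 0),
  ([5, 6, 2, 4, 3, 5, 4, 5, 6, 5, 4, 3, 5, 4, 5, 6, 5, 4, 3, 5, 4, 5, 6, 7, 6, 5, 4, 0, 3, 4, 5, 4, 5, 6, 5, 4, 1, 3, 4, 0, 5], 0, 0, 0),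
  ([3, 4, 7, 6, 5, 4, 3, 5, 6, 2, 4, 3, 5, 4, 3, 5, 6, 5, 4, 3, 5, 4, 5, 4, 6, 5, 4, 3, 2, 7, 6, 5, 4, 3, 5, 4, 6, 0, 3, 4, 5, 4, 5, 6, 5, 4, 1, 3, 4, 0, 5], 0, 0, 0),
  ([3, 5, 4, 5, 4, 6, 5, 4, 3, 7, 6, 5, 4, 5, 4, 6, 5, 4, 3, 2, 5, 4, 0, 3, 4, 5, 4, 5, 6, 5, 4, 1, 3, 4, 0, 5], 0, 0, 0),
  ([7, 6, 5, 0, 3, 4, 3, 5, 4, 0, 3, 0, 6, 5, 4, 5, 6, 7, 4, 3], 0, 0, 0),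
  ([2, 3, 4, 5, 4, 5, 6, 5, 4, 5, 7, 4, 5, 6, 5, 4, 5, 3, 4, 5, 2, 4, 5, 4, 3, 6, 5, 4, 3, 5, 4, 3, 6, 5, 4, 3, 2, 7, 6, 0, 3, 4, 5, 4, 5, 6, 5, 4, 1, 3, 4, 0, 5], 0, 0, 0),
  ([3, 2, 5, 4, 5, 7, 6, 5, 4, 3, 5, 6, 2, 4, 3, 5, 4, 3, 6, 5, 4, 3, 2, 5, 7, 6, 5, 4, 3, 2, 5, 4, 5, 0, 3, 4, 5, 4, 5, 6, 5, 4, 1, 3, 4, 0, 5], 0, 0, 0),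
  ([5, 4, 3, 2, 5, 4, 5, 4, 5, 6, 7, 3, 4, 5, 2, 4, 5, 4, 3, 2, 6, 5, 4, 3, 5, 4, 5, 6, 5, 4, 3, 7, 6, 5, 0, 3, 4, 5, 4, 5, 6, 5, 4, 1, 3, 4, 0, 5], 0, 0, 0),
  ([0, 5, 1, 4, 3, 2, 6, 5, 4, 3, 0, 6, 5, 4, 5, 6, 2, 3, 0, 6, 5, 4, 3, 0], 0, 0, 0),
  ([4, 3, 2, 6, 5, 4, 5, 4, 5, 3, 4, 5, 6, 2, 4, 3, 5, 4, 3, 6, 5, 4, 3, 2, 5, 4, 3, 6, 5, 4, 3, 2, 5, 6, 0, 3, 4, 5, 4, 5, 6, 5, 4, 1, 3, 4, 0, 5], 0, 0, 0),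
  ([4, 1, 3, 1, 6, 5, 4, 5, 1, 3, 6, 5, 4, 5, 1, 3, 1, 4, 3, 0, 5, 6, 3, 2], 0, 0, 0),
  ([4, 3, 2, 6, 5, 4, 5, 4, 5, 6, 7, 3, 4, 2, 4, 3, 5, 4, 5, 6, 5, 4, 3, 5, 4, 3, 5, 6, 5, 4, 3, 5, 4, 5, 4, 6, 5, 0, 5, 6, 5, 4, 3, 5, 0, 4, 3, 6, 1, 5, 4, 5], 0, 0, 0),
  ([3, 6, 5, 4, 5, 4, 6, 5, 4, 3, 7, 2, 4, 3, 5, 4, 3, 6, 5, 4, 3, 7, 6, 5, 4, 3, 2, 5, 4, 3, 6, 5, 7, 6, 0, 5, 6, 5, 4, 3, 5, 0, 4, 3, 6, 1, 5, 4, 5], 0, 0, 0),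
  ([2, 7, 3, 2, 4, 5, 4, 3, 6, 5, 4, 3, 2, 5, 4, 6, 5, 7, 0, 5, 6, 5, 4, 3, 5, 0, 4, 3, 6, 1, 5, 4, 5], 0, 0, 0),
  ([3, 2, 7, 6, 5, 4, 5, 4, 6, 5, 4, 3, 5, 2, 4, 5, 4, 3, 6, 5, 4, 5, 4, 3, 6, 5, 4, 5, 7, 6, 5, 4, 5, 0, 5, 6, 5, 4, 3, 5, 0, 4, 3, 6, 1, 5, 4, 5], 0, 0, 0),
  ([6, 5, 4, 3, 4, 5, 6, 7, 4, 5, 4, 3, 2, 6, 5, 4, 3, 5, 4, 5, 6, 5, 4, 5, 6, 7, 0, 5, 6, 5, 4, 3, 5, 0, 4, 3, 6, 1, 5, 4, 5], 0, 0, 0),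
  ([3, 2, 5, 4, 5, 4, 6, 5, 4, 3, 7, 6, 2, 4, 5, 4, 3, 2, 6, 5, 4, 3, 5, 4, 6, 5, 4, 3, 7, 6, 5, 4, 3, 5, 6, 7, 0, 5, 6, 5, 4, 3, 5, 0, 4, 3, 6, 1, 5, 4, 5], 0, 0, 0),
  ([3, 5, 4, 3, 6, 1, 5, 6, 5, 4, 3, 5, 4, 1, 6, 3, 4, 1, 5, 4, 3, 0], 0, 0, 0),
  ([3, 4, 5, 4, 6, 5, 4, 7, 6, 5, 4, 3, 2, 4, 3, 5, 4, 3, 5, 6, 5, 4, 3, 2, 5, 7, 6, 5, 4, 3, 5, 0, 5, 6, 5, 4, 3, 5, 0, 4, 3, 6, 1, 5, 4, 5], 0, 0, 0),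
  ([3, 4, 5, 6, 7, 6, 4, 3, 4, 5, 4, 3, 2, 6, 5, 4, 3, 2, 5, 4, 3, 6, 5, 0, 5, 6, 5, 4, 3, 5, 0, 4, 3, 6, 1, 5, 4, 5], 0, 0, 0),
  ([3, 2, 4, 5, 4, 7, 6, 5, 4, 3, 2, 4, 3, 5, 4, 3, 6, 5, 4, 3, 2, 5, 7, 6, 5, 4, 3, 5, 4, 3, 5, 6, 5, 7, 6, 0, 5, 6, 5, 4, 3, 5, 0, 4, 3, 6, 1, 5, 4, 5], 0, 0, 0),
  ([5, 4, 6, 7, 3, 5, 4, 3, 2, 6, 5, 4, 3, 5, 4, 6, 5, 4, 3, 5, 4, 6, 0, 5, 6, 5, 4, 3, 5, 0, 4, 3, 6, 1, 5, 4, 5], 0, 0, 0),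
  ([3, 2, 5, 6, 7, 4, 3, 4, 5, 4, 3, 6, 5, 4, 3, 5, 4, 3, 5, 4, 6, 5, 7, 6, 0, 5, 6, 5, 4, 3, 5, 0, 4, 3, 6, 1, 5, 4, 5], 0, 0, 0),
  ([3, 5, 4, 5, 4, 6, 5, 4, 3, 5, 4, 5, 4, 3, 6, 5, 4, 5, 4, 3, 2, 6, 5, 4, 5, 6, 7, 0, 6, 5, 1, 4, 3, 5, 4, 6, 5, 4, 3, 1, 3, 4], 0, 0, 0),
  ([3, 4, 6, 5, 4, 3, 2, 4, 3, 5, 4, 3, 2, 6, 5, 4, 3, 7, 6, 5, 4, 3, 5, 4, 3, 2, 6, 5, 4, 3, 5, 4, 6, 5, 4, 5, 6, 0, 6, 5, 1, 4, 3, 5, 4, 6, 5, 4, 3, 1, 3, 4], 0, 0, 0),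
  ([7, 6, 5, 4, 7, 3, 4, 5, 4, 5, 4, 3, 6, 5, 4, 3, 2, 5, 4, 3, 6, 5, 4, 3, 2, 5, 6, 0, 6, 5, 1, 4, 3, 5, 4, 6, 5, 4, 3, 1, 3, 4], 0, 0, 0),
  ([5, 4, 5, 1, 3, 6, 0, 4, 3, 2, 5, 4, 6, 3, 1, 6, 5, 4, 5, 6, 1, 3, 4, 3], 0, 0, 0),
  ([0, 4, 6, 0, 5, 6, 0, 4, 3, 5, 0, 4, 5, 3, 4, 3, 1, 6, 5, 1, 6, 4, 1], 0, 0, 0),
  ([3, 2, 5, 7, 4, 5, 3, 4, 5, 4, 3, 6, 5, 4, 5, 4, 3, 6, 5, 4, 3, 5, 7, 6, 0, 6, 5, 1, 4, 3, 5, 4, 6, 5, 4, 3, 1, 3, 4], 0, 0, 0),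
  ([3, 5, 4, 5, 6, 4, 5, 3, 4, 5, 4, 6, 5, 4, 3, 2, 5, 4, 3, 5, 6, 5, 4, 5, 4, 3, 2, 6, 7, 0, 6, 5, 1, 4, 3, 5, 4, 6, 5, 4, 3, 1, 3, 4], 0, 0, 0),
  ([3, 2, 5, 6, 5, 7, 6, 5, 4, 3, 5, 6, 7, 4, 5, 4, 3, 6, 5, 4, 3, 5, 4, 3, 2, 5, 6, 5, 4, 5, 6, 7, 0, 6, 5, 1, 4, 3, 5, 4, 6, 5, 4, 3, 1, 3, 4], 0, 0, 0),
  ([4, 3, 6, 5, 4, 3, 5, 4, 3, 4, 5, 6, 2, 3, 4, 3, 4, 3, 5, 4, 3, 2, 6, 5, 4, 3, 2, 7, 6, 5, 4, 5, 6, 7, 0, 6, 5, 1, 4, 3, 5, 4, 6, 5, 4, 3, 1, 3, 4], 0, 0, 0),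
  ([3, 5, 4, 7, 6, 5, 4, 3, 2, 4, 3, 5, 4, 3, 5, 6, 5, 4, 3, 2, 5, 4, 3, 5, 6, 7, 0, 6, 5, 1, 4, 3, 5, 4, 6, 5, 4, 3, 1, 3, 4], 0, 0, 0),
  ([6, 5, 4, 5, 1, 3, 2, 4, 3, 5, 0, 6, 5, 4, 5, 3, 4, 1, 6, 2, 3, 2], 0, 0, 0),
  ([4, 3, 0, 6, 5, 4, 0, 3, 5, 6, 0, 4, 5, 6, 4, 0, 3, 1, 4, 5, 3, 4, 5, 0], 0, 0, 0),
  ([4, 3, 5, 4, 5, 6, 5, 4, 5, 6, 7, 6, 5, 4, 5, 6, 4, 5, 3, 4, 5, 2, 4, 3, 5, 4, 3, 6, 5, 4, 3, 5, 4, 6, 5, 4, 7, 6, 5, 4, 3, 2, 5, 4, 3, 5, 4, 5, 6, 5, 4, 5, 0, 3, 2, 4, 3, 6, 5, 4, 3, 0, 6, 0, 5, 6, 1, 4], 0, 0, 0),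
  ([2, 5, 6, 5, 4, 3, 5, 4, 5, 4, 5, 4, 5, 3, 4, 5, 6, 4, 3, 5, 4, 3, 2, 5, 6, 5, 4, 3, 5, 4, 5, 6, 5, 0, 3, 2, 4, 3, 6, 5, 4, 3, 0, 6, 0, 5, 6, 1, 4], 0, 0, 0),
  ([5, 6, 5, 2, 4, 3, 5, 4, 3, 6, 5, 4, 3, 2, 5, 7, 6, 5, 4, 5, 4, 3, 2, 6, 5, 4, 3, 5, 6, 7, 0, 3, 2, 4, 3, 6, 5, 4, 3, 0, 6, 0, 5, 6, 1, 4], 0, 0, 0),
  ([3, 2, 4, 5, 4, 5, 3, 4, 5, 4, 3, 6, 5, 4, 3, 5, 4, 3, 5, 6, 5, 4, 3, 5, 4, 6, 5, 4, 0, 3, 2, 4, 3, 6, 5, 4, 3, 0, 6, 0, 5, 6, 1, 4], 0, 0, 0),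
  ([3, 2, 6, 7, 5, 4, 3, 4, 5, 4, 3, 6, 5, 4, 3, 2, 5, 6, 7, 6, 5, 4, 3, 2, 5, 4, 3, 6, 5, 0, 3, 2, 4, 3, 6, 5, 4, 3, 0, 6, 0, 5, 6, 1, 4], 0, 0, 0),
  ([5, 4, 3, 5, 4, 3, 5, 4, 6, 5, 4, 3, 2, 5, 4, 5, 4, 5, 3, 4, 5, 6, 4, 5, 3, 4, 5, 3, 4, 5, 2, 4, 3, 5, 4, 3, 5, 6, 5, 4, 3, 5, 4, 5, 6, 5, 4, 3, 0, 3, 2, 4, 3, 6, 5, 4, 3, 0, 6, 0, 5, 6, 1, 4], 0, 0, 0),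
  ([3, 4, 5, 6, 5, 4, 5, 4, 6, 5, 4, 3, 2, 4, 3, 5, 4, 3, 2, 5, 6, 5, 4, 3, 5, 4, 3, 6, 5, 4, 7, 6, 5, 0, 3, 2, 4, 3, 6, 5, 4, 3, 0, 6, 0, 5, 6, 1, 4], 0, 0, 0),
  ([3, 5, 4, 5, 6, 5, 4, 5, 4, 3, 6, 2, 4, 3, 5, 4, 3, 5, 6, 5, 4, 3, 2, 5, 4, 5, 6, 7, 0, 3, 2, 4, 3, 6, 5, 4, 3, 0, 6, 0, 5, 6, 1, 4], 0, 0, 0),
  ([1, 3, 4, 5, 0, 4, 3, 6, 0, 4, 3, 5, 4, 5, 6, 5, 0, 6, 3, 4, 5, 3], 0, 0, 0),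
  ([3, 2, 5, 4, 5, 6, 5, 4, 3, 5, 7, 6, 5, 4, 5, 4, 3, 2, 6, 5, 4, 3, 5, 4, 5, 4, 6, 5, 4, 3, 5, 4, 6, 5, 4, 7, 0, 3, 2, 4, 3, 6, 5, 4, 3, 0, 6, 0, 5, 6, 1, 4], 0, 0, 0),
  ([3, 7, 6, 5, 4, 5, 4, 3, 6, 5, 2, 4, 3, 5, 4, 3, 6, 5, 4, 3, 5, 4, 3, 6, 5, 4, 3, 2, 5, 6, 7, 0, 3, 2, 4, 3, 6, 5, 4, 3, 0, 6, 0, 5, 6, 1, 4], 0, 0, 0),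
  ([3, 6, 5, 4, 7, 6, 5, 4, 3, 5, 6, 2, 4, 5, 4, 3, 6, 5, 4, 5, 4, 3, 6, 5, 4, 5, 4, 6, 5, 4, 5, 0, 3, 2, 4, 3, 6, 5, 4, 3, 0, 6, 0, 5, 6, 1, 4], 0, 0, 0),
  ([0, 4, 0, 3, 2, 6, 5, 1, 4, 3, 5, 4, 6, 5, 4, 0, 6, 5, 3, 1, 6, 4, 3, 1], 0, 0, 0)]

/-- the candidates for the image of the third generator, for the exponent 4 -/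
def tab4 : List (List ℕ × ℕ × ℕ × ℕ) := [
  ([], 0, 0, 1),
  ([3, 2, 4, 5, 4, 3, 6, 5, 7, 4, 5, 4, 3, 2, 6, 5, 4, 3, 7, 6, 5, 4, 3, 5, 4, 6, 7], 0, 0, 1),
  ([3, 5, 4, 5, 4, 6, 5, 4, 3, 5, 6, 4, 5, 4, 6, 5, 4, 3, 5, 4, 5, 6, 5, 4, 3, 2, 5, 4, 3, 7, 6], 0, 0, 1),
  ([4, 7, 6, 5, 4, 3, 5, 4, 6, 5, 4, 3, 2, 5, 4, 5, 4, 5, 3, 4, 5, 6, 7, 4, 5, 3, 4, 5, 3, 5, 4, 3, 6, 5, 4, 5, 4, 3, 6, 5, 4, 5, 6, 7, 6], 0, 0, 1),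
  ([3, 4, 5, 4, 5, 6, 5, 4, 3, 5, 7, 6, 5, 4, 5, 4, 6, 5, 4, 3, 5, 4, 5, 4, 3, 2, 6, 5, 4, 3, 5, 4], 0, 0, 1),
  ([3, 2, 5, 6, 5, 4, 5, 3, 4, 5, 4, 3, 6, 5, 4, 5, 4, 6, 5, 4, 3, 2, 5, 4, 3, 5, 4, 6, 5, 4, 7, 6], 0, 0, 1),
  ([4, 3, 7, 6, 5, 4, 5, 4, 5, 2, 3, 4, 5, 4, 5, 4, 3, 6, 5, 4, 5, 4, 3, 6, 5, 4, 3, 5, 4, 3, 5], 0, 0, 1),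
  ([3, 2, 4, 5, 6, 5, 7, 6, 5, 4, 3, 5, 6, 2, 4, 3, 5, 4, 3, 2, 5, 6, 5, 4, 3, 2, 7, 6, 5, 4], 0, 0, 1),
  ([6, 5, 4, 3, 4, 5, 6, 4, 5, 4, 3, 6, 5, 4, 5, 4, 3, 2, 6, 5, 7, 6], 0, 0, 1),
  ([3, 2, 4, 5, 6, 5, 4, 3, 5, 4, 5, 4, 6, 5, 4, 3, 2, 5, 4, 3, 5, 6, 5, 4, 3, 5, 4, 3, 5], 0, 0, 2),
  ([3, 2, 5, 4, 5, 7, 6, 5, 4, 3, 5, 6, 7, 2, 4, 3, 5, 4, 5, 6, 5, 4, 3, 2, 5, 4, 3, 5, 6, 5, 4], 0, 0, 1),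
  ([3, 2, 6, 5, 7, 6, 5, 4, 3, 5, 6, 4, 5, 4, 3, 6, 5, 4, 3, 2, 5, 4, 3, 6], 0, 0, 1),
  ([3, 7, 6, 0, 5, 4, 3, 5, 4, 0, 3, 6, 5, 0, 4, 5, 6, 1, 3, 1], 0, 0, 0),
  ([3, 4, 5, 7, 6, 5, 4, 3, 5, 6, 7, 4, 5, 4, 3, 6, 5, 4, 3, 5, 4, 3, 6, 5, 4, 3, 5, 4, 6, 5, 4, 3, 7, 0, 3, 4, 5, 4, 1, 3, 2, 6, 7], 0, 0, 0),
  ([3, 2, 4, 3, 6, 5, 4, 5, 4, 3, 6, 5, 4, 5, 1, 3, 4, 5, 4, 1, 6, 3, 1, 1], 0, 0, 0),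
  ([3, 2, 5, 6, 7, 6, 5, 4, 3, 5, 6, 4, 5, 4, 3, 6, 5, 4, 3, 5, 6, 7, 6, 5, 4, 3, 2, 5, 4, 3, 6, 0, 3, 4, 5, 4, 1, 3, 2, 6, 7], 0, 0, 0),
  ([1, 3, 4, 5, 6, 1, 3, 2, 6, 5, 4, 5, 6, 1, 3, 4, 5, 6, 2, 3, 4, 0, 5, 1], 0, 0, 0),
  ([2, 3, 4, 7, 6, 5, 4, 5, 4, 5, 6, 7, 3, 5, 4, 3, 6, 5, 4, 3, 5, 6, 7, 6, 5, 4, 3, 5, 4, 6, 0, 3, 4, 5, 4, 1, 3, 2, 6, 7], 0, 0, 0),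
  ([2, 6, 7, 6, 3, 4, 3, 5, 4, 3, 5, 6, 5, 4, 3, 5, 4, 5, 6, 5, 4, 3, 5, 7, 0, 3, 4, 5, 4, 1, 3, 2, 6, 7], 0, 0, 0),
  ([5, 4, 3, 6, 4, 5, 6, 7, 6, 4, 5, 4, 3, 6, 5, 4, 3, 2, 5, 4, 3, 6, 5, 7, 6, 5, 4, 3, 5, 0, 3, 4, 5, 4, 1, 3, 2, 6, 7], 0, 0, 0),
  ([3, 5, 4, 5, 4, 6, 5, 4, 3, 5, 2, 4, 5, 4, 3, 6, 5, 4, 3, 5, 4, 3, 2, 6, 5, 4, 5, 0, 3, 4, 5, 4, 1, 3, 2, 6, 7], 0, 0, 0),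
  ([4, 3, 2, 5, 4, 3, 5, 4, 6, 5, 7, 3, 4, 5, 4, 5, 6, 5, 4, 5, 3, 5, 4, 6, 5, 4, 3, 5, 4, 5, 6, 7, 0, 3, 4, 5, 4, 1, 3, 2, 6, 7], 0, 0, 0),
  ([0, 3, 4, 6, 0, 3, 5, 6, 1, 4, 5, 4, 6, 5, 3, 4, 0, 5, 6, 2, 3, 1, 4, 1], 0, 0, 0),
  ([3, 2, 4, 3, 6, 7, 5, 6, 5, 2, 4, 3, 5, 4, 3, 5, 6, 5, 4, 3, 2, 7, 6, 5, 4, 3, 2, 0, 3, 4, 5, 4, 1, 3, 2, 6, 7], 0, 0, 0),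
  ([3, 2, 6, 5, 7, 6, 5, 4, 3, 5, 6, 2, 4, 3, 5, 4, 3, 6, 5, 4, 3, 5, 4, 6, 5, 4, 7, 6, 5, 4, 3, 2, 5, 4, 3, 5, 4, 5, 6, 5, 4, 5, 0, 3, 4, 5, 4, 5, 6, 5, 4, 1, 3, 4, 0, 5], 0, 0, 0),
  ([5, 6, 2, 4, 3, 5, 4, 5, 6, 5, 4, 3, 5, 4, 5, 6, 5, 4, 3, 5, 4, 5, 6, 7, 6, 5, 4, 0, 3, 4, 5, 4, 5, 6, 5, 4, 1, 3, 4, 0, 5], 0, 0, 0),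
  ([3, 4, 7, 6, 5, 4, 3, 5, 6, 2, 4, 3, 5, 4, 3, 5, 6, 5, 4, 3, 5, 4, 5, 4, 6, 5, 4, 3, 2, 7, 6, 5, 4, 3, 5, 4, 6, 0, 3, 4, 5, 4, 5, 6, 5, 4, 1, 3, 4, 0, 5], 0, 0, 0),
  ([3, 5, 4, 5, 4, 6, 5, 4, 3, 7, 6, 5, 4, 5, 4, 6, 5, 4, 3, 2, 5, 4, 0, 3, 4, 5, 4, 5, 6, 5, 4, 1, 3, 4, 0, 5], 0, 0, 0),
  ([7, 6, 5, 0, 3, 4, 3, 5, 4, 0, 3, 0, 6, 5, 4, 5, 6, 7, 4, 3], 0, 0, 0),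
  ([2, 3, 4, 5, 4, 5, 6, 5, 4, 5, 7, 4, 5, 6, 5, 4, 5, 3, 4, 5, 2, 4, 5, 4, 3, 6, 5, 4, 3, 5, 4, 3, 6, 5, 4, 3, 2, 7, 6, 0, 3, 4, 5, 4, 5, 6, 5, 4, 1, 3, 4, 0, 5], 0, 0, 0),
  ([3, 2, 5, 4, 5, 7, 6, 5, 4, 3, 5, 6, 2, 4, 3, 5, 4, 3, 6, 5, 4, 3, 2, 5, 7, 6, 5, 4, 3, 2, 5, 4, 5, 0, 3, 4, 5, 4, 5, 6, 5, 4, 1, 3, 4, 0, 5], 0, 0, 0),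
  ([5, 4, 3, 2, 5, 4, 5, 4, 5, 6, 7, 3, 4, 5, 2, 4, 5, 4, 3, 2, 6, 5, 4, 3, 5, 4, 5, 6, 5, 4, 3, 7, 6, 5, 0, 3, 4, 5, 4, 5, 6, 5, 4, 1, 3, 4, 0, 5], 0, 0, 0),
  ([0, 5, 1, 4, 3, 2, 6, 5, 4, 3, 0, 6, 5, 4, 5, 6, 2, 3, 0, 6, 5, 4, 3, 0], 0, 0, 0),
  ([4, 3, 2, 6, 5, 4, 5, 4, 5, 3, 4, 5, 6, 2, 4, 3, 5, 4, 3, 6, 5, 4, 3, 2, 5, 4, 3, 6, 5, 4, 3, 2, 5, 6, 0, 3, 4, 5, 4, 5, 6, 5, 4, 1, 3, 4, 0, 5], 0, 0, 0),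
  ([4, 1, 3, 1, 6, 5, 4, 5, 1, 3, 6, 5, 4, 5, 1, 3, 1, 4, 3, 0, 5, 6, 3, 2], 0, 0, 0),
  ([4, 3, 2, 6, 5, 4, 5, 4, 5, 6, 7, 3, 4, 2, 4, 3, 5, 4, 5, 6, 5, 4, 3, 5, 4, 3, 5, 6, 5, 4, 3, 5, 4, 5, 4, 6, 5, 0, 5, 6, 5, 4, 3, 5, 0, 4, 3, 6, 1, 5, 4, 5], 0, 0, 0),
  ([3, 6, 5, 4, 5, 4, 6, 5, 4, 3, 7, 2, 4, 3, 5, 4, 3, 6, 5, 4, 3, 7, 6, 5, 4, 3, 2, 5, 4, 3, 6, 5, 7, 6, 0, 5, 6, 5, 4, 3, 5, 0, 4, 3, 6, 1, 5, 4, 5], 0, 0, 0),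
  ([2, 7, 3, 2, 4, 5, 4, 3, 6, 5, 4, 3, 2, 5, 4, 6, 5, 7, 0, 5, 6, 5, 4, 3, 5, 0, 4, 3, 6, 1, 5, 4, 5], 0, 0, 0),
  ([3, 2, 7, 6, 5, 4, 5, 4, 6, 5, 4, 3, 5, 2, 4, 5, 4, 3, 6, 5, 4, 5, 4, 3, 6, 5, 4, 5, 7, 6, 5, 4, 5, 0, 5, 6, 5, 4, 3, 5, 0, 4, 3, 6, 1, 5, 4, 5], 0, 0, 0),
  ([6, 5, 4, 3, 4, 5, 6, 7, 4, 5, 4, 3, 2, 6, 5, 4, 3, 5, 4, 5, 6, 5, 4, 5, 6, 7, 0, 5, 6, 5, 4, 3, 5, 0, 4, 3, 6, 1, 5, 4, 5], 0, 0, 0),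
  ([3, 2, 5, 4, 5, 4, 6, 5, 4, 3, 7, 6, 2, 4, 5, 4, 3, 2, 6, 5, 4, 3, 5, 4, 6, 5, 4, 3, 7, 6, 5, 4, 3, 5, 6, 7, 0, 5, 6, 5, 4, 3, 5, 0, 4, 3, 6, 1, 5, 4, 5], 0, 0, 0),
  ([3, 5, 4, 3, 6, 1, 5, 6, 5, 4, 3, 5, 4, 1, 6, 3, 4, 1, 5, 4, 3, 0], 0, 0, 0),
  ([3, 4, 5, 4, 6, 5, 4, 7, 6, 5, 4, 3, 2, 4, 3, 5, 4, 3, 5, 6, 5, 4, 3, 2, 5, 7, 6, 5, 4, 3, 5, 0, 5, 6, 5, 4, 3, 5, 0, 4, 3, 6, 1, 5, 4, 5], 0, 0, 0),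
  ([3, 4, 5, 6, 7, 6, 4, 3, 4, 5, 4, 3, 2, 6, 5, 4, 3, 2, 5, 4, 3, 6, 5, 0, 5, 6, 5, 4, 3, 5, 0, 4, 3, 6, 1, 5, 4, 5], 0, 0, 0),
  ([3, 2, 4, 5, 4, 7, 6, 5, 4, 3, 2, 4, 3, 5, 4, 3, 6, 5, 4, 3, 2, 5, 7, 6, 5, 4, 3, 5, 4, 3, 5, 6, 5, 7, 6, 0, 5, 6, 5, 4, 3, 5, 0, 4, 3, 6, 1, 5, 4, 5], 0, 0, 0),
  ([5, 4, 6, 7, 3, 5, 4, 3, 2, 6, 5, 4, 3, 5, 4, 6, 5, 4, 3, 5, 4, 6, 0, 5, 6, 5, 4, 3, 5, 0, 4, 3, 6, 1, 5, 4, 5], 0, 0, 0),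
  ([3, 2, 5, 6, 7, 4, 3, 4, 5, 4, 3, 6, 5, 4, 3, 5, 4, 3, 5, 4, 6, 5, 7, 6, 0, 5, 6, 5, 4, 3, 5, 0, 4, 3, 6, 1, 5, 4, 5], 0, 0, 0),
  ([3, 5, 4, 5, 4, 6, 5, 4, 3, 5, 4, 5, 4, 3, 6, 5, 4, 5, 4, 3, 2, 6, 5, 4, 5, 6, 7, 0, 6, 5, 1, 4, 3, 5, 4, 6, 5, 4, 3, 1, 3, 4], 0, 0, 0),
  ([3, 4, 6, 5, 4, 3, 2, 4, 3, 5, 4, 3, 2, 6, 5, 4, 3, 7, 6, 5, 4, 3, 5, 4, 3, 2, 6, 5, 4, 3, 5, 4, 6, 5, 4, 5, 6, 0, 6, 5, 1, 4, 3, 5, 4, 6, 5, 4, 3, 1, 3, 4], 0, 0, 0),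
  ([7, 6, 5, 4, 7, 3, 4, 5, 4, 5, 4, 3, 6, 5, 4, 3, 2, 5, 4, 3, 6, 5, 4, 3, 2, 5, 6, 0, 6, 5, 1, 4, 3, 5, 4, 6, 5, 4, 3, 1, 3, 4], 0, 0, 0),
  ([5, 4, 5, 1, 3, 6, 0, 4, 3, 2, 5, 4, 6, 3, 1, 6, 5, 4, 5, 6, 1, 3, 4, 3], 0, 0, 0),
  ([0, 4, 6, 0, 5, 6, 0, 4, 3, 5, 0, 4, 5, 3, 4, 3, 1, 6, 5, 1, 6, 4, 1], 0, 0, 0),
  ([3, 2, 5, 7, 4, 5, 3, 4, 5, 4, 3, 6, 5, 4, 5, 4, 3, 6, 5, 4, 3, 5, 7, 6, 0, 6, 5, 1, 4, 3, 5, 4, 6, 5, 4, 3, 1, 3, 4], 0, 0, 0),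
  ([3, 5, 4, 5, 6, 4, 5, 3, 4, 5, 4, 6, 5, 4, 3, 2, 5, 4, 3, 5, 6, 5, 4, 5, 4, 3, 2, 6, 7, 0, 6, 5, 1, 4, 3, 5, 4, 6, 5, 4, 3, 1, 3, 4], 0, 0, 0),
  ([3, 2, 5, 6, 5, 7, 6, 5, 4, 3, 5, 6, 7, 4, 5, 4, 3, 6, 5, 4, 3, 5, 4, 3, 2, 5, 6, 5, 4, 5, 6, 7, 0, 6, 5, 1, 4, 3, 5, 4, 6, 5, 4, 3, 1, 3, 4], 0, 0, 0),
  ([4, 3, 6, 5, 4, 3, 5, 4, 3, 4, 5, 6, 2, 3, 4, 3, 4, 3, 5, 4, 3, 2, 6, 5, 4, 3, 2, 7, 6, 5, 4, 5, 6, 7, 0, 6, 5, 1, 4, 3, 5, 4, 6, 5, 4, 3, 1, 3, 4], 0, 0, 0),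
  ([3, 5, 4, 7, 6, 5, 4, 3, 2, 4, 3, 5, 4, 3, 5, 6, 5, 4, 3, 2, 5, 4, 3, 5, 6, 7, 0, 6, 5, 1, 4, 3, 5, 4, 6, 5, 4, 3, 1, 3, 4], 0, 0, 0),
  ([6, 5, 4, 5, 1, 3, 2, 4, 3, 5, 0, 6, 5, 4, 5, 3, 4, 1, 6, 2, 3, 2], 0, 0, 0),
  ([4, 3, 0, 6, 5, 4, 0, 3, 5, 6, 0, 4, 5, 6, 4, 0, 3, 1, 4, 5, 3, 4, 5, 0], 0, 0, 0),
  ([4, 3, 5, 4, 5, 6, 5, 4, 5, 6, 7, 6, 5, 4, 5, 6, 4, 5, 3, 4, 5, 2, 4, 3, 5, 4, 3, 6, 5, 4, 3, 5, 4, 6, 5, 4, 7, 6, 5, 4, 3, 2, 5, 4, 3, 5, 4, 5, 6, 5, 4, 5, 0, 3, 2, 4, 3, 6, 5, 4, 3, 0, 6, 0, 5, 6, 1, 4], 0, 0, 0),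
  ([2, 5, 6, 5, 4, 3, 5, 4, 5, 4, 5, 4, 5, 3, 4, 5, 6, 4, 3, 5, 4, 3, 2, 5, 6, 5, 4, 3, 5, 4, 5, 6, 5, 0, 3, 2, 4, 3, 6, 5, 4, 3, 0, 6, 0, 5, 6, 1, 4], 0, 0, 0),
  ([5, 6, 5, 2, 4, 3, 5, 4, 3, 6, 5, 4, 3, 2, 5, 7, 6, 5, 4, 5, 4, 3, 2, 6, 5, 4, 3, 5, 6, 7, 0, 3, 2, 4, 3, 6, 5, 4, 3, 0, 6, 0, 5, 6, 1, 4], 0, 0, 0),
  ([3, 2, 4, 5, 4, 5, 3, 4, 5, 4, 3, 6, 5, 4, 3, 5, 4, 3, 5, 6, 5, 4, 3, 5, 4, 6, 5, 4, 0, 3, 2, 4, 3, 6, 5, 4, 3, 0, 6, 0, 5, 6, 1, 4], 0, 0, 0),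
  ([3, 2, 6, 7, 5, 4, 3, 4, 5, 4, 3, 6, 5, 4, 3, 2, 5, 6, 7, 6, 5, 4, 3, 2, 5, 4, 3, 6, 5, 0, 3, 2, 4, 3, 6, 5, 4, 3, 0, 6, 0, 5, 6, 1, 4], 0, 0, 0),
  ([5, 4, 3, 5, 4, 3, 5, 4, 6, 5, 4, 3, 2, 5, 4, 5, 4, 5, 3, 4, 5, 6, 4, 5, 3, 4, 5, 3, 4, 5, 2, 4, 3, 5, 4, 3, 5, 6, 5, 4, 3, 5, 4, 5, 6, 5, 4, 3, 0, 3, 2, 4, 3, 6, 5, 4, 3, 0, 6, 0, 5, 6, 1, 4], 0, 0, 0),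
  ([3, 4, 5, 6, 5, 4, 5, 4, 6, 5, 4, 3, 2, 4, 3, 5, 4, 3, 2, 5, 6, 5, 4, 3, 5, 4, 3, 6, 5, 4, 7, 6, 5, 0, 3, 2, 4, 3, 6, 5, 4, 3, 0, 6, 0, 5, 6, 1, 4], 0, 0, 0),
  ([3, 5, 4, 5, 6, 5, 4, 5, 4, 3, 6, 2, 4, 3, 5, 4, 3, 5, 6, 5, 4, 3, 2, 5, 4, 5, 6, 7, 0, 3, 2, 4, 3, 6, 5, 4, 3, 0, 6, 0, 5, 6, 1, 4], 0, 0, 0),
  ([1, 3, 4, 5, 0, 4, 3, 6, 0, 4, 3, 5, 4, 5, 6, 5, 0, 6, 3, 4, 5, 3], 0, 0, 0),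
  ([3, 2, 5, 4, 5, 6, 5, 4, 3, 5, 7, 6, 5, 4, 5, 4, 3, 2, 6, 5, 4, 3, 5, 4, 5, 4, 6, 5, 4, 3, 5, 4, 6, 5, 4, 7, 0, 3, 2, 4, 3, 6, 5, 4, 3, 0, 6, 0, 5, 6, 1, 4], 0, 0, 0),
  ([3, 7, 6, 5, 4, 5, 4, 3, 6, 5, 2, 4, 3, 5, 4, 3, 6, 5, 4, 3, 5, 4, 3, 6, 5, 4, 3, 2, 5, 6, 7, 0, 3, 2, 4, 3, 6, 5, 4, 3, 0, 6, 0, 5, 6, 1, 4], 0, 0, 0),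
  ([3, 6, 5, 4, 7, 6, 5, 4, 3, 5, 6, 2, 4, 5, 4, 3, 6, 5, 4, 5, 4, 3, 6, 5, 4, 5, 4, 6, 5, 4, 5, 0, 3, 2, 4, 3, 6, 5, 4, 3, 0, 6, 0, 5, 6, 1, 4], 0, 0, 0),
  ([0, 4, 0, 3, 2, 6, 5, 1, 4, 3, 5, 4, 6, 5, 4, 0, 6, 5, 3, 1, 6, 4, 3, 1], 0, 0, 0)]

end Cfsg.Agent.Lib.Helper2.ONOutD
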