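import Cfsg.Agent.Lib.Helper2.ONOut2Ca
import Cfsg.Agent.Lib.Helper2.ONOutC1

set_option autoImplicit false
set_option maxRecDepth 100000

/-! # The presented group `O'N`: the searches around the element of order 19, part b -/

namespace Cfsg.Agent.Lib.Helper2.ONOut

open Cfsg.Agent.Lib.Helper6 Cfsg.Agent.Lib.Helper6.TC Cfsg.Agent.Lib.Helper6.TCD
open Cfsg.Agent.Lib.Helper6.PM Cfsg.Agent.Lib.Helper2.PMS Cfsg.Agent.Lib.Helper2.PMC
open Cfsg.Agent.Lib.Helper2.ONOutD Cfsg.Agent.Lib.Helper2.RigidOut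

theorem chk_Fl_certT2 : (FlOf certT2).all (fun e => chkW M e.2.1 && Nat.beq (wappS M.px e.2.1 0) e.1 &&
    chk M iv wp (rep 2 wp) e.2.2 lvA (pendOf lvA) [0] e.2.1) = true := by decide +kernel

end Cfsg.Agent.Lib.Helper2.ONOut
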