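import Cfsg.Agent.Lib.Helper2.ONOut2
import Cfsg.Agent.Lib.Helper2.ONOut2F
import Cfsg.Agent.Lib.Helper2.ONOutC1
import Cfsg.Agent.Lib.Helper2.ONOut2Ca
import Cfsg.Agent.Lib.Helper2.ONOut2Cb
import Cfsg.Agent.Lib.Helper2.ONOut2Cc

set_option autoImplicit false
set_option maxRecDepth 100000

/-! # The presented group `O'N`: the normalizer of a Sylow 19-subgroup -/

namespace Cfsg.Agent.Lib.Helper2.ONOut

open Cfsg.Agent.Lib.Helper6 Cfsg.Agent.Lib.Helper6.TC Cfsg.Agent.Lib.Helper6.TCD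
open Cfsg.Agent.Lib.Helper6.PM Cfsg.Agent.Lib.Helper2.PMS Cfsg.Agent.Lib.Helper2.PMC
open Cfsg.Agent.Lib.Helper2.ONOutD Cfsg.Agent.Lib.Helper2.RigidOut

theorem chk_srcA : chkSrc M wp [0] lvA = true := by decide +kernel

theorem leaves_certCp : leavesIn certCp ((List.range 19).map fun i => rep i wp) = true := by
  decide +kernel

theorem centralizer_gp (g : M.G) (hg : g⁻¹ * gp * g = gp) : ∃ i : ℕ, g = gp ^ i := by
  obtain ⟨e, he, z, hz, hgz⟩ := factsA.search_fix iv invMap wp wp (by decide) (by decide) chk_srcA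
    fix0_wp (FlOf certCp) fix_wp chk_Fl_certCp g hg
  rw [mem_FlOf he] at hz
  have h1 := mem_of_leavesIn leaves_certCp z hz
  rw [List.mem_map] at h1
  obtain ⟨i, _, rfl⟩ := h1
  exact ⟨i, by rw [hgz, gp_pow]⟩

theorem lt_rep (k : ℕ) : ∀ c ∈ rep k wp, c < M.nl := by
  intro c hc
  unfold rep at hc
  rw [List.mem_flatten] at hc
  obtain ⟨l, hl, hcl⟩ := hc
  rw [List.mem_replicate] at hl
  rw [hl.2] at hcl
  exact lt_wp c hcl

/-- the powers of the element of order 19 with an exponent prime to 19 fix one point only -/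
theorem fix_rep (k j : ℕ) (hkj : k * j % 19 = 1) :
    ∀ y < M.n, wapp M.px (rep k wp) y = y → y ∈ [0] := by
  intro y hy hfix
  apply fix_wp y hy
  apply wapp_fix_of_pow wp (rep k wp) lt_wp (lt_rep k) j _ y hy hfix
  rw [elt_rep, ← pow_mul]
  show gp = gp ^ (k * j)
  rw [← pow_mod_orderOf, orderOf_gp, hkj, pow_one]

theorem leaves_certT2 : leaves certT2 = [] := by decide +kernel

theorem no_pow2 (g : M.G) : g⁻¹ * gp * g ≠ gp ^ 2 := by
  intro hg
  rw [gp_pow] at hg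
  obtain ⟨e, he, z, hz, _⟩ := factsA.search_fix iv invMap wp (rep 2 wp) (by decide) (by decide)
    chk_srcA fix0_wp (FlOf certT2) (fix_rep 2 10 (by norm_num)) chk_Fl_certT2 g hg
  rw [mem_FlOf he, leaves_certT2] at hz
  exact absurd hz List.not_mem_nil

theorem leaves_certT4 : leaves certT4 = [] := by decide +kernel

theorem no_pow4 (g : M.G) : g⁻¹ * gp * g ≠ gp ^ 4 := by
  intro hg
  rw [gp_pow] at hg
  obtain ⟨e, he, z, hz, _⟩ := factsA.search_fix iv invMap wp (rep 4 wp) (by decide) (by decide)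
    chk_srcA fix0_wp (FlOf certT4) (fix_rep 4 5 (by norm_num)) chk_Fl_certT4 g hg
  rw [mem_FlOf he, leaves_certT4] at hz
  exact absurd hz List.not_mem_nil

theorem hE : ∀ k < 19, 0 < k → ∃ j, ∃ ε ∈ [1, 2, 4], 8 ^ j * k % 19 = ε % 19 := by
  have h : ∀ k < 19, 0 < k → ∃ j < 6, ∃ ε ∈ [1, 2, 4], 8 ^ j * k % 19 = ε % 19 := by decide
  intro k hk hk0
  obtain ⟨j, _, ε, hε, e⟩ := h k hk hk0
  exact ⟨j, ε, hε, e⟩

theorem normalizer_gp : ∀ n : M.G, (∃ k : ℕ, n⁻¹ * gp * n = gp ^ k) →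
    ∃ i j : ℕ, n = gp ^ i * gh ^ j := by
  apply normalizer_of_transporters 19 8 [1, 2, 4] gp gh (by norm_num) orderOf_gp rel_ph hE
    centralizer_gp
  intro ε hε hne g
  simp only [List.mem_cons, List.not_mem_nil, or_false] at hε
  rcases hε with rfl | rfl | rfl
  · exact absurd rfl hne
  · exact no_pow2 g
  · exact no_pow4 g

end Cfsg.Agent.Lib.Helper2.ONOut
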