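import Cfsg.Agent.Lib.Helper2.PMChain8

set_option autoImplicit false
set_option maxRecDepth 100000

/-! # Data for the automorphisms of the presented group `O'N` on 122760 points: the certificates of the searches of the centralizer of the element of order 6, part 1 -/

namespace Cfsg.Agent.Lib.Helper2.ONOutD

open Cfsg.Agent.Lib.Helper2.PMC

/-- the elements of the centralizer of the element of order 6 mapping the point 0 to its fixed point 0 -/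
def certH0 : Cert := Cert.rl [(338, Cert.fail),
  (1, Cert.step [2, 5, 4, 5, 6, 3, 4, 5, 3, 4, 5, 6, 5, 4, 3] (Cert.step [2, 5, 7, 6, 5, 4, 3, 5, 4, 3, 5, 6, 4, 5, 3, 4, 5, 6, 7, 6, 3, 4, 5, 2, 3] (Cert.step [3, 4, 3, 2, 5, 7, 6, 5, 4, 3, 5, 4, 5, 6, 7, 5, 4, 5, 6, 3, 4, 5, 2, 3, 4, 5, 6, 5, 4, 5, 2] (Cert.done [3, 4, 5, 4, 5, 6, 5, 4, 3, 5, 7, 6, 5, 4, 5, 4, 6, 5, 4, 3, 5, 4, 5, 4, 3, 2, 6, 5, 4, 3, 5, 4])))),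
  (48, Cert.fail),
  (1, Cert.step [2, 3, 2, 4, 3, 5, 4, 6, 5, 6, 4, 5, 3, 4, 5, 2, 3, 4, 5] (Cert.step [2, 5, 4, 3, 2, 6, 5, 4, 3, 5, 4, 5, 6, 5, 4, 5, 2, 3, 4, 5, 6, 4, 5, 3, 4, 5, 6, 3] (Cert.step [] (Cert.done [3, 2, 4, 5, 4, 3, 6, 5, 7, 4, 5, 4, 3, 2, 6, 5, 4, 3, 7, 6, 5, 4, 3, 5, 4, 6, 7])))),
  (166, Cert.fail),
  (1, Cert.step [3, 5, 4, 3, 5, 4, 3, 5, 6, 7, 4, 5, 6, 5, 4, 5, 3, 4, 5, 6, 3] (Cert.step [3, 4, 3, 5, 6, 5, 4, 5, 6, 7, 4, 5, 6, 3, 4, 5, 4, 5, 6, 5, 3, 4, 3] (Cert.step [3, 4, 3, 2, 5, 7, 6, 5, 4, 3, 5, 4, 5, 6, 7, 5, 4, 5, 6, 3, 4, 5, 2, 3, 4, 5, 6, 5, 4, 5, 2] (Cert.done [4, 7, 6, 5, 4, 3, 5, 4, 6, 5, 4, 3, 2, 5, 4, 5, 4, 5, 3, 4, 5, 6, 7, 4, 5, 3, 4, 5, 3, 5, 4, 3, 6, 5, 4, 5, 4,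 3, 6, 5, 4, 5, 6, 7, 6])))),
  (760, Cert.fail),
  (1, Cert.step [] (Cert.step [] (Cert.step [] (Cert.done [])))),
  (337, Cert.fail),
  (1, Cert.step [2, 4, 5, 4, 5] (Cert.step [4, 6, 5, 4, 7, 6, 5, 3, 4, 5, 6, 7, 3, 4, 5, 6, 4, 5, 2] (Cert.step [3, 4, 3, 2, 5, 7, 6, 5, 4, 3, 5, 4, 5, 6, 7, 5, 4, 5, 6, 3, 4, 5, 2, 3, 4, 5, 6, 5, 4, 5, 2] (Cert.done [4, 3, 7, 6, 5, 4, 5, 4, 5, 2, 3, 4, 5, 4, 5, 4, 3, 6, 5, 4, 5, 4, 3, 6, 5, 4, 3, 5, 4, 3, 5])))),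
  (198, Cert.fail),
  (1, Cert.step [4, 3, 5, 4, 3, 5, 4, 6, 5, 4, 5, 6, 7, 5, 6, 3, 2] (Cert.step [3, 4, 3, 5, 6, 5, 4, 5, 6, 7, 4, 5, 6, 3, 4, 5, 4, 5, 6, 5, 3, 4, 3] (Cert.step [] (Cert.done [3, 2, 5, 6, 5, 4, 5, 3, 4, 5, 4, 3, 6, 5, 4, 5, 4, 6, 5, 4, 3, 2, 5, 4, 3, 5, 4, 6, 5, 4, 7, 6])))),
  (482, Cert.fail),
  (1, Cert.step [3, 2, 4, 3, 5, 4, 7, 6, 5, 6, 4, 5, 3, 4, 5, 2, 3, 4, 5] (Cert.step [2, 4, 5, 4, 3, 5, 6, 4, 5, 4, 5, 6, 5, 4, 5, 3, 4, 5, 4, 2] (Cert.step [] (Cert.done [3, 5, 4, 5, 4, 6, 5, 4, 3, 5, 6, 4, 5, 4, 6, 5, 4, 3, 5, 4, 5, 6, 5, 4, 3, 2, 5, 4, 3, 7, 6])))),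
  (250, Cert.fail),
  (1, Cert.step [6, 5, 4, 5, 7, 6, 4, 5, 3, 4, 5, 2, 3, 4, 5, 6, 4, 5] (Cert.step [2, 5, 7, 6, 5, 4, 3, 5, 4, 3, 5, 6, 4, 5, 3, 4, 5, 6, 7, 6, 3, 4, 5, 2, 3] (Cert.step [5, 4, 3, 6, 5, 4, 3, 5, 4, 3, 2, 6, 5, 4, 3, 6, 5, 4, 5, 6, 3, 4, 5, 4, 5, 3, 4, 5, 6, 5, 2] (Cert.done [3, 2, 4, 5, 6, 5, 7, 6, 5, 4, 3, 5, 6, 2, 4, 3, 5, 4, 3, 2, 5, 6, 5, 4, 3, 2, 7, 6, 5, 4])))),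
  (997, Cert.fail),
  (1, Cert.step [4, 3, 5, 4, 3, 5, 4, 6, 5, 4, 5, 6, 7, 5, 6, 3, 2] (Cert.step [] (Cert.step [3, 4, 3, 2, 5, 7, 6, 5, 4, 3, 5, 4, 5, 6, 7, 5, 4, 5, 6, 3, 4, 5, 2, 3, 4, 5, 6, 5, 4, 5, 2] (Cert.done [3, 2, 4, 5, 6, 5, 4, 3, 5, 4, 5, 4, 6, 5, 4, 3, 2, 5, 4, 3, 5, 6, 5, 4, 3, 5, 4, 3, 5])))),
  (72, Cert.fail),
  (1, Cert.step [] (Cert.step [4, 6, 5, 4, 5, 2, 3, 4, 5, 6, 4, 5, 4, 5, 3, 4, 5, 6, 4, 2] (Cert.step [] (Cert.done [6, 5, 4, 3, 4, 5, 6, 4, 5, 4, 3, 6, 5, 4, 5, 4, 3, 2, 6, 5, 7, 6])))),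
  (1695, Cert.fail),
  (1, Cert.step [5, 4, 6, 5, 4, 3, 2, 5, 4, 3, 5, 4, 6, 7, 5, 4, 5, 6] (Cert.step [] (Cert.step [3, 5, 7, 6, 5, 4, 3, 5, 4, 6, 5, 7, 6, 5, 4, 5, 3, 4, 5, 6, 7, 6] (Cert.done [3, 2, 5, 4, 5, 7, 6, 5, 4, 3, 5, 6, 7, 2, 4, 3, 5, 4, 5, 6, 5, 4, 3, 2, 5, 4, 3, 5, 6, 5, 4])))),
  (198, Cert.fail),
  (1, Cert.step [2, 7] (Cert.step [2, 4, 5, 4, 3, 5, 6, 4, 5, 4, 5, 6, 5, 4, 5, 3, 4, 5, 4, 2] (Cert.step [5, 4, 3, 6, 5, 4, 3, 5, 4, 3, 2, 6, 5, 4, 3, 6, 5, 4, 5, 6, 3, 4, 5, 4, 5, 3, 4, 5, 6, 5, 2] (Cert.done [3, 2, 6, 5, 7, 6, 5, 4, 3, 5, 6, 4, 5, 4, 3, 6, 5, 4, 3, 2, 5, 4, 3, 6])))),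
  (33, Cert.fail)]

/-- the elements of the centralizer of the element of order 6 mapping the point 0 to its fixed point 4632 -/
def certH1 : Cert := Cert.rl [(1124, Cert.fail),
  (1, Cert.step [] (Cert.step [2, 5, 7, 6, 5, 4, 3, 5, 4, 3, 5, 6, 4, 5, 3, 4, 5, 6, 7, 6, 3, 4, 5, 2, 3] (Cert.step [] (Cert.done [2, 3, 4, 7, 6, 5, 4, 5, 4, 5, 6, 7, 3, 5, 4, 3, 6, 5, 4, 3, 5, 6, 7, 6, 5, 4, 3, 5, 4, 6, 0, 3, 4, 5, 4, 1, 3, 2, 6, 7])))),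
  (1237, Cert.fail),
  (1, Cert.step [4, 3, 5, 4, 3, 5, 4, 6, 5, 4, 5, 6, 7, 5, 6, 3, 2] (Cert.step [2, 5, 4, 3, 2, 6, 5, 4, 3, 5, 4, 5, 6, 5, 4, 5, 2, 3, 4, 5, 6, 4, 5, 3, 4, 5, 6, 3] (Cert.step [5, 4, 3, 6, 5, 4, 3, 5, 4, 3, 2, 6, 5, 4, 3, 6, 5, 4, 5, 6, 3, 4, 5, 4, 5, 3, 4, 5, 6, 5, 2] (Cert.done [5, 4, 3, 6, 4, 5, 6, 7, 6, 4, 5, 4, 3, 6, 5, 4, 3, 2, 5, 4, 3, 6, 5, 7, 6, 5, 4, 3, 5, 0, 3, 4, 5, 4, 1, 3, 2, 6, 7])))),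
  (295, Cert.fail),
  (1, Cert.step [2, 5, 4, 5, 6, 3, 4, 5, 3, 4, 5, 6, 5, 4, 3] (Cert.step [2, 4, 5, 4, 3, 5, 6, 4, 5, 4, 5, 6, 5, 4, 5, 3, 4, 5, 4, 2] (Cert.step [3, 4, 3, 2, 5, 7, 6, 5, 4, 3, 5, 4, 5, 6, 7, 5, 4, 5, 6, 3, 4, 5, 2, 3, 4, 5, 6, 5, 4, 5, 2] (Cert.done [0, 3, 4, 6, 0, 3, 5, 6, 1, 4, 5, 4, 6, 5, 3, 4, 0, 5, 6, 2, 3, 1, 4, 1])))),
  (574, Cert.fail),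
  (1, Cert.step [4, 6, 5, 4, 3, 5, 4, 6, 5, 4, 5, 6, 3, 4, 5, 6, 7, 3] (Cert.step [4, 6, 5, 4, 5, 2, 3, 4, 5, 6, 4, 5, 4, 5, 3, 4, 5, 6, 4, 2] (Cert.step [3, 4, 3, 2, 5, 7, 6, 5, 4, 3, 5, 4, 5, 6, 7, 5, 4, 5, 6, 3, 4, 5, 2, 3, 4, 5, 6, 5, 4, 5, 2] (Cert.done [2, 6, 7, 6, 3, 4, 3, 5, 4, 3, 5, 6, 5, 4, 3, 5, 4, 5, 6, 5, 4, 3, 5, 7, 0, 3, 4, 5, 4, 1, 3, 2, 6, 7])))),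
  (394, Cert.fail),
  (1, Cert.step [3, 4, 5, 6, 5, 4, 5, 4, 3, 2, 6, 4, 5, 4, 5] (Cert.step [] (Cert.step [3, 4, 3, 2, 5, 7, 6, 5, 4, 3, 5, 4, 5, 6, 7, 5, 4, 5, 6, 3, 4, 5, 2, 3, 4, 5, 6, 5, 4, 5, 2] (Cert.done [4, 3, 2, 5, 4, 3, 5, 4, 6, 5, 7, 3, 4, 5, 4, 5, 6, 5, 4, 5, 3, 5, 4, 6, 5, 4, 3, 5, 4, 5, 6, 7, 0, 3, 4, 5, 4, 1, 3, 2, 6, 7])))),
  (256, Cert.fail),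
  (1, Cert.step [3, 6, 4, 5, 4, 5, 6, 5, 4, 3] (Cert.step [] (Cert.step [3, 5, 7, 6, 5, 4, 3, 5, 4, 6, 5, 7, 6, 5, 4, 5, 3, 4, 5, 6, 7, 6] (Cert.done [1, 3, 4, 5, 6, 1, 3, 2, 6, 5, 4, 5, 6, 1, 3, 4, 5, 6, 2, 3, 4, 0, 5, 1])))),
  (100, Cert.fail),
  (1, Cert.step [3, 7, 6, 5, 4, 3, 6, 5, 4, 5, 6, 4, 5, 3, 4, 5, 6, 4] (Cert.step [2, 5, 7, 6, 5, 4, 3, 5, 4, 3, 5, 6, 4, 5, 3, 4, 5, 6, 7, 6, 3, 4, 5, 2, 3] (Cert.step [5, 4, 3, 6, 5, 4, 3, 5, 4, 3, 2, 6, 5, 4, 3, 6, 5, 4, 5, 6, 3, 4, 5, 4, 5, 3, 4, 5, 6, 5, 2] (Cert.done [3, 4, 5, 7, 6, 5, 4, 3, 5, 6, 7, 4, 5, 4, 3, 6, 5, 4, 3, 5, 4, 3, 6, 5, 4, 3, 5, 4, 6, 5, 4, 3, 7, 0, 3, 4, 5, 4, 1, 3, 2, 6, 7])))),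
  (405, Cert.fail),
  (1, Cert.step [2, 7] (Cert.step [4, 6, 5, 4, 7, 6, 5, 3, 4, 5, 6, 7, 3, 4, 5, 6, 4, 5, 2] (Cert.step [3, 4, 3, 2, 5, 7, 6, 5, 4, 3, 5, 4, 5, 6, 7, 5, 4, 5, 6, 3, 4, 5, 2, 3, 4, 5, 6, 5, 4, 5, 2] (Cert.done [3, 2, 5, 6, 7, 6, 5, 4, 3, 5, 6, 4, 5, 4, 3, 6, 5, 4, 3, 5, 6, 7, 6, 5, 4, 3, 2, 5, 4, 3, 6, 0, 3, 4, 5, 4, 1, 3, 2, 6, 7])))),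
  (242, Cert.fail),
  (1, Cert.step [3, 6, 4, 5, 4, 5, 6, 5, 4, 3] (Cert.step [] (Cert.step [] (Cert.done [3, 7, 6, 0, 5, 4, 3, 5, 4, 0, 3, 6, 5, 0, 4, 5, 6, 1, 3, 1])))),
  (354, Cert.fail),
  (1, Cert.step [5, 6, 5, 4, 3, 5, 6, 7, 6, 4, 5, 2, 3, 4, 5, 6, 5] (Cert.step [2, 4, 5, 4, 3, 5, 6, 4, 5, 4, 5, 6, 5, 4, 5, 3, 4, 5, 4, 2] (Cert.step [3, 4, 3, 2, 5, 7, 6, 5, 4, 3, 5, 4, 5, 6, 7, 5, 4, 5, 6, 3, 4, 5, 2, 3, 4, 5, 6, 5, 4, 5, 2] (Cert.done [3, 2, 4, 3, 6, 5, 4, 5, 4, 3, 6, 5, 4, 5, 1, 3, 4, 5, 4, 1, 6, 3, 1, 1])))),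
  (1, Cert.step [2, 5, 4, 5, 4] (Cert.step [] (Cert.step [3, 4, 3, 2, 5, 7, 6, 5, 4, 3, 5, 4, 5, 6, 7, 5, 4, 5, 6, 3, 4, 5, 2, 3, 4, 5, 6, 5, 4, 5, 2] (Cert.done [3, 2, 4, 3, 6, 7, 5, 6, 5, 2, 4, 3, 5, 4, 3, 5, 6, 5, 4, 3, 2, 7, 6, 5, 4, 3, 2, 0, 3, 4, 5, 4, 1, 3, 2, 6, 7])))),
  (90, Cert.fail),
  (1, Cert.step [2, 4, 5, 4, 5] (Cert.step [4, 6, 5, 4, 5, 2, 3, 4, 5, 6, 4, 5, 4, 5, 3, 4, 5, 6, 4, 2] (Cert.step [3, 5, 7, 6, 5, 4, 3, 5, 4, 6, 5, 7, 6, 5, 4, 5, 3, 4, 5, 6, 7, 6] (Cert.done [3, 5, 4, 5, 4, 6, 5, 4, 3, 5, 2, 4, 5, 4, 3, 6, 5, 4, 3, 5, 4, 3, 2, 6, 5, 4, 5, 0, 3, 4, 5, 4, 1, 3, 2, 6, 7])))),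
  (503, Cert.fail)]

/-- the elements of the centralizer of the element of order 6 mapping the point 0 to its fixed point 16145 -/
def certH2 : Cert := Cert.rl [(5586, Cert.fail)]

end Cfsg.Agent.Lib.Helper2.ONOutD
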