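import Cfsg.Agent.Lib.Helper2.PMChain8

set_option autoImplicit false
set_option maxRecDepth 100000

/-! # Data for the automorphisms of the presented group `O'N` on 122760 points: the certificates of the searches of the centralizer of the element of order 6, part 2 -/

namespace Cfsg.Agent.Lib.Helper2.ONOutD

open Cfsg.Agent.Lib.Helper2.PMC

/-- the elements of the centralizer of the element of order 6 mapping the point 0 to its fixed point 39974 -/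
def certH3 : Cert := Cert.rl [(5586, Cert.fail)]

/-- the elements of the centralizer of the element of order 6 mapping the point 0 to its fixed point 72328 -/
def certH4 : Cert := Cert.rl [(195, Cert.fail),
  (1, Cert.step [3, 4, 5, 6, 5, 4, 5, 4, 3, 2, 6, 7] (Cert.step [2, 5, 7, 6, 5, 4, 3, 5, 4, 3, 5, 6, 4, 5, 3, 4, 5, 6, 7, 6, 3, 4, 5, 2, 3] (Cert.step [3, 4, 3, 2, 5, 7, 6, 5, 4, 3, 5, 4, 5, 6, 7, 5, 4, 5, 6, 3, 4, 5, 2, 3, 4, 5, 6, 5, 4, 5, 2] (Cert.done [2, 3, 4, 5, 4, 5, 6, 5, 4, 5, 7, 4, 5, 6, 5, 4, 5, 3, 4, 5, 2, 4, 5, 4, 3, 6, 5, 4, 3, 5, 4, 3, 6, 5, 4, 3, 2, 7, 6, 0, 3, 4, 5, 4, 5, 6, 5, 4, 1, 3, 4, 0, 5])))),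
  (340, Cert.fail),
  (1, Cert.step [2, 5, 4, 5, 4] (Cert.step [] (Cert.step [3, 5, 7, 6, 5, 4, 3, 5, 4, 6, 5, 7, 6, 5, 4, 5, 3, 4, 5, 6, 7, 6] (Cert.done [3, 2, 5, 4, 5, 7, 6, 5, 4, 3, 5, 6, 2, 4, 3, 5, 4, 3, 6, 5, 4, 3, 2, 5, 7, 6, 5, 4, 3, 2, 5, 4, 5, 0, 3, 4, 5, 4, 5, 6, 5, 4, 1, 3, 4, 0, 5])))),
  (381, Cert.fail),
  (1, Cert.step [4, 6, 5, 4, 3, 5, 4, 6, 5, 4, 5, 6, 3, 4, 5, 6, 7, 3] (Cert.step [2, 5, 7, 6, 5, 4, 3, 5, 4, 3, 5, 6, 4, 5, 3, 4, 5, 6, 7, 6, 3, 4, 5, 2, 3] (Cert.step [] (Cert.done [3, 5, 4, 5, 4, 6, 5, 4, 3, 7, 6, 5, 4, 5, 4, 6, 5, 4, 3, 2, 5, 4, 0, 3, 4, 5, 4, 5, 6, 5, 4, 1, 3, 4, 0, 5])))),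
  (108, Cert.fail),
  (1, Cert.step [5, 6, 5, 4, 3, 5, 6, 7, 6, 4, 5, 2, 3, 4, 5, 6, 5] (Cert.step [4, 6, 5, 4, 5, 2, 3, 4, 5, 6, 4, 5, 4, 5, 3, 4, 5, 6, 4, 2] (Cert.step [5, 4, 3, 6, 5, 4, 3, 5, 4, 3, 2, 6, 5, 4, 3, 6, 5, 4, 5, 6, 3, 4, 5, 4, 5, 3, 4, 5, 6, 5, 2] (Cert.done [0, 4, 0, 3, 2, 6, 5, 1, 4, 3, 5, 4, 6, 5, 4, 0, 6, 5, 3, 1, 6, 4, 3, 1])))),
  (50, Cert.fail),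
  (1, Cert.step [3, 6, 4, 5, 4, 5, 6, 5, 4, 3] (Cert.step [4, 6, 5, 4, 5, 2, 3, 4, 5, 6, 4, 5, 4, 5, 3, 4, 5, 6, 4, 2] (Cert.step [3, 4, 3, 2, 5, 7, 6, 5, 4, 3, 5, 4, 5, 6, 7, 5, 4, 5, 6, 3, 4, 5, 2, 3, 4, 5, 6, 5, 4, 5, 2] (Cert.done [7, 6, 5, 0, 3, 4, 3, 5, 4, 0, 3, 0, 6, 5, 4, 5, 6, 7, 4, 3])))),
  (672, Cert.fail),
  (1, Cert.step [2, 4, 5, 4, 5] (Cert.step [2, 5, 7, 6, 5, 4, 3, 5, 4, 3, 5, 6, 4, 5, 3, 4, 5, 6, 7, 6, 3, 4, 5, 2, 3] (Cert.step [5, 4, 3, 6, 5, 4, 3, 5, 4, 3, 2, 6, 5, 4, 3, 6, 5, 4, 5, 6, 3, 4, 5, 4, 5, 3, 4, 5, 6, 5, 2] (Cert.done [3, 4, 7, 6, 5, 4, 3, 5, 6, 2, 4, 3, 5, 4, 3, 5, 6, 5, 4, 3, 5, 4, 5, 4, 6, 5, 4, 3, 2, 7, 6, 5, 4, 3, 5, 4, 6, 0, 3, 4, 5, 4, 5, 6, 5, 4, 1, 3, 4, 0, 5])))),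
  (618, Cert.fail),
  (1, Cert.step [3, 2, 4, 3, 5, 4, 7, 6, 5, 6, 4, 5, 3, 4, 5, 2, 3, 4, 5] (Cert.step [2, 5, 7, 6, 5, 4, 3, 5, 4, 3, 5, 6, 4, 5, 3, 4, 5, 6, 7, 6, 3, 4, 5, 2, 3] (Cert.step [] (Cert.done [4, 3, 2, 6, 5, 4, 5, 4, 5, 3, 4, 5, 6, 2, 4, 3, 5, 4, 3, 6, 5, 4, 3, 2, 5, 4, 3, 6, 5, 4, 3, 2, 5, 6, 0, 3, 4, 5, 4, 5, 6, 5, 4, 1, 3, 4, 0, 5])))),
  (995, Cert.fail),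
  (1, Cert.step [4, 3, 5, 4, 3, 5, 4, 6, 5, 4, 5, 6, 7, 5, 6, 3, 2] (Cert.step [2, 4, 5, 4, 3, 5, 6, 4, 5, 4, 5, 6, 5, 4, 5, 3, 4, 5, 4, 2] (Cert.step [3, 4, 3, 2, 5, 7, 6, 5, 4, 3, 5, 4, 5, 6, 7, 5, 4, 5, 6, 3, 4, 5, 2, 3, 4, 5, 6, 5, 4, 5, 2] (Cert.done [3, 2, 6, 5, 7, 6, 5, 4, 3, 5, 6, 2, 4, 3, 5, 4, 3, 6, 5, 4, 3, 5, 4, 6, 5, 4, 7, 6, 5, 4, 3, 2, 5, 4, 3, 5, 4, 5, 6, 5, 4, 5, 0, 3, 4, 5, 4, 5, 6, 5, 4, 1, 3, 4, 0, 5])))),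
  (894, Cert.fail),
  (1, Cert.step [3, 5, 4, 3, 5, 4, 3, 5, 6, 7, 4, 5, 6, 5, 4, 5, 3, 4, 5, 6, 3] (Cert.step [2, 3, 7, 6, 4, 5, 4, 5, 6, 7, 5, 4, 3, 2] (Cert.step [3, 5, 7, 6, 5, 4, 3, 5, 4, 6, 5, 7, 6, 5, 4, 5, 3, 4, 5, 6, 7, 6] (Cert.done [5, 6, 2, 4, 3, 5, 4, 5, 6, 5, 4, 3, 5, 4, 5, 6, 5, 4, 3, 5, 4, 5, 6, 7, 6, 5, 4, 0, 3, 4, 5, 4, 5, 6, 5, 4, 1, 3, 4, 0, 5])))),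
  (9, Cert.fail),
  (1, Cert.step [3, 5, 4, 5, 4, 3, 6, 5, 4, 7, 6, 7, 5, 4, 5, 6, 3, 4, 5, 4, 5, 6, 5, 4] (Cert.step [] (Cert.step [3, 4, 3, 2, 5, 7, 6, 5, 4, 3, 5, 4, 5, 6, 7, 5, 4, 5, 6, 3, 4, 5, 2, 3, 4, 5, 6, 5, 4, 5, 2] (Cert.done [5, 4, 3, 2, 5, 4, 5, 4, 5, 6, 7, 3, 4, 5, 2, 4, 5, 4, 3, 2, 6, 5, 4, 3, 5, 4, 5, 6, 5, 4, 3, 7, 6, 5, 0, 3, 4, 5, 4, 5, 6, 5, 4, 1, 3, 4, 0, 5])))),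
  (461, Cert.fail),
  (1, Cert.step [4, 3, 5, 4, 3, 5, 4, 6, 5, 4, 5, 6, 7, 5, 6, 3, 2] (Cert.step [2, 5, 4, 3, 2, 6, 5, 4, 3, 5, 4, 5, 6, 5, 4, 5, 2, 3, 4, 5, 6, 4, 5, 3, 4, 5, 6, 3] (Cert.step [5, 4, 3, 6, 5, 4, 3, 5, 4, 3, 2, 6, 5, 4, 3, 6, 5, 4, 5, 6, 3, 4, 5, 4, 5, 3, 4, 5, 6, 5, 2] (Cert.done [0, 5, 1, 4, 3, 2, 6, 5, 4, 3, 0, 6, 5, 4, 5, 6, 2, 3, 0, 6, 5, 4, 3, 0])))),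
  (743, Cert.fail),
  (1, Cert.step [4, 6, 5, 4, 3, 5, 4, 6, 5, 4, 5, 6, 3, 4, 5, 6, 7, 3] (Cert.step [2, 4, 5, 4, 3, 5, 6, 4, 5, 4, 5, 6, 5, 4, 5, 3, 4, 5, 4, 2] (Cert.step [] (Cert.done [4, 1, 3, 1, 6, 5, 4, 5, 1, 3, 6, 5, 4, 5, 1, 3, 1, 4, 3, 0, 5, 6, 3, 2])))),
  (108, Cert.fail)]

/-- the elements of the centralizer of the element of order 6 mapping the point 0 to its fixed point 94285 -/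
def certH5 : Cert := Cert.rl [(5586, Cert.fail)]

end Cfsg.Agent.Lib.Helper2.ONOutD
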