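import Cfsg.Agent.Lib.Helper2.ONOut1
import Cfsg.Agent.Lib.Helper2.ONOut3d
import Cfsg.Agent.Lib.Helper2.ONOutC3

set_option autoImplicit false
set_option maxRecDepth 100000

/-! # The presented group `O'N`: the search of the centralizer of the element of order 6, part e -/

namespace Cfsg.Agent.Lib.Helper2.ONOut

open Cfsg.Agent.Lib.Helper6 Cfsg.Agent.Lib.Helper6.TC Cfsg.Agent.Lib.Helper6.TCD
open Cfsg.Agent.Lib.Helper6.PM Cfsg.Agent.Lib.Helper2.PMS Cfsg.Agent.Lib.Helper2.PMC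
open Cfsg.Agent.Lib.Helper2.ONOutD Cfsg.Agent.Lib.Helper2.RigidOut

theorem chk_H4 : (chkW M (ufs.getD 4 []) && Nat.beq (wappS M.px (ufs.getD 4 []) 0) 72328 &&
    chk M iv wh wh certH4 lvB (pendOf lvB) [0] (ufs.getD 4 [])) = true := by decide +kernel

end Cfsg.Agent.Lib.Helper2.ONOut
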