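import Cfsg.Agent.Lib.Helper2.PMChain8

set_option autoImplicit false
set_option maxRecDepth 100000

/-! # Data for the automorphisms of the presented group `O'N` on 122760 points: the certificates of the searches of the centralizer of the element of order 6, part 3 -/

namespace Cfsg.Agent.Lib.Helper2.ONOutD

open Cfsg.Agent.Lib.Helper2.PMC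

/-- the elements of the centralizer of the element of order 6 mapping the point 0 to its fixed point 113756 -/
def certH6 : Cert := Cert.rl [(666, Cert.fail),
  (1, Cert.step [3, 2, 4, 3, 5, 4, 7, 6, 5, 6, 4, 5, 3, 4, 5, 2, 3, 4, 5] (Cert.step [2, 4, 5, 4, 3, 5, 6, 4, 5, 4, 5, 6, 5, 4, 5, 3, 4, 5, 4, 2] (Cert.step [3, 5, 7, 6, 5, 4, 3, 5, 4, 6, 5, 7, 6, 5, 4, 5, 3, 4, 5, 6, 7, 6] (Cert.done [3, 2, 7, 6, 5, 4, 5, 4, 6, 5, 4, 3, 5, 2, 4, 5, 4, 3, 6, 5, 4, 5, 4, 3, 6, 5, 4, 5, 7, 6, 5, 4, 5, 0, 5, 6, 5, 4, 3, 5, 0, 4, 3, 6, 1, 5, 4, 5])))),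
  (521, Cert.fail),
  (1, Cert.step [3, 7, 6, 5, 4, 3, 6, 5, 4, 5, 6, 4, 5, 3, 4, 5, 6, 4] (Cert.step [2, 5, 4, 3, 2, 6, 5, 4, 3, 5, 4, 5, 6, 5, 4, 5, 2, 3, 4, 5, 6, 4, 5, 3, 4, 5, 6, 3] (Cert.step [5, 4, 3, 6, 5, 4, 3, 5, 4, 3, 2, 6, 5, 4, 3, 6, 5, 4, 5, 6, 3, 4, 5, 4, 5, 3, 4, 5, 6, 5, 2] (Cert.done [3, 6, 5, 4, 5, 4, 6, 5, 4, 3, 7, 2, 4, 3, 5, 4, 3, 6, 5, 4, 3, 7, 6, 5, 4, 3, 2, 5, 4, 3, 6, 5, 7, 6, 0, 5, 6, 5, 4, 3, 5, 0, 4, 3, 6, 1, 5, 4, 5])))),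
  (72, Cert.fail),
  (1, Cert.step [6, 5, 4, 5, 7, 6, 4, 5, 3, 4, 5, 2, 3, 4, 5, 6, 4, 5] (Cert.step [2, 5, 4, 3, 2, 6, 5, 4, 3, 5, 4, 5, 6, 5, 4, 5, 2, 3, 4, 5, 6, 4, 5, 3, 4, 5, 6, 3] (Cert.step [3, 4, 3, 2, 5, 7, 6, 5, 4, 3, 5, 4, 5, 6, 7, 5, 4, 5, 6, 3, 4, 5, 2, 3, 4, 5, 6, 5, 4, 5, 2] (Cert.done [3, 2, 5, 6, 7, 4, 3, 4, 5, 4, 3, 6, 5, 4, 3, 5, 4, 3, 5, 4, 6, 5, 7, 6, 0, 5, 6, 5, 4, 3, 5, 0, 4, 3, 6, 1, 5, 4, 5])))),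
  (30, Cert.fail),
  (1, Cert.step [3, 6, 4, 5, 4, 5, 6, 5, 4, 3] (Cert.step [3, 4, 3, 5, 6, 5, 4, 5, 6, 7, 4, 5, 6, 3, 4, 5, 4, 5, 6, 5, 3, 4, 3] (Cert.step [] (Cert.done [3, 4, 5, 6, 7, 6, 4, 3, 4, 5, 4, 3, 2, 6, 5, 4, 3, 2, 5, 4, 3, 6, 5, 0, 5, 6, 5, 4, 3, 5, 0, 4, 3, 6, 1, 5, 4, 5])))),
  (30, Cert.fail),
  (1, Cert.step [3, 5, 4, 3, 5, 4, 3, 5, 6, 7, 4, 5, 6, 5, 4, 5, 3, 4, 5, 6, 3] (Cert.step [3, 4, 3, 5, 6, 5, 4, 5, 6, 7, 4, 5, 6, 3, 4, 5, 4, 5, 6, 5, 3, 4, 3] (Cert.step [] (Cert.done [3, 2, 4, 5, 4, 7, 6, 5, 4, 3, 2, 4, 3, 5, 4, 3, 6, 5, 4, 3, 2, 5, 7, 6, 5, 4, 3, 5, 4, 3, 5, 6, 5, 7, 6, 0, 5, 6, 5, 4, 3, 5, 0, 4, 3, 6, 1, 5, 4, 5])))),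
  (105, Cert.fail),
  (1, Cert.step [3, 6, 4, 5, 4, 5, 6, 5, 4, 3] (Cert.step [2, 4, 5, 4, 3, 5, 6, 4, 5, 4, 5, 6, 5, 4, 5, 3, 4, 5, 4, 2] (Cert.step [3, 5, 7, 6, 5, 4, 3, 5, 4, 6, 5, 7, 6, 5, 4, 5, 3, 4, 5, 6, 7, 6] (Cert.done [3, 5, 4, 3, 6, 1, 5, 6, 5, 4, 3, 5, 4, 1, 6, 3, 4, 1, 5, 4, 3, 0])))),
  (354, Cert.fail),
  (1, Cert.step [2, 5, 4, 5, 4] (Cert.step [3, 4, 3, 5, 6, 5, 4, 5, 6, 7, 4, 5, 6, 3, 4, 5, 4, 5, 6, 5, 3, 4, 3] (Cert.step [5, 4, 3, 6, 5, 4, 3, 5, 4, 3, 2, 6, 5, 4, 3, 6, 5, 4, 5, 6, 3, 4, 5, 4, 5, 3, 4, 5, 6, 5, 2] (Cert.done [5, 4, 6, 7, 3, 5, 4, 3, 2, 6, 5, 4, 3, 5, 4, 6, 5, 4, 3, 5, 4, 6, 0, 5, 6, 5, 4, 3, 5, 0, 4, 3, 6, 1, 5, 4, 5])))),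
  (306, Cert.fail),
  (1, Cert.step [2, 7] (Cert.step [2, 4, 5, 4, 3, 5, 6, 4, 5, 4, 5, 6, 5, 4, 5, 3, 4, 5, 4, 2] (Cert.step [5, 4, 3, 6, 5, 4, 3, 5, 4, 3, 2, 6, 5, 4, 3, 6, 5, 4, 5, 6, 3, 4, 5, 4, 5, 3, 4, 5, 6, 5, 2] (Cert.done [3, 4, 5, 4, 6, 5, 4, 7, 6, 5, 4, 3, 2, 4, 3, 5, 4, 3, 5, 6, 5, 4, 3, 2, 5, 7, 6, 5, 4, 3, 5, 0, 5, 6, 5, 4, 3, 5, 0, 4, 3, 6, 1, 5, 4, 5])))),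
  (152, Cert.fail),
  (1, Cert.step [3, 2, 4, 3, 5, 4, 7, 6, 5, 6, 4, 5, 3, 4, 5, 2, 3, 4, 5] (Cert.step [2, 5, 4, 3, 2, 6, 5, 4, 3, 5, 4, 5, 6, 5, 4, 5, 2, 3, 4, 5, 6, 4, 5, 3, 4, 5, 6, 3] (Cert.step [5, 4, 3, 6, 5, 4, 3, 5, 4, 3, 2, 6, 5, 4, 3, 6, 5, 4, 5, 6, 3, 4, 5, 4, 5, 3, 4, 5, 6, 5, 2] (Cert.done [4, 3, 2, 6, 5, 4, 5, 4, 5, 6, 7, 3, 4, 2, 4, 3, 5, 4, 5, 6, 5, 4, 3, 5, 4, 3, 5, 6, 5, 4, 3, 5, 4, 5, 4, 6, 5, 0, 5, 6, 5, 4, 3, 5, 0, 4, 3, 6, 1, 5, 4, 5])))),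
  (912, Cert.fail),
  (1, Cert.step [2, 7] (Cert.step [2, 3, 7, 6, 4, 5, 4, 5, 6, 7, 5, 4, 3, 2] (Cert.step [] (Cert.done [2, 7, 3, 2, 4, 5, 4, 3, 6, 5, 4, 3, 2, 5, 4, 6, 5, 7, 0, 5, 6, 5, 4, 3, 5, 0, 4, 3, 6, 1, 5, 4, 5])))),
  (1167, Cert.fail),
  (1, Cert.step [3, 7, 6, 5, 4, 3, 6, 5, 4, 5, 6, 4, 5, 3, 4, 5, 6, 4] (Cert.step [2, 5, 4, 3, 2, 6, 5, 4, 3, 5, 4, 5, 6, 5, 4, 5, 2, 3, 4, 5, 6, 4, 5, 3, 4, 5, 6, 3] (Cert.step [3, 4, 3, 2, 5, 7, 6, 5, 4, 3, 5, 4, 5, 6, 7, 5, 4, 5, 6, 3, 4, 5, 2, 3, 4, 5, 6, 5, 4, 5, 2] (Cert.done [3, 2, 5, 4, 5, 4, 6, 5, 4, 3, 7, 6, 2, 4, 5, 4, 3, 2, 6, 5, 4, 3, 5, 4, 6, 5, 4, 3, 7, 6, 5, 4, 3, 5, 6, 7, 0, 5, 6, 5, 4, 3, 5, 0, 4, 3, 6, 1, 5, 4, 5])))),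
  (848, Cert.fail),
  (1, Cert.step [2, 4, 5, 4, 5] (Cert.step [] (Cert.step [5, 4, 3, 6, 5, 4, 3, 5, 4, 3, 2, 6, 5, 4, 3, 6, 5, 4, 5, 6, 3, 4, 5, 4, 5, 3, 4, 5, 6, 5, 2] (Cert.done [6, 5, 4, 3, 4, 5, 6, 7, 4, 5, 4, 3, 2, 6, 5, 4, 3, 5, 4, 5, 6, 5, 4, 5, 6, 7, 0, 5, 6, 5, 4, 3, 5, 0, 4, 3, 6, 1, 5, 4, 5])))),
  (411, Cert.fail)]

/-- the elements of the centralizer of the element of order 6 mapping the point 0 to its fixed point 115346 -/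
def certH7 : Cert := Cert.rl [(453, Cert.fail),
  (1, Cert.step [6, 5, 4, 5, 7, 6, 4, 5, 3, 4, 5, 2, 3, 4, 5, 6, 4, 5] (Cert.step [2, 5, 4, 3, 2, 6, 5, 4, 3, 5, 4, 5, 6, 5, 4, 5, 2, 3, 4, 5, 6, 4, 5, 3, 4, 5, 6, 3] (Cert.step [3, 5, 7, 6, 5, 4, 3, 5, 4, 6, 5, 7, 6, 5, 4, 5, 3, 4, 5, 6, 7, 6] (Cert.done [4, 3, 0, 6, 5, 4, 0, 3, 5, 6, 0, 4, 5, 6, 4, 0, 3, 1, 4, 5, 3, 4, 5, 0])))),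
  (46, Cert.fail),
  (1, Cert.step [6, 5, 4, 5, 7, 6, 4, 5, 3, 4, 5, 2, 3, 4, 5, 6, 4, 5] (Cert.step [3, 4, 3, 5, 6, 5, 4, 5, 6, 7, 4, 5, 6, 3, 4, 5, 4, 5, 6, 5, 3, 4, 3] (Cert.step [3, 5, 7, 6, 5, 4, 3, 5, 4, 6, 5, 7, 6, 5, 4, 5, 3, 4, 5, 6, 7, 6] (Cert.done [6, 5, 4, 5, 1, 3, 2, 4, 3, 5, 0, 6, 5, 4, 5, 3, 4, 1, 6, 2, 3, 2])))),
  (58, Cert.fail),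
  (1, Cert.step [3, 6, 4, 5, 4, 5, 6, 5, 4, 3] (Cert.step [4, 6, 5, 4, 5, 2, 3, 4, 5, 6, 4, 5, 4, 5, 3, 4, 5, 6, 4, 2] (Cert.step [3, 4, 3, 2, 5, 7, 6, 5, 4, 3, 5, 4, 5, 6, 7, 5, 4, 5, 6, 3, 4, 5, 2, 3, 4, 5, 6, 5, 4, 5, 2] (Cert.done [7, 6, 5, 4, 7, 3, 4, 5, 4, 5, 4, 3, 6, 5, 4, 3, 2, 5, 4, 3, 6, 5, 4, 3, 2, 5, 6, 0, 6, 5, 1, 4, 3, 5, 4, 6, 5, 4, 3, 1, 3, 4])))),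
  (438, Cert.fail),
  (1, Cert.step [5, 6, 5, 4, 3, 5, 6, 7, 6, 4, 5, 2, 3, 4, 5, 6, 5] (Cert.step [2, 3, 7, 6, 4, 5, 4, 5, 6, 7, 5, 4, 3, 2] (Cert.step [5, 4, 3, 6, 5, 4, 3, 5, 4, 3, 2, 6, 5, 4, 3, 6, 5, 4, 5, 6, 3, 4, 5, 4, 5, 3, 4, 5, 6, 5, 2] (Cert.done [3, 5, 4, 5, 4, 6, 5, 4, 3, 5, 4, 5, 4, 3, 6, 5, 4, 5, 4, 3, 2, 6, 5, 4, 5, 6, 7, 0, 6, 5, 1, 4, 3, 5, 4, 6, 5, 4, 3, 1, 3, 4])))),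
  (332, Cert.fail),
  (1, Cert.step [3, 4, 5, 6, 5, 4, 5, 4, 3, 2, 6, 4, 5, 4, 5] (Cert.step [3, 4, 3, 5, 6, 5, 4, 5, 6, 7, 4, 5, 6, 3, 4, 5, 4, 5, 6, 5, 3, 4, 3] (Cert.step [3, 5, 7, 6, 5, 4, 3, 5, 4, 6, 5, 7, 6, 5, 4, 5, 3, 4, 5, 6, 7, 6] (Cert.done [3, 2, 5, 7, 4, 5, 3, 4, 5, 4, 3, 6, 5, 4, 5, 4, 3, 6, 5, 4, 3, 5, 7, 6, 0, 6, 5, 1, 4, 3, 5, 4, 6, 5, 4, 3, 1, 3, 4])))),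
  (1361, Cert.fail),
  (1, Cert.step [2, 3, 2, 4, 3, 2, 5, 4, 6, 5, 6, 7, 4, 5, 3, 4, 2, 3] (Cert.step [2, 3, 7, 6, 4, 5, 4, 5, 6, 7, 5, 4, 3, 2] (Cert.step [] (Cert.done [3, 5, 4, 7, 6, 5, 4, 3, 2, 4, 3, 5, 4, 3, 5, 6, 5, 4, 3, 2, 5, 4, 3, 5, 6, 7, 0, 6, 5, 1, 4, 3, 5, 4, 6, 5, 4, 3, 1, 3, 4])))),
  (735, Cert.fail),
  (1, Cert.step [2, 3, 2, 4, 3, 5, 4, 6, 5, 6, 4, 5, 3, 4, 5, 2, 3, 4, 5] (Cert.step [4, 6, 5, 4, 7, 6, 5, 3, 4, 5, 6, 7, 3, 4, 5, 6, 4, 5, 2] (Cert.step [] (Cert.done [3, 4, 6, 5, 4, 3, 2, 4, 3, 5, 4, 3, 2, 6, 5, 4, 3, 7, 6, 5, 4, 3, 5, 4, 3, 2, 6, 5, 4, 3, 5, 4, 6, 5, 4, 5, 6, 0, 6, 5, 1, 4, 3, 5, 4, 6, 5, 4, 3, 1, 3, 4])))),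
  (227, Cert.fail),
  (1, Cert.step [3, 2, 4, 3, 5, 4, 7, 6, 5, 6, 4, 5, 3, 4, 5, 2, 3, 4, 5] (Cert.step [2, 4, 5, 4, 3, 5, 6, 4, 5, 4, 5, 6, 5, 4, 5, 3, 4, 5, 4, 2] (Cert.step [] (Cert.done [5, 4, 5, 1, 3, 6, 0, 4, 3, 2, 5, 4, 6, 3, 1, 6, 5, 4, 5, 6, 1, 3, 4, 3])))),
  (657, Cert.fail),
  (1, Cert.step [5, 4, 6, 5, 4, 3, 2, 5, 4, 3, 5, 4, 6, 7, 5, 4, 5, 6] (Cert.step [] (Cert.step [3, 4, 3, 2, 5, 7, 6, 5, 4, 3, 5, 4, 5, 6, 7, 5, 4, 5, 6, 3, 4, 5, 2, 3, 4, 5, 6, 5, 4, 5, 2] (Cert.done [3, 5, 4, 5, 6, 4, 5, 3, 4, 5, 4, 6, 5, 4, 3, 2, 5, 4, 3, 5, 6, 5, 4, 5, 4, 3, 2, 6, 7, 0, 6, 5, 1, 4, 3, 5, 4, 6, 5, 4, 3, 1, 3, 4])))),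
  (11, Cert.fail),
  (1, Cert.step [4, 6, 5, 4, 3, 5, 4, 6, 5, 4, 5, 6, 3, 4, 5, 6, 7, 3] (Cert.step [3, 4, 3, 5, 6, 5, 4, 5, 6, 7, 4, 5, 6, 3, 4, 5, 4, 5, 6, 5, 3, 4, 3] (Cert.step [3, 4, 3, 2, 5, 7, 6, 5, 4, 3, 5, 4, 5, 6, 7, 5, 4, 5, 6, 3, 4, 5, 2, 3, 4, 5, 6, 5, 4, 5, 2] (Cert.done [3, 2, 5, 6, 5, 7, 6, 5, 4, 3, 5, 6, 7, 4, 5, 4, 3, 6, 5, 4, 3, 5, 4, 3, 2, 5, 6, 5, 4, 5, 6, 7, 0, 6, 5, 1, 4, 3, 5, 4, 6, 5, 4, 3, 1, 3, 4])))),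
  (50, Cert.fail),
  (1, Cert.step [4, 3, 5, 4, 3, 5, 4, 6, 5, 4, 5, 6, 7, 5, 6, 3, 2] (Cert.step [2, 3, 7, 6, 4, 5, 4, 5, 6, 7, 5, 4, 3, 2] (Cert.step [5, 4, 3, 6, 5, 4, 3, 5, 4, 3, 2, 6, 5, 4, 3, 6, 5, 4, 5, 6, 3, 4, 5, 4, 5, 3, 4, 5, 6, 5, 2] (Cert.done [4, 3, 6, 5, 4, 3, 5, 4, 3, 4, 5, 6, 2, 3, 4, 3, 4, 3, 5, 4, 3, 2, 6, 5, 4, 3, 2, 7, 6, 5, 4, 5, 6, 7, 0, 6, 5, 1, 4, 3, 5, 4, 6, 5, 4, 3, 1, 3, 4])))),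
  (756, Cert.fail),
  (1, Cert.step [2, 7] (Cert.step [2, 3, 7, 6, 4, 5, 4, 5, 6, 7, 5, 4, 3, 2] (Cert.step [3, 5, 7, 6, 5, 4, 3, 5, 4, 6, 5, 7, 6, 5, 4, 5, 3, 4, 5, 6, 7, 6] (Cert.done [0, 4, 6, 0, 5, 6, 0, 4, 3, 5, 0, 4, 5, 3, 4, 3, 1, 6, 5, 1, 6, 4, 1])))),
  (450, Cert.fail)]

/-- the elements of the centralizer of the element of order 6 mapping the point 0 to its fixed point 119594 -/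
def certH8 : Cert := Cert.rl [(232, Cert.fail),
  (1, Cert.step [3, 4, 5, 6, 5, 4, 5, 4, 3, 2, 6, 5, 4, 5, 4] (Cert.step [2, 3, 7, 6, 4, 5, 4, 5, 6, 7, 5, 4, 3, 2] (Cert.step [3, 5, 7, 6, 5, 4, 3, 5, 4, 6, 5, 7, 6, 5, 4, 5, 3, 4, 5, 6, 7, 6] (Cert.done [5, 6, 5, 2, 4, 3, 5, 4, 3, 6, 5, 4, 3, 2, 5, 7, 6, 5, 4, 5, 4, 3, 2, 6, 5, 4, 3, 5, 6, 7, 0, 3, 2, 4, 3, 6, 5, 4, 3, 0, 6, 0, 5, 6, 1, 4])))),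
  (1476, Cert.fail),
  (1, Cert.step [4, 6, 5, 4, 3, 5, 4, 6, 5, 4, 5, 6, 3, 4, 5, 6, 7, 3] (Cert.step [2, 5, 4, 3, 2, 6, 5, 4, 3, 5, 4, 5, 6, 5, 4, 5, 2, 3, 4, 5, 6, 4, 5, 3, 4, 5, 6, 3] (Cert.step [] (Cert.done [3, 5, 4, 5, 6, 5, 4, 5, 4, 3, 6, 2, 4, 3, 5, 4, 3, 5, 6, 5, 4, 3, 2, 5, 4, 5, 6, 7, 0, 3, 2, 4, 3, 6, 5, 4, 3, 0, 6, 0, 5, 6, 1, 4])))),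
  (315, Cert.fail),
  (1, Cert.step [3, 4, 5, 6, 5, 4, 5, 4, 3, 2, 6, 5, 4, 5, 4] (Cert.step [2, 3, 7, 6, 4, 5, 4, 5, 6, 7, 5, 4, 3, 2] (Cert.step [5, 4, 3, 6, 5, 4, 3, 5, 4, 3, 2, 6, 5, 4, 3, 6, 5, 4, 5, 6, 3, 4, 5, 4, 5, 3, 4, 5, 6, 5, 2] (Cert.done [4, 3, 5, 4, 5, 6, 5, 4, 5, 6, 7, 6, 5, 4, 5, 6, 4, 5, 3, 4, 5, 2, 4, 3, 5, 4, 3, 6, 5, 4, 3, 5, 4, 6, 5, 4, 7, 6, 5, 4, 3, 2, 5, 4, 3, 5, 4, 5, 6, 5, 4, 5, 0, 3, 2, 4, 3, 6, 5, 4, 3, 0, 6, 0, 5, 6, 1, 4])))),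
  (145, Cert.fail),
  (1, Cert.step [2, 3, 2, 4, 3, 2, 5, 4, 6, 5, 6, 7, 4, 5, 3, 4, 2, 3] (Cert.step [] (Cert.step [3, 5, 7, 6, 5, 4, 3, 5, 4, 6, 5, 7, 6, 5, 4, 5, 3, 4, 5, 6, 7, 6] (Cert.done [3, 7, 6, 5, 4, 5, 4, 3, 6, 5, 2, 4, 3, 5, 4, 3, 6, 5, 4, 3, 5, 4, 3, 6, 5, 4, 3, 2, 5, 6, 7, 0, 3, 2, 4, 3, 6, 5, 4, 3, 0, 6, 0, 5, 6, 1, 4])))),
  (1146, Cert.fail),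
  (1, Cert.step [2, 3, 2, 4, 3, 2, 5, 4, 6, 5, 6, 7, 4, 5, 3, 4, 2, 3] (Cert.step [2, 3, 7, 6, 4, 5, 4, 5, 6, 7, 5, 4, 3, 2] (Cert.step [3, 4, 3, 2, 5, 7, 6, 5, 4, 3, 5, 4, 5, 6, 7, 5, 4, 5, 6, 3, 4, 5, 2, 3, 4, 5, 6, 5, 4, 5, 2] (Cert.done [3, 2, 4, 5, 4, 5, 3, 4, 5, 4, 3, 6, 5, 4, 3, 5, 4, 3, 5, 6, 5, 4, 3, 5, 4, 6, 5, 4, 0, 3, 2, 4, 3, 6, 5, 4, 3, 0, 6, 0, 5, 6, 1, 4])))),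
  (19, Cert.fail),
  (1, Cert.step [3, 5, 4, 5, 4, 3, 6, 5, 4, 7, 6, 7, 5, 4, 5, 6, 3, 4, 5, 4, 5, 6, 5, 4] (Cert.step [] (Cert.step [3, 4, 3, 2, 5, 7, 6, 5, 4, 3, 5, 4, 5, 6, 7, 5, 4, 5, 6, 3, 4, 5, 2, 3, 4, 5, 6, 5, 4, 5, 2] (Cert.done [3, 4, 5, 6, 5, 4, 5, 4, 6, 5, 4, 3, 2, 4, 3, 5, 4, 3, 2, 5, 6, 5, 4, 3, 5, 4, 3, 6, 5, 4, 7, 6, 5, 0, 3, 2, 4, 3, 6, 5, 4, 3, 0, 6, 0, 5, 6, 1, 4])))),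
  (528, Cert.fail),
  (1, Cert.step [3, 2, 4, 3, 5, 4, 7, 6, 5, 6, 4, 5, 3, 4, 5, 2, 3, 4, 5] (Cert.step [4, 6, 5, 4, 7, 6, 5, 3, 4, 5, 6, 7, 3, 4, 5, 6, 4, 5, 2] (Cert.step [] (Cert.done [3, 6, 5, 4, 7, 6, 5, 4, 3, 5, 6, 2, 4, 5, 4, 3, 6, 5, 4, 5, 4, 3, 6, 5, 4, 5, 4, 6, 5, 4, 5, 0, 3, 2, 4, 3, 6, 5, 4, 3, 0, 6, 0, 5, 6, 1, 4])))),
  (208, Cert.fail),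
  (1, Cert.step [2, 3, 2, 4, 3, 2, 5, 4, 6, 5, 6, 4, 5, 3, 4, 2, 3, 2] (Cert.step [2, 5, 4, 3, 2, 6, 5, 4, 3, 5, 4, 5, 6, 5, 4, 5, 2, 3, 4, 5, 6, 4, 5, 3, 4, 5, 6, 3] (Cert.step [] (Cert.done [3, 2, 6, 7, 5, 4, 3, 4, 5, 4, 3, 6, 5, 4, 3, 2, 5, 6, 7, 6, 5, 4, 3, 2, 5, 4, 3, 6, 5, 0, 3, 2, 4, 3, 6, 5, 4, 3, 0, 6, 0, 5, 6, 1, 4])))),
  (208, Cert.fail),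
  (1, Cert.step [2, 3, 2, 4, 3, 2, 5, 4, 6, 5, 6, 7, 4, 5, 3, 4, 2, 3] (Cert.step [3, 4, 3, 5, 6, 5, 4, 5, 6, 7, 4, 5, 6, 3, 4, 5, 4, 5, 6, 5, 3, 4, 3] (Cert.step [] (Cert.done [2, 5, 6, 5, 4, 3, 5, 4, 5, 4, 5, 4, 5, 3, 4, 5, 6, 4, 3, 5, 4, 3, 2, 5, 6, 5, 4, 3, 5, 4, 5, 6, 5, 0, 3, 2, 4, 3, 6, 5, 4, 3, 0, 6, 0, 5, 6, 1, 4])))),
  (518, Cert.fail),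
  (1, Cert.step [2, 4, 5, 4, 5] (Cert.step [2, 5, 7, 6, 5, 4, 3, 5, 4, 3, 5, 6, 4, 5, 3, 4, 5, 6, 7, 6, 3, 4, 5, 2, 3] (Cert.step [3, 5, 7, 6, 5, 4, 3, 5, 4, 6, 5, 7, 6, 5, 4, 5, 3, 4, 5, 6, 7, 6] (Cert.done [1, 3, 4, 5, 0, 4, 3, 6, 0, 4, 3, 5, 4, 5, 6, 5, 0, 6, 3, 4, 5, 3])))),
  (175, Cert.fail),
  (1, Cert.step [2, 4, 5, 4, 5] (Cert.step [4, 6, 5, 4, 7, 6, 5, 3, 4, 5, 6, 7, 3, 4, 5, 6, 4, 5, 2] (Cert.step [5, 4, 3, 6, 5, 4, 3, 5, 4, 3, 2, 6, 5, 4, 3, 6, 5, 4, 5, 6, 3, 4, 5, 4, 5, 3, 4, 5, 6, 5, 2] (Cert.done [3, 2, 5, 4, 5, 6, 5, 4, 3, 5, 7, 6, 5, 4, 5, 4, 3, 2, 6, 5, 4, 3, 5, 4, 5, 4, 6, 5, 4, 3, 5, 4, 6, 5, 4, 7, 0, 3, 2, 4, 3, 6, 5, 4, 3, 0, 6, 0, 5, 6, 1, 4])))),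
  (279, Cert.fail),
  (1, Cert.step [4, 3, 5, 4, 3, 5, 4, 6, 5, 4, 5, 6, 7, 5, 6, 3, 2] (Cert.step [] (Cert.step [3, 5, 7, 6, 5, 4, 3, 5, 4, 6, 5, 7, 6, 5, 4, 5, 3, 4, 5, 6, 7, 6] (Cert.done [5, 4, 3, 5, 4, 3, 5, 4, 6, 5, 4, 3, 2, 5, 4, 5, 4, 5, 3, 4, 5, 6, 4, 5, 3, 4, 5, 3, 4, 5, 2, 4, 3, 5, 4, 3, 5, 6, 5, 4, 3, 5, 4, 5, 6, 5, 4, 3, 0, 3, 2, 4, 3, 6, 5, 4, 3, 0, 6, 0, 5, 6, 1, 4])))),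
  (325, Cert.fail)]

end Cfsg.Agent.Lib.Helper2.ONOutD
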