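import Cfsg.Agent.Lib.Helper2.ONOut2
import Cfsg.Agent.Lib.Helper2.ONOutC1
import Cfsg.Agent.Lib.Helper2.ONOut3Fa
import Cfsg.Agent.Lib.Helper2.ONOut3Fb
import Cfsg.Agent.Lib.Helper2.ONOut3Fc
import Cfsg.Agent.Lib.Helper2.ONOut3Fd
import Cfsg.Agent.Lib.Helper2.ONOut3Fe
import Cfsg.Agent.Lib.Helper2.ONOut3a
import Cfsg.Agent.Lib.Helper2.ONOut3b
import Cfsg.Agent.Lib.Helper2.ONOut3c
import Cfsg.Agent.Lib.Helper2.ONOut3d
import Cfsg.Agent.Lib.Helper2.ONOut3e
import Cfsg.Agent.Lib.Helper2.ONOut3f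
import Cfsg.Agent.Lib.Helper2.ONOut3g
import Cfsg.Agent.Lib.Helper2.ONOut3h
import Cfsg.Agent.Lib.Helper2.ONOut3i

set_option autoImplicit false
set_option maxRecDepth 100000

/-! # The presented group `O'N`: the centralizer of the element of order 6 -/

namespace Cfsg.Agent.Lib.Helper2.ONOut

open Cfsg.Agent.Lib.Helper6 Cfsg.Agent.Lib.Helper6.TC Cfsg.Agent.Lib.Helper6.TCD
open Cfsg.Agent.Lib.Helper6.PM Cfsg.Agent.Lib.Helper2.PMS Cfsg.Agent.Lib.Helper2.PMC
open Cfsg.Agent.Lib.Helper2.ONOutD Cfsg.Agent.Lib.Helper2.RigidOut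

theorem fix_wh : ∀ y < M.n, wapp M.px wh y = y → y ∈ fixH := by
  intro y hy hfix
  have hy' : y < 122760 := hy
  by_cases h1 : y < 24552
  · exact fixPts_of_range wh fixH 0 24552 chk_fix_wh_a y (Nat.zero_le _) (by omega) hfix
  by_cases h2 : y < 49104
  · exact fixPts_of_range wh fixH 24552 24552 chk_fix_wh_b y (by omega) (by omega) hfix
  by_cases h3 : y < 73656
  · exact fixPts_of_range wh fixH 49104 24552 chk_fix_wh_c y (by omega) (by omega) hfix
  by_cases h4 : y < 98208
  · exact fixPts_of_range wh fixH 73656 24552 chk_fix_wh_d y (by omega) (by omega) hfix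
  · exact fixPts_of_range wh fixH 98208 24552 chk_fix_wh_e y (by omega) (by omega) hfix

/-- the searches from the fixed points of the element of order 6 -/
def FlH : List (ℕ × List ℕ × Cert) := [
  (0, ufs.getD 0 [], certH0),
  (4632, ufs.getD 1 [], certH1),
  (16145, ufs.getD 2 [], certH2),
  (39974, ufs.getD 3 [], certH3),
  (72328, ufs.getD 4 [], certH4),
  (94285, ufs.getD 5 [], certH5),
  (113756, ufs.getD 6 [], certH6),
  (115346, ufs.getD 7 [], certH7),
  (119594, ufs.getD 8 [], certH8)]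

theorem chk_FlH : FlH.all (fun e => chkW M e.2.1 && Nat.beq (wappS M.px e.2.1 0) e.1 &&
    chk M iv wh wh e.2.2 lvB (pendOf lvB) [0] e.2.1) = true := by
  rw [List.all_eq_true]
  intro e he
  simp only [FlH, List.mem_cons, List.not_mem_nil, or_false] at he
  rcases he with rfl | rfl | rfl | rfl | rfl | rfl | rfl | rfl | rfl
  · exact chk_H0
  · exact chk_H1
  · exact chk_H2
  · exact chk_H3
  · exact chk_H4
  · exact chk_H5
  · exact chk_H6
  · exact chk_H7
  · exact chk_H8

/-- the candidates for the image of the third generator -/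
def candsL : List (List ℕ) := tab1a.map (·.1) ++ tab1b.map (·.1)

theorem leaves_FlH : FlH.all (fun e => leavesIn e.2.2 candsL) = true := by decide +kernel

theorem chk_srcB : chkSrc M wh [0] lvB = true := by decide +kernel

/-- the elements commuting with the element of order 6 -/
theorem centralizer_gh (c : M.G) (hc : c⁻¹ * gh * c = gh) : ∃ z ∈ candsL, c = M.elt z := by
  have hF : ∀ y < M.n, wapp M.px wh y = y → y ∈ FlH.map (·.1) := fix_wh
  obtain ⟨e, he, z, hz, hcz⟩ := factsB.search_fix iv invMap wh wh (by decide) (by decide) chk_srcB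
    fix0_wh FlH hF chk_FlH c hc
  have h1 := leaves_FlH
  rw [List.all_eq_true] at h1
  exact ⟨z, mem_of_leavesIn (h1 e he) z hz, hcz⟩

end Cfsg.Agent.Lib.Helper2.ONOut
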