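import Cfsg.Agent.Lib.Helper6.TCP.ON

set_option autoImplicit false
set_option maxRecDepth 100000

/-! # Homomorphisms from the free group killing the base words of `O'N` kill its relators -/

namespace Cfsg.Agent.Lib.Helper2.ONRel

open Cfsg.Spor Cfsg.Agent.Lib.Helper6.TC Cfsg.Agent.Lib.Helper6.TCP.ON

theorem wordElt_rotate_one {Γ : Type*} [Group Γ] (ψ : FreeGroup ON.Gen →* Γ) (b : List ℕ)
    (h : ψ (wordElt gc b) = 1) : ψ (wordElt gc (b.rotate 1)) = 1 := by
  cases b with
  | nil => exact h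
  | cons c t =>
    have e : (c :: t).rotate 1 = t ++ [c] := by
      rw [List.rotate_cons_succ, List.rotate_zero]
    rw [e, wordElt_append, wordElt_cons, wordElt_nil, mul_one, map_mul]
    rw [wordElt_cons, map_mul] at h
    have h1 : ψ (wordElt gc t) = (ψ (ceOf gc c))⁻¹ := eq_inv_of_mul_eq_one_right h
    rw [h1, inv_mul_cancel]

/-- a homomorphism killing the base words kills the relators -/
theorem rels_killed {Γ : Type*} [Group Γ] (ψ : FreeGroup ON.Gen →* Γ)
    (hb : ∀ b ∈ base, ψ (wordElt gc b) = 1) : ∀ r ∈ Rels, ψ r = 1 := by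
  have hcox : ∀ x y : ON.Gen, x ∈ coxNodes ON.edges → y ∈ coxNodes ON.edges →
      ψ ((FreeGroup.of x * FreeGroup.of y) ^ coxLabel ON.edges x y) = 1 := by
    intro x y hx hy
    rw [← wordElt_pairw (gc_col x) (gc_col y)]
    rcases pair_cover x y hx hy with h | ⟨b, hb', h⟩
    · exact hb _ h
    · rw [h]
      exact wordElt_rotate_one ψ b (hb b hb')
  have hx : ∀ x ∈ coxNodes ON.edges, (ψ (FreeGroup.of x))⁻¹ = ψ (FreeGroup.of x) := by
    intro x hx
    have h1 := hcox x x hx hx
    rw [coxLabel_self, pow_one, map_mul] at h1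
    exact inv_eq_of_mul_eq_one_left h1
  intro r hr
  rcases hr with hr | hr
  · obtain ⟨x, hxn, y, hyn, rfl⟩ := hr
    exact hcox x y hxn hyn
  · have hr' : r ∈ ON.extra := hr
    simp only [ON.extra, List.mem_cons, List.mem_nil_iff, or_false] at hr'
    rcases hr' with rfl | rfl | rfl | rfl | rfl | rfl | rfl
    · rw [extra0 ψ hx]; exact hb _ extra_mem.1
    · rw [extra1 ψ hx]; exact hb _ extra_mem.2.1
    · rw [extra2 ψ hx]; exact hb _ extra_mem.2.2.1
    · rw [extra3 ψ hx]; exact hb _ extra_mem.2.2.2.1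
    · rw [extra4 ψ hx]; exact hb _ extra_mem.2.2.2.2.1
    · rw [extra5 ψ hx]; exact hb _ extra_mem.2.2.2.2.2.1
    · rw [extra6 ψ hx]; exact hb _ extra_mem.2.2.2.2.2.2

end Cfsg.Agent.Lib.Helper2.ONRel
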