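import Cfsg.Agent.Lib.Helper2.ONOut4G
import Cfsg.Agent.Lib.Helper2.ONRel

set_option autoImplicit false
set_option maxRecDepth 100000

/-! # The presented group `O'N`: the outer automorphism -/

namespace Cfsg.Agent.Lib.Helper2.ONOut

open Cfsg.Spor
open Cfsg.Agent.Lib.Helper6 Cfsg.Agent.Lib.Helper6.TC Cfsg.Agent.Lib.Helper6.TCD
open Cfsg.Agent.Lib.Helper6.PM Cfsg.Agent.Lib.Helper2.PMS Cfsg.Agent.Lib.Helper2.PMC
open Cfsg.Agent.Lib.Helper2.ONOutD Cfsg.Agent.Lib.Helper2.RigidOut
open Cfsg.Agent.Lib.Helper6.TCP.ON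

/-- the images of the three generators and their inverses -/
noncomputable def ws6b : List (List ℕ) := [wp, wh, wc, invw iv wp, invw iv wh, invw iv wc]

/-- the images of the letters -/
noncomputable def Bw : List (List ℕ) := Wl.map (expand ws6b)

/-- the images of the generators -/
noncomputable def bimg (x : ON.Gen) : M.G := M.elt (Bw.getD (col x) [])

theorem chk_B01 : chkBaseR M [0] lvA (Bw.getD 0 [] ++ Bw.getD 1 []) [] = true := by decide +kernel

theorem lift_col1 : (M.elt (Bw.getD 0 []))⁻¹ = M.elt (Bw.getD 1 []) := by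
  have h := factsA.elt_eq_of_chk _ _ chk_B01
  rw [M.elt_append, M.elt_nil] at h
  exact inv_eq_of_mul_eq_one_right h

theorem lift_wordElt (b : List ℕ) (hb : ∀ c ∈ b, c < 8) :
    FreeGroup.lift bimg (wordElt gc b) = M.elt (expand Bw b) := by
  induction b with
  | nil =>
    rw [wordElt_nil, map_one, expand_nil, M.elt_nil]
  | cons c b ih =>
    have hc : c < 8 := hb c List.mem_cons_self
    rw [wordElt_cons, map_mul, ih (fun c' hc' => hb c' (List.mem_cons_of_mem _ hc')), expand_cons,
      M.elt_append]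
    congr 1
    interval_cases c
    · rw [ceOf_c0, FreeGroup.lift_apply_of]; rfl
    · rw [ceOf_c1, map_inv, FreeGroup.lift_apply_of]; exact lift_col1
    · rw [ceOf_c2, FreeGroup.lift_apply_of]; rfl
    · rw [ceOf_c3, FreeGroup.lift_apply_of]; rfl
    · rw [ceOf_c4, FreeGroup.lift_apply_of]; rfl
    · rw [ceOf_c5, FreeGroup.lift_apply_of]; rfl
    · rw [ceOf_c6, FreeGroup.lift_apply_of]; rfl
    · rw [ceOf_c7, FreeGroup.lift_apply_of]; rfl

theorem chk_rels : base.all (fun b => chkBaseR M [0] lvA (expand Bw b) []) = true := by decide +kernel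

theorem lift_rels : ∀ r ∈ Rels, FreeGroup.lift bimg r = (1 : M.G) := by
  apply Cfsg.Agent.Lib.Helper2.ONRel.rels_killed
  intro b hb
  rw [lift_wordElt b (hbl b hb)]
  have h1 := chk_rels
  rw [List.all_eq_true] at h1
  rw [factsA.elt_eq_of_chk _ _ (h1 b hb), M.elt_nil]

/-- the endomorphism -/
noncomputable def beta0 : M.G →* M.G := PresentedGroup.toGroup (G := M.G) lift_rels

theorem beta0_elt (w : List ℕ) (hw : ∀ c ∈ w, c < 8) : beta0 (M.elt w) = M.elt (expand Bw w) := by
  rw [← lift_wordElt w hw]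
  rfl

theorem chk_bp : chkBaseR M [0] lvA (expand Bw wp) wp = true := by decide +kernel
theorem chk_bh : chkBaseR M [0] lvA (expand Bw wh) wh = true := by decide +kernel
theorem chk_bv : chkBaseR M [0] lvA (expand Bw wv) wc = true := by decide +kernel
theorem chk_bc : chkBaseR M [0] lvA (expand Bw wc) wv = true := by decide +kernel

theorem beta0_gp : beta0 gp = gp := by
  unfold gp
  rw [beta0_elt wp lt_wp]
  exact factsA.elt_eq_of_chk _ _ chk_bp

theorem beta0_gh : beta0 gh = gh := by
  unfold gh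
  rw [beta0_elt wh lt_wh]
  exact factsA.elt_eq_of_chk _ _ chk_bh

theorem beta0_gv : beta0 gv = M.elt wc := by
  unfold gv
  rw [beta0_elt wv lt_wv]
  exact factsA.elt_eq_of_chk _ _ chk_bv

theorem beta0_gc : beta0 (M.elt wc) = gv := by
  rw [beta0_elt wc lt_wc]
  exact factsA.elt_eq_of_chk _ _ chk_bc

theorem beta0_beta0 (x : M.G) : beta0 (beta0 x) = x := by
  have h : beta0.comp beta0 = MonoidHom.id M.G := by
    apply hom_det
    · show beta0 (beta0 gp) = gp
      rw [beta0_gp, beta0_gp]
    · show beta0 (beta0 gh) = gh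
      rw [beta0_gh, beta0_gh]
    · show beta0 (beta0 gv) = gv
      rw [beta0_gv, beta0_gc]
  exact DFunLike.congr_fun h x

/-- the outer automorphism -/
noncomputable def beta : MulAut M.G where
  toFun := beta0
  invFun := beta0
  left_inv := beta0_beta0
  right_inv := beta0_beta0
  map_mul' := beta0.map_mul

theorem beta_gp : beta gp = gp := beta0_gp
theorem beta_gh : beta gh = gh := beta0_gh
theorem beta_gv : beta gv = M.elt wc := beta0_gv

theorem chk_vc : chkNeAt M wv wc 0 = true := by decide +kernel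

theorem beta_ne_one : beta ≠ 1 := by
  intro h
  have h1 := beta_gv
  rw [h] at h1
  exact elt_ne_of_chkNeAt (M := M) _ _ _ chk_vc h1

end Cfsg.Agent.Lib.Helper2.ONOut
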