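import Cfsg.Agent.Lib.Helper2.ONOut2C
import Cfsg.Agent.Lib.Helper2.ONOut3
import Cfsg.Agent.Lib.Helper2.ONOut4
import Cfsg.Agent.Lib.Helper2.RigidOut3

set_option autoImplicit false
set_option maxRecDepth 100000

/-! # The outer automorphism group of the presented group `O'N` has order two -/

namespace Cfsg.Agent.Lib.Helper2.ONOut

open Cfsg.Agent.Lib.Helper6 Cfsg.Agent.Lib.Helper6.TC Cfsg.Agent.Lib.Helper6.TCD
open Cfsg.Agent.Lib.Helper6.PM Cfsg.Agent.Lib.Helper2.PMS Cfsg.Agent.Lib.Helper2.PMC
open Cfsg.Agent.Lib.Helper2.ONOutD Cfsg.Agent.Lib.Helper2.RigidOut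

/-! ## The elimination of the other candidates -/

/-- the three generators -/
def ws3 : List (List ℕ) := [wp, wh, wv]

/-- the images of the three generators under a hypothetical automorphism -/
def ws3' (ε : ℕ) (z : List ℕ) : List (List ℕ) := [rep ε wp, wh, z]

theorem chk_Rs : chkRelsR M [0] lvA ws3 Rs = true := by decide +kernel

theorem chk_tab1a : chkElimTab M (ws3' 1) Rs wv tab1a = true := by decide +kernel
theorem chk_tab1b : chkElimTab M (ws3' 1) Rs wc tab1b = true := by decide +kernel
theorem chk_tab2 : chkElimTab M (ws3' 2) Rs [] tab2 = true := by decide +kernel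
theorem chk_tab2' : chkElimTab M (ws3' 2) Rs [0] tab2 = true := by decide +kernel
theorem chk_tab4 : chkElimTab M (ws3' 4) Rs [] tab4 = true := by decide +kernel
theorem chk_tab4' : chkElimTab M (ws3' 4) Rs [0] tab4 = true := by decide +kernel

theorem cands_tab2 : candsL = tab2.map (·.1) := by decide +kernel
theorem cands_tab4 : candsL = tab4.map (·.1) := by decide +kernel

theorem hf_of (α : MulAut M.G) (ε : ℕ) (z : List ℕ) (hp : α gp = gp ^ ε) (hh : α gh = gh)
    (hv : α gv = M.elt z) :
    ∀ k < ws3.length, α.toMonoidHom (M.elt (ws3.getD k [])) = M.elt ((ws3' ε z).getD k []) := by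
  intro k hk
  have hk' : k < 3 := hk
  interval_cases k
  · show α gp = M.elt (rep ε wp)
    rw [hp, gp_pow]
  · exact hh
  · exact hv

/-! ## The classification of the normalized automorphisms -/

theorem hclass (α : MulAut M.G) (ε : ℕ) (hε : ε ∈ [1, 2, 4]) (hp : α gp = gp ^ ε) (hh : α gh = gh) :
    α = 1 ∨ α = beta := by
  have hc : (α gv)⁻¹ * gh * α gv = gh := by
    have := congrArg α rel_vh
    rw [map_mul, map_mul, map_inv, hh] at this
    exact this
  obtain ⟨z, hz, hv⟩ := centralizer_gh (α gv) hc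
  simp only [List.mem_cons, List.not_mem_nil, or_false] at hε
  rcases hε with rfl | rfl | rfl
  · unfold candsL at hz
    rw [List.mem_append] at hz
    rcases hz with hz | hz
    · left
      have := factsA.good_of_elimTab α.toMonoidHom ws3 (ws3' 1) Rs chk_Rs wv tab1a chk_tab1a z hz
        (hf_of α 1 z hp hh hv)
      rw [this] at hv
      rw [pow_one] at hp
      exact det α 1 hp hh hv
    · right
      have := factsA.good_of_elimTab α.toMonoidHom ws3 (ws3' 1) Rs chk_Rs wc tab1b chk_tab1b z hz
        (hf_of α 1 z hp hh hv)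
      rw [this] at hv
      rw [pow_one] at hp
      exact det α beta (by rw [hp, beta_gp]) (by rw [hh, beta_gh]) (by rw [hv, beta_gv])
  · exfalso
    rw [cands_tab2] at hz
    have h1 := factsA.good_of_elimTab α.toMonoidHom ws3 (ws3' 2) Rs chk_Rs [] tab2 chk_tab2 z hz
      (hf_of α 2 z hp hh hv)
    have h2 := factsA.good_of_elimTab α.toMonoidHom ws3 (ws3' 2) Rs chk_Rs [0] tab2 chk_tab2' z hz
      (hf_of α 2 z hp hh hv)
    rw [h1] at h2
    exact List.cons_ne_nil 0 [] h2.symm
  · exfalso
    rw [cands_tab4] at hz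
    have h1 := factsA.good_of_elimTab α.toMonoidHom ws3 (ws3' 4) Rs chk_Rs [] tab4 chk_tab4 z hz
      (hf_of α 4 z hp hh hv)
    have h2 := factsA.good_of_elimTab α.toMonoidHom ws3 (ws3' 4) Rs chk_Rs [0] tab4 chk_tab4' z hz
      (hf_of α 4 z hp hh hv)
    rw [h1] at h2
    exact List.cons_ne_nil 0 [] h2.symm

theorem card_out_G : Nat.card (Cfsg.Out M.G) = 2 := by
  have : Fact (Nat.Prime 19) := ⟨by norm_num⟩
  have hN := normalizer_gp
  have hβ : beta ∉ (MulAut.conj : M.G →* MulAut M.G).range :=
    not_inner_of_fix 19 8 6 gp gh (by norm_num) orderOf_gp orderOf_gh (by norm_num) rel_ph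
      (by norm_num) (by decide) (by decide) hN beta beta_gp beta_gh beta_ne_one
  have hnorm := rigid_normalize_two (G := M.G) 19 8 6 24253447680 7 [1, 2, 4] gp gh
    (by rw [card_G]) (by norm_num) orderOf_gp orderOf_gh
    (by norm_num) rel_ph (by norm_num) (by decide) hE (by decide) (by norm_num) hN
  exact card_out_two_of_normalized_two (G := M.G) [1, 2, 4] gp gh beta hβ hnorm hclass

end Cfsg.Agent.Lib.Helper2.ONOut
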