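import Mathlib
import Cfsg.Prelude.Def_Classical
import Cfsg.Prelude.Def_GeometricClasses
import Cfsg.Agent.Lib.Helper2.OrthNdW
import Cfsg.Agent.Lib.Helper2.OrthNdT
import Cfsg.Agent.Lib.Helper2.QuadStd
import Cfsg.Agent.Lib.Helper5.OPar0

set_option autoImplicit false

/-!
PK-IDX of the S5988 board: if `r` divides the number of nondegenerate `m`-subspaces in the isometry
class of `W₀` (`m` odd) then some multiple `2t` of the order of `q` modulo `r` lies in the interval
`(2d - m, 2d]`.  No order formulas: fixed points of a model element, Witt transitivity, Cauchy.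
-/

namespace Cfsg.Agent.Lib.Helper5.OPar

open Module QuadraticMap Polynomial
open Cfsg.Agent.Lib.Helper2.MaxTS2
open Cfsg.Agent.Lib.Helper2.OrthEl
open Cfsg.Agent.H9SemiInv
open Cfsg.Agent.Lib.Helper2
open Cfsg.Agent.Lib.Helper2.OrthNd
open Cfsg.Agent.Lib.Helper5.QuadGlue
open Cfsg.Agent.Lib.Helper9.H9Elus

universe u

section idxgen

variable {F : Type u} [Field F] [Fintype F] [DecidableEq F]
variable {V : Type u} [AddCommGroup V] [Module F V] [FiniteDimensional F V]
variable {Q : QuadraticForm F V}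

/-- the isometry class in terms of the discriminant character -/
theorem idx_isom_iff (h2 : (2 : F) ≠ 0) {W W₀ : Submodule F V} (hW : NDeg Q W) (hW₀ : NDeg Q W₀)
    (hdim : finrank F W = finrank F W₀) : Isom Q W W₀ ↔ dchS Q W = dchS Q W₀ := by
  constructor
  · rintro ⟨e, he⟩
    unfold dchS
    exact (dch_equiv e (fun v => by
      rw [QuadraticMap.comp_apply, QuadraticMap.comp_apply, Submodule.subtype_apply,
        Submodule.subtype_apply]
      exact he v)).symm
  · intro hd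
    obtain ⟨e, he⟩ := exists_isometry h2 hW.restrict hW₀.restrict hdim hd
    refine ⟨e, fun w => ?_⟩
    have := he w
    rwa [QuadraticMap.comp_apply, QuadraticMap.comp_apply, Submodule.subtype_apply,
      Submodule.subtype_apply] at this

theorem idx_generic (hodd : Odd (Fintype.card F)) (hQ : (polarBilin Q).Nondegenerate) (d m : ℕ)
    (hV : finrank F V = 2 * d) (hm : Odd m) (hmd : m < 2 * d) (W₀ : Submodule F V)
    (hW₀dim : finrank F W₀ = m) (hW₀ : NDeg Q W₀) {r : ℕ} (hr : r.Prime)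
    (hrq : ¬ r ∣ Fintype.card F)
    (h : r ∣ Nat.card {W : Submodule F V // finrank F W = m ∧ NDeg Q W ∧ Isom Q W W₀}) :
    ∃ t, 2 * d < 2 * t + m ∧ t ≤ d ∧ r ∣ Fintype.card F ^ (2 * t) - 1 := by
  have h2 : (2 : F) ≠ 0 := two_ne_zero_of_odd_card hodd
  have hm0 : 0 < m := hm.pos
  by_cases hr2 : r = 2
  · refine ⟨d, by omega, le_rfl, ?_⟩
    rw [hr2]
    have hpow : Odd (Fintype.card F ^ (2 * d)) := hodd.pow
    obtain ⟨t, ht⟩ := hpow
    exact ⟨t, by omega⟩
  haveI : Fact r.Prime := ⟨hr⟩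
  obtain ⟨p, hp⟩ := CharP.exists F
  haveI : CharP F p := hp
  haveI : Fact p.Prime := ⟨CharP.char_is_prime F p⟩
  have hrp : r ≠ p := by
    rintro rfl
    apply hrq
    obtain ⟨f, -, hf⟩ := FiniteField.card F r
    rw [hf]
    exact dvd_pow_self r f.ne_zero
  set i := orderOf ((Fintype.card F : ℕ) : ZMod r) with hi
  set c := if Even i then i else 2 * i with hc
  have hi1 : 1 ≤ i := order_pos (F := F) r hrp
  have hceven : Even c := by
    rw [hc]
    split_ifs with h
    · exact h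
    · exact even_two_mul i
  have hic : i ∣ c := by
    rw [hc]
    split_ifs
    · exact dvd_rfl
    · exact Dvd.intro_left 2 rfl
  obtain ⟨c', hc'⟩ := hceven
  have hc2 : 2 ≤ c := by
    have : 1 ≤ c := by
      rw [hc]
      split_ifs <;> omega
    omega
  have hdm := Nat.div_add_mod (2 * d) c
  have hkc : (2 * d) % c < c := Nat.mod_lt _ (by omega)
  -- the key claim
  have hclaim : (2 * d) % c < m := by
    by_contra hlt
    have he₀even : Even ((2 * d) % c) := by
      have h1 : Even (c * ((2 * d) / c)) := ⟨c' * ((2 * d) / c), by rw [hc']; ring⟩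
      have h3 : Even (2 * d) := even_two_mul d
      rw [← hdm] at h3
      exact (Nat.even_add.1 h3).1 h1
    have hme₀ : m < (2 * d) % c := by
      obtain ⟨a, ha⟩ := he₀even
      obtain ⟨b, hb⟩ := hm
      omega
    -- the set as `NdSub`
    have hs : dchS Q W₀ = 1 ∨ dchS Q W₀ = -1 := dchS_dichotomy hW₀
    have hcard : Nat.card {W : Submodule F V // finrank F W = m ∧ NDeg Q W ∧ Isom Q W W₀} =
        Nat.card (NdSub Q m (dchS Q W₀)) := by
      apply Nat.card_congr
      apply Equiv.subtypeEquivRight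
      intro W
      constructor
      · rintro ⟨h1, h3, h4⟩
        exact ⟨h3, h1, (idx_isom_iff h2 h3 hW₀ (h1.trans hW₀dim.symm)).1 h4⟩
      · rintro ⟨h1, h3, h4⟩
        exact ⟨h3, h1, (idx_isom_iff h2 h1 hW₀ (h3.trans hW₀dim.symm)).2 h4⟩
    rw [hcard] at h
    -- the isometry
    obtain ⟨y, hiso, hy, hfix⟩ : ∃ y : V →ₗ[F] V, (∀ v, Q (y v) = Q v) ∧ y ^ r = 1 ∧
        finrank F (fixS y) = (2 * d) % c := by
      rcases Nat.eq_zero_or_pos ((2 * d) / c) with hJ | hJ
      · refine ⟨1, fun v => rfl, one_pow r, ?_⟩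
        have hfix1 : fixS (1 : Module.End F V) = ⊤ := by
          ext v
          rw [mem_fixS, Module.End.one_apply]
          exact ⟨fun _ => Submodule.mem_top, fun _ => rfl⟩
        rw [hfix1, finrank_top, hV]
        rw [hJ, mul_zero, zero_add] at hdm
        exact hdm.symm
      · obtain ⟨y, hiso, hy, -, hfix⟩ := exists_iso_fix hodd Q hQ d hV r hrp hr2 i c hi hc
          ((2 * d) / c) ((2 * d) % c) hJ hdm.symm (fun h0 => by omega)
        exact ⟨y, hiso, hy, hfix⟩
    exact not_dvd_card_ndSub hodd hQ hiso r hrp hr2 hy i c hi hc (by rw [hfix]; exact hkc) m hm0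
      (by rw [hfix]; exact hme₀) (dchS Q W₀) hs h
  refine ⟨c' * ((2 * d) / c), ?_, ?_, ?_⟩
  · have : 2 * (c' * ((2 * d) / c)) = c * ((2 * d) / c) := by rw [hc']; ring
    omega
  · have : 2 * (c' * ((2 * d) / c)) = c * ((2 * d) / c) := by rw [hc']; ring
    omega
  · have h1 : i ∣ 2 * (c' * ((2 * d) / c)) := by
      have : 2 * (c' * ((2 * d) / c)) = c * ((2 * d) / c) := by rw [hc']; ring
      rw [this]
      exact Dvd.dvd.mul_right hic _
    have h3 : ((Fintype.card F : ℕ) : ZMod r) ^ (2 * (c' * ((2 * d) / c))) = 1 :=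
      orderOf_dvd_iff_pow_eq_one.1 h1
    have hpos : 1 ≤ Fintype.card F ^ (2 * (c' * ((2 * d) / c))) :=
      Nat.one_le_pow _ _ Fintype.card_pos
    rw [← ZMod.natCast_eq_zero_iff, Nat.cast_sub hpos, Nat.cast_pow, h3, Nat.cast_one, sub_self]

end idxgen

section idx
variable {F : Type*} [Field F] [Fintype F]

theorem exists_dvd_of_dvd_card_parabolic_plus (hodd : Odd (Fintype.card F)) (d m : ℕ)
    (hm : Odd m) (hmd : m < 2 * d) (W₀ : Submodule F (Fin d ⊕ Fin d → F))
    (hW₀ : finrank F W₀ = m ∧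
      Cfsg.Geo.IsNondegenerateOn (QuadraticMap.polar (Cfsg.quadFormPlus d F)) W₀)
    {r : ℕ} (hr : r.Prime) (hrq : ¬ r ∣ Fintype.card F)
    (h : r ∣ Nat.card {W : Submodule F (Fin d ⊕ Fin d → F) // finrank F W = m ∧
      Cfsg.Geo.IsNondegenerateOn (QuadraticMap.polar (Cfsg.quadFormPlus d F)) W ∧
      Cfsg.Geo.AreIsometricFor (Cfsg.quadFormPlus d F) W W₀}) :
    ∃ t, 2 * d < 2 * t + m ∧ t ≤ d ∧ r ∣ Fintype.card F ^ (2 * t) - 1 := by
  classical
  rw [← QuadStd.QP_coe] at hW₀ h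
  apply idx_generic hodd (QuadStd.QP_nondeg d) d m (finrank_plus_space d) hm hmd W₀ hW₀.1
    ((ndegOn_iff _ _).1 hW₀.2) hr hrq
  have key : ∀ W : Submodule F (Fin d ⊕ Fin d → F),
      (finrank F W = m ∧ Cfsg.Geo.IsNondegenerateOn (QuadraticMap.polar ⇑(QP d F)) W ∧
        Cfsg.Geo.AreIsometricFor ⇑(QP d F) W W₀) ↔
      (finrank F W = m ∧ NDeg (QP d F) W ∧ Isom (QP d F) W W₀) := by
    intro W
    rw [ndegOn_iff]
    exact Iff.rfl
  rw [← Nat.card_congr (Equiv.subtypeEquivRight key)]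
  exact h

theorem exists_dvd_of_dvd_card_parabolic_minus (hodd : Odd (Fintype.card F)) (d m : ℕ)
    (hd : 1 ≤ d) (hm : Odd m) (hmd : m < 2 * d) (a b : F)
    (hab : ∀ x y : F, x ^ 2 + a * x * y + b * y ^ 2 = 0 → x = 0 ∧ y = 0)
    (W₀ : Submodule F ((Fin (d - 1) ⊕ Fin (d - 1)) ⊕ Fin 2 → F))
    (hW₀ : finrank F W₀ = m ∧
      Cfsg.Geo.IsNondegenerateOn (QuadraticMap.polar (Cfsg.quadFormMinus (d - 1) F a b)) W₀)
    {r : ℕ} (hr : r.Prime) (hrq : ¬ r ∣ Fintype.card F)
    (h : r ∣ Nat.card {W : Submodule F ((Fin (d - 1) ⊕ Fin (d - 1)) ⊕ Fin 2 → F) //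
      finrank F W = m ∧
      Cfsg.Geo.IsNondegenerateOn (QuadraticMap.polar (Cfsg.quadFormMinus (d - 1) F a b)) W ∧
      Cfsg.Geo.AreIsometricFor (Cfsg.quadFormMinus (d - 1) F a b) W W₀}) :
    ∃ t, 2 * d < 2 * t + m ∧ t ≤ d ∧ r ∣ Fintype.card F ^ (2 * t) - 1 := by
  classical
  have h2 : (2 : F) ≠ 0 := two_ne_zero_of_odd_card hodd
  have hd1 : d - 1 + 1 = d := Nat.sub_add_cancel hd
  rw [← QuadStd.QM_coe] at hW₀ h
  apply idx_generic hodd (QuadStd.QM_nondeg h2 (d - 1) a b hab) d m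
    (by rw [finrank_minus_space, hd1]) hm hmd W₀ hW₀.1 ((ndegOn_iff _ _).1 hW₀.2) hr hrq
  have key : ∀ W : Submodule F ((Fin (d - 1) ⊕ Fin (d - 1)) ⊕ Fin 2 → F),
      (finrank F W = m ∧
        Cfsg.Geo.IsNondegenerateOn (QuadraticMap.polar ⇑(QM (d - 1) F a b)) W ∧
        Cfsg.Geo.AreIsometricFor ⇑(QM (d - 1) F a b) W W₀) ↔
      (finrank F W = m ∧ NDeg (QM (d - 1) F a b) W ∧ Isom (QM (d - 1) F a b) W W₀) := by
    intro W
    rw [ndegOn_iff]
    exact Iff.rfl
  rw [← Nat.card_congr (Equiv.subtypeEquivRight key)]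
  exact h

end idx

end Cfsg.Agent.Lib.Helper5.OPar
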