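import Mathlib

set_option autoImplicit false

namespace Cfsg.Agent.Lib.Helper2.OS

open scoped commutatorElement

section Basic

variable {ι : Type*} [Fintype ι] [DecidableEq ι] {T : Type*} [Group T]

/-- projection -/
abbrev proj (i : ι) : (ι → T) →* T := Pi.evalMonoidHom (fun _ => T) i

/-- coordinate embedding -/
abbrev single (i : ι) : T →* (ι → T) := MonoidHom.mulSingle (fun _ => T) i

/-- the `i`-th kernel -/
def Ker (i : ι) : Subgroup (ι → T) := (proj (T := T) i).ker

omit [Fintype ι] [DecidableEq ι] in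
theorem mem_Ker {i : ι} {x : ι → T} : x ∈ Ker i ↔ x i = 1 := by
  unfold Ker
  rw [MonoidHom.mem_ker]
  rfl

instance Ker_normal (i : ι) : (Ker (T := T) i).Normal := by
  unfold Ker
  infer_instance

/-- nonabelian simple groups have trivial centre -/
theorem center_eq_bot [IsSimpleGroup T] (hT : ∃ a b : T, a * b ≠ b * a) :
    Subgroup.center T = ⊥ := by
  rcases IsSimpleGroup.eq_bot_or_eq_top_of_normal (Subgroup.center T) inferInstance with h | h
  · exact h
  · exfalso
    obtain ⟨a, b, hab⟩ := hT
    apply hab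
    have : a ∈ Subgroup.center T := h ▸ Subgroup.mem_top a
    exact ((Subgroup.mem_center_iff.mp this) b).symm

/-- nonabelian simple groups are perfect -/
theorem commutator_eq_top [IsSimpleGroup T] (hT : ∃ a b : T, a * b ≠ b * a) :
    ⁅(⊤ : Subgroup T), (⊤ : Subgroup T)⁆ = ⊤ := by
  rcases IsSimpleGroup.eq_bot_or_eq_top_of_normal (⁅(⊤ : Subgroup T), (⊤ : Subgroup T)⁆) inferInstance with h | h
  · exfalso
    obtain ⟨a, b, hab⟩ := hT
    apply hab
    have hm : ⁅a, b⁆ ∈ ⁅(⊤ : Subgroup T), (⊤ : Subgroup T)⁆ :=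
      Subgroup.commutator_mem_commutator (Subgroup.mem_top a) (Subgroup.mem_top b)
    rw [h, Subgroup.mem_bot, commutatorElement_eq_one_iff_mul_comm] at hm
    exact hm
  · exact h

theorem exists_not_commute [IsSimpleGroup T] (hT : ∃ a b : T, a * b ≠ b * a) {s : T}
    (hs : s ≠ 1) : ∃ t : T, s * t * s⁻¹ * t⁻¹ ≠ 1 := by
  by_contra hcon
  push Not at hcon
  apply hs
  have : s ∈ Subgroup.center T := by
    rw [Subgroup.mem_center_iff]
    intro t
    have := hcon t
    have e : s * t = t * s := by
      have h2 : s * t * s⁻¹ = t := by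
        rw [← mul_inv_eq_one]
        exact this
      calc s * t = s * t * s⁻¹ * s := by group
        _ = t * s := by rw [h2]
    exact e.symm
  rw [center_eq_bot hT, Subgroup.mem_bot] at this
  exact this

omit [Fintype ι] in
/-- a normal subgroup of the power with a nontrivial `i`-th coordinate contains the `i`-th
coordinate subgroup -/
theorem single_mem_of_normal [IsSimpleGroup T] (hT : ∃ a b : T, a * b ≠ b * a)
    (M : Subgroup (ι → T)) [hM : M.Normal] (i : ι) (x : ι → T) (hx : x ∈ M) (hxi : x i ≠ 1)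
    (t : T) : Pi.mulSingle i t ∈ M := by
  have hcn : (M.comap (single (T := T) i)).Normal := inferInstance
  obtain ⟨u, hu⟩ := exists_not_commute hT hxi
  have hmem : x * Pi.mulSingle i u * x⁻¹ * (Pi.mulSingle i u)⁻¹ ∈ M := by
    have h1 : Pi.mulSingle i u * x⁻¹ * (Pi.mulSingle i u)⁻¹ ∈ M :=
      hM.conj_mem _ (M.inv_mem hx) _
    have : x * Pi.mulSingle i u * x⁻¹ * (Pi.mulSingle i u)⁻¹ =
        x * (Pi.mulSingle i u * x⁻¹ * (Pi.mulSingle i u)⁻¹) := by group
    rw [this]
    exact M.mul_mem hx h1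
  have heq : x * Pi.mulSingle i u * x⁻¹ * (Pi.mulSingle i u)⁻¹ =
      Pi.mulSingle i (x i * u * (x i)⁻¹ * u⁻¹) := by
    funext j
    by_cases hj : j = i
    · subst hj
      simp
    · simp [Pi.mulSingle_eq_of_ne hj]
  rw [heq] at hmem
  have hne : M.comap (single (T := T) i) ≠ ⊥ := by
    intro hbot
    have : x i * u * (x i)⁻¹ * u⁻¹ ∈ M.comap (single (T := T) i) := hmem
    rw [hbot, Subgroup.mem_bot] at this
    exact hu this
  have htop : M.comap (single (T := T) i) = ⊤ := by
    rcases IsSimpleGroup.eq_bot_or_eq_top_of_normal (M.comap (single (T := T) i)) hcn with h | h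
    · exact absurd h hne
    · exact h
  have : t ∈ M.comap (single (T := T) i) := htop ▸ Subgroup.mem_top t
  exact this

end Basic

end Cfsg.Agent.Lib.Helper2.OS
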