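import Mathlib
import Cfsg.Agent.Lib.Helper2.OS1

set_option autoImplicit false

namespace Cfsg.Agent.Lib.Helper2.OS

section Aut

variable {ι : Type*} [Fintype ι] [DecidableEq ι] {T : Type*} [Group T] [Finite T]

omit [Fintype ι] [DecidableEq ι] [Finite T] in
theorem proj_surjective (i : ι) : Function.Surjective (proj (T := T) i) := by
  classical
  intro t
  exact ⟨Pi.mulSingle i t, by simp⟩

omit [Fintype ι] [DecidableEq ι] [Finite T] in
theorem card_Ker (i : ι) : Nat.card (Ker (T := T) i) * Nat.card T = Nat.card (ι → T) := by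
  have h := Subgroup.card_mul_index (Ker (T := T) i)
  unfold Ker at h ⊢
  rw [Subgroup.index_ker, MonoidHom.range_eq_top.mpr (proj_surjective i), Subgroup.card_top] at h
  exact h

omit [Fintype ι] [DecidableEq ι] in
theorem card_Ker_eq (i j : ι) : Nat.card (Ker (T := T) i) = Nat.card (Ker (T := T) j) := by
  have h1 := card_Ker (T := T) i
  have h2 := card_Ker (T := T) j
  have hT : 0 < Nat.card T := Nat.card_pos
  exact Nat.eq_of_mul_eq_mul_right hT (h1.trans h2.symm)

omit [Fintype ι] [Finite T] in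
theorem Ker_injective [Nontrivial T] {i j : ι} (h : Ker (T := T) i = Ker j) : i = j := by
  by_contra hne
  obtain ⟨t, ht⟩ := exists_ne (1 : T)
  have h1 : Pi.mulSingle j t ∈ Ker (T := T) i := by
    rw [mem_Ker, Pi.mulSingle_apply, if_neg hne]
  rw [h, mem_Ker, Pi.mulSingle_eq_same] at h1
  exact ht h1

variable [IsSimpleGroup T]

theorem exists_Ker_map (hT : ∃ a b : T, a * b ≠ b * a) (γ : (ι → T) ≃* (ι → T)) (j : ι) :
    ∃ i, (Ker (T := T) i).map γ.toMonoidHom = Ker j := by
  set M := (Ker (T := T) j).comap γ.toMonoidHom with hM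
  have hMn : M.Normal := inferInstance
  have hMtop : M ≠ ⊤ := by
    intro htop
    obtain ⟨t, ht⟩ := exists_ne (1 : T)
    have : γ.symm (Pi.mulSingle j t) ∈ M := htop ▸ Subgroup.mem_top _
    rw [hM, Subgroup.mem_comap] at this
    have h2 : γ.toMonoidHom (γ.symm (Pi.mulSingle j t)) = Pi.mulSingle j t := by
      show γ (γ.symm _) = _
      exact γ.apply_symm_apply _
    rw [h2, mem_Ker, Pi.mulSingle_eq_same] at this
    exact ht this
  have hex : ∃ i, ∃ t : T, Pi.mulSingle i t ∉ M := by
    by_contra hcon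
    push Not at hcon
    apply hMtop
    rw [eq_top_iff]
    intro x _
    exact Subgroup.pi_mem_of_mulSingle_mem x (fun i => hcon i (x i))
  obtain ⟨i, t, hit⟩ := hex
  have hle : M ≤ Ker i := by
    intro x hx
    rw [mem_Ker]
    by_contra hxi
    exact hit (single_mem_of_normal hT M i x hx hxi t)
  have hcard : Nat.card (Ker (T := T) i) ≤ Nat.card M := by
    have e : M = (Ker (T := T) j).map γ.symm.toMonoidHom := by
      ext x
      rw [hM, Subgroup.mem_comap, Subgroup.mem_map]
      constructor
      · intro hx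
        exact ⟨γ x, hx, γ.symm_apply_apply x⟩
      · rintro ⟨y, hy, rfl⟩
        have : γ.toMonoidHom (γ.symm.toMonoidHom y) = y := γ.apply_symm_apply y
        rw [this]
        exact hy
    rw [e, Subgroup.card_map_of_injective γ.symm.injective]
    exact (card_Ker_eq i j).le
  have heq : M = Ker i := Subgroup.eq_of_le_of_card_ge hle hcard
  refine ⟨i, ?_⟩
  rw [← heq, hM]
  exact Subgroup.map_comap_eq_self_of_surjective γ.surjective _

/-- the permutation of coordinates induced by an automorphism (inverse direction) -/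
noncomputable def tau (hT : ∃ a b : T, a * b ≠ b * a) (γ : (ι → T) ≃* (ι → T)) (j : ι) : ι :=
  Classical.choose (exists_Ker_map hT γ j)

theorem tau_spec (hT : ∃ a b : T, a * b ≠ b * a) (γ : (ι → T) ≃* (ι → T)) (j : ι) :
    (Ker (T := T) (tau hT γ j)).map γ.toMonoidHom = Ker j :=
  Classical.choose_spec (exists_Ker_map hT γ j)

theorem tau_injective (hT : ∃ a b : T, a * b ≠ b * a) (γ : (ι → T) ≃* (ι → T)) :
    Function.Injective (tau hT γ) := by
  intro j j' h
  have h1 := tau_spec hT γ j
  have h2 := tau_spec hT γ j'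
  rw [h] at h1
  exact Ker_injective (h1.symm.trans h2)

theorem tau_bijective (hT : ∃ a b : T, a * b ≠ b * a) (γ : (ι → T) ≃* (ι → T)) :
    Function.Bijective (tau hT γ) :=
  (Finite.injective_iff_bijective).mp (tau_injective hT γ)

/-- key fact: the `j`-th coordinate of `γ x` only depends on the `tau j`-th coordinate of `x` -/
theorem apply_eq_of_eq (hT : ∃ a b : T, a * b ≠ b * a) (γ : (ι → T) ≃* (ι → T)) (j : ι)
    {x y : ι → T} (h : x (tau hT γ j) = y (tau hT γ j)) : γ x j = γ y j := by
  have hk : x * y⁻¹ ∈ Ker (T := T) (tau hT γ j) := by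
    rw [mem_Ker]
    simp [h]
  have : γ (x * y⁻¹) ∈ (Ker (T := T) (tau hT γ j)).map γ.toMonoidHom :=
    Subgroup.mem_map_of_mem _ hk
  rw [tau_spec, mem_Ker, map_mul, map_inv] at this
  have h2 : γ x j * (γ y j)⁻¹ = 1 := this
  exact mul_inv_eq_one.mp h2

end Aut

end Cfsg.Agent.Lib.Helper2.OS
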