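import Mathlib
import Cfsg.Agent.Lib.Helper2.OS2

set_option autoImplicit false

namespace Cfsg.Agent.Lib.Helper2.OS

open scoped commutatorElement

section Scott

variable {ι : Type*} [Fintype ι] [DecidableEq ι] {T : Type*} [Group T] [IsSimpleGroup T]

/-- elements vanishing on a finite set of coordinates -/
def Van (J : Finset ι) : Subgroup (ι → T) where
  carrier := {x | ∀ j ∈ J, x j = 1}
  one_mem' := fun _ _ => rfl
  mul_mem' := by
    intro x y hx hy j hj
    show x j * y j = 1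
    rw [hx j hj, hy j hj, one_mul]
  inv_mem' := by
    intro x hx j hj
    show (x j)⁻¹ = 1
    rw [hx j hj, inv_one]

omit [Fintype ι] [DecidableEq ι] [IsSimpleGroup T] in
theorem mem_Van {J : Finset ι} {x : ι → T} : x ∈ Van J ↔ ∀ j ∈ J, x j = 1 := Iff.rfl

/-- the relation "same kernel on `D`" -/
def Rel (D : Subgroup (ι → T)) (i j : ι) : Prop := D ⊓ Ker i = D ⊓ Ker j

omit [Fintype ι] [DecidableEq ι] [IsSimpleGroup T] in
theorem Rel.iff {D : Subgroup (ι → T)} {i j : ι} (h : Rel D i j) {d : ι → T} (hd : d ∈ D) :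
    d i = 1 ↔ d j = 1 := by
  unfold Rel at h
  constructor
  · intro hi
    have : d ∈ D ⊓ Ker i := ⟨hd, mem_Ker.mpr hi⟩
    rw [h] at this
    exact mem_Ker.mp this.2
  · intro hj
    have : d ∈ D ⊓ Ker j := ⟨hd, mem_Ker.mpr hj⟩
    rw [← h] at this
    exact mem_Ker.mp this.2

omit [Fintype ι] [DecidableEq ι] [IsSimpleGroup T] in
theorem Rel.refl (D : Subgroup (ι → T)) (i : ι) : Rel D i i := rfl

omit [Fintype ι] [DecidableEq ι] [IsSimpleGroup T] in
theorem Rel.symm {D : Subgroup (ι → T)} {i j : ι} (h : Rel D i j) : Rel D j i := Eq.symm h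

omit [Fintype ι] [DecidableEq ι] [IsSimpleGroup T] in
theorem Rel.trans {D : Subgroup (ι → T)} {i j k : ι} (h : Rel D i j) (h' : Rel D j k) :
    Rel D i k := Eq.trans h h'

/-- the setoid -/
def relSetoid (D : Subgroup (ι → T)) : Setoid ι :=
  ⟨Rel D, ⟨Rel.refl D, Rel.symm, Rel.trans⟩⟩

omit [Fintype ι] [DecidableEq ι] in
/-- S3: unrelated kernels project onto -/
theorem exists_of_not_rel (D : Subgroup (ι → T)) (hsub : ∀ i, ∀ t : T, ∃ d ∈ D, d i = t)
    {i j : ι} (hij : ¬ Rel D i j) (t : T) : ∃ d ∈ D, d i = t ∧ d j = 1 := by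
  -- the image of `D ⊓ Ker j` under the `i`-th projection
  set S : Subgroup T := (D ⊓ Ker j).map (proj i) with hS
  have hSn : S.Normal := by
    constructor
    intro s hs u
    obtain ⟨e, he, rfl⟩ := hs
    obtain ⟨d, hdD, rfl⟩ := hsub i u
    refine ⟨d * e * d⁻¹, Subgroup.mem_inf.mpr
      ⟨D.mul_mem (D.mul_mem hdD (Subgroup.mem_inf.mp he).1) (D.inv_mem hdD), ?_⟩, ?_⟩
    · exact (Ker_normal j).conj_mem e (Subgroup.mem_inf.mp he).2 d
    · rfl
  -- same for roles swapped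
  set S' : Subgroup T := (D ⊓ Ker i).map (proj j) with hS'
  have hSn' : S'.Normal := by
    constructor
    intro s hs u
    obtain ⟨e, he, rfl⟩ := hs
    obtain ⟨d, hdD, rfl⟩ := hsub j u
    refine ⟨d * e * d⁻¹, Subgroup.mem_inf.mpr
      ⟨D.mul_mem (D.mul_mem hdD (Subgroup.mem_inf.mp he).1) (D.inv_mem hdD), ?_⟩, ?_⟩
    · exact (Ker_normal i).conj_mem e (Subgroup.mem_inf.mp he).2 d
    · rfl
  rcases IsSimpleGroup.eq_bot_or_eq_top_of_normal S hSn with h | h
  · exfalso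
    -- D ⊓ Ker j ≤ D ⊓ Ker i
    have hle : D ⊓ Ker j ≤ D ⊓ Ker i := by
      intro e he
      refine Subgroup.mem_inf.mpr ⟨(Subgroup.mem_inf.mp he).1, mem_Ker.mpr ?_⟩
      have : e i ∈ S := ⟨e, he, rfl⟩
      rw [h, Subgroup.mem_bot] at this
      exact this
    rcases IsSimpleGroup.eq_bot_or_eq_top_of_normal S' hSn' with h' | h'
    · apply hij
      apply le_antisymm _ hle
      intro e he
      refine Subgroup.mem_inf.mpr ⟨(Subgroup.mem_inf.mp he).1, mem_Ker.mpr ?_⟩
      have : e j ∈ S' := ⟨e, he, rfl⟩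
      rw [h', Subgroup.mem_bot] at this
      exact this
    · -- then every element of D has trivial i-th coordinate
      obtain ⟨u, hu⟩ := exists_ne (1 : T)
      obtain ⟨d, hdD, hdi⟩ := hsub i u
      have hdj : d j ∈ S' := h' ▸ Subgroup.mem_top _
      obtain ⟨e, he, hej⟩ := hdj
      have heD : e ∈ D := (Subgroup.mem_inf.mp he).1
      have heK : e i = 1 := mem_Ker.mp (Subgroup.mem_inf.mp he).2
      have h1 : d * e⁻¹ ∈ D ⊓ Ker j := by
        refine Subgroup.mem_inf.mpr ⟨D.mul_mem hdD (D.inv_mem heD), mem_Ker.mpr ?_⟩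
        show d j * (e j)⁻¹ = 1
        have : e j = d j := hej
        rw [this, mul_inv_cancel]
      have h2 := mem_Ker.mp (Subgroup.mem_inf.mp (hle h1)).2
      have h3 : d i * (e i)⁻¹ = 1 := h2
      rw [heK, inv_one, mul_one, hdi] at h3
      exact hu h3
  · have : t ∈ S := h ▸ Subgroup.mem_top t
    obtain ⟨e, he, hei⟩ := this
    exact ⟨e, (Subgroup.mem_inf.mp he).1, hei, mem_Ker.mp (Subgroup.mem_inf.mp he).2⟩

omit [Fintype ι] [DecidableEq ι] in
/-- S4: the commutator trick -/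
theorem exists_vanishing (hT : ∃ a b : T, a * b ≠ b * a) (D : Subgroup (ι → T))
    (hsub : ∀ i, ∀ t : T, ∃ d ∈ D, d i = t) (i : ι) (J : Finset ι)
    (hJ : ∀ j ∈ J, ¬ Rel D i j) : (D ⊓ Van J).map (proj i) = ⊤ := by
  classical
  induction J using Finset.induction_on with
  | empty =>
    rw [eq_top_iff]
    intro t _
    obtain ⟨d, hd, hdi⟩ := hsub i t
    exact ⟨d, Subgroup.mem_inf.mpr ⟨hd, fun j hj => absurd hj (Finset.notMem_empty j)⟩, hdi⟩
  | insert j₀ J hj₀ ih =>
    have ih' := ih (fun j hj => hJ j (Finset.mem_insert_of_mem hj))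
    have hj₀' := hJ j₀ (Finset.mem_insert_self j₀ J)
    rw [eq_top_iff, ← commutator_eq_top hT, Subgroup.commutator_le]
    intro a _ b _
    have ha : a ∈ (D ⊓ Van J).map (proj i) := ih' ▸ Subgroup.mem_top a
    obtain ⟨da, hda, rfl⟩ := ha
    have hdaD : da ∈ D := (Subgroup.mem_inf.mp hda).1
    have hdaV : ∀ j ∈ J, da j = 1 := (Subgroup.mem_inf.mp hda).2
    obtain ⟨db, hdbD, hdbi, hdbj⟩ := exists_of_not_rel D hsub hj₀' b
    refine ⟨⁅da, db⁆, Subgroup.mem_inf.mpr ⟨?_, ?_⟩, ?_⟩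
    · rw [commutatorElement_def]
      exact D.mul_mem (D.mul_mem (D.mul_mem hdaD hdbD) (D.inv_mem hdaD)) (D.inv_mem hdbD)
    · intro j hj
      rw [Finset.mem_insert] at hj
      show da j * db j * (da j)⁻¹ * (db j)⁻¹ = 1
      rcases hj with rfl | hj
      · rw [hdbj]
        group
      · rw [hdaV j hj]
        group
    · show da i * db i * (da i)⁻¹ * (db i)⁻¹ = ⁅da i, b⁆
      rw [hdbi]
      rfl

end Scott

end Cfsg.Agent.Lib.Helper2.OS
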