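import Mathlib
import Cfsg.Agent.Lib.Helper2.OS3

set_option autoImplicit false

namespace Cfsg.Agent.Lib.Helper2.OS

open scoped commutatorElement

section Scott2

variable {ι : Type*} [Fintype ι] [DecidableEq ι] {T : Type*} [Group T] [IsSimpleGroup T]

omit [Fintype ι] [DecidableEq ι] [IsSimpleGroup T] in
/-- related coordinates are linked by an isomorphism -/
theorem exists_psi (D : Subgroup (ι → T)) (hsub : ∀ i, ∀ t : T, ∃ d ∈ D, d i = t) {i j : ι}
    (hij : Rel D i j) : ∃ ψ : T ≃* T, ∀ d ∈ D, ψ (d i) = d j := by
  let f : ↥D →* T × T := ((proj i).comp D.subtype).prod ((proj j).comp D.subtype)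
  have hf₁ : Function.Surjective (Prod.fst ∘ f) := by
    intro t
    obtain ⟨d, hd, hdi⟩ := hsub i t
    exact ⟨⟨d, hd⟩, hdi⟩
  have hf₂ : Function.Surjective (Prod.snd ∘ f) := by
    intro t
    obtain ⟨d, hd, hdj⟩ := hsub j t
    exact ⟨⟨d, hd⟩, hdj⟩
  have hf : ∀ g₁ g₂ : ↥D, (f g₁).1 = (f g₂).1 ↔ (f g₁).2 = (f g₂).2 := by
    intro g₁ g₂
    show g₁.1 i = g₂.1 i ↔ g₁.1 j = g₂.1 j
    have hmem : g₁.1 * g₂.1⁻¹ ∈ D := D.mul_mem g₁.2 (D.inv_mem g₂.2)
    have := hij.iff hmem
    have e1 : (g₁.1 * g₂.1⁻¹) i = g₁.1 i * (g₂.1 i)⁻¹ := rfl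
    have e2 : (g₁.1 * g₂.1⁻¹) j = g₁.1 j * (g₂.1 j)⁻¹ := rfl
    rw [e1, e2, mul_inv_eq_one, mul_inv_eq_one] at this
    exact this
  obtain ⟨e, he⟩ := MonoidHom.exists_mulEquiv_range_eq_graph hf₁ hf₂ hf
  refine ⟨e, ?_⟩
  intro d hd
  have : f ⟨d, hd⟩ ∈ f.range := ⟨_, rfl⟩
  rw [he, MonoidHom.mem_graph] at this
  exact this

/-- representative of the class of `i` -/
noncomputable def rep (D : Subgroup (ι → T)) (i : ι) : ι :=
  (Quotient.mk (relSetoid D) i).out

omit [Fintype ι] [DecidableEq ι] [IsSimpleGroup T] in
theorem rel_rep (D : Subgroup (ι → T)) (i : ι) : Rel D i (rep D i) := by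
  have := Quotient.mk_out (s := relSetoid D) i
  exact Rel.symm this

omit [Fintype ι] [DecidableEq ι] [IsSimpleGroup T] in
theorem rep_eq_of_rel {D : Subgroup (ι → T)} {i j : ι} (h : Rel D i j) : rep D i = rep D j := by
  unfold rep
  have : Quotient.mk (relSetoid D) i = Quotient.mk (relSetoid D) j := Quotient.sound h
  rw [this]

omit [Fintype ι] [DecidableEq ι] [IsSimpleGroup T] in
theorem rel_iff_rep_eq {D : Subgroup (ι → T)} {i j : ι} : Rel D i j ↔ rep D i = rep D j := by
  constructor
  · exact rep_eq_of_rel
  · intro h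
    have h1 := rel_rep D i
    have h2 := rel_rep D j
    rw [h] at h1
    exact h1.trans h2.symm

/-- the twisting isomorphisms -/
noncomputable def theta (D : Subgroup (ι → T)) (hsub : ∀ i, ∀ t : T, ∃ d ∈ D, d i = t)
    (i : ι) : T ≃* T :=
  Classical.choose (exists_psi D hsub (rel_rep D i))

omit [Fintype ι] [DecidableEq ι] [IsSimpleGroup T] in
theorem theta_spec (D : Subgroup (ι → T)) (hsub : ∀ i, ∀ t : T, ∃ d ∈ D, d i = t) (i : ι)
    {d : ι → T} (hd : d ∈ D) : theta D hsub i (d i) = d (rep D i) :=
  Classical.choose_spec (exists_psi D hsub (rel_rep D i)) d hd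

omit [DecidableEq ι] in
/-- **Scott's lemma**: a subdirect subgroup of a power of a nonabelian simple group is a product
of twisted diagonals. -/
theorem scott (hT : ∃ a b : T, a * b ≠ b * a) (D : Subgroup (ι → T))
    (hsub : ∀ i, ∀ t : T, ∃ d ∈ D, d i = t) (x : ι → T) :
    x ∈ D ↔ ∀ i j, Rel D i j → theta D hsub i (x i) = theta D hsub j (x j) := by
  classical
  constructor
  · intro hx i j hij
    rw [theta_spec D hsub i hx, theta_spec D hsub j hx, rep_eq_of_rel hij]
  · -- strong induction on the size of the support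
    suffices H : ∀ n : ℕ, ∀ x : ι → T,
        (Finset.univ.filter (fun i => x i ≠ 1)).card = n →
        (∀ i j, Rel D i j → theta D hsub i (x i) = theta D hsub j (x j)) → x ∈ D from
      fun hx => H _ x rfl hx
    intro n
    induction n using Nat.strong_induction_on with
    | _ n ih =>
      intro x hn hx
      by_cases h1 : ∀ i, x i = 1
      · have : x = 1 := funext h1
        rw [this]
        exact D.one_mem
      · push Not at h1
        obtain ⟨i₀, hi₀⟩ := h1
        set J : Finset ι := Finset.univ.filter (fun j => ¬ Rel D i₀ j) with hJ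
        have hJ' : ∀ j ∈ J, ¬ Rel D i₀ j := by
          intro j hj
          rw [hJ, Finset.mem_filter] at hj
          exact hj.2
        have hv := exists_vanishing hT D hsub i₀ J hJ'
        have : x i₀ ∈ (D ⊓ Van J).map (proj i₀) := hv ▸ Subgroup.mem_top _
        obtain ⟨d, hd, hdi⟩ := this
        have hdD : d ∈ D := (Subgroup.mem_inf.mp hd).1
        have hdV : ∀ j, ¬ Rel D i₀ j → d j = 1 := by
          intro j hj
          apply (Subgroup.mem_inf.mp hd).2 j
          rw [hJ, Finset.mem_filter]
          exact ⟨Finset.mem_univ j, hj⟩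
        have hdi' : d i₀ = x i₀ := hdi
        have hdx : ∀ j, Rel D i₀ j → d j = x j := by
          intro j hj
          have e1 : theta D hsub i₀ (d i₀) = theta D hsub j (d j) := by
            rw [theta_spec D hsub i₀ hdD, theta_spec D hsub j hdD, rep_eq_of_rel hj]
          have e2 := hx i₀ j hj
          rw [hdi', e2] at e1
          exact ((theta D hsub j).injective e1).symm
        -- the new element
        set x' : ι → T := x * d⁻¹ with hx'
        have hx'rel : ∀ i j, Rel D i j →
            theta D hsub i (x' i) = theta D hsub j (x' j) := by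
          intro i j hij
          have e1 := hx i j hij
          have e2 : theta D hsub i (d i) = theta D hsub j (d j) := by
            rw [theta_spec D hsub i hdD, theta_spec D hsub j hdD, rep_eq_of_rel hij]
          show theta D hsub i (x i * (d i)⁻¹) = theta D hsub j (x j * (d j)⁻¹)
          rw [map_mul, map_mul, map_inv, map_inv, e1, e2]
        have hsupp : (Finset.univ.filter (fun i => x' i ≠ 1)) ⊂
            (Finset.univ.filter (fun i => x i ≠ 1)) := by
          rw [Finset.ssubset_iff_of_subset]
          · refine ⟨i₀, ?_, ?_⟩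
            · rw [Finset.mem_filter]
              exact ⟨Finset.mem_univ _, hi₀⟩
            · rw [Finset.mem_filter, not_and, not_not]
              intro _
              show x i₀ * (d i₀)⁻¹ = 1
              rw [hdi', mul_inv_cancel]
          · intro j hj
            rw [Finset.mem_filter] at hj ⊢
            refine ⟨Finset.mem_univ _, ?_⟩
            intro hxj
            apply hj.2
            show x j * (d j)⁻¹ = 1
            by_cases hr : Rel D i₀ j
            · rw [hdx j hr, mul_inv_cancel]
            · rw [hdV j hr, hxj, inv_one, mul_one]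
        have hlt : (Finset.univ.filter (fun i => x' i ≠ 1)).card < n := by
          rw [← hn]
          exact Finset.card_lt_card hsupp
        have hx'D : x' ∈ D := ih _ hlt x' rfl hx'rel
        have : x = x' * d := by
          rw [hx']
          group
        rw [this]
        exact D.mul_mem hx'D hdD

end Scott2

end Cfsg.Agent.Lib.Helper2.OS
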