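import Mathlib
import Cfsg.Agent.Lib.Helper2.OS4

set_option autoImplicit false

namespace Cfsg.Agent.Lib.Helper2.OS

section Main

variable {ι : Type*} [Fintype ι] [DecidableEq ι] {T : Type*} [Group T] [Finite T]
  [IsSimpleGroup T]

omit [Fintype ι] [DecidableEq ι] [Finite T] [IsSimpleGroup T] in
theorem Van_normal (J : Finset ι) : (Van (T := T) J).Normal := by
  constructor
  intro x hx g j hj
  show g j * x j * (g j)⁻¹ = 1
  rw [hx j hj, mul_one, mul_inv_cancel]

/-- invariance under a set of automorphisms -/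
def Inv (Γ : Set ((ι → T) ≃* (ι → T))) (X : Subgroup (ι → T)) : Prop :=
  ∀ γ ∈ Γ, X.map γ.toMonoidHom = X

omit [DecidableEq ι] [IsSimpleGroup T] in
theorem Inv.of_le {Γ : Set ((ι → T) ≃* (ι → T))} {X : Subgroup (ι → T)}
    (h : ∀ γ ∈ Γ, ∀ x ∈ X, γ x ∈ X) : Inv Γ X := by
  intro γ hγ
  have hle : X.map γ.toMonoidHom ≤ X := by
    rintro _ ⟨x, hx, rfl⟩
    exact h γ hγ x hx
  apply Subgroup.eq_of_le_of_card_ge hle
  rw [Subgroup.card_map_of_injective γ.injective]

omit [Fintype ι] [DecidableEq ι] [Finite T] [IsSimpleGroup T] in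
theorem Inv.apply_mem {Γ : Set ((ι → T) ≃* (ι → T))} {X : Subgroup (ι → T)} (h : Inv Γ X)
    {γ : (ι → T) ≃* (ι → T)} (hγ : γ ∈ Γ) {x : ι → T} (hx : x ∈ X) : γ x ∈ X := by
  have : γ x ∈ X.map γ.toMonoidHom := Subgroup.mem_map_of_mem _ hx
  rw [h γ hγ] at this
  exact this

/-- the coordinate `i` is "good" for `D` when `D` projects onto it -/
def Good (D : Subgroup (ι → T)) (i : ι) : Prop := D ⊔ Ker i = ⊤

omit [Fintype ι] [DecidableEq ι] [Finite T] [IsSimpleGroup T] in
theorem good_iff (D : Subgroup (ι → T)) (i : ι) :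
    Good D i ↔ ∀ t : T, ∃ d ∈ D, d i = t := by
  classical
  unfold Good
  constructor
  · intro h t
    have : Pi.mulSingle i t ∈ D ⊔ Ker i := h ▸ Subgroup.mem_top _
    rw [Subgroup.mem_sup_of_normal_right] at this
    obtain ⟨d, hd, k, hk, hdk⟩ := this
    refine ⟨d, hd, ?_⟩
    have := congrFun hdk i
    rw [Pi.mulSingle_eq_same] at this
    have hk' : k i = 1 := mem_Ker.mp hk
    have e : (d * k) i = d i * k i := rfl
    rw [e, hk', mul_one] at this
    exact this
  · intro h
    rw [eq_top_iff]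
    intro x _
    obtain ⟨d, hd, hdi⟩ := h (x i)
    rw [Subgroup.mem_sup_of_normal_right]
    refine ⟨d, hd, d⁻¹ * x, ?_, by group⟩
    rw [mem_Ker]
    show (d i)⁻¹ * x i = 1
    rw [hdi, inv_mul_cancel]

theorem good_tau_iff (hT : ∃ a b : T, a * b ≠ b * a) {D : Subgroup (ι → T)}
    {γ : (ι → T) ≃* (ι → T)} (hD : D.map γ.toMonoidHom = D) (j : ι) :
    Good D (tau hT γ j) ↔ Good D j := by
  unfold Good
  have key : (D ⊔ Ker (tau hT γ j)).map γ.toMonoidHom = D ⊔ Ker j := by
    rw [Subgroup.map_sup, hD, tau_spec]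
  constructor
  · intro h
    rw [← key, h]
    exact Subgroup.map_top_of_surjective _ γ.surjective
  · intro h
    rw [h] at key
    have h2 : (⊤ : Subgroup (ι → T)).map γ.toMonoidHom = ⊤ :=
      Subgroup.map_top_of_surjective _ γ.surjective
    rw [← h2] at key
    exact Subgroup.map_injective (f := γ.toMonoidHom) γ.injective key

theorem rel_tau_iff (hT : ∃ a b : T, a * b ≠ b * a) {D : Subgroup (ι → T)}
    {γ : (ι → T) ≃* (ι → T)} (hD : D.map γ.toMonoidHom = D) (j j' : ι) :
    Rel D (tau hT γ j) (tau hT γ j') ↔ Rel D j j' := by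
  unfold Rel
  have key : ∀ l, (D ⊓ Ker (tau hT γ l)).map γ.toMonoidHom = D ⊓ Ker l := by
    intro l
    rw [Subgroup.map_inf _ _ _ γ.injective, hD, tau_spec]
  constructor
  · intro h
    rw [← key j, ← key j', h]
  · intro h
    apply Subgroup.map_injective (f := γ.toMonoidHom) γ.injective
    rw [key j, key j', h]

/-- class size -/
noncomputable def csize (D : Subgroup (ι → T)) (i : ι) : ℕ := Nat.card {j // Rel D i j}

theorem csize_tau (hT : ∃ a b : T, a * b ≠ b * a) {D : Subgroup (ι → T)}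
    {γ : (ι → T) ≃* (ι → T)} (hD : D.map γ.toMonoidHom = D) (j : ι) :
    csize D (tau hT γ j) = csize D j := by
  unfold csize
  symm
  apply Nat.card_congr
  exact Equiv.subtypeEquiv (Equiv.ofBijective _ (tau_bijective hT γ))
    (fun j' => (rel_tau_iff hT hD j j').symm)

/-- the vanishing subgroup of a set of coordinates stable under `tau` is invariant -/
theorem inv_Van (hT : ∃ a b : T, a * b ≠ b * a) (Γ : Set ((ι → T) ≃* (ι → T)))
    (J : Finset ι) (hJ : ∀ γ ∈ Γ, ∀ j ∈ J, tau hT γ j ∈ J) : Inv Γ (Van (T := T) J) := by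
  apply Inv.of_le
  intro γ hγ x hx j hj
  have h1 : x (tau hT γ j) = (1 : ι → T) (tau hT γ j) := hx _ (hJ γ hγ j hj)
  have := apply_eq_of_eq hT γ j h1
  rw [this, map_one]
  rfl

omit [Fintype ι] [Finite T] [IsSimpleGroup T] in
theorem Van_eq_top_iff [Nontrivial T] (J : Finset ι) : Van (T := T) J = ⊤ ↔ J = ∅ := by
  constructor
  · intro h
    by_contra hne
    obtain ⟨j, hj⟩ := Finset.nonempty_iff_ne_empty.mpr hne
    obtain ⟨t, ht⟩ := exists_ne (1 : T)
    have : Pi.mulSingle j t ∈ Van (T := T) J := h ▸ Subgroup.mem_top _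
    have := this j hj
    rw [Pi.mulSingle_eq_same] at this
    exact ht this
  · rintro rfl
    rw [eq_top_iff]
    intro x _ j hj
    exact absurd hj (Finset.notMem_empty j)

omit [Finite T] [IsSimpleGroup T] in
theorem Van_eq_bot_iff [Nontrivial T] (J : Finset ι) : Van (T := T) J = ⊥ ↔ J = Finset.univ := by
  constructor
  · intro h
    by_contra hne
    have : ∃ j, j ∉ J := by
      by_contra hcon
      push Not at hcon
      exact hne (Finset.eq_univ_iff_forall.mpr hcon)
    obtain ⟨j, hj⟩ := this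
    obtain ⟨t, ht⟩ := exists_ne (1 : T)
    have hm : Pi.mulSingle j t ∈ Van (T := T) J := by
      intro l hl
      have : l ≠ j := fun e => hj (e ▸ hl)
      rw [Pi.mulSingle_apply, if_neg this]
    rw [h, Subgroup.mem_bot] at hm
    have := congrFun hm j
    rw [Pi.mulSingle_eq_same] at this
    exact ht this
  · rintro rfl
    rw [eq_bot_iff]
    intro x hx
    rw [Subgroup.mem_bot]
    funext j
    exact hx j (Finset.mem_univ j)

end Main

end Cfsg.Agent.Lib.Helper2.OS
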