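import Mathlib
import Cfsg.Agent.Lib.Helper2.OS5

set_option autoImplicit false

namespace Cfsg.Agent.Lib.Helper2.OS

section Main2

variable {ι : Type*} [Fintype ι] [DecidableEq ι] {T : Type*} [Group T] [Finite T]
  [IsSimpleGroup T]

theorem main_abstract (hT : ∃ a b : T, a * b ≠ b * a) (Γ : Set ((ι → T) ≃* (ι → T)))
    (H1 : ∀ M : Subgroup (ι → T), M.Normal → Inv Γ M → M = ⊥ ∨ M = ⊤)
    (D : Subgroup (ι → T)) (hD : Inv Γ D) (hDtop : D ≠ ⊤)
    (H2 : ∀ X : Subgroup (ι → T), D ≤ X → Inv Γ X → X = D ∨ X = ⊤) :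
    (∃ K : ι → Subgroup T, (∀ i, K i ≠ ⊤) ∧ ∀ x : ι → T, x ∈ D ↔ ∀ i, x i ∈ K i) ∨
    (∃ (θ : ι → T ≃* T) (k : ℕ), 2 ≤ k ∧ (∀ i, Nat.card {j // Rel D i j} = k) ∧
      ∀ x : ι → T, x ∈ D ↔ ∀ i j, Rel D i j → θ i (x i) = θ j (x j)) := by
  classical
  -- ι is nonempty
  have hne : Nonempty ι := by
    by_contra hcon
    rw [not_nonempty_iff] at hcon
    apply hDtop
    rw [eq_top_iff]
    intro x _
    have : x = 1 := Subsingleton.elim _ _
    rw [this]
    exact D.one_mem
  obtain ⟨i₀⟩ := hne
  set Bad : Finset ι := Finset.univ.filter (fun i => ¬ Good D i) with hBad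
  have hBadInv : ∀ γ ∈ Γ, ∀ j ∈ Bad, tau hT γ j ∈ Bad := by
    intro γ hγ j hj
    rw [hBad, Finset.mem_filter] at hj ⊢
    refine ⟨Finset.mem_univ _, ?_⟩
    rw [good_tau_iff hT (hD γ hγ)]
    exact hj.2
  rcases H1 (Van Bad) (Van_normal Bad) (inv_Van hT Γ Bad hBadInv) with hM | hM
  · -- all coordinates bad: product case
    left
    rw [Van_eq_bot_iff] at hM
    have hbad : ∀ i, ¬ Good D i := by
      intro i
      have : i ∈ Bad := hM ▸ Finset.mem_univ i
      rw [hBad, Finset.mem_filter] at this
      exact this.2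
    set R : ι → Subgroup T := fun i => D.map (proj i) with hR
    have hRtop : ∀ i, R i ≠ ⊤ := by
      intro i htop
      apply hbad i
      rw [good_iff]
      intro t
      have : t ∈ R i := htop ▸ Subgroup.mem_top t
      obtain ⟨d, hd, hdt⟩ := this
      exact ⟨d, hd, hdt⟩
    set X : Subgroup (ι → T) := Subgroup.pi Set.univ R with hX
    have hDX : D ≤ X := by
      intro d hd
      rw [hX, Subgroup.mem_pi]
      intro i _
      exact ⟨d, hd, rfl⟩
    have hXinv : Inv Γ X := by
      apply Inv.of_le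
      intro γ hγ x hx
      rw [hX, Subgroup.mem_pi] at hx ⊢
      intro j _
      obtain ⟨d, hd, hdi⟩ := hx (tau hT γ j) (Set.mem_univ _)
      have h1 : γ x j = γ d j := apply_eq_of_eq hT γ j hdi.symm
      rw [h1]
      exact ⟨γ d, hD.apply_mem hγ hd, rfl⟩
    have hXtop : X ≠ ⊤ := by
      intro htop
      have : ∃ t : T, t ∉ R i₀ := by
        by_contra hcon
        push Not at hcon
        exact hRtop i₀ (eq_top_iff.mpr fun t _ => hcon t)
      obtain ⟨t, ht⟩ := this
      have : Pi.mulSingle i₀ t ∈ X := htop ▸ Subgroup.mem_top _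
      rw [hX, Subgroup.mem_pi] at this
      have := this i₀ (Set.mem_univ _)
      rw [Pi.mulSingle_eq_same] at this
      exact ht this
    rcases H2 X hDX hXinv with h | h
    · refine ⟨R, hRtop, ?_⟩
      intro x
      rw [← h, hX, Subgroup.mem_pi]
      constructor
      · intro hx i
        exact hx i (Set.mem_univ i)
      · intro hx i _
        exact hx i
    · exact absurd h hXtop
  · -- all coordinates good: diagonal case
    right
    rw [Van_eq_top_iff] at hM
    have hgood : ∀ i, Good D i := by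
      intro i
      by_contra hcon
      have : i ∈ Bad := by
        rw [hBad, Finset.mem_filter]
        exact ⟨Finset.mem_univ i, hcon⟩
      rw [hM] at this
      exact absurd this (Finset.notMem_empty i)
    have hsub : ∀ i, ∀ t : T, ∃ d ∈ D, d i = t := fun i => (good_iff D i).mp (hgood i)
    have hscott := scott hT D hsub
    set k := csize D i₀ with hk
    set J : Finset ι := Finset.univ.filter (fun i => csize D i ≠ k) with hJ
    have hJinv : ∀ γ ∈ Γ, ∀ j ∈ J, tau hT γ j ∈ J := by
      intro γ hγ j hj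
      rw [hJ, Finset.mem_filter] at hj ⊢
      refine ⟨Finset.mem_univ _, ?_⟩
      rw [csize_tau hT (hD γ hγ)]
      exact hj.2
    have hJe : J = ∅ := by
      rcases H1 (Van J) (Van_normal J) (inv_Van hT Γ J hJinv) with h | h
      · rw [Van_eq_bot_iff] at h
        have : i₀ ∈ J := h ▸ Finset.mem_univ i₀
        rw [hJ, Finset.mem_filter] at this
        exact absurd rfl this.2
      · exact (Van_eq_top_iff J).mp h
    have hall : ∀ i, csize D i = k := by
      intro i
      by_contra hcon
      have : i ∈ J := by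
        rw [hJ, Finset.mem_filter]
        exact ⟨Finset.mem_univ i, hcon⟩
      rw [hJe] at this
      exact absurd this (Finset.notMem_empty i)
    refine ⟨theta D hsub, k, ?_, hall, hscott⟩
    -- k ≥ 2
    by_contra hk2
    have hk0 : 0 < k := by
      rw [hk]
      unfold csize
      have : Nonempty {j // Rel D i₀ j} := ⟨⟨i₀, Rel.refl D i₀⟩⟩
      exact Nat.card_pos
    have hk1 : k = 1 := by omega
    apply hDtop
    rw [eq_top_iff]
    intro x _
    rw [hscott]
    intro i j hij
    have h1 : Nat.card {j // Rel D i j} = 1 := (hall i).trans hk1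
    rw [Nat.card_eq_one_iff_unique] at h1
    obtain ⟨hss, _⟩ := h1
    have : (⟨i, Rel.refl D i⟩ : {j // Rel D i j}) = ⟨j, hij⟩ := Subsingleton.elim _ _
    have hij' : i = j := congrArg Subtype.val this
    subst hij'
    rfl

end Main2

end Cfsg.Agent.Lib.Helper2.OS
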