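import Mathlib
import Cfsg.Agent.Lib.Helper2.OS6

set_option autoImplicit false

namespace Cfsg.Agent.Lib.Helper2.OS

open MulAction

section Transport

variable {α : Type*} [Finite α] (H : Subgroup (Equiv.Perm α)) [MulAction.IsPreprimitive H α]
  (N : Subgroup H) [hNn : N.Normal] (a : α)

omit [Finite α] [IsPreprimitive H α] hNn in
theorem eq_one_of_fix (g : H) (hg : ∀ x : α, g • x = x) : g = 1 := by
  apply Subtype.ext
  apply Equiv.ext
  intro x
  exact hg x

omit [Finite α] in
include hNn in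
theorem N_pretransitive (hN : N ≠ ⊥) : MulAction.IsPretransitive N α := by
  apply IsQuasiPreprimitive.isPretransitive_of_normal
  intro hfix
  apply hN
  rw [eq_bot_iff]
  intro n hn
  rw [Subgroup.mem_bot]
  apply eq_one_of_fix
  intro x
  have : x ∈ fixedPoints N α := hfix ▸ Set.mem_univ x
  exact this ⟨n, hn⟩

omit [Finite α] in
include hNn in
theorem exists_mul (hN : N ≠ ⊥) (g : H) : ∃ n ∈ N, ∃ h ∈ stabilizer H a, g = n * h := by
  have := N_pretransitive H N hN
  obtain ⟨n, hn⟩ := MulAction.exists_smul_eq N a (g • a)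
  refine ⟨n.1, n.2, n.1⁻¹ * g, ?_, by group⟩
  rw [mem_stabilizer_iff, mul_smul]
  have h1 : (n : H) • a = g • a := hn
  rw [← h1, inv_smul_smul]

omit [Finite α] [IsPreprimitive H α] hNn in
theorem nontrivial_of (hN : N ≠ ⊥) : Nontrivial α := by
  by_contra hcon
  rw [not_nontrivial_iff_subsingleton] at hcon
  apply hN
  rw [eq_bot_iff]
  intro n _
  rw [Subgroup.mem_bot]
  apply eq_one_of_fix
  intro x
  exact Subsingleton.elim _ _

/-- the stabilizer inside `N` -/
def Na : Subgroup N := (stabilizer H a).subgroupOf N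

omit [Finite α] [IsPreprimitive H α] hNn in
theorem mem_Na {n : N} : n ∈ Na H N a ↔ (n : H) ∈ stabilizer H a := Iff.rfl

omit [Finite α] in
include hNn in
theorem Na_ne_top (hN : N ≠ ⊥) : Na H N a ≠ ⊤ := by
  intro htop
  apply hN
  rw [eq_bot_iff]
  intro n hn
  rw [Subgroup.mem_bot]
  apply eq_one_of_fix
  intro x
  have := (inferInstance : IsPreprimitive H α).toIsPretransitive
  obtain ⟨g, rfl⟩ := MulAction.exists_smul_eq H a x
  have h1 : g⁻¹ * n * g ∈ N := by
    have := hNn.conj_mem n hn g⁻¹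
    rwa [inv_inv] at this
  have h2 : (⟨g⁻¹ * n * g, h1⟩ : N) ∈ Na H N a := htop ▸ Subgroup.mem_top _
  rw [mem_Na, mem_stabilizer_iff] at h2
  have h3 : (g⁻¹ * n * g) • a = a := h2
  rw [mul_smul, mul_smul, inv_smul_eq_iff] at h3
  exact h3


variable {T₀ : Type*} [Group T₀] {m : ℕ} (e₀ : N ≃* (Fin m → T₀))

/-- conjugation transported to the power -/
noncomputable def gam (h : H) : (Fin m → T₀) ≃* (Fin m → T₀) :=
  (e₀.symm.trans (MulAut.conjNormal h : N ≃* N)).trans e₀

omit [Finite α] [IsPreprimitive H α] in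
theorem gam_apply (h : H) (n : N) :
    gam H N e₀ h (e₀ n) = e₀ ((MulAut.conjNormal h : N ≃* N) n) := by
  unfold gam
  simp

/-- the set of transported conjugations by the point stabilizer -/
def Gam : Set ((Fin m → T₀) ≃* (Fin m → T₀)) :=
  {γ | ∃ h ∈ stabilizer H a, γ = gam H N e₀ h}

/-- pull a subgroup of the power back to `H` -/
def pull (X : Subgroup (Fin m → T₀)) : Subgroup H :=
  (X.comap e₀.toMonoidHom).map N.subtype

omit [Finite α] [IsPreprimitive H α] hNn in
theorem mem_pull {X : Subgroup (Fin m → T₀)} {y : H} :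
    y ∈ pull H N e₀ X ↔ ∃ n : N, e₀ n ∈ X ∧ (n : H) = y := by
  unfold pull
  rw [Subgroup.mem_map]
  constructor
  · rintro ⟨n, hn, rfl⟩
    exact ⟨n, hn, rfl⟩
  · rintro ⟨n, hn, rfl⟩
    exact ⟨n, hn, rfl⟩

omit [Finite α] [IsPreprimitive H α] hNn in
theorem pull_le (X : Subgroup (Fin m → T₀)) : pull H N e₀ X ≤ N := by
  intro y hy
  obtain ⟨n, -, rfl⟩ := (mem_pull H N e₀).mp hy
  exact n.2

omit [Finite α] [IsPreprimitive H α] in
/-- `pull X` is stable under conjugation by the point stabilizer when `X` is `Gam`-invariant -/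
theorem conj_mem_pull [Finite T₀] {X : Subgroup (Fin m → T₀)} (hX : Inv (Gam H N a e₀) X)
    {h : H} (hh : h ∈ stabilizer H a) {y : H} (hy : y ∈ pull H N e₀ X) :
    h * y * h⁻¹ ∈ pull H N e₀ X := by
  obtain ⟨n, hn, rfl⟩ := (mem_pull H N e₀).mp hy
  rw [mem_pull]
  refine ⟨(MulAut.conjNormal h : N ≃* N) n, ?_, MulAut.conjNormal_apply h n⟩
  rw [← gam_apply]
  exact hX.apply_mem ⟨h, hh, rfl⟩ hn

end Transport

end Cfsg.Agent.Lib.Helper2.OS
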