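import Mathlib
import Cfsg.Agent.Lib.Helper2.OS7

set_option autoImplicit false

namespace Cfsg.Agent.Lib.Helper2.OS

open MulAction Pointwise

section Transport2

variable {α : Type*} [Finite α] (H : Subgroup (Equiv.Perm α)) [MulAction.IsPreprimitive H α]
  (N : Subgroup H) [hNn : N.Normal] (a : α)
  {T₀ : Type*} [Group T₀] [Finite T₀] {m : ℕ} (e₀ : N ≃* (Fin m → T₀))

omit [Finite α] in
include hNn in
/-- (H1) -/
theorem verify_H1 (hN : N ≠ ⊥)
    (hmin : ∀ M : Subgroup H, M.Normal → M ≤ N → M = ⊥ ∨ M = N)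
    (M : Subgroup (Fin m → T₀)) (hMn : M.Normal) (hM : Inv (Gam H N a e₀) M) :
    M = ⊥ ∨ M = ⊤ := by
  have hnormal : (pull H N e₀ M).Normal := by
    constructor
    intro y hy g
    obtain ⟨n, hn, h, hh, rfl⟩ := exists_mul H N a hN g
    have h1 := conj_mem_pull H N a e₀ hM hh hy
    obtain ⟨n₁, hn₁, hn₁e⟩ := (mem_pull H N e₀).mp h1
    rw [mem_pull]
    refine ⟨⟨n, hn⟩ * n₁ * ⟨n, hn⟩⁻¹, ?_, ?_⟩
    · rw [map_mul, map_mul, map_inv]
      exact hMn.conj_mem _ hn₁ _
    · show n * (n₁ : H) * n⁻¹ = n * h * y * (n * h)⁻¹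
      rw [hn₁e]
      group
  rcases hmin _ hnormal (pull_le H N e₀ M) with h | h
  · left
    rw [eq_bot_iff]
    intro x hx
    rw [Subgroup.mem_bot]
    have : ((e₀.symm x : N) : H) ∈ pull H N e₀ M := by
      rw [mem_pull]
      exact ⟨e₀.symm x, by rw [e₀.apply_symm_apply]; exact hx, rfl⟩
    rw [h, Subgroup.mem_bot] at this
    have h2 : e₀.symm x = 1 := Subtype.ext this
    have := congrArg e₀ h2
    rw [e₀.apply_symm_apply, map_one] at this
    exact this
  · right
    rw [eq_top_iff]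
    intro x _
    have : ((e₀.symm x : N) : H) ∈ pull H N e₀ M := by
      rw [h]
      exact (e₀.symm x).2
    obtain ⟨n', hn', hne⟩ := (mem_pull H N e₀).mp this
    have h2 : n' = e₀.symm x := Subtype.ext hne
    rw [h2, e₀.apply_symm_apply] at hn'
    exact hn'

/-- the image of the stabilizer -/
def DD : Subgroup (Fin m → T₀) := (Na H N a).map e₀.toMonoidHom

omit [Finite α] [IsPreprimitive H α] hNn [Finite T₀] in
theorem mem_DD {n : N} : e₀ n ∈ DD H N a e₀ ↔ n ∈ Na H N a := by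
  unfold DD
  constructor
  · rintro ⟨n', hn', he⟩
    have : n' = n := e₀.injective he
    rw [← this]
    exact hn'
  · intro hn
    exact ⟨n, hn, rfl⟩

omit [Finite α] [IsPreprimitive H α] in
theorem DD_inv : Inv (Gam H N a e₀) (DD H N a e₀) := by
  apply Inv.of_le
  rintro γ ⟨h, hh, rfl⟩ x hx
  obtain ⟨n, hn, rfl⟩ := hx
  show gam H N e₀ h (e₀ n) ∈ _
  rw [gam_apply, mem_DD, mem_Na, MulAut.conjNormal_apply]
  have hn : (n : H) ∈ stabilizer H a := hn
  exact (stabilizer H a).mul_mem ((stabilizer H a).mul_mem hh hn) ((stabilizer H a).inv_mem hh)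

omit [Finite α] [Finite T₀] in
include hNn in
theorem DD_ne_top (hN : N ≠ ⊥) : DD H N a e₀ ≠ ⊤ := by
  intro htop
  apply Na_ne_top H N a hN
  rw [eq_top_iff]
  intro n _
  rw [← mem_DD H N a e₀, htop]
  exact Subgroup.mem_top _

omit [Finite α] in
include hNn in
/-- (H2) -/
theorem verify_H2 (hN : N ≠ ⊥) (X : Subgroup (Fin m → T₀)) (hDX : DD H N a e₀ ≤ X)
    (hX : Inv (Gam H N a e₀) X) : X = DD H N a e₀ ∨ X = ⊤ := by
  have hnt := nontrivial_of H N hN
  have hco : IsCoatom (stabilizer H a) :=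
    IsPreprimitive.isCoatom_stabilizer_of_isPreprimitive H a
  have hnorm : stabilizer H a ≤ Subgroup.normalizer (pull H N e₀ X : Set H) := by
    intro h hh
    rw [Subgroup.mem_normalizer_iff]
    intro y
    constructor
    · intro hy
      exact conj_mem_pull H N a e₀ hX hh hy
    · intro hy
      have := conj_mem_pull H N a e₀ hX ((stabilizer H a).inv_mem hh) hy
      have e : h⁻¹ * (h * y * h⁻¹) * h⁻¹⁻¹ = y := by group
      rwa [e] at this
  have hle : stabilizer H a ≤ stabilizer H a ⊔ pull H N e₀ X := le_sup_left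
  rcases hco.le_iff.mp hle with h | h
  · -- everything
    right
    rw [eq_top_iff]
    intro x _
    have hmem : ((e₀.symm x : N) : H) ∈ ((stabilizer H a ⊔ pull H N e₀ X : Subgroup H) : Set H) := by
      rw [h]
      exact Subgroup.mem_top _
    rw [Subgroup.coe_mul_of_left_le_normalizer_right _ _ hnorm] at hmem
    obtain ⟨h₁, hh₁, y, hy, hprod⟩ := Set.mem_mul.mp hmem
    obtain ⟨n', hn', rfl⟩ := (mem_pull H N e₀).mp hy
    have hh₁N : h₁ ∈ N := by
      have : h₁ = ((e₀.symm x : N) : H) * (n' : H)⁻¹ := by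
        rw [← hprod]
        group
      rw [this]
      exact N.mul_mem (e₀.symm x).2 (N.inv_mem n'.2)
    have h1 : e₀ ⟨h₁, hh₁N⟩ ∈ X := by
      apply hDX
      rw [mem_DD, mem_Na]
      exact hh₁
    have h2 : e₀.symm x = ⟨h₁, hh₁N⟩ * n' := Subtype.ext hprod.symm
    have := congrArg e₀ h2
    rw [e₀.apply_symm_apply, map_mul] at this
    rw [this]
    exact X.mul_mem h1 hn'
  · left
    apply le_antisymm _ hDX
    intro x hx
    have h1 : ((e₀.symm x : N) : H) ∈ pull H N e₀ X := by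
      rw [mem_pull]
      exact ⟨e₀.symm x, by rw [e₀.apply_symm_apply]; exact hx, rfl⟩
    have h2 : ((e₀.symm x : N) : H) ∈ stabilizer H a := by
      rw [← h]
      exact (le_sup_right : pull H N e₀ X ≤ _) h1
    have h3 : e₀ (e₀.symm x) ∈ DD H N a e₀ := by
      rw [mem_DD, mem_Na]
      exact h2
    rwa [e₀.apply_symm_apply] at h3

end Transport2

end Cfsg.Agent.Lib.Helper2.OS
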