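import Mathlib
import Cfsg.Agent.Lib.Helper2.OS8

set_option autoImplicit false

namespace Cfsg.Agent.Lib.Helper2.OS

open MulAction

section Final

variable {ι : Type*} [Fintype ι] [DecidableEq ι] {T : Type*} [Group T]

omit [Fintype ι] [DecidableEq ι] in
theorem rep_rep (D : Subgroup (ι → T)) (i : ι) : rep D (rep D i) = rep D i :=
  rep_eq_of_rel (rel_rep D i).symm

omit [Fintype ι] [DecidableEq ι] in
theorem card_fiber_rep (D : Subgroup (ι → T)) (k : ℕ)
    (hall : ∀ i, Nat.card {j // Rel D i j} = k) (j : ι) :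
    Nat.card {i // rep D i = j} = k ∨ Nat.card {i // rep D i = j} = 0 := by
  by_cases hj : rep D j = j
  · left
    rw [← hall j]
    apply Nat.card_congr
    refine Equiv.subtypeEquivRight ?_
    intro i
    constructor
    · intro hi
      rw [rel_iff_rep_eq, hj, hi]
    · intro hi
      rw [rel_iff_rep_eq, hj] at hi
      exact hi.symm
  · right
    have : IsEmpty {i // rep D i = j} := by
      constructor
      rintro ⟨i, hi⟩
      apply hj
      rw [← hi, rep_rep]
    exact Nat.card_of_isEmpty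

end Final

section Transport3

variable {α : Type*} [Finite α] (H : Subgroup (Equiv.Perm α)) [MulAction.IsPreprimitive H α]
  (N : Subgroup H) [hNn : N.Normal] (a : α)
  {T₀ : Type*} [Group T₀] [Finite T₀] [IsSimpleGroup T₀] {m : ℕ} (e₀ : N ≃* (Fin m → T₀))

omit [Finite α] in
include hNn in
theorem transport (hN : N ≠ ⊥)
    (hmin : ∀ M : Subgroup H, M.Normal → M ≤ N → M = ⊥ ∨ M = N)
    (hT : ∃ a b : T₀, a * b ≠ b * a) :
    (∃ K : Fin m → Subgroup T₀, (∀ i, K i ≠ ⊤) ∧
      ∀ n : N, (n : H) ∈ stabilizer H a ↔ ∀ i, e₀ n i ∈ K i) ∨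
    (∃ (θ : Fin m → T₀ ≃* T₀) (k : ℕ) (c : Fin m → Fin m), 2 ≤ k ∧
      (∀ j, Nat.card {i // c i = j} = k ∨ Nat.card {i // c i = j} = 0) ∧
      ∀ n : N, (n : H) ∈ stabilizer H a ↔
        ∀ i j, c i = c j → θ i (e₀ n i) = θ j (e₀ n j)) := by
  have key := main_abstract hT (Gam H N a e₀)
    (fun M hMn hM => verify_H1 H N a e₀ hN hmin M hMn hM)
    (DD H N a e₀) (DD_inv H N a e₀) (DD_ne_top H N a e₀ hN)
    (fun X hDX hX => verify_H2 H N a e₀ hN X hDX hX)
  rcases key with ⟨K, hK, hx⟩ | ⟨θ, k, hk, hall, hx⟩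
  · left
    refine ⟨K, hK, ?_⟩
    intro n
    rw [← hx, mem_DD, mem_Na]
  · right
    refine ⟨θ, k, rep (DD H N a e₀), hk, card_fiber_rep _ k hall, ?_⟩
    intro n
    rw [← mem_Na, ← mem_DD H N a e₀, hx]
    constructor
    · intro h i j hij
      exact h i j (rel_iff_rep_eq.mpr hij)
    · intro h i j hij
      exact h i j (rel_iff_rep_eq.mp hij)

end Transport3

end Cfsg.Agent.Lib.Helper2.OS
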