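import Mathlib
import Cfsg.Agent.Lib.Helper2.OddSp1

set_option autoImplicit false

namespace Cfsg.Agent.Lib.Helper2

namespace OddSp

open Matrix Cfsg.Agent.Lib.Helper2.Symp

variable {F : Type*} [Field F] {m : ℕ}

/-- the matrix of an isometry -/
def mat (g : ↥(Cfsg.isometryGroup F (Cfsg.quadFormOdd m F))) :
    Matrix (Unit ⊕ (Fin m ⊕ Fin m)) (Unit ⊕ (Fin m ⊕ Fin m)) F :=
  ((g : Matrix.GeneralLinearGroup (Unit ⊕ (Fin m ⊕ Fin m)) F) :
    Matrix (Unit ⊕ (Fin m ⊕ Fin m)) (Unit ⊕ (Fin m ⊕ Fin m)) F)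

theorem mat_mul (g h : ↥(Cfsg.isometryGroup F (Cfsg.quadFormOdd m F))) :
    mat (g * h) = mat g * mat h := rfl

theorem mat_one : mat (1 : ↥(Cfsg.isometryGroup F (Cfsg.quadFormOdd m F))) = 1 := rfl

theorem mat_injective : Function.Injective (mat : ↥(Cfsg.isometryGroup F (Cfsg.quadFormOdd m F)) → _) := by
  intro g h hgh
  apply Subtype.ext
  apply Units.ext
  exact hgh

/-- the first row -/
def beta (g : ↥(Cfsg.isometryGroup F (Cfsg.quadFormOdd m F))) : Fin m ⊕ Fin m → F :=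
  fun j => mat g (Sum.inl ()) (Sum.inr j)

/-- the lower right block -/
def dmat (g : ↥(Cfsg.isometryGroup F (Cfsg.quadFormOdd m F))) :
    Matrix (Fin m ⊕ Fin m) (Fin m ⊕ Fin m) F :=
  (mat g).submatrix Sum.inr Sum.inr

theorem hd_g (h2 : (2 : F) = 0) (g : ↥(Cfsg.isometryGroup F (Cfsg.quadFormOdd m F)))
    (v : Unit ⊕ (Fin m ⊕ Fin m) → F) : hd (mat g *ᵥ v) = hd v + beta g ⬝ᵥ tl v := by
  rw [hd_mulVec]
  have := (first_col h2 g).2
  unfold mat
  rw [this, one_mul]
  rfl

theorem tl_g (h2 : (2 : F) = 0) (g : ↥(Cfsg.isometryGroup F (Cfsg.quadFormOdd m F)))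
    (v : Unit ⊕ (Fin m ⊕ Fin m) → F) : tl (mat g *ᵥ v) = dmat g *ᵥ tl v := by
  rw [tl_mulVec]
  have h0 : (fun i => mat g (Sum.inr i) (Sum.inl ())) = 0 := by
    funext i
    exact (first_col h2 g).1 i
  rw [h0, smul_zero, zero_add]
  rfl

theorem key (h2 : (2 : F) = 0) (g : ↥(Cfsg.isometryGroup F (Cfsg.quadFormOdd m F)))
    (z : Fin m ⊕ Fin m → F) :
    (beta g ⬝ᵥ z) ^ 2 + Cfsg.quadFormPlus m F (dmat g *ᵥ z) = Cfsg.quadFormPlus m F z := by
  have h1 : Cfsg.quadFormOdd m F (mat g *ᵥ mk 0 z) = Cfsg.quadFormOdd m F (mk 0 z) := iso_Q' g _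
  rw [odd_eq, odd_eq, hd_g h2, tl_g h2, hd_mk, tl_mk] at h1
  linear_combination h1

theorem dmat_symp (h2 : (2 : F) = 0) (g : ↥(Cfsg.isometryGroup F (Cfsg.quadFormOdd m F))) :
    dmat g ∈ Matrix.symplecticGroup (Fin m) F := by
  rw [Cfsg.Agent.Lib.Helper1.SpCard.mem_symplectic_iff_form]
  intro x y
  have h1 := key h2 g x
  have h3 := key h2 g y
  have h4 := key h2 g (x + y)
  rw [Matrix.mulVec_add, plus_add h2, plus_add h2, dotProduct_add] at h4
  linear_combination h4 - h1 - h3 - (beta g ⬝ᵥ x) * (beta g ⬝ᵥ y) * h2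

theorem dmat_mul (h2 : (2 : F) = 0) (g h : ↥(Cfsg.isometryGroup F (Cfsg.quadFormOdd m F))) :
    dmat (g * h) = dmat g * dmat h := by
  ext i j
  unfold dmat
  rw [mat_mul, Matrix.submatrix_apply, Matrix.mul_apply, Fintype.sum_sum_type, Matrix.mul_apply]
  have h0 : mat g (Sum.inr i) (Sum.inl ()) = 0 := (first_col h2 g).1 i
  simp only [Finset.univ_unique, Finset.sum_singleton, Matrix.submatrix_apply]
  have : (default : Unit) = () := rfl
  rw [this, h0, zero_mul, zero_add]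

/-- the homomorphism to the symplectic group -/
def toSp (h2 : (2 : F) = 0) :
    ↥(Cfsg.isometryGroup F (Cfsg.quadFormOdd m F)) →* Matrix.symplecticGroup (Fin m) F where
  toFun g := ⟨dmat g, dmat_symp h2 g⟩
  map_one' := by
    apply Subtype.ext
    show dmat 1 = 1
    unfold dmat
    rw [mat_one]
    ext i j
    simp [Matrix.one_apply]
  map_mul' g h := by
    apply Subtype.ext
    exact dmat_mul h2 g h

theorem sq_inj (h2 : (2 : F) = 0) {a b : F} (h : a ^ 2 = b ^ 2) : a = b := by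
  have h3 : (a - b) ^ 2 = 0 := by linear_combination h + (b ^ 2 - a * b) * h2
  exact sub_eq_zero.1 (pow_eq_zero_iff two_ne_zero |>.1 h3)

theorem toSp_injective (h2 : (2 : F) = 0) : Function.Injective (toSp (m := m) h2) := by
  intro g h hgh
  have hd : dmat g = dmat h := congrArg Subtype.val hgh
  have hb : beta g = beta h := by
    funext j
    have h1 := key h2 g (Pi.single j 1)
    have h3 := key h2 h (Pi.single j 1)
    rw [hd] at h1
    have h4 : (beta g ⬝ᵥ Pi.single j 1) ^ 2 = (beta h ⬝ᵥ Pi.single j 1) ^ 2 := by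
      linear_combination h1 - h3
    have h5 := sq_inj h2 h4
    rw [dotProduct_single_one, dotProduct_single_one] at h5
    exact h5
  apply mat_injective
  ext a b
  rcases a with u | i <;> rcases b with u' | j
  · exact ((first_col h2 g).2).trans ((first_col h2 h).2).symm
  · exact congrFun hb j
  · exact ((first_col h2 g).1 i).trans ((first_col h2 h).1 i).symm
  · have := congrFun (congrFun hd i) j
    exact this

end OddSp

end Cfsg.Agent.Lib.Helper2
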