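import Mathlib
import Cfsg.Agent.Lib.Helper2.OddSp2

set_option autoImplicit false

namespace Cfsg.Agent.Lib.Helper2

namespace OddSp

open Matrix Cfsg.Agent.Lib.Helper2.Symp

variable {F : Type*} [Field F] {m : ℕ}

/-- the defect of a symplectic matrix with respect to the plus form -/
def delta (D : Matrix (Fin m ⊕ Fin m) (Fin m ⊕ Fin m) F) (z : Fin m ⊕ Fin m → F) : F :=
  Cfsg.quadFormPlus m F z - Cfsg.quadFormPlus m F (D *ᵥ z)

theorem delta_add (h2 : (2 : F) = 0) (D : Matrix (Fin m ⊕ Fin m) (Fin m ⊕ Fin m) F)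
    (hD : D ∈ Matrix.symplecticGroup (Fin m) F) (z z' : Fin m ⊕ Fin m → F) :
    delta D (z + z') = delta D z + delta D z' := by
  unfold delta
  rw [Matrix.mulVec_add, plus_add h2, plus_add h2, sympForm_mulVec D hD]
  ring

theorem delta_single (D : Matrix (Fin m ⊕ Fin m) (Fin m ⊕ Fin m) F) (j : Fin m ⊕ Fin m) (c : F) :
    delta D (Pi.single j c) = c ^ 2 * delta D (Pi.single j 1) := by
  have h1 : (Pi.single j c : Fin m ⊕ Fin m → F) = c • Pi.single j 1 := by
    funext i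
    simp [Pi.single_apply]
  unfold delta
  rw [h1, Matrix.mulVec_smul, plus_smul, plus_smul]
  ring

theorem delta_zero (D : Matrix (Fin m ⊕ Fin m) (Fin m ⊕ Fin m) F) : delta D 0 = 0 := by
  unfold delta
  rw [Matrix.mulVec_zero, plus_zero, sub_zero]

theorem delta_eq_sq (h2 : (2 : F) = 0) (D : Matrix (Fin m ⊕ Fin m) (Fin m ⊕ Fin m) F)
    (hD : D ∈ Matrix.symplecticGroup (Fin m) F) (β : Fin m ⊕ Fin m → F)
    (hβ : ∀ j, β j * β j = delta D (Pi.single j 1)) (z : Fin m ⊕ Fin m → F) :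
    delta D z = (β ⬝ᵥ z) ^ 2 := by
  classical
  have hind : ∀ s : Finset (Fin m ⊕ Fin m),
      delta D (∑ j ∈ s, Pi.single j (z j)) = (∑ j ∈ s, β j * z j) ^ 2 := by
    intro s
    induction s using Finset.induction_on with
    | empty =>
      rw [Finset.sum_empty, Finset.sum_empty, delta_zero]
      ring
    | insert a s ha ih =>
      rw [Finset.sum_insert ha, Finset.sum_insert ha, delta_add h2 D hD, ih, delta_single, ← hβ]
      linear_combination (-(β a * z a * ∑ j ∈ s, β j * z j)) * h2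
  have h1 := hind Finset.univ
  rw [Finset.univ_sum_single] at h1
  rw [h1]
  rfl

/-- the lift of a symplectic matrix -/
def liftMat (β : Fin m ⊕ Fin m → F) (D : Matrix (Fin m ⊕ Fin m) (Fin m ⊕ Fin m) F) :
    Matrix (Unit ⊕ (Fin m ⊕ Fin m)) (Unit ⊕ (Fin m ⊕ Fin m)) F :=
  Matrix.fromBlocks 1 (Matrix.replicateRow Unit β) 0 D

theorem hd_liftMat (β : Fin m ⊕ Fin m → F) (D : Matrix (Fin m ⊕ Fin m) (Fin m ⊕ Fin m) F)
    (v : Unit ⊕ (Fin m ⊕ Fin m) → F) : hd (liftMat β D *ᵥ v) = hd v + β ⬝ᵥ tl v := by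
  rw [hd_mulVec]
  unfold liftMat
  simp only [Matrix.fromBlocks_apply₁₁, Matrix.fromBlocks_apply₁₂, Matrix.one_apply_eq, one_mul,
    Matrix.replicateRow_apply]

theorem tl_liftMat (β : Fin m ⊕ Fin m → F) (D : Matrix (Fin m ⊕ Fin m) (Fin m ⊕ Fin m) F)
    (v : Unit ⊕ (Fin m ⊕ Fin m) → F) : tl (liftMat β D *ᵥ v) = D *ᵥ tl v := by
  rw [tl_mulVec]
  unfold liftMat
  have h0 : (fun i => (Matrix.fromBlocks (1 : Matrix Unit Unit F) (Matrix.replicateRow Unit β) 0 D)
      (Sum.inr i) (Sum.inl ())) = 0 := by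
    funext i
    simp
  rw [h0, smul_zero, zero_add]
  congr 1

theorem liftMat_preserves (h2 : (2 : F) = 0) (D : Matrix (Fin m ⊕ Fin m) (Fin m ⊕ Fin m) F)
    (hD : D ∈ Matrix.symplecticGroup (Fin m) F) (β : Fin m ⊕ Fin m → F)
    (hβ : ∀ j, β j * β j = delta D (Pi.single j 1)) (v : Unit ⊕ (Fin m ⊕ Fin m) → F) :
    Cfsg.quadFormOdd m F (liftMat β D *ᵥ v) = Cfsg.quadFormOdd m F v := by
  rw [odd_eq, odd_eq, hd_liftMat, tl_liftMat]
  have h1 := delta_eq_sq h2 D hD β hβ (tl v)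
  unfold delta at h1
  linear_combination (hd v * (β ⬝ᵥ tl v)) * h2 - h1

theorem det_liftMat (β : Fin m ⊕ Fin m → F) (D : Matrix (Fin m ⊕ Fin m) (Fin m ⊕ Fin m) F) :
    (liftMat β D).det = D.det := by
  unfold liftMat
  rw [Matrix.det_fromBlocks_zero₂₁, Matrix.det_one, one_mul]

theorem toSp_surjective (h2 : (2 : F) = 0) (hsq : ∀ a : F, IsSquare a) :
    Function.Surjective (toSp (m := m) h2) := by
  intro A
  obtain ⟨D, hD⟩ := A
  choose β hβ using fun j : Fin m ⊕ Fin m => hsq (delta D (Pi.single j 1))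
  have hdet : (liftMat β D).det ≠ 0 := by
    rw [det_liftMat]
    exact (SymplecticGroup.symplectic_det hD).ne_zero
  refine ⟨⟨Matrix.GeneralLinearGroup.mkOfDetNeZero (liftMat β D) hdet,
    fun u _ => liftMat_preserves h2 D hD β (fun j => (hβ j).symm) u⟩, ?_⟩
  apply Subtype.ext
  show dmat _ = D
  unfold dmat mat
  ext i j
  show liftMat β D (Sum.inr i) (Sum.inr j) = D i j
  unfold liftMat
  rw [Matrix.fromBlocks_apply₂₂]

/-- the isomorphism -/
noncomputable def equivSp (h2 : (2 : F) = 0) (hsq : ∀ a : F, IsSquare a) :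
    ↥(Cfsg.isometryGroup F (Cfsg.quadFormOdd m F)) ≃* Matrix.symplecticGroup (Fin m) F :=
  MulEquiv.ofBijective (toSp h2) ⟨toSp_injective h2, toSp_surjective h2 hsq⟩

end OddSp

end Cfsg.Agent.Lib.Helper2
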