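import Mathlib

set_option autoImplicit false

/-!
# PK-SQ of the `S4629`–`S4631` swarm: square classes of the discriminants
-/

namespace Cfsg.Agent.Lib.Helper5.OmSyl

theorem isSquare_neg_one_pow_iff {F : Type*} [Field F] [Fintype F] (hF : Odd (Fintype.card F))
    (m : ℕ) : IsSquare ((-1 : F) ^ m) ↔ (Even m ∨ Fintype.card F % 4 = 1) := by
  have hodd4 : Fintype.card F % 4 = 1 ∨ Fintype.card F % 4 = 3 := by
    rw [Nat.odd_iff] at hF
    omega
  rcases Nat.even_or_odd m with hm | hm
  · rw [hm.neg_one_pow]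
    exact ⟨fun _ => Or.inl hm, fun _ => ⟨1, (mul_one 1).symm⟩⟩
  · rw [hm.neg_one_pow, FiniteField.isSquare_neg_one_iff]
    constructor
    · intro h
      right
      rcases hodd4 with h4 | h4
      · exact h4
      · exact absurd h4 h
    · rintro (h | h)
      · exact absurd h (Nat.not_even_iff_odd.2 hm)
      · rw [h]
        decide

theorem isSquare_neg_one_pow_mul_iff {F : Type*} [Field F] [Fintype F]
    (hF : Odd (Fintype.card F)) (m : ℕ) (d : F) (hd : ¬ IsSquare (-d)) :
    IsSquare ((-1 : F) ^ m * d) ↔ (Even m ∧ Fintype.card F % 4 = 3) := by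
  classical
  have hodd4 : Fintype.card F % 4 = 1 ∨ Fintype.card F % 4 = 3 := by
    rw [Nat.odd_iff] at hF
    omega
  have hchar : ringChar F ≠ 2 := by
    intro h
    have := FiniteField.even_card_of_char_two h
    rw [Nat.odd_iff] at hF
    omega
  have hd0 : -d ≠ 0 := by
    intro h
    exact hd ⟨0, by rw [h, mul_zero]⟩
  have hne : ((-1 : F) ^ (m + 1)) ≠ 0 := pow_ne_zero _ (neg_ne_zero.2 one_ne_zero)
  have e : (-1 : F) ^ m * d = (-1 : F) ^ (m + 1) * (-d) := by
    rw [pow_succ]
    ring
  have hchi : quadraticChar F (-d) = -1 := quadraticChar_neg_one_iff_not_isSquare.2 hd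
  have key : IsSquare ((-1 : F) ^ m * d) ↔ ¬ IsSquare ((-1 : F) ^ (m + 1)) := by
    rw [e, ← quadraticChar_one_iff_isSquare (mul_ne_zero hne hd0), map_mul, hchi,
      ← quadraticChar_neg_one_iff_not_isSquare]
    rcases quadraticChar_dichotomy hne with h | h
    · rw [h]
      decide
    · rw [h]
      decide
  rw [key, isSquare_neg_one_pow_iff hF (m + 1)]
  constructor
  · intro h
    have h1 : ¬ Even (m + 1) := fun h' => h (Or.inl h')
    have h2 : ¬ Fintype.card F % 4 = 1 := fun h' => h (Or.inr h')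
    refine ⟨?_, ?_⟩
    · rw [Nat.even_add_one] at h1
      exact not_not.1 h1
    · rcases hodd4 with h4 | h4
      · exact absurd h4 h2
      · exact h4
  · rintro ⟨h1, h2⟩ (h | h)
    · rw [Nat.even_add_one] at h
      exact h h1
    · rw [h2] at h
      exact absurd h (by decide)

end Cfsg.Agent.Lib.Helper5.OmSyl
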