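import Mathlib

set_option autoImplicit false

/-!
General lemmas used for groups of order 320 with an extraspecial radical: an involution acting on an
elementary abelian 2-group, trivially intersecting subgroups, cardinality of preimages, and groups of order 10.
-/

namespace Cfsg.Agent.Lib.Helper2.Ord320

section invol

variable {Γ : Type*} [Group Γ]

/-- the commutator map `a ↦ a * (t * a⁻¹ * t⁻¹)` on an abelian subgroup normalized by `t` -/
def commHom (A : Subgroup Γ) (hab : ∀ a ∈ A, ∀ b ∈ A, a * b = b * a) (t : Γ)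
    (hn : ∀ a ∈ A, t * a * t⁻¹ ∈ A) : ↥A →* ↥A :=
  MonoidHom.mk' (fun a => ⟨(a : Γ) * (t * (a : Γ)⁻¹ * t⁻¹), A.mul_mem a.2 (hn _ (A.inv_mem a.2))⟩)
    (by
      intro a b
      apply Subtype.ext
      have h1 : t * ((a : Γ) * (b : Γ))⁻¹ * t⁻¹ = (t * (b : Γ)⁻¹ * t⁻¹) * (t * (a : Γ)⁻¹ * t⁻¹) := by
        group
      have ha' := hn _ (A.inv_mem a.2)
      have hb' := hn _ (A.inv_mem b.2)
      simp only [Subgroup.coe_mul]
      rw [h1]
      have e1 : (b : Γ) * (t * (b : Γ)⁻¹ * t⁻¹ * (t * (a : Γ)⁻¹ * t⁻¹)) =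
          (t * (a : Γ)⁻¹ * t⁻¹) * ((b : Γ) * (t * (b : Γ)⁻¹ * t⁻¹)) := by
        rw [hab _ hb' _ ha', ← mul_assoc, hab _ b.2 _ ha', mul_assoc]
      calc (a : Γ) * (b : Γ) * (t * (b : Γ)⁻¹ * t⁻¹ * (t * (a : Γ)⁻¹ * t⁻¹))
          = (a : Γ) * ((b : Γ) * (t * (b : Γ)⁻¹ * t⁻¹ * (t * (a : Γ)⁻¹ * t⁻¹))) := by
            rw [mul_assoc]
        _ = (a : Γ) * ((t * (a : Γ)⁻¹ * t⁻¹) * ((b : Γ) * (t * (b : Γ)⁻¹ * t⁻¹))) := by rw [e1]
        _ = _ := (mul_assoc _ _ _).symm)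

theorem commHom_apply (A : Subgroup Γ) (hab : ∀ a ∈ A, ∀ b ∈ A, a * b = b * a) (t : Γ)
    (hn : ∀ a ∈ A, t * a * t⁻¹ ∈ A) (a : A) :
    ((commHom A hab t hn a : A) : Γ) = (a : Γ) * (t * (a : Γ)⁻¹ * t⁻¹) := rfl

theorem invol_card (A : Subgroup Γ) [Finite A]
    (hab : ∀ a ∈ A, ∀ b ∈ A, a * b = b * a) (hexp : ∀ a ∈ A, a * a = 1)
    (t : Γ) (ht : t * t = 1) (hn : ∀ a ∈ A, t * a * t⁻¹ ∈ A) :
    Nat.card A ≤ Nat.card ↥(A ⊓ Subgroup.centralizer {t}) ^ 2 ∧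
    (Nat.card A = Nat.card ↥(A ⊓ Subgroup.centralizer {t}) ^ 2 →
      ∀ c ∈ A ⊓ Subgroup.centralizer {t}, ∃ a ∈ A, c = a * (t * a⁻¹ * t⁻¹)) := by
  classical
  haveI : Finite ↥(A ⊓ Subgroup.centralizer {t}) :=
    Finite.of_injective (Subgroup.inclusion inf_le_left) (Subgroup.inclusion_injective _)
  set Ψ := commHom A hab t hn with hΨ
  set C' : Subgroup A := (A ⊓ Subgroup.centralizer {t}).subgroupOf A with hC'
  have hcardC : Nat.card C' = Nat.card ↥(A ⊓ Subgroup.centralizer {t}) :=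
    Nat.card_congr (Subgroup.subgroupOfEquivOfLe inf_le_left).toEquiv
  have htinv : t⁻¹ = t := inv_eq_of_mul_eq_one_right ht
  have hker : Ψ.ker = C' := by
    ext a
    rw [MonoidHom.mem_ker, hC', Subgroup.mem_subgroupOf, Subgroup.mem_inf,
      Subgroup.mem_centralizer_iff]
    constructor
    · intro h
      refine ⟨a.2, ?_⟩
      intro y hy
      rw [Set.mem_singleton_iff] at hy
      subst hy
      have h1 : (a : Γ) * (y * (a : Γ)⁻¹ * y⁻¹) = 1 := by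
        have := congrArg Subtype.val h
        rwa [commHom_apply] at this
      have h2 : y * (a : Γ)⁻¹ * y⁻¹ = (a : Γ)⁻¹ := by
        rw [← mul_right_inj (a : Γ), h1, mul_inv_cancel]
      have h3 : Commute y (a : Γ)⁻¹ := mul_inv_eq_iff_eq_mul.1 h2
      exact (Commute.inv_right_iff.1 h3).eq
    · rintro ⟨-, h⟩
      apply Subtype.ext
      rw [commHom_apply]
      have h1 := h t rfl
      have h2 : Commute t (a : Γ) := h1
      have : t * (a : Γ)⁻¹ * t⁻¹ = (a : Γ)⁻¹ :=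
        mul_inv_eq_iff_eq_mul.2 (Commute.inv_right_iff.2 h2).eq
      rw [this, mul_inv_cancel]; rfl
  have hrange : Ψ.range ≤ C' := by
    rintro _ ⟨a, rfl⟩
    rw [hC', Subgroup.mem_subgroupOf, Subgroup.mem_inf, Subgroup.mem_centralizer_iff]
    refine ⟨(Ψ a).2, ?_⟩
    intro y hy
    rw [Set.mem_singleton_iff] at hy
    subst hy
    rw [commHom_apply]
    -- y * (a * (y a⁻¹ y⁻¹)) = (a (y a⁻¹ y⁻¹)) * y
    have ha' := hn _ (A.inv_mem a.2)
    have hsq : ((a : Γ) * (y * (a : Γ)⁻¹ * y⁻¹)) * ((a : Γ) * (y * (a : Γ)⁻¹ * y⁻¹)) = 1 :=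
      hexp _ (A.mul_mem a.2 ha')
    have hinv : ((a : Γ) * (y * (a : Γ)⁻¹ * y⁻¹))⁻¹ = (a : Γ) * (y * (a : Γ)⁻¹ * y⁻¹) :=
      inv_eq_of_mul_eq_one_right hsq
    have hconj : y * ((a : Γ) * (y * (a : Γ)⁻¹ * y⁻¹)) * y⁻¹ =
        ((a : Γ) * (y * (a : Γ)⁻¹ * y⁻¹))⁻¹ := by
      have e1 : y * ((a : Γ) * (y * (a : Γ)⁻¹ * y⁻¹)) * y⁻¹ =
          (y * (a : Γ) * y⁻¹) * ((y * y) * (a : Γ)⁻¹ * (y * y)⁻¹) := by group
      rw [e1, ht]
      group
    rw [hinv] at hconj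
    calc y * ((a : Γ) * (y * (a : Γ)⁻¹ * y⁻¹))
        = (y * ((a : Γ) * (y * (a : Γ)⁻¹ * y⁻¹)) * y⁻¹) * y := by group
      _ = _ := by rw [hconj]
  have hcard : Nat.card A = Nat.card Ψ.ker * Nat.card Ψ.range := by
    rw [← Subgroup.index_ker, Subgroup.card_mul_index]
  have hle : Nat.card Ψ.range ≤ Nat.card C' := Subgroup.card_le_of_le hrange
  constructor
  · rw [hcard, hker, hcardC, pow_two] at *
    exact Nat.mul_le_mul_left _ (hcardC ▸ hle)
  · intro heq c hc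
    have h1 : Nat.card Ψ.range = Nat.card C' := by
      rw [hcard, hker, hcardC, pow_two] at heq
      have hpos : 0 < Nat.card ↥(A ⊓ Subgroup.centralizer {t}) := Nat.card_pos
      rw [hcardC]
      exact Nat.eq_of_mul_eq_mul_left hpos heq
    have h2 : Ψ.range = C' := Subgroup.eq_of_le_of_card_ge hrange h1.ge
    have hcC : (⟨c, hc.1⟩ : A) ∈ C' := by
      rw [hC', Subgroup.mem_subgroupOf]; exact hc
    rw [← h2] at hcC
    obtain ⟨a, ha⟩ := hcC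
    refine ⟨a, a.2, ?_⟩
    have := congrArg Subtype.val ha
    rw [commHom_apply] at this
    exact this.symm

end invol

end Cfsg.Agent.Lib.Helper2.Ord320
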