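import Mathlib

set_option autoImplicit false

namespace Cfsg.Agent.Lib.Helper2.Ord320

section prodbound

variable {Γ : Type*} [Group Γ]

/-- two subgroups of `A` meeting trivially have product of orders at most `|A|` -/
theorem card_mul_le_of_inf_eq_bot (A C D : Subgroup Γ) [Finite A] (hC : C ≤ A) (hD : D ≤ A)
    (h : C ⊓ D = ⊥) : Nat.card C * Nat.card D ≤ Nat.card A := by
  rw [← Nat.card_prod]
  apply Nat.card_le_card_of_injective (fun x : C × D => (⟨(x.1 : Γ) * (x.2 : Γ),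
    A.mul_mem (hC x.1.2) (hD x.2.2)⟩ : A))
  rintro ⟨c1, d1⟩ ⟨c2, d2⟩ heq
  have h1 : (c1 : Γ) * (d1 : Γ) = (c2 : Γ) * (d2 : Γ) := congrArg Subtype.val heq
  have h2 : (c2 : Γ)⁻¹ * (c1 : Γ) = (d2 : Γ) * (d1 : Γ)⁻¹ := by
    have : (c2 : Γ)⁻¹ * ((c1 : Γ) * (d1 : Γ)) * (d1 : Γ)⁻¹ =
        (c2 : Γ)⁻¹ * ((c2 : Γ) * (d2 : Γ)) * (d1 : Γ)⁻¹ := by rw [h1]
    have e1 : (c2 : Γ)⁻¹ * ((c1 : Γ) * (d1 : Γ)) * (d1 : Γ)⁻¹ = (c2 : Γ)⁻¹ * (c1 : Γ) := by group
    have e2 : (c2 : Γ)⁻¹ * ((c2 : Γ) * (d2 : Γ)) * (d1 : Γ)⁻¹ = (d2 : Γ) * (d1 : Γ)⁻¹ := by group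
    rw [← e1, ← e2, this]
  have h3 : (c2 : Γ)⁻¹ * (c1 : Γ) ∈ C ⊓ D := by
    refine Subgroup.mem_inf.2 ⟨C.mul_mem (C.inv_mem c2.2) c1.2, ?_⟩
    rw [h2]
    exact D.mul_mem d2.2 (D.inv_mem d1.2)
  rw [h, Subgroup.mem_bot] at h3
  have h4 : (c1 : Γ) = c2 := by
    have := inv_mul_eq_one.1 h3
    exact this.symm
  have h5 : (d1 : Γ) = d2 := by
    rw [h4] at h1
    exact mul_left_cancel h1
  exact Prod.ext (Subtype.ext h4) (Subtype.ext h5)

end prodbound

section comap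

variable {G : Type*} [Group G] [Finite G]

theorem card_comap_mk' (N : Subgroup G) [N.Normal] (X : Subgroup (G ⧸ N)) :
    Nat.card (X.comap (QuotientGroup.mk' N)) = Nat.card N * Nat.card X := by
  have h1 : (X.comap (QuotientGroup.mk' N)).index = X.index :=
    Subgroup.index_comap_of_surjective X (QuotientGroup.mk'_surjective N)
  have h2 := Subgroup.card_mul_index (X.comap (QuotientGroup.mk' N))
  have h3 := Subgroup.card_mul_index X
  have h4 := Subgroup.card_eq_card_quotient_mul_card_subgroup N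
  have hpos : 0 < X.index := Nat.pos_of_ne_zero Subgroup.index_ne_zero_of_finite
  rw [h1] at h2
  apply Nat.eq_of_mul_eq_mul_right hpos
  rw [h2, h4, ← h3]
  ring

end comap

section ten

variable {Q : Type*} [Group Q]

/-- in a group of order 10, an involution and an element of order 5 either commute or their
commutator has order 5 -/
theorem order_ten (hQ : Nat.card Q = 10) (t φ : Q) (ht : t * t = 1) (hφ : orderOf φ = 5) :
    Commute t φ ∨ orderOf (t * φ⁻¹ * t * φ) = 5 := by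
  haveI : Finite Q := Nat.finite_of_card_ne_zero (by rw [hQ]; norm_num)
  have htinv : t⁻¹ = t := inv_eq_of_mul_eq_one_right ht
  have hcard : Nat.card (Subgroup.zpowers φ) = 5 := by rw [Nat.card_zpowers, hφ]
  have hidx : (Subgroup.zpowers φ).index = 2 := by
    have := Subgroup.card_mul_index (Subgroup.zpowers φ)
    rw [hcard, hQ] at this
    omega
  haveI : (Subgroup.zpowers φ).Normal := Subgroup.normal_of_index_eq_two hidx
  have h1 : t * φ⁻¹ * t⁻¹ ∈ Subgroup.zpowers φ :=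
    Subgroup.Normal.conj_mem inferInstance _ (Subgroup.inv_mem _ (Subgroup.mem_zpowers φ)) t
  rw [htinv] at h1
  have h2 : t * φ⁻¹ * t * φ ∈ Subgroup.zpowers φ :=
    Subgroup.mul_mem _ h1 (Subgroup.mem_zpowers φ)
  by_cases h3 : t * φ⁻¹ * t * φ = 1
  · left
    have h4 : t * φ⁻¹ * t = φ⁻¹ := mul_eq_one_iff_eq_inv.1 h3
    have h5 : Commute t φ⁻¹ := by
      show t * φ⁻¹ = φ⁻¹ * t
      calc t * φ⁻¹ = (t * φ⁻¹ * t) * t := by rw [mul_assoc (t * φ⁻¹), ht, mul_one]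
        _ = φ⁻¹ * t := by rw [h4]
    exact Commute.inv_right_iff.1 h5
  · right
    have h4 : (t * φ⁻¹ * t * φ) ^ 5 = 1 := by
      have := pow_card_eq_one' (G := Subgroup.zpowers φ) (x := ⟨_, h2⟩)
      rw [hcard] at this
      exact congrArg Subtype.val this
    have h5 := orderOf_dvd_of_pow_eq_one h4
    rcases (Nat.dvd_prime (by norm_num : Nat.Prime 5)).1 h5 with h6 | h6
    · exact absurd (orderOf_eq_one_iff.1 h6) h3
    · exact h6

end ten

end Cfsg.Agent.Lib.Helper2.Ord320
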