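import Mathlib
import Cfsg.Agent.Lib.Helper4.HH10

set_option autoImplicit false

namespace Cfsg.Agent.Lib.Helper2.Ord320

/-- A group of order 320 whose subgroup `H` of order 32 behaves like an extraspecial radical of minus
type with central involution `z`. -/
structure Setup (G : Type*) [Group G] (H : Subgroup G) (z : G) : Prop where
  normal : H.Normal
  cardG : Nat.card G = 320
  cardH : Nat.card H = 32
  z_mem : z ∈ H
  z_ne : z ≠ 1
  z_sq : z * z = 1
  z_central : ∀ g : G, g * z = z * g
  comm : ∀ h ∈ H, ∀ k ∈ H, h * k * h⁻¹ * k⁻¹ = 1 ∨ h * k * h⁻¹ * k⁻¹ = z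
  sq : ∀ h ∈ H, h * h = 1 ∨ h * h = z
  minus : ∀ A : Subgroup G, A ≤ H → (∀ a ∈ A, ∀ b ∈ A, a * b = b * a) → (∀ a ∈ A, a * a = 1) →
    Nat.card A ≤ 4
  cent : ∀ g : G, (∀ h ∈ H, g * h = h * g) → g ∈ H
  maxl : ∀ N : Subgroup G, N.Normal → IsPGroup 2 N → N ≤ H

variable {G : Type*} [Group G] {H : Subgroup G} {z : G}

theorem Setup.finite (S : Setup G H z) : Finite G :=
  Nat.finite_of_card_ne_zero (by rw [S.cardG]; norm_num)

theorem conj_pow_of_central (e h w : G) (hw : ∀ g : G, g * w = w * g) (h1 : e * h * e⁻¹ = w * h)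
    (n : ℕ) : e ^ n * h * (e ^ n)⁻¹ = w ^ n * h := by
  induction n with
  | zero => simp
  | succ n ih =>
    have : e ^ (n + 1) * h * (e ^ (n + 1))⁻¹ = e * (e ^ n * h * (e ^ n)⁻¹) * e⁻¹ := by
      rw [pow_succ']; group
    rw [this, ih]
    have hwn : e * w ^ n = w ^ n * e := by
      induction n with
      | zero => simp
      | succ m _ =>
        have hc : Commute e w := hw e
        exact (hc.pow_right (m + 1)).eq
    calc e * (w ^ n * h) * e⁻¹ = (e * w ^ n) * h * e⁻¹ := by group
      _ = w ^ n * (e * h * e⁻¹) := by rw [hwn]; group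
      _ = w ^ (n + 1) * h := by rw [h1, pow_succ]; group

/-- elements of order 5 act fixed-point-freely on `H / ⟨z⟩` -/
theorem Setup.fpf (S : Setup G H z) (e : G) (he : orderOf e = 5) (h : G) (hh : h ∈ H)
    (hc : h * e * h⁻¹ * e⁻¹ = 1 ∨ h * e * h⁻¹ * e⁻¹ = z) : h = 1 ∨ h = z := by
  haveI := S.finite
  haveI := S.normal
  have he5 : e ^ 5 = 1 := by rw [← he]; exact pow_orderOf_eq_one e
  set E : Subgroup G := H ⊓ Subgroup.centralizer ((Subgroup.zpowers e : Subgroup G) : Set G) with hE
  have hmod := Cfsg.Agent.Lib.Helper4.HH.card_modEq_fixed H e 5 (by norm_num) he5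
    (fun f _ m hm => S.normal.conj_mem m hm f)
  rw [S.cardH] at hmod
  have hdvd : Nat.card E ∣ 32 := by
    rw [← S.cardH]; exact Subgroup.card_dvd_of_le inf_le_left
  have hcases : Nat.card E = 2 ∨ Nat.card E = 32 := by
    obtain ⟨k, hk, hk2⟩ := (Nat.dvd_prime_pow Nat.prime_two (m := 5)).1 (by simpa using hdvd)
    have hmod' : 32 % 5 = Nat.card E % 5 := hmod
    rw [hk2] at hmod' ⊢
    interval_cases k <;> simp_all
  -- the value of the commutator is trivial
  have hz1 : h * e * h⁻¹ * e⁻¹ = 1 := by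
    rcases hc with hc | hc
    · exact hc
    · exfalso
      have h1 : e * h * e⁻¹ = z * h := by
        have e1 : e * h * e⁻¹ = (h * e * h⁻¹ * e⁻¹)⁻¹ * h := by group
        rw [e1, hc]
        have : z⁻¹ = z := inv_eq_of_mul_eq_one_right S.z_sq
        rw [this]
      have h2 := conj_pow_of_central e h z S.z_central h1 5
      rw [he5] at h2
      simp only [one_mul, inv_one, mul_one] at h2
      have h3 : z ^ 5 = 1 := by
        have := mul_eq_right.mp h2.symm
        exact this
      have h4 : z ^ 5 = z := by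
        have : z ^ 5 = (z * z) * (z * z) * z := by
          simp only [pow_succ, pow_zero, one_mul, mul_assoc]
        rw [this, S.z_sq]; simp
      exact S.z_ne (h4 ▸ h3)
  have hcomm : h * e = e * h := by
    have : h * e * h⁻¹ = e := by
      have := mul_inv_eq_one.1 hz1
      exact this
    exact mul_inv_eq_iff_eq_mul.1 this
  have hhE : h ∈ E := by
    refine Subgroup.mem_inf.2 ⟨hh, ?_⟩
    rw [Subgroup.mem_centralizer_iff]
    intro y hy
    obtain ⟨i, rfl⟩ := Subgroup.mem_zpowers_iff.1 hy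
    have hc' : Commute e h := hcomm.symm
    exact (hc'.zpow_left i).eq
  have hzE : z ∈ E := by
    refine Subgroup.mem_inf.2 ⟨S.z_mem, ?_⟩
    rw [Subgroup.mem_centralizer_iff]
    intro y _
    exact S.z_central y
  rcases hcases with h2 | h32
  · obtain ⟨y, hy1, hy2⟩ := (Nat.card_eq_two_iff' (1 : E)).1 h2
    by_cases h1 : h = 1
    · exact Or.inl h1
    · right
      have e1 : (⟨h, hhE⟩ : E) = y := hy2 _ (fun hh1 => h1 (congrArg Subtype.val hh1))
      have e2 : (⟨z, hzE⟩ : E) = y := hy2 _ (fun hh1 => S.z_ne (congrArg Subtype.val hh1))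
      exact congrArg Subtype.val (e1.trans e2.symm)
  · exfalso
    have hEH : E = H := by
      apply Subgroup.eq_of_le_of_card_ge inf_le_left
      rw [h32, S.cardH]
    have heH : e ∈ H := by
      apply S.cent
      intro k hk
      have : k ∈ E := hEH ▸ hk
      have hk2 := (Subgroup.mem_inf.1 this).2
      rw [Subgroup.mem_centralizer_iff] at hk2
      exact hk2 e (Subgroup.mem_zpowers e)
    have := Subgroup.orderOf_dvd_natCard H heH
    rw [he, S.cardH] at this
    omega

end Cfsg.Agent.Lib.Helper2.Ord320
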