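import Mathlib
import Cfsg.Agent.Lib.Helper2.Ord320a
import Cfsg.Agent.Lib.Helper2.Ord320b
import Cfsg.Agent.Lib.Helper2.Ord320c

set_option autoImplicit false

namespace Cfsg.Agent.Lib.Helper2.Ord320

variable {G : Type*} [Group G] {H : Subgroup G} {z : G}

/-- the central subgroup generated by `z` -/
def Zs (z : G) : Subgroup G := Subgroup.zpowers z

theorem Setup.orderOf_z (S : Setup G H z) : orderOf z = 2 := by
  haveI : Fact (Nat.Prime 2) := ⟨Nat.prime_two⟩
  exact orderOf_eq_prime (by rw [pow_two]; exact S.z_sq) S.z_ne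

theorem Setup.mem_Zs (S : Setup G H z) (x : G) : x ∈ Zs z ↔ x = 1 ∨ x = z := by
  constructor
  · intro hx
    obtain ⟨i, rfl⟩ := Subgroup.mem_zpowers_iff.1 hx
    rw [← zpow_mod_orderOf, S.orderOf_z]
    have h2 : ((2 : ℕ) : ℤ) = 2 := rfl
    rw [h2]
    rcases Int.emod_two_eq_zero_or_one i with h | h
    · left; rw [h]; simp
    · right; rw [h]; simp
  · rintro (rfl | rfl)
    · exact Subgroup.one_mem _
    · exact Subgroup.mem_zpowers _

theorem Setup.Zs_normal (S : Setup G H z) : (Zs z).Normal := by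
  constructor
  intro x hx g
  rcases (S.mem_Zs x).1 hx with rfl | rfl
  · simp
  · rw [S.z_central g]; simp [Zs]

theorem Setup.card_Zs (S : Setup G H z) : Nat.card (Zs z) = 2 := by
  rw [Zs, Nat.card_zpowers, S.orderOf_z]

theorem Setup.Zs_le (S : Setup G H z) : Zs z ≤ H := by
  rw [Zs, Subgroup.zpowers_le]; exact S.z_mem

end Cfsg.Agent.Lib.Helper2.Ord320
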