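import Mathlib
import Cfsg.Agent.Lib.Helper2.Ord320d

set_option autoImplicit false

namespace Cfsg.Agent.Lib.Helper2.Ord320

variable {G : Type*} [Group G] {H : Subgroup G} {z : G}

section quot

variable (S : Setup G H z)

/-- existence of an element of order 5 acting nontrivially together with `T` -/
theorem Setup.exists_five (S : Setup G H z) (T : G) (hT : T * T = 1) (hTH : T ∉ H) :
    ∃ f c : G, orderOf c = 5 ∧ ∃ n : ℕ, c = (T * f⁻¹ * T * f) ^ n := by
  haveI := S.finite
  haveI := S.normal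
  haveI : Fact (Nat.Prime 5) := ⟨by norm_num⟩
  haveI : Fact (Nat.Prime 2) := ⟨Nat.prime_two⟩
  obtain ⟨f, hf⟩ := exists_prime_orderOf_dvd_card' (G := G) 5 (by rw [S.cardG]; norm_num)
  have hfH : f ∉ H := by
    intro h
    have := Subgroup.orderOf_dvd_natCard H h
    rw [hf, S.cardH] at this
    omega
  have hQ : Nat.card (G ⧸ H) = 10 := by
    have := Subgroup.card_eq_card_quotient_mul_card_subgroup H
    rw [S.cardG, S.cardH] at this
    omega
  set ρ := QuotientGroup.mk' H with hρ
  have ht0 : ρ T * ρ T = 1 := by rw [← map_mul, hT, map_one]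
  have ht1 : ρ T ≠ 1 := by
    intro h
    exact hTH ((QuotientGroup.eq_one_iff T).1 h)
  have hφ1 : ρ f ≠ 1 := by
    intro h
    exact hfH ((QuotientGroup.eq_one_iff f).1 h)
  have hφ5 : orderOf (ρ f) = 5 := by
    apply orderOf_eq_prime _ hφ1
    rw [← map_pow, ← hf, pow_orderOf_eq_one, map_one]
  rcases order_ten hQ (ρ T) (ρ f) ht0 hφ5 with hcomm | h5
  · exfalso
    have ht2 : orderOf (ρ T) = 2 := orderOf_eq_prime (by rw [pow_two]; exact ht0) ht1
    have h10 : orderOf (ρ T * ρ f) = 10 := by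
      rw [hcomm.orderOf_mul_eq_mul_orderOf_of_coprime (by rw [ht2, hφ5]; norm_num), ht2, hφ5]
    haveI : IsCyclic (G ⧸ H) := isCyclic_of_orderOf_eq_card (ρ T * ρ f) (by rw [h10, hQ])
    have hcommQ : ∀ a b : G ⧸ H, a * b = b * a := by
      obtain ⟨g, hg⟩ := IsCyclic.exists_generator (α := G ⧸ H)
      intro a b
      obtain ⟨i, rfl⟩ := Subgroup.mem_zpowers_iff.1 (hg a)
      obtain ⟨j, rfl⟩ := Subgroup.mem_zpowers_iff.1 (hg b)
      rw [← zpow_add, ← zpow_add, add_comm]
    haveI hN0 : (Subgroup.zpowers (ρ T)).Normal := by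
      constructor
      intro x hx q
      rw [hcommQ q x, mul_assoc, mul_inv_cancel, mul_one]
      exact hx
    set N := (Subgroup.zpowers (ρ T)).comap ρ with hN
    have hNn : N.Normal := Subgroup.Normal.comap hN0 ρ
    have hNc : Nat.card N = 64 := by
      rw [hN, hρ, card_comap_mk', S.cardH, Nat.card_zpowers, ht2]
    have hNp : IsPGroup 2 N := IsPGroup.of_card (n := 6) (by rw [hNc]; norm_num)
    have hTN : T ∈ N := by
      rw [hN, Subgroup.mem_comap]
      exact Subgroup.mem_zpowers _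
    exact hTH (S.maxl N hNn hNp hTN)
  · have h5' : orderOf (ρ (T * f⁻¹ * T * f)) = 5 := by
      rw [map_mul, map_mul, map_mul, map_inv]
      exact h5
    have hdvd : 5 ∣ orderOf (T * f⁻¹ * T * f) := by
      rw [← h5']
      exact orderOf_map_dvd ρ _
    refine ⟨f, (T * f⁻¹ * T * f) ^ (orderOf (T * f⁻¹ * T * f) / 5), ?_, _, rfl⟩
    exact orderOf_pow_orderOf_div (orderOf_pos _).ne' hdvd

end quot

end Cfsg.Agent.Lib.Helper2.Ord320
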