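import Mathlib
import Cfsg.Agent.Lib.Helper2.Ord320e

set_option autoImplicit false

namespace Cfsg.Agent.Lib.Helper2.Ord320

variable {G : Type*} [Group G] {H : Subgroup G} {z : G}

theorem Setup.card_cent (S : Setup G H z) (T : G) (hT : T * T = 1) (hTH : T ∉ H)
    (V : Subgroup G) (hV : V ≤ H ⊓ Subgroup.centralizer {T}) (hV4 : Nat.card V = 4) :
    Nat.card ↥(H ⊓ Subgroup.centralizer {T}) = 4 := by
  classical
  haveI := S.finite
  haveI := S.normal
  haveI hZn : (Zs z).Normal := S.Zs_normal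
  obtain ⟨f, c, hc5, n, hcn⟩ := S.exists_five T hT hTH
  set π := QuotientGroup.mk' (Zs z) with hπ
  set A := H.map π with hA
  have hTinv : T⁻¹ = T := inv_eq_of_mul_eq_one_right hT
  -- basic facts on A
  have hπ1 : ∀ x : G, π x = 1 ↔ (x = 1 ∨ x = z) := by
    intro x
    rw [hπ, QuotientGroup.mk'_apply, QuotientGroup.eq_one_iff, S.mem_Zs]
  have hAab : ∀ a ∈ A, ∀ b ∈ A, a * b = b * a := by
    rintro _ ⟨h, hh, rfl⟩ _ ⟨k, hk, rfl⟩
    have h1 := S.comm h hh k hk
    have h2 : π (h * k * h⁻¹ * k⁻¹) = 1 := (hπ1 _).2 h1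
    rw [map_mul, map_mul, map_mul, map_inv, map_inv] at h2
    have h3 : π h * π k * (π h)⁻¹ = π k := by
      have := mul_inv_eq_one.1 h2
      exact this
    exact mul_inv_eq_iff_eq_mul.1 h3
  have hAexp : ∀ a ∈ A, a * a = 1 := by
    rintro _ ⟨h, hh, rfl⟩
    rw [← map_mul]
    exact (hπ1 _).2 (S.sq h hh)
  have hAnorm : ∀ g : G, ∀ a ∈ A, π g * a * (π g)⁻¹ ∈ A := by
    rintro g _ ⟨h, hh, rfl⟩
    refine ⟨g * h * g⁻¹, S.normal.conj_mem h hh g, ?_⟩
    rw [map_mul, map_mul, map_inv]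
  have hcomapA : A.comap π = H := by
    rw [hA, Subgroup.comap_map_eq, hπ, QuotientGroup.ker_mk']
    exact sup_eq_left.2 S.Zs_le
  have hcardA : Nat.card A = 16 := by
    have h1 := card_comap_mk' (Zs z) A
    rw [← hπ, hcomapA, S.cardH, S.card_Zs] at h1
    omega
  -- fixed-point-free action of elements of order 5
  have hfpf : ∀ e : G, orderOf e = 5 → ∀ a ∈ A, a * π e = π e * a → a = 1 := by
    rintro e he _ ⟨h, hh, rfl⟩ hcom
    have h1 : π (h * e * h⁻¹ * e⁻¹) = 1 := by
      rw [map_mul, map_mul, map_mul, map_inv, map_inv, hcom]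
      group
    have h2 := S.fpf e he h hh ((hπ1 _).1 h1)
    exact (hπ1 _).2 h2
  -- the two involutions
  set t := π T with ht
  set t' := π (f⁻¹ * T * f) with ht'
  have htt : t * t = 1 := by rw [ht, ← map_mul, hT, map_one]
  have htt' : t' * t' = 1 := by
    rw [ht', ← map_mul]
    have : f⁻¹ * T * f * (f⁻¹ * T * f) = f⁻¹ * (T * T) * f := by group
    rw [this, hT]
    simp
  have hinter : (A ⊓ Subgroup.centralizer {t}) ⊓ (A ⊓ Subgroup.centralizer {t'}) = ⊥ := by
    rw [eq_bot_iff]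
    intro a ha
    rw [Subgroup.mem_bot]
    obtain ⟨⟨haA, ha1⟩, ⟨-, ha2⟩⟩ := ha
    have h1 : t * a = a * t := (Subgroup.mem_centralizer_iff.1 ha1) t rfl
    have h2 : t' * a = a * t' := (Subgroup.mem_centralizer_iff.1 ha2) t' rfl
    have h3 : Commute a (t * t') := (Commute.mul_right h1.symm h2.symm)
    have h4 : t * t' = π (T * f⁻¹ * T * f) := by
      rw [ht, ht', ← map_mul]
      congr 1
      group
    have h5 : Commute a (π c) := by
      rw [hcn, map_pow, ← h4]
      exact h3.pow_right n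
    exact hfpf c hc5 a haA h5.eq
  haveI : Finite A := Subgroup.instFiniteSubtypeMem A
  have hL1 := invol_card A hAab hAexp t htt (fun a ha => by rw [ht]; exact hAnorm T a ha)
  have hL2 := invol_card A hAab hAexp t' htt' (fun a ha => by rw [ht']; exact hAnorm _ a ha)
  have hP := card_mul_le_of_inf_eq_bot A _ _ (inf_le_left : A ⊓ Subgroup.centralizer {t} ≤ A)
    (inf_le_left : A ⊓ Subgroup.centralizer {t'} ≤ A) hinter
  rw [hcardA] at hL1 hL2 hP
  set m := Nat.card ↥(A ⊓ Subgroup.centralizer {t}) with hm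
  set m' := Nat.card ↥(A ⊓ Subgroup.centralizer {t'}) with hm'
  have hm4 : m = 4 := by
    have h1 : 4 ≤ m := by
      by_contra hlt
      push Not at hlt
      have : m ^ 2 ≤ 3 ^ 2 := Nat.pow_le_pow_left (by omega) 2
      have := hL1.1
      omega
    have h2 : 4 ≤ m' := by
      by_contra hlt
      push Not at hlt
      have : m' ^ 2 ≤ 3 ^ 2 := Nat.pow_le_pow_left (by omega) 2
      have := hL2.1
      omega
    have h3 : m * 4 ≤ m * m' := Nat.mul_le_mul_left m h2
    omega
  -- the centralizer in H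
  set D := H ⊓ Subgroup.centralizer {T} with hD
  set C := A ⊓ Subgroup.centralizer {t} with hC
  have hDle : D ≤ C.comap π := by
    intro d hd
    rw [Subgroup.mem_comap, hC, Subgroup.mem_inf]
    refine ⟨⟨d, hd.1, rfl⟩, ?_⟩
    rw [Subgroup.mem_centralizer_iff]
    intro y hy
    rw [Set.mem_singleton_iff] at hy
    subst hy
    have := (Subgroup.mem_centralizer_iff.1 hd.2) T rfl
    rw [ht, ← map_mul, ← map_mul, this]
  have hcardcomap : Nat.card (C.comap π) = 8 := by
    rw [hπ, card_comap_mk', S.card_Zs, ← hm, hm4]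
  have hDdvd : Nat.card D ∣ 8 := hcardcomap ▸ Subgroup.card_dvd_of_le hDle
  have hVdvd : 4 ∣ Nat.card D := hV4 ▸ Subgroup.card_dvd_of_le hV
  by_contra hne
  have hD8 : Nat.card D = 8 := by
    have hle : Nat.card D ≤ 8 := Nat.le_of_dvd (by norm_num) hDdvd
    obtain ⟨k, hk⟩ := hVdvd
    have hpos : 0 < Nat.card D := Nat.card_pos
    have : k = 1 ∨ k = 2 := by omega
    rcases this with rfl | rfl
    · exact absurd hk hne
    · omega
  have hDeq : D = C.comap π := Subgroup.eq_of_le_of_card_ge hDle (by rw [hD8, hcardcomap])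
  -- every element of D is an involution
  have hDexp : ∀ u ∈ D, u * u = 1 := by
    intro u hu
    have huC : π u ∈ C := hDle hu
    have heq : (16 : ℕ) = m ^ 2 := by rw [hm4]; norm_num
    obtain ⟨a, ⟨h, hh, rfl⟩, hua⟩ := hL1.2 heq (π u) huC
    set w := h * (T * h⁻¹ * T⁻¹) with hw
    have hpw : π u = π w := by
      rw [hua, hw, map_mul, map_mul, map_mul, map_inv, map_inv]
    have hwu : u⁻¹ * w = 1 ∨ u⁻¹ * w = z := by
      apply (hπ1 _).1
      rw [map_mul, map_inv, hpw, inv_mul_cancel]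
    have hcen : ∀ x : G, x = 1 ∨ x = z → ∀ g : G, g * x = x * g := by
      rintro x (rfl | rfl) g
      · simp
      · exact S.z_central g
    have hxx : ∀ x : G, x = 1 ∨ x = z → x * x = 1 := by
      rintro x (rfl | rfl)
      · simp
      · exact S.z_sq
    obtain ⟨x, hwx, hxz⟩ : ∃ x : G, w = u * x ∧ (x = 1 ∨ x = z) :=
      ⟨u⁻¹ * w, by group, hwu⟩
    have huT : T * u = u * T := (Subgroup.mem_centralizer_iff.1 hu.2) T rfl
    have hwT : T * w = w * T := by
      calc T * w = (T * u) * x := by rw [hwx, mul_assoc]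
        _ = u * (T * x) := by rw [huT, mul_assoc]
        _ = u * (x * T) := by rw [hcen x hxz T]
        _ = w * T := by rw [hwx, mul_assoc]
    -- T inverts w
    have hinv : T * w * T⁻¹ = w⁻¹ := by
      rw [hw, hTinv]
      have e1 : T * (h * (T * h⁻¹ * T)) * T = (T * h * T * h⁻¹) * (T * T) := by group
      have e2 : (h * (T * h⁻¹ * T))⁻¹ = T⁻¹ * h * T⁻¹ * h⁻¹ := by group
      rw [e1, e2, hT, hTinv, mul_one]
    have hw2 : w * w = 1 := by
      have : T * w * T⁻¹ = w := by rw [hwT]; group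
      rw [this] at hinv
      calc w * w = w * w⁻¹ := by rw [← hinv]
        _ = 1 := mul_inv_cancel w
    have hux : u = w * x := by
      rw [hwx, mul_assoc, hxx x hxz, mul_one]
    rw [hux]
    calc w * x * (w * x) = w * (x * w) * x := by group
      _ = w * (w * x) * x := by rw [hcen x hxz w]
      _ = (w * w) * (x * x) := by group
      _ = 1 := by rw [hw2, hxx x hxz, one_mul]
  have hDab : ∀ a ∈ D, ∀ b ∈ D, a * b = b * a := by
    intro a ha b hb
    have h1 := hDexp _ (D.mul_mem ha hb)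
    have ha' : a⁻¹ = a := inv_eq_of_mul_eq_one_right (hDexp a ha)
    have hb' : b⁻¹ = b := inv_eq_of_mul_eq_one_right (hDexp b hb)
    calc a * b = (a * b)⁻¹ := (inv_eq_of_mul_eq_one_right h1).symm
      _ = b⁻¹ * a⁻¹ := mul_inv_rev a b
      _ = b * a := by rw [ha', hb']
  have := S.minus D inf_le_left hDab hDexp
  omega

end Cfsg.Agent.Lib.Helper2.Ord320
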