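import Mathlib
import Cfsg.Agent.Lib.Helper2.OrthElI
import Cfsg.Agent.Lib.Helper9.Elus6

set_option autoImplicit false

/-!
Arithmetic consequences of the counting formula for totally singular subspaces.
-/

namespace Cfsg.Agent.Lib.Helper2.OrthEl

open Module QuadraticMap
open Cfsg.Agent.Lib.Helper9.H9Elus

variable {F V : Type*} [Field F] [Fintype F] [AddCommGroup V] [Module F V] [FiniteDimensional F V]
variable {Q : QuadraticForm F V}

/-- a prime dividing the number of totally singular `m`-spaces divides some `q^(2(d-j)) - 1`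
with `j < m` -/
theorem exists_dvd_of_dvd_card_ts (hodd : Odd (Fintype.card F))
    (hQ : (polarBilin Q).Nondegenerate) (d : ℕ) (hdim : finrank F V = 2 * d + 1) (m : ℕ)
    (hmd : m ≤ d) {r : ℕ} (hr : r.Prime)
    (h : r ∣ Nat.card {W : Submodule F V // finrank F W = m ∧ ∀ w ∈ W, Q w = 0}) :
    ∃ j, j < m ∧ r ∣ Fintype.card F ^ (2 * (d - j)) - 1 := by
  have h1 := card_ts_mul hodd hQ d hdim m hmd
  have h3 : r ∣ ∏ j ∈ Finset.range m, (Fintype.card F ^ (2 * (d - j)) - 1) := by
    rw [← h1]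
    exact Dvd.dvd.mul_right h _
  obtain ⟨j, hj, hjd⟩ := (Nat.Prime.prime hr).exists_mem_finset_dvd h3
  exact ⟨j, Finset.mem_range.1 hj, hjd⟩

/-- the characteristic does not divide the number of totally singular `m`-spaces -/
theorem not_char_dvd_card_ts (hodd : Odd (Fintype.card F))
    (hQ : (polarBilin Q).Nondegenerate) (d : ℕ) (hdim : finrank F V = 2 * d + 1) (m : ℕ)
    (hmd : m ≤ d) {p : ℕ} [hp : Fact p.Prime] [CharP F p] :
    ¬ p ∣ Nat.card {W : Submodule F V // finrank F W = m ∧ ∀ w ∈ W, Q w = 0} := by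
  intro h
  obtain ⟨j, hjm, hj⟩ := exists_dvd_of_dvd_card_ts hodd hQ d hdim m hmd hp.out h
  obtain ⟨f, -, hf⟩ := FiniteField.card F p
  have h1 : p ∣ Fintype.card F ^ (2 * (d - j)) := by
    have h3 : p ∣ Fintype.card F := by
      rw [hf]
      exact dvd_pow_self p f.ne_zero
    exact dvd_pow h3 (by omega)
  have h4 : 1 ≤ Fintype.card F ^ (2 * (d - j)) := Nat.one_le_pow _ _ Fintype.card_pos
  have h5 : p ∣ 1 := by
    have := Nat.dvd_sub h1 hj
    rwa [Nat.sub_sub_self h4] at this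
  exact hp.out.one_lt.ne' (Nat.dvd_one.1 h5)

/-- the residue condition forced by a divisor of some `q^(2(d-j)) - 1`, `j < m` -/
theorem mod_lt_of_dvd (q r d m j : ℕ) (hq : 1 ≤ q) (hjm : j < m) (hmd : m ≤ d)
    (h : r ∣ q ^ (2 * (d - j)) - 1) :
    (2 * d + 1) % (if Even (orderOf ((q : ℕ) : ZMod r)) then orderOf ((q : ℕ) : ZMod r)
      else 2 * orderOf ((q : ℕ) : ZMod r)) + 1 ≤ 2 * m := by
  have h1 : orderOf ((q : ℕ) : ZMod r) ∣ 2 * (d - j) := (orderOf_dvd_iff_dvd r q hq _).2 h
  set i := orderOf ((q : ℕ) : ZMod r) with hi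
  have hc : (if Even i then i else 2 * i) ∣ 2 * (d - j) := by
    split_ifs with hev
    · exact h1
    · have hoddi : Odd i := Nat.not_even_iff_odd.1 hev
      have hcop : Nat.Coprime i 2 := Nat.Coprime.symm (Nat.coprime_two_left.2 hoddi)
      have := hcop.dvd_of_dvd_mul_left h1
      exact Nat.mul_dvd_mul_left 2 this
  obtain ⟨a, ha⟩ := hc
  have h3 : 2 * d + 1 = (2 * j + 1) + (if Even i then i else 2 * i) * a := by
    rw [← ha]
    omega
  rw [h3, Nat.add_mul_mod_self_left]
  have := Nat.mod_le (2 * j + 1) (if Even i then i else 2 * i)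
  omega

end Cfsg.Agent.Lib.Helper2.OrthEl
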