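import Mathlib
import Cfsg.Agent.Lib.Helper2.OrthElP

set_option autoImplicit false

/-!
The necessity direction for odd `r`: if every element of order `r` of `Ω` fixes a totally singular
`m`-space, then the arithmetic conditions hold.
-/

namespace Cfsg.Agent.Lib.Helper2.OrthEl

open Module QuadraticMap Polynomial
open Cfsg.Agent.Lib.Helper9.H9Elus

section arith

theorem arith_F1 (i m k a b : ℕ) (hmi : m < i) (h : m = a + i * b) (ha : 2 * a ≤ k)
    (hk : k + 1 ≤ 2 * m) : False := by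
  rcases Nat.eq_zero_or_pos b with hb | hb
  · rw [hb, mul_zero, add_zero] at h
    omega
  · have : i ≤ i * b := Nat.le_mul_of_pos_right i hb
    omega

theorem arith_F2 (i m k a b : ℕ) (h : m = a + i * b) (ha : 2 * a ≤ k)
    (hk2 : k ≤ 2 * (m % i)) (hkodd : k % 2 = 1) : False := by
  have h1 : m % i = a % i := by
    rw [h, Nat.add_mul_mod_self_left]
  have h3 : a % i ≤ a := Nat.mod_le a i
  omega

theorem arith_F3 (i m a b A t : ℕ) (hi1 : 1 ≤ i) (ha : a < i) (h : m = a + i * b)
    (hb : b = 0 ∨ t + 2 * b ≤ A + 1) (him : i ≤ m) (hcontra : A + 1 < t + 2 * (m / i)) :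
    False := by
  have h1 : m / i = b ∧ m % i = a :=
    (Nat.div_mod_unique (show 0 < i by omega)).2 ⟨h.symm, ha⟩
  have h3 : 1 ≤ m / i := (Nat.one_le_div_iff (by omega)).2 him
  rcases hb with hb | hb
  · omega
  · rw [h1.1] at hcontra
    omega

end arith

universe u

variable {F : Type u} [Field F] [Fintype F] {p : ℕ} [Fact p.Prime] [CharP F p]

/-- if all elements of order `r` of `Ω` fix a totally singular `m`-space, the dimension `m`
occurs in every model -/
theorem mem_TSset_of_all (hodd : Odd (Fintype.card F)) (d m : ℕ) (hd : 1 ≤ d) (r : ℕ)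
    [Fact r.Prime] (hr2 : 2 < r)
    (hall : ∀ x : Matrix.GeneralLinearGroup (Unit ⊕ (Fin d ⊕ Fin d)) F,
      x ∈ Cfsg.Geo.omegaGL (Cfsg.quadFormOdd d F) → orderOf x = r →
      ∃ W : Submodule F (Unit ⊕ (Fin d ⊕ Fin d) → F), finrank F W = m ∧
        (∀ w ∈ W, Cfsg.quadFormOdd d F w = 0) ∧
        W.map (Matrix.toLin' (x : Matrix (Unit ⊕ (Fin d ⊕ Fin d)) (Unit ⊕ (Fin d ⊕ Fin d)) F)) ≤ W)
    (M : QIso F) (hM : M.Good r) (hdim : finrank F M.V = 2 * d + 1) (hne : M.y ≠ 1) :
    m ∈ M.TSset := by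
  obtain ⟨x, hxΩ, hxr, hx⟩ := exists_omega_of_model hodd d hd r Fact.out (by omega) M hM hdim hne
  obtain ⟨W, hWm, hWts, hWinv⟩ := hall x hxΩ hxr
  rw [← hWm]
  exact hx W hWts hWinv

theorem nec_odd (hodd : Odd (Fintype.card F)) (d m : ℕ) (hd : 1 ≤ d) (hmd : m ≤ d)
    (r : ℕ) [Fact r.Prime] (hrp : r ≠ p) (hr2 : 2 < r)
    (hβ : (2 * d + 1) % (if Even (orderOf ((Fintype.card F : ℕ) : ZMod r))
      then orderOf ((Fintype.card F : ℕ) : ZMod r)
      else 2 * orderOf ((Fintype.card F : ℕ) : ZMod r)) + 1 ≤ 2 * m)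
    (hall : ∀ x : Matrix.GeneralLinearGroup (Unit ⊕ (Fin d ⊕ Fin d)) F,
      x ∈ Cfsg.Geo.omegaGL (Cfsg.quadFormOdd d F) → orderOf x = r →
      ∃ W : Submodule F (Unit ⊕ (Fin d ⊕ Fin d) → F), finrank F W = m ∧
        (∀ w ∈ W, Cfsg.quadFormOdd d F w = 0) ∧
        W.map (Matrix.toLin' (x : Matrix (Unit ⊕ (Fin d ⊕ Fin d)) (Unit ⊕ (Fin d ⊕ Fin d)) F)) ≤ W) :
    orderOf ((Fintype.card F : ℕ) : ZMod r) ≤ m ∧
    2 * (m % orderOf ((Fintype.card F : ℕ) : ZMod r)) <
      (2 * d + 1) % (if Even (orderOf ((Fintype.card F : ℕ) : ZMod r))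
        then orderOf ((Fintype.card F : ℕ) : ZMod r)
        else 2 * orderOf ((Fintype.card F : ℕ) : ZMod r)) ∧
    (Odd (orderOf ((Fintype.card F : ℕ) : ZMod r)) ∨
      (r - 1) / orderOf ((Fintype.card F : ℕ) : ZMod r) +
        2 * (m / orderOf ((Fintype.card F : ℕ) : ZMod r)) ≤
        (2 * d + 1) / orderOf ((Fintype.card F : ℕ) : ZMod r)) := by
  have hi1 : 1 ≤ orderOf ((Fintype.card F : ℕ) : ZMod r) := order_pos r hrp
  set i := orderOf ((Fintype.card F : ℕ) : ZMod r) with hi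
  set c := (if Even i then i else 2 * i) with hc
  have hc1 : 1 ≤ c := by
    rw [hc]
    split_ifs <;> omega
  have hceven : ∃ c', c = 2 * c' := by
    rw [hc]
    split_ifs with hev
    · obtain ⟨k, hk⟩ := hev
      exact ⟨k, by omega⟩
    · exact ⟨i, rfl⟩
  have hn := Nat.div_add_mod (2 * d + 1) c
  have hklt := Nat.mod_lt (2 * d + 1) (show 0 < c by omega)
  set k := (2 * d + 1) % c with hk
  set N' := (2 * d + 1) / c with hN'
  have hkodd : k % 2 = 1 := by
    obtain ⟨c', hc'⟩ := hceven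
    rw [hc', mul_assoc] at hn
    omega
  have hN'pos : 0 < N' := by
    rcases Nat.eq_zero_or_pos N' with h0 | h0
    · rw [h0, mul_zero, zero_add] at hn
      omega
    · exact h0
  -- the basic model with fixed space of dimension `k`
  have hbasic : ∃ a b, m = a + i * b ∧ 2 * a ≤ k := by
    by_cases hev : Even i
    · have hci : c = i := by rw [hc, if_pos hev]
      obtain ⟨M, hM, hMdim, hMne, hMts⟩ := QIso.exists_model_even hodd r hrp hev k N'
      rw [← hi] at hMdim hMts
      have hdim : finrank F M.V = 2 * d + 1 := by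
        rw [hMdim, ← hn, hci]
        ring
      obtain ⟨a, b, hab, ha, -⟩ := hMts m
        (mem_TSset_of_all hodd d m hd r hr2 hall M hM hdim (hMne hN'pos))
      exact ⟨a, b, hab, ha⟩
    · have hci : c = 2 * i := by rw [hc, if_neg hev]
      obtain ⟨M, hM, hMdim, hMne, hMts⟩ := QIso.exists_model_pair hodd r hrp k N'
      rw [← hi] at hMdim hMts
      have hdim : finrank F M.V = 2 * d + 1 := by
        rw [hMdim, ← hn, hci]
        ring
      exact hMts m (mem_TSset_of_all hodd d m hd r hr2 hall M hM hdim (hMne hN'pos))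
  obtain ⟨a, b, hab, ha⟩ := hbasic
  have him : i ≤ m := by
    by_contra hcon
    exact arith_F1 i m k a b (by omega) hab ha hβ
  have hℓ : 2 * (m % i) < k := by
    by_contra hcon
    exact arith_F2 i m k a b hab ha (by omega) hkodd
  refine ⟨him, hℓ, ?_⟩
  by_contra hcon
  rw [not_or] at hcon
  obtain ⟨hnotodd, hcon⟩ := hcon
  have hev : Even i := Nat.not_odd_iff_even.1 hnotodd
  have hci : c = i := by rw [hc, if_pos hev]
  rw [hci] at hn hklt
  have hN'eq : (2 * d + 1) / i = N' := by rw [hN', hci]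
  rw [hN'eq] at hcon
  obtain ⟨t, ht0⟩ := order_dvd_sub_one (F := F) r hrp
  rw [← hi] at ht0
  have htdiv : (r - 1) / i = t := by
    rw [ht0]
    exact Nat.mul_div_cancel_left t (by omega)
  have ht1 : 1 ≤ t := by
    rcases Nat.eq_zero_or_pos t with h0 | h0
    · rw [h0, mul_zero] at ht0
      omega
    · exact h0
  rw [htdiv] at hcon
  have h3 : 1 ≤ m / i := (Nat.one_le_div_iff (by omega)).2 him
  by_cases hsub : t + 2 * (m / i) = N' + 1
  · -- model with `e₀ = k + i`, `A = N' - 1`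
    obtain ⟨M, hM, hMdim, hMne, hMts⟩ := QIso.exists_model_even hodd r hrp hev (k + i) (N' - 1)
    rw [← hi] at hMdim hMts
    rw [htdiv] at hMts
    have hdim : finrank F M.V = 2 * d + 1 := by
      rw [hMdim, ← hn]
      have : i * (N' - 1) + i = i * N' := by
        rw [← Nat.mul_succ]
        congr 1
        omega
      omega
    obtain ⟨a', b', hab', ha', hb'⟩ := hMts m
      (mem_TSset_of_all hodd d m hd r hr2 hall M hM hdim (hMne (by omega)))
    exact arith_F3 i m a' b' (N' - 1) t hi1 (by omega) hab' hb' him (by omega)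
  · obtain ⟨M, hM, hMdim, hMne, hMts⟩ := QIso.exists_model_even hodd r hrp hev k N'
    rw [← hi] at hMdim hMts
    rw [htdiv] at hMts
    have hdim : finrank F M.V = 2 * d + 1 := by
      rw [hMdim, ← hn]
      ring
    obtain ⟨a', b', hab', ha', hb'⟩ := hMts m
      (mem_TSset_of_all hodd d m hd r hr2 hall M hM hdim (hMne hN'pos))
    exact arith_F3 i m a' b' N' t hi1 (by omega) hab' hb' him (by omega)

end Cfsg.Agent.Lib.Helper2.OrthEl
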