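import Mathlib
import Cfsg.Agent.Lib.Helper2.OrthElS

set_option autoImplicit false

/-!
An isometric involution lying in the commutator subgroup of the isometry group: its `-1`-eigenspace
has even dimension and square discriminant; when `-1` is a square it contains a totally singular
subspace of half its dimension.
-/

namespace Cfsg.Agent.Lib.Helper2.OrthEl

open Module QuadraticMap
open scoped Matrix
open Cfsg.Agent.Lib.Helper2.MaxTS2
open Cfsg.Agent.H9SemiInv

section general

variable {F : Type*} [Field F] {ι : Type}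
variable {Q : QuadraticForm F (ι → F)}

theorem polar_comp_subtype (N : Submodule F (ι → F)) (a b : ↥N) :
    polar (⇑(Q.comp N.subtype)) a b = polar (⇑Q) (a : ι → F) (b : ι → F) := by
  unfold polar
  simp only [QuadraticMap.comp_apply, map_add, Submodule.subtype_apply]

end general

variable {F : Type*} [Field F] {ι : Type} [Fintype ι] [DecidableEq ι]
variable {Q : QuadraticForm F (ι → F)}

/-- an isometric involution is the product of the reflections in an orthogonal basis of its
`-1`-eigenspace -/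
theorem exists_reflProd (h2 : (2 : F) ≠ 0) (hQ : (polarBilin Q).Nondegenerate)
    (x : ↥(Cfsg.isometryGroup F ⇑Q)) (hx2 : x * x = 1) (a : ℕ)
    (ha : finrank F ↥(negS (Matrix.toLin' ((x : Matrix.GeneralLinearGroup ι F) : Matrix ι ι F)))
      = a) :
    ∃ (b₀ : Basis (Fin a) F
        ↥(negS (Matrix.toLin' ((x : Matrix.GeneralLinearGroup ι F) : Matrix ι ι F))))
      (u : ℕ → ι → F),
      (∀ i j : Fin a, i ≠ j → polar (⇑Q) (b₀ i : ι → F) (b₀ j : ι → F) = 0) ∧
      (∀ i : Fin a, Q (b₀ i : ι → F) ≠ 0) ∧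
      (∀ i : Fin a, u (i : ℕ) = (b₀ i : ι → F)) ∧
      x = reflProd Q u a := by
  subst ha
  obtain ⟨y, hy_def⟩ : ∃ y, y = Matrix.toLin' ((x : Matrix.GeneralLinearGroup ι F) : Matrix ι ι F) :=
    ⟨_, rfl⟩
  rw [← hy_def]
  have hiso : ∀ v, Q (y v) = Q v := by
    intro v
    rw [hy_def, Matrix.toLin'_apply]
    exact CDG.iso_Q x v
  have hy : y ^ 2 = 1 := by
    rw [hy_def]
    apply toLin'_pow_eq_one
    have := congrArg Subtype.val hx2
    rw [pow_two]
    exact this
  have hN : NDeg Q (negS y) := ndeg_negS h2 hQ hiso hy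
  obtain ⟨b₀, hb₀, hne₀⟩ := exists_orthogonal_basis' (Q := Q.comp (negS y).subtype) h2 hN.restrict
  let u : ℕ → ι → F := fun j => if h : j < finrank F ↥(negS y) then (b₀ ⟨j, h⟩ : ι → F) else 0
  have hu : ∀ i : Fin (finrank F ↥(negS y)), u (i : ℕ) = (b₀ i : ι → F) := by
    intro i
    show (if h : (i : ℕ) < finrank F ↥(negS y) then (b₀ ⟨i, h⟩ : ι → F) else 0) = _
    rw [dif_pos i.2]
  have horth : ∀ i j : Fin (finrank F ↥(negS y)), i ≠ j →
      polar (⇑Q) (b₀ i : ι → F) (b₀ j : ι → F) = 0 := by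
    intro i j hij
    rw [← polar_comp_subtype]
    exact hb₀ i j hij
  have hne : ∀ i : Fin (finrank F ↥(negS y)), Q (b₀ i : ι → F) ≠ 0 := fun i => hne₀ i
  refine ⟨b₀, u, horth, hne, hu, ?_⟩
  have hune : ∀ j < finrank F ↥(negS y), Q (u j) ≠ 0 := by
    intro j hj
    have := hu ⟨j, hj⟩
    rw [this]
    exact hne _
  have huorth : ∀ j l, j < finrank F ↥(negS y) → l < finrank F ↥(negS y) → j ≠ l →
      polar (⇑Q) (u j) (u l) = 0 := by
    intro j l hj hl hjl
    have e1 := hu ⟨j, hj⟩
    have e2 := hu ⟨l, hl⟩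
    rw [e1, e2]
    apply horth
    intro h
    apply hjl
    exact congrArg Fin.val h
  have huN : ∀ j < finrank F ↥(negS y), u j ∈ negS y := by
    intro j hj
    have := hu ⟨j, hj⟩
    rw [this]
    exact (b₀ _).2
  apply CDG.iso_ext
  intro v
  -- decompose `v`
  have hc := isCompl_fix_neg (y := y) h2 hy
  have hv : v ∈ fixS y ⊔ negS y := by
    rw [hc.sup_eq_top]
    trivial
  obtain ⟨f, hf, n, hn, rfl⟩ := Submodule.mem_sup.1 hv
  rw [Matrix.mulVec_add, Matrix.mulVec_add]
  congr 1
  · -- on the fixed space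
    have h1 : ((x : Matrix.GeneralLinearGroup ι F) : Matrix ι ι F) *ᵥ f = f := by
      have := (mem_fixS f).1 hf
      rw [hy_def, Matrix.toLin'_apply] at this
      exact this
    rw [h1]
    symm
    apply reflProd_fix
    intro j hj
    rw [polar_comm]
    exact polar_fix_neg h2 hiso hf (huN j hj)
  · -- on the `-1`-eigenspace
    have h1 : ((x : Matrix.GeneralLinearGroup ι F) : Matrix ι ι F) *ᵥ n = -n := by
      have := (mem_negS n).1 hn
      rw [hy_def, Matrix.toLin'_apply] at this
      exact this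
    rw [h1]
    have hrep := b₀.sum_repr ⟨n, hn⟩
    have hrep' : n = ∑ i : Fin (finrank F ↥(negS y)), (b₀.repr ⟨n, hn⟩ i) • u (i : ℕ) := by
      calc n = ((∑ i : Fin (finrank F ↥(negS y)), (b₀.repr ⟨n, hn⟩ i) • b₀ i : ↥(negS y)) : ι → F) :=
            (congrArg Subtype.val hrep).symm
        _ = _ := by
            rw [Submodule.coe_sum]
            apply Finset.sum_congr rfl
            intro i _
            rw [Submodule.coe_smul, hu]
    obtain ⟨L, hL⟩ : ∃ L, L = Matrix.toLin' ((reflProd Q u (finrank F ↥(negS y)) :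
        Matrix.GeneralLinearGroup ι F) : Matrix ι ι F) := ⟨_, rfl⟩
    have hlin : ∀ w, ((reflProd Q u (finrank F ↥(negS y)) : Matrix.GeneralLinearGroup ι F) :
        Matrix ι ι F) *ᵥ w = L w := by
      intro w
      rw [hL, Matrix.toLin'_apply]
    rw [hlin]
    symm
    calc L n = L (∑ i : Fin (finrank F ↥(negS y)), (b₀.repr ⟨n, hn⟩ i) • u (i : ℕ)) := by
          rw [← hrep']
      _ = ∑ i : Fin (finrank F ↥(negS y)), (b₀.repr ⟨n, hn⟩ i) • L (u (i : ℕ)) := by
          rw [map_sum]
          simp only [map_smul]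
      _ = ∑ i : Fin (finrank F ↥(negS y)), (b₀.repr ⟨n, hn⟩ i) • (-(u (i : ℕ))) := by
          apply Finset.sum_congr rfl
          intro i _
          rw [← hlin, reflProd_neg u _ huorth hune i i.2]
      _ = -∑ i : Fin (finrank F ↥(negS y)), (b₀.repr ⟨n, hn⟩ i) • u (i : ℕ) := by
          simp only [smul_neg, Finset.sum_neg_distrib]
      _ = -n := by rw [← hrep']

end Cfsg.Agent.Lib.Helper2.OrthEl
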