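import Mathlib
import Cfsg.Agent.Lib.Helper2.OrthElT

set_option autoImplicit false

/-!
An isometric involution lying in the commutator subgroup of the isometry group: when `-1` is a
square its `-1`-eigenspace contains a totally singular subspace of half its dimension.
-/

namespace Cfsg.Agent.Lib.Helper2.OrthEl

open Module QuadraticMap
open scoped Matrix
open Cfsg.Agent.Lib.Helper2.MaxTS2
open Cfsg.Agent.H9SemiInv

variable {F : Type*} [Field F] [Fintype F] [DecidableEq F] {ι : Type} [Fintype ι] [DecidableEq ι]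
variable {Q : QuadraticForm F (ι → F)}

theorem exists_isTS_negS (h2 : (2 : F) ≠ 0) (hQ : (polarBilin Q).Nondegenerate)
    (x : ↥(Cfsg.isometryGroup F ⇑Q)) (hx2 : x * x = 1)
    (hxc : x ∈ commutator ↥(Cfsg.isometryGroup F ⇑Q)) (hsq : IsSquare (-1 : F)) :
    ∃ T : Submodule F (ι → F),
      T ≤ negS (Matrix.toLin' ((x : Matrix.GeneralLinearGroup ι F) : Matrix ι ι F)) ∧ IsTS Q T ∧
      2 * finrank F T =
        finrank F ↥(negS (Matrix.toLin' ((x : Matrix.GeneralLinearGroup ι F) : Matrix ι ι F))) := by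
  have key := exists_reflProd h2 hQ x hx2
  obtain ⟨y, hy_def⟩ : ∃ y, y = Matrix.toLin' ((x : Matrix.GeneralLinearGroup ι F) : Matrix ι ι F) :=
    ⟨_, rfl⟩
  rw [← hy_def] at key ⊢
  obtain ⟨a, ha⟩ : ∃ a, finrank F ↥(negS y) = a := ⟨_, rfl⟩
  obtain ⟨b₀, u, horth, hne, hu, hx⟩ := key a ha
  rw [ha]
  have hiso : ∀ v, Q (y v) = Q v := by
    intro v
    rw [hy_def, Matrix.toLin'_apply]
    exact CDG.iso_Q x v
  have hy : y ^ 2 = 1 := by
    rw [hy_def]
    apply toLin'_pow_eq_one
    have := congrArg Subtype.val hx2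
    rw [pow_two]
    exact this
  have hN : NDeg Q (negS y) := ndeg_negS h2 hQ hiso hy
  have hune : ∀ j < a, Q (u j) ≠ 0 := by
    intro j hj
    have := hu ⟨j, hj⟩
    rw [this]
    exact hne _
  -- the value of `Phi`
  have hPhi : Spinor.Phi Q x = 1 := Abelianization.commutator_subset_ker (Spinor.Phi Q) hxc
  rw [hx, Phi_reflProd h2 u a hune, Prod.ext_iff] at hPhi
  obtain ⟨hP1, hP2⟩ := hPhi
  have hneg : (-1 : Fˣ) ≠ 1 := by
    intro h
    have e := congrArg Units.val h
    rw [Units.val_neg, Units.val_one] at e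
    apply h2
    linear_combination (-1 : F) * e
  have heven : Even a := (neg_one_pow_eq_one_iff_even hneg).1 hP1
  have hsqP : IsSquare (∏ j ∈ Finset.range a, Q (u j)) :=
    isSquare_prod_of_cls h2 (fun j => Q (u j)) a hune heven hP2
  have hP0 : ∏ j ∈ Finset.range a, Q (u j) ≠ 0 := by
    rw [Finset.prod_ne_zero_iff]
    intro j hj
    exact hune j (Finset.mem_range.1 hj)
  -- the Gram determinant
  have hdet0 : (LinearMap.BilinForm.toMatrix b₀ (polarBilin (Q.comp (negS y).subtype))).det =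
      2 ^ a * ∏ j ∈ Finset.range a, Q (u j) := by
    have hM : LinearMap.BilinForm.toMatrix b₀ (polarBilin (Q.comp (negS y).subtype)) =
        Matrix.diagonal (fun i : Fin a => 2 * Q (b₀ i : ι → F)) := by
      ext i j
      rw [LinearMap.BilinForm.toMatrix_apply, polarBilin_apply_apply, polar_comp_subtype,
        Matrix.diagonal_apply]
      by_cases hij : i = j
      · rw [if_pos hij, hij, polar_self, two_smul, two_mul]
      · rw [if_neg hij]
        exact horth i j hij
    rw [hM, Matrix.det_diagonal, Finset.prod_mul_distrib, Finset.prod_const, Finset.card_univ,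
      Fintype.card_fin, Finset.prod_range]
    congr 1
    apply Finset.prod_congr rfl
    intro i _
    rw [hu]
  obtain ⟨m', hm'⟩ := heven
  obtain ⟨s, hs⟩ := hsqP
  obtain ⟨ε, hε⟩ := hsq
  have hs0 : s ≠ 0 := by
    rintro rfl
    rw [mul_zero] at hs
    exact hP0 hs
  have hε0 : ε ≠ 0 := by
    rintro rfl
    rw [mul_zero] at hε
    exact neg_ne_zero.2 one_ne_zero hε
  have e1 : ε ^ m' * ε ^ m' = (-1) ^ m' := by rw [← mul_pow, ← hε]
  have e2 : ((-1 : F)) ^ m' * (-1) ^ m' = 1 := by
    rw [← mul_pow]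
    norm_num
  have hdet : (LinearMap.BilinForm.toMatrix b₀ (polarBilin (Q.comp (negS y).subtype))).det =
      (-1) ^ m' * (2 ^ m' * s * ε ^ m') ^ 2 := by
    rw [hdet0, hs, hm', pow_add]
    have : (-1 : F) ^ m' * (2 ^ m' * s * ε ^ m') ^ 2 =
        (2 ^ m' * 2 ^ m' * (s * s)) * ((-1) ^ m' * (ε ^ m' * ε ^ m')) := by ring
    rw [this, e1, e2, mul_one]
  have hS : LinearMap.BilinForm.IsSymm (polarBilin (Q.comp (negS y).subtype)) := by
    refine ⟨fun x y => ?_⟩
    simp [polar_comm]
  have hV : finrank F ↥(negS y) = 2 * m' := by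
    rw [ha, hm']
    ring
  obtain ⟨X, hXdim, hX⟩ := PlusType.isotropic_of_disc _ hS hN.restrict m' hV b₀
    (2 ^ m' * s * ε ^ m')
    (mul_ne_zero (mul_ne_zero (pow_ne_zero _ h2) hs0) (pow_ne_zero _ hε0)) hdet
  refine ⟨X.map (negS y).subtype, Submodule.map_subtype_le _ _, ?_, ?_⟩
  · apply isTS_of_le_perp h2
    intro t ht
    rw [mem_perp_iff]
    intro t' ht'
    obtain ⟨x', hx', rfl⟩ := Submodule.mem_map.1 ht
    obtain ⟨x'', hx'', rfl⟩ := Submodule.mem_map.1 ht'
    have := hX x'' hx'' x' hx'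
    rw [polarBilin_apply_apply, polar_comp_subtype] at this
    exact this
  · rw [Submodule.finrank_map_subtype_eq, hXdim, hm']
    ring

end Cfsg.Agent.Lib.Helper2.OrthEl
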