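import Mathlib
import Cfsg.Agent.Lib.Helper2.OrthElU

set_option autoImplicit false

/-!
Involutions of `Ω_{2d+1}(q)`: existence of invariant totally singular subspaces, and an
involution without invariant maximal totally singular subspace when `q ≡ 3 (mod 4)`.
-/

namespace Cfsg.Agent.Lib.Helper2.OrthEl

open Module QuadraticMap
open scoped Matrix
open Cfsg.Agent.Lib.Helper2.MaxTS2
open Cfsg.Agent.H9SemiInv
open Cfsg.Agent.Lib.Helper2.OrthCard

section exist

variable {F : Type*} [Field F] [Fintype F] [DecidableEq F] {ι : Type} [Fintype ι] [DecidableEq ι]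
variable {Q : QuadraticForm F (ι → F)}

/-- involutions of the commutator subgroup fix totally singular subspaces -/
theorem exists_inv_isTS_two (h2 : (2 : F) ≠ 0) (hQ : (polarBilin Q).Nondegenerate) (d m : ℕ)
    (hdim : finrank F (ι → F) = 2 * d + 1) (hmd : m ≤ d) (hcase : m < d ∨ IsSquare (-1 : F))
    (x : ↥(Cfsg.isometryGroup F ⇑Q)) (hx2 : x * x = 1)
    (hxc : x ∈ commutator ↥(Cfsg.isometryGroup F ⇑Q)) :
    ∃ W : Submodule F (ι → F),
      Inv (Matrix.toLin' ((x : Matrix.GeneralLinearGroup ι F) : Matrix ι ι F)) W ∧ IsTS Q W ∧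
        finrank F W = m := by
  have key := exists_isTS_negS h2 hQ x hx2 hxc
  obtain ⟨y, hy_def⟩ : ∃ y, y = Matrix.toLin' ((x : Matrix.GeneralLinearGroup ι F) : Matrix ι ι F) :=
    ⟨_, rfl⟩
  rw [← hy_def] at key ⊢
  have hiso : ∀ v, Q (y v) = Q v := by
    intro v
    rw [hy_def, Matrix.toLin'_apply]
    exact CDG.iso_Q x v
  have hy : y ^ 2 = 1 := by
    rw [hy_def]
    apply toLin'_pow_eq_one
    have := congrArg Subtype.val hx2
    rw [pow_two]
    exact this
  by_cases hlt : m < d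
  · exact exists_inv_isTS_involution h2 hQ hiso hy d m hdim hlt
  · have hsq : IsSquare (-1 : F) := by
      rcases hcase with h | h
      · exact absurd h hlt
      · exact h
    have hmd' : m = d := by omega
    obtain ⟨T₂, hT₂le, hT₂, hT₂dim⟩ := key hsq
    have hc := isCompl_fix_neg (y := y) h2 hy
    have hsum : finrank F (fixS y) + finrank F (negS y) = 2 * d + 1 := by
      rw [← hdim]
      exact Submodule.finrank_add_eq_of_isCompl hc
    have hnd₁ := ndeg_fixS_inv h2 hQ hiso hy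
    obtain ⟨T₁, hT₁le, hT₁, hT₁dim⟩ := exists_isTS_of_ndeg hnd₁ (d - finrank F T₂) (by omega)
    obtain ⟨hinv, hts, hfr⟩ := exists_inv_isTS_of_parts h2 hQ hiso hy hT₁le hT₂le hT₁ hT₂
    refine ⟨T₁ ⊔ T₂, hinv, hts, ?_⟩
    rw [hfr, hT₁dim]
    omega

end exist

section concrete

variable {F : Type*} [Field F] [Fintype F]

/-- the existence direction for `r = 2` -/
theorem exists_of_two (hodd : Odd (Fintype.card F)) (d m : ℕ) (hmd : m ≤ d)
    (hcase : m < d ∨ Fintype.card F % 4 = 1)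
    (x : Matrix.GeneralLinearGroup (Unit ⊕ (Fin d ⊕ Fin d)) F)
    (hx : x ∈ Cfsg.Geo.omegaGL (Cfsg.quadFormOdd d F)) (hx2 : x ^ 2 = 1) :
    ∃ W : Submodule F (Unit ⊕ (Fin d ⊕ Fin d) → F), finrank F W = m ∧
      (∀ w ∈ W, Cfsg.quadFormOdd d F w = 0) ∧
      W.map (Matrix.toLin' (x : Matrix (Unit ⊕ (Fin d ⊕ Fin d)) (Unit ⊕ (Fin d ⊕ Fin d)) F)) ≤ W := by
  classical
  have h2 : (2 : F) ≠ 0 := two_ne_zero_of_odd_card hodd
  have hQ := QOd_nondeg (F := F) h2 d
  have hcase' : m < d ∨ IsSquare (-1 : F) := by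
    rcases hcase with h | h
    · left; exact h
    · right
      rw [FiniteField.isSquare_neg_one_iff]
      omega
  have main : ∀ (Q₀ : (Unit ⊕ (Fin d ⊕ Fin d) → F) → F), ⇑(QOd d F) = Q₀ →
      x ∈ Cfsg.Geo.omegaGL Q₀ →
      ∃ W : Submodule F (Unit ⊕ (Fin d ⊕ Fin d) → F), finrank F W = m ∧
        (∀ w ∈ W, Q₀ w = 0) ∧
        W.map (Matrix.toLin' (x : Matrix (Unit ⊕ (Fin d ⊕ Fin d)) (Unit ⊕ (Fin d ⊕ Fin d)) F)) ≤ W := by
    intro Q₀ hQ₀ hx
    subst hQ₀
    obtain ⟨g, hg, rfl⟩ := Subgroup.mem_map.1 hx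
    have hg2 : g * g = 1 := by
      apply Subtype.ext
      rw [pow_two] at hx2
      exact hx2
    obtain ⟨W, hinv, hts, hdim⟩ := exists_inv_isTS_two h2 hQ d m (finrank_odd_space d) hmd hcase'
      g hg2 hg
    exact ⟨W, hdim, hts, (inv_iff _ W).1 hinv⟩
  exact main _ (QOd_coe d) hx

end concrete

end Cfsg.Agent.Lib.Helper2.OrthEl
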