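import Mathlib
import Cfsg.Agent.Lib.Helper2.OrthElV

set_option autoImplicit false

/-!
An involution of `Ω_{2d+1}(q)`, `q ≡ 3 (mod 4)`, without invariant maximal totally singular
subspace: the product of two reflections in orthogonal vectors of norm `1`.
-/

namespace Cfsg.Agent.Lib.Helper2.OrthEl

open Module QuadraticMap
open scoped Matrix
open Cfsg.Agent.Lib.Helper2.MaxTS2
open Cfsg.Agent.H9SemiInv
open Cfsg.Agent.Lib.Helper2.OrthCard

section abstract

variable {F V : Type*} [Field F] [AddCommGroup V] [Module F V]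
variable {Q : QuadraticForm F V} {y : V →ₗ[F] V} {u₁ u₂ : V}

theorem Q_pair (hu₁ : Q u₁ = 1) (hu₂ : Q u₂ = 1) (h12 : polar (⇑Q) u₁ u₂ = 0) (α β : F) :
    Q (α • u₁ + β • u₂) = α * α + β * β := by
  rw [QuadraticMap.map_add Q, QuadraticMap.map_smul, QuadraticMap.map_smul, polar_smul_left,
    polar_smul_right, h12, hu₁, hu₂]
  simp only [smul_eq_mul, mul_one, mul_zero, add_zero]

theorem eq_zero_of_sq_add_sq (hns : ¬ IsSquare (-1 : F)) {α β : F} (h : α * α + β * β = 0) :
    α = 0 ∧ β = 0 := by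
  by_cases hβ : β = 0
  · subst hβ
    rw [mul_zero, add_zero] at h
    exact ⟨(mul_self_eq_zero.1 h), rfl⟩
  · exfalso
    apply hns
    refine ⟨α / β, ?_⟩
    field_simp
    linear_combination -h

variable [FiniteDimensional F V]

/-- the product of the reflections in two orthogonal vectors of norm `1` has no invariant totally
singular subspace of dimension `d` when `-1` is not a square -/
theorem finrank_lt_of_inv_pair (h2 : (2 : F) ≠ 0) (hQ : (polarBilin Q).Nondegenerate)
    (hns : ¬ IsSquare (-1 : F)) (hu₁ : Q u₁ = 1) (hu₂ : Q u₂ = 1)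
    (h12 : polar (⇑Q) u₁ u₂ = 0)
    (hy : ∀ v, y v = v - polar (⇑Q) u₁ v • u₁ - polar (⇑Q) u₂ v • u₂) (d : ℕ)
    (hdim : finrank F V = 2 * d + 1) (W : Submodule F V) (hinv : Inv y W) (hW : IsTS Q W) :
    finrank F W < d := by
  have h11 : polar (⇑Q) u₁ u₁ = 2 := by rw [polar_self, hu₁, two_smul]; norm_num
  have h22 : polar (⇑Q) u₂ u₂ = 2 := by rw [polar_self, hu₂, two_smul]; norm_num
  have h21 : polar (⇑Q) u₂ u₁ = 0 := by rw [polar_comm]; exact h12
  -- `W` is orthogonal to both vectors
  have hperp : ∀ w ∈ W, polar (⇑Q) u₁ w = 0 ∧ polar (⇑Q) u₂ w = 0 := by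
    intro w hw
    have h1 : w - y w ∈ W := W.sub_mem hw (hinv w hw)
    have h3 : w - y w = polar (⇑Q) u₁ w • u₁ + polar (⇑Q) u₂ w • u₂ := by
      rw [hy]
      abel
    rw [h3] at h1
    have h4 := hW _ h1
    rw [Q_pair hu₁ hu₂ h12] at h4
    exact eq_zero_of_sq_add_sq hns h4
  obtain ⟨P, hP⟩ : ∃ P : Submodule F V, P = Submodule.span F {u₁, u₂} := ⟨_, rfl⟩
  have hWP : W ≤ perp Q P := by
    apply le_perp_comm
    rw [hP, Submodule.span_le]
    intro v hv
    rw [SetLike.mem_coe, mem_perp_iff']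
    intro w hw
    rcases hv with hv | hv
    · rw [hv]; exact (hperp w hw).1
    · rw [Set.mem_singleton_iff] at hv
      rw [hv]; exact (hperp w hw).2
  have hmemP : ∀ v ∈ P, ∃ α β : F, v = α • u₁ + β • u₂ := by
    intro v hv
    rw [hP, Submodule.mem_span_pair] at hv
    obtain ⟨α, β, rfl⟩ := hv
    exact ⟨α, β, rfl⟩
  have hu₁P : u₁ ∈ P := by
    rw [hP]
    exact Submodule.subset_span (Set.mem_insert _ _)
  have hu₂P : u₂ ∈ P := by
    rw [hP]
    exact Submodule.subset_span (Set.mem_insert_of_mem _ (Set.mem_singleton _))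
  have hzero : ∀ α β : F, polar (⇑Q) u₁ (α • u₁ + β • u₂) = 0 →
      polar (⇑Q) u₂ (α • u₁ + β • u₂) = 0 → α = 0 ∧ β = 0 := by
    intro α β h1 h3
    rw [polar_add_right, polar_smul_right, polar_smul_right, h11, h12, smul_eq_mul, smul_eq_mul,
      mul_zero, add_zero] at h1
    rw [polar_add_right, polar_smul_right, polar_smul_right, h21, h22, smul_eq_mul, smul_eq_mul,
      mul_zero, zero_add] at h3
    refine ⟨?_, ?_⟩
    · rcases mul_eq_zero.1 h1 with h | h
      · exact h
      · exact absurd h h2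
    · rcases mul_eq_zero.1 h3 with h | h
      · exact h
      · exact absurd h h2
  have hPnd : NDeg Q P := by
    unfold NDeg
    rw [Submodule.disjoint_def]
    intro v hv hv'
    obtain ⟨α, β, rfl⟩ := hmemP v hv
    rw [mem_perp_iff] at hv'
    obtain ⟨hα, hβ⟩ := hzero α β (hv' u₁ hu₁P) (hv' u₂ hu₂P)
    rw [hα, hβ, zero_smul, zero_smul, add_zero]
  have hPdim : finrank F P = 2 := by
    have hli : LinearIndependent F ![u₁, u₂] := by
      rw [LinearIndependent.pair_iff]
      intro s t hst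
      apply hzero s t
      · rw [hst, polar_zero_right]
      · rw [hst, polar_zero_right]
    have h := finrank_span_eq_card hli
    have hr : Set.range ![u₁, u₂] = {u₁, u₂} := by
      simp [Matrix.range_cons]
      exact Set.pair_comm _ _
    rw [hr] at h
    rw [hP, h]
    simp
  have h5 := finrank_perp_add hQ P
  have h6 := two_mul_finrank_le_of_isTS hQ (hPnd.perp hQ) hW hWP
  omega

end abstract

end Cfsg.Agent.Lib.Helper2.OrthEl
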