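import Mathlib
import Cfsg.Agent.Lib.Helper2.OrthElW

set_option autoImplicit false

/-!
The concrete involution of `Ω_{2d+1}(q)`, `q ≡ 3 (mod 4)`, without invariant maximal totally
singular subspace.
-/

namespace Cfsg.Agent.Lib.Helper2.OrthEl

open Module QuadraticMap
open scoped Matrix
open Cfsg.Agent.Lib.Helper2.MaxTS2
open Cfsg.Agent.H9SemiInv
open Cfsg.Agent.Lib.Helper2.OrthCard

section matrix

variable {F : Type*} [Field F] {ι : Type} [Fintype ι] [DecidableEq ι]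
variable {Q : QuadraticForm F (ι → F)}

theorem two_refl_mulVec {u₁ u₂ : ι → F} (hu₁ : Q u₁ = 1) (hu₂ : Q u₂ = 1)
    (h12 : polar (⇑Q) u₁ u₂ = 0) (h₁ : Q u₁ ≠ 0) (h₂ : Q u₂ ≠ 0) (v : ι → F) :
    ((CDG.refl Q u₁ h₁ * CDG.refl Q u₂ h₂ : ↥(Cfsg.isometryGroup F ⇑Q)) :
      Matrix.GeneralLinearGroup ι F).1 *ᵥ v =
      v - polar (⇑Q) u₁ v • u₁ - polar (⇑Q) u₂ v • u₂ := by
  rw [CDG.mul_mulVec, CDG.refl_mulVec, CDG.refl_mulVec, hu₁, hu₂, inv_one, one_mul, one_mul,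
    polar_sub_right, polar_smul_right, h12, smul_zero, sub_zero]
  abel

theorem two_refl_sq (h2 : (2 : F) ≠ 0) {u₁ u₂ : ι → F} (hu₁ : Q u₁ = 1) (hu₂ : Q u₂ = 1)
    (h12 : polar (⇑Q) u₁ u₂ = 0) (h₁ : Q u₁ ≠ 0) (h₂ : Q u₂ ≠ 0) :
    (CDG.refl Q u₁ h₁ * CDG.refl Q u₂ h₂) * (CDG.refl Q u₁ h₁ * CDG.refl Q u₂ h₂) = 1 ∧
      ((CDG.refl Q u₁ h₁ * CDG.refl Q u₂ h₂ : ↥(Cfsg.isometryGroup F ⇑Q)) :
        Matrix.GeneralLinearGroup ι F) ≠ 1 := by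
  have h11 : polar (⇑Q) u₁ u₁ = 2 := by rw [polar_self, hu₁, two_smul]; norm_num
  have h22 : polar (⇑Q) u₂ u₂ = 2 := by rw [polar_self, hu₂, two_smul]; norm_num
  have h21 : polar (⇑Q) u₂ u₁ = 0 := by rw [polar_comm]; exact h12
  constructor
  · apply CDG.iso_ext
    intro v
    rw [CDG.mul_mulVec (CDG.refl Q u₁ h₁ * CDG.refl Q u₂ h₂), CDG.one_mulVec',
      two_refl_mulVec hu₁ hu₂ h12 h₁ h₂ v, two_refl_mulVec hu₁ hu₂ h12 h₁ h₂]
    simp only [polar_sub_right, polar_smul_right, h11, h12, h21, h22, smul_eq_mul, mul_zero,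
      sub_zero]
    module
  · intro h
    have h3 := two_refl_mulVec hu₁ hu₂ h12 h₁ h₂ u₁
    rw [h, h11, h21, zero_smul, sub_zero] at h3
    have h4 : (1 : Matrix.GeneralLinearGroup ι F).1 *ᵥ u₁ = u₁ := Matrix.one_mulVec u₁
    rw [h4] at h3
    have h5 : (2 : F) • u₁ = 0 := by
      have : u₁ - (u₁ - (2 : F) • u₁) = (2 : F) • u₁ := by abel
      rw [← this, ← h3, sub_self]
    rcases smul_eq_zero.1 h5 with h6 | h6
    · exact h2 h6
    · rw [h6, QuadraticMap.map_zero] at hu₁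
      exact zero_ne_one hu₁

end matrix

section concrete

variable {F : Type*} [Field F]

/-- the first vector -/
def vecA (d : ℕ) (F : Type*) [Field F] : Unit ⊕ (Fin d ⊕ Fin d) → F := Pi.single (Sum.inl ()) 1

/-- the second vector -/
def vecB (d : ℕ) (hd : 1 ≤ d) (F : Type*) [Field F] : Unit ⊕ (Fin d ⊕ Fin d) → F :=
  Pi.single (Sum.inr (Sum.inl ⟨0, hd⟩)) 1 + Pi.single (Sum.inr (Sum.inr ⟨0, hd⟩)) 1

theorem quadFormOdd_pair (d : ℕ) (hd : 1 ≤ d) (α β : F) :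
    Cfsg.quadFormOdd d F (α • vecA d F + β • vecB d hd F) = α * α + β * β := by
  unfold Cfsg.quadFormOdd vecA vecB
  rw [Finset.sum_eq_single (⟨0, hd⟩ : Fin d)]
  · simp [Pi.single_apply]
    ring
  · intro i _ hi
    simp [Pi.single_apply, hi]
  · intro h
    exact absurd (Finset.mem_univ _) h

theorem QOd_vecA (d : ℕ) (hd : 1 ≤ d) : QOd d F (vecA d F) = 1 := by
  have h := quadFormOdd_pair (F := F) d hd 1 0
  rw [one_smul, zero_smul, add_zero, ← QOd_coe] at h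
  rw [h]
  ring

theorem QOd_vecB (d : ℕ) (hd : 1 ≤ d) : QOd d F (vecB d hd F) = 1 := by
  have h := quadFormOdd_pair (F := F) d hd 0 1
  rw [one_smul, zero_smul, zero_add, ← QOd_coe] at h
  rw [h]
  ring

theorem polar_vecA_vecB (d : ℕ) (hd : 1 ≤ d) :
    polar (⇑(QOd d F)) (vecA d F) (vecB d hd F) = 0 := by
  unfold polar
  have h := quadFormOdd_pair (F := F) d hd 1 1
  rw [one_smul, one_smul, ← QOd_coe] at h
  rw [h, QOd_vecA d hd, QOd_vecB d hd]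
  ring

/-- for `q ≡ 3 (mod 4)` some involution of `Ω_{2d+1}(q)` fixes no totally singular subspace of
dimension `d` -/
theorem exists_bad_two [Fintype F] (hodd : Odd (Fintype.card F)) (d : ℕ) (hd : 1 ≤ d)
    (h43 : Fintype.card F % 4 = 3) :
    ∃ x : Matrix.GeneralLinearGroup (Unit ⊕ (Fin d ⊕ Fin d)) F,
      x ∈ Cfsg.Geo.omegaGL (Cfsg.quadFormOdd d F) ∧ orderOf x = 2 ∧
      ∀ W : Submodule F (Unit ⊕ (Fin d ⊕ Fin d) → F),
        (∀ w ∈ W, Cfsg.quadFormOdd d F w = 0) →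
        W.map (Matrix.toLin' (x : Matrix (Unit ⊕ (Fin d ⊕ Fin d)) (Unit ⊕ (Fin d ⊕ Fin d)) F)) ≤ W →
        finrank F W < d := by
  classical
  have h2 : (2 : F) ≠ 0 := two_ne_zero_of_odd_card hodd
  have hQ := QOd_nondeg (F := F) h2 d
  have hns : ¬ IsSquare (-1 : F) := by
    rw [FiniteField.isSquare_neg_one_iff]
    exact not_not.2 h43
  have hu₁ := QOd_vecA (F := F) d hd
  have hu₂ := QOd_vecB (F := F) d hd
  have h12 := polar_vecA_vecB (F := F) d hd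
  have h₁ : QOd d F (vecA d F) ≠ 0 := by rw [hu₁]; exact one_ne_zero
  have h₂ : QOd d F (vecB d hd F) ≠ 0 := by rw [hu₂]; exact one_ne_zero
  have hn : 2 ≤ Fintype.card (Unit ⊕ (Fin d ⊕ Fin d)) := by
    simp only [Fintype.card_sum, Fintype.card_unit, Fintype.card_fin]
    omega
  obtain ⟨g, hg⟩ : ∃ g, g = CDG.refl (QOd d F) (vecA d F) h₁ * CDG.refl (QOd d F) (vecB d hd F) h₂ :=
    ⟨_, rfl⟩
  have hgc : g ∈ commutator ↥(Cfsg.isometryGroup F ⇑(QOd d F)) := by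
    rw [hg]
    exact PhiDiag.refl_mul_refl_mem_commutator h2 hQ hn _ _ h₁ h₂ ⟨1, by rw [hu₁, hu₂]; ring⟩
  obtain ⟨hgg, hg1⟩ := two_refl_sq h2 hu₁ hu₂ h12 h₁ h₂
  rw [← hg] at hgg hg1
  have hy : ∀ v, Matrix.toLin' ((g : Matrix.GeneralLinearGroup (Unit ⊕ (Fin d ⊕ Fin d)) F) :
      Matrix (Unit ⊕ (Fin d ⊕ Fin d)) (Unit ⊕ (Fin d ⊕ Fin d)) F) v =
      v - polar (⇑(QOd d F)) (vecA d F) v • vecA d F -
        polar (⇑(QOd d F)) (vecB d hd F) v • vecB d hd F := by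
    intro v
    rw [Matrix.toLin'_apply, hg]
    exact two_refl_mulVec hu₁ hu₂ h12 h₁ h₂ v
  have main : ∀ (Q₀ : (Unit ⊕ (Fin d ⊕ Fin d) → F) → F), ⇑(QOd d F) = Q₀ →
      (g : Matrix.GeneralLinearGroup (Unit ⊕ (Fin d ⊕ Fin d)) F) ∈ Cfsg.Geo.omegaGL Q₀ ∧
      ∀ W : Submodule F (Unit ⊕ (Fin d ⊕ Fin d) → F), (∀ w ∈ W, Q₀ w = 0) →
        W.map (Matrix.toLin' ((g : Matrix.GeneralLinearGroup (Unit ⊕ (Fin d ⊕ Fin d)) F) :
          Matrix (Unit ⊕ (Fin d ⊕ Fin d)) (Unit ⊕ (Fin d ⊕ Fin d)) F)) ≤ W →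
        finrank F W < d := by
    intro Q₀ hQ₀
    subst hQ₀
    refine ⟨Subgroup.mem_map.2 ⟨g, hgc, rfl⟩, ?_⟩
    intro W hW hmap
    exact finrank_lt_of_inv_pair h2 hQ hns hu₁ hu₂ h12 hy d (finrank_odd_space d) W
      ((inv_iff _ W).2 hmap) hW
  obtain ⟨hmem, hno⟩ := main _ (QOd_coe d)
  refine ⟨g, hmem, ?_, hno⟩
  apply orderOf_eq_prime
  · have := congrArg Subtype.val hgg
    rw [pow_two]
    exact this
  · exact hg1

end concrete

end Cfsg.Agent.Lib.Helper2.OrthEl
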