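import Mathlib
import Cfsg.Agent.Lib.Helper5.UniO8
import Cfsg.Agent.Lib.Helper5.QuadOdd

set_option autoImplicit false

/-!
The case `r = p` of the row on elliptic subspaces: a unipotent element of `Ω_{2d+1}(q)` of order
`p` all of whose invariant nondegenerate subspaces of even dimension are of plus type
(Jordan type `(2^d, 1)` for `d` even, `(3, 2^(d-1))` for `d` odd).
-/

open Module

namespace Cfsg.Agent.Lib.Helper2.OrthNd

open Cfsg.Agent.Lib.Helper5.UniO

universe u

section sub
variable {F : Type u} [Field F] {ι : Type} [Fintype ι] [DecidableEq ι]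

/-- `sub_partition` of helper5 with the additional information that the powers of the nilpotent
part vanish on the subspace as the sub-partition predicts -/
theorem sub_partition' (h2 : (2 : F) ≠ 0) (Q : QuadraticForm F (ι → F)) (x : GL ι F)
    (hx : x ∈ Cfsg.isometryGroup F ⇑Q)
    (hnil : IsNilpotent (Matrix.toLin' (x : Matrix ι ι F) - 1)) {μ : Multiset ℕ}
    (hμ : HasJT (Matrix.toLin' (x : Matrix ι ι F) - 1) μ) (W : Submodule F (ι → F))
    (hW : Cfsg.Geo.IsNondegenerateOn (QuadraticMap.polar ⇑Q) W)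
    (hxW : W.map (Matrix.toLin' (x : Matrix ι ι F)) ≤ W) :
    ∃ ν : Multiset ℕ, ν ≤ μ ∧ ν.sum = finrank F W ∧ (∀ e, Even e → Even (ν.count e)) ∧
      ν.card = finrank F ↥(W ⊓ LinearMap.ker (Matrix.toLin' (x : Matrix ι ι F) - 1)) ∧
      ∀ k, (∀ a ∈ ν, a ≤ k) → ∀ w ∈ W, ((Matrix.toLin' (x : Matrix ι ι F) - 1) ^ k) w = 0 := by
  classical
  set X : Module.End F (ι → F) := Matrix.toLin' (x : Matrix ι ι F) with hX
  set N : Module.End F (ι → F) := X - 1 with hN
  set B : LinearMap.BilinForm F (ι → F) := QuadraticMap.polarBilin Q with hB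
  have hBapp : ∀ u v, B u v = QuadraticMap.polar (⇑Q) u v := fun u v => rfl
  have hBX : ∀ u v, B (X u) (X v) = B u v := fun u v => polar_isometry (⇑Q) x hx u v
  have hBsymm : ∀ u v, B u v = B v u := fun u v => QuadraticMap.polar_comm _ _ _
  have hXW : ∀ v ∈ W, X v ∈ W := fun v hv => hxW (Submodule.mem_map_of_mem hv)
  have hmapeq := map_eq_of_map_le x W hxW
  have hNW : ∀ v ∈ W, N v ∈ W := by
    intro v hv
    rw [hN, LinearMap.sub_apply, Module.End.one_apply]
    exact W.sub_mem (hXW v hv) hv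
  -- the orthogonal complement
  have hrefl : B.IsRefl := fun u v h => by rw [hBsymm, h]
  have hres : (B.restrict W).Nondegenerate := by
    constructor
    · rintro ⟨w, hw⟩ h
      by_contra hne
      have hw0 : w ≠ 0 := fun h0 => hne (Subtype.ext h0)
      obtain ⟨-, y, hy, hy0⟩ := hW w hw hw0
      exact hy0 (h ⟨y, hy⟩)
    · rintro ⟨w, hw⟩ h
      by_contra hne
      have hw0 : w ≠ 0 := fun h0 => hne (Subtype.ext h0)
      obtain ⟨⟨y, hy, hy0⟩, -⟩ := hW w hw hw0
      exact hy0 (h ⟨y, hy⟩)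
  have hc : IsCompl W (B.orthogonal W) :=
    LinearMap.BilinForm.isCompl_orthogonal_of_restrict_nondegenerate hrefl hres
  have hXW' : ∀ v ∈ B.orthogonal W, X v ∈ B.orthogonal W := by
    intro v hv
    rw [LinearMap.BilinForm.mem_orthogonal_iff] at hv ⊢
    intro w hw
    rw [← hmapeq] at hw
    obtain ⟨w', hw', rfl⟩ := hw
    show B (X w') (X v) = 0
    rw [hBX]
    exact hv w' hw'
  have hNW' : ∀ v ∈ B.orthogonal W, N v ∈ B.orthogonal W := by
    intro v hv
    rw [hN, LinearMap.sub_apply, Module.End.one_apply]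
    exact (B.orthogonal W).sub_mem (hXW' v hv) hv
  obtain ⟨ν, hν⟩ := exists_hasJT (N.restrict hNW) (isNilpotent_restrict N W hNW hnil)
  obtain ⟨ν', hν'⟩ := exists_hasJT (N.restrict hNW') (isNilpotent_restrict N _ hNW' hnil)
  have hsum := hν.of_isCompl hc hNW hNW' hν'
  have hμeq : μ = ν + ν' := hμ.unique hsum
  have hνsum := hν.sum_eq (isNilpotent_restrict N W hNW hnil)
  refine ⟨ν, ?_, hνsum, ?_, ?_, ?_⟩
  · rw [hμeq]
    exact Multiset.le_add_right ν ν'
  · -- parity on `W`
    have hinjW : Function.Injective (X.restrict hXW) := by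
      rintro ⟨a, ha⟩ ⟨b, hb⟩ h
      apply Subtype.ext
      apply toLin'_injective x
      exact congrArg Subtype.val h
    let xW : ↥W ≃ₗ[F] ↥W := LinearEquiv.ofInjectiveEndo (X.restrict hXW) hinjW
    have hxW1 : xW.toLinearMap - 1 = N.restrict hNW := by
      ext ⟨a, ha⟩ : 2
      simp only [LinearMap.sub_apply, LinearEquiv.coe_coe, Module.End.one_apply,
        LinearMap.restrict_apply, xW, LinearEquiv.coe_ofInjectiveEndo, hN]
      rfl
    have hsymmW : (B.restrict W).IsSymm := ⟨fun a b => hBsymm a b⟩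
    have hisoW : ∀ a b, B.restrict W (xW a) (xW b) = B.restrict W a b := by
      rintro ⟨a, ha⟩ ⟨b, hb⟩
      exact hBX a b
    have hnilW : IsNilpotent (xW.toLinearMap - 1) := by
      rw [hxW1]
      exact isNilpotent_restrict N W hNW hnil
    have hjtW : HasJT (xW.toLinearMap - 1) ν := by
      rw [hxW1]
      exact hν
    exact hjtW.even_count_of_isometry h2 (B.restrict W) hsymmW hres xW hisoW hnilW
  · rw [hν.card_eq, finrank_ker_restrict]
  · intro k hk w hw
    have h0 := hν.pow_eq_zero hνsum hk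
    rw [Module.End.pow_restrict k hNW] at h0
    have h1 := congrArg (fun f : ↥W →ₗ[F] ↥W => ((f ⟨w, hw⟩ : ↥W) : ι → F)) h0
    simpa using h1

/-- a local version of `plusType_of_sq_zero` -/
theorem plusType_of_sq_zero_on (h2 : (2 : F) ≠ 0) (Q : QuadraticForm F (ι → F)) (x : GL ι F)
    (hx : x ∈ Cfsg.isometryGroup F ⇑Q) (W : Submodule F (ι → F))
    (hxW : W.map (Matrix.toLin' (x : Matrix ι ι F)) ≤ W)
    (hsq : ∀ w ∈ W, ((Matrix.toLin' (x : Matrix ι ι F) - 1 : Module.End F (ι → F)) ^ 2) w = 0)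
    (hker : 2 * finrank F ↥(W ⊓ LinearMap.ker (Matrix.toLin' (x : Matrix ι ι F) - 1)) =
      finrank F W) :
    Cfsg.Geo.IsPlusTypeOn ⇑Q W := by
  classical
  set X : Module.End F (ι → F) := Matrix.toLin' (x : Matrix ι ι F) with hX
  set N : Module.End F (ι → F) := X - 1 with hN
  have hBX : ∀ u v, QuadraticMap.polar (⇑Q) (X u) (X v) = QuadraticMap.polar (⇑Q) u v :=
    fun u v => polar_isometry (⇑Q) x hx u v
  have hXW : ∀ v ∈ W, X v ∈ W := fun v hv => hxW (Submodule.mem_map_of_mem hv)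
  have hNW : ∀ v ∈ W, N v ∈ W := by
    intro v hv
    rw [hN, LinearMap.sub_apply, Module.End.one_apply]
    exact W.sub_mem (hXW v hv) hv
  have hXN : ∀ v, X v = v + N v := by
    intro v
    rw [hN, LinearMap.sub_apply, Module.End.one_apply]
    abel
  refine ⟨W.map N, ?_, ?_, ?_⟩
  · rintro _ ⟨w, hw, rfl⟩
    exact hNW w hw
  · rintro _ ⟨w, hw, rfl⟩
    have hNN : N (N w) = 0 := by
      have := hsq w hw
      rwa [pow_two, Module.End.mul_apply] at this
    have h1 : X (N w) = N w := by rw [hXN, hNN, add_zero]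
    have h3 := hBX w (N w)
    rw [h1, hXN, QuadraticMap.polar_add_left] at h3
    have h4 : QuadraticMap.polar (⇑Q) (N w) (N w) = 0 := by
      have := h3
      linear_combination this
    rw [QuadraticMap.polar_self, two_smul, ← two_mul] at h4
    rcases mul_eq_zero.1 h4 with h | h
    · exact absurd h h2
    · exact h
  · have := finrank_map_add N W
    omega

end sub

section comb

/-- sub-multisets of `a ::ₘ (2^n)`, with the number of parts -/
theorem le_one_two_split' (ν : Multiset ℕ) (a n : ℕ) (ha : a ≠ 2)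
    (h : ν ≤ a ::ₘ Multiset.replicate n 2) (hev : ∀ e : ℕ, Even e → Even (ν.count e)) :
    ∃ ε₁ t : ℕ, ε₁ ≤ 1 ∧ Even t ∧ ν.sum = ε₁ * a + 2 * t ∧ ν.card = ε₁ + t ∧
      (ε₁ = 0 → ∀ b ∈ ν, b ≤ 2) := by
  obtain ⟨ε₁, hε₁, ν₀, hν₀, rfl⟩ := le_cons_split ν _ _ h
  obtain ⟨t, -, rfl⟩ := Multiset.le_replicate_iff.1 hν₀
  refine ⟨ε₁, t, hε₁, ?_, ?_, ?_, ?_⟩
  · have := hev 2 even_two
    rw [Multiset.count_add, Multiset.count_replicate, Multiset.count_replicate_self, if_neg ha,
      zero_add] at this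
    exact this
  · rw [Multiset.sum_add, Multiset.sum_replicate, Multiset.sum_replicate, smul_eq_mul, smul_eq_mul]
    ring
  · rw [Multiset.card_add, Multiset.card_replicate, Multiset.card_replicate]
  · intro h0 b hb
    rw [h0, Multiset.replicate_zero, zero_add] at hb
    rw [Multiset.eq_of_mem_replicate hb]

end comb

end Cfsg.Agent.Lib.Helper2.OrthNd
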