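import Mathlib
import Cfsg.Agent.Lib.Helper2.OrthNdU

set_option autoImplicit false

/-!
The bad unipotent element for the row on elliptic subspaces.
-/

open Module

namespace Cfsg.Agent.Lib.Helper2.OrthNd

open Cfsg.Agent.Lib.Helper5.UniO

universe u

theorem exists_bad_unip {F : Type u} [Field F] [Fintype F] (p : ℕ) [Fact p.Prime] [CharP F p]
    (hqodd : Odd (Fintype.card F)) (d m : ℕ) (hd : 3 ≤ d) (hme : Even m) :
    ∃ x : GL (Unit ⊕ (Fin d ⊕ Fin d)) F, x ∈ Cfsg.Geo.omegaGL (Cfsg.quadFormOdd d F) ∧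
      orderOf x = p ∧
      ∀ W : Submodule F (Unit ⊕ (Fin d ⊕ Fin d) → F), finrank F W = m →
        Cfsg.Geo.IsNondegenerateOn (QuadraticMap.polar (Cfsg.quadFormOdd d F)) W →
        W.map (Matrix.toLin'
          (x : Matrix (Unit ⊕ (Fin d ⊕ Fin d)) (Unit ⊕ (Fin d ⊕ Fin d)) F)) ≤ W →
        Cfsg.Geo.IsPlusTypeOn (Cfsg.quadFormOdd d F) W := by
  classical
  have h2 := two_ne_zero_of_odd_card hqodd
  have hpodd := odd_char_of_odd_card (F := F) p hqodd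
  have hp3 : 3 ≤ p := by
    have := (Fact.out : p.Prime).two_le
    obtain ⟨r, hr⟩ := hpodd
    omega
  have hcard : Fintype.card (Unit ⊕ (Fin d ⊕ Fin d)) = 2 * d + 1 := by
    rw [Fintype.card_sum, Fintype.card_sum, Fintype.card_fin, Fintype.card_unit]
    ring
  have hcoe := Cfsg.Agent.Lib.Helper5.QuadOdd.QO_coe (F := F) d
  obtain ⟨a₀, n₀, ha₀odd, ha₀le, hn₀even, hsum, hn₀pos, ha₀pos⟩ : ∃ a₀ n₀ : ℕ, Odd a₀ ∧ a₀ ≤ 3 ∧
      Even n₀ ∧ a₀ + 2 * n₀ = 2 * d + 1 ∧ 1 ≤ n₀ ∧ 0 < a₀ := by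
    rcases Nat.even_or_odd d with h | h
    · exact ⟨1, d, odd_one, by omega, h, by omega, by omega, by omega⟩
    · refine ⟨3, d - 1, by decide, le_rfl, ?_, by omega, by omega, by omega⟩
      obtain ⟨r, hr⟩ := h
      exact ⟨r, by omega⟩
  have ha₀2 : a₀ ≠ 2 := by
    rintro rfl
    exact (Nat.not_even_iff_odd.2 ha₀odd) even_two
  set μ : Multiset ℕ := a₀ ::ₘ Multiset.replicate n₀ 2 with hμdef
  have hμ1 : ∀ e ∈ μ, 0 < e ∧ e ≤ p := by
    intro e he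
    rw [hμdef, Multiset.mem_cons] at he
    rcases he with rfl | he
    · exact ⟨ha₀pos, by omega⟩
    · rw [Multiset.eq_of_mem_replicate he]
      omega
  have hμ2 : ∀ e : ℕ, Even e → Even (μ.count e) := fun e he =>
    count_cons_replicate_two a₀ n₀ e he ha₀odd hn₀even
  have hμ3 : μ.sum = 2 * d + 1 := by
    rw [hμdef, Multiset.sum_cons, Multiset.sum_replicate, smul_eq_mul, ← hsum]
    ring
  have hodd : ∃ a ∈ μ, Odd a := ⟨a₀, Multiset.mem_cons_self _ _, ha₀odd⟩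
  have h2le : ∃ a ∈ μ, 2 ≤ a :=
    ⟨2, Multiset.mem_cons_of_mem (Multiset.mem_replicate.2 ⟨by omega, rfl⟩), le_rfl⟩
  obtain ⟨eT, hT⟩ := Cfsg.Agent.Lib.Helper1.DiagForm.odd_diag (F := F) h2 d (Sum.inl ())
  obtain ⟨x, hxO, hjt⟩ := exists_unip_of_wss h2
    (Cfsg.quadFormOdd d F) _ (by
      intro i
      by_cases hi : i = Sum.inl ()
      · rw [hi, Function.update_self]
        exact pow_ne_zero _ (neg_ne_zero.2 one_ne_zero)
      · rw [Function.update_of_ne hi]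
        exact one_ne_zero) eT hT μ (fun a ha => (hμ1 a ha).1) hμ2 (hμ3.trans hcard.symm) hodd
  have hxO' : x ∈ Cfsg.isometryGroup F ⇑(Cfsg.Agent.Lib.Helper5.QuadOdd.QO d F) := by
    rw [hcoe]; exact hxO
  obtain ⟨hΩ, hxp, hns, hnil⟩ := unip_facts p hqodd
    (Cfsg.Agent.Lib.Helper5.QuadOdd.QO d F) (Cfsg.Agent.Lib.Helper5.QuadOdd.QO_nondeg h2 d)
    (by omega) x hxO' μ hjt (hμ3.trans hcard.symm) (fun a ha => (hμ1 a ha).2) h2le
  rw [hcoe] at hΩ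
  have hx1 : x ≠ 1 := by
    intro h1
    apply hns 1
    rw [h1, Units.val_one, one_smul]
  refine ⟨x, hΩ, orderOf_eq_prime hxp hx1, ?_⟩
  intro W hWm hWnd hWx
  obtain ⟨ν, hle, hs, hev, hcardν, hpow⟩ := sub_partition' h2
    (Cfsg.Agent.Lib.Helper5.QuadOdd.QO d F) x hxO' hnil hjt W (by rw [hcoe]; exact hWnd) hWx
  obtain ⟨ε₁, t, hε₁, ht, hsum', hcard', hsmall⟩ := le_one_two_split' ν a₀ n₀ ha₀2 hle hev
  have hε0 : ε₁ = 0 := by
    rcases Nat.eq_zero_or_pos ε₁ with h | h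
    · exact h
    · exfalso
      have h1 : ε₁ = 1 := by omega
      rw [h1, one_mul, hs, hWm] at hsum'
      obtain ⟨b, hb⟩ := ha₀odd
      obtain ⟨c, hc⟩ := hme
      omega
  rw [hε0, zero_mul, zero_add] at hsum'
  rw [hε0, zero_add] at hcard'
  rw [← hcoe]
  apply plusType_of_sq_zero_on h2 (Cfsg.Agent.Lib.Helper5.QuadOdd.QO d F) x hxO' W hWx
    (hpow 2 (hsmall hε0))
  rw [← hcardν, hcard', ← hs, hsum']

end Cfsg.Agent.Lib.Helper2.OrthNd
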