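import Mathlib
import Cfsg.Prelude
import Cfsg.Agent.Lib.Helper5.IsoTransfer
import Cfsg.Agent.Lib.Helper5.ChevCongr

/-!
# Package PK-TRANSFER of S2413/S2414/S2415: transfer of two-generation
-/

set_option autoImplicit false

namespace Cfsg.Agent.Lib.Helper5.OrthGen

/-- the image of a generating pair under a surjective homomorphism is a generating pair -/
theorem closure_pair_map_top {A B : Type*} [Group A] [Group B] (f : A →* B)
    (hf : Function.Surjective f) (a b : A) (h : Subgroup.closure ({a, b} : Set A) = ⊤) :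
    Subgroup.closure ({f a, f b} : Set B) = ⊤ := by
  have h1 := Subgroup.map_top_of_surjective f hf
  rw [← h, MonoidHom.map_closure, Set.image_pair] at h1
  exact h1

/-- a subgroup contained in the closure of two of its elements is generated by them -/
theorem closure_pair_subtype_top {G : Type*} [Group G] (N : Subgroup G) (x y : G) (hx : x ∈ N)
    (hy : y ∈ N) (h : N ≤ Subgroup.closure ({x, y} : Set G)) :
    Subgroup.closure ({(⟨x, hx⟩ : ↥N), ⟨y, hy⟩} : Set ↥N) = ⊤ := by
  rw [eq_top_iff]
  intro z _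
  have h1 : (z : G) ∈ Subgroup.closure ({x, y} : Set G) := h z.2
  have h2 : Subgroup.closure ({x, y} : Set G) =
      (Subgroup.closure ({(⟨x, hx⟩ : ↥N), ⟨y, hy⟩} : Set ↥N)).map N.subtype := by
    rw [MonoidHom.map_closure, Set.image_pair]
    rfl
  rw [h2] at h1
  obtain ⟨w, hw, hwz⟩ := h1
  have : w = z := Subtype.ext hwz
  rw [← this]
  exact hw

/-- abstract transfer: if `Ω(G) = G'` lies in the subgroup generated by two of its elements, then
for every group `H` isomorphic to `G` the central quotient of `H'` is generated by two elements -/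
theorem two_gen_of_mulEquiv {G H : Type*} [Group G] [Group H] (e : H ≃* G) (x y : G)
    (hx : x ∈ commutator G) (hy : y ∈ commutator G)
    (h : commutator G ≤ Subgroup.closure ({x, y} : Set G)) :
    ∃ a b : ↥(commutator H) ⧸ Subgroup.center ↥(commutator H),
      Subgroup.closure ({a, b} : Set (↥(commutator H) ⧸ Subgroup.center ↥(commutator H))) = ⊤ := by
  have h1 := closure_pair_subtype_top (commutator G) x y hx hy h
  let ec : ↥(commutator G) ≃* ↥(commutator H) :=
    (Cfsg.Agent.Lib.Helper5.ChevCongr.commutatorCongr e).symm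
  have h2 := closure_pair_map_top ec.toMonoidHom ec.surjective _ _ h1
  have h3 := closure_pair_map_top (QuotientGroup.mk' (Subgroup.center ↥(commutator H)))
    (QuotientGroup.mk'_surjective _) _ _ h2
  exact ⟨_, _, h3⟩

/-- the orthogonal form: transfer along a linear isometry of the forms -/
theorem two_gen_POmega {F : Type*} [Field F] {ι₁ ι₂ : Type} [Fintype ι₁] [DecidableEq ι₁]
    [Fintype ι₂] [DecidableEq ι₂] (Q₁ : (ι₁ → F) → F) (Q₂ : (ι₂ → F) → F)
    (φ : (ι₁ → F) ≃ₗ[F] (ι₂ → F)) (hφ : ∀ v, Q₂ (φ v) = Q₁ v)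
    (x y : ↥(Cfsg.isometryGroup F Q₂))
    (hx : x ∈ commutator ↥(Cfsg.isometryGroup F Q₂))
    (hy : y ∈ commutator ↥(Cfsg.isometryGroup F Q₂))
    (h : commutator ↥(Cfsg.isometryGroup F Q₂) ≤
      Subgroup.closure ({x, y} : Set ↥(Cfsg.isometryGroup F Q₂))) :
    ∃ a b : Cfsg.POmega F Q₁, Subgroup.closure ({a, b} : Set (Cfsg.POmega F Q₁)) = ⊤ :=
  two_gen_of_mulEquiv (Cfsg.Agent.Lib.Helper5.IsoTransfer.isoEquiv Q₁ Q₂ φ hφ) x y hx hy h

end Cfsg.Agent.Lib.Helper5.OrthGen
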