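import Mathlib
import Cfsg.Agent.Lib.Helper2.Spinor3
import Cfsg.Agent.Lib.Helper2.OrthTwo8
import Cfsg.Agent.Lib.Helper2.Witt3
import Cfsg.Agent.Lib.Helper2.Siegel

set_option autoImplicit false

namespace Cfsg.Agent.Lib.Helper2

namespace OrthTransp

open Matrix Cfsg.Agent.Lib.Helper2.ReflGen Cfsg.Agent.Lib.Helper2.CDG

variable {F : Type*} [Field F] {ι : Type} [Fintype ι] [DecidableEq ι]
variable {Q : QuadraticForm F (ι → F)}

/-- a reflection over a field of characteristic two, at a vector of norm one -/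
theorem refl_mulVec₂ (h2 : (2 : F) = 0) (w : ι → F) (hw : Q w = 1) (x : ι → F) :
    ((refl Q w (by rw [hw]; exact one_ne_zero) : Matrix.GeneralLinearGroup ι F) : Matrix ι ι F) *ᵥ x
      = x + QuadraticMap.polar (⇑Q) x w • w := by
  rw [refl_mulVec, hw, inv_one, one_mul, QuadraticMap.polar_comm, sub_eq_add_neg, ← neg_smul]
  congr 2
  linear_combination (-QuadraticMap.polar (⇑Q) x w) * h2

theorem polar_self₂ (h2 : (2 : F) = 0) (w : ι → F) : QuadraticMap.polar (⇑Q) w w = 0 := by
  rw [polar_self, h2, zero_mul]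

/-- an isometry `g` over the field with two elements with `g - 1` of rank one is a reflection -/
theorem rank_one_isom (h2 : (2 : F) = 0) (h01 : ∀ a : F, a = 0 ∨ a = 1)
    (hQ : (QuadraticMap.polarBilin Q).Nondegenerate) (g : ↥(Cfsg.isometryGroup F ⇑Q))
    {w : ι → F} (hw : w ≠ 0)
    (hr : ∀ x, ∃ c : F, ((g : Matrix.GeneralLinearGroup ι F) : Matrix ι ι F) *ᵥ x - x = c • w)
    (hne : ∃ x₀, ((g : Matrix.GeneralLinearGroup ι F) : Matrix ι ι F) *ᵥ x₀ - x₀ = w) :
    ∃ hw1 : Q w = 1, g = refl Q w (by rw [hw1]; exact one_ne_zero) := by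
  choose φ hφ using hr
  obtain ⟨x₀, hx₀⟩ := hne
  have hgx : ∀ x, ((g : Matrix.GeneralLinearGroup ι F) : Matrix ι ι F) *ᵥ x = x + φ x • w := by
    intro x
    rw [← hφ x]
    abel
  have hφ₀ : φ x₀ = 1 := by
    have h1 := hφ x₀
    rw [hx₀] at h1
    have h3 : (1 - φ x₀) • w = 0 := by rw [sub_smul, one_smul, ← h1, sub_self]
    rcases smul_eq_zero.1 h3 with h4 | h4
    · linear_combination -h4
    · exact absurd h4 hw
  have hadd : ∀ x y, φ (x + y) = φ x + φ y := by
    intro x y
    have h1 := hgx (x + y)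
    rw [Matrix.mulVec_add, hgx x, hgx y] at h1
    have h3 : (φ x + φ y - φ (x + y)) • w = 0 := by
      rw [sub_smul, add_smul]
      have : x + φ x • w + (y + φ y • w) - (x + y + φ (x + y) • w) = 0 := by rw [h1, sub_self]
      rw [← this]
      abel
    rcases smul_eq_zero.1 h3 with h4 | h4
    · linear_combination -h4
    · exact absurd h4 hw
  have hkey : ∀ x, φ x * (φ x * Q w + QuadraticMap.polar (⇑Q) x w) = 0 := by
    intro x
    have h1 := iso_Q g x
    rw [hgx x, map_add_smul] at h1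
    linear_combination h1
  have hkey1 : ∀ x, φ x = 1 → QuadraticMap.polar (⇑Q) x w = Q w := by
    intro x hx
    have h1 := hkey x
    rw [hx, one_mul, one_mul] at h1
    linear_combination h1 - (Q w) * h2
  have hQw : Q w = 1 := by
    rcases h01 (Q w) with h0 | h1
    · exfalso
      apply hw
      apply hQ.2
      intro x
      show QuadraticMap.polar (⇑Q) x w = 0
      rcases h01 (φ x) with hx | hx
      · have h3 : φ (x + x₀) = 1 := by rw [hadd, hx, hφ₀, zero_add]
        have h4 := hkey1 _ h3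
        rw [QuadraticMap.polar_add_left, hkey1 x₀ hφ₀, h0, add_zero] at h4
        exact h4
      · rw [hkey1 x hx, h0]
    · exact h1
  refine ⟨hQw, ?_⟩
  apply iso_ext
  intro x
  rw [refl_mulVec₂ h2 w hQw, hgx x]
  congr 2
  rcases h01 (φ x) with hx | hx
  · have h3 : φ (x + x₀) = 1 := by rw [hadd, hx, hφ₀, zero_add]
    have h4 := hkey1 _ h3
    rw [QuadraticMap.polar_add_left, hkey1 x₀ hφ₀, hQw] at h4
    rw [hx]
    linear_combination -h4
  · rw [hx, hkey1 x hx, hQw]

end OrthTransp

end Cfsg.Agent.Lib.Helper2
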