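import Mathlib
import Cfsg.Agent.Lib.Helper2.OrthTransp1
import Cfsg.Prelude.Def_SporadicB

set_option autoImplicit false

namespace Cfsg.Agent.Lib.Helper2

namespace OrthTransp

open Matrix Module Cfsg.Agent.Lib.Helper2.ReflGen Cfsg.Agent.Lib.Helper2.CDG

variable {F : Type*} [Field F] {ι : Type} [Fintype ι] [DecidableEq ι]
variable {Q : QuadraticForm F (ι → F)}

theorem ne_zero_of_norm_one {w : ι → F} (hw : Q w = 1) : w ≠ 0 := by
  rintro rfl
  rw [QuadraticMap.map_zero] at hw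
  exact zero_ne_one hw

theorem exists_polar_one (hQ : (QuadraticMap.polarBilin Q).Nondegenerate) {w : ι → F}
    (hw : w ≠ 0) : ∃ y, QuadraticMap.polar (⇑Q) y w = 1 := by
  obtain ⟨y, hy⟩ : ∃ y, QuadraticMap.polar (⇑Q) y w ≠ 0 := by
    by_contra hcon
    push Not at hcon
    exact hw (hQ.2 w hcon)
  refine ⟨(QuadraticMap.polar (⇑Q) y w)⁻¹ • y, ?_⟩
  rw [QuadraticMap.polar_smul_left, smul_eq_mul, inv_mul_cancel₀ hy]

/-- the isometries with `g - 1` of rank one are the reflections -/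
theorem rank_one_iff (h2 : (2 : F) = 0) (h01 : ∀ a : F, a = 0 ∨ a = 1)
    (hQ : (QuadraticMap.polarBilin Q).Nondegenerate) (g : ↥(Cfsg.isometryGroup F ⇑Q)) :
    (((g : Matrix.GeneralLinearGroup ι F) : Matrix ι ι F) - 1).rank = 1 ↔
      ∃ (w : ι → F) (hw1 : Q w = 1), g = refl Q w (by rw [hw1]; exact one_ne_zero) := by
  have hsub : ∀ x, (((g : Matrix.GeneralLinearGroup ι F) : Matrix ι ι F) - 1) *ᵥ x =
      ((g : Matrix.GeneralLinearGroup ι F) : Matrix ι ι F) *ᵥ x - x := by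
    intro x
    rw [Matrix.sub_mulVec, Matrix.one_mulVec]
  constructor
  · intro hr
    have hr' : finrank F (LinearMap.range
        (((g : Matrix.GeneralLinearGroup ι F) : Matrix ι ι F) - 1).mulVecLin) = 1 := hr
    obtain ⟨v, hv0, hv⟩ := finrank_eq_one_iff'.1 hr'
    have hw0 : (v : ι → F) ≠ 0 := fun h0 => hv0 (Subtype.ext h0)
    have h1 : ∀ x, ∃ c : F,
        ((g : Matrix.GeneralLinearGroup ι F) : Matrix ι ι F) *ᵥ x - x = c • (v : ι → F) := by
      intro x
      obtain ⟨c, hc⟩ := hv ⟨_, LinearMap.mem_range_self _ x⟩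
      refine ⟨c, ?_⟩
      have := congrArg Subtype.val hc
      rw [← hsub]
      exact this.symm
    have h3 : ∃ x₀, ((g : Matrix.GeneralLinearGroup ι F) : Matrix ι ι F) *ᵥ x₀ - x₀ =
        (v : ι → F) := by
      obtain ⟨x₀, hx₀⟩ := v.2
      exact ⟨x₀, by rw [← hsub]; exact hx₀⟩
    obtain ⟨hw1, hg⟩ := rank_one_isom h2 h01 hQ g hw0 h1 h3
    exact ⟨v, hw1, hg⟩
  · rintro ⟨w, hw1, hg⟩
    have hw0 := ne_zero_of_norm_one hw1
    have hgx : ∀ x, ((g : Matrix.GeneralLinearGroup ι F) : Matrix ι ι F) *ᵥ x - x =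
        QuadraticMap.polar (⇑Q) x w • w := by
      intro x
      rw [hg, refl_mulVec₂ h2 w hw1, add_sub_cancel_left]
    have hrange : LinearMap.range
        (((g : Matrix.GeneralLinearGroup ι F) : Matrix ι ι F) - 1).mulVecLin =
        Submodule.span F {w} := by
      apply le_antisymm
      · rintro _ ⟨x, rfl⟩
        rw [Matrix.mulVecLin_apply, hsub, hgx]
        exact Submodule.smul_mem _ _ (Submodule.mem_span_singleton_self w)
      · rw [Submodule.span_singleton_le_iff_mem]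
        obtain ⟨y, hy⟩ := exists_polar_one hQ hw0
        refine ⟨y, ?_⟩
        rw [Matrix.mulVecLin_apply, hsub, hgx, hy, one_smul]
    show finrank F (LinearMap.range
      (((g : Matrix.GeneralLinearGroup ι F) : Matrix ι ι F) - 1).mulVecLin) = 1
    rw [hrange]
    exact finrank_span_singleton hw0

theorem refl_ne_one (h2 : (2 : F) = 0) (hQ : (QuadraticMap.polarBilin Q).Nondegenerate)
    (w : ι → F) (hw : Q w = 1) : refl Q w (by rw [hw]; exact one_ne_zero) ≠ 1 := by
  intro h1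
  have hw0 := ne_zero_of_norm_one hw
  obtain ⟨y, hy⟩ := exists_polar_one hQ hw0
  have h3 := refl_mulVec₂ h2 w hw y
  rw [h1, one_mulVec', hy, one_smul] at h3
  exact hw0 (left_eq_add.1 h3)

theorem refl_comm (h2 : (2 : F) = 0) (v w : ι → F) (hv : Q v = 1) (hw : Q w = 1)
    (hvw : QuadraticMap.polar (⇑Q) v w = 0) :
    refl Q v (by rw [hv]; exact one_ne_zero) * refl Q w (by rw [hw]; exact one_ne_zero) =
      refl Q w (by rw [hw]; exact one_ne_zero) * refl Q v (by rw [hv]; exact one_ne_zero) := by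
  have hwv : QuadraticMap.polar (⇑Q) w v = 0 := by rw [QuadraticMap.polar_comm]; exact hvw
  apply iso_ext
  intro x
  simp only [mul_mulVec, refl_mulVec₂ h2 v hv, refl_mulVec₂ h2 w hw, QuadraticMap.polar_add_left,
    QuadraticMap.polar_smul_left, hvw, hwv, smul_eq_mul, mul_zero, add_zero]
  abel

theorem refl_mul_cube (h2 : (2 : F) = 0) (v w : ι → F) (hv : Q v = 1) (hw : Q w = 1)
    (hvw : QuadraticMap.polar (⇑Q) v w = 1) :
    (refl Q v (by rw [hv]; exact one_ne_zero) * refl Q w (by rw [hw]; exact one_ne_zero)) ^ 3 =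
      1 := by
  have hwv : QuadraticMap.polar (⇑Q) w v = 1 := by rw [QuadraticMap.polar_comm]; exact hvw
  have hvv := polar_self₂ (Q := Q) h2 v
  have hww := polar_self₂ (Q := Q) h2 w
  apply iso_ext
  intro x
  obtain ⟨p, hp⟩ : ∃ p : F, p = QuadraticMap.polar (⇑Q) x v := ⟨_, rfl⟩
  obtain ⟨r, hr⟩ : ∃ r : F, r = QuadraticMap.polar (⇑Q) x w := ⟨_, rfl⟩
  rw [pow_succ, pow_two]
  simp only [mul_mulVec, one_mulVec', refl_mulVec₂ h2 v hv, refl_mulVec₂ h2 w hw,
    QuadraticMap.polar_add_left, QuadraticMap.polar_smul_left, hvw, hwv, hvv, hww, smul_eq_mul,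
    mul_zero, add_zero, mul_one, ← hp, ← hr]
  match_scalars
  · ring
  · linear_combination (4 * r + 2 * p) * h2
  · linear_combination (4 * p + 6 * r) * h2

end OrthTransp

end Cfsg.Agent.Lib.Helper2
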