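import Mathlib
import Cfsg.Agent.Lib.Helper2.OrthTransp2

set_option autoImplicit false

namespace Cfsg.Agent.Lib.Helper2

namespace OrthTransp

open Matrix Module Cfsg.Agent.Lib.Helper2.ReflGen Cfsg.Agent.Lib.Helper2.CDG

variable {F : Type*} [Field F] {ι : Type} [Fintype ι] [DecidableEq ι]
variable {Q : QuadraticForm F (ι → F)}

theorem sq_of_comm {G : Type*} [Group G] (a b : G) (ha : a * a = 1) (hb : b * b = 1)
    (hc : a * b = b * a) : (a * b) ^ 2 = 1 := by
  rw [pow_two]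
  calc a * b * (a * b) = a * (b * a) * b := by group
    _ = a * (a * b) * b := by rw [hc]
    _ = (a * a) * (b * b) := by group
    _ = 1 := by rw [ha, hb, one_mul]

/-- the isometry group is transitive on the vectors of norm one -/
theorem exists_map_norm_one (hQ : (QuadraticMap.polarBilin Q).Nondegenerate) (w₀ w : ι → F)
    (h₀ : Q w₀ = 1) (hw : Q w = 1) :
    ∃ k : ↥(Cfsg.isometryGroup F ⇑Q),
      ((k : Matrix.GeneralLinearGroup ι F) : Matrix ι ι F) *ᵥ w₀ = w := by
  have hw₀0 := ne_zero_of_norm_one h₀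
  have hw0 := ne_zero_of_norm_one hw
  obtain ⟨y, hy⟩ := exists_polar_one hQ hw₀0
  obtain ⟨α, hα⟩ : ∃ α : (ι → F) →ₗ[F] (ι → F), α = ((QuadraticMap.polarBilin Q).flip w₀).smulRight w :=
    ⟨_, rfl⟩
  have hαx : ∀ x, α x = QuadraticMap.polar (⇑Q) x w₀ • w := by
    intro x
    rw [hα]
    rfl
  have hαc : ∀ c : F, α (c • y) = c • w := by
    intro c
    rw [hαx, QuadraticMap.polar_smul_left, hy, smul_eq_mul, mul_one]
  -- use the line spanned by `w₀`; on it `α (c • w₀) = (c * polar w₀ w₀) • w`, so use `y`-normalised map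
  obtain ⟨β, hβ⟩ : ∃ β : (ι → F) →ₗ[F] (ι → F),
      β = ((QuadraticMap.polarBilin Q).flip y).smulRight w := ⟨_, rfl⟩
  have hβx : ∀ x, β x = QuadraticMap.polar (⇑Q) x y • w := by
    intro x
    rw [hβ]
    rfl
  have hyw₀ : QuadraticMap.polar (⇑Q) w₀ y = 1 := by rw [QuadraticMap.polar_comm]; exact hy
  have hβc : ∀ c : F, β (c • w₀) = c • w := by
    intro c
    rw [hβx, QuadraticMap.polar_smul_left, hyw₀, smul_eq_mul, mul_one]
  have hiso : ∀ x ∈ Submodule.span F {w₀}, Q (β x) = Q x := by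
    intro x hx
    obtain ⟨c, rfl⟩ := Submodule.mem_span_singleton.1 hx
    rw [hβc, QuadraticMap.map_smul, QuadraticMap.map_smul, h₀, hw]
  have hinj : ∀ x ∈ Submodule.span F {w₀}, β x = 0 → x = 0 := by
    intro x hx h0
    obtain ⟨c, rfl⟩ := Submodule.mem_span_singleton.1 hx
    rw [hβc] at h0
    rcases smul_eq_zero.1 h0 with h1 | h1
    · rw [h1, zero_smul]
    · exact absurd h1 hw0
  obtain ⟨g, hg, hgβ⟩ := Witt.witt Q hQ (Submodule.span F {w₀}) β hiso hinj
  refine ⟨Siegel.mkIso hQ (LinearMap.toMatrix' (g : (ι → F) →ₗ[F] (ι → F)))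
    (fun x => by rw [LinearMap.toMatrix'_mulVec]; exact hg x), ?_⟩
  rw [Siegel.mkIso_coe, LinearMap.toMatrix'_mulVec]
  have h1 := hgβ w₀ (Submodule.mem_span_singleton_self w₀)
  have h3 := hβc 1
  rw [one_smul, one_smul] at h3
  rw [h3] at h1
  exact h1

/-- over the field with two elements, the reflections of a nondegenerate quadratic space of
dimension at least five form a class of 3-transpositions -/
theorem three_transposition [Fintype F] (h2 : (2 : F) = 0) (h01 : ∀ a : F, a = 0 ∨ a = 1)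
    (hQ : (QuadraticMap.polarBilin Q).Nondegenerate) (hcard : 5 ≤ Fintype.card ι) :
    Cfsg.IsThreeTranspositionClass {g : ↥(Cfsg.isometryGroup F ⇑Q) |
      (((g : Matrix.GeneralLinearGroup ι F) : Matrix ι ι F) - 1).rank = 1} := by
  refine ⟨⟨?_, ?_⟩, ?_, ?_⟩
  · intro g hg
    obtain ⟨w, hw1, rfl⟩ := (rank_one_iff h2 h01 hQ g).1 hg
    haveI : Fact (Nat.Prime 2) := ⟨Nat.prime_two⟩
    apply orderOf_eq_prime
    · rw [pow_two]
      exact refl_mul_self w _
    · exact refl_ne_one h2 hQ w hw1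
  · intro g hg e he
    obtain ⟨v, hv1, rfl⟩ := (rank_one_iff h2 h01 hQ g).1 hg
    obtain ⟨w, hw1, rfl⟩ := (rank_one_iff h2 h01 hQ e).1 he
    rcases h01 (QuadraticMap.polar (⇑Q) v w) with hvw | hvw
    · left
      have hc := refl_comm h2 v w hv1 hw1 hvw
      have h1 := refl_mul_self (Q := Q) v (by rw [hv1]; exact one_ne_zero)
      have h3 := refl_mul_self (Q := Q) w (by rw [hw1]; exact one_ne_zero)
      exact sq_of_comm _ _ h1 h3 hc
    · right
      exact refl_mul_cube h2 v w hv1 hw1 hvw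
  · have hfr : 2 ≤ Module.finrank F (ι → F) := by
      rw [Module.finrank_fintype_fun_eq_card]; omega
    obtain ⟨w₀, hw₀⟩ := Cfsg.Agent.Lib.Helper5.exists_represents_one Q hQ hfr
    refine ⟨refl Q w₀ (by rw [hw₀]; exact one_ne_zero),
      (rank_one_iff h2 h01 hQ _).2 ⟨w₀, hw₀, rfl⟩, ?_⟩
    ext g
    show g ∈ _ ↔ IsConj _ g
    rw [isConj_iff]
    constructor
    · intro hg
      obtain ⟨w, hw1, rfl⟩ := (rank_one_iff h2 h01 hQ g).1 hg
      obtain ⟨k, hk⟩ := exists_map_norm_one hQ w₀ w hw₀ hw1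
      refine ⟨k, ?_⟩
      rw [Spinor.conj_refl]
      apply iso_ext
      intro x
      rw [refl_mulVec, refl_mulVec, hk]
    · rintro ⟨k, rfl⟩
      apply (rank_one_iff h2 h01 hQ _).2
      refine ⟨((k : Matrix.GeneralLinearGroup ι F) : Matrix ι ι F) *ᵥ w₀,
        by rw [iso_Q]; exact hw₀, ?_⟩
      rw [Spinor.conj_refl]
  · rw [eq_top_iff, ← OrthTwo.closure_R_eq_top₂ h2 hQ (Or.inr (by omega)) (by omega),
      Subgroup.closure_le]
    rintro g ⟨v, hv, hg⟩
    apply Subgroup.subset_closure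
    apply (rank_one_iff h2 h01 hQ g).2
    have hv1 : Q v = 1 := (h01 (Q v)).resolve_left hv
    exact ⟨v, hv1, Spinor.eq_refl_of_coe g v hv hg⟩

end OrthTransp

end Cfsg.Agent.Lib.Helper2
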