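import Mathlib

/-!
# S4587, package P10 (part 1): the projection of an internal direct product and the transfer
into the abelianization of a factor.
-/

set_option autoImplicit false

namespace Cfsg.Agent.Lib.Helper2.PAb.Nm

variable {Γ : Type*} [Group Γ]

/-- The projection of an internal direct product `R = Ra × Rb` onto `Ra`. -/
theorem exists_proj (R Ra Rb : Subgroup Γ) (hRa : Ra ≤ R) (hRb : Rb ≤ R) (hab : Ra ⊓ Rb = ⊥)
    (hsup : Ra ⊔ Rb = R) (hcomm : ∀ a ∈ Ra, ∀ b ∈ Rb, a * b = b * a) :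
    ∃ π : ↥R →* ↥Ra, (∀ a (ha : a ∈ Ra), π ⟨a, hRa ha⟩ = ⟨a, ha⟩) ∧
      (∀ b (hb : b ∈ Rb), π ⟨b, hRb hb⟩ = 1) := by
  classical
  have comm : ∀ (a : ↥Ra) (b : ↥Rb), Commute (Ra.subtype a) (Rb.subtype b) :=
    fun a b => hcomm a a.2 b b.2
  have hinj : Function.Injective (MonoidHom.noncommCoprod Ra.subtype Rb.subtype comm) := by
    rw [MonoidHom.noncommCoprod_injective]
    refine ⟨Ra.subtype_injective, Rb.subtype_injective, ?_⟩
    rw [Subgroup.range_subtype, Subgroup.range_subtype, disjoint_iff, hab]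
  have hrange : (MonoidHom.noncommCoprod Ra.subtype Rb.subtype comm).range = R := by
    rw [MonoidHom.noncommCoprod_range, Subgroup.range_subtype, Subgroup.range_subtype, hsup]
  let e : ↥Ra × ↥Rb ≃* ↥(MonoidHom.noncommCoprod Ra.subtype Rb.subtype comm).range :=
    MonoidHom.ofInjective hinj
  let c : ↥R ≃* ↥(MonoidHom.noncommCoprod Ra.subtype Rb.subtype comm).range :=
    MulEquiv.subgroupCongr hrange.symm
  refine ⟨(MonoidHom.fst ↥Ra ↥Rb).comp (e.symm.toMonoidHom.comp c.toMonoidHom), ?_, ?_⟩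
  · intro a ha
    have h1 : c ⟨a, hRa ha⟩ = e (⟨a, ha⟩, 1) := by
      apply Subtype.ext
      change a = (MonoidHom.noncommCoprod Ra.subtype Rb.subtype comm) (⟨a, ha⟩, 1)
      simp
    change (e.symm (c ⟨a, hRa ha⟩)).1 = ⟨a, ha⟩
    rw [h1, MulEquiv.symm_apply_apply]
  · intro b hb
    have h1 : c ⟨b, hRb hb⟩ = e (1, ⟨b, hb⟩) := by
      apply Subtype.ext
      change b = (MonoidHom.noncommCoprod Ra.subtype Rb.subtype comm) (1, ⟨b, hb⟩)
      simp
    change (e.symm (c ⟨b, hRb hb⟩)).1 = 1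
    rw [h1, MulEquiv.symm_apply_apply]

open Subgroup Subgroup.leftTransversals MulAction in
/-- The transfer of `ϕ : R → A` evaluated at an element `a` of the normal subgroup `R`, when all
conjugates of `a` by elements outside `R` are killed by `ϕ`. -/
theorem transfer_eq_of_moved [Finite Γ] {A : Type*} [CommGroup A] (R : Subgroup Γ) [R.Normal]
    (ϕ : ↥R →* A) (a : Γ) (ha : a ∈ R)
    (hkill : ∀ g : Γ, g ∉ R → ∀ h : g * a * g⁻¹ ∈ R, ϕ ⟨g * a * g⁻¹, h⟩ = 1) :
    MonoidHom.transfer ϕ a = ϕ ⟨a, ha⟩ := by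
  classical
  let T : R.LeftTransversal := default
  rw [MonoidHom.transfer_def ϕ T a]
  unfold Subgroup.leftTransversals.diff
  simp only
  letI := R.fintypeQuotientOfFiniteIndex
  have hconj : ∀ t : Γ, t⁻¹ * a * t ∈ R := fun t => by
    have := Subgroup.Normal.conj_mem (inferInstance : R.Normal) a ha t⁻¹
    simpa using this
  have hterm : ∀ q : Γ ⧸ R,
      ((T.2.leftQuotientEquiv q : Γ))⁻¹ * ((a • T).2.leftQuotientEquiv q : Γ) =
        ((T.2.leftQuotientEquiv q : Γ))⁻¹ * a * (T.2.leftQuotientEquiv q : Γ) := by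
    intro q
    rw [smul_apply_eq_smul_apply_inv_smul]
    have hq : a⁻¹ • q = q := by
      induction q using QuotientGroup.induction_on with
      | H t =>
        change ((a⁻¹ * t : Γ) : Γ ⧸ R) = (t : Γ ⧸ R)
        rw [QuotientGroup.eq]
        have := Subgroup.Normal.conj_mem (inferInstance : R.Normal) a ha t⁻¹
        simpa [mul_assoc] using this
    rw [hq, smul_eq_mul, mul_assoc]
  have hprod : ∀ q : Γ ⧸ R, ∀ hmem,
      ϕ ⟨((T.2.leftQuotientEquiv q : Γ))⁻¹ * ((a • T).2.leftQuotientEquiv q : Γ), hmem⟩ =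
        if q = ((1 : Γ) : Γ ⧸ R) then ϕ ⟨a, ha⟩ else 1 := by
    intro q hmem
    have hq := T.2.quotientGroupMk_leftQuotientEquiv q
    set t : Γ := (T.2.leftQuotientEquiv q : Γ) with ht
    have hval : (⟨t⁻¹ * ((a • T).2.leftQuotientEquiv q : Γ), hmem⟩ : ↥R) =
        ⟨t⁻¹ * a * t, hconj t⟩ := Subtype.ext (hterm q)
    rw [hval]
    split_ifs with hq1
    · -- `t ∈ R`
      have htR : t ∈ R := by
        have h2 : ((t : Γ) : Γ ⧸ R) = ((1 : Γ) : Γ ⧸ R) := hq.trans hq1
        rw [QuotientGroup.eq] at h2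
        have := R.inv_mem h2
        simpa using this
      have : (⟨t⁻¹ * a * t, hconj t⟩ : ↥R) = (⟨t, htR⟩ : ↥R)⁻¹ * ⟨a, ha⟩ * ⟨t, htR⟩ := rfl
      rw [this, map_mul, map_mul, map_inv, mul_comm, mul_inv_cancel_left]
    · have htR : t⁻¹ ∉ R := by
        intro h
        apply hq1
        rw [← hq]
        change ((t : Γ) : Γ ⧸ R) = ((1 : Γ) : Γ ⧸ R)
        rw [QuotientGroup.eq]
        simpa using h
      have h3 := hkill t⁻¹ htR (by simpa using hconj t)
      have : (⟨t⁻¹ * a * t, hconj t⟩ : ↥R) = ⟨t⁻¹ * a * t⁻¹⁻¹, by simpa using hconj t⟩ :=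
        Subtype.ext (by simp)
      rw [this]; exact h3
  rw [Finset.prod_congr rfl (fun q _ => hprod q _)]
  simp

end Cfsg.Agent.Lib.Helper2.PAb.Nm
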