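import Mathlib
import Cfsg.Agent.Lib.Lead.Frattini
import Cfsg.Agent.Lib.Helper2.PAb_Norm1

/-!
# S4587, package P10: the norm (transfer) map `P ∩ N → (P ∩ S)^{ab}`.
-/

set_option autoImplicit false

namespace Cfsg.Agent.Lib.Helper2.PAb

namespace Nm

/-- A finite `p`-group whose abelianization has order at most `p` has order dividing `p`. -/
theorem card_dvd_of_index_commutator_le {Q : Type*} [Group Q] [Finite Q] {p : ℕ} [Fact p.Prime]
    (hQ : IsPGroup p Q) (hle : (commutator Q).index ≤ p) : Nat.card Q ∣ p := by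
  have hp : p.Prime := Fact.out
  obtain ⟨n, hn⟩ := hQ.index (commutator Q)
  have hn1 : n ≤ 1 := by
    by_contra h
    push Not at h
    have : p ^ 2 ≤ p ^ n := Nat.pow_le_pow_right hp.pos h
    have h2 := hp.two_le
    nlinarith
  rcases Nat.lt_or_ge n 1 with h0 | h1
  · -- index = 1
    have hn0 : n = 0 := by omega
    rw [hn0, pow_zero, Subgroup.index_eq_one] at hn
    by_cases hnt : Nontrivial Q
    · haveI := hnt
      haveI : Group.IsNilpotent Q := hQ.isNilpotent
      exact absurd hn (Group.IsSolvable.commutator_lt_top_of_nontrivial Q).ne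
    · rw [not_nontrivial_iff_subsingleton] at hnt
      haveI := hnt
      rw [Nat.card_unique]; exact one_dvd _
  · have hn1' : n = 1 := le_antisymm hn1 h1
    rw [hn1', pow_one] at hn
    -- pick `y ∉ Q'`
    have hne : commutator Q ≠ ⊤ := by
      intro h
      rw [h, Subgroup.index_top] at hn
      exact hp.one_lt.ne hn
    obtain ⟨y, hy⟩ : ∃ y : Q, y ∉ commutator Q := by
      by_contra hcon
      push Not at hcon
      exact hne (eq_top_iff.mpr fun x _ => hcon x)
    have hco : IsCoatom (commutator Q) :=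
      Cfsg.Agent.Lib.Lead.isCoatom_of_index_prime (by rw [hn]; exact hp)
    have hK : Subgroup.zpowers y ⊔ commutator Q = ⊤ := by
      apply hco.2
      refine lt_of_le_of_ne le_sup_right ?_
      intro heq
      apply hy
      rw [heq]
      exact Subgroup.mem_sup_left (Subgroup.mem_zpowers y)
    have hfr : Subgroup.zpowers y ⊔ frattini Q = ⊤ := by
      rw [eq_top_iff, ← hK]
      exact sup_le_sup_left (Cfsg.Agent.Lib.Lead.commutator_le_frattini_of_isPGroup hQ) _
    have hz : Subgroup.zpowers y = ⊤ := frattini_nongenerating hfr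
    haveI : IsCyclic Q := ⟨⟨y, fun x => by
      have : x ∈ Subgroup.zpowers y := by rw [hz]; exact Subgroup.mem_top x
      exact this⟩⟩
    have hc : IsMulCommutative Q := IsCyclic.isMulCommutative
    have hbot : commutator Q = ⊥ := by
      rw [eq_bot_iff]
      apply Cfsg.Agent.Lib.Lead.commutator_le_of_quotient_comm
      intro a b
      obtain ⟨a', rfl⟩ := QuotientGroup.mk_surjective a
      obtain ⟨b', rfl⟩ := QuotientGroup.mk_surjective b
      rw [← QuotientGroup.mk_mul, ← QuotientGroup.mk_mul, hc.is_comm.comm a' b']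
    rw [hbot, Subgroup.index_bot] at hn
    rw [hn]

/-- Type-level version of P10. -/
theorem card_dvd_of_moved {Γ : Type*} [Group Γ] [Finite Γ] {p : ℕ} [Fact p.Prime]
    (hΓ : IsPGroup p Γ) (hidx : (commutator Γ).index = p ^ 2) (R Ra Rb : Subgroup Γ) [R.Normal]
    (hind : R.index = p) (hder : commutator Γ ≤ R) (hRa : Ra ≤ R) (hRb : Rb ≤ R)
    (hab : Ra ⊓ Rb = ⊥) (hsup : Ra ⊔ Rb = R) (hcomm : ∀ a ∈ Ra, ∀ b ∈ Rb, a * b = b * a)
    (hmove : ∀ g : Γ, g ∉ R → ∀ a ∈ Ra, g * a * g⁻¹ ∈ Rb) : Nat.card Ra ∣ p := by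
  have hp : p.Prime := Fact.out
  obtain ⟨π, hπa, hπb⟩ := exists_proj R Ra Rb hRa hRb hab hsup hcomm
  let ϕ : ↥R →* Abelianization ↥Ra := Abelianization.of.comp π
  have hτ : ∀ a (ha : a ∈ Ra), MonoidHom.transfer ϕ a = Abelianization.of ⟨a, ha⟩ := by
    intro a ha
    rw [transfer_eq_of_moved R ϕ a (hRa ha)]
    · change Abelianization.of (π ⟨a, hRa ha⟩) = _
      rw [hπa a ha]
    · intro g hg h
      change Abelianization.of (π ⟨g * a * g⁻¹, h⟩) = 1
      rw [hπb _ (hmove g hg a ha), map_one]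
  have hker : commutator Γ ≤ (MonoidHom.transfer ϕ).ker :=
    Abelianization.commutator_subset_ker _
  -- `Ra ∩ Γ' ≤ Ra'`
  have hkey : (commutator Γ ⊓ Ra).subgroupOf Ra ≤ commutator ↥Ra := by
    intro a ha
    rw [Subgroup.mem_subgroupOf] at ha
    have h1 : MonoidHom.transfer ϕ (a : Γ) = 1 := hker ha.1
    rw [hτ (a : Γ) a.2] at h1
    rw [← Abelianization.ker_of, MonoidHom.mem_ker]
    exact h1
  -- indices
  have h1 : (commutator Γ).relIndex R = p := by
    have := Subgroup.relIndex_mul_index hder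
    rw [hind, hidx, pow_two] at this
    exact Nat.eq_of_mul_eq_mul_right hp.pos this
  have h2 : (commutator Γ).relIndex Ra ≤ p := by
    rw [← h1]
    exact Subgroup.relIndex_le_of_le_right hRa (by rw [h1]; exact hp.ne_zero)
  have h3 : (commutator ↥Ra).index ∣ (commutator Γ).relIndex Ra := by
    have : ((commutator Γ ⊓ Ra).subgroupOf Ra).index = (commutator Γ).relIndex Ra := by
      change (commutator Γ ⊓ Ra).relIndex Ra = _
      rw [Subgroup.inf_relIndex_right]
    rw [← this]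
    exact Subgroup.index_dvd_of_le hkey
  have h4 : (commutator ↥Ra).index ≤ p := by
    refine le_trans (Nat.le_of_dvd ?_ h3) h2
    have hne : (commutator Γ).relIndex Ra ≠ 0 := by
      unfold Subgroup.relIndex
      exact Subgroup.index_ne_zero_of_finite
    exact Nat.pos_of_ne_zero hne
  have hRap : IsPGroup p ↥Ra := hΓ.to_subgroup Ra
  exact card_dvd_of_index_commutator_le hRap h4

end Nm

variable {G : Type*} [Group G]

/-- **P10 (norm map)**. -/
theorem card_inf_dvd_of_moved [Finite G] {p : ℕ} [Fact p.Prime] (P : Subgroup G)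
    (hP : IsPGroup p P) (hidx : (⁅P, P⁆).relIndex P = p ^ 2) (N S V : Subgroup G)
    (hSN : S ≤ N) (hVN : V ≤ N) (hSV : S ⊓ V = ⊥) (hsup : S ⊔ V = N)
    (hcomm : ∀ s ∈ S, ∀ v ∈ V, s * v = v * s) (hnN : P ≤ Subgroup.normalizer (N : Set G))
    (hR : P ⊓ N = (P ⊓ S) ⊔ (P ⊓ V)) (hder : ⁅P, P⁆ ≤ P ⊓ N) (hind : (P ⊓ N).relIndex P = p)
    (hmove : ∀ g ∈ P, g ∉ N → ∀ s ∈ S, g * s * g⁻¹ ∈ V) :
    Nat.card ↥(P ⊓ S) ∣ p := by
  have hcomP : commutator ↥P = (⁅P, P⁆).subgroupOf P := by
    rw [← Subgroup.map_subtype_commutator P]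
    ext x
    rw [Subgroup.mem_subgroupOf, Subgroup.mem_map]
    constructor
    · intro hx; exact ⟨x, hx, rfl⟩
    · rintro ⟨y, hy, hyx⟩
      have : y = x := Subtype.ext hyx
      rw [← this]; exact hy
  have hnorm : P ≤ Subgroup.normalizer ((P ⊓ N : Subgroup G) : Set G) := by
    intro g hg
    have hgN := hnN hg
    rw [Subgroup.mem_normalizer_iff] at hgN ⊢
    intro x
    constructor
    · rintro ⟨h1, h2⟩
      exact ⟨P.mul_mem (P.mul_mem hg h1) (P.inv_mem hg), (hgN x).mp h2⟩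
    · rintro ⟨h1, h2⟩
      refine ⟨?_, (hgN x).mpr h2⟩
      have := P.mul_mem (P.mul_mem (P.inv_mem hg) h1) hg
      simpa [mul_assoc] using this
  haveI : ((P ⊓ N).subgroupOf P).Normal := Subgroup.normal_subgroupOf_of_le_normalizer hnorm
  have hres := Nm.card_dvd_of_moved (Γ := ↥P) (p := p) hP (by rw [hcomP]; exact hidx)
    ((P ⊓ N).subgroupOf P) ((P ⊓ S).subgroupOf P) ((P ⊓ V).subgroupOf P) hind
    (by rw [hcomP]; exact Subgroup.subgroupOf_mono P hder)
    (fun x hx => by
      rw [Subgroup.mem_subgroupOf] at hx ⊢; exact ⟨hx.1, hSN hx.2⟩)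
    (fun x hx => by
      rw [Subgroup.mem_subgroupOf] at hx ⊢; exact ⟨hx.1, hVN hx.2⟩)
    (by
      rw [eq_bot_iff]
      rintro x ⟨hx1, hx2⟩
      have hx1 : x ∈ (P ⊓ S).subgroupOf P := hx1
      have hx2 : x ∈ (P ⊓ V).subgroupOf P := hx2
      rw [Subgroup.mem_subgroupOf] at hx1 hx2
      have : (x : G) ∈ S ⊓ V := ⟨hx1.2, hx2.2⟩
      rw [hSV, Subgroup.mem_bot] at this
      rw [Subgroup.mem_bot]; exact Subtype.ext this)
    (by rw [hR, Subgroup.subgroupOf_sup inf_le_left inf_le_left])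
    (fun a ha b hb => by
      rw [Subgroup.mem_subgroupOf] at ha hb
      exact Subtype.ext (hcomm a ha.2 b hb.2))
    (fun g hg a ha => by
      rw [Subgroup.mem_subgroupOf] at ha ⊢
      have hgN : (g : G) ∉ N := fun h => hg (Subgroup.mem_subgroupOf.mpr ⟨g.2, h⟩)
      refine ⟨?_, hmove g g.2 hgN a ha.2⟩
      exact (g * a * g⁻¹).2)
  rw [← Nat.card_congr (Subgroup.subgroupOfEquivOfLe (inf_le_left : P ⊓ S ≤ P)).toEquiv]
  exact hres

end Cfsg.Agent.Lib.Helper2.PAb
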