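import Mathlib

set_option autoImplicit false

/-!
Linear `p`-groups: basic material on representations `ρ : P →* Module.End F V`
(invariant subspaces, restriction, quotient) and on derived series.
-/

namespace Cfsg.Agent.Lib.Helper2.PGL

open Module
open scoped commutatorElement

variable {F : Type*} [Field F] {P : Type*} [Group P] {V : Type*} [AddCommGroup V] [Module F V]

/-- `U` is invariant under `ρ`. -/
def Inv (ρ : P →* Module.End F V) (U : Submodule F V) : Prop :=
  ∀ g : P, ∀ x ∈ U, ρ g x ∈ U

/-- restriction of `ρ` to an invariant subspace. -/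
def sub (ρ : P →* Module.End F V) (U : Submodule F V) (hU : Inv ρ U) : P →* Module.End F U where
  toFun g := (ρ g).restrict (hU g)
  map_one' := by
    ext x
    simp
  map_mul' g h := by
    ext x
    simp

@[simp] theorem sub_apply (ρ : P →* Module.End F V) (U : Submodule F V) (hU : Inv ρ U) (g : P)
    (x : U) : ((sub ρ U hU g) x : V) = ρ g x := rfl

/-- the quotient of `ρ` by an invariant subspace. -/
def quo (ρ : P →* Module.End F V) (U : Submodule F V) (hU : Inv ρ U) :
    P →* Module.End F (V ⧸ U) where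
  toFun g := U.mapQ U (ρ g) (fun x hx => hU g x hx)
  map_one' := by
    ext x
    simp
  map_mul' g h := by
    ext x
    simp

@[simp] theorem quo_mk (ρ : P →* Module.End F V) (U : Submodule F V) (hU : Inv ρ U) (g : P)
    (x : V) : (quo ρ U hU g) (Submodule.Quotient.mk x) = Submodule.Quotient.mk (ρ g x) := rfl

theorem mem_ker_iff (ρ : P →* Module.End F V) (g : P) : g ∈ ρ.ker ↔ ∀ x, ρ g x = x := by
  rw [MonoidHom.mem_ker]
  constructor
  · intro h x
    rw [h]; rfl
  · intro h
    ext x
    exact h x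

theorem mem_ker_sub_iff (ρ : P →* Module.End F V) (U : Submodule F V) (hU : Inv ρ U) (g : P) :
    g ∈ (sub ρ U hU).ker ↔ ∀ x ∈ U, ρ g x = x := by
  rw [mem_ker_iff]
  constructor
  · intro h x hx
    have := h ⟨x, hx⟩
    exact congrArg Subtype.val this
  · intro h x
    apply Subtype.ext
    exact h x x.2

theorem mem_ker_quo_iff (ρ : P →* Module.End F V) (U : Submodule F V) (hU : Inv ρ U) (g : P) :
    g ∈ (quo ρ U hU).ker ↔ ∀ x, ρ g x - x ∈ U := by
  rw [mem_ker_iff]
  constructor
  · intro h x
    have := h (Submodule.Quotient.mk x)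
    rw [quo_mk] at this
    exact (Submodule.Quotient.eq U).mp this
  · intro h x
    induction x using Submodule.Quotient.induction_on with
    | _ x =>
      rw [quo_mk]
      exact (Submodule.Quotient.eq U).mpr (h x)

theorem rho_inv_apply (ρ : P →* Module.End F V) (g : P) (x : V) : ρ g⁻¹ (ρ g x) = x := by
  have : (ρ g⁻¹ * ρ g) x = x := by rw [← map_mul, inv_mul_cancel, map_one]; rfl
  exact this

theorem rho_apply_inv (ρ : P →* Module.End F V) (g : P) (x : V) : ρ g (ρ g⁻¹ x) = x := by
  have : (ρ g * ρ g⁻¹) x = x := by rw [← map_mul, mul_inv_cancel, map_one]; rfl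
  exact this

/-- the linear equivalence given by `ρ g`. -/
def toEquiv (ρ : P →* Module.End F V) (g : P) : V ≃ₗ[F] V :=
  LinearEquiv.ofLinear (ρ g) (ρ g⁻¹)
    (by ext x; exact rho_apply_inv ρ g x) (by ext x; exact rho_inv_apply ρ g x)

@[simp] theorem toEquiv_apply (ρ : P →* Module.End F V) (g : P) (x : V) :
    toEquiv ρ g x = ρ g x := rfl

theorem coe_toEquiv (ρ : P →* Module.End F V) (g : P) :
    ((toEquiv ρ g : V ≃ₗ[F] V) : V →ₗ[F] V) = ρ g := rfl

/-- if all the subspaces of a spanning family are fixed pointwise by `g`, then `g ∈ ker ρ`. -/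
theorem mem_ker_of_iSup {ι : Type*} (ρ : P →* Module.End F V) (U : ι → Submodule F V)
    (hU : ⨆ i, U i = ⊤) (g : P) (h : ∀ i, ∀ x ∈ U i, ρ g x = x) : g ∈ ρ.ker := by
  rw [mem_ker_iff]
  have hle : (⊤ : Submodule F V) ≤ LinearMap.eqLocus (ρ g) LinearMap.id := by
    rw [← hU]
    apply iSup_le
    intro i x hx
    exact h i x hx
  intro x
  exact hle (Submodule.mem_top : x ∈ ⊤)

section derived

variable {M : Type*} [Monoid M]

theorem derivedSeries_succ_le_ker_of_comm (f : P →* M) (m : ℕ) (K : Subgroup P)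
    (hK : derivedSeries P m ≤ K) (hc : ∀ a ∈ K, ∀ b ∈ K, f (a * b) = f (b * a)) :
    derivedSeries P (m + 1) ≤ f.ker := by
  rw [derivedSeries_succ, Subgroup.commutator_le]
  intro a ha b hb
  rw [MonoidHom.mem_ker]
  have h1 : f ⁅a, b⁆ * f (b * a) = f (b * a) := by
    rw [← map_mul]
    have : ⁅a, b⁆ * (b * a) = a * b := by
      rw [commutatorElement_def]; group
    rw [this]
    exact hc a (hK ha) b (hK hb)
  have h2 : f (b * a) * f (b * a)⁻¹ = 1 := by
    rw [← map_mul, mul_inv_cancel, map_one]
  calc f ⁅a, b⁆ = f ⁅a, b⁆ * (f (b * a) * f (b * a)⁻¹) := by rw [h2, mul_one]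
    _ = (f ⁅a, b⁆ * f (b * a)) * f (b * a)⁻¹ := by rw [mul_assoc]
    _ = 1 := by rw [h1, h2]

theorem derivedSeries_succ_le_map {N : Subgroup P} (hN : commutator P ≤ N) (k : ℕ) :
    derivedSeries P (k + 1) ≤ (derivedSeries N k).map N.subtype := by
  induction k with
  | zero =>
    rw [derivedSeries_one, derivedSeries_zero, ← MonoidHom.range_eq_map, Subgroup.range_subtype]
    exact hN
  | succ k ih =>
    rw [derivedSeries_succ, derivedSeries_succ (G := N), Subgroup.map_commutator]
    exact Subgroup.commutator_mono ih ih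

theorem derivedSeries_le_ker_of_map (f : P →* M) {Q : Type*} [Group Q] (π : P →* Q)
    (hπ : π.ker ≤ f.ker) (m : ℕ) (h : derivedSeries Q m = ⊥) : derivedSeries P m ≤ f.ker := by
  intro x hx
  apply hπ
  rw [MonoidHom.mem_ker]
  have h1 : π x ∈ (derivedSeries P m).map π := Subgroup.mem_map_of_mem π hx
  have h2 := map_derivedSeries_le_derivedSeries π m h1
  rw [h] at h2
  exact Subgroup.mem_bot.mp h2

end derived

end Cfsg.Agent.Lib.Helper2.PGL
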