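import Mathlib
import Cfsg.Agent.Lib.Helper2.PGL1

set_option autoImplicit false

/-!
Linear `p`-groups in characteristic `p`: fixed vectors, invariant flags, and the bound
`derivedSeries P (Nat.clog 2 n) ≤ ker ρ`.
-/

namespace Cfsg.Agent.Lib.Helper2.PGL

open Module

section fixed

theorem exists_fixed_aux {P : Type*} [Group P] [Finite P] {V : Type*} [AddCommGroup V]
    {p : ℕ} [hp : Fact p.Prime] [Module (ZMod p) V] (hP : IsPGroup p P) (act : P → V →+ V)
    (h1 : ∀ x, act 1 x = x) (hmul : ∀ g h x, act (g * h) x = act g (act h x)) [Nontrivial V] :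
    ∃ v : V, v ≠ 0 ∧ ∀ g, act g v = v := by
  classical
  obtain ⟨w, hw⟩ := exists_ne (0 : V)
  let S : Set V := Set.range (fun g : P => act g w)
  let W : Submodule (ZMod p) V := Submodule.span (ZMod p) S
  have hSfin : S.Finite := Set.finite_range _
  haveI hWf : Module.Finite (ZMod p) W := Module.Finite.span_of_finite (ZMod p) hSfin
  haveI : Finite W := Module.finite_of_finite (ZMod p)
  have hwW : w ∈ W := Submodule.subset_span ⟨1, h1 w⟩
  have hinv : ∀ g : P, ∀ x ∈ W, act g x ∈ W := by
    intro g x hx
    let f : V →ₗ[ZMod p] V := AddMonoidHom.toZModLinearMap p (act g)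
    have hle : W.map f ≤ W := by
      rw [Submodule.map_span, Submodule.span_le]
      rintro _ ⟨_, ⟨h, rfl⟩, rfl⟩
      apply Submodule.subset_span
      exact ⟨g * h, hmul g h w⟩
    exact hle ⟨x, hx, rfl⟩
  letI : MulAction P W :=
    { smul := fun g x => ⟨act g x, hinv g x x.2⟩
      one_smul := fun x => Subtype.ext (h1 x)
      mul_smul := fun g h x => Subtype.ext (hmul g h x) }
  have h0 : (0 : W) ∈ MulAction.fixedPoints P W := fun g => by
    apply Subtype.ext
    show act g ((0 : W) : V) = ((0 : W) : V)
    simp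
  have hcard : p ∣ Nat.card W := by
    haveI : Nontrivial W := ⟨⟨⟨w, hwW⟩, 0, fun h => hw (congrArg Subtype.val h)⟩⟩
    have h1 : Nat.card W = Nat.card (ZMod p) ^ finrank (ZMod p) W :=
      Module.natCard_eq_pow_finrank
    have h2 : 0 < finrank (ZMod p) W := Module.finrank_pos
    rw [h1, Nat.card_zmod]
    exact dvd_pow_self p h2.ne'
  obtain ⟨b, hb, hne⟩ := hP.exists_fixed_point_of_prime_dvd_card_of_fixed_point W hcard h0
  refine ⟨b, fun h => hne (Subtype.ext h.symm), fun g => ?_⟩
  exact congrArg Subtype.val (hb g)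

variable {F : Type*} [Field F] {P : Type*} [Group P] [Finite P] {V : Type*} [AddCommGroup V]
  [Module F V] {p : ℕ} [hp : Fact p.Prime]

/-- a finite `p`-group acting linearly on a nonzero space of characteristic `p` fixes a nonzero
vector. -/
theorem exists_fixed_vector (hP : IsPGroup p P) (hpF : (p : F) = 0) (ρ : P →* Module.End F V)
    [Nontrivial V] : ∃ v : V, v ≠ 0 ∧ ∀ g, ρ g v = v := by
  have hpV : ∀ x : V, p • x = 0 := fun x => by
    rw [← Nat.cast_smul_eq_nsmul F, hpF, zero_smul]
  letI : Module (ZMod p) V := AddCommGroup.zmodModule hpV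
  exact exists_fixed_aux hP (fun g => (ρ g : V →ₗ[F] V).toAddMonoidHom)
    (fun x => by show ρ 1 x = x; rw [map_one]; rfl)
    (fun g h x => by show ρ (g * h) x = ρ g (ρ h x); rw [map_mul]; rfl)

end fixed

section flag

variable {F : Type*} [Field F] {P : Type*} [Group P] [Finite P] {V : Type*} [AddCommGroup V]
  [Module F V] [FiniteDimensional F V] {p : ℕ} [hp : Fact p.Prime]

/-- invariant subspaces of every dimension. -/
theorem exists_inv_finrank (hP : IsPGroup p P) (hpF : (p : F) = 0) (ρ : P →* Module.End F V)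
    (k : ℕ) (hk : k ≤ finrank F V) : ∃ U : Submodule F V, Inv ρ U ∧ finrank F U = k := by
  induction k with
  | zero => exact ⟨⊥, fun g x hx => by rw [Submodule.mem_bot] at hx ⊢; rw [hx, map_zero], by simp⟩
  | succ k ih =>
    obtain ⟨U, hU, hUk⟩ := ih (by omega)
    have hq : finrank F (V ⧸ U) + finrank F U = finrank F V := Submodule.finrank_quotient_add_finrank U
    haveI : Nontrivial (V ⧸ U) := by
      apply Module.nontrivial_of_finrank_pos (R := F)
      omega
    obtain ⟨v', hv', hfix⟩ := exists_fixed_vector hP hpF (quo ρ U hU)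
    obtain ⟨v, rfl⟩ := Submodule.Quotient.mk_surjective U v'
    have hvU : v ∉ U := fun h => hv' ((Submodule.Quotient.mk_eq_zero U).mpr h)
    have hv0 : v ≠ 0 := fun h => hvU (h ▸ U.zero_mem)
    refine ⟨U ⊔ (F ∙ v), ?_, ?_⟩
    · intro g x hx
      obtain ⟨u, hu, y, hy, rfl⟩ := Submodule.mem_sup.mp hx
      obtain ⟨c, rfl⟩ := Submodule.mem_span_singleton.mp hy
      rw [map_add, map_smul]
      have h1 : ρ g v - v ∈ U := by
        have := hfix g
        rw [quo_mk] at this
        exact (Submodule.Quotient.eq U).mp this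
      have h2 : ρ g u + c • ρ g v = (ρ g u + c • (ρ g v - v)) + c • v := by
        rw [smul_sub]; abel
      rw [h2]
      exact Submodule.add_mem_sup (U.add_mem (hU g u hu) (U.smul_mem c h1))
        (Submodule.mem_span_singleton.mpr ⟨c, rfl⟩)
    · have h1 := Submodule.finrank_sup_add_finrank_inf_eq U (F ∙ v)
      have h2 : U ⊓ (F ∙ v) = ⊥ := by
        rw [← disjoint_iff]
        exact (Submodule.disjoint_span_singleton' hv0).mpr hvU
      rw [h2, finrank_bot, finrank_span_singleton hv0, hUk] at h1
      omega

end flag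

section unip

variable {F : Type*} [Field F] {p : ℕ} [hp : Fact p.Prime]

theorem clog_le_log_succ (n : ℕ) : Nat.clog 2 n ≤ Nat.log 2 n + 1 := by
  apply Nat.clog_le_of_le_pow
  exact (Nat.lt_pow_succ_log_self (by norm_num) n).le

/-- **Unipotent bound.** A finite `p`-group acting linearly on an `n`-dimensional space of
characteristic `p` acts through a group of derived length at most `⌈log₂ n⌉`. -/
theorem derivedSeries_clog_le_ker (hpF : (p : F) = 0) (n : ℕ) :
    ∀ (P : Type*) [Group P] [Finite P] (_ : IsPGroup p P) (V : Type*) [AddCommGroup V]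
      [Module F V] [FiniteDimensional F V] (ρ : P →* Module.End F V),
      finrank F V = n → derivedSeries P (Nat.clog 2 n) ≤ ρ.ker := by
  induction n using Nat.strong_induction_on with
  | _ n ih =>
    intro P _ _ hP V _ _ _ ρ hn
    rcases Nat.lt_or_ge n 2 with hlt | hge
    · -- `n ≤ 1`: trivial action
      have hc : Nat.clog 2 n = 0 := by
        interval_cases n
        · exact Nat.clog_zero_right 2
        · exact Nat.clog_one_right 2
      rw [hc, derivedSeries_zero]
      intro g _
      rw [mem_ker_iff]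
      intro x
      rcases Nat.eq_zero_or_pos n with h0 | hpos
      · haveI : Subsingleton V := (Module.finrank_zero_iff (R := F)).mp (by rw [hn, h0])
        exact Subsingleton.elim _ _
      · have h1 : finrank F V = 1 := by omega
        haveI : Nontrivial V := Module.nontrivial_of_finrank_pos (R := F) (by omega)
        obtain ⟨v, hv0, hv⟩ := exists_fixed_vector hP hpF ρ
        obtain ⟨c, rfl⟩ := (finrank_eq_one_iff_of_nonzero' v hv0).mp h1 x
        rw [map_smul, hv g]
    · -- `n ≥ 2`
      set k := n / 2 with hk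
      have hk1 : 1 ≤ k := by omega
      have hkn : k < n := by omega
      obtain ⟨U, hU, hUk⟩ := exists_inv_finrank hP hpF ρ k (by omega)
      have hq : finrank F (V ⧸ U) + finrank F U = finrank F V :=
        Submodule.finrank_quotient_add_finrank U
      have hqk : finrank F (V ⧸ U) = n - k := by omega
      have hcl : Nat.clog 2 n = Nat.clog 2 (n - k) + 1 := by
        rw [Nat.clog_of_two_le (by norm_num) hge]
        congr 2
        omega
      have h1 := ih k hkn P hP U (sub ρ U hU) hUk
      have h2 := ih (n - k) (by omega) P hP (V ⧸ U) (quo ρ U hU) hqk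
      have h1' : derivedSeries P (Nat.clog 2 (n - k)) ≤ (sub ρ U hU).ker :=
        le_trans (derivedSeries_antitone P (Nat.clog_mono_right 2 (by omega))) h1
      rw [hcl]
      apply derivedSeries_succ_le_ker_of_comm ρ _ ((sub ρ U hU).ker ⊓ (quo ρ U hU).ker)
        (le_inf h1' h2)
      intro a ha b hb
      have key : ∀ c ∈ (sub ρ U hU).ker ⊓ (quo ρ U hU).ker, ∀ d ∈ (sub ρ U hU).ker ⊓ (quo ρ U hU).ker,
          ∀ x, ρ (c * d) x = ρ c x + ρ d x - x := by
        intro c hc d hd x
        have hc1 := (mem_ker_sub_iff ρ U hU c).mp hc.1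
        have hd2 := (mem_ker_quo_iff ρ U hU d).mp hd.2
        have h3 : ρ c (ρ d x - x) = ρ d x - x := hc1 _ (hd2 x)
        rw [map_sub] at h3
        rw [map_mul]
        show ρ c (ρ d x) = _
        rw [sub_eq_iff_eq_add] at h3
        rw [h3]; abel
      ext x
      rw [key a ha b hb x, key b hb a ha x]
      abel

end unip

end Cfsg.Agent.Lib.Helper2.PGL
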