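import Mathlib
import Cfsg.Agent.Lib.Helper2.PGL1

set_option autoImplicit false

/-!
Linear `p`-groups in characteristic different from `p`: Maschke's theorem by averaging, and the
fact that an elementary abelian group of order `p ^ 2` cannot act freely.
-/

namespace Cfsg.Agent.Lib.Helper2.PGL

open Module

section maschke

variable {F : Type*} [Field F] {P : Type*} [Group P] [Finite P] {V : Type*} [AddCommGroup V]
  [Module F V]

/-- **Maschke's theorem** for invariant subspaces. -/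
theorem exists_inv_compl (hcard : (Nat.card P : F) ≠ 0) (ρ : P →* Module.End F V)
    (U : Submodule F V) (hU : Inv ρ U) : ∃ U' : Submodule F V, Inv ρ U' ∧ IsCompl U U' := by
  classical
  haveI : Fintype P := Fintype.ofFinite P
  obtain ⟨π₀, hπ₀⟩ := LinearMap.exists_leftInverse_of_injective U.subtype (Submodule.ker_subtype U)
  have hπ₀' : ∀ u : U, π₀ (u : V) = u := fun u => LinearMap.congr_fun hπ₀ u
  let T : V →ₗ[F] V := ∑ g : P, (ρ g) ∘ₗ U.subtype ∘ₗ π₀ ∘ₗ (ρ g⁻¹)
  have hT : ∀ v, T v = ∑ g : P, ρ g ((π₀ (ρ g⁻¹ v) : U) : V) := by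
    intro v
    simp only [T, LinearMap.sum_apply, LinearMap.comp_apply, Submodule.subtype_apply]
  let π : V →ₗ[F] V := (Nat.card P : F)⁻¹ • T
  have hπ : ∀ v, π v = (Nat.card P : F)⁻¹ • T v := fun v => rfl
  have hTU : ∀ v, T v ∈ U := by
    intro v
    rw [hT]
    apply Submodule.sum_mem
    intro g _
    exact hU g _ (π₀ (ρ g⁻¹ v)).2
  have hπU : ∀ v, π v ∈ U := fun v => by rw [hπ]; exact U.smul_mem _ (hTU v)
  have hTfix : ∀ u ∈ U, T u = (Nat.card P : F) • u := by
    intro u hu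
    rw [hT]
    have : ∀ g : P, ρ g ((π₀ (ρ g⁻¹ u) : U) : V) = u := by
      intro g
      have h1 : ρ g⁻¹ u ∈ U := hU g⁻¹ u hu
      have h2 := hπ₀' ⟨ρ g⁻¹ u, h1⟩
      simp only at h2
      rw [h2]
      exact rho_apply_inv ρ g u
    rw [Finset.sum_congr rfl (fun g _ => this g), Finset.sum_const, Finset.card_univ,
      Nat.card_eq_fintype_card, Nat.cast_smul_eq_nsmul]
  have hπfix : ∀ u ∈ U, π u = u := by
    intro u hu
    rw [hπ, hTfix u hu, smul_smul, inv_mul_cancel₀ hcard, one_smul]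
  have hTeq : ∀ (h : P) (v : V), T (ρ h v) = ρ h (T v) := by
    intro h v
    rw [hT, hT, map_sum]
    refine Fintype.sum_equiv (Equiv.mulLeft h⁻¹) _ _ ?_
    intro g
    simp only [Equiv.coe_mulLeft]
    have e1 : ρ g⁻¹ (ρ h v) = ρ (h⁻¹ * g)⁻¹ v := by
      rw [mul_inv_rev, inv_inv, map_mul]; rfl
    rw [e1]
    have e2 : ρ h (ρ (h⁻¹ * g) ((π₀ (ρ (h⁻¹ * g)⁻¹ v) : U) : V)) =
        ρ g ((π₀ (ρ (h⁻¹ * g)⁻¹ v) : U) : V) := by
      have : ρ h * ρ (h⁻¹ * g) = ρ g := by rw [← map_mul, mul_inv_cancel_left]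
      rw [← this]; rfl
    rw [e2]
  have hπeq : ∀ (h : P) (v : V), π (ρ h v) = ρ h (π v) := by
    intro h v
    rw [hπ, hπ, hTeq, map_smul]
  refine ⟨LinearMap.ker π, ?_, ?_⟩
  · intro g x hx
    rw [LinearMap.mem_ker] at hx ⊢
    rw [hπeq, hx, map_zero]
  · constructor
    · rw [disjoint_iff]
      apply (Submodule.eq_bot_iff _).mpr
      rintro x ⟨hxU, hxk⟩
      have h1 := hπfix x hxU
      rw [SetLike.mem_coe, LinearMap.mem_ker] at hxk
      rw [← h1, hxk]
    · rw [codisjoint_iff]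
      apply eq_top_iff.mpr
      intro x _
      have h1 : x = π x + (x - π x) := by abel
      rw [h1]
      apply Submodule.add_mem_sup (hπU x)
      rw [LinearMap.mem_ker, map_sub, hπfix (π x) (hπU x), sub_self]

end maschke

section free

variable {F : Type*} [Field F] {P : Type*} [Group P] {V : Type*} [AddCommGroup V] [Module F V]
  {p : ℕ} [hp : Fact p.Prime]

theorem sum_range_mul_mod (k : ℕ) (hk0 : 0 < k) (hkp : k < p) {M : Type*} [AddCommMonoid M]
    (f : ℕ → M) : ∑ j ∈ Finset.range p, f ((j * k) % p) = ∑ i ∈ Finset.range p, f i := by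
  have hpp := hp.out
  have hcop : Nat.Coprime p k :=
    (Nat.Prime.coprime_iff_not_dvd hpp).mpr (Nat.not_dvd_of_pos_of_lt hk0 hkp)
  have hinj : Set.InjOn (fun j => (j * k) % p) (Finset.range p : Set ℕ) := by
    intro j₁ h₁ j₂ h₂ h
    rw [Finset.coe_range, Set.mem_Iio] at h₁ h₂
    have h' : j₁ * k ≡ j₂ * k [MOD p] := h
    have h'' : j₁ ≡ j₂ [MOD p] := Nat.ModEq.cancel_right_of_coprime hcop h'
    exact Nat.ModEq.eq_of_lt_of_lt h'' h₁ h₂
  have himg : (Finset.range p).image (fun j => (j * k) % p) = Finset.range p := by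
    apply Finset.eq_of_subset_of_card_le
    · intro x hx
      obtain ⟨j, _, rfl⟩ := Finset.mem_image.mp hx
      exact Finset.mem_range.mpr (Nat.mod_lt _ hpp.pos)
    · rw [Finset.card_image_of_injOn hinj]
  rw [← Finset.sum_image (f := f) hinj, himg]

/-- the "norm" of an element of order dividing `p` lands in its fixed space. -/
theorem rho_sum_pow_fixed (ρ : P →* Module.End F V) (x : P) (hx : x ^ p = 1) (v : V) :
    ρ x (∑ i ∈ Finset.range p, ρ (x ^ i) v) = ∑ i ∈ Finset.range p, ρ (x ^ i) v := by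
  rw [map_sum]
  have h1 : ∀ i, ρ x (ρ (x ^ i) v) = ρ (x ^ (i + 1)) v := by
    intro i
    rw [pow_succ', map_mul]; rfl
  rw [Finset.sum_congr rfl (fun i _ => h1 i)]
  have hpos := hp.out.pos
  obtain ⟨m, hm⟩ : ∃ m, p = m + 1 := ⟨p - 1, by omega⟩
  rw [hm] at hx ⊢
  rw [Finset.sum_range_succ (fun i => ρ (x ^ (i + 1)) v) m,
    Finset.sum_range_succ' (fun i => ρ (x ^ i) v) m, hx, pow_zero]

/-- an elementary abelian group of order `p ^ 2` cannot act freely when `p ≠ 0` in `F`. -/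
theorem not_free (hpF : (p : F) ≠ 0) [Nontrivial V] (ρ : P →* Module.End F V) (a b : P)
    (hab : Commute a b) (ha : a ^ p = 1) (hb : b ^ p = 1)
    (hfa : ∀ v, ρ a v = v → v = 0)
    (hfb : ∀ j : ℕ, ∀ v, ρ (a ^ j * b) v = v → v = 0) : False := by
  have hNa : ∀ v, ∑ i ∈ Finset.range p, ρ (a ^ i) v = 0 := fun v =>
    hfa _ (rho_sum_pow_fixed ρ a ha v)
  have hjb : ∀ j : ℕ, (a ^ j * b) ^ p = 1 := by
    intro j
    rw [(hab.pow_left j).mul_pow, ← pow_mul, mul_comm j p, pow_mul, ha, one_pow, hb, one_mul]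
  have hNb : ∀ (j : ℕ) v, ∑ k ∈ Finset.range p, ρ ((a ^ j * b) ^ k) v = 0 := fun j v =>
    hfb j _ (rho_sum_pow_fixed ρ (a ^ j * b) (hjb j) v)
  obtain ⟨v, hv⟩ := exists_ne (0 : V)
  have hsum : ∑ j ∈ Finset.range p, ∑ k ∈ Finset.range p, ρ ((a ^ j * b) ^ k) v = 0 :=
    Finset.sum_eq_zero (fun j _ => hNb j v)
  rw [Finset.sum_comm] at hsum
  have hterm : ∀ k ∈ Finset.range p,
      ∑ j ∈ Finset.range p, ρ ((a ^ j * b) ^ k) v = if k = 0 then (p : F) • v else 0 := by
    intro k hk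
    rw [Finset.mem_range] at hk
    by_cases hk0 : k = 0
    · subst hk0
      simp only [pow_zero, map_one, if_true]
      rw [Finset.sum_const, Finset.card_range, Nat.cast_smul_eq_nsmul]
      rfl
    · rw [if_neg hk0]
      have h1 : ∀ j : ℕ, ρ ((a ^ j * b) ^ k) v = ρ (a ^ ((j * k) % p)) (ρ (b ^ k) v) := by
        intro j
        rw [(hab.pow_left j).mul_pow, ← pow_mul, pow_eq_pow_mod (j * k) ha, map_mul]
        rfl
      rw [Finset.sum_congr rfl (fun j _ => h1 j)]
      rw [sum_range_mul_mod k (Nat.pos_of_ne_zero hk0) hk (fun i => ρ (a ^ i) (ρ (b ^ k) v))]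
      exact hNa _
  rw [Finset.sum_congr rfl hterm, Finset.sum_ite_eq' ] at hsum
  rw [if_pos (Finset.mem_range.mpr hp.out.pos)] at hsum
  exact hv ((smul_eq_zero.mp hsum).resolve_left hpF)

end free

end Cfsg.Agent.Lib.Helper2.PGL
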