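import Mathlib
import Cfsg.Agent.Lib.Lead.Nilpotent
import Cfsg.Agent.Lib.Lead.UniqueOrderP1
import Cfsg.Agent.Lib.Helper3.NormalSq1

set_option autoImplicit false

/-!
Group-theoretic input for linear `p`-groups: a normal subgroup of order `p ^ 2` is centralised by
the derived subgroup; a `p`-group has a normal elementary abelian subgroup of order `p ^ 2` or has
derived length at most `2`.
-/

namespace Cfsg.Agent.Lib.Helper2.PGL

open Cfsg.Agent.Lib.Lead
open scoped commutatorElement

variable {P : Type*} [Group P] [Finite P] {p : ℕ} [hp : Fact p.Prime]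

theorem commutator_le_centralizer_of_card_sq (hP : IsPGroup p P) (W : Subgroup P) [hWn : W.Normal]
    (hW : Nat.card W = p ^ 2) : commutator P ≤ Subgroup.centralizer (W : Set P) := by
  classical
  haveI : Group.IsNilpotent P := hP.isNilpotent
  have hp1 := hp.out.one_lt
  have hWne : W ≠ ⊥ := by
    rintro rfl
    rw [Subgroup.card_bot] at hW
    have : 1 < p ^ 2 := Nat.one_lt_pow (by norm_num) hp1
    omega
  set Z₀ : Subgroup P := W ⊓ Subgroup.center P with hZ₀
  have hZ₀ne : Z₀ ≠ ⊥ := inf_center_ne_bot W hWne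
  haveI hZ₀n : Z₀.Normal := Subgroup.normal_inf_normal W (Subgroup.center P)
  have hZ₀W : Z₀ ≤ W := inf_le_left
  have hZ₀c : Z₀ ≤ Subgroup.center P := inf_le_right
  -- key claim
  have key : ∀ g : P, ∀ w ∈ W, ⁅g, w⁆ ∈ Subgroup.center P := by
    by_cases hZW : Z₀ = W
    · intro g w hw
      have hwc : w ∈ Subgroup.center P := hZ₀c (hZW ▸ hw)
      have : ⁅g, w⁆ = 1 :=
        commutatorElement_eq_one_iff_commute.mpr (Subgroup.mem_center_iff.mp hwc g)
      rw [this]; exact Subgroup.one_mem _
    · set π := QuotientGroup.mk' Z₀ with hπ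
      have hπs : Function.Surjective π := QuotientGroup.mk'_surjective Z₀
      have hker : π.ker = Z₀ := QuotientGroup.ker_mk' Z₀
      have hQ : IsPGroup p (P ⧸ Z₀) := hP.to_quotient Z₀
      haveI : Group.IsNilpotent (P ⧸ Z₀) := hQ.isNilpotent
      haveI hWbn : (W.map π).Normal := hWn.map π hπs
      have hWbne : W.map π ≠ ⊥ := by
        intro h
        apply hZW
        apply le_antisymm hZ₀W
        intro w hw
        have : π w ∈ W.map π := Subgroup.mem_map_of_mem π hw
        rw [h, Subgroup.mem_bot] at this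
        rw [← hker]; exact this
      have h1 := inf_center_ne_bot (W.map π) hWbne
      obtain ⟨xb, hxb, hxb1⟩ : ∃ xb ∈ W.map π ⊓ Subgroup.center (P ⧸ Z₀), xb ≠ 1 := by
        by_contra hall
        push Not at hall
        exact h1 ((Subgroup.eq_bot_iff_forall _).mpr hall)
      obtain ⟨x, hxW, rfl⟩ := Subgroup.mem_map.mp hxb.1
      have hxc : π x ∈ Subgroup.center (P ⧸ Z₀) := hxb.2
      have hxZ : x ∉ Z₀ := by
        intro h
        apply hxb1
        rw [← hker] at h
        exact h
      set Y : Subgroup P := Z₀ ⊔ Subgroup.zpowers x with hY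
      have hYW : Y ≤ W := sup_le hZ₀W ((Subgroup.zpowers_le).mpr hxW)
      have hZY : Z₀ ≤ Y := le_sup_left
      have hxY : x ∈ Y := (le_sup_right : Subgroup.zpowers x ≤ Y) (Subgroup.mem_zpowers x)
      obtain ⟨i, hi⟩ := IsPGroup.iff_card.mp (hP.to_subgroup Z₀)
      obtain ⟨j, hj⟩ := IsPGroup.iff_card.mp (hP.to_subgroup Y)
      have hi1 : 1 ≤ i := by
        rcases Nat.eq_zero_or_pos i with h0 | h0
        · exfalso
          rw [h0, pow_zero] at hi
          exact hZ₀ne (Subgroup.card_eq_one.mp hi)
        · exact h0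
      have hij : i < j := by
        by_contra hle
        push Not at hle
        have : Nat.card Y ≤ Nat.card Z₀ := by
          rw [hi, hj]; exact Nat.pow_le_pow_right hp.out.pos hle
        have := Subgroup.eq_of_le_of_card_ge hZY this
        exact hxZ (this ▸ hxY)
      have hj2 : 2 ≤ j := by omega
      have hYeq : Y = W := by
        apply Subgroup.eq_of_le_of_card_ge hYW
        rw [hW, hj]
        exact Nat.pow_le_pow_right hp.out.pos hj2
      have hWb : W.map π ≤ Subgroup.center (P ⧸ Z₀) := by
        rw [← hYeq, hY, Subgroup.map_sup, MonoidHom.map_zpowers]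
        apply sup_le
        · rw [hπ, QuotientGroup.map_mk'_self]
          exact bot_le
        · exact (Subgroup.zpowers_le).mpr hxc
      intro g w hw
      apply hZ₀c
      rw [← hker, MonoidHom.mem_ker, map_commutatorElement]
      exact commutatorElement_eq_one_iff_commute.mpr
        (Subgroup.mem_center_iff.mp (hWb (Subgroup.mem_map_of_mem π hw)) (π g))
  have h1 : ⁅(⊤ : Subgroup P), W⁆ ≤ Subgroup.center P := by
    rw [Subgroup.commutator_le]
    intro g _ w hw
    exact key g w hw
  have h2 : ⁅⁅(⊤ : Subgroup P), W⁆, (⊤ : Subgroup P)⁆ = ⊥ := by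
    rw [Subgroup.commutator_eq_bot_iff_le_centralizer, Subgroup.coe_top, Subgroup.centralizer_univ]
    exact h1
  have h3 : ⁅⁅W, (⊤ : Subgroup P)⁆, (⊤ : Subgroup P)⁆ = ⊥ := by
    rw [Subgroup.commutator_comm W ⊤]; exact h2
  have h4 := Subgroup.commutator_commutator_eq_bot_of_rotate h2 h3
  rw [commutator_def]
  exact Subgroup.commutator_eq_bot_iff_le_centralizer.mp h4

/-- a finite `p`-group has a normal elementary abelian subgroup of order `p ^ 2`, or derived
length at most `2`. -/
theorem sq_or_metabelian (hP : IsPGroup p P) :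
    (∃ W : Subgroup P, W.Normal ∧ IsMulCommutative W ∧ (∀ e ∈ W, e ^ p = 1) ∧
      Nat.card W = p ^ 2) ∨ derivedSeries P 2 = ⊥ := by
  classical
  haveI : Group.IsNilpotent P := hP.isNilpotent
  obtain ⟨A, hAn, hAc, hmax⟩ := exists_max_normal_abelian P
  by_cases hAcyc : IsCyclic A
  · right
    have hCA : Subgroup.centralizer (A : Set P) = A := centralizer_eq_of_max_abelian_normal A hmax
    have h1 : derivedSeries P 1 ≤ A := by
      rw [derivedSeries_one, commutator_def, Subgroup.commutator_le]
      intro g _ h _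
      rw [← hCA, commutatorElement_def]
      exact Cfsg.Agent.Lib.Helper3.NormalSq.commutator_mem_centralizer_of_isCyclic A g h
    rw [derivedSeries_succ, eq_bot_iff]
    refine le_trans (Subgroup.commutator_mono h1 h1) ?_
    rw [Subgroup.commutator_le]
    intro a ha b hb
    rw [Subgroup.mem_bot]
    apply commutatorElement_eq_one_iff_commute.mpr
    have := hAc.is_comm.comm (⟨a, ha⟩ : A) ⟨b, hb⟩
    exact congrArg Subtype.val this
  · left
    exact Cfsg.Agent.Lib.Helper3.NormalSq.exists_normal_sq_of_noncyclic hP A hAcyc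

end Cfsg.Agent.Lib.Helper2.PGL
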