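import Mathlib
import Cfsg.Agent.Lib.Helper2.PGL2
import Cfsg.Agent.Lib.Helper2.PGL3
import Cfsg.Agent.Lib.Helper2.PGL4

set_option autoImplicit false

/-!
Linear `p`-groups: the Clifford step and the bound `dl ≤ ⌊log₂ n⌋ + 1` when `p ≠ 0` in the field.
-/

namespace Cfsg.Agent.Lib.Helper2.PGL

open Module

universe u v w

section clifford

variable {F : Type w} [Field F] {p : ℕ} [hp : Fact p.Prime]

theorem clifford_step {n : ℕ}
    (ih : ∀ m < n, ∀ (Q : Type u) [Group Q] [Finite Q], IsPGroup p Q → ∀ (W : Type v)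
      [AddCommGroup W] [Module F W] [FiniteDimensional F W] (σ : Q →* Module.End F W),
      finrank F W = m → derivedSeries Q (Nat.log 2 m + 1) ≤ σ.ker)
    {P : Type u} [Group P] [Finite P] (hP : IsPGroup p P) {V : Type v} [AddCommGroup V]
    [Module F V] [FiniteDimensional F V] (ρ : P →* Module.End F V) (hn : finrank F V = n)
    (hinj : Function.Injective ρ) (hirr : ∀ U, Inv ρ U → U = ⊥ ∨ U = ⊤)
    (N : Subgroup P) [hN : N.Normal] (hNc : commutator P ≤ N)
    (hred : ∃ U₀, Inv (ρ.comp N.subtype) U₀ ∧ U₀ ≠ ⊥ ∧ U₀ ≠ ⊤) :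
    derivedSeries P (Nat.log 2 n + 1) = ⊥ := by
  classical
  set σ := ρ.comp N.subtype with hσ
  have hex : ∃ d, ∃ U, Inv σ U ∧ U ≠ ⊥ ∧ finrank F U = d := by
    obtain ⟨U₀, h1, h2, _⟩ := hred
    exact ⟨_, U₀, h1, h2, rfl⟩
  obtain ⟨U, hUinv, hUne, hUd⟩ := Nat.find_spec hex
  have hmin : ∀ U', Inv σ U' → U' ≠ ⊥ → finrank F U ≤ finrank F U' := fun U' h1 h2 => by
    rw [hUd]; exact Nat.find_min' hex ⟨U', h1, h2, rfl⟩
  obtain ⟨U₀, hU₀inv, hU₀ne, hU₀top⟩ := hred
  have hUlt : finrank F U < n := by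
    calc finrank F U ≤ finrank F U₀ := hmin U₀ hU₀inv hU₀ne
      _ < finrank F V := Submodule.finrank_lt hU₀top
      _ = n := hn
  let tr : P → Submodule F V := fun g => U.map ((toEquiv ρ g : V ≃ₗ[F] V) : V →ₗ[F] V)
  have hmem_tr : ∀ g x, x ∈ tr g ↔ ∃ u ∈ U, ρ g u = x := by
    intro g x
    exact Submodule.mem_map
  have htr_inv : ∀ g, Inv σ (tr g) := by
    intro g h x hx
    obtain ⟨u, hu, rfl⟩ := (hmem_tr g x).mp hx
    have hmem : g⁻¹ * (h : P) * g ∈ N := by
      have := hN.conj_mem (h : P) h.2 g⁻¹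
      simpa using this
    refine (hmem_tr g _).mpr ⟨σ ⟨g⁻¹ * h * g, hmem⟩ u, hUinv _ u hu, ?_⟩
    show ρ g (ρ (g⁻¹ * h * g) u) = ρ h (ρ g u)
    have : ρ g * ρ (g⁻¹ * ↑h * g) = ρ ↑h * ρ g := by
      rw [← map_mul, ← map_mul]; congr 1; group
    exact LinearMap.congr_fun this u
  have htr_rank : ∀ g, finrank F (tr g) = finrank F U := fun g =>
    LinearEquiv.finrank_map_eq (toEquiv ρ g) U
  have hU_le : U ≤ ⨆ g, tr g := by
    intro x hx
    have : x ∈ tr 1 := (hmem_tr 1 x).mpr ⟨x, hx, by rw [map_one]; rfl⟩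
    exact (le_iSup tr 1) this
  have hsup : ⨆ g, tr g = ⊤ := by
    have hinvS : Inv ρ (⨆ g, tr g) := by
      intro h x hx
      induction hx using Submodule.iSup_induction' with
      | mem g x hx =>
        obtain ⟨u, hu, rfl⟩ := (hmem_tr g x).mp hx
        have : ρ h (ρ g u) ∈ tr (h * g) := (hmem_tr (h * g) _).mpr ⟨u, hu, by rw [map_mul]; rfl⟩
        exact (le_iSup tr (h * g)) this
      | zero => rw [map_zero]; exact Submodule.zero_mem _
      | add x y _ _ hx hy => rw [map_add]; exact Submodule.add_mem _ hx hy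
    rcases hirr _ hinvS with h | h
    · exfalso
      apply hUne
      rw [h] at hU_le
      exact le_bot_iff.mp hU_le
    · exact h
  have hexg : ∃ g, tr g ≠ U := by
    by_contra hall
    push Not at hall
    have hinvU : Inv ρ U := fun g x hx => by
      have : ρ g x ∈ tr g := (hmem_tr g _).mpr ⟨x, hx, rfl⟩
      rwa [hall g] at this
    rcases hirr U hinvU with h | h
    · exact hUne h
    · rw [h, finrank_top, hn] at hUlt
      exact lt_irrefl _ hUlt
  obtain ⟨g₀, hg₀⟩ := hexg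
  have hdisj : U ⊓ tr g₀ = ⊥ := by
    by_contra hne
    have hinv' : Inv σ (U ⊓ tr g₀) := fun h x hx =>
      ⟨hUinv h x hx.1, htr_inv g₀ h x hx.2⟩
    have h1 := hmin _ hinv' hne
    have h2 : U ⊓ tr g₀ = U := Submodule.eq_of_le_of_finrank_le inf_le_left h1
    have h3 : U ≤ tr g₀ := h2 ▸ inf_le_right
    have h4 : U = tr g₀ := Submodule.eq_of_le_of_finrank_le h3 (by rw [htr_rank])
    exact hg₀ h4.symm
  have h2m : 2 * finrank F U ≤ n := by
    have h1 := Submodule.finrank_sup_add_finrank_inf_eq U (tr g₀)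
    rw [hdisj, finrank_bot, htr_rank] at h1
    have h2 : finrank F ↥(U ⊔ tr g₀) ≤ finrank F V := Submodule.finrank_le _
    omega
  have hm1 : 1 ≤ finrank F U := by
    rcases Nat.eq_zero_or_pos (finrank F U) with h | h
    · exact absurd (Submodule.finrank_eq_zero.mp h) hUne
    · exact h
  have hlog : Nat.log 2 (finrank F U) + 1 ≤ Nat.log 2 n := by
    calc Nat.log 2 (finrank F U) + 1 = Nat.log 2 (finrank F U * 2) :=
          (Nat.log_mul_base (by norm_num) (by omega)).symm
      _ ≤ Nat.log 2 n := Nat.log_mono_right (by omega)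
  have hD : derivedSeries N (Nat.log 2 n) = ⊥ := by
    rw [eq_bot_iff]
    intro x hx
    rw [Subgroup.mem_bot]
    have hx' : x ∈ derivedSeries N (Nat.log 2 (finrank F U) + 1) :=
      derivedSeries_antitone N hlog hx
    have hker : x ∈ σ.ker := by
      apply mem_ker_of_iSup σ tr hsup x
      intro g y hy
      have := ih (finrank F U) hUlt N (hP.to_subgroup N) (tr g) (sub σ (tr g) (htr_inv g))
        (htr_rank g) hx'
      exact (mem_ker_sub_iff σ (tr g) (htr_inv g) x).mp this y hy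
    have h1 : ρ (x : P) = 1 := hker
    have h2 := hinj (h1.trans (map_one ρ).symm)
    exact Subtype.ext h2
  rw [eq_bot_iff]
  refine le_trans (derivedSeries_succ_le_map hNc _) ?_
  rw [hD, Subgroup.map_bot]

end clifford

end Cfsg.Agent.Lib.Helper2.PGL
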