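import Mathlib
import Cfsg.Agent.Lib.Helper2.PGL5

set_option autoImplicit false

/-!
Linear `p`-groups: the main theorem.  A finite `p`-subgroup of `GL_n(F)` has derived length at
most `⌊log₂ n⌋ + 1`.
-/

namespace Cfsg.Agent.Lib.Helper2.PGL

open Module

universe u v w

section main

variable {F : Type w} [Field F] {p : ℕ} [hp : Fact p.Prime]

theorem end_comm_of_finrank_one {V : Type v} [AddCommGroup V] [Module F V]
    (h1 : finrank F V = 1) (f g : Module.End F V) : f * g = g * f := by
  obtain ⟨v, hv⟩ := finrank_eq_one_iff'.mp h1
  obtain ⟨hv0, hv⟩ := hv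
  obtain ⟨a, ha⟩ := hv (f v)
  obtain ⟨b, hb⟩ := hv (g v)
  ext x
  obtain ⟨c, rfl⟩ := hv x
  show f (g (c • v)) = g (f (c • v))
  have e1 : f (g (c • v)) = (c * b * a) • v := by
    rw [map_smul, ← hb, map_smul, map_smul, ← ha, smul_smul, smul_smul]
  have e2 : g (f (c • v)) = (c * a * b) • v := by
    rw [map_smul, ← ha, map_smul, map_smul, ← hb, smul_smul, smul_smul]
  rw [e1, e2, mul_assoc, mul_assoc, mul_comm b a]

/-- the bound when `p ≠ 0` in `F`. -/
theorem derivedSeries_log_le_ker (hpF : (p : F) ≠ 0) (n : ℕ) :
    ∀ (P : Type u) [Group P] [Finite P] (_ : IsPGroup p P) (V : Type v) [AddCommGroup V]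
      [Module F V] [FiniteDimensional F V] (ρ : P →* Module.End F V),
      finrank F V = n → derivedSeries P (Nat.log 2 n + 1) ≤ ρ.ker := by
  induction n using Nat.strong_induction_on with
  | _ n ih =>
    intro P _ _ hP V _ _ _ ρ hn
    rcases Nat.eq_zero_or_pos n with h0 | hpos
    · intro g _
      rw [mem_ker_iff]
      intro x
      haveI : Subsingleton V := (Module.finrank_zero_iff (R := F)).mp (by rw [hn, h0])
      exact Subsingleton.elim _ _
    by_cases hred : ∃ U, Inv ρ U ∧ U ≠ ⊥ ∧ U ≠ ⊤
    · -- reducible: Maschke
      obtain ⟨U, hU, hUb, hUt⟩ := hred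
      have hcard : (Nat.card P : F) ≠ 0 := by
        obtain ⟨k, hk⟩ := IsPGroup.iff_card.mp hP
        rw [hk, Nat.cast_pow]
        exact pow_ne_zero _ hpF
      obtain ⟨U', hU', hc⟩ := exists_inv_compl hcard ρ U hU
      have hd : finrank F U + finrank F U' = n :=
        (Submodule.finrank_add_eq_of_isCompl hc).trans hn
      have hU1 : 1 ≤ finrank F U := by
        rcases Nat.eq_zero_or_pos (finrank F U) with h | h
        · exact absurd (Submodule.finrank_eq_zero.mp h) hUb
        · exact h
      have hU'b : U' ≠ ⊥ := by
        rintro rfl
        apply hUt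
        have := hc.sup_eq_top
        rwa [sup_bot_eq] at this
      have hU'1 : 1 ≤ finrank F U' := by
        rcases Nat.eq_zero_or_pos (finrank F U') with h | h
        · exact absurd (Submodule.finrank_eq_zero.mp h) hU'b
        · exact h
      have h1 := ih (finrank F U) (by omega) P hP U (sub ρ U hU) rfl
      have h2 := ih (finrank F U') (by omega) P hP U' (sub ρ U' hU') rfl
      intro x hx
      have hx1 : x ∈ (sub ρ U hU).ker :=
        h1 (derivedSeries_antitone P (Nat.succ_le_succ (Nat.log_mono_right (by omega))) hx)
      have hx2 : x ∈ (sub ρ U' hU').ker :=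
        h2 (derivedSeries_antitone P (Nat.succ_le_succ (Nat.log_mono_right (by omega))) hx)
      apply mem_ker_of_iSup ρ (fun b : Bool => cond b U U')
        (by rw [iSup_bool_eq]; exact hc.sup_eq_top) x
      intro b y hy
      cases b
      · exact (mem_ker_sub_iff ρ U' hU' x).mp hx2 y hy
      · exact (mem_ker_sub_iff ρ U hU x).mp hx1 y hy
    · -- irreducible: pass to the faithful quotient
      push Not at hred
      have hirr : ∀ U, Inv ρ U → U = ⊥ ∨ U = ⊤ := by
        intro U hU
        by_cases h : U = ⊥
        · exact Or.inl h
        · exact Or.inr (hred U hU h)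
      set K : Subgroup P := ρ.toHomUnits.ker with hK
      let ρb : (P ⧸ K) →* Module.End F V :=
        (Units.coeHom (Module.End F V)).comp (QuotientGroup.kerLift ρ.toHomUnits)
      have hρb : ∀ g : P, ρb (QuotientGroup.mk g) = ρ g := fun g => rfl
      have hρbinj : Function.Injective ρb := by
        intro x y hxy
        apply QuotientGroup.kerLift_injective ρ.toHomUnits
        exact Units.ext hxy
      have hKle : (QuotientGroup.mk' K).ker ≤ ρ.ker := by
        rw [QuotientGroup.ker_mk']
        intro g hg
        rw [hK, MonoidHom.mem_ker] at hg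
        rw [MonoidHom.mem_ker]
        have := congrArg Units.val hg
        exact this
      have hQ : IsPGroup p (P ⧸ K) := hP.to_quotient K
      have hirrb : ∀ U, Inv ρb U → U = ⊥ ∨ U = ⊤ := by
        intro U hU
        exact hirr U (fun g x hx => hU (QuotientGroup.mk g) x hx)
      apply derivedSeries_le_ker_of_map ρ (QuotientGroup.mk' K) hKle
      rcases sq_or_metabelian hQ with ⟨W, hWn, hWc, hWe, hWcard⟩ | hmeta
      · -- Clifford step with `N = C(W)`
        haveI := hWn
        have hNc := commutator_le_centralizer_of_card_sq hQ W hWcard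
        haveI : Nontrivial V := Module.nontrivial_of_finrank_pos (R := F) (by omega)
        apply clifford_step ih hQ ρb hn hρbinj hirrb (Subgroup.centralizer (W : Set (P ⧸ K))) hNc
        by_contra hnr
        push Not at hnr
        have hp1 := hp.out.one_lt
        -- freeness
        have hfree : ∀ x ∈ W, x ≠ 1 → ∀ v, ρb x v = v → v = 0 := by
          intro x hxW hx1 v hv
          let Ux : Submodule F V := LinearMap.eqLocus (ρb x) LinearMap.id
          have hUx : Inv (ρb.comp (Subgroup.centralizer (W : Set (P ⧸ K))).subtype) Ux := by
            intro h y hy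
            have hy' : ρb x y = y := hy
            show ρb x (ρb h y) = ρb h y
            have hcomm : x * (h : P ⧸ K) = h * x := by
              have := Subgroup.mem_centralizer_iff.mp h.2 x hxW
              exact this
            have : ρb x * ρb h = ρb h * ρb x := by rw [← map_mul, ← map_mul, hcomm]
            have h2 := LinearMap.congr_fun this y
            rw [Module.End.mul_apply, Module.End.mul_apply, hy'] at h2
            exact h2
          have hvU : v ∈ Ux := hv
          by_contra hv0
          have hne : Ux ≠ ⊥ := fun h => hv0 (by rw [h, Submodule.mem_bot] at hvU; exact hvU)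
          have htop := hnr Ux hUx hne
          apply hx1
          apply hρbinj
          rw [map_one]
          ext y
          have : y ∈ Ux := htop ▸ Submodule.mem_top
          exact this
        have hWne : W ≠ ⊥ := by
          rintro rfl
          rw [Subgroup.card_bot] at hWcard
          have : 1 < p ^ 2 := Nat.one_lt_pow (by norm_num) hp1
          omega
        obtain ⟨a, haW, ha1⟩ : ∃ a ∈ W, a ≠ 1 := by
          by_contra hall
          push Not at hall
          exact hWne ((Subgroup.eq_bot_iff_forall _).mpr hall)
        obtain ⟨b, hbW, hbz⟩ : ∃ b ∈ W, b ∉ Subgroup.zpowers a := by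
          by_contra hall
          push Not at hall
          have hle : W ≤ Subgroup.zpowers a := hall
          have h1 : Nat.card W ≤ Nat.card (Subgroup.zpowers a) := Subgroup.card_le_of_le hle
          rw [Nat.card_zpowers, hWcard] at h1
          have h2 : orderOf a ≤ p := Nat.le_of_dvd hp.out.pos (orderOf_dvd_of_pow_eq_one (hWe a haW))
          have h3 : p < p ^ 2 := by
            rw [sq]; exact lt_mul_of_one_lt_left hp.out.pos hp1
          omega
        have hab : Commute a b := by
          have := hWc.is_comm.comm (⟨a, haW⟩ : W) ⟨b, hbW⟩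
          exact congrArg Subtype.val this
        apply not_free hpF ρb a b hab (hWe a haW) (hWe b hbW) (hfree a haW ha1)
        intro j
        apply hfree (a ^ j * b) (W.mul_mem (W.pow_mem haW j) hbW)
        intro h
        apply hbz
        have : b = (a ^ j)⁻¹ := eq_inv_of_mul_eq_one_right h
        rw [this]
        exact Subgroup.inv_mem _ (Subgroup.pow_mem _ (Subgroup.mem_zpowers a) j)
      · -- metabelian case
        rcases Nat.lt_or_ge n 2 with hlt | hge
        · have hn1 : n = 1 := by omega
          subst hn1
          rw [eq_bot_iff]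
          have h1 : Nat.log 2 1 + 1 = 0 + 1 := by rw [Nat.log_one_right]
          rw [h1]
          have := derivedSeries_succ_le_ker_of_comm ρb 0 ⊤ le_top
            (fun a _ b _ => by rw [map_mul, map_mul]; exact end_comm_of_finrank_one hn _ _)
          intro x hx
          have h2 := this hx
          rw [MonoidHom.mem_ker] at h2
          rw [Subgroup.mem_bot]
          exact hρbinj (h2.trans (map_one ρb).symm)
        · rw [eq_bot_iff, ← hmeta]
          apply derivedSeries_antitone
          have : 1 ≤ Nat.log 2 n := Nat.log_pos (by norm_num) hge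
          omega

end main

end Cfsg.Agent.Lib.Helper2.PGL
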