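import Mathlib

set_option autoImplicit false

namespace Cfsg.Agent.Lib.Helper2

namespace PGLsub

theorem geom (y n : ℕ) : (y + 1) ^ n = y * (∑ i ∈ Finset.range n, (y + 1) ^ i) + 1 := by
  induction n with
  | zero => simp
  | succ n ih =>
    rw [Finset.sum_range_succ, pow_succ]
    nth_rewrite 1 [ih]
    rw [ih]
    ring

theorem sum_odd {x : ℕ} (hx : Odd x) (n : ℕ) :
    (∑ i ∈ Finset.range n, x ^ i) % 2 = n % 2 := by
  induction n with
  | zero => simp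
  | succ n ih =>
    rw [Finset.sum_range_succ]
    have h1 : x ^ n % 2 = 1 := Nat.odd_iff.1 (hx.pow)
    omega

theorem not_dvd_of_odd {k m c : ℕ} (hk : Odd k) (hk1 : 1 < k) (hm : Odd m)
    (hc : 2 * c + k ^ m = (k ^ m) ^ 3) : ¬ k * (k ^ 2 - 1) ∣ c := by
  rintro ⟨t, rfl⟩
  obtain ⟨y, hy⟩ : ∃ y, k ^ 2 = y + 1 := ⟨k ^ 2 - 1, by
    have : 1 ≤ k ^ 2 := Nat.one_le_pow _ _ (by omega)
    omega⟩
  have hypos : 0 < y := by
    have : 2 ^ 2 ≤ k ^ 2 := Nat.pow_le_pow_left hk1 2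
    omega
  rw [hy, Nat.add_sub_cancel] at hc
  obtain ⟨S, hS⟩ : ∃ S, S = ∑ i ∈ Finset.range m, (y + 1) ^ i := ⟨_, rfl⟩
  have hq2 : (k ^ m) ^ 2 = y * S + 1 := by
    rw [← pow_mul, mul_comm, pow_mul, hy, hS]
    exact geom y m
  have hSodd : S % 2 = 1 := by
    rw [hS, sum_odd (by rw [← hy]; exact hk.pow) m]
    exact Nat.odd_iff.1 hm
  obtain ⟨q, hq⟩ : ∃ q, q = k ^ m := ⟨_, rfl⟩
  rw [← hq] at hc hq2
  have hqodd : q % 2 = 1 := by rw [hq]; exact Nat.odd_iff.1 hk.pow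
  have h3 : q ^ 3 = q * (y * S) + q := by
    have : q ^ 3 = q * q ^ 2 := by ring
    rw [this, hq2]; ring
  rw [h3] at hc
  have h4 : y * (2 * (k * t)) = y * (q * S) := by
    have : 2 * (k * y * t) = q * (y * S) := by omega
    calc y * (2 * (k * t)) = 2 * (k * y * t) := by ring
      _ = q * (y * S) := this
      _ = y * (q * S) := by ring
  have h5 : 2 * (k * t) = q * S := Nat.eq_of_mul_eq_mul_left hypos h4
  have h6 : (q * S) % 2 = 1 := by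
    rw [Nat.mul_mod, hqodd, hSodd]
  omega

theorem dvd_half {k m : ℕ} (hk : Odd k) (hm : Even m) : (k - 1) ∣ k ^ m / 2 := by
  obtain ⟨j, rfl⟩ := hk
  obtain ⟨n, rfl⟩ := hm
  have h1 : (2 * j + 1) ^ (n + n) = ((2 * j) * (2 * j + 2) + 1) ^ n := by
    rw [← two_mul, pow_mul]
    congr 1
    ring
  rw [h1, geom, Nat.add_sub_cancel]
  obtain ⟨S, hS⟩ : ∃ S, S = ∑ i ∈ Finset.range n, ((2 * j) * (2 * j + 2) + 1) ^ i := ⟨_, rfl⟩
  rw [← hS]
  have h2 : 2 * j * (2 * j + 2) * S + 1 = 2 * (2 * j * ((j + 1) * S)) + 1 := by ring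
  rw [h2]
  have h3 : (2 * (2 * j * ((j + 1) * S)) + 1) / 2 = 2 * j * ((j + 1) * S) := by omega
  rw [h3]
  exact Dvd.intro _ rfl

end PGLsub

end Cfsg.Agent.Lib.Helper2
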