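import Mathlib
import Cfsg.Agent.Lib.Helper2.SL2Four5

set_option autoImplicit false

namespace Cfsg.Agent.Lib.Helper2

namespace PGLsub

open SL2Four

variable {K F : Type*} [Field K] [Field F] (ι : K →+* F)

theorem det_map (g : GL (Fin 2) K) :
    (ι.mapMatrix (g : Matrix (Fin 2) (Fin 2) K)).det = ι (g : Matrix (Fin 2) (Fin 2) K).det :=
  (RingHom.map_det ι _).symm

theorem root_ne_zero (g : GL (Fin 2) K) {r : F}
    (hr : r * r = ι (g : Matrix (Fin 2) (Fin 2) K).det) : r ≠ 0 := by
  rintro rfl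
  rw [mul_zero] at hr
  exact Matrix.GeneralLinearGroup.det_ne_zero g (ι.injective (by rw [← hr, map_zero]))

/-- the normalized image of `g` -/
noncomputable def A (g : GL (Fin 2) K) (r : F)
    (hr : r * r = ι (g : Matrix (Fin 2) (Fin 2) K).det) : Matrix.SpecialLinearGroup (Fin 2) F :=
  ⟨r⁻¹ • ι.mapMatrix (g : Matrix (Fin 2) (Fin 2) K), by
    have h0 := root_ne_zero ι g hr
    rw [Matrix.det_smul, Fintype.card_fin, det_map, ← hr]
    field_simp⟩

theorem A_neg (g : GL (Fin 2) K) (r : F)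
    (hr : r * r = ι (g : Matrix (Fin 2) (Fin 2) K).det) :
    A ι g (-r) (by rw [neg_mul_neg]; exact hr) = -A ι g r hr := by
  apply Subtype.ext
  rw [Matrix.SpecialLinearGroup.coe_neg]
  change (-r)⁻¹ • _ = -(r⁻¹ • _)
  rw [inv_neg, neg_smul]

theorem mk_A_eq (g : GL (Fin 2) K) (r r' : F)
    (hr : r * r = ι (g : Matrix (Fin 2) (Fin 2) K).det)
    (hr' : r' * r' = ι (g : Matrix (Fin 2) (Fin 2) K).det) :
    (QuotientGroup.mk (A ι g r hr) : Matrix.ProjectiveSpecialLinearGroup (Fin 2) F) =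
      QuotientGroup.mk (A ι g r' hr') := by
  have h1 : (r - r') * (r + r') = 0 := by linear_combination hr - hr'
  rcases mul_eq_zero.1 h1 with h | h
  · have : r = r' := by linear_combination h
    subst this
    rfl
  · have : r = -r' := by linear_combination h
    subst this
    rw [A_neg ι g r' hr', mk_neg]

theorem A_mul (g h : GL (Fin 2) K) (r s : F)
    (hr : r * r = ι (g : Matrix (Fin 2) (Fin 2) K).det)
    (hs : s * s = ι (h : Matrix (Fin 2) (Fin 2) K).det) :
    A ι g r hr * A ι h s hs = A ι (g * h) (r * s) (by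
      rw [Matrix.GeneralLinearGroup.coe_mul, Matrix.det_mul, map_mul, ← hr, ← hs]; ring) := by
  apply Subtype.ext
  rw [Matrix.SpecialLinearGroup.coe_mul]
  change (r⁻¹ • _) * (s⁻¹ • _) = (r * s)⁻¹ • _
  rw [Matrix.GeneralLinearGroup.coe_mul, map_mul, Matrix.smul_mul, Matrix.mul_smul, smul_smul,
    mul_inv]

variable (hsq : ∀ d : K, d ≠ 0 → ∃ r : F, r * r = ι d)

/-- the map `GL₂(K) → PSL₂(F)` -/
noncomputable def ψfun (g : GL (Fin 2) K) : Matrix.ProjectiveSpecialLinearGroup (Fin 2) F :=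
  QuotientGroup.mk (A ι g (Classical.choose (hsq _ (Matrix.GeneralLinearGroup.det_ne_zero g)))
    (Classical.choose_spec (hsq _ (Matrix.GeneralLinearGroup.det_ne_zero g))))

theorem ψfun_eq (g : GL (Fin 2) K) (r : F)
    (hr : r * r = ι (g : Matrix (Fin 2) (Fin 2) K).det) :
    ψfun ι hsq g = QuotientGroup.mk (A ι g r hr) :=
  mk_A_eq ι g _ _ _ _

/-- the homomorphism `GL₂(K) → PSL₂(F)` -/
noncomputable def ψ : GL (Fin 2) K →* Matrix.ProjectiveSpecialLinearGroup (Fin 2) F :=
  MonoidHom.mk' (ψfun ι hsq) (by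
    intro g h
    obtain ⟨r, hr⟩ := hsq _ (Matrix.GeneralLinearGroup.det_ne_zero g)
    obtain ⟨s, hs⟩ := hsq _ (Matrix.GeneralLinearGroup.det_ne_zero h)
    rw [ψfun_eq ι hsq g r hr, ψfun_eq ι hsq h s hs, ← QuotientGroup.mk_mul, A_mul ι g h r s hr hs]
    exact ψfun_eq ι hsq (g * h) (r * s) _)

theorem ker_ψ : (ψ ι hsq).ker = Subgroup.center (GL (Fin 2) K) := by
  ext g
  rw [MonoidHom.mem_ker]
  change ψfun ι hsq g = 1 ↔ _
  constructor
  · intro h
    obtain ⟨r, hr⟩ := hsq _ (Matrix.GeneralLinearGroup.det_ne_zero g)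
    have h0 := root_ne_zero ι g hr
    rw [ψfun_eq ι hsq g r hr, QuotientGroup.eq_one_iff, mem_center_iff'] at h
    -- the matrix of `g` is scalar
    have hmat : ∃ c : F, ι.mapMatrix (g : Matrix (Fin 2) (Fin 2) K) = c • (1 : Matrix (Fin 2) (Fin 2) F) := by
      rcases h with h | h
      · refine ⟨r, ?_⟩
        have := congrArg (fun m : Matrix.SpecialLinearGroup (Fin 2) F =>
          (m : Matrix (Fin 2) (Fin 2) F)) h
        change r⁻¹ • _ = _ at this
        rw [Matrix.SpecialLinearGroup.coe_one] at this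
        rw [← this, smul_smul, mul_inv_cancel₀ h0, one_smul]
      · refine ⟨-r, ?_⟩
        have := congrArg (fun m : Matrix.SpecialLinearGroup (Fin 2) F =>
          (m : Matrix (Fin 2) (Fin 2) F)) h
        change r⁻¹ • _ = _ at this
        rw [Matrix.SpecialLinearGroup.coe_neg, Matrix.SpecialLinearGroup.coe_one] at this
        have h2 : (1 : Matrix (Fin 2) (Fin 2) F) = -(r⁻¹ • ι.mapMatrix (g : Matrix (Fin 2) (Fin 2) K)) := by
          rw [this, neg_neg]
        rw [h2, smul_neg, smul_smul, neg_mul, mul_inv_cancel₀ h0, neg_smul, one_smul, neg_neg]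
    obtain ⟨c, hc⟩ := hmat
    have e01 : (g : Matrix (Fin 2) (Fin 2) K) 0 1 = 0 := by
      have := congrFun (congrFun hc 0) 1
      simp only [RingHom.mapMatrix_apply, Matrix.map_apply, Matrix.smul_apply] at this
      apply ι.injective
      rw [this, map_zero]; simp
    have e10 : (g : Matrix (Fin 2) (Fin 2) K) 1 0 = 0 := by
      have := congrFun (congrFun hc 1) 0
      simp only [RingHom.mapMatrix_apply, Matrix.map_apply, Matrix.smul_apply] at this
      apply ι.injective
      rw [this, map_zero]; simp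
    have e11 : (g : Matrix (Fin 2) (Fin 2) K) 1 1 = (g : Matrix (Fin 2) (Fin 2) K) 0 0 := by
      have h1 := congrFun (congrFun hc 0) 0
      have h2 := congrFun (congrFun hc 1) 1
      simp only [RingHom.mapMatrix_apply, Matrix.map_apply, Matrix.smul_apply, Matrix.one_apply_eq,
        smul_eq_mul, mul_one] at h1 h2
      apply ι.injective
      rw [h1, h2]
    have hg : (g : Matrix (Fin 2) (Fin 2) K) =
        (g : Matrix (Fin 2) (Fin 2) K) 0 0 • (1 : Matrix (Fin 2) (Fin 2) K) := by
      ext i j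
      fin_cases i <;> fin_cases j <;> simp [e01, e10, e11]
    rw [Subgroup.mem_center_iff]
    intro h'
    apply Units.ext
    rw [Matrix.GeneralLinearGroup.coe_mul, Matrix.GeneralLinearGroup.coe_mul, hg,
      Matrix.mul_smul, Matrix.smul_mul, mul_one, one_mul]
  · intro h
    rw [Matrix.GeneralLinearGroup.center_eq_range_scalar] at h
    obtain ⟨u, rfl⟩ := h
    have hdet : (ι (u : K)) * (ι (u : K)) =
        ι ((Matrix.GeneralLinearGroup.scalar (Fin 2) u : GL (Fin 2) K) :
          Matrix (Fin 2) (Fin 2) K).det := by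
      rw [Matrix.GeneralLinearGroup.coe_scalar, Matrix.scalar_apply, Matrix.det_diagonal]
      simp [pow_two]
    rw [ψfun_eq ι hsq _ _ hdet, QuotientGroup.eq_one_iff, mem_center_iff']
    left
    apply Subtype.ext
    change (ι (u : K))⁻¹ • _ = _
    rw [Matrix.GeneralLinearGroup.coe_scalar, Matrix.SpecialLinearGroup.coe_one]
    have hu : ι (u : K) ≠ 0 := by
      intro h0
      exact u.ne_zero (ι.injective (by rw [h0, map_zero]))
    ext i j
    by_cases hij : i = j
    · subst hij
      simp [hu]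
    · simp [hij]

include ι hsq in
theorem exists_PGL : ∃ H : Subgroup (Matrix.ProjectiveSpecialLinearGroup (Fin 2) F),
    Nonempty (H ≃* Matrix.ProjGenLinGroup (Fin 2) K) := by
  refine ⟨(ψ ι hsq).range, ⟨?_⟩⟩
  exact (QuotientGroup.quotientKerEquivRange (ψ ι hsq)).symm.trans
    (QuotientGroup.quotientMulEquivOfEq (ker_ψ ι hsq))

end PGLsub

end Cfsg.Agent.Lib.Helper2
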