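import Mathlib
import Cfsg.Agent.Lib.Helper2.SL2Four5

set_option autoImplicit false

namespace Cfsg.Agent.Lib.Helper2

namespace SL2Four

open Matrix

variable {F : Type*} [Field F]

/-- the centre as a subtype -/
abbrev Zt (F : Type*) [Field F] : Type _ :=
  {z : SpecialLinearGroup (Fin 2) F // z = 1 ∨ z = -1}

theorem card_Zt (h2 : (2 : F) ≠ 0) : Nat.card (Zt F) = 2 := by
  have h1 : Nat.card (Zt F) = ({1, -1} : Set (SpecialLinearGroup (Fin 2) F)).ncard := by
    rw [← Nat.card_coe_set_eq]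
    rfl
  rw [h1, Set.ncard_pair (neg_one_ne_one h2).symm]

theorem z_mul_self {z : SpecialLinearGroup (Fin 2) F} (hz : z = 1 ∨ z = -1) : z * z = 1 := by
  rcases hz with rfl | rfl
  · exact mul_one 1
  · rw [neg_mul_neg, mul_one]

theorem z_comm {z : SpecialLinearGroup (Fin 2) F} (hz : z = 1 ∨ z = -1)
    (x : SpecialLinearGroup (Fin 2) F) : z * x = x * z := by
  rcases hz with rfl | rfl
  · rw [one_mul, mul_one]
  · rw [neg_mul, mul_neg, one_mul, mul_one]

theorem mk_z_mul {z : SpecialLinearGroup (Fin 2) F} (hz : z = 1 ∨ z = -1)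
    (x : SpecialLinearGroup (Fin 2) F) :
    (QuotientGroup.mk (z * x) : ProjectiveSpecialLinearGroup (Fin 2) F) = QuotientGroup.mk x := by
  rcases hz with rfl | rfl
  · rw [one_mul]
  · rw [neg_mul, one_mul, mk_neg]

theorem anti_z {z1 z2 g₀ h₀ : SpecialLinearGroup (Fin 2) F} (hz1 : z1 = 1 ∨ z1 = -1)
    (hz2 : z2 = 1 ∨ z2 = -1) (hanti : h₀ * g₀ * h₀⁻¹ = g₀⁻¹) :
    z2 * h₀ * (z1 * g₀) * (z2 * h₀)⁻¹ = (z1 * g₀)⁻¹ := by
  rcases hz1 with rfl | rfl <;> rcases hz2 with rfl | rfl
  · simpa using hanti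
  · simpa using hanti
  · simpa using hanti
  · simpa using hanti

variable [Fintype F] [DecidableEq F]

/-- the fibres of the projection have four elements -/
theorem card_fibre_proj (h2 : (2 : F) ≠ 0) (t : T F) :
    Nat.card {p : That F // proj h2 p = t} = 4 := by
  obtain ⟨⟨x, y⟩, hx, hy, hne, hc⟩ := t
  simp only at hx hy hne hc
  obtain ⟨g₀, hg₀, rfl⟩ := exists_lift h2 x hx
  obtain ⟨h₀, hh₀, rfl⟩ := exists_lift h2 y hy
  have hanti : h₀ * g₀ * h₀⁻¹ = g₀⁻¹ := by
    have h1 : (QuotientGroup.mk (g₀ * h₀) : ProjectiveSpecialLinearGroup (Fin 2) F) =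
        QuotientGroup.mk (h₀ * g₀) := hc.eq
    rw [mk_eq_mk_iff] at h1
    rcases h1 with h1 | h1
    · exfalso
      apply hne
      have hcomm : Commute h₀ g₀ := h1
      rw [mk_eq_mk_iff]
      rcases eq_or_eq_inv h2 hg₀ hh₀ hcomm with h3 | h3
      · exact Or.inl h3
      · right
        rw [h3, inv_eq_neg hg₀]
    · rw [h1, neg_mul, mul_inv_cancel_right, inv_eq_neg hg₀]
  have key : ∀ p : That F, proj h2 p = ⟨(QuotientGroup.mk g₀, QuotientGroup.mk h₀),
      hx, hy, hne, hc⟩ ↔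
      (p.1.1 * g₀⁻¹ = 1 ∨ p.1.1 * g₀⁻¹ = -1) ∧ (p.1.2 * h₀⁻¹ = 1 ∨ p.1.2 * h₀⁻¹ = -1) := by
    intro p
    have e1 : ∀ a b : SpecialLinearGroup (Fin 2) F,
        (QuotientGroup.mk a : ProjectiveSpecialLinearGroup (Fin 2) F) = QuotientGroup.mk b ↔
          (a * b⁻¹ = 1 ∨ a * b⁻¹ = -1) := by
      intro a b
      rw [mk_eq_mk_iff]
      constructor
      · rintro (rfl | rfl)
        · left
          exact mul_inv_cancel b
        · right
          rw [← neg_inv, mul_neg, mul_inv_cancel]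
      · rintro (h | h)
        · left
          exact (mul_inv_eq_one.1 h).symm
        · right
          have : b = (a * b⁻¹)⁻¹ * a := by group
          rw [this, h]
          simp
    unfold proj
    rw [Subtype.mk.injEq, Prod.mk.injEq, e1, e1]
  rw [Nat.card_congr (Equiv.subtypeEquivRight key)]
  have e : {p : That F // (p.1.1 * g₀⁻¹ = 1 ∨ p.1.1 * g₀⁻¹ = -1) ∧
      (p.1.2 * h₀⁻¹ = 1 ∨ p.1.2 * h₀⁻¹ = -1)} ≃ Zt F × Zt F :=
    { toFun := fun p => (⟨p.1.1.1 * g₀⁻¹, p.2.1⟩, ⟨p.1.1.2 * h₀⁻¹, p.2.2⟩)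
      invFun := fun z => ⟨⟨(z.1.1 * g₀, z.2.1 * h₀), by
          constructor
          · show z.1.1 * g₀ * (z.1.1 * g₀) = -1
            rw [mul_assoc, ← mul_assoc g₀, ← z_comm z.1.2 g₀, mul_assoc, ← mul_assoc,
              z_mul_self z.1.2, one_mul, hg₀]
          · exact anti_z z.1.2 z.2.2 hanti⟩, by
          constructor
          · show z.1.1 * g₀ * g₀⁻¹ = 1 ∨ z.1.1 * g₀ * g₀⁻¹ = -1
            rw [mul_inv_cancel_right]
            exact z.1.2
          · show z.2.1 * h₀ * h₀⁻¹ = 1 ∨ z.2.1 * h₀ * h₀⁻¹ = -1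
            rw [mul_inv_cancel_right]
            exact z.2.2⟩
      left_inv := by
        intro p
        apply Subtype.ext
        apply Subtype.ext
        apply Prod.ext
        · show p.1.1.1 * g₀⁻¹ * g₀ = p.1.1.1
          rw [inv_mul_cancel_right]
        · show p.1.1.2 * h₀⁻¹ * h₀ = p.1.1.2
          rw [inv_mul_cancel_right]
      right_inv := by
        intro z
        apply Prod.ext
        · apply Subtype.ext
          show z.1.1 * g₀ * g₀⁻¹ = z.1.1
          rw [mul_inv_cancel_right]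
        · apply Subtype.ext
          show z.2.1 * h₀ * h₀⁻¹ = z.2.1
          rw [mul_inv_cancel_right] }
  rw [Nat.card_congr e, Nat.card_prod, card_Zt h2]

/-- twice the number of pairs of distinct commuting involutions is the order of `PSL₂` -/
theorem two_mul_card_T (h2 : (2 : F) ≠ 0) :
    2 * Nat.card (T F) = Nat.card (ProjectiveSpecialLinearGroup (Fin 2) F) := by
  haveI : Finite (T F) := inferInstance
  have h1 := Cfsg.Agent.Lib.Helper3.card_eq_mul_of_fibres (proj h2) 4 (card_fibre_proj h2)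
  rw [card_That h2] at h1
  have h3 := Subgroup.card_eq_card_quotient_mul_card_subgroup
    (Subgroup.center (SpecialLinearGroup (Fin 2) F))
  have h4 : Nat.card ↥(Subgroup.center (SpecialLinearGroup (Fin 2) F)) = 2 := by
    have e : ↥(Subgroup.center (SpecialLinearGroup (Fin 2) F)) ≃ Zt F :=
      Equiv.subtypeEquivRight (fun z => mem_center_iff' z)
    rw [Nat.card_congr e]
    exact card_Zt h2
  rw [h4, h1] at h3
  have h5 : Nat.card (SpecialLinearGroup (Fin 2) F ⧸
      Subgroup.center (SpecialLinearGroup (Fin 2) F)) =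
      Nat.card (ProjectiveSpecialLinearGroup (Fin 2) F) := rfl
  omega

end SL2Four

end Cfsg.Agent.Lib.Helper2
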