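import Mathlib
import Cfsg.Agent.Lib.Helper2.SL2Four6

set_option autoImplicit false

namespace Cfsg.Agent.Lib.Helper2

namespace SL2Klein

open SL2Four

variable {F : Type*} [Field F]

/-- an element commuting with `J` and with an element anticommuting with `J` is `±1` -/
theorem comm_J_pm_one (h2 : (2 : F) ≠ 0) {g y : Matrix.SpecialLinearGroup (Fin 2) F}
    (hy : y * J = -(J * y)) (hgJ : g * J = J * g) (hgy : g * y = y * g) : g = 1 ∨ g = -1 := by
  have hdg := g.2
  have hdy := y.2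
  rw [Matrix.det_fin_two] at hdg hdy
  have e1 := congrArg (fun m : Matrix.SpecialLinearGroup (Fin 2) F => (m : Matrix (Fin 2) (Fin 2) F)) hgJ
  have e2 := congrArg (fun m : Matrix.SpecialLinearGroup (Fin 2) F => (m : Matrix (Fin 2) (Fin 2) F)) hy
  have e3 := congrArg (fun m : Matrix.SpecialLinearGroup (Fin 2) F => (m : Matrix (Fin 2) (Fin 2) F)) hgy
  simp only [Matrix.SpecialLinearGroup.coe_mul, Matrix.SpecialLinearGroup.coe_neg] at e1 e2 e3
  have a00 := congrFun (congrFun e1 0) 0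
  have a01 := congrFun (congrFun e1 0) 1
  have b00 := congrFun (congrFun e2 0) 0
  have b01 := congrFun (congrFun e2 0) 1
  have c00 := congrFun (congrFun e3 0) 0
  have c01 := congrFun (congrFun e3 0) 1
  simp only [Matrix.mul_apply, Fin.sum_univ_two, Matrix.neg_apply, J,
    Matrix.of_apply, Matrix.cons_val_zero, Matrix.cons_val_one, Matrix.cons_val',
    Matrix.empty_val', Matrix.cons_val_fin_one] at a00 a01 b00 b01 c00 c01
  obtain ⟨g00, hg00⟩ : ∃ t, t = (g : Matrix (Fin 2) (Fin 2) F) 0 0 := ⟨_, rfl⟩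
  obtain ⟨g01, hg01⟩ : ∃ t, t = (g : Matrix (Fin 2) (Fin 2) F) 0 1 := ⟨_, rfl⟩
  obtain ⟨g10, hg10⟩ : ∃ t, t = (g : Matrix (Fin 2) (Fin 2) F) 1 0 := ⟨_, rfl⟩
  obtain ⟨g11, hg11⟩ : ∃ t, t = (g : Matrix (Fin 2) (Fin 2) F) 1 1 := ⟨_, rfl⟩
  obtain ⟨y00, hy00⟩ : ∃ t, t = (y : Matrix (Fin 2) (Fin 2) F) 0 0 := ⟨_, rfl⟩
  obtain ⟨y01, hy01⟩ : ∃ t, t = (y : Matrix (Fin 2) (Fin 2) F) 0 1 := ⟨_, rfl⟩
  obtain ⟨y10, hy10⟩ : ∃ t, t = (y : Matrix (Fin 2) (Fin 2) F) 1 0 := ⟨_, rfl⟩
  obtain ⟨y11, hy11⟩ : ∃ t, t = (y : Matrix (Fin 2) (Fin 2) F) 1 1 := ⟨_, rfl⟩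
  rw [← hg00, ← hg01, ← hg10, ← hg11] at hdg
  rw [← hy00, ← hy01, ← hy10, ← hy11] at hdy
  simp only [← hg00, ← hg01, ← hg10, ← hg11, ← hy00, ← hy01, ← hy10, ← hy11] at a00 a01 b00 b01 c00 c01
  have k1 : g10 = -g01 := by linear_combination -a00
  have k2 : g00 = g11 := by linear_combination a01
  have k3 : y10 = y01 := by linear_combination b00
  have k4 : y11 = -y00 := by linear_combination b01
  subst k1 k2 k3 k4
  have k5 : g01 * y10 = 0 := by
    have : (2 : F) * (g01 * y10) = 0 := by linear_combination c00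
    exact (mul_eq_zero.1 this).resolve_left h2
  have k6 : g01 * y00 = 0 := by
    have : (2 : F) * (g01 * y00) = 0 := by linear_combination -c01
    exact (mul_eq_zero.1 this).resolve_left h2
  have k7 : g01 = 0 := by
    by_contra hne
    have h1 : y10 = 0 := (mul_eq_zero.1 k5).resolve_left hne
    have h3 : y00 = 0 := (mul_eq_zero.1 k6).resolve_left hne
    rw [h1, h3] at hdy
    simp at hdy
  subst k7
  have k8 : (g00 - 1) * (g00 + 1) = 0 := by linear_combination hdg
  rcases mul_eq_zero.1 k8 with h | h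
  · left
    have h' : g00 = 1 := by linear_combination h
    apply Subtype.ext
    ext i j
    fin_cases i <;> fin_cases j <;> simp [← hg00, ← hg01, ← hg10, ← hg11, h']
  · right
    have h' : g00 = -1 := by linear_combination h
    apply Subtype.ext
    ext i j
    fin_cases i <;> fin_cases j <;> simp [← hg00, ← hg01, ← hg10, ← hg11, h']

end SL2Klein

end Cfsg.Agent.Lib.Helper2
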