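import Mathlib
import Cfsg.Agent.Lib.Helper2.SL2Klein1

set_option autoImplicit false

namespace Cfsg.Agent.Lib.Helper2

namespace SL2Klein

open SL2Four

variable {F : Type*} [Field F] [Fintype F] [DecidableEq F]

local notation "SL" => Matrix.SpecialLinearGroup (Fin 2) F

/-- an element commuting with two anticommuting elements, one of square `-1`, is `±1` -/
theorem comm_pm_one (h2 : (2 : F) ≠ 0) {x y g : SL} (hx : x * x = -1) (hyx : y * x = -(x * y))
    (hgx : g * x = x * g) (hgy : g * y = y * g) : g = 1 ∨ g = -1 := by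
  obtain ⟨c, hc⟩ := isConj_iff.1 (isConj_of_sq h2 hx J_sq)
  have key := comm_J_pm_one h2 (g := c * g * c⁻¹) (y := c * y * c⁻¹) ?_ ?_ ?_
  · rcases key with h | h
    · left
      have : g = c⁻¹ * (c * g * c⁻¹) * c := by group
      rw [this, h]; group
    · right
      have : g = c⁻¹ * (c * g * c⁻¹) * c := by group
      rw [this, h, mul_neg, neg_mul, mul_one, inv_mul_cancel]
  · rw [← hc]
    have e1 : c * y * c⁻¹ * (c * x * c⁻¹) = c * (y * x) * c⁻¹ := by group
    have e2 : c * x * c⁻¹ * (c * y * c⁻¹) = c * (x * y) * c⁻¹ := by group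
    rw [e1, e2, hyx, mul_neg, neg_mul]
  · rw [← hc]
    have e1 : c * g * c⁻¹ * (c * x * c⁻¹) = c * (g * x) * c⁻¹ := by group
    have e2 : c * x * c⁻¹ * (c * g * c⁻¹) = c * (x * g) * c⁻¹ := by group
    rw [e1, e2, hgx]
  · have e1 : c * g * c⁻¹ * (c * y * c⁻¹) = c * (g * y) * c⁻¹ := by group
    have e2 : c * y * c⁻¹ * (c * g * c⁻¹) = c * (y * g) * c⁻¹ := by group
    rw [e1, e2, hgy]

theorem lift_central (h2 : (2 : F) ≠ 0) {x y g : SL} (hx : x * x = -1) (hy : y * y = -1)
    (hyx : y * x = -(x * y))
    (h1 : g * x = x * g ∨ g * x = -(x * g)) (h2' : g * y = y * g ∨ g * y = -(y * g)) :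
    ∃ u : SL, (u = 1 ∨ u = x ∨ u = y ∨ u = x * y) ∧ (g = u ∨ g = -u) := by
  have hxy : x * y = -(y * x) := by rw [hyx, neg_neg]
  rcases h1 with h1 | h1 <;> rcases h2' with h3 | h3
  · refine ⟨1, Or.inl rfl, comm_pm_one h2 hx hyx h1 h3⟩
  · -- g commutes with x, anticommutes with y
    have k1 : (g * x) * x = x * (g * x) := by rw [h1, mul_assoc, h1]
    have k2 : (g * x) * y = y * (g * x) := by
      calc (g * x) * y = g * (x * y) := mul_assoc _ _ _
        _ = -((g * y) * x) := by rw [hxy, mul_neg, mul_assoc]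
        _ = y * (g * x) := by rw [h3, neg_mul, neg_neg, mul_assoc]
    refine ⟨x, Or.inr (Or.inl rfl), ?_⟩
    rcases comm_pm_one h2 hx hyx k1 k2 with h | h
    · right
      have : g = x⁻¹ := eq_inv_of_mul_eq_one_left h
      rw [this, inv_eq_neg hx]
    · left
      have : g * x * x = -x := by rw [h, neg_mul, one_mul]
      rw [mul_assoc, hx, mul_neg, mul_one] at this
      exact neg_injective this
  · -- g anticommutes with x, commutes with y
    have k1 : (g * y) * y = y * (g * y) := by rw [h3, mul_assoc, h3]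
    have k2 : (g * y) * x = x * (g * y) := by
      calc (g * y) * x = g * (y * x) := mul_assoc _ _ _
        _ = -((g * x) * y) := by rw [hyx, mul_neg, mul_assoc]
        _ = x * (g * y) := by rw [h1, neg_mul, neg_neg, mul_assoc]
    refine ⟨y, Or.inr (Or.inr (Or.inl rfl)), ?_⟩
    rcases comm_pm_one h2 hx hyx k2 k1 with h | h
    · right
      have : g = y⁻¹ := eq_inv_of_mul_eq_one_left h
      rw [this, inv_eq_neg hy]
    · left
      have : g * y * y = -y := by rw [h, neg_mul, one_mul]
      rw [mul_assoc, hy, mul_neg, mul_one] at this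
      exact neg_injective this
  · -- g anticommutes with both
    have hxy2 : (x * y) * (x * y) = -1 := by
      calc (x * y) * (x * y) = x * (y * x) * y := by group
        _ = -((x * x) * (y * y)) := by rw [hyx, mul_neg, neg_mul]; congr 1; group
        _ = -1 := by rw [hx, hy, neg_mul_neg, one_mul]
    have k1 : (g * (x * y)) * x = x * (g * (x * y)) := by
      calc (g * (x * y)) * x = g * x * (y * x) := by group
        _ = -((g * x) * (x * y)) := by rw [hyx, mul_neg]
        _ = x * (g * (x * y)) := by rw [h1, neg_mul, neg_neg, mul_assoc]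
    have k2 : (g * (x * y)) * y = y * (g * (x * y)) := by
      calc (g * (x * y)) * y = g * (x * y) * y := rfl
        _ = -(g * (y * x) * y) := by rw [hxy, mul_neg, neg_mul]
        _ = -((g * y) * (x * y)) := by congr 1; group
        _ = y * (g * (x * y)) := by rw [h3, neg_mul, neg_neg, mul_assoc]
    refine ⟨x * y, Or.inr (Or.inr (Or.inr rfl)), ?_⟩
    rcases comm_pm_one h2 hx hyx k1 k2 with h | h
    · right
      have : g = (x * y)⁻¹ := eq_inv_of_mul_eq_one_left h
      rw [this, inv_eq_neg hxy2]
    · left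
      have : g * (x * y) * (x * y) = -(x * y) := by rw [h, neg_mul, one_mul]
      rw [mul_assoc, hxy2, mul_neg, mul_one] at this
      exact neg_injective this

end SL2Klein

end Cfsg.Agent.Lib.Helper2
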