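import Mathlib
import Cfsg.Agent.Lib.Helper2.SL2Klein2
import Cfsg.Agent.Lib.Helper2.KleinCount2

set_option autoImplicit false

namespace Cfsg.Agent.Lib.Helper2

namespace SL2Klein

open SL2Four KleinCount

section General

variable {P : Type*} [Group P]

theorem exists_pair (V : Subgroup P) [hV : IsKleinFour V] :
    ∃ x y : P, x ∈ V ∧ y ∈ V ∧ x * x = 1 ∧ y * y = 1 ∧ x * y = y * x ∧ x ≠ 1 ∧ y ≠ 1 ∧ x ≠ y := by
  haveI : Finite V := Nat.finite_of_card_ne_zero (by rw [hV.card_four]; norm_num)
  have h6 := card_pairs (A := V) hV.card_four 1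
  have hne : Nonempty {q : V × V // q.1 ≠ 1 ∧ q.2 ≠ 1 ∧ q.1 ≠ q.2} := by
    apply (Nat.card_pos_iff.1 _).1
    rw [h6]; norm_num
  obtain ⟨⟨⟨a, b⟩, h1, h2, h3⟩⟩ := hne
  simp only at h1 h2 h3
  have := IsKleinFour.isMulCommutative (G := V)
  refine ⟨a, b, a.2, b.2, ?_, ?_, ?_, ?_, ?_, ?_⟩
  · exact congrArg Subtype.val (IsKleinFour.mul_self a)
  · exact congrArg Subtype.val (IsKleinFour.mul_self b)
  · have hc : a * b = b * a := mul_comm' _ _
    exact congrArg Subtype.val hc
  · intro h; exact h1 (Subtype.ext h)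
  · intro h; exact h2 (Subtype.ext h)
  · intro h; exact h3 (Subtype.ext h)

/-- automorphisms of a four-group permute its three involutions -/
theorem card_mulAut_dvd_six (A : Type*) [Group A] [hA : IsKleinFour A] :
    Nat.card (MulAut A) ∣ 6 := by
  classical
  haveI : Finite A := Nat.finite_of_card_ne_zero (by rw [hA.card_four]; norm_num)
  have := Fintype.ofFinite A
  have hB : Nat.card {a : A // a ≠ 1} = 3 := by
    have h1 : Fintype.card {a : A // ¬ a = 1} =
        Fintype.card A - Fintype.card {a : A // a = 1} := Fintype.card_subtype_compl _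
    rw [Fintype.card_subtype_eq, ← Nat.card_eq_fintype_card, ← Nat.card_eq_fintype_card,
      hA.card_four] at h1
    exact h1
  let ψ : MulAut A →* Equiv.Perm {a : A // a ≠ 1} :=
    { toFun := fun φ => (MulAut.toPerm A φ).subtypePerm (fun a => by
        change φ a ≠ 1 ↔ a ≠ 1
        rw [Ne, Ne, map_eq_one_iff φ φ.injective])
      map_one' := by
        ext a
        rfl
      map_mul' := by
        intro φ₁ φ₂
        ext a
        rfl }
  have hinj : Function.Injective ψ := by
    intro φ₁ φ₂ h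
    ext a
    by_cases ha : a = 1
    · rw [ha, map_one, map_one]
    · have := congrArg (fun σ : Equiv.Perm {a : A // a ≠ 1} => ((σ ⟨a, ha⟩ : {a : A // a ≠ 1}) : A)) h
      exact this
  have h1 := Subgroup.card_dvd_of_injective ψ hinj
  rw [Nat.card_perm, hB] at h1
  exact h1

theorem card_normalizer_dvd_of_centralizer_le [Finite P] (V : Subgroup P) [hV : IsKleinFour V]
    (hC : Subgroup.centralizer (V : Set P) ≤ V) :
    Nat.card (Subgroup.normalizer (V : Set P)) ∣ 24 := by
  have := IsKleinFour.isMulCommutative (G := V)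
  have hCV : Subgroup.centralizer (V : Set P) = V :=
    le_antisymm hC (Subgroup.le_centralizer_iff_isMulCommutative.2 inferInstance)
  have h1 := Subgroup.card_mul_index (V.normalizerMonoidHom).ker
  rw [Subgroup.index_ker, Subgroup.normalizerMonoidHom_ker] at h1
  have h2 : Nat.card ((Subgroup.centralizer (V : Set P)).subgroupOf
      (Subgroup.normalizer (V : Set P))) = 4 := by
    rw [Nat.card_congr (Subgroup.subgroupOfEquivOfLe
      (Subgroup.centralizer_le_normalizer (V : Set P))).toEquiv, hCV, hV.card_four]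
  rw [h2] at h1
  have h3 : Nat.card (V.normalizerMonoidHom).range ∣ 6 :=
    (Subgroup.card_subgroup_dvd_card _).trans (card_mulAut_dvd_six V)
  have h24 : (24 : ℕ) = 4 * 6 := by norm_num
  rw [h24, ← h1]
  exact Nat.mul_dvd_mul_left 4 h3

theorem eight_dvd_card_normalizer [Finite P] (V : Subgroup P) (hV : Nat.card V = 4)
    (h8 : 8 ∣ Nat.card P) : 8 ∣ Nat.card (Subgroup.normalizer (V : Set P)) := by
  haveI : Fact (Nat.Prime 2) := ⟨Nat.prime_two⟩
  have hVp : IsPGroup 2 V := IsPGroup.of_card (n := 2) (by rw [hV]; norm_num)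
  obtain ⟨S, hVS⟩ := hVp.exists_le_sylow
  have hScard := Sylow.card_eq_multiplicity S
  have h3 : 3 ≤ (Nat.card P).factorization 2 := by
    have : (2 : ℕ) ^ 3 ∣ Nat.card P := by norm_num; exact h8
    exact (Nat.Prime.pow_dvd_iff_le_factorization Nat.prime_two Nat.card_pos.ne').1 this
  have hS8 : 8 ∣ Nat.card S := by
    rw [hScard]
    exact pow_dvd_pow 2 h3
  -- work inside `S`
  haveI : Group.IsNilpotent S := S.2.isNilpotent
  have hV'card : Nat.card (V.subgroupOf S) = 4 :=
    (Nat.card_congr (Subgroup.subgroupOfEquivOfLe hVS).toEquiv).trans hV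
  have hV'lt : V.subgroupOf (S : Subgroup P) < ⊤ := by
    rw [lt_top_iff_ne_top]
    intro h
    have := Subgroup.card_top (G := S)
    rw [← h, hV'card] at this
    rw [← this] at hS8
    omega
  have hN := Group.normalizerCondition_of_isNilpotent (G := S) _ hV'lt
  set N' := Subgroup.normalizer ((V.subgroupOf (S : Subgroup P) : Subgroup S) : Set S) with hN'
  have hN'p : IsPGroup 2 N' := S.2.to_subgroup N'
  obtain ⟨j, hj⟩ := hN'p.exists_card_eq
  have h4 : 4 ∣ Nat.card N' := by
    rw [← hV'card]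
    exact Subgroup.card_dvd_of_le hN.le
  have hlt : 4 < Nat.card N' := by
    rw [← hV'card]
    have h1 := Subgroup.card_dvd_of_le hN.le
    rcases eq_or_lt_of_le (Nat.le_of_dvd Nat.card_pos h1) with h2 | h2
    · exact absurd (Subgroup.eq_of_le_of_card_ge hN.le h2.ge) hN.ne
    · exact h2
  have hj3 : 3 ≤ j := by
    by_contra hcon
    push Not at hcon
    have : j = 0 ∨ j = 1 ∨ j = 2 := by omega
    rcases this with rfl | rfl | rfl <;> rw [hj] at hlt <;> omega
  have h8N' : 8 ∣ Nat.card N' := by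
    rw [hj]
    have : (8 : ℕ) = 2 ^ 3 := by norm_num
    rw [this]
    exact pow_dvd_pow 2 hj3
  have hmap : N'.map (S : Subgroup P).subtype ≤ Subgroup.normalizer (V : Set P) := by
    have h5 := Subgroup.le_normalizer_map (H := V.subgroupOf (S : Subgroup P))
      (S : Subgroup P).subtype
    rw [Subgroup.map_subgroupOf_eq_of_le hVS] at h5
    exact h5
  have h6 : Nat.card (N'.map (S : Subgroup P).subtype) = Nat.card N' :=
    Subgroup.card_map_of_injective (Subgroup.subtype_injective _)
  exact h8N'.trans (h6 ▸ Subgroup.card_dvd_of_le hmap)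

end General

variable {F : Type*} [Field F] [Fintype F] [DecidableEq F]

theorem centralizer_le (h2 : (2 : F) ≠ 0)
    (V : Subgroup (Matrix.ProjectiveSpecialLinearGroup (Fin 2) F)) [hV : IsKleinFour V] :
    Subgroup.centralizer (V : Set (Matrix.ProjectiveSpecialLinearGroup (Fin 2) F)) ≤ V := by
  obtain ⟨xb, yb, hxV, hyV, hxx, hyy, hc, hx1, hy1, hxy⟩ := exists_pair V
  intro z hz
  rw [Subgroup.mem_centralizer_iff] at hz
  have hzx := hz xb hxV
  have hzy := hz yb hyV
  obtain ⟨x, hx, rfl⟩ := exists_lift h2 xb (orderOf_of_sq hxx hx1)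
  obtain ⟨y, hy, rfl⟩ := exists_lift h2 yb (orderOf_of_sq hyy hy1)
  obtain ⟨g, rfl⟩ := QuotientGroup.mk_surjective z
  have hyx : y * x = -(x * y) := by
    rw [← QuotientGroup.mk_mul, ← QuotientGroup.mk_mul, mk_eq_mk_iff] at hc
    rcases hc with h | h
    · exfalso
      rcases eq_or_eq_inv h2 hx hy (h : Commute y x) with e | e
      · exact hxy (by rw [e])
      · apply hxy
        rw [e, QuotientGroup.mk_inv]
        exact (inv_eq_of_mul_eq_one_left hxx).symm
    · exact h
  have h1 : g * x = x * g ∨ g * x = -(x * g) := by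
    rw [← QuotientGroup.mk_mul, ← QuotientGroup.mk_mul, mk_eq_mk_iff] at hzx
    exact hzx
  have h3 : g * y = y * g ∨ g * y = -(y * g) := by
    rw [← QuotientGroup.mk_mul, ← QuotientGroup.mk_mul, mk_eq_mk_iff] at hzy
    exact hzy
  obtain ⟨u, hu, hgu⟩ := lift_central h2 hx hy hyx h1 h3
  have hgu' : (QuotientGroup.mk g : Matrix.ProjectiveSpecialLinearGroup (Fin 2) F) =
      QuotientGroup.mk u := by
    rcases hgu with rfl | rfl
    · rfl
    · exact mk_neg u
  rw [hgu']
  rcases hu with rfl | rfl | rfl | rfl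
  · exact V.one_mem
  · exact hxV
  · exact hyV
  · rw [QuotientGroup.mk_mul]; exact V.mul_mem hxV hyV

theorem card_normalizer_dvd (h2 : (2 : F) ≠ 0)
    (V : Subgroup (Matrix.ProjectiveSpecialLinearGroup (Fin 2) F)) [hV : IsKleinFour V] :
    Nat.card (Subgroup.normalizer (V : Set (Matrix.ProjectiveSpecialLinearGroup (Fin 2) F))) ∣ 24 :=
  card_normalizer_dvd_of_centralizer_le V (centralizer_le h2 V)

end SL2Klein

end Cfsg.Agent.Lib.Helper2
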