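import Mathlib
import Cfsg.Agent.Lib.Helper2.SL2Klein3
import Cfsg.Agent.Lib.Helper3.Count

set_option autoImplicit false

namespace Cfsg.Agent.Lib.Helper2

namespace SL2Klein

section Orbit

variable {P : Type*} [Group P]

/-- conjugate of a subgroup -/
abbrev cj (g : P) (V : Subgroup P) : Subgroup P := V.map (MulAut.conj g).toMonoidHom

theorem mem_cj {g : P} {V : Subgroup P} {x : P} : x ∈ cj g V ↔ g⁻¹ * x * g ∈ V := by
  constructor
  · rintro ⟨v, hv, rfl⟩
    have : g⁻¹ * (MulAut.conj g).toMonoidHom v * g = v := by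
      change g⁻¹ * (g * v * g⁻¹) * g = v
      group
    rw [this]; exact hv
  · intro h
    refine ⟨g⁻¹ * x * g, h, ?_⟩
    simp [MulAut.conj_apply, mul_assoc]

theorem cj_mul (g h : P) (V : Subgroup P) : cj (g * h) V = cj g (cj h V) := by
  ext x
  rw [mem_cj, mem_cj, mem_cj]
  have : (g * h)⁻¹ * x * (g * h) = h⁻¹ * (g⁻¹ * x * g) * h := by group
  rw [this]

theorem cj_one (V : Subgroup P) : cj 1 V = V := by
  ext x
  rw [mem_cj]
  simp

theorem cj_eq_iff {g : P} {V : Subgroup P} :
    cj g V = V ↔ g ∈ Subgroup.normalizer (V : Set P) :=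
  Iff.symm Subgroup.mem_normalizer_iff_map_conj_eq

/-- the conjugacy class of a subgroup -/
def orb (V : Subgroup P) : Set (Subgroup P) := {W | ∃ g, W = cj g V}

theorem self_mem_orb (V : Subgroup P) : V ∈ orb V := ⟨1, (cj_one V).symm⟩

theorem orb_eq_of_mem {V W : Subgroup P} (h : W ∈ orb V) : orb W = orb V := by
  obtain ⟨g, rfl⟩ := h
  ext U
  constructor
  · rintro ⟨k, rfl⟩
    exact ⟨k * g, (cj_mul k g V).symm⟩
  · rintro ⟨k, rfl⟩
    refine ⟨k * g⁻¹, ?_⟩
    rw [← cj_mul, inv_mul_cancel_right]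

theorem card_orb [Finite P] (V : Subgroup P) :
    (orb V).ncard * Nat.card (Subgroup.normalizer (V : Set P)) = Nat.card P := by
  have h := Cfsg.Agent.Lib.Helper3.card_eq_mul_of_fibres
    (fun g : P => (⟨cj g V, g, rfl⟩ : orb V)) (Nat.card (Subgroup.normalizer (V : Set P))) ?_
  · rw [h]
    rfl
  · rintro ⟨W, g₀, rfl⟩
    apply Nat.card_congr
    have key : ∀ g : P, cj g V = cj g₀ V ↔ g₀⁻¹ * g ∈ Subgroup.normalizer (V : Set P) := by
      intro g
      rw [← cj_eq_iff, cj_mul]
      constructor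
      · intro h
        rw [h, ← cj_mul, inv_mul_cancel, cj_one]
      · intro h
        have := congrArg (cj g₀) h
        rw [← cj_mul, mul_inv_cancel, cj_one] at this
        exact this
    exact
      { toFun := fun g => ⟨g₀⁻¹ * g.1, (key g.1).1 (congrArg Subtype.val g.2)⟩
        invFun := fun n => ⟨g₀ * n.1, Subtype.ext ((key (g₀ * n.1)).2 (by
          rw [inv_mul_cancel_left]; exact n.2))⟩
        left_inv := fun g => Subtype.ext (mul_inv_cancel_left g₀ g.1)
        right_inv := fun n => Subtype.ext (inv_mul_cancel_left g₀ n.1) }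

theorem isKleinFour_cj (g : P) (V : Subgroup P) [hV : IsKleinFour V] : IsKleinFour (cj g V) where
  card_four := by
    rw [← hV.card_four]
    exact (Nat.card_congr ((MulAut.conj g).subgroupMap V).toEquiv).symm
  exponent_two := by
    rw [← hV.exponent_two]
    exact (Monoid.exponent_eq_of_mulEquiv ((MulAut.conj g).subgroupMap V)).symm

end Orbit

end SL2Klein

end Cfsg.Agent.Lib.Helper2
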