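import Mathlib
import Cfsg.Agent.Lib.Helper2.SL2Klein4
import Cfsg.Agent.Lib.Helper1.SLCard
import Cfsg.Agent.Lib.Helper1.SL2Torus
import Cfsg.Agent.S0807

set_option autoImplicit false

namespace Cfsg.Agent.Lib.Helper2

namespace SL2Klein

variable {F : Type*} [Field F] [Fintype F]

theorem two_mul_card_PSL2 (hodd : Odd (Fintype.card F)) :
    2 * Nat.card (Matrix.ProjectiveSpecialLinearGroup (Fin 2) F) + Fintype.card F =
      Fintype.card F ^ 3 := by
  have h1 := Cfsg.Agent.Lib.Helper1.card_SL2 (F := F)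
  have h2 := Cfsg.Agent.Lib.Helper1.card_center_SL_field (F := F) 2 (by norm_num)
  have h3 := Subgroup.card_mul_index (Subgroup.center (Matrix.SpecialLinearGroup (Fin 2) F))
  have hq : 1 < Fintype.card F := Fintype.one_lt_card
  have hg : Nat.gcd 2 (Fintype.card F - 1) = 2 := by
    obtain ⟨k, hk⟩ := hodd
    rw [hk, Nat.add_sub_cancel]
    exact Nat.gcd_eq_left ⟨k, rfl⟩
  rw [h2, hg, h1] at h3
  have h4 : (Subgroup.center (Matrix.SpecialLinearGroup (Fin 2) F)).index =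
      Nat.card (Matrix.ProjectiveSpecialLinearGroup (Fin 2) F) := rfl
  rw [h4] at h3
  rw [h3]
  have h5 : 1 ≤ Fintype.card F ^ 2 := Nat.one_le_pow _ _ (by omega)
  obtain ⟨m, hm⟩ : ∃ m, Fintype.card F ^ 2 = m + 1 := ⟨Fintype.card F ^ 2 - 1, by omega⟩
  rw [hm, Nat.add_sub_cancel, pow_succ, hm]
  ring

theorem pow_three_mod (q : ℕ) : q ^ 3 % 16 = (q % 16) ^ 3 % 16 := Nat.pow_mod q 3 16

theorem not_eight_dvd {q c : ℕ} (h : 2 * c + q = q ^ 3) (hq : q % 8 = 3 ∨ q % 8 = 5) :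
    ¬ 8 ∣ c := by
  intro h8
  have h16 : q % 16 = 3 ∨ q % 16 = 5 ∨ q % 16 = 11 ∨ q % 16 = 13 := by omega
  have hp := pow_three_mod q
  obtain ⟨t, ht⟩ : ∃ t, t = q ^ 3 := ⟨_, rfl⟩
  rw [← ht] at h hp
  rcases h16 with e | e | e | e <;> rw [e] at hp <;> norm_num at hp <;> omega

theorem eight_dvd {q c : ℕ} (h : 2 * c + q = q ^ 3) (hq : q % 8 = 1 ∨ q % 8 = 7) : 8 ∣ c := by
  have h16 : q % 16 = 1 ∨ q % 16 = 7 ∨ q % 16 = 9 ∨ q % 16 = 15 := by omega
  have hp := pow_three_mod q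
  obtain ⟨t, ht⟩ : ∃ t, t = q ^ 3 := ⟨_, rfl⟩
  rw [← ht] at h hp
  rcases h16 with e | e | e | e <;> rw [e] at hp <;> norm_num at hp <;> omega

theorem dvd_24 {n : ℕ} (h : n ∣ 24) :
    n = 1 ∨ n = 2 ∨ n = 3 ∨ n = 4 ∨ n = 6 ∨ n = 8 ∨ n = 12 ∨ n = 24 := by
  have hle : n ≤ 24 := Nat.le_of_dvd (by norm_num) h
  interval_cases n <;> first | omega | (exfalso; revert h; decide)

variable [DecidableEq F]

local notation "P" => Matrix.ProjectiveSpecialLinearGroup (Fin 2) F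

theorem main (hodd : Odd (Fintype.card F)) :
    ((Fintype.card F % 8 = 3 ∨ Fintype.card F % 8 = 5) →
      ∀ V W : Subgroup P, IsKleinFour V → IsKleinFour W → ∃ g : P, W = cj g V) ∧
    ((Fintype.card F % 8 = 1 ∨ Fintype.card F % 8 = 7) →
      ∃ V₁ V₂ : Subgroup P, IsKleinFour V₁ ∧ IsKleinFour V₂ ∧ (¬ ∃ g : P, V₂ = cj g V₁) ∧
        ∀ W : Subgroup P, IsKleinFour W → (∃ g : P, W = cj g V₁) ∨ (∃ g : P, W = cj g V₂)) := by
  have h2 : (2 : F) ≠ 0 := Cfsg.Agent.Lib.Helper1.two_ne_zero_of_odd_card hodd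
  have hcard := two_mul_card_PSL2 hodd
  have h807 := Cfsg.Agent.S0807.result (F := F) rfl hodd
  set 𝒦 : Set (Subgroup P) := {V | IsKleinFour V} with h𝒦
  have hK : 12 * 𝒦.ncard = Nat.card P := h807
  have h𝒦fin : 𝒦.Finite := Set.toFinite _
  have hsub : ∀ V ∈ 𝒦, orb V ⊆ 𝒦 := by
    rintro V hV W ⟨g, rfl⟩
    haveI : IsKleinFour V := hV
    exact isKleinFour_cj g V
  have hPpos : 0 < Nat.card P := Nat.card_pos
  have hle : ∀ V ∈ 𝒦, (orb V).ncard ≤ 𝒦.ncard := fun V hV =>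
    Set.ncard_le_ncard (hsub V hV) h𝒦fin
  have hopos : ∀ V : Subgroup P, 0 < (orb V).ncard := by
    intro V
    rw [Set.ncard_pos (Set.toFinite _)]
    exact ⟨V, self_mem_orb V⟩
  constructor
  · intro hq V W hV hW
    haveI : IsKleinFour V := hV
    have h8 : ¬ 8 ∣ Nat.card P := not_eight_dvd hcard hq
    have hn := card_normalizer_dvd h2 V
    have ho := card_orb V
    have hl := hle V hV
    have hp := hopos V
    have hn12 : Nat.card (Subgroup.normalizer (V : Set P)) = 12 := by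
      rcases dvd_24 hn with e | e | e | e | e | e | e | e <;> rw [e] at ho <;> omega
    rw [hn12] at ho
    have heq : orb V = 𝒦 := Set.eq_of_subset_of_ncard_le (hsub V hV) (by omega) h𝒦fin
    have : W ∈ orb V := heq ▸ hW
    exact this
  · intro hq
    have h8 : 8 ∣ Nat.card P := eight_dvd hcard hq
    have horb : ∀ V ∈ 𝒦, 2 * (orb V).ncard = 𝒦.ncard := by
      intro V hV
      haveI : IsKleinFour V := hV
      have hn := card_normalizer_dvd h2 V
      have hn8 := eight_dvd_card_normalizer V (IsKleinFour.card_four) h8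
      have ho := card_orb V
      have hl := hle V hV
      have hp := hopos V
      have hn24 : Nat.card (Subgroup.normalizer (V : Set P)) = 24 := by
        rcases dvd_24 hn with e | e | e | e | e | e | e | e <;> rw [e] at ho hn8 <;> omega
      rw [hn24] at ho
      omega
    have hKpos : 0 < 𝒦.ncard := by omega
    obtain ⟨V₁, hV₁⟩ := (Set.ncard_pos h𝒦fin).1 hKpos
    have h1 := horb V₁ hV₁
    have hne : ∃ V₂ ∈ 𝒦, V₂ ∉ orb V₁ := by
      by_contra hcon
      push Not at hcon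
      have : 𝒦 ⊆ orb V₁ := hcon
      have := Set.ncard_le_ncard this (Set.toFinite _)
      omega
    obtain ⟨V₂, hV₂, hV₂n⟩ := hne
    have h2' := horb V₂ hV₂
    have hdisj : Disjoint (orb V₁) (orb V₂) := by
      rw [Set.disjoint_left]
      intro U hU1 hU2
      apply hV₂n
      rw [← orb_eq_of_mem hU1, orb_eq_of_mem hU2]
      exact self_mem_orb V₂
    have hunion : orb V₁ ∪ orb V₂ = 𝒦 := by
      apply Set.eq_of_subset_of_ncard_le (Set.union_subset (hsub V₁ hV₁) (hsub V₂ hV₂)) _ h𝒦fin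
      rw [Set.ncard_union_eq hdisj (Set.toFinite _) (Set.toFinite _)]
      omega
    refine ⟨V₁, V₂, hV₁, hV₂, hV₂n, ?_⟩
    intro W hW
    have : W ∈ orb V₁ ∪ orb V₂ := hunion ▸ hW
    rcases this with h | h
    · exact Or.inl h
    · exact Or.inr h

end SL2Klein

end Cfsg.Agent.Lib.Helper2
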