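import Mathlib
import Cfsg.Agent.Lib.Helper2.PGLsub1
import Cfsg.Agent.Lib.Helper2.PGLsub2
import Cfsg.Agent.Lib.Helper2.PGLsub3
import Cfsg.Agent.Lib.Helper2.SL2Klein5
import Cfsg.Agent.Lib.Helper5.FieldExt
import Cfsg.Agent.Lib.Helper1.SLCard

set_option autoImplicit false

namespace Cfsg.Agent.Lib.Helper2

namespace PGLsub

variable {F K : Type*} [Field F] [Fintype F] [Field K] [Fintype K]

theorem exists_sqrt (ι : K →+* F) (hodd : Odd (Fintype.card F)) (m : ℕ) (hm : Even m)
    (hK : Fintype.card K ^ m = Fintype.card F) :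
    ∀ d : K, d ≠ 0 → ∃ r : F, r * r = ι d := by
  intro d hd
  have hchar : ringChar F ≠ 2 := by
    intro h
    have := FiniteField.even_card_of_char_two h
    have := Nat.odd_iff.1 hodd
    omega
  have hιd : ι d ≠ 0 := by
    intro h0
    exact hd (ι.injective (by rw [h0, map_zero]))
  have hkodd : Odd (Fintype.card K) := by
    rw [← hK] at hodd
    by_cases hm0 : m = 0
    · subst hm0
      rw [pow_zero] at hK
      have : 1 < Fintype.card F := Fintype.one_lt_card
      omega
    · exact (Nat.odd_pow_iff hm0).1 hodd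
  obtain ⟨j, hj⟩ := dvd_half hkodd hm
  have h1 : IsSquare (ι d) := by
    rw [FiniteField.isSquare_iff hchar hιd, ← hK, hj, ← map_pow, pow_mul,
      FiniteField.pow_card_sub_one_eq_one d hd, one_pow, map_one]
  obtain ⟨r, hr⟩ := h1
  exact ⟨r, hr.symm⟩

theorem main (hodd : Odd (Fintype.card F)) (m : ℕ) (hm : 1 ≤ m)
    (hK : Fintype.card K ^ m = Fintype.card F) :
    (∃ H : Subgroup (Matrix.ProjectiveSpecialLinearGroup (Fin 2) F),
      Nonempty (H ≃* Matrix.ProjectiveSpecialLinearGroup (Fin 2) K)) ∧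
    ((∃ H : Subgroup (Matrix.ProjectiveSpecialLinearGroup (Fin 2) F),
      Nonempty (H ≃* Matrix.ProjGenLinGroup (Fin 2) K)) ↔ Even m) := by
  obtain ⟨alg, -⟩ := Cfsg.Agent.Lib.Helper5.FieldExt.exists_algebra (K := F) (F := K)
    (q := Fintype.card K) m hm hK.symm rfl
  let ι : K →+* F := algebraMap K F
  refine ⟨exists_PSL ι, ?_, ?_⟩
  · rintro ⟨H, ⟨e⟩⟩
    by_contra hmodd
    rw [Nat.not_even_iff_odd] at hmodd
    have hkodd : Odd (Fintype.card K) := by
      rw [← hK] at hodd
      exact (Nat.odd_pow_iff (by omega)).1 hodd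
    have hk1 : 1 < Fintype.card K := Fintype.one_lt_card
    have h1 : Nat.card H = Fintype.card K * (Fintype.card K ^ 2 - 1) := by
      rw [Nat.card_congr e.toEquiv, Cfsg.Agent.Lib.Helper1.card_PGL_eq_card_SL,
        Cfsg.Agent.Lib.Helper1.card_SL2]
    have h2 := Subgroup.card_subgroup_dvd_card H
    rw [h1] at h2
    have h3 := SL2Klein.two_mul_card_PSL2 (F := F) hodd
    rw [← hK] at h3
    exact not_dvd_of_odd hkodd hk1 hmodd h3 h2
  · intro hmeven
    exact exists_PGL ι (exists_sqrt ι hodd m hmeven hK)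

end PGLsub

end Cfsg.Agent.Lib.Helper2
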