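import Mathlib
import Cfsg.Prelude
import Cfsg.Agent.Lib.Helper5.SSOrderU2
import Cfsg.Agent.Lib.Helper5.PGUr1

/-!
# S2263 (largest element order of `PGU_d(q)`): common definitions

`nn q D = q^D - (-1)^D`, `NN q D = nn q D / (q + 1)`, `Lam q S` (the bound for the l.c.m. of at
least two `nn q Dᵢ` with `Σ Dᵢ = S`), `Mbound p f d` (the value of the statement), and the
certificate `Cert` attached to a monic polynomial fixed by the conjugate reciprocal `dag`.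
-/

set_option autoImplicit false

namespace Cfsg.Agent.Lib.PGUMeo

open Polynomial Cfsg.Agent.Lib.Helper5.SSOrder Cfsg.Agent.S0278

/-- `q^D - (-1)^D` -/
def nn (q D : ℕ) : ℕ := if Even D then q ^ D - 1 else q ^ D + 1

/-- `(q^D - (-1)^D) / (q + 1)` -/
def NN (q D : ℕ) : ℕ := nn q D / (q + 1)

/-- the bound for the l.c.m. of at least two numbers `nn q Dᵢ` with `Σ Dᵢ = S` -/
def Lam (q S : ℕ) : ℕ := if Even S then q ^ (S - 1) + 1 else q ^ (S - 1) - 1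

/-- the largest element order of `PGU_d(p^f)` -/
def Mbound (p f d : ℕ) : ℕ :=
  if Odd d then (if 2 ≤ f then (p ^ f) ^ (d - 1) - 1 else (p ^ (d - 2) + 1) * p)
  else (if 2 < p ^ f then (p ^ f) ^ (d - 1) + 1 else 4 * (2 ^ (d - 3) + 1))

variable {K : Type*} [Field K]

/-- the certificate: `f` is `1`, or a power of one block, or is killed by a power of
`X ^ K₀ - 1` with `K₀` controlled by `Lam`. -/
def Cert (q : ℕ) (f : K[X]) : Prop :=
  f = 1 ∨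
  (∃ (D m : ℕ) (ζ : K), 1 ≤ D ∧ 1 ≤ m ∧ D * m = f.natDegree ∧ ζ ^ (q + 1) = 1 ∧
    f ∣ (X ^ (NN q D) - C ζ) ^ m) ∨
  (∃ S m K₀ : ℕ, 2 ≤ S ∧ 1 ≤ m ∧ S + m - 1 ≤ f.natDegree ∧ 0 < K₀ ∧ (q + 1) ∣ K₀ ∧
    K₀ ≤ Lam q S ∧ f ∣ (X ^ K₀ - 1) ^ m)

end Cfsg.Agent.Lib.PGUMeo
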