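import Mathlib
import Cfsg.Prelude
import Cfsg.Agent.Lib.Helper2.PGUMeoDefs

/-!
# S2263, package E3: unipotent elements of `GU_2(q)` and `GU_3(2)`
-/

set_option autoImplicit false

namespace Cfsg.Agent.Lib.PGUMeo

open Polynomial Cfsg.Agent.Lib.Helper5.SSOrder Cfsg.Agent.S0278 Cfsg.Agent.Lib.Helper5.PGUr
  Cfsg.Agent.Lib.Helper5.Wall Cfsg.Agent.Lib.Helper1.HermCount Cfsg.Agent.Lib.Helper2.Herm

variable {K : Type*} [Field K] [Fintype K] {q : ℕ}

/-- a nonzero element of trace zero -/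
theorem exists_trace_zero (hK : Fintype.card K = q ^ 2) : ∃ a : K, a ≠ 0 ∧ a ^ q = -a := by
  obtain ⟨θ, hθ⟩ := exists_pow_ne hK
  refine ⟨θ - θ ^ q, sub_ne_zero.2 (Ne.symm hθ), ?_⟩
  rw [sub_pow_q hK, pow_q_pow_q hK]
  ring

/-- an element of norm `-1` -/
theorem exists_norm_neg_one (hK : Fintype.card K = q ^ 2) : ∃ θ : K, θ * θ ^ q = -1 := by
  have hc : (-1 : K) ∈ fixedUnits K q := by
    simp only [fixedUnits, Finset.mem_filter, Finset.mem_univ, true_and]
    refine ⟨neg_ne_zero.2 one_ne_zero, ?_⟩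
    rw [neg_pow_q hK, one_pow]
  obtain ⟨x, _, hx⟩ := exists_nrm_eq hK hc
  exact ⟨x, hx⟩

/-- the nilpotent part of the unitary transvection -/
def nilTwo (a θ : K) (q : ℕ) : Matrix (Fin 2) (Fin 2) K := !![a, a * θ ^ q; a * θ, -a]

omit [Fintype K] in
theorem nilTwo_sq (a θ : K) (h : θ * θ ^ q = -1) : nilTwo a θ q * nilTwo a θ q = 0 := by
  unfold nilTwo
  ext i j
  fin_cases i <;> fin_cases j <;>
    simp [Matrix.mul_apply, Fin.sum_univ_two] <;>
    first
      | linear_combination (a ^ 2) * h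
      | linear_combination (-a ^ 2) * h
      | ring

theorem ct_nilTwo (hK : Fintype.card K = q ^ 2) (a θ : K) (ha : a ^ q = -a) :
    ct hK (nilTwo a θ q) = -nilTwo a θ q := by
  unfold nilTwo ct
  ext i j
  fin_cases i <;> fin_cases j <;>
    simp [powQ_apply, mul_pow, pow_q_pow_q hK, neg_pow_q hK, ha]

theorem exists_unip_two (hK : Fintype.card K = q ^ 2) (p : ℕ) [Fact p.Prime] [CharP K p] :
    ∃ u : ↥(Cfsg.GU 2 K q), orderOf u = p ∧ (mat u - 1) ^ 2 = 0 := by
  obtain ⟨a, ha0, ha⟩ := exists_trace_zero hK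
  obtain ⟨θ, hθ⟩ := exists_norm_neg_one hK
  set N := nilTwo a θ q with hN
  have hN2 : N * N = 0 := nilTwo_sq a θ hθ
  have hct : ct hK (1 + N) * (1 + N) = 1 := by
    rw [ct_add, ct_one, hN, ct_nilTwo hK a θ ha, ← hN]
    rw [add_mul, mul_add, mul_add, one_mul, mul_one, one_mul, neg_mul, hN2]
    abel
  refine ⟨ofMat hK (1 + N) hct, ?_, ?_⟩
  · have hp : (ofMat hK (1 + N) hct) ^ p = 1 := by
      apply mat_ext
      rw [mat_pow, mat_ofMat, mat_one]
      have hcomm : Commute (1 : Matrix (Fin 2) (Fin 2) K) N := Commute.one_left N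
      rw [add_pow_char_of_commute p hcomm, one_pow]
      have hp2 : 2 ≤ p := (Fact.out : p.Prime).two_le
      have : N ^ p = 0 := by
        rw [show p = 2 + (p - 2) by omega, pow_add, pow_two, hN2, zero_mul]
      rw [this, add_zero]
    refine orderOf_eq_prime hp ?_
    intro h1
    have h2 : mat (ofMat hK (1 + N) hct) = 1 := by rw [h1, mat_one]
    rw [mat_ofMat] at h2
    have h3 : N = 0 := by
      have := congrArg (fun M => M - 1) h2
      simpa using this
    have h4 := congrFun (congrFun h3 0) 0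
    rw [hN] at h4
    simp [nilTwo] at h4
    exact ha0 h4
  · rw [mat_ofMat, add_sub_cancel_left, pow_two, hN2]

/-! ### the regular unipotent element of `GU_3(2)` -/

theorem charP_two_of_card (hK : Fintype.card K = 2 ^ 2) : CharP K 2 := by
  obtain ⟨p', hp'⟩ := CharP.exists K
  obtain ⟨n, hp'p, hn⟩ := FiniteField.card K p'
  have h1 : 2 ∣ (p' : ℕ) ^ (n : ℕ) := by
    rw [← hn, hK]
    norm_num
  have h2 : 2 ∣ p' := Nat.prime_two.dvd_of_dvd_pow h1
  have h3 : 2 = p' := (Nat.prime_dvd_prime_iff_eq Nat.prime_two hp'p).1 h2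
  rw [h3]
  exact hp'

theorem two_eq_zero_of_card (hK : Fintype.card K = 2 ^ 2) : (2 : K) = 0 := by
  have := charP_two_of_card hK
  have h := CharP.cast_eq_zero K 2
  exact_mod_cast h

/-- a primitive cube root of unity in the field with four elements -/
theorem exists_omega (hK : Fintype.card K = 2 ^ 2) : ∃ ω : K, ω ^ 2 = ω + 1 := by
  have h2 := two_eq_zero_of_card hK
  obtain ⟨θ, hθ⟩ := exists_pow_ne hK
  have h4 : θ ^ 4 = θ := by
    have := FiniteField.pow_card θ
    rw [hK] at this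
    exact this
  have h0 : θ ≠ 0 := by
    rintro rfl
    exact hθ (by norm_num)
  have h1 : θ ≠ 1 := by
    rintro rfl
    exact hθ (by norm_num)
  have h5 : θ * (θ - 1) * (θ ^ 2 - (θ + 1)) = 0 := by
    linear_combination h4 + (θ - θ ^ 3) * h2
  rcases mul_eq_zero.1 h5 with h6 | h6
  · rcases mul_eq_zero.1 h6 with h7 | h7
    · exact absurd h7 h0
    · exact absurd (sub_eq_zero.1 h7) h1
  · exact ⟨θ, sub_eq_zero.1 h6⟩

/-- the Fourier matrix of order three -/
def fourThree (ω : K) : Matrix (Fin 3) (Fin 3) K := !![1, 1, 1; 1, ω, ω + 1; 1, ω + 1, ω]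

/-- its square -/
def permThree : Matrix (Fin 3) (Fin 3) K := !![1, 0, 0; 0, 0, 1; 0, 1, 0]

theorem ct_fourThree (hK : Fintype.card K = 2 ^ 2) (ω : K) (hω : ω ^ 2 = ω + 1) :
    ct hK (fourThree ω) * fourThree ω = 1 := by
  have h2 := two_eq_zero_of_card hK
  unfold fourThree ct
  ext i j
  fin_cases i <;> fin_cases j <;>
    simp [Matrix.mul_apply, Fin.sum_univ_three, powQ_apply] <;> grind

omit [Fintype K] in
theorem fourThree_sq (h2 : (2 : K) = 0) (ω : K) (hω : ω ^ 2 = ω + 1) :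
    fourThree ω * fourThree ω = permThree := by
  unfold fourThree permThree
  ext i j
  fin_cases i <;> fin_cases j <;>
    simp [Matrix.mul_apply, Fin.sum_univ_three] <;> grind

omit [Fintype K] in
theorem permThree_sq : (permThree : Matrix (Fin 3) (Fin 3) K) * permThree = 1 := by
  unfold permThree
  ext i j
  fin_cases i <;> fin_cases j <;>
    simp [Matrix.mul_apply, Fin.sum_univ_three]

omit [Fintype K] in
theorem fourThree_sub_one_cube (h2 : (2 : K) = 0) (ω : K) (hω : ω ^ 2 = ω + 1) :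
    (fourThree ω - 1) ^ 3 = 0 := by
  have h : fourThree ω - 1 = !![0, 1, 1; 1, ω + 1, ω + 1; 1, ω + 1, ω + 1] := by
    unfold fourThree
    ext i j
    fin_cases i <;> fin_cases j <;> simp <;> grind
  have hsq : (!![0, 1, 1; 1, ω + 1, ω + 1; 1, ω + 1, ω + 1] : Matrix (Fin 3) (Fin 3) K) *
      !![0, 1, 1; 1, ω + 1, ω + 1; 1, ω + 1, ω + 1] = !![0, 0, 0; 0, 1, 1; 0, 1, 1] := by
    ext i j
    fin_cases i <;> fin_cases j <;>
      simp [Matrix.mul_apply, Fin.sum_univ_three] <;> grind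
  have hcu : (!![0, 0, 0; 0, 1, 1; 0, 1, 1] : Matrix (Fin 3) (Fin 3) K) *
      !![0, 1, 1; 1, ω + 1, ω + 1; 1, ω + 1, ω + 1] = 0 := by
    ext i j
    fin_cases i <;> fin_cases j <;>
      simp [Matrix.mul_apply, Fin.sum_univ_three] <;> grind
  rw [h, pow_succ, pow_two, hsq, hcu]

theorem exists_unip_three (hK : Fintype.card K = 2 ^ 2) :
    ∃ u : ↥(Cfsg.GU 3 K 2), orderOf u = 4 ∧ (mat u - 1) ^ 3 = 0 := by
  have h2 := two_eq_zero_of_card hK
  obtain ⟨ω, hω⟩ := exists_omega hK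
  refine ⟨ofMat hK (fourThree ω) (ct_fourThree hK ω hω), ?_, ?_⟩
  · have : Fact (Nat.Prime 2) := ⟨Nat.prime_two⟩
    have h4 : (4 : ℕ) = 2 ^ (1 + 1) := by norm_num
    rw [h4]
    refine orderOf_eq_prime_pow (n := 1) ?_ ?_
    · intro h1
      have h3 := congrArg mat h1
      rw [mat_pow, mat_ofMat, mat_one, pow_one, pow_two, fourThree_sq h2 ω hω] at h3
      have h5 := congrFun (congrFun h3 1) 1
      simp [permThree] at h5
    · apply mat_ext
      rw [mat_pow, mat_ofMat, mat_one]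
      have : (2 : ℕ) ^ (1 + 1) = 2 * 2 := by norm_num
      rw [this, pow_mul, pow_two (fourThree ω), fourThree_sq h2 ω hω, pow_two, permThree_sq]
  · rw [mat_ofMat]
    exact fourThree_sub_one_cube h2 ω hω

end Cfsg.Agent.Lib.PGUMeo
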