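import Mathlib
import Cfsg.Prelude
import Cfsg.Agent.Lib.Helper2.PGUMeoDefs

/-!
# S2263, package E4: block sums of unitary matrices
-/

set_option autoImplicit false

namespace Cfsg.Agent.Lib.PGUMeo

open Polynomial Cfsg.Agent.Lib.Helper5.SSOrder Cfsg.Agent.S0278 Cfsg.Agent.Lib.Helper5.PGUr
  Cfsg.Agent.Lib.Helper5.Wall

section blockMat

variable {K : Type*} [Field K] {a b : ℕ}

/-- the block diagonal matrix, indexed by `Fin (a + b)` -/
def blockMat (A : Matrix (Fin a) (Fin a) K) (B : Matrix (Fin b) (Fin b) K) :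
    Matrix (Fin (a + b)) (Fin (a + b)) K :=
  Matrix.reindex finSumFinEquiv finSumFinEquiv (Matrix.fromBlocks A 0 0 B)

theorem blockMat_mul (A A' : Matrix (Fin a) (Fin a) K) (B B' : Matrix (Fin b) (Fin b) K) :
    blockMat A B * blockMat A' B' = blockMat (A * A') (B * B') := by
  unfold blockMat
  rw [Matrix.reindex_apply, Matrix.reindex_apply, Matrix.reindex_apply,
    Matrix.submatrix_mul_equiv, Matrix.fromBlocks_multiply]
  simp

theorem blockMat_one : blockMat (1 : Matrix (Fin a) (Fin a) K) (1 : Matrix (Fin b) (Fin b) K) = 1 := by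
  unfold blockMat
  rw [Matrix.fromBlocks_one, Matrix.reindex_apply, Matrix.submatrix_one_equiv]

theorem blockMat_pow (A : Matrix (Fin a) (Fin a) K) (B : Matrix (Fin b) (Fin b) K) (j : ℕ) :
    blockMat A B ^ j = blockMat (A ^ j) (B ^ j) := by
  induction j with
  | zero => rw [pow_zero, pow_zero, pow_zero, blockMat_one]
  | succ j ih => rw [pow_succ, pow_succ, pow_succ, ih, blockMat_mul]

theorem blockMat_smul (c : K) (A : Matrix (Fin a) (Fin a) K) (B : Matrix (Fin b) (Fin b) K) :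
    blockMat (c • A) (c • B) = c • blockMat A B := by
  unfold blockMat
  have h : Matrix.fromBlocks (c • A) 0 0 (c • B) = c • Matrix.fromBlocks A 0 0 B := by
    rw [Matrix.fromBlocks_smul, smul_zero, smul_zero]
  rw [h]
  rfl

theorem blockMat_injective {A A' : Matrix (Fin a) (Fin a) K} {B B' : Matrix (Fin b) (Fin b) K}
    (h : blockMat A B = blockMat A' B') : A = A' ∧ B = B' := by
  unfold blockMat at h
  have h1 := (Matrix.reindex finSumFinEquiv finSumFinEquiv).injective h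
  rw [Matrix.fromBlocks_inj] at h1
  exact ⟨h1.1, h1.2.2.2⟩

end blockMat

variable {K : Type*} [Field K] [Fintype K] {q : ℕ}

theorem ct_blockMat (hK : Fintype.card K = q ^ 2) {a b : ℕ} (A : Matrix (Fin a) (Fin a) K)
    (B : Matrix (Fin b) (Fin b) K) : ct hK (blockMat A B) = blockMat (ct hK A) (ct hK B) := by
  unfold blockMat ct
  rw [Matrix.reindex_apply, Matrix.reindex_apply, ← Matrix.submatrix_map, Matrix.fromBlocks_map,
    Matrix.transpose_submatrix, Matrix.fromBlocks_transpose]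
  simp

/-- the block diagonal sum -/
noncomputable def blockGU (hK : Fintype.card K = q ^ 2) {a b : ℕ} (x : ↥(Cfsg.GU a K q))
    (y : ↥(Cfsg.GU b K q)) : ↥(Cfsg.GU (a + b) K q) :=
  ofMat hK (blockMat (mat x) (mat y)) (by
    rw [ct_blockMat, blockMat_mul, ct_mat hK x, ct_mat hK y, blockMat_one])

theorem mat_blockGU (hK : Fintype.card K = q ^ 2) {a b : ℕ} (x : ↥(Cfsg.GU a K q))
    (y : ↥(Cfsg.GU b K q)) :
    mat (blockGU hK x y) =
      Matrix.reindex finSumFinEquiv finSumFinEquiv (Matrix.fromBlocks (mat x) 0 0 (mat y)) := rfl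

theorem mat_blockGU' (hK : Fintype.card K = q ^ 2) {a b : ℕ} (x : ↥(Cfsg.GU a K q))
    (y : ↥(Cfsg.GU b K q)) : mat (blockGU hK x y) = blockMat (mat x) (mat y) := rfl

theorem orderOf_mk_blockGU (hK : Fintype.card K = q ^ 2) {a b : ℕ} (hb : 1 ≤ b)
    (x : ↥(Cfsg.GU a K q)) (y : ↥(Cfsg.GU b K q))
    (hy : ∀ (j : ℕ) (ζ : K), mat y ^ j = ζ • (1 : Matrix (Fin b) (Fin b) K) → ζ = 1) :
    orderOf (QuotientGroup.mk (blockGU hK x y) : PU (a + b) K q) =
      Nat.lcm (orderOf x) (orderOf y) := by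
  have hpow : ∀ j : ℕ, mat (blockGU hK x y ^ j) = blockMat (mat (x ^ j)) (mat (y ^ j)) := by
    intro j
    rw [mat_pow, mat_blockGU', blockMat_pow, mat_pow, mat_pow]
  refine Nat.dvd_antisymm (orderOf_dvd_of_pow_eq_one ?_) ?_
  · rw [← QuotientGroup.mk_pow]
    have h1 : blockGU hK x y ^ Nat.lcm (orderOf x) (orderOf y) = 1 := by
      apply mat_ext
      rw [hpow, orderOf_dvd_iff_pow_eq_one.1 (Nat.dvd_lcm_left _ _),
        orderOf_dvd_iff_pow_eq_one.1 (Nat.dvd_lcm_right _ _), mat_one, mat_one, mat_one,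
        blockMat_one]
    rw [h1]
    rfl
  · set j := orderOf (QuotientGroup.mk (blockGU hK x y) : PU (a + b) K q) with hj
    have h1 : (QuotientGroup.mk (blockGU hK x y) : PU (a + b) K q) ^ j = 1 := pow_orderOf_eq_one _
    rw [← QuotientGroup.mk_pow, mk_eq_one_iff hK (by omega)] at h1
    obtain ⟨c, hc⟩ := h1
    rw [hpow, ← blockMat_one, ← blockMat_smul] at hc
    obtain ⟨hcx, hcy⟩ := blockMat_injective hc
    rw [mat_pow] at hcy
    have hc1 : c = 1 := hy j c hcy
    rw [hc1, one_smul] at hcx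
    rw [hc1, one_smul, ← mat_pow] at hcy
    have hx1 : x ^ j = 1 := mat_ext (by rw [hcx, mat_one])
    have hy1 : y ^ j = 1 := mat_ext (by rw [hcy, mat_one])
    exact Nat.lcm_dvd (orderOf_dvd_of_pow_eq_one hx1) (orderOf_dvd_of_pow_eq_one hy1)

/-- unipotent elements have the property `hy` above -/
theorem scalar_of_unip {K : Type*} [Field K] {b : ℕ} (hb : 1 ≤ b) (M : Matrix (Fin b) (Fin b) K)
    (e : ℕ) (hM : (M - 1) ^ e = 0) (j : ℕ) (ζ : K)
    (h : M ^ j = ζ • (1 : Matrix (Fin b) (Fin b) K)) : ζ = 1 := by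
  have h1 : (M - 1) * ∑ i ∈ Finset.range j, M ^ i = M ^ j - 1 := mul_geom_sum M j
  have hcomm : Commute (M - 1) (∑ i ∈ Finset.range j, M ^ i) := by
    refine Commute.sum_right _ _ _ fun i _ => ?_
    exact ((Commute.refl M).pow_right i).sub_left (Commute.one_left _)
  have h2 : (M ^ j - 1) ^ e = 0 := by
    rw [← h1, hcomm.mul_pow, hM, zero_mul]
  rw [h] at h2
  have h3 : ζ • (1 : Matrix (Fin b) (Fin b) K) - 1 = (ζ - 1) • (1 : Matrix (Fin b) (Fin b) K) := by
    rw [sub_smul, one_smul]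
  rw [h3, _root_.smul_pow, one_pow] at h2
  have h4 := congrFun (congrFun h2 ⟨0, by omega⟩) ⟨0, by omega⟩
  rw [Matrix.smul_apply, Matrix.one_apply_eq, smul_eq_mul, mul_one, Matrix.zero_apply] at h4
  have he : e ≠ 0 := by
    rintro rfl
    rw [pow_zero] at h4
    exact one_ne_zero h4
  exact sub_eq_zero.1 ((pow_eq_zero_iff he).1 h4)

end Cfsg.Agent.Lib.PGUMeo
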