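import Mathlib
import Cfsg.Prelude
import Cfsg.Agent.Lib.Helper2.PGUMeoDefs
import Cfsg.Agent.Lib.Helper8.PGUMeoNum0
import Cfsg.Agent.Lib.Helper8.PGUMeoBlock
import Cfsg.Agent.Lib.Lead.PGUMeoNum2

/-!
# S2263: the certificate of a `dag`-invariant monic polynomial (package CERT)
-/

set_option autoImplicit false

namespace Cfsg.Agent.Lib.PGUMeo

open Polynomial Cfsg.Agent.Lib.Helper5.SSOrder Cfsg.Agent.S0278

section general
variable {K : Type*} [Field K]

theorem X_pow_sub_one_dvd {a b : ℕ} (h : a ∣ b) : ((X : K[X]) ^ a - 1) ∣ X ^ b - 1 := by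
  obtain ⟨c, rfl⟩ := h
  rw [pow_mul]
  simpa using sub_dvd_pow_sub_pow ((X : K[X]) ^ a) 1 c

theorem sub_C_dvd_nn {q D : ℕ} (hD : 1 ≤ D) (ζ : K) (hζ : ζ ^ (q + 1) = 1) :
    ((X : K[X]) ^ (NN q D) - C ζ) ∣ X ^ (nn q D) - 1 := by
  rw [← NN_mul q D hD, pow_mul]
  have h1 : (1 : K[X]) = (C ζ) ^ (q + 1) := by rw [← C_pow, hζ, C_1]
  rw [h1]
  exact sub_dvd_pow_sub_pow _ _ _

/-- adding one block to a certificate -/
theorem Cert.step {q : ℕ} (hq : 2 ≤ q) {f g h : K[X]} {e D : ℕ} {ζ : K} (hf : f = g ^ e * h)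
    (he : 1 ≤ e) (hcop : IsCoprime g h) (hD : g.natDegree = D) (hD1 : 1 ≤ D) (hg0 : g ≠ 0)
    (hh0 : h ≠ 0) (hζ : ζ ^ (q + 1) = 1) (hg : g ∣ X ^ (NN q D) - C ζ) (hc : Cert q h) :
    Cert q f := by
  have hdeg : f.natDegree = e * D + h.natDegree := by
    rw [hf, natDegree_mul (pow_ne_zero e hg0) hh0, natDegree_pow, hD]
  have hgn : g ∣ X ^ (nn q D) - 1 := hg.trans (sub_C_dvd_nn hD1 ζ hζ)
  have hDe : D + e ≤ e * D + 1 := by
    obtain ⟨D', rfl⟩ : ∃ D', D = D' + 1 := ⟨D - 1, by omega⟩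
    obtain ⟨e', rfl⟩ : ∃ e', e = e' + 1 := ⟨e - 1, by omega⟩
    nlinarith [Nat.zero_le (D' * e')]
  rcases hc with h1 | ⟨D', m', ζ', hD', hm', hdeg', hζ', hdv'⟩ |
    ⟨S', m', K₀', hS', hm', hdeg', hK0', hq1', hle', hdv'⟩
  · -- `h = 1`
    right; left
    refine ⟨D, e, ζ, hD1, he, ?_, hζ, ?_⟩
    · rw [hdeg, h1, natDegree_one, add_zero, mul_comm]
    · rw [hf, h1, mul_one]
      exact pow_dvd_pow_of_dvd hg e
  · -- one block
    right; right
    have hgn' : h ∣ (X ^ (nn q D') - 1) ^ m' :=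
      hdv'.trans (pow_dvd_pow_of_dvd (sub_C_dvd_nn hD' ζ' hζ') m')
    have hpos : 0 < Nat.lcm (nn q D) (nn q D') :=
      Nat.lcm_pos (nn_pos q D hq hD1) (nn_pos q D' hq hD')
    refine ⟨D + D', max e m', Nat.lcm (nn q D) (nn q D'), by omega, le_max_of_le_left he, ?_,
      hpos, (dvd_nn q D hD1).trans (Nat.dvd_lcm_left _ _), lam_base q hq D D' hD1 hD', ?_⟩
    · rw [hdeg, ← hdeg']
      have h2 : D' ≤ D' * m' := Nat.le_mul_of_pos_right D' hm'
      have h3 : D' + m' ≤ D' * m' + 1 := by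
        obtain ⟨D'', rfl⟩ : ∃ D'', D' = D'' + 1 := ⟨D' - 1, by omega⟩
        obtain ⟨m'', rfl⟩ : ∃ m'', m' = m'' + 1 := ⟨m' - 1, by omega⟩
        nlinarith [Nat.zero_le (D'' * m'')]
      have h4 : D ≤ e * D := Nat.le_mul_of_pos_left D he
      rcases le_total e m' with hle | hle
      · rw [max_eq_right hle]; omega
      · rw [max_eq_left hle]; omega
    · rw [hf]
      refine IsCoprime.mul_dvd hcop.pow_left ?_ ?_
      · calc g ^ e ∣ (X ^ (nn q D) - 1) ^ e := pow_dvd_pow_of_dvd hgn e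
          _ ∣ (X ^ (Nat.lcm (nn q D) (nn q D')) - 1) ^ e :=
            pow_dvd_pow_of_dvd (X_pow_sub_one_dvd (Nat.dvd_lcm_left _ _)) e
          _ ∣ (X ^ (Nat.lcm (nn q D) (nn q D')) - 1) ^ (max e m') :=
            pow_dvd_pow _ (le_max_left e m')
      · calc h ∣ (X ^ (nn q D') - 1) ^ m' := hgn'
          _ ∣ (X ^ (Nat.lcm (nn q D) (nn q D')) - 1) ^ m' :=
            pow_dvd_pow_of_dvd (X_pow_sub_one_dvd (Nat.dvd_lcm_right _ _)) m'
          _ ∣ (X ^ (Nat.lcm (nn q D) (nn q D')) - 1) ^ (max e m') :=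
            pow_dvd_pow _ (le_max_right e m')
  · -- at least two blocks
    right; right
    have hpos : 0 < Nat.lcm K₀' (nn q D) := Nat.lcm_pos hK0' (nn_pos q D hq hD1)
    refine ⟨S' + D, max e m', Nat.lcm K₀' (nn q D), by omega, le_max_of_le_left he, ?_,
      hpos, hq1'.trans (Nat.dvd_lcm_left _ _), lam_step q hq S' D K₀' hS' hD1 hK0' hq1' hle', ?_⟩
    · rw [hdeg]
      have h4 : D ≤ e * D := Nat.le_mul_of_pos_left D he
      rcases le_total e m' with hle | hle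
      · rw [max_eq_right hle]; omega
      · rw [max_eq_left hle]; omega
    · rw [hf]
      refine IsCoprime.mul_dvd hcop.pow_left ?_ ?_
      · calc g ^ e ∣ (X ^ (nn q D) - 1) ^ e := pow_dvd_pow_of_dvd hgn e
          _ ∣ (X ^ (Nat.lcm K₀' (nn q D)) - 1) ^ e :=
            pow_dvd_pow_of_dvd (X_pow_sub_one_dvd (Nat.dvd_lcm_right _ _)) e
          _ ∣ (X ^ (Nat.lcm K₀' (nn q D)) - 1) ^ (max e m') :=
            pow_dvd_pow _ (le_max_left e m')
      · calc h ∣ (X ^ K₀' - 1) ^ m' := hdv'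
          _ ∣ (X ^ (Nat.lcm K₀' (nn q D)) - 1) ^ m' :=
            pow_dvd_pow_of_dvd (X_pow_sub_one_dvd (Nat.dvd_lcm_left _ _)) m'
          _ ∣ (X ^ (Nat.lcm K₀' (nn q D)) - 1) ^ (max e m') :=
            pow_dvd_pow _ (le_max_right e m')

end general

section main
variable {K : Type*} [Field K] [Fintype K] {q : ℕ}

theorem dag_pow' (hK : Fintype.card K = q ^ 2) (f : K[X]) (e : ℕ) :
    dag hK (f ^ e) = dag hK f ^ e := by
  induction e with
  | zero => rw [pow_zero, pow_zero, dag_one]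
  | succ e ih => rw [pow_succ, pow_succ, dag_mul, ih]

theorem dag_dvd (hK : Fintype.card K = q ^ 2) {f g : K[X]} (h : f ∣ g) : dag hK f ∣ dag hK g := by
  obtain ⟨c, rfl⟩ := h
  rw [dag_mul]
  exact dvd_mul_right _ _

omit [Fintype K] in
theorem coeff_zero_ne_of_dvd' {f g : K[X]} (h : f ∣ g) (hg : g.coeff 0 ≠ 0) : f.coeff 0 ≠ 0 := by
  obtain ⟨c, rfl⟩ := h
  rw [mul_coeff_zero] at hg
  exact left_ne_zero_of_mul hg

theorem cert_exists_aux (hK : Fintype.card K = q ^ 2) : ∀ (n : ℕ) (f : K[X]), f.natDegree = n →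
    f.Monic → f.coeff 0 ≠ 0 → dag hK f = f → Cert q f := by
  have hq : 2 ≤ q := Cfsg.Agent.Lib.Helper1.HermCount.two_le_q hK
  intro n
  induction n using Nat.strong_induction_on with
  | _ n ih =>
  intro f hn hf h0 hdag
  rcases Nat.eq_zero_or_pos n with hn0 | hnpos
  · left
    rw [hn0] at hn
    exact hf.natDegree_eq_zero.mp hn
  · have hf0 : f ≠ 0 := hf.ne_zero
    have hnu : ¬ IsUnit f := by
      intro hu
      have := natDegree_eq_zero_of_isUnit hu
      omega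
    obtain ⟨π, hπm, hπ, hπf⟩ := exists_monic_irreducible_factor f hnu
    have hπ0 : π.coeff 0 ≠ 0 := coeff_zero_ne_of_dvd' hπf h0
    have hπdeg : 1 ≤ π.natDegree := hπ.natDegree_pos
    obtain ⟨e, h₁, hnd, hfe⟩ := WfDvdMonoid.max_power_factor hf0 hπ
    have he : 1 ≤ e := by
      rcases Nat.eq_zero_or_pos e with he0 | hepos
      · exfalso
        rw [he0, pow_zero, one_mul] at hfe
        exact hnd (hfe ▸ hπf)
      · exact hepos
    have hh₁0 : h₁ ≠ 0 := by
      rintro rfl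
      rw [mul_zero] at hfe
      exact hf0 hfe
    have hdagf : dag hK π ^ e * dag hK h₁ = π ^ e * h₁ := by
      rw [← dag_pow', ← dag_mul, ← hfe, hdag]
    rcases block hK π hπ hπm hπ0 with ⟨hd, ζ, hζ, hdv⟩ | ⟨hd, ζ, hζ, hdv⟩
    · -- the block is `π`
      rw [hd] at hdagf
      have hdagh : dag hK h₁ = h₁ := mul_left_cancel₀ (pow_ne_zero e hπ.ne_zero) hdagf
      have hh₁m : h₁.Monic := by
        have h2 : (π ^ e * h₁).Monic := hfe ▸ hf
        exact (hπm.pow e).of_mul_monic_left h2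
      have hh₁c : h₁.coeff 0 ≠ 0 := coeff_zero_ne_of_dvd' (Dvd.intro_left _ hfe.symm) h0
      have hdeg : f.natDegree = e * π.natDegree + h₁.natDegree := by
        rw [hfe, natDegree_mul (pow_ne_zero e hπ.ne_zero) hh₁0, natDegree_pow]
      have hlt : h₁.natDegree < n := by
        have : π.natDegree ≤ e * π.natDegree := Nat.le_mul_of_pos_left _ he
        omega
      have hc := ih _ hlt h₁ rfl hh₁m hh₁c hdagh
      exact Cert.step hq hfe he ((hπ.coprime_iff_not_dvd).2 hnd) rfl hπdeg hπ.ne_zero hh₁0 hζ hdv hc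
    · -- the block is `π * dag π`
      obtain ⟨hπ'i, hπ'm, hπ'0, hπ'deg⟩ := dag_irreducible hK π hπ hπm hπ0
      have hcop : IsCoprime π (dag hK π) := by
        rw [hπ.coprime_iff_not_dvd]
        intro hdvd
        have hass : Associated π (dag hK π) := hπ.associated_of_dvd hπ'i hdvd
        exact hd (eq_of_monic_of_associated hπ'm hπm hass.symm)
      -- `dag π ^ e` divides `h₁`
      have h3 : dag hK π ^ e ∣ h₁ := by
        have h4 : dag hK π ^ e ∣ π ^ e * h₁ := Dvd.intro _ hdagf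
        exact (hcop.symm.pow).dvd_of_dvd_mul_left h4
      obtain ⟨h₂, rfl⟩ := h3
      have hh₂0 : h₂ ≠ 0 := right_ne_zero_of_mul hh₁0
      have hdagh₂ : dag hK h₂ = h₂ := by
        rw [dag_mul, dag_pow', dag_dag hK hπm hπ0] at hdagf
        have h5 : dag hK π ^ e * (π ^ e * dag hK h₂) = dag hK π ^ e * (π ^ e * h₂) := by
          rw [hdagf]; ring
        exact mul_left_cancel₀ (pow_ne_zero e hπ.ne_zero)
          (mul_left_cancel₀ (pow_ne_zero e hπ'i.ne_zero) h5)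
      have hnd₂ : ¬ π ∣ h₂ := fun h => hnd (dvd_mul_of_dvd_right h _)
      have hnd₂' : ¬ dag hK π ∣ h₂ := by
        intro h
        have h6 := dag_dvd hK h
        rw [dag_dag hK hπm hπ0, hdagh₂] at h6
        exact hnd₂ h6
      have hfe' : f = (π * dag hK π) ^ e * h₂ := by rw [hfe, mul_pow]; ring
      have hgm : (π * dag hK π).Monic := hπm.mul hπ'm
      have hh₂m : h₂.Monic := by
        have h2 : ((π * dag hK π) ^ e * h₂).Monic := hfe' ▸ hf
        exact (hgm.pow e).of_mul_monic_left h2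
      have hh₂c : h₂.coeff 0 ≠ 0 := coeff_zero_ne_of_dvd' (Dvd.intro_left _ hfe'.symm) h0
      have hgdeg : (π * dag hK π).natDegree = 2 * π.natDegree := by
        rw [natDegree_mul hπ.ne_zero hπ'i.ne_zero, hπ'deg]; ring
      have hdeg : f.natDegree = e * (2 * π.natDegree) + h₂.natDegree := by
        rw [hfe', natDegree_mul (pow_ne_zero e hgm.ne_zero) hh₂0, natDegree_pow, hgdeg]
      have hlt : h₂.natDegree < n := by
        have : 2 * π.natDegree ≤ e * (2 * π.natDegree) := Nat.le_mul_of_pos_left _ he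
        omega
      have hc := ih _ hlt h₂ rfl hh₂m hh₂c hdagh₂
      have hcop₂ : IsCoprime (π * dag hK π) h₂ :=
        IsCoprime.mul_left ((hπ.coprime_iff_not_dvd).2 hnd₂) ((hπ'i.coprime_iff_not_dvd).2 hnd₂')
      exact Cert.step hq hfe' he hcop₂ hgdeg (by omega) hgm.ne_zero hh₂0 hζ hdv hc

theorem cert_exists (hK : Fintype.card K = q ^ 2) (f : K[X]) (hf : f.Monic) (h0 : f.coeff 0 ≠ 0)
    (hdag : dag hK f = f) : Cert q f :=
  cert_exists_aux hK _ f rfl hf h0 hdag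

end main

end Cfsg.Agent.Lib.PGUMeo
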