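import Mathlib
import Cfsg.Prelude
import Cfsg.Agent.Lib.Helper2.PGUMeoDefs
import Cfsg.Agent.Lib.Helper2.PGUMeoCert
import Cfsg.Agent.Lib.Helper8.PGUMeoNum1
import Cfsg.Agent.Lib.Lead.PGUMeoNum3

/-!
# S2263: the upper bound (package UPPER)
-/

set_option autoImplicit false

namespace Cfsg.Agent.Lib.PGUMeo

open Polynomial Cfsg.Agent.Lib.Helper5.SSOrder Cfsg.Agent.S0278 Cfsg.Agent.Lib.Helper5.PGUr

variable {K : Type*} [Field K] [Fintype K] {q : ℕ}

theorem charP_of_card (hK : Fintype.card K = q ^ 2) (p f : ℕ) (hp : p.Prime) (hf : 1 ≤ f)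
    (hq : q = p ^ f) : CharP K p := by
  obtain ⟨p', hp'⟩ := CharP.exists K
  obtain ⟨n, hp'p, hn⟩ := FiniteField.card K p'
  have h1 : p ∣ (p' : ℕ) ^ (n : ℕ) := by
    rw [← hn, hK, hq, ← pow_mul]
    exact dvd_pow_self p (by omega)
  have h2 : p ∣ p' := hp.dvd_of_dvd_pow h1
  have h3 : p = p' := (Nat.prime_dvd_prime_iff_eq hp hp'p).1 h2
  rw [h3]
  exact hp'

/-- a matrix killed by `X ^ N - C c` has `N`-th power `c • 1` -/
theorem pow_eq_smul_of_dvd {d : ℕ} (A : Matrix (Fin d) (Fin d) K) (N : ℕ) (c : K)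
    (h : A.charpoly ∣ X ^ N - C c) : A ^ N = c • (1 : Matrix (Fin d) (Fin d) K) := by
  have h1 : aeval A (X ^ N - C c : K[X]) = 0 := by
    obtain ⟨r, hr⟩ := h
    rw [hr, map_mul, Matrix.aeval_self_charpoly, zero_mul]
  rw [map_sub, map_pow, aeval_X, aeval_C] at h1
  rw [sub_eq_zero.1 h1, Algebra.algebraMap_eq_smul_one]

theorem upper (hK : Fintype.card K = q ^ 2) (p f d : ℕ) (hp : p.Prime) (hf : 1 ≤ f)
    (hq : q = p ^ f) (hd : 3 ≤ d) (h32 : ¬ (d = 3 ∧ q = 2)) (g : PU d K q) :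
    orderOf g ≤ Mbound p f d := by
  have : Fact p.Prime := ⟨hp⟩
  have hchar : CharP K p := charP_of_card hK p f hp hf hq
  have hcharX : CharP K[X] p := inferInstance
  have hq2 : 2 ≤ q := Cfsg.Agent.Lib.Helper1.HermCount.two_le_q hK
  obtain ⟨g, rfl⟩ := QuotientGroup.mk_surjective g
  set A := mat g with hA
  have hmon : A.charpoly.Monic := Matrix.charpoly_monic A
  have hdeg : A.charpoly.natDegree = d := by
    rw [Matrix.charpoly_natDegree_eq_dim, Fintype.card_fin]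
  have h0 : A.charpoly.coeff 0 ≠ 0 := coeff_zero_charpoly_ne_zero g.1
  have hdag : dag hK A.charpoly = A.charpoly := dag_charpoly_of_mem_GU hK g.1 g.2
  -- it suffices to find a small power which is scalar
  suffices h : ∃ (k : ℕ) (c : K), 0 < k ∧ k ≤ Mbound p f d ∧ A ^ k = c • 1 by
    obtain ⟨k, c, hk, hkM, hkA⟩ := h
    refine le_trans (orderOf_le_of_pow_eq_one hk ?_) hkM
    rw [← QuotientGroup.mk_pow, mk_eq_one_iff hK (by omega)]
    exact ⟨c, by rw [mat_pow]; exact hkA⟩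
  have hpp : ∀ m : ℕ, m ≤ p ^ Nat.clog p m := fun m => Nat.le_pow_clog hp.one_lt m
  rcases cert_exists hK A.charpoly hmon h0 hdag with h1 | ⟨D, m, ζ, hD, hm, hDm, hζ, hdv⟩ |
    ⟨S, m, K₀, hS, hm, hSm, hK0, -, hle, hdv⟩
  · exfalso
    rw [h1, natDegree_one] at hdeg
    omega
  · refine ⟨NN q D * p ^ Nat.clog p m, ζ ^ (p ^ Nat.clog p m),
      Nat.mul_pos (NN_pos q D hq2 hD) (pow_pos hp.pos _), ?_, ?_⟩
    · rw [hq]
      exact num_one p f d hp hf hd (by rw [← hq]; exact h32) D m hD hm (by rw [hDm, hdeg])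
    · apply pow_eq_smul_of_dvd
      have h2 : (X ^ (NN q D) - C ζ : K[X]) ^ (p ^ Nat.clog p m) =
          X ^ (NN q D * p ^ Nat.clog p m) - C (ζ ^ (p ^ Nat.clog p m)) := by
        rw [sub_pow_char_pow, ← pow_mul, ← C_pow]
      rw [← h2]
      exact hdv.trans (pow_dvd_pow _ (hpp m))
  · refine ⟨K₀ * p ^ Nat.clog p m, 1, Nat.mul_pos hK0 (pow_pos hp.pos _), ?_, ?_⟩
    · refine le_trans (Nat.mul_le_mul_right _ hle) ?_
      rw [hq]
      exact num_two p f d hp hf hd (by rw [← hq]; exact h32) S m hS hm (by rw [← hdeg]; exact hSm)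
    · apply pow_eq_smul_of_dvd
      have h2 : (X ^ K₀ - 1 : K[X]) ^ (p ^ Nat.clog p m) = X ^ (K₀ * p ^ Nat.clog p m) - C 1 := by
        rw [sub_pow_char_pow, ← pow_mul, one_pow, C_1]
      rw [← h2]
      exact hdv.trans (pow_dvd_pow _ (hpp m))

end Cfsg.Agent.Lib.PGUMeo
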