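import Mathlib
import Cfsg.Prelude
import Cfsg.Agent.Lib.Helper2.PGUMeoDefs
import Cfsg.Agent.Lib.Helper2.PGUMeoUpper
import Cfsg.Agent.Lib.Helper2.PGUMeoE3
import Cfsg.Agent.Lib.Helper2.PGUMeoE4
import Cfsg.Agent.Lib.Helper4.PGUMeoE1
import Cfsg.Agent.Lib.Lead.PGUMeoE2

/-!
# S2263: assembly helpers
-/

set_option autoImplicit false

namespace Cfsg.Agent.Lib.PGUMeo

open Polynomial Cfsg.Agent.Lib.Helper5.SSOrder Cfsg.Agent.S0278 Cfsg.Agent.Lib.Helper5.PGUr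

variable {K : Type*} [Field K] [Fintype K] {q : ℕ}

/-- a block sum with a transported degree -/
theorem exists_of_block (hK : Fintype.card K = q ^ 2) {a b d : ℕ} (hab : a + b = d) (hb : 1 ≤ b)
    (x : ↥(Cfsg.GU a K q)) (y : ↥(Cfsg.GU b K q))
    (hy : ∀ (j : ℕ) (ζ : K), mat y ^ j = ζ • (1 : Matrix (Fin b) (Fin b) K) → ζ = 1) :
    ∃ g : PU d K q, orderOf g = Nat.lcm (orderOf x) (orderOf y) := by
  subst hab
  exact ⟨_, orderOf_mk_blockGU hK hb x y hy⟩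

/-- a block sum with the trivial `1 × 1` block -/
theorem exists_of_block_one (hK : Fintype.card K = q ^ 2) {a d : ℕ} (hab : a + 1 = d)
    (x : ↥(Cfsg.GU a K q)) : ∃ g : PU d K q, orderOf g = orderOf x := by
  obtain ⟨g, hg⟩ := exists_of_block hK hab le_rfl x (1 : ↥(Cfsg.GU 1 K q))
    (fun j ζ h => scalar_of_unip le_rfl (mat (1 : ↥(Cfsg.GU 1 K q))) 1
      (by rw [mat_one, sub_self, pow_one]) j ζ h)
  exact ⟨g, by rw [hg, orderOf_one, Nat.lcm_one_right]⟩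

theorem Mbound_odd_two {p f d : ℕ} (hd : Odd d) (hf : 2 ≤ f) :
    Mbound p f d = (p ^ f) ^ (d - 1) - 1 := by
  unfold Mbound
  rw [if_pos hd, if_pos hf]

theorem Mbound_odd_one {p f d : ℕ} (hd : Odd d) (hf : f = 1) :
    Mbound p f d = (p ^ (d - 2) + 1) * p := by
  unfold Mbound
  rw [if_pos hd, if_neg (by omega)]

theorem Mbound_even_big {p f d : ℕ} (hd : Even d) (hq : 2 < p ^ f) :
    Mbound p f d = (p ^ f) ^ (d - 1) + 1 := by
  unfold Mbound
  rw [if_neg (Nat.not_odd_iff_even.2 hd), if_pos hq]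

theorem Mbound_even_two {p f d : ℕ} (hd : Even d) (hq : p ^ f = 2) :
    Mbound p f d = 4 * (2 ^ (d - 3) + 1) := by
  unfold Mbound
  rw [if_neg (Nat.not_odd_iff_even.2 hd), if_neg (by omega)]

/-- the four existence statements -/
theorem exists_odd_two (hK : Fintype.card K = q ^ 2) (d : ℕ) (hd : 3 ≤ d) (hodd : Odd d) :
    ∃ g : PU d K q, orderOf g = q ^ (d - 1) - 1 := by
  obtain ⟨r, hr⟩ := hodd
  obtain ⟨c, hc⟩ := exists_torus_even hK r (by omega)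
  obtain ⟨g, hg⟩ := exists_of_block_one hK (a := 2 * r) (d := d) (by omega) c
  refine ⟨g, ?_⟩
  rw [hg, hc]
  have : d - 1 = 2 * r := by omega
  rw [this]

theorem exists_even_big (hK : Fintype.card K = q ^ 2) (d : ℕ) (hd : 3 ≤ d) (hev : Even d) :
    ∃ g : PU d K q, orderOf g = q ^ (d - 1) + 1 := by
  have hodd : Odd (d - 1) := by
    obtain ⟨r, hr⟩ := hev
    exact ⟨r - 1, by omega⟩
  obtain ⟨c, hc⟩ := exists_torus_odd hK (d - 1) hodd
  obtain ⟨g, hg⟩ := exists_of_block_one hK (a := d - 1) (d := d) (by omega) c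
  exact ⟨g, by rw [hg, hc]⟩

theorem exists_odd_one (hK : Fintype.card K = q ^ 2) (p : ℕ) (hp : p.Prime) (hq : q = p)
    (d : ℕ) (hd : 3 ≤ d) (hodd : Odd d) :
    ∃ g : PU d K q, orderOf g = (p ^ (d - 2) + 1) * p := by
  have : Fact p.Prime := ⟨hp⟩
  have hchar : CharP K p := charP_of_card hK p 1 hp le_rfl (by rw [hq, pow_one])
  have hodd' : Odd (d - 2) := by
    obtain ⟨r, hr⟩ := hodd
    exact ⟨r - 1, by omega⟩
  obtain ⟨c, hc⟩ := exists_torus_odd hK (d - 2) hodd'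
  obtain ⟨u, hu, hu2⟩ := exists_unip_two hK p
  obtain ⟨g, hg⟩ := exists_of_block hK (a := d - 2) (b := 2) (d := d) (by omega) (by omega) c u
    (fun j ζ h => scalar_of_unip (by omega) (mat u) 2 hu2 j ζ h)
  refine ⟨g, ?_⟩
  rw [hg, hc, hu, hq]
  have hcop : Nat.Coprime (p ^ (d - 2) + 1) p := by
    refine Nat.Coprime.symm ((Nat.Prime.coprime_iff_not_dvd hp).2 fun h => ?_)
    have h1 : p ∣ p ^ (d - 2) := dvd_pow_self p (by omega)
    have h2 : p ∣ 1 := (Nat.dvd_add_right h1).1 h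
    exact hp.one_lt.ne' (Nat.dvd_one.1 h2)
  exact hcop.lcm_eq_mul

theorem exists_even_two (hK : Fintype.card K = 2 ^ 2) (d : ℕ) (hd : 3 ≤ d) (hev : Even d) :
    ∃ g : PU d K 2, orderOf g = 4 * (2 ^ (d - 3) + 1) := by
  have hodd' : Odd (d - 3) := by
    obtain ⟨r, hr⟩ := hev
    exact ⟨r - 2, by omega⟩
  have hd4 : 4 ≤ d := by
    obtain ⟨r, hr⟩ := hev
    omega
  obtain ⟨c, hc⟩ := exists_torus_odd hK (d - 3) hodd'
  obtain ⟨u, hu, hu3⟩ := exists_unip_three hK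
  obtain ⟨g, hg⟩ := exists_of_block hK (a := d - 3) (b := 3) (d := d) (by omega) (by omega) c u
    (fun j ζ h => scalar_of_unip (by omega) (mat u) 3 hu3 j ζ h)
  refine ⟨g, ?_⟩
  rw [hg, hc, hu]
  have hcop : Nat.Coprime (2 ^ (d - 3) + 1) 4 := by
    have h4 : (4 : ℕ) = 2 ^ 2 := by norm_num
    rw [h4]
    refine Nat.Coprime.pow_right 2 (Nat.Coprime.symm ((Nat.Prime.coprime_iff_not_dvd
      Nat.prime_two).2 fun h => ?_))
    have h1 : 2 ∣ 2 ^ (d - 3) := dvd_pow_self 2 (by omega)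
    have h2 : 2 ∣ 1 := (Nat.dvd_add_right h1).1 h
    omega
  rw [hcop.lcm_eq_mul, mul_comm]

end Cfsg.Agent.Lib.PGUMeo
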