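import Cfsg.Agent.Lib.Helper2.PMStab6

set_option autoImplicit false

/-! # Stabilizer chains of arbitrary depth, verified by counting (abstract part) -/

namespace Cfsg.Agent.Lib.Helper2.PMC

section abstract

variable {G α : Type*} [Group G] [MulAction G α]

/-- one level of a chain: the products of the transversal and the next stabilizer are distinct -/
theorem level_card_le [Finite G] (H : Subgroup G) (b : α) (T : List G) (hT : ∀ t ∈ T, t ∈ H)
    (hnd : (T.map (· • b)).Nodup) :
    T.length * Nat.card ↥(H ⊓ MulAction.stabilizer G b) ≤ Nat.card H ∧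
    (Nat.card H ≤ T.length * Nat.card ↥(H ⊓ MulAction.stabilizer G b) →
      ∀ g ∈ H, ∃ t ∈ T, t • b = g • b) := by
  let f : Fin T.length × ↥(H ⊓ MulAction.stabilizer G b) → H := fun x =>
    ⟨T[x.1] * x.2.1, H.mul_mem (hT _ (List.getElem_mem _)) x.2.2.1⟩
  have hf : Function.Injective f := by
    rintro ⟨i, s⟩ ⟨j, s'⟩ h
    have h1 : T[i] * s.1 = T[j] * s'.1 := congrArg Subtype.val h
    have hs : s.1 • b = b := MulAction.mem_stabilizer_iff.mp s.2.2
    have hs' : s'.1 • b = b := MulAction.mem_stabilizer_iff.mp s'.2.2
    have h2 : T[i] • b = T[j] • b := by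
      have := congrArg (· • b) h1
      simp only [mul_smul] at this
      rwa [hs, hs'] at this
    have hi : i.val < (T.map (· • b)).length := by rw [List.length_map]; exact i.isLt
    have hj : j.val < (T.map (· • b)).length := by rw [List.length_map]; exact j.isLt
    have h3 : i.val = j.val := by
      apply (hnd.getElem_inj_iff (hi := hi) (hj := hj)).mp
      rw [List.getElem_map, List.getElem_map]
      exact h2
    have h4 : i = j := Fin.ext h3
    subst h4
    have h5 : s.1 = s'.1 := mul_left_cancel h1
    have h6 : s = s' := Subtype.ext h5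
    rw [h6]
  have hcard : Nat.card (Fin T.length × ↥(H ⊓ MulAction.stabilizer G b)) =
      T.length * Nat.card ↥(H ⊓ MulAction.stabilizer G b) := by
    rw [Nat.card_prod, Nat.card_fin]
  constructor
  · rw [← hcard]
    exact Nat.card_le_card_of_injective f hf
  · intro hle g hg
    rw [← hcard] at hle
    have hb := Function.Injective.bijective_of_nat_card_le hf hle
    obtain ⟨⟨i, s⟩, hx⟩ := hb.2 ⟨g, hg⟩
    have h1 : T[i] * s.1 = g := congrArg Subtype.val hx
    refine ⟨T[i], List.getElem_mem _, ?_⟩
    rw [← h1, mul_smul, MulAction.mem_stabilizer_iff.mp s.2.2]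

/-- the validity of the levels of a chain, relative to a subgroup -/
def Valid (H : Subgroup G) : List (α × List G) → Prop
  | [] => True
  | l :: rest => (∀ t ∈ l.2, t ∈ H) ∧ (l.2.map (· • l.1)).Nodup ∧
      Valid (H ⊓ MulAction.stabilizer G l.1) rest

/-- the product of the lengths of the transversals -/
def prodLen : List (α × List G) → ℕ
  | [] => 1
  | l :: rest => l.2.length * prodLen rest

/-- the completeness of the levels of a chain, relative to a subgroup -/
def Complete (H : Subgroup G) : List (α × List G) → Prop
  | [] => ∀ g ∈ H, g = 1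
  | l :: rest => (∀ g ∈ H, ∃ t ∈ l.2, t • l.1 = g • l.1) ∧
      Complete (H ⊓ MulAction.stabilizer G l.1) rest

theorem prodLen_le_card [Finite G] (Lv : List (α × List G)) :
    ∀ (H : Subgroup G), Valid H Lv → prodLen Lv ≤ Nat.card H := by
  induction Lv with
  | nil =>
    intro H _
    exact Nat.card_pos
  | cons l rest ih =>
    intro H hv
    obtain ⟨h1, h2, h3⟩ := hv
    have h4 := ih _ h3
    have h5 := (level_card_le H l.1 l.2 h1 h2).1
    calc prodLen (l :: rest) = l.2.length * prodLen rest := rfl
      _ ≤ l.2.length * Nat.card ↥(H ⊓ MulAction.stabilizer G l.1) := Nat.mul_le_mul_left _ h4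
      _ ≤ Nat.card H := h5

/-- a valid chain whose lengths multiply to the order is complete -/
theorem complete_of_valid [Finite G] (Lv : List (α × List G)) :
    ∀ (H : Subgroup G), Valid H Lv → Nat.card H ≤ prodLen Lv → Complete H Lv := by
  induction Lv with
  | nil =>
    intro H _ hc g hg
    have h1 : Nat.card H ≤ 1 := hc
    have h2 := (Subgroup.card_le_one_iff_eq_bot H).mp h1
    rw [h2] at hg
    exact Subgroup.mem_bot.mp hg
  | cons l rest ih =>
    intro H hv hc
    obtain ⟨h1, h2, h3⟩ := hv
    have h4 := prodLen_le_card rest _ h3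
    have h5 := level_card_le H l.1 l.2 h1 h2
    have hc' : Nat.card H ≤ l.2.length * prodLen rest := hc
    have hpos : 0 < l.2.length := by
      rcases Nat.eq_zero_or_pos l.2.length with h0 | h0
      · rw [h0, zero_mul] at hc'
        have := Nat.card_pos (α := H)
        omega
      · exact h0
    have h6 : Nat.card H ≤ l.2.length * Nat.card ↥(H ⊓ MulAction.stabilizer G l.1) :=
      le_trans hc' (Nat.mul_le_mul_left _ h4)
    have h7 : Nat.card ↥(H ⊓ MulAction.stabilizer G l.1) ≤ prodLen rest := by
      have := le_trans h5.1 hc'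
      exact Nat.le_of_mul_le_mul_left this hpos
    exact ⟨h5.2 h6, ih _ h3 h7⟩

end abstract

end Cfsg.Agent.Lib.Helper2.PMC
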