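import Cfsg.Agent.Lib.Helper2.PMChain1

set_option autoImplicit false

/-! # Stabilizer chains of arbitrary depth for permutation models (concrete part) -/

namespace Cfsg.Agent.Lib.Helper2.PMC

open Cfsg.Agent.Lib.Helper6.TC Cfsg.Agent.Lib.Helper6.PM Cfsg.Agent.Lib.Helper2.PMS

/-- a level of a chain: the base point, the words of the transversal, the images of the base
point under the words, and (for searches) an earlier base point mapped to the base point -/
structure Level where
  /-- the base point -/
  b : ℕ
  /-- the words of the transversal -/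
  U : List (List ℕ)
  /-- the images of the base point -/
  I : List ℕ
  /-- an earlier base point that a fixed word maps to the base point -/
  src : Option ℕ

/-- the list is strictly increasing from a lower bound -/
def incFrom : ℕ → List ℕ → Bool
  | _, [] => true
  | a, b :: l => Nat.blt a b && incFrom b l

/-- the list is strictly increasing -/
def strictInc : List ℕ → Bool
  | [] => true
  | a :: l => incFrom a l

theorem incFrom_spec (l : List ℕ) : ∀ a, incFrom a l = true → (∀ x ∈ l, a < x) ∧ l.Nodup := by
  induction l with
  | nil => intro a _; exact ⟨fun x hx => absurd hx (List.not_mem_nil), List.nodup_nil⟩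
  | cons b l ih =>
    intro a h
    unfold incFrom at h
    rw [Bool.and_eq_true, Nat.blt_eq] at h
    obtain ⟨h1, h2⟩ := ih b h.2
    refine ⟨?_, ?_⟩
    · intro x hx
      rcases List.mem_cons.mp hx with rfl | hx
      · exact h.1
      · exact lt_trans h.1 (h1 x hx)
    · rw [List.nodup_cons]
      exact ⟨fun hb => lt_irrefl _ (h1 b hb), h2⟩

theorem nodup_of_strictInc (l : List ℕ) (h : strictInc l = true) : l.Nodup := by
  cases l with
  | nil => exact List.nodup_nil
  | cons a l =>
    obtain ⟨h1, h2⟩ := incFrom_spec l a h
    rw [List.nodup_cons]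
    exact ⟨fun ha => lt_irrefl _ (h1 a ha), h2⟩

/-- membership of a number in a list -/
def memNat (a : ℕ) : List ℕ → Bool
  | [] => false
  | b :: l => Nat.beq a b || memNat a l

theorem memNat_iff (a : ℕ) (l : List ℕ) : memNat a l = true ↔ a ∈ l := by
  induction l with
  | nil => simp [memNat]
  | cons b l ih =>
    unfold memNat
    rw [Bool.or_eq_true, Nat.beq_eq, ih, List.mem_cons]

variable (M : PModel)

/-- the images of a point under words are the given numbers -/
noncomputable def eqImgs : List (List ℕ) → ℕ → List ℕ → Bool
  | [], _, [] => true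
  | u :: U, b, i :: I => Nat.beq (wappS M.px u b) i && eqImgs U b I
  | _, _, _ => false

theorem eqImgs_spec (U : List (List ℕ)) (b : ℕ) : ∀ I, eqImgs M U b I = true →
    I = U.map fun u => wapp M.px u b := by
  induction U with
  | nil =>
    intro I h
    cases I with
    | nil => rfl
    | cons i I => simp [eqImgs] at h
  | cons u U ih =>
    intro I h
    cases I with
    | nil => simp [eqImgs] at h
    | cons i I =>
      unfold eqImgs at h
      rw [Bool.and_eq_true, Nat.beq_eq, wappS_eq] at h
      rw [List.map_cons, ← h.1, ← ih I h.2]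

/-- the pointwise stabilizer of a list of points -/
noncomputable def stabL : List ℕ → Subgroup M.G
  | [] => ⊤
  | q :: f => stabL f ⊓ MulAction.stabilizer M.G (pnt M q)

theorem mem_stabL (f : List ℕ) (g : M.G) : g ∈ stabL M f ↔ ∀ q ∈ f, g • pnt M q = pnt M q := by
  induction f with
  | nil => simp [stabL]
  | cons q f ih =>
    unfold stabL
    rw [Subgroup.mem_inf, ih, MulAction.mem_stabilizer_iff]
    constructor
    · rintro ⟨h1, h2⟩ t ht
      rcases List.mem_cons.mp ht with rfl | ht
      · exact h2
      · exact h1 t ht
    · intro h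
      exact ⟨fun t ht => h t (List.mem_cons_of_mem _ ht), h q List.mem_cons_self⟩

/-- the abstract level of a level -/
noncomputable def absL (L : Level) : Fin M.n × List M.G :=
  (pnt M L.b, L.U.map fun u => (M.elt u)⁻¹)

/-- the check of one level, given the earlier base points -/
noncomputable def chkLevel (fixed : List ℕ) (L : Level) : Bool :=
  Nat.blt L.b M.n && chkLetters M L.U && (fixed.all fun q => chkFixes M L.U q) &&
    eqImgs M L.U L.b L.I && strictInc L.I

/-- the check of the levels, given the earlier base points -/
noncomputable def chkLevels : List ℕ → List Level → Bool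
  | _, [] => true
  | fixed, L :: rest => chkLevel M fixed L && chkLevels (L.b :: fixed) rest

/-- the facts on the levels -/
def LevelsOK : List ℕ → List Level → Prop
  | _, [] => True
  | fixed, L :: rest => L.b < M.n ∧ (∀ u ∈ L.U, ∀ c ∈ u, c < M.nl) ∧
      (∀ u ∈ L.U, ∀ q ∈ fixed, wapp M.px u q = q) ∧ (L.I = L.U.map fun u => wapp M.px u L.b) ∧
      L.I.Nodup ∧ LevelsOK (L.b :: fixed) rest

theorem levelsOK_of_chk (lv : List Level) : ∀ fixed, chkLevels M fixed lv = true →
    LevelsOK M fixed lv := by
  induction lv with
  | nil => intro _ _; trivial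
  | cons L rest ih =>
    intro fixed h
    unfold chkLevels at h
    rw [Bool.and_eq_true] at h
    obtain ⟨h1, h2⟩ := h
    unfold chkLevel at h1
    simp only [Bool.and_eq_true, Nat.blt_eq, List.all_eq_true] at h1
    obtain ⟨⟨⟨⟨ha, hb⟩, hc⟩, hd⟩, he⟩ := h1
    refine ⟨ha, letters_of_chk M L.U hb, ?_, eqImgs_spec M L.U L.b L.I hd,
      nodup_of_strictInc L.I he, ih _ h2⟩
    intro u hu q hq
    exact fixes_of_chk M L.U q (hc q hq) u hu

theorem valid_of_levelsOK (lv : List Level) : ∀ fixed, (∀ q ∈ fixed, q < M.n) →
    LevelsOK M fixed lv → Valid (stabL M fixed) (lv.map (absL M)) := by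
  induction lv with
  | nil => intro _ _ _; trivial
  | cons L rest ih =>
    intro fixed hfix h
    obtain ⟨ha, hb, hc, hd, he, hf⟩ := h
    refine ⟨?_, ?_, ?_⟩
    · intro t ht
      change t ∈ L.U.map _ at ht
      rw [List.mem_map] at ht
      obtain ⟨u, hu, rfl⟩ := ht
      rw [mem_stabL]
      intro q hq
      rw [inv_elt_smul_pnt M u (hb u hu) q (hfix q hq), hc u hu q hq]
    · change ((L.U.map fun u => (M.elt u)⁻¹).map (· • pnt M L.b)).Nodup
      rw [List.map_map]
      have e : (L.U.map ((· • pnt M L.b) ∘ fun u => (M.elt u)⁻¹)) = L.I.map (pnt M) := by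
        rw [hd, List.map_map]
        apply List.map_congr_left
        intro u hu
        exact inv_elt_smul_pnt M u (hb u hu) L.b ha
      rw [e]
      apply List.Nodup.map_on _ he
      intro x hx y hy hxy
      rw [hd, List.mem_map] at hx hy
      obtain ⟨u, hu, rfl⟩ := hx
      obtain ⟨u', hu', rfl⟩ := hy
      exact pnt_injOn M _ _ (M.wapp_lt u (hb u hu) L.b ha) (M.wapp_lt u' (hb u' hu') L.b ha) hxy
    · apply ih (L.b :: fixed) _ hf
      intro q hq
      rcases List.mem_cons.mp hq with rfl | hq
      · exact ha
      · exact hfix q hq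

theorem prodLen_map (lv : List Level) :
    prodLen (lv.map (absL M)) = (lv.map fun L => L.U.length).prod := by
  induction lv with
  | nil => rfl
  | cons L rest ih =>
    rw [List.map_cons, List.map_cons, List.prod_cons, ← ih]
    change (L.U.map fun u => (M.elt u)⁻¹).length * _ = _
    rw [List.length_map]

/-- the facts on a chain of a model -/
structure ChainFacts (lv : List Level) : Prop where
  hchk : chkLevels M [] lv = true
  hcard : Nat.card M.G = (lv.map fun L => L.U.length).prod

variable {M}

theorem ChainFacts.ok {lv : List Level} (F : ChainFacts M lv) : LevelsOK M [] lv :=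
  levelsOK_of_chk M lv [] F.hchk

theorem ChainFacts.complete [Finite M.G] {lv : List Level} (F : ChainFacts M lv) :
    Complete (stabL M []) (lv.map (absL M)) := by
  apply complete_of_valid _ _ (valid_of_levelsOK M lv [] (fun q hq => absurd hq List.not_mem_nil) F.ok)
  rw [prodLen_map, ← F.hcard]
  change Nat.card (⊤ : Subgroup M.G) ≤ _
  rw [Subgroup.card_top]

end Cfsg.Agent.Lib.Helper2.PMC
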