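import Cfsg.Agent.Lib.Helper2.PMChain2

set_option autoImplicit false

/-! # Certified searches for the elements conjugating one word to another, along a chain -/

namespace Cfsg.Agent.Lib.Helper2.PMC

open Cfsg.Agent.Lib.Helper6.TC Cfsg.Agent.Lib.Helper6.PM Cfsg.Agent.Lib.Helper2.PMS

/-- the certificates of a search -/
inductive Cert where
  /-- at a forced level, the forced image is not in the orbit -/
  | fail : Cert
  /-- the compatibility fails at an earlier base point -/
  | bad : ℕ → Cert
  /-- at a forced level, a word with the forced image -/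
  | step : List ℕ → Cert → Cert
  /-- at the end, a word for the element found -/
  | done : List ℕ → Cert
  /-- at the end, the compatibility fails at a point -/
  | badAt : ℕ → Cert
  /-- at a free level, no word of the transversal is left -/
  | nil : Cert
  /-- at a free level, the certificate of the next word of the transversal and of the others -/
  | cons : Cert → Cert → Cert

/-- the words of the elements found -/
def leaves : Cert → List (List ℕ)
  | .fail => []
  | .bad _ => []
  | .step _ c => leaves c
  | .done z => [z]
  | .badAt _ => []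
  | .nil => []
  | .cons c cs => leaves c ++ leaves cs

/-- the words to try at the next level, if it is free -/
def pendOf : List Level → Option (List (List ℕ))
  | [] => none
  | L :: _ => match L.src with
    | none => some L.U
    | some _ => none

section search

variable (M : PModel) (iv : ℕ → ℕ) (ws ws' : List ℕ)

noncomputable def chkBad (q : ℕ) (fixed acc : List ℕ) : Bool :=
  memNat q fixed && memNat (wappS M.px ws q) fixed &&
    !(Nat.beq (wappS M.px acc (wappS M.px ws q)) (wappS M.px ws' (wappS M.px acc q)))

noncomputable def chkFail (lv : List Level) (pend : Option (List (List ℕ))) (acc : List ℕ) : Bool :=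
  match lv, pend with
  | L :: _, none =>
    match L.src with
    | some s => !(memNat (wappS M.px (invw iv acc) (wappS M.px ws' (wappS M.px acc s))) L.I)
    | none => false
  | _, _ => false

noncomputable def chkStep (L : Level) (u : List ℕ) (fixed acc : List ℕ) : Bool :=
  match L.src with
  | some s => chkW M u && (fixed.all fun q => Nat.beq (wappS M.px u q) q) &&
      Nat.beq (wappS M.px acc (wappS M.px u L.b)) (wappS M.px ws' (wappS M.px acc s))
  | none => false

noncomputable def chkDone (lv : List Level) (z : List ℕ) (fixed acc : List ℕ) : Bool :=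
  match lv with
  | [] => chkW M z && (fixed.all fun q => Nat.beq (wappS M.px acc q) (wappS M.px z q))
  | _ :: _ => false

noncomputable def chkBadAt (lv : List Level) (q : ℕ) (acc : List ℕ) : Bool :=
  match lv with
  | [] => Nat.blt q M.n &&
      !(Nat.beq (wappS M.px acc (wappS M.px ws q)) (wappS M.px ws' (wappS M.px acc q)))
  | _ :: _ => false

/-- the check of a certificate -/
noncomputable def chk : Cert → List Level → Option (List (List ℕ)) → List ℕ → List ℕ → Bool
  | .fail, lv, pend, _, acc => chkFail M iv ws' lv pend acc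
  | .bad q, _, _, fixed, acc => chkBad M ws ws' q fixed acc
  | .step u c, lv, pend, fixed, acc =>
    match lv, pend with
    | L :: lv', none =>
      chkStep M ws' L u fixed acc && chk c lv' (pendOf lv') (L.b :: fixed) (u ++ acc)
    | _, _ => false
  | .done z, lv, _, fixed, acc => chkDone M lv z fixed acc
  | .badAt q, lv, _, _, acc => chkBadAt M ws ws' lv q acc
  | .nil, _, pend, _, _ =>
    match pend with
    | some [] => true
    | _ => false
  | .cons c cs, lv, pend, fixed, acc =>
    match lv, pend with
    | L :: lv', some (u :: U') =>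
      chk c lv' (pendOf lv') (L.b :: fixed) (u ++ acc) && chk cs (L :: lv') (some U') fixed acc
    | _, _ => false

/-- the static facts on the forced levels -/
def SrcOK : List ℕ → List Level → Prop
  | _, [] => True
  | fixed, L :: rest => (∀ s, L.src = some s → s ∈ fixed ∧ wapp M.px ws s = L.b) ∧
      SrcOK (L.b :: fixed) rest

/-- the check of the static facts on the forced levels -/
noncomputable def chkSrc : List ℕ → List Level → Bool
  | _, [] => true
  | fixed, L :: rest =>
    (match L.src with
      | some s => memNat s fixed && Nat.beq (wappS M.px ws s) L.b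
      | none => true) && chkSrc (L.b :: fixed) rest

theorem srcOK_of_chk (lv : List Level) : ∀ fixed, chkSrc M ws fixed lv = true →
    SrcOK M ws fixed lv := by
  induction lv with
  | nil => intro _ _; trivial
  | cons L rest ih =>
    intro fixed h
    unfold chkSrc at h
    rw [Bool.and_eq_true] at h
    refine ⟨?_, ih _ h.2⟩
    intro s hs
    have h1 := h.1
    rw [hs] at h1
    simp only [Bool.and_eq_true, Nat.beq_eq, memNat_iff, wappS_eq] at h1
    exact h1

/-- the compatibility of an element with the two words -/
def Compat (g : M.G) : Prop :=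
  ∀ q < M.n, g⁻¹ • pnt M (wapp M.px ws q) = pnt M (wapp M.px ws' ((g⁻¹ • pnt M q).val))

theorem compat_of_conj (hws : ∀ c ∈ ws, c < M.nl) (hws' : ∀ c ∈ ws', c < M.nl) (g : M.G)
    (hg : g⁻¹ * M.elt ws * g = M.elt ws') : Compat M ws ws' g := by
  intro q hq
  rw [← inv_elt_smul_pnt M ws hws q hq]
  have h1 : pnt M ((g⁻¹ • pnt M q).val) = g⁻¹ • pnt M q := pnt_eq M _
  rw [← inv_elt_smul_pnt M ws' hws' _ (g⁻¹ • pnt M q).isLt, h1, ← hg, ← mul_smul, ← mul_smul]
  congr 1
  group

/-- the state of a search, for a fixed element -/
structure St (g : M.G) (lv : List Level) (pend : Option (List (List ℕ))) (fixed acc : List ℕ) :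
    Prop where
  hfix : ∀ q ∈ fixed, q < M.n
  hacc : ∀ c ∈ acc, c < M.nl
  hok : LevelsOK M fixed lv
  hsrc : SrcOK M ws fixed lv
  hcomp : Complete (stabL M fixed) (lv.map (absL M))
  hr : M.elt acc * g⁻¹ ∈ stabL M fixed
  hpend : ∀ Us, pend = some Us → ∃ L lv', lv = L :: lv' ∧ ∃ u ∈ Us, u ∈ L.U ∧
    (M.elt acc * g⁻¹) • pnt M L.b = pnt M (wapp M.px u L.b)

variable {M iv ws ws'}

theorem pend_of_complete (g : M.G) (lv : List Level) (fixed acc : List ℕ)
    (hok : LevelsOK M fixed lv) (hcomp : Complete (stabL M fixed) (lv.map (absL M)))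
    (hr : M.elt acc * g⁻¹ ∈ stabL M fixed) :
    ∀ Us, pendOf lv = some Us → ∃ L lv', lv = L :: lv' ∧ ∃ u ∈ Us, u ∈ L.U ∧
      (M.elt acc * g⁻¹) • pnt M L.b = pnt M (wapp M.px u L.b) := by
  intro Us hUs
  cases lv with
  | nil => simp [pendOf] at hUs
  | cons L lv' =>
    refine ⟨L, lv', rfl, ?_⟩
    have e0 : pendOf (L :: lv') = match L.src with
      | none => some L.U
      | some _ => none := rfl
    rw [e0] at hUs
    cases hsrc : L.src with
    | some s => rw [hsrc] at hUs; simp at hUs
    | none =>
      rw [hsrc] at hUs
      simp only [Option.some.injEq] at hUs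
      subst hUs
      obtain ⟨t, ht, htb⟩ := hcomp.1 _ hr
      change t ∈ L.U.map _ at ht
      rw [List.mem_map] at ht
      obtain ⟨u, hu, rfl⟩ := ht
      refine ⟨u, hu, hu, ?_⟩
      have htb' : (M.elt u)⁻¹ • pnt M L.b = (M.elt acc * g⁻¹) • pnt M L.b := htb
      rw [← htb']
      exact inv_elt_smul_pnt M u (hok.2.1 u hu) L.b hok.1

theorem St.ginv_fixed {g : M.G} {lv : List Level} {pend : Option (List (List ℕ))}
    {fixed acc : List ℕ} (S : St M ws g lv pend fixed acc) (t : ℕ) (ht : t ∈ fixed) :
    g⁻¹ • pnt M t = pnt M (wapp M.px acc t) := by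
  have h1 := (mem_stabL M fixed _).mp S.hr t ht
  calc g⁻¹ • pnt M t = (M.elt acc)⁻¹ • ((M.elt acc * g⁻¹) • pnt M t) := by
        rw [← mul_smul]
        congr 1
        group
    _ = (M.elt acc)⁻¹ • pnt M t := by rw [h1]
    _ = pnt M (wapp M.px acc t) := inv_elt_smul_pnt M acc S.hacc t (S.hfix t ht)

theorem St.ginv_src {g : M.G} {lv : List Level} {pend : Option (List (List ℕ))}
    {fixed acc : List ℕ} (S : St M ws g lv pend fixed acc) (hg : Compat M ws ws' g) (s b : ℕ)
    (hs : s ∈ fixed) (hb : wapp M.px ws s = b) :
    g⁻¹ • pnt M b = pnt M (wapp M.px ws' (wapp M.px acc s)) := by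
  have h1 := hg s (S.hfix s hs)
  rw [hb, S.ginv_fixed s hs, pnt_val M _ (M.wapp_lt acc S.hacc s (S.hfix s hs))] at h1
  exact h1

theorem St.descend [Finite M.G] {g : M.G} {L : Level} {lv' : List Level}
    {pend : Option (List (List ℕ))} {fixed acc : List ℕ} (S : St M ws g (L :: lv') pend fixed acc)
    (u : List ℕ) (hu : ∀ c ∈ u, c < M.nl) (hfixu : ∀ q ∈ fixed, wapp M.px u q = q)
    (hru : (M.elt acc * g⁻¹) • pnt M L.b = pnt M (wapp M.px u L.b)) :
    St M ws g lv' (pendOf lv') (L.b :: fixed) (u ++ acc) := by
  have hb : L.b < M.n := S.hok.1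
  have hfix' : ∀ q ∈ L.b :: fixed, q < M.n := by
    intro q hq
    rcases List.mem_cons.mp hq with rfl | hq
    · exact hb
    · exact S.hfix q hq
  have hr' : M.elt (u ++ acc) * g⁻¹ ∈ stabL M (L.b :: fixed) := by
    rw [mem_stabL]
    intro q hq
    rw [M.elt_append, mul_assoc, mul_smul]
    rcases List.mem_cons.mp hq with rfl | hq
    · rw [hru]
      exact elt_smul_pnt M u hu _ _ hb rfl
    · rw [(mem_stabL M fixed _).mp S.hr q hq]
      exact elt_smul_pnt M u hu q q (S.hfix q hq) (hfixu q hq)
  exact {
    hfix := hfix'
    hacc := append_lt M u acc hu S.hacc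
    hok := S.hok.2.2.2.2.2
    hsrc := S.hsrc.2
    hcomp := S.hcomp.2
    hr := hr'
    hpend := pend_of_complete g lv' (L.b :: fixed) (u ++ acc) S.hok.2.2.2.2.2 S.hcomp.2 hr' }

/-- the soundness of the check of a certificate -/
theorem chk_sound [Finite M.G] (hI : InvMap M iv) (hws : ∀ c ∈ ws, c < M.nl)
    (hws' : ∀ c ∈ ws', c < M.nl) (g : M.G)
    (hg : Compat M ws ws' g) (c : Cert) :
    ∀ (lv : List Level) (pend : Option (List (List ℕ))) (fixed acc : List ℕ),
      chk M iv ws ws' c lv pend fixed acc = true → St M ws g lv pend fixed acc →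
      ∃ z ∈ leaves c, g = M.elt z := by
  induction c with
  | fail =>
    intro lv pend fixed acc h S
    exfalso
    unfold chk chkFail at h
    cases lv with
    | nil => simp at h
    | cons L lv' =>
      cases pend with
      | some Us => simp at h
      | none =>
        simp only at h
        cases hsrc : L.src with
        | none => rw [hsrc] at h; simp at h
        | some s =>
          rw [hsrc] at h
          simp only [Bool.not_eq_true', wappS_eq] at h
          obtain ⟨hs, hsb⟩ := S.hsrc.1 s hsrc
          obtain ⟨t, ht, htb⟩ := S.hcomp.1 _ S.hr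
          change t ∈ L.U.map _ at ht
          rw [List.mem_map] at ht
          obtain ⟨u, hu, rfl⟩ := ht
          have hb : L.b < M.n := S.hok.1
          have h1 : (M.elt u)⁻¹ • pnt M L.b = pnt M (wapp M.px u L.b) :=
            inv_elt_smul_pnt M u (S.hok.2.1 u hu) L.b hb
          have h2 : (M.elt acc * g⁻¹) • pnt M L.b =
              pnt M (wapp M.px (invw iv acc) (wapp M.px ws' (wapp M.px acc s))) := by
            rw [mul_smul, S.ginv_src hg s L.b hs hsb]
            have hlt : wapp M.px ws' (wapp M.px acc s) < M.n :=
              M.wapp_lt ws' hws' _ (M.wapp_lt acc S.hacc s (S.hfix s hs))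
            rw [← inv_elt_smul_pnt M (invw iv acc) (invw_lt M iv hI acc S.hacc) _ hlt,
              elt_invw M iv hI acc S.hacc, inv_inv]
          have htb' : (M.elt u)⁻¹ • pnt M L.b = (M.elt acc * g⁻¹) • pnt M L.b := htb
          rw [← htb', h1] at h2
          have hlt : wapp M.px ws' (wapp M.px acc s) < M.n :=
            M.wapp_lt ws' hws' _ (M.wapp_lt acc S.hacc s (S.hfix s hs))
          have h3 := pnt_injOn M _ _ (M.wapp_lt u (S.hok.2.1 u hu) L.b hb)
            (M.wapp_lt _ (invw_lt M iv hI acc S.hacc) _ hlt) h2
          have h4 : wapp M.px u L.b ∈ L.I := by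
            rw [S.hok.2.2.2.1]
            exact List.mem_map_of_mem hu
          rw [h3, ← memNat_iff] at h4
          rw [h4] at h
          exact Bool.noConfusion h
  | bad q =>
    intro lv pend fixed acc h S
    exfalso
    unfold chk chkBad at h
    simp only [Bool.and_eq_true, memNat_iff, wappS_eq, Bool.not_eq_true'] at h
    obtain ⟨⟨hq, hsq⟩, hne0⟩ := h
    have hne := Nat.ne_of_beq_eq_false hne0
    have h1 := hg q (S.hfix q hq)
    rw [S.ginv_fixed _ hsq, S.ginv_fixed q hq,
      pnt_val M _ (M.wapp_lt acc S.hacc q (S.hfix q hq))] at h1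
    apply hne
    exact pnt_injOn M _ _ (M.wapp_lt acc S.hacc _ (S.hfix _ hsq))
      (M.wapp_lt ws' hws' _ (M.wapp_lt acc S.hacc q (S.hfix q hq))) h1
  | step u c ih =>
    intro lv pend fixed acc h S
    unfold chk at h
    cases lv with
    | nil => simp at h
    | cons L lv' =>
      cases pend with
      | some Us => simp at h
      | none =>
        simp only [Bool.and_eq_true] at h
        obtain ⟨h1, h2⟩ := h
        unfold chkStep at h1
        cases hsrc : L.src with
        | none => rw [hsrc] at h1; simp at h1
        | some s =>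
          rw [hsrc] at h1
          simp only [Bool.and_eq_true, List.all_eq_true, Nat.beq_eq, wappS_eq] at h1
          obtain ⟨⟨hu, hfixu⟩, himg⟩ := h1
          have hu' := lt_of_chkW M u hu
          obtain ⟨hs, hsb⟩ := S.hsrc.1 s hsrc
          have hb : L.b < M.n := S.hok.1
          have hru : (M.elt acc * g⁻¹) • pnt M L.b = pnt M (wapp M.px u L.b) := by
            rw [mul_smul, S.ginv_src hg s L.b hs hsb, ← himg]
            exact elt_smul_pnt M acc S.hacc _ _ (M.wapp_lt u hu' L.b hb) rfl
          exact ih _ _ _ _ h2 (S.descend u hu' hfixu hru)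
  | done z =>
    intro lv pend fixed acc h S
    unfold chk chkDone at h
    cases lv with
    | cons L lv' => simp at h
    | nil =>
      simp only [Bool.and_eq_true, List.all_eq_true, Nat.beq_eq, wappS_eq] at h
      obtain ⟨hz, himg⟩ := h
      have hz' := lt_of_chkW M z hz
      refine ⟨z, List.mem_singleton.mpr rfl, ?_⟩
      have h1 : M.elt acc * g⁻¹ = 1 := S.hcomp _ S.hr
      have h2 : g = M.elt acc := by
        have := mul_eq_one_iff_eq_inv.mp h1
        rw [inv_inv] at this
        exact this.symm
      have h3 : M.elt z * (M.elt acc)⁻¹ ∈ stabL M fixed := by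
        rw [mem_stabL]
        intro q hq
        rw [mul_smul, inv_elt_smul_pnt M acc S.hacc q (S.hfix q hq), himg q hq]
        exact elt_smul_pnt M z hz' q _ (S.hfix q hq) rfl
      have h4 : M.elt z * (M.elt acc)⁻¹ = 1 := S.hcomp _ h3
      rw [h2]
      have := mul_eq_one_iff_eq_inv.mp h4
      rw [inv_inv] at this
      exact this.symm
  | badAt q =>
    intro lv pend fixed acc h S
    exfalso
    unfold chk chkBadAt at h
    cases lv with
    | cons L lv' => simp at h
    | nil =>
      simp only [Bool.and_eq_true, Nat.blt_eq, wappS_eq, Bool.not_eq_true'] at h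
      obtain ⟨hq, hne0⟩ := h
      have hne := Nat.ne_of_beq_eq_false hne0
      have h1 : M.elt acc * g⁻¹ = 1 := S.hcomp _ S.hr
      have h2 : g⁻¹ = (M.elt acc)⁻¹ := by
        have := mul_eq_one_iff_eq_inv.mp h1
        rw [inv_inv] at this
        rw [this]
      have h3 := hg q hq
      have hwsq : wapp M.px ws q < M.n := M.wapp_lt ws hws q hq
      rw [h2, inv_elt_smul_pnt M acc S.hacc _ hwsq, inv_elt_smul_pnt M acc S.hacc q hq,
        pnt_val M _ (M.wapp_lt acc S.hacc q hq)] at h3
      apply hne
      exact pnt_injOn M _ _ (M.wapp_lt acc S.hacc _ hwsq)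
        (M.wapp_lt ws' hws' _ (M.wapp_lt acc S.hacc q hq)) h3
  | nil =>
    intro lv pend fixed acc h S
    exfalso
    unfold chk at h
    cases pend with
    | none => simp at h
    | some Us =>
      cases Us with
      | cons u U' => simp at h
      | nil =>
        obtain ⟨_, _, _, u, hu, _⟩ := S.hpend [] rfl
        exact absurd hu List.not_mem_nil
  | cons c cs ih1 ih2 =>
    intro lv pend fixed acc h S
    unfold chk at h
    cases lv with
    | nil => simp at h
    | cons L lv' =>
      cases pend with
      | none => simp at h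
      | some Us =>
        cases Us with
        | nil => simp at h
        | cons u U' =>
          simp only [Bool.and_eq_true] at h
          obtain ⟨h1, h2⟩ := h
          obtain ⟨L0, lv0, e, u0, hu0, hu0L, hru⟩ := S.hpend _ rfl
          have e1 : L = L0 := (List.cons.inj e).1
          subst e1
          rcases List.mem_cons.mp hu0 with rfl | hu0'
          · obtain ⟨z, hz, hgz⟩ := ih1 _ _ _ _ h1
              (S.descend u0 (S.hok.2.1 u0 hu0L) (fun q hq => S.hok.2.2.1 u0 hu0L q hq) hru)
            exact ⟨z, List.mem_append_left _ hz, hgz⟩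
          · have S' : St M ws g (L :: lv') (some U') fixed acc := {
              hfix := S.hfix
              hacc := S.hacc
              hok := S.hok
              hsrc := S.hsrc
              hcomp := S.hcomp
              hr := S.hr
              hpend := by
                intro Us hUs
                simp only [Option.some.injEq] at hUs
                subst hUs
                exact ⟨L, lv', rfl, u0, hu0', hu0L, hru⟩ }
            obtain ⟨z, hz, hgz⟩ := ih2 _ _ _ _ h2 S'
            exact ⟨z, List.mem_append_right _ hz, hgz⟩

end search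

end Cfsg.Agent.Lib.Helper2.PMC
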