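import Cfsg.Agent.Lib.Helper2.PMChain3

set_option autoImplicit false

/-! # Chains of a permutation model: searches, equality on the base, generation -/

namespace Cfsg.Agent.Lib.Helper2.PMC

open Cfsg.Agent.Lib.Helper6.TC Cfsg.Agent.Lib.Helper6.PM Cfsg.Agent.Lib.Helper2.PMS

variable {M : PModel}

/-- the result of a certified search: the elements conjugating the element of the word `ws` to
the element of the word `ws'` are the elements of the words found -/
theorem ChainFacts.search [Finite M.G] {lv : List Level} (F : ChainFacts M lv) (iv : ℕ → ℕ)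
    (hI : InvMap M iv) (ws ws' : List ℕ) (hws : chkW M ws = true) (hws' : chkW M ws' = true)
    (hsrc : chkSrc M ws [] lv = true) (c : Cert)
    (hc : chk M iv ws ws' c lv (pendOf lv) [] [] = true) (g : M.G)
    (hg : g⁻¹ * M.elt ws * g = M.elt ws') : ∃ z ∈ leaves c, g = M.elt z := by
  have hcompat := compat_of_conj M ws ws' (lt_of_chkW M ws hws) (lt_of_chkW M ws' hws') g hg
  have hr : M.elt [] * g⁻¹ ∈ stabL M [] := Subgroup.mem_top _
  have S : St M ws g lv (pendOf lv) [] [] := {
    hfix := fun q hq => absurd hq List.not_mem_nil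
    hacc := fun q hq => absurd hq List.not_mem_nil
    hok := F.ok
    hsrc := srcOK_of_chk M ws lv [] hsrc
    hcomp := F.complete
    hr := hr
    hpend := pend_of_complete g lv [] [] F.ok F.complete hr }
  exact chk_sound hI (lt_of_chkW M ws hws) (lt_of_chkW M ws' hws') g hcompat c lv (pendOf lv) [] [] hc S

/-- an element fixing the earlier points and the base points of the levels is trivial -/
theorem eq_one_of_fixes (lv : List Level) : ∀ (fixed : List ℕ),
    Complete (stabL M fixed) (lv.map (absL M)) → ∀ g ∈ stabL M fixed,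
    (∀ L ∈ lv, g • pnt M L.b = pnt M L.b) → g = 1 := by
  induction lv with
  | nil =>
    intro fixed hc g hg _
    exact hc g hg
  | cons L rest ih =>
    intro fixed hc g hg hfix
    apply ih (L.b :: fixed) hc.2 g
    · exact Subgroup.mem_inf.mpr ⟨hg, MulAction.mem_stabilizer_iff.mpr (hfix L List.mem_cons_self)⟩
    · intro L' hL'
      exact hfix L' (List.mem_cons_of_mem _ hL')

/-- two words acting in the same way on the base points -/
noncomputable def chkBaseL (M : PModel) (lv : List Level) (w w' : List ℕ) : Bool :=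
  chkW M w && chkW M w' && lv.all fun L => Nat.beq (wappS M.px w L.b) (wappS M.px w' L.b)

theorem ChainFacts.elt_eq_of_chk [Finite M.G] {lv : List Level} (F : ChainFacts M lv)
    (w w' : List ℕ) (h : chkBaseL M lv w w' = true) : M.elt w = M.elt w' := by
  unfold chkBaseL at h
  simp only [Bool.and_eq_true, List.all_eq_true, Nat.beq_eq, wappS_eq] at h
  obtain ⟨⟨hw, hw'⟩, himg⟩ := h
  have hw1 := lt_of_chkW M w hw
  have hw1' := lt_of_chkW M w' hw'
  have hbase : ∀ L ∈ lv, L.b < M.n := by
    have : ∀ (lv : List Level) (fixed : List ℕ), LevelsOK M fixed lv → ∀ L ∈ lv, L.b < M.n := by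
      intro lv
      induction lv with
      | nil => intro _ _ L hL; exact absurd hL List.not_mem_nil
      | cons L0 rest ih =>
        intro fixed hok L hL
        rcases List.mem_cons.mp hL with rfl | hL
        · exact hok.1
        · exact ih _ hok.2.2.2.2.2 L hL
    exact this lv [] F.ok
  have h1 : M.elt w' * (M.elt w)⁻¹ = 1 := by
    apply eq_one_of_fixes lv [] F.complete _ (Subgroup.mem_top _)
    intro L hL
    rw [mul_smul, inv_elt_smul_pnt M w hw1 L.b (hbase L hL), himg L hL]
    exact elt_smul_pnt M w' hw1' L.b _ (hbase L hL) rfl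
  have := mul_eq_one_iff_eq_inv.mp h1
  rw [inv_inv] at this
  exact this.symm

/-- the letters are words in some generators, checked on the base points -/
noncomputable def chkGenL (M : PModel) (lv : List Level) (ws Wl : List (List ℕ)) : Bool :=
  (List.range M.nl).all fun c => chkBaseL M lv [c] (expand ws (Wl.getD c []))

theorem ChainFacts.subH_eq_top [Finite M.G] {lv : List Level} (F : ChainFacts M lv)
    (ws Wl : List (List ℕ)) (h : chkGenL M lv ws Wl = true) :
    Cfsg.Agent.Lib.Helper6.PM.subH M ws = ⊤ := by
  rw [eq_top_iff, ← M.closure_letters, Subgroup.closure_le]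
  rintro g ⟨c, hc, rfl⟩
  unfold chkGenL at h
  rw [List.all_eq_true] at h
  rw [F.elt_eq_of_chk _ _ (h c (List.mem_range.mpr hc))]
  exact elt_expand_mem M ws (Wl.getD c [])

/-- two words acting differently on a point -/
noncomputable def chkNeAt (M : PModel) (w w' : List ℕ) (q : ℕ) : Bool :=
  chkW M w && chkW M w' && Nat.blt q M.n && !(Nat.beq (wappS M.px w q) (wappS M.px w' q))

theorem elt_ne_of_chkNeAt (w w' : List ℕ) (q : ℕ) (h : chkNeAt M w w' q = true) :
    M.elt w ≠ M.elt w' := by
  unfold chkNeAt at h
  simp only [Bool.and_eq_true, Nat.blt_eq, Bool.not_eq_true', wappS_eq] at h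
  obtain ⟨⟨⟨hw, hw'⟩, hq⟩, hne⟩ := h
  exact elt_ne_of_wapp M w w' (lt_of_chkW M w hw) (lt_of_chkW M w' hw') q hq
    (Nat.ne_of_beq_eq_false hne)

end Cfsg.Agent.Lib.Helper2.PMC
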