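import Cfsg.Agent.Lib.Helper2.PMChain4

set_option autoImplicit false

/-! # Helpers to write certificates of searches and to read their results -/

namespace Cfsg.Agent.Lib.Helper2.PMC

open Cfsg.Agent.Lib.Helper6.TC Cfsg.Agent.Lib.Helper6.PM Cfsg.Agent.Lib.Helper2.PMS

/-- the certificate of a free level from the list of the certificates of the words -/
def Cert.ofList : List Cert → Cert
  | [] => .nil
  | c :: l => .cons c (Cert.ofList l)

/-- the certificate of a free level from a run-length encoded list -/
def Cert.rl (l : List (ℕ × Cert)) : Cert := Cert.ofList (l.flatMap fun x => List.replicate x.1 x.2)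

/-- all the words found are in a list -/
def leavesIn (c : Cert) (Z : List (List ℕ)) : Bool := (leaves c).all fun z => Z.contains z

theorem mem_of_leavesIn {c : Cert} {Z : List (List ℕ)} (h : leavesIn c Z = true) :
    ∀ z ∈ leaves c, z ∈ Z := by
  intro z hz
  unfold leavesIn at h
  rw [List.all_eq_true] at h
  exact List.contains_iff_mem.mp (h z hz)

/-- the letters of a model are involutions on the points -/
noncomputable def chkInvLetters (M : PModel) : Bool :=
  allB (fun c => allB (fun q => Nat.beq (M.px c (M.px c q)) q) M.n) M.nl

theorem invMap_id_of_chk (M : PModel) (h : chkInvLetters M = true) : InvMap M id := by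
  intro c hc
  refine ⟨hc, ?_⟩
  intro q hq
  have h1 := allB_spec (allB_spec h c hc) q hq
  rw [Nat.beq_eq] at h1
  exact h1

end Cfsg.Agent.Lib.Helper2.PMC
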