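import Cfsg.Agent.Lib.Helper2.PMChain6

set_option autoImplicit false

/-! # Chains of the stabilizer of some points of a permutation model (relative chains) -/

namespace Cfsg.Agent.Lib.Helper2.PMC

open Cfsg.Agent.Lib.Helper6.TC Cfsg.Agent.Lib.Helper6.PM Cfsg.Agent.Lib.Helper2.PMS

/-- the facts on a chain of the pointwise stabilizer of the points `fixed` -/
structure RelChainFacts (M : PModel) (fixed : List ℕ) (lv : List Level) : Prop where
  hfix : ∀ q ∈ fixed, q < M.n
  hchk : chkLevels M fixed lv = true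
  hcard : Nat.card (stabL M fixed) = (lv.map fun L => L.U.length).prod

variable {M : PModel}

theorem RelChainFacts.ok {fixed : List ℕ} {lv : List Level} (F : RelChainFacts M fixed lv) :
    LevelsOK M fixed lv :=
  levelsOK_of_chk M lv fixed F.hchk

theorem RelChainFacts.complete [Finite M.G] {fixed : List ℕ} {lv : List Level}
    (F : RelChainFacts M fixed lv) : Complete (stabL M fixed) (lv.map (absL M)) := by
  apply complete_of_valid _ _ (valid_of_levelsOK M lv fixed F.hfix F.ok)
  rw [prodLen_map, ← F.hcard]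

/-- the order of the stabilizer of a point of a transitive model -/
theorem card_stabL_singleton [Finite M.G] (htr : MulAction.IsPretransitive M.G (Fin M.n)) (x : ℕ) :
    Nat.card (stabL M [x]) * M.n = Nat.card M.G := by
  have h1 : stabL M [x] = MulAction.stabilizer M.G (pnt M x) := by
    show (⊤ : Subgroup M.G) ⊓ MulAction.stabilizer M.G (pnt M x) = _
    rw [top_inf_eq]
  rw [h1]
  have h2 := MulAction.index_stabilizer_of_transitive M.G (pnt M x)
  have h3 := Subgroup.card_mul_index (MulAction.stabilizer M.G (pnt M x))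
  rw [h2, Nat.card_fin] at h3
  exact h3

/-- two words acting in the same way on the fixed points and the base points -/
noncomputable def chkBaseR (M : PModel) (fixed : List ℕ) (lv : List Level) (w w' : List ℕ) : Bool :=
  chkW M w && chkW M w' && (fixed.all fun q => Nat.beq (wappS M.px w q) (wappS M.px w' q)) &&
    lv.all fun L => Nat.beq (wappS M.px w L.b) (wappS M.px w' L.b)

theorem base_lt_of_levelsOK (lv : List Level) : ∀ (fixed : List ℕ), LevelsOK M fixed lv →
    ∀ L ∈ lv, L.b < M.n := by
  induction lv with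
  | nil => intro _ _ L hL; exact absurd hL List.not_mem_nil
  | cons L0 rest ih =>
    intro fixed hok L hL
    rcases List.mem_cons.mp hL with rfl | hL
    · exact hok.1
    · exact ih _ hok.2.2.2.2.2 L hL

theorem RelChainFacts.elt_eq_of_chk [Finite M.G] {fixed : List ℕ} {lv : List Level}
    (F : RelChainFacts M fixed lv) (w w' : List ℕ) (h : chkBaseR M fixed lv w w' = true) :
    M.elt w = M.elt w' := by
  unfold chkBaseR at h
  simp only [Bool.and_eq_true, List.all_eq_true, Nat.beq_eq, wappS_eq] at h
  obtain ⟨⟨⟨hw, hw'⟩, hfx⟩, himg⟩ := h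
  have hw1 := lt_of_chkW M w hw
  have hw1' := lt_of_chkW M w' hw'
  have hbase := base_lt_of_levelsOK lv fixed F.ok
  have h0 : M.elt w' * (M.elt w)⁻¹ ∈ stabL M fixed := by
    rw [mem_stabL]
    intro q hq
    rw [mul_smul, inv_elt_smul_pnt M w hw1 q (F.hfix q hq), hfx q hq]
    exact elt_smul_pnt M w' hw1' q _ (F.hfix q hq) rfl
  have h1 : M.elt w' * (M.elt w)⁻¹ = 1 := by
    apply eq_one_of_fixes lv fixed F.complete _ h0
    intro L hL
    rw [mul_smul, inv_elt_smul_pnt M w hw1 L.b (hbase L hL), himg L hL]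
    exact elt_smul_pnt M w' hw1' L.b _ (hbase L hL) rfl
  have := mul_eq_one_iff_eq_inv.mp h1
  rw [inv_inv] at this
  exact this.symm

/-- the letters are words in some generators, checked on the fixed points and the base points -/
noncomputable def chkGenR (M : PModel) (fixed : List ℕ) (lv : List Level) (ws Wl : List (List ℕ)) :
    Bool :=
  (List.range M.nl).all fun c => chkBaseR M fixed lv [c] (expand ws (Wl.getD c []))

theorem RelChainFacts.subH_eq_top [Finite M.G] {fixed : List ℕ} {lv : List Level}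
    (F : RelChainFacts M fixed lv) (ws Wl : List (List ℕ)) (h : chkGenR M fixed lv ws Wl = true) :
    Cfsg.Agent.Lib.Helper6.PM.subH M ws = ⊤ := by
  rw [eq_top_iff, ← M.closure_letters, Subgroup.closure_le]
  rintro g ⟨c, hc, rfl⟩
  unfold chkGenR at h
  rw [List.all_eq_true] at h
  rw [F.elt_eq_of_chk _ _ (h c (List.mem_range.mpr hc))]
  exact elt_expand_mem M ws (Wl.getD c [])

/-- the relators hold for the generators -/
noncomputable def chkRelsR (M : PModel) (fixed : List ℕ) (lv : List Level) (ws Rs : List (List ℕ)) :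
    Bool :=
  Rs.all fun R => (R.all fun c => Nat.blt c ws.length) && chkBaseR M fixed lv (expand ws R) []

theorem RelChainFacts.good_of_elimTab [Finite M.G] {fixed : List ℕ} {lv : List Level}
    (F : RelChainFacts M fixed lv)
    (f : M.G →* M.G) (ws : List (List ℕ)) (imgs : List ℕ → List (List ℕ)) (Rs : List (List ℕ))
    (hRs : chkRelsR M fixed lv ws Rs = true) (good : List ℕ) (tab : List (List ℕ × ℕ × ℕ × ℕ))
    (h : chkElimTab M imgs Rs good tab = true) (z : List ℕ) (hz : z ∈ tab.map (·.1))
    (hf : ∀ i < ws.length, f (M.elt (ws.getD i [])) = M.elt ((imgs z).getD i [])) : z = good := by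
  rw [List.mem_map] at hz
  obtain ⟨e, he, rfl⟩ := hz
  unfold chkElimTab at h
  rw [List.all_eq_true] at h
  have h1 := h e he
  rw [Bool.or_eq_true, Bool.and_eq_true, Bool.and_eq_true] at h1
  rcases h1 with ⟨_, h2⟩ | ⟨_, h2⟩
  · exact eq_of_beq h2
  · exfalso
    have h3 := elt_ne_of_chkNeAt (M := M) _ _ _ h2
    rw [M.elt_nil] at h3
    apply h3
    by_cases hi : e.2.2.1 < Rs.length
    · have hR : Rs.getD e.2.2.1 [] ∈ Rs := by
        rw [List.getD_eq_getElem _ _ hi]
        exact List.getElem_mem _
      unfold chkRelsR at hRs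
      rw [List.all_eq_true] at hRs
      have h4 := hRs _ hR
      rw [Bool.and_eq_true, List.all_eq_true] at h4
      have hlt : ∀ c ∈ Rs.getD e.2.2.1 [], c < ws.length := by
        intro c hc
        have := h4.1 c hc
        rwa [Nat.blt_eq] at this
      have h5 := map_elt_expand (M := M) f ws (imgs e.1) hf (Rs.getD e.2.2.1 []) hlt
      rw [F.elt_eq_of_chk _ _ h4.2, M.elt_nil, map_one] at h5
      exact h5.symm
    · rw [List.getD_eq_default _ _ (by omega), expand_nil, M.elt_nil]

/-- the fixed points of a word are in a list -/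
noncomputable def chkFixPts (M : PModel) (w : List ℕ) (Fl : List ℕ) : Bool :=
  chkW M w && allB (fun q => bor (Bool.rec true false (Nat.beq (wappS M.px w q) q)) (memNat q Fl)) M.n

theorem fixPts_of_chk (w : List ℕ) (Fl : List ℕ) (h : chkFixPts M w Fl = true) :
    ∀ y < M.n, wapp M.px w y = y → y ∈ Fl := by
  intro y hy hfix
  unfold chkFixPts at h
  rw [Bool.and_eq_true] at h
  have h1 := allB_spec h.2 y hy
  rw [bor_eq_true, wappS_eq, hfix] at h1
  rcases h1 with h1 | h1
  · have : Nat.beq y y = true := Nat.beq_eq ▸ rfl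
    rw [this] at h1
    exact Bool.noConfusion h1
  · exact (memNat_iff y Fl).mp h1

/-- a certified search along a chain of the stabilizer of a point fixed by the first word: the
top level branches over the fixed points of the second word -/
theorem RelChainFacts.search_fix [Finite M.G] {x : ℕ} {lv : List Level}
    (F : RelChainFacts M [x] lv) (iv : ℕ → ℕ) (hI : InvMap M iv) (ws ws' : List ℕ)
    (hws : chkW M ws = true) (hws' : chkW M ws' = true)
    (hsrc : chkSrc M ws [x] lv = true) (hx : wapp M.px ws x = x)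
    (Fl : List (ℕ × List ℕ × Cert))
    (hF : ∀ y < M.n, wapp M.px ws' y = y → y ∈ Fl.map (·.1))
    (hc : Fl.all (fun e => chkW M e.2.1 && Nat.beq (wappS M.px e.2.1 x) e.1 &&
      chk M iv ws ws' e.2.2 lv (pendOf lv) [x] e.2.1) = true)
    (g : M.G) (hg : g⁻¹ * M.elt ws * g = M.elt ws') :
    ∃ e ∈ Fl, ∃ z ∈ leaves e.2.2, g = M.elt z := by
  have hxn : x < M.n := F.hfix x List.mem_cons_self
  have hcompat := compat_of_conj M ws ws' (lt_of_chkW M ws hws) (lt_of_chkW M ws' hws') g hg
  have h1 := hcompat x hxn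
  rw [hx] at h1
  set y := (g⁻¹ • pnt M x).val with hy
  have hyn : y < M.n := (g⁻¹ • pnt M x).isLt
  have h2 : g⁻¹ • pnt M x = pnt M y := (pnt_eq M _).symm
  rw [h2] at h1
  have h3 : wapp M.px ws' y = y :=
    (pnt_injOn M _ _ hyn (M.wapp_lt ws' (lt_of_chkW M ws' hws') y hyn) h1).symm
  have h4 := hF y hyn h3
  rw [List.mem_map] at h4
  obtain ⟨e, he, hey⟩ := h4
  rw [List.all_eq_true] at hc
  have h5 := hc e he
  simp only [Bool.and_eq_true, Nat.beq_eq, wappS_eq] at h5
  obtain ⟨⟨hu, hux⟩, hchk⟩ := h5
  have hu' := lt_of_chkW M e.2.1 hu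
  have hr : M.elt e.2.1 * g⁻¹ ∈ stabL M [x] := by
    rw [mem_stabL]
    intro q hq
    rw [List.mem_singleton] at hq
    subst hq
    rw [mul_smul, h2, ← hey, ← hux]
    exact elt_smul_pnt M e.2.1 hu' _ _ hxn rfl
  have S : St M ws g lv (pendOf lv) [x] e.2.1 := {
    hfix := F.hfix
    hacc := hu'
    hok := F.ok
    hsrc := srcOK_of_chk M ws lv [x] hsrc
    hcomp := F.complete
    hr := hr
    hpend := pend_of_complete g lv [x] e.2.1 F.ok F.complete hr }
  obtain ⟨z, hz, hgz⟩ := chk_sound hI (lt_of_chkW M ws hws) (lt_of_chkW M ws' hws') g hcompat e.2.2 lv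
    (pendOf lv) [x] e.2.1 hchk S
  exact ⟨e, he, z, hz, hgz⟩

end Cfsg.Agent.Lib.Helper2.PMC
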