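import Cfsg.Agent.Lib.Helper2.PMChain7

set_option autoImplicit false

/-! # Fixed points of words of a permutation model: scans by ranges, and powers -/

namespace Cfsg.Agent.Lib.Helper2.PMC

open Cfsg.Agent.Lib.Helper6.TC Cfsg.Agent.Lib.Helper6.PM Cfsg.Agent.Lib.Helper2.PMS

variable {M : PModel}

/-- the fixed points of a word in a range of points are in a list -/
noncomputable def chkFixRange (M : PModel) (w : List ℕ) (Fl : List ℕ) (lo len : ℕ) : Bool :=
  chkW M w &&
    allR (fun q => bor (Bool.rec true false (Nat.beq (wappS M.px w q) q)) (memNat q Fl)) lo len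

theorem fixPts_of_range (w : List ℕ) (Fl : List ℕ) (lo len : ℕ)
    (h : chkFixRange M w Fl lo len = true) :
    ∀ y, lo ≤ y → y < lo + len → wapp M.px w y = y → y ∈ Fl := by
  intro y hy1 hy2 hfix
  unfold chkFixRange at h
  rw [Bool.and_eq_true] at h
  have h1 := allR_spec h.2 y hy1 hy2
  rw [bor_eq_true, wappS_eq, hfix] at h1
  rcases h1 with h1 | h1
  · have : Nat.beq y y = true := Nat.beq_eq ▸ rfl
    rw [this] at h1
    exact Bool.noConfusion h1
  · exact (memNat_iff y Fl).mp h1

/-- a point fixed by an element is fixed by its powers -/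
theorem wapp_fix_of_pow (w w' : List ℕ) (hw : ∀ c ∈ w, c < M.nl) (hw' : ∀ c ∈ w', c < M.nl)
    (k : ℕ) (h : M.elt w = M.elt w' ^ k) (y : ℕ) (hy : y < M.n) (hfix : wapp M.px w' y = y) :
    wapp M.px w y = y := by
  have h1 := inv_elt_smul_pnt M w' hw' y hy
  rw [hfix] at h1
  have h2 : M.elt w' ∈ MulAction.stabilizer M.G (pnt M y) := by
    have := Subgroup.inv_mem _ (MulAction.mem_stabilizer_iff.mpr h1)
    rwa [inv_inv] at this
  have h3 : M.elt w ∈ MulAction.stabilizer M.G (pnt M y) := by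
    rw [h]
    exact Subgroup.pow_mem _ h2 k
  have h4 := MulAction.mem_stabilizer_iff.mp (Subgroup.inv_mem _ h3)
  rw [inv_elt_smul_pnt M w hw y hy] at h4
  exact pnt_injOn M _ _ (M.wapp_lt w hw y hy) hy h4

/-- the map of the letters to their inverses, from the group -/
theorem invMap_of_elt (iv : ℕ → ℕ) (h : ∀ c < M.nl, iv c < M.nl ∧ M.elt [iv c] = (M.elt [c])⁻¹) :
    InvMap M iv := by
  intro c hc
  refine ⟨(h c hc).1, ?_⟩
  intro q hq
  have hc1 : ∀ c' ∈ [c], c' < M.nl := by
    intro c' hc'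
    rw [List.mem_singleton] at hc'
    rw [hc']
    exact hc
  have hc2 : ∀ c' ∈ [iv c], c' < M.nl := by
    intro c' hc'
    rw [List.mem_singleton] at hc'
    rw [hc']
    exact (h c hc).1
  have hq' : M.px c q < M.n := M.px_lt c hc q hq
  have h1 := inv_elt_smul_pnt M [c] hc1 q hq
  have h2 := inv_elt_smul_pnt M [iv c] hc2 (M.px c q) hq'
  rw [(h c hc).2, inv_inv] at h2
  have e1 : wapp M.px [c] q = M.px c q := rfl
  have e2 : wapp M.px [iv c] (M.px c q) = M.px (iv c) (M.px c q) := rfl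
  rw [e1] at h1
  rw [e2, ← h1, smul_inv_smul] at h2
  exact (pnt_injOn M _ _ hq (M.px_lt _ (h c hc).1 _ hq') h2).symm

end Cfsg.Agent.Lib.Helper2.PMC
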