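import Cfsg.Agent.Lib.Helper6.Mult.PM1

set_option autoImplicit false

/-! # Permutation models: words, inverses, and the enumeration of a two-point stabilizer -/

namespace Cfsg.Agent.Lib.Helper2.PMS

open Cfsg.Agent.Lib.Helper6.TC Cfsg.Agent.Lib.Helper6.PM

/-- a general bound: a nodup list of pairs in the orbit of a pair bounds the stabilizer -/
theorem card_stab_pair_le {G α : Type*} [Group G] [Finite G] [MulAction G α] (x y : α)
    (O : List (α × α)) (hO : O.Nodup)
    (hmem : ∀ o ∈ O, ∃ g : G, g • x = o.1 ∧ g • y = o.2) :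
    O.length * Nat.card (MulAction.stabilizer G ((x, y) : α × α)) ≤ Nat.card G := by
  classical
  have h1 := Subgroup.card_mul_index (MulAction.stabilizer G ((x, y) : α × α))
  rw [MulAction.index_stabilizer] at h1
  have h2 : O.length ≤ (MulAction.orbit G ((x, y) : α × α)).ncard := by
    have hfin : (MulAction.orbit G ((x, y) : α × α)).Finite := Set.finite_range _
    have hsub : (↑O.toFinset : Set (α × α)) ⊆ MulAction.orbit G ((x, y) : α × α) := by
      intro o ho
      rw [Finset.mem_coe, List.mem_toFinset] at ho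
      obtain ⟨g, hg1, hg2⟩ := hmem o ho
      exact ⟨g, by show g • ((x, y) : α × α) = o; rw [Prod.smul_mk, hg1, hg2]⟩
    have := Set.ncard_le_ncard hsub hfin
    rwa [Set.ncard_coe_finset, List.toFinset_card_of_nodup hO] at this
  calc O.length * Nat.card (MulAction.stabilizer G ((x, y) : α × α))
      ≤ (MulAction.orbit G ((x, y) : α × α)).ncard *
        Nat.card (MulAction.stabilizer G ((x, y) : α × α)) := Nat.mul_le_mul_right _ h2
    _ = Nat.card G := by rw [← h1, mul_comm]

/-- a finite subgroup of order at most the length of a nodup list of its elements is that list -/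
theorem mem_of_card_le {G : Type*} [Group G] [Finite G] (K : Subgroup G) (T : List G) (hT : T.Nodup)
    (hmem : ∀ t ∈ T, t ∈ K) (hcard : Nat.card K ≤ T.length) (g : G) (hg : g ∈ K) : g ∈ T := by
  classical
  have hfin : (K : Set G).Finite := Set.toFinite _
  have hsub : (↑T.toFinset : Set G) ⊆ (K : Set G) := by
    intro t ht
    rw [Finset.mem_coe, List.mem_toFinset] at ht
    exact hmem t ht
  have hc : (K : Set G).ncard ≤ (↑T.toFinset : Set G).ncard := by
    rw [Set.ncard_coe_finset, List.toFinset_card_of_nodup hT]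
    have : (K : Set G).ncard = Nat.card K := (Nat.card_coe_set_eq (K : Set G)).symm
    rw [this]
    exact hcard
  have := Set.eq_of_subset_of_ncard_le hsub hc hfin
  have hg' : g ∈ (↑T.toFinset : Set G) := by rw [this]; exact hg
  rwa [Finset.mem_coe, List.mem_toFinset] at hg'

variable (M : PModel)

/-- a repeated word -/
def rep (k : ℕ) (w : List ℕ) : List ℕ := (List.replicate k w).flatten

theorem rep_zero (w : List ℕ) : rep 0 w = [] := rfl

theorem rep_succ (k : ℕ) (w : List ℕ) : rep (k + 1) w = w ++ rep k w := by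
  unfold rep
  rw [List.replicate_succ, List.flatten_cons]

theorem rep_lt (nl k : ℕ) (w : List ℕ) (hw : ∀ c ∈ w, c < nl) : ∀ c ∈ rep k w, c < nl := by
  induction k with
  | zero => intro c hc; simp [rep_zero] at hc
  | succ k ih =>
    intro c hc
    rw [rep_succ, List.mem_append] at hc
    rcases hc with hc | hc
    · exact hw c hc
    · exact ih c hc

theorem elt_rep (k : ℕ) (w : List ℕ) : M.elt (rep k w) = M.elt w ^ k := by
  induction k with
  | zero => rw [rep_zero, M.elt_nil, pow_zero]
  | succ k ih => rw [rep_succ, M.elt_append, ih, pow_succ']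

/-- the letters act as involutions -/
def InvLetters : Prop := ∀ c < M.nl, ∀ q < M.n, M.px c (M.px c q) = q

theorem elt_letter_sq (hI : InvLetters M) (c : ℕ) (hc : c < M.nl) : M.elt [c] * M.elt [c] = 1 := by
  rw [← M.elt_append, ← M.elt_nil]
  apply M.elt_eq_of_wapp
  · intro c' hc'
    simp only [List.cons_append, List.nil_append, List.mem_cons, List.not_mem_nil, or_false,
      or_self] at hc'
    rw [hc']; exact hc
  · intro c' hc'; simp at hc'
  · intro q hq
    show M.px c (M.px c q) = q
    exact hI c hc q hq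

theorem elt_reverse (hI : InvLetters M) (w : List ℕ) (hw : ∀ c ∈ w, c < M.nl) :
    M.elt w.reverse = (M.elt w)⁻¹ := by
  induction w with
  | nil => simp [M.elt_nil]
  | cons c w ih =>
    have hc : c < M.nl := hw c List.mem_cons_self
    have hw' : ∀ c ∈ w, c < M.nl := fun c' hc' => hw c' (List.mem_cons_of_mem _ hc')
    rw [List.reverse_cons, M.elt_append, ih hw', M.elt_cons c w, mul_inv_rev]
    congr 1
    exact eq_inv_of_mul_eq_one_left (elt_letter_sq M hI c hc)

theorem reverse_lt (w : List ℕ) (hw : ∀ c ∈ w, c < M.nl) : ∀ c ∈ w.reverse, c < M.nl := by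
  intro c hc
  exact hw c (List.mem_reverse.mp hc)

theorem append_lt (u w : List ℕ) (hu : ∀ c ∈ u, c < M.nl) (hw : ∀ c ∈ w, c < M.nl) :
    ∀ c ∈ u ++ w, c < M.nl := by
  intro c hc
  rcases List.mem_append.mp hc with h | h
  · exact hu c h
  · exact hw c h

theorem elt_ne_of_wapp (w w' : List ℕ) (hw : ∀ c ∈ w, c < M.nl) (hw' : ∀ c ∈ w', c < M.nl)
    (q : ℕ) (hq : q < M.n) (h : wapp M.px w q ≠ wapp M.px w' q) : M.elt w ≠ M.elt w' := by
  intro he
  apply h
  have h1 := M.inv_elt_smul_val w hw ⟨q, hq⟩
  have h2 := M.inv_elt_smul_val w' hw' ⟨q, hq⟩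
  rw [he] at h1
  exact h1.symm.trans h2

/-- the point with a given number -/
def pnt (q : ℕ) : Fin M.n := Fin.ofNat M.n q

theorem pnt_val (q : ℕ) (hq : q < M.n) : (pnt M q).val = q := by
  unfold pnt
  rw [Fin.val_ofNat, Nat.mod_eq_of_lt hq]

theorem pnt_eq (p : Fin M.n) : pnt M p.val = p := Fin.ext (pnt_val M p.val p.isLt)

theorem inv_elt_smul_pnt (w : List ℕ) (hw : ∀ c ∈ w, c < M.nl) (q : ℕ) (hq : q < M.n) :
    (M.elt w)⁻¹ • pnt M q = pnt M (wapp M.px w q) := by
  apply Fin.ext
  rw [M.inv_elt_smul_val w hw, pnt_val M q hq, pnt_val M _ (M.wapp_lt w hw q hq)]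

theorem elt_smul_pnt (w : List ℕ) (hw : ∀ c ∈ w, c < M.nl) (q q' : ℕ) (hq : q < M.n)
    (h : wapp M.px w q = q') : M.elt w • pnt M q' = pnt M q := by
  rw [← h, ← inv_elt_smul_pnt M w hw q hq, smul_inv_smul]

end Cfsg.Agent.Lib.Helper2.PMS
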