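import Cfsg.Agent.Lib.Helper2.PMStab1

set_option autoImplicit false

/-! # Permutation models: the enumeration of a two-point stabilizer from a certificate -/

namespace Cfsg.Agent.Lib.Helper2.PMS

open Cfsg.Agent.Lib.Helper6.TC Cfsg.Agent.Lib.Helper6.PM

/-- the data of an enumeration of the stabilizer of two points -/
structure Stab2Data where
  /-- the first point -/
  x : ℕ
  /-- the second point -/
  y : ℕ
  /-- words moving the first point to distinct points -/
  W1 : List (List ℕ)
  /-- words fixing the first point and moving the second point to distinct points -/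
  W2 : List (List ℕ)
  /-- words fixing both points -/
  L : List (List ℕ)
  /-- points separating the elements of `L` -/
  bs : List ℕ

variable (M : PModel) (D : Stab2Data)

/-- all letters of all words are letters of the model -/
def chkLetters (ws : List (List ℕ)) : Bool := ws.all fun w => w.all fun c => decide (c < M.nl)

theorem letters_of_chk (ws : List (List ℕ)) (h : chkLetters M ws = true) :
    ∀ w ∈ ws, ∀ c ∈ w, c < M.nl := by
  intro w hw c hc
  unfold chkLetters at h
  simp only [List.all_eq_true, decide_eq_true_eq] at h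
  exact h w hw c hc

/-- the words fix the point -/
noncomputable def chkFixes (ws : List (List ℕ)) (q : ℕ) : Bool := ws.all fun w => wappS M.px w q == q

theorem fixes_of_chk (ws : List (List ℕ)) (q : ℕ) (h : chkFixes M ws q = true) :
    ∀ w ∈ ws, wapp M.px w q = q := by
  intro w hw
  unfold chkFixes at h
  simp only [List.all_eq_true, beq_iff_eq] at h
  rw [← wappS_eq]
  exact h w hw

/-- the images of a point under the words -/
noncomputable def imgs (ws : List (List ℕ)) (q : ℕ) : List ℕ := ws.map fun w => wappS M.px w q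

theorem imgs_eq (ws : List (List ℕ)) (q : ℕ) : imgs M ws q = ws.map fun w => wapp M.px w q := by
  unfold imgs
  apply List.map_congr_left
  intro w _
  exact wappS_eq _ _ _

/-- the keys of the words -/
noncomputable def keys (ws : List (List ℕ)) (bs : List ℕ) : List (List ℕ) :=
  ws.map fun w => bs.map fun b => wappS M.px w b

theorem keys_eq (ws : List (List ℕ)) (bs : List ℕ) :
    keys M ws bs = ws.map fun w => bs.map fun b => wapp M.px w b := by
  unfold keys
  apply List.map_congr_left
  intro w _
  apply List.map_congr_left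
  intro b _
  exact wappS_eq _ _ _

/-- the hypotheses on an enumeration of the stabilizer of two points -/
structure Stab2Facts : Prop where
  hx : D.x < M.n
  hy : D.y < M.n
  hbs : ∀ b ∈ D.bs, b < M.n
  hW1 : chkLetters M D.W1 = true
  hW2 : chkLetters M D.W2 = true
  hL : chkLetters M D.L = true
  h1 : (imgs M D.W1 D.x).Nodup
  h2x : chkFixes M D.W2 D.x = true
  h2 : (imgs M D.W2 D.y).Nodup
  h3x : chkFixes M D.L D.x = true
  h3y : chkFixes M D.L D.y = true
  h3 : (keys M D.L D.bs).Nodup
  hcard : Nat.card M.G = D.W1.length * D.W2.length * D.L.length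

theorem length_flatMap_map {α β γ : Type*} (l : List α) (l2 : List β) (g : α → β → γ) :
    (l.flatMap fun a => l2.map (g a)).length = l.length * l2.length := by
  induction l with
  | nil => simp
  | cons a l ih =>
    rw [List.flatMap_cons, List.length_append, ih, List.length_map, List.length_cons]
    ring

theorem pnt_injOn (q q' : ℕ) (hq : q < M.n) (hq' : q' < M.n) (h : pnt M q = pnt M q') : q = q' := by
  have := congrArg Fin.val h
  rwa [pnt_val M q hq, pnt_val M q' hq'] at this

theorem wapp_injOn (w : List ℕ) (hw : ∀ c ∈ w, c < M.nl) (q q' : ℕ) (hq : q < M.n) (hq' : q' < M.n)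
    (h : wapp M.px w q = wapp M.px w q') : q = q' := by
  have h1 := inv_elt_smul_pnt M w hw q hq
  have h2 := inv_elt_smul_pnt M w hw q' hq'
  rw [h, ← h2] at h1
  exact pnt_injOn M q q' hq hq' (smul_left_cancel _ h1)

variable {M D}

/-- the enumeration of the stabilizer of two points -/
theorem Stab2Facts.mem_L (F : Stab2Facts M D) (g : M.G) (hgx : g • pnt M D.x = pnt M D.x)
    (hgy : g • pnt M D.y = pnt M D.y) : ∃ w ∈ D.L, g = M.elt w := by
  classical
  have hW1 := letters_of_chk M D.W1 F.hW1
  have hW2 := letters_of_chk M D.W2 F.hW2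
  have hL := letters_of_chk M D.L F.hL
  have h1 := F.h1
  rw [imgs_eq] at h1
  have h2 := F.h2
  rw [imgs_eq] at h2
  have h3 := F.h3
  rw [keys_eq] at h3
  have h2x := fixes_of_chk M D.W2 D.x F.h2x
  have h3x := fixes_of_chk M D.L D.x F.h3x
  have h3y := fixes_of_chk M D.L D.y F.h3y
  -- the orbit of the pair
  let O : List (Fin M.n × Fin M.n) := D.W1.flatMap fun w1 => D.W2.map fun w2 =>
    (pnt M (wapp M.px w1 D.x), pnt M (wapp M.px w1 (wapp M.px w2 D.y)))
  have hOlen : O.length = D.W1.length * D.W2.length := length_flatMap_map _ _ _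
  have hOnd : O.Nodup := by
    rw [List.nodup_flatMap]
    constructor
    · intro w1 hw1
      have e : (D.W2.map fun w2 => ((pnt M (wapp M.px w1 D.x), pnt M (wapp M.px w1 (wapp M.px w2 D.y))) :
          Fin M.n × Fin M.n)) = (D.W2.map fun w => wapp M.px w D.y).map
          (fun t => (pnt M (wapp M.px w1 D.x), pnt M (wapp M.px w1 t))) := by
        rw [List.map_map]
        rfl
      rw [e]
      apply List.Nodup.map_on _ h2
      intro t ht t' ht' htt
      rw [List.mem_map] at ht ht'
      obtain ⟨w, hw, rfl⟩ := ht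
      obtain ⟨w', hw', rfl⟩ := ht'
      have ha := M.wapp_lt w (hW2 w hw) D.y F.hy
      have hb := M.wapp_lt w' (hW2 w' hw') D.y F.hy
      have h4 := (Prod.mk.injEq _ _ _ _).mp htt
      have h5 := pnt_injOn M _ _ (M.wapp_lt w1 (hW1 w1 hw1) _ ha) (M.wapp_lt w1 (hW1 w1 hw1) _ hb) h4.2
      exact wapp_injOn M w1 (hW1 w1 hw1) _ _ ha hb h5
    · have h5 : D.W1.Pairwise fun a b => wapp M.px a D.x ≠ wapp M.px b D.x := by
        have := List.nodup_iff_pairwise_ne.mp h1
        rwa [List.pairwise_map] at this
      have h6 : ∀ w1 ∈ D.W1, ∀ w1' ∈ D.W1, wapp M.px w1 D.x ≠ wapp M.px w1' D.x →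
          Function.onFun List.Disjoint (fun w1 => D.W2.map fun w2 =>
            ((pnt M (wapp M.px w1 D.x), pnt M (wapp M.px w1 (wapp M.px w2 D.y))) :
              Fin M.n × Fin M.n)) w1 w1' := by
        intro w1 hw1 w1' hw1' hne
        show List.Disjoint _ _
        intro o ho ho'
        rw [List.mem_map] at ho ho'
        obtain ⟨w2, _, rfl⟩ := ho
        obtain ⟨w2', _, e⟩ := ho'
        have h4 := (Prod.mk.injEq _ _ _ _).mp e
        exact hne (pnt_injOn M _ _ (M.wapp_lt w1 (hW1 w1 hw1) _ F.hx)
          (M.wapp_lt w1' (hW1 w1' hw1') _ F.hx) h4.1.symm)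
      exact h5.imp_of_mem (fun {a b} ha hb hab => h6 a ha b hb hab)
  have hOmem : ∀ o ∈ O, ∃ g : M.G, g • pnt M D.x = o.1 ∧ g • pnt M D.y = o.2 := by
    intro o ho
    rw [List.mem_flatMap] at ho
    obtain ⟨w1, hw1, ho⟩ := ho
    rw [List.mem_map] at ho
    obtain ⟨w2, hw2, rfl⟩ := ho
    refine ⟨(M.elt (w2 ++ w1))⁻¹, ?_, ?_⟩
    · rw [inv_elt_smul_pnt M _ (append_lt M _ _ (hW2 w2 hw2) (hW1 w1 hw1)) _ F.hx, wapp_append,
        h2x w2 hw2]
    · rw [inv_elt_smul_pnt M _ (append_lt M _ _ (hW2 w2 hw2) (hW1 w1 hw1)) _ F.hy, wapp_append]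
  have hb := card_stab_pair_le (G := M.G) (pnt M D.x) (pnt M D.y) O hOnd hOmem
  rw [hOlen, F.hcard] at hb
  have hpos : 0 < D.W1.length * D.W2.length := by
    have := Nat.card_pos (α := M.G)
    rw [F.hcard] at this
    exact Nat.pos_of_mul_pos_right this
  have hK : Nat.card (MulAction.stabilizer M.G ((pnt M D.x, pnt M D.y) : Fin M.n × Fin M.n)) ≤
      D.L.length := Nat.le_of_mul_le_mul_left hb hpos
  -- the list of elements
  have hTnd : (D.L.map M.elt).Nodup := by
    rw [List.nodup_map_iff_inj_on (List.Nodup.of_map _ h3)]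
    intro w hw w' hw' he
    apply (List.nodup_map_iff_inj_on (List.Nodup.of_map _ h3)).mp h3 w hw w' hw'
    apply List.map_congr_left
    intro b hb'
    have hbn := F.hbs b hb'
    have e1 := inv_elt_smul_pnt M w (hL w hw) b hbn
    have e2 := inv_elt_smul_pnt M w' (hL w' hw') b hbn
    rw [he, e2] at e1
    exact (pnt_injOn M _ _ (M.wapp_lt w' (hL w' hw') b hbn) (M.wapp_lt w (hL w hw) b hbn) e1).symm
  have hTmem : ∀ t ∈ D.L.map M.elt,
      t ∈ MulAction.stabilizer M.G ((pnt M D.x, pnt M D.y) : Fin M.n × Fin M.n) := by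
    intro t ht
    rw [List.mem_map] at ht
    obtain ⟨w, hw, rfl⟩ := ht
    rw [MulAction.mem_stabilizer_iff, Prod.smul_mk]
    rw [elt_smul_pnt M w (hL w hw) D.x D.x F.hx (h3x w hw),
      elt_smul_pnt M w (hL w hw) D.y D.y F.hy (h3y w hw)]
  have hg : g ∈ MulAction.stabilizer M.G ((pnt M D.x, pnt M D.y) : Fin M.n × Fin M.n) := by
    rw [MulAction.mem_stabilizer_iff, Prod.smul_mk, hgx, hgy]
  have := mem_of_card_le _ (D.L.map M.elt) hTnd hTmem (by rw [List.length_map]; exact hK) g hg
  rw [List.mem_map] at this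
  obtain ⟨w, hw, e⟩ := this
  exact ⟨w, hw, e.symm⟩

end Cfsg.Agent.Lib.Helper2.PMS
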