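import Cfsg.Agent.Lib.Helper2.PMStab2

set_option autoImplicit false

/-! # Permutation models: boolean checks of equalities and inequalities of words -/

namespace Cfsg.Agent.Lib.Helper2.PMS

open Cfsg.Agent.Lib.Helper6.TC Cfsg.Agent.Lib.Helper6.PM

variable (M : PModel)

/-- the letters of a word are letters of the model -/
def chkW (w : List ℕ) : Bool := w.all fun c => decide (c < M.nl)

theorem lt_of_chkW (w : List ℕ) (h : chkW M w = true) : ∀ c ∈ w, c < M.nl := by
  intro c hc
  unfold chkW at h
  simp only [List.all_eq_true, decide_eq_true_eq] at h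
  exact h c hc

/-- two words act in the same way -/
noncomputable def chkEq (w w' : List ℕ) : Bool :=
  chkW M w && chkW M w' && (List.range M.n).all fun q => wappS M.px w q == wappS M.px w' q

theorem elt_eq_of_chk (w w' : List ℕ) (h : chkEq M w w' = true) : M.elt w = M.elt w' := by
  unfold chkEq at h
  simp only [Bool.and_eq_true, List.all_eq_true, List.mem_range, beq_iff_eq] at h
  apply M.elt_eq_of_wapp w w' (lt_of_chkW M w h.1.1) (lt_of_chkW M w' h.1.2)
  intro q hq
  rw [← wappS_eq, ← wappS_eq]
  exact h.2 q hq

/-- two words act differently -/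
noncomputable def chkNe (w w' : List ℕ) : Bool :=
  chkW M w && chkW M w' && (List.range M.n).any fun q => wappS M.px w q != wappS M.px w' q

theorem elt_ne_of_chk (w w' : List ℕ) (h : chkNe M w w' = true) : M.elt w ≠ M.elt w' := by
  unfold chkNe at h
  simp only [Bool.and_eq_true, List.any_eq_true, List.mem_range, bne_iff_ne] at h
  obtain ⟨⟨h1, h2⟩, q, hq, hne⟩ := h
  rw [wappS_eq, wappS_eq] at hne
  exact elt_ne_of_wapp M w w' (lt_of_chkW M w h1) (lt_of_chkW M w' h2) q hq hne

/-- the fixed points of a word are in a list -/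
noncomputable def chkFixIn (w : List ℕ) (F : List ℕ) : Bool :=
  chkW M w && (List.range M.n).all fun q => (wappS M.px w q != q) || F.contains q

theorem fix_in_of_chk (w : List ℕ) (F : List ℕ) (h : chkFixIn M w F = true) (q : Fin M.n)
    (hq : M.elt w • q = q) : q.val ∈ F := by
  unfold chkFixIn at h
  simp only [Bool.and_eq_true, List.all_eq_true, List.mem_range, Bool.or_eq_true, bne_iff_ne,
    List.contains_iff_mem] at h
  have h1 := M.inv_elt_smul_val w (lt_of_chkW M w h.1) q
  have h2 : (M.elt w)⁻¹ • q = q := by rw [inv_smul_eq_iff, hq]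
  rw [h2] at h1
  rcases h.2 q.val q.isLt with h3 | h3
  · rw [wappS_eq] at h3
    exact absurd h1.symm h3
  · exact h3

theorem pnt_of_val_eq (q : Fin M.n) (a : ℕ) (h : q.val = a) : q = pnt M a := by
  rw [← h, pnt_eq]

end Cfsg.Agent.Lib.Helper2.PMS
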