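import Cfsg.Agent.Lib.Helper2.PMStab3

set_option autoImplicit false

/-! # Permutation models: sifting through a chain of two stabilizers, and inverse words -/

namespace Cfsg.Agent.Lib.Helper2.PMS

open Cfsg.Agent.Lib.Helper6.TC Cfsg.Agent.Lib.Helper6.PM

/-- if the orders fit, a nodup list of points of an orbit is the whole orbit -/
theorem mem_of_mem_orbit {G α : Type*} [Group G] [Finite G] [MulAction G α] (a : α)
    (O : List α) (hO : O.Nodup) (hmem : ∀ o ∈ O, o ∈ MulAction.orbit G a)
    (T : List G) (hT : T.Nodup) (hTmem : ∀ t ∈ T, t ∈ MulAction.stabilizer G a)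
    (hcard : Nat.card G = O.length * T.length) (b : α) (hb : b ∈ MulAction.orbit G a) : b ∈ O := by
  classical
  have h1 := Subgroup.card_mul_index (MulAction.stabilizer G a)
  rw [MulAction.index_stabilizer] at h1
  have hfin : (MulAction.orbit G a).Finite := Set.finite_range _
  have hsub : (↑O.toFinset : Set α) ⊆ MulAction.orbit G a := by
    intro o ho
    rw [Finset.mem_coe, List.mem_toFinset] at ho
    exact hmem o ho
  have h2 : O.length ≤ (MulAction.orbit G a).ncard := by
    have := Set.ncard_le_ncard hsub hfin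
    rwa [Set.ncard_coe_finset, List.toFinset_card_of_nodup hO] at this
  have h3 : T.length ≤ Nat.card (MulAction.stabilizer G a) := by
    have hfin' : ((MulAction.stabilizer G a : Subgroup G) : Set G).Finite := Set.toFinite _
    have hsub' : (↑T.toFinset : Set G) ⊆ ((MulAction.stabilizer G a : Subgroup G) : Set G) := by
      intro t ht
      rw [Finset.mem_coe, List.mem_toFinset] at ht
      exact hTmem t ht
    have := Set.ncard_le_ncard hsub' hfin'
    rw [Set.ncard_coe_finset, List.toFinset_card_of_nodup hT] at this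
    have e : ((MulAction.stabilizer G a : Subgroup G) : Set G).ncard =
        Nat.card (MulAction.stabilizer G a) := (Nat.card_coe_set_eq _).symm
    rwa [e] at this
  have hGpos : 0 < Nat.card G := Nat.card_pos
  have hTpos : 0 < T.length := by
    rcases Nat.eq_zero_or_pos T.length with h | h
    · rw [hcard, h, Nat.mul_zero] at hGpos; omega
    · exact h
  have h4 : (MulAction.orbit G a).ncard ≤ O.length := by
    by_contra hlt
    push Not at hlt
    have : O.length * T.length < Nat.card (MulAction.stabilizer G a) * (MulAction.orbit G a).ncard := by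
      calc O.length * T.length < (MulAction.orbit G a).ncard * T.length :=
            Nat.mul_lt_mul_of_pos_right hlt hTpos
        _ ≤ (MulAction.orbit G a).ncard * Nat.card (MulAction.stabilizer G a) :=
            Nat.mul_le_mul_left _ h3
        _ = _ := Nat.mul_comm _ _
    rw [h1, hcard] at this
    exact lt_irrefl _ this
  have h5 : (MulAction.orbit G a).ncard ≤ (↑O.toFinset : Set α).ncard := by
    rw [Set.ncard_coe_finset, List.toFinset_card_of_nodup hO]
    exact h4
  have h6 := Set.eq_of_subset_of_ncard_le hsub h5 hfin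
  have hb' : b ∈ (↑O.toFinset : Set α) := by rw [h6]; exact hb
  rwa [Finset.mem_coe, List.mem_toFinset] at hb'

variable {M : PModel} {D : Stab2Data}

/-- sifting: every element is the element of a product of three words of the chain -/
theorem Stab2Facts.sift (F : Stab2Facts M D) (c : M.G) :
    ∃ w1 ∈ D.W1, ∃ w2 ∈ D.W2, ∃ l ∈ D.L, c = M.elt (l ++ w2 ++ w1) := by
  classical
  have hW1 := letters_of_chk M D.W1 F.hW1
  have hW2 := letters_of_chk M D.W2 F.hW2
  have hL := letters_of_chk M D.L F.hL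
  have h1 := F.h1
  rw [imgs_eq] at h1
  have h2 := F.h2
  rw [imgs_eq] at h2
  have h3 := F.h3
  rw [keys_eq] at h3
  have h2x := fixes_of_chk M D.W2 D.x F.h2x
  have h3x := fixes_of_chk M D.L D.x F.h3x
  have h3y := fixes_of_chk M D.L D.y F.h3y
  let O : List (Fin M.n × Fin M.n) := D.W1.flatMap fun w1 => D.W2.map fun w2 =>
    (pnt M (wapp M.px w1 D.x), pnt M (wapp M.px w1 (wapp M.px w2 D.y)))
  have hOlen : O.length = D.W1.length * D.W2.length := length_flatMap_map _ _ _
  have hOnd : O.Nodup := by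
    rw [List.nodup_flatMap]
    constructor
    · intro w1 hw1
      have e : (D.W2.map fun w2 => ((pnt M (wapp M.px w1 D.x), pnt M (wapp M.px w1 (wapp M.px w2 D.y))) :
          Fin M.n × Fin M.n)) = (D.W2.map fun w => wapp M.px w D.y).map
          (fun t => (pnt M (wapp M.px w1 D.x), pnt M (wapp M.px w1 t))) := by
        rw [List.map_map]
        rfl
      rw [e]
      apply List.Nodup.map_on _ h2
      intro t ht t' ht' htt
      rw [List.mem_map] at ht ht'
      obtain ⟨w, hw, rfl⟩ := ht
      obtain ⟨w', hw', rfl⟩ := ht'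
      have ha := M.wapp_lt w (hW2 w hw) D.y F.hy
      have hb := M.wapp_lt w' (hW2 w' hw') D.y F.hy
      have h4 := (Prod.mk.injEq _ _ _ _).mp htt
      have h5 := pnt_injOn M _ _ (M.wapp_lt w1 (hW1 w1 hw1) _ ha) (M.wapp_lt w1 (hW1 w1 hw1) _ hb) h4.2
      exact wapp_injOn M w1 (hW1 w1 hw1) _ _ ha hb h5
    · have h5 : D.W1.Pairwise fun a b => wapp M.px a D.x ≠ wapp M.px b D.x := by
        have := List.nodup_iff_pairwise_ne.mp h1
        rwa [List.pairwise_map] at this
      have h6 : ∀ w1 ∈ D.W1, ∀ w1' ∈ D.W1, wapp M.px w1 D.x ≠ wapp M.px w1' D.x →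
          Function.onFun List.Disjoint (fun w1 => D.W2.map fun w2 =>
            ((pnt M (wapp M.px w1 D.x), pnt M (wapp M.px w1 (wapp M.px w2 D.y))) :
              Fin M.n × Fin M.n)) w1 w1' := by
        intro w1 hw1 w1' hw1' hne
        show List.Disjoint _ _
        intro o ho ho'
        rw [List.mem_map] at ho ho'
        obtain ⟨w2, _, rfl⟩ := ho
        obtain ⟨w2', _, e⟩ := ho'
        have h4 := (Prod.mk.injEq _ _ _ _).mp e
        exact hne (pnt_injOn M _ _ (M.wapp_lt w1 (hW1 w1 hw1) _ F.hx)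
          (M.wapp_lt w1' (hW1 w1' hw1') _ F.hx) h4.1.symm)
      exact h5.imp_of_mem (fun {a b} ha hb hab => h6 a ha b hb hab)
  have hOmem : ∀ o ∈ O, o ∈ MulAction.orbit M.G ((pnt M D.x, pnt M D.y) : Fin M.n × Fin M.n) := by
    intro o ho
    rw [List.mem_flatMap] at ho
    obtain ⟨w1, hw1, ho⟩ := ho
    rw [List.mem_map] at ho
    obtain ⟨w2, hw2, rfl⟩ := ho
    refine ⟨(M.elt (w2 ++ w1))⁻¹, ?_⟩
    show (M.elt (w2 ++ w1))⁻¹ • ((pnt M D.x, pnt M D.y) : Fin M.n × Fin M.n) = _
    rw [Prod.smul_mk, inv_elt_smul_pnt M _ (append_lt M _ _ (hW2 w2 hw2) (hW1 w1 hw1)) _ F.hx,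
      inv_elt_smul_pnt M _ (append_lt M _ _ (hW2 w2 hw2) (hW1 w1 hw1)) _ F.hy, wapp_append,
      wapp_append, h2x w2 hw2]
  have hTnd : (D.L.map M.elt).Nodup := by
    rw [List.nodup_map_iff_inj_on (List.Nodup.of_map _ h3)]
    intro w hw w' hw' he
    apply (List.nodup_map_iff_inj_on (List.Nodup.of_map _ h3)).mp h3 w hw w' hw'
    apply List.map_congr_left
    intro b hb'
    have hbn := F.hbs b hb'
    have e1 := inv_elt_smul_pnt M w (hL w hw) b hbn
    have e2 := inv_elt_smul_pnt M w' (hL w' hw') b hbn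
    rw [he, e2] at e1
    exact (pnt_injOn M _ _ (M.wapp_lt w' (hL w' hw') b hbn) (M.wapp_lt w (hL w hw) b hbn) e1).symm
  have hTmem : ∀ t ∈ D.L.map M.elt,
      t ∈ MulAction.stabilizer M.G ((pnt M D.x, pnt M D.y) : Fin M.n × Fin M.n) := by
    intro t ht
    rw [List.mem_map] at ht
    obtain ⟨w, hw, rfl⟩ := ht
    rw [MulAction.mem_stabilizer_iff, Prod.smul_mk]
    rw [elt_smul_pnt M w (hL w hw) D.x D.x F.hx (h3x w hw),
      elt_smul_pnt M w (hL w hw) D.y D.y F.hy (h3y w hw)]
  have hcard : Nat.card M.G = O.length * (D.L.map M.elt).length := by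
    rw [hOlen, List.length_map, F.hcard]
  have hmemO := mem_of_mem_orbit (G := M.G) ((pnt M D.x, pnt M D.y) : Fin M.n × Fin M.n) O hOnd hOmem
    (D.L.map M.elt) hTnd hTmem hcard (c⁻¹ • ((pnt M D.x, pnt M D.y) : Fin M.n × Fin M.n)) ⟨c⁻¹, rfl⟩
  rw [List.mem_flatMap] at hmemO
  obtain ⟨w1, hw1, ho⟩ := hmemO
  rw [List.mem_map] at ho
  obtain ⟨w2, hw2, ho⟩ := ho
  rw [Prod.smul_mk] at ho
  have ho' := (Prod.mk.injEq _ _ _ _).mp ho
  have hd := append_lt M _ _ (hW2 w2 hw2) (hW1 w1 hw1)
  have hdx : (M.elt (w2 ++ w1))⁻¹ • pnt M D.x = c⁻¹ • pnt M D.x := by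
    rw [inv_elt_smul_pnt M _ hd _ F.hx, wapp_append, h2x w2 hw2]
    exact ho'.1
  have hdy : (M.elt (w2 ++ w1))⁻¹ • pnt M D.y = c⁻¹ • pnt M D.y := by
    rw [inv_elt_smul_pnt M _ hd _ F.hy, wapp_append]
    exact ho'.2
  have hgx : (c * (M.elt (w2 ++ w1))⁻¹) • pnt M D.x = pnt M D.x := by
    rw [mul_smul, hdx, smul_inv_smul]
  have hgy : (c * (M.elt (w2 ++ w1))⁻¹) • pnt M D.y = pnt M D.y := by
    rw [mul_smul, hdy, smul_inv_smul]
  obtain ⟨l, hl, e⟩ := F.mem_L _ hgx hgy
  refine ⟨w1, hw1, w2, hw2, l, hl, ?_⟩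
  rw [List.append_assoc, M.elt_append, ← e]
  group

/-! ## Inverse words -/

variable (M)

/-- the inverse word, for a map of the letters to their inverse letters -/
def invw (iv : ℕ → ℕ) (w : List ℕ) : List ℕ := w.reverse.map iv

/-- the map of the letters gives inverse letters -/
def InvMap (iv : ℕ → ℕ) : Prop :=
  ∀ c < M.nl, iv c < M.nl ∧ ∀ q < M.n, M.px (iv c) (M.px c q) = q

theorem invw_lt (iv : ℕ → ℕ) (hI : InvMap M iv) (w : List ℕ) (hw : ∀ c ∈ w, c < M.nl) :
    ∀ c ∈ invw iv w, c < M.nl := by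
  intro c hc
  unfold invw at hc
  rw [List.mem_map] at hc
  obtain ⟨c', hc', rfl⟩ := hc
  exact (hI c' (hw c' (List.mem_reverse.mp hc'))).1

theorem elt_invw (iv : ℕ → ℕ) (hI : InvMap M iv) (w : List ℕ) (hw : ∀ c ∈ w, c < M.nl) :
    M.elt (invw iv w) = (M.elt w)⁻¹ := by
  induction w with
  | nil => simp [invw, M.elt_nil]
  | cons c w ih =>
    have hc : c < M.nl := hw c List.mem_cons_self
    have hw' : ∀ c ∈ w, c < M.nl := fun c' hc' => hw c' (List.mem_cons_of_mem _ hc')
    have e : invw iv (c :: w) = invw iv w ++ [iv c] := by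
      unfold invw
      rw [List.reverse_cons, List.map_append]
      rfl
    rw [e, M.elt_append, ih hw', M.elt_cons c w, mul_inv_rev]
    congr 1
    apply eq_inv_of_mul_eq_one_left
    rw [← M.elt_append, ← M.elt_nil]
    apply M.elt_eq_of_wapp
    · intro c' hc'
      simp only [List.cons_append, List.nil_append, List.mem_cons, List.not_mem_nil, or_false] at hc'
      rcases hc' with rfl | rfl
      · exact (hI c hc).1
      · exact hc
    · intro c' hc'; simp at hc'
    · intro q hq
      show M.px c (M.px (iv c) q) = q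
      -- the letter and its inverse letter are inverse bijections of the points
      have h1 : ∀ q < M.n, M.px (iv c) (M.px c q) = q := (hI c hc).2
      have hlt : M.px (iv c) q < M.n := M.px_lt _ (hI c hc).1 q hq
      have h2 := h1 (M.px (iv c) q) hlt
      -- injectivity of the inverse letter on the points
      have hinj : ∀ a < M.n, ∀ b < M.n, M.px (iv c) a = M.px (iv c) b → a = b := by
        intro a ha b hb hab
        have := wapp_injOn M [iv c] (by intro c' hc'; rw [List.mem_singleton.mp hc']; exact (hI c hc).1)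
          a b ha hb (by simpa [wapp_cons, wapp_nil] using hab)
        exact this
      exact hinj _ (M.px_lt c hc _ hlt) q hq h2

end Cfsg.Agent.Lib.Helper2.PMS
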