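import Cfsg.Agent.Lib.Helper2.PMStab4

set_option autoImplicit false

/-! # Permutation models: equality from the images of a base, normalizers and centralizers -/

namespace Cfsg.Agent.Lib.Helper2.PMS

open Cfsg.Agent.Lib.Helper6.TC Cfsg.Agent.Lib.Helper6.PM

variable {M : PModel} {D : Stab2Data}

/-- two words have the same images of the base points -/
noncomputable def chkBase (M : PModel) (D : Stab2Data) (w w' : List ℕ) : Bool :=
  chkW M w && chkW M w' && (wappS M.px w D.x == wappS M.px w' D.x) &&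
    (wappS M.px w D.y == wappS M.px w' D.y) &&
    D.bs.all fun b => wappS M.px w b == wappS M.px w' b

/-- elements with the same images of the base points are equal -/
theorem Stab2Facts.eq_of_base (F : Stab2Facts M D) (hnil : [] ∈ D.L) (c d : M.G)
    (hx : c⁻¹ • pnt M D.x = d⁻¹ • pnt M D.x) (hy : c⁻¹ • pnt M D.y = d⁻¹ • pnt M D.y)
    (hb : ∀ b ∈ D.bs, c⁻¹ • pnt M b = d⁻¹ • pnt M b) : c = d := by
  have hL := letters_of_chk M D.L F.hL
  have hgx : (d * c⁻¹) • pnt M D.x = pnt M D.x := by rw [mul_smul, hx, smul_inv_smul]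
  have hgy : (d * c⁻¹) • pnt M D.y = pnt M D.y := by rw [mul_smul, hy, smul_inv_smul]
  obtain ⟨l, hl, e⟩ := F.mem_L _ hgx hgy
  have h3 := F.h3
  rw [keys_eq] at h3
  have hkey : (D.bs.map fun b => wapp M.px l b) = D.bs.map fun b => wapp M.px [] b := by
    apply List.map_congr_left
    intro b hb'
    have hbn := F.hbs b hb'
    have e1 := inv_elt_smul_pnt M l (hL l hl) b hbn
    rw [← e, mul_inv_rev, inv_inv, mul_smul, ← hb b hb', smul_inv_smul] at e1
    rw [wapp_nil]
    exact (pnt_injOn M _ _ hbn (M.wapp_lt l (hL l hl) b hbn) e1).symm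
  have hl0 : l = [] :=
    (List.nodup_map_iff_inj_on (List.Nodup.of_map _ h3)).mp h3 l hl [] hnil hkey
  rw [hl0, M.elt_nil] at e
  have : d = c := by
    have := mul_inv_eq_one.mp e
    exact this
  exact this.symm

theorem Stab2Facts.elt_eq_of_chkBase (F : Stab2Facts M D) (hnil : [] ∈ D.L) (w w' : List ℕ)
    (h : chkBase M D w w' = true) : M.elt w = M.elt w' := by
  unfold chkBase at h
  simp only [Bool.and_eq_true, beq_iff_eq, List.all_eq_true] at h
  obtain ⟨⟨⟨⟨h1, h2⟩, h3⟩, h4⟩, h5⟩ := h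
  have hw := lt_of_chkW M w h1
  have hw' := lt_of_chkW M w' h2
  rw [wappS_eq, wappS_eq] at h3 h4
  apply F.eq_of_base hnil
  · rw [inv_elt_smul_pnt M w hw _ F.hx, inv_elt_smul_pnt M w' hw' _ F.hx, h3]
  · rw [inv_elt_smul_pnt M w hw _ F.hy, inv_elt_smul_pnt M w' hw' _ F.hy, h4]
  · intro b hb
    have := h5 b hb
    rw [wappS_eq, wappS_eq] at this
    rw [inv_elt_smul_pnt M w hw _ (F.hbs b hb), inv_elt_smul_pnt M w' hw' _ (F.hbs b hb), this]

theorem pow_smul_fix' {g : M.G} {q : Fin M.n} (h : g • q = q) (k : ℕ) : g ^ k • q = q := by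
  induction k with
  | zero => simp
  | succ k ih => rw [pow_succ, mul_smul, h, ih]

/-- the normalizer of an element with exactly two fixed points, exchanged by an element `h` of
the normalizer, from the elements of the stabilizer of the two points -/
theorem Stab2Facts.normalizer_of_two_fixed (F : Stab2Facts M D) (wp wh : List ℕ) (r' : ℕ)
    (hfix : chkFixIn M wp [D.x, D.y] = true)
    (hwh : ∀ c ∈ wh, c < M.nl)
    (hpx : wapp M.px wp D.x = D.x) (hpy : wapp M.px wp D.y = D.y)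
    (hhx : wapp M.px wh D.x = D.y) (hhy : wapp M.px wh D.y = D.x) (hxy : D.x ≠ D.y)
    (hconj : M.elt wh * M.elt wp * (M.elt wh)⁻¹ = M.elt wp ^ r')
    (hL : ∀ l ∈ D.L, (∃ k : ℕ, (M.elt l)⁻¹ * M.elt wp * M.elt l = M.elt wp ^ k) →
      ∃ i j : ℕ, M.elt l = M.elt wp ^ i * M.elt wh ^ j)
    (n : M.G) (hn : ∃ k : ℕ, n⁻¹ * M.elt wp * n = M.elt wp ^ k) :
    ∃ i j : ℕ, n = M.elt wp ^ i * M.elt wh ^ j := by
  have hwp : ∀ c ∈ wp, c < M.nl := by
    unfold chkFixIn at hfix
    simp only [Bool.and_eq_true] at hfix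
    exact lt_of_chkW M wp hfix.1
  set gp := M.elt wp with hgp
  set gh := M.elt wh with hgh
  have gp_x : gp • pnt M D.x = pnt M D.x := elt_smul_pnt M wp hwp _ _ F.hx hpx
  have gp_y : gp • pnt M D.y = pnt M D.y := elt_smul_pnt M wp hwp _ _ F.hy hpy
  have gh_x : gh • pnt M D.x = pnt M D.y := elt_smul_pnt M wh hwh _ _ F.hy hhy
  have gh_y : gh • pnt M D.y = pnt M D.x := elt_smul_pnt M wh hwh _ _ F.hx hhx
  have x_ne_y : pnt M D.x ≠ pnt M D.y := fun h => hxy (pnt_injOn M _ _ F.hx F.hy h)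
  -- the case of an element fixing the two points
  have norm_of_fix : ∀ (n : M.G) (k : ℕ), n⁻¹ * gp * n = gp ^ k → n • pnt M D.x = pnt M D.x →
      n • pnt M D.y = pnt M D.y → ∃ i j : ℕ, n = gp ^ i * gh ^ j := by
    intro n k hk hx hy
    obtain ⟨w, hw, rfl⟩ := F.mem_L n hx hy
    exact hL w hw ⟨k, hk⟩
  have gh_gp_pow : ∀ i : ℕ, gh * gp ^ i = gp ^ (r' * i) * gh := by
    intro i
    have h1 : (gh * gp * gh⁻¹) ^ i = gh * gp ^ i * gh⁻¹ := conj_pow
    rw [hconj, ← pow_mul] at h1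
    rw [h1]
    group
  obtain ⟨k, hk⟩ := hn
  have hpn : gp * n = n * gp ^ k := by rw [← hk]; group
  have hfix' : ∀ q : Fin M.n, gp • q = q → gp • (n • q) = n • q := by
    intro q hq
    rw [← mul_smul, hpn, mul_smul, pow_smul_fix' hq]
  have hcases : ∀ q : Fin M.n, gp • q = q → n • q = pnt M D.x ∨ n • q = pnt M D.y := by
    intro q hq
    have h1 := fix_in_of_chk M wp [D.x, D.y] hfix (n • q) (hfix' q hq)
    simp only [List.mem_cons, List.not_mem_nil, or_false] at h1
    rcases h1 with h1 | h1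
    · left; exact pnt_of_val_eq M _ _ h1
    · right; exact pnt_of_val_eq M _ _ h1
  have hne : n • pnt M D.x ≠ n • pnt M D.y := fun h => x_ne_y (smul_left_cancel n h)
  rcases hcases _ gp_x with hx | hx
  · have hy : n • pnt M D.y = pnt M D.y := by
      rcases hcases _ gp_y with hy | hy
      · exact absurd (hx.trans hy.symm) hne
      · exact hy
    exact norm_of_fix n k hk hx hy
  · have hy : n • pnt M D.y = pnt M D.x := by
      rcases hcases _ gp_y with hy | hy
      · exact hy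
      · exact absurd (hx.trans hy.symm) hne
    have hx' : (gh⁻¹ * n) • pnt M D.x = pnt M D.x := by
      rw [mul_smul, hx, inv_smul_eq_iff, gh_x]
    have hy' : (gh⁻¹ * n) • pnt M D.y = pnt M D.y := by
      rw [mul_smul, hy, inv_smul_eq_iff, gh_y]
    have hk' : (gh⁻¹ * n)⁻¹ * gp * (gh⁻¹ * n) = gp ^ (k * r') := by
      have e1 : (gh⁻¹ * n)⁻¹ * gp * (gh⁻¹ * n) = n⁻¹ * (gh * gp * gh⁻¹) * n := by group
      have e2 : (n⁻¹ * gp * n⁻¹⁻¹) ^ r' = n⁻¹ * gp ^ r' * n⁻¹⁻¹ := conj_pow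
      rw [inv_inv] at e2
      rw [e1, hconj, ← e2, hk, ← pow_mul]
    obtain ⟨i, j, hij⟩ := norm_of_fix _ _ hk' hx' hy'
    refine ⟨r' * i, j + 1, ?_⟩
    have e3 : n = gh * (gp ^ i * gh ^ j) := by rw [← hij]; group
    rw [e3, ← mul_assoc, gh_gp_pow, mul_assoc, ← pow_succ']

end Cfsg.Agent.Lib.Helper2.PMS
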