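import Cfsg.Agent.Lib.Helper2.PMStab5
import Cfsg.Agent.Lib.Helper6.Mult.PM2

set_option autoImplicit false

/-! # Permutation models: centralizers by sifting, generation, and images of words under
homomorphisms -/

namespace Cfsg.Agent.Lib.Helper2.PMS

open Cfsg.Agent.Lib.Helper6.TC Cfsg.Agent.Lib.Helper6.PM

variable {M : PModel} {D : Stab2Data}

/-- the check that every element commuting with the element of the word `wh`, which exchanges the
two base points, is one of its first `e` powers -/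
noncomputable def chkCent (M : PModel) (D : Stab2Data) (wh : List ℕ) (e : ℕ) : Bool :=
  D.W1.all fun w1 =>
    (wappS M.px (wh ++ wh) (wappS M.px w1 D.x) != wappS M.px w1 D.x) ||
    D.W2.all fun w2 =>
      (wappS M.px w1 (wappS M.px w2 D.y) != wappS M.px wh (wappS M.px w1 D.x)) ||
      D.L.all fun l =>
        ((List.range e).any fun k => chkBase M D (l ++ w2 ++ w1) (rep k wh)) ||
        chkNe M (l ++ w2 ++ w1 ++ wh) (wh ++ (l ++ w2 ++ w1))

theorem Stab2Facts.centralizer_of_chk (F : Stab2Facts M D) (hnil : [] ∈ D.L) (wh : List ℕ) (e : ℕ)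
    (hwh : ∀ c ∈ wh, c < M.nl) (hhx : wapp M.px wh D.x = D.y) (hhy : wapp M.px wh D.y = D.x)
    (hchk : chkCent M D wh e = true) (c : M.G) (hc : c * M.elt wh = M.elt wh * c) :
    ∃ k : ℕ, c = M.elt wh ^ k := by
  have hW1 := letters_of_chk M D.W1 F.hW1
  have hW2 := letters_of_chk M D.W2 F.hW2
  have hL := letters_of_chk M D.L F.hL
  have h2x := fixes_of_chk M D.W2 D.x F.h2x
  have h3x := fixes_of_chk M D.L D.x F.h3x
  have h3y := fixes_of_chk M D.L D.y F.h3y
  obtain ⟨w1, hw1, w2, hw2, l, hl, rfl⟩ := F.sift c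
  have hWl : ∀ c ∈ l ++ w2 ++ w1, c < M.nl :=
    append_lt M _ _ (append_lt M _ _ (hL l hl) (hW2 w2 hw2)) (hW1 w1 hw1)
  have hWx : wapp M.px (l ++ w2 ++ w1) D.x = wapp M.px w1 D.x := by
    rw [wapp_append, wapp_append, h3x l hl, h2x w2 hw2]
  have hWy : wapp M.px (l ++ w2 ++ w1) D.y = wapp M.px w1 (wapp M.px w2 D.y) := by
    rw [wapp_append, wapp_append, h3y l hl]
  have ha : wapp M.px w1 D.x < M.n := M.wapp_lt w1 (hW1 w1 hw1) _ F.hx
  -- the consequences of the commutation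
  have e1 : wapp M.px w1 (wapp M.px w2 D.y) = wapp M.px wh (wapp M.px w1 D.x) := by
    have h1 : (M.elt (l ++ w2 ++ w1) * M.elt wh)⁻¹ • pnt M D.x =
        (M.elt wh * M.elt (l ++ w2 ++ w1))⁻¹ • pnt M D.x := by rw [hc]
    rw [mul_inv_rev, mul_inv_rev, mul_smul, mul_smul, inv_elt_smul_pnt M _ hWl _ F.hx, hWx,
      inv_elt_smul_pnt M _ hwh _ ha, inv_elt_smul_pnt M _ hwh _ F.hx, hhx,
      inv_elt_smul_pnt M _ hWl _ F.hy, hWy] at h1
    exact (pnt_injOn M _ _ (M.wapp_lt wh hwh _ ha)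
      (M.wapp_lt w1 (hW1 w1 hw1) _ (M.wapp_lt w2 (hW2 w2 hw2) _ F.hy)) h1).symm
  have hss : ∀ c ∈ wh ++ wh, c < M.nl := append_lt M _ _ hwh hwh
  have e2 : wapp M.px (wh ++ wh) (wapp M.px w1 D.x) = wapp M.px w1 D.x := by
    have hcs : M.elt (l ++ w2 ++ w1) * M.elt (wh ++ wh) = M.elt (wh ++ wh) * M.elt (l ++ w2 ++ w1) := by
      have e0 : M.elt (wh ++ wh) = M.elt wh * M.elt wh := M.elt_append wh wh
      rw [e0, ← mul_assoc, hc, mul_assoc, hc, mul_assoc]
    have h1 : (M.elt (l ++ w2 ++ w1) * M.elt (wh ++ wh))⁻¹ • pnt M D.x =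
        (M.elt (wh ++ wh) * M.elt (l ++ w2 ++ w1))⁻¹ • pnt M D.x := by rw [hcs]
    have hsx : wapp M.px (wh ++ wh) D.x = D.x := by rw [wapp_append, hhx, hhy]
    rw [mul_inv_rev, mul_inv_rev, mul_smul, mul_smul, inv_elt_smul_pnt M _ hWl _ F.hx, hWx,
      inv_elt_smul_pnt M _ hss _ ha, inv_elt_smul_pnt M _ hss _ F.hx, hsx,
      inv_elt_smul_pnt M _ hWl _ F.hx, hWx] at h1
    exact pnt_injOn M _ _ (M.wapp_lt _ hss _ ha) ha h1
  -- the check
  unfold chkCent at hchk
  rw [List.all_eq_true] at hchk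
  have h4 := hchk w1 hw1
  simp only [Bool.or_eq_true, bne_iff_ne, wappS_eq] at h4
  rcases h4 with h4 | h4
  · exact absurd e2 h4
  rw [List.all_eq_true] at h4
  have h5 := h4 w2 hw2
  simp only [Bool.or_eq_true, bne_iff_ne] at h5
  rcases h5 with h5 | h5
  · exact absurd e1 h5
  rw [List.all_eq_true] at h5
  have h6 := h5 l hl
  rw [Bool.or_eq_true] at h6
  rcases h6 with h6 | h6
  · rw [List.any_eq_true] at h6
    obtain ⟨k, _, hk⟩ := h6
    refine ⟨k, ?_⟩
    rw [F.elt_eq_of_chkBase hnil _ _ hk, elt_rep]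
  · exfalso
    have := elt_ne_of_chk M _ _ h6
    apply this
    rw [M.elt_append (l ++ w2 ++ w1) wh, M.elt_append wh (l ++ w2 ++ w1)]
    exact hc

/-- the image under a homomorphism of the element of a word in some generators -/
theorem map_elt_expand (f : M.G →* M.G) (ws ws' : List (List ℕ))
    (hf : ∀ i < ws.length, f (M.elt (ws.getD i [])) = M.elt (ws'.getD i [])) (w : List ℕ)
    (hw : ∀ i ∈ w, i < ws.length) : f (M.elt (expand ws w)) = M.elt (expand ws' w) := by
  induction w with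
  | nil => rw [expand_nil, expand_nil, M.elt_nil, map_one]
  | cons i w ih =>
    rw [expand_cons, expand_cons, M.elt_append, M.elt_append, map_mul,
      hf i (hw i List.mem_cons_self), ih (fun j hj => hw j (List.mem_cons_of_mem _ hj))]

/-- the letters are words in some generators -/
noncomputable def chkGen (M : PModel) (ws Wl : List (List ℕ)) : Bool :=
  (List.range M.nl).all fun c => chkEq M [c] (expand ws (Wl.getD c []))

theorem subH_eq_top_of_chk (ws Wl : List (List ℕ)) (h : chkGen M ws Wl = true) :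
    Cfsg.Agent.Lib.Helper6.PM.subH M ws = ⊤ := by
  rw [eq_top_iff, ← M.closure_letters, Subgroup.closure_le]
  rintro g ⟨c, hc, rfl⟩
  unfold chkGen at h
  rw [List.all_eq_true] at h
  rw [elt_eq_of_chk M _ _ (h c (List.mem_range.mpr hc))]
  exact elt_expand_mem M ws (Wl.getD c [])

end Cfsg.Agent.Lib.Helper2.PMS
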