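import Mathlib

set_option autoImplicit false
set_option linter.style.haveILetI false

/-! Package PQ-A of the S4306 swarm: non-abelian groups of order `pq`, given as `F ⊔ H` for
subgroups `F` (order `q`) and `H` (order `p`) of an arbitrary ambient group. -/

namespace Cfsg.Agent.Lib.Helper2.PQA

open scoped commutatorElement

variable {T : Type*} [Group T]

/-- a subgroup of prime order is generated by each of its non-identity elements -/
theorem mem_zpowers_of_card_prime {K : Subgroup T} {n : ℕ} (hn : n.Prime) (hK : Nat.card K = n)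
    {k x : T} (hk : k ∈ K) (hk1 : k ≠ 1) (hx : x ∈ K) : x ∈ Subgroup.zpowers k := by
  haveI : Fact n.Prime := ⟨hn⟩
  have hne : (⟨k, hk⟩ : K) ≠ 1 := fun h => hk1 (congrArg Subtype.val h)
  have h1 : (⟨x, hx⟩ : K) ∈ Subgroup.zpowers (⟨k, hk⟩ : K) := mem_zpowers_of_prime_card hK hne
  obtain ⟨i, hi⟩ := Subgroup.mem_zpowers_iff.mp h1
  refine Subgroup.mem_zpowers_iff.mpr ⟨i, ?_⟩
  have := congrArg Subtype.val hi
  simpa using this

/-- a subgroup of prime order has a non-identity element -/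
theorem exists_ne_one_of_card_prime {K : Subgroup T} {n : ℕ} (hn : n.Prime) (hK : Nat.card K = n) :
    ∃ k ∈ K, k ≠ 1 := by
  by_contra hcon
  have hbot : K = ⊥ := by
    rw [Subgroup.eq_bot_iff_forall]
    intro x hx
    by_contra hx1
    exact hcon ⟨x, hx, hx1⟩
  rw [hbot, Subgroup.card_bot] at hK
  exact hn.one_lt.ne hK

/-- a subgroup of prime order is commutative -/
theorem comm_of_card_prime {K : Subgroup T} {n : ℕ} (hn : n.Prime) (hK : Nat.card K = n)
    {x y : T} (hx : x ∈ K) (hy : y ∈ K) : x * y = y * x := by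
  by_cases hx1 : x = 1
  · subst hx1; simp
  · obtain ⟨i, rfl⟩ := Subgroup.mem_zpowers_iff.mp (mem_zpowers_of_card_prime hn hK hx hx1 hy)
    exact ((Commute.refl x).zpow_right i).eq

/-- the order of a non-identity element of a subgroup of prime order -/
theorem orderOf_of_card_prime {K : Subgroup T} {n : ℕ} (hn : n.Prime) (hK : Nat.card K = n)
    {k : T} (hk : k ∈ K) (hk1 : k ≠ 1) : orderOf k = n := by
  have h1 : orderOf k ∣ n := hK ▸ K.orderOf_dvd_natCard hk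
  rcases (Nat.dvd_prime hn).mp h1 with h | h
  · exact absurd (orderOf_eq_one_iff.mp h) hk1
  · exact h

theorem orderOf_conj' (x a : T) : orderOf (x⁻¹ * a * x) = orderOf a := by
  have := orderOf_injective (MulAut.conj x⁻¹).toMonoidHom (MulAut.conj x⁻¹).injective a
  simpa [MulAut.conj_apply] using this

/-- `F` of prime order `q`, `H` of prime order `p`, `H` normalizes but does not centralize `F`:
then `F ⊔ H` is a non-abelian group of order `pq` (a Frobenius group with kernel `F` and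
complement `H`), and every non-abelian group of order `pq` arises in this way. -/
structure IsPQ (p q : ℕ) (F H : Subgroup T) : Prop where
  hp : p.Prime
  hq : q.Prime
  cardF : Nat.card F = q
  cardH : Nat.card H = p
  norm : ∀ h ∈ H, ∀ f ∈ F, h * f * h⁻¹ ∈ F
  noncomm : ∃ h ∈ H, ∃ f ∈ F, h * f ≠ f * h

namespace IsPQ

variable {p q : ℕ} {F H : Subgroup T}

theorem finiteF (hpq : IsPQ p q F H) : Finite F :=
  Nat.finite_of_card_ne_zero (by rw [hpq.cardF]; exact hpq.hq.ne_zero)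

theorem finiteH (hpq : IsPQ p q F H) : Finite H :=
  Nat.finite_of_card_ne_zero (by rw [hpq.cardH]; exact hpq.hp.ne_zero)

theorem commF (hpq : IsPQ p q F H) {x y : T} (hx : x ∈ F) (hy : y ∈ F) : x * y = y * x :=
  comm_of_card_prime hpq.hq hpq.cardF hx hy

theorem commH (hpq : IsPQ p q F H) {x y : T} (hx : x ∈ H) (hy : y ∈ H) : x * y = y * x :=
  comm_of_card_prime hpq.hp hpq.cardH hx hy

theorem norm' (hpq : IsPQ p q F H) {h f : T} (hh : h ∈ H) (hf : f ∈ F) : h⁻¹ * f * h ∈ F := by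
  have := hpq.norm h⁻¹ (H.inv_mem hh) f hf
  simpa using this

/-- the action of `H` on `F` is fixed-point-free -/
theorem fpf (hpq : IsPQ p q F H) {h f : T} (hh : h ∈ H) (hh1 : h ≠ 1) (hf : f ∈ F)
    (hc : h * f = f * h) : f = 1 := by
  by_contra hf1
  obtain ⟨h', hh', f', hf', hne⟩ := hpq.noncomm
  apply hne
  obtain ⟨i, rfl⟩ := Subgroup.mem_zpowers_iff.mp
    (mem_zpowers_of_card_prime hpq.hp hpq.cardH hh hh1 hh')
  obtain ⟨j, rfl⟩ := Subgroup.mem_zpowers_iff.mp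
    (mem_zpowers_of_card_prime hpq.hq hpq.cardF hf hf1 hf')
  have hcomm : Commute h f := hc
  exact ((hcomm.zpow_left i).zpow_right j).eq

theorem exists_H_ne_one (hpq : IsPQ p q F H) : ∃ h ∈ H, h ≠ 1 :=
  exists_ne_one_of_card_prime hpq.hp hpq.cardH

theorem exists_F_ne_one (hpq : IsPQ p q F H) : ∃ f ∈ F, f ≠ 1 :=
  exists_ne_one_of_card_prime hpq.hq hpq.cardF

/-- `p ∣ q - 1` -/
theorem dvd_sub_one (hpq : IsPQ p q F H) : p ∣ q - 1 := by
  haveI := hpq.finiteF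
  haveI : Fact p.Prime := ⟨hpq.hp⟩
  letI act : MulAction H F :=
    { smul := fun h f => ⟨(h : T) * (f : T) * (h : T)⁻¹, hpq.norm h h.2 f f.2⟩
      one_smul := fun f => by
        apply Subtype.ext
        show ((1 : H) : T) * (f : T) * ((1 : H) : T)⁻¹ = f
        simp
      mul_smul := fun a b f => by
        apply Subtype.ext
        show ((a * b : H) : T) * (f : T) * ((a * b : H) : T)⁻¹ =
          (a : T) * ((b : T) * (f : T) * (b : T)⁻¹) * (a : T)⁻¹
        simp [mul_assoc] }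
  have hsmul : ∀ (h : H) (f : F), ((h • f : F) : T) = (h : T) * (f : T) * (h : T)⁻¹ :=
    fun _ _ => rfl
  have hP : IsPGroup p H := IsPGroup.of_card (n := 1) (by rw [hpq.cardH, pow_one])
  have key := hP.card_modEq_card_fixedPoints F
  have hfix : Nat.card (MulAction.fixedPoints H F) = 1 := by
    rw [Nat.card_eq_one_iff_exists]
    refine ⟨⟨1, ?_⟩, ?_⟩
    · intro h
      apply Subtype.ext
      rw [hsmul]
      simp
    · rintro ⟨f, hf⟩
      apply Subtype.ext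
      apply Subtype.ext
      show (f : T) = 1
      obtain ⟨h, hh, hh1⟩ := hpq.exists_H_ne_one
      have h2 := congrArg Subtype.val (hf ⟨h, hh⟩)
      rw [hsmul] at h2
      apply hpq.fpf hh hh1 f.2
      have h3 : h * (f : T) * h⁻¹ = f := h2
      calc h * (f : T) = h * (f : T) * h⁻¹ * h := by group
        _ = f * h := by rw [h3]
  rw [hfix, hpq.cardF] at key
  exact (Nat.modEq_iff_dvd' hpq.hq.one_le).mp key.symm

theorem lt (hpq : IsPQ p q F H) : p < q := by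
  have h1 := hpq.dvd_sub_one
  have h2 : 0 < q - 1 := Nat.sub_pos_of_lt hpq.hq.one_lt
  have := Nat.le_of_dvd h2 h1
  omega

theorem ne (hpq : IsPQ p q F H) : p ≠ q := hpq.lt.ne

theorem coprime (hpq : IsPQ p q F H) : Nat.Coprime q p :=
  (Nat.coprime_primes hpq.hq hpq.hp).mpr hpq.ne.symm

theorem inf_eq_bot (hpq : IsPQ p q F H) : F ⊓ H = ⊥ :=
  (Subgroup.disjoint_of_coprime_natCard (by rw [hpq.cardF, hpq.cardH]; exact hpq.coprime)).eq_bot

theorem eq_one_of_mem (hpq : IsPQ p q F H) {x : T} (hF : x ∈ F) (hH : x ∈ H) : x = 1 := by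
  have : x ∈ F ⊓ H := ⟨hF, hH⟩
  rw [hpq.inf_eq_bot] at this
  exact Subgroup.mem_bot.mp this

/-- elements of `F ⊔ H` are products `f * h` -/
theorem mem_sup (hpq : IsPQ p q F H) {a : T} :
    a ∈ F ⊔ H ↔ ∃ f ∈ F, ∃ h ∈ H, a = f * h := by
  constructor
  · intro ha
    rw [Subgroup.sup_eq_closure] at ha
    refine Subgroup.closure_induction ?_ ?_ ?_ ?_ ha
    · rintro x (hx | hx)
      · exact ⟨x, hx, 1, H.one_mem, by simp⟩
      · exact ⟨1, F.one_mem, x, hx, by simp⟩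
    · exact ⟨1, F.one_mem, 1, H.one_mem, by simp⟩
    · rintro _ _ _ _ ⟨f₁, hf₁, h₁, hh₁, rfl⟩ ⟨f₂, hf₂, h₂, hh₂, rfl⟩
      exact ⟨f₁ * (h₁ * f₂ * h₁⁻¹), F.mul_mem hf₁ (hpq.norm h₁ hh₁ f₂ hf₂), h₁ * h₂,
        H.mul_mem hh₁ hh₂, by group⟩
    · rintro _ _ ⟨f, hf, h, hh, rfl⟩
      exact ⟨h⁻¹ * f⁻¹ * h, hpq.norm' hh (F.inv_mem hf), h⁻¹, H.inv_mem hh, by group⟩
  · rintro ⟨f, hf, h, hh, rfl⟩
    exact Subgroup.mul_mem_sup hf hh

/-- `F` is normalized by `F ⊔ H` -/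
theorem norm_sup (hpq : IsPQ p q F H) {a f : T} (ha : a ∈ F ⊔ H) (hf : f ∈ F) :
    a * f * a⁻¹ ∈ F := by
  obtain ⟨f', hf', h, hh, rfl⟩ := hpq.mem_sup.mp ha
  have : f' * h * f * (f' * h)⁻¹ = f' * (h * f * h⁻¹) * f'⁻¹ := by group
  rw [this]
  exact F.mul_mem (F.mul_mem hf' (hpq.norm h hh f hf)) (F.inv_mem hf')

theorem norm_sup' (hpq : IsPQ p q F H) {a f : T} (ha : a ∈ F ⊔ H) (hf : f ∈ F) :
    a⁻¹ * f * a ∈ F := by
  have := hpq.norm_sup ((F ⊔ H).inv_mem ha) hf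
  simpa using this

/-- `|F ⊔ H| = pq` -/
theorem card_sup (hpq : IsPQ p q F H) : Nat.card (F ⊔ H : Subgroup T) = p * q := by
  have e : F × H ≃ (F ⊔ H : Subgroup T) := by
    refine Equiv.ofBijective
      (fun fh => ⟨(fh.1 : T) * (fh.2 : T), Subgroup.mul_mem_sup fh.1.2 fh.2.2⟩) ⟨?_, ?_⟩
    · rintro ⟨⟨f₁, hf₁⟩, ⟨h₁, hh₁⟩⟩ ⟨⟨f₂, hf₂⟩, ⟨h₂, hh₂⟩⟩ heq
      have heq' : f₁ * h₁ = f₂ * h₂ := congrArg Subtype.val heq
      have h1 : f₂⁻¹ * f₁ = h₂ * h₁⁻¹ := by
        calc f₂⁻¹ * f₁ = f₂⁻¹ * (f₁ * h₁) * h₁⁻¹ := by group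
          _ = f₂⁻¹ * (f₂ * h₂) * h₁⁻¹ := by rw [heq']
          _ = h₂ * h₁⁻¹ := by group
      have h2 : f₂⁻¹ * f₁ = 1 :=
        hpq.eq_one_of_mem (F.mul_mem (F.inv_mem hf₂) hf₁)
          (h1 ▸ H.mul_mem hh₂ (H.inv_mem hh₁))
      have h3 : h₂ * h₁⁻¹ = 1 := h1 ▸ h2
      have e1 : f₁ = f₂ := by
        calc f₁ = f₂ * (f₂⁻¹ * f₁) := by group
          _ = f₂ := by rw [h2, mul_one]
      have e2 : h₁ = h₂ := by
        calc h₁ = (h₂ * h₁⁻¹)⁻¹ * h₂ := by group
          _ = h₂ := by rw [h3, inv_one, one_mul]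
      subst e1 e2
      rfl
    · rintro ⟨a, ha⟩
      obtain ⟨f, hf, h, hh, rfl⟩ := hpq.mem_sup.mp ha
      exact ⟨(⟨f, hf⟩, ⟨h, hh⟩), rfl⟩
  rw [← Nat.card_congr e, Nat.card_prod, hpq.cardF, hpq.cardH, mul_comm]

/-- **(A1)** existence: every element of `F ⊔ H` outside `F` is conjugate into `H` by an element
of `F`. -/
theorem exists_conj_mem (hpq : IsPQ p q F H) {a : T} (ha : a ∈ F ⊔ H) (haF : a ∉ F) :
    ∃ x ∈ F, x⁻¹ * a * x ∈ H := by
  haveI := hpq.finiteF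
  obtain ⟨f, hf, h, hh, rfl⟩ := hpq.mem_sup.mp ha
  have hh1 : h ≠ 1 := by
    rintro rfl
    apply haF
    simpa using hf
  let φ : F → F := fun x => ⟨(x : T) * (h * (x : T)⁻¹ * h⁻¹),
    F.mul_mem x.2 (hpq.norm h hh _ (F.inv_mem x.2))⟩
  have hinj : Function.Injective φ := by
    intro x y hxy
    have h1 : (x : T) * (h * (x : T)⁻¹ * h⁻¹) = (y : T) * (h * (y : T)⁻¹ * h⁻¹) :=
      congrArg Subtype.val hxy
    have h2 : h * ((y : T)⁻¹ * (x : T)) = ((y : T)⁻¹ * (x : T)) * h := by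
      have : (y : T)⁻¹ * ((x : T) * (h * (x : T)⁻¹ * h⁻¹)) * h * (x : T)
          = (y : T)⁻¹ * ((y : T) * (h * (y : T)⁻¹ * h⁻¹)) * h * (x : T) := by rw [h1]
      calc h * ((y : T)⁻¹ * (x : T))
          = (y : T)⁻¹ * ((y : T) * (h * (y : T)⁻¹ * h⁻¹)) * h * (x : T) := by group
        _ = (y : T)⁻¹ * ((x : T) * (h * (x : T)⁻¹ * h⁻¹)) * h * (x : T) := this.symm
        _ = ((y : T)⁻¹ * (x : T)) * h := by group
    have h3 := hpq.fpf hh hh1 (F.mul_mem (F.inv_mem y.2) x.2) h2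
    apply Subtype.ext
    calc (x : T) = (y : T) * ((y : T)⁻¹ * (x : T)) := by group
      _ = y := by rw [h3, mul_one]
  obtain ⟨x, hx⟩ := (Finite.injective_iff_surjective.mp hinj) ⟨f, hf⟩
  have hx' : (x : T) * (h * (x : T)⁻¹ * h⁻¹) = f := congrArg Subtype.val hx
  refine ⟨x, x.2, ?_⟩
  rw [← hx']
  have : (x : T)⁻¹ * ((x : T) * (h * (x : T)⁻¹ * h⁻¹) * h) * (x : T) = h := by group
  rw [this]
  exact hh

/-- **(A1)** uniqueness: a non-identity element lies in at most one `F`-conjugate of `H`. -/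
theorem conj_unique (hpq : IsPQ p q F H) {a x y : T} (ha1 : a ≠ 1) (hx : x ∈ F) (hy : y ∈ F)
    (hax : x⁻¹ * a * x ∈ H) (hay : y⁻¹ * a * y ∈ H) : x = y := by
  set h₁ := x⁻¹ * a * x with hh₁
  have hh₁1 : h₁ ≠ 1 := by
    intro h
    apply ha1
    calc a = x * h₁ * x⁻¹ := by rw [hh₁]; group
      _ = 1 := by rw [h]; group
  have hz : y⁻¹ * x ∈ F := F.mul_mem (F.inv_mem hy) hx
  have e : y⁻¹ * a * y = (y⁻¹ * x) * h₁ * (y⁻¹ * x)⁻¹ := by rw [hh₁]; group
  have hmemH : (y⁻¹ * x) * h₁ * (y⁻¹ * x)⁻¹ * h₁⁻¹ ∈ H := by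
    rw [← e]
    exact H.mul_mem hay (H.inv_mem hax)
  have hmemF : (y⁻¹ * x) * h₁ * (y⁻¹ * x)⁻¹ * h₁⁻¹ ∈ F := by
    have : (y⁻¹ * x) * h₁ * (y⁻¹ * x)⁻¹ * h₁⁻¹ = (y⁻¹ * x) * (h₁ * (y⁻¹ * x)⁻¹ * h₁⁻¹) := by group
    rw [this]
    exact F.mul_mem hz (hpq.norm h₁ hax _ (F.inv_mem hz))
  have h1 := hpq.eq_one_of_mem hmemF hmemH
  have h2 : h₁ * (y⁻¹ * x) = (y⁻¹ * x) * h₁ := by
    calc h₁ * (y⁻¹ * x) = ((y⁻¹ * x) * h₁ * (y⁻¹ * x)⁻¹ * h₁⁻¹)⁻¹ * ((y⁻¹ * x) * h₁) := by group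
      _ = (y⁻¹ * x) * h₁ := by rw [h1, inv_one, one_mul]
  have h3 := hpq.fpf hax hh₁1 hz h2
  calc x = y * (y⁻¹ * x) := by group
    _ = y := by rw [h3, mul_one]

/-- elements of `F ⊔ H` outside `F` have order `p` -/
theorem orderOf_eq_p (hpq : IsPQ p q F H) {a : T} (ha : a ∈ F ⊔ H) (haF : a ∉ F) :
    orderOf a = p := by
  obtain ⟨x, hx, hxa⟩ := hpq.exists_conj_mem ha haF
  rw [← orderOf_conj' x a]
  apply orderOf_of_card_prime hpq.hp hpq.cardH hxa
  intro h1
  apply haF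
  have : a = x * (x⁻¹ * a * x) * x⁻¹ := by group
  rw [this, h1]
  simp

theorem orderOf_eq_q (hpq : IsPQ p q F H) {f : T} (hf : f ∈ F) (hf1 : f ≠ 1) : orderOf f = q :=
  orderOf_of_card_prime hpq.hq hpq.cardF hf hf1

/-- every element of `F ⊔ H` has order `1`, `p` or `q` -/
theorem orderOf_cases (hpq : IsPQ p q F H) {a : T} (ha : a ∈ F ⊔ H) :
    a = 1 ∨ orderOf a = p ∨ orderOf a = q := by
  by_cases haF : a ∈ F
  · by_cases ha1 : a = 1
    · exact Or.inl ha1
    · exact Or.inr (Or.inr (hpq.orderOf_eq_q haF ha1))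
  · exact Or.inr (Or.inl (hpq.orderOf_eq_p ha haF))

theorem conj_le_sup (_hpq : IsPQ p q F H) {x : T} (hx : x ∈ F ⊔ H) :
    H.map (MulAut.conj x).toMonoidHom ≤ F ⊔ H := by
  rintro _ ⟨h, hh, rfl⟩
  show x * h * x⁻¹ ∈ F ⊔ H
  exact (F ⊔ H).mul_mem ((F ⊔ H).mul_mem hx (Subgroup.mem_sup_right hh)) ((F ⊔ H).inv_mem hx)

theorem mem_conj_iff {x a : T} {K : Subgroup T} :
    a ∈ K.map (MulAut.conj x).toMonoidHom ↔ x⁻¹ * a * x ∈ K := by
  constructor
  · rintro ⟨h, hh, rfl⟩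
    show x⁻¹ * (x * h * x⁻¹) * x ∈ K
    have : x⁻¹ * (x * h * x⁻¹) * x = h := by group
    rw [this]; exact hh
  · intro h
    refine ⟨x⁻¹ * a * x, h, ?_⟩
    show x * (x⁻¹ * a * x) * x⁻¹ = a
    group

/-- **(A2)** the subgroups of `F ⊔ H`. -/
theorem subgroup_cases (hpq : IsPQ p q F H) {B : Subgroup T} (hB : B ≤ F ⊔ H) :
    B = ⊥ ∨ B = F ∨ B = F ⊔ H ∨ ∃ x ∈ F, B = H.map (MulAut.conj x).toMonoidHom := by
  by_cases hFB : F ≤ B
  · by_cases hBF : B ≤ F
    · exact Or.inr (Or.inl (le_antisymm hBF hFB))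
    · refine Or.inr (Or.inr (Or.inl (le_antisymm hB ?_)))
      obtain ⟨b, hb, hbF⟩ := SetLike.not_le_iff_exists.mp hBF
      obtain ⟨f, hf, h, hh, rfl⟩ := hpq.mem_sup.mp (hB hb)
      have hh1 : h ≠ 1 := by
        rintro rfl
        apply hbF
        simpa using hf
      have hhB : h ∈ B := by
        have : h = f⁻¹ * (f * h) := by group
        rw [this]
        exact B.mul_mem (B.inv_mem (hFB hf)) hb
      refine sup_le hFB ?_
      intro y hy
      obtain ⟨i, rfl⟩ := Subgroup.mem_zpowers_iff.mp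
        (mem_zpowers_of_card_prime hpq.hp hpq.cardH hh hh1 hy)
      exact B.zpow_mem hhB i
  · have hBF : ∀ b ∈ B, b ∈ F → b = 1 := by
      intro b hb hbF
      by_contra hb1
      apply hFB
      intro y hy
      obtain ⟨i, rfl⟩ := Subgroup.mem_zpowers_iff.mp
        (mem_zpowers_of_card_prime hpq.hq hpq.cardF hbF hb1 hy)
      exact B.zpow_mem hb i
    by_cases hbot : B = ⊥
    · exact Or.inl hbot
    · refine Or.inr (Or.inr (Or.inr ?_))
      obtain ⟨⟨b, hbB⟩, hb1⟩ := (Subgroup.ne_bot_iff_exists_ne_one.mp hbot)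
      have hb1' : b ≠ 1 := fun h => hb1 (Subtype.ext h)
      have hbF : b ∉ F := fun h => hb1' (hBF b hbB h)
      obtain ⟨x, hx, hxb⟩ := hpq.exists_conj_mem (hB hbB) hbF
      set h := x⁻¹ * b * x with hh
      have hh1 : h ≠ 1 := by
        intro h1
        apply hb1'
        calc b = x * h * x⁻¹ := by rw [hh]; group
          _ = 1 := by rw [h1]; group
      have hbx : b = x * h * x⁻¹ := by rw [hh]; group
      refine ⟨x, hx, le_antisymm ?_ ?_⟩
      · intro b' hb'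
        rw [mem_conj_iff]
        by_cases hb'1 : b' = 1
        · subst hb'1
          simp
        · have hb'F : b' ∉ F := fun h => hb'1 (hBF b' hb' h)
          obtain ⟨y, hy, hyb⟩ := hpq.exists_conj_mem (hB hb') hb'F
          set h'' := y⁻¹ * b' * y with hh''
          obtain ⟨i, hi⟩ := Subgroup.mem_zpowers_iff.mp
            (mem_zpowers_of_card_prime hpq.hp hpq.cardH hxb hh1 hyb)
          have hb'y : b' = y * h'' * y⁻¹ := by rw [hh'']; group
          -- `b ^ i = x * h'' * x⁻¹`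
          have hbi : b ^ i = x * h'' * x⁻¹ := by
            rw [hbx, ← hi]
            have := map_zpow (MulAut.conj x).toMonoidHom h i
            simp only [MulEquiv.toMonoidHom_eq_coe, MonoidHom.coe_coe, MulAut.conj_apply] at this
            exact this.symm
          have hmemB : b' * (b ^ i)⁻¹ ∈ B := B.mul_mem hb' (B.inv_mem (B.zpow_mem hbB i))
          have hmemF : b' * (b ^ i)⁻¹ ∈ F := by
            rw [hbi, hb'y]
            have : y * h'' * y⁻¹ * (x * h'' * x⁻¹)⁻¹ = y * (h'' * (y⁻¹ * x) * h''⁻¹) * x⁻¹ := by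
              group
            rw [this]
            exact F.mul_mem (F.mul_mem hy (hpq.norm h'' hyb _ (F.mul_mem (F.inv_mem hy) hx)))
              (F.inv_mem hx)
          have h1 := hBF _ hmemB hmemF
          have h2 : b' = b ^ i := by
            calc b' = b' * (b ^ i)⁻¹ * b ^ i := by group
              _ = b ^ i := by rw [h1, one_mul]
          rw [h2, hbi]
          have : x⁻¹ * (x * h'' * x⁻¹) * x = h'' := by group
          rw [this]
          exact hyb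
      · intro y hy
        rw [mem_conj_iff] at hy
        obtain ⟨i, hi⟩ := Subgroup.mem_zpowers_iff.mp
          (mem_zpowers_of_card_prime hpq.hp hpq.cardH hxb hh1 hy)
        have : y = b ^ i := by
          rw [hbx]
          have h3 := map_zpow (MulAut.conj x).toMonoidHom h i
          simp only [MulEquiv.toMonoidHom_eq_coe, MonoidHom.coe_coe, MulAut.conj_apply] at h3
          rw [← h3, hi]
          group
        rw [this]
        exact B.zpow_mem hbB i

theorem card_conj (x : T) (K : Subgroup T) :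
    Nat.card (K.map (MulAut.conj x).toMonoidHom) = Nat.card K :=
  Subgroup.card_map_of_injective (MulAut.conj x).injective

/-- `F ⊔ H` is not commutative -/
theorem not_comm_sup (hpq : IsPQ p q F H) :
    ¬ ∀ x ∈ F ⊔ H, ∀ y ∈ F ⊔ H, x * y = y * x := by
  intro hc
  obtain ⟨h, hh, f, hf, hne⟩ := hpq.noncomm
  exact hne (hc h (Subgroup.mem_sup_right hh) f (Subgroup.mem_sup_left hf))

/-- **(A2)** abelian subgroups of `F ⊔ H` are trivial or of prime order (the hypothesis `hAab` of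
`S3L.l_star`). -/
theorem abelian_sub (hpq : IsPQ p q F H) (B : Subgroup T) (hB : B ≤ F ⊔ H)
    (hBc : ∀ x ∈ B, ∀ y ∈ B, x * y = y * x) : B = ⊥ ∨ (Nat.card B).Prime := by
  rcases hpq.subgroup_cases hB with h | h | h | ⟨x, -, h⟩
  · exact Or.inl h
  · right; rw [h, hpq.cardF]; exact hpq.hq
  · exfalso; rw [h] at hBc; exact hpq.not_comm_sup hBc
  · right; rw [h, card_conj, hpq.cardH]; exact hpq.hp

/-- **(A2)** proper subgroups of `F ⊔ H` are trivial or of prime order. -/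
theorem proper_sub (hpq : IsPQ p q F H) (B : Subgroup T) (hB : B ≤ F ⊔ H) (hne : B ≠ F ⊔ H) :
    B = ⊥ ∨ (Nat.card B).Prime := by
  rcases hpq.subgroup_cases hB with h | h | h | ⟨x, -, h⟩
  · exact Or.inl h
  · right; rw [h, hpq.cardF]; exact hpq.hq
  · exact absurd h hne
  · right; rw [h, card_conj, hpq.cardH]; exact hpq.hp

/-- **(A2)** a subgroup of `F ⊔ H` containing non-identity elements of two distinct `F`-conjugates
of `H` is everything. -/
theorem eq_sup_of_two (hpq : IsPQ p q F H) {B : Subgroup T} (hB : B ≤ F ⊔ H) {a b x y : T}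
    (ha : a ∈ B) (hb : b ∈ B) (ha1 : a ≠ 1) (hb1 : b ≠ 1) (hx : x ∈ F) (hy : y ∈ F)
    (hax : x⁻¹ * a * x ∈ H) (hby : y⁻¹ * b * y ∈ H) (hxy : x ≠ y) : B = F ⊔ H := by
  have haF : a ∉ F := by
    intro h
    apply ha1
    have h1 : x⁻¹ * a * x = 1 := hpq.eq_one_of_mem (F.mul_mem (F.mul_mem (F.inv_mem hx) h) hx) hax
    calc a = x * (x⁻¹ * a * x) * x⁻¹ := by group
      _ = 1 := by rw [h1]; group
  rcases hpq.subgroup_cases hB with h | h | h | ⟨z, hz, h⟩
  · rw [h] at ha; exact absurd (Subgroup.mem_bot.mp ha) ha1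
  · rw [h] at ha; exact absurd ha haF
  · exact h
  · exfalso
    rw [h, mem_conj_iff] at ha hb
    have e1 := hpq.conj_unique ha1 hx hz hax ha
    have e2 := hpq.conj_unique hb1 hy hz hby hb
    exact hxy (e1.trans e2.symm)

/-- **(A2)** two distinct `F`-conjugates of `H` generate `F ⊔ H`. -/
theorem sup_conj_eq (hpq : IsPQ p q F H) {x y : T} (hx : x ∈ F) (hy : y ∈ F) (hxy : x ≠ y) :
    H.map (MulAut.conj x).toMonoidHom ⊔ H.map (MulAut.conj y).toMonoidHom = F ⊔ H := by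
  obtain ⟨h, hh, hh1⟩ := hpq.exists_H_ne_one
  have hB : H.map (MulAut.conj x).toMonoidHom ⊔ H.map (MulAut.conj y).toMonoidHom ≤ F ⊔ H :=
    sup_le (hpq.conj_le_sup (Subgroup.mem_sup_left hx)) (hpq.conj_le_sup (Subgroup.mem_sup_left hy))
  have hne : ∀ z : T, z * h * z⁻¹ ≠ 1 := by
    intro z hz
    apply hh1
    calc h = z⁻¹ * (z * h * z⁻¹) * z := by group
      _ = 1 := by rw [hz]; group
  refine hpq.eq_sup_of_two hB (a := x * h * x⁻¹) (b := y * h * y⁻¹) (x := x) (y := y)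
    (Subgroup.mem_sup_left ⟨h, hh, rfl⟩) (Subgroup.mem_sup_right ⟨h, hh, rfl⟩) (hne x) (hne y)
    hx hy ?_ ?_ hxy
  · have : x⁻¹ * (x * h * x⁻¹) * x = h := by group
    rw [this]; exact hh
  · have : y⁻¹ * (y * h * y⁻¹) * y = h := by group
    rw [this]; exact hh

/-- **(A3)** the subgroups of `F ⊔ H` normalized by `F ⊔ H`. -/
theorem normal_cases (hpq : IsPQ p q F H) {B : Subgroup T} (hB : B ≤ F ⊔ H)
    (hn : ∀ a ∈ F ⊔ H, ∀ b ∈ B, a * b * a⁻¹ ∈ B) : B = ⊥ ∨ B = F ∨ B = F ⊔ H := by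
  rcases hpq.subgroup_cases hB with h | h | h | ⟨x, hx, h⟩
  · exact Or.inl h
  · exact Or.inr (Or.inl h)
  · exact Or.inr (Or.inr h)
  · exfalso
    obtain ⟨f, hf, hf1⟩ := hpq.exists_F_ne_one
    obtain ⟨k, hk, hk1⟩ := hpq.exists_H_ne_one
    have hbB : x * k * x⁻¹ ∈ B := by rw [h]; exact ⟨k, hk, rfl⟩
    have hb1 : x * k * x⁻¹ ≠ 1 := by
      intro hz
      apply hk1
      calc k = x⁻¹ * (x * k * x⁻¹) * x := by group
        _ = 1 := by rw [hz]; group
    have h1 := hn f (Subgroup.mem_sup_left hf) _ hbB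
    rw [h, mem_conj_iff] at h1
    have h2 : (f⁻¹ * x)⁻¹ * (x * k * x⁻¹) * (f⁻¹ * x) ∈ H := by
      have : (f⁻¹ * x)⁻¹ * (x * k * x⁻¹) * (f⁻¹ * x) = x⁻¹ * (f * (x * k * x⁻¹) * f⁻¹) * x := by
        group
      rw [this]; exact h1
    have h3 : x⁻¹ * (x * k * x⁻¹) * x ∈ H := by
      have : x⁻¹ * (x * k * x⁻¹) * x = k := by group
      rw [this]; exact hk
    have e := hpq.conj_unique hb1 (F.mul_mem (F.inv_mem hf) hx) hx h2 h3
    apply hf1
    have : f⁻¹ = 1 := by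
      calc f⁻¹ = (f⁻¹ * x) * x⁻¹ := by group
        _ = 1 := by rw [e]; group
    simpa using this

/-- **(A3)** `F` is the derived subgroup of `F ⊔ H`. -/
theorem commutator_eq (hpq : IsPQ p q F H) : ⁅F ⊔ H, F ⊔ H⁆ = F := by
  apply le_antisymm
  · rw [Subgroup.commutator_le]
    intro a ha b hb
    obtain ⟨f, hf, h, hh, rfl⟩ := hpq.mem_sup.mp ha
    obtain ⟨f', hf', h', hh', rfl⟩ := hpq.mem_sup.mp hb
    have e : h' * h⁻¹ = h⁻¹ * h' := hpq.commH hh' (H.inv_mem hh)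
    have : ⁅f * h, f' * h'⁆ = f * (h * f' * h⁻¹) * (h' * f⁻¹ * h'⁻¹) * f'⁻¹ := by
      rw [commutatorElement_def]
      calc f * h * (f' * h') * (f * h)⁻¹ * (f' * h')⁻¹
          = f * h * f' * (h' * h⁻¹) * f⁻¹ * h'⁻¹ * f'⁻¹ := by group
        _ = f * h * f' * (h⁻¹ * h') * f⁻¹ * h'⁻¹ * f'⁻¹ := by rw [e]
        _ = f * (h * f' * h⁻¹) * (h' * f⁻¹ * h'⁻¹) * f'⁻¹ := by group
    rw [this]
    exact F.mul_mem (F.mul_mem (F.mul_mem hf (hpq.norm h hh f' hf'))
      (hpq.norm h' hh' _ (F.inv_mem hf))) (F.inv_mem hf')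
  · obtain ⟨h, hh, f, hf, hne⟩ := hpq.noncomm
    have hc : ⁅h, f⁆ ∈ ⁅F ⊔ H, F ⊔ H⁆ :=
      Subgroup.commutator_mem_commutator (Subgroup.mem_sup_right hh) (Subgroup.mem_sup_left hf)
    have hcF : ⁅h, f⁆ ∈ F := by
      rw [commutatorElement_def]
      exact F.mul_mem (hpq.norm h hh f hf) (F.inv_mem hf)
    have hc1 : ⁅h, f⁆ ≠ 1 := by
      intro h1
      apply hne
      exact (commutatorElement_eq_one_iff_mul_comm.mp h1)
    intro y hy
    obtain ⟨i, rfl⟩ := Subgroup.mem_zpowers_iff.mp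
      (mem_zpowers_of_card_prime hpq.hq hpq.cardF hcF hc1 hy)
    exact Subgroup.zpow_mem _ hc i

/-- **(A3)** whenever `F ⊔ H` normalizes `Z` and the automorphisms induced on `Z` commute
(e.g. `Z` cyclic), `F` centralizes `Z`. Stated with an arbitrary subgroup `C` containing all
commutators of elements of `F ⊔ H`. -/
theorem F_le_of_commutators_mem (hpq : IsPQ p q F H) {C : Subgroup T}
    (hC : ∀ a ∈ F ⊔ H, ∀ b ∈ F ⊔ H, a * b * a⁻¹ * b⁻¹ ∈ C) : F ≤ C := by
  rw [← hpq.commutator_eq, Subgroup.commutator_le]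
  intro a ha b hb
  rw [commutatorElement_def]
  exact hC a ha b hb

/-- transport along an injective homomorphism -/
theorem map {T' : Type*} [Group T'] (hpq : IsPQ p q F H) (φ : T →* T')
    (hφ : Function.Injective φ) : IsPQ p q (F.map φ) (H.map φ) where
  hp := hpq.hp
  hq := hpq.hq
  cardF := by rw [Subgroup.card_map_of_injective hφ, hpq.cardF]
  cardH := by rw [Subgroup.card_map_of_injective hφ, hpq.cardH]
  norm := by
    rintro _ ⟨h, hh, rfl⟩ _ ⟨f, hf, rfl⟩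
    exact ⟨h * f * h⁻¹, hpq.norm h hh f hf, by simp⟩
  noncomm := by
    obtain ⟨h, hh, f, hf, hne⟩ := hpq.noncomm
    refine ⟨φ h, ⟨h, hh, rfl⟩, φ f, ⟨f, hf, rfl⟩, ?_⟩
    intro h1
    apply hne
    apply hφ
    simpa using h1

/-- replacing `H` by a conjugate under `F ⊔ H` -/
theorem conj_right (hpq : IsPQ p q F H) {x : T} (hx : x ∈ F ⊔ H) :
    IsPQ p q F (H.map (MulAut.conj x).toMonoidHom) where
  hp := hpq.hp
  hq := hpq.hq
  cardF := hpq.cardF
  cardH := by rw [card_conj, hpq.cardH]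
  norm := by
    rintro _ ⟨h, hh, rfl⟩ f hf
    show x * h * x⁻¹ * f * (x * h * x⁻¹)⁻¹ ∈ F
    have : x * h * x⁻¹ * f * (x * h * x⁻¹)⁻¹ = x * (h * (x⁻¹ * f * x) * h⁻¹) * x⁻¹ := by group
    rw [this]
    exact hpq.norm_sup hx (hpq.norm h hh _ (hpq.norm_sup' hx hf))
  noncomm := by
    obtain ⟨h, hh, f, hf, hne⟩ := hpq.noncomm
    refine ⟨x * h * x⁻¹, ⟨h, hh, rfl⟩, x * f * x⁻¹, hpq.norm_sup hx hf, ?_⟩
    intro h1
    apply hne
    calc h * f = x⁻¹ * (x * h * x⁻¹ * (x * f * x⁻¹)) * x := by group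
      _ = x⁻¹ * (x * f * x⁻¹ * (x * h * x⁻¹)) * x := by rw [h1]
      _ = f * h := by group

theorem sup_conj_right (hpq : IsPQ p q F H) {x : T} (hx : x ∈ F ⊔ H) :
    F ⊔ H.map (MulAut.conj x).toMonoidHom = F ⊔ H := by
  apply le_antisymm
  · exact sup_le le_sup_left (hpq.conj_le_sup hx)
  · refine sup_le le_sup_left ?_
    intro h hh
    -- `h = x⁻¹ (x h x⁻¹) x` and `x = f k`
    obtain ⟨f, hf, k, hk, rfl⟩ := hpq.mem_sup.mp hx
    -- `(f k) h (f k)⁻¹ ∈ conj`, and `h = k⁻¹ f⁻¹ [ (fk) (k h k⁻¹)' ... ]`; use `H` abelian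
    have e : k * h * k⁻¹ = h := by
      have := hpq.commH hk hh
      calc k * h * k⁻¹ = h * k * k⁻¹ := by rw [this]
        _ = h := by group
    have h1 : f * h * f⁻¹ ∈ H.map (MulAut.conj (f * k)).toMonoidHom := by
      refine ⟨h, hh, ?_⟩
      show f * k * h * (f * k)⁻¹ = f * h * f⁻¹
      calc f * k * h * (f * k)⁻¹ = f * (k * h * k⁻¹) * f⁻¹ := by group
        _ = f * h * f⁻¹ := by rw [e]
    have : h = f⁻¹ * (f * h * f⁻¹) * f := by group
    rw [this]
    exact Subgroup.mul_mem _ (Subgroup.mul_mem _ (Subgroup.mem_sup_left (F.inv_mem hf))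
      (Subgroup.mem_sup_right h1)) (Subgroup.mem_sup_left hf)

end IsPQ

/-- a non-abelian group of order `pq`, `p < q`: abstract existence of `F` and `H`. -/
theorem exists_isPQ_of_lt {A : Type*} [Group A] [Finite A] {p q : ℕ} (hp : p.Prime)
    (hq : q.Prime) (hlt : p < q) (hA : Nat.card A = p * q) (hna : ¬ IsMulCommutative A) :
    ∃ F H : Subgroup A, IsPQ p q F H ∧ F ⊔ H = ⊤ ∧ F.Normal := by
  haveI : Fact p.Prime := ⟨hp⟩
  haveI : Fact q.Prime := ⟨hq⟩
  have hne : p ≠ q := hlt.ne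
  obtain P : Sylow q A := default
  obtain R : Sylow p A := default
  have hcardP : Nat.card P = q := by
    rw [Sylow.card_eq_multiplicity, hA, Nat.factorization_mul hp.ne_zero hq.ne_zero,
      hp.factorization, hq.factorization]
    simp [hne]
  have hcardR : Nat.card R = p := by
    rw [Sylow.card_eq_multiplicity, hA, Nat.factorization_mul hp.ne_zero hq.ne_zero,
      hp.factorization, hq.factorization]
    simp [hne.symm]
  have hindex : (P : Subgroup A).index = p := by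
    have h1 := (P : Subgroup A).card_mul_index
    rw [hcardP, hA, mul_comm] at h1
    exact Nat.eq_of_mul_eq_mul_right hq.pos h1
  have hnorm : (P : Subgroup A).Normal := by
    have h1 : Nat.card (Sylow q A) ≡ 1 [MOD q] := card_sylow_modEq_one q A
    have h2 : Nat.card (Sylow q A) ∣ p := hindex ▸ P.card_dvd_index
    have h3 : Nat.card (Sylow q A) = 1 := by
      rcases (Nat.dvd_prime hp).mp h2 with h | h
      · exact h
      · exfalso
        rw [h] at h1
        have h4 : p % q = 1 % q := h1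
        rw [Nat.mod_eq_of_lt hlt, Nat.mod_eq_of_lt hq.one_lt] at h4
        exact hp.one_lt.ne' h4
    haveI : Subsingleton (Sylow q A) := (Nat.card_eq_one_iff_unique.mp h3).1
    exact Sylow.normal_of_subsingleton P
  have hdisj : (P : Subgroup A) ⊓ (R : Subgroup A) = ⊥ :=
    (Subgroup.disjoint_of_coprime_natCard (by
      rw [hcardP, hcardR]; exact (Nat.coprime_primes hq hp).mpr hne.symm)).eq_bot
  have htop : (P : Subgroup A) ⊔ (R : Subgroup A) = ⊤ := by
    apply Subgroup.eq_top_of_card_eq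
    have h1 : Nat.card (P : Subgroup A) ∣ Nat.card ((P : Subgroup A) ⊔ (R : Subgroup A) : Subgroup A) :=
      Subgroup.card_dvd_of_le le_sup_left
    have h2 : Nat.card (R : Subgroup A) ∣ Nat.card ((P : Subgroup A) ⊔ (R : Subgroup A) : Subgroup A) :=
      Subgroup.card_dvd_of_le le_sup_right
    rw [hcardP] at h1
    rw [hcardR] at h2
    have h3 : p * q ∣ Nat.card ((P : Subgroup A) ⊔ (R : Subgroup A) : Subgroup A) :=
      ((Nat.coprime_primes hp hq).mpr hne).mul_dvd_of_dvd_of_dvd h2 h1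
    have h4 : Nat.card ((P : Subgroup A) ⊔ (R : Subgroup A) : Subgroup A) ∣ p * q :=
      hA ▸ Subgroup.card_subgroup_dvd_card _
    exact (Nat.dvd_antisymm h4 h3).trans hA.symm
  refine ⟨P, R, ⟨hp, hq, hcardP, hcardR, fun h _ f hf => hnorm.conj_mem f hf h, ?_⟩, htop, hnorm⟩
  by_contra hcon0
  have hcon : ∀ h ∈ (R : Subgroup A), ∀ f ∈ (P : Subgroup A), h * f = f * h := by
    intro h hh f hf
    by_contra hne'
    exact hcon0 ⟨h, hh, f, hf, hne'⟩
  apply hna
  refine ⟨⟨fun a b => ?_⟩⟩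
  have hmem : ∀ a : A, ∃ f ∈ (P : Subgroup A), ∃ h ∈ (R : Subgroup A), a = f * h := by
    intro a
    have ha : a ∈ (P : Subgroup A) ⊔ (R : Subgroup A) := htop ▸ Subgroup.mem_top a
    obtain ⟨f, hf, h, hh, e⟩ := Subgroup.mem_sup_of_normal_left.mp ha
    exact ⟨f, hf, h, hh, e.symm⟩
  obtain ⟨f, hf, h, hh, rfl⟩ := hmem a
  obtain ⟨f', hf', h', hh', rfl⟩ := hmem b
  have e1 : f * f' = f' * f := comm_of_card_prime hq hcardP hf hf'
  have e2 : h * h' = h' * h := comm_of_card_prime hp hcardR hh hh'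
  have e3 : h * f' = f' * h := hcon h hh f' hf'
  have e4 : h' * f = f * h' := hcon h' hh' f hf
  calc f * h * (f' * h') = f * (h * f') * h' := by group
    _ = f * (f' * h) * h' := by rw [e3]
    _ = (f * f') * (h * h') := by group
    _ = (f' * f) * (h' * h) := by rw [e1, e2]
    _ = f' * (f * h') * h := by group
    _ = f' * (h' * f) * h := by rw [e4]
    _ = f' * h' * (f * h) := by group

/-- a non-abelian group of order `pq`, `p ≠ q`: abstract existence of `F` and `H`, after possibly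
swapping the two primes. -/
theorem exists_isPQ {A : Type*} [Group A] [Finite A] {p q : ℕ} (hp : p.Prime)
    (hq : q.Prime) (hne : p ≠ q) (hA : Nat.card A = p * q) (hna : ¬ IsMulCommutative A) :
    ∃ p' q' : ℕ, (p' = p ∧ q' = q ∨ p' = q ∧ q' = p) ∧
      ∃ F H : Subgroup A, IsPQ p' q' F H ∧ F ⊔ H = ⊤ ∧ F.Normal := by
  rcases lt_or_gt_of_ne hne with h | h
  · exact ⟨p, q, Or.inl ⟨rfl, rfl⟩, exists_isPQ_of_lt hp hq h hA hna⟩
  · exact ⟨q, p, Or.inr ⟨rfl, rfl⟩, exists_isPQ_of_lt hq hp h (by rw [hA, mul_comm]) hna⟩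

end Cfsg.Agent.Lib.Helper2.PQA
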