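import Mathlib
import Cfsg.Agent.Lib.Helper2.PQA
import Cfsg.Agent.Lib.Helper4.PQDefs

set_option autoImplicit false
set_option linter.unusedSectionVars false

/-! Package PQ-A of the S4306 swarm in the vocabulary of `Helper4.PQDefs` (`FrobPQ`, `conjSub`):
the exact statements of `notes/S4306_skeleton.lean.txt`, derived from `Helper2.PQA.IsPQ`. -/

namespace Cfsg.Agent.Lib.Helper2.PQA2

open Cfsg.Agent.Lib.Helper4.PQ Cfsg.Agent.Lib.Helper8.SBS Cfsg.Agent.Lib.Helper2.PQA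

universe w

variable {T : Type w} [Group T] [Finite T] {A F H₀ : Subgroup T} {p q : ℕ}

theorem FrobPQ.isPQ (h : FrobPQ A F H₀ p q) : IsPQ p q F H₀ where
  hp := h.hp
  hq := h.hq
  cardF := h.hF
  cardH := h.hH
  norm := fun a ha f hf => h.hFn a (h.hHA ha) f hf
  noncomm := by
    obtain ⟨a, ha, ha1⟩ := exists_ne_one_of_card_prime h.hp h.hH
    obtain ⟨f, hf, hf1⟩ := exists_ne_one_of_card_prime h.hq h.hF
    exact ⟨a, ha, f, hf, fun hc => hf1 (h.hfpf a ha ha1 f hf hc)⟩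

theorem FrobPQ.sup_eq (h : FrobPQ A F H₀ p q) : F ⊔ H₀ = A := by
  have hle : F ⊔ H₀ ≤ A := sup_le h.hFA h.hHA
  have hcard : Nat.card (F ⊔ H₀ : Subgroup T) = Nat.card A := by
    rw [(FrobPQ.isPQ h).card_sup, h.hA]
  exact Subgroup.eq_of_le_of_card_ge hle hcard.ge

/-- (A1) -/
theorem FrobPQ.mem_cases (h : FrobPQ A F H₀ p q) {a : T} (ha : a ∈ A) :
    a ∈ F ∨ ∃ x ∈ F, x⁻¹ * a * x ∈ H₀ := by
  by_cases haF : a ∈ F
  · exact Or.inl haF
  · exact Or.inr ((FrobPQ.isPQ h).exists_conj_mem (by rw [FrobPQ.sup_eq h]; exact ha) haF)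

/-- (A1) orders -/
theorem FrobPQ.orderOf_mem_F (h : FrobPQ A F H₀ p q) {a : T} (ha : a ∈ F) (h1 : a ≠ 1) :
    orderOf a = q :=
  (FrobPQ.isPQ h).orderOf_eq_q ha h1

theorem FrobPQ.orderOf_mem_H (h : FrobPQ A F H₀ p q) {a : T} (ha : a ∈ H₀) (h1 : a ≠ 1) :
    orderOf a = p :=
  orderOf_of_card_prime h.hp h.hH ha h1

/-- `H₀` can be replaced by a conjugate -/
theorem FrobPQ.conj (h : FrobPQ A F H₀ p q) {x : T} (hx : x ∈ F) :
    FrobPQ A F (conjSub x H₀) p q := by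
  have hx' : x ∈ F ⊔ H₀ := Subgroup.mem_sup_left hx
  have hpq' : IsPQ p q F (conjSub x H₀) := (FrobPQ.isPQ h).conj_right hx'
  exact
    { hp := h.hp
      hq := h.hq
      hpq := h.hpq
      hFA := h.hFA
      hHA := by
        have := (FrobPQ.isPQ h).conj_le_sup hx'
        rwa [FrobPQ.sup_eq h] at this
      hF := h.hF
      hH := hpq'.cardH
      hA := h.hA
      hFn := h.hFn
      hfpf := fun a ha ha1 f hf hc => hpq'.fpf ha ha1 hf hc }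

/-- (A1) `N_A(H₀) = H₀`, in the form: distinct `x` give distinct conjugates -/
theorem FrobPQ.conj_inj (h : FrobPQ A F H₀ p q) {x y : T} (hx : x ∈ F) (hy : y ∈ F)
    (hxy : conjSub x H₀ = conjSub y H₀) : x = y := by
  obtain ⟨a, ha, ha1⟩ := exists_ne_one_of_card_prime h.hp h.hH
  have h1 : x * a * x⁻¹ ∈ conjSub x H₀ := by
    rw [mem_conjSub]
    have : x⁻¹ * (x * a * x⁻¹) * x = a := by group
    rw [this]; exact ha
  have h2 : x * a * x⁻¹ ∈ conjSub y H₀ := hxy ▸ h1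
  rw [mem_conjSub] at h1 h2
  refine (FrobPQ.isPQ h).conj_unique ?_ hx hy h1 h2
  intro h3
  apply ha1
  calc a = x⁻¹ * (x * a * x⁻¹) * x := by group
    _ = 1 := by rw [h3]; group

/-- (A2) the subgroups of `A` -/
theorem FrobPQ.subgroup_cases (h : FrobPQ A F H₀ p q) (B : Subgroup T) (hB : B ≤ A) :
    B = ⊥ ∨ B = F ∨ (∃ x ∈ F, B = conjSub x H₀) ∨ B = A := by
  rcases (FrobPQ.isPQ h).subgroup_cases (B := B) (by rw [FrobPQ.sup_eq h]; exact hB) with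
    h1 | h1 | h1 | ⟨x, hx, h1⟩
  · exact Or.inl h1
  · exact Or.inr (Or.inl h1)
  · exact Or.inr (Or.inr (Or.inr (h1.trans (FrobPQ.sup_eq h))))
  · exact Or.inr (Or.inr (Or.inl ⟨x, hx, h1⟩))

/-- (A2) abelian subgroups, in the form needed by `Helper7.S3L.l_star` -/
theorem FrobPQ.abelian_subgroup (h : FrobPQ A F H₀ p q) (B : Subgroup T) (hB : B ≤ A)
    (hBc : ∀ x ∈ B, ∀ y ∈ B, x * y = y * x) : B = ⊥ ∨ (Nat.card B).Prime :=
  (FrobPQ.isPQ h).abelian_sub B (by rw [FrobPQ.sup_eq h]; exact hB) hBc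

/-- (A2) proper subgroups -/
theorem FrobPQ.proper_subgroup (h : FrobPQ A F H₀ p q) (B : Subgroup T) (hB : B ≤ A)
    (hne : B ≠ A) : B = ⊥ ∨ (Nat.card B).Prime :=
  (FrobPQ.isPQ h).proper_sub B (by rw [FrobPQ.sup_eq h]; exact hB)
    (by rw [FrobPQ.sup_eq h]; exact hne)

/-- (A2) two distinct conjugates of `H₀` generate `A` -/
theorem FrobPQ.sup_conj (h : FrobPQ A F H₀ p q) {x : T} (hx : x ∈ F) (hx1 : x ≠ 1) :
    H₀ ⊔ conjSub x H₀ = A := by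
  have := (FrobPQ.isPQ h).sup_conj_eq F.one_mem hx (Ne.symm hx1)
  rw [FrobPQ.sup_eq h] at this
  have e : H₀.map (MulAut.conj (1 : T)).toMonoidHom = H₀ := conjSub_one H₀
  rw [e] at this
  exact this

/-- (A3) a subgroup of `A` normalized by `A` -/
theorem FrobPQ.normal_cases (h : FrobPQ A F H₀ p q) (B : Subgroup T) (hB : B ≤ A)
    (hBn : ∀ a ∈ A, ∀ b ∈ B, a * b * a⁻¹ ∈ B) : B = ⊥ ∨ B = F ∨ B = A := by
  rcases (FrobPQ.isPQ h).normal_cases (B := B) (by rw [FrobPQ.sup_eq h]; exact hB)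
    (by rw [FrobPQ.sup_eq h]; exact hBn) with h1 | h1 | h1
  · exact Or.inl h1
  · exact Or.inr (Or.inl h1)
  · exact Or.inr (Or.inr (h1.trans (FrobPQ.sup_eq h)))

/-- (A3) `F = [A,A]`: if `a ↦ φ a` is multiplicative on `A` with commuting values, it kills `F` -/
theorem FrobPQ.F_le_ker (h : FrobPQ A F H₀ p q) {M : Type*} [CommGroup M] (φ : A →* M) :
    ∀ f (hf : f ∈ F), φ ⟨f, h.hFA hf⟩ = 1 := by
  intro f hf
  have hC : F ≤ (φ.ker).map A.subtype := by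
    apply (FrobPQ.isPQ h).F_le_of_commutators_mem
    rw [FrobPQ.sup_eq h]
    intro a ha b hb
    refine ⟨⟨a, ha⟩ * ⟨b, hb⟩ * ⟨a, ha⟩⁻¹ * ⟨b, hb⟩⁻¹, ?_, rfl⟩
    rw [SetLike.mem_coe, MonoidHom.mem_ker, map_mul, map_mul, map_mul, map_inv, map_inv]
    rw [mul_comm (φ ⟨a, ha⟩) (φ ⟨b, hb⟩)]
    simp
  obtain ⟨x, hx, hxf⟩ := hC hf
  have : x = ⟨f, h.hFA hf⟩ := Subtype.ext hxf
  rw [← this]
  exact MonoidHom.mem_ker.mp hx

/-- (A3) `F = [A,A]`, elementwise: a subgroup containing all commutators of `A` contains `F` -/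
theorem FrobPQ.F_le_of_commutators_mem (h : FrobPQ A F H₀ p q) {C : Subgroup T}
    (hC : ∀ a ∈ A, ∀ b ∈ A, a * b * a⁻¹ * b⁻¹ ∈ C) : F ≤ C :=
  (FrobPQ.isPQ h).F_le_of_commutators_mem (by rw [FrobPQ.sup_eq h]; exact hC)

/-- `p ∣ q - 1`; in particular `p < q` -/
theorem FrobPQ.dvd_sub_one (h : FrobPQ A F H₀ p q) : p ∣ q - 1 := (FrobPQ.isPQ h).dvd_sub_one

theorem FrobPQ.lt (h : FrobPQ A F H₀ p q) : p < q := (FrobPQ.isPQ h).lt

/-- every element of `A` is `f * a` with `f ∈ F`, `a ∈ H₀` -/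
theorem FrobPQ.mem_iff (h : FrobPQ A F H₀ p q) {a : T} :
    a ∈ A ↔ ∃ f ∈ F, ∃ b ∈ H₀, a = f * b := by
  rw [← FrobPQ.sup_eq h]
  exact (FrobPQ.isPQ h).mem_sup

end Cfsg.Agent.Lib.Helper2.PQA2
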