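import Mathlib

set_option autoImplicit false
set_option linter.unusedSectionVars false

/-! S4306 swarm, sub-leaf of `frob_count`: the cyclic (Vandermonde) case.  A cyclic group `⟨l⟩` of
prime order `s` and an element `a` with `a l a⁻¹ = l ^ k`, `k ≢ 1 (mod s)`, `a ^ p = 1` acting on
an abelian group `M` with `C_M(l) = 0`: then `|C_M(a)| ^ p ≤ |M|`. -/

namespace Cfsg.Agent.Lib.Helper2.PQVdm

open Polynomial

variable {N : Type*} [AddCommGroup N] {L : Type*} [Group L] [DistribMulAction L N]

theorem end_sum_apply {ι : Type*} (s : Finset ι) (f : ι → AddMonoid.End N) (n : N) :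
    (∑ x ∈ s, f x) n = ∑ x ∈ s, f x n := by
  classical
  induction s using Finset.induction_on with
  | empty => simp
  | insert a s ha ih =>
    rw [Finset.sum_insert ha, Finset.sum_insert ha, ← ih]
    rfl

/-- the adjugate identity for a system of linear equations with coefficients in a commutative ring
acting on an abelian group. -/
theorem adj_lemma {R : Type*} [CommRing R] {m : ℕ} (ρ : R →+* AddMonoid.End N)
    (A : Matrix (Fin m) (Fin m) R) (v : Fin m → N) (h : ∀ j, ∑ i, ρ (A j i) (v i) = 0) :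
    ∀ i, ρ A.det (v i) = 0 := by
  intro i
  have key : ∑ k, ρ ((A.adjugate * A) i k) (v k) = 0 := by
    have h1 : ∀ k, ρ ((A.adjugate * A) i k) (v k) =
        ∑ j, ρ (A.adjugate i j) (ρ (A j k) (v k)) := by
      intro k
      rw [Matrix.mul_apply, map_sum, end_sum_apply]
      refine Finset.sum_congr rfl fun j _ => ?_
      rw [map_mul]
      rfl
    rw [Finset.sum_congr rfl fun k _ => h1 k, Finset.sum_comm]
    apply Finset.sum_eq_zero
    intro j _
    rw [← map_sum, h j, map_zero]
  rw [Matrix.adjugate_mul] at key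
  rw [← key]
  rw [Finset.sum_eq_single i]
  · simp
  · intro k _ hki
    simp [Ne.symm hki]
  · intro hi
    exact absurd (Finset.mem_univ i) hi

/-- the ring homomorphism `ℤ[X] → End N`, `X ↦ l`. -/
noncomputable def rho (l : L) : ℤ[X] →+* AddMonoid.End N :=
  (Polynomial.aeval (R := ℤ) (DistribMulAction.toAddMonoidEnd L N l)).toRingHom

theorem rho_X_pow (l : L) (e : ℕ) (n : N) : rho (N := N) l (X ^ e) n = l ^ e • n := by
  unfold rho
  show (Polynomial.aeval (R := ℤ) (DistribMulAction.toAddMonoidEnd L N l)) (X ^ e) n = l ^ e • n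
  rw [Polynomial.aeval_X_pow, ← map_pow]
  rfl

theorem rho_mul_apply (l : L) (r r' : ℤ[X]) (n : N) :
    rho (N := N) l (r * r') n = rho l r (rho l r' n) := by
  rw [map_mul]; rfl

theorem rho_one_apply (l : L) (n : N) : rho (N := N) l 1 n = n := by
  rw [map_one]; rfl

theorem rho_sub_apply (l : L) (r r' : ℤ[X]) (n : N) :
    rho (N := N) l (r - r') n = rho l r n - rho l r' n := by
  rw [map_sub]; rfl

section cyc

variable {s : ℕ} {l : L} {M : AddSubgroup N}

theorem pow_smul_mem' (hMl : ∀ n ∈ M, l • n ∈ M) (e : ℕ) : ∀ n ∈ M, l ^ e • n ∈ M := by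
  induction e with
  | zero => intro n hn; simpa using hn
  | succ e ih =>
    intro n hn
    rw [pow_succ', mul_smul]
    exact hMl _ (ih n hn)

theorem pow_mul_smul_eq (_hMl : ∀ n ∈ M, l • n ∈ M) (hl : ∀ n ∈ M, l ^ s • n = n) (c : ℕ) :
    ∀ n ∈ M, l ^ (s * c) • n = n := by
  induction c with
  | zero => intro n _; simp
  | succ c ih =>
    intro n hn
    rw [Nat.mul_succ, pow_add, mul_smul, hl n hn, ih n hn]

theorem pow_smul_mod (hMl : ∀ n ∈ M, l • n ∈ M) (hl : ∀ n ∈ M, l ^ s • n = n) (e : ℕ) :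
    ∀ n ∈ M, l ^ e • n = l ^ (e % s) • n := by
  intro n hn
  conv_lhs => rw [← Nat.mod_add_div e s, pow_add, mul_smul, pow_mul_smul_eq hMl hl _ n hn]

theorem pow_smul_congr (hMl : ∀ n ∈ M, l • n ∈ M) (hl : ∀ n ∈ M, l ^ s • n = n) {α β : ℕ}
    (h : α ≡ β [MOD s]) : ∀ n ∈ M, l ^ α • n = l ^ β • n := by
  intro n hn
  rw [pow_smul_mod hMl hl α n hn, pow_smul_mod hMl hl β n hn, h]

/-- `C_M(l ^ γ) = 0` for `γ` prime to `s`. -/
theorem eq_zero_of_pow_smul (hs : s.Prime) (hMl : ∀ n ∈ M, l • n ∈ M)
    (hl : ∀ n ∈ M, l ^ s • n = n) (hCl : ∀ n ∈ M, l • n = n → n = 0) {γ : ℕ} (hγ : ¬ s ∣ γ)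
    {n : N} (hn : n ∈ M) (h : l ^ γ • n = n) : n = 0 := by
  have hcop : Nat.Coprime γ s := ((Nat.Prime.coprime_iff_not_dvd hs).2 hγ).symm
  obtain ⟨δ, -, hδ⟩ := Nat.exists_mul_mod_eq_one_of_coprime hcop hs.one_lt
  have h1 : ∀ c : ℕ, l ^ (γ * c) • n = n := by
    intro c
    induction c with
    | zero => simp
    | succ c ih => rw [Nat.mul_succ, pow_add, mul_smul, h, ih]
  apply hCl n hn
  have h2 := pow_smul_mod hMl hl (γ * δ) n hn
  rw [hδ, pow_one, h1 δ] at h2
  exact h2.symm

/-- `l ^ α - l ^ β` is injective on `M` for `α ≢ β (mod s)`. -/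
theorem eq_zero_of_pow_smul_eq (hs : s.Prime) (hMl : ∀ n ∈ M, l • n ∈ M)
    (hl : ∀ n ∈ M, l ^ s • n = n) (hCl : ∀ n ∈ M, l • n = n → n = 0) {α β : ℕ}
    (hαβ : ¬ α ≡ β [MOD s]) {n : N} (hn : n ∈ M) (h : l ^ α • n = l ^ β • n) : n = 0 := by
  wlog hle : β ≤ α generalizing α β
  · exact this (fun h' => hαβ h'.symm) h.symm (le_of_not_ge hle)
  have h1 : l ^ (α - β) • n = n := by
    have : l ^ α • n = l ^ β • l ^ (α - β) • n := by
      rw [← mul_smul, ← pow_add, Nat.add_sub_cancel' hle]
    rw [this] at h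
    exact smul_left_cancel _ h
  refine eq_zero_of_pow_smul hs hMl hl hCl ?_ hn h1
  intro hdvd
  apply hαβ
  exact ((Nat.modEq_iff_dvd' hle).2 hdvd).symm

/-- every polynomial in `l` maps `M` to itself. -/
theorem rho_mem (hMl : ∀ n ∈ M, l • n ∈ M) (r : ℤ[X]) : ∀ n ∈ M, rho (N := N) l r n ∈ M := by
  induction r using Polynomial.induction_on' with
  | add f g hf hg =>
    intro n hn
    rw [map_add]
    exact M.add_mem (hf n hn) (hg n hn)
  | monomial e z =>
    intro n hn
    have h1 : (monomial e z : ℤ[X]) = z • X ^ e := by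
      rw [← Polynomial.C_mul_X_pow_eq_monomial, Polynomial.smul_eq_C_mul]
    rw [h1, map_zsmul]
    show z • (rho (N := N) l (X ^ e)) n ∈ M
    rw [rho_X_pow]
    exact M.zsmul_mem (pow_smul_mem' hMl e n hn) z

end cyc

section main

variable [Finite N] {p s : ℕ}

/-- **the cyclic case of the Frobenius count**. -/
theorem frob_count_cyclic (hp : p.Prime) (hs : s.Prime) (l a : L) (k : ℕ) (M : AddSubgroup N)
    (hMl : ∀ n ∈ M, l • n ∈ M) (hMa : ∀ n ∈ M, a • n ∈ M)
    (hl : ∀ n ∈ M, l ^ s • n = n) (ha : ∀ n ∈ M, a ^ p • n = n)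
    (hal : ∀ n ∈ M, a • l • n = l ^ k • a • n) (hk : ¬ k ≡ 1 [MOD s])
    (hCl : ∀ n ∈ M, l • n = n → n = 0) :
    Nat.card {n : N // n ∈ M ∧ a • n = n} ^ p ≤ Nat.card M := by
  classical
  have : Fact s.Prime := ⟨hs⟩
  -- `C = C_M(a)` as a subgroup
  let C : AddSubgroup N :=
    { carrier := {n | n ∈ M ∧ a • n = n}
      zero_mem' := ⟨M.zero_mem, smul_zero a⟩
      add_mem' := by
        rintro x y ⟨hx, hx'⟩ ⟨hy, hy'⟩
        exact ⟨M.add_mem hx hy, by rw [smul_add, hx', hy']⟩
      neg_mem' := by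
        rintro x ⟨hx, hx'⟩
        exact ⟨M.neg_mem hx, by rw [smul_neg, hx']⟩ }
  have hmemC : ∀ {n : N}, n ∈ C ↔ n ∈ M ∧ a • n = n := Iff.rfl
  have hcardC : Nat.card {n : N // n ∈ M ∧ a • n = n} = Nat.card C := rfl
  rw [hcardC]
  -- commutation rules
  have hapow : ∀ j : ℕ, ∀ n ∈ M, a ^ j • n ∈ M := by
    intro j
    induction j with
    | zero => intro n hn; simpa using hn
    | succ j ih =>
      intro n hn
      rw [pow_succ', mul_smul]
      exact hMa _ (ih n hn)
  have hstep1 : ∀ i : ℕ, ∀ n ∈ M, a • l ^ i • n = l ^ (k * i) • a • n := by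
    intro i
    induction i with
    | zero => intro n _; simp
    | succ i ih =>
      intro n hn
      rw [pow_succ', mul_smul, hal _ (pow_smul_mem' hMl i n hn), ih n hn, ← mul_smul, ← pow_add,
        Nat.mul_succ, add_comm]
  have hstep2 : ∀ j i : ℕ, ∀ n ∈ M, a ^ j • l ^ i • n = l ^ (k ^ j * i) • a ^ j • n := by
    intro j
    induction j with
    | zero => intro i n _; simp
    | succ j ih =>
      intro i n hn
      rw [pow_succ' a, mul_smul, ih i n hn, hstep1 _ _ (hapow j n hn), mul_smul, pow_succ' k,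
        mul_assoc]
  by_cases hkp : k ^ p ≡ 1 [MOD s]
  · -- the main case
    -- distinctness of the `k ^ j` modulo `s`
    have hκp : ((k : ZMod s)) ^ p = 1 := by
      have := (ZMod.natCast_eq_natCast_iff (k ^ p) 1 s).2 hkp
      simpa using this
    have hκ1 : (k : ZMod s) ≠ 1 := by
      intro h
      apply hk
      have : ((k : ℕ) : ZMod s) = ((1 : ℕ) : ZMod s) := by simpa using h
      exact (ZMod.natCast_eq_natCast_iff k 1 s).1 this
    have hκ0 : (k : ZMod s) ≠ 0 := by
      intro h
      rw [h, zero_pow hp.ne_zero] at hκp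
      exact zero_ne_one hκp
    have hord : orderOf (k : ZMod s) = p := by
      have h1 : orderOf (k : ZMod s) ∣ p := orderOf_dvd_of_pow_eq_one hκp
      rcases (Nat.dvd_prime hp).1 h1 with h | h
      · exact absurd (orderOf_eq_one_iff.1 h) hκ1
      · exact h
    have hdist : ∀ i j : ℕ, i < j → j < p → ¬ k ^ j ≡ k ^ i [MOD s] := by
      intro i j hij hjp hmod
      have h1 : ((k : ZMod s)) ^ j = (k : ZMod s) ^ i := by
        have := (ZMod.natCast_eq_natCast_iff (k ^ j) (k ^ i) s).2 hmod
        simpa using this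
      have h2 : (k : ZMod s) ^ (j - i) = 1 := by
        have : (k : ZMod s) ^ i * (k : ZMod s) ^ (j - i) = (k : ZMod s) ^ i * 1 := by
          rw [← pow_add, Nat.add_sub_cancel' hij.le, h1, mul_one]
        exact mul_left_cancel₀ (pow_ne_zero i hκ0) this
      have h3 : p ∣ j - i := hord ▸ orderOf_dvd_of_pow_eq_one h2
      have h4 : j - i < p := lt_of_le_of_lt (Nat.sub_le j i) hjp
      have h5 : 0 < j - i := Nat.sub_pos_of_lt hij
      exact absurd (Nat.le_of_dvd h5 h3) (not_le.2 h4)
    -- the key: a vanishing combination `∑ l^i d_i` with `d_i ∈ C` has all `d_i = 0`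
    have key : ∀ d : Fin p → N, (∀ i, d i ∈ C) → ∑ i : Fin p, l ^ (i : ℕ) • d i = 0 →
        ∀ i, d i = 0 := by
      intro d hd hsum
      let x : Fin p → ℤ[X] := fun j => X ^ (k ^ (j : ℕ))
      have hsys : ∀ j : Fin p, ∑ i : Fin p,
          rho (N := N) l (Matrix.vandermonde x j i) (d i) = 0 := by
        intro j
        have h1 : ∀ i : Fin p, rho (N := N) l (Matrix.vandermonde x j i) (d i) =
            a ^ (j : ℕ) • l ^ (i : ℕ) • d i := by
          intro i
          rw [Matrix.vandermonde_apply, ← pow_mul, rho_X_pow,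
            hstep2 (j : ℕ) (i : ℕ) (d i) (hd i).1]
          congr 1
          -- `a ^ j • d i = d i`
          have : ∀ e : ℕ, a ^ e • d i = d i := by
            intro e
            induction e with
            | zero => simp
            | succ e ih => rw [pow_succ, mul_smul, (hd i).2, ih]
          rw [this]
        rw [Finset.sum_congr rfl fun i _ => h1 i, ← Finset.smul_sum, hsum, smul_zero]
      have hdet := adj_lemma (rho (N := N) l) (Matrix.vandermonde x) d hsys
      -- the determinant acts injectively on `M`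
      have hgood : ∀ n ∈ M, rho (N := N) l (Matrix.vandermonde x).det n = 0 → n = 0 := by
        rw [Matrix.det_vandermonde]
        have hP : (fun r : ℤ[X] => ∀ n ∈ M, rho (N := N) l r n = 0 → n = 0)
            (∏ i : Fin p, ∏ j ∈ Finset.Ioi i, (x j - x i)) := by
          apply Finset.prod_induction _ (fun r : ℤ[X] => ∀ n ∈ M, rho (N := N) l r n = 0 → n = 0)
          · intro r r' hr hr' n hn h0
            rw [rho_mul_apply] at h0
            exact hr' n hn (hr _ (rho_mem hMl r' n hn) h0)
          · intro n _ h0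
            rwa [rho_one_apply] at h0
          · intro i _
            apply Finset.prod_induction _
              (fun r : ℤ[X] => ∀ n ∈ M, rho (N := N) l r n = 0 → n = 0)
            · intro r r' hr hr' n hn h0
              rw [rho_mul_apply] at h0
              exact hr' n hn (hr _ (rho_mem hMl r' n hn) h0)
            · intro n _ h0
              rwa [rho_one_apply] at h0
            · intro j hj n hn h0
              have hij : i < j := Finset.mem_Ioi.1 hj
              rw [rho_sub_apply, rho_X_pow, rho_X_pow, sub_eq_zero] at h0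
              exact eq_zero_of_pow_smul_eq hs hMl hl hCl
                (hdist (i : ℕ) (j : ℕ) hij j.2) hn h0
        exact hP
      intro i
      exact hgood (d i) (hd i).1 (hdet i)
    -- the injection `C^p → M`
    let Φ : (Fin p → C) → M := fun v =>
      ⟨∑ i : Fin p, l ^ (i : ℕ) • ((v i : C) : N),
        M.sum_mem fun i _ => pow_smul_mem' hMl _ _ (v i).2.1⟩
    have hΦ : Function.Injective Φ := by
      intro v w hvw
      have h1 : ∑ i : Fin p, l ^ (i : ℕ) • ((v i : C) : N) =
          ∑ i : Fin p, l ^ (i : ℕ) • ((w i : C) : N) := congrArg Subtype.val hvw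
      have h2 : ∑ i : Fin p, l ^ (i : ℕ) • (((v i : C) : N) - ((w i : C) : N)) = 0 := by
        simp only [smul_sub, Finset.sum_sub_distrib]
        rw [h1, sub_self]
      have h3 := key (fun i => ((v i : C) : N) - ((w i : C) : N))
        (fun i => C.sub_mem (v i).2 (w i).2) h2
      funext i
      apply Subtype.ext
      exact sub_eq_zero.1 (h3 i)
    have h4 := Nat.card_le_card_of_injective Φ hΦ
    rwa [Nat.card_fun, Nat.card_fin] at h4
  · -- `M = 0`
    have hM0 : ∀ n ∈ M, n = 0 := by
      intro n hn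
      have h1 := hstep2 p 1 n hn
      rw [ha n hn, ha _ (pow_smul_mem' hMl 1 n hn), mul_one] at h1
      exact eq_zero_of_pow_smul_eq hs hMl hl hCl (fun h' => hkp h'.symm) hn h1
    have hC1 : Nat.card C = 1 := by
      rw [Nat.card_eq_one_iff_exists]
      refine ⟨0, fun y => ?_⟩
      apply Subtype.ext
      exact hM0 y y.2.1
    rw [hC1, one_pow]
    exact Nat.one_le_iff_ne_zero.2 Nat.card_pos.ne'

end main

end Cfsg.Agent.Lib.Helper2.PQVdm
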