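import Mathlib
import Cfsg.Agent.Lib.Helper2.PQVdm
import Cfsg.Agent.Lib.Helper8.WardA

set_option autoImplicit false
set_option linter.unusedSectionVars false

/-! S4306 swarm, sub-leaves (D) and (i) of `frob_count` (helper7's route):
* `count_split`: the count `|C_M(a)|^p ≤ |M|` follows from the counts on the image and on the
  kernel of an `a`-equivariant endomorphism `P` of `M`;
* `frob_count_stable`: the case of an `a`-stable hyperplane `K₀` acting trivially on `M`
  (reduction to `PQVdm.frob_count_cyclic`). -/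

namespace Cfsg.Agent.Lib.Helper2.PQCnt

universe u w

variable {N : Type u} [AddCommGroup N] [Finite N] {L : Type w} [Group L]
  [DistribMulAction L N]

theorem card_eq_range_mul_ker {G H : Type*} [AddGroup G] [Finite G] [AddGroup H] (ψ : G →+ H) :
    Nat.card G = Nat.card ψ.range * Nat.card ψ.ker := by
  rw [AddSubgroup.card_eq_card_quotient_mul_card_addSubgroup ψ.ker,
    Nat.card_congr (QuotientAddGroup.quotientKerEquivRange ψ).toEquiv]

/-- the fixed points of `a` in `M`, as a subgroup. -/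
def fixIn (a : L) (M : AddSubgroup N) : AddSubgroup N where
  carrier := {n | n ∈ M ∧ a • n = n}
  zero_mem' := ⟨M.zero_mem, smul_zero a⟩
  add_mem' := by
    rintro x y ⟨hx, hx'⟩ ⟨hy, hy'⟩
    exact ⟨M.add_mem hx hy, by rw [smul_add, hx', hy']⟩
  neg_mem' := by
    rintro x ⟨hx, hx'⟩
    exact ⟨M.neg_mem hx, by rw [smul_neg, hx']⟩

theorem mem_fixIn {a : L} {M : AddSubgroup N} {n : N} : n ∈ fixIn a M ↔ n ∈ M ∧ a • n = n :=
  Iff.rfl

theorem card_fixIn (a : L) (M : AddSubgroup N) :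
    Nat.card {n : N // n ∈ M ∧ a • n = n} = Nat.card (fixIn a M) := rfl

/-- `|X| ≤ |im| * |ker|` for a homomorphism restricted to a subgroup `X`, with bounds for image
and kernel. -/
theorem card_le_mul_of_hom (P : N →+ N) (X R Kr : AddSubgroup N) (hR : ∀ n ∈ X, P n ∈ R)
    (hK : ∀ n ∈ X, P n = 0 → n ∈ Kr) : Nat.card X ≤ Nat.card R * Nat.card Kr := by
  let ψ : X →+ N := P.comp X.subtype
  have h0 := card_eq_range_mul_ker ψ
  have h1 : Nat.card ψ.range ≤ Nat.card R := by
    have hle : ψ.range ≤ R := by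
      rintro _ ⟨x, rfl⟩
      exact hR x x.2
    exact Nat.card_le_card_of_injective (AddSubgroup.inclusion hle)
      (AddSubgroup.inclusion_injective hle)
  have h2 : Nat.card ψ.ker ≤ Nat.card Kr := by
    let f : ψ.ker → Kr := fun x => ⟨((x : X) : N), hK _ (x : X).2 (AddMonoidHom.mem_ker.mp x.2)⟩
    have hf : Function.Injective f := by
      intro x y hxy
      apply Subtype.ext
      apply Subtype.ext
      have := congrArg Subtype.val hxy
      exact this
    exact Nat.card_le_card_of_injective f hf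
  rw [h0]
  exact Nat.mul_le_mul h1 h2

/-- `|M| = |P(M)| * |M ∩ ker P|`. -/
theorem card_eq_map_mul_ker (P : N →+ N) (M : AddSubgroup N) :
    Nat.card M = Nat.card (M.map P) * Nat.card (M ⊓ P.ker : AddSubgroup N) := by
  let ψ : M →+ N := P.comp M.subtype
  have h0 := card_eq_range_mul_ker ψ
  have h1 : ψ.range = M.map P := by
    ext y
    constructor
    · rintro ⟨x, rfl⟩
      exact ⟨x, x.2, rfl⟩
    · rintro ⟨x, hx, rfl⟩
      exact ⟨⟨x, hx⟩, rfl⟩
  have h2 : Nat.card ψ.ker = Nat.card (M ⊓ P.ker : AddSubgroup N) := by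
    apply Nat.card_congr
    exact
      { toFun := fun x => ⟨((x : M) : N), (x : M).2, AddMonoidHom.mem_ker.mp x.2⟩
        invFun := fun y => ⟨⟨(y : N), y.2.1⟩, AddMonoidHom.mem_ker.mpr y.2.2⟩
        left_inv := fun _ => rfl
        right_inv := fun _ => rfl }
  rw [h0, h1, h2]

/-- **(D)** -/
theorem count_split {p : ℕ} (a : L) (P : N →+ N) (M : AddSubgroup N)
    (_hMa : ∀ n ∈ M, a • n ∈ M) (_hPM : ∀ n ∈ M, P n ∈ M) (hPa : ∀ n ∈ M, P (a • n) = a • P n)
    (h1 : Nat.card {n : N // n ∈ M.map P ∧ a • n = n} ^ p ≤ Nat.card ↥(M.map P))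
    (h2 : Nat.card {n : N // n ∈ M ⊓ P.ker ∧ a • n = n} ^ p ≤ Nat.card ↥(M ⊓ P.ker)) :
    Nat.card {n : N // n ∈ M ∧ a • n = n} ^ p ≤ Nat.card ↥M := by
  rw [card_fixIn] at h1 h2 ⊢
  have h3 : Nat.card (fixIn a M) ≤
      Nat.card (fixIn a (M.map P)) * Nat.card (fixIn a (M ⊓ P.ker)) := by
    apply card_le_mul_of_hom P
    · intro n hn
      exact ⟨⟨n, hn.1, rfl⟩, by rw [← hPa n hn.1, hn.2]⟩
    · intro n hn h0
      exact ⟨⟨hn.1, AddMonoidHom.mem_ker.mpr h0⟩, hn.2⟩
  calc Nat.card (fixIn a M) ^ p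
      ≤ (Nat.card (fixIn a (M.map P)) * Nat.card (fixIn a (M ⊓ P.ker))) ^ p :=
        Nat.pow_le_pow_left h3 p
    _ = Nat.card (fixIn a (M.map P)) ^ p * Nat.card (fixIn a (M ⊓ P.ker)) ^ p := mul_pow _ _ _
    _ ≤ Nat.card (M.map P) * Nat.card (M ⊓ P.ker : AddSubgroup N) := Nat.mul_le_mul h1 h2
    _ = Nat.card M := (card_eq_map_mul_ker P M).symm

section stable

variable [Finite L]

/-- a `p`-element acting on a subgroup with the identity as only fixed point: `|K| ≡ 1 (mod p)`. -/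
theorem card_modEq_one_of_fpf {p : ℕ} (hp : p.Prime) (K : Subgroup L) (a : L) (ha : a ^ p = 1)
    (haK : ∀ k ∈ K, a * k * a⁻¹ ∈ K) (hfpf : ∀ k ∈ K, a * k = k * a → k = 1) :
    Nat.card K ≡ 1 [MOD p] := by
  classical
  have : Fact p.Prime := ⟨hp⟩
  have hpow : ∀ j : ℕ, ∀ k ∈ K, a ^ j * k * (a ^ j)⁻¹ ∈ K := by
    intro j
    induction j with
    | zero => intro k hk; simpa using hk
    | succ j ih =>
      intro k hk
      have : a ^ (j + 1) * k * (a ^ (j + 1))⁻¹ = a * (a ^ j * k * (a ^ j)⁻¹) * a⁻¹ := by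
        rw [pow_succ']; group
      rw [this]
      exact haK _ (ih k hk)
  have hzp : ∀ h ∈ Subgroup.zpowers a, ∀ k ∈ K, h * k * h⁻¹ ∈ K := by
    intro h hh k hk
    rw [← mem_powers_iff_mem_zpowers, Submonoid.mem_powers_iff] at hh
    obtain ⟨j, rfl⟩ := hh
    exact hpow j k hk
  letI act : MulAction (Subgroup.zpowers a) K :=
    { smul := fun h k => ⟨(h : L) * (k : L) * (h : L)⁻¹, hzp h h.2 k k.2⟩
      one_smul := fun k => by
        apply Subtype.ext
        show ((1 : Subgroup.zpowers a) : L) * (k : L) * ((1 : Subgroup.zpowers a) : L)⁻¹ = k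
        simp
      mul_smul := fun x y k => by
        apply Subtype.ext
        show ((x * y : Subgroup.zpowers a) : L) * (k : L) * ((x * y : Subgroup.zpowers a) : L)⁻¹ =
          (x : L) * ((y : L) * (k : L) * (y : L)⁻¹) * (x : L)⁻¹
        simp [mul_assoc] }
  have hsmul : ∀ (h : Subgroup.zpowers a) (k : K),
      ((h • k : K) : L) = (h : L) * (k : L) * (h : L)⁻¹ := fun _ _ => rfl
  have hP : IsPGroup p (Subgroup.zpowers a) := by
    have h1 : Nat.card (Subgroup.zpowers a) = orderOf a := Nat.card_zpowers a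
    have h2 : orderOf a ∣ p := orderOf_dvd_of_pow_eq_one ha
    rcases (Nat.dvd_prime hp).1 h2 with h | h
    · exact IsPGroup.of_card (n := 0) (by rw [h1, h, pow_zero])
    · exact IsPGroup.of_card (n := 1) (by rw [h1, h, pow_one])
  have key := hP.card_modEq_card_fixedPoints K
  have hfix : Nat.card (MulAction.fixedPoints (Subgroup.zpowers a) K) = 1 := by
    rw [Nat.card_eq_one_iff_exists]
    refine ⟨⟨1, ?_⟩, ?_⟩
    · intro h
      apply Subtype.ext
      rw [hsmul]
      simp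
    · rintro ⟨k, hk⟩
      apply Subtype.ext
      apply Subtype.ext
      show (k : L) = 1
      have h2 := congrArg Subtype.val (hk ⟨a, Subgroup.mem_zpowers a⟩)
      rw [hsmul] at h2
      apply hfpf k k.2
      have h3 : a * (k : L) * a⁻¹ = k := h2
      calc a * (k : L) = a * (k : L) * a⁻¹ * a := by group
        _ = k * a := by rw [h3]
  rw [hfix] at key
  exact key

/-- **(i)** the case of an `a`-stable hyperplane acting trivially. -/
theorem frob_count_stable {p s : ℕ} (hp : p.Prime) (hs : s.Prime) (K K₀ : Subgroup L) (a : L)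
    (ha : a ^ p = 1) (haK : ∀ k ∈ K, a * k * a⁻¹ ∈ K)
    (hKc : ∀ k ∈ K, ∀ k' ∈ K, k * k' = k' * k) (hKs : ∀ k ∈ K, k ^ s = 1)
    (hfpf : ∀ k ∈ K, a * k = k * a → k = 1) (hK₀ : K₀ ≤ K)
    (hcard : Nat.card K₀ * s = Nat.card K) (haK₀ : ∀ k ∈ K₀, a * k * a⁻¹ ∈ K₀)
    (M : AddSubgroup N) (hMK : ∀ k ∈ K, ∀ n ∈ M, k • n ∈ M) (hMa : ∀ n ∈ M, a • n ∈ M)
    (hMK₀ : ∀ k ∈ K₀, ∀ n ∈ M, k • n = n)
    (hCK : ∀ n ∈ M, (∀ k ∈ K, k • n = n) → n = 0) :
    Nat.card {n : N // n ∈ M ∧ a • n = n} ^ p ≤ Nat.card ↥M := by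
  classical
  -- `p ≠ s`
  have hps : p ≠ s := by
    rintro rfl
    have h1 := card_modEq_one_of_fpf hp K a ha haK hfpf
    have h2 : p ∣ Nat.card K := ⟨Nat.card K₀, by rw [← hcard, mul_comm]⟩
    have h3 : Nat.card K % p = 0 := Nat.mod_eq_zero_of_dvd h2
    have h4 : Nat.card K % p = 1 % p := h1
    rw [h3, Nat.mod_eq_of_lt hp.one_lt] at h4
    exact zero_ne_one h4
  -- an element outside `K₀`
  obtain ⟨l, hlK, hlK₀⟩ : ∃ l ∈ K, l ∉ K₀ := by
    by_contra hcon
    have hle : K ≤ K₀ := by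
      intro x hx
      by_contra hx'
      exact hcon ⟨x, hx, hx'⟩
    have heq : K₀ = K := le_antisymm hK₀ hle
    rw [heq] at hcard
    have hpos : 0 < Nat.card K := Nat.card_pos
    have : Nat.card K * s = Nat.card K * 1 := by rw [hcard, mul_one]
    exact hs.one_lt.ne' (Nat.eq_of_mul_eq_mul_left hpos this)
  have hls : l ^ s = 1 := hKs l hlK
  -- every element of `K` is `z * l ^ i`
  have hdec : ∀ x ∈ K, ∃ z ∈ K₀, ∃ i : ℕ, x = z * l ^ i := by
    let S' : Subgroup L :=
      { carrier := {x | ∃ z ∈ K₀, ∃ i : ℕ, x = z * l ^ i}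
        one_mem' := ⟨1, K₀.one_mem, 0, by simp⟩
        mul_mem' := by
          rintro _ _ ⟨z, hz, i, rfl⟩ ⟨z', hz', i', rfl⟩
          refine ⟨z * z', K₀.mul_mem hz hz', i + i', ?_⟩
          have hc : l ^ i * z' = z' * l ^ i :=
            hKc _ (K.pow_mem hlK i) _ (hK₀ hz')
          calc z * l ^ i * (z' * l ^ i') = z * (l ^ i * z') * l ^ i' := by group
            _ = z * (z' * l ^ i) * l ^ i' := by rw [hc]
            _ = z * z' * l ^ (i + i') := by rw [pow_add]; group
        inv_mem' := by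
          rintro _ ⟨z, hz, i, rfl⟩
          refine ⟨z⁻¹, K₀.inv_mem hz, i * (s - 1), ?_⟩
          have hc : (l ^ i)⁻¹ * z⁻¹ = z⁻¹ * (l ^ i)⁻¹ :=
            hKc _ (K.inv_mem (K.pow_mem hlK i)) _ (K.inv_mem (hK₀ hz))
          have hinv : (l ^ i)⁻¹ = l ^ (i * (s - 1)) := by
            apply inv_eq_of_mul_eq_one_right
            have hi : i + i * (s - 1) = s * i := by
              calc i + i * (s - 1) = i * ((s - 1) + 1) := by ring
                _ = s * i := by rw [Nat.sub_add_cancel hs.one_le, mul_comm]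
            rw [← pow_add, hi, pow_mul, hls, one_pow]
          rw [mul_inv_rev, hc, hinv] }
    have hle : K ≤ S' := by
      have hsup := Cfsg.Agent.Lib.Helper8.Ward.sup_eq_of_hyp hs hK₀ hcard
        (Z1 := Subgroup.zpowers l) (by rw [Subgroup.zpowers_le]; exact hlK)
        (fun h => hlK₀ (h (Subgroup.mem_zpowers l)))
      rw [← hsup]
      apply sup_le
      · intro z hz
        exact ⟨z, hz, 0, by simp⟩
      · rw [Subgroup.zpowers_le]
        exact ⟨1, K₀.one_mem, 1, by simp⟩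
    exact fun x hx => hle hx
  obtain ⟨z, hz, k, hzk⟩ := hdec _ (haK l hlK)
  -- `k ≢ 1 (mod s)`
  have hk : ¬ k ≡ 1 [MOD s] := by
    intro hk1
    have hlk : l ^ k = l := by
      have h1 : l ^ k = l ^ (k % s) := by
        conv_lhs => rw [← Nat.mod_add_div k s, pow_add, pow_mul, hls, one_pow, mul_one]
      have h2 : k % s = 1 % s := hk1
      rw [h1, h2, Nat.mod_eq_of_lt hs.one_lt, pow_one]
    rw [hlk] at hzk
    -- the conjugates `a^j l a^-j` lie in `K₀ l`
    have hconj : ∀ j : ℕ, ∃ z' ∈ K₀, a ^ j * l * (a ^ j)⁻¹ = z' * l := by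
      intro j
      induction j with
      | zero => exact ⟨1, K₀.one_mem, by simp⟩
      | succ j ih =>
        obtain ⟨z', hz', e⟩ := ih
        refine ⟨a * z' * a⁻¹ * z, K₀.mul_mem (haK₀ z' hz') hz, ?_⟩
        have : a ^ (j + 1) * l * (a ^ (j + 1))⁻¹ = a * (a ^ j * l * (a ^ j)⁻¹) * a⁻¹ := by
          rw [pow_succ']; group
        rw [this, e]
        calc a * (z' * l) * a⁻¹ = a * z' * a⁻¹ * (a * l * a⁻¹) := by group
          _ = a * z' * a⁻¹ * (z * l) := by rw [hzk]
          _ = a * z' * a⁻¹ * z * l := by group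
    -- the norm `x = ∏_{j<p} a^j l a^-j`
    have hconjK : ∀ j : ℕ, a ^ j * l * (a ^ j)⁻¹ ∈ K := by
      intro j
      obtain ⟨z', hz', e⟩ := hconj j
      rw [e]
      exact K.mul_mem (hK₀ hz') hlK
    letI : CommGroup K :=
      { (inferInstance : Group K) with mul_comm := fun x y => Subtype.ext (hKc x x.2 y y.2) }
    let c : ℕ → K := fun j => ⟨a ^ j * l * (a ^ j)⁻¹, hconjK j⟩
    let x : K := ∏ j ∈ Finset.range p, c j
    -- `x ∈ l^p K₀`
    have hxmod : ∀ m : ℕ, ∃ z' ∈ K₀, ((∏ j ∈ Finset.range m, c j : K) : L) = z' * l ^ m := by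
      intro m
      induction m with
      | zero => exact ⟨1, K₀.one_mem, by simp⟩
      | succ m ih =>
        obtain ⟨z', hz', e⟩ := ih
        obtain ⟨z'', hz'', e'⟩ := hconj m
        refine ⟨z' * z'', K₀.mul_mem hz' hz'', ?_⟩
        rw [Finset.prod_range_succ, Subgroup.coe_mul, e]
        show z' * l ^ m * (a ^ m * l * (a ^ m)⁻¹) = z' * z'' * l ^ (m + 1)
        rw [e']
        have hc : l ^ m * z'' = z'' * l ^ m := hKc _ (K.pow_mem hlK m) _ (hK₀ hz'')
        calc z' * l ^ m * (z'' * l) = z' * (l ^ m * z'') * l := by group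
          _ = z' * (z'' * l ^ m) * l := by rw [hc]
          _ = z' * z'' * l ^ (m + 1) := by rw [pow_succ]; group
    -- `x` is fixed by `a`
    have hxfix : a * (x : L) * a⁻¹ = (x : L) := by
      have hmap : ∀ m : ℕ, a * ((∏ j ∈ Finset.range m, c j : K) : L) * a⁻¹ =
          ((∏ j ∈ Finset.range m, c (j + 1) : K) : L) := by
        intro m
        induction m with
        | zero => simp
        | succ m ih =>
          rw [Finset.prod_range_succ, Finset.prod_range_succ, Subgroup.coe_mul, Subgroup.coe_mul,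
            ← ih]
          show a * (_ * (a ^ m * l * (a ^ m)⁻¹)) * a⁻¹ = _ * (a ^ (m + 1) * l * (a ^ (m + 1))⁻¹)
          rw [pow_succ' a m]
          group
      rw [hmap p]
      congr 1
      have h1 := Finset.prod_range_succ' c p
      have h2 := Finset.prod_range_succ c p
      have hcp : c p = c 0 := by
        apply Subtype.ext
        show a ^ p * l * (a ^ p)⁻¹ = a ^ 0 * l * (a ^ 0)⁻¹
        rw [ha]; simp
      rw [h2, hcp] at h1
      exact (mul_right_cancel h1).symm
    have hx1 : (x : L) = 1 := by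
      apply hfpf _ x.2
      calc a * (x : L) = a * (x : L) * a⁻¹ * a := by group
        _ = (x : L) * a := by rw [hxfix]
    obtain ⟨z', hz', e⟩ := hxmod p
    have hlp : l ^ p ∈ K₀ := by
      have : l ^ p = z'⁻¹ * (x : L) := by
        show l ^ p = z'⁻¹ * ((∏ j ∈ Finset.range p, c j : K) : L)
        rw [e]; group
      rw [this, hx1, mul_one]
      exact K₀.inv_mem hz'
    -- `gcd(p, s) = 1` gives `l ∈ K₀`
    apply hlK₀
    have hcop : Nat.Coprime p s := (Nat.coprime_primes hp hs).2 hps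
    obtain ⟨m, -, hm⟩ := Nat.exists_mul_mod_eq_one_of_coprime hcop hs.one_lt
    have h1 : l ^ (p * m) = l := by
      conv_lhs => rw [← Nat.mod_add_div (p * m) s, hm, pow_add, pow_one, pow_mul, hls, one_pow,
        mul_one]
    rw [← h1, pow_mul]
    exact K₀.pow_mem hlp m
  -- apply the cyclic case
  refine Cfsg.Agent.Lib.Helper2.PQVdm.frob_count_cyclic hp hs l a k M (hMK l hlK) hMa ?_ ?_ ?_
    hk ?_
  · intro n _
    rw [hls, one_smul]
  · intro n _
    rw [ha, one_smul]
  · intro n hn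
    have h1 : a * l = z * l ^ k * a := by
      calc a * l = a * l * a⁻¹ * a := by group
        _ = z * l ^ k * a := by rw [hzk]
    rw [← mul_smul, h1, mul_smul, mul_smul]
    have h2 : l ^ k • a • n ∈ M := by
      have : ∀ i : ℕ, ∀ m ∈ M, l ^ i • m ∈ M := fun i m hm => hMK _ (K.pow_mem hlK i) m hm
      exact this k _ (hMa n hn)
    exact hMK₀ z hz _ h2
  · intro n hn hln
    apply hCK n hn
    intro x hx
    obtain ⟨z', hz', i, rfl⟩ := hdec x hx
    have h1 : ∀ i : ℕ, l ^ i • n = n := by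
      intro i
      induction i with
      | zero => simp
      | succ i ih => rw [pow_succ, mul_smul, hln, ih]
    rw [mul_smul, h1 i, hMK₀ z' hz' n hn]

end stable

end Cfsg.Agent.Lib.Helper2.PQCnt
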