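import Mathlib
import Cfsg.Agent.Lib.Helper8.WardB

set_option autoImplicit false
set_option linter.unusedSectionVars false

/-! S4306 swarm: the lemma (L-frob) in module form, a wrapper around helper8's `Ward.frob_trace`. -/

namespace Cfsg.Agent.Lib.Helper2.PQFrob

open Cfsg.Agent.Lib.Helper8.SBS Cfsg.Agent.Lib.Helper8.Ward

universe u w

variable {V : Type u} [AddCommGroup V] [Finite V] {T : Type w} [Group T] [Finite T]
  [DistribMulAction T V]

theorem pow_smul_mem {W : AddSubgroup V} {b : T} (hWb : ∀ w ∈ W, b • w ∈ W) (j : ℕ) :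
    ∀ w ∈ W, b ^ j • w ∈ W := by
  induction j with
  | zero => intro w hw; simpa using hw
  | succ j ih =>
    intro w hw
    rw [pow_succ', mul_smul]
    exact hWb _ (ih w hw)

theorem mu_mem {W : AddSubgroup V} {b : T} (hWb : ∀ w ∈ W, b • w ∈ W) (s : ℕ) {w : V}
    (hw : w ∈ W) : mu s b w ∈ W := by
  unfold mu
  exact W.sum_mem fun j _ => pow_smul_mem hWb j w hw

theorem nu_mem {W : AddSubgroup V} {K : Subgroup T} (hWK : ∀ k ∈ K, ∀ w ∈ W, k • w ∈ W) {w : V}
    (hw : w ∈ W) : nu K w ∈ W := by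
  classical
  have : Fintype K := Fintype.ofFinite K
  rw [nu_eq_sum]
  exact W.sum_mem fun k _ => hWK k k.2 w hw

/-- **(L-frob)**, module form: `b` with `b ^ s = 1` (`s` prime) normalizes the subgroup `K` and
acts on it without non-trivial fixed points; `W` is a `K⟨b⟩`-invariant subgroup of the module `V`
(of order prime to `|K|`) with `C_W(K) = 0` and `W ≠ 0`.  Then `C_W(b) ≠ 0`. -/
theorem l_frob {s : ℕ} (hs : s.Prime) (K : Subgroup T) (b : T) (hbs : b ^ s = 1)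
    (hbK : ∀ z ∈ K, b * z * b⁻¹ ∈ K) (hfpf : ∀ z ∈ K, b * z = z * b → z = 1)
    (W : AddSubgroup V) (hWK : ∀ k ∈ K, ∀ w ∈ W, k • w ∈ W) (hWb : ∀ w ∈ W, b • w ∈ W)
    (hcop : (Nat.card V).Coprime (Nat.card K))
    (hW0 : ∀ w ∈ W, (∀ k ∈ K, k • w = w) → w = 0) (hW : W ≠ ⊥) :
    ∃ w ∈ W, w ≠ 0 ∧ b • w = w := by
  by_contra hcon
  have hcon' : ∀ w ∈ W, b • w = w → w = 0 := by
    intro w hw hbw
    by_contra hw0
    exact hcon ⟨w, hw, hw0, hbw⟩
  apply hW
  rw [AddSubgroup.eq_bot_iff_forall]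
  intro n hn
  have hfix : ∀ j, 0 < j → j < s → ∀ z ∈ K, b ^ j * z = z * b ^ j → z = 1 := by
    intro j hj0 hjs z hz hc
    exact hfpf z hz (commute_of_commute_pow hs hbs hj0 hjs hc.symm).symm
  have key : Nat.card K • n = 0 := by
    apply frob_trace (p := s) K b hbK hfix n _ _ hs.pos
    · intro k hk
      apply hcon' _ (mu_mem hWb s (hWK k hk n hn))
      exact smul_mu_self hbs _
    · intro j _ _
      apply hW0 _ (nu_mem hWK (pow_smul_mem hWb j n hn))
      exact fun k hk => smul_nu_of_mem hk _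
  exact eq_zero_of_nsmul_eq_zero hcop key

/-- **(L-frob)** for the whole module. -/
theorem l_frob_top {s : ℕ} (hs : s.Prime) (K : Subgroup T) (b : T) (hbs : b ^ s = 1)
    (hbK : ∀ z ∈ K, b * z * b⁻¹ ∈ K) (hfpf : ∀ z ∈ K, b * z = z * b → z = 1)
    (hcop : (Nat.card V).Coprime (Nat.card K))
    (hV0 : ∀ v : V, (∀ k ∈ K, k • v = v) → v = 0) (hV : ∃ v : V, v ≠ 0) :
    ∃ v : V, v ≠ 0 ∧ b • v = v := by
  obtain ⟨w, -, hw0, hbw⟩ := l_frob hs K b hbs hbK hfpf (⊤ : AddSubgroup V)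
    (fun _ _ _ _ => AddSubgroup.mem_top _) (fun _ _ => AddSubgroup.mem_top _) hcop
    (fun w _ h => hV0 w h) (by
      obtain ⟨v, hv⟩ := hV
      intro h
      have : v ∈ (⊥ : AddSubgroup V) := h ▸ AddSubgroup.mem_top v
      exact hv (AddSubgroup.mem_bot.mp this))
  exact ⟨w, hw0, hbw⟩

end Cfsg.Agent.Lib.Helper2.PQFrob
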