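import Mathlib
import Cfsg.Agent.Lib.Helper2.PQFrob
import Cfsg.Agent.Lib.Helper7.S3L

set_option autoImplicit false
set_option linter.unusedSectionVars false

/-! S4306 swarm: abelian sections `Q / Z` of a group `T` as modules for a normalizing subgroup
`N`, and the lemma (L-frob) for sections in elementwise form (no module visible in the
statement). -/

namespace Cfsg.Agent.Lib.Helper2.SecMod

universe w

variable {T : Type w} [Group T]

/-- an abelian section `Q / Z` of `T` normalized by `N`. -/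
structure Sec (Q Z N : Subgroup T) : Prop where
  le : Z ≤ Q
  comm : ∀ x ∈ Q, ∀ y ∈ Q, x * y * x⁻¹ * y⁻¹ ∈ Z
  normQ : ∀ n ∈ N, ∀ x ∈ Q, n * x * n⁻¹ ∈ Q
  normZ : ∀ n ∈ N, ∀ z ∈ Z, n * z * n⁻¹ ∈ Z

namespace Sec

variable {Q Z N : Subgroup T}

/-- `Z` as a subgroup of `Q`. -/
def ZQ (_sec : Sec Q Z N) : Subgroup ↥Q := Z.subgroupOf Q

theorem mem_ZQ (sec : Sec Q Z N) {x : ↥Q} : x ∈ sec.ZQ ↔ (x : T) ∈ Z := Subgroup.mem_subgroupOf

theorem conj_mem_Z (sec : Sec Q Z N) {x z : T} (hx : x ∈ Q) (hz : z ∈ Z) : x * z * x⁻¹ ∈ Z := by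
  have h1 := sec.comm x hx z (sec.le hz)
  have : x * z * x⁻¹ = (x * z * x⁻¹ * z⁻¹) * z := by group
  rw [this]
  exact Z.mul_mem h1 hz

theorem inv_mul_mem_iff (sec : Sec Q Z N) {x y : T} (hx : x ∈ Q) :
    x⁻¹ * y ∈ Z ↔ y * x⁻¹ ∈ Z := by
  constructor
  · intro h
    have := sec.conj_mem_Z hx h
    have e : x * (x⁻¹ * y) * x⁻¹ = y * x⁻¹ := by group
    rwa [e] at this
  · intro h
    have := sec.conj_mem_Z (Q.inv_mem hx) h
    have e : x⁻¹ * (y * x⁻¹) * x⁻¹⁻¹ = x⁻¹ * y := by group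
    rwa [e] at this

instance normal_ZQ (sec : Sec Q Z N) : sec.ZQ.Normal := ⟨by
  intro z hz x
  rw [mem_ZQ] at hz ⊢
  have h1 := sec.conj_mem_Z x.2 hz
  simpa using h1⟩

/-- the quotient group `Q / Z`. -/
abbrev Quot (sec : Sec Q Z N) : Type w := ↥Q ⧸ sec.ZQ

theorem quot_comm (sec : Sec Q Z N) (a b : sec.Quot) : a * b = b * a := by
  induction a using QuotientGroup.induction_on with
  | H x =>
    induction b using QuotientGroup.induction_on with
    | H y =>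
      rw [← QuotientGroup.mk_mul, ← QuotientGroup.mk_mul, QuotientGroup.eq, sec.mem_ZQ]
      have h1 := sec.comm (y : T)⁻¹ (Q.inv_mem y.2) (x : T)⁻¹ (Q.inv_mem x.2)
      have h2 : (((x * y)⁻¹ * (y * x) : ↥Q) : T) =
          (y : T)⁻¹ * (x : T)⁻¹ * (y : T)⁻¹⁻¹ * (x : T)⁻¹⁻¹ := by
        simp only [Subgroup.coe_mul, Subgroup.coe_inv]
        group
      rw [h2]
      exact h1

instance commGroupQuot (sec : Sec Q Z N) : CommGroup sec.Quot :=
  { (inferInstance : Group sec.Quot) with mul_comm := sec.quot_comm }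

/-- the module `Q / Z`, written additively. -/
abbrev M (sec : Sec Q Z N) : Type w := Additive sec.Quot

/-- the class of an element of `Q`. -/
def cls (sec : Sec Q Z N) (x : ↥Q) : sec.M := Additive.ofMul (QuotientGroup.mk x)

theorem cls_surjective (sec : Sec Q Z N) (v : sec.M) : ∃ x : ↥Q, sec.cls x = v := by
  obtain ⟨x, hx⟩ := QuotientGroup.mk_surjective (Additive.toMul v)
  exact ⟨x, by unfold cls; rw [hx]; rfl⟩

theorem cls_eq_zero (sec : Sec Q Z N) {x : ↥Q} : sec.cls x = 0 ↔ (x : T) ∈ Z := by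
  unfold cls
  change Additive.ofMul (QuotientGroup.mk x : sec.Quot) = Additive.ofMul 1 ↔ _
  rw [Additive.ofMul.injective.eq_iff, QuotientGroup.eq_one_iff, sec.mem_ZQ]

theorem cls_mul (sec : Sec Q Z N) (x y : ↥Q) : sec.cls (x * y) = sec.cls x + sec.cls y := rfl

theorem cls_eq_cls (sec : Sec Q Z N) {x y : ↥Q} : sec.cls x = sec.cls y ↔ (x : T)⁻¹ * (y : T) ∈ Z := by
  unfold cls
  rw [Additive.ofMul.injective.eq_iff, QuotientGroup.eq, sec.mem_ZQ]
  simp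

/-- conjugation by an element of `N` on `Q`. -/
def conjQ (sec : Sec Q Z N) (n : ↥N) : ↥Q →* ↥Q where
  toFun x := ⟨(n : T) * (x : T) * (n : T)⁻¹, sec.normQ n n.2 x x.2⟩
  map_one' := by
    apply Subtype.ext
    simp
  map_mul' a b := by
    apply Subtype.ext
    simp only [Subgroup.coe_mul]
    group

theorem conjQ_coe (sec : Sec Q Z N) (n : ↥N) (x : ↥Q) :
    ((sec.conjQ n x : ↥Q) : T) = (n : T) * (x : T) * (n : T)⁻¹ := rfl

theorem conjQ_ZQ (sec : Sec Q Z N) (n : ↥N) : sec.ZQ ≤ sec.ZQ.comap (sec.conjQ n) := by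
  intro z hz
  rw [Subgroup.mem_comap, mem_ZQ, conjQ_coe]
  exact sec.normZ n n.2 z (sec.mem_ZQ.mp hz)

/-- the action of an element of `N` on `Q / Z`. -/
def act (sec : Sec Q Z N) (n : ↥N) : sec.Quot →* sec.Quot :=
  QuotientGroup.map sec.ZQ sec.ZQ (sec.conjQ n) (sec.conjQ_ZQ n)

theorem act_mk (sec : Sec Q Z N) (n : ↥N) (x : ↥Q) :
    sec.act n (QuotientGroup.mk x) = QuotientGroup.mk (sec.conjQ n x) := rfl

instance distribMulAction (sec : Sec Q Z N) : DistribMulAction ↥N sec.M where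
  smul n v := Additive.ofMul (sec.act n (Additive.toMul v))
  one_smul v := by
    obtain ⟨x, rfl⟩ := sec.cls_surjective v
    change Additive.ofMul (sec.act 1 (QuotientGroup.mk x)) = Additive.ofMul (QuotientGroup.mk x)
    rw [act_mk]
    congr 2
    apply Subtype.ext
    rw [conjQ_coe]
    simp
  mul_smul a b v := by
    obtain ⟨x, rfl⟩ := sec.cls_surjective v
    change Additive.ofMul (sec.act (a * b) (QuotientGroup.mk x)) =
      Additive.ofMul (sec.act a (sec.act b (QuotientGroup.mk x)))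
    rw [act_mk, act_mk, act_mk]
    congr 2
    apply Subtype.ext
    rw [conjQ_coe, conjQ_coe, conjQ_coe]
    simp only [Subgroup.coe_mul]
    group
  smul_zero n := by
    change Additive.ofMul (sec.act n 1) = Additive.ofMul 1
    rw [map_one]
  smul_add n u v := by
    change Additive.ofMul (sec.act n (Additive.toMul u * Additive.toMul v)) =
      Additive.ofMul (sec.act n (Additive.toMul u) * sec.act n (Additive.toMul v))
    rw [map_mul]

theorem smul_cls (sec : Sec Q Z N) (n : ↥N) (x : ↥Q) : n • sec.cls x = sec.cls (sec.conjQ n x) := rfl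

theorem smul_cls_eq_iff (sec : Sec Q Z N) (n : ↥N) (x : ↥Q) :
    n • sec.cls x = sec.cls x ↔ (n : T) * (x : T) * (n : T)⁻¹ * (x : T)⁻¹ ∈ Z := by
  rw [smul_cls, cls_eq_cls, conjQ_coe, sec.inv_mul_mem_iff (sec.normQ n n.2 x x.2),
    ← Z.inv_mem_iff]
  have e : ((x : T) * ((n : T) * (x : T) * (n : T)⁻¹)⁻¹)⁻¹ =
      (n : T) * (x : T) * (n : T)⁻¹ * (x : T)⁻¹ := by group
  rw [e]

instance finiteM [Finite T] (sec : Sec Q Z N) : Finite sec.M :=
  inferInstanceAs (Finite (↥Q ⧸ sec.ZQ))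

theorem card_M_dvd [Finite T] (sec : Sec Q Z N) : Nat.card sec.M ∣ Nat.card Q := by
  have h1 : Nat.card sec.M = Nat.card (↥Q ⧸ sec.ZQ) := Nat.card_congr Additive.toMul
  rw [h1]
  exact ⟨Nat.card sec.ZQ, (Subgroup.card_eq_card_quotient_mul_card_subgroup sec.ZQ)⟩

end Sec

/-- the simultaneous normalizer of `Q` and `Z`. -/
def NN (Q Z : Subgroup T) : Subgroup T :=
  Subgroup.normalizer (Q : Set T) ⊓ Subgroup.normalizer (Z : Set T)

theorem mem_NN [Finite T] {Q Z : Subgroup T} {n : T} (hQ : ∀ x ∈ Q, n * x * n⁻¹ ∈ Q)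
    (hZ : ∀ z ∈ Z, n * z * n⁻¹ ∈ Z) : n ∈ NN Q Z :=
  ⟨Cfsg.Agent.Lib.Helper7.S3L.mem_normalizer_of_conj_mem hQ,
    Cfsg.Agent.Lib.Helper7.S3L.mem_normalizer_of_conj_mem hZ⟩

theorem sec_NN {Q Z : Subgroup T} (hZQ : Z ≤ Q)
    (hab : ∀ x ∈ Q, ∀ y ∈ Q, x * y * x⁻¹ * y⁻¹ ∈ Z) : Sec Q Z (NN Q Z) where
  le := hZQ
  comm := hab
  normQ := fun _ hn x hx => (Subgroup.mem_normalizer_iff.mp hn.1 x).mp hx
  normZ := fun _ hn z hz => (Subgroup.mem_normalizer_iff.mp hn.2 z).mp hz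

/-- **(L-frob) for sections**, elementwise form.  `Q / Z` is an abelian section of the finite group
`T`, normalized by the subgroup `K` and by the element `b`; `b ^ s = 1` (`s` prime), `b`
normalizes `K` and acts on it fixed-point-freely; `(|Q|, |K|) = 1`; `C_{Q/Z}(K) = 1` and `Q ≠ Z`.
Then `C_{Q/Z}(b) ≠ 1`. -/
theorem l_frob_section [Finite T] {Q Z K : Subgroup T} {b : T} {s : ℕ} (hs : s.Prime)
    (hZQ : Z ≤ Q) (hab : ∀ x ∈ Q, ∀ y ∈ Q, x * y * x⁻¹ * y⁻¹ ∈ Z)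
    (hKQ : ∀ k ∈ K, ∀ x ∈ Q, k * x * k⁻¹ ∈ Q) (hKZ : ∀ k ∈ K, ∀ z ∈ Z, k * z * k⁻¹ ∈ Z)
    (hbQ : ∀ x ∈ Q, b * x * b⁻¹ ∈ Q) (hbZ : ∀ z ∈ Z, b * z * b⁻¹ ∈ Z)
    (hbs : b ^ s = 1) (hbK : ∀ z ∈ K, b * z * b⁻¹ ∈ K) (hfpf : ∀ z ∈ K, b * z = z * b → z = 1)
    (hcop : (Nat.card Q).Coprime (Nat.card K))
    (hfix : ∀ x ∈ Q, (∀ k ∈ K, k * x * k⁻¹ * x⁻¹ ∈ Z) → x ∈ Z) (hne : ¬ Q ≤ Z) :
    ∃ x ∈ Q, x ∉ Z ∧ b * x * b⁻¹ * x⁻¹ ∈ Z := by
  have sec := sec_NN hZQ hab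
  have hKN : K ≤ NN Q Z := fun k hk => mem_NN (hKQ k hk) (hKZ k hk)
  have hbN : b ∈ NN Q Z := mem_NN hbQ hbZ
  have hcard : Nat.card (K.subgroupOf (NN Q Z)) = Nat.card K :=
    Nat.card_congr (Subgroup.subgroupOfEquivOfLe hKN).toEquiv
  obtain ⟨x, hx, hxZ⟩ := SetLike.not_le_iff_exists.mp hne
  obtain ⟨v, hv0, hbv⟩ := Cfsg.Agent.Lib.Helper2.PQFrob.l_frob_top (V := sec.M)
    (T := ↥(NN Q Z)) hs (K.subgroupOf (NN Q Z)) ⟨b, hbN⟩
    (by apply Subtype.ext; simpa using hbs)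
    (by
      intro z hz
      rw [Subgroup.mem_subgroupOf] at hz ⊢
      simpa using hbK z hz)
    (by
      intro z hz hc
      rw [Subgroup.mem_subgroupOf] at hz
      apply Subtype.ext
      have := congrArg Subtype.val hc
      simp only [Subgroup.coe_mul] at this
      exact hfpf z hz this)
    (by
      rw [hcard]
      exact Nat.Coprime.coprime_dvd_left sec.card_M_dvd hcop)
    (by
      intro v hv
      obtain ⟨y, rfl⟩ := sec.cls_surjective v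
      rw [sec.cls_eq_zero]
      apply hfix y y.2
      intro k hk
      have := hv ⟨k, hKN hk⟩ (Subgroup.mem_subgroupOf.mpr hk)
      exact (sec.smul_cls_eq_iff _ y).mp this)
    ⟨sec.cls ⟨x, hx⟩, fun h => hxZ (sec.cls_eq_zero.mp h)⟩
  obtain ⟨y, rfl⟩ := sec.cls_surjective v
  refine ⟨y, y.2, fun h => hv0 (sec.cls_eq_zero.mpr h), ?_⟩
  exact (sec.smul_cls_eq_iff ⟨b, hbN⟩ y).mp hbv

end Cfsg.Agent.Lib.Helper2.SecMod
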