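import Mathlib
import Cfsg.Agent.Lib.Helper2.SecMod

set_option autoImplicit false
set_option linter.unusedSectionVars false

/-! S4306 swarm: (L-frob) for an abelian section `Q / Z`, relative form: the acting group `K` is
only fixed-point-free under `b` modulo a normal subgroup `C` acting trivially on `Q / Z`. -/

namespace Cfsg.Agent.Lib.Helper2.SecMod

universe w

variable {T : Type w} [Group T]

namespace Sec

variable {Q Z N : Subgroup T}

theorem act_mk_eq_iff (sec : Sec Q Z N) (n : ↥N) (x : ↥Q) :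
    sec.act n (QuotientGroup.mk x) = QuotientGroup.mk x ↔
      (n : T) * (x : T) * (n : T)⁻¹ * (x : T)⁻¹ ∈ Z := by
  have h := sec.smul_cls_eq_iff n x
  rw [← h]
  exact ⟨fun e => congrArg Additive.ofMul e, fun e => Additive.ofMul.injective e⟩

theorem act_act_inv (sec : Sec Q Z N) (n : ↥N) (a : sec.Quot) : sec.act n⁻¹ (sec.act n a) = a := by
  induction a using QuotientGroup.induction_on with
  | H x =>
    rw [act_mk, act_mk]
    congr 1
    apply Subtype.ext
    rw [conjQ_coe, conjQ_coe]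
    simp only [Subgroup.coe_inv]
    group

/-- the action of `N` on `Q / Z` as a homomorphism to the automorphism group. -/
def rho (sec : Sec Q Z N) : ↥N →* MulAut sec.Quot where
  toFun n :=
    { toFun := sec.act n
      invFun := sec.act n⁻¹
      left_inv := sec.act_act_inv n
      right_inv := fun a => by
        have := sec.act_act_inv n⁻¹ a
        rwa [inv_inv] at this
      map_mul' := map_mul _ }
  map_one' := by
    apply MulEquiv.ext
    intro a
    induction a using QuotientGroup.induction_on with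
    | H x =>
      show sec.act 1 (QuotientGroup.mk x) = QuotientGroup.mk x
      rw [act_mk]
      congr 1
      apply Subtype.ext
      rw [conjQ_coe]
      simp
  map_mul' a b := by
    apply MulEquiv.ext
    intro c
    induction c using QuotientGroup.induction_on with
    | H x =>
      show sec.act (a * b) (QuotientGroup.mk x) = sec.act a (sec.act b (QuotientGroup.mk x))
      rw [act_mk, act_mk, act_mk]
      congr 1
      apply Subtype.ext
      rw [conjQ_coe, conjQ_coe, conjQ_coe]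
      simp only [Subgroup.coe_mul]
      group

theorem rho_apply (sec : Sec Q Z N) (n : ↥N) (a : sec.Quot) : sec.rho n a = sec.act n a := rfl

end Sec

/-- a subgroup `C ≤ N`, normal in `N`, acting trivially on the section `Q / Z`. -/
structure Ker {Q Z N : Subgroup T} (sec : Sec Q Z N) (C : Subgroup T) : Prop where
  le : C ≤ N
  norm : ∀ n ∈ N, ∀ c ∈ C, n * c * n⁻¹ ∈ C
  triv : ∀ c ∈ C, ∀ x ∈ Q, c * x * c⁻¹ * x⁻¹ ∈ Z

namespace Ker

variable {Q Z N C : Subgroup T} {sec : Sec Q Z N}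

/-- `C` as a subgroup of `N`. -/
def CN (_ker : Ker sec C) : Subgroup ↥N := C.subgroupOf N

theorem mem_CN (ker : Ker sec C) {n : ↥N} : n ∈ ker.CN ↔ (n : T) ∈ C := Subgroup.mem_subgroupOf

instance normal_CN (ker : Ker sec C) : ker.CN.Normal := ⟨by
  intro c hc n
  rw [mem_CN] at hc ⊢
  have := ker.norm n n.2 c hc
  simpa using this⟩

theorem CN_le_ker (ker : Ker sec C) : ker.CN ≤ sec.rho.ker := by
  intro c hc
  rw [MonoidHom.mem_ker]
  apply MulEquiv.ext
  intro a
  induction a using QuotientGroup.induction_on with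
  | H x =>
    show sec.act c (QuotientGroup.mk x) = QuotientGroup.mk x
    rw [Sec.act_mk_eq_iff]
    exact ker.triv c (ker.mem_CN.mp hc) x x.2

/-- the quotient group `N / C`. -/
abbrev TT (ker : Ker sec C) : Type w := ↥N ⧸ ker.CN

/-- the action of `N / C` on `Q / Z`. -/
def rho' (ker : Ker sec C) : ker.TT →* MulAut sec.Quot :=
  QuotientGroup.lift ker.CN sec.rho ker.CN_le_ker

theorem rho'_mk (ker : Ker sec C) (n : ↥N) : ker.rho' (QuotientGroup.mk n) = sec.rho n := rfl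

/-- the module structure of `Q / Z` over `N / C`. -/
def distribMulAction (ker : Ker sec C) : DistribMulAction ker.TT sec.M where
  smul t v := Additive.ofMul (ker.rho' t (Additive.toMul v))
  one_smul v := by
    show Additive.ofMul (ker.rho' 1 (Additive.toMul v)) = v
    rw [map_one]
    rfl
  mul_smul a b v := by
    show Additive.ofMul (ker.rho' (a * b) (Additive.toMul v)) =
      Additive.ofMul (ker.rho' a (ker.rho' b (Additive.toMul v)))
    rw [map_mul]
    rfl
  smul_zero t := by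
    show Additive.ofMul (ker.rho' t 1) = Additive.ofMul 1
    rw [map_one]
  smul_add t u v := by
    show Additive.ofMul (ker.rho' t (Additive.toMul u * Additive.toMul v)) =
      Additive.ofMul (ker.rho' t (Additive.toMul u) * ker.rho' t (Additive.toMul v))
    rw [map_mul]

end Ker

/-- **(L-frob) for sections, relative form.**  `Q / Z` is an abelian section of the finite group
`T`, normalized by the subgroup `K` and by the element `b`; `C ≤ K` is normalized by `K` and `b`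
and acts trivially on `Q / Z`; `b ^ s = 1` (`s` prime), `b` normalizes `K` and acts
fixed-point-freely on `K / C`; `(|Q|, |K|) = 1`; `C_{Q/Z}(K) = 1` and `Q ≠ Z`.
Then `C_{Q/Z}(b) ≠ 1`. -/
theorem l_frob_section_rel [Finite T] {Q Z K C : Subgroup T} {b : T} {s : ℕ} (hs : s.Prime)
    (hZQ : Z ≤ Q) (hab : ∀ x ∈ Q, ∀ y ∈ Q, x * y * x⁻¹ * y⁻¹ ∈ Z)
    (hKQ : ∀ k ∈ K, ∀ x ∈ Q, k * x * k⁻¹ ∈ Q) (hKZ : ∀ k ∈ K, ∀ z ∈ Z, k * z * k⁻¹ ∈ Z)
    (hbQ : ∀ x ∈ Q, b * x * b⁻¹ ∈ Q) (hbZ : ∀ z ∈ Z, b * z * b⁻¹ ∈ Z)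
    (hCK : C ≤ K) (hKC : ∀ k ∈ K, ∀ c ∈ C, k * c * k⁻¹ ∈ C) (hbC : ∀ c ∈ C, b * c * b⁻¹ ∈ C)
    (hCtriv : ∀ c ∈ C, ∀ x ∈ Q, c * x * c⁻¹ * x⁻¹ ∈ Z)
    (hbs : b ^ s = 1) (hbK : ∀ z ∈ K, b * z * b⁻¹ ∈ K)
    (hfpf : ∀ z ∈ K, b * z * b⁻¹ * z⁻¹ ∈ C → z ∈ C)
    (hcop : (Nat.card Q).Coprime (Nat.card K))
    (hfix : ∀ x ∈ Q, (∀ k ∈ K, k * x * k⁻¹ * x⁻¹ ∈ Z) → x ∈ Z) (hne : ¬ Q ≤ Z) :
    ∃ x ∈ Q, x ∉ Z ∧ b * x * b⁻¹ * x⁻¹ ∈ Z := by
  classical
  -- the acting group: `N := ⟨K, b⟩`-ish, here the largest subgroup normalizing `Q`, `Z`, `C`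
  set N : Subgroup T := NN Q Z ⊓ Subgroup.normalizer (C : Set T) with hN
  have sec : Sec Q Z N :=
    { le := hZQ
      comm := hab
      normQ := fun _ hn x hx => (Subgroup.mem_normalizer_iff.mp hn.1.1 x).mp hx
      normZ := fun _ hn z hz => (Subgroup.mem_normalizer_iff.mp hn.1.2 z).mp hz }
  have hKN : K ≤ N := fun k hk =>
    ⟨mem_NN (hKQ k hk) (hKZ k hk),
      Cfsg.Agent.Lib.Helper7.S3L.mem_normalizer_of_conj_mem (hKC k hk)⟩
  have hbN : b ∈ N :=
    ⟨mem_NN hbQ hbZ, Cfsg.Agent.Lib.Helper7.S3L.mem_normalizer_of_conj_mem hbC⟩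
  have ker : Ker sec C :=
    { le := hCK.trans hKN
      norm := fun _ hn c hc => (Subgroup.mem_normalizer_iff.mp hn.2 c).mp hc
      triv := hCtriv }
  letI : DistribMulAction ker.TT sec.M := ker.distribMulAction
  have hsmul : ∀ (n : ↥N) (x : ↥Q),
      ((QuotientGroup.mk n : ker.TT) • sec.cls x = sec.cls x) ↔
        (n : T) * (x : T) * (n : T)⁻¹ * (x : T)⁻¹ ∈ Z := by
    intro n x
    rw [← sec.smul_cls_eq_iff n x]
    exact Iff.rfl
  set π : ↥N →* ker.TT := QuotientGroup.mk' ker.CN with hπ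
  have hπeq : ∀ {m n : ↥N}, π m = π n ↔ (m : T)⁻¹ * (n : T) ∈ C := by
    intro m n
    rw [hπ, QuotientGroup.mk'_apply, QuotientGroup.mk'_apply, QuotientGroup.eq, ker.mem_CN]
    simp
  set K' : Subgroup ker.TT := (K.subgroupOf N).map π with hK'
  have hcardK' : Nat.card K' ∣ Nat.card K := by
    have h1 : Nat.card K' ∣ Nat.card (K.subgroupOf N) := Subgroup.card_map_dvd (K.subgroupOf N) π
    have h2 : Nat.card (K.subgroupOf N) = Nat.card K :=
      Nat.card_congr (Subgroup.subgroupOfEquivOfLe hKN).toEquiv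
    rwa [h2] at h1
  obtain ⟨x, hx, hxZ⟩ := SetLike.not_le_iff_exists.mp hne
  obtain ⟨v, hv0, hbv⟩ := Cfsg.Agent.Lib.Helper2.PQFrob.l_frob_top (V := sec.M)
    (T := ker.TT) hs K' (π ⟨b, hbN⟩)
    (by
      rw [← map_pow]
      have : (⟨b, hbN⟩ : ↥N) ^ s = 1 := by apply Subtype.ext; simpa using hbs
      rw [this, map_one])
    (by
      rintro _ ⟨z, hz, rfl⟩
      refine ⟨⟨b, hbN⟩ * z * ⟨b, hbN⟩⁻¹, ?_, by simp⟩
      rw [SetLike.mem_coe, Subgroup.mem_subgroupOf] at hz ⊢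
      simpa using hbK z hz)
    (by
      rintro _ ⟨z, hz, rfl⟩ hc
      rw [SetLike.mem_coe, Subgroup.mem_subgroupOf] at hz
      rw [← map_mul, ← map_mul, hπeq] at hc
      -- `(b z)⁻¹ (z b) ∈ C`, conjugate by `b z`
      have h1 : (b * (z : T)) * (((⟨b, hbN⟩ * z : ↥N) : T)⁻¹ * ((z * ⟨b, hbN⟩ : ↥N) : T)) *
          (b * (z : T))⁻¹ ∈ C := by
        have hbz : b * (z : T) ∈ N := N.mul_mem hbN z.2
        exact ker.norm _ hbz _ hc
      have h2 : (b * (z : T)) * (((⟨b, hbN⟩ * z : ↥N) : T)⁻¹ * ((z * ⟨b, hbN⟩ : ↥N) : T)) *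
          (b * (z : T))⁻¹ = (b * (z : T) * b⁻¹ * (z : T)⁻¹)⁻¹ := by
        simp only [Subgroup.coe_mul]
        group
      rw [h2] at h1
      have h3 := hfpf z hz (C.inv_mem_iff.mp h1)
      have : π z = 1 := by
        rw [hπ, QuotientGroup.mk'_apply, QuotientGroup.eq_one_iff, ker.mem_CN]
        exact h3
      exact this)
    (by
      exact Nat.Coprime.coprime_dvd_right hcardK'
        (Nat.Coprime.coprime_dvd_left sec.card_M_dvd hcop))
    (by
      intro v hv
      obtain ⟨y, rfl⟩ := sec.cls_surjective v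
      rw [sec.cls_eq_zero]
      apply hfix y y.2
      intro k hk
      have := hv (π ⟨k, hKN hk⟩) ⟨⟨k, hKN hk⟩, Subgroup.mem_subgroupOf.mpr hk, rfl⟩
      exact (hsmul ⟨k, hKN hk⟩ y).mp this)
    ⟨sec.cls ⟨x, hx⟩, fun h => hxZ (sec.cls_eq_zero.mp h)⟩
  obtain ⟨y, rfl⟩ := sec.cls_surjective v
  refine ⟨y, y.2, fun h => hv0 (sec.cls_eq_zero.mpr h), ?_⟩
  exact (hsmul ⟨b, hbN⟩ y).mp hbv

end Cfsg.Agent.Lib.Helper2.SecMod
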