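import Mathlib
import Cfsg.Agent.Lib.Helper7.PQSp1
import Cfsg.Agent.Lib.Helper2.PQA2
import Cfsg.Agent.Lib.Helper2.SecMod2
import Cfsg.Agent.Lib.Lead.CoprimeAction

set_option autoImplicit false
set_option linter.unusedSectionVars false
set_option linter.unusedVariables false

/-! S4306 swarm, package T-Sp2 (a)+(b) (plan §4, case `A₀ = H₀`): `C_Q(F) = 1`, and type (β) is
impossible.  The T-struct facts are explicit hypotheses. -/

namespace Cfsg.Agent.Lib.Helper2.PQSp2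

open Cfsg.Agent.Lib.Helper8.SBS Cfsg.Agent.Lib.Helper8.Ward Cfsg.Agent.Lib.Helper2.PQA
  Cfsg.Agent.Lib.Helper4.PQ Cfsg.Agent.Lib.Helper7.PQSp1

universe u w

variable {V : Type u} [AddCommGroup V] [Finite V] {T : Type w} [Group T] [Finite T]
  [DistribMulAction T V]

/-- if `c` normalizes `N` and `[c,x] ∈ N` then `[c^k,x] ∈ N` -/
theorem pow_comm_mem {N : Subgroup T} {c x : T} (hcN : ∀ w ∈ N, c * w * c⁻¹ ∈ N)
    (hx : c * x * c⁻¹ * x⁻¹ ∈ N) (k : ℕ) : c ^ k * x * (c ^ k)⁻¹ * x⁻¹ ∈ N := by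
  induction k with
  | zero =>
    have : c ^ 0 * x * (c ^ 0)⁻¹ * x⁻¹ = 1 := by simp
    rw [this]; exact N.one_mem
  | succ k ih =>
    have : c ^ (k + 1) * x * (c ^ (k + 1))⁻¹ * x⁻¹ =
        (c * (c ^ k * x * (c ^ k)⁻¹ * x⁻¹) * c⁻¹) * (c * x * c⁻¹ * x⁻¹) := by
      rw [pow_succ']; group
    rw [this]
    exact N.mul_mem (hcN _ ih) hx

/-- in a subgroup of prime order generated by `c`: `[c,x] ∈ N` gives `[c',x] ∈ N` for all `c'`. -/
theorem comm_mem_of_card_prime {K N : Subgroup T} {n : ℕ} (hn : n.Prime) (hK : Nat.card K = n)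
    {c x : T} (hc : c ∈ K) (hc1 : c ≠ 1) (hcN : ∀ w ∈ N, c * w * c⁻¹ ∈ N)
    (hx : c * x * c⁻¹ * x⁻¹ ∈ N) : ∀ c' ∈ K, c' * x * c'⁻¹ * x⁻¹ ∈ N := by
  intro c' hc'
  have h1 : c' ∈ Subgroup.zpowers c := mem_zpowers_of_card_prime hn hK hc hc1 hc'
  rw [← mem_powers_iff_mem_zpowers, Submonoid.mem_powers_iff] at h1
  obtain ⟨k, rfl⟩ := h1
  exact pow_comm_mem hcN hx k

section tower

variable {r t s p q : ℕ} {Q S A F H₀ : Subgroup T}

theorem Zc_ne_bot_of_isHyp (h : Tower V r t s p q Q S A F H₀) {Z₀ : Subgroup T}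
    (hZ₀ : IsHyp (V := V) t (Zc Q S) Z₀) : Zc Q S ≠ ⊥ := by
  intro h0
  have h1 := hZ₀.2.1
  rw [h0, Subgroup.card_bot] at h1
  have : t = 1 := Nat.eq_one_of_mul_eq_one_left h1
  exact h.ht.ne_one this

/-- **(a)** of plan §4, case `A₀ = H₀`: `C_Q(F) = 1`. -/
theorem cent_F_trivial (h : Tower V r t s p q Q S A F H₀)
    (hcen : ∀ z ∈ Zc Q S, ∀ u ∈ Q, z * u = u * z) (hpow : ∀ z ∈ Zc Q S, z ^ t = 1)
    (Z₀ : Subgroup T) (hZ₀ : IsHyp (V := V) t (Zc Q S) Z₀)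
    (hst : ∀ a ∈ A, (∀ z ∈ Z₀, a * z * a⁻¹ ∈ Z₀) ↔ a ∈ H₀) :
    ∀ u ∈ Q, (∀ f ∈ F, f * u = u * f) → u = 1 := by
  classical
  have htf : Fact t.Prime := ⟨h.ht⟩
  have hZ : Zc Q S ≠ ⊥ := Zc_ne_bot_of_isHyp h hZ₀
  have hfr := h.frob
  have hZn : (Zc Q S).Normal := Zc_normal h hcen
  have hcopt : (Nat.card V).Coprime t :=
    coprime_card_V h.hr h.hVr ((Nat.coprime_primes h.hr h.ht).2 (Ne.symm h.htr))
  have hcopA : (Nat.card V).Coprime (Nat.card A) := by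
    rw [h.frob.hA]
    exact coprime_card_V h.hr h.hVr h.hrA
  have hcopQ : (Nat.card V).Coprime (Nat.card Q) := by
    obtain ⟨k, hk⟩ := IsPGroup.iff_card.1 h.hQ
    rw [hk]; exact Nat.Coprime.pow_right k hcopt
  have hZQ : Zc Q S ≤ Q := fun x hx => (mem_Zc.1 hx).1
  have hcopZ : (Nat.card V).Coprime (Nat.card (Zc Q S)) :=
    Nat.Coprime.coprime_dvd_right (Subgroup.card_dvd_of_le hZQ) hcopQ
  have hAfix : fixedPts (V := V) A = ⊥ := by
    rw [eq_bot_iff]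
    intro v hv
    exact (AddSubgroup.mem_bot).2 (h.hfpfV v hv)
  have hZab : ∀ x ∈ Zc Q S, ∀ y ∈ Zc Q S, x * y = y * x := fun x hx y hy => hcen x hx y (hZQ hy)
  -- (a1) `C_W(H₀) = 0`
  have hWH : ∀ w ∈ fixedPts (V := V) Z₀, (∀ a ∈ H₀, a • w = w) → w = 0 := by
    intro w hw hwH
    by_contra hw0
    apply Cfsg.Agent.Lib.Lead.S3F1.fixedPts_ne_bot_of_hyp (V := V) (E := Zc Q S) (A := A)
      (hEn := hZn) hZab (tower_fixedPts_Zc h hcen hpow hZ) hcopZ hcopA hZ₀ hw hw0 ?_ hAfix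
    intro a' ha' ha'N
    exact hwH a' ((hst a' ha').1 (conjSub_eq_iff.1 ha'N))
  -- the generator of `H₀`
  obtain ⟨h₀, hh₀, hh₀1⟩ := exists_ne_one_of_card_prime hfr.hp hfr.hH
  have hh₀A : h₀ ∈ A := hfr.hHA hh₀
  have hh₀p : h₀ ^ p = 1 := by
    have := orderOf_of_card_prime hfr.hp hfr.hH hh₀ hh₀1
    rw [← this]; exact pow_orderOf_eq_one h₀
  have hh₀Z₀ : ∀ z ∈ Z₀, h₀ * z * h₀⁻¹ ∈ Z₀ := (hst h₀ hh₀A).2 hh₀
  -- `K = C_Q(F)`
  set K : Subgroup T := Q ⊓ Subgroup.centralizer (F : Set T) with hKdef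
  have hmemK : ∀ {u : T}, u ∈ K ↔ u ∈ Q ∧ ∀ f ∈ F, f * u = u * f := by
    intro u
    rw [hKdef, Subgroup.mem_inf, Subgroup.mem_centralizer_iff]
    rfl
  have hKQ : K ≤ Q := inf_le_left
  have hcopK : (Nat.card V).Coprime (Nat.card K) :=
    Nat.Coprime.coprime_dvd_right (Subgroup.card_dvd_of_le hKQ) hcopQ
  have hbK : ∀ z ∈ K, h₀ * z * h₀⁻¹ ∈ K := by
    intro z hz
    rw [hmemK] at hz ⊢
    refine ⟨h.hQn.conj_mem z hz.1 h₀, ?_⟩
    intro f hf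
    have hf' : h₀⁻¹ * f * h₀ ∈ F := by
      have := hfr.hFn h₀⁻¹ (A.inv_mem hh₀A) f hf
      simpa using this
    have h1 := hz.2 _ hf'
    calc f * (h₀ * z * h₀⁻¹) = h₀ * ((h₀⁻¹ * f * h₀) * z) * h₀⁻¹ := by group
      _ = h₀ * (z * (h₀⁻¹ * f * h₀)) * h₀⁻¹ := by rw [h1]
      _ = h₀ * z * h₀⁻¹ * f := by group
  have hfpfK : ∀ z ∈ K, h₀ * z = z * h₀ → z = 1 := by
    intro z hz hc
    rw [hmemK] at hz
    apply h.hfpfQ z hz.1
    intro a ha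
    obtain ⟨f, hf, b, hb, rfl⟩ := (PQA2.FrobPQ.mem_iff hfr).mp ha
    have hb' : b ∈ Subgroup.zpowers h₀ := mem_zpowers_of_card_prime hfr.hp hfr.hH hh₀ hh₀1 hb
    obtain ⟨i, rfl⟩ := Subgroup.mem_zpowers_iff.mp hb'
    have h1 : Commute (h₀ ^ i) z := (show Commute h₀ z from hc).zpow_left i
    rw [mul_assoc, h1.eq, ← mul_assoc, hz.2 f hf, mul_assoc]
  -- elements of `Q` centralize `Z₀` and so stabilize `W`
  have hQZ₀ : ∀ u ∈ Q, ∀ z ∈ Z₀, u * z * u⁻¹ ∈ Z₀ := by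
    intro u hu z hz
    have := hcen z (hZ₀.1 hz) u hu
    have e : u * z * u⁻¹ = z := by rw [← this]; group
    rw [e]; exact hz
  have hstabW : ∀ g : T, (∀ z ∈ Z₀, g * z * g⁻¹ ∈ Z₀) →
      ∀ w ∈ fixedPts (V := V) Z₀, g • w ∈ fixedPts (V := V) Z₀ := by
    intro g hg w hw
    have h1 := smul_mem_fixedPts_conjSub (K := Z₀) (v := w) hw g
    rwa [conjSub_eq_self hg] at h1
  -- (a3) `K` is faithful on `W`
  have hfaithK : ∀ u ∈ K, (∀ w ∈ fixedPts (V := V) Z₀, u • w = w) → u = 1 := by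
    intro u hu huW
    have huK := hmemK.mp hu
    apply h.hfaith u huK.1
    apply acts_trivially_of_translates (V := V) h.hirr (tower_hgen h hcen) hZ₀.1 hZ₀.2.2 u
    intro a ha w hw
    obtain ⟨f, hf, b, hb, rfl⟩ := (PQA2.FrobPQ.mem_iff hfr).mp ha
    have hbw : b • w ∈ fixedPts (V := V) Z₀ :=
      hstabW b ((hst b (hfr.hHA hb)).2 hb) w hw
    rw [mul_smul, ← mul_smul u f, ← huK.2 f hf, mul_smul, huW _ hbw]
  -- (a4)
  have hKbot : K = ⊥ := by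
    by_contra hKne
    have hFYK : ∀ k ∈ K, ∀ w ∈ FY (V := V) K Z₀, k • w ∈ FY (V := V) K Z₀ := by
      intro k hk w hw
      refine smul_mem_FY (fun z hz => K.mul_mem (K.mul_mem hk hz) (K.inv_mem hk))
        (hQZ₀ k (hKQ hk)) hw
    have hFYh : ∀ w ∈ FY (V := V) K Z₀, h₀ • w ∈ FY (V := V) K Z₀ := by
      intro w hw
      exact smul_mem_FY hbK hh₀Z₀ hw
    have hFY0 : ∀ w ∈ FY (V := V) K Z₀, (∀ k ∈ K, k • w = w) → w = 0 := by
      intro w hw hfix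
      have h1 : nu K w = Nat.card K • w := nu_of_mem_fixedPts hfix
      rw [(mem_FY.1 hw).2] at h1
      exact eq_zero_of_nsmul_eq_zero hcopK h1.symm
    have hFYne : FY (V := V) K Z₀ ≠ ⊥ := by
      intro hbot
      apply hKne
      rw [eq_bot_iff]
      intro u hu
      rw [Subgroup.mem_bot]
      apply hfaithK u hu
      intro w hw
      have hmem : u • w - w ∈ FY (V := V) K Z₀ := by
        rw [mem_FY]
        constructor
        · intro y hy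
          have h1 := hstabW u (hQZ₀ u (hKQ hu)) w hw
          rw [smul_sub, h1 y hy, hw y hy]
        · rw [nu_sub, nu_smul_of_mem hu, sub_self]
      rw [hbot, AddSubgroup.mem_bot] at hmem
      exact sub_eq_zero.1 hmem
    obtain ⟨w, hw, hw0, hbw⟩ := Cfsg.Agent.Lib.Helper2.PQFrob.l_frob hfr.hp K h₀ hh₀p hbK hfpfK
      (FY (V := V) K Z₀) hFYK hFYh hcopK hFY0 hFYne
    apply hw0
    apply hWH w (mem_FY.1 hw).1
    exact smul_eq_of_card_prime hfr.hp hfr.hH hh₀ hh₀1 hbw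
  intro u hu huF
  have : u ∈ K := hmemK.mpr ⟨hu, huF⟩
  rw [hKbot, Subgroup.mem_bot] at this
  exact this

/-- **(b)** of plan §4, case `A₀ = H₀`: type (β) is impossible.  Skeleton
`Tower.false_of_stab_H_beta` with the T-struct facts (T3) as hypotheses. -/
theorem false_of_stab_H_beta_of (h : Tower V r t s p q Q S A F H₀)
    (hcen : ∀ z ∈ Zc Q S, ∀ u ∈ Q, z * u = u * z) (hpow : ∀ z ∈ Zc Q S, z ^ t = 1)
    (hcomm : ∀ u ∈ Q, ∀ v ∈ Q, u * v * u⁻¹ * v⁻¹ ∈ Zc Q S)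
    (hCQS : ∀ u ∈ Q, (∀ c ∈ S, u * c * u⁻¹ * c⁻¹ ∈ Zc Q S) → u ∈ Zc Q S)
    (Z₀ : Subgroup T) (hZ₀ : IsHyp (V := V) t (Zc Q S) Z₀)
    (hst : ∀ a ∈ A, (∀ z ∈ Z₀, a * z * a⁻¹ ∈ Z₀) ↔ a ∈ H₀)
    (hβ : ∀ c ∈ S, (∀ f ∈ F, f * c * f⁻¹ * c⁻¹ ∈ CS Q S) → c ∈ CS Q S) : False := by
  classical
  have htf : Fact t.Prime := ⟨h.ht⟩
  have hsf : Fact s.Prime := ⟨h.hs⟩
  have hfr := h.frob
  have hZn : (Zc Q S).Normal := Zc_normal h hcen
  have hZQ : Zc Q S ≤ Q := fun x hx => (mem_Zc.1 hx).1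
  have hCF := cent_F_trivial h hcen hpow Z₀ hZ₀ hst
  obtain ⟨f, hf, hf1⟩ := exists_ne_one_of_card_prime hfr.hq hfr.hF
  have hfA : f ∈ A := hfr.hFA hf
  have hfq : f ^ q = 1 := by
    have := orderOf_of_card_prime hfr.hq hfr.hF hf hf1
    rw [← this]; exact pow_orderOf_eq_one f
  -- `A` normalizes `C_S(Q)`
  have hACS : ∀ a ∈ A, ∀ c ∈ CS Q S, a * c * a⁻¹ ∈ CS Q S := by
    intro a ha c hc
    rw [mem_CS] at hc ⊢
    refine ⟨h.hAS a ha c hc.1, ?_⟩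
    intro u hu
    have hu' : a⁻¹ * u * a ∈ Q := by
      have := h.hQn.conj_mem u hu a⁻¹
      simpa using this
    have h1 := hc.2 _ hu'
    calc u * (a * c * a⁻¹) = a * ((a⁻¹ * u * a) * c) * a⁻¹ := by group
      _ = a * (c * (a⁻¹ * u * a)) * a⁻¹ := by rw [h1]
      _ = a * c * a⁻¹ * u := by group
  have hSCS : ∀ k ∈ S, ∀ c ∈ CS Q S, k * c * k⁻¹ ∈ CS Q S := by
    intro k hk c hc
    rw [mem_CS] at hc ⊢
    refine ⟨S.mul_mem (S.mul_mem hk hc.1) (S.inv_mem hk), ?_⟩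
    intro u hu
    have hu' : k⁻¹ * u * k ∈ Q := by
      have := h.hQn.conj_mem u hu k⁻¹
      simpa using this
    have h1 := hc.2 _ hu'
    calc u * (k * c * k⁻¹) = k * ((k⁻¹ * u * k) * c) * k⁻¹ := by group
      _ = k * (c * (k⁻¹ * u * k)) * k⁻¹ := by rw [h1]
      _ = k * c * k⁻¹ * u := by group
  have hcopQS : (Nat.card Q).Coprime (Nat.card S) := by
    obtain ⟨k, hk⟩ := IsPGroup.iff_card.1 h.hQ
    obtain ⟨l, hl⟩ := IsPGroup.iff_card.1 h.hS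
    rw [hk, hl]
    exact Nat.Coprime.pow k l ((Nat.coprime_primes h.ht h.hs).2 h.hts)
  have hne : ¬ Q ≤ Zc Q S := by
    intro hle
    obtain ⟨u, hu, c, hc, hne⟩ := h.hQS
    exact hne ((mem_Zc.1 (hle hu)).2 c hc).symm
  obtain ⟨x, hxQ, hxZ, hfx⟩ := Cfsg.Agent.Lib.Helper2.SecMod.l_frob_section_rel (T := T)
    (Q := Q) (Z := Zc Q S) (K := S) (C := CS Q S) (b := f) hfr.hq hZQ hcomm
    (fun k _ x hx => h.hQn.conj_mem x hx k) (fun k _ z hz => hZn.conj_mem z hz k)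
    (fun x hx => h.hQn.conj_mem x hx f) (fun z hz => hZn.conj_mem z hz f)
    (fun c hc => (mem_CS.1 hc).1) hSCS (hACS f hfA)
    (by
      intro c hc x hx
      have := (mem_CS.1 hc).2 x hx
      have e : c * x * c⁻¹ * x⁻¹ = 1 := by rw [← this]; group
      rw [e]; exact (Zc Q S).one_mem)
    hfq (h.hAS f hfA)
    (by
      intro z hz hfz
      apply hβ z hz
      exact comm_mem_of_card_prime hfr.hq hfr.hF hf hf1 (hACS f hfA) hfz)
    hcopQS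
    (by
      intro x hx hk
      apply hCQS x hx
      intro c hc
      have := (Zc Q S).inv_mem (hk c hc)
      have e : (c * x * c⁻¹ * x⁻¹)⁻¹ = x * c * x⁻¹ * c⁻¹ := by group
      rwa [e] at this)
    hne
  -- lift the fixed point
  have hFnormQ : F ≤ Subgroup.normalizer (Q : Set T) := fun a _ => by
    rw [Subgroup.normalizer_eq_top_iff.mpr h.hQn]; exact Subgroup.mem_top a
  have hFnormZ : F ≤ Subgroup.normalizer ((Zc Q S : Subgroup T) : Set T) := fun a _ => by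
    rw [Subgroup.normalizer_eq_top_iff.mpr hZn]; exact Subgroup.mem_top a
  have hQnormZ : Q ≤ Subgroup.normalizer ((Zc Q S : Subgroup T) : Set T) := fun a _ => by
    rw [Subgroup.normalizer_eq_top_iff.mpr hZn]; exact Subgroup.mem_top a
  have hcopFQ : (Nat.card F).Coprime (Nat.card Q) := by
    obtain ⟨k, hk⟩ := IsPGroup.iff_card.1 h.hQ
    rw [hk, hfr.hF]
    exact Nat.Coprime.pow_right k ((Nat.coprime_primes hfr.hq h.ht).2
      (Ne.symm (ne_of_coprime_mul_right h.ht h.htA)))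
  have hFsolv : Group.IsSolvable F :=
    Group.isSolvable_of_comm (fun a b => Subtype.ext
      (comm_of_card_prime hfr.hq hfr.hF a.2 b.2))
  obtain ⟨c, hc, hxc⟩ := Cfsg.Agent.Lib.Lead.coprime_fixed_coset F Q hFnormQ hcopFQ
    (Or.inl hFsolv) (Zc Q S) hZQ hQnormZ hFnormZ x hxQ
    (comm_mem_of_card_prime hfr.hq hfr.hF hf hf1 (fun z hz => hZn.conj_mem z hz f) hfx)
  have hc1 : c = 1 := by
    apply hCF c hc.1
    intro f' hf'
    exact (Subgroup.mem_centralizer_iff.mp hc.2 f' hf')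
  rw [hc1, mul_one] at hxc
  exact hxZ ((Zc Q S).inv_mem_iff.mp hxc)

end tower

end Cfsg.Agent.Lib.Helper2.PQSp2
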