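import Mathlib
import Cfsg.Agent.Lib.Helper2.PQSp2
import Cfsg.Agent.Lib.Lead.PQT

set_option autoImplicit false
set_option linter.unusedSectionVars false

/-! S4306 swarm, package T-Sp2 (a)+(b): the exact skeleton statement
`Tower.false_of_stab_H_beta`. -/

namespace Cfsg.Agent.Lib.Helper2.PQSp2

open Cfsg.Agent.Lib.Helper8.SBS Cfsg.Agent.Lib.Helper4.PQ

universe u w

variable {V : Type u} [AddCommGroup V] [Finite V] {T : Type w} [Group T] [Finite T]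
  [DistribMulAction T V] {r t s p q : ℕ} {Q S A F H₀ : Subgroup T}

/-- `A₀ = H₀`: `C_Q(F) = 1`. -/
theorem Tower.cent_F_trivial (h : Tower V r t s p q Q S A F H₀) (Z₀ : Subgroup T)
    (hZ₀ : IsHyp (V := V) t (Zc Q S) Z₀)
    (hst : ∀ a ∈ A, (∀ z ∈ Z₀, a * z * a⁻¹ ∈ Z₀) ↔ a ∈ H₀) :
    ∀ u ∈ Q, (∀ f ∈ F, f * u = u * f) → u = 1 :=
  Cfsg.Agent.Lib.Helper2.PQSp2.cent_F_trivial h (Cfsg.Agent.Lib.Lead.PQT.Tower.Zc_central h)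
    (Cfsg.Agent.Lib.Lead.PQT.Tower.Zc_pow h) Z₀ hZ₀ hst

/-- `A₀ = H₀` (after `Tower.conj`), type (β) -/
theorem Tower.false_of_stab_H_beta (h : Tower V r t s p q Q S A F H₀) (Z₀ : Subgroup T)
    (hZ₀ : IsHyp (V := V) t (Zc Q S) Z₀)
    (hst : ∀ a ∈ A, (∀ z ∈ Z₀, a * z * a⁻¹ ∈ Z₀) ↔ a ∈ H₀)
    (hβ : ∀ c ∈ S, (∀ f ∈ F, f * c * f⁻¹ * c⁻¹ ∈ CS Q S) → c ∈ CS Q S) : False :=
  Cfsg.Agent.Lib.Helper2.PQSp2.false_of_stab_H_beta_of h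
    (Cfsg.Agent.Lib.Lead.PQT.Tower.Zc_central h)
    (Cfsg.Agent.Lib.Lead.PQT.Tower.Zc_pow h) (Cfsg.Agent.Lib.Lead.PQT.Tower.comm_mem_Zc h)
    (fun _ hu hc => Cfsg.Agent.Lib.Lead.PQT.Tower.mem_Zc_of_comm h hu hc) Z₀ hZ₀ hst hβ

end Cfsg.Agent.Lib.Helper2.PQSp2
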