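import Mathlib
import Cfsg.Prelude
import Cfsg.Agent.Lib.Helper2.PiSection
import Cfsg.Agent.Lib.Helper8.BlockLocal

set_option autoImplicit false

/-! Congruences of character values modulo a `p`-modular ideal (Isaacs, Lemma 8.20). -/

namespace Cfsg.Agent.Lib.Helper2.PRegularCong

open Cfsg Cfsg.Agent.Lib.Helper1 Cfsg.Agent.Lib.Helper4 Cfsg.Agent.Lib.Helper8
  Cfsg.Agent.Lib.Helper2.PiSection
open scoped ComplexConjugate

universe u

variable {G : Type u} [Group G] [Finite G] {p : ℕ} {M : Ideal Cfsg.AlgInt}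

/-- `χ(x) ≡ χ(x_{p'})` modulo the local ideal. -/
theorem char_sub_ppart_memLocalIdeal (hM : Cfsg.IsPModular p M) {χ : G → ℂ}
    (hχ : Cfsg.IsCharacter G χ) {x a : G} (ha : Cfsg.IsPPart p x a) :
    Cfsg.MemLocalIdeal M (χ x - χ (a⁻¹ * x)) := by
  classical
  obtain ⟨y, hxy, hc, ⟨k, hk⟩, -⟩ := ha
  subst hxy
  rw [inv_mul_cancel_left]
  have hMp : M.IsPrime := isPModular_isPrime hM
  have hMt : M ≠ ⊤ := isPModular_ne_top hM
  let S : Set G := {a, y}
  have hS : ∀ s ∈ S, ∀ t ∈ S, s * t = t * s := by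
    intro s hs t ht
    rcases hs with rfl | hs <;> rcases ht with rfl | ht
    · rfl
    · rw [Set.mem_singleton_iff.1 ht]; exact hc
    · rw [Set.mem_singleton_iff.1 hs]; exact hc.symm
    · rw [Set.mem_singleton_iff.1 hs, Set.mem_singleton_iff.1 ht]
  let A : Subgroup G := Subgroup.closure S
  have hcomm : ∀ s t : A, s * t = t * s :=
    fun s t => (Subgroup.closureCommGroupOfComm hS).mul_comm s t
  have haA : a ∈ A := Subgroup.subset_closure (Set.mem_insert a _)
  have hyA : y ∈ A := Subgroup.subset_closure (Set.mem_insert_of_mem a rfl)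
  haveI : Fintype A := Fintype.ofFinite A
  haveI : Fintype (Cfsg.IrrCharacter A) := Fintype.ofFinite _
  have hχA : Cfsg.IsCharacter A (fun s : A => χ s) := Cfsg.Agent.S0148.isCharacter_restrict A hχ
  have hexp := class_function_expansion (fun s : A => χ s) (isClassFunction_of_isCharacter hχA)
  have e1 := congrFun hexp (⟨a, haA⟩ * ⟨y, hyA⟩)
  have e2 := congrFun hexp ⟨y, hyA⟩
  rw [Finset.sum_apply] at e1 e2
  have e1' : χ (a * y) = ∑ ψ : Cfsg.IrrCharacter A,
      (Cfsg.classInner (fun s : A => χ s) ψ • (ψ : A → ℂ)) (⟨a, haA⟩ * ⟨y, hyA⟩) := e1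
  have e2' : χ y = ∑ ψ : Cfsg.IrrCharacter A,
      (Cfsg.classInner (fun s : A => χ s) ψ • (ψ : A → ℂ)) ⟨y, hyA⟩ := e2
  rw [e1', e2', ← Finset.sum_sub_distrib]
  apply memLocalIdeal_sum hMp
  intro ψ _
  obtain ⟨n, hn⟩ := classInner_char_irr_nat hχA ψ.2
  obtain ⟨lam, hlam⟩ := exists_hom_of_isIrrCharacter ψ.2
    (Cfsg.Agent.S0176.irr_linear_of_comm hcomm ψ.2)
  rw [Pi.smul_apply, Pi.smul_apply, hn, hlam, smul_eq_mul, smul_eq_mul]
  have h1 : ((lam (⟨a, haA⟩ * ⟨y, hyA⟩) : ℂˣ) : ℂ) = ((lam ⟨a, haA⟩ : ℂˣ) : ℂ) * ((lam ⟨y, hyA⟩ : ℂˣ) : ℂ) := by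
    rw [map_mul, Units.val_mul]
  have h2 : (n : ℂ) * ((lam (⟨a, haA⟩ * ⟨y, hyA⟩) : ℂˣ) : ℂ) - (n : ℂ) * ((lam ⟨y, hyA⟩ : ℂˣ) : ℂ)
      = ((n : ℂ) * ((lam ⟨y, hyA⟩ : ℂˣ) : ℂ)) * (((lam ⟨a, haA⟩ : ℂˣ) : ℂ) - 1) := by
    rw [h1]; ring
  rw [h2]
  apply memLocalIdeal_mul_left hMp
  · apply memLocalRing_mul hMp (memLocalRing_natCast hMt n)
    apply memLocalRing_of_isIntegral hMt
    have h3 := Cfsg.Agent.S0161.isIntegral_isCharacter (isCharacter_of_irr ψ.2) ⟨y, hyA⟩
    rw [hlam] at h3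
    exact h3
  · apply memLocalIdeal_sub_one_of_pow_eq_one hM k
    have h4 : (⟨a, haA⟩ : A) ^ (p ^ k) = 1 := by
      apply Subtype.ext
      rw [Subgroup.coe_pow, Subgroup.coe_one]
      show a ^ (p ^ k) = 1
      rw [← hk]
      exact pow_orderOf_eq_one a
    rw [← Units.val_pow_eq_pow_val, ← map_pow, h4, map_one, Units.val_one]

/-- `p`-regular elements whose character values are all congruent are conjugate. -/
theorem isConj_of_cong (hM : Cfsg.IsPModular p M) {x y : G} (hx : ¬ p ∣ orderOf x)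
    (hy : ¬ p ∣ orderOf y)
    (h : ∀ χ : Cfsg.IrrCharacter G, Cfsg.MemLocalIdeal M ((χ : G → ℂ) x - (χ : G → ℂ) y)) :
    IsConj x y := by
  classical
  by_contra hnc
  haveI : Fintype G := Fintype.ofFinite G
  haveI : Fintype (Cfsg.IrrCharacter G) := Fintype.ofFinite _
  have hp : p.Prime := hM.1
  have hMp : M.IsPrime := isPModular_isPrime hM
  have hMt : M ≠ ⊤ := isPModular_ne_top hM
  have hN0 : Nat.card G ≠ 0 := Nat.card_pos.ne'
  set m := p ^ (Nat.card G).factorization p with hm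
  set n := Nat.card G / p ^ (Nat.card G).factorization p with hn
  have hmn : Nat.card G = m * n := (Nat.ordProj_mul_ordCompl_eq_self (Nat.card G) p).symm
  have hcop : m.Coprime n := (Nat.coprime_ordCompl hp hN0).pow_left _
  have hpn : ¬ p ∣ n := Nat.not_dvd_ordCompl hp hN0
  obtain ⟨k, hk0, hk1⟩ := Nat.chineseRemainder hcop 0 1
  have hreg : ∀ z : G, ¬ p ∣ orderOf z → z ^ k = z := by
    intro z hz
    apply pow_eq_self_of_dvd hk1
    have h1 : (orderOf z).Coprime m :=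
      (Nat.Coprime.pow_right _ ((Nat.Prime.coprime_iff_not_dvd hp).2 hz).symm)
    exact h1.dvd_of_dvd_mul_left (hmn ▸ orderOf_dvd_natCard z)
  let γ : G → ℂ := fun z => if IsConj z x then (n : ℂ) else 0
  have hγ : Cfsg.IsClassFunction G γ := by
    intro z g
    show (if IsConj (g * z * g⁻¹) x then (n : ℂ) else 0) = if IsConj z x then (n : ℂ) else 0
    have h1 : IsConj (g * z * g⁻¹) x ↔ IsConj z x := by
      have h2 : IsConj z (g * z * g⁻¹) := isConj_iff.2 ⟨g, rfl⟩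
      constructor
      · intro h3; exact h2.trans h3
      · intro h3; exact h2.symm.trans h3
    rw [if_congr h1 rfl rfl]
  have hint : ∀ z, ∃ c : ℤ, γ z = c * (n : ℂ) := by
    intro z
    by_cases hz : IsConj z x
    · refine ⟨1, ?_⟩
      show (if IsConj z x then (n : ℂ) else 0) = _
      rw [if_pos hz]; simp
    · refine ⟨0, ?_⟩
      show (if IsConj z x then (n : ℂ) else 0) = _
      rw [if_neg hz]; simp
  have hexp := class_function_expansion (fun z => γ (z ^ k)) (isClassFunction_comp_pow k hγ)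
  have e1 := congrFun hexp x
  have e2 := congrFun hexp y
  rw [Finset.sum_apply] at e1 e2
  have e1' : γ (x ^ k) = ∑ χ : Cfsg.IrrCharacter G,
      (Cfsg.classInner (fun z => γ (z ^ k)) χ • (χ : G → ℂ)) x := e1
  have e2' : γ (y ^ k) = ∑ χ : Cfsg.IrrCharacter G,
      (Cfsg.classInner (fun z => γ (z ^ k)) χ • (χ : G → ℂ)) y := e2
  rw [hreg x hx] at e1'
  rw [hreg y hy] at e2'
  have f1 : γ x = n := by
    show (if IsConj x x then (n : ℂ) else 0) = n
    rw [if_pos (IsConj.refl x)]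
  have f2 : γ y = 0 := by
    show (if IsConj y x then (n : ℂ) else 0) = 0
    rw [if_neg (fun h => hnc h.symm)]
  have h3 : Cfsg.MemLocalIdeal M ((n : ℂ)) := by
    have h4 : (n : ℂ) = γ x - γ y := by rw [f1, f2, sub_zero]
    rw [h4, e1', e2', ← Finset.sum_sub_distrib]
    apply memLocalIdeal_sum hMp
    intro χ _
    rw [Pi.smul_apply, Pi.smul_apply, smul_eq_mul, smul_eq_mul, ← mul_sub]
    apply memLocalIdeal_mul_left hMp _ (h χ)
    exact memLocalRing_algInt hMt
      ⟨_, section_classInner_algInt m n k hmn hcop hk0 hk1 γ hγ hint χ χ.2⟩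
  exact hpn ((memLocalIdeal_natCast_iff hM n).1 h3)

end Cfsg.Agent.Lib.Helper2.PRegularCong
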