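import Mathlib

set_option autoImplicit false

namespace Cfsg.Agent.Lib.Helper2

namespace PSL27

open Matrix

/-- homogeneous coordinates of the points `0, …, 6, ∞` of the projective line over `F₇` -/
def homog : Fin 8 → ZMod 7 × ZMod 7 :=
  ![(0, 1), (1, 1), (2, 1), (3, 1), (4, 1), (5, 1), (6, 1), (1, 0)]

/-- the point of the projective line with given homogeneous coordinates -/
def nrm (v : ZMod 7 × ZMod 7) : Fin 8 :=
  if v.2 = 0 then 7 else Fin.ofNat 8 (ZMod.val (v.1 * v.2 ^ 5))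

set_option maxRecDepth 100000 in
theorem nrm_homog : ∀ z : Fin 8, nrm (homog z) = z := by decide

set_option maxRecDepth 100000 in
theorem homog_nrm : ∀ v : ZMod 7 × ZMod 7, v ≠ 0 →
    ∃ l : ZMod 7, l ≠ 0 ∧ homog (nrm v) = (l * v.1, l * v.2) := by decide

set_option maxRecDepth 100000 in
theorem nrm_smul : ∀ l : ZMod 7, l ≠ 0 → ∀ v : ZMod 7 × ZMod 7,
    nrm (l * v.1, l * v.2) = nrm v := by decide

set_option maxRecDepth 100000 in
theorem homog_ne_zero : ∀ z : Fin 8, homog z ≠ 0 := by decide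

/-- a matrix acting on a pair -/
def mv (M : Matrix (Fin 2) (Fin 2) (ZMod 7)) (v : ZMod 7 × ZMod 7) : ZMod 7 × ZMod 7 :=
  (M 0 0 * v.1 + M 0 1 * v.2, M 1 0 * v.1 + M 1 1 * v.2)

theorem mv_mul (M N : Matrix (Fin 2) (Fin 2) (ZMod 7)) (v : ZMod 7 × ZMod 7) :
    mv (M * N) v = mv M (mv N v) := by
  unfold mv
  simp only [Matrix.mul_apply, Fin.sum_univ_two]
  apply Prod.ext
  · ring
  · ring

theorem mv_smul (M : Matrix (Fin 2) (Fin 2) (ZMod 7)) (l : ZMod 7) (v : ZMod 7 × ZMod 7) :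
    mv M (l * v.1, l * v.2) = (l * (mv M v).1, l * (mv M v).2) := by
  unfold mv
  apply Prod.ext
  · simp only; ring
  · simp only; ring

theorem mv_one (v : ZMod 7 × ZMod 7) : mv 1 v = v := by
  unfold mv
  simp

theorem mv_ne_zero (M : Matrix (Fin 2) (Fin 2) (ZMod 7)) (hM : M.det = 1) (v : ZMod 7 × ZMod 7)
    (hv : v ≠ 0) : mv M v ≠ 0 := by
  intro h
  apply hv
  rw [Matrix.det_fin_two] at hM
  unfold mv at h
  have h1 : M 0 0 * v.1 + M 0 1 * v.2 = 0 := congrArg Prod.fst h
  have h2 : M 1 0 * v.1 + M 1 1 * v.2 = 0 := congrArg Prod.snd h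
  apply Prod.ext
  · show v.1 = 0
    calc v.1 = (M 0 0 * M 1 1 - M 0 1 * M 1 0) * v.1 := by rw [hM, one_mul]
      _ = M 1 1 * (M 0 0 * v.1 + M 0 1 * v.2) - M 0 1 * (M 1 0 * v.1 + M 1 1 * v.2) := by ring
      _ = 0 := by rw [h1, h2]; ring
  · show v.2 = 0
    calc v.2 = (M 0 0 * M 1 1 - M 0 1 * M 1 0) * v.2 := by rw [hM, one_mul]
      _ = M 0 0 * (M 1 0 * v.1 + M 1 1 * v.2) - M 1 0 * (M 0 0 * v.1 + M 0 1 * v.2) := by ring
      _ = 0 := by rw [h1, h2]; ring

/-- the Möbius action of a matrix on the projective line -/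
def act (M : Matrix (Fin 2) (Fin 2) (ZMod 7)) (z : Fin 8) : Fin 8 := nrm (mv M (homog z))

theorem act_one (z : Fin 8) : act 1 z = z := by
  unfold act
  rw [mv_one, nrm_homog]

theorem act_mul (M N : Matrix (Fin 2) (Fin 2) (ZMod 7)) (hN : N.det = 1) (z : Fin 8) :
    act (M * N) z = act M (act N z) := by
  unfold act
  obtain ⟨l, hl, h⟩ := homog_nrm (mv N (homog z)) (mv_ne_zero N hN _ (homog_ne_zero z))
  rw [h, mv_smul, nrm_smul l hl, mv_mul]

/-- the action of `SL₂(7)` on the eight points of the projective line -/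
def actHom : Matrix.SpecialLinearGroup (Fin 2) (ZMod 7) →* Equiv.Perm (Fin 8) where
  toFun g :=
    { toFun := act g.1
      invFun := act (g⁻¹).1
      left_inv := by
        intro z
        rw [← act_mul _ _ g.2]
        have : ((g⁻¹ : Matrix.SpecialLinearGroup (Fin 2) (ZMod 7)) : Matrix (Fin 2) (Fin 2) (ZMod 7)) *
            g.1 = 1 := by
          rw [← Matrix.SpecialLinearGroup.coe_mul, inv_mul_cancel, Matrix.SpecialLinearGroup.coe_one]
        rw [this, act_one]
      right_inv := by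
        intro z
        rw [← act_mul _ _ (g⁻¹).2]
        have : g.1 * ((g⁻¹ : Matrix.SpecialLinearGroup (Fin 2) (ZMod 7)) :
            Matrix (Fin 2) (Fin 2) (ZMod 7)) = 1 := by
          rw [← Matrix.SpecialLinearGroup.coe_mul, mul_inv_cancel, Matrix.SpecialLinearGroup.coe_one]
        rw [this, act_one] }
  map_one' := by
    apply Equiv.ext
    intro z
    exact act_one z
  map_mul' g h := by
    apply Equiv.ext
    intro z
    exact act_mul g.1 h.1 h.2 z

theorem actHom_apply (g : Matrix.SpecialLinearGroup (Fin 2) (ZMod 7)) (z : Fin 8) :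
    actHom g z = act g.1 z := rfl

end PSL27

end Cfsg.Agent.Lib.Helper2
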