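import Mathlib
import Cfsg.Agent.Lib.Helper2.PSL27a
import Cfsg.Agent.Lib.Helper1.SLn

set_option autoImplicit false

namespace Cfsg.Agent.Lib.Helper2

namespace PSL27

open Matrix

/-- a generator (and check) matrix of the extended Hamming code on the projective line -/
def G : Matrix (Fin 4) (Fin 8) (ZMod 2) :=
  !![1,1,0,1,0,0,0,1; 0,1,1,0,1,0,0,1; 0,0,1,1,0,1,0,1; 0,0,0,1,1,0,1,1]

/-- three code words spanning the code modulo the all-ones word -/
def A : Matrix (Fin 8) (Fin 3) (ZMod 2) :=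
  !![1,0,0; 1,1,0; 0,1,1; 1,0,1; 0,1,0; 0,0,1; 0,0,0; 1,1,1]

/-- the coordinates of a code word modulo the all-ones word -/
def B : Matrix (Fin 3) (Fin 8) (ZMod 2) :=
  !![0,0,0,0,1,1,1,1; 0,0,0,0,1,0,1,0; 0,0,0,0,0,1,1,0]

set_option maxRecDepth 100000 in
theorem BA : B * A = 1 := by decide

set_option maxRecDepth 100000 in
theorem AB : ∀ v : Fin 8 → ZMod 2, G *ᵥ v = 0 →
    A *ᵥ (B *ᵥ v) = v + fun _ => (A *ᵥ (B *ᵥ v)) 0 - v 0 := by decide

set_option maxRecDepth 100000 in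
theorem B_const : ∀ k : ZMod 2, B *ᵥ (fun _ => k) = 0 := by decide

set_option maxRecDepth 100000 in
theorem GA : ∀ c : Fin 3 → ZMod 2, G *ᵥ (A *ᵥ c) = 0 := by decide

/-- a permutation of the eight points preserving the code -/
def Inv (f : Fin 8 → Fin 8) : Prop := ∀ v : Fin 8 → ZMod 2, G *ᵥ v = 0 → G *ᵥ (v ∘ f) = 0

set_option maxRecDepth 100000 in
theorem inv_upper : ∀ c : ZMod 7, ∀ v : Fin 8 → ZMod 2, G *ᵥ v = 0 →
    G *ᵥ (v ∘ act (Matrix.transvection 0 1 c)) = 0 := by decide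

set_option maxRecDepth 100000 in
theorem inv_lower : ∀ c : ZMod 7, ∀ v : Fin 8 → ZMod 2, G *ᵥ v = 0 →
    G *ᵥ (v ∘ act (Matrix.transvection 1 0 c)) = 0 := by decide

end PSL27

end Cfsg.Agent.Lib.Helper2
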