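import Mathlib
import Cfsg.Agent.Lib.Helper2.PSL27b

set_option autoImplicit false

namespace Cfsg.Agent.Lib.Helper2

namespace PSL27

open Matrix

instance fact7 : Fact (Nat.Prime 7) := ⟨by norm_num⟩

/-- the elements of `SL₂(7)` preserving the code, together with their inverses -/
def H : Subgroup (Matrix.SpecialLinearGroup (Fin 2) (ZMod 7)) where
  carrier := {g | Inv (actHom g) ∧ Inv (actHom g⁻¹)}
  one_mem' := by
    constructor
    · intro v hv
      rw [map_one]
      exact hv
    · intro v hv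
      rw [inv_one, map_one]
      exact hv
  mul_mem' := by
    intro g h hg hh
    constructor
    · intro v hv
      have : v ∘ (actHom (g * h)) = (v ∘ actHom g) ∘ actHom h := by
        funext z
        simp [map_mul]
      rw [this]
      exact hh.1 _ (hg.1 v hv)
    · intro v hv
      have : v ∘ (actHom (g * h)⁻¹) = (v ∘ actHom h⁻¹) ∘ actHom g⁻¹ := by
        funext z
        simp [map_mul, _root_.mul_inv_rev]
      rw [this]
      exact hg.2 _ (hh.2 v hv)
  inv_mem' := by
    intro g hg
    refine ⟨hg.2, ?_⟩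
    rw [inv_inv]
    exact hg.1

theorem H_eq_top : H = ⊤ := by
  apply Cfsg.Agent.Lib.Helper1.eq_top_of_transvection_mem
  intro i j hij c
  have hinv : (Matrix.SpecialLinearGroup.transvection hij c)⁻¹ =
      Matrix.SpecialLinearGroup.transvection hij (-c) :=
    Matrix.SpecialLinearGroup.transvection_inv hij c
  constructor
  · intro v hv
    show G *ᵥ (v ∘ act (Matrix.transvection i j c)) = 0
    fin_cases i <;> fin_cases j
    · exact absurd rfl hij
    · exact inv_upper c v hv
    · exact inv_lower c v hv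
    · exact absurd rfl hij
  · intro v hv
    rw [hinv]
    show G *ᵥ (v ∘ act (Matrix.transvection i j (-c))) = 0
    fin_cases i <;> fin_cases j
    · exact absurd rfl hij
    · exact inv_upper (-c) v hv
    · exact inv_lower (-c) v hv
    · exact absurd rfl hij

theorem inv_all (g : Matrix.SpecialLinearGroup (Fin 2) (ZMod 7)) : Inv (actHom g⁻¹) := by
  have : g ∈ H := by rw [H_eq_top]; trivial
  exact this.2

/-- the three-dimensional representation of `SL₂(7)` over `F₂` -/
def R (g : Matrix.SpecialLinearGroup (Fin 2) (ZMod 7)) : Matrix (Fin 3) (Fin 3) (ZMod 2) :=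
  B * A.submatrix (fun i => actHom g⁻¹ i) id

theorem submatrix_mulVec (f : Fin 8 → Fin 8) (c : Fin 3 → ZMod 2) :
    (A.submatrix f id) *ᵥ c = (A *ᵥ c) ∘ f := by
  funext i
  simp [Matrix.mulVec, dotProduct, Matrix.submatrix]

theorem R_mulVec (g : Matrix.SpecialLinearGroup (Fin 2) (ZMod 7)) (c : Fin 3 → ZMod 2) :
    R g *ᵥ c = B *ᵥ ((A *ᵥ c) ∘ (fun i => actHom g⁻¹ i)) := by
  unfold R
  rw [← Matrix.mulVec_mulVec, submatrix_mulVec]

theorem B_add_const (v : Fin 8 → ZMod 2) (k : ZMod 2) (f : Fin 8 → Fin 8) :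
    B *ᵥ ((v + fun _ => k) ∘ f) = B *ᵥ (v ∘ f) := by
  have : (v + fun _ => k) ∘ f = v ∘ f + fun _ => k := by
    funext i
    simp
  rw [this, Matrix.mulVec_add, B_const, add_zero]

theorem R_mul (g h : Matrix.SpecialLinearGroup (Fin 2) (ZMod 7)) : R (g * h) = R g * R h := by
  apply Matrix.toLin'.injective
  apply LinearMap.ext
  intro c
  rw [Matrix.toLin'_apply, Matrix.toLin'_apply, ← Matrix.mulVec_mulVec, R_mulVec, R_mulVec,
    R_mulVec]
  have h0 : G *ᵥ ((A *ᵥ c) ∘ (fun i => actHom h⁻¹ i)) = 0 := inv_all h _ (GA c)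
  rw [AB _ h0, B_add_const]
  have hfun : ((A *ᵥ c) ∘ fun i => actHom (g * h)⁻¹ i) =
      ((A *ᵥ c) ∘ fun i => actHom h⁻¹ i) ∘ fun i => actHom g⁻¹ i := by
    funext z
    simp only [Function.comp_apply, _root_.mul_inv_rev, map_mul, Equiv.Perm.coe_mul]
  rw [hfun]

theorem R_one : R 1 = 1 := by
  unfold R
  have : A.submatrix (fun i => actHom (1 : Matrix.SpecialLinearGroup (Fin 2) (ZMod 7))⁻¹ i) id = A := by
    ext i j
    simp
  rw [this, BA]

theorem det_R (g : Matrix.SpecialLinearGroup (Fin 2) (ZMod 7)) : (R g).det = 1 := by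
  have h1 : R g * R g⁻¹ = 1 := by rw [← R_mul, mul_inv_cancel, R_one]
  have h2 : (R g).det * (R g⁻¹).det = 1 := by rw [← Matrix.det_mul, h1, Matrix.det_one]
  have h3 : (R g).det ≠ 0 := by
    intro h
    rw [h, zero_mul] at h2
    exact zero_ne_one h2
  revert h3
  generalize (R g).det = x
  revert x
  decide

/-- the representation as a homomorphism to `SL₃(2)` -/
def rho : Matrix.SpecialLinearGroup (Fin 2) (ZMod 7) →* Matrix.SpecialLinearGroup (Fin 3) (ZMod 2) where
  toFun g := ⟨R g, det_R g⟩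
  map_one' := Subtype.ext R_one
  map_mul' g h := Subtype.ext (R_mul g h)

end PSL27

end Cfsg.Agent.Lib.Helper2
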