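import Mathlib
import Cfsg.Agent.Lib.Helper2.PSL27c
import Cfsg.Agent.Lib.Helper1.SLCard

set_option autoImplicit false

namespace Cfsg.Agent.Lib.Helper2

namespace PSL27

open Matrix

/-- the representation matrix computed from the action of the inverse -/
def Rm (M : Matrix (Fin 2) (Fin 2) (ZMod 7)) : Matrix (Fin 3) (Fin 3) (ZMod 2) :=
  B * A.submatrix (act M) id

set_option maxRecDepth 1000000 in
set_option maxHeartbeats 4000000 in
theorem inj_aux : ∀ a b c d : ZMod 7, a * d - b * c = 1 → Rm !![a, b; c, d] = 1 →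
    b = 0 ∧ c = 0 ∧ a = d := by decide

theorem R_inv_eq (g : Matrix.SpecialLinearGroup (Fin 2) (ZMod 7)) : R g⁻¹ = Rm g.1 := by
  unfold R Rm
  rw [inv_inv]
  have : (fun i => actHom g i) = act g.1 := by
    funext i
    exact actHom_apply g i
  rw [this]

theorem scalar_of_rho_eq_one (g : Matrix.SpecialLinearGroup (Fin 2) (ZMod 7)) (h : rho g = 1) :
    g.1 0 1 = 0 ∧ g.1 1 0 = 0 ∧ g.1 0 0 = g.1 1 1 := by
  have h1 : rho g⁻¹ = 1 := by rw [map_inv, h, inv_one]
  have h2' : (rho g⁻¹).1 = (1 : Matrix.SpecialLinearGroup (Fin 3) (ZMod 2)).1 := by rw [h1]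
  rw [Matrix.SpecialLinearGroup.coe_one] at h2'
  have h2 : Rm g.1 = 1 := by
    rw [← R_inv_eq]
    exact h2'
  have hg : g.1 = !![g.1 0 0, g.1 0 1; g.1 1 0, g.1 1 1] := Matrix.eta_fin_two g.1
  have hdet : g.1 0 0 * g.1 1 1 - g.1 0 1 * g.1 1 0 = 1 := by
    rw [← Matrix.det_fin_two]
    exact g.2
  rw [hg] at h2
  exact inj_aux _ _ _ _ hdet h2

theorem act_scalar (r : ZMod 7) (hr : r ≠ 0) (z : Fin 8) :
    act (Matrix.scalar (Fin 2) r) z = z := by
  unfold act
  have : mv (Matrix.scalar (Fin 2) r) (homog z) = (r * (homog z).1, r * (homog z).2) := by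
    unfold mv
    simp
  rw [this, nrm_smul r hr, nrm_homog]

theorem rho_center (g : Matrix.SpecialLinearGroup (Fin 2) (ZMod 7))
    (hg : g ∈ Subgroup.center (Matrix.SpecialLinearGroup (Fin 2) (ZMod 7))) : rho g = 1 := by
  have hg' : g⁻¹ ∈ Subgroup.center (Matrix.SpecialLinearGroup (Fin 2) (ZMod 7)) :=
    Subgroup.inv_mem _ hg
  rw [Matrix.SpecialLinearGroup.mem_center_iff] at hg'
  obtain ⟨r, hr, hs⟩ := hg'
  have hr0 : r ≠ 0 := by
    intro h
    rw [h, Fintype.card_fin] at hr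
    norm_num at hr
  apply Subtype.ext
  show R g = 1
  unfold R
  have : A.submatrix (fun i => actHom g⁻¹ i) id = A := by
    ext i j
    rw [Matrix.submatrix_apply, actHom_apply, ← hs, act_scalar r hr0]
    rfl
  rw [this, BA]

theorem center_SL3 (x : Matrix.SpecialLinearGroup (Fin 3) (ZMod 2))
    (hx : x ∈ Subgroup.center (Matrix.SpecialLinearGroup (Fin 3) (ZMod 2))) : x = 1 := by
  rw [Matrix.SpecialLinearGroup.mem_center_iff] at hx
  obtain ⟨r, hr, hs⟩ := hx
  have hr1 : r = 1 := by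
    rw [Fintype.card_fin] at hr
    clear hs
    revert r
    decide
  apply Subtype.ext
  rw [← hs, hr1]
  simp

/-- the composite to `PSL₃(2)` -/
def psi : Matrix.SpecialLinearGroup (Fin 2) (ZMod 7) →*
    Matrix.ProjectiveSpecialLinearGroup (Fin 3) (ZMod 2) :=
  (QuotientGroup.mk' _).comp rho

theorem ker_psi : psi.ker = Subgroup.center (Matrix.SpecialLinearGroup (Fin 2) (ZMod 7)) := by
  ext g
  rw [MonoidHom.mem_ker]
  constructor
  · intro h
    have h1 : rho g ∈ Subgroup.center (Matrix.SpecialLinearGroup (Fin 3) (ZMod 2)) :=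
      (QuotientGroup.eq_one_iff _).1 h
    have h2 := scalar_of_rho_eq_one g (center_SL3 _ h1)
    rw [Matrix.SpecialLinearGroup.mem_center_iff]
    refine ⟨g.1 0 0, ?_, ?_⟩
    · rw [Fintype.card_fin, pow_two]
      have hdet : g.1 0 0 * g.1 1 1 - g.1 0 1 * g.1 1 0 = 1 := by
        rw [← Matrix.det_fin_two]
        exact g.2
      rw [h2.1, zero_mul, sub_zero, ← h2.2.2] at hdet
      exact hdet
    · apply Matrix.ext
      intro i j
      fin_cases i <;> fin_cases j
      · simp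
      · simp [h2.1]
      · simp [h2.2.1]
      · simp [h2.2.2]
  · intro h
    show ((rho g : Matrix.SpecialLinearGroup (Fin 3) (ZMod 2)) :
      Matrix.ProjectiveSpecialLinearGroup (Fin 3) (ZMod 2)) = 1
    rw [rho_center g h]
    rfl

theorem card_PSL27 : Nat.card (Matrix.ProjectiveSpecialLinearGroup (Fin 2) (ZMod 7)) = 168 := by
  have hc := Cfsg.Agent.Lib.Helper1.card_PSL_field (F := ZMod 7) 2 (by norm_num)
  rw [ZMod.card] at hc
  have h1 : ∏ i : Fin 2, (7 ^ 2 - 7 ^ (i : ℕ)) = 2016 := by decide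
  have h2 : Nat.gcd 2 (7 - 1) = 2 := by decide
  rw [h1, h2] at hc
  omega

theorem card_PSL32 : Nat.card (Matrix.ProjectiveSpecialLinearGroup (Fin 3) (ZMod 2)) = 168 := by
  have hc := Cfsg.Agent.Lib.Helper1.card_PSL_field (F := ZMod 2) 3 (by norm_num)
  rw [ZMod.card] at hc
  have h1 : ∏ i : Fin 3, (2 ^ 3 - 2 ^ (i : ℕ)) = 168 := by decide
  have h2 : Nat.gcd 3 (2 - 1) = 1 := by decide
  rw [h1, h2] at hc
  omega

theorem equiv_zmod : Nonempty (Matrix.ProjectiveSpecialLinearGroup (Fin 2) (ZMod 7) ≃*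
    Matrix.ProjectiveSpecialLinearGroup (Fin 3) (ZMod 2)) := by
  have e1 : Matrix.ProjectiveSpecialLinearGroup (Fin 2) (ZMod 7) ≃* ↥psi.range :=
    (QuotientGroup.quotientMulEquivOfEq ker_psi.symm).trans (QuotientGroup.quotientKerEquivRange psi)
  have hcard : Nat.card ↥psi.range =
      Nat.card (Matrix.ProjectiveSpecialLinearGroup (Fin 3) (ZMod 2)) := by
    rw [← Nat.card_congr e1.toEquiv, card_PSL27, card_PSL32]
  have htop : psi.range = ⊤ := Subgroup.eq_top_of_card_eq _ hcard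
  exact ⟨e1.trans ((MulEquiv.subgroupCongr htop).trans Subgroup.topEquiv)⟩

end PSL27

end Cfsg.Agent.Lib.Helper2
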