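import Mathlib
import Cfsg.Agent.Lib.Helper1.CycloChar
import Cfsg.Agent.Lib.Helper1.CharInt

set_option autoImplicit false

namespace Cfsg.Agent.Lib.Helper2.PVanish

open Cfsg

/-- In a commutative ring, modulo the ideal `(p)`, `(∑ m_j c_j)^(p^a) ≡ ∑ m_j c_j^(p^a)`. -/
theorem sum_pow_sub_mem {R : Type*} [CommRing R] (p : ℕ) [Fact p.Prime]
    (hp : (p : R) ∈ nonunits R)
    {ι : Type*} (s : Finset ι) (m : ι → ℕ) (c : ι → R) (a : ℕ) :
    (∑ j ∈ s, (m j : R) * c j) ^ (p ^ a) - ∑ j ∈ s, (m j : R) * c j ^ (p ^ a)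
      ∈ Ideal.span ({(p : R)} : Set R) := by
  haveI := CharP.quotient R p hp
  rw [← Ideal.Quotient.eq_zero_iff_mem, map_sub, sub_eq_zero, map_pow, map_sum, map_sum]
  rw [← iterateFrobenius_def (R := R ⧸ Ideal.span ({(p : R)} : Set R)) p a, map_sum]
  refine Finset.sum_congr rfl fun j _ => ?_
  simp only [map_mul, map_natCast, iterateFrobenius_def, map_pow]

/-- A prime is not a unit among the algebraic integers. -/
theorem prime_mem_nonunits (p : ℕ) [Fact p.Prime] :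
    ((p : ℕ) : integralClosure ℤ ℂ) ∈ nonunits (integralClosure ℤ ℂ) := by
  intro hu
  obtain ⟨u, hu⟩ := hu.exists_right_inv
  have h1 : ((p : ℂ)) * (u : ℂ) = 1 := by
    have := congrArg (fun x : integralClosure ℤ ℂ => (x : ℂ)) hu
    simpa using this
  have hp0 : (p : ℂ) ≠ 0 := Nat.cast_ne_zero.2 (Fact.out : p.Prime).ne_zero
  have h2 : (u : ℂ) = ((1 : ℕ) : ℂ) / (p : ℂ) := by
    field_simp
    rw [mul_comm]; simpa using h1
  have h3 : IsIntegral ℤ (((1 : ℕ) : ℂ) / (p : ℂ)) := h2 ▸ u.2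
  have := Cfsg.Agent.Lib.Helper1.nat_dvd_of_isIntegral_div 1 p (Fact.out : p.Prime).ne_zero h3
  exact (Fact.out : p.Prime).one_lt.ne' (Nat.dvd_one.1 this)

/-- For a character `χ` and an element `g` with `g ^ (p ^ a) = 1`, the number
`χ g ^ (p ^ a) - χ 1` is `p` times an algebraic integer. -/
theorem pow_sub_degree {G : Type*} [Group G] [Finite G] {p : ℕ} [Fact p.Prime] {χ : G → ℂ}
    (hχ : IsCharacter G χ) (g : G) (a : ℕ) (hg : g ^ (p ^ a) = 1) :
    ∃ (d : ℕ) (r : ℂ), χ 1 = d ∧ IsIntegral ℤ r ∧ (χ g) ^ (p ^ a) - d = p * r := by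
  classical
  obtain ⟨ι', _, m, c, hc, hpow⟩ := Cfsg.Agent.Lib.Helper1.character_pow_eq_sum hχ g
  have hcint : ∀ j, IsIntegral ℤ (c j) := fun j =>
    IsIntegral.of_pow (orderOf_pos g) (by rw [hc j]; exact isIntegral_one)
  have hcp : ∀ j, c j ^ (p ^ a) = 1 := by
    intro j
    obtain ⟨t, ht⟩ := orderOf_dvd_of_pow_eq_one hg
    rw [ht, pow_mul, hc j, one_pow]
  let c' : ι' → integralClosure ℤ ℂ := fun j => ⟨c j, hcint j⟩
  have hmem := sum_pow_sub_mem (R := integralClosure ℤ ℂ) p (prime_mem_nonunits p)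
    Finset.univ m c' a
  rw [Ideal.mem_span_singleton'] at hmem
  obtain ⟨r, hr⟩ := hmem
  have h1 := hpow 1
  have h0 := hpow 0
  simp only [pow_one, pow_zero, mul_one] at h1 h0
  refine ⟨∑ j, m j, (r : ℂ), by rw [h0]; push_cast; rfl, r.2, ?_⟩
  have := congrArg (fun x : integralClosure ℤ ℂ => (x : ℂ)) hr
  simp only [c'] at this
  push_cast at this
  rw [h1, mul_comm (p : ℂ), this]
  congr 1
  · push_cast
    refine Finset.sum_congr rfl fun j _ => ?_
    rw [hcp j, mul_one]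

/-- A character vanishing at a `p`-element has degree divisible by `p`. -/
theorem dvd_degree_of_apply_eq_zero {G : Type*} [Group G] [Finite G] {p : ℕ} [Fact p.Prime]
    {χ : G → ℂ} (hχ : IsCharacter G χ) (g : G) (a : ℕ) (hg : g ^ (p ^ a) = 1) (h0 : χ g = 0)
    {d : ℕ} (hd : χ 1 = d) : p ∣ d := by
  obtain ⟨d', r, hd', hr, h⟩ := pow_sub_degree hχ g a hg
  have hdd : d' = d := by
    have : (d' : ℂ) = d := by rw [← hd', hd]
    exact_mod_cast this
  subst hdd
  have hp0 : (p : ℂ) ≠ 0 := Nat.cast_ne_zero.2 (Fact.out : p.Prime).ne_zero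
  rw [h0, zero_pow (pow_ne_zero a (Fact.out : p.Prime).ne_zero), zero_sub] at h
  have h2 : (d' : ℂ) / (p : ℂ) = -r := by
    field_simp
    rw [mul_comm]
    linear_combination -h
  apply Cfsg.Agent.Lib.Helper1.nat_dvd_of_isIntegral_div d' p (Fact.out : p.Prime).ne_zero
  rw [h2]
  exact hr.neg

end Cfsg.Agent.Lib.Helper2.PVanish
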