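import Mathlib
import Cfsg.Prelude.Def_Characters

set_option autoImplicit false

/-!
# Integrality of averages of characters over double cosets
-/

namespace Cfsg.Agent.Lib.Helper2.PermChar

open Polynomial

section trace

variable {V : Type*} [AddCommGroup V] [Module ℂ V] [FiniteDimensional ℂ V]

/-- the trace of an endomorphism which is integral over `ℤ` is an algebraic integer -/
theorem isIntegral_trace_of_isIntegral (T : Module.End ℂ V) (hT : IsIntegral ℤ T) :
    IsIntegral ℤ (LinearMap.trace ℂ V T) := by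
  rw [Module.End.trace_eq_sum_roots_charpoly_of_splits (IsAlgClosed.splits _)]
  obtain ⟨p, hpm, hp⟩ := hT
  have hp' : Polynomial.aeval T p = 0 := hp
  have hint : ∀ μ ∈ T.charpoly.roots, μ ∈ (integralClosure ℤ ℂ) := by
    intro μ hμ
    have hroot : T.charpoly.IsRoot μ := (Polynomial.mem_roots'.1 hμ).2
    have hev : Module.End.HasEigenvalue T μ :=
      (Module.End.hasEigenvalue_iff_isRoot_charpoly _ _).2 hroot
    obtain ⟨v, hv⟩ := hev.exists_hasEigenvector
    have h1 := Module.End.aeval_apply_of_hasEigenvector (p := p.map (algebraMap ℤ ℂ)) hv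
    rw [Polynomial.aeval_map_algebraMap, hp', LinearMap.zero_apply] at h1
    have h2 : Polynomial.eval μ (p.map (algebraMap ℤ ℂ)) = 0 := by
      rcases smul_eq_zero.1 h1.symm with h | h
      · exact h
      · exact absurd h hv.2
    refine ⟨p, hpm, ?_⟩
    rw [← Polynomial.eval_map]
    exact h2
  exact Subalgebra.multiset_sum_mem _ hint

end trace

section INT

/-- `G ⧸ H × H ≃ G` via chosen coset representatives -/
noncomputable def outMulEquiv {G : Type*} [Group G] (H : Subgroup G) : (G ⧸ H) × H ≃ G where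
  toFun p := Quotient.out p.1 * (p.2 : G)
  invFun g := ((g : G ⧸ H), ⟨(Quotient.out (g : G ⧸ H))⁻¹ * g, by
    rw [← QuotientGroup.eq]; exact QuotientGroup.out_eq' _⟩)
  left_inv := by
    rintro ⟨q, h⟩
    have h1 : ((Quotient.out q * (h : G) : G) : G ⧸ H) = q := by
      rw [QuotientGroup.mk_mul_of_mem _ h.2]; exact QuotientGroup.out_eq' _
    ext
    · exact h1
    · simp only [h1]
      simp
  right_inv := by
    intro g
    simp

variable {G : Type*} [Group G] [Fintype G] {W : Type*} [AddCommGroup W] [Module ℂ W]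
  [FiniteDimensional ℂ W]

open Classical in
/-- the averaged sum of a representation over a union of double cosets is integral -/
theorem isIntegral_avg_rep (ρ : Representation ℂ G W) (H : Subgroup G) (D : Set G)
    (hDr : ∀ x h, h ∈ H → (x * h ∈ D ↔ x ∈ D)) (hDl : ∀ x h, h ∈ H → (h * x ∈ D ↔ x ∈ D)) :
    IsIntegral ℤ ((Nat.card H : ℂ)⁻¹ • ∑ x : G, (if x ∈ D then ρ x else 0 : Module.End ℂ W)) := by
  have hc : (Nat.card H : ℂ) ≠ 0 := Nat.cast_ne_zero.2 Nat.card_pos.ne'
  set c : ℂ := (Nat.card H : ℂ) with hcdef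
  letI : Fintype (G ⧸ H) := Fintype.ofFinite _
  set SH : Module.End ℂ W := ∑ h : H, ρ (h : G) with hSH
  set P : Module.End ℂ W := c⁻¹ • SH with hP
  set y : Module.End ℂ W := ∑ q : G ⧸ H,
    (if (Quotient.out q : G) ∈ D then ρ (Quotient.out q) else 0 : Module.End ℂ W) with hy
  set Z : Module.End ℂ W := ∑ x : G, (if x ∈ D then ρ x else 0 : Module.End ℂ W) with hZ
  -- (a)
  have ha : Z = y * SH := by
    rw [hZ, ← Equiv.sum_comp (outMulEquiv H),
      Fintype.sum_prod_type, hy, Finset.sum_mul]
    refine Finset.sum_congr rfl fun q _ => ?_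
    rw [hSH, Finset.mul_sum]
    refine Finset.sum_congr rfl fun h _ => ?_
    have e : (outMulEquiv H) (q, h) = Quotient.out q * (h : G) := rfl
    rw [e]
    by_cases hq : (Quotient.out q : G) ∈ D
    · rw [if_pos hq, if_pos ((hDr _ _ h.2).mpr hq), map_mul]
    · rw [if_neg hq, if_neg (fun h' => hq ((hDr _ _ h.2).mp h')), zero_mul]
  -- (b)
  have hb : ∀ h ∈ H, ρ h * Z = Z := by
    intro h hh
    rw [hZ, Finset.mul_sum]
    rw [← Equiv.sum_comp (Equiv.mulLeft h)
      (fun x => (if x ∈ D then ρ x else 0 : Module.End ℂ W))]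
    refine Finset.sum_congr rfl fun x _ => ?_
    simp only [Equiv.coe_mulLeft]
    by_cases hx : x ∈ D
    · have h2 : h * x ∈ D := (hDl _ _ hh).mpr hx
      simp only [if_pos hx, map_mul]
      exact (if_pos h2).symm
    · have h2 : ¬ h * x ∈ D := fun h' => hx ((hDl _ _ hh).mp h')
      simp only [if_neg hx, mul_zero]
      exact (if_neg h2).symm
  set T : Module.End ℂ W := c⁻¹ • Z with hT
  have hTy : T = y * P := by
    rw [hT, ha, hP, mul_smul_comm]
  have hPT : P * T = T := by
    rw [hP, hT, smul_mul_assoc, hSH, Finset.sum_mul]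
    have : ∀ h : H, ρ (h : G) * (c⁻¹ • Z) = c⁻¹ • Z := by
      intro h
      rw [mul_smul_comm, hb h h.2]
    rw [Finset.sum_congr rfl (fun h _ => this h), Finset.sum_const, Finset.card_univ,
      ← Nat.card_eq_fintype_card, ← Nat.cast_smul_eq_nsmul ℂ, ← hcdef, smul_smul,
      inv_mul_cancel₀ hc, one_smul]
  -- (f)
  have hyint : IsIntegral ℤ y := by
    apply IsIntegral.of_mem_of_fg (Algebra.adjoin ℤ (Set.range (ρ : G → Module.End ℂ W)))
    · rw [Algebra.adjoin_eq_span]
      have : (Submonoid.closure (Set.range (ρ : G → Module.End ℂ W)) : Set (Module.End ℂ W)) =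
          Set.range (ρ : G → Module.End ℂ W) := by
        rw [← MonoidHom.coe_mrange, Submonoid.closure_eq]
      rw [this]
      exact Submodule.fg_span (Set.finite_range _)
    · rw [hy]
      apply Subalgebra.sum_mem
      intro q _
      by_cases hq : (Quotient.out q : G) ∈ D
      · rw [if_pos hq]
        exact Algebra.subset_adjoin ⟨_, rfl⟩
      · rw [if_neg hq]
        exact Subalgebra.zero_mem _
  obtain ⟨p, hpm, hp⟩ := hyint
  have hp' : Polynomial.aeval y p = 0 := hp
  -- (g)
  have hpow : ∀ (k : ℕ) (u : W), P u = u → (T ^ k) u = (y ^ k) u ∧ P ((T ^ k) u) = (T ^ k) u := by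
    intro k
    induction k with
    | zero =>
      intro u hu
      simp [hu]
    | succ k ih =>
      intro u hu
      obtain ⟨h1, h2⟩ := ih u hu
      rw [pow_succ', pow_succ', Module.End.mul_apply, Module.End.mul_apply]
      constructor
      · have hgen : ∀ w : W, P w = w → T w = y w := by
          intro w hw
          rw [hTy, Module.End.mul_apply, hw]
        rw [hgen _ h2, h1]
      · rw [← Module.End.mul_apply, hPT]
  have haeval : ∀ u : W, P u = u → (Polynomial.aeval T p) u = (Polynomial.aeval y p) u := by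
    intro u hu
    rw [Polynomial.aeval_eq_sum_range, Polynomial.aeval_eq_sum_range, LinearMap.sum_apply,
      LinearMap.sum_apply]
    refine Finset.sum_congr rfl fun i _ => ?_
    rw [LinearMap.smul_apply, LinearMap.smul_apply, (hpow i u hu).1]
  refine ⟨p * Polynomial.X, hpm.mul Polynomial.monic_X, ?_⟩
  show Polynomial.aeval T (p * Polynomial.X) = 0
  rw [map_mul, Polynomial.aeval_X]
  ext v
  rw [Module.End.mul_apply, LinearMap.zero_apply]
  have hu : P (T v) = T v := by rw [← Module.End.mul_apply, hPT]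
  rw [haeval (T v) hu, hp', LinearMap.zero_apply]

open Classical in
/-- the averaged sum of a character over a union of `H`-double cosets is an algebraic integer -/
theorem isIntegral_avg_character (H : Subgroup G) (D : Set G)
    (hDr : ∀ x h, h ∈ H → (x * h ∈ D ↔ x ∈ D)) (hDl : ∀ x h, h ∈ H → (h * x ∈ D ↔ x ∈ D))
    {χ : G → ℂ} (hχ : Cfsg.IsCharacter G χ) :
    IsIntegral ℤ ((Nat.card H : ℂ)⁻¹ * ∑ x : G, if x ∈ D then χ x else 0) := by
  obtain ⟨n, ρ, rfl⟩ := hχ
  have h1 := isIntegral_trace_of_isIntegral _ (isIntegral_avg_rep ρ H D hDr hDl)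
  have h2 : LinearMap.trace ℂ (Fin n → ℂ) ((Nat.card H : ℂ)⁻¹ •
      ∑ x : G, (if x ∈ D then ρ x else 0 : Module.End ℂ (Fin n → ℂ))) =
      (Nat.card H : ℂ)⁻¹ * ∑ x : G, if x ∈ D then ρ.character x else 0 := by
    rw [LinearMap.map_smul, smul_eq_mul, map_sum]
    congr 1
    refine Finset.sum_congr rfl fun x _ => ?_
    by_cases hx : x ∈ D
    · rw [if_pos hx, if_pos hx]
      rfl
    · rw [if_neg hx, if_neg hx, map_zero]
  rw [h2] at h1
  exact h1

end INT

end Cfsg.Agent.Lib.Helper2.PermChar
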