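import Mathlib
import Cfsg.Prelude.Def_Characters
import Cfsg.Agent.Lib.Helper2.PermChar1
import Cfsg.Agent.Lib.Helper5.PermChar
import Cfsg.Agent.S0146

set_option autoImplicit false

/-!
# Averages of characters over double cosets, II: vanishing, and Frobenius reciprocity for
permutation characters
-/

namespace Cfsg.Agent.Lib.Helper2.PermChar

open scoped ComplexConjugate

section vanish

variable {G : Type*} [Group G] [Fintype G] {W : Type*} [AddCommGroup W] [Module ℂ W]
  [FiniteDimensional ℂ W]

open Classical in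
/-- the sum of a representation over a right-`H`-invariant set is a multiple of the sum over `H` -/
theorem exists_eq_mul_sum (ρ : Representation ℂ G W) (H : Subgroup G) (D : Set G)
    (hDr : ∀ x h, h ∈ H → (x * h ∈ D ↔ x ∈ D)) :
    ∃ y : Module.End ℂ W, ∑ x : G, (if x ∈ D then ρ x else 0 : Module.End ℂ W) =
      y * ∑ h : H, ρ (h : G) := by
  letI : Fintype (G ⧸ H) := Fintype.ofFinite _
  refine ⟨∑ q : G ⧸ H,
    (if (Quotient.out q : G) ∈ D then ρ (Quotient.out q) else 0 : Module.End ℂ W), ?_⟩
  rw [← Equiv.sum_comp (outMulEquiv H), Fintype.sum_prod_type, Finset.sum_mul]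
  refine Finset.sum_congr rfl fun q _ => ?_
  rw [Finset.mul_sum]
  refine Finset.sum_congr rfl fun h _ => ?_
  have e : (outMulEquiv H) (q, h) = Quotient.out q * (h : G) := rfl
  rw [e]
  by_cases hq : (Quotient.out q : G) ∈ D
  · rw [if_pos hq, if_pos ((hDr _ _ h.2).mpr hq), map_mul]
  · rw [if_neg hq, if_neg (fun h' => hq ((hDr _ _ h.2).mp h')), zero_mul]

open Classical in
/-- if the character sums to zero over `H` then the representation sums to zero over `H` -/
theorem sum_rep_eq_zero (ρ : Representation ℂ G W) (H : Subgroup G)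
    (h0 : ∑ h : H, ρ.character (h : G) = 0) : ∑ h : H, ρ (h : G) = 0 := by
  have hc : (Nat.card H : ℂ) ≠ 0 := Nat.cast_ne_zero.2 Nat.card_pos.ne'
  set c : ℂ := (Nat.card H : ℂ) with hcdef
  set SH : Module.End ℂ W := ∑ h : H, ρ (h : G) with hSH
  have hmul : ∀ h : H, ρ (h : G) * SH = SH := by
    intro h
    rw [hSH, Finset.mul_sum, ← Equiv.sum_comp (Equiv.mulLeft h) (fun x : H => ρ (x : G))]
    refine Finset.sum_congr rfl fun x _ => ?_
    rw [Equiv.coe_mulLeft, Subgroup.coe_mul, map_mul]
  have hidem : IsIdempotentElem (c⁻¹ • SH) := by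
    unfold IsIdempotentElem
    rw [smul_mul_assoc]
    congr 1
    conv_lhs => rw [hSH, Finset.sum_mul]
    have : ∀ h : H, ρ (h : G) * (c⁻¹ • SH) = c⁻¹ • SH := by
      intro h
      rw [mul_smul_comm, hmul h]
    rw [Finset.sum_congr rfl (fun h _ => this h), Finset.sum_const, Finset.card_univ,
      ← Nat.card_eq_fintype_card, ← Nat.cast_smul_eq_nsmul ℂ, ← hcdef, smul_smul,
      mul_inv_cancel₀ hc, one_smul]
  have htr : LinearMap.trace ℂ W (c⁻¹ • SH) = 0 := by
    rw [LinearMap.map_smul, hSH, map_sum]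
    have : ∑ h : H, LinearMap.trace ℂ W (ρ (h : G)) = 0 := h0
    rw [this, smul_zero]
  have hz := (LinearMap.IsIdempotentElem.trace_eq_zero_iff hidem).1 htr
  have : SH = c • (c⁻¹ • SH) := by rw [smul_smul, mul_inv_cancel₀ hc, one_smul]
  rw [this, hz, smul_zero]

open Classical in
/-- if a character sums to zero over `H`, it sums to zero over every right-`H`-invariant set -/
theorem sum_character_eq_zero (H : Subgroup G) (D : Set G)
    (hDr : ∀ x h, h ∈ H → (x * h ∈ D ↔ x ∈ D)) {χ : G → ℂ} (hχ : Cfsg.IsCharacter G χ)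
    (h0 : ∑ x : G, (if x ∈ H then χ x else 0) = 0) :
    ∑ x : G, (if x ∈ D then χ x else 0) = 0 := by
  obtain ⟨n, ρ, rfl⟩ := hχ
  have h0' : ∑ h : H, ρ.character (h : G) = 0 := by
    rw [← h0, ← Finset.sum_filter]
    exact (Finset.sum_subtype (Finset.univ.filter (· ∈ H)) (by simp) (fun x => ρ.character x)).symm
  obtain ⟨y, hy⟩ := exists_eq_mul_sum ρ H D hDr
  rw [sum_rep_eq_zero ρ H h0', mul_zero] at hy
  have h2 := congrArg (LinearMap.trace ℂ (Fin n → ℂ)) hy
  rw [map_sum, map_zero] at h2
  refine Eq.trans ?_ h2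
  refine Finset.sum_congr rfl fun x _ => ?_
  by_cases hx : x ∈ D
  · rw [if_pos hx, if_pos hx]
    rfl
  · rw [if_neg hx, if_neg hx, map_zero]

end vanish

section frob

variable {G : Type*} [Group G] [Fintype G] {Ω : Type*} [Fintype Ω] [MulAction G Ω]
  [MulAction.IsPretransitive G Ω]

omit [Fintype G] [Fintype Ω] in
/-- the permutation character of a transitive action is that of the cosets of a stabilizer -/
theorem permChar_eq (a : Ω) : (fun g : G => (Nat.card (MulAction.fixedBy Ω g) : ℂ)) =
    Cfsg.fixedPointCharacter (MulAction.stabilizer G a) := by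
  funext g
  unfold Cfsg.fixedPointCharacter
  congr 1
  symm
  let f : G ⧸ MulAction.stabilizer G a → Ω := MulAction.ofQuotientStabilizer G a
  have hf : Function.Bijective f := by
    refine ⟨MulAction.injective_ofQuotientStabilizer G a, fun ω => ?_⟩
    obtain ⟨t, rfl⟩ := MulAction.exists_smul_eq G a ω
    exact ⟨(t : G ⧸ MulAction.stabilizer G a), MulAction.ofQuotientStabilizer_mk G a t⟩
  refine Nat.card_congr (Equiv.subtypeEquiv (Equiv.ofBijective f hf) ?_)
  intro q
  rw [MulAction.mem_fixedBy, MulAction.mem_fixedBy, Equiv.ofBijective_apply]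
  show g • q = q ↔ g • f q = f q
  rw [← MulAction.ofQuotientStabilizer_smul]
  exact hf.1.eq_iff.symm

open Classical in
/-- Frobenius reciprocity for the permutation character of a transitive action -/
theorem classInner_permChar (a : Ω) (χ : G → ℂ) (hχ : Cfsg.IsClassFunction G χ) :
    Cfsg.classInner (fun g : G => (Nat.card (MulAction.fixedBy Ω g) : ℂ)) χ =
      (Nat.card (MulAction.stabilizer G a) : ℂ)⁻¹ *
        ∑ x : G, (if x ∈ MulAction.stabilizer G a then conj (χ x) else 0) := by
  rw [permChar_eq a, Cfsg.Agent.Lib.Helper5.PermChar.fixedPointCharacter_eq_indFun,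
    Cfsg.Agent.S0146.result _ _ _ hχ]
  unfold Cfsg.classInner
  congr 1
  rw [← Finset.sum_filter]
  simp only [one_mul]
  exact (Finset.sum_subtype (Finset.univ.filter (· ∈ MulAction.stabilizer G a)) (by simp)
    (fun x => conj (χ x))).symm

end frob

end Cfsg.Agent.Lib.Helper2.PermChar
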