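import Mathlib
import Cfsg.Prelude.Def_Characters
import Cfsg.Agent.Lib.Helper2.PermChar2
import Cfsg.Agent.Lib.Helper8.ClassAlgebra2
import Cfsg.Agent.Lib.Helper1.CharFound3
import Cfsg.Agent.Lib.Helper1.LinearChar

set_option autoImplicit false

/-!
# Averages of characters over double cosets, III: subdegrees and constituent degrees
-/

namespace Cfsg.Agent.Lib.Helper2.PermChar

open scoped ComplexConjugate
open Cfsg.Agent.Lib.Helper1 Cfsg.Agent.Lib.Helper4 Cfsg.Agent.Lib.Helper8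

/-- a natural number which is `f` times an algebraic integer is divisible by `f` -/
theorem dvd_of_eq_mul_isIntegral (k f : ℕ) (α : ℂ) (hα : IsIntegral ℤ α)
    (h : (k : ℂ) = (f : ℂ) * α) : f ∣ k := by
  rcases Nat.eq_zero_or_pos f with rfl | hfpos
  · rw [Nat.cast_zero, zero_mul] at h
    have : k = 0 := by exact_mod_cast h
    rw [this]
  have hf0 : (f : ℂ) ≠ 0 := Nat.cast_ne_zero.2 hfpos.ne'
  have hα' : α = algebraMap ℚ ℂ ((k : ℚ) / (f : ℚ)) := by
    rw [map_div₀, map_natCast, map_natCast, h, mul_div_cancel_left₀ _ hf0]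
  rw [hα'] at hα
  have h2 : IsIntegral ℤ ((k : ℚ) / (f : ℚ)) :=
    (isIntegral_algebraMap_iff (algebraMap ℚ ℂ).injective).1 hα
  obtain ⟨y, hy⟩ := IsIntegrallyClosed.isIntegral_iff.1 h2
  have h3 : (k : ℚ) = (f : ℚ) * (y : ℚ) := by
    have hfq : (f : ℚ) ≠ 0 := Nat.cast_ne_zero.2 hfpos.ne'
    have : ((y : ℤ) : ℚ) = (k : ℚ) / (f : ℚ) := hy
    rw [this, mul_div_cancel₀ _ hfq]
  have h4 : (k : ℤ) = (f : ℤ) * y := by exact_mod_cast h3
  have h5 : (f : ℤ) ∣ (k : ℤ) := ⟨y, h4⟩
  exact Int.natCast_dvd_natCast.1 h5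

section main

variable {G : Type*} [Group G] [Fintype G] {Ω : Type*} [Fintype Ω] [MulAction G Ω]
  [MulAction.IsPretransitive G Ω]

open Classical in
/-- summing a function of `x • a` over the group -/
theorem sum_smul_eq (a : Ω) (F : Ω → ℂ) :
    ∑ x : G, F (x • a) = (Nat.card (MulAction.stabilizer G a) : ℂ) * ∑ ω : Ω, F ω := by
  let _ : Fintype (G ⧸ MulAction.stabilizer G a) := Fintype.ofFinite _
  let f : G ⧸ MulAction.stabilizer G a → Ω := MulAction.ofQuotientStabilizer G a
  have hf : Function.Bijective f := by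
    refine ⟨MulAction.injective_ofQuotientStabilizer G a, fun ω => ?_⟩
    obtain ⟨t, rfl⟩ := MulAction.exists_smul_eq G a ω
    exact ⟨(t : G ⧸ MulAction.stabilizer G a), MulAction.ofQuotientStabilizer_mk G a t⟩
  rw [← Equiv.sum_comp (outMulEquiv (MulAction.stabilizer G a)), Fintype.sum_prod_type]
  have h1 : ∀ (q : G ⧸ MulAction.stabilizer G a) (h : MulAction.stabilizer G a),
      F ((outMulEquiv (MulAction.stabilizer G a)) (q, h) • a) = F (f q) := by
    intro q h
    have e : (outMulEquiv (MulAction.stabilizer G a)) (q, h) = Quotient.out q * (h : G) := rfl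
    rw [e, mul_smul, MulAction.mem_stabilizer_iff.1 h.2]
    congr 1
    have := MulAction.ofQuotientStabilizer_mk G a (Quotient.out q)
    rw [QuotientGroup.out_eq'] at this
    exact this.symm
  simp only [h1, Finset.sum_const, Finset.card_univ, nsmul_eq_mul]
  rw [← Finset.mul_sum, ← Nat.card_eq_fintype_card]
  congr 1
  exact Equiv.sum_comp (Equiv.ofBijective f hf) F

open Classical in
/-- if `f` divides the degrees of all non-principal constituents of the permutation character,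
then `f` divides all non-trivial subdegrees -/
theorem dvd_card_suborbit (f : ℕ)
    (hf : ∀ χ : G → ℂ, Cfsg.IsIrrCharacter G χ → χ ≠ (fun _ => 1) →
      Cfsg.classInner (fun g : G => (Nat.card (MulAction.fixedBy Ω g) : ℂ)) χ ≠ 0 →
        ∃ m : ℕ, χ 1 = (f : ℂ) * m) (a b : Ω) (hab : b ≠ a) :
    f ∣ Nat.card (MulAction.orbit (MulAction.stabilizer G a) b) := by
  let _ : Fintype (Cfsg.IrrCharacter G) := Fintype.ofFinite _
  set H : Subgroup G := MulAction.stabilizer G a with hH
  set Δ : Set Ω := MulAction.orbit H b with hΔ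
  set D : Set G := {x : G | x • a ∈ Δ} with hD
  have hc : (Nat.card H : ℂ) ≠ 0 := Nat.cast_ne_zero.2 Nat.card_pos.ne'
  have hDr : ∀ x h, h ∈ H → (x * h ∈ D ↔ x ∈ D) := by
    intro x h hh
    simp only [hD, Set.mem_ofPred_eq, mul_smul]
    rw [MulAction.mem_stabilizer_iff.1 hh]
  have hDl : ∀ x h, h ∈ H → (h * x ∈ D ↔ x ∈ D) := by
    intro x h hh
    simp only [hD, Set.mem_ofPred_eq, mul_smul]
    have : h • x • a = (⟨h, hh⟩ : H) • (x • a) := rfl
    rw [this, hΔ, ← MulAction.orbit_eq_iff, ← MulAction.orbit_eq_iff, MulAction.orbit_smul]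
  have h1D : (1 : G) ∉ D := by
    intro h1
    simp only [hD, Set.mem_ofPred_eq, one_smul] at h1
    obtain ⟨h, hh⟩ := h1
    apply hab
    have h2 : (h : G) • b = a := hh
    have h3 : (h : G)⁻¹ • a = a := MulAction.mem_stabilizer_iff.1 (H.inv_mem h.2)
    rw [← h3, ← h2, inv_smul_smul]
  -- the sum over `D` of `1`
  have hcardD : ∑ x : G, (if x ∈ D then (1 : ℂ) else 0) = (Nat.card H : ℂ) * (Nat.card Δ : ℂ) := by
    have := sum_smul_eq (G := G) a (fun ω => if ω ∈ Δ then (1 : ℂ) else 0)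
    rw [hH]
    refine this.trans ?_
    congr 1
    rw [Finset.sum_boole, Nat.card_eq_fintype_card, Fintype.card_subtype]
  -- character sums over `D`
  set S : (G → ℂ) → ℂ := fun χ => ∑ x : G, (if x ∈ D then χ x else 0) with hS
  have horth : ∑ χ : Cfsg.IrrCharacter G, (χ : G → ℂ) 1 * S χ = 0 := by
    simp only [hS, Finset.mul_sum]
    rw [Finset.sum_comm]
    refine Finset.sum_eq_zero fun x _ => ?_
    by_cases hx : x ∈ D
    · simp only [if_pos hx]
      rw [sum_irr_one_mul, if_neg (fun h : x = 1 => h1D (h ▸ hx))]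
    · simp only [if_neg hx, mul_zero, Finset.sum_const_zero]
  -- the principal character
  have hirr1 : Cfsg.IsIrrCharacter G (fun _ => (1 : ℂ)) := isIrrCharacter_of_hom (1 : G →* ℂˣ)
  set χ₀ : Cfsg.IrrCharacter G := ⟨fun _ => 1, hirr1⟩ with hχ₀
  have hS0 : S χ₀ = (Nat.card H : ℂ) * (Nat.card Δ : ℂ) := hcardD
  -- the other characters
  have hother : ∀ χ : Cfsg.IrrCharacter G, χ ≠ χ₀ → ∃ B : ℂ, IsIntegral ℤ B ∧
      (χ : G → ℂ) 1 * ((Nat.card H : ℂ)⁻¹ * S χ) = (f : ℂ) * B := by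
    intro χ hχ
    have hne : (χ : G → ℂ) ≠ (fun _ => 1) := fun h => hχ (Subtype.ext h)
    by_cases hin : Cfsg.classInner (fun g : G => (Nat.card (MulAction.fixedBy Ω g) : ℂ)) χ = 0
    · refine ⟨0, isIntegral_zero, ?_⟩
      rw [classInner_permChar a _ (isClassFunction_irr χ.2)] at hin
      have h2 : ∑ x : G, (if x ∈ H then conj ((χ : G → ℂ) x) else 0) = 0 := by
        rcases mul_eq_zero.1 hin with h | h
        · exact absurd (inv_eq_zero.1 h) hc
        · exact h
      have h3 : ∑ x : G, (if x ∈ H then (χ : G → ℂ) x else 0) = 0 := by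
        have := congrArg conj h2
        rw [map_sum, map_zero] at this
        refine Eq.trans ?_ this
        refine Finset.sum_congr rfl fun x _ => ?_
        by_cases hx : x ∈ H
        · rw [if_pos hx, if_pos hx, Complex.conj_conj]
        · rw [if_neg hx, if_neg hx, map_zero]
      have h4 : S χ = 0 := sum_character_eq_zero H D hDr (isCharacter_of_irr χ.2) h3
      rw [h4, mul_zero, mul_zero, mul_zero]
    · obtain ⟨m, hm⟩ := hf χ χ.2 hne hin
      refine ⟨(m : ℂ) * ((Nat.card H : ℂ)⁻¹ * S χ), ?_, ?_⟩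
      · exact (isIntegral_natCast m).mul
          (isIntegral_avg_character H D hDr hDl (isCharacter_of_irr χ.2))
      · rw [hm, mul_assoc]
  choose B hBint hB using hother
  rw [← Finset.add_sum_erase Finset.univ _ (Finset.mem_univ χ₀)] at horth
  have hχ₀1 : (χ₀ : G → ℂ) 1 = 1 := rfl
  rw [hχ₀1, one_mul, hS0] at horth
  apply dvd_of_eq_mul_isIntegral _ f
    (-(∑ χ ∈ (Finset.univ.erase χ₀).attach, B χ.1 (Finset.ne_of_mem_erase χ.2)))
  · apply IsIntegral.neg
    apply IsIntegral.sum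
    intro χ _
    exact hBint _ _
  · rw [mul_neg, Finset.mul_sum]
    have h5 : ∑ χ ∈ (Finset.univ.erase χ₀).attach, (f : ℂ) * B χ.1 (Finset.ne_of_mem_erase χ.2) =
        (Nat.card H : ℂ)⁻¹ * ∑ χ ∈ (Finset.univ.erase χ₀).attach, (χ.1 : G → ℂ) 1 * S χ.1 := by
      rw [Finset.mul_sum]
      refine Finset.sum_congr rfl fun χ _ => ?_
      rw [← hB χ.1 (Finset.ne_of_mem_erase χ.2)]
      ring
    rw [h5]
    have h6 : ∑ χ ∈ (Finset.univ.erase χ₀).attach, (χ.1 : G → ℂ) 1 * S χ.1 =
        -((Nat.card H : ℂ) * (Nat.card Δ : ℂ)) := by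
      rw [Finset.sum_attach (Finset.univ.erase χ₀) (fun χ => (χ : G → ℂ) 1 * S χ)]
      exact eq_neg_of_add_eq_zero_right horth
    rw [h6, mul_neg, neg_neg, ← mul_assoc, inv_mul_cancel₀ hc, one_mul]

end main

end Cfsg.Agent.Lib.Helper2.PermChar
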