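import Mathlib
import Cfsg.Prelude.Def_Characters
import Cfsg.Agent.Lib.Helper2.PermChar3
import Cfsg.Agent.Lib.Helper1.CharFound6
import Cfsg.Agent.S0669

set_option autoImplicit false

/-!
# Rank and multiplicities of a transitive permutation character
-/

namespace Cfsg.Agent.Lib.Helper2.PermChar

open scoped ComplexConjugate
open Cfsg.Agent.Lib.Helper1 Cfsg.Agent.Lib.Helper4 Cfsg.Agent.Lib.Helper8

section rank

variable {G : Type*} [Group G] [Fintype G] {Ω : Type*} [Fintype Ω] [MulAction G Ω]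
  [MulAction.IsPretransitive G Ω]

omit [Fintype Ω] in
/-- the permutation character is a character -/
theorem isCharacter_permChar (a : Ω) :
    Cfsg.IsCharacter G (fun g : G => (Nat.card (MulAction.fixedBy Ω g) : ℂ)) := by
  rw [permChar_eq a]
  exact Cfsg.Agent.Lib.Helper5.PermChar.isCharacter_fixedPointCharacter _

/-- the norm of the permutation character is the rank -/
theorem classInner_permChar_self (a : Ω) :
    Cfsg.classInner (fun g : G => (Nat.card (MulAction.fixedBy Ω g) : ℂ))
      (fun g : G => (Nat.card (MulAction.fixedBy Ω g) : ℂ)) =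
      (Nat.card (MulAction.orbitRel.Quotient (MulAction.stabilizer G a) Ω) : ℂ) := by
  classical
  rw [← Cfsg.Agent.S0669.result (G := G) a]
  unfold Cfsg.classInner
  let _ : Fintype (MulAction.orbitRel.Quotient G (Ω × Ω)) := Fintype.ofFinite _
  have hb := MulAction.sum_card_fixedBy_eq_card_orbits_mul_card_group G (Ω × Ω)
  have hfix : ∀ g : G, Fintype.card (MulAction.fixedBy (Ω × Ω) g) =
      Nat.card (MulAction.fixedBy Ω g) * Nat.card (MulAction.fixedBy Ω g) := by
    intro g
    rw [← Nat.card_eq_fintype_card, ← Nat.card_prod]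
    refine Nat.card_congr
      ⟨fun p => (⟨p.1.1, congrArg Prod.fst p.2⟩, ⟨p.1.2, congrArg Prod.snd p.2⟩),
       fun p => ⟨(p.1.1, p.2.1), Prod.ext p.1.2 p.2.2⟩, fun p => rfl, fun p => rfl⟩
  have hG0 : (Nat.card G : ℂ) ≠ 0 := Nat.cast_ne_zero.mpr Nat.card_pos.ne'
  rw [inv_mul_eq_iff_eq_mul₀ hG0]
  have h2 : ∑ g : G, ((Nat.card (MulAction.fixedBy Ω g) : ℂ)) *
      conj ((Nat.card (MulAction.fixedBy Ω g) : ℂ)) =
      ((∑ g : G, Fintype.card (MulAction.fixedBy (Ω × Ω) g) : ℕ) : ℂ) := by
    rw [Nat.cast_sum]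
    refine Finset.sum_congr rfl fun g _ => ?_
    rw [hfix, Complex.conj_natCast, Nat.cast_mul]
  rw [h2, hb, Nat.cast_mul, Nat.card_eq_fintype_card, Nat.card_eq_fintype_card, mul_comm]

open Classical in
/-- multiplicities of the permutation character: the principal character occurs once and the
sum of the squares is the rank -/
theorem exists_mult (a : Ω) [Fintype (Cfsg.IrrCharacter G)] :
    ∃ m : Cfsg.IrrCharacter G → ℕ,
      (∀ χ : Cfsg.IrrCharacter G,
        Cfsg.classInner (fun g : G => (Nat.card (MulAction.fixedBy Ω g) : ℂ)) χ = m χ) ∧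
      (∀ χ : Cfsg.IrrCharacter G, (χ : G → ℂ) = (fun _ => 1) → m χ = 1) ∧
      Nat.card (MulAction.orbitRel.Quotient (MulAction.stabilizer G a) Ω) = ∑ χ, m χ ^ 2 := by
  set π : G → ℂ := fun g => (Nat.card (MulAction.fixedBy Ω g) : ℂ) with hπ
  set H : Subgroup G := MulAction.stabilizer G a with hH
  have hπchar : Cfsg.IsCharacter G π := isCharacter_permChar a
  have hπcf : Cfsg.IsClassFunction G π := isClassFunction_of_isCharacter hπchar
  have hm : ∀ χ : Cfsg.IrrCharacter G, ∃ m : ℕ, Cfsg.classInner π χ = m :=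
    fun χ => classInner_char_irr_nat hπchar χ.2
  choose m hm using hm
  have hirr1 : Cfsg.IsIrrCharacter G (fun _ => (1 : ℂ)) := isIrrCharacter_of_hom (1 : G →* ℂˣ)
  have hc : (Nat.card H : ℂ) ≠ 0 := Nat.cast_ne_zero.2 Nat.card_pos.ne'
  refine ⟨m, hm, ?_, ?_⟩
  · intro χ hχ
    have h1 := classInner_permChar a (fun _ => (1 : ℂ)) (isClassFunction_irr hirr1)
    have h2 : ∑ x : G, (if x ∈ H then conj ((fun _ => (1 : ℂ)) x) else 0) = (Nat.card H : ℂ) := by
      simp only [map_one]
      rw [Finset.sum_boole, Nat.card_eq_fintype_card, Fintype.card_subtype]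
    rw [h2, inv_mul_cancel₀ hc, ← hχ] at h1
    have h3 : (m χ : ℂ) = 1 := (hm χ).symm.trans h1
    exact_mod_cast h3
  · have h1 := classInner_eq_sum_mult π π hπcf
    rw [classInner_permChar_self a] at h1
    have h3 : (Nat.card (MulAction.orbitRel.Quotient H Ω) : ℂ) = ((∑ χ, m χ ^ 2 : ℕ) : ℂ) := by
      rw [h1, Nat.cast_sum]
      refine Finset.sum_congr rfl fun χ _ => ?_
      rw [← classInner_conj_symm π χ, hm, Complex.conj_natCast, Nat.cast_pow, sq]
    exact_mod_cast h3

open Classical in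
/-- if all non-principal constituents have degree `f`, the permutation character is
multiplicity-free and all non-trivial subdegrees are `f` -/
theorem multFree_of_same_degree (a : Ω) (f : ℕ)
    (hf : ∀ χ : G → ℂ, Cfsg.IsIrrCharacter G χ → χ ≠ (fun _ => 1) →
      Cfsg.classInner (fun g : G => (Nat.card (MulAction.fixedBy Ω g) : ℂ)) χ ≠ 0 → χ 1 = f) :
    (∀ χ : G → ℂ, Cfsg.IsIrrCharacter G χ →
      Cfsg.classInner (fun g : G => (Nat.card (MulAction.fixedBy Ω g) : ℂ)) χ = 0 ∨
      Cfsg.classInner (fun g : G => (Nat.card (MulAction.fixedBy Ω g) : ℂ)) χ = 1) ∧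
    ∀ b : Ω, b ≠ a → Nat.card (MulAction.orbit (MulAction.stabilizer G a) b) = f := by
  let _ : Fintype (Cfsg.IrrCharacter G) := Fintype.ofFinite _
  set π : G → ℂ := fun g => (Nat.card (MulAction.fixedBy Ω g) : ℂ) with hπ
  set H : Subgroup G := MulAction.stabilizer G a with hH
  have hπchar : Cfsg.IsCharacter G π := isCharacter_permChar a
  have hπcf : Cfsg.IsClassFunction G π := isClassFunction_of_isCharacter hπchar
  have hm : ∀ χ : Cfsg.IrrCharacter G, ∃ m : ℕ, Cfsg.classInner π χ = m :=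
    fun χ => classInner_char_irr_nat hπchar χ.2
  choose m hm using hm
  have hd : ∀ χ : Cfsg.IrrCharacter G, ∃ d : ℕ, 0 < d ∧ (χ : G → ℂ) 1 = d :=
    fun χ => irr_apply_one_pos χ.2
  choose d hdpos hd using hd
  have hirr1 : Cfsg.IsIrrCharacter G (fun _ => (1 : ℂ)) := isIrrCharacter_of_hom (1 : G →* ℂˣ)
  set χ₀ : Cfsg.IrrCharacter G := ⟨fun _ => 1, hirr1⟩ with hχ₀
  have hc : (Nat.card H : ℂ) ≠ 0 := Nat.cast_ne_zero.2 Nat.card_pos.ne'
  have hm0 : m χ₀ = 1 := by
    have h1 := classInner_permChar a (fun _ => (1 : ℂ)) (isClassFunction_irr hirr1)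
    have h2 : ∑ x : G, (if x ∈ H then conj ((fun _ => (1 : ℂ)) x) else 0) = (Nat.card H : ℂ) := by
      simp only [map_one]
      rw [Finset.sum_boole, Nat.card_eq_fintype_card, Fintype.card_subtype]
    rw [h2, inv_mul_cancel₀ hc] at h1
    have h3 : (m χ₀ : ℂ) = 1 := (hm χ₀).symm.trans h1
    exact_mod_cast h3
  have hd0 : d χ₀ = 1 := by
    have h3 : (d χ₀ : ℂ) = 1 := (hd χ₀).symm
    exact_mod_cast h3
  -- degree = sum of multiplicities times degrees
  have hn : Fintype.card Ω = ∑ χ, m χ * d χ := by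
    have h1 := congrFun (class_function_expansion π hπcf) 1
    rw [Finset.sum_apply] at h1
    simp only [Pi.smul_apply, smul_eq_mul] at h1
    have h2 : π 1 = (Fintype.card Ω : ℂ) := by
      simp only [hπ, MulAction.fixedBy_one_eq_univ, Nat.card_eq_fintype_card]
      congr 1
      exact Fintype.card_congr (Equiv.Set.univ Ω)
    rw [h2] at h1
    have h3 : (Fintype.card Ω : ℂ) = ((∑ χ, m χ * d χ : ℕ) : ℂ) := by
      rw [h1, Nat.cast_sum]
      refine Finset.sum_congr rfl fun χ _ => ?_
      rw [hm, hd, Nat.cast_mul]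
    exact_mod_cast h3
  -- rank = sum of squares of multiplicities
  have hr : Nat.card (MulAction.orbitRel.Quotient H Ω) = ∑ χ, m χ ^ 2 := by
    have h1 := classInner_eq_sum_mult π π hπcf
    rw [classInner_permChar_self a] at h1
    have h3 : (Nat.card (MulAction.orbitRel.Quotient H Ω) : ℂ) = ((∑ χ, m χ ^ 2 : ℕ) : ℂ) := by
      rw [h1, Nat.cast_sum]
      refine Finset.sum_congr rfl fun χ _ => ?_
      rw [← classInner_conj_symm π χ, hm, Complex.conj_natCast, Nat.cast_pow, sq]
    exact_mod_cast h3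
  -- suborbits
  let _ : Fintype (MulAction.orbitRel.Quotient H Ω) := Fintype.ofFinite _
  have hsum : Fintype.card Ω = ∑ q : MulAction.orbitRel.Quotient H Ω, Nat.card q.orbit := by
    rw [Fintype.card_congr (MulAction.selfEquivSigmaOrbits' H Ω), Fintype.card_sigma]
    refine Finset.sum_congr rfl fun q _ => ?_
    rw [Nat.card_eq_fintype_card]
  set q₀ : MulAction.orbitRel.Quotient H Ω := Quotient.mk'' a with hq₀
  have horba : MulAction.orbit H a = {a} := by
    ext x
    rw [MulAction.mem_orbit_iff, Set.mem_singleton_iff]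
    constructor
    · rintro ⟨h, rfl⟩
      exact MulAction.mem_stabilizer_iff.1 h.2
    · rintro rfl
      exact ⟨1, one_smul _ _⟩
  have hq0 : Nat.card q₀.orbit = 1 := by
    rw [hq₀, MulAction.orbitRel.Quotient.orbit_mk, horba]
    simp
  have hf' : ∀ χ : G → ℂ, Cfsg.IsIrrCharacter G χ → χ ≠ (fun _ => 1) →
      Cfsg.classInner (fun g : G => (Nat.card (MulAction.fixedBy Ω g) : ℂ)) χ ≠ 0 →
        ∃ k : ℕ, χ 1 = (f : ℂ) * k := by
    intro χ h1 h2 h3
    exact ⟨1, by rw [hf χ h1 h2 h3, Nat.cast_one, mul_one]⟩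
  have hmk_ne : ∀ b : Ω, b ≠ a → (Quotient.mk'' b : MulAction.orbitRel.Quotient H Ω) ≠ q₀ := by
    intro b hb h
    rw [hq₀, Quotient.eq''] at h
    have : b ∈ MulAction.orbit H a := h
    rw [horba] at this
    exact hb this
  have hq : ∀ q : MulAction.orbitRel.Quotient H Ω, q ≠ q₀ →
      f ∣ Nat.card q.orbit ∧ 0 < Nat.card q.orbit := by
    intro q hq
    induction q using Quotient.inductionOn' with
    | h b =>
      have hba : b ≠ a := by
        rintro rfl
        exact hq rfl
      have : MulAction.orbitRel.Quotient.orbit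
          (Quotient.mk'' b : MulAction.orbitRel.Quotient H Ω) = MulAction.orbit H b :=
        MulAction.orbitRel.Quotient.orbit_mk b
      rw [this]
      refine ⟨dvd_card_suborbit f hf' a b hba, ?_⟩
      have : Nonempty (MulAction.orbit H b) := ⟨⟨b, MulAction.mem_orbit_self b⟩⟩
      exact Nat.card_pos
  -- multiplicity times degree
  have hmd : ∀ χ : Cfsg.IrrCharacter G, χ ≠ χ₀ → m χ * d χ = m χ * f := by
    intro χ hχ
    by_cases h0 : m χ = 0
    · rw [h0, zero_mul, zero_mul]
    · have hne : (χ : G → ℂ) ≠ (fun _ => 1) := fun h => hχ (Subtype.ext h)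
      have h1 : Cfsg.classInner π χ ≠ 0 := by
        rw [hm]
        exact Nat.cast_ne_zero.2 h0
      have h2 := hf χ χ.2 hne h1
      rw [hd] at h2
      have : d χ = f := by exact_mod_cast h2
      rw [this]
  have hn' : Fintype.card Ω = 1 + f * ∑ χ ∈ Finset.univ.erase χ₀, m χ := by
    rw [hn, ← Finset.add_sum_erase Finset.univ _ (Finset.mem_univ χ₀), hm0, hd0, Finset.mul_sum]
    congr 1
    refine Finset.sum_congr rfl fun χ hχ => ?_
    rw [hmd χ (Finset.ne_of_mem_erase hχ), mul_comm]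
  have hr' : Nat.card (MulAction.orbitRel.Quotient H Ω) =
      1 + ∑ χ ∈ Finset.univ.erase χ₀, m χ ^ 2 := by
    rw [hr, ← Finset.add_sum_erase Finset.univ _ (Finset.mem_univ χ₀), hm0, one_pow]
  have hsum' : Fintype.card Ω = 1 + ∑ q ∈ Finset.univ.erase q₀, Nat.card q.orbit := by
    rw [hsum, ← Finset.add_sum_erase Finset.univ _ (Finset.mem_univ q₀), hq0]
  have hcardQ : (Finset.univ.erase q₀).card = ∑ χ ∈ Finset.univ.erase χ₀, m χ ^ 2 := by
    rw [Finset.card_erase_of_mem (Finset.mem_univ q₀), Finset.card_univ,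
      ← Nat.card_eq_fintype_card, hr']
    omega
  rcases Nat.eq_zero_or_pos f with hf0 | hfpos
  · -- degenerate case
    have hmz : ∀ χ : Cfsg.IrrCharacter G, χ ≠ χ₀ → m χ = 0 := by
      intro χ hχ
      by_contra h0
      have h1 := hmd χ hχ
      rw [hf0, mul_zero] at h1
      rcases Nat.mul_eq_zero.1 h1 with h | h
      · exact h0 h
      · exact (hdpos χ).ne' h
    refine ⟨fun χ hχ => ?_, fun b hb => ?_⟩
    · by_cases h : (⟨χ, hχ⟩ : Cfsg.IrrCharacter G) = χ₀
      · right
        have := hm ⟨χ, hχ⟩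
        rw [h, hm0, Nat.cast_one] at this
        have h2 : χ = (χ₀ : G → ℂ) := congrArg Subtype.val h
        rw [h2]
        exact this
      · left
        have := hm ⟨χ, hχ⟩
        rw [hmz _ h, Nat.cast_zero] at this
        exact this
    · exfalso
      rw [hf0, zero_mul, add_zero] at hn'
      have : Subsingleton Ω := Fintype.card_le_one_iff_subsingleton.1 hn'.le
      exact hb (Subsingleton.elim _ _)
  · have hge : ∀ q ∈ Finset.univ.erase q₀, f ≤ Nat.card q.orbit := by
      intro q hq'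
      obtain ⟨h1, h2⟩ := hq q (Finset.ne_of_mem_erase hq')
      exact Nat.le_of_dvd h2 h1
    have h1 : (∑ χ ∈ Finset.univ.erase χ₀, m χ ^ 2) * f ≤
        ∑ q ∈ Finset.univ.erase q₀, Nat.card q.orbit := by
      rw [← hcardQ, ← smul_eq_mul, ← Finset.sum_const]
      exact Finset.sum_le_sum hge
    have h2 : f * ∑ χ ∈ Finset.univ.erase χ₀, m χ =
        ∑ q ∈ Finset.univ.erase q₀, Nat.card q.orbit := by
      have := hn'.symm.trans hsum'
      omega
    have h3 : ∑ χ ∈ Finset.univ.erase χ₀, m χ ^ 2 ≤ ∑ χ ∈ Finset.univ.erase χ₀, m χ := by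
      rw [← h2, mul_comm] at h1
      exact Nat.le_of_mul_le_mul_left h1 hfpos
    have h4 : ∀ χ ∈ Finset.univ.erase χ₀, m χ ≤ m χ ^ 2 := by
      intro χ _
      rw [sq]
      rcases Nat.eq_zero_or_pos (m χ) with h | h
      · rw [h]
        exact Nat.zero_le _
      · exact Nat.le_mul_of_pos_left _ h
    have h5 : ∑ χ ∈ Finset.univ.erase χ₀, m χ = ∑ χ ∈ Finset.univ.erase χ₀, m χ ^ 2 :=
      le_antisymm (Finset.sum_le_sum h4) h3
    have h6 := (Finset.sum_eq_sum_iff_of_le h4).1 h5
    have hm01 : ∀ χ : Cfsg.IrrCharacter G, m χ = 0 ∨ m χ = 1 := by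
      intro χ
      by_cases h : χ = χ₀
      · right
        rw [h, hm0]
      · have h7 := h6 χ (Finset.mem_erase.2 ⟨h, Finset.mem_univ _⟩)
        rcases Nat.eq_zero_or_pos (m χ) with h0 | hpos
        · left
          exact h0
        · right
          rw [sq] at h7
          have : m χ * 1 = m χ * m χ := by rw [mul_one]; exact h7
          exact (Nat.eq_of_mul_eq_mul_left hpos this).symm
    refine ⟨fun χ hχ => ?_, fun b hb => ?_⟩
    · have := hm ⟨χ, hχ⟩
      rcases hm01 ⟨χ, hχ⟩ with h | h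
      · left
        rw [h, Nat.cast_zero] at this
        exact this
      · right
        rw [h, Nat.cast_one] at this
        exact this
    · have h7 : ∑ q ∈ Finset.univ.erase q₀, f = ∑ q ∈ Finset.univ.erase q₀, Nat.card q.orbit := by
        rw [Finset.sum_const, smul_eq_mul, hcardQ, ← h5, ← h2, mul_comm]
      have h8 := (Finset.sum_eq_sum_iff_of_le hge).1 h7
      have h9 := h8 (Quotient.mk'' b) (Finset.mem_erase.2 ⟨hmk_ne b hb, Finset.mem_univ _⟩)
      rw [MulAction.orbitRel.Quotient.orbit_mk] at h9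
      exact h9.symm

end rank

end Cfsg.Agent.Lib.Helper2.PermChar
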