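import Mathlib
import Cfsg.Prelude.Def_Characters
import Cfsg.Agent.Lib.Helper2.PermChar3

set_option autoImplicit false

/-!
# Hecke algebra characters: products of averaged character sums
-/

namespace Cfsg.Agent.Lib.Helper2.PermChar

open scoped ComplexConjugate
open Cfsg.Agent.Lib.Helper1 Cfsg.Agent.Lib.Helper4 Cfsg.Agent.Lib.Helper8

section rankone

variable {W : Type*} [AddCommGroup W] [Module ℂ W] [FiniteDimensional ℂ W]

/-- sandwiching by an idempotent of trace one -/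
theorem rank_one_sandwich (P X : Module.End ℂ W) (hP : IsIdempotentElem P)
    (htr : LinearMap.trace ℂ W P = 1) :
    P * X * P = LinearMap.trace ℂ W (P * X) • P := by
  have hPP : P * P = P := hP
  have h1 : Module.finrank ℂ (LinearMap.range P) = 1 := by
    have := (LinearMap.IsIdempotentElem.isProj_range P hP).trace
    rw [htr] at this
    exact_mod_cast this.symm
  obtain ⟨v, hv0, hv⟩ := finrank_eq_one_iff'.1 h1
  have hPfix : ∀ u : LinearMap.range P, P (u : W) = u := by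
    rintro ⟨_, w, rfl⟩
    show P (P w) = P w
    rw [← Module.End.mul_apply, hPP]
  set Y : Module.End ℂ W := P * X * P with hY
  have hYmem : Y (v : W) ∈ LinearMap.range P := ⟨X (P v), by simp [hY, Module.End.mul_apply]⟩
  obtain ⟨l, hl⟩ := hv ⟨Y v, hYmem⟩
  have hl' : l • (v : W) = Y v := congrArg Subtype.val hl
  have hYP : Y = l • P := by
    ext w
    obtain ⟨μ, hμ⟩ := hv ⟨P w, w, rfl⟩
    have hμ' : μ • (v : W) = P w := congrArg Subtype.val hμ
    have e1 : Y w = Y (P w) := by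
      simp only [hY, Module.End.mul_apply]
      rw [← Module.End.mul_apply P P, hPP]
    rw [e1, ← hμ', map_smul, ← hl', LinearMap.smul_apply, ← hμ', smul_comm]
  have htrY : LinearMap.trace ℂ W Y = l := by
    rw [hYP, map_smul, htr, smul_eq_mul, mul_one]
  have htrY' : LinearMap.trace ℂ W Y = LinearMap.trace ℂ W (P * X) := by
    rw [hY, LinearMap.trace_mul_comm, ← mul_assoc, hPP]
  rw [← htrY', htrY, ← hYP]

end rankone

section hecke

variable {G : Type*} [Group G] [Fintype G]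

open Classical in
/-- the normalised character sum over a subset -/
noncomputable def cc (H : Subgroup G) (D : Set G) (χ : G → ℂ) : ℂ :=
  (Nat.card H : ℂ)⁻¹ * ∑ x : G, (if x ∈ D then χ x else 0)

open Classical in
/-- the normalised character sum over products from two subsets -/
noncomputable def cc2 (H : Subgroup G) (D D' : Set G) (χ : G → ℂ) : ℂ :=
  (Nat.card H : ℂ)⁻¹ * ((Nat.card H : ℂ)⁻¹ *
    ∑ x : G, ∑ y : G, (if x ∈ D ∧ y ∈ D' then χ (x * y) else 0))

variable {W : Type*} [AddCommGroup W] [Module ℂ W]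

open Classical in
/-- the normalised sum of a representation over a subset -/
noncomputable def avgRep (ρ : Representation ℂ G W) (H : Subgroup G) (D : Set G) :
    Module.End ℂ W :=
  (Nat.card H : ℂ)⁻¹ • ∑ x : G, (if x ∈ D then ρ x else 0 : Module.End ℂ W)

open Classical in
theorem trace_avgRep (ρ : Representation ℂ G W) (H : Subgroup G) (D : Set G) :
    LinearMap.trace ℂ W (avgRep ρ H D) = cc H D ρ.character := by
  unfold avgRep cc
  rw [LinearMap.map_smul, smul_eq_mul, map_sum]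
  congr 1
  refine Finset.sum_congr rfl fun x _ => ?_
  by_cases hx : x ∈ D
  · rw [if_pos hx, if_pos hx]
    rfl
  · rw [if_neg hx, if_neg hx, map_zero]

open Classical in
theorem trace_avgRep_mul (ρ : Representation ℂ G W) (H : Subgroup G) (D D' : Set G) :
    LinearMap.trace ℂ W (avgRep ρ H D * avgRep ρ H D') = cc2 H D D' ρ.character := by
  unfold avgRep cc2
  rw [smul_mul_smul_comm, ← smul_smul, LinearMap.map_smul, LinearMap.map_smul, smul_eq_mul,
    smul_eq_mul, Finset.sum_mul_sum, map_sum]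
  congr 2
  refine Finset.sum_congr rfl fun x _ => ?_
  rw [map_sum]
  refine Finset.sum_congr rfl fun y _ => ?_
  by_cases hx : x ∈ D
  · by_cases hy : y ∈ D'
    · rw [if_pos hx, if_pos hy, if_pos ⟨hx, hy⟩, ← map_mul]
      rfl
    · rw [if_neg hy, if_neg (fun h : x ∈ D ∧ y ∈ D' => hy h.2), mul_zero, map_zero]
  · rw [if_neg hx, if_neg (fun h : x ∈ D ∧ y ∈ D' => hx h.1), zero_mul, map_zero]

open Classical in
theorem avgRep_left (ρ : Representation ℂ G W) (H : Subgroup G) (D : Set G)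
    (hDl : ∀ x h, h ∈ H → (h * x ∈ D ↔ x ∈ D)) :
    avgRep ρ H (H : Set G) * avgRep ρ H D = avgRep ρ H D := by
  have hc : (Nat.card H : ℂ) ≠ 0 := Nat.cast_ne_zero.2 Nat.card_pos.ne'
  have hb : ∀ h ∈ H, ρ h * ∑ x : G, (if x ∈ D then ρ x else 0 : Module.End ℂ W) =
      ∑ x : G, (if x ∈ D then ρ x else 0 : Module.End ℂ W) := by
    intro h hh
    rw [Finset.mul_sum]
    rw [← Equiv.sum_comp (Equiv.mulLeft h)
      (fun x => (if x ∈ D then ρ x else 0 : Module.End ℂ W))]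
    refine Finset.sum_congr rfl fun x _ => ?_
    simp only [Equiv.coe_mulLeft]
    by_cases hx : x ∈ D
    · have h2 : h * x ∈ D := (hDl _ _ hh).mpr hx
      simp only [if_pos hx, map_mul]
      exact (if_pos h2).symm
    · have h2 : ¬ h * x ∈ D := fun h' => hx ((hDl _ _ hh).mp h')
      simp only [if_neg hx, mul_zero]
      exact (if_neg h2).symm
  unfold avgRep
  rw [smul_mul_assoc, Finset.sum_mul]
  congr 1
  have : ∀ h : G, (if h ∈ (H : Set G) then ρ h else 0 : Module.End ℂ W) *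
      ((Nat.card H : ℂ)⁻¹ • ∑ x : G, (if x ∈ D then ρ x else 0 : Module.End ℂ W)) =
      if h ∈ (H : Set G) then
        ((Nat.card H : ℂ)⁻¹ • ∑ x : G, (if x ∈ D then ρ x else 0 : Module.End ℂ W)) else 0 := by
    intro h
    by_cases hh : h ∈ (H : Set G)
    · rw [if_pos hh, if_pos hh, mul_smul_comm, hb h hh]
    · rw [if_neg hh, if_neg hh, zero_mul]
  rw [Finset.sum_congr rfl (fun h _ => this h), ← Finset.sum_filter, Finset.sum_const,
    ← Nat.cast_smul_eq_nsmul ℂ, smul_smul]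
  have hcard : ((Finset.univ.filter (fun h : G => h ∈ (H : Set G))).card : ℂ) = (Nat.card H : ℂ) := by
    rw [Nat.card_eq_fintype_card, Fintype.card_subtype]
    rfl
  rw [hcard, mul_inv_cancel₀ hc, one_smul]

open Classical in
theorem avgRep_right (ρ : Representation ℂ G W) (H : Subgroup G) (D : Set G)
    (hDr : ∀ x h, h ∈ H → (x * h ∈ D ↔ x ∈ D)) :
    avgRep ρ H D * avgRep ρ H (H : Set G) = avgRep ρ H D := by
  have hc : (Nat.card H : ℂ) ≠ 0 := Nat.cast_ne_zero.2 Nat.card_pos.ne'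
  have hb : ∀ h ∈ H, (∑ x : G, (if x ∈ D then ρ x else 0 : Module.End ℂ W)) * ρ h =
      ∑ x : G, (if x ∈ D then ρ x else 0 : Module.End ℂ W) := by
    intro h hh
    rw [Finset.sum_mul]
    rw [← Equiv.sum_comp (Equiv.mulRight h)
      (fun x => (if x ∈ D then ρ x else 0 : Module.End ℂ W))]
    refine Finset.sum_congr rfl fun x _ => ?_
    simp only [Equiv.coe_mulRight]
    by_cases hx : x ∈ D
    · have h2 : x * h ∈ D := (hDr _ _ hh).mpr hx
      simp only [if_pos hx, map_mul]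
      exact (if_pos h2).symm
    · have h2 : ¬ x * h ∈ D := fun h' => hx ((hDr _ _ hh).mp h')
      simp only [if_neg hx, zero_mul]
      exact (if_neg h2).symm
  unfold avgRep
  rw [mul_smul_comm, Finset.mul_sum]
  congr 1
  have : ∀ h : G, ((Nat.card H : ℂ)⁻¹ • ∑ x : G, (if x ∈ D then ρ x else 0 : Module.End ℂ W)) *
      (if h ∈ (H : Set G) then ρ h else 0 : Module.End ℂ W) =
      if h ∈ (H : Set G) then
        ((Nat.card H : ℂ)⁻¹ • ∑ x : G, (if x ∈ D then ρ x else 0 : Module.End ℂ W)) else 0 := by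
    intro h
    by_cases hh : h ∈ (H : Set G)
    · rw [if_pos hh, if_pos hh, smul_mul_assoc, hb h hh]
    · rw [if_neg hh, if_neg hh, mul_zero]
  rw [Finset.sum_congr rfl (fun h _ => this h), ← Finset.sum_filter, Finset.sum_const,
    ← Nat.cast_smul_eq_nsmul ℂ, smul_smul]
  have hcard : ((Finset.univ.filter (fun h : G => h ∈ (H : Set G))).card : ℂ) = (Nat.card H : ℂ) := by
    rw [Nat.card_eq_fintype_card, Fintype.card_subtype]
    rfl
  rw [hcard, mul_inv_cancel₀ hc, one_smul]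

variable [FiniteDimensional ℂ W]

omit [FiniteDimensional ℂ W] in
theorem avgRep_self_idem (ρ : Representation ℂ G W) (H : Subgroup G) :
    IsIdempotentElem (avgRep ρ H (H : Set G)) :=
  avgRep_left ρ H (H : Set G) (fun x h hh => by
    simp only [SetLike.mem_coe]
    exact H.mul_mem_cancel_left hh)

/-- when the `H`-fixed space is a line, the averaged sums are multiples of the projection -/
theorem avgRep_eq_smul (ρ : Representation ℂ G W) (H : Subgroup G) (D : Set G)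
    (hDr : ∀ x h, h ∈ H → (x * h ∈ D ↔ x ∈ D)) (hDl : ∀ x h, h ∈ H → (h * x ∈ D ↔ x ∈ D))
    (h1 : cc H (H : Set G) ρ.character = 1) :
    avgRep ρ H D = cc H D ρ.character • avgRep ρ H (H : Set G) := by
  have htr : LinearMap.trace ℂ W (avgRep ρ H (H : Set G)) = 1 := by rw [trace_avgRep, h1]
  have h2 := rank_one_sandwich (avgRep ρ H (H : Set G)) (avgRep ρ H D) (avgRep_self_idem ρ H) htr
  rw [avgRep_left ρ H D hDl, avgRep_right ρ H D hDr, trace_avgRep] at h2
  exact h2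

theorem cc2_eq_mul_rep (ρ : Representation ℂ G W) (H : Subgroup G) (D D' : Set G)
    (hDr : ∀ x h, h ∈ H → (x * h ∈ D ↔ x ∈ D)) (hDl : ∀ x h, h ∈ H → (h * x ∈ D ↔ x ∈ D))
    (hDr' : ∀ x h, h ∈ H → (x * h ∈ D' ↔ x ∈ D')) (hDl' : ∀ x h, h ∈ H → (h * x ∈ D' ↔ x ∈ D'))
    (h1 : cc H (H : Set G) ρ.character = 1) :
    cc2 H D D' ρ.character = cc H D ρ.character * cc H D' ρ.character := by
  have htr : LinearMap.trace ℂ W (avgRep ρ H (H : Set G)) = 1 := by rw [trace_avgRep, h1]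
  rw [← trace_avgRep_mul, avgRep_eq_smul ρ H D hDr hDl h1, avgRep_eq_smul ρ H D' hDr' hDl' h1,
    smul_mul_smul_comm, (avgRep_self_idem ρ H).eq, LinearMap.map_smul, htr, smul_eq_mul, mul_one]

theorem cc2_eq_zero_rep (ρ : Representation ℂ G W) (H : Subgroup G) (D D' : Set G)
    (hDl : ∀ x h, h ∈ H → (h * x ∈ D ↔ x ∈ D))
    (h0 : cc H (H : Set G) ρ.character = 0) :
    cc2 H D D' ρ.character = 0 := by
  have htr : LinearMap.trace ℂ W (avgRep ρ H (H : Set G)) = 0 := by rw [trace_avgRep, h0]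
  have hz := (LinearMap.IsIdempotentElem.trace_eq_zero_iff (avgRep_self_idem ρ H)).1 htr
  rw [← trace_avgRep_mul, ← avgRep_left ρ H D hDl, hz, zero_mul, zero_mul, map_zero]

theorem cc_eq_zero_rep (ρ : Representation ℂ G W) (H : Subgroup G) (D : Set G)
    (hDl : ∀ x h, h ∈ H → (h * x ∈ D ↔ x ∈ D))
    (h0 : cc H (H : Set G) ρ.character = 0) :
    cc H D ρ.character = 0 := by
  have htr : LinearMap.trace ℂ W (avgRep ρ H (H : Set G)) = 0 := by rw [trace_avgRep, h0]
  have hz := (LinearMap.IsIdempotentElem.trace_eq_zero_iff (avgRep_self_idem ρ H)).1 htr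
  rw [← trace_avgRep, ← avgRep_left ρ H D hDl, hz, zero_mul, map_zero]

end hecke

section chars

variable {G : Type*} [Group G] [Fintype G]

theorem cc2_eq_mul (H : Subgroup G) (D D' : Set G)
    (hDr : ∀ x h, h ∈ H → (x * h ∈ D ↔ x ∈ D)) (hDl : ∀ x h, h ∈ H → (h * x ∈ D ↔ x ∈ D))
    (hDr' : ∀ x h, h ∈ H → (x * h ∈ D' ↔ x ∈ D')) (hDl' : ∀ x h, h ∈ H → (h * x ∈ D' ↔ x ∈ D'))
    {χ : G → ℂ} (hχ : Cfsg.IsCharacter G χ) (h1 : cc H (H : Set G) χ = 1) :
    cc2 H D D' χ = cc H D χ * cc H D' χ := by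
  obtain ⟨n, ρ, rfl⟩ := hχ
  exact cc2_eq_mul_rep ρ H D D' hDr hDl hDr' hDl' h1

theorem cc2_eq_zero (H : Subgroup G) (D D' : Set G)
    (hDl : ∀ x h, h ∈ H → (h * x ∈ D ↔ x ∈ D))
    {χ : G → ℂ} (hχ : Cfsg.IsCharacter G χ) (h0 : cc H (H : Set G) χ = 0) :
    cc2 H D D' χ = 0 := by
  obtain ⟨n, ρ, rfl⟩ := hχ
  exact cc2_eq_zero_rep ρ H D D' hDl h0

theorem cc_eq_zero (H : Subgroup G) (D : Set G)
    (hDl : ∀ x h, h ∈ H → (h * x ∈ D ↔ x ∈ D))
    {χ : G → ℂ} (hχ : Cfsg.IsCharacter G χ) (h0 : cc H (H : Set G) χ = 0) :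
    cc H D χ = 0 := by
  obtain ⟨n, ρ, rfl⟩ := hχ
  exact cc_eq_zero_rep ρ H D hDl h0

theorem isIntegral_cc (H : Subgroup G) (D : Set G)
    (hDr : ∀ x h, h ∈ H → (x * h ∈ D ↔ x ∈ D)) (hDl : ∀ x h, h ∈ H → (h * x ∈ D ↔ x ∈ D))
    {χ : G → ℂ} (hχ : Cfsg.IsCharacter G χ) : IsIntegral ℤ (cc H D χ) :=
  isIntegral_avg_character H D hDr hDl hχ

open Classical in
/-- the regular character evaluated on the averaged sums -/
theorem sum_irr_cc [Fintype (Cfsg.IrrCharacter G)] (H : Subgroup G) (D : Set G) :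
    ∑ χ : Cfsg.IrrCharacter G, (χ : G → ℂ) 1 * cc H D χ =
      (Nat.card H : ℂ)⁻¹ * (if (1 : G) ∈ D then (Nat.card G : ℂ) else 0) := by
  unfold cc
  simp only [← mul_assoc, mul_comm _ ((Nat.card H : ℂ)⁻¹)]
  simp only [mul_assoc, ← Finset.mul_sum]
  congr 1
  simp only [Finset.mul_sum]
  rw [Finset.sum_comm]
  have : ∀ x : G, ∑ χ : Cfsg.IrrCharacter G, (χ : G → ℂ) 1 * (if x ∈ D then (χ : G → ℂ) x else 0) =
      if x ∈ D then (if x = 1 then (Fintype.card G : ℂ) else 0) else 0 := by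
    intro x
    by_cases hx : x ∈ D
    · simp only [if_pos hx]
      exact sum_irr_one_mul x
    · simp only [if_neg hx, mul_zero, Finset.sum_const_zero]
  rw [Finset.sum_congr rfl (fun x _ => this x)]
  rw [Finset.sum_eq_single (1 : G)]
  · by_cases h1 : (1 : G) ∈ D
    · rw [if_pos h1, if_pos h1, if_pos rfl, Nat.card_eq_fintype_card]
    · rw [if_neg h1, if_neg h1]
  · intro x _ hx
    rw [if_neg hx, ite_self]
  · intro h
    exact absurd (Finset.mem_univ _) h

open Classical in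
/-- the regular character evaluated on products of averaged sums -/
theorem sum_irr_cc2 [Fintype (Cfsg.IrrCharacter G)] (H : Subgroup G) (D D' : Set G) :
    ∑ χ : Cfsg.IrrCharacter G, (χ : G → ℂ) 1 * cc2 H D D' χ =
      (Nat.card H : ℂ)⁻¹ * ((Nat.card H : ℂ)⁻¹ * ((Nat.card G : ℂ) *
        ((Finset.univ.filter (fun x : G => x ∈ D ∧ x⁻¹ ∈ D')).card : ℂ))) := by
  unfold cc2
  simp only [← mul_assoc, mul_comm _ ((Nat.card H : ℂ)⁻¹)]
  simp only [mul_assoc, ← Finset.mul_sum]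
  congr 2
  simp only [Finset.mul_sum]
  rw [Finset.sum_comm]
  have h1 : ∀ x : G, ∑ χ : Cfsg.IrrCharacter G, ∑ y : G,
      (χ : G → ℂ) 1 * (if x ∈ D ∧ y ∈ D' then (χ : G → ℂ) (x * y) else 0) =
      if x ∈ D ∧ x⁻¹ ∈ D' then (Nat.card G : ℂ) else 0 := by
    intro x
    rw [Finset.sum_comm]
    have h2 : ∀ y : G, ∑ χ : Cfsg.IrrCharacter G,
        (χ : G → ℂ) 1 * (if x ∈ D ∧ y ∈ D' then (χ : G → ℂ) (x * y) else 0) =
        if x ∈ D ∧ y ∈ D' then (if x * y = 1 then (Fintype.card G : ℂ) else 0) else 0 := by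
      intro y
      by_cases hxy : x ∈ D ∧ y ∈ D'
      · simp only [if_pos hxy]
        exact sum_irr_one_mul (x * y)
      · simp only [if_neg hxy, mul_zero, Finset.sum_const_zero]
    rw [Finset.sum_congr rfl (fun y _ => h2 y)]
    rw [Finset.sum_eq_single (x⁻¹ : G)]
    · by_cases hx : x ∈ D ∧ x⁻¹ ∈ D'
      · rw [if_pos hx, if_pos hx, if_pos (mul_inv_cancel x), Nat.card_eq_fintype_card]
      · rw [if_neg hx, if_neg hx]
    · intro y _ hy
      have : ¬ x * y = 1 := fun h => hy (eq_inv_of_mul_eq_one_right h)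
      rw [if_neg this, ite_self]
    · intro h
      exact absurd (Finset.mem_univ _) h
  rw [Finset.sum_congr rfl (fun x _ => h1 x), ← Finset.sum_filter, Finset.sum_const,
    nsmul_eq_mul, mul_comm]

open Classical in
/-- averaged sums over the inverse set -/
theorem cc_inv (H : Subgroup G) (D : Set G) {χ : G → ℂ} (hχ : Cfsg.IsCharacter G χ) :
    cc H {x | x⁻¹ ∈ D} χ = conj (cc H D χ) := by
  unfold cc
  rw [map_mul, map_inv₀, Complex.conj_natCast, map_sum]
  congr 1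
  rw [← Equiv.sum_comp (Equiv.inv G)]
  refine Finset.sum_congr rfl fun x _ => ?_
  simp only [Equiv.inv_apply, Set.mem_ofPred_eq, inv_inv]
  by_cases hx : x ∈ D
  · rw [if_pos hx, if_pos hx, isCharacter_inv hχ]
  · rw [if_neg hx, if_neg hx, map_zero]

omit [Fintype G] in
theorem inv_biinv (H : Subgroup G) (D : Set G)
    (hDr : ∀ x h, h ∈ H → (x * h ∈ D ↔ x ∈ D)) (hDl : ∀ x h, h ∈ H → (h * x ∈ D ↔ x ∈ D)) :
    (∀ x h, h ∈ H → (x * h ∈ {x | x⁻¹ ∈ D} ↔ x ∈ {x | x⁻¹ ∈ D})) ∧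
    (∀ x h, h ∈ H → (h * x ∈ {x | x⁻¹ ∈ D} ↔ x ∈ {x | x⁻¹ ∈ D})) := by
  constructor
  · intro x h hh
    simp only [Set.mem_ofPred_eq, mul_inv_rev]
    exact hDl _ _ (H.inv_mem hh)
  · intro x h hh
    simp only [Set.mem_ofPred_eq, mul_inv_rev]
    exact hDr _ _ (H.inv_mem hh)

open Classical in
/-- the multiplicity-free product formula -/
theorem sum_cc_mul [Fintype (Cfsg.IrrCharacter G)] (H : Subgroup G) (D D' : Set G)
    (hDr : ∀ x h, h ∈ H → (x * h ∈ D ↔ x ∈ D)) (hDl : ∀ x h, h ∈ H → (h * x ∈ D ↔ x ∈ D))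
    (hDr' : ∀ x h, h ∈ H → (x * h ∈ D' ↔ x ∈ D')) (hDl' : ∀ x h, h ∈ H → (h * x ∈ D' ↔ x ∈ D'))
    (hmf : ∀ χ : Cfsg.IrrCharacter G, cc H (H : Set G) χ = 0 ∨ cc H (H : Set G) χ = 1) :
    ∑ χ : Cfsg.IrrCharacter G, (χ : G → ℂ) 1 * (cc H D χ * cc H D' χ) =
      (Nat.card H : ℂ)⁻¹ * ((Nat.card H : ℂ)⁻¹ * ((Nat.card G : ℂ) *
        ((Finset.univ.filter (fun x : G => x ∈ D ∧ x⁻¹ ∈ D')).card : ℂ))) := by
  rw [← sum_irr_cc2]
  refine Finset.sum_congr rfl fun χ _ => ?_
  congr 1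
  rcases hmf χ with h | h
  · rw [cc2_eq_zero H D D' hDl (isCharacter_of_irr χ.2) h,
      cc_eq_zero H D hDl (isCharacter_of_irr χ.2) h, zero_mul]
  · rw [cc2_eq_mul H D D' hDr hDl hDr' hDl' (isCharacter_of_irr χ.2) h]

end chars

section perm

variable {G : Type*} [Group G] [Fintype G] {Ω : Type*} [Fintype Ω] [MulAction G Ω]
  [MulAction.IsPretransitive G Ω]

/-- the multiplicity of `χ` in the permutation character, in terms of `cc` -/
theorem classInner_permChar_eq_cc (a : Ω) (χ : G → ℂ) (hχ : Cfsg.IsClassFunction G χ) :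
    Cfsg.classInner (fun g : G => (Nat.card (MulAction.fixedBy Ω g) : ℂ)) χ =
      conj (cc (MulAction.stabilizer G a) (MulAction.stabilizer G a : Set G) χ) := by
  classical
  rw [classInner_permChar a χ hχ]
  unfold cc
  rw [map_mul, map_inv₀, Complex.conj_natCast, map_sum]
  congr 1
  refine Finset.sum_congr rfl fun x _ => ?_
  by_cases hx : x ∈ MulAction.stabilizer G a
  · rw [if_pos hx, if_pos (by exact hx)]
  · rw [if_neg hx, if_neg (by exact hx), map_zero]

end perm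

end Cfsg.Agent.Lib.Helper2.PermChar
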