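import Mathlib
import Cfsg.Prelude.Def_Characters
import Cfsg.Agent.Lib.Helper2.PermChar4
import Cfsg.Agent.Lib.Helper2.PermChar5
import Cfsg.Agent.Lib.Helper8.FI1

set_option autoImplicit false

/-!
# Generous transitivity and the permutation character
-/

namespace Cfsg.Agent.Lib.Helper2.PermChar

open scoped ComplexConjugate
open Cfsg.Agent.Lib.Helper1 Cfsg.Agent.Lib.Helper4 Cfsg.Agent.Lib.Helper8

section generous

variable {G : Type*} [Group G] [Fintype G] {Ω : Type*} [Fintype Ω] [MulAction G Ω]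
  [MulAction.IsPretransitive G Ω]

open Classical in
/-- multiplicity-free with real constituents implies generously transitive -/
theorem generous_of_multFree_real
    (hyp : ∀ χ : G → ℂ, Cfsg.IsIrrCharacter G χ →
      Cfsg.classInner (fun g : G => (Nat.card (MulAction.fixedBy Ω g) : ℂ)) χ ≠ 0 →
      Cfsg.classInner (fun g : G => (Nat.card (MulAction.fixedBy Ω g) : ℂ)) χ = 1 ∧
        ∀ g : G, conj (χ g) = χ g) (a b : Ω) : ∃ g : G, g • a = b ∧ g • b = a := by
  let _ : Fintype (Cfsg.IrrCharacter G) := Fintype.ofFinite _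
  set H : Subgroup G := MulAction.stabilizer G a with hH
  set Δ : Set Ω := MulAction.orbit H b with hΔ
  set D : Set G := {x : G | x • a ∈ Δ} with hD
  have hc : (Nat.card H : ℂ) ≠ 0 := Nat.cast_ne_zero.2 Nat.card_pos.ne'
  have hG0 : (Nat.card G : ℂ) ≠ 0 := Nat.cast_ne_zero.2 Nat.card_pos.ne'
  have hDr : ∀ x h, h ∈ H → (x * h ∈ D ↔ x ∈ D) := by
    intro x h hh
    simp only [hD, Set.mem_ofPred_eq, mul_smul]
    rw [MulAction.mem_stabilizer_iff.1 hh]
  have hDl : ∀ x h, h ∈ H → (h * x ∈ D ↔ x ∈ D) := by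
    intro x h hh
    simp only [hD, Set.mem_ofPred_eq, mul_smul]
    have : h • x • a = (⟨h, hh⟩ : H) • (x • a) := rfl
    rw [this, hΔ, ← MulAction.orbit_eq_iff, ← MulAction.orbit_eq_iff, MulAction.orbit_smul]
  obtain ⟨hDr', hDl'⟩ := inv_biinv H D hDr hDl
  -- multiplicity free
  have hcc : ∀ χ : Cfsg.IrrCharacter G,
      Cfsg.classInner (fun g : G => (Nat.card (MulAction.fixedBy Ω g) : ℂ)) (χ : G → ℂ) =
        conj (cc H (H : Set G) (χ : G → ℂ)) :=
    fun χ => classInner_permChar_eq_cc a (χ : G → ℂ) (isClassFunction_irr χ.2)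
  have hmf : ∀ χ : Cfsg.IrrCharacter G, cc H (H : Set G) χ = 0 ∨ cc H (H : Set G) χ = 1 := by
    intro χ
    by_cases h0 : Cfsg.classInner (fun g : G => (Nat.card (MulAction.fixedBy Ω g) : ℂ)) χ = 0
    · left
      rw [hcc] at h0
      exact (map_eq_zero _).1 h0
    · right
      have h1 := (hyp χ χ.2 h0).1
      rw [hcc] at h1
      have := congrArg conj h1
      rw [Complex.conj_conj, map_one] at this
      exact this
  -- the averaged sums over `D` are real
  have hreal : ∀ χ : Cfsg.IrrCharacter G, cc H {x | x⁻¹ ∈ D} χ = cc H D χ := by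
    intro χ
    rw [cc_inv H D (isCharacter_of_irr χ.2)]
    by_cases h0 : Cfsg.classInner (fun g : G => (Nat.card (MulAction.fixedBy Ω g) : ℂ)) χ = 0
    · rw [hcc] at h0
      have h0' : cc H (H : Set G) χ = 0 := (map_eq_zero _).1 h0
      rw [cc_eq_zero H D hDl (isCharacter_of_irr χ.2) h0', map_zero]
    · have h1 := (hyp χ χ.2 h0).2
      unfold cc
      rw [map_mul, map_inv₀, Complex.conj_natCast, map_sum]
      congr 1
      refine Finset.sum_congr rfl fun x _ => ?_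
      by_cases hx : x ∈ D
      · rw [if_pos hx, h1]
      · rw [if_neg hx, map_zero]
  have e1 := sum_cc_mul H D {x | x⁻¹ ∈ D} hDr hDl hDr' hDl' hmf
  have e2 := sum_cc_mul H D D hDr hDl hDr hDl hmf
  simp only [hreal] at e1
  rw [e1] at e2
  have hcancel : ∀ u v : ℂ, (Nat.card H : ℂ)⁻¹ * ((Nat.card H : ℂ)⁻¹ * ((Nat.card G : ℂ) * u)) =
      (Nat.card H : ℂ)⁻¹ * ((Nat.card H : ℂ)⁻¹ * ((Nat.card G : ℂ) * v)) → u = v := by
    intro u v h
    have h1 := mul_left_cancel₀ (inv_ne_zero hc) h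
    have h2 := mul_left_cancel₀ (inv_ne_zero hc) h1
    exact mul_left_cancel₀ hG0 h2
  have e3 := hcancel _ _ e2
  have e4 : (Finset.univ.filter (fun x : G => x ∈ D ∧ x⁻¹ ∈ {x | x⁻¹ ∈ D})).card =
      (Finset.univ.filter (fun x : G => x ∈ D ∧ x⁻¹ ∈ D)).card := by exact_mod_cast e3
  -- `D` is nonempty
  obtain ⟨g₀, hg₀⟩ := MulAction.exists_smul_eq G a b
  have hg₀D : g₀ ∈ D := by
    simp only [hD, Set.mem_ofPred_eq, hg₀]
    exact MulAction.mem_orbit_self b
  have hpos : 0 < (Finset.univ.filter (fun x : G => x ∈ D ∧ x⁻¹ ∈ {x | x⁻¹ ∈ D})).card := by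
    apply Finset.card_pos.2
    refine ⟨g₀, Finset.mem_filter.2 ⟨Finset.mem_univ _, hg₀D, ?_⟩⟩
    simp only [Set.mem_ofPred_eq, inv_inv]
    exact hg₀D
  rw [e4] at hpos
  obtain ⟨x, hx⟩ := Finset.card_pos.1 hpos
  obtain ⟨-, hxD, hxD'⟩ := Finset.mem_filter.1 hx
  obtain ⟨h, hh⟩ := hxD
  obtain ⟨h', hh'⟩ := hxD'
  have hh1 : (h : G) • b = x • a := hh
  have hh2 : (h' : G) • b = x⁻¹ • a := hh'
  have hfix : ∀ u : H, (u : G) • a = a := fun u => MulAction.mem_stabilizer_iff.1 u.2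
  have hfix' : ∀ u : H, (u : G)⁻¹ • a = a := fun u =>
    MulAction.mem_stabilizer_iff.1 (H.inv_mem u.2)
  refine ⟨(h : G)⁻¹ * (x * (h' : G) * (h : G)⁻¹) * (h : G), ?_, ?_⟩
  · rw [mul_smul, mul_smul, mul_smul, mul_smul, hfix, hfix', hfix, ← hh1, inv_smul_smul]
  · rw [mul_smul, mul_smul, mul_smul, mul_smul, inv_smul_smul, hh2, smul_inv_smul, hfix']

omit [MulAction.IsPretransitive G Ω] in
open Classical in
/-- a counting identity for generously transitive groups -/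
theorem sum_sq_eq_of_generous (hgen : ∀ a b : Ω, ∃ g : G, g • a = b ∧ g • b = a) :
    ∑ g : G, (Nat.card (MulAction.fixedBy Ω (g * g)) : ℂ) =
      ∑ g : G, (Nat.card (MulAction.fixedBy Ω g) : ℂ) * (Nat.card (MulAction.fixedBy Ω g) : ℂ) := by
  have hcard : ∀ g : G, Nat.card (MulAction.fixedBy Ω g) =
      ∑ α : Ω, (if g • α = α then 1 else 0) := by
    intro g
    rw [Finset.sum_boole, Nat.card_eq_fintype_card, Fintype.card_subtype]
    rfl
  have h1 : ∀ g : G, Nat.card (MulAction.fixedBy Ω (g * g)) =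
      ∑ α : Ω, ∑ β : Ω, (if g • α = β ∧ g • β = α then 1 else 0) := by
    intro g
    rw [hcard]
    refine Finset.sum_congr rfl fun α _ => ?_
    rw [Finset.sum_eq_single (g • α)]
    · simp only [true_and, mul_smul]
    · intro β _ hβ
      rw [if_neg]
      exact fun h => hβ h.1.symm
    · intro h
      exact absurd (Finset.mem_univ _) h
  have h2 : ∀ g : G, Nat.card (MulAction.fixedBy Ω g) * Nat.card (MulAction.fixedBy Ω g) =
      ∑ α : Ω, ∑ β : Ω, (if g • α = α ∧ g • β = β then 1 else 0) := by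
    intro g
    rw [hcard, Finset.sum_mul_sum]
    refine Finset.sum_congr rfl fun α _ => ?_
    refine Finset.sum_congr rfl fun β _ => ?_
    by_cases h1 : g • α = α
    · by_cases h2 : g • β = β
      · rw [if_pos h1, if_pos h2, if_pos ⟨h1, h2⟩, mul_one]
      · rw [if_neg h2, if_neg (fun h : g • α = α ∧ g • β = β => h2 h.2), mul_zero]
    · rw [if_neg h1, if_neg (fun h : g • α = α ∧ g • β = β => h1 h.1), zero_mul]
  have h3 : ∑ g : G, Nat.card (MulAction.fixedBy Ω (g * g)) =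
      ∑ g : G, Nat.card (MulAction.fixedBy Ω g) * Nat.card (MulAction.fixedBy Ω g) := by
    simp only [h1, h2]
    rw [Finset.sum_comm]
    rw [Finset.sum_comm (f := fun (g : G) (α : Ω) =>
      ∑ β : Ω, (if g • α = α ∧ g • β = β then 1 else 0))]
    refine Finset.sum_congr rfl fun α _ => ?_
    rw [Finset.sum_comm]
    rw [Finset.sum_comm (f := fun (g : G) (β : Ω) => (if g • α = α ∧ g • β = β then 1 else 0))]
    refine Finset.sum_congr rfl fun β _ => ?_
    obtain ⟨g₀, hg1, hg2⟩ := hgen α β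
    rw [← Equiv.sum_comp (Equiv.mulLeft g₀)]
    refine Finset.sum_congr rfl fun g _ => ?_
    have hiff : ((Equiv.mulLeft g₀) g • α = β ∧ (Equiv.mulLeft g₀) g • β = α) ↔
        (g • α = α ∧ g • β = β) := by
      simp only [Equiv.coe_mulLeft, mul_smul]
      constructor
      · rintro ⟨e1, e2⟩
        constructor
        · have : g₀ • g • α = g₀ • α := by rw [e1, hg1]
          exact smul_left_cancel g₀ this
        · have : g₀ • g • β = g₀ • β := by rw [e2, hg2]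
          exact smul_left_cancel g₀ this
      · rintro ⟨e1, e2⟩
        rw [e1, e2]
        exact ⟨hg1, hg2⟩
    simp only [hiff]
  have h4 := congrArg (Nat.cast : ℕ → ℂ) h3
  simp only [Nat.cast_sum, Nat.cast_mul] at h4
  exact h4

open Classical in
/-- generously transitive implies multiplicity-free with real constituents -/
theorem multFree_real_of_generous (hgen : ∀ a b : Ω, ∃ g : G, g • a = b ∧ g • b = a)
    (χ : G → ℂ) (hχ : Cfsg.IsIrrCharacter G χ)
    (h0 : Cfsg.classInner (fun g : G => (Nat.card (MulAction.fixedBy Ω g) : ℂ)) χ ≠ 0) :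
    Cfsg.classInner (fun g : G => (Nat.card (MulAction.fixedBy Ω g) : ℂ)) χ = 1 ∧
      ∀ g : G, conj (χ g) = χ g := by
  let _ : Fintype (Cfsg.IrrCharacter G) := Fintype.ofFinite _
  have hG0 : (Nat.card G : ℂ) ≠ 0 := Nat.cast_ne_zero.2 Nat.card_pos.ne'
  rcases isEmpty_or_nonempty Ω with hΩ | ⟨⟨a⟩⟩
  · exfalso
    apply h0
    unfold Cfsg.classInner
    have : ∀ g : G, (Nat.card (MulAction.fixedBy Ω g) : ℂ) = 0 := by
      intro g
      have : IsEmpty (MulAction.fixedBy Ω g) := ⟨fun x => hΩ.false x.1⟩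
      rw [Nat.card_of_isEmpty, Nat.cast_zero]
    simp only [this, zero_mul, Finset.sum_const_zero, mul_zero]
  set π : G → ℂ := fun g => (Nat.card (MulAction.fixedBy Ω g) : ℂ) with hπ
  have hπchar : Cfsg.IsCharacter G π := isCharacter_permChar a
  have hπcf : Cfsg.IsClassFunction G π := isClassFunction_of_isCharacter hπchar
  obtain ⟨m, hm, -, hr⟩ := exists_mult (G := G) a
  have hnorm : Cfsg.classInner π π = ∑ ψ : Cfsg.IrrCharacter G, (m ψ : ℂ) ^ 2 := by
    rw [classInner_permChar_self a, hr, Nat.cast_sum]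
    refine Finset.sum_congr rfl fun ψ _ => ?_
    rw [Nat.cast_pow]
  have hsq : ∑ g : G, π g * π g =
      (Nat.card G : ℂ) * ∑ ψ : Cfsg.IrrCharacter G, (m ψ : ℂ) ^ 2 := by
    rw [← hnorm]
    unfold Cfsg.classInner
    rw [← mul_assoc, mul_inv_cancel₀ hG0, one_mul]
    refine Finset.sum_congr rfl fun g _ => ?_
    rw [hπ]
    simp only [Complex.conj_natCast]
  have hfs : ∑ g : G, π (g * g) = (Nat.card G : ℂ) * ∑ ψ : Cfsg.IrrCharacter G,
      (m ψ : ℂ) * ((Nat.card G : ℂ)⁻¹ * ∑ g : G, (ψ : G → ℂ) (g * g)) := by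
    have hexp := class_function_expansion π hπcf
    have h1 : ∀ g : G, π (g * g) = ∑ ψ : Cfsg.IrrCharacter G, (m ψ : ℂ) * (ψ : G → ℂ) (g * g) := by
      intro g
      have h2 := congrFun hexp (g * g)
      rw [Finset.sum_apply] at h2
      simp only [Pi.smul_apply, smul_eq_mul] at h2
      rw [h2]
      refine Finset.sum_congr rfl fun ψ _ => ?_
      rw [hm]
    rw [Finset.sum_congr rfl (fun g _ => h1 g), Finset.sum_comm, Finset.mul_sum]
    refine Finset.sum_congr rfl fun ψ _ => ?_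
    rw [← Finset.mul_sum]
    field_simp
  have hgen' := sum_sq_eq_of_generous (G := G) (Ω := Ω) hgen
  have hkey : ∑ ψ : Cfsg.IrrCharacter G,
      (m ψ : ℂ) * ((Nat.card G : ℂ)⁻¹ * ∑ g : G, (ψ : G → ℂ) (g * g)) =
      ∑ ψ : Cfsg.IrrCharacter G, (m ψ : ℂ) ^ 2 := by
    have : ∑ g : G, π (g * g) = ∑ g : G, π g * π g := hgen'
    rw [hfs, hsq] at this
    exact mul_left_cancel₀ hG0 this
  -- integer Frobenius-Schur indicators
  have hn : ∀ ψ : Cfsg.IrrCharacter G, ∃ n : ℤ,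
      (Nat.card G : ℂ)⁻¹ * ∑ g : G, (ψ : G → ℂ) (g * g) = (n : ℂ) ∧ n ≤ 1 ∧
        (n ≠ 0 → ∀ g : G, conj ((ψ : G → ℂ) g) = (ψ : G → ℂ) g) := by
    intro ψ
    rcases fs_indicator_cases ψ.2 with h | ⟨hreal, h | h⟩
    · exact ⟨0, by rw [h, Int.cast_zero], by norm_num, fun h => absurd rfl h⟩
    · exact ⟨1, by rw [h, Int.cast_one], le_refl _, fun _ => hreal⟩
    · exact ⟨-1, by rw [h, Int.cast_neg, Int.cast_one], by norm_num, fun _ => hreal⟩
  choose n hn1 hn2 hn3 using hn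
  have hZ : ∑ ψ : Cfsg.IrrCharacter G, (m ψ : ℤ) * ((m ψ : ℤ) - n ψ) = 0 := by
    have : ((∑ ψ : Cfsg.IrrCharacter G, (m ψ : ℤ) * ((m ψ : ℤ) - n ψ) : ℤ) : ℂ) = 0 := by
      rw [Int.cast_sum]
      have : ∀ ψ : Cfsg.IrrCharacter G, (((m ψ : ℤ) * ((m ψ : ℤ) - n ψ) : ℤ) : ℂ) =
          (m ψ : ℂ) ^ 2 - (m ψ : ℂ) * ((Nat.card G : ℂ)⁻¹ * ∑ g : G, (ψ : G → ℂ) (g * g)) := by
        intro ψ
        rw [hn1]
        push_cast
        ring
      rw [Finset.sum_congr rfl (fun ψ _ => this ψ), Finset.sum_sub_distrib, hkey, sub_self]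
    exact_mod_cast this
  have hnonneg : ∀ ψ ∈ (Finset.univ : Finset (Cfsg.IrrCharacter G)),
      0 ≤ (m ψ : ℤ) * ((m ψ : ℤ) - n ψ) := by
    intro ψ _
    rcases Nat.eq_zero_or_pos (m ψ) with h | h
    · rw [h]
      simp
    · apply mul_nonneg (Int.natCast_nonneg _)
      have : (1 : ℤ) ≤ (m ψ : ℤ) := by exact_mod_cast h
      have := hn2 ψ
      omega
  have hzero := (Finset.sum_eq_zero_iff_of_nonneg hnonneg).1 hZ
  have hχz := hzero ⟨χ, hχ⟩ (Finset.mem_univ _)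
  have hmχ := hm ⟨χ, hχ⟩
  have hmχ' : Cfsg.classInner π χ = (m ⟨χ, hχ⟩ : ℂ) := hmχ
  have hmpos : 0 < m ⟨χ, hχ⟩ := by
    rcases Nat.eq_zero_or_pos (m ⟨χ, hχ⟩) with h | h
    · exfalso
      apply h0
      rw [hmχ', h, Nat.cast_zero]
    · exact h
  have hmn : (m ⟨χ, hχ⟩ : ℤ) - n ⟨χ, hχ⟩ = 0 := by
    rcases mul_eq_zero.1 hχz with h | h
    · exfalso
      have : m ⟨χ, hχ⟩ = 0 := by exact_mod_cast h
      omega
    · exact h
  have hn1' := hn2 ⟨χ, hχ⟩
  have hm1 : (1 : ℤ) ≤ (m ⟨χ, hχ⟩ : ℤ) := by exact_mod_cast hmpos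
  have hmeq : m ⟨χ, hχ⟩ = 1 := by omega
  have hneq : n ⟨χ, hχ⟩ ≠ 0 := by omega
  refine ⟨?_, hn3 ⟨χ, hχ⟩ hneq⟩
  rw [hmχ', hmeq, Nat.cast_one]

end generous

end Cfsg.Agent.Lib.Helper2.PermChar
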