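import Mathlib
import Cfsg.Prelude.Def_Characters
import Cfsg.Agent.Lib.Helper2.PermChar4
import Cfsg.Agent.Lib.Helper2.PermChar5

set_option autoImplicit false

/-!
# Suborbit sets and rank three groups of Wielandt type
-/

namespace Cfsg.Agent.Lib.Helper2.PermChar

open scoped ComplexConjugate
open Cfsg.Agent.Lib.Helper1 Cfsg.Agent.Lib.Helper4 Cfsg.Agent.Lib.Helper8

/-- a rational algebraic integer is an integer -/
theorem exists_int_of_isIntegral_rat (q : ℚ) (h : IsIntegral ℤ ((q : ℂ))) :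
    ∃ t : ℤ, (q : ℂ) = t := by
  have h1 : (q : ℂ) = algebraMap ℚ ℂ q := (eq_ratCast (algebraMap ℚ ℂ) q).symm
  rw [h1] at h
  have h2 : IsIntegral ℤ q := (isIntegral_algebraMap_iff (algebraMap ℚ ℂ).injective).1 h
  obtain ⟨y, hy⟩ := IsIntegrallyClosed.isIntegral_iff.1 h2
  refine ⟨y, ?_⟩
  have : ((y : ℤ) : ℚ) = q := hy
  rw [← this]
  push_cast
  rfl

theorem sum_three {ι : Type*} [Fintype ι] [DecidableEq ι] (F : ι → ℂ) (a b c : ι) (hab : a ≠ b)
    (hac : a ≠ c) (hbc : b ≠ c) (hF : ∀ x, x ≠ a → x ≠ b → x ≠ c → F x = 0) :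
    ∑ x, F x = F a + F b + F c := by
  have hsub : ({a, b, c} : Finset ι) ⊆ Finset.univ := Finset.subset_univ _
  rw [← Finset.sum_subset hsub]
  · rw [Finset.sum_insert, Finset.sum_insert, Finset.sum_singleton, add_assoc]
    · simpa using hbc
    · simp [hab, hac]
  · intro x _ hx
    simp only [Finset.mem_insert, Finset.mem_singleton, not_or] at hx
    exact hF x hx.1 hx.2.1 hx.2.2

section suborbit

variable {G : Type*} [Group G] {Ω : Type*} [MulAction G Ω]

/-- the union of double cosets of the stabilizer of `a` corresponding to the suborbit of `b` -/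
def suborbitSet (a b : Ω) : Set G := {x : G | x • a ∈ MulAction.orbit (MulAction.stabilizer G a) b}

theorem suborbitSet_right (a b : Ω) (x h : G) (hh : h ∈ MulAction.stabilizer G a) :
    x * h ∈ suborbitSet a b ↔ x ∈ suborbitSet a b := by
  simp only [suborbitSet, Set.mem_ofPred_eq, mul_smul]
  rw [MulAction.mem_stabilizer_iff.1 hh]

theorem suborbitSet_left (a b : Ω) (x h : G) (hh : h ∈ MulAction.stabilizer G a) :
    h * x ∈ suborbitSet a b ↔ x ∈ suborbitSet a b := by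
  simp only [suborbitSet, Set.mem_ofPred_eq, mul_smul]
  have : h • x • a = (⟨h, hh⟩ : MulAction.stabilizer G a) • (x • a) := rfl
  rw [this, ← MulAction.orbit_eq_iff, ← MulAction.orbit_eq_iff, MulAction.orbit_smul]

theorem one_notMem_suborbitSet (a b : Ω) (hab : b ≠ a) : (1 : G) ∉ suborbitSet a b := by
  intro h1
  simp only [suborbitSet, Set.mem_ofPred_eq, one_smul] at h1
  obtain ⟨h, hh⟩ := h1
  apply hab
  have h2 : (h : G) • b = a := hh
  have h3 : (h : G)⁻¹ • a = a :=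
    MulAction.mem_stabilizer_iff.1 ((MulAction.stabilizer G a).inv_mem h.2)
  calc b = (h : G)⁻¹ • ((h : G) • b) := (inv_smul_smul _ _).symm
    _ = (h : G)⁻¹ • a := by rw [h2]
    _ = a := h3

variable [Fintype G] [Fintype Ω] [MulAction.IsPretransitive G Ω]

open Classical in
theorem sum_indicator_suborbitSet (a b : Ω) :
    ∑ x : G, (if x ∈ suborbitSet a b then (1 : ℂ) else 0) =
      (Nat.card (MulAction.stabilizer G a) : ℂ) *
        (Nat.card (MulAction.orbit (MulAction.stabilizer G a) b) : ℂ) := by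
  have := sum_smul_eq (G := G) a
    (fun ω => if ω ∈ MulAction.orbit (MulAction.stabilizer G a) b then (1 : ℂ) else 0)
  refine this.trans ?_
  congr 1
  rw [Finset.sum_boole, Nat.card_eq_fintype_card, Fintype.card_subtype]

open Classical in
theorem cc_one_suborbitSet (a b : Ω) :
    cc (MulAction.stabilizer G a) (suborbitSet a b) (fun _ => (1 : ℂ)) =
      (Nat.card (MulAction.orbit (MulAction.stabilizer G a) b) : ℂ) := by
  have hc : (Nat.card (MulAction.stabilizer G a) : ℂ) ≠ 0 := Nat.cast_ne_zero.2 Nat.card_pos.ne'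
  unfold cc
  rw [sum_indicator_suborbitSet, ← mul_assoc, inv_mul_cancel₀ hc, one_mul]

open Classical in
theorem card_filter_suborbitSet (a b : Ω) :
    ((Finset.univ.filter (fun x : G => x ∈ suborbitSet a b)).card : ℂ) =
      (Nat.card (MulAction.stabilizer G a) : ℂ) *
        (Nat.card (MulAction.orbit (MulAction.stabilizer G a) b) : ℂ) := by
  rw [← sum_indicator_suborbitSet, Finset.sum_boole]

end suborbit

section wielandt

variable {G : Type*} [Group G] [Fintype G] {Ω : Type*} [Fintype Ω] [MulAction G Ω]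
  [MulAction.IsPretransitive G Ω]

open Classical in
theorem cc_add (H : Subgroup G) (D : Set G) (f g : G → ℂ) :
    cc H D (f + g) = cc H D f + cc H D g := by
  unfold cc
  rw [← mul_add, ← Finset.sum_add_distrib]
  congr 1
  refine Finset.sum_congr rfl fun x _ => ?_
  by_cases hx : x ∈ D
  · simp only [if_pos hx, Pi.add_apply]
  · simp only [if_neg hx, add_zero]

open Classical in
/-- the basic equation for rank three groups of Wielandt type -/
theorem wielandt_equation {m : ℕ} (hm : Fintype.card Ω = 2 * m) (a₀ : Ω)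
    (χ₁ χ₂ : G → ℂ) (h₁ : Cfsg.IsIrrCharacter G χ₁) (h₂ : Cfsg.IsIrrCharacter G χ₂)
    (hπ : (fun g : G => (Nat.card (MulAction.fixedBy Ω g) : ℂ)) = fun g => 1 + χ₁ g + χ₂ g)
    (hd₁ : χ₁ 1 = (m : ℂ) - 1) (hd₂ : χ₂ 1 = m) (b : Ω) (hb : b ≠ a₀) :
    ∃ t : ℤ, ((Nat.card (MulAction.orbit (MulAction.stabilizer G a₀) b) : ℤ)) ^ 2 +
      ((m : ℤ) - 1) * ((m : ℤ) * t +
        (Nat.card (MulAction.orbit (MulAction.stabilizer G a₀) b) : ℤ)) ^ 2 +
      (m : ℤ) * (((m : ℤ) - 1) * t +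
        (Nat.card (MulAction.orbit (MulAction.stabilizer G a₀) b) : ℤ)) ^ 2 =
      2 * (m : ℤ) * (Nat.card (MulAction.orbit (MulAction.stabilizer G a₀) b) : ℤ) := by
  let _ : Fintype (Cfsg.IrrCharacter G) := Fintype.ofFinite _
  set H : Subgroup G := MulAction.stabilizer G a₀ with hH
  set k : ℕ := Nat.card (MulAction.orbit H b) with hk
  set D : Set G := suborbitSet a₀ b with hD
  have hc : (Nat.card H : ℂ) ≠ 0 := Nat.cast_ne_zero.2 Nat.card_pos.ne'
  have hDr : ∀ x h, h ∈ H → (x * h ∈ D ↔ x ∈ D) := suborbitSet_right a₀ b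
  have hDl : ∀ x h, h ∈ H → (h * x ∈ D ↔ x ∈ D) := suborbitSet_left a₀ b
  have h1D : (1 : G) ∉ D := one_notMem_suborbitSet a₀ b hb
  obtain ⟨hDr', hDl'⟩ := inv_biinv H D hDr hDl
  have hirr1 : Cfsg.IsIrrCharacter G (fun _ => (1 : ℂ)) := isIrrCharacter_of_hom (1 : G →* ℂˣ)
  set χ₀ : Cfsg.IrrCharacter G := ⟨fun _ => 1, hirr1⟩ with hχ₀
  set X₁ : Cfsg.IrrCharacter G := ⟨χ₁, h₁⟩ with hX₁
  set X₂ : Cfsg.IrrCharacter G := ⟨χ₂, h₂⟩ with hX₂
  -- multiplicities
  have hπ' : (fun g : G => (Nat.card (MulAction.fixedBy Ω g) : ℂ)) = (fun _ => (1 : ℂ)) + χ₁ + χ₂ := by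
    rw [hπ]
    funext g
    simp only [Pi.add_apply]
  have hinner : ∀ ψ : Cfsg.IrrCharacter G,
      Cfsg.classInner (fun g : G => (Nat.card (MulAction.fixedBy Ω g) : ℂ)) (ψ : G → ℂ) =
        (if (fun _ => (1 : ℂ)) = (ψ : G → ℂ) then 1 else 0) + (if χ₁ = (ψ : G → ℂ) then 1 else 0) +
          (if χ₂ = (ψ : G → ℂ) then 1 else 0) := by
    intro ψ
    rw [hπ', classInner_add_left, classInner_add_left, classInner_irr hirr1 ψ.2,
      classInner_irr h₁ ψ.2, classInner_irr h₂ ψ.2]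
  obtain ⟨mm, hmm, hmm1, -⟩ := exists_mult (G := G) a₀
  have h12 : χ₁ ≠ χ₂ := by
    intro h
    rw [h, hd₂] at hd₁
    have : (m : ℂ) - 1 = m := hd₁.symm
    have : (-1 : ℂ) = 0 := by linear_combination this
    norm_num at this
  have h0 : χ₁ ≠ (fun _ => (1 : ℂ)) ∧ χ₂ ≠ (fun _ => (1 : ℂ)) := by
    have e1 := hinner χ₀
    rw [hmm χ₀, hmm1 χ₀ rfl] at e1
    have e2 : (χ₀ : G → ℂ) = fun _ => (1 : ℂ) := rfl
    rw [e2, if_pos rfl] at e1
    constructor
    · intro h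
      rw [if_pos h] at e1
      split_ifs at e1 <;> norm_num at e1
    · intro h
      rw [if_pos h] at e1
      split_ifs at e1 <;> norm_num at e1
  have hne01 : χ₀ ≠ X₁ := fun h => h0.1 (congrArg Subtype.val h).symm
  have hne02 : χ₀ ≠ X₂ := fun h => h0.2 (congrArg Subtype.val h).symm
  have hne12 : X₁ ≠ X₂ := fun h => h12 (congrArg Subtype.val h)
  have hcc : ∀ ψ : Cfsg.IrrCharacter G,
      Cfsg.classInner (fun g : G => (Nat.card (MulAction.fixedBy Ω g) : ℂ)) (ψ : G → ℂ) =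
        conj (cc H (H : Set G) (ψ : G → ℂ)) :=
    fun ψ => classInner_permChar_eq_cc a₀ (ψ : G → ℂ) (isClassFunction_irr ψ.2)
  have hccH : ∀ ψ : Cfsg.IrrCharacter G, cc H (H : Set G) (ψ : G → ℂ) =
      (if (fun _ => (1 : ℂ)) = (ψ : G → ℂ) then 1 else 0) + (if χ₁ = (ψ : G → ℂ) then 1 else 0) +
          (if χ₂ = (ψ : G → ℂ) then 1 else 0) := by
    intro ψ
    have := (hcc ψ).symm.trans (hinner ψ)
    have h2 := congrArg conj this
    rw [Complex.conj_conj] at h2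
    rw [h2]
    split_ifs <;> simp
  have hother : ∀ ψ : Cfsg.IrrCharacter G, ψ ≠ χ₀ → ψ ≠ X₁ → ψ ≠ X₂ →
      cc H (H : Set G) (ψ : G → ℂ) = 0 := by
    intro ψ n0 n1 n2
    rw [hccH, if_neg, if_neg, if_neg, add_zero, add_zero]
    · exact fun h => n2 (Subtype.ext h.symm)
    · exact fun h => n1 (Subtype.ext h.symm)
    · exact fun h => n0 (Subtype.ext h.symm)
  have hcc0 : cc H (H : Set G) (χ₀ : G → ℂ) = 1 := by
    rw [hccH]
    have e2 : (χ₀ : G → ℂ) = fun _ => (1 : ℂ) := rfl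
    rw [e2, if_pos rfl, if_neg h0.1, if_neg h0.2, add_zero, add_zero]
  have hcc1 : cc H (H : Set G) (X₁ : G → ℂ) = 1 := by
    rw [hccH]
    have e2 : (X₁ : G → ℂ) = χ₁ := rfl
    rw [e2, if_pos rfl, if_neg (Ne.symm h0.1), if_neg (Ne.symm h12), zero_add, add_zero]
  have hcc2 : cc H (H : Set G) (X₂ : G → ℂ) = 1 := by
    rw [hccH]
    have e2 : (X₂ : G → ℂ) = χ₂ := rfl
    rw [e2, if_pos rfl, if_neg (Ne.symm h0.2), if_neg h12, zero_add, zero_add]
  have hmf : ∀ ψ : Cfsg.IrrCharacter G, cc H (H : Set G) (ψ : G → ℂ) = 0 ∨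
      cc H (H : Set G) (ψ : G → ℂ) = 1 := by
    intro ψ
    by_cases n0 : ψ = χ₀
    · right; rw [n0]; exact hcc0
    by_cases n1 : ψ = X₁
    · right; rw [n1]; exact hcc1
    by_cases n2 : ψ = X₂
    · right; rw [n2]; exact hcc2
    left
    exact hother ψ n0 n1 n2
  -- the three values
  set c₁ : ℂ := cc H D χ₁ with hc₁
  set c₂ : ℂ := cc H D χ₂ with hc₂
  have hck : cc H D (χ₀ : G → ℂ) = (k : ℂ) := cc_one_suborbitSet a₀ b
  -- E1
  have E1 : (k : ℂ) + ((m : ℂ) - 1) * c₁ + (m : ℂ) * c₂ = 0 := by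
    have e := sum_irr_cc H D
    rw [if_neg h1D, mul_zero] at e
    rw [sum_three _ χ₀ X₁ X₂ hne01 hne02 hne12] at e
    · have e0 : (χ₀ : G → ℂ) 1 = 1 := rfl
      have e1 : (X₁ : G → ℂ) 1 = (m : ℂ) - 1 := hd₁
      have e2 : (X₂ : G → ℂ) 1 = m := hd₂
      rw [e0, e1, e2, hck, one_mul] at e
      exact e
    · intro ψ n0 n1 n2
      rw [cc_eq_zero H D hDl (isCharacter_of_irr ψ.2) (hother ψ n0 n1 n2), mul_zero]
  -- E2
  have hGcard : (Nat.card G : ℂ) = 2 * (m : ℂ) * (Nat.card H : ℂ) := by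
    have h1 : H.index = Nat.card Ω := MulAction.index_stabilizer_of_transitive G a₀
    have h2 := H.index_mul_card
    rw [h1, Nat.card_eq_fintype_card (α := Ω), hm] at h2
    rw [← h2]
    push_cast
    ring
  have E2 : (k : ℂ) * (k : ℂ) + ((m : ℂ) - 1) * (c₁ * conj c₁) + (m : ℂ) * (c₂ * conj c₂) =
      2 * (m : ℂ) * (k : ℂ) := by
    have e := sum_cc_mul H D {x | x⁻¹ ∈ D} hDr hDl hDr' hDl' hmf
    have hfilter : (Finset.univ.filter (fun x : G => x ∈ D ∧ x⁻¹ ∈ {x | x⁻¹ ∈ D})) =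
        Finset.univ.filter (fun x : G => x ∈ D) := by
      ext x
      simp only [Finset.mem_filter, Finset.mem_univ, true_and, Set.mem_ofPred_eq, inv_inv, and_self]
    rw [hfilter, card_filter_suborbitSet a₀ b, hGcard] at e
    rw [sum_three _ χ₀ X₁ X₂ hne01 hne02 hne12] at e
    · have e0 : (χ₀ : G → ℂ) 1 = 1 := rfl
      have e1 : (X₁ : G → ℂ) 1 = (m : ℂ) - 1 := hd₁
      have e2 : (X₂ : G → ℂ) 1 = m := hd₂
      rw [e0, e1, e2, cc_inv H D (isCharacter_of_irr χ₀.2), cc_inv H D (isCharacter_of_irr X₁.2),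
        cc_inv H D (isCharacter_of_irr X₂.2), hck, one_mul, Complex.conj_natCast] at e
      rw [e]
      field_simp
      ring
    · intro ψ n0 n1 n2
      rw [cc_eq_zero H D hDl (isCharacter_of_irr ψ.2) (hother ψ n0 n1 n2), zero_mul, mul_zero]
  -- E3
  have E3 : ∃ t : ℤ, c₁ + c₂ = (t : ℂ) := by
    have hsum : cc H D (fun g : G => (Nat.card (MulAction.fixedBy Ω g) : ℂ)) = (k : ℂ) + c₁ + c₂ := by
      rw [hπ', cc_add, cc_add]
      congr 2
    set N : ℕ := ∑ x : G, (if x ∈ D then Nat.card (MulAction.fixedBy Ω x) else 0) with hN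
    have hN' : cc H D (fun g : G => (Nat.card (MulAction.fixedBy Ω g) : ℂ)) =
        (Nat.card H : ℂ)⁻¹ * (N : ℂ) := by
      unfold cc
      congr 1
      rw [hN, Nat.cast_sum]
      refine Finset.sum_congr rfl fun x _ => ?_
      split_ifs <;> simp
    have hq : c₁ + c₂ = (((N : ℚ) / (Nat.card H : ℚ) - (k : ℚ) : ℚ) : ℂ) := by
      push_cast
      have : c₁ + c₂ = (Nat.card H : ℂ)⁻¹ * (N : ℂ) - (k : ℂ) := by
        rw [← hN', hsum]
        ring
      rw [this]
      field_simp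
    have hint : IsIntegral ℤ (c₁ + c₂) :=
      (isIntegral_cc H D hDr hDl (isCharacter_of_irr h₁)).add
        (isIntegral_cc H D hDr hDl (isCharacter_of_irr h₂))
    rw [hq] at hint
    obtain ⟨t, ht⟩ := exists_int_of_isIntegral_rat _ hint
    exact ⟨t, hq.trans ht⟩
  obtain ⟨t, ht⟩ := E3
  refine ⟨t, ?_⟩
  have hc₂' : c₂ = -(k : ℂ) - ((m : ℂ) - 1) * (t : ℂ) := by
    rw [← ht]
    linear_combination E1
  have hc₁' : c₁ = (m : ℂ) * (t : ℂ) + (k : ℂ) := by
    have : c₁ = (t : ℂ) - c₂ := by rw [← ht]; ring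
    rw [this, hc₂']
    ring
  have hconj₁ : conj c₁ = c₁ := by
    rw [hc₁']
    simp only [map_add, map_mul, Complex.conj_natCast, map_intCast]
  have hconj₂ : conj c₂ = c₂ := by
    rw [hc₂']
    simp only [map_sub, map_neg, map_mul, Complex.conj_natCast, map_intCast, map_one]
  rw [hconj₁, hconj₂, hc₁', hc₂'] at E2
  have E2' : (((k : ℤ) ^ 2 + ((m : ℤ) - 1) * ((m : ℤ) * t + (k : ℤ)) ^ 2 +
      (m : ℤ) * (((m : ℤ) - 1) * t + (k : ℤ)) ^ 2 : ℤ) : ℂ) = ((2 * (m : ℤ) * (k : ℤ) : ℤ) : ℂ) := by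
    push_cast
    linear_combination E2
  exact_mod_cast E2'

end wielandt

end Cfsg.Agent.Lib.Helper2.PermChar
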