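import Mathlib
import Cfsg.Prelude.Def_Characters
import Cfsg.Agent.Lib.Helper2.PermChar7

set_option autoImplicit false

/-!
# Rank three groups of Wielandt type: arithmetic and assembly
-/

namespace Cfsg.Agent.Lib.Helper2.PermChar

/-- the arithmetic core -/
theorem wielandt_arith (m k : ℕ) (t : ℤ) (hm : 2 ≤ m) (hk2 : 2 ≤ k) (hkm : k + 1 ≤ m)
    (h : (k : ℤ) ^ 2 + ((m : ℤ) - 1) * ((m : ℤ) * t + k) ^ 2 +
      (m : ℤ) * (((m : ℤ) - 1) * t + k) ^ 2 = 2 * m * k) :
    ∃ a : ℕ, 0 < a ∧ m = 2 * a ^ 2 + 2 * a + 1 ∧ k = a * (2 * a + 1) := by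
  have hM : (2 : ℤ) ≤ (m : ℤ) := by exact_mod_cast hm
  have hK : (2 : ℤ) ≤ (k : ℤ) := by exact_mod_cast hk2
  have hKM : (k : ℤ) + 1 ≤ (m : ℤ) := by exact_mod_cast hkm
  have hQ : (m : ℤ) * (((m : ℤ) - 1) * (2 * (m : ℤ) - 1) * t ^ 2 + 4 * ((m : ℤ) - 1) * k * t +
      2 * (k : ℤ) ^ 2 - 2 * k) = 0 := by
    linear_combination h
  have hQ' : ((m : ℤ) - 1) * (2 * (m : ℤ) - 1) * t ^ 2 + 4 * ((m : ℤ) - 1) * k * t +
      2 * (k : ℤ) ^ 2 - 2 * k = 0 := by
    rcases mul_eq_zero.1 hQ with h0 | h0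
    · omega
    · exact h0
  have hC : 0 < 2 * (k : ℤ) ^ 2 - 2 * k := by nlinarith
  have ht : t = -1 := by
    rcases le_or_gt 0 t with h0 | h0
    · exfalso
      have hA : 0 ≤ ((m : ℤ) - 1) * (2 * (m : ℤ) - 1) * t ^ 2 :=
        mul_nonneg (mul_nonneg (by omega) (by omega)) (sq_nonneg t)
      have hB : 0 ≤ 4 * ((m : ℤ) - 1) * k * t :=
        mul_nonneg (mul_nonneg (mul_nonneg (by norm_num) (by omega)) (by omega)) h0
      linarith
    · rcases le_or_gt t (-2) with h2 | h2
      · exfalso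
        have hs : 2 ≤ -t := by omega
        have h3 : 2 ≤ (2 * (m : ℤ) - 1) * (-t) - 4 * k := by nlinarith
        have h4 : 0 < ((m : ℤ) - 1) * (-t) * ((2 * (m : ℤ) - 1) * (-t) - 4 * k) :=
          mul_pos (mul_pos (by omega) (by omega)) (by omega)
        have e : ((m : ℤ) - 1) * (-t) * ((2 * (m : ℤ) - 1) * (-t) - 4 * k) =
            ((m : ℤ) - 1) * (2 * (m : ℤ) - 1) * t ^ 2 + 4 * ((m : ℤ) - 1) * k * t := by ring
        rw [e] at h4
        linarith
      · omega
  subst ht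
  obtain ⟨a, ha⟩ : ∃ a : ℕ, m = k + 1 + a := ⟨m - (k + 1), by omega⟩
  have haZ : (m : ℤ) = k + 1 + a := by exact_mod_cast ha
  have h5 : (m : ℤ) - 1 = 2 * (a : ℤ) ^ 2 + 2 * a := by
    have ha' : (a : ℤ) = (m : ℤ) - 1 - k := by linarith
    rw [ha']
    linear_combination (-1) * hQ'
  have hapos : 0 < a := by
    rcases Nat.eq_zero_or_pos a with h0 | h0
    · exfalso
      rw [h0] at h5
      simp at h5
      omega
    · exact h0
  refine ⟨a, hapos, ?_, ?_⟩
  · have : (m : ℤ) = 2 * (a : ℤ) ^ 2 + 2 * a + 1 := by linarith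
    exact_mod_cast this
  · have : (k : ℤ) = (a : ℤ) * (2 * a + 1) := by
      have : (k : ℤ) = (m : ℤ) - 1 - a := by linarith
      rw [this, h5]
      ring
    exact_mod_cast this

section prim

variable {G : Type*} [Group G] {Ω : Type*} [MulAction G Ω]

/-- in a primitive group, a point stabilizer fixing a second point acts trivially -/
theorem stabilizer_trivial_of_fixes (hprim : MulAction.IsPreprimitive G Ω) (a b : Ω) (hab : b ≠ a)
    (hfix : ∀ h ∈ MulAction.stabilizer G a, h • b = b) :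
    ∀ h ∈ MulAction.stabilizer G a, ∀ ω : Ω, h • ω = ω := by
  have : MulAction.IsPretransitive G Ω := hprim.toIsPretransitive
  have : Nontrivial Ω := ⟨⟨b, a, hab⟩⟩
  set H : Subgroup G := MulAction.stabilizer G a with hH
  have hco : IsCoatom H := MulAction.IsPreprimitive.isCoatom_stabilizer_of_isPreprimitive G a
  have hle : H ≤ MulAction.stabilizer G b := fun h hh => MulAction.mem_stabilizer_iff.2 (hfix h hh)
  have hne : MulAction.stabilizer G b ≠ ⊤ := by
    intro htop
    obtain ⟨g, hg⟩ := MulAction.exists_smul_eq G b a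
    have : g ∈ MulAction.stabilizer G b := by rw [htop]; trivial
    rw [MulAction.mem_stabilizer_iff] at this
    exact hab (this.symm.trans hg)
  have heq : MulAction.stabilizer G b = H := by
    rcases eq_or_lt_of_le hle with h | h
    · exact h.symm
    · exact absurd (hco.2 _ h) hne
  obtain ⟨g, hg⟩ := MulAction.exists_smul_eq G a b
  have hconj : H.map (MulAut.conj g).toMonoidHom = H := by
    rw [hH, ← MulAction.stabilizer_smul_eq_stabilizer_map_conj, hg, heq]
  have hgN : g ∈ Subgroup.normalizer (H : Set G) := by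
    rw [Subgroup.mem_normalizer_iff]
    intro x
    constructor
    · intro hx
      rw [← hconj]
      exact ⟨x, hx, rfl⟩
    · intro hx
      rw [← hconj] at hx
      obtain ⟨y, hy, hyx⟩ := hx
      have : y = x := by
        have h1 : g * y * g⁻¹ = g * x * g⁻¹ := hyx
        exact mul_left_cancel (mul_right_cancel h1)
      rw [← this]
      exact hy
  have hgH : g ∉ H := by
    intro h
    rw [hH, MulAction.mem_stabilizer_iff] at h
    exact hab (hg.symm.trans h)
  have hNtop : Subgroup.normalizer (H : Set G) = ⊤ := by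
    apply hco.2
    refine lt_of_le_of_ne Subgroup.le_normalizer ?_
    intro h
    rw [← h] at hgN
    exact hgH hgN
  intro h hh ω
  obtain ⟨x, rfl⟩ := MulAction.exists_smul_eq G a ω
  have hx : x⁻¹ ∈ Subgroup.normalizer (H : Set G) := by rw [hNtop]; trivial
  have h2 : x⁻¹ * h * x⁻¹⁻¹ ∈ H := (Subgroup.mem_normalizer_iff.1 hx h).1 hh
  rw [inv_inv, hH, MulAction.mem_stabilizer_iff] at h2
  calc h • x • a = x • ((x⁻¹ * h * x) • a) := by
        rw [← mul_smul, ← mul_smul]
        congr 1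
        group
    _ = x • a := by rw [h2]

end prim

section main

variable {G : Type*} [Group G] [Fintype G] {Ω : Type*} [Fintype Ω] [MulAction G Ω]

open Classical in
/-- groups of Wielandt type -/
theorem wielandt_main (hprim : MulAction.IsPreprimitive G Ω) {m : ℕ}
    (hm : Fintype.card Ω = 2 * m) (a₀ : Ω)
    (hrank : Nat.card (MulAction.orbitRel.Quotient (MulAction.stabilizer G a₀) Ω) = 3)
    (χ₁ χ₂ : G → ℂ) (h₁ : Cfsg.IsIrrCharacter G χ₁) (h₂ : Cfsg.IsIrrCharacter G χ₂)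
    (hπ : (fun g : G => (Nat.card (MulAction.fixedBy Ω g) : ℂ)) = fun g => 1 + χ₁ g + χ₂ g)
    (hd₁ : χ₁ 1 = (m : ℂ) - 1) (hd₂ : χ₂ 1 = m) :
    ∃ a : ℕ, 0 < a ∧ m = 2 * a ^ 2 + 2 * a + 1 ∧ ∀ b : Ω, b ≠ a₀ →
      Nat.card (MulAction.orbit (MulAction.stabilizer G a₀) b) = a * (2 * a + 1) ∨
      Nat.card (MulAction.orbit (MulAction.stabilizer G a₀) b) = (a + 1) * (2 * a + 1) := by
  have hpre : MulAction.IsPretransitive G Ω := hprim.toIsPretransitive
  set H : Subgroup G := MulAction.stabilizer G a₀ with hH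
  let _ : Fintype (MulAction.orbitRel.Quotient H Ω) := Fintype.ofFinite _
  have hsum : Fintype.card Ω = ∑ q : MulAction.orbitRel.Quotient H Ω, Nat.card q.orbit := by
    rw [Fintype.card_congr (MulAction.selfEquivSigmaOrbits' H Ω), Fintype.card_sigma]
    refine Finset.sum_congr rfl fun q _ => ?_
    rw [Nat.card_eq_fintype_card]
  set q₀ : MulAction.orbitRel.Quotient H Ω := Quotient.mk'' a₀ with hq₀
  have horba : MulAction.orbit H a₀ = {a₀} := by
    ext x
    rw [MulAction.mem_orbit_iff, Set.mem_singleton_iff]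
    constructor
    · rintro ⟨h, rfl⟩
      exact MulAction.mem_stabilizer_iff.1 h.2
    · rintro rfl
      exact ⟨1, one_smul _ _⟩
  have hq0 : Nat.card q₀.orbit = 1 := by
    rw [hq₀, MulAction.orbitRel.Quotient.orbit_mk, horba]
    simp
  have hmk_ne : ∀ b : Ω, b ≠ a₀ → (Quotient.mk'' b : MulAction.orbitRel.Quotient H Ω) ≠ q₀ := by
    intro b hb h
    rw [hq₀, Quotient.eq''] at h
    have : b ∈ MulAction.orbit H a₀ := h
    rw [horba] at this
    exact hb this
  have horb : ∀ b : Ω, Nat.card (MulAction.orbitRel.Quotient.orbit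
      (Quotient.mk'' b : MulAction.orbitRel.Quotient H Ω)) = Nat.card (MulAction.orbit H b) := by
    intro b
    rw [MulAction.orbitRel.Quotient.orbit_mk]
  have hcardQ : (Finset.univ.erase q₀).card = 2 := by
    rw [Finset.card_erase_of_mem (Finset.mem_univ q₀), Finset.card_univ,
      ← Nat.card_eq_fintype_card, hrank]
  obtain ⟨q₁, q₂, hq12, herase⟩ := Finset.card_eq_two.1 hcardQ
  have hsum' : 2 * m = 1 + Nat.card q₁.orbit + Nat.card q₂.orbit := by
    rw [← hm, hsum, ← Finset.add_sum_erase _ _ (Finset.mem_univ q₀), hq0, herase,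
      Finset.sum_pair hq12, add_assoc]
  obtain ⟨b₁, rfl⟩ : ∃ b₁, (Quotient.mk'' b₁ : MulAction.orbitRel.Quotient H Ω) = q₁ :=
    Quotient.inductionOn' q₁ (fun b => ⟨b, rfl⟩)
  obtain ⟨b₂, rfl⟩ : ∃ b₂, (Quotient.mk'' b₂ : MulAction.orbitRel.Quotient H Ω) = q₂ :=
    Quotient.inductionOn' q₂ (fun b => ⟨b, rfl⟩)
  rw [horb, horb] at hsum'
  have hb₁ : b₁ ≠ a₀ := by
    rintro rfl
    have : (Quotient.mk'' b₁ : MulAction.orbitRel.Quotient H Ω) ∈ Finset.univ.erase q₀ := by
      rw [herase]; simp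
    exact Finset.ne_of_mem_erase this rfl
  have hb₂ : b₂ ≠ a₀ := by
    rintro rfl
    have : (Quotient.mk'' b₂ : MulAction.orbitRel.Quotient H Ω) ∈ Finset.univ.erase q₀ := by
      rw [herase]; simp
    exact Finset.ne_of_mem_erase this rfl
  have hcases : ∀ b : Ω, b ≠ a₀ → Nat.card (MulAction.orbit H b) = Nat.card (MulAction.orbit H b₁) ∨
      Nat.card (MulAction.orbit H b) = Nat.card (MulAction.orbit H b₂) := by
    intro b hb
    have : (Quotient.mk'' b : MulAction.orbitRel.Quotient H Ω) ∈ Finset.univ.erase q₀ :=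
      Finset.mem_erase.2 ⟨hmk_ne b hb, Finset.mem_univ _⟩
    rw [herase, Finset.mem_insert, Finset.mem_singleton] at this
    rcases this with h | h
    · left
      rw [← horb, h, horb]
    · right
      rw [← horb, h, horb]
  have hpos : ∀ b : Ω, 0 < Nat.card (MulAction.orbit H b) := by
    intro b
    have : Nonempty (MulAction.orbit H b) := ⟨⟨b, MulAction.mem_orbit_self b⟩⟩
    exact Nat.card_pos
  -- the key step for the smaller suborbit
  have key : ∀ c₁ c₂ : Ω, c₁ ≠ a₀ → c₂ ≠ a₀ →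
      2 * m = 1 + Nat.card (MulAction.orbit H c₁) + Nat.card (MulAction.orbit H c₂) →
      Nat.card (MulAction.orbit H c₁) ≤ Nat.card (MulAction.orbit H c₂) →
      ∃ a : ℕ, 0 < a ∧ m = 2 * a ^ 2 + 2 * a + 1 ∧
        Nat.card (MulAction.orbit H c₁) = a * (2 * a + 1) ∧
        Nat.card (MulAction.orbit H c₂) = (a + 1) * (2 * a + 1) := by
    intro c₁ c₂ hc₁ hc₂ hs hle
    have hp1 := hpos c₁
    have hp2 := hpos c₂
    have hk2 : 2 ≤ Nat.card (MulAction.orbit H c₁) := by
      by_contra hlt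
      have h1 : Nat.card (MulAction.orbit H c₁) = 1 := by omega
      have hsub : Subsingleton (MulAction.orbit H c₁) :=
        (Nat.card_eq_one_iff_unique.1 h1).1
      have hfix : ∀ h ∈ H, h • c₁ = c₁ := by
        intro h hh
        have := hsub.elim ⟨h • c₁, ⟨⟨h, hh⟩, rfl⟩⟩ ⟨c₁, MulAction.mem_orbit_self c₁⟩
        exact congrArg Subtype.val this
      have htriv := stabilizer_trivial_of_fixes hprim a₀ c₁ hc₁ hfix
      have hsub2 : Subsingleton (MulAction.orbit H c₂) := by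
        refine ⟨fun x y => ?_⟩
        obtain ⟨x, hx, rfl⟩ := x
        obtain ⟨y, hy, rfl⟩ := y
        apply Subtype.ext
        show (hx : G) • c₂ = (hy : G) • c₂
        rw [htriv hx hx.2, htriv hy hy.2]
      have h2 : Nat.card (MulAction.orbit H c₂) ≤ 1 := Finite.card_le_one_iff_subsingleton.2 hsub2
      omega
    obtain ⟨t, ht⟩ := wielandt_equation hm a₀ χ₁ χ₂ h₁ h₂ hπ hd₁ hd₂ c₁ hc₁
    obtain ⟨a, ha, hma, hka⟩ := wielandt_arith m _ t (by omega) hk2 (by omega) ht
    refine ⟨a, ha, hma, hka, ?_⟩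
    rw [hma, hka] at hs
    have : 2 * (2 * a ^ 2 + 2 * a + 1) = 1 + a * (2 * a + 1) + (a + 1) * (2 * a + 1) := by ring
    omega
  rcases le_total (Nat.card (MulAction.orbit H b₁)) (Nat.card (MulAction.orbit H b₂)) with hle | hle
  · obtain ⟨a, ha, hma, hk1, hk2⟩ := key b₁ b₂ hb₁ hb₂ hsum' hle
    refine ⟨a, ha, hma, fun b hb => ?_⟩
    rcases hcases b hb with h | h
    · left; rw [h, hk1]
    · right; rw [h, hk2]
  · obtain ⟨a, ha, hma, hk1, hk2⟩ := key b₂ b₁ hb₂ hb₁ (by omega) hle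
    refine ⟨a, ha, hma, fun b hb => ?_⟩
    rcases hcases b hb with h | h
    · right; rw [h, hk2]
    · left; rw [h, hk1]

end main

end Cfsg.Agent.Lib.Helper2.PermChar
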