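import Mathlib
import Cfsg.Agent.Lib.Helper5.AltForm2

set_option autoImplicit false

namespace Cfsg.Agent.Lib.Helper2

namespace PermSymp

open Module

/-- the ground field -/
abbrev K := ZMod 2

variable (m : ℕ) [NeZero m]

/-- the ambient space -/
abbrev V := Fin m → K

/-- the sum functional -/
def s : V m →ₗ[K] K where
  toFun x := ∑ i, x i
  map_add' x y := by simp [Finset.sum_add_distrib]
  map_smul' c x := by simp [Finset.mul_sum]

/-- the first coordinate -/
def z : V m →ₗ[K] K := LinearMap.proj (0 : Fin m)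

/-- the space: sum zero and first coordinate zero -/
def W : Submodule K (V m) := LinearMap.ker (s m) ⊓ LinearMap.ker (z m)

theorem mem_W (x : V m) : x ∈ W m ↔ ∑ i, x i = 0 ∧ x 0 = 0 := by
  unfold W
  rw [Submodule.mem_inf, LinearMap.mem_ker, LinearMap.mem_ker]
  rfl

/-- the twisted permutation action on the ambient space -/
def T (σ : Equiv.Perm (Fin m)) : V m →ₗ[K] V m where
  toFun x := fun i => x (σ⁻¹ i) + x (σ⁻¹ 0)
  map_add' x y := by
    funext i
    simp only [Pi.add_apply]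
    ring
  map_smul' c x := by
    funext i
    simp only [Pi.smul_apply, smul_eq_mul, RingHom.id_apply]
    ring

theorem T_apply (σ : Equiv.Perm (Fin m)) (x : V m) (i : Fin m) :
    T m σ x i = x (σ⁻¹ i) + x (σ⁻¹ 0) := rfl

theorem two_eq_zero (a : K) : a + a = 0 := by
  have : (2 : K) = 0 := by decide
  calc a + a = 2 * a := by ring
    _ = 0 := by rw [this, zero_mul]

theorem even_nsmul {n : ℕ} (hn : Even n) (a : K) : n • a = 0 := by
  obtain ⟨k, rfl⟩ := hn
  rw [add_smul]
  exact two_eq_zero _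

theorem T_mem (hm : Even m) (σ : Equiv.Perm (Fin m)) (x : V m) (hx : x ∈ W m) : T m σ x ∈ W m := by
  rw [mem_W] at hx ⊢
  constructor
  · simp only [T_apply]
    rw [Finset.sum_add_distrib, Finset.sum_const, Finset.card_univ, Fintype.card_fin]
    have h1 : ∑ i, x (σ⁻¹ i) = ∑ i, x i := Equiv.sum_comp (σ⁻¹) x
    rw [h1, hx.1, zero_add]
    exact even_nsmul hm _
  · rw [T_apply]
    exact two_eq_zero _

theorem T_one (x : V m) : T m 1 x = x + fun _ => x 0 := by
  funext i
  simp [T_apply]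

theorem T_mul (σ τ : Equiv.Perm (Fin m)) (x : V m) : T m (σ * τ) x = T m σ (T m τ x) := by
  funext i
  simp only [T_apply, mul_inv_rev, Equiv.Perm.coe_mul, Function.comp_apply]
  have := two_eq_zero (x (τ⁻¹ 0))
  calc x (τ⁻¹ (σ⁻¹ i)) + x (τ⁻¹ (σ⁻¹ 0))
      = x (τ⁻¹ (σ⁻¹ i)) + x (τ⁻¹ (σ⁻¹ 0)) + (x (τ⁻¹ 0) + x (τ⁻¹ 0)) := by rw [this, add_zero]
    _ = x (τ⁻¹ (σ⁻¹ i)) + x (τ⁻¹ 0) + (x (τ⁻¹ (σ⁻¹ 0)) + x (τ⁻¹ 0)) := by ring

/-- the representation on `W` -/
def ρ (hm : Even m) : Equiv.Perm (Fin m) →* Module.End K (W m) where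
  toFun σ := (T m σ).restrict (fun x hx => T_mem m hm σ x hx)
  map_one' := by
    ext x i
    simp only [LinearMap.restrict_apply, Module.End.one_apply]
    rw [T_one, Pi.add_apply, ((mem_W m _).mp x.2).2, add_zero]
  map_mul' σ τ := by
    ext x i
    simp only [LinearMap.restrict_apply, Module.End.mul_apply]
    rw [T_mul]

theorem ρ_apply (hm : Even m) (σ : Equiv.Perm (Fin m)) (x : W m) (i : Fin m) :
    ((ρ m hm σ x : W m) : V m) i = (x : V m) (σ⁻¹ i) + (x : V m) (σ⁻¹ 0) := rfl

/-- the form -/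
def B : LinearMap.BilinForm K (W m) :=
  LinearMap.mk₂ K (fun x y => ∑ i, (x : V m) i * (y : V m) i)
    (by intro x y w; simp [add_mul, Finset.sum_add_distrib])
    (by intro c x y; simp [Finset.mul_sum, mul_assoc])
    (by intro x y w; simp [mul_add, Finset.sum_add_distrib])
    (by intro c x y; simp [Finset.mul_sum, mul_left_comm])

theorem B_apply (x y : W m) : B m x y = ∑ i, (x : V m) i * (y : V m) i := rfl

theorem sq_eq (a : K) : a * a = a := by
  revert a; decide

theorem B_alt : (B m).IsAlt := by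
  intro x
  rw [B_apply]
  simp only [sq_eq]
  exact ((mem_W m _).mp x.2).1

theorem B_pres (hm : Even m) (σ : Equiv.Perm (Fin m)) (x y : W m) :
    B m (ρ m hm σ x) (ρ m hm σ y) = B m x y := by
  rw [B_apply, B_apply]
  simp only [ρ_apply]
  have hx := (mem_W m _).mp x.2
  have hy := (mem_W m _).mp y.2
  set a := (x : V m) (σ⁻¹ 0) with ha
  set b := (y : V m) (σ⁻¹ 0) with hb
  have e1 : ∀ i, ((x : V m) (σ⁻¹ i) + a) * ((y : V m) (σ⁻¹ i) + b) =
      (x : V m) (σ⁻¹ i) * (y : V m) (σ⁻¹ i) + b * (x : V m) (σ⁻¹ i) + a * (y : V m) (σ⁻¹ i) +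
        a * b := by
    intro i; ring
  simp only [e1]
  rw [Finset.sum_add_distrib, Finset.sum_add_distrib, Finset.sum_add_distrib, ← Finset.mul_sum,
    ← Finset.mul_sum]
  have h1 : ∑ i, (x : V m) (σ⁻¹ i) = 0 := by rw [Equiv.sum_comp (σ⁻¹) (x : V m)]; exact hx.1
  have h2 : ∑ i, (y : V m) (σ⁻¹ i) = 0 := by rw [Equiv.sum_comp (σ⁻¹) (y : V m)]; exact hy.1
  have h3 : ∑ i, (x : V m) (σ⁻¹ i) * (y : V m) (σ⁻¹ i) = ∑ i, (x : V m) i * (y : V m) i :=
    Equiv.sum_comp (σ⁻¹) (fun i => (x : V m) i * (y : V m) i)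
  rw [h1, h2, h3, mul_zero, mul_zero, add_zero, add_zero, Finset.sum_const, Finset.card_univ,
    Fintype.card_fin]
  rw [even_nsmul hm, add_zero]

theorem B_nondeg (hm : Even m) (x : W m) (hx : ∀ y : W m, B m x y = 0) : x = 0 := by
  have hxW := (mem_W m _).mp x.2
  apply Subtype.ext
  funext j
  by_cases hj : j = 0
  · rw [hj]; exact hxW.2
  · -- test vector `𝟙 + e₀ + e_j`
    set y : V m := fun i => 1 + (if i = 0 then 1 else 0) + (if i = j then 1 else 0) with hy
    have hyW : y ∈ W m := by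
      rw [mem_W]
      constructor
      · simp only [hy]
        rw [Finset.sum_add_distrib, Finset.sum_add_distrib, Finset.sum_ite_eq' Finset.univ (0 : Fin m),
          Finset.sum_ite_eq' Finset.univ j, Finset.sum_const, Finset.card_univ, Fintype.card_fin]
        simp only [Finset.mem_univ, if_true]
        rw [even_nsmul hm, zero_add]
        exact two_eq_zero 1
      · simp only [hy, if_true, if_neg (Ne.symm hj), add_zero]
        exact two_eq_zero 1
    have h1 := hx ⟨y, hyW⟩
    rw [B_apply] at h1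
    simp only [hy] at h1
    have e1 : ∀ i : Fin m, (x : V m) i * (1 + (if i = 0 then 1 else 0) + (if i = j then 1 else 0)) =
        (x : V m) i + (if i = 0 then (x : V m) i else 0) + (if i = j then (x : V m) i else 0) := by
      intro i
      split_ifs <;> ring
    simp only [e1] at h1
    rw [Finset.sum_add_distrib, Finset.sum_add_distrib, Finset.sum_ite_eq' Finset.univ (0 : Fin m),
      Finset.sum_ite_eq' Finset.univ j] at h1
    simp only [Finset.mem_univ, if_true] at h1
    rw [hxW.1, hxW.2, zero_add, zero_add] at h1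
    exact h1

theorem finrank_W (hm2 : 2 ≤ m) : finrank K (W m) = m - 2 := by
  have hker : W m = LinearMap.ker ((s m).prod (z m)) := by
    rw [LinearMap.ker_prod]; rfl
  have hsurj : Function.Surjective ((s m).prod (z m)) := by
    rintro ⟨a, b⟩
    have h1m : (1 : ℕ) < m := by omega
    set i₁ : Fin m := ⟨1, h1m⟩ with hi₁
    have hi₁0 : i₁ ≠ 0 := by
      intro h
      have := congrArg Fin.val h
      simp [hi₁] at this
    refine ⟨Pi.single 0 b + Pi.single i₁ (a - b), ?_⟩
    apply Prod.ext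
    · show ∑ i, (Pi.single 0 b + Pi.single i₁ (a - b) : V m) i = a
      simp only [Pi.add_apply]
      rw [Finset.sum_add_distrib, Finset.sum_pi_single', Finset.sum_pi_single']
      simp
    · show (Pi.single 0 b + Pi.single i₁ (a - b) : V m) 0 = b
      rw [Pi.add_apply, Pi.single_eq_same, Pi.single_eq_of_ne (Ne.symm hi₁0), add_zero]
  have h1 := LinearMap.finrank_range_add_finrank_ker ((s m).prod (z m))
  rw [LinearMap.range_eq_top.mpr hsurj, finrank_top, Module.finrank_prod, Module.finrank_self,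
    Module.finrank_fin_fun, ← hker] at h1
  omega

theorem ρ_injective (hm : Even m) (hm5 : 5 ≤ m) : Function.Injective (ρ m hm) := by
  classical
  rw [← MonoidHom.ker_eq_bot_iff]
  by_contra hne
  have hnt : Nontrivial (ρ m hm).ker := (Subgroup.nontrivial_iff_ne_bot _).mpr hne
  have hle := Equiv.Perm.alternatingGroup_le_of_normal (α := Fin m) (by simpa using hm5) hnt
  set a : Fin m := ⟨1, by omega⟩ with ha
  set b : Fin m := ⟨2, by omega⟩ with hb
  set c : Fin m := ⟨3, by omega⟩ with hc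
  set d : Fin m := ⟨4, by omega⟩ with hd
  have hne' : ∀ (u v : ℕ) (hu : u < m) (hv : v < m), u ≠ v → (⟨u, hu⟩ : Fin m) ≠ ⟨v, hv⟩ := by
    intro u v hu hv huv h
    exact huv (congrArg Fin.val h)
  have h0 : ∀ (u : ℕ) (hu : u < m), u ≠ 0 → (⟨u, hu⟩ : Fin m) ≠ 0 := by
    intro u hu hu0 h
    have := congrArg Fin.val h
    simp at this
    exact hu0 this
  have hab : a ≠ b := hne' 1 2 _ _ (by omega)
  have hac : a ≠ c := hne' 1 3 _ _ (by omega)
  have hbc : b ≠ c := hne' 2 3 _ _ (by omega)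
  have had : a ≠ d := hne' 1 4 _ _ (by omega)
  have hbd : b ≠ d := hne' 2 4 _ _ (by omega)
  have hcd : c ≠ d := hne' 3 4 _ _ (by omega)
  have ha0 : a ≠ 0 := h0 1 _ (by omega)
  have hb0 : b ≠ 0 := h0 2 _ (by omega)
  have hc0 : c ≠ 0 := h0 3 _ (by omega)
  have hd0 : d ≠ 0 := h0 4 _ (by omega)
  set σ : Equiv.Perm (Fin m) := Equiv.swap a b * Equiv.swap b c with hσ
  have hσA : σ ∈ alternatingGroup (Fin m) := by
    rw [Equiv.Perm.mem_alternatingGroup, hσ, Equiv.Perm.sign_mul, Equiv.Perm.sign_swap hab,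
      Equiv.Perm.sign_swap hbc]
    rfl
  have hσker := hle hσA
  rw [MonoidHom.mem_ker] at hσker
  -- the test vector `e_a + e_d`
  set x : V m := fun i => (if i = a then 1 else 0) + (if i = d then 1 else 0) with hx
  have hxW : x ∈ W m := by
    rw [mem_W]
    constructor
    · simp only [hx]
      rw [Finset.sum_add_distrib, Finset.sum_ite_eq' Finset.univ a, Finset.sum_ite_eq' Finset.univ d]
      simp only [Finset.mem_univ, if_true]
      exact two_eq_zero 1
    · simp only [hx, if_neg (Ne.symm ha0), if_neg (Ne.symm hd0), add_zero]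
  have h1 := congrArg (fun f : Module.End K (W m) => ((f ⟨x, hxW⟩ : W m) : V m) b) hσker
  simp only [ρ_apply, Module.End.one_apply] at h1
  have hσb : σ⁻¹ b = a := by
    rw [Equiv.Perm.inv_eq_iff_eq, hσ, Equiv.Perm.mul_apply, Equiv.swap_apply_of_ne_of_ne hab hac,
      Equiv.swap_apply_left]
  have hσ0 : σ⁻¹ 0 = 0 := by
    rw [Equiv.Perm.inv_eq_iff_eq, hσ, Equiv.Perm.mul_apply,
      Equiv.swap_apply_of_ne_of_ne (Ne.symm hb0) (Ne.symm hc0),
      Equiv.swap_apply_of_ne_of_ne (Ne.symm ha0) (Ne.symm hb0)]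
  rw [hσb, hσ0] at h1
  simp only [hx, if_true, if_neg had, if_neg (Ne.symm ha0), if_neg (Ne.symm hd0),
    if_neg (Ne.symm hab), if_neg hbd, add_zero] at h1
  exact one_ne_zero h1

end PermSymp

end Cfsg.Agent.Lib.Helper2
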