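import Mathlib
import Cfsg.Agent.Lib.Helper2.PhiDiag
import Cfsg.Agent.Lib.Helper1.DiagForm1

set_option autoImplicit false

/-!
# The diagonal form `wss w` as a `QuadraticForm`, and `Ω = ker Phi` for it

Glue for the `S4629`–`S4631` swarm: helper1's `DiagForm.wss w` is the coercion of
`wssForm w : QuadraticForm F (ι → F)`; all lemmas of `PhiDiag` are specialised to it.
-/

namespace Cfsg.Agent.Lib.Helper2

namespace PhiWss

open Matrix Cfsg.Agent.Lib.Helper2.ReflGen Cfsg.Agent.Lib.Helper2.CDG Cfsg.Agent.Lib.Helper2.Spinor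
open Cfsg.Agent.Lib.Helper1

variable {F : Type*} [Field F] {ι : Type} [Fintype ι]

/-- the weighted sum of squares as a quadratic form -/
noncomputable def wssForm (w : ι → F) : QuadraticForm F (ι → F) :=
  QuadraticMap.weightedSumSquares F w

theorem wssForm_apply (w : ι → F) (v : ι → F) : wssForm w v = ∑ i, w i * (v i * v i) := by
  unfold wssForm
  rw [QuadraticMap.weightedSumSquares_apply]
  apply Finset.sum_congr rfl
  intro i _
  rw [smul_eq_mul]

theorem wssForm_coe (w : ι → F) : ⇑(wssForm w) = DiagForm.wss w := by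
  funext v
  rw [wssForm_apply]
  unfold DiagForm.wss
  apply Finset.sum_congr rfl
  intro i _
  rw [pow_two]

theorem isometryGroup_wss (w : ι → F) [DecidableEq ι] :
    Cfsg.isometryGroup F (DiagForm.wss w) = Cfsg.isometryGroup F ⇑(wssForm w) := by
  rw [wssForm_coe]

theorem wssForm_nondeg [DecidableEq ι] (h2 : (2 : F) ≠ 0) (w : ι → F) (hw : ∀ i, w i ≠ 0) :
    (QuadraticMap.polarBilin (wssForm w)).Nondegenerate := by
  have hleft : ∀ u : ι → F,
      (∀ v, QuadraticMap.polar (⇑(wssForm w)) u v = 0) → u = 0 := by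
    intro u hu
    funext j
    have h := hu (Pi.single j 1)
    rw [PhiDiag.polar_diag (wssForm_apply w), Finset.sum_eq_single j] at h
    · rw [Pi.single_eq_same, mul_one] at h
      rcases mul_eq_zero.1 h with h | h
      · exact absurd h h2
      · rcases mul_eq_zero.1 h with h | h
        · exact absurd h (hw j)
        · exact h
    · intro i _ hij
      rw [Pi.single_eq_of_ne hij, mul_zero, mul_zero]
    · intro h'
      exact absurd (Finset.mem_univ _) h'
  constructor
  · intro u hu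
    exact hleft u hu
  · intro v hv
    apply hleft v
    intro u
    rw [QuadraticMap.polar_comm]
    exact hv u

variable [Fintype F] [DecidableEq F] [DecidableEq ι]

/-- `Ω` of the diagonal form is the kernel of `Phi` -/
theorem mem_commutator_iff (h2 : (2 : F) ≠ 0) (w : ι → F) (hw : ∀ i, w i ≠ 0)
    (hn : 2 ≤ Fintype.card ι) (g : ↥(Cfsg.isometryGroup F ⇑(wssForm w))) :
    g ∈ commutator ↥(Cfsg.isometryGroup F ⇑(wssForm w)) ↔ Phi (wssForm w) g = 1 :=
  Spinor.mem_commutator_iff h2 (wssForm_nondeg h2 w hw) hn g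

/-- `Phi` of a coordinate swap -/
theorem Phi_of_swap (h2 : (2 : F) ≠ 0) (w : ι → F) {a b : ι} (hab : a ≠ b) (hc : w a = w b)
    (hca : w a ≠ 0) (g : ↥(Cfsg.isometryGroup F ⇑(wssForm w)))
    (hg : ∀ x : ι → F, ((g : Matrix.GeneralLinearGroup ι F) : Matrix ι ι F) *ᵥ x =
      fun i => x (Equiv.swap a b i)) :
    Phi (wssForm w) g = (-1, if ∃ t : F, t * t * (2 * w a) = 1 then -1 else 1) :=
  PhiDiag.Phi_of_swap (wssForm_apply w) h2 hab hc hca g hg

/-- `Phi` of a coordinate sign change -/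
theorem Phi_of_neg (h2 : (2 : F) ≠ 0) (w : ι → F) {l : ι} (hcl : w l ≠ 0)
    (g : ↥(Cfsg.isometryGroup F ⇑(wssForm w)))
    (hg : ∀ x : ι → F, ((g : Matrix.GeneralLinearGroup ι F) : Matrix ι ι F) *ᵥ x =
      Function.update x l (- x l)) :
    Phi (wssForm w) g = (-1, if ∃ t : F, t * t * w l = 1 then -1 else 1) :=
  PhiDiag.Phi_of_neg (wssForm_apply w) h2 hcl g hg

/-- a product of two coordinate swaps with coefficients in the same square class lies in the
kernel of `Phi` -/
theorem Phi_of_swap_swap (h2 : (2 : F) ≠ 0) (w : ι → F) {a b a' b' : ι} (hab : a ≠ b)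
    (hc : w a = w b) (hca : w a ≠ 0) (hab' : a' ≠ b') (hc' : w a' = w b') (hca' : w a' ≠ 0)
    (hcl : ∃ t : F, w a' = t * t * w a)
    (g : ↥(Cfsg.isometryGroup F ⇑(wssForm w)))
    (hg : ∀ x : ι → F, ((g : Matrix.GeneralLinearGroup ι F) : Matrix ι ι F) *ᵥ x =
      fun i => x (Equiv.swap a b (Equiv.swap a' b' i))) :
    Phi (wssForm w) g = 1 :=
  PhiDiag.Phi_of_swap_swap (wssForm_apply w) h2 hab hc hca hab' hc' hca' hcl g hg

/-- block permutations lie in the kernel of `Phi` -/
theorem Phi_block_perm (h2 : (2 : F) ≠ 0) (w : ι → F) {κ : Type*} [DecidableEq κ] [Finite κ]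
    (p q : κ → ι) (hp : Function.Injective p) (hq : Function.Injective q)
    (hcp : ∀ i j, w (p i) = w (p j)) (hcq : ∀ i j, w (q i) = w (q j))
    (hne : ∀ i, w (p i) ≠ 0) (hne' : ∀ i, w (q i) ≠ 0)
    (hcl : ∀ i, ∃ t : F, w (q i) = t * t * w (p i))
    (φ : Equiv.Perm κ →* ↥(Cfsg.isometryGroup F ⇑(wssForm w)))
    (hφ : ∀ i j : κ, i ≠ j → ∀ x : ι → F,
      ((φ (Equiv.swap i j) : Matrix.GeneralLinearGroup ι F) : Matrix ι ι F) *ᵥ x =
        fun l => x (Equiv.swap (p i) (p j) (Equiv.swap (q i) (q j) l)))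
    (t : Equiv.Perm κ) : Phi (wssForm w) (φ t) = 1 :=
  PhiDiag.Phi_block_perm (wssForm_apply w) h2 p q hp hq hcp hcq hne hne' hcl φ hφ t

end PhiWss

end Cfsg.Agent.Lib.Helper2
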