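import Mathlib
import Cfsg.Prelude.Def_Perm
import Cfsg.Agent.S0674
import Cfsg.Agent.Lib.Helper2.PrimeDeg1

set_option autoImplicit false
set_option linter.style.haveILetI false
set_option linter.unusedSectionVars false

/-!
# Transitive groups of prime degree with Sylow normalizer of even order: no equivariant maps from
the heart to the module of pairs
-/

namespace Cfsg.Agent.Lib.Helper2.PrimeDeg

open MulAction Cfsg

variable {p : ℕ} [Fact p.Prime] {α : Type*} [Fintype α] [DecidableEq α]

theorem sum_zmod (hp2 : p ≠ 2) : ∑ j : ZMod p, j = 0 := by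
  have hp : p.Prime := Fact.out
  have h1 : ∑ j : ZMod p, j = ∑ j : ZMod p, -j :=
    (Fintype.sum_equiv (Equiv.neg (ZMod p)) _ _ (fun j => rfl)).symm
  rw [Finset.sum_neg_distrib] at h1
  have h2 : (2 : ZMod p) * ∑ j : ZMod p, j = 0 := by
    rw [two_mul]
    nth_rewrite 1 [h1]
    rw [neg_add_cancel]
  have h3 : (2 : ZMod p) ≠ 0 := by
    intro h
    have h4 : ((2 : ℕ) : ZMod p) = 0 := by exact_mod_cast h
    rw [ZMod.natCast_eq_zero_iff] at h4
    have := Nat.le_of_dvd (by norm_num) h4
    have := hp.two_le
    omega
  exact (mul_eq_zero.mp h2).resolve_left h3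

theorem two_ne_zero_zmod (hp2 : p ≠ 2) : (2 : ZMod p) ≠ 0 := by
  have hp : p.Prime := Fact.out
  intro h
  have h4 : ((2 : ℕ) : ZMod p) = 0 := by exact_mod_cast h
  rw [ZMod.natCast_eq_zero_iff] at h4
  have := Nat.le_of_dvd (by norm_num) h4
  have := hp.two_le
  omega

/-- the key vanishing statement -/
theorem inter_zero (hα : Fintype.card α = p) (hp2 : p ≠ 2) (G : Subgroup (Equiv.Perm α))
    [IsPretransitive G α] (hG : ¬ Group.IsSolvable G) {σ t : Equiv.Perm α} {e : ZMod p ≃ α}
    (hσG : σ ∈ G) (htG : t ∈ G) (htt : t * t = 1) (hσe : ∀ j, σ (e j) = e (j + 1))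
    (hte : ∀ j, t (e j) = e (-j))
    (f : Representation.IntertwiningMap (permSumZero (ZMod p) G α).toRepresentation
      (permRep (ZMod p) G (Set.powersetCard α 2)))
    (hf : ∀ v : (permSumZero (ZMod p) G α).toSubmodule,
      (v : α → ZMod p) ∈ (permConstants (ZMod p) G α).toSubmodule → f v = 0) : f = 0 := by
  classical
  have hp : p.Prime := Fact.out
  have h2ne := two_ne_zero_zmod (p := p) hp2
  -- constants have sum zero
  have hconst_sz : (permConstants (ZMod p) G α).toSubmodule
      ≤ (permSumZero (ZMod p) G α).toSubmodule := by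
    intro v hv
    obtain ⟨c, rfl⟩ := Submodule.mem_span_singleton.mp hv
    show ∑ x : α, (c • (fun _ : α => (1 : ZMod p))) x = 0
    simp only [Pi.smul_apply, smul_eq_mul, mul_one, Finset.sum_const, Finset.card_univ, hα]
    rw [nsmul_eq_mul, ZMod.natCast_self, zero_mul]
  -- the kernel as a subrepresentation
  let W : Subrepresentation (permRep (ZMod p) G α) :=
    { toSubmodule := (LinearMap.ker f.toLinearMap).map
        (permSumZero (ZMod p) G α).toSubmodule.subtype
      apply_mem_toSubmodule := by
        rintro g v ⟨v', hv', rfl⟩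
        refine ⟨(permSumZero (ZMod p) G α).toRepresentation g v', ?_, rfl⟩
        have hv'' : f v' = 0 := hv'
        show f ((permSumZero (ZMod p) G α).toRepresentation g v') = 0
        rw [Representation.IntertwiningMap.isIntertwining _ _ f g v', hv'', map_zero] }
  have hWmem : ∀ v : α → ZMod p, v ∈ W.toSubmodule ↔
      ∃ h : v ∈ (permSumZero (ZMod p) G α).toSubmodule, f ⟨v, h⟩ = 0 := by
    intro v
    constructor
    · rintro ⟨v', hv', rfl⟩
      exact ⟨v'.2, hv'⟩
    · rintro ⟨h, hv⟩
      exact ⟨⟨v, h⟩, hv, rfl⟩
  have h₁ : (permConstants (ZMod p) G α).toSubmodule ≤ W.toSubmodule := by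
    intro v hv
    rw [hWmem]
    exact ⟨hconst_sz hv, hf ⟨v, hconst_sz hv⟩ hv⟩
  have h₂ : W.toSubmodule ≤ (permSumZero (ZMod p) G α).toSubmodule := by
    intro v hv
    exact ((hWmem v).mp hv).1
  rcases Cfsg.Agent.S0674.result hα G hG W h₁ h₂ with hW | hW
  · exfalso
    -- the coordinate function
    let v₀ : α → ZMod p := fun x => e.symm x
    have hv₀sz : v₀ ∈ (permSumZero (ZMod p) G α).toSubmodule := by
      show ∑ x : α, e.symm x = 0
      rw [Fintype.sum_equiv e.symm (fun x => e.symm x) (fun j => j) (fun x => rfl)]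
      exact sum_zmod hp2
    set v₀' : (permSumZero (ZMod p) G α).toSubmodule := ⟨v₀, hv₀sz⟩ with hv₀'
    set F := f v₀' with hF
    let σG : G := ⟨σ, hσG⟩
    let tG : G := ⟨t, htG⟩
    have hσinv : ∀ x : α, σ⁻¹ x = e (e.symm x - 1) := by
      intro x
      rw [Equiv.Perm.inv_def, Equiv.symm_apply_eq, hσe, sub_add_cancel, Equiv.apply_symm_apply]
    have htinv : t⁻¹ = t := inv_eq_of_mul_eq_one_right htt
    -- the action on the coordinate function
    have h1 : ((permSumZero (ZMod p) G α).toRepresentation σG v₀' : α → ZMod p)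
        = v₀ + (-1 : ZMod p) • (fun _ : α => (1 : ZMod p)) := by
      funext x
      show v₀ (σG⁻¹ • x) = v₀ x + (-1 : ZMod p) • (1 : ZMod p)
      show e.symm (σ⁻¹ x) = e.symm x + (-1 : ZMod p) • (1 : ZMod p)
      rw [hσinv, Equiv.symm_apply_apply, smul_eq_mul, mul_one, sub_eq_add_neg]
    have h2 : ((permSumZero (ZMod p) G α).toRepresentation tG v₀' : α → ZMod p) = -v₀ := by
      funext x
      show v₀ (tG⁻¹ • x) = -v₀ x
      show e.symm (t⁻¹ x) = -e.symm x
      rw [htinv]
      obtain ⟨j, rfl⟩ := e.surjective x
      rw [hte, Equiv.symm_apply_apply, Equiv.symm_apply_apply]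
    -- invariance of `F`
    have hFσ : permRep (ZMod p) G (Set.powersetCard α 2) σG F = F := by
      rw [hF, ← Representation.IntertwiningMap.isIntertwining _ _ f]
      have h3 : (permSumZero (ZMod p) G α).toRepresentation σG v₀' - v₀' ∈
          LinearMap.ker f.toLinearMap := by
        rw [LinearMap.mem_ker, Representation.IntertwiningMap.toLinearMap_apply]
        apply hf
        have : (((permSumZero (ZMod p) G α).toRepresentation σG v₀' - v₀' :
            (permSumZero (ZMod p) G α).toSubmodule) : α → ZMod p)
            = (-1 : ZMod p) • (fun _ : α => (1 : ZMod p)) := by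
          rw [Submodule.coe_sub, h1]
          show v₀ + (-1 : ZMod p) • (fun _ : α => (1 : ZMod p)) - v₀ = _
          rw [add_sub_cancel_left]
        rw [this]
        exact Submodule.smul_mem _ _ (Submodule.mem_span_singleton_self _)
      rw [LinearMap.mem_ker, Representation.IntertwiningMap.toLinearMap_apply, map_sub,
        sub_eq_zero] at h3
      exact h3
    have hFt : permRep (ZMod p) G (Set.powersetCard α 2) tG F = -F := by
      rw [hF, ← Representation.IntertwiningMap.isIntertwining _ _ f]
      have : (permSumZero (ZMod p) G α).toRepresentation tG v₀' = -v₀' := by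
        apply Subtype.ext
        rw [h2]
        rfl
      rw [this, map_neg]
    -- invariance under powers of the cycle
    have hFσ' : ∀ s : Set.powersetCard α 2, F (σG • s) = F s := by
      intro s
      have := congrFun hFσ (σG • s)
      have h4 : permRep (ZMod p) G (Set.powersetCard α 2) σG F (σG • s) = F (σG⁻¹ • σG • s) :=
        rfl
      rw [h4, inv_smul_smul] at this
      exact this.symm
    have hFpow : ∀ (n : ℕ) (s : Set.powersetCard α 2), F (σG ^ n • s) = F s := by
      intro n
      induction n with
      | zero => intro s; rw [pow_zero, one_smul]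
      | succ n ih =>
        intro s
        rw [pow_succ', mul_smul, hFσ', ih]
    have hσpow : ∀ (n : ℕ) (x : α), (σG ^ n) • x = (σ ^ n) x := by
      intro n x
      rfl
    -- the involution fixes the orbits on pairs
    have hFt' : permRep (ZMod p) G (Set.powersetCard α 2) tG F = F := by
      funext s
      show F (tG⁻¹ • s) = F s
      obtain ⟨x, y, hxy, hs⟩ := Finset.card_eq_two.mp s.2
      set n : ℕ := (-(e.symm x + e.symm y)).val with hn
      have hcast : ((n : ℕ) : ZMod p) = -(e.symm x + e.symm y) := by
        rw [hn, ZMod.natCast_zmod_val]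
      have key : tG⁻¹ • s = σG ^ n • s := by
        apply Subtype.ext
        have c1 := Set.powersetCard.coe_smul (g := tG⁻¹) (s := s)
        have c2 := Set.powersetCard.coe_smul (g := σG ^ n) (s := s)
        refine c1.trans (Eq.trans ?_ c2.symm)
        have hs' : (s : Finset α) = {x, y} := hs
        rw [hs', Finset.smul_finset_insert, Finset.smul_finset_singleton,
          Finset.smul_finset_insert, Finset.smul_finset_singleton, hσpow, hσpow]
        have e1 : tG⁻¹ • x = e (-(e.symm x)) := by
          show t⁻¹ x = _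
          rw [htinv]
          conv_lhs => rw [← e.apply_symm_apply x]
          rw [hte]
        have e2 : tG⁻¹ • y = e (-(e.symm y)) := by
          show t⁻¹ y = _
          rw [htinv]
          conv_lhs => rw [← e.apply_symm_apply y]
          rw [hte]
        have e3 : (σ ^ n) x = e (-(e.symm y)) := by
          conv_lhs => rw [← e.apply_symm_apply x]
          rw [coord_pow hσe, hcast]
          congr 1
          ring
        have e4 : (σ ^ n) y = e (-(e.symm x)) := by
          conv_lhs => rw [← e.apply_symm_apply y]
          rw [coord_pow hσe, hcast]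
          congr 1
          ring
        rw [e1, e2, e3, e4, Finset.pair_comm]
      rw [key, hFpow]
    have hF0 : F = 0 := by
      have h5 : F = -F := hFt'.symm.trans hFt
      funext s
      have h6 := congrFun h5 s
      rw [Pi.neg_apply] at h6
      have h7 : (2 : ZMod p) * F s = 0 := by
        rw [two_mul]
        nth_rewrite 1 [h6]
        rw [neg_add_cancel]
      exact (mul_eq_zero.mp h7).resolve_left h2ne
    have hv₀W : v₀ ∈ W.toSubmodule := (hWmem v₀).mpr ⟨hv₀sz, hF0⟩
    rw [hW] at hv₀W
    obtain ⟨c, hc⟩ := Submodule.mem_span_singleton.mp hv₀W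
    have h8 := congrFun hc (e 0)
    have h9 := congrFun hc (e 1)
    have h10 : v₀ (e 0) = v₀ (e 1) := by rw [← h8, ← h9]; rfl
    have h11 : (0 : ZMod p) = 1 := by
      have : e.symm (e 0) = e.symm (e 1) := h10
      rwa [Equiv.symm_apply_apply, Equiv.symm_apply_apply] at this
    haveI : Nontrivial (ZMod p) := ZMod.nontrivial_iff.mpr hp.one_lt.ne'
    exact zero_ne_one h11
  · apply Representation.IntertwiningMap.ext
    apply LinearMap.ext
    intro v
    have hv : (v : α → ZMod p) ∈ W.toSubmodule := by
      rw [hW]
      exact v.2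
    obtain ⟨h, hv'⟩ := (hWmem _).mp hv
    exact hv'

end Cfsg.Agent.Lib.Helper2.PrimeDeg
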