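import Mathlib
import Cfsg.Agent.Lib.Helper2.PrimeDeg3

set_option autoImplicit false
set_option linter.style.haveILetI false
set_option linter.unusedSectionVars false

/-!
# Doubly transitive groups of prime degree with Sylow normalizer of even order: subgroups of index
`p` containing the inverting involution fix a point
-/

namespace Cfsg.Agent.Lib.Helper2.PrimeDeg

open MulAction

variable {p : ℕ} [Fact p.Prime] {α : Type*} [Fintype α] [DecidableEq α]

theorem two_trans_case (hα : Fintype.card α = p) (hp2 : p ≠ 2) (G : Subgroup (Equiv.Perm α))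
    [IsPretransitive G α] (h2t : IsMultiplyPretransitive G α 2)
    {σ t : Equiv.Perm α} {e : ZMod p ≃ α}
    (hσG : σ ∈ G) (htG : t ∈ G) (hσe : ∀ j, σ (e j) = e (j + 1))
    (hte : ∀ j, t (e j) = e (-j)) (H : Subgroup G) (hH : H.index = p)
    (htH : (⟨t, htG⟩ : G) ∈ H) : H ≤ stabilizer G (e 0) := by
  classical
  have hp : p.Prime := Fact.out
  haveI : Fintype G := Fintype.ofFinite G
  haveI : Fintype H := Fintype.ofFinite H
  have hnd := not_dvd_card_of_index G hα H hH
  set σG : G := ⟨σ, hσG⟩ with hσGdef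
  set tG : G := ⟨t, htG⟩ with htGdef
  have hσpow : ∀ (n : ℕ) (x : α), (σG ^ n) • x = (σ ^ n) x := fun n x => rfl
  -- the orbit of the base point
  set O : Finset α := Finset.univ.filter (fun x => ∃ h ∈ H, (h : G) • (e 0) = x) with hOdef
  have hOmem : ∀ x, x ∈ O ↔ ∃ h ∈ H, (h : G) • (e 0) = x := by
    intro x
    rw [hOdef, Finset.mem_filter]
    simp only [Finset.mem_univ, true_and]
  have hOinv : ∀ h ∈ H, ∀ x, h • x ∈ O ↔ x ∈ O := by
    intro h hh x
    rw [hOmem, hOmem]
    constructor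
    · rintro ⟨k, hk, hkx⟩
      refine ⟨h⁻¹ * k, H.mul_mem (H.inv_mem hh) hk, ?_⟩
      rw [mul_smul, hkx, inv_smul_smul]
    · rintro ⟨k, hk, hkx⟩
      refine ⟨h * k, H.mul_mem hh hk, ?_⟩
      rw [mul_smul, hkx]
  set D : Finset (ZMod p) := Finset.univ.filter (fun j => e j ∈ O) with hDdef
  have hDmem : ∀ j, j ∈ D ↔ e j ∈ O := by
    intro j
    rw [hDdef, Finset.mem_filter]
    simp only [Finset.mem_univ, true_and]
  have hD0 : (0 : ZMod p) ∈ D := by
    rw [hDmem, hOmem]
    exact ⟨1, H.one_mem, one_smul _ _⟩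
  have hDsymm : ∀ j ∈ D, -j ∈ D := by
    intro j hj
    rw [hDmem] at hj ⊢
    have h1 : tG • (e j) = e (-j) := hte j
    rw [← h1]
    exact (hOinv tG htH _).mpr hj
  -- counting
  let K : α → α → ℕ := fun x y => (Finset.univ.filter (fun c : ZMod p =>
    (σG ^ c.val)⁻¹ • x ∈ O ∧ (σG ^ c.val)⁻¹ • y ∈ O)).card
  let M : α → α → ℕ := fun x y => (Finset.univ.filter (fun g : G =>
    g⁻¹ • x ∈ O ∧ g⁻¹ • y ∈ O)).card
  -- the decomposition of the group
  let φ : ZMod p × H → G := fun ch => σG ^ ch.1.val * (ch.2 : G)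
  have hσord : σG ^ p = 1 := by
    apply Subtype.ext
    apply Equiv.ext
    intro x
    obtain ⟨j, rfl⟩ := e.surjective x
    show (σ ^ p) (e j) = e j
    rw [coord_pow hσe, ZMod.natCast_self, add_zero]
  have hφinj : Function.Injective φ := by
    rintro ⟨c, h⟩ ⟨c', h'⟩ heq
    have heq' : σG ^ c.val * (h : G) = σG ^ c'.val * (h' : G) := heq
    have hcc : c = c' := by
      by_contra hne
      -- a power of the cycle lies in `H`
      have h1 : (σG ^ c'.val)⁻¹ * σG ^ c.val = (h' : G) * (h : G)⁻¹ := by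
        calc (σG ^ c'.val)⁻¹ * σG ^ c.val
            = (σG ^ c'.val)⁻¹ * (σG ^ c.val * (h : G)) * (h : G)⁻¹ := by group
          _ = (σG ^ c'.val)⁻¹ * (σG ^ c'.val * (h' : G)) * (h : G)⁻¹ := by rw [heq']
          _ = (h' : G) * (h : G)⁻¹ := by group
      have h2 : (σG ^ c'.val)⁻¹ * σG ^ c.val ∈ H := by
        rw [h1]
        exact H.mul_mem h'.2 (H.inv_mem h.2)
      set u : G := (σG ^ c'.val)⁻¹ * σG ^ c.val with hu
      have hu1 : u ≠ 1 := by
        intro h3
        apply hne
        have h4 : σG ^ c.val = σG ^ c'.val := by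
          calc σG ^ c.val = σG ^ c'.val * u := by rw [hu]; group
            _ = σG ^ c'.val := by rw [h3, mul_one]
        have h5 := congrArg (fun g : G => g • (e 0)) h4
        simp only [hσpow, coord_pow hσe, zero_add, ZMod.natCast_zmod_val] at h5
        exact e.injective h5
      have hup : u ^ p = 1 := by
        have hcomm : Commute ((σG ^ c'.val)⁻¹) (σG ^ c.val) :=
          ((Commute.refl σG).pow_pow c'.val c.val).inv_left
        rw [hu, hcomm.mul_pow, inv_pow, ← pow_mul, ← pow_mul, mul_comm c'.val, mul_comm c.val,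
          pow_mul, pow_mul, hσord, one_pow, one_pow, inv_one, mul_one]
      have hord : orderOf (⟨u, h2⟩ : H) = p := by
        apply orderOf_eq_prime
        · apply Subtype.ext
          rw [Subgroup.coe_pow]
          exact hup
        · intro h3
          exact hu1 (congrArg Subtype.val h3)
      apply hnd
      rw [← hord]
      exact orderOf_dvd_natCard _
    subst hcc
    have : (h : G) = (h' : G) := mul_left_cancel heq'
    rw [Subtype.ext this]
  have hφbij : Function.Bijective φ := by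
    rw [Fintype.bijective_iff_injective_and_card]
    refine ⟨hφinj, ?_⟩
    rw [Fintype.card_prod, ZMod.card]
    have h1 := Subgroup.card_mul_index H
    rw [hH, Nat.card_eq_fintype_card, Nat.card_eq_fintype_card] at h1
    rw [← h1, mul_comm]
  have hMK : ∀ x y, M x y = K x y * Fintype.card H := by
    intro x y
    show (Finset.univ.filter (fun g : G => g⁻¹ • x ∈ O ∧ g⁻¹ • y ∈ O)).card
      = (Finset.univ.filter (fun c : ZMod p =>
        (σG ^ c.val)⁻¹ • x ∈ O ∧ (σG ^ c.val)⁻¹ • y ∈ O)).card * Fintype.card H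
    rw [Finset.card_filter, Finset.card_filter,
      ← Fintype.sum_bijective φ hφbij (fun ch => if ((σG ^ ch.1.val)⁻¹ • x ∈ O ∧
        (σG ^ ch.1.val)⁻¹ • y ∈ O) then 1 else 0)
        (fun g => if (g⁻¹ • x ∈ O ∧ g⁻¹ • y ∈ O) then 1 else 0), Fintype.sum_prod_type,
      Finset.sum_mul]
    · apply Finset.sum_congr rfl
      intro c _
      by_cases hQ : (σG ^ c.val)⁻¹ • x ∈ O ∧ (σG ^ c.val)⁻¹ • y ∈ O
      · simp [hQ]
      · simp [hQ]
    · rintro ⟨c, h⟩
      have h1 : ∀ z : α, (φ (c, h))⁻¹ • z ∈ O ↔ (σG ^ c.val)⁻¹ • z ∈ O := by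
        intro z
        have : (φ (c, h))⁻¹ • z = (h : G)⁻¹ • (σG ^ c.val)⁻¹ • z := by
          show (σG ^ c.val * (h : G))⁻¹ • z = _
          rw [mul_inv_rev, mul_smul]
        rw [this]
        exact hOinv _ (H.inv_mem h.2) _
      simp only [h1]
  have hMinv : ∀ (k : G) (x y : α), M (k • x) (k • y) = M x y := by
    intro k x y
    show (Finset.univ.filter (fun g : G => g⁻¹ • k • x ∈ O ∧ g⁻¹ • k • y ∈ O)).card
      = (Finset.univ.filter (fun g : G => g⁻¹ • x ∈ O ∧ g⁻¹ • y ∈ O)).card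
    rw [Finset.card_filter, Finset.card_filter]
    symm
    apply Fintype.sum_equiv (Equiv.mulLeft k)
    intro g
    have h1 : ∀ z : α, (Equiv.mulLeft k g)⁻¹ • k • z = g⁻¹ • z := by
      intro z
      show (k * g)⁻¹ • k • z = g⁻¹ • z
      rw [mul_inv_rev, mul_smul, inv_smul_smul]
    simp only [h1]
  have hHpos : 0 < Fintype.card H := Fintype.card_pos
  have hKinv : ∀ (k : G) (x y : α), K (k • x) (k • y) = K x y := by
    intro k x y
    have h1 := hMinv k x y
    rw [hMK, hMK] at h1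
    exact Nat.eq_of_mul_eq_mul_right hHpos h1
  -- the count in coordinates
  have hKν : ∀ g : ZMod p, K (e 0) (e g) = (D.filter (fun δ => δ + g ∈ D)).card := by
    intro g
    show (Finset.univ.filter (fun c : ZMod p =>
      (σG ^ c.val)⁻¹ • (e 0) ∈ O ∧ (σG ^ c.val)⁻¹ • (e g) ∈ O)).card = _
    have hinv : ∀ (c j : ZMod p), (σG ^ c.val)⁻¹ • (e j) = e (j - c) := by
      intro c j
      rw [inv_smul_eq_iff, hσpow, coord_pow hσe, ZMod.natCast_zmod_val, sub_add_cancel]
    apply Finset.card_bij (fun c _ => -c)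
    · intro c hc
      rw [Finset.mem_filter] at hc
      rw [hinv, hinv, zero_sub] at hc
      rw [Finset.mem_filter, hDmem, hDmem]
      refine ⟨hc.2.1, ?_⟩
      have : -c + g = g - c := by ring
      rw [this]
      exact hc.2.2
    · intro c _ c' _ h
      exact neg_injective h
    · intro δ hδ
      rw [Finset.mem_filter, hDmem, hDmem] at hδ
      refine ⟨-δ, ?_, neg_neg δ⟩
      rw [Finset.mem_filter, hinv, hinv, zero_sub, neg_neg]
      refine ⟨Finset.mem_univ _, hδ.1, ?_⟩
      have : g - -δ = δ + g := by ring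
      rw [this]
      exact hδ.2
  -- all nonzero differences behave alike
  have hsame : ∀ g g' : ZMod p, g ≠ 0 → g' ≠ 0 →
      (D.filter (fun δ => δ + g ∈ D)).card = (D.filter (fun δ => δ + g' ∈ D)).card := by
    intro g g' hg hg'
    rw [← hKν, ← hKν]
    have h1 : e 0 ≠ e g := fun h => hg (e.injective h).symm
    have h2 : e 0 ≠ e g' := fun h => hg' (e.injective h).symm
    rw [is_two_pretransitive_iff] at h2t
    obtain ⟨k, hk0, hkg⟩ := h2t h1 h2
    calc K (e 0) (e g) = K (k • e 0) (k • e g) := (hKinv k _ _).symm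
      _ = K (e 0) (e g') := by rw [hk0, hkg]
  have h2ne : (2 : ZMod p) ≠ 0 := by
    intro h
    have h4 : ((2 : ℕ) : ZMod p) = 0 := by exact_mod_cast h
    rw [ZMod.natCast_eq_zero_iff] at h4
    have := Nat.le_of_dvd (by norm_num) h4
    have := hp.two_le
    omega
  have hall : ∀ j j' : ZMod p, j ≠ 0 → j' ≠ 0 → j ∈ D → j' ∈ D := by
    intro j j' hj hj' hjD
    have h1 := parity_key hp2 D hDsymm (-(2 * j))
    have h2 := parity_key hp2 D hDsymm (-(2 * j'))
    have e1 : - -(2 * j) * (2 : ZMod p)⁻¹ = j := by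
      rw [neg_neg, mul_comm 2 j, mul_assoc, mul_inv_cancel₀ h2ne, mul_one]
    have e2 : - -(2 * j') * (2 : ZMod p)⁻¹ = j' := by
      rw [neg_neg, mul_comm 2 j', mul_assoc, mul_inv_cancel₀ h2ne, mul_one]
    rw [e1] at h1
    rw [e2] at h2
    have h3 := hsame (-(2 * j)) (-(2 * j')) (neg_ne_zero.mpr (mul_ne_zero h2ne hj))
      (neg_ne_zero.mpr (mul_ne_zero h2ne hj'))
    rw [← h2, ← h3, h1]
    exact hjD
  -- conclusion
  intro h hh
  rw [mem_stabilizer_iff]
  by_contra hne
  obtain ⟨j₁, hj₁⟩ := e.surjective (h • (e 0))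
  have hj₁0 : j₁ ≠ 0 := by
    rintro rfl
    exact hne hj₁.symm
  have hj₁D : j₁ ∈ D := by
    rw [hDmem, hOmem]
    exact ⟨h, hh, hj₁.symm⟩
  have hOall : ∀ x : α, x ∈ O := by
    intro x
    obtain ⟨j, rfl⟩ := e.surjective x
    rw [← hDmem]
    by_cases hj : j = 0
    · rw [hj]
      exact hD0
    · exact hall j₁ j hj₁0 hj hj₁D
  haveI : IsPretransitive H α := by
    refine ⟨fun x y => ?_⟩
    obtain ⟨h₁, hh₁, hx⟩ := (hOmem x).mp (hOall x)
    obtain ⟨h₂, hh₂, hy⟩ := (hOmem y).mp (hOall y)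
    refine ⟨⟨h₂ * h₁⁻¹, H.mul_mem hh₂ (H.inv_mem hh₁)⟩, ?_⟩
    show (h₂ * h₁⁻¹) • x = y
    rw [mul_smul, ← hx, inv_smul_smul, hy]
  apply hnd
  have h1 := MulAction.index_stabilizer_of_transitive H (e 0)
  rw [Nat.card_eq_fintype_card, hα] at h1
  rw [← h1]
  exact Subgroup.index_dvd_card _

end Cfsg.Agent.Lib.Helper2.PrimeDeg
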