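import Mathlib
import Cfsg.Agent.Lib.Helper2.PrimeDeg7
import Cfsg.Agent.Lib.Helper2.S3T34
import Cfsg.Agent.Lib.Helper2.Sharp3d
import Cfsg.Agent.S0675
import Cfsg.Agent.S0676
import Cfsg.Agent.S1013

set_option autoImplicit false
set_option linter.style.haveILetI false
set_option linter.unusedSectionVars false
set_option maxHeartbeats 800000

/-!
# Non-solvable transitive groups of degree seven
-/

namespace Cfsg.Agent.Lib.Helper2.PrimeDeg

open MulAction

theorem degree_seven {α : Type*} [Fintype α] [DecidableEq α] (hα : Fintype.card α = 7)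
    (G : Subgroup (Equiv.Perm α)) [IsPretransitive G α] (hG : ¬ Group.IsSolvable G)
    (hA : ¬ alternatingGroup α ≤ G) : Nat.card G = 168 ∧ IsSimpleGroup G := by
  classical
  have h7 : Nat.Prime 7 := by norm_num
  haveI : Fact (Nat.Prime 7) := ⟨h7⟩
  have hαn : Nat.card α = 7 := by rw [Nat.card_eq_fintype_card, hα]
  have h2t : IsMultiplyPretransitive G α 2 :=
    (Cfsg.Agent.S0675.result (hα ▸ h7) G).resolve_left hG
  obtain ⟨P⟩ : Nonempty (Sylow 7 G) := inferInstance
  have hcardP := card_sylow hα G P
  set N : Subgroup G := Subgroup.normalizer ((P : Subgroup G) : Set G) with hN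
  have hNdvd : Nat.card N ∣ 42 := card_normalizer_dvd hα G P
  have hPN : 7 ∣ Nat.card N := by
    rw [← hcardP]
    exact Subgroup.card_dvd_of_le Subgroup.le_normalizer
  obtain ⟨r, hr⟩ := hPN
  have hr6 : r ∣ 6 := by
    rw [hr] at hNdvd
    exact Nat.dvd_of_mul_dvd_mul_left (by norm_num : 0 < 7) (show 7 * r ∣ 7 * 6 from hNdvd)
  have hr1 : r ≠ 1 := by
    rintro rfl
    exact card_normalizer_ne hα G hG P (by rw [← hN, hr])
  -- two points
  have h1lt : 1 < Fintype.card α := by omega
  obtain ⟨a, b, hab⟩ := Fintype.exists_pair_of_one_lt_card h1lt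
  set m : ℕ := Nat.card (fixingSubgroup G ({a, b} : Set α)) with hm
  have hidx2 : (fixingSubgroup G ({a, b} : Set α)).index = 42 := by
    have h1 := h2t.index_of_fixingSubgroup_mul (s := ({a, b} : Set α)) (Set.ncard_pair hab)
    rw [hαn] at h1
    have h2 : (7 - 2).factorial = 120 := by decide
    have h3 : (7 : ℕ).factorial = 42 * 120 := by decide
    rw [h2, h3] at h1
    exact Nat.eq_of_mul_eq_mul_right (by norm_num) h1
  have hGm : Nat.card G = 42 * m := by
    have h1 := Subgroup.card_mul_index (fixingSubgroup G ({a, b} : Set α))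
    rw [hidx2] at h1
    rw [← h1, mul_comm]
  have hG5040 : Nat.card G * G.index = 5040 := by
    have h1 := Subgroup.card_mul_index G
    rw [Nat.card_eq_fintype_card (α := Equiv.Perm α), Fintype.card_perm, hα] at h1
    rw [h1]
    decide
  have hmpos : 0 < m := Nat.card_pos
  -- the index in the symmetric group is at least seven
  have hm20 : m < 20 := by
    by_contra hcon
    push Not at hcon
    apply hA
    apply alternating_le_of_index (by omega) G
    rw [hα]
    have h1 : G.index ≤ 6 := by
      rw [hGm] at hG5040
      by_contra h2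
      push Not at h2
      have : 42 * m * 7 ≤ 42 * m * G.index := Nat.mul_le_mul_left _ h2
      nlinarith
    calc G.index.factorial ≤ (6 : ℕ).factorial := Nat.factorial_le h1
      _ < (7 : ℕ).factorial := by decide
  have hm120 : m ∣ 120 := by
    rw [hGm] at hG5040
    have : 42 * (m * G.index) = 42 * 120 := by rw [← mul_assoc, hG5040]
    have h2 : m * G.index = 120 := Nat.eq_of_mul_eq_mul_left (by norm_num) this
    exact ⟨G.index, h2.symm⟩
  -- the number of Sylow subgroups
  have hn1 : Nat.card (Sylow 7 G) % 7 = 1 := by
    have := card_sylow_modEq_one 7 G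
    exact this
  have hnidx : Nat.card (Sylow 7 G) = N.index := Sylow.card_eq_index_normalizer P
  have hNG : 7 * r * N.index = 42 * m := by
    rw [← hr, ← hGm]
    exact Subgroup.card_mul_index N
  -- even normalizer
  have heven : Even r → 5 ∣ m := by
    intro he
    have h1 : Even (Nat.card N) := by
      rw [hr]
      exact he.mul_left 7
    have h3t := Cfsg.Agent.S0676.result hα G hG P h1
    have h3lt : 2 < Fintype.card α := by omega
    obtain ⟨x, y, z, hxy, hxz, hyz⟩ := Fintype.two_lt_card_iff.mp h3lt
    have hs : ({x, y, z} : Set α).ncard = 3 :=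
      Set.ncard_eq_three.mpr ⟨x, y, z, hxy, hxz, hyz, rfl⟩
    have h2 := h3t.index_of_fixingSubgroup_mul (s := ({x, y, z} : Set α)) hs
    rw [hαn] at h2
    have h4 : (7 - 3).factorial = 24 := by decide
    have h5 : (7 : ℕ).factorial = 210 * 24 := by decide
    rw [h4, h5] at h2
    have h6 : (fixingSubgroup G ({x, y, z} : Set α)).index = 210 :=
      Nat.eq_of_mul_eq_mul_right (by norm_num) h2
    have h7 := Subgroup.index_dvd_card (fixingSubgroup G ({x, y, z} : Set α))
    rw [h6, hGm] at h7
    have h8 : 42 * 5 ∣ 42 * m := by simpa using h7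
    exact Nat.dvd_of_mul_dvd_mul_left (by norm_num) h8
  -- enumeration
  have hcases : (m = 4 ∧ r = 3) ∨ (m = 5 ∧ r = 2) ∨ (m = 15 ∧ r = 6) := by
    have hr_le : r ≤ 6 := Nat.le_of_dvd (by norm_num) hr6
    have hrpos : 0 < r := Nat.pos_of_dvd_of_pos hr6 (by norm_num)
    rw [← hnidx] at hNG
    set n := Nat.card (Sylow 7 G) with hn
    have hev : ∀ k, r = 2 * k → 5 ∣ m := fun k hk => heven ⟨k, by omega⟩
    interval_cases r
    · exact absurd rfl hr1
    · have h5 := hev 1 rfl
      interval_cases m <;> omega
    · interval_cases m <;> omega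
    · exfalso
      revert hr6
      decide
    · exfalso
      revert hr6
      decide
    · have h5 := hev 3 rfl
      interval_cases m <;> omega
  rcases hcases with ⟨hm4, hr3⟩ | ⟨hm5, hr2⟩ | ⟨hm15, hr6'⟩
  · -- the group of order 168
    have hcard : Nat.card G = 168 := by rw [hGm, hm4]
    refine ⟨hcard, ?_⟩
    apply Cfsg.Agent.S1013.result hα G P
    · rw [hnidx]
      rw [hr3, hm4] at hNG
      omega
    · have h1 : ((P : Subgroup G).subgroupOf N).index = 3 := by
        have h2 := Subgroup.relIndex_mul_index (H := (P : Subgroup G)) (K := N)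
          Subgroup.le_normalizer
        have h3 := Subgroup.card_mul_index (P : Subgroup G)
        have h4 := Subgroup.card_mul_index N
        rw [hcardP, hcard] at h3
        rw [hr, hr3, hcard] at h4
        have h5 : (P : Subgroup G).index = 24 := by omega
        have h6 : N.index = 8 := by omega
        rw [h5, h6] at h2
        show (P : Subgroup G).relIndex N = 3
        omega
      rw [h1]
      norm_num
  · -- order 210: sharply triply transitive
    exfalso
    have h1 : Even (Nat.card N) := by
      rw [hr, hr2]
      decide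
    have h3t := Cfsg.Agent.S0676.result hα G hG P h1
    have hcard : Nat.card G = 210 := by rw [hGm, hm5]
    have hsharp : ∀ x : Fin 3 ↪ α, stabilizer G x = ⊥ := by
      intro x
      have hs : (Set.range x).ncard = 3 := by
        rw [Set.ncard_eq_toFinset_card', Set.toFinset_range, Finset.card_image_of_injective _
          x.injective, Finset.card_univ, Fintype.card_fin]
      have h2 := h3t.index_of_fixingSubgroup_mul (s := Set.range x) hs
      rw [hαn] at h2
      have h4 : (7 - 3).factorial = 24 := by decide
      have h5 : (7 : ℕ).factorial = 210 * 24 := by decide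
      rw [h4, h5] at h2
      have h6 : (fixingSubgroup G (Set.range x)).index = 210 :=
        Nat.eq_of_mul_eq_mul_right (by norm_num) h2
      have h7 := Subgroup.card_mul_index (fixingSubgroup G (Set.range x))
      rw [h6, hcard] at h7
      have h8 : Nat.card (fixingSubgroup G (Set.range x)) = 1 := by omega
      have h9 : fixingSubgroup G (Set.range x) = ⊥ := Subgroup.card_eq_one.mp h8
      rw [eq_bot_iff, ← h9]
      intro g hg
      rw [mem_stabilizer_iff] at hg
      rw [mem_fixingSubgroup_iff]
      rintro _ ⟨i, rfl⟩
      have h := DFunLike.congr_fun hg i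
      exact h
    obtain ⟨F, i1, i2, hF, -⟩ := Sharp3.sharp3_odd_degree h3t hsharp (n := 6) (by norm_num)
      (by decide) hα
    have h10 := FiniteField.isPrimePow_card F
    rw [hF] at h10
    obtain ⟨q, k, hq, hk, hqk⟩ := h10
    have hq' : Nat.Prime q := Nat.prime_iff.mpr hq
    have h2dvd : 2 ∣ q ^ k := by rw [hqk]; norm_num
    have h3dvd : 3 ∣ q ^ k := by rw [hqk]; norm_num
    have e2 := (Nat.prime_dvd_prime_iff_eq Nat.prime_two hq').mp
      (Nat.prime_two.dvd_of_dvd_pow h2dvd)
    have e3 := (Nat.prime_dvd_prime_iff_eq Nat.prime_three hq').mp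
      (Nat.prime_three.dvd_of_dvd_pow h3dvd)
    omega
  · -- order 630: the point stabilizer of degree six
    exfalso
    have hcard : Nat.card G = 630 := by rw [hGm, hm15]
    letI : Fintype (SubMulAction.ofStabilizer G a) := Fintype.ofFinite _
    have hcardΩ : Fintype.card (SubMulAction.ofStabilizer G a) = 5 + 1 := by
      rw [← Nat.card_eq_fintype_card, SubMulAction.nat_card_ofStabilizer_eq, hαn]
    haveI : IsPretransitive (stabilizer G a) (SubMulAction.ofStabilizer G a) := by
      rw [← is_one_pretransitive_iff]
      exact (SubMulAction.ofStabilizer.isMultiplyPretransitive (n := 1) (a := a)).mp h2t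
    have hSa : Nat.card (stabilizer G a) = (5 + 1) * 5 * 3 := by
      have h1 := Subgroup.card_mul_index (stabilizer G a)
      rw [MulAction.index_stabilizer_of_transitive G a, hαn, hcard] at h1
      omega
    have faith : ∀ g : stabilizer G a,
        (∀ x : SubMulAction.ofStabilizer G a, g • x = x) → g = 1 := by
      intro g hg
      apply Subtype.ext
      apply Subtype.ext
      apply Equiv.ext
      intro x
      by_cases hx : x = a
      · rw [hx]
        exact g.2
      · have := hg ⟨x, (SubMulAction.mem_ofStabilizer_iff G a).mpr hx⟩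
        exact congrArg Subtype.val this
    rcases S3T.degree_prime_add_one (G := stabilizer G a)
      (Ω := SubMulAction.ofStabilizer G a) faith (by norm_num : Nat.Prime 5) hcardΩ hSa
      (by norm_num) with ⟨h, -⟩ | ⟨h, -⟩ | ⟨q, hq, hq2, -⟩
    · omega
    · omega
    · have hq3 : q < 3 := by
        by_contra hcon
        push Not at hcon
        have : 2 ^ 3 ≤ 2 ^ q := Nat.pow_le_pow_right (by norm_num) hcon
        omega
      interval_cases q <;> omega

end Cfsg.Agent.Lib.Helper2.PrimeDeg
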