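import Mathlib

set_option autoImplicit false
set_option linter.style.haveILetI false

/-!
# Homogeneous components for a commutative algebra of endomorphisms
-/

namespace Cfsg.Agent.Lib.Helper2.Psl

variable {k : Type*} [Field k] {V : Type*} [AddCommGroup V] [Module k V]

/-- a subspace invariant under an algebra of endomorphisms -/
def KInv (K : Subalgebra k (Module.End k V)) (W : Submodule k V) : Prop :=
  ∀ t ∈ K, ∀ w ∈ W, t w ∈ W

/-- minimal nonzero invariant subspaces -/
def IsMinInv (K : Subalgebra k (Module.End k V)) (W : Submodule k V) : Prop :=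
  W ≠ ⊥ ∧ KInv K W ∧ ∀ W' : Submodule k V, W' ≤ W → KInv K W' → W' = ⊥ ∨ W' = W

/-- the annihilator of a subspace inside the algebra -/
def annK (K : Subalgebra k (Module.End k V)) (W : Submodule k V) : Set (Module.End k V) :=
  {t | t ∈ K ∧ ∀ w ∈ W, t w = 0}

/-- the homogeneous component of a subspace -/
def hcomp (K : Subalgebra k (Module.End k V)) (W : Submodule k V) : Submodule k V where
  carrier := {v | ∀ t ∈ annK K W, t v = 0}
  add_mem' := by
    intro a b ha hb t ht
    rw [map_add, ha t ht, hb t ht, add_zero]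
  zero_mem' := by
    intro t _
    exact map_zero t
  smul_mem' := by
    intro c v hv t ht
    rw [map_smul, hv t ht, smul_zero]

variable {K : Subalgebra k (Module.End k V)}

theorem mem_hcomp {W : Submodule k V} {v : V} : v ∈ hcomp K W ↔ ∀ t ∈ annK K W, t v = 0 :=
  Iff.rfl

theorem le_hcomp (W : Submodule k V) : W ≤ hcomp K W := by
  intro w hw t ht
  exact ht.2 w hw

theorem exists_isMinInv [FiniteDimensional k V] [Nontrivial V] : ∃ W, IsMinInv K W := by
  have hwf : WellFounded ((· < ·) : Submodule k V → Submodule k V → Prop) := wellFounded_lt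
  let S : Set (Submodule k V) := {W | W ≠ ⊥ ∧ KInv K W}
  have hS : S.Nonempty := by
    refine ⟨⊤, top_ne_bot, ?_⟩
    intro t _ w _
    exact Submodule.mem_top
  obtain ⟨W, hW, hmin⟩ := hwf.has_min S hS
  refine ⟨W, hW.1, hW.2, ?_⟩
  intro W' hle hinv
  by_cases h0 : W' = ⊥
  · exact Or.inl h0
  right
  have h1 : ¬ W' < W := hmin W' ⟨h0, hinv⟩
  exact eq_of_le_of_not_lt hle h1

section

variable (hK : ∀ s ∈ K, ∀ t ∈ K, s * t = t * s)
include hK

theorem mem_annK_of_apply_eq_zero {W : Submodule k V} (hW : IsMinInv K W)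
    {t : Module.End k V} (ht : t ∈ K) {w : V} (hw : w ∈ W) (hw0 : w ≠ 0) (htw : t w = 0) :
    t ∈ annK K W := by
  let W' : Submodule k V := W ⊓ LinearMap.ker t
  have hinv : KInv K W' := by
    intro s hs x hx
    obtain ⟨hx1, hx2⟩ := Submodule.mem_inf.mp hx
    refine Submodule.mem_inf.mpr ⟨hW.2.1 s hs x hx1, ?_⟩
    rw [LinearMap.mem_ker] at hx2 ⊢
    have : t (s x) = (t * s) x := rfl
    rw [this, hK t ht s hs, Module.End.mul_apply, hx2, map_zero]
  have hle : W' ≤ W := inf_le_left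
  have hmem : w ∈ W' := Submodule.mem_inf.mpr ⟨hw, LinearMap.mem_ker.mpr htw⟩
  rcases hW.2.2 W' hle hinv with h | h
  · exfalso
    rw [h, Submodule.mem_bot] at hmem
    exact hw0 hmem
  · refine ⟨ht, fun x hx => ?_⟩
    have : x ∈ W' := by rw [h]; exact hx
    exact LinearMap.mem_ker.mp (Submodule.mem_inf.mp this).2

theorem exists_inv_mod {W : Submodule k V} (hW : IsMinInv K W)
    {t : Module.End k V} (ht : t ∈ K) (hnt : t ∉ annK K W) :
    ∃ s ∈ K, s * t - 1 ∈ annK K W := by
  obtain ⟨w, hw, hw0⟩ := Submodule.exists_mem_ne_zero_of_ne_bot hW.1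
  have htw : t w ≠ 0 := fun h => hnt (mem_annK_of_apply_eq_zero hK hW ht hw hw0 h)
  have htwW : t w ∈ W := hW.2.1 t ht w hw
  let W' : Submodule k V :=
    (Subalgebra.toSubmodule K).map (LinearMap.applyₗ (t w) : Module.End k V →ₗ[k] V)
  have hmemW' : ∀ x : V, x ∈ W' ↔ ∃ s ∈ K, s (t w) = x := by
    intro x
    constructor
    · rintro ⟨s, hs, rfl⟩
      exact ⟨s, hs, rfl⟩
    · rintro ⟨s, hs, rfl⟩
      exact ⟨s, hs, rfl⟩
  have hinv : KInv K W' := by
    intro s hs x hx
    obtain ⟨s', hs', rfl⟩ := (hmemW' x).mp hx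
    exact (hmemW' _).mpr ⟨s * s', K.mul_mem hs hs', rfl⟩
  have hle : W' ≤ W := by
    intro x hx
    obtain ⟨s, hs, rfl⟩ := (hmemW' x).mp hx
    exact hW.2.1 s hs _ htwW
  have hmem : t w ∈ W' := (hmemW' _).mpr ⟨1, K.one_mem, rfl⟩
  rcases hW.2.2 W' hle hinv with h | h
  · exfalso
    rw [h, Submodule.mem_bot] at hmem
    exact htw hmem
  · have : w ∈ W' := by rw [h]; exact hw
    obtain ⟨s, hs, hsw⟩ := (hmemW' w).mp this
    refine ⟨s, hs, ?_⟩
    apply mem_annK_of_apply_eq_zero hK hW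
      (K.sub_mem (K.mul_mem hs ht) K.one_mem) hw hw0
    rw [LinearMap.sub_apply, Module.End.mul_apply, hsw, Module.End.one_apply, sub_self]

theorem hcomp_inv (W : Submodule k V) : KInv K (hcomp K W) := by
  intro s hs v hv t ht
  have : t (s v) = (t * s) v := rfl
  rw [this, hK t ht.1 s hs, Module.End.mul_apply, hv t ht, map_zero]

theorem mul_notMem_annK {W : Submodule k V} (hW : IsMinInv K W)
    {t t' : Module.End k V} (ht : t ∈ K) (ht' : t' ∈ K) (h : t ∉ annK K W)
    (h' : t' ∉ annK K W) : t * t' ∉ annK K W := by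
  intro hmem
  obtain ⟨w, hw, hw0⟩ := Submodule.exists_mem_ne_zero_of_ne_bot hW.1
  have h1 : t' w ≠ 0 := fun e => h' (mem_annK_of_apply_eq_zero hK hW ht' hw hw0 e)
  have h2 : t' w ∈ W := hW.2.1 t' ht' w hw
  have h3 : t (t' w) = 0 := hmem.2 w hw
  exact h (mem_annK_of_apply_eq_zero hK hW ht h2 h1 h3)

theorem exists_mem_annK_notMem {W W' : Submodule k V} (hW : IsMinInv K W)
    (hW' : IsMinInv K W') (hne : annK K W ≠ annK K W') :
    ∃ x ∈ annK K W, x ∉ annK K W' := by
  by_contra hcon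
  push_neg at hcon
  have : ∃ t ∈ annK K W', t ∉ annK K W := by
    by_contra hcon2
    push_neg at hcon2
    exact hne (Set.Subset.antisymm hcon hcon2)
  obtain ⟨t, ht', htW⟩ := this
  obtain ⟨s, hs, hst⟩ := exists_inv_mod hK hW ht'.1 htW
  have h1 := hcon _ hst
  obtain ⟨w, hw, hw0⟩ := Submodule.exists_mem_ne_zero_of_ne_bot hW'.1
  have h2 := h1.2 w hw
  rw [LinearMap.sub_apply, Module.End.mul_apply, ht'.2 w hw, map_zero, Module.End.one_apply,
    zero_sub, neg_eq_zero] at h2
  exact hw0 h2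

theorem iSupIndep_hcomp {ι : Type*} [Finite ι] (W : ι → Submodule k V)
    (hW : ∀ i, IsMinInv K (W i)) (hne : ∀ i j, i ≠ j → annK K (W i) ≠ annK K (W j)) :
    iSupIndep (fun i => hcomp K (W i)) := by
  classical
  haveI : Fintype ι := Fintype.ofFinite ι
  rw [iSupIndep_def]
  intro j
  have key : ∀ S : Finset ι, j ∉ S → ∃ y ∈ K, y ∉ annK K (W j) ∧
      ∀ i ∈ S, ∀ u ∈ hcomp K (W i), y u = 0 := by
    intro S
    induction S using Finset.induction_on with
    | empty =>
      intro _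
      refine ⟨1, K.one_mem, ?_, ?_⟩
      · intro h
        obtain ⟨w, hw, hw0⟩ := Submodule.exists_mem_ne_zero_of_ne_bot (hW j).1
        exact hw0 (h.2 w hw)
      · intro i hi
        exact absurd hi (Finset.notMem_empty i)
    | insert i S hiS ih =>
      intro hj
      rw [Finset.mem_insert, not_or] at hj
      obtain ⟨y, hy, hyj, hyS⟩ := ih hj.2
      obtain ⟨x, hx, hxj⟩ := exists_mem_annK_notMem hK (hW i) (hW j)
        (hne i j (fun e => hj.1 e.symm))
      refine ⟨x * y, K.mul_mem hx.1 hy, mul_notMem_annK hK (hW j) hx.1 hy hxj hyj, ?_⟩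
      intro i' hi' u hu
      rw [Finset.mem_insert] at hi'
      rcases hi' with rfl | hi'
      · rw [hK x hx.1 y hy, Module.End.mul_apply, hu x hx, map_zero]
      · rw [Module.End.mul_apply, hyS i' hi' u hu, map_zero]
  obtain ⟨y, hy, hyj, hyS⟩ := key (Finset.univ.erase j) (Finset.notMem_erase j _)
  rw [Submodule.disjoint_def]
  intro x hxj hxS
  have hle : (⨆ i, ⨆ (_ : i ≠ j), hcomp K (W i)) ≤ LinearMap.ker y := by
    apply iSup_le
    intro i
    apply iSup_le
    intro hij u hu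
    exact LinearMap.mem_ker.mpr (hyS i (Finset.mem_erase.mpr ⟨hij, Finset.mem_univ i⟩) u hu)
  have hyx : y x = 0 := LinearMap.mem_ker.mp (hle hxS)
  obtain ⟨s, hs, hsy⟩ := exists_inv_mod hK (hW j) hy hyj
  have := hxj _ hsy
  rw [LinearMap.sub_apply, Module.End.mul_apply, hyx, map_zero, Module.End.one_apply,
    zero_sub, neg_eq_zero] at this
  exact this

end

end Cfsg.Agent.Lib.Helper2.Psl
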