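import Cfsg.Agent.Lib.Helper2.Psl1

set_option autoImplicit false
set_option linter.style.haveILetI false

/-!
# Clifford theory for an abelian normal subgroup of a primitive linear group
-/

namespace Cfsg.Agent.Lib.Helper2.Psl

variable {k : Type*} [Field k] {V : Type*} [AddCommGroup V] [Module k V]

/-- conjugation of an endomorphism by an invertible map -/
def conjE (g : V ≃ₗ[k] V) (t : Module.End k V) : Module.End k V :=
  (g : V →ₗ[k] V) ∘ₗ t ∘ₗ (g.symm : V →ₗ[k] V)

theorem conjE_apply (g : V ≃ₗ[k] V) (t : Module.End k V) (v : V) :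
    conjE g t (g v) = g (t v) := by
  show g (t (g.symm (g v))) = g (t v)
  rw [LinearEquiv.symm_apply_apply]

theorem conjE_apply' (g : V ≃ₗ[k] V) (t : Module.End k V) (v : V) :
    conjE g t v = g (t (g.symm v)) := rfl

/-- an invertible map normalizing the algebra -/
def Normalizes (K : Subalgebra k (Module.End k V)) (g : V ≃ₗ[k] V) : Prop :=
  ∀ t ∈ K, conjE g t ∈ K

theorem map_symm_map (g : V ≃ₗ[k] V) (W : Submodule k V) :
    (W.map (g : V →ₗ[k] V)).map (g.symm : V →ₗ[k] V) = W := by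
  ext x
  constructor
  · rintro ⟨y, ⟨w, hw, rfl⟩, rfl⟩
    show g.symm (g w) ∈ W
    rw [LinearEquiv.symm_apply_apply]
    exact hw
  · intro hx
    exact ⟨g x, ⟨x, hx, rfl⟩, g.symm_apply_apply x⟩

theorem map_map_symm (g : V ≃ₗ[k] V) (W : Submodule k V) :
    (W.map (g.symm : V →ₗ[k] V)).map (g : V →ₗ[k] V) = W := by
  have := map_symm_map g.symm W
  rwa [LinearEquiv.symm_symm] at this

variable {K : Subalgebra k (Module.End k V)}

theorem kInv_map {g : V ≃ₗ[k] V} (hg' : Normalizes K g.symm) {W : Submodule k V}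
    (hW : KInv K W) : KInv K (W.map (g : V →ₗ[k] V)) := by
  rintro t ht _ ⟨w, hw, rfl⟩
  refine ⟨conjE g.symm t w, hW _ (hg' t ht) w hw, ?_⟩
  show g (g.symm (t (g.symm.symm w))) = t (g w)
  rw [LinearEquiv.apply_symm_apply, LinearEquiv.symm_symm]

theorem map_ne_bot (g : V ≃ₗ[k] V) {W : Submodule k V} (hW : W ≠ ⊥) :
    W.map (g : V →ₗ[k] V) ≠ ⊥ := by
  intro h
  apply hW
  rw [← map_symm_map g W, h, Submodule.map_bot]

theorem isMinInv_map {g : V ≃ₗ[k] V} (hg : Normalizes K g) (hg' : Normalizes K g.symm)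
    {W : Submodule k V} (hW : IsMinInv K W) : IsMinInv K (W.map (g : V →ₗ[k] V)) := by
  refine ⟨map_ne_bot g hW.1, kInv_map hg' hW.2.1, ?_⟩
  intro W' hle hinv
  have h1 : W'.map (g.symm : V →ₗ[k] V) ≤ W := by
    rw [← map_symm_map g W]
    exact Submodule.map_mono hle
  have h2 : KInv K (W'.map (g.symm : V →ₗ[k] V)) := by
    apply kInv_map _ hinv
    rw [LinearEquiv.symm_symm]
    exact hg
  rcases hW.2.2 _ h1 h2 with h | h
  · left
    rw [← map_map_symm g W', h, Submodule.map_bot]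
  · right
    rw [← map_map_symm g W', h]

theorem conjE_mem_annK {g : V ≃ₗ[k] V} (hg : Normalizes K g) {W : Submodule k V}
    {t : Module.End k V} (ht : t ∈ annK K W) : conjE g t ∈ annK K (W.map (g : V →ₗ[k] V)) := by
  refine ⟨hg t ht.1, ?_⟩
  rintro _ ⟨w, hw, rfl⟩
  show conjE g t (g w) = 0
  rw [conjE_apply, ht.2 w hw, map_zero]

theorem map_hcomp_le {g : V ≃ₗ[k] V} (hg' : Normalizes K g.symm) (W : Submodule k V) :
    (hcomp K W).map (g : V →ₗ[k] V) ≤ hcomp K (W.map (g : V →ₗ[k] V)) := by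
  rintro _ ⟨u, hu, rfl⟩ t ht
  have h1 := conjE_mem_annK hg' ht
  rw [map_symm_map] at h1
  have h2 := hu _ h1
  rw [conjE_apply', LinearEquiv.symm_symm] at h2
  have h3 := congrArg g h2
  rw [LinearEquiv.apply_symm_apply, map_zero] at h3
  exact h3

theorem hcomp_map {g : V ≃ₗ[k] V} (hg : Normalizes K g) (hg' : Normalizes K g.symm)
    (W : Submodule k V) :
    hcomp K (W.map (g : V →ₗ[k] V)) = (hcomp K W).map (g : V →ₗ[k] V) := by
  apply le_antisymm _ (map_hcomp_le hg' W)
  intro v hv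
  have hg'' : Normalizes K g.symm.symm := by rw [LinearEquiv.symm_symm]; exact hg
  have h1 := map_hcomp_le hg'' (W.map (g : V →ₗ[k] V))
  rw [map_symm_map] at h1
  have h2 : g.symm v ∈ hcomp K W := h1 ⟨v, hv, rfl⟩
  exact ⟨g.symm v, h2, g.apply_symm_apply v⟩

theorem hcomp_congr {W W' : Submodule k V} (h : annK K W = annK K W') :
    hcomp K W = hcomp K W' := by
  ext v
  rw [mem_hcomp, mem_hcomp, h]

/-! ### The group action -/

variable {G : Type*} [Group G]

/-- the representation with values in the endomorphism ring -/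
def rrep (ρ : G →* (V ≃ₗ[k] V)) : G →* Module.End k V where
  toFun g := ((ρ g : V ≃ₗ[k] V) : V →ₗ[k] V)
  map_one' := by rw [map_one]; rfl
  map_mul' g h := by rw [map_mul]; rfl

/-- the algebra generated by the image of a subgroup -/
def adjA (ρ : G →* (V ≃ₗ[k] V)) (A : Subgroup G) : Subalgebra k (Module.End k V) :=
  Algebra.adjoin k ((fun a => rrep ρ a) '' (A : Set G))

variable {ρ : G →* (V ≃ₗ[k] V)} {A : Subgroup G}

theorem rrep_apply (g : G) (v : V) : rrep ρ g v = ρ g v := rfl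

theorem rho_symm (g : G) : (ρ g).symm = ρ g⁻¹ := by
  rw [map_inv]; rfl

theorem rho_mul_apply (g h : G) (v : V) : ρ (g * h) v = ρ g (ρ h v) := by
  rw [map_mul]; rfl

theorem rho_one_apply (v : V) : ρ (1 : G) v = v := by
  rw [map_one]; rfl

theorem rho_inv_apply (g : G) (v : V) : ρ g⁻¹ (ρ g v) = v := by
  rw [← rho_mul_apply, inv_mul_cancel, rho_one_apply]

theorem rho_apply_inv (g : G) (v : V) : ρ g (ρ g⁻¹ v) = v := by
  rw [← rho_mul_apply, mul_inv_cancel, rho_one_apply]

theorem conjE_rho (g : G) (t : Module.End k V) :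
    conjE (ρ g) t = rrep ρ g * t * rrep ρ g⁻¹ := by
  apply LinearMap.ext
  intro v
  rw [conjE_apply', rho_symm]
  rfl

theorem rrep_mem_adjA {a : G} (ha : a ∈ A) : rrep ρ a ∈ adjA ρ A :=
  Algebra.subset_adjoin ⟨a, ha, rfl⟩

theorem rrep_mul_inv (g : G) : rrep ρ g * rrep ρ g⁻¹ = 1 := by
  rw [← map_mul, mul_inv_cancel, map_one]

theorem rrep_inv_mul (g : G) : rrep ρ g⁻¹ * rrep ρ g = 1 := by
  rw [← map_mul, inv_mul_cancel, map_one]

theorem conj_mem_adjA [hA : A.Normal] (g : G) {t : Module.End k V}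
    (ht : t ∈ adjA ρ A) : rrep ρ g * t * rrep ρ g⁻¹ ∈ adjA ρ A := by
  unfold adjA at ht ⊢
  induction ht using Algebra.adjoin_induction with
  | mem x hx =>
    obtain ⟨a, ha, rfl⟩ := hx
    have h1 : rrep ρ g * rrep ρ a * rrep ρ g⁻¹ = rrep ρ (g * a * g⁻¹) := by
      rw [map_mul, map_mul]
    show rrep ρ g * rrep ρ a * rrep ρ g⁻¹ ∈ _
    rw [h1]
    exact Algebra.subset_adjoin ⟨_, hA.conj_mem a ha g, rfl⟩
  | algebraMap r =>
    have h1 : rrep ρ g * algebraMap k (Module.End k V) r * rrep ρ g⁻¹ =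
        algebraMap k (Module.End k V) r := by
      rw [← Algebra.commutes r (rrep ρ g), mul_assoc, rrep_mul_inv, mul_one]
    rw [h1]
    exact Subalgebra.algebraMap_mem _ r
  | add x y hx hy ihx ihy =>
    rw [mul_add, add_mul]
    exact Subalgebra.add_mem _ ihx ihy
  | mul x y hx hy ihx ihy =>
    have h1 : rrep ρ g * (x * y) * rrep ρ g⁻¹ =
        (rrep ρ g * x * rrep ρ g⁻¹) * (rrep ρ g * y * rrep ρ g⁻¹) := by
      calc rrep ρ g * (x * y) * rrep ρ g⁻¹ = rrep ρ g * x * 1 * y * rrep ρ g⁻¹ := by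
            rw [mul_one]; simp only [mul_assoc]
        _ = _ := by rw [← rrep_inv_mul (ρ := ρ) g]; simp only [mul_assoc]
    rw [h1]
    exact Subalgebra.mul_mem _ ihx ihy

theorem normalizes_rho [hA : A.Normal] (g : G) : Normalizes (adjA ρ A) (ρ g) := by
  intro t ht
  rw [conjE_rho]
  exact conj_mem_adjA g ht

theorem normalizes_rho_symm [hA : A.Normal] (g : G) : Normalizes (adjA ρ A) (ρ g).symm := by
  rw [rho_symm]
  exact normalizes_rho g⁻¹

theorem adjA_comm (hcomm : ∀ a ∈ A, ∀ b ∈ A, a * b = b * a) :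
    ∀ s ∈ adjA ρ A, ∀ t ∈ adjA ρ A, s * t = t * s := by
  intro s hs t ht
  have hS : ∀ x ∈ (fun a => rrep ρ a) '' (A : Set G), ∀ y ∈ (fun a => rrep ρ a) '' (A : Set G),
      x * y = y * x := by
    rintro _ ⟨a, ha, rfl⟩ _ ⟨b, hb, rfl⟩
    show rrep ρ a * rrep ρ b = rrep ρ b * rrep ρ a
    rw [← map_mul, ← map_mul, hcomm a ha b hb]
  have := (Algebra.adjoinCommRingOfComm k hS).mul_comm ⟨s, hs⟩ ⟨t, ht⟩
  exact congrArg Subtype.val this

/-- primitivity of a linear representation: no system of imprimitivity -/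
def IsPrimitiveRep (ρ : G →* (V ≃ₗ[k] V)) : Prop :=
  ∀ (t : ℕ) (D : Fin t → Submodule k V), 2 ≤ t → (∀ i, D i ≠ ⊥) →
    (∀ i j, Module.finrank k (D i) = Module.finrank k (D j)) → iSupIndep D → iSup D = ⊤ →
    (∀ g : G, ∃ σ : Equiv.Perm (Fin t),
      ∀ i, (D i).map ((ρ g : V ≃ₗ[k] V) : V →ₗ[k] V) = D (σ i)) → False

/-- irreducibility of a linear representation -/
def IsIrreducibleRep (ρ : G →* (V ≃ₗ[k] V)) : Prop :=
  ∀ W : Submodule k V, (∀ g : G, W.map ((ρ g : V ≃ₗ[k] V) : V →ₗ[k] V) ≤ W) → W = ⊥ ∨ W = ⊤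

theorem map_rho_mul (g h : G) (U : Submodule k V) :
    (U.map ((ρ g : V ≃ₗ[k] V) : V →ₗ[k] V)).map ((ρ h : V ≃ₗ[k] V) : V →ₗ[k] V) =
      U.map ((ρ (h * g) : V ≃ₗ[k] V) : V →ₗ[k] V) := by
  ext x
  constructor
  · rintro ⟨_, ⟨u, hu, rfl⟩, rfl⟩
    exact ⟨u, hu, rho_mul_apply h g u⟩
  · rintro ⟨u, hu, rfl⟩
    exact ⟨ρ g u, ⟨u, hu, rfl⟩, (rho_mul_apply h g u).symm⟩

theorem map_rho_one (U : Submodule k V) :
    U.map ((ρ (1 : G) : V ≃ₗ[k] V) : V →ₗ[k] V) = U := by
  ext x
  constructor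
  · rintro ⟨u, hu, rfl⟩
    show ρ 1 u ∈ U
    rw [rho_one_apply]; exact hu
  · intro hx
    exact ⟨x, hx, rho_one_apply x⟩

theorem eq_top_of_translates [Finite G] (hprim : IsPrimitiveRep ρ) {U : Submodule k V}
    (hU : U ≠ ⊥)
    (hind : iSupIndep (fun x : Set.range
      (fun g : G => U.map ((ρ g : V ≃ₗ[k] V) : V →ₗ[k] V)) => (x : Submodule k V)))
    (hsup : ⨆ g : G, U.map ((ρ g : V ≃ₗ[k] V) : V →ₗ[k] V) = ⊤) : U = ⊤ := by
  classical
  set X := Set.range (fun g : G => U.map ((ρ g : V ≃ₗ[k] V) : V →ₗ[k] V)) with hX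
  haveI : Finite X := (Set.finite_range _).to_subtype
  have hUX : U ∈ X := ⟨1, map_rho_one U⟩
  haveI : Nonempty X := ⟨⟨U, hUX⟩⟩
  have hsub : Subsingleton X := by
    by_contra hns
    rw [not_subsingleton_iff_nontrivial] at hns
    have h2 : 2 ≤ Nat.card X := by
      have := Finite.one_lt_card_iff_nontrivial.mpr hns
      omega
    let e : X ≃ Fin (Nat.card X) := Finite.equivFin X
    refine hprim (Nat.card X) (fun i => ((e.symm i : X) : Submodule k V)) h2 ?_ ?_ ?_ ?_ ?_
    · intro i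
      obtain ⟨g, hg⟩ := (e.symm i).2
      rw [← hg]
      exact map_ne_bot (ρ g) hU
    · have : ∀ x : X, Module.finrank k (x : Submodule k V) = Module.finrank k U := by
        rintro ⟨_, g, rfl⟩
        exact LinearEquiv.finrank_map_eq (ρ g) U
      intro i j
      rw [this, this]
    · exact hind.comp e.symm.injective
    · rw [← hsup]
      have h1 : (⨆ i, ((e.symm i : X) : Submodule k V)) = ⨆ x : X, (x : Submodule k V) :=
        e.symm.iSup_comp (g := fun x : X => (x : Submodule k V))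
      rw [h1]
      exact iSup_range' (fun W : Submodule k V => W) _
    · intro h
      have hmem : ∀ x : X, (x : Submodule k V).map ((ρ h : V ≃ₗ[k] V) : V →ₗ[k] V) ∈ X := by
        rintro ⟨_, g, rfl⟩
        exact ⟨h * g, (map_rho_mul g h U).symm⟩
      have hmem' : ∀ x : X, (x : Submodule k V).map ((ρ h⁻¹ : V ≃ₗ[k] V) : V →ₗ[k] V) ∈ X := by
        rintro ⟨_, g, rfl⟩
        exact ⟨h⁻¹ * g, (map_rho_mul g h⁻¹ U).symm⟩
      let π : Equiv.Perm X :=
        { toFun := fun x => ⟨_, hmem x⟩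
          invFun := fun x => ⟨_, hmem' x⟩
          left_inv := by
            intro x
            apply Subtype.ext
            show ((x : Submodule k V).map ((ρ h : V ≃ₗ[k] V) : V →ₗ[k] V)).map
              ((ρ h⁻¹ : V ≃ₗ[k] V) : V →ₗ[k] V) = x
            rw [map_rho_mul, inv_mul_cancel, map_rho_one]
          right_inv := by
            intro x
            apply Subtype.ext
            show ((x : Submodule k V).map ((ρ h⁻¹ : V ≃ₗ[k] V) : V →ₗ[k] V)).map
              ((ρ h : V ≃ₗ[k] V) : V →ₗ[k] V) = x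
            rw [map_rho_mul, mul_inv_cancel, map_rho_one] }
      refine ⟨(e.symm.trans π).trans e, ?_⟩
      intro i
      show _ = ((e.symm (e (π (e.symm i))) : X) : Submodule k V)
      rw [Equiv.symm_apply_apply]
      rfl
  have hall : ∀ g : G, U.map ((ρ g : V ≃ₗ[k] V) : V →ₗ[k] V) = U := by
    intro g
    have := hsub.elim ⟨_, ⟨g, rfl⟩⟩ ⟨U, hUX⟩
    exact congrArg Subtype.val this
  rw [← hsup]
  apply le_antisymm
  · exact le_iSup_of_le 1 (map_rho_one U).ge
  · apply iSup_le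
    intro g
    exact (hall g).le

theorem hcomp_eq_top [Finite G] [FiniteDimensional k V] [hA : A.Normal]
    (hcomm : ∀ a ∈ A, ∀ b ∈ A, a * b = b * a) (hirr : IsIrreducibleRep ρ)
    (hprim : IsPrimitiveRep ρ) {W : Submodule k V} (hW : IsMinInv (adjA ρ A) W) :
    hcomp (adjA ρ A) W = ⊤ := by
  classical
  have hK := adjA_comm (ρ := ρ) hcomm
  set U := hcomp (adjA ρ A) W with hUdef
  have hU : U ≠ ⊥ := by
    intro h
    apply hW.1
    have := le_hcomp (K := adjA ρ A) W
    rw [← hUdef, h] at this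
    exact le_bot_iff.mp this
  apply eq_top_of_translates hprim hU
  · -- independence
    set X := Set.range (fun g : G => U.map ((ρ g : V ≃ₗ[k] V) : V →ₗ[k] V)) with hX
    haveI : Finite X := (Set.finite_range _).to_subtype
    let gx : X → G := fun x => Classical.choose x.2
    have hgx : ∀ x : X, U.map ((ρ (gx x) : V ≃ₗ[k] V) : V →ₗ[k] V) = x :=
      fun x => Classical.choose_spec x.2
    let W' : X → Submodule k V := fun x => W.map ((ρ (gx x) : V ≃ₗ[k] V) : V →ₗ[k] V)
    have hW' : ∀ x, IsMinInv (adjA ρ A) (W' x) :=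
      fun x => isMinInv_map (normalizes_rho _) (normalizes_rho_symm _) hW
    have hcompW' : ∀ x : X, hcomp (adjA ρ A) (W' x) = x := by
      intro x
      rw [← hgx x]
      exact hcomp_map (normalizes_rho _) (normalizes_rho_symm _) W
    have hne : ∀ x y : X, x ≠ y → annK (adjA ρ A) (W' x) ≠ annK (adjA ρ A) (W' y) := by
      intro x y hxy h
      apply hxy
      apply Subtype.ext
      rw [← hcompW' x, ← hcompW' y]
      exact hcomp_congr h
    have := iSupIndep_hcomp hK W' hW' hne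
    have hfun : (fun x : X => hcomp (adjA ρ A) (W' x)) = fun x : X => (x : Submodule k V) :=
      funext hcompW'
    rwa [hfun] at this
  · -- the translates span
    set S := ⨆ g : G, U.map ((ρ g : V ≃ₗ[k] V) : V →ₗ[k] V) with hS
    have hinv : ∀ h : G, S.map ((ρ h : V ≃ₗ[k] V) : V →ₗ[k] V) ≤ S := by
      intro h
      rw [hS, Submodule.map_iSup]
      apply iSup_le
      intro g
      rw [map_rho_mul]
      exact le_iSup (fun g : G => U.map ((ρ g : V ≃ₗ[k] V) : V →ₗ[k] V)) (h * g)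
    rcases hirr S hinv with h | h
    · exfalso
      apply hU
      have : U ≤ S := le_iSup_of_le 1 (map_rho_one U).ge
      rw [h] at this
      exact le_bot_iff.mp this
    · exact h

/-- an abelian normal subgroup of a primitive irreducible linear group acts without
nonzero fixed vectors -/
theorem eq_zero_of_fixed [Finite G] [FiniteDimensional k V] [hA : A.Normal]
    (hcomm : ∀ a ∈ A, ∀ b ∈ A, a * b = b * a) (hirr : IsIrreducibleRep ρ)
    (hprim : IsPrimitiveRep ρ) (hρ : Function.Injective ρ) {a : G} (ha : a ∈ A) (ha1 : a ≠ 1)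
    {v : V} (hv : ρ a v = v) : v = 0 := by
  by_contra hv0
  haveI : Nontrivial V := ⟨⟨v, 0, hv0⟩⟩
  have hK := adjA_comm (ρ := ρ) hcomm
  obtain ⟨W, hW⟩ := exists_isMinInv (K := adjA ρ A)
  have htop := hcomp_eq_top hcomm hirr hprim hW
  have hann : ∀ t ∈ annK (adjA ρ A) W, t = 0 := by
    intro t ht
    apply LinearMap.ext
    intro x
    have : x ∈ hcomp (adjA ρ A) W := by rw [htop]; exact Submodule.mem_top
    exact this t ht
  have htK : rrep ρ a - 1 ∈ adjA ρ A :=
    Subalgebra.sub_mem _ (rrep_mem_adjA ha) (Subalgebra.one_mem _)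
  have htne : rrep ρ a - 1 ∉ annK (adjA ρ A) W := by
    intro h
    have h0 := hann _ h
    apply ha1
    apply hρ
    apply LinearEquiv.ext
    intro x
    have := congrArg (fun f : Module.End k V => f x) h0
    simp only [LinearMap.sub_apply, Module.End.one_apply, LinearMap.zero_apply] at this
    rw [rho_one_apply]
    exact sub_eq_zero.mp this
  obtain ⟨s, hs, hst⟩ := exists_inv_mod hK hW htK htne
  have h0 := hann _ hst
  have := congrArg (fun f : Module.End k V => f v) h0
  simp only [LinearMap.sub_apply, Module.End.mul_apply, Module.End.one_apply,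
    LinearMap.zero_apply, rrep_apply, hv, sub_self, map_zero, zero_sub, neg_eq_zero] at this
  exact hv0 this

end Cfsg.Agent.Lib.Helper2.Psl
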