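import Cfsg.Agent.Lib.Helper2.Psl2
import Cfsg.Agent.Lib.Helper2.Htl6

set_option autoImplicit false
set_option linter.style.haveILetI false

/-!
# Fixed spaces in primitive solvable linear groups
-/

namespace Cfsg.Agent.Lib.Helper2.Psl

open scoped commutatorElement

variable {k : Type*} [Field k] {V : Type*} [AddCommGroup V] [Module k V]
  {G : Type*} [Group G]

/-- the fixed space of a group element -/
def fixSp (ρ : G →* (V ≃ₗ[k] V)) (g : G) : Submodule k V where
  carrier := {v | ρ g v = v}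
  add_mem' := by
    intro a b ha hb
    show ρ g (a + b) = a + b
    rw [map_add, ha, hb]
  zero_mem' := map_zero _
  smul_mem' := by
    intro c v hv
    show ρ g (c • v) = c • v
    rw [map_smul, hv]

variable {ρ : G →* (V ≃ₗ[k] V)}

theorem mem_fixSp {g : G} {v : V} : v ∈ fixSp ρ g ↔ ρ g v = v := Iff.rfl

theorem inv_fixed {g : G} {v : V} (h : ρ g v = v) : ρ g⁻¹ v = v := by
  conv_lhs => rw [← h]
  exact rho_inv_apply g v

theorem fixSp_conj (x g : G) :
    fixSp ρ (x * g * x⁻¹) = (fixSp ρ g).map ((ρ x : V ≃ₗ[k] V) : V →ₗ[k] V) := by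
  ext v
  constructor
  · intro hv
    rw [mem_fixSp, rho_mul_apply, rho_mul_apply] at hv
    refine ⟨ρ x⁻¹ v, ?_, rho_apply_inv x v⟩
    show ρ g (ρ x⁻¹ v) = ρ x⁻¹ v
    have := congrArg (ρ x⁻¹) hv
    rwa [rho_inv_apply] at this
  · rintro ⟨u, hu, rfl⟩
    have hu' : ρ g u = u := hu
    show ρ (x * g * x⁻¹) (ρ x u) = ρ x u
    rw [rho_mul_apply, rho_mul_apply, rho_inv_apply, hu']

theorem finrank_fixSp_conj (x g : G) :
    Module.finrank k (fixSp ρ (x * g * x⁻¹)) = Module.finrank k (fixSp ρ g) := by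
  rw [fixSp_conj]
  exact LinearEquiv.finrank_map_eq (ρ x) _

theorem two_mul_finrank_le [FiniteDimensional k V] {U U' : Submodule k V}
    (hd : Module.finrank k U' = Module.finrank k U) {e : ℕ}
    (he : Module.finrank k (U ⊓ U' : Submodule k V) ≤ e) :
    2 * Module.finrank k U ≤ Module.finrank k V + e := by
  have h1 := Submodule.finrank_sup_add_finrank_inf_eq U U'
  have h2 := Submodule.finrank_le (U ⊔ U')
  omega

theorem two_mul_finrank_fixSp_le [FiniteDimensional k V] {A : Subgroup G}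
    (hfpf : ∀ a ∈ A, a ≠ 1 → ∀ v : V, ρ a v = v → v = 0) {g x : G} (hz : ⁅x, g⁆ ∈ A)
    (hz1 : ⁅x, g⁆ ≠ 1) : 2 * Module.finrank k (fixSp ρ g) ≤ Module.finrank k V := by
  have hbot : (fixSp ρ g ⊓ fixSp ρ (x * g * x⁻¹) : Submodule k V) = ⊥ := by
    rw [eq_bot_iff]
    intro v hv
    obtain ⟨h1, h2⟩ := Submodule.mem_inf.mp hv
    rw [mem_fixSp] at h1 h2
    rw [Submodule.mem_bot]
    apply hfpf _ hz hz1
    rw [commutatorElement_def, rho_mul_apply, inv_fixed h1, h2]
  have he : Module.finrank k (fixSp ρ g ⊓ fixSp ρ (x * g * x⁻¹) : Submodule k V) ≤ 0 := by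
    rw [hbot, finrank_bot]
  have := two_mul_finrank_le (finrank_fixSp_conj (ρ := ρ) x g) he
  omega

/-- fixed spaces of nonidentity elements of a primitive solvable linear group have dimension at
most three quarters of the dimension of the space -/
theorem four_mul_finrank_fixSp_le [Finite G] [FiniteDimensional k V]
    (hsol : Group.IsSolvable G) (hirr : IsIrreducibleRep ρ) (hprim : IsPrimitiveRep ρ)
    (hρ : Function.Injective ρ) {g : G} (hg1 : g ≠ 1) :
    4 * Module.finrank k (fixSp ρ g) ≤ 3 * Module.finrank k V := by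
  obtain ⟨A, hAn, hAc, hAmax⟩ := Htl.exists_max_abelian_normal (G := G)
  haveI := hAn
  obtain ⟨B, hBn, hAB, hBC, hBB, hZB, -, hker⟩ := Htl.exists_classTwo_normal hsol A hAc hAmax
  have hfpf : ∀ a ∈ A, a ≠ 1 → ∀ v : V, ρ a v = v → v = 0 :=
    fun a ha ha1 v hv => eq_zero_of_fixed hAc hirr hprim hρ ha ha1 hv
  -- elements of B outside A
  have hcase3 : ∀ h ∈ B, h ∉ A → 2 * Module.finrank k (fixSp ρ h) ≤ Module.finrank k V := by
    intro h hB hA
    have : ∃ b ∈ B, h * b ≠ b * h := by
      by_contra hcon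
      push_neg at hcon
      exact hA (hZB h hB hcon)
    obtain ⟨b, hb, hne⟩ := this
    apply two_mul_finrank_fixSp_le hfpf (hBB b hb h hB)
    intro h1
    rw [commutatorElement_eq_one_iff_commute] at h1
    exact hne h1.eq.symm
  by_cases hgA : g ∈ A
  · have : fixSp ρ g = ⊥ := by
      rw [eq_bot_iff]
      intro v hv
      rw [Submodule.mem_bot]
      exact hfpf g hgA hg1 v hv
    rw [this, finrank_bot]
    omega
  by_cases hgC : g ∈ Subgroup.centralizer (A : Set G)
  · by_cases hgB : g ∈ B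
    · have := hcase3 g hgB hgA
      omega
    · have : ∃ b ∈ B, ⁅g, b⁆ ∉ A := by
        by_contra hcon
        push_neg at hcon
        exact hgB (hker g hgC hcon)
      obtain ⟨b, hb, hbA⟩ := this
      have hhB : ⁅g, b⁆ ∈ B := by
        rw [commutatorElement_def]
        exact B.mul_mem (hBn.conj_mem b hb g) (B.inv_mem hb)
      have h3 := hcase3 _ hhB hbA
      have hle : (fixSp ρ g ⊓ fixSp ρ (b * g * b⁻¹) : Submodule k V) ≤ fixSp ρ ⁅g, b⁆ := by
        intro v hv
        obtain ⟨h1, h2⟩ := Submodule.mem_inf.mp hv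
        rw [mem_fixSp] at h1 h2 ⊢
        have e1 : ⁅g, b⁆ = g * (b * g * b⁻¹)⁻¹ := by
          rw [commutatorElement_def]; group
        rw [e1, rho_mul_apply, inv_fixed h2, h1]
      have he := Submodule.finrank_mono hle
      have := two_mul_finrank_le (finrank_fixSp_conj (ρ := ρ) b g) he
      omega
  · rw [Subgroup.mem_centralizer_iff] at hgC
    push_neg at hgC
    obtain ⟨a, ha, hne⟩ := hgC
    have hz : ⁅a, g⁆ ∈ A := by
      rw [commutatorElement_def]
      have : a * g * a⁻¹ * g⁻¹ = a * (g * a⁻¹ * g⁻¹) := by group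
      rw [this]
      exact A.mul_mem ha (hAn.conj_mem _ (A.inv_mem ha) g)
    have hz1 : ⁅a, g⁆ ≠ 1 := by
      intro h1
      rw [commutatorElement_eq_one_iff_commute] at h1
      exact hne h1.eq
    have := two_mul_finrank_fixSp_le hfpf hz hz1
    omega

end Cfsg.Agent.Lib.Helper2.Psl
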