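import Mathlib

set_option autoImplicit false

universe u v w

namespace Cfsg.Agent.Lib.Helper2

namespace QuadK

variable (p : ℕ) [Fact p.Prime]
variable {Γ : Type v} [Group Γ]
variable {K : Type w} [Field K]

section basic

variable {M : Type u} [AddCommGroup M] [Module K M]

/-- the image of the representation is a `p`-group -/
def IsPRep (ρ : Γ →* Module.End K M) : Prop := ∀ g : Γ, ∃ k : ℕ, ρ g ^ p ^ k = 1

/-- invariant submodules -/
def Inv (ρ : Γ →* Module.End K M) (U : Submodule K M) : Prop :=
  ∀ g : Γ, ∀ u ∈ U, ρ g u ∈ U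

/-- irreducible representations -/
def Irred (ρ : Γ →* Module.End K M) : Prop :=
  ∀ U : Submodule K M, Inv ρ U → U = ⊥ ∨ U = ⊤

variable {p}

/-- the subrepresentation on an invariant submodule -/
def subRep (ρ : Γ →* Module.End K M) (U : Submodule K M) (hU : Inv ρ U) :
    Γ →* Module.End K U where
  toFun g := (ρ g).restrict (hU g)
  map_one' := by
    ext u
    simp [LinearMap.restrict_apply]
  map_mul' := by
    intro g h
    ext u
    simp [LinearMap.restrict_apply]

theorem subRep_apply (ρ : Γ →* Module.End K M) (U : Submodule K M) (hU : Inv ρ U)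
    (g : Γ) (u : U) : ((subRep ρ U hU g) u : M) = ρ g (u : M) := rfl

/-- the quotient representation -/
def quotRep (ρ : Γ →* Module.End K M) (U : Submodule K M) (hU : Inv ρ U) :
    Γ →* Module.End K (M ⧸ U) where
  toFun g := U.mapQ U (ρ g) (fun u hu => hU g u hu)
  map_one' := by
    apply Submodule.linearMap_qext
    ext m
    simp
  map_mul' := by
    intro g h
    apply Submodule.linearMap_qext
    ext m
    simp

theorem quotRep_apply (ρ : Γ →* Module.End K M) (U : Submodule K M)
    (hU : Inv ρ U) (g : Γ) (m : M) :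
    (quotRep ρ U hU g) (Submodule.Quotient.mk m) = Submodule.Quotient.mk (ρ g m) := rfl

theorem subRep_eq_one (ρ : Γ →* Module.End K M) (U : Submodule K M) (hU : Inv ρ U) (g : Γ)
    (h : ρ g = 1) : subRep ρ U hU g = 1 := by
  ext u
  rw [subRep_apply, h]
  rfl

theorem quotRep_eq_one (ρ : Γ →* Module.End K M) (U : Submodule K M) (hU : Inv ρ U) (g : Γ)
    (h : ρ g = 1) : quotRep ρ U hU g = 1 := by
  apply Submodule.linearMap_qext
  ext m
  simp only [LinearMap.comp_apply, Submodule.mkQ_apply, quotRep_apply, h, Module.End.one_apply]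

/-- powers of `1 + N` with `N² = 0` -/
theorem one_add_pow_of_sq_zero (N : Module.End K M) (hN : N * N = 0) (n : ℕ) :
    (1 + N) ^ n = 1 + (n : K) • N := by
  induction n with
  | zero => simp
  | succ n ih =>
    rw [pow_succ, ih, mul_add, mul_one, add_mul, one_mul, smul_mul_assoc, hN, smul_zero, add_zero,
      Nat.cast_succ, add_smul, one_smul, add_assoc]

theorem pow_p_eq_one_of_sq_zero [CharP K p] (f : Module.End K M) (hN : (f - 1) * (f - 1) = 0) :
    f ^ p = 1 := by
  have : f = 1 + (f - 1) := by abel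
  rw [this, one_add_pow_of_sq_zero _ hN, CharP.cast_eq_zero K p]
  simp

/-- extension of `p`-representations -/
theorem isPRep_of_sub_quot [CharP K p] (ρ : Γ →* Module.End K M) (U : Submodule K M)
    (hU : Inv ρ U) (h1 : IsPRep p (subRep ρ U hU)) (h2 : IsPRep p (quotRep ρ U hU)) :
    IsPRep p ρ := by
  intro g
  obtain ⟨k₁, hk₁⟩ := h1 g
  obtain ⟨k₂, hk₂⟩ := h2 g
  refine ⟨k₁ + k₂ + 1, ?_⟩
  set f := ρ g ^ p ^ (k₁ + k₂) with hf
  have hfρ : f = ρ (g ^ p ^ (k₁ + k₂)) := by rw [hf, map_pow]
  have hfU : ∀ u ∈ U, f u = u := by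
    intro u hu
    have e : subRep ρ U hU (g ^ p ^ (k₁ + k₂)) = 1 := by
      rw [map_pow, pow_add, pow_mul, hk₁, one_pow]
    have := congrArg (fun φ => ((φ ⟨u, hu⟩ : U) : M)) e
    simp only [subRep_apply] at this
    rw [hfρ]
    exact this
  have hfQ : ∀ m : M, f m - m ∈ U := by
    intro m
    have e : quotRep ρ U hU (g ^ p ^ (k₁ + k₂)) = 1 := by
      rw [map_pow, pow_add, mul_comm, pow_mul, hk₂, one_pow]
    have := congrArg (fun φ => φ (Submodule.Quotient.mk m)) e
    simp only [quotRep_apply] at this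
    rw [Module.End.one_apply, Submodule.Quotient.eq] at this
    rw [hfρ]
    exact this
  have hsq : (f - 1) * (f - 1) = 0 := by
    ext m
    simp only [Module.End.mul_apply, LinearMap.sub_apply, Module.End.one_apply,
      LinearMap.zero_apply]
    have h3 := hfU (f m - m) (hfQ m)
    rw [h3, sub_self]
  rw [pow_succ, pow_mul, ← hf]
  exact pow_p_eq_one_of_sq_zero f hsq

theorem quad_subRep (ρ : Γ →* Module.End K M) (U : Submodule K M) (hU : Inv ρ U) (x : Γ)
    (hx : (ρ x - 1) * (ρ x - 1) = 0) :
    (subRep ρ U hU x - 1) * (subRep ρ U hU x - 1) = 0 := by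
  ext u
  have := congrArg (fun φ => φ (u : M)) hx
  simp only [Module.End.mul_apply, LinearMap.sub_apply, Module.End.one_apply,
    LinearMap.zero_apply, map_sub] at this
  simp only [Module.End.mul_apply, LinearMap.sub_apply, Module.End.one_apply,
    LinearMap.zero_apply, map_sub, Submodule.coe_sub, subRep_apply, ZeroMemClass.coe_zero]
  exact this

theorem quad_quotRep (ρ : Γ →* Module.End K M) (U : Submodule K M) (hU : Inv ρ U) (x : Γ)
    (hx : (ρ x - 1) * (ρ x - 1) = 0) :
    (quotRep ρ U hU x - 1) * (quotRep ρ U hU x - 1) = 0 := by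
  apply Submodule.linearMap_qext
  ext m
  have := congrArg (fun φ => (Submodule.Quotient.mk (φ m) : M ⧸ U)) hx
  simp only [Module.End.mul_apply, LinearMap.sub_apply, Module.End.one_apply,
    LinearMap.zero_apply, map_sub] at this
  simp only [LinearMap.comp_apply, Submodule.mkQ_apply, Module.End.mul_apply,
    LinearMap.sub_apply, Module.End.one_apply, LinearMap.zero_apply, map_sub, quotRep_apply]
  rw [Submodule.Quotient.mk_sub, Submodule.Quotient.mk_sub, Submodule.Quotient.mk_sub] at this
  exact this

end basic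

section reduce

variable {p}

/-- reduction to irreducible representations -/
theorem reduce_irreducible [CharP K p] (x y z : Γ) (C : Prop)
    (hirr : ∀ (M : Type u) [AddCommGroup M] [Module K M] [Finite M]
      (ρ : Γ →* Module.End K M), (ρ x - 1) * (ρ x - 1) = 0 → (ρ y - 1) * (ρ y - 1) = 0 →
      ρ z = 1 → Irred ρ → ¬ IsPRep p ρ → C) :
    ∀ (n : ℕ) (M : Type u) [AddCommGroup M] [Module K M] [Finite M]
      (ρ : Γ →* Module.End K M), Nat.card M = n → (ρ x - 1) * (ρ x - 1) = 0 →
      (ρ y - 1) * (ρ y - 1) = 0 → ρ z = 1 → ¬ IsPRep p ρ → C := by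
  intro n
  induction n using Nat.strong_induction_on with
  | _ n ih =>
    intro M _ _ _ ρ hn hx hy hz hnp
    by_cases hI : Irred ρ
    · exact hirr M ρ hx hy hz hI hnp
    · unfold Irred at hI
      push Not at hI
      obtain ⟨U, hU, hU0, hU1⟩ := hI
      haveI : Finite (M ⧸ U) := Finite.of_surjective _ (Submodule.Quotient.mk_surjective U)
      have hcard := Submodule.card_eq_card_quotient_mul_card U
      have hUpos : 0 < Nat.card U := Nat.card_pos
      have hQpos : 0 < Nat.card (M ⧸ U) := Nat.card_pos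
      have hU2 : 1 < Nat.card U := by
        rw [Finite.one_lt_card_iff_nontrivial]
        exact (Submodule.nontrivial_iff_ne_bot).mpr hU0
      have hQ2 : 1 < Nat.card (M ⧸ U) := by
        rw [Finite.one_lt_card_iff_nontrivial]
        exact Submodule.Quotient.nontrivial_iff.mpr hU1
      by_cases h1 : IsPRep p (subRep ρ U hU)
      · have h2 : ¬ IsPRep p (quotRep ρ U hU) := fun h2 => hnp (isPRep_of_sub_quot ρ U hU h1 h2)
        have hlt : Nat.card (M ⧸ U) < n := by
          rw [← hn, hcard]
          nlinarith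
        exact ih _ hlt (M ⧸ U) (quotRep ρ U hU) rfl (quad_quotRep ρ U hU x hx)
          (quad_quotRep ρ U hU y hy) (quotRep_eq_one ρ U hU z hz) h2
      · have hlt : Nat.card U < n := by
          rw [← hn, hcard]
          nlinarith
        exact ih _ hlt U (subRep ρ U hU) rfl (quad_subRep ρ U hU x hx)
          (quad_subRep ρ U hU y hy) (subRep_eq_one ρ U hU z hz) h1

end reduce

end QuadK

end Cfsg.Agent.Lib.Helper2
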