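import Mathlib
import Cfsg.Agent.Lib.Helper2.QuadK1

set_option autoImplicit false

universe u v w

namespace Cfsg.Agent.Lib.Helper2

namespace QuadK

open Polynomial

variable {p : ℕ} [Fact p.Prime]
variable {K : Type w} [Field K]

/-- an endomorphism over a finite field `K` of characteristic `p` whose order has `p'`-part dividing
`|K| - 1` has an eigenvector with eigenvalue in `K` -/
theorem exists_eigenvector [Fintype K] [CharP K p] {M : Type u} [AddCommGroup M] [Module K M]
    [FiniteDimensional K M] [Nontrivial M]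
    (z : Module.End K M) (e : ℕ) (hz : z ^ (p ^ e * (Fintype.card K - 1)) = 1) :
    ∃ (μ : K) (v : M), v ≠ 0 ∧ z v = μ • v := by
  classical
  set q := Fintype.card K with hq
  have hq1 : 1 < q := Fintype.one_lt_card
  have hP0 : ((X ^ q - X : K[X]) ^ p ^ e) ≠ 0 :=
    pow_ne_zero _ (FiniteField.X_pow_card_sub_X_ne_zero K hq1)
  have hPs : ((X ^ q - X : K[X]) ^ p ^ e).Splits := by
    apply Splits.pow
    rw [splits_iff_card_roots, FiniteField.roots_X_pow_card_sub_X,
      FiniteField.X_pow_card_sub_X_natDegree_eq K hq1]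
    simp [hq]
  have hPz : aeval z ((X ^ q - X : K[X]) ^ p ^ e) = 0 := by
    rw [sub_pow_char_pow]
    simp only [map_sub, map_pow, aeval_X]
    have h1 : q = (q - 1) + 1 := by omega
    rw [← pow_mul, h1, add_mul, one_mul, pow_add, mul_comm (q - 1), hz, one_mul, sub_self]
  have hdvd : minpoly K z ∣ (X ^ q - X : K[X]) ^ p ^ e := minpoly.dvd K z hPz
  have hms : (minpoly K z).Splits := hPs.of_dvd hP0 hdvd
  have hdeg : (minpoly K z).degree ≠ 0 :=
    (minpoly.degree_pos (Algebra.IsIntegral.isIntegral z)).ne'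
  obtain ⟨μ, hμ⟩ := hms.exists_eval_eq_zero hdeg
  have hev : z.HasEigenvalue μ := Module.End.hasEigenvalue_of_isRoot hμ
  obtain ⟨v, hv⟩ := hev.exists_hasEigenvector
  exact ⟨μ, v, hv.2, hv.apply_eq_smul⟩

end QuadK

end Cfsg.Agent.Lib.Helper2
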