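import Mathlib
import Cfsg.Agent.Lib.Helper2.QuadK2

set_option autoImplicit false

universe u v w

namespace Cfsg.Agent.Lib.Helper2

namespace QuadK

variable {p : ℕ} [Fact p.Prime]
variable {Γ : Type v} [Group Γ]
variable {K : Type w} [Field K]

theorem eq_one_of_pow_char [CharP K p] (c : K) (h : c ^ p = 1) : c = 1 := by
  have h1 : (c - 1) ^ p = 0 := by rw [sub_pow_char, h, one_pow, sub_self]
  have h2 := eq_zero_of_pow_eq_zero h1
  exact sub_eq_zero.mp h2

theorem sq_apply {M : Type u} [AddCommGroup M] [Module K M] (A : Module.End K M)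
    (hA : (A - 1) * (A - 1) = 0) (m : M) : A (A m) = (2 : K) • A m - m := by
  have := congrArg (fun φ => φ m) hA
  simp only [Module.End.mul_apply, LinearMap.sub_apply, Module.End.one_apply,
    LinearMap.zero_apply, map_sub] at this
  rw [two_smul]
  have h2 : A (A m) = A (A m) - A m - (A m - m) + (A m + A m - m) := by abel
  rw [h2, this, zero_add]

/-- the determinant is trivial on a group generated by two quadratic elements -/
theorem det_eq_one [CharP K p] {M : Type u} [AddCommGroup M] [Module K M]
    (ρ : Γ →* Module.End K M) (x y : Γ) (hgen : Subgroup.closure {x, y} = ⊤)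
    (hx : (ρ x - 1) * (ρ x - 1) = 0) (hy : (ρ y - 1) * (ρ y - 1) = 0) (g : Γ) :
    LinearMap.det (ρ g) = 1 := by
  set δ : Γ →* K := (LinearMap.det : Module.End K M →* K).comp ρ with hδ
  have hgens : ∀ t : Γ, (ρ t - 1) * (ρ t - 1) = 0 → δ t = 1 := by
    intro t ht
    apply eq_one_of_pow_char (p := p)
    rw [← map_pow, hδ, MonoidHom.comp_apply, map_pow, pow_p_eq_one_of_sq_zero (p := p) _ ht, map_one]
  have h1 : Set.EqOn δ (1 : Γ →* K) (Subgroup.closure {x, y} : Set Γ) := by
    apply MonoidHom.eqOn_closure
    rintro t (rfl | rfl)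
    · exact hgens _ hx
    · exact hgens _ hy
  have h2 := h1 (show g ∈ (Subgroup.closure {x, y} : Set Γ) by rw [hgen]; trivial)
  exact h2

/-- the irreducible case: a two-dimensional representation -/
theorem exists_hom_of_irred [Fintype K] [CharP K p] {M : Type u} [AddCommGroup M] [Module K M]
    [Finite M] (ρ : Γ →* Module.End K M) (x y : Γ) (hgen : Subgroup.closure {x, y} = ⊤)
    (hx : (ρ x - 1) * (ρ x - 1) = 0) (hy : (ρ y - 1) * (ρ y - 1) = 0) (e : ℕ)
    (hz : ρ ((x * y) ^ (p ^ e * (Fintype.card K - 1))) = 1)
    (hI : Irred ρ) (hnp : ¬ IsPRep p ρ) :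
    ∃ ι : Γ →* Matrix.SpecialLinearGroup (Fin 2) K, ∀ g : Γ, ι g = 1 ↔ ρ g = 1 := by
  classical
  haveI : Module.Finite K M := Module.Finite.of_finite
  have hMnt : Nontrivial M := by
    by_contra h
    rw [not_nontrivial_iff_subsingleton] at h
    apply hnp
    intro g
    exact ⟨0, by ext m; exact Subsingleton.elim _ _⟩
  have hz' : ρ (x * y) ^ (p ^ e * (Fintype.card K - 1)) = 1 := by rw [← map_pow, hz]
  obtain ⟨μ, v, hv0, hzv⟩ := exists_eigenvector (p := p) (ρ (x * y)) e hz'
  set A := ρ x with hA
  set B := ρ y with hB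
  have hA2 := sq_apply A hx
  have hB2 := sq_apply B hy
  set w := B v with hw
  have hAw : A w = μ • v := by
    rw [← hzv, map_mul]
    rfl
  have hμ : μ ≠ 0 := by
    intro h0
    apply hv0
    have h1 : ρ (x * y)⁻¹ (ρ (x * y) v) = v := by
      rw [← Module.End.mul_apply, ← map_mul, inv_mul_cancel, map_one, Module.End.one_apply]
    rw [hzv, h0, zero_smul, map_zero] at h1
    exact h1.symm
  have hAv : A v = (2 : K) • v - μ⁻¹ • w := by
    have h1 := hA2 w
    rw [hAw, map_smul] at h1
    -- `μ • A v = 2 • μ • v - w`
    have h2 : A v = μ⁻¹ • (μ • A v) := by rw [smul_smul, inv_mul_cancel₀ hμ, one_smul]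
    rw [h2, h1, smul_sub, smul_comm (2 : K) μ v, smul_smul, inv_mul_cancel₀ hμ, one_smul]
  have hBw : B w = (2 : K) • w - v := hB2 v
  set U : Submodule K M := Submodule.span K {v, w} with hU
  have hvU : v ∈ U := Submodule.subset_span (by simp)
  have hwU : w ∈ U := Submodule.subset_span (by simp)
  have hAU : ∀ u ∈ U, A u ∈ U := by
    intro u hu
    rw [hU, Submodule.mem_span_pair] at hu
    obtain ⟨s, t, rfl⟩ := hu
    rw [map_add, map_smul, map_smul, hAv, hAw]
    exact U.add_mem (U.smul_mem _ (U.sub_mem (U.smul_mem _ hvU) (U.smul_mem _ hwU)))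
      (U.smul_mem _ (U.smul_mem _ hvU))
  have hBU : ∀ u ∈ U, B u ∈ U := by
    intro u hu
    rw [hU, Submodule.mem_span_pair] at hu
    obtain ⟨s, t, rfl⟩ := hu
    rw [map_add, map_smul, map_smul, hBw]
    exact U.add_mem (U.smul_mem _ hwU) (U.smul_mem _ (U.sub_mem (U.smul_mem _ hwU) hvU))
  -- inverses of quadratic elements
  have hinv : ∀ t : Γ, (ρ t - 1) * (ρ t - 1) = 0 → ∀ m : M, ρ t⁻¹ m = (2 : K) • m - ρ t m := by
    intro t ht m
    have h1 := sq_apply (ρ t) ht m
    have h2 : ρ t ((2 : K) • m - ρ t m) = m := by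
      rw [map_sub, map_smul, h1]; abel
    calc ρ t⁻¹ m = ρ t⁻¹ (ρ t ((2 : K) • m - ρ t m)) := by rw [h2]
      _ = (2 : K) • m - ρ t m := by
        rw [← Module.End.mul_apply, ← map_mul, inv_mul_cancel, map_one, Module.End.one_apply]
  have hUinv : Inv ρ U := by
    have key : ∀ g : Γ, (∀ u ∈ U, ρ g u ∈ U) ∧ (∀ u ∈ U, ρ g⁻¹ u ∈ U) := by
      intro g
      have hg : g ∈ Subgroup.closure {x, y} := by rw [hgen]; trivial
      induction hg using Subgroup.closure_induction with
      | mem t ht =>
        rcases ht with rfl | rfl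
        · refine ⟨hAU, fun u hu => ?_⟩
          rw [hinv _ hx]
          exact U.sub_mem (U.smul_mem _ hu) (hAU u hu)
        · refine ⟨hBU, fun u hu => ?_⟩
          rw [hinv _ hy]
          exact U.sub_mem (U.smul_mem _ hu) (hBU u hu)
      | one => simp
      | mul a b _ _ iha ihb =>
        refine ⟨fun u hu => ?_, fun u hu => ?_⟩
        · rw [map_mul, Module.End.mul_apply]
          exact iha.1 _ (ihb.1 u hu)
        · rw [mul_inv_rev, map_mul, Module.End.mul_apply]
          exact ihb.2 _ (iha.2 u hu)
      | inv a _ iha =>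
        refine ⟨iha.2, ?_⟩
        rw [inv_inv]
        exact iha.1
    intro g u hu
    exact (key g).1 u hu
  have hUtop : U = ⊤ := by
    rcases hI U hUinv with h | h
    · exfalso
      rw [h, Submodule.mem_bot] at hvU
      exact hv0 hvU
    · exact h
  by_cases hli : LinearIndependent K ![v, w]
  · -- two-dimensional
    have hsp : ⊤ ≤ Submodule.span K (Set.range ![v, w]) := by
      rw [← hUtop, hU]
      apply Submodule.span_mono
      rintro t (rfl | rfl)
      · exact ⟨0, rfl⟩
      · exact ⟨1, rfl⟩
    set b : Module.Basis (Fin 2) K M := Module.Basis.mk hli hsp with hb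
    refine ⟨{ toFun := fun g => ⟨LinearMap.toMatrix b b (ρ g), by
                rw [LinearMap.det_toMatrix]
                exact det_eq_one (p := p) ρ x y hgen hx hy g⟩
              map_one' := by
                apply Subtype.ext
                show LinearMap.toMatrix b b (ρ 1) = 1
                rw [map_one]
                exact LinearMap.toMatrix_one b
              map_mul' := by
                intro g h
                apply Subtype.ext
                show LinearMap.toMatrix b b (ρ (g * h)) =
                  LinearMap.toMatrix b b (ρ g) * LinearMap.toMatrix b b (ρ h)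
                rw [map_mul]
                exact LinearMap.toMatrix_mul b _ _ }, ?_⟩
    intro g
    constructor
    · intro h
      have h1 : LinearMap.toMatrix b b (ρ g) = 1 := congrArg Subtype.val h
      have h2 : LinearMap.toMatrix b b (ρ g) = LinearMap.toMatrix b b 1 := by
        rw [LinearMap.toMatrix_one]; exact h1
      exact (LinearMap.toMatrix b b).injective h2
    · intro h
      apply Subtype.ext
      show LinearMap.toMatrix b b (ρ g) = 1
      rw [h]
      exact LinearMap.toMatrix_one b
  · -- one-dimensional: the representation is trivial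
    exfalso
    rw [LinearIndependent.pair_iff] at hli
    push Not at hli
    obtain ⟨s, t, hst, hne⟩ := hli
    have ht : t ≠ 0 := by
      intro ht0
      rw [ht0, zero_smul, add_zero] at hst
      have hs0 : s = 0 := by
        by_contra hs
        exact hv0 ((smul_eq_zero.mp hst).resolve_left hs)
      exact hne hs0 ht0
    -- `w = c • v`
    obtain ⟨c, hc⟩ : ∃ c : K, w = c • v := by
      refine ⟨-(t⁻¹ * s), ?_⟩
      have h1 : t • w = -(s • v) := eq_neg_of_add_eq_zero_right hst
      calc w = t⁻¹ • (t • w) := by rw [smul_smul, inv_mul_cancel₀ ht, one_smul]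
        _ = -(t⁻¹ * s) • v := by rw [h1, smul_neg, smul_smul, neg_smul]
    have hone : ∀ d : K, (d * d) • v = (2 * d) • v - v → d = 1 := by
      intro d hd
      have h1 : ((d - 1) * (d - 1)) • v = 0 := by
        have : (d - 1) * (d - 1) = d * d - 2 * d + 1 := by ring
        rw [this, add_smul, sub_smul, hd, one_smul]; abel
      rcases smul_eq_zero.mp h1 with h | h
      · rcases mul_self_eq_zero.mp h with h'
        exact sub_eq_zero.mp h'
      · exact absurd h hv0
    have hc1 : c = 1 := by
      apply hone
      have h1 := hBw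
      rw [hc, map_smul] at h1
      change c • w = _ at h1
      rw [hc, smul_smul, smul_smul] at h1
      exact h1
    rw [hc1, one_smul] at hc
    have hμ1 : μ = 1 := by
      apply hone
      have h1 := hA2 v
      have hAv' : A v = μ • v := by rw [← hAw, hc]
      rw [hAv', map_smul, hAv', smul_smul, smul_smul] at h1
      exact h1
    have hAv' : A v = v := by
      calc A v = A w := by rw [hc]
        _ = μ • v := hAw
        _ = v := by rw [hμ1, one_smul]
    have hBv' : B v = v := hc
    have hall : ∀ m : M, ∃ k : K, m = k • v := by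
      intro m
      have hm : m ∈ U := by rw [hUtop]; trivial
      rw [hU, Submodule.mem_span_pair] at hm
      obtain ⟨s', t', rfl⟩ := hm
      refine ⟨s' + t', ?_⟩
      rw [hc, add_smul]
    have hA1 : A = 1 := by
      ext m
      obtain ⟨k, rfl⟩ := hall m
      rw [map_smul, hAv', Module.End.one_apply]
    have hB1 : B = 1 := by
      ext m
      obtain ⟨k, rfl⟩ := hall m
      rw [map_smul, hBv', Module.End.one_apply]
    have h1 : Set.EqOn ρ (1 : Γ →* Module.End K M) (Subgroup.closure {x, y} : Set Γ) := by
      apply MonoidHom.eqOn_closure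
      rintro t (rfl | rfl)
      · exact hA1
      · exact hB1
    apply hnp
    intro g
    refine ⟨0, ?_⟩
    rw [pow_zero, pow_one]
    exact h1 (show g ∈ (Subgroup.closure {x, y} : Set Γ) by rw [hgen]; trivial)

end QuadK

end Cfsg.Agent.Lib.Helper2
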