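import Mathlib
import Cfsg.Agent.Lib.Helper2.QuadStd

set_option autoImplicit false

namespace Cfsg.Agent.Lib.Helper2

namespace QuadStd

open Cfsg.Agent.Lib.Helper5.QuadGlue Cfsg.Agent.Lib.Helper1

variable {F : Type*} [Field F] [Fintype F] [DecidableEq F]

theorem card_plus_eq (m : ℕ) (c : F) :
    Fintype.card {x : Fin m ⊕ Fin m → F // (QP m F) x = c} =
      (if c = 0 then Fintype.card F ^ m else 0) +
        (Fintype.card F ^ m - 1) * Fintype.card F ^ (m - 1) := by
  rw [Fintype.card_subtype, ← card_hyperbolic_eq (F := F) m c]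
  congr 1
  ext v
  simp only [Finset.mem_filter, Finset.mem_univ, true_and]
  rw [QP_apply]
  rfl

/-- the number of vectors of a given non-zero norm for the minus type form -/
theorem card_minus_eq (k : ℕ) (a b : F)
    (hab : ∀ z₁ z₂ : F, z₁ ^ 2 + a * z₁ * z₂ + b * z₂ ^ 2 = 0 → z₁ = 0 ∧ z₂ = 0) (c : F)
    (hc : c ≠ 0) :
    Fintype.card {x : (Fin k ⊕ Fin k) ⊕ Fin 2 → F // (QM k F a b) x = c} =
      Fintype.card F ^ k * (Fintype.card F ^ (k + 1) + 1) := by
  rw [Fintype.card_subtype]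
  have h1 := card_sum_split_right (F := F) (α := Fin k ⊕ Fin k) (β := Fin 2)
    (fun u => ∑ i : Fin k, u (.inl i) * u (.inr i))
    (fun w => w 0 ^ 2 + a * w 0 * w 1 + b * w 1 ^ 2 - c)
  beta_reduce at h1
  have h2 : (Finset.univ.filter (fun v : (Fin k ⊕ Fin k) ⊕ Fin 2 → F =>
      (QM k F a b) v = c)).card = ∑ w : Fin 2 → F, (Finset.univ.filter (fun u : Fin k ⊕ Fin k → F =>
      ∑ i : Fin k, u (.inl i) * u (.inr i) =
        -(w 0 ^ 2 + a * w 0 * w 1 + b * w 1 ^ 2 - c))).card := by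
    rw [← h1]
    congr 1
    ext v
    simp only [Finset.mem_filter, Finset.mem_univ, true_and]
    rw [QM_apply]
    unfold Cfsg.quadFormMinus
    constructor
    · intro h; rw [← h]; ring
    · intro h; linear_combination h
  rw [h2]
  set q := Fintype.card F with hq
  have h4 : ∀ w : Fin 2 → F, (Finset.univ.filter (fun u : Fin k ⊕ Fin k → F =>
      ∑ i : Fin k, u (.inl i) * u (.inr i) = -(w 0 ^ 2 + a * w 0 * w 1 + b * w 1 ^ 2 - c))).card =
      (if BinaryNorm.N a b w = c then q ^ k else 0) + (q ^ k - 1) * q ^ (k - 1) := by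
    intro w
    have hiff : (-(w 0 ^ 2 + a * w 0 * w 1 + b * w 1 ^ 2 - c) = 0) ↔ BinaryNorm.N a b w = c := by
      unfold BinaryNorm.N
      constructor
      · intro h; linear_combination -h
      · intro h; rw [h]; ring
    have := card_hyperbolic_eq (F := F) k (-(w 0 ^ 2 + a * w 0 * w 1 + b * w 1 ^ 2 - c))
    simp only [hiff] at this
    exact this
  rw [Finset.sum_congr rfl (fun w _ => h4 w)]
  have hcardW : Fintype.card (Fin 2 → F) = q ^ 2 := by
    rw [Fintype.card_fun, Fintype.card_fin]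
  rw [Finset.sum_add_distrib, Finset.sum_const, Finset.card_univ, hcardW, smul_eq_mul,
    ← Finset.sum_filter, Finset.sum_const, BinaryNorm.card_N_eq a b hab c hc, smul_eq_mul]
  rcases Nat.eq_zero_or_pos k with hk | hk
  · subst hk; simp [hq]
  · have e1 : q ^ 2 * ((q ^ k - 1) * q ^ (k - 1)) = (q ^ k - 1) * q ^ (k + 1) := by
      have : q ^ 2 * q ^ (k - 1) = q ^ (k + 1) := by
        rw [← pow_add]; congr 1; omega
      rw [← this]; ring
    rw [e1]
    have hq0 : 0 < q := Fintype.card_pos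
    have hqk : 1 ≤ q ^ k := Nat.one_le_pow _ _ hq0
    obtain ⟨r, hr⟩ : ∃ r, q ^ k = r + 1 := ⟨q ^ k - 1, by omega⟩
    rw [hr, Nat.add_sub_cancel, pow_succ, hr]
    ring

end QuadStd

end Cfsg.Agent.Lib.Helper2
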