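import Mathlib
import Cfsg.Agent.Lib.Helper3.RUDefs

set_option autoImplicit false
set_option linter.unusedSectionVars false
set_option linter.unusedVariables false

namespace Cfsg.Agent.Lib.Helper3.RUProd

open Module

universe u v

variable {K : Type u} [Field K] {V : Type v} [AddCommGroup V] [Module K V]

theorem r5_Ntil_z (A : Module.End K V) (z : V) (η : Module.Dual K V) (hη : η ∈ Aff A z) :
    Ntil A z η z = 0 := by
  rw [Ntil_apply, hη.1, hη.2, one_smul, zero_smul, sub_self, sub_zero]

theorem r5_scalar_all (A : Module.End K V) (z : V) (η : Module.Dual K V) (hη : η ∈ Aff A z)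
    (c : K) (hc : ∀ w, η w = 0 → Ntil A z η w = c • w) (v : V) :
    Ntil A z η v = c • (v - η v • z) := by
  have h1 : η (v - η v • z) = 0 := by
    rw [map_sub, map_smul, hη.1, smul_eq_mul, mul_one, sub_self]
  have h2 := hc _ h1
  rw [map_sub, map_smul, r5_Ntil_z A z η hη, smul_zero, sub_zero] at h2
  exact h2

theorem r5_diff (A : Module.End K V) (z : V) (η ηa : Module.Dual K V) (v : V) :
    Ntil A z η v - Ntil A z ηa v =
      -((η - ηa) v • (A z - z)) - (η - ηa) (A v - v) • A z := by
  rw [Ntil_apply, Ntil_apply, LinearMap.sub_apply, LinearMap.sub_apply]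
  module

theorem r5_phi (A : Module.End K V) (z : V) (η ηa : Module.Dual K V) (hη : η ∈ Aff A z)
    (ha : ηa ∈ Aff A z) :
    (η - ηa) z = 0 ∧ (η - ηa) (A z - z) = 0 ∧ (η - ηa) (A z) = 0 := by
  have h1 : η (A z) = 1 := by
    have := hη.2
    rw [map_sub, hη.1] at this
    exact sub_eq_zero.mp this
  have h2 : ηa (A z) = 1 := by
    have := ha.2
    rw [map_sub, ha.1] at this
    exact sub_eq_zero.mp this
  refine ⟨?_, ?_, ?_⟩
  · rw [LinearMap.sub_apply, hη.1, ha.1, sub_self]
  · rw [LinearMap.sub_apply, hη.2, ha.2, sub_self]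
  · rw [LinearMap.sub_apply, h1, h2, sub_self]

theorem r5_finrank_span_singleton_le (x : V) :
    finrank K (Submodule.span K ({x} : Set V)) ≤ 1 := by
  classical
  have h := finrank_span_finset_le_card (R := K) ({x} : Finset V)
  have h2 : (({x} : Finset V) : Set V) = {x} := by simp
  rw [h2, Finset.card_singleton] at h
  exact h

theorem r5_finrank_span_le (x y : V) :
    finrank K (Submodule.span K ({x, y} : Set V)) ≤ 2 := by
  classical
  have h := finrank_span_finset_le_card (R := K) ({x, y} : Finset V)
  have h2 : (({x, y} : Finset V) : Set V) = {x, y} := by simp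
  rw [h2] at h
  exact le_trans h Finset.card_le_two

theorem rank_of_scalarAt [FiniteDimensional K V] (hV : 3 ≤ finrank K V) (A : Module.End K V)
    (hrk : 2 ≤ finrank K (LinearMap.range (A - 1))) (z : V)
    (hz1 : LinearIndependent K ![z, A z - z])
    (hz4 : LinearMap.ker (A - 1) ≠ ⊥ → z ∉ LinearMap.range (A - 1))
    (ηa : Module.Dual K V) (ha : ηa ∈ Aff A z) (hs : ScalarAt A z ηa)
    (η : Module.Dual K V) (hη : η ∈ Aff A z) :
    2 ≤ finrank K (LinearMap.range (Ntil A z η)) := by
  obtain ⟨c, hc⟩ := hs
  have hall := r5_scalar_all A z ηa ha c hc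
  obtain ⟨φz, φN, φy⟩ := r5_phi A z η ηa hη ha
  set φ := η - ηa with hφ
  -- c ≠ 0
  have hc0 : c ≠ 0 := by
    intro h0
    set S := Submodule.span K ({z, A z - z} : Set V) with hS
    have hzS : z ∈ S := Submodule.subset_span (by simp)
    have hNS : A z - z ∈ S := Submodule.subset_span (by simp)
    have hyS : A z ∈ S := by
      have : A z = z + (A z - z) := by abel
      rw [this]
      exact S.add_mem hzS hNS
    have hle : LinearMap.range (A - 1) ≤ S := by
      rintro _ ⟨v, rfl⟩
      have h1 := hall v
      rw [h0, zero_smul, Ntil_apply] at h1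
      have h2 : (A - 1) v = ηa v • (A z - z) + ηa (A v - v) • A z := by
        rw [LinearMap.sub_apply, Module.End.one_apply]
        rw [sub_sub, sub_eq_zero] at h1
        exact h1
      rw [h2]
      exact S.add_mem (S.smul_mem _ hNS) (S.smul_mem _ hyS)
    have hS2 := r5_finrank_span_le (K := K) z (A z - z)
    have heq : LinearMap.range (A - 1) = S :=
      Submodule.eq_of_le_of_finrank_le hle (by rw [← hS] at hS2; omega)
    have hzr : z ∈ LinearMap.range (A - 1) := by rw [heq]; exact hzS
    have hker : LinearMap.ker (A - 1) = ⊥ := by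
      by_contra hne
      exact hz4 hne hzr
    have hinj := LinearMap.finrank_range_of_inj (LinearMap.ker_eq_bot.mp hker)
    rw [heq] at hinj
    rw [← hS] at hS2
    omega
  -- the kernel of `Ntil η` is inside the line of `z`
  have hφN : ∀ v, φ (A v - v) = c * φ v := by
    intro v
    have h1 := congrArg φ (hall v)
    simp only [Ntil_apply, map_sub, map_smul, smul_eq_mul, φy, φz, mul_zero, sub_zero] at h1
    rw [map_sub]
    linear_combination h1
  have hker : LinearMap.ker (Ntil A z η) ≤ Submodule.span K ({z} : Set V) := by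
    intro v hv
    rw [LinearMap.mem_ker] at hv
    have h1 := r5_diff A z η ηa v
    rw [hv, hall v, zero_sub, ← hφ, hφN] at h1
    -- apply φ
    have h2 := congrArg φ h1
    rw [map_neg, map_smul, map_sub, map_smul, φz, smul_zero, sub_zero, map_sub, map_neg, map_smul,
      φN, smul_zero, neg_zero, map_smul, φy, smul_zero, sub_zero, smul_eq_mul] at h2
    have h3 : φ v = 0 := by
      have : c * φ v = 0 := by
        have := neg_eq_zero.mp h2
        exact this
      exact (mul_eq_zero.mp this).resolve_left hc0
    rw [h3, zero_smul, mul_zero, zero_smul, neg_zero, sub_zero, neg_eq_zero, smul_eq_zero] at h1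
    have h4 : v - ηa v • z = 0 := h1.resolve_left hc0
    rw [Submodule.mem_span_singleton]
    exact ⟨ηa v, (sub_eq_zero.mp h4).symm⟩
  have h1 := LinearMap.finrank_range_add_finrank_ker (Ntil A z η)
  have h2 := Submodule.finrank_mono hker
  have h3 := r5_finrank_span_singleton_le (K := K) z
  omega


theorem scalarAt_unique [FiniteDimensional K V] (hV : 3 ≤ finrank K V) (A : Module.End K V)
    (hA : Function.Bijective A) (z : V) (hz1 : LinearIndependent K ![z, A z - z])
    (ηa ηb : Module.Dual K V) (ha : ηa ∈ Aff A z) (hb : ηb ∈ Aff A z)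
    (hsa : ScalarAt A z ηa) (hsb : ScalarAt A z ηb) : ηa = ηb := by
  obtain ⟨ca, hca⟩ := hsa
  obtain ⟨cb, hcb⟩ := hsb
  have halla := r5_scalar_all A z ηa ha ca hca
  have hallb := r5_scalar_all A z ηb hb cb hcb
  obtain ⟨φz, φN, φy⟩ := r5_phi A z ηb ηa hb ha
  set φ := ηb - ηa with hφ
  set S := Submodule.span K ({z, A z - z} : Set V) with hS
  have hzS : z ∈ S := Submodule.subset_span (by simp)
  have hNS : A z - z ∈ S := Submodule.subset_span (by simp)
  have hyS : A z ∈ S := by
    have : A z = z + (A z - z) := by abel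
    rw [this]
    exact S.add_mem hzS hNS
  have hS2 : finrank K S ≤ 2 := r5_finrank_span_le (K := K) z (A z - z)
  -- the key identity
  have key : ∀ v, (cb - ca) • v =
      (cb * ηb v - ca * ηa v) • z - φ v • (A z - z) - φ (A v - v) • A z := by
    intro v
    have h1 := r5_diff A z ηb ηa v
    rw [hallb v, halla v, ← hφ] at h1
    have h2 : (cb - ca) • v = (cb • (v - ηb v • z) - ca • (v - ηa v • z)) +
        (cb * ηb v - ca * ηa v) • z := by module
    rw [h2, h1]
    module
  -- the scalars agree
  have hcc : ca = cb := by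
    by_contra hne
    have hne' : cb - ca ≠ 0 := sub_ne_zero.mpr (Ne.symm hne)
    have htop : S = ⊤ := by
      rw [Submodule.eq_top_iff']
      intro v
      have h1 : (cb - ca) • v ∈ S := by
        rw [key v]
        exact S.sub_mem (S.sub_mem (S.smul_mem _ hzS) (S.smul_mem _ hNS)) (S.smul_mem _ hyS)
      have h2 := S.smul_mem (cb - ca)⁻¹ h1
      rwa [smul_smul, inv_mul_cancel₀ hne', one_smul] at h2
    rw [htop, finrank_top] at hS2
    omega
  -- (1 + c) φ = 0
  have hφ1 : ∀ v, (1 + cb) * φ v = 0 := by
    intro v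
    have h1 := key v
    rw [hcc, sub_self, zero_smul] at h1
    have h2 : (cb * φ v - φ (A v - v)) • z + (-(φ v) - φ (A v - v)) • (A z - z) = 0 := by
      have e1 : cb * ηb v - cb * ηa v = cb * φ v := by
        rw [hφ, LinearMap.sub_apply]; ring
      rw [e1] at h1
      have e2 : A z = z + (A z - z) := by abel
      rw [e2] at h1
      rw [h1]
      simp only [add_sub_cancel_left]
      module
    obtain ⟨h3, h4⟩ := LinearIndependent.pair_iff.mp hz1 _ _ h2
    linear_combination h3 - h4
  by_cases hc1 : 1 + cb = 0
  · -- c = -1 makes the range of `A` a line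
    exfalso
    have hcb1 : cb = -1 := by linear_combination hc1
    have hle : LinearMap.range A ≤ Submodule.span K ({A z} : Set V) := by
      rintro _ ⟨v, rfl⟩
      have h1 := hallb v
      rw [hcb1, Ntil_apply] at h1
      have h2 : A v = (ηb v + ηb (A v - v)) • A z := by
        generalize ηb (A v - v) = t at h1 ⊢
        have e2 : A v - (ηb v + t) • A z =
            (A v - v - ηb v • (A z - z) - t • A z) - (-1 : K) • (v - ηb v • z) := by module
        rw [h1, sub_self] at e2
        exact sub_eq_zero.mp e2
      rw [h2]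
      exact Submodule.smul_mem _ _ (Submodule.subset_span (by simp))
    have hr : LinearMap.range A = ⊤ := LinearMap.range_eq_top.mpr hA.2
    rw [hr] at hle
    have h3 := Submodule.finrank_mono hle
    have h4 := r5_finrank_span_singleton_le (K := K) (A z)
    rw [finrank_top] at h3
    omega
  · have hφ0 : φ = 0 := by
      apply LinearMap.ext
      intro v
      exact (mul_eq_zero.mp (hφ1 v)).resolve_left hc1
    rw [hφ] at hφ0
    exact (sub_eq_zero.mp hφ0).symm

end Cfsg.Agent.Lib.Helper3.RUProd
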