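import Mathlib
import Cfsg.Agent.Lib.Helper3.RUDefs

set_option autoImplicit false
set_option linter.unusedSectionVars false
set_option linter.unusedVariables false

namespace Cfsg.Agent.Lib.Helper3.RUProd

open Module

universe u v

variable {K : Type u} [Field K] {V : Type v} [AddCommGroup V] [Module K V]

theorem det_cmpr [FiniteDimensional K V] (A : Module.End K V) (z : V) (η : Module.Dual K V)
    (hη : η ∈ Aff A z) (A' : Module.End K (LinearMap.ker η)) (hA' : IsCmpr A z η A') :
    LinearMap.det A' = LinearMap.det A := by
  obtain ⟨hη1, hη2⟩ := hη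
  have hηy : η (A z) = 1 := by
    rw [map_sub, hη1] at hη2
    exact sub_eq_zero.mp hη2
  -- the shear
  set f : Module.Dual K V := -(η ∘ₗ (A - 1)) with hf
  have hfz : f z = 0 := by
    rw [hf, LinearMap.neg_apply, LinearMap.comp_apply, LinearMap.sub_apply, Module.End.one_apply, hη2,
      neg_zero]
  set T : Module.End K V := LinearMap.transvection f z with hT
  have hTdet : LinearMap.det T = 1 := by
    rw [hT, LinearMap.transvection.det, hfz, add_zero]
  set C : Module.End K V := A * T with hC
  have hCv : ∀ v, C v = A v - η (A v - v) • A z := by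
    intro v
    rw [hC, Module.End.mul_apply, hT, LinearMap.transvection.apply, map_add, map_smul, hf,
      LinearMap.neg_apply, LinearMap.comp_apply, LinearMap.sub_apply, Module.End.one_apply, neg_smul,
      ← sub_eq_add_neg]
  have hCdet : LinearMap.det C = LinearMap.det A := by
    rw [hC, map_mul, hTdet, mul_one]
  have hηC : ∀ v, η (C v) = η v := by
    intro v
    rw [hCv, map_sub, map_smul, hηy, smul_eq_mul, mul_one, map_sub]
    ring
  have he : LinearMap.ker η ≤ (LinearMap.ker η).comap C := by
    intro w hw
    rw [Submodule.mem_comap, LinearMap.mem_ker, hηC]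
    exact hw
  have hdec := LinearMap.det_eq_det_mul_det (LinearMap.ker η) C he
  have h1 : C.restrict he = A' := by
    apply LinearMap.ext
    intro w
    apply Subtype.ext
    rw [LinearMap.coe_restrict_apply, hCv, hA' w, map_sub, LinearMap.mem_ker.mp w.2, sub_zero]
  have h2 : (LinearMap.ker η).mapQ (LinearMap.ker η) C he = LinearMap.id := by
    apply LinearMap.ext
    intro x
    obtain ⟨v, rfl⟩ := Submodule.Quotient.mk_surjective _ x
    rw [Submodule.mapQ_apply, LinearMap.id_apply, Submodule.Quotient.eq, LinearMap.mem_ker, map_sub,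
      hηC, sub_self]
  rw [h1, h2, LinearMap.det_id, mul_one] at hdec
  rw [← hdec, hCdet]

end Cfsg.Agent.Lib.Helper3.RUProd
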