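import Mathlib

set_option autoImplicit false

/-!
Certificates for subgroups of `GL₂(ZMod p)` acting regularly on the non-zero vectors.
-/

namespace Cfsg.Agent.Lib.Helper2

namespace RegCert

/-- matrix-vector product mod `p` on natural numbers -/
def mvN (p : ℕ) (m : ℕ × ℕ × ℕ × ℕ) (v : ℕ × ℕ) : ℕ × ℕ :=
  ((m.1 * v.1 + m.2.1 * v.2) % p, (m.2.2.1 * v.1 + m.2.2.2 * v.2) % p)

/-- table lookup -/
def look (tab : List (List (ℕ × ℕ × ℕ))) (v : ℕ × ℕ) : ℕ × ℕ × ℕ :=
  (tab.getD v.1 []).getD v.2 (0, 0, 0)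

/-- the table is compatible with left multiplication by the matrix `m` -/
def chkGen (p : ℕ) (tab : List (List (ℕ × ℕ × ℕ))) (m : ℕ × ℕ × ℕ × ℕ) : Bool :=
  (List.range p).all fun x => (List.range p).all fun y =>
    (x == 0 && y == 0) ||
      (mvN p m ((look tab (x, y)).1, (look tab (x, y)).2.1) ==
        ((look tab (mvN p m (x, y))).1, (look tab (mvN p m (x, y))).2.1))

/-- reachability of a vector from `(1,0)` following the generator indices in the table -/
def reach (p : ℕ) (gens ginv : List (ℕ × ℕ × ℕ × ℕ)) (tab : List (List (ℕ × ℕ × ℕ))) :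
    ℕ → ℕ × ℕ → Bool
  | 0, v => v == (1, 0)
  | n + 1, v => v == (1, 0) ||
      match gens[(look tab v).2.2]? with
      | none => false
      | some m =>
        (mvN p m (mvN p (ginv.getD (look tab v).2.2 (0, 0, 0, 0)) v) == v) &&
          reach p gens ginv tab n (mvN p (ginv.getD (look tab v).2.2 (0, 0, 0, 0)) v)

def chkReach (p : ℕ) (gens ginv : List (ℕ × ℕ × ℕ × ℕ)) (tab : List (List (ℕ × ℕ × ℕ)))
    (fuel : ℕ) : Bool :=
  (List.range p).all fun x => (List.range p).all fun y =>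
    (x == 0 && y == 0) || reach p gens ginv tab fuel (x, y)

def chkOne (tab : List (List (ℕ × ℕ × ℕ))) : Bool :=
  (look tab (1, 0)).1 == 0 && (look tab (1, 0)).2.1 == 1

/-- the complete certificate -/
def chkAll (p : ℕ) (gens ginv : List (ℕ × ℕ × ℕ × ℕ)) (tab : List (List (ℕ × ℕ × ℕ)))
    (fuel : ℕ) : Bool :=
  chkOne tab && gens.all (chkGen p tab) && chkReach p gens ginv tab fuel

end RegCert

end Cfsg.Agent.Lib.Helper2
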