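import Mathlib
import Cfsg.Agent.Lib.Helper2.RegCert1

set_option autoImplicit false

namespace Cfsg.Agent.Lib.Helper2

namespace RegCert

open Matrix

variable {p : ℕ} [hp : Fact p.Prime]

/-- matrix from naturals -/
def matN (p : ℕ) (m : ℕ × ℕ × ℕ × ℕ) : Matrix (Fin 2) (Fin 2) (ZMod p) :=
  !![(m.1 : ZMod p), (m.2.1 : ZMod p); (m.2.2.1 : ZMod p), (m.2.2.2 : ZMod p)]

/-- second column prescribed by the table -/
def c2 (p : ℕ) (tab : List (List (ℕ × ℕ × ℕ))) (x y : ZMod p) : ZMod p × ZMod p :=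
  (((look tab (x.val, y.val)).1 : ZMod p), ((look tab (x.val, y.val)).2.1 : ZMod p))

theorem cast_mvN_fst (m : ℕ × ℕ × ℕ × ℕ) (v : ℕ × ℕ) :
    (((mvN p m v).1 : ℕ) : ZMod p) = (m.1 : ZMod p) * v.1 + (m.2.1 : ZMod p) * v.2 := by
  unfold mvN
  rw [ZMod.natCast_mod]
  push_cast
  rfl

theorem cast_mvN_snd (m : ℕ × ℕ × ℕ × ℕ) (v : ℕ × ℕ) :
    (((mvN p m v).2 : ℕ) : ZMod p) = (m.2.2.1 : ZMod p) * v.1 + (m.2.2.2 : ZMod p) * v.2 := by
  unfold mvN
  rw [ZMod.natCast_mod]
  push_cast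
  rfl

theorem val_lin (a b : ℕ) (x y : ZMod p) :
    ((a : ZMod p) * x + (b : ZMod p) * y).val = (a * x.val + b * y.val) % p := by
  have : (a : ZMod p) * x + (b : ZMod p) * y = ((a * x.val + b * y.val : ℕ) : ZMod p) := by
    push_cast
    rw [ZMod.natCast_zmod_val, ZMod.natCast_zmod_val]
  rw [this, ZMod.val_natCast]

theorem mvN_val (m : ℕ × ℕ × ℕ × ℕ) (x y : ZMod p) :
    mvN p m (x.val, y.val) =
      (((m.1 : ZMod p) * x + (m.2.1 : ZMod p) * y).val,
        ((m.2.2.1 : ZMod p) * x + (m.2.2.2 : ZMod p) * y).val) := by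
  rw [val_lin, val_lin]
  rfl

theorem gen_c2 {tab : List (List (ℕ × ℕ × ℕ))} {m : ℕ × ℕ × ℕ × ℕ}
    (h : chkGen p tab m = true) (x y : ZMod p) (hxy : ¬ (x = 0 ∧ y = 0)) :
    c2 p tab ((m.1 : ZMod p) * x + (m.2.1 : ZMod p) * y)
        ((m.2.2.1 : ZMod p) * x + (m.2.2.2 : ZMod p) * y) =
      ((m.1 : ZMod p) * (c2 p tab x y).1 + (m.2.1 : ZMod p) * (c2 p tab x y).2,
        (m.2.2.1 : ZMod p) * (c2 p tab x y).1 + (m.2.2.2 : ZMod p) * (c2 p tab x y).2) := by
  unfold chkGen at h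
  rw [List.all_eq_true] at h
  have h1 := h x.val (List.mem_range.2 (ZMod.val_lt x))
  rw [List.all_eq_true] at h1
  have h2 := h1 y.val (List.mem_range.2 (ZMod.val_lt y))
  simp only [Bool.or_eq_true, Bool.and_eq_true, beq_iff_eq] at h2
  rcases h2 with h2 | h2
  · exfalso
    exact hxy ⟨(ZMod.val_eq_zero x).1 h2.1, (ZMod.val_eq_zero y).1 h2.2⟩
  · rw [mvN_val] at h2
    have e1 := congrArg (fun q : ℕ × ℕ => ((q.1 : ℕ) : ZMod p)) h2
    have e2 := congrArg (fun q : ℕ × ℕ => ((q.2 : ℕ) : ZMod p)) h2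
    simp only [cast_mvN_fst, cast_mvN_snd] at e1 e2
    unfold c2
    rw [← e1, ← e2]

/-- the set of group elements whose second column is given by the table -/
def LSet (p : ℕ) (tab : List (List (ℕ × ℕ × ℕ))) : Set (GL (Fin 2) (ZMod p)) :=
  {g | (g.val 0 1, g.val 1 1) = c2 p tab (g.val 0 0) (g.val 1 0)}

theorem col_ne_zero (g : GL (Fin 2) (ZMod p)) : ¬ (g.val 0 0 = 0 ∧ g.val 1 0 = 0) := by
  rintro ⟨h0, h1⟩
  have hd := (Matrix.isUnits_det_units g).ne_zero
  rw [Matrix.det_fin_two, h0, h1] at hd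
  simp at hd

theorem mul_mem_LSet {tab : List (List (ℕ × ℕ × ℕ))} {m : ℕ × ℕ × ℕ × ℕ}
    (h : chkGen p tab m = true) (g k : GL (Fin 2) (ZMod p)) (hg : g.val = matN p m)
    (hk : k ∈ LSet p tab) : g * k ∈ LSet p tab := by
  have hk' : (k.val 0 1, k.val 1 1) = c2 p tab (k.val 0 0) (k.val 1 0) := hk
  have key := gen_c2 h (k.val 0 0) (k.val 1 0) (col_ne_zero k)
  rw [← hk'] at key
  show ((g * k).val 0 1, (g * k).val 1 1) = c2 p tab ((g * k).val 0 0) ((g * k).val 1 0)
  have e : (g * k).val = matN p m * k.val := by rw [Units.val_mul, hg]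
  rw [e]
  simp only [matN, Matrix.mul_apply, Fin.sum_univ_two, Matrix.of_apply, Matrix.cons_val_zero,
    Matrix.cons_val_one, Matrix.cons_val', Matrix.cons_val_fin_one]
  rw [key]

theorem one_mem_LSet {tab : List (List (ℕ × ℕ × ℕ))} (h : chkOne tab = true) :
    (1 : GL (Fin 2) (ZMod p)) ∈ LSet p tab := by
  unfold chkOne at h
  simp only [Bool.and_eq_true, beq_iff_eq] at h
  show ((1 : GL (Fin 2) (ZMod p)).val 0 1, (1 : GL (Fin 2) (ZMod p)).val 1 1) =
    c2 p tab ((1 : GL (Fin 2) (ZMod p)).val 0 0) ((1 : GL (Fin 2) (ZMod p)).val 1 0)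
  have h1 : ((1 : ZMod p)).val = 1 := by
    haveI : Fact (1 < p) := ⟨hp.out.one_lt⟩
    exact ZMod.val_one p
  simp only [Units.val_one, Matrix.one_apply_eq, Matrix.one_apply_ne (zero_ne_one' (Fin 2)),
    Matrix.one_apply_ne (zero_ne_one' (Fin 2)).symm]
  unfold c2
  rw [h1, ZMod.val_zero, h.1, h.2]
  simp

theorem eq_of_mem_LSet {tab : List (List (ℕ × ℕ × ℕ))} {g k : GL (Fin 2) (ZMod p)}
    (hg : g ∈ LSet p tab) (hk : k ∈ LSet p tab) (h0 : g.val 0 0 = k.val 0 0)
    (h1 : g.val 1 0 = k.val 1 0) : g = k := by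
  have hg' : (g.val 0 1, g.val 1 1) = c2 p tab (g.val 0 0) (g.val 1 0) := hg
  have hk' : (k.val 0 1, k.val 1 1) = c2 p tab (k.val 0 0) (k.val 1 0) := hk
  rw [h0, h1, ← hk'] at hg'
  rw [Prod.mk.injEq] at hg'
  apply Units.ext
  ext i j
  fin_cases i <;> fin_cases j
  · exact h0
  · exact hg'.1
  · exact h1
  · exact hg'.2

/-- the closure of generators compatible with the table lies in `LSet` -/
theorem closure_le_LSet {tab : List (List (ℕ × ℕ × ℕ))} {gens : List (ℕ × ℕ × ℕ × ℕ)}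
    (h1 : chkOne tab = true) (h2 : gens.all (chkGen p tab) = true)
    (S : Set (GL (Fin 2) (ZMod p)))
    (hS : ∀ g ∈ S, ∃ m ∈ gens, g.val = matN p m) :
    ∀ x ∈ Subgroup.closure S, x ∈ LSet p tab := by
  rw [List.all_eq_true] at h2
  have key : ∀ x ∈ Subgroup.closure S, ∀ k ∈ LSet p tab, x * k ∈ LSet p tab := by
    intro x hx
    induction hx using Subgroup.closure_induction with
    | mem g hg =>
      intro k hk
      obtain ⟨m, hm, hgm⟩ := hS g hg
      exact mul_mem_LSet (h2 m hm) g k hgm hk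
    | one => intro k hk; rwa [one_mul]
    | mul x y _ _ ihx ihy =>
      intro k hk
      rw [mul_assoc]
      exact ihx _ (ihy k hk)
    | inv x _ ih =>
      intro k hk
      let f : LSet p tab → LSet p tab := fun k => ⟨x * k.1, ih k.1 k.2⟩
      have hinj : Function.Injective f := by
        intro a b hab
        have := congrArg Subtype.val hab
        exact Subtype.ext (mul_left_cancel this)
      obtain ⟨k', hk'⟩ := (Finite.injective_iff_surjective.1 hinj) ⟨k, hk⟩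
      have e : x * k'.1 = k := congrArg Subtype.val hk'
      have : x⁻¹ * k = k'.1 := by rw [← e, inv_mul_cancel_left]
      rw [this]; exact k'.2
  intro x hx
  have := key x hx 1 (one_mem_LSet h1)
  rwa [mul_one] at this

/-- reachability -/
theorem exists_of_reach {tab : List (List (ℕ × ℕ × ℕ))} {gens ginv : List (ℕ × ℕ × ℕ × ℕ)}
    (S : Set (GL (Fin 2) (ZMod p)))
    (hS : ∀ m ∈ gens, ∃ g ∈ S, g.val = matN p m) :
    ∀ (n : ℕ) (v : ℕ × ℕ), reach p gens ginv tab n v = true →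
      ∃ g ∈ Subgroup.closure S, g.val 0 0 = (v.1 : ZMod p) ∧ g.val 1 0 = (v.2 : ZMod p) := by
  have base : ∀ v : ℕ × ℕ, v = (1, 0) →
      ∃ g ∈ Subgroup.closure S, g.val 0 0 = (v.1 : ZMod p) ∧ g.val 1 0 = (v.2 : ZMod p) := by
    rintro v rfl
    exact ⟨1, Subgroup.one_mem _, by simp, by simp⟩
  intro n
  induction n with
  | zero =>
    intro v hv
    unfold reach at hv
    exact base v (beq_iff_eq.1 hv)
  | succ n ih =>
    intro v hv
    unfold reach at hv
    rw [Bool.or_eq_true] at hv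
    rcases hv with hv | hv
    · exact base v (beq_iff_eq.1 hv)
    · split at hv
      · exact absurd hv (by simp)
      · rename_i m hm
        rw [Bool.and_eq_true, beq_iff_eq] at hv
        obtain ⟨hv1, hv2⟩ := hv
        obtain ⟨g₀, hg₀, e0, e1⟩ := ih _ hv2
        have hmem : m ∈ gens := List.mem_of_getElem? hm
        obtain ⟨G, hG, hGm⟩ := hS m hmem
        refine ⟨G * g₀, Subgroup.mul_mem _ (Subgroup.subset_closure hG) hg₀, ?_, ?_⟩
        · rw [Units.val_mul, hGm]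
          simp only [matN, Matrix.mul_apply, Fin.sum_univ_two, Matrix.of_apply,
            Matrix.cons_val_zero, Matrix.cons_val_one, Matrix.cons_val', Matrix.cons_val_fin_one]
          rw [e0, e1, ← cast_mvN_fst, hv1]
        · rw [Units.val_mul, hGm]
          simp only [matN, Matrix.mul_apply, Fin.sum_univ_two, Matrix.of_apply,
            Matrix.cons_val_zero, Matrix.cons_val_one, Matrix.cons_val', Matrix.cons_val_fin_one]
          rw [e0, e1, ← cast_mvN_snd, hv1]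

end RegCert

end Cfsg.Agent.Lib.Helper2
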