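import Mathlib
import Cfsg.Agent.Lib.Helper2.RegCert2

set_option autoImplicit false

namespace Cfsg.Agent.Lib.Helper2

namespace RegCert

open Matrix

variable {p : ℕ} [hp : Fact p.Prime]

/-- first column -/
def col (g : GL (Fin 2) (ZMod p)) : Fin 2 → ZMod p := fun i => g.val i 0

theorem col_mul (g k : GL (Fin 2) (ZMod p)) : col (g * k) = g.val *ᵥ col k := by
  ext i
  simp only [col, Units.val_mul, Matrix.mul_apply, Matrix.mulVec, dotProduct]

theorem col_ne (g : GL (Fin 2) (ZMod p)) : col g ≠ 0 := by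
  intro h
  apply col_ne_zero g
  exact ⟨congrFun h 0, congrFun h 1⟩

theorem card_nonzero : Nat.card {v : Fin 2 → ZMod p // v ≠ 0} = p ^ 2 - 1 := by
  classical
  rw [Nat.card_eq_fintype_card, Fintype.card_subtype_compl, Fintype.card_subtype_eq,
    Fintype.card_fun, ZMod.card, Fintype.card_fin]

theorem main {tab : List (List (ℕ × ℕ × ℕ))} {gens ginv : List (ℕ × ℕ × ℕ × ℕ)} {fuel : ℕ}
    (hchk : chkAll p gens ginv tab fuel = true)
    (S : Set (GL (Fin 2) (ZMod p)))
    (hS1 : ∀ g ∈ S, ∃ m ∈ gens, g.val = matN p m)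
    (hS2 : ∀ m ∈ gens, ∃ g ∈ S, g.val = matN p m) :
    Nat.card (Subgroup.closure S) = p ^ 2 - 1 ∧
    ∀ v w : Fin 2 → ZMod p, v ≠ 0 → w ≠ 0 →
      ∃! h : Subgroup.closure S,
        Matrix.mulVec ((h : GL (Fin 2) (ZMod p)) : Matrix (Fin 2) (Fin 2) (ZMod p)) v = w := by
  unfold chkAll at hchk
  rw [Bool.and_eq_true, Bool.and_eq_true] at hchk
  obtain ⟨⟨h1, h2⟩, h3⟩ := hchk
  have hL := closure_le_LSet h1 h2 S hS1
  have hinj : ∀ a b : Subgroup.closure S, col a.1 = col b.1 → a = b := by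
    intro a b hab
    apply Subtype.ext
    exact eq_of_mem_LSet (hL a.1 a.2) (hL b.1 b.2) (congrFun hab 0) (congrFun hab 1)
  have hsurj : ∀ v : Fin 2 → ZMod p, v ≠ 0 → ∃ a : Subgroup.closure S, col a.1 = v := by
    intro v hv
    unfold chkReach at h3
    rw [List.all_eq_true] at h3
    have h4 := h3 (v 0).val (List.mem_range.2 (ZMod.val_lt _))
    rw [List.all_eq_true] at h4
    have h5 := h4 (v 1).val (List.mem_range.2 (ZMod.val_lt _))
    simp only [Bool.or_eq_true, Bool.and_eq_true, beq_iff_eq] at h5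
    rcases h5 with h5 | h5
    · exfalso
      apply hv
      ext i
      fin_cases i
      · exact (ZMod.val_eq_zero _).1 h5.1
      · exact (ZMod.val_eq_zero _).1 h5.2
    · obtain ⟨g, hg, e0, e1⟩ := exists_of_reach S hS2 fuel _ h5
      refine ⟨⟨g, hg⟩, ?_⟩
      ext i
      fin_cases i
      · show g.val 0 0 = v 0
        rw [e0]; exact ZMod.natCast_zmod_val _
      · show g.val 1 0 = v 1
        rw [e1]; exact ZMod.natCast_zmod_val _
  constructor
  · rw [← card_nonzero (p := p)]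
    apply Nat.card_congr
    refine Equiv.ofBijective (fun a => ⟨col a.1, col_ne a.1⟩) ⟨?_, ?_⟩
    · intro a b hab
      exact hinj a b (congrArg Subtype.val hab)
    · rintro ⟨v, hv⟩
      obtain ⟨a, ha⟩ := hsurj v hv
      exact ⟨a, Subtype.ext ha⟩
  · intro v w hv hw
    obtain ⟨a, ha⟩ := hsurj v hv
    obtain ⟨b, hb⟩ := hsurj w hw
    refine ⟨b * a⁻¹, ?_, ?_⟩
    · show ((b * a⁻¹ : Subgroup.closure S) : GL (Fin 2) (ZMod p)).val *ᵥ v = w
      rw [← ha, ← col_mul, ← hb]
      congr 1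
      show (b.1 * a.1⁻¹) * a.1 = b.1
      rw [inv_mul_cancel_right]
    · intro c hc
      have hc' : (c : GL (Fin 2) (ZMod p)).val *ᵥ v = w := hc
      rw [← ha, ← col_mul, ← hb] at hc'
      have := hinj (c * a) b hc'
      rw [← this, mul_inv_cancel_right]

end RegCert

end Cfsg.Agent.Lib.Helper2
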