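import Mathlib
import Cfsg.Agent.Lib.Helper2.RegCert1

set_option autoImplicit false

namespace Cfsg.Agent.Lib.Helper2

namespace RegCert

def gens11 : List (ℕ × ℕ × ℕ × ℕ) := [(0, 10, 1, 0), (2, 4, 1, 8)]

def ginv11 : List (ℕ × ℕ × ℕ × ℕ) := [(0, 1, 10, 0), (8, 7, 10, 2)]

def tab11 : List (List (ℕ × ℕ × ℕ)) := [
  [(0, 0, 0), (10, 0, 0), (5, 7, 1), (7, 10, 1), (8, 1, 1), (2, 7, 1), (9, 4, 1), (3, 10, 1), (4, 1, 1), (6, 4, 1), (1, 0, 0)],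
  [(0, 1, 0), (1, 2, 0), (10, 10, 0), (7, 0, 0), (4, 6, 1), (6, 9, 1), (5, 9, 1), (3, 0, 0), (9, 7, 0), (8, 7, 0), (2, 10, 1)],
  [(7, 6, 0), (4, 8, 1), (2, 8, 0), (3, 5, 0), (1, 8, 0), (6, 10, 0), (5, 10, 1), (0, 6, 1), (9, 9, 0), (8, 9, 1), (10, 1, 1)],
  [(10, 4, 1), (4, 9, 1), (2, 9, 1), (3, 7, 1), (1, 9, 0), (9, 8, 0), (6, 5, 1), (8, 8, 1), (7, 8, 1), (5, 8, 1), (0, 4, 1)],
  [(1, 3, 0), (0, 3, 1), (5, 0, 1), (3, 8, 1), (4, 7, 1), (2, 0, 0), (10, 7, 1), (7, 7, 0), (9, 10, 1), (8, 10, 1), (6, 7, 1)],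
  [(7, 9, 1), (2, 5, 0), (1, 5, 1), (6, 6, 0), (4, 10, 1), (5, 3, 0), (3, 6, 1), (0, 9, 1), (8, 2, 1), (10, 5, 1), (9, 5, 1)],
  [(4, 2, 1), (2, 6, 1), (1, 6, 1), (3, 9, 1), (0, 2, 1), (8, 5, 1), (6, 8, 0), (7, 1, 0), (5, 5, 0), (10, 6, 1), (9, 6, 0)],
  [(10, 8, 0), (5, 4, 0), (3, 1, 1), (2, 1, 1), (4, 4, 1), (1, 4, 1), (9, 0, 0), (7, 4, 1), (8, 3, 1), (6, 0, 1), (0, 8, 1)],
  [(1, 7, 0), (0, 7, 1), (6, 3, 1), (4, 3, 1), (3, 3, 1), (5, 6, 1), (2, 3, 0), (10, 2, 0), (8, 4, 1), (9, 2, 1), (7, 2, 1)],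
  [(4, 5, 0), (1, 10, 1), (3, 2, 1), (2, 2, 0), (0, 5, 1), (6, 1, 1), (5, 1, 0), (10, 3, 0), (8, 6, 0), (9, 3, 0), (7, 3, 1)],
  [(0, 10, 0), (9, 1, 1), (3, 4, 0), (2, 4, 0), (8, 0, 0), (6, 2, 1), (5, 2, 1), (7, 5, 1), (4, 0, 0), (1, 1, 0), (10, 9, 0)]]

set_option maxRecDepth 100000 in
theorem chk11 : chkAll 11 gens11 ginv11 tab11 13 = true := by decide +kernel

end RegCert

end Cfsg.Agent.Lib.Helper2
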