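import Mathlib
import Cfsg.Agent.Lib.Helper2.RegCert1

set_option autoImplicit false

namespace Cfsg.Agent.Lib.Helper2

namespace RegCert

def gens5 : List (ℕ × ℕ × ℕ × ℕ) := [(2, 0, 0, 3), (0, 4, 1, 0), (1, 2, 1, 3)]

def ginv5 : List (ℕ × ℕ × ℕ × ℕ) := [(3, 0, 0, 2), (0, 1, 4, 0), (3, 3, 4, 1)]

def tab5 : List (List (ℕ × ℕ × ℕ)) := [
  [(0, 0, 0), (4, 0, 1), (2, 0, 1), (3, 0, 0), (1, 0, 1)],
  [(0, 1, 0), (2, 3, 2), (1, 3, 2), (4, 3, 2), (3, 3, 2)],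
  [(0, 3, 0), (2, 4, 2), (1, 4, 2), (4, 4, 2), (3, 4, 2)],
  [(0, 2, 0), (2, 1, 2), (1, 1, 1), (4, 1, 0), (3, 1, 2)],
  [(0, 4, 0), (2, 2, 1), (1, 2, 2), (4, 2, 2), (3, 2, 2)]]

set_option maxRecDepth 100000 in
theorem chk5 : chkAll 5 gens5 ginv5 tab5 5 = true := by decide +kernel

end RegCert

end Cfsg.Agent.Lib.Helper2
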