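import Mathlib
import Cfsg.Agent.Lib.Helper2.RegCert1

set_option autoImplicit false

namespace Cfsg.Agent.Lib.Helper2

namespace RegCert

def gens59 : List (ℕ × ℕ × ℕ × ℕ) := [(0, 58, 1, 0), (9, 15, 49, 49), (4, 0, 0, 4)]

def ginv59 : List (ℕ × ℕ × ℕ × ℕ) := [(0, 1, 58, 0), (49, 44, 10, 9), (15, 0, 0, 15)]

def tab59 : List (List (ℕ × ℕ × ℕ)) := [
  [(0, 0, 0), (58, 0, 0), (57, 0, 2), (56, 0, 2), (55, 0, 2), (54, 0, 2), (53, 0, 2), (52, 0, 2), (51, 0, 2), (50, 0, 2), (49, 0, 2), (48, 0, 2), (47, 0, 2), (46, 0, 2), (45, 0, 2), (44, 0, 2), (43, 0, 2), (42, 0, 2), (41, 0, 2), (40, 0, 2), (39, 0, 2), (38, 0, 2), (37, 0, 2), (36, 0, 2), (35, 0, 2), (34, 0, 2), (33, 0, 2), (32, 0, 2), (31, 0, 2), (30, 0, 2), (29, 0, 2), (28, 0, 2), (27, 0, 2), (26, 0, 2), (25, 0, 2), (24, 0, 2), (23, 0, 2), (22, 0, 2), (21, 0, 2), (20, 0, 2), (19, 0, 2),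 (18, 0, 2), (17, 0, 2), (16, 0, 2), (15, 0, 2), (14, 0, 2), (13, 0, 2), (12, 0, 2), (11, 0, 2), (10, 0, 2), (9, 0, 2), (8, 0, 2), (7, 0, 2), (6, 0, 2), (5, 0, 2), (4, 0, 2), (3, 0, 2), (2, 0, 2), (1, 0, 0)],
  [(0, 1, 0), (54, 31, 2), (2, 8, 2), (30, 58, 2), (29, 58, 1), (5, 45, 2), (18, 16, 2), (21, 48, 2), (8, 58, 2), (47, 58, 2), (45, 23, 2), (38, 26, 2), (41, 12, 2), (13, 21, 2), (36, 39, 2), (46, 58, 2), (56, 18, 2), (33, 39, 2), (6, 16, 2), (23, 40, 2), (53, 25, 2), (7, 48, 2), (22, 58, 2), (19, 40, 2), (32, 58, 2), (28, 12, 2), (26, 9, 2), (27, 38, 2), (25, 12, 2), (4, 58, 0), (3, 58, 2), (58, 5, 2), (24, 58, 2), (17, 39, 2), (48, 58, 2), (35, 14, 2), (14, 39, 2), (52, 5, 2), (11, 26, 2), (39, 49, 2), (51, 56, 2), (12, 12, 2), (49, 56, 2), (43, 46, 2), (44, 37, 2), (10, 23, 2), (15, 58, 2), (9, 58, 2), (34, 58, 2), (42, 56, 2),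 (50, 42, 2), (40, 56, 2), (37, 5, 2), (20, 25, 2), (1, 31, 2), (55, 52, 2), (16, 18, 2), (57, 53, 2), (31, 5, 2)],
  [(0, 2, 2), (6, 57, 2), (49, 3, 2), (57, 10, 2), (4, 16, 2), (48, 57, 2), (1, 57, 2), (34, 19, 2), (58, 57, 2), (37, 57, 2), (10, 31, 2), (11, 28, 2), (36, 32, 2), (28, 19, 2), (42, 37, 2), (45, 10, 2), (16, 57, 2), (22, 52, 2), (35, 57, 2), (19, 39, 2), (31, 46, 2), (43, 53, 2), (17, 52, 2), (24, 24, 2), (23, 24, 2), (39, 53, 2), (26, 42, 2), (27, 33, 2), (13, 19, 2), (29, 15, 2), (33, 57, 2), (20, 46, 2), (53, 36, 2), (30, 57, 2), (7, 19, 2), (18, 57, 2), (12, 32, 2), (9, 57, 2), (46, 21, 2), (25, 53, 2), (47, 50, 2), (41, 25, 2), (14, 37, 2), (21, 53, 2), (44, 57, 2), (15, 10, 2), (38, 21, 2), (40, 50, 2), (5, 57, 2), (2, 3, 2), (56, 24, 2), (51, 45, 2), (52, 18, 2), (32, 36, 2), (54, 17, 2), (55, 47, 2), (50, 24,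 2), (3, 10, 2), (8, 57, 2)],
  [(0, 3, 2), (41, 16, 2), (35, 50, 2), (44, 34, 2), (21, 26, 2), (36, 36, 2), (6, 24, 2), (7, 56, 1), (29, 50, 2), (31, 56, 2), (57, 2, 2), (11, 20, 2), (28, 56, 2), (37, 56, 2), (14, 52, 2), (15, 17, 2), (25, 36, 2), (30, 10, 2), (54, 48, 2), (19, 27, 2), (45, 56, 2), (4, 26, 2), (22, 55, 2), (27, 56, 2), (24, 56, 2), (16, 36, 2), (43, 56, 2), (23, 56, 2), (12, 56, 2), (8, 50, 2), (17, 10, 2), (9, 56, 2), (32, 8, 2), (55, 19, 2), (56, 15, 2), (2, 50, 2), (5, 36, 2), (13, 56, 2), (52, 15, 2), (39, 4, 2), (51, 58, 2), (1, 16, 2), (49, 58, 2), (26, 56, 2), (3, 34, 2), (20, 56, 2), (46, 42, 2), (47, 38, 2), (50, 54, 2), (42, 58, 2), (48, 54, 2), (40, 58, 2), (38, 15, 2), (53, 41, 2), (18, 48, 2), (33, 19, 2), (34, 15, 2), (10, 2, 2), (58, 29, 2)],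
  [(0, 4, 2), (7, 55, 2), (12, 55, 2), (40, 33, 2), (39, 6, 2), (47, 13, 2), (55, 20, 2), (1, 55, 2), (8, 32, 2), (14, 38, 2), (37, 55, 2), (36, 55, 0), (2, 55, 2), (24, 5, 2), (9, 38, 2), (18, 55, 2), (57, 55, 2), (33, 42, 2), (15, 55, 2), (50, 47, 2), (20, 3, 2), (35, 41, 2), (22, 56, 2), (23, 50, 2), (13, 5, 2), (28, 15, 2), (56, 38, 2), (42, 47, 2), (25, 15, 2), (29, 55, 2), (31, 20, 2), (30, 20, 2), (32, 55, 2), (17, 42, 2), (44, 45, 2), (21, 41, 2), (11, 55, 1), (10, 55, 2), (38, 19, 2), (4, 6, 2), (3, 33, 2), (53, 48, 2), (27, 47, 2), (43, 31, 2), (34, 45, 2), (45, 36, 2), (48, 48, 2), (5, 13, 2), (46, 48, 2), (49, 34, 2), (19, 47, 2), (51, 35, 2), (52, 25, 2), (41, 48, 2), (54, 7, 2), (6, 20, 2), (26, 38, 2), (16, 55, 2), (58, 30, 0)],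
  [(0, 5, 2), (28, 1, 2), (42, 54, 2), (11, 18, 2), (52, 54, 2), (34, 37, 2), (6, 46, 2), (22, 1, 2), (24, 25, 2), (33, 44, 2), (10, 40, 2), (3, 18, 2), (12, 45, 2), (55, 12, 2), (14, 33, 2), (32, 54, 2), (53, 54, 2), (17, 13, 2), (18, 9, 2), (23, 44, 2), (27, 54, 2), (44, 31, 2), (7, 1, 2), (19, 44, 2), (8, 25, 2), (25, 48, 2), (47, 18, 2), (20, 54, 2), (1, 1, 2), (41, 7, 2), (31, 21, 1), (30, 21, 0), (15, 54, 2), (9, 44, 2), (5, 37, 2), (46, 4, 2), (56, 23, 2), (54, 25, 2), (38, 53, 1), (39, 24, 2), (40, 54, 2), (29, 7, 2), (2, 54, 2), (43, 8, 2), (21, 31, 2), (58, 54, 2), (35, 4, 2), (26, 18, 2), (50, 56, 2), (49, 29, 2), (48, 56, 2), (51, 54, 2), (4, 54, 2), (16, 54, 2), (37, 25, 2), (13, 12, 2), (36, 23, 2), (57, 11, 2), (45, 54, 2)],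
  [(0, 6, 2), (34, 20, 2), (23, 32, 2), (18, 53, 2), (11, 41, 2), (5, 16, 2), (29, 9, 2), (51, 38, 2), (42, 52, 2), (53, 30, 2), (13, 13, 2), (4, 41, 2), (12, 48, 2), (10, 13, 2), (14, 53, 2), (26, 53, 2), (58, 41, 2), (45, 30, 2), (3, 53, 2), (19, 8, 2), (55, 4, 2), (43, 57, 2), (22, 40, 2), (2, 32, 2), (56, 53, 2), (39, 57, 2), (15, 53, 2), (52, 53, 2), (28, 45, 2), (6, 9, 2), (30, 34, 2), (40, 53, 2), (50, 13, 2), (33, 25, 2), (1, 20, 2), (35, 17, 2), (49, 37, 2), (41, 49, 2), (38, 54, 1), (25, 57, 2), (31, 53, 2), (37, 49, 2), (8, 52, 2), (21, 57, 2), (44, 51, 2), (17, 30, 2), (54, 53, 2), (47, 23, 2), (48, 53, 2), (36, 37, 2), (32, 13, 2), (7, 38, 2), (27, 53, 2), (9, 30, 2), (46, 53, 2), (20, 4, 2), (24, 53, 2), (57, 58, 2), (16, 41, 2)],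
  [(0, 7, 2), (54, 37, 2), (41, 52, 2), (44, 38, 2), (34, 52, 2), (5, 4, 2), (6, 27, 2), (24, 40, 2), (42, 53, 2), (9, 39, 2), (23, 35, 2), (20, 43, 2), (12, 30, 2), (13, 23, 2), (14, 56, 2), (43, 44, 2), (39, 37, 2), (22, 57, 2), (30, 5, 2), (57, 25, 2), (11, 43, 2), (33, 52, 2), (17, 57, 2), (10, 35, 2), (7, 40, 2), (51, 25, 2), (28, 52, 2), (46, 52, 2), (26, 52, 2), (49, 41, 2), (18, 5, 2), (31, 10, 2), (32, 29, 2), (21, 52, 2), (4, 52, 2), (35, 20, 2), (36, 52, 2), (37, 48, 2), (53, 8, 2), (16, 37, 2), (52, 35, 2), (2, 52, 2), (8, 53, 2), (15, 44, 2), (3, 38, 2), (45, 17, 2), (27, 52, 2), (50, 52, 2), (58, 38, 2), (29, 41, 2), (47, 52, 2), (25, 25, 2), (40, 35, 2), (38, 8, 2), (1, 37, 2), (55, 58, 2), (56, 52, 0), (19, 25, 2), (48, 38, 2)],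
  [(0, 8, 2), (3, 40, 2), (14, 51, 2), (1, 40, 2), (24, 51, 2), (5, 51, 2), (21, 7, 2), (34, 25, 2), (19, 12, 2), (29, 31, 2), (35, 26, 2), (42, 23, 2), (51, 40, 2), (22, 51, 2), (2, 51, 2), (20, 51, 2), (16, 5, 2), (17, 38, 2), (28, 17, 2), (8, 12, 2), (15, 51, 2), (6, 7, 2), (13, 51, 2), (47, 37, 2), (4, 51, 2), (54, 35, 2), (48, 10, 2), (27, 3, 2), (18, 17, 2), (9, 31, 2), (36, 51, 2), (31, 13, 2), (55, 51, 2), (37, 37, 2), (7, 25, 2), (10, 26, 2), (30, 51, 2), (33, 37, 2), (41, 35, 2), (39, 9, 2), (40, 6, 2), (38, 35, 2), (11, 23, 2), (43, 11, 2), (44, 53, 2), (45, 50, 2), (46, 41, 2), (23, 37, 2), (26, 10, 2), (49, 14, 2), (56, 30, 2), (12, 40, 2), (53, 17, 2), (52, 17, 2), (25, 35, 2), (32, 51, 2), (50, 30, 2), (57, 1, 2), (58, 51, 2)],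
  [(0, 9, 2), (17, 50, 2), (35, 56, 2), (5, 48, 2), (12, 19, 2), (3, 48, 2), (46, 32, 2), (7, 47, 2), (29, 56, 2), (14, 43, 2), (22, 50, 2), (19, 50, 2), (4, 19, 2), (13, 50, 2), (9, 43, 2), (49, 49, 0), (48, 49, 2), (1, 50, 2), (18, 13, 2), (11, 50, 2), (20, 8, 2), (21, 50, 2), (10, 50, 2), (23, 55, 2), (28, 32, 2), (36, 50, 2), (32, 44, 2), (34, 50, 2), (24, 32, 2), (8, 56, 2), (53, 6, 2), (51, 30, 2), (26, 44, 2), (33, 1, 2), (27, 50, 2), (2, 56, 2), (25, 50, 2), (37, 24, 2), (55, 45, 2), (52, 50, 2), (47, 57, 2), (41, 5, 2), (42, 38, 2), (50, 45, 2), (54, 26, 2), (45, 51, 2), (6, 32, 2), (40, 57, 2), (16, 49, 2), (15, 49, 1), (43, 45, 2), (31, 30, 2), (39, 50, 2), (30, 6, 2), (44, 26, 2), (38, 45, 2), (56, 28, 2), (57, 22, 2), (58, 12, 2)],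
  [(0, 10, 2), (3, 42, 2), (56, 2, 2), (1, 42, 2), (25, 49, 2), (30, 49, 2), (22, 36, 2), (18, 29, 2), (45, 49, 2), (10, 15, 0), (9, 15, 0), (33, 8, 2), (12, 33, 2), (53, 46, 2), (44, 2, 2), (49, 50, 0), (48, 50, 2), (17, 47, 2), (7, 29, 2), (19, 48, 1), (20, 21, 2), (21, 49, 2), (6, 36, 2), (58, 14, 2), (24, 31, 2), (4, 49, 2), (51, 24, 2), (27, 16, 2), (28, 7, 2), (42, 3, 2), (5, 49, 2), (57, 49, 2), (47, 49, 2), (11, 8, 2), (34, 26, 2), (52, 36, 2), (36, 18, 2), (41, 53, 2), (46, 29, 2), (39, 58, 2), (54, 49, 2), (37, 53, 2), (29, 3, 2), (43, 49, 2), (14, 2, 2), (8, 49, 2), (38, 29, 2), (32, 49, 2), (16, 50, 2), (15, 50, 1), (50, 37, 2), (26, 24, 2), (35, 36, 2), (13, 46, 2), (40, 49, 2), (55, 22, 2), (2, 2, 2), (31, 49, 2), (23, 14, 2)],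
  [(0, 11, 2), (1, 34, 2), (2, 5, 2), (5, 50, 2), (11, 46, 2), (3, 50, 2), (6, 48, 2), (21, 58, 2), (49, 26, 2), (10, 16, 2), (9, 16, 2), (4, 46, 2), (12, 53, 2), (39, 14, 1), (38, 14, 2), (15, 41, 2), (16, 8, 2), (32, 27, 2), (54, 56, 2), (19, 49, 0), (56, 48, 2), (7, 58, 2), (22, 29, 2), (51, 17, 2), (44, 48, 2), (25, 54, 2), (58, 21, 2), (30, 26, 2), (57, 48, 2), (29, 48, 2), (27, 26, 2), (31, 36, 2), (17, 27, 2), (35, 48, 2), (47, 48, 2), (33, 48, 2), (42, 16, 2), (37, 52, 2), (14, 14, 2), (13, 14, 1), (45, 48, 2), (53, 55, 2), (36, 16, 2), (52, 39, 2), (24, 48, 2), (40, 48, 2), (48, 55, 2), (34, 48, 2), (46, 55, 2), (8, 26, 2), (50, 40, 2), (23, 17, 2), (43, 39, 2), (41, 55, 2), (18, 56, 2), (55, 23, 1), (20, 48, 2), (28, 48, 2), (26, 21, 2)],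
  [(0, 12, 2), (1, 9, 2), (9, 40, 2), (21, 47, 2), (46, 5, 2), (41, 26, 2), (36, 47, 2), (7, 50, 2), (22, 23, 2), (2, 40, 2), (10, 32, 2), (11, 34, 2), (58, 18, 2), (39, 15, 2), (43, 17, 2), (23, 39, 2), (25, 45, 2), (17, 49, 2), (47, 1, 2), (50, 55, 2), (26, 26, 2), (3, 47, 2), (8, 23, 2), (15, 39, 2), (24, 37, 2), (16, 45, 2), (20, 26, 2), (42, 55, 2), (28, 47, 2), (29, 43, 2), (52, 47, 2), (34, 1, 2), (57, 23, 2), (49, 47, 2), (31, 1, 2), (35, 46, 2), (6, 47, 2), (37, 47, 2), (38, 16, 2), (13, 15, 2), (51, 8, 2), (5, 26, 2), (27, 55, 2), (14, 17, 2), (44, 21, 2), (54, 47, 2), (4, 5, 2), (18, 1, 2), (53, 47, 2), (33, 47, 2), (19, 55, 2), (40, 8, 2), (30, 47, 2), (48, 47, 2), (45, 47, 2), (55, 57, 2), (56, 31, 2), (32, 23, 2), (12, 18, 2)],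
  [(0, 13, 2), (1, 15, 2), (38, 38, 2), (17, 46, 2), (11, 48, 2), (55, 35, 2), (6, 54, 2), (7, 27, 2), (18, 46, 2), (27, 6, 2), (30, 38, 2), (4, 48, 2), (54, 4, 2), (53, 49, 2), (48, 20, 1), (47, 20, 2), (44, 35, 2), (3, 46, 2), (8, 46, 2), (57, 31, 2), (31, 57, 2), (58, 46, 2), (25, 43, 2), (52, 46, 2), (40, 30, 2), (22, 43, 2), (26, 45, 2), (9, 6, 2), (28, 8, 2), (34, 46, 2), (10, 38, 2), (20, 57, 2), (37, 34, 2), (33, 40, 2), (29, 46, 2), (35, 47, 2), (39, 46, 2), (32, 34, 2), (2, 38, 2), (36, 46, 2), (24, 30, 2), (41, 9, 2), (42, 5, 2), (43, 58, 2), (16, 35, 2), (45, 46, 2), (49, 6, 2), (15, 20, 2), (14, 20, 0), (46, 6, 2), (50, 46, 2), (51, 37, 2), (23, 46, 2), (13, 49, 2), (12, 4, 2), (5, 35, 2), (56, 22, 2), (19, 31, 2), (21, 46, 2)],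
  [(0, 14, 2), (36, 10, 2), (49, 15, 2), (3, 20, 2), (23, 45, 2), (5, 58, 2), (29, 17, 2), (42, 45, 2), (9, 45, 2), (8, 45, 2), (10, 8, 2), (11, 40, 2), (12, 54, 2), (13, 45, 2), (48, 21, 2), (15, 37, 2), (25, 47, 2), (47, 16, 2), (18, 19, 0), (32, 15, 2), (46, 11, 0), (45, 11, 2), (40, 27, 2), (4, 45, 2), (24, 1, 2), (16, 47, 2), (26, 46, 2), (30, 29, 2), (28, 53, 2), (6, 17, 2), (27, 29, 2), (31, 34, 2), (19, 15, 2), (54, 45, 2), (44, 55, 2), (41, 45, 2), (1, 10, 2), (57, 17, 2), (55, 50, 2), (58, 23, 2), (22, 27, 2), (35, 45, 2), (7, 45, 2), (50, 50, 2), (34, 55, 2), (21, 11, 2), (20, 11, 1), (17, 16, 2), (14, 21, 2), (2, 15, 2), (43, 50, 2), (51, 57, 2), (56, 45, 2), (53, 45, 2), (33, 45, 2), (38, 50, 2), (52, 45, 2), (37, 17, 2), (39, 23, 2)],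
  [(0, 15, 2), (22, 44, 2), (2, 44, 2), (25, 3, 2), (14, 34, 2), (28, 21, 2), (8, 44, 2), (21, 3, 2), (6, 44, 2), (33, 54, 2), (57, 14, 2), (11, 24, 2), (38, 44, 2), (24, 16, 2), (4, 34, 2), (43, 52, 2), (16, 26, 2), (56, 44, 2), (18, 20, 2), (23, 54, 2), (46, 12, 2), (7, 3, 2), (1, 44, 2), (19, 54, 2), (13, 16, 2), (3, 3, 2), (32, 50, 2), (40, 14, 2), (5, 21, 2), (29, 28, 2), (30, 2, 2), (34, 4, 2), (26, 50, 2), (9, 54, 2), (31, 4, 2), (35, 44, 2), (36, 17, 2), (45, 44, 2), (12, 44, 2), (47, 36, 2), (27, 14, 2), (48, 44, 2), (42, 40, 2), (15, 52, 2), (52, 16, 2), (37, 44, 2), (20, 12, 2), (39, 36, 2), (41, 44, 2), (50, 10, 1), (49, 10, 1), (51, 39, 2), (44, 16, 2), (53, 33, 2), (54, 27, 2), (55, 41, 2), (17, 44, 2), (10, 14, 2), (58, 13, 2)],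
  [(0, 16, 2), (13, 43, 2), (6, 21, 2), (3, 26, 2), (28, 43, 2), (51, 43, 2), (2, 21, 2), (15, 15, 2), (48, 43, 2), (14, 50, 2), (10, 43, 2), (20, 52, 2), (42, 14, 2), (1, 43, 2), (9, 50, 2), (7, 15, 2), (38, 24, 2), (23, 11, 2), (58, 3, 2), (19, 18, 2), (11, 52, 2), (21, 12, 2), (25, 46, 2), (17, 11, 2), (43, 21, 2), (22, 46, 2), (44, 43, 2), (27, 22, 2), (4, 43, 2), (29, 47, 2), (40, 43, 2), (31, 41, 2), (32, 10, 2), (33, 23, 2), (34, 17, 1), (46, 15, 2), (56, 34, 2), (52, 20, 2), (16, 24, 2), (39, 28, 2), (30, 43, 2), (53, 1, 2), (12, 14, 2), (24, 21, 2), (26, 43, 2), (47, 34, 2), (35, 15, 2), (45, 34, 2), (8, 43, 2), (50, 11, 2), (49, 11, 2), (5, 43, 2), (37, 20, 2), (41, 1, 2), (54, 6, 2), (55, 2, 2), (36, 34, 2), (57, 43, 2), (18, 3, 2)],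
  [(0, 17, 2), (3, 49, 2), (22, 14, 2), (1, 49, 2), (12, 27, 2), (5, 2, 2), (7, 8, 2), (6, 8, 2), (36, 11, 2), (21, 42, 2), (56, 29, 2), (43, 36, 2), (4, 27, 2), (54, 42, 2), (14, 7, 2), (19, 42, 2), (45, 12, 2), (33, 55, 2), (18, 42, 2), (15, 42, 2), (20, 42, 2), (9, 42, 2), (2, 14, 2), (23, 15, 2), (24, 6, 2), (25, 16, 0), (26, 57, 2), (48, 27, 2), (37, 31, 2), (29, 35, 2), (53, 14, 2), (41, 8, 2), (35, 42, 2), (17, 55, 2), (34, 18, 2), (32, 42, 2), (8, 11, 2), (28, 31, 2), (51, 42, 2), (58, 26, 2), (40, 39, 2), (31, 8, 2), (55, 26, 2), (11, 36, 2), (44, 3, 2), (16, 12, 2), (46, 56, 2), (49, 42, 2), (27, 27, 2), (47, 42, 2), (50, 58, 2), (38, 42, 2), (57, 37, 2), (30, 14, 2), (13, 42, 2), (42, 26, 2), (10, 29, 2), (52, 37, 2), (39, 26, 2)],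
  [(0, 18, 2), (47, 12, 2), (34, 41, 2), (43, 1, 2), (11, 53, 2), (52, 29, 2), (10, 37, 2), (7, 2, 2), (24, 38, 2), (54, 41, 2), (6, 37, 2), (4, 53, 2), (33, 5, 2), (50, 41, 2), (14, 35, 2), (15, 48, 2), (58, 53, 2), (51, 31, 2), (28, 27, 2), (45, 41, 0), (44, 41, 2), (35, 55, 2), (38, 41, 2), (23, 10, 2), (8, 38, 2), (25, 17, 2), (26, 41, 2), (41, 31, 2), (18, 27, 2), (49, 52, 2), (39, 39, 2), (31, 43, 2), (37, 39, 2), (12, 5, 2), (2, 41, 2), (21, 55, 2), (36, 26, 2), (32, 39, 2), (22, 41, 2), (30, 39, 2), (40, 16, 2), (27, 31, 2), (42, 41, 2), (3, 1, 2), (20, 41, 2), (19, 41, 1), (46, 51, 2), (1, 12, 2), (56, 5, 2), (29, 52, 2), (13, 41, 2), (17, 31, 2), (5, 29, 2), (53, 56, 2), (9, 41, 2), (55, 44, 2), (48, 5, 2), (57, 24, 2), (16, 53, 2)],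
  [(0, 19, 2), (3, 51, 2), (9, 47, 2), (1, 51, 2), (26, 3, 2), (5, 40, 2), (6, 31, 2), (24, 52, 2), (53, 40, 2), (2, 47, 2), (10, 54, 2), (11, 45, 2), (51, 51, 2), (29, 24, 2), (32, 22, 2), (45, 27, 2), (16, 30, 2), (20, 40, 2), (43, 40, 2), (23, 58, 2), (17, 40, 2), (21, 4, 2), (22, 53, 2), (19, 58, 2), (7, 52, 2), (52, 2, 2), (4, 3, 2), (56, 40, 2), (37, 33, 2), (13, 24, 2), (35, 33, 2), (46, 2, 2), (14, 22, 2), (33, 46, 2), (34, 40, 2), (30, 33, 2), (36, 29, 2), (28, 33, 2), (38, 34, 2), (57, 40, 2), (58, 36, 2), (41, 14, 1), (42, 44, 2), (18, 40, 2), (54, 36, 2), (15, 27, 2), (31, 2, 2), (55, 9, 2), (49, 40, 1), (48, 40, 0), (50, 48, 2), (12, 51, 2), (25, 2, 2), (8, 40, 2), (44, 36, 2), (47, 9, 2), (27, 40, 2), (39, 40, 2), (40, 36, 2)],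
  [(0, 20, 2), (10, 39, 2), (6, 25, 2), (55, 39, 2), (53, 4, 2), (35, 39, 2), (2, 25, 2), (22, 16, 2), (50, 39, 2), (9, 52, 2), (1, 39, 2), (45, 13, 1), (44, 13, 2), (13, 36, 2), (36, 58, 2), (23, 47, 2), (31, 39, 2), (33, 58, 2), (20, 30, 2), (19, 57, 2), (18, 30, 2), (49, 39, 2), (7, 16, 2), (15, 47, 2), (24, 7, 2), (58, 6, 2), (47, 33, 2), (27, 39, 2), (29, 4, 2), (28, 4, 2), (39, 41, 2), (16, 39, 2), (37, 41, 2), (17, 58, 2), (34, 35, 2), (5, 39, 2), (14, 58, 2), (32, 41, 2), (38, 37, 2), (30, 41, 2), (40, 42, 2), (41, 15, 2), (42, 39, 2), (52, 48, 2), (12, 13, 2), (11, 13, 1), (57, 28, 2), (26, 33, 2), (48, 3, 2), (21, 39, 2), (8, 39, 2), (51, 44, 2), (43, 48, 2), (4, 4, 2), (54, 32, 2), (3, 39, 2), (56, 14, 2), (46, 28, 2), (25, 6, 2)],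
  [(0, 21, 2), (33, 11, 2), (38, 46, 2), (44, 52, 2), (40, 38, 2), (6, 38, 1), (5, 38, 1), (51, 53, 2), (24, 41, 2), (14, 55, 2), (30, 46, 2), (45, 14, 2), (43, 38, 2), (21, 2, 2), (9, 55, 2), (15, 12, 2), (35, 16, 2), (17, 51, 2), (18, 22, 2), (25, 38, 2), (22, 38, 2), (13, 2, 2), (20, 38, 2), (32, 38, 2), (8, 41, 2), (19, 38, 2), (56, 55, 2), (27, 58, 2), (29, 5, 0), (28, 5, 1), (10, 46, 2), (54, 15, 2), (23, 38, 2), (1, 11, 2), (34, 30, 2), (16, 16, 2), (36, 31, 2), (37, 28, 2), (2, 46, 2), (39, 10, 2), (4, 38, 2), (55, 24, 2), (42, 50, 2), (12, 38, 2), (3, 52, 2), (11, 14, 2), (46, 1, 2), (47, 56, 2), (58, 52, 2), (49, 38, 2), (50, 38, 2), (7, 53, 2), (52, 26, 2), (57, 16, 2), (31, 15, 2), (41, 24, 2), (26, 55, 2), (53, 16, 2), (48, 52, 2)],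
  [(0, 22, 2), (54, 52, 2), (2, 9, 2), (3, 13, 2), (4, 10, 2), (34, 54, 2), (10, 41, 2), (11, 37, 2), (22, 33, 2), (35, 37, 2), (6, 41, 2), (7, 37, 2), (12, 37, 2), (25, 32, 2), (42, 57, 2), (15, 45, 2), (39, 52, 2), (28, 28, 2), (20, 32, 2), (26, 28, 2), (18, 32, 2), (31, 37, 2), (8, 33, 2), (47, 51, 2), (24, 47, 2), (13, 32, 2), (19, 28, 2), (45, 19, 2), (17, 28, 2), (48, 37, 2), (30, 23, 2), (21, 37, 2), (32, 16, 2), (37, 51, 2), (5, 54, 2), (9, 37, 2), (49, 53, 2), (33, 51, 2), (38, 39, 2), (16, 52, 2), (53, 37, 2), (41, 21, 2), (14, 57, 2), (46, 34, 2), (44, 58, 2), (27, 19, 2), (43, 34, 2), (23, 51, 2), (29, 37, 2), (36, 53, 2), (50, 49, 2), (51, 46, 2), (57, 42, 2), (40, 37, 2), (1, 52, 2), (56, 37, 2), (55, 37, 2), (52, 42, 2), (58, 37, 2)],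
  [(0, 23, 2), (20, 14, 2), (27, 12, 2), (23, 5, 2), (4, 11, 0), (36, 56, 2), (22, 49, 2), (7, 36, 2), (8, 30, 2), (9, 25, 2), (41, 36, 2), (43, 42, 2), (12, 6, 2), (13, 39, 2), (49, 1, 2), (42, 36, 2), (25, 56, 2), (48, 8, 2), (33, 36, 2), (30, 36, 2), (1, 14, 2), (28, 36, 2), (6, 49, 2), (3, 5, 2), (57, 35, 2), (16, 56, 2), (26, 16, 2), (2, 12, 2), (21, 36, 2), (29, 22, 2), (19, 36, 2), (31, 48, 2), (53, 57, 2), (18, 36, 2), (34, 36, 2), (52, 49, 2), (5, 56, 2), (51, 12, 2), (38, 27, 2), (47, 44, 2), (58, 40, 2), (10, 36, 2), (15, 36, 2), (11, 42, 2), (54, 40, 2), (45, 55, 2), (46, 7, 2), (39, 44, 2), (17, 8, 2), (14, 1, 2), (55, 36, 2), (37, 12, 2), (35, 49, 2), (32, 57, 2), (44, 40, 2), (50, 36, 2), (56, 32, 2), (24, 35, 2), (40, 40, 2)],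
  [(0, 24, 2), (45, 35, 2), (2, 18, 2), (9, 2, 2), (18, 21, 2), (55, 46, 2), (42, 35, 2), (39, 35, 2), (33, 10, 2), (3, 2, 2), (23, 52, 2), (11, 33, 2), (13, 35, 2), (12, 35, 2), (14, 41, 2), (15, 35, 2), (44, 46, 2), (17, 32, 2), (4, 21, 2), (26, 30, 2), (20, 5, 2), (43, 16, 2), (22, 9, 2), (10, 52, 2), (57, 36, 2), (54, 51, 2), (19, 30, 2), (28, 34, 1), (27, 34, 1), (29, 42, 2), (46, 19, 2), (49, 35, 2), (50, 31, 2), (8, 10, 2), (34, 39, 2), (36, 2, 2), (35, 2, 2), (47, 35, 2), (41, 51, 2), (7, 35, 2), (52, 52, 2), (38, 51, 2), (6, 35, 2), (21, 16, 2), (16, 46, 2), (1, 35, 2), (30, 19, 2), (37, 35, 2), (48, 15, 2), (31, 35, 2), (32, 31, 2), (51, 55, 2), (40, 52, 2), (53, 3, 2), (25, 51, 2), (5, 46, 2), (56, 35, 2), (24, 36, 2), (58, 27, 2)],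
  [(0, 25, 2), (1, 48, 2), (40, 7, 2), (44, 56, 2), (14, 44, 2), (22, 5, 2), (39, 1, 2), (7, 4, 2), (34, 7, 2), (9, 27, 2), (33, 34, 2), (11, 47, 2), (58, 31, 2), (13, 29, 2), (4, 44, 2), (55, 31, 2), (42, 34, 0), (41, 34, 2), (18, 2, 2), (19, 34, 2), (24, 34, 2), (29, 34, 2), (5, 5, 2), (23, 34, 2), (20, 34, 2), (52, 8, 2), (26, 6, 2), (28, 35, 0), (27, 35, 1), (21, 34, 2), (30, 53, 2), (31, 45, 2), (37, 46, 2), (10, 34, 2), (8, 7, 2), (51, 5, 2), (56, 43, 2), (32, 46, 2), (38, 40, 2), (6, 1, 2), (2, 7, 2), (17, 34, 2), (16, 34, 1), (46, 37, 2), (3, 56, 2), (47, 43, 2), (43, 37, 2), (45, 43, 2), (54, 34, 2), (49, 55, 2), (50, 23, 2), (35, 5, 2), (25, 8, 2), (57, 20, 2), (48, 34, 2), (15, 31, 2), (36, 43, 2), (53, 20, 2), (12, 31, 2)],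
  [(0, 26, 2), (20, 17, 2), (2, 30, 2), (40, 55, 2), (17, 17, 2), (15, 9, 2), (34, 33, 2), (7, 21, 2), (22, 37, 2), (58, 33, 2), (51, 11, 2), (11, 35, 2), (12, 49, 2), (19, 33, 2), (14, 54, 2), (5, 9, 2), (36, 33, 2), (4, 17, 2), (54, 12, 2), (13, 33, 2), (1, 17, 2), (48, 1, 2), (8, 37, 2), (23, 18, 2), (49, 8, 2), (25, 10, 2), (47, 39, 2), (27, 57, 2), (37, 40, 2), (32, 11, 2), (35, 40, 2), (31, 33, 2), (29, 11, 2), (39, 12, 2), (6, 33, 2), (30, 40, 2), (16, 33, 2), (28, 40, 2), (55, 3, 2), (33, 12, 2), (3, 55, 2), (41, 33, 2), (57, 33, 2), (43, 15, 2), (50, 27, 2), (46, 33, 2), (45, 33, 2), (26, 39, 2), (21, 1, 2), (24, 8, 2), (44, 27, 2), (10, 11, 2), (52, 31, 2), (53, 44, 2), (18, 12, 2), (38, 3, 2), (56, 16, 2), (42, 33, 2), (9, 33, 2)],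
  [(0, 27, 2), (1, 24, 2), (23, 53, 2), (51, 32, 2), (4, 32, 2), (5, 15, 2), (46, 50, 2), (30, 32, 2), (8, 55, 2), (15, 26, 2), (10, 47, 2), (32, 17, 2), (36, 57, 2), (25, 37, 2), (44, 19, 2), (9, 26, 2), (49, 32, 2), (17, 35, 2), (20, 37, 2), (37, 14, 2), (18, 37, 2), (21, 23, 2), (43, 32, 2), (2, 53, 2), (28, 50, 2), (13, 37, 2), (48, 29, 2), (42, 11, 2), (24, 50, 2), (45, 29, 2), (7, 32, 2), (41, 18, 2), (11, 17, 2), (57, 32, 2), (35, 31, 1), (34, 31, 1), (12, 57, 2), (19, 14, 2), (58, 32, 2), (39, 32, 2), (40, 3, 2), (31, 18, 2), (27, 11, 2), (22, 32, 2), (14, 19, 2), (29, 29, 2), (6, 50, 2), (55, 17, 2), (26, 29, 2), (16, 32, 2), (50, 25, 2), (3, 32, 2), (52, 13, 2), (53, 7, 2), (54, 39, 2), (47, 17, 2), (56, 36, 2), (33, 32, 2), (38, 32, 2)],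
  [(0, 28, 2), (54, 58, 2), (13, 20, 2), (3, 9, 2), (39, 30, 2), (38, 30, 1), (6, 40, 2), (49, 31, 2), (46, 31, 2), (29, 51, 2), (10, 57, 2), (23, 31, 2), (58, 34, 2), (2, 20, 2), (25, 31, 2), (55, 34, 2), (18, 31, 2), (51, 41, 2), (16, 31, 2), (57, 46, 2), (20, 16, 2), (44, 54, 2), (22, 21, 2), (11, 31, 2), (24, 49, 2), (14, 31, 2), (26, 31, 2), (41, 41, 2), (37, 42, 2), (9, 51, 2), (30, 15, 2), (42, 22, 2), (50, 35, 2), (40, 22, 2), (35, 32, 1), (34, 32, 0), (36, 38, 2), (28, 42, 2), (5, 30, 1), (4, 30, 2), (33, 22, 2), (27, 41, 2), (31, 22, 2), (43, 55, 2), (21, 54, 2), (53, 31, 2), (8, 31, 2), (47, 31, 2), (48, 2, 2), (7, 31, 2), (32, 35, 2), (17, 41, 2), (52, 33, 2), (45, 31, 2), (1, 58, 2), (15, 34, 2), (56, 47, 2), (19, 46, 2), (12, 34, 2)],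
  [(0, 29, 2), (1, 3, 2), (2, 33, 2), (49, 17, 2), (39, 31, 2), (38, 31, 0), (25, 30, 2), (54, 18, 2), (8, 36, 2), (53, 53, 2), (10, 5, 2), (33, 27, 2), (12, 52, 2), (21, 10, 2), (30, 27, 2), (57, 30, 2), (16, 40, 2), (45, 53, 2), (20, 39, 2), (26, 35, 2), (18, 39, 2), (13, 10, 2), (36, 30, 2), (23, 19, 2), (40, 46, 2), (6, 30, 2), (19, 35, 2), (27, 7, 2), (44, 30, 2), (32, 14, 2), (14, 27, 2), (51, 50, 2), (29, 14, 2), (11, 27, 2), (34, 38, 2), (42, 30, 2), (22, 30, 2), (37, 11, 2), (5, 31, 0), (4, 31, 2), (24, 46, 2), (52, 10, 2), (35, 30, 2), (47, 30, 2), (28, 30, 2), (17, 53, 2), (46, 25, 2), (43, 30, 2), (48, 30, 2), (3, 17, 2), (56, 51, 2), (31, 50, 2), (41, 10, 2), (9, 53, 2), (7, 18, 2), (55, 30, 2), (50, 51, 2), (15, 30, 2), (58, 55, 1)],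
  [(0, 30, 2), (1, 4, 1), (44, 29, 2), (9, 8, 2), (4, 29, 2), (52, 41, 2), (50, 6, 2), (18, 49, 2), (28, 9, 2), (3, 8, 2), (56, 42, 2), (11, 29, 2), (16, 29, 2), (13, 34, 2), (42, 6, 2), (31, 29, 2), (12, 29, 2), (24, 29, 2), (7, 49, 2), (35, 13, 2), (55, 28, 2), (54, 28, 0), (22, 48, 2), (37, 29, 2), (17, 29, 2), (25, 21, 2), (48, 32, 2), (30, 45, 2), (8, 9, 2), (45, 32, 2), (27, 45, 2), (15, 29, 2), (32, 52, 2), (40, 24, 2), (53, 29, 2), (19, 13, 2), (36, 40, 2), (23, 29, 2), (46, 49, 2), (41, 20, 2), (33, 24, 2), (39, 20, 2), (14, 6, 2), (43, 19, 2), (2, 29, 2), (29, 32, 2), (38, 49, 2), (47, 7, 2), (26, 32, 2), (49, 54, 2), (6, 6, 2), (51, 23, 2), (5, 41, 2), (34, 29, 2), (21, 28, 0), (20, 28, 2), (10, 42, 2), (57, 26, 2), (58, 56, 2)],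
  [(0, 31, 2), (47, 25, 2), (40, 13, 2), (3, 12, 2), (44, 25, 2), (58, 1, 2), (14, 28, 2), (7, 26, 2), (42, 18, 2), (27, 24, 2), (52, 28, 2), (11, 57, 2), (12, 28, 2), (51, 28, 2), (6, 28, 2), (38, 5, 2), (16, 4, 2), (28, 37, 2), (32, 18, 2), (26, 37, 2), (55, 29, 2), (54, 29, 1), (31, 17, 2), (23, 21, 2), (25, 27, 0), (24, 27, 1), (19, 37, 2), (9, 24, 2), (17, 37, 2), (29, 44, 2), (50, 8, 2), (22, 17, 2), (18, 18, 2), (33, 28, 2), (45, 28, 2), (35, 10, 2), (48, 28, 2), (37, 38, 2), (15, 5, 2), (39, 43, 2), (2, 13, 2), (43, 28, 2), (8, 18, 2), (41, 28, 2), (4, 25, 2), (34, 28, 2), (57, 39, 2), (1, 25, 2), (36, 28, 2), (49, 2, 2), (30, 8, 2), (13, 28, 2), (10, 28, 2), (53, 19, 2), (21, 29, 1), (20, 29, 2), (56, 50, 2), (46, 39, 2), (5, 1, 2)],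
  [(0, 32, 2), (21, 27, 2), (26, 27, 2), (3, 23, 2), (12, 42, 2), (5, 20, 2), (6, 52, 2), (7, 46, 2), (56, 27, 2), (9, 34, 2), (43, 27, 2), (33, 30, 2), (4, 42, 2), (53, 9, 2), (30, 30, 2), (45, 40, 2), (37, 27, 2), (32, 48, 2), (28, 41, 2), (19, 56, 2), (20, 27, 2), (1, 27, 2), (40, 45, 2), (47, 2, 2), (25, 28, 1), (24, 28, 1), (2, 27, 2), (48, 42, 2), (18, 41, 2), (52, 27, 2), (14, 30, 2), (35, 9, 2), (17, 48, 2), (11, 30, 2), (46, 22, 2), (31, 9, 2), (57, 6, 2), (16, 27, 2), (38, 36, 2), (41, 22, 2), (22, 45, 2), (39, 22, 2), (42, 24, 2), (10, 27, 2), (50, 33, 2), (15, 40, 2), (34, 22, 2), (23, 2, 2), (27, 42, 2), (49, 12, 2), (44, 33, 2), (51, 4, 2), (29, 27, 2), (13, 9, 2), (54, 44, 2), (55, 27, 2), (8, 27, 2), (36, 6, 2), (58, 35, 2)],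
  [(0, 33, 2), (50, 26, 2), (17, 26, 2), (3, 43, 2), (21, 56, 2), (41, 47, 2), (6, 15, 2), (7, 28, 2), (49, 48, 2), (15, 32, 2), (35, 51, 2), (38, 58, 2), (33, 20, 2), (14, 26, 2), (13, 26, 2), (9, 32, 2), (16, 44, 2), (2, 26, 2), (18, 26, 2), (56, 4, 2), (26, 47, 2), (4, 56, 2), (31, 19, 2), (43, 26, 2), (29, 19, 2), (53, 26, 2), (20, 47, 2), (30, 48, 2), (28, 26, 2), (24, 19, 2), (27, 48, 2), (22, 19, 2), (32, 2, 2), (12, 20, 2), (34, 49, 2), (10, 51, 2), (36, 41, 2), (51, 22, 2), (11, 58, 2), (58, 42, 2), (46, 26, 2), (5, 47, 2), (55, 42, 2), (23, 26, 2), (54, 50, 2), (45, 5, 2), (40, 26, 2), (47, 10, 2), (48, 24, 2), (8, 48, 2), (1, 26, 2), (37, 22, 2), (52, 38, 2), (25, 26, 2), (44, 50, 2), (42, 42, 2), (19, 4, 2), (57, 29, 2), (39, 42, 2)],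
  [(0, 34, 2), (47, 28, 2), (6, 39, 2), (23, 16, 2), (44, 28, 2), (11, 25, 2), (2, 39, 2), (34, 51, 2), (24, 54, 2), (9, 36, 2), (10, 4, 2), (5, 25, 2), (14, 16, 2), (16, 22, 2), (12, 16, 2), (56, 3, 2), (13, 22, 2), (43, 25, 1), (42, 25, 2), (57, 52, 2), (53, 58, 2), (21, 19, 2), (27, 13, 2), (3, 16, 2), (8, 54, 2), (51, 52, 2), (49, 25, 2), (22, 13, 2), (28, 14, 2), (29, 6, 2), (38, 25, 2), (32, 24, 1), (31, 24, 0), (33, 53, 2), (7, 51, 2), (39, 25, 2), (36, 25, 2), (54, 54, 2), (30, 25, 2), (35, 25, 2), (40, 25, 2), (41, 57, 2), (18, 25, 2), (17, 25, 1), (4, 28, 2), (55, 15, 2), (46, 30, 2), (1, 28, 2), (48, 12, 2), (26, 25, 2), (50, 32, 2), (25, 52, 2), (52, 55, 2), (20, 58, 2), (37, 54, 2), (45, 15, 2), (15, 3, 2), (19, 52, 2), (58, 11, 2)],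
  [(0, 35, 2), (1, 32, 2), (35, 23, 2), (3, 24, 2), (54, 13, 2), (34, 8, 2), (6, 56, 2), (19, 7, 2), (8, 4, 2), (27, 28, 2), (28, 24, 2), (11, 44, 2), (22, 24, 2), (29, 40, 2), (58, 24, 2), (43, 13, 2), (38, 43, 2), (53, 24, 2), (21, 8, 2), (7, 7, 2), (52, 24, 2), (18, 8, 2), (12, 24, 2), (24, 57, 2), (23, 57, 2), (25, 20, 2), (51, 49, 2), (9, 28, 2), (10, 24, 2), (13, 40, 2), (30, 17, 2), (32, 25, 1), (31, 25, 1), (40, 29, 2), (5, 8, 2), (2, 23, 2), (49, 7, 2), (37, 50, 2), (16, 43, 2), (39, 54, 2), (33, 29, 2), (55, 38, 2), (42, 27, 2), (15, 13, 2), (44, 24, 2), (45, 18, 2), (47, 24, 2), (46, 24, 2), (48, 26, 2), (36, 7, 2), (56, 57, 2), (26, 49, 2), (20, 24, 2), (17, 24, 2), (4, 13, 2), (41, 38, 2), (50, 57, 2), (57, 41, 2), (14, 24, 2)],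
  [(0, 36, 2), (19, 19, 2), (35, 24, 2), (3, 27, 2), (9, 23, 2), (15, 19, 2), (27, 2, 2), (24, 10, 2), (22, 47, 2), (4, 23, 2), (45, 58, 2), (42, 51, 2), (20, 15, 2), (13, 52, 2), (14, 4, 2), (5, 19, 2), (48, 17, 2), (44, 23, 2), (49, 23, 2), (1, 19, 2), (12, 15, 2), (21, 32, 2), (8, 47, 2), (54, 3, 2), (7, 10, 2), (25, 23, 2), (41, 23, 2), (6, 2, 2), (28, 11, 2), (40, 23, 2), (30, 37, 2), (38, 23, 2), (57, 47, 2), (33, 43, 2), (43, 3, 2), (2, 24, 2), (56, 54, 2), (53, 10, 2), (31, 23, 2), (58, 45, 2), (29, 23, 2), (26, 23, 2), (11, 51, 2), (34, 3, 2), (17, 23, 2), (10, 58, 2), (46, 20, 2), (47, 53, 2), (16, 17, 2), (18, 23, 2), (50, 34, 2), (51, 29, 2), (52, 23, 2), (37, 10, 2), (23, 3, 2), (55, 48, 0), (36, 54, 2), (32, 47, 2), (39, 45, 2)],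
  [(0, 37, 2), (1, 22, 2), (7, 17, 2), (4, 22, 2), (3, 22, 2), (58, 7, 2), (19, 22, 2), (2, 17, 2), (8, 13, 2), (9, 10, 2), (23, 6, 2), (30, 22, 2), (36, 8, 2), (16, 25, 2), (32, 40, 2), (15, 1, 2), (13, 25, 2), (45, 2, 2), (18, 38, 2), (6, 22, 2), (43, 7, 2), (21, 20, 2), (26, 8, 2), (10, 6, 2), (50, 22, 2), (54, 5, 2), (22, 8, 2), (27, 43, 2), (38, 22, 2), (29, 36, 2), (11, 22, 2), (42, 31, 2), (14, 40, 2), (40, 31, 2), (46, 27, 2), (35, 12, 2), (12, 8, 2), (51, 26, 2), (28, 22, 2), (41, 27, 2), (33, 31, 2), (39, 27, 2), (31, 31, 2), (20, 7, 2), (44, 14, 2), (17, 2, 2), (34, 27, 2), (47, 22, 2), (52, 22, 2), (53, 18, 2), (24, 22, 2), (37, 26, 2), (48, 22, 2), (49, 18, 2), (25, 5, 2), (55, 49, 2), (56, 46, 2), (57, 50, 2), (5, 7, 2)],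
  [(0, 38, 2), (11, 7, 2), (6, 43, 2), (33, 4, 2), (18, 35, 2), (28, 44, 2), (2, 43, 2), (7, 33, 2), (52, 6, 2), (9, 21, 2), (10, 21, 2), (1, 7, 2), (12, 3, 2), (13, 58, 2), (48, 45, 2), (56, 7, 2), (47, 21, 2), (17, 9, 2), (4, 35, 2), (55, 21, 2), (20, 49, 2), (57, 13, 2), (22, 31, 2), (23, 28, 2), (43, 43, 2), (25, 29, 2), (58, 48, 2), (36, 21, 2), (5, 44, 2), (49, 13, 2), (31, 54, 1), (30, 54, 1), (32, 1, 2), (3, 4, 2), (40, 21, 2), (51, 18, 2), (27, 21, 2), (39, 21, 2), (46, 57, 2), (37, 21, 2), (34, 21, 2), (41, 37, 2), (42, 8, 2), (24, 43, 2), (44, 47, 2), (50, 4, 2), (38, 57, 2), (16, 21, 2), (14, 45, 2), (29, 13, 2), (45, 4, 2), (35, 18, 2), (8, 6, 2), (54, 21, 1), (53, 21, 1), (19, 21, 2), (15, 7, 2), (21, 13, 2), (26, 48, 2)],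
  [(0, 39, 2), (34, 53, 2), (13, 31, 2), (3, 45, 2), (56, 20, 2), (5, 27, 2), (55, 55, 2), (16, 11, 2), (8, 15, 2), (51, 20, 2), (38, 20, 2), (11, 56, 2), (33, 26, 2), (2, 31, 2), (48, 46, 1), (47, 46, 2), (7, 11, 2), (17, 20, 2), (18, 44, 2), (19, 17, 2), (29, 18, 2), (21, 22, 2), (27, 18, 2), (45, 1, 2), (54, 20, 2), (25, 24, 2), (42, 1, 2), (22, 18, 2), (43, 20, 2), (20, 18, 2), (31, 55, 2), (30, 55, 2), (32, 20, 2), (12, 26, 2), (1, 53, 2), (35, 52, 2), (44, 12, 2), (52, 43, 2), (10, 20, 2), (41, 29, 2), (40, 2, 2), (39, 29, 2), (26, 1, 2), (28, 20, 2), (36, 12, 2), (23, 1, 2), (46, 23, 2), (15, 46, 2), (14, 46, 1), (58, 20, 2), (50, 7, 2), (9, 20, 2), (37, 43, 2), (57, 34, 2), (24, 20, 2), (6, 55, 2), (4, 20, 2), (53, 34, 2), (49, 20, 2)],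
  [(0, 40, 2), (19, 23, 2), (20, 19, 2), (32, 19, 2), (12, 50, 2), (15, 23, 2), (51, 19, 2), (34, 57, 2), (47, 8, 2), (9, 11, 2), (11, 19, 0), (10, 19, 1), (4, 50, 2), (28, 57, 2), (44, 32, 2), (5, 23, 2), (41, 19, 2), (17, 15, 2), (18, 45, 1), (1, 23, 2), (2, 19, 2), (21, 25, 2), (31, 26, 2), (23, 30, 2), (29, 26, 2), (25, 19, 2), (26, 13, 2), (45, 37, 2), (13, 57, 2), (24, 26, 2), (46, 35, 2), (22, 26, 2), (3, 19, 2), (55, 56, 2), (7, 57, 2), (52, 7, 2), (40, 1, 2), (37, 6, 2), (38, 55, 2), (42, 19, 2), (36, 1, 2), (16, 19, 2), (39, 19, 2), (43, 29, 2), (14, 32, 2), (27, 37, 2), (30, 35, 2), (8, 8, 2), (48, 14, 2), (49, 5, 2), (57, 12, 2), (6, 19, 2), (35, 7, 2), (53, 28, 2), (54, 19, 2), (33, 56, 2), (58, 8, 2), (50, 12, 2), (56, 8, 2)],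
  [(0, 41, 2), (43, 6, 2), (2, 35, 2), (11, 54, 2), (4, 15, 2), (50, 18, 2), (6, 3, 2), (54, 30, 2), (42, 28, 2), (46, 18, 2), (30, 7, 2), (3, 54, 2), (58, 47, 2), (13, 8, 2), (40, 18, 1), (39, 18, 2), (56, 58, 2), (17, 18, 2), (32, 28, 2), (19, 43, 2), (29, 20, 2), (37, 18, 2), (27, 20, 2), (23, 33, 2), (38, 4, 2), (57, 18, 2), (47, 54, 2), (22, 20, 2), (28, 16, 2), (20, 20, 2), (10, 7, 2), (41, 32, 2), (18, 28, 2), (33, 18, 2), (34, 42, 2), (51, 21, 2), (36, 49, 2), (21, 18, 2), (24, 4, 2), (15, 18, 2), (14, 18, 0), (31, 32, 2), (8, 28, 2), (1, 6, 2), (44, 11, 2), (45, 24, 2), (9, 18, 2), (26, 54, 2), (55, 6, 2), (53, 22, 2), (5, 18, 2), (35, 21, 2), (52, 57, 2), (49, 22, 2), (7, 30, 2), (48, 6, 2), (16, 58, 2), (25, 18, 2), (12, 47, 2)],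
  [(0, 42, 2), (20, 33, 2), (7, 22, 2), (49, 30, 2), (17, 33, 2), (46, 17, 2), (29, 45, 2), (2, 22, 2), (21, 17, 2), (9, 1, 2), (12, 17, 2), (32, 32, 2), (10, 17, 2), (13, 3, 2), (43, 47, 2), (15, 56, 2), (48, 23, 2), (4, 33, 2), (28, 51, 2), (19, 20, 2), (1, 33, 2), (8, 17, 2), (31, 28, 2), (51, 48, 2), (27, 17, 2), (25, 41, 2), (42, 4, 2), (24, 17, 2), (18, 51, 2), (6, 45, 2), (30, 24, 2), (22, 28, 2), (11, 32, 2), (33, 2, 2), (34, 43, 1), (35, 53, 2), (36, 44, 2), (57, 45, 2), (50, 17, 2), (39, 17, 2), (44, 17, 2), (41, 17, 2), (26, 4, 2), (14, 47, 2), (40, 17, 2), (45, 52, 2), (5, 17, 2), (55, 32, 2), (16, 23, 2), (3, 30, 2), (38, 17, 2), (23, 48, 2), (53, 51, 2), (52, 51, 2), (54, 57, 2), (47, 32, 2), (58, 10, 2), (37, 45, 2), (56, 10, 2)],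
  [(0, 43, 2), (41, 56, 2), (2, 16, 2), (23, 25, 2), (4, 57, 2), (5, 53, 2), (18, 58, 2), (22, 39, 2), (54, 16, 2), (10, 48, 2), (9, 48, 2), (51, 16, 2), (14, 25, 2), (24, 44, 2), (12, 25, 2), (33, 16, 2), (35, 38, 2), (47, 45, 2), (6, 58, 2), (29, 16, 2), (20, 31, 2), (43, 35, 2), (7, 39, 2), (3, 25, 2), (13, 44, 2), (25, 42, 1), (26, 36, 2), (27, 49, 2), (28, 18, 2), (19, 16, 2), (30, 12, 2), (55, 16, 2), (32, 37, 2), (15, 16, 2), (37, 13, 2), (16, 38, 2), (42, 48, 2), (34, 13, 2), (38, 47, 2), (48, 7, 2), (40, 41, 2), (1, 56, 2), (36, 48, 2), (21, 35, 2), (52, 44, 2), (50, 9, 2), (58, 16, 2), (17, 45, 2), (39, 7, 2), (49, 16, 2), (45, 9, 2), (11, 16, 2), (44, 44, 2), (57, 38, 2), (8, 16, 2), (31, 16, 2), (56, 33, 2), (53, 38, 2), (46, 16, 2)],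
  [(0, 44, 2), (1, 46, 2), (49, 45, 2), (42, 15, 2), (4, 18, 2), (5, 32, 2), (6, 26, 2), (15, 43, 2), (8, 20, 2), (10, 49, 1), (9, 49, 1), (18, 15, 2), (20, 23, 2), (39, 47, 2), (22, 15, 2), (7, 43, 2), (44, 7, 2), (17, 19, 2), (11, 15, 2), (32, 45, 2), (12, 23, 2), (47, 15, 2), (14, 15, 2), (23, 42, 2), (24, 15, 2), (28, 55, 2), (50, 5, 2), (33, 9, 2), (25, 55, 2), (29, 57, 2), (30, 31, 2), (54, 38, 2), (19, 45, 2), (27, 9, 2), (56, 56, 2), (46, 43, 2), (40, 5, 2), (58, 15, 2), (52, 56, 2), (13, 47, 2), (36, 5, 2), (41, 39, 2), (3, 15, 2), (43, 33, 2), (16, 7, 2), (55, 25, 2), (35, 43, 2), (21, 15, 2), (48, 35, 2), (2, 45, 2), (26, 5, 2), (53, 15, 2), (38, 56, 2), (51, 15, 2), (31, 38, 2), (45, 25, 2), (34, 56, 2), (57, 15, 2), (37, 15, 2)],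
  [(0, 45, 2), (20, 36, 2), (22, 42, 2), (7, 14, 2), (21, 9, 2), (26, 14, 2), (6, 14, 2), (3, 14, 2), (8, 2, 2), (16, 9, 2), (57, 44, 2), (45, 38, 2), (42, 43, 2), (39, 48, 1), (38, 48, 2), (25, 4, 2), (9, 9, 2), (52, 14, 2), (24, 14, 2), (37, 32, 2), (1, 36, 2), (4, 9, 2), (2, 42, 2), (58, 49, 2), (18, 14, 2), (15, 4, 2), (5, 14, 2), (40, 44, 2), (28, 25, 2), (32, 30, 2), (53, 42, 2), (31, 6, 2), (29, 30, 2), (33, 13, 2), (43, 12, 2), (35, 58, 2), (55, 14, 2), (19, 32, 2), (14, 48, 2), (13, 48, 0), (27, 44, 2), (41, 40, 0), (12, 43, 2), (34, 12, 2), (44, 22, 2), (11, 38, 2), (46, 14, 2), (47, 5, 2), (48, 19, 2), (49, 51, 2), (51, 14, 2), (50, 14, 2), (17, 14, 2), (30, 42, 2), (54, 1, 2), (36, 14, 2), (56, 39, 2), (10, 44, 2), (23, 49, 2)],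
  [(0, 46, 2), (38, 13, 2), (40, 28, 2), (3, 37, 2), (54, 24, 2), (47, 55, 2), (46, 10, 2), (36, 13, 2), (8, 22, 2), (9, 13, 2), (13, 53, 2), (45, 39, 0), (44, 39, 2), (10, 53, 2), (14, 13, 2), (43, 24, 2), (16, 1, 2), (17, 54, 2), (18, 50, 2), (35, 29, 2), (23, 13, 2), (57, 21, 2), (27, 25, 2), (20, 13, 2), (24, 12, 2), (30, 13, 2), (26, 19, 2), (22, 25, 2), (39, 2, 2), (49, 21, 2), (25, 13, 2), (31, 51, 2), (50, 53, 2), (33, 14, 2), (37, 16, 2), (19, 29, 2), (7, 13, 2), (34, 16, 2), (1, 13, 2), (28, 2, 2), (2, 28, 2), (51, 13, 2), (56, 13, 2), (15, 24, 2), (12, 39, 2), (11, 39, 1), (6, 10, 2), (5, 55, 2), (55, 11, 2), (29, 21, 2), (32, 53, 2), (41, 13, 2), (52, 32, 2), (53, 5, 2), (4, 24, 2), (48, 11, 2), (42, 13, 2), (21, 21, 2), (58, 44, 2)],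
  [(0, 47, 2), (47, 41, 2), (27, 36, 2), (3, 28, 2), (4, 2, 2), (14, 12, 2), (11, 12, 2), (29, 12, 2), (19, 51, 2), (40, 4, 2), (26, 12, 2), (6, 12, 2), (41, 58, 2), (55, 54, 2), (5, 12, 2), (15, 38, 2), (45, 42, 2), (32, 4, 2), (54, 33, 2), (8, 51, 2), (46, 44, 2), (21, 43, 2), (22, 12, 2), (53, 12, 2), (24, 13, 2), (28, 58, 2), (10, 12, 2), (2, 36, 2), (25, 58, 2), (7, 12, 2), (30, 16, 2), (31, 12, 2), (17, 4, 2), (39, 33, 2), (43, 14, 2), (35, 22, 2), (44, 20, 2), (51, 36, 2), (56, 12, 2), (33, 33, 2), (9, 4, 2), (12, 58, 2), (42, 10, 2), (34, 14, 2), (36, 20, 2), (16, 42, 2), (20, 44, 2), (1, 41, 2), (48, 25, 2), (49, 27, 2), (57, 19, 2), (37, 36, 2), (52, 9, 2), (23, 12, 2), (18, 33, 2), (13, 54, 2), (38, 12, 2), (50, 19, 2), (58, 50, 2)],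
  [(0, 48, 2), (33, 38, 2), (31, 11, 2), (39, 11, 2), (4, 36, 1), (41, 3, 2), (18, 4, 2), (16, 20, 2), (36, 42, 2), (9, 19, 2), (51, 33, 2), (13, 4, 2), (25, 11, 2), (11, 4, 2), (19, 11, 2), (35, 11, 2), (7, 20, 2), (23, 43, 2), (6, 4, 2), (14, 11, 2), (46, 45, 1), (45, 45, 2), (22, 7, 2), (17, 43, 2), (26, 11, 2), (12, 11, 2), (24, 11, 2), (42, 32, 2), (28, 23, 2), (32, 33, 2), (30, 11, 2), (2, 11, 2), (29, 33, 2), (1, 38, 2), (34, 5, 2), (15, 11, 2), (8, 42, 2), (37, 30, 2), (52, 1, 2), (3, 11, 2), (40, 10, 0), (5, 3, 2), (27, 32, 2), (43, 51, 2), (44, 18, 2), (21, 45, 2), (20, 45, 1), (47, 6, 2), (55, 13, 2), (50, 43, 2), (49, 43, 2), (10, 33, 2), (38, 1, 2), (53, 11, 2), (56, 9, 2), (48, 13, 2), (54, 9, 2), (57, 54, 2), (58, 25, 2)],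
  [(0, 49, 2), (36, 45, 2), (28, 10, 2), (57, 57, 2), (4, 37, 2), (19, 10, 2), (46, 13, 2), (24, 23, 2), (33, 35, 2), (9, 22, 2), (44, 9, 1), (43, 9, 2), (27, 10, 2), (21, 30, 2), (51, 10, 2), (45, 57, 2), (16, 10, 2), (30, 56, 2), (22, 6, 2), (5, 10, 2), (20, 1, 2), (13, 30, 2), (18, 6, 2), (23, 41, 2), (7, 23, 2), (25, 33, 2), (48, 51, 2), (12, 10, 2), (2, 10, 2), (54, 10, 2), (17, 56, 2), (31, 52, 2), (32, 43, 2), (8, 35, 2), (55, 10, 2), (35, 28, 2), (1, 45, 2), (53, 23, 2), (38, 10, 2), (39, 38, 2), (40, 11, 1), (52, 30, 2), (42, 12, 2), (11, 9, 2), (10, 9, 0), (15, 57, 2), (6, 13, 2), (47, 26, 2), (26, 51, 2), (50, 44, 0), (49, 44, 0), (14, 10, 2), (41, 30, 2), (37, 23, 2), (29, 10, 2), (34, 10, 2), (58, 17, 2), (3, 57, 2), (56, 17, 2)],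
  [(0, 50, 2), (1, 47, 2), (2, 37, 2), (3, 31, 2), (21, 14, 2), (15, 33, 2), (29, 53, 2), (20, 9, 2), (28, 29, 2), (16, 14, 2), (44, 10, 1), (43, 10, 2), (19, 2, 2), (53, 27, 2), (14, 8, 2), (5, 33, 2), (9, 14, 2), (17, 21, 2), (18, 54, 2), (12, 2, 2), (7, 9, 2), (4, 14, 2), (22, 35, 2), (34, 9, 2), (57, 3, 2), (32, 9, 2), (26, 58, 2), (33, 15, 2), (8, 29, 2), (6, 53, 2), (51, 3, 2), (35, 27, 2), (25, 9, 2), (27, 15, 2), (23, 9, 2), (31, 27, 2), (36, 4, 2), (49, 9, 2), (38, 9, 2), (39, 51, 2), (48, 9, 2), (41, 46, 2), (58, 9, 2), (11, 10, 2), (10, 10, 0), (50, 16, 2), (46, 9, 2), (55, 40, 2), (40, 9, 2), (37, 9, 2), (45, 16, 2), (30, 3, 2), (52, 12, 2), (13, 27, 2), (56, 11, 2), (47, 40, 2), (54, 11, 2), (24, 3, 2), (42, 9, 2)],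
  [(0, 51, 2), (1, 8, 2), (2, 58, 2), (9, 29, 2), (27, 8, 2), (34, 24, 2), (7, 42, 2), (6, 42, 2), (47, 19, 2), (3, 29, 2), (10, 45, 2), (33, 49, 2), (36, 22, 2), (13, 18, 2), (14, 9, 2), (15, 6, 2), (16, 48, 2), (48, 36, 2), (21, 24, 2), (19, 53, 2), (20, 50, 2), (18, 24, 2), (26, 22, 2), (29, 8, 2), (49, 33, 2), (52, 34, 2), (22, 22, 2), (4, 8, 2), (28, 46, 2), (23, 8, 2), (50, 28, 2), (41, 42, 2), (32, 56, 2), (11, 49, 2), (5, 24, 2), (55, 8, 2), (12, 22, 2), (46, 8, 2), (53, 52, 2), (44, 8, 2), (51, 47, 2), (31, 42, 2), (42, 21, 2), (43, 54, 2), (39, 8, 2), (57, 8, 2), (37, 8, 2), (8, 19, 2), (17, 36, 2), (24, 33, 2), (30, 28, 2), (40, 47, 2), (25, 34, 2), (38, 52, 2), (54, 8, 2), (35, 8, 2), (58, 19, 2), (45, 8, 2), (56, 19, 2)],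
  [(0, 52, 2), (11, 21, 2), (40, 34, 2), (3, 7, 1), (4, 1, 2), (58, 22, 2), (21, 51, 2), (19, 24, 2), (34, 34, 2), (12, 7, 2), (30, 18, 2), (1, 21, 2), (9, 7, 2), (32, 7, 2), (14, 42, 2), (56, 21, 2), (44, 15, 2), (51, 6, 2), (57, 7, 2), (7, 24, 2), (43, 22, 2), (6, 51, 2), (22, 11, 2), (23, 7, 2), (24, 39, 2), (55, 7, 2), (38, 7, 2), (27, 30, 2), (28, 49, 2), (41, 54, 2), (10, 18, 2), (33, 7, 2), (13, 7, 2), (31, 7, 2), (8, 34, 2), (52, 19, 2), (49, 24, 2), (42, 2, 2), (26, 7, 2), (48, 16, 2), (2, 34, 2), (29, 54, 2), (37, 2, 2), (20, 22, 2), (16, 15, 2), (45, 3, 2), (46, 36, 2), (47, 29, 2), (39, 16, 2), (36, 24, 2), (50, 20, 2), (17, 6, 2), (35, 19, 2), (53, 32, 2), (54, 55, 2), (25, 7, 2), (15, 21, 2), (18, 7, 2), (5, 22, 2)],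
  [(0, 53, 2), (43, 18, 2), (2, 1, 2), (35, 6, 2), (39, 55, 2), (13, 6, 2), (50, 29, 2), (32, 6, 2), (52, 21, 2), (27, 46, 2), (23, 22, 2), (11, 6, 2), (12, 36, 2), (5, 6, 2), (42, 29, 2), (15, 8, 2), (38, 2, 2), (51, 7, 2), (22, 10, 2), (28, 6, 2), (34, 2, 2), (21, 5, 1), (18, 10, 2), (10, 22, 2), (24, 42, 2), (58, 39, 2), (26, 34, 2), (9, 46, 2), (19, 6, 2), (29, 25, 2), (53, 50, 2), (31, 14, 2), (7, 6, 2), (44, 6, 2), (20, 2, 2), (3, 6, 2), (57, 27, 2), (37, 19, 2), (16, 2, 2), (4, 55, 2), (40, 51, 2), (56, 6, 2), (14, 29, 2), (1, 18, 2), (33, 6, 2), (45, 6, 2), (49, 46, 2), (47, 11, 2), (55, 18, 2), (46, 46, 2), (6, 29, 2), (17, 7, 2), (8, 21, 2), (30, 50, 2), (54, 43, 2), (48, 18, 2), (41, 6, 2), (36, 27, 2), (25, 39, 2)],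
  [(0, 54, 2), (14, 5, 2), (2, 48, 2), (23, 36, 2), (46, 47, 2), (22, 34, 2), (43, 5, 2), (55, 5, 2), (8, 5, 2), (11, 3, 2), (10, 30, 2), (9, 3, 2), (33, 41, 2), (24, 55, 2), (1, 5, 2), (38, 28, 2), (16, 51, 2), (57, 5, 2), (30, 52, 2), (19, 5, 2), (20, 35, 2), (21, 6, 1), (5, 34, 2), (3, 36, 2), (13, 55, 2), (54, 22, 2), (50, 15, 2), (44, 5, 2), (29, 38, 0), (28, 38, 1), (18, 52, 2), (58, 58, 2), (39, 5, 2), (12, 41, 2), (34, 11, 2), (51, 34, 2), (40, 15, 2), (52, 58, 2), (15, 28, 2), (32, 5, 2), (36, 15, 2), (41, 50, 2), (42, 46, 2), (6, 5, 2), (27, 5, 2), (45, 26, 2), (4, 47, 2), (47, 14, 2), (56, 41, 2), (49, 19, 2), (26, 15, 2), (35, 34, 2), (37, 58, 2), (53, 13, 2), (25, 22, 2), (7, 5, 2), (48, 41, 2), (17, 5, 2), (31, 58, 2)],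
  [(0, 55, 2), (1, 29, 0), (43, 4, 2), (33, 21, 2), (53, 39, 2), (5, 52, 2), (18, 11, 2), (7, 34, 2), (8, 24, 2), (40, 12, 2), (10, 25, 2), (13, 11, 2), (54, 46, 2), (11, 11, 2), (14, 23, 2), (25, 14, 2), (16, 28, 2), (32, 12, 2), (6, 11, 2), (56, 26, 2), (55, 53, 2), (21, 40, 2), (49, 4, 2), (48, 4, 1), (38, 18, 2), (15, 14, 2), (42, 17, 2), (27, 4, 2), (29, 39, 2), (28, 39, 2), (30, 4, 2), (34, 44, 2), (17, 12, 2), (3, 21, 2), (31, 44, 2), (46, 54, 2), (36, 9, 2), (37, 3, 2), (24, 18, 2), (39, 56, 2), (9, 12, 2), (44, 4, 2), (26, 17, 2), (2, 4, 2), (41, 4, 2), (50, 21, 2), (35, 54, 2), (57, 4, 2), (23, 4, 0), (22, 4, 2), (45, 21, 2), (51, 27, 2), (58, 4, 2), (4, 39, 2), (12, 46, 2), (20, 53, 2), (19, 26, 2), (47, 4, 2), (52, 4, 2)],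
  [(0, 56, 2), (1, 30, 2), (49, 57, 2), (25, 44, 2), (26, 40, 2), (41, 11, 2), (6, 18, 2), (21, 44, 2), (19, 1, 2), (11, 5, 2), (17, 1, 2), (9, 5, 2), (12, 21, 2), (13, 17, 2), (39, 3, 2), (56, 25, 2), (33, 3, 2), (10, 1, 2), (58, 43, 2), (8, 1, 2), (20, 55, 2), (7, 44, 2), (46, 3, 2), (54, 23, 2), (57, 9, 2), (3, 44, 2), (4, 40, 2), (27, 51, 2), (50, 3, 2), (42, 49, 2), (51, 9, 2), (47, 3, 2), (36, 3, 2), (16, 3, 2), (43, 23, 2), (35, 3, 2), (32, 3, 2), (37, 4, 2), (55, 33, 2), (14, 3, 2), (40, 32, 2), (5, 11, 2), (29, 49, 2), (34, 23, 2), (44, 42, 2), (45, 7, 2), (22, 3, 2), (31, 3, 2), (48, 39, 2), (2, 57, 2), (28, 3, 2), (30, 9, 2), (52, 3, 1), (53, 35, 2), (23, 23, 2), (38, 33, 2), (15, 25, 2), (24, 9, 2), (18, 43, 2)],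
  [(0, 57, 2), (51, 2, 2), (56, 49, 2), (9, 35, 2), (4, 12, 2), (5, 42, 2), (27, 23, 2), (7, 41, 2), (8, 14, 2), (3, 35, 2), (57, 56, 2), (54, 2, 2), (19, 9, 2), (21, 38, 2), (44, 49, 2), (15, 2, 2), (38, 6, 2), (45, 22, 2), (18, 34, 2), (12, 9, 2), (34, 6, 2), (13, 38, 2), (50, 2, 2), (47, 27, 2), (41, 2, 2), (52, 40, 2), (29, 2, 2), (6, 23, 2), (39, 13, 2), (26, 2, 2), (30, 44, 2), (46, 40, 2), (32, 26, 2), (33, 17, 2), (20, 6, 2), (36, 35, 2), (35, 35, 2), (42, 7, 2), (16, 6, 2), (28, 13, 2), (40, 20, 2), (24, 2, 2), (37, 7, 2), (43, 2, 2), (14, 49, 2), (17, 22, 2), (31, 40, 2), (23, 27, 2), (48, 31, 2), (49, 28, 2), (22, 2, 2), (1, 2, 2), (25, 40, 2), (58, 2, 2), (11, 2, 2), (55, 43, 2), (2, 49, 2), (10, 56, 2), (53, 2, 2)],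
  [(0, 58, 0), (28, 54, 2), (2, 6, 2), (43, 41, 2), (4, 7, 2), (58, 28, 2), (39, 34, 2), (22, 54, 2), (19, 3, 2), (9, 17, 2), (17, 3, 2), (25, 1, 2), (50, 1, 2), (44, 1, 2), (49, 36, 2), (15, 22, 2), (16, 13, 2), (10, 3, 2), (47, 47, 2), (8, 3, 2), (20, 10, 2), (48, 33, 2), (7, 54, 2), (45, 20, 2), (24, 45, 2), (11, 1, 2), (42, 20, 2), (35, 1, 2), (1, 54, 2), (56, 1, 2), (55, 1, 0), (34, 47, 2), (32, 21, 2), (33, 50, 2), (31, 47, 2), (27, 1, 2), (40, 19, 2), (37, 1, 2), (52, 11, 2), (6, 34, 2), (36, 19, 2), (53, 43, 2), (26, 20, 2), (3, 41, 2), (13, 1, 2), (23, 20, 2), (46, 38, 2), (18, 47, 2), (21, 33, 2), (14, 36, 2), (12, 1, 2), (51, 1, 2), (38, 11, 2), (41, 43, 2), (54, 14, 2), (30, 1, 1), (29, 1, 2), (57, 51, 2), (5, 28, 2)]]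

set_option maxRecDepth 100000 in
theorem chk59 : chkAll 59 gens59 ginv59 tab59 41 = true := by decide +kernel

end RegCert

end Cfsg.Agent.Lib.Helper2
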