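import Mathlib
import Cfsg.Agent.Lib.Helper9.SLRoot5

set_option autoImplicit false

/-!
# Subgroups of `SL_n` and the transvections they contain

`dirs H` : the centres `x` all of whose transvections lie in `H` (closed under `H`, sums, scalars).
`axs H x` : the axes `φ` with `tv x φ 1 ∈ H` (an additive group, with a "mixing" rule).
-/

namespace Cfsg.Agent.Lib.Helper2.RegUni

open Matrix Cfsg.Agent.H9SLRoot

variable {k : Type*} [Field k] {ι : Type*} [Fintype ι] [DecidableEq ι]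

/-- additivity of transvections in the axis -/
theorem tv_add_axis {x φ ψ : ι → k} (hφ : φ ⬝ᵥ x = 0) (hψ : ψ ⬝ᵥ x = 0) (c : k) :
    tv x φ c * tv x ψ c = tv x (φ + ψ) c := by
  have h : (φ + ψ) ⬝ᵥ x = 0 := by rw [add_dotProduct, hφ, hψ, add_zero]
  apply sl_ext
  intro v
  rw [coe_mul_mulVec, tv_mulVec hφ, tv_mulVec hψ, tv_mulVec h, dotProduct_add, dotProduct_smul, hφ,
    add_dotProduct]
  simp only [smul_eq_mul, mul_zero, add_zero]
  module

/-- additivity of transvections in the centre -/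
theorem tv_add_center {x y φ : ι → k} (hx : φ ⬝ᵥ x = 0) (hy : φ ⬝ᵥ y = 0) (c : k) :
    tv x φ c * tv y φ c = tv (x + y) φ c := by
  have h : φ ⬝ᵥ (x + y) = 0 := by rw [dotProduct_add, hx, hy, add_zero]
  apply sl_ext
  intro v
  rw [coe_mul_mulVec, tv_mulVec hx, tv_mulVec hy, tv_mulVec h, dotProduct_add, dotProduct_smul, hy]
  simp only [smul_eq_mul, mul_zero, add_zero]
  module

/-- centres all of whose transvections lie in `H` -/
def dirs (H : Subgroup (SpecialLinearGroup ι k)) : Set (ι → k) :=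
  {x | ∀ (φ : ι → k) (c : k), tv x φ c ∈ H}

theorem dirs_smul {H : Subgroup (SpecialLinearGroup ι k)} {x : ι → k} (hx : x ∈ dirs H) (a : k) :
    a • x ∈ dirs H := by
  intro φ c
  have h := tv_smul a 1 x φ c
  rw [one_smul] at h
  rw [h]
  exact hx φ _

theorem dirs_mulVec {H : Subgroup (SpecialLinearGroup ι k)} {x : ι → k} (hx : x ∈ dirs H)
    {g : SpecialLinearGroup ι k} (hg : g ∈ H) : (g : Matrix ι ι k) *ᵥ x ∈ dirs H := by
  intro φ c
  have h := tv_conj g x (φ ᵥ* (g : Matrix ι ι k)) c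
  rw [vecMul_vecMul_inv] at h
  rw [← h]
  exact H.mul_mem (H.mul_mem hg (hx _ _)) (H.inv_mem hg)

theorem dirs_zero (H : Subgroup (SpecialLinearGroup ι k)) : (0 : ι → k) ∈ dirs H := by
  intro φ c
  have : tv (0 : ι → k) φ c = 1 := by
    apply sl_ext
    intro v
    rw [tv_mulVec (dotProduct_zero _), coe_one_mulVec, smul_zero, add_zero]
  rw [this]
  exact H.one_mem

theorem dirs_add {H : Subgroup (SpecialLinearGroup ι k)} {x y : ι → k} (hx : x ∈ dirs H)
    (hy : y ∈ dirs H) : x + y ∈ dirs H := by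
  intro φ c
  by_cases hinc : φ ⬝ᵥ (x + y) = 0
  · by_cases hφx : φ ⬝ᵥ x = 0
    · have hφy : φ ⬝ᵥ y = 0 := by
        rw [dotProduct_add, hφx, zero_add] at hinc
        exact hinc
      rw [← tv_add_center hφx hφy]
      exact H.mul_mem (hx _ _) (hy _ _)
    · by_cases hspan : x ∈ Submodule.span k {y}
      · obtain ⟨a, rfl⟩ := Submodule.mem_span_singleton.mp hspan
        have hφy : φ ⬝ᵥ y ≠ 0 := by
          intro h0
          apply hφx
          rw [dotProduct_smul, h0, smul_zero]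
        have ha : a + 1 = 0 := by
          rw [dotProduct_add, dotProduct_smul, smul_eq_mul] at hinc
          have : (a + 1) * (φ ⬝ᵥ y) = 0 := by rw [add_mul, one_mul]; exact hinc
          rcases mul_eq_zero.mp this with h | h
          · exact h
          · exact absurd h hφy
        have : a • y + y = 0 := by
          have : a • y + y = (a + 1) • y := by rw [add_smul, one_smul]
          rw [this, ha, zero_smul]
        rw [this]
        exact dirs_zero H φ c
      · obtain ⟨ρ, hρx, hρy⟩ := exists_dot_sep hspan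
        -- g = tv y ρ 1 maps x to x + y
        have hgH : tv y ρ 1 ∈ H := hy ρ 1
        have hgx : ((tv y ρ 1 : SpecialLinearGroup ι k) : Matrix ι ι k) *ᵥ x = x + y := by
          rw [tv_mulVec hρy, hρx, mul_one, one_smul]
        have := dirs_mulVec hx hgH
        rw [hgx] at this
        exact this φ c
  · rw [tv_of_not hinc]
    exact H.one_mem

theorem dirs_neg {H : Subgroup (SpecialLinearGroup ι k)} {x : ι → k} (hx : x ∈ dirs H) :
    -x ∈ dirs H := by
  have := dirs_smul hx (-1)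
  rwa [neg_one_smul] at this

theorem dirs_sub {H : Subgroup (SpecialLinearGroup ι k)} {x y : ι → k} (hx : x ∈ dirs H)
    (hy : y ∈ dirs H) : x - y ∈ dirs H := by
  rw [sub_eq_add_neg]
  exact dirs_add hx (dirs_neg hy)

/-- if all basis vectors are in `dirs H` then `H = ⊤` -/
theorem eq_top_of_dirs [Nontrivial ι] {H : Subgroup (SpecialLinearGroup ι k)}
    (h : ∀ i : ι, (e i : ι → k) ∈ dirs H) : H = ⊤ := by
  apply Cfsg.Agent.Lib.Helper1.eq_top_of_transvection_mem
  intro i j hij c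
  have h1 := h i (e j) c
  have h2 : tv (e i : ι → k) (e j) c = SpecialLinearGroup.transvection hij c := by
    apply Subtype.ext
    rw [tv_e_coe hij, SpecialLinearGroup.transvection_coe]
    rfl
  rw [← h2]
  exact h1

/-- axes `φ` of transvections with centre `x` lying in `H` -/
def axs (H : Subgroup (SpecialLinearGroup ι k)) (x : ι → k) : Set (ι → k) :=
  {φ | φ ⬝ᵥ x = 0 ∧ tv x φ 1 ∈ H}

theorem axs_zero (H : Subgroup (SpecialLinearGroup ι k)) (x : ι → k) : (0 : ι → k) ∈ axs H x := by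
  refine ⟨zero_dotProduct _, ?_⟩
  have : tv x (0 : ι → k) 1 = 1 := by
    apply sl_ext
    intro v
    rw [tv_mulVec (zero_dotProduct _), coe_one_mulVec, zero_dotProduct, mul_zero, zero_smul,
      add_zero]
  rw [this]
  exact H.one_mem

theorem axs_add {H : Subgroup (SpecialLinearGroup ι k)} {x φ ψ : ι → k} (hφ : φ ∈ axs H x)
    (hψ : ψ ∈ axs H x) : φ + ψ ∈ axs H x := by
  refine ⟨by rw [add_dotProduct, hφ.1, hψ.1, add_zero], ?_⟩
  rw [← tv_add_axis hφ.1 hψ.1]
  exact H.mul_mem hφ.2 hψ.2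

theorem axs_neg {H : Subgroup (SpecialLinearGroup ι k)} {x φ : ι → k} (hφ : φ ∈ axs H x) :
    -φ ∈ axs H x := by
  refine ⟨by rw [neg_dotProduct, hφ.1, neg_zero], ?_⟩
  have h := tv_smul 1 (-1) x φ 1
  rw [one_smul, neg_one_smul] at h
  rw [h]
  have : (1 : k) * -1 * 1 = -1 := by ring
  rw [this, ← tv_inv]
  exact H.inv_mem hφ.2

theorem axs_sub {H : Subgroup (SpecialLinearGroup ι k)} {x φ ψ : ι → k} (hφ : φ ∈ axs H x)
    (hψ : ψ ∈ axs H x) : φ - ψ ∈ axs H x := by
  rw [sub_eq_add_neg]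
  exact axs_add hφ (axs_neg hψ)

/-- `tv x φ c ∈ H` in terms of `axs` -/
theorem smul_mem_axs_iff {H : Subgroup (SpecialLinearGroup ι k)} {x φ : ι → k} (hφ : φ ⬝ᵥ x = 0)
    (c : k) : c • φ ∈ axs H x ↔ tv x φ c ∈ H := by
  have h := tv_smul 1 c x φ 1
  rw [one_smul] at h
  have h2 : (1 : k) * c * 1 = c := by ring
  rw [h2] at h
  constructor
  · intro hc
    rw [← h]
    exact hc.2
  · intro hc
    refine ⟨by rw [smul_dotProduct, hφ, smul_zero], ?_⟩
    rw [h]
    exact hc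

/-- invariance of `axs` under elements of `H` fixing the centre -/
theorem axs_vecMul {H : Subgroup (SpecialLinearGroup ι k)} {x φ : ι → k} (hφ : φ ∈ axs H x)
    {g : SpecialLinearGroup ι k} (hg : g ∈ H) (hgx : (g : Matrix ι ι k) *ᵥ x = x) :
    φ ᵥ* (g : Matrix ι ι k) ∈ axs H x := by
  have hix : ((g⁻¹ : SpecialLinearGroup ι k) : Matrix ι ι k) *ᵥ x = x := by
    conv_lhs => rw [← hgx]
    exact inv_mulVec_mulVec g x
  have h := tv_conj g⁻¹ x φ 1
  rw [inv_inv, hix] at h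
  refine ⟨?_, ?_⟩
  · have := dot_conj g⁻¹ x φ
    rw [inv_inv, hix] at this
    rw [this]
    exact hφ.1
  · rw [← h]
    exact H.mul_mem (H.mul_mem (H.inv_mem hg) hφ.2) hg

/-- the mixing rule -/
theorem axs_mix {H : Subgroup (SpecialLinearGroup ι k)} {x φ ψ : ι → k} (hφ : φ ∈ axs H x)
    (hψ : ψ ∈ axs H x) {g : SpecialLinearGroup ι k} (hg : g ∈ H)
    (hinc : (ψ ᵥ* ((g⁻¹ : SpecialLinearGroup ι k) : Matrix ι ι k)) ⬝ᵥ x = 0) :
    (φ ⬝ᵥ ((g : Matrix ι ι k) *ᵥ x)) • (ψ ᵥ* ((g⁻¹ : SpecialLinearGroup ι k) : Matrix ι ι k)) ∈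
      axs H x := by
  set x' := (g : Matrix ι ι k) *ᵥ x with hx'
  set φ' := ψ ᵥ* ((g⁻¹ : SpecialLinearGroup ι k) : Matrix ι ι k) with hφ'
  have h2 : tv x' φ' 1 ∈ H := by
    have h := tv_conj g x ψ 1
    rw [← hx', ← hφ'] at h
    rw [← h]
    exact H.mul_mem (H.mul_mem hg hψ.2) (H.inv_mem hg)
  have hinc' : φ' ⬝ᵥ x' = 0 := by
    rw [hφ', hx', dot_conj]
    exact hψ.1
  have hcomm := tv_commutator hinc' hφ.1 hinc 1 1
  have hmem : tv x φ' (-(1 * 1 * (φ ⬝ᵥ x'))) ∈ H := by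
    rw [← hcomm]
    exact H.mul_mem (H.mul_mem (H.mul_mem h2 hφ.2) (H.inv_mem h2)) (H.inv_mem hφ.2)
  have h3 := (smul_mem_axs_iff (H := H) hinc (-(1 * 1 * (φ ⬝ᵥ x')))).mpr hmem
  have h4 := axs_neg h3
  have : -((-(1 * 1 * (φ ⬝ᵥ x'))) • φ') = (φ ⬝ᵥ x') • φ' := by
    rw [one_mul, one_mul, neg_smul, neg_neg]
  rw [this] at h4
  exact h4

end Cfsg.Agent.Lib.Helper2.RegUni
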