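import Mathlib
import Cfsg.Agent.Lib.Helper2.RegUni1

set_option autoImplicit false

/-!
# The upper Jordan block, a lower bidiagonal conjugate, and the reversal
-/

namespace Cfsg.Agent.Lib.Helper2.RegUni

open Matrix Cfsg.Agent.H9SLRoot

variable {F : Type*} [Field F] (m : ℕ)

/-- upper Jordan block -/
def Umat : Matrix (Fin (m + 1)) (Fin (m + 1)) F :=
  Matrix.of fun i j => if i = j then 1 else if i.val + 1 = j.val then 1 else 0

theorem Umat_apply (i j : Fin (m + 1)) :
    Umat (F := F) m i j = if i = j then 1 else if i.val + 1 = j.val then 1 else 0 := rfl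

theorem det_Umat : (Umat (F := F) m).det = 1 := by
  have h : (Umat (F := F) m).IsUpperTriangular := by
    intro i j hij
    simp only [id] at hij
    have h1 : j.val < i.val := Fin.lt_def.mp hij
    rw [Umat_apply, if_neg (fun h => by rw [h] at h1; exact lt_irrefl _ h1), if_neg (by omega)]
  rw [det_of_isUpperTriangular h]
  apply Finset.prod_eq_one
  intro i _
  rw [Umat_apply, if_pos rfl]

/-- the upper Jordan block as an element of `SL` -/
def uSL : SpecialLinearGroup (Fin (m + 1)) F := ⟨Umat m, det_Umat m⟩

theorem uSL_coe : ((uSL m : SpecialLinearGroup (Fin (m + 1)) F) : Matrix _ _ F) = Umat m := rfl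

/-- the nilpotent part -/
theorem Umat_sub_one_apply (i j : Fin (m + 1)) :
    (Umat (F := F) m - 1) i j = if i.val + 1 = j.val then 1 else 0 := by
  rw [Matrix.sub_apply, Umat_apply, Matrix.one_apply]
  by_cases h : i = j
  · rw [if_pos h, if_pos h, sub_self, if_neg]
    rw [h]; omega
  · rw [if_neg h, if_neg h, sub_zero]

theorem Umat_sub_one_pow_apply (t : ℕ) (i j : Fin (m + 1)) :
    ((Umat (F := F) m - 1) ^ t) i j = if i.val + t = j.val then 1 else 0 := by
  induction t generalizing i j with
  | zero =>
    rw [pow_zero, Matrix.one_apply, add_zero]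
    by_cases h : i = j
    · rw [if_pos h, if_pos (by rw [h])]
    · rw [if_neg h, if_neg (fun h' => h (Fin.ext h'))]
  | succ t ih =>
    rw [pow_succ, Matrix.mul_apply]
    by_cases h : i.val + (t + 1) = j.val
    · rw [if_pos h]
      have hl : i.val + t < m + 1 := by have := j.isLt; omega
      rw [Finset.sum_eq_single (⟨i.val + t, hl⟩ : Fin (m + 1))]
      · rw [ih, Umat_sub_one_apply, if_pos rfl, if_pos (by simp only; omega), mul_one]
      · intro l _ hne
        rw [ih]
        by_cases h2 : i.val + t = l.val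
        · exact absurd (Fin.ext h2.symm) hne
        · rw [if_neg h2, zero_mul]
      · intro h0; exact absurd (Finset.mem_univ _) h0
    · rw [if_neg h]
      apply Finset.sum_eq_zero
      intro l _
      rw [ih, Umat_sub_one_apply]
      by_cases h2 : i.val + t = l.val
      · rw [if_pos h2, if_neg (by omega), mul_zero]
      · rw [if_neg h2, zero_mul]

theorem Umat_isNilpotent : IsNilpotent (Umat (F := F) m - 1) := by
  refine ⟨m + 1, ?_⟩
  ext i j
  rw [Umat_sub_one_pow_apply, Matrix.zero_apply, if_neg]
  have := j.isLt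
  omega

theorem Umat_pow_ne_zero : (Umat (F := F) m - 1) ^ m ≠ 0 := by
  intro h
  have h1 := congrFun (congrFun h 0) (Fin.last m)
  rw [Umat_sub_one_pow_apply, Matrix.zero_apply, if_pos (by simp)] at h1
  exact one_ne_zero h1

/-- columns of `Umat` -/
theorem Umat_mulVec_e_zero (j : Fin (m + 1)) (hj : j.val = 0) :
    Umat (F := F) m *ᵥ e j = e j := by
  unfold e
  rw [mulVec_single_one]
  ext i
  rw [Matrix.col_apply, Umat_apply, Pi.single_apply]
  by_cases h : i = j
  · rw [if_pos h, if_pos h]
  · rw [if_neg h, if_neg h, if_neg (by omega)]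

theorem Umat_mulVec_e_succ (j : Fin (m + 1)) (hj : 1 ≤ j.val) :
    Umat (F := F) m *ᵥ e j = e j + e (⟨j.val - 1, by have := j.isLt; omega⟩ : Fin (m + 1)) := by
  unfold e
  rw [mulVec_single_one]
  ext i
  rw [Matrix.col_apply, Umat_apply, Pi.add_apply, Pi.single_apply, Pi.single_apply]
  by_cases h : i = j
  · rw [if_pos h, if_pos h, if_neg, add_zero]
    intro h'
    have := congrArg Fin.val h'
    rw [h] at this
    simp only at this
    omega
  · rw [if_neg h, if_neg h, zero_add]
    by_cases h2 : i.val + 1 = j.val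
    · rw [if_pos h2, if_pos]
      apply Fin.ext
      simp only
      omega
    · rw [if_neg h2, if_neg]
      intro h'
      have := congrArg Fin.val h'
      simp only at this
      omega

/-- rows of `Umat` -/
theorem e_vecMul_Umat_last (i : Fin (m + 1)) (hi : i.val = m) :
    e i ᵥ* Umat (F := F) m = e i := by
  unfold e
  rw [single_one_vecMul]
  ext j
  rw [Matrix.row_apply, Umat_apply, Pi.single_apply]
  by_cases h : i = j
  · rw [if_pos h, if_pos h.symm]
  · rw [if_neg h, if_neg (show ¬ j = i from fun h' => h h'.symm), if_neg]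
    have := j.isLt
    omega

theorem e_vecMul_Umat_lt (i : Fin (m + 1)) (hi : i.val < m) :
    e i ᵥ* Umat (F := F) m = e i + e (⟨i.val + 1, by omega⟩ : Fin (m + 1)) := by
  unfold e
  rw [single_one_vecMul]
  ext j
  rw [Matrix.row_apply, Umat_apply, Pi.add_apply, Pi.single_apply, Pi.single_apply]
  by_cases h : i = j
  · rw [if_pos h, if_pos h.symm, if_neg, add_zero]
    intro h'
    have := congrArg Fin.val h'
    rw [← h] at this
    simp only at this
    omega
  · rw [if_neg h, if_neg (show ¬ j = i from fun h' => h h'.symm), zero_add]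
    by_cases h2 : i.val + 1 = j.val
    · rw [if_pos h2, if_pos]
      apply Fin.ext
      simp only
      omega
    · rw [if_neg h2, if_neg]
      intro h'
      have := congrArg Fin.val h'
      simp only at this
      omega

/-- the coefficient function of the lower matrix -/
def cf (ε : F) (i : Fin (m + 1)) : F := if i.val = m then ε else 1

/-- lower bidiagonal matrix -/
def Lmat (ε : F) : Matrix (Fin (m + 1)) (Fin (m + 1)) F :=
  Matrix.of fun i j => if i = j then 1 else if j.val + 1 = i.val then cf m ε i else 0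

theorem Lmat_apply (ε : F) (i j : Fin (m + 1)) :
    Lmat m ε i j = if i = j then 1 else if j.val + 1 = i.val then cf m ε i else 0 := rfl

theorem det_Lmat (ε : F) : (Lmat m ε).det = 1 := by
  have h : (Lmat m ε).IsLowerTriangular := by
    intro i j hij
    have h1 : i.val < j.val := Fin.lt_def.mp (OrderDual.toDual_lt_toDual.mp hij)
    rw [Lmat_apply, if_neg (fun h => by rw [h] at h1; exact lt_irrefl _ h1), if_neg (by omega)]
  rw [det_of_isLowerTriangular _ h]
  apply Finset.prod_eq_one
  intro i _
  rw [Lmat_apply, if_pos rfl]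

/-- the lower matrix as an element of `SL` -/
def vSL (ε : F) : SpecialLinearGroup (Fin (m + 1)) F := ⟨Lmat m ε, det_Lmat m ε⟩

theorem vSL_coe (ε : F) :
    ((vSL m ε : SpecialLinearGroup (Fin (m + 1)) F) : Matrix _ _ F) = Lmat m ε := rfl

/-- columns of `Lmat` -/
theorem Lmat_mulVec_e_last (ε : F) (k : Fin (m + 1)) (hk : k.val = m) :
    Lmat m ε *ᵥ e k = e k := by
  unfold e
  rw [mulVec_single_one]
  ext i
  rw [Matrix.col_apply, Lmat_apply, Pi.single_apply]
  by_cases h : i = k
  · rw [if_pos h, if_pos h]
  · rw [if_neg h, if_neg h, if_neg]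
    have := i.isLt
    omega

theorem Lmat_mulVec_e_lt (ε : F) (k : Fin (m + 1)) (hk : k.val < m) :
    Lmat m ε *ᵥ e k = e k + cf m ε (⟨k.val + 1, by omega⟩ : Fin (m + 1)) •
      e (⟨k.val + 1, by omega⟩ : Fin (m + 1)) := by
  unfold e
  rw [mulVec_single_one]
  ext i
  rw [Matrix.col_apply, Lmat_apply, Pi.add_apply, Pi.smul_apply, Pi.single_apply, Pi.single_apply,
    smul_eq_mul]
  by_cases h : i = k
  · rw [if_pos h, if_pos h, if_neg, mul_zero, add_zero]
    intro h'
    have := congrArg Fin.val h'
    rw [h] at this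
    simp only at this
    omega
  · rw [if_neg h, if_neg h, zero_add]
    by_cases h2 : k.val + 1 = i.val
    · have h3 : i = (⟨k.val + 1, by omega⟩ : Fin (m + 1)) := Fin.ext h2.symm
      rw [if_pos h2, if_pos h3, mul_one, h3]
    · rw [if_neg h2, if_neg, mul_zero]
      intro h'
      have := congrArg Fin.val h'
      simp only at this
      omega

/-- rows of `Lmat` -/
theorem e_vecMul_Lmat_succ (ε : F) (k : Fin (m + 1)) (hk : 1 ≤ k.val) :
    e k ᵥ* Lmat m ε = e k + cf m ε k •
      e (⟨k.val - 1, by have := k.isLt; omega⟩ : Fin (m + 1)) := by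
  unfold e
  rw [single_one_vecMul]
  ext j
  rw [Matrix.row_apply, Lmat_apply, Pi.add_apply, Pi.smul_apply, Pi.single_apply, Pi.single_apply,
    smul_eq_mul]
  by_cases h : k = j
  · rw [if_pos h, if_pos h.symm, if_neg, mul_zero, add_zero]
    intro h'
    have := congrArg Fin.val h'
    rw [← h] at this
    simp only at this
    omega
  · rw [if_neg h, if_neg (show ¬ j = k from fun h' => h h'.symm), zero_add]
    by_cases h2 : j.val + 1 = k.val
    · rw [if_pos h2, if_pos, mul_one]
      apply Fin.ext
      simp only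
      omega
    · rw [if_neg h2, if_neg, mul_zero]
      intro h'
      have := congrArg Fin.val h'
      simp only at this
      omega

/-- general formula for `Lmat *ᵥ x` -/
theorem Lmat_mulVec_apply (ε : F) (x : Fin (m + 1) → F) (i : Fin (m + 1)) :
    (Lmat m ε *ᵥ x) i = x i + (if h : 1 ≤ i.val then
      cf m ε i * x (⟨i.val - 1, by have := i.isLt; omega⟩ : Fin (m + 1)) else 0) := by
  rw [Matrix.mulVec, dotProduct]
  have hsplit : ∀ j : Fin (m + 1), Lmat m ε i j * x j =
      (if i = j then x j else 0) + (if j.val + 1 = i.val then cf m ε i * x j else 0) := by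
    intro j
    rw [Lmat_apply]
    by_cases h : i = j
    · rw [if_pos h, if_pos h, one_mul, if_neg, add_zero]
      rw [h]; omega
    · rw [if_neg h, if_neg h, zero_add]
      by_cases h2 : j.val + 1 = i.val
      · rw [if_pos h2, if_pos h2]
      · rw [if_neg h2, if_neg h2, zero_mul]
  rw [Finset.sum_congr rfl (fun j _ => hsplit j), Finset.sum_add_distrib, Finset.sum_ite_eq,
    if_pos (Finset.mem_univ _)]
  congr 1
  by_cases h1 : 1 ≤ i.val
  · rw [dif_pos h1]
    rw [Finset.sum_eq_single (⟨i.val - 1, by have := i.isLt; omega⟩ : Fin (m + 1))]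
    · rw [if_pos]
      simp only
      omega
    · intro j _ hne
      rw [if_neg]
      intro h'
      apply hne
      apply Fin.ext
      simp only
      omega
    · intro h0; exact absurd (Finset.mem_univ _) h0
  · rw [dif_neg h1]
    apply Finset.sum_eq_zero
    intro j _
    rw [if_neg]
    omega

/-- the preimage of `e 0` under `Lmat` -/
def zvec (ε : F) : Fin (m + 1) → F := fun i => (-1) ^ i.val * cf m ε i

theorem Lmat_mulVec_zvec (ε : F) (hm : 1 ≤ m) (j : Fin (m + 1)) (hj : j.val = 0) :
    Lmat m ε *ᵥ zvec m ε = e j := by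
  ext i
  rw [Lmat_mulVec_apply]
  unfold e
  rw [Pi.single_apply]
  by_cases h1 : 1 ≤ i.val
  · rw [dif_pos h1, if_neg (fun h => by rw [h] at h1; omega)]
    unfold zvec
    have hc : cf m ε (⟨i.val - 1, by have := i.isLt; omega⟩ : Fin (m + 1)) = 1 := by
      unfold cf
      rw [if_neg]
      simp only
      have := i.isLt
      omega
    rw [hc, mul_one]
    simp only
    obtain ⟨t, ht⟩ : ∃ t, i.val = t + 1 := ⟨i.val - 1, by omega⟩
    rw [ht, Nat.add_sub_cancel, pow_succ]
    ring
  · rw [dif_neg h1, add_zero]
    have hi0 : i.val = 0 := by omega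
    have : i = j := Fin.ext (by rw [hi0, hj])
    rw [if_pos this]
    unfold zvec cf
    rw [hi0, pow_zero, one_mul, if_neg (by omega)]

theorem zvec_last (ε : F) (i : Fin (m + 1)) (hi : i.val = m) : zvec m ε i = (-1) ^ m * ε := by
  unfold zvec cf
  rw [if_pos hi, hi]

end Cfsg.Agent.Lib.Helper2.RegUni
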