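import Mathlib
import Cfsg.Agent.Lib.Helper2.RegUni2

set_option autoImplicit false

/-!
# The reversal conjugates the upper Jordan block to a lower bidiagonal matrix
-/

namespace Cfsg.Agent.Lib.Helper2.RegUni

open Matrix Cfsg.Agent.H9SLRoot

variable {F : Type*} [Field F] (m : ℕ)

theorem ext_cols {A B : Matrix (Fin (m + 1)) (Fin (m + 1)) F}
    (h : ∀ j : Fin (m + 1), A *ᵥ e j = B *ᵥ e j) : A = B := by
  ext i j
  have := congrFun (h j) i
  unfold e at this
  rw [mulVec_single_one, mulVec_single_one, Matrix.col_apply, Matrix.col_apply] at this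
  exact this

/-- index reversal -/
def rv (j : Fin (m + 1)) : Fin (m + 1) := ⟨m - j.val, by omega⟩

theorem rv_val (j : Fin (m + 1)) : (rv m j).val = m - j.val := rfl

theorem rv_rv (j : Fin (m + 1)) : rv m (rv m j) = j := by
  apply Fin.ext
  rw [rv_val, rv_val]
  have := j.isLt
  omega

/-- reversal matrix -/
def revMat : Matrix (Fin (m + 1)) (Fin (m + 1)) F :=
  Matrix.of fun i j => if i.val + j.val = m then 1 else 0

theorem revMat_mulVec_e (j : Fin (m + 1)) : revMat (F := F) m *ᵥ e j = e (rv m j) := by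
  unfold e
  rw [mulVec_single_one]
  ext i
  rw [Matrix.col_apply, Pi.single_apply]
  show (if i.val + j.val = m then (1 : F) else 0) = _
  by_cases h : i.val + j.val = m
  · rw [if_pos h, if_pos]
    apply Fin.ext
    rw [rv_val]
    omega
  · rw [if_neg h, if_neg]
    intro h'
    have := congrArg Fin.val h'
    rw [rv_val] at this
    have := j.isLt
    omega

theorem revMat_mul_self : revMat (F := F) m * revMat m = 1 := by
  apply ext_cols
  intro j
  rw [← Matrix.mulVec_mulVec, revMat_mulVec_e, revMat_mulVec_e, rv_rv, Matrix.one_mulVec]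

theorem det_revMat_mul_self : (revMat (F := F) m).det * (revMat (F := F) m).det = 1 := by
  rw [← Matrix.det_mul, revMat_mul_self, Matrix.det_one]

/-- the diagonal correction -/
def dfun (ε : F) (i : Fin (m + 1)) : F := if i.val = 0 then ε else 1

theorem det_diag_dfun (ε : F) : (Matrix.diagonal (dfun m ε)).det = ε := by
  rw [Matrix.det_diagonal, Finset.prod_eq_single (0 : Fin (m + 1))]
  · unfold dfun
    rw [if_pos (by simp)]
  · intro i _ hi
    unfold dfun
    rw [if_neg]
    intro h
    exact hi (Fin.ext h)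
  · intro h0; exact absurd (Finset.mem_univ _) h0

/-- the conjugating matrix -/
def R0 (ε : F) : Matrix (Fin (m + 1)) (Fin (m + 1)) F := revMat m * Matrix.diagonal (dfun m ε)

theorem R0_mulVec_e (ε : F) (j : Fin (m + 1)) : R0 m ε *ᵥ e j = dfun m ε j • e (rv m j) := by
  unfold R0
  rw [← Matrix.mulVec_mulVec]
  have : Matrix.diagonal (dfun m ε) *ᵥ e j = dfun m ε j • e j := by
    unfold e
    rw [diagonal_mulVec_single, mul_one]
    ext i
    rw [Pi.smul_apply, Pi.single_apply, Pi.single_apply, smul_eq_mul]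
    split_ifs <;> simp
  rw [this, Matrix.mulVec_smul, revMat_mulVec_e]

theorem R0_intertwine (ε : F) (hm : 1 ≤ m) : R0 m ε * Umat m = Lmat m ε * R0 m ε := by
  apply ext_cols
  intro j
  rw [← Matrix.mulVec_mulVec, ← Matrix.mulVec_mulVec]
  by_cases hj : j.val = 0
  · rw [Umat_mulVec_e_zero m j hj, R0_mulVec_e, Matrix.mulVec_smul,
      Lmat_mulVec_e_last m ε (rv m j) (by rw [rv_val, hj]; omega)]
  · have hj1 : 1 ≤ j.val := by omega
    have hjm : j.val ≤ m := by have := j.isLt; omega
    rw [Umat_mulVec_e_succ m j hj1, Matrix.mulVec_add, R0_mulVec_e, R0_mulVec_e, Matrix.mulVec_smul,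
      Lmat_mulVec_e_lt m ε (rv m j) (by rw [rv_val]; omega)]
    have h1 : dfun m ε j = 1 := by
      unfold dfun
      rw [if_neg hj]
    have h2 : rv m (⟨j.val - 1, by omega⟩ : Fin (m + 1)) =
        (⟨(rv m j).val + 1, by rw [rv_val]; omega⟩ : Fin (m + 1)) := by
      apply Fin.ext
      rw [rv_val]
      simp only [rv_val]
      omega
    have h3 : dfun m ε (⟨j.val - 1, by omega⟩ : Fin (m + 1)) =
        cf m ε (⟨(rv m j).val + 1, by rw [rv_val]; omega⟩ : Fin (m + 1)) := by
      show (if j.val - 1 = 0 then ε else 1) = (if (m - j.val) + 1 = m then ε else 1)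
      by_cases h : j.val = 1
      · rw [if_pos (by omega), if_pos (by omega)]
      · rw [if_neg (by omega), if_neg (by omega)]
    rw [h1, one_smul, one_smul, h2, h3]

/-- the conjugating element of `SL` -/
noncomputable def hSL : SpecialLinearGroup (Fin (m + 1)) F :=
  ⟨R0 m (revMat (F := F) m).det, by
    unfold R0
    rw [Matrix.det_mul, det_diag_dfun, det_revMat_mul_self]⟩

/-- the sign -/
noncomputable def sgn : F := (revMat (F := F) m).det

theorem sgn_mul_self : sgn (F := F) m * sgn m = 1 := det_revMat_mul_self m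

theorem sgn_ne_zero : sgn (F := F) m ≠ 0 := by
  intro h
  have := sgn_mul_self (F := F) m
  rw [h, zero_mul] at this
  exact zero_ne_one this

theorem hSL_conj (hm : 1 ≤ m) :
    hSL (F := F) m * uSL m * (hSL m)⁻¹ = vSL m (sgn m) := by
  rw [mul_inv_eq_iff_eq_mul]
  apply Subtype.ext
  exact R0_intertwine m _ hm

end Cfsg.Agent.Lib.Helper2.RegUni
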