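import Mathlib
import Cfsg.Agent.Lib.Helper2.RegUni3

set_option autoImplicit false

/-!
# A subgroup containing the upper Jordan block, the opposite one and a central transvection
-/

namespace Cfsg.Agent.Lib.Helper2.RegUni

open Matrix Cfsg.Agent.H9SLRoot

variable {F : Type*} [Field F] (m : ℕ)

/-- last index -/
def il : Fin (m + 1) := ⟨m, by omega⟩

/-- penultimate index -/
def ip : Fin (m + 1) := ⟨m - 1, by omega⟩

section core

variable {m} (hm : 2 ≤ m) {ε : F} (hε : ε ≠ 0) {H : Subgroup (SpecialLinearGroup (Fin (m + 1)) F)}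
  (hu : uSL m ∈ H) (hv : vSL m ε ∈ H)

include hv in
/-- one mixing step with the inverse of the lower element -/
theorem mixstep {φ : Fin (m + 1) → F} (hφ : φ ∈ axs H (e (0 : Fin (m + 1))))
    (k : Fin (m + 1)) (hk : 2 ≤ k.val) (c : F) (hc : c • e k ∈ axs H (e (0 : Fin (m + 1)))) :
    (φ ⬝ᵥ zvec m ε) • (c • (e k + cf m ε k •
      e (⟨k.val - 1, by have := k.isLt; omega⟩ : Fin (m + 1)))) ∈ axs H (e (0 : Fin (m + 1))) := by
  have hg : (vSL m ε)⁻¹ ∈ H := H.inv_mem hv
  have h1 : (c • (e k : Fin (m + 1) → F)) ᵥ* (((vSL m ε)⁻¹⁻¹ : Matrix.SpecialLinearGroup _ F) : Matrix _ _ F) =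
      c • (e k + cf m ε k • e (⟨k.val - 1, by have := k.isLt; omega⟩ : Fin (m + 1))) := by
    rw [inv_inv, vSL_coe, Matrix.smul_vecMul, e_vecMul_Lmat_succ m ε k (by omega)]
  have h2 : ((((vSL m ε)⁻¹ : Matrix.SpecialLinearGroup _ F)) : Matrix _ _ F) *ᵥ e (0 : Fin (m + 1)) =
      zvec m ε := by
    have hz := Lmat_mulVec_zvec m ε (by omega) (0 : Fin (m + 1)) rfl
    rw [← hz, ← vSL_coe]
    exact inv_mulVec_mulVec _ _
  have hinc : ((c • (e k : Fin (m + 1) → F)) ᵥ*
      (((vSL m ε)⁻¹⁻¹ : Matrix.SpecialLinearGroup _ F) : Matrix _ _ F)) ⬝ᵥ e (0 : Fin (m + 1)) = 0 := by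
    rw [h1, smul_dotProduct, add_dotProduct, smul_dotProduct, e_dot_e_ne, e_dot_e_ne]
    · simp
    · intro h
      have := congrArg Fin.val h
      simp only [Fin.val_zero] at this
      omega
    · intro h
      have := congrArg Fin.val h
      simp only [Fin.val_zero] at this
      omega
  have := axs_mix hφ hc hg hinc
  rw [h1, h2] at this
  exact this

include hm hu hv in
/-- the multiplicative closure property of the coefficients of the central transvections -/
theorem coeff_closed {s s' : F} (hs : s • e (il m) ∈ axs H (e (0 : Fin (m + 1))))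
    (hs' : s' • e (il m) ∈ axs H (e (0 : Fin (m + 1)))) :
    (((-1) ^ m * ε * ε) * s * s') • e (il m) ∈ axs H (e (0 : Fin (m + 1))) := by
  have h1 := mixstep hv hs (il m) (by show 2 ≤ m; exact hm) s' hs'
  have hzl : (s • (e (il m) : Fin (m + 1) → F)) ⬝ᵥ zvec m ε = s * ((-1) ^ m * ε) := by
    rw [smul_dotProduct]
    unfold e
    rw [single_one_dotProduct, zvec_last m ε (il m) rfl, smul_eq_mul]
  have hcf : cf m ε (il m) = ε := by
    unfold cf
    rw [if_pos (show (il m).val = m from rfl)]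
  have hidx : (⟨(il m).val - 1, by have := (il m).isLt; omega⟩ : Fin (m + 1)) = ip m := rfl
  rw [hzl, hcf, hidx] at h1
  have hu0 : ((uSL m : Matrix.SpecialLinearGroup (Fin (m + 1)) F) :
      Matrix (Fin (m + 1)) (Fin (m + 1)) F) *ᵥ e (0 : Fin (m + 1)) = e 0 :=
    Umat_mulVec_e_zero m 0 rfl
  have h2 := axs_vecMul h1 hu hu0
  have h3 := axs_sub h2 h1
  have hrow1 : (e (il m) : Fin (m + 1) → F) ᵥ* Umat m = e (il m) := e_vecMul_Umat_last m (il m) rfl
  have hrow2 : (e (ip m) : Fin (m + 1) → F) ᵥ* Umat m = e (ip m) + e (il m) := by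
    have := e_vecMul_Umat_lt (F := F) m (ip m) (by show m - 1 < m; omega)
    rw [this]
    congr 2
    apply Fin.ext
    show m - 1 + 1 = m
    omega
  have : ((s * ((-1) ^ m * ε)) • s' • ((e (il m) : Fin (m + 1) → F) + ε • e (ip m))) ᵥ*
        ((uSL m : Matrix.SpecialLinearGroup _ F) : Matrix _ _ F) -
      (s * ((-1) ^ m * ε)) • s' • ((e (il m) : Fin (m + 1) → F) + ε • e (ip m)) =
      (((-1) ^ m * ε * ε) * s * s') • e (il m) := by
    rw [uSL_coe, Matrix.smul_vecMul, Matrix.smul_vecMul, Matrix.add_vecMul, Matrix.smul_vecMul, hrow1,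
      hrow2]
    ext j
    simp only [Pi.sub_apply, Pi.smul_apply, Pi.add_apply, smul_eq_mul]
    ring
  rw [this] at h3
  exact h3

include hm hε hu hv in
/-- all central transvections lie in `H` -/
theorem all_central {s₀ : F} (hs₀ : s₀ • e (il m) ∈ axs H (e (0 : Fin (m + 1))))
    (hgen : ∀ a : F, a ≠ 0 → ∃ j : ℕ, a = s₀ * (((-1) ^ m * ε * ε) * s₀) ^ j) (a : F) :
    a • e (il m) ∈ axs H (e (0 : Fin (m + 1))) := by
  by_cases ha : a = 0
  · rw [ha, zero_smul]
    exact axs_zero _ _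
  · obtain ⟨j, rfl⟩ := hgen a ha
    clear ha
    induction j with
    | zero =>
      rw [pow_zero, mul_one]
      exact hs₀
    | succ j ih =>
      have := coeff_closed hm hu hv hs₀ ih
      have h2 : (-1) ^ m * ε * ε * s₀ * (s₀ * ((-1) ^ m * ε * ε * s₀) ^ j) =
          s₀ * ((-1) ^ m * ε * ε * s₀) ^ (j + 1) := by
        rw [pow_succ]
        ring
      rw [h2] at this
      exact this

include hm hε hu hv in
/-- descent along the indices -/
theorem descent {s₀ : F} (hs₀ : s₀ • e (il m) ∈ axs H (e (0 : Fin (m + 1))))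
    (hgen : ∀ a : F, a ≠ 0 → ∃ j : ℕ, a = s₀ * (((-1) ^ m * ε * ε) * s₀) ^ j) :
    ∀ (d : ℕ) (k : Fin (m + 1)), k.val + d = m → 1 ≤ k.val → ∀ c : F,
      c • e k ∈ axs H (e (0 : Fin (m + 1))) := by
  intro d
  induction d with
  | zero =>
    intro k hk _ c
    have : k = il m := Fin.ext (by show k.val = m; omega)
    rw [this]
    exact all_central hm hε hu hv hs₀ hgen c
  | succ d ih =>
    intro k hk hk1 c
    set k' : Fin (m + 1) := ⟨k.val + 1, by omega⟩ with hk'
    have hP := ih k' (by show k.val + 1 + d = m; omega) (by show 1 ≤ k.val + 1; omega)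
    have hone : (1 : F) • e (il m) ∈ axs H (e (0 : Fin (m + 1))) :=
      all_central hm hε hu hv hs₀ hgen 1
    rw [one_smul] at hone
    have hzl : (e (il m) : Fin (m + 1) → F) ⬝ᵥ zvec m ε = (-1) ^ m * ε := by
      unfold e
      rw [single_one_dotProduct, zvec_last m ε (il m) rfl]
    have hcfk : cf m ε k' ≠ 0 := by
      unfold cf
      split_ifs
      · exact hε
      · exact one_ne_zero
    have hzne : ((-1 : F) ^ m * ε) ≠ 0 := mul_ne_zero (pow_ne_zero _ (neg_ne_zero.mpr one_ne_zero)) hε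
    set c₁ : F := c / (((-1) ^ m * ε) * cf m ε k') with hc₁
    have h1 := mixstep hv hone k' (by show 2 ≤ k.val + 1; omega) c₁ (hP c₁)
    rw [hzl] at h1
    have hidx : (⟨k'.val - 1, by have := k'.isLt; omega⟩ : Fin (m + 1)) = k := by
      apply Fin.ext
      show k.val + 1 - 1 = k.val
      omega
    rw [hidx] at h1
    have h2 := hP (((-1) ^ m * ε) * c₁)
    have h3 := axs_sub h1 h2
    have : ((-1 : F) ^ m * ε) • c₁ • ((e k' : Fin (m + 1) → F) + cf m ε k' • e k) -
        (((-1) ^ m * ε) * c₁) • e k' = c • e k := by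
      ext j
      simp only [Pi.sub_apply, Pi.smul_apply, Pi.add_apply, smul_eq_mul]
      rw [hc₁]
      field_simp
      ring
    rw [this] at h3
    exact h3

include hm hε hu hv in
/-- every transvection with centre `e 0` lies in `H` -/
theorem e_zero_mem_dirs {s₀ : F} (hs₀ : s₀ • e (il m) ∈ axs H (e (0 : Fin (m + 1))))
    (hgen : ∀ a : F, a ≠ 0 → ∃ j : ℕ, a = s₀ * (((-1) ^ m * ε * ε) * s₀) ^ j) :
    (e (0 : Fin (m + 1)) : Fin (m + 1) → F) ∈ dirs H := by
  have hD := descent hm hε hu hv hs₀ hgen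
  have hall : ∀ ψ : Fin (m + 1) → F, ψ 0 = 0 → ψ ∈ axs H (e (0 : Fin (m + 1))) := by
    intro ψ hψ
    rw [pi_eq_sum_univ' ψ]
    apply Finset.sum_induction _ (fun x => x ∈ axs H (e (0 : Fin (m + 1))))
    · intro a b ha hb
      exact axs_add ha hb
    · exact axs_zero _ _
    · intro i _
      by_cases hi : i.val = 0
      · have : i = 0 := Fin.ext hi
        rw [this, hψ, zero_smul]
        exact axs_zero _ _
      · have hle : i.val ≤ m := by have := i.isLt; omega
        exact hD (m - i.val) i (by omega) (by omega) (ψ i)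
  intro φ c
  by_cases hinc : φ ⬝ᵥ e (0 : Fin (m + 1)) = 0
  · rw [← smul_mem_axs_iff hinc]
    apply hall
    rw [Pi.smul_apply]
    unfold e at hinc
    rw [dotProduct_single_one] at hinc
    rw [hinc, smul_zero]
  · rw [tv_of_not hinc]
    exact H.one_mem

include hm hε hu hv in
/-- the core generation statement -/
theorem eq_top_of_mem {s₀ : F} (hy : tv (e (0 : Fin (m + 1))) (e (il m)) s₀ ∈ H)
    (hgen : ∀ a : F, a ≠ 0 → ∃ j : ℕ, a = s₀ * (((-1) ^ m * ε * ε) * s₀) ^ j) : H = ⊤ := by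
  have hinc0 : (e (il m) : Fin (m + 1) → F) ⬝ᵥ e (0 : Fin (m + 1)) = 0 := by
    apply e_dot_e_ne
    intro h
    have := congrArg Fin.val h
    simp only [Fin.val_zero] at this
    have : m = 0 := this
    omega
  have hs₀ : s₀ • e (il m) ∈ axs H (e (0 : Fin (m + 1))) := (smul_mem_axs_iff hinc0 s₀).mpr hy
  have h0 := e_zero_mem_dirs hm hε hu hv hs₀ hgen
  have hall : ∀ (t : ℕ) (ht : t < m + 1), (e (⟨t, ht⟩ : Fin (m + 1)) : Fin (m + 1) → F) ∈ dirs H := by
    intro t
    induction t with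
    | zero =>
      intro _
      exact h0
    | succ t ih =>
      intro ht
      have h1 := ih (by omega)
      have h2 := dirs_mulVec h1 hv
      rw [vSL_coe, Lmat_mulVec_e_lt m ε ⟨t, by omega⟩ (by show t < m; omega)] at h2
      have h3 := dirs_sub h2 h1
      rw [add_sub_cancel_left] at h3
      have hcf : cf m ε (⟨t + 1, ht⟩ : Fin (m + 1)) ≠ 0 := by
        unfold cf
        split_ifs
        · exact hε
        · exact one_ne_zero
      have h4 := dirs_smul h3 (cf m ε (⟨t + 1, ht⟩ : Fin (m + 1)))⁻¹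
      rw [smul_smul, inv_mul_cancel₀ hcf, one_smul] at h4
      exact h4
  have : Nontrivial (Fin (m + 1)) := Fin.nontrivial_iff_two_le.mpr (by omega)
  apply eq_top_of_dirs
  intro i
  exact hall i.val i.isLt

end core

end Cfsg.Agent.Lib.Helper2.RegUni
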