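import Mathlib
import Cfsg.Agent.Lib.Helper2.Basic
import Cfsg.Agent.Lib.Lead.HallThm
import Cfsg.Agent.Lib.Lead.CoprimeAction3
import Cfsg.Agent.Lib.Helper2.PCore
import Cfsg.Agent.Lib.Helper2.ComplementSystem

set_option autoImplicit false

namespace Cfsg.Agent.Lib.Helper2.Replacement

open scoped commutatorElement

variable {G : Type*} [Group G]

/-- `|B| * |C_V(B)|` -/
noncomputable def ff (V B : Subgroup G) : ℕ :=
  Nat.card B * Nat.card ↥(V ⊓ Subgroup.centralizer (B : Set G))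

/-- The subgroup `[S, A]` generated by the commutators `[u, a]`, `u ∈ S`, `a ∈ A`, for a set `S`. -/
def XX (A : Subgroup G) (S : Set G) : Subgroup G :=
  Subgroup.closure {g | ∃ u ∈ S, ∃ a ∈ A, ⁅u, a⁆ = g}

/-- `C_A([S, A])`. -/
def BB (A : Subgroup G) (S : Set G) : Subgroup G :=
  A ⊓ Subgroup.centralizer (XX A S : Set G)

theorem XX_union (A : Subgroup G) (S T : Set G) : XX A (S ∪ T) = XX A S ⊔ XX A T := by
  unfold XX
  rw [← Subgroup.closure_union]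
  congr 1
  ext g
  simp only [Set.mem_setOf_eq, Set.mem_union]
  constructor
  · rintro ⟨u, hu | hu, a, ha, rfl⟩
    · exact Or.inl ⟨u, hu, a, ha, rfl⟩
    · exact Or.inr ⟨u, hu, a, ha, rfl⟩
  · rintro (⟨u, hu, a, ha, rfl⟩ | ⟨u, hu, a, ha, rfl⟩)
    · exact ⟨u, Or.inl hu, a, ha, rfl⟩
    · exact ⟨u, Or.inr hu, a, ha, rfl⟩

theorem XX_empty (A : Subgroup G) : XX A ∅ = ⊥ := by
  unfold XX
  rw [Subgroup.closure_eq_bot_iff]
  rintro g ⟨u, hu, -⟩
  exact absurd hu (Set.notMem_empty u)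

theorem centralizer_sup (H K : Subgroup G) :
    Subgroup.centralizer ((H ⊔ K : Subgroup G) : Set G) =
      Subgroup.centralizer (H : Set G) ⊓ Subgroup.centralizer (K : Set G) := by
  apply le_antisymm
  · exact le_inf (Subgroup.centralizer_le (by exact_mod_cast (le_sup_left : H ≤ H ⊔ K)))
      (Subgroup.centralizer_le (by exact_mod_cast (le_sup_right : K ≤ H ⊔ K)))
  · intro x hx
    have h1 : H ≤ Subgroup.centralizer ({x} : Set G) := by
      intro h hh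
      rw [Subgroup.mem_centralizer_iff]
      intro y hy
      rw [Set.mem_singleton_iff] at hy
      rw [hy]
      exact (Subgroup.mem_centralizer_iff.mp hx.1 h hh).symm
    have h2 : K ≤ Subgroup.centralizer ({x} : Set G) := by
      intro h hh
      rw [Subgroup.mem_centralizer_iff]
      intro y hy
      rw [Set.mem_singleton_iff] at hy
      rw [hy]
      exact (Subgroup.mem_centralizer_iff.mp hx.2 h hh).symm
    rw [Subgroup.mem_centralizer_iff]
    intro y hy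
    have := (sup_le h1 h2) hy
    exact ((Subgroup.mem_centralizer_iff.mp this) x rfl).symm

theorem BB_union (A : Subgroup G) (S T : Set G) : BB A (S ∪ T) = BB A S ⊓ BB A T := by
  unfold BB
  rw [XX_union, centralizer_sup]
  ext x
  simp only [Subgroup.mem_inf]
  tauto

theorem BB_empty (A : Subgroup G) : BB A ∅ = A := by
  unfold BB
  rw [XX_empty, Subgroup.coe_bot, Subgroup.centralizer_eq_top_iff_subset.mpr, inf_top_eq]
  rintro x hx
  rw [Set.mem_singleton_iff] at hx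
  rw [hx]
  exact Subgroup.one_mem _

theorem BB_le (A : Subgroup G) (S : Set G) : BB A S ≤ A := inf_le_left


theorem comm3 {x y z : G} (hxy : x * y = y * x) (hxz : x * z = z * x) (hyz : y * z = z * y) :
    x * y * z = z * y * x := by
  rw [hxy, mul_assoc, hxz, ← mul_assoc, hyz]

theorem card_filter_mem [Fintype G] [DecidableEq G] (H : Subgroup G) [DecidablePred (· ∈ H)] :
    (Finset.univ.filter (· ∈ H)).card = Nat.card H := by
  rw [Nat.card_eq_fintype_card, Fintype.card_subtype]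

section Action

variable (V A : Subgroup G)

theorem conj_mem (hAV : A ≤ Subgroup.normalizer (V : Set G)) {a v : G} (ha : a ∈ A) (hv : v ∈ V) :
    a * v * a⁻¹ ∈ V :=
  (Subgroup.mem_normalizer_iff.mp (hAV ha) v).mp hv

theorem comm_mem (hAV : A ≤ Subgroup.normalizer (V : Set G)) {a v : G} (ha : a ∈ A) (hv : v ∈ V) :
    ⁅v, a⁆ ∈ V := by
  have : ⁅v, a⁆ = v * (a * v⁻¹ * a⁻¹) := by rw [commutatorElement_def]; group
  rw [this]
  exact V.mul_mem hv (conj_mem V A hAV ha (V.inv_mem hv))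

theorem XX_le (hAV : A ≤ Subgroup.normalizer (V : Set G)) {S : Set G} (hS : S ⊆ V) :
    XX A S ≤ V := by
  unfold XX
  rw [Subgroup.closure_le]
  rintro g ⟨u, hu, a, ha, rfl⟩
  exact comm_mem V A hAV ha (hS hu)

theorem conj_conj_comm (hAV : A ≤ Subgroup.normalizer (V : Set G))
    (hab : ⁅A, A⁆ ≤ Subgroup.centralizer (V : Set G)) {a b v : G} (ha : a ∈ A) (hb : b ∈ A)
    (hv : v ∈ V) : a * (b * v * b⁻¹) * a⁻¹ = b * (a * v * a⁻¹) * b⁻¹ := by
  have hw : b * (a * v * a⁻¹) * b⁻¹ ∈ V := conj_mem V A hAV hb (conj_mem V A hAV ha hv)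
  have hk : ⁅a, b⁆ ∈ Subgroup.centralizer (V : Set G) :=
    hab (Subgroup.commutator_mem_commutator ha hb)
  have h1 := Subgroup.mem_centralizer_iff.mp hk _ hw
  have h2 : a * (b * v * b⁻¹) * a⁻¹ = ⁅a, b⁆ * (b * (a * v * a⁻¹) * b⁻¹) * ⁅a, b⁆⁻¹ := by
    rw [commutatorElement_def]; group
  rw [h2, ← h1, mul_inv_cancel_right]

theorem comm_comm_symm (hVc : ∀ x ∈ V, ∀ y ∈ V, x * y = y * x)
    (hAV : A ≤ Subgroup.normalizer (V : Set G))
    (hab : ⁅A, A⁆ ≤ Subgroup.centralizer (V : Set G)) {u a b : G} (hu : u ∈ V) (ha : a ∈ A)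
    (hb : b ∈ A) : ⁅⁅u, a⁆, b⁆ = ⁅⁅u, b⁆, a⁆ := by
  obtain ⟨q, hq⟩ : ∃ q, q = a * u * a⁻¹ := ⟨_, rfl⟩
  obtain ⟨r, hr⟩ : ∃ r, r = b * u * b⁻¹ := ⟨_, rfl⟩
  obtain ⟨t, ht⟩ : ∃ t, t = b * (a * u * a⁻¹) * b⁻¹ := ⟨_, rfl⟩
  have ht' : t = a * (b * u * b⁻¹) * a⁻¹ := by
    rw [ht]; exact (conj_conj_comm V A hAV hab ha hb hu).symm
  have hqV : q ∈ V := hq ▸ conj_mem V A hAV ha hu
  have hrV : r ∈ V := hr ▸ conj_mem V A hAV hb hu
  have htV : t ∈ V := ht ▸ conj_mem V A hAV hb (conj_mem V A hAV ha hu)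
  have h1 : ⁅⁅u, a⁆, b⁆ = u * (q⁻¹ * t * r⁻¹) := by
    rw [hq, ht, hr]; simp only [commutatorElement_def]; group
  have h2 : ⁅⁅u, b⁆, a⁆ = u * (r⁻¹ * t * q⁻¹) := by
    rw [hq, ht', hr]; simp only [commutatorElement_def]; group
  rw [h1, h2]
  congr 1
  exact comm3 (hVc _ (V.inv_mem hqV) _ htV) (hVc _ (V.inv_mem hqV) _ (V.inv_mem hrV))
    (hVc _ htV _ (V.inv_mem hrV))

/-- If `[u, d]` is centralized by `A` then `d` centralizes `[u, A]`. -/
theorem mem_BB_singleton (hVc : ∀ x ∈ V, ∀ y ∈ V, x * y = y * x)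
    (hAV : A ≤ Subgroup.normalizer (V : Set G))
    (hab : ⁅A, A⁆ ≤ Subgroup.centralizer (V : Set G)) {u d : G} (hu : u ∈ V) (hd : d ∈ A)
    (h : ⁅u, d⁆ ∈ Subgroup.centralizer (A : Set G)) : d ∈ BB A {u} := by
  unfold BB XX
  refine Subgroup.mem_inf.mpr ⟨hd, ?_⟩
  rw [Subgroup.centralizer_closure, Subgroup.mem_centralizer_iff]
  rintro g ⟨u', hu', a, ha, rfl⟩
  rw [Set.mem_singleton_iff] at hu'
  subst hu'
  have h1 : ⁅⁅u', a⁆, d⁆ = 1 := by
    rw [comm_comm_symm V A hVc hAV hab hu ha hd, commutatorElement_eq_one_iff_commute]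
    exact (Subgroup.mem_centralizer_iff.mp h a ha).symm
  exact (commutatorElement_eq_one_iff_commute.mp h1).eq

theorem card_mul_le_single [Finite G] (hVc : ∀ x ∈ V, ∀ y ∈ V, x * y = y * x)
    (hAV : A ≤ Subgroup.normalizer (V : Set G))
    (hab : ⁅A, A⁆ ≤ Subgroup.centralizer (V : Set G)) {u : G} (hu : u ∈ V) :
    Nat.card A * Nat.card ↥(V ⊓ Subgroup.centralizer (A : Set G)) ≤
      Nat.card ↥(BB A {u}) *
        Nat.card ↥(XX A {u} ⊔ (V ⊓ Subgroup.centralizer (A : Set G))) := by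
  classical
  letI := Fintype.ofFinite G
  set C := V ⊓ Subgroup.centralizer (A : Set G) with hC
  rw [← card_filter_mem A, ← card_filter_mem C, ← card_filter_mem (BB A {u}),
    ← card_filter_mem (XX A {u} ⊔ C), ← Finset.card_product]
  set s := (Finset.univ.filter (· ∈ A)) ×ˢ (Finset.univ.filter (· ∈ C)) with hs
  set Ψ : G × G → G := fun x => ⁅u, x.1⁆ * x.2 with hΨ
  have hmem_s : ∀ x : G × G, x ∈ s ↔ x.1 ∈ A ∧ x.2 ∈ C := by
    intro x
    rw [hs, Finset.mem_product, Finset.mem_filter, Finset.mem_filter]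
    simp
  have himg : s.image Ψ ⊆ Finset.univ.filter (· ∈ XX A {u} ⊔ C) := by
    intro w hw
    rw [Finset.mem_image] at hw
    obtain ⟨x, hx, rfl⟩ := hw
    rw [hmem_s] at hx
    rw [Finset.mem_filter]
    refine ⟨Finset.mem_univ _, ?_⟩
    apply Subgroup.mul_mem_sup
    · exact Subgroup.subset_closure ⟨u, rfl, x.1, hx.1, rfl⟩
    · exact hx.2
  have hfib : ∀ w ∈ s.image Ψ, (s.filter (fun x => Ψ x = w)).card ≤
      (Finset.univ.filter (· ∈ BB A {u})).card := by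
    intro w hw
    rw [Finset.mem_image] at hw
    obtain ⟨x₀, hx₀, hx₀w⟩ := hw
    rw [hmem_s] at hx₀
    apply Finset.card_le_card_of_injOn (fun x => x₀.1⁻¹ * x.1)
    · intro x hx
      rw [Finset.mem_coe, Finset.mem_filter, hmem_s] at hx
      obtain ⟨⟨hxA, hxC⟩, hxw⟩ := hx
      rw [Finset.mem_coe, Finset.mem_filter]
      refine ⟨Finset.mem_univ _, ?_⟩
      apply mem_BB_singleton V A hVc hAV hab hu (A.mul_mem (A.inv_mem hx₀.1) hxA)
      -- [u, x₀⁻¹ x] = x₀⁻¹ (c₂ c₁⁻¹) x₀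
      have hE : ⁅u, x.1⁆ * x.2 = ⁅u, x₀.1⁆ * x₀.2 := hxw.trans hx₀w.symm
      have h1 : x₀.2 * x.2⁻¹ = ⁅u, x₀.1⁆⁻¹ * ⁅u, x.1⁆ := by
        have : x₀.2 = ⁅u, x₀.1⁆⁻¹ * (⁅u, x.1⁆ * x.2) := by rw [hE]; group
        rw [this]; group
      have h2 : ⁅u, x₀.1⁻¹ * x.1⁆ = x₀.1⁻¹ * (⁅u, x₀.1⁆⁻¹ * ⁅u, x.1⁆) * x₀.1 := by
        simp only [commutatorElement_def]; group
      have h3 : x₀.2 * x.2⁻¹ ∈ C := C.mul_mem hx₀.2 (C.inv_mem hxC)
      have h4 : x₀.1 * (x₀.2 * x.2⁻¹) = (x₀.2 * x.2⁻¹) * x₀.1 :=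
        Subgroup.mem_centralizer_iff.mp h3.2 _ hx₀.1
      rw [h2, ← h1, mul_assoc, ← h4, inv_mul_cancel_left]
      exact h3.2
    · intro x hx y hy hxy
      rw [Finset.mem_coe, Finset.mem_filter] at hx hy
      have h1 : x.1 = y.1 := mul_left_cancel hxy
      have h2 : ⁅u, x.1⁆ * x.2 = ⁅u, y.1⁆ * y.2 := hx.2.trans hy.2.symm
      rw [h1] at h2
      exact Prod.ext h1 (mul_left_cancel h2)
  calc s.card ≤ (Finset.univ.filter (· ∈ BB A {u})).card * (s.image Ψ).card :=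
        Finset.card_le_mul_card_image s _ hfib
    _ ≤ (Finset.univ.filter (· ∈ BB A {u})).card *
          (Finset.univ.filter (· ∈ XX A {u} ⊔ C)).card :=
        Nat.mul_le_mul_left _ (Finset.card_le_card himg)

end Action


section Core

variable [Finite G] (V A : Subgroup G)

theorem XX_sup_le_CV (hAV : A ≤ Subgroup.normalizer (V : Set G)) {S : Set G} (hS : S ⊆ V) :
    XX A S ⊔ (V ⊓ Subgroup.centralizer (A : Set G)) ≤
      V ⊓ Subgroup.centralizer (BB A S : Set G) := by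
  refine sup_le (le_inf (XX_le V A hAV hS) ?_) ?_
  · rw [Subgroup.le_centralizer_iff]
    exact inf_le_right
  · exact inf_le_inf_left V (Subgroup.centralizer_le (by exact_mod_cast BB_le A S))

theorem single (hVc : ∀ x ∈ V, ∀ y ∈ V, x * y = y * x)
    (hAV : A ≤ Subgroup.normalizer (V : Set G))
    (hab : ⁅A, A⁆ ≤ Subgroup.centralizer (V : Set G))
    (hweak : ∀ B : Subgroup G, B ≤ A → ff V B ≤ ff V A) {u : G} (hu : u ∈ V) :
    ff V (BB A {u}) = ff V A ∧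
      V ⊓ Subgroup.centralizer (BB A {u} : Set G) =
        XX A {u} ⊔ (V ⊓ Subgroup.centralizer (A : Set G)) := by
  have h1 := card_mul_le_single V A hVc hAV hab hu
  have h2 := XX_sup_le_CV V A hAV (S := {u}) (by rintro x hx; rw [Set.mem_singleton_iff] at hx; rw [hx]; exact hu)
  have h3 := Subgroup.card_le_of_le h2
  have h4 := hweak (BB A {u}) (BB_le A _)
  unfold ff at h4 ⊢
  have hbpos : 0 < Nat.card ↥(BB A {u}) := Nat.card_pos
  have h5 : Nat.card ↥(BB A {u}) * Nat.card ↥(XX A {u} ⊔ (V ⊓ Subgroup.centralizer (A : Set G))) ≤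
      Nat.card ↥(BB A {u}) * Nat.card ↥(V ⊓ Subgroup.centralizer (BB A {u} : Set G)) :=
    Nat.mul_le_mul_left _ h3
  have h6 : Nat.card ↥(BB A {u}) * Nat.card ↥(V ⊓ Subgroup.centralizer (BB A {u} : Set G)) =
      Nat.card A * Nat.card ↥(V ⊓ Subgroup.centralizer (A : Set G)) :=
    le_antisymm h4 (h1.trans h5)
  refine ⟨h6, ?_⟩
  have h7 : Nat.card ↥(V ⊓ Subgroup.centralizer (BB A {u} : Set G)) ≤
      Nat.card ↥(XX A {u} ⊔ (V ⊓ Subgroup.centralizer (A : Set G))) := by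
    apply Nat.le_of_mul_le_mul_left _ hbpos
    rw [h6]; exact h1
  exact (Subgroup.eq_of_le_of_card_ge h2 h7).symm

theorem meet (hVc : ∀ x ∈ V, ∀ y ∈ V, x * y = y * x)
    (hweak : ∀ B : Subgroup G, B ≤ A → ff V B ≤ ff V A) {B₁ B₂ : Subgroup G}
    (h₁ : B₁ ≤ A) (h₂ : B₂ ≤ A) (e₁ : ff V B₁ = ff V A) (e₂ : ff V B₂ = ff V A) :
    ff V (B₁ ⊓ B₂) = ff V A ∧
      V ⊓ Subgroup.centralizer ((B₁ ⊓ B₂ : Subgroup G) : Set G) =
        (V ⊓ Subgroup.centralizer (B₁ : Set G)) ⊔ (V ⊓ Subgroup.centralizer (B₂ : Set G)) := by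
  set C₁ := V ⊓ Subgroup.centralizer (B₁ : Set G) with hC₁
  set C₂ := V ⊓ Subgroup.centralizer (B₂ : Set G) with hC₂
  set J := B₁ ⊔ B₂ with hJ
  set D := B₁ ⊓ B₂ with hD
  have hJA : J ≤ A := sup_le h₁ h₂
  have hDA : D ≤ A := inf_le_left.trans h₁
  have hCJ : V ⊓ Subgroup.centralizer (J : Set G) = C₁ ⊓ C₂ := by
    rw [hJ, centralizer_sup, hC₁, hC₂]
    ext x
    simp only [Subgroup.mem_inf]
    tauto
  have hle : C₁ ⊔ C₂ ≤ V ⊓ Subgroup.centralizer (D : Set G) := by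
    refine sup_le ?_ ?_
    · exact inf_le_inf_left V (Subgroup.centralizer_le (by exact_mod_cast (inf_le_left : D ≤ B₁)))
    · exact inf_le_inf_left V (Subgroup.centralizer_le (by exact_mod_cast (inf_le_right : D ≤ B₂)))
  -- (i) |B₁||B₂| ≤ |J||D|
  have hi : Nat.card B₁ * Nat.card B₂ ≤ Nat.card J * Nat.card D := by
    have := Cfsg.Agent.Lib.Lead.card_mul_card_le (B₁.subgroupOf J) (B₂.subgroupOf J)
    rw [card_subgroupOf_of_le (le_sup_left : B₁ ≤ J), card_subgroupOf_of_le (le_sup_right : B₂ ≤ J)]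
      at this
    have h2 : (B₁.subgroupOf J ⊓ B₂.subgroupOf J) = D.subgroupOf J := by
      rw [hD]; rfl
    rw [h2, card_subgroupOf_of_le ((inf_le_left : D ≤ B₁).trans le_sup_left)] at this
    exact this
  -- (ii) |C₁ ⊔ C₂||C₁ ⊓ C₂| = |C₁||C₂|
  have hii : Nat.card ↥(C₁ ⊔ C₂) * Nat.card ↥(C₁ ⊓ C₂) = Nat.card C₁ * Nat.card C₂ := by
    apply card_sup_mul_card_inf
    intro x hx
    apply mem_normalizer_of_commute
    intro y hy
    exact hVc x hx.1 y hy.1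
  have hiii := hweak J hJA
  have hiv := hweak D hDA
  unfold ff at hiii hiv e₁ e₂ ⊢
  rw [hCJ] at hiii
  have hv := Subgroup.card_le_of_le hle
  -- numerics
  obtain ⟨F, hF⟩ : ∃ F, F = Nat.card A * Nat.card ↥(V ⊓ Subgroup.centralizer (A : Set G)) :=
    ⟨_, rfl⟩
  rw [← hF] at hiii hiv e₁ e₂ ⊢
  have hFpos : 0 < F := by rw [hF]; exact Nat.mul_pos Nat.card_pos Nat.card_pos
  have hdpos : 0 < Nat.card D := Nat.card_pos
  obtain ⟨b1, hb1⟩ : ∃ n, n = Nat.card B₁ := ⟨_, rfl⟩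
  obtain ⟨b2, hb2⟩ : ∃ n, n = Nat.card B₂ := ⟨_, rfl⟩
  obtain ⟨c1, hc1⟩ : ∃ n, n = Nat.card C₁ := ⟨_, rfl⟩
  obtain ⟨c2, hc2⟩ : ∃ n, n = Nat.card C₂ := ⟨_, rfl⟩
  obtain ⟨j, hj⟩ : ∃ n, n = Nat.card J := ⟨_, rfl⟩
  obtain ⟨d, hd⟩ : ∃ n, n = Nat.card D := ⟨_, rfl⟩
  obtain ⟨sC, hsC⟩ : ∃ n, n = Nat.card ↥(C₁ ⊔ C₂) := ⟨_, rfl⟩
  obtain ⟨m, hm⟩ : ∃ n, n = Nat.card ↥(C₁ ⊓ C₂) := ⟨_, rfl⟩
  obtain ⟨cd, hcd⟩ : ∃ n, n = Nat.card ↥(V ⊓ Subgroup.centralizer (D : Set G)) := ⟨_, rfl⟩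
  rw [← hb1, ← hb2, ← hj, ← hd] at hi
  rw [← hsC, ← hm, ← hc1, ← hc2] at hii
  rw [← hj, ← hm] at hiii
  rw [← hd, ← hcd] at hiv
  rw [← hb1, ← hc1] at e₁
  rw [← hb2, ← hc2] at e₂
  rw [← hsC, ← hcd] at hv
  rw [← hd] at hdpos
  rw [← hd, ← hcd]
  have h1 : F * F ≤ F * (d * sC) := by
    calc F * F = (b1 * c1) * (b2 * c2) := by rw [e₁, e₂]
      _ = (b1 * b2) * (c1 * c2) := by ring
      _ = (b1 * b2) * (sC * m) := by rw [hii]
      _ ≤ (j * d) * (sC * m) := Nat.mul_le_mul_right _ hi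
      _ = (j * m) * (d * sC) := by ring
      _ ≤ F * (d * sC) := Nat.mul_le_mul_right _ hiii
  have h2 : F ≤ d * sC := Nat.le_of_mul_le_mul_left h1 hFpos
  have h3 : d * sC ≤ d * cd := Nat.mul_le_mul_left _ hv
  have h4 : d * cd = F := le_antisymm hiv (h2.trans h3)
  refine ⟨h4, ?_⟩
  have h5 : d * cd ≤ d * sC := by rw [h4]; exact h2
  have h6 : cd ≤ sC := Nat.le_of_mul_le_mul_left h5 hdpos
  rw [hcd, hsC] at h6
  exact (Subgroup.eq_of_le_of_card_ge hle h6).symm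

theorem core_finite (hVc : ∀ x ∈ V, ∀ y ∈ V, x * y = y * x)
    (hAV : A ≤ Subgroup.normalizer (V : Set G))
    (hab : ⁅A, A⁆ ≤ Subgroup.centralizer (V : Set G))
    (hweak : ∀ B : Subgroup G, B ≤ A → ff V B ≤ ff V A) (S : Set G) (hfin : S.Finite) :
    S ⊆ V → (ff V (BB A S) = ff V A ∧
      V ⊓ Subgroup.centralizer (BB A S : Set G) =
        XX A S ⊔ (V ⊓ Subgroup.centralizer (A : Set G))) := by
  refine Set.Finite.induction_on (motive := fun S _ => S ⊆ V → (ff V (BB A S) = ff V A ∧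
      V ⊓ Subgroup.centralizer (BB A S : Set G) =
        XX A S ⊔ (V ⊓ Subgroup.centralizer (A : Set G)))) S hfin ?_ ?_
  · intro _
    rw [BB_empty, XX_empty, bot_sup_eq]
    exact ⟨rfl, rfl⟩
  · intro a s _ _ ih hs
    have hsV : s ⊆ V := (Set.subset_insert a s).trans hs
    have haV : a ∈ V := hs (Set.mem_insert a s)
    obtain ⟨ih1, ih2⟩ := ih hsV
    obtain ⟨s1, s2⟩ := single V A hVc hAV hab hweak haV
    have hins : insert a s = {a} ∪ s := Set.insert_eq a s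
    rw [hins, BB_union, XX_union]
    obtain ⟨m1, m2⟩ := meet V A hVc hweak (BB_le A {a}) (BB_le A s) s1 ih1
    refine ⟨m1, ?_⟩
    rw [m2, s2, ih2, sup_sup_sup_comm, sup_idem]

theorem core (hVc : ∀ x ∈ V, ∀ y ∈ V, x * y = y * x)
    (hAV : A ≤ Subgroup.normalizer (V : Set G))
    (hab : ⁅A, A⁆ ≤ Subgroup.centralizer (V : Set G))
    (hweak : ∀ B : Subgroup G, B ≤ A → ff V B ≤ ff V A) (U : Subgroup G) (hU : U ≤ V) :
    ff V (A ⊓ Subgroup.centralizer ((⁅U, A⁆ : Subgroup G) : Set G)) = ff V A ∧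
      V ⊓ Subgroup.centralizer
          ((A ⊓ Subgroup.centralizer ((⁅U, A⁆ : Subgroup G) : Set G) : Subgroup G) : Set G) =
        ⁅U, A⁆ ⊔ (V ⊓ Subgroup.centralizer (A : Set G)) := by
  have h := core_finite V A hVc hAV hab hweak (U : Set G) (Set.toFinite _) hU
  have hX : XX A (U : Set G) = ⁅U, A⁆ := by
    rw [Subgroup.commutator_def]; rfl
  unfold BB at h
  rw [hX] at h
  exact h

end Core


section NilAction

variable [Finite G]

/-- If `A / C_A(V)` has exponent `p` and `W ≤ V` is a nontrivial `A`-invariant `p`-subgroup, then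
`[W, A] ≠ W`. -/
theorem commutator_ne_self_of_pAction (p : ℕ) [Fact p.Prime] (V A W : Subgroup G)
    (hAV : A ≤ Subgroup.normalizer (V : Set G))
    (hpow : ∀ a ∈ A, a ^ p ∈ Subgroup.centralizer (V : Set G))
    (hWV : W ≤ V) (hWp : IsPGroup p W) (hAW : A ≤ Subgroup.normalizer (W : Set G))
    (hW : W ≠ ⊥) : ⁅W, A⁆ ≠ W := by
  intro heq
  set K : Subgroup A := (Subgroup.centralizer (V : Set G)).subgroupOf A with hK
  haveI hKn : K.Normal :=
    Subgroup.normal_subgroupOf_of_le_normalizer (hAV.trans (normalizer_le_normalizer_centralizer V))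
  have hQ : IsPGroup p (A ⧸ K) := by
    intro q
    obtain ⟨a, rfl⟩ := QuotientGroup.mk_surjective q
    refine ⟨1, ?_⟩
    rw [pow_one, ← QuotientGroup.mk_pow, QuotientGroup.eq_one_iff, hK, Subgroup.mem_subgroupOf]
    exact hpow a a.2
  obtain ⟨k, hk⟩ := IsPGroup.iff_card.mp hQ
  have hKidx : K.index = p ^ k := by rw [Subgroup.index_eq_card]; exact hk
  obtain ⟨P'⟩ : Nonempty (Sylow p A) := inferInstance
  have hcop : ((P' : Subgroup A).index).Coprime K.index := by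
    rw [hKidx]
    apply Nat.Coprime.pow_right
    exact ((Nat.Prime.coprime_iff_not_dvd (Fact.out : p.Prime)).mpr P'.not_dvd_index).symm
  have hdecomp := exists_mul_of_coprime_index (P' : Subgroup A) K hcop
  set P : Subgroup G := (P' : Subgroup A).map A.subtype with hP
  have hPp : IsPGroup p P := P'.isPGroup'.map A.subtype
  have hPA : P ≤ A := by
    rw [hP]; exact Subgroup.map_subtype_le _
  have hle : ⁅W, A⁆ ≤ ⁅W, P⁆ := by
    rw [Subgroup.commutator_le]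
    intro w hw a ha
    obtain ⟨x, hx, c, hc, hxc⟩ := hdecomp ⟨a, ha⟩
    have hxc' : a = (x : G) * (c : G) := congrArg Subtype.val hxc
    have hcV : (c : G) ∈ Subgroup.centralizer (V : Set G) := by
      rw [hK, Subgroup.mem_subgroupOf] at hc
      exact hc
    have hcw : w⁻¹ * (c : G) = (c : G) * w⁻¹ :=
      Subgroup.mem_centralizer_iff.mp hcV _ (V.inv_mem (hWV hw))
    have h1 : ⁅w, a⁆ = ⁅w, (x : G)⁆ := by
      rw [hxc', commutatorElement_def, commutatorElement_def]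
      have : w * ((x : G) * (c : G)) * w⁻¹ * ((x : G) * (c : G))⁻¹ =
          w * (x : G) * ((c : G) * w⁻¹) * (c : G)⁻¹ * (x : G)⁻¹ := by group
      rw [this, ← hcw]
      group
    rw [h1]
    exact Subgroup.commutator_mem_commutator hw (Subgroup.mem_map_of_mem A.subtype hx)
  have h2 : ⁅W, P⁆ = W := by
    apply le_antisymm
    · exact (Subgroup.commutator_mono le_rfl hPA).trans heq.le
    · exact heq.ge.trans hle
  exact Cfsg.Agent.Lib.Lead.commutator_ne_of_pgroups p W P hWp hPp (hPA.trans hAW) hW h2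

end NilAction

end Cfsg.Agent.Lib.Helper2.Replacement
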