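import Mathlib
import Cfsg.Prelude.Def_KGroupFacts
import Cfsg.Agent.Lib.Helper1.CodeSys5

set_option autoImplicit false

/-! # Outer automorphism group of order two from a rigid triple of generators

A finite group `G` generated by `p` (order 7, generating a Sylow subgroup), `h` (order 6, acting on
`p` by cubing) and an involution `v` commuting with `h`, where the normalizer of `⟨p⟩` is `⟨p⟩⟨h⟩`
and the centralizer of `h` is `⟨h⟩⟨v⟩`: if some automorphism fixes `p`, `h` and moves `v` to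
`v * h ^ 3`, the outer automorphism group has order two. -/

namespace Cfsg.Agent.Lib.Helper2.RigidOut

open Cfsg.Agent.Lib.Helper1

variable {G : Type*} [Group G]

theorem conj_rel_pow {p h : G} {r : ℕ} (hph : h⁻¹ * p * h = p ^ r) (m : ℕ) :
    h⁻¹ * p ^ m * h = p ^ (r * m) := by
  have h1 : (h⁻¹ * p * h⁻¹⁻¹) ^ m = h⁻¹ * p ^ m * h⁻¹⁻¹ := conj_pow
  rw [inv_inv] at h1
  rw [← h1, hph, ← pow_mul]

theorem conj_rel_pow_pow {p h : G} {r : ℕ} (hph : h⁻¹ * p * h = p ^ r) (j m : ℕ) :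
    (h ^ j)⁻¹ * p ^ m * h ^ j = p ^ (r ^ j * m) := by
  induction j generalizing m with
  | zero => simp
  | succ j ih =>
    have e : (h ^ (j + 1))⁻¹ * p ^ m * h ^ (j + 1) = h⁻¹ * ((h ^ j)⁻¹ * p ^ m * h ^ j) * h := by
      rw [pow_succ, mul_inv_rev]
      group
    rw [e, ih, conj_rel_pow hph, pow_succ]
    congr 1
    ring

theorem three_pow_mod_seven (j : ℕ) : 3 ^ j % 7 = 3 ^ (j % 6) % 7 := by
  conv_lhs => rw [← Nat.div_add_mod j 6]
  rw [pow_add, pow_mul, Nat.mul_mod, Nat.pow_mod]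
  norm_num

theorem three_pow_eq_three {j : ℕ} (h : 3 ^ j % 7 = 3) : j % 6 = 1 := by
  rw [three_pow_mod_seven] at h
  have h6 : j % 6 < 6 := Nat.mod_lt _ (by norm_num)
  interval_cases (j % 6) <;> simp_all

theorem three_pow_eq_one {j : ℕ} (h : 3 ^ j % 7 = 1) : j % 6 = 0 := by
  rw [three_pow_mod_seven] at h
  have h6 : j % 6 < 6 := Nat.mod_lt _ (by norm_num)
  interval_cases (j % 6) <;> simp_all

theorem exists_three_pow (k : ℕ) (hk0 : k ≠ 0) (hk : k < 7) : ∃ j : ℕ, 3 ^ j * k % 7 = 1 := by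
  interval_cases k
  · exact absurd rfl hk0
  · exact ⟨0, by norm_num⟩
  · exact ⟨4, by norm_num⟩
  · exact ⟨5, by norm_num⟩
  · exact ⟨2, by norm_num⟩
  · exact ⟨1, by norm_num⟩
  · exact ⟨3, by norm_num⟩

/-- an element of order 6 to a power killed by squaring -/
theorem pow_cases_of_sq {h : G} (hh : orderOf h = 6) (a : ℕ) (ha : h ^ (2 * a) = 1) :
    h ^ a = 1 ∨ h ^ a = h ^ 3 := by
  have h1 : 6 ∣ 2 * a := by rw [← hh]; exact orderOf_dvd_of_pow_eq_one ha
  have h2 : 3 ∣ a := by omega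
  obtain ⟨t, rfl⟩ := h2
  have h6 : h ^ 6 = 1 := by rw [← hh]; exact pow_orderOf_eq_one h
  rcases Nat.even_or_odd' t with ⟨s, rfl | rfl⟩
  · left
    have : 3 * (2 * s) = 6 * s := by ring
    rw [this, pow_mul, h6, one_pow]
  · right
    have : 3 * (2 * s + 1) = 6 * s + 3 := by ring
    rw [this, pow_add, pow_mul, h6, one_pow, one_mul]

theorem pow_two_cases {v : G} (hv2 : v * v = 1) (b : ℕ) : v ^ b = 1 ∨ v ^ b = v := by
  have h2 : v ^ 2 = 1 := by rw [pow_two, hv2]
  rcases Nat.even_or_odd' b with ⟨s, rfl | rfl⟩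
  · left; rw [pow_mul, h2, one_pow]
  · right; rw [pow_add, pow_mul, h2, one_pow, one_mul, pow_one]

end Cfsg.Agent.Lib.Helper2.RigidOut
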