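import Mathlib

/-!
# S3452, package CORE (helper2)

For a `2 × 2` matrix `M` over a finite field `F` of odd characteristic `p`, `q = |F|`,
`s = 2M - tr M` satisfies `s² = Δ = tr² - 4 det`, hence `s^q = Δ^((q-1)/2) s`, while
`s^q = 2 M^q - tr M` by Frobenius.  Statements exactly as in `notes/S3452_stub.lean.txt`.
-/

set_option autoImplicit false
set_option linter.unusedSectionVars false
set_option linter.unusedVariables false

namespace Cfsg.Agent.Lib.S3452

open Matrix

section core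
variable {F : Type*} [Field F] [Fintype F] (p : ℕ) [Fact p.Prime] [CharP F p]

omit [Fintype F] in
theorem core_sq (M : Matrix (Fin 2) (Fin 2) F) :
    ((2 : F) • M - M.trace • (1 : Matrix (Fin 2) (Fin 2) F)) *
        ((2 : F) • M - M.trace • (1 : Matrix (Fin 2) (Fin 2) F)) =
      (M.trace ^ 2 - 4 * M.det) • (1 : Matrix (Fin 2) (Fin 2) F) := by
  rw [Matrix.trace_fin_two, Matrix.det_fin_two]
  ext i j
  fin_cases i <;> fin_cases j <;>
    simp [Matrix.mul_apply, Fin.sum_univ_two, Matrix.one_apply] <;> ring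

omit [Fintype F] [Fact p.Prime] [CharP F p] in
theorem core_comm (M : Matrix (Fin 2) (Fin 2) F) (t : F) :
    Commute ((2 : F) • M) (t • (1 : Matrix (Fin 2) (Fin 2) F)) :=
  (Commute.one_right ((2 : F) • M)).smul_right t

include p in
theorem core_frob (M : Matrix (Fin 2) (Fin 2) F) :
    ((2 : F) • M - M.trace • (1 : Matrix (Fin 2) (Fin 2) F)) ^ Fintype.card F =
      (2 : F) • M ^ Fintype.card F - M.trace • (1 : Matrix (Fin 2) (Fin 2) F) := by
  obtain ⟨n, -, hn⟩ := FiniteField.card F p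
  have h1 := sub_pow_char_pow_of_commute p (n : ℕ) (core_comm M M.trace)
  rw [← hn] at h1
  rw [h1, smul_pow, smul_pow, one_pow, FiniteField.pow_card, FiniteField.pow_card]

theorem core_two_ne (hp : p ≠ 2) : (2 : F) ≠ 0 := by
  intro h
  have h2 : ((2 : ℕ) : F) = 0 := by exact_mod_cast h
  rw [CharP.cast_eq_zero_iff F p] at h2
  have := (Nat.prime_dvd_prime_iff_eq (Fact.out : p.Prime) Nat.prime_two).mp h2
  exact hp this

theorem core_ringChar (hp : p ≠ 2) : ringChar F ≠ 2 := by
  rw [ringChar.eq F p]; exact hp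

theorem core_card_odd (hp : p ≠ 2) : Fintype.card F = 2 * (Fintype.card F / 2) + 1 := by
  have := FiniteField.odd_card_of_char_ne_two (core_ringChar (F := F) p hp)
  omega

/-- `s ^ q = Δ ^ (q / 2) • s`. -/
theorem core_pow (hp : p ≠ 2) (M : Matrix (Fin 2) (Fin 2) F) :
    (2 : F) • M ^ Fintype.card F - M.trace • (1 : Matrix (Fin 2) (Fin 2) F) =
      (M.trace ^ 2 - 4 * M.det) ^ (Fintype.card F / 2) •
        ((2 : F) • M - M.trace • (1 : Matrix (Fin 2) (Fin 2) F)) := by
  rw [← core_frob p M]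
  conv_lhs => rw [core_card_odd (F := F) p hp]
  rw [pow_succ, pow_mul, pow_two, core_sq, smul_pow, one_pow, smul_mul_assoc, one_mul]

theorem core_split (hp : p ≠ 2) (M : Matrix (Fin 2) (Fin 2) F) (e : F) (he : e ≠ 0)
    (hΔ : M.trace ^ 2 - 4 * M.det = e ^ 2) : M ^ Fintype.card F = M := by
  have h1 := core_pow p hp M
  have h2 : (M.trace ^ 2 - 4 * M.det) ^ (Fintype.card F / 2) = 1 := by
    rw [hΔ, ← pow_mul]
    have : 2 * (Fintype.card F / 2) = Fintype.card F - 1 := by
      have := core_card_odd (F := F) p hp; omega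
    rw [this]
    exact FiniteField.pow_card_sub_one_eq_one e he
  rw [h2, one_smul] at h1
  have h3 : (2 : F) • M ^ Fintype.card F = (2 : F) • M := sub_left_injective h1
  exact smul_right_injective _ (core_two_ne (F := F) p hp) h3

theorem core_nonsplit (hp : p ≠ 2) (M : Matrix (Fin 2) (Fin 2) F)
    (hΔ : ¬ IsSquare (M.trace ^ 2 - 4 * M.det)) :
    M ^ Fintype.card F = M.trace • (1 : Matrix (Fin 2) (Fin 2) F) - M := by
  have h1 := core_pow p hp M
  have hne : M.trace ^ 2 - 4 * M.det ≠ 0 := by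
    intro h
    apply hΔ
    rw [h]
    exact ⟨0, by simp⟩
  have h2 : (M.trace ^ 2 - 4 * M.det) ^ (Fintype.card F / 2) = -1 := by
    rcases FiniteField.pow_dichotomy (core_ringChar (F := F) p hp) hne with h | h
    · exact absurd ((FiniteField.isSquare_iff (core_ringChar (F := F) p hp) hne).mpr h) hΔ
    · exact h
  rw [h2, neg_one_smul, two_smul, two_smul, sub_eq_iff_eq_add] at h1
  have h3 : (2 : F) • M ^ Fintype.card F =
      (2 : F) • (M.trace • (1 : Matrix (Fin 2) (Fin 2) F) - M) := by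
    rw [two_smul, two_smul, h1]
    abel
  exact smul_right_injective _ (core_two_ne (F := F) p hp) h3

/-- consequence of `core_nonsplit` and Cayley-Hamilton `M² = tr M • M - det M • 1` -/
theorem core_nonsplit' (hp : p ≠ 2) (M : Matrix (Fin 2) (Fin 2) F)
    (hΔ : ¬ IsSquare (M.trace ^ 2 - 4 * M.det)) :
    M ^ (Fintype.card F + 1) = M.det • (1 : Matrix (Fin 2) (Fin 2) F) := by
  rw [pow_succ, core_nonsplit p hp M hΔ, Matrix.trace_fin_two, Matrix.det_fin_two]
  ext i j
  fin_cases i <;> fin_cases j <;>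
    simp [Matrix.mul_apply, Fin.sum_univ_two, Matrix.one_apply] <;> ring

theorem core_unip (hp : p ≠ 2) (M : Matrix (Fin 2) (Fin 2) F)
    (hΔ : M.trace ^ 2 - 4 * M.det = 0) :
    M ^ p = (M.trace / 2) ^ p • (1 : Matrix (Fin 2) (Fin 2) F) := by
  have hp2 : 2 ≤ p := (Fact.out : p.Prime).two_le
  have hsq := core_sq M
  rw [hΔ, zero_smul] at hsq
  have h0 : ((2 : F) • M - M.trace • (1 : Matrix (Fin 2) (Fin 2) F)) ^ p = 0 := by
    obtain ⟨k, rfl⟩ := Nat.exists_eq_add_of_le hp2
    rw [pow_add, pow_two, hsq, zero_mul]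
  have h1 := sub_pow_char_of_commute p (core_comm M M.trace)
  rw [h0, smul_pow, smul_pow, one_pow] at h1
  have h2 : (2 : F) ^ p • M ^ p = M.trace ^ p • (1 : Matrix (Fin 2) (Fin 2) F) :=
    (sub_eq_zero.mp h1.symm)
  have h2ne : (2 : F) ^ p ≠ 0 := pow_ne_zero _ (core_two_ne (F := F) p hp)
  have h3 : M ^ p = ((2 : F) ^ p)⁻¹ • (M.trace ^ p • (1 : Matrix (Fin 2) (Fin 2) F)) := by
    rw [← h2, smul_smul, inv_mul_cancel₀ h2ne, one_smul]
  rw [h3, smul_smul, div_pow, div_eq_inv_mul]

end core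

end Cfsg.Agent.Lib.S3452
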