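import Mathlib
import Cfsg.Agent.Lib.Helper5.S3452_Base
import Cfsg.Agent.Lib.Helper2.S3452_CORE

/-!
# S3452, package MORD (helper2)

Element orders of `PSL₂(p)`, `p` an odd prime: an element of order `p` is the class of a unipotent
matrix; every order is `p` or a divisor of `(p - 1)/2` or of `(p + 1)/2`; there is an element of
order `p`.  Statements exactly as in `notes/S3452_stub.lean.txt`.
-/

set_option autoImplicit false
set_option linter.unusedSectionVars false
set_option linter.unusedVariables false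

namespace Cfsg.Agent.Lib.S3452

open Matrix

section main
variable (p : ℕ) [Fact p.Prime]

/-- trichotomy for `A ∈ SL₂(p)`, `p` odd: `tr² = 4`, or `A^(p-1) = 1`, or `A^(p+1) = 1`. -/
theorem mord_trichotomy (hp : p ≠ 2) (A : SLp p) :
    (A : Matrix (Fin 2) (Fin 2) (ZMod p)).trace ^ 2 = 4 ∨ A ^ (p - 1) = 1 ∨ A ^ (p + 1) = 1 := by
  have hdet : (A : Matrix (Fin 2) (Fin 2) (ZMod p)).det = 1 := A.det_coe
  set M : Matrix (Fin 2) (Fin 2) (ZMod p) := (A : Matrix (Fin 2) (Fin 2) (ZMod p)) with hM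
  by_cases h0 : M.trace ^ 2 - 4 * M.det = 0
  · left
    linear_combination h0 + 4 * hdet
  · right
    by_cases hsq : IsSquare (M.trace ^ 2 - 4 * M.det)
    · left
      obtain ⟨e, he⟩ := hsq
      have he0 : e ≠ 0 := by
        rintro rfl
        apply h0
        rw [he, mul_zero]
      have h1 := core_split (F := ZMod p) p hp M e he0 (by rw [he, pow_two])
      rw [ZMod.card p] at h1
      have h2 : A ^ p = A := by
        apply Subtype.ext
        rw [Matrix.SpecialLinearGroup.coe_pow]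
        exact h1
      have hp1 : 1 ≤ p := (Fact.out : p.Prime).one_lt.le
      have : A ^ (p - 1) * A = 1 * A := by
        rw [← pow_succ, Nat.sub_add_cancel hp1, h2, one_mul]
      exact mul_right_cancel this
    · right
      have h1 := core_nonsplit' (F := ZMod p) p hp M hsq
      rw [ZMod.card p, hdet, one_smul] at h1
      apply Subtype.ext
      rw [Matrix.SpecialLinearGroup.coe_pow]
      exact h1

theorem psl_orderOf_cases (hp : p ≠ 2) (g : PSL p) :
    orderOf g = p ∨ 2 * orderOf g ∣ p - 1 ∨ 2 * orderOf g ∣ p + 1 := by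
  obtain ⟨A, rfl⟩ := cls_surjective p g
  have hpp : p.Prime := Fact.out
  have h2 : (2 : ZMod p) ≠ 0 := core_two_ne (F := ZMod p) p hp
  obtain ⟨k, hk⟩ : Odd p := hpp.eq_two_or_odd'.resolve_left hp
  rcases mord_trichotomy p hp A with ht | h | h
  · have h1 : cls p A ^ p = 1 := Cfsg.Agent.Lib.Helper5.mk_pow_char_eq_one p A ht
    have h3 := orderOf_dvd_of_pow_eq_one h1
    rcases (Nat.dvd_prime hpp).1 h3 with h4 | h4
    · right; left
      rw [h4]
      exact ⟨k, by omega⟩
    · left; exact h4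
  · right; left
    have e : p - 1 = 2 * k := by omega
    rw [e] at h ⊢
    have h1 : cls p A ^ k = 1 := (Cfsg.Agent.Lib.Helper5.mk_pow_eq_one_iff_odd h2 A k).2 h
    exact Nat.mul_dvd_mul_left 2 (orderOf_dvd_of_pow_eq_one h1)
  · right; right
    have e : p + 1 = 2 * (k + 1) := by omega
    rw [e] at h ⊢
    have h1 : cls p A ^ (k + 1) = 1 :=
      (Cfsg.Agent.Lib.Helper5.mk_pow_eq_one_iff_odd h2 A (k + 1)).2 h
    exact Nat.mul_dvd_mul_left 2 (orderOf_dvd_of_pow_eq_one h1)

theorem psl_unip_of_orderOf (hp : p ≠ 2) (g : PSL p) (hg : orderOf g = p) :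
    ∃ A : SLp p, A ≠ 1 ∧ ((A : Matrix (Fin 2) (Fin 2) (ZMod p)) - 1) ^ 2 = 0 ∧ cls p A = g := by
  obtain ⟨B, rfl⟩ := cls_surjective p g
  have hpp : p.Prime := Fact.out
  have h2 : (2 : ZMod p) ≠ 0 := core_two_ne (F := ZMod p) p hp
  obtain ⟨k, hk⟩ : Odd p := hpp.eq_two_or_odd'.resolve_left hp
  have hk1 : 1 ≤ k := by
    rcases Nat.eq_zero_or_pos k with h | h
    · exfalso
      rw [h] at hk
      exact hpp.one_lt.ne' (by omega)
    · exact h
  -- the trace of `B` squares to `4`
  have ht : (B : Matrix (Fin 2) (Fin 2) (ZMod p)).trace ^ 2 = 4 := by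
    rcases mord_trichotomy p hp B with ht | h | h
    · exact ht
    · exfalso
      have e : p - 1 = 2 * k := by omega
      rw [e] at h
      have h1 : cls p B ^ k = 1 := (Cfsg.Agent.Lib.Helper5.mk_pow_eq_one_iff_odd h2 B k).2 h
      have h3 := orderOf_dvd_of_pow_eq_one h1
      rw [hg] at h3
      have := Nat.le_of_dvd hk1 h3
      omega
    · exfalso
      have e : p + 1 = 2 * (k + 1) := by omega
      rw [e] at h
      have h1 : cls p B ^ (k + 1) = 1 :=
        (Cfsg.Agent.Lib.Helper5.mk_pow_eq_one_iff_odd h2 B (k + 1)).2 h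
      have h3 := orderOf_dvd_of_pow_eq_one h1
      rw [hg] at h3
      have := Nat.le_of_dvd (Nat.succ_pos k) h3
      omega
  set M : Matrix (Fin 2) (Fin 2) (ZMod p) := (B : Matrix (Fin 2) (Fin 2) (ZMod p)) with hM
  have hdet : M.det = 1 := B.det_coe
  have h0 : M.trace ^ 2 - 4 * M.det = 0 := by
    rw [hdet, ht]; ring
  have hMp : M ^ p = (M.trace / 2) • (1 : Matrix (Fin 2) (Fin 2) (ZMod p)) := by
    rw [core_unip (F := ZMod p) p hp M h0, ZMod.pow_card]
  -- the representative `A = B ^ (p + 1)`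
  have hA : ((B ^ (p + 1) : SLp p) : Matrix (Fin 2) (Fin 2) (ZMod p)) = (M.trace / 2) • M := by
    rw [Matrix.SpecialLinearGroup.coe_pow, pow_succ, hMp, Matrix.smul_mul, Matrix.one_mul]
  have hcls : cls p (B ^ (p + 1)) = cls p B := by
    have hgp : cls p B ^ p = 1 := by
      have := pow_orderOf_eq_one (cls p B)
      rwa [hg] at this
    rw [cls_pow, pow_succ, hgp, one_mul]
  have htrA : ((B ^ (p + 1) : SLp p) : Matrix (Fin 2) (Fin 2) (ZMod p)).trace = 2 := by
    rw [hA, Matrix.trace_smul, smul_eq_mul]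
    have h4 : (4 : ZMod p) = 2 * 2 := by norm_num
    field_simp
    rw [ht]
    norm_num
  refine ⟨B ^ (p + 1), ?_, ?_, hcls⟩
  · intro h1
    have h3 : cls p B = 1 := by rw [← hcls, h1, cls_one]
    have h4 : orderOf (cls p B) = 1 := by rw [h3, orderOf_one]
    rw [hg] at h4
    exact hpp.one_lt.ne' h4
  · have hCH := Cfsg.Agent.Lib.Helper5.cayley_two_sl (B ^ (p + 1) : SLp p)
    rw [htrA] at hCH
    set N : Matrix (Fin 2) (Fin 2) (ZMod p) :=
      ((B ^ (p + 1) : SLp p) : Matrix (Fin 2) (Fin 2) (ZMod p)) with hN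
    have e : N * N = (2 : ZMod p) • N - 1 := by rw [← hCH]; abel
    rw [pow_two, sub_mul, mul_sub, mul_sub, Matrix.one_mul, Matrix.mul_one, Matrix.one_mul, e,
      two_smul]
    abel

theorem psl_exists_orderOf_p : ∃ g : PSL p, orderOf g = p := by
  have hpp : p.Prime := Fact.out
  have hdet : (!![1, 1; 0, 1] : Matrix (Fin 2) (Fin 2) (ZMod p)).det = 1 := by
    rw [Matrix.det_fin_two_of]; ring
  set A : SLp p := ⟨!![1, 1; 0, 1], hdet⟩ with hA
  have hAc : (A : Matrix (Fin 2) (Fin 2) (ZMod p)) = !![1, 1; 0, 1] := rfl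
  have ht : (A : Matrix (Fin 2) (Fin 2) (ZMod p)).trace ^ 2 = 4 := by
    rw [hAc, Matrix.trace_fin_two_of]; norm_num
  have h1 : cls p A ^ p = 1 := Cfsg.Agent.Lib.Helper5.mk_pow_char_eq_one p A ht
  have hne : cls p A ≠ 1 := by
    intro h
    obtain ⟨c, hc⟩ := (Cfsg.Agent.Lib.Helper5.mk_eq_one_iff A).1 h
    have h01 := congrFun (congrFun hc 0) 1
    rw [hAc] at h01
    simp at h01
  refine ⟨cls p A, ?_⟩
  rcases (Nat.dvd_prime hpp).1 (orderOf_dvd_of_pow_eq_one h1) with h | h
  · exact absurd (orderOf_eq_one_iff.1 h) hne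
  · exact h

end main

end Cfsg.Agent.Lib.S3452
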