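import Mathlib
import Cfsg.Agent.Lib.Helper5.S3452_Base
import Cfsg.Agent.Lib.Helper2.S3452_MORD

/-!
# S3452, package MFPF (helper2)

Elements of order `p` of `PSL₂(p)` (`p` odd) act fixed-point-freely on `V_k`.
Statements exactly as in `notes/S3452_stub.lean.txt`.
-/

set_option autoImplicit false
set_option linter.unusedSectionVars false
set_option linter.unusedVariables false

namespace Cfsg.Agent.Lib.S3452

open Matrix

section main
variable (p : ℕ) [Fact p.Prime]

/-- a function fixed by the translation by `g` is constant along `g`-orbits -/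
theorem mfpf_const (k : ℕ) (g : PSL p) (f : Fn p k) (hfix : transl p k g f = f)
    (j : Fin k) (h : PSL p) (i : ℕ) : f (j, g ^ i * h) = f (j, h) := by
  induction i with
  | zero => rw [pow_zero, one_mul]
  | succ i ih =>
    have h1 := congrFun hfix (j, g ^ (i + 1) * h)
    rw [transl_apply] at h1
    have h2 : g⁻¹ * (g ^ (i + 1) * h) = g ^ i * h := by
      rw [pow_succ', mul_assoc, inv_mul_cancel_left]
    rw [show ((j, g ^ (i + 1) * h) : Fin k × PSL p).1 = j from rfl,
      show ((j, g ^ (i + 1) * h) : Fin k × PSL p).2 = g ^ (i + 1) * h from rfl, h2] at h1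
    rw [← h1, ih]

theorem VK_fpf_of_unip (hp : p ≠ 2) (k : ℕ) (A : SLp p) (hA : A ≠ 1)
    (hA2 : ((A : Matrix (Fin 2) (Fin 2) (ZMod p)) - 1) ^ 2 = 0) (f : Fn p k) (hf : f ∈ VK p k)
    (hfix : transl p k (cls p A) f = f) : f = 0 := by
  have hpp : p.Prime := Fact.out
  obtain ⟨m, hm⟩ : Odd p := hpp.eq_two_or_odd'.resolve_left hp
  funext x
  obtain ⟨j, h⟩ := x
  have h1 := hf A hA hA2 j h
  have h2 : ∑ i ∈ Finset.range p, f (j, cls p A ^ i * h) = ∑ i ∈ Finset.range p, f (j, h) :=
    Finset.sum_congr rfl (fun i _ => mfpf_const p k (cls p A) f hfix j h i)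
  rw [h2, Finset.sum_const, Finset.card_range, nsmul_eq_mul] at h1
  have h3 : ((p : ℕ) : ZMod 2) = 1 := by
    rw [hm]
    push_cast
    have : (2 : ZMod 2) = 0 := by decide
    rw [this, zero_mul, zero_add]
  rw [h3, one_mul] at h1
  exact h1

theorem VK_fpf (hp : p ≠ 2) (k : ℕ) (g : PSL p) (hg : orderOf g = p) (z : Multiplicative (VK p k))
    (hz : phi p k g z = z) : z = 1 := by
  obtain ⟨A, hA, hA2, rfl⟩ := psl_unip_of_orderOf p hp g hg
  have h1 : (translV p k (cls p A) (Multiplicative.toAdd z)).1 = (Multiplicative.toAdd z).1 := by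
    have := congrArg (fun w : Multiplicative (VK p k) => (Multiplicative.toAdd w).1) hz
    exact this
  rw [translV_coe] at h1
  have h2 := VK_fpf_of_unip p hp k A hA hA2 (Multiplicative.toAdd z).1 (Multiplicative.toAdd z).2 h1
  apply Multiplicative.toAdd.injective
  apply Subtype.ext
  exact h2

end main

end Cfsg.Agent.Lib.S3452
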