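import Mathlib
import Cfsg.Agent.Lib.Helper2.S3452_CORE

/-!
# S3452, package PGLA1 (helper2)

Element orders of `PGL₂(F) = GL₂(F)/centre`, `F` finite of odd characteristic `p`, `q = |F|`:
every order divides `q - 1`, `q + 1` or `p`.  Statement exactly as in `notes/S3452_stub.lean.txt`.
-/

set_option autoImplicit false
set_option linter.unusedSectionVars false
set_option linter.unusedVariables false

namespace Cfsg.Agent.Lib.S3452

open Matrix

section pgl
variable {F : Type*} [Field F] [Fintype F] (p : ℕ) [Fact p.Prime] [CharP F p]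

omit [Fintype F] in
/-- an element of `GL₂(F)` whose matrix is scalar is central. -/
theorem pgla1_mem_center (g : GL (Fin 2) F) (c : F)
    (hg : (g : Matrix (Fin 2) (Fin 2) F) = c • (1 : Matrix (Fin 2) (Fin 2) F)) :
    g ∈ Subgroup.center (GL (Fin 2) F) := by
  rw [Subgroup.mem_center_iff]
  intro h
  apply Units.ext
  rw [Units.val_mul, Units.val_mul, hg, Matrix.mul_smul, Matrix.smul_mul, mul_one, one_mul]

omit [Fintype F] in
theorem pgla1_pow_eq_one (g : GL (Fin 2) F) (n : ℕ) (c : F)
    (hg : (g : Matrix (Fin 2) (Fin 2) F) ^ n = c • (1 : Matrix (Fin 2) (Fin 2) F)) :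
    (QuotientGroup.mk g : GL (Fin 2) F ⧸ Subgroup.center (GL (Fin 2) F)) ^ n = 1 := by
  rw [← QuotientGroup.mk_pow, QuotientGroup.eq_one_iff]
  apply pgla1_mem_center (g ^ n) c
  rw [Units.val_pow_eq_pow_val, hg]

/-- PGLA1 -/
theorem pgl2_orderOf_dvd (hp : p ≠ 2)
    (x : GL (Fin 2) F ⧸ Subgroup.center (GL (Fin 2) F)) :
    orderOf x ∣ Fintype.card F - 1 ∨ orderOf x ∣ Fintype.card F + 1 ∨ orderOf x ∣ p := by
  induction x using QuotientGroup.induction_on with
  | H g =>
    set M : Matrix (Fin 2) (Fin 2) F := (g : Matrix (Fin 2) (Fin 2) F) with hM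
    by_cases h0 : M.trace ^ 2 - 4 * M.det = 0
    · right; right
      apply orderOf_dvd_of_pow_eq_one
      exact pgla1_pow_eq_one g p _ (core_unip p hp M h0)
    · by_cases hsq : IsSquare (M.trace ^ 2 - 4 * M.det)
      · left
        obtain ⟨e, he⟩ := hsq
        have he0 : e ≠ 0 := by
          rintro rfl
          apply h0
          rw [he, mul_zero]
        have h1 := core_split p hp M e he0 (by rw [he, pow_two])
        apply orderOf_dvd_of_pow_eq_one
        have hq : 1 ≤ Fintype.card F := Fintype.card_pos
        -- `g ^ q = g`, hence `g ^ (q - 1) = 1`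
        have h2 : g ^ Fintype.card F = g := by
          apply Units.ext
          rw [Units.val_pow_eq_pow_val]
          exact h1
        have h3 : g ^ (Fintype.card F - 1) = 1 := by
          have : g ^ (Fintype.card F - 1) * g = 1 * g := by
            rw [← pow_succ, Nat.sub_add_cancel hq, h2, one_mul]
          exact mul_right_cancel this
        rw [← QuotientGroup.mk_pow, h3, QuotientGroup.mk_one]
      · right; left
        apply orderOf_dvd_of_pow_eq_one
        exact pgla1_pow_eq_one g _ _ (core_nonsplit' p hp M hsq)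

end pgl

end Cfsg.Agent.Lib.S3452
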