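import Mathlib

/-!
# S3557 (2-closed transitive groups of degree `2p²` have a derangement of prime order): base lemmas

helper2.  Orbit lengths of a Sylow `p`-subgroup (`pow_dvd_card_orbit_sylow`), the `p`-group lemmas
(`exists_central_of_normal`, `exists_mem_notMem_of_normal_lt`), FACT Z
(`fixes_orbit_of_commutator_mem`, `smul_ne_of_mem_center`) and case (γ)
(`exists_pair_of_fixer_eq_bot`).
-/

set_option autoImplicit false

namespace Cfsg.Agent.Lib.Helper2.S3557

open MulAction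


/-- Wielandt 3.4': the orbits of a Sylow `p`-subgroup of a transitive group have length divisible
by every power of `p` dividing the degree. -/
theorem pow_dvd_card_orbit_sylow {G Ω : Type*} [Group G] [Finite G] [MulAction G Ω] [Finite Ω]
    (htrans : IsPretransitive G Ω) (p : ℕ) [hp : Fact p.Prime] (P : Sylow p G) (e : ℕ)
    (he : p ^ e ∣ Nat.card Ω) (α : Ω) :
    p ^ e ∣ Nat.card (orbit (↥(P : Subgroup G)) α) := by
  have h1 : Nat.card (orbit (↥(P : Subgroup G)) α) =
      (stabilizer G α).relIndex (P : Subgroup G) := by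
    rw [Nat.card_coe_set_eq, ← index_stabilizer, Subgroup.relIndex]
    congr 1
  rw [h1]
  have h2 : (stabilizer G α).index = Nat.card Ω := index_stabilizer_of_transitive G α
  have h3 := Subgroup.relIndex_mul_index (H := stabilizer G α ⊓ (P : Subgroup G))
    (K := (P : Subgroup G)) inf_le_right
  have h4 := Subgroup.relIndex_mul_index (H := stabilizer G α ⊓ (P : Subgroup G))
    (K := stabilizer G α) inf_le_left
  rw [Subgroup.inf_relIndex_right] at h3
  have h5 : p ^ e ∣ (stabilizer G α).relIndex (P : Subgroup G) * (P : Subgroup G).index := by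
    rw [h3, ← h4, h2]
    exact Dvd.dvd.mul_left he _
  have hcop : Nat.Coprime (p ^ e) (P : Subgroup G).index :=
    Nat.Coprime.pow_left e ((Nat.Prime.coprime_iff_not_dvd hp.out).mpr P.not_dvd_index)
  exact hcop.dvd_of_dvd_mul_right h5



/-- a nontrivial normal subgroup of a finite `p`-group contains a central element of order `p`. -/
theorem exists_central_of_normal {Q : Type*} [Group Q] [Finite Q] (p : ℕ) [hp : Fact p.Prime]
    (hQ : IsPGroup p Q) (N : Subgroup Q) [hN : N.Normal] (hne : N ≠ ⊥) :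
    ∃ w ∈ N, w ∈ Subgroup.center Q ∧ orderOf w = p := by
  have hNp : IsPGroup p N := hQ.to_subgroup N
  have hNnt : Nontrivial N := (Subgroup.nontrivial_iff_ne_bot N).mpr hne
  have hdvd : p ∣ Nat.card N := by
    obtain ⟨n, hn0, hn⟩ := hNp.nontrivial_iff_card.mp hNnt
    exact hn.symm ▸ dvd_pow_self _ (ne_of_gt hn0)
  have h1 : (1 : N) ∈ fixedPoints (ConjAct Q) N := by
    intro g
    exact smul_one g
  obtain ⟨b, hb, hb1⟩ :=
    (hQ.of_equiv ConjAct.toConjAct).exists_fixed_point_of_prime_dvd_card_of_fixed_point N hdvd h1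
  have hbc : (b : Q) ∈ Subgroup.center Q := by
    rw [Subgroup.mem_center_iff]
    intro g
    have := hb (ConjAct.toConjAct g)
    have h2 := congrArg Subtype.val this
    rw [ConjAct.Subgroup.val_conj_smul, ConjAct.smul_def, ConjAct.ofConjAct_toConjAct] at h2
    rw [mul_inv_eq_iff_eq_mul] at h2
    exact h2
  -- the subgroup `N ⊓ center Q` is a nontrivial `p`-group
  let M : Subgroup Q := N ⊓ Subgroup.center Q
  have hMnt : Nontrivial M := by
    refine ⟨⟨⟨(b : Q), b.2, hbc⟩, 1, ?_⟩⟩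
    intro h
    apply hb1
    have := congrArg Subtype.val h
    exact Subtype.ext this.symm
  have hMp : IsPGroup p M := hQ.to_subgroup M
  have hdvdM : p ∣ Nat.card M := by
    obtain ⟨n, hn0, hn⟩ := hMp.nontrivial_iff_card.mp hMnt
    exact hn.symm ▸ dvd_pow_self _ (ne_of_gt hn0)
  obtain ⟨w, hw⟩ := exists_prime_orderOf_dvd_card' p hdvdM
  refine ⟨(w : Q), w.2.1, w.2.2, ?_⟩
  rw [← hw]
  exact (Subgroup.orderOf_coe w)

/-- normal subgroups `K < S` of a finite `p`-group: an element of `S` outside `K` which is central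
of order `p` modulo `K`. -/
theorem exists_mem_notMem_of_normal_lt {Q : Type*} [Group Q] [Finite Q] (p : ℕ) [hp : Fact p.Prime]
    (hQ : IsPGroup p Q) (K S : Subgroup Q) [hK : K.Normal] [hS : S.Normal] (hKS : K < S) :
    ∃ y ∈ S, y ∉ K ∧ y ^ p ∈ K ∧ ∀ h : Q, h⁻¹ * y⁻¹ * h * y ∈ K := by
  obtain ⟨s, hsS, hsK⟩ := SetLike.exists_of_lt hKS
  let f := QuotientGroup.mk' K
  have hfsurj : Function.Surjective f := QuotientGroup.mk'_surjective K
  have hSn : (S.map f).Normal := hS.map f hfsurj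
  have hSne : S.map f ≠ ⊥ := by
    intro h
    have : f s ∈ S.map f := Subgroup.mem_map_of_mem f hsS
    rw [h, Subgroup.mem_bot] at this
    exact hsK ((QuotientGroup.eq_one_iff s).mp this)
  obtain ⟨w, hwS, hwc, hwo⟩ := exists_central_of_normal p (hQ.to_quotient K) (S.map f) hSne
  obtain ⟨y, hyS, rfl⟩ := hwS
  refine ⟨y, hyS, ?_, ?_, ?_⟩
  · intro hyK
    have : f y = 1 := (QuotientGroup.eq_one_iff y).mpr hyK
    rw [this, orderOf_one] at hwo
    exact hp.out.ne_one hwo.symm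
  · apply (QuotientGroup.eq_one_iff (y ^ p)).mp
    have : f y ^ p = 1 := by rw [← hwo]; exact pow_orderOf_eq_one _
    have h3 : f (y ^ p) = 1 := by rw [map_pow]; exact this
    exact h3
  · intro h
    apply (QuotientGroup.eq_one_iff _).mp
    have hc := Subgroup.mem_center_iff.mp hwc (f h)
    -- hc : f h * f y = f y * f h
    have : f (h⁻¹ * y⁻¹ * h * y) = (f h)⁻¹ * (f y)⁻¹ * f h * f y := by simp
    show f (h⁻¹ * y⁻¹ * h * y) = 1
    rw [this, mul_assoc ((f h)⁻¹ * (f y)⁻¹), hc, ← mul_assoc, mul_assoc (f h)⁻¹, inv_mul_cancel,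
      mul_one, inv_mul_cancel]



section basic

variable {Q Ω : Type*} [Group Q] [MulAction Q Ω]

theorem smul_mem_orbit_iff' (q : Q) (a0 x : Ω) : q • x ∈ orbit Q a0 ↔ x ∈ orbit Q a0 := by
  rw [← orbit_eq_iff, ← orbit_eq_iff, orbit_smul]

/-- FACT Z. -/
theorem fixes_orbit_of_commutator_mem (K : Subgroup Q) (y : Q)
    (hy : ∀ h : Q, h⁻¹ * y⁻¹ * h * y ∈ K) (b : Ω) (hKb : ∀ k ∈ K, k • b = b) (hb : y • b = b)
    (h : Q) : y • (h • b) = h • b := by
  have h1 := hKb _ (hy h)
  rw [mul_smul, hb, mul_smul, mul_smul] at h1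
  have h2 : y⁻¹ • h • b = h • b := by
    have := congrArg (fun t => h • t) h1
    simpa using this
  rw [inv_smul_eq_iff] at h2
  exact h2.symm

instance fixingSubgroup_orbit_normal (a0 : Ω) : (fixingSubgroup Q (orbit Q a0)).Normal := by
  constructor
  intro g hg h
  rw [mem_fixingSubgroup_iff] at hg ⊢
  intro x hx
  have hx' : h⁻¹ • x ∈ orbit Q a0 := (smul_mem_orbit_iff' h⁻¹ a0 x).mpr hx
  rw [mul_smul, mul_smul, hg _ hx', smul_inv_smul]

/-- a central element outside the fixer of an orbit moves every point of the orbit. -/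
theorem smul_ne_of_mem_center (a0 : Ω) (z : Q) (hzc : z ∈ Subgroup.center Q)
    (hz : z ∉ fixingSubgroup Q (orbit Q a0)) : ∀ a ∈ orbit Q a0, z • a ≠ a := by
  intro a ha hfix
  apply hz
  rw [mem_fixingSubgroup_iff]
  intro x hx
  have hxa : x ∈ orbit Q a := by rw [orbit_eq_iff.mpr ha]; exact hx
  obtain ⟨h, rfl⟩ := hxa
  show z • (h • a) = h • a
  rw [← mul_smul, ← (Subgroup.mem_center_iff.mp hzc h), mul_smul, hfix]

end basic


section pgroup

variable {Q Ω : Type*} [Group Q] [Finite Q] [MulAction Q Ω]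

/-- the setwise stabiliser in `Q` of the `K`-orbit of `a0` (`K` normal). -/
def blockStab (K : Subgroup Q) [hK : K.Normal] (a0 : Ω) : Subgroup Q where
  carrier := {g | ∃ k ∈ K, g • a0 = k • a0}
  one_mem' := ⟨1, K.one_mem, rfl⟩
  mul_mem' := by
    rintro g g' ⟨k, hk, hg⟩ ⟨k', hk', hg'⟩
    refine ⟨g * k' * g⁻¹ * k, K.mul_mem (hK.conj_mem k' hk' g) hk, ?_⟩
    rw [mul_smul, hg', mul_smul, ← hg, mul_smul, mul_smul, inv_smul_smul]
  inv_mem' := by
    rintro g ⟨k, hk, hg⟩
    refine ⟨g⁻¹ * k⁻¹ * g⁻¹⁻¹, hK.conj_mem k⁻¹ (K.inv_mem hk) g⁻¹, ?_⟩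
    rw [inv_inv, mul_smul, mul_smul, hg, inv_smul_smul]

omit [Finite Q] in
theorem mem_blockStab (K : Subgroup Q) [K.Normal] (a0 : Ω) (g : Q) :
    g ∈ blockStab K a0 ↔ ∃ k ∈ K, g • a0 = k • a0 := Iff.rfl

/-- case (γ): `Q` is faithful on the first orbit and not on the second. -/
theorem exists_pair_of_fixer_eq_bot (p : ℕ) [hp : Fact p.Prime] (hQ : IsPGroup p Q) (a0 b0 : Ω)
    (hc1 : Nat.card (orbit Q a0) = p ^ 2) (hc2 : Nat.card (orbit Q b0) = p ^ 2)
    (hK1 : fixingSubgroup Q (orbit Q a0) = ⊥) (hK2 : fixingSubgroup Q (orbit Q b0) ≠ ⊥) :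
    ∃ z y : Q, (∀ a ∈ orbit Q a0, z • a ≠ a) ∧ (∀ b ∈ orbit Q b0, y • b ≠ b) ∧
      (∀ a ∈ orbit Q a0, z ^ p • a = a) ∧ (∀ b ∈ orbit Q b0, y ^ p • b = b) ∧
      ∀ a ∈ orbit Q a0, ∀ b ∈ orbit Q b0, ∃ g : Q, g • a = z • a ∧ g • b = y • b := by
  set K1 := fixingSubgroup Q (orbit Q a0) with hK1def
  set K2 := fixingSubgroup Q (orbit Q b0) with hK2def
  have hK2fix : ∀ k ∈ K2, ∀ b ∈ orbit Q b0, k • b = b := fun k hk b hb =>
    (mem_fixingSubgroup_iff Q).mp hk b hb
  -- the central element `z`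
  obtain ⟨z, hzK2, hzc, hzo⟩ := exists_central_of_normal p hQ K2 hK2
  have hz1 : z ≠ 1 := by
    intro h
    rw [h, orderOf_one] at hzo
    exact hp.out.ne_one hzo.symm
  have hzfpf : ∀ a ∈ orbit Q a0, z • a ≠ a := by
    apply smul_ne_of_mem_center a0 z hzc
    intro h
    rw [← hK1def, hK1, Subgroup.mem_bot] at h
    exact hz1 h
  -- the block stabiliser `S`
  set S := blockStab K2 a0 with hSdef
  have hK2S : K2 ≤ S := fun k hk => ⟨k, hk, rfl⟩
  have hHS : stabilizer Q a0 ≤ S := fun h hh => ⟨1, K2.one_mem, by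
    rw [mem_stabilizer_iff] at hh; rw [hh, one_smul]⟩
  have hHidx : (stabilizer Q a0).index = p ^ 2 := by
    rw [index_stabilizer, ← Nat.card_coe_set_eq, hc1]
  have hHidx2 : (stabilizer Q b0).index = p ^ 2 := by
    rw [index_stabilizer, ← Nat.card_coe_set_eq, hc2]
  have hmul := Subgroup.relIndex_mul_index hHS
  rw [hHidx] at hmul
  have hrel1 : (stabilizer Q a0).relIndex S ≠ 1 := by
    intro h
    rw [Subgroup.relIndex_eq_one] at h
    -- then `K2` fixes `a0`, hence the whole first orbit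
    apply hK2
    rw [eq_bot_iff, ← hK1, hK1def]
    intro k hk
    rw [mem_fixingSubgroup_iff]
    intro x hx
    obtain ⟨g, rfl⟩ := hx
    have hk' : g⁻¹ * k * g⁻¹⁻¹ ∈ K2 := (fixingSubgroup_orbit_normal b0).conj_mem k hk g⁻¹
    have h2 := h (hK2S hk')
    rw [mem_stabilizer_iff, inv_inv, mul_smul, mul_smul] at h2
    show k • g • a0 = g • a0
    have := congrArg (fun t => g • t) h2
    simpa using this
  have hSidx : S.index = 1 ∨ S.index = p := by
    have hd : S.index ∣ p ^ 2 := Dvd.intro_left _ hmul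
    obtain ⟨m, hm, hmeq⟩ := (Nat.dvd_prime_pow hp.out).mp hd
    have hd' : (stabilizer Q a0).relIndex S ∣ p ^ 2 := Dvd.intro _ hmul
    interval_cases m
    · left; simpa using hmeq
    · right; simpa using hmeq
    · exfalso
      rw [hmeq] at hmul
      have hpos : 0 < p ^ 2 := pow_pos hp.out.pos 2
      have : (stabilizer Q a0).relIndex S = 1 :=
        Nat.eq_of_mul_eq_mul_right hpos (hmul.trans (one_mul _).symm)
      exact hrel1 this
  have hcard : ∃ n, Nat.card Q = p ^ n := IsPGroup.iff_card.mp hQ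
  have hSnormal : S.Normal := by
    rcases hSidx with h | h
    · rw [Subgroup.index_eq_one] at h
      rw [h]; infer_instance
    · apply Subgroup.normal_of_index_eq_minFac_card
      obtain ⟨n, hn⟩ := hcard
      have hn0 : n ≠ 0 := by
        rintro rfl
        rw [pow_zero] at hn
        have : Subsingleton Q := (Nat.card_eq_one_iff_unique.mp hn).1
        exact hz1 (Subsingleton.elim z 1)
      rw [h, hn, Nat.Prime.pow_minFac hp.out hn0]
  have hK2ltS : K2 < S := by
    refine lt_of_le_of_ne hK2S ?_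
    intro heq
    have hle : K2 ≤ stabilizer Q b0 := fun k hk => by
      rw [mem_stabilizer_iff]; exact hK2fix k hk b0 (mem_orbit_self b0)
    have hdvd := Subgroup.index_dvd_of_le hle
    rw [hHidx2, heq] at hdvd
    rcases hSidx with h | h
    · rw [h] at hdvd
      have := Nat.le_of_dvd one_pos hdvd
      have h2 : 2 ≤ p := hp.out.two_le
      nlinarith
    · rw [h] at hdvd
      have := Nat.le_of_dvd hp.out.pos hdvd
      have h2 : 2 ≤ p := hp.out.two_le
      nlinarith
  obtain ⟨y, hyS, hyK2, hypK2, hycomm⟩ := exists_mem_notMem_of_normal_lt p hQ K2 S hK2ltS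
  have hyfpf : ∀ b ∈ orbit Q b0, y • b ≠ b := by
    intro b hb hfix
    apply hyK2
    rw [hK2def, mem_fixingSubgroup_iff]
    intro x hx
    have hxb : x ∈ orbit Q b := by rw [orbit_eq_iff.mpr hb]; exact hx
    obtain ⟨h, rfl⟩ := hxb
    exact fixes_orbit_of_commutator_mem K2 y hycomm b (fun k hk => hK2fix k hk b hb) hfix h
  -- `y⁻¹` preserves every `K2`-orbit in the first orbit
  have hyorb : ∀ a ∈ orbit Q a0, ∃ k ∈ K2, y⁻¹ • a = k • a := by
    rintro a ⟨h, rfl⟩
    have h1 : h⁻¹ * y⁻¹ * h⁻¹⁻¹ ∈ S := hSnormal.conj_mem y⁻¹ (S.inv_mem hyS) h⁻¹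
    obtain ⟨k', hk', hk'eq⟩ := h1
    refine ⟨h * k' * h⁻¹, (fixingSubgroup_orbit_normal b0).conj_mem k' hk' h, ?_⟩
    show y⁻¹ • h • a0 = (h * k' * h⁻¹) • h • a0
    rw [mul_smul, mul_smul, inv_smul_smul, ← hk'eq, inv_inv, mul_smul, mul_smul, smul_inv_smul]
  refine ⟨z, y, hzfpf, hyfpf, ?_, ?_, ?_⟩
  · intro a _
    rw [← hzo, pow_orderOf_eq_one, one_smul]
  · intro b hb
    exact hK2fix _ hypK2 b hb
  · intro a ha b hb
    have hza : z • a ∈ orbit Q a0 := (smul_mem_orbit_iff' z a0 a).mpr ha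
    obtain ⟨k1, hk1, hk1eq⟩ := hyorb (z • a) hza
    refine ⟨y * (k1 * z), ?_, ?_⟩
    · rw [mul_smul, mul_smul, ← hk1eq, smul_inv_smul]
    · rw [mul_smul, hK2fix _ (K2.mul_mem hk1 hzK2) b hb]

end pgroup

end Cfsg.Agent.Lib.Helper2.S3557
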