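import Mathlib
import Cfsg.Agent.Lib.Helper2.S3557_Base

/-!
# S3557, package PAIR (helper2)

`Cfsg.Agent.Lib.S3557.exists_pair`: a faithful finite `p`-group `Q` with (at most) two orbits, both
of length `p²`, contains `z`, `y` with `z` fixed-point-free of order `p` on the first orbit, `y`
fixed-point-free of order `p` on the second, and such that every mixed pair of points is moved by
some element of `Q` as `(z, y)` move it.
-/

set_option autoImplicit false

namespace Cfsg.Agent.Lib.S3557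

open MulAction Cfsg.Agent.Lib.Helper2.S3557

theorem exists_pair {Q Ω : Type*} [Group Q] [Finite Q] [MulAction Q Ω] [FaithfulSMul Q Ω]
    (p : ℕ) [hp : Fact p.Prime] (hQ : IsPGroup p Q) (a0 b0 : Ω)
    (hcover : ∀ x : Ω, x ∈ orbit Q a0 ∨ x ∈ orbit Q b0)
    (hc1 : Nat.card (orbit Q a0) = p ^ 2) (hc2 : Nat.card (orbit Q b0) = p ^ 2) :
    ∃ z y : Q, (∀ a ∈ orbit Q a0, z • a ≠ a) ∧ (∀ b ∈ orbit Q b0, y • b ≠ b) ∧
      (∀ a ∈ orbit Q a0, z ^ p • a = a) ∧ (∀ b ∈ orbit Q b0, y ^ p • b = b) ∧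
      ∀ a ∈ orbit Q a0, ∀ b ∈ orbit Q b0, ∃ g : Q, g • a = z • a ∧ g • b = y • b := by
  set K1 := fixingSubgroup Q (orbit Q a0) with hK1def
  set K2 := fixingSubgroup Q (orbit Q b0) with hK2def
  have hinf : ∀ g : Q, g ∈ K1 → g ∈ K2 → g = 1 := by
    intro g h1 h2
    apply FaithfulSMul.eq_of_smul_eq_smul (α := Ω)
    intro x
    rw [one_smul]
    rcases hcover x with hx | hx
    · exact (mem_fixingSubgroup_iff Q).mp h1 x hx
    · exact (mem_fixingSubgroup_iff Q).mp h2 x hx
  by_cases h1 : K1 = ⊥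
  · by_cases h2 : K2 = ⊥
    · -- case α
      have hnt : (⊤ : Subgroup Q) ≠ ⊥ := by
        intro h
        have hall : ∀ q : Q, q = 1 := fun q => by
          have hq : q ∈ (⊤ : Subgroup Q) := Subgroup.mem_top q
          rw [h, Subgroup.mem_bot] at hq
          exact hq
        have hsub : Subsingleton Q := ⟨fun a b => (hall a).trans (hall b).symm⟩
        have : Nat.card (orbit Q a0) ≤ 1 := by
          rw [Nat.card_coe_set_eq, ← index_stabilizer]
          have : stabilizer Q a0 = ⊤ := Subsingleton.elim _ _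
          rw [this, Subgroup.index_top]
        rw [hc1] at this
        have h2 : 2 ≤ p := hp.out.two_le
        nlinarith
      obtain ⟨z, -, hzc, hzo⟩ := exists_central_of_normal p hQ ⊤ hnt
      have hz1 : z ≠ 1 := by
        intro h
        rw [h, orderOf_one] at hzo
        exact hp.out.ne_one hzo.symm
      have hzp : z ^ p = 1 := by rw [← hzo]; exact pow_orderOf_eq_one z
      refine ⟨z, z, ?_, ?_, ?_, ?_, ?_⟩
      · apply smul_ne_of_mem_center a0 z hzc
        intro h
        rw [← hK1def, h1, Subgroup.mem_bot] at h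
        exact hz1 h
      · apply smul_ne_of_mem_center b0 z hzc
        intro h
        rw [← hK2def, h2, Subgroup.mem_bot] at h
        exact hz1 h
      · intro a _; rw [hzp, one_smul]
      · intro b _; rw [hzp, one_smul]
      · intro a _ b _; exact ⟨z, rfl, rfl⟩
    · -- case γ
      exact exists_pair_of_fixer_eq_bot p hQ a0 b0 hc1 hc2 h1 h2
  · by_cases h2 : K2 = ⊥
    · -- case γ'
      obtain ⟨z', y', hz', hy', hzp', hyp', hmix'⟩ :=
        exists_pair_of_fixer_eq_bot p hQ b0 a0 hc2 hc1 h2 h1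
      refine ⟨y', z', hy', hz', hyp', hzp', ?_⟩
      intro a ha b hb
      obtain ⟨g, hg1, hg2⟩ := hmix' b hb a ha
      exact ⟨g, hg2, hg1⟩
    · -- case β
      obtain ⟨z1, hz1K, hz1c, hz1o⟩ := exists_central_of_normal p hQ K2 h2
      obtain ⟨z2, hz2K, hz2c, hz2o⟩ := exists_central_of_normal p hQ K1 h1
      have hz1ne : z1 ≠ 1 := by
        intro h
        rw [h, orderOf_one] at hz1o
        exact hp.out.ne_one hz1o.symm
      have hz2ne : z2 ≠ 1 := by
        intro h
        rw [h, orderOf_one] at hz2o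
        exact hp.out.ne_one hz2o.symm
      have hz1p : z1 ^ p = 1 := by rw [← hz1o]; exact pow_orderOf_eq_one z1
      have hz2p : z2 ^ p = 1 := by rw [← hz2o]; exact pow_orderOf_eq_one z2
      have hz1f : ∀ a ∈ orbit Q a0, z1 • a ≠ a :=
        smul_ne_of_mem_center a0 z1 hz1c (fun h => hz1ne (hinf z1 h hz1K))
      have hz2f : ∀ b ∈ orbit Q b0, z2 • b ≠ b :=
        smul_ne_of_mem_center b0 z2 hz2c (fun h => hz2ne (hinf z2 hz2K h))
      have hcomm : Commute z1 z2 := (Subgroup.mem_center_iff.mp hz1c z2).symm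
      have hwp : (z1 * z2) ^ p = 1 := by rw [hcomm.mul_pow, hz1p, hz2p, one_mul]
      have hw1 : ∀ a ∈ orbit Q a0, (z1 * z2) • a = z1 • a := by
        intro a ha
        rw [mul_smul, (mem_fixingSubgroup_iff Q).mp hz2K a ha]
      have hw2 : ∀ b ∈ orbit Q b0, (z1 * z2) • b = z2 • b := by
        intro b hb
        have hb' : z2 • b ∈ orbit Q b0 := (smul_mem_orbit_iff' z2 b0 b).mpr hb
        rw [mul_smul, (mem_fixingSubgroup_iff Q).mp hz1K _ hb']
      refine ⟨z1 * z2, z1 * z2, ?_, ?_, ?_, ?_, ?_⟩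
      · intro a ha; rw [hw1 a ha]; exact hz1f a ha
      · intro b hb; rw [hw2 b hb]; exact hz2f b hb
      · intro a _; rw [hwp, one_smul]
      · intro b _; rw [hwp, one_smul]
      · intro a _ b _; exact ⟨z1 * z2, rfl, rfl⟩

end Cfsg.Agent.Lib.S3557
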