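import Mathlib

/-!
# S3571, package INTRANS (helper2)

`Cfsg.Agent.Lib.S3571.intrans_case`: the case of S3571 where the point stabiliser `H'` is
intransitive on `Fin m`. Sylvester-Schur enters as the explicit first hypothesis `SS`; the other
hypotheses are those of `notes/S3571_stub.lean.txt`.
-/

set_option autoImplicit false

namespace Cfsg.Agent.Lib.Helper2.S3571Intrans

open Equiv MulAction

open scoped Pointwise

/-- arithmetic: from `r ∣ C(m,k)` with `k < r` prime. -/
theorem mod_lt_of_dvd_choose (m k r : ℕ) (hr : r.Prime) (hk : 1 ≤ k) (h2k : 2 * k ≤ m) (hkr : k < r)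
    (hd : r ∣ m.choose k) : m % r < k ∧ r ≤ m := by
  have h1 : r ∣ m.descFactorial k := by
    rw [Nat.descFactorial_eq_factorial_mul_choose]
    exact Dvd.dvd.mul_left hd _
  rw [Nat.descFactorial_eq_prod_range] at h1
  obtain ⟨i, hi, hdi⟩ := (Prime.dvd_finsetProd_iff hr.prime _).mp h1
  rw [Finset.mem_range] at hi
  have him : i < m := by omega
  obtain ⟨c, hc⟩ := hdi
  have hcpos : 0 < c := by
    rcases Nat.eq_zero_or_pos c with h | h
    · rw [h, mul_zero] at hc; omega
    · exact h
  have hm_eq : m = i + r * c := by omega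
  refine ⟨?_, ?_⟩
  · rw [hm_eq, Nat.add_mul_mod_self_left, Nat.mod_eq_of_lt (by omega)]
    exact hi
  · have : r ≤ r * c := Nat.le_mul_of_pos_right r hcpos
    omega

theorem zpow_apply_mem_iff {α : Type*} (g : Perm α) (S : Finset α) (hS : ∀ z, g z ∈ S ↔ z ∈ S) :
    ∀ n : ℤ, ∀ z, (g ^ n) z ∈ S ↔ z ∈ S := by
  intro n
  induction n using Int.induction_on with
  | zero => intro z; simp
  | succ i ih => intro z; rw [zpow_add_one, Perm.mul_apply, ih, hS]
  | pred i ih =>
    intro z
    rw [zpow_sub_one, Perm.mul_apply, ih]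
    have := hS (g⁻¹ z)
    have h2 : g (g⁻¹ z) = z := by simp
    rw [h2] at this
    exact this.symm

/-- a permutation of prime order `r` stabilizing a set with fewer than `r` elements fixes it
pointwise. -/
theorem card_add_card_support_le {m : ℕ} (g : Perm (Fin m)) (r : ℕ) (hr : r.Prime)
    (hord : orderOf g = r) (S : Finset (Fin m)) (hS : ∀ z, g z ∈ S ↔ z ∈ S) (hk : S.card < r) :
    S.card + g.support.card ≤ m := by
  classical
  have hsub : S ⊆ g.supportᶜ := by
    intro s hs
    rw [Finset.mem_compl, Perm.mem_support, not_not]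
    by_contra hne
    have hcyc := Perm.isCycle_cycleOf g hne
    have hdvd : orderOf (g.cycleOf s) ∣ r := hord ▸ Perm.orderOf_cycleOf_dvd_orderOf g s
    have hcard : (g.cycleOf s).support.card = r := by
      rw [← hcyc.orderOf]
      rcases (Nat.dvd_prime hr).mp hdvd with h | h
      · exfalso
        have := hcyc.two_le_card_support
        rw [← hcyc.orderOf, h] at this
        omega
      · exact h
    have hsubS : (g.cycleOf s).support ⊆ S := by
      intro y hy
      rw [Perm.mem_support_cycleOf_iff] at hy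
      obtain ⟨n, hn⟩ := hy.1
      rw [← hn]
      exact (zpow_apply_mem_iff g S hS n s).mpr hs
    have := Finset.card_le_card hsubS
    omega
  have h1 := Finset.card_le_card hsub
  rw [Finset.card_compl, Fintype.card_fin] at h1
  have h2 : g.support.card ≤ m := by
    have := Finset.card_le_univ g.support
    rwa [Fintype.card_fin] at this
  omega

theorem smul_finset_eq_iff {α : Type*} [DecidableEq α] (g : Perm α) (S : Finset α) :
    g • S = S ↔ ∀ z, g z ∈ S ↔ z ∈ S := by
  constructor
  · intro h z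
    have := Finset.smul_mem_smul_finset_iff (s := S) (b := z) g
    rw [h] at this
    exact this
  · intro hS
    ext y
    rw [← Finset.inv_smul_mem_iff, ← hS (g⁻¹ • y)]
    simp

/-- an intransitive subgroup has an invariant set of size `1 ≤ k ≤ m/2`. -/
theorem exists_invariant_finset {m : ℕ} (H' : Subgroup (Perm (Fin m)))
    (hnt : ¬ MulAction.IsPretransitive H' (Fin m)) :
    ∃ S : Finset (Fin m), 1 ≤ S.card ∧ 2 * S.card ≤ m ∧ ∀ h ∈ H', ∀ z, h z ∈ S ↔ z ∈ S := by
  classical
  have h1 : ¬ ∀ x y : Fin m, ∃ g : H', g • x = y := fun h => hnt ⟨h⟩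
  push Not at h1
  obtain ⟨x, y, hxy⟩ := h1
  let S₀ : Finset (Fin m) := Finset.univ.filter (fun z => ∃ h ∈ H', h x = z)
  have hS₀ : ∀ h ∈ H', ∀ z, h z ∈ S₀ ↔ z ∈ S₀ := by
    intro h hh z
    simp only [S₀, Finset.mem_filter, Finset.mem_univ, true_and]
    constructor
    · rintro ⟨h', hh', he⟩
      refine ⟨h⁻¹ * h', H'.mul_mem (H'.inv_mem hh) hh', ?_⟩
      rw [Perm.mul_apply, he]
      simp
    · rintro ⟨h', hh', he⟩
      refine ⟨h * h', H'.mul_mem hh hh', ?_⟩
      rw [Perm.mul_apply, he]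
  have hx : x ∈ S₀ := by
    simp only [S₀, Finset.mem_filter, Finset.mem_univ, true_and]
    exact ⟨1, H'.one_mem, rfl⟩
  have hy : y ∉ S₀ := by
    simp only [S₀, Finset.mem_filter, Finset.mem_univ, true_and]
    rintro ⟨h, hh, he⟩
    exact hxy ⟨h, hh⟩ he
  have hc1 : 1 ≤ S₀.card := Finset.card_pos.mpr ⟨x, hx⟩
  have hc2 : S₀.card < m := by
    have : S₀.card < (Finset.univ : Finset (Fin m)).card :=
      Finset.card_lt_card ⟨Finset.subset_univ _, fun h => hy (h (Finset.mem_univ y))⟩
    simpa using this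
  by_cases h2 : 2 * S₀.card ≤ m
  · exact ⟨S₀, hc1, h2, hS₀⟩
  · refine ⟨S₀ᶜ, ?_, ?_, ?_⟩
    · rw [Finset.card_compl, Fintype.card_fin]; omega
    · rw [Finset.card_compl, Fintype.card_fin]; omega
    · intro h hh z
      rw [Finset.mem_compl, Finset.mem_compl, hS₀ h hh z]


theorem three_cycle_mem_alternatingGroup {m : ℕ} (a b c : Fin m) (hab : a ≠ b) (hbc : b ≠ c) :
    swap a b * swap b c ∈ alternatingGroup (Fin m) := by
  rw [Perm.mem_alternatingGroup, Perm.sign_mul, Perm.sign_swap hab, Perm.sign_swap hbc]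
  decide

theorem relIndex_eq_choose {m : ℕ} (hm : 5 ≤ m) (G' H' : Subgroup (Perm (Fin m)))
    (hA : alternatingGroup (Fin m) ≤ G') (hHG : H' ≤ G')
    (hmaxH : ∀ K : Subgroup (Perm (Fin m)), H' ≤ K → K ≤ G' → K = H' ∨ K = G')
    (S : Finset (Fin m)) (hk1 : 1 ≤ S.card) (hk2 : 2 * S.card ≤ m)
    (hS : ∀ h ∈ H', ∀ z, h z ∈ S ↔ z ∈ S) :
    H'.relIndex G' = m.choose S.card := by
  classical
  let s0 : Set.powersetCard (Fin m) S.card := ⟨S, rfl⟩
  let K : Subgroup (Perm (Fin m)) := (MulAction.stabilizer ↥G' s0).map G'.subtype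
  have hKG : K ≤ G' := Subgroup.map_subtype_le _
  have hmemK : ∀ g : Perm (Fin m), g ∈ K ↔ g ∈ G' ∧ ∀ z, g z ∈ S ↔ z ∈ S := by
    intro g
    constructor
    · rintro ⟨u, hu, rfl⟩
      refine ⟨u.2, ?_⟩
      rw [SetLike.mem_coe, MulAction.mem_stabilizer_iff] at hu
      have h2 : ((u : Perm (Fin m)) • S : Finset (Fin m)) = S :=
        (Set.powersetCard.coe_smul (g := u) (s := s0)).symm.trans (congrArg Subtype.val hu)
      exact (smul_finset_eq_iff (u : Perm (Fin m)) S).mp h2
    · rintro ⟨hg, hgS⟩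
      refine ⟨⟨g, hg⟩, ?_, rfl⟩
      rw [SetLike.mem_coe, MulAction.mem_stabilizer_iff]
      apply Subtype.ext
      exact (Set.powersetCard.coe_smul (g := (⟨g, hg⟩ : ↥G')) (s := s0)).trans
        ((smul_finset_eq_iff g S).mpr hgS)
  have hHK : H' ≤ K := fun h hh => (hmemK h).mpr ⟨hHG hh, hS h hh⟩
  have hKne : K ≠ G' := by
    obtain ⟨a, ha⟩ := Finset.card_pos.mp hk1
    have hlt : S.card < (Finset.univ : Finset (Fin m)).card := by
      rw [Finset.card_univ, Fintype.card_fin]; omega
    obtain ⟨b, -, hb⟩ := Finset.exists_mem_notMem_of_card_lt_card hlt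
    have hab : a ≠ b := fun h => hb (h ▸ ha)
    have h3 : ({a, b} : Finset (Fin m)).card < (Finset.univ : Finset (Fin m)).card := by
      rw [Finset.card_univ, Fintype.card_fin]
      have := Finset.card_le_two (a := a) (b := b)
      omega
    obtain ⟨c, -, hc⟩ := Finset.exists_mem_notMem_of_card_lt_card h3
    have hca : c ≠ a := fun h => hc (by rw [h]; simp)
    have hcb : c ≠ b := fun h => hc (by rw [h]; simp)
    intro hKG'
    have ht : swap a b * swap b c ∈ K := by
      rw [hKG']
      exact hA (three_cycle_mem_alternatingGroup a b c hab (Ne.symm hcb))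
    have h4 := ((hmemK _).mp ht).2 a
    rw [Perm.mul_apply, swap_apply_of_ne_of_ne hab (Ne.symm hca), swap_apply_left] at h4
    exact hb (h4.mpr ha)
  have hKH : K = H' := (hmaxH K hHK hKG).resolve_right hKne
  have hstab : H'.subgroupOf G' = MulAction.stabilizer ↥G' s0 := by
    rw [← hKH]
    exact Subgroup.comap_map_eq_self_of_injective (Subgroup.subtype_injective G') _
  have htr : MulAction.IsPretransitive ↥G' (Set.powersetCard (Fin m) S.card) := by
    have h0 : MulAction.IsPretransitive (alternatingGroup (Fin m))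
        (Set.powersetCard (Fin m) S.card) :=
      Set.powersetCard.isPretransitive_alternatingGroup (by rw [Nat.card_fin]; omega)
    refine ⟨fun s t => ?_⟩
    obtain ⟨u, hu⟩ := h0.exists_smul_eq s t
    refine ⟨⟨u.1, hA u.2⟩, ?_⟩
    rw [← hu]
    apply Subtype.ext
    exact (Set.powersetCard.coe_smul (g := (⟨u.1, hA u.2⟩ : ↥G')) (s := s)).trans
      (Set.powersetCard.coe_smul (g := u) (s := s)).symm
  rw [Subgroup.relIndex, hstab, MulAction.index_stabilizer_of_transitive, Set.powersetCard.card,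
    Nat.card_fin]


theorem exists_perm_of_order {m r : ℕ} (hr : r.Prime) (hrm : r ≤ m) (heven : r = 2 → 4 ∣ m) :
    ∃ g : Perm (Fin m), g ∈ alternatingGroup (Fin m) ∧ orderOf g = r ∧
      g.support.card = (m / r) * r := by
  have hq : 1 ≤ m / r := (Nat.one_le_div_iff hr.pos).mpr hrm
  obtain ⟨g, hg⟩ := (Equiv.Perm.exists_with_cycleType_iff (α := Fin m)
    (m := Multiset.replicate (m / r) r)).mpr ⟨by
      rw [Multiset.sum_replicate, Fintype.card_fin, smul_eq_mul]
      exact Nat.div_mul_le_self m r, fun a ha => by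
      rw [Multiset.eq_of_mem_replicate ha]; exact hr.two_le⟩
  have hne : g ≠ 1 := by
    intro h
    have h0 := Perm.cycleType_eq_zero.mpr h
    rw [hg] at h0
    have := congrArg Multiset.card h0
    rw [Multiset.card_replicate, Multiset.card_zero] at this
    omega
  refine ⟨g, ?_, ?_, ?_⟩
  · rw [Perm.mem_alternatingGroup, Perm.sign_of_cycleType, hg, Multiset.sum_replicate,
      Multiset.card_replicate, smul_eq_mul]
    have hev : Even (m / r * r + m / r) := by
      rcases hr.eq_two_or_odd' with h2 | hodd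
      · obtain ⟨c, hc⟩ := heven h2
        subst h2
        have : m / 2 = 2 * c := by omega
        rw [this]
        exact ⟨2 * c + c, by ring⟩
      · obtain ⟨c, hc⟩ := hodd
        rw [hc]
        exact ⟨m / (2 * c + 1) * (c + 1), by ring⟩
    exact hev.neg_one_pow
  · have hdvd : orderOf g ∣ r := by
      rw [← Perm.lcm_cycleType, hg]
      apply Multiset.lcm_dvd.mpr
      intro a ha
      rw [Multiset.eq_of_mem_replicate ha]
    rcases (Nat.dvd_prime hr).mp hdvd with h | h
    · exact absurd (orderOf_eq_one_iff.mp h) hne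
    · exact h
  · rw [← Perm.sum_cycleType, hg, Multiset.sum_replicate, smul_eq_mul]


theorem intrans_case_aux
    (SS : ∀ n k : ℕ, 1 ≤ k → 2 * k ≤ n → ∃ p, p.Prime ∧ k < p ∧ p ∣ n.choose k)
    {m : ℕ} (hm : 5 ≤ m) (G' H' : Subgroup (Perm (Fin m)))
    (hA : alternatingGroup (Fin m) ≤ G') (hHG : H' ≤ G')
    (hmaxH : ∀ K : Subgroup (Perm (Fin m)), H' ≤ K → K ≤ G' → K = H' ∨ K = G')
    (hnt : ¬ MulAction.IsPretransitive H' (Fin m))
    (r : ℕ) (hr : r.Prime) (hrd : r ∣ H'.relIndex G')
    (hmax : ∀ s : ℕ, s.Prime → s ∣ H'.relIndex G' → s ≤ r) :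
    ∃ g ∈ G', orderOf g = r ∧ ∀ x ∈ G', x⁻¹ * g * x ∉ H' := by
  obtain ⟨S, hk1, hk2, hS⟩ := exists_invariant_finset H' hnt
  have hidx := relIndex_eq_choose hm G' H' hA hHG hmaxH S hk1 hk2 hS
  rw [hidx] at hrd hmax
  obtain ⟨q, hq, hkq, hqd⟩ := SS m S.card hk1 hk2
  have hkr : S.card < r := lt_of_lt_of_le hkq (hmax q hq hqd)
  obtain ⟨hmod, hrm⟩ := mod_lt_of_dvd_choose m S.card r hr hk1 hk2 hkr hrd
  have heven : r = 2 → 4 ∣ m := by
    intro h2
    subst h2
    have hk : S.card = 1 := by omega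
    rw [hk, Nat.choose_one_right] at hmax
    have hpow : m = 2 ^ m.primeFactorsList.length := by
      apply Nat.eq_prime_pow_of_unique_prime_dvd (by omega)
      intro d hd hdm
      have h1 := hmax d hd hdm
      have h2 := hd.two_le
      omega
    have h3 : 2 ≤ m.primeFactorsList.length := by
      by_contra h
      push Not at h
      have h4 : m.primeFactorsList.length = 0 ∨ m.primeFactorsList.length = 1 := by omega
      rcases h4 with h4 | h4 <;> rw [h4] at hpow <;> omega
    rw [hpow]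
    exact pow_dvd_pow 2 h3
  obtain ⟨g, hgA, hord, hsupp⟩ := exists_perm_of_order hr hrm heven
  refine ⟨g, hA hgA, hord, ?_⟩
  intro x _ hmem
  have hS' := hS _ hmem
  have hord' : orderOf (x⁻¹ * g * x) = r := by
    have := (MulAut.conj x⁻¹).orderOf_eq g
    rw [MulAut.conj_apply, inv_inv] at this
    rw [this, hord]
  have hsupp' : (x⁻¹ * g * x).support.card = m / r * r := by
    have := Perm.card_support_conj (σ := x⁻¹) (τ := g)
    rw [inv_inv] at this
    rw [this, hsupp]
  have h5 := card_add_card_support_le (x⁻¹ * g * x) r hr hord' S hS' hkr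
  rw [hsupp'] at h5
  have h6 := Nat.div_add_mod m r
  rw [mul_comm] at h6
  omega

end Cfsg.Agent.Lib.Helper2.S3571Intrans

namespace Cfsg.Agent.Lib.S3571

open Equiv

set_option linter.unusedVariables false in
/-- Package INTRANS of S3571: the point stabiliser `H'` is intransitive on `Fin m`.
The Sylvester–Schur theorem enters as the explicit first hypothesis `SS`. -/
theorem intrans_case
    (SS : ∀ n k : ℕ, 1 ≤ k → 2 * k ≤ n → ∃ p, p.Prime ∧ k < p ∧ p ∣ n.choose k)
    {m : ℕ} (hm : 5 ≤ m) (G' H' : Subgroup (Perm (Fin m)))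
    (hA : alternatingGroup (Fin m) ≤ G') (hHG : H' ≤ G')
    (hmaxH : ∀ K : Subgroup (Perm (Fin m)), H' ≤ K → K ≤ G' → K = H' ∨ K = G') (hne : H' ≠ G')
    (hnt : ¬ MulAction.IsPretransitive H' (Fin m))
    (r : ℕ) (hr : r.Prime) (hrd : r ∣ H'.relIndex G')
    (hmax : ∀ s : ℕ, s.Prime → s ∣ H'.relIndex G' → s ≤ r) :
    ∃ g ∈ G', orderOf g = r ∧ ∀ x ∈ G', x⁻¹ * g * x ∉ H' :=
  Cfsg.Agent.Lib.Helper2.S3571Intrans.intrans_case_aux SS hm G' H' hA hHG hmaxH hnt r hr hrd hmax

end Cfsg.Agent.Lib.S3571
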