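import Mathlib
import Cfsg.Agent.Lib.Helper2.ZP14

set_option autoImplicit false
set_option linter.style.haveILetI false
set_option linter.unusedSectionVars false

/-!
# The two-point stabilizer is cyclic when the points are coordinatized by a field
-/

namespace Cfsg.Agent.Lib.Helper2.S3T

open MulAction Cfsg.Agent.Lib.Helper2.ZP Cfsg.Agent.Lib.Lead.Zass

variable {G Ω : Type*} [Group G] [MulAction G Ω] {a b : Ω} {F : Subgroup G}

/-- the two-point stabilizer embeds in the multiplicative group of the coordinatizing field -/
theorem isCyclic_of_coord [Finite G] (hfaith : ∀ g : G, (∀ x : Ω, g • x = x) → g = 1)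
    {K : Type*} [Field K] {ι : K → Ω} (C : Coord a b F ι) :
    IsCyclic ↥(stabilizer G a ⊓ stabilizer G b : Subgroup G) := by
  classical
  have hEa : ∀ h : ↥(stabilizer G a ⊓ stabilizer G b : Subgroup G), (h : G) • a = a :=
    fun h => ((mem_H_iff a b _).mp h.2).1
  have hEb : ∀ h : ↥(stabilizer G a ⊓ stabilizer G b : Subgroup G), (h : G) • b = b :=
    fun h => ((mem_H_iff a b _).mp h.2).2
  have hex : ∀ h : ↥(stabilizer G a ⊓ stabilizer G b : Subgroup G),
      ∃ s : K, ∀ x, (h : G) • ι x = ι (s * x) := by
    intro h
    obtain ⟨r, -, hr⟩ := C.E_act h (hEa h) (hEb h)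
    exact ⟨r * r, hr⟩
  choose f hf using hex
  have hf1 : ∀ (h : ↥(stabilizer G a ⊓ stabilizer G b : Subgroup G)) (s : K),
      (h : G) • ι 1 = ι s → f h = s := by
    intro h s hs
    have := hf h 1
    rw [hs, mul_one] at this
    exact (C.inj this).symm
  let φ : ↥(stabilizer G a ⊓ stabilizer G b : Subgroup G) →* K :=
    { toFun := f
      map_one' := by
        apply hf1
        rw [Subgroup.coe_one, one_smul]
      map_mul' := by
        intro h k
        apply hf1
        rw [Subgroup.coe_mul, mul_smul, hf k, hf h, mul_one] }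
  have hinj : Function.Injective φ := by
    rw [injective_iff_map_eq_one]
    intro h hh
    apply Subtype.ext
    apply hfaith
    intro c
    rcases C.cover c with rfl | ⟨x, rfl⟩
    · exact hEa h
    · have : f h = 1 := hh
      rw [hf h, this, one_mul]
  exact isCyclic_of_subgroup_isDomain φ hinj

end Cfsg.Agent.Lib.Helper2.S3T
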