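import Mathlib
import Cfsg.Prelude.Def_Classical
import Cfsg.Prelude.Def_ClassicalGeometry

set_option autoImplicit false

namespace Cfsg.Agent.Lib.Helper2

namespace S4O3

open Matrix

/-- the index type of the three-dimensional form -/
abbrev I3 := Unit ⊕ (Fin 1 ⊕ Fin 1)

/-- a standard basis of the sum-zero vectors of `F₃⁴` for the form `- Σ vᵢ²` -/
def bv : I3 → Fin 4 → ZMod 3 :=
  Sum.elim (fun _ => ![1,-1,0,0]) (Sum.elim (fun _ => ![1,1,1,0]) (fun _ => ![-1,-1,0,-1]))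

/-- the dual basis -/
def dv : I3 → Fin 4 → ZMod 3 :=
  Sum.elim (fun _ => ![-1,1,0,0]) (Sum.elim (fun _ => ![-1,-1,0,-1]) (fun _ => ![1,1,1,0]))

/-- the inclusion of the three-dimensional space -/
def A : Matrix (Fin 4) I3 (ZMod 3) := Matrix.of fun i j => bv j i

/-- the projection to the three-dimensional space -/
def B : Matrix I3 (Fin 4) (ZMod 3) := Matrix.of fun j i => dv j i

set_option maxRecDepth 100000 in
theorem BA : B * A = 1 := by decide

set_option maxRecDepth 100000 in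
theorem AB : ∀ v : Fin 4 → ZMod 3, ∑ i, v i = 0 → A *ᵥ (B *ᵥ v) = v := by decide

set_option maxRecDepth 100000 in
theorem sumA : ∀ c : I3 → ZMod 3, ∑ i, (A *ᵥ c) i = 0 := by decide

/-- the three-dimensional representation of a permutation (without sign twist) -/
def R (π : Equiv.Perm (Fin 4)) : Matrix I3 I3 (ZMod 3) :=
  B * A.submatrix (fun i => π⁻¹ i) id

theorem submatrix_mulVec (f : Fin 4 → Fin 4) (c : I3 → ZMod 3) :
    (A.submatrix f id) *ᵥ c = (A *ᵥ c) ∘ f := by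
  funext i
  simp [Matrix.mulVec, dotProduct, Matrix.submatrix]

theorem R_mulVec (π : Equiv.Perm (Fin 4)) (c : I3 → ZMod 3) :
    R π *ᵥ c = B *ᵥ ((A *ᵥ c) ∘ (fun i => π⁻¹ i)) := by
  unfold R
  rw [← Matrix.mulVec_mulVec, submatrix_mulVec]

theorem sum_comp_perm (π : Equiv.Perm (Fin 4)) (v : Fin 4 → ZMod 3) :
    ∑ i, (v ∘ (fun i => π⁻¹ i)) i = ∑ i, v i :=
  Equiv.sum_comp (π⁻¹ : Equiv.Perm (Fin 4)) v

theorem R_mul (π σ : Equiv.Perm (Fin 4)) : R (π * σ) = R π * R σ := by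
  apply Matrix.toLin'.injective
  apply LinearMap.ext
  intro c
  rw [Matrix.toLin'_apply, Matrix.toLin'_apply, ← Matrix.mulVec_mulVec, R_mulVec, R_mulVec,
    R_mulVec]
  have h0 : ∑ i, ((A *ᵥ c) ∘ (fun i => σ⁻¹ i)) i = 0 := by
    rw [sum_comp_perm, sumA]
  rw [AB _ h0]
  congr 1

theorem R_one : R 1 = 1 := by
  unfold R
  have : A.submatrix (fun i => (1 : Equiv.Perm (Fin 4))⁻¹ i) id = A := by
    ext i j
    simp
  rw [this, BA]

/-- the representation into `GL₃(3)` (without sign twist) -/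
def R0 : Equiv.Perm (Fin 4) →* Matrix.GeneralLinearGroup I3 (ZMod 3) where
  toFun π := ⟨R π, R π⁻¹, by rw [← R_mul, mul_inv_cancel, R_one],
    by rw [← R_mul, inv_mul_cancel, R_one]⟩
  map_one' := Units.ext R_one
  map_mul' π σ := Units.ext (R_mul π σ)

set_option maxRecDepth 100000 in
theorem Q_rot : ∀ c : I3 → ZMod 3,
    Cfsg.quadFormOdd 1 (ZMod 3) (R (finRotate 4) *ᵥ c) = Cfsg.quadFormOdd 1 (ZMod 3) c := by
  decide

set_option maxRecDepth 100000 in
theorem Q_swap : ∀ c : I3 → ZMod 3,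
    Cfsg.quadFormOdd 1 (ZMod 3) (R (Equiv.swap 0 1) *ᵥ c) = Cfsg.quadFormOdd 1 (ZMod 3) c := by
  decide

set_option maxRecDepth 100000 in
theorem det_rot : (R (finRotate 4)).det = -1 := by decide

set_option maxRecDepth 100000 in
theorem det_swap : (R (Equiv.swap 0 1)).det = -1 := by decide

theorem closure_gens :
    Subgroup.closure ({finRotate 4, Equiv.swap 0 ((finRotate 4) 0)} : Set (Equiv.Perm (Fin 4))) = ⊤ :=
  Equiv.Perm.closure_cycle_adjacent_swap (isCycle_finRotate (n := 2)) (support_finRotate (n := 2)) 0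

theorem rot_zero : (finRotate 4) 0 = 1 := by decide

theorem R0_mem (π : Equiv.Perm (Fin 4)) :
    R0 π ∈ Cfsg.isometryGroup (ZMod 3) (Cfsg.quadFormOdd 1 (ZMod 3)) := by
  have hH : (Cfsg.isometryGroup (ZMod 3) (Cfsg.quadFormOdd 1 (ZMod 3))).comap R0 = ⊤ := by
    rw [eq_top_iff, ← closure_gens, Subgroup.closure_le]
    intro g hg
    rw [Set.mem_insert_iff, Set.mem_singleton_iff] at hg
    rw [SetLike.mem_coe, Subgroup.mem_comap]
    rcases hg with rfl | rfl
    · intro u _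
      exact Q_rot u
    · intro u _
      show Cfsg.quadFormOdd 1 (ZMod 3) (R (Equiv.swap 0 ((finRotate 4) 0)) *ᵥ u) =
        Cfsg.quadFormOdd 1 (ZMod 3) u
      rw [rot_zero]
      exact Q_swap u
  have : π ∈ (Cfsg.isometryGroup (ZMod 3) (Cfsg.quadFormOdd 1 (ZMod 3))).comap R0 := by
    rw [hH]; trivial
  exact this

end S4O3

end Cfsg.Agent.Lib.Helper2
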