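import Mathlib
import Cfsg.Prelude.Def_Classical
import Cfsg.Prelude.Def_ClassicalGeometry
import Cfsg.Agent.Lib.Helper2.S4O3a
import Cfsg.Agent.Lib.Helper2.OrthCard4

set_option autoImplicit false

namespace Cfsg.Agent.Lib.Helper2

namespace S4O3

open Matrix

/-- the sign of a permutation as a unit of `ZMod 3` -/
def sgU : Equiv.Perm (Fin 4) →* (ZMod 3)ˣ :=
  (Units.map (Int.castRingHom (ZMod 3)).toMonoidHom).comp Equiv.Perm.sign

theorem sgU_sq (π : Equiv.Perm (Fin 4)) : sgU π * sgU π = 1 := by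
  rw [← map_mul]
  have : π * π ∈ sgU.ker := by
    rw [MonoidHom.mem_ker]
    unfold sgU
    rw [MonoidHom.comp_apply, map_mul, Int.units_mul_self, map_one]
  exact this

theorem det_R0 : Matrix.GeneralLinearGroup.det.comp R0 = sgU := by
  apply MonoidHom.eq_of_eqOn_dense closure_gens
  intro g hg
  rw [Set.mem_insert_iff, Set.mem_singleton_iff] at hg
  rcases hg with rfl | rfl
  · apply Units.ext
    show (R (finRotate 4)).det = ((sgU (finRotate 4) : (ZMod 3)ˣ) : ZMod 3)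
    rw [det_rot]
    unfold sgU
    rw [MonoidHom.comp_apply, sign_finRotate]
    simp
  · apply Units.ext
    show (R (Equiv.swap 0 ((finRotate 4) 0))).det =
      ((sgU (Equiv.swap 0 ((finRotate 4) 0)) : (ZMod 3)ˣ) : ZMod 3)
    rw [rot_zero, det_swap]
    unfold sgU
    rw [MonoidHom.comp_apply, Equiv.Perm.sign_swap (by decide)]
    simp

/-- the twisted representation -/
def rho0 : Equiv.Perm (Fin 4) →* Matrix.GeneralLinearGroup I3 (ZMod 3) where
  toFun π := Matrix.GeneralLinearGroup.scalar I3 (sgU π) * R0 π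
  map_one' := by simp
  map_mul' π σ := by
    rw [map_mul, map_mul, map_mul]
    rw [mul_assoc, mul_assoc]
    congr 1
    rw [← mul_assoc, ← mul_assoc]
    congr 1
    exact Matrix.GeneralLinearGroup.scalar_commute _ _

theorem odd_smul (ε : ZMod 3) (v : I3 → ZMod 3) :
    Cfsg.quadFormOdd 1 (ZMod 3) (ε • v) = (ε * ε) * Cfsg.quadFormOdd 1 (ZMod 3) v := by
  unfold Cfsg.quadFormOdd
  simp only [Pi.smul_apply, smul_eq_mul, Finset.univ_unique, Finset.sum_singleton]
  ring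

theorem rho0_mem (π : Equiv.Perm (Fin 4)) :
    rho0 π ∈ Cfsg.isometryGroup (ZMod 3) (Cfsg.quadFormOdd 1 (ZMod 3)) := by
  intro u _
  show Cfsg.quadFormOdd 1 (ZMod 3)
    (((Matrix.GeneralLinearGroup.scalar I3 (sgU π) * R0 π : Matrix.GeneralLinearGroup I3 (ZMod 3)) :
      Matrix I3 I3 (ZMod 3)) *ᵥ u) = Cfsg.quadFormOdd 1 (ZMod 3) u
  rw [Units.val_mul, Matrix.GeneralLinearGroup.coe_scalar, ← Matrix.mulVec_mulVec]
  have h1 : Matrix.scalar I3 ((sgU π : (ZMod 3)ˣ) : ZMod 3) *ᵥ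
      (((R0 π : Matrix.GeneralLinearGroup I3 (ZMod 3)) : Matrix I3 I3 (ZMod 3)) *ᵥ u) =
      ((sgU π : (ZMod 3)ˣ) : ZMod 3) •
        (((R0 π : Matrix.GeneralLinearGroup I3 (ZMod 3)) : Matrix I3 I3 (ZMod 3)) *ᵥ u) := by
    rw [Matrix.scalar_apply, ← Matrix.smul_one_eq_diagonal, Matrix.smul_mulVec, Matrix.one_mulVec]
  rw [h1, odd_smul]
  have h2 : ((sgU π : (ZMod 3)ˣ) : ZMod 3) * ((sgU π : (ZMod 3)ˣ) : ZMod 3) = 1 := by
    rw [← Units.val_mul, sgU_sq, Units.val_one]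
  rw [h2, one_mul]
  exact R0_mem π u u

theorem det_rho0 (π : Equiv.Perm (Fin 4)) : Matrix.GeneralLinearGroup.det (rho0 π) = 1 := by
  show Matrix.GeneralLinearGroup.det (Matrix.GeneralLinearGroup.scalar I3 (sgU π) * R0 π) = 1
  rw [map_mul, Matrix.GeneralLinearGroup.det_scalar]
  have h := DFunLike.congr_fun det_R0 π
  rw [MonoidHom.comp_apply] at h
  rw [h]
  have hc : Fintype.card I3 = 3 := by decide
  rw [hc, pow_succ, pow_two, sgU_sq, one_mul, sgU_sq]

/-- the representation into `SO₃(3)` -/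
def rho : Equiv.Perm (Fin 4) →*
    ↥(Cfsg.specialIsometryGroup (ZMod 3) (Cfsg.quadFormOdd 1 (ZMod 3))) where
  toFun π := ⟨⟨rho0 π, rho0_mem π⟩, det_rho0 π⟩
  map_one' := by
    apply Subtype.ext
    apply Subtype.ext
    exact map_one rho0
  map_mul' π σ := by
    apply Subtype.ext
    apply Subtype.ext
    exact map_mul rho0 π σ

set_option maxRecDepth 100000 in
theorem inj_aux : ∀ π : Equiv.Perm (Fin 4), (R π = 1 ∨ R π = -1) → π = 1 := by decide

end S4O3

end Cfsg.Agent.Lib.Helper2
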