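import Mathlib
import Cfsg.Prelude.Def_Classical
import Cfsg.Prelude.Def_ClassicalGeometry
import Cfsg.Agent.Lib.Helper2.S4O3b

set_option autoImplicit false

namespace Cfsg.Agent.Lib.Helper2

namespace S4O3

open Matrix

theorem sgU_cases (π : Equiv.Perm (Fin 4)) : sgU π = 1 ∨ sgU π = -1 := by
  unfold sgU
  rw [MonoidHom.comp_apply]
  rcases Int.units_eq_one_or (Equiv.Perm.sign π) with h | h
  · left
    rw [h, map_one]
  · right
    rw [h]
    apply Units.ext
    simp

theorem rho_injective : Function.Injective rho := by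
  rw [injective_iff_map_eq_one]
  intro π h
  have h1 : rho0 π = 1 := by
    have := congrArg (fun x : ↥(Cfsg.specialIsometryGroup (ZMod 3) (Cfsg.quadFormOdd 1 (ZMod 3))) =>
      ((x : ↥(Cfsg.isometryGroup (ZMod 3) (Cfsg.quadFormOdd 1 (ZMod 3)))) :
      Matrix.GeneralLinearGroup I3 (ZMod 3))) h
    exact this
  have h2 : Matrix.scalar I3 ((sgU π : (ZMod 3)ˣ) : ZMod 3) * R π = 1 := by
    have := congrArg (fun x : Matrix.GeneralLinearGroup I3 (ZMod 3) => (x : Matrix I3 I3 (ZMod 3))) h1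
    exact this
  apply inj_aux
  rcases sgU_cases π with h3 | h3
  · left
    rw [h3] at h2
    simpa using h2
  · right
    rw [h3] at h2
    have h4 : -(R π) = 1 := by
      have h5 : Matrix.scalar I3 (((-1 : (ZMod 3)ˣ) : (ZMod 3)ˣ) : ZMod 3) = -1 := by
        rw [Matrix.scalar_apply, ← Matrix.smul_one_eq_diagonal]
        simp
      rw [h5] at h2
      simpa using h2
    rw [← h4, neg_neg]

theorem card_O33 : Nat.card ↥(Cfsg.isometryGroup (ZMod 3) (Cfsg.quadFormOdd 1 (ZMod 3))) = 48 := by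
  rw [OrthCard.card_odd (F := ZMod 3) (by decide) (by rw [ZMod.card]; decide) 1]
  rw [ZMod.card]
  decide

theorem card_units : Nat.card (ZMod 3)ˣ = 2 := by
  rw [Nat.card_eq_fintype_card]
  decide

theorem card_SO33 :
    Nat.card ↥(Cfsg.specialIsometryGroup (ZMod 3) (Cfsg.quadFormOdd 1 (ZMod 3))) = 24 := by
  have h1 := Subgroup.card_mul_index
    (Cfsg.specialIsometryGroup (ZMod 3) (Cfsg.quadFormOdd 1 (ZMod 3)))
  rw [card_O33] at h1
  have h2 : (Cfsg.specialIsometryGroup (ZMod 3) (Cfsg.quadFormOdd 1 (ZMod 3))).index = 2 := by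
    unfold Cfsg.specialIsometryGroup
    rw [Subgroup.index_ker]
    apply le_antisymm
    · rw [← card_units]
      exact Subgroup.card_le_card_group _
    · rw [Nat.succ_le_iff, Finite.one_lt_card_iff_nontrivial]
      refine ⟨⟨1, one_mem _⟩, ⟨Matrix.GeneralLinearGroup.det (R0 (Equiv.swap 0 1)),
        ⟨⟨R0 (Equiv.swap 0 1), R0_mem _⟩, rfl⟩⟩, ?_⟩
      intro h
      have h' := congrArg (fun x : ↥(Matrix.GeneralLinearGroup.det.comp
        (Cfsg.isometryGroup (ZMod 3) (Cfsg.quadFormOdd 1 (ZMod 3))).subtype).range =>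
          (((x : (ZMod 3)ˣ)) : ZMod 3)) h
      have h'' : (1 : ZMod 3) = (R (Equiv.swap 0 1)).det := h'
      rw [det_swap] at h''
      revert h''
      decide
  rw [h2] at h1
  omega

theorem rho_bijective : Function.Bijective rho := by
  apply Function.Injective.bijective_of_nat_card_le rho_injective
  rw [card_SO33, Nat.card_perm, Nat.card_eq_fintype_card, Fintype.card_fin]
  decide

theorem equiv_zmod3 :
    Nonempty (↥(Cfsg.specialIsometryGroup (ZMod 3) (Cfsg.quadFormOdd 1 (ZMod 3))) ≃*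
      Equiv.Perm (Fin 4)) :=
  ⟨(MulEquiv.ofBijective rho rho_bijective).symm⟩

end S4O3

end Cfsg.Agent.Lib.Helper2
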