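import Mathlib
import Cfsg.Prelude.Def_Classical
import Cfsg.Prelude.Def_ClassicalGeometry

set_option autoImplicit false

namespace Cfsg.Agent.Lib.Helper2

namespace S6O4

open Matrix

/-- the index type of the four-dimensional minus-type form -/
abbrev I4 := (Fin 1 ⊕ Fin 1) ⊕ Fin 2

/-- a standard basis of the sum-zero vectors of `F₃⁶` modulo the all-ones vector
for the form `Σ vᵢ²` -/
def bv : I4 → Fin 6 → ZMod 3 :=
  Sum.elim (Sum.elim (fun _ => ![0,0,0,1,1,1]) (fun _ => ![0,0,1,0,1,1]))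
    ![![0,1,2,2,0,1], ![0,1,2,2,1,0]]

/-- the dual basis -/
def dv : I4 → Fin 6 → ZMod 3 :=
  Sum.elim (Sum.elim (fun _ => ![0,0,2,0,2,2]) (fun _ => ![0,0,0,2,2,2]))
    ![![0,1,2,2,0,1], ![0,1,2,2,1,0]]

/-- the inclusion of the four-dimensional space -/
def A : Matrix (Fin 6) I4 (ZMod 3) := Matrix.of fun i j => bv j i

/-- the projection to the four-dimensional space -/
def B : Matrix I4 (Fin 6) (ZMod 3) := Matrix.of fun j i => dv j i

set_option maxRecDepth 100000 in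
theorem BA : B * A = 1 := by decide

set_option maxRecDepth 100000 in
theorem AB : ∀ v : Fin 6 → ZMod 3, ∑ i, v i = 0 →
    A *ᵥ (B *ᵥ v) = v + fun _ => (A *ᵥ (B *ᵥ v)) 0 - v 0 := by decide

set_option maxRecDepth 100000 in
theorem B_const : ∀ k : ZMod 3, B *ᵥ (fun _ => k) = 0 := by decide

set_option maxRecDepth 100000 in
theorem sumA : ∀ c : I4 → ZMod 3, ∑ i, (A *ᵥ c) i = 0 := by decide

/-- the four-dimensional representation of a permutation -/
def R (π : Equiv.Perm (Fin 6)) : Matrix I4 I4 (ZMod 3) :=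
  B * A.submatrix (fun i => π⁻¹ i) id

theorem submatrix_mulVec (f : Fin 6 → Fin 6) (c : I4 → ZMod 3) :
    (A.submatrix f id) *ᵥ c = (A *ᵥ c) ∘ f := by
  funext i
  simp [Matrix.mulVec, dotProduct, Matrix.submatrix]

theorem R_mulVec (π : Equiv.Perm (Fin 6)) (c : I4 → ZMod 3) :
    R π *ᵥ c = B *ᵥ ((A *ᵥ c) ∘ (fun i => π⁻¹ i)) := by
  unfold R
  rw [← Matrix.mulVec_mulVec, submatrix_mulVec]

theorem sum_comp_perm (π : Equiv.Perm (Fin 6)) (v : Fin 6 → ZMod 3) :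
    ∑ i, (v ∘ (fun i => π⁻¹ i)) i = ∑ i, v i :=
  Equiv.sum_comp (π⁻¹ : Equiv.Perm (Fin 6)) v

theorem B_add_const (v : Fin 6 → ZMod 3) (k : ZMod 3) (f : Fin 6 → Fin 6) :
    B *ᵥ ((v + fun _ => k) ∘ f) = B *ᵥ (v ∘ f) := by
  have : (v + fun _ => k) ∘ f = v ∘ f + fun _ => k := by
    funext i
    simp
  rw [this, Matrix.mulVec_add, B_const, add_zero]

theorem R_mul (π σ : Equiv.Perm (Fin 6)) : R (π * σ) = R π * R σ := by
  apply Matrix.toLin'.injective
  apply LinearMap.ext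
  intro c
  rw [Matrix.toLin'_apply, Matrix.toLin'_apply, ← Matrix.mulVec_mulVec, R_mulVec, R_mulVec,
    R_mulVec]
  have h0 : ∑ i, ((A *ᵥ c) ∘ (fun i => σ⁻¹ i)) i = 0 := by
    rw [sum_comp_perm, sumA]
  rw [AB _ h0, B_add_const]
  congr 1

theorem R_one : R 1 = 1 := by
  unfold R
  have : A.submatrix (fun i => (1 : Equiv.Perm (Fin 6))⁻¹ i) id = A := by
    ext i j
    simp
  rw [this, BA]

/-- the representation into `GL₄(3)` -/
def R0 : Equiv.Perm (Fin 6) →* Matrix.GeneralLinearGroup I4 (ZMod 3) where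
  toFun π := ⟨R π, R π⁻¹, by rw [← R_mul, mul_inv_cancel, R_one],
    by rw [← R_mul, inv_mul_cancel, R_one]⟩
  map_one' := Units.ext R_one
  map_mul' π σ := Units.ext (R_mul π σ)

set_option maxRecDepth 100000 in
theorem Q_rot : ∀ c : I4 → ZMod 3,
    Cfsg.quadFormMinus 1 (ZMod 3) 0 1 (R (finRotate 6) *ᵥ c) =
      Cfsg.quadFormMinus 1 (ZMod 3) 0 1 c := by
  decide

set_option maxRecDepth 100000 in
theorem Q_swap : ∀ c : I4 → ZMod 3,
    Cfsg.quadFormMinus 1 (ZMod 3) 0 1 (R (Equiv.swap 0 1) *ᵥ c) =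
      Cfsg.quadFormMinus 1 (ZMod 3) 0 1 c := by
  decide

theorem closure_gens :
    Subgroup.closure ({finRotate 6, Equiv.swap 0 ((finRotate 6) 0)} : Set (Equiv.Perm (Fin 6))) = ⊤ :=
  Equiv.Perm.closure_cycle_adjacent_swap (isCycle_finRotate (n := 4)) (support_finRotate (n := 4)) 0

theorem rot_zero : (finRotate 6) 0 = 1 := by decide

theorem R0_mem (π : Equiv.Perm (Fin 6)) :
    R0 π ∈ Cfsg.isometryGroup (ZMod 3) (Cfsg.quadFormMinus 1 (ZMod 3) 0 1) := by
  have hH : (Cfsg.isometryGroup (ZMod 3) (Cfsg.quadFormMinus 1 (ZMod 3) 0 1)).comap R0 = ⊤ := by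
    rw [eq_top_iff, ← closure_gens, Subgroup.closure_le]
    intro g hg
    rw [Set.mem_insert_iff, Set.mem_singleton_iff] at hg
    rw [SetLike.mem_coe, Subgroup.mem_comap]
    rcases hg with rfl | rfl
    · intro u _
      exact Q_rot u
    · intro u _
      show Cfsg.quadFormMinus 1 (ZMod 3) 0 1 (R (Equiv.swap 0 ((finRotate 6) 0)) *ᵥ u) =
        Cfsg.quadFormMinus 1 (ZMod 3) 0 1 u
      rw [rot_zero]
      exact Q_swap u
  have : π ∈ (Cfsg.isometryGroup (ZMod 3) (Cfsg.quadFormMinus 1 (ZMod 3) 0 1)).comap R0 := by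
    rw [hH]; trivial
  exact this

/-- the representation into `O₄⁻(3)` -/
def rho : Equiv.Perm (Fin 6) →*
    ↥(Cfsg.isometryGroup (ZMod 3) (Cfsg.quadFormMinus 1 (ZMod 3) 0 1)) where
  toFun π := ⟨R0 π, R0_mem π⟩
  map_one' := Subtype.ext (map_one R0)
  map_mul' π σ := Subtype.ext (map_mul R0 π σ)

end S6O4

end Cfsg.Agent.Lib.Helper2
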