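import Mathlib
import Cfsg.Prelude.Def_Classical
import Cfsg.Prelude.Def_ClassicalGeometry
import Cfsg.Agent.Lib.Helper2.S6O4a

set_option autoImplicit false

namespace Cfsg.Agent.Lib.Helper2

namespace S6O4

open Matrix

set_option maxRecDepth 1000000 in
set_option maxHeartbeats 4000000 in
theorem inj_aux : ∀ π : Equiv.Perm (Fin 6), R π = 1 → π = 1 := by decide

end S6O4

end Cfsg.Agent.Lib.Helper2
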