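import Mathlib
import Cfsg.Prelude.Def_Classical
import Cfsg.Prelude.Def_ClassicalGeometry
import Cfsg.Agent.Lib.Helper2.S6O4b

set_option autoImplicit false

namespace Cfsg.Agent.Lib.Helper2

namespace S6O4

open Matrix

theorem rho_injective : Function.Injective rho := by
  rw [injective_iff_map_eq_one]
  intro π h
  apply inj_aux
  have h1 := congrArg (fun x : ↥(Cfsg.isometryGroup (ZMod 3) (Cfsg.quadFormMinus 1 (ZMod 3) 0 1)) =>
    ((x : Matrix.GeneralLinearGroup I4 (ZMod 3)) : Matrix I4 I4 (ZMod 3))) h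
  exact h1

theorem card6 : Nat.card (Fin 6) = 6 := by simp

theorem rho_mem_Omega (x : ↥(alternatingGroup (Fin 6))) :
    rho (x : Equiv.Perm (Fin 6)) ∈ Cfsg.Omega (ZMod 3) (Cfsg.quadFormMinus 1 (ZMod 3) 0 1) := by
  have hx : (x : Equiv.Perm (Fin 6)) ∈ commutator (Equiv.Perm (Fin 6)) := by
    rw [alternatingGroup.commutator_perm_eq (by rw [card6]; norm_num)]
    exact x.2
  have h1 : rho (x : Equiv.Perm (Fin 6)) ∈ (commutator (Equiv.Perm (Fin 6))).map rho :=
    Subgroup.mem_map_of_mem rho hx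
  rw [commutator_def, Subgroup.map_commutator] at h1
  exact Subgroup.commutator_mono le_top le_top h1

/-- the restriction to the alternating group, into `Ω₄⁻(3)` -/
def rhoA : ↥(alternatingGroup (Fin 6)) →*
    ↥(Cfsg.Omega (ZMod 3) (Cfsg.quadFormMinus 1 (ZMod 3) 0 1)) where
  toFun x := ⟨rho (x : Equiv.Perm (Fin 6)), rho_mem_Omega x⟩
  map_one' := Subtype.ext (map_one rho)
  map_mul' x y := Subtype.ext (map_mul rho (x : Equiv.Perm (Fin 6)) (y : Equiv.Perm (Fin 6)))

theorem rhoA_injective : Function.Injective rhoA := by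
  intro x y h
  have h1 : rho (x : Equiv.Perm (Fin 6)) = rho (y : Equiv.Perm (Fin 6)) :=
    congrArg Subtype.val h
  exact Subtype.ext (rho_injective h1)

/-- the map to `PΩ₄⁻(3)` -/
def rhoP : ↥(alternatingGroup (Fin 6)) →*
    Cfsg.POmega (ZMod 3) (Cfsg.quadFormMinus 1 (ZMod 3) 0 1) :=
  (QuotientGroup.mk' _).comp rhoA

theorem rhoP_injective : Function.Injective rhoP := by
  haveI : IsSimpleGroup ↥(alternatingGroup (Fin 6)) :=
    alternatingGroup.isSimpleGroup (by rw [card6]; norm_num)
  rw [← MonoidHom.ker_eq_bot_iff]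
  rcases (MonoidHom.normal_ker rhoP).eq_bot_or_eq_top with h | h
  · exact h
  · exfalso
    -- all of `A₆` would map into the centre, hence `A₆` would be abelian
    have hcomm : ∀ x y : ↥(alternatingGroup (Fin 6)), x * y = y * x := by
      intro x y
      have hx : x ∈ rhoP.ker := by rw [h]; trivial
      rw [MonoidHom.mem_ker] at hx
      have hx' : rhoA x ∈ Subgroup.center
          ↥(Cfsg.Omega (ZMod 3) (Cfsg.quadFormMinus 1 (ZMod 3) 0 1)) := by
        have : ((rhoA x : ↥(Cfsg.Omega (ZMod 3) (Cfsg.quadFormMinus 1 (ZMod 3) 0 1))) :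
          Cfsg.POmega (ZMod 3) (Cfsg.quadFormMinus 1 (ZMod 3) 0 1)) = 1 := hx
        exact (QuotientGroup.eq_one_iff _).1 this
      rw [Subgroup.mem_center_iff] at hx'
      apply rhoA_injective
      rw [map_mul, map_mul]
      exact (hx' (rhoA y)).symm
    have hperf : commutator ↥(alternatingGroup (Fin 6)) = ⊤ :=
      commutator_alternatingGroup_eq_top (by rw [card6]; norm_num)
    have hbot : commutator ↥(alternatingGroup (Fin 6)) = ⊥ := by
      rw [commutator_def, Subgroup.commutator_eq_bot_iff_le_centralizer]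
      intro x _
      rw [Subgroup.mem_centralizer_iff]
      intro y _
      exact hcomm y x
    rw [hbot] at hperf
    have hnt : Nontrivial ↥(alternatingGroup (Fin 6)) := IsSimpleGroup.toNontrivial
    exact (bot_ne_top (α := Subgroup ↥(alternatingGroup (Fin 6)))) hperf

theorem card_A6 : Nat.card ↥(alternatingGroup (Fin 6)) = 360 := by
  have h := nat_card_alternatingGroup (α := Fin 6)
  rw [card6] at h
  rw [h]
  decide

theorem equiv_of_card
    (hcard : Nat.card (Cfsg.POmega (ZMod 3) (Cfsg.quadFormMinus 1 (ZMod 3) 0 1)) = 360) :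
    Nonempty (Cfsg.POmega (ZMod 3) (Cfsg.quadFormMinus 1 (ZMod 3) 0 1) ≃*
      ↥(alternatingGroup (Fin 6))) := by
  have hbij : Function.Bijective rhoP := by
    apply Function.Injective.bijective_of_nat_card_le rhoP_injective
    rw [hcard, card_A6]
  exact ⟨(MulEquiv.ofBijective rhoP hbij).symm⟩

end S6O4

end Cfsg.Agent.Lib.Helper2
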