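import Mathlib

set_option autoImplicit false

namespace Cfsg.Agent.Lib.Helper2

namespace S8O6

open Matrix

/-- the index type of the six-dimensional plus form -/
abbrev I6 := Fin 3 ⊕ Fin 3

/-- a hyperbolic basis of even-weight vectors modulo the all-ones vector -/
def bv : I6 → Fin 8 → ZMod 2 :=
  Sum.elim ![![1,1,1,1,0,0,0,0], ![1,1,0,0,0,1,1,0], ![1,0,1,0,0,0,1,1]]
    ![![1,1,1,0,1,0,0,0], ![1,1,0,0,0,1,0,1], ![1,0,0,1,1,1,0,0]]

/-- the inclusion of the six-dimensional space -/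
def A : Matrix (Fin 8) I6 (ZMod 2) := Matrix.of fun i j => bv j i

/-- the projection to the six-dimensional space -/
def B : Matrix I6 (Fin 8) (ZMod 2) := Matrix.of fun j i => bv j.swap i

/-- the correction functional -/
def lam : Fin 8 → ZMod 2 := ![0,1,0,1,1,0,1,1]

set_option maxRecDepth 100000 in
theorem BA : B * A = 1 := by decide

set_option maxRecDepth 100000 in
theorem AB : ∀ v : Fin 8 → ZMod 2, ∑ i, v i = 0 → A *ᵥ (B *ᵥ v) = v + (lam ⬝ᵥ v) • 1 := by decide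

set_option maxRecDepth 100000 in
theorem sumA : ∀ c : I6 → ZMod 2, ∑ i, (A *ᵥ c) i = 0 := by decide

set_option maxRecDepth 100000 in
theorem B_one : B *ᵥ (1 : Fin 8 → ZMod 2) = 0 := by decide

/-- the six-dimensional representation of a permutation -/
def R (π : Equiv.Perm (Fin 8)) : Matrix I6 I6 (ZMod 2) :=
  B * A.submatrix (fun i => π⁻¹ i) id

theorem submatrix_mulVec (f : Fin 8 → Fin 8) (c : I6 → ZMod 2) :
    (A.submatrix f id) *ᵥ c = (A *ᵥ c) ∘ f := by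
  funext i
  simp [Matrix.mulVec, dotProduct, Matrix.submatrix]

theorem R_mulVec (π : Equiv.Perm (Fin 8)) (c : I6 → ZMod 2) :
    R π *ᵥ c = B *ᵥ ((A *ᵥ c) ∘ (fun i => π⁻¹ i)) := by
  unfold R
  rw [← Matrix.mulVec_mulVec, submatrix_mulVec]

theorem sum_comp_perm (π : Equiv.Perm (Fin 8)) (v : Fin 8 → ZMod 2) :
    ∑ i, (v ∘ (fun i => π⁻¹ i)) i = ∑ i, v i :=
  Equiv.sum_comp (π⁻¹ : Equiv.Perm (Fin 8)) v

theorem R_mul (π σ : Equiv.Perm (Fin 8)) : R (π * σ) = R π * R σ := by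
  apply Matrix.toLin'.injective
  apply LinearMap.ext
  intro c
  rw [Matrix.toLin'_apply, Matrix.toLin'_apply, ← Matrix.mulVec_mulVec, R_mulVec, R_mulVec,
    R_mulVec]
  have h0 : ∑ i, ((A *ᵥ c) ∘ (fun i => σ⁻¹ i)) i = 0 := by
    rw [sum_comp_perm, sumA]
  rw [AB _ h0]
  have h1 : (((A *ᵥ c) ∘ fun i => σ⁻¹ i) + (lam ⬝ᵥ (A *ᵥ c) ∘ fun i => σ⁻¹ i) • (1 : Fin 8 → ZMod 2)) ∘
      (fun i => π⁻¹ i) = ((A *ᵥ c) ∘ fun i => (π * σ)⁻¹ i) +
        (lam ⬝ᵥ (A *ᵥ c) ∘ fun i => σ⁻¹ i) • (1 : Fin 8 → ZMod 2) := by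
    funext i
    simp [_root_.mul_inv_rev]
  rw [h1, Matrix.mulVec_add, Matrix.mulVec_smul, B_one, smul_zero, add_zero]

theorem R_one : R 1 = 1 := by
  unfold R
  have : A.submatrix (fun i => (1 : Equiv.Perm (Fin 8))⁻¹ i) id = A := by
    ext i j
    simp
  rw [this, BA]

end S8O6

end Cfsg.Agent.Lib.Helper2
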