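import Mathlib
import Cfsg.Agent.Lib.Helper2.S8O6a
import Cfsg.Prelude.Def_Classical

set_option autoImplicit false

namespace Cfsg.Agent.Lib.Helper2

namespace S8O6

open Matrix

theorem zmod2_cases (t : ZMod 2) : t = 0 ∨ t = 1 := by
  revert t
  decide

theorem add_self_zmod2 (t : ZMod 2) : t + t = 0 := by
  revert t
  decide

/-- if `R π = 1` then `π` fixes every even-weight vector modulo the all-ones vector -/
theorem fix_mod_one (π : Equiv.Perm (Fin 8)) (h : R π = 1) (v : Fin 8 → ZMod 2)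
    (hv : ∑ i, v i = 0) : ∃ t : ZMod 2, v ∘ (fun i => π⁻¹ i) = v + t • 1 := by
  obtain ⟨c, hc⟩ : ∃ c, c = B *ᵥ v := ⟨_, rfl⟩
  obtain ⟨s, hs⟩ : ∃ s, s = lam ⬝ᵥ v := ⟨_, rfl⟩
  have h1 : A *ᵥ c = v + s • 1 := by rw [hc, hs]; exact AB v hv
  have h2 : R π *ᵥ c = c := by rw [h, Matrix.one_mulVec]
  rw [R_mulVec] at h2
  have h0 : ∑ i, ((A *ᵥ c) ∘ (fun i => π⁻¹ i)) i = 0 := by
    rw [sum_comp_perm, sumA]
  have h3 := AB _ h0
  rw [h2] at h3
  obtain ⟨t, ht⟩ : ∃ t, t = lam ⬝ᵥ ((A *ᵥ c) ∘ fun i => π⁻¹ i) := ⟨_, rfl⟩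
  rw [← ht] at h3
  refine ⟨t, ?_⟩
  funext i
  have e1 := congrFun h1 (π⁻¹ i)
  have e2 := congrFun h3 i
  have e3 := congrFun h1 i
  simp only [Pi.add_apply, Pi.smul_apply, Pi.one_apply, smul_eq_mul, mul_one,
    Function.comp_apply] at e1 e2 e3 ⊢
  have e4 : v (π⁻¹ i) = (A *ᵥ c) (π⁻¹ i) + s := by
    rw [e1, add_assoc, add_self_zmod2, add_zero]
  rw [e4]
  have e5 : (A *ᵥ c) (π⁻¹ i) = (A *ᵥ c) i + t := by
    rw [e2, add_assoc, add_self_zmod2, add_zero]
  rw [e5, e3]
  have : v i + s + t + s = v i + t + (s + s) := by ring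
  rw [this, add_self_zmod2, add_zero]

theorem exists_not_mem_four (a b c d : Fin 8) : ∃ x : Fin 8, x ≠ a ∧ x ≠ b ∧ x ≠ c ∧ x ≠ d := by
  by_contra hcon
  push Not at hcon
  have hsub : (Finset.univ : Finset (Fin 8)) ⊆ {a, b, c, d} := by
    intro x _
    by_cases h1 : x = a
    · simp [h1]
    · by_cases h2 : x = b
      · simp [h2]
      · by_cases h3 : x = c
        · simp [h3]
        · simp [hcon x h1 h2 h3]
  have h1 := Finset.card_le_card hsub
  have h2 : ({a, b, c, d} : Finset (Fin 8)).card ≤ 4 := Finset.card_le_four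
  rw [Finset.card_univ, Fintype.card_fin] at h1
  omega

theorem image_mem_pair (π : Equiv.Perm (Fin 8)) (h : R π = 1) (a b : Fin 8) (hab : a ≠ b) :
    π a = a ∨ π a = b := by
  obtain ⟨v, hv⟩ : ∃ v : Fin 8 → ZMod 2, v = Pi.single a 1 + Pi.single b 1 := ⟨_, rfl⟩
  have hsum : ∑ i, v i = 0 := by
    rw [hv]
    simp only [Pi.add_apply, Finset.sum_add_distrib, Finset.sum_pi_single', Finset.mem_univ,
      if_true]
    decide
  obtain ⟨t, ht⟩ := fix_mod_one π h v hsum
  have ht0 : t = 0 := by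
    rcases zmod2_cases t with h0 | h1
    · exact h0
    · exfalso
      obtain ⟨x, hxa, hxb, hxc, hxd⟩ := exists_not_mem_four a b (π a) (π b)
      have := congrFun ht x
      rw [hv, h1] at this
      simp only [Function.comp_apply, Pi.add_apply, Pi.smul_apply, Pi.one_apply, smul_eq_mul,
        mul_one, Pi.single_apply] at this
      have n1 : π⁻¹ x ≠ a := by
        intro h
        apply hxc
        rw [← h]; simp
      have n2 : π⁻¹ x ≠ b := by
        intro h
        apply hxd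
        rw [← h]; simp
      rw [if_neg n1, if_neg n2, if_neg hxa, if_neg hxb] at this
      revert this
      decide
  have h3 := congrFun ht (π a)
  rw [ht0, hv] at h3
  have e : π⁻¹ (π a) = a := by simp
  simp only [Function.comp_apply, Pi.add_apply, Pi.smul_apply, Pi.one_apply, smul_eq_mul,
    mul_one, Pi.single_apply, e, if_true, if_neg hab, zero_mul, add_zero] at h3
  by_contra hcon
  push Not at hcon
  rw [if_neg hcon.1, if_neg hcon.2] at h3
  revert h3
  decide

theorem R_injective (π : Equiv.Perm (Fin 8)) (h : R π = 1) : π = 1 := by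
  ext a
  obtain ⟨b, hb, hb', -, -⟩ := exists_not_mem_four a (π a) a a
  rcases image_mem_pair π h a b hb.symm with h1 | h1
  · rw [h1]; rfl
  · exact absurd h1.symm hb'

end S8O6

end Cfsg.Agent.Lib.Helper2
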