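import Mathlib
import Cfsg.Agent.Lib.Helper2.S8O6b
import Cfsg.Agent.Lib.Helper2.OrthCard3

set_option autoImplicit false

namespace Cfsg.Agent.Lib.Helper2

namespace S8O6

open Matrix

/-- the representation into `GL₆(2)` -/
def rho0 : Equiv.Perm (Fin 8) →* Matrix.GeneralLinearGroup I6 (ZMod 2) where
  toFun π := ⟨R π, R π⁻¹, by rw [← R_mul, mul_inv_cancel, R_one],
    by rw [← R_mul, inv_mul_cancel, R_one]⟩
  map_one' := Units.ext R_one
  map_mul' π σ := Units.ext (R_mul π σ)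

theorem rho0_coe (π : Equiv.Perm (Fin 8)) :
    ((rho0 π : Matrix.GeneralLinearGroup I6 (ZMod 2)) : Matrix I6 I6 (ZMod 2)) = R π := rfl

set_option maxRecDepth 100000 in
theorem Q_rot : ∀ c : I6 → ZMod 2,
    Cfsg.quadFormPlus 3 (ZMod 2) (R (finRotate 8) *ᵥ c) = Cfsg.quadFormPlus 3 (ZMod 2) c := by
  decide

set_option maxRecDepth 100000 in
theorem Q_swap : ∀ c : I6 → ZMod 2,
    Cfsg.quadFormPlus 3 (ZMod 2) (R (Equiv.swap 0 1) *ᵥ c) = Cfsg.quadFormPlus 3 (ZMod 2) c := by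
  decide

theorem rho0_mem (π : Equiv.Perm (Fin 8)) :
    rho0 π ∈ Cfsg.isometryGroup (ZMod 2) (Cfsg.quadFormPlus 3 (ZMod 2)) := by
  have hH : (Cfsg.isometryGroup (ZMod 2) (Cfsg.quadFormPlus 3 (ZMod 2))).comap rho0 = ⊤ := by
    rw [eq_top_iff, ← Equiv.Perm.closure_cycle_adjacent_swap
      (isCycle_finRotate (n := 6)) (support_finRotate (n := 6)) 0, Subgroup.closure_le]
    intro g hg
    rw [Set.mem_insert_iff, Set.mem_singleton_iff] at hg
    rw [SetLike.mem_coe, Subgroup.mem_comap]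
    rcases hg with rfl | rfl
    · intro u _
      show Cfsg.quadFormPlus 3 (ZMod 2) (R (finRotate 8) *ᵥ u) = Cfsg.quadFormPlus 3 (ZMod 2) u
      exact Q_rot u
    · intro u _
      have h01 : (finRotate 8) 0 = 1 := by decide
      show Cfsg.quadFormPlus 3 (ZMod 2) (R (Equiv.swap 0 ((finRotate 8) 0)) *ᵥ u) =
        Cfsg.quadFormPlus 3 (ZMod 2) u
      rw [h01]
      exact Q_swap u
  have : π ∈ (Cfsg.isometryGroup (ZMod 2) (Cfsg.quadFormPlus 3 (ZMod 2))).comap rho0 := by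
    rw [hH]; trivial
  exact this

/-- the representation into `O⁺₆(2)` -/
def rho : Equiv.Perm (Fin 8) →* ↥(Cfsg.isometryGroup (ZMod 2) (Cfsg.quadFormPlus 3 (ZMod 2))) :=
  rho0.codRestrict _ rho0_mem

theorem rho_injective : Function.Injective rho := by
  rw [injective_iff_map_eq_one]
  intro π hπ
  apply R_injective
  have h1 := congrArg (fun g : ↥(Cfsg.isometryGroup (ZMod 2) (Cfsg.quadFormPlus 3 (ZMod 2))) =>
    ((g : Matrix.GeneralLinearGroup I6 (ZMod 2)) : Matrix I6 I6 (ZMod 2))) hπ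
  exact h1

theorem card_O62 :
    Nat.card ↥(Cfsg.isometryGroup (ZMod 2) (Cfsg.quadFormPlus 3 (ZMod 2))) = Nat.factorial 8 := by
  have h := OrthCard.card_plus (F := ZMod 2) 2
  rw [h, Finset.prod_range_succ, Finset.prod_range_one, ZMod.card]
  decide

theorem equiv_zmod2 :
    Nonempty (↥(Cfsg.isometryGroup (ZMod 2) (Cfsg.quadFormPlus 3 (ZMod 2))) ≃* Equiv.Perm (Fin 8)) := by
  have hfin : Finite ↥(Cfsg.isometryGroup (ZMod 2) (Cfsg.quadFormPlus 3 (ZMod 2))) :=
    Nat.finite_of_card_ne_zero (by rw [card_O62]; decide)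
  have hbij : Function.Bijective rho := by
    rw [Nat.bijective_iff_injective_and_card]
    refine ⟨rho_injective, ?_⟩
    rw [card_O62, Nat.card_eq_fintype_card, Fintype.card_perm, Fintype.card_fin]
  exact ⟨(MulEquiv.ofBijective rho hbij).symm⟩

end S8O6

end Cfsg.Agent.Lib.Helper2
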