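import Mathlib
import Cfsg.Agent.Lib.Helper2.SL2Klein3

set_option autoImplicit false

namespace Cfsg.Agent.Lib.Helper2

namespace SL2S4

variable {G : Type*} [Group G]

/-- elements of a Klein four-subgroup in terms of two generators -/
theorem mem_cases (V : Subgroup G) [hV : IsKleinFour V] {x y a : G} (hx : x ∈ V) (hy : y ∈ V)
    (ha : a ∈ V) (hx1 : x ≠ 1) (hy1 : y ≠ 1) (hxy : x ≠ y) :
    a = 1 ∨ a = x ∨ a = y ∨ a = x * y := by
  by_contra hcon
  push Not at hcon
  obtain ⟨h1, h2, h3, h4⟩ := hcon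
  have := IsKleinFour.eq_mul_of_ne_all (G := V) (x := ⟨x, hx⟩) (y := ⟨y, hy⟩) (z := ⟨a, ha⟩)
    (fun h => hx1 (congrArg Subtype.val h)) (fun h => hy1 (congrArg Subtype.val h))
    (fun h => hxy (congrArg Subtype.val h)) (fun h => h1 (congrArg Subtype.val h))
    (fun h => h2 (congrArg Subtype.val h)) (fun h => h3 (congrArg Subtype.val h))
  exact h4 (congrArg Subtype.val this)

theorem mul_self_of_mem (V : Subgroup G) [hV : IsKleinFour V] {a : G} (ha : a ∈ V) : a * a = 1 :=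
  congrArg Subtype.val (IsKleinFour.mul_self (G := V) ⟨a, ha⟩)

theorem comm_of_mem (V : Subgroup G) [hV : IsKleinFour V] {a b : G} (ha : a ∈ V) (hb : b ∈ V) :
    a * b = b * a := by
  have := IsKleinFour.isMulCommutative (G := V)
  exact setLike_mul_comm ha hb

theorem conj_mem_of_normalizer (V : Subgroup G) {x a : G}
    (hx : x ∈ Subgroup.normalizer (V : Set G)) (ha : a ∈ V) : x * a * x⁻¹ ∈ V :=
  (Subgroup.mem_normalizer_iff.1 hx a).1 ha

theorem comm_conj {t x v : G} (h1 : t * x = x * t) (h2 : t * v = v * t) :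
    t * (x * v * x⁻¹) = x * v * x⁻¹ * t := by
  have h3 : t * x⁻¹ = x⁻¹ * t := (show Commute t x from h1).inv_right.eq
  calc t * (x * v * x⁻¹) = (t * x) * v * x⁻¹ := by group
    _ = x * (t * v) * x⁻¹ := by rw [h1]; group
    _ = x * v * (t * x⁻¹) := by rw [h2]; group
    _ = x * v * (x⁻¹ * t) := by rw [h3]
    _ = x * v * x⁻¹ * t := by group

/-- an element of order dividing 3 normalising a four-group and fixing a nontrivial element of it
centralises it -/
theorem centralizes_of_fix (V : Subgroup G) [hV : IsKleinFour V] {x v : G}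
    (hx : x ∈ Subgroup.normalizer (V : Set G)) (hx3 : x ^ 3 = 1) (hv : v ∈ V) (hv1 : v ≠ 1)
    (hxv : x * v = v * x) : x ∈ Subgroup.centralizer (V : Set G) := by
  rw [Subgroup.mem_centralizer_iff]
  intro a ha
  by_cases ha1 : a = 1
  · rw [ha1, one_mul, mul_one]
  by_cases hav : a = v
  · rw [hav, hxv]
  have hb := conj_mem_of_normalizer V hx ha
  have hxv' : x * v * x⁻¹ = v := by rw [hxv, mul_inv_cancel_right]
  rcases mem_cases V hv ha hb hv1 ha1 (Ne.symm hav) with h | h | h | h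
  · exfalso
    apply ha1
    have : a = x⁻¹ * (x * a * x⁻¹) * x := by group
    rw [this, h]; group
  · exfalso
    apply hav
    have : a = x⁻¹ * (x * a * x⁻¹) * x := by group
    rw [this, h]
    have : v = x⁻¹ * (x * v * x⁻¹) * x := by group
    rw [hxv'] at this
    exact this.symm
  · have : a * x = x * a * x⁻¹ * x := by rw [h]
    rw [this]; group
  · exfalso
    have hvv := mul_self_of_mem V hv
    have h2 : x * (v * a) * x⁻¹ = a := by
      have : x * (v * a) * x⁻¹ = (x * v * x⁻¹) * (x * a * x⁻¹) := by group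
      rw [this, hxv', h, ← mul_assoc, hvv, one_mul]
    have h3 : x ^ 2 * a * (x ^ 2)⁻¹ = a := by
      have : x ^ 2 * a * (x ^ 2)⁻¹ = x * (x * a * x⁻¹) * x⁻¹ := by
        rw [pow_two, mul_inv_rev]; simp only [mul_assoc]
      rw [this, h, h2]
    have h4 : x ^ 4 * a * (x ^ 4)⁻¹ = a := by
      have : x ^ 4 * a * (x ^ 4)⁻¹ = x ^ 2 * (x ^ 2 * a * (x ^ 2)⁻¹) * (x ^ 2)⁻¹ := by
        rw [show (4 : ℕ) = 2 + 2 from rfl, pow_add, mul_inv_rev]; simp only [mul_assoc]
      rw [this, h3, h3]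
    have h5 : x ^ 4 = x := by
      rw [show (4 : ℕ) = 3 + 1 from rfl, pow_succ, hx3, one_mul]
    rw [h5, h] at h4
    apply hv1
    have : v = v * a * a⁻¹ := by group
    rw [this, h4, mul_inv_cancel]

/-- the normaliser of a self-centralising four-group has no element of order 6 -/
theorem no_order_six (V : Subgroup G) [hV : IsKleinFour V]
    (hC : Subgroup.centralizer (V : Set G) ≤ V) {g : G}
    (hg : g ∈ Subgroup.normalizer (V : Set G)) : orderOf g ≠ 6 := by
  intro h6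
  have hg6 : g ^ 6 = 1 := by rw [← h6]; exact pow_orderOf_eq_one g
  have hx3 : (g ^ 2) ^ 3 = 1 := by rw [← pow_mul]; exact hg6
  have ht2 : (g ^ 3) ^ 2 = 1 := by rw [← pow_mul]; exact hg6
  have hx1 : g ^ 2 ≠ 1 := by
    intro h
    have := orderOf_dvd_of_pow_eq_one h
    rw [h6] at this
    omega
  have ht1 : g ^ 3 ≠ 1 := by
    intro h
    have := orderOf_dvd_of_pow_eq_one h
    rw [h6] at this
    omega
  have hxN : g ^ 2 ∈ Subgroup.normalizer (V : Set G) := Subgroup.pow_mem _ hg 2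
  have htN : g ^ 3 ∈ Subgroup.normalizer (V : Set G) := Subgroup.pow_mem _ hg 3
  have hxt : g ^ 2 * g ^ 3 = g ^ 3 * g ^ 2 := by rw [← pow_add, ← pow_add]
  -- `x = g²` does not centralise `V`
  have hxC : g ^ 2 ∉ Subgroup.centralizer (V : Set G) := by
    intro h
    have hxV := hC h
    have h2 := mul_self_of_mem V hxV
    apply hx1
    have : g ^ 2 = (g ^ 2) ^ 3 * ((g ^ 2) * (g ^ 2))⁻¹ := by group
    rw [this, hx3, h2, inv_one, mul_one]
  have hfpf : ∀ v ∈ V, v ≠ 1 → g ^ 2 * v ≠ v * g ^ 2 := by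
    intro v hv hv1 hcomm
    exact hxC (centralizes_of_fix V hxN hx3 hv hv1 hcomm)
  -- `t = g³` fixes some nontrivial element of `V`
  obtain ⟨a, b, haV, hbV, -, -, -, ha1, hb1, hab⟩ := SL2Klein.exists_pair V
  have htinv : (g ^ 3)⁻¹ = g ^ 3 := by
    rw [inv_eq_iff_mul_eq_one, ← pow_two]; exact ht2
  obtain ⟨v, hvV, hv1, htv⟩ : ∃ v ∈ V, v ≠ 1 ∧ g ^ 3 * v = v * g ^ 3 := by
    have ha' := conj_mem_of_normalizer V htN haV
    by_cases h : g ^ 3 * a * (g ^ 3)⁻¹ = a
    · refine ⟨a, haV, ha1, ?_⟩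
      have : g ^ 3 * a = g ^ 3 * a * (g ^ 3)⁻¹ * g ^ 3 := by group
      rw [this, h]
    · refine ⟨a * (g ^ 3 * a * (g ^ 3)⁻¹), V.mul_mem haV ha', ?_, ?_⟩
      · intro h1
        apply h
        have haa := mul_self_of_mem V haV
        have : g ^ 3 * a * (g ^ 3)⁻¹ = a⁻¹ * (a * (g ^ 3 * a * (g ^ 3)⁻¹)) := by group
        rw [this, h1, mul_one, inv_eq_iff_mul_eq_one, haa]
      · have hcomm := comm_of_mem V haV ha'
        rw [htinv] at hcomm ha' ⊢
        have e1 : g ^ 3 * (a * (g ^ 3 * a * g ^ 3)) =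
            (g ^ 3 * a * g ^ 3) * ((g ^ 3) ^ 2 * a * (g ^ 3) ^ 2) * g ^ 3 := by
          rw [ht2, one_mul, mul_one]
          have : g ^ 3 * (a * (g ^ 3 * a * g ^ 3)) = g ^ 3 * a * g ^ 3 * a * g ^ 3 := by group
          rw [this]
        rw [e1, ht2, one_mul, mul_one, ← hcomm]
  -- `v' = x v x⁻¹` is also fixed by `t`
  have hv'V := conj_mem_of_normalizer V hxN hvV
  have hv'1 : g ^ 2 * v * (g ^ 2)⁻¹ ≠ 1 := by
    intro h
    apply hv1
    have : v = (g ^ 2)⁻¹ * (g ^ 2 * v * (g ^ 2)⁻¹) * g ^ 2 := by group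
    rw [this, h]; group
  have hv'v : v ≠ g ^ 2 * v * (g ^ 2)⁻¹ := by
    intro h
    apply hfpf v hvV hv1
    have : g ^ 2 * v = g ^ 2 * v * (g ^ 2)⁻¹ * g ^ 2 := by group
    rw [this, ← h]
  have htv' : g ^ 3 * (g ^ 2 * v * (g ^ 2)⁻¹) = (g ^ 2 * v * (g ^ 2)⁻¹) * g ^ 3 :=
    comm_conj hxt.symm htv
  -- so `t` centralises `V`
  have htC : g ^ 3 ∈ Subgroup.centralizer (V : Set G) := by
    rw [Subgroup.mem_centralizer_iff]
    intro c hc
    rcases mem_cases V hvV hv'V hc hv1 hv'1 hv'v with h | h | h | h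
    · rw [h, one_mul, mul_one]
    · rw [h, htv]
    · rw [h, htv']
    · rw [h, mul_assoc, ← htv', ← mul_assoc, ← htv, mul_assoc]
  exact hfpf (g ^ 3) (hC htC) ht1 hxt

end SL2S4

end Cfsg.Agent.Lib.Helper2
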