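import Mathlib
import Cfsg.Agent.Lib.Helper2.SL2Klein5
import Cfsg.Agent.Lib.Helper2.SL2S4a
import Cfsg.Agent.S1012
import Cfsg.Agent.S0228

set_option autoImplicit false

namespace Cfsg.Agent.Lib.Helper2

namespace SL2S4

open SL2Klein

variable {F : Type*} [Field F] [Fintype F] [DecidableEq F]

local notation "P" => Matrix.ProjectiveSpecialLinearGroup (Fin 2) F

theorem exists_klein (hodd : Odd (Fintype.card F)) : ∃ V : Subgroup P, IsKleinFour V := by
  have h807 : 12 * ({V : Subgroup P | IsKleinFour V} : Set (Subgroup P)).ncard = Nat.card P :=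
    Cfsg.Agent.S0807.result (F := F) rfl hodd
  have hPpos : 0 < Nat.card P := Nat.card_pos
  have hpos : 0 < ({V : Subgroup P | IsKleinFour V} : Set (Subgroup P)).ncard := by
    by_contra h
    have h0 : ({V : Subgroup P | IsKleinFour V} : Set (Subgroup P)).ncard = 0 := by omega
    rw [h0] at h807
    omega
  obtain ⟨V, hV⟩ := (Set.ncard_pos (Set.toFinite _)).1 hpos
  exact ⟨V, hV⟩

/-- the order of the normaliser of a four-group in `PSL₂(q)`, `q` odd -/
theorem card_normalizer (hodd : Odd (Fintype.card F)) (V : Subgroup P) [hV : IsKleinFour V] :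
    ((Fintype.card F % 8 = 3 ∨ Fintype.card F % 8 = 5) →
      Nat.card (Subgroup.normalizer (V : Set P)) = 12) ∧
    ((Fintype.card F % 8 = 1 ∨ Fintype.card F % 8 = 7) →
      Nat.card (Subgroup.normalizer (V : Set P)) = 24) := by
  have h2 : (2 : F) ≠ 0 := Cfsg.Agent.Lib.Helper1.two_ne_zero_of_odd_card hodd
  have hcard := two_mul_card_PSL2 hodd
  have h807 := Cfsg.Agent.S0807.result (F := F) rfl hodd
  set 𝒦 : Set (Subgroup P) := {V | IsKleinFour V} with h𝒦
  have hK : 12 * 𝒦.ncard = Nat.card P := h807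
  have h𝒦fin : 𝒦.Finite := Set.toFinite _
  have hsub : orb V ⊆ 𝒦 := by
    rintro W ⟨g, rfl⟩
    exact isKleinFour_cj g V
  have hPpos : 0 < Nat.card P := Nat.card_pos
  have hl : (orb V).ncard ≤ 𝒦.ncard := Set.ncard_le_ncard hsub h𝒦fin
  have hp : 0 < (orb V).ncard := by
    rw [Set.ncard_pos (Set.toFinite _)]
    exact ⟨V, self_mem_orb V⟩
  have hn := card_normalizer_dvd h2 V
  have ho := card_orb V
  constructor
  · intro hq
    have h8 : ¬ 8 ∣ Nat.card P := not_eight_dvd hcard hq
    rcases dvd_24 hn with e | e | e | e | e | e | e | e <;> rw [e] at ho <;> omega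
  · intro hq
    have h8 : 8 ∣ Nat.card P := eight_dvd hcard hq
    have hn8 := eight_dvd_card_normalizer V (IsKleinFour.card_four) h8
    rcases dvd_24 hn with e | e | e | e | e | e | e | e <;> rw [e] at ho hn8 <;> omega

theorem exists_S4 (hq : Fintype.card F % 8 = 1 ∨ Fintype.card F % 8 = 7) :
    ∃ H : Subgroup P, Nonempty (H ≃* Equiv.Perm (Fin 4)) := by
  have hodd : Odd (Fintype.card F) := by
    rw [Nat.odd_iff]; omega
  have h2 : (2 : F) ≠ 0 := Cfsg.Agent.Lib.Helper1.two_ne_zero_of_odd_card hodd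
  obtain ⟨V, hV⟩ := exists_klein hodd
  haveI := hV
  have h24 := (card_normalizer hodd V).2 hq
  refine ⟨Subgroup.normalizer (V : Set P), ?_⟩
  apply Cfsg.Agent.S1012.result h24
  intro g
  rw [← Subgroup.orderOf_coe]
  exact no_order_six V (centralizer_le h2 V) g.2

theorem exists_A4_of_S4 {G : Type*} [Group G] (H : Subgroup G)
    (e : H ≃* Equiv.Perm (Fin 4)) :
    ∃ K : Subgroup G, Nonempty (K ≃* alternatingGroup (Fin 4)) := by
  let K₀ : Subgroup H := (alternatingGroup (Fin 4)).map e.symm.toMonoidHom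
  have e1 : alternatingGroup (Fin 4) ≃* K₀ := e.symm.subgroupMap (alternatingGroup (Fin 4))
  have e2 : K₀ ≃* K₀.map H.subtype :=
    Subgroup.equivMapOfInjective K₀ H.subtype (Subgroup.subtype_injective H)
  exact ⟨K₀.map H.subtype, ⟨(e1.trans e2).symm⟩⟩

theorem exists_A4_odd (hodd : Odd (Fintype.card F)) :
    ∃ H : Subgroup P, Nonempty (H ≃* alternatingGroup (Fin 4)) := by
  have h2 : (2 : F) ≠ 0 := Cfsg.Agent.Lib.Helper1.two_ne_zero_of_odd_card hodd
  have hmod : (Fintype.card F % 8 = 3 ∨ Fintype.card F % 8 = 5) ∨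
      (Fintype.card F % 8 = 1 ∨ Fintype.card F % 8 = 7) := by
    rw [Nat.odd_iff] at hodd; omega
  rcases hmod with hq | hq
  · obtain ⟨V, hV⟩ := exists_klein hodd
    haveI := hV
    have h12 := (card_normalizer hodd V).1 hq
    have hC := centralizer_le h2 V
    refine ⟨Subgroup.normalizer (V : Set P), ?_⟩
    apply Cfsg.Agent.S0228.result h12
    intro z hz hzc
    -- `z` is central in `N(V)`, so lies in `C(V) ≤ V`
    have hzV : (z : P) ∈ V := by
      apply hC
      rw [Subgroup.mem_centralizer_iff]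
      intro a ha
      have haN : a ∈ Subgroup.normalizer (V : Set P) := Subgroup.le_normalizer ha
      have := Subgroup.mem_center_iff.1 hzc ⟨a, haN⟩
      exact congrArg Subtype.val this
    have hz1 : (z : P) ≠ 1 := by
      intro h
      have : z = 1 := Subtype.ext h
      rw [this, orderOf_one] at hz
      omega
    -- an element of order 3
    haveI : Fact (Nat.Prime 3) := ⟨Nat.prime_three⟩
    haveI : Finite (Subgroup.normalizer (V : Set P)) := Nat.finite_of_card_ne_zero (by omega)
    obtain ⟨x, hx⟩ := exists_prime_orderOf_dvd_card' (G := Subgroup.normalizer (V : Set P)) 3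
      (by rw [h12]; norm_num)
    have hx3 : (x : P) ^ 3 = 1 := by
      have : x ^ 3 = 1 := by rw [← hx]; exact pow_orderOf_eq_one x
      exact congrArg Subtype.val this
    have hxz : (x : P) * z = z * x := by
      have := Subgroup.mem_center_iff.1 hzc x
      exact congrArg Subtype.val this
    have hxC := centralizes_of_fix V x.2 hx3 hzV hz1 hxz
    have hxV := hC hxC
    have hxx := mul_self_of_mem V hxV
    have hx1 : (x : P) = 1 := by
      have : (x : P) = (x : P) ^ 3 * ((x : P) * (x : P))⁻¹ := by group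
      rw [this, hx3, hxx, inv_one, mul_one]
    have : x = 1 := Subtype.ext hx1
    rw [this, orderOf_one] at hx
    omega
  · obtain ⟨H, ⟨e⟩⟩ := exists_S4 hq
    exact exists_A4_of_S4 H e

end SL2S4

end Cfsg.Agent.Lib.Helper2
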