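import Mathlib
import Cfsg.Agent.Lib.Helper2.SL2S4b
import Cfsg.Agent.Lib.Helper1.SL2Sylow

set_option autoImplicit false

namespace Cfsg.Agent.Lib.Helper2

namespace SL2S4

open Cfsg.Agent.Lib.Helper1

section gen

variable {G : Type*} [Group G]

theorem isPGroup_zpowers {a : G} (ha : a ^ 2 = 1) : IsPGroup 2 (Subgroup.zpowers a) := by
  rintro ⟨g, hg⟩
  obtain ⟨k, rfl⟩ := Subgroup.mem_zpowers_iff.1 hg
  refine ⟨1, Subtype.ext ?_⟩
  rw [pow_one, Subgroup.coe_pow, Subgroup.coe_one]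
  show (a ^ k) ^ 2 = 1
  rw [← zpow_natCast, ← zpow_mul, mul_comm, zpow_mul, zpow_natCast, ha, one_zpow]

theorem exists_two_group {a b : G} (ha : a ^ 2 = 1) (hb : b ^ 2 = 1) (hab : a * b = b * a) :
    ∃ K : Subgroup G, IsPGroup 2 K ∧ a ∈ K ∧ b ∈ K := by
  refine ⟨Subgroup.zpowers a ⊔ Subgroup.zpowers b, ?_, ?_, ?_⟩
  · apply IsPGroup.to_sup_of_normal_right' (isPGroup_zpowers ha) (isPGroup_zpowers hb)
    intro x hx
    obtain ⟨k, rfl⟩ := Subgroup.mem_zpowers_iff.1 hx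
    rw [Subgroup.mem_normalizer_iff]
    intro y
    have hc : Commute (a ^ k) b := (show Commute a b from hab).zpow_left k
    constructor
    · intro hy
      obtain ⟨j, rfl⟩ := Subgroup.mem_zpowers_iff.1 hy
      have : a ^ k * b ^ j * (a ^ k)⁻¹ = b ^ j := by
        rw [(hc.zpow_right j).eq, mul_inv_cancel_right]
      rw [this]; exact hy
    · intro hy
      obtain ⟨j, hj⟩ := Subgroup.mem_zpowers_iff.1 hy
      have : y = b ^ j := by
        have e : y = (a ^ k)⁻¹ * (a ^ k * y * (a ^ k)⁻¹) * a ^ k := by group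
        rw [e, ← hj, mul_assoc, ← (hc.zpow_right j).eq, inv_mul_cancel_left]
      rw [this]; exact Subgroup.zpow_mem _ (Subgroup.mem_zpowers b) j
  · exact Subgroup.mem_sup_left (Subgroup.mem_zpowers a)
  · exact Subgroup.mem_sup_right (Subgroup.mem_zpowers b)

end gen

variable {F : Type*} [Field F]

/-- conjugating one upper transvection to another forces upper triangularity -/
theorem upper_of_conj (y : Matrix.SpecialLinearGroup (Fin 2) F) {t s : F} (ht : t ≠ 0)
    (h : y * t01 t = t01 s * y) : y 1 0 = 0 ∧ y 0 0 * t = s * y 1 1 := by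
  have e := congrArg (fun A : Matrix.SpecialLinearGroup (Fin 2) F =>
    (A : Matrix (Fin 2) (Fin 2) F)) h
  simp only [Matrix.SpecialLinearGroup.coe_mul, t01_val] at e
  have e11 := congrFun (congrFun e 1) 1
  have e01 := congrFun (congrFun e 0) 1
  simp [Matrix.mul_apply, Fin.sum_univ_two] at e11 e01
  have h10 : y 1 0 = 0 := by
    rcases e11 with h | h
    · exact h
    · exact absurd h ht
  refine ⟨h10, ?_⟩
  have : (y : Matrix (Fin 2) (Fin 2) F) 0 0 * t = s * (y : Matrix (Fin 2) (Fin 2) F) 1 1 := by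
    linear_combination e01
  exact this

theorem pow_three_apply (y : Matrix.SpecialLinearGroup (Fin 2) F) (h : y 1 0 = 0) :
    ((y ^ 3 : Matrix.SpecialLinearGroup (Fin 2) F) : Matrix (Fin 2) (Fin 2) F) 0 0 =
      (y 0 0) ^ 3 := by
  have h' : (y : Matrix (Fin 2) (Fin 2) F) 1 0 = 0 := h
  rw [Matrix.SpecialLinearGroup.coe_pow, pow_succ, pow_two]
  simp [Matrix.mul_apply, Fin.sum_univ_two, h']
  ring

variable [Fintype F] [CharP F 2]

/-- the relations of `A₄` in `SL₂(F)`, characteristic 2, force a primitive cube root of unity -/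
theorem exists_cube_root {a x : Matrix.SpecialLinearGroup (Fin 2) F} (ha : a ^ 2 = 1)
    (hx : x ^ 3 = 1) (hne : x * a * x⁻¹ ≠ a) (hc : a * (x * a * x⁻¹) = (x * a * x⁻¹) * a) :
    ∃ α : F, α ^ 3 = 1 ∧ α ≠ 1 := by
  haveI : Fact (Nat.Prime 2) := ⟨Nat.prime_two⟩
  have hb : (x * a * x⁻¹) ^ 2 = 1 := by
    rw [conj_pow, ha, mul_one, mul_inv_cancel]
  obtain ⟨K, hK, haK, hbK⟩ := exists_two_group ha hb hc
  obtain ⟨S, hS⟩ := hK.exists_le_sylow
  obtain ⟨g, hg⟩ := sylow_SL2_eq_cj 2 S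
  have haS : a ∈ cj g (uSL F) := hg ▸ hS haK
  have hbS : x * a * x⁻¹ ∈ cj g (uSL F) := hg ▸ hS hbK
  rw [mem_cj, mem_uSL_iff] at haS hbS
  obtain ⟨t, ht⟩ := haS
  obtain ⟨s, hs⟩ := hbS
  have ha1 : a ≠ 1 := by
    intro h
    apply hne
    rw [h]; group
  have ht0 : t ≠ 0 := by
    intro h0
    apply ha1
    have : a = g * (g⁻¹ * a * g) * g⁻¹ := by group
    rw [this, ht, h0]
    have : (t01 (0 : F)) = 1 := by
      apply Subtype.ext
      rw [t01_val]
      ext i j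
      fin_cases i <;> fin_cases j <;> simp
    rw [this]; group
  have hst : s ≠ t := by
    intro h
    apply hne
    have e1 : x * a * x⁻¹ = g * (g⁻¹ * (x * a * x⁻¹) * g) * g⁻¹ := by group
    have e2 : a = g * (g⁻¹ * a * g) * g⁻¹ := by group
    rw [e1, hs, h, ← ht, ← e2]
  -- `y = g⁻¹ x g`
  have hy : (g⁻¹ * x * g) * t01 t = t01 s * (g⁻¹ * x * g) := by
    rw [← ht, ← hs]; group
  obtain ⟨h10, h00⟩ := upper_of_conj (g⁻¹ * x * g) ht0 hy
  have hy3 : (g⁻¹ * x * g) ^ 3 = 1 := by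
    have : g⁻¹ * x * g = g⁻¹ * x * (g⁻¹)⁻¹ := by rw [inv_inv]
    rw [this, conj_pow, hx, mul_one, mul_inv_cancel]
  have h3 := pow_three_apply (g⁻¹ * x * g) h10
  rw [hy3] at h3
  refine ⟨(g⁻¹ * x * g) 0 0, ?_, ?_⟩
  · rw [← h3]; simp
  · intro h1
    have hdet := (g⁻¹ * x * g).det_coe
    rw [Matrix.det_fin_two] at hdet
    have h10' : ((g⁻¹ * x * g : Matrix.SpecialLinearGroup (Fin 2) F) :
        Matrix (Fin 2) (Fin 2) F) 1 0 = 0 := h10
    have h1' : ((g⁻¹ * x * g : Matrix.SpecialLinearGroup (Fin 2) F) :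
        Matrix (Fin 2) (Fin 2) F) 0 0 = 1 := h1
    rw [h10', h1', mul_zero, sub_zero, one_mul] at hdet
    have hdet' : (g⁻¹ * x * g) 1 1 = 1 := hdet
    rw [h1, hdet', one_mul, mul_one] at h00
    exact hst h00.symm

/-- a primitive cube root of unity in a field with `2 ^ n` elements forces `n` even -/
theorem even_of_cube_root {n : ℕ} (hF : Fintype.card F = 2 ^ n) {α : F} (h3 : α ^ 3 = 1)
    (h1 : α ≠ 1) : Even n := by
  classical
  have hα0 : α ≠ 0 := by
    intro h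
    rw [h] at h3
    simp at h3
  let u : Fˣ := Units.mk0 α hα0
  have hu3 : u ^ 3 = 1 := by
    apply Units.ext
    rw [Units.val_pow_eq_pow_val, Units.val_mk0, h3]; rfl
  have hu1 : u ≠ 1 := by
    intro h
    apply h1
    have := congrArg Units.val h
    rwa [Units.val_mk0] at this
  have ho : orderOf u = 3 := by
    haveI : Fact (Nat.Prime 3) := ⟨Nat.prime_three⟩
    exact orderOf_eq_prime hu3 hu1
  have hdvd : 3 ∣ Fintype.card Fˣ := by
    rw [← ho]; exact orderOf_dvd_card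
  rw [Fintype.card_units, hF] at hdvd
  by_contra hodd
  rw [Nat.not_even_iff_odd] at hodd
  obtain ⟨k, rfl⟩ := hodd
  have h4 : (2 : ℕ) ^ (2 * k + 1) = 2 * 4 ^ k := by
    rw [pow_succ, pow_mul]; norm_num; ring
  have h5 : 4 ^ k % 3 = 1 := by
    rw [Nat.pow_mod]; norm_num
  rw [h4] at hdvd
  have hpos : 0 < 4 ^ k := pos_of_gt (Nat.one_le_pow _ _ (by norm_num))
  omega

end SL2S4

end Cfsg.Agent.Lib.Helper2
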