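import Mathlib
import Cfsg.Agent.Lib.Helper2.SL2S4b
import Cfsg.Agent.Lib.Helper2.PGLsub2
import Cfsg.Agent.Lib.Helper5.BorelGL2
import Cfsg.Agent.Lib.Helper5.FieldExt
import Cfsg.Agent.S0228

set_option autoImplicit false

namespace Cfsg.Agent.Lib.Helper2

namespace SL2S4

open Cfsg.Agent.Lib.Helper5 Matrix

section four

variable {K : Type*} [Field K] [Fintype K]

/-- the Borel subgroup of `SL₂(K)` -/
abbrev Bor (K : Type*) [Field K] : Subgroup (SpecialLinearGroup (Fin 2) K) :=
  (Cfsg.upperTriangularGL 2 K).comap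
    (SpecialLinearGroup.toGL : SpecialLinearGroup (Fin 2) K →* GL (Fin 2) K)

theorem card_Bor (hK : Fintype.card K = 4) : Nat.card (Bor K) = 12 := by
  classical
  rw [← Nat.card_congr (Equiv.ofBijective _ (slE_bijective (F := K))), Nat.card_prod,
    Nat.card_eq_fintype_card, Nat.card_eq_fintype_card, Fintype.card_units, hK]

/-- the matrix of an element of the Borel subgroup -/
def bM : Bor K →* Matrix (Fin 2) (Fin 2) K := slM.comp (Bor K).subtype

theorem bM_slE (p : Kˣ × K) : bM (slE p) = !![(p.1 : K), p.2; 0, ((p.1⁻¹ : Kˣ) : K)] := rfl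

theorem bM_injective : Function.Injective (bM (K := K)) := by
  intro a b h
  exact Subtype.ext (slM_injective h)

theorem Bor_no_central (hK : Fintype.card K = 4) (z : Bor K) (hz : orderOf z = 2)
    (hzc : z ∈ Subgroup.center (Bor K)) : False := by
  classical
  have h2 : (2 : K) = 0 := two_eq_zero_of_even_card (by rw [hK]; decide)
  have hU : 1 < Fintype.card Kˣ := by rw [Fintype.card_units, hK]; norm_num
  obtain ⟨ω, hω⟩ := Fintype.exists_ne_of_one_lt_card hU (1 : Kˣ)
  obtain ⟨⟨a, b⟩, rfl⟩ := (slE_bijective (F := K)).2 z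
  have hcomm := Subgroup.mem_center_iff.1 hzc (slE (ω, 0))
  have e := congrArg bM hcomm
  rw [map_mul, map_mul, bM_slE, bM_slE] at e
  have e01 := congrFun (congrFun e 0) 1
  simp [Matrix.mul_apply, Fin.sum_univ_two] at e01
  have hsq : ∀ c : K, c ^ 2 = 1 → c = 1 := by
    intro c hc
    have : (c - 1) ^ 2 = 0 := by linear_combination hc + (1 - c) * h2
    have := pow_eq_zero_iff (two_ne_zero) |>.1 this
    exact sub_eq_zero.1 this
  have hb0 : b = 0 := by
    by_contra hb
    apply hω
    apply Units.ext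
    apply hsq
    have hωne : (ω : K) ≠ 0 := ω.ne_zero
    have h1 : (ω : K) * b * (ω : K) = b := by
      rw [e01, mul_assoc, inv_mul_cancel₀ hωne, mul_one]
    have h3 : b * ((ω : K) ^ 2 - 1) = 0 := by linear_combination h1
    rcases mul_eq_zero.1 h3 with h | h
    · exact absurd h hb
    · exact sub_eq_zero.1 h
  have hz2 : (slE (a, b)) ^ 2 = (1 : Bor K) := by
    have := pow_orderOf_eq_one (slE (a, b) : Bor K)
    rwa [hz] at this
  have e2 := congrArg bM hz2
  rw [map_pow, map_one, bM_slE, pow_two] at e2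
  have e00 := congrFun (congrFun e2 0) 0
  simp [Matrix.mul_apply, Fin.sum_univ_two, hb0] at e00
  have ha1 : a = 1 := by
    apply Units.ext
    apply hsq
    rw [pow_two]; exact e00
  have hz1 : (slE (a, b) : Bor K) = 1 := by
    apply bM_injective
    rw [map_one, bM_slE, ha1, hb0]
    ext i j
    fin_cases i <;> fin_cases j <;> simp
  rw [hz1, orderOf_one] at hz
  omega

theorem Bor_iso (hK : Fintype.card K = 4) : Nonempty (Bor K ≃* alternatingGroup (Fin 4)) :=
  Cfsg.Agent.S0228.result (card_Bor hK) (fun z hz hzc => Bor_no_central hK z hz hzc)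

end four

variable {F : Type*} [Field F] [Fintype F]

/-- `A₄` inside `PSL₂(2^n)` for `n` even -/
theorem exists_A4_even {n : ℕ} (hn : Even n) (hF : Fintype.card F = 2 ^ n) :
    ∃ H : Subgroup (ProjectiveSpecialLinearGroup (Fin 2) F),
      Nonempty (H ≃* alternatingGroup (Fin 4)) := by
  classical
  haveI : Fact (Nat.Prime 2) := ⟨Nat.prime_two⟩
  have h2 : (2 : F) = 0 := by
    apply two_eq_zero_of_even_card
    rw [hF]
    have hn0 : n ≠ 0 := by
      rintro rfl
      have := Fintype.one_lt_card (α := F)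
      rw [hF] at this
      omega
    exact (Nat.even_pow.2 ⟨even_two, hn0⟩)
  obtain ⟨k, hk⟩ := hn
  have hk0 : 0 < k := by
    rcases Nat.eq_zero_or_pos k with h | h
    · exfalso
      have := Fintype.one_lt_card (α := F)
      rw [hF, hk, h] at this
      omega
    · exact h
  let K := GaloisField 2 2
  letI : Fintype K := Fintype.ofFinite K
  have hK : Fintype.card K = 4 := by
    rw [← Nat.card_eq_fintype_card, GaloisField.card 2 2 (by norm_num)]
    norm_num
  have hF' : Fintype.card F = 4 ^ k := by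
    rw [hF, hk, ← two_mul, pow_mul]; norm_num
  obtain ⟨alg, -⟩ := Cfsg.Agent.Lib.Helper5.FieldExt.exists_algebra (K := F) (F := K) k hk0 hF' hK
  obtain ⟨e⟩ := Bor_iso hK
  let φ : Bor K →* ProjectiveSpecialLinearGroup (Fin 2) F :=
    (QuotientGroup.mk' _).comp
      ((SpecialLinearGroup.map (n := Fin 2) (algebraMap K F)).comp (Bor K).subtype)
  have hφ : Function.Injective φ := by
    intro a b h
    have h1 := mk_injective h2 h
    have h3 := PGLsub.map_injective (algebraMap K F) h1
    exact Subtype.ext h3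
  exact ⟨φ.range, ⟨(MonoidHom.ofInjective hφ).symm.trans e⟩⟩

end SL2S4

end Cfsg.Agent.Lib.Helper2
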