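import Mathlib
import Cfsg.Agent.Lib.Helper2.UT13
import Cfsg.Agent.Lib.Helper1.SLCard
import Cfsg.Agent.Lib.Helper5.FieldExt
import Cfsg.Agent.S0278

set_option autoImplicit false

namespace Cfsg.Agent.Lib.Helper2

namespace SU2

open Module IsomDecomp HermDecomp Cfsg.Agent.Lib.Helper5.PSLCoset Matrix

/-- conjugation by a pair of mutually inverse matrices -/
def conjSL {F : Type*} [Field F] (P Q : Matrix (Fin 2) (Fin 2) F) (hQP : Q * P = 1) :
    Matrix.SpecialLinearGroup (Fin 2) F →* Matrix.SpecialLinearGroup (Fin 2) F where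
  toFun N := ⟨P * (N : Matrix (Fin 2) (Fin 2) F) * Q, by
    have h1 : P.det * Q.det = 1 := by rw [mul_comm, ← Matrix.det_mul, hQP, Matrix.det_one]
    rw [Matrix.det_mul, Matrix.det_mul, N.2, mul_one, h1]⟩
  map_one' := by
    apply Subtype.ext
    show P * (1 : Matrix (Fin 2) (Fin 2) F) * Q = 1
    rw [Matrix.mul_one]
    exact mul_eq_one_comm.1 hQP
  map_mul' A B := by
    apply Subtype.ext
    show P * ((A : Matrix (Fin 2) (Fin 2) F) * (B : Matrix (Fin 2) (Fin 2) F)) * Q =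
      (P * (A : Matrix (Fin 2) (Fin 2) F) * Q) * (P * (B : Matrix (Fin 2) (Fin 2) F) * Q)
    have h1 : (P * (A : Matrix (Fin 2) (Fin 2) F) * Q) * (P * (B : Matrix (Fin 2) (Fin 2) F) * Q) =
        P * (A : Matrix (Fin 2) (Fin 2) F) * (Q * P) * (B : Matrix (Fin 2) (Fin 2) F) * Q := by
      simp only [Matrix.mul_assoc]
    rw [h1, hQP, Matrix.mul_one]
    simp only [Matrix.mul_assoc]

theorem conjSL_coe {F : Type*} [Field F] (P Q : Matrix (Fin 2) (Fin 2) F) (hQP : Q * P = 1)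
    (N : Matrix.SpecialLinearGroup (Fin 2) F) :
    ((conjSL P Q hQP N : Matrix.SpecialLinearGroup (Fin 2) F) : Matrix (Fin 2) (Fin 2) F) =
      P * (N : Matrix (Fin 2) (Fin 2) F) * Q := rfl

theorem conjSL_injective {F : Type*} [Field F] (P Q : Matrix (Fin 2) (Fin 2) F)
    (hQP : Q * P = 1) : Function.Injective (conjSL P Q hQP) := by
  intro A B hAB
  apply Subtype.ext
  have h1 : P * (A : Matrix (Fin 2) (Fin 2) F) * Q = P * (B : Matrix (Fin 2) (Fin 2) F) * Q :=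
    congrArg Subtype.val hAB
  have h2 : ∀ N : Matrix (Fin 2) (Fin 2) F, Q * (P * N * Q) * P = N := by
    intro N
    have : Q * (P * N * Q) * P = (Q * P) * N * (Q * P) := by simp only [Matrix.mul_assoc]
    rw [this, hQP, Matrix.one_mul, Matrix.mul_one]
  rw [← h2 A, h1, h2 B]

section main

universe u

variable {F : Type u} [Field F] {σ : F ≃+* F} {q : ℕ}

theorem herm2 (hσq : ∀ a : F, σ a = a ^ q) (x y : Fin 2 → F) :
    Cfsg.hermForm 2 F q x y = x 0 * σ (y 0) + x 1 * σ (y 1) := by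
  unfold Cfsg.hermForm
  rw [Fin.sum_univ_two, hσq, hσq]

/-- the change of basis matrix -/
def Pm (u v : Fin 2 → F) (μ : F) : Matrix (Fin 2) (Fin 2) F := !![u 0, μ * v 0; u 1, μ * v 1]

/-- its inverse -/
def Qm (σ : F ≃+* F) (u v : Fin 2 → F) (μ : F) : Matrix (Fin 2) (Fin 2) F :=
  !![σ (v 0), σ (v 1); σ (u 0) / μ, σ (u 1) / μ]

theorem Qm_mul_Pm {u v : Fin 2 → F} {μ : F} (hμ0 : μ ≠ 0)
    (huu : u 0 * σ (u 0) + u 1 * σ (u 1) = 0) (hvv : v 0 * σ (v 0) + v 1 * σ (v 1) = 0)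
    (huv : u 0 * σ (v 0) + u 1 * σ (v 1) = 1) (hvu : v 0 * σ (u 0) + v 1 * σ (u 1) = 1) :
    Qm σ u v μ * Pm u v μ = 1 := by
  apply Matrix.ext
  intro i j
  fin_cases i <;> fin_cases j
  · simp only [Qm, Pm, Matrix.mul_apply, Fin.sum_univ_two, Matrix.one_apply]
    simp
    linear_combination huv
  · simp only [Qm, Pm, Matrix.mul_apply, Fin.sum_univ_two, Matrix.one_apply]
    simp
    linear_combination μ * hvv
  · simp only [Qm, Pm, Matrix.mul_apply, Fin.sum_univ_two, Matrix.one_apply]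
    simp
    field_simp
    linear_combination huu
  · simp only [Qm, Pm, Matrix.mul_apply, Fin.sum_univ_two, Matrix.one_apply]
    simp
    field_simp
    linear_combination hvu

theorem form_Pm (hσq : ∀ a : F, σ a = a ^ q) {u v : Fin 2 → F} {μ : F} (hμ : σ μ = -μ)
    (huu : u 0 * σ (u 0) + u 1 * σ (u 1) = 0) (hvv : v 0 * σ (v 0) + v 1 * σ (v 1) = 0)
    (huv : u 0 * σ (v 0) + u 1 * σ (v 1) = 1) (hvu : v 0 * σ (u 0) + v 1 * σ (u 1) = 1)
    (ξ η : Fin 2 → F) :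
    Cfsg.hermForm 2 F q (Pm u v μ *ᵥ ξ) (Pm u v μ *ᵥ η) =
      μ * (ξ 1 * σ (η 0) - ξ 0 * σ (η 1)) := by
  rw [herm2 hσq]
  simp only [Pm, Matrix.mulVec, dotProduct, Fin.sum_univ_two, Matrix.of_apply, Matrix.cons_val_zero,
    Matrix.cons_val_one, Matrix.cons_val', Matrix.cons_val_fin_one, map_add, map_mul]
  linear_combination (ξ 0 * σ (η 0)) * huu + (ξ 0 * σ (η 1) * σ μ) * huv +
    (ξ 1 * μ * σ (η 0)) * hvu + (ξ 1 * μ * σ (η 1) * σ μ) * hvv + (ξ 0 * σ (η 1)) * hμ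

/-- conjugates of matrices with fixed entries preserve the form -/
theorem pres_conj (hσq : ∀ a : F, σ a = a ^ q) {u v : Fin 2 → F} {μ : F} (hμ0 : μ ≠ 0)
    (hμ : σ μ = -μ)
    (huu : u 0 * σ (u 0) + u 1 * σ (u 1) = 0) (hvv : v 0 * σ (v 0) + v 1 * σ (v 1) = 0)
    (huv : u 0 * σ (v 0) + u 1 * σ (v 1) = 1) (hvu : v 0 * σ (u 0) + v 1 * σ (u 1) = 1)
    (N : Matrix (Fin 2) (Fin 2) F) (hN : ∀ i j, σ (N i j) = N i j) (hdet : N.det = 1)
    (x y : Fin 2 → F) :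
    Cfsg.hermForm 2 F q ((Pm u v μ * N * Qm σ u v μ) *ᵥ x) ((Pm u v μ * N * Qm σ u v μ) *ᵥ y) =
      Cfsg.hermForm 2 F q x y := by
  have hQP := Qm_mul_Pm hμ0 huu hvv huv hvu
  have hPQ : Pm u v μ * Qm σ u v μ = 1 := mul_eq_one_comm.1 hQP
  have hx : ∀ z : Fin 2 → F, z = Pm u v μ *ᵥ (Qm σ u v μ *ᵥ z) := by
    intro z
    rw [Matrix.mulVec_mulVec, hPQ, Matrix.one_mulVec]
  have hN' : ∀ z : Fin 2 → F, (Pm u v μ * N * Qm σ u v μ) *ᵥ z =
      Pm u v μ *ᵥ (N *ᵥ (Qm σ u v μ *ᵥ z)) := by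
    intro z
    rw [Matrix.mulVec_mulVec, Matrix.mulVec_mulVec]
  conv_rhs => rw [hx x, hx y]
  rw [hN', hN', form_Pm hσq hμ huu hvv huv hvu, form_Pm hσq hμ huu hvv huv hvu]
  obtain ⟨ξ, hξ⟩ : ∃ ξ, ξ = Qm σ u v μ *ᵥ x := ⟨_, rfl⟩
  obtain ⟨η, hη⟩ : ∃ η, η = Qm σ u v μ *ᵥ y := ⟨_, rfl⟩
  rw [← hξ, ← hη]
  rw [Matrix.det_fin_two] at hdet
  simp only [Matrix.mulVec, dotProduct, Fin.sum_univ_two, map_add, map_mul, hN]
  linear_combination (μ * (ξ 1 * σ (η 0) - ξ 0 * σ (η 1))) * hdet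

end main

section final

universe u v

variable {F : Type u} [Field F] [Fintype F] {K : Type v} [Field K] [Fintype K] {q : ℕ}

theorem card_SU2 (hF : Fintype.card F = q ^ 2) : Nat.card ↥(Cfsg.SU 2 F q) = q * (q ^ 2 - 1) := by
  have hSU := Cfsg.Agent.S0278.result hF 2 (by norm_num)
  rw [Finset.prod_range_succ, Finset.prod_range_succ, Finset.prod_range_zero] at hSU
  simp only [one_mul, Nat.even_add_one, Even.zero, not_true_eq_false, if_true, if_false,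
    zero_add, pow_one] at hSU
  norm_num at hSU
  have h1 : (q + 1) * Nat.card ↥(Cfsg.SU 2 F q) = (q + 1) * (q * (q ^ 2 - 1)) := by
    rw [hSU]; ring
  exact Nat.eq_of_mul_eq_mul_left (by omega) h1

theorem card_SL2 (hK : Fintype.card K = q) (hq : 2 ≤ q) :
    Nat.card (Matrix.SpecialLinearGroup (Fin 2) K) = q * (q ^ 2 - 1) := by
  have hSL := Cfsg.Agent.Lib.Helper1.card_SL_field (F := K) 2 (by norm_num)
  rw [Fin.prod_univ_two, hK] at hSL
  simp only [Fin.val_zero, Fin.val_one, pow_zero, pow_one] at hSL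
  have e2 : q ^ 2 - q = q * (q - 1) := by
    rw [pow_two, Nat.mul_sub_one]
  rw [e2] at hSL
  have h1 : (q - 1) * Nat.card (Matrix.SpecialLinearGroup (Fin 2) K) =
      (q - 1) * (q * (q ^ 2 - 1)) := by
    rw [hSL]; ring
  exact Nat.eq_of_mul_eq_mul_left (by omega) h1

/-- `SU_2(q) ≅ SL_2(q)` -/
theorem equiv_SL2 (hF : Fintype.card F = q ^ 2) (hK : Fintype.card K = q) :
    Nonempty (↥(Cfsg.SU 2 F q) ≃* Matrix.SpecialLinearGroup (Fin 2) K) := by
  classical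
  obtain ⟨σ, hσ, hσq⟩ := exists_sigma hF
  have hσ2 := WittHerm.sigma_sigma hσ
  have hq2 : 2 ≤ q := Cfsg.Agent.Lib.Helper1.HermCount.two_le_q hF
  have h := GUIsom.isHerm_hermForm 2 q σ hσ2 hσq
  have hnd : ∀ v : Fin 2 → F, (∀ w, Cfsg.hermForm 2 F q v w = 0) → v = 0 :=
    fun v hv => GUIsom.hermForm_nondeg 2 q (by omega) v hv
  have hdim : finrank F (Fin 2 → F) = 2 := by rw [Module.finrank_fin_fun]
  obtain ⟨u, v, hp⟩ := UT.exists_hypPair hσ h hnd (by rw [hdim])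
  obtain ⟨μ, hμ0, hμ⟩ := UT.exists_skew hσ
  have huu := hp.uu
  rw [herm2 hσq] at huu
  have hvv := hp.vv
  rw [herm2 hσq] at hvv
  have huv := hp.uv
  rw [herm2 hσq] at huv
  have hvu := hp.vu h
  rw [herm2 hσq] at hvu
  obtain ⟨alg, -⟩ := Cfsg.Agent.Lib.Helper5.FieldExt.exists_algebra (K := F) (F := K) 2
    (by norm_num) hF hK
  have hQP := Qm_mul_Pm hμ0 huu hvv huv hvu
  obtain ⟨Φ, hΦ⟩ : ∃ Φ : Matrix.SpecialLinearGroup (Fin 2) K →* Matrix.SpecialLinearGroup (Fin 2) F,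
      Φ = (conjSL (Pm u v μ) (Qm σ u v μ) hQP).comp
        (Matrix.SpecialLinearGroup.map (algebraMap K F)) := ⟨_, rfl⟩
  have hΦc : ∀ M, ((Φ M : Matrix.SpecialLinearGroup (Fin 2) F) : Matrix (Fin 2) (Fin 2) F) =
      Pm u v μ * ((M : Matrix (Fin 2) (Fin 2) K).map (algebraMap K F)) * Qm σ u v μ := by
    intro M
    rw [hΦ]
    rfl
  have hmem : ∀ M, Φ M ∈ Cfsg.SU 2 F q := by
    intro M x y
    show Cfsg.hermForm 2 F q
      (((Φ M : Matrix.SpecialLinearGroup (Fin 2) F) : Matrix (Fin 2) (Fin 2) F) *ᵥ x)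
      (((Φ M : Matrix.SpecialLinearGroup (Fin 2) F) : Matrix (Fin 2) (Fin 2) F) *ᵥ y) = _
    rw [hΦc]
    apply pres_conj hσq hμ0 hμ huu hvv huv hvu
    · intro i j
      rw [Matrix.map_apply, hσq, ← map_pow, ← hK, FiniteField.pow_card]
    · have h1 := (Matrix.SpecialLinearGroup.map (algebraMap K F) M).2
      exact h1
  have hinj : Function.Injective (Φ.codRestrict (Cfsg.SU 2 F q) hmem) := by
    intro A B hAB
    have h1 : Φ A = Φ B := congrArg Subtype.val hAB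
    rw [hΦ] at h1
    have h2 := conjSL_injective _ _ hQP h1
    apply Subtype.ext
    have h3 : (A : Matrix (Fin 2) (Fin 2) K).map (algebraMap K F) =
        (B : Matrix (Fin 2) (Fin 2) K).map (algebraMap K F) := congrArg Subtype.val h2
    exact Matrix.map_injective (algebraMap K F).injective h3
  have hbij := hinj.bijective_of_nat_card_le
    (le_of_eq (by rw [card_SU2 hF, card_SL2 hK hq2]))
  exact ⟨(MulEquiv.ofBijective _ hbij).symm⟩

end final

end SU2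

end Cfsg.Agent.Lib.Helper2
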