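import Mathlib
import Cfsg.Agent.S0801
import Cfsg.Agent.Lib.Helper2.SU2
import Cfsg.Agent.Lib.Helper1.SL2Sylow

set_option autoImplicit false

/-! A copy of `SL₂(𝔽_p)` inside the group generated by two opposite transvections. -/

namespace Cfsg.Agent.Lib.Helper2.SL2p

open Matrix Cfsg.Agent.Lib.Helper1 Cfsg.Agent.Lib.Helper2.SU2

/-- the generating set of Dickson's lemma -/
def gens {F : Type*} [Field F] (lam : F) : Set (SpecialLinearGroup (Fin 2) F) :=
  {g | (g : Matrix (Fin 2) (Fin 2) F) = !![1, 0; 1, 1] ∨
    (g : Matrix (Fin 2) (Fin 2) F) = !![1, lam; 0, 1]}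

theorem map_injective {R S : Type*} [CommRing R] [CommRing S] (f : R →+* S)
    (hf : Function.Injective f) :
    Function.Injective (SpecialLinearGroup.map (n := Fin 2) f) := by
  intro A B h
  apply Subtype.ext
  ext i j
  have h1 := congrArg
    (fun X : SpecialLinearGroup (Fin 2) S => (X : Matrix (Fin 2) (Fin 2) S) i j) h
  simp only [SpecialLinearGroup.map_apply_coe, RingHom.mapMatrix_apply, Matrix.map_apply] at h1
  exact hf h1

theorem two_ne_zero_of_charP {F : Type*} [Field F] (p : ℕ) [Fact p.Prime] [CharP F p]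
    (hp : p ≠ 2) : (2 : F) ≠ 0 := by
  intro h
  have h1 : ((2 : ℕ) : F) = 0 := by exact_mod_cast h
  rw [CharP.cast_eq_zero_iff F p] at h1
  have := (Nat.prime_dvd_prime_iff_eq (Fact.out : p.Prime) Nat.prime_two).1 h1
  exact hp this

/-- the prime field case: the two elementary matrices generate `SL₂(𝔽_p)` -/
theorem closure_gens_zmod (p : ℕ) [Fact p.Prime] (hp : p ≠ 2) :
    Subgroup.closure (gens (1 : ZMod p)) = ⊤ := by
  have h2 : (2 : ZMod p) ≠ 0 := two_ne_zero_of_charP p hp
  have hgen : Subfield.closure ({(1 : ZMod p)} : Set (ZMod p)) = ⊤ := by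
    rw [eq_top_iff]
    intro x _
    rw [← ZMod.natCast_zmod_val x]
    exact natCast_mem _ _
  rcases Cfsg.Agent.S0801.result (F := ZMod p) h2 1 one_ne_zero hgen with h | h
  · exact h.1
  · exfalso
    have h9 := h.1
    rw [ZMod.card] at h9
    have hp' : p.Prime := Fact.out
    rw [h9] at hp'
    revert hp'; decide

/-- the generator of its own closure generates it -/
theorem closure_self_eq_top {F : Type*} [Field F] (lam : F) :
    Subfield.closure
      ({(⟨lam, Subfield.subset_closure rfl⟩ : Subfield.closure ({lam} : Set F))} :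
        Set (Subfield.closure ({lam} : Set F))) = ⊤ := by
  have key : ∀ (y : F) (hy : y ∈ Subfield.closure ({lam} : Set F)),
      (⟨y, hy⟩ : Subfield.closure ({lam} : Set F)) ∈ Subfield.closure
        ({(⟨lam, Subfield.subset_closure rfl⟩ : Subfield.closure ({lam} : Set F))} :
          Set (Subfield.closure ({lam} : Set F))) := by
    intro y hy
    induction hy using Subfield.closure_induction with
    | mem y hy =>
      apply Subfield.subset_closure
      rw [Set.mem_singleton_iff] at hy ⊢
      exact Subtype.ext hy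
    | one => exact one_mem _
    | add y z hy hz ihy ihz => exact add_mem ihy ihz
    | neg y hy ih => exact neg_mem ih
    | inv y hy ih => exact inv_mem ih
    | mul y z hy hz ihy ihz => exact mul_mem ihy ihz
  rw [eq_top_iff]
  rintro ⟨x, hx⟩ -
  exact key x hx

end Cfsg.Agent.Lib.Helper2.SL2p
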