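import Mathlib
import Cfsg.Agent.Lib.Helper2.SL2p1

set_option autoImplicit false

namespace Cfsg.Agent.Lib.Helper2.SL2p

open Matrix Cfsg.Agent.Lib.Helper1 Cfsg.Agent.Lib.Helper2.SU2

/-- the exceptional case of Dickson's lemma still contains a conjugate of `SL₂(𝔽₃)` -/
theorem exists_hom_exceptional {F₀ : Type*} [Field F₀] (p : ℕ) [Fact p.Prime] [CharP F₀ p]
    (hp : p ≠ 2) (lam : F₀) (hl : lam ^ 2 = -1) :
    ∃ Φ₀ : SpecialLinearGroup (Fin 2) (ZMod p) →* SpecialLinearGroup (Fin 2) F₀,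
      Function.Injective Φ₀ ∧ Φ₀.range ≤ Subgroup.closure (gens lam) := by
  have hMM : (!![-lam, 0; 1, -lam] : Matrix (Fin 2) (Fin 2) F₀) * !![lam, 0; 1, lam] = 1 := by
    ext i j
    fin_cases i <;> fin_cases j <;> simp [Matrix.mul_apply, Fin.sum_univ_two] <;>
      linear_combination (-1 : F₀) * hl
  let f : ZMod p →+* F₀ := ZMod.castHom (dvd_refl p) F₀
  have hf : Function.Injective f := f.injective
  let Φ₀ : SpecialLinearGroup (Fin 2) (ZMod p) →* SpecialLinearGroup (Fin 2) F₀ :=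
    (conjSL !![lam, 0; 1, lam] !![-lam, 0; 1, -lam] hMM).comp (SpecialLinearGroup.map f)
  have hΦ₀ : ∀ g, ((Φ₀ g : SpecialLinearGroup (Fin 2) F₀) : Matrix (Fin 2) (Fin 2) F₀) =
      !![lam, 0; 1, lam] * (g : Matrix (Fin 2) (Fin 2) (ZMod p)).map f * !![-lam, 0; 1, -lam] := by
    intro g
    rfl
  refine ⟨Φ₀, (conjSL_injective _ _ hMM).comp (map_injective f hf), ?_⟩
  rw [MonoidHom.range_eq_map, ← closure_gens_zmod p hp, MonoidHom.map_closure,
    Subgroup.closure_le]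
  rintro _ ⟨g, hg, rfl⟩
  -- the two generators
  obtain ⟨A, hA⟩ : ∃ A : SpecialLinearGroup (Fin 2) F₀,
      (A : Matrix (Fin 2) (Fin 2) F₀) = !![1, 0; 1, 1] :=
    ⟨⟨!![1, 0; 1, 1], by simp [Matrix.det_fin_two]⟩, rfl⟩
  obtain ⟨B, hB⟩ : ∃ B : SpecialLinearGroup (Fin 2) F₀,
      (B : Matrix (Fin 2) (Fin 2) F₀) = !![1, lam; 0, 1] :=
    ⟨⟨!![1, lam; 0, 1], by simp [Matrix.det_fin_two]⟩, rfl⟩
  have hmap1 : (!![1, 0; 1, 1] : Matrix (Fin 2) (Fin 2) (ZMod p)).map f = !![1, 0; 1, 1] := by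
    ext i j
    fin_cases i <;> fin_cases j <;> simp
  have hmap2 : (!![1, 1; 0, 1] : Matrix (Fin 2) (Fin 2) (ZMod p)).map f = !![1, 1; 0, 1] := by
    ext i j
    fin_cases i <;> fin_cases j <;> simp
  have hAm : A ∈ Subgroup.closure (gens lam) := Subgroup.subset_closure (Or.inl hA)
  have hBm : B ∈ Subgroup.closure (gens lam) := Subgroup.subset_closure (Or.inr hB)
  rcases hg with hg | hg
  · have : Φ₀ g = A := by
      apply Subtype.ext
      rw [hΦ₀, hg, hmap1, hA]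
      ext i j
      fin_cases i <;> fin_cases j <;> simp [Matrix.mul_apply, Fin.sum_univ_two] <;>
        linear_combination (-1 : F₀) * hl
    show Φ₀ g ∈ _
    rw [this]
    exact hAm
  · have : Φ₀ g = B * A * B⁻¹ := by
      apply eq_mul_inv_of_mul_eq
      apply Subtype.ext
      show ((Φ₀ g : SpecialLinearGroup (Fin 2) F₀) : Matrix (Fin 2) (Fin 2) F₀) *
        (B : Matrix (Fin 2) (Fin 2) F₀) =
        (B : Matrix (Fin 2) (Fin 2) F₀) * (A : Matrix (Fin 2) (Fin 2) F₀)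
      rw [hΦ₀, hg, hmap2, hA, hB]
      ext i j
      fin_cases i <;> fin_cases j <;> simp [Matrix.mul_apply, Fin.sum_univ_two] <;>
        first
        | linear_combination (-lam : F₀) * hl
        | linear_combination (1 - 2 * lam : F₀) * hl
        | linear_combination (lam - 1 : F₀) * hl
        | linear_combination (-1 : F₀) * hl

    show Φ₀ g ∈ _
    rw [this]
    exact mul_mem (mul_mem hBm hAm) (inv_mem hBm)

end Cfsg.Agent.Lib.Helper2.SL2p
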