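import Mathlib
import Cfsg.Agent.Lib.Helper2.SL2p2

set_option autoImplicit false

namespace Cfsg.Agent.Lib.Helper2.SL2p

open Matrix Cfsg.Agent.Lib.Helper1 Cfsg.Agent.Lib.Helper2.SU2

/-- a copy of `SL₂(𝔽_p)` inside the group generated by the two Dickson generators -/
theorem exists_hom_gens {F₀ : Type*} [Field F₀] [Fintype F₀] (p : ℕ) [Fact p.Prime] [CharP F₀ p]
    (hp : p ≠ 2) (lam : F₀) (hlam : lam ≠ 0)
    (hgen : Subfield.closure ({lam} : Set F₀) = ⊤) :
    ∃ Φ₀ : SpecialLinearGroup (Fin 2) (ZMod p) →* SpecialLinearGroup (Fin 2) F₀,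
      Function.Injective Φ₀ ∧ Φ₀.range ≤ Subgroup.closure (gens lam) := by
  have h2 : (2 : F₀) ≠ 0 := two_ne_zero_of_charP p hp
  rcases Cfsg.Agent.S0801.result h2 lam hlam hgen with h | h
  · let f : ZMod p →+* F₀ := ZMod.castHom (dvd_refl p) F₀
    refine ⟨SpecialLinearGroup.map f, map_injective f f.injective, ?_⟩
    have : Subgroup.closure (gens lam) = ⊤ := h.1
    rw [this]
    exact le_top
  · exact exists_hom_exceptional p hp lam h.2.1

variable {F : Type*} [Field F] [Fintype F]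

/-- a copy of `SL₂(𝔽_p)` inside the group generated by two opposite transvections -/
theorem exists_hom_transvections (p : ℕ) [Fact p.Prime] [CharP F p] (hp : p ≠ 2)
    (α γ : F) (hα : α ≠ 0) (hγ : γ ≠ 0) :
    ∃ Φ : SpecialLinearGroup (Fin 2) (ZMod p) →* SpecialLinearGroup (Fin 2) F,
      Function.Injective Φ ∧
        Φ.range ≤ Subgroup.closure ({t01 α, t10 γ} : Set (SpecialLinearGroup (Fin 2) F)) := by
  classical
  let F₀ : Subfield F := Subfield.closure ({α * γ} : Set F)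
  let lam₀ : F₀ := ⟨α * γ, Subfield.subset_closure rfl⟩
  have : Fintype F₀ := Fintype.ofFinite _
  have : CharP F₀ p := RingHom.charP F₀.subtype Subtype.val_injective p
  have hlam₀ : lam₀ ≠ 0 := by
    intro h
    have := congrArg Subtype.val h
    exact mul_ne_zero hα hγ this
  obtain ⟨Φ₀, hinj, hrange⟩ := exists_hom_gens p hp lam₀ hlam₀ (closure_self_eq_top (α * γ))
  have hDD : (!![1, 0; 0, γ⁻¹] : Matrix (Fin 2) (Fin 2) F) * !![1, 0; 0, γ] = 1 := by
    ext i j
    fin_cases i <;> fin_cases j <;> simp [Matrix.mul_apply, Fin.sum_univ_two, hγ]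
  let ψ : SpecialLinearGroup (Fin 2) F₀ →* SpecialLinearGroup (Fin 2) F :=
    (conjSL !![1, 0; 0, γ] !![1, 0; 0, γ⁻¹] hDD).comp (SpecialLinearGroup.map F₀.subtype)
  have hψ : ∀ g, ((ψ g : SpecialLinearGroup (Fin 2) F) : Matrix (Fin 2) (Fin 2) F) =
      !![1, 0; 0, γ] * (g : Matrix (Fin 2) (Fin 2) F₀).map F₀.subtype * !![1, 0; 0, γ⁻¹] := by
    intro g
    rfl
  have hψinj : Function.Injective ψ :=
    (conjSL_injective _ _ hDD).comp (map_injective F₀.subtype Subtype.val_injective)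
  have hmap1 : (!![1, 0; 1, 1] : Matrix (Fin 2) (Fin 2) F₀).map F₀.subtype = !![1, 0; 1, 1] := by
    ext i j
    fin_cases i <;> fin_cases j <;> simp
  have hmap2 : (!![1, lam₀; 0, 1] : Matrix (Fin 2) (Fin 2) F₀).map F₀.subtype =
      !![1, α * γ; 0, 1] := by
    ext i j
    fin_cases i <;> fin_cases j <;> simp [lam₀]
  refine ⟨ψ.comp Φ₀, hψinj.comp hinj, ?_⟩
  have h1 : (ψ.comp Φ₀).range ≤ (Subgroup.closure (gens lam₀)).map ψ := by
    rw [MonoidHom.range_comp]
    exact Subgroup.map_mono hrange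
  refine h1.trans ?_
  rw [MonoidHom.map_closure, Subgroup.closure_le]
  rintro _ ⟨g, hg, rfl⟩
  apply Subgroup.subset_closure
  rcases hg with hg | hg
  · right
    rw [Set.mem_singleton_iff]
    apply Subtype.ext
    rw [hψ, hg, hmap1, t10_val]
    ext i j
    fin_cases i <;> fin_cases j <;> simp [Matrix.mul_apply, Fin.sum_univ_two, hγ]
  · left
    apply Subtype.ext
    rw [hψ, hg, hmap2, t01_val]
    ext i j
    fin_cases i <;> fin_cases j <;> simp [Matrix.mul_apply, Fin.sum_univ_two, hγ]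

end Cfsg.Agent.Lib.Helper2.SL2p
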