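import Mathlib
import Cfsg.Agent.Lib.Helper2.SL2p3

set_option autoImplicit false

namespace Cfsg.Agent.Lib.Helper2.SL2p

open Matrix Cfsg.Agent.Lib.Helper1 Cfsg.Agent.Lib.Helper2.SU2

variable {F : Type*} [Field F] [Fintype F]

theorem t01_comm (s t : F) : t01 s * t01 t = t01 t * t01 s := by
  apply Subtype.ext
  show (t01 s : Matrix (Fin 2) (Fin 2) F) * (t01 t : Matrix (Fin 2) (Fin 2) F) =
    (t01 t : Matrix (Fin 2) (Fin 2) F) * (t01 s : Matrix (Fin 2) (Fin 2) F)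
  rw [t01_val, t01_val]
  ext i j
  fin_cases i <;> fin_cases j <;> simp [Matrix.mul_apply, Fin.sum_univ_two, add_comm]

/-- two distinct Sylow `p`-subgroups give a pair of opposite transvections up to conjugacy -/
theorem exists_pair (p : ℕ) [Fact p.Prime] [CharP F p]
    (H : Subgroup (SpecialLinearGroup (Fin 2) F)) (hH : 1 < Nat.card (Sylow p H)) :
    ∃ (u₁ u₂ w : SpecialLinearGroup (Fin 2) F) (α γ : F), u₁ ∈ H ∧ u₂ ∈ H ∧ α ≠ 0 ∧ γ ≠ 0 ∧
      w * u₁ * w⁻¹ = t01 α ∧ w * u₂ * w⁻¹ = t10 γ := by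
  classical
  have : Nontrivial (Sylow p H) := (Finite.one_lt_card_iff_nontrivial).1 hH
  obtain ⟨P₁, P₂, hne⟩ := exists_pair_ne (Sylow p H)
  -- Sylow subgroups of the big group containing them
  obtain ⟨S₁, hS₁⟩ := IsPGroup.exists_le_sylow (P₁.2.map H.subtype)
  obtain ⟨S₂, hS₂⟩ := IsPGroup.exists_le_sylow (P₂.2.map H.subtype)
  have hmax : ∀ (P : Sylow p H) (S : Sylow p (SpecialLinearGroup (Fin 2) F)),
      (P : Subgroup H).map H.subtype ≤ S →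
        (S : Subgroup (SpecialLinearGroup (Fin 2) F)).subgroupOf H = (P : Subgroup H) := by
    intro P S hPS
    apply P.3 (S.2.comap_of_injective H.subtype H.subtype_injective)
    intro x hx
    exact hPS ⟨x, hx, rfl⟩
  have hSne : S₁ ≠ S₂ := by
    intro h
    apply hne
    apply Sylow.ext
    rw [← hmax P₁ S₁ hS₁, ← hmax P₂ S₂ hS₂, h]
  -- nontrivial elements
  have hcard : Nat.card (P₁ : Subgroup H) = Nat.card (P₂ : Subgroup H) :=
    Nat.card_congr (Sylow.equiv P₁ P₂).toEquiv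
  have hP₁ne : (P₁ : Subgroup H) ≠ ⊥ := by
    intro h1
    have h2 : (P₂ : Subgroup H) = ⊥ := by
      rw [← Subgroup.card_eq_one, ← hcard, h1, Subgroup.card_bot]
    exact hne (Sylow.ext (h1.trans h2.symm))
  have hP₂ne : (P₂ : Subgroup H) ≠ ⊥ := by
    intro h2
    apply hP₁ne
    rw [← Subgroup.card_eq_one, hcard, h2, Subgroup.card_bot]
  obtain ⟨⟨v₁, hv₁⟩, hv₁ne⟩ := (Subgroup.ne_bot_iff_exists_ne_one).1 hP₁ne
  obtain ⟨⟨v₂, hv₂⟩, hv₂ne⟩ := (Subgroup.ne_bot_iff_exists_ne_one).1 hP₂ne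
  have hv₁ne' : (v₁ : SpecialLinearGroup (Fin 2) F) ≠ 1 := by
    intro h
    apply hv₁ne
    apply Subtype.ext
    apply Subtype.ext
    exact h
  have hv₂ne' : (v₂ : SpecialLinearGroup (Fin 2) F) ≠ 1 := by
    intro h
    apply hv₂ne
    apply Subtype.ext
    apply Subtype.ext
    exact h
  obtain ⟨x, hx⟩ := sylow_SL2_eq_cj p S₁
  obtain ⟨y, hy⟩ := sylow_SL2_eq_cj p S₂
  have hv₁S : (v₁ : SpecialLinearGroup (Fin 2) F) ∈ cj x (uSL F) := by
    rw [← hx]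
    exact hS₁ ⟨v₁, hv₁, rfl⟩
  have hv₂S : (v₂ : SpecialLinearGroup (Fin 2) F) ∈ cj y (uSL F) := by
    rw [← hy]
    exact hS₂ ⟨v₂, hv₂, rfl⟩
  rw [mem_cj, mem_uSL_iff] at hv₁S hv₂S
  obtain ⟨α, hα⟩ := hv₁S
  obtain ⟨β, hβ⟩ := hv₂S
  have hα0 : α ≠ 0 := by
    rintro rfl
    apply hv₁ne'
    have h1 : x⁻¹ * (v₁ : SpecialLinearGroup (Fin 2) F) * x = 1 := by
      rw [hα]
      exact SpecialLinearGroup.transvection_coeff_zero _
    calc (v₁ : SpecialLinearGroup (Fin 2) F) = x * (x⁻¹ * v₁ * x) * x⁻¹ := by group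
      _ = 1 := by rw [h1]; group
  have hβ0 : β ≠ 0 := by
    rintro rfl
    apply hv₂ne'
    have h1 : y⁻¹ * (v₂ : SpecialLinearGroup (Fin 2) F) * y = 1 := by
      rw [hβ]
      exact SpecialLinearGroup.transvection_coeff_zero _
    calc (v₂ : SpecialLinearGroup (Fin 2) F) = y * (y⁻¹ * v₂ * y) * y⁻¹ := by group
      _ = 1 := by rw [h1]; group
  -- the relative position
  have hc : (x⁻¹ * y) 1 0 ≠ 0 := by
    intro h0
    apply hSne
    apply Sylow.ext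
    rw [hx, hy]
    have h1 := cj_uSL_of_lower_zero (x⁻¹ * y) h0
    have h2 : cj y (uSL F) = cj x (cj (x⁻¹ * y) (uSL F)) := by
      rw [cj_cj]
      congr 1
      group
    rw [h2, h1]
  set g := x⁻¹ * y with hg
  set yy : SpecialLinearGroup (Fin 2) F := t01 (-(g 0 0) / (g 1 0)) with hyy
  have h00 : (yy * g) 0 0 = 0 := by
    show ((yy : Matrix (Fin 2) (Fin 2) F) * (g : Matrix (Fin 2) (Fin 2) F)) 0 0 = 0
    rw [hyy, t01_val, Matrix.mul_apply, Fin.sum_univ_two]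
    simp
    field_simp
    ring
  have h10 : (yy * g) 1 0 = g 1 0 := by
    show ((yy : Matrix (Fin 2) (Fin 2) F) * (g : Matrix (Fin 2) (Fin 2) F)) 1 0 = g 1 0
    rw [hyy, t01_val, Matrix.mul_apply, Fin.sum_univ_two]
    simp
  refine ⟨v₁, v₂, yy * x⁻¹, α, -((yy * g) 1 0) ^ 2 * β, v₁.2, v₂.2, hα0, ?_, ?_, ?_⟩
  · rw [h10]
    exact mul_ne_zero (neg_ne_zero.2 (pow_ne_zero 2 hc)) hβ0
  · calc yy * x⁻¹ * (v₁ : SpecialLinearGroup (Fin 2) F) * (yy * x⁻¹)⁻¹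
        = yy * (x⁻¹ * v₁ * x) * yy⁻¹ := by group
      _ = yy * t01 α * yy⁻¹ := by rw [hα]
      _ = t01 α := by rw [hyy, t01_comm, mul_inv_cancel_right]
  · calc yy * x⁻¹ * (v₂ : SpecialLinearGroup (Fin 2) F) * (yy * x⁻¹)⁻¹
        = (yy * g) * (y⁻¹ * v₂ * y) * (yy * g)⁻¹ := by rw [hg]; group
      _ = (yy * g) * t01 β * (yy * g)⁻¹ := by rw [hβ]
      _ = t10 (-((yy * g) 1 0) ^ 2 * β) := conj_t01_of_zero (yy * g) h00 β

end Cfsg.Agent.Lib.Helper2.SL2p
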