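import Mathlib
import Cfsg.Agent.Lib.Helper2.SL2p4

set_option autoImplicit false
set_option linter.unusedSectionVars false

namespace Cfsg.Agent.Lib.Helper2.SL2p

open Matrix Cfsg.Agent.Lib.Helper1 Cfsg.Agent.Lib.Helper2.SU2

variable {F : Type*} [Field F] [Fintype F]

/-- a subgroup of `SL₂(F)` with more than one Sylow `p`-subgroup contains an injective image of
`SL₂(𝔽_p)` -/
theorem exists_hom_le (p : ℕ) [Fact p.Prime] [CharP F p] (hp : p ≠ 2)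
    (H : Subgroup (SpecialLinearGroup (Fin 2) F)) (hH : 1 < Nat.card (Sylow p H)) :
    ∃ Ψ : SpecialLinearGroup (Fin 2) (ZMod p) →* SpecialLinearGroup (Fin 2) F,
      Function.Injective Ψ ∧ Ψ.range ≤ H := by
  obtain ⟨u₁, u₂, w, α, γ, hu₁, hu₂, hα, hγ, h1, h2⟩ := exists_pair p H hH
  obtain ⟨Φ, hinj, hrange⟩ := exists_hom_transvections p hp α γ hα hγ
  refine ⟨(MulAut.conj w⁻¹).toMonoidHom.comp Φ,
    (MulAut.conj w⁻¹).injective.comp hinj, ?_⟩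
  rw [MonoidHom.range_comp]
  refine (Subgroup.map_mono hrange).trans ?_
  rw [MonoidHom.map_closure, Subgroup.closure_le]
  rintro _ ⟨g, hg, rfl⟩
  rcases hg with rfl | hg
  · show w⁻¹ * t01 α * w⁻¹⁻¹ ∈ H
    rw [← h1]
    have : w⁻¹ * (w * u₁ * w⁻¹) * w⁻¹⁻¹ = u₁ := by group
    rw [this]
    exact hu₁
  · rw [Set.mem_singleton_iff] at hg
    subst hg
    show w⁻¹ * t10 γ * w⁻¹⁻¹ ∈ H
    rw [← h2]
    have : w⁻¹ * (w * u₂ * w⁻¹) * w⁻¹⁻¹ = u₂ := by group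
    rw [this]
    exact hu₂

theorem main274 (p : ℕ) [Fact p.Prime] [CharP F p] (hp : p ≠ 2)
    (H : Subgroup (SpecialLinearGroup (Fin 2) F)) (hH : 1 < Nat.card (Sylow p H)) :
    ∃ K : Subgroup (SpecialLinearGroup (Fin 2) F), K ≤ H ∧
      Nonempty (K ≃* SpecialLinearGroup (Fin 2) (ZMod p)) := by
  obtain ⟨Ψ, hinj, hrange⟩ := exists_hom_le p hp H hH
  exact ⟨Ψ.range, hrange, ⟨(MonoidHom.ofInjective hinj).symm⟩⟩

end Cfsg.Agent.Lib.Helper2.SL2p
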