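import Mathlib
import Cfsg.Agent.Lib.Helper2.SL2p5
import Cfsg.Agent.S0800
import Cfsg.Agent.Lib.Lead.UniqueOrderP5

set_option autoImplicit false
set_option linter.unusedSectionVars false

namespace Cfsg.Agent.Lib.Helper2.SL2p

open Matrix Cfsg.Agent.Lib.Helper1 Cfsg.Agent.Lib.Helper2.SU2

/-- the Sylow `2`-subgroups of `SL₂(𝔽_p)` are not cyclic -/
theorem sylow_two_not_cyclic (p : ℕ) [Fact p.Prime] (hp : p ≠ 2)
    (T : Sylow 2 (SpecialLinearGroup (Fin 2) (ZMod p))) :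
    ¬ IsCyclic (T : Subgroup (SpecialLinearGroup (Fin 2) (ZMod p))) := by
  intro hcyc
  have hpp : p.Prime := Fact.out
  have hp3 : 3 ≤ p := by
    have := hpp.two_le
    omega
  have hodd : Odd p := hpp.odd_of_ne_two hp
  obtain ⟨s, hs⟩ := hcyc.exists_generator
  have hord : orderOf s = Nat.card (T : Subgroup (SpecialLinearGroup (Fin 2) (ZMod p))) :=
    orderOf_eq_card_of_forall_mem_zpowers hs
  have hcardT := Sylow.card_eq_multiplicity T
  have hN : Nat.card (SpecialLinearGroup (Fin 2) (ZMod p)) = p * (p ^ 2 - 1) := by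
    rw [Cfsg.Agent.Lib.Helper1.card_SL2, ZMod.card]
  set m := (Nat.card (SpecialLinearGroup (Fin 2) (ZMod p))).factorization 2 with hm
  have hord' : orderOf (s : SpecialLinearGroup (Fin 2) (ZMod p)) = 2 ^ m := by
    rw [Subgroup.orderOf_coe, hord, hcardT]
  have hcop : Nat.Coprime (orderOf (s : SpecialLinearGroup (Fin 2) (ZMod p))) p := by
    rw [hord']
    apply Nat.Coprime.pow_left
    rw [Nat.coprime_comm]
    exact (Nat.Prime.coprime_iff_not_dvd hpp).2 (fun h => hp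
      ((Nat.prime_dvd_prime_iff_eq hpp Nat.prime_two).1 h))
  have hdvd := Cfsg.Agent.S0800.result (F := ZMod p) (ZMod.card p) p
    (s : SpecialLinearGroup (Fin 2) (ZMod p)) hcop
  rw [hord'] at hdvd
  have hNpos : Nat.card (SpecialLinearGroup (Fin 2) (ZMod p)) ≠ 0 := Nat.card_pos.ne'
  have hfact : p ^ 2 - 1 = (p - 1) * (p + 1) := by
    obtain ⟨k, rfl⟩ : ∃ k, p = k + 1 := ⟨p - 1, by omega⟩
    simp only [Nat.add_sub_cancel]
    have : (k + 1) ^ 2 = k * (k + 1 + 1) + 1 := by ring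
    rw [this, Nat.add_sub_cancel]
  have h2a : 2 ∣ p - 1 := by
    obtain ⟨k, hk⟩ := hodd
    exact ⟨k, by omega⟩
  have h2b : 2 ∣ p + 1 := by
    obtain ⟨k, hk⟩ := hodd
    exact ⟨k + 1, by omega⟩
  have hcontra : 2 ^ (m + 1) ∣ Nat.card (SpecialLinearGroup (Fin 2) (ZMod p)) := by
    rw [hN, hfact, pow_succ]
    rcases hdvd with h | h
    · exact Dvd.dvd.mul_left (mul_dvd_mul h h2b) p
    · rw [mul_comm (p - 1) (p + 1)]
      exact Dvd.dvd.mul_left (mul_dvd_mul h h2a) p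
  have := (Nat.prime_two.pow_dvd_iff_le_factorization hNpos).1 hcontra
  omega

end Cfsg.Agent.Lib.Helper2.SL2p
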