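import Mathlib
import Cfsg.Agent.Lib.Helper2.SL2p6
import Cfsg.Agent.Lib.Helper2.DSubT7

set_option autoImplicit false
set_option linter.unusedSectionVars false

namespace Cfsg.Agent.Lib.Helper2.SL2p

open Matrix Cfsg.Agent.Lib.Helper1 Cfsg.Agent.Lib.Lead

variable {F : Type*} [Field F] [Fintype F]

/-- the only involution of `SL₂(F)` in odd characteristic is `-1` -/
theorem eq_neg_one_of_mul_self (h2 : (2 : F) ≠ 0) (t : SpecialLinearGroup (Fin 2) F)
    (htt : t * t = 1) (hne : t ≠ 1) : t = -1 := by
  obtain ⟨c, hc⟩ := Cfsg.Agent.Lib.Helper5.scalar_of_mul_self_eq_one h2 _ htt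
  have hcen : t ∈ Subgroup.center (SpecialLinearGroup (Fin 2) F) := by
    have := (Cfsg.Agent.Lib.Helper5.mk_eq_one_iff t).mpr ⟨c, hc⟩
    exact (QuotientGroup.eq_one_iff _).mp this
  rcases DSub.center_sl_two _ hcen with h | h
  · exact absurd h hne
  · exact h

theorem main275 (p : ℕ) [Fact p.Prime] [CharP F p] (hp : p ≠ 2)
    (H : Subgroup (SpecialLinearGroup (Fin 2) F)) (hH : 1 < Nat.card (Sylow p H))
    (S : Sylow 2 H) :
    ∃ k : ℕ, 1 ≤ k ∧ Nonempty ((S : Subgroup H) ≃* QuaternionGroup (2 ^ k)) := by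
  classical
  have h2 : (2 : F) ≠ 0 := two_ne_zero_of_charP p hp
  have : Fact (Nat.Prime 2) := ⟨Nat.prime_two⟩
  -- unique involution
  have hinv : ∀ a : ↥(S : Subgroup H), a ≠ 1 → a ^ 2 = 1 →
      ((a : H) : SpecialLinearGroup (Fin 2) F) = -1 := by
    intro a hne hsq
    apply eq_neg_one_of_mul_self h2
    · have := congrArg (fun z : ↥(S : Subgroup H) =>
        ((z : H) : SpecialLinearGroup (Fin 2) F)) hsq
      simpa [pow_two] using this
    · intro h
      apply hne
      apply Subtype.ext
      apply Subtype.ext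
      exact h
  have huniq : UniqueOrderP 2 ↥(S : Subgroup H) := by
    have key : ∀ A B : Subgroup ↥(S : Subgroup H), Nat.card A = 2 → Nat.card B = 2 → A ≤ B := by
      intro A B hA hB
      obtain ⟨b, hb⟩ := exists_prime_orderOf_dvd_card' (G := B) 2 (by rw [hB])
      have hb1 : (b : ↥(S : Subgroup H)) ≠ 1 := by
        intro h
        have : b = 1 := Subtype.ext h
        rw [this, orderOf_one] at hb
        omega
      have hb2 : (b : ↥(S : Subgroup H)) ^ 2 = 1 := by
        have := pow_orderOf_eq_one b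
        rw [hb] at this
        exact congrArg Subtype.val this
      intro x hx
      by_cases hx1 : x = 1
      · rw [hx1]; exact one_mem _
      · have hx2 : x ^ 2 = 1 := by
          have h1 : (⟨x, hx⟩ : A) ^ Nat.card A = 1 := pow_card_eq_one'
          rw [hA] at h1
          exact congrArg Subtype.val h1
        have hxb : x = (b : ↥(S : Subgroup H)) := by
          apply Subtype.ext
          apply Subtype.ext
          rw [hinv x hx1 hx2, hinv _ hb1 hb2]
        rw [hxb]
        exact b.2
    intro A B hA hB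
    exact le_antisymm (key A B hA hB) (key B A hB hA)
  -- cyclic is impossible
  have hnc : ¬ IsCyclic ↥(S : Subgroup H) := by
    intro hcyc
    obtain ⟨Ψ, hinj, hrange⟩ := exists_hom_le p hp H hH
    obtain ⟨T⟩ : Nonempty (Sylow 2 (SpecialLinearGroup (Fin 2) (ZMod p))) := inferInstance
    apply sylow_two_not_cyclic p hp T
    -- the image of `T` in `H`
    let Ψ' : SpecialLinearGroup (Fin 2) (ZMod p) →* H := Ψ.codRestrict H (fun g => hrange ⟨g, rfl⟩)
    have hΨ'inj : Function.Injective Ψ' := by
      intro a b hab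
      apply hinj
      exact congrArg Subtype.val hab
    obtain ⟨S', hS'⟩ := IsPGroup.exists_le_sylow (T.2.map Ψ')
    have hcyc' : IsCyclic ↥(S' : Subgroup H) :=
      isCyclic_of_surjective (Sylow.equiv S S') (Sylow.equiv S S').surjective
    have hcycT' : IsCyclic ↥((T : Subgroup (SpecialLinearGroup (Fin 2) (ZMod p))).map Ψ') := by
      let incl : ↥((T : Subgroup (SpecialLinearGroup (Fin 2) (ZMod p))).map Ψ') →*
          ↥(S' : Subgroup H) := Subgroup.inclusion hS'
      exact isCyclic_of_injective incl (Subgroup.inclusion_injective hS')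
    let e := (T : Subgroup (SpecialLinearGroup (Fin 2) (ZMod p))).equivMapOfInjective Ψ' hΨ'inj
    exact isCyclic_of_surjective e.symm e.symm.surjective
  rcases UniqueOrderP.main S.2 huniq with h | ⟨-, n, ⟨e⟩⟩
  · exact absurd h hnc
  · refine ⟨n, ?_, ⟨e⟩⟩
    by_contra hn
    have hn0 : n = 0 := by omega
    subst hn0
    apply hnc
    have : IsCyclic (QuaternionGroup (2 ^ 0)) := QuaternionGroup.quaternionGroup_one_isCyclic
    exact isCyclic_of_surjective e.symm e.symm.surjective

end Cfsg.Agent.Lib.Helper2.SL2p
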