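import Mathlib

set_option autoImplicit false

namespace Cfsg.Agent.Lib.Helper2

namespace SL3Inv

open Matrix Module

variable {F : Type*} [Field F]

/-- the standard transvection -/
def E : SpecialLinearGroup (Fin 3) F :=
  ⟨!![1, 1, 0; 0, 1, 0; 0, 0, 1], by simp [Matrix.det_fin_three]⟩

/-- in characteristic two every involution of `SL₃` is conjugate to the standard transvection -/
theorem exists_conj_E (h2 : (2 : F) = 0) (g : SpecialLinearGroup (Fin 3) F) (hg : g * g = 1)
    (hg1 : g ≠ 1) : ∃ c : SpecialLinearGroup (Fin 3) F, c * g * c⁻¹ = E := by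
  classical
  obtain ⟨A, hA⟩ : ∃ A : Matrix (Fin 3) (Fin 3) F, A = (g : Matrix (Fin 3) (Fin 3) F) := ⟨_, rfl⟩
  have hAA : A * A = 1 := by
    rw [hA]
    have := congrArg (fun z : SpecialLinearGroup (Fin 3) F => (z : Matrix (Fin 3) (Fin 3) F)) hg
    simpa using this
  obtain ⟨N, hN⟩ : ∃ N : Matrix (Fin 3) (Fin 3) F, N = A - 1 := ⟨_, rfl⟩
  have hA' : A = N + 1 := by rw [hN]; abel
  have hNN : N * N = 0 := by
    have h3 : A + A = 0 := by rw [← two_smul F A, h2, zero_smul]
    have h4 : (1 : Matrix (Fin 3) (Fin 3) F) + 1 = 0 := by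
      rw [← two_smul F (1 : Matrix (Fin 3) (Fin 3) F), h2, zero_smul]
    rw [hN, sub_mul, mul_sub, mul_sub, hAA, mul_one, one_mul, mul_one]
    have : (1 : Matrix (Fin 3) (Fin 3) F) - A - (A - 1) = (1 + 1) - (A + A) := by abel
    rw [this, h3, h4, sub_zero]
  have hN0 : N ≠ 0 := by
    intro h0
    apply hg1
    apply Subtype.ext
    rw [← hA, hA', h0, zero_add]
    rfl
  obtain ⟨v, hv⟩ : ∃ v : Fin 3 → F, v ᵥ* N ≠ 0 := by
    by_contra hcon
    push Not at hcon
    apply hN0
    ext i j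
    have := congrFun (hcon (Pi.single i 1)) j
    rw [Matrix.single_one_vecMul] at this
    exact this
  obtain ⟨w, hw⟩ : ∃ w : Fin 3 → F, w = v ᵥ* N := ⟨_, rfl⟩
  rw [← hw] at hv
  have hwN : w ᵥ* N = 0 := by rw [hw, Matrix.vecMul_vecMul, hNN, Matrix.vecMul_zero]
  have hle : LinearMap.range N.vecMulLinear ≤ LinearMap.ker N.vecMulLinear := by
    rintro _ ⟨x, rfl⟩
    rw [LinearMap.mem_ker, Matrix.vecMulLinear_apply, Matrix.vecMulLinear_apply,
      Matrix.vecMul_vecMul, hNN, Matrix.vecMul_zero]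
  have hrn := LinearMap.finrank_range_add_finrank_ker N.vecMulLinear
  rw [Module.finrank_fin_fun] at hrn
  have hle' := Submodule.finrank_mono hle
  have hk2 : 2 ≤ finrank F (LinearMap.ker N.vecMulLinear) := by omega
  obtain ⟨u, huk, hus⟩ : ∃ u ∈ LinearMap.ker N.vecMulLinear, u ∉ Submodule.span F {w} := by
    by_contra hcon
    push Not at hcon
    have h3 : LinearMap.ker N.vecMulLinear ≤ Submodule.span F {w} := fun x hx => hcon x hx
    have h4 := Submodule.finrank_mono h3
    rw [finrank_span_singleton hv] at h4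
    omega
  have huN : u ᵥ* N = 0 := huk
  obtain ⟨R, hR⟩ : ∃ R : Matrix (Fin 3) (Fin 3) F, R = Matrix.of ![v, w, u] := ⟨_, rfl⟩
  have hli : LinearIndependent F R.row := by
    rw [Fintype.linearIndependent_iff]
    intro a ha
    rw [Fin.sum_univ_three] at ha
    have hr0 : R.row 0 = v := by rw [hR]; rfl
    have hr1 : R.row 1 = w := by rw [hR]; rfl
    have hr2 : R.row 2 = u := by rw [hR]; rfl
    rw [hr0, hr1, hr2] at ha
    have h3 := congrArg (fun x => x ᵥ* N) ha
    simp only [Matrix.add_vecMul, Matrix.smul_vecMul, hwN, huN, smul_zero, add_zero,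
      Matrix.zero_vecMul, ← hw] at h3
    have ha0 : a 0 = 0 := by
      rcases smul_eq_zero.1 h3 with h4 | h4
      · exact h4
      · exact absurd h4 hv
    rw [ha0, zero_smul, zero_add] at ha
    have ha2 : a 2 = 0 := by
      by_contra hne
      apply hus
      have h5 : a 2 • u = -(a 1 • w) := eq_neg_of_add_eq_zero_right ha
      have h6 : u = (a 2)⁻¹ • (a 2 • u) := by rw [smul_smul, inv_mul_cancel₀ hne, one_smul]
      rw [h6, h5, smul_neg, smul_smul]
      exact Submodule.neg_mem _ (Submodule.smul_mem _ _ (Submodule.mem_span_singleton_self w))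
    rw [ha2, zero_smul, add_zero] at ha
    have ha1 : a 1 = 0 := by
      rcases smul_eq_zero.1 ha with h4 | h4
      · exact h4
      · exact absurd h4 hv
    intro i
    fin_cases i
    · exact ha0
    · exact ha1
    · exact ha2
  have hunit : IsUnit R.det := (Matrix.isUnit_iff_isUnit_det R).1
    (Matrix.linearIndependent_rows_iff_isUnit.1 hli)
  obtain ⟨d, hd⟩ : ∃ d : F, d = R.det := ⟨_, rfl⟩
  have hd0 : d ≠ 0 := by
    rw [hd]
    exact hunit.ne_zero
  obtain ⟨R', hR'⟩ : ∃ R' : Matrix (Fin 3) (Fin 3) F, R' = R.updateRow 2 (d⁻¹ • u) := ⟨_, rfl⟩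
  have hdet : R'.det = 1 := by
    rw [hR', Matrix.det_updateRow_smul]
    have : R.updateRow 2 u = R := by
      have hr2 : R 2 = u := by rw [hR]; rfl
      rw [← hr2, Matrix.updateRow_eq_self]
    rw [this, ← hd, inv_mul_cancel₀ hd0]
  have hr0 : R' 0 = v := by
    rw [hR', Matrix.updateRow_ne (by decide : (0 : Fin 3) ≠ 2), hR]; rfl
  have hr1 : R' 1 = w := by
    rw [hR', Matrix.updateRow_ne (by decide : (1 : Fin 3) ≠ 2), hR]; rfl
  have hr2 : R' 2 = d⁻¹ • u := by
    rw [hR', Matrix.updateRow_self]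
  have hvA : v ᵥ* A = v + w := by
    rw [hA', Matrix.vecMul_add, Matrix.vecMul_one, ← hw, add_comm]
  have hwA : w ᵥ* A = w := by
    rw [hA', Matrix.vecMul_add, Matrix.vecMul_one, hwN, zero_add]
  have huA : u ᵥ* A = u := by
    rw [hA', Matrix.vecMul_add, Matrix.vecMul_one, huN, zero_add]
  have hkey : R' * A = (!![1, 1, 0; 0, 1, 0; 0, 0, 1] : Matrix (Fin 3) (Fin 3) F) * R' := by
    ext i j
    rw [Matrix.mul_apply_eq_vecMul, Matrix.mul_apply, Fin.sum_univ_three]
    fin_cases i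
    · show (R' 0 ᵥ* A) j = _
      rw [hr0, hvA]
      simp [hr0, hr1]
    · show (R' 1 ᵥ* A) j = _
      rw [hr1, hwA]
      simp
    · show (R' 2 ᵥ* A) j = _
      rw [hr2, Matrix.smul_vecMul, huA]
      simp
  refine ⟨⟨R', hdet⟩, ?_⟩
  refine _root_.mul_inv_eq_iff_eq_mul.2 ?_
  apply Subtype.ext
  show R' * (g : Matrix (Fin 3) (Fin 3) F) = _
  rw [← hA, hkey]
  rfl

end SL3Inv

end Cfsg.Agent.Lib.Helper2
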