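import Mathlib
import Cfsg.Agent.Lib.Helper2.SL3Inv1

set_option autoImplicit false

namespace Cfsg.Agent.Lib.Helper2

namespace SL3Inv

open Matrix Module

variable {F : Type*} [Field F]

theorem center_pow_three (z : SpecialLinearGroup (Fin 3) F)
    (hz : z ∈ Subgroup.center (SpecialLinearGroup (Fin 3) F)) : z ^ 3 = 1 := by
  obtain ⟨r, hr, hz'⟩ := Matrix.SpecialLinearGroup.mem_center_iff.1 hz
  rw [Fintype.card_fin] at hr
  apply Subtype.ext
  rw [Matrix.SpecialLinearGroup.coe_pow, ← hz', ← map_pow, hr, map_one]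
  rfl

/-- an involution of `PSL₃` lifts to an involution of `SL₃` -/
theorem exists_lift_invol (x : ProjectiveSpecialLinearGroup (Fin 3) F) (hx : orderOf x = 2) :
    ∃ g : SpecialLinearGroup (Fin 3) F, g * g = 1 ∧ g ≠ 1 ∧
      (QuotientGroup.mk g : ProjectiveSpecialLinearGroup (Fin 3) F) = x := by
  obtain ⟨g₀, rfl⟩ := QuotientGroup.mk_surjective x
  have h1 : (QuotientGroup.mk g₀ : ProjectiveSpecialLinearGroup (Fin 3) F) ^ 2 = 1 := by
    have := pow_orderOf_eq_one (QuotientGroup.mk g₀ : ProjectiveSpecialLinearGroup (Fin 3) F)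
    rw [hx] at this
    exact this
  have hne : (QuotientGroup.mk g₀ : ProjectiveSpecialLinearGroup (Fin 3) F) ≠ 1 := by
    intro h
    rw [h, orderOf_one] at hx
    omega
  rw [← QuotientGroup.mk_pow, QuotientGroup.eq_one_iff] at h1
  have hz3 := center_pow_three _ h1
  have hzc : ∀ y : SpecialLinearGroup (Fin 3) F, g₀ ^ 2 * y = y * g₀ ^ 2 :=
    fun y => (Subgroup.mem_center_iff.1 h1 y).symm
  have hmk : (QuotientGroup.mk (g₀ * g₀ ^ 2) : ProjectiveSpecialLinearGroup (Fin 3) F) =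
      QuotientGroup.mk g₀ := by
    rw [QuotientGroup.mk_mul, (QuotientGroup.eq_one_iff (g₀ ^ 2)).2 h1, mul_one]
  refine ⟨g₀ * g₀ ^ 2, ?_, ?_, hmk⟩
  · have : g₀ * g₀ ^ 2 * (g₀ * g₀ ^ 2) = (g₀ ^ 2) ^ 3 := by
      rw [← pow_succ', ← pow_mul, ← pow_add]
    rw [this, hz3]
  · intro h
    apply hne
    rw [← hmk, h]
    rfl

/-- in characteristic two all involutions of `PSL₃` are conjugate -/
theorem isConj_invol (h2 : (2 : F) = 0) (x y : ProjectiveSpecialLinearGroup (Fin 3) F)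
    (hx : orderOf x = 2) (hy : orderOf y = 2) : IsConj x y := by
  obtain ⟨g, hg, hg1, rfl⟩ := exists_lift_invol x hx
  obtain ⟨h, hh, hh1, rfl⟩ := exists_lift_invol y hy
  obtain ⟨c, hc⟩ := exists_conj_E h2 g hg hg1
  obtain ⟨c', hc'⟩ := exists_conj_E h2 h hh hh1
  have h3 : IsConj g h := by
    rw [isConj_iff]
    refine ⟨c'⁻¹ * c, ?_⟩
    have : c'⁻¹ * c * g * (c'⁻¹ * c)⁻¹ = c'⁻¹ * (c * g * c⁻¹) * c' := by group
    rw [this, hc, ← hc']
    group
  exact MonoidHom.map_isConj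
    (QuotientGroup.mk' (Subgroup.center (SpecialLinearGroup (Fin 3) F))) h3

end SL3Inv

end Cfsg.Agent.Lib.Helper2
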