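import Mathlib

/-!
# S2278: explicit `3 × 3` matrices for the two-conjugate-regular-unipotents generation of `SL_3(F)`

Matrices and polynomial identities between them (valid over any field, except where `2 = 0` is
assumed explicitly).
-/

set_option autoImplicit false

namespace Cfsg.Agent.Lib.Helper2.SL3Two

open Matrix

variable {F : Type*} [Field F]

/-- the upper Jordan block -/
def uM : Matrix (Fin 3) (Fin 3) F := !![1, 1, 0; 0, 1, 1; 0, 0, 1]

/-- its inverse -/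
def uiM : Matrix (Fin 3) (Fin 3) F := !![1, -1, 1; 0, 1, -1; 0, 0, 1]

/-- transvections with axis `e₁ᵀ`: `1 + (y e₂ + y' e₃) e₁ᵀ` -/
def WM (y y' : F) : Matrix (Fin 3) (Fin 3) F := !![1, 0, 0; y, 1, 0; y', 0, 1]

/-- transvections with axis `e₃ᵀ`: `1 + (y e₂ + y' e₁) e₃ᵀ` -/
def ZM (y y' : F) : Matrix (Fin 3) (Fin 3) F := !![1, 0, y'; 0, 1, y; 0, 0, 1]

/-- the conjugating element of path A -/
def gAM (s : F) : Matrix (Fin 3) (Fin 3) F := !![1, 0, 0; -2, -1, 0; 4 - s, 2 - s, -1]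

/-- `x = u v⁻¹` of path A -/
def xAM (s : F) : Matrix (Fin 3) (Fin 3) F := !![-1, 0, 0; 4 - s, 1, 0; 8, s, -1]

/-- the second generator of path B (characteristic two) -/
def vBM (b : F) : Matrix (Fin 3) (Fin 3) F := !![0, 0, -b⁻¹; 0, 1, b; b, 0, 0]

/-- the conjugating element of path B -/
def gBM (b : F) : Matrix (Fin 3) (Fin 3) F := !![0, -b⁻¹, 0; b, b, 0; 0, 1, 1]

/-- the square of `vB` in characteristic two -/
def V2M (b : F) : Matrix (Fin 3) (Fin 3) F := !![1, 0, 0; b * b, 1, b; 0, 0, 1]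


def u3 : SpecialLinearGroup (Fin 3) F := ⟨uM, by simp [uM, Matrix.det_fin_three]⟩
def u3i : SpecialLinearGroup (Fin 3) F := ⟨uiM, by simp [uiM, Matrix.det_fin_three]⟩
def W (y y' : F) : SpecialLinearGroup (Fin 3) F := ⟨WM y y', by simp [WM, Matrix.det_fin_three]⟩
def Z (y y' : F) : SpecialLinearGroup (Fin 3) F := ⟨ZM y y', by simp [ZM, Matrix.det_fin_three]⟩
def gA (s : F) : SpecialLinearGroup (Fin 3) F := ⟨gAM s, by simp [gAM, Matrix.det_fin_three]⟩
def xA (s : F) : SpecialLinearGroup (Fin 3) F := ⟨xAM s, by simp [xAM, Matrix.det_fin_three]⟩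
def V2 (b : F) : SpecialLinearGroup (Fin 3) F := ⟨V2M b, by simp [V2M, Matrix.det_fin_three]⟩

def vB (b : F) (hb : b ≠ 0) : SpecialLinearGroup (Fin 3) F :=
  ⟨vBM b, by simp [vBM, Matrix.det_fin_three, hb]⟩
def gB (b : F) (hb : b ≠ 0) : SpecialLinearGroup (Fin 3) F :=
  ⟨gBM b, by simp [gBM, Matrix.det_fin_three, hb]⟩

theorem coe_u3 : ((u3 : SpecialLinearGroup (Fin 3) F) : Matrix (Fin 3) (Fin 3) F) = uM := rfl
theorem coe_u3i : ((u3i : SpecialLinearGroup (Fin 3) F) : Matrix (Fin 3) (Fin 3) F) = uiM := rfl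
theorem coe_W (y y' : F) : ((W y y' : SpecialLinearGroup (Fin 3) F) : Matrix (Fin 3) (Fin 3) F) = WM y y' := rfl
theorem coe_Z (y y' : F) : ((Z y y' : SpecialLinearGroup (Fin 3) F) : Matrix (Fin 3) (Fin 3) F) = ZM y y' := rfl
theorem coe_gA (s : F) : ((gA s : SpecialLinearGroup (Fin 3) F) : Matrix (Fin 3) (Fin 3) F) = gAM s := rfl
theorem coe_xA (s : F) : ((xA s : SpecialLinearGroup (Fin 3) F) : Matrix (Fin 3) (Fin 3) F) = xAM s := rfl
theorem coe_V2 (b : F) : ((V2 b : SpecialLinearGroup (Fin 3) F) : Matrix (Fin 3) (Fin 3) F) = V2M b := rfl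
theorem coe_vB (b : F) (hb : b ≠ 0) :
    ((vB b hb : SpecialLinearGroup (Fin 3) F) : Matrix (Fin 3) (Fin 3) F) = vBM b := rfl
theorem coe_gB (b : F) (hb : b ≠ 0) :
    ((gB b hb : SpecialLinearGroup (Fin 3) F) : Matrix (Fin 3) (Fin 3) F) = gBM b := rfl

/-! ### general identities -/

theorem u3_mul_u3i : (u3 : SpecialLinearGroup (Fin 3) F) * u3i = 1 := by
  apply Subtype.ext
  rw [Matrix.SpecialLinearGroup.coe_mul, coe_u3, coe_u3i, Matrix.SpecialLinearGroup.coe_one]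
  ext i j
  fin_cases i <;> fin_cases j <;> simp [uM, uiM, Matrix.mul_apply, Fin.sum_univ_three]

theorem u3_inv : (u3 : SpecialLinearGroup (Fin 3) F)⁻¹ = u3i := inv_eq_of_mul_eq_one_right u3_mul_u3i

theorem W_mul (y y' z z' : F) : W y y' * W z z' = W (y + z) (y' + z') := by
  apply Subtype.ext
  rw [Matrix.SpecialLinearGroup.coe_mul, coe_W, coe_W, coe_W]
  ext i j
  fin_cases i <;> fin_cases j <;> simp [WM, Matrix.mul_apply, Fin.sum_univ_three]

theorem W_zero : W (0 : F) 0 = 1 := by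
  apply Subtype.ext
  rw [coe_W, Matrix.SpecialLinearGroup.coe_one]
  ext i j
  fin_cases i <;> fin_cases j <;> simp [WM]

theorem W_inv (y y' : F) : (W y y')⁻¹ = W (-y) (-y') := by
  apply inv_eq_of_mul_eq_one_right
  rw [W_mul, add_neg_cancel, add_neg_cancel, W_zero]

theorem Z_mul (y y' z z' : F) : Z y y' * Z z z' = Z (y + z) (y' + z') := by
  apply Subtype.ext
  rw [Matrix.SpecialLinearGroup.coe_mul, coe_Z, coe_Z, coe_Z]
  ext i j
  fin_cases i <;> fin_cases j <;> simp [ZM, Matrix.mul_apply, Fin.sum_univ_three] <;> ring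

theorem Z_zero : Z (0 : F) 0 = 1 := by
  apply Subtype.ext
  rw [coe_Z, Matrix.SpecialLinearGroup.coe_one]
  ext i j
  fin_cases i <;> fin_cases j <;> simp [ZM]

theorem Z_inv (y y' : F) : (Z y y')⁻¹ = Z (-y) (-y') := by
  apply inv_eq_of_mul_eq_one_right
  rw [Z_mul, add_neg_cancel, add_neg_cancel, Z_zero]

/-! ### path A -/

/-- `x g u = u g`, i.e. `x = u (g u g⁻¹)⁻¹` -/
theorem xA_gA_u3 (s : F) : xA s * gA s * u3 = u3 * gA s := by
  apply Subtype.ext
  rw [Matrix.SpecialLinearGroup.coe_mul, Matrix.SpecialLinearGroup.coe_mul, Matrix.SpecialLinearGroup.coe_mul, coe_xA,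
    coe_gA, coe_u3]
  ext i j
  fin_cases i <;> fin_cases j <;>
    simp [xAM, gAM, uM, Matrix.mul_apply, Fin.sum_univ_three] <;> ring

theorem xA_sq (s : F) : xA s * xA s = W 0 ((4 - s) * s - 16) := by
  apply Subtype.ext
  rw [Matrix.SpecialLinearGroup.coe_mul, coe_xA, coe_W]
  ext i j
  fin_cases i <;> fin_cases j <;>
    simp [xAM, WM, Matrix.mul_apply, Fin.sum_univ_three] <;> ring

theorem xA_W (s y y' : F) : xA s * W y y' = W (-y) (y' - s * y) * xA s := by
  apply Subtype.ext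
  rw [Matrix.SpecialLinearGroup.coe_mul, Matrix.SpecialLinearGroup.coe_mul, coe_xA, coe_W, coe_W]
  ext i j
  fin_cases i <;> fin_cases j <;>
    simp [xAM, WM, Matrix.mul_apply, Fin.sum_univ_three] <;> ring

theorem comm_A1 (s₁ s₂ : F) :
    W 0 s₁ * (u3 * W 0 s₂ * u3i) =
      (u3 * W 0 s₂ * u3i) * W 0 s₁ * W (-(s₁ * s₂)) (-(s₁ * s₂)) := by
  apply Subtype.ext
  simp only [Matrix.SpecialLinearGroup.coe_mul, coe_W, coe_u3, coe_u3i]
  ext i j
  fin_cases i <;> fin_cases j <;>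
    simp [uM, uiM, WM, Matrix.mul_apply, Fin.sum_univ_three] <;> ring

theorem comm_A2 (w y y' : F) :
    W w w * (u3 * W y y' * u3i) =
      (u3 * W y y' * u3i) * W w w * (u3 * W 0 (w * y) * u3i) := by
  apply Subtype.ext
  simp only [Matrix.SpecialLinearGroup.coe_mul, coe_W, coe_u3, coe_u3i]
  ext i j
  fin_cases i <;> fin_cases j <;>
    simp [uM, uiM, WM, Matrix.mul_apply, Fin.sum_univ_three] <;> ring

/-! ### path B -/

theorem u3_Z (y y' : F) : u3 * Z y y' = Z y (y' + y) * u3 := by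
  apply Subtype.ext
  rw [Matrix.SpecialLinearGroup.coe_mul, Matrix.SpecialLinearGroup.coe_mul, coe_u3, coe_Z, coe_Z]
  ext i j
  fin_cases i <;> fin_cases j <;>
    simp [uM, ZM, Matrix.mul_apply, Fin.sum_univ_three] <;> ring

theorem comm_B1 (b y : F) : Z 0 y * V2 b = V2 b * Z 0 y * Z (-(y * (b * b))) 0 := by
  apply Subtype.ext
  simp only [Matrix.SpecialLinearGroup.coe_mul, coe_Z, coe_V2]
  ext i j
  fin_cases i <;> fin_cases j <;>
    simp [ZM, V2M, Matrix.mul_apply, Fin.sum_univ_three] <;> ring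

theorem u3_sq (h2 : (2 : F) = 0) : (u3 : SpecialLinearGroup (Fin 3) F) * u3 = Z 0 1 := by
  apply Subtype.ext
  rw [Matrix.SpecialLinearGroup.coe_mul, coe_u3, coe_Z]
  ext i j
  fin_cases i <;> fin_cases j <;>
    simp [uM, ZM, Matrix.mul_apply, Fin.sum_univ_three] <;> linear_combination h2

theorem vB_sq (h2 : (2 : F) = 0) (b : F) (hb : b ≠ 0) : vB b hb * vB b hb = V2 b := by
  have hbb : b * b⁻¹ = 1 := mul_inv_cancel₀ hb
  have hneg : (-1 : F) = 1 := by linear_combination -h2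
  apply Subtype.ext
  rw [Matrix.SpecialLinearGroup.coe_mul, coe_vB, coe_V2]
  ext i j
  fin_cases i <;> fin_cases j <;>
    simp [vBM, V2M, Matrix.mul_apply, Fin.sum_univ_three, hb, hneg]

theorem gB_u3 (h2 : (2 : F) = 0) (b : F) (hb : b ≠ 0) : gB b hb * u3 = vB b hb * gB b hb := by
  have hbb : b * b⁻¹ = 1 := mul_inv_cancel₀ hb
  have hbb' : b⁻¹ * b = 1 := inv_mul_cancel₀ hb
  apply Subtype.ext
  rw [Matrix.SpecialLinearGroup.coe_mul, Matrix.SpecialLinearGroup.coe_mul, coe_gB, coe_vB, coe_u3]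
  ext i j
  fin_cases i <;> fin_cases j <;>
    simp [gBM, vBM, uM, Matrix.mul_apply, Fin.sum_univ_three, hb] <;> linear_combination h2

end Cfsg.Agent.Lib.Helper2.SL3Two
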