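import Mathlib
import Cfsg.Agent.Lib.Helper2.SL3Two1
import Cfsg.Agent.Lib.Helper5.RU.E1

/-!
# S2278: the closure arguments

`H ≤ SL_3(F)` containing the Jordan block `u3` and either all `W y y'` or (with `vB`) all `Z y y'`
is everything; path A (odd characteristic) and path B (characteristic two).
-/

set_option autoImplicit false

namespace Cfsg.Agent.Lib.Helper2.SL3Two

open Matrix Cfsg.Agent.H9SLRoot Cfsg.Agent.Lib.Helper2.RegUni Cfsg.Agent.Lib.Helper5.RU

variable {F : Type*} [Field F]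

/-! ### endgame -/

theorem tv_e0_eq_W (x : Fin 3 → F) (c : F) (hx : x 0 = 0) :
    tv x (e (0 : Fin 3)) c = W (c * x 1) (c * x 2) := by
  have hinc : (e (0 : Fin 3) : Fin 3 → F) ⬝ᵥ x = 0 := by
    unfold e
    rw [single_one_dotProduct]
    exact hx
  apply Subtype.ext
  rw [tv_coe hinc, coe_W]
  unfold tmat
  ext i j
  fin_cases i <;> fin_cases j <;> simp [WM, Matrix.vecMulVec, e, hx]

theorem tv_e2_eq_Z (x : Fin 3 → F) (c : F) (hx : x 2 = 0) :
    tv x (e (2 : Fin 3)) c = Z (c * x 1) (c * x 0) := by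
  have hinc : (e (2 : Fin 3) : Fin 3 → F) ⬝ᵥ x = 0 := by
    unfold e
    rw [single_one_dotProduct]
    exact hx
  apply Subtype.ext
  rw [tv_coe hinc, coe_Z]
  unfold tmat
  ext i j
  fin_cases i <;> fin_cases j <;> simp [ZM, Matrix.vecMulVec, e, hx]

theorem e0_vecMul_uM : (e (0 : Fin 3) : Fin 3 → F) ᵥ* uM = e 0 + e 1 := by
  ext j
  fin_cases j <;> simp [e, uM, Matrix.vecMul, dotProduct, Fin.sum_univ_three]

theorem e1_vecMul_uM : (e (1 : Fin 3) : Fin 3 → F) ᵥ* uM = e 1 + e 2 := by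
  ext j
  fin_cases j <;> simp [e, uM, Matrix.vecMul, dotProduct, Fin.sum_univ_three]

theorem e2_vecMul_vBM (b : F) : (e (2 : Fin 3) : Fin 3 → F) ᵥ* vBM b = b • e 0 := by
  ext j
  fin_cases j <;> simp [e, vBM, Matrix.vecMul, dotProduct, Fin.sum_univ_three]

theorem eq_top_of_e0 {H : Subgroup (SpecialLinearGroup (Fin 3) F)} (hu : u3 ∈ H)
    (h0 : (e (0 : Fin 3) : Fin 3 → F) ∈ codirs H) : H = ⊤ := by
  have h1 : (e (1 : Fin 3) : Fin 3 → F) ∈ codirs H := by
    have h := codirs_vecMul h0 hu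
    rw [coe_u3, e0_vecMul_uM] at h
    have h' := codirs_sub h h0
    rwa [add_sub_cancel_left] at h'
  have h2 : (e (2 : Fin 3) : Fin 3 → F) ∈ codirs H := by
    have h := codirs_vecMul h1 hu
    rw [coe_u3, e1_vecMul_uM] at h
    have h' := codirs_sub h h1
    rwa [add_sub_cancel_left] at h'
  apply eq_top_of_codirs
  intro i
  fin_cases i
  · exact h0
  · exact h1
  · exact h2

theorem eq_top_of_W {H : Subgroup (SpecialLinearGroup (Fin 3) F)} (hu : u3 ∈ H)
    (hW : ∀ y y' : F, W y y' ∈ H) : H = ⊤ := by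
  apply eq_top_of_e0 hu
  intro x c
  by_cases hx : x 0 = 0
  · rw [tv_e0_eq_W x c hx]
    exact hW _ _
  · have hinc : ¬ (e (0 : Fin 3) : Fin 3 → F) ⬝ᵥ x = 0 := by
      unfold e
      rw [single_one_dotProduct]
      exact hx
    rw [tv_of_not hinc]
    exact H.one_mem

theorem eq_top_of_Z {H : Subgroup (SpecialLinearGroup (Fin 3) F)} (hu : u3 ∈ H) (b : F)
    (hb : b ≠ 0) (hv : vB b hb ∈ H) (hZ : ∀ y y' : F, Z y y' ∈ H) : H = ⊤ := by
  apply eq_top_of_e0 hu
  have h2 : (e (2 : Fin 3) : Fin 3 → F) ∈ codirs H := by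
    intro x c
    by_cases hx : x 2 = 0
    · rw [tv_e2_eq_Z x c hx]
      exact hZ _ _
    · have hinc : ¬ (e (2 : Fin 3) : Fin 3 → F) ⬝ᵥ x = 0 := by
        unfold e
        rw [single_one_dotProduct]
        exact hx
      rw [tv_of_not hinc]
      exact H.one_mem
  have h := codirs_vecMul h2 hv
  rw [coe_vB, e2_vecMul_vBM] at h
  have h' := codirs_smul h b⁻¹
  rwa [smul_smul, inv_mul_cancel₀ hb, one_smul] at h'

/-! ### finite fields: subrings are closed under inverses -/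

theorem inv_mem_subring [Fintype F] (R : Subring F) {r : F} (hr : r ∈ R) : r⁻¹ ∈ R := by
  by_cases h0 : r = 0
  · rw [h0, _root_.inv_zero]
    exact R.zero_mem
  · have h1 : r ^ (Fintype.card F - 1) = 1 := FiniteField.pow_card_sub_one_eq_one r h0
    have hc : 1 < Fintype.card F := Fintype.one_lt_card
    have : r⁻¹ = r ^ (Fintype.card F - 2) := by
      apply inv_eq_of_mul_eq_one_right
      rw [← pow_succ', show Fintype.card F - 2 + 1 = Fintype.card F - 1 by omega, h1]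
    rw [this]
    exact R.pow_mem hr _

/-- the multiplier ring of an additive subgroup -/
def mulRing (S : AddSubgroup F) : Subring F where
  carrier := {r | ∀ y ∈ S, r * y ∈ S}
  mul_mem' := fun {a b} ha hb y hy => by
    rw [mul_assoc]
    exact ha _ (hb _ hy)
  one_mem' := fun y hy => by rwa [one_mul]
  add_mem' := fun {a b} ha hb y hy => by
    rw [add_mul]
    exact S.add_mem (ha _ hy) (hb _ hy)
  zero_mem' := fun y _ => by
    rw [zero_mul]
    exact S.zero_mem
  neg_mem' := fun {a} ha y hy => by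
    rw [neg_mul]
    exact S.neg_mem (ha _ hy)

theorem mem_mulRing (S : AddSubgroup F) (r : F) : r ∈ mulRing S ↔ ∀ y ∈ S, r * y ∈ S := Iff.rfl

/-! ### path A -/

section pathA

variable (H : Subgroup (SpecialLinearGroup (Fin 3) F))

/-- `{y | W 0 y ∈ H}` -/
def SA : AddSubgroup F where
  carrier := {y | W 0 y ∈ H}
  zero_mem' := by
    show W 0 0 ∈ H
    rw [W_zero]
    exact H.one_mem
  add_mem' := fun {a b} ha hb => by
    have := H.mul_mem ha hb
    rw [W_mul, zero_add] at this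
    exact this
  neg_mem' := fun {a} ha => by
    have := H.inv_mem ha
    rw [W_inv, neg_zero] at this
    exact this

/-- `{w | W w w ∈ H}` -/
def DA : AddSubgroup F where
  carrier := {w | W w w ∈ H}
  zero_mem' := by
    show W 0 0 ∈ H
    rw [W_zero]
    exact H.one_mem
  add_mem' := fun {a b} ha hb => by
    have := H.mul_mem ha hb
    rw [W_mul] at this
    exact this
  neg_mem' := fun {a} ha => by
    have := H.inv_mem ha
    rw [W_inv] at this
    exact this

theorem mem_SA (y : F) : y ∈ SA H ↔ W 0 y ∈ H := Iff.rfl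
theorem mem_DA (w : F) : w ∈ DA H ↔ W w w ∈ H := Iff.rfl

variable {H}

theorem u3i_mem (hu : u3 ∈ H) : (u3i : SpecialLinearGroup (Fin 3) F) ∈ H := by
  rw [← u3_inv]
  exact H.inv_mem hu

theorem u3i_mul_u3 : (u3i : SpecialLinearGroup (Fin 3) F) * u3 = 1 := by
  rw [← u3_inv, inv_mul_cancel]

/-- (C2) -/
theorem mul_mem_DA (hu : u3 ∈ H) {s₁ s₂ : F} (h1 : s₁ ∈ SA H) (h2 : s₂ ∈ SA H) :
    s₁ * s₂ ∈ DA H := by
  have hT : u3 * W 0 s₂ * u3i ∈ H := H.mul_mem (H.mul_mem hu h2) (u3i_mem hu)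
  have hc := comm_A1 s₁ s₂
  have h3 : W (-(s₁ * s₂)) (-(s₁ * s₂)) =
      ((u3 * W 0 s₂ * u3i) * W 0 s₁)⁻¹ * (W 0 s₁ * (u3 * W 0 s₂ * u3i)) := by
    rw [hc]
    group
  have h4 : -(s₁ * s₂) ∈ DA H := by
    rw [mem_DA, h3]
    exact H.mul_mem (H.inv_mem (H.mul_mem hT h1)) (H.mul_mem h1 hT)
  have := (DA H).neg_mem h4
  rwa [neg_neg] at this

/-- (C3) -/
theorem shift_mem_SA {s : F} (hx : xA s ∈ H) {w : F} (hw : w ∈ DA H) : (s - 2) * w ∈ SA H := by
  have h1 : W (-w) (w - s * w) = xA s * W w w * (xA s)⁻¹ := by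
    rw [xA_W]
    group
  have h2 : W (-w) (w - s * w) ∈ H := by
    rw [h1]
    exact H.mul_mem (H.mul_mem hx hw) (H.inv_mem hx)
  have h3 := H.mul_mem hw h2
  rw [W_mul, add_neg_cancel] at h3
  have h4 : w + (w - s * w) ∈ SA H := h3
  have := (SA H).neg_mem h4
  have e : -(w + (w - s * w)) = (s - 2) * w := by ring
  rwa [e] at this

/-- (C4) -/
theorem mul_mem_SA (hu : u3 ∈ H) {w y y' : F} (hw : w ∈ DA H) (hy : W y y' ∈ H) :
    w * y ∈ SA H := by
  have hT : u3 * W y y' * u3i ∈ H := H.mul_mem (H.mul_mem hu hy) (u3i_mem hu)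
  have hc := comm_A2 w y y'
  have h3 : u3 * W 0 (w * y) * u3i =
      ((u3 * W y y' * u3i) * W w w)⁻¹ * (W w w * (u3 * W y y' * u3i)) := by
    rw [hc]
    group
  have h4 : u3 * W 0 (w * y) * u3i ∈ H := by
    rw [h3]
    exact H.mul_mem (H.inv_mem (H.mul_mem hT hw)) (H.mul_mem hw hT)
  have h5 : W 0 (w * y) = u3i * (u3 * W 0 (w * y) * u3i) * u3 := by
    calc W 0 (w * y) = (u3i * u3) * W 0 (w * y) * (u3i * u3) := by
          rw [u3i_mul_u3, one_mul, mul_one]
      _ = u3i * (u3 * W 0 (w * y) * u3i) * u3 := by group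
  rw [mem_SA, h5]
  exact H.mul_mem (H.mul_mem (u3i_mem hu) h4) hu

end pathA

end Cfsg.Agent.Lib.Helper2.SL3Two
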