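import Mathlib
import Cfsg.Agent.Lib.Helper2.SL3Two2

/-!
# S2278: `SL_3(F)` is generated by two conjugate regular unipotent elements (`F` finite)
-/

set_option autoImplicit false

namespace Cfsg.Agent.Lib.Helper2.SL3Two

open Matrix Cfsg.Agent.H9SLRoot Cfsg.Agent.Lib.Helper2.RegUni Cfsg.Agent.Lib.Helper5.RU

variable {F : Type*} [Field F]

/-! ### path A (characteristic not two) -/

theorem pathA_top [Fintype F] (h2 : (2 : F) ≠ 0)
    {H : Subgroup (SpecialLinearGroup (Fin 3) F)} (hu : u3 ∈ H) {s : F} (hx : xA s ∈ H)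
    (hz : s - 2 ≠ 0) (hc : (s - 2) ^ 2 + 12 ≠ 0)
    (hgen : ∀ R : Subring F, s ∈ R → R = ⊤) : H = ⊤ := by
  obtain ⟨c, hcdef⟩ : ∃ c : F, c = (4 - s) * s - 16 := ⟨_, rfl⟩
  have hc' : c = -((s - 2) ^ 2 + 12) := by rw [hcdef]; ring
  have hc0 : c ≠ 0 := by
    rw [hc']
    exact neg_ne_zero.mpr hc
  have hcS : c ∈ SA H := by
    rw [mem_SA, hcdef, ← xA_sq]
    exact H.mul_mem hx hx
  have hzc : (s - 2) * c ∈ mulRing (SA H) := by
    intro y hy
    have := shift_mem_SA hx (mul_mem_DA hu hcS hy)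
    rwa [← mul_assoc] at this
  have hc3 : c * c * c ∈ mulRing (SA H) := by
    intro y hy
    have hcc := mul_mem_DA hu hcS hcS
    have hcy := mul_mem_DA hu hcS hy
    have := mul_mem_SA hu hcc hcy
    have e : c * c * (c * y) = c * c * c * y := by ring
    rwa [e] at this
  have hz3 : (s - 2) ^ 3 ∈ mulRing (SA H) := by
    have e : (s - 2) ^ 3 = ((s - 2) * c) ^ 3 * (c * c * c)⁻¹ := by
      field_simp
    rw [e]
    exact (mulRing (SA H)).mul_mem ((mulRing (SA H)).pow_mem hzc 3)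
      (inv_mem_subring _ hc3)
  have h12 : 12 * (s - 2) ∈ mulRing (SA H) := by
    have e : 12 * (s - 2) = -((s - 2) * c) - (s - 2) ^ 3 := by
      rw [hc']
      ring
    rw [e]
    exact (mulRing (SA H)).sub_mem ((mulRing (SA H)).neg_mem hzc) hz3
  have hzR : s - 2 ∈ mulRing (SA H) := by
    by_cases h3 : (3 : F) = 0
    · have hchar : CharP F 3 :=
        (CharP.charP_iff_prime_eq_zero Nat.prime_three).mpr (by exact_mod_cast h3)
      obtain ⟨n, -, hn⟩ := FiniteField.card F 3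
      have hpow : (s - 2) ^ Fintype.card F = s - 2 := FiniteField.pow_card _
      have e : s - 2 = ((s - 2) ^ 3) ^ (3 ^ ((n : ℕ) - 1)) := by
        rw [← pow_mul, ← pow_succ']
        have hn1 : (n : ℕ) - 1 + 1 = n := by have := n.pos; omega
        rw [hn1, ← hn, hpow]
      rw [e]
      exact (mulRing (SA H)).pow_mem hz3 _
    · have h12ne : (12 : F) ≠ 0 := by
        intro h
        have h' : (2 : F) * (2 * 3) = 0 := by linear_combination h
        rcases mul_eq_zero.mp h' with h4 | h4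
        · exact h2 h4
        · rcases mul_eq_zero.mp h4 with h5 | h5
          · exact h2 h5
          · exact h3 h5
      have h12R : (12 : F) ∈ mulRing (SA H) := by
        have := natCast_mem (mulRing (SA H)) 12
        exact_mod_cast this
      have e : s - 2 = (12 : F)⁻¹ * (12 * (s - 2)) := by
        field_simp
      rw [e]
      exact (mulRing (SA H)).mul_mem (inv_mem_subring _ h12R) h12
  have hsR : s ∈ mulRing (SA H) := by
    have h2R : (2 : F) ∈ mulRing (SA H) := by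
      have := natCast_mem (mulRing (SA H)) 2
      exact_mod_cast this
    have := (mulRing (SA H)).add_mem hzR h2R
    rwa [sub_add_cancel] at this
  have hR : mulRing (SA H) = ⊤ := hgen _ hsR
  have hS : ∀ y : F, y ∈ SA H := by
    intro y
    have h1 : y * c⁻¹ ∈ mulRing (SA H) := by
      rw [hR]
      exact Subring.mem_top _
    have := h1 c hcS
    rwa [inv_mul_cancel_right₀ hc0] at this
  have hD : ∀ w : F, w ∈ DA H := by
    intro w
    have := mul_mem_DA hu hcS (hS (c⁻¹ * w))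
    rwa [mul_inv_cancel_left₀ hc0] at this
  apply eq_top_of_W hu
  intro y y'
  have := H.mul_mem (hD y) (hS (y' - y))
  rw [W_mul, add_zero, add_sub_cancel] at this
  exact this

/-- a good shift of any element -/
theorem exists_shift (h2 : (2 : F) ≠ 0) (t : F) :
    ∃ j : ℕ, t + j - 2 ≠ 0 ∧ (t + j - 2) ^ 2 + 12 ≠ 0 := by
  by_contra hcon
  push_neg at hcon
  have hP : ∀ j : ℕ, (t + j - 2) * ((t + j - 2) ^ 2 + 12) = 0 := by
    intro j
    by_cases h0 : t + j - 2 = 0
    · rw [h0, zero_mul]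
    · rw [hcon j h0, mul_zero]
  have e0 := hP 0
  have e1 := hP 1
  have e2 := hP 2
  have e3 := hP 3
  push_cast at e0 e1 e2 e3
  have h6 : (6 : F) = 0 := by linear_combination e3 - 3 * e2 + 3 * e1 - e0
  have h3 : (3 : F) = 0 := by
    have h' : (2 : F) * 3 = 0 := by linear_combination h6
    exact (mul_eq_zero.mp h').resolve_left h2
  have h12 : (12 : F) = 0 := by linear_combination 4 * h3
  have f0 : (t - 2) ^ 3 = 0 := by linear_combination e0 - (t - 2) * h12
  have f1 : (t + 1 - 2) ^ 3 = 0 := by linear_combination e1 - (t + 1 - 2) * h12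
  have g0 : t - 2 = 0 := pow_eq_zero_iff (by norm_num) |>.mp f0
  have g1 : t + 1 - 2 = 0 := pow_eq_zero_iff (by norm_num) |>.mp f1
  have : (1 : F) = 0 := by linear_combination g1 - g0
  exact one_ne_zero this

theorem pathA [Fintype F] (h2 : (2 : F) ≠ 0) :
    ∃ g : SpecialLinearGroup (Fin 3) F,
      Subgroup.closure ({u3, g * u3 * g⁻¹} : Set (SpecialLinearGroup (Fin 3) F)) = ⊤ := by
  obtain ⟨θ, hθ⟩ := IsCyclic.exists_monoid_generator (α := Fˣ)
  obtain ⟨j, hz, hc⟩ := exists_shift h2 (θ : F)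
  obtain ⟨s, hs⟩ : ∃ s : F, s = (θ : F) + j := ⟨_, rfl⟩
  rw [← hs] at hz hc
  refine ⟨gA s, ?_⟩
  have hu : u3 ∈ Subgroup.closure ({u3, gA s * u3 * (gA s)⁻¹} :
      Set (SpecialLinearGroup (Fin 3) F)) := Subgroup.subset_closure (by simp)
  have hv : gA s * u3 * (gA s)⁻¹ ∈ Subgroup.closure ({u3, gA s * u3 * (gA s)⁻¹} :
      Set (SpecialLinearGroup (Fin 3) F)) := Subgroup.subset_closure (by simp)
  have hx : xA s ∈ Subgroup.closure ({u3, gA s * u3 * (gA s)⁻¹} :
      Set (SpecialLinearGroup (Fin 3) F)) := by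
    have e : xA s = u3 * (gA s * u3 * (gA s)⁻¹)⁻¹ := by
      have h := xA_gA_u3 s
      calc xA s = (xA s * gA s * u3) * (u3⁻¹ * (gA s)⁻¹) := by group
        _ = (u3 * gA s) * (u3⁻¹ * (gA s)⁻¹) := by rw [h]
        _ = u3 * (gA s * u3 * (gA s)⁻¹)⁻¹ := by group
    rw [e]
    exact Subgroup.mul_mem _ hu (Subgroup.inv_mem _ hv)
  apply pathA_top h2 hu hx hz hc
  intro R hsR
  have hθR : (θ : F) ∈ R := by
    have := R.sub_mem hsR (natCast_mem R j)
    rwa [hs, add_sub_cancel_right] at this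
  rw [eq_top_iff]
  intro a _
  by_cases ha : a = 0
  · rw [ha]
    exact R.zero_mem
  · obtain ⟨k, hk⟩ := (Submonoid.mem_powers_iff _ _).mp (hθ (Units.mk0 a ha))
    have e : a = (θ : F) ^ k := by
      have := congrArg (fun x : Fˣ => (x : F)) hk
      simpa using this.symm
    rw [e]
    exact R.pow_mem hθR k

/-! ### path B (characteristic two) -/

theorem pathB [Fintype F] (h2 : (2 : F) = 0) :
    ∃ g : SpecialLinearGroup (Fin 3) F,
      Subgroup.closure ({u3, g * u3 * g⁻¹} : Set (SpecialLinearGroup (Fin 3) F)) = ⊤ := by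
  obtain ⟨θ, hθ⟩ := IsCyclic.exists_monoid_generator (α := Fˣ)
  obtain ⟨b, hbdef⟩ : ∃ b : F, b = (θ : F) := ⟨_, rfl⟩
  have hb : b ≠ 0 := by rw [hbdef]; exact θ.ne_zero
  refine ⟨gB b hb, ?_⟩
  obtain ⟨H, hH⟩ : ∃ H : Subgroup (SpecialLinearGroup (Fin 3) F),
      H = Subgroup.closure ({u3, gB b hb * u3 * (gB b hb)⁻¹} :
        Set (SpecialLinearGroup (Fin 3) F)) := ⟨_, rfl⟩
  rw [← hH]
  have hu : u3 ∈ H := by rw [hH]; exact Subgroup.subset_closure (by simp)
  have hv' : gB b hb * u3 * (gB b hb)⁻¹ ∈ H := by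
    rw [hH]; exact Subgroup.subset_closure (by simp)
  have hvB : gB b hb * u3 * (gB b hb)⁻¹ = vB b hb := by
    rw [gB_u3 h2 b hb]
    group
  have hv : vB b hb ∈ H := hvB ▸ hv'
  have hV2 : V2 b ∈ H := by
    rw [← vB_sq h2 b hb]
    exact H.mul_mem hv hv
  have h1 : Z 0 1 ∈ H := by
    rw [← u3_sq h2]
    exact H.mul_mem hu hu
  have hstep1 : ∀ y : F, Z 0 y ∈ H → Z (-(y * (b * b))) 0 ∈ H := by
    intro y hy
    have hc := comm_B1 b y
    have e : Z (-(y * (b * b))) 0 = (V2 b * Z 0 y)⁻¹ * (Z 0 y * V2 b) := by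
      rw [hc]
      group
    rw [e]
    exact H.mul_mem (H.inv_mem (H.mul_mem hV2 hy)) (H.mul_mem hy hV2)
  have hstep2 : ∀ a : F, Z a 0 ∈ H → Z 0 a ∈ H := by
    intro a ha
    have h := u3_Z a 0
    have e : Z a (0 + a) = u3 * Z a 0 * u3⁻¹ := by
      rw [h]
      group
    have h3 : Z a (0 + a) ∈ H := by
      rw [e]
      exact H.mul_mem (H.mul_mem hu ha) (H.inv_mem hu)
    have h4 := H.mul_mem (H.inv_mem ha) h3
    rw [Z_inv, Z_mul, neg_add_cancel, neg_zero, zero_add, zero_add] at h4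
    exact h4
  have hstep : ∀ y : F, Z 0 y ∈ H → Z 0 (y * (b * b)) ∈ H := by
    intro y hy
    have h5 := H.inv_mem (hstep2 _ (hstep1 y hy))
    rw [Z_inv, neg_zero, neg_neg] at h5
    exact h5
  have hpow : ∀ k : ℕ, Z 0 ((b * b) ^ k) ∈ H := by
    intro k
    induction k with
    | zero => rw [pow_zero]; exact h1
    | succ k ih =>
      have := hstep _ ih
      rwa [← pow_succ] at this
  have hchar : ringChar F = 2 := by
    have : CharP F 2 :=
      (CharP.charP_iff_prime_eq_zero Nat.prime_two).mpr (by exact_mod_cast h2)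
    exact ringChar.eq F 2
  have hall : ∀ a : F, Z 0 a ∈ H := by
    intro a
    by_cases ha : a = 0
    · rw [ha, Z_zero]
      exact H.one_mem
    · obtain ⟨r, hr⟩ := FiniteField.isSquare_of_char_two hchar a
      have hr0 : r ≠ 0 := by
        rintro rfl
        apply ha
        rw [hr, mul_zero]
      obtain ⟨k, hk⟩ := (Submonoid.mem_powers_iff _ _).mp (hθ (Units.mk0 r hr0))
      have e : r = b ^ k := by
        have := congrArg (fun x : Fˣ => (x : F)) hk
        rw [hbdef]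
        simpa using this.symm
      have e2 : a = (b * b) ^ k := by rw [hr, e, mul_pow]
      rw [e2]
      exact hpow k
  have hall2 : ∀ a : F, Z a 0 ∈ H := by
    intro a
    have := hstep1 (-(a / (b * b))) (hall _)
    have e : -(-(a / (b * b)) * (b * b)) = a := by
      field_simp
    rwa [e] at this
  apply eq_top_of_Z hu b hb hv
  intro y y'
  have := H.mul_mem (hall2 y) (hall y')
  rwa [Z_mul, add_zero, zero_add] at this

/-! ### regularity of `u3` -/

theorem u3_nilpotent :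
    IsNilpotent (((u3 : SpecialLinearGroup (Fin 3) F) : Matrix (Fin 3) (Fin 3) F) - 1) := by
  refine ⟨3, ?_⟩
  rw [coe_u3]
  ext i j
  fin_cases i <;> fin_cases j <;>
    simp [uM, pow_succ, Matrix.mul_apply, Fin.sum_univ_three, Matrix.one_apply]

theorem u3_sq_ne_zero :
    (((u3 : SpecialLinearGroup (Fin 3) F) : Matrix (Fin 3) (Fin 3) F) - 1) ^ (3 - 1) ≠ 0 := by
  rw [coe_u3]
  intro h
  have := congrFun (congrFun h 0) 2
  simp [uM, pow_succ, Matrix.mul_apply, Fin.sum_univ_three, Matrix.one_apply] at this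

theorem main [Fintype F] :
    ∃ u g : Matrix.SpecialLinearGroup (Fin 3) F,
      IsNilpotent ((u : Matrix (Fin 3) (Fin 3) F) - 1) ∧
      ((u : Matrix (Fin 3) (Fin 3) F) - 1) ^ (3 - 1) ≠ 0 ∧
      Subgroup.closure ({u, g * u * g⁻¹} : Set (Matrix.SpecialLinearGroup (Fin 3) F)) = ⊤ := by
  by_cases h2 : (2 : F) = 0
  · obtain ⟨g, hg⟩ := pathB h2
    exact ⟨u3, g, u3_nilpotent, u3_sq_ne_zero, hg⟩
  · obtain ⟨g, hg⟩ := pathA h2
    exact ⟨u3, g, u3_nilpotent, u3_sq_ne_zero, hg⟩

end Cfsg.Agent.Lib.Helper2.SL3Two
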