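import Mathlib

set_option autoImplicit false

namespace Cfsg.Agent.Lib.Helper5.SLClass

/-- helper: in a cyclic group of order `m` generated by `ζ`, if `d = gcd w m` divides `k' - k`
then `ζ ^ (k' - k)` is a `w`-th power -/
theorem c3_exists_pow {T : Type*} [CommGroup T] [Fintype T] (ζ : T) (w : ℕ) (k k' : ℕ)
    (h : k % Nat.gcd w (Fintype.card T) = k' % Nat.gcd w (Fintype.card T)) :
    ∃ u : T, u ^ w = ζ ^ ((k' : ℤ) - k) := by
  have hm : ζ ^ (Fintype.card T : ℤ) = 1 := by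
    rw [zpow_natCast]; exact pow_card_eq_one
  have hdvd : ((Nat.gcd w (Fintype.card T) : ℕ) : ℤ) ∣ (k' : ℤ) - k :=
    (Nat.modEq_iff_dvd).mp h
  obtain ⟨c, hc⟩ := hdvd
  have hb := Nat.gcd_eq_gcd_ab w (Fintype.card T)
  refine ⟨ζ ^ (Nat.gcdA w (Fintype.card T) * c), ?_⟩
  rw [← zpow_natCast, ← zpow_mul, hc, hb]
  have : ((w : ℤ) * Nat.gcdA w (Fintype.card T) + (Fintype.card T : ℤ) * Nat.gcdB w (Fintype.card T)) * c
      = Nat.gcdA w (Fintype.card T) * c * w + (Fintype.card T : ℤ) * (Nat.gcdB w (Fintype.card T) * c) := by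
    ring
  rw [this, zpow_add, zpow_mul ζ (Fintype.card T : ℤ), hm, one_zpow, mul_one]

theorem card_conjClasses_le_sum {G S T α : Type*} [Group G] [Group S] [Finite S]
    [CommGroup T] [Fintype T] [IsCyclic T]
    (ι : S →* G) (hι : Function.Injective ι) (δ : G →* T)
    (hker : ∀ g : G, δ g = 1 → g ∈ ι.range)
    (Φ : G → α) (hΦ : ∀ g h : G, Φ g = Φ h → IsConj g h)
    (w : α → ℕ) (hw : ∀ (g : G) (u : T), ∃ y : G, Commute y g ∧ δ y = u ^ w (Φ g))
    (A : Finset α) (hA : ∀ s : S, Φ (ι s) ∈ A) :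
    Nat.card (ConjClasses S) ≤ ∑ a ∈ A, Nat.gcd (w a) (Fintype.card T) := by
  classical
  obtain ⟨ζ, hζ⟩ := IsCyclic.exists_generator (α := T)
  have hm0 : 0 < Fintype.card T := Fintype.card_pos
  -- a section of `Φ ∘ ι`
  have hsec : ∀ a : α, ∃ s : S, (∃ s' : S, Φ (ι s') = a) → Φ (ι s) = a := by
    intro a
    by_cases h : ∃ s' : S, Φ (ι s') = a
    · obtain ⟨s, hs⟩ := h
      exact ⟨s, fun _ => hs⟩
    · exact ⟨1, fun h' => absurd h' h⟩
  choose sec hsec using hsec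
  have hsec' : ∀ x : S, Φ (ι (sec (Φ (ι x)))) = Φ (ι x) := fun x => hsec _ ⟨x, rfl⟩
  -- conjugators
  have hc : ∀ x : S, ∃ c : G, c * ι x * c⁻¹ = ι (sec (Φ (ι x))) := by
    intro x
    have := hΦ (ι x) (ι (sec (Φ (ι x)))) (hsec' x).symm
    exact isConj_iff.mp this
  choose cj hcj using hc
  -- exponents
  have hk : ∀ g : G, ∃ k : ℕ, ζ ^ k = δ g := by
    intro g
    have := hζ (δ g)
    rw [← mem_powers_iff_mem_zpowers] at this
    exact this
  choose ex hex using hk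
  -- the invariant
  let f : S → (Σ _ : α, ℕ) := fun x =>
    ⟨Φ (ι x), ex (cj x) % Nat.gcd (w (Φ (ι x))) (Fintype.card T)⟩
  let B : Finset (Σ _ : α, ℕ) := A.sigma (fun a => Finset.range (Nat.gcd (w a) (Fintype.card T)))
  have hfB : ∀ x : S, f x ∈ B := by
    intro x
    simp only [f, B, Finset.mem_sigma, Finset.mem_range]
    refine ⟨hA x, Nat.mod_lt _ (Nat.gcd_pos_of_pos_right _ hm0)⟩
  have hfinj : ∀ x x' : S, f x = f x' → IsConj x x' := by
    intro x x' hxx
    have h1 : Φ (ι x) = Φ (ι x') := congrArg Sigma.fst hxx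
    have h2 : ex (cj x) % Nat.gcd (w (Φ (ι x))) (Fintype.card T) =
        ex (cj x') % Nat.gcd (w (Φ (ι x))) (Fintype.card T) := by
      have := hxx
      simp only [f] at this
      rw [Sigma.mk.injEq] at this
      have h3 := this.2
      rw [← h1] at h3
      exact eq_of_heq h3
    obtain ⟨u, hu⟩ := c3_exists_pow ζ (w (Φ (ι x))) (ex (cj x)) (ex (cj x')) h2
    obtain ⟨y, hy1, hy2⟩ := hw (ι (sec (Φ (ι x)))) u
    rw [hsec' x, hu] at hy2
    -- h = (cj x')⁻¹ * y * cj x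
    have hδ : δ ((cj x')⁻¹ * y * cj x) = 1 := by
      rw [map_mul, map_mul, map_inv, hy2, ← hex (cj x), ← hex (cj x'), ← zpow_natCast,
        ← zpow_natCast, ← zpow_neg, ← zpow_add, ← zpow_add]
      have : -(ex (cj x') : ℤ) + ((ex (cj x') : ℤ) - (ex (cj x) : ℤ)) + (ex (cj x) : ℤ) = 0 := by ring
      rw [this, zpow_zero]
    obtain ⟨t, ht⟩ := hker _ hδ
    rw [isConj_iff]
    refine ⟨t, hι ?_⟩
    rw [map_mul, map_mul, map_inv, ht]
    have e1 := hcj x
    have e2 := hcj x'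
    rw [← h1] at e2
    have e3 : ι x = (cj x)⁻¹ * ι (sec (Φ (ι x))) * cj x := by
      rw [← e1]; group
    have e4 : ι x' = (cj x')⁻¹ * ι (sec (Φ (ι x))) * cj x' := by
      rw [← e2]; group
    have e5 : y * ι (sec (Φ (ι x))) * y⁻¹ = ι (sec (Φ (ι x))) := by
      rw [hy1.eq, mul_assoc, mul_inv_cancel, mul_one]
    rw [e4]
    conv_lhs => rw [e3]
    calc (cj x')⁻¹ * y * cj x * ((cj x)⁻¹ * ι (sec (Φ (ι x))) * cj x) * ((cj x')⁻¹ * y * cj x)⁻¹
        = (cj x')⁻¹ * (y * ι (sec (Φ (ι x))) * y⁻¹) * cj x' := by group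
      _ = _ := by rw [e5]
  -- lift to classes
  have : Finite (ConjClasses S) := Quotient.finite _
  have hle : Nat.card (ConjClasses S) ≤ Nat.card B := by
    refine Nat.card_le_card_of_injective (fun κ => ⟨f κ.out, hfB _⟩) ?_
    intro κ κ' h
    have h' : f κ.out = f κ'.out := congrArg Subtype.val h
    have := hfinj _ _ h'
    have h3 := ConjClasses.mk_eq_mk_iff_isConj.mpr this
    have e1 : ConjClasses.mk κ.out = κ := Quotient.out_eq κ
    have e2 : ConjClasses.mk κ'.out = κ' := Quotient.out_eq κ'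
    rw [← e1, ← e2]
    exact h3
  have hB : Nat.card B = ∑ a ∈ A, Nat.gcd (w a) (Fintype.card T) := by
    rw [Nat.card_eq_fintype_card, Fintype.card_coe]
    simp only [B, Finset.card_sigma, Finset.card_range]
  rw [← hB]
  exact hle

end Cfsg.Agent.Lib.Helper5.SLClass
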