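import Mathlib
import Cfsg.Agent.Lib.Helper5.SLClass.Defs
import Cfsg.Agent.Lib.Helper2.SLClass_C4c
import Cfsg.Agent.Lib.Helper5.SLClass.Central

set_option autoImplicit false

namespace Cfsg.Agent.Lib.Helper5.SLClass

open Polynomial Cfsg.Agent.Lib.Helper5.GLClass

/-! ### scaling the constant coefficient of a single polynomial -/

/-- multiply the constant coefficient by `u`, unless the polynomial is `1` -/
noncomputable def c4aScp {F : Type*} [Field F] (u : F) (p : F[X]) : F[X] :=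
  open scoped Classical in
  if p = 1 then 1 else p + C ((u - 1) * p.coeff 0)

theorem c4aScp_one {F : Type*} [Field F] (u : F) : c4aScp u (1 : F[X]) = 1 := by
  unfold c4aScp; rw [if_pos rfl]

theorem c4aScp_of_ne {F : Type*} [Field F] (u : F) {p : F[X]} (hp : p ≠ 1) :
    c4aScp u p = p + C ((u - 1) * p.coeff 0) := by
  unfold c4aScp; rw [if_neg hp]

theorem c4aScp_natDegree {F : Type*} [Field F] (u : F) (p : F[X]) :
    (c4aScp u p).natDegree = p.natDegree := by
  by_cases hp : p = 1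
  · rw [hp, c4aScp_one]
  · rw [c4aScp_of_ne u hp, natDegree_add_C]

theorem c4aScp_monic {F : Type*} [Field F] (u : F) {p : F[X]} (hp : p.Monic) :
    (c4aScp u p).Monic := by
  by_cases h1 : p = 1
  · rw [h1, c4aScp_one]; exact monic_one
  · rw [c4aScp_of_ne u h1]
    apply hp.add_of_left
    have h2 : 0 < p.natDegree := hp.natDegree_pos.mpr h1
    exact lt_of_le_of_lt degree_C_le (natDegree_pos_iff_degree_pos.mp h2)

theorem c4aScp_eq_one_iff {F : Type*} [Field F] (u : F) {p : F[X]} (hp : p.Monic) :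
    c4aScp u p = 1 ↔ p = 1 := by
  rw [← (c4aScp_monic u hp).natDegree_eq_zero, c4aScp_natDegree, hp.natDegree_eq_zero]

theorem c4aScp_coeff_zero {F : Type*} [Field F] (u : F) {p : F[X]} (hp : p ≠ 1) :
    (c4aScp u p).coeff 0 = u * p.coeff 0 := by
  rw [c4aScp_of_ne u hp, coeff_add, coeff_C_zero]; ring

theorem c4aScp_inj {F : Type*} [Field F] {u : F} (hu : u ≠ 0) {p p' : F[X]} (hp : p.Monic)
    (hp' : p'.Monic) (h : c4aScp u p = c4aScp u p') : p = p' := by
  by_cases h1 : p = 1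
  · rw [h1, c4aScp_one] at h
    rw [h1, (c4aScp_eq_one_iff u hp').mp h.symm]
  · have h1' : p' ≠ 1 := by
      intro h2
      rw [h2, c4aScp_one] at h
      exact h1 ((c4aScp_eq_one_iff u hp).mp h)
    have h0 : p.coeff 0 = p'.coeff 0 := by
      have := congrArg (fun r => r.coeff 0) h
      beta_reduce at this
      rw [c4aScp_coeff_zero u h1, c4aScp_coeff_zero u h1'] at this
      exact mul_left_cancel₀ hu this
    rw [c4aScp_of_ne u h1, c4aScp_of_ne u h1', h0] at h
    exact add_right_cancel h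


/-! ### scaling a parameter -/

/-- the support of a parameter -/
noncomputable def c4aSupp {F : Type*} [Field F] {n : ℕ} (f : Fin n → F[X]) : Finset (Fin n) :=
  open scoped Classical in
  Finset.univ.filter (fun j : Fin n => f j ≠ 1)

theorem c4a_mem_supp {F : Type*} [Field F] {n : ℕ} (f : Fin n → F[X]) (j : Fin n) :
    j ∈ c4aSupp f ↔ f j ≠ 1 := by
  classical
  unfold c4aSupp
  rw [Finset.mem_filter]
  exact ⟨fun h => h.2, fun h => ⟨Finset.mem_univ _, h⟩⟩

theorem c4a_gg_eq {F : Type*} [Field F] {n : ℕ} (f : Fin n → F[X]) :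
    gg f = (c4aSupp f).gcd (fun j => j.val + 1) := rfl

/-- Bezout coefficients for a set of positions -/
noncomputable def c4aBz {n : ℕ} (s : Finset (Fin n)) : Fin n → ℤ :=
  Classical.choose (exists_bezout s (fun j : Fin n => j.val + 1))

theorem c4aBz_spec {n : ℕ} (s : Finset (Fin n)) :
    ∑ j ∈ s, c4aBz s j * ((j.val + 1 : ℕ) : ℤ) = ((s.gcd (fun j : Fin n => j.val + 1) : ℕ) : ℤ) :=
  Classical.choose_spec (exists_bezout s (fun j : Fin n => j.val + 1))

/-- the scaled parameter -/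
noncomputable def c4aSc {F : Type*} [Field F] {n : ℕ} (t : Fˣ) (f : Fin n → F[X]) :
    Fin n → F[X] :=
  fun j => c4aScp (((t ^ (c4aBz (c4aSupp f) j) : Fˣ) : F)) (f j)

theorem c4aSc_supp {F : Type*} [Field F] {n : ℕ} (t : Fˣ) (f : Fin n → F[X])
    (hf : ∀ j, (f j).Monic) : c4aSupp (c4aSc t f) = c4aSupp f := by
  ext j
  rw [c4a_mem_supp, c4a_mem_supp]
  unfold c4aSc
  rw [Ne, c4aScp_eq_one_iff _ (hf j)]

theorem c4aSc_gg {F : Type*} [Field F] {n : ℕ} (t : Fˣ) (f : Fin n → F[X])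
    (hf : ∀ j, (f j).Monic) : gg (c4aSc t f) = gg f := by
  rw [c4a_gg_eq, c4a_gg_eq, c4aSc_supp t f hf]

theorem c4aSc_mem_Par {F : Type*} [Field F] {n : ℕ} (t : Fˣ) (f : Fin n → F[X])
    (hf : f ∈ Par F n n) : c4aSc t f ∈ Par F n n := by
  obtain ⟨h1, h2⟩ := hf
  refine ⟨fun j => ⟨c4aScp_monic _ (h1 j).1, ?_⟩, ?_⟩
  · unfold c4aSc
    by_cases hj : f j = 1
    · rw [hj, c4aScp_one, coeff_one_zero]; exact one_ne_zero
    · rw [c4aScp_coeff_zero _ hj]
      exact mul_ne_zero (Units.ne_zero _) (h1 j).2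
  · have h3 : ∑ j : Fin n, (j.val + 1) * (c4aSc t f j).natDegree =
        ∑ j : Fin n, (j.val + 1) * (f j).natDegree := by
      apply Finset.sum_congr rfl
      intro j _
      unfold c4aSc
      rw [c4aScp_natDegree]
    exact h3.trans h2

theorem c4a_prod_zpow {G : Type*} [CommGroup G] (t : G) {ι : Type*} (s : Finset ι) (e : ι → ℤ) :
    ∏ j ∈ s, t ^ e j = t ^ ∑ j ∈ s, e j := by
  classical
  induction s using Finset.induction_on with
  | empty => simp
  | insert j s hj ih => rw [Finset.prod_insert hj, Finset.sum_insert hj, zpow_add, ih]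

theorem c4aSc_dt {F : Type*} [Field F] {n : ℕ} (t : Fˣ) (f : Fin n → F[X]) :
    dt (c4aSc t f) = ((t ^ gg f : Fˣ) : F) * dt f := by
  classical
  unfold dt
  have h1 : ∀ j : Fin n, ((c4aSc t f j).coeff 0) ^ (j.val + 1) =
      (if j ∈ c4aSupp f then (((t ^ (c4aBz (c4aSupp f) j * ((j.val + 1 : ℕ) : ℤ)) : Fˣ) : F)) else 1) *
        ((f j).coeff 0) ^ (j.val + 1) := by
    intro j
    unfold c4aSc
    by_cases hj : f j = 1
    · rw [if_neg (by rw [c4a_mem_supp]; exact not_not.mpr hj), hj, c4aScp_one, one_mul]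
    · rw [if_pos ((c4a_mem_supp f j).mpr hj), c4aScp_coeff_zero _ hj, mul_pow, zpow_mul,
        zpow_natCast, Units.val_pow_eq_pow_val]
  rw [Finset.prod_congr rfl (fun j _ => h1 j), Finset.prod_mul_distrib, ← Finset.prod_filter,
    Finset.filter_mem_eq_inter, Finset.univ_inter, ← Units.coe_prod, c4a_prod_zpow, c4aBz_spec,
    ← c4a_gg_eq, zpow_natCast]
  ring


theorem c4aSc_inj {F : Type*} [Field F] {n : ℕ} (t : Fˣ) (f f' : Fin n → F[X])
    (hf : ∀ j, (f j).Monic) (hf' : ∀ j, (f' j).Monic) (h : c4aSc t f = c4aSc t f') : f = f' := by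
  have hs : c4aSupp f = c4aSupp f' := by
    rw [← c4aSc_supp t f hf, ← c4aSc_supp t f' hf', h]
  funext j
  have hj := congrFun h j
  unfold c4aSc at hj
  rw [hs] at hj
  exact c4aScp_inj (Units.ne_zero _) (hf j) (hf' j) hj

theorem c4a_card_pow_eq_le {F : Type*} [Field F] [Fintype F] [DecidableEq F] (d : ℕ) (c : F) :
    (Finset.univ.filter (fun t : Fˣ => ((t ^ d : Fˣ) : F) = c)).card ≤
      Nat.gcd d (Fintype.card F - 1) := by
  rcases Finset.eq_empty_or_nonempty (Finset.univ.filter (fun t : Fˣ => ((t ^ d : Fˣ) : F) = c))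
    with h | ⟨t₀, ht₀⟩
  · rw [h, Finset.card_empty]; exact Nat.zero_le _
  · refine le_trans ?_ (c4c_card_pow_eq_one_le (F := F) d)
    apply Finset.card_le_card_of_injOn (fun t => t * t₀⁻¹)
    · intro t ht
      rw [Finset.mem_coe, Finset.mem_filter] at ht
      rw [Finset.mem_filter] at ht₀
      rw [Finset.mem_coe, Finset.mem_filter]
      refine ⟨Finset.mem_univ _, ?_⟩
      have : t ^ d = t₀ ^ d := Units.ext (ht.2.trans ht₀.2.symm)
      rw [mul_pow, this, inv_pow, mul_inv_cancel]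
    · intro t _ t' _ htt
      exact mul_right_cancel htt

open scoped Classical in
theorem card_mul_sum_le {F : Type*} [Field F] [Fintype F] (n : ℕ) :
    (Fintype.card F - 1) *
        ∑ f ∈ (parFinset F n).filter (fun f => dt f = 1), Nat.gcd (gg f) (Fintype.card F - 1) ≤
      ∑ f ∈ parFinset F n, Nat.gcd (gg f) (Fintype.card F - 1) ^ 2 := by
  set P := parFinset F n with hP
  set P1 := P.filter (fun f => dt f = 1) with hP1
  set D : Finset (Fˣ × (Fin n → F[X])) := (Finset.univ : Finset Fˣ) ×ˢ P1 with hD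
  have hmon : ∀ f ∈ P, ∀ j, (f j).Monic := by
    intro f hf j
    exact (((mem_parFinset f).mp hf).1 j).1
  have hD1 : ∀ x ∈ D, x.2 ∈ P ∧ dt x.2 = 1 := by
    intro x hx
    rw [hD, Finset.mem_product, hP1, Finset.mem_filter] at hx
    exact hx.2
  -- step 1
  have e1 : (Fintype.card F - 1) * ∑ f ∈ P1, Nat.gcd (gg f) (Fintype.card F - 1) =
      ∑ x ∈ D, Nat.gcd (gg x.2) (Fintype.card F - 1) := by
    rw [hD, Finset.sum_product]
    show _ = ∑ x : Fˣ, ∑ y ∈ P1, Nat.gcd (gg y) (Fintype.card F - 1)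
    rw [Finset.sum_const, Finset.card_univ, Fintype.card_units, smul_eq_mul]
  -- step 2
  have e2 : ∑ x ∈ D, Nat.gcd (gg x.2) (Fintype.card F - 1) =
      ∑ x ∈ D, Nat.gcd (gg (c4aSc x.1 x.2)) (Fintype.card F - 1) := by
    apply Finset.sum_congr rfl
    intro x hx
    rw [c4aSc_gg x.1 x.2 (hmon _ (hD1 x hx).1)]
  have hmaps : ∀ x ∈ D, c4aSc x.1 x.2 ∈ P := by
    intro x hx
    rw [hP, mem_parFinset]
    exact c4aSc_mem_Par _ _ ((mem_parFinset _).mp (hD1 x hx).1)
  have e3 := (Finset.sum_fiberwise_of_maps_to hmaps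
    (fun x => Nat.gcd (gg (c4aSc x.1 x.2)) (Fintype.card F - 1))).symm
  rw [e1, e2, e3]
  apply Finset.sum_le_sum
  intro h hh
  have e4 : ∑ x ∈ D.filter (fun x => c4aSc x.1 x.2 = h),
      Nat.gcd (gg (c4aSc x.1 x.2)) (Fintype.card F - 1) =
      (D.filter (fun x => c4aSc x.1 x.2 = h)).card * Nat.gcd (gg h) (Fintype.card F - 1) := by
    rw [← smul_eq_mul, ← Finset.sum_const]
    apply Finset.sum_congr rfl
    intro x hx
    rw [(Finset.mem_filter.mp hx).2]
  rw [e4, sq]
  apply Nat.mul_le_mul_right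
  refine le_trans ?_ (c4a_card_pow_eq_le (F := F) (gg h) (dt h))
  apply Finset.card_le_card_of_injOn (fun x => x.1)
  · intro x hx
    rw [Finset.mem_coe, Finset.mem_filter] at hx
    rw [Finset.mem_coe, Finset.mem_filter]
    refine ⟨Finset.mem_univ _, ?_⟩
    have h1 := c4aSc_dt x.1 x.2
    rw [hx.2, (hD1 x hx.1).2, mul_one] at h1
    have h2 := c4aSc_gg x.1 x.2 (hmon _ (hD1 x hx.1).1)
    rw [hx.2] at h2
    rw [h2, h1]
  · intro x hx x' hx' hxx
    rw [Finset.mem_coe, Finset.mem_filter] at hx hx'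
    have hxx' : x.1 = x'.1 := hxx
    have h3 : c4aSc x.1 x.2 = c4aSc x.1 x'.2 := by
      rw [hx.2, hxx', hx'.2]
    have h4 := c4aSc_inj x.1 x.2 x'.2 (hmon _ (hD1 x hx.1).1) (hmon _ (hD1 x' hx'.1).1) h3
    exact Prod.ext hxx' h4

end Cfsg.Agent.Lib.Helper5.SLClass
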