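import Mathlib
import Cfsg.Agent.Lib.Helper5.SLClass.Defs
import Cfsg.Agent.Lib.Lead.GLClassLower

set_option autoImplicit false

namespace Cfsg.Agent.Lib.Helper5.SLClass

open Polynomial Cfsg.Agent.Lib.Helper5.GLClass

/-- the polynomial `X^(k+2) + a_k X^(k+1) + ... + a_0 X + (-1)^(k+2)` -/
noncomputable def c6Poly {F : Type*} [Field F] [DecidableEq F] (k : ℕ) (a : Fin (k + 1) → F) : F[X] :=
  X ^ (k + 2) + ofFn (k + 2) (Fin.cons ((-1) ^ (k + 2)) a : Fin (k + 2) → F)

theorem c6Poly_monic {F : Type*} [Field F] [DecidableEq F] (k : ℕ) (a : Fin (k + 1) → F) :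
    (c6Poly k a).Monic :=
  monic_X_pow_add (ofFn_degree_lt _)

theorem c6Poly_natDegree {F : Type*} [Field F] [DecidableEq F] (k : ℕ) (a : Fin (k + 1) → F) :
    (c6Poly k a).natDegree = k + 2 := by
  have h : (c6Poly k a).degree = ((k + 2 : ℕ) : WithBot ℕ) := by
    unfold c6Poly
    rw [degree_add_eq_left_of_degree_lt, degree_X_pow]
    rw [degree_X_pow]
    exact ofFn_degree_lt _
  exact natDegree_eq_of_degree_eq_some h

theorem c6Poly_coeff_zero {F : Type*} [Field F] [DecidableEq F] (k : ℕ) (a : Fin (k + 1) → F) :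
    (c6Poly k a).coeff 0 = (-1) ^ (k + 2) := by
  unfold c6Poly
  rw [coeff_add, coeff_X_pow, if_neg (by omega), zero_add,
    ofFn_coeff_eq_val_of_lt _ (by omega : 0 < k + 2)]
  rfl

theorem c6Poly_injective {F : Type*} [Field F] [DecidableEq F] (k : ℕ) :
    Function.Injective (c6Poly (F := F) k) := by
  intro a a' h
  unfold c6Poly at h
  have h1 := add_left_cancel h
  funext j
  have h2 := congrArg (fun p => p.coeff (j.val + 1)) h1
  beta_reduce at h2
  rw [ofFn_coeff_eq_val_of_lt _ (by omega : j.val + 1 < k + 2),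
    ofFn_coeff_eq_val_of_lt _ (by omega : j.val + 1 < k + 2)] at h2
  have e : (⟨j.val + 1, by omega⟩ : Fin (k + 2)) = Fin.succ j := rfl
  rw [e, Fin.cons_succ, Fin.cons_succ] at h2
  exact h2


/-- the transvection `1 + E_{01}` -/
theorem c6_transv_charpoly {F : Type*} [Field F] [DecidableEq F] (k : ℕ) :
    (Matrix.transvection (0 : Fin (k + 2)) 1 (1 : F)).charpoly = (X - 1) ^ (k + 2) := by
  rw [Matrix.charpoly_of_isUpperTriangular]
  · have : ∀ i : Fin (k + 2), (X : F[X]) - C (Matrix.transvection (0 : Fin (k + 2)) 1 (1 : F) i i)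
        = X - 1 := by
      intro i
      have : Matrix.transvection (0 : Fin (k + 2)) 1 (1 : F) i i = 1 := by
        rw [Matrix.transvection, Matrix.add_apply, Matrix.one_apply_eq, Matrix.single_apply]
        rw [if_neg, add_zero]
        rintro ⟨h1, h2⟩
        rw [← h1] at h2
        exact absurd h2 (by simp)
      rw [this, C_1]
    rw [Finset.prod_congr rfl (fun i _ => this i), Finset.prod_const, Finset.card_univ,
      Fintype.card_fin]
  · intro i j hij
    have hij' : j < i := hij
    have e1 : (1 : Matrix (Fin (k + 2)) (Fin (k + 2)) F) i j = 0 :=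
      Matrix.one_apply_ne (ne_of_gt hij')
    have e2 : Matrix.single (0 : Fin (k + 2)) 1 (1 : F) i j = 0 := by
      rw [Matrix.single_apply, if_neg]
      rintro ⟨h1, h2⟩
      rw [← h1, ← h2] at hij'
      exact absurd hij' (by simp)
    show (Matrix.transvection (0 : Fin (k + 2)) 1 (1 : F)) i j = 0
    rw [Matrix.transvection, Matrix.add_apply, e1, e2, add_zero]

theorem c6_charpoly_conj {F : Type*} [Field F] [DecidableEq F] {n : ℕ}
    (x y : Matrix.SpecialLinearGroup (Fin n) F) (h : IsConj x y) :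
    x.val.charpoly = y.val.charpoly := by
  obtain ⟨c, hc⟩ := isConj_iff.mp h
  rw [← hc]
  have : (c * x * c⁻¹).val = c.val * (x.val * (c⁻¹).val) := by
    rw [Matrix.SpecialLinearGroup.coe_mul, Matrix.SpecialLinearGroup.coe_mul, Matrix.mul_assoc]
  rw [this, Matrix.charpoly_mul_comm, Matrix.mul_assoc, ← Matrix.SpecialLinearGroup.coe_mul,
    inv_mul_cancel, Matrix.SpecialLinearGroup.coe_one, Matrix.mul_one]


theorem c6_exists_sl {F : Type*} [Field F] [Fintype F] [DecidableEq F] (k : ℕ)
    (a : Fin (k + 1) → F) :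
    ∃ g : Matrix.SpecialLinearGroup (Fin (k + 2)) F, g.val.charpoly = c6Poly k a := by
  have hmem : c6Poly k a ∈ PolyD F (k + 2) := by
    refine ⟨c6Poly_monic k a, c6Poly_natDegree k a, ?_⟩
    rw [c6Poly_coeff_zero]
    exact pow_ne_zero _ (neg_ne_zero.mpr one_ne_zero)
  obtain ⟨g, hg⟩ := exists_gl_of_polyD (k + 2) (c6Poly k a) hmem
  have hdet : (g : Matrix (Fin (k + 2)) (Fin (k + 2)) F).det = 1 := by
    rw [Matrix.det_eq_sign_charpoly_coeff, hg, c6Poly_coeff_zero, Fintype.card_fin, ← mul_pow]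
    simp
  exact ⟨⟨g.val, hdet⟩, hg⟩

theorem lt_card_conjClasses_sl {F : Type*} [Field F] [Fintype F] (n : ℕ) (hn : 2 ≤ n) :
    Fintype.card F ^ (n - 1) <
      Nat.card (ConjClasses (Matrix.SpecialLinearGroup (Fin n) F)) := by
  classical
  obtain ⟨k, rfl⟩ : ∃ k, n = k + 2 := ⟨n - 2, by omega⟩
  have hk : k + 2 - 1 = k + 1 := by omega
  rw [hk]
  have : Finite (ConjClasses (Matrix.SpecialLinearGroup (Fin (k + 2)) F)) := Quotient.finite _
  -- representatives
  have hrep : ∀ a : Fin (k + 1) → F, ∃ g : Matrix.SpecialLinearGroup (Fin (k + 2)) F,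
      g.val.charpoly = c6Poly k a ∧ (c6Poly k a = (X - 1) ^ (k + 2) → g = 1) := by
    intro a
    by_cases h : c6Poly k a = (X - 1) ^ (k + 2)
    · refine ⟨1, ?_, fun _ => rfl⟩
      rw [h, Matrix.SpecialLinearGroup.coe_one, Matrix.charpoly_one, Fintype.card_fin]
    · obtain ⟨g, hg⟩ := c6_exists_sl k a
      exact ⟨g, hg, fun h' => absurd h' h⟩
  choose rep hrep1 hrep2 using hrep
  -- the transvection
  let t : Matrix.SpecialLinearGroup (Fin (k + 2)) F :=
    ⟨Matrix.transvection (0 : Fin (k + 2)) 1 (1 : F),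
      Matrix.det_transvection_of_ne _ _ (by simp) _⟩
  have ht1 : t ≠ 1 := by
    intro h
    have h2 := congrArg (fun m : Matrix.SpecialLinearGroup (Fin (k + 2)) F => m.val 0 1) h
    simp [t, Matrix.transvection] at h2
  have htc : t.val.charpoly = (X - 1) ^ (k + 2) := c6_transv_charpoly k
  let Ψ : Option (Fin (k + 1) → F) → ConjClasses (Matrix.SpecialLinearGroup (Fin (k + 2)) F) :=
    fun o => match o with
      | none => ConjClasses.mk t
      | some a => ConjClasses.mk (rep a)
  have hΨ : Function.Injective Ψ := by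
    intro o o' h
    match o, o' with
    | none, none => rfl
    | some a, some a' =>
      have h1 : IsConj (rep a) (rep a') := ConjClasses.mk_eq_mk_iff_isConj.mp h
      have h2 := c6_charpoly_conj _ _ h1
      rw [hrep1, hrep1] at h2
      rw [c6Poly_injective k h2]
    | none, some a =>
      exfalso
      have h1 : IsConj t (rep a) := ConjClasses.mk_eq_mk_iff_isConj.mp h
      have h2 := c6_charpoly_conj _ _ h1
      rw [hrep1, htc] at h2
      have h3 := hrep2 a h2.symm
      rw [h3] at h1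
      exact ht1 (isConj_one_left.mp h1)
    | some a, none =>
      exfalso
      have h1 : IsConj (rep a) t := ConjClasses.mk_eq_mk_iff_isConj.mp h
      have h2 := c6_charpoly_conj _ _ h1
      rw [hrep1, htc] at h2
      have h3 := hrep2 a h2
      rw [h3] at h1
      exact ht1 (isConj_one_right.mp h1)
  have hcard := Nat.card_le_card_of_injective Ψ hΨ
  have e : Nat.card (Option (Fin (k + 1) → F)) = Fintype.card F ^ (k + 1) + 1 := by
    rw [Nat.card_eq_fintype_card, Fintype.card_option, Fintype.card_fun, Fintype.card_fin]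
  rw [e] at hcard
  omega

end Cfsg.Agent.Lib.Helper5.SLClass
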