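import Mathlib
import Cfsg.Agent.Lib.Helper5.SLClass.PDefs
import Cfsg.Agent.Lib.Helper2.SLClass_C4a

set_option autoImplicit false

namespace Cfsg.Agent.Lib.Helper5.SLClass

open Polynomial Cfsg.Agent.Lib.Helper5.GLClass

theorem c4aScp_scaleRoots {F : Type*} [Field F] (u c : F) {p : F[X]} (hp : p.Monic)
    (hp0 : p.coeff 0 ≠ 0) (hinv : p.scaleRoots c = p) :
    (c4aScp u p).scaleRoots c = c4aScp u p := by
  by_cases h1 : p = 1
  · rw [h1, c4aScp_one]
    have : (1 : F[X]) = C 1 := by simp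
    rw [this, scaleRoots_C]
  · have hd : 0 < p.natDegree := hp.natDegree_pos.mpr h1
    have hcd : c ^ p.natDegree = 1 := by
      have := congrArg (fun r => r.coeff 0) hinv
      beta_reduce at this
      rw [coeff_scaleRoots, Nat.sub_zero] at this
      have h2 : p.coeff 0 * c ^ p.natDegree = p.coeff 0 * 1 := by rw [this, mul_one]
      exact mul_left_cancel₀ hp0 h2
    ext i
    rw [coeff_scaleRoots, c4aScp_natDegree]
    rcases Nat.eq_zero_or_pos i with rfl | hi
    · rw [Nat.sub_zero, hcd, mul_one]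
    · have h3 : (c4aScp u p).coeff i = p.coeff i := by
        rw [c4aScp_of_ne u h1, coeff_add, coeff_C, if_neg (by omega), add_zero]
      rw [h3]
      have := congrArg (fun r => r.coeff i) hinv
      beta_reduce at this
      rwa [coeff_scaleRoots] at this

theorem c4aSc_InvZ {F : Type*} [Field F] {n : ℕ} (t : Fˣ) (c : F) (f : Fin n → F[X])
    (hf : f ∈ Par F n n) (hinv : InvZ c f) : InvZ c (c4aSc t f) := by
  intro j
  unfold c4aSc
  exact c4aScp_scaleRoots _ c (hf.1 j).1 (hf.1 j).2 (hinv j)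

open scoped Classical in
theorem card_mul_sum_inv_le {F : Type*} [Field F] [Fintype F] (n : ℕ) (c : Fˣ) :
    (Fintype.card F - 1) *
        ∑ f ∈ (parFinset F n).filter (fun f => InvZ (c : F) f ∧ dt f = 1),
          Nat.gcd (gg f) (Fintype.card F - 1) ≤
      ∑ f ∈ (parFinset F n).filter (fun f => InvZ (c : F) f),
        Nat.gcd (gg f) (Fintype.card F - 1) ^ 2 := by
  set P := (parFinset F n).filter (fun f => InvZ (c : F) f) with hP
  set P1 := (parFinset F n).filter (fun f => InvZ (c : F) f ∧ dt f = 1) with hP1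
  set D : Finset (Fˣ × (Fin n → F[X])) := (Finset.univ : Finset Fˣ) ×ˢ P1 with hD
  have hD1 : ∀ x ∈ D, x.2 ∈ Par F n n ∧ InvZ (c : F) x.2 ∧ dt x.2 = 1 := by
    intro x hx
    rw [hD, Finset.mem_product, hP1, Finset.mem_filter, mem_parFinset] at hx
    exact hx.2
  have hmon : ∀ x ∈ D, ∀ j, (x.2 j).Monic := fun x hx j => ((hD1 x hx).1.1 j).1
  have e1 : (Fintype.card F - 1) * ∑ f ∈ P1, Nat.gcd (gg f) (Fintype.card F - 1) =
      ∑ x ∈ D, Nat.gcd (gg x.2) (Fintype.card F - 1) := by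
    rw [hD, Finset.sum_product]
    show _ = ∑ x : Fˣ, ∑ y ∈ P1, Nat.gcd (gg y) (Fintype.card F - 1)
    rw [Finset.sum_const, Finset.card_univ, Fintype.card_units, smul_eq_mul]
  have e2 : ∑ x ∈ D, Nat.gcd (gg x.2) (Fintype.card F - 1) =
      ∑ x ∈ D, Nat.gcd (gg (c4aSc x.1 x.2)) (Fintype.card F - 1) := by
    apply Finset.sum_congr rfl
    intro x hx
    rw [c4aSc_gg x.1 x.2 (hmon x hx)]
  have hmaps : ∀ x ∈ D, c4aSc x.1 x.2 ∈ P := by
    intro x hx
    rw [hP, Finset.mem_filter, mem_parFinset]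
    exact ⟨c4aSc_mem_Par _ _ (hD1 x hx).1, c4aSc_InvZ _ _ _ (hD1 x hx).1 (hD1 x hx).2.1⟩
  have e3 := (Finset.sum_fiberwise_of_maps_to hmaps
    (fun x => Nat.gcd (gg (c4aSc x.1 x.2)) (Fintype.card F - 1))).symm
  rw [e1, e2, e3]
  apply Finset.sum_le_sum
  intro h hh
  have e4 : ∑ x ∈ D.filter (fun x => c4aSc x.1 x.2 = h),
      Nat.gcd (gg (c4aSc x.1 x.2)) (Fintype.card F - 1) =
      (D.filter (fun x => c4aSc x.1 x.2 = h)).card * Nat.gcd (gg h) (Fintype.card F - 1) := by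
    rw [← smul_eq_mul, ← Finset.sum_const]
    apply Finset.sum_congr rfl
    intro x hx
    rw [(Finset.mem_filter.mp hx).2]
  rw [e4, sq]
  apply Nat.mul_le_mul_right
  refine le_trans ?_ (c4a_card_pow_eq_le (F := F) (gg h) (dt h))
  apply Finset.card_le_card_of_injOn (fun x => x.1)
  · intro x hx
    rw [Finset.mem_coe, Finset.mem_filter] at hx
    rw [Finset.mem_coe, Finset.mem_filter]
    refine ⟨Finset.mem_univ _, ?_⟩
    have h1 := c4aSc_dt x.1 x.2
    rw [hx.2, (hD1 x hx.1).2.2, mul_one] at h1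
    have h2 := c4aSc_gg x.1 x.2 (hmon x hx.1)
    rw [hx.2] at h2
    rw [h2, h1]
  · intro x hx x' hx' hxx
    rw [Finset.mem_coe, Finset.mem_filter] at hx hx'
    have hxx' : x.1 = x'.1 := hxx
    have h3 : c4aSc x.1 x.2 = c4aSc x.1 x'.2 := by
      rw [hx.2, hxx', hx'.2]
    have h4 := c4aSc_inj x.1 x.2 x'.2 (hmon x hx.1) (hmon x' hx'.1) h3
    exact Prod.ext hxx' h4

end Cfsg.Agent.Lib.Helper5.SLClass
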