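import Mathlib
import Cfsg.Agent.Lib.Helper3.StU1

/-!
# Central extensions of a group with Steinberg data of type `A`: lifting the data

Abstract part: given a central extension `π : E → Γ` of a group `Γ` carrying root elements `y i j t`
satisfying the Steinberg relations of type `A`, lifts of commuting root elements commute as soon as a
fresh index is available, and the brackets of lifts `M h i j t u = ⁅lift (y i h t), lift (y h j u)⁆`
are biadditive and associative.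
-/

set_option autoImplicit false
set_option linter.unusedSectionVars false
set_option linter.unusedVariables false
set_option linter.unusedSimpArgs false

namespace Cfsg.Agent.Lib.Helper2.SLM

open Cfsg.Agent.Lib.Helper3.StU
open scoped commutatorElement

section grp
variable {E : Type*} [Group E]

theorem commute_of_central' {z x : E} (hz : z ∈ Subgroup.center E) : Commute x z :=
  (Subgroup.mem_center_iff.1 hz x)

/-- an element commuting with `y`, `y'` modulo the centre commutes with `⁅y, y'⁆` -/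
theorem commute_comm' {w y y' : E} (h1 : ⁅w, y⁆ ∈ Subgroup.center E)
    (h2 : ⁅w, y'⁆ ∈ Subgroup.center E) : Commute w ⁅y, y'⁆ := by
  have e1 : w * y * w⁻¹ = y * ⁅w, y⁆ := by
    rw [(commute_of_central' h1 (x := y)).eq, commutatorElement_def]; group
  have e2 : w * y' * w⁻¹ = y' * ⁅w, y'⁆ := by
    rw [(commute_of_central' h2 (x := y')).eq, commutatorElement_def]; group
  have e3 : w * ⁅y, y'⁆ * w⁻¹ = ⁅y, y'⁆ := by
    rw [conj_comm, e1, e2, comm_mul_central_left h1, comm_mul_central_right h2]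
  show w * ⁅y, y'⁆ = ⁅y, y'⁆ * w
  calc w * ⁅y, y'⁆ = w * ⁅y, y'⁆ * w⁻¹ * w := by group
    _ = ⁅y, y'⁆ * w := by rw [e3]

/-- the Hall–Witt type identity used for the independence of the auxiliary index -/
theorem hw_aux' {a b c : E} (hac : Commute a c) (h1 : Commute ⁅a, b⁆ ⁅b, c⁆)
    (h2 : Commute ⁅b, c⁆ c) : ⁅a, ⁅b, c⁆⁆ = ⁅⁅a, b⁆, c⁆ := by
  have e0 : c⁻¹ * a⁻¹ = a⁻¹ * c⁻¹ := (hac.inv_inv).eq.symm
  have e1 : a * ⁅b, c⁆ * a⁻¹ = ⁅a, b⁆ * ⁅b, c⁆ * (c * (⁅a, b⁆)⁻¹ * c⁻¹) := by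
    have l : a * ⁅b, c⁆ * a⁻¹ = a * b * c * b⁻¹ * (c⁻¹ * a⁻¹) := by
      rw [commutatorElement_def]; group
    have r : ⁅a, b⁆ * ⁅b, c⁆ * (c * (⁅a, b⁆)⁻¹ * c⁻¹) =
        a * b * (a⁻¹ * (c * a)) * b⁻¹ * (a⁻¹ * c⁻¹) := by
      simp only [commutatorElement_def]; group
    rw [l, r, e0, ← hac.eq]
    group
  calc ⁅a, ⁅b, c⁆⁆ = a * ⁅b, c⁆ * a⁻¹ * (⁅b, c⁆)⁻¹ := by rw [commutatorElement_def]
    _ = ⁅a, b⁆ * ⁅b, c⁆ * (c * (⁅a, b⁆)⁻¹ * c⁻¹) * (⁅b, c⁆)⁻¹ := by rw [e1]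
    _ = ⁅a, b⁆ * (⁅b, c⁆ * c) * (⁅a, b⁆)⁻¹ * c⁻¹ * (⁅b, c⁆)⁻¹ := by group
    _ = ⁅a, b⁆ * (c * ⁅b, c⁆) * (⁅a, b⁆)⁻¹ * c⁻¹ * (⁅b, c⁆)⁻¹ := by rw [h2.eq]
    _ = ⁅a, b⁆ * c * (⁅b, c⁆ * (⁅a, b⁆)⁻¹) * c⁻¹ * (⁅b, c⁆)⁻¹ := by group
    _ = ⁅a, b⁆ * c * ((⁅a, b⁆)⁻¹ * ⁅b, c⁆) * c⁻¹ * (⁅b, c⁆)⁻¹ := by
        rw [(h1.inv_left).eq]
    _ = ⁅a, b⁆ * c * (⁅a, b⁆)⁻¹ * (⁅b, c⁆ * c⁻¹) * (⁅b, c⁆)⁻¹ := by group
    _ = ⁅a, b⁆ * c * (⁅a, b⁆)⁻¹ * (c⁻¹ * ⁅b, c⁆) * (⁅b, c⁆)⁻¹ := by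
        rw [(h2.inv_right).eq]
    _ = ⁅⁅a, b⁆, c⁆ := by rw [commutatorElement_def ⁅a, b⁆ c]; group

end grp

/-- Steinberg data of type `A` on the index type `I` over the field `K` in the group `Γ`. -/
structure AData (I K Γ : Type*) [Field K] [Group Γ] where
  y : I → I → K → Γ
  y_add : ∀ i j, i ≠ j → ∀ t u, y i j (t + u) = y i j t * y i j u
  y_comm : ∀ i j k l, i ≠ j → k ≠ l → j ≠ k → i ≠ l → ∀ t u, Commute (y i j t) (y k l u)
  y_rel : ∀ i j l, i ≠ j → j ≠ l → i ≠ l → ∀ t u, ⁅y i j t, y j l u⁆ = y i l (t * u)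

namespace AData
variable {I K Γ : Type*} [Field K] [Group Γ] (D : AData I K Γ)

theorem y_zero {i j : I} (h : i ≠ j) : D.y i j 0 = 1 := by
  have := D.y_add i j h 0 0
  rw [add_zero] at this
  exact (mul_eq_left.1 this.symm)

end AData

/-- a central extension of a group with Steinberg data of type `A` -/
structure CExtA {I K Γ : Type*} [Field K] [Group Γ] (D : AData I K Γ)
    (E : Type*) [Group E] where
  π : E →* Γ
  surj : Function.Surjective π
  central : π.ker ≤ Subgroup.center E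

section cext
variable {I K Γ E : Type*} [Field K] [Group Γ] [Group E] {D : AData I K Γ}
  (T : CExtA D E)

namespace CExtA

/-- a chosen preimage -/
noncomputable def lift (g : Γ) : E := Function.surjInv T.surj g

theorem π_lift (g : Γ) : T.π (T.lift g) = g := Function.surjInv_eq T.surj g

theorem mem_center_of_π_eq_one {e : E} (h : T.π e = 1) : e ∈ Subgroup.center E :=
  T.central (MonoidHom.mem_ker.2 h)

theorem comm_central {a b : E} (h : Commute (T.π a) (T.π b)) : ⁅a, b⁆ ∈ Subgroup.center E :=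
  T.central (comm_mem_ker T.π h)

theorem commute_of_π_eq {w g e : E} (h : Commute w g) (he : T.π e = T.π g) : Commute w e := by
  have hz : g⁻¹ * e ∈ Subgroup.center E :=
    T.mem_center_of_π_eq_one (by rw [map_mul, map_inv, he, inv_mul_cancel])
  have e1 : e = g * (g⁻¹ * e) := by group
  rw [e1]
  exact h.mul_right (commute_of_central' hz)

/-- lifts of the two root elements `y i j t`, `y k l u` commute -/
def LiftsCommuteAt (i j k l : I) : Prop :=
  ∀ (t u : K) (e₁ e₂ : E), T.π e₁ = D.y i j t → T.π e₂ = D.y k l u → Commute e₁ e₂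

/-- lifts of commuting root elements commute -/
def LiftsCommute : Prop :=
  ∀ i j k l : I, i ≠ j → k ≠ l → j ≠ k → i ≠ l → T.LiftsCommuteAt i j k l

theorem LiftsCommuteAt.symm {i j k l : I} (h : T.LiftsCommuteAt i j k l) :
    T.LiftsCommuteAt k l i j :=
  fun t u e₁ e₂ h₁ h₂ => (h u t e₂ e₁ h₂ h₁).symm

/-- Step 1: lifts of commuting root elements commute when a fresh index is available -/
theorem liftsCommuteAt_of_fresh {i j k l h : I} (hij : i ≠ j) (hkl : k ≠ l) (hjk : j ≠ k)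
    (hil : i ≠ l) (hi : h ≠ i) (hj : h ≠ j) (hk : h ≠ k) (hl : h ≠ l) :
    T.LiftsCommuteAt i j k l := by
  intro t u e₁ e₂ he₁ he₂
  have hrel := D.y_rel k h l hk.symm hl hkl u 1
  rw [mul_one] at hrel
  set b := T.lift (D.y k h u) with hb
  set c := T.lift (D.y h l 1) with hc
  have hπb : T.π b = D.y k h u := T.π_lift _
  have hπc : T.π c = D.y h l 1 := T.π_lift _
  have c1 : ⁅e₁, b⁆ ∈ Subgroup.center E := by
    apply T.comm_central
    rw [he₁, hπb]
    exact D.y_comm i j k h hij hk.symm hjk hi.symm t u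
  have c2 : ⁅e₁, c⁆ ∈ Subgroup.center E := by
    apply T.comm_central
    rw [he₁, hπc]
    exact D.y_comm i j h l hij hl hj.symm hil t 1
  have c3 : Commute e₁ ⁅b, c⁆ := commute_comm' c1 c2
  apply T.commute_of_π_eq c3
  rw [he₂, map_commutatorElement, hπb, hπc, hrel]

/-- the bracket of lifts -/
noncomputable def M (h i j : I) (t u : K) : E := ⁅T.lift (D.y i h t), T.lift (D.y h j u)⁆

theorem M_eq {h i j : I} {t u : K} {a b : E} (ha : T.π a = D.y i h t) (hb : T.π b = D.y h j u) :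
    ⁅a, b⁆ = T.M h i j t u :=
  comm_congr T.π T.central (ha.trans (T.π_lift _).symm) (hb.trans (T.π_lift _).symm)

theorem π_M {h i j : I} (hih : i ≠ h) (hhj : h ≠ j) (hij : i ≠ j) (t u : K) :
    T.π (T.M h i j t u) = D.y i j (t * u) := by
  unfold M
  rw [map_commutatorElement, T.π_lift, T.π_lift]
  exact D.y_rel i h j hih hhj hij t u

variable (hC : T.LiftsCommute)
include hC

theorem M_comm_M {i j h h' : I} (hih : i ≠ h) (hhj : h ≠ j) (hih' : i ≠ h') (hhj' : h' ≠ j)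
    (hij : i ≠ j) (t u t' u' : K) : Commute (T.M h i j t u) (T.M h' i j t' u') :=
  hC i j i j hij hij hij.symm hij _ _ _ _ (T.π_M hih hhj hij t u) (T.π_M hih' hhj' hij t' u')

theorem M_add_left {h i j : I} (hih : i ≠ h) (hhj : h ≠ j) (hij : i ≠ j) (t t' u : K) :
    T.M h i j (t + t') u = T.M h i j t u * T.M h i j t' u := by
  set a := T.lift (D.y i h t) with ha
  set a' := T.lift (D.y i h t') with ha'
  set b := T.lift (D.y h j u) with hb
  have e1 : T.π (a * a') = D.y i h (t + t') := by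
    rw [map_mul, T.π_lift, T.π_lift, D.y_add i h hih]
  rw [← T.M_eq e1 (T.π_lift _), comm_mul_left_eq]
  have e2 : ⁅a', b⁆ = T.M h i j t' u := rfl
  have e3 : ⁅a, b⁆ = T.M h i j t u := rfl
  have c1 : Commute a ⁅a', b⁆ := by
    rw [e2]
    exact hC i h i j hih hij hih.symm hij _ _ _ _ (T.π_lift _) (T.π_M hih hhj hij t' u)
  have e4 : a * ⁅a', b⁆ * a⁻¹ * ⁅a, b⁆ = ⁅a', b⁆ * ⁅a, b⁆ := by rw [c1.eq]; group
  rw [e4, e2, e3, (T.M_comm_M hC hih hhj hih hhj hij t' u t u).eq]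

theorem M_add_right {h i j : I} (hih : i ≠ h) (hhj : h ≠ j) (hij : i ≠ j) (t u u' : K) :
    T.M h i j t (u + u') = T.M h i j t u * T.M h i j t u' := by
  set a := T.lift (D.y i h t) with ha
  set b := T.lift (D.y h j u) with hb
  set b' := T.lift (D.y h j u') with hb'
  have e1 : T.π (b * b') = D.y h j (u + u') := by
    rw [map_mul, T.π_lift, T.π_lift, D.y_add h j hhj]
  rw [← T.M_eq (T.π_lift _) e1, comm_mul_right_eq]
  have e2 : ⁅a, b'⁆ = T.M h i j t u' := rfl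
  have e3 : ⁅a, b⁆ = T.M h i j t u := rfl
  have c1 : Commute b ⁅a, b'⁆ := by
    rw [e2]
    exact hC h j i j hhj hij hij.symm hhj _ _ _ _ (T.π_lift _) (T.π_M hih hhj hij t u')
  have e4 : b * ⁅a, b'⁆ * b⁻¹ = ⁅a, b'⁆ := by rw [c1.eq]; group
  rw [e4, e2, e3]

/-- the associativity relation between the brackets -/
theorem M_assoc {i h k j : I} (hih : i ≠ h) (hik : i ≠ k) (hij : i ≠ j) (hhk : h ≠ k)
    (hhj : h ≠ j) (hkj : k ≠ j) (t s u : K) :
    T.M h i j t (s * u) = T.M k i j (t * s) u := by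
  set a := T.lift (D.y i h t) with ha
  set b := T.lift (D.y h k s) with hb
  set c := T.lift (D.y k j u) with hc
  have hx : T.π ⁅a, b⁆ = D.y i k (t * s) := T.π_M hih hhk hik t s
  have hy : T.π ⁅b, c⁆ = D.y h j (s * u) := T.π_M hhk hkj hhj s u
  have hac : Commute a c :=
    hC i h k j hih hkj hhk hij _ _ _ _ (T.π_lift _) (T.π_lift _)
  have hxy : Commute ⁅a, b⁆ ⁅b, c⁆ :=
    hC i k h j hik hhj hhk.symm hij _ _ _ _ hx hy
  have hyc : Commute ⁅b, c⁆ c :=
    hC h j k j hhj hkj hkj.symm hhj _ _ _ _ hy (T.π_lift _)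
  rw [← T.M_eq (T.π_lift _) hy, ← T.M_eq hx (T.π_lift _)]
  exact hw_aux' hac hxy hyc

end CExtA

end cext

end Cfsg.Agent.Lib.Helper2.SLM
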