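import Cfsg.Agent.Lib.Helper2.SLM1

/-!
# Central extensions of a group with Steinberg data of type `A`: the lifted data

If lifts of commuting root elements commute (`LiftsCommute`) and the brackets of lifts only depend on the
product of their arguments (`MWellDef`), the Steinberg data lift to the central extension.  Both
hypotheses hold when five, resp. four, indices are available.
-/

set_option autoImplicit false
set_option linter.unusedSectionVars false
set_option linter.unusedVariables false
set_option linter.unusedSimpArgs false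

namespace Cfsg.Agent.Lib.Helper2.SLM

open Cfsg.Agent.Lib.Helper3.StU
open scoped commutatorElement

section cext
variable {I K Γ E : Type*} [Field K] [Group Γ] [Group E] {D : AData I K Γ}
  (T : CExtA D E)

namespace CExtA

/-- the brackets of lifts only depend on the product of the arguments -/
def MWellDef : Prop :=
  ∀ (i h h' j : I), i ≠ h → h ≠ j → i ≠ h' → h' ≠ j → i ≠ j → ∀ t u t' u' : K, t * u = t' * u' →
    T.M h i j t u = T.M h' i j t' u'

/-- with five indices, lifts of commuting root elements commute -/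
theorem liftsCommute_of_fresh (fresh : ∀ i j k l : I, ∃ h, h ≠ i ∧ h ≠ j ∧ h ≠ k ∧ h ≠ l) :
    T.LiftsCommute := by
  intro i j k l hij hkl hjk hil
  obtain ⟨h, h1, h2, h3, h4⟩ := fresh i j k l
  exact T.liftsCommuteAt_of_fresh hij hkl hjk hil h1 h2 h3 h4

/-- with four indices, the brackets are well defined -/
theorem mWellDef_of_fourth (hC : T.LiftsCommute)
    (fourth : ∀ i h j : I, ∃ k, k ≠ i ∧ k ≠ h ∧ k ≠ j) : T.MWellDef := by
  have indep : ∀ (i h k j : I), i ≠ h → h ≠ j → i ≠ k → k ≠ j → i ≠ j → ∀ t u : K,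
      T.M h i j t u = T.M k i j t u := by
    intro i h k j hih hhj hik hkj hij t u
    by_cases hhk : h = k
    · subst hhk; rfl
    have := T.M_assoc hC hih hik hij hhk hhj hkj t 1 u
    rwa [one_mul, mul_one] at this
  have mul1 : ∀ (i h j : I), i ≠ h → h ≠ j → i ≠ j → ∀ t u : K,
      T.M h i j t u = T.M h i j (t * u) 1 := by
    intro i h j hih hhj hij t u
    obtain ⟨k, k1, k2, k3⟩ := fourth i h j
    have e1 := T.M_assoc hC hih k1.symm hij k2.symm hhj k3 t u 1
    rw [mul_one] at e1
    rw [e1]
    exact (indep i h k j hih hhj k1.symm k3 hij (t * u) 1).symm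
  intro i h h' j hih hhj hih' hhj' hij t u t' u' htu
  rw [mul1 i h j hih hhj hij t u, mul1 i h' j hih' hhj' hij t' u', htu]
  exact indep i h h' j hih hhj hih' hhj' hij _ _

variable (hC : T.LiftsCommute) (hW : T.MWellDef) (third : ∀ i j : I, i ≠ j → ∃ h, i ≠ h ∧ h ≠ j)

open Classical in
/-- the lifted root elements -/
noncomputable def yt (i j : I) (t : K) : E :=
  if h : i = j then 1 else T.M (Classical.choose (third i j h)) i j t 1

include hW in
theorem M_eq_yt {i h j : I} (hih : i ≠ h) (hhj : h ≠ j) (hij : i ≠ j) (t u : K) :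
    T.M h i j t u = T.yt third i j (t * u) := by
  unfold yt
  rw [dif_neg hij]
  have hs := Classical.choose_spec (third i j hij)
  exact hW i h _ j hih hhj hs.1 hs.2 hij t u (t * u) 1 (mul_one _).symm

theorem π_yt {i j : I} (hij : i ≠ j) (t : K) : T.π (T.yt third i j t) = D.y i j t := by
  unfold yt
  rw [dif_neg hij]
  have hs := Classical.choose_spec (third i j hij)
  rw [T.π_M hs.1 hs.2 hij, mul_one]

include hC in
theorem yt_add {i j : I} (hij : i ≠ j) (t u : K) :
    T.yt third i j (t + u) = T.yt third i j t * T.yt third i j u := by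
  unfold yt
  simp only [dif_neg hij]
  have hs := Classical.choose_spec (third i j hij)
  exact T.M_add_left hC hs.1 hs.2 hij t u 1

include hC in
theorem yt_comm {i j k l : I} (hij : i ≠ j) (hkl : k ≠ l) (hjk : j ≠ k) (hil : i ≠ l) (t u : K) :
    Commute (T.yt third i j t) (T.yt third k l u) :=
  hC i j k l hij hkl hjk hil t u _ _ (T.π_yt third hij t) (T.π_yt third hkl u)

include hW in
theorem yt_rel {i j l : I} (hij : i ≠ j) (hjl : j ≠ l) (hil : i ≠ l) (t u : K) :
    ⁅T.yt third i j t, T.yt third j l u⁆ = T.yt third i l (t * u) := by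
  rw [T.M_eq (T.π_yt third hij t) (T.π_yt third hjl u)]
  exact T.M_eq_yt hW third hij hjl hil t u

/-- the lifted Steinberg data -/
noncomputable def liftData : AData I K E where
  y := T.yt third
  y_add := fun i j hij t u => T.yt_add hC third hij t u
  y_comm := fun i j k l hij hkl hjk hil t u => T.yt_comm hC third hij hkl hjk hil t u
  y_rel := fun i j l hij hjl hil t u => T.yt_rel hW third hij hjl hil t u

theorem π_liftData {i j : I} (hij : i ≠ j) (t : K) :
    T.π ((T.liftData hC hW third).y i j t) = D.y i j t := T.π_yt third hij t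

end CExtA

end cext

/-! ### The Steinberg relations as a presentation -/

section pres
variable (n : ℕ) (K : Type*) [Field K]

/-- the generators of the Steinberg group -/
abbrev StGen := {ij : Fin n × Fin n // ij.1 ≠ ij.2} × K

/-- the Steinberg relators of type `A_{n-1}` (same set as in statement S2401) -/
def stRels : Set (FreeGroup (StGen n K)) :=
  {g : FreeGroup ({ij : Fin n × Fin n // ij.1 ≠ ij.2} × K) | ∃ (a : {ij : Fin n × Fin n // ij.1 ≠ ij.2}) (t u : K),
      g = FreeGroup.of (a, t) * FreeGroup.of (a, u) * (FreeGroup.of (a, t + u))⁻¹} ∪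
    {g | ∃ (a b : {ij : Fin n × Fin n // ij.1 ≠ ij.2}) (t u : K), a.1.1 ≠ b.1.2 ∧ a.1.2 ≠ b.1.1 ∧
      g = FreeGroup.of (a, t) * FreeGroup.of (b, u) * (FreeGroup.of (a, t))⁻¹ * (FreeGroup.of (b, u))⁻¹} ∪
    {g | ∃ (a b : {ij : Fin n × Fin n // ij.1 ≠ ij.2}) (h : a.1.1 ≠ b.1.2) (t u : K), a.1.2 = b.1.1 ∧
      g = FreeGroup.of (a, t) * FreeGroup.of (b, u) * (FreeGroup.of (a, t))⁻¹ * (FreeGroup.of (b, u))⁻¹ *
        (FreeGroup.of (⟨(a.1.1, b.1.2), h⟩, t * u))⁻¹}

variable {n K}
variable {G : Type*} [Group G] (D : AData (Fin n) K G)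

/-- Steinberg data give a homomorphism from the Steinberg group -/
noncomputable def AData.toHom : PresentedGroup (stRels n K) →* G :=
  PresentedGroup.toGroup (f := fun x : StGen n K => D.y x.1.1.1 x.1.1.2 x.2) (by
    intro r hr
    rcases hr with (⟨a, t, u, rfl⟩ | ⟨a, b, t, u, h1, h2, rfl⟩) | ⟨a, b, h, t, u, h1, rfl⟩
    · simp only [map_mul, map_inv, FreeGroup.lift_apply_of]
      rw [D.y_add _ _ a.2 t u]
      group
    · simp only [map_mul, map_inv, FreeGroup.lift_apply_of]
      have := (D.y_comm _ _ _ _ a.2 b.2 h2 h1 t u).eq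
      rw [this]
      group
    · simp only [map_mul, map_inv, FreeGroup.lift_apply_of]
      have hab : a.1.2 ≠ b.1.2 := by rw [h1]; exact b.2
      have := D.y_rel a.1.1 a.1.2 b.1.2 a.2 hab h t u
      rw [commutatorElement_def] at this
      have e : D.y b.1.1 b.1.2 u = D.y a.1.2 b.1.2 u := by rw [h1]
      rw [e, this]
      group)

theorem AData.toHom_of (a : {ij : Fin n × Fin n // ij.1 ≠ ij.2}) (t : K) :
    D.toHom (PresentedGroup.of (a, t)) = D.y a.1.1 a.1.2 t := by
  unfold AData.toHom
  rw [PresentedGroup.toGroup.of]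

end pres

end Cfsg.Agent.Lib.Helper2.SLM
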