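import Cfsg.Agent.Lib.Helper2.SLM2

/-!
# Central extensions of a group with Steinberg data of type `A`: torus and Weyl arguments

For small index sets no fresh index is available; instead one uses elements of `Γ` normalizing the root
groups (diagonal and permutation matrices in `SL_n`) to kill the commutator pairing of the lifts of two
commuting root groups, and to show that the bracket `M h i j t u` is balanced.
-/

set_option autoImplicit false
set_option linter.unusedSectionVars false
set_option linter.unusedVariables false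
set_option linter.unusedSimpArgs false

namespace Cfsg.Agent.Lib.Helper2.SLM

open Cfsg.Agent.Lib.Helper3.StU
open scoped commutatorElement

section cext
variable {I K Γ E : Type*} [Field K] [Group Γ] [Group E] {D : AData I K Γ}
  (T : CExtA D E)

namespace CExtA

/-- the pairing of lifts of two root groups -/
noncomputable def pair (i j k l : I) (t u : K) : E := ⁅T.lift (D.y i j t), T.lift (D.y k l u)⁆

theorem pair_eq {i j k l : I} {t u : K} {a b : E} (ha : T.π a = D.y i j t)
    (hb : T.π b = D.y k l u) : ⁅a, b⁆ = T.pair i j k l t u :=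
  comm_congr T.π T.central (ha.trans (T.π_lift _).symm) (hb.trans (T.π_lift _).symm)

theorem eq_of_conj_eq {g a b : Γ} (h : g * a = b * g) : g * a * g⁻¹ = b := by
  rw [h, mul_inv_cancel_right]

/-- conjugating lifts -/
theorem π_conj_lift {g a b : Γ} (h : g * a = b * g) {e : E} (he : T.π e = a) :
    T.π (T.lift g * e * (T.lift g)⁻¹) = b := by
  rw [map_mul, map_mul, map_inv, T.π_lift, he, h, mul_inv_cancel_right]

section pairing
variable {i j k l : I} (hij : i ≠ j) (hkl : k ≠ l) (hjk : j ≠ k) (hil : i ≠ l)
include hij hkl hjk hil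

theorem pair_central (t u : K) : T.pair i j k l t u ∈ Subgroup.center E :=
  T.comm_central (by rw [T.π_lift, T.π_lift]; exact D.y_comm i j k l hij hkl hjk hil t u)

theorem pair_add_left (t t' u : K) :
    T.pair i j k l (t + t') u = T.pair i j k l t u * T.pair i j k l t' u := by
  have e1 : T.π (T.lift (D.y i j t) * T.lift (D.y i j t')) = D.y i j (t + t') := by
    rw [map_mul, T.π_lift, T.π_lift, D.y_add i j hij]
  rw [← T.pair_eq e1 (T.π_lift _)]
  exact comm_mul_left_of_central (T.pair_central hij hkl hjk hil t' u)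

theorem pair_add_right (t u u' : K) :
    T.pair i j k l t (u + u') = T.pair i j k l t u * T.pair i j k l t u' := by
  have e1 : T.π (T.lift (D.y k l u) * T.lift (D.y k l u')) = D.y k l (u + u') := by
    rw [map_mul, T.π_lift, T.π_lift, D.y_add k l hkl]
  rw [← T.pair_eq (T.π_lift _) e1]
  exact comm_mul_right_of_central (T.pair_central hij hkl hjk hil t u')

theorem pair_zero_left (u : K) : T.pair i j k l 0 u = 1 := by
  have := T.pair_add_left hij hkl hjk hil 0 0 u
  rw [add_zero] at this
  exact (mul_eq_left.1 this.symm)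

theorem pair_zero_right (t : K) : T.pair i j k l t 0 = 1 := by
  have := T.pair_add_right hij hkl hjk hil t 0 0
  rw [add_zero] at this
  exact (mul_eq_left.1 this.symm)

theorem pair_neg_left (t u : K) : T.pair i j k l (-t) u = (T.pair i j k l t u)⁻¹ := by
  have := T.pair_add_left hij hkl hjk hil (-t) t u
  rw [neg_add_cancel, T.pair_zero_left hij hkl hjk hil] at this
  exact eq_inv_of_mul_eq_one_left this.symm

theorem pair_neg_right (t u : K) : T.pair i j k l t (-u) = (T.pair i j k l t u)⁻¹ := by
  have := T.pair_add_right hij hkl hjk hil t (-u) u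
  rw [neg_add_cancel, T.pair_zero_right hij hkl hjk hil] at this
  exact eq_inv_of_mul_eq_one_left this.symm

/-- if the pairing vanishes, lifts commute -/
theorem liftsCommuteAt_of_pair (h : ∀ t u : K, T.pair i j k l t u = 1) :
    T.LiftsCommuteAt i j k l := by
  intro t u e₁ e₂ h₁ h₂
  have := T.pair_eq h₁ h₂
  rw [h t u, commutatorElement_def] at this
  have h3 : e₁ * e₂ = e₂ * e₁ := by
    have := congrArg (fun x => x * e₂ * e₁) this
    simpa [mul_assoc] using this
  exact h3

/-- conjugation invariance of the pairing -/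
theorem pair_conj (g : Γ) (c c' : K) (h1 : ∀ t, g * D.y i j t = D.y i j (c * t) * g)
    (h2 : ∀ u, g * D.y k l u = D.y k l (c' * u) * g) (t u : K) :
    T.pair i j k l (c * t) (c' * u) = T.pair i j k l t u := by
  have hz := T.pair_central hij hkl hjk hil t u
  have e0 : T.lift g * T.pair i j k l t u * (T.lift g)⁻¹ = T.pair i j k l t u := by
    rw [Subgroup.mem_center_iff.mp hz (T.lift g), mul_inv_cancel_right]
  rw [← e0]
  unfold pair
  rw [conj_comm]
  exact (T.pair_eq (T.π_conj_lift (h1 t) (T.π_lift _)) (T.π_conj_lift (h2 u) (T.π_lift _))).symm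

/-- Scaling argument: an element of `Γ` scaling the first root group by `c ≠ 1` and centralizing the
second kills the pairing. -/
theorem liftsCommuteAt_of_scaling (g : Γ) (c : K) (hc : c ≠ 1)
    (h1 : ∀ t, g * D.y i j t = D.y i j (c * t) * g)
    (h2 : ∀ u, g * D.y k l u = D.y k l u * g) : T.LiftsCommuteAt i j k l := by
  apply T.liftsCommuteAt_of_pair hij hkl hjk hil
  have hc' : c - 1 ≠ 0 := sub_ne_zero.2 hc
  have key : ∀ t u : K, T.pair i j k l ((c - 1) * t) u = 1 := by
    intro t u
    have e1 := T.pair_conj hij hkl hjk hil g c 1 h1 (by intro u; rw [one_mul]; exact h2 u) t u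
    rw [one_mul] at e1
    have e2 : c * t = (c - 1) * t + t := by ring
    rw [e2, T.pair_add_left hij hkl hjk hil] at e1
    exact mul_eq_right.1 e1
  intro t u
  have := key ((c - 1)⁻¹ * t) u
  rwa [← mul_assoc, mul_inv_cancel₀ hc', one_mul] at this

/-- Swap argument over the field with three elements: an element of `Γ` interchanging the two root
groups kills the pairing. -/
theorem liftsCommuteAt_of_swap (hK : ∀ t : K, t = 0 ∨ t = 1 ∨ t = -1) (h3 : (1 : K) + 1 + 1 = 0)
    (g : Γ) (h1 : ∀ t, g * D.y i j t = D.y k l t * g)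
    (h2 : ∀ u, g * D.y k l u = D.y i j u * g) : T.LiftsCommuteAt i j k l := by
  apply T.liftsCommuteAt_of_pair hij hkl hjk hil
  set z := T.pair i j k l 1 1 with hz
  have hzc := T.pair_central hij hkl hjk hil 1 1
  -- swap: z = z⁻¹
  have e0 : T.lift g * z * (T.lift g)⁻¹ = z := by
    rw [Subgroup.mem_center_iff.mp hzc (T.lift g), mul_inv_cancel_right]
  have e1 : z = z⁻¹ := by
    have h4 : T.lift g * z * (T.lift g)⁻¹ =
        ⁅T.lift g * T.lift (D.y i j 1) * (T.lift g)⁻¹, T.lift g * T.lift (D.y k l 1) * (T.lift g)⁻¹⁆ := by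
      rw [hz]; unfold pair; rw [conj_comm]
    rw [e0] at h4
    have h5 : ⁅T.lift g * T.lift (D.y k l 1) * (T.lift g)⁻¹,
        T.lift g * T.lift (D.y i j 1) * (T.lift g)⁻¹⁆ = z :=
      T.pair_eq (T.π_conj_lift (h2 1) (T.π_lift _)) (T.π_conj_lift (h1 1) (T.π_lift _))
    calc z = _ := h4
      _ = (⁅T.lift g * T.lift (D.y k l 1) * (T.lift g)⁻¹,
        T.lift g * T.lift (D.y i j 1) * (T.lift g)⁻¹⁆)⁻¹ := (commutatorElement_inv _ _).symm
      _ = z⁻¹ := by rw [h5]
  have e2 : z * z = 1 := by
    nth_rewrite 1 [e1]
    exact inv_mul_cancel z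
  have e3 : z * z * z = 1 := by
    have := T.pair_add_left hij hkl hjk hil (1 + 1) 1 1
    rw [T.pair_add_left hij hkl hjk hil 1 1 1, h3, T.pair_zero_left hij hkl hjk hil] at this
    exact this.symm
  have e4 : z = 1 := by rw [e2, one_mul] at e3; exact e3
  have hone : ∀ u : K, T.pair i j k l 1 u = 1 := by
    intro u
    rcases hK u with rfl | rfl | rfl
    · exact T.pair_zero_right hij hkl hjk hil 1
    · exact e4
    · rw [T.pair_neg_right hij hkl hjk hil, ← hz, e4, inv_one]
  intro t u
  rcases hK t with rfl | rfl | rfl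
  · exact T.pair_zero_left hij hkl hjk hil u
  · exact hone u
  · rw [T.pair_neg_left hij hkl hjk hil, hone u, inv_one]

end pairing

end CExtA

end cext

end Cfsg.Agent.Lib.Helper2.SLM
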