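import Cfsg.Agent.Lib.Helper2.SLM3

/-!
# Central extensions of a group with Steinberg data of type `A`: balancing the bracket with three indices

With only three indices the bracket `M h i j t u` is shown to be balanced (`M (c t) u = M t (c u)`) for
`c` in a subfield containing the cubes, using torus elements of order prime to the characteristic.
-/

set_option autoImplicit false
set_option linter.unusedSectionVars false
set_option linter.unusedVariables false
set_option linter.unusedSimpArgs false

namespace Cfsg.Agent.Lib.Helper2.SLM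

open Cfsg.Agent.Lib.Helper3.StU
open scoped commutatorElement

section grp
variable {E : Type*} [Group E]

theorem comm_pow_left_of_central {a b : E} (h : ⁅a, b⁆ ∈ Subgroup.center E) (m : ℕ) :
    ⁅a ^ m, b⁆ = ⁅a, b⁆ ^ m := by
  induction m with
  | zero => rw [pow_zero, pow_zero, comm_one_left]
  | succ k ih =>
    rw [pow_succ, pow_succ, comm_mul_left_of_central h, ih]

theorem comm_eq_one_of_central_left {z b : E} (hz : z ∈ Subgroup.center E) : ⁅z, b⁆ = 1 := by
  rw [commutatorElement_def, (Subgroup.mem_center_iff.mp hz b).symm]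
  group

theorem comm_eq_one_of_central_right {a z : E} (hz : z ∈ Subgroup.center E) : ⁅a, z⁆ = 1 := by
  rw [commutatorElement_def, Subgroup.mem_center_iff.mp hz a]
  group

theorem eq_one_of_pow_coprime {z : E} {m p : ℕ} (hm : z ^ m = 1) (hp : z ^ p = 1)
    (hmp : Nat.Coprime m p) : z = 1 := by
  have h1 := orderOf_dvd_of_pow_eq_one hm
  have h2 := orderOf_dvd_of_pow_eq_one hp
  have h3 : orderOf z ∣ 1 := by
    have := Nat.dvd_gcd h1 h2
    rwa [hmp.gcd_eq_one] at this
  exact orderOf_eq_one_iff.mp (Nat.dvd_one.mp h3)

theorem commute_of_comm_eq_one {a b : E} (h : ⁅a, b⁆ = 1) : Commute a b := by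
  rw [commutatorElement_def] at h
  have h3 : a * b = b * a := by
    have := congrArg (fun x => x * b * a) h
    simpa [mul_assoc] using this
  exact h3

end grp

section cext
variable {I K Γ E : Type*} [Field K] [Group Γ] [Group E] {D : AData I K Γ}
  (T : CExtA D E)

namespace CExtA

/-- Lifts of an element `g` of order prime to the characteristic commute with the lifts of the elements of
a root group centralized by `g`. -/
theorem commute_lift_of_coprime {i j : I} (hij : i ≠ j) (g : Γ)
    (h3 : ∀ v, g * D.y i j v = D.y i j v * g) (m p : ℕ) (hm : g ^ m = 1) (hp : (p : K) = 0)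
    (hmp : Nat.Coprime m p) (v : K) (e : E) (he : T.π e = D.y i j v) : Commute (T.lift g) e := by
  set gt := T.lift g with hgt
  have hcen : ∀ w : K, ⁅gt, T.lift (D.y i j w)⁆ ∈ Subgroup.center E := by
    intro w
    apply T.comm_central
    rw [T.π_lift, T.π_lift]
    exact h3 w
  have hadd : ∀ w w' : K, ⁅gt, T.lift (D.y i j (w + w'))⁆ =
      ⁅gt, T.lift (D.y i j w)⁆ * ⁅gt, T.lift (D.y i j w')⁆ := by
    intro w w'
    have e1 : T.π (T.lift (D.y i j (w + w'))) = T.π (T.lift (D.y i j w) * T.lift (D.y i j w')) := by
      rw [map_mul, T.π_lift, T.π_lift, T.π_lift, D.y_add i j hij]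
    rw [comm_congr T.π T.central rfl e1]
    exact comm_mul_right_of_central (hcen w')
  have hzero : ⁅gt, T.lift (D.y i j 0)⁆ = 1 := by
    apply comm_eq_one_of_central_right
    apply T.mem_center_of_π_eq_one
    rw [T.π_lift, D.y_zero hij]
  have hnsmul : ∀ (k : ℕ) (w : K), ⁅gt, T.lift (D.y i j ((k : K) * w))⁆ =
      ⁅gt, T.lift (D.y i j w)⁆ ^ k := by
    intro k w
    induction k with
    | zero => rw [Nat.cast_zero, zero_mul, pow_zero, hzero]
    | succ k ih =>
      have : ((k + 1 : ℕ) : K) * w = (k : K) * w + w := by push_cast; ring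
      rw [this, hadd, ih, pow_succ]
  have hp1 : ⁅gt, T.lift (D.y i j v)⁆ ^ p = 1 := by
    rw [← hnsmul p v, hp, zero_mul, hzero]
  have hm1 : ⁅gt, T.lift (D.y i j v)⁆ ^ m = 1 := by
    rw [← comm_pow_left_of_central (hcen v) m]
    apply comm_eq_one_of_central_left
    apply T.mem_center_of_π_eq_one
    rw [map_pow, T.π_lift, hm]
  have h1 : ⁅gt, T.lift (D.y i j v)⁆ = 1 := eq_one_of_pow_coprime hm1 hp1 hmp
  have h2 : ⁅gt, e⁆ = ⁅gt, T.lift (D.y i j v)⁆ :=
    comm_congr T.π T.central rfl (he.trans (T.π_lift _).symm)
  exact commute_of_comm_eq_one (h2.trans h1)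

/-- conjugation invariance of the bracket -/
theorem M_conj {i h j : I} (hih : i ≠ h) (hhj : h ≠ j) (hij : i ≠ j) (g : Γ) (c c' : K)
    (h1 : ∀ t, g * D.y i h t = D.y i h (c * t) * g)
    (h2 : ∀ u, g * D.y h j u = D.y h j (c' * u) * g) (t u : K)
    (hcomm : Commute (T.lift g) (T.M h i j t u)) :
    T.M h i j (c * t) (c' * u) = T.M h i j t u := by
  have e0 : T.lift g * T.M h i j t u * (T.lift g)⁻¹ = T.M h i j t u := by
    rw [hcomm.eq, mul_inv_cancel_right]
  rw [← e0]
  unfold M
  rw [conj_comm]
  exact (T.M_eq (T.π_conj_lift (h1 t) (T.π_lift _)) (T.π_conj_lift (h2 u) (T.π_lift _))).symm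

variable (hC : T.LiftsCommute)

/-- the subfield of scalars for which the bracket is balanced -/
def balSubfield {i h j : I} (hih : i ≠ h) (hhj : h ≠ j) (hij : i ≠ j) : Subfield K where
  carrier := {c | ∀ t u : K, T.M h i j (c * t) u = T.M h i j t (c * u)}
  mul_mem' := by
    intro a b ha hb t u
    rw [mul_assoc, ha, hb, ← mul_assoc, mul_comm b a]
  one_mem' := by intro t u; rw [one_mul, one_mul]
  add_mem' := by
    intro a b ha hb t u
    rw [add_mul, add_mul, T.M_add_left hC hih hhj hij, T.M_add_right hC hih hhj hij, ha, hb]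
  zero_mem' := by
    intro t u
    have e1 : T.M h i j 0 u = 1 := by
      have := T.M_add_left hC hih hhj hij 0 0 u
      rw [add_zero] at this
      exact (mul_eq_left.1 this.symm)
    have e2 : T.M h i j t 0 = 1 := by
      have := T.M_add_right hC hih hhj hij t 0 0
      rw [add_zero] at this
      exact (mul_eq_left.1 this.symm)
    rw [zero_mul, zero_mul, e1, e2]
  neg_mem' := by
    intro a ha t u
    have e1 : ∀ s v : K, T.M h i j (-s) v = (T.M h i j s v)⁻¹ := by
      intro s v
      have e0 : T.M h i j 0 v = 1 := by
        have := T.M_add_left hC hih hhj hij 0 0 v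
        rw [add_zero] at this
        exact (mul_eq_left.1 this.symm)
      have := T.M_add_left hC hih hhj hij (-s) s v
      rw [neg_add_cancel, e0] at this
      exact eq_inv_of_mul_eq_one_left this.symm
    have e2 : ∀ s v : K, T.M h i j s (-v) = (T.M h i j s v)⁻¹ := by
      intro s v
      have e0 : T.M h i j s 0 = 1 := by
        have := T.M_add_right hC hih hhj hij s 0 0
        rw [add_zero] at this
        exact (mul_eq_left.1 this.symm)
      have := T.M_add_right hC hih hhj hij s (-v) v
      rw [neg_add_cancel, e0] at this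
      exact eq_inv_of_mul_eq_one_left this.symm
    rw [neg_mul, neg_mul, e1, e2, ha]
  inv_mem' := by
    intro a ha t u
    by_cases h0 : a = 0
    · subst h0
      rw [inv_zero]
      have e1 : T.M h i j 0 u = 1 := by
        have := T.M_add_left hC hih hhj hij 0 0 u
        rw [add_zero] at this
        exact (mul_eq_left.1 this.symm)
      have e2 : T.M h i j t 0 = 1 := by
        have := T.M_add_right hC hih hhj hij t 0 0
        rw [add_zero] at this
        exact (mul_eq_left.1 this.symm)
      rw [zero_mul, zero_mul, e1, e2]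
    · have := ha (a⁻¹ * t) (a⁻¹ * u)
      rw [← mul_assoc, ← mul_assoc, mul_inv_cancel₀ h0, one_mul, one_mul] at this
      exact this.symm

theorem mem_balSubfield {i h j : I} (hih : i ≠ h) (hhj : h ≠ j) (hij : i ≠ j) (c : K) :
    c ∈ T.balSubfield hC hih hhj hij ↔ ∀ t u : K, T.M h i j (c * t) u = T.M h i j t (c * u) :=
  Iff.rfl

/-- if the balancing subfield is everything, the bracket only depends on the product -/
theorem M_eq_of_balSubfield_eq_top {i h j : I} (hih : i ≠ h) (hhj : h ≠ j) (hij : i ≠ j)
    (htop : T.balSubfield hC hih hhj hij = ⊤) (t u t' u' : K) (htu : t * u = t' * u') :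
    T.M h i j t u = T.M h i j t' u' := by
  have key : ∀ s v : K, T.M h i j s v = T.M h i j 1 (s * v) := by
    intro s v
    have hs : s ∈ T.balSubfield hC hih hhj hij := by rw [htop]; exact Subfield.mem_top s
    have := hs 1 v
    rwa [mul_one] at this
  rw [key t u, key t' u', htu]

end CExtA

end cext

/-! ### A subfield of a finite field containing all cubes -/

section cubes
variable {K : Type*} [Field K] [Finite K]

theorem subfield_eq_top_of_cubes (S : Subfield K) (hcube : ∀ d : K, d ^ 3 ∈ S)
    (hq : Nat.card K ≠ 4) : S = ⊤ := by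
  classical
  haveI : Fintype K := Fintype.ofFinite K
  by_contra hne
  -- cardinalities
  have hpow : Nat.card K = Nat.card S ^ Module.finrank S K := Module.natCard_eq_pow_finrank
  set s := Nat.card S with hs
  set q := Nat.card K with hq'
  set r := Module.finrank S K with hr
  have hs2 : 2 ≤ s := by
    rw [hs]
    exact Finite.one_lt_card_iff_nontrivial.mpr inferInstance
  have hq2 : 2 ≤ q := Finite.one_lt_card_iff_nontrivial.mpr inferInstance
  have hr0 : r ≠ 0 := by
    intro h0
    rw [h0, pow_zero] at hpow
    omega
  have hr1 : r ≠ 1 := by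
    intro h1
    rw [h1, pow_one] at hpow
    apply hne
    have hinj : Function.Injective (S.subtype : S → K) := Subtype.val_injective
    have hbij : Function.Bijective (S.subtype : S → K) :=
      Function.Injective.bijective_of_nat_card_le hinj (by rw [← hs, ← hq', hpow])
    rw [eq_top_iff]
    intro x _
    obtain ⟨y, hy⟩ := hbij.2 x
    rw [← hy]
    exact y.2
  have hsq : s ^ 2 ≤ q := by
    rw [hpow]
    exact Nat.pow_le_pow_right (by omega) (by omega)
  -- counting cubes
  have hcount : q - 1 ≤ 3 * (s - 1) := by
    let A : Finset K := Finset.univ.filter (fun x => x ≠ 0)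
    let f : K → K := fun x => x ^ 3
    have hA : A.card = q - 1 := by
      have : A = Finset.univ.erase 0 := by
        ext x; simp [A]
      rw [this, Finset.card_erase_of_mem (Finset.mem_univ _), Finset.card_univ, hq',
        Nat.card_eq_fintype_card]
    have h1 := Finset.card_le_mul_card_image (f := f) A 3 (by
      intro a ha
      have hsub : (A.filter fun x => f x = a) ⊆ (Polynomial.nthRoots 3 a).toFinset := by
        intro x hx
        rw [Finset.mem_filter] at hx
        rw [Multiset.mem_toFinset, Polynomial.mem_nthRoots (by norm_num)]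
        exact hx.2
      calc (A.filter fun x => f x = a).card ≤ (Polynomial.nthRoots 3 a).toFinset.card :=
            Finset.card_le_card hsub
        _ ≤ Multiset.card (Polynomial.nthRoots 3 a) := Multiset.toFinset_card_le _
        _ ≤ 3 := Polynomial.card_nthRoots 3 a)
    have h2 : (A.image f).card ≤ s - 1 := by
      let B : Finset K := (Finset.univ.filter (fun x => x ∈ S)).erase 0
      have hB : B.card = s - 1 := by
        have h0 : (0 : K) ∈ Finset.univ.filter (fun x => x ∈ S) := by
          rw [Finset.mem_filter]; exact ⟨Finset.mem_univ _, S.zero_mem⟩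
        rw [Finset.card_erase_of_mem h0]
        congr 1
        rw [hs, Nat.card_eq_fintype_card]
        exact (Fintype.card_subtype (fun x => x ∈ S)).symm
      rw [← hB]
      apply Finset.card_le_card
      intro x hx
      rw [Finset.mem_image] at hx
      obtain ⟨d, hd, rfl⟩ := hx
      rw [Finset.mem_erase, Finset.mem_filter]
      refine ⟨?_, Finset.mem_univ _, hcube d⟩
      have hd0 : d ≠ 0 := by
        have := (Finset.mem_filter.mp hd).2
        exact this
      exact pow_ne_zero 3 hd0
    rw [hA] at h1
    calc q - 1 ≤ 3 * (A.image f).card := h1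
      _ ≤ 3 * (s - 1) := Nat.mul_le_mul_left 3 h2
  -- arithmetic
  have hs_le : s ≤ 2 := by
    by_contra hgt
    push_neg at hgt
    have : 3 * s ≤ s ^ 2 := by nlinarith
    omega
  have hs_eq : s = 2 := le_antisymm hs_le hs2
  have hq4 : q ≤ 4 := by omega
  rw [hs_eq] at hsq
  have : q = 4 := by omega
  exact hq this

end cubes

end Cfsg.Agent.Lib.Helper2.SLM
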