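import Cfsg.Agent.Lib.Helper2.SLM4

/-!
# The Steinberg data of `SL_n`, diagonal and permutation matrices
-/

set_option autoImplicit false
set_option linter.unusedSectionVars false
set_option linter.unusedVariables false
set_option linter.unusedSimpArgs false

namespace Cfsg.Agent.Lib.Helper2.SLM

open Matrix
open scoped commutatorElement

section sl
variable {n : ℕ} {K : Type*} [Field K]

/-- the root elements of `SL_n` -/
noncomputable def slY (i j : Fin n) (t : K) : SpecialLinearGroup (Fin n) K :=
  if h : i ≠ j then SpecialLinearGroup.transvection h t else 1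

theorem slY_of_ne {i j : Fin n} (h : i ≠ j) (t : K) :
    slY i j t = SpecialLinearGroup.transvection h t := dif_pos h

theorem slY_coe {i j : Fin n} (h : i ≠ j) (t : K) :
    (slY i j t : SpecialLinearGroup (Fin n) K).1 = Matrix.transvection i j t := by
  rw [slY_of_ne h]; rfl

theorem slY_apply {i j : Fin n} (h : i ≠ j) (t : K) (a b : Fin n) :
    (slY i j t : SpecialLinearGroup (Fin n) K).1 a b =
      (if a = b then 1 else 0) + (if i = a ∧ j = b then t else 0) := by
  rw [slY_coe h, Matrix.transvection, Matrix.add_apply, Matrix.one_apply, Matrix.single_apply]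

theorem slY_add {i j : Fin n} (h : i ≠ j) (t u : K) : slY i j (t + u) = slY i j t * slY i j u := by
  apply Subtype.ext
  show (slY i j (t + u)).1 = (slY i j t).1 * (slY i j u).1
  rw [slY_coe h, slY_coe h, slY_coe h]
  exact (Matrix.transvection_mul_transvection_same i j h t u).symm

theorem slY_comm {i j k l : Fin n} (hij : i ≠ j) (hkl : k ≠ l) (hjk : j ≠ k) (hil : i ≠ l)
    (t u : K) : Commute (slY i j t) (slY k l u) := by
  show slY i j t * slY k l u = slY k l u * slY i j t
  apply Subtype.ext
  show (slY i j t).1 * (slY k l u).1 = (slY k l u).1 * (slY i j t).1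
  rw [slY_coe hij, slY_coe hkl]
  simp [Matrix.transvection, mul_add, add_mul,
    single_mul_single_of_ne _ _ _ _ hjk, single_mul_single_of_ne _ _ _ _ hil.symm]
  abel

theorem slY_rel {i j l : Fin n} (hij : i ≠ j) (hjl : j ≠ l) (hil : i ≠ l) (t u : K) :
    ⁅slY i j t, slY j l u⁆ = slY i l (t * u) := by
  have key : slY i j t * slY j l u = slY i l (t * u) * slY j l u * slY i j t := by
    apply Subtype.ext
    show (slY i j t).1 * (slY j l u).1 = (slY i l (t * u)).1 * (slY j l u).1 * (slY i j t).1
    rw [slY_coe hij, slY_coe hjl, slY_coe hil]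
    simp [Matrix.transvection, mul_add, add_mul,
      single_mul_single_of_ne _ _ _ _ hil.symm, single_mul_single_of_ne _ _ _ _ hjl.symm]
    abel
  rw [commutatorElement_def, key]
  group

/-- the Steinberg data of `SL_n` -/
noncomputable def slData (n : ℕ) (K : Type*) [Field K] :
    AData (Fin n) K (SpecialLinearGroup (Fin n) K) where
  y := slY
  y_add := fun i j hij t u => slY_add hij t u
  y_comm := fun i j k l hij hkl hjk hil t u => slY_comm hij hkl hjk hil t u
  y_rel := fun i j l hij hjl hil t u => slY_rel hij hjl hil t u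

/-- diagonal matrices of determinant one -/
noncomputable def diagSL (w : Fin n → Kˣ) (hw : ∏ x, w x = 1) : SpecialLinearGroup (Fin n) K :=
  ⟨Matrix.diagonal (fun x => ((w x : Kˣ) : K)), by
    rw [Matrix.det_diagonal]
    have := congrArg (fun u : Kˣ => (u : K)) hw
    simpa using this⟩

theorem diagSL_coe (w : Fin n → Kˣ) (hw : ∏ x, w x = 1) :
    (diagSL w hw : SpecialLinearGroup (Fin n) K).1 =
      Matrix.diagonal (fun x => ((w x : Kˣ) : K)) := rfl

/-- conjugation of a root element by a diagonal matrix -/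
theorem diagSL_mul_slY (w : Fin n → Kˣ) (hw : ∏ x, w x = 1) {i j : Fin n} (hij : i ≠ j) (t : K) :
    diagSL w hw * slY i j t = slY i j ((((w i : Kˣ) : K) * (((w j : Kˣ) : K))⁻¹) * t) * diagSL w hw := by
  apply Subtype.ext
  ext a b
  show ((diagSL w hw).1 * (slY i j t).1) a b =
    ((slY i j ((((w i : Kˣ) : K) * (((w j : Kˣ) : K))⁻¹) * t)).1 * (diagSL w hw).1) a b
  rw [diagSL_coe, Matrix.diagonal_mul, Matrix.mul_diagonal, slY_apply hij, slY_apply hij]
  by_cases hab : a = b
  · subst hab
    have h1 : ¬ (i = a ∧ j = a) := fun h => hij (h.1.trans h.2.symm)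
    simp only [if_true, if_neg h1, add_zero, mul_one, one_mul]
  · simp only [if_neg hab, zero_add]
    by_cases h2 : i = a ∧ j = b
    · obtain ⟨rfl, rfl⟩ := h2
      simp only [and_self, if_true]
      have hne : (((w j : Kˣ) : K)) ≠ 0 := Units.ne_zero _
      field_simp
    · simp only [if_neg h2, mul_zero, zero_mul]

theorem diagSL_pow (w : Fin n → Kˣ) (hw : ∏ x, w x = 1) (m : ℕ) (hm : ∀ x, w x ^ m = 1) :
    diagSL w hw ^ m = 1 := by
  apply Subtype.ext
  show (diagSL w hw).1 ^ m = (1 : Matrix (Fin n) (Fin n) K)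
  rw [diagSL_coe, Matrix.diagonal_pow, ← Matrix.diagonal_one]
  congr 1
  funext x
  have := congrArg (fun u : Kˣ => (u : K)) (hm x)
  simpa using this

/-- even permutation matrices -/
noncomputable def permSL (σ : Equiv.Perm (Fin n)) (hσ : Equiv.Perm.sign σ = 1) :
    SpecialLinearGroup (Fin n) K :=
  ⟨σ.permMatrix K, by rw [Matrix.det_permutation, hσ]; simp⟩

/-- conjugation of a root element by a permutation matrix -/
theorem permSL_mul_slY (σ : Equiv.Perm (Fin n)) (hσ : Equiv.Perm.sign σ = 1) {i j : Fin n}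
    (hij : i ≠ j) (t : K) :
    permSL σ hσ * slY (σ i) (σ j) t = slY i j t * (permSL σ hσ : SpecialLinearGroup (Fin n) K) := by
  have hij' : σ i ≠ σ j := fun h => hij (σ.injective h)
  apply Subtype.ext
  ext a b
  show ((σ.toPEquiv.toMatrix : Matrix (Fin n) (Fin n) K) * (slY (σ i) (σ j) t).1) a b =
    ((slY i j t).1 * (σ.toPEquiv.toMatrix : Matrix (Fin n) (Fin n) K)) a b
  rw [PEquiv.toMatrix_toPEquiv_mul, PEquiv.mul_toMatrix_toPEquiv, Matrix.submatrix_apply,
    Matrix.submatrix_apply, id, id, slY_apply hij', slY_apply hij]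
  have e1 : (σ a = b) ↔ (a = σ.symm b) := by
    constructor
    · intro h; rw [← h, Equiv.symm_apply_apply]
    · intro h; rw [h, Equiv.apply_symm_apply]
  have e2 : (σ i = σ a ∧ σ j = b) ↔ (i = a ∧ j = σ.symm b) := by
    constructor
    · rintro ⟨h1, h2⟩; exact ⟨σ.injective h1, by rw [← h2, Equiv.symm_apply_apply]⟩
    · rintro ⟨h1, h2⟩; exact ⟨by rw [h1], by rw [h2, Equiv.apply_symm_apply]⟩
  simp only [e1, e2]

end sl

end Cfsg.Agent.Lib.Helper2.SLM
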