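import Cfsg.Agent.Lib.Helper2.SLM5

/-!
# Central extensions of `SL_n` over a finite field: lifts of commuting root elements commute
-/

set_option autoImplicit false
set_option linter.unusedSectionVars false
set_option linter.unusedVariables false
set_option linter.unusedSimpArgs false

namespace Cfsg.Agent.Lib.Helper2.SLM

open Matrix
open scoped commutatorElement

section aux
variable {n : ℕ}

theorem exists_notMem_of_card_lt (S : Finset (Fin n)) (h : S.card < n) : ∃ x, x ∉ S := by
  by_contra hcon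
  push Not at hcon
  have : S = Finset.univ := Finset.eq_univ_iff_forall.2 hcon
  rw [this, Finset.card_univ, Fintype.card_fin] at h
  exact lt_irrefl _ h

theorem exists_fresh2 (hn : 3 ≤ n) (i j : Fin n) : ∃ h, h ≠ i ∧ h ≠ j := by
  obtain ⟨x, hx⟩ := exists_notMem_of_card_lt ({i, j} : Finset (Fin n))
    (lt_of_le_of_lt Finset.card_le_two (by omega))
  simp only [Finset.mem_insert, Finset.mem_singleton, not_or] at hx
  exact ⟨x, hx.1, hx.2⟩

theorem exists_fresh3 (hn : 4 ≤ n) (i j k : Fin n) : ∃ h, h ≠ i ∧ h ≠ j ∧ h ≠ k := by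
  obtain ⟨x, hx⟩ := exists_notMem_of_card_lt ({i, j, k} : Finset (Fin n))
    (lt_of_le_of_lt Finset.card_le_three (by omega))
  simp only [Finset.mem_insert, Finset.mem_singleton, not_or] at hx
  exact ⟨x, hx.1, hx.2.1, hx.2.2⟩

theorem exists_fresh4 (hn : 5 ≤ n) (i j k l : Fin n) : ∃ h, h ≠ i ∧ h ≠ j ∧ h ≠ k ∧ h ≠ l := by
  obtain ⟨x, hx⟩ := exists_notMem_of_card_lt ({i, j, k, l} : Finset (Fin n))
    (lt_of_le_of_lt Finset.card_le_four (by omega))
  simp only [Finset.mem_insert, Finset.mem_singleton, not_or] at hx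
  exact ⟨x, hx.1, hx.2.1, hx.2.2.1, hx.2.2.2⟩

theorem prod_ite_two {M : Type*} [CommMonoid M] (i j : Fin n) (hij : i ≠ j) (a b c : M) :
    ∏ x : Fin n, (if x = i then a else if x = j then b else c) = a * b * c ^ (n - 2) := by
  classical
  rw [← Finset.mul_prod_erase Finset.univ _ (Finset.mem_univ i), if_pos rfl]
  have hj : j ∈ Finset.univ.erase i := Finset.mem_erase.2 ⟨hij.symm, Finset.mem_univ j⟩
  rw [← Finset.mul_prod_erase _ _ hj, if_neg hij.symm, if_pos rfl]
  have hc : ∏ x ∈ (Finset.univ.erase i).erase j, (if x = i then a else if x = j then b else c) =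
      ∏ x ∈ (Finset.univ.erase i).erase j, c := by
    apply Finset.prod_congr rfl
    intro x hx
    obtain ⟨hxj, hx'⟩ := Finset.mem_erase.1 hx
    obtain ⟨hxi, -⟩ := Finset.mem_erase.1 hx'
    rw [if_neg hxi, if_neg hxj]
  rw [hc, Finset.prod_const, Finset.card_erase_of_mem hj,
    Finset.card_erase_of_mem (Finset.mem_univ i), Finset.card_univ, Fintype.card_fin, mul_assoc]
  rfl

end aux

section tor
variable {n : ℕ} {K : Type*} [Field K]

/-- the diagonal entries `a` at `i`, `b` at `j`, `c` elsewhere -/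
def tor (i j : Fin n) (a b c : Kˣ) : Fin n → Kˣ :=
  fun x => if x = i then a else if x = j then b else c

theorem tor_left (i j : Fin n) (a b c : Kˣ) : tor i j a b c i = a := if_pos rfl

theorem tor_right {i j : Fin n} (hij : i ≠ j) (a b c : Kˣ) : tor i j a b c j = b := by
  unfold tor; rw [if_neg hij.symm, if_pos rfl]

theorem tor_other {i j x : Fin n} (hxi : x ≠ i) (hxj : x ≠ j) (a b c : Kˣ) :
    tor i j a b c x = c := by
  unfold tor; rw [if_neg hxi, if_neg hxj]

theorem prod_tor {i j : Fin n} (hij : i ≠ j) (a b c : Kˣ) :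
    ∏ x, tor i j a b c x = a * b * c ^ (n - 2) := prod_ite_two i j hij a b c

/-- scaling by a diagonal matrix, in terms of units -/
theorem diag_scaling (w : Fin n → Kˣ) (hw : ∏ x, w x = 1) {i j : Fin n} (hij : i ≠ j) (c : Kˣ)
    (hc : w i * (w j)⁻¹ = c) (t : K) :
    diagSL w hw * slY i j t = slY i j ((c : K) * t) * diagSL w hw := by
  rw [diagSL_mul_slY w hw hij t, ← hc, Units.val_mul, Units.val_inv_eq_inv_val]

theorem diag_commute (w : Fin n → Kˣ) (hw : ∏ x, w x = 1) {i j : Fin n} (hij : i ≠ j)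
    (hc : w i * (w j)⁻¹ = 1) (t : K) :
    diagSL w hw * slY i j t = slY i j t * diagSL w hw := by
  rw [diag_scaling w hw hij 1 hc t, Units.val_one, one_mul]

end tor

section units
variable {K : Type*} [Field K] [Fintype K]

theorem exists_unit_pow_ne_one (m : ℕ) (h : ¬ (Fintype.card K - 1) ∣ m) : ∃ d : Kˣ, d ^ m ≠ 1 := by
  classical
  obtain ⟨g, hg⟩ := IsCyclic.exists_generator (α := Kˣ)
  refine ⟨g, fun h1 => h ?_⟩
  have h2 := orderOf_dvd_of_pow_eq_one h1
  rwa [orderOf_eq_card_of_forall_mem_zpowers hg, Nat.card_eq_fintype_card, Fintype.card_units]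
    at h2

theorem unit_pow_card_sub_one (x : Kˣ) : x ^ (Fintype.card K - 1) = 1 := by
  classical
  rw [← Fintype.card_units]
  exact pow_card_eq_one

end units

end Cfsg.Agent.Lib.Helper2.SLM
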