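import Cfsg.Agent.Lib.Helper2.SLM6

/-!
# Central extensions of `SL_n` over a finite field: `LiftsCommute`
-/

set_option autoImplicit false
set_option linter.unusedSectionVars false
set_option linter.unusedVariables false
set_option linter.unusedSimpArgs false

namespace Cfsg.Agent.Lib.Helper2.SLM

open Matrix
open scoped commutatorElement

section h1
variable {n : ℕ} {K : Type*} [Field K] {E : Type*} [Group E] (T : CExtA (slData n K) E)

/-- `n = 3`, root elements `y i j`, `y i l` -/
theorem lca_three_row (hn : n = 3) {i j l : Fin n} (hij : i ≠ j) (hil : i ≠ l) (hjl : j ≠ l)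
    (d : Kˣ) (hd : d ^ 3 ≠ 1) : T.LiftsCommuteAt i j i l := by
  have hw : ∏ x, tor i j d (d⁻¹ * d⁻¹) d x = 1 := by
    rw [prod_tor hij, hn]
    show d * (d⁻¹ * d⁻¹) * d ^ 1 = 1
    group
  refine T.liftsCommuteAt_of_scaling hij hil hij.symm hil (diagSL _ hw) ((d ^ 3 : Kˣ) : K) ?_ ?_ ?_
  · intro h
    exact hd (Units.ext h)
  · intro t
    apply diag_scaling _ hw hij
    rw [tor_left, tor_right hij]
    group
  · intro u
    apply diag_commute _ hw hil
    rw [tor_left, tor_other hil.symm hjl.symm]
    group

/-- `n = 3`, root elements `y i j`, `y k j` -/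
theorem lca_three_col (hn : n = 3) {i j k : Fin n} (hij : i ≠ j) (hkj : k ≠ j) (hik : i ≠ k)
    (d : Kˣ) (hd : d ^ 3 ≠ 1) : T.LiftsCommuteAt i j k j := by
  have hw : ∏ x, tor i j (d * d) d⁻¹ d⁻¹ x = 1 := by
    rw [prod_tor hij, hn]
    show d * d * d⁻¹ * d⁻¹ ^ 1 = 1
    group
  refine T.liftsCommuteAt_of_scaling hij hkj hkj.symm hij (diagSL _ hw) ((d ^ 3 : Kˣ) : K) ?_ ?_ ?_
  · intro h
    exact hd (Units.ext h)
  · intro t
    apply diag_scaling _ hw hij
    rw [tor_left, tor_right hij, inv_inv, pow_succ, pow_two]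
  · intro u
    apply diag_commute _ hw hkj
    rw [tor_right hij, tor_other hik.symm hkj]
    group

/-- four distinct indices, a unit with `e ^ 2 ≠ 1` -/
theorem lca_four_torus {i j k l : Fin n} (hij : i ≠ j) (hkl : k ≠ l) (hjk : j ≠ k) (hil : i ≠ l)
    (hik : i ≠ k) (hjl : j ≠ l) (e : Kˣ) (he : e ^ 2 ≠ 1) : T.LiftsCommuteAt i j k l := by
  have hw : ∏ x, tor i j e e⁻¹ 1 x = 1 := by
    rw [prod_tor hij, one_pow, mul_one, mul_inv_cancel]
  refine T.liftsCommuteAt_of_scaling hij hkl hjk hil (diagSL _ hw) ((e ^ 2 : Kˣ) : K) ?_ ?_ ?_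
  · intro h
    exact he (Units.ext h)
  · intro t
    apply diag_scaling _ hw hij
    rw [tor_left, tor_right hij, inv_inv, pow_two]
  · intro u
    apply diag_commute _ hw hkl
    rw [tor_other hik.symm hjk.symm, tor_other hil.symm hjl.symm]
    group

/-- four distinct indices over the field with three elements -/
theorem lca_four_swap [Fintype K] (hK : Fintype.card K = 3) {i j k l : Fin n} (hij : i ≠ j)
    (hkl : k ≠ l) (hjk : j ≠ k) (hil : i ≠ l) (hik : i ≠ k) (hjl : j ≠ l) :
    T.LiftsCommuteAt i j k l := by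
  classical
  -- the field with three elements
  obtain ⟨p, hchar⟩ := CharP.exists K
  obtain ⟨m, hp, hm⟩ := FiniteField.card K p
  have hp3 : p = 3 := by
    rw [hK] at hm
    have h1 : p ∣ 3 := by rw [hm]; exact dvd_pow_self p m.ne_zero
    exact (Nat.prime_dvd_prime_iff_eq hp Nat.prime_three).1 h1
  subst hp3
  have h3 : (1 : K) + 1 + 1 = 0 := by
    have := CharP.cast_eq_zero K 3
    rw [← this]; norm_num
  have h01 : (0 : K) ≠ 1 := zero_ne_one
  have h1m : (1 : K) ≠ -1 := by
    intro h
    have h2 : (1 : K) + 1 = 0 := by nth_rewrite 2 [h]; rw [add_neg_cancel]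
    rw [h2, zero_add] at h3
    exact one_ne_zero h3
  have h0m : (0 : K) ≠ -1 := by
    intro h
    have := congrArg Neg.neg h
    rw [neg_zero, neg_neg] at this
    exact h01 this
  have hall : ∀ t : K, t = 0 ∨ t = 1 ∨ t = -1 := by
    have hcard : ({0, 1, -1} : Finset K).card = 3 := by
      rw [Finset.card_insert_of_notMem, Finset.card_insert_of_notMem, Finset.card_singleton]
      · simpa using h1m
      · simp only [Finset.mem_insert, Finset.mem_singleton, not_or]
        exact ⟨h01, h0m⟩
    have huniv : ({0, 1, -1} : Finset K) = Finset.univ := by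
      apply Finset.eq_univ_of_card
      rw [hcard, hK]
    intro t
    have ht : t ∈ ({0, 1, -1} : Finset K) := by rw [huniv]; exact Finset.mem_univ t
    simpa using ht
  -- the permutation
  set σ : Equiv.Perm (Fin n) := Equiv.swap i k * Equiv.swap j l with hσdef
  have hσ : Equiv.Perm.sign σ = 1 := by
    rw [hσdef, Equiv.Perm.sign_mul, Equiv.Perm.sign_swap hik, Equiv.Perm.sign_swap hjl]
    rfl
  have σi : σ i = k := by
    rw [hσdef, Equiv.Perm.mul_apply, Equiv.swap_apply_of_ne_of_ne hij hil, Equiv.swap_apply_left]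
  have σj : σ j = l := by
    rw [hσdef, Equiv.Perm.mul_apply, Equiv.swap_apply_left,
      Equiv.swap_apply_of_ne_of_ne hil.symm hkl.symm]
  have σk : σ k = i := by
    rw [hσdef, Equiv.Perm.mul_apply, Equiv.swap_apply_of_ne_of_ne hjk.symm hkl,
      Equiv.swap_apply_right]
  have σl : σ l = j := by
    rw [hσdef, Equiv.Perm.mul_apply, Equiv.swap_apply_right,
      Equiv.swap_apply_of_ne_of_ne hij.symm hjk]
  refine T.liftsCommuteAt_of_swap hij hkl hjk hil hall h3 (permSL σ hσ) ?_ ?_
  · intro t
    have := permSL_mul_slY (K := K) σ hσ hkl t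
    rwa [σk, σl] at this
  · intro u
    have := permSL_mul_slY (K := K) σ hσ hij u
    rwa [σi, σj] at this

/-- lifts of commuting root elements of `SL_n(K)` commute, apart from the exceptional cases -/
theorem sl_liftsCommute [Fintype K] (hn : 3 ≤ n)
    (h3 : n = 3 → Fintype.card K ≠ 2 ∧ Fintype.card K ≠ 4) (h4 : n = 4 → Fintype.card K ≠ 2) :
    T.LiftsCommute := by
  intro i j k l hij hkl hjk hil
  by_cases hik : i = k
  · subst hik
    by_cases hjl : j = l
    · subst hjl
      obtain ⟨h, h1, h2⟩ := exists_fresh2 hn i j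
      exact T.liftsCommuteAt_of_fresh hij hkl hjk hil h1 h2 h1 h2
    · by_cases hn3 : n = 3
      · obtain ⟨hq2, hq4⟩ := h3 hn3
        obtain ⟨d, hd⟩ := exists_unit_pow_ne_one (K := K) 3 (by
          intro hdvd
          have hle := Nat.le_of_dvd (by norm_num) hdvd
          have hpos : 2 ≤ Fintype.card K := Fintype.one_lt_card
          have : Fintype.card K - 1 = 1 ∨ Fintype.card K - 1 = 3 := by
            have := (Nat.dvd_prime Nat.prime_three).1 hdvd
            exact this
          omega)
        exact lca_three_row T hn3 hij hil hjl d hd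
      · obtain ⟨h, h1, h2, h3'⟩ := exists_fresh3 (by omega) i j l
        exact T.liftsCommuteAt_of_fresh hij hkl hjk hil h1 h2 h1 h3'
  · by_cases hjl : j = l
    · subst hjl
      by_cases hn3 : n = 3
      · obtain ⟨hq2, hq4⟩ := h3 hn3
        obtain ⟨d, hd⟩ := exists_unit_pow_ne_one (K := K) 3 (by
          intro hdvd
          have hpos : 2 ≤ Fintype.card K := Fintype.one_lt_card
          have : Fintype.card K - 1 = 1 ∨ Fintype.card K - 1 = 3 :=
            (Nat.dvd_prime Nat.prime_three).1 hdvd
          omega)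
        exact lca_three_col T hn3 hij hkl hik d hd
      · obtain ⟨h, h1, h2, h3'⟩ := exists_fresh3 (by omega) i j k
        exact T.liftsCommuteAt_of_fresh hij hkl hjk hil h1 h2 h3' h2
    · -- four distinct indices
      have hn4 : 4 ≤ n := by
        have hcard : ({i, j, k, l} : Finset (Fin n)).card = 4 := by
          rw [Finset.card_insert_of_notMem, Finset.card_insert_of_notMem,
            Finset.card_insert_of_notMem, Finset.card_singleton]
          · simpa using hkl
          · simp only [Finset.mem_insert, Finset.mem_singleton, not_or]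
            exact ⟨hjk, hjl⟩
          · simp only [Finset.mem_insert, Finset.mem_singleton, not_or]
            exact ⟨hij, hik, hil⟩
        have := Finset.card_le_univ ({i, j, k, l} : Finset (Fin n))
        rw [hcard, Fintype.card_fin] at this
        exact this
      by_cases hn4' : n = 4
      · have hq2 := h4 hn4'
        by_cases hq3 : Fintype.card K = 3
        · exact lca_four_swap T hq3 hij hkl hjk hil hik hjl
        · obtain ⟨e, he⟩ := exists_unit_pow_ne_one (K := K) 2 (by
            intro hdvd
            have hpos : 2 ≤ Fintype.card K := Fintype.one_lt_card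
            have : Fintype.card K - 1 = 1 ∨ Fintype.card K - 1 = 2 :=
              (Nat.dvd_prime Nat.prime_two).1 hdvd
            omega)
          exact lca_four_torus T hij hkl hjk hil hik hjl e he
      · obtain ⟨h, h1, h2, h3', h4'⟩ := exists_fresh4 (by omega) i j k l
        exact T.liftsCommuteAt_of_fresh hij hkl hjk hil h1 h2 h3' h4'

end h1

end Cfsg.Agent.Lib.Helper2.SLM
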