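import Cfsg.Agent.Lib.Helper2.SLM7
import Cfsg.Agent.Lib.Helper5.Stb.F2

/-!
# Central extensions of `SL_n` over a finite field split
-/

set_option autoImplicit false
set_option linter.unusedSectionVars false
set_option linter.unusedVariables false
set_option linter.unusedSimpArgs false

namespace Cfsg.Agent.Lib.Helper2.SLM

open Matrix
open scoped commutatorElement

section h2
variable {n : ℕ} {K : Type*} [Field K] [Fintype K] {E : Type*} [Group E]
  (T : CExtA (slData n K) E)

theorem coprime_card_sub_one_ringChar : Nat.Coprime (Fintype.card K - 1) (ringChar K) := by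
  obtain ⟨m, hp, hm⟩ := FiniteField.card K (ringChar K)
  have hpos : 1 ≤ Fintype.card K := Fintype.card_pos
  have h1 : Nat.Coprime (Fintype.card K - 1) (Fintype.card K) := by
    have : Fintype.card K = (Fintype.card K - 1) + 1 := by omega
    rw [Nat.coprime_comm]
    nth_rewrite 1 [this]
    simp
  have h2 : ringChar K ∣ Fintype.card K := by rw [hm]; exact dvd_pow_self _ m.ne_zero
  exact Nat.Coprime.coprime_dvd_right h2 h1

/-- cubes balance the bracket of lifts, `n = 3` -/
theorem cube_mem_balSubfield (hn : n = 3) (hC : T.LiftsCommute) {i h j : Fin n} (hih : i ≠ h)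
    (hhj : h ≠ j) (hij : i ≠ j) (d : K) : d ^ 3 ∈ T.balSubfield hC hih hhj hij := by
  by_cases hd : d = 0
  · rw [hd, zero_pow (by norm_num)]
    exact Subfield.zero_mem _
  set du : Kˣ := Units.mk0 d hd with hdu
  have hw : ∏ x, tor i h du (du⁻¹ * du⁻¹) du x = 1 := by
    rw [prod_tor hih, hn]
    show du * (du⁻¹ * du⁻¹) * du ^ 1 = 1
    group
  set g := diagSL _ hw with hg
  have e3 : ((du ^ 3 : Kˣ) : K) = d ^ 3 := by
    rw [Units.val_pow_eq_pow_val, hdu, Units.val_mk0]
  have e3' : (((du ^ 3)⁻¹ : Kˣ) : K) = (d ^ 3)⁻¹ := by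
    rw [Units.val_inv_eq_inv_val, e3]
  have h1 : ∀ t, g * (slData n K).y i h t = (slData n K).y i h (d ^ 3 * t) * g := by
    intro t
    rw [← e3]
    apply diag_scaling _ hw hih
    rw [tor_left, tor_right hih]
    group
  have h2 : ∀ u, g * (slData n K).y h j u = (slData n K).y h j ((d ^ 3)⁻¹ * u) * g := by
    intro u
    rw [← e3']
    apply diag_scaling _ hw hhj
    rw [tor_right hih, tor_other hij.symm hhj.symm]
    group
  have h3 : ∀ v, g * (slData n K).y i j v = (slData n K).y i j v * g := by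
    intro v
    apply diag_commute _ hw hij
    rw [tor_left, tor_other hij.symm hhj.symm]
    group
  have hgpow : g ^ (Fintype.card K - 1) = 1 :=
    diagSL_pow _ hw _ (fun x => unit_pow_card_sub_one _)
  have hcomm : ∀ t u, Commute (T.lift g) (T.M h i j t u) := fun t u =>
    T.commute_lift_of_coprime hij g h3 (Fintype.card K - 1) (ringChar K) hgpow
      (CharP.cast_eq_zero K (ringChar K)) coprime_card_sub_one_ringChar (t * u) _
      (T.π_M hih hhj hij t u)
  rw [CExtA.mem_balSubfield]
  intro t u
  have hd3 : d ^ 3 ≠ 0 := pow_ne_zero _ hd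
  have := T.M_conj hih hhj hij g (d ^ 3) ((d ^ 3)⁻¹) h1 h2 t (d ^ 3 * u) (hcomm _ _)
  rwa [inv_mul_cancel_left₀ hd3] at this

/-- the brackets of lifts are well defined -/
theorem sl_mWellDef (hn : 3 ≤ n) (h3 : n = 3 → Fintype.card K ≠ 4) (hC : T.LiftsCommute) :
    T.MWellDef := by
  by_cases hn3 : n = 3
  · intro i h h' j hih hhj hih' hhj' hij t u t' u' htu
    have hhh : h = h' := by
      apply Fin.ext
      have e1 : (i : ℕ) ≠ h := fun e => hih (Fin.ext e)
      have e2 : (h : ℕ) ≠ j := fun e => hhj (Fin.ext e)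
      have e3 : (i : ℕ) ≠ h' := fun e => hih' (Fin.ext e)
      have e4 : (h' : ℕ) ≠ j := fun e => hhj' (Fin.ext e)
      have e5 : (i : ℕ) ≠ j := fun e => hij (Fin.ext e)
      have := i.isLt
      have := j.isLt
      have := h.isLt
      have := h'.isLt
      omega
    subst hhh
    have htop : T.balSubfield hC hih hhj hij = ⊤ :=
      subfield_eq_top_of_cubes _ (fun d => cube_mem_balSubfield T hn3 hC hih hhj hij d)
        (by rw [Nat.card_eq_fintype_card]; exact h3 hn3)
    exact T.M_eq_of_balSubfield_eq_top hC hih hhj hij htop t u t' u' htu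
  · exact T.mWellDef_of_fourth hC (fun i h j => exists_fresh3 (by omega) i h j)

end h2

section split
variable {K : Type*} [Field K] [Fintype K]

/-- every central extension of `SL_n(K)` splits, apart from the exceptional cases -/
theorem sl_split (n : ℕ) (hn : 3 ≤ n)
    (h3 : n = 3 → Fintype.card K ≠ 2 ∧ Fintype.card K ≠ 4) (h4 : n = 4 → Fintype.card K ≠ 2)
    {E : Type*} [Group E] (π : E →* SpecialLinearGroup (Fin n) K) (hs : Function.Surjective π)
    (hc : π.ker ≤ Subgroup.center E) :
    ∃ s : SpecialLinearGroup (Fin n) K →* E, π.comp s = MonoidHom.id _ := by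
  classical
  let T : CExtA (slData n K) E := ⟨π, hs, hc⟩
  have hC : T.LiftsCommute := sl_liftsCommute T hn h3 h4
  have hW : T.MWellDef := sl_mWellDef T hn (fun h => (h3 h).2) hC
  have third : ∀ i j : Fin n, i ≠ j → ∃ h, i ≠ h ∧ h ≠ j := by
    intro i j _
    obtain ⟨h, h1, h2⟩ := exists_fresh2 hn i j
    exact ⟨h, h1.symm, h2⟩
  obtain ⟨e, he⟩ := Cfsg.Agent.Lib.Helper5.Stb.steinberg_presentation (K := K) n hn
  let D' := T.liftData hC hW third
  let f : PresentedGroup (stRels n K) →* E := D'.toHom
  have hπf : π.comp f = e.toMonoidHom := by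
    apply PresentedGroup.ext
    intro x
    obtain ⟨a, t⟩ := x
    show π (D'.toHom (PresentedGroup.of (a, t))) = e (PresentedGroup.of (a, t))
    rw [AData.toHom_of]
    have h1 : π (D'.y a.1.1 a.1.2 t) = slY a.1.1 a.1.2 t := T.π_liftData hC hW third a.2 t
    rw [h1]
    apply Subtype.ext
    rw [slY_coe a.2]
    exact (he a t).symm
  refine ⟨f.comp e.symm.toMonoidHom, ?_⟩
  ext1 x
  show π (f (e.symm x)) = x
  have h1 : π (f (e.symm x)) = e (e.symm x) := DFunLike.congr_fun hπf (e.symm x)
  rw [h1]
  exact e.apply_symm_apply x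

end split

end Cfsg.Agent.Lib.Helper2.SLM
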