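import Mathlib
import Cfsg.Agent.Lib.Helper2.CDGen
import Cfsg.Agent.Lib.Helper2.GenComm
import Cfsg.Agent.Lib.Helper2.Spinor3

set_option autoImplicit false

namespace Cfsg.Agent.Lib.Helper2

namespace SOIndex

open Matrix Cfsg.Agent.Lib.Helper2.ReflGen Cfsg.Agent.Lib.Helper2.CDG

variable {F : Type*} [Field F] {ι : Type} [Fintype ι] [DecidableEq ι]
variable {Q : QuadraticForm F (ι → F)}

theorem mem_SO (g : ↥(Cfsg.isometryGroup F ⇑Q)) :
    g ∈ Cfsg.specialIsometryGroup F ⇑Q ↔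
      Matrix.GeneralLinearGroup.det (g : Matrix.GeneralLinearGroup ι F) = 1 := Iff.rfl

theorem det_refl_unit (v : ι → F) (hv : Q v ≠ 0) :
    Matrix.GeneralLinearGroup.det ((refl Q v hv : ↥(Cfsg.isometryGroup F ⇑Q)) :
      Matrix.GeneralLinearGroup ι F) = -1 := by
  apply Units.ext
  rw [Matrix.GeneralLinearGroup.val_det_apply, det_refl]
  simp

theorem refl_mul_refl_mem_SO (v w : ι → F) (hv : Q v ≠ 0) (hw : Q w ≠ 0) :
    refl Q v hv * refl Q w hw ∈ Cfsg.specialIsometryGroup F ⇑Q := by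
  rw [mem_SO]
  show Matrix.GeneralLinearGroup.det
    (((refl Q v hv : ↥(Cfsg.isometryGroup F ⇑Q)) : Matrix.GeneralLinearGroup ι F) *
      ((refl Q w hw : ↥(Cfsg.isometryGroup F ⇑Q)) : Matrix.GeneralLinearGroup ι F)) = 1
  rw [map_mul, det_refl_unit, det_refl_unit]
  simp

theorem commutator_le_SO :
    commutator ↥(Cfsg.isometryGroup F ⇑Q) ≤ Cfsg.specialIsometryGroup F ⇑Q :=
  Abelianization.commutator_subset_ker _

instance : (Cfsg.specialIsometryGroup F ⇑Q).Normal := by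
  unfold Cfsg.specialIsometryGroup
  infer_instance

/-- the subgroup generated by squares of elements of `SO` contains `Ω` -/
theorem commutator_le_of_squares (hgen : Subgroup.closure (R Q) = ⊤)
    (M : Subgroup ↥(Cfsg.isometryGroup F ⇑Q))
    (hM : ∀ s ∈ Cfsg.specialIsometryGroup F ⇑Q, s * s ∈ M) :
    commutator ↥(Cfsg.isometryGroup F ⇑Q) ≤ M := by
  set S : Set ↥(Cfsg.isometryGroup F ⇑Q) :=
    {x | ∃ s ∈ Cfsg.specialIsometryGroup F ⇑Q, x = s * s} with hS
  have hconj : Group.conjugatesOfSet S ⊆ S := by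
    intro x hx
    obtain ⟨a, ⟨s, hs, rfl⟩, hax⟩ := Group.mem_conjugatesOfSet_iff.1 hx
    obtain ⟨c, hc⟩ := isConj_iff.1 hax
    refine ⟨c * s * c⁻¹, (inferInstance : (Cfsg.specialIsometryGroup F ⇑Q).Normal).conj_mem s hs c, ?_⟩
    rw [← hc]
    group
  have hNle : Subgroup.normalClosure S ≤ M := by
    unfold Subgroup.normalClosure
    rw [Subgroup.closure_le]
    intro x hx
    obtain ⟨s, hs, rfl⟩ := hconj hx
    exact hM s hs
  refine le_trans ?_ hNle
  apply GenComm.commutator_le_of_generators (R Q) hgen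
  rintro a ⟨v, hv, hav⟩ b ⟨w, hw, hbw⟩
  have ha : a = refl Q v hv := Spinor.eq_refl_of_coe a v hv hav
  have hb : b = refl Q w hw := Spinor.eq_refl_of_coe b w hw hbw
  apply Subgroup.subset_normalClosure
  refine ⟨refl Q v hv * refl Q w hw, refl_mul_refl_mem_SO v w hv hw, ?_⟩
  rw [ha, hb, refl_inv, refl_inv]
  group

/-- uniqueness of the subgroup of index two in `SO` -/
theorem existsUnique_index_two (hgen : Subgroup.closure (R Q) = ⊤)
    (hidx : (commutator ↥(Cfsg.isometryGroup F ⇑Q)).index =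
      2 * (Cfsg.specialIsometryGroup F ⇑Q).index)
    (hidx0 : (Cfsg.specialIsometryGroup F ⇑Q).index ≠ 0) :
    ∃! H : Subgroup ↥(Cfsg.specialIsometryGroup F ⇑Q), H.index = 2 := by
  have hrel := Subgroup.relIndex_mul_index (commutator_le_SO (Q := Q))
  rw [hidx] at hrel
  have hrel2 : (commutator ↥(Cfsg.isometryGroup F ⇑Q)).relIndex
      (Cfsg.specialIsometryGroup F ⇑Q) = 2 :=
    Nat.eq_of_mul_eq_mul_right (Nat.pos_of_ne_zero hidx0) hrel
  refine ⟨(commutator ↥(Cfsg.isometryGroup F ⇑Q)).subgroupOf (Cfsg.specialIsometryGroup F ⇑Q),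
    hrel2, ?_⟩
  intro H hH
  have hle : (commutator ↥(Cfsg.isometryGroup F ⇑Q)).subgroupOf
      (Cfsg.specialIsometryGroup F ⇑Q) ≤ H := by
    intro x hx
    have hx' : (x : ↥(Cfsg.isometryGroup F ⇑Q)) ∈ commutator ↥(Cfsg.isometryGroup F ⇑Q) := hx
    have hM := commutator_le_of_squares hgen
      (H.map (Cfsg.specialIsometryGroup F ⇑Q).subtype) (by
        intro s hs
        exact ⟨⟨s, hs⟩ * ⟨s, hs⟩, Subgroup.mul_self_mem_of_index_two hH _, rfl⟩)
    obtain ⟨y, hy, hyx⟩ := hM hx'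
    have : y = x := Subtype.ext hyx
    rw [← this]
    exact hy
  have h1 := Subgroup.relIndex_mul_index hle
  have h3 : ((commutator ↥(Cfsg.isometryGroup F ⇑Q)).subgroupOf
      (Cfsg.specialIsometryGroup F ⇑Q)).index = 2 := hrel2
  rw [hH, h3] at h1
  have h4 : ((commutator ↥(Cfsg.isometryGroup F ⇑Q)).subgroupOf
      (Cfsg.specialIsometryGroup F ⇑Q)).relIndex H = 1 := by omega
  exact le_antisymm (Subgroup.relIndex_eq_one.1 h4) hle

end SOIndex

end Cfsg.Agent.Lib.Helper2
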