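import Mathlib
import Cfsg.Agent.Lib.Helper2.SOIndex

set_option autoImplicit false

namespace Cfsg.Agent.Lib.Helper2

namespace SOIndex

open Matrix Cfsg.Agent.Lib.Helper2.ReflGen Cfsg.Agent.Lib.Helper2.CDG

variable {F : Type*} [Field F] {ι : Type} [Fintype ι] [DecidableEq ι]
variable {Q : QuadraticForm F (ι → F)}

theorem det_eq_one_or (hgen : Subgroup.closure (R Q) = ⊤) (g : ↥(Cfsg.isometryGroup F ⇑Q)) :
    Matrix.GeneralLinearGroup.det (g : Matrix.GeneralLinearGroup ι F) = 1 ∨
      Matrix.GeneralLinearGroup.det (g : Matrix.GeneralLinearGroup ι F) = -1 := by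
  have hg : g ∈ Subgroup.closure (R Q) := by rw [hgen]; trivial
  induction hg using Subgroup.closure_induction with
  | mem g hg =>
    obtain ⟨v, hv, hgv⟩ := hg
    right
    rw [Spinor.eq_refl_of_coe g v hv hgv]
    exact det_refl_unit v hv
  | one => left; exact map_one _
  | mul x y _ _ hx hy =>
    have e : Matrix.GeneralLinearGroup.det ((x * y : ↥(Cfsg.isometryGroup F ⇑Q)) :
        Matrix.GeneralLinearGroup ι F) =
        Matrix.GeneralLinearGroup.det (x : Matrix.GeneralLinearGroup ι F) *
        Matrix.GeneralLinearGroup.det (y : Matrix.GeneralLinearGroup ι F) := map_mul _ _ _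
    rw [e]
    rcases hx with hx | hx <;> rcases hy with hy | hy <;> rw [hx, hy] <;> simp
  | inv x _ hx =>
    have e : Matrix.GeneralLinearGroup.det ((x⁻¹ : ↥(Cfsg.isometryGroup F ⇑Q)) :
        Matrix.GeneralLinearGroup ι F) =
        (Matrix.GeneralLinearGroup.det (x : Matrix.GeneralLinearGroup ι F))⁻¹ := map_inv _ _
    rw [e]
    rcases hx with hx | hx <;> rw [hx] <;> simp

/-- in characteristic two the special isometry group is everything -/
theorem SO_eq_top₂ (h2 : (2 : F) = 0) (hgen : Subgroup.closure (R Q) = ⊤) :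
    Cfsg.specialIsometryGroup F ⇑Q = ⊤ := by
  rw [eq_top_iff]
  intro g _
  rw [mem_SO]
  have hneg : (-1 : Fˣ) = 1 := by
    apply Units.ext
    rw [Units.val_neg, Units.val_one]
    have : (1 : F) + 1 = 0 := by rw [← two_mul, h2, zero_mul]
    exact neg_eq_of_add_eq_zero_left this
  rcases det_eq_one_or hgen g with h | h
  · exact h
  · rw [h, hneg]

/-- in odd characteristic the special isometry group has index two -/
theorem SO_index (h2 : (2 : F) ≠ 0) (hgen : Subgroup.closure (R Q) = ⊤)
    (hex : ∃ v : ι → F, Q v ≠ 0) :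
    (Cfsg.specialIsometryGroup F ⇑Q).index = 2 := by
  unfold Cfsg.specialIsometryGroup
  rw [Subgroup.index_ker, Nat.card_eq_two_iff]
  obtain ⟨v, hv⟩ := hex
  have hm1 : (-1 : Fˣ) ≠ 1 := by
    intro h
    have h1 := congrArg Units.val h
    rw [Units.val_neg, Units.val_one] at h1
    apply h2
    linear_combination -h1
  refine ⟨⟨1, Subgroup.one_mem _⟩, ⟨-1, ⟨refl Q v hv, det_refl_unit v hv⟩⟩, ?_, ?_⟩
  · intro h
    exact hm1 (congrArg Subtype.val h).symm
  · ext x
    simp only [Set.mem_insert_iff, Set.mem_singleton_iff, Set.mem_univ, iff_true]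
    obtain ⟨y, g, rfl⟩ := x
    rcases det_eq_one_or hgen g with h | h
    · left
      apply Subtype.ext
      exact h
    · right
      apply Subtype.ext
      exact h

end SOIndex

end Cfsg.Agent.Lib.Helper2
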