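import Mathlib
import Cfsg.Agent.Lib.Helper2.UT14

set_option autoImplicit false

namespace Cfsg.Agent.Lib.Helper2

namespace SU3Inv

open Module IsomDecomp HermDecomp Cfsg.Agent.Lib.Helper5.PSLCoset UT

universe u

variable {F : Type u} [Field F] {σ : F ≃+* F} {V : Type u} [AddCommGroup V] [Module F V]
  {H : V → V → F}

theorem m1 (F : Type*) [Field F] : (-1 : F) ≠ 0 := neg_ne_zero.2 one_ne_zero

/-- the involution fixing `w` and negating its orthogonal complement -/
noncomputable def invo (h : IsHerm σ H) (w : V) (hw : H w w = 1) : V ≃ₗ[F] V :=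
  LinearEquiv.neg F * qr h w (-1) hw (m1 F)

theorem invo_apply (h : IsHerm σ H) (w : V) (hw : H w w = 1) (x : V) :
    invo h w hw x = -x + (2 * H x w) • w := by
  unfold invo
  rw [LinearEquiv.mul_apply, qr_apply, LinearEquiv.neg_apply, neg_add, ← neg_smul]
  congr 2
  ring

theorem invo_self (h : IsHerm σ H) (w : V) (hw : H w w = 1) : invo h w hw w = w := by
  rw [invo_apply, hw, mul_one, two_smul]
  abel

theorem invo_perp (h : IsHerm σ H) (w : V) (hw : H w w = 1) {x : V} (hx : H x w = 0) :
    invo h w hw x = -x := by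
  rw [invo_apply, hx, mul_zero, zero_smul, add_zero]

theorem invo_invo (h : IsHerm σ H) (w : V) (hw : H w w = 1) (x : V) :
    invo h w hw (invo h w hw x) = x := by
  rw [invo_apply, invo_apply, h.add_left, h.neg_left, h.smul_left, hw]
  module

theorem invo_mul_self (h : IsHerm σ H) (w : V) (hw : H w w = 1) :
    invo h w hw * invo h w hw = 1 := by
  apply LinearEquiv.ext
  intro x
  rw [LinearEquiv.mul_apply, invo_invo]
  rfl

theorem neg_right (h : IsHerm σ H) (x y : V) : H x (-y) = -H x y := by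
  rw [h.symm (-y) x, h.neg_left, map_neg, ← h.symm]

theorem neg_mem_isom (h : IsHerm σ H) : (LinearEquiv.neg F : V ≃ₗ[F] V) ∈ isom H := by
  intro x y
  rw [LinearEquiv.neg_apply, LinearEquiv.neg_apply, h.neg_left, neg_right h, neg_neg]

theorem invo_mem_isom (h : IsHerm σ H) (w : V) (hw : H w w = 1) : invo h w hw ∈ isom H := by
  unfold invo
  apply (isom H).mul_mem (neg_mem_isom h)
  apply qr_mem_isom
  rw [map_neg, map_one]
  ring

theorem det_invo [FiniteDimensional F V] (h : IsHerm σ H) (hdim : finrank F V = 3) (w : V)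
    (hw : H w w = 1) : LinearEquiv.det (invo h w hw) = 1 := by
  apply Units.ext
  unfold invo
  rw [map_mul, Units.val_mul, det_qr, Units.val_one, LinearEquiv.coe_det]
  have h1 : ((LinearEquiv.neg F : V ≃ₗ[F] V) : V →ₗ[F] V) = (-1 : F) • LinearMap.id := by
    ext x
    simp
  rw [h1, LinearMap.det_smul, hdim, LinearMap.det_id]
  ring

theorem conj_invo (h : IsHerm σ H) {g : V ≃ₗ[F] V} (hg : g ∈ isom H) (w : V) (hw : H w w = 1) :
    g * invo h w hw * g⁻¹ = invo h (g w) (by rw [hg, hw]) := by
  apply LinearEquiv.ext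
  intro x
  rw [LinearEquiv.mul_apply, LinearEquiv.mul_apply, invo_apply, invo_apply, map_add, map_neg,
    map_smul]
  have h1 : g (g⁻¹ x) = x := by
    rw [← LinearEquiv.mul_apply, mul_inv_cancel]
    rfl
  have h2 : H (g⁻¹ x) w = H x (g w) := by
    rw [← hg (g⁻¹ x) w, h1]
  rw [h1, h2]

theorem invo_smul (h : IsHerm σ H) (w : V) (hw : H w w = 1) (c : F) (hc : c * σ c = 1) :
    invo h (c • w) (by rw [h.smul_left, h.smul_right, hw, mul_one, hc]) = invo h w hw := by
  apply LinearEquiv.ext
  intro x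
  rw [invo_apply, invo_apply, h.smul_right, smul_smul]
  congr 2
  linear_combination (2 * H x w) * hc

theorem norm_one_ne_zero (h : IsHerm σ H) {w : V} (hw : H w w = 1) : w ≠ 0 := by
  intro h0
  rw [h0, h.zero_left] at hw
  exact zero_ne_one hw

theorem invo_eq_iff (h : IsHerm σ H) (h2 : (2 : F) ≠ 0) (w w' : V) (hw : H w w = 1)
    (hw' : H w' w' = 1) :
    invo h w hw = invo h w' hw' ↔ ∃ c : F, c * σ c = 1 ∧ w' = c • w := by
  constructor
  · intro heq
    have h1 : invo h w hw w' = w' := by rw [heq, invo_self]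
    rw [invo_apply] at h1
    have h3 : (2 : F) • w' = (2 : F) • (H w' w • w) := by
      rw [smul_smul, two_smul]
      nth_rewrite 1 [← h1]
      abel
    have h4 : w' = H w' w • w := smul_right_injective V h2 h3
    refine ⟨H w' w, ?_, h4⟩
    have h5 := hw'
    nth_rewrite 1 [h4] at h5
    nth_rewrite 2 [h4] at h5
    rw [h.smul_left, h.smul_right, hw, mul_one] at h5
    exact h5
  · rintro ⟨c, hc, rfl⟩
    exact (invo_smul h w hw c hc).symm

end SU3Inv

end Cfsg.Agent.Lib.Helper2
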