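import Mathlib
import Cfsg.Agent.Lib.Helper2.SU3Inv1

set_option autoImplicit false

namespace Cfsg.Agent.Lib.Helper2

namespace SU3Inv

open Module IsomDecomp HermDecomp Cfsg.Agent.Lib.Helper5.PSLCoset UT

universe u

variable {F : Type u} [Field F] {σ : F ≃+* F} {V : Type u} [AddCommGroup V] [Module F V]
  {H : V → V → F}

theorem det_glue [FiniteDimensional F V] {W W' : Submodule F V} (hd : OrthoDecomp H W W')
    (f : W ≃ₗ[F] W) (g : W' ≃ₗ[F] W') :
    (LinearEquiv.det (glue hd f g) : F) =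
      LinearMap.det (f : W →ₗ[F] W) * LinearMap.det (g : W' →ₗ[F] W') := by
  rw [LinearEquiv.coe_det]
  unfold glue
  have h1 : (((Submodule.prodEquivOfIsCompl W W' hd.compl).symm.trans
      ((f.prodCongr g).trans
        (Submodule.prodEquivOfIsCompl W W' hd.compl)) : V ≃ₗ[F] V) : V →ₗ[F] V) =
      ((Submodule.prodEquivOfIsCompl W W' hd.compl : (W × W') ≃ₗ[F] V) : (W × W') →ₗ[F] V) ∘ₗ
        ((f : W →ₗ[F] W).prodMap (g : W' →ₗ[F] W')) ∘ₗ
        (((Submodule.prodEquivOfIsCompl W W' hd.compl).symm : V ≃ₗ[F] (W × W')) :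
          V →ₗ[F] (W × W')) := by
    apply LinearMap.ext
    intro v
    rfl
  rw [h1, LinearMap.det_conj, LinearMap.det_prodMap]

/-- the fixed space -/
def fixSub (τ : V ≃ₗ[F] V) : Submodule F V where
  carrier := {x | τ x = x}
  add_mem' := by
    intro a b ha hb
    show τ (a + b) = a + b
    rw [map_add, ha, hb]
  zero_mem' := map_zero τ
  smul_mem' := by
    intro c x hx
    show τ (c • x) = c • x
    rw [map_smul, hx]

/-- the negated space -/
def negSub (τ : V ≃ₗ[F] V) : Submodule F V where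
  carrier := {x | τ x = -x}
  add_mem' := by
    intro a b ha hb
    show τ (a + b) = -(a + b)
    rw [map_add, ha, hb, neg_add]
  zero_mem' := by
    show τ 0 = -0
    rw [map_zero, neg_zero]
  smul_mem' := by
    intro c x hx
    show τ (c • x) = -(c • x)
    rw [map_smul, hx, smul_neg]

theorem mem_fixSub (τ : V ≃ₗ[F] V) (x : V) : x ∈ fixSub τ ↔ τ x = x := Iff.rfl

theorem mem_negSub (τ : V ≃ₗ[F] V) (x : V) : x ∈ negSub τ ↔ τ x = -x := Iff.rfl

theorem eigen_decomp (h : IsHerm σ H) (hnd : ∀ v, (∀ w, H v w = 0) → v = 0) (h2 : (2 : F) ≠ 0)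
    {τ : V ≃ₗ[F] V} (hτ : τ ∈ isom H) (hτ2 : ∀ x, τ (τ x) = x) :
    OrthoDecomp H (fixSub τ) (negSub τ) := by
  have hdisj : Disjoint (fixSub τ) (negSub τ) := by
    rw [Submodule.disjoint_def]
    intro x hx hx'
    rw [mem_fixSub] at hx
    rw [mem_negSub, hx] at hx'
    have h3 : (2 : F) • x = (2 : F) • (0 : V) := by
      rw [two_smul, smul_zero]
      nth_rewrite 1 [hx']
      abel
    exact smul_right_injective V h2 h3
  have hcod : Codisjoint (fixSub τ) (negSub τ) := by
    rw [codisjoint_iff, Submodule.eq_top_iff']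
    intro x
    rw [Submodule.mem_sup]
    refine ⟨(2 : F)⁻¹ • (x + τ x), ?_, (2 : F)⁻¹ • (x - τ x), ?_, ?_⟩
    · rw [mem_fixSub, map_smul, map_add, hτ2, add_comm]
    · rw [mem_negSub, map_smul, map_sub, hτ2, ← smul_neg, neg_sub]
    · rw [← smul_add]
      have : x + τ x + (x - τ x) = (2 : F) • x := by
        rw [two_smul]
        abel
      rw [this, smul_smul, inv_mul_cancel₀ h2, one_smul]
  have hortho : ∀ w ∈ fixSub τ, ∀ w' ∈ negSub τ, H w w' = 0 := by
    intro w hw w' hw'
    rw [mem_fixSub] at hw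
    rw [mem_negSub] at hw'
    have h3 := hτ w w'
    rw [hw, hw', neg_right h] at h3
    have h4 : (2 : F) * H w w' = 0 := by linear_combination -h3
    rcases mul_eq_zero.1 h4 with h5 | h5
    · exact absurd h5 h2
    · exact h5
  have hortho' : ∀ w ∈ fixSub τ, ∀ w' ∈ negSub τ, H w' w = 0 := by
    intro w hw w' hw'
    rw [h.symm w w', hortho w hw w' hw', map_zero]
  refine
    { compl := ⟨hdisj, hcod⟩
      add_left := h.add_left
      add_right := h.add_right
      ortho := hortho
      ortho' := hortho'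
      mem' := ?_ }
  intro v hv
  have hv' : v ∈ fixSub τ ⊔ negSub τ := by
    rw [codisjoint_iff.1 hcod]
    exact Submodule.mem_top
  obtain ⟨a, ha, b, hb, rfl⟩ := Submodule.mem_sup.1 hv'
  have ha0 : a = 0 := by
    apply hnd
    intro y
    have hy' : y ∈ fixSub τ ⊔ negSub τ := by
      rw [codisjoint_iff.1 hcod]
      exact Submodule.mem_top
    obtain ⟨c, hc, d, hd, rfl⟩ := Submodule.mem_sup.1 hy'
    rw [h.add_right, hortho a ha d hd, add_zero]
    have h3 := hv c hc
    rw [h.add_right, hortho c hc b hb, add_zero] at h3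
    rw [h.symm c a, h3, map_zero]
  rw [ha0, zero_add]
  exact hb

theorem eq_glue (h : IsHerm σ H) {τ : V ≃ₗ[F] V}
    (hd : OrthoDecomp H (fixSub τ) (negSub τ)) :
    τ = glue hd (LinearEquiv.refl F _) (LinearEquiv.neg F) := by
  apply LinearEquiv.ext
  intro v
  obtain ⟨a, b, rfl⟩ := exists_decomp hd v
  rw [glue_apply, map_add, (mem_fixSub τ a).1 a.2, (mem_negSub τ b).1 b.2]
  rfl

end SU3Inv

end Cfsg.Agent.Lib.Helper2
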