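import Mathlib
import Cfsg.Agent.Lib.Helper2.SU3Inv2

set_option autoImplicit false

namespace Cfsg.Agent.Lib.Helper2

namespace SU3Inv

open Module IsomDecomp HermDecomp Cfsg.Agent.Lib.Helper5.PSLCoset UT

universe u

variable {F : Type u} [Field F] [Finite F] {σ : F ≃+* F} {V : Type u} [AddCommGroup V]
  [Module F V] [FiniteDimensional F V] {H : V → V → F}

omit [Finite F] in
theorem det_eigen (h : IsHerm σ H) {τ : V ≃ₗ[F] V}
    (hd : OrthoDecomp H (fixSub τ) (negSub τ)) :
    (LinearEquiv.det τ : F) = (-1) ^ finrank F (negSub τ) := by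
  conv_lhs => rw [eq_glue h hd]
  rw [det_glue]
  have h1 : ((LinearEquiv.neg F : negSub τ ≃ₗ[F] negSub τ) : negSub τ →ₗ[F] negSub τ) =
      (-1 : F) • LinearMap.id := by
    ext x
    simp
  have h0 : ((LinearEquiv.refl F (fixSub τ) : fixSub τ ≃ₗ[F] fixSub τ) :
      fixSub τ →ₗ[F] fixSub τ) = LinearMap.id := rfl
  rw [h1, h0, LinearMap.det_smul, LinearMap.det_id, LinearMap.det_id, one_mul, mul_one]

/-- an involution of determinant one on a three-dimensional Hermitian space is `invo w` -/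
theorem exists_eq_invo (hσ : orderOf σ = 2) (h : IsHerm σ H)
    (hnd : ∀ v, (∀ w, H v w = 0) → v = 0) (h2 : (2 : F) ≠ 0) (hdim : finrank F V = 3)
    {τ : V ≃ₗ[F] V} (hτ : τ ∈ isom H) (hdet : LinearEquiv.det τ = 1) (hτ2 : τ * τ = 1)
    (hτ1 : τ ≠ 1) : ∃ (w : V) (hw : H w w = 1), τ = invo h w hw := by
  have hτ2' : ∀ x, τ (τ x) = x := by
    intro x
    rw [← LinearEquiv.mul_apply, hτ2]
    rfl
  have hd := eigen_decomp h hnd h2 hτ hτ2'
  have hdet' := det_eigen h hd
  rw [hdet, Units.val_one] at hdet'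
  have hne : (-1 : F) ≠ 1 := by
    intro h3
    apply h2
    linear_combination -h3
  have heven : Even (finrank F (negSub τ)) := (neg_one_pow_eq_one_iff_even hne).1 hdet'.symm
  have hsum := Submodule.finrank_add_eq_of_isCompl hd.compl
  rw [hdim] at hsum
  have hne0 : finrank F (negSub τ) ≠ 0 := by
    intro h0
    have hbot : negSub τ = ⊥ := Submodule.finrank_eq_zero.1 h0
    apply hτ1
    apply LinearEquiv.ext
    intro v
    obtain ⟨a, b, rfl⟩ := exists_decomp hd v
    have hall : ∀ z ∈ negSub τ, z = 0 := by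
      intro z hz
      rw [hbot] at hz
      exact (Submodule.mem_bot F).1 hz
    have hb : (b : V) = 0 := hall _ b.2
    rw [hb, add_zero]
    exact (mem_fixSub τ a).1 a.2
  have hneg2 : finrank F (negSub τ) = 2 := by
    obtain ⟨k, hk⟩ := heven
    omega
  have hfix1 : finrank F (fixSub τ) = 1 := by omega
  obtain ⟨u, hu0, hu⟩ := finrank_eq_one_iff'.1 hfix1
  have huu : H (u : V) (u : V) ≠ 0 := by
    intro h0
    apply hu0
    apply Subtype.ext
    apply hnd
    intro y
    obtain ⟨a, b, rfl⟩ := exists_decomp hd y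
    obtain ⟨c, hc⟩ := hu a
    rw [h.add_right, hd.ortho _ u.2 _ b.2, add_zero, ← hc]
    show H (u : V) (c • (u : V)) = 0
    rw [h.smul_right, h0, mul_zero]
  obtain ⟨a, ha0, ha⟩ := exists_smul_norm_one hσ h (u : V) huu
  refine ⟨a • (u : V), ha, ?_⟩
  have hwfix : a • (u : V) ∈ fixSub τ := (fixSub τ).smul_mem a u.2
  apply LinearEquiv.ext
  intro v
  obtain ⟨x, y, rfl⟩ := exists_decomp hd v
  obtain ⟨c, hc⟩ := hu x
  have hx : (x : V) = (c * a⁻¹) • (a • (u : V)) := by
    rw [smul_smul, mul_assoc, inv_mul_cancel₀ ha0, mul_one, ← hc]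
    rfl
  rw [map_add, map_add, (mem_fixSub τ x).1 x.2, (mem_negSub τ y).1 y.2,
    invo_perp h _ ha (hd.ortho' _ hwfix _ y.2)]
  congr 1
  rw [hx, map_smul, invo_self]

end SU3Inv

end Cfsg.Agent.Lib.Helper2
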