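import Mathlib
import Cfsg.Agent.Lib.Helper2.SU3Inv3
import Cfsg.Agent.Lib.Helper2.UT5

set_option autoImplicit false

namespace Cfsg.Agent.Lib.Helper2

namespace SU3Inv

open Module IsomDecomp HermDecomp Cfsg.Agent.Lib.Helper5.PSLCoset UT

universe u

variable {F : Type u} [Field F] {σ : F ≃+* F} {V : Type u} [AddCommGroup V]
  [Module F V] {H : V → V → F}

/-- a vector of norm one fixed by `invo w` is a multiple of `w` -/
theorem eq_smul_of_fixed (h : IsHerm σ H) (h2 : (2 : F) ≠ 0) {w w' : V} (hw : H w w = 1)
    (hw' : H w' w' = 1) (hfix : invo h w hw w' = w') :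
    w' = H w' w • w ∧ H w' w * σ (H w' w) = 1 := by
  rw [invo_apply] at hfix
  have h3 : (2 : F) • w' = (2 : F) • (H w' w • w) := by
    rw [smul_smul, two_smul]
    nth_rewrite 1 [← hfix]
    abel
  have h4 : w' = H w' w • w := smul_right_injective V h2 h3
  refine ⟨h4, ?_⟩
  have h5 := hw'
  nth_rewrite 1 [h4] at h5
  nth_rewrite 2 [h4] at h5
  rw [h.smul_left, h.smul_right, hw, mul_one] at h5
  exact h5

theorem eq_smul_of_invo_eq (h : IsHerm σ H) (h2 : (2 : F) ≠ 0) {w w' : V} (hw : H w w = 1)
    (hw' : H w' w' = 1) (heq : invo h w hw = invo h w' hw') :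
    w' = H w' w • w ∧ H w' w * σ (H w' w) = 1 := by
  apply eq_smul_of_fixed h h2 hw hw'
  rw [heq, invo_self]

theorem commute_invo_iff (h : IsHerm σ H) (h2 : (2 : F) ≠ 0) (w w' : V) (hw : H w w = 1)
    (hw' : H w' w' = 1) :
    Commute (invo h w hw) (invo h w' hw') ↔
      H w w' = 0 ∨ invo h w hw = invo h w' hw' := by
  have hconj := conj_invo h (invo_mem_isom h w hw) w' hw'
  constructor
  · intro hc
    have h1 : invo h w hw * invo h w' hw' * (invo h w hw)⁻¹ = invo h w' hw' := by
      rw [hc.eq, mul_inv_cancel_right]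
    rw [hconj] at h1
    obtain ⟨h3, h4⟩ := eq_smul_of_invo_eq h h2 _ _ h1.symm
    have hw'0 : w' ≠ 0 := norm_one_ne_zero h hw'
    by_cases h0 : H w' w = 0
    · left
      rw [h.symm w' w, h0, map_zero]
    · right
      -- `invo w w' = c • w'` with `H w' w ≠ 0` forces `c = 1`
      set c := H (invo h w hw w') w' with hc
      have h5 : H (invo h w hw w') w = c * H w' w := by
        nth_rewrite 1 [h3]
        rw [h.smul_left]
      have h6 : H (invo h w hw w') w = H w' w := by
        rw [invo_apply, h.add_left, h.neg_left, h.smul_left, hw]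
        ring
      have hc1 : c = 1 := by
        have : c * H w' w = 1 * H w' w := by rw [← h5, h6, one_mul]
        exact mul_right_cancel₀ h0 this
      rw [hc1, one_smul] at h3
      obtain ⟨h7, h8⟩ := eq_smul_of_fixed h h2 hw hw' h3
      exact (invo_eq_iff h h2 w w' hw hw').2 ⟨_, h8, h7⟩
  · rintro (h0 | h0)
    · have h1 : H w' w = 0 := by rw [h.symm w w', h0, map_zero]
      have h3 : invo h w hw w' = (-1 : F) • w' := by
        rw [invo_perp h w hw h1, neg_one_smul]
      have h4 : invo h w hw * invo h w' hw' * (invo h w hw)⁻¹ = invo h w' hw' := by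
        rw [hconj]
        apply Eq.symm
        apply (invo_eq_iff h h2 _ _ _ _).2
        refine ⟨-1, ?_, h3⟩
        rw [map_neg, map_one]
        ring
      show _ * _ = _ * _
      rw [← h4, inv_mul_cancel_right, h4]
    · rw [h0]

section fin

variable [Finite F] [FiniteDimensional F V]

theorem invo_ne_one (hσ : orderOf σ = 2) (h : IsHerm σ H)
    (hnd : ∀ v, (∀ w, H v w = 0) → v = 0) (h2 : (2 : F) ≠ 0) (hdim : 2 ≤ finrank F V) (w : V)
    (hw : H w w = 1) : invo h w hw ≠ 1 := by
  intro h1
  obtain ⟨y, hy, hwy⟩ := exists_ortho_norm_one hσ h hnd hdim w hw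
  have h3 : invo h w hw y = -y := by
    apply invo_perp
    rw [h.symm w y, hwy, map_zero]
  rw [h1] at h3
  have h4 : (2 : F) • y = (2 : F) • (0 : V) := by
    rw [two_smul, smul_zero]
    have : y = -y := h3
    nth_rewrite 1 [this]
    abel
  exact norm_one_ne_zero h hy (smul_right_injective V h2 h4)

omit [Finite F] in
/-- coordinates with respect to an orthonormal triple -/
theorem coords (h : IsHerm σ H) (hnd : ∀ v, (∀ w, H v w = 0) → v = 0)
    (hdim : finrank F V = 3) {w w' u : V} (hw : H w w = 1) (hw' : H w' w' = 1)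
    (hu : H u u = 1) (h1 : H w w' = 0) (h2 : H w u = 0) (h3 : H w' u = 0) (x : V) :
    x = H x w • w + H x w' • w' + H x u • u := by
  classical
  have h1' : H w' w = 0 := by rw [h.symm w w', h1, map_zero]
  have h2' : H u w = 0 := by rw [h.symm w u, h2, map_zero]
  have h3' : H u w' = 0 := by rw [h.symm w' u, h3, map_zero]
  let e : Fin 3 → V := ![w, w', u]
  have he : ∀ i j, H (e i) (e j) = if i = j then 1 else 0 := by
    intro i j
    fin_cases i <;> fin_cases j <;> simp [e, hw, hw', hu, h1, h2, h3, h1', h2', h3']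
  have hli := li_of_orthonormal h e he
  have hspan : Submodule.span F (Set.range e) = ⊤ :=
    hli.span_eq_top_of_card_eq_finrank' (by rw [Fintype.card_fin, hdim])
  have hy0 : x - (H x w • w + H x w' • w' + H x u • u) = 0 := by
    apply hnd
    intro v
    have hv : v ∈ Submodule.span F (Set.range e) := by
      rw [hspan]
      exact Submodule.mem_top
    induction hv using Submodule.span_induction with
    | mem v hv =>
      obtain ⟨i, rfl⟩ := hv
      fin_cases i <;>
        simp [e, h.sub_left, h.add_left, h.smul_left, hw, hw', hu, h1, h2, h3, h1', h2', h3']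
    | zero => exact h.zero_right _
    | add a b _ _ ha hb => rw [h.add_right, ha, hb, add_zero]
    | smul c a _ ha => rw [h.smul_right, ha, mul_zero]
  exact sub_eq_zero.1 hy0

omit [Finite F] in
/-- the product of the involutions of two orthogonal points is the involution of the third -/
theorem invo_mul_invo (h : IsHerm σ H) (hnd : ∀ v, (∀ w, H v w = 0) → v = 0)
    (hdim : finrank F V = 3) {w w' u : V} (hw : H w w = 1) (hw' : H w' w' = 1)
    (hu : H u u = 1) (h1 : H w w' = 0) (h2 : H w u = 0) (h3 : H w' u = 0) :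
    invo h w hw * invo h w' hw' = invo h u hu := by
  have h1' : H w' w = 0 := by rw [h.symm w w', h1, map_zero]
  have h2' : H u w = 0 := by rw [h.symm w u, h2, map_zero]
  have h3' : H u w' = 0 := by rw [h.symm w' u, h3, map_zero]
  apply LinearEquiv.ext
  intro x
  rw [coords h hnd hdim hw hw' hu h1 h2 h3 x, LinearEquiv.mul_apply]
  simp only [map_add, map_smul, map_neg, invo_self, invo_perp h w' hw' h1, invo_perp h w hw h1',
    invo_perp h w' hw' h3', invo_perp h w hw h2', invo_perp h u hu h2, invo_perp h u hu h3,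
    smul_neg, neg_neg]

end fin

end SU3Inv

end Cfsg.Agent.Lib.Helper2
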