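import Mathlib
import Cfsg.Agent.Lib.Helper2.SU3Inv4
import Cfsg.Agent.Lib.Helper2.UT12
import Cfsg.Agent.Lib.Helper3.Count

set_option autoImplicit false

namespace Cfsg.Agent.Lib.Helper2

namespace SU3Inv

open Module IsomDecomp HermDecomp Cfsg.Agent.Lib.Helper5.PSLCoset UT

universe u

variable {F : Type u} [Field F] [Finite F] {σ : F ≃+* F} {V : Type u} [AddCommGroup V]
  [Module F V] [FiniteDimensional F V] {H : V → V → F}

/-- a faithful realisation of the special isometry group -/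
structure IsSU {S : Type*} [Group S] (H : V → V → F) (ρ : S →* (V ≃ₗ[F] V)) : Prop where
  inj : Function.Injective ρ
  mem : ∀ s, ρ s ∈ isom H
  det : ∀ s, LinearEquiv.det (ρ s) = 1
  surj : ∀ g, g ∈ isom H → LinearEquiv.det g = 1 → ∃ s, ρ s = g

/-- the standing hypotheses -/
structure Hyp (σ : F ≃+* F) (H : V → V → F) : Prop where
  hσ : orderOf σ = 2
  h : IsHerm σ H
  hnd : ∀ v, (∀ w, H v w = 0) → v = 0
  h2 : (2 : F) ≠ 0
  hdim : finrank F V = 3
  hbig : ∃ c : F, σ c = c ∧ c ≠ 0 ∧ c ≠ 1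

variable {S : Type*} [Group S] {ρ : S →* (V ≃ₗ[F] V)}

theorem exists_invo_of_inv (hy : Hyp σ H) (hρ : IsSU H ρ) {x : S} (hx1 : x ≠ 1)
    (hx2 : x * x = 1) : ∃ (w : V) (hw : H w w = 1), ρ x = invo hy.h w hw := by
  apply exists_eq_invo hy.hσ hy.h hy.hnd hy.h2 hy.hdim (hρ.mem x) (hρ.det x)
  · rw [← map_mul, hx2, map_one]
  · intro h1
    apply hx1
    apply hρ.inj
    rw [h1, map_one]

theorem exists_inv_of_invo (hy : Hyp σ H) (hρ : IsSU H ρ) (w : V) (hw : H w w = 1) :
    ∃ x : S, (x ≠ 1 ∧ x * x = 1) ∧ ρ x = invo hy.h w hw := by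
  obtain ⟨x, hx⟩ := hρ.surj _ (invo_mem_isom hy.h w hw) (det_invo hy.h hy.hdim w hw)
  refine ⟨x, ⟨?_, ?_⟩, hx⟩
  · intro h1
    rw [h1, map_one] at hx
    exact invo_ne_one hy.hσ hy.h hy.hnd hy.h2 (by rw [hy.hdim]; omega) w hw hx.symm
  · apply hρ.inj
    rw [map_mul, hx, invo_mul_self, map_one]

/-- all involutions are conjugate -/
theorem conj_inv (hy : Hyp σ H) (hρ : IsSU H ρ) {t x : S} (ht1 : t ≠ 1) (ht2 : t * t = 1)
    (hx1 : x ≠ 1) (hx2 : x * x = 1) : ∃ g : S, g * t * g⁻¹ = x := by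
  obtain ⟨w, hw, htw⟩ := exists_invo_of_inv hy hρ ht1 ht2
  obtain ⟨w', hw', hxw⟩ := exists_invo_of_inv hy hρ hx1 hx2
  obtain ⟨g, hg, hgw⟩ := exists_T_map_norm_one hy.hσ hy.h hy.hnd (by rw [hy.hdim])
    (fun _ => hy.hbig) hw hw'
  obtain ⟨s, hs⟩ := hρ.surj g (T_le_isom hy.h hg) (det_of_mem_T hy.h hg)
  refine ⟨s, ?_⟩
  apply hρ.inj
  rw [map_mul, map_mul, map_inv, hs, htw, hxw, conj_invo hy.h (T_le_isom hy.h hg)]
  apply (invo_eq_iff hy.h hy.h2 _ _ _ _).2
  exact ⟨1, by rw [map_one, mul_one], by rw [one_smul, hgw]⟩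

/-- the map from vectors of norm one to involutions -/
noncomputable def Φ (hy : Hyp σ H) (hρ : IsSU H ρ) (v : {v : V // H v v = 1}) :
    {x : S // x ≠ 1 ∧ x * x = 1} :=
  ⟨Classical.choose (exists_inv_of_invo hy hρ v.1 v.2),
    (Classical.choose_spec (exists_inv_of_invo hy hρ v.1 v.2)).1⟩

theorem Φ_spec (hy : Hyp σ H) (hρ : IsSU H ρ) (v : {v : V // H v v = 1}) :
    ρ (Φ hy hρ v).1 = invo hy.h v.1 v.2 :=
  (Classical.choose_spec (exists_inv_of_invo hy hρ v.1 v.2)).2

/-- the fibres of `Φ` -/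
theorem card_fibre_Φ (hy : Hyp σ H) (hρ : IsSU H ρ) (x : {x : S // x ≠ 1 ∧ x * x = 1}) :
    Nat.card {v : {v : V // H v v = 1} // Φ hy hρ v = x} = Nat.card {c : F // c * σ c = 1} := by
  obtain ⟨w, hw, hxw⟩ := exists_invo_of_inv hy hρ x.2.1 x.2.2
  have key : ∀ v : {v : V // H v v = 1}, Φ hy hρ v = x ↔ invo hy.h v.1 v.2 = invo hy.h w hw := by
    intro v
    rw [← Φ_spec hy hρ v, ← hxw]
    constructor
    · intro h1
      rw [h1]
    · intro h1
      exact Subtype.ext (hρ.inj h1)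
  apply Nat.card_congr
  refine
    { toFun := fun v => ⟨H v.1.1 w, ?_⟩
      invFun := fun c => ⟨⟨c.1 • w, ?_⟩, ?_⟩
      left_inv := ?_
      right_inv := ?_ }
  · exact (eq_smul_of_invo_eq hy.h hy.h2 hw v.1.2 ((key v.1).1 v.2).symm).2
  · rw [hy.h.smul_left, hy.h.smul_right, hw, mul_one, c.2]
  · rw [key]
    exact invo_smul hy.h w hw c.1 c.2
  · intro v
    apply Subtype.ext
    apply Subtype.ext
    exact (eq_smul_of_invo_eq hy.h hy.h2 hw v.1.2 ((key v.1).1 v.2).symm).1.symm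
  · intro c
    apply Subtype.ext
    show H (c.1 • w) w = c.1
    rw [hy.h.smul_left, hw, mul_one]

/-- counting involutions by vectors of norm one -/
theorem card_norm_one_eq [Finite V] [Finite S] (hy : Hyp σ H) (hρ : IsSU H ρ) :
    Nat.card {v : V // H v v = 1} =
      Nat.card {x : S // x ≠ 1 ∧ x * x = 1} * Nat.card {c : F // c * σ c = 1} :=
  Cfsg.Agent.Lib.Helper3.card_eq_mul_of_fibres (Φ hy hρ) _ (card_fibre_Φ hy hρ)

/-- the involutions form the conjugacy class of any of them -/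
theorem card_inv_mul_card_centralizer [Finite S] (hy : Hyp σ H) (hρ : IsSU H ρ) {t : S}
    (ht1 : t ≠ 1) (ht2 : t * t = 1) :
    Nat.card {x : S // x ≠ 1 ∧ x * x = 1} * Nat.card (Subgroup.centralizer ({t} : Set S)) =
      Nat.card S := by
  rw [← Cfsg.Agent.Lib.Helper3.card_conj_class_mul_card_centralizer t]
  congr 1
  apply Nat.card_congr
  apply Equiv.subtypeEquivRight
  intro x
  constructor
  · rintro ⟨hx1, hx2⟩
    obtain ⟨g, hg⟩ := conj_inv hy hρ ht1 ht2 hx1 hx2
    rw [isConj_iff]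
    exact ⟨g, hg⟩
  · intro hc
    rw [isConj_iff] at hc
    obtain ⟨g, rfl⟩ := hc
    constructor
    · intro h1
      apply ht1
      have : t = g⁻¹ * (g * t * g⁻¹) * g := by group
      rw [this, h1]
      group
    · have : g * t * g⁻¹ * (g * t * g⁻¹) = g * (t * t) * g⁻¹ := by group
      rw [this, ht2]
      group

/-- two distinct commuting involutions have a unique further involution commuting with both -/
theorem third (hy : Hyp σ H) (hρ : IsSU H ρ) {t x : S} (ht1 : t ≠ 1) (ht2 : t * t = 1)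
    (hx1 : x ≠ 1) (hx2 : x * x = 1) (hxt : x ≠ t) (hc : Commute t x) (y : S) :
    (y ≠ 1 ∧ y * y = 1 ∧ y ≠ t ∧ y ≠ x ∧ Commute t y ∧ Commute x y) ↔ y = t * x := by
  constructor
  · rintro ⟨hy1, hy2, hyt, hyx, hty, hxy⟩
    obtain ⟨w, hw, htw⟩ := exists_invo_of_inv hy hρ ht1 ht2
    obtain ⟨w', hw', hxw⟩ := exists_invo_of_inv hy hρ hx1 hx2
    obtain ⟨u, hu, hyu⟩ := exists_invo_of_inv hy hρ hy1 hy2
    have hne : ∀ {a b : S}, a ≠ b → ρ a ≠ ρ b := fun hab h1 => hab (hρ.inj h1)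
    have hcomm : ∀ {a b : S}, Commute a b → Commute (ρ a) (ρ b) := by
      intro a b hab
      show _ * _ = _ * _
      rw [← map_mul, ← map_mul, hab.eq]
    have h1 : H w w' = 0 := by
      have := hcomm hc
      rw [htw, hxw, commute_invo_iff hy.h hy.h2] at this
      rcases this with h0 | h0
      · exact h0
      · exact absurd (by rw [htw, hxw, h0]) (hne hxt.symm)
    have h2 : H w u = 0 := by
      have := hcomm hty
      rw [htw, hyu, commute_invo_iff hy.h hy.h2] at this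
      rcases this with h0 | h0
      · exact h0
      · exact absurd (by rw [htw, hyu, h0]) (hne hyt.symm)
    have h3 : H w' u = 0 := by
      have := hcomm hxy
      rw [hxw, hyu, commute_invo_iff hy.h hy.h2] at this
      rcases this with h0 | h0
      · exact h0
      · exact absurd (by rw [hxw, hyu, h0]) (hne hyx.symm)
    apply hρ.inj
    rw [map_mul, htw, hxw, hyu, invo_mul_invo hy.h hy.hnd hy.hdim hw hw' hu h1 h2 h3]
  · rintro rfl
    refine ⟨?_, ?_, ?_, ?_, ?_, ?_⟩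
    · intro h1
      apply hxt
      have : x = t⁻¹ * (t * x) := by group
      rw [this, h1, mul_one]
      exact (eq_inv_of_mul_eq_one_left ht2).symm
    · have h3 : t * x * (t * x) = t * (x * t) * x := by group
      rw [h3, ← hc.eq, ← mul_assoc, ht2, one_mul, hx2]
    · intro h1
      apply hx1
      have : x = t⁻¹ * (t * x) := by group
      rw [this, h1, inv_mul_cancel]
    · intro h1
      apply ht1
      have : t = (t * x) * x⁻¹ := by group
      rw [this, h1, mul_inv_cancel]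
    · show t * (t * x) = t * x * t
      rw [hc.eq, ← mul_assoc, hc.eq]
    · show x * (t * x) = t * x * x
      rw [← mul_assoc, hc.eq]

end SU3Inv

end Cfsg.Agent.Lib.Helper2
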