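import Mathlib
import Cfsg.Agent.Lib.Helper2.SU3Inv5
import Cfsg.Agent.Lib.Helper2.UT8

set_option autoImplicit false

namespace Cfsg.Agent.Lib.Helper2

namespace SU3Inv

open Module IsomDecomp HermDecomp Cfsg.Agent.Lib.Helper5.PSLCoset UT

universe u

variable {F : Type u} [Field F] [Finite F] {σ : F ≃+* F} {V : Type u} [AddCommGroup V]
  [Module F V] [FiniteDimensional F V] {H : V → V → F}

/-- the orthogonal complement of a vector -/
def perp (h : IsHerm σ H) (w : V) : Submodule F V := orthoCompl h (Submodule.span F {w})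

omit [Finite F] [FiniteDimensional F V] in
theorem mem_perp (h : IsHerm σ H) (w v : V) : v ∈ perp h w ↔ H v w = 0 := by
  unfold perp
  rw [mem_orthoCompl]
  constructor
  · intro hv
    rw [h.symm w v, hv w (Submodule.mem_span_singleton_self w), map_zero]
  · intro hv x hx
    obtain ⟨a, rfl⟩ := Submodule.mem_span_singleton.1 hx
    rw [h.smul_left, h.symm v w, hv, map_zero, mul_zero]

theorem perp_decomp (hσ : orderOf σ = 2) (h : IsHerm σ H) {w : V} (hw : H w w = 1) :
    OrthoDecomp H (Submodule.span F {w}) (perp h w) :=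
  orthoDecomp hσ h _ (span_singleton_nondeg h w (by rw [hw]; exact one_ne_zero))

theorem perp_nondeg (hy : Hyp σ H) {w : V} (hw : H w w = 1) :
    ∀ v : perp hy.h w, (∀ x : perp hy.h w, res H (perp hy.h w) v x = 0) → v = 0 :=
  nondeg_res (nondeg_orthoCompl hy.h _ (perp_decomp hy.hσ hy.h hw) hy.hnd)

theorem finrank_perp (hy : Hyp σ H) {w : V} (hw : H w w = 1) : finrank F (perp hy.h w) = 2 := by
  have h1 := HermFrames.finrank_orthoCompl hy.hσ hy.h hy.hnd (Submodule.span F {w})
  rw [finrank_span_singleton (norm_one_ne_zero hy.h hw), hy.hdim] at h1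
  unfold perp
  omega

/-- the third vector of an orthonormal triple -/
theorem exists_third (hy : Hyp σ H) {w r : V} (hw : H w w = 1) (hr : H r r ≠ 0)
    (hwr : H w r = 0) : ∃ u, H u u = 1 ∧ H w u = 0 ∧ H r u = 0 := by
  obtain ⟨a, ha0, ha⟩ := exists_smul_norm_one hy.hσ hy.h r hr
  have hrw : H r w = 0 := by rw [hy.h.symm w r, hwr, map_zero]
  have hmem : a • r ∈ perp hy.h w := by
    rw [mem_perp, hy.h.smul_left, hrw, mul_zero]
  obtain ⟨y, hy1, hy2⟩ := exists_ortho_norm_one (V := ↥(perp hy.h w)) (H := res H (perp hy.h w))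
    hy.hσ (isHerm_restrict hy.h _) (perp_nondeg hy hw) (by rw [finrank_perp hy hw])
    ⟨a • r, hmem⟩ ha
  refine ⟨(y : V), hy1, ?_, ?_⟩
  · rw [hy.h.symm (y : V) w, (mem_perp hy.h w _).1 y.2, map_zero]
  · have h3 : H (a • r) (y : V) = 0 := hy2
    rw [hy.h.smul_left] at h3
    rcases mul_eq_zero.1 h3 with h4 | h4
    · exact absurd h4 ha0
    · exact h4

/-- a vector of norm one in `w^⊥` whose pairing with a given isotropic vector does not have
norm one -/
theorem exists_norm_one_off (hy : Hyp σ H) {w r : V} (hw : H w w = 1) (hwr : H w r = 0)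
    (hrr : H r r = 0) : ∃ u, H u u = 1 ∧ H w u = 0 ∧ H r u * σ (H r u) ≠ 1 := by
  have hσ2 := WittHerm.sigma_sigma hy.hσ
  obtain ⟨u₀, hu₀, hwu₀⟩ := exists_ortho_norm_one hy.hσ hy.h hy.hnd (by rw [hy.hdim]; omega) w hw
  by_cases hβ : H r u₀ * σ (H r u₀) = 1
  · obtain ⟨c, hc, hc0, hc1⟩ := hy.hbig
    obtain ⟨b, hb0, hb⟩ := exists_norm_eq hy.hσ c hc0 hc
    obtain ⟨a', ha'⟩ := WittHerm.exists_trace hy.hσ (1 - c) (by rw [map_sub, map_one, hc])
    have hβ0 : H r u₀ ≠ 0 := by
      intro h0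
      rw [h0, zero_mul] at hβ
      exact zero_ne_one hβ
    have hσb0 : σ b ≠ 0 := by
      intro h0
      apply hb0
      have := congrArg σ h0
      rwa [hσ2, map_zero] at this
    obtain ⟨a, ha⟩ : ∃ a, a = a' / (σ b * H r u₀) := ⟨_, rfl⟩
    have hX : a * σ b * H r u₀ = a' := by
      rw [ha]
      field_simp
    refine ⟨a • r + b • u₀, ?_, ?_, ?_⟩
    · simp only [hy.h.add_left, hy.h.add_right, hy.h.smul_left, hy.h.smul_right, hrr, hu₀]
      rw [hy.h.symm r u₀]
      have h5 : σ (a * σ b * H r u₀) = σ a * b * σ (H r u₀) := by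
        rw [map_mul, map_mul, hσ2]
      rw [hX] at h5
      linear_combination hb + ha' + hX - h5
    · rw [hy.h.add_right, hy.h.smul_right, hy.h.smul_right, hwr, hwu₀, mul_zero, mul_zero,
        add_zero]
    · rw [hy.h.add_right, hy.h.smul_right, hy.h.smul_right, hrr, mul_zero, zero_add, map_mul,
        hσ2]
      intro h6
      apply hc1
      rw [← hb]
      linear_combination h6 - (b * σ b) * hβ
  · exact ⟨u₀, hu₀, hwu₀, hβ⟩

end SU3Inv

end Cfsg.Agent.Lib.Helper2
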