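import Mathlib
import Cfsg.Agent.Lib.Helper2.SU3Inv7

set_option autoImplicit false

namespace Cfsg.Agent.Lib.Helper2

namespace SU3Inv

open Module IsomDecomp HermDecomp Cfsg.Agent.Lib.Helper5.PSLCoset UT

universe u

variable {F : Type u} [Field F] [Finite F] {σ : F ≃+* F} {V : Type u} [AddCommGroup V]
  [Module F V] [FiniteDimensional F V] {H : V → V → F}

/-- the component of `v` orthogonal to `w` -/
def rj (H : V → V → F) (w v : V) : V := v - H v w • w

omit [Finite F] [FiniteDimensional F V] in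
theorem rj_perp (h : IsHerm σ H) {w : V} (hw : H w w = 1) (v : V) : H (rj H w v) w = 0 := by
  unfold rj
  rw [h.sub_left, h.smul_left, hw, mul_one, sub_self]

omit [Finite F] [FiniteDimensional F V] in
theorem perp_rj (h : IsHerm σ H) {w : V} (hw : H w w = 1) (v : V) : H w (rj H w v) = 0 := by
  rw [h.symm (rj H w v) w, rj_perp h hw, map_zero]

omit [Finite F] [FiniteDimensional F V] in
theorem norm_rj (h : IsHerm σ H) {w : V} (hw : H w w = 1) (v : V) :
    H (rj H w v) (rj H w v) = H v v - H v w * σ (H v w) := by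
  unfold rj
  simp only [h.sub_left, h.sub_right, h.smul_left, h.smul_right, hw]
  rw [h.symm v w]
  ring

omit [Finite F] [FiniteDimensional F V] in
theorem eq_add_rj (w v : V) : v = H v w • w + rj H w v := by
  unfold rj
  abel

/-- a common neighbour at the level of vectors -/
theorem exists_mid (hy : Hyp σ H) {w v : V} (hw : H w w = 1)
    (hr : H (rj H w v) (rj H w v) ≠ 0) : ∃ u, H u u = 1 ∧ H w u = 0 ∧ H v u = 0 := by
  obtain ⟨u, hu, hwu, hru⟩ := exists_third hy hw hr (perp_rj hy.h hw v)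
  refine ⟨u, hu, hwu, ?_⟩
  rw [eq_add_rj (H := H) w v, hy.h.add_left, hy.h.smul_left, hwu, hru, mul_zero, add_zero]

variable {S : Type*} [Group S] {ρ : S →* (V ≃ₗ[F] V)}

omit [Finite F] [FiniteDimensional F V] in
theorem commute_map_iff (hρ : IsSU H ρ) (a b : S) : Commute a b ↔ Commute (ρ a) (ρ b) := by
  constructor
  · intro hab
    show _ * _ = _ * _
    rw [← map_mul, ← map_mul, hab.eq]
  · intro hab
    apply hρ.inj
    rw [map_mul, map_mul, hab.eq]

omit [Finite F] [FiniteDimensional F V] in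
theorem comm_ne_iff (hy : Hyp σ H) (hρ : IsSU H ρ) {t x : S} {w v : V} (hw : H w w = 1)
    (hv : H v v = 1) (ht : ρ t = invo hy.h w hw) (hx : ρ x = invo hy.h v hv) :
    (x ≠ t ∧ Commute t x) ↔ H v w = 0 := by
  rw [commute_map_iff hρ, ht, hx, commute_invo_iff hy.h hy.h2]
  constructor
  · rintro ⟨hne, h0 | h0⟩
    · rw [hy.h.symm w v, h0, map_zero]
    · exfalso
      apply hne
      apply hρ.inj
      rw [ht, hx, h0]
  · intro h0
    constructor
    · intro hxt
      rw [hxt, ht] at hx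
      have := (eq_smul_of_invo_eq hy.h hy.h2 hw hv hx).1
      rw [h0, zero_smul] at this
      exact norm_one_ne_zero hy.h hv this
    · left
      rw [hy.h.symm v w, h0, map_zero]

omit [Finite F] [FiniteDimensional F V] in
theorem invo_eq_iff_rj (hy : Hyp σ H) {w v : V} (hw : H w w = 1) (hv : H v v = 1) :
    invo hy.h w hw = invo hy.h v hv ↔ rj H w v = 0 := by
  constructor
  · intro h0
    have := (eq_smul_of_invo_eq hy.h hy.h2 hw hv h0).1
    unfold rj
    rw [sub_eq_zero]
    exact this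
  · intro h0
    unfold rj at h0
    rw [sub_eq_zero] at h0
    apply (invo_eq_iff hy.h hy.h2 w v hw hv).2
    refine ⟨H v w, ?_, h0⟩
    have h5 := hv
    nth_rewrite 1 [h0] at h5
    nth_rewrite 2 [h0] at h5
    rw [hy.h.smul_left, hy.h.smul_right, hw, mul_one] at h5
    exact h5

omit [Finite F] [FiniteDimensional F V] in
theorem not_comm_iff (hy : Hyp σ H) (hρ : IsSU H ρ) {t x : S} {w v : V} (hw : H w w = 1)
    (hv : H v v = 1) (ht : ρ t = invo hy.h w hw) (hx : ρ x = invo hy.h v hv) :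
    ¬ Commute t x ↔ H v w ≠ 0 ∧ rj H w v ≠ 0 := by
  rw [commute_map_iff hρ, ht, hx, commute_invo_iff hy.h hy.h2, invo_eq_iff_rj hy hw hv, not_or]
  constructor
  · rintro ⟨h1, h3⟩
    refine ⟨?_, h3⟩
    intro h0
    apply h1
    rw [hy.h.symm v w, h0, map_zero]
  · rintro ⟨h1, h3⟩
    refine ⟨?_, h3⟩
    intro h0
    apply h1
    rw [hy.h.symm w v, h0, map_zero]

theorem exists_mid_iff (hy : Hyp σ H) (hρ : IsSU H ρ) {t x : S} {w v : V} (hw : H w w = 1)
    (hv : H v v = 1) (ht : ρ t = invo hy.h w hw) (hx : ρ x = invo hy.h v hv)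
    (hnc : ¬ Commute t x) :
    (∃ y : S, y ≠ 1 ∧ y * y = 1 ∧ Commute t y ∧ Commute y x) ↔
      H (rj H w v) (rj H w v) ≠ 0 := by
  constructor
  · rintro ⟨y, hy1, hy2, hty, hyx⟩
    obtain ⟨u, hu, hyu⟩ := exists_invo_of_inv hy hρ hy1 hy2
    have hwu : H w u = 0 := by
      have := (commute_map_iff hρ t y).1 hty
      rw [ht, hyu, commute_invo_iff hy.h hy.h2] at this
      rcases this with h0 | h0
      · exact h0
      · exfalso
        apply hnc
        have hty' : t = y := hρ.inj (by rw [ht, hyu, h0])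
        rw [hty']
        exact hyx
    have huv : H u v = 0 := by
      have := (commute_map_iff hρ y x).1 hyx
      rw [hyu, hx, commute_invo_iff hy.h hy.h2] at this
      rcases this with h0 | h0
      · exact h0
      · exfalso
        apply hnc
        have hyx' : y = x := hρ.inj (by rw [hx, hyu, h0])
        rw [← hyx']
        exact hty
    have hu0 : H u u ≠ 0 := by
      rw [hu]
      exact one_ne_zero
    obtain ⟨u', hu', hwu', huu'⟩ := exists_third hy hw hu0 hwu
    have hr0 := ((not_comm_iff hy hρ hw hv ht hx).1 hnc).2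
    intro hrr
    apply hr0
    have hrw := rj_perp hy.h hw v
    have hru : H (rj H w v) u = 0 := by
      unfold rj
      rw [hy.h.sub_left, hy.h.smul_left, hwu, mul_zero, sub_zero, hy.h.symm u v, huv, map_zero]
    have hc := coords hy.h hy.hnd hy.hdim hw hu hu' hwu hwu' huu' (rj H w v)
    rw [hrw, hru, zero_smul, zero_smul, zero_add, zero_add] at hc
    have h5 := hrr
    nth_rewrite 1 [hc] at h5
    nth_rewrite 2 [hc] at h5
    rw [hy.h.smul_left, hy.h.smul_right, hu', mul_one] at h5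
    have h6 : H (rj H w v) u' = 0 := by
      rcases mul_eq_zero.1 h5 with h7 | h7
      · exact h7
      · have := congrArg σ h7
        rwa [WittHerm.sigma_sigma hy.hσ, map_zero] at this
    rw [hc, h6, zero_smul]
  · intro hr
    obtain ⟨u, hu, hwu, hvu⟩ := exists_mid hy hw hr
    obtain ⟨y, ⟨hy1, hy2⟩, hyu⟩ := exists_inv_of_invo hy hρ u hu
    refine ⟨y, hy1, hy2, ?_, ?_⟩
    · rw [commute_map_iff hρ, ht, hyu, commute_invo_iff hy.h hy.h2]
      exact Or.inl hwu
    · rw [commute_map_iff hρ, hyu, hx, commute_invo_iff hy.h hy.h2]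
      left
      rw [hy.h.symm v u, hvu, map_zero]

/-- the commuting involution graph has diameter at most three -/
theorem diam (hy : Hyp σ H) (hρ : IsSU H ρ) {t x : S} (ht1 : t ≠ 1) (ht2 : t * t = 1)
    (hx1 : x ≠ 1) (hx2 : x * x = 1) :
    ∃ y z : S, y ≠ 1 ∧ y * y = 1 ∧ z ≠ 1 ∧ z * z = 1 ∧
      Commute t y ∧ Commute y z ∧ Commute z x := by
  obtain ⟨w, hw, ht⟩ := exists_invo_of_inv hy hρ ht1 ht2
  obtain ⟨v, hv, hx⟩ := exists_invo_of_inv hy hρ hx1 hx2
  by_cases hr0 : rj H w v = 0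
  · have hxt : x = t := hρ.inj (by rw [ht, hx, (invo_eq_iff_rj hy hw hv).2 hr0])
    refine ⟨t, t, ht1, ht2, ht1, ht2, Commute.refl t, Commute.refl t, ?_⟩
    rw [hxt]
  by_cases hrr : H (rj H w v) (rj H w v) = 0
  · obtain ⟨u, hu, hwu, hru⟩ := exists_norm_one_off hy hw (perp_rj hy.h hw v) hrr
    have huv : H v u = H (rj H w v) u := by
      nth_rewrite 1 [eq_add_rj (H := H) w v]
      rw [hy.h.add_left, hy.h.smul_left, hwu, mul_zero, zero_add]
    have hr' : H (rj H u v) (rj H u v) ≠ 0 := by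
      rw [norm_rj hy.h hu, hv, huv]
      intro h0
      apply hru
      linear_combination -h0
    obtain ⟨u', hu', huu', hvu'⟩ := exists_mid hy hu hr'
    obtain ⟨y, ⟨hy1, hy2⟩, hyu⟩ := exists_inv_of_invo hy hρ u hu
    obtain ⟨z, ⟨hz1, hz2⟩, hzu⟩ := exists_inv_of_invo hy hρ u' hu'
    refine ⟨y, z, hy1, hy2, hz1, hz2, ?_, ?_, ?_⟩
    · rw [commute_map_iff hρ, ht, hyu, commute_invo_iff hy.h hy.h2]
      exact Or.inl hwu
    · rw [commute_map_iff hρ, hyu, hzu, commute_invo_iff hy.h hy.h2]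
      exact Or.inl huu'
    · rw [commute_map_iff hρ, hzu, hx, commute_invo_iff hy.h hy.h2]
      left
      rw [hy.h.symm v u', hvu', map_zero]
  · obtain ⟨u, hu, hwu, hvu⟩ := exists_mid hy hw hrr
    obtain ⟨y, ⟨hy1, hy2⟩, hyu⟩ := exists_inv_of_invo hy hρ u hu
    refine ⟨y, y, hy1, hy2, hy1, hy2, ?_, Commute.refl y, ?_⟩
    · rw [commute_map_iff hρ, ht, hyu, commute_invo_iff hy.h hy.h2]
      exact Or.inl hwu
    · rw [commute_map_iff hρ, hyu, hx, commute_invo_iff hy.h hy.h2]
      left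
      rw [hy.h.symm v u, hvu, map_zero]

end SU3Inv

end Cfsg.Agent.Lib.Helper2
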