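import Mathlib
import Cfsg.Agent.Lib.Helper2.SU3Inv8

set_option autoImplicit false

namespace Cfsg.Agent.Lib.Helper2

namespace SU3Inv

open Module IsomDecomp HermDecomp Cfsg.Agent.Lib.Helper5.PSLCoset UT

universe u

section transfer

variable {F : Type u} [Field F] [Finite F] {σ : F ≃+* F} {V : Type u} [AddCommGroup V]
  [Module F V] [FiniteDimensional F V] {H : V → V → F}

/-- a nondegenerate Hermitian space is isometric to the standard one -/
theorem exists_std_iso {q : ℕ} (hσ : orderOf σ = 2) (hσq : ∀ a : F, σ a = a ^ q)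
    (h : IsHerm σ H) (hnd : ∀ v, (∀ w, H v w = 0) → v = 0) {k : ℕ} (hk : finrank F V = k) :
    ∃ e : V ≃ₗ[F] (Fin k → F), ∀ u v, Cfsg.hermForm k F q (e u) (e v) = H u v := by
  obtain ⟨b, hb⟩ := exists_onb hσ h hnd hk
  refine ⟨b.equivFun, ?_⟩
  intro u v
  rw [form_eq_sum h b hb u v]
  unfold Cfsg.hermForm
  apply Finset.sum_congr rfl
  intro i _
  rw [Basis.equivFun_apply, Basis.equivFun_apply, hσq]

theorem card_norm_eq_std {q : ℕ} (hσ : orderOf σ = 2) (hσq : ∀ a : F, σ a = a ^ q)
    (h : IsHerm σ H) (hnd : ∀ v, (∀ w, H v w = 0) → v = 0) {k : ℕ} (hk : finrank F V = k)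
    (c : F) :
    Nat.card {v : V // H v v = c} = Nat.card {x : Fin k → F // Cfsg.hermForm k F q x x = c} := by
  obtain ⟨e, he⟩ := exists_std_iso hσ hσq h hnd hk
  apply Nat.card_congr
  refine
    { toFun := fun v => ⟨e v.1, by rw [he]; exact v.2⟩
      invFun := fun x => ⟨e.symm x.1, by rw [← he, e.apply_symm_apply]; exact x.2⟩
      left_inv := fun v => Subtype.ext (e.symm_apply_apply v.1)
      right_inv := fun x => Subtype.ext (e.apply_symm_apply x.1) }

end transfer

/-- splitting a count along a predicate -/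
theorem card_split {A : Type*} [Finite A] (p r : A → Prop) :
    Nat.card {a // p a} = Nat.card {a // p a ∧ r a} + Nat.card {a // p a ∧ ¬ r a} := by
  classical
  rw [Nat.card_congr (Equiv.sumCompl (fun a : {a // p a} => r a.1)).symm, Nat.card_sum,
    Nat.card_congr (Equiv.subtypeSubtypeEquivSubtypeInter p r),
    Nat.card_congr (Equiv.subtypeSubtypeEquivSubtypeInter p (fun a => ¬ r a))]

/-- removing one point -/
theorem card_remove {A : Type*} [Finite A] (p : A → Prop) (a₀ : A) (h₀ : p a₀) :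
    Nat.card {a // p a} = Nat.card {a // a ≠ a₀ ∧ p a} + 1 := by
  rw [card_split p (fun a => a = a₀), add_comm]
  congr 1
  · apply Nat.card_congr
    apply Equiv.subtypeEquivRight
    intro a
    exact and_comm
  · exact Nat.card_eq_one_iff_unique.2
      ⟨⟨fun a b => Subtype.ext (a.2.2.trans b.2.2.symm)⟩, ⟨⟨a₀, h₀, rfl⟩⟩⟩

variable {F : Type u} [Field F] [Finite F] {σ : F ≃+* F} {V : Type u} [AddCommGroup V]
  [Module F V] [FiniteDimensional F V] {H : V → V → F}

variable {S : Type*} [Group S] {ρ : S →* (V ≃ₗ[F] V)}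

/-- counting involutions with a property by vectors of norm one -/
theorem card_pred [Finite V] [Finite S] (hy : Hyp σ H) (hρ : IsSU H ρ) (P : S → Prop) :
    Nat.card {v : {v : V // H v v = 1} // P (Φ hy hρ v).1} =
      Nat.card {x : {x : S // x ≠ 1 ∧ x * x = 1} // P x.1} *
        Nat.card {c : F // c * σ c = 1} := by
  apply Cfsg.Agent.Lib.Helper3.card_eq_mul_of_fibres
    (fun v : {v : {v : V // H v v = 1} // P (Φ hy hρ v).1} =>
      (⟨Φ hy hρ v.1, v.2⟩ : {x : {x : S // x ≠ 1 ∧ x * x = 1} // P x.1}))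
  intro x
  rw [← card_fibre_Φ hy hρ x.1]
  apply Nat.card_congr
  refine
    { toFun := fun v => ⟨v.1.1, congrArg Subtype.val v.2⟩
      invFun := fun v => ⟨⟨v.1, by rw [v.2]; exact x.2⟩, Subtype.ext v.2⟩
      left_inv := fun v => rfl
      right_inv := fun v => rfl }

end SU3Inv

end Cfsg.Agent.Lib.Helper2
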