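import Mathlib
import Cfsg.Agent.Lib.Helper2.SU3Inv9

set_option autoImplicit false

namespace Cfsg.Agent.Lib.Helper2

namespace SU3Inv

open Module IsomDecomp HermDecomp Cfsg.Agent.Lib.Helper5.PSLCoset UT

universe u

variable {F : Type u} [Field F] [Finite F] {σ : F ≃+* F} {V : Type u} [AddCommGroup V]
  [Module F V] [FiniteDimensional F V] {H : V → V → F}

variable {S : Type*} [Group S] {ρ : S →* (V ≃ₗ[F] V)}

/-- the involutions commuting with `t` -/
theorem card_I1 [Finite V] [Finite S] {q : ℕ} (hσq : ∀ a : F, σ a = a ^ q) (hy : Hyp σ H)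
    (hρ : IsSU H ρ) {t : S} {w : V} (hw : H w w = 1) (ht : ρ t = invo hy.h w hw) :
    Nat.card {x : S // x ≠ 1 ∧ x * x = 1 ∧ x ≠ t ∧ Commute t x} *
        Nat.card {c : F // c * σ c = 1} =
      Nat.card {x : Fin 2 → F // Cfsg.hermForm 2 F q x x = 1} := by
  rw [← card_norm_eq_std (V := ↥(perp hy.h w)) (H := res H (perp hy.h w)) hy.hσ hσq
    (isHerm_restrict hy.h _) (perp_nondeg hy hw) (finrank_perp hy hw) 1]
  have h1 : Nat.card {x : S // x ≠ 1 ∧ x * x = 1 ∧ x ≠ t ∧ Commute t x} =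
      Nat.card {x : {x : S // x ≠ 1 ∧ x * x = 1} // x.1 ≠ t ∧ Commute t x.1} := by
    rw [Nat.card_congr (Equiv.subtypeSubtypeEquivSubtypeInter
      (fun x : S => x ≠ 1 ∧ x * x = 1) (fun x : S => x ≠ t ∧ Commute t x))]
    apply Nat.card_congr
    apply Equiv.subtypeEquivRight
    intro x
    exact and_assoc.symm
  rw [h1, ← card_pred hy hρ (fun x => x ≠ t ∧ Commute t x)]
  apply Nat.card_congr
  have key : ∀ v : {v : V // H v v = 1},
      ((Φ hy hρ v).1 ≠ t ∧ Commute t (Φ hy hρ v).1) ↔ H v.1 w = 0 :=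
    fun v => comm_ne_iff hy hρ hw v.2 ht (Φ_spec hy hρ v)
  refine
    { toFun := fun v => ⟨⟨v.1.1, (mem_perp hy.h w _).2 ((key v.1).1 v.2)⟩, v.1.2⟩
      invFun := fun r => ⟨⟨r.1.1, r.2⟩, (key _).2 ((mem_perp hy.h w _).1 r.1.2)⟩
      left_inv := fun v => rfl
      right_inv := fun r => rfl }

omit [Finite F] [FiniteDimensional F V] in
theorem rj_add (hy : Hyp σ H) {w : V} (hw : H w w = 1) (α : F) {r : V} (hr : H r w = 0) :
    rj H w (α • w + r) = r := by
  unfold rj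
  rw [hy.h.add_left, hy.h.smul_left, hw, hr, mul_one, add_zero]
  abel

/-- the involutions at distance three from `t` -/
theorem card_I3 [Finite V] [Finite S] {q : ℕ} (hσq : ∀ a : F, σ a = a ^ q) (hy : Hyp σ H)
    (hρ : IsSU H ρ) {t : S} {w : V} (hw : H w w = 1) (ht : ρ t = invo hy.h w hw) :
    Nat.card {x : S // x ≠ 1 ∧ x * x = 1 ∧ ¬ Commute t x ∧
        ∀ y : S, y ≠ 1 → y * y = 1 → ¬ (Commute t y ∧ Commute y x)} *
        Nat.card {c : F // c * σ c = 1} + Nat.card {c : F // c * σ c = 1} =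
      Nat.card {c : F // c * σ c = 1} *
        Nat.card {x : Fin 2 → F // Cfsg.hermForm 2 F q x x = 0} := by
  rw [← card_norm_eq_std (V := ↥(perp hy.h w)) (H := res H (perp hy.h w)) hy.hσ hσq
    (isHerm_restrict hy.h _) (perp_nondeg hy hw) (finrank_perp hy hw) 0,
    card_remove (fun r : ↥(perp hy.h w) => res H (perp hy.h w) r r = 0) 0
      (hy.h.zero_left _), mul_add, mul_one]
  congr 1
  have h1 : Nat.card {x : S // x ≠ 1 ∧ x * x = 1 ∧ ¬ Commute t x ∧
        ∀ y : S, y ≠ 1 → y * y = 1 → ¬ (Commute t y ∧ Commute y x)} =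
      Nat.card {x : {x : S // x ≠ 1 ∧ x * x = 1} // ¬ Commute t x.1 ∧
        ∀ y : S, y ≠ 1 → y * y = 1 → ¬ (Commute t y ∧ Commute y x.1)} := by
    rw [Nat.card_congr (Equiv.subtypeSubtypeEquivSubtypeInter
      (fun x : S => x ≠ 1 ∧ x * x = 1) (fun x : S => ¬ Commute t x ∧
        ∀ y : S, y ≠ 1 → y * y = 1 → ¬ (Commute t y ∧ Commute y x)))]
    apply Nat.card_congr
    apply Equiv.subtypeEquivRight
    intro x
    exact and_assoc.symm
  rw [h1, ← card_pred hy hρ (fun x => ¬ Commute t x ∧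
        ∀ y : S, y ≠ 1 → y * y = 1 → ¬ (Commute t y ∧ Commute y x)), ← Nat.card_prod]
  apply Nat.card_congr
  have key : ∀ v : {v : V // H v v = 1},
      (¬ Commute t (Φ hy hρ v).1 ∧
        ∀ y : S, y ≠ 1 → y * y = 1 → ¬ (Commute t y ∧ Commute y (Φ hy hρ v).1)) ↔
      rj H w v.1 ≠ 0 ∧ H (rj H w v.1) (rj H w v.1) = 0 := by
    intro v
    constructor
    · rintro ⟨hnc, hall⟩
      refine ⟨((not_comm_iff hy hρ hw v.2 ht (Φ_spec hy hρ v)).1 hnc).2, ?_⟩
      by_contra hne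
      obtain ⟨y, hy1, hy2, hty, hyx⟩ :=
        (exists_mid_iff hy hρ hw v.2 ht (Φ_spec hy hρ v) hnc).2 hne
      exact hall y hy1 hy2 ⟨hty, hyx⟩
    · rintro ⟨hr0, hrr⟩
      have hα : H v.1 w ≠ 0 := by
        intro h0
        rw [norm_rj hy.h hw, v.2, h0, zero_mul, sub_zero] at hrr
        exact one_ne_zero hrr
      have hnc : ¬ Commute t (Φ hy hρ v).1 :=
        (not_comm_iff hy hρ hw v.2 ht (Φ_spec hy hρ v)).2 ⟨hα, hr0⟩
      refine ⟨hnc, ?_⟩
      intro y hy1 hy2 hyy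
      exact (exists_mid_iff hy hρ hw v.2 ht (Φ_spec hy hρ v) hnc).1
        ⟨y, hy1, hy2, hyy.1, hyy.2⟩ hrr
  refine
    { toFun := fun v => (⟨H v.1.1 w, ?_⟩, ⟨⟨rj H w v.1.1, ?_⟩, ?_, ?_⟩)
      invFun := fun p => ⟨⟨p.1.1 • w + p.2.1.1, ?_⟩, ?_⟩
      left_inv := ?_
      right_inv := ?_ }
  · have := ((key v.1).1 v.2).2
    rw [norm_rj hy.h hw, v.1.2] at this
    linear_combination -this
  · exact (mem_perp hy.h w _).2 (rj_perp hy.h hw _)
  · intro h0
    exact ((key v.1).1 v.2).1 (congrArg Subtype.val h0)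
  · exact ((key v.1).1 v.2).2
  · have hr : H p.2.1.1 w = 0 := (mem_perp hy.h w _).1 p.2.1.2
    have hr' : H w p.2.1.1 = 0 := by rw [hy.h.symm p.2.1.1 w, hr, map_zero]
    have hrr : H p.2.1.1 p.2.1.1 = 0 := p.2.2.2
    simp only [hy.h.add_left, hy.h.add_right, hy.h.smul_left, hy.h.smul_right, hw, hr, hr', hrr]
    linear_combination p.1.2
  · rw [key]
    have hr : H p.2.1.1 w = 0 := (mem_perp hy.h w _).1 p.2.1.2
    show rj H w (p.1.1 • w + p.2.1.1) ≠ 0 ∧
      H (rj H w (p.1.1 • w + p.2.1.1)) (rj H w (p.1.1 • w + p.2.1.1)) = 0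
    rw [rj_add hy hw _ hr]
    refine ⟨?_, p.2.2.2⟩
    intro h0
    exact p.2.2.1 (Subtype.ext h0)
  · intro v
    apply Subtype.ext
    apply Subtype.ext
    exact (eq_add_rj (H := H) w v.1.1).symm
  · intro p
    have hr : H p.2.1.1 w = 0 := (mem_perp hy.h w _).1 p.2.1.2
    apply Prod.ext
    · apply Subtype.ext
      show H (p.1.1 • w + p.2.1.1) w = p.1.1
      rw [hy.h.add_left, hy.h.smul_left, hw, hr, mul_one, add_zero]
    · apply Subtype.ext
      apply Subtype.ext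
      show rj H w (p.1.1 • w + p.2.1.1) = p.2.1.1
      exact rj_add hy hw _ hr

end SU3Inv

end Cfsg.Agent.Lib.Helper2
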