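import Mathlib
import Cfsg.Agent.Lib.Helper2.SU3Inv5
import Cfsg.Agent.Lib.Helper2.UT18
import Cfsg.Agent.S0284
import Cfsg.Agent.S0278

set_option autoImplicit false

namespace Cfsg.Agent.Lib.Helper2

namespace SU3Inv

open Module IsomDecomp HermDecomp Cfsg.Agent.Lib.Helper5.PSLCoset UT

universe u

variable {F : Type u} [Field F] [Fintype F] {q : ℕ} {σ : F ≃+* F}

theorem two_ne_zero_of_odd (hq : Odd q) (hF : Fintype.card F = q ^ 2) : (2 : F) ≠ 0 := by
  intro h2
  have h1 := Nat.cast_card_eq_zero F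
  rw [hF] at h1
  obtain ⟨k, hk⟩ := hq.pow (n := 2)
  rw [hk] at h1
  push_cast at h1
  rw [h2, zero_mul, zero_add] at h1
  exact one_ne_zero h1

theorem three_le_of_odd (hq : Odd q) (hF : Fintype.card F = q ^ 2) : 3 ≤ q := by
  have h2 := Cfsg.Agent.Lib.Helper1.HermCount.two_le_q hF
  obtain ⟨k, hk⟩ := hq
  omega

theorem hyp_std (hq : Odd q) (hF : Fintype.card F = q ^ 2) (hσ : orderOf σ = 2)
    (hσq : ∀ a : F, σ a = a ^ q) : Hyp σ (Cfsg.hermForm 3 F q) where
  hσ := hσ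
  h := GUIsom.isHerm_hermForm 3 q σ (WittHerm.sigma_sigma hσ) hσq
  hnd := fun v hv => GUIsom.hermForm_nondeg 3 q
    (by have := three_le_of_odd hq hF; omega) v hv
  h2 := two_ne_zero_of_odd hq hF
  hdim := Module.finrank_fin_fun F
  hbig := by
    obtain ⟨c, hc, hc0, hc1⟩ := exists_fixed_ne hF (three_le_of_odd hq hF)
    exact ⟨c, by rw [hσq, hc], hc0, hc1⟩

theorem isSU_std (hq : Odd q) (hF : Fintype.card F = q ^ 2) (hσ : orderOf σ = 2)
    (hσq : ∀ a : F, σ a = a ^ q) : IsSU (Cfsg.hermForm 3 F q) (suLin 3 F q) where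
  inj := suLin_injective
  mem := suLin_mem_isom
  det := det_suLin
  surj := by
    intro g hg hdet
    have hy := hyp_std hq hF hσ hσq
    have h32 : ¬ (3 = 3 ∧ q = 2) := by
      have := three_le_of_odd hq hF
      omega
    have hmem : g ∈ T hy.h :=
      mem_T_main (F := F) hσ 3 (by omega) (Fin 3 → F) (Cfsg.hermForm 3 F q) hy.h hy.hnd hy.hdim
        (fun _ => hy.hbig) g hg hdet
    rw [← range_suLin hF (le_refl 3) h32 hσ hσq hy.h] at hmem
    exact hmem

theorem card_norm_one_F (hF : Fintype.card F = q ^ 2) (hσq : ∀ a : F, σ a = a ^ q) :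
    Nat.card {c : F // c * σ c = 1} = q + 1 := by
  classical
  rw [← Cfsg.Agent.Lib.Helper1.HermCount.card_fibre hF
    (Cfsg.Agent.Lib.Helper1.HermCount.one_mem_fixedUnits (F := F) (q := q)),
    Nat.card_eq_fintype_card, Fintype.card_subtype]
  unfold Cfsg.Agent.Lib.Helper1.HermCount.fibre Cfsg.Agent.Lib.Helper1.HermCount.nrm
  congr 1
  apply Finset.filter_congr
  intro c _
  rw [hσq]

theorem card_norm_one_V (hF : Fintype.card F = q ^ 2) :
    Nat.card {v : Fin 3 → F // Cfsg.hermForm 3 F q v v = 1} = q ^ 2 * (q ^ 3 + 1) := by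
  rw [Cfsg.Agent.S0284.result hF 3, if_neg (by decide)]

theorem card_SU3 (hF : Fintype.card F = q ^ 2) :
    (q + 1) * Nat.card ↥(Cfsg.SU 3 F q) = q ^ 3 * ((q + 1) * (q ^ 2 - 1) * (q ^ 3 + 1)) := by
  rw [Cfsg.Agent.S0278.result hF 3 (by omega)]
  simp [Finset.prod_range_succ]

end SU3Inv

end Cfsg.Agent.Lib.Helper2
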