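import Mathlib
import Cfsg.Agent.Lib.Helper2.SU3Inv10
import Cfsg.Agent.Lib.Helper2.SU3Inv6
import Cfsg.Agent.S0285

set_option autoImplicit false

namespace Cfsg.Agent.Lib.Helper2

namespace SU3Inv

open Module IsomDecomp HermDecomp Cfsg.Agent.Lib.Helper5.PSLCoset UT

/-- the involutions split according to their distance from `t` -/
theorem card_partition {S : Type*} [Group S] [Finite S] (t : S) (ht1 : t ≠ 1)
    (ht2 : t * t = 1) :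
    Nat.card {x : S // x ≠ 1 ∧ x * x = 1} =
      1 + Nat.card {x : S // x ≠ 1 ∧ x * x = 1 ∧ x ≠ t ∧ Commute t x} +
        Nat.card {x : S // x ≠ 1 ∧ x * x = 1 ∧ ¬ Commute t x ∧
          ∃ y : S, y ≠ 1 ∧ y * y = 1 ∧ Commute t y ∧ Commute y x} +
        Nat.card {x : S // x ≠ 1 ∧ x * x = 1 ∧ ¬ Commute t x ∧
          ∀ y : S, y ≠ 1 → y * y = 1 → ¬ (Commute t y ∧ Commute y x)} := by
  rw [card_split (fun x : S => x ≠ 1 ∧ x * x = 1) (fun x => Commute t x),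
    card_split (fun x : S => (x ≠ 1 ∧ x * x = 1) ∧ Commute t x) (fun x => x = t),
    card_split (fun x : S => (x ≠ 1 ∧ x * x = 1) ∧ ¬ Commute t x)
      (fun x => ∃ y : S, y ≠ 1 ∧ y * y = 1 ∧ Commute t y ∧ Commute y x), ← add_assoc]
  congr 1
  · congr 1
    · congr 1
      · exact Nat.card_eq_one_iff_unique.2
          ⟨⟨fun a b => Subtype.ext (a.2.2.trans b.2.2.symm)⟩,
            ⟨⟨t, ⟨⟨ht1, ht2⟩, Commute.refl t⟩, rfl⟩⟩⟩
      · apply Nat.card_congr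
        apply Equiv.subtypeEquivRight
        intro x
        constructor
        · rintro ⟨⟨⟨h1, h2⟩, h3⟩, h4⟩
          exact ⟨h1, h2, h4, h3⟩
        · rintro ⟨h1, h2, h4, h3⟩
          exact ⟨⟨⟨h1, h2⟩, h3⟩, h4⟩
    · apply Nat.card_congr
      apply Equiv.subtypeEquivRight
      intro x
      constructor
      · rintro ⟨⟨⟨h1, h2⟩, h3⟩, h4⟩
        exact ⟨h1, h2, h3, h4⟩
      · rintro ⟨h1, h2, h3, h4⟩
        exact ⟨⟨⟨h1, h2⟩, h3⟩, h4⟩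
  · apply Nat.card_congr
    apply Equiv.subtypeEquivRight
    intro x
    constructor
    · rintro ⟨⟨⟨h1, h2⟩, h3⟩, h4⟩
      refine ⟨h1, h2, h3, ?_⟩
      intro y hy1 hy2 hyy
      exact h4 ⟨y, hy1, hy2, hyy.1, hyy.2⟩
    · rintro ⟨h1, h2, h3, h4⟩
      refine ⟨⟨⟨h1, h2⟩, h3⟩, ?_⟩
      rintro ⟨y, hy1, hy2, hty, hyx⟩
      exact h4 y hy1 hy2 ⟨hty, hyx⟩

theorem arith (q I I1 I2 I3 : ℕ) (hq : 3 ≤ q) (hI : I = q ^ 2 * (q ^ 2 - q + 1))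
    (h1 : I1 = q * (q - 1)) (h3 : I3 = (q + 1) * (q ^ 2 - 1)) (hsum : I = 1 + I1 + I2 + I3) :
    I2 = q * (q - 2) * (q ^ 2 - 1) := by
  obtain ⟨a, rfl⟩ : ∃ a, q = a + 2 := ⟨q - 2, by omega⟩
  have e1 : a + 2 - 1 = a + 1 := by omega
  have e2 : a + 2 - 2 = a := by omega
  have e3 : (a + 2) ^ 2 - 1 = (a + 1) * (a + 3) := by
    have : (a + 2) ^ 2 = (a + 1) * (a + 3) + 1 := by ring
    omega
  have e4 : (a + 2) ^ 2 - (a + 2) + 1 = a ^ 2 + 3 * a + 3 := by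
    have : (a + 2) ^ 2 = a ^ 2 + 3 * a + 2 + (a + 2) := by ring
    omega
  rw [e1] at h1
  rw [e3] at h3
  rw [e4] at hI
  rw [e2, e3]
  have h5 : (a + 2) ^ 2 * (a ^ 2 + 3 * a + 3) =
      1 + (a + 2) * (a + 1) + (a + 2) * a * ((a + 1) * (a + 3)) +
        (a + 2 + 1) * ((a + 1) * (a + 3)) := by ring
  rw [hI, h1, h3, h5] at hsum
  omega

theorem sq_sub_one (q : ℕ) (hq : 1 ≤ q) : q ^ 2 - 1 = (q - 1) * (q + 1) := by
  obtain ⟨a, rfl⟩ : ∃ a, q = a + 1 := ⟨q - 1, by omega⟩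
  have : (a + 1) ^ 2 = (a + 1 - 1) * (a + 1 + 1) + 1 := by
    rw [Nat.add_sub_cancel]
    ring
  omega

end SU3Inv

end Cfsg.Agent.Lib.Helper2
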