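import Mathlib
import Cfsg.Agent.Lib.Helper4.SUClass.Defs
import Cfsg.Agent.Lib.Helper5.SLClass.Central
import Cfsg.Agent.Lib.Helper6.SUClass_MU
import Cfsg.Agent.Lib.Helper5.SUClass_CNT

set_option autoImplicit false
set_option linter.unusedSectionVars false
set_option linter.unusedVariables false

/-!
# S2481 PK-U4a : the determinant-one parameters (port of `Helper2.SLClass_C4a.card_mul_sum_le`)
-/

namespace Cfsg.Agent.Lib.Helper4.SUClass

open Polynomial Cfsg.Agent.S0278 Cfsg.Agent.Lib.Helper5.GLClass Cfsg.Agent.Lib.Helper5.SLClass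

universe u

variable {K : Type u} [Field K] [Fintype K] {q : ℕ}

namespace PkU4a

theorem coe_pow_eq_one (t : ↥(muQ K q)) : (((t : Kˣ) : K)) ^ (q + 1) = 1 := by
  have h := (mem_muQ (K := K) (q := q) (t : Kˣ)).mp t.2
  rw [← Units.val_pow_eq_pow_val, h, Units.val_one]

/-- the scaling map of `exists_scale_poly` -/
noncomputable def phi (hK : Fintype.card K = q ^ 2) (d : ℕ) (t : ↥(muQ K q)) : K[X] → K[X] :=
  Classical.choose (exists_scale_poly hK d ((t : Kˣ) : K) (coe_pow_eq_one t))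

theorem phi_mem (hK : Fintype.card K = q ^ 2) (d : ℕ) (t : ↥(muQ K q)) {f : K[X]}
    (hf : f ∈ PolyDU hK d) : phi hK d t f ∈ PolyDU hK d :=
  ((Classical.choose_spec (exists_scale_poly hK d ((t : Kˣ) : K) (coe_pow_eq_one t))).1 f hf).1

theorem phi_coeff (hK : Fintype.card K = q ^ 2) (d : ℕ) (t : ↥(muQ K q)) {f : K[X]}
    (hf : f ∈ PolyDU hK d) (hd : d ≠ 0) :
    (phi hK d t f).coeff 0 = ((t : Kˣ) : K) * f.coeff 0 :=
  ((Classical.choose_spec (exists_scale_poly hK d ((t : Kˣ) : K) (coe_pow_eq_one t))).1 f hf).2 hd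

theorem phi_injOn (hK : Fintype.card K = q ^ 2) (d : ℕ) (t : ↥(muQ K q)) :
    Set.InjOn (phi hK d t) (PolyDU hK d) :=
  (Classical.choose_spec (exists_scale_poly hK d ((t : Kˣ) : K) (coe_pow_eq_one t))).2

theorem mem_PolyDU_of_mem_ParU (hK : Fintype.card K = q ^ 2) {n : ℕ} {f : Fin n → K[X]}
    (hf : f ∈ ParU hK n n) (j : Fin n) : f j ∈ PolyDU hK (f j).natDegree :=
  ⟨⟨(hf.1.1 j).1, rfl, (hf.1.1 j).2⟩, hf.2 j⟩

theorem eq_one_of_mem_PolyDU_zero (hK : Fintype.card K = q ^ 2) {f : K[X]}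
    (hf : f ∈ PolyDU hK 0) : f = 1 :=
  hf.1.1.natDegree_eq_zero.mp hf.1.2.1

/-- the support of a parameter -/
noncomputable def supp {n : ℕ} (f : Fin n → K[X]) : Finset (Fin n) :=
  open scoped Classical in
  Finset.univ.filter (fun j : Fin n => f j ≠ 1)

theorem mem_supp {n : ℕ} (f : Fin n → K[X]) (j : Fin n) : j ∈ supp f ↔ f j ≠ 1 := by
  classical
  unfold supp
  rw [Finset.mem_filter]
  exact ⟨fun h => h.2, fun h => ⟨Finset.mem_univ _, h⟩⟩

theorem gg_eq {n : ℕ} (f : Fin n → K[X]) : gg f = (supp f).gcd (fun j => j.val + 1) := rfl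

/-- Bezout coefficients for a set of positions -/
noncomputable def bz {n : ℕ} (s : Finset (Fin n)) : Fin n → ℤ :=
  Classical.choose (exists_bezout s (fun j : Fin n => j.val + 1))

theorem bz_spec {n : ℕ} (s : Finset (Fin n)) :
    ∑ j ∈ s, bz s j * ((j.val + 1 : ℕ) : ℤ) = ((s.gcd (fun j : Fin n => j.val + 1) : ℕ) : ℤ) :=
  Classical.choose_spec (exists_bezout s (fun j : Fin n => j.val + 1))

/-- the scaled parameter -/
noncomputable def sc (hK : Fintype.card K = q ^ 2) {n : ℕ} (t : ↥(muQ K q)) (f : Fin n → K[X]) :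
    Fin n → K[X] :=
  fun j => phi hK (f j).natDegree (t ^ (bz (supp f) j)) (f j)

theorem sc_mem_PolyDU (hK : Fintype.card K = q ^ 2) {n : ℕ} (t : ↥(muQ K q)) {f : Fin n → K[X]}
    (hf : f ∈ ParU hK n n) (j : Fin n) : sc hK t f j ∈ PolyDU hK (f j).natDegree :=
  phi_mem hK _ _ (mem_PolyDU_of_mem_ParU hK hf j)

theorem sc_natDegree (hK : Fintype.card K = q ^ 2) {n : ℕ} (t : ↥(muQ K q)) {f : Fin n → K[X]}
    (hf : f ∈ ParU hK n n) (j : Fin n) : (sc hK t f j).natDegree = (f j).natDegree :=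
  (sc_mem_PolyDU hK t hf j).1.2.1

theorem sc_monic (hK : Fintype.card K = q ^ 2) {n : ℕ} (t : ↥(muQ K q)) {f : Fin n → K[X]}
    (hf : f ∈ ParU hK n n) (j : Fin n) : (sc hK t f j).Monic :=
  (sc_mem_PolyDU hK t hf j).1.1

theorem sc_eq_one_iff (hK : Fintype.card K = q ^ 2) {n : ℕ} (t : ↥(muQ K q)) {f : Fin n → K[X]}
    (hf : f ∈ ParU hK n n) (j : Fin n) : sc hK t f j = 1 ↔ f j = 1 := by
  rw [← (sc_monic hK t hf j).natDegree_eq_zero, sc_natDegree hK t hf j,
    (hf.1.1 j).1.natDegree_eq_zero]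

theorem sc_supp (hK : Fintype.card K = q ^ 2) {n : ℕ} (t : ↥(muQ K q)) {f : Fin n → K[X]}
    (hf : f ∈ ParU hK n n) : supp (sc hK t f) = supp f := by
  ext j
  rw [mem_supp, mem_supp, Ne, sc_eq_one_iff hK t hf j]

theorem sc_gg (hK : Fintype.card K = q ^ 2) {n : ℕ} (t : ↥(muQ K q)) {f : Fin n → K[X]}
    (hf : f ∈ ParU hK n n) : gg (sc hK t f) = gg f := by
  rw [gg_eq, gg_eq, sc_supp hK t hf]

theorem sc_mem_ParU (hK : Fintype.card K = q ^ 2) {n : ℕ} (t : ↥(muQ K q)) {f : Fin n → K[X]}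
    (hf : f ∈ ParU hK n n) : sc hK t f ∈ ParU hK n n := by
  refine ⟨⟨fun j => ⟨sc_monic hK t hf j, (sc_mem_PolyDU hK t hf j).1.2.2⟩, ?_⟩,
    fun j => (sc_mem_PolyDU hK t hf j).2⟩
  have h3 : ∑ j : Fin n, (j.val + 1) * (sc hK t f j).natDegree =
      ∑ j : Fin n, (j.val + 1) * (f j).natDegree := by
    apply Finset.sum_congr rfl
    intro j _
    rw [sc_natDegree hK t hf j]
  exact h3.trans hf.1.2

theorem sc_coeff (hK : Fintype.card K = q ^ 2) {n : ℕ} (t : ↥(muQ K q)) {f : Fin n → K[X]}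
    (hf : f ∈ ParU hK n n) (j : Fin n) (hj : f j ≠ 1) :
    (sc hK t f j).coeff 0 = (((t ^ (bz (supp f) j) : ↥(muQ K q)) : Kˣ) : K) * (f j).coeff 0 := by
  have hd : (f j).natDegree ≠ 0 := fun h => hj ((hf.1.1 j).1.natDegree_eq_zero.mp h)
  exact phi_coeff hK _ _ (mem_PolyDU_of_mem_ParU hK hf j) hd

theorem prod_zpow {G : Type*} [CommGroup G] (t : G) {ι : Type*} (s : Finset ι) (e : ι → ℤ) :
    ∏ j ∈ s, t ^ e j = t ^ ∑ j ∈ s, e j := by
  classical
  induction s using Finset.induction_on with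
  | empty => simp
  | insert j s hj ih => rw [Finset.prod_insert hj, Finset.sum_insert hj, zpow_add, ih]

theorem sc_dt (hK : Fintype.card K = q ^ 2) {n : ℕ} (t : ↥(muQ K q)) {f : Fin n → K[X]}
    (hf : f ∈ ParU hK n n) :
    dt (sc hK t f) = ((((t ^ gg f : ↥(muQ K q)) : Kˣ)) : K) * dt f := by
  classical
  unfold dt
  have h1 : ∀ j : Fin n, ((sc hK t f j).coeff 0) ^ (j.val + 1) =
      (if j ∈ supp f then
          ((((t ^ (bz (supp f) j * ((j.val + 1 : ℕ) : ℤ)) : ↥(muQ K q)) : Kˣ)) : K) else 1) *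
        ((f j).coeff 0) ^ (j.val + 1) := by
    intro j
    by_cases hj : f j = 1
    · rw [if_neg (by rw [mem_supp]; exact not_not.mpr hj), one_mul,
        (sc_eq_one_iff hK t hf j).mpr hj, hj]
    · rw [if_pos ((mem_supp f j).mpr hj), sc_coeff hK t hf j hj, mul_pow, zpow_mul,
        zpow_natCast, Subgroup.coe_pow, Units.val_pow_eq_pow_val]
  rw [Finset.prod_congr rfl (fun j _ => h1 j), Finset.prod_mul_distrib, ← Finset.prod_filter,
    Finset.filter_mem_eq_inter, Finset.univ_inter]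
  have h2 : ∏ j ∈ supp f,
      ((((t ^ (bz (supp f) j * ((j.val + 1 : ℕ) : ℤ)) : ↥(muQ K q)) : Kˣ)) : K) =
      ((((t ^ gg f : ↥(muQ K q)) : Kˣ)) : K) := by
    rw [← Units.coe_prod, ← Subgroup.val_finsetProd, prod_zpow, bz_spec, ← gg_eq, zpow_natCast]
  rw [h2]
  ring

theorem sc_inj (hK : Fintype.card K = q ^ 2) {n : ℕ} (t : ↥(muQ K q)) {f f' : Fin n → K[X]}
    (hf : f ∈ ParU hK n n) (hf' : f' ∈ ParU hK n n) (h : sc hK t f = sc hK t f') : f = f' := by
  have hs : supp f = supp f' := by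
    rw [← sc_supp hK t hf, ← sc_supp hK t hf', h]
  funext j
  have hj := congrFun h j
  have hdeg : (f j).natDegree = (f' j).natDegree := by
    rw [← sc_natDegree hK t hf j, ← sc_natDegree hK t hf' j, hj]
  unfold sc at hj
  rw [hs, hdeg] at hj
  have h1 := mem_PolyDU_of_mem_ParU hK hf j
  rw [hdeg] at h1
  exact phi_injOn hK _ _ h1 (mem_PolyDU_of_mem_ParU hK hf' j) hj

open scoped Classical in
theorem card_pow_eq_le (hK : Fintype.card K = q ^ 2) (d : ℕ) (c : K) :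
    (Finset.univ.filter (fun t : ↥(muQ K q) => ((((t ^ d : ↥(muQ K q)) : Kˣ)) : K) = c)).card ≤
      Nat.gcd d (q + 1) := by
  have hg : 0 < Nat.gcd d (q + 1) := Nat.gcd_pos_of_pos_right _ (Nat.succ_pos q)
  have key : (Finset.univ.filter (fun t : ↥(muQ K q) => t ^ d = 1)).card ≤ Nat.gcd d (q + 1) := by
    have hinj : Function.Injective (fun t : ↥(muQ K q) => (t : Kˣ)) := Subtype.val_injective
    rw [← Finset.card_map ⟨_, hinj⟩]
    refine le_trans (Finset.card_le_card ?_) (IsCyclic.card_pow_eq_one_le (α := Kˣ) hg)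
    intro y hy
    rw [Finset.mem_map] at hy
    obtain ⟨t, ht, rfl⟩ := hy
    rw [Finset.mem_filter] at ht ⊢
    refine ⟨Finset.mem_univ _, ?_⟩
    have h1 : ((t : Kˣ)) ^ (q + 1) = 1 := (mem_muQ _).mp t.2
    have h2 : ((t : Kˣ)) ^ d = 1 := by
      have := congrArg (fun s : ↥(muQ K q) => (s : Kˣ)) ht.2
      simpa using this
    exact pow_gcd_eq_one.mpr ⟨h2, h1⟩
  rcases Finset.eq_empty_or_nonempty
    (Finset.univ.filter (fun t : ↥(muQ K q) => ((((t ^ d : ↥(muQ K q)) : Kˣ)) : K) = c))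
    with h | ⟨t₀, ht₀⟩
  · rw [h, Finset.card_empty]; exact Nat.zero_le _
  · refine le_trans ?_ key
    apply Finset.card_le_card_of_injOn (fun t => t * t₀⁻¹)
    · intro t ht
      rw [Finset.mem_coe, Finset.mem_filter] at ht
      rw [Finset.mem_filter] at ht₀
      rw [Finset.mem_coe, Finset.mem_filter]
      refine ⟨Finset.mem_univ _, ?_⟩
      have : t ^ d = t₀ ^ d := Subtype.ext (Units.ext (ht.2.trans ht₀.2.symm))
      rw [mul_pow, this, inv_pow, mul_inv_cancel]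
    · intro t _ t' _ htt
      exact mul_right_cancel htt

end PkU4a

open PkU4a in
open scoped Classical in
theorem card_mul_sum_le_u (hK : Fintype.card K = q ^ 2) (n : ℕ) :
    (q + 1) * ∑ f ∈ (parUFinset hK n).filter (fun f => dt f = 1), Nat.gcd (gg f) (q + 1) ≤
      ∑ f ∈ parUFinset hK n, Nat.gcd (gg f) (q + 1) ^ 2 := by
  set P := parUFinset hK n with hP
  set P1 := P.filter (fun f => dt f = 1) with hP1
  set D : Finset (↥(muQ K q) × (Fin n → K[X])) := (Finset.univ : Finset ↥(muQ K q)) ×ˢ P1 with hD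
  have hpar : ∀ f ∈ P, f ∈ ParU hK n n := fun f hf => (mem_parUFinset hK f).mp hf
  have hD1 : ∀ x ∈ D, x.2 ∈ P ∧ dt x.2 = 1 := by
    intro x hx
    rw [hD, Finset.mem_product, hP1, Finset.mem_filter] at hx
    exact hx.2
  -- step 1
  have e1 : (q + 1) * ∑ f ∈ P1, Nat.gcd (gg f) (q + 1) =
      ∑ x ∈ D, Nat.gcd (gg x.2) (q + 1) := by
    rw [hD, Finset.sum_product]
    show _ = ∑ x : ↥(muQ K q), ∑ y ∈ P1, Nat.gcd (gg y) (q + 1)
    rw [Finset.sum_const, Finset.card_univ, smul_eq_mul,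
      (Fintype.card_congr (Equiv.refl _)).trans (card_muQ hK)]
  -- step 2
  have e2 : ∑ x ∈ D, Nat.gcd (gg x.2) (q + 1) =
      ∑ x ∈ D, Nat.gcd (gg (sc hK x.1 x.2)) (q + 1) := by
    apply Finset.sum_congr rfl
    intro x hx
    rw [sc_gg hK x.1 (hpar _ (hD1 x hx).1)]
  have hmaps : ∀ x ∈ D, sc hK x.1 x.2 ∈ P := by
    intro x hx
    rw [hP, mem_parUFinset]
    exact sc_mem_ParU hK _ (hpar _ (hD1 x hx).1)
  have e3 := (Finset.sum_fiberwise_of_maps_to hmaps
    (fun x => Nat.gcd (gg (sc hK x.1 x.2)) (q + 1))).symm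
  rw [e1, e2, e3]
  apply Finset.sum_le_sum
  intro h hh
  have e4 : ∑ x ∈ D.filter (fun x => sc hK x.1 x.2 = h),
      Nat.gcd (gg (sc hK x.1 x.2)) (q + 1) =
      (D.filter (fun x => sc hK x.1 x.2 = h)).card * Nat.gcd (gg h) (q + 1) := by
    rw [← smul_eq_mul, ← Finset.sum_const]
    apply Finset.sum_congr rfl
    intro x hx
    rw [(Finset.mem_filter.mp hx).2]
  rw [e4, sq]
  apply Nat.mul_le_mul_right
  refine le_trans ?_ (card_pow_eq_le hK (gg h) (dt h))
  apply Finset.card_le_card_of_injOn (fun x => x.1)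
  · intro x hx
    rw [Finset.mem_coe, Finset.mem_filter] at hx
    rw [Finset.mem_coe, Finset.mem_filter]
    refine ⟨Finset.mem_univ _, ?_⟩
    have h1 := sc_dt hK x.1 (hpar _ (hD1 x hx.1).1)
    rw [hx.2, (hD1 x hx.1).2, mul_one] at h1
    have h2 := sc_gg hK x.1 (hpar _ (hD1 x hx.1).1)
    rw [hx.2] at h2
    rw [h2, h1]
  · intro x hx x' hx' hxx
    rw [Finset.mem_coe, Finset.mem_filter] at hx hx'
    have hxx' : x.1 = x'.1 := hxx
    have h3 : sc hK x.1 x.2 = sc hK x.1 x'.2 := by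
      rw [hx.2, hxx', hx'.2]
    have h4 := sc_inj hK x.1 (hpar _ (hD1 x hx.1).1) (hpar _ (hD1 x' hx'.1).1) h3
    exact Prod.ext hxx' h4

end Cfsg.Agent.Lib.Helper4.SUClass
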