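import Mathlib
import Cfsg.Prelude
import Cfsg.Agent.Lib.Helper1.SUT.Defs
import Cfsg.Agent.Lib.Helper1.SUR.Core4
import Cfsg.Agent.Lib.Helper2.UT13

set_option autoImplicit false

/-!
# S2412: general tools for the generation cores

* `eich_smul_base`, `eich_swap`: rescaling the base point of an Eichler transformation and
  exchanging the two (isotropic, orthogonal) vectors;
* `frame0_ext`: two linear automorphisms agreeing on an even Witt frame are equal;
* `core_finish`: if the trace `aSet` of `K` on `Q_{e0}` is the whole orthogonal of `e0` and some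
  element of `K` moves `e0` off its orthogonal, then `K` contains all unitary transvections.
-/

namespace Cfsg.Agent.Lib.Helper1.SUT

open Module Cfsg.Agent.Lib.Helper2 Cfsg.Agent.Lib.Helper2.IsomDecomp Cfsg.Agent.Lib.Helper2.UT
  Cfsg.Agent.Lib.Helper5.PSLCoset Cfsg.Agent.Lib.Helper1.SUR

variable {F : Type*} [Field F] {σ : F ≃+* F} {V : Type*} [AddCommGroup V] [Module F V]
  {H : V → V → F}

theorem herm_neg_right' (h : IsHerm σ H) (v w : V) : H v (-w) = -H v w := by
  have h1 := h.sub_right v 0 w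
  rw [zero_sub, h.zero_right, zero_sub] at h1
  exact h1

/-- rescaling the base point -/
theorem eich_smul_base (hσ : ∀ a : F, σ (σ a) = a) (h : IsHerm σ H) (p z : V) (l c : F)
    (hp : H p p = 0) (hz : H z p = 0) :
    eich h (l • p) z c (by rw [h.smul_left, h.smul_right, hp, mul_zero, mul_zero])
        (by rw [h.smul_right, hz, mul_zero]) =
      eich h p (σ l • z) (c * l * σ l) hp (by rw [h.smul_left, hz, mul_zero]) := by
  apply LinearEquiv.ext
  intro x
  rw [eich_apply, eich_apply, h.smul_right, h.smul_right, hσ]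
  module

/-- exchanging the two vectors -/
theorem eich_swap (h : IsHerm σ H) (p z : V) (hp : H p p = 0) (hz : H z p = 0) (hzz : H z z = 0) :
    eich h p z 0 hp hz =
      eich h z (-p) 0 hzz (by rw [h.neg_left, h.symm z p, hz, map_zero, neg_zero]) := by
  apply LinearEquiv.ext
  intro x
  rw [eich_apply, eich_apply, herm_neg_right' h]
  module

/-- two linear automorphisms agreeing on an even Witt frame are equal -/
theorem frame0_ext {m : ℕ} {e f : ℕ → V} (fr : Frame0 H m e f) {g g' : V ≃ₗ[F] V}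
    (he : ∀ i, i < m → g (e i) = g' (e i)) (hf : ∀ i, i < m → g (f i) = g' (f i)) : g = g' := by
  apply LinearEquiv.ext
  intro x
  rw [fr.expand x, map_sum, map_sum]
  refine Finset.sum_congr rfl fun i hi => ?_
  have him : i < m := Finset.mem_range.1 hi
  rw [map_add, map_add, map_smul, map_smul, map_smul, map_smul, he i him, hf i him]

/-- a sum of members of the trace is a member -/
theorem aSet_sum (h : IsHerm σ H) (K : Subgroup (V ≃ₗ[F] V)) (e0 : V) (he0 : H e0 e0 = 0)
    {ι : Type*} (s : Finset ι) (z : ι → V) (hz : ∀ i ∈ s, z i ∈ aSet h K e0 he0) :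
    ∑ i ∈ s, z i ∈ aSet h K e0 he0 := by
  classical
  induction s using Finset.induction_on with
  | empty => rw [Finset.sum_empty]; exact aSet_zero h K e0 he0
  | insert a s ha ih =>
    rw [Finset.sum_insert ha]
    exact aSet_add h K e0 he0 (hz a (Finset.mem_insert_self a s))
      (ih fun i hi => hz i (Finset.mem_insert_of_mem hi))

/-- the end of the generation arguments -/
theorem core_finish (hσ : orderOf σ = 2) (h : IsHerm σ H)
    (hnd : ∀ v, (∀ w, H v w = 0) → v = 0) (K : Subgroup (V ≃ₗ[F] V)) (e0 e1 f1 : V)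
    (he0 : H e0 e0 = 0) (he1 : H e1 e0 = 0) (hf1 : H f1 e0 = 0) (hfe : H f1 e1 = 1)
    (hA : ∀ z, H z e0 = 0 → z ∈ aSet h K e0 he0)
    (g : V ≃ₗ[F] V) (hgK : g ∈ K) (hg : g ∈ isom H) (hge : H (g e0) e0 ≠ 0) : T h ≤ K := by
  have hσ2 : ∀ a : F, σ (σ a) = a := sigma_sigma_of_order hσ
  have hef : H e1 f1 = 1 := by rw [h.symm f1 e1, hfe, map_one]
  -- central transvections
  have hZ : ∀ b : F, σ b = -b → tv h e0 b he0 ∈ K := by
    intro b hb
    obtain ⟨l, hl⟩ := exists_sub_eq_of_skew hσ b hb
    obtain ⟨hz, c1, hc1, hK1⟩ := hA ((-l) • e1) (by rw [h.smul_left, he1, mul_zero])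
    obtain ⟨hz', c2, hc2, hK2⟩ := hA f1 hf1
    have h1 := comm_tv_mem h K e0 he0 hz hz' hc1 hc2 hK1 hK2
    rw [h.smul_right, h.smul_left, hfe, hef, map_neg] at h1
    have h2 : -σ l * 1 - -l * 1 = b := by rw [← hl]; ring
    rwa [h2] at h1
  -- all of `Q`
  have hQ : ∀ (z : V) (c : F) (hz : H z e0 = 0), c + σ c + H z z = 0 →
      eich h e0 z c he0 hz ∈ K := by
    intro z c' hz hc'
    obtain ⟨hz', c0, hc0, hK0⟩ := hA z hz
    have hskew : σ (c' - c0) = -(c' - c0) := by
      rw [map_sub]
      linear_combination hc' - hc0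
    exact eich_mem_of_tv_mem h K e0 he0 hz hK0 (hZ _ hskew)
  exact endgame hσ2 h hnd (exists_trace_eq hσ) K e0 he0 hQ g hgK hg hge

end Cfsg.Agent.Lib.Helper1.SUT
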