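import Mathlib
import Cfsg.Prelude
import Cfsg.Agent.Lib.Helper2.SUTFin

set_option autoImplicit false

/-!
# S2412: CORE-EVEN, part 1: the root elements `E_{e_j}(γ f_{j+1}, 0)`
-/

namespace Cfsg.Agent.Lib.Helper1.SUT

open Module Cfsg.Agent.Lib.Helper2 Cfsg.Agent.Lib.Helper2.IsomDecomp Cfsg.Agent.Lib.Helper2.UT
  Cfsg.Agent.Lib.Helper5.PSLCoset Cfsg.Agent.Lib.Helper1.SUR

variable {F : Type*} [Field F] {σ : F ≃+* F} {V : Type*} [AddCommGroup V] [Module F V]
  {H : V → V → F}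

section rootE

variable (h : IsHerm σ H) {m : ℕ} {e f : ℕ → V} (fr : Frame0 H m e f)

/-- the root element `E_{e_j}(γ f_{j+1}, 0)` (root `ε_j - ε_{j+1}`) -/
noncomputable def rootE (j : ℕ) (hj : j + 1 < m) (γ : F) : V ≃ₗ[F] V :=
  eich h (e j) (γ • f (j + 1)) 0 (fr.ee j j (by omega) (by omega))
    (by rw [h.smul_left, fr.fe (j + 1) j hj (by omega), if_neg (by omega), mul_zero])

theorem rootE_apply (j : ℕ) (hj : j + 1 < m) (γ : F) (x : V) :
    rootE h fr j hj γ x = x + (γ * H x (e j)) • f (j + 1) - (σ γ * H x (f (j + 1))) • e j := by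
  unfold rootE
  rw [eich_apply, h.smul_right]
  module

theorem rootE_mem_isom (j : ℕ) (hj : j + 1 < m) (γ : F) : rootE h fr j hj γ ∈ isom H := by
  unfold rootE
  apply eich_mem_isom
  rw [h.smul_left, h.smul_right, fr.ff (j + 1) (j + 1) hj hj, map_zero]
  ring

theorem rootE_mul (j : ℕ) (hj : j + 1 < m) (γ γ' : F) :
    rootE h fr j hj γ * rootE h fr j hj γ' = rootE h fr j hj (γ + γ') := by
  unfold rootE
  rw [eich_mul]
  apply eich_congr
  · rfl
  · rw [add_smul]
  · rw [h.smul_left, h.smul_right, fr.ff (j + 1) (j + 1) hj hj]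
    ring

theorem rootE_zero (j : ℕ) (hj : j + 1 < m) : rootE h fr j hj 0 = 1 := by
  apply LinearEquiv.ext
  intro x
  rw [rootE_apply]
  simp

theorem rootE_inv (j : ℕ) (hj : j + 1 < m) (γ : F) :
    (rootE h fr j hj γ)⁻¹ = rootE h fr j hj (-γ) := by
  rw [inv_eq_iff_mul_eq_one, rootE_mul, add_neg_cancel, rootE_zero]

/-- conjugation by an isometry acting diagonally on `e_j`, `f_{j+1}` -/
theorem conj_rootE_diag {g : V ≃ₗ[F] V} (hg : g ∈ isom H) (hσ : ∀ a : F, σ (σ a) = a)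
    (j : ℕ) (hj : j + 1 < m) (γ l k : F) (hge : g (e j) = l • e j)
    (hgf : g (f (j + 1)) = k • f (j + 1)) :
    g * rootE h fr j hj γ * g⁻¹ = rootE h fr j hj (σ l * k * γ) := by
  unfold rootE
  rw [conj_eich h hg]
  apply LinearEquiv.ext
  intro x
  rw [eich_apply, eich_apply, hge, map_smul, hgf, h.smul_right, h.smul_right, h.smul_right,
    h.smul_right, map_mul, map_mul, hσ]
  module

/-- conjugation by an isometry shifting the frame -/
theorem conj_rootE_shift {g : V ≃ₗ[F] V} (hg : g ∈ isom H) (j : ℕ) (hj : j + 2 < m) (γ : F)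
    (hge : g (e j) = e (j + 1)) (hgf : g (f (j + 1)) = f (j + 2)) :
    g * rootE h fr j (by omega) γ * g⁻¹ = rootE h fr (j + 1) hj γ := by
  unfold rootE
  rw [conj_eich h hg]
  apply eich_congr
  · exact hge
  · rw [map_smul, hgf]
  · rfl

end rootE

end Cfsg.Agent.Lib.Helper1.SUT
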