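import Mathlib
import Cfsg.Prelude
import Cfsg.Agent.Lib.Helper2.SUTCE1

set_option autoImplicit false

/-!
# S2412: CORE-EVEN, part 2: diagonal automorphisms; the torus `t` and its conjugate `w t w⁻¹`
-/

namespace Cfsg.Agent.Lib.Helper1.SUT

open Module Cfsg.Agent.Lib.Helper2 Cfsg.Agent.Lib.Helper2.IsomDecomp Cfsg.Agent.Lib.Helper2.UT
  Cfsg.Agent.Lib.Helper5.PSLCoset Cfsg.Agent.Lib.Helper1.SUR

variable {F : Type*} [Field F] {σ : F ≃+* F} {V : Type*} [AddCommGroup V] [Module F V]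
  {H : V → V → F}

/-- diagonal with respect to the frame -/
def IsDiag (e f : ℕ → V) (m : ℕ) (g : V ≃ₗ[F] V) : Prop :=
  (∀ i, i < m → ∃ c : F, g (e i) = c • e i) ∧ (∀ i, i < m → ∃ c : F, g (f i) = c • f i)

theorem diag_comm {m : ℕ} {e f : ℕ → V} (fr : Frame0 H m e f) {g g' : V ≃ₗ[F] V}
    (hg : IsDiag e f m g) (hg' : IsDiag e f m g') : g * g' = g' * g := by
  apply frame0_ext fr
  · intro i hi
    obtain ⟨c, hc⟩ := hg.1 i hi
    obtain ⟨c', hc'⟩ := hg'.1 i hi
    rw [LinearEquiv.mul_apply, LinearEquiv.mul_apply, hc', hc, map_smul, map_smul, hc, hc',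
      smul_comm]
  · intro i hi
    obtain ⟨c, hc⟩ := hg.2 i hi
    obtain ⟨c', hc'⟩ := hg'.2 i hi
    rw [LinearEquiv.mul_apply, LinearEquiv.mul_apply, hc', hc, map_smul, map_smul, hc, hc',
      smul_comm]

section torus

variable {m : ℕ} {e f : ℕ → V} (fr : Frame0 H m e f) (hm : 2 ≤ m) (w t : V ≃ₗ[F] V)
  {a b θ : F}

include fr hm in
/-- the torus element is diagonal -/
theorem isDiag_t
    (te0 : t (e 0) = θ • e 0) (te1 : t (e 1) = θ⁻¹ • e 1) (tf0 : t (f 0) = (σ θ)⁻¹ • f 0)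
    (tf1 : t (f 1) = σ θ • f 1)
    (tfix : ∀ x, H x (e 0) = 0 → H x (e 1) = 0 → H x (f 0) = 0 → H x (f 1) = 0 → t x = x) :
    IsDiag e f m t := by
  constructor
  · intro i hi
    rcases Nat.lt_or_ge i 2 with h2 | h2
    · interval_cases i
      · exact ⟨_, te0⟩
      · exact ⟨_, te1⟩
    · refine ⟨1, ?_⟩
      rw [one_smul]
      apply tfix
      · exact fr.ee i 0 hi (by omega)
      · exact fr.ee i 1 hi (by omega)
      · rw [fr.ef i 0 hi (by omega), if_neg (by omega)]
      · rw [fr.ef i 1 hi (by omega), if_neg (by omega)]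
  · intro i hi
    rcases Nat.lt_or_ge i 2 with h2 | h2
    · interval_cases i
      · exact ⟨_, tf0⟩
      · exact ⟨_, tf1⟩
    · refine ⟨1, ?_⟩
      rw [one_smul]
      apply tfix
      · rw [fr.fe i 0 hi (by omega), if_neg (by omega)]
      · rw [fr.fe i 1 hi (by omega), if_neg (by omega)]
      · exact fr.ff i 0 hi (by omega)
      · exact fr.ff i 1 hi (by omega)

include hm in
/-- the conjugate of a diagonal element by the Coxeter element is diagonal -/
theorem isDiag_conj (ha : a ≠ 0) (hb : b ≠ 0) (hd : IsDiag e f m t)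
    (we : ∀ i, i + 1 < m → w (e (i + 1)) = e i) (wf : ∀ i, i + 1 < m → w (f (i + 1)) = f i)
    (we0 : w (e 0) = a • f (m - 1)) (wf0 : w (f 0) = b • e (m - 1)) :
    IsDiag e f m (w * t * w⁻¹) := by
  constructor
  · intro i hi
    rcases Nat.lt_or_ge (i + 1) m with h1 | h1
    · obtain ⟨c, hc⟩ := hd.1 (i + 1) h1
      refine ⟨c, ?_⟩
      rw [LinearEquiv.mul_apply, LinearEquiv.mul_apply, inv_apply_eq_of_apply_eq (we i h1), hc,
        map_smul, we i h1]
    · have hi' : i = m - 1 := by omega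
      obtain ⟨c, hc⟩ := hd.2 0 (by omega)
      refine ⟨c, ?_⟩
      have h2 : w (b⁻¹ • f 0) = e i := by
        rw [map_smul, wf0, smul_smul, inv_mul_cancel₀ hb, one_smul, hi']
      rw [LinearEquiv.mul_apply, LinearEquiv.mul_apply, inv_apply_eq_of_apply_eq h2, map_smul, hc,
        map_smul, map_smul, wf0, smul_smul, smul_smul, hi']
      congr 1
      field_simp
  · intro i hi
    rcases Nat.lt_or_ge (i + 1) m with h1 | h1
    · obtain ⟨c, hc⟩ := hd.2 (i + 1) h1
      refine ⟨c, ?_⟩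
      rw [LinearEquiv.mul_apply, LinearEquiv.mul_apply, inv_apply_eq_of_apply_eq (wf i h1), hc,
        map_smul, wf i h1]
    · have hi' : i = m - 1 := by omega
      obtain ⟨c, hc⟩ := hd.1 0 (by omega)
      refine ⟨c, ?_⟩
      have h2 : w (a⁻¹ • e 0) = f i := by
        rw [map_smul, we0, smul_smul, inv_mul_cancel₀ ha, one_smul, hi']
      rw [LinearEquiv.mul_apply, LinearEquiv.mul_apply, inv_apply_eq_of_apply_eq h2, map_smul, hc,
        map_smul, map_smul, we0, smul_smul, smul_smul, hi']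
      congr 1
      field_simp

include hm in
/-- the value of `w t w⁻¹` at `e 0` -/
theorem conj_e_zero (te1 : t (e 1) = θ⁻¹ • e 1) (we : ∀ i, i + 1 < m → w (e (i + 1)) = e i) :
    (w * t * w⁻¹) (e 0) = θ⁻¹ • e 0 := by
  rw [LinearEquiv.mul_apply, LinearEquiv.mul_apply, inv_apply_eq_of_apply_eq (we 0 (by omega)),
    te1, map_smul, we 0 (by omega)]

include fr hm in
/-- the value of `w t w⁻¹` at `f 1` -/
theorem conj_f_one (ha : a ≠ 0) (te0 : t (e 0) = θ • e 0)
    (tfix : ∀ x, H x (e 0) = 0 → H x (e 1) = 0 → H x (f 0) = 0 → H x (f 1) = 0 → t x = x)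
    (wf : ∀ i, i + 1 < m → w (f (i + 1)) = f i) (we0 : w (e 0) = a • f (m - 1)) :
    (w * t * w⁻¹) (f 1) = (if m = 2 then θ else 1) • f 1 := by
  by_cases h2 : m = 2
  · rw [if_pos h2]
    have h3 : w (a⁻¹ • e 0) = f 1 := by
      rw [map_smul, we0, smul_smul, inv_mul_cancel₀ ha, one_smul, h2]
    rw [LinearEquiv.mul_apply, LinearEquiv.mul_apply, inv_apply_eq_of_apply_eq h3, map_smul, te0,
      map_smul, map_smul, we0, smul_smul, smul_smul, h2]
    congr 1
    field_simp
  · rw [if_neg h2, one_smul]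
    have h3 : 2 < m := by omega
    have h4 : t (f 2) = f 2 := by
      apply tfix
      · rw [fr.fe 2 0 h3 (by omega), if_neg (by omega)]
      · rw [fr.fe 2 1 h3 (by omega), if_neg (by omega)]
      · exact fr.ff 2 0 h3 (by omega)
      · exact fr.ff 2 1 h3 (by omega)
    rw [LinearEquiv.mul_apply, LinearEquiv.mul_apply, inv_apply_eq_of_apply_eq (wf 1 (by omega)),
      h4, wf 1 (by omega)]

end torus

end Cfsg.Agent.Lib.Helper1.SUT
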