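import Mathlib
import Cfsg.Prelude
import Cfsg.Agent.Lib.Helper2.SUTCE2

set_option autoImplicit false

/-!
# S2412: CORE-EVEN, part 3: the generation argument
-/

namespace Cfsg.Agent.Lib.Helper1.SUT

open Module Cfsg.Agent.Lib.Helper2 Cfsg.Agent.Lib.Helper2.IsomDecomp Cfsg.Agent.Lib.Helper2.UT
  Cfsg.Agent.Lib.Helper5.PSLCoset Cfsg.Agent.Lib.Helper1.SUR

variable {F : Type*} [Field F] {σ : F ≃+* F} {V : Type*} [AddCommGroup V] [Module F V]
  {H : V → V → F}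

/-- a generator of the multiplicative group is moved by `σ` -/
theorem ce_sigma_gen_ne (hσ : orderOf σ = 2) {θ : F}
    (hθ : ∀ x : F, x ≠ 0 → ∃ k : ℕ, x = θ ^ k) : σ θ ≠ θ := by
  intro h
  have h1 : σ = 1 := by
    apply RingEquiv.ext
    intro x
    by_cases hx : x = 0
    · rw [hx, map_zero]
      rfl
    · obtain ⟨k, hk⟩ := hθ x hx
      rw [hk, map_pow, h]
      rfl
  rw [h1, orderOf_one] at hσ
  omega

theorem ce_sq_ne_one (hσ : orderOf σ = 2) {θ : F}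
    (hθ : ∀ x : F, x ≠ 0 → ∃ k : ℕ, x = θ ^ k) : σ θ * σ θ ≠ 1 := by
  intro h
  have hσ2 := sigma_sigma_of_order hσ
  have h1 : θ * θ = 1 := by
    have := congrArg σ h
    rwa [map_mul, hσ2, map_one] at this
  have h2 : (θ - 1) * (θ + 1) = 0 := by linear_combination h1
  apply ce_sigma_gen_ne hσ hθ
  rcases mul_eq_zero.1 h2 with h3 | h3
  · rw [sub_eq_zero.1 h3, map_one]
  · rw [eq_neg_of_add_eq_zero_left h3, map_neg, map_one]

/-- the root group at `e 0` inside a subgroup -/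
def rootGamma (h : IsHerm σ H) {m : ℕ} {e f : ℕ → V} (fr : Frame0 H m e f) (hm : 2 ≤ m)
    (K : Subgroup (V ≃ₗ[F] V)) : AddSubgroup F where
  carrier := {γ | rootE h fr 0 (by omega) γ ∈ K}
  zero_mem' := by
    show rootE h fr 0 (by omega) 0 ∈ K
    rw [rootE_zero]
    exact K.one_mem
  add_mem' := by
    intro γ γ' hγ hγ'
    show rootE h fr 0 (by omega) (γ + γ') ∈ K
    rw [← rootE_mul]
    exact K.mul_mem hγ hγ'
  neg_mem' := by
    intro γ hγ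
    show rootE h fr 0 (by omega) (-γ) ∈ K
    rw [← rootE_inv]
    exact K.inv_mem hγ

theorem mem_rootGamma (h : IsHerm σ H) {m : ℕ} {e f : ℕ → V} (fr : Frame0 H m e f) (hm : 2 ≤ m)
    (K : Subgroup (V ≃ₗ[F] V)) (γ : F) :
    γ ∈ rootGamma h fr hm K ↔ rootE h fr 0 (by omega) γ ∈ K := Iff.rfl

/-- Step 1 and 2: the subgroup contains the whole root group at `e 0` -/
theorem ce_root_group (hσ : orderOf σ = 2) (h : IsHerm σ H) {m : ℕ} {e f : ℕ → V}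
    (fr : Frame0 H m e f) (hm : 2 ≤ m) (w t : V ≃ₗ[F] V) (hw : w ∈ isom H) (ht : t ∈ isom H)
    {a b θ : F} (ha : a ≠ 0) (hb : b ≠ 0) (hθ : ∀ x : F, x ≠ 0 → ∃ k : ℕ, x = θ ^ k)
    (hθ0 : θ ≠ 0)
    (hgen : ∀ Γ : AddSubgroup F, ∀ γ₀ ∈ Γ, γ₀ ≠ 0 → (∀ γ ∈ Γ, (σ θ) ^ 2 * γ ∈ Γ) → Γ = ⊤)
    (we : ∀ i, i + 1 < m → w (e (i + 1)) = e i) (wf : ∀ i, i + 1 < m → w (f (i + 1)) = f i)
    (we0 : w (e 0) = a • f (m - 1)) (wf0 : w (f 0) = b • e (m - 1))
    (te0 : t (e 0) = θ • e 0) (te1 : t (e 1) = θ⁻¹ • e 1) (tf0 : t (f 0) = (σ θ)⁻¹ • f 0)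
    (tf1 : t (f 1) = σ θ • f 1)
    (tfix : ∀ x, H x (e 0) = 0 → H x (e 1) = 0 → H x (f 0) = 0 → H x (f 1) = 0 → t x = x)
    (K : Subgroup (V ≃ₗ[F] V)) (htK : t ∈ K) (hyK : rootE h fr 0 (by omega) 1 * w ∈ K) (γ : F) :
    rootE h fr 0 (by omega) γ ∈ K := by
  have hσ2 := sigma_sigma_of_order hσ
  have h01 : 0 + 1 < m := by omega
  set u := rootE h fr 0 h01 1 with hu
  set s := w * t * w⁻¹ with hs
  have hsi : s ∈ isom H := (isom H).mul_mem ((isom H).mul_mem hw ht) ((isom H).inv_mem hw)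
  have hdt : IsDiag e f m t := isDiag_t fr hm t te0 te1 tf0 tf1 tfix
  have hds : IsDiag e f m s := isDiag_conj hm w t ha hb hdt we wf we0 wf0
  have hts : t * s = s * t := diag_comm fr hdt hds
  have hse0 : s (e 0) = θ⁻¹ • e 0 := conj_e_zero hm w t te1 we
  set κ : F := if m = 2 then θ else 1 with hκ
  have hsf1 : s (f (0 + 1)) = κ • f (0 + 1) := conj_f_one fr hm w t ha te0 tfix wf we0
  have h1 : (u * w) * t * (u * w)⁻¹ = u * (s * u⁻¹ * s⁻¹) * s := by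
    rw [hs]
    group
  have h2 : s * u⁻¹ * s⁻¹ = rootE h fr 0 h01 (σ θ⁻¹ * κ * (-1)) := by
    rw [hu, rootE_inv, conj_rootE_diag h fr hsi hσ2 0 h01 (-1) θ⁻¹ κ hse0 hsf1]
  set β : F := 1 + σ θ⁻¹ * κ * (-1) with hβ
  have h3 : (u * w) * t * (u * w)⁻¹ = rootE h fr 0 h01 β * s := by
    rw [h1, h2, hu, rootE_mul]
  have h4 : rootE h fr 0 h01 β * s ∈ K := by
    rw [← h3]
    exact K.mul_mem (K.mul_mem hyK htK) (K.inv_mem hyK)
  have h5 : t * s * t⁻¹ = s := by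
    rw [hts]
    group
  have h6 : t * (rootE h fr 0 h01 β * s) * t⁻¹ * (rootE h fr 0 h01 β * s)⁻¹ =
      (t * rootE h fr 0 h01 β * t⁻¹) * (rootE h fr 0 h01 β)⁻¹ := by
    have : t * (rootE h fr 0 h01 β * s) * t⁻¹ * (rootE h fr 0 h01 β * s)⁻¹ =
        (t * rootE h fr 0 h01 β * t⁻¹) * (t * s * t⁻¹) * s⁻¹ * (rootE h fr 0 h01 β)⁻¹ := by
      group
    rw [this, h5]
    group
  have htc : ∀ γ' : F, t * rootE h fr 0 h01 γ' * t⁻¹ = rootE h fr 0 h01 (σ θ * σ θ * γ') :=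
    fun γ' => conj_rootE_diag h fr ht hσ2 0 h01 γ' θ (σ θ) te0 tf1
  have h7 : rootE h fr 0 h01 (σ θ * σ θ * β + -β) ∈ K := by
    rw [← rootE_mul, ← rootE_inv, ← htc, ← h6]
    exact K.mul_mem (K.mul_mem (K.mul_mem htK h4) (K.inv_mem htK)) (K.inv_mem h4)
  -- the parameter is not zero
  have hσθ0 : σ θ ≠ 0 := fun h0 => hθ0 (by
    have := congrArg σ h0
    rwa [hσ2, map_zero] at this)
  have hβ0 : β ≠ 0 := by
    intro h0
    have h8 : κ = σ θ := by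
      rw [hβ, map_inv₀] at h0
      field_simp at h0
      linear_combination -h0
    by_cases h2m : m = 2
    · rw [hκ, if_pos h2m] at h8
      exact ce_sigma_gen_ne hσ hθ h8.symm
    · rw [hκ, if_neg h2m] at h8
      apply ce_sigma_gen_ne hσ hθ
      have h9 : θ = 1 := by
        have := congrArg σ h8
        rw [hσ2, map_one] at this
        exact this.symm
      rw [h9, map_one]
  have hγ0 : σ θ * σ θ * β + -β ≠ 0 := by
    have h8 : σ θ * σ θ * β + -β = (σ θ * σ θ - 1) * β := by ring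
    rw [h8]
    exact mul_ne_zero (sub_ne_zero.2 (ce_sq_ne_one hσ hθ)) hβ0
  have htop := hgen (rootGamma h fr hm K) _ h7 hγ0 (by
    intro γ' hγ'
    show rootE h fr 0 h01 ((σ θ) ^ 2 * γ') ∈ K
    rw [pow_two, ← htc]
    exact K.mul_mem (K.mul_mem htK hγ') (K.inv_mem htK))
  have : γ ∈ rootGamma h fr hm K := by
    rw [htop]
    trivial
  exact this

end Cfsg.Agent.Lib.Helper1.SUT
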