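import Mathlib
import Cfsg.Prelude
import Cfsg.Agent.Lib.Helper2.SUTCE3

set_option autoImplicit false

/-!
# S2412: CORE-EVEN, part 4: the trace on `Q_{e0}` and the final statement
-/

namespace Cfsg.Agent.Lib.Helper1.SUT

open Module Cfsg.Agent.Lib.Helper2 Cfsg.Agent.Lib.Helper2.IsomDecomp Cfsg.Agent.Lib.Helper2.UT
  Cfsg.Agent.Lib.Helper5.PSLCoset Cfsg.Agent.Lib.Helper1.SUR

variable {F : Type*} [Field F] {σ : F ≃+* F} {V : Type*} [AddCommGroup V] [Module F V]
  {H : V → V → F}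

section trace

variable (h : IsHerm σ H) {m : ℕ} {e f : ℕ → V} (fr : Frame0 H m e f) (hm : 2 ≤ m)
  (w : V ≃ₗ[F] V) (K : Subgroup (V ≃ₗ[F] V))

include hm in
/-- all the root elements `E_{e_j}(γ f_{j+1}, 0)` lie in `K` -/
theorem ce_rootE_mem (hw : w ∈ isom H) (hwK : w ∈ K)
    (we : ∀ i, i + 1 < m → w (e (i + 1)) = e i) (wf : ∀ i, i + 1 < m → w (f (i + 1)) = f i)
    (h0 : ∀ γ : F, rootE h fr 0 (by omega) γ ∈ K) :
    ∀ (j : ℕ) (hj : j + 1 < m) (γ : F), rootE h fr j hj γ ∈ K := by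
  intro j
  induction j with
  | zero => intro hj γ; exact h0 γ
  | succ j ih =>
    intro hj γ
    have h1 : w⁻¹ (e j) = e (j + 1) := inv_apply_eq_of_apply_eq (we j (by omega))
    have h2 : w⁻¹ (f (j + 1)) = f (j + 2) := inv_apply_eq_of_apply_eq (wf (j + 1) (by omega))
    rw [← conj_rootE_shift h fr ((isom H).inv_mem hw) j hj γ h1 h2]
    exact K.mul_mem (K.mul_mem (K.inv_mem hwK) (ih (by omega) γ)) (K.inv_mem (K.inv_mem hwK))

theorem rootE_fix_e_zero (j : ℕ) (hj : j + 1 < m) (γ : F) : rootE h fr j hj γ (e 0) = e 0 := by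
  rw [rootE_apply, fr.ee 0 j (by omega) (by omega), fr.ef 0 (j + 1) (by omega) hj,
    if_neg (by omega)]
  simp

/-- the multiples of `f j`, `1 ≤ j`, lie in the trace -/
theorem ce_f_mem (hroot : ∀ (j : ℕ) (hj : j + 1 < m) (γ : F), rootE h fr j hj γ ∈ K) :
    ∀ j, 1 ≤ j → j < m → ∀ γ : F,
      γ • f j ∈ aSet h K (e 0) (fr.ee 0 0 (by omega) (by omega)) := by
  have he0 : H (e 0) (e 0) = 0 := fr.ee 0 0 (by omega) (by omega)
  intro j hj1
  induction j, hj1 using Nat.le_induction with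
  | base =>
    intro h1m γ
    have hz : H (γ • f 1) (e 0) = 0 := by
      rw [h.smul_left, fr.fe 1 0 h1m (by omega), if_neg (by omega), mul_zero]
    refine ⟨hz, 0, ?_, hroot 0 h1m γ⟩
    rw [map_zero, h.smul_left, h.smul_right, fr.ff 1 1 h1m h1m]
    ring
  | succ j hj1 ih =>
    intro hjm γ
    have h1 := ih (by omega) 1
    rw [one_smul] at h1
    have h2 := aSet_map h K (e 0) he0 (hroot j hjm γ) (rootE_mem_isom h fr j hjm γ)
      (rootE_fix_e_zero h fr j hjm γ) h1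
    have h3 := aSet_sub h K (e 0) he0 h2 h1
    rw [rootE_apply, fr.fe j j (by omega) (by omega), if_pos rfl, fr.ff j (j + 1) (by omega) hjm] at h3
    have h4 : f j + (γ * 1) • f (j + 1) - (σ γ * 0) • e j - f j = γ • f (j + 1) := by
      rw [mul_one, mul_zero, zero_smul]
      abel
    rwa [h4] at h3

include hm in
/-- the multiples of `e (m - 1)` lie in the trace -/
theorem ce_e_last_mem (hσ : ∀ a : F, σ (σ a) = a) {a : F} (ha : a ≠ 0) (hw : w ∈ isom H)
    (hwK : w ∈ K)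
    (we : ∀ i, i + 1 < m → w (e (i + 1)) = e i) (we0 : w (e 0) = a • f (m - 1))
    (hroot : ∀ (j : ℕ) (hj : j + 1 < m) (γ : F), rootE h fr j hj γ ∈ K) (δ : F) :
    δ • e (m - 1) ∈ aSet h K (e 0) (fr.ee 0 0 (by omega) (by omega)) := by
  have he0 : H (e 0) (e 0) = 0 := fr.ee 0 0 (by omega) (by omega)
  have hm2 : m - 2 + 1 < m := by omega
  have hm1 : m - 2 + 1 = m - 1 := by omega
  set γ : F := σ (-δ) * a with hγ
  have h1 : w⁻¹ (e (m - 2)) = e (m - 1) := by
    have := inv_apply_eq_of_apply_eq (we (m - 2) hm2)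
    rwa [hm1] at this
  have h2 : w (a⁻¹ • e 0) = f (m - 1) := by
    rw [map_smul, we0, smul_smul, inv_mul_cancel₀ ha, one_smul]
  have h3 : w⁻¹ (f (m - 1)) = a⁻¹ • e 0 := inv_apply_eq_of_apply_eq h2
  have h4 : w⁻¹ * rootE h fr (m - 2) hm2 γ * w⁻¹⁻¹ ∈ K :=
    K.mul_mem (K.mul_mem (K.inv_mem hwK) (hroot _ hm2 γ)) (K.inv_mem (K.inv_mem hwK))
  have hz : H (δ • e (m - 1)) (e 0) = 0 := by
    rw [h.smul_left, fr.ee (m - 1) 0 (by omega) (by omega), mul_zero]
  refine ⟨hz, 0, ?_, ?_⟩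
  · rw [map_zero, h.smul_left, h.smul_right, fr.ee (m - 1) (m - 1) (by omega) (by omega)]
    ring
  · have h5 : w⁻¹ * rootE h fr (m - 2) hm2 γ * w⁻¹⁻¹ =
        eich h (e 0) (δ • e (m - 1)) 0 he0 hz := by
      unfold rootE
      rw [conj_eich h ((isom H).inv_mem hw)]
      apply LinearEquiv.ext
      intro x
      rw [eich_apply, eich_apply, h1, map_smul, hm1, h3, h.smul_right, h.smul_right, h.smul_right,
        hγ, map_mul, hσ, map_inv₀]
      have ha' : σ a ≠ 0 := fun h0 => ha (by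
        have := congrArg σ h0
        rwa [hσ, map_zero] at this)
      simp only [smul_smul, zero_mul, zero_smul, add_zero]
      have e1 : σ (-δ) * a * a⁻¹ = σ (-δ) := by field_simp
      have e2 : -δ * σ a * (σ a)⁻¹ = -δ := by field_simp
      rw [mul_comm (H x (e (m - 1))) (σ (-δ) * a * a⁻¹), e1]
      rw [← mul_assoc, e2, map_neg]
      module
    rw [← h5]
    exact h4

/-- the multiples of `e i`, `1 ≤ i`, lie in the trace -/
theorem ce_e_mem (hσ : ∀ a : F, σ (σ a) = a)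
    (hlast : ∀ δ : F, δ • e (m - 1) ∈ aSet h K (e 0) (fr.ee 0 0 (by omega) (by omega)))
    (hroot : ∀ (j : ℕ) (hj : j + 1 < m) (γ : F), rootE h fr j hj γ ∈ K) :
    ∀ k i, i + k + 1 = m → 1 ≤ i → ∀ γ : F,
      γ • e i ∈ aSet h K (e 0) (fr.ee 0 0 (by omega) (by omega)) := by
  have he0 : H (e 0) (e 0) = 0 := fr.ee 0 0 (by omega) (by omega)
  intro k
  induction k with
  | zero =>
    intro i hi _ γ
    have : i = m - 1 := by omega
    rw [this]
    exact hlast γ
  | succ k ih =>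
    intro i hi hi1 γ
    have him : i + 1 < m := by omega
    have h1 := ih (i + 1) (by omega) (by omega) 1
    rw [one_smul] at h1
    have h2 := aSet_map h K (e 0) he0 (hroot i him (σ γ)) (rootE_mem_isom h fr i him (σ γ))
      (rootE_fix_e_zero h fr i him (σ γ)) h1
    have h3 := aSet_sub h K (e 0) he0 h1 h2
    rw [rootE_apply, fr.ee (i + 1) i him (by omega), fr.ef (i + 1) (i + 1) him him, if_pos rfl,
      hσ] at h3
    have h4 : e (i + 1) - (e (i + 1) + (σ γ * 0) • f (i + 1) - (γ * 1) • e i) = γ • e i := by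
      rw [mul_one, mul_zero, zero_smul]
      abel
    rwa [h4] at h3

end trace

end Cfsg.Agent.Lib.Helper1.SUT
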