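import Mathlib
import Cfsg.Prelude
import Cfsg.Agent.Lib.Helper2.SUTCE4

set_option autoImplicit false

/-!
# S2412: CORE-EVEN, the statement
-/

namespace Cfsg.Agent.Lib.Helper1.SUT

open Module Cfsg.Agent.Lib.Helper2 Cfsg.Agent.Lib.Helper2.IsomDecomp Cfsg.Agent.Lib.Helper2.UT
  Cfsg.Agent.Lib.Helper5.PSLCoset Cfsg.Agent.Lib.Helper1.SUR

variable {F : Type*} [Field F] {σ : F ≃+* F} {V : Type*} [AddCommGroup V] [Module F V]
  {H : V → V → F}

/-- powers of the Coxeter element on `f (m - 1)` -/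
theorem ce_pow_f {m : ℕ} {f : ℕ → V} (w : V ≃ₗ[F] V)
    (wf : ∀ i, i + 1 < m → w (f (i + 1)) = f i) :
    ∀ j, j < m → (w ^ j) (f (m - 1)) = f (m - 1 - j) := by
  intro j
  induction j with
  | zero => intro _; rfl
  | succ j ih =>
    intro hj
    rw [pow_succ', LinearEquiv.mul_apply, ih (by omega)]
    have h1 : m - 1 - j = (m - 1 - (j + 1)) + 1 := by omega
    rw [h1, wf _ (by omega)]

theorem core_even [Finite F] (hσ : orderOf σ = 2) (h : IsHerm σ H)
    (hnd : ∀ v, (∀ w, H v w = 0) → v = 0) {m : ℕ} {e f : ℕ → V}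
    (fr : Frame0 H m e f) (hm : 2 ≤ m) (w t : V ≃ₗ[F] V) (hw : w ∈ isom H) (ht : t ∈ isom H)
    {a b θ : F} (ha : a ≠ 0) (hb : b ≠ 0) (hθ : ∀ x : F, x ≠ 0 → ∃ k : ℕ, x = θ ^ k)
    (hθ0 : θ ≠ 0)
    (hgen : ∀ Γ : AddSubgroup F, ∀ γ₀ ∈ Γ, γ₀ ≠ 0 → (∀ γ ∈ Γ, (σ θ) ^ 2 * γ ∈ Γ) → Γ = ⊤)
    (we : ∀ i, i + 1 < m → w (e (i + 1)) = e i) (wf : ∀ i, i + 1 < m → w (f (i + 1)) = f i)
    (we0 : w (e 0) = a • f (m - 1)) (wf0 : w (f 0) = b • e (m - 1))
    (te0 : t (e 0) = θ • e 0) (te1 : t (e 1) = θ⁻¹ • e 1) (tf0 : t (f 0) = (σ θ)⁻¹ • f 0)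
    (tf1 : t (f 1) = σ θ • f 1)
    (tfix : ∀ x, H x (e 0) = 0 → H x (e 1) = 0 → H x (f 0) = 0 → H x (f 1) = 0 → t x = x) :
    T h ≤ Subgroup.closure {t, eich h (e 0) (f 1) 0 (fr.ee 0 0 (by omega) (by omega))
      (by rw [fr.fe 1 0 (by omega) (by omega), if_neg (by omega)]) * w} := by
  have hσ2 := sigma_sigma_of_order hσ
  have he0 : H (e 0) (e 0) = 0 := fr.ee 0 0 (by omega) (by omega)
  have h01 : 0 + 1 < m := by omega
  have hu1 : eich h (e 0) (f 1) 0 (fr.ee 0 0 (by omega) (by omega))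
      (by rw [fr.fe 1 0 (by omega) (by omega), if_neg (by omega)]) = rootE h fr 0 h01 1 := by
    unfold rootE
    apply eich_congr
    · rfl
    · rw [one_smul]
    · rfl
  rw [hu1]
  set K := Subgroup.closure {t, rootE h fr 0 h01 1 * w} with hK
  have htK : t ∈ K := Subgroup.subset_closure (by simp)
  have hyK : rootE h fr 0 h01 1 * w ∈ K := Subgroup.subset_closure (by simp)
  -- the root group at `e 0`
  have hroot0 : ∀ γ : F, rootE h fr 0 h01 γ ∈ K :=
    ce_root_group hσ h fr hm w t hw ht ha hb hθ hθ0 hgen we wf we0 wf0 te0 te1 tf0 tf1 tfix K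
      htK hyK
  have hwK : w ∈ K := by
    have h1 : (rootE h fr 0 h01 1)⁻¹ * (rootE h fr 0 h01 1 * w) ∈ K :=
      K.mul_mem (K.inv_mem (hroot0 1)) hyK
    rwa [inv_mul_cancel_left] at h1
  have hroot := ce_rootE_mem h fr hm w K hw hwK we wf hroot0
  have hF := ce_f_mem h fr hm K hroot
  have hlast := ce_e_last_mem h fr hm w K hσ2 ha hw hwK we we0 hroot
  have hE := ce_e_mem h fr hm K hσ2 hlast hroot
  -- the trace is the whole orthogonal of `e 0`
  have hA : ∀ z, H z (e 0) = 0 → z ∈ aSet h K (e 0) he0 := by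
    intro z hz
    have key : ∑ i ∈ Finset.range m, (H z (f i) • e i + H z (e i) • f i) ∈
        aSet h K (e 0) he0 := by
      apply aSet_sum
      intro i hi
      have him : i < m := Finset.mem_range.1 hi
      rcases Nat.eq_zero_or_pos i with rfl | hi0
      · rw [hz, zero_smul, add_zero]
        exact aSet_smul_e0 h K (e 0) he0 hσ2 _
      · exact aSet_add h K (e 0) he0 (hE (m - 1 - i) i (by omega) hi0 _) (hF i hi0 him _)
    rwa [← fr.expand z] at key
  -- an element moving `e 0` off its orthogonal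
  have hge : H ((w ^ m) (e 0)) (e 0) ≠ 0 := by
    have h1 : (w ^ m) (e 0) = a • f 0 := by
      have h2 : w ^ m = w ^ (m - 1) * w := by
        rw [← pow_succ]
        congr 1
        omega
      rw [h2, LinearEquiv.mul_apply, we0, map_smul, ce_pow_f w wf (m - 1) (by omega),
        Nat.sub_self]
    rw [h1, h.smul_left, fr.fe 0 0 (by omega) (by omega), if_pos rfl, mul_one]
    exact ha
  exact core_finish hσ h hnd K (e 0) (e 1) (f 1) he0 (fr.ee 1 0 (by omega) (by omega))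
    (by rw [fr.fe 1 0 (by omega) (by omega), if_neg (by omega)])
    (by rw [fr.fe 1 1 (by omega) (by omega), if_pos rfl]) hA (w ^ m) (K.pow_mem hwK m)
    ((isom H).pow_mem hw m) hge

end Cfsg.Agent.Lib.Helper1.SUT
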