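import Cfsg.Agent.Lib.Helper2.Zfp39
import Cfsg.Agent.Lib.Lead.Fpf4

set_option autoImplicit false
set_option linter.style.haveILetI false

/-!
# Perfect groups of fixed-point-free automorphisms
-/

namespace Cfsg.Agent.Lib.Helper2.Zfp

universe u

variable {K : Type u} [Group K]

/-- the `ℓ`-torsion of the centre -/
def torsionCenter (K : Type u) [Group K] (ℓ : ℕ) : Subgroup K where
  carrier := {k | k ∈ Subgroup.center K ∧ k ^ ℓ = 1}
  one_mem' := ⟨Subgroup.one_mem _, one_pow _⟩
  mul_mem' := by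
    rintro a b ⟨ha, ha'⟩ ⟨hb, hb'⟩
    refine ⟨mul_mem ha hb, ?_⟩
    have hc : Commute a b := (Subgroup.mem_center_iff.mp ha b).symm
    rw [hc.mul_pow, ha', hb', one_mul]
  inv_mem' := by
    rintro a ⟨ha, ha'⟩
    exact ⟨inv_mem ha, by rw [inv_pow, ha', inv_one]⟩

theorem mem_torsionCenter {ℓ : ℕ} {k : K} :
    k ∈ torsionCenter K ℓ ↔ k ∈ Subgroup.center K ∧ k ^ ℓ = 1 := Iff.rfl

instance torsionCenter.commGroup (ℓ : ℕ) : CommGroup (torsionCenter K ℓ) :=
  { (inferInstance : Group (torsionCenter K ℓ)) with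
    mul_comm := fun a b => Subtype.ext ((Subgroup.mem_center_iff.mp a.2.1 b.1).symm) }

theorem torsionCenter.nsmul_eq_zero (ℓ : ℕ) (x : Additive (torsionCenter K ℓ)) : ℓ • x = 0 := by
  have h1 : (Additive.toMul x) ^ ℓ = 1 := Subtype.ext (by
    rw [Subgroup.coe_pow]; exact (Additive.toMul x).2.2)
  have h2 : ℓ • x = Additive.ofMul ((Additive.toMul x) ^ ℓ) := rfl
  rw [h2, h1]; rfl

noncomputable instance torsionCenter.module (ℓ : ℕ) :
    Module (ZMod ℓ) (Additive (torsionCenter K ℓ)) :=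
  AddCommGroup.zmodModule (torsionCenter.nsmul_eq_zero ℓ)

theorem torsionCenter.map_mem {ℓ : ℕ} (φ : MulAut K) {k : K} (hk : k ∈ torsionCenter K ℓ) :
    φ k ∈ torsionCenter K ℓ := by
  refine ⟨?_, by rw [← map_pow, hk.2, map_one]⟩
  rw [Subgroup.mem_center_iff]
  intro g
  have hg : g = φ (φ.symm g) := (φ.apply_symm_apply g).symm
  rw [hg, ← map_mul, ← map_mul, Subgroup.mem_center_iff.mp hk.1]

/-- the restriction of an automorphism to the torsion of the centre -/
def torsionCenter.res (ℓ : ℕ) (φ : MulAut K) : torsionCenter K ℓ →* torsionCenter K ℓ where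
  toFun v := ⟨φ (v : K), torsionCenter.map_mem φ v.2⟩
  map_one' := Subtype.ext (map_one φ)
  map_mul' a b := Subtype.ext (map_mul φ (a : K) (b : K))

/-- the linear action of the automorphism group on the torsion of the centre -/
noncomputable def torsionCenter.act (ℓ : ℕ) :
    MulAut K →* Module.End (ZMod ℓ) (Additive (torsionCenter K ℓ)) where
  toFun φ := AddMonoidHom.toZModLinearMap ℓ (MonoidHom.toAdditive (torsionCenter.res ℓ φ))
  map_one' := by
    apply LinearMap.ext
    intro v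
    rfl
  map_mul' φ ψ := by
    apply LinearMap.ext
    intro v
    rfl

theorem torsionCenter.act_apply (ℓ : ℕ) (φ : MulAut K) (v : Additive (torsionCenter K ℓ)) :
    ((Additive.toMul (torsionCenter.act ℓ φ v) : torsionCenter K ℓ) : K) =
      φ ((Additive.toMul v : torsionCenter K ℓ) : K) := rfl

theorem mulAut_pow_apply (φ : MulAut K) (n : ℕ) (k : K) : (φ ^ n) k = (φ.toMonoidHom)^[n] k := by
  induction n generalizing k with
  | zero => rfl
  | succ n ih =>
    rw [pow_succ, MulAut.mul_apply, ih, Function.iterate_succ_apply]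
    rfl

variable [Finite K]

set_option maxHeartbeats 800000 in
/-- Zassenhaus: a perfect non-trivial group of fixed-point-free automorphisms of a finite group is
`SL(2,5)` -/
theorem zassenhaus_perfect (G : Subgroup (MulAut K))
    (hfpf : ∀ φ ∈ G, φ ≠ 1 → ∀ k : K, φ k = k → k = 1) (hperf : commutator G = ⊤) (hne : G ≠ ⊥) :
    Nonempty (G ≃* Matrix.SpecialLinearGroup (Fin 2) (ZMod 5)) := by
  haveI hGnt : Nontrivial G := (Subgroup.nontrivial_iff_ne_bot G).mpr hne
  -- an automorphism of prime order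
  have hcard1 : Nat.card G ≠ 1 := by
    intro e
    exact hne (Subgroup.eq_bot_of_card_eq G e)
  set r := (Nat.card G).minFac with hr
  have hrp : r.Prime := Nat.minFac_prime hcard1
  haveI : Fact r.Prime := ⟨hrp⟩
  obtain ⟨φ₀, hφ₀⟩ := exists_prime_orderOf_dvd_card' (G := G) r (Nat.minFac_dvd _)
  have hφ₀1 : (φ₀ : MulAut K) ≠ 1 := by
    intro e
    have : φ₀ = 1 := Subtype.ext e
    rw [this, orderOf_one] at hφ₀
    exact hrp.one_lt.ne hφ₀
  have hφ₀r : (φ₀ : MulAut K) ^ r = 1 := by
    have h1 : φ₀ ^ r = 1 := by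
      have := pow_orderOf_eq_one φ₀
      rwa [hφ₀] at this
    have := congrArg Subtype.val h1
    simpa using this
  have hdata : Cfsg.Agent.Lib.Lead.Fpf.FpfData r (φ₀ : MulAut K).toMonoidHom := by
    refine ⟨?_, ?_⟩
    · intro k hk
      exact hfpf _ φ₀.2 hφ₀1 k hk
    · intro k
      rw [← mulAut_pow_apply, hφ₀r]
      rfl
  have hnil : Group.IsNilpotent K :=
    Cfsg.Agent.Lib.Lead.Fpf.nilpotent_of_fpf hrp (Nat.card K) K _ rfl hdata
  haveI hKnt : Nontrivial K := by
    by_contra hK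
    rw [not_nontrivial_iff_subsingleton] at hK
    apply hφ₀1
    apply MulEquiv.ext
    intro k
    exact Subsingleton.elim _ _
  -- the torsion of the centre
  have hZ : Subgroup.center K ≠ ⊥ := Group.IsNilpotent.center_ne_bot K
  have hZcard : Nat.card (Subgroup.center K) ≠ 1 := by
    intro e
    exact hZ (Subgroup.eq_bot_of_card_eq _ e)
  set ℓ := (Nat.card (Subgroup.center K)).minFac with hℓ
  have hℓp : ℓ.Prime := Nat.minFac_prime hZcard
  haveI : Fact ℓ.Prime := ⟨hℓp⟩
  obtain ⟨z₀, hz₀⟩ := exists_prime_orderOf_dvd_card' (G := Subgroup.center K) ℓ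
    (Nat.minFac_dvd _)
  have hz₀mem : (z₀ : K) ∈ torsionCenter K ℓ := by
    refine ⟨z₀.2, ?_⟩
    have h1 : z₀ ^ ℓ = 1 := by
      have := pow_orderOf_eq_one z₀
      rwa [hz₀] at this
    have := congrArg Subtype.val h1
    simpa using this
  have hz₀1 : (z₀ : K) ≠ 1 := by
    intro e
    have : z₀ = 1 := Subtype.ext e
    rw [this, orderOf_one] at hz₀
    exact hℓp.one_lt.ne hz₀
  haveI : Nontrivial (Additive (torsionCenter K ℓ)) := by
    refine ⟨⟨Additive.ofMul ⟨z₀, hz₀mem⟩, 0, ?_⟩⟩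
    intro e
    apply hz₀1
    have : (⟨z₀, hz₀mem⟩ : torsionCenter K ℓ) = 1 := e
    exact congrArg Subtype.val this
  haveI : Finite (Additive (torsionCenter K ℓ)) :=
    inferInstanceAs (Finite (torsionCenter K ℓ))
  apply main_of_linear ((torsionCenter.act ℓ).comp G.subtype) _ hperf
  intro g hg v hv
  have hg1 : (g : MulAut K) ≠ 1 := fun e => hg (Subtype.ext e)
  have h1 : (g : MulAut K) ((Additive.toMul v : torsionCenter K ℓ) : K) =
      ((Additive.toMul v : torsionCenter K ℓ) : K) := by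
    have := congrArg (fun w : Additive (torsionCenter K ℓ) =>
      ((Additive.toMul w : torsionCenter K ℓ) : K)) hv
    exact this
  have h2 := hfpf _ g.2 hg1 _ h1
  have h3 : (Additive.toMul v : torsionCenter K ℓ) = 1 := Subtype.ext h2
  exact h3

end Cfsg.Agent.Lib.Helper2.Zfp
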