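import Mathlib
import Cfsg.Agent.Lib.Lead.FrobConj3
import Cfsg.Agent.Lib.Helper9.PerfectSolv1
import Cfsg.Agent.S0690

set_option autoImplicit false

/-!
# A nonsolvable Frobenius complement has two noncommuting elements of order 5

Package P5 of the S3999 swarm (helper8's plan): the last term of the derived series of the
complement is a perfect group of fixed-point-free automorphisms of the kernel, hence isomorphic to
`SL(2,5)` (Zassenhaus, S0690), which has two noncommuting elements of order 5.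
-/

namespace Cfsg.Agent.Lib.Helper2.SameOrdP5

open Cfsg.Agent.Lib.Lead

section sl

/-- the upper unitriangular matrix -/
def uMat : Matrix.SpecialLinearGroup (Fin 2) (ZMod 5) :=
  ⟨!![1, 1; 0, 1], by rw [Matrix.det_fin_two_of]; decide⟩

/-- the lower unitriangular matrix -/
def vMat : Matrix.SpecialLinearGroup (Fin 2) (ZMod 5) :=
  ⟨!![1, 0; 1, 1], by rw [Matrix.det_fin_two_of]; decide⟩

theorem uMat_pow : uMat ^ 5 = 1 := by
  apply Subtype.ext
  rw [Matrix.SpecialLinearGroup.coe_pow, Matrix.SpecialLinearGroup.coe_one]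
  show (!![1, 1; 0, 1] : Matrix (Fin 2) (Fin 2) (ZMod 5)) ^ 5 = 1
  decide

theorem vMat_pow : vMat ^ 5 = 1 := by
  apply Subtype.ext
  rw [Matrix.SpecialLinearGroup.coe_pow, Matrix.SpecialLinearGroup.coe_one]
  show (!![1, 0; 1, 1] : Matrix (Fin 2) (Fin 2) (ZMod 5)) ^ 5 = 1
  decide

theorem uMat_ne_one : uMat ≠ 1 := by
  intro h
  have h1 := congrArg (fun M : Matrix.SpecialLinearGroup (Fin 2) (ZMod 5) => (M : Matrix (Fin 2) (Fin 2) (ZMod 5)) 0 1) h
  revert h1
  show ((!![1, 1; 0, 1] : Matrix (Fin 2) (Fin 2) (ZMod 5)) 0 1 = (1 : Matrix (Fin 2) (Fin 2) (ZMod 5)) 0 1) → False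
  decide

theorem vMat_ne_one : vMat ≠ 1 := by
  intro h
  have h1 := congrArg (fun M : Matrix.SpecialLinearGroup (Fin 2) (ZMod 5) => (M : Matrix (Fin 2) (Fin 2) (ZMod 5)) 1 0) h
  revert h1
  show ((!![1, 0; 1, 1] : Matrix (Fin 2) (Fin 2) (ZMod 5)) 1 0 = (1 : Matrix (Fin 2) (Fin 2) (ZMod 5)) 1 0) → False
  decide

theorem uMat_vMat_ne : uMat * vMat ≠ vMat * uMat := by
  intro h
  have h1 := congrArg (fun M : Matrix.SpecialLinearGroup (Fin 2) (ZMod 5) => (M : Matrix (Fin 2) (Fin 2) (ZMod 5)) 0 0) h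
  revert h1
  show (((!![1, 1; 0, 1] * !![1, 0; 1, 1] : Matrix (Fin 2) (Fin 2) (ZMod 5))) 0 0 =
    ((!![1, 0; 1, 1] * !![1, 1; 0, 1] : Matrix (Fin 2) (Fin 2) (ZMod 5))) 0 0) → False
  decide

theorem orderOf_uMat : orderOf uMat = 5 :=
  haveI : Fact (Nat.Prime 5) := ⟨by norm_num⟩
  orderOf_eq_prime uMat_pow uMat_ne_one

theorem orderOf_vMat : orderOf vMat = 5 :=
  haveI : Fact (Nat.Prime 5) := ⟨by norm_num⟩
  orderOf_eq_prime vMat_pow vMat_ne_one

end sl

universe u

variable {X : Type u} [Group X] [Finite X] {H K : Subgroup X}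

/-- **P5**: a nonsolvable Frobenius complement has two noncommuting elements of order 5. -/
theorem exists_noncommuting_order_five (h : FrobData H K) (hns : ¬ Group.IsSolvable H) :
    ∃ u v : X, u ∈ H ∧ v ∈ H ∧ orderOf u = 5 ∧ orderOf v = 5 ∧ u * v ≠ v * u := by
  haveI := h.normal
  have hHK : H ≤ Subgroup.normalizer (K : Set X) := by
    rw [Subgroup.normalizer_eq_top]
    exact le_top
  obtain ⟨n, hn⟩ := Cfsg.Agent.H9Perfect.exists_perfect_core ↥H
  set D : Subgroup ↥H := derivedSeries ↥H n with hD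
  have hDperf : commutator ↥D = ⊤ := Cfsg.Agent.H9Perfect.commutator_core_eq_top n hn
  have hDne : D ≠ ⊥ := by
    intro hbot
    exact hns ((Group.isSolvable_def ↥H).mpr ⟨n, hbot⟩)
  -- the action on the kernel
  let f : ↥D →* MulAut ↥K := (conjAutHom K H hHK).comp D.subtype
  have hfix : ∀ x : ↥D, x ≠ 1 → ∀ k : ↥K, f x k = k → k = 1 := by
    intro x hx k hk
    have h1 : ((x : ↥H) : X) * (k : X) * ((x : ↥H) : X)⁻¹ = (k : X) := by
      have := congrArg Subtype.val hk
      exact this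
    have h2 : ((x : ↥H) : X) * (k : X) = (k : X) * ((x : ↥H) : X) := by
      calc ((x : ↥H) : X) * (k : X) = ((x : ↥H) : X) * (k : X) * ((x : ↥H) : X)⁻¹ * ((x : ↥H) : X) := by
            group
        _ = (k : X) * ((x : ↥H) : X) := by rw [h1]
    have hx1 : ((x : ↥H) : X) ≠ 1 := by
      intro hx1
      apply hx
      apply Subtype.ext
      apply Subtype.ext
      exact hx1
    have := h.fpf (x : ↥H).2 hx1 k.2 h2
    exact Subtype.ext this
  have hKne : ∃ k : ↥K, k ≠ 1 := by
    by_contra hno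
    push Not at hno
    apply h.ne_bot
    rw [Subgroup.eq_bot_iff_forall]
    intro x hx
    exact congrArg Subtype.val (hno ⟨x, hx⟩)
  have hinj : Function.Injective f := by
    rw [injective_iff_map_eq_one]
    intro x hx
    by_contra hx1
    obtain ⟨k, hk⟩ := hKne
    apply hk
    apply hfix x hx1 k
    rw [hx]
    rfl
  -- Zassenhaus
  have hfpf : ∀ φ ∈ f.range, φ ≠ 1 → ∀ k : ↥K, φ k = k → k = 1 := by
    intro φ hφ hφ1 k hk
    obtain ⟨x, rfl⟩ := MonoidHom.mem_range.mp hφ
    have hx1 : x ≠ 1 := by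
      intro hx1
      apply hφ1
      rw [hx1, map_one]
    exact hfix x hx1 k hk
  have hperf : commutator ↥f.range = ⊤ := by
    have h1 := map_derivedSeries_eq (f := f.rangeRestrict) f.rangeRestrict_surjective 1
    rw [derivedSeries_one, derivedSeries_one, hDperf,
      Subgroup.map_top_of_surjective _ f.rangeRestrict_surjective] at h1
    exact h1.symm
  have hne : f.range ≠ ⊥ := by
    intro hbot
    apply hDne
    rw [Subgroup.eq_bot_iff_forall]
    intro x hx
    have h1 : f ⟨x, hx⟩ ∈ f.range := MonoidHom.mem_range.mpr ⟨_, rfl⟩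
    rw [hbot, Subgroup.mem_bot] at h1
    have h2 := hinj (h1.trans (map_one f).symm)
    exact congrArg Subtype.val h2
  obtain ⟨e⟩ := Cfsg.Agent.S0690.result f.range hfpf hperf hne
  let ε : ↥D ≃* Matrix.SpecialLinearGroup (Fin 2) (ZMod 5) := (MonoidHom.ofInjective hinj).trans e
  refine ⟨((ε.symm uMat : ↥D) : ↥H), ((ε.symm vMat : ↥D) : ↥H), (ε.symm uMat : ↥H).2,
    (ε.symm vMat : ↥H).2, ?_, ?_, ?_⟩
  · rw [Subgroup.orderOf_coe, Subgroup.orderOf_coe, MulEquiv.orderOf_eq, orderOf_uMat]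
  · rw [Subgroup.orderOf_coe, Subgroup.orderOf_coe, MulEquiv.orderOf_eq, orderOf_vMat]
  · intro hcomm
    apply uMat_vMat_ne
    have h1 : ε.symm uMat * ε.symm vMat = ε.symm vMat * ε.symm uMat := by
      apply Subtype.ext
      apply Subtype.ext
      exact hcomm
    have h2 := congrArg ε h1
    rw [map_mul, map_mul, MulEquiv.apply_symm_apply, MulEquiv.apply_symm_apply] at h2
    exact h2

end Cfsg.Agent.Lib.Helper2.SameOrdP5
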