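import Mathlib
import Cfsg.Agent.Lib.Lead.SchDefs
import Cfsg.Agent.Lib.Helper1.SchField

/-!
# S4395, Area E, package GODD: the group `K ⋊ ℤ/q^r` (generator acting by `ζ`) carries an `SD`
with `C = ⊥`, `P = K`.
-/

set_option autoImplicit false
universe u

namespace Cfsg.Agent.Lib.Lead.Sch

/-- the homomorphism `ℤ/n → M`, `k ↦ x ^ k`, for `x ^ n = 1`. -/
def goddPowHom {M : Type*} [Monoid M] (n : ℕ) [NeZero n] (x : M) (hx : x ^ n = 1) :
    Multiplicative (ZMod n) →* M where
  toFun k := x ^ (Multiplicative.toAdd k).val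
  map_one' := by simp
  map_mul' a b := by
    rw [toAdd_mul, ZMod.val_add, ← pow_eq_pow_mod _ hx, pow_add]

/-- multiplication by a unit as an automorphism of `Multiplicative K`. -/
def goddUnitAut (K : Type u) [Field K] : Kˣ →* MulAut (Multiplicative K) where
  toFun c :=
    { toFun := fun x => Multiplicative.ofAdd ((c : K) * Multiplicative.toAdd x)
      invFun := fun x => Multiplicative.ofAdd (((c⁻¹ : Kˣ) : K) * Multiplicative.toAdd x)
      left_inv := fun x => by simp
      right_inv := fun x => by simp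
      map_mul' := fun x y => by simp [mul_add] }
  map_one' := by ext x; simp
  map_mul' c d := by ext x; simp [mul_assoc]

theorem goddUnitAut_apply (K : Type u) [Field K] (c : Kˣ) (x : Multiplicative K) :
    goddUnitAut K c x = Multiplicative.ofAdd ((c : K) * Multiplicative.toAdd x) := rfl

end Cfsg.Agent.Lib.Lead.Sch

namespace Cfsg.Agent.Lib.Lead.Sch

open SemidirectProduct in
theorem godd_of_field (p q : ℕ) [Fact p.Prime] [Fact q.Prime] {K : Type u} [Field K] [Finite K]
    (hpq : p ≠ q) (hK : Nat.card K = p ^ orderOf (p : ZMod q)) (r : ℕ) (hr : 1 ≤ r) :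
    ∃ (G₀ : Type u) (_ : Group G₀) (_ : Finite G₀) (sd : SD p q G₀),
      orderOf sd.y = q ^ r ∧ Nat.card sd.P = p ^ orderOf (p : ZMod q) := by
  classical
  have hp := (Fact.out : p.Prime)
  have hq := (Fact.out : q.Prime)
  obtain ⟨ζ, hζ⟩ := field_exists_zeta p q hpq hK
  have hζ0 : ζ ≠ 0 := by
    rintro rfl
    have h1 : (0 : K) ^ q = 1 := by rw [← hζ]; exact pow_orderOf_eq_one _
    rw [zero_pow hq.ne_zero] at h1
    exact zero_ne_one h1
  have hζ1 : ζ ≠ 1 := by
    rintro rfl
    rw [orderOf_one] at hζ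
    exact hq.one_lt.ne hζ
  let ζu : Kˣ := Units.mk0 ζ hζ0
  have hζu : orderOf ζu = q := by
    rw [← orderOf_units]; exact hζ
  have : NeZero (q ^ r) := ⟨pow_ne_zero _ hq.ne_zero⟩
  have : Fact (1 < q ^ r) := ⟨Nat.one_lt_pow (by omega) hq.one_lt⟩
  have hζq : ζu ^ q = 1 := by rw [← hζu]; exact pow_orderOf_eq_one _
  have hζpow : ζu ^ (q ^ r) = 1 := by
    obtain ⟨r', rfl⟩ : ∃ r', r = r' + 1 := ⟨r - 1, by omega⟩
    rw [pow_succ', pow_mul, hζq, one_pow]
  -- characteristic p
  have hpK : (p : K) = 0 := by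
    haveI : Fintype K := Fintype.ofFinite K
    have h := Nat.cast_card_eq_zero K
    rw [← Nat.card_eq_fintype_card, hK, Nat.cast_pow] at h
    exact pow_eq_zero_iff (field_a_pos p q hpq).ne' |>.1 h
  let φ : Multiplicative (ZMod (q ^ r)) →* MulAut (Multiplicative K) :=
    (goddUnitAut K).comp (goddPowHom (q ^ r) ζu hζpow)
  have hφ1 : φ (Multiplicative.ofAdd 1) = goddUnitAut K ζu := by
    show goddUnitAut K (ζu ^ (Multiplicative.toAdd (Multiplicative.ofAdd (1 : ZMod (q ^ r)))).val) = _
    rw [toAdd_ofAdd, ZMod.val_one, pow_one]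
  have hφq : φ (Multiplicative.ofAdd 1 ^ q) = 1 := by
    rw [map_pow, hφ1, ← map_pow, hζq, map_one]
  refine ⟨Multiplicative K ⋊[φ] Multiplicative (ZMod (q ^ r)), inferInstance,
    Finite.of_equiv _ SemidirectProduct.equivProd.symm, ?_⟩
  set G₀ := Multiplicative K ⋊[φ] Multiplicative (ZMod (q ^ r)) with hG₀
  let y : G₀ := inr (Multiplicative.ofAdd 1)
  let P : Subgroup G₀ := (inl : Multiplicative K →* G₀).range
  have hconj : ∀ n : Multiplicative K, y * inl n * y⁻¹ = inl (goddUnitAut K ζu n) := by
    intro n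
    rw [← hφ1, inl_aut, map_inv]
  have hPn : P.Normal := by
    show ((inl : Multiplicative K →* G₀).range).Normal
    rw [range_inl_eq_ker_rightHom]
    infer_instance
  have hpow : ∀ n : Multiplicative K, n ^ p = 1 := by
    intro n
    apply Multiplicative.toAdd.injective
    rw [toAdd_pow, toAdd_one, nsmul_eq_mul, hpK, zero_mul]
  have hyord : orderOf y = q ^ r := by
    rw [orderOf_injective inr inr_injective, orderOf_ofAdd_eq_addOrderOf, ZMod.addOrderOf_one]
  have hPcomm : ∀ u ∈ P, ∀ v ∈ P, u * v * u⁻¹ * v⁻¹ = 1 := by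
    rintro _ ⟨a, rfl⟩ _ ⟨b, rfl⟩
    rw [← map_mul, ← map_inv, ← map_mul, ← map_inv, ← map_mul, mul_comm a b, mul_inv_cancel_right,
      mul_inv_cancel, map_one]
  have hPexp : ∀ u ∈ P, u ^ p = 1 := by
    rintro _ ⟨a, rfl⟩
    rw [← map_pow, hpow, map_one]
  refine ⟨
    { P := P
      C := ⊥
      y := y
      P_normal := hPn
      P_pgroup := ?_
      y_order := ⟨r, hyord⟩
      gen := ?_
      yq_central := ?_
      C_le := bot_le
      C_central := bot_le
      C_exp := ?_
      quot_comm := ?_
      quot_exp := ?_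
      C_gen := bot_le
      irr := ?_
      nongen := ?_
      moved := ?_ }, hyord, ?_⟩
  · -- P_pgroup
    intro g
    refine ⟨1, ?_⟩
    apply Subtype.ext
    rw [pow_one, Subgroup.coe_pow, Subgroup.coe_one]
    exact hPexp _ g.2
  · -- gen
    rw [eq_top_iff]
    intro x _
    rw [← inl_left_mul_inr_right x]
    refine Subgroup.mul_mem _ (Subgroup.mem_sup_left ⟨x.left, rfl⟩) (Subgroup.mem_sup_right ?_)
    rw [Subgroup.mem_zpowers_iff]
    refine ⟨((Multiplicative.toAdd x.right).val : ℤ), ?_⟩
    rw [zpow_natCast, ← map_pow]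
    congr 1
    apply Multiplicative.toAdd.injective
    rw [toAdd_pow, toAdd_ofAdd, nsmul_eq_mul, mul_one, ZMod.natCast_zmod_val]
  · -- yq_central
    rw [Subgroup.mem_center_iff]
    intro g
    have hyq : y ^ q = inr (Multiplicative.ofAdd 1 ^ q) := by rw [map_pow]
    rw [hyq]
    ext
    · simp only [mul_left, left_inr, right_inr, mul_one, hφq, MulAut.one_apply, one_mul, map_one]
    · simp only [mul_right, right_inr, mul_comm]
  · -- C_exp
    intro c hc
    rw [Subgroup.mem_bot] at hc
    rw [hc, one_pow]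
  · -- quot_comm
    intro u hu v hv
    rw [Subgroup.mem_bot]
    exact hPcomm u hu v hv
  · -- quot_exp
    intro u hu
    rw [Subgroup.mem_bot]
    exact hPexp u hu
  · -- irr
    intro D _ hDP hDy
    let W : AddSubgroup K :=
      { carrier := {k | (inl (Multiplicative.ofAdd k) : G₀) ∈ D}
        zero_mem' := by
          show (inl (Multiplicative.ofAdd (0 : K)) : G₀) ∈ D
          rw [ofAdd_zero, map_one]; exact D.one_mem
        add_mem' := by
          intro a b ha hb
          show (inl (Multiplicative.ofAdd (a + b)) : G₀) ∈ D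
          rw [ofAdd_add, map_mul]; exact D.mul_mem ha hb
        neg_mem' := by
          intro a ha
          show (inl (Multiplicative.ofAdd (-a)) : G₀) ∈ D
          rw [ofAdd_neg, map_inv]; exact D.inv_mem ha }
    have hW : ∀ w ∈ W, ζ * w ∈ W := by
      intro w hw
      have := hDy _ hw
      rw [hconj] at this
      exact this
    rcases field_irr p q hpq hK ζ hζ W hW with h | h
    · left
      rw [eq_bot_iff]
      intro d hd
      obtain ⟨a, rfl⟩ := hDP hd
      have : Multiplicative.toAdd a ∈ W := hd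
      rw [h, AddSubgroup.mem_bot] at this
      have ha : a = 1 := Multiplicative.toAdd.injective this
      rw [ha, map_one]; exact Subgroup.mem_bot.2 rfl
    · right
      apply le_antisymm hDP
      rintro _ ⟨a, rfl⟩
      have : Multiplicative.toAdd a ∈ W := by rw [h]; trivial
      exact this
  · -- nongen
    intro D _ hD
    rwa [sup_bot_eq] at hD
  · -- moved
    refine ⟨inl (Multiplicative.ofAdd 1), ⟨_, rfl⟩, ?_⟩
    rw [hconj]
    intro h
    have h2 := inl_injective h
    rw [goddUnitAut_apply, toAdd_ofAdd, mul_one] at h2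
    exact hζ1 (Multiplicative.ofAdd.injective h2)
  · -- card P
    rw [← hK]
    have e : Multiplicative K ≃ P := (MonoidHom.ofInjective (f := (inl : Multiplicative K →* G₀)) inl_injective).toEquiv
    rw [← Nat.card_congr e]
    exact Nat.card_congr Multiplicative.toAdd

end Cfsg.Agent.Lib.Lead.Sch
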