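import Mathlib
import Cfsg.Agent.Lib.Lead.SchDefs
import Cfsg.Agent.Lib.Helper1.SchField
import Cfsg.Agent.Lib.Helper1.SchGEven
import Cfsg.Agent.Lib.Helper2.SchGOdd

/-!
# S4395, Area E, package EXIST: a group `G₀ : Type u` with an `SD`, `|y| = q^r`, `|P| = p^{a₀}`.
-/

set_option autoImplicit false
universe u

namespace Cfsg.Agent.Lib.Lead.Sch

theorem exist (p q r : ℕ) [Fact p.Prime] [Fact q.Prime] (hpq : p ≠ q) (hr : 1 ≤ r) :
    ∃ (G₀ : Type u) (_ : Group G₀) (_ : Finite G₀) (sd : SD p q G₀),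
      orderOf sd.y = q ^ r ∧ Nat.card sd.P = p ^ a0 p q := by
  have ha_pos : 0 < orderOf (p : ZMod q) := field_a_pos p q hpq
  have hK : Nat.card (ULift.{u} (GaloisField p (orderOf (p : ZMod q)))) =
      p ^ orderOf (p : ZMod q) := by
    rw [Nat.card_congr Equiv.ulift]
    exact GaloisField.card p _ ha_pos.ne'
  by_cases hodd : orderOf (p : ZMod q) % 2 = 1
  · obtain ⟨G₀, hG, hF, sd, h1, h2⟩ := godd_of_field p q hpq hK r hr
    refine ⟨G₀, hG, hF, sd, h1, ?_⟩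
    rw [h2, a0, if_pos hodd]
  · obtain ⟨s, hs⟩ : ∃ s, orderOf (p : ZMod q) = 2 * s := ⟨orderOf (p : ZMod q) / 2, by omega⟩
    obtain ⟨G₀, hG, hF, sd, h1, h2⟩ :=
      geven_of_field p q hpq s hs (by rw [← hs]; exact hK) r hr
    refine ⟨G₀, hG, hF, sd, h1, ?_⟩
    rw [h2, a0, if_neg hodd, hs]
    congr 1
    omega

end Cfsg.Agent.Lib.Lead.Sch
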