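import Mathlib

set_option autoImplicit false

namespace Cfsg.Agent.Lib.Helper2.Sharp3

open MulAction

variable {α : Type*} [Fintype α] [DecidableEq α]

/-- embedding from three distinct points -/
def emb3 (u v w : α) (huv : u ≠ v) (huw : u ≠ w) (hvw : v ≠ w) : Fin 3 ↪ α :=
  ⟨![u, v, w], by
    intro i j hij
    fin_cases i <;> fin_cases j <;> simp_all⟩

omit [Fintype α] [DecidableEq α] in
theorem eq_one_of_three {G : Subgroup (Equiv.Perm α)}
    (hsharp : ∀ x : Fin 3 ↪ α, MulAction.stabilizer G x = ⊥) (g : G) {u v w : α}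
    (huv : u ≠ v) (huw : u ≠ w) (hvw : v ≠ w) (hu : g • u = u) (hv : g • v = v)
    (hw : g • w = w) : g = 1 := by
  have hmem : g ∈ MulAction.stabilizer G (emb3 u v w huv huw hvw) := by
    rw [MulAction.mem_stabilizer_iff]
    ext i
    refine (Function.Embedding.smul_apply g (emb3 u v w huv huw hvw) i).trans ?_
    fin_cases i
    · exact hu
    · exact hv
    · exact hw
  rw [hsharp] at hmem
  exact Subgroup.mem_bot.mp hmem


section Count

variable (G : Subgroup (Equiv.Perm α))

open Classical in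
/-- elements of order 3 -/
noncomputable def T3 : Finset G := Finset.univ.filter (fun g => g ^ 3 = 1 ∧ g ≠ 1)

open Classical in
/-- elements of order 3 fixing two given points -/
noncomputable def T3fix (u v : α) : Finset G :=
  (T3 G).filter (fun g => g • u = u ∧ g • v = v)

open Classical in
/-- triples of distinct points -/
noncomputable def D3 (α : Type*) [Fintype α] : Finset (α × α × α) :=
  Finset.univ.filter (fun t => t.1 ≠ t.2.1 ∧ t.1 ≠ t.2.2 ∧ t.2.1 ≠ t.2.2)

open Classical in
/-- pairs (element of order 3, moved point) -/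
noncomputable def S3 : Finset (G × α) :=
  (T3 G ×ˢ Finset.univ).filter (fun p => p.1 • p.2 ≠ p.2)

open Classical in
/-- fixed points -/
noncomputable def fixF (g : G) : Finset α := Finset.univ.filter (fun x => g • x = x)

variable {G}

theorem mem_T3 {g : G} : g ∈ T3 G ↔ g ^ 3 = 1 ∧ g ≠ 1 := by
  classical
  simp [T3]

theorem mem_T3fix {g : G} {u v : α} :
    g ∈ T3fix G u v ↔ (g ^ 3 = 1 ∧ g ≠ 1) ∧ g • u = u ∧ g • v = v := by
  classical
  simp [T3fix, mem_T3]

theorem mem_D3 {t : α × α × α} :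
    t ∈ D3 α ↔ t.1 ≠ t.2.1 ∧ t.1 ≠ t.2.2 ∧ t.2.1 ≠ t.2.2 := by
  classical
  simp [D3]

theorem mem_S3 {p : G × α} : p ∈ S3 G ↔ (p.1 ^ 3 = 1 ∧ p.1 ≠ 1) ∧ p.1 • p.2 ≠ p.2 := by
  classical
  simp [S3, mem_T3]

theorem mem_fixF {g : G} {x : α} : x ∈ fixF G g ↔ g • x = x := by
  classical
  simp [fixF]

theorem card_fixF_le (hsharp : ∀ x : Fin 3 ↪ α, MulAction.stabilizer G x = ⊥) {g : G}
    (hg : g ≠ 1) : (fixF G g).card ≤ 2 := by
  by_contra hcon
  rw [not_le, Finset.two_lt_card] at hcon
  obtain ⟨u, hu, v, hv, w, hw, huv, huw, hvw⟩ := hcon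
  exact hg (eq_one_of_three hsharp g huv huw hvw (mem_fixF.mp hu) (mem_fixF.mp hv)
    (mem_fixF.mp hw))

theorem card_S3_le (hsharp : ∀ x : Fin 3 ↪ α, MulAction.stabilizer G x = ⊥) :
    (S3 G).card ≤ (D3 α).card := by
  classical
  refine Finset.card_le_card_of_injOn (fun p => (p.2, p.1 • p.2, p.1 • p.1 • p.2)) ?_ ?_
  · intro p hp
    have hp' := mem_S3.mp hp
    obtain ⟨⟨h3, h1⟩, hx⟩ := hp'
    have hcube : p.1 • p.1 • p.1 • p.2 = p.2 := by
      rw [smul_smul, smul_smul, ← pow_three', h3, one_smul]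
    apply mem_D3.mpr
    refine ⟨fun h => hx h.symm, ?_, ?_⟩
    · intro h
      apply hx
      have := congrArg (fun y => p.1 • y) h
      simp only [hcube] at this
      exact this
    · intro h
      apply hx
      exact (smul_left_cancel _ h).symm
  · rintro ⟨g, x⟩ hp ⟨g', x'⟩ hp' heq
    have hp1 := mem_S3.mp hp
    have hp1' := mem_S3.mp hp'
    obtain ⟨⟨h3, h1⟩, hx⟩ := hp1
    obtain ⟨⟨h3', h1'⟩, hx'⟩ := hp1'
    simp only [Prod.mk.injEq] at heq h3 h3' hx hx'
    obtain ⟨e1, e2, e3⟩ := heq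
    subst e1
    have hcube : g • g • g • x = x := by
      rw [smul_smul, smul_smul, ← pow_three', h3, one_smul]
    have hcube' : g' • g' • g' • x = x := by
      rw [smul_smul, smul_smul, ← pow_three', h3', one_smul]
    have hne1 : x ≠ g • x := fun h => hx h.symm
    have hne2 : x ≠ g • g • x := by
      intro h
      apply hx
      have := congrArg (fun y => g • y) h
      simp only [hcube] at this
      exact this
    have hne3 : g • x ≠ g • g • x := by
      intro h
      apply hx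
      exact (smul_left_cancel _ h).symm
    have key : g⁻¹ * g' = 1 := by
      apply eq_one_of_three hsharp _ hne1 hne2 hne3
      · rw [mul_smul, ← e2, inv_smul_smul]
      · rw [mul_smul, e2, ← e3, inv_smul_smul]
        exact e2
      · rw [mul_smul, e3, hcube', inv_smul_eq_iff, ← e3, hcube]
    have : g = g' := by
      rw [inv_mul_eq_one] at key
      exact key
    rw [this]


/-- the main double count: if every `T3fix u v` over distinct triples has at least `k` elements
then `k * |D3| ≤ 2 * |D3|`. -/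
theorem count_le (hsharp : ∀ x : Fin 3 ↪ α, MulAction.stabilizer G x = ⊥) (k : ℕ)
    (hk : ∀ t ∈ D3 α, k ≤ (T3fix G t.1 t.2.1).card) :
    k * (D3 α).card ≤ 2 * (D3 α).card := by
  classical
  -- P and Q
  set P : Finset (Σ _ : α × α × α, G) := (D3 α).sigma (fun t => T3fix G t.1 t.2.1) with hP
  set Q : Finset (Σ _ : G × α, α × α) := (S3 G).sigma (fun p => (fixF G p.1).offDiag) with hQ
  have h1 : k * (D3 α).card ≤ P.card := by
    rw [hP, Finset.card_sigma, mul_comm, ← smul_eq_mul, ← Finset.sum_const]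
    exact Finset.sum_le_sum hk
  have h2 : P.card ≤ Q.card := by
    refine Finset.card_le_card_of_injOn (fun z => ⟨(z.2, z.1.2.2), (z.1.1, z.1.2.1)⟩) ?_ ?_
    · rintro ⟨⟨u, v, x⟩, g⟩ hz
      rw [hP, Finset.mem_coe, Finset.mem_sigma] at hz
      obtain ⟨ht, hg⟩ := hz
      have ht' := mem_D3.mp ht
      have hg' := mem_T3fix.mp hg
      simp only at ht' hg'
      obtain ⟨huv, hux, hvx⟩ := ht'
      obtain ⟨⟨h3, h1⟩, hgu, hgv⟩ := hg'
      rw [hQ, Finset.mem_coe, Finset.mem_sigma]
      refine ⟨mem_S3.mpr ⟨⟨h3, h1⟩, ?_⟩, ?_⟩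
      · intro hgx
        exact h1 (eq_one_of_three hsharp g huv hux hvx hgu hgv hgx)
      · rw [Finset.mem_offDiag]
        exact ⟨mem_fixF.mpr hgu, mem_fixF.mpr hgv, huv⟩
    · rintro ⟨⟨u, v, x⟩, g⟩ _ ⟨⟨u', v', x'⟩, g'⟩ _ heq
      simp only [Sigma.mk.injEq, Prod.mk.injEq] at heq
      obtain ⟨⟨e1, e2⟩, e3⟩ := heq
      subst e1 e2
      simp only [heq_eq_eq, Prod.mk.injEq] at e3
      obtain ⟨e4, e5⟩ := e3
      subst e4 e5
      rfl
  have h3 : Q.card ≤ 2 * (S3 G).card := by
    rw [hQ, Finset.card_sigma, mul_comm, ← smul_eq_mul, ← Finset.sum_const]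
    apply Finset.sum_le_sum
    intro p hp
    have hp' := mem_S3.mp hp
    have hle := card_fixF_le hsharp hp'.1.2
    rw [Finset.offDiag_card]
    have : (fixF G p.1).card * (fixF G p.1).card ≤ 2 * (fixF G p.1).card :=
      Nat.mul_le_mul_right _ hle
    omega
  have h4 := card_S3_le hsharp
  omega


theorem card_T3fix_le_of_conj (h3 : MulAction.IsMultiplyPretransitive G α 3) {a b c : α}
    (hab : a ≠ b) (hac : a ≠ c) (hbc : b ≠ c) {u v x : α} (huv : u ≠ v) (hux : u ≠ x)
    (hvx : v ≠ x) : (T3fix G a b).card ≤ (T3fix G u v).card := by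
  classical
  have : MulAction.IsPretransitive G (Fin 3 ↪ α) := h3
  obtain ⟨h, hh⟩ := MulAction.exists_smul_eq G (emb3 a b c hab hac hbc)
    (emb3 u v x huv hux hvx)
  have ha : h • a = u := by
    have := congrArg (fun e : Fin 3 ↪ α => e 0) hh
    exact this
  have hb : h • b = v := by
    have := congrArg (fun e : Fin 3 ↪ α => e 1) hh
    exact this
  refine Finset.card_le_card_of_injOn (fun g => h * g * h⁻¹) ?_ ?_
  · intro g hg
    rw [Finset.mem_coe, mem_T3fix] at hg ⊢
    obtain ⟨⟨hg3, hg1⟩, hga, hgb⟩ := hg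
    refine ⟨⟨?_, ?_⟩, ?_, ?_⟩
    · rw [conj_pow, hg3, mul_one, mul_inv_cancel]
    · intro hc
      apply hg1
      have := congrArg (fun z => h⁻¹ * z * h) hc
      simpa [mul_assoc] using this
    · rw [mul_smul, mul_smul, ← ha, inv_smul_smul, hga]
    · rw [mul_smul, mul_smul, ← hb, inv_smul_smul, hgb]
  · intro g _ g' _ heq
    simpa using heq

/-- two distinct subgroups of order 3 fixing `a`, `b` give four elements of `T3fix G a b`. -/
theorem four_le_card_T3fix {a b : α} (A B : Subgroup G)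
    (hA : A ≤ MulAction.stabilizer G a ⊓ MulAction.stabilizer G b)
    (hB : B ≤ MulAction.stabilizer G a ⊓ MulAction.stabilizer G b) (hA3 : Nat.card A = 3)
    (hB3 : Nat.card B = 3) (hne : A ≠ B) : 4 ≤ (T3fix G a b).card := by
  classical
  -- nontrivial elements
  have hAnt : ∃ x ∈ A, x ≠ 1 := by
    by_contra hcon
    push Not at hcon
    have : A = ⊥ := (Subgroup.eq_bot_iff_forall A).mpr hcon
    rw [this, Subgroup.card_bot] at hA3
    omega
  have hBnt : ∃ y ∈ B, y ≠ 1 := by
    by_contra hcon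
    push Not at hcon
    have : B = ⊥ := (Subgroup.eq_bot_iff_forall B).mpr hcon
    rw [this, Subgroup.card_bot] at hB3
    omega
  obtain ⟨x, hxA, hx1⟩ := hAnt
  obtain ⟨y, hyB, hy1⟩ := hBnt
  have hx3 : x ^ 3 = 1 := by
    have : (⟨x, hxA⟩ : A) ^ 3 = 1 := by
      rw [← hA3]
      exact pow_card_eq_one'
    simpa using congrArg Subtype.val this
  have hy3 : y ^ 3 = 1 := by
    have : (⟨y, hyB⟩ : B) ^ 3 = 1 := by
      rw [← hB3]
      exact pow_card_eq_one'
    simpa using congrArg Subtype.val this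
  -- key: no nontrivial common element
  have hdisj : ∀ z : G, z ∈ A → z ∈ B → z = 1 := by
    intro z hzA hzB
    by_contra hz1
    have hdvd : Nat.card (A ⊓ B : Subgroup G) ∣ 3 := by
      rw [← hA3]
      exact Subgroup.card_dvd_of_le inf_le_left
    have hne1 : Nat.card (A ⊓ B : Subgroup G) ≠ 1 := by
      intro h1
      have hbot : (A ⊓ B : Subgroup G) = ⊥ := Subgroup.eq_bot_of_card_eq _ h1
      have : z ∈ (⊥ : Subgroup G) := by
        rw [← hbot]
        exact ⟨hzA, hzB⟩
      exact hz1 (Subgroup.mem_bot.mp this)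
    have h3 : Nat.card (A ⊓ B : Subgroup G) = 3 := by
      rcases (Nat.dvd_prime Nat.prime_three).mp hdvd with h | h
      · exact absurd h hne1
      · exact h
    have e1 : (A ⊓ B : Subgroup G) = A :=
      Subgroup.eq_of_le_of_card_ge inf_le_left (by rw [h3, hA3])
    have e2 : (A ⊓ B : Subgroup G) = B :=
      Subgroup.eq_of_le_of_card_ge inf_le_right (by rw [h3, hB3])
    exact hne (e1.symm.trans e2)
  have hx2A : x ^ 2 ∈ A := A.pow_mem hxA 2
  have hy2B : y ^ 2 ∈ B := B.pow_mem hyB 2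
  have hx21 : x ^ 2 ≠ 1 := by
    intro h
    apply hx1
    have : x ^ 3 = x := by rw [pow_succ, h, one_mul]
    rw [← this, hx3]
  have hy21 : y ^ 2 ≠ 1 := by
    intro h
    apply hy1
    have : y ^ 3 = y := by rw [pow_succ, h, one_mul]
    rw [← this, hy3]
  have hfixA : ∀ z ∈ A, z • a = a ∧ z • b = b := by
    intro z hz
    have := hA hz
    rw [Subgroup.mem_inf, MulAction.mem_stabilizer_iff, MulAction.mem_stabilizer_iff] at this
    exact this
  have hfixB : ∀ z ∈ B, z • a = a ∧ z • b = b := by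
    intro z hz
    have := hB hz
    rw [Subgroup.mem_inf, MulAction.mem_stabilizer_iff, MulAction.mem_stabilizer_iff] at this
    exact this
  have hsub : ({x, x ^ 2, y, y ^ 2} : Finset G) ⊆ T3fix G a b := by
    intro z hz
    simp only [Finset.mem_insert, Finset.mem_singleton] at hz
    rw [mem_T3fix]
    rcases hz with rfl | rfl | rfl | rfl
    · exact ⟨⟨hx3, hx1⟩, hfixA _ hxA⟩
    · refine ⟨⟨?_, hx21⟩, hfixA _ hx2A⟩
      rw [← pow_mul, mul_comm, pow_mul, hx3, one_pow]
    · exact ⟨⟨hy3, hy1⟩, hfixB _ hyB⟩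
    · refine ⟨⟨?_, hy21⟩, hfixB _ hy2B⟩
      rw [← pow_mul, mul_comm, pow_mul, hy3, one_pow]
  have hcard : ({x, x ^ 2, y, y ^ 2} : Finset G).card = 4 := by
    have n1 : x ≠ x ^ 2 := by
      intro h
      apply hx1
      have : x * 1 = x * x := by rw [mul_one, ← pow_two]; exact h
      exact (mul_left_cancel this).symm
    have n2 : x ≠ y := fun h => hx1 (hdisj x hxA (h ▸ hyB))
    have n3 : x ≠ y ^ 2 := fun h => hx1 (hdisj x hxA (h ▸ hy2B))
    have n4 : x ^ 2 ≠ y := fun h => hx21 (hdisj _ hx2A (h ▸ hyB))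
    have n5 : x ^ 2 ≠ y ^ 2 := fun h => hx21 (hdisj _ hx2A (h ▸ hy2B))
    have n6 : y ≠ y ^ 2 := by
      intro h
      apply hy1
      have : y * 1 = y * y := by rw [mul_one, ← pow_two]; exact h
      exact (mul_left_cancel this).symm
    rw [Finset.card_insert_of_notMem, Finset.card_insert_of_notMem,
      Finset.card_insert_of_notMem, Finset.card_singleton]
    · simp [n6]
    · simp [n4, n5]
    · simp [n1, n2, n3]
  calc 4 = ({x, x ^ 2, y, y ^ 2} : Finset G).card := hcard.symm
    _ ≤ _ := Finset.card_le_card hsub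

theorem main (h6 : 6 ≤ Fintype.card α)
    (h3 : MulAction.IsMultiplyPretransitive G α 3)
    (hsharp : ∀ x : Fin 3 ↪ α, MulAction.stabilizer G x = ⊥) {a b : α} (hab : a ≠ b)
    (A B : Subgroup G) (hA : A ≤ MulAction.stabilizer G a ⊓ MulAction.stabilizer G b)
    (hB : B ≤ MulAction.stabilizer G a ⊓ MulAction.stabilizer G b) (hA3 : Nat.card A = 3)
    (hB3 : Nat.card B = 3) : A = B := by
  classical
  by_contra hne
  have h4 := four_le_card_T3fix A B hA hB hA3 hB3 hne
  -- a third point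
  have hc : ∃ c : α, a ≠ c ∧ b ≠ c := by
    by_contra hcon
    push Not at hcon
    have : (Finset.univ : Finset α) ⊆ {a, b} := by
      intro c _
      by_cases hac : a = c
      · simp [hac]
      · have := hcon c hac
        simp [this]
    have := Finset.card_le_card this
    rw [Finset.card_univ] at this
    have h2 : ({a, b} : Finset α).card ≤ 2 := Finset.card_le_two
    omega
  obtain ⟨c, hac, hbc⟩ := hc
  have hk : ∀ t ∈ D3 α, 4 ≤ (T3fix G t.1 t.2.1).card := by
    intro t ht
    obtain ⟨huv, hux, hvx⟩ := mem_D3.mp ht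
    exact h4.trans (card_T3fix_le_of_conj h3 hab hac hbc huv hux hvx)
  have hcount := count_le hsharp 4 hk
  have hpos : 0 < (D3 α).card := by
    apply Finset.card_pos.mpr
    exact ⟨(a, b, c), mem_D3.mpr ⟨hab, hac, hbc⟩⟩
  omega

end Count

end Cfsg.Agent.Lib.Helper2.Sharp3
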