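import Mathlib
import Cfsg.Agent.Lib.Helper8.SmTwoB

set_option autoImplicit false

/-! S4409, package PT: the definition `ActsTrivMod` (needed by the packages PQ, PU too). -/

namespace Cfsg.Agent.Lib.Helper8.SmTwo

universe u

variable {G : Type u} [Group G]

/-- `t` acts trivially on `Y₀ / Z(Y₀)` -/
def ActsTrivMod (Y₀ : Subgroup G) (t : G) : Prop :=
  ∀ x ∈ Y₀, x⁻¹ * (t * x * t⁻¹) ∈ Y₀ ⊓ Subgroup.centralizer (Y₀ : Set G)

end Cfsg.Agent.Lib.Helper8.SmTwo
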