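import Mathlib
import Cfsg.Agent.Lib.Helper2.SmTwoPTDef
import Cfsg.Agent.Lib.Helper4.ZP19

set_option autoImplicit false
set_option linter.unusedVariables false

/-! S4409, package PT: the tricks that need no quotient groups. -/

namespace Cfsg.Agent.Lib.Helper8.SmTwo

open scoped commutatorElement

universe u

variable {G : Type u} [Group G]

/-- conjugation by an element of the normalizer -/
theorem pt_conj_mem {N : Subgroup G} {a x : G} (ha : a ∈ Subgroup.normalizer (N : Set G)) :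
    a * x * a⁻¹ ∈ N ↔ x ∈ N := (Subgroup.mem_normalizer_iff.mp ha x).symm

/-- (IDX2) every automorphism acts trivially on a quotient of order `2` -/
theorem commutator_le_of_relIndex_two (Y A N : Subgroup G) (hNY : N ≤ Y) (hidx : N.relIndex Y = 2)
    (hAY : A ≤ Subgroup.normalizer (Y : Set G)) (hAN : A ≤ Subgroup.normalizer (N : Set G)) :
    ⁅Y, A⁆ ≤ N := by
  rw [Subgroup.commutator_le]
  intro y hy a ha
  have hy' : a * y⁻¹ * a⁻¹ ∈ Y := (pt_conj_mem (hAY ha)).mpr (Y.inv_mem hy)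
  have key := Subgroup.mul_mem_iff_of_index_two (H := N.subgroupOf Y) hidx
    (a := ⟨y, hy⟩) (b := ⟨a * y⁻¹ * a⁻¹, hy'⟩)
  have h1 : ⁅y, a⁆ = y * (a * y⁻¹ * a⁻¹) := by rw [commutatorElement_def]; group
  rw [h1]
  have h2 : (⟨y, hy⟩ : Y) * ⟨a * y⁻¹ * a⁻¹, hy'⟩ ∈ N.subgroupOf Y := by
    rw [key]
    simp only [Subgroup.mem_subgroupOf]
    rw [pt_conj_mem (hAN ha), inv_mem_iff]
  simpa [Subgroup.mem_subgroupOf] using h2

theorem pt_relIndex_mul_card [Finite G] {N Y : Subgroup G} (h : N ≤ Y) :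
    N.relIndex Y * Nat.card N = Nat.card Y := by
  have := Subgroup.relIndex_mul_relIndex (⊥ : Subgroup G) N Y bot_le h
  rw [Subgroup.relIndex_bot_left, Subgroup.relIndex_bot_left] at this
  rw [mul_comm]; exact this

theorem v4_invariant [Finite G] (W A N : Subgroup G) (hW : IsV4 W)
    (hAW : A ≤ Subgroup.normalizer (W : Set G)) (hcomm : ⁅W, A⁆ = W) (hN : N ≤ W)
    (hAN : A ≤ Subgroup.normalizer (N : Set G)) : N = ⊥ ∨ N = W := by
  have hmul := pt_relIndex_mul_card hN
  rw [hW.1] at hmul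
  have hdvd : Nat.card N ∣ 4 := ⟨_, by rw [← hmul, mul_comm]⟩
  have hle : Nat.card N ≤ 4 := Nat.le_of_dvd (by norm_num) hdvd
  have hpos : 0 < Nat.card N := Nat.card_pos
  have hcases : Nat.card N = 1 ∨ Nat.card N = 2 ∨ Nat.card N = 4 := by
    interval_cases h : Nat.card N <;> simp_all
  rcases hcases with h | h | h
  · left; exact Subgroup.card_eq_one.mp h
  · exfalso
    have hidx : N.relIndex W = 2 := by rw [h] at hmul; omega
    have := commutator_le_of_relIndex_two W A N hN hidx hAW hAN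
    rw [hcomm] at this
    have h2 : Nat.card W ≤ Nat.card N := Subgroup.card_le_of_le this
    rw [hW.1, h] at h2
    omega
  · right
    apply Subgroup.eq_of_le_of_card_ge hN
    rw [hW.1, h]

/-- a subgroup `C ≠ Y` of `Y` such that the product of two elements outside `C` lies in `C` has
index `2` -/
theorem pt_relIndex_two {C Y : Subgroup G} (hCY : C ≤ Y) (hne : C ≠ Y)
    (h : ∀ y₁ ∈ Y, ∀ y₂ ∈ Y, y₁ ∉ C → y₂ ∉ C → y₁ * y₂ ∈ C) : C.relIndex Y = 2 := by
  have hex : ∃ y ∈ Y, y ∉ C := by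
    by_contra hcon
    push Not at hcon
    exact hne (le_antisymm hCY hcon)
  obtain ⟨y₀, hy₀, hy₀C⟩ := hex
  rw [Subgroup.relIndex, Subgroup.index_eq_two_iff]
  refine ⟨⟨y₀, hy₀⟩, ?_⟩
  intro b
  simp only [Subgroup.mem_subgroupOf, Subgroup.coe_mul]
  by_cases hb : (b : G) ∈ C
  · right
    refine ⟨hb, ?_⟩
    intro hby
    apply hy₀C
    have : y₀ = (b : G)⁻¹ * ((b : G) * y₀) := by group
    rw [this]
    exact C.mul_mem (C.inv_mem hb) hby
  · left
    exact ⟨h _ b.2 _ hy₀ hb hy₀C, hb⟩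

theorem na8_invariant [Finite G] (Y₀ A N : Subgroup G) (h0 : IsNA8 Y₀)
    (hAn : A ≤ Subgroup.normalizer (Y₀ : Set G)) (hcomm : ⁅Y₀, A⁆ = Y₀) (hN : N ≤ Y₀)
    (hAN : A ≤ Subgroup.normalizer (N : Set G)) :
    N = ⊥ ∨ N = Y₀ ⊓ Subgroup.centralizer (Y₀ : Set G) ∨ N = Y₀ := by
  obtain ⟨z, hzY, hz1, hz2, hzc, hsq, hcm, hcen, i, hiY, hi⟩ := h0.facts
  have h8 : Nat.card Y₀ = 8 := h0.1
  have hmul := pt_relIndex_mul_card hN
  rw [h8] at hmul
  have hdvd : Nat.card N ∣ 8 := ⟨_, by rw [← hmul, mul_comm]⟩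
  have hle : Nat.card N ≤ 8 := Nat.le_of_dvd (by norm_num) hdvd
  have hpos : 0 < Nat.card N := Nat.card_pos
  -- a proper A-invariant subgroup of index 2 is impossible
  have hno2 : ∀ C : Subgroup G, C ≤ Y₀ → A ≤ Subgroup.normalizer (C : Set G) →
      C.relIndex Y₀ = 2 → False := by
    intro C hC hAC hidx
    have := commutator_le_of_relIndex_two Y₀ A C hC hidx hAn hAC
    rw [hcomm] at this
    have h2 : Nat.card Y₀ ≤ Nat.card C := Subgroup.card_le_of_le this
    have h3 := pt_relIndex_mul_card hC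
    rw [hidx] at h3
    omega
  have hcases : Nat.card N = 1 ∨ Nat.card N = 2 ∨ Nat.card N = 4 ∨ Nat.card N = 8 := by
    interval_cases h : Nat.card N <;> simp_all
  rcases hcases with h | h | h | h
  · left; exact Subgroup.card_eq_one.mp h
  · -- order 2
    right; left
    -- the centre has order 2
    have hZle : ∀ x, x ∈ Y₀ ⊓ Subgroup.centralizer (Y₀ : Set G) ↔ x = 1 ∨ x = z := by
      intro x
      constructor
      · rintro ⟨hx, hxc⟩
        apply hcen x hx
        intro y hy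
        exact (Subgroup.mem_centralizer_iff.mp hxc y hy).symm
      · rintro (rfl | rfl)
        · exact Subgroup.one_mem _
        · refine Subgroup.mem_inf.mpr ⟨hzY, ?_⟩
          rw [Subgroup.mem_centralizer_iff]
          intro y hy
          exact (hzc y hy).symm
    -- N = {1, n}
    have : Fact (Nat.Prime 2) := ⟨Nat.prime_two⟩
    obtain ⟨⟨n, hnN⟩, hn⟩ := exists_prime_orderOf_dvd_card' (G := N) 2 (by rw [h])
    have hn2 : orderOf n = 2 := by rw [← hn, ← Subgroup.orderOf_coe]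
    have hn1 : n ≠ 1 := by
      intro h1
      rw [h1, orderOf_one] at hn2
      omega
    have hNz : N = Subgroup.zpowers n := by
      symm
      apply Subgroup.eq_of_le_of_card_ge
      · rw [Subgroup.zpowers_le]; exact hnN
      · rw [Nat.card_zpowers, hn2, h]
    have hNmem : ∀ x, x ∈ N ↔ x = 1 ∨ x = n := by
      intro x
      rw [hNz]
      constructor
      · intro hx
        obtain ⟨k, rfl⟩ := Subgroup.mem_zpowers_iff.mp hx
        rcases Int.even_or_odd k with ⟨m, hm⟩ | ⟨m, hm⟩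
        · left
          rw [hm, ← two_mul, zpow_mul, zpow_ofNat, ← hn2, pow_orderOf_eq_one, one_zpow]
        · right
          rw [hm, zpow_add, zpow_mul, zpow_ofNat, ← hn2, pow_orderOf_eq_one, one_zpow, one_mul,
            zpow_one]
      · rintro (rfl | rfl)
        · exact Subgroup.one_mem _
        · exact Subgroup.mem_zpowers _
    -- A centralizes n
    have hAn' : ∀ a ∈ A, a * n * a⁻¹ = n := by
      intro a ha
      have h1 : a * n * a⁻¹ ∈ N := (pt_conj_mem (hAN ha)).mpr hnN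
      rcases (hNmem _).mp h1 with h2 | h2
      · exfalso
        apply hn1
        have : n = a⁻¹ * (a * n * a⁻¹) * a := by group
        rw [this, h2]; group
      · exact h2
    by_cases hcentral : ∀ y ∈ Y₀, n * y = y * n
    · -- n central: n = z
      have hnz : n = z := by
        rcases hcen _ (hN hnN) hcentral with h1 | h1
        · exact absurd h1 hn1
        · exact h1
      ext x
      rw [hNmem, hZle, hnz]
    · exfalso
      push Not at hcentral
      obtain ⟨y₀, hy₀, hy₀n⟩ := hcentral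
      -- C := C_{Y₀}(n) has index 2 and is A-invariant
      set C : Subgroup G := Y₀ ⊓ Subgroup.centralizer ({n} : Set G) with hC
      have hCmem : ∀ y, y ∈ C ↔ y ∈ Y₀ ∧ n * y = y * n := by
        intro y
        rw [hC, Subgroup.mem_inf, Subgroup.mem_centralizer_singleton_iff]
        constructor
        · rintro ⟨h1, h2⟩; exact ⟨h1, h2.symm⟩
        · rintro ⟨h1, h2⟩; exact ⟨h1, h2.symm⟩
      have hCle : C ≤ Y₀ := inf_le_left
      have hCne : C ≠ Y₀ := by
        intro hE
        have : y₀ ∈ C := by rw [hE]; exact hy₀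
        exact hy₀n ((hCmem _).mp this).2
      have hidx : C.relIndex Y₀ = 2 := by
        apply pt_relIndex_two hCle hCne
        intro y₁ hy₁ y₂ hy₂ h1 h2
        rw [hCmem]
        refine ⟨Y₀.mul_mem hy₁ hy₂, ?_⟩
        have e1 : n * y₁ = y₁ * n * z := by
          rcases hcm _ (hN hnN) y₁ hy₁ with h3 | h3
          · exact absurd ((hCmem _).mpr ⟨hy₁, h3⟩) h1
          · exact h3
        have e2 : n * y₂ = y₂ * n * z := by
          rcases hcm _ (hN hnN) y₂ hy₂ with h3 | h3
          · exact absurd ((hCmem _).mpr ⟨hy₂, h3⟩) h2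
          · exact h3
        have hzy₂ : z * y₂ = y₂ * z := hzc y₂ hy₂
        have hzn : z * n = n * z := hzc _ (hN hnN)
        have hzz : z * z = 1 := by rw [← pow_two]; exact hz2
        calc n * (y₁ * y₂) = (n * y₁) * y₂ := by group
          _ = y₁ * n * z * y₂ := by rw [e1]
          _ = y₁ * n * (z * y₂) := by group
          _ = y₁ * n * (y₂ * z) := by rw [hzy₂]
          _ = y₁ * (n * y₂) * z := by group
          _ = y₁ * (y₂ * n * z) * z := by rw [e2]
          _ = y₁ * y₂ * n * (z * z) := by group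
          _ = y₁ * y₂ * n := by rw [hzz, mul_one]
      have hAC : A ≤ Subgroup.normalizer (C : Set G) := by
        intro a ha
        rw [Subgroup.mem_normalizer_iff]
        intro y
        rw [hCmem, hCmem, pt_conj_mem (hAn ha)]
        have hna := hAn' a ha
        constructor
        · rintro ⟨h1, h2⟩
          refine ⟨h1, ?_⟩
          calc n * (a * y * a⁻¹) = (a * n * a⁻¹) * (a * y * a⁻¹) := by rw [hna]
            _ = a * (n * y) * a⁻¹ := by group
            _ = a * (y * n) * a⁻¹ := by rw [h2]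
            _ = (a * y * a⁻¹) * (a * n * a⁻¹) := by group
            _ = (a * y * a⁻¹) * n := by rw [hna]
        · rintro ⟨h1, h2⟩
          refine ⟨h1, ?_⟩
          have h3 : (a * n * a⁻¹) * (a * y * a⁻¹) = (a * y * a⁻¹) * (a * n * a⁻¹) := by
            rw [hna]; exact h2
          have h4 : a * (n * y) * a⁻¹ = a * (y * n) * a⁻¹ := by
            calc a * (n * y) * a⁻¹ = (a * n * a⁻¹) * (a * y * a⁻¹) := by group
              _ = (a * y * a⁻¹) * (a * n * a⁻¹) := h3
              _ = a * (y * n) * a⁻¹ := by group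
          exact mul_left_cancel (mul_right_cancel h4)
      exact hno2 C hCle hAC hidx
  · exfalso
    have hidx : N.relIndex Y₀ = 2 := by rw [h] at hmul; omega
    exact hno2 N hN hAN hidx
  · right; right
    apply Subgroup.eq_of_le_of_card_ge hN
    rw [h8, h]

/-- with `⁅Y₀, A⁆ = Y₀` the group `Y₀` is quaternion -/
theorem na8_quaternion [Finite G] (Y₀ A : Subgroup G) (h0 : IsNA8 Y₀) (hodd : Odd (Nat.card A))
    (hAn : A ≤ Subgroup.normalizer (Y₀ : Set G)) (hcomm : ⁅Y₀, A⁆ = Y₀) :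
    Nonempty (↥Y₀ ≃* QuaternionGroup 2) := by
  rcases h0.quaternion_or with hq | ⟨r, hrY, hr2, hall⟩
  · exact hq
  · exfalso
    obtain ⟨z, hzY, hz1, hz2, hzc, hsq, hcm, hcen, i, hiY, hi⟩ := h0.facts
    have h8 : Nat.card Y₀ = 8 := h0.1
    -- r has order 4
    have hrz : r ^ 2 = z := by
      rcases hsq r hrY with h | h
      · exact absurd h hr2
      · exact h
    have hr4 : r ^ 4 = 1 := by
      have : r ^ 4 = (r ^ 2) ^ 2 := by rw [← pow_mul]
      rw [this, hrz, hz2]
    have hord : orderOf r = 4 := by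
      have h1 : orderOf r ∣ 4 := orderOf_dvd_of_pow_eq_one hr4
      have h2 : ¬ orderOf r ∣ 2 := fun h => hr2 (orderOf_dvd_iff_pow_eq_one.mp h)
      have h3 : orderOf r ≤ 4 := Nat.le_of_dvd (by norm_num) h1
      have h4 : 0 < orderOf r := Nat.pos_of_dvd_of_pos h1 (by norm_num)
      interval_cases h : orderOf r <;> simp_all
    set C : Subgroup G := Subgroup.zpowers r with hC
    have hCle : C ≤ Y₀ := by rw [hC, Subgroup.zpowers_le]; exact hrY
    have hCcard : Nat.card C = 4 := by rw [hC, Nat.card_zpowers, hord]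
    have hidx : C.relIndex Y₀ = 2 := by
      have := pt_relIndex_mul_card hCle
      rw [h8, hCcard] at this
      omega
    -- C is A-invariant
    have hconj : ∀ a ∈ A, a * r * a⁻¹ ∈ C := by
      intro a ha
      have h1 : a * r * a⁻¹ ∈ Y₀ := (pt_conj_mem (hAn ha)).mpr hrY
      have h2 : (a * r * a⁻¹) ^ 2 ≠ 1 := by
        intro h
        apply hr2
        have h3 : (a * r * a⁻¹) ^ 2 = a * r ^ 2 * a⁻¹ := by
          rw [pow_two, pow_two]; group
        rw [h3] at h
        have : r ^ 2 = a⁻¹ * (a * r ^ 2 * a⁻¹) * a := by group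
        rw [this, h]; group
      rcases hall _ h1 h2 with h | h
      · rw [h]; exact Subgroup.mem_zpowers r
      · rw [h]; exact Subgroup.inv_mem _ (Subgroup.mem_zpowers r)
    have hAC : A ≤ Subgroup.normalizer (C : Set G) := by
      intro a ha
      have hsub : ∀ b ∈ A, ∀ x ∈ C, b * x * b⁻¹ ∈ C := by
        intro b hb x hx
        obtain ⟨k, rfl⟩ := Subgroup.mem_zpowers_iff.mp hx
        have : b * r ^ k * b⁻¹ = (b * r * b⁻¹) ^ k := by
          rw [← MulAut.conj_apply, map_zpow, MulAut.conj_apply]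
        rw [this]
        exact Subgroup.zpow_mem _ (hconj b hb) k
      rw [Subgroup.mem_normalizer_iff]
      intro x
      constructor
      · exact hsub a ha x
      · intro hx
        have := hsub a⁻¹ (A.inv_mem ha) _ hx
        have e : a⁻¹ * (a * x * a⁻¹) * a⁻¹⁻¹ = x := by group
        rw [e] at this
        exact this
    have := commutator_le_of_relIndex_two Y₀ A C hCle hidx hAn hAC
    rw [hcomm] at this
    have h2 : Nat.card Y₀ ≤ Nat.card C := Subgroup.card_le_of_le this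
    omega

theorem pt_mem_zpowers_of_sq {w x : G} (hw : w ^ 2 = 1) :
    x ∈ Subgroup.zpowers w ↔ x = 1 ∨ x = w := by
  constructor
  · intro hx
    obtain ⟨k, rfl⟩ := Subgroup.mem_zpowers_iff.mp hx
    rcases Int.even_or_odd k with ⟨m, hm⟩ | ⟨m, hm⟩
    · left
      rw [hm, ← two_mul, zpow_mul, zpow_ofNat, hw, one_zpow]
    · right
      rw [hm, zpow_add, zpow_mul, zpow_ofNat, hw, one_zpow, one_mul, zpow_one]
  · rintro (rfl | rfl)
    · exact Subgroup.one_mem _
    · exact Subgroup.mem_zpowers _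

/-- (AUT2) a `2`-group of automorphisms of a four-group has order at most `2` -/
theorem v4_aut_two [Finite G] (W T : Subgroup G) (hW : IsV4 W) (hT : IsPGroup 2 T)
    (hTW : T ≤ Subgroup.normalizer (W : Set G)) :
    Nat.card T ≤ 2 * Nat.card (T ⊓ Subgroup.centralizer (W : Set G) : Subgroup G) := by
  have : Fact (Nat.Prime 2) := ⟨Nat.prime_two⟩
  have hfix := Cfsg.Agent.Lib.Helper4.ZP.pgroup_fixed_ne_bot 2 W T hW.isPGroup hT hTW hW.ne_bot
  obtain ⟨⟨w₀, hw₀m⟩, hw₀1⟩ := (Subgroup.ne_bot_iff_exists_ne_one).mp hfix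
  have hw₀W : w₀ ∈ W := hw₀m.1
  have hw₀T : ∀ t ∈ T, t * w₀ = w₀ * t := fun t ht =>
    (Subgroup.mem_centralizer_iff.mp hw₀m.2 t ht)
  have hw₀ne : w₀ ≠ 1 := fun h => hw₀1 (Subtype.ext h)
  have hw₀2 : w₀ ^ 2 = 1 := hW.2 w₀ hw₀W
  have hw₀inv : w₀⁻¹ = w₀ := inv_eq_of_mul_eq_one_right (by rw [← pow_two]; exact hw₀2)
  have hord : orderOf w₀ = 2 := orderOf_eq_prime hw₀2 hw₀ne
  set U : Subgroup G := Subgroup.zpowers w₀ with hU
  have hUmem : ∀ x, x ∈ U ↔ x = 1 ∨ x = w₀ := fun x => pt_mem_zpowers_of_sq hw₀2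
  have hUW : U ≤ W := by rw [hU, Subgroup.zpowers_le]; exact hw₀W
  have hUcard : Nat.card U = 2 := by rw [hU, Nat.card_zpowers, hord]
  have hidx : U.relIndex W = 2 := by
    have := pt_relIndex_mul_card hUW
    rw [hW.1, hUcard] at this
    omega
  have hTU : T ≤ Subgroup.normalizer (U : Set G) := by
    intro t ht
    rw [Subgroup.mem_normalizer_iff]
    intro x
    have hc : t * w₀ * t⁻¹ = w₀ := by rw [hw₀T t ht, mul_inv_cancel_right]
    rw [hUmem, hUmem]
    constructor
    · rintro (rfl | rfl)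
      · left; group
      · right; exact hc
    · rintro (h | h)
      · left
        have : x = t⁻¹ * (t * x * t⁻¹) * t := by group
        rw [this, h]; group
      · right
        calc x = t⁻¹ * (t * x * t⁻¹) * t := by group
          _ = t⁻¹ * w₀ * t := by rw [h]
          _ = t⁻¹ * (w₀ * t) := by group
          _ = t⁻¹ * (t * w₀) := by rw [hw₀T t ht]
          _ = w₀ := by group
  have hcommU := commutator_le_of_relIndex_two W T U hUW hidx hTW hTU
  -- pick w₁ ∈ W ∖ U
  have hex : ∃ w₁ ∈ W, w₁ ∉ U := by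
    by_contra hcon
    push Not at hcon
    have : W ≤ U := hcon
    have h2 := Subgroup.card_le_of_le this
    rw [hW.1, hUcard] at h2
    omega
  obtain ⟨w₁, hw₁W, hw₁U⟩ := hex
  have hWdecomp : ∀ w ∈ W, w ∈ U ∨ ∃ u ∈ U, w = w₁ * u := by
    intro w hw
    by_cases hwU : w ∈ U
    · left; exact hwU
    · right
      refine ⟨w₁⁻¹ * w, ?_, by group⟩
      have key := Subgroup.mul_mem_iff_of_index_two (H := U.subgroupOf W) hidx
        (a := ⟨w₁⁻¹, W.inv_mem hw₁W⟩) (b := ⟨w, hw⟩)
      have h2 : (⟨w₁⁻¹, W.inv_mem hw₁W⟩ : W) * ⟨w, hw⟩ ∈ U.subgroupOf W := by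
        rw [key]
        simp only [Subgroup.mem_subgroupOf]
        rw [inv_mem_iff]
        exact ⟨fun h => absurd h hw₁U, fun h => absurd h hwU⟩
      simpa [Subgroup.mem_subgroupOf] using h2
  set C : Subgroup G := T ⊓ Subgroup.centralizer (W : Set G) with hC
  have hCmem : ∀ t ∈ T, (t ∈ C ↔ t * w₁ = w₁ * t) := by
    intro t ht
    constructor
    · intro h
      exact (Subgroup.mem_centralizer_iff.mp h.2 w₁ hw₁W).symm
    · intro h
      refine Subgroup.mem_inf.mpr ⟨ht, ?_⟩
      rw [Subgroup.mem_centralizer_iff]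
      intro w hw
      have hUc : ∀ u ∈ U, u * t = t * u := by
        intro u hu
        rcases (hUmem u).mp hu with rfl | rfl
        · simp
        · exact (hw₀T t ht).symm
      rcases hWdecomp w hw with hwU | ⟨u, hu, rfl⟩
      · exact hUc w hwU
      · rw [mul_assoc, hUc u hu, ← mul_assoc, ← h, mul_assoc]
  have hnotC : ∀ t ∈ T, t ∉ C → t * w₁ * t⁻¹ = w₀ * w₁ := by
    intro t ht htC
    have h1 : ⁅w₁, t⁆ ∈ U := hcommU (Subgroup.commutator_mem_commutator hw₁W ht)
    rw [commutatorElement_def] at h1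
    rcases (hUmem _).mp h1 with h2 | h2
    · exfalso
      apply htC
      rw [hCmem t ht]
      have : w₁ * t = t * w₁ := by
        have h3 : w₁ * t * w₁⁻¹ * t⁻¹ * (t * w₁) = w₁ * t := by group
        rw [← h3, h2, one_mul]
      exact this.symm
    · have h3 : t * w₁ * t⁻¹ = (w₁ * t * w₁⁻¹ * t⁻¹)⁻¹ * w₁ := by group
      rw [h3, h2, hw₀inv]
  by_cases hCT : C = T
  · show Nat.card T ≤ 2 * Nat.card C
    rw [hCT]; omega
  · have hidx2 : C.relIndex T = 2 := by
      apply pt_relIndex_two inf_le_left hCT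
      intro t₁ ht₁ t₂ ht₂ h1 h2
      rw [hCmem _ (T.mul_mem ht₁ ht₂)]
      have e1 := hnotC t₁ ht₁ h1
      have e2 := hnotC t₂ ht₂ h2
      have hc1 : t₁ * w₀ * t₁⁻¹ = w₀ := by rw [hw₀T t₁ ht₁, mul_inv_cancel_right]
      have hw₀w₀ : w₀ * w₀ = 1 := by rw [← pow_two]; exact hw₀2
      have h3 : t₁ * t₂ * w₁ * (t₁ * t₂)⁻¹ = w₁ := by
        calc t₁ * t₂ * w₁ * (t₁ * t₂)⁻¹ = t₁ * (t₂ * w₁ * t₂⁻¹) * t₁⁻¹ := by group
          _ = t₁ * (w₀ * w₁) * t₁⁻¹ := by rw [e2]
          _ = (t₁ * w₀ * t₁⁻¹) * (t₁ * w₁ * t₁⁻¹) := by group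
          _ = w₀ * (w₀ * w₁) := by rw [hc1, e1]
          _ = (w₀ * w₀) * w₁ := by group
          _ = w₁ := by rw [hw₀w₀, one_mul]
      calc t₁ * t₂ * w₁ = (t₁ * t₂ * w₁ * (t₁ * t₂)⁻¹) * (t₁ * t₂) := by group
        _ = w₁ * (t₁ * t₂) := by rw [h3]
    have hthis : C.relIndex T * Nat.card C = Nat.card T := pt_relIndex_mul_card inf_le_left
    rw [hidx2] at hthis
    show Nat.card T ≤ 2 * Nat.card C
    omega

/-- a subgroup of a group of order `8` containing two non-commuting elements is everything -/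
theorem pt_eq_of_noncomm [Finite G] {K Y₀ : Subgroup G} (hK : K ≤ Y₀) (h8 : Nat.card Y₀ = 8)
    {a b : G} (ha : a ∈ K) (hb : b ∈ K) (hab : a * b ≠ b * a) : K = Y₀ := by
  have hmul := pt_relIndex_mul_card hK
  rw [h8] at hmul
  have hdvd : Nat.card K ∣ 8 := ⟨_, by rw [← hmul, mul_comm]⟩
  have hle : Nat.card K ≤ 8 := Nat.le_of_dvd (by norm_num) hdvd
  have hpos : 0 < Nat.card K := Nat.card_pos
  have hnc : ¬ (∀ x y : K, x * y = y * x) := by
    intro h
    apply hab
    have := h ⟨a, ha⟩ ⟨b, hb⟩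
    exact congrArg Subtype.val this
  have hcases : Nat.card K = 1 ∨ Nat.card K = 2 ∨ Nat.card K = 4 ∨ Nat.card K = 8 := by
    interval_cases h : Nat.card K <;> simp_all
  have : Fact (Nat.Prime 2) := ⟨Nat.prime_two⟩
  rcases hcases with h | h | h | h
  · exfalso
    have hbot : K = ⊥ := Subgroup.card_eq_one.mp h
    rw [hbot, Subgroup.mem_bot] at ha
    apply hab
    rw [ha, one_mul, mul_one]
  · exfalso
    apply hnc
    have hcyc : IsCyclic K := isCyclic_of_prime_card (p := 2) h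
    intro x y
    exact (IsCyclic.commGroup (α := K)).mul_comm x y
  · exfalso
    apply hnc
    have h4 : Nat.card K = 2 ^ 2 := by rw [h]; norm_num
    have := IsPGroup.isMulCommutative_of_card_eq_prime_sq (p := 2) (G := K) h4
    intro x y
    exact this.is_comm.comm x y
  · apply Subgroup.eq_of_le_of_card_ge hK
    rw [h8, h]

/-- (INN) an automorphism of a non-abelian group of order `8` that is trivial modulo the centre
is inner -/
theorem na8_inner [Finite G] (Y₀ : Subgroup G) (h0 : IsNA8 Y₀) (t : G)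
    (ht : t ∈ Subgroup.normalizer (Y₀ : Set G)) (htriv : ActsTrivMod Y₀ t) :
    ∃ y ∈ Y₀, y⁻¹ * t ∈ Subgroup.centralizer (Y₀ : Set G) := by
  obtain ⟨z, hzY, hz1, hz2, hzc, hsq, hcm, hcen, i, hiY, hi⟩ := h0.facts
  obtain ⟨h8, a, ha, b, hb, hab⟩ := h0
  have hzz : z * z = 1 := by rw [← pow_two]; exact hz2
  have hzinv : z⁻¹ = z := inv_eq_of_mul_eq_one_right hzz
  have habz : a * b = b * a * z := by
    rcases hcm a ha b hb with h | h
    · exact absurd h hab
    · exact h
  -- t x t⁻¹ ∈ {x, x z}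
  have hpat : ∀ x ∈ Y₀, t * x * t⁻¹ = x ∨ t * x * t⁻¹ = x * z := by
    intro x hx
    have h1 := htriv x hx
    have h2 : x⁻¹ * (t * x * t⁻¹) = 1 ∨ x⁻¹ * (t * x * t⁻¹) = z := by
      apply hcen _ h1.1
      intro y hy
      exact (Subgroup.mem_centralizer_iff.mp h1.2 y hy).symm
    rcases h2 with h | h
    · left
      have : t * x * t⁻¹ = x * (x⁻¹ * (t * x * t⁻¹)) := by group
      rw [this, h, mul_one]
    · right
      have : t * x * t⁻¹ = x * (x⁻¹ * (t * x * t⁻¹)) := by group
      rw [this, h]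
  -- conjugation by a, b
  have hza : z * a = a * z := hzc a ha
  have hzb : z * b = b * z := hzc b hb
  have hbab : b * a * b⁻¹ = a * z := by
    have h1 : b * a = a * b * z := by
      rw [habz, mul_assoc, hzz, mul_one]
    calc b * a * b⁻¹ = a * b * z * b⁻¹ := by rw [h1]
      _ = a * (b * z) * b⁻¹ := by group
      _ = a * (z * b) * b⁻¹ := by rw [hzb]
      _ = a * z := by group
  have haba : a * b * a⁻¹ = b * z := by
    calc a * b * a⁻¹ = b * a * z * a⁻¹ := by rw [habz]
      _ = b * (a * z) * a⁻¹ := by group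
      _ = b * (z * a) * a⁻¹ := by rw [hza]
      _ = b * z := by group
  -- it suffices to find y with y⁻¹ t centralizing a and b
  have hsuff : ∀ y ∈ Y₀, y⁻¹ * t * a = a * (y⁻¹ * t) → y⁻¹ * t * b = b * (y⁻¹ * t) →
      ∃ y ∈ Y₀, y⁻¹ * t ∈ Subgroup.centralizer (Y₀ : Set G) := by
    intro y hy h1 h2
    refine ⟨y, hy, ?_⟩
    set K : Subgroup G := Y₀ ⊓ Subgroup.centralizer ({y⁻¹ * t} : Set G) with hK
    have haK : a ∈ K := Subgroup.mem_inf.mpr
      ⟨ha, Subgroup.mem_centralizer_singleton_iff.mpr h1.symm⟩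
    have hbK : b ∈ K := Subgroup.mem_inf.mpr
      ⟨hb, Subgroup.mem_centralizer_singleton_iff.mpr h2.symm⟩
    have hKY : K = Y₀ := pt_eq_of_noncomm inf_le_left h8 haK hbK hab
    rw [Subgroup.mem_centralizer_iff]
    intro x hx
    have hxK : x ∈ K := by rw [hKY]; exact hx
    exact (Subgroup.mem_centralizer_singleton_iff.mp hxK.2)
  have conj_eq : ∀ y x : G, y⁻¹ * t * x = (y⁻¹ * (t * x * t⁻¹) * y) * (y⁻¹ * t) := by
    intro y x; group
  have F1 : a⁻¹ * (b * z) * a = b := by rw [← haba]; group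
  have F2 : b⁻¹ * (a * z) * b = a := by rw [← hbab]; group
  rcases hpat a ha with hta | hta <;> rcases hpat b hb with htb | htb
  · -- (a, b): y = 1
    refine hsuff 1 (Subgroup.one_mem _) ?_ ?_
    · rw [conj_eq, hta]; group
    · rw [conj_eq, htb]; group
  · -- (a, bz): y = a
    refine hsuff a ha ?_ ?_
    · rw [conj_eq, hta]; group
    · rw [conj_eq, htb, F1]
  · -- (az, b): y = b
    refine hsuff b hb ?_ ?_
    · rw [conj_eq, hta, F2]
    · rw [conj_eq, htb]; group
  · -- (az, bz): y = a b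
    refine hsuff (a * b) (Y₀.mul_mem ha hb) ?_ ?_
    · rw [conj_eq, hta]
      have : (a * b)⁻¹ * (a * z) * (a * b) = a := by
        calc (a * b)⁻¹ * (a * z) * (a * b) = b⁻¹ * (z * a) * b := by group
          _ = b⁻¹ * (a * z) * b := by rw [hza]
          _ = a := F2
      rw [this]
    · rw [conj_eq, htb]
      have : (a * b)⁻¹ * (b * z) * (a * b) = b := by
        calc (a * b)⁻¹ * (b * z) * (a * b) = b⁻¹ * (a⁻¹ * (b * z) * a) * b := by group
          _ = b⁻¹ * b * b := by rw [F1]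
          _ = b := by group
      rw [this]

/-- the (Q8-trick), given that `Y` acts trivially on `Y₀ / Z(Y₀)` -/
theorem pt_sup_centralizer_of [Finite G] (Y₀ Y : Subgroup G) (h0 : IsNA8 Y₀)
    (hle : Y₀ ≤ Y) (hYn : Y ≤ Subgroup.normalizer (Y₀ : Set G))
    (htriv : ∀ y ∈ Y, ActsTrivMod Y₀ y) :
    Y₀ ⊔ (Y ⊓ Subgroup.centralizer (Y₀ : Set G)) = Y := by
  apply le_antisymm
  · exact sup_le hle inf_le_left
  · intro y hy
    obtain ⟨y₀, hy₀, hc⟩ := na8_inner Y₀ h0 y (hYn hy) (htriv y hy)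
    have : y = y₀ * (y₀⁻¹ * y) := by group
    rw [this]
    exact Subgroup.mul_mem _ (Subgroup.mem_sup_left hy₀)
      (Subgroup.mem_sup_right (Subgroup.mem_inf.mpr
        ⟨Y.mul_mem (Y.inv_mem (hle hy₀)) hy, hc⟩))

end Cfsg.Agent.Lib.Helper8.SmTwo
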