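import Mathlib
import Cfsg.Agent.Lib.Helper2.SmTwoPT
import Cfsg.Agent.Lib.Helper9.SmTwoPQ

set_option autoImplicit false

/-! S4409, package PT, second file: the (Q8-trick). -/

namespace Cfsg.Agent.Lib.Helper8.SmTwo

open scoped commutatorElement

universe u

variable {G : Type u} [Group G]

/-- (Q8-trick) `Y = Y₀ C_Y(Y₀)` when a `2`-group `Y ≥ Y₀` and an odd-order group `A` normalizing
`Y` both act on the non-abelian group `Y₀` of order `8`, with `⁅Y₀, A⁆ = Y₀`. -/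
theorem na8_sup_centralizer [Finite G] (Y₀ Y A : Subgroup G) (h0 : IsNA8 Y₀) (hY : IsPGroup 2 Y)
    (hle : Y₀ ≤ Y) (hYn : Y ≤ Subgroup.normalizer (Y₀ : Set G))
    (hAn : A ≤ Subgroup.normalizer (Y₀ : Set G)) (hAY : A ≤ Subgroup.normalizer (Y : Set G))
    (hodd : Odd (Nat.card A)) (hcomm : ⁅Y₀, A⁆ = Y₀) :
    Y₀ ⊔ (Y ⊓ Subgroup.centralizer (Y₀ : Set G)) = Y :=
  pt_sup_centralizer_of Y₀ Y h0 hle hYn (na8_actsTrivMod Y₀ Y A h0 hY hYn hAn hAY hodd hcomm)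

end Cfsg.Agent.Lib.Helper8.SmTwo
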