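import Mathlib
import Cfsg.Agent.Lib.Helper2.SmTwoPT

set_option autoImplicit false
set_option linter.unusedVariables false

/-! S4409: elementwise form of AUT2 (the canonical `na8_aut_two` is in Helper9/SmTwoPQb.lean). -/

namespace Cfsg.Agent.Lib.Helper8.SmTwo

open scoped commutatorElement

universe u

variable {G : Type u} [Group G]

/-- elementwise form of (AUT2) -/
theorem pt3_v4_mul_mem [Finite G] (W T : Subgroup G) (hW : IsV4 W) (hT : IsPGroup 2 T)
    (hTW : T ≤ Subgroup.normalizer (W : Set G)) (t₁ t₂ : G) (h1 : t₁ ∈ T) (h2 : t₂ ∈ T)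
    (hn1 : t₁ ∉ Subgroup.centralizer (W : Set G)) (hn2 : t₂ ∉ Subgroup.centralizer (W : Set G)) :
    t₁ * t₂ ∈ Subgroup.centralizer (W : Set G) := by
  set C : Subgroup G := T ⊓ Subgroup.centralizer (W : Set G) with hC
  have hle : Nat.card T ≤ 2 * Nat.card C := v4_aut_two W T hW hT hTW
  have hmul : C.relIndex T * Nat.card C = Nat.card T := pt_relIndex_mul_card inf_le_left
  have hpos : 0 < Nat.card C := Nat.card_pos
  have hne1 : C.relIndex T ≠ 1 := by
    intro h
    rw [Subgroup.relIndex_eq_one] at h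
    exact hn1 (h h1).2
  have hidx : C.relIndex T = 2 := by
    have h3 : C.relIndex T ≤ 2 := by
      by_contra hcon
      push Not at hcon
      have : 3 * Nat.card C ≤ C.relIndex T * Nat.card C := Nat.mul_le_mul_right _ hcon
      omega
    have h0 : C.relIndex T ≠ 0 := by
      intro h
      rw [h, zero_mul] at hmul
      have : 0 < Nat.card T := Nat.card_pos
      omega
    omega
  have key := Subgroup.mul_mem_iff_of_index_two (H := C.subgroupOf T) hidx
    (a := ⟨t₁, h1⟩) (b := ⟨t₂, h2⟩)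
  have h3 : (⟨t₁, h1⟩ : T) * ⟨t₂, h2⟩ ∈ C.subgroupOf T := by
    rw [key]
    simp only [Subgroup.mem_subgroupOf]
    exact ⟨fun h => absurd h.2 hn1, fun h => absurd h.2 hn2⟩
  have h4 : t₁ * t₂ ∈ C := by simpa [Subgroup.mem_subgroupOf] using h3
  exact h4.2

end Cfsg.Agent.Lib.Helper8.SmTwo
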