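import Mathlib
import Cfsg.Agent.Lib.Lead.GenCentralizers

set_option autoImplicit false
set_option linter.style.haveILetI false

/-! S3814 (solvable groups, four primes pairwise joined, no triple joined): general tools used by the
Case 1 files.  Everything lives inside one ambient finite group `G`. -/

namespace Cfsg.Agent.Lib.Helper2.SolvTri

open Cfsg

variable {G : Type*} [Group G]

/-- `y` has a non-trivial fixed point on `P` -/
def Sing (P : Subgroup G) (y : G) : Prop := ∃ v ∈ P, v ≠ 1 ∧ Commute y v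

/-- an elementary abelian subgroup of order `t ^ 2` -/
def Rk2 (t : ℕ) (E : Subgroup G) : Prop := IsElementaryAbelian t E ∧ Nat.card E = t ^ 2

theorem orderOf_eq_prime_of_pow {t : ℕ} (ht : t.Prime) {e : G} (h1 : e ≠ 1) (h2 : e ^ t = 1) :
    orderOf e = t := by
  haveI : Fact t.Prime := ⟨ht⟩
  exact orderOf_eq_prime h2 h1

theorem Rk2.orderOf_eq {t : ℕ} (ht : t.Prime) {E : Subgroup G} (hE : Rk2 t E) {e : G} (he : e ∈ E)
    (h1 : e ≠ 1) : orderOf e = t :=
  orderOf_eq_prime_of_pow ht h1 (hE.1.2 e he)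

theorem Rk2.isPGroup {t : ℕ} (ht : t.Prime) {E : Subgroup G} (hE : Rk2 t E) : IsPGroup t E := by
  haveI : Fact t.Prime := ⟨ht⟩
  exact IsPGroup.of_card hE.2

theorem Rk2.not_isCyclic [Finite G] {t : ℕ} (ht : t.Prime) {E : Subgroup G} (hE : Rk2 t E) :
    ¬ IsCyclic E := by
  intro hc
  obtain ⟨g, hg⟩ := hc.exists_generator
  have h1 : orderOf g = Nat.card E := orderOf_eq_card_of_forall_mem_zpowers hg
  have h2 : g ^ t = 1 := Subtype.ext (by simpa using hE.1.2 g g.2)
  have h3 : orderOf g ∣ t := orderOf_dvd_of_pow_eq_one h2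
  rw [h1, hE.2] at h3
  have h4 : t ^ 2 ≤ t := Nat.le_of_dvd ht.pos h3
  have h5 : t * 2 ≤ t * t := Nat.mul_le_mul_left t ht.two_le
  nlinarith [ht.two_le]

/-- a prime-order element lies in the cyclic group of each of its non-trivial powers -/
theorem mem_zpowers_of_mem_zpowers {t : ℕ} (ht : t.Prime) {x a : G} (hx : orderOf x = t)
    (ha : a ∈ Subgroup.zpowers x) (ha1 : a ≠ 1) : x ∈ Subgroup.zpowers a := by
  haveI : Fact t.Prime := ⟨ht⟩
  have h1 : Subgroup.zpowers a ≤ Subgroup.zpowers x := Subgroup.zpowers_le.mpr ha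
  have h2 : Nat.card (Subgroup.zpowers x) = t := by rw [Nat.card_zpowers, hx]
  have h3 : Nat.card (Subgroup.zpowers a) ∣ t := h2 ▸ Subgroup.card_dvd_of_le h1
  have h4 : Nat.card (Subgroup.zpowers a) ≠ 1 := by
    rw [Nat.card_zpowers]
    intro h
    exact ha1 (orderOf_eq_one_iff.mp h)
  have h5 : Nat.card (Subgroup.zpowers a) = t := (Nat.dvd_prime ht).mp h3 |>.resolve_left h4
  haveI : Finite (Subgroup.zpowers x) := Nat.finite_of_card_ne_zero (by rw [h2]; exact ht.ne_zero)
  have h6 : Subgroup.zpowers a = Subgroup.zpowers x :=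
    Subgroup.eq_of_le_of_card_ge h1 (by rw [h5, h2])
  rw [h6]
  exact Subgroup.mem_zpowers x

theorem commute_of_commute_pow {t : ℕ} (ht : t.Prime) {x a g : G} (hx : orderOf x = t)
    (ha : a ∈ Subgroup.zpowers x) (ha1 : a ≠ 1) (hc : Commute g a) : Commute g x := by
  obtain ⟨k, rfl⟩ := Subgroup.mem_zpowers_iff.mp (mem_zpowers_of_mem_zpowers ht hx ha ha1)
  exact hc.zpow_right k

/-- three pairwise commuting elements of pairwise distinct prime orders -/
theorem orderOf_mul_mul {a b c : ℕ} (ha : a.Prime) (hb : b.Prime) (hc : c.Prime) (hab : a ≠ b)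
    (hac : a ≠ c) (hbc : b ≠ c) {x y z : G} (hx : orderOf x = a) (hy : orderOf y = b)
    (hz : orderOf z = c) (hxy : Commute x y) (hxz : Commute x z) (hyz : Commute y z) :
    orderOf (x * y * z) = a * b * c := by
  have h1 : orderOf (x * y) = a * b := by
    rw [hxy.orderOf_mul_eq_mul_orderOf_of_coprime (by rw [hx, hy]; exact (Nat.coprime_primes ha hb).mpr hab),
      hx, hy]
  have h2 : Commute (x * y) z := hxz.mul_left hyz
  rw [h2.orderOf_mul_eq_mul_orderOf_of_coprime, h1, hz]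
  rw [h1, hz]
  exact Nat.Coprime.mul_left ((Nat.coprime_primes ha hc).mpr hac) ((Nat.coprime_primes hb hc).mpr hbc)

theorem orderOf_mul_two {a b : ℕ} (ha : a.Prime) (hb : b.Prime) (hab : a ≠ b)
    {x y : G} (hx : orderOf x = a) (hy : orderOf y = b) (hxy : Commute x y) :
    orderOf (x * y) = a * b := by
  rw [hxy.orderOf_mul_eq_mul_orderOf_of_coprime (by rw [hx, hy]; exact (Nat.coprime_primes ha hb).mpr hab),
    hx, hy]

/-- the two prime-order parts of an element of order `a * b` -/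
theorem exists_parts {a b : ℕ} (ha : a.Prime) (hb : b.Prime) {g : G}
    (hg : orderOf g = a * b) :
    orderOf (g ^ b) = a ∧ orderOf (g ^ a) = b ∧ Commute (g ^ b) (g ^ a) := by
  refine ⟨?_, ?_, (Commute.refl g).pow_pow b a⟩
  · rw [orderOf_pow_of_dvd hb.ne_zero (by rw [hg]; exact dvd_mul_left b a), hg,
      Nat.mul_div_cancel _ hb.pos]
  · rw [orderOf_pow_of_dvd ha.ne_zero (by rw [hg]; exact dvd_mul_right a b), hg,
      Nat.mul_div_cancel_left _ ha.pos]

/-- Cauchy inside a subgroup -/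
theorem exists_orderOf_eq_of_dvd_card [Finite G] {w : ℕ} (hw : w.Prime) {X : Subgroup G}
    (h : w ∣ Nat.card X) : ∃ x ∈ X, orderOf x = w := by
  haveI : Fact w.Prime := ⟨hw⟩
  obtain ⟨x, hx⟩ := exists_prime_orderOf_dvd_card' w h
  exact ⟨x, x.2, by rw [← hx, Subgroup.orderOf_coe]⟩

theorem dvd_card_of_mem [Finite G] {X : Subgroup G} {x : G} (hx : x ∈ X) :
    orderOf x ∣ Nat.card X := by
  have := orderOf_dvd_natCard (⟨x, hx⟩ : X)
  rwa [Subgroup.orderOf_mk] at this

theorem dvd_card_of_isPGroup_ne_bot [Finite G] {s : ℕ} (hs : s.Prime) {X : Subgroup G}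
    (hX : IsPGroup s X) (h : X ≠ ⊥) : s ∣ Nat.card X := by
  haveI : Fact s.Prime := ⟨hs⟩
  obtain ⟨n, hn⟩ := hX.exists_card_eq
  rcases Nat.eq_zero_or_pos n with h0 | h0
  · rw [h0, pow_zero] at hn
    exact absurd (Subgroup.card_eq_one.mp hn) h
  · rw [hn]; exact dvd_pow_self s h0.ne'

theorem eq_one_of_isPGroup_of_orderOf [Finite G] {s r : ℕ} (hs : s.Prime) (hr : r.Prime)
    (hrs : r ≠ s) {X : Subgroup G} (hX : IsPGroup s X) {x : G} (hx : x ∈ X) (hxr : orderOf x = r) :
    False := by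
  haveI : Fact s.Prime := ⟨hs⟩
  obtain ⟨n, hn⟩ := hX.exists_card_eq
  have h1 : r ∣ s ^ n := by rw [← hn, ← hxr]; exact dvd_card_of_mem hx
  exact hrs ((Nat.prime_dvd_prime_iff_eq hr hs).mp (hr.dvd_of_dvd_pow h1))

end Cfsg.Agent.Lib.Helper2.SolvTri
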