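import Mathlib
import Cfsg.Agent.Lib.Helper2.SolvTriA

set_option autoImplicit false
set_option linter.style.haveILetI false

/-! S3814 tools, part B: rank-2 subgroups, the generation lemma (L1) in the shapes used, and the
`r ∣ s - 1` lemma for a non-trivial action on a group of prime order. -/

namespace Cfsg.Agent.Lib.Helper2.SolvTri

open Cfsg

variable {G : Type*} [Group G]

/-- (L1), existence form: a rank-2 group acting coprimely on `V ≠ 1` has a non-identity element
with a non-trivial fixed point -/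
theorem Rk2.exists_fixed [Finite G] {t : ℕ} (ht : t.Prime) {E : Subgroup G} (hE : Rk2 t E)
    {V : Subgroup G} (hEV : E ≤ Subgroup.normalizer (V : Set G)) (hV : V ≠ ⊥)
    (hcop : ¬ t ∣ Nat.card V) :
    ∃ e ∈ E, e ≠ 1 ∧ ∃ v ∈ V, v ≠ 1 ∧ Commute e v := by
  classical
  haveI : IsMulCommutative E := hE.1.1
  have hco : (Nat.card E).Coprime (Nat.card V) := by
    rw [hE.2]
    exact Nat.Coprime.pow_left 2 ((Nat.Prime.coprime_iff_not_dvd ht).mpr hcop)
  have h1 := Cfsg.Agent.Lib.Lead.generated_by_centralizers E V (hE.not_isCyclic ht) hEV hco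
  by_contra hcon
  push Not at hcon
  apply hV
  rw [eq_bot_iff, ← h1]
  apply iSup₂_le
  rintro a ⟨haE, ha1⟩ v ⟨hvV, hvC⟩
  rw [Subgroup.mem_bot]
  by_contra hv1
  apply hcon a haE ha1 v hvV hv1
  exact (Subgroup.mem_centralizer_iff.mp hvC a rfl)

/-- (L1), generation form -/
theorem Rk2.le_of_forall [Finite G] {t : ℕ} (ht : t.Prime) {E : Subgroup G} (hE : Rk2 t E)
    {V W : Subgroup G} (hEV : E ≤ Subgroup.normalizer (V : Set G))
    (hcop : ¬ t ∣ Nat.card V)
    (h : ∀ e ∈ E, e ≠ 1 → V ⊓ Subgroup.centralizer {e} ≤ W) : V ≤ W := by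
  classical
  haveI : IsMulCommutative E := hE.1.1
  have hco : (Nat.card E).Coprime (Nat.card V) := by
    rw [hE.2]
    exact Nat.Coprime.pow_left 2 ((Nat.Prime.coprime_iff_not_dvd ht).mpr hcop)
  have h1 := Cfsg.Agent.Lib.Lead.generated_by_centralizers E V (hE.not_isCyclic ht) hEV hco
  rw [← h1]
  apply iSup₂_le
  rintro a ⟨haE, ha1⟩
  exact h a haE ha1

/-- two independent elements of a rank-2 group generate it -/
theorem Rk2.sup_zpowers_eq [Finite G] {t : ℕ} (ht : t.Prime) {E : Subgroup G} (hE : Rk2 t E)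
    {a b : G} (ha : a ∈ E) (hb : b ∈ E) (ha1 : a ≠ 1) (hba : b ∉ Subgroup.zpowers a) :
    Subgroup.zpowers a ⊔ Subgroup.zpowers b = E := by
  have hle : Subgroup.zpowers a ⊔ Subgroup.zpowers b ≤ E :=
    sup_le (Subgroup.zpowers_le.mpr ha) (Subgroup.zpowers_le.mpr hb)
  have hca : Nat.card (Subgroup.zpowers a) = t := by
    rw [Nat.card_zpowers, hE.orderOf_eq ht ha ha1]
  have hlt : Subgroup.zpowers a < Subgroup.zpowers a ⊔ Subgroup.zpowers b := by
    refine lt_of_le_of_ne le_sup_left ?_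
    intro h
    apply hba
    rw [h]
    exact Subgroup.mem_sup_right (Subgroup.mem_zpowers b)
  have h1 : Nat.card (Subgroup.zpowers a ⊔ Subgroup.zpowers b : Subgroup G) ∣ t ^ 2 := by
    rw [← hE.2]; exact Subgroup.card_dvd_of_le hle
  obtain ⟨k, hk, hk'⟩ := (Nat.dvd_prime_pow ht).mp h1
  have h2 : t ∣ Nat.card (Subgroup.zpowers a ⊔ Subgroup.zpowers b : Subgroup G) := by
    rw [← hca]; exact Subgroup.card_dvd_of_le le_sup_left
  have h3 : Nat.card (Subgroup.zpowers a ⊔ Subgroup.zpowers b : Subgroup G) ≠ t := by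
    intro h
    exact hlt.ne (Subgroup.eq_of_le_of_card_ge hlt.le (by rw [h, hca]))
  have hk2 : k = 2 := by
    interval_cases k
    · rw [pow_zero] at hk'
      rw [hk'] at h2
      exact absurd (Nat.dvd_one.mp h2) ht.one_lt.ne'
    · rw [pow_one] at hk'
      exact absurd hk' h3
    · rfl
  rw [hk2] at hk'
  exact Subgroup.eq_of_le_of_card_ge hle (by rw [hk', hE.2])

/-- two commuting independent elements of order `t` give a rank-2 subgroup inside any subgroup
containing them -/
theorem exists_rk2_of_commute [Finite G] {t : ℕ} (ht : t.Prime) {x y : G} (hx : orderOf x = t)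
    (hy : orderOf y = t) (hxy : Commute x y) (hyx : y ∉ Subgroup.zpowers x) :
    ∃ E : Subgroup G, Rk2 t E ∧ E ≤ Subgroup.closure ({x, y} : Set G) := by
  classical
  haveI : Fact t.Prime := ⟨ht⟩
  set A : Subgroup G := Subgroup.closure ({x, y} : Set G) with hA
  have hS : ∀ a ∈ ({x, y} : Set G), ∀ b ∈ ({x, y} : Set G), a * b = b * a := by
    rintro a (rfl | rfl) b (rfl | rfl)
    · rfl
    · exact hxy.eq
    · exact hxy.eq.symm
    · rfl
  haveI hAc : IsMulCommutative A := Subgroup.isMulCommutative_closure hS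
  have hcomm : ∀ a ∈ A, ∀ b ∈ A, a * b = b * a := by
    intro a ha b hb
    exact congrArg Subtype.val (mul_comm' (⟨a, ha⟩ : A) ⟨b, hb⟩)
  have hexp : ∀ a ∈ A, a ^ t = 1 := by
    intro a ha
    induction ha using Subgroup.closure_induction with
    | mem a ha =>
      rcases ha with rfl | rfl
      · rw [← hx]; exact pow_orderOf_eq_one _
      · rw [← hy]; exact pow_orderOf_eq_one _
    | one => exact one_pow t
    | mul a b ha hb hat hbt =>
      have hab : Commute a b := hcomm a ha b hb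
      rw [hab.mul_pow, hat, hbt, one_mul]
    | inv a ha hat => rw [inv_pow, hat, inv_one]
  have hpg : IsPGroup t A := by
    intro a
    refine ⟨1, ?_⟩
    rw [pow_one]
    exact Subtype.ext (by simpa using hexp a a.2)
  obtain ⟨n, hn⟩ := hpg.exists_card_eq
  have hxA' : Subgroup.zpowers x ≤ A :=
    Subgroup.zpowers_le.mpr (Subgroup.subset_closure (by simp))
  have hxA : Subgroup.zpowers x < A := by
    refine lt_of_le_of_ne hxA' ?_
    intro h
    apply hyx
    rw [h]
    exact Subgroup.subset_closure (by simp)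
  have hcx : Nat.card (Subgroup.zpowers x) = t := by rw [Nat.card_zpowers, hx]
  have hn2 : 2 ≤ n := by
    by_contra hlt
    have hn1 : n ≤ 1 := by omega
    have h1 : Nat.card A ≤ t := by
      rw [hn]
      calc t ^ n ≤ t ^ 1 := Nat.pow_le_pow_right ht.pos hn1
        _ = t := pow_one t
    exact hxA.ne (Subgroup.eq_of_le_of_card_ge hxA.le (by rw [hcx]; exact h1))
  have hdvd : t ^ 2 ∣ Nat.card A := by rw [hn]; exact pow_dvd_pow t hn2
  obtain ⟨E₀, hE₀⟩ := Sylow.exists_subgroup_card_pow_prime t hdvd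
  refine ⟨E₀.map A.subtype, ⟨⟨?_, ?_⟩, ?_⟩, Subgroup.map_subtype_le E₀⟩
  · constructor
    constructor
    rintro ⟨_, ⟨a, ha, rfl⟩⟩ ⟨_, ⟨b, hb, rfl⟩⟩
    apply Subtype.ext
    exact hcomm a a.2 b b.2
  · rintro _ ⟨a, _, rfl⟩
    exact hexp a a.2
  · rw [Subgroup.card_map_of_injective A.subtype_injective, hE₀]

/-- a non-cyclic elementary abelian group contains a rank-2 subgroup -/
theorem exists_rk2_of_not_isCyclic [Finite G] {t : ℕ} (ht : t.Prime) {M : Subgroup G}
    (hM : IsElementaryAbelian t M) (hnc : ¬ IsCyclic M) : ∃ E : Subgroup G, Rk2 t E ∧ E ≤ M := by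
  classical
  haveI : Fact t.Prime := ⟨ht⟩
  have hpg : IsPGroup t M := by
    intro a
    refine ⟨1, ?_⟩
    rw [pow_one]
    exact Subtype.ext (by simpa using hM.2 a a.2)
  obtain ⟨n, hn⟩ := hpg.exists_card_eq
  have hn2 : 2 ≤ n := by
    by_contra hlt
    have hn1 : n ≤ 1 := by omega
    apply hnc
    interval_cases n
    · rw [pow_zero] at hn
      haveI : Subsingleton M := (Nat.card_eq_one_iff_unique.mp hn).1
      exact isCyclic_of_subsingleton
    · rw [pow_one] at hn
      exact isCyclic_of_prime_card hn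
  have hdvd : t ^ 2 ∣ Nat.card M := by rw [hn]; exact pow_dvd_pow t hn2
  obtain ⟨E₀, hE₀⟩ := Sylow.exists_subgroup_card_pow_prime t hdvd
  refine ⟨E₀.map M.subtype, ⟨⟨?_, ?_⟩, ?_⟩, Subgroup.map_subtype_le E₀⟩
  · haveI := hM.1
    constructor
    constructor
    rintro ⟨_, ⟨a, ha, rfl⟩⟩ ⟨_, ⟨b, hb, rfl⟩⟩
    apply Subtype.ext
    show (a : G) * (b : G) = (b : G) * (a : G)
    exact congrArg Subtype.val (mul_comm' a b)
  · rintro _ ⟨a, _, rfl⟩
    exact hM.2 a a.2
  · rw [Subgroup.card_map_of_injective M.subtype_injective, hE₀]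

/-- an element of prime order `r` acting non-trivially on a group of prime order `s`:
`r ∣ s - 1` -/
theorem dvd_sub_one_of_act [Finite G] {r s : ℕ} (hr : r.Prime) (hs : s.Prime) {x b : G}
    (hx : orderOf x = r) (hb : orderOf b = s)
    (hn : x ∈ Subgroup.normalizer ((Subgroup.zpowers b : Subgroup G) : Set G))
    (hnc : ¬ Commute x b) : r ∣ s - 1 := by
  classical
  haveI : Fact r.Prime := ⟨hr⟩
  set Z : Subgroup G := Subgroup.zpowers b with hZ
  have hZc : Nat.card Z = s := by rw [hZ, Nat.card_zpowers, hb]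
  let f := Z.normalizerMonoidHom
  let x' : Subgroup.normalizer (Z : Set G) := ⟨x, hn⟩
  have hx' : orderOf x' = r := by
    rw [← hx]; exact Subgroup.orderOf_mk x hn
  have h1 : orderOf (f x') ∣ r := hx' ▸ orderOf_map_dvd f x'
  have h2 : f x' ≠ 1 := by
    intro h
    apply hnc
    have h3 : x' ∈ f.ker := h
    rw [Subgroup.normalizerMonoidHom_ker, Subgroup.mem_subgroupOf] at h3
    exact (Subgroup.mem_centralizer_iff.mp h3 b (Subgroup.mem_zpowers b)).symm
  have h3 : orderOf (f x') = r := by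
    rcases (Nat.dvd_prime hr).mp h1 with h | h
    · exact absurd (orderOf_eq_one_iff.mp h) h2
    · exact h
  have h4 : orderOf (f x') ∣ Nat.card (MulAut Z) := orderOf_dvd_natCard _
  haveI : IsCyclic Z := by
    haveI : Fact (Nat.card Z).Prime := by rw [hZc]; exact ⟨hs⟩
    exact isCyclic_of_prime_card rfl
  rw [IsCyclic.card_mulAut, hZc, Nat.totient_prime hs, h3] at h4
  exact h4

end Cfsg.Agent.Lib.Helper2.SolvTri
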