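import Mathlib
import Cfsg.Agent.Lib.Helper2.SolvTriB
import Cfsg.Agent.Lib.Helper5.BG139a
import Cfsg.Agent.S3765

set_option autoImplicit false
set_option linter.style.haveILetI false

/-! S3814 tools, part C: the coprime Hall-Higman lemma S3765 in the shape used (abelian `Q`),
conjugation into Hall subgroups. -/

namespace Cfsg.Agent.Lib.Helper2.SolvTri

open Cfsg Cfsg.Agent.Lib.Helper7

universe u

variable {G : Type u} [Group G]

theorem exists_mul_of_mem_sup' {H N : Subgroup G} (hLE : H ≤ Subgroup.normalizer (N : Set G))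
    {x : G} (hx : x ∈ H ⊔ N) : ∃ h ∈ H, ∃ n ∈ N, x = h * n := by
  have h1 : x ∈ ((H ⊔ N : Subgroup G) : Set G) := hx
  rw [Subgroup.coe_mul_of_left_le_normalizer_right H N hLE] at h1
  obtain ⟨h, hh, n, hn, rfl⟩ := Set.mem_mul.mp h1
  exact ⟨h, hh, n, hn, rfl⟩

theorem conj_mem_centralizer_of_mem_normalizer {V : Subgroup G} {c z : G}
    (hc : c ∈ Subgroup.normalizer (V : Set G)) (hz : z ∈ Subgroup.centralizer (V : Set G)) :
    c * z * c⁻¹ ∈ Subgroup.centralizer (V : Set G) := by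
  rw [Subgroup.mem_centralizer_iff]
  intro v hv
  have hv' : c⁻¹ * v * c ∈ V := by
    have := (Subgroup.mem_normalizer_iff.mp (Subgroup.inv_mem _ hc) v).mp hv
    simpa using this
  have h1 := Subgroup.mem_centralizer_iff.mp hz _ hv'
  calc v * (c * z * c⁻¹) = c * ((c⁻¹ * v * c) * z) * c⁻¹ := by group
    _ = c * (z * (c⁻¹ * v * c)) * c⁻¹ := by rw [h1]
    _ = c * z * c⁻¹ * v := by group

/-- (T1)/(NS), abelian form of S3765: `y` of prime order `u` normalises an abelian `t`-group `Q`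
acting faithfully on the elementary abelian `v`-group `V`, and does not centralise `Q`; then `y`
has a non-trivial fixed point on `V`. -/
theorem hh_abelian [Finite G] {v t u : ℕ} (hv : v.Prime) (ht : t.Prime) (hu : u.Prime)
    (hvt : v ≠ t) (hvu : v ≠ u) (htu : t ≠ u) {V Q : Subgroup G} {y : G}
    (hV : IsElementaryAbelian v V) (hV1 : V ≠ ⊥) (hQ : IsPGroup t Q) (hQc : IsMulCommutative Q)
    (hQV : Q ≤ Subgroup.normalizer (V : Set G)) (hyV : y ∈ Subgroup.normalizer (V : Set G))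
    (hyQ : y ∈ Subgroup.normalizer (Q : Set G)) (hy : orderOf y = u)
    (hfaith : Q ⊓ Subgroup.centralizer (V : Set G) = ⊥)
    (hnc : ¬ Q ≤ Subgroup.centralizer {y}) : Sing V y := by
  classical
  set X : Subgroup G := Subgroup.zpowers y with hX
  have hXc : Nat.card X = u := by rw [hX, Nat.card_zpowers, hy]
  have hXQ : X ≤ Subgroup.normalizer (Q : Set G) := Subgroup.zpowers_le.mpr hyQ
  have hXV : X ≤ Subgroup.normalizer (V : Set G) := Subgroup.zpowers_le.mpr hyV
  -- a non-trivial power of `y` centralising `Q` forces `y` to centralise `Q`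
  have hpow : ∀ a ∈ X, (∀ b ∈ Q, a * b = b * a) → a = 1 := by
    intro a ha hab
    by_contra ha1
    apply hnc
    intro b hb
    rw [Subgroup.mem_centralizer_iff]
    rintro _ rfl
    have h1 : Commute b a := (hab b hb).symm
    exact (commute_of_commute_pow hu hy ha ha1 h1).symm.eq
  have hXfaith : X ⊓ Subgroup.centralizer (Q : Set G) = ⊥ := by
    rw [eq_bot_iff]
    rintro a ⟨haX, haC⟩
    rw [Subgroup.mem_bot]
    apply hpow a haX
    intro b hb
    exact (Subgroup.mem_centralizer_iff.mp haC b hb).symm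
  have hfaith' : (X ⊔ Q) ⊓ Subgroup.centralizer (V : Set G) = ⊥ := by
    rw [eq_bot_iff]
    rintro g ⟨hgXQ, hgC⟩
    rw [Subgroup.mem_bot]
    obtain ⟨a, ha, b, hb, rfl⟩ := exists_mul_of_mem_sup' hXQ hgXQ
    -- `a * b` commutes with every element of `Q`
    have hcomm : ∀ c ∈ Q, (a * b) * c = c * (a * b) := by
      intro c hc
      -- the commutator lies in `Q` and centralises `V`
      have h1 : (a * b) * c * (a * b)⁻¹ * c⁻¹ ∈ Q ⊓ Subgroup.centralizer (V : Set G) := by
        refine ⟨?_, ?_⟩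
        · have h2 : a * (b * c * b⁻¹) * a⁻¹ ∈ Q :=
            (Subgroup.mem_normalizer_iff.mp (hXQ ha) _).mp (Q.mul_mem (Q.mul_mem hb hc) (Q.inv_mem hb))
          have e : (a * b) * c * (a * b)⁻¹ * c⁻¹ = a * (b * c * b⁻¹) * a⁻¹ * c⁻¹ := by group
          rw [e]
          exact Q.mul_mem h2 (Q.inv_mem hc)
        · -- `c (a b)⁻¹ c⁻¹` centralises `V` since the centraliser of `V` is normalised by `Q`
          have h3 : c * (a * b)⁻¹ * c⁻¹ ∈ Subgroup.centralizer (V : Set G) :=
            conj_mem_centralizer_of_mem_normalizer (hQV hc) (Subgroup.inv_mem _ hgC)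
          have e : (a * b) * c * (a * b)⁻¹ * c⁻¹ = (a * b) * (c * (a * b)⁻¹ * c⁻¹) := by group
          rw [e]
          exact Subgroup.mul_mem _ hgC h3
      rw [hfaith, Subgroup.mem_bot] at h1
      have e : (a * b) * c = ((a * b) * c * (a * b)⁻¹ * c⁻¹) * (c * (a * b)) := by group
      rw [e, h1, one_mul]
    have ha1 : a = 1 := by
      apply hpow a ha
      intro c hc
      have hbc : b * c = c * b := congrArg Subtype.val (mul_comm' (⟨b, hb⟩ : Q) ⟨c, hc⟩)
      have h2 := hcomm c hc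
      -- a b c = c a b and b c = c b give a c = c a
      have : a * c = c * a := by
        have e1 : a * c = (a * b * c) * b⁻¹ := by
          rw [mul_assoc a b c, hbc]; group
        rw [e1, h2]; group
      exact this
    subst ha1
    rw [one_mul] at hgC ⊢
    have : b ∈ Q ⊓ Subgroup.centralizer (V : Set G) := ⟨hb, hgC⟩
    rwa [hfaith, Subgroup.mem_bot] at this
  have hmain := Cfsg.Agent.S3765.result hv ht hu hvt hvu htu X Q V hXc hQ hXQ hXfaith hV hV1 hXV hQV
    hfaith' (fun _ _ => hQc)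
  by_contra hcon
  apply hmain
  rw [eq_bot_iff]
  rintro x ⟨hxV, hxC⟩
  rw [Subgroup.mem_bot]
  by_contra hx1
  apply hcon
  refine ⟨x, hxV, hx1, ?_⟩
  exact (Subgroup.mem_centralizer_iff.mp hxC y (Subgroup.mem_zpowers y))

theorem Rk2.cj {t : ℕ} {E : Subgroup G} (hE : Rk2 t E) (k : G) : Rk2 t (cj k E) := by
  refine ⟨⟨?_, ?_⟩, ?_⟩
  · haveI := hE.1.1
    constructor
    constructor
    rintro ⟨_, ⟨a, ha, rfl⟩⟩ ⟨_, ⟨b, hb, rfl⟩⟩
    apply Subtype.ext
    have hab : a * b = b * a := congrArg Subtype.val (mul_comm' (⟨a, ha⟩ : E) ⟨b, hb⟩)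
    show (MulAut.conj k) a * (MulAut.conj k) b = (MulAut.conj k) b * (MulAut.conj k) a
    rw [← map_mul, ← map_mul, hab]
  · rintro _ ⟨a, ha, rfl⟩
    show ((MulAut.conj k) a) ^ t = 1
    rw [← map_pow, hE.1.2 a ha, map_one]
  · rw [card_cj]; exact hE.2

/-- conjugating an element with `π`-order into a Hall `π`-subgroup -/
theorem exists_conj_mem_hall [Finite G] {K H : Subgroup G} (hsolv : Group.IsSolvable ↥K)
    (π : Set ℕ) (hH : IsPiHallOf π H K) {g : G} (hg : g ∈ K)
    (hπ : ∀ p : ℕ, p.Prime → p ∣ orderOf g → p ∈ π) : ∃ k ∈ K, k * g * k⁻¹ ∈ H := by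
  obtain ⟨k, hk, hle⟩ := Cfsg.Agent.Lib.Helper5.BG139.exists_cj_le_hall hsolv π hH
    (U := Subgroup.zpowers g) (Subgroup.zpowers_le.mpr hg)
    (by intro p hp hd; rw [Nat.card_zpowers] at hd; exact hπ p hp hd)
  exact ⟨k, hk, hle ⟨g, Subgroup.mem_zpowers g, rfl⟩⟩

theorem orderOf_conj' (k g : G) : orderOf (k * g * k⁻¹) = orderOf g := by
  have : k * g * k⁻¹ = (MulAut.conj k) g := rfl
  rw [this, MulEquiv.orderOf_eq]

end Cfsg.Agent.Lib.Helper2.SolvTri
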