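import Mathlib
import Cfsg.Agent.Lib.Helper2.SolvTriC

set_option autoImplicit false
set_option linter.style.haveILetI false

/-! S3814, Case 1 (`F(G) = P`, `G = P ⋊ K`): the shared setting `C1` and its first consequences
(T1), (P1), (T2).  Symmetric in the three primes of `τ`. -/

namespace Cfsg.Agent.Lib.Helper2.SolvTri

open Cfsg Cfsg.Agent.Lib.Helper7

universe u

variable {G : Type u} [Group G]

theorem mem_normalizer_inf_centralizer {P : Subgroup G} {e y : G}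
    (heP : e ∈ Subgroup.normalizer (P : Set G)) (hey : Commute e y) :
    e ∈ Subgroup.normalizer ((P ⊓ Subgroup.centralizer {y} : Subgroup G) : Set G) := by
  have key : ∀ (f : G), f ∈ Subgroup.normalizer (P : Set G) → Commute f y → ∀ v : G,
      v ∈ P ⊓ Subgroup.centralizer {y} → f * v * f⁻¹ ∈ P ⊓ Subgroup.centralizer {y} := by
    intro f hfP hfy v hv
    obtain ⟨h1, h2⟩ := Subgroup.mem_inf.mp hv
    refine Subgroup.mem_inf.mpr ⟨(Subgroup.mem_normalizer_iff.mp hfP v).mp h1, ?_⟩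
    rw [Subgroup.mem_centralizer_singleton_iff] at h2 ⊢
    have hvy : Commute v y := h2
    exact ((hfy.mul_left hvy).mul_left hfy.inv_left).eq
  rw [Subgroup.mem_normalizer_iff]
  intro v
  constructor
  · exact key e heP hey v
  · intro h
    have := key e⁻¹ (Subgroup.inv_mem _ heP) hey.inv_left _ h
    have e2 : e⁻¹ * (e * v * e⁻¹) * e⁻¹⁻¹ = v := by group
    rwa [e2] at this

/-- the Case 1 setting: `P` a normal elementary abelian `p`-subgroup, `K` a solvable `τ`-group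
(`τ` three primes, `p ∉ τ`) acting faithfully on `P`; all pair orders on `τ` occur in `K`, no element
of `G` has order `p t u` or `t u v`; `K` contains `C_t × C_t` for each `t ∈ τ`; minimality; (T2). -/
structure C1 (p : ℕ) (τ : Finset ℕ) (P K : Subgroup G) : Prop where
  hp : p.Prime
  hτ : ∀ t ∈ τ, t.Prime
  hpτ : p ∉ τ
  card3 : τ.card = 3
  Pn : P.Normal
  Pea : IsElementaryAbelian p P
  Pne : P ≠ ⊥
  Kτ : ∀ t : ℕ, t.Prime → t ∣ Nat.card K → t ∈ τ
  solv : Group.IsSolvable ↥K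
  faith : K ⊓ Subgroup.centralizer (P : Set G) = ⊥
  irr : ∀ V : Subgroup G, V ≤ P → K ≤ Subgroup.normalizer (V : Set G) → V = ⊥ ∨ V = P
  pair : ∀ t ∈ τ, ∀ u ∈ τ, t ≠ u → ∃ g ∈ K, orderOf g = t * u
  noP : ∀ t ∈ τ, ∀ u ∈ τ, t ≠ u → ∀ g : G, orderOf g ≠ p * t * u
  no3 : ∀ t ∈ τ, ∀ u ∈ τ, ∀ v ∈ τ, t ≠ u → u ≠ v → t ≠ v → ∀ g : G, orderOf g ≠ t * u * v
  rk2 : ∀ t ∈ τ, ∃ E : Subgroup G, E ≤ K ∧ Rk2 t E
  min : ∀ K₁ : Subgroup G, K₁ ≤ K → (∀ t ∈ τ, ∀ u ∈ τ, t ≠ u → ∃ g ∈ K₁, orderOf g = t * u) →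
    (∀ t ∈ τ, ∃ y ∈ K₁, orderOf y = t ∧ Sing P y) → K₁ = K
  t2 : ∀ u ∈ τ, ∀ v ∈ τ, ∀ v' ∈ τ, u ≠ v → u ≠ v' → v ≠ v' → ∀ y ∈ K, orderOf y = u → Sing P y →
    ∀ x ∈ K, orderOf x = v → Commute x y → ∀ x' ∈ K, orderOf x' = v' → Commute x' y → False

namespace C1

variable {p : ℕ} {τ : Finset ℕ} {P K : Subgroup G}

theorem ne_p (c : C1 p τ P K) {t : ℕ} (ht : t ∈ τ) : t ≠ p := by
  rintro rfl; exact c.hpτ ht

theorem le_normalizer_P (c : C1 p τ P K) (X : Subgroup G) : X ≤ Subgroup.normalizer (P : Set G) := by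
  haveI := c.Pn
  rw [Subgroup.normalizer_eq_top]
  exact le_top

theorem mem_normalizer_P (c : C1 p τ P K) (x : G) : x ∈ Subgroup.normalizer (P : Set G) :=
  c.le_normalizer_P ⊤ (Subgroup.mem_top x)

theorem isPGroup_P (c : C1 p τ P K) : IsPGroup p P := by
  intro a
  refine ⟨1, ?_⟩
  rw [pow_one]
  exact Subtype.ext (by simpa using c.Pea.2 a a.2)

/-- orders of elements of `K` are prime to `p` -/
theorem not_dvd_card_K [Finite G] (c : C1 p τ P K) : ¬ p ∣ Nat.card K :=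
  fun h => c.hpτ (c.Kτ p c.hp h)

/-- every non-identity element of `P` has order `p` -/
theorem orderOf_of_mem_P (c : C1 p τ P K) {v : G} (hv : v ∈ P) (hv1 : v ≠ 1) : orderOf v = p :=
  orderOf_eq_prime_of_pow c.hp hv1 (c.Pea.2 v hv)

/-- the centraliser of `y` in `P` -/
theorem sing_iff (y : G) : Sing P y ↔ P ⊓ Subgroup.centralizer {y} ≠ ⊥ := by
  constructor
  · rintro ⟨v, hv, hv1, hc⟩ h
    have : v ∈ P ⊓ Subgroup.centralizer {y} :=
      ⟨hv, Subgroup.mem_centralizer_iff.mpr (by rintro _ rfl; exact hc.eq)⟩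
    rw [h, Subgroup.mem_bot] at this
    exact hv1 this
  · intro h
    by_contra hcon
    apply h
    rw [eq_bot_iff]
    rintro v ⟨hv, hvC⟩
    rw [Subgroup.mem_bot]
    by_contra hv1
    exact hcon ⟨v, hv, hv1, Subgroup.mem_centralizer_iff.mp hvC y rfl⟩

/-- (P1)/(T2 ii): an element of prime order `u ∈ τ` centralising a rank-2 `t`-group, `t ∈ τ`,
`t ≠ u`, is non-singular -/
theorem not_sing_of_rk2 [Finite G] (c : C1 p τ P K) {t u : ℕ} (ht : t ∈ τ) (hu : u ∈ τ)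
    (htu : t ≠ u) {E : Subgroup G} (hE : Rk2 t E) {y : G} (hy : orderOf y = u)
    (hEy : E ≤ Subgroup.centralizer {y}) : ¬ Sing P y := by
  intro hs
  have htp := c.hτ t ht
  have hup := c.hτ u hu
  set V : Subgroup G := P ⊓ Subgroup.centralizer {y} with hV
  have hV1 : V ≠ ⊥ := (sing_iff (P := P) y).mp hs
  have hEV : E ≤ Subgroup.normalizer (V : Set G) := by
    intro e he
    have hey : Commute e y := (Subgroup.mem_centralizer_iff.mp (hEy he) y rfl).symm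
    exact mem_normalizer_inf_centralizer (c.mem_normalizer_P e) hey
  have hcop : ¬ t ∣ Nat.card V := by
    intro hd
    have h1 : Nat.card V ∣ Nat.card P := Subgroup.card_dvd_of_le inf_le_left
    haveI : Fact p.Prime := ⟨c.hp⟩
    obtain ⟨n, hn⟩ := c.isPGroup_P.exists_card_eq
    rw [hn] at h1
    have h2 : t ∣ p ^ n := hd.trans h1
    exact c.ne_p ht ((Nat.prime_dvd_prime_iff_eq htp c.hp).mp (htp.dvd_of_dvd_pow h2))
  obtain ⟨e, heE, he1, v, hvV, hv1, hev⟩ := hE.exists_fixed htp hEV hV1 hcop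
  have hvy : Commute v y := (Subgroup.mem_centralizer_iff.mp hvV.2 y rfl).symm
  have hey : Commute e y := (Subgroup.mem_centralizer_iff.mp (hEy heE) y rfl).symm
  have ho := orderOf_mul_mul c.hp htp hup (c.ne_p ht).symm (c.ne_p hu).symm htu
    (c.orderOf_of_mem_P hvV.1 hv1) (hE.orderOf_eq htp heE he1) hy hev.symm hvy hey
  exact c.noP t ht u hu htu _ ho

/-- a rank-2 `t`-subgroup of `K` (`t ∈ τ`) contains a singular element -/
theorem exists_sing_of_rk2 [Finite G] (c : C1 p τ P K) {t : ℕ} (ht : t ∈ τ) {E : Subgroup G}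
    (hE : Rk2 t E) : ∃ e ∈ E, orderOf e = t ∧ Sing P e := by
  have htp := c.hτ t ht
  have hcop : ¬ t ∣ Nat.card P := by
    intro hd
    haveI : Fact p.Prime := ⟨c.hp⟩
    obtain ⟨n, hn⟩ := c.isPGroup_P.exists_card_eq
    rw [hn] at hd
    exact c.ne_p ht ((Nat.prime_dvd_prime_iff_eq htp c.hp).mp (htp.dvd_of_dvd_pow hd))
  obtain ⟨e, heE, he1, v, hvP, hv1, hev⟩ :=
    hE.exists_fixed htp (c.le_normalizer_P E) c.Pne hcop
  exact ⟨e, heE, hE.orderOf_eq htp heE he1, v, hvP, hv1, hev⟩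

/-- (T1): `y ∈ K` of prime order `u ∈ τ` normalising but not centralising an abelian `t`-subgroup
`Q ≤ K` is singular -/
theorem sing_of_not_centralize [Finite G] (c : C1 p τ P K) {t u : ℕ} (ht : t ∈ τ) (hu : u ∈ τ)
    (htu : t ≠ u) {Q : Subgroup G} (hQK : Q ≤ K) (hQ : IsPGroup t Q) (hQc : IsMulCommutative Q)
    {y : G} (hy : orderOf y = u) (hyQ : y ∈ Subgroup.normalizer (Q : Set G))
    (hnc : ¬ Q ≤ Subgroup.centralizer {y}) : Sing P y := by
  refine hh_abelian c.hp (c.hτ t ht) (c.hτ u hu) (c.ne_p ht).symm (c.ne_p hu).symm htu c.Pea c.Pne hQ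
    hQc (c.le_normalizer_P Q) (c.mem_normalizer_P y) hyQ hy ?_ hnc
  rw [eq_bot_iff, ← c.faith]
  exact inf_le_inf_right _ hQK

end C1

end Cfsg.Agent.Lib.Helper2.SolvTri
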