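import Mathlib
import Cfsg.Agent.Lib.Helper2.SolvTriC1a
import Cfsg.Agent.Lib.Helper7.Wielandt2

set_option autoImplicit false
set_option linter.style.haveILetI false

/-! S3814, Case 1: relative minimal normal subgroups of a solvable subgroup are elementary abelian;
the three primes of `τ`. -/

namespace Cfsg.Agent.Lib.Helper2.SolvTri

open Cfsg Cfsg.Agent.Lib.Helper7
open scoped commutatorElement

universe u

variable {G : Type u} [Group G]

theorem le_normalizer_commutator_self {M K : Subgroup G}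
    (h : K ≤ Subgroup.normalizer (M : Set G)) : K ≤ Subgroup.normalizer ((⁅M, M⁆ : Subgroup G) : Set G) := by
  intro k hk
  rw [Subgroup.mem_normalizer_iff_map_conj_eq] 
  rw [Subgroup.map_commutator]
  have := (Subgroup.mem_normalizer_iff_map_conj_eq).mp (h hk)
  rw [this]

/-- a minimal normal subgroup of a solvable subgroup is commutative -/
theorem minNormalIn_isMulCommutative {M K : Subgroup G} (hM : IsMinNormalIn M K)
    (hsolv : Group.IsSolvable ↥K) : IsMulCommutative M := by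
  obtain ⟨hMK, hKM, hM1, hmin⟩ := hM
  rw [← Subgroup.commutator_self_eq_bot_iff]
  rcases hmin ⁅M, M⁆ (Subgroup.commutator_le_self M) (le_normalizer_commutator_self hKM) with h | h
  · exact h
  · exfalso
    obtain ⟨n, hn⟩ := hsolv.solvable
    have key : ∀ k : ℕ, M ≤ (derivedSeries ↥K k).map K.subtype := by
      intro k
      induction k with
      | zero =>
        rw [derivedSeries_zero, ← MonoidHom.range_eq_map, Subgroup.range_subtype]
        exact hMK
      | succ k ih =>
        rw [derivedSeries_succ, Subgroup.map_commutator, ← h]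
        exact Subgroup.commutator_mono ih ih
    apply hM1
    rw [eq_bot_iff]
    have := key n
    rwa [hn, Subgroup.map_bot] at this

/-- a minimal normal subgroup of a solvable subgroup is elementary abelian -/
theorem minNormalIn_exists_elemAb [Finite G] {M K : Subgroup G} (hM : IsMinNormalIn M K)
    (hsolv : Group.IsSolvable ↥K) :
    ∃ t : ℕ, t.Prime ∧ IsElementaryAbelian t M ∧ t ∣ Nat.card M := by
  have hc := minNormalIn_isMulCommutative hM hsolv
  obtain ⟨hMK, hKM, hM1, hmin⟩ := hM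
  have hcard : Nat.card M ≠ 1 := by
    rw [Ne, Subgroup.card_eq_one]; exact hM1
  obtain ⟨t, ht, htd⟩ := Nat.exists_prime_and_dvd hcard
  have hcomm : ∀ a ∈ M, ∀ b ∈ M, Commute a b := by
    intro a ha b hb
    exact congrArg Subtype.val (mul_comm' (⟨a, ha⟩ : M) ⟨b, hb⟩)
  let Ω : Subgroup G :=
    { carrier := {x | x ∈ M ∧ x ^ t = 1}
      one_mem' := ⟨M.one_mem, one_pow t⟩
      mul_mem' := by
        rintro a b ⟨ha, hat⟩ ⟨hb, hbt⟩
        refine ⟨M.mul_mem ha hb, ?_⟩
        rw [(hcomm a ha b hb).mul_pow, hat, hbt, one_mul]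
      inv_mem' := by
        rintro a ⟨ha, hat⟩
        exact ⟨M.inv_mem ha, by rw [inv_pow, hat, inv_one]⟩ }
  have hΩM : Ω ≤ M := fun x hx => hx.1
  have hKΩ : K ≤ Subgroup.normalizer (Ω : Set G) := by
    intro k hk
    rw [Subgroup.mem_normalizer_iff]
    intro x
    constructor
    · rintro ⟨hxM, hxt⟩
      exact ⟨(Subgroup.mem_normalizer_iff.mp (hKM hk) x).mp hxM, by rw [conj_pow, hxt]; group⟩
    · rintro ⟨hxM, hxt⟩
      refine ⟨(Subgroup.mem_normalizer_iff.mp (hKM hk) x).mpr hxM, ?_⟩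
      rw [conj_pow] at hxt
      have : x ^ t = k⁻¹ * (k * x ^ t * k⁻¹) * k := by group
      rw [this, hxt]; group
  obtain ⟨z, hzM, hzt⟩ := exists_orderOf_eq_of_dvd_card ht htd
  have hΩ1 : Ω ≠ ⊥ := by
    intro h
    have hzΩ : z ∈ Ω := ⟨hzM, by rw [← hzt]; exact pow_orderOf_eq_one z⟩
    rw [h, Subgroup.mem_bot] at hzΩ
    rw [hzΩ, orderOf_one] at hzt
    exact ht.one_lt.ne hzt
  have hΩeq : Ω = M := (hmin Ω hΩM hKΩ).resolve_left hΩ1
  refine ⟨t, ht, ⟨hc, ?_⟩, htd⟩
  intro a ha
  rw [← hΩeq] at ha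
  exact ha.2

theorem isPGroup_of_elemAb {t : ℕ} {M : Subgroup G}
    (hM : IsElementaryAbelian t M) : IsPGroup t M := by
  intro a
  refine ⟨1, ?_⟩
  rw [pow_one]
  exact Subtype.ext (by simpa using hM.2 a a.2)

/-- the other two primes of `τ` -/
theorem exists_other_two {τ : Finset ℕ} (h3 : τ.card = 3) {q : ℕ} (hq : q ∈ τ) :
    ∃ r s : ℕ, r ∈ τ ∧ s ∈ τ ∧ q ≠ r ∧ q ≠ s ∧ r ≠ s ∧ ∀ t ∈ τ, t = q ∨ t = r ∨ t = s := by
  classical
  have h2 : (τ.erase q).card = 2 := by rw [Finset.card_erase_of_mem hq, h3]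
  obtain ⟨r, s, hrs, he⟩ := Finset.card_eq_two.mp h2
  have hr : r ∈ τ.erase q := by rw [he]; simp
  have hs : s ∈ τ.erase q := by rw [he]; simp
  refine ⟨r, s, Finset.mem_of_mem_erase hr, Finset.mem_of_mem_erase hs,
    (Finset.ne_of_mem_erase hr).symm, (Finset.ne_of_mem_erase hs).symm, hrs, ?_⟩
  intro t ht
  by_cases htq : t = q
  · exact Or.inl htq
  · right
    have : t ∈ τ.erase q := Finset.mem_erase.mpr ⟨htq, ht⟩
    rw [he] at this
    simpa using this

end Cfsg.Agent.Lib.Helper2.SolvTri
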