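import Mathlib
import Cfsg.Agent.Lib.Helper2.SolvTriC1b
import Cfsg.Agent.Lib.Helper5.SolvTriA

set_option autoImplicit false
set_option linter.style.haveILetI false

/-! S3814, Case 1, non-cyclic branch: the setting `NC` (`K = M H`, `M` a non-cyclic minimal normal
`q`-subgroup, `H` a Hall `q'`-subgroup) and its basic facts (a), (b), (c). -/

namespace Cfsg.Agent.Lib.Helper2.SolvTri

open Cfsg Cfsg.Agent.Lib.Helper7 Cfsg.Agent.Lib.Helper4.BG8

universe u

variable {G : Type u} [Group G]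

theorem centralizer_zpowers_eq (d : G) :
    Subgroup.centralizer ((Subgroup.zpowers d : Subgroup G) : Set G) = Subgroup.centralizer {d} := by
  apply le_antisymm
  · exact Subgroup.centralizer_le (by
      intro x hx
      rw [Set.mem_singleton_iff] at hx
      rw [hx]
      exact Subgroup.mem_zpowers d)
  · intro x hx
    rw [Subgroup.mem_centralizer_iff]
    rintro _ ⟨k, rfl⟩
    have h1 : Commute d x := Subgroup.mem_centralizer_iff.mp hx d rfl
    exact (h1.zpow_left k).eq

theorem le_normalizer_centralizer' {M H : Subgroup G}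
    (h : H ≤ Subgroup.normalizer (M : Set G)) :
    H ≤ Subgroup.normalizer ((Subgroup.centralizer (M : Set G) : Subgroup G) : Set G) := by
  intro k hk
  rw [Subgroup.mem_normalizer_iff]
  intro z
  constructor
  · intro hz
    exact conj_mem_centralizer_of_mem_normalizer (h hk) hz
  · intro hz
    have := conj_mem_centralizer_of_mem_normalizer (Subgroup.inv_mem _ (h hk)) hz
    have e : k⁻¹ * (k * z * k⁻¹) * k⁻¹⁻¹ = z := by group
    rwa [e] at this

theorem le_normalizer_inf {A C H : Subgroup G} (hA : H ≤ Subgroup.normalizer (A : Set G))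
    (hC : H ≤ Subgroup.normalizer (C : Set G)) :
    H ≤ Subgroup.normalizer ((A ⊓ C : Subgroup G) : Set G) := by
  intro k hk
  rw [Subgroup.mem_normalizer_iff]
  intro z
  rw [Subgroup.mem_inf, Subgroup.mem_inf, ← Subgroup.mem_normalizer_iff.mp (hA hk) z,
    ← Subgroup.mem_normalizer_iff.mp (hC hk) z]

/-- the situation of the non-cyclic branch after Step 0 -/
structure NC (p : ℕ) (τ : Finset ℕ) (P K : Subgroup G) (q r s : ℕ) (M H : Subgroup G) : Prop where
  c : C1 p τ P K
  hq : q ∈ τ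
  hr : r ∈ τ
  hs : s ∈ τ
  hqr : q ≠ r
  hqs : q ≠ s
  hrs : r ≠ s
  hτ3 : ∀ t ∈ τ, t = q ∨ t = r ∨ t = s
  hM : IsMinNormalIn M K
  Mea : IsElementaryAbelian q M
  EM : ∃ E : Subgroup G, E ≤ M ∧ Rk2 q E
  hH : IsPiHallOf {t | t ≠ q} H K
  KMH : M ⊔ H = K

namespace NC

variable {p : ℕ} {τ : Finset ℕ} {P K : Subgroup G} {q r s : ℕ} {M H : Subgroup G}

theorem symm (n : NC p τ P K q r s M H) : NC p τ P K q s r M H where
  c := n.c
  hq := n.hq
  hr := n.hs
  hs := n.hr
  hqr := n.hqs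
  hqs := n.hqr
  hrs := n.hrs.symm
  hτ3 := fun t ht => by rcases n.hτ3 t ht with h | h | h <;> simp [h]
  hM := n.hM
  Mea := n.Mea
  EM := n.EM
  hH := n.hH
  KMH := n.KMH

theorem qP (n : NC p τ P K q r s M H) : q.Prime := n.c.hτ q n.hq
theorem rP (n : NC p τ P K q r s M H) : r.Prime := n.c.hτ r n.hr
theorem sP (n : NC p τ P K q r s M H) : s.Prime := n.c.hτ s n.hs

theorem HK (n : NC p τ P K q r s M H) : H ≤ K := n.hH.1
theorem MK (n : NC p τ P K q r s M H) : M ≤ K := n.hM.1
theorem KM (n : NC p τ P K q r s M H) : K ≤ Subgroup.normalizer (M : Set G) := n.hM.2.1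
theorem HM (n : NC p τ P K q r s M H) : H ≤ Subgroup.normalizer (M : Set G) := n.HK.trans n.KM
theorem M1 (n : NC p τ P K q r s M H) : M ≠ ⊥ := n.hM.2.2.1
theorem Mpg (n : NC p τ P K q r s M H) : IsPGroup q M := isPGroup_of_elemAb n.Mea

theorem solvH (n : NC p τ P K q r s M H) : Group.IsSolvable ↥H := by
  haveI := n.c.solv
  exact Group.isSolvable_of_isSolvable_injective (f := Subgroup.inclusion n.HK)
    (Subgroup.inclusion_injective n.HK)

/-- the primes dividing `|H|` are `r` and `s` -/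
theorem prime_dvd_card_H [Finite G] (n : NC p τ P K q r s M H) {t : ℕ} (ht : t.Prime)
    (hd : t ∣ Nat.card H) : t = r ∨ t = s := by
  have h1 : t ∈ τ := n.c.Kτ t ht (hd.trans (Subgroup.card_dvd_of_le n.HK))
  have h2 : t ≠ q := n.hH.2.1 t ht hd
  rcases n.hτ3 t h1 with h | h | h
  · exact absurd h h2
  · exact Or.inl h
  · exact Or.inr h

theorem not_dvd_card_M [Finite G] (n : NC p τ P K q r s M H) {t : ℕ} (ht : t.Prime) (htq : t ≠ q) :
    ¬ t ∣ Nat.card M := by
  intro hd
  haveI : Fact q.Prime := ⟨n.qP⟩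
  obtain ⟨k, hk⟩ := n.Mpg.exists_card_eq
  rw [hk] at hd
  exact htq ((Nat.prime_dvd_prime_iff_eq ht n.qP).mp (ht.dvd_of_dvd_pow hd))

/-- `M` is irreducible under `H` -/
theorem irrM (n : NC p τ P K q r s M H) {X : Subgroup G} (hX : X ≤ M)
    (hHX : H ≤ Subgroup.normalizer (X : Set G)) : X = ⊥ ∨ X = M := by
  apply n.hM.2.2.2 X hX
  rw [← n.KMH]
  apply sup_le _ hHX
  intro m hm
  rw [Subgroup.mem_normalizer_iff]
  intro x
  haveI := n.Mea.1
  constructor
  · intro hx
    have hc : m * x = x * m := congrArg Subtype.val (mul_comm' (⟨m, hm⟩ : M) ⟨x, hX hx⟩)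
    have : m * x * m⁻¹ = x := by rw [hc]; group
    rwa [this]
  · intro hx
    have hxM : x ∈ M := by
      have h1 : m * x * m⁻¹ ∈ M := hX hx
      have : x = m⁻¹ * (m * x * m⁻¹) * m := by group
      rw [this]
      exact M.mul_mem (M.mul_mem (M.inv_mem hm) h1) hm
    have hc : m * x = x * m := congrArg Subtype.val (mul_comm' (⟨m, hm⟩ : M) ⟨x, hxM⟩)
    have : m * x * m⁻¹ = x := by rw [hc]; group
    rwa [this] at hx

/-- (a1): an element of prime order `u ∈ {r, s}` centralising `M` is non-singular -/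
theorem not_sing_of_centralize [Finite G] (n : NC p τ P K q r s M H) {u : ℕ} (hu : u ∈ τ)
    (huq : u ≠ q) {x : G} (hx : orderOf x = u) (hxM : x ∈ Subgroup.centralizer (M : Set G)) :
    ¬ Sing P x := by
  obtain ⟨E, hEM, hE⟩ := n.EM
  refine n.c.not_sing_of_rk2 n.hq hu huq.symm hE hx ?_
  intro e he
  rw [Subgroup.mem_centralizer_iff]
  rintro _ rfl
  exact (Subgroup.mem_centralizer_iff.mp hxM e (hEM he)).symm

/-- (a2): an element of `K` of prime order `u ∈ {r, s}` not centralising `M` is singular -/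
theorem sing_of_not_centralize [Finite G] (n : NC p τ P K q r s M H) {u : ℕ} (hu : u ∈ τ)
    (huq : u ≠ q) {x : G} (hxK : x ∈ K) (hx : orderOf x = u)
    (hxM : x ∉ Subgroup.centralizer (M : Set G)) : Sing P x := by
  refine n.c.sing_of_not_centralize n.hq hu huq.symm n.MK n.Mpg n.Mea.1 hx (n.KM hxK) ?_
  intro h
  apply hxM
  rw [Subgroup.mem_centralizer_iff]
  intro m hm
  exact (Subgroup.mem_centralizer_iff.mp (h hm) x rfl).symm

/-- (b'): no rank-2 `u`-subgroup (`u ∈ {r, s}`) centralises `M` -/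
theorem no_rk2_centralize [Finite G] (n : NC p τ P K q r s M H) {u : ℕ} (hu : u ∈ τ)
    (huq : u ≠ q) {E : Subgroup G} (hE : Rk2 u E)
    (hEM : E ≤ Subgroup.centralizer (M : Set G)) : False := by
  obtain ⟨e, heE, heo, hes⟩ := n.c.exists_sing_of_rk2 hu hE
  exact n.not_sing_of_centralize hu huq heo (hEM heE) hes

/-- (c): `x ∈ K` of prime order `u` not centralising `M`, commuting with an element of the third
prime order and with a non-identity element of `M`: impossible -/
theorem no_three [Finite G] (n : NC p τ P K q r s M H) {u v : ℕ} (hu : u ∈ τ) (hv : v ∈ τ)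
    (huq : u ≠ q) (hvq : v ≠ q) (huv : u ≠ v) {x : G} (hxK : x ∈ K) (hx : orderOf x = u)
    (hxM : x ∉ Subgroup.centralizer (M : Set G)) {z : G} (hzK : z ∈ K) (hz : orderOf z = v)
    (hzx : Commute z x) {m : G} (hm : m ∈ M) (hm1 : m ≠ 1) (hmx : Commute m x) : False := by
  have hs := n.sing_of_not_centralize hu huq hxK hx hxM
  have hmo : orderOf m = q := orderOf_eq_prime_of_pow n.qP hm1 (n.Mea.2 m hm)
  exact n.c.t2 u hu q n.hq v hv huq huv hvq.symm x hxK hx hs m (n.MK hm) hmo hmx z hzK hz hzx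

/-- (b): `C_H(M)` does not contain elements of order `r` and of order `s` -/
theorem not_both_centralize [Finite G] (n : NC p τ P K q r s M H) {x y : G} (hxK : x ∈ K)
    (hx : orderOf x = r) (hxM : x ∈ Subgroup.centralizer (M : Set G)) (hyK : y ∈ K)
    (hy : orderOf y = s) (hyM : y ∈ Subgroup.centralizer (M : Set G)) : False := by
  obtain ⟨E, hEM, hE⟩ := n.EM
  obtain ⟨m, hmE, hmo, hms⟩ := n.c.exists_sing_of_rk2 n.hq hE
  have hmM : m ∈ M := hEM hmE
  exact n.c.t2 q n.hq r n.hr s n.hs n.hqr n.hqs n.hrs m (n.MK hmM) hmo hms x hxK hx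
    (Subgroup.mem_centralizer_iff.mp hxM m hmM).symm y hyK hy
    (Subgroup.mem_centralizer_iff.mp hyM m hmM).symm

/-- conjugating elements of `K` of order prime to `q` into `H` -/
theorem exists_conj_mem_H [Finite G] (n : NC p τ P K q r s M H) {g : G} (hg : g ∈ K)
    (hgq : ¬ q ∣ orderOf g) : ∃ k ∈ K, k * g * k⁻¹ ∈ H := by
  refine exists_conj_mem_hall n.c.solv _ n.hH hg ?_
  intro t ht hd
  show t ≠ q
  rintro rfl
  exact hgq hd

/-- a rank-2 `u`-subgroup of `H`, `u ∈ {r, s}` -/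
theorem exists_rk2_le_H [Finite G] (n : NC p τ P K q r s M H) {u : ℕ} (hu : u ∈ τ) (huq : u ≠ q) :
    ∃ E : Subgroup G, E ≤ H ∧ Rk2 u E := by
  obtain ⟨E, hEK, hE⟩ := n.c.rk2 u hu
  have hup := n.c.hτ u hu
  obtain ⟨k, hk, hle⟩ := Cfsg.Agent.Lib.Helper5.BG139.exists_cj_le_hall n.c.solv _ n.hH hEK (by
    intro t ht hd
    show t ≠ q
    rw [hE.2] at hd
    have : t = u := (Nat.prime_dvd_prime_iff_eq ht hup).mp (ht.dvd_of_dvd_pow hd)
    rw [this]; exact huq)
  exact ⟨cj k E, hle, hE.cj k⟩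

end NC

end Cfsg.Agent.Lib.Helper2.SolvTri
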