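import Mathlib
import Cfsg.Agent.Lib.Helper2.SolvTriC1c

set_option autoImplicit false
set_option linter.style.haveILetI false

/-! S3814, Case 1, non-cyclic branch: Step 0 (`K = M H` by minimality) and Step A (no minimal
normal subgroup of `H` is non-cyclic). -/

namespace Cfsg.Agent.Lib.Helper2.SolvTri

open Cfsg Cfsg.Agent.Lib.Helper7 Cfsg.Agent.Lib.Helper4.BG8

universe u

variable {G : Type u} [Group G]

/-- all pair orders from the three basic ones -/
theorem pairs_of_three {τ : Finset ℕ} {q r s : ℕ} (hτ3 : ∀ t ∈ τ, t = q ∨ t = r ∨ t = s)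
    {K₁ : Subgroup G} (hqr : ∃ g ∈ K₁, orderOf g = q * r) (hqs : ∃ g ∈ K₁, orderOf g = q * s)
    (hrs : ∃ g ∈ K₁, orderOf g = r * s) :
    ∀ t ∈ τ, ∀ u ∈ τ, t ≠ u → ∃ g ∈ K₁, orderOf g = t * u := by
  intro t ht u hu htu
  rcases hτ3 t ht with rfl | rfl | rfl <;> rcases hτ3 u hu with rfl | rfl | rfl
  · exact absurd rfl htu
  · exact hqr
  · exact hqs
  · rw [mul_comm]; exact hqr
  · exact absurd rfl htu
  · exact hrs
  · rw [mul_comm]; exact hqs
  · rw [mul_comm]; exact hrs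
  · exact absurd rfl htu

variable {p : ℕ} {τ : Finset ℕ} {P K : Subgroup G}

/-- Step 0: a non-cyclic minimal normal subgroup `M` of `K` gives the setting `NC` -/
theorem C1.exists_NC [Finite G] (c : C1 p τ P K) {M : Subgroup G} (hM : IsMinNormalIn M K)
    (hnc : ¬ IsCyclic M) : ∃ (q r s : ℕ) (H : Subgroup G), NC p τ P K q r s M H := by
  obtain ⟨q, hqp, hMea, hqd⟩ := minNormalIn_exists_elemAb hM c.solv
  have hqτ : q ∈ τ := c.Kτ q hqp (hqd.trans (Subgroup.card_dvd_of_le hM.1))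
  obtain ⟨r, s, hr, hs, hqr, hqs, hrs, hτ3⟩ := exists_other_two c.card3 hqτ
  obtain ⟨EM, hEM, hEMle⟩ := exists_rk2_of_not_isCyclic hqp hMea hnc
  obtain ⟨H, hH, -⟩ := Cfsg.Agent.Lib.Helper5.BG139.exists_hall_ge c.solv {t | t ≠ q}
    (U := ⊥) bot_le (by
      intro t ht hd
      rw [Subgroup.card_bot] at hd
      exact absurd (Nat.dvd_one.mp hd) ht.one_lt.ne')
  have hrp := c.hτ r hr
  have hsp := c.hτ s hs
  have hMpg : IsPGroup q M := isPGroup_of_elemAb hMea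
  have hnd : ∀ t : ℕ, t.Prime → t ≠ q → ¬ t ∣ Nat.card M := by
    intro t ht htq hd
    haveI : Fact q.Prime := ⟨hqp⟩
    obtain ⟨k, hk⟩ := hMpg.exists_card_eq
    rw [hk] at hd
    exact htq ((Nat.prime_dvd_prime_iff_eq ht hqp).mp (ht.dvd_of_dvd_pow hd))
  -- rank-2 subgroups of `H`
  have hrk : ∀ u ∈ τ, u ≠ q → ∃ E : Subgroup G, E ≤ H ∧ Rk2 u E := by
    intro u hu huq
    obtain ⟨E, hEK, hE⟩ := c.rk2 u hu
    have hup := c.hτ u hu
    obtain ⟨k, hk, hle⟩ := Cfsg.Agent.Lib.Helper5.BG139.exists_cj_le_hall c.solv _ hH hEK (by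
      intro t ht hd
      show t ≠ q
      rw [hE.2] at hd
      have : t = u := (Nat.prime_dvd_prime_iff_eq ht hup).mp (ht.dvd_of_dvd_pow hd)
      rw [this]; exact huq)
    exact ⟨cj k E, hle, hE.cj k⟩
  have hMHK : M ⊔ H ≤ K := sup_le hM.1 hH.1
  -- the order `q u`, `u ∈ {r, s}`, inside `M H`
  have hqu : ∀ u ∈ τ, u ≠ q → ∃ g ∈ M ⊔ H, orderOf g = q * u := by
    intro u hu huq
    obtain ⟨E, hEH, hE⟩ := hrk u hu huq
    have hup := c.hτ u hu
    obtain ⟨e, heE, he1, m, hmM, hm1, hem⟩ := hE.exists_fixed hup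
      ((hEH.trans hH.1).trans hM.2.1) hM.2.2.1 (hnd u hup huq)
    refine ⟨m * e, Subgroup.mul_mem _ (Subgroup.mem_sup_left hmM)
      (Subgroup.mem_sup_right (hEH heE)), ?_⟩
    exact orderOf_mul_two hqp hup huq.symm (orderOf_eq_prime_of_pow hqp hm1 (hMea.2 m hmM))
      (hE.orderOf_eq hup heE he1) hem.symm
  have hKeq : M ⊔ H = K := by
    apply c.min (M ⊔ H) hMHK
    · apply pairs_of_three hτ3 (hqu r hr hqr.symm) (hqu s hs hqs.symm)
      obtain ⟨g, hgK, hg⟩ := c.pair r hr s hs hrs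
      obtain ⟨k, hk, hkg⟩ := exists_conj_mem_hall c.solv _ hH hgK (by
        intro t ht hd
        show t ≠ q
        rw [hg] at hd
        rcases (Nat.Prime.dvd_mul ht).mp hd with h | h
        · rw [(Nat.prime_dvd_prime_iff_eq ht hrp).mp h]; exact hqr.symm
        · rw [(Nat.prime_dvd_prime_iff_eq ht hsp).mp h]; exact hqs.symm)
      exact ⟨k * g * k⁻¹, Subgroup.mem_sup_right hkg, by rw [orderOf_conj', hg]⟩
    · intro t ht
      rcases hτ3 t ht with rfl | rfl | rfl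
      · obtain ⟨e, heE, heo, hes⟩ := c.exists_sing_of_rk2 ht hEM
        exact ⟨e, Subgroup.mem_sup_left (hEMle heE), heo, hes⟩
      · obtain ⟨E, hEH, hE⟩ := hrk _ ht hqr.symm
        obtain ⟨e, heE, heo, hes⟩ := c.exists_sing_of_rk2 ht hE
        exact ⟨e, Subgroup.mem_sup_right (hEH heE), heo, hes⟩
      · obtain ⟨E, hEH, hE⟩ := hrk _ ht hqs.symm
        obtain ⟨e, heE, heo, hes⟩ := c.exists_sing_of_rk2 ht hE
        exact ⟨e, Subgroup.mem_sup_right (hEH heE), heo, hes⟩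
  exact ⟨q, r, s, H, ⟨c, hqτ, hr, hs, hqr, hqs, hrs, hτ3, hM, hMea, ⟨EM, hEMle, hEM⟩, hH, hKeq⟩⟩

namespace NC

variable {q r s : ℕ} {M H : Subgroup G}

/-- an element of `H` of order `r s` -/
theorem exists_rs [Finite G] (n : NC p τ P K q r s M H) : ∃ g ∈ H, orderOf g = r * s := by
  obtain ⟨g, hgK, hg⟩ := n.c.pair r n.hr s n.hs n.hrs
  obtain ⟨k, hk, hkg⟩ := n.exists_conj_mem_H hgK (by
    rw [hg]
    intro hd
    rcases (Nat.Prime.dvd_mul n.qP).mp hd with h | h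
    · exact n.hqr ((Nat.prime_dvd_prime_iff_eq n.qP n.rP).mp h)
    · exact n.hqs ((Nat.prime_dvd_prime_iff_eq n.qP n.sP).mp h))
  exact ⟨k * g * k⁻¹, hkg, by rw [orderOf_conj', hg]⟩

/-- Step A: a minimal normal subgroup of `H` which is an `r`-group contains no rank-2 subgroup -/
theorem stepA [Finite G] (n : NC p τ P K q r s M H) {B : Subgroup G} (hB : IsMinNormalIn B H)
    (hBea : IsElementaryAbelian r B) {E : Subgroup G} (hEB : E ≤ B) (hE : Rk2 r E) : False := by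
  obtain ⟨hBH, hHB, hB1, hBmin⟩ := hB
  have hBpg : IsPGroup r B := isPGroup_of_elemAb hBea
  -- (A.2) `B ∩ C(M) = 1`
  have hBC : B ⊓ Subgroup.centralizer (M : Set G) = ⊥ := by
    rcases hBmin (B ⊓ Subgroup.centralizer (M : Set G)) inf_le_left
      (le_normalizer_inf hHB (le_normalizer_centralizer' n.HM)) with h | h
    · exact h
    · exfalso
      exact n.no_rk2_centralize n.hr n.hqr.symm hE (hEB.trans (h ▸ inf_le_right))
  obtain ⟨g, hgH, hg⟩ := n.exists_rs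
  obtain ⟨hρ, hσ, hρσ⟩ := exists_parts n.rP n.sP hg
  set σ := g ^ r with hσdef
  set ρ := g ^ s with hρdef
  have hσH : σ ∈ H := H.pow_mem hgH r
  have hρH : ρ ∈ H := H.pow_mem hgH s
  -- (A.3) `σ` does not centralise `B`
  have hσB : ¬ B ≤ Subgroup.centralizer {σ} := by
    intro hcen
    obtain ⟨b, hbE, hb1, m, hmM, hm1, hbm⟩ := hE.exists_fixed n.rP
      ((hEB.trans hBH).trans n.HM) n.M1 (n.not_dvd_card_M n.rP n.hqr.symm)
    have hbM : b ∉ Subgroup.centralizer (M : Set G) := by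
      intro h
      have : b ∈ B ⊓ Subgroup.centralizer (M : Set G) := ⟨hEB hbE, h⟩
      rw [hBC, Subgroup.mem_bot] at this
      exact hb1 this
    have hσb : Commute σ b := (Subgroup.mem_centralizer_iff.mp (hcen (hEB hbE)) σ rfl)
    exact n.no_three n.hr n.hs n.hqr.symm n.hqs.symm n.hrs (n.HK (hBH (hEB hbE)))
      (hE.orderOf_eq n.rP hbE hb1) hbM (n.HK hσH) hσ hσb hmM hm1 hbm.symm
  -- (A.4) `σ` has a fixed point on `M`
  obtain ⟨m, hmM, hm1, hσm⟩ : Sing M σ :=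
    hh_abelian n.qP n.rP n.sP n.hqr n.hqs n.hrs n.Mea n.M1 hBpg hBea.1 (hBH.trans n.HM)
      (n.HM hσH) (hHB hσH) hσ hBC hσB
  -- (A.5) `σ` is singular
  have hσs : Sing P σ :=
    n.c.sing_of_not_centralize n.hr n.hs n.hrs (hBH.trans n.HK) hBpg hBea.1 hσ (hHB hσH) hσB
  -- (A.6)
  exact n.c.t2 s n.hs q n.hq r n.hr n.hqs.symm n.hrs.symm n.hqr σ (n.HK hσH) hσ hσs m (n.MK hmM)
    (orderOf_eq_prime_of_pow n.qP hm1 (n.Mea.2 m hmM)) hσm.symm ρ (n.HK hρH) hρ hρσ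

end NC

end Cfsg.Agent.Lib.Helper2.SolvTri
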