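import Mathlib
import Cfsg.Agent.Lib.Helper2.SolvTriC1d

set_option autoImplicit false
set_option linter.style.haveILetI false

/-! S3814, Case 1, non-cyclic branch: minimal normal subgroups of `H` have prime order; the Fitting
subgroup of `H`; the common tail of Steps B and C. -/

namespace Cfsg.Agent.Lib.Helper2.SolvTri

open Cfsg Cfsg.Agent.Lib.Helper7 Cfsg.Agent.Lib.Helper4 Cfsg.Agent.Lib.Helper4.BG8

universe u

variable {G : Type u} [Group G]

namespace NC

variable {p : ℕ} {τ : Finset ℕ} {P K : Subgroup G} {q r s : ℕ} {M H : Subgroup G}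

/-- every minimal normal subgroup of `H` has prime order `r` or `s` -/
theorem minNormal_cyclic [Finite G] (n : NC p τ P K q r s M H) {B : Subgroup G}
    (hB : IsMinNormalIn B H) :
    ∃ b : G, B = Subgroup.zpowers b ∧ (orderOf b = r ∨ orderOf b = s) := by
  obtain ⟨t, htp, hBea, htd⟩ := minNormalIn_exists_elemAb hB n.solvH
  have ht : t = r ∨ t = s :=
    n.prime_dvd_card_H htp (htd.trans (Subgroup.card_dvd_of_le hB.1))
  by_cases hcyc : IsCyclic B
  · obtain ⟨g, hg⟩ := hcyc.exists_generator
    have hpow : ∀ x ∈ B, ∃ k : ℤ, x = (g : G) ^ k := by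
      intro x hx
      obtain ⟨k, hk⟩ := Subgroup.mem_zpowers_iff.mp (hg ⟨x, hx⟩)
      refine ⟨k, ?_⟩
      have := congrArg Subtype.val hk
      simpa using this.symm
    refine ⟨(g : G), ?_, ?_⟩
    · apply le_antisymm
      · intro x hx
        obtain ⟨k, hk⟩ := hpow x hx
        exact Subgroup.mem_zpowers_iff.mpr ⟨k, hk.symm⟩
      · exact Subgroup.zpowers_le.mpr g.2
    · have hg1 : (g : G) ≠ 1 := by
        intro h
        apply hB.2.2.1
        rw [eq_bot_iff]
        intro x hx
        obtain ⟨k, hk⟩ := hpow x hx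
        rw [hk, h, one_zpow]
        exact Subgroup.mem_bot.mpr rfl
      have := orderOf_eq_prime_of_pow htp hg1 (hBea.2 g g.2)
      rcases ht with rfl | rfl
      · exact Or.inl this
      · exact Or.inr this
  · exfalso
    obtain ⟨E, hE, hEB⟩ := exists_rk2_of_not_isCyclic htp hBea hcyc
    rcases ht with rfl | rfl
    · exact n.stepA hB hBea hEB hE
    · exact n.symm.stepA hB hBea hEB hE

/-- if `O_r(H) = 1` then `F(H) = O_s(H)` contains its centraliser in `H` -/
theorem centralizer_opOf_le [Finite G] (n : NC p τ P K q r s M H) (hr0 : opOf r H = ⊥) :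
    H ⊓ Subgroup.centralizer (opOf s H : Set G) ≤ opOf s H := by
  have h1 := centralizer_fittingOf_le n.solvH
  have h2 : fittingOf H = opOf s H := by
    rw [fittingOf_eq_iSup]
    apply le_antisymm
    · apply iSup_le
      intro w
      by_cases hws : (w : ℕ) = s
      · rw [hws]
      · have hbot : opOf (w : ℕ) H = ⊥ := by
          by_cases hwr : (w : ℕ) = r
          · rw [hwr]; exact hr0
          · by_contra hne
            have hd := dvd_card_of_isPGroup_ne_bot w.2 (opOf_isPGroup w H) hne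
            rcases n.prime_dvd_card_H w.2 (hd.trans (Subgroup.card_dvd_of_le (opOf_le w H)))
              with h | h
            · exact hwr h
            · exact hws h
        rw [hbot]; exact bot_le
    · exact le_iSup_of_le ⟨s, n.sP⟩ le_rfl
  rwa [h2] at h1

theorem H_ne_bot [Finite G] (n : NC p τ P K q r s M H) : H ≠ ⊥ := by
  obtain ⟨E, hEH, hE⟩ := n.exists_rk2_le_H n.hr n.hqr.symm
  intro h
  rw [h] at hEH
  have h1 : E = ⊥ := le_bot_iff.mp hEH
  have h2 := hE.2
  rw [h1, Subgroup.card_bot] at h2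
  have := n.rP.one_lt
  nlinarith

/-- `O_r(H)` and `O_s(H)` are not both trivial -/
theorem opOf_ne_bot [Finite G] (n : NC p τ P K q r s M H) (hr0 : opOf r H = ⊥)
    (hs0 : opOf s H = ⊥) : False := by
  have h1 := n.centralizer_opOf_le hr0
  rw [hs0] at h1
  apply n.H_ne_bot
  rw [eq_bot_iff]
  intro x hx
  apply h1
  refine Subgroup.mem_inf.mpr ⟨hx, ?_⟩
  rw [Subgroup.mem_centralizer_iff]
  intro y hy
  have : y = 1 := hy
  rw [this, one_mul, mul_one]

/-- the common tail of Steps B and C -/
theorem tail [Finite G] (n : NC p τ P K q r s M H) (hr0 : opOf r H = ⊥) {d : G}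
    (hd : orderOf d = s)
    (hdn : H ≤ Subgroup.normalizer ((Subgroup.zpowers d : Subgroup G) : Set G))
    {E : Subgroup G} (hEH : E ≤ H) (hE : Rk2 r E) {e₁ : G} (he₁ : e₁ ∈ E) (hne : ¬ Commute e₁ d)
    (hstar : ∀ e ∈ E, ¬ Commute e d → opOf s H ⊓ Subgroup.centralizer {e} = ⊥) : False := by
  have hrp := n.rP
  have hsp := n.sP
  -- `e₂ ∈ E` centralising `d`
  have hZ1 : (Subgroup.zpowers d : Subgroup G) ≠ ⊥ := by
    intro h
    have : d ∈ (⊥ : Subgroup G) := h ▸ Subgroup.mem_zpowers d
    rw [Subgroup.mem_bot] at this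
    rw [this, orderOf_one] at hd
    exact hsp.one_lt.ne hd
  have hZc : ¬ r ∣ Nat.card (Subgroup.zpowers d : Subgroup G) := by
    rw [Nat.card_zpowers, hd]
    intro h
    exact n.hrs ((Nat.prime_dvd_prime_iff_eq hrp hsp).mp h)
  obtain ⟨e₂, he₂E, he₂1, v, hvZ, hv1, he₂v⟩ := hE.exists_fixed hrp (hEH.trans hdn) hZ1 hZc
  have he₂d : Commute e₂ d := commute_of_commute_pow hsp hd hvZ hv1 he₂v
  have he₂o : orderOf e₂ = r := hE.orderOf_eq hrp he₂E he₂1
  -- `O_s(H) ≤ C(e₂)`
  have hS1 : ¬ r ∣ Nat.card (opOf s H) := by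
    intro h
    haveI : Fact s.Prime := ⟨hsp⟩
    obtain ⟨k, hk⟩ := (opOf_isPGroup s H).exists_card_eq
    rw [hk] at h
    exact n.hrs ((Nat.prime_dvd_prime_iff_eq hrp hsp).mp (hrp.dvd_of_dvd_pow h))
  have hle : opOf s H ≤ Subgroup.centralizer {e₂} := by
    apply hE.le_of_forall hrp (hEH.trans (le_normalizer_opOf s H)) hS1
    intro e heE he1
    by_cases hez : e ∈ Subgroup.zpowers e₂
    · have h2 : e₂ ∈ Subgroup.zpowers e := mem_zpowers_of_mem_zpowers hrp he₂o hez he1
      obtain ⟨k, hk⟩ := Subgroup.mem_zpowers_iff.mp h2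
      intro x hx
      rw [Subgroup.mem_centralizer_singleton_iff]
      have hxe : Commute x e :=
        Subgroup.mem_centralizer_singleton_iff.mp (Subgroup.mem_inf.mp hx).2
      rw [← hk]
      exact (hxe.zpow_right k).eq
    · have hsup := hE.sup_zpowers_eq hrp he₂E heE he₂1 hez
      have hned : ¬ Commute e d := by
        intro hed
        apply hne
        have hle2 : E ≤ Subgroup.centralizer {d} := by
          rw [← hsup]
          apply sup_le
          · rw [Subgroup.zpowers_le, Subgroup.mem_centralizer_singleton_iff]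
            exact he₂d.eq
          · rw [Subgroup.zpowers_le, Subgroup.mem_centralizer_singleton_iff]
            exact hed.eq
        exact Subgroup.mem_centralizer_singleton_iff.mp (hle2 he₁)
      rw [hstar e heE hned]
      exact bot_le
  -- `e₂ ∈ C_H(O_s(H)) ≤ O_s(H)`
  have he₂S : e₂ ∈ opOf s H := by
    apply n.centralizer_opOf_le hr0
    refine Subgroup.mem_inf.mpr ⟨hEH he₂E, ?_⟩
    rw [Subgroup.mem_centralizer_iff]
    intro x hx
    exact (Subgroup.mem_centralizer_singleton_iff.mp (hle hx))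
  exact eq_one_of_isPGroup_of_orderOf hsp hrp n.hrs (opOf_isPGroup s H) he₂S he₂o

end NC

end Cfsg.Agent.Lib.Helper2.SolvTri
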