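import Mathlib
import Cfsg.Agent.Lib.Helper2.SolvTriC1e

set_option autoImplicit false
set_option linter.style.haveILetI false

/-! S3814, Case 1, non-cyclic branch: Step B (`C_H(M) = 1`). -/

namespace Cfsg.Agent.Lib.Helper2.SolvTri

open Cfsg Cfsg.Agent.Lib.Helper7 Cfsg.Agent.Lib.Helper4 Cfsg.Agent.Lib.Helper4.BG8

universe u

variable {G : Type u} [Group G]

theorem zpowers_comm (d : G) : ∀ a ∈ Subgroup.zpowers d, ∀ b ∈ Subgroup.zpowers d, a * b = b * a := by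
  rintro _ ⟨i, rfl⟩ _ ⟨j, rfl⟩
  exact (Commute.zpow_zpow_self d i j).eq

theorem isPGroup_zpowers {s : ℕ} (hs : s.Prime) {d : G} (hd : orderOf d = s) :
    IsPGroup s (Subgroup.zpowers d) := by
  haveI : Fact s.Prime := ⟨hs⟩
  apply IsPGroup.of_card (n := 1)
  rw [Nat.card_zpowers, hd, pow_one]

theorem zpowers_ne_bot_of_orderOf {s : ℕ} (hs : s.Prime) {d : G} (hd : orderOf d = s) :
    (Subgroup.zpowers d : Subgroup G) ≠ ⊥ := by
  intro h
  have : d ∈ (⊥ : Subgroup G) := h ▸ Subgroup.mem_zpowers d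
  rw [Subgroup.mem_bot] at this
  rw [this, orderOf_one] at hd
  exact hs.one_lt.ne hd

theorem ne_one_of_orderOf {s : ℕ} (hs : s.Prime) {d : G} (hd : orderOf d = s) : d ≠ 1 := by
  rintro rfl
  rw [orderOf_one] at hd
  exact hs.one_lt.ne hd

namespace NC

variable {p : ℕ} {τ : Finset ℕ} {P K : Subgroup G} {q r s : ℕ} {M H : Subgroup G}

/-- Step B, data: if `C_H(M) = 1` and `O_s(H) ≠ 1` -/
theorem stepB_data [Finite G] (n : NC p τ P K q r s M H)
    (hC0 : H ⊓ Subgroup.centralizer (M : Set G) = ⊥) (hS : opOf s H ≠ ⊥) :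
    ∃ d : G, orderOf d = s ∧
      H ≤ Subgroup.normalizer ((Subgroup.zpowers d : Subgroup G) : Set G) ∧ r ∣ s - 1 ∧
      ∃ (E : Subgroup G) (e₁ : G), E ≤ H ∧ Rk2 r E ∧ e₁ ∈ E ∧ ¬ Commute e₁ d ∧
        ∀ e ∈ E, ¬ Commute e d → opOf s H ⊓ Subgroup.centralizer {e} = ⊥ := by
  have hrp := n.rP
  have hsp := n.sP
  obtain ⟨B, hBS, hB⟩ :=
    exists_isMinNormalIn_le (opOf s H) H (opOf_le s H) (le_normalizer_opOf s H) hS
  obtain ⟨d, hBd, hdo⟩ := n.minNormal_cyclic hB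
  have hdS : d ∈ opOf s H := hBS (hBd ▸ Subgroup.mem_zpowers d)
  have hd : orderOf d = s := by
    rcases hdo with h | h
    · exact (eq_one_of_isPGroup_of_orderOf hsp hrp n.hrs (opOf_isPGroup s H) hdS h).elim
    · exact h
  have hdn : H ≤ Subgroup.normalizer ((Subgroup.zpowers d : Subgroup G) : Set G) := hBd ▸ hB.2.1
  have hdH : d ∈ H := opOf_le s H hdS
  have hd1 : d ≠ 1 := ne_one_of_orderOf hsp hd
  have hnc : ∀ x ∈ H, x ≠ 1 → x ∉ Subgroup.centralizer (M : Set G) := by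
    intro x hx hx1 h
    have : x ∈ H ⊓ Subgroup.centralizer (M : Set G) := Subgroup.mem_inf.mpr ⟨hx, h⟩
    rw [hC0, Subgroup.mem_bot] at this
    exact hx1 this
  have hMd : M ⊓ Subgroup.centralizer {d} = ⊥ := by
    rcases n.irrM (X := M ⊓ Subgroup.centralizer {d}) inf_le_left
      (le_normalizer_inf n.HM (by
        rw [← centralizer_zpowers_eq]; exact le_normalizer_centralizer' hdn)) with h | h
    · exact h
    · exfalso
      apply hnc d hdH hd1
      rw [Subgroup.mem_centralizer_iff]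
      intro m hm
      rw [← h] at hm
      exact Subgroup.mem_centralizer_singleton_iff.mp (Subgroup.mem_inf.mp hm).2
  obtain ⟨E, hEH, hE⟩ := n.exists_rk2_le_H n.hr n.hqr.symm
  obtain ⟨e₁, he₁E, he₁1, m, hmM, hm1, he₁m⟩ := hE.exists_fixed hrp (hEH.trans n.HM) n.M1
    (n.not_dvd_card_M hrp n.hqr.symm)
  have he₁o : orderOf e₁ = r := hE.orderOf_eq hrp he₁E he₁1
  have he₁d : ¬ Commute e₁ d := fun hc =>
    n.no_three n.hr n.hs n.hqr.symm n.hqs.symm n.hrs (n.HK (hEH he₁E)) he₁o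
      (hnc e₁ (hEH he₁E) he₁1) (n.HK hdH) hd hc.symm hmM hm1 he₁m.symm
  have hdvd : r ∣ s - 1 := dvd_sub_one_of_act hrp hsp he₁o hd (hdn (hEH he₁E)) he₁d
  refine ⟨d, hd, hdn, hdvd, E, e₁, hEH, hE, he₁E, he₁d, ?_⟩
  intro e heE hed
  have he1 : e ≠ 1 := by
    rintro rfl
    exact hed (Commute.one_left d)
  have heo : orderOf e = r := hE.orderOf_eq hrp heE he1
  obtain ⟨v, hvM, hv1, hev⟩ := Cfsg.Agent.Lib.Helper5.SolvTri.frob_fix n.qP hsp hrp n.hqs n.hqr
    n.hrs.symm M (Subgroup.zpowers d) e (by rw [← heo]; exact pow_orderOf_eq_one e) n.Mea n.M1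
    (zpowers_comm d) (isPGroup_zpowers hsp hd) (zpowers_ne_bot_of_orderOf hsp hd)
    (Subgroup.zpowers_le.mpr (n.HM hdH)) (n.HM (hEH heE)) (hdn (hEH heE))
    (by
      intro d' hd' hd'1 v hv hc
      have hvd : Commute v d := commute_of_commute_pow hsp hd hd' hd'1 hc.symm
      have : v ∈ M ⊓ Subgroup.centralizer {d} :=
        Subgroup.mem_inf.mpr ⟨hv, Subgroup.mem_centralizer_singleton_iff.mpr hvd.eq⟩
      rwa [hMd, Subgroup.mem_bot] at this)
    (by
      intro d' hd' hc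
      by_contra hd'1
      exact hed (commute_of_commute_pow hsp hd hd' hd'1 hc))
  by_contra hne
  have hpg : IsPGroup s (opOf s H ⊓ Subgroup.centralizer {e} : Subgroup G) :=
    (opOf_isPGroup s H).to_le inf_le_left
  obtain ⟨σ, hσ, hσo⟩ :=
    exists_orderOf_eq_of_dvd_card hsp (dvd_card_of_isPGroup_ne_bot hsp hpg hne)
  have hσS : σ ∈ opOf s H := (Subgroup.mem_inf.mp hσ).1
  have hσe : Commute σ e := Subgroup.mem_centralizer_singleton_iff.mp (Subgroup.mem_inf.mp hσ).2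
  exact n.no_three n.hr n.hs n.hqr.symm n.hqs.symm n.hrs (n.HK (hEH heE)) heo
    (hnc e (hEH heE) he1) (n.HK (opOf_le s H hσS)) hσo hσe hvM hv1 hev.symm

/-- Step B: `C_H(M) = 1` is impossible -/
theorem stepB [Finite G] (n : NC p τ P K q r s M H)
    (hC0 : H ⊓ Subgroup.centralizer (M : Set G) = ⊥) : False := by
  by_cases hr0 : opOf r H = ⊥
  · by_cases hs0 : opOf s H = ⊥
    · exact n.opOf_ne_bot hr0 hs0
    · obtain ⟨d, hd, hdn, -, E, e₁, hEH, hE, he₁, hne, hstar⟩ := n.stepB_data hC0 hs0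
      exact n.tail hr0 hd hdn hEH hE he₁ hne hstar
  · by_cases hs0 : opOf s H = ⊥
    · obtain ⟨d, hd, hdn, -, E, e₁, hEH, hE, he₁, hne, hstar⟩ := n.symm.stepB_data hC0 hr0
      exact n.symm.tail hs0 hd hdn hEH hE he₁ hne hstar
    · obtain ⟨_, _, _, h1, _⟩ := n.stepB_data hC0 hs0
      obtain ⟨_, _, _, h2, _⟩ := n.symm.stepB_data hC0 hr0
      have hr2 := n.rP.two_le
      have hs2 := n.sP.two_le
      have h3 := Nat.le_of_dvd (by omega) h1
      have h4 := Nat.le_of_dvd (by omega) h2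
      omega

end NC

end Cfsg.Agent.Lib.Helper2.SolvTri
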