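import Mathlib
import Cfsg.Agent.Lib.Helper2.SolvTriC1f

set_option autoImplicit false
set_option linter.style.haveILetI false

/-! S3814, Case 1, non-cyclic branch: Step C (`C_H(M) ≠ 1`) and the conclusion: `K` has no
non-cyclic minimal normal subgroup. -/

namespace Cfsg.Agent.Lib.Helper2.SolvTri

open Cfsg Cfsg.Agent.Lib.Helper7 Cfsg.Agent.Lib.Helper4 Cfsg.Agent.Lib.Helper4.BG8

universe u

variable {G : Type u} [Group G]

theorem isElementaryAbelian_of_le {p : ℕ} {P V : Subgroup G} (hP : IsElementaryAbelian p P)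
    (hVP : V ≤ P) : IsElementaryAbelian p V := by
  refine ⟨?_, fun a ha => hP.2 a (hVP ha)⟩
  haveI := hP.1
  constructor
  constructor
  intro a b
  apply Subtype.ext
  show (a : G) * (b : G) = (b : G) * (a : G)
  exact congrArg Subtype.val (mul_comm' (⟨a, hVP a.2⟩ : P) ⟨b, hVP b.2⟩)

namespace NC

variable {p : ℕ} {τ : Finset ℕ} {P K : Subgroup G} {q r s : ℕ} {M H : Subgroup G}

/-- Step C, for the ordering in which no element of order `r` of `H` centralises `M` -/
theorem stepC_aux [Finite G] (n : NC p τ P K q r s M H)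
    (hr0 : ∀ x ∈ H, orderOf x = r → x ∉ Subgroup.centralizer (M : Set G))
    (hC0 : H ⊓ Subgroup.centralizer (M : Set G) ≠ ⊥) : False := by
  have hrp := n.rP
  have hsp := n.sP
  have hr2 := hrp.two_le
  have hs2 := hsp.two_le
  set C₀ : Subgroup G := H ⊓ Subgroup.centralizer (M : Set G) with hC₀
  -- `C₀` is an `s`-group
  have hC₀pg : IsPGroup s C₀ := by
    haveI : Fact s.Prime := ⟨hsp⟩
    have hne : Nat.card C₀ ≠ 0 := Nat.card_pos.ne'
    have key : ∀ {t : ℕ}, t.Prime → t ∣ Nat.card C₀ → t = s := by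
      intro t ht hd
      rcases n.prime_dvd_card_H ht (hd.trans (Subgroup.card_dvd_of_le inf_le_left)) with h | h
      · exfalso
        rw [h] at hd
        obtain ⟨x, hx, hxo⟩ := exists_orderOf_eq_of_dvd_card hrp hd
        exact hr0 x (Subgroup.mem_inf.mp hx).1 hxo (Subgroup.mem_inf.mp hx).2
      · exact h
    exact IsPGroup.of_card (Nat.eq_prime_pow_of_unique_prime_dvd hne key)
  have hHC₀ : H ≤ Subgroup.normalizer (C₀ : Set G) :=
    le_normalizer_inf Subgroup.le_normalizer (le_normalizer_centralizer' n.HM)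
  obtain ⟨B, hBC, hB⟩ := exists_isMinNormalIn_le C₀ H inf_le_left hHC₀ hC0
  obtain ⟨c₀, hBc, hco⟩ := n.minNormal_cyclic hB
  have hc₀C : c₀ ∈ C₀ := hBC (hBc ▸ Subgroup.mem_zpowers c₀)
  have hc₀o : orderOf c₀ = s := by
    rcases hco with h | h
    · exact (eq_one_of_isPGroup_of_orderOf hsp hrp n.hrs hC₀pg hc₀C h).elim
    · exact h
  have hc₀H : c₀ ∈ H := (Subgroup.mem_inf.mp hc₀C).1
  have hc₀M : c₀ ∈ Subgroup.centralizer (M : Set G) := (Subgroup.mem_inf.mp hc₀C).2
  have hc₀ns : ¬ Sing P c₀ := n.not_sing_of_centralize n.hs n.hqs.symm hc₀o hc₀M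
  have hdn : H ≤ Subgroup.normalizer ((Subgroup.zpowers c₀ : Subgroup G) : Set G) := hBc ▸ hB.2.1
  obtain ⟨E, hEH, hE⟩ := n.exists_rk2_le_H n.hr n.hqr.symm
  obtain ⟨e₁, he₁E, he₁1, m, hmM, hm1, he₁m⟩ := hE.exists_fixed hrp (hEH.trans n.HM) n.M1
    (n.not_dvd_card_M hrp n.hqr.symm)
  have he₁o : orderOf e₁ = r := hE.orderOf_eq hrp he₁E he₁1
  have he₁c : ¬ Commute e₁ c₀ := fun hc =>
    n.no_three n.hr n.hs n.hqr.symm n.hqs.symm n.hrs (n.HK (hEH he₁E)) he₁o
      (hr0 e₁ (hEH he₁E) he₁o) (n.HK hc₀H) hc₀o hc.symm hmM hm1 he₁m.symm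
  have hdvd : r ∣ s - 1 := dvd_sub_one_of_act hrp hsp he₁o hc₀o (hdn (hEH he₁E)) he₁c
  have hrs' : r ≤ s - 1 := Nat.le_of_dvd (by omega) hdvd
  -- `O_r(H) = 1`
  have hOr : opOf r H = ⊥ := by
    by_contra hne
    obtain ⟨Br, hBrS, hBr⟩ :=
      exists_isMinNormalIn_le (opOf r H) H (opOf_le r H) (le_normalizer_opOf r H) hne
    obtain ⟨b, hBb, hbo'⟩ := n.minNormal_cyclic hBr
    have hbS : b ∈ opOf r H := hBrS (hBb ▸ Subgroup.mem_zpowers b)
    have hbo : orderOf b = r := by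
      rcases hbo' with h | h
      · exact h
      · exact (eq_one_of_isPGroup_of_orderOf hrp hsp n.hrs.symm (opOf_isPGroup r H) hbS h).elim
    have hbH : b ∈ H := opOf_le r H hbS
    have hbn : H ≤ Subgroup.normalizer ((Subgroup.zpowers b : Subgroup G) : Set G) :=
      hBb ▸ hBr.2.1
    have hbs : Sing P b :=
      n.sing_of_not_centralize n.hr n.hqr.symm (n.HK hbH) hbo (hr0 b hbH hbo)
    obtain ⟨Es, hEsH, hEs⟩ := n.exists_rk2_le_H n.hs n.hqs.symm
    refine n.c.not_sing_of_rk2 n.hs n.hr n.hrs.symm hEs hbo ?_ hbs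
    intro e he
    rw [Subgroup.mem_centralizer_singleton_iff]
    by_cases he1 : e = 1
    · rw [he1, one_mul, mul_one]
    · have heo : orderOf e = s := hEs.orderOf_eq hsp he he1
      by_contra hnc
      have h1 : s ∣ r - 1 := dvd_sub_one_of_act hsp hrp heo hbo (hbn (hEsH he)) hnc
      have h2 : s ≤ r - 1 := Nat.le_of_dvd (by omega) h1
      omega
  have hstar : ∀ e ∈ E, ¬ Commute e c₀ → opOf s H ⊓ Subgroup.centralizer {e} = ⊥ := by
    intro e heE hed
    have he1 : e ≠ 1 := by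
      rintro rfl
      exact hed (Commute.one_left c₀)
    have heo : orderOf e = r := hE.orderOf_eq hrp heE he1
    by_contra hne
    have hpg : IsPGroup s (opOf s H ⊓ Subgroup.centralizer {e} : Subgroup G) :=
      (opOf_isPGroup s H).to_le inf_le_left
    obtain ⟨σ, hσ, hσo⟩ :=
      exists_orderOf_eq_of_dvd_card hsp (dvd_card_of_isPGroup_ne_bot hsp hpg hne)
    have hσS : σ ∈ opOf s H := (Subgroup.mem_inf.mp hσ).1
    have hσH : σ ∈ H := opOf_le s H hσS
    have hσe : Commute σ e :=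
      Subgroup.mem_centralizer_singleton_iff.mp (Subgroup.mem_inf.mp hσ).2
    have hσ1 : σ ≠ 1 := ne_one_of_orderOf hsp hσo
    have hσc : Commute σ c₀ := by
      by_contra h
      have h1 : s ∣ s - 1 := dvd_sub_one_of_act hsp hsp hσo hc₀o (hdn hσH) h
      have h2 : s ≤ s - 1 := Nat.le_of_dvd (by omega) h1
      omega
    have hσz : σ ∉ Subgroup.zpowers c₀ := by
      intro h
      obtain ⟨k, hk⟩ := Subgroup.mem_zpowers_iff.mp (mem_zpowers_of_mem_zpowers hsp hc₀o h hσ1)
      apply hed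
      rw [← hk]
      exact (hσe.zpow_left k).symm
    have hσM : σ ∉ Subgroup.centralizer (M : Set G) := by
      intro h
      obtain ⟨E', hE', hle⟩ := exists_rk2_of_commute hsp hc₀o hσo hσc.symm hσz
      refine n.no_rk2_centralize n.hs n.hqs.symm hE' (hle.trans ?_)
      rw [Subgroup.closure_le]
      rintro x (rfl | rfl)
      · exact hc₀M
      · exact h
    have hσs : Sing P σ := n.sing_of_not_centralize n.hs n.hqs.symm (n.HK hσH) hσo hσM
    set V : Subgroup G := P ⊓ Subgroup.centralizer {σ} with hV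
    have hV1 : V ≠ ⊥ := (C1.sing_iff (P := P) σ).mp hσs
    obtain ⟨v, hvV, hv1, hev⟩ := Cfsg.Agent.Lib.Helper5.SolvTri.frob_fix n.c.hp hsp hrp
      (n.c.ne_p n.hs).symm (n.c.ne_p n.hr).symm n.hrs.symm V (Subgroup.zpowers c₀) e
      (by rw [← heo]; exact pow_orderOf_eq_one e)
      (isElementaryAbelian_of_le n.c.Pea inf_le_left) hV1
      (zpowers_comm c₀) (isPGroup_zpowers hsp hc₀o) (zpowers_ne_bot_of_orderOf hsp hc₀o)
      (Subgroup.zpowers_le.mpr
        (mem_normalizer_inf_centralizer (n.c.mem_normalizer_P c₀) hσc.symm))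
      (mem_normalizer_inf_centralizer (n.c.mem_normalizer_P e) hσe.symm) (hdn (hEH heE))
      (by
        intro d' hd' hd'1 v hv hc
        by_contra hv1
        have hvc : Commute v c₀ := commute_of_commute_pow hsp hc₀o hd' hd'1 hc.symm
        exact hc₀ns ⟨v, (Subgroup.mem_inf.mp hv).1, hv1, hvc.symm⟩)
      (by
        intro d' hd' hc
        by_contra hd'1
        exact hed (commute_of_commute_pow hsp hc₀o hd' hd'1 hc))
    have hvP : v ∈ P := (Subgroup.mem_inf.mp hvV).1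
    have hvσ : Commute v σ := Subgroup.mem_centralizer_singleton_iff.mp (Subgroup.mem_inf.mp hvV).2
    have ho := orderOf_mul_mul n.c.hp hsp hrp (n.c.ne_p n.hs).symm (n.c.ne_p n.hr).symm
      n.hrs.symm (n.c.orderOf_of_mem_P hvP hv1) hσo heo hvσ hev.symm hσe
    exact n.c.noP s n.hs r n.hr n.hrs.symm _ ho
  exact n.tail hOr hc₀o hdn hEH hE he₁E he₁c hstar

/-- Step C: `C_H(M) ≠ 1` is impossible -/
theorem stepC [Finite G] (n : NC p τ P K q r s M H)
    (hC0 : H ⊓ Subgroup.centralizer (M : Set G) ≠ ⊥) : False := by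
  by_cases h : ∀ x ∈ H, orderOf x = r → x ∉ Subgroup.centralizer (M : Set G)
  · exact n.stepC_aux h hC0
  · push Not at h
    obtain ⟨x, hxH, hxo, hxM⟩ := h
    apply n.symm.stepC_aux _ hC0
    intro y hyH hyo hyM
    exact n.not_both_centralize (n.HK hxH) hxo hxM (n.HK hyH) hyo hyM

end NC

/-- Case 1 of S3814: `K` has no non-cyclic minimal normal subgroup -/
theorem C1.noncyclic_false [Finite G] {p : ℕ} {τ : Finset ℕ} {P K : Subgroup G} (c : C1 p τ P K)
    {M : Subgroup G} (hM : IsMinNormalIn M K) (hnc : ¬ IsCyclic M) : False := by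
  obtain ⟨q, r, s, H, n⟩ := c.exists_NC hM hnc
  by_cases hC0 : H ⊓ Subgroup.centralizer (M : Set G) = ⊥
  · exact n.stepB hC0
  · exact n.stepC hC0

/-- Case 1 of S3814: every minimal normal subgroup of `K` is cyclic -/
theorem C1.minNormal_isCyclic [Finite G] {p : ℕ} {τ : Finset ℕ} {P K : Subgroup G}
    (c : C1 p τ P K) {M : Subgroup G} (hM : IsMinNormalIn M K) : IsCyclic M := by
  by_contra h
  exact c.noncyclic_false hM h

/-- the same, with the minimality spelled out -/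
theorem C1.minNormal_isCyclic' [Finite G] {p : ℕ} {τ : Finset ℕ} {P K : Subgroup G}
    (c : C1 p τ P K) (M : Subgroup G) (hMK : M ≤ K) (hM1 : M ≠ ⊥)
    (hKM : K ≤ Subgroup.normalizer (M : Set G))
    (hmin : ∀ M' : Subgroup G, M' ≤ M → K ≤ Subgroup.normalizer (M' : Set G) → M' = ⊥ ∨ M' = M) :
    IsCyclic M :=
  c.minNormal_isCyclic ⟨hMK, hKM, hM1, hmin⟩

end Cfsg.Agent.Lib.Helper2.SolvTri
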