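import Mathlib
import Cfsg.Agent.Lib.Helper2.SolvTriC1g
import Cfsg.Agent.Lib.Lead.NormalRankTwo

set_option autoImplicit false
set_option linter.style.haveILetI false

/-! S3814, Case 1, cyclic branch (S2*), PART III: general lemmas. -/

namespace Cfsg.Agent.Lib.Helper2.SolvTri

open Cfsg Cfsg.Agent.Lib.Helper7 Cfsg.Agent.Lib.Helper4 Cfsg.Agent.Lib.Helper4.BG8

universe u

variable {G : Type u} [Group G]

/-- powers of `w x` with `w` in a subgroup `N` normalised by `x` -/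
theorem exists_pow_mul_eq {N : Subgroup G} {x w : G}
    (hx : x ∈ Subgroup.normalizer (N : Set G)) (hw : w ∈ N) (n : ℕ) :
    ∃ v ∈ N, (w * x) ^ n = v * x ^ n := by
  induction n with
  | zero => exact ⟨1, N.one_mem, by simp⟩
  | succ n ih =>
    obtain ⟨v, hv, hvn⟩ := ih
    have hxn : x ^ n ∈ Subgroup.normalizer (N : Set G) := Subgroup.pow_mem _ hx n
    have h1 : x ^ n * w * (x ^ n)⁻¹ ∈ N := (Subgroup.mem_normalizer_iff.mp hxn w).mp hw
    refine ⟨v * (x ^ n * w * (x ^ n)⁻¹), N.mul_mem hv h1, ?_⟩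
    rw [pow_succ, hvn, pow_succ]
    group

/-- a subgroup is normalised by `K` as soon as it is stable under conjugation by `K` -/
theorem le_normalizer_of_conj_mem {K Q : Subgroup G}
    (h : ∀ g ∈ K, ∀ q ∈ Q, g * q * g⁻¹ ∈ Q) : K ≤ Subgroup.normalizer (Q : Set G) := by
  intro g hg
  rw [Subgroup.mem_normalizer_iff]
  intro q
  constructor
  · exact h g hg q
  · intro hq
    have := h g⁻¹ (K.inv_mem hg) _ hq
    have e : g⁻¹ * (g * q * g⁻¹) * g⁻¹⁻¹ = q := by group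
    rwa [e] at this

/-- commutators of elements normalising a cyclic group centralise it -/
theorem commutator_commute_of_normalizer_zpowers {w g₁ g₂ : G}
    (h₁ : g₁ ∈ Subgroup.normalizer ((Subgroup.zpowers w : Subgroup G) : Set G))
    (h₂ : g₂ ∈ Subgroup.normalizer ((Subgroup.zpowers w : Subgroup G) : Set G)) :
    Commute (g₁ * g₂ * g₁⁻¹ * g₂⁻¹) w := by
  -- conjugation by `g` sends `w` to a power of `w`
  have key : ∀ g : G, g ∈ Subgroup.normalizer ((Subgroup.zpowers w : Subgroup G) : Set G) →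
      ∃ a : ℤ, g * w * g⁻¹ = w ^ a := by
    intro g hg
    have := (Subgroup.mem_normalizer_iff.mp hg w).mp (Subgroup.mem_zpowers w)
    obtain ⟨a, ha⟩ := Subgroup.mem_zpowers_iff.mp this
    exact ⟨a, ha.symm⟩
  have conj_zpow : ∀ (g : G) (a : ℤ), g * w ^ a * g⁻¹ = (g * w * g⁻¹) ^ a := by
    intro g a
    have : g * w ^ a * g⁻¹ = (MulAut.conj g) (w ^ a) := rfl
    rw [this, map_zpow]
    rfl
  obtain ⟨a, ha⟩ := key g₁ h₁
  obtain ⟨b, hb⟩ := key g₂ h₂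
  obtain ⟨a', ha'⟩ := key g₁⁻¹ (Subgroup.inv_mem _ h₁)
  obtain ⟨b', hb'⟩ := key g₂⁻¹ (Subgroup.inv_mem _ h₂)
  rw [inv_inv] at ha' hb'
  -- `w = g₁⁻¹ (g₁ w g₁⁻¹) g₁ = (w^a')^a`, so `w ^ (a' * a) = w`
  have e1 : w ^ (a' * a) = w := by
    have : g₁⁻¹ * (g₁ * w * g₁⁻¹) * g₁ = w := by group
    rw [ha] at this
    have h3 := conj_zpow g₁⁻¹ a
    rw [inv_inv] at h3
    rw [h3, ha', ← zpow_mul] at this
    exact this
  have e2 : w ^ (b' * b) = w := by
    have : g₂⁻¹ * (g₂ * w * g₂⁻¹) * g₂ = w := by group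
    rw [hb] at this
    have h3 := conj_zpow g₂⁻¹ b
    rw [inv_inv] at h3
    rw [h3, hb', ← zpow_mul] at this
    exact this
  -- compute the conjugate of `w` by the commutator
  have hc : (g₁ * g₂ * g₁⁻¹ * g₂⁻¹) * w * (g₁ * g₂ * g₁⁻¹ * g₂⁻¹)⁻¹ = w := by
    have s1 : (g₁ * g₂ * g₁⁻¹ * g₂⁻¹) * w * (g₁ * g₂ * g₁⁻¹ * g₂⁻¹)⁻¹ =
        g₁ * (g₂ * (g₁⁻¹ * (g₂⁻¹ * w * g₂) * g₁) * g₂⁻¹) * g₁⁻¹ := by group
    rw [s1, hb']
    have s2 : g₁⁻¹ * w ^ b' * g₁ = (w ^ a') ^ b' := by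
      have := conj_zpow g₁⁻¹ b'
      rw [inv_inv] at this
      rw [this, ha']
    rw [s2, ← zpow_mul]
    have s3 : g₂ * w ^ (a' * b') * g₂⁻¹ = (w ^ b) ^ (a' * b') := by
      rw [conj_zpow, hb]
    rw [s3, ← zpow_mul]
    have s4 : g₁ * w ^ (b * (a' * b')) * g₁⁻¹ = (w ^ a) ^ (b * (a' * b')) := by
      rw [conj_zpow, ha]
    rw [s4, ← zpow_mul]
    have : a * (b * (a' * b')) = (a' * a) * (b' * b) := by ring
    rw [this, zpow_mul, e1, e2]
  show (g₁ * g₂ * g₁⁻¹ * g₂⁻¹) * w = w * (g₁ * g₂ * g₁⁻¹ * g₂⁻¹)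
  calc (g₁ * g₂ * g₁⁻¹ * g₂⁻¹) * w
      = ((g₁ * g₂ * g₁⁻¹ * g₂⁻¹) * w * (g₁ * g₂ * g₁⁻¹ * g₂⁻¹)⁻¹) * (g₁ * g₂ * g₁⁻¹ * g₂⁻¹) := by
        group
    _ = w * (g₁ * g₂ * g₁⁻¹ * g₂⁻¹) := by rw [hc]

/-- a cyclic subgroup contains no rank-2 subgroup -/
theorem Rk2.not_le_of_isCyclic [Finite G] {t : ℕ} (ht : t.Prime) {E U : Subgroup G} (hE : Rk2 t E)
    (hU : IsCyclic U) (hEU : E ≤ U) : False := by
  haveI := hU
  have h1 : IsCyclic (E.subgroupOf U) := inferInstance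
  have e := Subgroup.subgroupOfEquivOfLe hEU
  haveI := h1
  exact hE.not_isCyclic ht (isCyclic_of_surjective e e.surjective)

/-- a non-cyclic `t`-subgroup, `t` odd, contains a rank-2 subgroup -/
theorem exists_rk2_le_of_not_isCyclic [Finite G] {t : ℕ} (ht : t.Prime) (ht2 : t ≠ 2)
    {T : Subgroup G} (hT : IsPGroup t T) (hnc : ¬ IsCyclic T) :
    ∃ E : Subgroup G, E ≤ T ∧ Rk2 t E := by
  haveI : Fact t.Prime := ⟨ht⟩
  obtain ⟨W, -, hWc, hWe, hWcard⟩ := Cfsg.Agent.Lib.Lead.exists_normal_elementary_sq ht2 hT hnc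
  refine ⟨W.map T.subtype, Subgroup.map_subtype_le W, ⟨?_, ?_⟩, ?_⟩
  · haveI := hWc
    constructor
    constructor
    rintro ⟨_, ⟨a, ha, rfl⟩⟩ ⟨_, ⟨b, hb, rfl⟩⟩
    apply Subtype.ext
    show (a : G) * (b : G) = (b : G) * (a : G)
    have := congrArg Subtype.val (mul_comm' (⟨a, ha⟩ : W) ⟨b, hb⟩)
    exact congrArg Subtype.val this
  · rintro _ ⟨a, ha, rfl⟩
    have := hWe a ha
    exact congrArg Subtype.val this
  · rw [Subgroup.card_map_of_injective T.subtype_injective, hWcard]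

variable {p : ℕ} {τ : Finset ℕ} {P K : Subgroup G}

/-- (NS): a non-singular element of `K` of prime order `w ∈ τ` centralises every `t`-subgroup of
`K` (`t ∈ τ` odd) that it normalises -/
theorem C1.le_centralizer_of_not_sing [Finite G] (c : C1 p τ P K) {t w : ℕ} (ht : t ∈ τ)
    (hw : w ∈ τ) (htw : t ≠ w) (ht2 : t ≠ 2) {Q : Subgroup G} (hQK : Q ≤ K) (hQ : IsPGroup t Q)
    {x : G} (hxK : x ∈ K) (hx : orderOf x = w) (hxQ : x ∈ Subgroup.normalizer (Q : Set G))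
    (hns : ¬ Sing P x) : Q ≤ Subgroup.centralizer {x} := by
  by_contra hnc
  apply hns
  have hwp := c.hτ w hw
  set X : Subgroup G := Subgroup.zpowers x with hX
  have hXc : Nat.card X = w := by rw [hX, Nat.card_zpowers, hx]
  have hXQ : X ≤ Subgroup.normalizer (Q : Set G) := Subgroup.zpowers_le.mpr hxQ
  have hXfaith : X ⊓ Subgroup.centralizer (Q : Set G) = ⊥ := by
    rw [eq_bot_iff]
    rintro a ⟨haX, haC⟩
    rw [Subgroup.mem_bot]
    by_contra ha1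
    apply hnc
    intro b hb
    rw [Subgroup.mem_centralizer_singleton_iff]
    have h1 : Commute b a := (Subgroup.mem_centralizer_iff.mp haC b hb)
    exact (commute_of_commute_pow hwp hx haX ha1 h1).eq
  have hfaith' : (X ⊔ Q) ⊓ Subgroup.centralizer (P : Set G) = ⊥ := by
    rw [eq_bot_iff, ← c.faith]
    exact inf_le_inf_right _ (sup_le (Subgroup.zpowers_le.mpr hxK) hQK)
  have hmain := Cfsg.Agent.S3765.result c.hp (c.hτ t ht) hwp (c.ne_p ht).symm (c.ne_p hw).symm htw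
    X Q P hXc hQ hXQ hXfaith c.Pea c.Pne (c.le_normalizer_P X) (c.le_normalizer_P Q) hfaith'
    (fun h2 _ => absurd h2 ht2)
  by_contra hcon
  apply hmain
  rw [eq_bot_iff]
  rintro v ⟨hvP, hvC⟩
  rw [Subgroup.mem_bot]
  by_contra hv1
  apply hcon
  exact ⟨v, hvP, hv1, (Subgroup.mem_centralizer_iff.mp hvC x (Subgroup.mem_zpowers x))⟩

end Cfsg.Agent.Lib.Helper2.SolvTri
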