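import Mathlib
import Cfsg.Agent.Lib.Helper2.SolvTriS2a

set_option autoImplicit false
set_option linter.style.haveILetI false

/-! S3814, Case 1, cyclic branch (S2*), PART III: the setting `B3` (two normal subgroups `<c>`,
`<c'>` of prime orders `t`, `u'`, `O_u(K) = 1`, all elements of order `u` singular, ...), its
symmetry, the Fitting subgroup `O_t(K) O_u'(K)`, and fact (f). -/

namespace Cfsg.Agent.Lib.Helper2.SolvTri

open Cfsg Cfsg.Agent.Lib.Helper7 Cfsg.Agent.Lib.Helper4 Cfsg.Agent.Lib.Helper4.BG8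

universe u

variable {G : Type u} [Group G]

/-- the setting of PART III of the cyclic branch -/
structure B3 (p : ℕ) (τ : Finset ℕ) (P K : Subgroup G) (t w u' : ℕ) (c c' : G) : Prop where
  c1 : C1 p τ P K
  ht : t ∈ τ
  hw : w ∈ τ
  hu' : u' ∈ τ
  htw : t ≠ w
  htu' : t ≠ u'
  hwu' : w ≠ u'
  t2 : t ≠ 2
  u'2 : u' ≠ 2
  hc : c ∈ K
  oc : orderOf c = t
  nc : K ≤ Subgroup.normalizer ((Subgroup.zpowers c : Subgroup G) : Set G)
  hc' : c' ∈ K
  oc' : orderOf c' = u'
  nc' : K ≤ Subgroup.normalizer ((Subgroup.zpowers c' : Subgroup G) : Set G)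
  noOw : ∀ N : Subgroup G, N ≤ K → K ≤ Subgroup.normalizer (N : Set G) → IsPGroup w N → N = ⊥
  singw : ∀ x ∈ K, orderOf x = w → Sing P x
  pwu' : ∀ x ∈ K, ∀ x' ∈ K, orderOf x = w → orderOf x' = u' → Commute x x' →
    ¬ Sing P x' ∧ Commute x' c ∧ ¬ Commute x c
  pwt : ∀ x ∈ K, ∀ a ∈ K, orderOf x = w → orderOf a = t → Commute x a →
    ¬ Sing P a ∧ Commute a c' ∧ ¬ Commute x c'

namespace B3

variable {p : ℕ} {τ : Finset ℕ} {P K : Subgroup G} {t w u' : ℕ} {c c' : G}

theorem symm (b : B3 p τ P K t w u' c c') : B3 p τ P K u' w t c' c where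
  c1 := b.c1
  ht := b.hu'
  hw := b.hw
  hu' := b.ht
  htw := b.hwu'.symm
  htu' := b.htu'.symm
  hwu' := b.htw.symm
  t2 := b.u'2
  u'2 := b.t2
  hc := b.hc'
  oc := b.oc'
  nc := b.nc'
  hc' := b.hc
  oc' := b.oc
  nc' := b.nc
  noOw := b.noOw
  singw := b.singw
  pwu' := b.pwt
  pwt := b.pwu'

theorem tP (b : B3 p τ P K t w u' c c') : t.Prime := b.c1.hτ t b.ht
theorem wP (b : B3 p τ P K t w u' c c') : w.Prime := b.c1.hτ w b.hw
theorem u'P (b : B3 p τ P K t w u' c c') : u'.Prime := b.c1.hτ u' b.hu'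

theorem hτ3 (b : B3 p τ P K t w u' c c') : ∀ v ∈ τ, v = t ∨ v = w ∨ v = u' := by
  classical
  intro v hv
  have hsub : ({t, w, u'} : Finset ℕ) ⊆ τ := by
    intro x hx
    simp only [Finset.mem_insert, Finset.mem_singleton] at hx
    rcases hx with rfl | rfl | rfl
    · exact b.ht
    · exact b.hw
    · exact b.hu'
  have hcard : ({t, w, u'} : Finset ℕ).card = 3 := by
    rw [Finset.card_insert_of_notMem, Finset.card_insert_of_notMem, Finset.card_singleton]
    · simpa using b.hwu'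
    · simp only [Finset.mem_insert, Finset.mem_singleton, not_or]
      exact ⟨b.htw, b.htu'⟩
  have heq : ({t, w, u'} : Finset ℕ) = τ :=
    Finset.eq_of_subset_of_card_le hsub (by rw [hcard, b.c1.card3])
  rw [← heq] at hv
  simpa using hv

/-- primes dividing the order of a subgroup of `K` -/
theorem prime_dvd_card [Finite G] (b : B3 p τ P K t w u' c c') {X : Subgroup G} (hX : X ≤ K)
    {v : ℕ} (hv : v.Prime) (hd : v ∣ Nat.card X) : v = t ∨ v = w ∨ v = u' :=
  b.hτ3 v (b.c1.Kτ v hv (hd.trans (Subgroup.card_dvd_of_le hX)))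

theorem opOf_w [Finite G] (b : B3 p τ P K t w u' c c') : opOf w K = ⊥ :=
  b.noOw _ (opOf_le w K) (le_normalizer_opOf w K) (opOf_isPGroup w K)

/-- `F(K) = O_t(K) O_u'(K)` contains its centraliser in `K` -/
theorem centralizer_le [Finite G] (b : B3 p τ P K t w u' c c') :
    K ⊓ Subgroup.centralizer (opOf t K : Set G) ⊓ Subgroup.centralizer (opOf u' K : Set G) ≤
      opOf t K ⊔ opOf u' K := by
  have h1 := centralizer_fittingOf_le b.c1.solv
  have h2 : fittingOf K = opOf t K ⊔ opOf u' K := by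
    rw [fittingOf_eq_iSup]
    apply le_antisymm
    · apply iSup_le
      intro v
      by_cases hvt : (v : ℕ) = t
      · rw [hvt]; exact le_sup_left
      · by_cases hvu : (v : ℕ) = u'
        · rw [hvu]; exact le_sup_right
        · have hbot : opOf (v : ℕ) K = ⊥ := by
            by_cases hvw : (v : ℕ) = w
            · rw [hvw]; exact b.opOf_w
            · by_contra hne
              have hd := dvd_card_of_isPGroup_ne_bot v.2 (opOf_isPGroup v K) hne
              rcases b.prime_dvd_card (opOf_le v K) v.2 hd with h | h | h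
              · exact hvt h
              · exact hvw h
              · exact hvu h
          rw [hbot]; exact bot_le
    · exact sup_le (le_iSup_of_le ⟨t, b.tP⟩ le_rfl) (le_iSup_of_le ⟨u', b.u'P⟩ le_rfl)
  rw [h2] at h1
  intro x hx
  apply h1
  obtain ⟨hx1, hx3⟩ := Subgroup.mem_inf.mp hx
  obtain ⟨hx1, hx2⟩ := Subgroup.mem_inf.mp hx1
  refine Subgroup.mem_inf.mpr ⟨hx1, ?_⟩
  rw [Subgroup.mem_centralizer_iff]
  intro y hy
  have hy' : y ∈ ((opOf t K ⊔ opOf u' K : Subgroup G) : Set G) := hy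
  rw [Subgroup.coe_mul_of_left_le_normalizer_right _ _
    ((opOf_le t K).trans (le_normalizer_opOf u' K))] at hy'
  obtain ⟨a, ha, d, hd, rfl⟩ := Set.mem_mul.mp hy'
  have h3 : a * x = x * a := Subgroup.mem_centralizer_iff.mp hx2 a ha
  have h4 : d * x = x * d := Subgroup.mem_centralizer_iff.mp hx3 d hd
  calc a * d * x = a * (d * x) := by group
    _ = a * (x * d) := by rw [h4]
    _ = (a * x) * d := by group
    _ = x * a * d := by rw [h3]
    _ = x * (a * d) := by group

theorem inf_opOf [Finite G] (b : B3 p τ P K t w u' c c') : opOf t K ⊓ opOf u' K = ⊥ := by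
  haveI : Fact t.Prime := ⟨b.tP⟩
  haveI : Fact u'.Prime := ⟨b.u'P⟩
  exact inf_eq_bot_of_ne b.htu' (opOf_isPGroup t K) (opOf_isPGroup u' K)

/-- `O_t(K)` and `O_u'(K)` commute -/
theorem opOf_le_centralizer [Finite G] (b : B3 p τ P K t w u' c c') :
    opOf t K ≤ Subgroup.centralizer (opOf u' K : Set G) :=
  le_centralizer_of_normalize ((opOf_le t K).trans (le_normalizer_opOf u' K))
    ((opOf_le u' K).trans (le_normalizer_opOf t K)) b.inf_opOf

theorem c_mem [Finite G] (b : B3 p τ P K t w u' c c') : c ∈ opOf t K :=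
  le_opOf (Subgroup.zpowers_le.mpr b.hc) b.nc (isPGroup_zpowers b.tP b.oc) (Subgroup.mem_zpowers c)

theorem c'_mem [Finite G] (b : B3 p τ P K t w u' c c') : c' ∈ opOf u' K :=
  b.symm.c_mem

/-- (d'): `O_t(K)` and `O_u'(K)` are not both non-cyclic -/
theorem cyclic_or_cyclic [Finite G] (b : B3 p τ P K t w u' c c') :
    IsCyclic (opOf t K) ∨ IsCyclic (opOf u' K) := by
  by_contra hcon
  push Not at hcon
  obtain ⟨E, hET, hE⟩ := exists_rk2_le_of_not_isCyclic b.tP b.t2 (opOf_isPGroup t K) hcon.1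
  obtain ⟨E', hEU, hE'⟩ := exists_rk2_le_of_not_isCyclic b.u'P b.u'2 (opOf_isPGroup u' K) hcon.2
  obtain ⟨a, haE, hao, has⟩ := b.c1.exists_sing_of_rk2 b.ht hE
  refine b.c1.not_sing_of_rk2 b.hu' b.ht b.htu'.symm hE' hao ?_ has
  intro e he
  rw [Subgroup.mem_centralizer_singleton_iff]
  exact (Subgroup.mem_centralizer_iff.mp (b.opOf_le_centralizer (hET haE)) e (hEU he))

end B3

end Cfsg.Agent.Lib.Helper2.SolvTri
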