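import Mathlib
import Cfsg.Agent.Lib.Helper2.SolvTriS2b

set_option autoImplicit false
set_option linter.style.haveILetI false

/-! S3814, Case 1, cyclic branch (S2*), PART III: fact (f): if `O_u'(K)` is cyclic then every
non-singular element of order `u'` of `K` lies in `<c'>`. -/

namespace Cfsg.Agent.Lib.Helper2.SolvTri

open Cfsg Cfsg.Agent.Lib.Helper7 Cfsg.Agent.Lib.Helper4 Cfsg.Agent.Lib.Helper4.BG8

universe u

variable {G : Type u} [Group G]

theorem exists_eq_zpowers_of_isCyclic {U : Subgroup G} (hU : IsCyclic U) :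
    ∃ w₀ : G, w₀ ∈ U ∧ U = Subgroup.zpowers w₀ := by
  obtain ⟨g, hg⟩ := hU.exists_generator
  refine ⟨(g : G), g.2, ?_⟩
  apply le_antisymm
  · intro x hx
    obtain ⟨k, hk⟩ := Subgroup.mem_zpowers_iff.mp (hg ⟨x, hx⟩)
    refine Subgroup.mem_zpowers_iff.mpr ⟨k, ?_⟩
    have := congrArg Subtype.val hk
    simpa using this
  · exact Subgroup.zpowers_le.mpr g.2

theorem eq_one_of_pow_prime_of_isPGroup {t u' : ℕ} (ht : t.Prime) (hu' : u'.Prime) (htu' : t ≠ u')
    {T : Subgroup G} (hT : IsPGroup t T) {z : G} (hz : z ∈ T) (hzu : z ^ u' = 1) : z = 1 := by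
  obtain ⟨k, hk⟩ := hT ⟨z, hz⟩
  have hk' : z ^ t ^ k = 1 := by
    have := congrArg Subtype.val hk
    simpa using this
  have h1 : orderOf z ∣ u' := orderOf_dvd_of_pow_eq_one hzu
  have h2 : orderOf z ∣ t ^ k := orderOf_dvd_of_pow_eq_one hk'
  rcases (Nat.dvd_prime hu').mp h1 with h | h
  · exact orderOf_eq_one_iff.mp h
  · exfalso
    rw [h] at h2
    exact htu' ((Nat.prime_dvd_prime_iff_eq hu' ht).mp (hu'.dvd_of_dvd_pow h2)).symm

namespace B3

variable {p : ℕ} {τ : Finset ℕ} {P K : Subgroup G} {t w u' : ℕ} {c c' : G}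

/-- (f) -/
theorem mem_zpowers_of_not_sing [Finite G] (b : B3 p τ P K t w u' c c')
    (hU : IsCyclic (opOf u' K)) {x : G} (hxK : x ∈ K) (hx : orderOf x = u')
    (hns : ¬ Sing P x) : x ∈ Subgroup.zpowers c' := by
  have h1 : opOf t K ≤ Subgroup.centralizer {x} :=
    b.c1.le_centralizer_of_not_sing b.ht b.hu' b.htu' b.t2 (opOf_le t K) (opOf_isPGroup t K) hxK hx
      (le_normalizer_opOf t K hxK) hns
  have hxT : x ∈ Subgroup.centralizer (opOf t K : Set G) := by
    rw [Subgroup.mem_centralizer_iff]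
    intro a ha
    exact Subgroup.mem_centralizer_singleton_iff.mp (h1 ha)
  obtain ⟨w₀, hw₀U, hUw⟩ := exists_eq_zpowers_of_isCyclic hU
  have hKw : K ≤ Subgroup.normalizer ((Subgroup.zpowers w₀ : Subgroup G) : Set G) := by
    rw [← hUw]; exact le_normalizer_opOf u' K
  have hxu : x ^ u' = 1 := by rw [← hx]; exact pow_orderOf_eq_one x
  -- conjugates of `x` lie in `U₁ <x>`
  have hQconj : ∀ g ∈ K, g * x * g⁻¹ ∈ opOf u' K ⊔ Subgroup.zpowers x := by
    intro g hg
    have hkK : g * x * g⁻¹ * x⁻¹ ∈ K :=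
      K.mul_mem (K.mul_mem (K.mul_mem hg hxK) (K.inv_mem hg)) (K.inv_mem hxK)
    have hkT : g * x * g⁻¹ * x⁻¹ ∈ Subgroup.centralizer (opOf t K : Set G) :=
      Subgroup.mul_mem _
        (conj_mem_centralizer_of_mem_normalizer (le_normalizer_opOf t K hg) hxT)
        (Subgroup.inv_mem _ hxT)
    have hkU : g * x * g⁻¹ * x⁻¹ ∈ Subgroup.centralizer (opOf u' K : Set G) := by
      rw [hUw, centralizer_zpowers_eq, Subgroup.mem_centralizer_singleton_iff]
      exact (commutator_commute_of_normalizer_zpowers (hKw hg) (hKw hxK)).eq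
    have hkF : g * x * g⁻¹ * x⁻¹ ∈ opOf t K ⊔ opOf u' K :=
      b.centralizer_le (Subgroup.mem_inf.mpr ⟨Subgroup.mem_inf.mpr ⟨hkK, hkT⟩, hkU⟩)
    obtain ⟨z₁, hz₁, w₁, hw₁, hk⟩ :=
      exists_mul_of_mem_sup' ((opOf_le t K).trans (le_normalizer_opOf u' K)) hkF
    have e1 : g * x * g⁻¹ = z₁ * (w₁ * x) := by
      have : g * x * g⁻¹ = (g * x * g⁻¹ * x⁻¹) * x := by group
      rw [this, hk]; group
    have hzw : Commute z₁ w₁ :=
      (Subgroup.mem_centralizer_iff.mp (b.opOf_le_centralizer hz₁) w₁ hw₁).symm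
    have hzx : Commute z₁ x := Subgroup.mem_centralizer_singleton_iff.mp (h1 hz₁)
    have hz : Commute z₁ (w₁ * x) := hzw.mul_right hzx
    have hp1 : (g * x * g⁻¹) ^ u' = 1 := by
      rw [conj_pow, hxu]; group
    rw [e1, hz.mul_pow] at hp1
    obtain ⟨v, hv, hvx⟩ := exists_pow_mul_eq (le_normalizer_opOf u' K hxK) hw₁ u'
    rw [hvx, hxu, mul_one] at hp1
    have hz₁u : z₁ ^ u' ∈ opOf t K ⊓ opOf u' K := by
      refine Subgroup.mem_inf.mpr ⟨Subgroup.pow_mem _ hz₁ _, ?_⟩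
      have : z₁ ^ u' = v⁻¹ := eq_inv_of_mul_eq_one_left hp1
      rw [this]
      exact Subgroup.inv_mem _ hv
    rw [b.inf_opOf, Subgroup.mem_bot] at hz₁u
    have hz₁1 : z₁ = 1 :=
      eq_one_of_pow_prime_of_isPGroup b.tP b.u'P b.htu' (opOf_isPGroup t K) hz₁ hz₁u
    rw [e1, hz₁1, one_mul]
    exact Subgroup.mul_mem _ (Subgroup.mem_sup_left hw₁)
      (Subgroup.mem_sup_right (Subgroup.mem_zpowers x))
  have hKQ : K ≤ Subgroup.normalizer ((opOf u' K ⊔ Subgroup.zpowers x : Subgroup G) : Set G) := by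
    apply le_normalizer_of_conj_mem
    intro g hg q hq
    have hmap : (opOf u' K ⊔ Subgroup.zpowers x).map (MulAut.conj g).toMonoidHom ≤
        opOf u' K ⊔ Subgroup.zpowers x := by
      rw [Subgroup.map_sup]
      apply sup_le
      · rintro _ ⟨a, ha, rfl⟩
        exact Subgroup.mem_sup_left
          ((Subgroup.mem_normalizer_iff.mp (le_normalizer_opOf u' K hg) a).mp ha)
      · rw [MonoidHom.map_zpowers, Subgroup.zpowers_le]
        exact hQconj g hg
    exact hmap ⟨q, hq, rfl⟩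
  have hQp : IsPGroup u' (opOf u' K ⊔ Subgroup.zpowers x : Subgroup G) := by
    rw [sup_comm]
    exact IsPGroup.to_sup_of_normal_right' (isPGroup_zpowers b.u'P hx) (opOf_isPGroup u' K)
      (Subgroup.zpowers_le.mpr (le_normalizer_opOf u' K hxK))
  have hQU : opOf u' K ⊔ Subgroup.zpowers x ≤ opOf u' K :=
    le_opOf (sup_le (opOf_le u' K) (Subgroup.zpowers_le.mpr hxK)) hKQ hQp
  have hxU : x ∈ opOf u' K := hQU (Subgroup.mem_sup_right (Subgroup.mem_zpowers x))
  by_contra hxc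
  have hcomm : Commute c' x := by
    have h3 : c' ∈ Subgroup.zpowers w₀ := hUw ▸ b.c'_mem
    have h4 : x ∈ Subgroup.zpowers w₀ := hUw ▸ hxU
    exact zpowers_comm w₀ c' h3 x h4
  obtain ⟨E, hE, hle⟩ := exists_rk2_of_commute b.u'P b.oc' hx hcomm hxc
  refine hE.not_le_of_isCyclic b.u'P hU (hle.trans ?_)
  rw [Subgroup.closure_le]
  rintro y (rfl | rfl)
  · exact b.c'_mem
  · exact hxU

end B3

end Cfsg.Agent.Lib.Helper2.SolvTri
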