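import Mathlib
import Cfsg.Agent.Lib.Helper2.SolvTriS2c
import Cfsg.Agent.Lib.Lead.CoprimeSylow3

set_option autoImplicit false
set_option linter.style.haveILetI false

/-! S3814, Case 1, cyclic branch (S2*), PART III: the end of the argument. -/

namespace Cfsg.Agent.Lib.Helper2.SolvTri

open Cfsg Cfsg.Agent.Lib.Helper7 Cfsg.Agent.Lib.Helper4 Cfsg.Agent.Lib.Helper4.BG8

universe u

variable {G : Type u} [Group G]

theorem isPGroup_of_forall_prime_dvd [Finite G] {s : ℕ} (hs : s.Prime) {X : Subgroup G}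
    (h : ∀ t : ℕ, t.Prime → t ∣ Nat.card X → t = s) : IsPGroup s X := by
  haveI : Fact s.Prime := ⟨hs⟩
  have hne : Nat.card X ≠ 0 := Nat.card_pos.ne'
  exact IsPGroup.of_card (Nat.eq_prime_pow_of_unique_prime_dvd hne (fun {d} hd hdd => h d hd hdd))

namespace B3

variable {p : ℕ} {τ : Finset ℕ} {P K : Subgroup G} {t w u' : ℕ} {c c' : G}

/-- the end: `O_u'(K)` cyclic is impossible -/
theorem core [Finite G] (b : B3 p τ P K t w u' c c') (hU : IsCyclic (opOf u' K)) : False := by
  have hwp := b.wP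
  have hu'p := b.u'P
  have htp := b.tP
  obtain ⟨E, hEK, hE⟩ := b.c1.rk2 w b.hw
  -- `y' ∈ E` centralising `c'`, `y ∈ E` centralising `c`
  obtain ⟨y', hy'E, hy'1, v, hvZ, hv1, hy'v⟩ := hE.exists_fixed hwp (hEK.trans b.nc')
    (zpowers_ne_bot_of_orderOf hu'p b.oc') (by
      rw [Nat.card_zpowers, b.oc']
      intro h
      exact b.hwu' ((Nat.prime_dvd_prime_iff_eq hwp hu'p).mp h))
  have hy'c' : Commute y' c' := commute_of_commute_pow hu'p b.oc' hvZ hv1 hy'v
  have hy'o : orderOf y' = w := hE.orderOf_eq hwp hy'E hy'1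
  obtain ⟨y, hyE, hy1, v₂, hv₂Z, hv₂1, hyv₂⟩ := hE.exists_fixed hwp (hEK.trans b.nc)
    (zpowers_ne_bot_of_orderOf htp b.oc) (by
      rw [Nat.card_zpowers, b.oc]
      intro h
      exact b.htw.symm ((Nat.prime_dvd_prime_iff_eq hwp htp).mp h))
  have hyc : Commute y c := commute_of_commute_pow htp b.oc hv₂Z hv₂1 hyv₂
  have hyo : orderOf y = w := hE.orderOf_eq hwp hyE hy1
  -- (c)
  have hcc : ∀ x ∈ K, orderOf x = w → Commute x c → ¬ Commute x c' :=
    fun x hxK hxo hxc => (b.pwt x hxK c b.hc hxo b.oc hxc).2.2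
  -- `D = C_K(c) ∩ C_K(c')`
  set D : Subgroup G := K ⊓ Subgroup.centralizer {c} ⊓ Subgroup.centralizer {c'} with hD
  have hDK : D ≤ K := inf_le_left.trans inf_le_left
  have hKC : K ≤ Subgroup.normalizer ((Subgroup.centralizer {c} : Subgroup G) : Set G) := by
    rw [← centralizer_zpowers_eq]; exact le_normalizer_centralizer' b.nc
  have hKC' : K ≤ Subgroup.normalizer ((Subgroup.centralizer {c'} : Subgroup G) : Set G) := by
    rw [← centralizer_zpowers_eq]; exact le_normalizer_centralizer' b.nc'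
  have hKD : K ≤ Subgroup.normalizer (D : Set G) :=
    le_normalizer_inf (le_normalizer_inf Subgroup.le_normalizer hKC) hKC'
  have hcommD : ∀ g ∈ K, ∀ h ∈ K, g * h * g⁻¹ * h⁻¹ ∈ D := by
    intro g hg h hh
    refine Subgroup.mem_inf.mpr ⟨Subgroup.mem_inf.mpr ⟨?_, ?_⟩, ?_⟩
    · exact K.mul_mem (K.mul_mem (K.mul_mem hg hh) (K.inv_mem hg)) (K.inv_mem hh)
    · rw [Subgroup.mem_centralizer_singleton_iff]
      exact (commutator_commute_of_normalizer_zpowers (b.nc hg) (b.nc hh)).eq
    · rw [Subgroup.mem_centralizer_singleton_iff]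
      exact (commutator_commute_of_normalizer_zpowers (b.nc' hg) (b.nc' hh)).eq
  have hDw : ∀ x ∈ D, orderOf x ≠ w := by
    intro x hx hxo
    obtain ⟨hx1, hx3⟩ := Subgroup.mem_inf.mp hx
    obtain ⟨hx1, hx2⟩ := Subgroup.mem_inf.mp hx1
    exact hcc x hx1 hxo (Subgroup.mem_centralizer_singleton_iff.mp hx2)
      (Subgroup.mem_centralizer_singleton_iff.mp hx3)
  -- a Sylow `u'`-subgroup `S''` of `K` containing a rank-2 subgroup
  obtain ⟨E'', hE''K, hE''⟩ := b.c1.rk2 u' b.hu'
  have hprimeE'' : ∀ q : ℕ, q.Prime → q ∣ Nat.card E'' → q ∈ ({u'} : Set ℕ) := by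
    intro q hq hd
    rw [hE''.2] at hd
    exact (Nat.prime_dvd_prime_iff_eq hq hu'p).mp (hq.dvd_of_dvd_pow hd)
  obtain ⟨S'', hS'', hE''S⟩ :=
    Cfsg.Agent.Lib.Helper5.BG139.exists_hall_ge b.c1.solv ({u'} : Set ℕ) hE''K hprimeE''
  have hS''K : S'' ≤ K := hS''.1
  have hS''p : IsPGroup u' S'' :=
    isPGroup_of_forall_prime_dvd hu'p (fun q hq hd => hS''.2.1 q hq hd)
  -- `X = D S''`
  set X : Subgroup G := D ⊔ S'' with hX
  have hXK : X ≤ K := sup_le hDK hS''K
  have hKX : K ≤ Subgroup.normalizer (X : Set G) := by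
    apply le_normalizer_of_conj_mem
    intro g hg q hq
    have hmap : X.map (MulAut.conj g).toMonoidHom ≤ X := by
      rw [hX, Subgroup.map_sup]
      apply sup_le
      · rintro _ ⟨a, ha, rfl⟩
        exact Subgroup.mem_sup_left ((Subgroup.mem_normalizer_iff.mp (hKD hg) a).mp ha)
      · rintro _ ⟨s, hs, rfl⟩
        have e : (MulAut.conj g).toMonoidHom s = (g * s * g⁻¹ * s⁻¹) * s := by
          show g * s * g⁻¹ = (g * s * g⁻¹ * s⁻¹) * s
          group
        rw [e]
        exact Subgroup.mul_mem _ (Subgroup.mem_sup_left (hcommD g hg s (hS''K hs)))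
          (Subgroup.mem_sup_right hs)
    exact hmap ⟨q, hq, rfl⟩
  -- no element of order `w` in `X`
  have hXw : ∀ e ∈ X, orderOf e ≠ w := by
    intro e he heo
    rw [hX, sup_comm] at he
    obtain ⟨s, hs, d, hd, rfl⟩ := exists_mul_of_mem_sup' (hS''K.trans hKD) he
    have hsN : s ∈ Subgroup.normalizer (D : Set G) := hKD (hS''K hs)
    have hd' : s * d * s⁻¹ ∈ D := (Subgroup.mem_normalizer_iff.mp hsN d).mp hd
    have e1 : s * d = (s * d * s⁻¹) * s := by group
    obtain ⟨v, hv, hvn⟩ := exists_pow_mul_eq hsN hd' (Nat.card S'')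
    have hs1 : s ^ Nat.card S'' = 1 := by
      have := pow_card_eq_one' (G := S'') (x := ⟨s, hs⟩)
      exact congrArg Subtype.val this
    rw [← e1, hs1, mul_one] at hvn
    have hcop : (orderOf (s * d)).Coprime (Nat.card S'') := by
      rw [heo]
      haveI : Fact u'.Prime := ⟨hu'p⟩
      obtain ⟨k, hk⟩ := hS''p.exists_card_eq
      rw [hk]
      exact Nat.Coprime.pow_right k ((Nat.coprime_primes hwp hu'p).mpr b.hwu')
    have ho : orderOf ((s * d) ^ Nat.card S'') = w := by rw [hcop.orderOf_pow, heo]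
    rw [hvn] at ho
    exact hDw v hv ho
  have hXcop : ¬ w ∣ Nat.card X := by
    intro hd
    obtain ⟨e, he, heo⟩ := exists_orderOf_eq_of_dvd_card hwp hd
    exact hXw e he heo
  -- an `E`-invariant Sylow `u'`-subgroup of `X`
  haveI : Fact u'.Prime := ⟨hu'p⟩
  have hsolvX : Group.IsSolvable ↥X := by
    haveI := b.c1.solv
    exact Group.isSolvable_of_isSolvable_injective (f := Subgroup.inclusion hXK)
      (Subgroup.inclusion_injective hXK)
  have hcopEX : (Nat.card E).Coprime (Nat.card X) := by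
    rw [hE.2]
    exact Nat.Coprime.pow_left 2 ((Nat.Prime.coprime_iff_not_dvd hwp).mpr hXcop)
  obtain ⟨S', hES'⟩ := Cfsg.Agent.Lib.Lead.coprime_invariant_sylow_exists E X (hEK.trans hKX)
    hcopEX (Or.inr hsolvX) u'
  set S₁ : Subgroup G := (S' : Subgroup X).map X.subtype with hS₁
  have hS₁X : S₁ ≤ X := Subgroup.map_subtype_le _
  have hS₁p : IsPGroup u' S₁ := S'.isPGroup'.map _
  have hS₁hall : IsPiHallOf ({u'} : Set ℕ) S₁ X := by
    refine ⟨hS₁X, ?_, ?_⟩
    · intro q hq hd
      obtain ⟨k, hk⟩ := hS₁p.exists_card_eq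
      rw [hk] at hd
      exact (Nat.prime_dvd_prime_iff_eq hq hu'p).mp (hq.dvd_of_dvd_pow hd)
    · intro q hq hqu
      have hqu' : q = u' := hqu
      rw [hqu']
      have h1 : S₁.relIndex X = (S' : Subgroup X).index := by
        have h2 : X = (⊤ : Subgroup X).map X.subtype := by
          rw [← MonoidHom.range_eq_map, Subgroup.range_subtype]
        conv_lhs => rw [h2]
        rw [hS₁, Subgroup.relIndex_map_map_of_injective _ _ X.subtype_injective,
          Subgroup.relIndex_top_right]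
      rw [h1]
      exact S'.not_dvd_index
  have hE''X : E'' ≤ X := hE''S.trans le_sup_right
  obtain ⟨k, hkX, hle⟩ :=
    Cfsg.Agent.Lib.Helper5.BG139.exists_cj_le_hall hsolvX ({u'} : Set ℕ) hS₁hall hE''X hprimeE''
  have hE₁ : Rk2 u' (cj k E'') := hE''.cj k
  have hS₁K : S₁ ≤ K := hS₁X.trans hXK
  have hS₁w : ¬ w ∣ Nat.card S₁ := fun h => hXcop (h.trans (Subgroup.card_dvd_of_le hS₁X))
  -- (L1) `S₁ ≤ C(y')`
  have hS₁y' : S₁ ≤ Subgroup.centralizer {y'} := by
    apply hE.le_of_forall hwp hES' hS₁w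
    intro e heE he1
    by_cases hbot : S₁ ⊓ Subgroup.centralizer {e} = ⊥
    · rw [hbot]; exact bot_le
    · have hpg : IsPGroup u' (S₁ ⊓ Subgroup.centralizer {e} : Subgroup G) := hS₁p.to_le inf_le_left
      obtain ⟨x₀, hx₀, hx₀o⟩ :=
        exists_orderOf_eq_of_dvd_card hu'p (dvd_card_of_isPGroup_ne_bot hu'p hpg hbot)
      have hx₀K : x₀ ∈ K := hS₁K (Subgroup.mem_inf.mp hx₀).1
      have hx₀e : Commute x₀ e :=
        Subgroup.mem_centralizer_singleton_iff.mp (Subgroup.mem_inf.mp hx₀).2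
      have heo : orderOf e = w := hE.orderOf_eq hwp heE he1
      obtain ⟨hns, -, -⟩ := b.pwu' e (hEK heE) x₀ hx₀K heo hx₀o hx₀e.symm
      have hx₀c' : x₀ ∈ Subgroup.zpowers c' := b.mem_zpowers_of_not_sing hU hx₀K hx₀o hns
      have hx₀1 : x₀ ≠ 1 := ne_one_of_orderOf hu'p hx₀o
      have hec' : Commute e c' := commute_of_commute_pow hu'p b.oc' hx₀c' hx₀1 hx₀e.symm
      have hez : e ∈ Subgroup.zpowers y' := by
        by_contra hne
        have hsup := hE.sup_zpowers_eq hwp hy'E heE hy'1 hne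
        have hEc' : E ≤ Subgroup.centralizer {c'} := by
          rw [← hsup]
          apply sup_le
          · rw [Subgroup.zpowers_le, Subgroup.mem_centralizer_singleton_iff]
            exact hy'c'.eq
          · rw [Subgroup.zpowers_le, Subgroup.mem_centralizer_singleton_iff]
            exact hec'.eq
        exact hcc y (hEK hyE) hyo hyc (Subgroup.mem_centralizer_singleton_iff.mp (hEc' hyE))
      have hy'e : y' ∈ Subgroup.zpowers e := mem_zpowers_of_mem_zpowers hwp hy'o hez he1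
      obtain ⟨j, hj⟩ := Subgroup.mem_zpowers_iff.mp hy'e
      intro x hx
      rw [Subgroup.mem_centralizer_singleton_iff]
      have hxe : Commute x e :=
        Subgroup.mem_centralizer_singleton_iff.mp (Subgroup.mem_inf.mp hx).2
      rw [← hj]
      exact (hxe.zpow_right j).eq
  exact b.c1.not_sing_of_rk2 b.hu' b.hw b.hwu'.symm hE₁ hy'o (hle.trans hS₁y')
    (b.singw y' (hEK hy'E) hy'o)

/-- PART III: the setting `B3` is contradictory -/
theorem false [Finite G] (b : B3 p τ P K t w u' c c') : False := by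
  rcases b.cyclic_or_cyclic with h | h
  · exact b.symm.core h
  · exact b.core h

end B3

end Cfsg.Agent.Lib.Helper2.SolvTri
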