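import Mathlib
import Cfsg.Agent.Lib.Helper2.SolvTriS2d

set_option autoImplicit false
set_option linter.style.haveILetI false

/-! S3814, Case 1, cyclic branch (S2*), PART II: from `C1`, "every minimal normal subgroup of `K`
is cyclic" and fact (F6) to a contradiction (cases (alpha), (beta)). -/

namespace Cfsg.Agent.Lib.Helper2.SolvTri

open Cfsg Cfsg.Agent.Lib.Helper7 Cfsg.Agent.Lib.Helper4 Cfsg.Agent.Lib.Helper4.BG8

universe u

variable {G : Type u} [Group G]

/-- fact (F6), as a property of the setting -/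
def F6Prop (p : ℕ) (τ : Finset ℕ) (P K : Subgroup G) : Prop :=
  ∀ t ∈ τ, ∀ u ∈ τ, ∀ u' ∈ τ, t ≠ u → t ≠ u' → u ≠ u' → ∀ c ∈ K, orderOf c = t →
    K ≤ Subgroup.normalizer ((Subgroup.zpowers c : Subgroup G) : Set G) →
    ∀ x ∈ K, ∀ x' ∈ K, orderOf x = u → orderOf x' = u' → Commute x x' →
      (Commute x c ∧ ¬ Commute x' c ∧ ¬ Sing P x) ∨ (Commute x' c ∧ ¬ Commute x c ∧ ¬ Sing P x')

variable {p : ℕ} {τ : Finset ℕ} {P K : Subgroup G}

/-- (F0): a generator of a normal subgroup of prime order of `K` is non-singular -/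
theorem C1.not_sing_of_normal [Finite G] (c1 : C1 p τ P K) {t : ℕ} (ht : t ∈ τ) {c : G}
    (hc : c ∈ K) (oc : orderOf c = t)
    (nc : K ≤ Subgroup.normalizer ((Subgroup.zpowers c : Subgroup G) : Set G)) : ¬ Sing P c := by
  intro hs
  have htp := c1.hτ t ht
  have hV1 : P ⊓ Subgroup.centralizer {c} ≠ ⊥ := (C1.sing_iff (P := P) c).mp hs
  have hKV : K ≤ Subgroup.normalizer ((P ⊓ Subgroup.centralizer {c} : Subgroup G) : Set G) := by
    apply le_normalizer_inf (c1.le_normalizer_P K)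
    rw [← centralizer_zpowers_eq]
    exact le_normalizer_centralizer' nc
  rcases c1.irr _ inf_le_left hKV with h | h
  · exact hV1 h
  · have hcP : c ∈ K ⊓ Subgroup.centralizer (P : Set G) := by
      refine Subgroup.mem_inf.mpr ⟨hc, ?_⟩
      rw [Subgroup.mem_centralizer_iff]
      intro v hv
      rw [← h] at hv
      exact Subgroup.mem_centralizer_singleton_iff.mp (Subgroup.mem_inf.mp hv).2
    rw [c1.faith, Subgroup.mem_bot] at hcP
    exact ne_one_of_orderOf htp oc hcP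

/-- (C): a normal subgroup of prime order of `K` has odd order -/
theorem C1.ne_two_of_normal [Finite G] (c1 : C1 p τ P K) {t : ℕ} (ht : t ∈ τ) {c : G}
    (hc : c ∈ K) (oc : orderOf c = t)
    (nc : K ≤ Subgroup.normalizer ((Subgroup.zpowers c : Subgroup G) : Set G)) : t ≠ 2 := by
  rintro rfl
  obtain ⟨u, u', hu, hu', htu, htu', huu', -⟩ := exists_other_two c1.card3 ht
  have hup := c1.hτ u hu
  have hu'p := c1.hτ u' hu'
  obtain ⟨z, hzK, hz⟩ := c1.pair u hu u' hu' huu'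
  -- `c` is central in `K`
  have hcz : Commute z c := by
    have h1 : z * c * z⁻¹ ∈ Subgroup.zpowers c :=
      (Subgroup.mem_normalizer_iff.mp (nc hzK) c).mp (Subgroup.mem_zpowers c)
    have hc2 : c ^ 2 = 1 := by rw [← oc]; exact pow_orderOf_eq_one c
    obtain ⟨k, hk⟩ := Subgroup.mem_zpowers_iff.mp h1
    -- `c ^ k` is `1` or `c`
    have hcases : c ^ k = 1 ∨ c ^ k = c := by
      rcases Int.emod_two_eq_zero_or_one k with h0 | h1'
      · left
        obtain ⟨m, hm⟩ : ∃ m, k = 2 * m := ⟨k / 2, by omega⟩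
        rw [hm, zpow_mul, zpow_ofNat, hc2, one_zpow]
      · right
        obtain ⟨m, hm⟩ : ∃ m, k = 2 * m + 1 := ⟨k / 2, by omega⟩
        rw [hm, zpow_add, zpow_mul, zpow_ofNat, hc2, one_zpow, one_mul, zpow_one]
    rcases hcases with h | h
    · exfalso
      rw [h] at hk
      have : c = 1 := by
        have e : c = z⁻¹ * (z * c * z⁻¹) * z := by group
        rw [e, ← hk]; group
      exact ne_one_of_orderOf Nat.prime_two oc this
    · rw [h] at hk
      show z * c = c * z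
      calc z * c = (z * c * z⁻¹) * z := by group
        _ = c * z := by rw [← hk]
  have hcop : (orderOf c).Coprime (orderOf z) := by
    rw [oc, hz]
    exact Nat.Coprime.mul_right ((Nat.coprime_primes Nat.prime_two hup).mpr htu)
      ((Nat.coprime_primes Nat.prime_two hu'p).mpr htu')
  have ho : orderOf (c * z) = 2 * u * u' := by
    rw [hcz.symm.orderOf_mul_eq_mul_orderOf_of_coprime hcop, oc, hz, mul_assoc]
  exact c1.no3 2 ht u hu u' hu' htu huu' htu' _ ho

/-- a cyclic elementary abelian `t`-group `≠ 1` is generated by an element of order `t` -/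
theorem exists_gen_of_isCyclic_elemAb {t : ℕ} (ht : t.Prime) {B : Subgroup G} (hcyc : IsCyclic B)
    (hBea : IsElementaryAbelian t B) (hB1 : B ≠ ⊥) :
    ∃ b : G, B = Subgroup.zpowers b ∧ orderOf b = t := by
  obtain ⟨b, hbB, hBb⟩ := exists_eq_zpowers_of_isCyclic hcyc
  refine ⟨b, hBb, orderOf_eq_prime_of_pow ht ?_ (hBea.2 b hbB)⟩
  rintro rfl
  apply hB1
  rw [hBb, Subgroup.zpowers_one_eq_bot]

/-- (Z): if `O_v(K) ≠ 1` then `K` has a normal subgroup of order `v` -/
theorem C1.exists_normal_prime [Finite G] (c1 : C1 p τ P K)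
    (hcyc : ∀ M : Subgroup G, IsMinNormalIn M K → IsCyclic M) {v : ℕ} (hv : v.Prime)
    (hO : opOf v K ≠ ⊥) :
    ∃ c ∈ K, orderOf c = v ∧
      K ≤ Subgroup.normalizer ((Subgroup.zpowers c : Subgroup G) : Set G) := by
  obtain ⟨M, hMO, hM⟩ :=
    exists_isMinNormalIn_le (opOf v K) K (opOf_le v K) (le_normalizer_opOf v K) hO
  obtain ⟨t, htp, hMea, htd⟩ := minNormalIn_exists_elemAb hM c1.solv
  have htv : t = v := by
    haveI : Fact v.Prime := ⟨hv⟩
    obtain ⟨k, hk⟩ := ((opOf_isPGroup v K).to_le hMO).exists_card_eq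
    rw [hk] at htd
    exact (Nat.prime_dvd_prime_iff_eq htp hv).mp (htp.dvd_of_dvd_pow htd)
  subst htv
  obtain ⟨b, hMb, hbo⟩ := exists_gen_of_isCyclic_elemAb htp (hcyc M hM) hMea hM.2.2.1
  refine ⟨b, hM.1 (hMb ▸ Subgroup.mem_zpowers b), hbo, ?_⟩
  rw [← hMb]
  exact hM.2.1

/-- `F(K)` from the list of its non-trivial `O_v(K)` -/
theorem fittingOf_eq_of_forall [Finite G] {K S : Subgroup G}
    (hle : ∀ v : Nat.Primes, opOf (v : ℕ) K ≤ S) (hge : S ≤ fittingOf K) : fittingOf K = S := by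
  apply le_antisymm
  · rw [fittingOf_eq_iSup]
    exact iSup_le hle
  · exact hge

theorem C1.opOf_eq_bot_of_not_mem [Finite G] (c1 : C1 p τ P K) {v : ℕ} (hv : v.Prime)
    (hvτ : v ∉ τ) : opOf v K = ⊥ := by
  by_contra hne
  have hd := dvd_card_of_isPGroup_ne_bot hv (opOf_isPGroup v K) hne
  exact hvτ (c1.Kτ v hv (hd.trans (Subgroup.card_dvd_of_le (opOf_le v K))))

theorem C1.K_ne_bot [Finite G] (c1 : C1 p τ P K) : K ≠ ⊥ := by
  intro h
  have h3 : 0 < τ.card := by rw [c1.card3]; norm_num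
  obtain ⟨t, ht⟩ := Finset.card_pos.mp h3
  obtain ⟨E, hEK, hE⟩ := c1.rk2 t ht
  rw [h] at hEK
  have h1 : E = ⊥ := le_bot_iff.mp hEK
  have h2 := hE.2
  rw [h1, Subgroup.card_bot] at h2
  have := (c1.hτ t ht).one_lt
  nlinarith

/-- (alpha): exactly one `O_t(K) ≠ 1` is impossible -/
theorem C1.alpha_false [Finite G] (c1 : C1 p τ P K) (hF6 : F6Prop p τ P K) {t u u' : ℕ}
    (ht : t ∈ τ) (hu : u ∈ τ) (hu' : u' ∈ τ) (htu : t ≠ u) (htu' : t ≠ u') (huu' : u ≠ u')
    (hτ3 : ∀ v ∈ τ, v = t ∨ v = u ∨ v = u') {c : G} (hc : c ∈ K) (oc : orderOf c = t)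
    (nc : K ≤ Subgroup.normalizer ((Subgroup.zpowers c : Subgroup G) : Set G))
    (hu0 : opOf u K = ⊥) (hu'0 : opOf u' K = ⊥) : False := by
  have htp := c1.hτ t ht
  have hup := c1.hτ u hu
  have hu'p := c1.hτ u' hu'
  have ht2 : t ≠ 2 := c1.ne_two_of_normal ht hc oc nc
  haveI : Fact t.Prime := ⟨htp⟩
  have hfit : fittingOf K = opOf t K := by
    apply fittingOf_eq_of_forall _ (opOf_le_fittingOf t K)
    intro v
    by_cases hvτ : (v : ℕ) ∈ τ
    · rcases hτ3 v hvτ with h | h | h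
      · rw [h]
      · rw [h, hu0]; exact bot_le
      · rw [h, hu'0]; exact bot_le
    · rw [c1.opOf_eq_bot_of_not_mem v.2 hvτ]; exact bot_le
  have hcent : K ⊓ Subgroup.centralizer (opOf t K : Set G) ≤ opOf t K := by
    have := centralizer_fittingOf_le c1.solv
    rwa [hfit] at this
  obtain ⟨z, hzK, hz⟩ := c1.pair u hu u' hu' huu'
  obtain ⟨hx, hx', hxx'⟩ := exists_parts hup hu'p hz
  have key : ∀ {w : ℕ}, w ∈ τ → t ≠ w → ∀ y ∈ K, orderOf y = w → ¬ Sing P y → False := by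
    intro w hw htw y hyK hyo hns
    have h1 := c1.le_centralizer_of_not_sing ht hw htw ht2 (opOf_le t K) (opOf_isPGroup t K) hyK hyo
      (le_normalizer_opOf t K hyK) hns
    have h2 : y ∈ opOf t K := by
      apply hcent
      refine Subgroup.mem_inf.mpr ⟨hyK, ?_⟩
      rw [Subgroup.mem_centralizer_iff]
      intro a ha
      exact Subgroup.mem_centralizer_singleton_iff.mp (h1 ha)
    exact eq_one_of_isPGroup_of_orderOf htp (c1.hτ w hw) htw.symm (opOf_isPGroup t K) h2 hyo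
  rcases hF6 t ht u hu u' hu' htu htu' huu' c hc oc nc (z ^ u') (K.pow_mem hzK _) (z ^ u)
    (K.pow_mem hzK _) hx hx' hxx' with ⟨-, -, hns⟩ | ⟨-, -, hns⟩
  · exact key hu htu _ (K.pow_mem hzK _) hx hns
  · exact key hu' htu' _ (K.pow_mem hzK _) hx' hns

end Cfsg.Agent.Lib.Helper2.SolvTri
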