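import Mathlib
import Cfsg.Agent.Lib.Helper2.SolvTriS2e

set_option autoImplicit false
set_option linter.style.haveILetI false

/-! S3814, Case 1, cyclic branch (S2*), PART II: case (beta) and the assembly. -/

namespace Cfsg.Agent.Lib.Helper2.SolvTri

open Cfsg Cfsg.Agent.Lib.Helper7 Cfsg.Agent.Lib.Helper4 Cfsg.Agent.Lib.Helper4.BG8

universe u

variable {G : Type u} [Group G]

variable {p : ℕ} {τ : Finset ℕ} {P K : Subgroup G}

/-- (beta): exactly two `O_t(K), O_u'(K) ≠ 1` is impossible -/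
theorem C1.beta_false [Finite G] (c1 : C1 p τ P K) (hF6 : F6Prop p τ P K) {t w u' : ℕ}
    (ht : t ∈ τ) (hw : w ∈ τ) (hu' : u' ∈ τ) (htw : t ≠ w) (htu' : t ≠ u') (hwu' : w ≠ u')
    (hτ3 : ∀ v ∈ τ, v = t ∨ v = w ∨ v = u') {c : G} (hc : c ∈ K) (oc : orderOf c = t)
    (nc : K ≤ Subgroup.normalizer ((Subgroup.zpowers c : Subgroup G) : Set G)) {c' : G}
    (hc' : c' ∈ K) (oc' : orderOf c' = u')
    (nc' : K ≤ Subgroup.normalizer ((Subgroup.zpowers c' : Subgroup G) : Set G))
    (hw0 : opOf w K = ⊥) : False := by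
  have htp := c1.hτ t ht
  have hwp := c1.hτ w hw
  have hu'p := c1.hτ u' hu'
  have ht2 : t ≠ 2 := c1.ne_two_of_normal ht hc oc nc
  have hu'2 : u' ≠ 2 := c1.ne_two_of_normal hu' hc' oc' nc'
  haveI : Fact t.Prime := ⟨htp⟩
  haveI : Fact u'.Prime := ⟨hu'p⟩
  have hnoOw : ∀ N : Subgroup G, N ≤ K → K ≤ Subgroup.normalizer (N : Set G) → IsPGroup w N →
      N = ⊥ := by
    intro N hNK hKN hN
    have := le_opOf hNK hKN hN
    rw [hw0] at this
    exact le_bot_iff.mp this
  -- `F(K) = O_t(K) O_u'(K)`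
  have hfit : fittingOf K = opOf t K ⊔ opOf u' K := by
    apply fittingOf_eq_of_forall _
      (sup_le (opOf_le_fittingOf t K) (opOf_le_fittingOf u' K))
    intro v
    by_cases hvτ : (v : ℕ) ∈ τ
    · rcases hτ3 v hvτ with h | h | h
      · rw [h]; exact le_sup_left
      · rw [h, hw0]; exact bot_le
      · rw [h]; exact le_sup_right
    · rw [c1.opOf_eq_bot_of_not_mem v.2 hvτ]; exact bot_le
  have hcent : K ⊓ Subgroup.centralizer ((opOf t K ⊔ opOf u' K : Subgroup G) : Set G) ≤
      opOf t K ⊔ opOf u' K := by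
    have := centralizer_fittingOf_le c1.solv
    rwa [hfit] at this
  have hinf : opOf t K ⊓ opOf u' K = ⊥ :=
    inf_eq_bot_of_ne htu' (opOf_isPGroup t K) (opOf_isPGroup u' K)
  have hTU : opOf t K ≤ Subgroup.centralizer (opOf u' K : Set G) :=
    le_centralizer_of_normalize ((opOf_le t K).trans (le_normalizer_opOf u' K))
      ((opOf_le u' K).trans (le_normalizer_opOf t K)) hinf
  -- (a) every element of order `w` is singular
  have hsingw : ∀ x ∈ K, orderOf x = w → Sing P x := by
    intro x hxK hxo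
    by_contra hns
    have h1 := c1.le_centralizer_of_not_sing ht hw htw ht2 (opOf_le t K) (opOf_isPGroup t K) hxK
      hxo (le_normalizer_opOf t K hxK) hns
    have h2 := c1.le_centralizer_of_not_sing hu' hw hwu'.symm hu'2 (opOf_le u' K)
      (opOf_isPGroup u' K) hxK hxo (le_normalizer_opOf u' K hxK) hns
    have h3 : x ∈ opOf t K ⊔ opOf u' K := by
      apply hcent
      refine Subgroup.mem_inf.mpr ⟨hxK, ?_⟩
      rw [Subgroup.mem_centralizer_iff]
      intro y hy
      have hy' : y ∈ ((opOf t K ⊔ opOf u' K : Subgroup G) : Set G) := hy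
      rw [Subgroup.coe_mul_of_left_le_normalizer_right _ _
        ((opOf_le t K).trans (le_normalizer_opOf u' K))] at hy'
      obtain ⟨a, ha, d, hd, rfl⟩ := Set.mem_mul.mp hy'
      have h4 : a * x = x * a := Subgroup.mem_centralizer_singleton_iff.mp (h1 ha)
      have h5 : d * x = x * d := Subgroup.mem_centralizer_singleton_iff.mp (h2 hd)
      calc a * d * x = a * (d * x) := by group
        _ = a * (x * d) := by rw [h5]
        _ = (a * x) * d := by group
        _ = x * a * d := by rw [h4]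
        _ = x * (a * d) := by group
    -- an element of `O_t(K) O_u'(K)` has order prime to `w`
    obtain ⟨a, ha, d, hd, rfl⟩ :=
      exists_mul_of_mem_sup' ((opOf_le t K).trans (le_normalizer_opOf u' K)) h3
    have had : Commute a d := (Subgroup.mem_centralizer_iff.mp (hTU ha) d hd).symm
    obtain ⟨i, hi⟩ := (opOf_isPGroup t K) ⟨a, ha⟩
    obtain ⟨j, hj⟩ := (opOf_isPGroup u' K) ⟨d, hd⟩
    have hai : a ^ t ^ i = 1 := by simpa using congrArg Subtype.val hi
    have hdj : d ^ u' ^ j = 1 := by simpa using congrArg Subtype.val hj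
    have hpow : (a * d) ^ (t ^ i * u' ^ j) = 1 := by
      rw [had.mul_pow, pow_mul, hai, one_pow, one_mul, mul_comm, pow_mul, hdj, one_pow]
    have hdvd : w ∣ t ^ i * u' ^ j := by
      rw [← hxo]; exact orderOf_dvd_of_pow_eq_one hpow
    rcases (Nat.Prime.dvd_mul hwp).mp hdvd with h | h
    · exact htw ((Nat.prime_dvd_prime_iff_eq hwp htp).mp (hwp.dvd_of_dvd_pow h)).symm
    · exact hwu' ((Nat.prime_dvd_prime_iff_eq hwp hu'p).mp (hwp.dvd_of_dvd_pow h))
  refine B3.false (p := p) (τ := τ) (P := P) (K := K) (t := t) (w := w) (u' := u') (c := c)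
    (c' := c') ⟨c1, ht, hw, hu', htw, htu', hwu', ht2, hu'2, hc, oc, nc, hc', oc', nc', hnoOw,
      hsingw, ?_, ?_⟩
  · intro x hxK x' hx'K hxo hx'o hxx'
    rcases hF6 t ht w hw u' hu' htw htu' hwu' c hc oc nc x hxK x' hx'K hxo hx'o hxx' with
      ⟨-, -, hns⟩ | ⟨h1, h2, h3⟩
    · exact absurd (hsingw x hxK hxo) hns
    · exact ⟨h3, h1, h2⟩
  · intro x hxK a haK hxo hao hxa
    rcases hF6 u' hu' w hw t ht hwu'.symm htu'.symm htw.symm c' hc' oc' nc' x hxK a haK hxo hao hxa
      with ⟨-, -, hns⟩ | ⟨h1, h2, h3⟩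
    · exact absurd (hsingw x hxK hxo) hns
    · exact ⟨h3, h1, h2⟩

/-- the cyclic branch of Case 1: if every minimal normal subgroup of `K` is cyclic (and (F6)
holds) we get a contradiction -/
theorem C1.cyclic_branch_false_of_F6 [Finite G] (c1 : C1 p τ P K) (hF6 : F6Prop p τ P K)
    (hcyc : ∀ M : Subgroup G, IsMinNormalIn M K → IsCyclic M) : False := by
  -- some `O_t(K) ≠ 1`
  have hex : ∃ t ∈ τ, opOf t K ≠ ⊥ := by
    by_contra hcon
    push Not at hcon
    have hfit : fittingOf K = ⊥ := by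
      apply fittingOf_eq_of_forall _ bot_le
      intro v
      by_cases hvτ : (v : ℕ) ∈ τ
      · rw [hcon v hvτ]
      · rw [c1.opOf_eq_bot_of_not_mem v.2 hvτ]
    have := centralizer_fittingOf_le c1.solv
    rw [hfit] at this
    apply c1.K_ne_bot
    rw [eq_bot_iff]
    intro x hx
    apply this
    refine Subgroup.mem_inf.mpr ⟨hx, ?_⟩
    rw [Subgroup.mem_centralizer_iff]
    intro y hy
    have : y = 1 := hy
    rw [this, one_mul, mul_one]
  obtain ⟨t, ht, hOt⟩ := hex
  obtain ⟨u, u', hu, hu', htu, htu', huu', hτ3⟩ := exists_other_two c1.card3 ht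
  have htp := c1.hτ t ht
  have hup := c1.hτ u hu
  have hu'p := c1.hτ u' hu'
  obtain ⟨c, hc, oc, nc⟩ := c1.exists_normal_prime hcyc htp hOt
  by_cases hu0 : opOf u K = ⊥
  · by_cases hu'0 : opOf u' K = ⊥
    · exact c1.alpha_false hF6 ht hu hu' htu htu' huu' hτ3 hc oc nc hu0 hu'0
    · obtain ⟨c', hc', oc', nc'⟩ := c1.exists_normal_prime hcyc hu'p hu'0
      exact c1.beta_false hF6 ht hu hu' htu htu' huu' hτ3 hc oc nc hc' oc' nc' hu0
  · obtain ⟨cu, hcu, ocu, ncu⟩ := c1.exists_normal_prime hcyc hup hu0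
    by_cases hu'0 : opOf u' K = ⊥
    · refine c1.beta_false hF6 ht hu' hu htu' htu huu'.symm ?_ hc oc nc hcu ocu ncu hu'0
      intro v hv
      rcases hτ3 v hv with h | h | h
      · exact Or.inl h
      · exact Or.inr (Or.inr h)
      · exact Or.inr (Or.inl h)
    · -- all three: an element of order `t u u'`
      obtain ⟨c', hc', oc', nc'⟩ := c1.exists_normal_prime hcyc hu'p hu'0
      have comm : ∀ {a b : ℕ} {x y : G}, a.Prime → b.Prime → a ≠ b → x ∈ K → y ∈ K →
          orderOf x = a → orderOf y = b →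
          K ≤ Subgroup.normalizer ((Subgroup.zpowers x : Subgroup G) : Set G) →
          K ≤ Subgroup.normalizer ((Subgroup.zpowers y : Subgroup G) : Set G) → Commute x y := by
        intro a b x y ha hb hab hx hy ox oy nx ny
        haveI : Fact a.Prime := ⟨ha⟩
        haveI : Fact b.Prime := ⟨hb⟩
        have hinf : (Subgroup.zpowers x : Subgroup G) ⊓ Subgroup.zpowers y = ⊥ :=
          inf_eq_bot_of_ne hab (isPGroup_zpowers ha ox) (isPGroup_zpowers hb oy)
        have h1 := le_centralizer_of_normalize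
          ((Subgroup.zpowers_le.mpr hx).trans ny) ((Subgroup.zpowers_le.mpr hy).trans nx) hinf
        exact (Subgroup.mem_centralizer_iff.mp (h1 (Subgroup.mem_zpowers x)) y
          (Subgroup.mem_zpowers y)).symm
      have h12 := comm htp hup htu hc hcu oc ocu nc ncu
      have h13 := comm htp hu'p htu' hc hc' oc oc' nc nc'
      have h23 := comm hup hu'p huu' hcu hc' ocu oc' ncu nc'
      exact c1.no3 t ht u hu u' hu' htu huu' htu' _
        (orderOf_mul_mul htp hup hu'p htu htu' huu' oc ocu oc' h12 h13 h23)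

end Cfsg.Agent.Lib.Helper2.SolvTri
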