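import Mathlib
import Cfsg.Agent.Lib.Helper2.SolvTriS2f

set_option autoImplicit false
set_option linter.style.haveILetI false

/-! S3814, Case 1, cyclic branch (S2*), PART I: fact (F6) from (L2+) (Frobenius action with a
cyclic complement on a kernel of prime order). -/

namespace Cfsg.Agent.Lib.Helper2.SolvTri

open Cfsg Cfsg.Agent.Lib.Helper7 Cfsg.Agent.Lib.Helper4 Cfsg.Agent.Lib.Helper4.BG8

universe u

variable {G : Type u} [Group G]

/-- (L2+) for a kernel of prime order: if `<c>` of prime order `t` acts fixed-point-freely on `V`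
and `z` normalises `<c>` and `V`, no non-trivial power of `z` centralising `c`, then `z` has a
non-trivial fixed point on `V` -/
def L2Plus (V : Subgroup G) : Prop :=
  ∀ (t : ℕ) (c z : G), t.Prime → orderOf c = t → ¬ t ∣ Nat.card V →
    c ∈ Subgroup.normalizer (V : Set G) → z ∈ Subgroup.normalizer (V : Set G) →
    z ∈ Subgroup.normalizer ((Subgroup.zpowers c : Subgroup G) : Set G) →
    (∀ i : ℕ, z ^ i ≠ 1 → ¬ Commute (z ^ i) c) → (∀ v ∈ V, Commute c v → v = 1) →
    ∃ v ∈ V, v ≠ 1 ∧ Commute z v

variable {p : ℕ} {τ : Finset ℕ} {P K : Subgroup G}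

/-- (F6) -/
theorem C1.f6_of_L2Plus [Finite G] (c1 : C1 p τ P K) (hL : L2Plus P) : F6Prop p τ P K := by
  intro t ht u hu u' hu' htu htu' huu' c hc oc nc x hxK x' hx'K ox ox' hxx'
  have htp := c1.hτ t ht
  have hup := c1.hτ u hu
  have hu'p := c1.hτ u' hu'
  have hF0 : ¬ Sing P c := c1.not_sing_of_normal ht hc oc nc
  have hfpf : ∀ v ∈ P, Commute c v → v = 1 := by
    intro v hv hcv
    by_contra hv1
    exact hF0 ⟨v, hv, hv1, hcv⟩
  -- a common fixed point of `x` and `x'` on `P` is impossible
  have hno : ∀ v ∈ P, v ≠ 1 → Commute v x → Commute v x' → False := by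
    intro v hv hv1 hvx hvx'
    exact c1.noP u hu u' hu' huu' _
      (orderOf_mul_mul c1.hp hup hu'p (c1.ne_p hu).symm (c1.ne_p hu').symm huu'
        (c1.orderOf_of_mem_P hv hv1) ox ox' hvx hvx' hxx')
  -- exactly one centralises: the one that does is non-singular
  have hone : ∀ {a b : ℕ} {y y' : G}, a ∈ τ → b ∈ τ → a ≠ b → y ∈ K → y' ∈ K → orderOf y = a →
      orderOf y' = b → Commute y y' → Commute y c → ¬ Commute y' c →
      (∀ v ∈ P, v ≠ 1 → Commute v y → Commute v y' → False) → ¬ Sing P y := by
    intro a b y y' ha hb hab hyK hy'K oy oy' hyy' hyc hy'c hno' hs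
    have hbp := c1.hτ b hb
    set V : Subgroup G := P ⊓ Subgroup.centralizer {y} with hV
    have hV1 : V ≠ ⊥ := (C1.sing_iff (P := P) y).mp hs
    obtain ⟨v, hvV, hv1, hy'v⟩ := Cfsg.Agent.Lib.Helper5.SolvTri.frob_fix c1.hp htp hbp
      (c1.ne_p ht).symm (c1.ne_p hb).symm (by
        rintro rfl
        exact hy'c (by
          -- an element of order `t` normalising `<c>` of order `t` centralises it
          by_contra hnc
          have h1 := dvd_sub_one_of_act htp htp oy' oc (nc hy'K) hnc
          have h2 := Nat.le_of_dvd (by have := htp.two_le; omega) h1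
          have := htp.two_le
          omega))
      V (Subgroup.zpowers c) y' (by rw [← oy']; exact pow_orderOf_eq_one y')
      (isElementaryAbelian_of_le c1.Pea inf_le_left) hV1 (zpowers_comm c) (isPGroup_zpowers htp oc)
      (zpowers_ne_bot_of_orderOf htp oc)
      (Subgroup.zpowers_le.mpr (mem_normalizer_inf_centralizer (c1.mem_normalizer_P c) hyc.symm))
      (mem_normalizer_inf_centralizer (c1.mem_normalizer_P y') hyy'.symm) (nc hy'K)
      (by
        intro d hd hd1 v hv hdv
        apply hfpf v (Subgroup.mem_inf.mp hv).1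
        exact (commute_of_commute_pow htp oc hd hd1 hdv.symm).symm)
      (by
        intro d hd hy'd
        by_contra hd1
        exact hy'c (commute_of_commute_pow htp oc hd hd1 hy'd))
    have hvP : v ∈ P := (Subgroup.mem_inf.mp hvV).1
    have hvy : Commute v y := Subgroup.mem_centralizer_singleton_iff.mp (Subgroup.mem_inf.mp hvV).2
    exact hno' v hvP hv1 hvy hy'v.symm
  by_cases h1 : Commute x c
  · by_cases h2 : Commute x' c
    · exfalso
      exact c1.no3 t ht u hu u' hu' htu huu' htu' _
        (orderOf_mul_mul htp hup hu'p htu htu' huu' oc ox ox' h1.symm h2.symm hxx')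
    · left
      exact ⟨h1, h2, hone hu hu' huu' hxK hx'K ox ox' hxx' h1 h2 hno⟩
  · by_cases h2 : Commute x' c
    · right
      refine ⟨h2, h1, hone hu' hu huu'.symm hx'K hxK ox' ox hxx'.symm h2 h1 ?_⟩
      intro v hv hv1 hvx' hvx
      exact hno v hv hv1 hvx hvx'
    · exfalso
      -- neither centralises `c`: (L2+) for `z = x x'`
      have hcopP : ¬ t ∣ Nat.card P := by
        intro hd
        haveI : Fact p.Prime := ⟨c1.hp⟩
        obtain ⟨n, hn⟩ := c1.isPGroup_P.exists_card_eq
        rw [hn] at hd
        exact c1.ne_p ht ((Nat.prime_dvd_prime_iff_eq htp c1.hp).mp (htp.dvd_of_dvd_pow hd))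
      have hxu : x ^ u = 1 := by rw [← ox]; exact pow_orderOf_eq_one x
      have hx'u' : x' ^ u' = 1 := by rw [← ox']; exact pow_orderOf_eq_one x'
      have hfree : ∀ i : ℕ, (x * x') ^ i ≠ 1 → ¬ Commute ((x * x') ^ i) c := by
        intro i hi hc'
        rw [hxx'.mul_pow] at hi hc'
        -- `(x^i x'^i)^u' = x^(i u')`
        have h3 : Commute (x ^ (i * u')) c := by
          have h4 : (x ^ i * x' ^ i) ^ u' = x ^ (i * u') := by
            rw [(hxx'.pow_pow i i).mul_pow, ← pow_mul, ← pow_mul, mul_comm i u', pow_mul x' u' i,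
              hx'u', one_pow, mul_one, mul_comm]
          rw [← h4]
          exact hc'.pow_left u'
        by_cases h5 : x ^ (i * u') = 1
        · -- then `u ∣ i`, `x ^ i = 1`
          have h6 : u ∣ i * u' := by rw [← ox]; exact orderOf_dvd_of_pow_eq_one h5
          have h7 : u ∣ i := by
            rcases (Nat.Prime.dvd_mul hup).mp h6 with h | h
            · exact h
            · exact absurd ((Nat.prime_dvd_prime_iff_eq hup hu'p).mp h) huu'
          have h8 : x ^ i = 1 := by
            obtain ⟨m, rfl⟩ := h7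
            rw [pow_mul, hxu, one_pow]
          rw [h8, one_mul] at hi hc'
          exact h2 (commute_of_commute_pow hu'p ox' (Subgroup.pow_mem _ (Subgroup.mem_zpowers x') _) hi hc'.symm).symm
        · exact h1 (commute_of_commute_pow hup ox (Subgroup.pow_mem _ (Subgroup.mem_zpowers x) _) h5 h3.symm).symm
      obtain ⟨v, hvP, hv1, hzv⟩ := hL t c (x * x') htp oc hcopP (c1.mem_normalizer_P c)
        (c1.mem_normalizer_P _) (nc (K.mul_mem hxK hx'K)) hfree hfpf
      -- `v` commutes with `x` and `x'`
      have hpx : (x * x') ^ u' = x ^ u' := by rw [hxx'.mul_pow, hx'u', mul_one]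
      have hpx' : (x * x') ^ u = x' ^ u := by rw [hxx'.mul_pow, hxu, one_mul]
      have hxu'1 : x ^ u' ≠ 1 := by
        intro h
        have : u ∣ u' := by rw [← ox]; exact orderOf_dvd_of_pow_eq_one h
        exact huu' ((Nat.prime_dvd_prime_iff_eq hup hu'p).mp this)
      have hx'u1 : x' ^ u ≠ 1 := by
        intro h
        have : u' ∣ u := by rw [← ox']; exact orderOf_dvd_of_pow_eq_one h
        exact huu' ((Nat.prime_dvd_prime_iff_eq hu'p hup).mp this).symm
      have hvx : Commute v x := by
        have h3 : Commute v (x ^ u') := by rw [← hpx]; exact (hzv.pow_left u').symm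
        exact commute_of_commute_pow hup ox (Subgroup.pow_mem _ (Subgroup.mem_zpowers x) _) hxu'1 h3
      have hvx' : Commute v x' := by
        have h3 : Commute v (x' ^ u) := by rw [← hpx']; exact (hzv.pow_left u).symm
        exact commute_of_commute_pow hu'p ox' (Subgroup.pow_mem _ (Subgroup.mem_zpowers x') _) hx'u1 h3
      exact hno v hvP hv1 hvx hvx'

end Cfsg.Agent.Lib.Helper2.SolvTri
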