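import Mathlib
import Cfsg.Agent.Lib.Helper2.SolvTriS2g
import Cfsg.Agent.Lib.Helper7.SolvTriS1

set_option autoImplicit false
set_option linter.style.haveILetI false

/-! S3814, Case 1: (L2+) from helper7's trace lemma, fact (F6), and the end of Case 1:
the setting `C1` is contradictory. -/

namespace Cfsg.Agent.Lib.Helper2.SolvTri

open Cfsg Cfsg.Agent.Lib.Helper7 Cfsg.Agent.Lib.Helper4 Cfsg.Agent.Lib.Helper4.BG8

universe u

variable {G : Type u} [Group G]

variable {p : ℕ} {τ : Finset ℕ} {P K : Subgroup G}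

/-- (L2+) for `P` -/
theorem C1.l2Plus [Finite G] (c1 : C1 p τ P K) : L2Plus P := by
  intro t c z htp oc hcop _ _ hzc hfree hfpf
  haveI := c1.Pn
  haveI := c1.Pea.1
  have hD : Nat.card (Subgroup.zpowers c : Subgroup G) = t := by rw [Nat.card_zpowers, oc]
  obtain ⟨v, hvP, hv1, hv⟩ := Cfsg.Agent.Lib.Helper7.SolvTri.frob_fix_gen P (Subgroup.zpowers c)
    (Subgroup.zpowers z) c1.Pne (Subgroup.zpowers_le.mpr hzc)
    (by
      intro b hb hb1 d hd hbd
      by_contra hd1
      have hbc : Commute b c := commute_of_commute_pow htp oc hd hd1 hbd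
      obtain ⟨n, hn⟩ := (mem_powers_iff_mem_zpowers (x := z) (y := b)).mpr hb
      have hn' : z ^ n = b := hn
      rw [← hn'] at hb1 hbc
      exact hfree n hb1 hbc)
    (by
      intro v hv hall
      exact hfpf v hv (hall c (Subgroup.mem_zpowers c)))
    (by
      intro v hv hvt
      rw [hD] at hvt
      by_contra hv1
      have ho : orderOf v = t := orderOf_eq_prime_of_pow htp hv1 hvt
      apply hcop
      rw [← ho]
      exact dvd_card_of_mem hv)
  exact ⟨v, hvP, hv1, hv z (Subgroup.mem_zpowers z)⟩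

/-- (F6) -/
theorem C1.f6 [Finite G] (c1 : C1 p τ P K) : F6Prop p τ P K := c1.f6_of_L2Plus c1.l2Plus

/-- the cyclic branch of Case 1 -/
theorem C1.cyclic_branch_false [Finite G] (c1 : C1 p τ P K)
    (hcyc : ∀ M : Subgroup G, IsMinNormalIn M K → IsCyclic M) : False :=
  c1.cyclic_branch_false_of_F6 c1.f6 hcyc

/-- the same with the minimality spelled out (helper7's shape) -/
theorem C1.cyclic_branch_false' [Finite G] (c1 : C1 p τ P K)
    (hcyc : ∀ M : Subgroup G, M ≤ K → M ≠ ⊥ → K ≤ Subgroup.normalizer (M : Set G) →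
      (∀ M' : Subgroup G, M' ≤ M → K ≤ Subgroup.normalizer (M' : Set G) → M' = ⊥ ∨ M' = M) →
      IsCyclic M) : False :=
  c1.cyclic_branch_false (fun M hM => hcyc M hM.1 hM.2.2.1 hM.2.1 hM.2.2.2)

/-- **Case 1 of S3814 is impossible**: the setting `C1` is contradictory -/
theorem C1.false [Finite G] (c1 : C1 p τ P K) : False :=
  c1.cyclic_branch_false (fun _ hM => c1.minNormal_isCyclic hM)

end Cfsg.Agent.Lib.Helper2.SolvTri
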