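import Cfsg.Agent.Lib.Helper2.B2Mult
import Cfsg.Agent.Lib.Helper9.SpStH

/-!
# The Schur multiplier of `Sp₄(K)` is trivial for `|K| ≥ 3`

helper9's `sp4_split_of` (the isomorphism of the Steinberg group of type `B₂` with `Sp₄(K)`),
fed with the `B₂`-only version of S2400.
-/

set_option autoImplicit false

namespace Cfsg.Agent.Lib.Helper2.B2Mult

universe u

theorem sp4_split {K : Type u} [Field K] [Fintype K] (hK : 3 ≤ Fintype.card K) :
    Cfsg.HasCyclicSchurMultiplier (Matrix.symplecticGroup (Fin 2) K) 1 :=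
  Cfsg.Agent.Lib.Helper9.SpSt.sp4_split_of hK (b2_steinberg_multiplier (by omega))

end Cfsg.Agent.Lib.Helper2.B2Mult
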