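import Mathlib
import Cfsg.Agent.Lib.Helper2.SpFrames

set_option autoImplicit false

namespace Cfsg.Agent.Lib.Helper2

namespace SpBorel

open Module IsomDecomp IsoFrames SpIsom SpFrames Cfsg.Agent.Lib.Helper2.Symp

variable {F : Type*} [Field F] {m : ℕ}

/-- the coordinate flag -/
def Wk (m : ℕ) (F : Type*) [Field F] (c : ℕ) : Submodule F (Fin m ⊕ Fin m → F) where
  carrier := {v | (∀ i : Fin m, c ≤ (i : ℕ) → v (Sum.inl i) = 0) ∧ ∀ i : Fin m, v (Sum.inr i) = 0}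
  add_mem' := by
    rintro a b ⟨ha1, ha2⟩ ⟨hb1, hb2⟩
    refine ⟨fun i hi => ?_, fun i => ?_⟩
    · rw [Pi.add_apply, ha1 i hi, hb1 i hi, add_zero]
    · rw [Pi.add_apply, ha2 i, hb2 i, add_zero]
  zero_mem' := ⟨fun _ _ => rfl, fun _ => rfl⟩
  smul_mem' := by
    rintro c a ⟨ha1, ha2⟩
    refine ⟨fun i hi => ?_, fun i => ?_⟩
    · rw [Pi.smul_apply, ha1 i hi, smul_zero]
    · rw [Pi.smul_apply, ha2 i, smul_zero]

theorem mem_Wk_iff {c : ℕ} {v : Fin m ⊕ Fin m → F} :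
    v ∈ Wk m F c ↔ (∀ i : Fin m, c ≤ (i : ℕ) → v (Sum.inl i) = 0) ∧
      ∀ i : Fin m, v (Sum.inr i) = 0 := Iff.rfl

/-- the standard isotropic vectors -/
def e (i : Fin m) : Fin m ⊕ Fin m → F := Pi.single (Sum.inl i) 1

theorem e_inl (i j : Fin m) : (e i : Fin m ⊕ Fin m → F) (Sum.inl j) = if j = i then 1 else 0 := by
  unfold e
  rw [Pi.single_apply]
  simp only [Sum.inl.injEq]

theorem e_inr (i j : Fin m) : (e i : Fin m ⊕ Fin m → F) (Sum.inr j) = 0 := by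
  unfold e
  rw [Pi.single_apply]
  simp

theorem e_mem (j : Fin m) : (e j : Fin m ⊕ Fin m → F) ∈ Wk m F ((j : ℕ) + 1) := by
  refine ⟨fun i hi => ?_, fun i => e_inr j i⟩
  rw [e_inl, if_neg]
  intro h
  rw [h] at hi
  omega

theorem Wk_mono {c d : ℕ} (h : c ≤ d) : Wk m F c ≤ Wk m F d := by
  rintro v ⟨hv1, hv2⟩
  exact ⟨fun i hi => hv1 i (le_trans h hi), hv2⟩

theorem Wk_zero : Wk m F 0 = ⊥ := by
  rw [eq_bot_iff]
  rintro v ⟨hv1, hv2⟩
  rw [Submodule.mem_bot]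
  funext x
  rcases x with i | i
  · exact hv1 i (Nat.zero_le _)
  · exact hv2 i

theorem eq_sum (v : Fin m ⊕ Fin m → F) (hv : ∀ i, v (Sum.inr i) = 0) :
    v = ∑ i : Fin m, v (Sum.inl i) • (e i : Fin m ⊕ Fin m → F) := by
  funext x
  rw [Finset.sum_apply]
  rcases x with j | j
  · simp only [Pi.smul_apply, e_inl, smul_eq_mul, mul_ite, mul_one, mul_zero]
    rw [Finset.sum_ite_eq]
    simp
  · simp only [Pi.smul_apply, e_inr, smul_zero, Finset.sum_const_zero]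
    exact hv j

theorem mem_Wk_pred {j : Fin m} {v : Fin m ⊕ Fin m → F} (hv : v ∈ Wk m F ((j : ℕ) + 1)) :
    v ∈ Wk m F (j : ℕ) ↔ v (Sum.inl j) = 0 := by
  constructor
  · intro h
    exact h.1 j le_rfl
  · intro h
    refine ⟨fun i hi => ?_, hv.2⟩
    rcases Nat.eq_or_lt_of_le hi with h1 | h1
    · have : i = j := Fin.ext h1.symm
      rw [this]
      exact h
    · exact hv.1 i h1

/-- adapted tuples -/
def Adapted (m : ℕ) (F : Type*) [Field F] : Set (Fin m → (Fin m ⊕ Fin m → F)) :=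
  {u | ∀ j : Fin m, u j ∈ Wk m F ((j : ℕ) + 1) ∧ u j (Sum.inl j) ≠ 0}

theorem e_adapted : (e : Fin m → (Fin m ⊕ Fin m → F)) ∈ Adapted m F := by
  intro j
  refine ⟨e_mem j, ?_⟩
  rw [e_inl, if_pos rfl]
  exact one_ne_zero

theorem adapted_li {u : Fin m → (Fin m ⊕ Fin m → F)} (hu : u ∈ Adapted m F) :
    LinearIndependent F u := by
  classical
  set π : (Fin m ⊕ Fin m → F) →ₗ[F] (Fin m → F) := LinearMap.funLeft F F Sum.inl with hπ
  set M : Matrix (Fin m) (Fin m) F := fun i j => u i (Sum.inl j) with hM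
  have hlow : M.IsLowerTriangular := by
    intro i j hij
    have hij' : i < j := hij
    exact (hu i).1.1 j (by omega)
  have hdet : M.det ≠ 0 := by
    rw [Matrix.det_of_isLowerTriangular M hlow, Finset.prod_ne_zero_iff]
    intro i _
    exact (hu i).2
  have hunit : IsUnit M := by
    rw [Matrix.isUnit_iff_isUnit_det]
    exact isUnit_iff_ne_zero.2 hdet
  have hrows := Matrix.linearIndependent_rows_of_isUnit hunit
  apply LinearIndependent.of_comp π
  exact hrows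

theorem form_eq_zero_of_inr (x y : Fin m ⊕ Fin m → F) (hx : ∀ i, x (Sum.inr i) = 0)
    (hy : ∀ i, y (Sum.inr i) = 0) : Cfsg.sympForm m F x y = 0 := by
  unfold Cfsg.sympForm
  rw [dotProduct, Fintype.sum_sum_type]
  simp only [J_mulVec_apply_inl, J_mulVec_apply_inr, hx, hy]
  simp

theorem adapted_frame {u : Fin m → (Fin m ⊕ Fin m → F)} (hu : u ∈ Adapted m F) :
    u ∈ Frame (Cfsg.sympForm m F) m :=
  ⟨adapted_li hu, fun i j => form_eq_zero_of_inr _ _ (hu i).1.2 (hu j).1.2⟩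

theorem map_mem_Wk (g : (Fin m ⊕ Fin m → F) ≃ₗ[F] (Fin m ⊕ Fin m → F))
    {u : Fin m → (Fin m ⊕ Fin m → F)} (hu : u ∈ Adapted m F) (hg : ∀ i, g (e i) = u i) (c : ℕ)
    (v : Fin m ⊕ Fin m → F) (hv : v ∈ Wk m F c) : g v ∈ Wk m F c := by
  rw [eq_sum v hv.2, map_sum]
  apply Submodule.sum_mem
  intro i _
  rw [map_smul, hg]
  by_cases hi : c ≤ (i : ℕ)
  · rw [hv.1 i hi, zero_smul]
    exact Submodule.zero_mem _
  · apply Submodule.smul_mem
    exact Wk_mono (by omega) (hu i).1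

theorem mem_stab_Wk (g : (Fin m ⊕ Fin m → F) ≃ₗ[F] (Fin m ⊕ Fin m → F))
    {u : Fin m → (Fin m ⊕ Fin m → F)} (hu : u ∈ Adapted m F) (hg : ∀ i, g (e i) = u i) (c : ℕ) :
    g ∈ stab (Wk m F c) := by
  apply mem_stab_of_map
  apply Submodule.eq_of_le_of_finrank_eq
  · rintro _ ⟨v, hv, rfl⟩
    exact map_mem_Wk g hu hg c v hv
  · exact LinearEquiv.finrank_map_eq g (Wk m F c)

theorem adapted_of_stab (g : (Fin m ⊕ Fin m → F) ≃ₗ[F] (Fin m ⊕ Fin m → F))
    (hg : ∀ k : Fin m, g ∈ stab (Wk m F ((k : ℕ) + 1))) :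
    g • (e : Fin m → (Fin m ⊕ Fin m → F)) ∈ Adapted m F := by
  intro j
  have h1 : g (e j) ∈ Wk m F ((j : ℕ) + 1) := (hg j (e j)).1 (e_mem j)
  refine ⟨h1, ?_⟩
  intro h0
  have h2 : g (e j) ∈ Wk m F (j : ℕ) := (mem_Wk_pred h1).2 h0
  have h3 : (e j : Fin m ⊕ Fin m → F) ∈ Wk m F (j : ℕ) := by
    rcases Nat.eq_zero_or_pos (j : ℕ) with hj | hj
    · rw [hj, Wk_zero, Submodule.mem_bot] at h2 ⊢
      exact g.map_eq_zero_iff.1 h2
    · have := hg ⟨(j : ℕ) - 1, by omega⟩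
      have e1 : ((⟨(j : ℕ) - 1, by omega⟩ : Fin m) : ℕ) + 1 = (j : ℕ) := by
        show (j : ℕ) - 1 + 1 = j
        omega
      rw [e1] at this
      exact (this (e j)).2 h2
  have h4 := (mem_Wk_pred (e_mem j)).1 h3
  rw [e_inl, if_pos rfl] at h4
  exact one_ne_zero h4

/-- the flag members are finite of the expected size -/
def WkEquiv {c : ℕ} (hc : c ≤ m) : ↥(Wk m F c) ≃ (Fin c → F) where
  toFun v := fun i => v.1 (Sum.inl ⟨i, lt_of_lt_of_le i.2 hc⟩)
  invFun a := ⟨fun x => Sum.elim (fun i : Fin m => if h : (i : ℕ) < c then a ⟨i, h⟩ else 0)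
    (fun _ => 0) x, ⟨fun i hi => by simp [not_lt.2 hi], fun i => rfl⟩⟩
  left_inv v := by
    apply Subtype.ext
    funext x
    rcases x with i | i
    · simp only [Sum.elim_inl]
      by_cases h : (i : ℕ) < c
      · rw [dif_pos h]
      · rw [dif_neg h]
        exact (v.2.1 i (not_lt.1 h)).symm
    · simp only [Sum.elim_inr]
      exact (v.2.2 i).symm
  right_inv a := by
    funext i
    simp

theorem card_Wk [Fintype F] {c : ℕ} (hc : c ≤ m) :
    ((Wk m F c : Submodule F (Fin m ⊕ Fin m → F)) : Set (Fin m ⊕ Fin m → F)).ncard =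
      Fintype.card F ^ c := by
  rw [← Nat.card_coe_set_eq]
  show Nat.card ↥(Wk m F c) = _
  rw [Nat.card_congr (WkEquiv hc), Nat.card_eq_fintype_card, Fintype.card_fun, Fintype.card_fin]

theorem ncard_adapted [Fintype F] :
    (Adapted m F).ncard =
      ∏ j ∈ Finset.range m, (Fintype.card F ^ (j + 1) - Fintype.card F ^ j) := by
  classical
  have e1 : ↥(Adapted m F) ≃ (∀ j : Fin m, ↥(((Wk m F ((j : ℕ) + 1) :
      Submodule F (Fin m ⊕ Fin m → F)) : Set (Fin m ⊕ Fin m → F)) \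
      ((Wk m F (j : ℕ) : Submodule F (Fin m ⊕ Fin m → F)) : Set (Fin m ⊕ Fin m → F)))) :=
    { toFun := fun u j => ⟨u.1 j, (u.2 j).1, fun h => (u.2 j).2 ((mem_Wk_pred (u.2 j).1).1 h)⟩
      invFun := fun w => ⟨fun j => (w j).1, fun j => ⟨(w j).2.1, fun h =>
        (w j).2.2 ((mem_Wk_pred (w j).2.1).2 h)⟩⟩
      left_inv := fun u => rfl
      right_inv := fun w => rfl }
  rw [← Nat.card_coe_set_eq, Nat.card_congr e1, Nat.card_pi, ← Fin.prod_univ_eq_prod_range]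
  apply Finset.prod_congr rfl
  intro j _
  rw [Nat.card_coe_set_eq, Set.ncard_sdiff (fun x hx => Wk_mono (Nat.le_succ _) hx),
    card_Wk (by omega), card_Wk (by omega)]

end SpBorel

end Cfsg.Agent.Lib.Helper2
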