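import Mathlib

set_option autoImplicit false

/-! Jordan–Wigner model of a Clifford algebra over `ZMod 3`:
anticommuting operators `gam k`, and operators `del k` anticommuting with all of them. -/

namespace Cfsg.Agent.Lib.Helper2.Spin

abbrev St (n : ℕ) := Fin n → Bool
abbrev V (n : ℕ) := St n → ZMod 3
abbrev E (n : ℕ) := Module.End (ZMod 3) (V n)

variable {n : ℕ}

def flip (k : Fin n) (s : St n) : St n := Function.update s k (!s k)

theorem flip_same (k : Fin n) (s : St n) : flip k s k = !s k := by simp [flip]

theorem flip_ne {j k : Fin n} (h : j ≠ k) (s : St n) : flip k s j = s j := by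
  simp [flip, h]

theorem flip_flip (k : Fin n) (s : St n) : flip k (flip k s) = s := by
  funext j
  by_cases h : j = k
  · subst h; simp [flip]
  · simp [flip, h]

theorem flip_comm (j k : Fin n) (s : St n) : flip j (flip k s) = flip k (flip j s) := by
  funext i
  by_cases hj : i = j
  · subst hj
    by_cases hk : i = k
    · subst hk; rfl
    · rw [flip_same, flip_ne hk, flip_ne hk, flip_same]
  · by_cases hk : i = k
    · subst hk
      rw [flip_ne hj, flip_same, flip_same, flip_ne hj]
    · rw [flip_ne hj, flip_ne hk, flip_ne hk, flip_ne hj]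

theorem flip_eq_iff (k : Fin n) (s t : St n) : flip k t = s ↔ t = flip k s := by
  constructor
  · intro h; rw [← h, flip_flip]
  · intro h; rw [h, flip_flip]

/-- the sign character of the `k`-th bit -/
def zs (k : Fin n) (s : St n) : ZMod 3 := if s k then -1 else 1

theorem zs_mul_self (k : Fin n) (s : St n) : zs k s * zs k s = 1 := by
  unfold zs; split_ifs <;> ring

theorem zs_flip_same (k : Fin n) (s : St n) : zs k (flip k s) = - zs k s := by
  unfold zs; rw [flip_same]; cases s k <;> simp

theorem zs_flip_ne {j k : Fin n} (h : j ≠ k) (s : St n) : zs j (flip k s) = zs j s := by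
  unfold zs; rw [flip_ne h]

/-- the Jordan–Wigner sign -/
def sg (k : Fin n) (s : St n) : ZMod 3 := ∏ j ∈ Finset.Iio k, zs j s

theorem sg_mul_self (k : Fin n) (s : St n) : sg k s * sg k s = 1 := by
  unfold sg
  rw [← Finset.prod_mul_distrib]
  exact Finset.prod_eq_one fun j _ => zs_mul_self j s

theorem sg_flip_lt {j k : Fin n} (h : j < k) (s : St n) : sg k (flip j s) = - sg k s := by
  unfold sg
  have hj : j ∈ Finset.Iio k := Finset.mem_Iio.2 h
  rw [← Finset.mul_prod_erase _ _ hj, ← Finset.mul_prod_erase _ _ hj, zs_flip_same]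
  have : ∏ x ∈ (Finset.Iio k).erase j, zs x (flip j s) = ∏ x ∈ (Finset.Iio k).erase j, zs x s :=
    Finset.prod_congr rfl fun x hx => zs_flip_ne (Finset.ne_of_mem_erase hx) s
  rw [this]; ring

theorem sg_flip_not_lt {j k : Fin n} (h : ¬ j < k) (s : St n) : sg k (flip j s) = sg k s := by
  unfold sg
  refine Finset.prod_congr rfl fun x hx => zs_flip_ne ?_ s
  rintro rfl
  exact h (Finset.mem_Iio.1 hx)

/-- diagonal operator -/
def dg (φ : St n → ZMod 3) : E n where
  toFun f := fun s => φ s * f s
  map_add' f g := by funext s; simp [mul_add]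
  map_smul' c f := by funext s; simp; ring

@[simp] theorem dg_apply (φ : St n → ZMod 3) (f : V n) (s : St n) : dg φ f s = φ s * f s := rfl

/-- the Jordan–Wigner operator `Z … Z X 1 … 1` -/
def gam (k : Fin n) : E n where
  toFun f := fun s => sg k s * f (flip k s)
  map_add' f g := by funext s; simp [mul_add]
  map_smul' c f := by funext s; simp; ring

@[simp] theorem gam_apply (k : Fin n) (f : V n) (s : St n) :
    gam k f s = sg k s * f (flip k s) := rfl

/-- the Jordan–Wigner operator `Z … Z (XZ) 1 … 1` -/
def del (k : Fin n) : E n := gam k * dg (zs k)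

theorem del_apply (k : Fin n) (f : V n) (s : St n) :
    del k f s = sg k s * (zs k (flip k s) * f (flip k s)) := rfl

theorem gam_mul_self (k : Fin n) : gam k * gam k = 1 := by
  refine LinearMap.ext fun f => funext fun s => ?_
  change sg k s * (sg k (flip k s) * f (flip k (flip k s))) = f s
  rw [flip_flip, sg_flip_not_lt (lt_irrefl k), ← mul_assoc, sg_mul_self, one_mul]

theorem gam_anticomm {j k : Fin n} (h : j ≠ k) : gam j * gam k = - (gam k * gam j) := by
  refine LinearMap.ext fun f => funext fun s => ?_
  change sg j s * (sg k (flip j s) * f (flip k (flip j s))) =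
    - (sg k s * (sg j (flip k s) * f (flip j (flip k s))))
  rw [flip_comm j k s]
  rcases lt_or_gt_of_ne h with h1 | h1
  · rw [sg_flip_lt h1, sg_flip_not_lt (not_lt.2 h1.le)]; ring
  · rw [sg_flip_lt h1, sg_flip_not_lt (not_lt.2 h1.le)]; ring

theorem dg_zs_mul_gam_ne {j k : Fin n} (h : j ≠ k) :
    dg (zs k) * gam j = gam j * dg (zs k) := by
  refine LinearMap.ext fun f => funext fun s => ?_
  change zs k s * (sg j s * f (flip j s)) = sg j s * (zs k (flip j s) * f (flip j s))
  rw [zs_flip_ne h.symm]; ring

theorem dg_zs_mul_gam_same (k : Fin n) :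
    dg (zs k) * gam k = - (gam k * dg (zs k)) := by
  refine LinearMap.ext fun f => funext fun s => ?_
  change zs k s * (sg k s * f (flip k s)) = - (sg k s * (zs k (flip k s) * f (flip k s)))
  rw [zs_flip_same]; ring

theorem gam_mul_del (j k : Fin n) : gam j * del k = - (del k * gam j) := by
  unfold del
  by_cases h : j = k
  · subst h
    rw [mul_assoc (gam j) (dg (zs j)) (gam j), dg_zs_mul_gam_same, mul_neg (α := E n),
      neg_neg (G := E n)]
  · rw [mul_assoc (gam k) (dg (zs k)) (gam j), dg_zs_mul_gam_ne h, ← mul_assoc, ← mul_assoc,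
      gam_anticomm h, neg_mul (α := E n)]

theorem one_add_one_add_one : (1 + 1 + 1 : E n) = 0 := by
  refine LinearMap.ext fun f => funext fun s => ?_
  change f s + f s + f s = 0
  have h3 : (3 : ZMod 3) = 0 := by decide
  linear_combination (f s) * h3

theorem one_ne_neg_one : (1 : E n) ≠ -1 := by
  intro h
  have h2 := congrArg (fun (x : E n) => x (fun _ => 1) (fun _ => false)) h
  have h3 : (1 : ZMod 3) = -1 := h2
  revert h3; decide

theorem gam_injective : Function.Injective (gam : Fin n → E n) := by
  intro j k hjk
  by_contra h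
  have h1 := gam_anticomm h
  rw [hjk, gam_mul_self] at h1
  exact one_ne_neg_one h1

end Cfsg.Agent.Lib.Helper2.Spin
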