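import Mathlib
import Cfsg.Agent.Lib.Helper2.Spin1

set_option autoImplicit false

/-! The commutant of the Jordan–Wigner operators `gam k`, `del k` consists of scalars. -/

namespace Cfsg.Agent.Lib.Helper2.Spin

variable {n : ℕ}

/-- delta function at `s` -/
def es (s : St n) : V n := Pi.single s 1

theorem es_apply (s t : St n) : es s t = if t = s then 1 else 0 := by
  unfold es; rw [Pi.single_apply]

theorem dg_es (φ : St n → ZMod 3) (s : St n) : dg φ (es s) = φ s • es s := by
  funext t
  rw [dg_apply, Pi.smul_apply, smul_eq_mul, es_apply]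
  by_cases h : t = s
  · subst h; simp
  · simp [h]

theorem gam_es (k : Fin n) (s : St n) : gam k (es s) = sg k s • es (flip k s) := by
  funext t
  rw [gam_apply, Pi.smul_apply, smul_eq_mul, es_apply, es_apply]
  by_cases h : t = flip k s
  · subst h; rw [flip_flip, if_pos rfl, if_pos rfl, sg_flip_not_lt (lt_irrefl k)]
  · rw [if_neg h, if_neg (fun h' => h ((flip_eq_iff k s t).1 h'))]; simp

theorem comm_dg_zs (x : E n) (hg : ∀ k, x * gam k = gam k * x) (hd : ∀ k, x * del k = del k * x)
    (k : Fin n) : x * dg (zs k) = dg (zs k) * x := by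
  have h1 : gam k * (x * dg (zs k)) = gam k * (dg (zs k) * x) := by
    have := hd k
    unfold del at this
    rw [← mul_assoc, hg k, mul_assoc, mul_assoc] at this
    exact this
  have h2 := congrArg (fun y => gam k * y) h1
  simp only [← mul_assoc, gam_mul_self, one_mul] at h2
  exact h2

theorem zs_injective (s t : St n) (h : ∀ k, zs k s = zs k t) : s = t := by
  funext k
  have := h k
  unfold zs at this
  cases hs : s k <;> cases ht : t k <;> simp [hs, ht] at this <;> first | rfl | (exfalso; revert this; decide)

theorem diag_of_comm (x : E n) (hz : ∀ k, x * dg (zs k) = dg (zs k) * x) (s t : St n)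
    (hts : t ≠ s) : x (es s) t = 0 := by
  obtain ⟨k, hk⟩ : ∃ k, zs k s ≠ zs k t := by
    by_contra hcon
    push Not at hcon
    exact hts (zs_injective s t hcon).symm
  have h1 := congrArg (fun (y : E n) => y (es s) t) (hz k)
  change x (dg (zs k) (es s)) t = zs k t * x (es s) t at h1
  rw [dg_es, map_smul, Pi.smul_apply, smul_eq_mul] at h1
  have h2 : (zs k s - zs k t) * x (es s) t = 0 := by linear_combination h1
  rcases mul_eq_zero.1 h2 with h3 | h3
  · exact absurd (sub_eq_zero.1 h3) hk
  · exact h3

theorem eq_smul_es (x : E n) (hz : ∀ k, x * dg (zs k) = dg (zs k) * x) (s : St n) :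
    x (es s) = (x (es s) s) • es s := by
  funext t
  rw [Pi.smul_apply, smul_eq_mul, es_apply]
  by_cases h : t = s
  · subst h; simp
  · rw [if_neg h, mul_zero]; exact diag_of_comm x hz s t h

theorem coef_flip (x : E n) (hg : ∀ k, x * gam k = gam k * x) (k : Fin n) (s : St n) :
    x (es (flip k s)) (flip k s) = x (es s) s := by
  have h1 := congrArg (fun (y : E n) => y (es s) (flip k s)) (hg k)
  change x (gam k (es s)) (flip k s) = gam k (x (es s)) (flip k s) at h1
  rw [gam_es, map_smul, Pi.smul_apply, smul_eq_mul, gam_apply, flip_flip,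
    sg_flip_not_lt (lt_irrefl k)] at h1
  have h2 : sg k s * (x (es (flip k s)) (flip k s) - x (es s) s) = 0 := by
    linear_combination h1
  rcases mul_eq_zero.1 h2 with h3 | h3
  · have := sg_mul_self k s
    rw [h3, zero_mul] at this
    exact absurd this zero_ne_one
  · exact sub_eq_zero.1 h3

theorem coef_const (x : E n) (hg : ∀ k, x * gam k = gam k * x) :
    ∀ (A : Finset (Fin n)) (s : St n), (∀ k, k ∉ A → s k = false) →
      x (es s) s = x (es (fun _ => false)) (fun _ => false) := by
  intro A
  induction A using Finset.induction_on with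
  | empty =>
    intro s hs
    have : s = fun _ => false := funext fun k => hs k (Finset.notMem_empty k)
    rw [this]
  | insert a A ha ih =>
    intro s hs
    cases hsa : s a with
    | false =>
      refine ih s fun k hk => ?_
      by_cases hka : k = a
      · rw [hka]; exact hsa
      · exact hs k (by simp [hka, hk])
    | true =>
      rw [← coef_flip x hg a s]
      refine ih (flip a s) fun k hk => ?_
      by_cases hka : k = a
      · rw [hka, flip_same, hsa]; rfl
      · rw [flip_ne hka]; exact hs k (by simp [hka, hk])

theorem comm_scalar (x : E n) (hg : ∀ k, x * gam k = gam k * x)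
    (hd : ∀ k, x * del k = del k * x) : ∃ c : ZMod 3, x = c • (1 : E n) := by
  have hz := comm_dg_zs x hg hd
  refine ⟨x (es (fun _ => false)) (fun _ => false), ?_⟩
  refine LinearMap.pi_ext fun s a => ?_
  have h1 : (Pi.single s a : V n) = a • es s := by
    funext t
    rw [Pi.smul_apply, smul_eq_mul, es_apply, Pi.single_apply]
    split_ifs <;> simp
  rw [h1, map_smul, map_smul, eq_smul_es x hz s, coef_const x hg Finset.univ s (by simp)]
  simp

theorem comm_cases (x : E n) (hg : ∀ k, x * gam k = gam k * x)
    (hd : ∀ k, x * del k = del k * x) : x = 0 ∨ x = 1 ∨ x = -1 := by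
  obtain ⟨c, hc⟩ := comm_scalar x hg hd
  have h3 : ∀ c : ZMod 3, c = 0 ∨ c = 1 ∨ c = -1 := by decide
  rcases h3 c with h | h | h
  · left; rw [hc, h, zero_smul]
  · right; left; rw [hc, h, one_smul]
  · right; right; rw [hc, h]
    refine LinearMap.ext fun f => funext fun t => ?_
    simp

end Cfsg.Agent.Lib.Helper2.Spin
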