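import Mathlib

set_option autoImplicit false

/-! Abstract Clifford systems in characteristic 3 and the double cover of the alternating group
living in their unit group. -/

namespace Cfsg.Agent.Lib.Helper2.Spin

/-- Anticommuting involutions `g k`, further elements `d k` anticommuting with all `g j`,
in a ring of characteristic 3 such that the joint commutant is `{0, 1, -1}`. -/
structure CliffSys (R : Type*) [Ring R] (n : ℕ) where
  g : Fin n → R
  d : Fin n → R
  g_sq : ∀ k, g k * g k = 1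
  g_anti : ∀ j k, j ≠ k → g j * g k = - (g k * g j)
  g_d : ∀ j k, g j * d k = - (d k * g j)
  three : (1 + 1 + 1 : R) = 0
  ne : (1 : R) ≠ -1
  comm : ∀ x : R, (∀ k, x * g k = g k * x) → (∀ k, x * d k = d k * x) → x = 0 ∨ x = 1 ∨ x = -1

variable {R : Type*} [Ring R] {n : ℕ} (C : CliffSys R n)

namespace CliffSys

theorem g_injective : Function.Injective C.g := by
  intro j k hjk
  by_contra h
  have h1 := C.g_anti j k h
  rw [hjk, C.g_sq] at h1
  exact C.ne h1

theorem one_add_one_eq (C : CliffSys R n) : (1 + 1 : R) = -1 := by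
  have := C.three
  exact eq_neg_of_add_eq_zero_left (by rw [← this])

/-- the "root vector" `g a - g b` -/
def u (a b : Fin n) : R := C.g a - C.g b

theorem u_sq {a b : Fin n} (h : a ≠ b) : C.u a b * C.u a b = -1 := by
  unfold u
  have h1 := C.g_anti a b h
  calc (C.g a - C.g b) * (C.g a - C.g b)
      = C.g a * C.g a - C.g a * C.g b - C.g b * C.g a + C.g b * C.g b := by noncomm_ring
    _ = 1 + 1 := by rw [h1, C.g_sq, C.g_sq]; abel
    _ = -1 := C.one_add_one_eq

/-- the root vector as a unit -/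
def uU {a b : Fin n} (h : a ≠ b) : Rˣ where
  val := C.u a b
  inv := - C.u a b
  val_inv := by rw [mul_neg, C.u_sq h, neg_neg]
  inv_val := by rw [neg_mul, C.u_sq h, neg_neg]

@[simp] theorem uU_val {a b : Fin n} (h : a ≠ b) : ((C.uU h : Rˣ) : R) = C.u a b := rfl

theorem u_mul_g {a b : Fin n} (h : a ≠ b) (m : Fin n) :
    C.u a b * C.g m = - (C.g (Equiv.swap a b m) * C.u a b) := by
  unfold u
  by_cases hma : m = a
  · subst hma
    rw [Equiv.swap_apply_left, sub_mul, mul_sub, C.g_sq, C.g_sq]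
    abel
  · by_cases hmb : m = b
    · subst hmb
      rw [Equiv.swap_apply_right, sub_mul, mul_sub, C.g_sq, C.g_sq]
      abel
    · rw [Equiv.swap_apply_of_ne_of_ne hma hmb, sub_mul, mul_sub,
        C.g_anti a m (Ne.symm hma), C.g_anti b m (Ne.symm hmb)]
      abel

theorem u_mul_d (a b k : Fin n) : C.u a b * C.d k = - (C.d k * C.u a b) := by
  unfold u
  rw [sub_mul, mul_sub, C.g_d, C.g_d]
  abel

theorem u_anticomm {a b c e : Fin n} (hac : a ≠ c) (hae : a ≠ e) (hbc : b ≠ c) (hbe : b ≠ e) :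
    C.u a b * C.u c e = - (C.u c e * C.u a b) := by
  unfold u
  rw [sub_mul, mul_sub, mul_sub, sub_mul, mul_sub, mul_sub, C.g_anti a c hac, C.g_anti a e hae,
    C.g_anti b c hbc, C.g_anti b e hbe]
  abel

/-- the double cover of the alternating group inside the unit group -/
def Gam : Subgroup Rˣ where
  carrier := {x | (∀ k, (x : R) * C.d k = C.d k * x) ∧
    ∃ σ : Equiv.Perm (Fin n), σ ∈ alternatingGroup (Fin n) ∧
      ∀ k, (x : R) * C.g k = C.g (σ k) * x}
  one_mem' := ⟨fun k => by simp, 1, one_mem _, fun k => by simp⟩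
  mul_mem' := by
    rintro x y ⟨hx, σ, hσ, hxσ⟩ ⟨hy, τ, hτ, hyτ⟩
    refine ⟨fun k => ?_, σ * τ, mul_mem hσ hτ, fun k => ?_⟩
    · rw [Units.val_mul, mul_assoc, hy k, ← mul_assoc, hx k, mul_assoc]
    · rw [Units.val_mul, mul_assoc, hyτ k, ← mul_assoc, hxσ (τ k), mul_assoc]
      rfl
  inv_mem' := by
    rintro x ⟨hx, σ, hσ, hxσ⟩
    refine ⟨fun k => ?_, σ⁻¹, inv_mem hσ, fun k => ?_⟩
    · calc ((x⁻¹ : Rˣ) : R) * C.d k
          = ((x⁻¹ : Rˣ) : R) * C.d k * ((x : R) * ((x⁻¹ : Rˣ) : R)) := by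
            rw [Units.mul_inv, mul_one]
        _ = ((x⁻¹ : Rˣ) : R) * (C.d k * (x : R)) * ((x⁻¹ : Rˣ) : R) := by noncomm_ring
        _ = ((x⁻¹ : Rˣ) : R) * ((x : R) * C.d k) * ((x⁻¹ : Rˣ) : R) := by rw [hx k]
        _ = (((x⁻¹ : Rˣ) : R) * (x : R)) * C.d k * ((x⁻¹ : Rˣ) : R) := by noncomm_ring
        _ = C.d k * ((x⁻¹ : Rˣ) : R) := by rw [Units.inv_mul, one_mul]
    · have h0 := hxσ (σ⁻¹ k)
      rw [show σ (σ⁻¹ k) = k from by simp] at h0
      have h2 := congrArg (fun y => ((x⁻¹ : Rˣ) : R) * y * ((x⁻¹ : Rˣ) : R)) h0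
      simp only [← mul_assoc, Units.inv_mul, one_mul] at h2
      simp only [mul_assoc, Units.mul_inv, mul_one] at h2
      exact h2.symm

theorem mem_Gam_iff (x : Rˣ) : x ∈ C.Gam ↔ (∀ k, (x : R) * C.d k = C.d k * x) ∧
    ∃ σ : Equiv.Perm (Fin n), σ ∈ alternatingGroup (Fin n) ∧
      ∀ k, (x : R) * C.g k = C.g (σ k) * x := Iff.rfl

theorem perm_unique (x : Rˣ) (σ τ : Equiv.Perm (Fin n))
    (hσ : ∀ k, (x : R) * C.g k = C.g (σ k) * x) (hτ : ∀ k, (x : R) * C.g k = C.g (τ k) * x) :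
    σ = τ := by
  ext k
  have h1 : C.g (σ k) * (x : R) = C.g (τ k) * x := (hσ k).symm.trans (hτ k)
  have h2 := congrArg (fun y => y * ((x⁻¹ : Rˣ) : R)) h1
  simp only [mul_assoc, Units.mul_inv, mul_one] at h2
  exact congrArg _ (C.g_injective h2)

/-- the permutation induced by an element of `Gam` -/
noncomputable def perm (x : C.Gam) : Equiv.Perm (Fin n) := Classical.choose x.2.2

theorem perm_mem (x : C.Gam) : C.perm x ∈ alternatingGroup (Fin n) :=
  (Classical.choose_spec x.2.2).1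

theorem perm_spec (x : C.Gam) (k : Fin n) :
    ((x : Rˣ) : R) * C.g k = C.g (C.perm x k) * ((x : Rˣ) : R) :=
  (Classical.choose_spec x.2.2).2 k

theorem perm_eq (x : C.Gam) (σ : Equiv.Perm (Fin n))
    (hσ : ∀ k, ((x : Rˣ) : R) * C.g k = C.g (σ k) * ((x : Rˣ) : R)) : C.perm x = σ :=
  C.perm_unique x _ _ (C.perm_spec x) hσ

/-- the covering homomorphism -/
noncomputable def piHom : C.Gam →* alternatingGroup (Fin n) where
  toFun x := ⟨C.perm x, C.perm_mem x⟩
  map_one' := by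
    apply Subtype.ext
    exact C.perm_eq 1 1 fun k => by simp
  map_mul' x y := by
    apply Subtype.ext
    refine C.perm_eq (x * y) (C.perm x * C.perm y) fun k => ?_
    rw [Subgroup.coe_mul, Units.val_mul, mul_assoc, C.perm_spec y k, ← mul_assoc,
      C.perm_spec x, mul_assoc]
    rfl

theorem piHom_coe (x : C.Gam) : ((C.piHom x : alternatingGroup (Fin n)) : Equiv.Perm (Fin n))
    = C.perm x := rfl

end CliffSys

end Cfsg.Agent.Lib.Helper2.Spin
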