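import Mathlib
import Cfsg.Agent.Lib.Helper2.Spin3

set_option autoImplicit false

/-! Kernel, surjectivity and the commutator computation for the double cover. -/

namespace Cfsg.Agent.Lib.Helper2.Spin

open scoped commutatorElement

variable {R : Type*} [Ring R] {n : ℕ} (C : CliffSys R n)

namespace CliffSys

/-- `-1` as an element of `Gam` -/
def negOne : C.Gam :=
  ⟨-1, fun k => by simp, 1, one_mem _, fun k => by simp⟩

theorem negOne_val : (((C.negOne : C.Gam) : Rˣ) : R) = -1 := by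
  simp [negOne]

theorem negOne_ne_one : C.negOne ≠ 1 := by
  intro h
  have h1 := congrArg (fun x : C.Gam => ((x : Rˣ) : R)) h
  simp only [negOne_val, OneMemClass.coe_one, Units.val_one] at h1
  exact C.ne h1.symm

theorem negOne_sq : C.negOne ^ 2 = 1 := by
  apply Subtype.ext
  apply Units.ext
  simp [negOne]

theorem negOne_mem_center : C.negOne ∈ Subgroup.center C.Gam := by
  rw [Subgroup.mem_center_iff]
  intro g
  apply Subtype.ext
  apply Units.ext
  simp [negOne]

theorem orderOf_negOne : orderOf C.negOne = 2 :=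
  haveI : Fact (Nat.Prime 2) := ⟨Nat.prime_two⟩
  orderOf_eq_prime C.negOne_sq C.negOne_ne_one

theorem perm_negOne : C.perm C.negOne = 1 :=
  C.perm_eq C.negOne 1 fun k => by simp [negOne]

theorem ker_piHom : C.piHom.ker = Subgroup.zpowers C.negOne := by
  apply le_antisymm
  · intro x hx
    rw [MonoidHom.mem_ker] at hx
    have hp : C.perm x = 1 := congrArg Subtype.val hx
    have hg : ∀ k, ((x : Rˣ) : R) * C.g k = C.g k * ((x : Rˣ) : R) := fun k => by
      have h1 := C.perm_spec x k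
      rw [hp] at h1
      exact h1
    have hd := x.2.1
    rcases C.comm _ hg hd with h | h | h
    · exfalso
      have h1 := Units.mul_inv (x : Rˣ)
      rw [h, zero_mul] at h1
      apply C.ne
      rw [← h1, neg_zero]
    · have h1 : x = 1 := Subtype.ext (Units.ext h)
      rw [h1]; exact one_mem _
    · have h1 : x = C.negOne := Subtype.ext (Units.ext (h.trans C.negOne_val.symm))
      rw [h1]; exact Subgroup.mem_zpowers _
  · rw [Subgroup.zpowers_le, MonoidHom.mem_ker]
    apply Subtype.ext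
    exact C.perm_negOne

/-- lift of a product of two transpositions -/
def dbl {a b c e : Fin n} (hab : a ≠ b) (hce : c ≠ e) : C.Gam :=
  ⟨C.uU hab * C.uU hce, by
    refine ⟨fun k => ?_, Equiv.swap a b * Equiv.swap c e, ?_, fun k => ?_⟩
    · rw [Units.val_mul, uU_val, uU_val, mul_assoc, C.u_mul_d, mul_neg, ← mul_assoc, C.u_mul_d,
        neg_mul, neg_neg, mul_assoc]
    · rw [Equiv.Perm.mem_alternatingGroup, map_mul, Equiv.Perm.sign_swap hab,
        Equiv.Perm.sign_swap hce]
      rfl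
    · rw [Units.val_mul, uU_val, uU_val, mul_assoc, C.u_mul_g hce, mul_neg, ← mul_assoc,
        C.u_mul_g hab, neg_mul, neg_neg, mul_assoc]
      rfl⟩

theorem dbl_val {a b c e : Fin n} (hab : a ≠ b) (hce : c ≠ e) :
    (((C.dbl hab hce : C.Gam) : Rˣ) : R) = C.u a b * C.u c e := rfl

theorem perm_dbl {a b c e : Fin n} (hab : a ≠ b) (hce : c ≠ e) :
    C.perm (C.dbl hab hce) = Equiv.swap a b * Equiv.swap c e := by
  refine C.perm_eq _ _ fun k => ?_
  rw [dbl_val, mul_assoc, C.u_mul_g hce, mul_neg, ← mul_assoc,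
        C.u_mul_g hab, neg_mul, neg_neg, mul_assoc]
  rfl

/-- the image of the covering map as a subgroup of the symmetric group -/
noncomputable def img : Subgroup (Equiv.Perm (Fin n)) :=
  C.piHom.range.map (alternatingGroup (Fin n)).subtype

theorem mem_img_iff (σ : Equiv.Perm (Fin n)) : σ ∈ C.img ↔ ∃ x : C.Gam, C.perm x = σ := by
  unfold img
  constructor
  · rintro ⟨y, ⟨x, rfl⟩, rfl⟩
    exact ⟨x, rfl⟩
  · rintro ⟨x, rfl⟩
    exact ⟨C.piHom x, ⟨x, rfl⟩, rfl⟩

theorem swap_mul_swap_mem_img {s t : Equiv.Perm (Fin n)} (hs : s.IsSwap) (ht : t.IsSwap) :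
    s * t ∈ C.img := by
  obtain ⟨a, b, hab, rfl⟩ := hs
  obtain ⟨c, e, hce, rfl⟩ := ht
  exact (C.mem_img_iff _).2 ⟨C.dbl hab hce, C.perm_dbl hab hce⟩

theorem alternating_le_img : alternatingGroup (Fin n) ≤ C.img := by
  intro σ hσ
  suffices hind : ∀ (m : ℕ) (l : List (Equiv.Perm (Fin n))) (_ : ∀ g, g ∈ l → g.IsSwap)
      (_ : l.length = 2 * m), l.prod ∈ C.img by
    obtain ⟨l, rfl, hl⟩ := Equiv.Perm.truncSwapFactors σ
    obtain ⟨m, hm⟩ := (Equiv.Perm.prod_list_swap_mem_alternatingGroup_iff_even_length hl).1 hσ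
    rw [← two_mul] at hm
    exact hind m l hl hm
  intro m
  induction m with
  | zero =>
    intro l _ hm
    rw [List.length_eq_zero_iff.1 hm]
    exact one_mem _
  | succ m ih =>
    intro l hl hm
    rw [Nat.mul_succ] at hm
    obtain ⟨a, l, rfl⟩ := l.exists_of_length_succ hm
    rw [List.length_cons, Nat.succ_inj] at hm
    obtain ⟨b, l, rfl⟩ := l.exists_of_length_succ hm
    rw [List.prod_cons, List.prod_cons, ← mul_assoc]
    rw [List.length_cons, Nat.succ_inj] at hm
    exact mul_mem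
      (C.swap_mul_swap_mem_img (hl a List.mem_cons_self)
        (hl b (List.mem_cons_of_mem a List.mem_cons_self)))
      (ih _ (fun g hg => hl g (List.mem_cons_of_mem _ (List.mem_cons_of_mem _ hg))) hm)

theorem piHom_surjective : Function.Surjective C.piHom := by
  intro σ
  obtain ⟨x, hx⟩ := (C.mem_img_iff _).1 (C.alternating_le_img σ.2)
  exact ⟨x, Subtype.ext hx⟩

theorem mul_u (x : C.Gam) (a b : Fin n) :
    ((x : Rˣ) : R) * C.u a b = C.u (C.perm x a) (C.perm x b) * ((x : Rˣ) : R) := by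
  unfold u
  rw [mul_sub, sub_mul, C.perm_spec, C.perm_spec]

theorem negOne_mem_commutator (hn : 4 ≤ n) : C.negOne ∈ commutator C.Gam := by
  have h01 : (⟨0, by omega⟩ : Fin n) ≠ ⟨1, by omega⟩ := by simp [Fin.ext_iff]
  have h02 : (⟨0, by omega⟩ : Fin n) ≠ ⟨2, by omega⟩ := by simp [Fin.ext_iff]
  have h03 : (⟨0, by omega⟩ : Fin n) ≠ ⟨3, by omega⟩ := by simp [Fin.ext_iff]
  have h12 : (⟨1, by omega⟩ : Fin n) ≠ ⟨2, by omega⟩ := by simp [Fin.ext_iff]
  have h13 : (⟨1, by omega⟩ : Fin n) ≠ ⟨3, by omega⟩ := by simp [Fin.ext_iff]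
  have h23 : (⟨2, by omega⟩ : Fin n) ≠ ⟨3, by omega⟩ := by simp [Fin.ext_iff]
  set i0 : Fin n := ⟨0, by omega⟩
  set i1 : Fin n := ⟨1, by omega⟩
  set i2 : Fin n := ⟨2, by omega⟩
  set i3 : Fin n := ⟨3, by omega⟩
  set x := C.dbl h01 h23
  set y := C.dbl h02 h13
  have hp0 : C.perm x i0 = i1 := by
    rw [C.perm_dbl, Equiv.Perm.mul_apply, Equiv.swap_apply_of_ne_of_ne h02 h03,
      Equiv.swap_apply_left]
  have hp2 : C.perm x i2 = i3 := by
    rw [C.perm_dbl, Equiv.Perm.mul_apply, Equiv.swap_apply_left,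
      Equiv.swap_apply_of_ne_of_ne h03.symm h13.symm]
  have hp1 : C.perm x i1 = i0 := by
    rw [C.perm_dbl, Equiv.Perm.mul_apply, Equiv.swap_apply_of_ne_of_ne h12 h13,
      Equiv.swap_apply_right]
  have hp3 : C.perm x i3 = i2 := by
    rw [C.perm_dbl, Equiv.Perm.mul_apply, Equiv.swap_apply_right,
      Equiv.swap_apply_of_ne_of_ne h02.symm h12.symm]
  have hxy : x * y = C.negOne * (y * x) := by
    apply Subtype.ext
    apply Units.ext
    rw [Subgroup.coe_mul, Units.val_mul, Subgroup.coe_mul, Units.val_mul, Subgroup.coe_mul,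
      Units.val_mul, C.negOne_val]
    have hy : (((y : C.Gam) : Rˣ) : R) = C.u i0 i2 * C.u i1 i3 := rfl
    rw [hy, ← mul_assoc, C.mul_u x i0 i2, hp0, hp2, mul_assoc, C.mul_u x i1 i3, hp1, hp3,
      ← mul_assoc, C.u_anticomm h01.symm h12 h03.symm h23.symm]
    noncomm_ring
  have hc : ⁅x, y⁆ = C.negOne := by
    rw [commutatorElement_def, hxy]
    group
  rw [← hc, commutator_def]
  exact Subgroup.commutator_mem_commutator (Subgroup.mem_top x) (Subgroup.mem_top y)

end CliffSys

end Cfsg.Agent.Lib.Helper2.Spin
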