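import Mathlib
import Cfsg.Agent.Lib.Helper2.Spin2
import Cfsg.Agent.Lib.Helper2.Spin4

set_option autoImplicit false

/-! Existence of the double cover of the alternating group. -/

namespace Cfsg.Agent.Lib.Helper2.Spin

/-- the Jordan–Wigner Clifford system -/
def sys (n : ℕ) : CliffSys (E n) n where
  g := gam
  d := del
  g_sq := gam_mul_self
  g_anti := fun _ _ h => gam_anticomm h
  g_d := gam_mul_del
  three := one_add_one_add_one
  ne := one_ne_neg_one
  comm := fun x hg hd => comm_cases x hg hd

instance finite_E (n : ℕ) : Finite (E n) :=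
  Finite.of_injective (fun f : E n => (f : V n → V n)) DFunLike.coe_injective

theorem exists_double_cover (n : ℕ) (hn : 4 ≤ n) :
    ∃ (Γ : Type) (_ : Group Γ) (_ : Finite Γ) (z : Γ) (_ : z ∈ Subgroup.center Γ),
      orderOf z = 2 ∧ z ∈ commutator Γ ∧ ∃ _ : (Subgroup.zpowers z).Normal,
        Nonempty (Γ ⧸ Subgroup.zpowers z ≃* alternatingGroup (Fin n)) := by
  have hker := (sys n).ker_piHom
  have hN : (Subgroup.zpowers (sys n).negOne).Normal := by
    rw [← hker]; infer_instance
  refine ⟨↥((sys n).Gam), inferInstance, inferInstance, (sys n).negOne,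
    (sys n).negOne_mem_center, (sys n).orderOf_negOne, (sys n).negOne_mem_commutator hn, hN, ?_⟩
  exact ⟨(QuotientGroup.quotientMulEquivOfEq hker.symm).trans
    (QuotientGroup.quotientKerEquivOfSurjective _ (sys n).piHom_surjective)⟩

end Cfsg.Agent.Lib.Helper2.Spin
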