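import Mathlib
import Cfsg.Agent.Lib.Helper2.HypExt3
import Cfsg.Agent.Lib.Helper2.Dickson3

/-!
# S4625 (PK-OM / PK-OP): Eichler maps on `H ⊥ Q'` and the embedding of `O(Q')`

For a quadratic form `Q'` on `κ → F` and `HQ Q'` (hyperbolic plane `⊥ Q'`) on `Fin 2 ⊕ κ → F`:
* `eich z` : the Eichler (Siegel) transformation `(x, y, t) ↦ (x + B'(t, z) - Q'(z) y, y, t - y z)`,
  an isometry of `HQ Q'`; `z ↦ eich z` is an injective homomorphism from `(κ → F, +)`;
* `embHom` : the embedding `O(Q') →* O(HQ Q')`, `A ↦ 1 ⊕ A`; it normalizes the Eichler group and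
  meets it trivially.
-/

set_option autoImplicit false
set_option linter.unusedSectionVars false

namespace Cfsg.Agent.Lib.Helper2

namespace SqHQ

open Matrix HypExt Cfsg.Agent.Lib.Helper2.ReflGen Cfsg.Agent.Lib.Helper2.CDG

variable {F : Type*} [Field F] {κ : Type} [Fintype κ] [DecidableEq κ]

/-- the Eichler map on vectors -/
def eichFun (Q' : QuadraticForm F (κ → F)) (z : κ → F) (v : Fin 2 ⊕ κ → F) : Fin 2 ⊕ κ → F :=
  mk3 (v (Sum.inl 0) + QuadraticMap.polar (⇑Q') (tl v) z - Q' z * v (Sum.inl 1)) (v (Sum.inl 1))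
    (tl v - v (Sum.inl 1) • z)

omit [Fintype κ] [DecidableEq κ] in
theorem eichFun_zero' (Q' : QuadraticForm F (κ → F)) (v : Fin 2 ⊕ κ → F) :
    eichFun Q' 0 v = v := by
  unfold eichFun
  apply ext3
  · simp
  · simp
  · simp

omit [Fintype κ] [DecidableEq κ] in
theorem eichFun_add (Q' : QuadraticForm F (κ → F)) (z z' : κ → F) (v : Fin 2 ⊕ κ → F) :
    eichFun Q' z (eichFun Q' z' v) = eichFun Q' (z + z') v := by
  unfold eichFun
  apply ext3
  · simp only [mk3_zero, mk3_one, tl_mk3]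
    rw [QuadraticMap.polar_sub_left, QuadraticMap.polar_smul_left, QuadraticMap.polar_add_right,
      QuadraticMap.map_add Q', QuadraticMap.polar_comm (⇑Q') z' z]
    simp only [smul_eq_mul]
    ring
  · simp
  · simp only [mk3_one, tl_mk3]
    rw [smul_add]
    abel

omit [Fintype κ] [DecidableEq κ] in
theorem HQ_eichFun (Q' : QuadraticForm F (κ → F)) (z : κ → F) (v : Fin 2 ⊕ κ → F) :
    HQ Q' (eichFun Q' z v) = HQ Q' v := by
  unfold eichFun
  rw [HQ_apply, HQ_apply]
  simp only [mk3_zero, mk3_one, tl_mk3]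
  have e : tl v - v (Sum.inl 1) • z = tl v + (-v (Sum.inl 1)) • z := by
    rw [neg_smul, sub_eq_add_neg]
  rw [e, QuadraticMap.map_add Q', QuadraticMap.map_smul, QuadraticMap.polar_smul_right]
  simp only [smul_eq_mul]
  ring

/-- the Eichler map as a linear map -/
def eichLin (Q' : QuadraticForm F (κ → F)) (z : κ → F) :
    (Fin 2 ⊕ κ → F) →ₗ[F] (Fin 2 ⊕ κ → F) where
  toFun := eichFun Q' z
  map_add' := by
    intro v v'
    unfold eichFun
    apply ext3
    · simp only [mk3_zero, Pi.add_apply, tl_add]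
      rw [QuadraticMap.polar_add_left]
      ring
    · simp
    · simp only [tl_mk3, tl_add, Pi.add_apply, add_smul]
      abel
  map_smul' := by
    intro c v
    unfold eichFun
    apply ext3
    · simp only [mk3_zero, Pi.smul_apply, tl_smul, smul_eq_mul, RingHom.id_apply]
      rw [QuadraticMap.polar_smul_left]
      simp only [smul_eq_mul]
      ring
    · simp
    · simp only [tl_mk3, tl_smul, Pi.smul_apply, smul_eq_mul, RingHom.id_apply]
      rw [smul_sub, smul_smul]

/-- the matrix of the Eichler map -/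
noncomputable def eichMat (Q' : QuadraticForm F (κ → F)) (z : κ → F) :
    Matrix (Fin 2 ⊕ κ) (Fin 2 ⊕ κ) F :=
  LinearMap.toMatrix' (eichLin Q' z)

theorem eichMat_mulVec (Q' : QuadraticForm F (κ → F)) (z : κ → F) (v : Fin 2 ⊕ κ → F) :
    eichMat Q' z *ᵥ v = eichFun Q' z v := by
  unfold eichMat
  rw [← Matrix.toLin'_apply, Matrix.toLin'_toMatrix']
  rfl

/-- the Eichler transformation as an isometry -/
noncomputable def eich (Q' : QuadraticForm F (κ → F))
    (hQ' : (QuadraticMap.polarBilin Q').Nondegenerate) (z : κ → F) :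
    ↥(Cfsg.isometryGroup F ⇑(HQ Q')) :=
  Siegel.mkIso (HQ_nondeg Q' hQ') (eichMat Q' z)
    (fun v => by rw [eichMat_mulVec, HQ_eichFun])

theorem eich_mulVec (Q' : QuadraticForm F (κ → F))
    (hQ' : (QuadraticMap.polarBilin Q').Nondegenerate) (z : κ → F) (v : Fin 2 ⊕ κ → F) :
    ((eich Q' hQ' z : Matrix.GeneralLinearGroup (Fin 2 ⊕ κ) F) :
      Matrix (Fin 2 ⊕ κ) (Fin 2 ⊕ κ) F) *ᵥ v = eichFun Q' z v := by
  unfold eich
  rw [Siegel.mkIso_coe, eichMat_mulVec]

theorem eich_zero (Q' : QuadraticForm F (κ → F))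
    (hQ' : (QuadraticMap.polarBilin Q').Nondegenerate) : eich Q' hQ' 0 = 1 := by
  apply iso_ext
  intro x
  rw [eich_mulVec, eichFun_zero', one_mulVec']

theorem eich_add (Q' : QuadraticForm F (κ → F))
    (hQ' : (QuadraticMap.polarBilin Q').Nondegenerate) (z z' : κ → F) :
    eich Q' hQ' (z + z') = eich Q' hQ' z * eich Q' hQ' z' := by
  apply iso_ext
  intro x
  rw [mul_mulVec, eich_mulVec, eich_mulVec, eich_mulVec, eichFun_add]

/-- the Eichler homomorphism -/
noncomputable def eichHom (Q' : QuadraticForm F (κ → F))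
    (hQ' : (QuadraticMap.polarBilin Q').Nondegenerate) :
    Multiplicative (κ → F) →* ↥(Cfsg.isometryGroup F ⇑(HQ Q')) where
  toFun z := eich Q' hQ' (Multiplicative.toAdd z)
  map_one' := eich_zero Q' hQ'
  map_mul' _ _ := eich_add Q' hQ' _ _

theorem eichHom_apply (Q' : QuadraticForm F (κ → F))
    (hQ' : (QuadraticMap.polarBilin Q').Nondegenerate) (z : Multiplicative (κ → F)) :
    eichHom Q' hQ' z = eich Q' hQ' (Multiplicative.toAdd z) := rfl

/-- the image of the second hyperbolic vector determines `z` -/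
theorem eichFun_f (Q' : QuadraticForm F (κ → F)) (z : κ → F) :
    eichFun Q' z (mk3 0 1 0) = mk3 (-Q' z) 1 (-z) := by
  unfold eichFun
  apply ext3
  · simp
  · simp
  · simp

theorem eich_injective (Q' : QuadraticForm F (κ → F))
    (hQ' : (QuadraticMap.polarBilin Q').Nondegenerate) : Function.Injective (eich Q' hQ') := by
  intro z z' h
  have h1 := congrArg (fun g : ↥(Cfsg.isometryGroup F ⇑(HQ Q')) =>
    ((g : Matrix.GeneralLinearGroup (Fin 2 ⊕ κ) F) : Matrix (Fin 2 ⊕ κ) (Fin 2 ⊕ κ) F) *ᵥ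
      mk3 0 1 0) h
  simp only [eich_mulVec, eichFun_f] at h1
  have h2 := congrArg tl h1
  rw [tl_mk3, tl_mk3] at h2
  exact neg_injective h2

theorem eichHom_injective (Q' : QuadraticForm F (κ → F))
    (hQ' : (QuadraticMap.polarBilin Q').Nondegenerate) : Function.Injective (eichHom Q' hQ') := by
  intro z z' h
  exact Multiplicative.toAdd.injective (eich_injective Q' hQ' h)

/-- in characteristic two the Eichler transformations are involutions -/
theorem eich_mul_self (Q' : QuadraticForm F (κ → F))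
    (hQ' : (QuadraticMap.polarBilin Q').Nondegenerate) (h2 : (2 : F) = 0) (z : κ → F) :
    eich Q' hQ' z * eich Q' hQ' z = 1 := by
  rw [← eich_add, ← eich_zero Q' hQ']
  congr 1
  rw [← two_smul F z, h2, zero_smul]

/-! ### the embedding of `O(Q')` -/

theorem emb_mul (A B : Matrix κ κ F) : emb (A * B) = emb A * emb B := by
  unfold emb
  rw [Matrix.fromBlocks_multiply]
  simp

theorem emb_one : emb (1 : Matrix κ κ F) = 1 := by
  unfold emb
  exact Matrix.fromBlocks_one

/-- the embedding `O(Q') → O(HQ Q')` -/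
noncomputable def embHom (Q' : QuadraticForm F (κ → F))
    (hQ' : (QuadraticMap.polarBilin Q').Nondegenerate) :
    ↥(Cfsg.isometryGroup F ⇑Q') →* ↥(Cfsg.isometryGroup F ⇑(HQ Q')) where
  toFun A := Siegel.mkIso (HQ_nondeg Q' hQ')
    (emb ((A : Matrix.GeneralLinearGroup κ F) : Matrix κ κ F))
    (emb_preserves Q' _ (fun w => iso_Q A w))
  map_one' := by
    apply Subtype.ext
    apply Units.ext
    rw [Siegel.mkIso_coe]
    exact emb_one
  map_mul' A B := by
    apply Subtype.ext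
    apply Units.ext
    rw [Siegel.mkIso_coe]
    show emb _ = emb _ * emb _
    rw [← emb_mul]
    rfl

theorem embHom_coe (Q' : QuadraticForm F (κ → F))
    (hQ' : (QuadraticMap.polarBilin Q').Nondegenerate) (A : ↥(Cfsg.isometryGroup F ⇑Q')) :
    ((embHom Q' hQ' A : Matrix.GeneralLinearGroup (Fin 2 ⊕ κ) F) :
      Matrix (Fin 2 ⊕ κ) (Fin 2 ⊕ κ) F) =
      emb ((A : Matrix.GeneralLinearGroup κ F) : Matrix κ κ F) := rfl

theorem embHom_mulVec (Q' : QuadraticForm F (κ → F))
    (hQ' : (QuadraticMap.polarBilin Q').Nondegenerate) (A : ↥(Cfsg.isometryGroup F ⇑Q'))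
    (v : Fin 2 ⊕ κ → F) :
    ((embHom Q' hQ' A : Matrix.GeneralLinearGroup (Fin 2 ⊕ κ) F) :
      Matrix (Fin 2 ⊕ κ) (Fin 2 ⊕ κ) F) *ᵥ v =
      mk3 (v (Sum.inl 0)) (v (Sum.inl 1))
        (((A : Matrix.GeneralLinearGroup κ F) : Matrix κ κ F) *ᵥ tl v) := by
  rw [embHom_coe]
  apply ext3
  · rw [emb_mulVec_inl, mk3_zero]
  · rw [emb_mulVec_inl, mk3_one]
  · rw [tl_emb_mulVec, tl_mk3]

theorem embHom_injective (Q' : QuadraticForm F (κ → F))
    (hQ' : (QuadraticMap.polarBilin Q').Nondegenerate) : Function.Injective (embHom Q' hQ') := by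
  intro A B h
  have h1 := congrArg (fun z : ↥(Cfsg.isometryGroup F ⇑(HQ Q')) =>
    ((z : Matrix.GeneralLinearGroup (Fin 2 ⊕ κ) F) : Matrix (Fin 2 ⊕ κ) (Fin 2 ⊕ κ) F)) h
  simp only [embHom_coe] at h1
  apply Subtype.ext
  apply Units.ext
  exact emb_injective h1

/-- conjugation of an Eichler transformation by an embedded isometry -/
theorem embHom_conj_eich (Q' : QuadraticForm F (κ → F))
    (hQ' : (QuadraticMap.polarBilin Q').Nondegenerate) (A : ↥(Cfsg.isometryGroup F ⇑Q'))
    (z : κ → F) :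
    embHom Q' hQ' A * eich Q' hQ' z =
      eich Q' hQ' (((A : Matrix.GeneralLinearGroup κ F) : Matrix κ κ F) *ᵥ z) *
        embHom Q' hQ' A := by
  apply iso_ext
  intro v
  rw [mul_mulVec, mul_mulVec, eich_mulVec, eich_mulVec, embHom_mulVec, embHom_mulVec]
  unfold eichFun
  apply ext3
  · simp only [mk3_zero, mk3_one, tl_mk3]
    rw [iso_polar, iso_Q]
  · simp
  · simp only [mk3_one, tl_mk3]
    rw [Matrix.mulVec_sub, Matrix.mulVec_smul]

/-- an embedded isometry which is an Eichler transformation is trivial -/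
theorem eich_eq_embHom (Q' : QuadraticForm F (κ → F))
    (hQ' : (QuadraticMap.polarBilin Q').Nondegenerate) (A : ↥(Cfsg.isometryGroup F ⇑Q'))
    (z : κ → F) (h : eich Q' hQ' z = embHom Q' hQ' A) : z = 0 := by
  have h1 := congrArg (fun g : ↥(Cfsg.isometryGroup F ⇑(HQ Q')) =>
    ((g : Matrix.GeneralLinearGroup (Fin 2 ⊕ κ) F) : Matrix (Fin 2 ⊕ κ) (Fin 2 ⊕ κ) F) *ᵥ
      mk3 0 1 0) h
  simp only [eich_mulVec, eichFun_f, embHom_mulVec] at h1
  have h2 := congrArg tl h1
  rw [tl_mk3, tl_mk3, tl_mk3, Matrix.mulVec_zero] at h2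
  exact neg_eq_zero.1 h2

end SqHQ

end Cfsg.Agent.Lib.Helper2
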