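import Mathlib
import Cfsg.Agent.Lib.Helper2.SqHQ1

/-!
# S4625 (PK-OM / PK-OP): the Dickson invariant of Eichler maps and of embedded isometries
-/

set_option autoImplicit false
set_option linter.unusedSectionVars false

namespace Cfsg.Agent.Lib.Helper2

namespace SqHQ

open Matrix HypExt Dickson Cfsg.Agent.Lib.Helper2.ReflGen Cfsg.Agent.Lib.Helper2.CDG

variable {F : Type*} [Field F] {κ : Type} [Fintype κ] [DecidableEq κ]

/-- fixed vectors of an embedded isometry -/
theorem mem_Fix_embHom (Q' : QuadraticForm F (κ → F))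
    (hQ' : (QuadraticMap.polarBilin Q').Nondegenerate) (A : ↥(Cfsg.isometryGroup F ⇑Q'))
    (v : Fin 2 ⊕ κ → F) : v ∈ Fix (embHom Q' hQ' A) ↔ tl v ∈ Fix A := by
  rw [mem_Fix, mem_Fix, embHom_mulVec]
  constructor
  · intro h
    have := congrArg tl h
    rwa [tl_mk3] at this
  · intro h
    apply ext3
    · rw [mk3_zero]
    · rw [mk3_one]
    · rw [tl_mk3, h]

/-- the fixed space of an embedded isometry -/
noncomputable def fixEmbEquiv (Q' : QuadraticForm F (κ → F))
    (hQ' : (QuadraticMap.polarBilin Q').Nondegenerate) (A : ↥(Cfsg.isometryGroup F ⇑Q')) :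
    ↥(Fix (embHom Q' hQ' A)) ≃ₗ[F] (Fin 2 → F) × ↥(Fix A) where
  toFun v := (fun i => v.1 (Sum.inl i), ⟨tl v.1, (mem_Fix_embHom Q' hQ' A v.1).1 v.2⟩)
  map_add' v w := rfl
  map_smul' c v := rfl
  invFun p := ⟨Sum.elim p.1 p.2.1, by
    rw [mem_Fix_embHom]
    exact p.2.2⟩
  left_inv v := by
    apply Subtype.ext
    funext i
    rcases i with i | k
    · rfl
    · rfl
  right_inv p := by
    rcases p with ⟨a, t⟩
    rfl

theorem finrank_Fix_embHom (Q' : QuadraticForm F (κ → F))
    (hQ' : (QuadraticMap.polarBilin Q').Nondegenerate) (A : ↥(Cfsg.isometryGroup F ⇑Q')) :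
    Module.finrank F ↥(Fix (embHom Q' hQ' A)) = 2 + Module.finrank F ↥(Fix A) := by
  rw [LinearEquiv.finrank_eq (fixEmbEquiv Q' hQ' A), Module.finrank_prod,
    Module.finrank_fintype_fun_eq_card, Fintype.card_fin]

theorem dfun_embHom (Q' : QuadraticForm F (κ → F))
    (hQ' : (QuadraticMap.polarBilin Q').Nondegenerate) (A : ↥(Cfsg.isometryGroup F ⇑Q')) :
    dfun (embHom Q' hQ' A) = dfun A := by
  unfold dfun
  rw [finrank_Fix_embHom, Fintype.card_sum, Fintype.card_fin]
  push_cast
  have h : ((2 : ℕ) : ZMod 2) = 0 := by decide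
  have h' : (2 : ZMod 2) = 0 := by decide
  rw [h']
  ring

/-- the functional cutting out the fixed space of an Eichler map -/
def eichFunc (Q' : QuadraticForm F (κ → F)) (z : κ → F) :
    (Fin 2 ⊕ κ → F) →ₗ[F] F × F where
  toFun v := (v (Sum.inl 1), QuadraticMap.polar (⇑Q') (tl v) z)
  map_add' v w := by
    show (_, _) = (_, _)
    rw [tl_add, QuadraticMap.polar_add_left]
    rfl
  map_smul' c v := by
    show (_, _) = (_, _)
    rw [tl_smul, QuadraticMap.polar_smul_left]
    rfl

theorem Fix_eich (Q' : QuadraticForm F (κ → F))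
    (hQ' : (QuadraticMap.polarBilin Q').Nondegenerate) {z : κ → F} (hz : z ≠ 0) :
    Fix (eich Q' hQ' z) = LinearMap.ker (eichFunc Q' z) := by
  ext v
  rw [mem_Fix, eich_mulVec, LinearMap.mem_ker]
  show eichFun Q' z v = v ↔ (v (Sum.inl 1), QuadraticMap.polar (⇑Q') (tl v) z) = 0
  rw [Prod.mk_eq_zero]
  unfold eichFun
  constructor
  · intro h
    have h2 := congrArg tl h
    rw [tl_mk3] at h2
    have h3 : v (Sum.inl 1) • z = 0 := by
      have : tl v - v (Sum.inl 1) • z = tl v - 0 := by rw [h2, sub_zero]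
      exact sub_right_injective this
    have hy : v (Sum.inl 1) = 0 := by
      rcases smul_eq_zero.1 h3 with h4 | h4
      · exact h4
      · exact absurd h4 hz
    refine ⟨hy, ?_⟩
    have h0 := congrFun h (Sum.inl 0)
    rw [mk3_zero, hy, mul_zero, sub_zero] at h0
    exact add_left_cancel (a := v (Sum.inl 0)) (by rw [h0, add_zero])
  · rintro ⟨hy, hB⟩
    apply ext3
    · rw [mk3_zero, hy, hB, mul_zero, add_zero, sub_zero]
    · rw [mk3_one]
    · rw [tl_mk3, hy, zero_smul, sub_zero]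

theorem eichFunc_surjective (Q' : QuadraticForm F (κ → F))
    (hQ' : (QuadraticMap.polarBilin Q').Nondegenerate) {z : κ → F} (hz : z ≠ 0) :
    Function.Surjective (eichFunc Q' z) := by
  -- a vector `t` with `B'(t, z) = 1`
  have hex : ∃ t : κ → F, QuadraticMap.polar (⇑Q') t z ≠ 0 := by
    by_contra hcon
    push Not at hcon
    apply hz
    have h1 := hQ'.1
    apply h1 z
    intro t
    show QuadraticMap.polar (⇑Q') z t = 0
    rw [QuadraticMap.polar_comm]
    exact hcon t
  obtain ⟨t, ht⟩ := hex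
  rintro ⟨a, b⟩
  refine ⟨mk3 0 a ((b / QuadraticMap.polar (⇑Q') t z) • t), ?_⟩
  show (_, _) = (_, _)
  rw [mk3_one, tl_mk3, QuadraticMap.polar_smul_left, smul_eq_mul, div_mul_cancel₀ _ ht]

theorem finrank_Fix_eich (Q' : QuadraticForm F (κ → F))
    (hQ' : (QuadraticMap.polarBilin Q').Nondegenerate) {z : κ → F} (hz : z ≠ 0) :
    Module.finrank F ↥(Fix (eich Q' hQ' z)) + 2 = Fintype.card (Fin 2 ⊕ κ) := by
  rw [Fix_eich Q' hQ' hz]
  have h := LinearMap.finrank_range_add_finrank_ker (eichFunc Q' z)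
  rw [LinearMap.range_eq_top.2 (eichFunc_surjective Q' hQ' hz), finrank_top, Module.finrank_prod,
    Module.finrank_self, Module.finrank_fintype_fun_eq_card] at h
  omega

theorem dfun_eich (Q' : QuadraticForm F (κ → F))
    (hQ' : (QuadraticMap.polarBilin Q').Nondegenerate) (z : κ → F) :
    dfun (eich Q' hQ' z) = 0 := by
  by_cases hz : z = 0
  · rw [hz, eich_zero, dfun_one]
  · unfold dfun
    have h := finrank_Fix_eich Q' hQ' hz
    rw [← h]
    push_cast
    have h' : (2 : ZMod 2) = 0 := by decide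
    rw [h', add_zero]
    have h4 : ∀ a : ZMod 2, a + a = 0 := by decide
    exact h4 _

end SqHQ

end Cfsg.Agent.Lib.Helper2
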