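import Mathlib
import Cfsg.Agent.Lib.Helper2.SqHQ2

/-!
# S4625 (PK-OM / PK-OP): the step `Q' ↦ HQ Q'`

A set `S'` of involutions of Dickson invariant `0` in `O(Q')` generating a group of order `N'`
gives such a set in `O(HQ Q')` generating a group of order `|F| ^ |κ| * N'`.
-/

set_option autoImplicit false
set_option linter.unusedSectionVars false

namespace Cfsg.Agent.Lib.Helper2

namespace SqHQ

open Matrix HypExt Dickson Cfsg.Agent.Lib.Helper2.ReflGen Cfsg.Agent.Lib.Helper2.CDG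

section Abstract

variable {G : Type*} [Group G]

/-- the product of a subgroup `A` and a subgroup `H` normalizing it, as a subgroup -/
def prodSub (A H : Subgroup G) (hn : ∀ h ∈ H, ∀ a ∈ A, h * a * h⁻¹ ∈ A) : Subgroup G where
  carrier := {g | ∃ a ∈ A, ∃ h ∈ H, g = a * h}
  one_mem' := ⟨1, A.one_mem, 1, H.one_mem, (one_mul 1).symm⟩
  mul_mem' := by
    rintro _ _ ⟨a, ha, h, hh, rfl⟩ ⟨a', ha', h', hh', rfl⟩
    refine ⟨a * (h * a' * h⁻¹), A.mul_mem ha (hn h hh a' ha'), h * h', H.mul_mem hh hh', ?_⟩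
    group
  inv_mem' := by
    rintro _ ⟨a, ha, h, hh, rfl⟩
    refine ⟨h⁻¹ * a⁻¹ * h⁻¹⁻¹, hn h⁻¹ (H.inv_mem hh) a⁻¹ (A.inv_mem ha), h⁻¹, H.inv_mem hh, ?_⟩
    group

theorem sup_eq_prodSub (A H : Subgroup G) (hn : ∀ h ∈ H, ∀ a ∈ A, h * a * h⁻¹ ∈ A) :
    A ⊔ H = prodSub A H hn := by
  apply le_antisymm
  · apply sup_le
    · intro a ha
      exact ⟨a, ha, 1, H.one_mem, (mul_one a).symm⟩
    · intro h hh
      exact ⟨1, A.one_mem, h, hh, (one_mul h).symm⟩
  · rintro _ ⟨a, ha, h, hh, rfl⟩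
    exact (A ⊔ H).mul_mem ((le_sup_left : A ≤ A ⊔ H) ha) ((le_sup_right : H ≤ A ⊔ H) hh)

theorem card_sup_of_normalizes (A H : Subgroup G) (hn : ∀ h ∈ H, ∀ a ∈ A, h * a * h⁻¹ ∈ A)
    (hd : Disjoint A H) : Nat.card ↥(A ⊔ H) = Nat.card A * Nat.card H := by
  rw [sup_eq_prodSub A H hn, ← Nat.card_prod]
  symm
  apply Nat.card_congr
  refine Equiv.ofBijective
    (fun x : A × H => (⟨x.1.1 * x.2.1, ⟨x.1.1, x.1.2, x.2.1, x.2.2, rfl⟩⟩ : prodSub A H hn))
    ⟨?_, ?_⟩
  · intro x y hxy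
    apply Subgroup.mul_injective_of_disjoint hd
    exact congrArg Subtype.val hxy
  · rintro ⟨_, a, ha, h, hh, rfl⟩
    exact ⟨(⟨a, ha⟩, ⟨h, hh⟩), rfl⟩

end Abstract

variable {F : Type*} [Field F] {κ : Type} [Fintype κ] [DecidableEq κ]

/-- the properties of the generating sets -/
def Good {ι : Type} [Fintype ι] [DecidableEq ι] {Q : QuadraticForm F (ι → F)}
    (S : Set ↥(Cfsg.isometryGroup F ⇑Q)) : Prop :=
  ∀ s ∈ S, s * s = 1 ∧ dfun s = 0

/-- **the step** -/
theorem step [Fintype F] (h2 : (2 : F) = 0) (Q' : QuadraticForm F (κ → F))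
    (hQ' : (QuadraticMap.polarBilin Q').Nondegenerate)
    (S' : Set ↥(Cfsg.isometryGroup F ⇑Q')) (hS' : Good S') :
    ∃ S : Set ↥(Cfsg.isometryGroup F ⇑(HQ Q')), Good S ∧
      Nat.card ↥(Subgroup.closure S) =
        Fintype.card F ^ Fintype.card κ * Nat.card ↥(Subgroup.closure S') := by
  classical
  refine ⟨Set.range (eich Q' hQ') ∪ (embHom Q' hQ') '' S', ?_, ?_⟩
  · rintro s (⟨z, rfl⟩ | ⟨s', hs', rfl⟩)
    · exact ⟨eich_mul_self Q' hQ' h2 z, dfun_eich Q' hQ' z⟩
    · obtain ⟨h1, h3⟩ := hS' s' hs'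
      refine ⟨?_, ?_⟩
      · rw [← map_mul, h1, map_one]
      · rw [dfun_embHom, h3]
  · have hA : Subgroup.closure (Set.range (eich Q' hQ')) = (eichHom Q' hQ').range := by
      have : Set.range (eich Q' hQ') = ((eichHom Q' hQ').range : Set _) := by
        ext g
        constructor
        · rintro ⟨z, rfl⟩
          exact ⟨Multiplicative.ofAdd z, rfl⟩
        · rintro ⟨z, rfl⟩
          exact ⟨Multiplicative.toAdd z, rfl⟩
      rw [this, Subgroup.closure_eq]
    have hH : Subgroup.closure ((embHom Q' hQ') '' S') =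
        (Subgroup.closure S').map (embHom Q' hQ') := by
      rw [MonoidHom.map_closure]
    rw [Subgroup.closure_union, hA, hH]
    have hn : ∀ h ∈ (Subgroup.closure S').map (embHom Q' hQ'), ∀ a ∈ (eichHom Q' hQ').range,
        h * a * h⁻¹ ∈ (eichHom Q' hQ').range := by
      rintro _ ⟨A, -, rfl⟩ _ ⟨z, rfl⟩
      refine ⟨Multiplicative.ofAdd
        (((A : Matrix.GeneralLinearGroup κ F) : Matrix κ κ F) *ᵥ Multiplicative.toAdd z), ?_⟩
      rw [eichHom_apply, eichHom_apply, toAdd_ofAdd, embHom_conj_eich, mul_assoc,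
        mul_inv_cancel, mul_one]
    have hd : Disjoint (eichHom Q' hQ').range ((Subgroup.closure S').map (embHom Q' hQ')) := by
      rw [Subgroup.disjoint_def]
      rintro x ⟨z, rfl⟩ ⟨A, -, hA'⟩
      rw [eichHom_apply] at hA' ⊢
      have := eich_eq_embHom Q' hQ' A _ hA'.symm
      rw [this, eich_zero]
    rw [card_sup_of_normalizes _ _ hn hd]
    congr 1
    · rw [Nat.card_congr (MonoidHom.ofInjective (eichHom_injective Q' hQ')).symm.toEquiv,
        Nat.card_congr (Multiplicative.toAdd : Multiplicative (κ → F) ≃ (κ → F)),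
        Nat.card_eq_fintype_card, Fintype.card_fun]
    · exact Nat.card_congr
        ((Subgroup.closure S').equivMapOfInjective _ (embHom_injective Q' hQ')).symm.toEquiv

end SqHQ

end Cfsg.Agent.Lib.Helper2
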