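import Mathlib
import Cfsg.Agent.Lib.Helper2.SqHQ3
import Cfsg.Agent.Lib.Helper2.OrthCard1

/-!
# S4625 (PK-OM / PK-OP): reindexing and the induction

`O(quadFormMinus k)` contains a subgroup of order `q ^ (k (k + 1))` generated by involutions of
Dickson invariant `0`; `O(quadFormPlus k)` contains one of order `q ^ (k (k - 1))`
(characteristic `2`).
-/

set_option autoImplicit false
set_option linter.unusedSectionVars false

namespace Cfsg.Agent.Lib.Helper2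

namespace SqHQ

open Matrix HypExt Dickson OrthCard Cfsg.Agent.Lib.Helper2.ReflGen Cfsg.Agent.Lib.Helper2.CDG
  Cfsg.Agent.Lib.Helper5.QuadGlue

variable {F : Type*} [Field F]

section Reindex

variable {ι ι' : Type} [Fintype ι] [DecidableEq ι] [Fintype ι'] [DecidableEq ι']

/-- the isomorphism of isometry groups given by a reindexing -/
noncomputable def isoEquiv (σ : ι ≃ ι') (Q : QuadraticForm F (ι → F))
    (Q₂ : QuadraticForm F (ι' → F)) (hQ : ∀ v : ι' → F, Q₂ v = Q (v ∘ σ)) :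
    ↥(Cfsg.isometryGroup F ⇑Q) ≃* ↥(Cfsg.isometryGroup F ⇑Q₂) where
  toFun g := ⟨IsoReindex.glReindex F σ g.1, (IsoReindex.mem_iff σ (⇑Q) (⇑Q₂) hQ g.1).1 g.2⟩
  invFun g := ⟨(IsoReindex.glReindex F σ).symm g.1, by
    rw [IsoReindex.mem_iff σ (⇑Q) (⇑Q₂) hQ, MulEquiv.apply_symm_apply]
    exact g.2⟩
  left_inv g := by
    apply Subtype.ext
    exact (IsoReindex.glReindex F σ).symm_apply_apply g.1
  right_inv g := by
    apply Subtype.ext
    exact (IsoReindex.glReindex F σ).apply_symm_apply g.1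
  map_mul' g h := by
    apply Subtype.ext
    exact map_mul (IsoReindex.glReindex F σ) g.1 h.1

theorem isoEquiv_mulVec (σ : ι ≃ ι') (Q : QuadraticForm F (ι → F))
    (Q₂ : QuadraticForm F (ι' → F)) (hQ : ∀ v : ι' → F, Q₂ v = Q (v ∘ σ))
    (g : ↥(Cfsg.isometryGroup F ⇑Q)) (v : ι' → F) :
    ((isoEquiv σ Q Q₂ hQ g : Matrix.GeneralLinearGroup ι' F) : Matrix ι' ι' F) *ᵥ v =
      (((g : Matrix.GeneralLinearGroup ι F) : Matrix ι ι F) *ᵥ (v ∘ σ)) ∘ σ.symm :=
  IsoReindex.glReindex_mulVec σ g.1 v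

/-- the fixed spaces correspond -/
noncomputable def fixReindexEquiv (σ : ι ≃ ι') (Q : QuadraticForm F (ι → F))
    (Q₂ : QuadraticForm F (ι' → F)) (hQ : ∀ v : ι' → F, Q₂ v = Q (v ∘ σ))
    (g : ↥(Cfsg.isometryGroup F ⇑Q)) :
    ↥(Fix (isoEquiv σ Q Q₂ hQ g)) ≃ₗ[F] ↥(Fix g) where
  toFun v := ⟨v.1 ∘ σ, by
    have hv := v.2
    rw [mem_Fix, isoEquiv_mulVec] at hv
    rw [mem_Fix]
    have h1 : ((((g : Matrix.GeneralLinearGroup ι F) : Matrix ι ι F) *ᵥ (v.1 ∘ σ)) ∘ σ.symm) ∘ σ =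
        v.1 ∘ σ := by rw [hv]
    have h2 : ((((g : Matrix.GeneralLinearGroup ι F) : Matrix ι ι F) *ᵥ (v.1 ∘ σ)) ∘ σ.symm) ∘ σ =
        ((g : Matrix.GeneralLinearGroup ι F) : Matrix ι ι F) *ᵥ (v.1 ∘ σ) := by
      funext i
      simp
    rw [h2] at h1
    exact h1⟩
  map_add' v w := rfl
  map_smul' c v := rfl
  invFun v := ⟨v.1 ∘ σ.symm, by
    have hv := v.2
    rw [mem_Fix] at hv
    rw [mem_Fix, isoEquiv_mulVec]
    have h1 : (v.1 ∘ σ.symm) ∘ σ = v.1 := by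
      funext i
      simp
    rw [h1, hv]⟩
  left_inv v := by
    apply Subtype.ext
    funext i
    simp
  right_inv v := by
    apply Subtype.ext
    funext i
    simp

theorem dfun_isoEquiv (σ : ι ≃ ι') (Q : QuadraticForm F (ι → F))
    (Q₂ : QuadraticForm F (ι' → F)) (hQ : ∀ v : ι' → F, Q₂ v = Q (v ∘ σ))
    (g : ↥(Cfsg.isometryGroup F ⇑Q)) : dfun (isoEquiv σ Q Q₂ hQ g) = dfun g := by
  unfold dfun
  rw [LinearEquiv.finrank_eq (fixReindexEquiv σ Q Q₂ hQ g), Fintype.card_congr σ]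

/-- transport of a good generating set -/
theorem good_reindex (σ : ι ≃ ι') (Q : QuadraticForm F (ι → F))
    (Q₂ : QuadraticForm F (ι' → F)) (hQ : ∀ v : ι' → F, Q₂ v = Q (v ∘ σ))
    (S : Set ↥(Cfsg.isometryGroup F ⇑Q)) (hS : Good S) :
    ∃ S₂ : Set ↥(Cfsg.isometryGroup F ⇑Q₂), Good S₂ ∧
      Nat.card ↥(Subgroup.closure S₂) = Nat.card ↥(Subgroup.closure S) := by
  refine ⟨(isoEquiv σ Q Q₂ hQ) '' S, ?_, ?_⟩
  · rintro _ ⟨s, hs, rfl⟩
    obtain ⟨h1, h3⟩ := hS s hs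
    refine ⟨?_, ?_⟩
    · rw [← map_mul, h1, map_one]
    · rw [dfun_isoEquiv, h3]
  · have h : Subgroup.closure ((isoEquiv σ Q Q₂ hQ) '' S) =
        (Subgroup.closure S).map (isoEquiv σ Q Q₂ hQ).toMonoidHom := by
      rw [MonoidHom.map_closure]
      rfl
    rw [h]
    exact (Nat.card_congr ((Subgroup.closure S).equivMapOfInjective _
      (isoEquiv σ Q Q₂ hQ).injective).toEquiv).symm

end Reindex

variable [Fintype F]

/-- minus type -/
theorem exists_good_minus (h2 : (2 : F) = 0) (a b : F)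
    (hab : ∀ z₁ z₂ : F, z₁ ^ 2 + a * z₁ * z₂ + b * z₂ ^ 2 = 0 → z₁ = 0 ∧ z₂ = 0) (k : ℕ) :
    ∃ S : Set ↥(Cfsg.isometryGroup F ⇑(QMn k a b)), Good S ∧
      Nat.card ↥(Subgroup.closure S) = Fintype.card F ^ (k * (k + 1)) := by
  induction k with
  | zero =>
    refine ⟨∅, ?_, ?_⟩
    · intro s hs
      exact absurd hs (Set.notMem_empty s)
    · rw [Subgroup.closure_empty, Subgroup.card_bot]
      simp
  | succ k ih =>
    obtain ⟨S, hS, hcard⟩ := ih
    obtain ⟨S₁, hS₁, hcard₁⟩ := step h2 (QMn k a b) (QMn_nondeg k a b hab) S hS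
    have hQ : ∀ v : (Fin (k + 1) ⊕ Fin (k + 1)) ⊕ Fin 2 → F,
        QMn (k + 1) a b v = HQ (QMn k a b) (v ∘ sigmaMinus k) := by
      intro v
      rw [← minus_reindex k a b v, ← QMn_coe]
    obtain ⟨S₂, hS₂, hcard₂⟩ := good_reindex (sigmaMinus k) (HQ (QMn k a b)) (QMn (k + 1) a b)
      hQ S₁ hS₁
    refine ⟨S₂, hS₂, ?_⟩
    rw [hcard₂, hcard₁, hcard, ← pow_add]
    congr 1
    rw [Fintype.card_sum, Fintype.card_sum, Fintype.card_fin, Fintype.card_fin]
    ring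

/-- plus type -/
theorem exists_good_plus (h2 : (2 : F) = 0) (k : ℕ) :
    ∃ S : Set ↥(Cfsg.isometryGroup F ⇑(QP k F)), Good S ∧
      Nat.card ↥(Subgroup.closure S) * Fintype.card F ^ k = Fintype.card F ^ (k * k) := by
  induction k with
  | zero =>
    refine ⟨∅, ?_, ?_⟩
    · intro s hs
      exact absurd hs (Set.notMem_empty s)
    · rw [Subgroup.closure_empty, Subgroup.card_bot]
      simp
  | succ k ih =>
    obtain ⟨S, hS, hcard⟩ := ih
    obtain ⟨S₁, hS₁, hcard₁⟩ := step h2 (QP k F) (QuadStd.QP_nondeg k) S hS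
    have hQ : ∀ v : Fin (k + 1) ⊕ Fin (k + 1) → F,
        QP (k + 1) F v = HQ (QP k F) (v ∘ sigmaPlus k) := by
      intro v
      rw [← plus_reindex k v, ← QuadStd.QP_coe]
    obtain ⟨S₂, hS₂, hcard₂⟩ := good_reindex (sigmaPlus k) (HQ (QP k F))
      (QP (k + 1) F) hQ S₁ hS₁
    refine ⟨S₂, hS₂, ?_⟩
    rw [hcard₂, hcard₁, Fintype.card_sum, Fintype.card_fin]
    calc Fintype.card F ^ (k + k) * Nat.card ↥(Subgroup.closure S) * Fintype.card F ^ (k + 1)
        = Fintype.card F ^ (k + k) * Fintype.card F * (Nat.card ↥(Subgroup.closure S) *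
            Fintype.card F ^ k) := by ring
      _ = Fintype.card F ^ ((k + 1) * (k + 1)) := by
          rw [hcard]
          ring

end SqHQ

end Cfsg.Agent.Lib.Helper2
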