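import Mathlib
import Cfsg.Agent.Lib.Helper2.SqHQ4
import Cfsg.Agent.Lib.Helper2.Dickson4
import Cfsg.Agent.Lib.Helper3.SylAbGen

/-!
# S4625 (PK-OM / PK-OP): the top level

In characteristic `2` the commutator subgroup `Ω` of `O(Q)` is the kernel of the Dickson invariant;
a subgroup generated by involutions of Dickson invariant `0` of the right order gives `SqComm Ω`.
-/

set_option autoImplicit false
set_option linter.unusedSectionVars false

namespace Cfsg.Agent.Lib.Helper2

namespace SqHQ

open Matrix Dickson Cfsg.Agent.Lib.Helper2.ReflGen Cfsg.Agent.Lib.Helper2.CDG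
  Cfsg.Agent.Lib.Helper3.SylAb

variable {F : Type*} [Field F] [Fintype F] {ι : Type} [Fintype ι] [DecidableEq ι]
variable {Q : QuadraticForm F (ι → F)}

/-- an isometry of Dickson invariant `0` lies in the commutator subgroup -/
theorem mem_commutator_of_dfun (h2 : (2 : F) = 0)
    (hQ : (QuadraticMap.polarBilin Q).Nondegenerate)
    (hex : Fintype.card F ≠ 2 ∨ Fintype.card ι ≠ 4) (hn : 2 ≤ Fintype.card ι)
    (g : ↥(Cfsg.isometryGroup F ⇑Q)) (hg : dfun g = 0) :
    g ∈ commutator ↥(Cfsg.isometryGroup F ⇑Q) := by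
  classical
  have hgen := OrthTwo.closure_R_eq_top₂ h2 hQ hex hn
  have hcard := card_abelianization₂ h2 hQ hex hn
  have hfr : 2 ≤ Module.finrank F (ι → F) := by rw [Module.finrank_fintype_fun_eq_card]; exact hn
  obtain ⟨u, hu1⟩ := Cfsg.Agent.Lib.Helper5.exists_represents_one Q hQ hfr
  have hu : Q u ≠ 0 := by rw [hu1]; exact one_ne_zero
  set L := Abelianization.lift (dickson hQ hgen) with hL
  -- `L` is surjective, hence injective
  have hsurj : Function.Surjective L := by
    intro y
    have hy : ∀ a : ZMod 2, a = 0 ∨ a = 1 := by decide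
    rcases hy (Multiplicative.toAdd y) with h0 | h1
    · refine ⟨1, ?_⟩
      rw [map_one]
      exact (Multiplicative.toAdd.injective (by rw [h0]; rfl)).symm
    · refine ⟨Abelianization.of (refl Q u hu), ?_⟩
      rw [hL, Abelianization.lift_apply_of, dickson_refl]
      exact (Multiplicative.toAdd.injective (by rw [h1]; rfl)).symm
  have : Finite (Abelianization ↥(Cfsg.isometryGroup F ⇑Q)) :=
    Nat.finite_of_card_ne_zero (by rw [hcard]; norm_num)
  have hinj : Function.Injective L := by
    have hc : Nat.card (Abelianization ↥(Cfsg.isometryGroup F ⇑Q)) =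
        Nat.card (Multiplicative (ZMod 2)) := by
      rw [hcard, Nat.card_eq_fintype_card]
      rfl
    exact (Function.Surjective.bijective_of_nat_card_le hsurj (le_of_eq hc)).1
  have h1 : L (Abelianization.of g) = 1 := by
    rw [hL, Abelianization.lift_apply_of]
    show Multiplicative.ofAdd (dfun g) = 1
    rw [hg]
    rfl
  have h3 : Abelianization.of g = 1 := hinj (by rw [h1, map_one])
  exact (QuotientGroup.eq_one_iff g).1 h3

/-- the order of the commutator subgroup -/
theorem card_commutator_mul_two (h2 : (2 : F) = 0)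
    (hQ : (QuadraticMap.polarBilin Q).Nondegenerate)
    (hex : Fintype.card F ≠ 2 ∨ Fintype.card ι ≠ 4) (hn : 2 ≤ Fintype.card ι) :
    Nat.card ↥(commutator ↥(Cfsg.isometryGroup F ⇑Q)) * 2 =
      Nat.card ↥(Cfsg.isometryGroup F ⇑Q) := by
  have hcard := card_abelianization₂ h2 hQ hex hn
  have h := Subgroup.card_mul_index (commutator ↥(Cfsg.isometryGroup F ⇑Q))
  rw [← h]
  congr 1
  rw [← hcard]
  rfl

/-- **top level**: a good generating set of the right order gives `SqComm Ω` -/
theorem sqComm_commutator_of_good (h2 : (2 : F) = 0)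
    (hQ : (QuadraticMap.polarBilin Q).Nondegenerate)
    (hex : Fintype.card F ≠ 2 ∨ Fintype.card ι ≠ 4) (hn : 2 ≤ Fintype.card ι)
    (S : Set ↥(Cfsg.isometryGroup F ⇑Q)) (hS : Good S) (k m : ℕ)
    (hk : Nat.card ↥(Subgroup.closure S) = 2 ^ k)
    (hO : Nat.card ↥(Cfsg.isometryGroup F ⇑Q) = 2 * (2 ^ k * m)) (hm : Odd m) :
    SqComm ↥(commutator ↥(Cfsg.isometryGroup F ⇑Q)) := by
  have : Finite ↥(Cfsg.isometryGroup F ⇑Q) := by
    apply Nat.finite_of_card_ne_zero
    rw [hO]
    have : m ≠ 0 := by
      rintro rfl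
      exact absurd hm (by decide)
    positivity
  set Ω := commutator ↥(Cfsg.isometryGroup F ⇑Q) with hΩ
  set P₀ := Subgroup.closure S with hP₀
  have hle : P₀ ≤ Ω := by
    rw [hP₀, Subgroup.closure_le]
    intro s hs
    exact mem_commutator_of_dfun h2 hQ hex hn s (hS s hs).2
  have hgs : GenSq P₀ := by
    apply genSq_of_involutions P₀ S rfl
    intro s hs
    rw [pow_two]
    exact (hS s hs).1
  have hgs' : GenSq (P₀.subgroupOf Ω) := by
    apply GenSq.of_map Ω.subtype Ω.subtype_injective
    rw [Subgroup.subgroupOf_map_subtype, inf_eq_left.2 hle]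
    exact hgs
  have hc : Nat.card ↥(P₀.subgroupOf Ω) = 2 ^ k := by
    rw [← hk]
    exact Nat.card_congr (Subgroup.subgroupOfEquivOfLe hle).toEquiv
  have hΩc : 1 * Nat.card ↥Ω = 2 ^ k * m := by
    have h := card_commutator_mul_two h2 hQ hex hn
    rw [hO] at h
    rw [one_mul]
    have : Nat.card ↥Ω * 2 = (2 ^ k * m) * 2 := by rw [h]; ring
    exact Nat.eq_of_mul_eq_mul_right (by norm_num) this
  exact sqComm_of_card (P₀.subgroupOf Ω) k 1 m hc hΩc hm hgs'

end SqHQ

end Cfsg.Agent.Lib.Helper2
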