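import Mathlib
import Cfsg.Prelude.Def_LieTypeChar
import Cfsg.Agent.Lib.Helper3.SylAbGen
import Cfsg.Agent.Lib.Helper2.SqHQ5
import Cfsg.Agent.Lib.Helper2.OrthCard3

/-!
# S4625: `SqComm (PΩ^±_{2m}(q))`, `q` even (alternative route; the swarm uses Lib/Lead/SylAb_OP, SylAb_OM)

A Sylow `2`-subgroup of `Ω^±_{2m}(q)`, `q` even, is generated by involutions (Eichler
transformations), constructed by induction on the Witt index (`SqHQ1`–`SqHQ4`); membership in
`Ω` and the index come from the Dickson invariant (`SqHQ5`, `Dickson4`) and the order formulas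
(`OrthCard3`).
-/

set_option autoImplicit false
set_option linter.unusedSectionVars false
open Cfsg Cfsg.Agent.Lib.Helper3.SylAb

namespace Cfsg.Agent.Lib.Helper2

namespace SqHQ

open OrthCard Cfsg.Agent.Lib.Helper5.QuadGlue

/-- a product of odd numbers is odd -/
theorem odd_prod_of_odd {α : Type*} (s : Finset α) (f : α → ℕ) (h : ∀ i ∈ s, Odd (f i)) :
    Odd (∏ i ∈ s, f i) := by
  classical
  induction s using Finset.induction_on with
  | empty => simp
  | insert a s ha ih =>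
    rw [Finset.prod_insert ha]
    exact (h a (Finset.mem_insert_self a s)).mul
      (ih (fun i hi => h i (Finset.mem_insert_of_mem hi)))

theorem odd_pow_sub_one {q j : ℕ} (hq : Even q) (hq0 : 0 < q) (hj : 0 < j) : Odd (q ^ j - 1) := by
  have h1 : Even (q ^ j) := (Nat.even_pow.2 ⟨hq, hj.ne'⟩)
  have h2 : 1 ≤ q ^ j := Nat.one_le_pow _ _ hq0
  exact Nat.Even.sub_odd h2 h1 odd_one

theorem odd_pow_add_one {q j : ℕ} (hq : Even q) (hj : 0 < j) : Odd (q ^ j + 1) :=
  (Nat.even_pow.2 ⟨hq, hj.ne'⟩).add_one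

variable {F : Type*} [Field F] [Fintype F] [CharP F 2]

theorem two_eq_zero' : (2 : F) = 0 := CharTwo.two_eq_zero

/-- `SqComm` for `Ω⁻`, in the model `QMn k a b` -/
theorem sqComm_commutator_minus (k : ℕ) (hk : 2 ≤ k) (a b : F)
    (hab : ∀ z₁ z₂ : F, z₁ ^ 2 + a * z₁ * z₂ + b * z₂ ^ 2 = 0 → z₁ = 0 ∧ z₂ = 0) :
    SqComm ↥(commutator ↥(Cfsg.isometryGroup F ⇑(QMn k a b))) := by
  have h2 : (2 : F) = 0 := two_eq_zero'
  obtain ⟨f, -, hf⟩ := FiniteField.card F 2
  have hq0 : 0 < Fintype.card F := Fintype.card_pos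
  have hqe : Even (Fintype.card F) := by
    rw [hf]
    exact Nat.even_pow.2 ⟨even_two, f.pos.ne'⟩
  obtain ⟨S, hS, hcard⟩ := exists_good_minus h2 a b hab k
  have hcι : Fintype.card ((Fin k ⊕ Fin k) ⊕ Fin 2) = 2 * k + 2 := by
    rw [Fintype.card_sum, Fintype.card_sum, Fintype.card_fin, Fintype.card_fin]
    ring
  have hO := card_minus a b hab k
  rw [← QMn_coe] at hO
  refine sqComm_commutator_of_good h2 (QMn_nondeg k a b hab) (Or.inr (by rw [hcι]; omega))
    (by rw [hcι]; omega) S hS ((f : ℕ) * (k * (k + 1)))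
    ((Fintype.card F ^ (k + 1) + 1) *
      ∏ i ∈ Finset.range k, (Fintype.card F ^ (2 * (i + 1)) - 1)) ?_ ?_ ?_
  · rw [hcard, hf, ← pow_mul]
  · have e : 2 ^ ((f : ℕ) * (k * (k + 1))) = Fintype.card F ^ ((k + 1) * k) := by
      rw [hf, ← pow_mul, mul_comm (k + 1) k]
    rw [hO, e]
    ring
  · exact (odd_pow_add_one hqe (Nat.succ_pos k)).mul
      (odd_prod_of_odd _ _ (fun i _ => odd_pow_sub_one hqe hq0 (by omega)))

/-- `SqComm` for `Ω⁺`, in the model `QP (k + 1)` -/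
theorem sqComm_commutator_plus (k : ℕ) (hk : 2 ≤ k) :
    SqComm ↥(commutator ↥(Cfsg.isometryGroup F ⇑(QP (k + 1) F))) := by
  have h2 : (2 : F) = 0 := two_eq_zero'
  obtain ⟨f, -, hf⟩ := FiniteField.card F 2
  have hq0 : 0 < Fintype.card F := Fintype.card_pos
  have hqe : Even (Fintype.card F) := by
    rw [hf]
    exact Nat.even_pow.2 ⟨even_two, f.pos.ne'⟩
  obtain ⟨S, hS, hcard⟩ := exists_good_plus h2 (k + 1)
  have hcard' : Nat.card ↥(Subgroup.closure S) = Fintype.card F ^ ((k + 1) * k) := by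
    have h1 : Fintype.card F ^ ((k + 1) * (k + 1)) =
        Fintype.card F ^ ((k + 1) * k) * Fintype.card F ^ (k + 1) := by
      rw [← pow_add]
      congr 1
    rw [h1] at hcard
    exact Nat.eq_of_mul_eq_mul_right (pow_pos hq0 _) hcard
  have hcι : Fintype.card (Fin (k + 1) ⊕ Fin (k + 1)) = 2 * k + 2 := by
    rw [Fintype.card_sum, Fintype.card_fin]
    ring
  have hO := card_plus (F := F) k
  rw [← QuadStd.QP_coe] at hO
  refine sqComm_commutator_of_good h2 (QuadStd.QP_nondeg (k + 1)) (Or.inr (by rw [hcι]; omega))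
    (by rw [hcι]; omega) S hS ((f : ℕ) * ((k + 1) * k))
    ((Fintype.card F ^ (k + 1) - 1) *
      ∏ i ∈ Finset.range k, (Fintype.card F ^ (2 * (i + 1)) - 1)) ?_ ?_ ?_
  · rw [hcard', hf, ← pow_mul]
  · have e : 2 ^ ((f : ℕ) * ((k + 1) * k)) = Fintype.card F ^ ((k + 1) * k) := by
      rw [hf, ← pow_mul]
    rw [hO, e]
    ring
  · exact (odd_pow_sub_one hqe hq0 (Nat.succ_pos k)).mul
      (odd_prod_of_odd _ _ (fun i _ => odd_pow_sub_one hqe hq0 (by omega)))

/-- PK-OP, helper2's route (backup for `sqComm_POmegaPlus`) -/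
theorem sqComm_POmegaPlus_h2 (m : ℕ) (hm : 4 ≤ m) :
    SqComm (Cfsg.POmega F (Cfsg.quadFormPlus m F)) := by
  obtain ⟨k, hk, rfl⟩ : ∃ k, 2 ≤ k ∧ m = k + 1 := ⟨m - 1, by omega, by omega⟩
  rw [← QuadStd.QP_coe]
  exact (sqComm_commutator_plus k hk).quotient _

/-- PK-OM, helper2's route (alternative proof of `sqComm_POmegaMinus`) -/
theorem sqComm_POmegaMinus_h2 (m : ℕ) (hm : 4 ≤ m) (a b : F)
    (hab : ∀ z₁ z₂ : F, z₁ ^ 2 + a * z₁ * z₂ + b * z₂ ^ 2 = 0 → z₁ = 0 ∧ z₂ = 0) :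
    SqComm (Cfsg.POmega F (Cfsg.quadFormMinus (m - 1) F a b)) := by
  rw [← QMn_coe]
  exact (sqComm_commutator_minus (m - 1) (by omega) a b hab).quotient _

end SqHQ

end Cfsg.Agent.Lib.Helper2
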