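import Cfsg.Agent.Lib.Helper6.Mult.PM1
import Cfsg.Agent.Lib.Helper6.Spor.SuzOrd

set_option autoImplicit false
set_option maxRecDepth 100000

/-! # The presented group `Suz` acting on 1782 points, as a model -/

namespace Cfsg.Agent.Lib.Helper2.SuzM

open Cfsg.Spor Cfsg.Agent.Lib.Helper6 Cfsg.Agent.Lib.Helper6.TC Cfsg.Agent.Lib.Helper6.TCD
open Cfsg.Agent.Lib.Helper6.PM Cfsg.Agent.Lib.Helper6.TCP.Suz

/-- the faithful permutation representation on 1782 points -/
noncomputable def phi : Suz →* Equiv.Perm (Fin 1782) := Classical.choose SuzOrd.suz_rep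

theorem phi_spec : (∀ w, (∀ c ∈ w, c < 7) → ∀ p : Fin 1782,
      ((phi (PresentedGroup.mk Rels (wordElt gc w)))⁻¹ p).val = wapp Suza.px w p.val) ∧
    Function.Injective phi ∧ Nat.card Suz = 448345497600 ∧ Finite Suz := by
  have h := Classical.choose_spec SuzOrd.suz_rep
  exact ⟨h.1, h.2.2.1, h.2.2.2.1, h.2.2.2.2⟩

instance finite_Suz : Finite Suz := phi_spec.2.2.2

theorem card_Suz : Nat.card Suz = 448345497600 := phi_spec.2.2.1

/-- the element of the group given by a word of columns -/
noncomputable def elt (w : List ℕ) : Suz := PresentedGroup.mk Rels (wordElt gc w)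

theorem closure_letters : Subgroup.closure {g : Suz | ∃ c < 7, g = elt [c]} = ⊤ := by
  rw [eq_top_iff, ← PresentedGroup.closure_range_of]
  apply Subgroup.closure_mono
  rintro _ ⟨i, rfl⟩
  refine ⟨col i, col_lt i, ?_⟩
  unfold elt
  rw [wordElt_cons, wordElt_nil, mul_one, ceOf_gc]
  congr 2
  cases i <;> rfl

/-- the model of the group -/
noncomputable def suzModel : PModel where
  G := Suz
  n := 1782
  nl := 7
  px := Suza.px
  elt := elt
  phi := phi
  elt_nil := by
    unfold elt
    rw [wordElt_nil, map_one]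
  elt_append := fun u v => by
    unfold elt
    rw [wordElt_append, map_mul]
  px_lt := fun c hc q hq => Cfsg.Agent.S1680.hP.hlt c hc q hq
  phi_inv_val := phi_spec.1
  phi_injective := phi_spec.2.1
  closure_letters := closure_letters

end Cfsg.Agent.Lib.Helper2.SuzM
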