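import Cfsg.Agent.Lib.Helper2.SuzOut1
import Cfsg.Agent.Lib.Helper2.RigidOut4

set_option autoImplicit false
set_option maxRecDepth 100000

/-! # The presented group `Suz`: the normalizer of a Sylow 13-subgroup -/

namespace Cfsg.Agent.Lib.Helper2.SuzOut

open Cfsg.Agent.Lib.Helper6 Cfsg.Agent.Lib.Helper6.TC Cfsg.Agent.Lib.Helper6.TCD
open Cfsg.Agent.Lib.Helper6.PM Cfsg.Agent.Lib.Helper2.PMS Cfsg.Agent.Lib.Helper2.PMC
open Cfsg.Agent.Lib.Helper2.SuzOutD Cfsg.Agent.Lib.Helper2.RigidOut

/-- the element of order 13 -/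
noncomputable def gp : M.G := M.elt wp
/-- the element of order 6 -/
noncomputable def gh : M.G := M.elt wh
/-- the third generator -/
noncomputable def gv : M.G := M.elt wv

theorem lt_wp : ∀ c ∈ wp, c < M.nl := by decide
theorem lt_wh : ∀ c ∈ wh, c < M.nl := by decide
theorem lt_wv : ∀ c ∈ wv, c < M.nl := by decide

theorem gp_pow (k : ℕ) : gp ^ k = M.elt (rep k wp) := (elt_rep M k wp).symm
theorem gh_pow (k : ℕ) : gh ^ k = M.elt (rep k wh) := (elt_rep M k wh).symm

theorem gp_inv : gp⁻¹ = M.elt (invw id wp) := (elt_invw M id invMap wp lt_wp).symm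
theorem gh_inv : gh⁻¹ = M.elt (invw id wh) := (elt_invw M id invMap wh lt_wh).symm
theorem gv_inv : gv⁻¹ = M.elt (invw id wv) := (elt_invw M id invMap wv lt_wv).symm

theorem chk_pq : chkBaseL M lvA (rep 13 wp) [] = true := by decide +kernel
theorem chk_p1 : chkNeAt M wp [] 1 = true := by decide +kernel

theorem gp_ne : gp ≠ 1 := by
  have := elt_ne_of_chkNeAt (M := M) _ _ _ chk_p1
  rwa [M.elt_nil] at this

theorem orderOf_gp : orderOf gp = 13 := by
  have : Fact (Nat.Prime 13) := ⟨by norm_num⟩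
  apply orderOf_eq_prime
  · rw [gp_pow, ← M.elt_nil]
    exact factsA.elt_eq_of_chk _ _ chk_pq
  · exact gp_ne

theorem chk_he : chkBaseL M lvA (rep 6 wh) [] = true := by decide +kernel
theorem chk_h_3 : chkNeAt M (rep 3 wh) [] 1 = true := by decide +kernel
theorem chk_h_2 : chkNeAt M (rep 2 wh) [] 1 = true := by decide +kernel

theorem gh_pow_e : gh ^ 6 = 1 := by
  rw [gh_pow, ← M.elt_nil]
  exact factsA.elt_eq_of_chk _ _ chk_he

theorem orderOf_gh : orderOf gh = 6 := by
  apply orderOf_eq_of_pow_and_pow_div_prime (by norm_num) gh_pow_e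
  intro f hf hfe
  have hle : f ≤ 6 := Nat.le_of_dvd (by norm_num) hfe
  have h2 : 2 ≤ f := hf.two_le
  interval_cases f
  · show gh ^ 3 ≠ 1
    intro hc
    rw [gh_pow] at hc
    have := elt_ne_of_chkNeAt (M := M) _ _ _ chk_h_3
    rw [M.elt_nil] at this
    exact this hc
  · show gh ^ 2 ≠ 1
    intro hc
    rw [gh_pow] at hc
    have := elt_ne_of_chkNeAt (M := M) _ _ _ chk_h_2
    rw [M.elt_nil] at this
    exact this hc
  · exact absurd hfe (by norm_num)
  · exact absurd hfe (by norm_num)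
  · exact absurd hf (by norm_num)

theorem chk_ph : chkBaseL M lvA (invw id wh ++ wp ++ wh) (rep 4 wp) = true := by decide +kernel

theorem rel_ph : gh⁻¹ * gp * gh = gp ^ 4 := by
  rw [gh_inv, gp_pow]
  unfold gp gh
  rw [← M.elt_append, ← M.elt_append]
  exact factsA.elt_eq_of_chk _ _ chk_ph

/-! ## The centralizer and the normalizer -/

theorem chk_srcA : chkSrc M wp [] lvA = true := by decide +kernel

theorem chk_certCp : chk M id wp wp certCp lvA (pendOf lvA) [] [] = true := by decide +kernel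

theorem leaves_certCp : leavesIn certCp ((List.range 13).map fun i => rep i wp) = true := by
  decide +kernel

theorem centralizer_gp (g : M.G) (hg : g⁻¹ * gp * g = gp) : ∃ i : ℕ, g = gp ^ i := by
  obtain ⟨z, hz, hgz⟩ := factsA.search id invMap wp wp (by decide) (by decide) chk_srcA certCp
    chk_certCp g hg
  have h1 := mem_of_leavesIn leaves_certCp z hz
  rw [List.mem_map] at h1
  obtain ⟨i, _, rfl⟩ := h1
  exact ⟨i, by rw [hgz, gp_pow]⟩

theorem chk_certT : chk M id wp (rep 2 wp) certT lvA (pendOf lvA) [] [] = true := by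
  decide +kernel

theorem leaves_certT : leaves certT = [] := by decide +kernel

theorem no_pow (g : M.G) : g⁻¹ * gp * g ≠ gp ^ 2 := by
  intro hg
  rw [gp_pow] at hg
  obtain ⟨z, hz, _⟩ := factsA.search id invMap wp (rep 2 wp) (by decide) (by decide) chk_srcA certT
    chk_certT g hg
  rw [leaves_certT] at hz
  exact absurd hz List.not_mem_nil

theorem hE : ∀ k < 13, 0 < k → ∃ j, ∃ ε ∈ [1, 2], 4 ^ j * k % 13 = ε % 13 := by
  have h : ∀ k < 13, 0 < k → ∃ j < 6, ∃ ε ∈ [1, 2], 4 ^ j * k % 13 = ε % 13 := by decide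
  intro k hk hk0
  obtain ⟨j, _, ε, hε, e⟩ := h k hk hk0
  exact ⟨j, ε, hε, e⟩

theorem normalizer_gp : ∀ n : M.G, (∃ k : ℕ, n⁻¹ * gp * n = gp ^ k) →
    ∃ i j : ℕ, n = gp ^ i * gh ^ j := by
  apply normalizer_of_transporters 13 4 [1, 2] gp gh (by norm_num) orderOf_gp rel_ph hE
    centralizer_gp
  intro ε hε hne g
  simp only [List.mem_cons, List.not_mem_nil, or_false] at hε
  rcases hε with rfl | rfl
  · exact absurd rfl hne
  · exact no_pow g

end Cfsg.Agent.Lib.Helper2.SuzOut
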