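import Cfsg.Agent.Lib.Helper2.SuzOut2

set_option autoImplicit false
set_option maxRecDepth 100000

/-! # The presented group `Suz`: the elements conjugating an element of order 6 to a power -/

namespace Cfsg.Agent.Lib.Helper2.SuzOut

open Cfsg.Agent.Lib.Helper6 Cfsg.Agent.Lib.Helper6.TC Cfsg.Agent.Lib.Helper6.TCD
open Cfsg.Agent.Lib.Helper6.PM Cfsg.Agent.Lib.Helper2.PMS Cfsg.Agent.Lib.Helper2.PMC
open Cfsg.Agent.Lib.Helper2.SuzOutD Cfsg.Agent.Lib.Helper2.RigidOut

theorem chk_vh : chkBaseL M lvA (invw id wv ++ wh ++ wv) (rep 5 wh) = true := by decide +kernel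

theorem rel_vh : gv⁻¹ * gh * gv = gh ^ 5 := by
  rw [gv_inv, gh_pow]
  unfold gv gh
  rw [← M.elt_append, ← M.elt_append]
  exact factsA.elt_eq_of_chk _ _ chk_vh

theorem chk_srcB : chkSrc M wh [] lvB = true := by decide +kernel

theorem chk_certH : chk M id wh (rep 5 wh) certH lvB (pendOf lvB) [] [] = true := by
  decide +kernel

theorem leaves_certH1 : leavesIn certH (tab1.map (·.1)) = true := by decide +kernel
theorem leaves_certH2 : leavesIn certH (tab2.map (·.1)) = true := by decide +kernel

/-- the elements conjugating the element of order 6 to the power -/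
theorem transporter_gh (c : M.G) (hc : c⁻¹ * gh * c = gh ^ 5) :
    ∃ z ∈ leaves certH, c = M.elt z := by
  rw [gh_pow] at hc
  exact factsB.search id invMap wh (rep 5 wh) (by decide) (by decide) chk_srcB certH chk_certH c hc

end Cfsg.Agent.Lib.Helper2.SuzOut
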