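import Cfsg.Agent.Lib.Helper2.SuzOut4

set_option autoImplicit false
set_option maxRecDepth 100000

/-! # The outer automorphism group of the presented group `Suz` has order two -/

namespace Cfsg.Agent.Lib.Helper2.SuzOut

open Cfsg.Agent.Lib.Helper6 Cfsg.Agent.Lib.Helper6.TC Cfsg.Agent.Lib.Helper6.TCD
open Cfsg.Agent.Lib.Helper6.PM Cfsg.Agent.Lib.Helper2.PMS Cfsg.Agent.Lib.Helper2.PMC
open Cfsg.Agent.Lib.Helper2.SuzOutD Cfsg.Agent.Lib.Helper2.RigidOut

/-- the three generators and the inverses of the first two -/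
def ws5 : List (List ℕ) := [wp, wh, wv, invw id wp, invw id wh]

/-- the three generators, the inverses of the first two, and some letters -/
def ws9 : List (List ℕ) := ws5 ++ [[0], [3], [5], [6]]

theorem chk_l0 : chkBaseL M lvA [0] (expand ws5 (Wl1.getD 0 [])) = true := by decide +kernel
theorem chk_l1 : chkBaseL M lvA [3] (expand ws5 (Wl1.getD 1 [])) = true := by decide +kernel
theorem chk_l2 : chkBaseL M lvA [5] (expand ws5 (Wl1.getD 2 [])) = true := by decide +kernel
theorem chk_l3 : chkBaseL M lvA [6] (expand ws5 (Wl1.getD 3 [])) = true := by decide +kernel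

theorem chk_gen : chkGenL M lvA ws9 Wl9 = true := by decide +kernel

theorem subH5_le : Cfsg.Agent.Lib.Helper6.PM.subH M ws5 ≤ Subgroup.closure ({gp, gh, gv} : Set M.G) := by
  unfold Cfsg.Agent.Lib.Helper6.PM.subH
  rw [Subgroup.closure_le]
  rintro g ⟨i, hi, rfl⟩
  have hi' : i < 5 := hi
  have hp : gp ∈ Subgroup.closure ({gp, gh, gv} : Set M.G) := Subgroup.subset_closure (by simp)
  have hh : gh ∈ Subgroup.closure ({gp, gh, gv} : Set M.G) := Subgroup.subset_closure (by simp)
  have hv : gv ∈ Subgroup.closure ({gp, gh, gv} : Set M.G) := Subgroup.subset_closure (by simp)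
  interval_cases i
  · exact hp
  · exact hh
  · exact hv
  · show M.elt (invw id wp) ∈ _
    rw [← gp_inv]
    exact Subgroup.inv_mem _ hp
  · show M.elt (invw id wh) ∈ _
    rw [← gh_inv]
    exact Subgroup.inv_mem _ hh

theorem closure_gens : Subgroup.closure ({gp, gh, gv} : Set M.G) = ⊤ := by
  have h3 := factsA.subH_eq_top ws9 Wl9 chk_gen
  have h5 := subH5_le
  rw [eq_top_iff, ← h3]
  unfold Cfsg.Agent.Lib.Helper6.PM.subH
  rw [Subgroup.closure_le]
  rintro g ⟨i, hi, rfl⟩
  have hi' : i < 9 := hi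
  have h6 : ∀ j < 5, M.elt (ws5.getD j []) ∈ Subgroup.closure ({gp, gh, gv} : Set M.G) := by
    intro j hj
    apply h5
    exact Subgroup.subset_closure ⟨j, hj, rfl⟩
  interval_cases i
  · exact h6 0 (by norm_num)
  · exact h6 1 (by norm_num)
  · exact h6 2 (by norm_num)
  · exact h6 3 (by norm_num)
  · exact h6 4 (by norm_num)
  · show M.elt [0] ∈ _
    rw [factsA.elt_eq_of_chk _ _ chk_l0]
    exact h5 (elt_expand_mem M ws5 _)
  · show M.elt [3] ∈ _
    rw [factsA.elt_eq_of_chk _ _ chk_l1]
    exact h5 (elt_expand_mem M ws5 _)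
  · show M.elt [5] ∈ _
    rw [factsA.elt_eq_of_chk _ _ chk_l2]
    exact h5 (elt_expand_mem M ws5 _)
  · show M.elt [6] ∈ _
    rw [factsA.elt_eq_of_chk _ _ chk_l3]
    exact h5 (elt_expand_mem M ws5 _)

theorem det (γ δ : MulAut M.G) (h1 : γ gp = δ gp) (h2 : γ gh = δ gh) (h3 : γ gv = δ gv) : γ = δ := by
  have : γ.toMonoidHom = δ.toMonoidHom := by
    apply MonoidHom.eq_of_eqOn_dense closure_gens
    intro x hx
    rcases hx with rfl | rfl | rfl
    · exact h1
    · exact h2
    · exact h3
  ext x
  exact DFunLike.congr_fun this x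

/-! ## The elimination of the other candidates -/

/-- the three generators -/
def ws3 : List (List ℕ) := [wp, wh, wv]

/-- the images of the three generators under a hypothetical automorphism -/
def ws3' (ε : ℕ) (z : List ℕ) : List (List ℕ) := [rep ε wp, wh, z]

theorem chk_Rs : chkRels M lvA ws3 Rs = true := by decide +kernel

theorem chk_tab1 : chkElimTab M (ws3' 1) Rs wv tab1 = true := by decide +kernel
theorem chk_tab2 : chkElimTab M (ws3' 2) Rs wc tab2 = true := by decide +kernel

theorem hf_of (α : MulAut M.G) (ε : ℕ) (z : List ℕ) (hp : α gp = gp ^ ε) (hh : α gh = gh)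
    (hv : α gv = M.elt z) :
    ∀ k < ws3.length, α.toMonoidHom (M.elt (ws3.getD k [])) = M.elt ((ws3' ε z).getD k []) := by
  intro k hk
  have hk' : k < 3 := hk
  interval_cases k
  · show α gp = M.elt (rep ε wp)
    rw [hp, gp_pow]
  · exact hh
  · exact hv

/-! ## The classification of the normalized automorphisms -/

theorem hclass (α : MulAut M.G) (ε : ℕ) (hε : ε ∈ [1, 2]) (hp : α gp = gp ^ ε) (hh : α gh = gh) :
    α = 1 ∨ α = beta := by
  have hc : (α gv)⁻¹ * gh * α gv = gh ^ 5 := by
    have := congrArg α rel_vh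
    rw [map_mul, map_mul, map_inv, map_pow, hh] at this
    exact this
  obtain ⟨z, hz, hv⟩ := transporter_gh (α gv) hc
  simp only [List.mem_cons, List.not_mem_nil, or_false] at hε
  rcases hε with rfl | rfl
  · left
    have hz1 := mem_of_leavesIn leaves_certH1 z hz
    have := factsA.good_of_elimTab α.toMonoidHom ws3 (ws3' 1) Rs chk_Rs wv tab1 chk_tab1 z hz1
      (hf_of α 1 z hp hh hv)
    rw [this] at hv
    rw [pow_one] at hp
    exact det α 1 hp hh hv
  · right
    have hz2 := mem_of_leavesIn leaves_certH2 z hz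
    have := factsA.good_of_elimTab α.toMonoidHom ws3 (ws3' 2) Rs chk_Rs wc tab2 chk_tab2 z hz2
      (hf_of α 2 z hp hh hv)
    rw [this] at hv
    exact det α beta (by rw [hp, beta_gp]) (by rw [hh, beta_gh]) (by rw [hv, beta_gv])

theorem card_out_G : Nat.card (Cfsg.Out M.G) = 2 := by
  have : Fact (Nat.Prime 13) := ⟨by norm_num⟩
  have hN := normalizer_gp
  have hβ : beta ∉ (MulAut.conj : M.G →* MulAut M.G).range :=
    not_inner_of_pow gp 2 no_pow beta beta_gp
  have hnorm := rigid_normalize_two (G := M.G) 13 4 6 34488115200 3 [1, 2] gp gh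
    (by rw [card_G]) (by norm_num) orderOf_gp orderOf_gh
    (by norm_num) rel_ph (by norm_num) (by decide) hE (by decide) (by norm_num) hN
  exact card_out_two_of_normalized_two (G := M.G) [1, 2] gp gh beta hβ hnorm hclass

end Cfsg.Agent.Lib.Helper2.SuzOut
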