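import Cfsg.Agent.Lib.Helper2.SuzOutD

set_option autoImplicit false
set_option maxRecDepth 100000

/-! # Data for the automorphisms of the presented group `Suz`: the certificates of the searches and
the tables of the candidates -/

namespace Cfsg.Agent.Lib.Helper2.SuzOutD

open Cfsg.Agent.Lib.Helper2.PMC

/-- the centralizer of the element of order 13 -/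
def certCp : Cert := Cert.rl [(1, Cert.rl [(1, Cert.step [] (Cert.step [] (Cert.step [] (Cert.done [])))),
  (1, Cert.step [1, 0, 1, 0, 1, 5, 1] (Cert.fail)),
  (1, Cert.step [5, 4, 3, 2, 0] (Cert.fail)),
  (1, Cert.fail),
  (1, Cert.step [5, 0] (Cert.fail)),
  (1, Cert.step [] (Cert.fail)),
  (1, Cert.step [4, 5, 3, 2] (Cert.step [] (Cert.step [] (Cert.done [0, 1, 2, 1, 3, 4, 5, 0, 1, 2, 1, 3, 4, 5, 0, 1, 2, 1, 3, 4, 5, 0, 1, 2, 1, 3, 4, 5, 0, 1, 2, 1, 3, 4, 5, 0, 1, 2, 1, 3, 4, 5, 0, 1, 2, 1, 3, 4, 5, 0, 1, 2, 1, 3, 4, 5, 0, 1, 2, 1, 3, 4, 5, 0, 1, 2, 1, 3, 4, 5, 0, 1, 2, 1, 3, 4, 5, 0, 1, 2, 1, 3, 4, 5])))),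
  (2, Cert.fail),
  (1, Cert.step [1, 2, 5, 1, 0, 1, 5, 2, 1] (Cert.step [3, 4, 3, 2, 1, 3, 4, 5, 2, 3, 1, 2, 3, 4, 2, 1, 0, 1, 2, 0, 1] (Cert.fail))),
  (1, Cert.step [2, 5, 1, 0, 1, 5, 0, 1, 2] (Cert.fail)),
  (1, Cert.step [1, 2, 3, 4, 5, 1, 2, 3, 2, 0, 1, 5, 4, 3, 2, 1] (Cert.fail)),
  (1, Cert.step [1, 2, 3, 4, 5, 1, 2, 3, 2, 1, 5, 4, 3, 2, 3, 4, 1] (Cert.fail)),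
  (1, Cert.step [1, 2, 5, 1, 2, 0, 1, 5, 2, 1] (Cert.step [3, 4, 3, 2, 1, 3, 4, 5, 2, 3, 1, 2, 3, 4, 2, 1, 0, 1, 2, 0, 1] (Cert.fail))),
  (1, Cert.step [1, 2, 1, 0, 1, 0, 5, 1, 2, 3, 5, 2, 1, 0, 1, 2, 3, 2, 1] (Cert.fail)),
  (1, Cert.step [4, 5, 3, 2] (Cert.fail)),
  (1, Cert.step [2, 5, 1, 0, 1, 5, 0, 1, 2] (Cert.fail)),
  (1, Cert.fail),
  (1, Cert.step [4, 5, 3, 2] (Cert.fail)),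
  (1, Cert.fail),
  (1, Cert.step [1, 0, 1, 5, 0, 1, 0] (Cert.fail)),
  (1, Cert.step [1, 0, 1, 5, 4, 3, 0, 1] (Cert.fail)),
  (1, Cert.step [1, 0, 1, 5, 0, 1, 2, 0] (Cert.fail)),
  (3, Cert.fail),
  (1, Cert.step [1, 2, 3, 2, 5, 1, 0, 2, 3, 1, 2, 3, 4, 3, 0, 1] (Cert.fail)),
  (1, Cert.step [1, 0, 2, 1, 0, 1, 3, 2, 0, 1, 5, 3, 2, 1, 0] (Cert.step [3] (Cert.step [] (Cert.done [0, 1, 2, 1, 3, 4, 5])))),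
  (1, Cert.fail),
  (1, Cert.step [1, 0, 1, 5, 0, 1, 0] (Cert.fail)),
  (1, Cert.step [0, 2, 6, 1, 0, 2, 3, 2, 4, 3, 5, 1, 0, 2, 3, 4, 3, 2, 3, 4, 1, 2, 3, 2, 1, 0, 1, 6, 3] (Cert.fail)),
  (1, Cert.fail),
  (1, Cert.step [1, 0, 1, 4, 5, 3, 0, 1, 0] (Cert.fail)),
  (1, Cert.fail),
  (1, Cert.step [1, 2, 3, 5, 1, 2, 3, 0, 1, 0, 1, 2, 0, 1] (Cert.fail)),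
  (1, Cert.fail),
  (1, Cert.step [1, 4, 5, 1, 0, 1, 0, 1, 2, 3] (Cert.fail)),
  (1, Cert.fail),
  (1, Cert.step [0, 6, 1, 0, 2, 3, 2, 5, 1, 2, 3, 2, 1, 5, 3, 2, 0, 1, 6, 4] (Cert.fail)),
  (1, Cert.step [2, 1, 3, 2, 1, 0, 5, 1, 0, 2, 1, 3, 2, 3, 4, 3, 2, 3, 0, 1, 0, 1, 2, 0, 1] (Cert.fail)),
  (1, Cert.fail),
  (1, Cert.step [2, 5, 6, 1, 2, 3, 4, 5, 1, 2, 3, 2, 1, 5, 4, 3, 2, 1, 6, 3] (Cert.fail)),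
  (1, Cert.step [2, 3, 6, 1, 0, 2, 1, 3, 2, 0, 1, 5, 2, 3, 2, 1, 6, 2, 0] (Cert.fail)),
  (1, Cert.fail),
  (1, Cert.step [1, 0, 5, 1, 0, 1, 5, 2] (Cert.fail)),
  (1, Cert.step [1, 0, 5, 1, 0, 1, 5, 4] (Cert.fail)),
  (1, Cert.step [1, 2, 3, 6, 1, 5, 1, 2, 3, 6, 1, 2, 0, 1, 0, 1, 6, 2, 3, 2, 1, 5, 6, 4] (Cert.fail)),
  (2, Cert.fail),
  (1, Cert.step [5, 2] (Cert.fail)),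
  (1, Cert.step [6, 1, 0, 2, 1, 0, 3, 2, 1, 5, 2, 3, 2, 1, 6, 3, 4] (Cert.fail)),
  (1, Cert.step [6, 1, 2, 3, 4, 5, 1, 2, 3, 2, 1, 5, 4, 3, 2, 1, 6, 5] (Cert.fail)),
  (1, Cert.fail),
  (1, Cert.step [2, 1, 0, 5, 4, 1, 0, 1, 0] (Cert.fail)),
  (1, Cert.fail),
  (1, Cert.step [0, 1, 2, 3, 5, 1, 0, 2, 1, 3, 0, 1, 2, 3, 0, 1, 2, 0] (Cert.fail)),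
  (1, Cert.step [1, 0, 5, 1, 0, 1, 5] (Cert.fail)),
  (1, Cert.fail),
  (1, Cert.step [2, 5, 6, 1, 2, 3, 4, 5, 1, 2, 3, 2, 1, 5, 4, 3, 2, 1, 6, 3] (Cert.fail)),
  (2, Cert.fail),
  (1, Cert.step [2, 3, 1, 5, 1, 2, 3, 2, 1, 4, 3, 2, 3, 4, 2, 3, 4, 0, 1, 2, 3, 2, 1, 0, 1, 2] (Cert.fail)),
  (1, Cert.fail),
  (1, Cert.step [1, 2, 5, 1, 0, 1, 5, 2, 3, 1] (Cert.fail)),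
  (1, Cert.fail),
  (1, Cert.step [1, 0, 2, 3, 2, 1, 0, 5, 1, 0, 1, 2, 1, 5, 3, 2, 3, 4, 1, 0, 1, 2, 1] (Cert.fail)),
  (1, Cert.step [1, 0, 1, 5, 0, 1, 0] (Cert.fail)),
  (1, Cert.step [2, 1, 0, 5, 1, 0, 1, 5, 4] (Cert.fail)),
  (1, Cert.step [0, 1, 0, 2, 1, 0, 3, 5, 1, 2, 1, 5, 1, 2, 3, 2, 3, 4, 1, 0] (Cert.fail)),
  (1, Cert.step [1, 0, 2, 1, 0, 5, 1, 2, 3, 2, 5, 1, 0, 1, 2, 3, 2, 3, 1] (Cert.fail)),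
  (1, Cert.step [2, 1, 0, 3, 2, 1, 3, 2, 0, 1, 5, 2, 3, 2, 1] (Cert.fail)),
  (1, Cert.step [1, 0, 2, 1, 0, 5, 1, 2, 3, 2, 5, 1, 0, 1, 2, 3, 2, 1] (Cert.fail)),
  (1, Cert.step [2, 1, 0, 1, 5, 4, 3, 0, 1] (Cert.fail)),
  (1, Cert.step [1, 2, 1, 0, 3, 2, 4, 3, 5, 1, 0, 2, 1, 3, 4, 3, 2, 1, 5, 3, 2, 3, 4, 2, 3, 2, 1, 0] (Cert.step [4, 3, 2, 1, 5, 3, 0, 1, 0, 1, 2, 3, 4, 3] (Cert.fail))),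
  (1, Cert.step [0, 1, 2, 1, 3, 2, 5, 1, 0, 2, 3, 1, 2, 3, 4, 0, 1, 0] (Cert.fail)),
  (1, Cert.step [1, 0, 1, 2, 3, 5, 1, 2, 0, 1, 5, 2, 3, 2, 3, 1] (Cert.fail)),
  (1, Cert.step [1, 0, 2, 1, 0, 1, 3, 2, 1, 5, 3, 2, 3, 1] (Cert.fail)),
  (1, Cert.step [0, 1, 2, 3, 4, 5, 1, 2, 3, 4, 2, 3, 2, 1, 5, 2, 3, 1] (Cert.fail)),
  (1, Cert.step [1, 2, 3, 2, 4, 3, 5, 1, 2, 3, 4, 2, 3, 4, 0, 1, 2, 3, 2, 1, 0, 1, 2] (Cert.fail)),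
  (1, Cert.step [1, 0, 5, 1, 0, 1, 0] (Cert.fail)),
  (1, Cert.step [0, 6, 1, 2, 3, 2, 5, 1, 0, 2, 3, 1, 2, 0, 1, 6, 4, 2] (Cert.fail)),
  (1, Cert.step [0, 1, 0, 5, 1, 0, 1, 2, 3] (Cert.fail)),
  (1, Cert.step [4, 3] (Cert.fail)),
  (1, Cert.step [6, 1, 0, 2, 1, 0, 3, 2, 1, 5, 2, 3, 2, 1, 6, 3, 0] (Cert.fail)),
  (1, Cert.step [0, 2, 1, 3, 2, 3, 2, 5, 1, 2, 3, 4, 0, 1, 2, 0, 1] (Cert.fail)),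
  (1, Cert.step [6, 1, 0, 2, 1, 3, 2, 5, 1, 2, 3, 2, 1, 5, 1, 2, 3, 1, 2, 0, 1, 6, 4, 3] (Cert.fail)),
  (1, Cert.step [0, 1, 0, 1, 2, 3, 5, 1, 2, 0, 1, 5, 2, 3, 2, 1] (Cert.fail)),
  (1, Cert.step [1, 2, 1, 3, 2, 5, 1, 0, 2, 3, 1, 2, 3, 4, 0, 1] (Cert.fail)),
  (1, Cert.step [0, 1, 0, 1, 4, 5, 0, 1, 2, 3] (Cert.step [4, 3, 2, 1, 3, 2, 4, 3, 2, 5, 1, 0, 2, 1, 3, 2, 3, 4, 0, 1, 2] (Cert.fail))),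
  (1, Cert.step [5, 6, 1, 2, 3, 4, 5, 1, 2, 3, 2, 1, 5, 4, 3, 2, 1, 6, 3, 4] (Cert.fail)),
  (1, Cert.fail),
  (1, Cert.step [0, 1, 2, 1, 0, 1, 3, 2, 3, 0, 1, 2, 3, 2, 1, 0, 1, 5] (Cert.fail)),
  (1, Cert.step [0, 2, 1, 0, 5, 4, 1, 0, 1, 2] (Cert.step [4, 3, 2, 1, 0, 1, 5, 0, 1, 2, 3, 4, 3] (Cert.step [0, 1, 0, 3, 2, 1, 4, 3, 2, 1, 0, 3, 1, 2, 3, 0, 1, 2, 3, 4, 2, 3, 1] (Cert.done [0, 1, 2, 1, 3, 4, 5, 0, 1, 2, 1, 3, 4, 5, 0, 1, 2, 1, 3, 4, 5, 0, 1, 2, 1, 3, 4, 5, 0, 1, 2, 1, 3, 4, 5, 0, 1, 2, 1, 3, 4, 5, 0, 1, 2, 1, 3, 4, 5, 0, 1, 2, 1, 3, 4, 5, 0, 1, 2, 1, 3, 4, 5, 0, 1, 2, 1, 3, 4, 5, 0, 1, 2, 1, 3, 4, 5])))),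
  (1, Cert.step [0, 1, 0, 1, 5, 0, 1, 2, 3] (Cert.fail)),
  (1, Cert.fail),
  (1, Cert.step [0, 1, 6, 1, 2, 3, 5, 1, 2, 3, 6, 5, 1, 5, 6, 2, 1, 5, 6, 3, 4, 2, 3, 1] (Cert.fail)),
  (1, Cert.step [5, 6, 1, 2, 3, 2, 5, 1, 0, 1, 2, 3, 1, 2, 3, 2, 1, 6, 4, 3] (Cert.fail)),
  (1, Cert.step [1, 2, 3, 5, 1, 2, 3, 4, 1, 0, 1, 2, 0, 1] (Cert.fail)),
  (1, Cert.fail),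
  (1, Cert.step [2, 3, 2, 6, 1, 2, 3, 2, 5, 3, 2, 3, 2, 1, 0, 1, 6, 2] (Cert.fail)),
  (1, Cert.step [0, 2, 1, 0, 5, 1, 0, 1, 2, 3] (Cert.fail)),
  (1, Cert.step [1, 2, 3, 4, 5, 1, 2, 3, 2, 1, 5, 4, 3, 2, 3, 1, 2] (Cert.fail)),
  (1, Cert.step [1, 2, 3, 5, 1, 2, 6, 5, 1, 6, 1, 6, 3, 4, 0, 1, 2, 3, 0, 1, 0] (Cert.fail)),
  (1, Cert.step [0, 1, 2, 3, 4, 5, 1, 0, 2, 3, 2, 1, 5, 4, 3, 2, 3, 1] (Cert.step [0, 1, 0, 4, 3, 2, 1, 3, 0, 1, 2, 3, 4, 1, 2, 3, 0, 1, 0, 1] (Cert.fail))),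
  (1, Cert.step [0, 2, 6, 1, 2, 3, 2, 5, 1, 2, 3, 0, 1, 2, 0, 1, 6, 4] (Cert.fail)),
  (1, Cert.step [1, 6, 1, 2, 3, 5, 1, 2, 3, 6, 5, 1, 5, 6, 2, 1, 5, 6, 3, 4, 2, 3, 1] (Cert.fail)),
  (1, Cert.step [0, 1, 0, 2, 1, 0, 1, 3, 2, 1, 5, 3, 2, 3, 4, 1] (Cert.fail)),
  (1, Cert.step [1, 2, 3, 5, 1, 2, 3, 2, 1, 0, 1, 2, 0, 1] (Cert.fail)),
  (1, Cert.step [1, 0, 1, 2, 3, 5, 1, 2, 0, 1, 5, 2, 3, 2, 1, 0] (Cert.fail)),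
  (1, Cert.step [0, 6, 1, 0, 2, 1, 0, 3, 2, 1, 5, 2, 3, 2, 1, 6, 3, 2] (Cert.fail)),
  (1, Cert.step [1, 5, 6, 1, 2, 3, 2, 1, 0, 1, 6, 0, 1, 5, 2, 3, 2, 1, 6, 5, 1] (Cert.fail)),
  (1, Cert.step [1, 5, 1, 0, 1, 0, 1, 2, 3] (Cert.fail)),
  (1, Cert.step [2, 1, 3, 2, 3, 5, 1, 2, 3, 1, 0, 1, 2, 0, 1] (Cert.fail)),
  (1, Cert.fail),
  (1, Cert.step [2, 1, 0, 3, 2, 1, 0, 3, 1, 2, 0, 1, 5, 3, 2, 1, 0] (Cert.fail)),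
  (1, Cert.fail),
  (1, Cert.step [6, 1, 0, 2, 5, 1, 2, 3, 2, 0, 1, 2, 3, 2, 1, 5, 1, 6] (Cert.fail)),
  (1, Cert.fail),
  (1, Cert.step [6, 1, 2, 3, 2, 5, 1, 0, 1, 2, 3, 1, 2, 3, 2, 1, 6, 4, 3] (Cert.fail)),
  (1, Cert.step [1, 0, 2, 1, 0, 1, 0, 3, 2, 1, 5, 3, 2, 3, 1, 2] (Cert.fail)),
  (1, Cert.step [6, 1, 0, 2, 1, 0, 3, 2, 1, 5, 2, 3, 2, 1, 6, 5, 3] (Cert.fail)),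
  (1, Cert.step [6, 1, 2, 3, 5, 1, 2, 3, 2, 1, 0, 1, 2, 0, 1, 6, 4, 3] (Cert.fail)),
  (1, Cert.fail),
  (1, Cert.step [0, 1, 2, 3, 5, 1, 0, 2, 1, 3, 0, 1, 2, 3, 4, 0, 1, 0] (Cert.fail)),
  (1, Cert.step [5, 1, 0, 1, 5, 4, 3, 0, 1] (Cert.fail)),
  (1, Cert.step [1, 0, 2, 5, 1, 2, 3, 2, 6, 5, 6, 1, 5, 1, 2, 3, 4, 2, 3, 1] (Cert.fail)),
  (1, Cert.fail),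
  (1, Cert.step [6, 1, 0, 2, 5, 1, 2, 3, 2, 0, 1, 5, 2, 3, 2, 1, 6, 5] (Cert.fail)),
  (1, Cert.step [0, 1, 2, 1, 0, 3, 5, 1, 2, 3, 2, 1, 5, 2, 3, 2, 0, 1] (Cert.fail)),
  (1, Cert.step [1, 0, 2, 5, 1, 0, 2, 3, 1, 2, 0, 1, 5, 3, 2, 1, 0] (Cert.fail)),
  (1, Cert.step [1, 2, 3, 5, 1, 2, 3, 2, 1, 0, 1, 2, 3, 0, 1] (Cert.fail)),
  (1, Cert.step [1, 2, 3, 5, 1, 0, 2, 1, 0, 1, 5, 3, 2, 1, 0, 1, 0] (Cert.fail)),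
  (1, Cert.step [6, 1, 0, 2, 5, 1, 2, 3, 2, 0, 1, 5, 2, 3, 2, 1, 6, 5] (Cert.fail)),
  (1, Cert.step [6, 1, 2, 3, 2, 5, 1, 2, 3, 0, 1, 2, 0, 1, 5, 6] (Cert.fail)),
  (1, Cert.step [1, 2, 1, 3, 2, 4, 3, 2, 5, 1, 2, 3, 2, 1, 2, 3, 4, 2, 3, 1, 2, 3, 1, 2, 1, 0] (Cert.fail)),
  (1, Cert.step [1, 2, 1, 0, 3, 2, 4, 5, 1, 2, 3, 2, 4, 3, 2, 3, 4, 1, 0, 1, 2, 3, 2, 1] (Cert.fail)),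
  (1, Cert.step [0, 6, 1, 2, 3, 4, 5, 1, 2, 3, 2, 1, 5, 4, 3, 2, 1, 6, 3, 4] (Cert.fail)),
  (1, Cert.step [4, 3, 0] (Cert.fail)),
  (2, Cert.fail),
  (1, Cert.step [2, 6, 1, 0, 5, 1, 0, 1, 6, 2, 3, 2] (Cert.fail)),
  (1, Cert.step [2, 3, 1, 5, 1, 2, 3, 2, 1, 4, 3, 2, 3, 4, 2, 3, 4, 0, 1, 2, 3, 2, 1, 0, 1, 2] (Cert.fail)),
  (1, Cert.step [1, 0, 5, 4, 1, 0, 1, 2] (Cert.fail)),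
  (1, Cert.step [0, 6, 1, 2, 3, 2, 5, 1, 2, 3, 0, 1, 2, 0, 1, 6, 4] (Cert.fail)),
  (1, Cert.step [2, 6, 1, 2, 3, 2, 5, 1, 0, 2, 3, 1, 2, 0, 1, 6, 3, 2] (Cert.fail)),
  (1, Cert.step [1, 0, 1, 6, 5, 6, 1, 2, 3, 4] (Cert.fail)),
  (1, Cert.step [6, 1, 0, 2, 1, 0, 3, 2, 1, 5, 2, 3, 2, 1, 6, 3, 4, 0] (Cert.fail)),
  (1, Cert.step [1, 0, 2, 3, 5, 1, 0, 1, 2, 3, 2, 0, 1, 5, 3, 2, 3, 2, 1, 0] (Cert.fail)),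
  (1, Cert.step [6, 1, 2, 3, 5, 1, 2, 3, 2, 1, 2, 0, 1, 5, 2, 0, 1, 6] (Cert.fail)),
  (1, Cert.fail),
  (1, Cert.step [1, 5, 1, 0, 2, 1, 3, 2, 1, 3, 2, 1, 5, 3, 4, 2, 0, 1, 0] (Cert.step [0, 1, 0, 2, 1, 0, 4, 2, 3, 2, 1, 0, 1, 2, 3, 2, 3, 1, 2, 3, 4] (Cert.fail))),
  (2, Cert.fail),
  (1, Cert.step [2, 1, 0, 1, 0, 1, 5, 1, 2] (Cert.fail)),
  (1, Cert.step [6, 1, 2, 3, 5, 1, 0, 2, 1, 3, 2, 0, 1, 5, 2, 0, 1, 6] (Cert.fail)),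
  (1, Cert.step [1, 2, 1, 3, 2, 4, 3, 2, 5, 1, 2, 3, 2, 1, 2, 3, 4, 2, 3, 1, 2, 3, 1, 2, 1, 0] (Cert.fail)),
  (1, Cert.step [1, 0, 2, 1, 0, 1, 3, 5, 2, 1, 5, 3, 2, 3, 1, 0] (Cert.fail)),
  (1, Cert.step [1, 2, 3, 6, 1, 5, 1, 2, 3, 6, 1, 2, 0, 1, 0, 1, 2, 3, 2, 1, 6, 4, 1, 2] (Cert.fail)),
  (1, Cert.step [6, 1, 0, 2, 5, 1, 2, 3, 2, 0, 1, 5, 2, 3, 2, 1, 6, 2, 0] (Cert.fail)),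
  (1, Cert.step [1, 2, 1, 3, 2, 5, 1, 0, 2, 3, 4, 1, 2, 3, 0, 1, 0] (Cert.fail)),
  (1, Cert.step [1, 0, 5, 1, 0, 1, 2] (Cert.fail)),
  (1, Cert.fail),
  (1, Cert.step [2, 6, 1, 0, 1, 0, 5, 1, 6, 2, 3] (Cert.fail)),
  (1, Cert.step [2, 6, 1, 0, 2, 3, 2, 5, 1, 0, 1, 3, 2, 3, 1, 2, 3, 2, 1, 6, 5, 2] (Cert.fail)),
  (1, Cert.step [2, 1, 0, 3, 2, 1, 3, 2, 0, 1, 5, 2, 3, 2, 1] (Cert.fail)),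
  (1, Cert.step [1, 2, 1, 3, 2, 5, 1, 0, 2, 1, 5, 3, 2, 1, 0, 1, 0] (Cert.fail)),
  (1, Cert.step [1, 5, 6, 1, 0, 1, 2, 1, 3, 2, 4, 6, 1, 2, 1, 6, 3, 2, 1, 5, 4, 3, 2, 1, 6, 3] (Cert.fail)),
  (1, Cert.step [2, 6, 1, 0, 2, 3, 5, 1, 2, 3, 2, 1, 5, 3, 2, 3, 2, 1, 6, 4] (Cert.fail)),
  (1, Cert.step [1, 0, 1, 2, 5, 1, 0, 2, 3, 2, 1, 0, 1, 2, 3, 4, 2, 1] (Cert.fail)),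
  (1, Cert.step [1, 2, 3, 6, 5, 1, 2, 6, 1, 5, 1, 6, 3, 2, 1, 5, 3, 2, 1, 6, 4, 3, 1] (Cert.step [1, 0, 1, 0, 2, 3, 4, 1, 2, 3, 4, 2, 3, 0, 1, 2, 0, 1, 0, 1] (Cert.fail))),
  (1, Cert.step [1, 2, 1, 3, 4, 5, 1, 2, 3, 4, 2, 3, 2, 1, 5, 2, 3, 1] (Cert.step [4, 3, 2, 1, 5, 0, 1, 0, 1, 2, 3, 4, 3] (Cert.step [1, 3, 2, 4, 3, 2, 1, 0, 3, 2, 1, 3, 0, 1, 2, 3, 4, 1, 2, 3, 0, 1, 0] (Cert.done [0, 1, 2, 1, 3, 4, 5, 0, 1, 2, 1, 3, 4, 5])))),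
  (1, Cert.fail),
  (1, Cert.step [1, 0, 4, 5, 1, 0, 1, 2, 3] (Cert.fail)),
  (1, Cert.step [2, 6, 1, 2, 3, 4, 5, 1, 2, 3, 2, 1, 5, 4, 3, 2, 1, 6, 5] (Cert.fail)),
  (1, Cert.fail),
  (1, Cert.step [1, 0, 4, 5, 1, 0, 1, 2, 3] (Cert.fail)),
  (1, Cert.step [5, 2, 6, 1, 0, 2, 3, 2, 4, 3, 5, 1, 0, 2, 3, 4, 3, 2, 3, 4, 1, 2, 3, 2, 1, 0, 1, 6, 3] (Cert.fail)),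
  (1, Cert.step [1, 2, 1, 0, 3, 2, 5, 1, 0, 1, 3, 2, 3, 1, 2, 3, 4, 2, 3, 1] (Cert.fail)),
  (1, Cert.step [0, 1, 0, 2, 1, 0, 1, 3, 2, 1, 5, 3, 2, 3, 4, 1] (Cert.fail)),
  (1, Cert.step [0, 1, 2, 3, 5, 1, 0, 2, 1, 3, 4, 0, 1, 2, 3, 0, 1] (Cert.fail)),
  (1, Cert.step [1, 0, 2, 1, 3, 2, 3, 2, 1, 0, 1, 2, 3, 2, 0, 1, 5, 2, 0] (Cert.fail)),
  (1, Cert.step [6, 1, 0, 1, 0, 5, 1, 6, 4, 2, 3] (Cert.fail)),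
  (1, Cert.step [2, 6, 1, 0, 2, 3, 2, 5, 1, 0, 3, 2, 3, 1, 2, 0, 1, 6, 4, 3] (Cert.fail)),
  (1, Cert.step [0, 1, 0, 1, 5, 0, 1, 2, 3] (Cert.fail)),
  (1, Cert.step [1, 0, 2, 1, 0, 1, 3, 5, 2, 1, 5, 3, 2, 3, 1, 2] (Cert.fail)),
  (1, Cert.fail),
  (1, Cert.step [2, 1, 0, 1, 5, 4, 0, 1] (Cert.fail)),
  (1, Cert.step [1, 2, 1, 3, 2, 5, 1, 0, 2, 1, 5, 3, 2, 1, 0, 1] (Cert.fail)),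
  (1, Cert.step [2, 6, 1, 2, 3, 2, 5, 1, 0, 2, 3, 1, 2, 0, 1, 6, 4, 3, 0] (Cert.fail)),
  (1, Cert.step [1, 2, 3, 4, 5, 1, 2, 3, 2, 1, 5, 4, 3, 2, 3, 1, 2] (Cert.fail)),
  (1, Cert.step [0, 1, 2, 1, 3, 5, 1, 0, 2, 3, 4, 1, 0, 1, 2, 0, 1, 0] (Cert.fail)),
  (1, Cert.step [0, 1, 2, 3, 2, 4, 3, 2, 5, 1, 2, 3, 2, 1, 2, 3, 4, 2, 3, 1, 2, 3, 4, 1, 2, 1] (Cert.fail)),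
  (1, Cert.step [1, 0, 1, 5, 4, 0, 1, 2] (Cert.fail)),
  (3, Cert.fail),
  (1, Cert.step [0, 1, 0, 1, 4, 5, 0, 1, 2, 3] (Cert.fail)),
  (1, Cert.step [0, 1, 2, 3, 4, 3, 5, 1, 2, 3, 2, 1, 5, 4, 3, 2, 3, 1] (Cert.fail)),
  (2, Cert.fail),
  (1, Cert.step [1, 0, 5, 1, 0, 1, 5, 2] (Cert.fail)),
  (1, Cert.step [1, 2, 3, 5, 1, 0, 2, 1, 3, 0, 1, 2, 0, 1, 5, 4] (Cert.fail)),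
  (1, Cert.step [0, 2, 3, 6, 1, 2, 3, 2, 1, 0, 1, 2, 0, 1, 5, 3, 2, 0, 1, 6, 3] (Cert.fail)),
  (1, Cert.step [1, 2, 1, 3, 2, 4, 3, 2, 5, 1, 2, 3, 2, 1, 2, 3, 4, 2, 3, 1, 2, 3, 1, 2, 1, 0] (Cert.fail)),
  (1, Cert.step [0, 1, 0, 4, 5, 1, 0, 1, 2, 3] (Cert.fail)),
  (1, Cert.fail),
  (1, Cert.step [1, 0, 4, 5, 1, 0, 1, 2, 3] (Cert.fail)),
  (1, Cert.step [6, 1, 2, 3, 5, 1, 2, 3, 2, 1, 2, 0, 1, 5, 2, 0, 1, 6] (Cert.fail)),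
  (1, Cert.step [3, 2, 1, 3, 4, 3, 2, 3, 2, 5, 1, 0, 2, 1, 5, 3, 4, 2, 3, 1, 0, 1, 2, 3, 4, 3] (Cert.fail)),
  (1, Cert.step [6, 1, 2, 3, 5, 1, 0, 2, 6, 1, 0, 3, 2, 1, 0, 1, 6, 1, 5, 4, 2, 1] (Cert.fail)),
  (1, Cert.step [1, 2, 1, 0, 1, 2, 3, 2, 3, 5, 1, 0, 1, 5, 2, 3, 0, 1, 2, 3, 2, 1] (Cert.fail)),
  (1, Cert.fail),
  (1, Cert.step [2, 6, 1, 2, 3, 2, 5, 1, 0, 2, 3, 1, 2, 0, 1, 6, 4, 3, 0] (Cert.fail)),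
  (1, Cert.step [1, 5, 1, 2, 3, 2, 1, 4, 3, 2, 3, 4, 2, 3, 4, 0, 1, 2, 3, 2, 1, 0, 1, 2] (Cert.step [1, 0, 1, 0, 2, 1, 3, 4, 3, 2, 3, 4, 5, 2, 3, 1, 2, 3, 2, 1, 0, 1, 5, 4, 2, 1, 0] (Cert.fail))),
  (1, Cert.step [1, 0, 2, 6, 1, 0, 1, 2, 3, 2, 3, 5, 1, 0, 2, 1, 6, 0, 1, 5, 2, 3, 2, 1, 6, 4, 3, 1] (Cert.fail)),
  (1, Cert.step [2, 1, 0, 5, 1, 0, 1, 5, 4] (Cert.fail)),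
  (1, Cert.step [6, 1, 0, 1, 2, 3, 5, 1, 2, 0, 1, 5, 2, 3, 2, 1, 6, 2, 0] (Cert.fail)),
  (1, Cert.step [1, 2, 1, 0, 3, 5, 1, 2, 3, 2, 1, 5, 2, 3, 2, 0, 1] (Cert.fail)),
  (1, Cert.step [2, 1, 0, 5, 1, 0, 1, 5, 2] (Cert.fail)),
  (1, Cert.step [2, 5, 6, 1, 2, 3, 4, 5, 1, 2, 3, 2, 1, 5, 4, 3, 2, 1, 6, 3] (Cert.fail)),
  (1, Cert.step [2, 3, 6, 1, 2, 3, 4, 5, 1, 2, 3, 2, 1, 5, 4, 3, 2, 1, 6, 2] (Cert.fail)),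
  (1, Cert.step [2, 1, 0, 1, 0, 1, 5, 1] (Cert.fail)),
  (1, Cert.step [2, 1, 0, 1, 5, 0, 1, 0] (Cert.fail)),
  (1, Cert.step [0, 1, 2, 1, 3, 2, 1, 0, 1, 3, 2, 0, 1, 5, 3, 2, 3, 2, 1, 0] (Cert.fail)),
  (1, Cert.step [2, 1, 5, 1, 0, 1, 0, 1, 2, 3] (Cert.fail)),
  (1, Cert.step [0, 1, 2, 3, 4, 5, 1, 2, 3, 2, 1, 5, 4, 3, 2, 3, 1, 2] (Cert.fail)),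
  (1, Cert.fail),
  (1, Cert.step [2, 1, 0, 5, 1, 0, 1, 5, 3] (Cert.fail)),
  (1, Cert.step [6, 5, 1, 2, 3, 2, 1, 0, 4, 5, 1, 2, 3, 2, 1, 5, 4, 0, 1, 2, 3, 2, 1, 6, 4, 3, 2] (Cert.fail)),
  (1, Cert.step [1, 2, 3, 2, 1, 0, 1, 2, 5, 3, 2, 1, 5, 0, 1, 0, 1, 2, 1] (Cert.fail)),
  (1, Cert.step [1, 0, 1, 2, 5, 1, 0, 2, 3, 2, 1, 0, 1, 2, 3, 2, 1] (Cert.fail)),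
  (1, Cert.step [1, 2, 3, 5, 1, 2, 5, 3, 1, 0, 1, 2, 0, 1, 0] (Cert.fail)),
  (1, Cert.step [1, 0, 2, 1, 0, 1, 2, 3, 2, 1, 5, 3, 2, 3, 1, 0] (Cert.fail)),
  (1, Cert.step [1, 2, 3, 5, 1, 0, 2, 1, 3, 4, 0, 1, 2, 3, 0, 1] (Cert.fail)),
  (1, Cert.step [5, 1, 0, 2, 1, 0, 1, 3, 2, 1, 5, 3, 2, 3, 4, 1] (Cert.fail)),
  (1, Cert.step [6, 1, 2, 3, 2, 5, 1, 2, 3, 0, 1, 2, 0, 1, 6, 3, 0] (Cert.step [1, 0, 1, 0, 2, 3, 4, 1, 2, 3, 4, 2, 3, 0, 1, 2, 0, 1, 0, 1] (Cert.fail))),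
  (1, Cert.step [1, 5, 1, 2, 3, 2, 1, 0, 2, 3, 2, 1, 5, 2, 0, 1, 0] (Cert.fail)),
  (1, Cert.fail),
  (1, Cert.step [0, 1, 2, 1, 3, 2, 5, 1, 0, 2, 3, 1, 2, 3, 4, 0, 1] (Cert.fail)),
  (1, Cert.step [1, 2, 1, 0, 3, 5, 1, 2, 3, 2, 1, 5, 3, 2, 3, 4, 2, 1] (Cert.fail)),
  (1, Cert.fail),
  (1, Cert.step [1, 0, 1, 2, 1, 3, 2, 3, 5, 1, 0, 1, 5, 0, 1, 2, 3, 1, 2, 0, 1, 0] (Cert.fail)),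
  (1, Cert.step [1, 2, 3, 4, 5, 1, 2, 3, 6, 1, 2, 5, 1, 0, 1, 6, 2, 1, 0, 1, 6, 4, 3, 1, 2, 3, 1, 0] (Cert.fail)),
  (1, Cert.fail),
  (1, Cert.step [2, 1, 0, 1, 3, 2, 1, 0, 1, 0, 1, 5, 0, 1, 2, 1] (Cert.step [4, 3, 2, 3, 5, 6, 1, 2, 5, 4, 3, 1, 2, 3, 2, 1, 0, 1, 2, 0, 1, 6, 4] (Cert.fail))),
  (1, Cert.step [1, 0, 1, 2, 3, 5, 1, 2, 0, 1, 5, 2, 3, 2, 3, 1] (Cert.fail)),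
  (1, Cert.step [1, 0, 1, 2, 5, 1, 0, 2, 3, 2, 1, 0, 1, 2, 3, 2, 1] (Cert.fail)),
  (1, Cert.step [1, 0, 2, 1, 0, 1, 2, 3, 2, 1, 5, 3, 2, 3, 1, 0] (Cert.fail)),
  (2, Cert.fail),
  (1, Cert.step [1, 2, 3, 5, 1, 2, 3, 2, 4, 3, 2, 1, 5, 3, 2, 1] (Cert.fail)),
  (1, Cert.step [1, 0, 2, 1, 0, 3, 2, 3, 6, 1, 6, 1, 5, 6, 2, 3, 4, 1, 2, 1, 0] (Cert.step [4, 3, 2, 1, 5, 4, 3, 0, 1, 0, 1, 2, 3, 4] (Cert.fail))),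
  (1, Cert.fail),
  (1, Cert.step [2, 1, 0, 5, 3, 4, 1, 0, 1] (Cert.fail)),
  (1, Cert.step [2, 1, 0, 5, 3, 1, 0, 1, 0] (Cert.fail)),
  (1, Cert.step [1, 2, 1, 0, 3, 5, 1, 2, 3, 2, 1, 5, 3, 2, 3, 4, 2, 1] (Cert.fail)),
  (1, Cert.step [1, 5, 6, 1, 2, 3, 2, 5, 1, 0, 6, 1, 0, 1, 2, 3, 2, 1, 6, 5, 1] (Cert.fail)),
  (1, Cert.step [2, 6, 1, 0, 1, 0, 5, 1, 6, 2, 3, 2] (Cert.fail)),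
  (1, Cert.step [2, 1, 0, 1, 3, 2, 1, 0, 1, 0, 1, 5, 0, 1, 2, 1] (Cert.fail)),
  (2, Cert.fail),
  (1, Cert.step [1, 2, 6, 1, 0, 2, 1, 0, 3, 2, 1, 6, 3, 2, 3, 2, 1, 5, 1, 6, 2, 1, 5] (Cert.fail)),
  (1, Cert.step [6, 1, 2, 3, 5, 1, 2, 3, 2, 1, 0, 1, 2, 0, 1, 6] (Cert.step [0, 1, 0, 4, 3, 2, 1, 3, 0, 1, 2, 3, 4, 1, 2, 0, 1, 0, 1] (Cert.fail))),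
  (1, Cert.fail),
  (1, Cert.step [2, 5, 6, 1, 2, 3, 2, 5, 1, 2, 3, 0, 1, 2, 0, 1, 6, 3] (Cert.step [1, 0, 1, 0, 2, 3, 4, 1, 2, 3, 4, 2, 3, 0, 1, 2, 0, 1, 0, 1] (Cert.fail))),
  (1, Cert.step [0, 1, 2, 1, 3, 4, 5, 1, 2, 3, 2, 1, 5, 4, 3, 2, 3, 1] (Cert.fail)),
  (1, Cert.step [2, 1, 3, 2, 3, 4, 5, 1, 2, 3, 2, 1, 5, 4, 3, 2, 1] (Cert.fail)),
  (1, Cert.step [1, 0, 1, 2, 1, 0, 4, 3, 2, 5, 1, 2, 3, 4, 2, 3, 2, 1, 5, 0, 1, 2, 3, 2, 1, 0] (Cert.fail)),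
  (1, Cert.fail),
  (1, Cert.step [1, 2, 6, 1, 0, 2, 1, 0, 3, 2, 1, 6, 3, 2, 3, 2, 1, 5, 1, 6, 2, 3, 4, 1] (Cert.fail)),
  (1, Cert.fail),
  (1, Cert.step [6, 1, 5, 1, 2, 3, 2, 1, 0, 2, 3, 2, 1, 5, 2, 0, 1, 6] (Cert.step [1, 0, 2, 1, 4, 0, 1, 2, 3, 2, 1, 5, 3, 2, 3, 1, 2, 3, 4] (Cert.fail))),
  (1, Cert.step [1, 2, 3, 5, 1, 0, 2, 1, 3, 2, 0, 1, 5, 2, 0, 1] (Cert.fail)),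
  (1, Cert.step [1, 2, 1, 3, 2, 1, 3, 2, 5, 1, 2, 3, 2, 1, 0, 1, 5, 1, 2, 3, 2, 1] (Cert.fail)),
  (1, Cert.step [1, 2, 3, 5, 1, 0, 2, 1, 3, 0, 1, 2, 0, 1, 5, 4] (Cert.fail)),
  (1, Cert.step [1, 0, 2, 1, 0, 1, 3, 2, 0, 1, 5, 3, 1, 2, 1, 0] (Cert.fail)),
  (1, Cert.step [1, 2, 1, 3, 2, 3, 5, 1, 2, 3, 2, 1, 5, 3, 4, 2, 0, 1] (Cert.fail)),
  (1, Cert.step [1, 0, 2, 3, 5, 1, 0, 1, 2, 3, 2, 0, 1, 5, 2, 3, 4, 2, 0, 1] (Cert.fail)),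
  (1, Cert.step [2, 1, 0, 3, 5, 1, 0, 1, 2, 0] (Cert.fail)),
  (1, Cert.step [6, 1, 0, 1, 0, 5, 1, 6, 2, 3] (Cert.fail)),
  (1, Cert.step [0, 1, 2, 3, 5, 1, 2, 3, 0, 1, 0, 1, 2, 0, 1] (Cert.fail)),
  (1, Cert.step [2, 1, 0, 5, 1, 0, 1, 5, 2] (Cert.fail)),
  (1, Cert.step [1, 0, 1, 0, 2, 1, 3, 2, 5, 3, 1, 0, 1, 2, 0, 1] (Cert.fail)),
  (1, Cert.step [1, 2, 3, 2, 5, 1, 0, 2, 3, 2, 1, 5, 0, 1, 2, 1] (Cert.fail)),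
  (1, Cert.fail),
  (1, Cert.step [6, 1, 2, 3, 4, 5, 1, 2, 3, 2, 1, 5, 4, 3, 2, 1, 6] (Cert.fail)),
  (1, Cert.step [1, 6, 5, 1, 0, 2, 1, 3, 2, 6, 1, 0, 1, 2, 3, 2, 1, 6, 5, 3, 4, 2, 1] (Cert.step [4, 3, 2, 3, 4, 5, 6, 1, 2, 5, 3, 1, 2, 3, 1, 0, 1, 2, 0, 1, 6, 3, 4, 2] (Cert.fail))),
  (1, Cert.step [1, 2, 3, 2, 5, 1, 0, 2, 3, 1, 2, 3, 0, 1, 2] (Cert.fail)),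
  (1, Cert.step [2, 3, 2, 1, 5, 3, 0, 1, 0, 1] (Cert.fail)),
  (1, Cert.step [0, 1, 2, 3, 2, 4, 5, 1, 2, 3, 4, 3, 0, 1, 2, 3, 0, 1, 2] (Cert.fail)),
  (1, Cert.step [0, 2, 6, 1, 2, 3, 2, 5, 1, 0, 2, 3, 1, 2, 0, 1, 6, 3, 4] (Cert.fail)),
  (1, Cert.step [5, 4, 3] (Cert.fail)),
  (1, Cert.step [1, 2, 1, 3, 2, 5, 1, 0, 1, 2, 3, 1, 2, 3, 4, 2, 3, 1] (Cert.fail)),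
  (1, Cert.step [6, 1, 2, 3, 4, 5, 1, 2, 3, 2, 1, 5, 4, 3, 2, 1, 6, 5] (Cert.fail)),
  (1, Cert.step [0, 1, 2, 3, 5, 1, 0, 2, 3, 4, 1, 0, 1, 2, 0, 1] (Cert.fail)),
  (1, Cert.step [2, 6, 1, 2, 3, 2, 5, 1, 2, 3, 0, 1, 2, 0, 1, 6] (Cert.fail)),
  (1, Cert.step [1, 2, 1, 3, 5, 1, 2, 3, 2, 1, 0, 1, 2, 3, 0, 1] (Cert.fail)),
  (1, Cert.step [0, 2, 1, 0, 3, 2, 1, 3, 2, 0, 1, 5, 2, 3, 1, 2, 1] (Cert.fail)),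
  (1, Cert.step [1, 0, 1, 2, 3, 5, 1, 2, 0, 1, 5, 2, 3, 4, 2, 1] (Cert.fail)),
  (1, Cert.step [0, 1, 2, 3, 2, 1, 0, 1, 0, 2, 3, 1, 2, 3, 1, 0, 1, 2] (Cert.fail)),
  (1, Cert.step [0, 2, 1, 0, 1, 2, 3, 2, 5, 3, 2, 3, 1, 2, 3, 1] (Cert.fail)),
  (1, Cert.step [2, 1, 3, 2, 3, 5, 1, 2, 3, 1, 0, 1, 2, 3, 0, 1, 0] (Cert.fail)),
  (1, Cert.fail),
  (1, Cert.step [1, 0, 1, 5, 0, 1, 0] (Cert.fail)),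
  (1, Cert.step [0, 2, 1, 3, 2, 3, 4, 5, 1, 2, 3, 4, 2, 3, 2, 1, 5, 2, 1] (Cert.fail)),
  (1, Cert.step [2, 1, 0, 3, 2, 1, 0, 3, 1, 2, 0, 1, 5, 3, 2, 1, 0] (Cert.fail)),
  (1, Cert.step [1, 0, 2, 5, 1, 2, 3, 2, 0, 1, 2, 3, 2, 1, 5, 1, 0] (Cert.fail)),
  (1, Cert.fail),
  (1, Cert.step [1, 2, 3, 6, 1, 5, 1, 2, 3, 6, 1, 2, 0, 1, 0, 1, 2, 3, 2, 1, 6, 1, 5, 4] (Cert.fail)),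
  (1, Cert.fail),
  (1, Cert.step [2, 3, 6, 1, 2, 3, 2, 5, 1, 2, 3, 0, 1, 2, 0, 1, 6, 4, 0] (Cert.fail)),
  (1, Cert.step [1, 2, 3, 4, 5, 1, 0, 2, 3, 4, 2, 3, 2, 1, 5, 2, 3, 1] (Cert.fail)),
  (1, Cert.step [0, 2, 1, 0, 1, 5, 3, 0, 1, 2] (Cert.fail)),
  (1, Cert.step [2, 6, 1, 0, 2, 3, 2, 4, 3, 5, 1, 0, 2, 3, 4, 3, 2, 3, 4, 1, 2, 3, 2, 1, 0, 1, 6] (Cert.fail)),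
  (1, Cert.fail),
  (1, Cert.step [0, 6, 1, 2, 3, 4, 5, 1, 2, 3, 2, 1, 5, 4, 3, 2, 1, 6, 3] (Cert.fail)),
  (1, Cert.step [1, 2, 3, 2, 1, 0, 1, 2, 3, 0, 1, 2, 1, 0, 1] (Cert.fail)),
  (1, Cert.step [1, 6, 5, 1, 6, 5, 1, 2, 3, 2, 1, 0, 6, 1, 0, 1, 2, 3, 2, 1, 6, 5, 1] (Cert.fail)),
  (1, Cert.step [0, 1, 0, 2, 1, 0, 3, 2, 3, 1, 5, 2, 3, 0, 1, 2, 3, 1] (Cert.fail)),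
  (1, Cert.step [5, 6, 1, 2, 3, 4, 5, 1, 2, 3, 2, 1, 5, 4, 3, 2, 1, 6, 3] (Cert.fail)),
  (1, Cert.step [0, 1, 0, 5, 4, 1, 0, 1] (Cert.fail)),
  (1, Cert.step [1, 0, 2, 1, 0, 3, 2, 3, 1, 5, 2, 3, 4, 0, 1, 2, 1] (Cert.fail)),
  (1, Cert.step [0, 2, 3, 2, 1, 4, 3, 2, 1, 3, 5, 1, 2, 3, 4, 3, 2, 3, 1, 2, 0, 1, 0, 1] (Cert.fail)),
  (1, Cert.fail),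
  (1, Cert.step [4, 3, 2] (Cert.fail)),
  (1, Cert.step [0, 2, 1, 3, 2, 3, 2, 5, 1, 2, 3, 0, 1, 2, 0, 1] (Cert.fail)),
  (1, Cert.step [1, 0, 1, 0, 1, 5, 1] (Cert.fail)),
  (1, Cert.step [0, 1, 2, 1, 0, 3, 5, 1, 0, 2, 1, 0, 1, 2, 3, 4, 2, 3, 1] (Cert.fail)),
  (1, Cert.step [5, 4] (Cert.fail)),
  (1, Cert.fail),
  (1, Cert.step [1, 2, 1, 3, 4, 5, 1, 2, 3, 2, 1, 5, 3, 4, 3, 2, 3, 1] (Cert.fail)),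
  (1, Cert.step [2] (Cert.fail)),
  (1, Cert.step [2, 1, 5, 6, 1, 2, 3, 2, 1, 0, 1, 6, 0, 1, 5, 2, 3, 2, 1, 6, 5, 1] (Cert.step [1, 2, 1, 3, 2, 1, 0, 4, 1, 2, 3, 4, 2, 1, 0, 1, 2, 3, 2, 1] (Cert.fail))),
  (1, Cert.step [1, 0, 2, 1, 0, 5, 1, 2, 3, 2, 5, 1, 0, 1, 2, 3, 2, 3, 4, 1] (Cert.fail)),
  (1, Cert.step [0, 2, 6, 1, 2, 3, 2, 5, 1, 0, 2, 3, 1, 2, 0, 1, 6, 4, 3, 0] (Cert.fail)),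
  (1, Cert.step [0, 1, 2, 1, 0, 1, 0, 3, 2, 1, 5, 2, 3, 2, 3, 1, 2, 0] (Cert.fail)),
  (1, Cert.step [1, 0, 2, 5, 1, 2, 3, 2, 0, 1, 5, 2, 3, 2, 1] (Cert.fail)),
  (1, Cert.step [2, 5, 1, 0, 1, 5, 3, 0, 1] (Cert.fail)),
  (1, Cert.step [5, 6, 1, 2, 3, 2, 5, 1, 2, 3, 0, 1, 2, 0, 1, 6, 3] (Cert.fail)),
  (1, Cert.step [1, 2, 1, 3, 2, 3, 5, 1, 2, 3, 2, 1, 5, 3, 4, 2, 0, 1, 0] (Cert.fail)),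
  (1, Cert.step [1, 4, 3, 2, 3, 2, 1, 0, 4, 5, 1, 2, 3, 2, 1, 5, 4, 0, 1, 2, 3, 1, 2, 1, 0] (Cert.fail)),
  (1, Cert.step [2, 6, 1, 0, 2, 3, 2, 4, 3, 5, 1, 0, 2, 3, 4, 3, 2, 3, 4, 1, 2, 3, 2, 1, 0, 1, 6, 2] (Cert.fail)),
  (1, Cert.step [1, 2, 3, 5, 1, 0, 2, 3, 1, 0, 1, 2, 3, 0, 1] (Cert.fail)),
  (1, Cert.step [6, 1, 2, 3, 2, 5, 1, 0, 2, 3, 1, 2, 0, 1, 6, 3, 2] (Cert.fail)),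
  (1, Cert.step [2, 1, 0, 5, 3, 1, 0, 1, 2] (Cert.fail)),
  (1, Cert.fail),
  (1, Cert.step [1, 2, 1, 3, 2, 5, 1, 0, 2, 3, 1, 2, 0, 1, 5, 3] (Cert.fail)),
  (1, Cert.step [0, 1, 2, 1, 3, 2, 5, 1, 0, 2, 3, 1, 2, 3, 4, 0, 1] (Cert.fail)),
  (1, Cert.step [1, 2, 1, 0, 3, 2, 5, 1, 2, 3, 2, 1, 5, 3, 4, 2, 0, 1, 0] (Cert.fail)),
  (1, Cert.step [0, 1, 2, 3, 5, 1, 0, 2, 1, 3, 0, 1, 2, 3, 0, 1, 2] (Cert.fail)),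
  (1, Cert.fail),
  (1, Cert.step [2, 6, 1, 2, 3, 2, 5, 1, 0, 2, 3, 1, 2, 0, 1, 6, 3, 4] (Cert.fail)),
  (1, Cert.step [1, 0, 5, 1, 0, 1, 2] (Cert.fail)),
  (1, Cert.step [0, 1, 2, 3, 4, 5, 1, 2, 3, 4, 2, 3, 1, 2, 0, 1, 0, 1] (Cert.fail)),
  (1, Cert.step [1, 0, 2, 5, 1, 0, 2, 3, 1, 2, 0, 1, 5, 3, 2, 1] (Cert.fail)),
  (1, Cert.step [6, 1, 2, 3, 4, 5, 1, 2, 3, 4, 2, 3, 2, 1, 5, 2, 1, 6, 2] (Cert.fail)),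
  (1, Cert.step [1, 2, 3, 5, 1, 0, 2, 1, 3, 0, 1, 2, 0, 1, 5, 3] (Cert.fail)),
  (1, Cert.step [1, 2, 3, 4, 5, 1, 2, 3, 6, 1, 2, 5, 1, 0, 1, 6, 2, 1, 0, 1, 6, 3, 4, 3, 2, 1, 0] (Cert.fail)),
  (1, Cert.fail),
  (1, Cert.step [1, 2, 3, 2, 1, 0, 1, 2, 3, 0, 1, 2, 1, 0, 1, 5, 0] (Cert.step [4, 3, 2, 1, 0, 1, 5, 3, 0, 1, 2, 3, 4] (Cert.fail))),
  (1, Cert.step [1, 0, 2, 1, 0, 1, 3, 5, 2, 3, 1, 2, 0, 1, 0, 1] (Cert.fail)),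
  (1, Cert.step [2, 1, 0, 5, 1, 0, 1, 0] (Cert.fail)),
  (1, Cert.step [4, 6, 1, 2, 3, 4, 5, 1, 2, 3, 2, 1, 5, 4, 3, 2, 1, 6, 0] (Cert.fail)),
  (1, Cert.step [6, 1, 0, 2, 1, 0, 5, 1, 2, 3, 2, 5, 1, 0, 1, 2, 3, 2, 1, 6, 3, 4] (Cert.fail)),
  (1, Cert.step [1, 2, 3, 4, 3, 2, 1, 0, 5, 1, 2, 3, 2, 1, 5, 4, 0, 1, 2, 3, 2, 3, 1, 2, 0] (Cert.fail)),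
  (1, Cert.step [6, 1, 0, 1, 0, 5, 1, 6, 2, 3] (Cert.fail)),
  (1, Cert.step [0, 1, 2, 3, 4, 5, 1, 2, 3, 2, 1, 5, 4, 3, 1, 2, 1] (Cert.fail)),
  (1, Cert.step [2, 5, 6, 1, 2, 3, 2, 1, 3, 2, 3, 1, 0, 1, 5, 2, 3, 2, 0, 1, 6, 2] (Cert.fail)),
  (1, Cert.step [1, 0, 1, 4, 5, 3, 0, 1, 0] (Cert.fail)),
  (1, Cert.step [0, 1, 2, 3, 5, 1, 2, 3, 1, 0, 1, 2, 0, 1] (Cert.fail)),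
  (1, Cert.fail),
  (1, Cert.step [2, 3, 2, 0] (Cert.fail)),
  (1, Cert.step [0, 1, 0, 5, 1, 2, 0, 1, 2, 3, 4, 1] (Cert.fail)),
  (1, Cert.step [6, 1, 0, 2, 1, 0, 1, 3, 5, 2, 3, 1, 2, 0, 1, 0, 1, 6] (Cert.fail)),
  (1, Cert.step [2, 6, 1, 2, 3, 2, 5, 1, 0, 2, 3, 1, 2, 0, 1, 6, 4, 3, 0] (Cert.fail)),
  (1, Cert.step [0, 6, 1, 2, 3, 4, 5, 1, 0, 2, 3, 2, 1, 5, 4, 3, 2, 1, 6, 5] (Cert.fail)),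
  (1, Cert.step [1, 2, 3, 2, 1, 5, 1, 0, 1, 2, 3, 0, 1, 5, 2, 3, 0, 1, 2, 3, 2, 1] (Cert.fail)),
  (1, Cert.step [1, 2, 3, 5, 1, 0, 2, 1, 3, 0, 1, 2, 3, 0, 1, 2] (Cert.fail)),
  (1, Cert.step [1, 2, 1, 3, 5, 1, 2, 3, 1, 0, 1, 2, 0, 1, 5] (Cert.fail)),
  (2, Cert.fail),
  (1, Cert.step [1, 0, 1, 2, 3, 2, 1, 0, 4, 5, 1, 2, 3, 4, 1, 2, 3, 2, 1, 5, 3, 4, 0, 1, 2, 3, 2, 1] (Cert.fail)),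
  (1, Cert.step [2, 6, 1, 0, 1, 2, 3, 2, 3, 5, 2, 3, 2, 1, 6, 2, 3, 2] (Cert.fail)),
  (1, Cert.step [1, 2, 3, 6, 5, 1, 2, 6, 1, 5, 1, 6, 3, 2, 1, 5, 3, 2, 1, 6, 4, 3, 1] (Cert.fail)),
  (1, Cert.step [1, 0, 2, 1, 3, 2, 1, 3, 4, 5, 1, 0, 1, 2, 3, 2, 0, 1, 5, 4, 1, 0, 1, 2, 3, 2, 1, 0] (Cert.fail)),
  (1, Cert.step [1, 2, 1, 3, 2, 5, 1, 0, 2, 3, 1, 2, 3, 4, 0, 1] (Cert.fail)),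
  (1, Cert.step [1, 2, 1, 3, 4, 5, 1, 2, 3, 2, 1, 5, 4, 3, 2, 3, 1, 2] (Cert.fail)),
  (1, Cert.step [5, 6, 1, 2, 3, 4, 5, 1, 2, 3, 2, 1, 5, 4, 3, 2, 1, 6, 3] (Cert.fail)),
  (1, Cert.step [1, 6, 5, 1, 6, 5, 1, 2, 3, 2, 1, 0, 6, 1, 0, 1, 2, 3, 2, 1, 6, 5, 1] (Cert.fail)),
  (1, Cert.fail),
  (1, Cert.step [0, 1, 2, 1, 0, 3, 2, 4, 3, 5, 1, 0, 2, 3, 4, 3, 2, 3, 4, 1, 2, 3, 2, 1, 0, 1, 0] (Cert.fail)),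
  (1, Cert.fail),
  (1, Cert.step [1, 2, 1, 0, 5, 1, 2, 3, 2, 0, 1, 5, 2, 3, 2, 1] (Cert.fail)),
  (1, Cert.step [3, 2, 3, 5, 1, 0, 1, 2, 3, 5, 1, 0, 1, 2, 3, 4, 3, 2, 3, 0, 1, 0, 1, 2, 3, 0, 1] (Cert.fail)),
  (3, Cert.fail),
  (1, Cert.step [1, 6, 1, 2, 3, 5, 1, 2, 3, 6, 5, 1, 5, 6, 2, 1, 5, 6, 3, 2, 3, 4, 1] (Cert.fail)),
  (1, Cert.step [6, 1, 0, 2, 5, 1, 0, 2, 3, 1, 2, 0, 1, 5, 3, 2, 1, 6] (Cert.step [3, 4, 3, 2, 1, 3, 4, 5, 2, 3, 1, 2, 3, 4, 2, 1, 0, 1, 2, 0, 1] (Cert.fail))),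
  (1, Cert.step [1, 2, 1, 0, 3, 2, 5, 1, 2, 3, 2, 1, 5, 3, 4, 2, 0, 1, 0] (Cert.fail)),
  (1, Cert.fail),
  (1, Cert.step [0, 1, 2, 1, 3, 2, 1, 0, 1, 3, 2, 0, 1, 5, 3, 2, 3, 2, 1] (Cert.fail)),
  (1, Cert.step [1, 2, 5, 1, 0, 1, 5, 4, 2, 1] (Cert.fail)),
  (1, Cert.step [1, 0, 1, 2, 3, 2, 1, 0, 5, 1, 2, 1, 0, 1, 5, 3, 0, 1, 2, 3, 1, 2, 1] (Cert.fail)),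
  (1, Cert.step [0, 1, 2, 3, 5, 1, 0, 2, 1, 3, 0, 1, 2, 3, 4, 0, 1] (Cert.fail)),
  (1, Cert.step [1, 0, 2, 3, 2, 5, 1, 2, 3, 2, 3, 1, 2, 0, 1, 5, 4, 1] (Cert.fail)),
  (1, Cert.fail),
  (1, Cert.step [1, 2, 3, 5, 1, 0, 2, 1, 3, 2, 0, 1, 5, 2, 0, 1] (Cert.fail)),
  (1, Cert.step [1, 0, 2, 5, 1, 0, 2, 1, 6, 5, 6, 3, 2, 1, 5, 3, 2, 1] (Cert.step [1, 4, 3, 2, 1, 3, 5, 1, 2, 3, 2, 1, 0, 4, 1, 2, 0, 1] (Cert.fail))),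
  (2, Cert.fail),
  (1, Cert.step [2, 1, 3, 2, 3, 2, 1, 0, 1, 5, 2, 3, 2, 1, 5, 0, 1, 2, 0, 1] (Cert.fail)),
  (1, Cert.step [4, 3, 6, 1, 2, 3, 2, 1, 0, 4, 5, 1, 2, 3, 2, 1, 5, 4, 0, 1, 2, 3, 2, 1, 6, 5] (Cert.fail)),
  (1, Cert.step [1, 0, 2, 6, 1, 0, 1, 2, 3, 2, 3, 5, 1, 0, 2, 1, 6, 0, 1, 5, 2, 3, 2, 1, 6, 4, 3, 1] (Cert.fail)),
  (1, Cert.step [1, 0, 2, 1, 0, 1, 3, 2, 3, 2, 1, 5, 2, 3, 1] (Cert.fail)),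
  (1, Cert.step [6, 1, 0, 2, 1, 0, 3, 2, 1, 5, 2, 3, 2, 1, 6, 3, 4] (Cert.fail)),
  (1, Cert.step [1, 2, 1, 3, 5, 1, 2, 3, 1, 0, 1, 2, 0, 1, 5] (Cert.fail)),
  (1, Cert.step [2, 3, 1, 2, 3, 2, 4, 3, 5, 1, 2, 3, 4, 2, 3, 4, 0, 1, 2, 3, 2, 1, 0, 1, 2] (Cert.step [1, 0, 1, 0, 2, 1, 3, 2, 3, 2, 4, 3, 2, 3, 4, 1, 2, 3, 2, 1, 0, 1, 5, 1, 2, 3, 4, 1] (Cert.fail))),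
  (1, Cert.step [2, 3, 1, 5, 1, 2, 3, 2, 1, 4, 3, 2, 3, 4, 2, 3, 4, 0, 1, 2, 3, 2, 1, 0, 1, 2] (Cert.fail)),
  (1, Cert.step [2, 1, 3, 2, 5, 1, 0, 1, 5, 1, 2, 1] (Cert.fail)),
  (1, Cert.step [1, 2, 3, 4, 5, 1, 2, 3, 2, 1, 5, 4, 3, 2, 1] (Cert.fail)),
  (1, Cert.step [0, 1, 2, 3, 5, 1, 2, 3, 1, 0, 1, 2, 0, 1] (Cert.fail)),
  (1, Cert.step [1, 2, 3, 2, 1, 0, 1, 2, 3, 0, 1, 2, 1, 0, 1, 5] (Cert.fail)),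
  (1, Cert.step [1, 2, 3, 2, 5, 1, 0, 2, 1, 5, 3, 2, 1, 0, 1, 0] (Cert.fail)),
  (1, Cert.step [0, 1, 2, 1, 3, 2, 5, 1, 0, 2, 1, 5, 3, 2, 1, 0, 1] (Cert.fail)),
  (1, Cert.step [2, 6, 1, 2, 3, 4, 5, 1, 2, 3, 2, 1, 5, 4, 3, 2, 1, 6, 5] (Cert.fail)),
  (1, Cert.step [6, 1, 2, 3, 2, 5, 1, 2, 3, 0, 1, 2, 0, 1, 6, 2] (Cert.fail)),
  (1, Cert.step [2, 1, 5, 6, 1, 2, 3, 2, 1, 0, 1, 6, 0, 1, 5, 2, 3, 2, 1, 6, 5, 1] (Cert.fail)),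
  (1, Cert.step [5, 1, 0, 1, 5, 0, 1, 2] (Cert.fail)),
  (1, Cert.step [1, 0, 2, 6, 1, 0, 1, 2, 3, 2, 3, 5, 1, 0, 2, 1, 6, 0, 1, 5, 2, 3, 2, 1, 6, 4, 3, 1] (Cert.fail)),
  (1, Cert.step [1, 2, 5, 1, 2, 3, 2, 4, 3, 2, 1, 5, 4, 3, 2, 3, 4, 1] (Cert.fail)),
  (1, Cert.step [6, 1, 2, 3, 2, 5, 1, 0, 2, 3, 2, 1, 5, 2, 0, 1, 6] (Cert.fail)),
  (1, Cert.step [1, 0, 2, 1, 3, 2, 1, 3, 4, 5, 1, 0, 1, 2, 3, 2, 0, 1, 5, 4, 1, 0, 1, 2, 3, 2, 1] (Cert.fail)),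
  (1, Cert.step [6, 1, 0, 2, 1, 0, 3, 2, 1, 5, 2, 3, 2, 1, 6, 2] (Cert.fail)),
  (1, Cert.step [1, 0, 1, 2, 1, 0, 4, 3, 2, 5, 1, 2, 3, 4, 2, 3, 2, 1, 5, 0, 1, 2, 3, 2, 1, 0] (Cert.fail)),
  (1, Cert.step [2, 1, 3, 2, 3, 2, 1, 0, 1, 2, 3, 0, 1, 2, 1, 0, 1] (Cert.fail)),
  (1, Cert.fail),
  (1, Cert.step [6, 1, 2, 3, 4, 5, 1, 0, 2, 3, 2, 1, 5, 4, 3, 2, 1, 6, 2] (Cert.fail)),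
  (1, Cert.step [1, 2, 3, 4, 5, 1, 2, 3, 6, 1, 2, 5, 1, 0, 1, 6, 2, 1, 0, 1, 6, 4, 3, 1, 2, 3, 1, 0] (Cert.fail)),
  (1, Cert.step [6, 1, 0, 2, 1, 0, 1, 2, 3, 2, 1, 5, 3, 2, 1, 6] (Cert.fail)),
  (1, Cert.step [0, 1, 0, 1, 2, 1, 3, 2, 0, 1, 0, 1, 2, 3, 2, 3, 1] (Cert.fail)),
  (1, Cert.step [1, 2, 1, 3, 2, 5, 1, 0, 2, 3, 1, 2, 3, 4, 0, 1] (Cert.fail)),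
  (1, Cert.step [1, 2, 3, 5, 1, 0, 2, 1, 0, 1, 5, 3, 2, 1, 0, 1] (Cert.fail)),
  (1, Cert.fail),
  (1, Cert.step [1, 0, 2, 1, 0, 1, 3, 2, 3, 1, 2, 0, 1, 0, 1, 0] (Cert.fail)),
  (1, Cert.fail),
  (1, Cert.step [2, 1, 0, 1, 3, 2, 1, 0, 1, 0, 1, 5, 0, 1, 2, 1] (Cert.fail)),
  (2, Cert.fail),
  (1, Cert.step [6, 1, 0, 2, 1, 0, 3, 2, 1, 5, 2, 3, 2, 1, 6, 3, 2] (Cert.fail)),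
  (1, Cert.step [5, 4] (Cert.fail)),
  (1, Cert.step [3, 2, 1, 0, 1, 3, 2, 3, 5, 1, 0, 1, 2, 3, 4, 3, 2, 3, 2, 1, 0, 1, 2, 3, 0, 1] (Cert.step [3, 4, 3, 2, 3, 5, 6, 1, 2, 5, 4, 3, 1, 2, 3, 2, 1, 0, 1, 2, 0, 1, 6, 4] (Cert.fail))),
  (1, Cert.fail),
  (1, Cert.step [6, 1, 2, 3, 5, 1, 2, 3, 2, 1, 0, 1, 2, 0, 1, 6, 4] (Cert.fail)),
  (1, Cert.step [2, 1, 3, 2, 3, 5, 1, 2, 3, 1, 0, 1, 2, 0, 1, 0] (Cert.fail)),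
  (2, Cert.fail),
  (1, Cert.step [1, 0, 1, 0, 2, 1, 3, 2, 6, 1, 5, 0, 1, 0, 1, 6, 1, 5, 3, 2, 3, 1] (Cert.fail)),
  (1, Cert.step [1, 2, 1, 3, 4, 5, 1, 2, 3, 4, 2, 3, 2, 1, 5, 2, 3, 1] (Cert.fail)),
  (1, Cert.step [2, 1, 0, 3, 2, 1, 3, 2, 0, 1, 5, 2, 3, 2, 1] (Cert.fail)),
  (1, Cert.step [1, 0, 1, 2, 1, 0, 3, 2, 1, 0, 1, 2, 3, 2, 1] (Cert.fail)),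
  (1, Cert.fail),
  (1, Cert.step [1, 2, 1, 3, 2, 5, 1, 2, 6, 1, 0, 1, 5, 0, 1, 6, 3, 4, 2, 1, 0, 1] (Cert.fail)),
  (1, Cert.step [1, 5, 1, 2, 3, 2, 1, 0, 2, 1, 5, 3, 2, 1, 0, 1] (Cert.fail)),
  (1, Cert.step [2, 1, 0, 1, 5, 0, 1, 0] (Cert.fail)),
  (1, Cert.step [1, 0, 5, 4, 3, 1, 0, 1] (Cert.fail)),
  (2, Cert.fail),
  (1, Cert.step [1, 2, 1, 3, 5, 1, 0, 2, 3, 4, 1, 0, 1, 2, 0, 1] (Cert.fail)),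
  (1, Cert.fail),
  (1, Cert.step [2, 1, 0, 5, 3, 1, 0, 1, 2] (Cert.fail)),
  (1, Cert.step [0, 1, 2, 1, 3, 2, 5, 1, 0, 2, 3, 1, 2, 3, 4, 0, 1, 0] (Cert.fail)),
  (1, Cert.step [0, 2, 6, 1, 2, 3, 2, 3, 5, 1, 2, 3, 2, 1, 5, 3, 2, 0, 1, 6, 4] (Cert.fail)),
  (1, Cert.step [0, 1, 0, 2, 1, 3, 2, 1, 0, 1, 3, 2, 3, 0, 1, 2, 3, 2, 1, 5] (Cert.fail)),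
  (1, Cert.step [0, 1, 0, 2, 1, 0, 5, 1, 2, 3, 2, 5, 1, 0, 1, 2, 3, 2, 3, 4, 1] (Cert.fail)),
  (1, Cert.fail),
  (1, Cert.step [0, 1, 2, 3, 2, 4, 5, 1, 2, 3, 4, 3, 0, 1, 2, 3, 0, 1, 2] (Cert.fail)),
  (2, Cert.fail),
  (1, Cert.step [1, 0, 1, 2, 3, 5, 1, 2, 0, 1, 5, 2, 3, 2, 1] (Cert.fail)),
  (1, Cert.step [1, 2, 1, 0, 1, 0, 3, 2, 1, 5, 2, 3, 1, 2, 3, 1, 0] (Cert.fail)),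
  (3, Cert.fail),
  (1, Cert.step [2, 5, 6, 1, 2, 3, 2, 5, 1, 2, 3, 0, 1, 2, 0, 1, 6, 3] (Cert.step [1, 0, 4, 2, 3, 1, 2, 3, 0, 1, 2, 3, 4, 2, 1, 0, 1] (Cert.step [0, 1, 0, 3, 2, 1, 4, 3, 2, 1, 0, 3, 1, 2, 3, 0, 1, 2, 3, 4, 2, 3, 1] (Cert.done [0, 1, 2, 1, 3, 4, 5, 0, 1, 2, 1, 3, 4, 5, 0, 1, 2, 1, 3, 4, 5, 0, 1, 2, 1, 3, 4, 5, 0, 1, 2, 1, 3, 4, 5, 0, 1, 2, 1, 3, 4, 5, 0, 1, 2, 1, 3, 4, 5, 0, 1, 2, 1, 3, 4, 5, 0, 1, 2, 1, 3, 4, 5])))),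
  (1, Cert.step [0, 6, 1, 2, 3, 4, 5, 1, 2, 3, 6, 5, 6, 2, 1, 5, 4, 3, 2, 1, 6, 3] (Cert.fail)),
  (1, Cert.fail),
  (1, Cert.step [5, 6, 1, 2, 3, 2, 5, 1, 0, 1, 2, 3, 1, 2, 3, 2, 1, 6, 4, 3] (Cert.fail)),
  (1, Cert.step [1, 5, 1, 2, 3, 2, 1, 4, 3, 2, 1, 3, 2, 1, 2, 3, 4, 2, 3, 1, 2, 3, 4, 1, 2, 1] (Cert.fail)),
  (1, Cert.fail),
  (1, Cert.step [1, 2, 3, 5, 1, 0, 2, 1, 3, 4, 0, 1, 2, 3, 0, 1] (Cert.fail)),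
  (1, Cert.fail),
  (1, Cert.step [1, 2, 3, 5, 1, 0, 2, 1, 3, 0, 1, 2, 3, 0, 1, 2] (Cert.fail)),
  (1, Cert.step [1, 0, 2, 1, 0, 1, 0, 3, 2, 1, 5, 3, 1, 2, 3, 1] (Cert.fail)),
  (1, Cert.step [0, 1, 0, 2, 1, 3, 2, 1, 0, 5, 1, 0, 3, 2, 1, 5, 2, 3, 4, 1, 2, 0, 1] (Cert.fail)),
  (1, Cert.step [1, 0, 1, 0, 5, 1, 2, 3, 0] (Cert.fail)),
  (1, Cert.step [2, 1, 3, 2, 3, 5, 1, 2, 3, 1, 0, 1, 2, 0, 1, 0] (Cert.step [4, 3, 2, 1, 0, 1, 5, 0, 1, 2, 3, 4, 3] (Cert.fail))),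
  (1, Cert.step [2, 1, 5, 6, 1, 2, 3, 2, 1, 0, 1, 6, 0, 1, 5, 2, 3, 2, 1, 6, 5, 3, 1] (Cert.step [4, 3, 2, 1, 0, 1, 5, 0, 1, 2, 3, 4] (Cert.fail))),
  (1, Cert.step [1, 2, 3, 5, 1, 2, 3, 1, 0, 1, 2, 0, 1, 0] (Cert.fail)),
  (1, Cert.step [1, 0, 2, 3, 2, 5, 1, 2, 3, 2, 1, 5, 3, 4, 2, 0, 1, 0] (Cert.fail)),
  (1, Cert.step [0, 1, 2, 1, 3, 2, 4, 3, 5, 1, 2, 3, 2, 3, 4, 2, 3, 1, 2, 3, 0, 1, 2] (Cert.fail)),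
  (1, Cert.step [1, 0, 5, 1, 0, 1, 5] (Cert.fail)),
  (1, Cert.step [1, 2, 6, 1, 5, 1, 2, 3, 2, 3, 6, 1, 2, 3, 0, 1, 2, 0, 1, 6, 2, 1] (Cert.fail)),
  (1, Cert.step [0, 1, 0, 2, 1, 3, 2, 1, 0, 5, 1, 0, 3, 2, 1, 5, 2, 3, 4, 1, 2, 0, 1] (Cert.fail)),
  (1, Cert.step [0, 1, 0, 2, 1, 3, 2, 5, 1, 2, 3, 2, 1, 5, 2, 3, 1, 2, 3, 2, 1, 5, 4] (Cert.fail)),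
  (1, Cert.step [0, 6, 1, 2, 3, 2, 5, 1, 2, 3, 0, 1, 2, 0, 1, 6, 4] (Cert.fail)),
  (1, Cert.step [1, 2, 3, 5, 1, 2, 3, 2, 1, 0, 1, 2, 0, 1] (Cert.step [] (Cert.fail))),
  (1, Cert.step [6, 1, 0, 2, 1, 0, 3, 2, 1, 5, 2, 3, 2, 1, 6, 2, 3] (Cert.fail)),
  (1, Cert.step [0, 1, 2, 3, 4, 5, 1, 2, 3, 6, 1, 5, 6, 4, 3, 2, 1, 6, 0, 1, 2, 0, 1, 6, 3] (Cert.fail)),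
  (1, Cert.step [1, 2, 1, 3, 5, 1, 2, 3, 4, 1, 0, 1, 2, 0, 1] (Cert.fail)),
  (1, Cert.step [2, 1, 0, 3, 5, 1, 0, 1, 2, 0] (Cert.fail)),
  (1, Cert.step [6, 1, 0, 2, 1, 0, 3, 2, 1, 5, 2, 3, 2, 1, 6, 4, 3] (Cert.fail)),
  (1, Cert.step [1, 0, 1, 2, 1, 3, 2, 5, 1, 0, 1, 5, 3, 0, 1, 2, 3, 4, 1, 2, 0, 1] (Cert.fail)),
  (1, Cert.step [6, 1, 2, 3, 2, 5, 1, 0, 2, 3, 2, 1, 5, 2, 0, 1, 6] (Cert.fail)),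
  (1, Cert.fail),
  (1, Cert.step [2, 5, 1, 0, 1, 5, 0, 1] (Cert.fail)),
  (1, Cert.step [1, 2, 3, 2, 5, 1, 0, 2, 3, 4, 1, 2, 3, 0, 1] (Cert.fail)),
  (1, Cert.step [0, 1, 0, 2, 1, 0, 5, 1, 2, 3, 2, 5, 1, 0, 1, 2, 3, 2, 3, 4, 1] (Cert.fail)),
  (1, Cert.step [6, 1, 2, 3, 5, 1, 0, 2, 1, 3, 2, 0, 1, 5, 2, 0, 1, 6] (Cert.fail)),
  (1, Cert.fail),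
  (1, Cert.step [1, 0, 1, 2, 1, 3, 2, 3, 5, 1, 0, 1, 5, 0, 1, 2, 3, 1, 2, 0, 1, 0] (Cert.fail)),
  (1, Cert.step [1, 2, 3, 2, 1, 5, 1, 0, 1, 2, 3, 0, 1, 5, 2, 3, 0, 1, 2, 3, 2, 1] (Cert.fail)),
  (1, Cert.step [1, 0, 2, 1, 0, 1, 0, 3, 2, 1, 5, 3, 1, 2, 3, 1] (Cert.fail)),
  (1, Cert.step [2, 3, 6, 1, 2, 3, 4, 5, 1, 2, 3, 2, 1, 5, 4, 3, 2, 1, 6, 5] (Cert.step [3, 2, 3, 4, 3, 2, 0] (Cert.step [] (Cert.done [0, 1, 2, 1, 3, 4, 5, 0, 1, 2, 1, 3, 4, 5, 0, 1, 2, 1, 3, 4, 5, 0, 1, 2, 1, 3, 4, 5, 0, 1, 2, 1, 3, 4, 5, 0, 1, 2, 1, 3, 4, 5, 0, 1, 2, 1, 3, 4, 5])))),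
  (1, Cert.step [1, 2, 6, 1, 5, 1, 2, 3, 2, 3, 6, 1, 2, 3, 0, 1, 2, 0, 1, 6, 2, 1] (Cert.fail)),
  (1, Cert.fail),
  (1, Cert.step [0, 1, 0, 2, 1, 0, 3, 5, 1, 2, 1, 5, 1, 2, 3, 2, 3, 4, 1, 0] (Cert.fail)),
  (1, Cert.fail),
  (1, Cert.step [2, 3, 2, 1, 6, 1, 0, 1, 5, 0, 1, 6, 0, 1] (Cert.fail)),
  (1, Cert.step [2, 6, 1, 2, 3, 2, 5, 1, 2, 3, 0, 1, 2, 0, 1, 5, 6] (Cert.fail)),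
  (1, Cert.step [1, 0, 2, 1, 3, 2, 1, 0, 5, 1, 0, 3, 2, 1, 5, 2, 3, 4, 1, 2, 0, 1] (Cert.fail)),
  (1, Cert.step [6, 1, 0, 2, 1, 0, 3, 2, 1, 5, 2, 3, 2, 1, 6, 5, 3] (Cert.fail)),
  (1, Cert.fail),
  (1, Cert.step [2, 3, 6, 1, 0, 2, 1, 3, 2, 0, 1, 5, 2, 3, 2, 1, 6, 5] (Cert.fail)),
  (1, Cert.step [1, 2, 3, 2, 5, 1, 0, 2, 3, 2, 1, 5, 4, 2, 0, 1] (Cert.fail)),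
  (1, Cert.step [0, 2, 6, 1, 2, 3, 2, 5, 1, 2, 3, 0, 1, 2, 0, 1, 6, 3] (Cert.step [4, 3, 2, 1, 5, 0, 1, 0, 1, 2, 3, 4, 3] (Cert.fail))),
  (1, Cert.step [0, 1, 0, 1, 5, 4, 3, 0, 1] (Cert.fail)),
  (1, Cert.step [1, 2, 1, 3, 2, 1, 0, 3, 5, 1, 0, 1, 2, 1, 5, 3, 2, 3, 4, 1, 2, 0, 1, 0] (Cert.fail)),
  (1, Cert.fail),
  (1, Cert.step [1, 2, 1, 3, 5, 1, 2, 3, 2, 1, 0, 1, 2, 0, 1] (Cert.fail)),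
  (1, Cert.step [1, 2, 1, 3, 5, 1, 0, 2, 3, 1, 0, 1, 2, 3, 0, 1] (Cert.fail)),
  (1, Cert.step [6, 1, 2, 3, 5, 1, 2, 3, 6, 1, 2, 0, 1, 0, 1, 6, 1, 5, 4, 2, 1] (Cert.fail)),
  (1, Cert.step [1, 0, 5, 1, 0, 1, 5] (Cert.fail)),
  (1, Cert.fail),
  (1, Cert.step [1, 0, 5, 1, 0, 1, 2, 3] (Cert.fail)),
  (1, Cert.step [1, 2, 1, 0, 3, 2, 4, 3, 5, 1, 0, 2, 3, 4, 3, 2, 3, 4, 1, 2, 3, 2, 1, 0, 1, 0] (Cert.fail)),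
  (1, Cert.step [1, 0, 2, 1, 0, 1, 3, 2, 3, 2, 1, 5, 2, 1] (Cert.fail)),
  (1, Cert.step [2, 1, 3, 2, 1, 0, 5, 1, 0, 2, 1, 3, 2, 3, 4, 3, 2, 3, 0, 1, 0, 1, 2, 0, 1] (Cert.fail)),
  (1, Cert.step [1, 2, 3, 4, 5, 1, 2, 3, 2, 1, 5, 4, 3, 2, 3, 1, 2] (Cert.fail)),
  (1, Cert.step [4, 6, 5, 1, 2, 3, 2, 1, 0, 4, 5, 1, 2, 3, 2, 1, 5, 4, 0, 1, 2, 3, 2, 1, 6, 3, 2] (Cert.fail)),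
  (1, Cert.fail),
  (1, Cert.step [6, 1, 0, 2, 5, 1, 2, 3, 2, 0, 1, 5, 2, 3, 2, 1, 6, 2] (Cert.fail)),
  (1, Cert.step [0, 1, 0, 1, 2, 1, 3, 2, 3, 5, 1, 0, 1, 5, 0, 1, 2, 3, 1, 2, 0, 1] (Cert.fail)),
  (2, Cert.fail),
  (1, Cert.step [6, 1, 0, 2, 1, 0, 3, 2, 1, 5, 2, 3, 2, 1, 6, 3, 2, 0] (Cert.fail)),
  (1, Cert.step [1, 0, 1, 2, 3, 5, 1, 2, 0, 1, 5, 2, 3, 2, 1, 0] (Cert.fail)),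
  (1, Cert.step [6, 1, 0, 2, 1, 0, 3, 2, 1, 5, 2, 3, 2, 1, 6, 3, 2, 0] (Cert.fail)),
  (1, Cert.step [0, 6, 1, 2, 3, 4, 5, 1, 2, 3, 2, 1, 5, 4, 3, 2, 1, 6, 3, 4] (Cert.step [1, 0, 1, 0, 3, 2, 3, 4, 1, 2, 3, 4, 2, 3, 0, 1, 2, 3, 0, 1, 0, 1] (Cert.fail))),
  (1, Cert.step [4, 6, 1, 2, 3, 4, 5, 1, 2, 3, 2, 1, 5, 4, 3, 2, 1, 6] (Cert.fail)),
  (1, Cert.step [2, 3, 6, 1, 0, 1, 2, 1, 6, 5, 1, 5, 0, 1, 2, 0, 1, 6, 2, 3, 4, 1] (Cert.fail)),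
  (1, Cert.fail),
  (1, Cert.step [0, 6, 1, 2, 3, 5, 1, 2, 6, 1, 5, 6, 3, 2, 1, 6, 4, 0, 1, 2, 3, 0, 1] (Cert.fail)),
  (1, Cert.step [1, 0, 2, 1, 3, 2, 1, 0, 5, 1, 0, 3, 2, 1, 5, 2, 3, 4, 1, 2, 0, 1] (Cert.fail)),
  (1, Cert.step [2, 3, 6, 1, 0, 2, 1, 0, 1, 6, 1, 5, 2, 1, 6, 3, 2, 1, 5, 3, 2, 1] (Cert.fail)),
  (1, Cert.step [2, 3, 6, 1, 2, 3, 4, 5, 1, 2, 3, 2, 1, 5, 4, 3, 2, 1, 6, 4] (Cert.fail)),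
  (1, Cert.step [1, 2, 6, 1, 0, 2, 1, 0, 3, 2, 1, 6, 3, 2, 3, 2, 1, 5, 1, 6, 2, 3, 4, 1] (Cert.fail)),
  (1, Cert.fail),
  (1, Cert.step [2, 6, 1, 0, 2, 3, 2, 5, 1, 0, 3, 2, 3, 1, 2, 0, 1, 6, 3, 2] (Cert.fail)),
  (1, Cert.step [1, 5, 6, 1, 2, 3, 2, 5, 1, 0, 6, 1, 0, 1, 2, 3, 2, 1, 6, 5, 1, 2] (Cert.fail)),
  (1, Cert.step [1, 0, 2, 1, 3, 2, 3, 2, 5, 1, 2, 3, 0, 1, 5, 0, 1, 2, 3, 2, 1, 5, 4] (Cert.fail)),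
  (1, Cert.fail),
  (1, Cert.step [0, 2, 6, 1, 2, 3, 2, 5, 1, 0, 2, 3, 1, 2, 0, 1, 6, 4, 3] (Cert.fail)),
  (1, Cert.step [2, 1, 0, 5, 4, 1, 0, 1, 0] (Cert.fail)),
  (1, Cert.step [1, 2, 1, 3, 2, 4, 3, 2, 5, 1, 2, 3, 2, 1, 2, 3, 4, 2, 3, 1, 2, 3, 2, 1, 5, 2] (Cert.fail)),
  (1, Cert.step [2, 6, 1, 0, 2, 3, 2, 5, 1, 0, 3, 2, 3, 1, 2, 0, 1, 6, 4, 3] (Cert.fail)),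
  (2, Cert.fail),
  (1, Cert.step [1, 2, 3, 5, 1, 0, 2, 1, 3, 0, 1, 2, 3, 0, 1, 2] (Cert.fail)),
  (1, Cert.step [6, 1, 0, 1, 2, 3, 5, 1, 2, 0, 1, 5, 2, 3, 2, 1, 6, 2, 0] (Cert.fail)),
  (1, Cert.fail),
  (1, Cert.step [2, 1, 3, 2, 3, 4, 5, 1, 2, 3, 2, 1, 5, 4, 3, 2, 1, 0] (Cert.fail)),
  (1, Cert.step [2, 1, 3, 2, 5, 1, 2, 0, 1, 5, 2, 1] (Cert.fail)),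
  (1, Cert.fail),
  (1, Cert.step [4] (Cert.fail)),
  (1, Cert.step [1, 2, 1, 3, 5, 1, 2, 3, 1, 0, 1, 2, 3, 0, 1, 0] (Cert.fail)),
  (1, Cert.step [1, 0, 1, 2, 5, 1, 0, 2, 3, 2, 1, 0, 1, 2, 3, 4, 2, 1] (Cert.fail)),
  (1, Cert.step [2, 1, 2, 3, 6, 5, 1, 2, 6, 1, 5, 1, 6, 3, 2, 1, 5, 3, 2, 1, 6, 3, 4, 3, 1] (Cert.fail)),
  (1, Cert.step [1, 2, 1, 3, 2, 5, 1, 0, 2, 3, 2, 1, 5, 2, 0, 1, 0] (Cert.fail)),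
  (1, Cert.step [6, 1, 2, 3, 2, 5, 1, 2, 3, 0, 1, 2, 0, 1, 6, 2] (Cert.fail)),
  (1, Cert.step [1, 2, 3, 2, 1, 0, 1, 2, 5, 3, 2, 1, 5, 0, 1, 0, 1, 2, 1] (Cert.step [3] (Cert.fail))),
  (1, Cert.step [2, 1, 0, 1, 5, 4, 0, 1, 0] (Cert.fail)),
  (1, Cert.step [5, 1, 6, 1, 2, 3, 5, 1, 2, 3, 6, 5, 1, 5, 6, 2, 1, 5, 6, 3, 4, 2, 3, 1] (Cert.fail)),
  (1, Cert.fail),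
  (1, Cert.step [0, 2, 6, 1, 2, 3, 2, 5, 1, 2, 3, 0, 1, 2, 0, 1, 6, 3] (Cert.fail)),
  (1, Cert.step [2, 6, 1, 0, 2, 3, 2, 5, 1, 0, 3, 2, 3, 1, 2, 0, 1, 5, 6, 4] (Cert.fail)),
  (1, Cert.step [2, 1, 3, 2, 1, 0, 5, 1, 0, 2, 1, 3, 2, 3, 4, 3, 2, 3, 0, 1, 0, 1, 2, 0, 1] (Cert.fail)),
  (1, Cert.fail),
  (1, Cert.step [2, 3, 6, 1, 2, 5, 1, 0, 1, 5, 2, 1, 6, 5] (Cert.fail)),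
  (1, Cert.step [5, 6, 1, 2, 3, 5, 1, 2, 6, 5, 6, 3, 1, 0, 1, 2, 0, 1, 6, 4] (Cert.fail)),
  (1, Cert.step [1, 2, 1, 3, 4, 5, 1, 2, 3, 4, 2, 3, 2, 1, 5, 2, 1] (Cert.fail)),
  (1, Cert.step [1, 0, 2, 1, 0, 1, 3, 2, 3, 2, 1, 5, 1, 2, 1] (Cert.fail)),
  (1, Cert.step [0, 1, 0, 1, 0, 5, 1, 2, 3, 2] (Cert.fail)),
  (1, Cert.step [5, 1, 0, 1, 5, 0, 1, 2, 3] (Cert.fail)),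
  (1, Cert.fail),
  (1, Cert.step [0, 1, 2, 1, 3, 4, 5, 1, 2, 3, 4, 2, 3, 2, 1, 5, 2, 1] (Cert.fail)),
  (1, Cert.step [0, 1, 2, 1, 3, 2, 5, 1, 0, 1, 2, 3, 1, 2, 3, 4, 2, 3, 1] (Cert.fail)),
  (1, Cert.step [1, 0, 1, 5, 0, 1, 2, 3] (Cert.fail)),
  (1, Cert.step [1, 2, 1, 3, 2, 5, 1, 0, 2, 3, 1, 2, 0, 1, 5, 4] (Cert.fail)),
  (1, Cert.fail),
  (1, Cert.step [6, 1, 0, 2, 1, 0, 3, 2, 1, 5, 2, 3, 2, 1, 6, 3, 4, 0] (Cert.fail)),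
  (1, Cert.step [1, 2, 3, 5, 1, 0, 2, 3, 4, 1, 0, 1, 2, 0, 1] (Cert.step [3, 4, 3, 2, 1, 5, 3, 0, 1, 0, 1, 2, 3, 4, 3] (Cert.fail))),
  (1, Cert.step [1, 2, 3, 5, 1, 0, 2, 1, 3, 2, 0, 1, 5, 2, 0, 1] (Cert.fail)),
  (1, Cert.step [2, 3, 2, 6, 1, 5, 6, 1, 0, 1, 6, 5, 1, 2] (Cert.fail)),
  (1, Cert.step [1, 5, 1, 2, 3, 2, 1, 0, 2, 1, 5, 3, 2, 1, 0, 1] (Cert.fail)),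
  (1, Cert.step [6, 1, 2, 3, 5, 1, 0, 2, 6, 1, 0, 3, 2, 1, 0, 1, 6, 1, 5, 4, 2, 1] (Cert.fail)),
  (1, Cert.step [6, 1, 2, 3, 5, 1, 2, 3, 2, 1, 0, 1, 2, 0, 1, 6, 3, 4] (Cert.fail)),
  (1, Cert.step [0, 2, 1, 0, 1, 5, 0, 1, 2, 3] (Cert.fail)),
  (1, Cert.step [0, 1, 0, 1, 5, 0, 1, 2, 3] (Cert.fail)),
  (1, Cert.step [2, 0] (Cert.fail)),
  (1, Cert.step [1, 0, 2, 3, 2, 5, 1, 2, 3, 2, 1, 5, 3, 4, 2, 3, 0, 1] (Cert.fail)),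
  (1, Cert.step [2, 6, 1, 0, 2, 3, 2, 5, 1, 0, 3, 2, 3, 1, 2, 0, 1, 5, 6, 4] (Cert.fail)),
  (1, Cert.step [6, 1, 0, 2, 1, 0, 1, 2, 3, 2, 1, 5, 3, 2, 1, 6, 3] (Cert.fail)),
  (1, Cert.fail),
  (1, Cert.step [0, 2, 1, 3, 2, 3, 4, 5, 1, 2, 3, 4, 2, 3, 2, 1, 5, 2, 1] (Cert.fail)),
  (1, Cert.step [2, 1, 0, 1, 5, 0, 1, 2] (Cert.fail)),
  (1, Cert.step [5, 6, 1, 2, 3, 2, 5, 1, 0, 2, 3, 2, 1, 5, 2, 0, 1, 6] (Cert.fail)),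
  (1, Cert.step [1, 2, 1, 3, 2, 3, 5, 1, 2, 3, 2, 1, 5, 3, 4, 2, 0, 1] (Cert.fail)),
  (1, Cert.step [1, 0, 1, 2, 3, 2, 5, 1, 0, 1, 2, 3, 2, 3, 4, 1, 2, 0, 1] (Cert.step [3] (Cert.fail))),
  (1, Cert.step [1, 0, 1, 0, 2, 1, 3, 2, 3, 1, 0, 1, 2, 0, 1, 5] (Cert.fail)),
  (1, Cert.step [1, 0, 2, 1, 3, 2, 3, 2, 5, 1, 0, 2, 1, 5, 3, 0, 1, 2, 3, 4, 2, 1, 0] (Cert.fail)),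
  (1, Cert.step [6, 1, 2, 3, 4, 5, 1, 2, 3, 2, 1, 5, 4, 3, 2, 1, 6, 5] (Cert.fail)),
  (1, Cert.step [3, 2, 1, 0, 1, 3, 2, 3, 5, 1, 0, 1, 2, 3, 4, 3, 2, 3, 0, 1, 0, 1, 2, 0, 1] (Cert.fail)),
  (1, Cert.fail),
  (1, Cert.step [1, 0, 2, 1, 0, 1, 3, 2, 3, 2, 1, 5, 2, 3, 1] (Cert.fail)),
  (1, Cert.step [6, 1, 0, 2, 1, 0, 3, 2, 1, 5, 2, 3, 2, 1, 6, 5] (Cert.fail)),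
  (1, Cert.step [1, 2, 1, 0, 1, 3, 2, 3, 5, 1, 2, 3, 1, 0, 1, 5, 0, 1, 2, 3, 4, 2, 3, 1] (Cert.fail)),
  (1, Cert.step [1, 2, 5, 1, 0, 1, 5, 1, 2, 1] (Cert.fail)),
  (1, Cert.step [0, 1, 2, 3, 2, 5, 1, 0, 2, 3, 1, 2, 3, 0, 1, 2, 0] (Cert.step [4, 3, 2, 1, 0, 1, 5, 3, 0, 1, 2, 3, 4] (Cert.fail))),
  (1, Cert.step [1, 0, 1, 2, 3, 5, 1, 2, 0, 1, 2, 3, 2, 1, 5, 1] (Cert.fail)),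
  (1, Cert.step [0, 1, 2, 3, 5, 1, 0, 2, 1, 3, 0, 1, 2, 3, 0, 1, 2] (Cert.fail)),
  (1, Cert.step [1, 0, 5, 1, 0, 1, 2] (Cert.step [1, 3, 2, 1, 3, 2, 1, 0, 4, 1, 2, 3, 4, 2, 1, 0, 1, 2, 3, 2, 1] (Cert.fail))),
  (2, Cert.fail),
  (1, Cert.step [6, 1, 0, 2, 1, 0, 3, 2, 1, 2, 3, 2, 1, 5, 1, 6, 2] (Cert.fail)),
  (1, Cert.step [1, 2, 3, 4, 5, 1, 2, 3, 2, 1, 5, 4, 3, 2, 3, 1] (Cert.fail)),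
  (1, Cert.fail),
  (1, Cert.step [2, 6, 1, 0, 2, 3, 2, 4, 3, 5, 1, 0, 2, 3, 4, 3, 2, 3, 4, 1, 2, 3, 2, 1, 0, 1, 6, 2] (Cert.fail)),
  (1, Cert.step [1, 0, 2, 3, 2, 5, 1, 2, 3, 2, 1, 5, 3, 0, 1, 2, 3, 1] (Cert.step [3, 4, 3, 2, 3, 4, 5, 6, 1, 2, 5, 3, 1, 2, 3, 2, 1, 0, 1, 2, 0, 1, 6, 4, 3] (Cert.fail))),
  (1, Cert.step [1, 6, 1, 2, 3, 5, 1, 2, 3, 6, 5, 1, 5, 6, 2, 1, 5, 6, 3, 4, 2, 3, 1] (Cert.fail)),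
  (1, Cert.step [2, 1, 3, 2, 3, 5, 1, 2, 3, 4, 1, 0, 1, 2, 0, 1] (Cert.fail)),
  (1, Cert.step [2, 1, 3, 2, 3, 5, 1, 2, 3, 1, 0, 1, 2, 0, 1, 5] (Cert.fail)),
  (1, Cert.step [0, 1, 0, 2, 1, 3, 2, 1, 0, 5, 1, 0, 3, 2, 1, 5, 2, 3, 4, 1, 2, 0, 1] (Cert.fail)),
  (1, Cert.step [5, 1, 0, 1, 2, 1, 3, 2, 0, 1, 0, 1, 2, 3, 2, 3, 1] (Cert.step [4, 3, 2, 3, 2, 1, 0, 1, 0, 2, 4, 3, 1, 2, 3, 4, 1, 0, 1, 2, 0, 1] (Cert.step [] (Cert.done [0, 1, 2, 1, 3, 4, 5, 0, 1, 2, 1, 3, 4, 5, 0, 1, 2, 1, 3, 4, 5, 0, 1, 2, 1, 3, 4, 5])))),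
  (1, Cert.step [2, 1, 0, 3, 5, 1, 0, 1, 2, 0] (Cert.fail)),
  (1, Cert.step [1, 2, 3, 2, 5, 1, 0, 2, 3, 1, 2, 3, 4, 0, 1] (Cert.fail)),
  (1, Cert.step [1, 0, 1, 5, 4, 0, 1, 0] (Cert.fail)),
  (1, Cert.step [2, 3, 2, 1, 5, 0, 1, 0, 1] (Cert.fail)),
  (1, Cert.step [3, 2, 3, 5, 1, 0, 1, 2, 3, 5, 1, 0, 1, 2, 3, 4, 3, 2, 3, 0, 1, 0, 1, 2, 3, 0, 1] (Cert.fail)),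
  (1, Cert.step [1, 6, 5, 1, 0, 2, 1, 3, 2, 6, 1, 0, 1, 2, 3, 2, 1, 6, 5, 3, 4, 2, 1] (Cert.fail)),
  (1, Cert.step [1, 0, 2, 1, 0, 1, 3, 2, 3, 1, 2, 0, 1, 0, 1, 0] (Cert.fail)),
  (1, Cert.step [2, 6, 1, 2, 3, 2, 5, 1, 0, 2, 3, 1, 2, 0, 1, 6, 3, 2] (Cert.fail)),
  (1, Cert.step [1, 5, 6, 1, 0, 1, 2, 1, 3, 2, 4, 6, 1, 2, 1, 6, 3, 2, 1, 5, 4, 3, 2, 1, 6, 3] (Cert.fail)),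
  (1, Cert.step [2, 3, 2, 1, 5, 3, 0, 1, 0, 1] (Cert.step [1, 0, 1, 0, 3, 2, 3, 4, 1, 2, 3, 4, 2, 3, 0, 1, 2, 0, 1, 0, 1] (Cert.fail))),
  (1, Cert.step [1, 2, 1, 3, 2, 5, 1, 0, 2, 3, 1, 2, 3, 0, 1, 2] (Cert.fail)),
  (1, Cert.step [1, 2, 3, 5, 1, 2, 3, 4, 1, 0, 1, 2, 0, 1, 5, 3] (Cert.fail)),
  (1, Cert.step [2, 3, 2, 1, 5, 0, 1, 0, 1, 2] (Cert.fail)),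
  (1, Cert.step [1, 2, 1, 3, 5, 1, 0, 2, 3, 1, 0, 1, 2, 3, 0, 1] (Cert.step [4, 3, 2, 3, 2, 1, 0, 1, 0, 2, 4, 3, 1, 2, 3, 4, 1, 0, 1, 2, 0, 1] (Cert.fail))),
  (1, Cert.step [0, 1, 0, 1, 4, 5, 0, 1, 2, 3] (Cert.fail)),
  (1, Cert.step [1, 2, 3, 5, 1, 2, 3, 2, 1, 2, 0, 1, 5, 2, 0, 1] (Cert.fail)),
  (1, Cert.fail),
  (1, Cert.step [6, 1, 2, 3, 4, 5, 1, 2, 3, 4, 2, 3, 2, 1, 5, 2, 1, 6, 2] (Cert.fail)),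
  (1, Cert.step [1, 0, 4, 5, 1, 0, 1, 2, 0] (Cert.fail)),
  (1, Cert.step [0, 2, 1, 0, 1, 5, 3, 0, 1, 2] (Cert.fail)),
  (1, Cert.step [5, 4, 0] (Cert.fail)),
  (1, Cert.fail),
  (1, Cert.step [2, 6, 1, 2, 3, 2, 5, 1, 0, 2, 3, 1, 2, 0, 1, 6, 4, 3, 0] (Cert.step [3, 4, 3, 2, 1, 3, 2, 5, 1, 4, 3, 2, 3, 4, 2, 1, 0, 1, 2, 3, 0, 1] (Cert.step [0, 1, 0, 3, 2, 1, 4, 3, 2, 1, 0, 3, 1, 2, 3, 0, 1, 2, 3, 4, 2, 3, 1] (Cert.done [0, 1, 2, 1, 3, 4, 5, 0, 1, 2, 1, 3, 4, 5, 0, 1, 2, 1, 3, 4, 5, 0, 1, 2, 1, 3, 4, 5, 0, 1, 2, 1, 3, 4, 5, 0, 1, 2, 1, 3, 4, 5, 0, 1, 2, 1, 3, 4, 5, 0, 1, 2, 1, 3, 4, 5])))),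
  (1, Cert.step [1, 2, 6, 1, 0, 2, 1, 0, 3, 2, 1, 6, 3, 2, 3, 2, 1, 5, 1, 6, 2, 1, 5] (Cert.fail)),
  (2, Cert.fail),
  (1, Cert.step [1, 2, 3, 2, 1, 0, 1, 2, 3, 0, 1, 2, 3, 1, 0, 1, 0] (Cert.fail)),
  (1, Cert.step [0, 6, 1, 2, 3, 2, 1, 5, 1, 2, 6, 5, 6, 3, 1, 2, 0, 1, 6, 4, 3, 2] (Cert.fail)),
  (1, Cert.step [1, 2, 1, 3, 4, 5, 1, 2, 3, 4, 2, 3, 2, 1, 5, 2, 1] (Cert.fail)),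
  (1, Cert.step [1, 2, 3, 5, 1, 0, 2, 1, 3, 2, 0, 1, 5, 2, 0, 1, 0] (Cert.fail)),
  (1, Cert.step [5, 1, 0, 1, 5, 4, 0, 1] (Cert.fail)),
  (1, Cert.step [1, 0, 1, 2, 1, 0, 3, 2, 1, 0, 1, 2, 3, 2, 1] (Cert.fail)),
  (1, Cert.step [1, 0, 2, 5, 1, 0, 2, 3, 1, 2, 0, 1, 5, 3, 2, 1] (Cert.fail)),
  (1, Cert.step [1, 2, 5, 1, 0, 1, 5, 2, 3, 1, 2, 0] (Cert.fail)),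
  (1, Cert.fail),
  (1, Cert.step [1, 2, 3, 5, 1, 2, 3, 4, 1, 0, 1, 2, 3, 0, 1, 2] (Cert.step [1, 2, 1, 3, 2, 1, 0, 4, 1, 2, 3, 4, 2, 1, 0, 1, 2, 3, 2, 1] (Cert.fail))),
  (1, Cert.step [6, 1, 5, 1, 0, 2, 1, 3, 2, 3, 2, 1, 5, 3, 2, 3, 2, 1, 6, 4] (Cert.fail)),
  (1, Cert.step [1, 2, 1, 3, 2, 5, 1, 0, 2, 3, 1, 2, 3, 0, 1, 2, 0] (Cert.fail)),
  (1, Cert.step [1, 0, 5, 1, 6, 5, 6, 5, 1, 2, 3, 2] (Cert.fail)),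
  (1, Cert.fail),
  (1, Cert.step [1, 2, 1, 3, 2, 5, 1, 0, 2, 3, 4, 1, 2, 3, 0, 1, 0] (Cert.fail)),
  (1, Cert.fail),
  (1, Cert.step [5, 1, 0, 2, 1, 0, 1, 3, 2, 3, 1, 2, 0, 1, 0, 1, 0] (Cert.fail)),
  (1, Cert.step [4, 0] (Cert.fail)),
  (1, Cert.step [1, 2, 3, 4, 5, 1, 2, 3, 2, 0, 1, 5, 4, 3, 2, 1] (Cert.step [0, 1, 0, 2, 1, 0, 4, 2, 3, 2, 1, 0, 1, 2, 3, 2, 3, 1, 2, 3, 4] (Cert.fail))),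
  (1, Cert.fail),
  (1, Cert.step [1, 2, 1, 3, 2, 1, 3, 2, 5, 1, 2, 3, 2, 1, 0, 1, 5, 1, 2, 3, 2, 1] (Cert.fail)),
  (1, Cert.step [1, 2, 1, 3, 2, 4, 3, 2, 5, 1, 2, 3, 2, 1, 2, 3, 4, 2, 3, 1, 2, 3, 1, 2, 1, 0] (Cert.step [4, 3, 2, 1, 3, 2, 5, 1, 4, 3, 2, 3, 4, 2, 1, 0, 1, 2, 3, 0, 1] (Cert.fail))),
  (1, Cert.step [2, 1, 3, 5, 6, 1, 0, 1, 6, 5, 1, 6, 2, 3] (Cert.fail)),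
  (1, Cert.fail),
  (1, Cert.step [0, 1, 0, 2, 3, 2, 5, 1, 0, 2, 3, 2, 1, 0, 1, 5, 3, 2, 0, 1] (Cert.step [4, 3, 2, 3, 4, 5, 6, 1, 2, 5, 3, 1, 2, 3, 1, 0, 1, 2, 0, 1, 6, 3, 4, 2] (Cert.fail))),
  (1, Cert.step [0, 2, 1, 0, 5, 4, 1, 0, 1, 2] (Cert.fail)),
  (1, Cert.step [2, 1, 0, 5, 3, 1, 0, 1, 0] (Cert.fail)),
  (1, Cert.step [1, 2, 1, 3, 5, 1, 0, 2, 3, 1, 0, 1, 2, 3, 0, 1] (Cert.step [1, 4, 3, 2, 1, 3, 5, 1, 2, 3, 2, 1, 0, 4, 1, 2, 0, 1] (Cert.fail))),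
  (1, Cert.step [1, 0, 2, 1, 0, 1, 2, 3, 2, 1, 5, 3, 2, 3, 1] (Cert.fail)),
  (1, Cert.step [2, 3, 6, 1, 0, 2, 1, 3, 2, 0, 1, 5, 2, 3, 2, 1, 6, 5] (Cert.fail)),
  (1, Cert.fail),
  (1, Cert.step [6, 1, 0, 2, 1, 0, 1, 2, 3, 2, 1, 5, 3, 2, 1, 6, 3] (Cert.fail)),
  (1, Cert.step [1, 5, 6, 1, 2, 3, 2, 1, 0, 1, 6, 0, 1, 5, 2, 3, 2, 1, 6, 5, 1] (Cert.fail)),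
  (1, Cert.step [1, 2, 1, 0, 3, 5, 1, 2, 3, 2, 1, 5, 2, 3, 2, 0, 1] (Cert.fail)),
  (1, Cert.fail),
  (1, Cert.step [1, 2, 1, 0, 1, 3, 2, 3, 5, 1, 2, 3, 1, 0, 1, 5, 0, 1, 2, 3, 4, 2, 3, 1] (Cert.fail)),
  (1, Cert.step [6, 1, 0, 2, 5, 1, 2, 3, 2, 0, 1, 5, 2, 3, 2, 1, 6, 0] (Cert.fail)),
  (1, Cert.step [5, 6, 1, 2, 3, 2, 5, 1, 2, 3, 0, 1, 2, 0, 1, 6, 3] (Cert.fail)),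
  (1, Cert.step [1, 2, 3, 2, 5, 1, 0, 2, 1, 5, 3, 2, 1, 0, 1] (Cert.fail)),
  (1, Cert.step [0, 1, 0, 2, 1, 0, 3, 5, 1, 2, 1, 5, 1, 2, 3, 2, 3, 4, 1, 0] (Cert.fail)),
  (2, Cert.step [2, 6, 1, 2, 3, 4, 5, 1, 2, 3, 4, 2, 3, 1, 2, 0, 1, 0, 1, 6] (Cert.fail)),
  (1, Cert.step [1, 2, 1, 3, 2, 4, 3, 5, 1, 2, 3, 2, 3, 4, 2, 3, 1, 2, 3, 0, 1, 2] (Cert.fail)),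
  (1, Cert.fail),
  (1, Cert.step [6, 1, 2, 3, 2, 5, 1, 2, 3, 0, 1, 2, 0, 1, 6, 3, 0] (Cert.fail)),
  (1, Cert.step [1, 2, 1, 3, 2, 4, 3, 5, 1, 2, 3, 2, 3, 4, 2, 3, 1, 2, 3, 0, 1, 2] (Cert.fail)),
  (1, Cert.fail),
  (1, Cert.step [1, 0, 1, 2, 3, 5, 1, 2, 0, 1, 5, 2, 3, 1, 2, 1] (Cert.fail)),
  (1, Cert.fail),
  (1, Cert.step [5, 1, 0, 2, 1, 0, 1, 3, 2, 1, 5, 3, 1, 2, 1] (Cert.fail)),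
  (2, Cert.fail),
  (1, Cert.step [4, 2] (Cert.fail)),
  (1, Cert.step [1, 2, 5, 1, 0, 1, 5, 2, 3, 1, 2] (Cert.fail)),
  (1, Cert.step [1, 5, 1, 0, 2, 1, 3, 2, 1, 3, 2, 1, 5, 3, 4, 2, 0, 1, 0] (Cert.fail)),
  (1, Cert.step [0, 2, 6, 1, 0, 2, 3, 2, 4, 3, 5, 1, 0, 2, 3, 4, 3, 2, 3, 4, 1, 2, 3, 2, 1, 0, 1, 6, 3] (Cert.fail)),
  (1, Cert.step [1, 2, 3, 4, 5, 1, 2, 3, 2, 1, 5, 4, 3, 1, 2, 1] (Cert.step [4, 3, 2, 1, 3, 2, 5, 1, 4, 3, 2, 3, 4, 2, 1, 0, 1, 2, 3, 0, 1] (Cert.fail))),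
  (2, Cert.fail),
  (1, Cert.step [5, 4, 3] (Cert.fail)),
  (1, Cert.fail),
  (1, Cert.step [1, 2, 5, 1, 0, 1, 5, 2, 1] (Cert.fail)),
  (1, Cert.step [1, 2, 3, 6, 5, 1, 2, 6, 1, 5, 1, 6, 3, 2, 1, 5, 3, 2, 1, 6, 4, 3, 1] (Cert.fail)),
  (1, Cert.step [6, 1, 0, 2, 1, 0, 3, 2, 1, 5, 2, 3, 2, 1, 6, 2, 3] (Cert.fail)),
  (1, Cert.step [1, 0, 1, 2, 5, 1, 2, 3, 2, 0, 1, 0, 1, 2, 3, 2, 3, 1] (Cert.fail)),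
  (1, Cert.step [0, 1, 2, 3, 2, 4, 5, 1, 2, 3, 4, 3, 0, 1, 2, 3, 0, 1, 2] (Cert.fail)),
  (1, Cert.step [0, 1, 2, 3, 2, 1, 0, 1, 2, 5, 3, 2, 1, 5, 0, 1, 2, 3, 0, 1] (Cert.fail)),
  (2, Cert.fail),
  (1, Cert.step [6, 1, 0, 2, 5, 1, 2, 3, 2, 0, 1, 5, 2, 3, 2, 1, 6, 2] (Cert.fail)),
  (1, Cert.step [1, 0, 1, 5, 0, 1, 2, 0] (Cert.fail)),
  (1, Cert.step [6, 1, 0, 2, 1, 0, 3, 2, 1, 5, 2, 3, 2, 1, 6, 0] (Cert.fail)),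
  (1, Cert.step [1, 2, 1, 3, 2, 5, 1, 0, 2, 3, 2, 1, 5, 2, 0, 1] (Cert.fail)),
  (1, Cert.step [1, 2, 3, 2, 1, 0, 1, 0, 2, 3, 1, 2, 3, 1, 0, 1, 2] (Cert.step [3, 4, 3, 2, 1, 3, 4, 5, 2, 3, 1, 2, 3, 4, 2, 1, 0, 1, 2, 0, 1] (Cert.fail))),
  (1, Cert.step [2, 1, 3, 2, 3, 4, 5, 1, 2, 3, 2, 1, 5, 4, 3, 1, 2, 1] (Cert.step [3, 4, 3, 2, 1, 3, 2, 5, 1, 4, 3, 2, 3, 4, 2, 1, 0, 1, 2, 3, 0, 1] (Cert.fail))),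
  (1, Cert.step [0, 1, 2, 3, 2, 4, 3, 2, 5, 1, 2, 3, 2, 1, 2, 3, 4, 2, 3, 1, 2, 3, 4, 1, 2, 1] (Cert.fail)),
  (1, Cert.step [3, 2, 1, 0, 1, 4, 3, 5, 1, 0, 2, 1, 3, 4, 2, 3, 2, 1, 5, 3, 4, 3, 2, 3, 1] (Cert.fail)),
  (1, Cert.fail),
  (1, Cert.step [5, 1, 0, 1, 2, 1, 3, 2, 0, 1, 0, 1, 2, 3, 2, 3, 1] (Cert.fail)),
  (1, Cert.step [6, 1, 2, 3, 2, 5, 1, 2, 3, 0, 1, 2, 0, 1, 6, 0] (Cert.fail)),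
  (1, Cert.step [5, 6, 1, 2, 3, 2, 5, 1, 2, 3, 0, 1, 2, 0, 1, 6, 3] (Cert.fail)),
  (1, Cert.step [0, 1, 2, 3, 2, 4, 5, 1, 2, 3, 0, 1, 5, 4, 3, 2, 1, 0, 1] (Cert.fail)),
  (1, Cert.step [2, 1, 3, 2, 3, 5, 1, 2, 3, 1, 0, 1, 2, 0, 1, 0] (Cert.fail)),
  (2, Cert.fail),
  (1, Cert.step [0, 2, 6, 1, 2, 3, 2, 3, 5, 1, 2, 3, 2, 1, 5, 3, 2, 0, 1, 6, 4] (Cert.fail)),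
  (1, Cert.step [3, 2, 1, 0, 1, 3, 2, 3, 5, 1, 0, 1, 2, 3, 4, 3, 2, 3, 0, 1, 0, 1, 2, 0, 1] (Cert.fail)),
  (2, Cert.fail),
  (1, Cert.step [5, 1, 0, 2, 3, 2, 1, 0, 5, 1, 2, 0, 1, 5, 2, 3, 2, 3, 4, 1, 2, 0, 1] (Cert.fail)),
  (3, Cert.fail),
  (1, Cert.step [1, 2, 6, 1, 0, 2, 1, 0, 3, 2, 1, 6, 3, 2, 3, 2, 1, 5, 1, 6, 2, 1, 5] (Cert.fail)),
  (1, Cert.step [6, 1, 2, 3, 2, 4, 3, 5, 1, 2, 3, 4, 2, 3, 4, 0, 1, 2, 3, 2, 1, 0, 1, 6, 2] (Cert.fail)),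
  (1, Cert.step [0, 1, 2, 3, 2, 4, 5, 1, 2, 3, 0, 1, 5, 4, 3, 2, 1, 0, 1] (Cert.fail)),
  (2, Cert.fail),
  (1, Cert.step [2, 1, 0, 5, 3, 1, 0, 1, 2] (Cert.fail)),
  (1, Cert.step [2, 5, 1, 0, 1, 5, 0, 1, 2] (Cert.fail)),
  (1, Cert.step [0, 1, 4, 3, 2, 3, 2, 1, 0, 4, 5, 1, 2, 3, 2, 1, 5, 0, 1, 2, 3, 4, 3, 1, 2, 1] (Cert.fail)),
  (1, Cert.fail),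
  (1, Cert.step [0, 1, 0, 2, 1, 0, 5, 1, 2, 3, 2, 5, 1, 0, 1, 2, 3, 2, 3, 4, 1] (Cert.fail)),
  (1, Cert.step [1, 0, 1, 2, 3, 5, 1, 2, 0, 1, 5, 2, 3, 1, 2, 1] (Cert.fail)),
  (1, Cert.step [6, 1, 2, 3, 2, 5, 1, 2, 3, 0, 1, 2, 0, 1, 6, 0] (Cert.fail)),
  (1, Cert.fail),
  (1, Cert.step [1, 0, 2, 5, 1, 2, 3, 2, 0, 1, 5, 2, 3, 1, 2, 1] (Cert.fail)),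
  (1, Cert.step [6, 1, 2, 3, 2, 5, 1, 2, 3, 0, 1, 2, 0, 1, 6, 3, 0] (Cert.fail)),
  (1, Cert.step [1, 2, 3, 6, 5, 1, 0, 1, 2, 1, 6, 1, 3, 2, 1, 5, 3, 2, 1, 6, 5, 4, 3, 1] (Cert.fail)),
  (1, Cert.step [1, 2, 1, 3, 2, 5, 1, 0, 2, 3, 4, 1, 2, 3, 0, 1, 0] (Cert.fail)),
  (1, Cert.step [1, 2, 1, 3, 5, 1, 2, 3, 2, 1, 0, 1, 2, 3, 0, 1] (Cert.step [4, 3, 2, 1, 5, 4, 3, 0, 1, 0, 1, 2, 3, 4] (Cert.fail))),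
  (1, Cert.step [1, 0, 2, 3, 2, 5, 1, 2, 3, 2, 1, 5, 3, 4, 2, 3, 0, 1] (Cert.fail)),
  (1, Cert.step [1, 0, 1, 5, 1, 2, 3, 2, 1, 4, 3, 2, 3, 4, 3, 2, 0, 1, 5, 3, 4, 2, 3, 2, 0, 1] (Cert.fail)),
  (1, Cert.step [1, 0, 2, 1, 0, 1, 2, 3, 2, 3, 1, 2, 0, 1, 0, 1] (Cert.fail)),
  (1, Cert.step [3, 2, 3, 2, 1, 0, 1, 2, 3, 5, 1, 0, 1, 2, 3, 4, 3, 2, 3, 0, 1, 0, 1, 2, 0, 1] (Cert.fail)),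
  (1, Cert.step [1, 0, 5, 1, 0, 1, 0] (Cert.fail)),
  (1, Cert.step [1, 0, 2, 3, 2, 1, 0, 5, 1, 0, 1, 2, 1, 5, 3, 2, 3, 4, 1, 2, 0, 1] (Cert.fail)),
  (1, Cert.step [5, 6, 1, 2, 3, 2, 5, 1, 0, 1, 2, 3, 1, 2, 3, 2, 1, 6, 4, 3] (Cert.fail)),
  (1, Cert.step [1, 0, 2, 1, 3, 2, 3, 5, 1, 2, 1, 0, 1, 5, 0, 1, 2, 3, 2, 0, 1] (Cert.fail)),
  (1, Cert.step [2, 1, 3, 2, 6, 1, 0, 1, 6, 5, 6, 1, 5, 6, 1, 2, 3, 1, 0, 1, 0] (Cert.fail)),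
  (2, Cert.fail),
  (1, Cert.step [1, 2, 3, 5, 1, 0, 2, 1, 0, 1, 5, 3, 2, 1, 0, 1, 0] (Cert.fail)),
  (1, Cert.step [6, 1, 5, 1, 0, 2, 1, 3, 2, 1, 3, 2, 1, 5, 3, 2, 0, 1, 6, 4] (Cert.step [4, 3, 2, 1, 3, 2, 3, 2, 5, 1, 0, 2, 1, 3, 2, 3, 4, 0, 1, 2] (Cert.fail))),
  (1, Cert.step [2, 6, 1, 0, 2, 1, 3, 2, 3, 2, 5, 1, 2, 0, 1, 5, 3, 0, 1, 2, 3, 2, 1, 6, 4, 0] (Cert.fail)),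
  (2, Cert.fail),
  (1, Cert.step [1, 2, 3, 5, 1, 2, 3, 4, 1, 0, 1, 5, 2, 1, 0, 1, 0] (Cert.fail)),
  (1, Cert.step [0, 1, 0, 2, 1, 3, 2, 5, 1, 2, 3, 2, 1, 5, 2, 3, 1, 2, 3, 2, 1, 5, 4] (Cert.fail)),
  (1, Cert.step [2, 1, 3, 2, 3, 5, 1, 2, 3, 1, 0, 1, 2, 3, 0, 1] (Cert.fail)),
  (1, Cert.step [1, 0, 1, 2, 1, 3, 2, 1, 0, 5, 1, 0, 2, 1, 5, 3, 0, 1, 2, 3, 4, 2, 1] (Cert.fail)),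
  (2, Cert.fail),
  (1, Cert.step [6, 1, 2, 3, 2, 4, 5, 1, 2, 3, 4, 3, 0, 1, 2, 0, 1, 6, 3, 2] (Cert.fail)),
  (1, Cert.step [1, 5, 6, 1, 2, 3, 2, 5, 1, 0, 6, 1, 0, 1, 2, 3, 2, 1, 6, 5, 1, 0] (Cert.fail)),
  (1, Cert.fail),
  (1, Cert.step [1, 0, 1, 2, 1, 3, 2, 1, 0, 5, 1, 0, 2, 1, 5, 3, 0, 1, 2, 3, 4, 2, 1] (Cert.fail)),
  (1, Cert.step [1, 0, 2, 1, 0, 1, 0, 3, 2, 1, 5, 3, 2, 3, 1, 2] (Cert.fail)),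
  (1, Cert.step [2, 6, 1, 0, 2, 3, 2, 5, 1, 0, 3, 2, 3, 1, 2, 0, 1, 6, 4, 3] (Cert.fail)),
  (1, Cert.fail),
  (1, Cert.step [1, 0, 2, 1, 0, 1, 3, 2, 0, 1, 5, 3, 1, 2, 1, 0] (Cert.fail)),
  (1, Cert.step [2, 5, 6, 1, 2, 3, 2, 5, 1, 2, 3, 0, 1, 2, 0, 1, 6, 4] (Cert.step [1, 0, 2, 1, 4, 0, 1, 2, 3, 2, 1, 5, 3, 2, 3, 1, 2, 3, 4] (Cert.fail))),
  (1, Cert.step [1, 2, 3, 4, 3, 2, 1, 0, 1, 5, 1, 2, 3, 1, 2, 1, 0, 1, 5, 4, 3, 1, 2, 0, 1, 0] (Cert.fail)),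
  (1, Cert.step [1, 2, 1, 3, 5, 1, 2, 3, 0, 1, 0, 1, 2, 0, 1] (Cert.fail)),
  (2, Cert.fail),
  (1, Cert.step [0, 1, 2, 3, 2, 4, 5, 1, 2, 3, 4, 3, 0, 1, 2, 3, 4, 0, 1, 0] (Cert.fail)),
  (1, Cert.step [1, 0, 2, 5, 1, 0, 2, 3, 1, 2, 0, 1, 5, 3, 2, 1] (Cert.fail)),
  (1, Cert.fail),
  (1, Cert.step [5, 1, 0, 2, 1, 3, 2, 3, 5, 1, 2, 1, 0, 1, 5, 0, 1, 2, 3, 0, 1, 2, 1] (Cert.step [1, 4, 3, 2, 1, 3, 5, 1, 2, 3, 2, 1, 0, 4, 1, 2, 0, 1] (Cert.fail))),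
  (1, Cert.fail),
  (1, Cert.step [2, 1, 0, 3, 2, 1, 3, 2, 0, 1, 5, 2, 3, 1, 2, 1, 0] (Cert.step [2, 1, 0, 4, 3, 2, 3, 1, 2, 0, 1, 5, 2, 3, 2, 3, 1, 2, 3, 4] (Cert.fail))),
  (1, Cert.step [6, 1, 2, 3, 4, 5, 1, 2, 3, 2, 1, 5, 4, 3, 2, 1, 6] (Cert.fail)),
  (1, Cert.fail),
  (1, Cert.step [4, 3, 6, 1, 2, 3, 2, 1, 0, 4, 5, 1, 2, 3, 2, 1, 5, 4, 0, 1, 2, 3, 2, 1, 6] (Cert.fail)),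
  (1, Cert.step [0, 1, 2, 1, 3, 2, 5, 1, 0, 2, 3, 4, 1, 2, 3, 0, 1] (Cert.fail)),
  (1, Cert.step [1, 2, 3, 2, 5, 1, 0, 2, 1, 5, 3, 2, 1, 0, 1] (Cert.fail)),
  (3, Cert.fail),
  (1, Cert.step [2, 3, 6, 1, 0, 2, 1, 0, 1, 6, 1, 5, 2, 1, 6, 3, 2, 1, 5, 3, 2, 1] (Cert.fail)),
  (1, Cert.step [1, 2, 3, 6, 5, 1, 2, 6, 1, 5, 1, 6, 3, 2, 1, 5, 3, 2, 1, 6, 3, 4, 3, 1] (Cert.fail)),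
  (1, Cert.step [2] (Cert.fail)),
  (1, Cert.step [1, 2, 6, 1, 0, 2, 1, 0, 3, 2, 1, 6, 3, 2, 3, 2, 1, 5, 1, 6, 2, 1, 5] (Cert.fail)),
  (1, Cert.fail),
  (1, Cert.step [6, 1, 2, 3, 2, 5, 1, 0, 2, 3, 2, 1, 5, 2, 0, 1, 6, 0] (Cert.step [2, 3, 4, 3, 2, 3, 0] (Cert.fail))),
  (1, Cert.fail),
  (1, Cert.step [2, 6, 1, 0, 2, 3, 2, 5, 1, 0, 3, 2, 3, 1, 2, 0, 1, 5, 6, 4] (Cert.fail)),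
  (1, Cert.step [2, 5, 1, 0, 1, 5, 0, 1] (Cert.fail)),
  (1, Cert.step [1, 0, 2, 5, 1, 2, 3, 2, 6, 5, 6, 1, 5, 1, 2, 3, 4, 2, 3, 1] (Cert.fail)),
  (1, Cert.step [6, 1, 0, 2, 5, 1, 2, 3, 2, 0, 1, 2, 3, 2, 1, 5, 1, 6] (Cert.fail)),
  (1, Cert.step [6, 1, 2, 3, 5, 1, 0, 2, 1, 3, 0, 1, 2, 0, 1, 6, 4, 3] (Cert.fail)),
  (1, Cert.step [6, 1, 5, 1, 0, 2, 1, 3, 2, 1, 3, 2, 1, 5, 3, 2, 0, 1, 6, 4] (Cert.fail)),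
  (1, Cert.step [2, 1, 3, 2, 3, 4, 5, 1, 2, 3, 2, 1, 5, 4, 3, 2, 1] (Cert.fail)),
  (2, Cert.fail),
  (1, Cert.step [1, 2, 3, 4, 5, 1, 2, 3, 6, 1, 2, 5, 1, 0, 1, 6, 2, 1, 0, 1, 6, 3, 4, 3, 2, 1, 0] (Cert.fail)),
  (1, Cert.step [1, 2, 1, 3, 2, 1, 0, 3, 5, 1, 0, 1, 2, 1, 5, 3, 2, 3, 4, 1, 2, 0, 1] (Cert.fail)),
  (1, Cert.step [0, 1, 0, 2, 1, 0, 3, 2, 3, 6, 1, 6, 1, 5, 6, 2, 3, 4, 1, 2, 1, 0] (Cert.fail)),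
  (1, Cert.step [1, 0, 1, 2, 3, 5, 1, 0, 1, 2, 0, 1, 5, 3, 2, 1] (Cert.fail)),
  (1, Cert.step [0, 1, 2, 3, 4, 3, 2, 1, 0, 5, 1, 2, 3, 2, 1, 5, 4, 1, 2, 3, 0, 1, 2, 1, 0, 1] (Cert.fail)),
  (3, Cert.fail),
  (1, Cert.step [1, 2, 1, 3, 2, 1, 0, 3, 5, 1, 0, 1, 2, 1, 5, 3, 2, 3, 4, 1, 2, 0, 1] (Cert.fail)),
  (1, Cert.step [0, 1, 2, 1, 3, 2, 1, 0, 1, 3, 2, 0, 1, 5, 3, 2, 3, 2, 1, 0] (Cert.fail)),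
  (1, Cert.fail),
  (1, Cert.step [1, 2, 5, 1, 2, 3, 2, 4, 3, 2, 1, 5, 4, 3, 2, 3, 1, 2] (Cert.fail)),
  (1, Cert.step [0, 1, 2, 3, 4, 5, 1, 2, 3, 4, 2, 3, 1, 2, 0, 1, 0, 1] (Cert.fail)),
  (4, Cert.fail),
  (1, Cert.step [1, 2, 1, 0, 3, 2, 5, 1, 0, 3, 2, 3, 1, 0, 1, 2, 3, 1] (Cert.fail)),
  (1, Cert.step [2, 6, 1, 2, 3, 4, 5, 1, 2, 3, 4, 2, 3, 2, 1, 5, 2, 1, 6, 3] (Cert.fail)),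
  (1, Cert.fail),
  (1, Cert.step [1, 2, 1, 0, 3, 2, 5, 1, 2, 3, 2, 1, 5, 3, 4, 2, 0, 1, 0] (Cert.fail)),
  (1, Cert.step [1, 0, 2, 5, 1, 2, 3, 2, 0, 1, 5, 2, 3, 4, 2, 1, 0] (Cert.fail)),
  (1, Cert.step [2, 1, 3, 5, 6, 1, 0, 1, 6, 5, 1, 6, 2, 3] (Cert.fail)),
  (3, Cert.fail),
  (1, Cert.step [5, 6, 1, 2, 3, 2, 5, 1, 0, 1, 2, 3, 1, 2, 3, 2, 1, 6, 2, 3] (Cert.fail)),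
  (1, Cert.fail),
  (1, Cert.step [2, 6, 1, 2, 3, 2, 5, 1, 0, 2, 3, 1, 2, 0, 1, 6, 4, 3] (Cert.fail)),
  (1, Cert.step [2, 6, 1, 2, 3, 2, 5, 1, 2, 3, 0, 1, 2, 0, 1, 6] (Cert.fail)),
  (1, Cert.fail),
  (1, Cert.step [1, 2, 1, 3, 5, 1, 0, 2, 3, 4, 1, 0, 1, 2, 0, 1] (Cert.fail)),
  (1, Cert.step [0, 1, 2, 1, 3, 4, 5, 1, 2, 3, 2, 1, 5, 4, 3, 2, 3, 1] (Cert.step [2, 1, 0, 4, 3, 2, 3, 1, 2, 0, 1, 5, 2, 3, 2, 3, 1, 2, 3, 4] (Cert.fail))),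
  (1, Cert.step [1, 0, 2, 1, 0, 5, 1, 2, 3, 2, 5, 1, 0, 1, 2, 3, 2, 3, 1] (Cert.fail)),
  (1, Cert.fail),
  (1, Cert.step [6, 1, 2, 3, 2, 5, 1, 0, 2, 3, 1, 2, 0, 1, 6, 4, 3, 0] (Cert.fail)),
  (1, Cert.step [0, 1, 4, 3, 2, 3, 2, 1, 0, 4, 5, 1, 2, 3, 2, 1, 5, 0, 1, 2, 3, 4, 3, 1, 2, 1] (Cert.fail)),
  (1, Cert.step [0, 1, 2, 1, 3, 5, 1, 2, 3, 2, 1, 0, 1, 2, 0, 1] (Cert.fail)),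
  (1, Cert.step [2, 6, 1, 2, 3, 2, 5, 1, 0, 2, 3, 2, 1, 5, 2, 0, 1, 6] (Cert.fail)),
  (3, Cert.fail),
  (1, Cert.step [2, 3, 2, 6, 1, 5, 6, 1, 0, 1, 6, 5, 1, 2] (Cert.fail)),
  (1, Cert.step [0, 1, 2, 3, 4, 5, 1, 2, 3, 6, 1, 5, 6, 4, 3, 2, 1, 6, 0, 1, 2, 0, 1, 6, 3] (Cert.fail)),
  (1, Cert.step [1, 2, 5, 1, 0, 2, 1, 5, 2, 3, 1] (Cert.fail)),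
  (1, Cert.fail),
  (1, Cert.step [0, 6, 1, 2, 3, 2, 5, 1, 2, 3, 0, 1, 2, 0, 1, 6, 4] (Cert.fail)),
  (1, Cert.step [1, 0, 1, 2, 1, 3, 2, 3, 5, 1, 0, 1, 5, 0, 1, 2, 3, 1, 2, 0, 1, 0] (Cert.fail)),
  (1, Cert.step [1, 0, 1, 2, 1, 0, 4, 3, 2, 5, 1, 2, 3, 4, 2, 3, 2, 1, 5, 0, 1, 2, 3, 2, 1] (Cert.fail)),
  (1, Cert.step [0, 2, 1, 0, 5, 1, 0, 1, 2, 3] (Cert.fail)),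
  (1, Cert.step [0, 6, 1, 0, 2, 1, 0, 3, 2, 1, 5, 2, 3, 2, 1, 6, 3, 2] (Cert.fail)),
  (1, Cert.step [0, 2, 6, 1, 2, 3, 2, 5, 1, 0, 2, 3, 1, 2, 0, 1, 6, 3, 4] (Cert.step [4, 3, 2, 3, 2, 1, 0, 1, 0, 2, 4, 3, 1, 2, 3, 4, 1, 0, 1, 2, 0, 1] (Cert.fail))),
  (1, Cert.step [2, 1, 0, 1, 4, 5, 0, 1, 2, 3] (Cert.fail)),
  (2, Cert.fail),
  (1, Cert.step [0, 1, 2, 3, 5, 1, 2, 3, 2, 1, 0, 1, 2, 0, 1] (Cert.fail)),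
  (1, Cert.step [1, 2, 5, 1, 0, 1, 5, 2, 3, 1, 2] (Cert.fail)),
  (1, Cert.step [1, 0, 2, 1, 3, 2, 3, 5, 1, 2, 1, 0, 1, 5, 0, 1, 2, 3, 2, 0, 1, 0] (Cert.step [4, 3, 2, 1, 3, 2, 5, 1, 4, 3, 2, 3, 4, 2, 1, 0, 1, 2, 3, 0, 1] (Cert.fail))),
  (1, Cert.fail),
  (1, Cert.step [5, 6, 1, 2, 3, 4, 5, 1, 0, 2, 3, 2, 1, 5, 4, 3, 2, 1, 6, 3] (Cert.fail)),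
  (1, Cert.step [1, 2, 1, 3, 2, 4, 3, 2, 5, 1, 2, 3, 2, 1, 2, 3, 4, 2, 3, 1, 2, 3, 1, 2, 3, 1] (Cert.fail)),
  (1, Cert.step [1, 2, 1, 0, 3, 5, 1, 2, 3, 2, 1, 5, 3, 2, 3, 4, 2, 1] (Cert.fail)),
  (1, Cert.step [2, 1, 0, 1, 3, 5, 0, 1, 2, 3] (Cert.fail)),
  (1, Cert.step [0, 2, 1, 0, 1, 5, 4, 0, 1, 2] (Cert.fail)),
  (1, Cert.step [2, 3, 6, 1, 2, 3, 2, 5, 1, 2, 3, 0, 1, 2, 0, 1, 6, 3, 0] (Cert.fail)),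
  (1, Cert.fail),
  (1, Cert.step [1, 2, 3, 5, 1, 2, 3, 2, 4, 1, 0, 1, 2, 3, 0, 1] (Cert.fail)),
  (1, Cert.step [1, 0, 2, 1, 0, 1, 3, 2, 1, 5, 3, 1, 2, 3, 1] (Cert.fail)),
  (1, Cert.step [0, 1, 0, 1, 5, 4, 3, 0, 1] (Cert.fail)),
  (1, Cert.step [1, 0, 2, 1, 0, 1, 3, 2, 3, 1, 2, 0, 1, 0, 1] (Cert.fail)),
  (1, Cert.step [0, 1, 2, 1, 3, 5, 1, 0, 2, 3, 1, 0, 1, 2, 3, 0, 1, 0] (Cert.fail)),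
  (1, Cert.step [1, 0, 2, 1, 0, 1, 0, 3, 2, 1, 5, 3, 1, 2, 3, 1] (Cert.fail)),
  (1, Cert.step [2, 1, 0, 1, 5, 0, 1, 2, 3] (Cert.fail)),
  (1, Cert.step [2, 1, 3, 2, 3, 4, 5, 1, 2, 3, 2, 1, 5, 4, 3, 1, 2, 1] (Cert.fail)),
  (1, Cert.step [1, 2, 1, 3, 2, 4, 3, 2, 5, 1, 2, 3, 2, 1, 2, 3, 4, 2, 3, 1, 2, 3, 1, 2, 3, 1] (Cert.fail)),
  (1, Cert.step [1, 0, 1, 2, 3, 5, 1, 2, 0, 1, 5, 2, 3, 1, 2, 1] (Cert.fail)),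
  (1, Cert.step [1, 0, 2, 1, 0, 3, 2, 3, 1, 5, 2, 3, 0, 1, 2, 3, 1] (Cert.step [1, 0, 2, 1, 4, 0, 1, 2, 3, 2, 1, 5, 3, 1, 2, 3, 4, 1] (Cert.fail))),
  (1, Cert.step [1, 2, 1, 3, 2, 4, 3, 2, 5, 1, 2, 3, 2, 1, 2, 3, 4, 2, 3, 1, 2, 3, 1, 2, 3, 1] (Cert.fail)),
  (1, Cert.step [2, 1, 0, 1, 3, 5, 0, 1, 2, 3] (Cert.fail)),
  (1, Cert.step [0, 6, 1, 2, 3, 2, 5, 1, 0, 2, 3, 1, 2, 0, 1, 6, 3, 2] (Cert.fail)),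
  (1, Cert.step [5, 1, 0, 1, 5, 0, 1, 2, 3] (Cert.fail)),
  (1, Cert.step [0, 1, 0, 2, 1, 4, 3, 5, 1, 0, 1, 2, 3, 4, 3, 2, 1, 5, 3, 0, 1, 2, 1, 0, 1] (Cert.fail)),
  (1, Cert.step [0, 1, 0, 1, 2, 3, 5, 1, 2, 0, 1, 5, 2, 3, 2, 3, 1] (Cert.fail)),
  (1, Cert.step [6, 1, 2, 3, 4, 5, 1, 2, 3, 4, 2, 3, 2, 1, 5, 2, 1, 6, 2] (Cert.fail)),
  (1, Cert.step [1, 6, 1, 5, 1, 0, 2, 1, 6, 0, 1, 2, 0, 1, 5, 6, 3, 1, 2] (Cert.fail)),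
  (1, Cert.step [1, 0, 1, 2, 5, 1, 0, 2, 3, 2, 1, 0, 1, 2, 3, 4, 2, 1] (Cert.fail)),
  (1, Cert.step [1, 4, 3, 2, 3, 2, 1, 0, 4, 5, 1, 2, 3, 2, 1, 5, 0, 1, 2, 3, 4, 3, 2, 1, 0] (Cert.fail)),
  (1, Cert.step [2, 1, 0, 5, 1, 0, 1, 2, 3] (Cert.fail)),
  (1, Cert.step [1, 0, 2, 3, 2, 1, 0, 5, 1, 0, 1, 2, 1, 5, 3, 2, 3, 4, 1, 2, 0, 1] (Cert.fail)),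
  (1, Cert.step [1, 2, 1, 0, 5, 1, 2, 3, 2, 0, 1, 5, 2, 3, 2, 1] (Cert.fail)),
  (1, Cert.step [1, 0, 2, 1, 0, 1, 3, 2, 1, 5, 3, 2, 3, 1, 0] (Cert.fail)),
  (1, Cert.step [1, 2, 5, 1, 0, 1, 5, 2, 1] (Cert.step [4, 3, 2, 1, 3, 2, 4, 3, 2, 5, 1, 0, 2, 1, 3, 2, 3, 4, 0, 1, 2, 3] (Cert.fail))),
  (1, Cert.step [1, 2, 3, 4, 3, 2, 1, 0, 1, 5, 1, 2, 3, 1, 2, 1, 0, 1, 5, 4, 3, 1, 2, 3, 0, 1] (Cert.fail)),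
  (1, Cert.fail),
  (1, Cert.step [2, 6, 1, 0, 2, 3, 2, 5, 1, 0, 1, 3, 2, 3, 1, 2, 3, 2, 1, 6, 5, 2] (Cert.fail)),
  (1, Cert.step [2, 3, 1, 5, 1, 2, 3, 2, 1, 4, 3, 2, 3, 4, 2, 3, 4, 0, 1, 2, 3, 2, 1, 0, 1, 2] (Cert.fail)),
  (1, Cert.step [1, 2, 1, 3, 5, 1, 2, 3, 4, 1, 0, 1, 2, 0, 1] (Cert.fail)),
  (1, Cert.fail),
  (1, Cert.step [1, 0, 2, 1, 0, 1, 3, 5, 2, 1, 5, 3, 2, 3, 4, 1] (Cert.fail)),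
  (1, Cert.step [1, 5, 6, 1, 2, 3, 2, 1, 0, 1, 6, 0, 1, 5, 2, 3, 2, 1, 6, 5, 4, 1, 2] (Cert.fail)),
  (1, Cert.fail),
  (1, Cert.step [1, 2, 3, 6, 1, 5, 1, 2, 3, 6, 1, 2, 0, 1, 0, 1, 6, 2, 3, 2, 1, 5, 6] (Cert.fail)),
  (1, Cert.step [0, 2, 6, 1, 2, 3, 2, 5, 1, 0, 2, 3, 1, 2, 0, 1, 6, 3, 4] (Cert.fail)),
  (1, Cert.fail),
  (1, Cert.step [0, 1, 2, 3, 2, 4, 3, 5, 1, 2, 3, 4, 2, 3, 4, 0, 1, 2, 3, 2, 1, 0, 1, 2] (Cert.fail)),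
  (1, Cert.step [3, 2, 3, 2, 1, 0, 1, 2, 3, 5, 1, 0, 1, 2, 3, 4, 3, 2, 3, 0, 1, 0, 1, 2, 0, 1] (Cert.fail)),
  (1, Cert.step [6, 5, 1, 0, 2, 1, 0, 3, 2, 1, 5, 2, 3, 2, 1, 6, 3, 4] (Cert.fail)),
  (1, Cert.step [2, 0] (Cert.fail)),
  (2, Cert.fail),
  (1, Cert.step [1, 2, 1, 0, 1, 0, 3, 2, 1, 5, 2, 3, 2, 3, 1, 2, 0] (Cert.fail)),
  (1, Cert.step [0, 1, 2, 1, 3, 2, 5, 1, 0, 1, 2, 3, 1, 2, 3, 1, 2, 3, 1] (Cert.fail)),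
  (1, Cert.step [1, 0, 1, 2, 5, 1, 2, 3, 2, 0, 1, 0, 1, 2, 3, 2, 3, 1] (Cert.step [1, 0, 2, 1, 0, 1, 2, 4, 3, 2, 1, 3, 2, 5, 4, 3, 1, 2, 3, 4] (Cert.fail))),
  (1, Cert.step [1, 2, 3, 6, 5, 1, 2, 6, 1, 5, 1, 6, 3, 2, 1, 5, 3, 2, 1, 6, 3, 4, 3, 1] (Cert.fail)),
  (1, Cert.step [0, 1, 2, 1, 3, 2, 1, 0, 1, 3, 2, 0, 1, 5, 3, 2, 3, 2, 1, 0] (Cert.fail)),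
  (1, Cert.step [0, 1, 0, 5, 1, 0, 1] (Cert.fail)),
  (1, Cert.step [2, 1, 0, 5, 1, 0, 1, 5, 3] (Cert.fail)),
  (1, Cert.step [1, 2, 3, 4, 5, 1, 2, 3, 2, 1, 5, 4, 3, 2, 3, 1] (Cert.fail)),
  (1, Cert.step [1, 0, 1, 5, 0, 1, 2, 3] (Cert.fail)),
  (1, Cert.fail),
  (1, Cert.step [0, 1, 2, 3, 4, 5, 1, 2, 3, 2, 1, 5, 4, 3, 1, 2, 1] (Cert.fail)),
  (1, Cert.step [2, 3, 6, 1, 0, 2, 1, 0, 1, 6, 1, 5, 2, 1, 6, 3, 2, 1, 5, 3, 2, 1] (Cert.fail)),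
  (1, Cert.step [1, 0, 5, 4, 1, 0, 1, 0] (Cert.fail)),
  (1, Cert.step [1, 2, 1, 0, 5, 1, 2, 3, 2, 0, 1, 5, 2, 3, 2, 1] (Cert.fail)),
  (1, Cert.step [0, 2, 1, 0, 1, 2, 3, 2, 5, 3, 2, 3, 1, 2, 3, 1] (Cert.fail)),
  (1, Cert.fail),
  (1, Cert.step [5, 1, 0, 1, 2, 1, 0, 3, 2, 1, 0, 1, 2, 3, 2, 1, 0] (Cert.fail)),
  (1, Cert.fail),
  (1, Cert.step [1, 2, 1, 3, 2, 1, 3, 2, 5, 1, 2, 3, 2, 1, 0, 1, 5, 1, 2, 3, 2, 1] (Cert.fail)),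
  (1, Cert.step [2, 1, 0, 1, 5, 0, 1, 2, 0] (Cert.fail)),
  (1, Cert.step [0, 5, 2, 3] (Cert.fail)),
  (1, Cert.step [1, 2, 3, 5, 1, 0, 2, 1, 3, 2, 0, 1, 5, 2, 0, 1, 0] (Cert.fail)),
  (2, Cert.fail),
  (1, Cert.step [6, 1, 2, 3, 4, 5, 1, 2, 3, 2, 1, 5, 4, 3, 2, 1, 6, 2] (Cert.fail)),
  (1, Cert.step [1, 2, 1, 3, 4, 5, 1, 2, 3, 2, 1, 5, 3, 4, 3, 2, 3, 1] (Cert.fail)),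
  (2, Cert.fail),
  (1, Cert.step [1, 5, 6, 1, 2, 3, 2, 1, 0, 1, 6, 0, 1, 5, 2, 3, 2, 1, 6, 5, 4, 1, 2] (Cert.fail)),
  (1, Cert.step [1, 0, 2, 1, 0, 3, 5, 1, 2, 5, 3, 1, 2, 3, 2, 1, 0, 1] (Cert.fail)),
  (1, Cert.step [2, 6, 1, 2, 3, 4, 5, 1, 2, 3, 2, 1, 5, 4, 3, 2, 1, 6, 5] (Cert.fail)),
  (1, Cert.step [1, 2, 5, 1, 0, 2, 1, 5, 2, 3, 1, 2] (Cert.fail)),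
  (1, Cert.step [6, 1, 2, 3, 4, 5, 1, 2, 3, 2, 1, 5, 4, 3, 2, 1, 6, 2] (Cert.fail)),
  (1, Cert.step [1, 2, 5, 1, 0, 1, 5, 1, 2, 1] (Cert.fail)),
  (1, Cert.step [0, 1, 2, 1, 3, 4, 5, 1, 2, 3, 2, 1, 5, 4, 3, 2, 3, 1] (Cert.step [4, 3, 2, 1, 0, 1, 5, 0, 1, 2, 3, 4, 3] (Cert.fail))),
  (1, Cert.step [5, 1, 0, 2, 1, 0, 1, 3, 2, 3, 1, 2, 0, 1, 0, 1] (Cert.fail)),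
  (1, Cert.step [2, 6, 1, 2, 3, 2, 5, 1, 0, 2, 3, 1, 2, 0, 1, 6, 3, 4] (Cert.fail)),
  (1, Cert.step [0, 1, 2, 1, 3, 2, 5, 1, 0, 2, 1, 5, 3, 2, 1, 0, 1, 0] (Cert.fail)),
  (1, Cert.fail),
  (1, Cert.step [6, 1, 0, 1, 2, 3, 5, 1, 2, 0, 1, 5, 2, 3, 2, 1, 6] (Cert.fail)),
  (2, Cert.fail),
  (1, Cert.step [1, 5, 6, 1, 2, 3, 2, 5, 1, 0, 6, 1, 0, 1, 2, 3, 2, 1, 6, 5, 1] (Cert.fail)),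
  (1, Cert.step [1, 2, 1, 0, 3, 2, 4, 3, 5, 1, 0, 2, 3, 4, 3, 2, 3, 4, 1, 2, 3, 2, 1, 0, 1] (Cert.fail)),
  (1, Cert.fail),
  (1, Cert.step [1, 2, 1, 5, 1, 2, 0, 1, 5, 2, 1, 0] (Cert.fail)),
  (2, Cert.fail),
  (1, Cert.step [1, 0, 2, 1, 0, 3, 2, 1, 5, 2, 3, 2, 3, 4, 1, 0] (Cert.step [4, 3, 2, 1, 3, 2, 3, 2, 5, 1, 0, 2, 1, 3, 2, 3, 4, 0, 1, 2, 3] (Cert.step [1, 3, 2, 4, 3, 2, 1, 0, 3, 2, 1, 3, 0, 1, 2, 3, 4, 1, 2, 3, 0, 1, 0] (Cert.done [0, 1, 2, 1, 3, 4, 5, 0, 1, 2, 1, 3, 4, 5, 0, 1, 2, 1, 3, 4, 5, 0, 1, 2, 1, 3, 4, 5, 0, 1, 2, 1, 3, 4, 5, 0, 1, 2, 1, 3, 4, 5])))),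
  (1, Cert.step [1, 0, 2, 1, 0, 1, 3, 2, 0, 1, 5, 3, 2, 1, 0] (Cert.fail)),
  (1, Cert.step [1, 0, 2, 1, 0, 5, 1, 2, 3, 2, 5, 1, 0, 1, 2, 3, 1, 2, 1] (Cert.fail)),
  (1, Cert.fail),
  (1, Cert.step [1, 0, 2, 5, 1, 0, 2, 3, 1, 2, 0, 1, 5, 3, 2, 1] (Cert.fail)),
  (1, Cert.step [1, 2, 1, 3, 2, 5, 1, 0, 2, 3, 1, 2, 3, 4, 0, 1, 0] (Cert.fail)),
  (1, Cert.step [0, 6, 1, 2, 3, 5, 1, 2, 6, 1, 5, 6, 3, 2, 1, 6, 4, 0, 1, 2, 3, 0, 1] (Cert.fail)),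
  (1, Cert.step [1, 2, 3, 5, 6, 1, 2, 3, 2, 1, 0, 1, 6, 2, 3, 1, 2, 0, 1, 5, 6, 1, 2] (Cert.fail)),
  (1, Cert.step [1, 0, 2, 1, 0, 1, 2, 3, 2, 1, 5, 3, 2, 1, 0] (Cert.fail)),
  (1, Cert.step [1, 2, 1, 3, 2, 1, 0, 1, 3, 2, 0, 1, 5, 3, 2, 3, 2, 1, 0] (Cert.fail)),
  (1, Cert.step [1, 0, 2, 5, 1, 2, 3, 2, 0, 1, 2, 3, 2, 1, 5, 1, 0] (Cert.fail)),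
  (1, Cert.fail),
  (1, Cert.step [1, 2, 3, 2, 1, 0, 1, 2, 3, 2, 0, 1, 5, 2, 1, 0, 1] (Cert.fail)),
  (1, Cert.step [1, 2, 3, 2, 5, 1, 0, 2, 3, 1, 2, 3, 0, 1, 2] (Cert.fail)),
  (1, Cert.step [2, 6, 1, 0, 1, 0, 5, 1, 6, 2, 3, 2] (Cert.fail)),
  (1, Cert.step [2, 6, 1, 0, 2, 3, 5, 1, 2, 3, 2, 1, 5, 3, 2, 3, 2, 1, 6, 4] (Cert.fail)),
  (1, Cert.step [0, 1, 2, 3, 5, 1, 0, 2, 1, 3, 0, 1, 2, 3, 4, 0, 1, 0] (Cert.fail)),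
  (1, Cert.step [1, 2, 6, 1, 5, 1, 2, 3, 2, 3, 6, 1, 2, 3, 0, 1, 2, 0, 1, 6, 2, 1] (Cert.step [1, 0, 2, 1, 4, 0, 1, 2, 3, 2, 1, 5, 3, 1, 2, 3, 4, 3, 1] (Cert.fail))),
  (1, Cert.step [0, 1, 2, 1, 3, 2, 5, 1, 0, 2, 3, 4, 1, 2, 3, 0, 1, 0] (Cert.fail)),
  (2, Cert.fail),
  (1, Cert.step [1, 0, 5, 1, 0, 1, 0] (Cert.fail)),
  (1, Cert.fail),
  (1, Cert.step [2, 3, 6, 1, 2, 3, 2, 5, 1, 2, 3, 0, 1, 2, 0, 1, 6, 4, 0] (Cert.fail)),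
  (1, Cert.step [2, 1, 0, 3, 2, 1, 0, 3, 1, 2, 0, 1, 5, 3, 2, 1] (Cert.fail)),
  (2, Cert.fail),
  (1, Cert.step [2, 3, 6, 1, 2, 3, 4, 5, 1, 2, 3, 2, 1, 5, 4, 3, 2, 1, 6, 2] (Cert.fail)),
  (1, Cert.step [1, 2, 1, 3, 2, 4, 3, 2, 5, 1, 2, 3, 2, 1, 2, 3, 4, 2, 3, 1, 2, 3, 1, 2, 1, 0] (Cert.fail)),
  (1, Cert.step [1, 2, 3, 2, 5, 1, 0, 2, 3, 2, 1, 5, 2, 0, 1] (Cert.fail)),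
  (1, Cert.step [6, 1, 2, 3, 4, 5, 1, 2, 3, 2, 1, 5, 4, 3, 2, 1, 6, 3] (Cert.fail)),
  (1, Cert.step [0, 2, 1, 0, 3, 2, 1, 3, 2, 0, 1, 5, 2, 3, 1, 2, 1, 0] (Cert.fail)),
  (1, Cert.step [2, 1, 3, 4, 3, 2, 5, 1, 2, 3, 2, 4, 3, 2, 1, 5, 4, 3, 1, 2, 3, 1, 2] (Cert.fail)),
  (1, Cert.fail),
  (1, Cert.step [6, 1, 0, 2, 1, 3, 2, 5, 1, 2, 3, 2, 1, 5, 2, 3, 1, 2, 3, 2, 1, 6, 4, 3] (Cert.fail)),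
  (1, Cert.step [6, 1, 0, 2, 1, 0, 3, 5, 1, 2, 5, 3, 1, 2, 3, 2, 1, 0, 1, 6] (Cert.fail)),
  (1, Cert.step [2, 3, 6, 1, 0, 2, 1, 3, 2, 0, 1, 5, 2, 3, 2, 1, 6] (Cert.fail)),
  (1, Cert.fail),
  (1, Cert.step [1, 2, 1, 3, 5, 1, 2, 3, 0, 1, 0, 1, 2, 0, 1] (Cert.fail)),
  (1, Cert.fail),
  (1, Cert.step [0, 1, 6, 1, 2, 3, 5, 1, 2, 3, 6, 5, 1, 5, 6, 2, 1, 5, 6, 3, 2, 3, 4, 1] (Cert.fail)),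
  (1, Cert.step [1, 2, 3, 5, 1, 2, 3, 2, 1, 2, 0, 1, 5, 2, 0, 1] (Cert.fail)),
  (1, Cert.step [2, 1, 5, 6, 1, 2, 3, 2, 1, 0, 1, 6, 0, 1, 5, 2, 3, 2, 1, 6, 5, 3, 1] (Cert.fail)),
  (1, Cert.fail),
  (1, Cert.step [0, 6, 1, 0, 1, 2, 1, 3, 2, 6, 1, 5, 6, 1, 0, 1, 6, 2, 3, 1, 2, 0, 1, 6, 4, 3] (Cert.fail)),
  (1, Cert.step [0, 6, 1, 0, 2, 3, 5, 1, 2, 3, 6, 1, 2, 1, 6, 2, 1, 5, 2, 3, 2, 1, 6, 4, 3, 1] (Cert.step [3, 4, 3, 2, 3, 4, 5, 6, 1, 2, 5, 3, 1, 2, 3, 2, 1, 0, 1, 2, 0, 1, 6, 4, 3] (Cert.step [0, 1, 0, 3, 2, 1, 4, 3, 2, 1, 0, 3, 1, 2, 3, 0, 1, 2, 3, 4, 2, 3, 1] (Cert.done [0, 1, 2, 1, 3, 4, 5, 0, 1, 2, 1, 3, 4, 5, 0, 1, 2, 1, 3, 4, 5, 0, 1, 2, 1, 3, 4, 5, 0, 1, 2, 1, 3, 4, 5, 0,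 1, 2, 1, 3, 4, 5, 0, 1, 2, 1, 3, 4, 5, 0, 1, 2, 1, 3, 4, 5, 0, 1, 2, 1, 3, 4, 5, 0, 1, 2, 1, 3, 4, 5])))),
  (1, Cert.step [1, 0, 2, 1, 0, 3, 5, 1, 2, 5, 3, 1, 2, 3, 2, 1, 0, 1, 0] (Cert.fail)),
  (1, Cert.step [1, 5, 1, 0, 2, 1, 3, 2, 3, 2, 1, 5, 3, 2, 3, 4, 2, 1] (Cert.fail)),
  (1, Cert.fail),
  (1, Cert.step [2, 1, 0, 5, 1, 0, 1, 5, 2] (Cert.fail)),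
  (1, Cert.step [2, 1, 0, 3, 5, 1, 0, 1, 2, 3] (Cert.fail)),
  (1, Cert.step [1, 0, 2, 5, 1, 0, 2, 1, 6, 5, 6, 3, 2, 1, 5, 3, 2, 1] (Cert.fail)),
  (1, Cert.step [1, 2, 1, 3, 2, 3, 5, 1, 2, 3, 2, 1, 5, 3, 4, 2, 0, 1, 0] (Cert.fail)),
  (1, Cert.step [0, 1, 2, 3, 5, 1, 2, 3, 0, 1, 0, 1, 2, 0, 1] (Cert.fail)),
  (1, Cert.fail),
  (1, Cert.step [1, 2, 3, 2, 5, 1, 0, 2, 3, 4, 1, 2, 3, 0, 1] (Cert.fail)),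
  (1, Cert.step [1, 2, 1, 0, 3, 2, 4, 3, 5, 1, 0, 2, 3, 4, 3, 2, 1, 5, 3, 2, 3, 4, 3, 2, 0, 1] (Cert.fail)),
  (1, Cert.step [6, 1, 0, 2, 5, 1, 2, 3, 2, 0, 1, 2, 3, 2, 1, 5, 1, 6] (Cert.fail)),
  (1, Cert.step [2, 1, 0, 1, 0, 1, 5, 1] (Cert.fail)),
  (1, Cert.step [6, 1, 0, 2, 1, 0, 3, 5, 1, 2, 5, 3, 1, 2, 3, 2, 1, 0, 1, 6] (Cert.fail)),
  (1, Cert.step [0, 2, 1, 0, 5, 1, 0, 1, 2, 3] (Cert.fail)),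
  (1, Cert.step [6, 1, 2, 3, 2, 5, 1, 0, 2, 3, 1, 2, 0, 1, 6, 3, 2, 0] (Cert.fail)),
  (3, Cert.fail),
  (1, Cert.step [6, 1, 2, 3, 2, 5, 1, 2, 3, 0, 1, 2, 0, 1, 6, 3, 0] (Cert.fail)),
  (1, Cert.step [1, 0, 2, 6, 1, 0, 1, 2, 3, 2, 3, 5, 1, 0, 2, 1, 6, 0, 1, 5, 2, 3, 2, 1, 6, 4, 3, 1] (Cert.step [3, 4, 3, 2, 1, 0, 1, 5, 3, 0, 1, 2, 3, 4, 3] (Cert.step [0, 1, 0, 3, 2, 1, 4, 3, 2, 1, 0, 3, 1, 2, 3, 0, 1, 2, 3, 4, 2, 3, 1] (Cert.done [0, 1, 2, 1, 3, 4, 5, 0, 1, 2, 1, 3, 4, 5, 0, 1, 2, 1, 3, 4, 5, 0, 1, 2, 1, 3, 4, 5, 0, 1, 2, 1, 3, 4, 5])))),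
  (3, Cert.fail),
  (1, Cert.step [1, 0, 2, 1, 0, 3, 5, 1, 2, 1, 5, 1, 2, 3, 2, 3, 4, 1, 0] (Cert.fail)),
  (1, Cert.step [3, 2, 1, 0, 1, 3, 2, 3, 5, 1, 0, 1, 2, 3, 4, 3, 2, 3, 2, 1, 0, 1, 2, 3, 0, 1] (Cert.fail)),
  (1, Cert.fail),
  (1, Cert.step [2, 6, 1, 0, 1, 0, 5, 1, 6, 2, 3] (Cert.fail)),
  (1, Cert.step [0, 2, 6, 1, 0, 1, 2, 3, 2, 5, 3, 2, 3, 2, 1, 6, 2, 3] (Cert.fail)),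
  (1, Cert.step [2, 1, 3, 2, 3, 5, 1, 2, 3, 1, 0, 1, 2, 3, 0, 1] (Cert.fail)),
  (2, Cert.fail),
  (1, Cert.step [2, 6, 1, 2, 3, 2, 5, 1, 0, 2, 3, 2, 1, 5, 2, 0, 1, 6] (Cert.fail)),
  (1, Cert.step [2, 1, 6, 1, 2, 3, 5, 1, 2, 6, 1, 5, 1, 6, 3, 2, 1, 5, 6, 3, 4, 2, 3, 1, 0] (Cert.fail)),
  (1, Cert.step [1, 2, 1, 0, 3, 2, 4, 3, 5, 1, 0, 2, 3, 4, 3, 2, 3, 1, 2, 3, 4, 3, 2, 1, 0, 1] (Cert.step [1, 0, 1, 0, 2, 3, 4, 1, 2, 3, 4, 2, 3, 0, 1, 2, 0, 1, 0, 1] (Cert.fail))),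
  (1, Cert.step [1, 2, 3, 5, 1, 0, 2, 1, 3, 2, 0, 1, 5, 2, 0, 1, 0] (Cert.fail)),
  (1, Cert.step [6, 1, 0, 2, 1, 0, 3, 2, 1, 5, 2, 3, 2, 1, 6, 2, 3, 0] (Cert.fail)),
  (1, Cert.fail),
  (1, Cert.step [1, 0, 2, 1, 0, 1, 3, 2, 0, 1, 5, 3, 1, 2, 1, 0] (Cert.fail)),
  (1, Cert.step [0, 2, 3, 2, 1, 4, 3, 2, 1, 3, 5, 1, 2, 3, 4, 3, 2, 3, 1, 2, 0, 1, 0, 1] (Cert.fail)),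
  (1, Cert.step [1, 0, 2, 3, 2, 5, 1, 2, 3, 2, 1, 5, 3, 4, 0, 1, 2, 1] (Cert.fail)),
  (1, Cert.step [1, 2, 3, 2, 1, 0, 1, 2, 6, 1, 5, 6, 1, 0, 1, 6, 3, 2, 3, 1, 0, 1] (Cert.fail)),
  (1, Cert.step [0, 6, 1, 2, 3, 2, 5, 1, 2, 3, 0, 1, 2, 0, 1, 6, 2] (Cert.fail)),
  (1, Cert.step [5, 1, 0, 1, 5, 4, 3, 0, 1] (Cert.fail)),
  (1, Cert.fail),
  (1, Cert.step [1, 0, 1, 2, 3, 5, 1, 0, 1, 2, 0, 1, 5, 3, 2, 1] (Cert.fail)),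
  (1, Cert.fail),
  (1, Cert.step [1, 0, 2, 1, 3, 2, 1, 0, 5, 1, 0, 1, 5, 3, 2, 3, 2, 1, 0, 1, 2, 1] (Cert.fail)),
  (1, Cert.step [1, 0, 1, 0, 2, 1, 3, 2, 6, 1, 5, 0, 1, 0, 1, 6, 1, 5, 3, 2, 3, 1] (Cert.fail)),
  (1, Cert.fail),
  (1, Cert.step [1, 2, 1, 3, 5, 1, 0, 2, 3, 1, 0, 1, 2, 3, 0, 1] (Cert.fail)),
  (1, Cert.step [6, 1, 0, 1, 2, 3, 5, 1, 2, 0, 1, 5, 2, 3, 2, 1, 6] (Cert.fail)),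
  (1, Cert.step [6, 1, 0, 2, 5, 1, 0, 2, 3, 1, 2, 0, 1, 5, 3, 2, 1, 6] (Cert.step [4, 3, 2, 3, 4, 6, 1, 2, 3, 2, 5, 1, 0, 2, 3, 1, 2, 0, 1, 5, 6, 3, 4, 2, 3] (Cert.fail))),
  (1, Cert.step [0, 1, 2, 3, 2, 4, 5, 1, 2, 3, 0, 1, 5, 4, 3, 2, 1, 0, 1] (Cert.fail)),
  (3, Cert.fail),
  (1, Cert.step [1, 2, 3, 2, 5, 1, 0, 2, 1, 5, 3, 2, 1, 0, 1, 0] (Cert.fail)),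
  (2, Cert.fail),
  (1, Cert.step [0, 6, 1, 0, 2, 3, 2, 5, 1, 2, 3, 2, 1, 5, 3, 2, 0, 1, 6, 4] (Cert.fail)),
  (1, Cert.step [2, 1, 3, 2, 5, 1, 2, 0, 1, 5, 2, 1] (Cert.fail)),
  (1, Cert.step [0, 6, 1, 2, 3, 2, 5, 1, 2, 3, 0, 1, 2, 0, 1, 6, 4] (Cert.fail)),
  (1, Cert.fail),
  (1, Cert.step [3, 2, 1, 0, 1, 3, 2, 3, 5, 1, 0, 1, 2, 5, 3, 4, 3, 2, 3, 1, 0, 1, 2, 0, 1] (Cert.fail)),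
  (1, Cert.step [0, 1, 2, 1, 3, 2, 5, 1, 0, 2, 3, 4, 1, 2, 3, 0, 1] (Cert.fail)),
  (1, Cert.fail),
  (1, Cert.step [1, 0, 1, 2, 3, 2, 1, 0, 5, 1, 2, 3, 1, 0, 1, 5, 0, 1, 2, 3, 4, 1, 2, 1] (Cert.fail)),
  (1, Cert.fail),
  (1, Cert.step [2, 6, 1, 2, 3, 2, 4, 3, 5, 1, 2, 3, 2, 3, 4, 2, 3, 1, 2, 0, 1, 6, 3, 2, 0] (Cert.fail)),
  (1, Cert.step [1, 2, 6, 1, 0, 2, 1, 0, 3, 2, 1, 6, 3, 2, 3, 2, 1, 5, 1, 6, 2, 1] (Cert.fail)),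
  (1, Cert.fail),
  (1, Cert.step [1, 2, 1, 3, 4, 5, 1, 2, 3, 4, 2, 3, 1, 2, 0, 1, 0, 1] (Cert.step [0, 1, 0, 4, 3, 2, 1, 3, 0, 1, 2, 3, 4, 1, 2, 3, 0, 1, 0, 1] (Cert.fail))),
  (1, Cert.step [0, 1, 2, 3, 5, 1, 2, 3, 0, 1, 0, 1, 2, 0, 1] (Cert.fail)),
  (1, Cert.step [6, 1, 2, 3, 2, 5, 1, 2, 3, 0, 1, 2, 0, 1, 6, 0] (Cert.fail)),
  (1, Cert.step [0, 6, 1, 2, 3, 4, 5, 1, 2, 3, 2, 1, 5, 4, 3, 2, 1, 6, 2] (Cert.fail)),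
  (1, Cert.step [6, 1, 0, 2, 1, 0, 3, 2, 3, 1, 5, 2, 3, 2, 0, 1, 6, 4, 2] (Cert.fail)),
  (1, Cert.step [1, 0, 1, 2, 3, 5, 1, 2, 0, 1, 2, 3, 2, 1, 5, 1] (Cert.fail)),
  (1, Cert.step [1, 2, 3, 5, 1, 2, 3, 1, 0, 1, 2, 0, 1, 5] (Cert.fail)),
  (1, Cert.step [0, 5, 1, 0, 1, 2, 1, 3, 2, 0, 1, 0, 1, 2, 3, 2, 3, 1] (Cert.fail)),
  (1, Cert.fail),
  (1, Cert.step [0, 1, 0, 1, 2, 3, 5, 1, 2, 0, 1, 5, 2, 3, 2, 1] (Cert.fail)),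
  (1, Cert.fail),
  (1, Cert.step [2, 6, 1, 2, 3, 5, 1, 2, 3, 2, 1, 0, 1, 2, 0, 1, 6, 4] (Cert.fail)),
  (1, Cert.step [2, 6, 1, 2, 3, 2, 5, 1, 2, 3, 0, 1, 2, 0, 1, 6, 5] (Cert.fail)),
  (1, Cert.step [1, 0, 1, 2, 3, 2, 5, 1, 0, 1, 2, 3, 2, 3, 1, 2, 3, 0, 1] (Cert.fail)),
  (1, Cert.step [1, 0, 2, 3, 2, 5, 1, 0, 1, 0, 2, 3, 1, 2, 3, 1, 0, 1, 2, 1] (Cert.fail)),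
  (1, Cert.step [2, 3, 2, 1, 5, 3, 0, 1, 0, 1] (Cert.fail)),
  (1, Cert.step [0, 1, 2, 1, 3, 5, 1, 0, 2, 3, 1, 0, 1, 2, 3, 0, 1, 0] (Cert.fail)),
  (1, Cert.fail),
  (1, Cert.step [0, 1, 6, 1, 2, 3, 5, 1, 2, 3, 6, 5, 1, 5, 6, 2, 1, 5, 6, 3, 2, 3, 4, 1] (Cert.fail)),
  (1, Cert.step [1, 0, 1, 2, 3, 2, 5, 1, 0, 1, 2, 3, 2, 3, 4, 1, 2, 0, 1] (Cert.fail)),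
  (2, Cert.fail),
  (1, Cert.step [2, 1, 0, 5, 1, 0, 1, 5, 3] (Cert.fail)),
  (1, Cert.step [2, 1, 0, 5, 3, 1, 0, 1] (Cert.fail)),
  (1, Cert.step [0, 1, 2, 1, 0, 1, 3, 2, 3, 0, 1, 2, 3, 2, 1, 0, 1, 5] (Cert.fail)),
  (1, Cert.step [2, 6, 1, 2, 3, 2, 5, 1, 2, 3, 0, 1, 2, 0, 1, 6, 3, 0] (Cert.fail)),
  (1, Cert.fail),
  (1, Cert.step [0, 1, 2, 1, 3, 5, 1, 2, 3, 1, 0, 1, 2, 3, 0, 1] (Cert.fail)),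
  (1, Cert.step [1, 2, 3, 5, 1, 2, 3, 1, 0, 1, 2, 0, 1, 0] (Cert.fail)),
  (1, Cert.fail),
  (1, Cert.step [6, 1, 0, 2, 1, 0, 3, 2, 1, 5, 2, 3, 2, 1, 6, 3, 0] (Cert.fail)),
  (1, Cert.step [1, 0, 1, 2, 6, 1, 5, 6, 1, 0, 1, 6, 2, 3, 0, 1, 2] (Cert.fail)),
  (1, Cert.step [0, 6, 1, 0, 2, 3, 2, 5, 1, 2, 3, 2, 1, 5, 3, 2, 0, 1, 6, 4] (Cert.step [3, 4, 3, 2, 1, 5, 3, 0, 1, 0, 1, 2, 3, 4, 3] (Cert.fail))),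
  (1, Cert.step [1, 2, 1, 5, 1, 0, 1, 5, 2, 3, 1, 2, 0] (Cert.fail)),
  (1, Cert.fail),
  (1, Cert.step [1, 0, 2, 1, 0, 3, 2, 3, 6, 1, 6, 1, 5, 6, 2, 3, 4, 1, 2, 1, 0] (Cert.fail)),
  (1, Cert.step [2, 0] (Cert.fail)),
  (1, Cert.step [1, 0, 1, 0, 2, 1, 3, 2, 6, 5, 6, 3, 1, 0, 1, 2, 0, 1] (Cert.fail)),
  (1, Cert.step [2, 3, 2, 6, 1, 5, 0, 1, 0, 1, 6] (Cert.fail)),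
  (1, Cert.step [0, 2, 1, 3, 2, 3, 2, 5, 1, 2, 3, 4, 0, 1, 2, 0, 1] (Cert.fail)),
  (1, Cert.step [0, 2, 6, 1, 2, 3, 2, 5, 1, 0, 2, 3, 1, 2, 0, 1, 6, 4, 2] (Cert.step [1, 3, 2, 1, 3, 2, 1, 0, 4, 1, 2, 3, 4, 2, 1, 0, 1, 2, 3, 2, 3, 1] (Cert.fail))),
  (1, Cert.fail),
  (1, Cert.step [0, 1, 2, 3, 4, 5, 1, 2, 3, 2, 1, 5, 4, 3, 2, 3, 1, 2] (Cert.fail)),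
  (1, Cert.step [0, 1, 0, 2, 1, 3, 2, 5, 1, 2, 3, 2, 1, 5, 2, 3, 1, 2, 3, 4, 1, 2, 1] (Cert.fail)),
  (1, Cert.step [6, 1, 2, 3, 5, 1, 2, 3, 2, 1, 0, 1, 2, 0, 1, 6, 3] (Cert.fail)),
  (1, Cert.step [6, 1, 0, 1, 0, 5, 1, 6, 2, 3, 2] (Cert.fail)),
  (1, Cert.step [0, 1, 2, 3, 2, 4, 5, 1, 2, 3, 4, 3, 0, 1, 2, 3, 0, 1, 2] (Cert.fail)),
  (1, Cert.fail),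
  (1, Cert.step [6, 1, 0, 2, 1, 0, 3, 2, 1, 5, 2, 3, 2, 1, 6, 5, 3] (Cert.fail)),
  (1, Cert.step [1, 0, 5, 4, 3, 1, 0, 1, 0] (Cert.fail)),
  (1, Cert.step [1, 0, 1, 2, 1, 3, 2, 1, 0, 5, 1, 0, 2, 1, 5, 3, 0, 1, 2, 3, 4, 2, 1, 0] (Cert.fail)),
  (1, Cert.step [2, 1, 0, 3, 2, 6, 1, 0, 1, 6, 5, 1, 6, 2, 3, 1, 0, 1] (Cert.fail)),
  (1, Cert.step [1, 4, 5, 1, 0, 1, 0, 1, 2, 3] (Cert.fail)),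
  (1, Cert.step [1, 5, 1, 2, 3, 2, 1, 4, 3, 2, 3, 4, 2, 3, 4, 0, 1, 2, 3, 2, 1, 0, 1, 2] (Cert.fail)),
  (2, Cert.fail),
  (1, Cert.step [1, 2, 1, 3, 4, 5, 1, 2, 3, 2, 1, 5, 4, 3, 2, 3, 4, 1] (Cert.fail)),
  (1, Cert.step [2, 3, 6, 1, 2, 5, 1, 0, 1, 5, 2, 1, 6, 3] (Cert.step [0, 1, 0, 2, 1, 0, 4, 2, 3, 2, 1, 0, 1, 2, 3, 2, 3, 1, 2, 3, 4] (Cert.fail))),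
  (1, Cert.fail),
  (1, Cert.step [1, 2, 1, 0, 3, 2, 4, 3, 5, 1, 0, 2, 3, 4, 3, 2, 3, 4, 1, 2, 3, 2, 3, 1, 0, 1] (Cert.fail)),
  (1, Cert.step [2, 1, 0, 5, 4, 1, 0, 1] (Cert.fail)),
  (1, Cert.step [2, 3, 6, 1, 2, 3, 4, 5, 1, 2, 3, 2, 1, 5, 4, 3, 2, 1, 6, 4] (Cert.fail)),
  (1, Cert.step [1, 2, 5, 1, 0, 1, 5, 2, 3, 1] (Cert.fail)),
  (1, Cert.fail),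
  (1, Cert.step [1, 2, 3, 2, 5, 1, 0, 2, 1, 5, 3, 2, 3, 1, 0, 1] (Cert.fail)),
  (1, Cert.fail),
  (1, Cert.step [2, 3, 2, 6, 1, 5, 6, 1, 0, 1, 6, 5, 1, 2] (Cert.fail)),
  (1, Cert.step [0, 1, 2, 1, 0, 1, 3, 2, 3, 0, 1, 2, 3, 2, 1, 0, 1, 5] (Cert.fail)),
  (1, Cert.step [1, 0, 2, 5, 1, 0, 2, 1, 2, 3, 2, 1, 5, 3, 2, 1] (Cert.fail)),
  (1, Cert.fail),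
  (1, Cert.step [2, 1, 0, 5, 1, 0, 1, 2] (Cert.step [3, 4, 3, 2, 1, 3, 2, 5, 1, 4, 3, 2, 3, 4, 2, 1, 0, 1, 2, 3, 0, 1] (Cert.step [0, 1, 0, 3, 2, 1, 4, 3, 2, 1, 0, 3, 1, 2, 3, 0, 1, 2, 3, 4, 2, 3, 1] (Cert.done [0, 1, 2, 1, 3, 4, 5, 0, 1, 2, 1, 3, 4, 5, 0, 1, 2, 1, 3, 4, 5])))),
  (1, Cert.step [1, 5, 6, 1, 2, 3, 2, 1, 0, 1, 6, 0, 1, 2, 3, 2, 1, 5, 6, 1, 5, 6, 1] (Cert.fail)),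
  (1, Cert.step [0, 5, 4, 3] (Cert.fail)),
  (1, Cert.step [2, 1, 0, 1, 0, 1, 5, 1] (Cert.fail)),
  (2, Cert.fail),
  (1, Cert.step [4, 3, 0] (Cert.fail)),
  (1, Cert.fail),
  (1, Cert.step [1, 0, 2, 5, 1, 2, 3, 2, 0, 1, 5, 2, 3, 4, 2, 1, 0] (Cert.fail)),
  (1, Cert.step [3, 2, 1, 0, 1, 3, 2, 3, 5, 1, 0, 1, 2, 5, 3, 4, 3, 2, 3, 1, 0, 1, 2, 0, 1, 0] (Cert.fail)),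
  (1, Cert.fail),
  (1, Cert.step [1, 2, 1, 0, 1, 2, 3, 2, 5, 1, 0, 1, 5, 2, 3, 2, 3, 1, 2, 3, 2, 1] (Cert.fail)),
  (2, Cert.fail),
  (1, Cert.step [1, 2, 1, 3, 2, 1, 0, 1, 3, 2, 0, 1, 5, 3, 2, 3, 2, 1, 0] (Cert.fail)),
  (1, Cert.step [6, 1, 2, 3, 2, 5, 1, 0, 2, 3, 1, 2, 0, 1, 6, 4, 2] (Cert.fail)),
  (1, Cert.step [0, 1, 2, 1, 3, 5, 1, 0, 2, 3, 1, 0, 1, 2, 3, 0, 1] (Cert.fail)),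
  (1, Cert.step [1, 0, 2, 5, 1, 2, 3, 2, 0, 1, 5, 2, 3, 1, 2, 1] (Cert.fail)),
  (1, Cert.step [0, 2, 6, 1, 2, 3, 2, 5, 1, 2, 3, 0, 1, 2, 0, 1, 6, 4] (Cert.fail)),
  (3, Cert.fail),
  (1, Cert.step [0, 1, 2, 1, 3, 2, 5, 1, 0, 2, 1, 5, 3, 2, 1, 0, 1, 0] (Cert.fail)),
  (1, Cert.step [0, 1, 0, 1, 2, 3, 5, 1, 2, 0, 1, 5, 2, 3, 2, 1] (Cert.fail)),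
  (1, Cert.step [1, 5, 1, 0, 1, 2, 0, 1, 2, 3, 4, 1] (Cert.fail)),
  (1, Cert.fail),
  (1, Cert.step [5] (Cert.fail)),
  (1, Cert.step [2, 1, 0, 1, 5, 0, 1] (Cert.fail)),
  (2, Cert.fail),
  (1, Cert.step [2, 6, 1, 0, 2, 1, 0, 3, 2, 1, 5, 2, 3, 2, 1, 6, 5, 3] (Cert.fail)),
  (1, Cert.fail),
  (1, Cert.step [2, 3, 0] (Cert.fail)),
  (1, Cert.fail),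
  (1, Cert.step [2, 1, 0, 1, 0, 5, 1, 2, 3, 2] (Cert.fail)),
  (1, Cert.fail),
  (1, Cert.step [1, 5, 6, 1, 2, 3, 2, 1, 0, 1, 6, 0, 1, 5, 2, 3, 2, 1, 6, 5, 1, 2] (Cert.fail)),
  (1, Cert.step [1, 0, 1, 2, 3, 5, 1, 2, 0, 1, 5, 2, 3, 4, 2, 1] (Cert.fail)),
  (1, Cert.step [0, 1, 2, 1, 0, 3, 5, 1, 2, 3, 2, 1, 5, 3, 2, 3, 2, 1] (Cert.fail)),
  (1, Cert.step [1, 5, 6, 1, 2, 3, 2, 1, 0, 1, 6, 0, 1, 5, 2, 3, 2, 1, 6, 5, 1, 0] (Cert.fail)),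
  (1, Cert.step [1, 2, 3, 5, 1, 2, 3, 0, 1, 0, 1, 2, 0, 1] (Cert.fail)),
  (1, Cert.step [6, 1, 5, 1, 0, 2, 1, 3, 2, 3, 2, 1, 5, 3, 2, 3, 2, 1, 6, 4] (Cert.fail)),
  (1, Cert.step [5, 1, 0, 1, 2, 1, 3, 2, 0, 1, 0, 1, 2, 3, 2, 3, 1] (Cert.fail)),
  (1, Cert.step [0, 1, 2, 3, 4, 5, 1, 2, 3, 2, 1, 5, 4, 3, 2, 3, 1] (Cert.fail)),
  (1, Cert.fail),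
  (1, Cert.step [1, 2, 3, 5, 1, 2, 3, 2, 4, 1, 0, 1, 2, 3, 0, 1] (Cert.fail)),
  (1, Cert.step [6, 1, 0, 2, 5, 1, 2, 3, 2, 0, 1, 5, 2, 3, 2, 1, 6, 0] (Cert.fail)),
  (1, Cert.fail),
  (1, Cert.step [0, 1, 0, 2, 1, 0, 3, 2, 3, 6, 1, 6, 1, 5, 6, 2, 3, 4, 1, 2, 1, 0] (Cert.fail)),
  (2, Cert.fail),
  (1, Cert.step [2, 6, 1, 2, 3, 4, 5, 1, 2, 3, 2, 1, 5, 4, 3, 2, 1, 6, 3, 4] (Cert.fail)),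
  (1, Cert.step [2, 1, 3, 5, 6, 1, 2, 5, 1, 0, 6, 1, 2, 0, 1, 6, 5, 2, 1, 6] (Cert.fail)),
  (2, Cert.fail),
  (1, Cert.step [1, 2, 1, 0, 3, 5, 1, 2, 3, 2, 1, 5, 2, 3, 2, 0, 1] (Cert.fail)),
  (1, Cert.fail),
  (1, Cert.step [1, 2, 3, 5, 1, 0, 2, 1, 3, 2, 0, 1, 5, 2, 0, 1] (Cert.fail)),
  (1, Cert.step [0, 1, 0, 2, 1, 3, 2, 5, 1, 2, 3, 2, 1, 5, 2, 3, 1, 2, 3, 4, 1, 2, 1] (Cert.fail)),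
  (1, Cert.step [6, 1, 2, 3, 2, 5, 1, 2, 3, 0, 1, 2, 0, 1, 6, 5] (Cert.fail)),
  (1, Cert.step [6, 1, 0, 2, 5, 1, 2, 3, 2, 0, 1, 5, 2, 3, 2, 1, 6, 5] (Cert.fail)),
  (1, Cert.step [1, 0, 1, 2, 3, 2, 5, 1, 0, 1, 2, 3, 2, 3, 1, 2, 3, 0, 1] (Cert.fail)),
  (2, Cert.fail),
  (1, Cert.step [6, 1, 2, 3, 4, 5, 1, 0, 2, 3, 2, 1, 5, 4, 3, 2, 1, 6, 3] (Cert.fail)),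
  (1, Cert.step [2, 5, 1, 0, 1, 5, 4, 0, 1] (Cert.fail)),
  (1, Cert.step [2, 6, 1, 0, 1, 0, 5, 1, 6, 3, 2, 3] (Cert.fail)),
  (1, Cert.step [0, 1, 0, 1, 0, 2, 1, 3, 2, 3, 1, 0, 1, 2, 0, 1, 5] (Cert.fail)),
  (1, Cert.step [2, 6, 1, 2, 3, 2, 5, 1, 0, 2, 3, 1, 2, 0, 1, 6, 3, 4, 0] (Cert.fail)),
  (1, Cert.step [1, 2, 3, 5, 1, 2, 3, 2, 4, 3, 2, 1, 5, 3, 2, 1] (Cert.fail)),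
  (1, Cert.step [0, 2, 6, 1, 2, 3, 4, 5, 1, 2, 3, 2, 1, 5, 4, 3, 2, 1, 6, 3] (Cert.fail)),
  (1, Cert.step [1, 2, 1, 0, 3, 2, 5, 1, 2, 3, 2, 1, 5, 3, 4, 2, 0, 1] (Cert.step [4, 3, 2, 1, 0, 1, 5, 4, 3, 0, 1, 2, 3, 4] (Cert.fail))),
  (1, Cert.fail),
  (1, Cert.step [1, 0, 4, 5, 1, 0, 1, 2, 0] (Cert.fail)),
  (1, Cert.step [0, 1, 2, 3, 5, 1, 0, 2, 1, 3, 4, 0, 1, 2, 3, 0, 1, 0] (Cert.fail)),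
  (1, Cert.step [1, 2, 1, 3, 2, 5, 1, 0, 2, 1, 5, 3, 2, 1, 0, 1, 0] (Cert.fail)),
  (1, Cert.step [0, 6, 1, 2, 3, 4, 5, 1, 2, 3, 2, 1, 5, 4, 3, 2, 1, 6, 3, 4] (Cert.fail)),
  (1, Cert.step [2, 6, 1, 0, 2, 3, 2, 5, 1, 0, 3, 2, 3, 1, 2, 0, 1, 6, 3, 2] (Cert.fail)),
  (1, Cert.step [2, 1, 3, 2, 3, 5, 1, 2, 3, 1, 0, 1, 2, 0, 1, 5] (Cert.fail)),
  (1, Cert.step [1, 2, 1, 3, 2, 1, 0, 1, 3, 2, 0, 1, 5, 3, 2, 3, 2, 1, 0] (Cert.fail)),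
  (1, Cert.step [0, 1, 0, 1, 4, 5, 0, 1, 2, 3] (Cert.fail)),
  (1, Cert.step [1, 2, 3, 4, 5, 1, 2, 3, 6, 1, 2, 5, 1, 0, 1, 6, 2, 1, 0, 1, 6, 3, 4, 3, 2, 1, 0] (Cert.fail)),
  (1, Cert.fail),
  (1, Cert.step [6, 1, 2, 3, 2, 4, 5, 1, 2, 3, 0, 1, 5, 4, 3, 2, 1, 0, 1, 6] (Cert.fail)),
  (1, Cert.step [5, 6, 1, 0, 2, 3, 2, 5, 1, 2, 3, 2, 1, 5, 3, 2, 0, 1, 6, 4] (Cert.fail)),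
  (1, Cert.fail),
  (1, Cert.step [2, 1, 0, 3, 2, 1, 0, 3, 1, 2, 0, 1, 5, 3, 2, 1, 0] (Cert.fail)),
  (1, Cert.step [0, 1, 2, 3, 5, 1, 0, 2, 1, 3, 0, 1, 2, 3, 0, 1, 2, 0] (Cert.fail)),
  (3, Cert.fail),
  (1, Cert.step [0] (Cert.fail)),
  (1, Cert.step [5] (Cert.fail)),
  (1, Cert.fail),
  (1, Cert.step [6, 1, 0, 2, 1, 0, 1, 2, 3, 2, 1, 5, 3, 2, 1, 6] (Cert.fail)),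
  (1, Cert.step [0, 2, 6, 1, 2, 3, 2, 4, 3, 2, 5, 1, 2, 3, 1, 2, 3, 4, 2, 3, 1, 2, 0, 1, 6, 3, 2, 0] (Cert.fail)),
  (2, Cert.fail),
  (1, Cert.step [0, 2, 6, 1, 2, 3, 2, 5, 1, 0, 2, 3, 1, 2, 0, 1, 6, 4, 3] (Cert.fail)),
  (1, Cert.step [1, 0, 2, 1, 0, 3, 2, 3, 6, 1, 6, 1, 5, 6, 2, 3, 4, 1, 2, 1, 0] (Cert.fail)),
  (1, Cert.step [1, 2, 5, 1, 2, 0, 1, 5, 2, 1] (Cert.fail)),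
  (1, Cert.step [5, 1, 2, 3, 6, 5, 1, 2, 6, 1, 5, 1, 6, 3, 2, 1, 5, 3, 2, 1, 6, 4, 3, 1] (Cert.fail)),
  (1, Cert.step [2, 3, 6, 1, 2, 5, 1, 0, 1, 5, 2, 1, 6, 5] (Cert.fail)),
  (1, Cert.step [1, 0, 1, 0, 1, 5, 1, 2] (Cert.fail)),
  (1, Cert.step [0, 6, 1, 0, 2, 1, 0, 3, 2, 1, 5, 2, 3, 2, 1, 6, 2, 3] (Cert.fail)),
  (1, Cert.step [6, 1, 2, 3, 2, 5, 1, 0, 2, 3, 1, 2, 0, 1, 6, 4, 2] (Cert.fail)),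
  (1, Cert.step [2, 1, 0, 1, 5, 0, 1] (Cert.fail)),
  (1, Cert.step [2, 1, 3, 2, 3, 5, 1, 2, 3, 1, 0, 1, 2, 0, 1, 0] (Cert.fail)),
  (2, Cert.fail),
  (1, Cert.step [6, 1, 0, 2, 1, 0, 5, 1, 2, 3, 2, 5, 1, 0, 1, 2, 3, 2, 1, 5, 6, 3] (Cert.fail)),
  (1, Cert.fail),
  (1, Cert.step [6, 1, 2, 3, 5, 1, 0, 2, 1, 3, 2, 0, 1, 5, 2, 0, 1, 6] (Cert.fail)),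
  (1, Cert.fail),
  (1, Cert.step [1, 0, 2, 1, 0, 1, 3, 6, 5, 6, 2, 1, 5, 3, 2, 3, 4, 1] (Cert.fail)),
  (1, Cert.step [0, 1, 0, 1, 2, 3, 5, 1, 2, 0, 1, 5, 2, 3, 2, 1] (Cert.fail)),
  (1, Cert.fail),
  (1, Cert.step [0, 6, 1, 2, 3, 2, 5, 1, 2, 3, 0, 1, 2, 0, 1, 6, 4] (Cert.fail)),
  (1, Cert.fail),
  (1, Cert.step [2, 6, 1, 2, 3, 2, 5, 1, 0, 2, 3, 1, 2, 0, 1, 6, 4, 3, 0] (Cert.step [0, 1, 0, 2, 1, 0, 4, 3, 2, 3, 1, 2, 3, 2, 1, 0, 1, 2, 3, 4, 2] (Cert.fail))),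
  (1, Cert.step [6, 1, 0, 2, 1, 0, 3, 2, 1, 5, 2, 3, 2, 1, 6, 3, 0] (Cert.fail)),
  (1, Cert.step [1, 2, 3, 2, 5, 1, 0, 2, 1, 5, 3, 2, 3, 1, 0, 1] (Cert.fail)),
  (2, Cert.fail),
  (1, Cert.step [6, 1, 2, 3, 4, 5, 1, 0, 2, 3, 2, 1, 5, 4, 3, 2, 1, 6] (Cert.step [3, 2, 3, 4, 3, 2, 0] (Cert.fail))),
  (1, Cert.step [0, 2, 1, 0, 3, 2, 1, 3, 2, 0, 1, 5, 2, 3, 1, 2, 1, 0] (Cert.fail)),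
  (1, Cert.step [0, 1, 2, 3, 4, 3, 2, 1, 0, 5, 1, 2, 3, 2, 1, 5, 4, 1, 2, 3, 0, 1, 2, 1, 0, 1] (Cert.fail)),
  (1, Cert.step [1, 0, 2, 1, 0, 1, 2, 3, 2, 1, 5, 3, 1, 2, 3, 1] (Cert.fail)),
  (1, Cert.fail),
  (1, Cert.step [0, 1, 2, 1, 3, 5, 1, 0, 2, 3, 4, 1, 0, 1, 2, 0, 1, 0] (Cert.fail)),
  (1, Cert.step [1, 0, 5, 1, 0, 1, 2, 3] (Cert.fail)),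
  (1, Cert.step [0, 1, 2, 3, 4, 5, 1, 0, 2, 3, 2, 1, 5, 4, 3, 2, 3, 1] (Cert.fail)),
  (1, Cert.step [1, 2, 1, 3, 2, 5, 1, 0, 2, 3, 1, 2, 3, 4, 0, 1] (Cert.fail)),
  (1, Cert.step [1, 2, 1, 3, 2, 4, 3, 2, 5, 1, 2, 3, 2, 1, 2, 3, 4, 2, 3, 1, 2, 3, 1, 2, 3, 1] (Cert.fail)),
  (1, Cert.fail),
  (1, Cert.step [0, 1, 2, 3, 5, 1, 2, 3, 2, 1, 0, 1, 2, 0, 1] (Cert.fail)),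
  (1, Cert.fail),
  (1, Cert.step [1, 2, 1, 3, 5, 1, 2, 3, 2, 1, 0, 1, 2, 3, 0, 1] (Cert.fail)),
  (1, Cert.fail),
  (1, Cert.step [5, 4, 0] (Cert.fail)),
  (1, Cert.step [3, 2, 1, 0, 1, 4, 3, 5, 1, 0, 2, 1, 3, 4, 2, 3, 2, 1, 5, 3, 4, 3, 2, 3, 1] (Cert.fail)),
  (1, Cert.step [1, 0, 2, 1, 0, 3, 2, 3, 1, 5, 2, 3, 4, 0, 1, 2, 1] (Cert.fail)),
  (1, Cert.step [1, 2, 3, 2, 1, 0, 1, 0, 2, 3, 1, 2, 3, 1, 0, 1, 2] (Cert.fail)),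
  (1, Cert.step [0, 1, 0, 5, 1, 0, 1] (Cert.fail)),
  (1, Cert.step [1, 0, 1, 5, 0, 1, 2] (Cert.fail)),
  (1, Cert.fail),
  (1, Cert.step [4, 3, 2] (Cert.fail)),
  (1, Cert.step [1, 5, 1, 0, 1, 2, 0, 1, 2, 3, 4, 1] (Cert.fail)),
  (1, Cert.fail),
  (1, Cert.step [0, 2, 3, 2, 1, 4, 3, 2, 1, 3, 5, 1, 2, 3, 4, 3, 2, 3, 1, 2, 0, 1, 0, 1] (Cert.fail)),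
  (2, Cert.fail),
  (1, Cert.step [1, 2, 1, 3, 4, 5, 1, 2, 3, 2, 1, 5, 3, 4, 3, 2, 3, 1] (Cert.fail)),
  (1, Cert.step [2, 3, 2, 6, 1, 5, 0, 1, 0, 1, 6] (Cert.fail)),
  (1, Cert.step [1, 5, 6, 1, 2, 3, 2, 1, 0, 1, 6, 0, 1, 5, 2, 3, 2, 1, 6, 5, 1, 0] (Cert.fail)),
  (1, Cert.step [2, 5, 3, 2] (Cert.fail)),
  (1, Cert.step [2, 1, 0, 5, 3, 1, 0, 1] (Cert.fail)),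
  (1, Cert.step [2, 3, 2, 1, 5, 0, 1, 0, 1] (Cert.fail)),
  (1, Cert.fail),
  (1, Cert.step [1, 0, 1, 5, 0, 1, 0] (Cert.fail)),
  (1, Cert.step [2, 1, 0, 1, 5, 0, 1, 2, 0] (Cert.fail)),
  (1, Cert.step [5, 1, 0, 2, 1, 3, 2, 3, 5, 1, 2, 1, 0, 1, 5, 0, 1, 2, 3, 2, 0, 1] (Cert.fail)),
  (1, Cert.step [2, 5, 1, 0, 1, 5, 0, 1, 2] (Cert.fail))]),
  (1781, Cert.bad 0)]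

/-- no element conjugates the element of order 13 to its power with exponent 2 -/
def certT : Cert := Cert.rl [(1, Cert.rl [(1, Cert.step [6, 1, 0, 1, 0, 5, 1, 6, 2, 3] (Cert.fail)),
  (1, Cert.fail),
  (1, Cert.step [5, 1, 0, 1, 5, 0, 1] (Cert.fail)),
  (1, Cert.step [1, 0, 2, 1, 0, 1, 3, 2, 1, 5, 3, 2, 1] (Cert.fail)),
  (1, Cert.step [1, 2, 5, 1, 0, 2, 1, 5, 2, 3, 1] (Cert.fail)),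
  (1, Cert.fail),
  (1, Cert.step [1, 2, 5, 1, 0, 1, 5, 2, 1] (Cert.fail)),
  (1, Cert.fail),
  (1, Cert.step [4, 2] (Cert.fail)),
  (1, Cert.step [5, 1, 0, 1, 2, 1, 0, 3, 2, 1, 0, 1, 2, 3, 2, 1, 0] (Cert.fail)),
  (1, Cert.step [1, 2, 3, 4, 5, 1, 2, 3, 2, 1, 5, 4, 3, 2, 3, 1] (Cert.fail)),
  (1, Cert.fail),
  (1, Cert.step [1, 2, 3, 2, 5, 1, 0, 2, 3, 2, 1, 5, 2, 0, 1, 0] (Cert.fail)),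
  (1, Cert.step [1, 0, 1, 0, 2, 1, 3, 2, 3, 2, 1, 0, 1, 2, 0, 1] (Cert.fail)),
  (2, Cert.fail),
  (1, Cert.step [1, 2, 3, 4, 5, 1, 2, 3, 2, 0, 1, 5, 4, 3, 2, 1] (Cert.fail)),
  (1, Cert.fail),
  (1, Cert.step [5, 4, 3] (Cert.fail)),
  (1, Cert.step [1, 2, 5, 1, 0, 1, 5, 1, 2, 1] (Cert.fail)),
  (1, Cert.step [1, 2, 1, 3, 2, 5, 1, 0, 2, 3, 1, 2, 3, 0, 1, 2] (Cert.fail)),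
  (1, Cert.fail),
  (1, Cert.step [4, 3] (Cert.fail)),
  (1, Cert.step [6, 1, 0, 2, 1, 0, 3, 2, 1, 5, 2, 3, 2, 1, 6, 5] (Cert.fail)),
  (1, Cert.fail),
  (1, Cert.step [6, 1, 2, 3, 4, 5, 1, 2, 3, 2, 1, 5, 4, 3, 2, 1, 6, 5] (Cert.fail)),
  (1, Cert.fail),
  (1, Cert.step [1, 0, 2, 5, 1, 2, 3, 2, 0, 1, 2, 3, 2, 1, 5, 1] (Cert.fail)),
  (1, Cert.step [6, 1, 2, 3, 5, 1, 0, 2, 1, 3, 2, 0, 1, 5, 2, 0, 1, 6] (Cert.step [4, 3, 2, 3, 4, 6, 1, 2, 3, 2, 5, 1, 0, 2, 3, 1, 2, 0, 1, 5, 6, 3, 4, 2, 3] (Cert.fail))),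
  (1, Cert.step [1, 2, 1, 3, 2, 5, 1, 0, 2, 3, 1, 2, 3, 4, 0, 1] (Cert.fail)),
  (2, Cert.fail),
  (1, Cert.step [1, 0, 2, 1, 0, 1, 3, 5, 2, 1, 5, 3, 2, 3, 1, 0] (Cert.fail)),
  (1, Cert.step [4, 2] (Cert.fail)),
  (5, Cert.fail),
  (1, Cert.step [1, 0, 5, 1, 0, 1] (Cert.fail)),
  (1, Cert.fail),
  (1, Cert.step [2, 3, 6, 1, 2, 3, 4, 5, 1, 2, 3, 2, 1, 5, 4, 3, 2, 1, 6, 0] (Cert.fail)),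
  (1, Cert.step [2, 3, 6, 1, 0, 2, 1, 3, 2, 3, 0, 1, 5, 2, 3, 2, 0, 1, 6, 2] (Cert.fail)),
  (1, Cert.step [1, 2, 1, 0, 1, 0, 3, 2, 3, 1, 5, 2, 3, 0, 1, 2, 3, 1] (Cert.fail)),
  (1, Cert.fail),
  (1, Cert.step [1, 2, 3, 4, 5, 1, 2, 3, 6, 1, 2, 5, 1, 0, 1, 6, 2, 1, 0, 1, 6, 3, 4, 3, 2, 1, 0] (Cert.fail)),
  (1, Cert.fail),
  (1, Cert.step [6, 1, 5, 1, 0, 2, 1, 3, 2, 3, 2, 1, 5, 3, 2, 3, 2, 1, 6, 4] (Cert.fail)),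
  (1, Cert.step [1, 0, 1, 2, 1, 0, 4, 3, 2, 5, 1, 2, 3, 4, 2, 3, 2, 1, 5, 0, 1, 2, 3, 2, 1, 0] (Cert.fail)),
  (1, Cert.fail),
  (1, Cert.step [0, 2, 1, 0, 5, 1, 0, 1] (Cert.fail)),
  (1, Cert.step [1, 0, 2, 1, 0, 3, 2, 3, 1, 5, 2, 3, 0, 1, 2, 3, 1] (Cert.fail)),
  (1, Cert.fail),
  (1, Cert.step [2, 1, 0, 5, 1, 0, 1, 2, 0] (Cert.fail)),
  (1, Cert.step [5, 1, 0, 1, 2, 1, 3, 2, 0, 1, 0, 1, 2, 3, 2, 3, 1] (Cert.fail)),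
  (1, Cert.step [4, 3, 2, 0] (Cert.fail)),
  (1, Cert.step [0, 2, 1, 3, 2, 3, 2, 5, 1, 2, 3, 4, 0, 1, 2, 0, 1] (Cert.fail)),
  (1, Cert.step [1, 0, 1, 5, 0, 1] (Cert.fail)),
  (1, Cert.step [1, 2, 1, 3, 5, 1, 0, 2, 3, 1, 0, 1, 2, 3, 0, 1] (Cert.fail)),
  (1, Cert.fail),
  (1, Cert.step [1, 0, 1, 5, 4, 0, 1, 2] (Cert.step [1, 2, 1, 3, 2, 1, 0, 4, 1, 2, 3, 4, 2, 1, 0, 1, 2, 3, 2, 1] (Cert.fail))),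
  (1, Cert.step [1, 2, 6, 1, 0, 2, 1, 0, 3, 2, 1, 6, 3, 2, 3, 2, 1, 5, 1, 6, 2, 1] (Cert.fail)),
  (1, Cert.step [1, 2, 3, 2, 4, 3, 2, 5, 1, 2, 3, 2, 1, 2, 3, 4, 2, 3, 1, 2, 3, 4, 1, 2, 1] (Cert.fail)),
  (1, Cert.step [1, 5, 6, 1, 2, 3, 2, 1, 0, 1, 6, 0, 1, 5, 2, 3, 2, 1, 6, 5, 1, 2] (Cert.fail)),
  (2, Cert.fail),
  (1, Cert.step [2, 6, 1, 2, 3, 2, 5, 1, 2, 3, 0, 1, 2, 0, 1, 6, 4] (Cert.fail)),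
  (1, Cert.step [1, 0, 1, 2, 3, 2, 1, 0, 4, 5, 1, 2, 3, 4, 1, 2, 3, 2, 1, 5, 3, 4, 0, 1, 2, 3, 2, 1] (Cert.fail)),
  (2, Cert.fail),
  (1, Cert.step [1, 2, 3, 6, 1, 5, 1, 2, 3, 6, 1, 2, 0, 1, 0, 1, 2, 3, 2, 1, 6, 4, 1, 2] (Cert.fail)),
  (1, Cert.fail),
  (1, Cert.step [1, 0, 1, 5, 4, 0, 1] (Cert.fail)),
  (1, Cert.step [1, 0, 2, 1, 0, 1, 3, 6, 5, 6, 2, 3, 1, 2, 0, 1, 0, 1] (Cert.fail)),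
  (1, Cert.fail),
  (1, Cert.step [0, 1, 0, 5, 1, 0, 1, 2, 3] (Cert.fail)),
  (1, Cert.step [0, 1, 2, 3, 5, 1, 0, 2, 1, 3, 4, 0, 1, 2, 3, 0, 1, 0] (Cert.fail)),
  (1, Cert.step [1, 2, 3, 6, 5, 1, 2, 6, 1, 5, 1, 6, 3, 2, 1, 5, 3, 2, 1, 6, 3, 4, 3, 1] (Cert.fail)),
  (1, Cert.step [2, 3, 6, 1, 2, 3, 4, 5, 1, 2, 3, 2, 1, 5, 4, 3, 2, 1, 6, 5] (Cert.fail)),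
  (1, Cert.step [1, 0, 1, 2, 1, 3, 2, 1, 0, 5, 1, 0, 2, 1, 5, 3, 0, 1, 2, 3, 4, 2, 1, 0] (Cert.fail)),
  (1, Cert.fail),
  (1, Cert.step [2, 1, 3, 2, 3, 2, 1, 0, 1, 2, 3, 0, 1, 2, 1, 0, 1] (Cert.fail)),
  (2, Cert.fail),
  (1, Cert.step [2, 3, 6, 1, 2, 5, 1, 0, 1, 5, 2, 1, 6, 3] (Cert.fail)),
  (1, Cert.step [0, 2, 1, 0, 1, 5, 4, 0, 1, 2] (Cert.fail)),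
  (1, Cert.step [1, 0, 5, 1, 6, 5, 6, 5, 1, 2, 3, 2] (Cert.fail)),
  (1, Cert.step [6, 1, 2, 3, 2, 5, 1, 2, 3, 0, 1, 2, 0, 1, 6, 0] (Cert.fail)),
  (1, Cert.step [1, 0, 2, 1, 0, 1, 3, 2, 0, 1, 5, 3, 2, 3, 1] (Cert.fail)),
  (1, Cert.step [0, 6, 1, 2, 3, 2, 5, 1, 0, 2, 3, 1, 2, 0, 1, 6, 4, 3] (Cert.fail)),
  (1, Cert.step [2, 6, 1, 0, 2, 3, 2, 5, 1, 2, 3, 2, 1, 5, 3, 2, 0, 1, 6, 4] (Cert.fail)),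
  (1, Cert.step [1, 0, 2, 1, 0, 3, 5, 1, 2, 3, 5, 1, 2, 3, 4, 2, 1, 0, 1] (Cert.fail)),
  (1, Cert.step [1, 0, 4, 5, 1, 0, 1, 2, 3] (Cert.fail)),
  (1, Cert.step [2, 1, 0, 1, 5, 4, 0, 1] (Cert.fail)),
  (1, Cert.step [0, 1, 0, 1, 0, 5, 1, 2, 3, 2] (Cert.fail)),
  (1, Cert.step [6, 1, 2, 3, 4, 5, 1, 0, 2, 3, 2, 1, 5, 4, 3, 2, 1, 6] (Cert.fail)),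
  (1, Cert.step [2, 1, 3, 5, 6, 1, 2, 5, 1, 0, 6, 1, 2, 0, 1, 6, 5, 2, 1, 6] (Cert.fail)),
  (1, Cert.fail),
  (1, Cert.step [2, 1, 3, 2, 3, 4, 5, 1, 2, 3, 2, 0, 1, 5, 4, 3, 2, 1] (Cert.fail)),
  (1, Cert.step [4, 3, 2] (Cert.fail)),
  (1, Cert.step [0, 1, 2, 3, 4, 5, 1, 2, 3, 2, 1, 5, 4, 3, 2, 3, 4, 1] (Cert.fail)),
  (1, Cert.step [2, 1, 0, 1, 5, 0, 1] (Cert.fail)),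
  (1, Cert.fail),
  (1, Cert.step [1, 0, 2, 5, 1, 2, 3, 2, 0, 1, 5, 2, 3, 1, 2, 1] (Cert.fail)),
  (1, Cert.step [0, 6, 1, 2, 3, 2, 5, 1, 0, 2, 3, 1, 2, 0, 1, 6, 4, 2] (Cert.fail)),
  (1, Cert.fail),
  (1, Cert.step [0, 1, 0, 2, 1, 3, 2, 5, 1, 2, 3, 2, 1, 5, 2, 3, 1, 2, 3, 2, 1, 5, 4] (Cert.fail)),
  (2, Cert.fail),
  (1, Cert.step [1, 2, 3, 2, 1, 5, 1, 0, 1, 2, 3, 0, 1, 5, 2, 3, 0, 1, 2, 3, 2, 1] (Cert.fail)),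
  (1, Cert.step [1, 0, 2, 3, 5, 1, 0, 1, 2, 3, 2, 0, 1, 5, 2, 3, 2, 0, 1] (Cert.fail)),
  (1, Cert.step [1, 0, 2, 1, 0, 3, 5, 1, 2, 5, 3, 1, 2, 3, 2, 1, 0, 1] (Cert.fail)),
  (1, Cert.step [2, 6, 1, 0, 1, 0, 5, 1, 6, 2, 3] (Cert.fail)),
  (1, Cert.step [1, 2, 3, 4, 3, 2, 1, 0, 5, 1, 2, 3, 2, 1, 5, 4, 0, 1, 2, 3, 2, 3, 1, 2] (Cert.fail)),
  (1, Cert.step [0, 2, 1, 3, 2, 3, 2, 5, 1, 2, 3, 0, 1, 2, 3, 0, 1] (Cert.fail)),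
  (1, Cert.step [0, 2, 3, 2, 1, 4, 3, 2, 1, 3, 5, 1, 2, 3, 4, 3, 2, 3, 1, 2, 0, 1, 0, 1] (Cert.fail)),
  (1, Cert.step [1, 2, 5, 1, 0, 1, 5, 2, 1] (Cert.fail)),
  (3, Cert.fail),
  (1, Cert.step [2, 6, 1, 0, 2, 3, 2, 5, 1, 0, 3, 2, 3, 1, 2, 0, 1, 6, 3, 2] (Cert.fail)),
  (1, Cert.step [6, 1, 0, 2, 1, 0, 3, 2, 1, 2, 3, 2, 1, 5, 1, 6] (Cert.fail)),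
  (1, Cert.step [5, 1, 0, 1, 5, 4, 0, 1] (Cert.step [4, 3, 2, 3, 4, 5, 6, 1, 2, 5, 3, 1, 2, 3, 1, 0, 1, 2, 0, 1, 6, 3, 4, 2] (Cert.fail))),
  (1, Cert.fail),
  (1, Cert.step [5, 1, 0, 2, 1, 3, 2, 3, 5, 1, 2, 1, 0, 1, 5, 0, 1, 2, 3, 0, 1, 2, 1] (Cert.fail)),
  (2, Cert.fail),
  (1, Cert.step [2, 6, 1, 2, 3, 2, 5, 1, 2, 3, 0, 1, 2, 0, 1, 6] (Cert.fail)),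
  (1, Cert.fail),
  (1, Cert.step [1, 2, 3, 5, 1, 2, 3, 4, 1, 0, 1, 2, 0, 1, 0] (Cert.step [4, 3, 2, 1, 0, 1, 3, 2, 4, 3, 5, 1, 0, 1, 2, 3, 4, 1, 2, 0, 1, 0, 1, 2] (Cert.fail))),
  (1, Cert.step [5, 1, 0, 2, 1, 0, 1, 3, 2, 1, 5, 3, 2, 3, 4, 1] (Cert.fail)),
  (1, Cert.step [1, 2, 3, 5, 1, 2, 3, 1, 0, 1, 2, 0, 1] (Cert.fail)),
  (2, Cert.fail),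
  (1, Cert.step [5, 2, 6, 1, 0, 2, 3, 2, 4, 3, 5, 1, 0, 2, 3, 4, 3, 2, 3, 4, 1, 2, 3, 2, 1, 0, 1, 6, 3] (Cert.fail)),
  (1, Cert.step [2, 3, 6, 1, 5, 6, 1, 0, 1, 6, 5, 1, 2, 3] (Cert.fail)),
  (1, Cert.step [1, 0, 2, 3, 2, 5, 1, 0, 1, 0, 2, 3, 1, 2, 3, 1, 0, 1, 2, 1] (Cert.fail)),
  (1, Cert.step [0, 1, 2, 3, 5, 1, 2, 3, 2, 1, 0, 1, 2, 0, 1] (Cert.fail)),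
  (1, Cert.step [1, 0, 2, 6, 1, 0, 1, 2, 3, 2, 3, 5, 1, 0, 2, 1, 6, 0, 1, 5, 2, 3, 2, 1, 6, 4, 3, 1] (Cert.fail)),
  (1, Cert.fail),
  (1, Cert.step [1, 2, 3, 2, 5, 1, 0, 2, 3, 2, 1, 5, 2, 0, 1, 0] (Cert.fail)),
  (1, Cert.step [2, 1, 0, 1, 2, 3, 2, 3, 5, 1, 0, 1, 2, 3, 4, 2, 3, 2, 1, 5, 2, 3, 1, 2, 1, 0] (Cert.fail)),
  (1, Cert.step [1, 2, 5, 1, 0, 1, 5, 2, 3, 1, 2, 0] (Cert.fail)),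
  (1, Cert.step [2, 1, 0, 3, 2, 6, 1, 0, 1, 6, 5, 1, 6, 2, 1, 0, 1] (Cert.step [4, 3, 2, 1, 3, 2, 3, 5, 1, 2, 3, 2, 1, 0, 4, 1, 2, 0, 1] (Cert.fail))),
  (1, Cert.step [1, 2, 3, 5, 1, 2, 3, 1, 0, 1, 2, 3, 0, 1] (Cert.step [1, 2, 4, 3, 2, 1, 0, 1, 0, 2, 3, 2, 1, 5, 4, 3, 1, 2, 0, 1, 0, 1, 2, 3, 2, 1, 5, 4] (Cert.fail))),
  (1, Cert.step [1, 2, 1, 3, 5, 1, 2, 3, 4, 1, 0, 1, 2, 0, 1, 0] (Cert.fail)),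
  (1, Cert.fail),
  (1, Cert.step [1, 2, 3, 5, 1, 2, 3, 1, 0, 1, 2, 0, 1, 5] (Cert.fail)),
  (1, Cert.fail),
  (1, Cert.step [1, 0, 5, 4, 1, 0, 1, 2] (Cert.step [1, 2, 1, 3, 2, 1, 0, 4, 1, 2, 3, 4, 2, 1, 0, 1, 2, 3, 2, 1] (Cert.fail))),
  (1, Cert.step [2, 6, 1, 2, 3, 2, 4, 3, 5, 1, 2, 3, 2, 3, 4, 2, 3, 1, 2, 0, 1, 6, 3, 2] (Cert.fail)),
  (1, Cert.step [1, 2, 1, 3, 5, 1, 0, 2, 3, 1, 0, 1, 2, 3, 0, 1] (Cert.fail)),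
  (1, Cert.step [6, 1, 2, 3, 5, 1, 2, 3, 2, 1, 0, 1, 2, 0, 1, 6] (Cert.fail)),
  (1, Cert.step [2, 3, 2, 1, 5, 0, 1, 0, 1, 2] (Cert.fail)),
  (1, Cert.step [2, 3, 2, 6, 1, 5, 0, 1, 0, 1, 6, 0] (Cert.fail)),
  (1, Cert.step [0, 1, 0, 2, 3, 2, 5, 1, 0, 1, 0, 2, 3, 1, 2, 3, 1, 0, 1, 2, 1] (Cert.step [4, 3, 2, 1, 5, 0, 1, 0, 1, 2, 3, 4, 3] (Cert.fail))),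
  (1, Cert.step [0, 1, 0, 2, 1, 3, 2, 5, 1, 2, 3, 2, 1, 5, 2, 3, 1, 2, 3, 2, 1, 5, 4] (Cert.fail)),
  (1, Cert.fail),
  (1, Cert.step [2, 5, 6, 1, 2, 3, 2, 5, 1, 2, 3, 0, 1, 2, 0, 1, 6, 4] (Cert.fail)),
  (1, Cert.fail),
  (1, Cert.step [1, 2, 3, 4, 5, 1, 0, 2, 3, 4, 2, 3, 1, 2, 0, 1, 0, 1] (Cert.fail)),
  (1, Cert.fail),
  (1, Cert.step [0, 2, 1, 3, 2, 3, 4, 5, 1, 2, 3, 4, 2, 3, 2, 1, 5, 2, 1] (Cert.fail)),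
  (1, Cert.fail),
  (1, Cert.step [2, 1, 3, 2, 5, 1, 6, 5, 6, 2, 1, 5, 2, 1] (Cert.fail)),
  (1, Cert.fail),
  (1, Cert.step [2, 3, 6, 1, 0, 1, 2, 1, 6, 5, 1, 5, 0, 1, 2, 0, 1, 6, 2, 3, 1, 2] (Cert.fail)),
  (1, Cert.fail),
  (1, Cert.step [1, 0, 1, 2, 6, 1, 5, 6, 1, 0, 1, 6, 2, 3, 0, 1, 2] (Cert.fail)),
  (1, Cert.step [2, 1, 3, 2, 6, 1, 0, 2, 1, 0, 5, 1, 5, 6, 1, 2, 1, 0, 1, 6, 3, 2] (Cert.fail)),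
  (1, Cert.step [1, 0, 2, 1, 0, 1, 3, 2, 3, 2, 1, 5, 2, 3, 1] (Cert.fail)),
  (1, Cert.step [2, 1, 0, 1, 3, 5, 0, 1, 2, 3] (Cert.fail)),
  (1, Cert.step [1, 2, 1, 3, 2, 3, 5, 1, 2, 3, 2, 1, 5, 3, 4, 2, 0, 1, 0] (Cert.fail)),
  (1, Cert.fail),
  (1, Cert.step [1, 2, 1, 3, 2, 1, 0, 1, 0, 3, 2, 1, 5, 3, 2, 3, 2, 1] (Cert.fail)),
  (1, Cert.fail),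
  (1, Cert.step [1, 2, 3, 2, 1, 0, 1, 0, 2, 3, 1, 2, 3, 1, 0, 1, 2] (Cert.fail)),
  (1, Cert.step [2, 1, 0, 3, 2, 1, 3, 2, 0, 1, 2, 3, 2, 1, 5, 1, 0] (Cert.fail)),
  (1, Cert.fail),
  (1, Cert.step [1, 0, 2, 1, 0, 1, 3, 2, 1, 5, 3, 2, 3, 1, 0] (Cert.fail)),
  (1, Cert.step [1, 2, 3, 5, 1, 2, 3, 2, 4, 3, 2, 1, 5, 3, 2, 1] (Cert.fail)),
  (1, Cert.step [0, 1, 0, 2, 1, 0, 3, 2, 3, 6, 1, 6, 1, 5, 6, 2, 3, 4, 1, 2, 1, 0] (Cert.step [3, 4, 3, 2, 3, 4, 5, 6, 1, 2, 5, 3, 1, 2, 3, 2, 1, 0, 1, 2, 0, 1, 6, 4, 3] (Cert.fail))),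
  (2, Cert.fail),
  (1, Cert.step [2, 6, 1, 0, 1, 0, 5, 1, 6, 3, 2, 3] (Cert.fail)),
  (1, Cert.fail),
  (1, Cert.step [6, 1, 0, 2, 1, 0, 3, 2, 1, 5, 2, 3, 2, 1, 6, 4] (Cert.fail)),
  (1, Cert.step [2, 3, 6, 1, 0, 2, 1, 3, 2, 0, 1, 5, 2, 3, 2, 1, 6] (Cert.fail)),
  (2, Cert.fail),
  (1, Cert.step [2, 1, 3, 2, 3, 5, 1, 2, 3, 4, 1, 0, 1, 2, 0, 1, 0] (Cert.fail)),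
  (1, Cert.fail),
  (1, Cert.step [2, 1, 3, 2, 3, 4, 5, 1, 2, 3, 2, 1, 5, 4, 3, 1, 2, 1] (Cert.fail)),
  (1, Cert.step [0, 1, 2, 3, 4, 5, 1, 2, 3, 2, 1, 5, 4, 3, 2, 3, 1, 2] (Cert.fail)),
  (1, Cert.step [1, 2, 1, 3, 5, 1, 0, 2, 3, 4, 1, 0, 1, 2, 0, 1] (Cert.fail)),
  (1, Cert.step [6, 1, 0, 2, 5, 1, 2, 3, 2, 0, 1, 5, 2, 3, 2, 1, 6, 4, 0] (Cert.fail)),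
  (1, Cert.fail),
  (1, Cert.step [2, 3, 6, 1, 0, 2, 1, 3, 2, 0, 1, 5, 2, 3, 2, 1, 6] (Cert.fail)),
  (1, Cert.step [0, 6, 1, 2, 3, 4, 5, 1, 2, 3, 2, 1, 5, 4, 3, 2, 1, 6, 2] (Cert.step [4, 3, 2, 1, 5, 0, 1, 0, 1, 2, 3, 4, 3] (Cert.fail))),
  (1, Cert.step [1, 0, 1, 2, 1, 3, 2, 0, 1, 0, 1, 2, 3, 2, 3, 1] (Cert.fail)),
  (3, Cert.fail),
  (1, Cert.step [0, 5, 1, 0, 1, 2, 1, 3, 2, 0, 1, 0, 1, 2, 3, 2, 3, 1] (Cert.fail)),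
  (1, Cert.fail),
  (1, Cert.step [0, 1, 0, 5, 4, 1, 0, 1, 2] (Cert.fail)),
  (1, Cert.step [1, 2, 3, 4, 3, 5, 1, 2, 3, 2, 1, 5, 4, 3, 2, 3, 1] (Cert.fail)),
  (3, Cert.fail),
  (1, Cert.step [2, 1, 3, 2, 6, 1, 0, 2, 1, 0, 5, 1, 5, 6, 1, 2, 1, 0, 1, 6, 3, 0] (Cert.fail)),
  (1, Cert.fail),
  (1, Cert.step [1, 0, 2, 1, 0, 1, 2, 3, 2, 1, 5, 3, 2, 1] (Cert.fail)),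
  (1, Cert.step [2, 3, 6, 1, 2, 3, 2, 5, 1, 2, 3, 0, 1, 2, 0, 1, 6, 3, 0] (Cert.fail)),
  (3, Cert.fail),
  (1, Cert.step [2, 1, 6, 5, 1, 0, 2, 1, 3, 2, 6, 1, 0, 1, 2, 3, 2, 1, 6, 5, 3, 4, 2, 1] (Cert.fail)),
  (1, Cert.fail),
  (1, Cert.step [6, 1, 0, 2, 1, 0, 3, 2, 1, 5, 2, 3, 2, 1, 6, 3, 2] (Cert.fail)),
  (1, Cert.step [5, 1, 2, 3, 6, 5, 1, 2, 6, 1, 5, 1, 6, 3, 2, 1, 5, 3, 2, 1, 6, 4, 3, 1] (Cert.fail)),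
  (1, Cert.step [0, 6, 1, 2, 3, 4, 5, 1, 2, 3, 2, 1, 5, 4, 3, 2, 1, 6, 3] (Cert.fail)),
  (1, Cert.step [1, 0, 4, 5, 1, 0, 1, 5, 3] (Cert.fail)),
  (1, Cert.fail),
  (1, Cert.step [2, 6, 1, 2, 3, 2, 4, 3, 5, 1, 2, 3, 2, 3, 4, 2, 3, 1, 2, 0, 1, 6, 3, 2] (Cert.fail)),
  (1, Cert.step [1, 0, 1, 0, 2, 1, 3, 2, 3, 1, 0, 1, 2, 0, 1, 5] (Cert.fail)),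
  (2, Cert.fail),
  (1, Cert.step [2, 1, 5, 6, 1, 2, 3, 5, 1, 2, 3, 6, 1, 2, 0, 1, 0, 1, 5, 6, 3, 4, 2, 1] (Cert.fail)),
  (3, Cert.fail),
  (1, Cert.step [1, 2, 1, 3, 2, 5, 1, 0, 1, 0, 1, 2, 3, 1, 2, 3, 1, 2, 0, 1] (Cert.fail)),
  (1, Cert.step [1, 0, 1, 2, 1, 3, 2, 1, 0, 5, 1, 0, 2, 1, 5, 3, 0, 1, 2, 3, 4, 2, 1] (Cert.fail)),
  (1, Cert.step [0, 1, 2, 3, 4, 5, 1, 2, 3, 4, 2, 3, 2, 1, 5, 2, 3, 1] (Cert.step [4, 3, 2, 1, 0, 1, 3, 2, 4, 3, 5, 1, 0, 1, 2, 3, 4, 1, 2, 0, 1, 0, 1, 2] (Cert.fail))),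
  (1, Cert.step [6, 1, 2, 3, 2, 5, 1, 0, 2, 3, 2, 1, 5, 2, 0, 1, 6, 0] (Cert.fail)),
  (1, Cert.step [6, 1, 2, 3, 2, 5, 1, 0, 2, 3, 1, 2, 0, 1, 6, 4, 3] (Cert.fail)),
  (1, Cert.step [0, 2, 1, 3, 2, 3, 2, 5, 1, 2, 3, 0, 1, 2, 0, 1] (Cert.fail)),
  (1, Cert.step [1, 0, 2, 3, 5, 1, 0, 1, 2, 3, 2, 0, 1, 5, 2, 3, 2, 0, 1] (Cert.fail)),
  (1, Cert.step [2, 1, 5, 6, 1, 2, 3, 5, 1, 2, 3, 6, 1, 2, 0, 1, 0, 1, 5, 6, 3, 4, 2, 1] (Cert.fail)),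
  (1, Cert.step [5, 1, 0, 2, 1, 0, 1, 3, 2, 1, 5, 3, 2, 3, 1] (Cert.fail)),
  (1, Cert.step [1, 2, 1, 5, 1, 2, 0, 1, 5, 2, 1, 0] (Cert.fail)),
  (1, Cert.step [1, 4, 3, 2, 3, 2, 1, 0, 4, 5, 1, 2, 3, 2, 1, 5, 0, 1, 2, 3, 4, 3, 2, 1, 0] (Cert.fail)),
  (1, Cert.step [1, 5, 1, 0, 1, 0, 1, 2, 3] (Cert.fail)),
  (1, Cert.step [2, 6, 1, 0, 2, 3, 5, 1, 2, 3, 2, 1, 5, 3, 2, 3, 2, 1, 6] (Cert.fail)),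
  (1, Cert.fail),
  (1, Cert.step [2, 1, 0, 3, 2, 1, 0, 3, 1, 2, 0, 1, 5, 3, 2, 1] (Cert.fail)),
  (1, Cert.step [0, 2, 3, 2, 1, 4, 3, 2, 1, 3, 5, 1, 2, 3, 4, 3, 2, 3, 1, 2, 0, 1, 0, 1] (Cert.fail)),
  (1, Cert.step [2, 5, 1, 0, 1, 5, 4, 0, 1, 2] (Cert.fail)),
  (1, Cert.fail),
  (1, Cert.step [2, 3, 2, 6, 1, 5, 0, 1, 0, 1, 6] (Cert.fail)),
  (1, Cert.step [2, 6, 1, 0, 2, 1, 0, 3, 2, 1, 5, 2, 3, 2, 1, 6, 3, 4] (Cert.fail)),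
  (1, Cert.step [1, 2, 3, 4, 3, 5, 1, 2, 3, 2, 1, 5, 4, 3, 2, 3, 1, 2] (Cert.fail)),
  (1, Cert.step [5, 1, 0, 1, 5, 4, 0, 1, 2] (Cert.fail)),
  (1, Cert.step [1, 2, 3, 4, 5, 1, 2, 3, 2, 1, 5, 4, 3, 2, 3, 4, 1] (Cert.fail)),
  (1, Cert.step [2, 1, 0, 5, 3, 1, 0, 1, 0] (Cert.fail)),
  (1, Cert.step [1, 0, 2, 5, 1, 2, 3, 2, 0, 1, 5, 2, 3, 2, 1] (Cert.fail)),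
  (1, Cert.fail),
  (1, Cert.step [1, 5, 1, 2, 3, 2, 1, 4, 3, 2, 3, 4, 2, 3, 4, 0, 1, 2, 3, 2, 1, 0, 1, 2] (Cert.fail)),
  (1, Cert.step [1, 0, 2, 1, 0, 1, 2, 3, 2, 1, 5, 3, 2, 3, 1, 0] (Cert.fail)),
  (1, Cert.step [2, 5, 1, 0, 1, 5, 0, 1] (Cert.fail)),
  (1, Cert.step [1, 0, 1, 2, 1, 3, 2, 3, 5, 1, 0, 1, 5, 0, 1, 2, 3, 1, 2, 0, 1, 0] (Cert.fail)),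
  (1, Cert.step [2, 1, 5, 6, 1, 0, 1, 6, 5, 1, 6, 2, 3, 2] (Cert.fail)),
  (1, Cert.step [1, 2, 3, 2, 5, 1, 0, 2, 1, 5, 3, 2, 1, 0, 1, 0] (Cert.fail)),
  (1, Cert.step [6, 1, 0, 1, 0, 2, 1, 3, 2, 5, 3, 1, 0, 1, 2, 0, 1, 6] (Cert.fail)),
  (1, Cert.fail),
  (1, Cert.step [0, 1, 0, 1, 5, 4, 3, 0, 1] (Cert.fail)),
  (1, Cert.step [1, 0, 2, 1, 0, 1, 2, 3, 2, 1, 5, 3, 1, 2, 1] (Cert.fail)),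
  (1, Cert.fail),
  (1, Cert.step [1, 0, 1, 2, 3, 2, 5, 1, 0, 1, 2, 3, 2, 3, 1, 2, 3, 0, 1] (Cert.step [3, 4, 3, 2, 1, 3, 2, 5, 1, 4, 3, 2, 3, 4, 2, 1, 0, 1, 2, 3, 0, 1] (Cert.fail))),
  (1, Cert.step [0, 6, 1, 2, 3, 2, 5, 1, 0, 2, 3, 1, 2, 0, 1, 6, 3, 2] (Cert.fail)),
  (1, Cert.step [6, 1, 0, 5, 1, 0, 1, 6, 2, 3, 2] (Cert.fail)),
  (1, Cert.step [6, 1, 0, 2, 1, 0, 3, 5, 1, 2, 5, 3, 1, 2, 3, 2, 1, 0, 1, 6] (Cert.fail)),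
  (1, Cert.step [1, 0, 1, 0, 2, 1, 3, 2, 3, 1, 0, 1, 2, 0, 1] (Cert.fail)),
  (1, Cert.step [1, 0, 2, 1, 0, 5, 1, 2, 3, 2, 5, 1, 0, 1, 2, 3, 2, 1, 0] (Cert.fail)),
  (1, Cert.step [1, 4, 3, 2, 3, 2, 1, 0, 4, 5, 1, 2, 3, 2, 1, 5, 0, 1, 2, 3, 4, 3, 2, 1, 0] (Cert.fail)),
  (1, Cert.step [6, 1, 2, 3, 2, 5, 1, 0, 2, 3, 1, 2, 0, 1, 6, 2, 3] (Cert.fail)),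
  (1, Cert.step [0, 6, 1, 2, 3, 2, 5, 1, 2, 3, 0, 1, 2, 0, 1, 6, 2] (Cert.fail)),
  (1, Cert.step [2, 1, 0, 1, 2, 3, 2, 1, 0, 3, 2, 3, 1, 2, 0, 1, 5, 2] (Cert.fail)),
  (1, Cert.step [1, 5, 1, 2, 3, 2, 1, 4, 3, 2, 3, 4, 2, 3, 4, 0, 1, 2, 3, 2, 1, 0, 1, 2] (Cert.fail)),
  (1, Cert.step [0, 2, 6, 1, 2, 3, 2, 3, 5, 1, 2, 3, 2, 1, 5, 3, 2, 0, 1, 6, 4] (Cert.step [4, 3, 2, 1, 0, 1, 5, 3, 0, 1, 2, 3, 4, 3] (Cert.fail))),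
  (1, Cert.step [1, 2, 3, 6, 1, 5, 1, 2, 3, 6, 1, 2, 0, 1, 0, 1, 6, 2, 3, 2, 1, 5, 6] (Cert.fail)),
  (1, Cert.step [0, 1, 2, 3, 2, 5, 1, 0, 2, 3, 1, 2, 3, 0, 1, 2] (Cert.fail)),
  (1, Cert.step [1, 0, 2, 1, 0, 1, 3, 2, 3, 1, 2, 0, 1, 0, 1, 0] (Cert.fail)),
  (1, Cert.step [0, 6, 1, 2, 3, 2, 5, 1, 0, 2, 3, 1, 2, 0, 1, 6, 4, 3] (Cert.fail)),
  (1, Cert.fail),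
  (1, Cert.step [6, 1, 2, 3, 2, 4, 3, 2, 5, 1, 2, 3, 2, 1, 2, 3, 4, 2, 3, 1, 2, 3, 2, 1, 6, 4, 2] (Cert.fail)),
  (1, Cert.fail),
  (1, Cert.step [1, 4, 3, 2, 1, 3, 2, 1, 0, 5, 1, 2, 4, 3, 2, 1, 5, 4, 0, 1, 2, 3, 2, 1] (Cert.fail)),
  (1, Cert.step [1, 0, 1, 4, 5, 3, 0, 1, 0] (Cert.fail)),
  (2, Cert.fail),
  (1, Cert.step [1, 0, 5, 4, 1, 0, 1, 0] (Cert.fail)),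
  (1, Cert.step [1, 2, 1, 3, 4, 5, 1, 2, 3, 4, 2, 3, 2, 1, 5, 2, 1] (Cert.fail)),
  (1, Cert.step [2, 1, 0, 5, 3, 1, 0, 1] (Cert.fail)),
  (1, Cert.step [0, 1, 0, 2, 1, 3, 2, 1, 0, 1, 3, 2, 3, 0, 1, 2, 3, 2, 1, 5] (Cert.fail)),
  (1, Cert.step [1, 0, 5, 1, 6, 5, 6, 5, 1, 2, 3, 2] (Cert.fail)),
  (1, Cert.step [1, 2, 3, 4, 5, 1, 0, 2, 3, 2, 1, 5, 4, 3, 2, 3, 1] (Cert.fail)),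
  (1, Cert.step [1, 0, 2, 1, 0, 1, 3, 2, 3, 1, 2, 0, 1, 0, 1, 0] (Cert.step [3, 4, 3, 2, 1, 5, 3, 0, 1, 0, 1, 2, 3, 4, 3] (Cert.fail))),
  (1, Cert.step [6, 1, 0, 2, 1, 0, 1, 3, 5, 2, 3, 1, 2, 0, 1, 0, 1, 6] (Cert.fail)),
  (1, Cert.step [0, 1, 0, 2, 1, 0, 5, 1, 2, 3, 2, 5, 1, 0, 1, 2, 3, 2, 3, 4, 1] (Cert.fail)),
  (1, Cert.step [0, 2, 6, 1, 2, 3, 4, 5, 1, 2, 3, 2, 1, 5, 4, 3, 2, 1, 6, 3] (Cert.fail)),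
  (1, Cert.step [4, 3, 6, 1, 2, 3, 2, 1, 0, 4, 5, 1, 2, 3, 2, 1, 5, 4, 0, 1, 2, 3, 2, 1, 6, 5] (Cert.fail)),
  (1, Cert.step [6, 1, 0, 5, 1, 0, 1, 6, 2, 3, 2] (Cert.fail)),
  (1, Cert.step [1, 2, 3, 2, 1, 0, 1, 2, 3, 0, 1, 2, 1, 0, 1, 5, 0] (Cert.fail)),
  (2, Cert.fail),
  (1, Cert.step [0, 2, 6, 1, 2, 3, 2, 5, 1, 2, 3, 0, 1, 2, 0, 1, 6, 3] (Cert.fail)),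
  (1, Cert.step [0, 6, 1, 2, 3, 2, 5, 1, 2, 3, 0, 1, 2, 0, 1, 6, 3] (Cert.fail)),
  (1, Cert.step [1, 2, 3, 2, 1, 0, 1, 2, 5, 3, 2, 1, 5, 0, 1, 0, 1, 2, 1] (Cert.fail)),
  (1, Cert.step [1, 0, 2, 3, 2, 5, 1, 2, 3, 2, 1, 5, 3, 4, 2, 0, 1, 0] (Cert.step [4, 3, 2, 1, 5, 3, 0, 1, 0, 1, 2, 3, 4, 3] (Cert.fail))),
  (1, Cert.step [3, 2, 3, 2, 1, 0, 1, 2, 3, 5, 1, 0, 1, 2, 3, 4, 3, 2, 3, 0, 1, 0, 1, 2, 0, 1] (Cert.fail)),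
  (1, Cert.step [1, 2, 1, 0, 3, 2, 4, 3, 5, 1, 0, 2, 1, 3, 4, 3, 2, 1, 5, 3, 2, 3, 4, 2, 3, 2, 1, 0] (Cert.fail)),
  (1, Cert.fail),
  (1, Cert.step [2, 6, 1, 2, 3, 4, 5, 1, 2, 3, 4, 2, 3, 2, 1, 5, 2, 1, 6, 3] (Cert.fail)),
  (1, Cert.step [6, 1, 0, 2, 1, 0, 3, 2, 1, 5, 2, 3, 2, 1, 6, 0] (Cert.fail)),
  (1, Cert.step [0, 1, 2, 1, 3, 5, 1, 2, 3, 2, 1, 0, 1, 2, 0, 1] (Cert.fail)),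
  (1, Cert.step [0, 1, 2, 1, 3, 2, 5, 1, 0, 2, 3, 4, 1, 2, 3, 0, 1, 0] (Cert.step [] (Cert.fail))),
  (1, Cert.step [0, 1, 2, 1, 3, 4, 5, 1, 2, 3, 4, 2, 3, 2, 1, 5, 2, 1] (Cert.fail)),
  (1, Cert.fail),
  (1, Cert.step [1, 0, 2, 3, 5, 1, 2, 3, 2, 1, 5, 3, 2, 3, 4, 1, 2, 1] (Cert.fail)),
  (1, Cert.fail),
  (1, Cert.step [2, 3, 2, 1, 5, 3, 0, 1, 0, 1] (Cert.fail)),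
  (1, Cert.step [0, 6, 1, 2, 3, 2, 5, 1, 0, 2, 3, 1, 2, 0, 1, 6, 4, 3] (Cert.fail)),
  (1, Cert.fail),
  (1, Cert.step [6, 1, 2, 3, 5, 1, 2, 3, 2, 1, 0, 1, 2, 0, 1, 6] (Cert.fail)),
  (1, Cert.step [2, 6, 1, 0, 1, 2, 3, 2, 3, 5, 2, 3, 2, 1, 6, 2, 3, 2] (Cert.fail)),
  (1, Cert.step [1, 2, 3, 5, 1, 2, 3, 4, 1, 0, 1, 2, 0, 1, 0] (Cert.fail)),
  (1, Cert.fail),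
  (1, Cert.step [0, 1, 2, 3, 2, 1, 0, 1, 2, 5, 3, 2, 1, 5, 0, 1, 2, 3, 0, 1] (Cert.fail)),
  (1, Cert.fail),
  (1, Cert.step [6, 1, 2, 3, 2, 4, 5, 1, 2, 3, 0, 1, 5, 4, 3, 2, 1, 0, 1, 6] (Cert.fail)),
  (1, Cert.step [6, 1, 0, 2, 1, 0, 3, 2, 1, 5, 2, 3, 2, 1, 6, 2, 0] (Cert.fail)),
  (1, Cert.fail),
  (1, Cert.step [1, 2, 1, 0, 3, 2, 1, 0, 5, 1, 0, 1, 2, 1, 5, 3, 2, 3, 4, 1, 2, 0, 1] (Cert.step [1, 3, 2, 1, 3, 2, 1, 0, 4, 1, 2, 3, 4, 2, 1, 0, 1, 2, 3, 2, 1] (Cert.fail))),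
  (1, Cert.fail),
  (1, Cert.step [2, 3, 6, 1, 0, 5, 1, 0, 1, 6, 2, 3] (Cert.fail)),
  (1, Cert.step [6, 1, 0, 1, 2, 3, 5, 1, 2, 0, 1, 5, 2, 3, 2, 1, 6, 0] (Cert.fail)),
  (1, Cert.step [0, 1, 2, 3, 2, 4, 5, 1, 2, 3, 4, 3, 0, 1, 2, 3, 4, 0, 1, 0] (Cert.fail)),
  (2, Cert.fail),
  (1, Cert.step [1, 2, 3, 4, 5, 1, 0, 2, 3, 2, 1, 5, 4, 3, 2, 3, 1] (Cert.fail)),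
  (1, Cert.step [1, 2, 1, 3, 2, 5, 1, 0, 2, 1, 5, 3, 2, 1, 0, 1] (Cert.fail)),
  (1, Cert.step [2, 6, 1, 2, 3, 4, 5, 1, 2, 3, 2, 1, 5, 4, 3, 2, 1, 6, 3, 2] (Cert.fail)),
  (2, Cert.fail),
  (1, Cert.step [2, 1, 0, 3, 2, 1, 3, 2, 0, 1, 5, 2, 3, 2, 1, 0] (Cert.fail)),
  (1, Cert.fail),
  (1, Cert.step [1, 0, 1, 0, 1, 5, 1] (Cert.fail)),
  (1, Cert.step [5, 1, 0, 2, 3, 2, 1, 0, 5, 1, 2, 0, 1, 5, 2, 3, 2, 3, 4, 1, 2, 0, 1] (Cert.fail)),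
  (2, Cert.fail),
  (1, Cert.step [1, 0, 5, 1, 0, 1, 0] (Cert.fail)),
  (1, Cert.step [1, 2, 1, 3, 4, 5, 1, 2, 3, 2, 1, 5, 4, 3, 2, 3, 1, 2] (Cert.fail)),
  (1, Cert.step [6, 1, 2, 3, 4, 5, 1, 2, 3, 4, 2, 3, 2, 1, 5, 2, 1, 6] (Cert.step [3, 4, 3, 2, 1, 0, 1, 5, 3, 0, 1, 2, 3, 4, 3] (Cert.fail))),
  (1, Cert.step [0, 2, 1, 0, 5, 4, 1, 0, 1, 2] (Cert.fail)),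
  (1, Cert.step [2, 6, 1, 2, 3, 2, 5, 1, 2, 3, 0, 1, 2, 0, 1, 6, 5] (Cert.fail)),
  (1, Cert.fail),
  (1, Cert.step [2, 6, 1, 2, 3, 2, 5, 1, 0, 2, 3, 1, 2, 0, 1, 6, 3, 4, 0] (Cert.fail)),
  (1, Cert.step [6, 1, 0, 2, 5, 1, 2, 3, 2, 0, 1, 5, 2, 3, 2, 1, 6, 0] (Cert.fail)),
  (1, Cert.step [1, 2, 1, 0, 3, 2, 4, 3, 5, 1, 0, 2, 1, 3, 4, 3, 2, 1, 5, 3, 2, 3, 4, 2, 3, 2, 1, 0] (Cert.fail)),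
  (1, Cert.step [1, 0, 2, 1, 3, 2, 3, 2, 1, 0, 1, 2, 3, 2, 0, 1, 5, 2, 0] (Cert.fail)),
  (1, Cert.step [2, 1, 0, 1, 5, 0, 1, 2, 3] (Cert.fail)),
  (1, Cert.step [4, 2] (Cert.fail)),
  (1, Cert.step [2, 6, 1, 2, 3, 2, 3, 5, 1, 2, 3, 2, 1, 5, 3, 2, 0, 1, 6, 4] (Cert.fail)),
  (1, Cert.fail),
  (1, Cert.step [1, 2, 1, 5, 1, 2, 0, 1, 5, 2, 1, 0] (Cert.fail)),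
  (1, Cert.step [2, 6, 1, 2, 3, 2, 5, 1, 0, 1, 2, 3, 1, 2, 3, 2, 1, 6, 4, 3] (Cert.fail)),
  (1, Cert.step [5, 1, 0, 2, 1, 0, 1, 3, 2, 3, 1, 2, 0, 1, 0, 1] (Cert.fail)),
  (1, Cert.step [0, 2, 1, 0, 1, 2, 3, 2, 1, 5, 3, 2, 1, 5, 3, 0, 1, 2, 0, 1] (Cert.fail)),
  (1, Cert.step [2, 3, 1, 5, 1, 2, 3, 2, 1, 4, 3, 2, 3, 4, 2, 3, 4, 0, 1, 2, 3, 2, 1, 0, 1, 2] (Cert.fail)),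
  (1, Cert.step [6, 1, 0, 2, 5, 1, 2, 3, 2, 0, 1, 5, 2, 3, 2, 1, 6] (Cert.fail)),
  (1, Cert.fail),
  (1, Cert.step [0, 1, 2, 1, 3, 2, 5, 1, 0, 2, 1, 5, 3, 2, 1, 0, 1] (Cert.fail)),
  (1, Cert.step [1, 0, 5, 1, 0, 1, 2, 3] (Cert.fail)),
  (1, Cert.step [1, 5, 6, 1, 0, 1, 2, 1, 3, 2, 4, 6, 1, 2, 1, 6, 3, 2, 1, 5, 4, 3, 2, 1, 6, 3] (Cert.fail)),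
  (1, Cert.step [2, 6, 1, 0, 2, 3, 2, 5, 1, 0, 3, 2, 3, 1, 2, 0, 1, 5, 6, 3] (Cert.fail)),
  (1, Cert.step [2, 5, 1, 0, 1, 5, 0, 1] (Cert.step [1, 0, 4, 2, 3, 1, 2, 3, 0, 1, 2, 3, 4, 2, 1, 0, 1] (Cert.fail))),
  (1, Cert.step [1, 5, 6, 1, 2, 3, 2, 1, 0, 1, 6, 0, 1, 5, 2, 3, 2, 1, 6, 5, 4, 1, 2] (Cert.fail)),
  (2, Cert.fail),
  (1, Cert.step [2, 1, 3, 2, 5, 1, 0, 1, 5, 2, 3, 1] (Cert.fail)),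
  (1, Cert.fail),
  (1, Cert.step [1, 2, 1, 3, 2, 5, 1, 0, 2, 3, 1, 2, 3, 0, 1, 2, 0] (Cert.fail)),
  (1, Cert.step [1, 2, 1, 0, 3, 2, 5, 1, 0, 3, 2, 3, 4, 1, 2, 3, 0, 1] (Cert.step [2, 4, 3, 2, 1, 0, 3, 2, 1, 4, 3, 0, 1, 2, 3, 4, 1, 2, 0, 1, 0, 1] (Cert.fail))),
  (1, Cert.fail),
  (1, Cert.step [2, 1, 0, 1, 0, 5, 1, 2, 3, 2] (Cert.fail)),
  (1, Cert.step [1, 0, 2, 5, 1, 2, 3, 2, 0, 1, 5, 2, 3, 4, 2, 1] (Cert.fail)),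
  (1, Cert.step [2, 1, 0, 1, 0, 1, 5, 1, 2] (Cert.fail)),
  (1, Cert.step [1, 0, 2, 5, 1, 0, 2, 3, 1, 2, 0, 1, 5, 3, 2, 1] (Cert.fail)),
  (1, Cert.fail),
  (1, Cert.step [2, 6, 1, 2, 3, 2, 5, 1, 0, 2, 3, 1, 2, 0, 1, 6, 3, 4, 0] (Cert.fail)),
  (1, Cert.step [1, 0, 1, 5, 0, 1, 0] (Cert.fail)),
  (1, Cert.step [2, 3, 2, 1, 5, 0, 1, 0, 1] (Cert.fail)),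
  (1, Cert.fail),
  (1, Cert.step [1, 2, 1, 3, 2, 5, 1, 0, 2, 3, 4, 1, 2, 3, 0, 1] (Cert.fail)),
  (1, Cert.step [0, 2, 6, 1, 2, 3, 2, 4, 3, 2, 5, 1, 2, 3, 1, 2, 3, 4, 2, 3, 1, 2, 0, 1, 6, 3, 2, 0] (Cert.fail)),
  (1, Cert.step [1, 0, 2, 1, 3, 2, 3, 5, 1, 2, 1, 0, 1, 5, 0, 1, 2, 3, 2, 0, 1] (Cert.fail)),
  (1, Cert.step [1, 5, 6, 1, 2, 3, 2, 5, 1, 0, 6, 1, 0, 1, 2, 3, 2, 1, 6, 5, 1, 0] (Cert.fail)),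
  (1, Cert.fail),
  (1, Cert.step [4, 2] (Cert.fail)),
  (1, Cert.step [0, 2, 3, 6, 1, 2, 3, 2, 5, 1, 2, 3, 0, 1, 2, 0, 1, 6, 3] (Cert.fail)),
  (1, Cert.step [2, 1, 0, 1, 5, 4, 3, 0, 1] (Cert.fail)),
  (1, Cert.step [2, 6, 1, 2, 3, 2, 5, 1, 0, 2, 3, 1, 2, 0, 1, 6, 3, 4, 0] (Cert.fail)),
  (2, Cert.fail),
  (1, Cert.step [4, 3, 6, 1, 2, 3, 2, 1, 0, 4, 5, 1, 2, 3, 2, 1, 5, 4, 0, 1, 2, 3, 2, 1, 6, 2] (Cert.fail)),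
  (1, Cert.step [1, 2, 5, 1, 2, 3, 2, 4, 3, 4, 2, 3, 1, 2, 0, 1, 0, 1] (Cert.fail)),
  (1, Cert.step [1, 2, 3, 4, 3, 2, 1, 0, 1, 5, 1, 2, 3, 2, 1, 5, 2, 3, 4, 3, 0, 1, 2, 1, 0, 1] (Cert.fail)),
  (1, Cert.step [1, 2, 1, 3, 2, 3, 5, 1, 2, 3, 2, 1, 5, 3, 4, 2, 0, 1, 0] (Cert.fail)),
  (1, Cert.step [0, 2, 1, 3, 2, 3, 2, 5, 1, 2, 3, 4, 0, 1, 2, 0, 1, 0] (Cert.step [4, 3, 2, 3, 4, 6, 1, 2, 3, 2, 5, 1, 0, 2, 3, 1, 2, 0, 1, 5, 6, 3, 4, 2, 3] (Cert.fail))),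
  (1, Cert.fail),
  (1, Cert.step [0, 1, 0, 5, 4, 1, 0, 1] (Cert.fail)),
  (1, Cert.step [2] (Cert.fail)),
  (1, Cert.fail),
  (1, Cert.step [0, 1, 2, 1, 3, 5, 1, 0, 2, 3, 4, 1, 0, 1, 2, 0, 1, 0] (Cert.fail)),
  (1, Cert.fail),
  (1, Cert.step [1, 2, 3, 2, 4, 3, 2, 1, 0, 1, 2, 5, 1, 0, 3, 2, 1, 5, 3, 4, 3, 2, 3, 1, 2, 1, 0, 1] (Cert.fail)),
  (1, Cert.step [0, 1, 2, 1, 3, 2, 5, 1, 0, 2, 1, 5, 3, 2, 1, 0, 1, 0] (Cert.fail)),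
  (1, Cert.fail),
  (1, Cert.step [4, 0] (Cert.fail)),
  (1, Cert.step [1, 0, 2, 1, 0, 1, 3, 2, 0, 1, 5, 3, 1, 2, 1, 0] (Cert.step [4, 3, 2, 1, 3, 4, 5, 2, 3, 1, 2, 3, 4, 2, 1, 0, 1, 2, 0, 1] (Cert.fail))),
  (1, Cert.step [0, 1, 0, 2, 3, 2, 5, 1, 0, 2, 3, 2, 1, 0, 1, 5, 3, 2, 0, 1] (Cert.step [4, 3, 2, 1, 0, 1, 5, 3, 0, 1, 2, 3, 4, 3] (Cert.fail))),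
  (1, Cert.step [1, 0, 2, 3, 5, 1, 0, 1, 2, 3, 2, 0, 1, 5, 2, 3, 4, 2, 0, 1] (Cert.fail)),
  (1, Cert.step [1, 0, 2, 1, 0, 3, 2, 1, 5, 2, 3, 2, 3, 1, 2, 0] (Cert.fail)),
  (1, Cert.step [1, 0, 2, 3, 2, 5, 1, 2, 3, 2, 3, 1, 2, 0, 1, 5, 4, 1] (Cert.fail)),
  (1, Cert.fail),
  (1, Cert.step [1, 2, 3, 2, 1, 0, 1, 5, 2, 3, 2, 1, 5, 0, 1, 2, 0, 1] (Cert.fail)),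
  (1, Cert.step [5, 1, 2, 3, 6, 5, 1, 2, 6, 1, 5, 1, 6, 3, 2, 1, 5, 3, 2, 1, 6, 3, 4, 1] (Cert.fail)),
  (2, Cert.fail),
  (1, Cert.step [5, 1, 0, 2, 1, 0, 1, 3, 2, 1, 5, 3, 2, 3, 1] (Cert.fail)),
  (1, Cert.fail),
  (1, Cert.step [1, 6, 5, 1, 0, 2, 1, 3, 2, 6, 1, 0, 1, 2, 3, 2, 1, 6, 5, 3, 4, 2, 1] (Cert.fail)),
  (1, Cert.step [0, 6, 1, 0, 1, 2, 1, 3, 2, 6, 1, 5, 6, 1, 0, 1, 6, 2, 3, 1, 2, 0, 1, 6, 4, 3] (Cert.fail)),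
  (1, Cert.step [6, 1, 0, 2, 1, 3, 2, 5, 1, 2, 3, 2, 1, 5, 1, 2, 3, 1, 2, 0, 1, 6, 4, 3] (Cert.fail)),
  (1, Cert.step [1, 2, 3, 5, 1, 2, 3, 1, 0, 1, 2, 0, 1, 0] (Cert.fail)),
  (2, Cert.fail),
  (1, Cert.step [1, 0, 6, 1, 0, 5, 1, 0, 1, 6, 1, 2, 3, 2] (Cert.fail)),
  (1, Cert.step [2, 1, 3, 2, 3, 5, 1, 2, 3, 1, 0, 1, 2, 0, 1, 5] (Cert.fail)),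
  (1, Cert.step [0, 1, 0, 4, 5, 1, 0, 1, 2, 3] (Cert.fail)),
  (1, Cert.step [5, 2, 3] (Cert.step [1, 0, 1, 2, 4, 5, 1, 0, 1, 2, 3, 2, 1, 5, 3, 4, 2, 1] (Cert.fail))),
  (1, Cert.fail),
  (1, Cert.step [2, 1, 0, 5, 1, 0, 1, 2, 3] (Cert.fail)),
  (1, Cert.step [1, 0, 1, 5, 4, 0, 1, 2] (Cert.fail)),
  (1, Cert.step [1, 2, 3, 2, 1, 0, 1, 2, 6, 1, 5, 6, 1, 0, 1, 6, 3, 2, 3, 1, 0, 1] (Cert.fail)),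
  (1, Cert.step [0, 6, 1, 0, 2, 1, 0, 3, 2, 1, 5, 2, 3, 2, 1, 6, 3, 4] (Cert.fail)),
  (1, Cert.step [6, 1, 2, 3, 2, 5, 1, 2, 3, 0, 1, 2, 0, 1, 6, 4, 0] (Cert.fail)),
  (1, Cert.step [2, 1, 3, 2, 6, 1, 0, 2, 1, 0, 5, 1, 5, 6, 1, 2, 1, 0, 1, 6, 3, 2] (Cert.fail)),
  (1, Cert.fail),
  (1, Cert.step [6, 1, 5, 1, 0, 2, 1, 3, 2, 1, 3, 2, 1, 5, 3, 2, 0, 1, 6, 4] (Cert.fail)),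
  (1, Cert.step [6, 1, 2, 3, 2, 5, 1, 0, 2, 3, 1, 2, 0, 1, 6, 3, 4] (Cert.fail)),
  (1, Cert.step [0, 1, 0, 2, 1, 4, 3, 5, 1, 0, 1, 2, 3, 4, 3, 2, 1, 5, 3, 0, 1, 2, 1, 0, 1] (Cert.step [3, 2, 3, 4, 3, 2, 3, 0] (Cert.fail))),
  (1, Cert.fail),
  (1, Cert.step [0, 1, 2, 1, 3, 5, 1, 0, 2, 3, 4, 1, 0, 1, 2, 0, 1, 0] (Cert.fail)),
  (1, Cert.fail),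
  (1, Cert.step [6, 1, 2, 3, 4, 5, 1, 0, 2, 3, 2, 1, 5, 4, 3, 2, 1, 6, 0] (Cert.fail)),
  (1, Cert.fail),
  (1, Cert.step [6, 1, 2, 3, 2, 4, 3, 2, 5, 1, 2, 3, 2, 1, 2, 3, 4, 2, 3, 1, 2, 3, 2, 1, 6, 4, 2] (Cert.fail)),
  (1, Cert.step [0, 1, 0, 2, 1, 0, 3, 2, 3, 6, 1, 6, 1, 5, 6, 2, 3, 4, 1, 2, 1, 0] (Cert.step [4, 3, 2, 1, 5, 4, 3, 0, 1, 0, 1, 2, 3, 4] (Cert.fail))),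
  (1, Cert.fail),
  (1, Cert.step [1, 2, 1, 3, 5, 1, 0, 2, 3, 1, 0, 1, 2, 3, 0, 1] (Cert.fail)),
  (1, Cert.step [2, 3, 6, 1, 2, 5, 1, 0, 1, 5, 2, 1, 6, 5] (Cert.fail)),
  (1, Cert.step [1, 0, 1, 2, 1, 3, 2, 6, 1, 5, 6, 1, 0, 1, 6, 2, 3, 4, 1, 2, 3, 0, 1] (Cert.fail)),
  (1, Cert.step [6, 1, 0, 2, 1, 0, 3, 2, 1, 5, 2, 3, 2, 1, 6, 4] (Cert.fail)),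
  (1, Cert.step [1, 2, 3, 5, 1, 0, 2, 1, 3, 2, 0, 1, 5, 2, 0, 1] (Cert.fail)),
  (1, Cert.step [1, 2, 3, 2, 5, 1, 0, 2, 1, 5, 3, 2, 3, 1, 0, 1] (Cert.fail)),
  (1, Cert.step [0, 2, 1, 0, 3, 2, 1, 3, 2, 0, 1, 5, 2, 3, 1, 2, 1, 0] (Cert.fail)),
  (1, Cert.fail),
  (1, Cert.step [2, 6, 1, 2, 3, 2, 5, 1, 2, 3, 0, 1, 2, 0, 1, 6] (Cert.fail)),
  (1, Cert.fail),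
  (1, Cert.step [0, 1, 0, 2, 1, 0, 3, 2, 3, 6, 1, 6, 1, 5, 6, 2, 3, 4, 1, 2, 1, 0] (Cert.fail)),
  (1, Cert.fail),
  (1, Cert.step [0, 1, 2, 3, 5, 1, 0, 2, 1, 3, 0, 1, 2, 3, 0, 1, 2] (Cert.fail)),
  (1, Cert.fail),
  (1, Cert.step [0, 6, 1, 2, 3, 4, 5, 1, 0, 2, 3, 2, 1, 5, 4, 3, 2, 1, 6, 3] (Cert.fail)),
  (1, Cert.step [2, 1, 0, 1, 4, 5, 0, 1, 2, 3] (Cert.fail)),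
  (1, Cert.fail),
  (1, Cert.step [0, 1, 0, 2, 1, 0, 5, 1, 2, 3, 2, 5, 1, 0, 1, 2, 3, 2, 1, 5, 3] (Cert.fail)),
  (1, Cert.fail),
  (1, Cert.step [2, 1, 0, 1, 5, 4, 0, 1, 0] (Cert.fail)),
  (1, Cert.step [1, 2, 3, 5, 1, 2, 3, 1, 0, 1, 2, 3, 0, 1] (Cert.fail)),
  (1, Cert.step [1, 0, 5, 1, 0, 1, 5, 2] (Cert.fail)),
  (1, Cert.step [1, 0, 2, 1, 0, 3, 2, 1, 5, 2, 3, 2, 3, 1, 2, 0] (Cert.fail)),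
  (1, Cert.step [5, 1, 6, 1, 2, 3, 5, 1, 2, 3, 6, 5, 1, 5, 6, 2, 1, 5, 6, 3, 4, 2, 3, 1] (Cert.fail)),
  (1, Cert.step [5, 6, 1, 2, 3, 4, 5, 1, 2, 3, 2, 1, 5, 4, 3, 2, 1, 6, 3, 2] (Cert.fail)),
  (1, Cert.step [3, 2, 3, 2, 1, 0, 1, 2, 3, 5, 1, 0, 1, 2, 3, 4, 3, 2, 3, 0, 1, 0, 1, 2, 0, 1] (Cert.fail)),
  (1, Cert.fail),
  (1, Cert.step [2, 5, 1, 0, 1, 5, 0, 1, 2] (Cert.fail)),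
  (1, Cert.step [1, 2, 3, 2, 5, 1, 0, 2, 1, 5, 3, 2, 1, 0, 1, 0] (Cert.fail)),
  (1, Cert.step [0, 2, 1, 0, 1, 5, 4, 0, 1, 2] (Cert.fail)),
  (1, Cert.fail),
  (1, Cert.step [2, 1, 0, 3, 2, 1, 3, 2, 0, 1, 2, 3, 2, 1, 5, 1, 0] (Cert.fail)),
  (1, Cert.step [0, 2, 6, 1, 2, 3, 2, 5, 1, 2, 3, 0, 1, 2, 0, 1, 6, 3] (Cert.fail)),
  (1, Cert.step [1, 2, 3, 6, 1, 5, 1, 2, 3, 6, 1, 2, 0, 1, 0, 1, 2, 3, 2, 1, 6, 1, 5, 4] (Cert.fail)),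
  (1, Cert.step [1, 2, 3, 2, 1, 0, 1, 2, 5, 3, 2, 1, 5, 0, 1, 2, 3, 0, 1] (Cert.fail)),
  (1, Cert.step [2, 1, 0, 1, 5, 0, 1, 2, 3] (Cert.fail)),
  (1, Cert.step [2, 5, 1, 0, 1, 5, 3, 0, 1] (Cert.fail)),
  (1, Cert.fail),
  (1, Cert.step [0, 1, 0, 2, 1, 3, 2, 5, 1, 2, 3, 2, 1, 5, 2, 3, 1, 2, 3, 4, 1, 2, 1] (Cert.fail)),
  (1, Cert.fail),
  (1, Cert.step [0, 1, 2, 3, 5, 1, 0, 2, 1, 3, 0, 1, 2, 3, 0, 1, 2] (Cert.fail)),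
  (1, Cert.step [2, 3, 6, 1, 2, 3, 4, 5, 1, 2, 3, 2, 1, 5, 4, 3, 2, 1, 6] (Cert.fail)),
  (1, Cert.fail),
  (1, Cert.step [1, 0, 2, 1, 0, 1, 3, 2, 3, 1, 2, 0, 1, 0, 1] (Cert.fail)),
  (1, Cert.step [5, 1, 0, 2, 1, 0, 1, 3, 2, 1, 5, 3, 2, 3, 4, 1] (Cert.fail)),
  (1, Cert.fail),
  (1, Cert.step [0, 1, 0, 1, 2, 3, 5, 1, 2, 3, 0, 1, 5, 2, 3, 4, 2, 0, 1] (Cert.fail)),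
  (1, Cert.step [1, 2, 3, 5, 1, 2, 3, 2, 1, 0, 1, 2, 3, 0, 1] (Cert.fail)),
  (1, Cert.step [1, 0, 5, 4, 3, 1, 0, 1, 0] (Cert.fail)),
  (1, Cert.step [0, 1, 2, 3, 5, 1, 0, 2, 3, 4, 1, 0, 1, 2, 0, 1] (Cert.fail)),
  (1, Cert.step [1, 2, 1, 0, 3, 2, 5, 1, 0, 3, 2, 3, 4, 1, 2, 3, 0, 1] (Cert.step [1, 0, 2, 1, 4, 0, 1, 2, 3, 2, 1, 5, 3, 1, 2, 3, 4, 1] (Cert.fail))),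
  (1, Cert.step [1, 0, 2, 1, 0, 1, 0, 3, 2, 1, 5, 3, 2, 3, 1, 0] (Cert.fail)),
  (1, Cert.step [6, 1, 2, 3, 2, 5, 1, 2, 3, 0, 1, 2, 0, 1, 6, 2] (Cert.fail)),
  (1, Cert.step [2, 1, 0, 3, 2, 5, 1, 0, 2, 1, 3, 2, 3, 5, 4, 3, 2, 3, 2, 1, 0, 1, 2, 0, 1] (Cert.fail)),
  (1, Cert.step [0, 2, 3, 6, 1, 2, 3, 2, 5, 1, 2, 3, 0, 1, 2, 0, 1, 6, 4] (Cert.fail)),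
  (1, Cert.step [0, 1, 0, 1, 2, 3, 5, 1, 2, 3, 0, 1, 5, 2, 3, 4, 2, 0, 1] (Cert.fail)),
  (1, Cert.step [1, 2, 3, 2, 1, 5, 1, 0, 1, 2, 1, 5, 2, 3, 4, 1, 2, 3, 1, 0, 1] (Cert.fail)),
  (1, Cert.step [1, 2, 3, 5, 1, 2, 3, 2, 4, 1, 0, 1, 2, 3, 0, 1] (Cert.step [1, 3, 2, 1, 3, 2, 1, 0, 4, 1, 2, 3, 4, 2, 1, 0, 1, 2, 3, 2, 3, 1] (Cert.fail))),
  (1, Cert.step [1, 0, 5, 4, 3, 1, 0, 1] (Cert.step [3, 4, 3, 2, 1, 3, 2, 5, 1, 4, 3, 2, 3, 4, 2, 1, 0, 1, 2, 3, 0, 1] (Cert.fail))),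
  (1, Cert.step [1, 0, 1, 5, 4, 0, 1, 2] (Cert.fail)),
  (1, Cert.step [0, 2, 1, 0, 3, 2, 1, 3, 2, 0, 1, 5, 2, 3, 1, 2, 1] (Cert.fail)),
  (1, Cert.step [1, 0, 5, 4, 1, 0, 1, 0] (Cert.fail)),
  (1, Cert.step [1, 2, 3, 2, 4, 3, 2, 5, 1, 2, 3, 2, 1, 2, 3, 4, 2, 3, 1, 2, 3, 2, 1, 5, 2] (Cert.step [1, 0, 2, 1, 4, 0, 1, 2, 3, 2, 1, 5, 3, 2, 3, 1, 2, 3, 4] (Cert.fail))),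
  (1, Cert.step [4, 3, 2] (Cert.fail)),
  (1, Cert.fail),
  (1, Cert.step [4, 3, 2] (Cert.fail)),
  (1, Cert.fail),
  (1, Cert.step [6, 1, 2, 3, 2, 5, 1, 0, 2, 3, 1, 2, 0, 1, 6, 3, 2] (Cert.fail)),
  (1, Cert.step [1, 2, 1, 0, 3, 2, 5, 1, 2, 3, 2, 1, 5, 3, 4, 2, 0, 1, 0] (Cert.fail)),
  (1, Cert.step [0, 1, 0, 2, 3, 2, 5, 1, 0, 2, 3, 2, 1, 0, 1, 5, 3, 2, 0, 1] (Cert.fail)),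
  (1, Cert.fail),
  (1, Cert.step [1, 0, 2, 1, 0, 1, 2, 3, 2, 1, 5, 3, 2, 3, 1] (Cert.fail)),
  (1, Cert.step [6, 1, 0, 2, 5, 1, 2, 3, 2, 0, 1, 5, 2, 3, 2, 1, 6, 5] (Cert.fail)),
  (1, Cert.step [1, 0, 1, 4, 5, 0, 1, 2, 0] (Cert.fail)),
  (1, Cert.step [2, 1, 3, 2, 3, 5, 1, 2, 3, 0, 1, 0, 1, 2, 0, 1] (Cert.step [2, 4, 3, 2, 1, 0, 3, 2, 1, 4, 3, 0, 1, 2, 3, 4, 1, 2, 0, 1, 0, 1] (Cert.fail))),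
  (1, Cert.step [6, 1, 2, 3, 5, 1, 0, 2, 1, 3, 2, 0, 1, 5, 2, 0, 1, 6] (Cert.fail)),
  (1, Cert.step [1, 0, 1, 2, 6, 1, 5, 6, 1, 0, 1, 6, 2, 3, 0, 1, 2] (Cert.fail)),
  (1, Cert.step [0, 2, 6, 1, 0, 2, 3, 2, 4, 3, 5, 1, 0, 2, 3, 4, 3, 2, 3, 4, 1, 2, 3, 2, 1, 0, 1, 6, 2] (Cert.fail)),
  (1, Cert.step [2, 1, 0, 3, 2, 1, 0, 3, 1, 2, 0, 1, 5, 3, 2, 1, 0] (Cert.fail)),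
  (1, Cert.step [1, 2, 1, 0, 3, 2, 4, 3, 5, 1, 0, 2, 3, 4, 3, 2, 3, 4, 1, 2, 3, 2, 1, 0, 1, 0] (Cert.step [0, 1, 0, 4, 3, 2, 1, 3, 0, 1, 2, 3, 4, 1, 2, 0, 1, 0, 1] (Cert.fail))),
  (1, Cert.step [6, 1, 0, 1, 0, 2, 1, 3, 2, 5, 3, 1, 0, 1, 2, 0, 1, 6] (Cert.fail)),
  (1, Cert.step [1, 2, 1, 0, 3, 2, 1, 0, 5, 1, 0, 1, 2, 1, 5, 3, 2, 3, 4, 1, 2, 0, 1] (Cert.fail)),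
  (1, Cert.step [1, 0, 2, 1, 0, 1, 0, 3, 2, 1, 5, 3, 2, 3, 1, 0] (Cert.fail)),
  (1, Cert.step [1, 2, 3, 5, 1, 0, 2, 1, 0, 1, 5, 3, 2, 1, 0, 1, 0] (Cert.step [4, 3, 2, 1, 3, 2, 4, 3, 2, 5, 1, 0, 2, 1, 3, 2, 3, 4, 0, 1, 2] (Cert.fail))),
  (1, Cert.step [2, 5, 1, 0, 1, 5, 3, 0, 1] (Cert.fail)),
  (1, Cert.fail),
  (1, Cert.step [6, 1, 2, 3, 4, 5, 1, 0, 2, 3, 2, 1, 5, 4, 3, 2, 1, 6] (Cert.fail)),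
  (1, Cert.step [1, 2, 6, 1, 5, 1, 2, 3, 2, 3, 6, 1, 2, 3, 0, 1, 2, 0, 1, 6, 2, 1] (Cert.fail)),
  (1, Cert.step [1, 2, 1, 3, 2, 5, 1, 0, 2, 3, 1, 2, 3, 4, 0, 1, 0] (Cert.fail)),
  (1, Cert.step [2, 1, 0, 1, 2, 3, 2, 3, 5, 1, 0, 1, 2, 3, 4, 2, 3, 2, 1, 5, 2, 3, 1, 2, 1, 0] (Cert.fail)),
  (2, Cert.fail),
  (1, Cert.step [1, 0, 1, 2, 3, 2, 5, 1, 0, 1, 2, 3, 2, 3, 1, 2, 3, 0, 1] (Cert.fail)),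
  (1, Cert.fail),
  (1, Cert.step [6, 1, 2, 3, 2, 5, 1, 0, 2, 3, 1, 2, 0, 1, 6, 2, 3] (Cert.fail)),
  (1, Cert.step [2, 6, 1, 2, 3, 2, 5, 1, 2, 3, 0, 1, 2, 0, 1, 6, 4, 0] (Cert.fail)),
  (1, Cert.step [1, 2, 3, 2, 5, 1, 0, 2, 3, 1, 2, 3, 4, 3, 0, 1] (Cert.fail)),
  (1, Cert.fail),
  (1, Cert.step [1, 2, 3, 5, 6, 1, 2, 3, 2, 1, 0, 1, 6, 2, 3, 1, 2, 0, 1, 5, 6, 1, 2] (Cert.fail)),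
  (1, Cert.step [1, 2, 1, 3, 5, 1, 2, 3, 0, 1, 0, 1, 2, 0, 1] (Cert.fail)),
  (1, Cert.step [0, 1, 0, 5, 4, 3, 1, 0, 1] (Cert.fail)),
  (1, Cert.step [5, 6, 1, 2, 3, 4, 5, 1, 2, 3, 2, 1, 5, 4, 3, 2, 1, 6, 3, 4] (Cert.fail)),
  (1, Cert.step [1, 0, 1, 2, 3, 5, 1, 2, 3, 0, 1, 5, 2, 3, 4, 2, 0, 1] (Cert.fail)),
  (1, Cert.step [1, 0, 1, 0, 2, 1, 3, 2, 5, 3, 1, 0, 1, 2, 0, 1] (Cert.fail)),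
  (1, Cert.step [0, 1, 2, 3, 4, 5, 1, 0, 2, 3, 4, 2, 3, 2, 1, 5, 2, 1] (Cert.fail)),
  (1, Cert.step [0, 1, 2, 3, 2, 5, 1, 0, 2, 3, 1, 2, 3, 0, 1, 2, 0] (Cert.fail)),
  (1, Cert.step [1, 0, 2, 1, 0, 5, 1, 2, 3, 2, 5, 1, 0, 1, 2, 3, 2, 3, 1, 0] (Cert.fail)),
  (1, Cert.step [2, 1, 3, 2, 3, 4, 5, 1, 2, 3, 2, 1, 5, 4, 3, 2, 1] (Cert.fail)),
  (1, Cert.fail),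
  (1, Cert.step [1, 0, 1, 0, 2, 1, 3, 2, 5, 3, 1, 0, 1, 2, 0, 1] (Cert.fail)),
  (1, Cert.step [1, 5, 6, 1, 2, 3, 2, 1, 0, 1, 6, 0, 1, 5, 2, 3, 2, 1, 6, 5, 1, 2] (Cert.fail)),
  (1, Cert.fail),
  (1, Cert.step [0, 2, 3, 2, 1, 4, 3, 2, 1, 3, 5, 1, 2, 3, 4, 3, 2, 3, 1, 2, 0, 1, 0, 1] (Cert.fail)),
  (1, Cert.step [1, 2, 1, 3, 2, 5, 1, 0, 1, 2, 3, 1, 2, 3, 4, 2, 3, 1] (Cert.fail)),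
  (1, Cert.step [1, 0, 2, 5, 1, 2, 3, 2, 0, 1, 5, 2, 3, 1, 2, 1] (Cert.fail)),
  (1, Cert.step [0, 1, 2, 3, 6, 5, 1, 2, 6, 1, 5, 1, 6, 3, 2, 1, 5, 3, 2, 1, 6, 4, 3, 1] (Cert.fail)),
  (1, Cert.step [6, 1, 0, 2, 1, 0, 1, 3, 5, 2, 3, 1, 2, 0, 1, 0, 1, 6] (Cert.fail)),
  (1, Cert.fail),
  (1, Cert.step [0, 1, 2, 1, 3, 2, 5, 1, 0, 2, 3, 1, 2, 3, 0, 1, 2] (Cert.fail)),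
  (1, Cert.step [2, 1, 3, 2, 6, 1, 0, 2, 1, 0, 5, 1, 5, 6, 1, 2, 1, 0, 1, 6, 3, 2] (Cert.step [4, 3, 2, 1, 0, 1, 5, 4, 3, 0, 1, 2, 3, 4] (Cert.fail))),
  (1, Cert.step [2, 1, 0, 3, 2, 1, 0, 1, 2, 3, 2, 1, 5, 3, 2, 1] (Cert.fail)),
  (1, Cert.step [6, 1, 0, 5, 1, 0, 1, 6, 2, 3, 2] (Cert.step [1, 0, 1, 0, 2, 1, 3, 2, 3, 2, 4, 3, 2, 3, 4, 1, 2, 3, 2, 1, 0, 1, 5, 1, 2, 3, 4, 1] (Cert.fail))),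
  (1, Cert.step [1, 0, 2, 1, 0, 1, 0, 3, 2, 1, 5, 3, 2, 3, 1, 2] (Cert.fail)),
  (1, Cert.fail),
  (1, Cert.step [0, 1, 2, 1, 3, 5, 1, 2, 3, 2, 1, 0, 1, 2, 0, 1] (Cert.fail)),
  (2, Cert.fail),
  (1, Cert.step [2, 1, 3, 2, 3, 2, 1, 0, 1, 5, 2, 3, 2, 1, 5, 0, 1, 2, 0, 1] (Cert.fail)),
  (1, Cert.step [2, 3, 6, 1, 0, 2, 1, 0, 1, 6, 1, 5, 2, 1, 6, 3, 2, 1, 5, 3, 2, 1] (Cert.fail)),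
  (1, Cert.step [6, 1, 2, 3, 2, 5, 1, 2, 3, 0, 1, 2, 0, 1, 5, 6] (Cert.fail)),
  (1, Cert.step [0, 1, 0, 1, 2, 1, 3, 2, 0, 1, 0, 1, 2, 3, 2, 3, 1] (Cert.fail)),
  (1, Cert.step [2, 6, 1, 0, 2, 3, 2, 5, 1, 0, 1, 3, 2, 3, 1, 2, 3, 2, 1, 6, 5, 2] (Cert.fail)),
  (1, Cert.step [0, 2, 6, 1, 2, 3, 2, 3, 5, 1, 2, 3, 2, 1, 5, 3, 2, 0, 1, 6, 4] (Cert.fail)),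
  (1, Cert.step [1, 2, 3, 2, 1, 5, 1, 0, 1, 2, 3, 0, 1, 5, 2, 3, 0, 1, 2, 3, 2, 1] (Cert.fail)),
  (1, Cert.step [1, 2, 3, 5, 6, 1, 2, 3, 2, 1, 0, 1, 6, 2, 3, 1, 2, 0, 1, 5, 6, 1, 2] (Cert.fail)),
  (1, Cert.step [6, 1, 0, 1, 0, 5, 1, 6, 2, 3, 2] (Cert.fail)),
  (1, Cert.step [2, 1, 0, 5, 3, 1, 0, 1] (Cert.step [2, 3, 4, 3, 2, 0] (Cert.fail))),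
  (1, Cert.step [0, 1, 2, 3, 4, 5, 1, 2, 3, 2, 1, 5, 4, 3, 1, 2, 1] (Cert.fail)),
  (1, Cert.step [1, 5, 1, 0, 2, 1, 3, 2, 1, 3, 2, 1, 5, 3, 4, 2, 0, 1, 0] (Cert.step [1, 0, 2, 1, 0, 1, 2, 4, 3, 2, 1, 3, 2, 5, 4, 3, 1, 2, 3, 4] (Cert.fail))),
  (1, Cert.fail),
  (1, Cert.step [2, 1, 5, 6, 1, 2, 3, 2, 5, 1, 0, 6, 1, 0, 1, 2, 3, 2, 1, 6, 5, 1] (Cert.fail)),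
  (1, Cert.step [2, 1, 3, 4, 3, 2, 5, 1, 2, 3, 2, 4, 3, 2, 1, 5, 4, 3, 1, 2, 3, 1, 2] (Cert.fail)),
  (1, Cert.step [0, 1, 0, 1, 2, 3, 5, 1, 2, 0, 1, 5, 2, 3, 2, 3, 1] (Cert.fail)),
  (1, Cert.step [4, 3] (Cert.fail)),
  (1, Cert.step [1, 2, 1, 3, 4, 5, 1, 2, 3, 2, 1, 5, 3, 4, 3, 2, 1] (Cert.fail)),
  (1, Cert.step [6, 1, 2, 3, 5, 1, 2, 3, 2, 1, 0, 1, 2, 0, 1, 6, 3, 4] (Cert.fail)),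
  (1, Cert.step [1, 2, 3, 2, 5, 1, 0, 2, 3, 1, 2, 0, 1, 5, 3] (Cert.fail)),
  (1, Cert.step [0, 6, 1, 0, 2, 1, 0, 3, 2, 1, 5, 2, 3, 2, 1, 6, 2, 3] (Cert.fail)),
  (1, Cert.step [0, 2, 1, 0, 1, 2, 3, 2, 1, 5, 3, 2, 1, 5, 3, 0, 1, 2, 0, 1] (Cert.fail)),
  (1, Cert.step [1, 0, 2, 1, 3, 2, 3, 2, 5, 1, 0, 2, 1, 5, 3, 0, 1, 2, 3, 4, 2, 1, 0] (Cert.fail)),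
  (1, Cert.step [1, 2, 1, 3, 2, 4, 3, 2, 5, 1, 2, 3, 2, 1, 2, 3, 4, 2, 3, 1, 2, 3, 1, 2, 1, 0] (Cert.step [4, 3, 2, 1, 5, 0, 1, 0, 1, 2, 3, 4] (Cert.fail))),
  (1, Cert.step [0, 1, 2, 1, 3, 2, 5, 1, 0, 2, 3, 1, 2, 3, 0, 1, 2] (Cert.fail)),
  (1, Cert.step [6, 1, 2, 3, 2, 5, 1, 0, 2, 3, 1, 2, 0, 1, 6, 3, 4] (Cert.fail)),
  (1, Cert.step [1, 2, 3, 2, 1, 0, 1, 2, 6, 1, 5, 6, 1, 0, 1, 6, 3, 2, 3, 1, 0, 1] (Cert.fail)),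
  (1, Cert.step [2, 1, 0, 1, 5, 0, 1, 0] (Cert.fail)),
  (1, Cert.step [2, 3, 0, 1, 5, 1, 2, 3, 2, 1, 4, 3, 2, 3, 4, 2, 3, 4, 0, 1, 2, 3, 2, 1, 0, 1, 2] (Cert.fail)),
  (1, Cert.step [1, 5, 1, 2, 3, 2, 1, 0, 2, 3, 2, 1, 5, 2, 0, 1] (Cert.fail)),
  (1, Cert.step [1, 0, 2, 1, 0, 1, 3, 2, 1, 5, 3, 2, 3, 4, 1] (Cert.fail)),
  (1, Cert.step [1, 0, 5, 1, 0, 1, 5, 4] (Cert.fail)),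
  (1, Cert.step [0, 1, 0, 5, 4, 1, 0, 1, 2] (Cert.fail)),
  (1, Cert.step [1, 2, 1, 0, 5, 1, 2, 3, 2, 0, 1, 5, 2, 3, 2, 1] (Cert.fail)),
  (1, Cert.fail),
  (1, Cert.step [6, 1, 2, 3, 2, 5, 1, 0, 2, 3, 1, 2, 0, 1, 6, 3, 2] (Cert.fail)),
  (1, Cert.fail),
  (1, Cert.step [2, 6, 1, 0, 2, 3, 2, 5, 1, 0, 3, 2, 3, 1, 2, 0, 1, 6, 3, 4] (Cert.fail)),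
  (1, Cert.step [5, 6, 1, 2, 3, 4, 5, 1, 2, 3, 2, 1, 5, 4, 3, 2, 1, 6, 3, 4] (Cert.fail)),
  (1, Cert.step [1, 2, 6, 1, 0, 2, 1, 0, 3, 2, 1, 6, 3, 2, 3, 2, 1, 5, 1, 6, 2, 3, 4, 1] (Cert.fail)),
  (1, Cert.step [1, 0, 2, 3, 2, 1, 0, 5, 1, 0, 1, 2, 1, 5, 3, 2, 3, 4, 1, 2, 0, 1] (Cert.fail)),
  (2, Cert.fail),
  (1, Cert.step [1, 2, 3, 2, 1, 0, 1, 2, 3, 0, 1, 2, 1, 0, 1] (Cert.fail)),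
  (1, Cert.fail),
  (1, Cert.step [6, 1, 2, 3, 2, 5, 1, 0, 2, 3, 2, 1, 5, 2, 0, 1, 6] (Cert.fail)),
  (1, Cert.fail),
  (1, Cert.step [0, 2, 1, 0, 5, 1, 0, 1, 2, 3] (Cert.fail)),
  (1, Cert.fail),
  (1, Cert.step [0, 1, 2, 1, 3, 5, 1, 0, 2, 3, 1, 0, 1, 2, 3, 0, 1, 0] (Cert.fail)),
  (1, Cert.fail),
  (1, Cert.step [1, 0, 6, 1, 0, 5, 1, 0, 1, 6, 1, 2, 3, 2] (Cert.fail)),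
  (1, Cert.step [2, 6, 1, 2, 3, 2, 3, 5, 1, 2, 3, 2, 1, 5, 3, 2, 0, 1, 6, 4] (Cert.fail)),
  (1, Cert.fail),
  (1, Cert.step [2, 6, 1, 2, 3, 4, 5, 1, 2, 3, 2, 1, 5, 4, 3, 2, 1, 6, 3, 4] (Cert.fail)),
  (1, Cert.step [1, 2, 1, 3, 2, 5, 1, 0, 2, 3, 4, 1, 2, 3, 0, 1, 0] (Cert.step [2, 3, 4, 3, 2, 0] (Cert.fail))),
  (1, Cert.step [0, 2, 6, 1, 2, 3, 4, 5, 1, 2, 3, 2, 1, 5, 4, 3, 2, 1, 6, 3] (Cert.fail)),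
  (1, Cert.fail),
  (1, Cert.step [6, 1, 0, 2, 5, 1, 2, 3, 2, 0, 1, 5, 2, 3, 2, 1, 6] (Cert.fail)),
  (1, Cert.step [5, 1, 2, 3, 6, 5, 1, 2, 6, 1, 5, 1, 6, 3, 2, 1, 5, 3, 2, 1, 6, 3, 4, 1] (Cert.fail)),
  (1, Cert.step [0, 6, 1, 2, 3, 2, 1, 5, 1, 2, 6, 5, 6, 3, 1, 2, 0, 1, 6, 4, 3, 2] (Cert.fail)),
  (1, Cert.step [1, 2, 3, 2, 1, 0, 1, 2, 3, 0, 1, 2, 1, 0, 1, 5, 0] (Cert.fail)),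
  (1, Cert.step [1, 2, 1, 3, 2, 5, 1, 0, 2, 3, 2, 1, 5, 2, 0, 1] (Cert.fail)),
  (1, Cert.step [2, 1, 6, 5, 1, 0, 2, 1, 3, 2, 6, 1, 0, 1, 2, 3, 2, 1, 6, 5, 3, 4, 2, 1] (Cert.fail)),
  (1, Cert.step [1, 0, 1, 5, 0, 1, 2] (Cert.fail)),
  (1, Cert.step [1, 2, 3, 5, 1, 2, 3, 2, 1, 2, 0, 1, 5, 2, 0, 1] (Cert.fail)),
  (1, Cert.step [2, 1, 3, 2, 3, 4, 5, 1, 2, 3, 2, 0, 1, 5, 4, 3, 2, 1] (Cert.fail)),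
  (1, Cert.step [2, 3, 0, 1, 2, 3, 2, 4, 3, 5, 1, 2, 3, 4, 2, 3, 4, 0, 1, 2, 3, 2, 1, 0, 1, 2] (Cert.fail)),
  (1, Cert.step [6, 1, 2, 3, 5, 1, 2, 3, 2, 1, 2, 0, 1, 5, 2, 0, 1, 6] (Cert.fail)),
  (1, Cert.fail),
  (1, Cert.step [1, 6, 1, 2, 3, 5, 1, 2, 3, 6, 5, 1, 5, 6, 2, 1, 5, 6, 3, 4, 2, 3, 1] (Cert.fail)),
  (1, Cert.step [1, 2, 1, 3, 2, 5, 1, 0, 2, 1, 5, 3, 2, 1, 0, 1] (Cert.fail)),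
  (1, Cert.step [1, 0, 1, 2, 5, 1, 0, 2, 3, 2, 1, 0, 1, 2, 3, 4, 2, 1] (Cert.fail)),
  (1, Cert.fail),
  (1, Cert.step [2, 1, 6, 1, 2, 3, 5, 1, 2, 3, 6, 5, 1, 5, 6, 2, 1, 5, 6, 3, 4, 2, 3, 1] (Cert.fail)),
  (1, Cert.step [2, 1, 0, 3, 2, 1, 3, 2, 0, 1, 5, 2, 3, 1, 2, 1] (Cert.fail)),
  (1, Cert.step [1, 2, 1, 3, 2, 5, 1, 0, 2, 3, 2, 1, 5, 2, 0, 1] (Cert.fail)),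
  (1, Cert.step [1, 2, 3, 2, 5, 1, 0, 2, 3, 2, 1, 5, 4, 2, 0, 1] (Cert.fail)),
  (1, Cert.step [1, 2, 1, 5, 1, 0, 1, 5, 2, 3, 1, 2, 0] (Cert.fail)),
  (1, Cert.step [1, 4, 3, 2, 3, 2, 1, 0, 4, 5, 1, 2, 3, 2, 1, 5, 4, 0, 1, 2, 3, 1, 2, 1, 0] (Cert.fail)),
  (1, Cert.step [0, 1, 2, 3, 2, 5, 1, 0, 1, 2, 3, 1, 2, 3, 4, 2, 3, 1] (Cert.fail)),
  (1, Cert.step [0, 2, 3, 6, 1, 2, 3, 2, 1, 0, 1, 2, 0, 1, 5, 3, 2, 0, 1, 6, 3] (Cert.fail)),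
  (1, Cert.fail),
  (1, Cert.step [0, 5, 2, 3] (Cert.fail)),
  (1, Cert.step [0, 1, 2, 1, 3, 5, 1, 2, 3, 0, 1, 0, 1, 2, 0, 1] (Cert.fail)),
  (1, Cert.step [2, 6, 1, 2, 3, 2, 5, 1, 0, 2, 3, 1, 2, 0, 1, 6, 3, 4, 0] (Cert.fail)),
  (1, Cert.step [1, 2, 3, 5, 1, 0, 2, 1, 3, 0, 1, 2, 0, 1, 5, 3] (Cert.fail)),
  (1, Cert.step [2, 1, 0, 1, 3, 5, 0, 1, 2, 3] (Cert.fail)),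
  (1, Cert.step [0, 1, 0, 5, 1, 2, 0, 1, 2, 3, 4, 1] (Cert.fail)),
  (1, Cert.step [1, 2, 3, 4, 3, 5, 1, 2, 3, 4, 2, 3, 1, 2, 0, 1, 0, 1] (Cert.fail)),
  (1, Cert.step [1, 0, 2, 3, 5, 1, 0, 1, 2, 3, 2, 0, 1, 5, 2, 3, 4, 2, 0, 1] (Cert.fail)),
  (1, Cert.fail),
  (1, Cert.step [1, 0, 5, 1, 0, 1, 5, 2] (Cert.fail)),
  (1, Cert.step [6, 1, 0, 2, 5, 1, 2, 3, 2, 0, 1, 5, 2, 3, 2, 1, 6, 2, 0] (Cert.step [1, 4, 3, 2, 1, 3, 5, 1, 2, 3, 2, 1, 0, 4, 1, 2, 3, 0, 1] (Cert.fail))),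
  (2, Cert.fail),
  (1, Cert.step [1, 2, 1, 0, 1, 0, 3, 2, 1, 5, 2, 3, 2, 3, 1, 2, 0] (Cert.step [3, 4, 3, 2, 1, 3, 4, 5, 2, 3, 1, 2, 3, 4, 2, 1, 0, 1, 2, 0, 1] (Cert.fail))),
  (1, Cert.step [0, 1, 0, 2, 1, 0, 3, 5, 1, 2, 1, 5, 1, 2, 3, 2, 3, 4, 1, 0] (Cert.fail)),
  (1, Cert.fail),
  (1, Cert.step [1, 2, 1, 3, 2, 5, 1, 0, 1, 0, 1, 2, 3, 1, 2, 3, 1, 2, 0, 1] (Cert.fail)),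
  (1, Cert.step [2, 1, 0, 1, 3, 2, 1, 0, 1, 0, 1, 5, 0, 1, 2, 1] (Cert.fail)),
  (4, Cert.fail),
  (1, Cert.step [0, 1, 0, 1, 5, 0, 1, 2, 3] (Cert.fail)),
  (1, Cert.step [6, 1, 0, 2, 5, 1, 2, 3, 2, 0, 1, 5, 2, 3, 2, 1, 6, 0] (Cert.fail)),
  (1, Cert.step [1, 2, 3, 5, 1, 0, 2, 1, 0, 1, 5, 3, 2, 1, 0, 1, 0] (Cert.fail)),
  (1, Cert.fail),
  (1, Cert.step [1, 2, 3, 6, 1, 5, 1, 2, 3, 6, 1, 2, 0, 1, 0, 1, 2, 3, 2, 1, 6, 4, 1, 2] (Cert.fail)),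
  (1, Cert.step [6, 1, 2, 3, 2, 5, 1, 2, 3, 0, 1, 2, 0, 1, 6, 2] (Cert.fail)),
  (1, Cert.fail),
  (1, Cert.step [4, 6, 1, 2, 3, 4, 5, 1, 2, 3, 2, 1, 5, 4, 3, 2, 1, 6, 0] (Cert.fail)),
  (2, Cert.fail),
  (1, Cert.step [1, 0, 1, 2, 3, 2, 1, 0, 5, 1, 2, 3, 1, 0, 1, 5, 0, 1, 2, 3, 4, 1, 2, 1] (Cert.fail)),
  (1, Cert.step [1, 0, 1, 0, 2, 1, 3, 2, 3, 1, 0, 1, 2, 0, 1] (Cert.fail)),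
  (1, Cert.step [5, 6, 1, 2, 3, 2, 5, 1, 0, 2, 3, 1, 2, 0, 1, 6, 4, 3] (Cert.fail)),
  (1, Cert.step [0, 2, 1, 3, 2, 3, 2, 5, 1, 2, 3, 4, 0, 1, 2, 0, 1, 0] (Cert.fail)),
  (1, Cert.fail),
  (1, Cert.step [0, 1, 2, 1, 3, 5, 1, 2, 3, 1, 0, 1, 2, 3, 0, 1] (Cert.fail)),
  (1, Cert.step [0, 1, 0, 2, 1, 3, 2, 5, 1, 2, 3, 2, 1, 5, 2, 3, 1, 2, 3, 2, 1, 5, 4] (Cert.fail)),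
  (1, Cert.fail),
  (1, Cert.step [0, 1, 2, 1, 3, 4, 5, 1, 2, 3, 2, 1, 5, 4, 3, 2, 3, 1] (Cert.fail)),
  (1, Cert.fail),
  (1, Cert.step [2, 1, 0, 1, 5, 4, 0, 1, 0] (Cert.fail)),
  (1, Cert.step [6, 1, 2, 3, 4, 5, 1, 2, 3, 2, 1, 5, 4, 3, 2, 1, 6, 0] (Cert.step [4, 3, 2, 1, 5, 0, 1, 0, 1, 2, 3, 4, 3] (Cert.fail))),
  (1, Cert.step [0, 6, 1, 0, 1, 0, 5, 1, 6, 2, 3, 2] (Cert.fail)),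
  (1, Cert.step [0, 1, 0, 2, 1, 0, 5, 1, 2, 3, 2, 5, 1, 0, 1, 2, 3, 2, 3, 4, 1] (Cert.fail)),
  (1, Cert.step [1, 2, 3, 4, 3, 2, 1, 0, 5, 1, 2, 3, 2, 1, 5, 4, 0, 1, 2, 3, 2, 3, 1, 2] (Cert.fail)),
  (1, Cert.step [1, 0, 2, 1, 3, 2, 1, 0, 5, 1, 0, 3, 2, 1, 5, 2, 3, 4, 1, 2, 0, 1] (Cert.fail)),
  (1, Cert.fail),
  (1, Cert.step [1, 2, 1, 3, 2, 5, 1, 0, 2, 3, 2, 1, 5, 2, 0, 1] (Cert.fail)),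
  (1, Cert.step [1, 0, 1, 0, 2, 1, 3, 2, 5, 3, 1, 0, 1, 2, 0, 1, 0] (Cert.fail)),
  (1, Cert.fail),
  (1, Cert.step [1, 2, 3, 2, 1, 0, 1, 2, 3, 0, 1, 2, 3, 1, 0, 1] (Cert.fail)),
  (1, Cert.step [1, 2, 3, 5, 1, 0, 2, 1, 3, 2, 0, 1, 5, 2, 0, 1] (Cert.fail)),
  (1, Cert.step [1, 2, 3, 5, 1, 0, 2, 3, 1, 0, 1, 2, 3, 0, 1] (Cert.fail)),
  (1, Cert.step [0, 1, 0, 2, 1, 0, 5, 1, 2, 3, 2, 5, 1, 0, 1, 2, 3, 2, 3, 4, 1] (Cert.fail)),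
  (1, Cert.step [1, 0, 1, 5, 0, 1, 2, 0] (Cert.fail)),
  (1, Cert.step [1, 2, 3, 5, 1, 2, 6, 5, 1, 6, 1, 6, 3, 4, 0, 1, 2, 3, 0, 1, 0] (Cert.fail)),
  (1, Cert.step [1, 2, 3, 5, 1, 2, 3, 1, 0, 1, 2, 0, 1] (Cert.fail)),
  (1, Cert.step [2, 1, 0, 5, 1, 0, 1, 5, 3] (Cert.fail)),
  (1, Cert.step [2, 1, 3, 5, 6, 1, 2, 5, 1, 0, 6, 1, 2, 0, 1, 6, 5, 2, 1, 6] (Cert.fail)),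
  (1, Cert.step [0, 2, 6, 1, 2, 3, 2, 5, 1, 0, 2, 3, 1, 2, 0, 1, 6, 4, 3, 0] (Cert.fail)),
  (1, Cert.step [0, 1, 2, 3, 2, 1, 0, 1, 0, 2, 3, 1, 2, 3, 1, 0, 1, 2] (Cert.fail)),
  (1, Cert.step [1, 0, 2, 1, 0, 1, 3, 2, 3, 1, 2, 0, 1, 0, 1] (Cert.fail)),
  (1, Cert.step [2, 1, 0, 5, 1, 0, 1] (Cert.fail)),
  (1, Cert.step [1, 2, 1, 3, 2, 4, 3, 2, 5, 1, 2, 3, 2, 1, 2, 3, 4, 2, 3, 1, 2, 3, 2, 1, 5, 2] (Cert.step [4, 3, 2, 1, 0, 1, 5, 4, 3, 0, 1, 2, 3, 4] (Cert.fail))),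
  (1, Cert.step [1, 0, 2, 1, 0, 1, 3, 6, 5, 6, 2, 3, 1, 2, 0, 1, 0, 1] (Cert.fail)),
  (1, Cert.step [2, 1, 0, 3, 2, 5, 1, 0, 2, 1, 3, 2, 3, 5, 4, 3, 2, 3, 2, 1, 0, 1, 2, 0, 1] (Cert.fail)),
  (2, Cert.fail),
  (1, Cert.step [1, 2, 5, 1, 0, 1, 5, 2, 3, 1, 2] (Cert.step [4, 3, 2, 1, 0, 1, 3, 2, 4, 3, 5, 1, 0, 1, 2, 3, 4, 1, 2, 0, 1, 0, 1, 2] (Cert.fail))),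
  (1, Cert.step [0, 2, 1, 0, 1, 2, 3, 2, 1, 5, 3, 2, 1, 5, 3, 0, 1, 2, 0, 1] (Cert.fail)),
  (1, Cert.step [2, 1, 3, 4, 3, 2, 5, 1, 2, 3, 2, 4, 3, 2, 1, 5, 4, 3, 1, 2, 3, 1, 2] (Cert.fail)),
  (1, Cert.step [1, 2, 1, 3, 5, 1, 2, 3, 4, 2, 1, 0, 1, 2, 0, 1] (Cert.fail)),
  (1, Cert.step [6, 1, 2, 3, 2, 5, 1, 0, 2, 3, 1, 2, 0, 1, 6, 3, 2, 0] (Cert.fail)),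
  (2, Cert.fail),
  (1, Cert.step [1, 2, 3, 2, 5, 1, 0, 2, 3, 4, 1, 2, 3, 0, 1] (Cert.fail)),
  (1, Cert.step [1, 0, 2, 1, 0, 1, 3, 2, 1, 5, 3, 2, 1] (Cert.fail)),
  (1, Cert.fail),
  (1, Cert.step [0, 2, 6, 1, 0, 2, 3, 5, 1, 2, 3, 2, 1, 5, 3, 2, 3, 2, 1, 6, 4] (Cert.fail)),
  (1, Cert.step [1, 2, 5, 1, 0, 1, 5, 2, 3, 1, 2] (Cert.fail)),
  (1, Cert.step [2, 6, 1, 2, 3, 2, 5, 1, 0, 2, 3, 1, 2, 0, 1, 6, 3, 4, 0] (Cert.fail)),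
  (1, Cert.fail),
  (1, Cert.step [1, 0, 2, 1, 0, 1, 3, 2, 0, 1, 5, 3, 2, 1, 0] (Cert.fail)),
  (1, Cert.step [5, 4, 3] (Cert.fail)),
  (1, Cert.step [6, 1, 2, 3, 4, 5, 1, 2, 3, 2, 1, 5, 4, 3, 2, 1, 6] (Cert.fail)),
  (1, Cert.fail),
  (1, Cert.step [0, 1, 0, 2, 1, 3, 2, 5, 1, 2, 3, 2, 1, 5, 2, 3, 1, 2, 3, 2, 1, 5, 4] (Cert.fail)),
  (1, Cert.fail),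
  (1, Cert.step [1, 2, 3, 5, 1, 2, 3, 4, 2, 1, 0, 1, 2, 0, 1] (Cert.fail)),
  (1, Cert.fail),
  (1, Cert.step [6, 1, 0, 2, 5, 1, 2, 3, 2, 0, 1, 5, 2, 3, 2, 1, 6, 4] (Cert.fail)),
  (1, Cert.step [1, 0, 5, 4, 1, 0, 1] (Cert.fail)),
  (1, Cert.fail),
  (1, Cert.step [0, 1, 4, 3, 2, 3, 2, 1, 0, 4, 5, 1, 2, 3, 2, 1, 5, 0, 1, 2, 3, 4, 3, 1, 2, 1] (Cert.fail)),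
  (1, Cert.fail),
  (1, Cert.step [1, 2, 3, 5, 1, 2, 3, 6, 5, 6, 1, 2, 0, 1, 5, 2, 0, 1] (Cert.fail)),
  (1, Cert.step [2, 3] (Cert.fail)),
  (1, Cert.fail),
  (1, Cert.step [6, 1, 2, 3, 2, 5, 1, 2, 3, 0, 1, 2, 0, 1, 6, 5] (Cert.step [1, 0, 2, 1, 0, 1, 2, 4, 3, 2, 1, 3, 2, 5, 4, 3, 1, 2, 3, 4] (Cert.fail))),
  (1, Cert.step [1, 2, 3, 2, 4, 3, 2, 5, 1, 2, 3, 2, 1, 2, 3, 4, 2, 3, 1, 2, 3, 2, 1, 5, 2] (Cert.fail)),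
  (1, Cert.fail),
  (1, Cert.step [0, 1, 6, 1, 2, 3, 5, 1, 2, 3, 6, 5, 1, 5, 6, 2, 1, 5, 6, 3, 2, 3, 4, 1] (Cert.fail)),
  (1, Cert.step [0, 2, 1, 3, 2, 3, 2, 5, 1, 2, 3, 0, 1, 0, 1, 2, 1, 0] (Cert.fail)),
  (1, Cert.step [1, 0, 1, 4, 5, 3, 0, 1, 0] (Cert.step [1, 0, 1, 0, 2, 1, 3, 2, 3, 2, 4, 3, 2, 3, 4, 1, 2, 3, 2, 1, 0, 1, 5, 1, 2, 3, 4, 1] (Cert.fail))),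
  (1, Cert.step [6, 5, 1, 2, 3, 6, 5, 1, 2, 3, 6, 5, 1, 5, 6, 2, 1, 5, 6, 3, 4, 2, 3, 1] (Cert.fail)),
  (1, Cert.step [4, 0] (Cert.fail)),
  (1, Cert.step [3, 2, 1, 0, 1, 3, 2, 3, 5, 1, 0, 1, 2, 3, 4, 3, 2, 3, 0, 1, 0, 1, 2, 0, 1] (Cert.fail)),
  (1, Cert.step [1, 2, 3, 4, 5, 1, 2, 3, 6, 1, 2, 5, 1, 0, 1, 6, 2, 1, 0, 1, 6, 4, 3, 1, 2, 3, 1, 0] (Cert.fail)),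
  (1, Cert.step [2, 1, 0, 3, 2, 1, 0, 3, 1, 2, 0, 1, 5, 3, 2, 1, 0] (Cert.fail)),
  (1, Cert.step [1, 6, 5, 1, 6, 5, 1, 2, 3, 2, 1, 0, 6, 1, 0, 1, 2, 3, 2, 1, 6, 5, 1] (Cert.fail)),
  (1, Cert.step [1, 2, 3, 2, 5, 1, 0, 2, 3, 1, 2, 0, 1, 5, 4] (Cert.fail)),
  (1, Cert.step [0] (Cert.fail)),
  (1, Cert.step [2, 1, 0, 3, 2, 1, 0, 1, 2, 3, 2, 1, 5, 3, 2, 1] (Cert.step [4, 3, 2, 1, 5, 0, 1, 0, 1, 2, 3, 4] (Cert.fail))),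
  (1, Cert.step [0, 1, 2, 3, 5, 1, 0, 2, 3, 1, 0, 1, 2, 3, 0, 1] (Cert.fail)),
  (1, Cert.step [0, 1, 2, 1, 0, 3, 5, 1, 2, 3, 2, 1, 5, 3, 2, 3, 2, 1] (Cert.fail)),
  (1, Cert.step [0, 1, 2, 1, 3, 2, 5, 1, 0, 1, 2, 3, 1, 2, 3, 1, 2, 3, 1] (Cert.fail)),
  (1, Cert.step [5, 1, 0, 1, 2, 1, 3, 2, 0, 1, 0, 1, 2, 3, 2, 3, 1] (Cert.fail)),
  (1, Cert.step [1, 0, 2, 1, 0, 1, 3, 2, 1, 5, 3, 2, 3, 1, 0] (Cert.fail)),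
  (1, Cert.step [1, 5, 6, 1, 2, 3, 2, 1, 0, 1, 6, 0, 1, 5, 2, 3, 2, 1, 6, 5, 1, 2] (Cert.fail)),
  (1, Cert.step [1, 2, 1, 3, 5, 1, 2, 3, 4, 1, 0, 1, 2, 0, 1] (Cert.fail)),
  (1, Cert.step [1, 2, 3, 4, 5, 1, 0, 2, 3, 4, 2, 3, 2, 1, 5, 2, 3, 1] (Cert.fail)),
  (1, Cert.step [6, 1, 2, 3, 2, 5, 1, 2, 3, 0, 1, 2, 0, 1, 6] (Cert.fail)),
  (1, Cert.step [1, 2, 1, 0, 3, 5, 1, 2, 3, 2, 1, 5, 2, 3, 2, 0, 1] (Cert.fail)),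
  (1, Cert.fail),
  (1, Cert.step [1, 5, 6, 1, 2, 3, 2, 1, 0, 1, 6, 0, 1, 5, 2, 3, 2, 1, 6, 5, 1] (Cert.fail)),
  (1, Cert.step [1, 2, 5, 1, 0, 1, 5, 2, 1, 0] (Cert.fail)),
  (1, Cert.fail),
  (1, Cert.step [6, 1, 2, 3, 2, 5, 1, 2, 3, 0, 1, 2, 0, 1, 6, 5] (Cert.fail)),
  (1, Cert.step [1, 0, 2, 1, 0, 1, 3, 2, 3, 1, 2, 0, 1, 0, 1] (Cert.step [1, 4, 3, 2, 1, 3, 5, 1, 2, 3, 2, 1, 0, 4, 1, 2, 3, 0, 1] (Cert.fail))),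
  (1, Cert.step [3, 2, 3, 5, 1, 0, 1, 2, 3, 5, 1, 0, 1, 2, 3, 4, 3, 2, 3, 0, 1, 0, 1, 2, 3, 0, 1] (Cert.fail)),
  (1, Cert.fail),
  (1, Cert.step [6, 1, 2, 3, 5, 1, 2, 3, 2, 1, 0, 1, 2, 0, 1, 6, 4] (Cert.fail)),
  (1, Cert.step [6, 1, 2, 3, 5, 1, 2, 3, 2, 1, 0, 1, 2, 0, 1, 6] (Cert.fail)),
  (1, Cert.step [1, 0, 1, 2, 1, 3, 2, 3, 5, 1, 0, 1, 5, 0, 1, 2, 3, 1, 2, 0, 1, 0] (Cert.fail)),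
  (1, Cert.fail),
  (1, Cert.step [1, 2, 3, 5, 1, 0, 2, 1, 3, 4, 0, 1, 2, 3, 0, 1] (Cert.step [2, 3, 4, 3, 2, 3, 0] (Cert.fail))),
  (1, Cert.step [0, 6, 1, 2, 3, 5, 1, 2, 6, 1, 5, 6, 3, 2, 1, 6, 0, 1, 2, 3, 4, 0, 1, 0] (Cert.fail)),
  (1, Cert.step [1, 0, 5, 1, 0, 1, 2] (Cert.fail)),
  (1, Cert.step [1, 2, 1, 3, 2, 1, 0, 3, 5, 1, 0, 1, 2, 1, 5, 3, 2, 3, 4, 1, 2, 0, 1] (Cert.fail)),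
  (1, Cert.fail),
  (1, Cert.step [1, 2, 3, 5, 1, 0, 2, 1, 0, 1, 5, 3, 2, 1, 0, 1] (Cert.step [4, 3, 2, 1, 3, 2, 3, 2, 5, 1, 0, 2, 1, 3, 2, 3, 4, 0, 1, 2] (Cert.fail))),
  (1, Cert.step [1, 0, 2, 3, 5, 1, 2, 3, 2, 1, 5, 3, 2, 3, 4, 1, 2, 1] (Cert.fail)),
  (1, Cert.fail),
  (1, Cert.step [2, 1, 0, 1, 0, 5, 1, 2, 3, 0] (Cert.fail)),
  (1, Cert.step [1, 2, 1, 3, 2, 1, 0, 3, 5, 1, 0, 1, 2, 1, 5, 3, 2, 3, 4, 1, 2, 0, 1] (Cert.fail)),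
  (1, Cert.fail),
  (1, Cert.step [0, 1, 2, 3, 2, 5, 1, 0, 2, 3, 1, 2, 3, 4, 0, 1, 0] (Cert.fail)),
  (1, Cert.step [0, 2, 1, 0, 1, 5, 0, 1, 2, 3] (Cert.fail)),
  (1, Cert.step [0, 1, 2, 3, 5, 1, 0, 2, 3, 1, 0, 1, 2, 3, 0, 1] (Cert.fail)),
  (1, Cert.fail),
  (1, Cert.step [0, 2, 1, 3, 2, 3, 2, 5, 1, 2, 3, 0, 1, 0, 1, 2, 1, 0] (Cert.fail)),
  (1, Cert.step [0, 1, 2, 3, 2, 4, 3, 5, 1, 2, 3, 4, 2, 3, 4, 0, 1, 2, 3, 2, 1, 0, 1, 2] (Cert.fail)),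
  (1, Cert.step [0, 1, 2, 1, 3, 2, 1, 0, 1, 3, 2, 0, 1, 5, 3, 2, 3, 2, 1] (Cert.fail)),
  (1, Cert.step [1, 2, 1, 3, 2, 5, 1, 0, 2, 3, 2, 1, 5, 2, 0, 1] (Cert.fail)),
  (1, Cert.fail),
  (1, Cert.step [0, 1, 0, 2, 1, 3, 2, 5, 1, 2, 3, 2, 1, 5, 2, 3, 1, 2, 3, 2, 1, 5, 4] (Cert.fail)),
  (1, Cert.step [2, 1, 6, 1, 2, 3, 5, 1, 2, 3, 6, 5, 1, 5, 6, 2, 1, 5, 6, 3, 4, 2, 3, 1] (Cert.fail)),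
  (1, Cert.step [3, 2, 1, 0, 1, 3, 2, 3, 5, 1, 0, 1, 2, 5, 3, 4, 3, 2, 3, 1, 0, 1, 2, 0, 1, 0] (Cert.fail)),
  (1, Cert.step [1, 0, 1, 0, 1, 5, 4, 1] (Cert.fail)),
  (2, Cert.fail),
  (1, Cert.step [1, 2, 5, 1, 0, 1, 5, 1, 2, 1] (Cert.fail)),
  (1, Cert.fail),
  (1, Cert.step [6, 1, 2, 3, 4, 5, 1, 2, 3, 2, 1, 5, 4, 3, 2, 1, 6, 3, 4] (Cert.step [1, 4, 3, 2, 1, 3, 5, 1, 2, 3, 2, 1, 0, 4, 1, 2, 3, 0, 1] (Cert.fail))),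
  (1, Cert.fail),
  (1, Cert.step [2, 6, 1, 0, 2, 3, 5, 1, 2, 3, 2, 1, 5, 3, 2, 3, 2, 1, 6] (Cert.fail)),
  (1, Cert.step [2, 1, 0, 1, 3, 5, 0, 1, 2, 0] (Cert.fail)),
  (1, Cert.step [1, 0, 4, 5, 1, 0, 1, 5, 3] (Cert.fail)),
  (1, Cert.fail),
  (1, Cert.step [0, 2, 1, 0, 1, 5, 0, 1, 2, 3] (Cert.fail)),
  (1, Cert.step [1, 0, 1, 2, 3, 5, 1, 0, 1, 2, 0, 1, 5, 3, 2, 1] (Cert.fail)),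
  (1, Cert.step [1, 0, 2, 1, 0, 5, 1, 2, 3, 2, 5, 1, 0, 1, 2, 3, 1, 2, 1] (Cert.fail)),
  (1, Cert.step [2, 1, 3, 2, 3, 5, 1, 2, 3, 1, 0, 1, 2, 3, 0, 1] (Cert.fail)),
  (1, Cert.step [0, 5, 1, 0, 1, 2, 1, 3, 2, 0, 1, 0, 1, 2, 3, 2, 3, 1] (Cert.fail)),
  (1, Cert.step [1, 2, 3, 5, 1, 2, 3, 1, 0, 1, 2, 3, 0, 1, 0] (Cert.fail)),
  (1, Cert.step [5, 0, 2, 6, 1, 0, 2, 3, 2, 4, 3, 5, 1, 0, 2, 3, 4, 3, 2, 3, 4, 1, 2, 3, 2, 1, 0, 1, 6, 3] (Cert.fail)),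
  (1, Cert.step [1, 2, 5, 1, 0, 1, 5, 1, 2, 1, 0] (Cert.step [4, 3, 2, 3, 4, 6, 1, 2, 3, 2, 5, 1, 0, 2, 3, 1, 2, 0, 1, 5, 6, 3, 4, 2, 3] (Cert.fail))),
  (1, Cert.step [2, 1, 0, 5, 1, 0, 1, 0] (Cert.fail)),
  (1, Cert.step [2, 1, 0, 3, 2, 5, 1, 0, 2, 1, 3, 2, 3, 5, 4, 3, 2, 3, 2, 1, 0, 1, 2, 0, 1] (Cert.fail)),
  (1, Cert.fail),
  (1, Cert.step [6, 1, 0, 2, 1, 0, 3, 2, 3, 1, 5, 2, 3, 2, 0, 1, 6, 4, 2] (Cert.fail)),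
  (1, Cert.step [1, 2, 1, 3, 2, 5, 1, 0, 2, 3, 1, 2, 0, 1, 5, 3] (Cert.fail)),
  (1, Cert.step [2, 1, 0, 3, 2, 6, 1, 0, 1, 6, 5, 1, 6, 2, 1, 0, 1] (Cert.fail)),
  (2, Cert.fail),
  (1, Cert.step [0, 1, 0, 2, 1, 3, 2, 5, 1, 2, 3, 2, 1, 5, 1, 2, 3, 4, 1, 2, 3, 0, 1] (Cert.fail)),
  (1, Cert.step [1, 0, 2, 1, 0, 5, 1, 2, 3, 2, 5, 1, 0, 1, 2, 3, 2, 1] (Cert.fail)),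
  (1, Cert.fail),
  (1, Cert.step [1, 2, 3, 2, 1, 5, 1, 0, 1, 2, 1, 5, 2, 3, 4, 1, 2, 3, 1, 0, 1] (Cert.fail)),
  (1, Cert.step [2, 5, 6, 1, 2, 3, 4, 5, 1, 2, 3, 2, 1, 5, 4, 3, 2, 1, 6, 3] (Cert.fail)),
  (1, Cert.fail),
  (1, Cert.step [4, 3, 6, 1, 2, 3, 2, 1, 0, 4, 5, 1, 2, 3, 2, 1, 5, 4, 0, 1, 2, 3, 2, 1, 6, 4, 0] (Cert.fail)),
  (1, Cert.step [1, 0, 1, 2, 1, 0, 3, 2, 1, 0, 1, 2, 3, 2, 1] (Cert.fail)),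
  (2, Cert.fail),
  (1, Cert.step [1, 2, 3, 5, 1, 0, 2, 1, 3, 0, 1, 2, 3, 4, 0, 1] (Cert.fail)),
  (1, Cert.step [0, 1, 2, 1, 3, 2, 5, 1, 0, 2, 3, 4, 1, 2, 3, 0, 1] (Cert.fail)),
  (1, Cert.step [0, 2, 6, 1, 2, 3, 2, 3, 5, 1, 2, 3, 2, 1, 5, 3, 2, 0, 1, 6, 4] (Cert.fail)),
  (1, Cert.fail),
  (1, Cert.step [2, 6, 1, 2, 3, 4, 5, 1, 0, 2, 3, 2, 1, 5, 4, 3, 2, 1, 6, 3] (Cert.fail)),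
  (1, Cert.fail),
  (1, Cert.step [0, 1, 0, 2, 1, 3, 2, 5, 1, 2, 3, 2, 1, 5, 2, 3, 1, 2, 3, 2, 1, 5, 4] (Cert.fail)),
  (1, Cert.step [1, 2, 3, 5, 1, 2, 3, 4, 1, 0, 1, 2, 0, 1, 0] (Cert.fail)),
  (1, Cert.step [0, 2, 1, 3, 2, 3, 2, 1, 0, 1, 2, 3, 0, 1, 2, 1, 0, 1] (Cert.fail)),
  (1, Cert.step [0, 1, 2, 3, 4, 5, 1, 2, 3, 6, 1, 5, 6, 4, 3, 2, 1, 6, 0, 1, 2, 0, 1, 6, 3] (Cert.step [1, 3, 2, 1, 3, 2, 1, 0, 4, 1, 2, 3, 4, 2, 1, 0, 1, 2, 3, 2, 3, 1] (Cert.fail))),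
  (1, Cert.step [2, 6, 1, 2, 3, 2, 3, 5, 1, 2, 3, 2, 1, 5, 3, 2, 0, 1, 6, 4] (Cert.fail)),
  (1, Cert.fail),
  (1, Cert.step [0, 1, 0, 1, 5, 4, 3, 0, 1] (Cert.fail)),
  (1, Cert.step [0, 1, 0, 1, 5, 0, 1, 2, 3] (Cert.fail)),
  (1, Cert.step [2, 1, 3, 4, 3, 2, 5, 1, 2, 3, 2, 4, 3, 2, 1, 5, 4, 3, 1, 2, 3, 1, 2] (Cert.fail)),
  (1, Cert.step [2, 1, 0, 3, 2, 1, 3, 2, 0, 1, 5, 2, 3, 1, 2, 1] (Cert.fail)),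
  (1, Cert.step [1, 0, 2, 3, 2, 5, 1, 2, 3, 2, 1, 5, 3, 4, 0, 1, 2, 1] (Cert.step [1, 0, 1, 0, 3, 2, 3, 4, 1, 2, 3, 4, 2, 3, 0, 1, 2, 3, 0, 1, 0, 1] (Cert.fail))),
  (2, Cert.fail),
  (1, Cert.step [1, 2, 3, 5, 1, 2, 3, 2, 1, 0, 1, 2, 3, 0, 1, 2] (Cert.fail)),
  (1, Cert.step [5, 1, 0, 2, 1, 0, 1, 3, 2, 1, 5, 3, 1, 2, 1] (Cert.fail)),
  (1, Cert.fail),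
  (1, Cert.step [0, 1, 0, 2, 1, 3, 2, 5, 1, 2, 3, 2, 1, 5, 2, 3, 1, 2, 3, 4, 2, 3, 1] (Cert.fail)),
  (2, Cert.fail),
  (1, Cert.step [2, 1, 3, 2, 5, 1, 0, 1, 5, 2, 1, 0] (Cert.step [1, 3, 2, 1, 3, 2, 1, 0, 4, 1, 2, 3, 4, 2, 1, 0, 1, 2, 3, 2, 1] (Cert.fail))),
  (1, Cert.step [1, 4, 3, 2, 3, 2, 1, 0, 4, 5, 1, 2, 3, 2, 1, 5, 4, 0, 1, 2, 3, 1, 2, 1, 0] (Cert.fail)),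
  (1, Cert.step [1, 2, 1, 0, 3, 2, 1, 0, 5, 1, 0, 1, 2, 1, 5, 3, 2, 3, 4, 1, 2, 0, 1] (Cert.fail)),
  (1, Cert.step [1, 2, 3, 2, 5, 1, 0, 2, 3, 1, 2, 3, 4, 3, 0, 1] (Cert.fail)),
  (1, Cert.step [0, 2, 1, 3, 2, 3, 2, 5, 1, 2, 3, 0, 1, 2, 3, 0, 1, 0] (Cert.fail)),
  (1, Cert.fail),
  (1, Cert.step [6, 1, 0, 2, 1, 0, 3, 2, 1, 5, 2, 3, 2, 1, 6, 2, 3, 0] (Cert.fail)),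
  (1, Cert.step [6, 1, 0, 2, 1, 0, 3, 2, 1, 5, 2, 3, 2, 1, 6, 5, 3] (Cert.fail)),
  (3, Cert.fail),
  (1, Cert.step [2, 6, 1, 2, 3, 2, 5, 1, 0, 2, 3, 1, 2, 0, 1, 6, 4, 3] (Cert.fail)),
  (1, Cert.step [1, 0, 2, 1, 3, 2, 1, 0, 5, 1, 0, 1, 5, 3, 2, 3, 2, 1, 0, 1, 2, 1] (Cert.fail)),
  (1, Cert.step [0, 2, 1, 0, 5, 3, 1, 0, 1, 2] (Cert.fail)),
  (1, Cert.step [6, 1, 5, 1, 0, 2, 1, 3, 2, 3, 2, 1, 5, 3, 2, 3, 2, 1, 6, 4] (Cert.fail)),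
  (1, Cert.fail),
  (1, Cert.step [5, 1, 0, 1, 5, 0, 1, 2, 3] (Cert.fail)),
  (1, Cert.step [0, 1, 0, 2, 1, 0, 5, 1, 2, 3, 2, 5, 1, 0, 1, 2, 3, 1, 2, 3, 1] (Cert.fail)),
  (1, Cert.step [2, 1, 0, 1, 0, 5, 1, 2, 3, 0] (Cert.fail)),
  (1, Cert.step [1, 2, 3, 4, 5, 1, 2, 3, 2, 1, 5, 4, 3, 2, 3, 4, 1] (Cert.fail)),
  (1, Cert.fail),
  (1, Cert.step [0, 1, 0, 5, 1, 2, 0, 1, 2, 3, 4, 1] (Cert.fail)),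
  (1, Cert.step [1, 0, 1, 2, 1, 3, 2, 3, 5, 1, 0, 1, 5, 0, 1, 2, 3, 1, 2, 0, 1, 0] (Cert.fail)),
  (1, Cert.step [6, 1, 2, 3, 2, 5, 1, 0, 1, 2, 3, 1, 2, 3, 2, 1, 6, 4, 3] (Cert.fail)),
  (1, Cert.step [5, 1, 6, 1, 2, 3, 5, 1, 2, 3, 6, 5, 1, 5, 6, 2, 1, 5, 6, 3, 4, 2, 3, 1] (Cert.step [4, 3, 2, 1, 5, 0, 1, 0, 1, 2, 3, 4, 3] (Cert.fail))),
  (1, Cert.step [0, 1, 0, 2, 1, 4, 3, 5, 1, 0, 1, 2, 3, 4, 3, 2, 1, 5, 3, 0, 1, 2, 1, 0, 1] (Cert.fail)),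
  (1, Cert.step [4, 3] (Cert.fail)),
  (1, Cert.step [2, 6, 1, 0, 1, 2, 3, 2, 3, 5, 2, 3, 2, 1, 6, 2, 3, 2] (Cert.fail)),
  (1, Cert.fail),
  (1, Cert.step [2, 3, 6, 1, 0, 1, 2, 1, 6, 5, 1, 5, 0, 1, 2, 0, 1, 6, 2, 3, 4, 1] (Cert.fail)),
  (1, Cert.step [1, 2, 1, 3, 4, 5, 1, 2, 3, 2, 1, 5, 4, 3, 2, 3, 1] (Cert.fail)),
  (1, Cert.step [0, 1, 2, 3, 2, 1, 0, 1, 2, 5, 3, 2, 1, 5, 0, 1, 2, 3, 0, 1] (Cert.fail)),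
  (1, Cert.step [1, 0, 2, 3, 5, 1, 0, 1, 2, 3, 2, 0, 1, 5, 3, 2, 3, 2, 1, 0] (Cert.fail)),
  (1, Cert.step [6, 1, 0, 2, 5, 1, 2, 3, 2, 0, 1, 5, 2, 3, 2, 1, 6, 5] (Cert.fail)),
  (1, Cert.fail),
  (1, Cert.step [1, 0, 2, 1, 0, 1, 3, 5, 2, 1, 5, 3, 2, 3, 4, 1] (Cert.fail)),
  (1, Cert.step [2, 1, 6, 5, 1, 0, 2, 1, 3, 2, 6, 1, 0, 1, 2, 3, 2, 1, 6, 5, 3, 4, 2, 1] (Cert.fail)),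
  (1, Cert.fail),
  (1, Cert.step [2, 1, 5, 6, 1, 2, 3, 5, 1, 2, 3, 6, 1, 2, 0, 1, 0, 1, 5, 6, 3, 4, 2, 1] (Cert.fail)),
  (1, Cert.step [1, 2, 3, 6, 5, 1, 2, 6, 1, 5, 1, 6, 3, 2, 1, 5, 3, 2, 1, 6, 4, 3, 1] (Cert.fail)),
  (1, Cert.fail),
  (1, Cert.step [1, 0, 2, 1, 0, 1, 3, 2, 1, 5, 3, 1, 2, 3, 1] (Cert.fail)),
  (1, Cert.step [2, 1, 0, 3, 5, 1, 0, 1, 2, 0] (Cert.fail)),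
  (1, Cert.fail),
  (1, Cert.step [1, 2, 5, 1, 2, 3, 2, 4, 3, 2, 1, 5, 4, 3, 2, 3, 4, 1] (Cert.fail)),
  (1, Cert.step [1, 2, 3, 2, 5, 1, 0, 2, 3, 1, 2, 3, 4, 0, 1] (Cert.fail)),
  (1, Cert.fail),
  (1, Cert.step [1, 0, 5, 1, 6, 5, 6, 5, 1, 2, 3, 2] (Cert.fail)),
  (1, Cert.step [2, 1, 0, 3, 2, 1, 3, 2, 0, 1, 5, 2, 3, 1, 2, 1, 0] (Cert.fail)),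
  (1, Cert.step [1, 2, 3, 4, 5, 1, 2, 3, 4, 2, 3, 1, 2, 0, 1, 0, 1] (Cert.fail)),
  (1, Cert.step [0, 1, 0, 1, 5, 4, 0, 1, 2] (Cert.fail)),
  (1, Cert.fail),
  (1, Cert.step [2, 1, 3, 2, 3, 5, 1, 2, 3, 1, 0, 1, 2, 3, 0, 1] (Cert.fail)),
  (1, Cert.step [1, 2, 1, 3, 2, 5, 1, 0, 2, 3, 2, 1, 5, 2, 0, 1, 0] (Cert.fail)),
  (1, Cert.step [1, 2, 1, 3, 5, 1, 2, 3, 0, 1, 0, 1, 2, 0, 1] (Cert.fail)),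
  (1, Cert.fail),
  (1, Cert.step [1, 4, 3, 2, 1, 3, 2, 1, 0, 5, 1, 2, 4, 3, 2, 1, 5, 4, 0, 1, 2, 3, 2, 1] (Cert.fail)),
  (1, Cert.step [6, 1, 0, 2, 1, 0, 3, 2, 1, 2, 3, 2, 1, 5, 1, 6] (Cert.fail)),
  (2, Cert.fail),
  (1, Cert.step [0, 1, 2, 3, 4, 5, 1, 2, 3, 2, 1, 5, 4, 3, 2, 3, 1] (Cert.fail)),
  (1, Cert.step [5, 2, 6, 1, 0, 2, 3, 2, 4, 3, 5, 1, 0, 2, 3, 4, 3, 2, 3, 4, 1, 2, 3, 2, 1, 0, 1, 6, 2] (Cert.fail)),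
  (1, Cert.step [1, 2, 1, 0, 5, 1, 2, 3, 2, 0, 1, 5, 2, 3, 2, 1] (Cert.fail)),
  (1, Cert.step [1, 0, 1, 5, 0, 1, 2, 3] (Cert.fail)),
  (1, Cert.step [1, 0, 2, 5, 1, 2, 3, 2, 0, 1, 5, 2, 3, 2, 1] (Cert.fail)),
  (1, Cert.step [0, 2, 1, 0, 5, 1, 0, 1] (Cert.fail)),
  (1, Cert.step [2, 1, 3, 2, 3, 5, 1, 2, 3, 1, 0, 1, 2, 3, 0, 1, 0] (Cert.fail)),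
  (1, Cert.step [1, 0, 1, 5, 4, 0, 1, 2] (Cert.step [4, 3, 2, 1, 3, 2, 4, 3, 2, 5, 1, 0, 2, 1, 3, 2, 3, 4, 0, 1, 2, 3] (Cert.fail))),
  (1, Cert.step [2, 6, 1, 0, 2, 3, 5, 1, 2, 3, 2, 1, 5, 3, 2, 3, 2, 1, 6, 4] (Cert.fail)),
  (1, Cert.fail),
  (1, Cert.step [1, 2, 3, 5, 1, 2, 6, 5, 1, 6, 1, 6, 3, 4, 0, 1, 2, 3, 0, 1, 0] (Cert.fail)),
  (1, Cert.step [6, 1, 0, 1, 2, 3, 5, 1, 2, 0, 1, 5, 2, 3, 2, 1, 6, 2, 0] (Cert.fail)),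
  (1, Cert.step [1, 2, 3, 5, 1, 0, 2, 3, 1, 0, 1, 2, 3, 0, 1] (Cert.fail)),
  (1, Cert.step [2, 6, 1, 0, 2, 1, 3, 2, 3, 2, 5, 1, 2, 0, 1, 5, 3, 0, 1, 2, 3, 2, 1, 6, 4, 0] (Cert.fail)),
  (1, Cert.step [1, 2, 1, 3, 2, 5, 1, 2, 6, 1, 0, 1, 5, 0, 1, 6, 3, 4, 2, 1, 0, 1] (Cert.fail)),
  (1, Cert.step [6, 1, 2, 3, 4, 5, 1, 2, 3, 2, 1, 5, 4, 3, 2, 1, 6, 5] (Cert.fail)),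
  (1, Cert.step [1, 0, 1, 2, 5, 1, 0, 2, 3, 2, 1, 0, 1, 2, 3, 2, 1] (Cert.fail)),
  (1, Cert.step [0, 1, 2, 1, 3, 2, 5, 1, 0, 2, 1, 5, 3, 2, 1, 0, 1] (Cert.fail)),
  (1, Cert.fail),
  (1, Cert.step [1, 6, 1, 2, 3, 5, 1, 2, 3, 6, 5, 1, 5, 6, 2, 1, 5, 6, 3, 2, 3, 4, 1] (Cert.fail)),
  (1, Cert.fail),
  (1, Cert.step [1, 0, 1, 2, 3, 5, 1, 2, 3, 0, 1, 5, 2, 3, 4, 2, 0, 1] (Cert.fail)),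
  (1, Cert.fail),
  (1, Cert.step [2, 3, 1, 5, 1, 2, 3, 2, 1, 4, 3, 2, 3, 4, 2, 3, 4, 0, 1, 2, 3, 2, 1, 0, 1, 2] (Cert.fail)),
  (1, Cert.step [1, 2, 1, 3, 2, 1, 0, 3, 5, 1, 0, 1, 2, 1, 5, 3, 2, 3, 4, 1, 2, 0, 1, 0] (Cert.fail)),
  (1, Cert.step [0, 1, 2, 3, 2, 5, 1, 0, 2, 3, 1, 2, 3, 0, 1, 2, 0] (Cert.fail)),
  (1, Cert.step [5, 1, 0, 2, 1, 0, 1, 3, 2, 1, 5, 3, 2, 3, 1, 2] (Cert.fail)),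
  (1, Cert.step [1, 2, 3, 2, 5, 1, 0, 2, 3, 2, 1, 5, 4, 2, 0, 1] (Cert.fail)),
  (1, Cert.step [2, 3, 6, 1, 0, 2, 1, 3, 2, 0, 1, 5, 2, 3, 2, 1, 6] (Cert.fail)),
  (1, Cert.step [0, 1, 0, 1, 5, 0, 1, 2, 3] (Cert.fail)),
  (1, Cert.step [2, 6, 1, 0, 2, 3, 2, 4, 3, 5, 1, 0, 2, 3, 4, 3, 2, 3, 4, 1, 2, 3, 2, 1, 0, 1, 6, 3] (Cert.fail)),
  (1, Cert.step [6, 1, 0, 2, 1, 0, 3, 2, 1, 5, 2, 3, 2, 1, 6, 0] (Cert.fail)),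
  (1, Cert.step [0, 2, 1, 0, 3, 2, 1, 3, 2, 0, 1, 5, 2, 3, 1, 2, 1, 0] (Cert.fail)),
  (1, Cert.fail),
  (1, Cert.step [1, 2, 1, 3, 4, 5, 1, 2, 3, 2, 1, 5, 3, 4, 3, 2, 3, 1] (Cert.fail)),
  (1, Cert.fail),
  (1, Cert.step [1, 5, 1, 0, 1, 0, 1, 2, 3] (Cert.fail)),
  (1, Cert.step [2, 3, 2, 6, 1, 0, 1, 5, 0, 1, 6] (Cert.fail)),
  (1, Cert.step [1, 0, 2, 3, 5, 1, 0, 1, 2, 3, 2, 0, 1, 5, 2, 3, 4, 2, 0, 1] (Cert.fail)),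
  (1, Cert.step [2, 1, 0, 1, 5, 0, 1, 2] (Cert.fail)),
  (1, Cert.step [0, 1, 0, 1, 2, 3, 5, 1, 2, 3, 0, 1, 5, 2, 3, 4, 2, 0, 1] (Cert.fail)),
  (1, Cert.step [2, 1, 0, 1, 0, 5, 1, 2, 3, 2] (Cert.fail)),
  (1, Cert.step [2, 1, 3, 2, 3, 2, 1, 0, 1, 2, 3, 0, 1, 2, 1, 0, 1] (Cert.fail)),
  (1, Cert.step [0, 1, 0, 2, 1, 0, 5, 1, 2, 3, 2, 5, 1, 0, 1, 2, 3, 2, 3, 4, 1] (Cert.step [1, 0, 1, 2, 4, 5, 1, 0, 1, 2, 3, 2, 1, 5, 3, 4, 2, 1] (Cert.fail))),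
  (1, Cert.fail),
  (1, Cert.step [0, 1, 0, 2, 1, 0, 5, 1, 2, 3, 2, 5, 1, 0, 1, 2, 3, 1, 2, 3, 1] (Cert.fail)),
  (1, Cert.step [1, 0, 1, 0, 5, 1, 2, 3, 0] (Cert.fail)),
  (1, Cert.step [2, 1, 3, 2, 3, 4, 5, 1, 2, 3, 2, 1, 5, 4, 3, 1, 2, 1] (Cert.fail)),
  (1, Cert.step [6, 1, 2, 3, 5, 1, 2, 3, 6, 1, 2, 0, 1, 0, 1, 6, 1, 5, 4, 2, 1] (Cert.fail)),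
  (1, Cert.step [4, 3, 6, 1, 2, 3, 2, 1, 0, 4, 5, 1, 2, 3, 2, 1, 5, 4, 0, 1, 2, 3, 2, 1, 6, 4, 0] (Cert.fail)),
  (1, Cert.step [0, 1, 2, 1, 0, 1, 3, 2, 3, 0, 1, 2, 3, 2, 1, 0, 1, 5] (Cert.fail)),
  (1, Cert.step [1, 0, 2, 1, 0, 3, 2, 1, 5, 2, 3, 2, 3, 1, 2, 0] (Cert.step [2, 1, 0, 4, 3, 2, 3, 1, 2, 0, 1, 5, 2, 3, 2, 3, 1, 2, 3, 4] (Cert.fail))),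
  (1, Cert.fail),
  (1, Cert.step [1, 2, 1, 3, 5, 1, 2, 3, 4, 1, 0, 1, 2, 0, 1] (Cert.fail)),
  (1, Cert.step [1, 0, 2, 1, 0, 1, 3, 5, 2, 3, 1, 2, 0, 1, 0, 1] (Cert.fail)),
  (1, Cert.fail),
  (1, Cert.step [1, 2, 1, 3, 2, 1, 0, 1, 5, 2, 3, 2, 1, 5, 0, 1, 2, 0, 1] (Cert.fail)),
  (1, Cert.step [1, 2, 1, 3, 2, 4, 3, 2, 5, 1, 2, 3, 2, 1, 2, 3, 4, 2, 3, 1, 2, 3, 2, 1, 5, 2] (Cert.fail)),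
  (1, Cert.step [6, 1, 0, 1, 0, 5, 1, 6, 4, 2, 3] (Cert.fail)),
  (1, Cert.step [2, 1, 0, 1, 5, 0, 1, 2] (Cert.fail)),
  (1, Cert.step [2, 1, 3, 2, 3, 5, 1, 2, 5, 3, 1, 0, 1, 2, 0, 1] (Cert.fail)),
  (1, Cert.step [1, 2, 6, 1, 0, 2, 1, 0, 3, 2, 1, 6, 3, 2, 3, 2, 1, 5, 1, 6, 2, 3, 4, 1] (Cert.fail)),
  (1, Cert.step [5, 2, 3] (Cert.fail)),
  (1, Cert.step [0, 2, 1, 0, 3, 2, 1, 3, 2, 0, 1, 5, 2, 3, 1, 2, 1, 0] (Cert.fail)),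
  (1, Cert.step [6, 1, 2, 3, 2, 5, 1, 2, 3, 0, 1, 2, 0, 1, 6, 2] (Cert.fail)),
  (1, Cert.fail),
  (1, Cert.step [6, 1, 2, 3, 5, 1, 2, 3, 2, 1, 0, 1, 2, 0, 1, 6, 3] (Cert.fail)),
  (1, Cert.step [6, 1, 0, 2, 1, 0, 3, 2, 1, 5, 2, 3, 2, 1, 6, 2, 0] (Cert.fail)),
  (1, Cert.step [1, 0, 1, 0, 5, 1, 2, 3, 0] (Cert.fail)),
  (1, Cert.step [0, 2, 6, 1, 2, 3, 2, 5, 1, 2, 3, 0, 1, 2, 0, 1, 6, 4] (Cert.fail)),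
  (1, Cert.step [4, 6, 1, 2, 3, 4, 5, 1, 2, 3, 2, 1, 5, 4, 3, 2, 1, 6, 0] (Cert.fail)),
  (2, Cert.fail),
  (1, Cert.step [6, 1, 0, 2, 5, 1, 2, 3, 2, 0, 1, 5, 2, 3, 2, 1, 6, 4, 0] (Cert.fail)),
  (1, Cert.step [1, 0, 1, 4, 5, 3, 0, 1, 0] (Cert.fail)),
  (1, Cert.step [1, 4, 3, 2, 3, 2, 1, 0, 4, 5, 1, 2, 3, 2, 1, 5, 4, 0, 1, 2, 3, 2, 1, 5] (Cert.fail)),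
  (1, Cert.fail),
  (1, Cert.step [1, 0, 2, 1, 3, 2, 1, 3, 4, 5, 1, 0, 1, 2, 3, 2, 0, 1, 5, 4, 1, 0, 1, 2, 3, 2, 1] (Cert.fail)),
  (1, Cert.step [1, 0, 1, 2, 1, 0, 3, 2, 1, 0, 1, 2, 3, 2, 1] (Cert.fail)),
  (1, Cert.step [2, 1, 3, 2, 5, 1, 0, 1, 5, 2, 1, 0] (Cert.fail)),
  (1, Cert.step [1, 2, 1, 5, 1, 0, 1, 5, 2, 3, 1, 2] (Cert.fail)),
  (1, Cert.step [1, 0, 2, 5, 1, 2, 3, 2, 0, 1, 5, 2, 3, 4, 2, 1] (Cert.fail)),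
  (1, Cert.step [2, 1, 0, 5, 4, 1, 0, 1, 0] (Cert.fail)),
  (1, Cert.step [2, 1, 3, 2, 3, 5, 1, 2, 3, 1, 0, 1, 2, 3, 0, 1, 0] (Cert.fail)),
  (1, Cert.step [1, 2, 3, 5, 1, 2, 3, 1, 0, 1, 2, 0, 1] (Cert.fail)),
  (1, Cert.step [2, 1, 3, 2, 3, 4, 5, 1, 2, 3, 2, 1, 5, 4, 3, 2, 1] (Cert.fail)),
  (1, Cert.step [0, 1, 2, 3, 4, 5, 1, 2, 3, 4, 2, 3, 2, 1, 5, 2, 3, 1] (Cert.fail)),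
  (1, Cert.step [5, 4] (Cert.fail)),
  (1, Cert.step [1, 0, 2, 1, 0, 1, 2, 3, 2, 1, 5, 3, 1, 2, 1] (Cert.fail)),
  (1, Cert.fail),
  (1, Cert.step [1, 5, 1, 0, 2, 1, 3, 2, 3, 2, 1, 5, 3, 2, 3, 4, 2, 1] (Cert.fail)),
  (1, Cert.step [0, 1, 4, 3, 2, 3, 2, 1, 0, 4, 5, 1, 2, 3, 2, 1, 5, 0, 1, 2, 3, 4, 3, 1, 2, 1] (Cert.step [4, 3, 2, 1, 3, 2, 3, 2, 5, 1, 0, 2, 1, 3, 2, 3, 4, 0, 1, 2, 3] (Cert.fail))),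
  (1, Cert.step [1, 2, 1, 0, 3, 2, 4, 3, 5, 1, 0, 2, 1, 3, 4, 3, 2, 1, 5, 3, 2, 3, 4, 2, 3, 2, 1, 0] (Cert.fail)),
  (1, Cert.step [1, 0, 2, 1, 0, 1, 2, 3, 2, 1, 5, 3, 2, 3, 1, 2] (Cert.fail)),
  (1, Cert.fail),
  (1, Cert.step [6, 1, 0, 1, 0, 5, 1, 6, 2, 3, 2] (Cert.fail)),
  (1, Cert.fail),
  (1, Cert.step [0, 1, 2, 3, 5, 1, 2, 6, 5, 1, 6, 1, 6, 3, 4, 0, 1, 2, 3, 0, 1, 0] (Cert.step [3, 2, 3, 4, 3, 2, 0] (Cert.fail))),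
  (1, Cert.step [0, 2, 3, 6, 1, 2, 3, 2, 5, 1, 2, 3, 0, 1, 2, 0, 1, 6, 4] (Cert.fail)),
  (1, Cert.step [1, 0, 2, 1, 0, 1, 2, 3, 2, 1, 5, 3, 1, 2, 3, 1] (Cert.fail)),
  (1, Cert.fail),
  (1, Cert.step [1, 2, 1, 0, 1, 3, 2, 3, 2, 5, 1, 0, 2, 1, 5, 3, 0, 1, 2, 3, 4, 2, 1, 0] (Cert.fail)),
  (1, Cert.step [1, 2, 1, 0, 3, 2, 5, 1, 0, 3, 2, 3, 1, 2, 3, 0, 1, 2] (Cert.fail)),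
  (1, Cert.step [1, 2, 3, 2, 1, 0, 1, 2, 6, 1, 5, 6, 1, 0, 1, 6, 3, 2, 3, 1, 0, 1] (Cert.fail)),
  (1, Cert.fail),
  (1, Cert.step [1, 2, 3, 2, 5, 1, 0, 2, 3, 2, 1, 5, 4, 2, 0, 1] (Cert.fail)),
  (1, Cert.step [5, 4] (Cert.fail)),
  (1, Cert.step [1, 0, 2, 1, 0, 1, 3, 2, 1, 5, 3, 2, 3, 4, 1] (Cert.fail)),
  (1, Cert.step [1, 2, 1, 0, 1, 3, 2, 3, 2, 5, 1, 0, 2, 1, 5, 3, 0, 1, 2, 3, 4, 2, 1] (Cert.fail)),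
  (1, Cert.step [6, 1, 2, 3, 5, 1, 2, 3, 2, 1, 0, 1, 2, 0, 1, 6] (Cert.fail)),
  (1, Cert.step [2, 6, 1, 2, 3, 2, 5, 1, 2, 3, 0, 1, 2, 0, 1, 6, 3] (Cert.fail)),
  (1, Cert.fail),
  (1, Cert.step [6, 1, 0, 2, 1, 0, 3, 2, 1, 5, 2, 3, 2, 1, 6, 4, 0] (Cert.fail)),
  (1, Cert.step [1, 2, 3, 2, 5, 1, 0, 2, 1, 5, 3, 2, 3, 1, 0, 1] (Cert.fail)),
  (1, Cert.step [6, 1, 2, 5, 6, 1, 0, 2, 1, 6, 0, 1, 5, 2, 1, 6, 5, 3, 1, 2] (Cert.fail)),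
  (1, Cert.step [2, 3, 2, 1, 5, 0, 1, 0, 1] (Cert.fail)),
  (1, Cert.step [1, 0, 2, 1, 0, 5, 1, 2, 3, 2, 5, 1, 0, 1, 2, 3, 2, 3, 4, 1] (Cert.fail)),
  (1, Cert.step [6, 1, 2, 3, 4, 5, 1, 0, 2, 3, 2, 1, 5, 4, 3, 2, 1, 6, 2] (Cert.fail)),
  (2, Cert.fail),
  (1, Cert.step [0] (Cert.fail)),
  (1, Cert.step [1, 2, 1, 3, 2, 1, 0, 1, 0, 3, 2, 1, 5, 3, 2, 3, 2, 1] (Cert.fail)),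
  (2, Cert.fail),
  (1, Cert.step [1, 0, 1, 2, 3, 5, 1, 2, 0, 1, 5, 2, 3, 2, 3, 1] (Cert.fail)),
  (1, Cert.step [0, 1, 2, 3, 4, 5, 1, 2, 3, 4, 2, 3, 1, 2, 0, 1, 0, 1] (Cert.step [4, 3, 2, 1, 0, 1, 5, 3, 0, 1, 2, 3, 4, 3] (Cert.fail))),
  (1, Cert.step [0, 1, 2, 3, 2, 1, 0, 1, 2, 5, 3, 2, 1, 5, 0, 1, 2, 3, 0, 1] (Cert.fail)),
  (1, Cert.step [1, 5, 6, 1, 2, 3, 2, 1, 0, 1, 6, 0, 1, 5, 2, 3, 2, 1, 6, 5, 1, 0] (Cert.fail)),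
  (1, Cert.step [0, 1, 2, 3, 2, 4, 5, 1, 2, 3, 4, 3, 0, 1, 2, 3, 0, 1, 2] (Cert.fail)),
  (1, Cert.step [2, 3, 1, 5, 1, 2, 3, 2, 1, 4, 3, 2, 3, 4, 2, 3, 4, 0, 1, 2, 3, 2, 1, 0, 1, 2] (Cert.fail)),
  (1, Cert.step [0, 1, 2, 3, 4, 5, 1, 2, 3, 2, 1, 5, 4, 3, 2, 3, 4, 1] (Cert.fail)),
  (1, Cert.step [0, 2, 6, 1, 2, 3, 2, 5, 1, 2, 3, 0, 1, 2, 0, 1, 6, 4] (Cert.fail)),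
  (1, Cert.step [0, 1, 2, 3, 2, 4, 5, 1, 2, 3, 4, 3, 0, 1, 2, 3, 4, 0, 1, 0] (Cert.fail)),
  (1, Cert.fail),
  (1, Cert.step [1, 2, 3, 5, 1, 2, 6, 5, 1, 6, 1, 6, 3, 4, 0, 1, 2, 3, 0, 1, 0] (Cert.fail)),
  (1, Cert.step [0, 1, 2, 1, 3, 5, 1, 2, 3, 0, 1, 0, 1, 2, 0, 1] (Cert.fail)),
  (1, Cert.step [4, 3, 6, 1, 2, 3, 2, 1, 0, 4, 5, 1, 2, 3, 2, 1, 5, 4, 0, 1, 2, 3, 2, 1, 6, 5] (Cert.fail)),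
  (1, Cert.step [1, 0, 2, 1, 0, 1, 3, 5, 2, 1, 5, 3, 2, 3, 4, 1] (Cert.fail)),
  (1, Cert.step [0, 1, 2, 3, 2, 5, 1, 0, 2, 3, 1, 2, 3, 0, 1, 2] (Cert.fail)),
  (1, Cert.fail),
  (1, Cert.step [0, 6, 1, 0, 2, 3, 2, 5, 1, 2, 3, 2, 1, 5, 3, 2, 0, 1, 6, 4] (Cert.fail)),
  (1, Cert.fail),
  (1, Cert.step [0, 6, 1, 2, 3, 2, 1, 5, 1, 2, 6, 5, 6, 3, 1, 2, 0, 1, 6, 4, 3, 2] (Cert.fail)),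
  (1, Cert.step [1, 2, 1, 0, 3, 2, 4, 5, 1, 2, 3, 2, 4, 3, 2, 3, 4, 1, 0, 1, 2, 3, 2, 1] (Cert.fail)),
  (1, Cert.fail),
  (1, Cert.step [0, 1, 2, 1, 3, 5, 1, 0, 2, 3, 1, 0, 1, 2, 3, 0, 1] (Cert.fail)),
  (1, Cert.step [0, 6, 1, 2, 3, 2, 5, 1, 2, 3, 0, 1, 2, 0, 1, 6, 2] (Cert.fail)),
  (1, Cert.step [2, 1, 3, 2, 3, 2, 1, 0, 1, 5, 2, 3, 2, 1, 5, 0, 1, 2, 0, 1] (Cert.fail)),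
  (1, Cert.step [0, 1, 0, 2, 1, 0, 3, 2, 3, 6, 1, 6, 1, 5, 6, 2, 3, 4, 1, 2, 1, 0] (Cert.fail)),
  (1, Cert.step [6, 1, 2, 3, 4, 5, 1, 0, 2, 3, 2, 1, 5, 4, 3, 2, 1, 6, 3] (Cert.fail)),
  (1, Cert.step [1, 0, 1, 0, 1, 5, 1, 2] (Cert.fail)),
  (1, Cert.step [6, 1, 2, 3, 2, 4, 5, 1, 2, 3, 4, 3, 0, 1, 2, 0, 1, 6, 3, 2] (Cert.fail)),
  (4, Cert.fail),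
  (1, Cert.step [1, 0, 2, 1, 0, 1, 3, 2, 1, 5, 3, 2, 1] (Cert.fail)),
  (1, Cert.step [0, 2, 1, 3, 2, 3, 2, 5, 1, 2, 3, 0, 1, 0, 1, 2, 1] (Cert.fail)),
  (1, Cert.step [1, 2, 5, 1, 2, 3, 2, 4, 3, 4, 2, 3, 1, 2, 0, 1, 0, 1] (Cert.fail)),
  (2, Cert.fail),
  (1, Cert.step [2, 3, 1, 2, 3, 2, 4, 3, 5, 1, 2, 3, 4, 2, 3, 4, 0, 1, 2, 3, 2, 1, 0, 1, 2] (Cert.fail)),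
  (1, Cert.step [2, 1, 3, 2, 3, 2, 1, 0, 1, 5, 2, 3, 2, 1, 5, 0, 1, 2, 0, 1, 0] (Cert.fail)),
  (1, Cert.step [1, 2, 1, 3, 2, 1, 0, 3, 5, 1, 0, 1, 2, 1, 5, 3, 2, 3, 4, 1, 2, 0, 1] (Cert.fail)),
  (1, Cert.step [1, 2, 3, 2, 5, 1, 0, 2, 3, 2, 1, 5, 2, 0, 1, 0] (Cert.fail)),
  (1, Cert.step [0, 1, 2, 3, 4, 5, 1, 2, 3, 4, 2, 3, 1, 2, 0, 1, 0, 1] (Cert.fail)),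
  (1, Cert.step [1, 0, 1, 2, 5, 1, 2, 3, 2, 0, 1, 0, 1, 2, 3, 2, 3, 1] (Cert.fail)),
  (2, Cert.fail),
  (1, Cert.step [1, 5, 6, 1, 2, 3, 2, 5, 1, 0, 6, 1, 0, 1, 2, 3, 2, 1, 6, 5, 1, 2] (Cert.fail)),
  (1, Cert.step [2, 1, 3, 4, 3, 2, 5, 1, 2, 3, 2, 4, 3, 2, 1, 5, 4, 3, 1, 2, 3, 1, 2] (Cert.fail)),
  (1, Cert.step [0, 2, 1, 0, 1, 5, 4, 0, 1, 2] (Cert.fail)),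
  (1, Cert.step [1, 0, 1, 2, 3, 5, 1, 2, 0, 1, 5, 2, 3, 4, 2, 1] (Cert.fail)),
  (1, Cert.step [0, 6, 1, 2, 3, 2, 5, 1, 0, 1, 2, 3, 1, 2, 3, 2, 1, 6, 4, 3] (Cert.fail)),
  (1, Cert.step [1, 0, 2, 1, 0, 5, 1, 2, 3, 2, 5, 1, 0, 1, 2, 3, 1, 2, 1] (Cert.fail)),
  (1, Cert.step [6, 1, 2, 3, 4, 5, 1, 2, 3, 4, 2, 3, 2, 1, 5, 2, 1, 6] (Cert.step [1, 4, 3, 2, 1, 5, 1, 0, 1, 2, 3, 2, 1, 4, 3, 2, 3, 4, 2, 3, 2, 3, 1, 2, 0, 1, 0, 1] (Cert.fail))),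
  (1, Cert.step [6, 1, 2, 3, 2, 5, 1, 0, 2, 3, 1, 2, 0, 1, 6, 4, 2] (Cert.fail)),
  (1, Cert.step [1, 2, 3, 4, 3, 5, 1, 2, 3, 4, 2, 3, 2, 1, 5, 2, 3, 1] (Cert.fail)),
  (1, Cert.step [6, 5, 1, 0, 2, 1, 0, 3, 2, 1, 5, 2, 3, 2, 1, 6, 2, 3] (Cert.fail)),
  (1, Cert.step [0, 6, 1, 2, 3, 5, 1, 2, 6, 1, 5, 6, 3, 2, 1, 6, 4, 0, 1, 2, 3, 0, 1] (Cert.fail)),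
  (1, Cert.step [1, 0, 4, 5, 1, 0, 1, 5, 3] (Cert.fail)),
  (1, Cert.fail),
  (1, Cert.step [5, 3, 2, 3, 5, 1, 0, 1, 2, 3, 5, 1, 0, 1, 2, 3, 4, 3, 2, 3, 0, 1, 0, 1, 2, 3, 0, 1] (Cert.fail)),
  (1, Cert.step [2, 1, 0, 3, 2, 1, 0, 1, 2, 3, 2, 1, 5, 3, 2, 1] (Cert.fail)),
  (1, Cert.step [1, 0, 2, 5, 1, 0, 2, 3, 1, 2, 0, 1, 5, 3, 2, 1, 0] (Cert.fail)),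
  (1, Cert.fail),
  (1, Cert.step [1, 2, 1, 3, 5, 1, 2, 3, 1, 0, 1, 2, 3, 0, 1] (Cert.fail)),
  (1, Cert.step [2, 6, 1, 0, 2, 3, 2, 4, 3, 5, 1, 0, 2, 3, 4, 3, 2, 3, 4, 1, 2, 3, 2, 1, 0, 1, 6, 3] (Cert.step [4, 3, 2, 1, 0, 1, 3, 2, 4, 3, 5, 1, 0, 1, 2, 3, 4, 1, 2, 0, 1, 0, 1, 2] (Cert.fail))),
  (1, Cert.step [2, 6, 1, 2, 3, 2, 5, 1, 0, 2, 3, 1, 2, 0, 1, 6, 4, 3, 0] (Cert.fail)),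
  (1, Cert.step [5, 6, 1, 2, 3, 4, 5, 1, 2, 3, 2, 1, 5, 4, 3, 2, 1, 6, 3] (Cert.fail)),
  (1, Cert.step [0, 1, 2, 1, 3, 5, 1, 2, 3, 1, 0, 1, 2, 3, 0, 1] (Cert.fail)),
  (1, Cert.step [6, 1, 2, 3, 5, 1, 0, 2, 1, 3, 0, 1, 2, 0, 1, 6, 4, 3] (Cert.fail)),
  (1, Cert.step [2, 1, 0, 5, 3, 1, 0, 1, 0] (Cert.fail)),
  (1, Cert.step [2, 1, 3, 2, 1, 0, 5, 1, 0, 2, 1, 3, 2, 3, 4, 3, 2, 3, 0, 1, 0, 1, 2, 0, 1] (Cert.fail)),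
  (1, Cert.step [0, 6, 1, 0, 5, 1, 0, 1, 6, 2, 3, 2] (Cert.fail)),
  (1, Cert.step [1, 0, 2, 1, 0, 3, 5, 1, 2, 1, 5, 1, 2, 3, 2, 3, 4, 1, 0] (Cert.fail)),
  (1, Cert.fail),
  (1, Cert.step [0, 1, 2, 1, 0, 1, 3, 2, 3, 0, 1, 2, 3, 2, 1, 0, 1, 5] (Cert.fail)),
  (1, Cert.step [2, 6, 1, 2, 3, 4, 5, 1, 2, 3, 4, 2, 3, 1, 2, 0, 1, 0, 1, 6] (Cert.fail)),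
  (1, Cert.step [1, 0, 2, 1, 0, 1, 2, 3, 2, 1, 5, 3, 2, 3, 1] (Cert.fail)),
  (1, Cert.step [0, 1, 0, 1, 5, 4, 0, 1, 2] (Cert.fail)),
  (1, Cert.step [0, 6, 1, 2, 3, 2, 5, 1, 2, 3, 0, 1, 2, 0, 1, 6, 3] (Cert.fail)),
  (1, Cert.step [6, 1, 0, 2, 1, 0, 3, 2, 1, 5, 2, 3, 2, 1, 6, 3, 4, 0] (Cert.fail)),
  (1, Cert.step [0, 1, 2, 1, 3, 2, 5, 1, 0, 2, 3, 1, 2, 3, 4, 0, 1] (Cert.fail)),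
  (1, Cert.step [2, 1, 0, 5, 3, 1, 0, 1, 0] (Cert.fail)),
  (1, Cert.step [2, 1, 0, 5, 1, 0, 1, 5, 3] (Cert.step [0, 1, 0, 2, 1, 0, 4, 2, 3, 2, 1, 0, 1, 2, 3, 2, 3, 1, 2, 3, 4] (Cert.fail))),
  (1, Cert.step [0, 1, 0, 2, 1, 3, 2, 1, 0, 1, 3, 2, 3, 0, 1, 2, 3, 2, 1, 5] (Cert.fail)),
  (1, Cert.step [1, 2, 1, 0, 1, 0, 3, 2, 3, 1, 5, 2, 3, 0, 1, 2, 3, 1] (Cert.fail)),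
  (1, Cert.step [1, 2, 3, 6, 5, 1, 2, 6, 1, 5, 1, 6, 3, 2, 1, 5, 3, 2, 1, 6, 4, 3, 1] (Cert.fail)),
  (1, Cert.step [0, 2, 6, 1, 2, 3, 2, 5, 1, 0, 2, 3, 1, 2, 0, 1, 6, 4, 3] (Cert.fail)),
  (1, Cert.step [1, 0, 2, 1, 0, 1, 3, 5, 2, 1, 5, 3, 2, 3, 4, 1] (Cert.fail)),
  (1, Cert.step [2, 1, 3, 2, 3, 5, 1, 2, 3, 4, 1, 0, 1, 2, 0, 1, 0] (Cert.fail)),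
  (1, Cert.step [0, 1, 2, 3, 5, 1, 2, 6, 5, 1, 6, 1, 6, 3, 4, 0, 1, 2, 3, 0, 1, 0] (Cert.fail)),
  (1, Cert.step [1, 5, 1, 0, 1, 0, 1, 2, 3] (Cert.fail)),
  (2, Cert.fail),
  (1, Cert.step [2, 1, 5, 6, 1, 2, 3, 5, 1, 2, 3, 6, 1, 2, 0, 1, 0, 1, 5, 6, 3, 4, 2, 1] (Cert.fail)),
  (1, Cert.step [1, 2, 3, 4, 5, 1, 2, 3, 6, 5, 6, 2, 1, 5, 4, 3, 2, 3, 1, 0] (Cert.fail)),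
  (1, Cert.step [1, 0, 2, 1, 0, 5, 1, 2, 3, 2, 5, 1, 0, 1, 2, 3, 2, 3, 1, 0] (Cert.fail)),
  (1, Cert.step [0, 6, 1, 2, 3, 5, 1, 2, 6, 1, 5, 6, 3, 2, 1, 6, 0, 1, 2, 3, 4, 0, 1, 0] (Cert.fail)),
  (1, Cert.fail),
  (1, Cert.step [2, 6, 1, 2, 3, 2, 5, 1, 0, 2, 3, 1, 2, 0, 1, 6, 3, 2] (Cert.step [2, 3, 4, 3, 2, 3, 0] (Cert.fail))),
  (1, Cert.step [1, 2, 5, 1, 0, 1, 5, 2, 1] (Cert.fail)),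
  (1, Cert.step [1, 2, 1, 0, 3, 5, 1, 2, 3, 2, 1, 5, 2, 3, 2, 0, 1] (Cert.fail)),
  (1, Cert.step [1, 2, 3, 5, 1, 0, 2, 1, 3, 0, 1, 2, 0, 1, 5, 4] (Cert.fail)),
  (1, Cert.step [6, 1, 0, 1, 0, 2, 1, 3, 2, 5, 3, 1, 0, 1, 2, 0, 1, 6] (Cert.fail)),
  (1, Cert.step [1, 0, 2, 1, 0, 5, 1, 2, 3, 2, 5, 1, 0, 1, 2, 3, 2, 3, 4, 1] (Cert.fail)),
  (1, Cert.step [6, 1, 2, 3, 2, 5, 1, 0, 2, 3, 1, 2, 0, 1, 6, 4, 3] (Cert.fail)),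
  (1, Cert.step [6, 1, 0, 2, 1, 0, 1, 2, 3, 2, 1, 5, 3, 2, 1, 6, 3] (Cert.step [0, 1, 0, 4, 3, 2, 1, 3, 0, 1, 2, 3, 4, 1, 2, 0, 1, 0, 1] (Cert.fail))),
  (1, Cert.step [4, 3, 6, 1, 2, 3, 2, 1, 0, 4, 5, 1, 2, 3, 2, 1, 5, 4, 0, 1, 2, 3, 2, 1, 6, 4, 0] (Cert.fail)),
  (2, Cert.fail),
  (1, Cert.step [1, 0, 2, 1, 0, 1, 3, 5, 2, 3, 1, 2, 0, 1, 0, 1, 0] (Cert.fail)),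
  (1, Cert.step [2, 1, 5, 6, 1, 2, 3, 2, 5, 1, 0, 6, 1, 0, 1, 2, 3, 2, 1, 6, 5, 1] (Cert.fail)),
  (1, Cert.fail),
  (1, Cert.step [0, 1, 0, 2, 1, 3, 2, 5, 1, 2, 3, 2, 1, 5, 1, 2, 3, 4, 1, 2, 3, 0, 1] (Cert.fail)),
  (1, Cert.step [1, 0, 2, 1, 0, 3, 5, 1, 2, 3, 5, 1, 2, 3, 4, 2, 1, 0, 1] (Cert.fail)),
  (1, Cert.step [2, 1, 0, 1, 5, 0, 1, 2, 3] (Cert.fail)),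
  (1, Cert.step [1, 6, 1, 5, 1, 0, 2, 1, 6, 0, 1, 2, 0, 1, 5, 6, 3, 1, 2] (Cert.fail)),
  (1, Cert.step [5, 4] (Cert.fail)),
  (1, Cert.step [1, 0, 2, 1, 0, 5, 1, 2, 3, 2, 5, 1, 0, 1, 2, 3, 2, 1, 0] (Cert.step [1, 0, 1, 0, 2, 1, 3, 4, 3, 2, 3, 4, 5, 2, 3, 1, 2, 3, 2, 1, 0, 1, 5, 4, 2, 1, 0] (Cert.fail))),
  (1, Cert.step [1, 2, 1, 0, 3, 2, 4, 3, 5, 1, 0, 2, 3, 4, 3, 2, 3, 4, 1, 2, 3, 2, 3, 1, 0, 1] (Cert.fail)),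
  (1, Cert.fail),
  (1, Cert.step [3, 2, 1, 0, 1, 3, 2, 3, 5, 1, 0, 1, 2, 5, 3, 4, 3, 2, 3, 1, 0, 1, 2, 0, 1] (Cert.fail)),
  (1, Cert.step [0, 2, 6, 1, 2, 3, 2, 5, 1, 2, 3, 0, 1, 2, 0, 1, 6, 4] (Cert.fail)),
  (1, Cert.fail),
  (1, Cert.step [2, 3, 1, 5, 1, 2, 3, 2, 1, 4, 3, 2, 3, 4, 2, 3, 4, 0, 1, 2, 3, 2, 1, 0, 1, 2] (Cert.fail)),
  (1, Cert.step [0, 1, 0, 2, 3, 2, 5, 1, 0, 1, 0, 2, 3, 1, 2, 3, 1, 0, 1, 2, 1] (Cert.fail)),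
  (1, Cert.step [1, 2, 3, 2, 5, 1, 0, 2, 3, 1, 2, 0, 1, 5, 3] (Cert.fail)),
  (1, Cert.fail),
  (1, Cert.step [1, 5, 6, 1, 2, 3, 2, 5, 1, 0, 6, 1, 0, 1, 2, 3, 2, 1, 6, 5, 1, 2] (Cert.step [4, 3, 2, 1, 0, 1, 3, 2, 4, 3, 5, 1, 0, 1, 2, 3, 4, 1, 2, 0, 1, 0, 1, 2] (Cert.fail))),
  (2, Cert.fail),
  (1, Cert.step [1, 2, 1, 0, 1, 3, 2, 3, 2, 5, 1, 0, 2, 1, 5, 3, 0, 1, 2, 3, 4, 2, 1] (Cert.fail)),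
  (1, Cert.step [6, 1, 2, 3, 5, 1, 2, 3, 2, 1, 0, 1, 2, 0, 1, 6, 4, 3] (Cert.fail)),
  (1, Cert.step [1, 2, 3, 5, 1, 2, 3, 4, 1, 0, 1, 2, 3, 0, 1, 2] (Cert.fail)),
  (1, Cert.step [5, 1, 0, 1, 2, 1, 0, 3, 2, 1, 0, 1, 2, 3, 2, 1, 0] (Cert.fail)),
  (1, Cert.step [1, 0, 2, 1, 0, 5, 1, 2, 3, 2, 5, 1, 0, 1, 2, 3, 2, 3, 4, 1] (Cert.fail)),
  (1, Cert.step [1, 0, 1, 0, 5, 1, 2, 3, 2] (Cert.fail)),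
  (1, Cert.step [1, 6, 5, 1, 6, 5, 1, 2, 3, 2, 1, 0, 6, 1, 0, 1, 2, 3, 2, 1, 6, 5, 1] (Cert.fail)),
  (1, Cert.step [2, 5, 3, 2] (Cert.fail)),
  (1, Cert.fail),
  (1, Cert.step [0, 2, 1, 3, 2, 3, 2, 5, 1, 2, 3, 0, 1, 2, 0, 1] (Cert.fail)),
  (1, Cert.fail),
  (1, Cert.step [0, 1, 2, 3, 5, 1, 2, 5, 3, 1, 0, 1, 2, 0, 1] (Cert.fail)),
  (1, Cert.step [2, 6, 1, 2, 3, 2, 5, 1, 2, 3, 0, 1, 2, 0, 1, 5, 6] (Cert.fail)),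
  (1, Cert.step [2, 1, 3, 2, 1, 0, 5, 1, 0, 2, 1, 3, 2, 3, 4, 3, 2, 3, 0, 1, 0, 1, 2, 0, 1] (Cert.fail)),
  (1, Cert.fail),
  (1, Cert.step [2, 1, 0, 5, 1, 0, 1, 5, 2] (Cert.fail)),
  (1, Cert.step [] (Cert.fail)),
  (1, Cert.step [0, 2, 1, 3, 2, 3, 2, 5, 1, 2, 3, 4, 0, 1, 2, 0, 1] (Cert.step [3, 4, 3, 2, 1, 3, 4, 5, 2, 3, 1, 2, 3, 4, 2, 1, 0, 1, 2, 0, 1] (Cert.fail))),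
  (1, Cert.step [6, 1, 2, 3, 2, 5, 1, 0, 2, 3, 1, 2, 0, 1, 6, 4, 2] (Cert.fail)),
  (1, Cert.step [1, 2, 3, 5, 1, 2, 3, 4, 1, 0, 1, 2, 0, 1] (Cert.fail)),
  (1, Cert.step [6, 1, 0, 2, 1, 0, 3, 2, 1, 5, 2, 3, 2, 1, 6, 0] (Cert.fail)),
  (1, Cert.fail),
  (1, Cert.step [2, 6, 1, 0, 2, 3, 2, 5, 1, 0, 3, 2, 3, 1, 2, 0, 1, 6, 4, 3] (Cert.fail)),
  (1, Cert.step [0, 1, 2, 1, 3, 4, 5, 1, 2, 3, 4, 2, 3, 2, 1, 5, 2, 1] (Cert.fail)),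
  (1, Cert.fail),
  (1, Cert.step [1, 0, 1, 2, 3, 5, 1, 2, 0, 1, 5, 2, 3, 1, 2, 1] (Cert.fail)),
  (1, Cert.step [1, 0, 2, 1, 0, 1, 3, 6, 5, 6, 2, 3, 1, 2, 0, 1, 0, 1] (Cert.fail)),
  (1, Cert.step [1, 2, 3, 6, 1, 5, 1, 2, 3, 6, 1, 2, 0, 1, 0, 1, 2, 3, 2, 1, 6, 1, 5, 4] (Cert.fail)),
  (1, Cert.step [0, 1, 0, 1, 5, 0, 1, 2, 3] (Cert.fail)),
  (1, Cert.fail),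
  (1, Cert.step [1, 0, 4, 5, 1, 0, 1, 5, 3] (Cert.fail)),
  (1, Cert.step [1, 2, 6, 1, 0, 2, 1, 0, 3, 2, 1, 6, 3, 2, 3, 2, 1, 5, 1, 6, 2, 3, 4, 1] (Cert.fail)),
  (1, Cert.step [0, 1, 0, 5, 1, 0, 1, 2, 3] (Cert.fail)),
  (1, Cert.fail),
  (1, Cert.step [2, 6, 1, 2, 3, 2, 5, 1, 0, 2, 3, 1, 2, 0, 1, 6, 3, 2] (Cert.step [1, 0, 1, 2, 4, 5, 1, 0, 1, 2, 3, 2, 1, 5, 3, 4, 2, 1] (Cert.fail))),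
  (1, Cert.step [1, 0, 1, 0, 1, 5, 1, 2] (Cert.fail)),
  (1, Cert.step [2, 1, 0, 3, 5, 1, 0, 1, 2, 0] (Cert.fail)),
  (1, Cert.step [1, 6, 1, 2, 3, 5, 1, 2, 3, 6, 5, 1, 5, 6, 2, 1, 5, 6, 3, 4, 2, 3, 1] (Cert.fail)),
  (1, Cert.step [2, 3, 2, 6, 1, 5, 0, 1, 0, 1, 6, 0] (Cert.fail)),
  (1, Cert.step [1, 0, 2, 1, 3, 2, 3, 5, 1, 2, 1, 0, 1, 5, 0, 1, 2, 3, 2, 0, 1, 0] (Cert.fail)),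
  (1, Cert.step [6, 1, 0, 2, 1, 3, 2, 5, 1, 2, 3, 2, 1, 5, 1, 2, 3, 1, 2, 0, 1, 6, 4, 3] (Cert.fail)),
  (1, Cert.step [3, 2, 1, 0, 1, 3, 2, 3, 5, 1, 0, 1, 2, 5, 3, 4, 3, 2, 3, 1, 0, 1, 2, 0, 1, 0] (Cert.fail)),
  (1, Cert.step [2, 6, 1, 0, 2, 3, 2, 4, 3, 5, 1, 0, 2, 3, 4, 3, 2, 3, 4, 1, 2, 3, 2, 1, 0, 1, 6, 0] (Cert.fail)),
  (1, Cert.step [2, 1, 0, 3, 2, 1, 3, 2, 0, 1, 2, 3, 2, 1, 5, 1, 0] (Cert.fail)),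
  (1, Cert.step [2, 1, 3, 4, 3, 2, 5, 1, 2, 3, 2, 4, 3, 2, 1, 5, 4, 3, 1, 2, 3, 1, 2] (Cert.fail)),
  (1, Cert.step [1, 2, 1, 3, 2, 5, 1, 0, 2, 3, 1, 2, 3, 0, 1, 2, 0] (Cert.fail)),
  (1, Cert.step [6, 1, 2, 3, 4, 5, 1, 2, 3, 4, 2, 3, 2, 1, 5, 2, 1, 6, 2] (Cert.fail)),
  (1, Cert.step [1, 0, 5, 1, 0, 1, 5] (Cert.fail)),
  (1, Cert.step [1, 0, 2, 1, 0, 1, 3, 6, 5, 6, 2, 3, 1, 2, 0, 1, 0, 1] (Cert.fail)),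
  (1, Cert.step [1, 0, 2, 1, 0, 3, 2, 3, 1, 5, 2, 3, 4, 0, 1, 2, 1] (Cert.fail)),
  (1, Cert.step [1, 2, 1, 3, 2, 4, 3, 2, 5, 1, 2, 3, 2, 1, 2, 3, 4, 2, 3, 1, 2, 3, 2, 1, 5, 2] (Cert.fail)),
  (1, Cert.step [2, 6, 1, 2, 3, 2, 4, 3, 5, 1, 2, 3, 2, 3, 4, 2, 3, 1, 2, 0, 1, 6, 3, 2] (Cert.fail)),
  (1, Cert.step [1, 0, 2, 1, 0, 1, 0, 3, 2, 1, 5, 3, 2, 3, 1, 0] (Cert.fail)),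
  (1, Cert.step [6, 1, 0, 2, 5, 1, 2, 3, 2, 0, 1, 5, 2, 3, 2, 1, 6, 5] (Cert.fail)),
  (1, Cert.step [2, 1, 0, 1, 5, 3, 0, 1] (Cert.fail)),
  (1, Cert.step [0, 1, 2, 3, 5, 1, 0, 2, 3, 1, 0, 1, 2, 3, 0, 1] (Cert.fail)),
  (1, Cert.step [4, 3, 6, 1, 2, 3, 2, 1, 0, 4, 5, 1, 2, 3, 2, 1, 5, 4, 0, 1, 2, 3, 2, 1, 6, 5] (Cert.fail)),
  (1, Cert.step [1, 2, 3, 5, 1, 0, 2, 1, 3, 4, 0, 1, 2, 3, 0, 1] (Cert.fail)),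
  (1, Cert.fail),
  (1, Cert.step [2, 5, 1, 0, 1, 5, 0, 1] (Cert.fail)),
  (1, Cert.step [1, 0, 1, 2, 3, 5, 1, 2, 0, 1, 5, 2, 3, 4, 2, 1, 0] (Cert.step [4, 3, 2, 1, 3, 2, 5, 1, 4, 3, 2, 3, 4, 2, 1, 0, 1, 2, 3, 0, 1] (Cert.fail))),
  (1, Cert.step [1, 2, 1, 0, 3, 2, 1, 0, 5, 1, 0, 1, 2, 1, 5, 3, 2, 3, 4, 1, 2, 0, 1] (Cert.fail)),
  (1, Cert.step [1, 2, 3, 2, 1, 0, 1, 2, 3, 2, 0, 1, 5, 2, 1, 0, 1] (Cert.fail)),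
  (1, Cert.step [1, 0, 1, 2, 1, 3, 2, 6, 1, 5, 6, 1, 0, 1, 6, 2, 3, 4, 1, 2, 3, 0, 1] (Cert.fail)),
  (1, Cert.step [1, 0, 5, 1, 6, 5, 6, 5, 1, 2, 3, 2] (Cert.fail)),
  (1, Cert.step [4, 3, 6, 1, 2, 3, 2, 1, 0, 4, 5, 1, 2, 3, 2, 1, 5, 4, 0, 1, 2, 3, 2, 1, 6, 5] (Cert.fail)),
  (1, Cert.step [1, 2, 3, 4, 3, 5, 1, 2, 3, 2, 1, 5, 4, 3, 2, 3, 4, 1] (Cert.fail)),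
  (1, Cert.fail),
  (1, Cert.step [0, 2, 1, 3, 2, 3, 2, 5, 1, 2, 3, 0, 1, 2, 3, 0, 1] (Cert.fail)),
  (1, Cert.step [1, 2, 1, 3, 2, 1, 0, 3, 5, 1, 0, 1, 2, 1, 5, 3, 2, 3, 4, 1, 2, 0, 1, 0] (Cert.fail)),
  (1, Cert.step [2, 3, 6, 1, 2, 3, 4, 5, 1, 2, 3, 2, 1, 5, 4, 3, 2, 1, 6] (Cert.fail)),
  (1, Cert.step [1, 2, 3, 4, 3, 2, 1, 0, 1, 5, 1, 2, 3, 1, 2, 1, 0, 1, 5, 4, 3, 1, 2, 3, 0, 1] (Cert.fail)),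
  (1, Cert.step [6, 1, 0, 5, 1, 0, 1, 6, 2, 3, 2] (Cert.fail)),
  (1, Cert.fail),
  (1, Cert.step [1, 5, 1, 2, 3, 2, 1, 0, 2, 3, 2, 1, 5, 2, 0, 1] (Cert.fail)),
  (1, Cert.step [1, 2, 5, 1, 0, 1, 5, 2, 3, 1, 2] (Cert.fail)),
  (1, Cert.step [0, 2, 6, 1, 2, 3, 2, 5, 1, 2, 3, 0, 1, 2, 0, 1, 6, 4] (Cert.fail)),
  (1, Cert.step [6, 1, 0, 2, 1, 0, 3, 2, 1, 5, 2, 3, 2, 1, 6, 3, 4, 0] (Cert.fail)),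
  (1, Cert.step [2, 1, 0, 1, 5, 3, 0, 1] (Cert.fail)),
  (1, Cert.step [2, 1, 3, 2, 5, 1, 0, 1, 5, 1, 2, 1] (Cert.fail)),
  (1, Cert.step [1, 0, 2, 1, 0, 3, 5, 1, 2, 3, 5, 1, 2, 3, 4, 2, 1, 0, 1, 0] (Cert.fail)),
  (1, Cert.step [2, 1, 0, 1, 5, 3, 4, 0, 1] (Cert.fail)),
  (1, Cert.step [1, 0, 1, 0, 2, 1, 3, 2, 6, 1, 5, 0, 1, 0, 1, 6, 1, 5, 3, 2, 3, 1] (Cert.fail)),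
  (1, Cert.fail),
  (1, Cert.step [4, 6, 1, 2, 3, 4, 5, 1, 2, 3, 2, 1, 5, 4, 3, 2, 1, 6] (Cert.fail)),
  (1, Cert.step [2, 1, 0, 1, 5, 0, 1, 2, 0] (Cert.fail)),
  (1, Cert.step [2, 1, 0, 1, 0, 5, 1, 2, 3, 2] (Cert.fail)),
  (2, Cert.fail),
  (1, Cert.step [0, 1, 0, 1, 2, 1, 3, 2, 3, 5, 1, 0, 1, 5, 0, 1, 2, 3, 1, 2, 0, 1] (Cert.fail)),
  (1, Cert.step [1, 2, 1, 0, 1, 3, 2, 3, 5, 1, 2, 3, 1, 0, 1, 5, 0, 1, 2, 3, 4, 2, 3, 1] (Cert.fail)),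
  (1, Cert.step [0, 1, 2, 1, 3, 5, 1, 0, 2, 3, 4, 1, 0, 1, 2, 0, 1] (Cert.fail)),
  (1, Cert.step [1, 2, 3, 5, 1, 2, 3, 2, 1, 0, 1, 5, 2, 1, 0, 1] (Cert.fail)),
  (1, Cert.step [1, 2, 3, 4, 5, 1, 2, 3, 6, 5, 6, 2, 1, 5, 4, 3, 2, 3, 1, 0] (Cert.fail)),
  (1, Cert.step [6, 1, 0, 5, 1, 0, 1, 6, 2, 3, 2] (Cert.fail)),
  (1, Cert.step [1, 0, 1, 2, 1, 3, 2, 5, 1, 0, 1, 5, 3, 0, 1, 2, 3, 4, 1, 2, 0, 1] (Cert.fail)),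
  (1, Cert.step [2, 1, 0, 3, 2, 1, 0, 3, 1, 2, 0, 1, 5, 3, 2, 1] (Cert.fail)),
  (1, Cert.step [1, 2, 3, 5, 1, 2, 3, 4, 1, 0, 1, 2, 0, 1, 0] (Cert.fail)),
  (1, Cert.step [0, 1, 0, 2, 1, 0, 3, 2, 3, 1, 5, 2, 3, 0, 1, 2, 3, 1] (Cert.step [1, 0, 1, 0, 2, 3, 4, 1, 2, 3, 4, 2, 3, 0, 1, 2, 0, 1, 0, 1] (Cert.fail))),
  (1, Cert.step [0, 1, 2, 3, 2, 5, 1, 0, 1, 2, 3, 1, 2, 3, 4, 2, 3, 1] (Cert.fail)),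
  (1, Cert.fail),
  (1, Cert.step [6, 1, 2, 3, 4, 5, 1, 0, 2, 3, 2, 1, 5, 4, 3, 2, 1, 6, 5] (Cert.step [4, 3, 2, 1, 5, 0, 1, 0, 1, 2, 3, 4, 3] (Cert.fail))),
  (1, Cert.step [1, 2, 5, 1, 2, 3, 2, 4, 3, 4, 2, 3, 1, 2, 0, 1, 0, 1] (Cert.fail)),
  (1, Cert.step [2, 1, 0, 3, 2, 1, 3, 2, 0, 1, 2, 3, 2, 1, 5, 1, 0] (Cert.fail)),
  (1, Cert.fail),
  (1, Cert.step [0, 1, 2, 1, 3, 2, 1, 0, 1, 3, 2, 0, 1, 5, 3, 2, 3, 2, 1] (Cert.fail)),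
  (1, Cert.step [6, 1, 0, 2, 1, 0, 5, 1, 2, 3, 2, 5, 1, 0, 1, 2, 3, 2, 1, 5, 6, 3] (Cert.fail)),
  (1, Cert.step [1, 6, 1, 2, 3, 5, 1, 2, 3, 6, 5, 1, 5, 6, 2, 1, 5, 6, 3, 2, 3, 4, 1] (Cert.step [1, 0, 4, 2, 3, 1, 2, 3, 0, 1, 2, 3, 4, 2, 1, 0, 1] (Cert.fail))),
  (1, Cert.step [0, 1, 2, 3, 4, 3, 2, 1, 0, 5, 1, 2, 3, 2, 1, 5, 4, 1, 2, 3, 0, 1, 2, 1, 0, 1] (Cert.fail)),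
  (1, Cert.fail),
  (1, Cert.step [2, 1, 0, 3, 2, 1, 0, 3, 1, 2, 0, 1, 5, 3, 2, 1, 0] (Cert.fail)),
  (1, Cert.step [6, 1, 0, 2, 1, 0, 1, 2, 3, 2, 1, 5, 3, 2, 1, 6, 3] (Cert.fail)),
  (1, Cert.step [1, 5, 1, 2, 3, 2, 1, 0, 2, 3, 2, 1, 5, 2, 0, 1, 0] (Cert.fail)),
  (1, Cert.step [0, 6, 1, 0, 1, 2, 1, 3, 2, 6, 1, 5, 6, 1, 0, 1, 6, 2, 3, 1, 2, 0, 1, 6, 4, 3] (Cert.fail)),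
  (1, Cert.step [0, 1, 2, 1, 3, 5, 1, 2, 3, 1, 0, 1, 2, 3, 0, 1] (Cert.fail)),
  (1, Cert.step [4, 2, 0] (Cert.fail)),
  (1, Cert.step [4, 5, 1, 0, 1, 5, 0, 1, 2, 3] (Cert.fail)),
  (1, Cert.step [1, 2, 3, 4, 3, 2, 1, 0, 1, 5, 1, 2, 3, 2, 1, 5, 2, 3, 4, 3, 0, 1, 2, 1, 0, 1] (Cert.fail)),
  (1, Cert.fail),
  (1, Cert.step [1, 2, 1, 3, 5, 1, 2, 3, 2, 1, 0, 1, 2, 3, 0, 1] (Cert.fail)),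
  (1, Cert.step [2, 1, 0, 1, 5, 4, 0, 1] (Cert.fail)),
  (1, Cert.step [0, 1, 2, 3, 6, 5, 1, 2, 6, 1, 5, 1, 6, 3, 2, 1, 5, 3, 2, 1, 6, 4, 3, 1] (Cert.fail)),
  (1, Cert.step [0, 2, 1, 0, 5, 3, 1, 0, 1, 2] (Cert.fail)),
  (1, Cert.step [6, 1, 2, 3, 2, 5, 1, 2, 3, 0, 1, 2, 0, 1, 6] (Cert.fail)),
  (1, Cert.step [6, 1, 2, 3, 4, 5, 1, 2, 3, 4, 2, 3, 2, 1, 5, 2, 1, 6] (Cert.fail)),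
  (1, Cert.fail),
  (1, Cert.step [0, 1, 6, 1, 2, 3, 5, 1, 2, 3, 6, 5, 1, 5, 6, 2, 1, 5, 6, 3, 2, 3, 4, 1] (Cert.fail)),
  (2, Cert.fail),
  (1, Cert.step [2, 1, 5, 1, 0, 1, 0, 1, 2, 3] (Cert.fail)),
  (1, Cert.step [5, 4, 3, 2, 0] (Cert.fail)),
  (1, Cert.step [1, 0, 1, 2, 3, 5, 1, 2, 0, 1, 5, 2, 3, 4, 2, 1, 0] (Cert.fail)),
  (1, Cert.step [1, 2, 1, 0, 3, 5, 1, 2, 3, 2, 1, 5, 3, 2, 3, 4, 2, 1] (Cert.fail)),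
  (1, Cert.step [5, 0, 2, 6, 1, 0, 2, 3, 2, 4, 3, 5, 1, 0, 2, 3, 4, 3, 2, 3, 4, 1, 2, 3, 2, 1, 0, 1, 6, 3] (Cert.fail)),
  (1, Cert.fail),
  (1, Cert.step [0, 1, 0, 1, 2, 3, 5, 1, 2, 0, 1, 5, 2, 3, 1, 2, 1] (Cert.fail)),
  (1, Cert.step [1, 0, 2, 1, 0, 1, 3, 5, 2, 3, 1, 2, 0, 1, 0, 1, 0] (Cert.fail)),
  (1, Cert.step [1, 5, 6, 1, 2, 3, 2, 5, 1, 0, 6, 1, 0, 1, 2, 3, 2, 1, 6, 5, 1, 0] (Cert.fail)),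
  (1, Cert.step [2, 1, 0, 3, 2, 1, 3, 2, 0, 1, 5, 2, 3, 1, 2, 1] (Cert.fail)),
  (1, Cert.step [2, 1, 0, 3, 2, 5, 1, 0, 2, 1, 3, 2, 3, 5, 4, 3, 2, 3, 2, 1, 0, 1, 2, 0, 1] (Cert.step [4, 3, 2, 1, 5, 0, 1, 0, 1, 2, 3, 4] (Cert.fail))),
  (1, Cert.step [1, 2, 1, 3, 2, 5, 1, 0, 2, 3, 1, 2, 0, 1, 5, 3] (Cert.fail)),
  (1, Cert.step [2, 1, 0, 3, 2, 6, 1, 0, 1, 6, 5, 1, 6, 2, 3, 1, 0, 1] (Cert.fail)),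
  (1, Cert.step [1, 0, 2, 3, 2, 5, 1, 0, 1, 0, 2, 3, 1, 2, 3, 1, 0, 1, 2, 1] (Cert.fail)),
  (2, Cert.fail),
  (1, Cert.step [1, 2, 1, 0, 1, 3, 2, 3, 2, 5, 1, 0, 2, 1, 5, 3, 0, 1, 2, 3, 4, 2, 1, 0] (Cert.fail)),
  (1, Cert.step [6, 1, 2, 3, 2, 5, 1, 0, 2, 3, 1, 2, 0, 1, 6, 4, 3] (Cert.fail)),
  (1, Cert.step [6, 1, 2, 3, 5, 1, 2, 6, 1, 5, 6, 3, 2, 1, 6, 4, 0, 1, 2, 3, 0, 1, 0] (Cert.fail)),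
  (1, Cert.fail),
  (1, Cert.step [5, 1, 0, 2, 1, 0, 1, 3, 2, 3, 1, 2, 0, 1, 0, 1, 0] (Cert.fail)),
  (1, Cert.step [1, 0, 1, 2, 3, 2, 5, 1, 0, 1, 2, 3, 2, 3, 4, 1, 2, 0, 1] (Cert.step [] (Cert.fail))),
  (1, Cert.step [1, 2, 3, 5, 1, 2, 3, 1, 0, 1, 2, 0, 1, 0] (Cert.fail)),
  (1, Cert.step [6, 1, 5, 1, 0, 2, 1, 3, 2, 3, 2, 1, 5, 3, 2, 3, 2, 1, 6, 4] (Cert.fail)),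
  (1, Cert.step [1, 2, 3, 6, 1, 5, 1, 2, 3, 6, 1, 2, 0, 1, 0, 1, 2, 3, 2, 1, 6, 1, 5, 4] (Cert.fail)),
  (1, Cert.step [0, 6, 1, 0, 2, 3, 2, 5, 1, 2, 3, 2, 1, 5, 3, 2, 0, 1, 6, 4] (Cert.step [4, 3, 2, 1, 0, 1, 5, 3, 0, 1, 2, 3, 4] (Cert.fail))),
  (1, Cert.step [1, 2, 3, 2, 1, 0, 1, 0, 2, 3, 1, 2, 3, 1, 0, 1, 2] (Cert.fail)),
  (1, Cert.step [2, 1, 0, 1, 2, 3, 2, 1, 0, 3, 2, 3, 1, 2, 0, 1, 5, 2] (Cert.fail)),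
  (1, Cert.step [1, 0, 1, 2, 1, 0, 3, 2, 1, 0, 1, 2, 3, 2, 1, 5, 3, 2] (Cert.fail))]),
  (1781, Cert.bad 0)]

/-- the elements conjugating the element of order 6 to its power with exponent 5 -/
def certH : Cert := Cert.rl [(1, Cert.rl [(1, Cert.step [1, 3, 2, 4, 5, 1, 0, 2, 3, 4, 2, 3, 2, 1, 0, 1, 5, 0] (Cert.step [2, 1, 0, 3, 2, 5, 1, 2, 3, 4, 2, 3, 2, 1, 5, 3, 0, 1, 2, 3, 4, 2, 3] (Cert.fail))),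
  (2, Cert.fail),
  (1, Cert.step [1, 0, 1, 2, 6, 1, 5, 1, 6, 1, 0, 1, 6, 0] (Cert.step [1, 3, 4, 5, 1, 0, 2, 3, 4, 2, 3, 1, 2, 0, 1, 5, 2, 3, 2, 3, 1, 2] (Cert.fail))),
  (1, Cert.step [1, 0, 3, 2, 3, 4, 5, 1, 5, 4, 2, 3, 0, 1, 2] (Cert.step [2, 3, 4, 3, 5, 1, 2, 1, 5, 3, 4, 2, 3, 2, 1, 0, 1, 2, 3, 4, 0] (Cert.fail))),
  (1, Cert.fail),
  (1, Cert.step [2, 1, 0, 1, 3, 2, 4, 5, 1, 5, 4, 0, 1, 0] (Cert.fail)),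
  (1, Cert.step [0, 1, 2, 6, 1, 5, 1, 6, 1, 0, 1, 6, 3, 0, 1, 2, 1, 0] (Cert.fail)),
  (1, Cert.step [0, 2, 6, 1, 0, 2, 1, 0, 3, 2, 1, 5, 2, 3, 2, 1, 6, 1] (Cert.fail)),
  (1, Cert.step [0, 3, 2, 3, 2, 3, 1, 2, 0] (Cert.step [0, 4, 5, 1, 0, 2, 1, 3, 2, 1, 0, 1, 5, 4, 3, 2, 3, 1, 2] (Cert.fail))),
  (1, Cert.step [3, 2, 4, 5, 1, 0, 2, 6, 5, 6, 3, 2, 1, 5, 4, 0] (Cert.fail)),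
  (1, Cert.fail),
  (1, Cert.step [2, 4, 3, 5, 1, 0, 2, 1, 6, 5, 6, 2, 3, 1, 2, 3, 4, 1, 0] (Cert.step [1, 4, 3, 5, 1, 2, 3, 2, 1, 4, 3, 0, 1, 2, 3, 2, 1, 5, 4, 0, 1, 2] (Cert.fail))),
  (1, Cert.fail),
  (1, Cert.step [1, 0, 1, 3, 2, 4, 5, 1, 5, 4, 2, 3, 0, 1] (Cert.fail)),
  (1, Cert.step [2, 1, 0, 1, 0, 3, 2, 3, 1, 0] (Cert.step [3, 2, 4, 3, 2, 5, 1, 3, 4, 2, 3, 2, 0, 1, 5, 2, 3, 4, 3, 2, 3] (Cert.fail))),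
  (1, Cert.step [0, 1, 2, 1, 0, 1, 0, 3, 2, 3, 1, 2, 3] (Cert.fail)),
  (1, Cert.step [0, 6, 1, 0, 2, 1, 0, 3, 2, 1, 5, 2, 3, 2, 1, 6] (Cert.step [1, 3, 2, 4, 3, 2, 1, 0, 3, 2, 4, 3, 2, 1, 5, 1, 2, 3, 4, 3, 1, 2, 1] (Cert.fail))),
  (1, Cert.step [3, 2, 4, 5, 1, 0, 2, 6, 5, 6, 3, 2, 1, 5, 4, 0] (Cert.step [3, 2, 4, 3, 2, 5, 1, 4, 2, 3, 2, 0, 1, 5, 4, 3, 2, 3, 4, 2, 3] (Cert.fail))),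
  (1, Cert.step [0, 6, 1, 2, 3, 5, 1, 2, 3, 6, 0, 1, 5, 2, 1, 6, 1, 2, 3] (Cert.step [1, 4, 3, 5, 1, 2, 3, 2, 1, 0, 1, 2, 4, 3, 2, 1, 0, 1, 5, 3, 4, 3, 2, 0] (Cert.fail))),
  (1, Cert.step [1, 3, 2, 3, 2, 4, 5, 1, 5, 4, 0, 1, 2, 0, 1] (Cert.step [0, 3, 2, 1, 3, 2, 4, 3, 2, 5, 1, 0, 1, 3, 4, 2, 3, 2, 3, 1, 0, 1] (Cert.fail))),
  (1, Cert.step [0, 3, 2, 3, 0, 1, 0, 1, 2, 1, 0] (Cert.step [0, 5, 1, 0, 2, 1, 5, 3, 2, 3, 4, 3, 2, 3, 0, 1, 2, 0, 1, 5, 0] (Cert.fail))),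
  (1, Cert.step [3, 2, 1, 3, 2, 3, 2, 3, 1, 2, 0] (Cert.step [3, 2, 3, 5, 1, 0, 1, 2, 1, 3, 2, 1, 4, 3, 2, 1, 5, 3, 1, 2, 3, 2, 1, 0, 1] (Cert.fail))),
  (1, Cert.step [1, 0, 1, 3, 2, 4, 5, 1, 5, 4, 2, 3, 2, 0] (Cert.step [1, 0, 2, 1, 3, 4, 5, 1, 0, 1, 2, 1, 0, 3, 2, 1, 5, 4, 0, 1, 2] (Cert.fail))),
  (1, Cert.step [0, 1, 2, 3, 2, 1, 4, 6, 1, 2, 3, 5, 1, 5, 6, 2, 1, 5, 3, 2, 1, 6, 4] (Cert.step [1, 0, 1, 3, 2, 3, 2, 4, 3, 1, 0, 1, 5, 2, 3, 4, 2, 3, 1, 2, 3, 0] (Cert.fail))),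
  (2, Cert.fail),
  (1, Cert.step [0, 3, 2, 3, 2, 3, 1, 0, 1] (Cert.step [0, 1, 0, 1, 4, 3, 2, 3, 4, 5, 2, 1, 0, 1, 2, 3, 2, 1, 5, 3, 1, 0, 1, 0] (Cert.fail))),
  (1, Cert.step [0, 1, 2, 6, 1, 5, 1, 6, 1, 0, 1, 6, 3, 2, 0, 1, 0] (Cert.step [0, 1, 0, 1, 4, 3, 2, 3, 2, 1, 0, 1, 4, 3, 2, 1, 0, 1, 5, 3, 1, 2, 3, 0] (Cert.fail))),
  (1, Cert.fail),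
  (1, Cert.step [0, 1, 0, 3, 4, 5, 1, 5, 4, 2, 3, 0] (Cert.step [3, 2, 3, 2, 5, 1, 0, 1, 0, 2, 5, 4, 3, 2, 1, 0, 1, 5, 4, 3, 0] (Cert.fail))),
  (1, Cert.step [3, 2, 3, 2, 4, 5, 1, 5, 4, 2, 3, 2, 0] (Cert.step [3, 2, 4, 3, 2, 1, 0, 5, 1, 2, 3, 2, 1, 0, 4, 3, 2, 1, 0, 1, 5, 4] (Cert.fail))),
  (1, Cert.step [0, 1, 3, 2, 1, 0, 1, 2, 3, 2, 3, 1] (Cert.fail)),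
  (1, Cert.step [0, 1, 3, 2, 3, 4, 5, 1, 5, 4, 2, 3, 1, 2, 0] (Cert.step [5, 1, 4, 2, 3, 1, 2, 0, 1, 5, 4, 3, 2] (Cert.fail))),
  (1, Cert.step [0, 6, 1, 0, 2, 1, 0, 3, 2, 1, 5, 2, 3, 2, 1, 6, 1, 2] (Cert.fail)),
  (1, Cert.step [3, 2, 1, 0, 1] (Cert.step [1, 0, 2, 1, 0, 1, 4, 3, 2, 3, 4, 1, 2, 3, 0, 1, 2, 1] (Cert.fail))),
  (1, Cert.step [0, 1, 3, 2, 1, 0, 1, 3, 2, 3, 0, 1, 2] (Cert.fail)),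
  (1, Cert.step [0, 6, 1, 2, 3, 5, 1, 2, 3, 6, 0, 1, 5, 2, 1, 6, 1, 2, 3] (Cert.step [0, 2, 5, 1, 0, 2, 1, 3, 2, 3, 2, 4, 5, 3, 2, 3, 1, 2, 0, 1, 5, 3, 2, 0] (Cert.fail))),
  (1, Cert.step [0, 1, 0, 4, 5, 1, 4, 2, 3, 2, 1, 0, 1, 5] (Cert.step [0, 5, 1, 0, 1, 2, 1, 3, 2, 4, 3, 2, 5, 1, 0, 1, 5, 4, 3, 2, 3, 1, 2] (Cert.fail))),
  (1, Cert.step [1, 0, 4, 5, 1, 2, 3, 6, 5, 6, 4, 3, 2, 3, 2, 1, 5, 0, 1] (Cert.step [4, 3, 2, 1, 3, 5, 2, 3, 1, 2, 3, 4] (Cert.fail))),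
  (1, Cert.step [0, 1, 3, 2, 4, 5, 1, 5, 4, 2, 3, 0, 1, 2] (Cert.step [0, 1, 0, 1, 4, 3, 2, 3, 2, 1, 0, 4, 5, 2, 1, 5, 2, 3, 0, 1, 2] (Cert.fail))),
  (1, Cert.step [0, 1, 3, 2, 3, 4, 5, 1, 5, 4, 2, 3, 1, 2, 0, 1] (Cert.step [0, 1, 3, 2, 1, 3, 5, 1, 0, 1, 2, 3, 0, 1, 2, 0, 1, 0, 1] (Cert.step [] (Cert.done [0, 1, 3, 2, 1, 3, 5, 1, 0, 1, 2, 3, 0, 1, 2, 0, 1, 0, 1, 0, 1, 3, 2, 3, 4, 5, 1, 5, 4, 2, 3, 1, 2, 0, 1, 0, 3, 1, 0])))),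
  (1, Cert.step [1, 2, 6, 1, 2, 3, 2, 5, 1, 2, 3, 0, 1, 2, 0, 1, 6, 0] (Cert.fail)),
  (1, Cert.step [1, 0, 3, 2, 3, 4, 5, 1, 5, 4, 0, 1, 0] (Cert.step [1, 0, 3, 2, 1, 4, 3, 2, 3, 2, 1, 4, 5, 2, 0, 1, 5, 2, 3, 0] (Cert.step [] (Cert.done [1, 0, 3, 2, 1, 4, 3, 2, 3, 2, 1, 4, 5, 2, 0, 1, 5, 2, 3, 0, 1, 0, 3, 2, 3, 4, 5, 1, 5, 4, 1])))),
  (1, Cert.fail),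
  (1, Cert.step [1, 0, 3, 2, 3, 2, 3, 1, 0] (Cert.step [2, 3, 4, 5, 1, 0, 2, 1, 3, 2, 4, 1, 5] (Cert.fail))),
  (1, Cert.fail),
  (1, Cert.step [3, 2, 1, 3, 2, 3, 2, 3, 1, 0, 1] (Cert.step [1, 0, 2, 1, 3, 4, 5, 1, 0, 1, 2, 1, 0, 3, 2, 1, 5, 4, 0, 1, 2] (Cert.fail))),
  (1, Cert.step [0, 3, 2, 3, 2, 1, 0, 1, 2, 1, 0] (Cert.step [0, 2, 1, 3, 2, 3, 2, 1, 0, 4, 3, 1, 2, 3, 1, 2, 0, 1, 5, 4, 1, 2, 3, 0, 1] (Cert.step [1, 0, 4, 3, 2, 1, 0, 3, 4, 1, 2, 3, 1, 2, 3, 4, 3, 1, 0, 1, 2, 1] (Cert.done [1, 0, 4, 3, 2, 1, 0, 3, 4, 1, 2, 3, 1, 2, 3, 4, 3, 1, 0, 1, 2, 1, 0, 2, 1, 3, 2, 3, 2, 1, 0, 4, 3, 1, 2, 3, 1, 2, 0, 1, 5, 4, 1, 2, 3, 0, 1, 0, 3, 2, 3, 2, 1, 0, 1, 2, 1, 0, 3, 4, 5, 2, 0])))),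
  (1, Cert.step [0, 1, 2, 6, 1, 5, 1, 6, 1, 0, 1, 6, 0, 1] (Cert.step [3, 2, 1, 3, 2, 3, 2, 1, 0, 4, 5, 1, 2, 3, 4, 2, 3, 1, 2, 1, 0, 1, 5, 3] (Cert.fail))),
  (1, Cert.step [2, 1, 6, 5, 1, 0, 2, 1, 0, 1, 3, 2, 1, 5, 3, 2, 1, 6, 2, 0, 1] (Cert.fail)),
  (1, Cert.step [0, 1, 0, 2, 1, 0, 3, 2, 3, 1, 2, 3] (Cert.step [2, 3, 2, 1, 0, 4, 3, 2, 3, 4, 5, 1, 5, 0, 1, 2, 3, 2, 3, 4, 3, 1, 2, 0] (Cert.fail))),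
  (1, Cert.step [0, 1, 3, 2, 4, 5, 1, 5, 4, 0, 1, 0, 1] (Cert.fail)),
  (1, Cert.fail),
  (1, Cert.step [3, 2, 1, 3, 2, 3, 4, 5, 1, 5, 4, 2, 3, 0] (Cert.step [0, 2, 3, 4, 5, 1, 0, 1, 2, 1, 0, 3, 2, 1, 5, 4, 3, 2, 0, 1, 0, 1, 5, 2, 3, 2, 0] (Cert.fail))),
  (1, Cert.step [0, 1, 4, 3, 2, 1, 3, 2, 6, 5, 6, 4, 3, 2, 1, 5, 2, 3, 4, 3] (Cert.step [] (Cert.fail))),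
  (1, Cert.step [3, 2, 1, 3, 2, 4, 5, 1, 2, 0, 1, 5, 4, 2, 3, 0] (Cert.step [2, 1, 3, 2, 3, 4, 5, 1, 0, 1, 2, 3, 1, 2, 0, 1, 5, 4, 0] (Cert.fail))),
  (1, Cert.step [0, 1, 3, 2, 4, 5, 1, 5, 4, 0, 1, 2, 0] (Cert.step [1, 2, 3, 2, 4, 3, 2, 1, 0, 1, 3, 2, 5, 0, 1, 2, 3, 4, 3, 2] (Cert.fail))),
  (1, Cert.fail),
  (1, Cert.step [2, 1, 0, 1, 0, 3, 2, 3, 1, 0] (Cert.step [1, 2, 1, 4, 5, 1, 0, 1, 2, 3, 2, 3, 5, 4, 3, 1, 2, 3, 1, 0, 1, 2, 3, 4, 0] (Cert.fail))),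
  (1, Cert.step [0, 1, 0, 2, 3, 2, 6, 1, 0, 1, 6, 1, 5, 1, 6, 3, 1, 2] (Cert.fail)),
  (1, Cert.step [3, 2, 3, 2, 4, 5, 1, 5, 4, 2, 3, 2, 0] (Cert.step [2, 1, 0, 4, 5, 1, 2, 3, 2, 1, 0, 3, 4, 1, 2, 3, 2, 1, 5, 3, 4, 1] (Cert.fail))),
  (1, Cert.step [0, 3, 2, 3, 1, 2, 1, 0, 1, 0] (Cert.fail)),
  (1, Cert.step [] (Cert.step [1, 2, 1, 4, 5, 1, 0, 1, 2, 3, 2, 3, 5, 1, 0, 1, 5, 1, 2, 3, 4, 3, 2] (Cert.fail))),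
  (1, Cert.fail),
  (1, Cert.step [1, 0, 4, 5, 1, 2, 6, 5, 6, 3, 4, 3, 2, 3, 2, 1, 5, 2, 0] (Cert.step [1, 4, 3, 5, 1, 2, 3, 2, 1, 0, 1, 2, 4, 3, 2, 1, 0, 1, 5, 3, 4, 3, 2, 0] (Cert.fail))),
  (1, Cert.fail),
  (1, Cert.step [0, 1, 3, 2, 1, 0, 1, 4, 5, 1, 5, 4, 2, 3, 2, 0, 1] (Cert.fail)),
  (1, Cert.step [0, 1, 3, 2, 1, 0, 1, 2, 3, 2, 3] (Cert.step [2, 1, 0, 1, 5, 2, 3, 4, 1, 2, 3, 2, 0, 1, 5, 4, 3] (Cert.fail))),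
  (1, Cert.step [0, 2, 1, 3, 2, 3, 2, 3, 1, 2, 3] (Cert.step [2, 3, 4, 3, 2, 3, 2, 4, 5, 1, 0, 2, 1, 3, 5, 2, 3, 4, 3, 2, 3, 1, 0, 1] (Cert.fail))),
  (1, Cert.fail),
  (1, Cert.step [3, 2, 1, 3, 2, 3, 4, 5, 1, 5, 4, 2, 3, 0] (Cert.step [2, 3, 4, 3, 5, 1, 2, 1, 5, 3, 4, 2, 3, 2, 1, 0, 1, 2, 3, 4, 0] (Cert.fail))),
  (1, Cert.step [0, 1, 0, 3, 2, 3, 1, 2, 0, 1] (Cert.fail)),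
  (1, Cert.step [3, 2, 1, 2, 0] (Cert.fail)),
  (1, Cert.step [1, 0, 2, 1, 0, 4, 5, 1, 5, 4, 2, 3, 2, 3, 1] (Cert.fail)),
  (1, Cert.step [1, 3, 2, 3, 2, 4, 5, 1, 5, 4, 0, 1, 2, 0, 1] (Cert.fail)),
  (1, Cert.step [1, 3, 2, 3, 2, 4, 5, 1, 5, 4, 0, 1, 0, 1] (Cert.step [1, 2, 4, 3, 2, 5, 1, 0, 1, 2, 3, 4, 3, 2, 3, 1, 2, 0, 1, 5, 2, 3, 4, 3, 2] (Cert.fail))),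
  (1, Cert.step [0, 1, 3, 2, 1, 0, 1, 3, 2, 3, 0, 1] (Cert.fail)),
  (1, Cert.step [0, 6, 1, 0, 2, 1, 0, 3, 2, 1, 5, 2, 3, 2, 1, 6] (Cert.fail)),
  (1, Cert.step [0, 2, 6, 1, 0, 2, 1, 0, 3, 2, 1, 5, 2, 3, 2, 1, 6, 1] (Cert.step [0, 1, 0, 2, 1, 4, 3, 2, 3, 2, 1, 0, 1, 5, 4, 3, 1, 2, 3, 4, 1] (Cert.fail))),
  (3, Cert.fail),
  (1, Cert.step [0, 1, 3, 2, 4, 5, 1, 5, 4, 0, 1, 2, 0, 1] (Cert.step [1, 2, 1, 4, 5, 1, 0, 1, 5, 3, 2, 1, 0, 1, 2, 3, 4, 3, 2, 1] (Cert.fail))),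
  (1, Cert.step [0, 1, 0, 3, 4, 5, 4, 2, 3, 2, 1, 0, 1, 5] (Cert.fail)),
  (1, Cert.step [0, 3, 2, 1, 5, 6, 1, 2, 3, 5, 1, 2, 6, 1, 5, 3, 2, 1, 6, 4, 3, 2, 1, 5, 0] (Cert.fail)),
  (1, Cert.step [0, 3, 2, 3, 4, 5, 1, 5, 4, 2, 3, 0, 1, 2] (Cert.step [2, 1, 0, 3, 2, 5, 1, 2, 3, 4, 2, 3, 2, 1, 5, 3, 0, 1, 2, 3, 4, 2, 3] (Cert.fail))),
  (1, Cert.step [0, 1, 0, 4, 5, 1, 5, 4, 2, 3, 1, 2, 0, 1] (Cert.step [1, 4, 3, 5, 1, 2, 3, 2, 1, 4, 3, 0, 1, 2, 3, 2, 1, 5, 4, 0, 1, 2] (Cert.fail))),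
  (1, Cert.step [1, 0, 3, 2, 3, 4, 5, 1, 5, 4, 2, 3, 0] (Cert.step [2, 3, 2, 4, 5, 1, 0, 1, 2, 3, 2, 1, 0, 1, 5, 4, 2, 3, 2, 1] (Cert.fail))),
  (1, Cert.step [0, 6, 1, 0, 1, 6, 1, 5, 1, 6, 3, 1, 2] (Cert.fail)),
  (1, Cert.step [1, 0, 1, 3, 2, 4, 5, 1, 5, 4, 2, 3, 2, 0] (Cert.step [2, 1, 0, 1, 2, 5, 1, 2, 3, 4, 3, 2, 1, 5, 3, 1, 2, 1] (Cert.fail))),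
  (1, Cert.step [0, 3, 2, 4, 3, 2, 5, 1, 2, 1, 5, 1, 2, 3, 4, 2, 3, 1, 0] (Cert.step [3, 2, 3, 2, 1, 4, 3, 2, 3, 5, 2, 1, 5, 4, 2, 3, 2, 1, 0, 1, 5] (Cert.fail))),
  (1, Cert.step [0, 3, 2, 4, 5, 1, 5, 4, 0, 1, 2, 0, 1, 0] (Cert.step [4, 3, 2, 3, 4, 5, 1, 0, 2, 3, 4, 1, 0, 1, 5, 2, 3, 4, 0, 1, 0, 1] (Cert.fail))),
  (1, Cert.step [0, 1, 3, 2, 4, 5, 1, 5, 4, 2, 3, 2, 0] (Cert.step [3, 2, 1, 5, 1, 0, 1, 3, 2, 3, 4, 2, 3, 2, 1, 5, 1, 2, 0] (Cert.fail))),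
  (1, Cert.step [0, 1, 0, 3, 2, 3, 1, 0, 1, 2] (Cert.step [0, 4, 5, 1, 0, 2, 1, 3, 2, 1, 0, 1, 5, 4, 3, 2, 3, 1, 2] (Cert.fail))),
  (1, Cert.fail),
  (1, Cert.step [2, 1, 0, 6, 1, 2, 5, 1, 6, 3, 2, 1, 5, 3, 2, 1, 6, 0, 1] (Cert.step [0, 4, 5, 1, 2, 3, 2, 1, 0, 3, 4, 3, 1, 2, 3, 2, 1, 5, 4, 3, 1] (Cert.fail))),
  (1, Cert.step [0, 1, 3, 2, 3, 4, 5, 1, 5, 4, 2, 3, 1, 2, 0] (Cert.fail)),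
  (1, Cert.fail),
  (1, Cert.step [0, 1, 2, 3] (Cert.fail)),
  (1, Cert.step [1, 0, 3, 2, 4, 5, 1, 5, 4, 2, 3, 2, 3, 1, 2] (Cert.step [1, 0, 1, 3, 2, 3, 4, 3, 2, 5, 3, 1, 2, 0, 1, 5, 4, 2, 3, 2, 3, 4, 3, 2] (Cert.fail))),
  (1, Cert.step [5, 1, 2, 3, 2, 1, 0, 1, 2, 3, 2, 1, 5] (Cert.step [4, 3, 2, 1, 3, 2, 1, 5, 1, 2, 3, 4, 2, 3, 0, 1, 2, 3, 2, 1, 5, 4, 3, 1, 2] (Cert.fail))),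
  (1, Cert.step [0, 1, 3, 2, 1, 0, 1, 4, 5, 1, 5, 4, 2, 3, 2, 0] (Cert.step [0, 1, 0, 1, 4, 3, 2, 3, 2, 1, 0, 4, 5, 2, 1, 5, 2, 3, 0, 1, 2] (Cert.fail))),
  (1, Cert.step [1, 0, 1, 2, 6, 1, 5, 1, 6, 1, 0, 1, 6, 0, 1] (Cert.step [2, 3, 2, 4, 5, 1, 2, 3, 2, 1, 4, 3, 2, 1, 5, 0, 1, 0, 1, 2, 1] (Cert.fail))),
  (1, Cert.step [3, 2, 1, 3, 2, 3, 4, 5, 1, 5, 4, 2, 3, 1, 2, 3] (Cert.step [3, 2, 1, 4, 3, 2, 1, 3, 2, 1, 5, 0, 1, 2, 3, 2, 3, 4, 1, 2, 3] (Cert.fail))),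
  (1, Cert.step [0, 1, 3, 2, 3, 4, 5, 1, 2, 0, 1, 5, 4, 2, 3, 0] (Cert.fail)),
  (1, Cert.step [0, 3, 2, 6, 1, 0, 1, 0, 6, 1, 0, 1, 6, 2, 3, 0, 1, 2, 1, 0] (Cert.step [0, 5, 1, 0, 1, 2, 1, 3, 2, 4, 3, 2, 5, 1, 0, 1, 5, 4, 3, 2, 3, 1, 2] (Cert.fail))),
  (1, Cert.step [1, 0, 1, 0, 3, 2, 3, 2, 3, 1] (Cert.fail)),
  (1, Cert.fail),
  (1, Cert.step [1, 3, 2, 3, 2, 4, 5, 1, 5, 4, 0, 1, 0] (Cert.step [2, 1, 3, 5, 1, 0, 1, 5, 2] (Cert.fail))),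
  (1, Cert.step [0, 1, 0, 4, 5, 1, 5, 4, 2, 3, 2, 3] (Cert.step [0, 4, 5, 1, 0, 2, 1, 3, 2, 1, 3, 4, 2, 3, 2, 1, 5, 3, 4, 2, 3, 2] (Cert.step [0, 2, 1, 0, 3, 4, 3, 2, 5, 1, 0, 2, 3, 4, 2, 1, 5, 3, 2, 3, 4, 0, 1, 2, 0] (Cert.done [0, 2, 1, 0, 3, 4, 3, 2, 5, 1, 0, 2, 3, 4, 2, 1, 5, 3, 2, 3, 4, 0, 1, 2, 4, 5, 1, 0, 2, 1, 3, 2, 1, 3, 4, 2, 3, 2, 1, 5, 3, 4, 2, 3, 2, 0, 1, 0, 4, 5, 1, 5, 4, 2, 3, 2, 3, 0, 4, 6, 1, 0, 2, 1, 3, 2, 6, 1, 0, 1, 2, 3, 2, 1, 6, 2, 0])))),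
  (1, Cert.step [0, 1, 3, 2, 3, 4, 5, 1, 5, 4, 2, 3, 1, 0, 1] (Cert.step [2, 4, 3, 2, 1, 3, 2, 5, 1, 0, 2, 1, 0, 3, 1, 2, 3, 4] (Cert.fail))),
  (1, Cert.step [0, 1, 4, 3, 2, 5, 6, 1, 0, 5, 1, 0, 1, 6, 3, 2, 3, 4, 3, 2] (Cert.step [0, 5, 1, 0, 1, 2, 1, 0, 3, 2, 1, 4, 3, 2, 0, 1, 5, 4, 0] (Cert.fail))),
  (1, Cert.step [0, 6, 1, 0, 1, 6, 1, 5, 1, 6, 3, 2] (Cert.fail)),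
  (1, Cert.fail),
  (1, Cert.step [0, 2, 0] (Cert.step [4, 3, 2, 3, 5, 1, 0, 2, 1, 0, 3, 2, 1, 5, 3, 4, 3, 2, 3, 1, 2, 3, 4, 3, 1, 0, 1] (Cert.fail))),
  (1, Cert.step [0, 1, 0, 4, 5, 1, 5, 4, 2, 3, 2, 3] (Cert.fail)),
  (1, Cert.step [1, 0, 2, 1, 0, 4, 5, 1, 5, 4, 2, 3, 1, 2, 0] (Cert.step [1, 2, 3, 4, 3, 2, 3, 2, 4, 5, 1, 2, 0, 1, 5, 1, 2, 3, 2, 3, 4, 3, 2, 1] (Cert.fail))),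
  (1, Cert.step [0, 2, 3, 2, 4, 5, 1, 5, 4, 2, 3, 2, 3, 1, 2] (Cert.step [0, 2, 5, 1, 0, 2, 1, 3, 2, 3, 2, 4, 1, 5, 1, 0, 1, 2, 3, 2, 1, 5, 2, 0] (Cert.fail))),
  (1, Cert.step [0, 1, 3, 2, 4, 5, 1, 5, 4, 3, 2, 3, 1, 0] (Cert.step [0, 4, 3, 2, 1, 0, 1, 2, 3, 2, 5, 1, 4, 3, 2, 0, 1, 5, 3, 4, 1, 2] (Cert.fail))),
  (1, Cert.step [3, 2, 3, 5, 1, 2, 6, 1, 0, 5, 1, 0, 1, 6, 0] (Cert.step [1, 2, 3, 2, 1, 0, 5, 1, 0, 2, 1, 0, 3, 4, 3, 2, 3, 2, 1, 0, 1, 5, 0] (Cert.fail))),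
  (1, Cert.step [0, 6, 1, 0, 2, 1, 0, 3, 2, 1, 5, 2, 3, 2, 1, 6, 2] (Cert.step [1, 2, 3, 4, 5, 1, 0, 2, 3, 2, 1, 0, 1, 2, 3, 2, 1, 5, 4, 0] (Cert.fail))),
  (1, Cert.step [0, 1, 3, 2, 3, 4, 5, 1, 5, 4, 2, 3, 1, 0, 1, 2] (Cert.step [0, 2, 5, 1, 0, 2, 1, 3, 2, 3, 2, 4, 1, 5, 1, 0, 1, 2, 3, 2, 1, 5, 2, 0] (Cert.fail))),
  (1, Cert.fail),
  (1, Cert.step [3, 2, 4, 5, 1, 0, 2, 6, 5, 6, 3, 2, 1, 5, 4, 0] (Cert.step [1, 3, 4, 5, 1, 0, 2, 3, 4, 2, 3, 1, 2, 0, 1, 5, 2, 3, 2, 3, 1, 2] (Cert.fail))),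
  (1, Cert.step [0, 3, 2, 3, 4, 5, 1, 5, 4, 0, 1, 2, 0] (Cert.fail)),
  (1, Cert.step [5, 1, 0, 1, 2, 3, 2, 4, 1, 5, 4, 2, 3, 0, 1, 2] (Cert.step [4, 3, 2, 1, 3, 2, 5, 1, 2, 5, 3, 4, 0, 1, 2, 3, 2, 1, 5, 2, 3, 4, 2] (Cert.fail))),
  (1, Cert.step [0, 1, 0, 1, 2, 1, 3, 0, 1, 2, 0] (Cert.fail)),
  (1, Cert.step [0, 3, 2, 3, 4, 5, 1, 5, 4, 2, 3, 0, 1] (Cert.step [1, 2, 1, 3, 2, 1, 0, 1, 3, 4, 5, 1, 2, 3, 2, 0, 1, 5, 4] (Cert.fail))),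
  (1, Cert.step [3, 2, 3, 2, 4, 5, 1, 5, 4, 0, 1, 0] (Cert.fail)),
  (1, Cert.step [3, 2, 3, 5, 1, 2, 6, 1, 0, 5, 1, 0, 1, 6, 1, 2, 3, 2] (Cert.step [3, 2, 5, 1, 0, 1, 2, 3, 2, 1, 0, 3, 4, 1, 2, 3, 2, 1, 5, 3, 1] (Cert.fail))),
  (1, Cert.fail),
  (1, Cert.step [1, 0, 2, 6, 1, 0, 1, 6, 1, 5, 1, 6, 3, 1] (Cert.step [2, 3, 4, 3, 2, 1, 0, 5, 2, 3, 1, 0, 1, 2, 3, 4, 2, 3, 2, 1] (Cert.fail))),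
  (1, Cert.step [3, 2, 3, 5, 1, 2, 6, 1, 0, 5, 1, 0, 1, 6, 1, 2, 3, 1, 2] (Cert.step [2, 1, 3, 2, 3, 4, 5, 1, 0, 1, 2, 3, 1, 2, 0, 1, 5, 4, 0] (Cert.fail))),
  (1, Cert.step [3, 2, 3, 2, 4, 5, 1, 5, 4, 0, 1, 2, 0] (Cert.step [1, 4, 3, 5, 1, 2, 3, 2, 1, 4, 3, 0, 1, 2, 3, 2, 1, 5, 4, 0, 1, 2] (Cert.fail))),
  (1, Cert.step [0, 6, 1, 0, 2, 1, 0, 3, 2, 1, 5, 2, 3, 2, 1, 6] (Cert.step [0, 2, 3, 4, 5, 1, 0, 2, 3, 2, 1, 0, 2, 1, 5, 4, 3, 2, 3, 1, 2, 3, 4, 3, 0, 1] (Cert.fail))),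
  (1, Cert.fail),
  (1, Cert.step [1, 0, 3, 2, 3, 4, 5, 1, 2, 0, 1, 0, 1, 5, 4] (Cert.step [0, 1, 0, 1, 4, 3, 2, 3, 4, 1, 2, 3, 2, 1, 0, 1, 5, 2, 1, 0, 1, 2, 0] (Cert.fail))),
  (1, Cert.step [1, 0, 1, 2, 6, 1, 5, 1, 6, 1, 0, 1, 6, 0, 1] (Cert.step [4, 3, 2, 1, 3, 0, 1, 2, 0, 1, 5, 2, 3, 1, 2, 3, 4, 2] (Cert.fail))),
  (1, Cert.step [3, 2, 1, 2, 0, 1] (Cert.step [2, 5, 1, 0, 1, 2, 3, 2, 1, 5, 1, 4, 3, 2, 3, 4, 0, 1, 2, 3, 0, 1, 2, 1] (Cert.fail))),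
  (1, Cert.step [1, 3, 2, 3, 2, 4, 5, 1, 2, 0, 1, 0, 1, 5, 4] (Cert.step [1, 2, 3, 2, 4, 3, 2, 1, 0, 1, 3, 2, 5, 0, 1, 2, 3, 4, 3, 2] (Cert.fail))),
  (1, Cert.step [0, 1, 3, 2, 1, 0, 1, 3, 0, 1, 2, 0, 1] (Cert.step [2, 3, 2, 4, 3, 5, 1, 2, 3, 2, 4, 3, 1, 5, 1, 2, 3, 0, 1, 2, 0, 1, 5, 4, 1, 2] (Cert.fail))),
  (1, Cert.step [0, 1, 3, 2, 3, 4, 5, 1, 2, 0, 1, 5, 4, 2, 3, 0] (Cert.step [4, 3, 2, 3, 5, 1, 0, 2, 1, 0, 3, 2, 1, 5, 3, 4, 3, 2, 3, 1, 2, 3, 4, 3, 1, 0, 1] (Cert.fail))),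
  (1, Cert.fail),
  (1, Cert.step [3, 2, 3, 2, 4, 5, 1, 2, 0, 1, 0, 1, 5, 4] (Cert.step [0, 2, 3, 4, 5, 1, 0, 1, 2, 1, 3, 2, 1, 0, 1, 5, 4, 3, 1, 2, 0, 1] (Cert.fail))),
  (1, Cert.step [3, 2, 4, 5, 1, 0, 2, 6, 5, 6, 3, 2, 1, 5, 4, 2, 0] (Cert.fail)),
  (1, Cert.step [1, 0, 3, 2, 3, 4, 5, 1, 2, 0, 1, 0, 1, 5, 4] (Cert.step [1, 3, 2, 4, 3, 2, 1, 0, 3, 2, 4, 3, 2, 1, 5, 1, 2, 3, 4, 3, 1, 2, 1] (Cert.fail))),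
  (1, Cert.step [1, 0, 1, 0, 3, 2, 3, 1, 0, 1, 2] (Cert.step [2, 3, 4, 5, 1, 0, 2, 1, 3, 2, 4, 1, 5] (Cert.fail))),
  (1, Cert.step [2, 1, 0, 1, 0, 3, 2, 3, 2, 3] (Cert.step [1, 3, 4, 5, 1, 0, 2, 3, 4, 2, 3, 1, 2, 0, 1, 5, 2, 3, 2, 3, 1, 2] (Cert.fail))),
  (1, Cert.step [1, 0, 4, 5, 1, 2, 3, 2, 1, 5, 4, 0] (Cert.fail)),
  (1, Cert.step [0, 1, 3, 2, 4, 5, 1, 5, 4, 3, 2, 3, 1, 0] (Cert.step [1, 5, 1, 2, 3, 4, 3, 2, 1, 5, 2, 1] (Cert.step [1, 2, 1, 0, 1, 3, 4, 3, 2, 1, 3, 2, 1, 4, 3, 0, 1, 2, 3, 4, 0, 1] (Cert.done [1, 2, 1, 0, 1, 3, 4, 3, 2, 1, 3, 2, 1, 4, 3, 0, 1, 2, 3, 4, 0, 5, 1, 2, 3, 4, 3, 2, 1, 5, 2, 1, 0, 1, 3, 2, 4, 5, 1, 5, 4, 3, 2, 3, 1, 4, 6, 1, 0, 5, 1, 0, 1, 6, 3])))),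
  (1, Cert.step [5, 1, 0, 1, 2, 3, 2, 4, 1, 5, 4, 2, 3, 0, 1, 2] (Cert.step [1, 0, 1, 3, 2, 3, 2, 4, 3, 1, 0, 1, 5, 2, 3, 4, 2, 3, 1, 2, 3, 0] (Cert.fail))),
  (1, Cert.fail),
  (2, Cert.step [0, 1, 0, 2, 3, 2, 6, 1, 0, 1, 6, 1, 5, 1, 6, 3] (Cert.fail)),
  (1, Cert.step [0, 3, 2, 4, 3, 2, 5, 1, 2, 1, 5, 1, 2, 3, 4, 2, 3, 1, 0] (Cert.step [1, 2, 1, 0, 3, 2, 1, 4, 3, 2, 3, 4, 1, 0, 1, 2, 0, 1] (Cert.fail))),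
  (1, Cert.step [0, 3, 2, 4, 5, 1, 0, 2, 1, 5, 4, 3, 2, 3, 1, 0] (Cert.fail)),
  (1, Cert.step [0, 1, 0, 4, 5, 1, 0, 2, 1, 5, 4, 2, 3, 2, 0, 1] (Cert.step [2, 1, 3, 2, 3, 2, 1, 5, 0, 1, 0, 1, 2, 0, 1] (Cert.fail))),
  (1, Cert.step [1, 0, 2, 1, 3, 2, 1, 0, 1, 2, 3, 1, 0] (Cert.step [3, 2, 1, 5, 1, 0, 1, 3, 2, 3, 4, 2, 3, 2, 1, 5, 1, 2, 0] (Cert.fail))),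
  (1, Cert.fail),
  (1, Cert.step [1, 0, 1, 0, 2, 3, 6, 1, 0, 1, 5, 0, 1, 6, 2, 1, 5, 3, 1, 0] (Cert.step [2, 1, 3, 2, 3, 2, 1, 5, 0, 1, 0, 1, 2, 0, 1] (Cert.fail))),
  (1, Cert.step [0, 1, 0, 4, 5, 1, 5, 4, 1, 2, 1, 0, 1, 0] (Cert.fail)),
  (1, Cert.step [3, 4, 3, 2, 5, 1, 2, 3, 4, 6, 5, 6, 2, 3, 1, 2, 3, 4, 2, 3, 2] (Cert.step [0, 1, 0, 3, 2, 1, 5, 1, 2, 3, 2, 1, 0, 3, 5, 4, 3, 1, 2, 0, 1, 5, 3, 2] (Cert.fail))),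
  (1, Cert.fail),
  (1, Cert.step [1, 3, 2, 4, 5, 1, 0, 2, 3, 4, 2, 3, 2, 1, 0, 1, 5, 0] (Cert.step [2, 1, 3, 2, 3, 2, 1, 5, 0, 1, 0, 1, 2, 0, 1] (Cert.fail))),
  (1, Cert.step [1, 0, 3, 2, 3, 1, 2, 1, 0, 1, 0] (Cert.step [0, 1, 0, 5, 1, 0, 2, 1, 0, 3, 2, 5, 4, 3, 1, 2, 3, 4, 3, 0, 1, 2, 3, 0] (Cert.fail))),
  (1, Cert.step [1, 0, 1, 2, 3] (Cert.step [5, 1, 4, 2, 3, 1, 2, 0, 1, 5, 4, 3, 2] (Cert.fail))),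
  (1, Cert.step [1, 0, 2, 6, 1, 0, 1, 6, 1, 5, 1, 6, 3, 2, 1] (Cert.step [1, 0, 1, 3, 4, 3, 2, 3, 2, 1, 0, 1, 4, 5, 3, 1, 2, 3, 4] (Cert.fail))),
  (1, Cert.fail),
  (1, Cert.step [1, 0, 3, 2, 4, 5, 1, 5, 4, 2, 3, 2, 3] (Cert.step [1, 0, 3, 2, 1, 4, 3, 2, 1, 3, 2, 4, 3, 2, 1, 5, 3, 0, 1, 2, 0, 1, 0, 1, 5] (Cert.fail))),
  (1, Cert.step [3, 2, 3, 2, 4, 5, 1, 5, 4, 0, 1, 2, 0] (Cert.step [0, 5, 1, 0, 2, 1, 5, 3, 2, 3, 4, 3, 2, 3, 0, 1, 2, 0, 1, 5, 0] (Cert.fail))),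
  (1, Cert.step [3, 2, 1, 3, 2, 4, 5, 1, 5, 4, 2, 3, 2, 3, 1] (Cert.step [0, 2, 1, 3, 2, 3, 2, 1, 0, 4, 3, 1, 2, 3, 1, 2, 0, 1, 5, 4, 1, 2, 3, 0, 1] (Cert.fail))),
  (1, Cert.step [1, 3, 2, 3, 2, 4, 5, 1, 5, 4, 0, 1, 2, 0, 1] (Cert.step [0, 5, 1, 0, 1, 2, 1, 3, 2, 4, 3, 2, 5, 1, 0, 1, 5, 4, 3, 2, 3, 1, 2] (Cert.fail))),
  (1, Cert.step [2, 4, 3, 5, 1, 0, 2, 1, 6, 5, 6, 2, 3, 1, 2, 3, 4, 2, 3] (Cert.step [2, 3, 2, 4, 5, 1, 0, 1, 2, 3, 2, 1, 0, 1, 5, 4, 2, 3, 2, 1] (Cert.fail))),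
  (1, Cert.step [0, 2, 1, 3, 2, 4, 5, 1, 5, 4, 2, 3, 2, 0] (Cert.step [0, 4, 3, 2, 1, 0, 1, 2, 3, 2, 5, 1, 4, 3, 2, 1, 5, 3, 4, 3, 2] (Cert.fail))),
  (1, Cert.step [0, 1, 0, 2, 3, 6, 1, 0, 1, 6, 1, 5, 1, 6, 1, 2, 1, 0, 1] (Cert.step [3, 2, 5, 1, 0, 1, 2, 3, 5, 2, 3, 4, 1, 2, 3, 2, 0, 1, 5] (Cert.fail))),
  (1, Cert.fail),
  (1, Cert.step [1, 3, 2, 3, 2, 4, 5, 1, 5, 4, 2, 3, 0, 1] (Cert.step [1, 0, 3, 2, 1, 3, 4, 3, 2, 3, 4, 1, 2, 0, 1, 5, 3, 1, 2, 3, 1, 0, 1, 2] (Cert.fail))),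
  (1, Cert.step [0, 3, 2, 3, 1, 2, 1, 0, 1, 0] (Cert.step [4, 5, 1, 0, 2, 3, 2, 1, 5, 4, 3, 1, 0, 1, 2, 3, 1, 2, 1] (Cert.fail))),
  (1, Cert.fail),
  (1, Cert.step [2, 1, 3, 2, 3, 2, 4, 5, 1, 5, 4, 3, 2, 3, 1, 0] (Cert.step [4, 3, 2, 1, 3, 5, 4, 1, 0, 1, 2, 3, 2, 3, 4, 3, 1, 0, 1] (Cert.fail))),
  (1, Cert.step [0, 3, 2, 3, 2, 3, 1, 2, 0, 1] (Cert.step [0, 1, 5, 1, 0, 1, 2, 5, 1, 3, 4, 2, 3, 2, 1, 0, 1, 5, 2, 3, 2, 3] (Cert.fail))),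
  (1, Cert.step [0, 3, 2, 3, 0, 1, 2, 0, 1, 0] (Cert.step [0, 3, 2, 1, 3, 4, 3, 2, 3, 2, 4, 1, 2, 3, 0, 1, 0, 1, 2, 3] (Cert.fail))),
  (1, Cert.fail),
  (1, Cert.step [0, 6, 1, 0, 2, 1, 0, 3, 2, 1, 5, 2, 3, 2, 1, 6, 1, 2] (Cert.step [4, 5, 1, 0, 1, 2, 3, 4, 0, 1, 2, 3, 2, 1, 5, 0, 1, 2, 3, 4, 2, 3] (Cert.fail))),
  (1, Cert.step [0, 2, 1, 3, 4, 3, 5, 1, 0, 1, 3, 2, 3, 1, 2, 0, 1, 5, 4, 0] (Cert.step [1, 3, 4, 5, 1, 0, 2, 3, 4, 2, 3, 1, 2, 0, 1, 5, 2, 3, 2, 3, 1, 2] (Cert.fail))),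
  (1, Cert.step [0, 3, 2, 3, 4, 5, 1, 5, 4, 2, 3, 0, 1] (Cert.step [4, 3, 2, 1, 3, 2, 5, 1, 2, 5, 3, 4, 0, 1, 2, 3, 2, 1, 5, 2, 3, 4, 2] (Cert.fail))),
  (1, Cert.fail),
  (1, Cert.step [3, 2, 3, 2, 4, 5, 1, 5, 4, 0, 1, 2, 0, 1] (Cert.step [0, 4, 3, 2, 1, 0, 1, 2, 3, 2, 5, 1, 4, 3, 2, 1, 5, 3, 4, 3, 2] (Cert.fail))),
  (1, Cert.fail),
  (1, Cert.step [0, 6, 1, 0, 1, 6, 1, 5, 1, 6, 3, 1] (Cert.step [3, 2, 4, 3, 2, 5, 1, 3, 4, 2, 3, 2, 0, 1, 5, 2, 3, 4, 3, 2, 3] (Cert.fail))),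
  (1, Cert.step [0, 3, 2, 3, 2, 3, 1, 0] (Cert.step [0, 2, 3, 2, 1, 4, 3, 2, 1, 5, 1, 3, 2, 0, 1, 5, 4, 0, 1, 0] (Cert.fail))),
  (1, Cert.step [0, 3, 2, 3, 0, 1, 2, 0, 1, 0] (Cert.step [0, 2, 5, 1, 0, 2, 1, 3, 2, 3, 2, 4, 1, 5, 1, 0, 1, 2, 3, 2, 1, 5, 2, 0] (Cert.fail))),
  (1, Cert.step [0, 3, 2, 4, 5, 1, 2, 0, 1, 5, 4, 2, 3, 0] (Cert.step [1, 2, 3, 4, 5, 1, 0, 2, 3, 2, 1, 0, 1, 2, 3, 2, 1, 5, 4, 0] (Cert.fail))),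
  (1, Cert.step [0, 1, 3, 2, 4, 5, 1, 5, 4, 0, 1, 0, 1] (Cert.fail)),
  (1, Cert.step [0, 1, 0, 4, 5, 1, 2, 0, 1, 5, 4, 2, 3, 0] (Cert.step [1, 0, 2, 1, 0, 1, 0, 5, 1, 2, 3, 2, 3, 1, 2] (Cert.fail))),
  (1, Cert.fail),
  (1, Cert.step [2, 1, 0, 1, 2, 3] (Cert.step [0, 2, 5, 1, 0, 2, 1, 3, 2, 3, 2, 4, 5, 3, 2, 3, 1, 2, 0, 1, 5, 3, 2, 0] (Cert.fail))),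
  (1, Cert.step [3, 2, 3, 5, 1, 2, 6, 1, 0, 5, 1, 0, 1, 6, 2, 0] (Cert.step [1, 0, 3, 2, 1, 4, 3, 2, 3, 2, 1, 4, 5, 2, 0, 1, 5, 2, 3, 0] (Cert.fail))),
  (1, Cert.step [0, 1, 0, 3, 4, 5, 1, 5, 4, 2, 3, 0, 1, 2] (Cert.step [0, 3, 2, 1, 3, 4, 3, 2, 3, 2, 4, 1, 2, 3, 0, 1, 0, 1, 2, 3] (Cert.fail))),
  (1, Cert.step [0, 1, 0, 4, 5, 1, 5, 4, 2, 3, 1, 2, 0, 1] (Cert.step [0, 2, 3, 4, 5, 1, 0, 1, 2, 1, 0, 3, 2, 1, 5, 4, 3, 2, 0, 1, 0, 1, 5, 2, 3, 2, 0] (Cert.fail))),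
  (1, Cert.step [1, 0, 2, 4, 5, 1, 2, 3, 2, 1, 5, 4, 3, 2, 0, 1, 0] (Cert.step [0, 3, 4, 5, 1, 0, 1, 2, 3, 4, 5, 2, 0, 1, 0, 1, 5, 2, 3, 2, 3] (Cert.step [3, 4, 3, 2, 1, 0, 3, 2, 3, 5, 1, 2, 3, 2, 1, 5, 4, 3, 2, 3, 0, 1, 2, 3, 4, 3] (Cert.done [3, 4, 3, 2, 1, 0, 3, 2, 3, 5, 1, 2, 3, 2, 1, 5, 4, 3, 2, 3, 0, 1, 2, 3, 4, 3, 0, 3, 4, 5, 1, 0, 1, 2, 3, 4, 5, 2, 0, 1, 0, 1, 5, 2, 3, 2, 3, 1, 0, 2, 4, 5, 1, 2, 3, 2, 1, 5, 4, 3, 2, 0, 1, 4, 6, 1, 2, 3, 2, 1, 0, 3, 5, 1, 0, 2, 1, 6, 5, 1, 2, 3, 2, 1, 0, 1, 6])))),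
  (1, Cert.fail),
  (1, Cert.step [1, 0, 4, 5, 1, 2, 6, 5, 6, 3, 4, 3, 2, 3, 2, 1, 5, 0] (Cert.step [2, 3, 2, 1, 0, 4, 3, 2, 3, 4, 5, 1, 5, 0, 1, 2, 3, 2, 3, 4, 3, 1, 2, 0] (Cert.fail))),
  (1, Cert.step [1, 0, 2, 4, 5, 1, 2, 3, 2, 1, 5, 4, 3, 2, 0, 1, 0] (Cert.fail)),
  (1, Cert.step [0, 1, 3, 2, 3, 4, 5, 1, 5, 4, 2, 3, 1, 2, 0, 1] (Cert.step [0, 1, 3, 2, 1, 3, 5, 1, 0, 1, 2, 3, 0, 1, 2, 0, 1, 0, 1] (Cert.fail))),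
  (1, Cert.fail),
  (1, Cert.step [1, 0, 3, 2, 3, 1, 0, 1, 2, 3, 1, 0] (Cert.fail)),
  (1, Cert.fail),
  (1, Cert.step [3, 4, 3, 2, 5, 1, 2, 3, 4, 6, 5, 6, 2, 3, 1, 2, 3, 4, 2, 3] (Cert.step [4, 3, 2, 3, 4, 5, 1, 0, 2, 3, 4, 1, 0, 1, 5, 2, 3, 4, 0, 1, 0, 1] (Cert.fail))),
  (1, Cert.step [0, 1, 2, 4, 3, 2, 3, 6, 1, 0, 1, 5, 0, 1, 6, 5, 2, 3, 4, 2, 3, 2] (Cert.step [0, 4, 5, 1, 0, 2, 3, 2, 4, 3, 1, 2, 3, 4, 2, 3, 1, 2, 0, 1, 5, 1, 2] (Cert.fail))),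
  (1, Cert.step [0, 1, 0, 1, 2, 1, 3, 2, 3, 0] (Cert.step [1, 2, 3, 4, 3, 2, 3, 2, 4, 5, 1, 2, 0, 1, 5, 1, 2, 3, 2, 3, 4, 3, 2, 1] (Cert.step [] (Cert.done [1, 2, 3, 4, 3, 2, 3, 2, 4, 5, 1, 2, 0, 1, 5, 1, 2, 3, 2, 3, 4, 3, 2, 1, 0, 1, 0, 1, 2, 1, 3, 2, 3, 0, 4, 6, 1, 2, 3, 2, 1, 3, 2, 3, 5, 1, 6, 1, 5, 1, 2, 3, 1, 2, 0, 1, 6, 5])))),
  (1, Cert.step [1, 0, 1, 3, 2, 4, 5, 1, 5, 4, 2, 3, 2, 0] (Cert.step [3, 2, 1, 3, 2, 3, 2, 1, 0, 4, 5, 1, 2, 3, 4, 2, 3, 1, 2, 1, 0, 1, 5, 3] (Cert.fail))),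
  (1, Cert.step [0, 3, 2, 4, 5, 1, 0, 2, 1, 5, 4, 2, 3, 2, 0, 1] (Cert.step [0, 2, 3, 2, 1, 0, 4, 3, 2, 1, 0, 3, 2, 5, 3, 4, 3, 1, 2, 3, 2, 1, 5, 4, 1, 2] (Cert.fail))),
  (2, Cert.fail),
  (1, Cert.step [1, 0, 1, 2, 6, 1, 5, 1, 6, 1, 0, 1, 6, 0, 1] (Cert.step [4, 3, 2, 3, 5, 1, 0, 2, 1, 0, 3, 2, 1, 5, 3, 4, 3, 2, 3, 1, 2, 3, 4, 3, 1, 0, 1] (Cert.fail))),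
  (1, Cert.step [0, 6, 1, 2, 5, 1, 0, 1, 5, 2, 1, 6, 0] (Cert.step [0, 2, 1, 5, 1, 2, 3, 2, 4, 3, 2, 3, 1, 0, 1, 5, 1, 2, 3] (Cert.fail))),
  (1, Cert.step [0, 3, 2, 3, 4, 5, 1, 5, 4, 2, 3, 0] (Cert.step [1, 2, 3, 4, 3, 2, 3, 2, 4, 5, 1, 2, 0, 1, 5, 1, 2, 3, 2, 3, 4, 3, 2, 1] (Cert.fail))),
  (1, Cert.step [0, 1, 0, 3, 2, 3, 1, 2, 0] (Cert.step [2, 3, 2, 4, 5, 1, 0, 2, 1, 3, 2, 3, 2, 4, 1, 2, 3, 2, 1, 0, 1, 5, 0] (Cert.fail))),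
  (1, Cert.step [0, 2, 1, 3, 4, 3, 5, 1, 0, 1, 3, 2, 3, 1, 2, 0, 1, 5, 4, 0] (Cert.step [2, 1, 0, 3, 2, 5, 1, 2, 3, 4, 2, 3, 2, 1, 5, 3, 0, 1, 2, 3, 4, 2, 3] (Cert.fail))),
  (1, Cert.step [1, 0, 1, 2, 6, 1, 5, 1, 6, 1, 0, 1, 6, 0] (Cert.fail)),
  (1, Cert.step [0, 1, 3, 2, 3, 4, 5, 1, 5, 4, 2, 3, 1, 0, 1, 2] (Cert.step [1, 2, 1, 4, 5, 1, 0, 1, 5, 3, 2, 1, 0, 1, 2, 3, 4, 3, 2, 1] (Cert.fail))),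
  (1, Cert.step [0, 1, 0, 1, 2, 1, 3, 2, 3, 0, 1] (Cert.step [2, 1, 3, 5, 4, 1, 2, 3, 2, 1, 5, 4, 3, 2] (Cert.fail))),
  (1, Cert.step [3, 2, 3, 2, 4, 5, 1, 5, 4, 2, 3, 0] (Cert.step [3, 2, 4, 3, 2, 5, 1, 3, 4, 2, 3, 2, 0, 1, 5, 2, 3, 4, 3, 2, 3] (Cert.fail))),
  (1, Cert.fail),
  (1, Cert.step [2, 1, 6, 5, 1, 0, 2, 1, 0, 1, 3, 2, 1, 5, 3, 2, 1, 6, 2, 0, 1] (Cert.step [1, 0, 3, 2, 1, 4, 3, 2, 1, 3, 2, 4, 3, 2, 1, 5, 3, 0, 1, 2, 0, 1, 0, 1, 5] (Cert.fail))),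
  (1, Cert.step [1, 0, 1, 0, 4, 5, 1, 5, 4, 2, 3, 1, 0] (Cert.step [0, 5, 1, 0, 2, 1, 5, 3, 2, 3, 4, 3, 2, 3, 0, 1, 2, 0, 1, 5, 0] (Cert.fail))),
  (1, Cert.step [1, 0, 1, 0, 3, 4, 5, 1, 5, 4, 2, 3, 1, 2, 3] (Cert.step [0, 2, 5, 1, 2, 3, 2, 1, 0, 1, 5, 1, 4, 2, 3, 2, 3, 1, 2, 0, 1, 5, 2, 0] (Cert.fail))),
  (1, Cert.step [0, 2, 1, 3, 2, 4, 5, 1, 5, 4, 2, 3, 0] (Cert.step [1, 0, 2, 1, 3, 4, 5, 1, 0, 1, 2, 3, 1, 2, 1, 0, 1, 5, 4, 3, 2, 0] (Cert.fail))),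
  (1, Cert.step [0, 1, 0, 1, 2, 1, 3, 2, 3, 0, 1] (Cert.fail)),
  (1, Cert.fail),
  (1, Cert.step [1, 0, 1, 0, 2, 3, 6, 1, 0, 1, 5, 0, 1, 6, 2, 1, 5, 3, 1, 0] (Cert.fail)),
  (1, Cert.step [0, 1, 0, 3, 2, 3, 1, 0, 1, 2] (Cert.step [1, 2, 4, 5, 1, 2, 3, 2, 4, 3, 2, 1, 0, 1, 2, 3, 4, 3, 2, 3, 1, 2, 3, 2, 1, 5, 0] (Cert.fail))),
  (1, Cert.step [0, 1, 0, 3, 4, 5, 1, 5, 4, 2, 3, 0, 1, 2] (Cert.fail)),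
  (1, Cert.step [3, 4, 3, 2, 5, 1, 2, 3, 4, 6, 5, 6, 2, 3, 1, 2, 3, 4, 2, 3] (Cert.step [1, 0, 2, 1, 3, 4, 5, 1, 0, 1, 2, 3, 1, 2, 1, 0, 1, 5, 4, 3, 2, 0] (Cert.fail))),
  (1, Cert.step [0, 1, 0, 3, 2, 3, 2, 3, 1] (Cert.fail)),
  (1, Cert.step [1, 0, 1, 0, 3, 2, 3, 2, 3, 1] (Cert.fail)),
  (1, Cert.step [3, 2, 3, 2, 4, 5, 1, 5, 4, 2, 3, 1, 2, 3] (Cert.step [1, 0, 1, 3, 4, 3, 2, 3, 2, 1, 0, 1, 4, 5, 3, 1, 2, 3, 4] (Cert.fail))),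
  (1, Cert.step [0, 1, 3, 2, 4, 5, 1, 5, 4, 0, 1, 2, 0] (Cert.fail)),
  (1, Cert.step [3, 2, 1, 3, 2, 3, 2, 3, 1, 2, 0] (Cert.step [4, 3, 2, 3, 4, 5, 1, 0, 2, 3, 4, 1, 0, 1, 5, 2, 3, 4, 0, 1, 0, 1] (Cert.fail))),
  (1, Cert.step [3, 2, 1, 0, 1, 2] (Cert.step [2, 1, 3, 2, 3, 2, 1, 5, 0, 1, 0, 1, 2, 0, 1] (Cert.fail))),
  (2, Cert.fail),
  (1, Cert.step [1, 0, 3, 2, 3, 2, 1, 0, 1, 2, 1, 0] (Cert.step [0, 2, 3, 4, 5, 1, 0, 1, 2, 1, 3, 2, 1, 0, 1, 5, 4, 3, 1, 2, 0, 1] (Cert.step [2, 1, 3, 2, 5, 1, 0, 1, 0, 5, 4, 2, 3, 2, 1, 0, 1, 5, 4, 2, 3, 1, 2] (Cert.done [2, 1, 3, 2, 5, 1, 0, 1, 0, 5, 4, 2, 3, 2, 1, 0, 1, 5, 4, 2, 3, 1, 2, 0, 2, 3, 4, 5, 1, 0, 1, 2, 1, 3, 2, 1, 0, 1, 5, 4, 3, 1, 2,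 3, 2, 3, 2, 1, 0, 1, 2, 1, 4, 6, 1, 2, 3, 2, 1, 0, 5, 1, 2, 3, 6, 2, 3, 2, 1, 6, 5, 1, 2, 3, 2, 1, 6, 1])))),
  (1, Cert.step [1, 0, 1, 3, 2, 4, 5, 1, 5, 4, 3, 2, 3, 1, 0] (Cert.step [3, 2, 1, 3, 2, 3, 2, 1, 0, 4, 5, 1, 2, 3, 4, 2, 3, 1, 2, 1, 0, 1, 5, 3] (Cert.step [1, 2, 1, 0, 1, 3, 4, 3, 2, 1, 3, 2, 1, 4, 3, 0, 1, 2, 3, 4, 0, 1] (Cert.done [1, 2, 1, 0, 1, 3, 4, 3, 2, 1, 3, 2, 1, 4, 3, 0, 1, 2, 3, 4, 0, 1, 3, 2, 1, 3, 2, 3, 2, 1, 0, 4, 5, 1, 2, 3, 4, 2, 3, 1, 2, 1, 0, 1, 5, 3, 1, 0, 1, 3, 2, 4, 5, 1, 5, 4, 3, 2, 3, 1, 0, 4, 6, 1, 0, 1, 2, 3, 2, 5, 3, 2, 3, 2, 1, 6, 2, 0])))),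
  (1, Cert.step [1, 0, 2, 4, 5, 1, 2, 3, 2, 1, 5, 4, 3, 2, 0, 1, 0] (Cert.step [2, 3, 2, 4, 3, 5, 1, 2, 3, 2, 4, 3, 1, 5, 1, 2, 3, 0, 1, 2, 0, 1, 5, 4, 1, 2] (Cert.step [0, 1, 2, 1, 0, 1, 3, 2, 4, 5, 1, 2, 3, 4, 2, 1, 5, 3, 0, 1, 2, 3, 2, 1, 0, 1, 2, 3] (Cert.done [0, 1, 2, 1, 0, 1, 3, 2, 4, 5, 1, 2, 3, 4, 2, 1, 5, 3, 0, 1, 2, 3, 2, 1, 0, 1, 2, 3, 2, 3, 2, 4, 3, 5, 1, 2, 3, 2, 4, 3, 1, 5, 1, 2, 3, 0, 1, 2, 0, 1, 5, 4, 1, 2, 1, 0, 2, 4, 5, 1, 2, 3, 2, 1, 5, 4, 3, 2, 0, 1, 0, 4, 6, 1, 2, 3, 2, 1, 3, 2, 3, 5, 1, 6, 1, 5, 2, 3, 1, 2, 3, 2, 1, 6, 1])))),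
  (1, Cert.fail),
  (1, Cert.step [1, 3, 2, 3, 2, 4, 5, 1, 5, 4, 0, 1, 2, 0, 1] (Cert.step [1, 3, 2, 4, 3, 2, 1, 0, 3, 2, 4, 3, 2, 1, 5, 1, 2, 3, 4, 3, 1, 2, 1] (Cert.fail))),
  (1, Cert.step [0, 1, 0, 2, 3, 2, 6, 1, 0, 1, 6, 1, 5, 1, 6, 3, 2] (Cert.step [2, 5, 1, 0, 1, 2, 3, 2, 1, 5, 1, 4, 3, 2, 3, 4, 0, 1, 2, 3, 0, 1, 2, 1] (Cert.fail))),
  (1, Cert.step [0, 2, 1, 0, 3, 2, 3, 2, 3] (Cert.fail)),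
  (1, Cert.fail),
  (1, Cert.step [0, 1, 3, 2, 1, 0, 1, 4, 5, 1, 5, 4, 2, 3, 2, 0] (Cert.step [3, 2, 4, 3, 2, 5, 1, 4, 2, 3, 2, 0, 1, 5, 4, 3, 2, 3, 4, 2, 3] (Cert.fail))),
  (1, Cert.step [1, 0, 2, 6, 1, 0, 1, 6, 1, 5, 1, 6, 3, 2, 1] (Cert.step [1, 4, 3, 2, 3, 5, 1, 0, 1, 2, 3, 2, 1, 5, 4, 0, 1, 2, 3, 0, 1, 2, 3, 4, 1] (Cert.fail))),
  (1, Cert.step [1, 0, 1, 0, 3, 4, 5, 1, 5, 4, 2, 3, 0] (Cert.step [2, 3, 2, 4, 5, 1, 2, 3, 2, 1, 4, 3, 2, 1, 5, 0, 1, 0, 1, 2, 1] (Cert.fail))),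
  (1, Cert.step [0, 2, 1, 3, 2, 4, 5, 1, 5, 4, 2, 3, 0] (Cert.step [0, 3, 2, 1, 3, 4, 3, 2, 3, 2, 4, 1, 2, 3, 0, 1, 0, 1, 2, 3] (Cert.fail))),
  (1, Cert.fail),
  (1, Cert.step [1, 3, 2, 1, 0, 3, 4, 3, 2, 3, 1, 2, 3, 1, 2, 3, 4, 3] (Cert.fail)),
  (1, Cert.step [0, 3, 2, 3, 2, 1, 0, 1, 2, 1, 0] (Cert.step [3, 2, 4, 3, 2, 5, 1, 3, 4, 2, 3, 2, 0, 1, 5, 2, 3, 4, 3, 2, 3] (Cert.fail))),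
  (1, Cert.fail),
  (1, Cert.step [0, 1, 3, 2, 4, 3, 2, 1, 0, 2, 3, 4, 3, 1, 0] (Cert.fail)),
  (1, Cert.step [0, 1, 0, 3, 2, 3, 1, 2, 0] (Cert.step [0, 1, 3, 2, 1, 3, 5, 1, 0, 1, 2, 3, 0, 1, 2, 0, 1, 0, 1] (Cert.fail))),
  (1, Cert.fail),
  (1, Cert.step [0, 6, 1, 0, 1, 6, 1, 5, 1, 6, 3, 1, 2, 1] (Cert.fail)),
  (1, Cert.step [3, 2, 4, 5, 1, 0, 2, 3, 6, 5, 6, 2, 1, 5, 4, 3, 2, 0, 1, 0] (Cert.step [3, 2, 1, 0, 3, 5, 1, 0, 2, 3, 4, 3, 2, 1, 5, 0, 1, 2, 3] (Cert.fail))),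
  (1, Cert.step [2, 1, 0, 1, 2, 3] (Cert.step [0, 4, 3, 2, 1, 0, 1, 2, 3, 2, 5, 1, 4, 3, 2, 1, 5, 3, 4, 3, 2] (Cert.fail))),
  (1, Cert.step [1, 0, 4, 5, 1, 2, 6, 5, 6, 3, 4, 3, 2, 3, 2, 1, 5, 2, 0] (Cert.step [2, 1, 0, 1, 5, 2, 3, 4, 1, 2, 3, 2, 0, 1, 5, 4, 3] (Cert.fail))),
  (1, Cert.step [1, 0, 1, 0, 3, 2, 3, 1, 0, 1] (Cert.step [1, 2, 1, 4, 5, 1, 0, 1, 2, 3, 2, 3, 5, 4, 3, 1, 2, 3, 1, 0, 1, 2, 3, 4, 0] (Cert.step [0, 2, 1, 0, 4, 3, 2, 3, 5, 1, 2, 4, 3, 2, 0, 1, 5, 2, 3, 4, 3, 0, 1, 2, 0] (Cert.done [0, 2, 1, 0, 4, 3, 2, 3, 5, 1, 2, 4, 3, 2, 0, 1, 5, 2, 3, 4, 3, 0, 1, 2, 0, 1, 2, 1, 4, 5, 1, 0, 1, 2, 3, 2, 3, 5, 4, 3, 1, 2, 3, 1, 0, 1, 2, 3, 4, 0, 1, 0, 1, 0, 3, 2, 3, 1, 0, 1,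 0, 4, 6, 1, 2, 3, 2, 1, 3, 6, 5, 1, 0, 1, 5, 6, 1, 2, 3, 2, 1, 6, 4])))),
  (1, Cert.step [0, 6, 1, 2, 5, 1, 6, 3, 2, 1, 5, 3, 2, 1, 6, 0] (Cert.step [0, 2, 4, 3, 5, 1, 0, 1, 2, 3, 2, 5, 4, 3, 1, 2, 3, 2, 1, 5, 2, 3, 4, 2, 0] (Cert.fail))),
  (1, Cert.step [3, 2, 3, 2, 4, 5, 1, 5, 4, 0, 1, 2, 0, 1] (Cert.fail)),
  (1, Cert.step [1, 3, 2, 3, 2, 4, 3, 2, 5, 1, 2, 1, 5, 1, 2, 3, 4, 2, 3, 0] (Cert.step [2, 1, 0, 4, 5, 1, 2, 3, 2, 1, 0, 3, 4, 1, 2, 3, 2, 1, 5, 3, 4, 1] (Cert.fail))),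
  (1, Cert.step [1, 0, 4, 5, 1, 2, 6, 5, 6, 3, 2, 0, 1, 5, 4, 2, 3] (Cert.step [2, 1, 0, 1, 3, 2, 1, 3, 5, 1, 0, 2, 1, 4, 3, 2, 3, 4, 3, 1, 2, 3, 0, 1] (Cert.fail))),
  (1, Cert.step [0, 1, 6, 1, 0, 1, 2, 3, 2, 3, 1, 2, 3, 0, 1, 2, 0, 1, 6, 0] (Cert.fail)),
  (1, Cert.step [1, 0, 3, 2, 3, 4, 5, 1, 2, 0, 1, 0, 1, 5, 4] (Cert.step [4, 5, 1, 0, 2, 3, 2, 1, 5, 2, 3, 1, 2, 0, 1, 0, 1, 2, 3, 4] (Cert.fail))),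
  (1, Cert.step [0, 1, 3, 2, 1, 0, 1, 4, 5, 1, 5, 4, 2, 3, 1, 2, 3] (Cert.step [3, 2, 1, 0, 3, 5, 1, 0, 2, 3, 4, 3, 2, 1, 5, 0, 1, 2, 3] (Cert.fail))),
  (1, Cert.fail),
  (1, Cert.step [3, 2, 1, 3, 2, 3, 4, 5, 1, 5, 4, 0, 1, 0] (Cert.fail)),
  (1, Cert.step [1, 0, 4, 5, 1, 2, 3, 2, 1, 5, 4, 0] (Cert.step [4, 3, 2, 1, 3, 2, 1, 5, 1, 2, 3, 4, 2, 3, 0, 1, 2, 3, 2, 1, 5, 4, 3, 1, 2] (Cert.fail))),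
  (1, Cert.step [1, 0, 3, 2, 3, 4, 5, 1, 5, 4, 2, 3, 0, 1] (Cert.step [0, 3, 2, 1, 3, 4, 3, 2, 3, 2, 4, 1, 2, 3, 0, 1, 0, 1, 2, 3] (Cert.fail))),
  (1, Cert.step [0, 2, 1, 3, 2, 4, 5, 1, 5, 4, 2, 3, 2, 0] (Cert.step [2, 3, 4, 3, 5, 1, 2, 1, 5, 3, 4, 2, 3, 2, 1, 0, 1, 2, 3, 4, 0] (Cert.fail))),
  (1, Cert.step [1, 0, 4, 5, 1, 2, 6, 5, 6, 3, 2, 0, 1, 5, 4, 2, 3, 2] (Cert.step [0, 1, 2, 1, 3, 2, 1, 3, 2, 4, 0, 1, 5, 3, 2, 3, 4, 1, 2, 3, 1, 0, 1] (Cert.fail))),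
  (1, Cert.step [0, 1, 2, 3, 2, 1, 4, 6, 1, 2, 3, 5, 1, 5, 6, 2, 1, 5, 3, 2, 1, 6, 4] (Cert.fail)),
  (1, Cert.step [1, 0, 6, 1, 2, 5, 1, 6, 3, 2, 1, 5, 3, 2, 1, 6, 2, 0, 1] (Cert.step [0, 4, 5, 1, 2, 3, 2, 1, 0, 1, 2, 3, 2, 0, 1, 5, 4, 3, 2, 1] (Cert.fail))),
  (1, Cert.step [0, 1, 0, 4, 5, 1, 4, 2, 3, 2, 1, 0, 1, 5] (Cert.step [2, 3, 4, 3, 5, 1, 2, 1, 5, 3, 4, 2, 3, 2, 1, 0, 1, 2, 3, 4, 0] (Cert.fail))),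
  (1, Cert.step [0, 1, 0, 1, 2, 1, 3, 0, 1, 2, 0] (Cert.fail)),
  (1, Cert.step [1, 0, 3, 2, 3, 4, 5, 1, 5, 4, 0, 1, 0] (Cert.step [2, 5, 1, 0, 1, 2, 3, 2, 1, 5, 1, 4, 3, 2, 3, 4, 0, 1, 2, 3, 0, 1, 2, 1] (Cert.fail))),
  (1, Cert.step [1, 3, 2, 1, 0, 3, 4, 3, 2, 3, 1, 2, 3, 1, 2, 3, 4, 3] (Cert.step [0, 1, 2, 1, 3, 2, 1, 3, 2, 4, 0, 1, 5, 3, 2, 3, 4, 1, 2, 3, 1, 0, 1] (Cert.fail))),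
  (1, Cert.fail),
  (1, Cert.step [1, 0, 4, 5, 1, 2, 6, 5, 6, 3, 2, 0, 1, 5, 4, 2, 3, 2] (Cert.step [2, 1, 0, 3, 2, 5, 1, 2, 3, 4, 2, 3, 2, 1, 5, 3, 0, 1, 2, 3, 4, 2, 3] (Cert.fail))),
  (1, Cert.step [0, 6, 1, 0, 2, 1, 0, 3, 2, 1, 5, 2, 3, 2, 1, 6, 1, 2, 1] (Cert.fail)),
  (1, Cert.step [2, 1, 0, 1, 2, 3] (Cert.fail)),
  (1, Cert.step [1, 0, 3, 2, 4, 5, 1, 5, 4, 2, 3, 2, 3] (Cert.step [4, 3, 2, 1, 3, 0, 1, 2, 0, 1, 5, 2, 3, 1, 2, 3, 4, 2] (Cert.fail))),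
  (1, Cert.step [0, 3, 2, 3, 4, 5, 1, 5, 4, 0, 1, 0] (Cert.step [2, 3, 5, 1, 0, 1, 2, 1, 3, 2, 3, 4, 3, 2, 1, 5, 2, 1, 0, 1, 2] (Cert.fail))),
  (1, Cert.fail),
  (1, Cert.step [1, 3, 2, 3, 2, 4, 5, 1, 5, 4, 0, 1, 2, 0, 1] (Cert.fail)),
  (1, Cert.fail),
  (1, Cert.step [1, 0, 3, 2, 3, 4, 5, 1, 2, 0, 1, 0, 1, 5, 4] (Cert.step [0, 1, 4, 3, 2, 1, 0, 1, 5, 2, 3, 1, 2, 3, 4, 3, 2] (Cert.fail))),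
  (1, Cert.step [1, 0, 1, 0, 3, 2, 3, 2, 3, 1] (Cert.fail)),
  (1, Cert.step [3, 2, 3, 2, 4, 5, 1, 5, 4, 0, 1, 2, 0] (Cert.step [0, 5, 1, 0, 2, 1, 5, 2, 3, 1, 2, 1, 0, 1, 5, 0] (Cert.fail))),
  (1, Cert.fail),
  (1, Cert.step [0, 3, 2, 4, 5, 1, 0, 2, 1, 5, 4, 3, 2, 3, 1, 0] (Cert.step [0, 1, 0, 2, 1, 4, 3, 2, 3, 2, 1, 0, 1, 5, 4, 3, 1, 2, 3, 4, 1] (Cert.fail))),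
  (1, Cert.step [1] (Cert.fail)),
  (1, Cert.step [0, 3, 2, 4, 5, 1, 5, 4, 1, 0, 1, 2, 3, 1, 0] (Cert.step [2, 3, 2, 1, 4, 3, 2, 1, 3, 2, 1, 0, 5, 1, 4, 3, 2, 3, 0, 1, 2, 3, 0, 1, 2, 3, 4, 0] (Cert.step [0, 2, 1, 0, 3, 4, 3, 2, 5, 1, 0, 2, 3, 4, 2, 1, 5, 3, 2, 3, 4, 0, 1, 2, 0] (Cert.done [0, 2, 1, 0, 3, 4, 3, 2, 5, 1, 0, 2, 3, 4, 2, 1, 5, 3, 2, 3, 4, 0, 1, 2, 0, 2, 3, 2, 1, 4, 3, 2, 1, 3, 2, 1, 0, 5, 1, 4, 3, 2, 3, 0, 1, 2, 3, 0, 1, 2, 3, 4, 3, 2, 4, 5, 1, 5, 4, 1, 0, 1, 2, 3, 6, 1, 2, 3, 2, 1, 3, 4, 6, 5, 1, 2, 3, 2, 1, 5, 6, 4, 3, 1, 2, 3, 2, 1, 6, 0])))),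
  (1, Cert.step [0, 1, 0, 1, 2, 1, 3, 2, 3, 0] (Cert.step [0, 1, 4, 3, 2, 1, 0, 1, 5, 2, 3, 1, 2, 3, 4, 3, 2] (Cert.fail))),
  (1, Cert.step [3, 2, 3, 4, 3, 5, 1, 0, 1, 3, 2, 3, 1, 2, 0, 1, 5, 4, 2, 0] (Cert.step [0, 1, 0, 2, 1, 4, 3, 2, 3, 2, 1, 0, 1, 5, 4, 3, 1, 2, 3, 4, 1] (Cert.fail))),
  (1, Cert.step [0, 2, 1, 0, 2, 3, 1, 2, 3] (Cert.fail)),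
  (1, Cert.step [1, 0, 3, 2, 3, 1, 2, 1, 0, 1, 0] (Cert.step [2, 1, 0, 1, 5, 2, 3, 4, 1, 2, 3, 2, 0, 1, 5, 4, 3] (Cert.fail))),
  (1, Cert.step [0, 1, 3, 2, 4, 5, 1, 5, 4, 2, 3, 0, 1] (Cert.fail)),
  (1, Cert.step [0, 1, 3, 2, 1, 0, 1, 4, 5, 1, 5, 4, 2, 3, 2, 0, 1] (Cert.step [4, 3, 2, 3, 4, 5, 1, 0, 2, 3, 4, 1, 0, 1, 5, 2, 3, 4, 0, 1, 0, 1] (Cert.fail))),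
  (1, Cert.step [0, 1, 3, 2, 4, 3, 2, 1, 0, 2, 3, 4, 3, 1, 0] (Cert.step [1, 0, 1, 0, 4, 3, 2, 5, 1, 0, 1, 4, 3, 2, 0, 1, 5, 4, 3, 2, 3, 4] (Cert.fail))),
  (1, Cert.step [3, 2, 3, 2, 4, 5, 1, 5, 4, 2, 3, 2, 0, 1] (Cert.step [0, 2, 3, 5, 1, 0, 2, 1, 3, 2, 3, 5, 4, 2, 3, 2, 3, 1, 2, 0, 1, 5, 2, 0] (Cert.fail))),
  (3, Cert.fail),
  (1, Cert.step [1, 0, 1, 0, 4, 5, 1, 4, 2, 3, 2, 1, 0, 1, 5] (Cert.step [0, 2, 3, 5, 1, 0, 2, 1, 3, 2, 3, 5, 4, 2, 3, 2, 3, 1, 2, 0, 1, 5, 2, 0] (Cert.fail))),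
  (1, Cert.fail),
  (1, Cert.step [3, 2, 1, 3, 2, 3, 2, 3, 1, 0, 1] (Cert.step [1, 3, 5, 1, 2, 3, 2, 1, 4, 3, 0, 1, 2, 3, 2, 1, 0, 1, 5, 2, 3] (Cert.fail))),
  (1, Cert.step [3, 2, 1, 0] (Cert.step [1, 0, 1, 3, 2, 3, 2, 4, 3, 1, 0, 1, 5, 2, 3, 4, 2, 3, 1, 2, 3, 0] (Cert.fail))),
  (1, Cert.fail),
  (1, Cert.step [0, 3, 2, 3, 1, 0, 1, 2, 3, 1, 0] (Cert.step [2, 3, 2, 4, 5, 1, 2, 3, 2, 1, 4, 3, 2, 1, 5, 0, 1, 0, 1, 2, 1] (Cert.fail))),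
  (1, Cert.step [1, 3, 2, 3, 2, 4, 5, 1, 5, 4, 2, 3, 0] (Cert.step [3, 2, 5, 1, 0, 1, 2, 3, 2, 1, 0, 3, 4, 1, 2, 3, 2, 1, 5, 3, 1] (Cert.fail))),
  (1, Cert.step [0, 3, 2, 3, 2, 3, 1, 0, 1] (Cert.step [0, 2, 3, 4, 5, 1, 0, 2, 3, 2, 1, 0, 2, 1, 5, 4, 3, 2, 3, 1, 2, 3, 4, 3, 0, 1] (Cert.fail))),
  (1, Cert.step [1, 2] (Cert.fail)),
  (1, Cert.step [0, 3, 2, 3, 4, 5, 1, 5, 4, 2, 3, 0] (Cert.fail)),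
  (1, Cert.step [0, 1, 2, 4, 3, 2, 3, 6, 1, 0, 1, 6, 5, 1, 6, 4, 1, 2, 3, 2, 1, 5, 4, 2, 3, 0] (Cert.step [4, 3, 2, 3, 4, 5, 1, 0, 2, 3, 4, 1, 0, 1, 5, 2, 3, 4, 0, 1, 0, 1] (Cert.fail))),
  (1, Cert.fail),
  (1, Cert.step [3, 2, 1, 3, 2, 3, 2, 3, 1, 2, 0] (Cert.step [0, 2, 3, 5, 1, 0, 2, 1, 3, 2, 3, 5, 4, 2, 3, 2, 3, 1, 2, 0, 1, 5, 2, 0] (Cert.fail))),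
  (1, Cert.step [0, 1, 2, 3, 1] (Cert.step [] (Cert.fail))),
  (1, Cert.step [0, 1, 2, 3, 1] (Cert.step [2, 3, 2, 4, 5, 1, 2, 3, 2, 1, 4, 3, 2, 1, 5, 0, 1, 0, 1, 2, 1] (Cert.fail))),
  (1, Cert.step [1, 0, 2, 6, 1, 0, 1, 6, 1, 5, 1, 6, 3, 2, 1] (Cert.step [0, 1, 0, 4, 5, 1, 0, 2, 3, 1, 5, 1, 2, 3, 4, 1, 2, 3, 2, 0] (Cert.fail))),
  (1, Cert.step [0, 1, 0, 1, 2, 1, 2, 3, 2, 3, 1, 2] (Cert.step [0, 4, 5, 1, 2, 3, 2, 1, 0, 3, 4, 3, 1, 2, 3, 2, 1, 5, 4, 3, 1] (Cert.fail))),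
  (1, Cert.step [5, 1, 2, 3, 2, 1, 0, 1, 2, 3, 2, 1, 5] (Cert.step [2, 3, 4, 3, 2, 3, 2, 4, 5, 1, 0, 2, 1, 3, 5, 2, 3, 4, 3, 2, 3, 1, 0, 1] (Cert.fail))),
  (1, Cert.fail),
  (1, Cert.step [1, 2, 3, 2, 1, 6, 1, 0, 1, 6, 0, 1, 0, 1, 6, 2, 3, 2, 0] (Cert.step [1, 2, 3, 4, 5, 1, 0, 2, 3, 2, 1, 0, 1, 2, 3, 2, 1, 5, 4, 0] (Cert.fail))),
  (1, Cert.step [3, 2, 3, 5, 1, 2, 6, 1, 0, 5, 1, 0, 1, 6, 1, 2, 3, 2, 1] (Cert.step [1, 2, 1, 4, 5, 1, 0, 1, 2, 3, 2, 3, 5, 4, 3, 1, 2, 3, 1, 0, 1, 2, 3, 4, 0] (Cert.fail))),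
  (1, Cert.step [0, 1, 0, 1, 2, 1, 3, 0, 1, 0] (Cert.fail)),
  (2, Cert.fail),
  (1, Cert.step [1, 0, 2, 1, 3, 2, 1, 0, 1, 2, 3, 1, 0] (Cert.step [0, 2, 1, 5, 1, 2, 3, 2, 4, 3, 2, 3, 1, 0, 1, 5, 1, 2, 3] (Cert.fail))),
  (3, Cert.fail),
  (1, Cert.step [0, 6, 1, 0, 1, 6, 1, 5, 1, 6, 3, 1, 2, 1] (Cert.step [2, 3, 4, 5, 1, 0, 2, 1, 3, 2, 4, 1, 5] (Cert.fail))),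
  (1, Cert.step [0, 3, 2, 3, 4, 5, 1, 5, 4, 0, 1, 2, 0] (Cert.step [4, 3, 2, 1, 3, 2, 5, 1, 2, 5, 3, 4, 0, 1, 2, 3, 2, 1, 5, 2, 3, 4, 2] (Cert.fail))),
  (1, Cert.step [1, 0, 3, 2, 4, 5, 1, 4, 2, 3, 2, 1, 0, 1, 5] (Cert.step [0, 2, 3, 4, 5, 1, 0, 1, 2, 1, 0, 3, 2, 1, 5, 4, 3, 2, 0, 1, 0, 1, 5, 2, 3, 2, 0] (Cert.fail))),
  (2, Cert.fail),
  (1, Cert.step [0, 6, 1, 2, 5, 1, 6, 3, 2, 1, 5, 3, 2, 1, 6, 0] (Cert.step [3, 2, 5, 1, 0, 1, 2, 3, 2, 1, 0, 3, 4, 1, 2, 3, 2, 1, 5, 3, 1] (Cert.fail))),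
  (1, Cert.step [0, 6, 1, 0, 1, 6, 1, 5, 1, 6, 3, 1, 2, 1] (Cert.step [0, 3, 2, 1, 3, 4, 3, 2, 3, 2, 4, 1, 2, 3, 0, 1, 0, 1, 2, 3] (Cert.fail))),
  (1, Cert.step [1, 0, 1, 0, 4, 5, 1, 4, 2, 3, 2, 1, 0, 1, 5] (Cert.fail)),
  (1, Cert.step [0, 1, 3, 2, 1, 0, 1, 3, 2, 3, 0, 1, 2] (Cert.step [1, 0, 2, 1, 0, 1, 0, 5, 1, 2, 3, 2, 3, 1, 2] (Cert.fail))),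
  (1, Cert.step [5, 1, 0, 1, 2, 3, 2, 4, 1, 5, 4, 2, 3, 0, 1, 2] (Cert.step [0, 1, 0, 1, 4, 3, 2, 3, 4, 5, 2, 1, 0, 1, 2, 3, 2, 1, 5, 3, 1, 0, 1, 0] (Cert.fail))),
  (1, Cert.fail),
  (1, Cert.step [5, 1, 0, 1, 2, 3, 2, 4, 1, 5, 4, 2, 3, 0, 1, 2] (Cert.fail)),
  (1, Cert.step [0, 3, 2, 3, 1, 2, 0, 1, 0, 1, 0] (Cert.step [1, 0, 2, 1, 3, 4, 5, 1, 0, 1, 2, 1, 0, 3, 2, 1, 5, 4, 0, 1, 2] (Cert.fail))),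
  (1, Cert.step [0, 6, 1, 0, 1, 5, 0, 1, 6, 2, 1, 5, 3, 2, 3] (Cert.step [3, 2, 3, 5, 1, 0, 1, 2, 1, 3, 2, 1, 4, 3, 2, 1, 5, 3, 1, 2, 3, 2, 1, 0, 1] (Cert.fail))),
  (1, Cert.fail),
  (1, Cert.step [1, 3, 2, 3, 2, 4, 5, 1, 5, 4, 0, 1, 2, 0] (Cert.fail)),
  (1, Cert.step [0, 1, 4, 3, 2, 5, 6, 1, 0, 5, 1, 0, 1, 6, 3, 2, 3, 4, 3, 1] (Cert.step [0, 2, 1, 4, 3, 2, 1, 3, 4, 0, 1, 5, 0, 1, 2, 3, 4, 2, 1] (Cert.fail))),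
  (1, Cert.step [1, 0, 4, 5, 1, 2, 6, 5, 6, 3, 0, 1, 2, 0, 1, 5, 4, 2] (Cert.step [2, 5, 1, 0, 1, 2, 3, 2, 1, 5, 1, 4, 3, 2, 3, 4, 0, 1, 2, 3, 0, 1, 2, 1] (Cert.fail))),
  (1, Cert.step [0, 2, 3, 2, 4, 5, 1, 4, 2, 3, 2, 1, 0, 1, 5] (Cert.step [1, 2, 4, 5, 1, 2, 3, 2, 4, 3, 2, 1, 0, 1, 2, 3, 4, 3, 2, 3, 1, 2, 3, 2, 1, 5, 0] (Cert.fail))),
  (1, Cert.step [1, 0, 6, 1, 2, 5, 1, 6, 5, 3, 2, 1, 5, 3, 2, 1, 6, 0, 1, 2] (Cert.fail)),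
  (1, Cert.step [3, 4, 3, 2, 5, 1, 2, 3, 4, 6, 5, 6, 2, 3, 1, 2, 3, 4, 2, 3, 2] (Cert.step [3, 2, 5, 1, 0, 1, 2, 3, 2, 1, 0, 1, 4, 2, 3, 2, 1, 5, 3, 2, 1] (Cert.fail))),
  (1, Cert.step [0, 6, 1, 0, 2, 1, 0, 3, 2, 1, 5, 2, 3, 2, 1, 6, 1, 2] (Cert.fail)),
  (1, Cert.step [1, 0, 1, 0, 4, 5, 1, 4, 2, 3, 2, 1, 0, 1, 5] (Cert.step [0, 3, 4, 5, 1, 0, 1, 2, 3, 4, 5, 2, 0, 1, 0, 1, 5, 2, 3, 2, 3] (Cert.fail))),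
  (1, Cert.step [0, 1, 0, 3, 4, 5, 1, 5, 4, 2, 3, 0, 1] (Cert.fail)),
  (1, Cert.fail),
  (1, Cert.step [0, 1, 2, 6, 1, 5, 1, 6, 1, 0, 1, 6, 0, 1] (Cert.step [1, 0, 3, 2, 1, 0, 5, 1, 0, 1, 2, 1, 4, 3, 2, 3, 4, 3, 1, 2, 3, 1, 2, 0] (Cert.fail))),
  (1, Cert.step [1, 3, 2, 1, 0, 3, 4, 3, 2, 3, 1, 2, 3, 1, 2, 3, 4, 3] (Cert.step [1, 3, 4, 5, 1, 0, 2, 3, 4, 2, 3, 1, 2, 0, 1, 5, 2, 3, 2, 3, 1, 2] (Cert.fail))),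
  (1, Cert.step [0, 3, 2, 4, 5, 1, 0, 2, 1, 5, 4, 2, 3, 2, 0] (Cert.step [1, 2, 1, 0, 3, 2, 1, 4, 3, 2, 3, 4, 1, 0, 1, 2, 0, 1] (Cert.fail))),
  (1, Cert.step [3, 2, 3, 2, 4, 5, 1, 5, 4, 0, 1, 0] (Cert.step [0, 2, 4, 3, 5, 1, 0, 1, 2, 3, 2, 5, 4, 3, 1, 2, 3, 2, 1, 5, 2, 3, 4, 2, 0] (Cert.fail))),
  (2, Cert.fail),
  (1, Cert.step [0, 1, 0, 4, 5, 1, 2, 0, 1, 5, 4, 2, 3, 0] (Cert.fail)),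
  (1, Cert.fail),
  (1, Cert.step [0, 1, 4, 3, 2, 1, 3, 2, 6, 5, 6, 4, 3, 1, 2, 0, 1, 5, 3, 4, 2] (Cert.step [0, 4, 5, 1, 2, 3, 2, 1, 0, 3, 4, 3, 1, 2, 3, 2, 1, 5, 4, 3, 1] (Cert.fail))),
  (1, Cert.step [2, 1, 0, 1, 0, 3, 2, 3, 2, 3, 1] (Cert.step [2, 3, 4, 2, 3, 0, 1, 2, 3, 4, 0, 1, 2, 3, 2, 0] (Cert.fail))),
  (1, Cert.step [0, 1, 0, 1, 2, 1, 3, 0, 1, 2, 0, 1] (Cert.step [4, 3, 2, 1, 3, 5, 4, 1, 0, 1, 2, 3, 2, 3, 4, 3, 1, 0, 1] (Cert.fail))),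
  (1, Cert.step [1, 0, 1, 3, 2, 4, 5, 1, 5, 4, 2, 3, 0, 1] (Cert.step [3, 4, 3, 2, 3, 4, 6, 1, 0, 5, 1, 0, 1, 2, 6, 3, 1, 2, 1, 0, 1, 5, 2, 3, 4, 3, 2, 3] (Cert.fail))),
  (1, Cert.step [3, 2, 4, 5, 1, 0, 2, 3, 6, 5, 6, 2, 1, 5, 4, 3, 2, 0, 1, 0] (Cert.fail)),
  (1, Cert.step [1, 3, 2, 3, 2, 4, 5, 1, 5, 4, 0, 1, 0, 1] (Cert.step [0, 2, 5, 1, 0, 2, 1, 3, 2, 3, 2, 4, 5, 3, 2, 3, 1, 2, 0, 1, 5, 3, 2, 0] (Cert.fail))),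
  (1, Cert.step [2, 1, 3, 2, 3, 2, 4, 5, 1, 5, 4, 3, 2, 3, 1, 0] (Cert.fail)),
  (1, Cert.step [2, 1, 0, 1, 0, 3, 2, 3, 2, 3] (Cert.step [2, 1, 3, 5, 4, 1, 2, 3, 2, 1, 5, 4, 3, 2] (Cert.fail))),
  (1, Cert.step [1, 0, 3, 2, 3, 4, 5, 1, 5, 4, 0, 1, 0] (Cert.fail)),
  (1, Cert.step [0, 2, 1, 3, 4, 3, 5, 1, 0, 1, 3, 2, 3, 1, 2, 0, 1, 5, 4, 0] (Cert.fail)),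
  (1, Cert.step [0, 6, 1, 0, 1, 5, 0, 1, 6, 2, 1, 5, 3, 2, 3] (Cert.fail)),
  (1, Cert.step [0, 1, 0, 3, 4, 5, 4, 2, 3, 2, 1, 0, 1, 5] (Cert.step [4, 3, 2, 3, 4, 5, 1, 0, 2, 3, 4, 1, 0, 1, 5, 2, 3, 4, 0, 1, 0, 1] (Cert.fail))),
  (1, Cert.step [0, 6, 1, 2, 3, 5, 1, 2, 3, 6, 0, 1, 5, 2, 1, 6, 1, 2, 3] (Cert.step [2, 1, 3, 2, 3, 4, 5, 1, 0, 1, 2, 3, 1, 2, 0, 1, 5, 4, 0] (Cert.fail))),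
  (1, Cert.fail),
  (1, Cert.step [1, 0, 3, 2, 3, 2, 1, 0, 1, 2, 1, 0] (Cert.step [2, 3, 4, 3, 2, 3, 2, 4, 5, 1, 0, 2, 1, 3, 5, 2, 3, 4, 3, 2, 3, 1, 0, 1] (Cert.fail))),
  (1, Cert.step [0, 1, 2, 6, 1, 5, 1, 6, 1, 0, 1, 6, 0] (Cert.step [1, 2, 4, 3, 2, 1, 0, 5, 1, 0, 4, 3, 1, 2, 3, 4, 1, 2, 0] (Cert.fail))),
  (1, Cert.fail),
  (1, Cert.step [2, 1, 0, 6, 1, 2, 5, 1, 6, 3, 2, 1, 5, 3, 2, 1, 6, 0, 1] (Cert.step [4, 3, 2, 3, 2, 1, 0, 4, 1, 2, 3, 1, 2, 3, 4, 3, 1, 0, 1] (Cert.fail))),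
  (1, Cert.step [1, 0, 1, 3, 2, 4, 5, 1, 5, 4, 2, 3, 0, 1] (Cert.step [2, 1, 3, 2, 3, 4, 5, 1, 0, 1, 2, 3, 1, 2, 0, 1, 5, 4, 0] (Cert.fail))),
  (1, Cert.step [1, 3, 2, 3, 2, 4, 5, 1, 5, 4, 2, 3, 0] (Cert.step [3, 2, 3, 5, 1, 0, 1, 2, 1, 3, 5, 4, 2, 3, 0, 1, 2, 1, 0, 1, 5, 3, 2, 3] (Cert.fail))),
  (1, Cert.step [0, 1, 3, 2, 3, 4, 5, 1, 5, 4, 2, 3, 1, 2, 0] (Cert.step [2, 1, 0, 1, 2, 5, 1, 2, 3, 4, 3, 2, 3, 1, 2, 1, 0, 1, 5, 3, 2] (Cert.fail))),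
  (1, Cert.step [0, 3, 2, 3, 4, 5, 1, 5, 4, 0, 1, 0, 1, 2] (Cert.step [2, 1, 0, 1, 2, 5, 1, 2, 3, 4, 3, 2, 1, 5, 3, 1, 2, 1] (Cert.fail))),
  (1, Cert.step [0, 6, 1, 2, 5, 1, 6, 3, 2, 1, 5, 3, 2, 1, 6, 0] (Cert.step [1, 0, 2, 1, 0, 1, 0, 5, 1, 2, 3, 2, 3, 1, 2] (Cert.fail))),
  (1, Cert.step [0, 1, 4, 3, 5, 1, 0, 1, 2, 3, 2, 1, 0, 1, 5, 3, 4, 3, 1, 2, 0, 1] (Cert.fail)),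
  (1, Cert.step [0, 1, 0, 4, 5, 1, 0, 2, 1, 5, 4, 2, 3, 2, 0] (Cert.step [0, 3, 2, 1, 3, 2, 4, 3, 2, 5, 1, 0, 1, 3, 4, 2, 3, 2, 3, 1, 0, 1] (Cert.fail))),
  (1, Cert.step [1, 0, 2, 4, 5, 1, 2, 3, 2, 1, 5, 4, 3, 2, 0, 1, 0] (Cert.step [1, 0, 2, 1, 0, 1, 4, 3, 2, 1, 5, 3, 4, 3, 2, 3, 2, 1, 0, 1, 5, 2] (Cert.fail))),
  (1, Cert.step [0, 3, 2, 3, 4, 5, 1, 5, 4, 2, 3, 0, 1, 2] (Cert.step [3, 2, 1, 0, 3, 5, 1, 0, 2, 3, 4, 3, 2, 1, 5, 0, 1, 2, 3] (Cert.fail))),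
  (1, Cert.step [0, 1, 0, 2, 3, 2, 6, 1, 0, 1, 6, 1, 5, 1, 6, 3, 1, 2] (Cert.step [1, 2, 3, 4, 3, 2, 3, 2, 4, 5, 1, 2, 0, 1, 5, 1, 2, 3, 2, 3, 4, 3, 2, 1] (Cert.fail))),
  (1, Cert.step [1, 0, 3, 2, 3, 4, 5, 1, 2, 0, 1, 0, 1, 5, 4] (Cert.step [0, 2, 5, 1, 2, 3, 2, 1, 0, 1, 5, 1, 4, 2, 3, 2, 3, 1, 2, 0, 1, 5, 2, 0] (Cert.fail))),
  (1, Cert.step [0, 1, 0, 4, 5, 1, 5, 4, 2, 3, 1, 2, 0] (Cert.step [1, 0, 3, 2, 1, 0, 5, 1, 0, 1, 2, 1, 4, 3, 2, 3, 4, 3, 1, 2, 3, 1, 2, 0] (Cert.fail))),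
  (1, Cert.step [1, 0, 5, 1, 2, 3, 2, 3, 4, 6, 5, 6, 3, 2, 1, 5, 4, 0, 1, 2] (Cert.fail)),
  (1, Cert.step [1, 0, 1, 0, 2, 3, 6, 1, 0, 1, 5, 0, 1, 6, 2, 1, 5, 3, 1, 0] (Cert.step [1, 0, 2, 1, 0, 1, 0, 5, 1, 2, 3, 2, 3, 1, 2] (Cert.fail))),
  (1, Cert.step [0, 6, 1, 0, 2, 1, 0, 3, 2, 1, 5, 2, 3, 2, 1, 6, 2] (Cert.fail)),
  (1, Cert.step [0, 1, 3, 2, 1, 0, 1, 4, 5, 1, 5, 4, 2, 3, 1, 2, 3] (Cert.step [2, 1, 0, 1, 5, 2, 3, 4, 1, 2, 3, 2, 0, 1, 5, 4, 3] (Cert.fail))),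
  (1, Cert.step [0, 1, 3, 2, 4, 5, 1, 5, 4, 2, 3, 0] (Cert.step [3, 2, 1, 3, 4, 5, 1, 0, 1, 2, 5, 3, 4, 2, 3, 2, 1, 0, 1, 5, 0, 1, 2] (Cert.fail))),
  (1, Cert.step [0, 1, 0, 2, 3, 1, 2, 3] (Cert.step [0, 3, 4, 3, 2, 5, 1, 0, 2, 3, 2, 1, 4, 5, 2, 1, 0, 1, 2, 3, 4, 2, 3, 0] (Cert.fail))),
  (1, Cert.step [2, 1, 0, 1, 3, 4, 3, 2, 0, 1, 2, 3, 4, 2, 3, 2, 3] (Cert.step [0, 2, 3, 2, 1, 4, 3, 2, 1, 5, 1, 3, 2, 0, 1, 5, 4, 0, 1, 0] (Cert.fail))),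
  (1, Cert.step [5, 1, 0, 1, 0, 2, 3, 4, 5, 4, 2, 3, 1, 0] (Cert.step [1, 0, 2, 1, 3, 4, 5, 1, 0, 1, 2, 1, 0, 3, 2, 1, 5, 4, 0, 1, 2] (Cert.fail))),
  (1, Cert.step [0, 3, 2, 3, 4, 5, 1, 5, 4, 0, 1, 0, 1, 2] (Cert.step [3, 2, 5, 1, 0, 1, 2, 3, 2, 1, 0, 3, 4, 1, 2, 3, 2, 1, 5, 3, 1] (Cert.fail))),
  (1, Cert.step [1, 0, 3, 2, 3, 4, 5, 1, 5, 4, 2, 3, 0] (Cert.step [2, 1, 3, 5, 4, 1, 2, 3, 2, 1, 5, 4, 3, 2] (Cert.fail))),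
  (1, Cert.step [1, 0, 6, 1, 2, 5, 1, 6, 3, 2, 1, 5, 3, 2, 1, 6, 0, 1, 2] (Cert.fail))]),
  (554, Cert.bad 0),
  (1, Cert.rl [(1, Cert.step [0, 1, 3, 2, 1, 0, 1, 3, 2, 3, 0, 1] (Cert.step [1, 0, 2, 1, 5, 3, 2, 1, 5, 2, 3, 2, 0, 1] (Cert.fail))),
  (1, Cert.step [0, 2, 1, 0, 3, 2, 3, 1, 0] (Cert.fail)),
  (1, Cert.step [1, 0, 1, 0, 3, 2, 3, 1, 0] (Cert.fail)),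
  (1, Cert.step [0, 1, 2, 6, 1, 5, 1, 6, 1, 0, 1, 6, 3, 2, 0, 1, 0] (Cert.fail)),
  (1, Cert.step [2, 1, 0, 6, 1, 2, 5, 1, 6, 3, 2, 1, 5, 3, 2, 1, 6, 0, 1] (Cert.step [0, 3, 2, 5, 1, 0, 2, 5, 4, 1, 2, 3, 2, 3, 4, 1, 2, 3, 0, 1] (Cert.fail))),
  (1, Cert.fail),
  (1, Cert.step [0, 2, 6, 1, 0, 2, 1, 0, 3, 2, 1, 5, 2, 3, 2, 1, 6, 1] (Cert.fail)),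
  (1, Cert.fail),
  (1, Cert.step [1, 0, 3, 2, 3, 4, 3, 2, 5, 1, 2, 3, 2, 1, 5, 0, 1, 2, 3, 4, 0] (Cert.step [0, 2, 5, 1, 0, 2, 1, 3, 2, 3, 2, 4, 1, 5, 1, 0, 1, 2, 3, 2, 1, 5, 2, 0] (Cert.fail))),
  (1, Cert.step [3, 2, 3, 2, 4, 5, 1, 5, 4, 0, 1, 0] (Cert.step [3, 2, 1, 3, 2, 3, 2, 1, 0, 4, 5, 1, 2, 3, 4, 2, 3, 1, 2, 1, 0, 1, 5, 3] (Cert.fail))),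
  (1, Cert.step [1, 3, 2, 3, 2, 4, 5, 1, 5, 4, 0, 1, 0] (Cert.fail)),
  (1, Cert.fail),
  (1, Cert.step [0, 1, 0, 4, 5, 1, 5, 4, 1, 2, 1, 0, 1, 0] (Cert.fail)),
  (1, Cert.step [3, 2, 1, 3, 2, 3, 0, 1, 2, 0, 1, 0] (Cert.fail)),
  (1, Cert.step [5, 1, 2, 3, 2, 1, 0, 1, 2, 3, 2, 1, 5] (Cert.step [3, 2, 3, 2, 5, 1, 0, 1, 0, 2, 5, 4, 3, 2, 1, 0, 1, 5, 4, 3, 0] (Cert.fail))),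
  (1, Cert.step [1, 0, 5, 1, 2, 3, 2, 3, 4, 6, 5, 6, 3, 2, 1, 5, 4, 0, 1, 2] (Cert.step [2, 1, 3, 4, 5, 1, 2, 3, 2, 1, 0, 3, 2, 4, 3, 2, 1, 5, 1, 2, 3, 1, 2, 3, 4] (Cert.fail))),
  (1, Cert.step [3, 2, 1, 3, 2, 3, 2, 3, 1, 2, 0] (Cert.step [0, 3, 2, 1, 3, 4, 3, 2, 3, 2, 4, 1, 2, 3, 0, 1, 0, 1, 2, 3] (Cert.fail))),
  (1, Cert.step [1, 0, 1, 0, 3, 2, 3, 1, 0] (Cert.step [2, 1, 3, 4, 5, 1, 2, 3, 2, 1, 0, 3, 2, 4, 3, 2, 1, 5, 1, 2, 3, 1, 2, 3, 4] (Cert.fail))),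
  (1, Cert.step [0, 6, 1, 0, 1, 6, 1, 5, 1, 6, 3, 1, 2, 1] (Cert.fail)),
  (1, Cert.fail),
  (1, Cert.step [0, 3, 2, 3, 4, 5, 1, 5, 4, 0, 1, 0] (Cert.step [4, 3, 2, 1, 3, 2, 1, 5, 1, 2, 3, 4, 2, 3, 0, 1, 2, 3, 2, 1, 5, 4, 3, 1, 2] (Cert.fail))),
  (1, Cert.fail),
  (1, Cert.step [1, 0, 4, 5, 1, 2, 3, 6, 5, 6, 4, 2, 3, 2, 1, 0, 1, 5, 2, 0] (Cert.step [0, 4, 5, 1, 0, 2, 3, 4, 1, 2, 3, 0, 1, 2, 1, 0, 1, 5, 0] (Cert.fail))),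
  (1, Cert.step [1, 0, 4, 5, 1, 2, 3, 6, 5, 6, 4, 2, 3, 2, 1, 0, 1, 5, 0] (Cert.step [3, 2, 5, 1, 0, 1, 2, 3, 2, 1, 0, 3, 4, 1, 2, 3, 2, 1, 5, 3, 1] (Cert.step [1, 0, 4, 3, 2, 1, 0, 3, 4, 1, 2, 3, 1, 2, 3, 4, 3, 1, 0, 1, 2, 1] (Cert.done [1, 0, 4, 3, 2, 1, 0, 3, 4, 1, 2, 3, 1, 2, 3, 4, 3, 1, 0, 1, 2, 1, 3, 2, 5, 1, 0, 1, 2, 3, 2, 1, 0, 3, 4, 1, 2, 3, 2, 1, 5, 3, 0, 4, 5, 1, 2, 3, 6, 5, 6, 4, 2, 3, 2, 1, 0, 1, 5, 0, 3, 4, 3, 6, 1, 0, 2, 1, 3, 2, 4, 3, 2, 5, 1, 0])))),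
  (1, Cert.step [0, 1, 4, 3, 2, 5, 6, 1, 0, 5, 1, 0, 1, 6, 3, 2, 3, 4, 3, 1, 2, 1] (Cert.step [0, 2, 3, 2, 1, 0, 4, 3, 2, 1, 0, 3, 2, 5, 3, 4, 3, 1, 2, 3, 2, 1, 5, 4, 1, 2] (Cert.fail))),
  (1, Cert.step [1, 0, 4, 5, 1, 2, 3, 6, 5, 6, 4, 2, 3, 2, 1, 0, 1, 5, 0] (Cert.step [0, 5, 1, 0, 2, 1, 5, 3, 2, 3, 4, 3, 2, 3, 0, 1, 2, 0, 1, 5, 0] (Cert.fail))),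
  (1, Cert.step [1, 0, 1, 3, 2, 4, 5, 1, 5, 4, 3, 2, 3, 1, 0] (Cert.fail)),
  (1, Cert.step [3, 2, 1, 3, 2, 3, 2, 3, 1, 2, 0] (Cert.step [0, 1, 0, 3, 2, 1, 5, 1, 2, 3, 2, 1, 0, 3, 5, 4, 3, 1, 2, 0, 1, 5, 3, 2] (Cert.fail))),
  (1, Cert.step [1, 0, 2, 6, 1, 0, 1, 6, 1, 5, 1, 6, 3, 2, 1] (Cert.step [0, 1, 0, 4, 5, 1, 0, 2, 3, 1, 5, 1, 2, 3, 4, 1, 2, 3, 2, 0] (Cert.fail))),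
  (1, Cert.step [1, 0, 5, 1, 2, 3, 4, 6, 1, 2, 3, 5, 1, 6, 2, 3, 1, 2, 0, 1, 0, 1, 6, 1, 5] (Cert.fail)),
  (1, Cert.step [0, 1, 3, 2, 3, 2, 3, 1, 2, 3] (Cert.step [1, 0, 2, 1, 0, 1, 4, 3, 2, 3, 4, 1, 2, 3, 0, 1, 2, 1] (Cert.fail))),
  (1, Cert.step [0, 6, 1, 2, 5, 1, 0, 1, 5, 2, 1, 6, 0] (Cert.step [0, 1, 0, 1, 4, 3, 2, 3, 2, 1, 0, 1, 4, 3, 2, 1, 0, 1, 5, 3, 1, 2, 3, 0] (Cert.fail))),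
  (1, Cert.fail),
  (1, Cert.step [0, 3, 2, 3, 0, 1, 0, 1, 2, 1, 0] (Cert.step [1, 5, 1, 0, 1, 0, 2, 1, 3, 2, 4, 3, 5, 1, 0, 1, 5, 2, 3, 4, 1, 2, 3, 0, 1] (Cert.fail))),
  (1, Cert.step [0, 1, 0, 2, 1, 0, 3, 2, 3, 1, 2, 3] (Cert.step [1, 2, 1, 0, 1, 0, 5, 1, 2, 3, 4, 1, 2, 3, 2, 1, 5, 4, 2, 3, 2] (Cert.fail))),
  (1, Cert.step [1, 0, 3, 2, 3, 4, 3, 2, 5, 1, 2, 3, 2, 1, 5, 0, 1, 2, 3, 4, 0] (Cert.fail)),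
  (1, Cert.step [1, 0, 6, 1, 2, 5, 1, 6, 3, 2, 1, 5, 3, 2, 1, 6, 2, 0, 1] (Cert.step [2, 3, 2, 4, 5, 1, 0, 1, 2, 3, 2, 1, 0, 1, 5, 4, 2, 3, 2, 1] (Cert.fail))),
  (1, Cert.fail),
  (1, Cert.step [1, 0, 1, 2, 6, 1, 5, 1, 6, 1, 0, 1, 6, 0, 1] (Cert.step [0, 5, 1, 0, 2, 1, 5, 2, 3, 1, 2, 1, 0, 1, 5, 0] (Cert.fail))),
  (1, Cert.step [1, 0, 1, 2, 6, 1, 5, 1, 6, 1, 0, 1, 6, 0] (Cert.step [0, 1, 5, 1, 0, 1, 2, 5, 1, 3, 4, 2, 3, 2, 1, 0, 1, 5, 2, 3, 2, 3] (Cert.fail))),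
  (1, Cert.step [0, 1, 2, 6, 1, 5, 1, 6, 1, 0, 1, 6, 3, 2, 0, 1, 0] (Cert.step [0, 5, 1, 0, 2, 1, 5, 3, 2, 3, 4, 3, 2, 3, 0, 1, 2, 0, 1, 5, 0] (Cert.fail))),
  (1, Cert.step [0, 1, 0, 1, 2, 1, 2, 3, 2, 3, 1, 2] (Cert.step [0, 2, 3, 5, 1, 0, 2, 1, 3, 2, 3, 5, 4, 2, 3, 2, 3, 1, 2, 0, 1, 5, 2, 0] (Cert.fail))),
  (1, Cert.fail),
  (1, Cert.step [1, 0, 4, 5, 1, 2, 6, 5, 6, 3, 2, 0, 1, 5, 4, 2, 3] (Cert.step [2, 3, 4, 2, 3, 0, 1, 2, 3, 4, 0, 1, 2, 3, 2, 0] (Cert.fail))),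
  (1, Cert.step [1, 0, 3, 2, 4, 5, 1, 4, 2, 3, 2, 1, 0, 1, 5] (Cert.fail)),
  (1, Cert.step [1, 6, 5, 1, 0, 2, 1, 0, 1, 3, 2, 0, 1, 5, 3, 2, 1, 6, 0] (Cert.fail)),
  (4, Cert.fail),
  (1, Cert.step [0, 1, 4, 3, 2, 5, 6, 1, 0, 5, 1, 0, 1, 6, 3, 2, 3, 4, 3, 1, 2, 1] (Cert.step [1, 0, 3, 2, 1, 3, 4, 3, 2, 3, 4, 1, 2, 0, 1, 5, 3, 1, 2, 3, 1, 0, 1, 2] (Cert.step [] (Cert.done [1, 0, 3, 2, 1, 3, 4, 3, 2, 3, 4, 1, 2, 0, 1, 5, 3, 1, 2, 3, 1, 0, 1, 2, 0, 1, 4, 3, 2, 5, 6, 1, 0, 5, 1, 0, 1, 6, 3, 2, 3, 4, 3, 1, 2, 1, 3, 4, 3, 0, 6, 1, 0, 2, 1, 3, 2, 4, 3, 2, 5, 1, 0])))),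
  (1, Cert.step [1, 3, 2, 3, 2, 4, 5, 1, 5, 4, 2, 3, 1, 2, 3] (Cert.fail)),
  (1, Cert.step [0, 1, 2, 4, 3, 2, 3, 6, 1, 0, 1, 6, 5, 1, 6, 4, 1, 2, 3, 2, 1, 5, 4, 2, 3, 0] (Cert.fail)),
  (1, Cert.step [1, 0, 4, 5, 1, 2, 3, 6, 5, 6, 4, 2, 3, 2, 1, 0, 1, 5, 2, 0] (Cert.step [0, 3, 2, 1, 3, 4, 3, 2, 3, 2, 4, 1, 2, 3, 0, 1, 0, 1, 2, 3] (Cert.step [0, 2, 1, 0, 3, 4, 3, 2, 5, 1, 0, 2, 3, 4, 2, 1, 5, 3, 2, 3, 4, 0, 1, 2, 0] (Cert.done [0, 2, 1, 0, 3, 4, 3, 2, 5, 1, 0, 2, 3, 4, 2, 1, 5, 3, 2, 3, 4, 0, 1, 2, 3, 2, 1, 3, 4, 3, 2, 3, 2, 4, 1, 2, 3, 0, 1, 0, 1, 2, 3, 1, 0, 4, 5, 1, 2, 3, 6, 5, 6, 4, 2, 3, 2, 1, 0, 1, 5, 2, 0, 3, 4, 5, 3, 0, 6, 1, 0, 2, 1, 3, 2, 4, 3, 2, 5, 1, 0])))),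
  (1, Cert.step [1, 0, 3, 2, 3, 4, 3, 2, 5, 1, 2, 3, 2, 1, 5, 0, 1, 2, 3, 4, 0] (Cert.step [1, 2, 1, 3, 2, 1, 0, 1, 3, 4, 5, 1, 2, 3, 2, 0, 1, 5, 4] (Cert.step [3, 4, 3, 2, 1, 0, 3, 2, 3, 5, 1, 2, 3, 2, 1, 5, 4, 3, 2, 3, 0, 1, 2, 3, 4, 3] (Cert.done [3, 4, 3, 2, 1, 0, 3, 2, 3, 5, 1, 2, 3, 2, 1, 5, 4, 3, 2, 3, 0, 1, 2, 3, 4, 3, 1, 2, 1, 3, 2, 1, 0, 1, 3, 4, 5, 1, 2, 3, 2, 0, 1, 5, 4, 1, 0, 3, 2, 3, 4, 3, 2, 5, 1, 2, 3, 2, 1, 5, 0, 1, 2, 3, 4, 0, 3, 4, 5, 3, 6, 1, 0, 2, 1, 3, 2, 4, 3, 2, 5, 1, 0])))),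
  (1, Cert.step [3, 2, 3, 2, 4, 5, 1, 5, 4, 2, 3, 1, 2, 3] (Cert.step [0, 2, 5, 1, 0, 2, 1, 3, 2, 3, 2, 4, 1, 5, 1, 0, 1, 2, 3, 2, 1, 5, 2, 0] (Cert.fail))),
  (1, Cert.step [0, 1, 0, 2, 1, 0, 3, 2, 3, 1, 2, 3] (Cert.step [1, 2, 3, 2, 1, 0, 5, 1, 0, 2, 1, 0, 3, 4, 3, 2, 3, 2, 1, 0, 1, 5, 0] (Cert.fail))),
  (1, Cert.fail),
  (1, Cert.step [0, 2, 3, 2, 4, 5, 1, 5, 4, 2, 3, 2, 3, 1, 2] (Cert.step [1, 5, 1, 0, 1, 0, 2, 1, 3, 2, 4, 3, 5, 1, 0, 1, 5, 2, 3, 4, 1, 2, 3, 0, 1] (Cert.fail))),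
  (1, Cert.step [1, 0, 1, 2, 6, 1, 5, 1, 6, 1, 0, 1, 6, 0, 1] (Cert.step [4, 3, 2, 3, 2, 1, 0, 4, 1, 2, 3, 1, 2, 3, 4, 3, 1, 0, 1] (Cert.fail))),
  (1, Cert.step [1, 0, 1, 2, 6, 1, 5, 1, 6, 1, 0, 1, 6, 0, 1] (Cert.step [0, 2, 1, 4, 3, 2, 1, 3, 4, 0, 1, 5, 0, 1, 2, 3, 4, 2, 1] (Cert.fail))),
  (1, Cert.step [0, 1, 2, 3, 4, 5, 1, 2, 3, 2, 1, 5, 4, 1, 2] (Cert.step [1, 0, 1, 3, 4, 3, 2, 3, 2, 1, 0, 1, 4, 5, 3, 1, 2, 3, 4] (Cert.fail))),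
  (1, Cert.step [0, 3, 2, 3, 4, 5, 1, 5, 4, 0, 1, 0, 1] (Cert.fail)),
  (1, Cert.step [1, 3, 2, 3, 2, 4, 5, 1, 2, 0, 1, 0, 1, 5, 4] (Cert.step [2, 3, 2, 3, 4, 3, 5, 1, 0, 2, 1, 3, 4, 5, 2, 0, 1, 0, 1, 5, 2, 3, 4] (Cert.fail))),
  (1, Cert.step [0, 1, 3, 2, 4, 5, 1, 5, 4, 2, 3, 2, 0, 1] (Cert.step [0, 1, 2, 1, 3, 2, 1, 3, 2, 4, 0, 1, 5, 3, 2, 3, 4, 1, 2, 3, 1, 0, 1] (Cert.fail))),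
  (1, Cert.step [0, 1, 3, 2, 3, 4, 5, 1, 2, 0, 1, 5, 4, 2, 3, 0] (Cert.fail)),
  (1, Cert.step [0, 1, 0, 3, 2, 3, 1, 0, 1, 2] (Cert.step [2, 1, 0, 3, 2, 5, 1, 2, 3, 4, 2, 3, 2, 1, 5, 3, 0, 1, 2, 3, 4, 2, 3] (Cert.fail))),
  (1, Cert.step [0, 1, 3, 2, 1, 0, 1, 3, 2, 3, 0] (Cert.fail)),
  (1, Cert.step [0, 2, 1, 0, 2, 3, 1, 2, 3] (Cert.step [2, 1, 0, 4, 5, 1, 2, 3, 2, 1, 0, 3, 4, 1, 2, 3, 2, 1, 5, 3, 4, 1] (Cert.fail))),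
  (1, Cert.fail),
  (1, Cert.step [1, 3, 2, 3, 2, 4, 5, 1, 5, 4, 2, 3, 0, 1] (Cert.step [1, 3, 4, 5, 1, 2, 3, 2, 1, 3, 4, 3, 0, 1, 2, 3, 2, 1, 5, 4, 0] (Cert.step [0, 2, 1, 0, 4, 3, 2, 3, 5, 1, 2, 4, 3, 2, 0, 1, 5, 2, 3, 4, 3, 0, 1, 2, 0] (Cert.done [0, 2, 1, 0, 4, 3, 2, 3, 5, 1, 2, 4, 3, 2, 0, 1, 5, 2, 3, 4, 3, 0, 1, 2, 0, 1, 3, 4, 5, 1, 2, 3, 2, 1, 3, 4, 3, 0, 1, 2, 3, 2, 1, 5, 4, 0, 1, 3, 2, 3, 2, 4, 5, 1, 5, 4, 2, 3, 0, 1, 0, 4, 3, 5, 1, 6, 1, 0, 2, 1, 3, 2, 4, 3, 2, 5, 1, 0])))),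
  (1, Cert.step [1, 0, 4, 5, 1, 2, 6, 5, 6, 3, 0, 1, 2, 0, 1, 5, 4] (Cert.step [1, 2, 3, 2, 1, 0, 5, 1, 0, 2, 1, 0, 3, 4, 3, 2, 3, 2, 1, 0, 1, 5, 0] (Cert.fail))),
  (1, Cert.step [0, 1, 3, 2, 3, 4, 5, 1, 5, 4, 2, 3, 1, 2, 0] (Cert.step [1, 4, 3, 2, 3, 5, 1, 0, 1, 2, 3, 2, 1, 5, 4, 0, 1, 2, 3, 0, 1, 2, 3, 4, 1] (Cert.fail))),
  (1, Cert.step [0, 1, 0, 2, 3, 6, 1, 0, 1, 6, 1, 5, 1, 6, 1, 2, 1, 0, 1] (Cert.fail)),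
  (1, Cert.step [0, 1, 3, 2, 1, 0, 1, 3, 2, 3, 0, 1] (Cert.step [0, 4, 3, 2, 1, 0, 1, 2, 3, 2, 5, 1, 4, 3, 2, 0, 1, 5, 3, 4, 1, 2] (Cert.fail))),
  (1, Cert.step [1, 0, 4, 5, 1, 2, 6, 5, 6, 3, 0, 1, 2, 0, 1, 5, 4] (Cert.step [2, 4, 3, 2, 5, 1, 2, 3, 2, 1, 0, 4, 3, 5, 2, 1, 5, 2, 3, 1, 2, 3, 4] (Cert.fail))),
  (1, Cert.step [1, 0, 4, 5, 1, 2, 6, 5, 6, 3, 0, 1, 2, 0, 1, 5, 4] (Cert.step [1, 0, 2, 1, 0, 1, 0, 5, 1, 2, 3, 2, 3, 1, 2] (Cert.fail))),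
  (1, Cert.fail),
  (1, Cert.step [0, 1, 0, 3, 1, 2, 1, 0, 1, 0] (Cert.step [2, 4, 3, 2, 1, 3, 2, 5, 1, 0, 2, 1, 0, 3, 1, 2, 3, 4] (Cert.fail))),
  (1, Cert.step [3, 2, 3, 2, 4, 5, 1, 5, 4, 2, 3, 0] (Cert.step [1, 2, 3, 4, 3, 2, 1, 0, 3, 5, 1, 2, 3, 4, 1, 2, 3, 1, 2, 3, 4, 3, 1, 0, 1] (Cert.fail))),
  (1, Cert.step [1, 3, 2, 4, 5, 1, 0, 2, 3, 4, 2, 3, 2, 1, 0, 1, 5, 0] (Cert.step [1, 2, 3, 4, 3, 2, 3, 2, 4, 5, 1, 2, 0, 1, 5, 1, 2, 3, 2, 3, 4, 3, 2, 1] (Cert.fail))),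
  (1, Cert.step [0, 1, 0, 2, 3, 6, 1, 0, 1, 6, 1, 5, 1, 6, 1, 2, 1, 0, 1] (Cert.step [1, 2, 3, 4, 5, 1, 0, 2, 3, 2, 1, 0, 1, 2, 3, 2, 1, 5, 4, 0] (Cert.fail))),
  (1, Cert.fail),
  (1, Cert.step [0, 1, 0, 1, 2, 1, 3, 2, 3, 0, 1] (Cert.step [2, 1, 0, 1, 2, 5, 1, 2, 3, 4, 3, 2, 3, 1, 2, 1, 0, 1, 5, 3, 2] (Cert.fail))),
  (1, Cert.step [1, 0, 4, 5, 1, 2, 6, 5, 6, 3, 2, 0, 1, 5, 4, 2, 3, 2] (Cert.step [1, 3, 5, 1, 2, 3, 2, 1, 4, 3, 0, 1, 2, 3, 2, 1, 0, 1, 5, 2, 3] (Cert.fail))),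
  (1, Cert.step [1, 0, 1, 0, 3, 4, 5, 1, 5, 4, 2, 3, 0] (Cert.step [0, 1, 0, 1, 4, 3, 2, 3, 2, 1, 0, 4, 5, 2, 1, 5, 2, 3, 0, 1, 2] (Cert.fail))),
  (1, Cert.step [1, 0, 4, 5, 1, 2, 6, 5, 6, 3, 0, 1, 2, 0, 1, 5, 4] (Cert.step [0, 2, 3, 2, 1, 0, 4, 3, 2, 1, 0, 3, 2, 5, 3, 4, 3, 1, 2, 3, 2, 1, 5, 4, 1, 2] (Cert.fail))),
  (1, Cert.fail),
  (1, Cert.step [1, 0, 3, 2, 3, 4, 3, 2, 5, 1, 2, 3, 2, 1, 5, 0, 1, 2, 3, 4, 0] (Cert.step [3, 2, 4, 3, 2, 5, 1, 3, 4, 2, 3, 2, 0, 1, 5, 2, 3, 4, 3, 2, 3] (Cert.fail))),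
  (1, Cert.step [1, 0, 1, 0, 3, 2, 3, 1, 0, 1] (Cert.fail)),
  (1, Cert.fail),
  (1, Cert.step [3, 2, 1, 3, 2, 3, 2, 3, 1, 2, 0] (Cert.step [0, 2, 5, 1, 0, 2, 1, 3, 2, 3, 2, 4, 1, 5, 1, 0, 1, 2, 3, 2, 1, 5, 2, 0] (Cert.fail))),
  (1, Cert.step [2, 1, 0, 6, 1, 2, 5, 1, 6, 3, 2, 1, 5, 3, 2, 1, 6, 0, 1] (Cert.step [2, 1, 0, 1, 2, 5, 1, 2, 3, 4, 3, 2, 3, 1, 2, 1, 0, 1, 5, 3, 2] (Cert.fail))),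
  (2, Cert.fail),
  (1, Cert.step [1, 0, 2, 4, 5, 1, 2, 3, 2, 1, 5, 4, 3, 2, 0, 1, 0] (Cert.fail)),
  (1, Cert.fail),
  (1, Cert.step [0, 3, 2, 6, 1, 0, 1, 0, 6, 1, 0, 1, 6, 2, 3, 2, 0, 1, 0] (Cert.step [0, 5, 1, 0, 2, 1, 5, 4, 3, 1, 2, 3, 1, 2, 0, 1, 5, 4, 2, 3, 2] (Cert.fail))),
  (1, Cert.fail),
  (1, Cert.step [0, 3, 2, 4, 5, 1, 5, 4, 2, 3, 2, 3] (Cert.fail)),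
  (1, Cert.step [1, 2] (Cert.step [2, 3, 4, 2, 3, 0, 1, 2, 3, 4, 0, 1, 2, 3, 2, 0] (Cert.fail))),
  (1, Cert.fail),
  (1, Cert.step [3, 2, 1, 3, 2, 3, 2, 3, 1, 2, 0] (Cert.step [0, 2, 3, 4, 5, 1, 0, 1, 2, 1, 0, 3, 2, 1, 5, 4, 3, 2, 0, 1, 0, 1, 5, 2, 3, 2, 0] (Cert.fail))),
  (1, Cert.step [1, 0, 4, 5, 1, 2, 6, 5, 6, 3, 0, 1, 2, 0, 1, 5, 4] (Cert.step [1, 2, 1, 0, 1, 0, 5, 1, 2, 3, 4, 1, 2, 3, 2, 1, 5, 4, 2, 3, 2] (Cert.fail))),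
  (1, Cert.step [0, 3, 2, 4, 5, 1, 5, 4, 2, 3, 2, 3] (Cert.fail)),
  (1, Cert.step [3, 2, 3, 2, 4, 5, 1, 5, 4, 2, 3, 2, 0, 1] (Cert.fail)),
  (1, Cert.step [1, 0, 4, 5, 1, 2, 6, 5, 6, 3, 0, 1, 2, 0, 1, 5, 4] (Cert.fail)),
  (1, Cert.step [1, 0, 4, 5, 1, 2, 6, 5, 6, 3, 0, 1, 2, 0, 1, 5, 4] (Cert.step [2, 3, 2, 1, 4, 3, 2, 1, 3, 2, 1, 0, 5, 1, 4, 3, 2, 3, 0, 1, 2, 3, 0, 1, 2, 3, 4, 0] (Cert.fail))),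
  (1, Cert.step [1, 3, 2, 4, 5, 1, 0, 2, 3, 4, 2, 3, 2, 1, 0, 1, 5, 0] (Cert.step [3, 2, 3, 5, 1, 0, 1, 2, 1, 3, 2, 1, 4, 3, 2, 1, 5, 3, 1, 2, 3, 2, 1, 0, 1] (Cert.fail))),
  (1, Cert.step [0, 1, 2, 6, 1, 5, 1, 6, 1, 0, 1, 6, 3, 0, 1, 2, 1, 0] (Cert.fail)),
  (1, Cert.step [3, 2, 4, 5, 1, 0, 2, 6, 5, 6, 3, 2, 1, 5, 4, 2, 0] (Cert.step [1, 3, 4, 5, 1, 0, 2, 3, 4, 2, 3, 1, 2, 0, 1, 5, 2, 3, 2, 3, 1, 2] (Cert.fail))),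
  (1, Cert.step [0, 1, 2, 3, 4, 5, 1, 2, 3, 2, 1, 5, 4, 1] (Cert.step [0, 2, 5, 1, 0, 2, 1, 3, 2, 3, 2, 4, 5, 3, 2, 3, 1, 2, 0, 1, 5, 3, 2, 0] (Cert.fail))),
  (1, Cert.step [0, 1, 3, 2, 1, 0, 1, 3, 0, 1, 2, 0, 1] (Cert.step [1, 2, 1, 0, 1, 0, 5, 1, 2, 3, 4, 1, 2, 3, 2, 1, 5, 4, 2, 3, 2] (Cert.fail))),
  (1, Cert.step [0, 6, 1, 0, 1, 6, 1, 5, 1, 6, 3, 2, 1] (Cert.step [3, 2, 3, 2, 5, 1, 0, 1, 2, 3, 2, 4, 3, 1, 5, 2, 1, 0, 1, 5, 1, 0] (Cert.fail))),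
  (1, Cert.step [0, 1, 0, 4, 5, 1, 5, 4, 2, 3, 2, 3] (Cert.step [2, 3, 4, 3, 5, 1, 2, 1, 5, 3, 4, 2, 3, 2, 1, 0, 1, 2, 3, 4, 0] (Cert.fail))),
  (1, Cert.step [1, 0, 3, 2, 3, 4, 5, 1, 5, 4, 2, 3, 0] (Cert.step [3, 2, 3, 2, 1, 4, 3, 2, 3, 5, 2, 1, 5, 4, 2, 3, 2, 1, 0, 1, 5] (Cert.step [1, 2, 1, 0, 1, 3, 4, 3, 2, 1, 3, 2, 1, 4, 3, 0, 1, 2, 3, 4, 0, 1] (Cert.done [1, 2, 1, 0, 1, 3, 4, 3, 2, 1, 3, 2, 1, 4, 3, 0, 1, 2, 3, 4, 0, 1, 3, 2, 3, 2, 1, 4, 3, 2, 3, 5, 2, 1, 5, 4, 2, 3, 2, 1, 0, 1, 5, 1, 0, 3, 2, 3, 4, 5, 1, 5, 4, 2, 3, 4, 6, 1, 5, 6, 1, 0, 1, 6, 3, 6, 1, 0, 2, 1, 3, 2, 4, 3, 2, 5, 1, 0])))),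
  (1, Cert.step [3, 2, 3, 5, 1, 2, 6, 1, 0, 5, 1, 0, 1, 6, 1, 2, 3, 2] (Cert.fail)),
  (1, Cert.step [0, 1, 0, 1, 2, 1, 3, 2, 3, 0, 1, 2] (Cert.step [4, 5, 1, 0, 2, 3, 2, 1, 5, 2, 3, 1, 2, 0, 1, 0, 1, 2, 3, 4] (Cert.fail))),
  (1, Cert.step [0, 6, 1, 2, 3, 5, 1, 2, 3, 6, 0, 1, 5, 2, 1, 6, 1, 2, 3] (Cert.step [2, 1, 3, 2, 0, 1, 5, 3, 0, 1, 2, 3, 0, 1, 2] (Cert.fail))),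
  (1, Cert.step [0, 2, 1, 3, 4, 3, 5, 1, 0, 1, 3, 2, 3, 1, 2, 0, 1, 5, 4, 0] (Cert.fail)),
  (1, Cert.step [1, 0, 6, 1, 2, 5, 1, 6, 5, 3, 2, 1, 5, 3, 2, 1, 6, 0, 1, 2] (Cert.step [1, 4, 3, 2, 3, 5, 1, 0, 1, 2, 3, 2, 1, 5, 4, 0, 1, 2, 3, 0, 1, 2, 3, 4, 1] (Cert.fail))),
  (1, Cert.step [0, 1, 0, 2, 1, 0, 3, 2, 3, 1, 2, 3] (Cert.step [2, 1, 3, 2, 0, 1, 5, 3, 0, 1, 2, 3, 0, 1, 2] (Cert.fail))),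
  (1, Cert.step [0, 1, 0, 3, 2, 3, 2, 3, 1] (Cert.step [1, 3, 2, 4, 3, 2, 1, 0, 3, 2, 4, 3, 2, 1, 5, 1, 2, 3, 4, 3, 1, 2, 1] (Cert.fail))),
  (2, Cert.fail),
  (1, Cert.step [0, 1, 3, 2, 4, 5, 1, 5, 4, 2, 3, 0] (Cert.step [2, 1, 0, 1, 2, 5, 1, 2, 3, 4, 3, 2, 3, 1, 2, 1, 0, 1, 5, 3, 2] (Cert.fail))),
  (1, Cert.step [1, 3, 2, 3, 2, 4, 5, 1, 5, 4, 0, 1, 2, 0, 1] (Cert.step [1, 3, 5, 1, 2, 3, 2, 1, 4, 3, 0, 1, 2, 3, 2, 1, 0, 1, 5, 2, 3] (Cert.fail))),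
  (2, Cert.fail),
  (1, Cert.step [3, 2, 1, 3, 2, 3, 0, 1, 2, 0, 1, 0] (Cert.step [3, 2, 1, 5, 1, 0, 1, 3, 2, 3, 4, 2, 3, 2, 1, 5, 1, 2, 0] (Cert.step [3, 4, 3, 2, 1, 0, 3, 2, 3, 5, 1, 2, 3, 2, 1, 5, 4, 3, 2, 3, 0, 1, 2, 3, 4, 3] (Cert.done [3, 4, 3, 2, 1, 0, 3, 2, 3, 5, 1, 2, 3, 2, 1, 5, 4, 3, 2, 3, 0, 1, 2, 3, 4, 2, 1, 5, 1, 0, 1, 3, 2, 3, 4, 2, 3, 2, 1, 5, 1, 2, 0, 3, 2, 1, 3, 2, 3, 0, 1, 2, 0, 1, 4, 3, 5, 1, 0, 6, 1, 0, 2, 1, 3, 2, 4, 3, 2, 5, 1, 0])))),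
  (1, Cert.step [3, 2, 1, 0, 1, 2] (Cert.step [0, 2, 4, 3, 5, 1, 0, 1, 2, 3, 2, 5, 4, 3, 1, 2, 3, 2, 1, 5, 2, 3, 4, 2, 0] (Cert.step [0, 2, 1, 0, 3, 4, 3, 2, 5, 1, 0, 2, 3, 4, 2, 1, 5, 3, 2, 3, 4, 0, 1, 2, 0] (Cert.done [0, 2, 1, 0, 3, 4, 3, 2, 5, 1, 0, 2, 3, 4, 2, 1, 5, 3, 2, 3, 4, 0, 1, 4, 3, 5, 1, 0, 1, 2, 3, 2, 5, 4, 3, 1, 2, 3, 2, 1, 5, 2, 3, 4, 2, 0, 3, 2, 1, 0, 1, 2, 0, 4, 6, 1, 0, 2, 1, 3, 2, 3, 0, 1, 6, 5, 2, 3, 2, 1, 6, 2, 6, 1, 0, 2, 1, 3, 2, 4, 3, 2, 5, 1, 0])))),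
  (1, Cert.step [0, 1, 0, 2, 3, 1, 2, 3] (Cert.step [3, 2, 4, 3, 2, 5, 1, 4, 2, 3, 2, 0, 1, 5, 4, 3, 2, 3, 4, 2, 3] (Cert.step [1, 0, 4, 3, 2, 1, 0, 3, 4, 1, 2, 3, 1, 2, 3, 4, 3, 1, 0, 1, 2, 1] (Cert.done [6, 1, 2, 3, 2, 1, 3, 4, 5, 1, 0, 1, 2, 6, 3, 2, 1, 5, 4, 3, 0, 1, 2, 0, 1, 5, 6, 1, 0])))),
  (1, Cert.step [1, 0, 4, 5, 1, 2, 3, 2, 1, 5, 4, 0] (Cert.fail)),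
  (1, Cert.step [1, 0, 3, 2, 3, 2, 1, 0, 1, 2, 1, 0] (Cert.step [3, 2, 1, 0, 3, 5, 1, 0, 2, 3, 4, 3, 2, 1, 5, 0, 1, 2, 3] (Cert.fail))),
  (1, Cert.step [3, 2, 4, 5, 1, 0, 2, 6, 5, 6, 3, 2, 1, 5, 4, 2, 0, 1] (Cert.fail)),
  (1, Cert.step [0, 6, 1, 0, 1, 6, 1, 5, 1, 6, 3, 2] (Cert.step [1, 0, 2, 1, 0, 1, 0, 5, 1, 2, 3, 2, 3, 1, 2] (Cert.fail))),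
  (1, Cert.step [1, 2, 6, 1, 2, 3, 2, 5, 1, 2, 3, 0, 1, 2, 0, 1, 6, 0] (Cert.step [1, 2, 4, 3, 2, 5, 1, 0, 1, 2, 3, 4, 3, 2, 3, 1, 2, 0, 1, 5, 2, 3, 4, 3, 2] (Cert.fail))),
  (1, Cert.fail),
  (1, Cert.step [0, 1, 0, 2, 3, 2, 6, 1, 0, 1, 6, 1, 5, 1, 6, 3, 2] (Cert.step [4, 3, 2, 1, 3, 5, 4, 1, 0, 1, 2, 3, 2, 3, 4, 3, 1, 0, 1] (Cert.fail))),
  (1, Cert.step [0, 2, 1, 3, 2, 3, 2, 3, 1, 2, 3] (Cert.step [2, 1, 3, 2, 3, 4, 5, 1, 0, 1, 2, 3, 1, 2, 0, 1, 5, 4, 0] (Cert.fail))),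
  (1, Cert.step [0, 1, 0, 4, 5, 1, 2, 0, 1, 5, 4, 2, 3, 0] (Cert.step [1, 0, 3, 2, 1, 3, 4, 3, 2, 3, 4, 1, 2, 0, 1, 5, 3, 1, 2, 3, 1, 0, 1, 2] (Cert.fail))),
  (1, Cert.step [0, 1, 4, 3, 5, 1, 0, 1, 2, 3, 2, 1, 0, 1, 5, 3, 4, 3, 1, 2, 0, 1] (Cert.step [1, 0, 2, 1, 3, 4, 5, 1, 0, 1, 2, 3, 1, 2, 1, 0, 1, 5, 4, 3, 2, 0] (Cert.fail))),
  (1, Cert.step [1, 0, 3, 2, 3, 1, 2, 1, 0, 1, 0] (Cert.step [1, 0, 2, 1, 3, 4, 5, 1, 0, 1, 2, 1, 0, 3, 2, 1, 5, 4, 0, 1, 2] (Cert.fail))),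
  (1, Cert.step [1, 0, 2, 4, 5, 1, 2, 6, 5, 6, 5, 3, 2, 1, 0, 1, 5, 4, 3, 0] (Cert.step [0, 4, 5, 1, 0, 2, 3, 4, 1, 2, 3, 0, 1, 2, 1, 0, 1, 5, 0] (Cert.fail))),
  (1, Cert.fail),
  (1, Cert.step [1, 0, 3, 2, 3, 4, 3, 2, 5, 1, 2, 3, 2, 1, 5, 0, 1, 2, 3, 4, 0] (Cert.step [0, 5, 1, 0, 2, 1, 5, 2, 3, 1, 2, 1, 0, 1, 5, 0] (Cert.fail))),
  (1, Cert.step [1, 0, 3, 2, 3, 1, 2, 0, 1, 0, 1, 0] (Cert.step [1, 3, 2, 4, 3, 2, 1, 0, 3, 2, 4, 3, 2, 1, 5, 1, 2, 3, 4, 3, 1, 2, 1] (Cert.fail))),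
  (1, Cert.step [1, 0, 1, 3, 2, 4, 5, 1, 5, 4, 2, 3, 2, 0, 1] (Cert.step [1, 2, 4, 3, 2, 5, 1, 0, 1, 2, 3, 4, 3, 2, 3, 1, 2, 0, 1, 5, 2, 3, 4, 3, 2] (Cert.fail))),
  (1, Cert.fail),
  (1, Cert.step [1, 3, 2, 3, 2, 4, 5, 1, 5, 4, 2, 3, 0] (Cert.step [4, 3, 2, 3, 5, 1, 0, 2, 1, 0, 3, 2, 1, 5, 3, 4, 3, 2, 3, 1, 2, 3, 4, 3, 1, 0, 1] (Cert.fail))),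
  (1, Cert.step [2, 1, 0, 1, 0, 3, 2, 3, 2, 3] (Cert.fail)),
  (1, Cert.step [1, 0, 1, 3, 2, 4, 5, 1, 5, 4, 2, 3, 0, 1] (Cert.fail)),
  (1, Cert.step [0, 2, 6, 1, 0, 2, 1, 0, 3, 2, 1, 5, 2, 3, 2, 1, 6, 2] (Cert.step [2, 3, 4, 3, 2, 3, 2, 4, 5, 1, 0, 2, 1, 3, 5, 2, 3, 4, 3, 2, 3, 1, 0, 1] (Cert.fail))),
  (1, Cert.step [3, 2, 1, 2, 0, 1] (Cert.fail)),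
  (1, Cert.step [3, 2, 3, 2, 4, 5, 1, 5, 4, 2, 3, 2, 0] (Cert.step [0, 1, 0, 1, 4, 3, 2, 3, 4, 5, 2, 1, 0, 1, 2, 3, 2, 1, 5, 3, 1, 0, 1, 0] (Cert.fail))),
  (1, Cert.fail),
  (1, Cert.step [0, 1, 2, 1, 0, 1, 0, 2, 3, 2, 3] (Cert.step [0, 2, 3, 4, 5, 1, 0, 1, 2, 1, 0, 3, 2, 1, 5, 4, 3, 2, 0, 1, 0, 1, 5, 2, 3, 2, 0] (Cert.fail))),
  (1, Cert.step [0, 1, 3, 2, 4, 5, 1, 5, 4, 0, 1, 0, 1] (Cert.fail)),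
  (1, Cert.step [0, 6, 1, 2, 3, 5, 1, 2, 3, 6, 0, 1, 5, 2, 1, 6, 1, 2, 3, 2] (Cert.step [2, 3, 4, 3, 5, 1, 2, 1, 5, 3, 4, 2, 3, 2, 1, 0, 1, 2, 3, 4, 0] (Cert.fail))),
  (1, Cert.step [2, 1, 3, 6, 1, 2, 5, 1, 2, 6, 3, 2, 3, 2, 1, 5, 2, 1, 6, 3] (Cert.fail)),
  (1, Cert.step [3, 2, 3, 5, 1, 2, 6, 1, 0, 5, 1, 0, 1, 6, 1, 2, 3, 1] (Cert.step [1, 2, 3, 4, 5, 1, 0, 1, 0, 1, 2, 3, 2, 1, 5, 4, 0, 1, 2] (Cert.fail))),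
  (1, Cert.step [0, 2, 1, 3, 2, 4, 5, 1, 5, 4, 2, 3, 0] (Cert.step [0, 2, 3, 4, 5, 1, 0, 1, 2, 1, 3, 2, 1, 0, 1, 5, 4, 3, 1, 2, 0, 1] (Cert.fail))),
  (1, Cert.step [0, 6, 1, 2, 3, 5, 1, 2, 3, 6, 0, 1, 5, 2, 1, 6, 1, 2, 3] (Cert.step [0, 1, 0, 3, 2, 1, 5, 1, 2, 3, 2, 1, 0, 3, 5, 4, 3, 1, 2, 0, 1, 5, 3, 2] (Cert.fail))),
  (1, Cert.step [0, 1, 2, 3, 4, 5, 1, 2, 3, 2, 1, 5, 4, 1, 2] (Cert.step [0, 4, 5, 1, 0, 2, 1, 3, 2, 1, 0, 1, 5, 4, 3, 2, 3, 1, 2] (Cert.fail))),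
  (1, Cert.step [0, 3, 2, 3, 2, 3, 1, 2, 0, 1] (Cert.step [4, 3, 2, 1, 3, 2, 1, 5, 1, 2, 3, 4, 2, 3, 0, 1, 2, 3, 2, 1, 5, 4, 3, 1, 2] (Cert.fail))),
  (1, Cert.fail),
  (1, Cert.step [2, 1, 0, 6, 1, 2, 5, 1, 6, 3, 2, 1, 5, 3, 2, 1, 6, 0, 1] (Cert.step [2, 4, 3, 2, 1, 3, 2, 5, 1, 0, 2, 1, 0, 3, 1, 2, 3, 4] (Cert.fail))),
  (1, Cert.fail),
  (1, Cert.step [5, 1, 0, 1, 2, 3, 2, 4, 1, 5, 4, 0, 1, 0] (Cert.fail)),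
  (1, Cert.step [0, 3, 2, 3, 0, 1, 2, 0, 1, 0] (Cert.fail)),
  (2, Cert.fail),
  (1, Cert.step [1, 0, 4, 5, 1, 2, 3, 2, 1, 5, 4, 0] (Cert.step [1, 0, 1, 3, 2, 3, 2, 4, 3, 1, 0, 1, 5, 2, 3, 4, 2, 3, 1, 2, 3, 0] (Cert.fail))),
  (1, Cert.step [3, 2, 1, 3, 2, 3, 2, 3, 1, 2, 0] (Cert.step [0, 1, 0, 1, 4, 3, 2, 3, 4, 1, 2, 3, 2, 1, 0, 1, 5, 2, 1, 0, 1, 2, 0] (Cert.fail))),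
  (1, Cert.step [0, 1, 3, 2, 1, 0, 1, 4, 5, 1, 5, 4, 2, 3, 1, 2, 3] (Cert.step [3, 2, 1, 3, 2, 3, 2, 1, 0, 4, 5, 1, 2, 3, 4, 2, 3, 1, 2, 1, 0, 1, 5, 3] (Cert.fail))),
  (1, Cert.step [0, 2, 1, 3, 2, 3, 2, 3, 1, 2, 3] (Cert.step [0, 4, 3, 2, 1, 0, 1, 2, 3, 2, 5, 1, 4, 3, 2, 1, 5, 3, 4, 3, 2] (Cert.fail))),
  (1, Cert.step [0, 2, 0] (Cert.fail)),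
  (1, Cert.step [1, 0, 1, 3, 2, 4, 5, 1, 5, 4, 2, 3, 2, 0, 1] (Cert.step [1, 0, 2, 1, 0, 1, 4, 3, 2, 3, 4, 1, 2, 3, 0, 1, 2, 1] (Cert.fail))),
  (1, Cert.step [1, 0, 5, 1, 2, 3, 2, 3, 4, 6, 5, 6, 3, 2, 1, 5, 4, 2, 0, 1] (Cert.step [0, 3, 4, 5, 1, 0, 1, 2, 3, 4, 5, 2, 0, 1, 0, 1, 5, 2, 3, 2, 3] (Cert.fail))),
  (1, Cert.step [3, 2, 3, 2, 4, 5, 1, 5, 4, 2, 3, 1, 2, 3] (Cert.fail)),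
  (1, Cert.step [5, 1, 0, 1, 2, 3, 2, 4, 1, 5, 4, 2, 3, 0, 1, 2] (Cert.step [2, 1, 3, 2, 3, 4, 5, 1, 0, 1, 2, 3, 2, 0, 1, 0, 1, 5, 4, 2, 3, 1, 2] (Cert.fail))),
  (1, Cert.step [1, 0, 4, 5, 1, 2, 3, 2, 1, 5, 4, 0] (Cert.step [0, 1, 0, 3, 2, 1, 5, 1, 2, 3, 2, 1, 0, 3, 5, 4, 3, 1, 2, 0, 1, 5, 3, 2] (Cert.fail))),
  (1, Cert.fail),
  (1, Cert.step [0, 3, 2, 3, 0, 1, 0, 1, 2, 1, 0] (Cert.step [3, 2, 4, 3, 2, 5, 1, 4, 2, 3, 2, 0, 1, 5, 4, 3, 2, 3, 4, 2, 3] (Cert.step [3, 4, 3, 2, 1, 0, 3, 2, 3, 5, 1, 2, 3, 2, 1, 5, 4, 3, 2, 3, 0, 1, 2, 3, 4, 3] (Cert.done [3, 4, 3, 2, 1, 0, 3, 2, 3, 5, 1, 2, 3, 2, 1, 5, 4, 3, 2, 3, 0, 1, 2, 3, 4, 2, 4, 3, 2, 5, 1, 4, 2, 3, 2, 0, 1, 5, 4, 3, 2, 3, 4, 2,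 3, 0, 3, 2, 3, 0, 1, 0, 1, 2, 1, 4, 6, 1, 2, 3, 2, 1, 0, 3, 5, 1, 0, 2, 1, 6, 5, 1, 2, 3, 2, 1, 0, 1, 6, 0, 6, 1, 0, 2, 1, 3, 2, 4, 3, 2, 5, 1, 0])))),
  (1, Cert.step [0, 2, 1, 0, 3, 2, 3, 2, 3] (Cert.step [2, 3, 2, 1, 4, 3, 2, 1, 3, 2, 1, 0, 5, 1, 4, 3, 2, 3, 0, 1, 2, 3, 0, 1, 2, 3, 4, 0] (Cert.fail))),
  (1, Cert.step [1, 0, 5, 1, 2, 3, 2, 3, 4, 6, 5, 6, 3, 2, 1, 5, 4, 0, 1, 2] (Cert.step [1, 0, 2, 1, 0, 1, 4, 3, 2, 3, 4, 1, 2, 3, 0, 1, 2, 1] (Cert.fail))),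
  (1, Cert.step [0, 1, 2, 3, 4, 5, 1, 2, 3, 2, 1, 5, 4] (Cert.step [0, 2, 3, 4, 5, 1, 0, 2, 3, 2, 1, 0, 2, 1, 5, 4, 3, 2, 3, 1, 2, 3, 4, 3, 0, 1] (Cert.fail))),
  (1, Cert.step [0, 1, 0, 4, 5, 1, 5, 4, 2, 3, 1, 2, 0] (Cert.fail)),
  (1, Cert.fail),
  (1, Cert.step [0, 6, 1, 0, 1, 6, 1, 5, 1, 6, 3, 1, 2] (Cert.step [2, 1, 0, 4, 5, 1, 2, 3, 2, 1, 0, 1, 0, 1, 5, 4, 3, 2, 1] (Cert.fail))),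
  (1, Cert.step [3, 2, 4, 5, 1, 0, 2, 6, 5, 6, 3, 2, 1, 5, 4, 2, 0] (Cert.fail)),
  (1, Cert.step [0, 3, 2, 3, 4, 5, 1, 5, 4, 0, 1, 0, 1, 2] (Cert.step [3, 2, 4, 3, 2, 5, 1, 4, 2, 3, 2, 0, 1, 5, 4, 3, 2, 3, 4, 2, 3] (Cert.fail))),
  (1, Cert.step [0, 1, 4, 3, 2, 5, 6, 1, 0, 5, 1, 0, 1, 6, 3, 2, 3, 4, 3] (Cert.fail)),
  (1, Cert.step [0, 6, 1, 0, 2, 1, 0, 3, 2, 1, 5, 2, 3, 2, 1, 6] (Cert.step [1, 2, 1, 4, 5, 1, 0, 1, 2, 3, 2, 3, 5, 4, 3, 1, 2, 3, 1, 0, 1, 2, 3, 4, 0] (Cert.fail))),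
  (1, Cert.step [1, 0, 3, 2, 3, 2, 3, 1, 0, 1] (Cert.step [2, 1, 0, 4, 5, 1, 2, 3, 2, 1, 0, 3, 4, 1, 2, 3, 2, 1, 5, 3, 4, 1] (Cert.fail))),
  (1, Cert.step [1, 3, 2, 3, 2, 4, 5, 1, 5, 4, 0, 1, 2, 0, 1] (Cert.fail)),
  (1, Cert.step [5, 1, 0, 1, 2, 3, 2, 4, 1, 5, 4, 0, 1, 0] (Cert.step [2, 3, 2, 4, 3, 5, 1, 2, 3, 2, 1, 5, 4, 1, 2, 3, 2, 1, 5, 3, 4, 2, 3, 2] (Cert.fail))),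
  (1, Cert.step [0, 3, 2, 4, 5, 1, 5, 4, 2, 3, 2, 3, 1] (Cert.step [0, 2, 4, 3, 5, 1, 0, 1, 2, 3, 2, 5, 4, 3, 1, 2, 3, 2, 1, 5, 2, 3, 4, 2, 0] (Cert.fail))),
  (1, Cert.step [0, 1, 0, 4, 5, 1, 5, 4, 2, 3, 2, 3, 1] (Cert.fail)),
  (1, Cert.step [2, 1, 0, 1, 2, 3] (Cert.fail)),
  (1, Cert.step [0, 1, 0, 4, 5, 1, 5, 4, 1, 2, 1, 0, 1, 0] (Cert.step [1, 2, 1, 3, 4, 3, 2, 1, 5, 1, 2, 3, 4, 2, 3, 0, 1, 2, 3, 4, 2, 3, 1] (Cert.step [3, 4, 3, 2, 1, 0, 3, 2, 3, 5, 1, 2, 3, 2, 1, 5, 4, 3, 2, 3, 0, 1, 2, 3, 4, 3] (Cert.done [3, 4, 3, 2, 1, 0, 3, 2, 3, 5, 1, 2, 3, 2, 1, 5, 4, 3, 2, 3, 0, 1, 2, 3, 4, 3, 1, 2, 1, 3, 4, 3, 2, 1, 5, 1, 2, 3, 4, 2, 3, 0, 1, 2, 3, 4, 2, 3, 1, 0, 1, 0, 4, 5, 1, 5, 4,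 1, 2, 1, 0, 1, 6, 1, 2, 3, 2, 1, 0, 5, 1, 2, 3, 4, 6, 2, 3, 2, 1, 6, 5, 1, 2, 3, 2, 1, 6, 1, 6, 1, 0, 2, 1, 3, 2, 4, 3, 2, 5, 1, 0])))),
  (1, Cert.step [3, 2, 3, 2, 4, 5, 1, 5, 4, 2, 3, 0, 1] (Cert.step [1, 2, 3, 2, 1, 0, 5, 1, 0, 2, 1, 0, 3, 4, 3, 2, 3, 2, 1, 0, 1, 5, 0] (Cert.step [2, 1, 3, 2, 5, 1, 0, 1, 0, 5, 4, 2, 3, 2, 1, 0, 1, 5, 4, 2, 3, 1, 2] (Cert.done [2, 1, 3, 2, 5, 1, 0, 1, 0, 5, 4, 2, 3, 2, 1, 0, 1, 5, 4, 2, 3, 1, 2, 1, 2, 3, 2, 1, 0, 5, 1, 0, 2, 1, 0, 3, 4, 3, 2, 3, 2, 1, 0, 1, 5, 0, 3, 2, 3, 2, 4, 5, 1, 5, 4, 2, 3, 0, 1, 0, 4, 6, 1, 2, 3, 2, 1, 0, 3, 5, 1, 0, 2, 1, 6, 5, 1, 2, 3, 2, 1, 2, 1, 3, 2, 4, 3, 2, 5, 1, 0])))),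
  (1, Cert.step [0, 1, 0, 3, 4, 5, 1, 5, 4, 2, 3, 0, 1] (Cert.step [4, 3, 2, 1, 3, 5, 2, 3, 1, 2, 3, 4] (Cert.fail))),
  (1, Cert.step [0, 1, 0, 1, 2, 1, 3, 0, 1, 2, 0, 1] (Cert.fail)),
  (1, Cert.step [1, 3, 2, 3, 2, 1, 0, 1, 2, 3, 1, 0] (Cert.step [2, 1, 0, 1, 2, 5, 1, 2, 3, 4, 3, 2, 3, 1, 2, 1, 0, 1, 5, 3, 2] (Cert.fail))),
  (1, Cert.step [0, 1, 3, 2, 3, 4, 5, 1, 5, 4, 2, 3, 1, 0, 1] (Cert.step [2, 1, 0, 1, 2, 5, 1, 2, 3, 4, 3, 2, 1, 5, 3, 1, 2, 1] (Cert.fail))),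
  (1, Cert.step [2, 4, 3, 5, 1, 0, 2, 1, 6, 5, 6, 2, 3, 1, 2, 3, 4, 1, 0] (Cert.step [1, 4, 3, 5, 1, 2, 3, 2, 1, 4, 3, 0, 1, 2, 3, 2, 1, 5, 4, 0, 1, 2] (Cert.fail))),
  (1, Cert.step [0, 1, 4, 3, 2, 1, 3, 2, 6, 5, 6, 4, 3, 1, 2, 0, 1, 5, 3, 4] (Cert.step [2, 3, 2, 4, 5, 1, 0, 2, 1, 3, 2, 3, 2, 4, 1, 2, 3, 2, 1, 0, 1, 5, 0] (Cert.fail))),
  (1, Cert.step [3, 2, 1, 3, 2, 4, 5, 1, 2, 0, 1, 5, 4, 2, 3, 0] (Cert.step [2, 3, 2, 4, 3, 5, 1, 2, 3, 2, 4, 3, 1, 5, 1, 2, 3, 0, 1, 2, 0, 1, 5, 4, 1, 2] (Cert.fail))),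
  (1, Cert.step [5, 1, 0, 1, 2, 3, 2, 4, 1, 5, 4, 3, 2, 3, 1, 0] (Cert.step [2, 3, 2, 4, 3, 5, 1, 2, 3, 2, 4, 3, 1, 5, 1, 2, 3, 0, 1, 2, 0, 1, 5, 4, 1, 2] (Cert.fail))),
  (1, Cert.step [0, 3, 2, 3, 2, 1, 0, 1, 2, 1, 0] (Cert.step [2, 3, 4, 3, 2, 3, 2, 4, 5, 1, 0, 2, 1, 3, 5, 2, 3, 4, 3, 2, 3, 1, 0, 1] (Cert.fail))),
  (1, Cert.step [1, 0, 4, 5, 1, 2, 3, 6, 5, 6, 4, 2, 3, 2, 1, 0, 1, 5, 2, 0] (Cert.step [1, 2, 4, 3, 2, 1, 0, 5, 1, 0, 4, 3, 1, 2, 3, 4, 1, 2, 0] (Cert.fail))),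
  (1, Cert.fail),
  (1, Cert.step [0, 1, 4, 3, 2, 5, 6, 1, 0, 5, 1, 0, 1, 6, 3, 2, 3, 4, 3, 2] (Cert.step [] (Cert.fail))),
  (1, Cert.step [0, 3, 2, 3, 4, 5, 1, 5, 4, 0, 1, 0, 1, 2] (Cert.step [1, 2, 1, 0, 1, 0, 5, 1, 2, 3, 4, 1, 2, 3, 2, 1, 5, 4, 2, 3, 2] (Cert.fail))),
  (1, Cert.step [1, 0, 1, 3, 2, 4, 5, 1, 5, 4, 2, 3, 2, 0, 1] (Cert.step [0, 4, 5, 1, 0, 2, 3, 2, 4, 3, 1, 2, 3, 4, 2, 3, 1, 2, 0, 1, 5, 1, 2] (Cert.fail))),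
  (1, Cert.step [3, 2, 1, 0, 1] (Cert.fail)),
  (1, Cert.step [0, 1, 0, 1, 2, 1, 2, 3, 2, 3, 1, 2] (Cert.step [0, 2, 1, 5, 1, 2, 3, 2, 4, 3, 2, 3, 1, 0, 1, 5, 1, 2, 3] (Cert.fail))),
  (1, Cert.step [0, 1, 0, 4, 5, 1, 2, 0, 1, 5, 4, 2, 3, 0] (Cert.step [4, 3, 2, 1, 3, 5, 2, 3, 1, 2, 3, 4] (Cert.fail))),
  (1, Cert.step [0, 1, 3, 2, 1, 0, 1, 2, 3, 2, 3] (Cert.step [] (Cert.fail))),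
  (1, Cert.step [0, 1, 0, 2, 3, 1, 2, 3] (Cert.fail)),
  (1, Cert.step [1, 0, 3, 2, 3, 4, 5, 1, 5, 4, 0, 1, 0] (Cert.fail)),
  (1, Cert.step [0, 2, 1, 3, 2, 4, 5, 1, 5, 4, 2, 3, 2, 0] (Cert.step [3, 2, 1, 0, 3, 5, 1, 0, 2, 3, 4, 3, 2, 1, 5, 0, 1, 2, 3] (Cert.fail))),
  (1, Cert.step [3, 4, 3, 2, 5, 1, 2, 3, 4, 6, 5, 6, 2, 3, 1, 2, 3, 4, 2, 3, 2] (Cert.step [0, 2, 1, 5, 1, 2, 3, 2, 4, 3, 2, 3, 1, 0, 1, 5, 1, 2, 3] (Cert.fail))),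
  (2, Cert.fail),
  (1, Cert.step [0, 1, 0, 4, 5, 1, 5, 4, 2, 3, 2, 3, 1] (Cert.step [0, 4, 5, 1, 0, 2, 1, 3, 2, 1, 3, 4, 2, 3, 2, 1, 5, 3, 4, 2, 3, 2] (Cert.fail))),
  (1, Cert.step [1, 3, 2, 3, 2, 4, 3, 2, 5, 1, 2, 1, 5, 1, 2, 3, 4, 2, 3, 0] (Cert.fail)),
  (1, Cert.step [3, 2, 3, 2, 4, 5, 1, 5, 4, 2, 3, 0] (Cert.step [1, 3, 2, 4, 3, 2, 1, 0, 3, 2, 4, 3, 2, 1, 5, 1, 2, 3, 4, 3, 1, 2, 1] (Cert.fail))),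
  (1, Cert.step [2, 1, 0, 1, 0, 3, 2, 3, 1, 2, 0] (Cert.step [3, 2, 1, 5, 1, 0, 1, 3, 2, 3, 4, 2, 3, 2, 1, 5, 1, 2, 0] (Cert.fail))),
  (1, Cert.step [0, 2, 1, 3, 2, 4, 5, 1, 5, 4, 2, 3, 2, 0] (Cert.step [2, 1, 3, 2, 3, 2, 1, 5, 0, 1, 0, 1, 2, 0, 1] (Cert.fail))),
  (1, Cert.step [1, 0, 4, 5, 1, 2, 3, 2, 1, 5, 4, 2, 0] (Cert.step [2, 3, 2, 4, 3, 5, 1, 2, 3, 2, 4, 3, 1, 5, 1, 2, 3, 0, 1, 2, 0, 1, 5, 4, 1, 2] (Cert.fail))),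
  (1, Cert.step [0, 1, 0, 3, 2, 3, 2, 3] (Cert.step [2, 3, 2, 4, 5, 1, 0, 2, 1, 3, 2, 3, 2, 4, 1, 2, 3, 2, 1, 0, 1, 5, 0] (Cert.fail))),
  (1, Cert.step [0, 3, 2, 3, 2, 3, 1, 0, 1] (Cert.step [3, 2, 3, 5, 1, 0, 1, 2, 1, 3, 5, 4, 2, 3, 0, 1, 2, 1, 0, 1, 5, 3, 2, 3] (Cert.fail))),
  (1, Cert.step [0, 6, 1, 2, 3, 5, 1, 2, 3, 6, 0, 1, 5, 2, 1, 6, 1, 2, 3, 2] (Cert.step [0, 3, 2, 1, 3, 2, 4, 3, 2, 5, 1, 0, 1, 3, 4, 2, 3, 2, 3, 1, 0, 1] (Cert.fail))),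
  (1, Cert.fail),
  (1, Cert.step [0, 2, 0] (Cert.step [0, 5, 1, 0, 2, 1, 5, 4, 3, 1, 2, 3, 1, 2, 0, 1, 5, 4, 2, 3, 2] (Cert.fail))),
  (1, Cert.step [0, 1, 0, 2, 3, 2, 6, 1, 0, 1, 6, 1, 5, 1, 6, 3] (Cert.step [0, 1, 0, 1, 2, 3, 2, 4, 3, 2, 1, 0, 3, 2, 1, 5, 4, 3, 1, 2, 3, 1, 0, 1] (Cert.fail))),
  (1, Cert.fail),
  (1, Cert.step [2, 1, 0, 1, 3, 4, 3, 2, 0, 1, 2, 3, 4, 2, 3, 2, 3] (Cert.step [3, 2, 4, 3, 2, 1, 0, 5, 1, 2, 3, 2, 1, 0, 4, 3, 2, 1, 0, 1, 5, 4] (Cert.fail))),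
  (1, Cert.step [1, 3, 2, 3, 2, 4, 5, 1, 5, 4, 2, 3, 1, 2, 3] (Cert.fail)),
  (1, Cert.step [1, 0, 4, 5, 1, 2, 6, 5, 6, 3, 4, 3, 2, 3, 2, 1, 5, 2, 0] (Cert.step [0, 3, 5, 1, 0, 2, 3, 4, 1, 2, 3, 2, 1, 0, 1, 5, 4, 2, 3, 1] (Cert.fail))),
  (1, Cert.step [1, 0, 1, 2, 6, 1, 5, 1, 6, 1, 0, 1, 6, 0] (Cert.fail)),
  (1, Cert.step [2, 1, 0, 1, 0, 3, 2, 3, 1, 2, 0] (Cert.step [1, 5, 1, 2, 3, 4, 3, 2, 1, 5, 2, 1] (Cert.fail))),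
  (1, Cert.step [0, 3, 2, 3, 4, 5, 1, 5, 4, 2, 3, 0, 1] (Cert.step [2, 1, 3, 2, 0, 1, 5, 3, 0, 1, 2, 3, 0, 1, 2] (Cert.fail))),
  (1, Cert.step [0, 1, 0, 4, 5, 1, 5, 4, 2, 3, 1, 2, 0] (Cert.fail)),
  (1, Cert.step [1, 0, 3, 2, 3, 2, 3, 1, 0, 1] (Cert.step [0, 3, 4, 3, 2, 5, 1, 0, 2, 3, 2, 1, 4, 5, 2, 1, 0, 1, 2, 3, 4, 2, 3, 0] (Cert.fail))),
  (1, Cert.step [0, 1, 3, 2, 3, 4, 5, 1, 5, 4, 2, 3, 1, 0, 1] (Cert.step [2, 1, 0, 1, 2, 5, 1, 2, 3, 4, 3, 2, 1, 5, 3, 1, 2, 1] (Cert.fail))),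
  (1, Cert.fail),
  (1, Cert.step [0, 2, 1, 3, 2, 3, 2, 3, 1, 2, 3] (Cert.step [5, 1, 4, 2, 3, 1, 2, 0, 1, 5, 4, 3, 2] (Cert.fail))),
  (1, Cert.step [0, 1, 0, 3, 4, 5, 1, 5, 4, 2, 3, 0] (Cert.step [0, 4, 5, 1, 0, 2, 1, 3, 2, 1, 0, 1, 5, 4, 3, 2, 3, 1, 2] (Cert.fail))),
  (1, Cert.step [0, 1, 2, 4, 3, 2, 3, 6, 1, 0, 1, 6, 5, 1, 6, 4, 1, 2, 3, 2, 1, 5, 4, 2, 3, 0] (Cert.step [1, 0, 1, 3, 4, 3, 2, 3, 2, 1, 0, 1, 4, 5, 3, 1, 2, 3, 4] (Cert.fail))),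
  (1, Cert.step [0, 3, 2, 4, 5, 1, 5, 4, 2, 3, 2, 3, 1] (Cert.fail)),
  (1, Cert.step [1, 0, 5, 1, 2, 3, 2, 3, 4, 6, 5, 6, 3, 2, 1, 5, 4, 2, 0, 1] (Cert.step [0, 3, 2, 5, 1, 0, 2, 5, 4, 1, 2, 3, 2, 3, 4, 1, 2, 3, 0, 1] (Cert.fail))),
  (1, Cert.step [0, 1, 0, 4, 5, 1, 5, 4, 2, 3, 1, 2, 0, 1] (Cert.fail)),
  (1, Cert.step [0, 1, 3, 2, 4, 5, 1, 5, 4, 0, 1, 0, 1] (Cert.step [0, 1, 0, 4, 5, 1, 0, 2, 3, 1, 5, 1, 2, 3, 4, 1, 2, 3, 2, 0] (Cert.fail))),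
  (1, Cert.step [3, 2, 3, 5, 1, 2, 6, 1, 0, 5, 1, 0, 1, 6, 0] (Cert.step [2, 3, 4, 3, 5, 1, 2, 1, 5, 3, 4, 2, 3, 2, 1, 0, 1, 2, 3, 4, 0] (Cert.fail))),
  (1, Cert.step [2, 4, 3, 5, 1, 0, 2, 1, 6, 5, 6, 2, 3, 1, 2, 3, 4, 1, 0] (Cert.fail)),
  (1, Cert.fail),
  (1, Cert.step [1, 3, 2, 3, 2, 4, 5, 1, 5, 4, 0, 1, 0] (Cert.fail)),
  (1, Cert.fail),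
  (1, Cert.step [2, 1, 0, 1, 0, 3, 2, 3, 1, 2, 0] (Cert.fail)),
  (1, Cert.step [0, 1, 3, 2, 3, 4, 5, 1, 5, 4, 2, 3, 1, 0, 1, 2] (Cert.step [0, 2, 3, 4, 5, 1, 0, 1, 2, 1, 3, 2, 1, 0, 1, 5, 4, 3, 1, 2, 0, 1] (Cert.fail))),
  (1, Cert.step [0, 3, 2, 4, 5, 1, 5, 4, 2, 3, 2, 3, 1] (Cert.step [0, 1, 2, 1, 3, 2, 1, 3, 2, 4, 0, 1, 5, 3, 2, 3, 4, 1, 2, 3, 1, 0, 1] (Cert.fail))),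
  (1, Cert.step [1, 0, 3, 2, 4, 5, 1, 2, 0, 1, 5, 4, 2, 3, 0] (Cert.step [1, 0, 2, 1, 0, 1, 0, 5, 1, 2, 3, 2, 3, 1, 2] (Cert.fail))),
  (1, Cert.step [1, 0, 3, 2, 4, 5, 1, 4, 2, 3, 2, 1, 0, 1, 5] (Cert.step [2, 3, 4, 2, 3, 0, 1, 2, 3, 4, 0, 1, 2, 3, 2, 0] (Cert.fail))),
  (1, Cert.step [0, 1, 4, 3, 5, 1, 0, 1, 2, 3, 2, 1, 0, 1, 5, 3, 4, 3, 1, 2, 0, 1] (Cert.step [1, 3, 2, 4, 3, 2, 1, 0, 3, 2, 4, 3, 2, 1, 5, 1, 2, 3, 4, 3, 1, 2, 1] (Cert.fail))),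
  (1, Cert.step [0, 1, 4, 3, 2, 5, 6, 1, 0, 5, 1, 0, 1, 6, 3, 2, 3, 4, 3, 1, 2, 1] (Cert.fail)),
  (1, Cert.step [0, 1, 0, 4, 5, 1, 5, 4, 2, 3, 1, 2, 0, 1] (Cert.step [2, 3, 2, 1, 0, 4, 3, 2, 1, 3, 2, 4, 3, 5, 4, 2, 3, 1, 2, 3, 4, 3, 0, 1, 2, 3, 2] (Cert.fail))),
  (1, Cert.step [2, 4, 3, 5, 1, 0, 2, 1, 6, 5, 6, 2, 3, 1, 2, 3, 4, 1, 0] (Cert.step [2, 1, 3, 5, 4, 1, 2, 3, 2, 1, 5, 4, 3, 2] (Cert.fail))),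
  (1, Cert.step [0, 1, 3, 2, 4, 5, 1, 5, 4, 0, 1, 2, 0, 1] (Cert.step [0, 1, 0, 2, 1, 4, 3, 2, 3, 2, 1, 4, 0, 1, 2, 3, 0, 1, 2, 3, 4, 1] (Cert.fail))),
  (1, Cert.fail),
  (1, Cert.step [0, 1, 3, 2, 3, 4, 5, 1, 5, 4, 2, 3, 1, 2, 0] (Cert.step [0, 1, 0, 1, 2, 3, 2, 4, 3, 2, 1, 0, 3, 2, 1, 5, 4, 3, 1, 2, 3, 1, 0, 1] (Cert.fail))),
  (1, Cert.step [1, 0, 4, 5, 1, 2, 3, 2, 1, 5, 4, 0, 1] (Cert.step [5, 1, 4, 2, 3, 1, 2, 0, 1, 5, 4, 3, 2] (Cert.fail))),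
  (1, Cert.fail),
  (1, Cert.step [0, 1, 0, 3, 1, 2, 1, 0, 1, 0] (Cert.step [2, 1, 0, 4, 5, 1, 2, 3, 2, 1, 0, 1, 0, 1, 5, 4, 3, 2, 1] (Cert.fail))),
  (1, Cert.step [1, 0, 4, 5, 1, 2, 6, 5, 6, 3, 0, 1, 2, 0, 1, 5, 4, 2] (Cert.step [3, 2, 5, 1, 0, 1, 2, 3, 2, 1, 0, 3, 4, 1, 2, 3, 2, 1, 5, 3, 1] (Cert.fail))),
  (1, Cert.step [1, 0, 2, 6, 1, 0, 1, 6, 1, 5, 1, 6, 3, 2] (Cert.fail)),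
  (1, Cert.step [0, 2, 1, 0, 2, 3, 1, 2, 3] (Cert.fail)),
  (1, Cert.step [1, 0, 1, 2, 3] (Cert.step [0, 3, 2, 1, 3, 4, 3, 2, 3, 2, 4, 1, 2, 3, 0, 1, 0, 1, 2, 3] (Cert.fail))),
  (1, Cert.step [0, 2, 3, 2, 4, 5, 1, 5, 4, 2, 3, 2, 3, 1, 2] (Cert.fail)),
  (1, Cert.step [0, 1, 0, 3, 4, 5, 1, 5, 4, 2, 3, 0] (Cert.step [0, 1, 3, 2, 1, 3, 5, 1, 0, 1, 2, 3, 0, 1, 2, 0, 1, 0, 1] (Cert.fail))),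
  (1, Cert.step [0, 6, 1, 0, 2, 1, 0, 3, 2, 1, 5, 2, 3, 2, 1, 6, 1] (Cert.step [1, 3, 4, 5, 1, 0, 2, 3, 4, 2, 3, 1, 2, 0, 1, 5, 2, 3, 2, 3, 1, 2] (Cert.fail))),
  (1, Cert.step [0, 3, 2, 4, 5, 1, 2, 0, 1, 5, 4, 2, 3, 0] (Cert.step [1, 0, 3, 2, 1, 4, 3, 2, 1, 3, 2, 4, 3, 2, 1, 5, 3, 0, 1, 2, 0, 1, 0, 1, 5] (Cert.fail))),
  (5, Cert.fail),
  (1, Cert.step [1, 0, 1, 0, 3, 2, 3, 1, 0] (Cert.fail)),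
  (1, Cert.step [2, 1, 0, 6, 1, 2, 5, 1, 6, 3, 2, 1, 5, 3, 2, 1, 6, 0, 1] (Cert.step [0, 2, 1, 3, 2, 3, 2, 1, 0, 4, 3, 1, 2, 3, 1, 2, 0, 1, 5, 4, 1, 2, 3, 0, 1] (Cert.fail))),
  (1, Cert.step [0, 1, 4, 3, 2, 1, 3, 2, 6, 5, 6, 4, 3, 1, 2, 0, 1, 5, 3, 4, 2] (Cert.step [1, 2, 3, 4, 5, 1, 0, 2, 3, 2, 1, 0, 1, 2, 3, 2, 1, 5, 4, 0] (Cert.fail))),
  (1, Cert.step [0, 1, 0, 3, 2, 3, 2, 3] (Cert.fail)),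
  (1, Cert.step [0, 1, 3, 2, 1, 0, 1, 3, 0, 1, 2, 0, 1] (Cert.step [3, 2, 3, 2, 1, 4, 3, 2, 3, 5, 2, 1, 5, 4, 2, 3, 2, 1, 0, 1, 5] (Cert.fail))),
  (1, Cert.step [3, 6, 1, 5, 1, 6, 1, 0, 1, 6, 2, 3, 2, 0, 1, 0] (Cert.step [1, 0, 2, 1, 0, 1, 0, 5, 1, 2, 3, 2, 3, 1, 2] (Cert.fail))),
  (1, Cert.step [0, 6, 1, 0, 1, 6, 1, 5, 1, 6, 3, 1, 2] (Cert.step [] (Cert.fail))),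
  (1, Cert.step [0, 6, 1, 2, 3, 5, 1, 2, 3, 6, 0, 1, 5, 2, 1, 6, 1, 2, 3] (Cert.step [4, 3, 2, 3, 2, 1, 0, 4, 1, 2, 3, 1, 2, 3, 4, 3, 1, 0, 1] (Cert.fail))),
  (1, Cert.step [0, 1, 3, 2, 3, 4, 5, 1, 5, 4, 2, 3, 1, 2, 0, 1] (Cert.step [3, 2, 3, 5, 1, 0, 1, 2, 1, 3, 2, 1, 4, 3, 2, 1, 5, 3, 1, 2, 3, 2, 1, 0, 1] (Cert.fail))),
  (1, Cert.step [1, 0, 3, 2, 3, 1, 0, 1, 2, 3, 1, 0] (Cert.step [3, 2, 3, 2, 5, 1, 0, 1, 2, 3, 2, 4, 3, 1, 5, 2, 1, 0, 1, 5, 1, 0] (Cert.fail))),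
  (1, Cert.step [0, 1, 0, 4, 5, 1, 5, 4, 2, 3, 1, 2, 0] (Cert.step [0, 3, 2, 5, 1, 0, 2, 5, 4, 1, 2, 3, 2, 3, 4, 1, 2, 3, 0, 1] (Cert.fail))),
  (1, Cert.step [1, 0, 4, 5, 1, 2, 3, 6, 5, 6, 4, 2, 3, 2, 1, 0, 1, 5, 0] (Cert.step [1, 0, 2, 1, 3, 4, 5, 1, 0, 1, 2, 1, 0, 3, 2, 1, 5, 4, 0, 1, 2] (Cert.fail))),
  (1, Cert.step [2, 1, 0, 1, 0, 3, 2, 3, 1, 2, 0] (Cert.fail)),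
  (1, Cert.step [0, 1, 0, 2, 3, 2, 6, 1, 0, 1, 6, 1, 5, 1, 6, 3] (Cert.step [0, 5, 1, 0, 2, 1, 5, 4, 3, 1, 2, 3, 1, 2, 0, 1, 5, 4, 2, 3, 2] (Cert.fail))),
  (1, Cert.step [0, 6, 1, 0, 1, 6, 1, 5, 1, 6, 3, 2] (Cert.fail)),
  (1, Cert.fail),
  (1, Cert.step [0, 2, 1, 3, 2, 4, 5, 1, 5, 4, 2, 3, 2, 0] (Cert.step [1, 0, 2, 1, 0, 1, 0, 5, 1, 2, 3, 2, 3, 1, 2] (Cert.fail))),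
  (1, Cert.step [1, 3, 2, 3, 2, 4, 5, 1, 5, 4, 0, 1, 0] (Cert.step [1, 3, 4, 5, 1, 0, 2, 3, 4, 2, 3, 1, 2, 0, 1, 5, 2, 3, 2, 3, 1, 2] (Cert.fail))),
  (1, Cert.fail),
  (1, Cert.step [0, 1, 0, 3, 2, 3, 1, 0] (Cert.fail)),
  (1, Cert.step [0, 3, 2, 4, 5, 1, 5, 4, 1, 0, 1, 2, 3, 1, 0] (Cert.step [3, 2, 4, 3, 2, 5, 1, 3, 4, 2, 3, 2, 0, 1, 5, 2, 3, 4, 3, 2, 3] (Cert.fail))),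
  (1, Cert.fail),
  (1, Cert.step [1, 0, 3, 2, 3, 1, 2, 1, 0, 1, 0] (Cert.step [3, 2, 3, 2, 5, 1, 0, 1, 2, 3, 2, 4, 3, 1, 5, 2, 1, 0, 1, 5, 1, 0] (Cert.fail))),
  (1, Cert.step [1, 0, 2, 1, 0, 4, 5, 1, 5, 4, 2, 3, 1, 2, 0] (Cert.step [1, 0, 2, 1, 3, 4, 5, 1, 0, 1, 2, 1, 0, 3, 2, 1, 5, 4, 0, 1, 2] (Cert.fail))),
  (1, Cert.step [0, 1, 4, 3, 2, 1, 3, 2, 6, 5, 6, 4, 3, 1, 2, 0, 1, 5, 3, 4] (Cert.step [2, 1, 0, 1, 2, 5, 1, 2, 3, 4, 3, 2, 1, 5, 3, 1, 2, 1] (Cert.fail))),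
  (1, Cert.step [2, 1, 0, 1, 0, 3, 2, 3, 1, 0] (Cert.step [1, 2, 4, 3, 2, 5, 1, 0, 1, 2, 3, 4, 3, 2, 3, 1, 2, 0, 1, 5, 2, 3, 4, 3, 2] (Cert.fail))),
  (1, Cert.step [2, 1, 6, 5, 1, 0, 2, 1, 0, 1, 3, 2, 1, 5, 3, 2, 1, 6, 2, 0] (Cert.step [0, 3, 4, 5, 1, 0, 1, 2, 3, 4, 5, 2, 0, 1, 0, 1, 5, 2, 3, 2, 3] (Cert.fail))),
  (1, Cert.step [1, 0, 3, 2, 3, 4, 5, 1, 5, 4, 2, 3, 1, 2, 3] (Cert.fail)),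
  (1, Cert.step [1, 0, 1, 0, 3, 2, 3, 2, 3] (Cert.step [4, 3, 2, 3, 4, 5, 1, 0, 2, 3, 4, 1, 0, 1, 5, 2, 3, 4, 0, 1, 0, 1] (Cert.fail))),
  (1, Cert.step [0, 2, 3, 2, 4, 5, 1, 4, 2, 3, 2, 1, 0, 1, 5] (Cert.step [0, 5, 1, 0, 2, 1, 5, 2, 3, 1, 2, 1, 0, 1, 5, 0] (Cert.fail))),
  (1, Cert.step [0, 1, 2, 6, 1, 5, 1, 6, 1, 0, 1, 6, 3, 2, 0, 1, 0] (Cert.step [0, 1, 0, 1, 2, 1, 0, 3, 2, 1, 5, 1, 2, 4, 3, 0, 1, 2, 0, 1, 5, 4, 3] (Cert.fail))),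
  (1, Cert.step [3, 2, 1, 3, 2, 4, 5, 1, 5, 4, 2, 3, 2, 3, 1] (Cert.step [0, 4, 3, 2, 1, 0, 1, 2, 3, 2, 5, 1, 4, 3, 2, 1, 5, 3, 4, 3, 2] (Cert.fail))),
  (1, Cert.fail),
  (1, Cert.step [3, 2, 3, 2, 4, 5, 1, 5, 4, 0, 1, 2, 0] (Cert.fail)),
  (2, Cert.fail),
  (1, Cert.step [0, 1, 0, 1, 2, 1, 3, 0, 1, 2, 0] (Cert.step [0, 2, 3, 2, 1, 0, 4, 3, 2, 1, 0, 3, 2, 5, 3, 4, 1, 2, 3, 2, 1, 5, 3, 4, 3, 2] (Cert.fail))),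
  (1, Cert.step [3, 2, 1, 3, 2, 3, 0, 1, 2, 0, 1, 0] (Cert.fail)),
  (1, Cert.step [3, 2, 3, 2, 4, 5, 1, 5, 4, 0, 1, 2, 0, 1] (Cert.step [2, 3, 2, 3, 4, 3, 5, 1, 0, 2, 1, 3, 4, 5, 2, 0, 1, 0, 1, 5, 2, 3, 4] (Cert.fail))),
  (1, Cert.step [3, 2, 3, 5, 1, 2, 6, 1, 0, 5, 1, 0, 1, 6, 1, 2, 3, 1] (Cert.fail)),
  (2, Cert.fail),
  (1, Cert.step [1, 0, 3, 2, 3, 4, 5, 1, 5, 4, 0, 1, 0] (Cert.step [0, 5, 1, 0, 2, 1, 5, 2, 3, 1, 2, 1, 0, 1, 5, 0] (Cert.fail))),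
  (1, Cert.step [0, 1, 0, 2, 3, 2, 6, 1, 0, 1, 6, 1, 5, 1, 6, 3, 1, 2] (Cert.step [2, 1, 3, 2, 3, 4, 5, 1, 0, 1, 2, 3, 2, 0, 1, 0, 1, 5, 4, 2, 3, 1, 2] (Cert.fail))),
  (1, Cert.step [0, 1, 3, 2, 1, 0, 1, 3, 2, 3, 0, 1] (Cert.step [2, 3, 2, 4, 3, 5, 1, 2, 3, 2, 1, 5, 4, 1, 2, 3, 2, 1, 5, 3, 4, 2, 3, 2] (Cert.fail))),
  (1, Cert.step [1, 0, 4, 5, 1, 2, 3, 6, 5, 6, 4, 2, 3, 2, 1, 0, 1, 5, 2, 0] (Cert.step [2, 3, 2, 4, 5, 1, 0, 2, 1, 3, 2, 3, 2, 4, 1, 2, 3, 2, 1, 0, 1, 5, 0] (Cert.fail))),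
  (1, Cert.step [0, 3, 2, 3, 1, 0, 1, 2, 3, 1, 0] (Cert.step [5, 1, 4, 2, 3, 1, 2, 0, 1, 5, 4, 3, 2] (Cert.fail))),
  (1, Cert.step [0, 3, 2, 4, 5, 1, 0, 2, 1, 5, 4, 2, 3, 2, 0] (Cert.step [2, 3, 4, 5, 1, 0, 2, 1, 3, 2, 4, 1, 5] (Cert.fail))),
  (1, Cert.fail),
  (1, Cert.step [1, 0, 3, 2, 4, 5, 1, 2, 0, 1, 5, 4, 2, 3, 0] (Cert.step [0, 4, 3, 2, 1, 0, 1, 2, 3, 2, 5, 1, 4, 3, 2, 0, 1, 5, 3, 4, 1, 2] (Cert.fail))),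
  (1, Cert.step [1, 0, 1, 3, 2, 4, 5, 1, 5, 4, 2, 3, 0, 1] (Cert.step [5, 1, 0, 2, 3, 2, 1, 4, 3, 2, 5, 3, 2, 1, 0, 1, 5, 2, 3] (Cert.fail))),
  (1, Cert.step [1, 0, 1, 0, 3, 2, 3, 2, 3] (Cert.step [2, 3, 4, 5, 1, 0, 2, 1, 3, 2, 4, 1, 5] (Cert.fail))),
  (2, Cert.fail),
  (1, Cert.step [0, 1, 3, 2, 4, 5, 1, 5, 4, 2, 3, 0] (Cert.fail)),
  (1, Cert.fail),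
  (1, Cert.step [0, 1, 0, 4, 5, 1, 0, 2, 1, 5, 4, 2, 3, 2, 0] (Cert.step [1, 4, 3, 5, 1, 2, 3, 2, 1, 0, 1, 2, 4, 3, 2, 1, 0, 1, 5, 3, 4, 3, 2, 0] (Cert.fail))),
  (1, Cert.step [1, 0, 3, 2, 4, 5, 1, 5, 4, 2, 3, 2, 3] (Cert.step [0, 4, 5, 1, 2, 3, 2, 1, 0, 3, 4, 3, 1, 2, 3, 2, 1, 5, 4, 3, 1] (Cert.fail))),
  (1, Cert.step [0, 3, 2, 3, 1, 2, 1, 0, 1, 0] (Cert.step [0, 3, 5, 1, 0, 2, 3, 4, 1, 2, 3, 2, 1, 0, 1, 5, 4, 2, 3, 1] (Cert.fail))),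
  (1, Cert.fail),
  (1, Cert.step [0, 6, 1, 0, 2, 1, 0, 3, 2, 1, 5, 2, 3, 2, 1, 6, 2] (Cert.fail)),
  (1, Cert.step [1, 0, 3, 2, 3, 2, 3, 1, 0, 1] (Cert.step [2, 3, 2, 1, 4, 3, 2, 1, 3, 2, 1, 0, 5, 1, 4, 3, 2, 3, 0, 1, 2, 3, 0, 1, 2, 3, 4, 0] (Cert.fail))),
  (1, Cert.step [1, 0, 3, 2, 4, 5, 1, 5, 4, 2, 3, 2, 3, 1] (Cert.fail)),
  (1, Cert.step [0, 3, 2, 3, 4, 5, 1, 5, 4, 2, 3, 1, 2, 3] (Cert.step [0, 2, 3, 4, 5, 1, 0, 2, 3, 2, 1, 0, 2, 1, 5, 4, 3, 2, 3, 1, 2, 3, 4, 3, 0, 1] (Cert.fail))),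
  (1, Cert.step [1, 3, 2, 3, 2, 4, 5, 1, 2, 0, 1, 0, 1, 5, 4] (Cert.fail)),
  (1, Cert.step [0, 1, 0, 4, 5, 1, 5, 4, 1, 2, 1, 0, 1, 0] (Cert.step [0, 5, 1, 0, 2, 1, 5, 2, 3, 1, 2, 1, 0, 1, 5, 0] (Cert.fail))),
  (1, Cert.step [2, 1, 0, 1, 0, 3, 2, 3, 1, 0] (Cert.step [1, 0, 3, 2, 1, 4, 3, 2, 1, 3, 2, 4, 3, 2, 1, 5, 3, 0, 1, 2, 0, 1, 0, 1, 5] (Cert.fail))),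
  (1, Cert.step [0, 3, 2, 3, 4, 5, 1, 5, 4, 0, 1, 0] (Cert.fail)),
  (1, Cert.step [3, 2, 4, 5, 1, 0, 2, 6, 5, 6, 3, 2, 1, 5, 4, 0] (Cert.step [0, 2, 3, 2, 1, 0, 4, 3, 2, 1, 0, 3, 2, 5, 3, 4, 1, 2, 3, 2, 1, 5, 3, 4, 3, 2] (Cert.fail))),
  (1, Cert.step [0, 1, 3, 2, 4, 5, 1, 5, 4, 0, 1, 0, 1, 2] (Cert.step [3, 2, 3, 2, 1, 4, 3, 2, 3, 5, 2, 1, 5, 4, 2, 3, 2, 1, 0, 1, 5] (Cert.fail))),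
  (1, Cert.fail),
  (1, Cert.step [0, 3, 2, 4, 5, 1, 5, 4, 1, 0, 1, 2, 3, 1, 0] (Cert.step [0, 4, 5, 1, 0, 2, 3, 4, 1, 5, 0, 1, 2, 0, 1, 5, 0] (Cert.fail))),
  (1, Cert.step [2, 1, 6, 5, 1, 0, 2, 1, 0, 1, 3, 2, 1, 5, 3, 2, 1, 6, 2, 0, 1] (Cert.fail)),
  (1, Cert.step [0, 1, 0, 4, 5, 1, 0, 2, 1, 5, 4, 2, 3, 2, 0, 1] (Cert.step [2, 3, 4, 3, 2, 1, 0, 5, 2, 3, 1, 0, 1, 2, 3, 4, 2, 3, 2, 1] (Cert.fail))),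
  (1, Cert.step [0, 6, 1, 2, 5, 1, 0, 1, 5, 2, 1, 6, 0] (Cert.step [0, 2, 5, 1, 0, 2, 1, 3, 2, 3, 2, 4, 5, 3, 2, 3, 1, 2, 0, 1, 5, 3, 2, 0] (Cert.fail))),
  (1, Cert.step [1, 0, 4, 5, 1, 2, 6, 5, 6, 3, 4, 3, 2, 3, 2, 1, 5, 2, 0] (Cert.step [4, 5, 1, 0, 2, 3, 2, 1, 5, 2, 3, 1, 2, 0, 1, 0, 1, 2, 3, 4] (Cert.fail))),
  (1, Cert.step [0, 1, 0, 3, 2, 3, 1, 2, 0, 1] (Cert.step [3, 2, 5, 1, 0, 1, 2, 3, 2, 1, 0, 1, 4, 2, 3, 2, 1, 5, 3, 2, 1] (Cert.fail))),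
  (1, Cert.step [0, 1, 4, 3, 2, 5, 6, 1, 0, 5, 1, 0, 1, 6, 3, 2, 3, 4, 3, 1, 2, 1] (Cert.step [1, 2, 1, 4, 5, 1, 0, 1, 2, 3, 2, 3, 5, 1, 0, 1, 5, 1, 2, 3, 4, 3, 2] (Cert.fail))),
  (1, Cert.step [0, 1, 0, 3, 2, 3, 2, 3] (Cert.step [1, 4, 3, 5, 1, 2, 3, 2, 1, 4, 3, 0, 1, 2, 3, 2, 1, 5, 4, 0, 1, 2] (Cert.fail))),
  (1, Cert.step [0, 1, 3, 2, 1, 0, 1, 4, 5, 1, 5, 4, 2, 3, 2, 0, 1] (Cert.step [0, 1, 0, 1, 4, 3, 2, 3, 2, 1, 0, 1, 4, 3, 2, 1, 0, 1, 5, 3, 1, 2, 3, 0] (Cert.fail))),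
  (1, Cert.fail),
  (1, Cert.step [0, 1, 0, 2, 3, 6, 1, 2, 5, 1, 6, 5, 1, 0, 1, 2, 0, 1, 5, 6] (Cert.step [2, 3, 2, 4, 3, 5, 1, 2, 3, 2, 1, 5, 4, 1, 2, 3, 2, 1, 5, 3, 4, 2, 3, 2] (Cert.fail))),
  (1, Cert.step [0, 3, 2, 3, 0, 1, 2, 0, 1, 0] (Cert.step [3, 2, 4, 5, 1, 0, 1, 0, 2, 3, 4, 2, 1, 0, 1, 5, 1, 2, 3, 2, 3, 1, 0, 1] (Cert.fail))),
  (2, Cert.fail),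
  (1, Cert.step [1, 0, 1, 2, 3, 1] (Cert.fail)),
  (1, Cert.step [1, 3, 2, 3, 2, 4, 5, 1, 5, 4, 0, 1, 0, 1] (Cert.step [0, 1, 0, 1, 4, 3, 2, 3, 2, 1, 0, 1, 4, 3, 2, 1, 0, 1, 5, 3, 1, 2, 3, 0] (Cert.fail))),
  (1, Cert.step [3, 4, 3, 2, 5, 1, 2, 3, 4, 6, 5, 6, 2, 3, 1, 2, 3, 4, 2, 3] (Cert.step [2, 3, 2, 1, 0, 4, 3, 2, 1, 3, 2, 4, 3, 5, 4, 2, 3, 1, 2, 3, 4, 3, 0, 1, 2, 3, 2] (Cert.fail))),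
  (1, Cert.fail),
  (1, Cert.step [0, 1, 0, 2, 1, 0, 3, 2, 3, 1, 2, 3] (Cert.fail)),
  (1, Cert.fail),
  (1, Cert.step [0, 1, 4, 3, 5, 1, 0, 1, 2, 3, 2, 1, 0, 1, 5, 3, 4, 3, 1, 2, 0, 1] (Cert.step [0, 4, 5, 1, 0, 2, 1, 3, 2, 1, 0, 1, 5, 4, 3, 2, 3, 1, 2] (Cert.fail))),
  (1, Cert.step [0, 1, 4, 3, 2, 5, 6, 1, 0, 5, 1, 0, 1, 6, 3, 2, 3, 4, 3] (Cert.step [2, 3, 2, 4, 3, 5, 1, 2, 3, 2, 1, 5, 4, 1, 2, 3, 2, 1, 5, 3, 4, 2, 3, 2] (Cert.fail))),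
  (1, Cert.step [5, 1, 0, 1, 2, 3, 2, 4, 1, 5, 4, 2, 3, 0, 1, 2] (Cert.fail)),
  (1, Cert.step [0, 1, 4, 3, 2, 5, 6, 1, 0, 5, 1, 0, 1, 6, 3, 2, 3, 4, 3] (Cert.step [1, 2, 1, 0, 1, 0, 5, 1, 2, 3, 4, 1, 2, 3, 2, 1, 5, 4, 2, 3, 2] (Cert.fail))),
  (1, Cert.step [0, 1, 0, 3, 4, 5, 1, 5, 4, 2, 3, 0, 1, 2] (Cert.step [4, 3, 2, 1, 3, 0, 1, 2, 0, 1, 5, 2, 3, 1, 2, 3, 4, 2] (Cert.fail))),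
  (1, Cert.step [1, 3, 2, 3, 2, 4, 3, 2, 5, 1, 2, 1, 5, 1, 2, 3, 4, 2, 3, 0] (Cert.step [1, 3, 5, 1, 2, 3, 2, 1, 4, 3, 0, 1, 2, 3, 2, 1, 0, 1, 5, 2, 3] (Cert.fail))),
  (2, Cert.fail),
  (1, Cert.step [3, 2, 4, 5, 1, 0, 2, 6, 5, 6, 3, 2, 1, 5, 4, 2, 0] (Cert.step [1, 2, 1, 3, 4, 3, 2, 1, 5, 1, 2, 3, 4, 2, 3, 0, 1, 2, 3, 4, 2, 3, 1] (Cert.fail))),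
  (1, Cert.step [0, 1, 0, 2, 3, 2, 6, 1, 0, 1, 6, 1, 5, 1, 6, 3] (Cert.step [0, 2, 5, 1, 0, 2, 1, 3, 2, 3, 2, 4, 1, 5, 1, 0, 1, 2, 3, 2, 1, 5, 2, 0] (Cert.fail))),
  (1, Cert.step [0, 3, 2, 3, 1, 2, 1, 0, 1, 0] (Cert.step [0, 4, 5, 1, 0, 2, 3, 2, 4, 3, 1, 2, 3, 4, 2, 3, 1, 2, 0, 1, 5, 1, 2] (Cert.fail))),
  (1, Cert.step [1, 3, 2, 3, 2, 4, 5, 1, 5, 4, 2, 3, 1, 2, 3] (Cert.step [2, 4, 3, 2, 5, 1, 2, 3, 2, 1, 0, 4, 3, 5, 2, 1, 5, 2, 3, 1, 2, 3, 4] (Cert.fail))),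
  (1, Cert.step [0, 6, 1, 0, 1, 6, 1, 5, 1, 6, 3, 1, 2] (Cert.step [2, 5, 1, 0, 1, 2, 3, 2, 1, 5, 1, 4, 3, 2, 3, 4, 0, 1, 2, 3, 0, 1, 2, 1] (Cert.fail))),
  (1, Cert.step [0, 1, 0, 4, 5, 1, 4, 2, 3, 2, 1, 0, 1, 5] (Cert.step [0, 1, 0, 1, 2, 1, 0, 3, 2, 1, 5, 1, 2, 4, 3, 0, 1, 2, 0, 1, 5, 4, 3] (Cert.fail))),
  (1, Cert.step [2, 1, 0, 1, 2, 3] (Cert.step [3, 2, 1, 3, 4, 5, 1, 0, 1, 2, 5, 3, 4, 2, 3, 2, 1, 0, 1, 5, 0, 1, 2] (Cert.fail))),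
  (1, Cert.step [0, 1, 3, 2, 3, 4, 5, 1, 5, 4, 2, 3, 1, 0, 1, 2] (Cert.step [4, 5, 1, 0, 2, 3, 2, 1, 5, 2, 3, 1, 2, 0, 1, 0, 1, 2, 3, 4] (Cert.fail))),
  (1, Cert.step [2, 1, 6, 5, 1, 0, 2, 1, 0, 1, 3, 2, 1, 5, 3, 2, 1, 6, 2, 0] (Cert.fail)),
  (1, Cert.step [0, 1, 0, 2, 3, 6, 1, 2, 5, 1, 6, 5, 1, 0, 1, 2, 0, 1, 5, 6] (Cert.step [2, 3, 4, 5, 1, 0, 2, 1, 3, 2, 4, 1, 5] (Cert.fail))),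
  (1, Cert.step [0, 1, 2, 6, 1, 5, 1, 6, 1, 0, 1, 6, 2, 0] (Cert.step [0, 3, 2, 5, 1, 0, 2, 5, 4, 1, 2, 3, 2, 3, 4, 1, 2, 3, 0, 1] (Cert.fail))),
  (1, Cert.step [1, 0, 4, 5, 1, 2, 6, 5, 6, 3, 0, 1, 2, 0, 1, 5, 4, 2] (Cert.step [0, 1, 0, 2, 1, 4, 3, 2, 3, 2, 1, 0, 1, 5, 4, 3, 1, 2, 3, 4, 1] (Cert.fail))),
  (1, Cert.step [0, 1, 2, 3, 4, 5, 1, 2, 3, 2, 1, 5, 4, 1, 2] (Cert.step [2, 1, 3, 5, 1, 0, 1, 5, 2] (Cert.fail))),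
  (1, Cert.fail),
  (1, Cert.step [0, 1, 3, 2, 4, 5, 1, 5, 4, 0, 1, 2, 0, 1] (Cert.fail)),
  (1, Cert.fail),
  (1, Cert.step [0, 1, 0, 2, 3, 6, 1, 2, 5, 1, 6, 5, 1, 0, 1, 2, 0, 1, 5, 6] (Cert.step [2, 3, 4, 3, 2, 3, 2, 4, 5, 1, 0, 2, 1, 3, 5, 2, 3, 4, 3, 2, 3, 1, 0, 1] (Cert.fail))),
  (1, Cert.step [0, 1, 4, 3, 2, 5, 6, 1, 0, 5, 1, 0, 1, 6, 3, 2, 3, 4, 3] (Cert.step [2, 1, 0, 4, 5, 1, 2, 3, 2, 1, 0, 3, 4, 1, 2, 3, 2, 1, 5, 3, 4, 1] (Cert.fail))),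
  (1, Cert.step [3, 2, 1, 3, 2, 3, 2, 3, 1, 2, 0] (Cert.step [0, 2, 3, 2, 1, 4, 3, 2, 1, 5, 1, 3, 2, 0, 1, 5, 4, 0, 1, 0] (Cert.fail))),
  (1, Cert.step [3, 2, 1, 3, 2, 3, 2, 3, 1, 2, 0] (Cert.step [1, 0, 2, 1, 3, 4, 5, 1, 0, 1, 2, 3, 1, 2, 1, 0, 1, 5, 4, 3, 2, 0] (Cert.fail))),
  (1, Cert.step [0, 1, 3, 2, 1, 0, 1, 2, 3, 2, 3] (Cert.fail)),
  (1, Cert.step [0, 1, 3, 2, 1, 0, 1, 3, 2, 3, 0, 1] (Cert.fail)),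
  (1, Cert.fail),
  (1, Cert.step [0, 1, 0, 2, 3, 6, 1, 2, 5, 1, 6, 5, 1, 0, 1, 2, 0, 1, 5, 6] (Cert.step [2, 1, 3, 4, 5, 1, 2, 3, 2, 1, 0, 3, 2, 4, 3, 2, 1, 5, 1, 2, 3, 1, 2, 3, 4] (Cert.fail))),
  (1, Cert.fail),
  (1, Cert.step [2, 1, 0, 1, 0, 3, 2, 3, 1, 0] (Cert.step [4, 3, 2, 1, 3, 0, 1, 2, 0, 1, 5, 2, 3, 1, 2, 3, 4, 2] (Cert.fail))),
  (1, Cert.step [1, 0, 6, 1, 2, 5, 1, 6, 3, 2, 1, 5, 3, 2, 1, 6, 0, 1, 2] (Cert.step [1, 0, 2, 1, 0, 1, 4, 3, 2, 1, 5, 3, 4, 3, 2, 3, 2, 1, 0, 1, 5, 2] (Cert.fail))),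
  (1, Cert.step [0, 1, 3, 2, 4, 5, 1, 5, 4, 0, 1, 0] (Cert.step [0, 1, 0, 5, 1, 0, 2, 1, 0, 3, 2, 5, 4, 3, 1, 2, 3, 4, 3, 0, 1, 2, 3, 0] (Cert.fail)))]),
  (130, Cert.bad 0),
  (1, Cert.rl [(1, Cert.step [1, 3, 2, 3, 2, 4, 3, 2, 5, 1, 2, 1, 5, 1, 2, 3, 4, 2, 3, 0] (Cert.step [0, 2, 3, 4, 5, 1, 0, 1, 2, 1, 3, 2, 1, 0, 1, 5, 4, 3, 1, 2, 0, 1] (Cert.fail))),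
  (1, Cert.fail),
  (1, Cert.step [1, 0, 4, 5, 1, 2, 3, 6, 5, 2, 1, 5, 0, 1, 0, 1, 6, 4, 3] (Cert.step [1, 3, 4, 5, 1, 0, 2, 3, 4, 2, 3, 1, 2, 0, 1, 5, 2, 3, 2, 3, 1, 2] (Cert.fail))),
  (1, Cert.step [2, 4, 3, 5, 1, 0, 2, 1, 6, 5, 6, 2, 3, 1, 2, 3, 4, 1, 0] (Cert.step [1, 2, 3, 2, 4, 3, 2, 1, 0, 1, 3, 2, 5, 0, 1, 2, 3, 4, 3, 2] (Cert.fail))),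
  (1, Cert.fail),
  (1, Cert.step [0, 1, 3, 2, 3, 2, 3, 1, 2, 3] (Cert.step [0, 1, 4, 3, 2, 1, 0, 1, 5, 2, 3, 1, 2, 3, 4, 3, 2] (Cert.fail))),
  (1, Cert.fail),
  (1, Cert.step [1, 0, 3, 2, 4, 5, 1, 2, 0, 1, 5, 4, 2, 3, 0] (Cert.fail)),
  (2, Cert.fail),
  (1, Cert.step [0, 1, 3, 2, 1, 0, 1, 4, 5, 1, 5, 4, 2, 3, 2, 0] (Cert.fail)),
  (1, Cert.step [0, 1, 2, 6, 1, 5, 1, 6, 1, 0, 1, 6, 0, 1] (Cert.step [0, 1, 0, 4, 5, 1, 0, 2, 3, 1, 5, 1, 2, 3, 4, 1, 2, 3, 2, 0] (Cert.fail))),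
  (1, Cert.fail),
  (1, Cert.step [0, 1, 3, 2, 1, 0, 1, 3, 2, 3, 0] (Cert.fail)),
  (1, Cert.fail),
  (1, Cert.step [0, 1, 0, 4, 5, 1, 5, 4, 1, 2, 1, 0, 1, 0] (Cert.step [1, 0, 3, 2, 1, 0, 5, 1, 0, 1, 2, 1, 4, 3, 2, 3, 4, 3, 1, 2, 3, 1, 2, 0] (Cert.fail))),
  (1, Cert.fail),
  (1, Cert.step [1, 0, 3, 2, 4, 5, 1, 5, 4, 2, 3, 2, 3, 1, 2] (Cert.fail)),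
  (1, Cert.step [0, 3, 2, 3, 1, 2, 0, 1, 0, 1, 0] (Cert.step [3, 2, 5, 1, 0, 1, 2, 3, 2, 1, 0, 1, 4, 2, 3, 2, 1, 5, 3, 2, 1] (Cert.fail))),
  (1, Cert.step [0, 1, 0, 4, 5, 1, 5, 4, 2, 3, 2, 3] (Cert.fail)),
  (1, Cert.step [0, 1, 0, 3, 1, 2, 1, 0, 1, 0] (Cert.step [0, 5, 1, 0, 1, 2, 1, 3, 2, 4, 3, 2, 5, 1, 0, 1, 5, 4, 3, 2, 3, 1, 2] (Cert.fail))),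
  (1, Cert.step [1, 0, 1, 0, 3, 2, 3, 1, 0, 1, 2] (Cert.step [1, 2, 3, 4, 3, 2, 1, 0, 3, 5, 1, 2, 3, 4, 1, 2, 3, 1, 2, 3, 4, 3, 1, 0, 1] (Cert.fail))),
  (1, Cert.step [3, 2, 3, 5, 1, 2, 6, 1, 0, 5, 1, 0, 1, 6, 0] (Cert.step [0, 4, 5, 1, 0, 2, 3, 2, 4, 3, 1, 2, 3, 4, 2, 3, 1, 2, 0, 1, 5, 1, 2] (Cert.fail))),
  (1, Cert.step [3, 2, 4, 5, 1, 0, 2, 6, 5, 6, 3, 2, 1, 5, 4, 0] (Cert.step [2, 3, 2, 1, 0, 4, 3, 2, 3, 4, 5, 1, 5, 0, 1, 2, 3, 2, 3, 4, 3, 1, 2, 0] (Cert.fail))),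
  (1, Cert.step [0, 1, 2, 1, 0, 1, 0, 2, 3, 2, 3] (Cert.step [1, 0, 1, 3, 2, 3, 2, 4, 3, 1, 0, 1, 5, 2, 3, 4, 2, 3, 1, 2, 3, 0] (Cert.fail))),
  (1, Cert.step [1, 0, 3, 2, 3, 4, 5, 1, 2, 0, 1, 0, 1, 5, 4] (Cert.fail)),
  (1, Cert.step [0, 1, 3, 2, 4, 5, 1, 5, 4, 0, 1, 0, 1] (Cert.step [0, 2, 3, 4, 5, 1, 0, 1, 2, 1, 0, 3, 2, 1, 5, 4, 3, 2, 0, 1, 0, 1, 5, 2, 3, 2, 0] (Cert.fail))),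
  (1, Cert.step [0, 2, 3, 2, 4, 5, 1, 5, 4, 2, 3, 2, 3, 1, 2] (Cert.step [] (Cert.fail))),
  (1, Cert.fail),
  (1, Cert.step [3, 2, 1, 3, 2, 3, 0, 1, 2, 0, 1, 0] (Cert.step [4, 3, 2, 1, 3, 5, 4, 1, 0, 1, 2, 3, 2, 3, 4, 3, 1, 0, 1] (Cert.fail))),
  (1, Cert.step [0, 1, 2, 4, 3, 2, 3, 6, 1, 0, 1, 6, 5, 1, 6, 4, 1, 2, 3, 2, 1, 5, 4, 2, 3, 0] (Cert.step [0, 1, 3, 2, 1, 3, 5, 1, 0, 1, 2, 3, 0, 1, 2, 0, 1, 0, 1] (Cert.fail))),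
  (1, Cert.step [0, 3, 2, 4, 5, 1, 5, 4, 2, 3, 2, 3, 1] (Cert.step [1, 2, 3, 2, 1, 0, 5, 1, 0, 2, 1, 0, 3, 4, 3, 2, 3, 2, 1, 0, 1, 5, 0] (Cert.fail))),
  (1, Cert.fail),
  (1, Cert.step [3, 2, 1, 2, 0] (Cert.step [3, 2, 3, 2, 1, 4, 3, 2, 3, 5, 2, 1, 5, 4, 2, 3, 2, 1, 0, 1, 5] (Cert.fail))),
  (1, Cert.step [0, 1, 3, 2, 1, 0, 1, 2, 3, 2, 3, 1] (Cert.step [3, 2, 4, 3, 2, 5, 1, 4, 2, 3, 2, 0, 1, 5, 4, 3, 2, 3, 4, 2, 3] (Cert.fail))),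
  (1, Cert.step [1, 0, 5, 1, 2, 3, 2, 3, 4, 3, 0, 1, 2, 0, 1, 5, 4, 1] (Cert.fail)),
  (1, Cert.step [0, 1, 3, 2, 3, 4, 5, 1, 5, 4, 2, 3, 1, 2, 0] (Cert.step [1, 3, 4, 5, 1, 2, 3, 2, 1, 0, 1, 0, 4, 1, 2, 3, 4, 2, 3, 2, 1, 5, 2, 3, 2] (Cert.fail))),
  (1, Cert.step [3, 2, 1, 2, 0] (Cert.step [0, 4, 5, 1, 2, 3, 2, 1, 0, 1, 2, 3, 2, 0, 1, 5, 4, 3, 2, 1] (Cert.fail))),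
  (1, Cert.step [0, 3, 2, 3, 4, 5, 1, 5, 4, 2, 3, 0, 1] (Cert.fail)),
  (1, Cert.step [0, 1, 0, 1, 2, 1, 2, 3, 2, 3, 1, 2] (Cert.fail)),
  (1, Cert.step [1, 0, 2, 1, 3, 2, 1, 0, 1, 2, 3, 1, 0] (Cert.step [2, 3, 2, 4, 3, 5, 1, 2, 3, 2, 1, 5, 4, 1, 2, 3, 2, 1, 5, 3, 4, 2, 3, 2] (Cert.fail))),
  (1, Cert.step [2, 1, 0, 1, 0, 3, 2, 3, 1, 0] (Cert.fail)),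
  (1, Cert.step [0, 1, 2, 3] (Cert.step [0, 3, 4, 3, 2, 5, 1, 0, 2, 3, 2, 1, 4, 5, 2, 1, 0, 1, 2, 3, 4, 2, 3, 0] (Cert.fail))),
  (1, Cert.step [0, 6, 1, 0, 1, 6, 1, 5, 1, 6, 3, 2, 1] (Cert.step [0, 1, 0, 2, 1, 4, 3, 2, 3, 2, 1, 4, 0, 1, 2, 3, 0, 1, 2, 3, 4, 1] (Cert.step [2, 1, 3, 2, 5, 1, 0, 1, 0, 5, 4, 2, 3, 2, 1, 0, 1, 5, 4, 2, 3, 1, 2] (Cert.done [2, 1, 3, 2, 5, 1, 0, 1, 0, 5, 4, 2, 3, 2, 1, 0, 1, 5, 4, 2, 3, 1, 2, 0, 1, 0, 2, 1, 4, 3, 2, 3, 2, 1, 4, 0, 1, 2, 3, 0, 1, 2, 3, 4, 1, 0, 6, 1, 0, 1, 6, 1, 5, 1, 6, 3, 2, 1, 0, 1, 0, 1, 6, 1, 2, 3, 2, 1, 4, 3, 6, 5, 1, 2, 6])))),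
  (1, Cert.step [0, 1, 3, 2, 1, 0, 1, 4, 5, 1, 5, 4, 2, 3, 2, 0] (Cert.step [0, 1, 4, 3, 2, 1, 0, 1, 5, 2, 3, 1, 2, 3, 4, 3, 2] (Cert.fail))),
  (1, Cert.step [0, 1, 3, 2, 1, 0, 1, 3, 0, 1, 2, 0, 1] (Cert.step [4, 5, 1, 0, 2, 3, 2, 1, 5, 4, 3, 1, 0, 1, 2, 3, 1, 2, 1] (Cert.fail))),
  (1, Cert.fail),
  (1, Cert.step [0, 6, 1, 0, 1, 6, 1, 5, 1, 6, 3, 2, 1] (Cert.step [0, 2, 1, 5, 1, 2, 3, 2, 4, 3, 2, 3, 1, 0, 1, 5, 1, 2, 3] (Cert.fail))),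
  (1, Cert.fail),
  (1, Cert.step [1, 0, 3, 2, 3, 4, 5, 1, 2, 0, 1, 0, 1, 5, 4] (Cert.step [0, 3, 2, 1, 3, 4, 3, 2, 3, 2, 4, 1, 2, 3, 0, 1, 0, 1, 2, 3] (Cert.fail))),
  (1, Cert.step [0, 1, 0, 1, 2, 1, 3, 2, 3, 0, 1, 2] (Cert.fail)),
  (1, Cert.step [1, 3, 2, 3, 2, 4, 3, 2, 5, 1, 2, 1, 5, 1, 2, 3, 4, 2, 3, 0] (Cert.step [1, 0, 3, 2, 1, 0, 5, 1, 0, 1, 2, 1, 4, 3, 2, 3, 4, 3, 1, 2, 3, 1, 2, 0] (Cert.fail))),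
  (1, Cert.step [2, 1, 4, 6, 1, 2, 3, 5, 1, 6, 2, 1, 5, 3, 2, 1, 6, 4] (Cert.step [1, 2, 1, 3, 4, 3, 2, 1, 5, 1, 2, 3, 4, 2, 3, 0, 1, 2, 3, 4, 2, 3, 1] (Cert.fail))),
  (1, Cert.step [0, 2, 1, 3, 2, 4, 5, 1, 5, 4, 2, 3, 2, 0] (Cert.fail)),
  (1, Cert.step [1, 0, 1, 3, 2, 4, 5, 1, 5, 4, 3, 2, 3, 1, 0] (Cert.step [0, 3, 5, 1, 0, 2, 3, 4, 1, 2, 3, 2, 1, 0, 1, 5, 4, 2, 3, 1] (Cert.fail))),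
  (1, Cert.step [3, 2, 1, 3, 2, 3, 4, 5, 1, 5, 4, 2, 3, 1, 2, 3] (Cert.step [1, 2, 4, 3, 2, 1, 0, 5, 1, 0, 4, 3, 1, 2, 3, 4, 1, 2, 0] (Cert.fail))),
  (1, Cert.step [3, 2, 4, 5, 1, 0, 2, 6, 5, 6, 3, 2, 1, 5, 4, 2, 0, 1] (Cert.step [3, 2, 3, 2, 5, 1, 0, 1, 2, 3, 2, 4, 3, 1, 5, 2, 1, 0, 1, 5, 1, 0] (Cert.fail))),
  (1, Cert.step [1, 0, 4, 5, 1, 2, 6, 5, 6, 3, 2, 0, 1, 5, 4, 2, 3, 2] (Cert.step [2, 1, 0, 1, 3, 2, 1, 3, 5, 1, 0, 2, 1, 4, 3, 2, 3, 4, 3, 1, 2, 3, 0, 1] (Cert.fail))),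
  (1, Cert.step [0, 1, 0, 3, 2, 3, 1, 2, 0, 1] (Cert.step [2, 5, 1, 0, 1, 2, 3, 2, 1, 5, 1, 4, 3, 2, 3, 4, 0, 1, 2, 3, 0, 1, 2, 1] (Cert.fail))),
  (1, Cert.step [3, 2, 4, 5, 1, 0, 2, 3, 6, 5, 6, 2, 1, 5, 4, 3, 2, 0, 1, 0] (Cert.step [0, 1, 0, 1, 2, 3, 2, 4, 3, 2, 1, 0, 3, 2, 1, 5, 4, 3, 1, 2, 3, 1, 0, 1] (Cert.fail))),
  (1, Cert.step [0, 1, 2, 3, 2, 1, 4, 6, 1, 2, 3, 5, 1, 5, 6, 2, 1, 5, 3, 2, 1, 6, 4] (Cert.step [3, 2, 5, 1, 0, 1, 2, 3, 2, 1, 0, 3, 4, 1, 2, 3, 2, 1, 5, 3, 1] (Cert.fail))),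
  (1, Cert.step [0, 1, 4, 3, 2, 5, 6, 1, 0, 5, 1, 0, 1, 6, 3, 2, 3, 4, 3, 1] (Cert.step [1, 2, 4, 3, 2, 5, 1, 0, 1, 2, 3, 4, 3, 2, 3, 1, 2, 0, 1, 5, 2, 3, 4, 3, 2] (Cert.fail))),
  (1, Cert.step [0, 1, 4, 3, 2, 5, 6, 1, 0, 5, 1, 0, 1, 6, 3, 2, 3, 4, 3] (Cert.step [0, 1, 0, 4, 5, 1, 0, 2, 3, 1, 5, 1, 2, 3, 4, 1, 2, 3, 2, 0] (Cert.fail))),
  (1, Cert.step [0, 1, 3, 2, 4, 5, 1, 5, 4, 2, 3, 0] (Cert.fail)),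
  (1, Cert.fail),
  (1, Cert.step [0, 1, 0, 2, 3, 2, 6, 1, 0, 1, 6, 1, 5, 1, 6, 3] (Cert.step [4, 3, 2, 1, 3, 2, 5, 1, 2, 5, 3, 4, 0, 1, 2, 3, 2, 1, 5, 2, 3, 4, 2] (Cert.fail))),
  (1, Cert.step [0, 1, 0, 2, 3, 6, 1, 2, 5, 1, 6, 5, 1, 0, 1, 2, 0, 1, 5, 6] (Cert.fail)),
  (1, Cert.step [3, 2, 1, 6, 1, 0, 5, 1, 0, 1, 6, 5, 3, 2, 3] (Cert.step [1, 2, 3, 4, 3, 2, 3, 2, 4, 5, 1, 2, 0, 1, 5, 1, 2, 3, 2, 3, 4, 3, 2, 1] (Cert.fail))),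
  (1, Cert.step [0, 3, 2, 4, 5, 1, 0, 2, 1, 5, 4, 2, 3, 2, 0, 1] (Cert.step [3, 2, 5, 1, 0, 1, 2, 3, 2, 1, 0, 1, 4, 2, 3, 2, 1, 5, 3, 2, 1] (Cert.fail))),
  (1, Cert.step [0, 1, 0, 1, 2, 1, 2, 3, 2, 3, 1, 2] (Cert.fail)),
  (1, Cert.step [0, 1, 2, 4, 3, 2, 3, 6, 1, 0, 1, 6, 5, 1, 6, 4, 1, 2, 3, 2, 1, 5, 4, 2, 3, 0] (Cert.step [1, 2, 4, 5, 1, 2, 3, 2, 4, 3, 2, 1, 0, 1, 2, 3, 4, 3, 2, 3, 1, 2, 3, 2, 1, 5, 0] (Cert.fail))),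
  (1, Cert.step [0, 3, 2, 3, 4, 5, 1, 5, 4, 0, 1, 2, 0] (Cert.step [4, 5, 1, 0, 2, 3, 2, 1, 5, 4, 3, 1, 0, 1, 2, 3, 1, 2, 1] (Cert.fail))),
  (1, Cert.step [2, 1, 4, 6, 1, 2, 3, 5, 1, 6, 2, 1, 5, 3, 2, 1, 6, 4] (Cert.step [2, 3, 4, 3, 2, 3, 2, 4, 5, 1, 0, 2, 1, 3, 5, 2, 3, 4, 3, 2, 3, 1, 0, 1] (Cert.fail))),
  (1, Cert.fail),
  (1, Cert.step [1, 0, 3, 2, 3, 2, 1, 0, 1, 2, 1, 0] (Cert.step [4, 3, 2, 3, 2, 1, 0, 4, 1, 2, 3, 1, 2, 3, 4, 3, 1, 0, 1] (Cert.fail))),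
  (1, Cert.step [5, 1, 0, 1, 2, 3, 2, 4, 1, 5, 4, 3, 2, 3, 1, 0] (Cert.step [3, 2, 1, 0, 3, 5, 1, 0, 2, 3, 4, 3, 2, 1, 5, 0, 1, 2, 3] (Cert.fail))),
  (1, Cert.step [1, 3, 2, 3, 2, 4, 5, 1, 5, 4, 2, 3, 1, 2, 3] (Cert.fail)),
  (1, Cert.step [1, 0, 4, 5, 1, 2, 6, 5, 6, 3, 2, 0, 1, 5, 4, 2, 3] (Cert.step [0, 2, 3, 2, 1, 4, 3, 2, 1, 5, 1, 3, 2, 0, 1, 5, 4, 0, 1, 0] (Cert.fail))),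
  (1, Cert.step [0, 1, 4, 3, 2, 1, 3, 2, 6, 5, 6, 4, 3, 1, 2, 0, 1, 5, 3, 4] (Cert.fail)),
  (1, Cert.step [0, 1, 3, 2, 3, 4, 5, 1, 5, 4, 2, 3, 1, 0, 1] (Cert.step [1, 0, 3, 2, 1, 0, 5, 1, 0, 1, 2, 1, 4, 3, 2, 3, 4, 3, 1, 2, 3, 1, 2, 0] (Cert.fail))),
  (1, Cert.step [1, 0, 5, 1, 2, 3, 2, 3, 4, 6, 5, 6, 3, 2, 1, 5, 4, 2, 0, 1] (Cert.step [2, 3, 2, 1, 0, 4, 3, 2, 3, 4, 5, 1, 5, 0, 1, 2, 3, 2, 3, 4, 3, 1, 2, 0] (Cert.fail))),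
  (1, Cert.step [1, 3, 2, 3, 2, 4, 5, 1, 5, 4, 0, 1, 0, 1] (Cert.fail)),
  (1, Cert.fail),
  (1, Cert.step [3, 2, 3, 2, 4, 5, 1, 5, 4, 2, 3, 0, 1, 2] (Cert.step [1, 0, 3, 2, 1, 0, 5, 1, 0, 1, 2, 1, 4, 3, 2, 3, 4, 3, 1, 2, 3, 1, 2, 0] (Cert.step [2, 1, 3, 2, 5, 1, 0, 1, 0, 5, 4, 2, 3, 2, 1, 0, 1, 5, 4, 2, 3, 1, 2] (Cert.done [2, 1, 3, 2, 5, 1, 0, 1, 0, 5, 4, 2, 3, 2, 1, 0, 1, 5, 4, 2, 3, 1, 2, 1, 0, 3, 2, 1, 0, 5, 1, 0, 1, 2, 1, 4, 3, 2, 3, 4, 3, 1, 2, 3, 1, 2, 0, 3, 2, 3, 2, 4, 5, 1, 5, 4, 2, 3, 0, 1, 2, 6, 1, 0, 1, 2, 3, 2, 1, 0, 4, 3, 2, 4, 3, 2, 1, 5, 3, 4, 1, 4, 3, 6, 5, 1, 2, 6])))),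
  (2, Cert.fail),
  (1, Cert.step [0, 3, 2, 3, 4, 5, 1, 5, 4, 0, 1, 2, 0] (Cert.fail)),
  (1, Cert.step [0, 1, 3, 2, 4, 5, 1, 5, 4, 0, 1, 2, 0] (Cert.step [4, 5, 1, 0, 1, 2, 3, 4, 0, 1, 2, 3, 2, 1, 5, 0, 1, 2, 3, 4, 2, 3] (Cert.fail))),
  (1, Cert.step [1, 0, 1, 0, 3, 2, 3, 1, 0, 1] (Cert.step [5, 1, 4, 2, 3, 1, 2, 0, 1, 5, 4, 3, 2] (Cert.fail))),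
  (1, Cert.step [0, 1, 0, 3, 2, 3, 1, 0, 1] (Cert.fail)),
  (1, Cert.step [0, 1, 0, 4, 5, 1, 5, 4, 2, 3, 2, 3] (Cert.step [0, 5, 1, 0, 1, 2, 1, 3, 2, 4, 3, 2, 5, 1, 0, 1, 5, 4, 3, 2, 3, 1, 2] (Cert.fail))),
  (1, Cert.step [3, 2, 1, 2, 0] (Cert.fail)),
  (1, Cert.step [0, 1, 4, 3, 2, 5, 6, 1, 0, 5, 1, 0, 1, 6, 3, 2, 3, 4, 3, 1, 2, 1] (Cert.fail)),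
  (1, Cert.step [0, 6, 1, 2, 5, 1, 6, 5, 6, 1, 5, 2, 1, 6, 0] (Cert.step [0, 2, 4, 3, 5, 1, 0, 1, 2, 3, 2, 5, 4, 3, 1, 2, 3, 2, 1, 5, 2, 3, 4, 2, 0] (Cert.fail))),
  (1, Cert.step [3, 4, 3, 2, 5, 1, 2, 3, 4, 6, 5, 6, 2, 3, 1, 2, 3, 4, 2, 3] (Cert.step [1, 2, 1, 4, 5, 1, 0, 1, 5, 3, 2, 1, 0, 1, 2, 3, 4, 3, 2, 1] (Cert.fail))),
  (1, Cert.fail),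
  (1, Cert.step [2, 1, 0, 1, 3, 2, 4, 5, 1, 5, 4, 0, 1, 0] (Cert.step [0, 4, 5, 1, 0, 2, 1, 3, 2, 1, 3, 4, 2, 3, 2, 1, 5, 3, 4, 2, 3, 2] (Cert.fail))),
  (1, Cert.fail),
  (1, Cert.step [1, 0, 1, 0, 3, 4, 5, 1, 5, 4, 2, 3, 0, 1] (Cert.step [1, 2, 3, 4, 5, 1, 0, 2, 3, 2, 1, 0, 1, 2, 3, 2, 1, 5, 4, 0] (Cert.fail))),
  (1, Cert.step [1, 3, 2, 3, 2, 4, 5, 1, 5, 4, 2, 3, 1, 2, 3] (Cert.step [1, 0, 1, 0, 4, 3, 2, 5, 1, 0, 1, 4, 3, 2, 0, 1, 5, 4, 3, 2, 3, 4] (Cert.fail))),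
  (1, Cert.step [0, 1, 3, 2, 3, 4, 5, 1, 5, 4, 2, 3, 1, 0, 1] (Cert.fail)),
  (1, Cert.step [1, 2, 3, 2, 1, 6, 1, 0, 1, 6, 0, 1, 0, 1, 6, 2, 3, 2, 0] (Cert.step [0, 3, 4, 3, 2, 5, 1, 0, 2, 3, 2, 1, 4, 5, 2, 1, 0, 1, 2, 3, 4, 2, 3, 0] (Cert.fail))),
  (1, Cert.step [0, 6, 1, 0, 1, 6, 1, 5, 1, 6, 3, 1, 2, 1] (Cert.step [2, 3, 4, 3, 2, 1, 0, 5, 2, 3, 1, 0, 1, 2, 3, 4, 2, 3, 2, 1] (Cert.fail))),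
  (1, Cert.step [1, 0, 4, 5, 1, 2, 6, 5, 6, 3, 4, 3, 2, 3, 2, 1, 5, 2, 0] (Cert.fail)),
  (1, Cert.step [1, 0, 2, 4, 5, 1, 2, 6, 5, 6, 5, 3, 2, 1, 0, 1, 5, 4, 3, 0] (Cert.step [1, 2, 1, 3, 4, 3, 2, 1, 5, 1, 2, 3, 4, 2, 3, 0, 1, 2, 3, 4, 2, 3, 1] (Cert.fail))),
  (1, Cert.step [0, 1, 0, 2, 3, 2, 6, 1, 0, 1, 6, 1, 5, 1, 6, 3, 1, 2] (Cert.step [0, 3, 4, 5, 1, 0, 1, 2, 3, 4, 5, 2, 0, 1, 0, 1, 5, 2, 3, 2, 3] (Cert.fail))),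
  (1, Cert.fail),
  (1, Cert.step [0, 2, 0, 1] (Cert.fail)),
  (1, Cert.fail),
  (1, Cert.step [1, 0, 4, 5, 1, 2, 6, 5, 6, 3, 2, 0, 1, 5, 4, 2, 3, 2] (Cert.fail)),
  (2, Cert.fail),
  (1, Cert.step [0, 1, 3, 2, 1, 0, 1, 3, 0, 1, 2, 0, 1] (Cert.step [0, 4, 3, 2, 1, 0, 1, 2, 3, 2, 5, 1, 4, 3, 2, 0, 1, 5, 3, 4, 1, 2] (Cert.fail))),
  (1, Cert.step [1, 3, 2, 3, 2, 1, 0, 1, 2, 3, 1, 0] (Cert.step [1, 0, 1, 3, 2, 3, 4, 3, 2, 5, 3, 1, 2, 0, 1, 5, 4, 2, 3, 2, 3, 4, 3, 2] (Cert.fail))),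
  (1, Cert.step [1, 0, 2, 1, 3, 2, 1, 0, 1, 2, 3, 1, 0] (Cert.step [2, 3, 4, 3, 2, 3, 2, 4, 5, 1, 0, 2, 1, 3, 5, 2, 3, 4, 3, 2, 3, 1, 0, 1] (Cert.fail))),
  (1, Cert.step [0, 1, 3, 2, 1, 0, 1, 4, 5, 1, 5, 4, 2, 3, 2, 0, 1] (Cert.step [2, 1, 0, 4, 5, 1, 2, 3, 2, 1, 0, 3, 4, 1, 2, 3, 2, 1, 5, 3, 4, 1] (Cert.fail))),
  (1, Cert.step [3, 2, 3, 2, 4, 5, 1, 5, 4, 2, 3, 0, 1, 2] (Cert.fail)),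
  (1, Cert.step [1, 0, 3, 2, 3, 4, 3, 2, 5, 1, 2, 3, 2, 1, 5, 0, 1, 2, 3, 4, 0] (Cert.step [2, 3, 2, 1, 0, 4, 3, 2, 3, 4, 5, 1, 5, 0, 1, 2, 3, 2, 3, 4, 3, 1, 2, 0] (Cert.fail))),
  (3, Cert.fail),
  (1, Cert.step [5, 1, 0, 1, 2, 3, 2, 4, 1, 5, 4, 0, 1, 0] (Cert.step [2, 3, 4, 3, 2, 1, 0, 5, 2, 3, 1, 0, 1, 2, 3, 4, 2, 3, 2, 1] (Cert.fail))),
  (1, Cert.fail),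
  (1, Cert.step [0, 1, 3, 2, 4, 5, 1, 5, 4, 0, 1, 2, 0] (Cert.step [1, 0, 2, 1, 0, 1, 4, 3, 2, 3, 4, 1, 2, 3, 0, 1, 2, 1] (Cert.fail))),
  (1, Cert.step [0, 6, 1, 0, 1, 5, 0, 1, 6, 2, 1, 5, 3, 2, 3] (Cert.step [0, 1, 2, 1, 3, 2, 1, 3, 2, 4, 0, 1, 5, 3, 2, 3, 4, 1, 2, 3, 1, 0, 1] (Cert.fail))),
  (1, Cert.step [3, 2, 1, 3, 2, 3, 2, 3, 1, 0, 1] (Cert.step [1, 5, 1, 2, 3, 4, 3, 2, 1, 5, 2, 1] (Cert.fail))),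
  (1, Cert.step [2, 1, 0, 6, 1, 2, 5, 1, 6, 3, 2, 1, 5, 3, 2, 1, 6, 0, 1] (Cert.step [1, 5, 1, 2, 3, 4, 3, 2, 1, 5, 2, 1] (Cert.fail))),
  (1, Cert.step [3, 2, 4, 5, 1, 0, 2, 6, 5, 6, 3, 2, 1, 5, 4, 0] (Cert.step [4, 3, 2, 1, 3, 5, 4, 1, 0, 1, 2, 3, 2, 3, 4, 3, 1, 0, 1] (Cert.fail))),
  (1, Cert.step [1, 0, 1, 0, 3, 2, 3, 2, 3, 1] (Cert.step [0, 4, 5, 1, 2, 3, 2, 1, 0, 1, 2, 3, 2, 0, 1, 5, 4, 3, 2, 1] (Cert.fail))),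
  (1, Cert.step [5, 1, 0, 1, 2, 3, 2, 4, 1, 5, 4, 0, 1, 0] (Cert.step [0, 5, 1, 0, 2, 1, 5, 4, 3, 1, 2, 3, 1, 2, 0, 1, 5, 4, 2, 3, 2] (Cert.fail))),
  (1, Cert.fail),
  (1, Cert.step [1, 3, 2, 3, 2, 4, 5, 1, 5, 4, 0, 1, 0, 1] (Cert.fail)),
  (1, Cert.step [0, 3, 2, 3, 4, 5, 1, 5, 4, 2, 3, 1, 2, 3] (Cert.fail)),
  (1, Cert.step [0, 6, 1, 0, 2, 1, 0, 3, 2, 1, 3, 2, 3, 2, 1, 0, 1, 6, 2, 3] (Cert.step [0, 1, 3, 2, 1, 3, 5, 1, 0, 1, 2, 3, 0, 1, 2, 0, 1, 0, 1] (Cert.fail))),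
  (1, Cert.step [0, 1, 2, 6, 1, 5, 1, 6, 1, 0, 1, 6, 0, 1] (Cert.step [0, 2, 1, 5, 1, 2, 3, 2, 4, 3, 2, 3, 1, 0, 1, 5, 1, 2, 3] (Cert.step [3, 4, 3, 2, 1, 0, 3, 2, 3, 5, 1, 2, 3, 2, 1, 5, 4, 3, 2, 3, 0, 1, 2, 3, 4, 3] (Cert.done [3, 4, 3, 2, 1, 0, 3, 2, 3, 5, 1, 2, 3, 2, 1, 5, 4, 3, 2, 3, 0, 1, 2, 3, 4, 3, 0, 2, 1, 5, 1, 2, 3, 2, 4, 3, 2, 3, 1, 0, 1, 5, 1, 2, 3, 0, 1, 2, 6, 1, 5, 1, 6, 1, 0, 1, 6, 0, 1, 4, 6, 5, 6, 1, 2, 0, 6, 1, 2, 3, 2, 1, 4, 3, 6, 5, 1, 2, 6])))),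
  (1, Cert.step [0, 3, 2, 4, 5, 1, 5, 4, 0, 1, 2, 0, 1, 0] (Cert.step [0, 1, 0, 5, 1, 0, 2, 1, 0, 3, 2, 5, 4, 3, 1, 2, 3, 4, 3, 0, 1, 2, 3, 0] (Cert.step [3, 4, 3, 2, 1, 0, 3, 2, 3, 5, 1, 2, 4, 3, 2, 1, 5, 3, 2, 3, 0, 1, 2, 3, 4, 3] (Cert.done [3, 4, 3, 2, 1, 0, 3, 2, 3, 5, 1, 2, 4, 3, 2, 1, 5, 3, 2, 3, 0, 1, 2, 3, 4, 3, 0, 1, 0, 5, 1, 0, 2, 1, 0, 3, 2, 5, 4, 3, 1, 2, 3, 4, 3, 0, 1, 4, 5, 1, 5, 4, 0, 1, 2, 0, 1, 4, 6, 1, 5, 6, 1, 0, 1, 6, 2, 0, 6, 1, 2, 3, 2, 1, 4, 3, 6, 5, 1, 2, 6])))),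
  (1, Cert.step [0, 3, 2, 3, 1, 2, 0, 1, 0, 1, 0] (Cert.step [2, 3, 2, 4, 5, 1, 0, 1, 2, 3, 2, 1, 0, 1, 5, 4, 2, 3, 2, 1] (Cert.fail))),
  (1, Cert.fail),
  (1, Cert.step [5, 1, 0, 1, 2, 3, 2, 4, 1, 5, 4, 2, 3, 0] (Cert.step [2, 3, 2, 1, 4, 3, 2, 1, 3, 2, 1, 0, 5, 1, 4, 3, 2, 3, 0, 1, 2, 3, 0, 1, 2, 3, 4, 0] (Cert.fail))),
  (1, Cert.step [3, 4, 3, 2, 5, 1, 2, 3, 4, 6, 5, 6, 2, 3, 1, 2, 3, 4, 2, 3, 2] (Cert.step [0, 1, 0, 5, 1, 0, 2, 1, 0, 3, 2, 5, 4, 3, 1, 2, 3, 4, 3, 0, 1, 2, 3, 0] (Cert.fail))),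
  (1, Cert.step [0, 1, 3, 2, 4, 5, 1, 5, 4, 0, 1, 2, 0, 1] (Cert.step [1, 0, 2, 1, 0, 1, 4, 3, 2, 3, 4, 1, 2, 3, 0, 1, 2, 1] (Cert.fail))),
  (1, Cert.step [1, 0, 3, 2, 3, 4, 5, 1, 5, 4, 2, 3, 1, 2, 3] (Cert.fail)),
  (1, Cert.step [3, 2, 3, 4, 3, 5, 1, 0, 1, 3, 2, 3, 1, 2, 0, 1, 5, 4, 2, 0] (Cert.step [5, 1, 0, 2, 3, 2, 1, 4, 3, 2, 5, 3, 2, 1, 0, 1, 5, 2, 3] (Cert.fail))),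
  (1, Cert.step [1, 0, 1, 0, 3, 4, 5, 1, 5, 4, 2, 3, 0, 1] (Cert.step [2, 3, 4, 3, 5, 1, 2, 1, 5, 3, 4, 2, 3, 2, 1, 0, 1, 2, 3, 4, 0] (Cert.fail))),
  (1, Cert.step [0, 3, 2, 3, 1, 0, 1, 2, 3, 1, 0] (Cert.step [1, 2, 1, 4, 5, 1, 0, 1, 2, 3, 2, 3, 5, 4, 3, 1, 2, 3, 1, 0, 1, 2, 3, 4, 0] (Cert.fail))),
  (1, Cert.fail),
  (1, Cert.step [0, 3, 2, 3, 4, 5, 1, 5, 4, 2, 3, 0, 1] (Cert.step [0, 2, 3, 2, 1, 4, 3, 2, 1, 5, 1, 3, 2, 0, 1, 5, 4, 0, 1, 0] (Cert.fail))),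
  (1, Cert.step [0, 1, 3, 2, 1, 0, 1, 2, 3, 2, 3] (Cert.step [4, 3, 2, 3, 4, 5, 1, 0, 2, 3, 4, 1, 0, 1, 5, 2, 3, 4, 0, 1, 0, 1] (Cert.fail))),
  (1, Cert.step [1, 0, 3, 2, 4, 5, 1, 5, 4, 2, 3, 2, 3, 1, 2] (Cert.fail)),
  (1, Cert.fail),
  (1, Cert.step [0, 1, 0, 1, 2, 1, 3, 2, 3, 0, 1] (Cert.step [3, 5, 1, 0, 2, 1, 0, 1, 5, 3, 4, 1, 2, 3, 2, 0, 1, 5, 2, 3, 1, 2] (Cert.fail))),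
  (1, Cert.fail),
  (1, Cert.step [1, 0, 5, 1, 2, 3, 2, 3, 4, 3, 0, 1, 2, 0, 1, 5, 4, 1] (Cert.step [3, 2, 4, 3, 2, 1, 0, 5, 1, 2, 3, 2, 1, 0, 4, 3, 2, 1, 0, 1, 5, 4] (Cert.fail))),
  (1, Cert.step [3, 2, 3, 2, 4, 5, 1, 5, 4, 2, 3, 1, 2, 3] (Cert.step [0, 4, 5, 1, 0, 2, 3, 2, 4, 3, 1, 2, 3, 4, 2, 3, 1, 2, 0, 1, 5, 1, 2] (Cert.fail))),
  (1, Cert.step [3, 2, 3, 2, 4, 5, 1, 5, 4, 2, 3, 0, 1] (Cert.step [0, 3, 2, 1, 3, 2, 4, 3, 2, 5, 1, 0, 1, 3, 4, 2, 3, 2, 3, 1, 0, 1] (Cert.fail))),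
  (1, Cert.step [0, 6, 1, 0, 1, 5, 0, 1, 6, 2, 1, 5, 3, 2, 3] (Cert.step [1, 0, 3, 2, 1, 4, 3, 2, 1, 3, 2, 4, 3, 2, 1, 5, 3, 0, 1, 2, 0, 1, 0, 1, 5] (Cert.fail))),
  (1, Cert.fail),
  (1, Cert.step [0, 1, 0, 2, 3, 2, 6, 1, 0, 1, 6, 1, 5, 1, 6, 3, 2] (Cert.fail)),
  (1, Cert.step [0, 1, 3, 2, 4, 5, 1, 5, 4, 0, 1, 2, 0, 1] (Cert.step [0, 4, 5, 1, 0, 2, 3, 2, 4, 3, 1, 2, 3, 4, 2, 3, 1, 2, 0, 1, 5, 1, 2] (Cert.fail))),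
  (1, Cert.step [0, 2, 1, 0, 2, 3, 1, 2, 3] (Cert.step [1, 0, 3, 2, 1, 0, 5, 1, 0, 1, 2, 1, 4, 3, 2, 3, 4, 3, 1, 2, 3, 1, 2, 0] (Cert.fail))),
  (1, Cert.step [1, 0, 3, 2, 3, 1, 2, 1, 0, 1, 0] (Cert.step [1, 4, 3, 5, 1, 2, 3, 2, 1, 0, 1, 2, 4, 3, 2, 1, 0, 1, 5, 3, 4, 3, 2, 0] (Cert.fail))),
  (1, Cert.step [2, 1, 3, 2, 3, 2, 4, 5, 1, 5, 4, 3, 2, 3, 1, 0] (Cert.step [2, 1, 3, 2, 0, 1, 5, 3, 0, 1, 2, 3, 0, 1, 2] (Cert.fail))),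
  (1, Cert.step [0, 1, 2, 1, 0, 1, 2, 3, 2, 3, 1, 2, 3] (Cert.fail)),
  (1, Cert.step [1, 0, 3, 2, 3, 1, 2, 1, 0, 1, 0] (Cert.step [4, 3, 2, 3, 2, 1, 0, 4, 1, 2, 3, 1, 2, 3, 4, 3, 1, 0, 1] (Cert.fail))),
  (1, Cert.step [1, 0, 3, 2, 3, 4, 5, 1, 5, 4, 2, 3, 0] (Cert.step [2, 1, 0, 3, 2, 5, 1, 2, 3, 4, 2, 3, 2, 1, 5, 3, 0, 1, 2, 3, 4, 2, 3] (Cert.fail))),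
  (1, Cert.step [1, 0, 1, 0, 4, 5, 1, 4, 2, 3, 2, 1, 0, 1, 5] (Cert.fail)),
  (1, Cert.fail),
  (1, Cert.step [1, 0, 3, 2, 3, 1, 2, 1, 0, 1, 0] (Cert.step [0, 3, 2, 1, 3, 4, 3, 2, 3, 2, 4, 1, 2, 3, 0, 1, 0, 1, 2, 3] (Cert.fail))),
  (1, Cert.step [0, 1, 3, 2, 1, 0, 1, 4, 5, 1, 5, 4, 2, 3, 1, 2, 3] (Cert.step [2, 1, 3, 2, 3, 4, 5, 1, 0, 1, 2, 3, 1, 2, 0, 1, 5, 4, 0] (Cert.fail))),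
  (1, Cert.step [2, 1, 6, 5, 1, 0, 2, 1, 0, 1, 3, 2, 1, 5, 3, 2, 1, 6, 0] (Cert.step [4, 5, 1, 0, 2, 3, 2, 1, 5, 2, 3, 1, 2, 0, 1, 0, 1, 2, 3, 4] (Cert.fail))),
  (1, Cert.step [3, 2, 3, 5, 1, 2, 6, 1, 0, 5, 1, 0, 1, 6, 2, 0] (Cert.step [2, 4, 3, 2, 5, 1, 2, 3, 2, 1, 0, 4, 3, 5, 2, 1, 5, 2, 3, 1, 2, 3, 4] (Cert.fail))),
  (1, Cert.step [0, 1, 2, 6, 1, 5, 1, 6, 1, 0, 1, 6, 3, 0, 1, 2, 1, 0] (Cert.step [3, 2, 3, 5, 1, 0, 1, 2, 1, 3, 2, 1, 4, 3, 2, 1, 5, 3, 1, 2, 3, 2, 1, 0, 1] (Cert.fail))),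
  (2, Cert.fail),
  (1, Cert.step [1, 0, 2, 6, 1, 0, 1, 6, 1, 5, 1, 6, 3, 2, 1] (Cert.fail)),
  (1, Cert.step [0, 6, 1, 2, 3, 5, 1, 2, 3, 6, 0, 1, 5, 2, 1, 6, 1, 2, 3] (Cert.step [3, 4, 3, 2, 3, 2, 1, 0, 5, 1, 0, 2, 3, 4, 3, 1, 2, 3, 1, 2, 1, 0, 1, 5, 4] (Cert.fail))),
  (1, Cert.step [0, 3, 2, 3, 1, 2, 1, 0, 1, 0] (Cert.step [0, 2, 3, 5, 1, 0, 1, 0, 2, 3, 5, 1, 4, 3, 2, 1, 5, 3, 1, 2, 1] (Cert.fail))),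
  (1, Cert.step [0, 6, 1, 0, 1, 6, 1, 5, 1, 6, 3, 2] (Cert.step [0, 2, 3, 5, 1, 0, 1, 0, 2, 3, 5, 1, 4, 3, 2, 1, 5, 3, 1, 2, 1] (Cert.fail))),
  (1, Cert.step [0, 2, 6, 1, 0, 2, 1, 0, 3, 2, 1, 5, 2, 3, 2, 1, 6, 2] (Cert.step [3, 2, 1, 5, 1, 0, 1, 3, 2, 3, 4, 2, 3, 2, 1, 5, 1, 2, 0] (Cert.fail))),
  (1, Cert.step [0, 1, 3, 2, 1, 0, 1, 4, 5, 1, 5, 4, 2, 3, 1, 2, 3] (Cert.fail)),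
  (1, Cert.step [3, 2, 1, 2, 0] (Cert.fail)),
  (1, Cert.step [0, 1, 4, 3, 2, 5, 6, 1, 0, 5, 1, 0, 1, 6, 3, 2, 3, 4, 3, 1] (Cert.step [1, 2, 1, 4, 5, 1, 0, 1, 2, 3, 2, 3, 5, 1, 0, 1, 5, 1, 2, 3, 4, 3, 2] (Cert.fail))),
  (1, Cert.step [1, 0, 2, 6, 1, 0, 1, 6, 1, 5, 1, 6, 3] (Cert.step [2, 3, 2, 4, 5, 1, 0, 2, 1, 3, 2, 3, 2, 4, 1, 2, 3, 2, 1, 0, 1, 5, 0] (Cert.fail))),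
  (1, Cert.fail),
  (1, Cert.step [1, 0, 6, 1, 2, 5, 1, 6, 3, 2, 1, 5, 3, 2, 1, 6, 2, 0, 1] (Cert.step [0, 1, 0, 2, 1, 4, 3, 2, 3, 2, 1, 4, 0, 1, 2, 3, 0, 1, 2, 3, 4, 1] (Cert.fail))),
  (1, Cert.step [1, 0, 4, 5, 1, 2, 6, 5, 6, 3, 4, 3, 2, 3, 2, 1, 5, 0] (Cert.step [1, 3, 2, 4, 3, 2, 1, 0, 3, 2, 4, 3, 2, 1, 5, 1, 2, 3, 4, 3, 1, 2, 1] (Cert.fail))),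
  (1, Cert.step [5, 1, 0, 1, 2, 3, 2, 4, 1, 5, 4, 0, 1, 0] (Cert.step [1, 0, 1, 3, 2, 3, 2, 4, 3, 1, 0, 1, 5, 2, 3, 4, 2, 3, 1, 2, 3, 0] (Cert.fail))),
  (1, Cert.fail),
  (1, Cert.step [0, 3, 2, 3, 4, 5, 1, 5, 4, 2, 3, 0, 1, 2] (Cert.fail)),
  (1, Cert.step [0, 1, 0, 4, 5, 1, 5, 4, 1, 2, 1, 0, 1, 0] (Cert.step [1, 4, 3, 5, 1, 2, 3, 2, 1, 4, 3, 0, 1, 2, 3, 2, 1, 5, 4, 0, 1, 2] (Cert.fail))),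
  (1, Cert.step [0, 1, 3, 2, 1, 0, 1, 2, 3, 2, 3] (Cert.step [4, 3, 2, 3, 2, 1, 0, 4, 1, 2, 3, 1, 2, 3, 4, 3, 1, 0, 1] (Cert.fail))),
  (1, Cert.step [0, 1, 2, 6, 1, 5, 1, 6, 1, 0, 1, 6, 2, 0] (Cert.step [1, 0, 3, 2, 1, 3, 4, 3, 2, 3, 4, 1, 2, 0, 1, 5, 3, 1, 2, 3, 1, 0, 1, 2] (Cert.fail))),
  (1, Cert.step [1, 3, 2, 3, 2, 4, 3, 2, 5, 1, 2, 1, 5, 1, 2, 3, 4, 2, 3, 0] (Cert.fail)),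
  (1, Cert.step [1, 0, 1, 3, 2, 4, 5, 1, 5, 4, 2, 3, 2, 0] (Cert.fail)),
  (1, Cert.step [0, 6, 1, 2, 3, 5, 1, 2, 3, 6, 0, 1, 5, 2, 1, 6, 1, 2, 3] (Cert.step [1, 3, 5, 1, 2, 3, 2, 1, 4, 3, 0, 1, 2, 3, 2, 1, 0, 1, 5, 2, 3] (Cert.fail))),
  (1, Cert.step [3, 2, 3, 2, 4, 5, 1, 5, 4, 0, 1, 2, 0, 1] (Cert.fail)),
  (1, Cert.step [0, 1, 0, 1, 2, 1, 3, 2, 3, 0, 1, 2] (Cert.step [2, 3, 5, 1, 0, 1, 2, 1, 3, 2, 3, 4, 3, 2, 1, 5, 2, 1, 0, 1, 2] (Cert.fail))),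
  (1, Cert.step [0, 6, 1, 0, 2, 1, 0, 3, 2, 1, 5, 2, 3, 2, 1, 6, 1, 2, 1] (Cert.step [3, 2, 3, 2, 5, 1, 0, 1, 0, 2, 5, 4, 3, 2, 1, 0, 1, 5, 4, 3, 0] (Cert.fail))),
  (1, Cert.step [1, 0, 1, 0, 4, 5, 1, 5, 4, 2, 3, 2, 3] (Cert.step [1, 2, 1, 0, 3, 2, 1, 4, 3, 2, 3, 4, 1, 0, 1, 2, 0, 1] (Cert.fail))),
  (1, Cert.step [1, 0, 4, 5, 1, 2, 3, 2, 1, 5, 4, 0, 1] (Cert.step [0, 2, 1, 5, 1, 2, 3, 2, 4, 3, 2, 3, 1, 0, 1, 5, 1, 2, 3] (Cert.fail))),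
  (1, Cert.step [0, 1, 0, 4, 5, 1, 5, 4, 2, 3, 1, 2, 0, 1] (Cert.step [0, 1, 0, 1, 4, 3, 2, 3, 4, 5, 2, 1, 0, 1, 2, 3, 2, 1, 5, 3, 1, 0, 1, 0] (Cert.fail))),
  (1, Cert.step [3, 2, 3, 2, 4, 5, 1, 5, 4, 2, 3, 0, 1] (Cert.fail)),
  (1, Cert.step [0, 6, 1, 0, 2, 1, 0, 3, 2, 1, 5, 2, 3, 2, 1, 6, 1] (Cert.step [3, 2, 5, 1, 0, 1, 2, 3, 2, 1, 0, 3, 4, 1, 2, 3, 2, 1, 5, 3, 1] (Cert.fail))),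
  (1, Cert.step [0, 1, 3, 2, 4, 5, 1, 5, 4, 3, 2, 3, 1, 0] (Cert.fail)),
  (1, Cert.step [1, 0, 4, 5, 1, 2, 6, 5, 6, 3, 4, 3, 2, 3, 2, 1, 5, 0] (Cert.step [1, 0, 3, 2, 1, 0, 5, 1, 0, 1, 2, 1, 4, 3, 2, 3, 4, 3, 1, 2, 3, 1, 2, 0] (Cert.fail))),
  (1, Cert.fail),
  (1, Cert.step [0, 1, 3, 2, 3, 4, 5, 1, 5, 4, 2, 3, 1, 0, 1] (Cert.step [0, 2, 1, 5, 1, 2, 3, 2, 4, 3, 2, 3, 1, 0, 1, 5, 1, 2, 3] (Cert.fail))),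
  (1, Cert.step [0, 1, 4, 3, 5, 1, 0, 1, 2, 3, 2, 1, 0, 1, 5, 3, 4, 3, 1, 2, 0, 1] (Cert.step [0, 4, 5, 1, 0, 2, 1, 3, 2, 1, 0, 1, 5, 4, 3, 2, 3, 1, 2] (Cert.fail))),
  (1, Cert.step [0, 1, 2, 1, 0, 1, 0, 3, 2, 3, 1, 2, 3] (Cert.step [2, 3, 2, 1, 0, 4, 3, 2, 3, 4, 5, 1, 5, 0, 1, 2, 3, 2, 3, 4, 3, 1, 2, 0] (Cert.fail))),
  (1, Cert.step [0, 2, 6, 1, 0, 2, 1, 0, 3, 2, 1, 5, 2, 3, 2, 1, 6, 2] (Cert.step [0, 2, 1, 4, 3, 2, 1, 3, 4, 0, 1, 5, 0, 1, 2, 3, 4, 2, 1] (Cert.fail))),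
  (1, Cert.step [2, 1, 0, 1, 0, 3, 2, 3, 2, 3, 1] (Cert.step [4, 3, 2, 1, 3, 2, 1, 5, 1, 2, 3, 4, 2, 3, 0, 1, 2, 3, 2, 1, 5, 4, 3, 1, 2] (Cert.fail))),
  (1, Cert.step [1, 0, 4, 5, 1, 2, 6, 5, 6, 3, 0, 1, 2, 0, 1, 5, 4, 2] (Cert.step [3, 2, 3, 2, 1, 4, 3, 2, 3, 5, 2, 1, 5, 4, 2, 3, 2, 1, 0, 1, 5] (Cert.fail))),
  (1, Cert.fail),
  (1, Cert.step [1, 0, 3, 2, 3, 1, 0, 1, 2, 3, 1, 0] (Cert.step [2, 3, 2, 4, 5, 1, 2, 3, 2, 1, 4, 3, 2, 1, 5, 0, 1, 0, 1, 2, 1] (Cert.fail))),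
  (1, Cert.step [0, 1, 3, 2, 1, 0, 1, 4, 5, 1, 5, 4, 2, 3, 1, 2, 3] (Cert.step [3, 2, 3, 2, 5, 1, 0, 1, 0, 2, 5, 4, 3, 2, 1, 0, 1, 5, 4, 3, 0] (Cert.fail))),
  (1, Cert.step [2, 1, 0, 1, 0, 3, 2, 3, 2, 3, 1] (Cert.fail)),
  (1, Cert.step [3, 2, 3, 5, 1, 2, 6, 1, 0, 5, 1, 0, 1, 6, 0] (Cert.step [0, 4, 5, 1, 0, 2, 1, 3, 2, 1, 0, 1, 5, 4, 3, 2, 3, 1, 2] (Cert.fail))),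
  (1, Cert.step [1, 0, 2, 6, 1, 0, 1, 6, 1, 5, 1, 6, 3, 2] (Cert.fail)),
  (1, Cert.step [0, 1, 0, 3, 4, 5, 4, 2, 3, 2, 1, 0, 1, 5] (Cert.step [1, 0, 2, 1, 0, 1, 4, 3, 2, 1, 5, 3, 4, 3, 2, 3, 2, 1, 0, 1, 5, 2] (Cert.fail))),
  (1, Cert.step [3, 6, 1, 5, 1, 6, 1, 0, 1, 6, 2, 3, 2, 0, 1, 0] (Cert.fail)),
  (1, Cert.step [1, 6, 5, 1, 0, 2, 1, 0, 1, 3, 2, 0, 1, 5, 3, 2, 1, 6, 0] (Cert.step [1, 3, 2, 4, 3, 2, 1, 0, 3, 2, 4, 3, 2, 1, 5, 1, 2, 3, 4, 3, 1, 2, 1] (Cert.fail))),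
  (1, Cert.step [1, 0, 4, 5, 1, 2, 6, 5, 6, 3, 2, 0, 1, 5, 4, 2, 3, 2] (Cert.step [2, 3, 2, 4, 5, 1, 0, 1, 2, 3, 2, 1, 0, 1, 5, 4, 2, 3, 2, 1] (Cert.fail))),
  (1, Cert.fail),
  (1, Cert.step [2, 1, 0, 1, 3, 4, 3, 2, 0, 1, 2, 3, 4, 2, 3, 2, 3] (Cert.step [0, 3, 2, 1, 3, 2, 4, 3, 2, 5, 1, 0, 1, 3, 4, 2, 3, 2, 3, 1, 0, 1] (Cert.fail))),
  (1, Cert.step [0, 1, 0, 3, 4, 5, 1, 5, 4, 2, 3, 0] (Cert.fail)),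
  (1, Cert.step [1, 0, 1, 0, 3, 4, 5, 1, 5, 4, 2, 3, 0, 1] (Cert.fail)),
  (1, Cert.step [1, 0, 5, 1, 2, 3, 4, 6, 1, 2, 3, 5, 1, 6, 2, 3, 1, 2, 0, 1, 0, 1, 6, 1, 5] (Cert.step [1, 0, 1, 3, 2, 3, 2, 4, 3, 1, 0, 1, 5, 2, 3, 4, 2, 3, 1, 2, 3, 0] (Cert.fail))),
  (1, Cert.step [3, 2, 3, 4, 3, 5, 1, 0, 1, 3, 2, 3, 1, 2, 0, 1, 5, 4, 2, 0] (Cert.step [1, 2, 1, 0, 1, 0, 5, 1, 2, 3, 4, 1, 2, 3, 2, 1, 5, 4, 2, 3, 2] (Cert.fail))),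
  (1, Cert.step [1, 0, 1, 3, 2, 4, 5, 1, 5, 4, 2, 3, 0] (Cert.step [2, 4, 3, 2, 5, 1, 2, 3, 2, 1, 0, 4, 3, 5, 2, 1, 5, 2, 3, 1, 2, 3, 4] (Cert.fail))),
  (1, Cert.fail),
  (1, Cert.step [3, 4, 3, 2, 5, 1, 2, 3, 4, 6, 5, 6, 2, 3, 1, 2, 3, 4, 2, 3, 2] (Cert.step [1, 2, 3, 4, 5, 1, 0, 1, 0, 1, 2, 3, 2, 1, 5, 4, 0, 1, 2] (Cert.fail))),
  (1, Cert.step [0, 1, 3, 2, 4, 5, 1, 5, 4, 2, 3, 0, 1] (Cert.step [1, 0, 1, 0, 4, 3, 2, 5, 1, 0, 1, 4, 3, 2, 0, 1, 5, 4, 3, 2, 3, 4] (Cert.step [1, 0, 4, 3, 2, 1, 0, 3, 4, 1, 2, 3, 1, 2, 3, 4, 3, 1, 0, 1, 2, 1] (Cert.done [1, 0, 4, 3, 2, 1, 0, 3, 4, 1, 2, 3, 1, 2, 3, 4, 3, 1, 0, 1, 2, 0, 1, 0, 4, 3, 2, 5, 1, 0, 1, 4, 3, 2, 0, 1, 5, 4, 3, 2, 3, 4, 0, 1,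 3, 2, 4, 5, 1, 5, 4, 2, 3, 0, 1, 3, 4, 6, 1, 0, 2, 1, 3, 2, 3, 0, 1, 2, 3, 2, 1, 0, 1, 6, 2, 6, 1, 2, 3, 2, 1, 4, 3, 6, 5, 1, 2, 6])))),
  (1, Cert.step [1, 0, 3, 2, 4, 5, 1, 2, 0, 1, 5, 4, 2, 3, 0] (Cert.step [1, 3, 4, 5, 1, 2, 3, 2, 1, 0, 1, 0, 4, 1, 2, 3, 4, 2, 3, 2, 1, 5, 2, 3, 2] (Cert.fail))),
  (1, Cert.step [3, 6, 1, 5, 1, 6, 1, 0, 1, 6, 2, 3, 2, 0, 1, 0] (Cert.step [1, 2, 1, 0, 1, 0, 5, 1, 2, 3, 4, 1, 2, 3, 1, 2, 0, 1, 5, 4, 1, 2] (Cert.fail))),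
  (1, Cert.step [0, 3, 2, 3, 1, 2, 1, 0, 1, 0] (Cert.step [1, 3, 5, 1, 2, 3, 2, 1, 4, 3, 0, 1, 2, 3, 2, 1, 0, 1, 5, 2, 3] (Cert.fail))),
  (1, Cert.fail),
  (1, Cert.step [1, 3, 2, 1, 0, 3, 4, 3, 2, 3, 1, 2, 3, 1, 2, 3, 4, 3] (Cert.step [1, 2, 1, 4, 5, 1, 0, 1, 2, 3, 2, 3, 5, 4, 3, 1, 2, 3, 1, 0, 1, 2, 3, 4, 0] (Cert.fail))),
  (1, Cert.step [0, 1, 0, 2, 3, 2, 6, 1, 0, 1, 6, 1, 5, 1, 6, 3, 1, 2] (Cert.step [1, 0, 3, 2, 1, 4, 3, 2, 3, 2, 1, 4, 5, 2, 0, 1, 5, 2, 3, 0] (Cert.fail))),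
  (1, Cert.step [0, 1, 0, 1, 2, 1, 2, 3, 2, 3, 1, 2] (Cert.step [2, 5, 1, 0, 1, 2, 3, 2, 1, 5, 1, 4, 3, 2, 3, 4, 0, 1, 2, 3, 0, 1, 2, 1] (Cert.fail))),
  (1, Cert.step [3, 2, 1, 3, 2, 3, 2, 3, 1, 0] (Cert.step [2, 3, 2, 4, 3, 5, 1, 2, 3, 2, 4, 3, 1, 5, 1, 2, 3, 0, 1, 2, 0, 1, 5, 4, 1, 2] (Cert.fail))),
  (1, Cert.step [0, 3, 2, 6, 1, 0, 1, 0, 6, 1, 0, 1, 6, 2, 3, 2, 0, 1, 0] (Cert.fail)),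
  (1, Cert.step [1, 0, 3, 2, 4, 5, 1, 4, 2, 3, 2, 1, 0, 1, 5] (Cert.step [2, 3, 4, 3, 5, 1, 2, 1, 5, 3, 4, 2, 3, 2, 1, 0, 1, 2, 3, 4, 0] (Cert.fail))),
  (1, Cert.step [2, 1, 0, 1, 2, 3] (Cert.step [2, 1, 0, 3, 2, 5, 1, 2, 3, 4, 2, 3, 2, 1, 5, 3, 0, 1, 2, 3, 4, 2, 3] (Cert.fail))),
  (1, Cert.step [1, 0, 2, 4, 5, 1, 2, 3, 6, 5, 6, 5, 2, 1, 0, 1, 5, 4, 3, 2, 0] (Cert.step [0, 1, 0, 5, 1, 0, 2, 1, 0, 3, 2, 5, 4, 3, 1, 2, 3, 4, 3, 0, 1, 2, 3, 0] (Cert.fail))),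
  (1, Cert.step [0, 1, 2, 3] (Cert.step [0, 4, 5, 1, 0, 2, 3, 4, 1, 2, 3, 0, 1, 2, 1, 0, 1, 5, 0] (Cert.fail))),
  (1, Cert.fail),
  (1, Cert.step [3, 2, 1, 3, 2, 4, 5, 1, 5, 4, 2, 3, 2, 3, 1] (Cert.fail)),
  (1, Cert.step [0, 3, 2, 4, 3, 2, 5, 1, 2, 1, 5, 1, 2, 3, 4, 2, 3, 1, 0] (Cert.fail)),
  (1, Cert.step [3, 2, 1, 2, 0] (Cert.step [2, 1, 0, 4, 5, 1, 2, 3, 2, 1, 0, 1, 0, 1, 5, 4, 3, 2, 1] (Cert.fail))),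
  (1, Cert.step [3, 2, 3, 2, 4, 5, 1, 5, 4, 0, 1, 2, 0] (Cert.step [1, 0, 2, 1, 3, 4, 5, 1, 0, 1, 2, 3, 1, 2, 1, 0, 1, 5, 4, 3, 2, 0] (Cert.fail))),
  (1, Cert.fail),
  (1, Cert.step [1, 0, 4, 5, 1, 2, 3, 2, 1, 5, 4, 0, 1] (Cert.step [1, 0, 2, 1, 0, 1, 0, 5, 1, 2, 3, 2, 3, 1, 2] (Cert.fail))),
  (1, Cert.fail),
  (1, Cert.step [3, 2, 1, 3, 2, 3, 4, 5, 1, 5, 4, 0, 1, 0] (Cert.fail)),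
  (1, Cert.step [0, 1, 0, 3, 4, 5, 4, 2, 3, 2, 1, 0, 1, 5] (Cert.step [1, 4, 3, 5, 1, 2, 3, 2, 1, 0, 1, 2, 4, 3, 2, 1, 0, 1, 5, 3, 4, 3, 2, 0] (Cert.fail))),
  (1, Cert.step [0, 1, 3, 2, 4, 5, 1, 5, 4, 0, 1, 2, 0] (Cert.step [0, 5, 1, 0, 2, 1, 5, 3, 2, 3, 4, 3, 2, 3, 0, 1, 2, 0, 1, 5, 0] (Cert.fail))),
  (1, Cert.fail),
  (1, Cert.step [0, 1, 0, 1, 2, 1, 3, 2, 3, 0] (Cert.step [1, 2, 3, 4, 5, 1, 0, 1, 0, 1, 2, 3, 2, 1, 5, 4, 0, 1, 2] (Cert.fail))),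
  (1, Cert.fail),
  (1, Cert.step [0, 3, 2, 3, 0, 1, 0, 1, 2, 1, 0] (Cert.step [1, 2, 1, 4, 5, 1, 0, 1, 5, 3, 2, 1, 0, 1, 2, 3, 4, 3, 2, 1] (Cert.fail))),
  (1, Cert.step [0, 1, 3, 2, 4, 5, 1, 5, 4, 2, 3, 2, 0, 1] (Cert.step [3, 2, 4, 3, 2, 5, 1, 3, 4, 2, 3, 2, 0, 1, 5, 2, 3, 4, 3, 2, 3] (Cert.fail))),
  (1, Cert.fail),
  (1, Cert.step [1, 0, 1, 3, 2, 4, 5, 1, 5, 4, 2, 3, 2, 0] (Cert.fail)),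
  (1, Cert.step [0, 1, 0, 4, 5, 1, 5, 4, 2, 3, 1, 2, 0, 1] (Cert.step [1, 2, 3, 2, 1, 0, 5, 1, 0, 2, 3, 2, 1, 5, 4, 3, 0, 1, 2, 3, 2, 1, 5, 2, 1, 0] (Cert.fail))),
  (1, Cert.fail),
  (1, Cert.step [1, 0, 1, 0, 3, 4, 5, 1, 5, 4, 2, 3, 0] (Cert.step [1, 2, 1, 3, 2, 1, 0, 1, 3, 4, 5, 1, 2, 3, 2, 0, 1, 5, 4] (Cert.fail))),
  (1, Cert.step [1, 0, 1, 0, 3, 2, 3, 1, 0, 1] (Cert.step [4, 5, 1, 0, 2, 3, 2, 1, 5, 4, 3, 1, 0, 1, 2, 3, 1, 2, 1] (Cert.fail))),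
  (1, Cert.step [1, 0, 2, 6, 1, 0, 1, 6, 1, 5, 1, 6, 3, 1] (Cert.step [4, 3, 2, 1, 3, 0, 1, 2, 0, 1, 5, 2, 3, 1, 2, 3, 4, 2] (Cert.fail))),
  (1, Cert.step [1, 0, 5, 1, 2, 3, 2, 3, 4, 6, 5, 6, 3, 2, 1, 5, 4, 2, 0, 1] (Cert.step [0, 2, 3, 4, 3, 5, 1, 0, 1, 2, 3, 4, 2, 1, 0, 1, 2, 3, 2, 1, 5, 3, 4, 1] (Cert.fail))),
  (1, Cert.step [3, 2, 1, 0, 1] (Cert.step [2, 3, 2, 4, 3, 5, 1, 2, 3, 2, 1, 5, 4, 1, 2, 3, 2, 1, 5, 3, 4, 2, 3, 2] (Cert.fail))),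
  (1, Cert.step [1, 3, 2, 3, 2, 4, 5, 1, 2, 0, 1, 0, 1, 5, 4] (Cert.step [1, 0, 2, 1, 0, 1, 4, 3, 2, 1, 5, 3, 4, 3, 2, 3, 2, 1, 0, 1, 5, 2] (Cert.fail))),
  (1, Cert.step [0, 6, 1, 0, 1, 6, 1, 5, 1, 6, 3, 2, 1] (Cert.step [3, 4, 3, 2, 3, 2, 1, 0, 5, 1, 0, 2, 3, 4, 3, 1, 2, 3, 1, 2, 1, 0, 1, 5, 4] (Cert.fail))),
  (1, Cert.step [1, 0, 1, 3, 2, 4, 5, 1, 5, 4, 2, 3, 0, 1] (Cert.step [2, 3, 2, 4, 3, 5, 1, 2, 3, 2, 4, 3, 1, 5, 1, 2, 3, 0, 1, 2, 0, 1, 5, 4, 1, 2] (Cert.fail))),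
  (1, Cert.step [0, 1, 2, 3, 4, 5, 1, 2, 3, 2, 1, 5, 4] (Cert.step [2, 1, 3, 4, 5, 1, 2, 3, 2, 1, 0, 3, 2, 4, 3, 2, 1, 5, 1, 2, 3, 1, 2, 3, 4] (Cert.step [3, 2, 1, 0, 1, 2, 3, 2, 1, 0, 3, 5, 1, 2, 4, 3, 2, 1, 5, 4, 2, 3, 1, 0, 1, 2, 1, 0] (Cert.done [3, 2, 1, 0, 1, 2, 3, 2, 1, 0, 3, 5, 1, 2, 4, 3, 2, 1, 5, 4, 2, 3, 1, 0, 1, 2, 1, 0, 2, 1, 3, 4, 5, 1, 2, 3, 2, 1, 0, 3, 2, 4, 3, 2, 1, 5, 1, 2, 3, 1, 2, 3, 4, 0, 1, 2, 3, 4, 5, 1, 2, 3, 2, 1, 5, 4, 3, 4, 6, 1, 0, 2, 1, 3, 2, 3, 0, 1, 6, 5, 2, 3, 2, 1, 6, 2, 6, 1, 2, 3, 2, 1, 4, 3, 6, 5, 1, 2, 6])))),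
  (1, Cert.step [0, 1, 2, 3, 4, 5, 1, 2, 3, 2, 1, 5, 4] (Cert.step [1, 0, 2, 1, 0, 1, 4, 3, 2, 3, 4, 1, 2, 3, 0, 1, 2, 1] (Cert.fail))),
  (1, Cert.step [0, 1, 0, 3, 2, 3, 1, 0] (Cert.step [1, 5, 1, 0, 1, 0, 2, 1, 3, 2, 4, 3, 5, 1, 0, 1, 5, 2, 3, 4, 1, 2, 3, 0, 1] (Cert.step [0, 1, 2, 1, 0, 1, 3, 2, 4, 5, 1, 2, 3, 4, 2, 1, 5, 3, 0, 1, 2, 3, 2, 1, 0, 1, 2, 3] (Cert.done [0, 1, 2, 1, 0, 1, 3, 2, 4, 5, 1, 2, 3, 4, 2, 1, 5, 3, 0, 1, 2, 3, 2, 1, 0, 1, 2, 3, 1, 5, 1, 0, 1, 0, 2, 1, 3, 2, 4, 3, 5, 1, 0, 1, 5, 2, 3, 4, 1, 2, 3, 0, 1, 0, 1, 0, 3, 2, 3, 1, 0, 4, 6, 1, 0, 2, 1, 3, 2, 3, 2, 5, 6, 1, 5, 1, 2, 3, 2, 0, 1, 6, 0, 6, 1, 2, 3, 2, 1, 4, 3, 6, 5, 1, 2, 6])))),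
  (1, Cert.step [0, 3, 2, 3, 4, 5, 1, 5, 4, 2, 3, 0, 1, 2] (Cert.fail)),
  (1, Cert.step [2, 4, 3, 5, 1, 0, 2, 1, 6, 5, 6, 2, 3, 1, 2, 3, 4, 1, 0] (Cert.fail)),
  (1, Cert.fail),
  (1, Cert.step [3, 2, 3, 5, 1, 2, 6, 1, 0, 5, 1, 0, 1, 6, 1, 2, 3, 2, 1] (Cert.step [1, 3, 4, 5, 1, 0, 2, 3, 4, 2, 3, 1, 2, 0, 1, 5, 2, 3, 2, 3, 1, 2] (Cert.fail))),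
  (1, Cert.step [1, 3, 2, 3, 2, 4, 5, 1, 5, 4, 2, 3, 1, 2, 3] (Cert.step [0, 4, 5, 1, 2, 3, 2, 1, 0, 1, 2, 3, 2, 0, 1, 5, 4, 3, 2, 1] (Cert.step [3, 4, 3, 2, 1, 0, 3, 2, 3, 5, 1, 2, 3, 2, 1, 5, 4, 3, 2, 3, 0, 1, 2, 3, 4, 3] (Cert.done [3, 4, 3, 2, 1, 0, 3, 2, 3, 5, 1, 2, 3, 2, 1, 5, 4, 3, 2, 3, 0, 1, 2, 3, 4, 3, 0, 4, 5, 1, 2, 3, 2, 1, 0, 1, 2, 3, 2, 0, 1, 5, 4, 3, 2, 3, 2, 3, 2, 4, 5, 1, 5, 4, 2, 3, 1, 2, 3, 0, 4, 6, 1, 0, 2, 3, 2, 1, 0, 5, 1, 0, 2, 1, 5, 6, 3, 2, 3, 1, 2, 0, 2, 3, 2, 1, 4, 3, 6, 5, 1, 2, 6])))),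
  (1, Cert.step [3, 2, 4, 5, 1, 0, 2, 6, 5, 6, 3, 2, 1, 5, 4, 2, 0] (Cert.fail)),
  (1, Cert.step [1, 0, 4, 5, 1, 2, 3, 2, 1, 5, 4, 0] (Cert.step [0, 2, 4, 3, 5, 1, 0, 1, 2, 3, 2, 5, 4, 3, 1, 2, 3, 2, 1, 5, 2, 3, 4, 2, 0] (Cert.fail))),
  (1, Cert.step [3, 2, 3, 2, 4, 5, 1, 5, 4, 0, 1, 2, 0, 1] (Cert.step [1, 2, 1, 4, 5, 1, 0, 1, 2, 3, 2, 3, 5, 1, 0, 1, 5, 1, 2, 3, 4, 3, 2] (Cert.fail))),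
  (1, Cert.step [1, 0, 3, 2, 3, 2, 3, 1, 0, 1] (Cert.fail)),
  (1, Cert.fail),
  (1, Cert.step [1, 3, 2, 3, 2, 4, 5, 1, 5, 4, 0, 1, 2, 0, 1] (Cert.step [0, 3, 4, 3, 2, 5, 1, 0, 2, 3, 2, 1, 4, 5, 2, 1, 0, 1, 2, 3, 4, 2, 3, 0] (Cert.fail))),
  (1, Cert.step [0, 2, 1, 3, 4, 3, 5, 1, 0, 1, 3, 2, 3, 1, 2, 0, 1, 5, 4, 0] (Cert.step [3, 4, 3, 2, 3, 2, 1, 0, 5, 1, 0, 2, 3, 4, 3, 1, 2, 3, 1, 2, 1, 0, 1, 5, 4] (Cert.fail))),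
  (1, Cert.step [1, 0, 1, 0, 4, 5, 1, 4, 2, 3, 2, 1, 0, 1, 5] (Cert.step [0, 3, 2, 1, 3, 2, 4, 3, 2, 5, 1, 0, 1, 3, 4, 2, 3, 2, 3, 1, 0, 1] (Cert.fail))),
  (1, Cert.step [1, 0, 1, 2, 3, 1] (Cert.step [0, 4, 5, 1, 0, 2, 1, 3, 2, 1, 0, 1, 5, 4, 3, 2, 3, 1, 2] (Cert.fail))),
  (1, Cert.step [2, 4, 3, 5, 1, 0, 2, 1, 6, 5, 6, 2, 3, 1, 2, 3, 4, 2, 3, 2] (Cert.step [2, 1, 3, 2, 3, 4, 5, 1, 0, 1, 2, 3, 1, 2, 0, 1, 5, 4, 0] (Cert.fail))),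
  (1, Cert.step [0, 6, 1, 0, 2, 1, 0, 3, 2, 1, 5, 2, 3, 2, 1, 6, 1, 2] (Cert.step [0, 5, 1, 0, 1, 2, 1, 0, 3, 2, 1, 4, 3, 2, 0, 1, 5, 4, 0] (Cert.fail))),
  (1, Cert.fail),
  (1, Cert.step [1, 0, 3, 2, 3, 4, 5, 1, 5, 4, 0, 1, 0] (Cert.step [1, 0, 3, 2, 1, 0, 5, 1, 0, 1, 2, 1, 4, 3, 2, 3, 4, 3, 1, 2, 3, 1, 2, 0] (Cert.fail))),
  (2, Cert.fail),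
  (1, Cert.step [1, 0, 1, 0, 3, 2, 3, 1, 0, 1] (Cert.fail)),
  (1, Cert.fail),
  (1, Cert.step [3, 2, 4, 5, 1, 0, 2, 6, 5, 6, 3, 2, 1, 5, 4, 0] (Cert.step [1, 2, 3, 2, 4, 3, 2, 1, 0, 1, 3, 2, 5, 0, 1, 2, 3, 4, 3, 2] (Cert.fail))),
  (1, Cert.step [0, 1, 0, 4, 5, 1, 5, 4, 2, 3, 1, 0] (Cert.fail)),
  (1, Cert.fail),
  (1, Cert.step [] (Cert.step [4, 3, 2, 3, 4, 5, 1, 0, 2, 3, 4, 1, 0, 1, 5, 2, 3, 4, 0, 1, 0, 1] (Cert.fail))),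
  (1, Cert.step [5, 1, 0, 1, 2, 3, 2, 4, 1, 5, 4, 0, 1, 0] (Cert.step [2, 3, 4, 3, 5, 1, 2, 1, 5, 3, 4, 2, 3, 2, 1, 0, 1, 2, 3, 4, 0] (Cert.fail))),
  (1, Cert.step [0, 1, 3, 2, 4, 5, 1, 5, 4, 2, 3, 0, 1, 2] (Cert.step [0, 2, 3, 4, 5, 1, 0, 1, 2, 1, 3, 2, 1, 0, 1, 5, 4, 3, 1, 2, 0, 1] (Cert.fail))),
  (1, Cert.step [1, 0, 4, 5, 1, 2, 6, 5, 6, 3, 0, 1, 2, 0, 1, 5, 4] (Cert.step [1, 2, 1, 3, 2, 1, 0, 1, 3, 4, 5, 1, 2, 3, 2, 0, 1, 5, 4] (Cert.fail))),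
  (2, Cert.fail),
  (1, Cert.step [1, 0, 3, 2, 3, 1, 2, 0, 1, 0, 1, 0] (Cert.step [2, 1, 0, 1, 2, 5, 1, 2, 3, 4, 3, 2, 1, 5, 3, 1, 2, 1] (Cert.fail))),
  (1, Cert.step [3, 2, 4, 5, 1, 0, 2, 6, 5, 6, 3, 2, 1, 5, 4, 2, 0] (Cert.step [1, 3, 4, 5, 1, 2, 3, 2, 1, 0, 1, 0, 4, 1, 2, 3, 4, 2, 3, 2, 1, 5, 2, 3, 2] (Cert.fail))),
  (1, Cert.step [0, 1, 2, 3, 1] (Cert.fail)),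
  (1, Cert.step [1, 0, 1, 0, 3, 2, 3, 1, 0, 1] (Cert.step [1, 0, 3, 2, 1, 4, 3, 2, 1, 3, 2, 4, 3, 2, 1, 5, 3, 0, 1, 2, 0, 1, 0, 1, 5] (Cert.fail))),
  (1, Cert.step [0, 1, 3, 2, 1, 0, 1, 2, 3, 2, 3, 1] (Cert.step [1, 0, 3, 2, 1, 4, 3, 2, 1, 3, 2, 4, 3, 2, 1, 5, 3, 0, 1, 2, 0, 1, 0, 1, 5] (Cert.fail))),
  (1, Cert.step [0, 2, 1, 0, 3, 2, 3, 2, 3] (Cert.fail)),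
  (1, Cert.step [0, 1, 0, 2, 1, 0, 3, 2, 3, 1, 2, 3] (Cert.step [] (Cert.fail))),
  (1, Cert.step [0, 6, 1, 0, 1, 6, 1, 5, 1, 6, 3, 2, 1] (Cert.fail)),
  (1, Cert.step [5, 1, 0, 1, 2, 3, 2, 4, 1, 5, 4, 2, 3, 0, 1, 2] (Cert.step [2, 4, 3, 2, 1, 3, 2, 5, 1, 0, 2, 1, 0, 3, 1, 2, 3, 4] (Cert.fail))),
  (1, Cert.step [0, 3, 2, 4, 5, 1, 5, 4, 0, 1, 2, 0, 1, 0] (Cert.step [1, 3, 4, 5, 1, 2, 3, 2, 1, 0, 1, 0, 4, 1, 2, 3, 4, 2, 3, 2, 1, 5, 2, 3, 2] (Cert.fail))),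
  (1, Cert.step [0, 3, 2, 3, 4, 5, 1, 5, 4, 2, 3, 0] (Cert.step [2, 3, 2, 1, 0, 4, 3, 2, 3, 4, 5, 1, 5, 0, 1, 2, 3, 2, 3, 4, 3, 1, 2, 0] (Cert.fail))),
  (1, Cert.step [0, 1, 3, 2, 3, 4, 5, 1, 5, 4, 2, 3, 2, 3, 1, 2] (Cert.step [1, 3, 4, 5, 1, 2, 3, 2, 1, 0, 1, 0, 4, 1, 2, 3, 4, 2, 3, 2, 1, 5, 2, 3, 2] (Cert.fail))),
  (1, Cert.step [0, 3, 2, 4, 5, 1, 2, 0, 1, 5, 4, 2, 3, 0] (Cert.step [0, 2, 1, 5, 1, 2, 3, 2, 4, 3, 2, 3, 1, 0, 1, 5, 1, 2, 3] (Cert.fail))),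
  (1, Cert.fail),
  (1, Cert.step [0, 1, 0, 4, 5, 1, 5, 4, 2, 3, 1, 2, 0, 1] (Cert.step [0, 5, 1, 0, 2, 1, 5, 4, 3, 1, 2, 3, 1, 2, 0, 1, 5, 4, 2, 3, 2] (Cert.fail))),
  (1, Cert.step [3, 2, 3, 5, 1, 2, 6, 1, 0, 5, 1, 0, 1, 6, 1, 2, 3, 1, 2] (Cert.step [0, 5, 1, 0, 2, 1, 5, 2, 3, 1, 2, 1, 0, 1, 5, 0] (Cert.fail))),
  (1, Cert.step [0, 1, 0, 4, 5, 1, 5, 4, 2, 3, 1, 2, 0] (Cert.step [0, 2, 5, 1, 2, 3, 2, 1, 0, 1, 5, 1, 4, 2, 3, 2, 3, 1, 2, 0, 1, 5, 2, 0] (Cert.fail))),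
  (1, Cert.step [2, 1, 0, 1, 0, 3, 2, 3, 1, 0] (Cert.step [0, 2, 3, 4, 3, 5, 1, 0, 1, 2, 3, 4, 2, 1, 0, 1, 2, 3, 2, 1, 5, 3, 4, 1] (Cert.fail))),
  (3, Cert.fail),
  (1, Cert.step [0, 3, 2, 3, 4, 5, 1, 5, 4, 0, 1, 0, 1, 2] (Cert.step [1, 0, 2, 1, 0, 1, 0, 5, 1, 2, 3, 2, 3, 1, 2] (Cert.fail))),
  (1, Cert.step [1, 0, 1, 2, 3, 1] (Cert.step [4, 5, 1, 0, 1, 2, 3, 4, 0, 1, 2, 3, 2, 1, 5, 0, 1, 2, 3, 4, 2, 3] (Cert.fail))),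
  (1, Cert.step [0, 2, 1, 3, 2, 4, 5, 1, 5, 4, 2, 3, 2, 0] (Cert.step [2, 3, 2, 3, 4, 3, 5, 1, 0, 2, 1, 3, 4, 5, 2, 0, 1, 0, 1, 5, 2, 3, 4] (Cert.fail))),
  (1, Cert.fail),
  (1, Cert.step [0, 2, 1, 0, 3, 2, 3, 1, 0] (Cert.fail)),
  (1, Cert.step [0, 1, 3, 2, 1, 0, 1, 3, 2, 3, 0, 1] (Cert.step [3, 4, 3, 2, 3, 2, 1, 0, 5, 1, 0, 2, 3, 4, 3, 1, 2, 3, 1, 2, 1, 0, 1, 5, 4] (Cert.fail))),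
  (1, Cert.step [3, 6, 1, 2, 5, 1, 2, 6, 1, 0, 1, 2, 0, 1, 6, 3, 0, 1] (Cert.step [2, 1, 3, 2, 3, 4, 5, 1, 0, 1, 2, 3, 1, 2, 0, 1, 5, 4, 0] (Cert.fail))),
  (1, Cert.fail),
  (1, Cert.step [3, 2, 3, 2, 4, 5, 1, 5, 4, 2, 3, 0] (Cert.step [0, 2, 1, 5, 1, 2, 3, 2, 4, 3, 2, 3, 1, 0, 1, 5, 1, 2, 3] (Cert.fail))),
  (1, Cert.step [0, 1, 2, 1, 0, 1, 2, 3, 2, 3, 1, 2, 3] (Cert.step [4, 3, 2, 3, 5, 1, 0, 2, 1, 0, 3, 2, 1, 5, 3, 4, 3, 2, 3, 1, 2, 3, 4, 3, 1, 0, 1] (Cert.fail))),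
  (1, Cert.step [0, 1, 4, 3, 2, 5, 6, 1, 0, 5, 1, 0, 1, 6, 3, 2, 3, 4, 3] (Cert.step [2, 4, 3, 2, 5, 1, 2, 3, 2, 1, 0, 4, 3, 5, 2, 1, 5, 2, 3, 1, 2, 3, 4] (Cert.fail))),
  (1, Cert.step [0, 6, 1, 2, 5, 1, 6, 5, 6, 1, 5, 2, 1, 6, 0] (Cert.step [1, 2, 3, 2, 1, 0, 5, 1, 0, 2, 1, 0, 3, 4, 3, 2, 3, 2, 1, 0, 1, 5, 0] (Cert.step [0, 2, 1, 0, 3, 4, 3, 2, 5, 1, 0, 2, 3, 4, 2, 1, 5, 3, 2, 3, 4, 0, 1, 2, 0] (Cert.done [0, 2, 1, 0, 3, 4, 3, 2, 5, 1, 0, 2, 3, 4, 2, 1, 5, 3, 2, 3, 4, 0, 1, 2, 0, 1, 2, 3, 2, 1, 0, 5, 1, 0, 2, 1, 0, 3, 4, 3, 2, 3, 2, 1, 0, 1, 5, 6, 1, 2, 5, 1, 6, 5, 6, 1, 5, 2, 1, 6, 4, 6, 1, 2, 3, 2, 1, 3, 6, 5, 1, 6, 5, 6, 1, 5, 6, 1, 2, 3, 2, 1, 6, 4, 6, 1, 2, 3, 2, 1, 4, 3, 6,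 5, 1, 2, 6])))),
  (1, Cert.step [3, 2, 1, 3, 2, 3, 4, 5, 1, 5, 4, 2, 3, 1, 2, 3] (Cert.fail)),
  (1, Cert.step [1, 3, 2, 3, 2, 4, 5, 1, 5, 4, 0, 1, 0] (Cert.step [1, 0, 2, 1, 0, 1, 4, 3, 2, 3, 4, 1, 2, 3, 0, 1, 2, 1] (Cert.fail))),
  (1, Cert.step [0, 2, 1, 0, 2, 3, 1, 2, 3] (Cert.step [1, 0, 2, 1, 0, 1, 4, 3, 2, 1, 5, 3, 4, 3, 2, 3, 2, 1, 0, 1, 5, 2] (Cert.fail))),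
  (1, Cert.step [3, 2, 1, 0, 1, 2] (Cert.step [1, 2, 1, 4, 5, 1, 0, 1, 5, 3, 2, 1, 0, 1, 2, 3, 4, 3, 2, 1] (Cert.fail))),
  (1, Cert.step [0, 1, 3, 2, 4, 5, 1, 5, 4, 3, 2, 3, 1, 0] (Cert.fail)),
  (1, Cert.fail),
  (1, Cert.step [0, 1, 4, 3, 2, 1, 3, 2, 6, 5, 6, 4, 3, 1, 2, 0, 1, 5, 3, 4, 2] (Cert.fail)),
  (1, Cert.step [1, 3, 2, 3, 2, 4, 5, 1, 5, 4, 2, 3, 1, 2, 3] (Cert.step [1, 0, 2, 1, 0, 1, 0, 5, 1, 2, 3, 2, 3, 1, 2] (Cert.fail))),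
  (1, Cert.step [1, 3, 2, 4, 5, 1, 0, 2, 3, 4, 2, 3, 2, 1, 0, 1, 5, 0] (Cert.step [1, 4, 3, 5, 1, 2, 3, 2, 1, 0, 1, 2, 4, 3, 2, 1, 0, 1, 5, 3, 4, 3, 2, 0] (Cert.fail))),
  (1, Cert.step [1, 0, 4, 5, 1, 2, 6, 5, 6, 3, 2, 0, 1, 5, 4, 2, 3, 2] (Cert.step [2, 1, 0, 1, 2, 5, 1, 2, 3, 4, 3, 2, 3, 1, 2, 1, 0, 1, 5, 3, 2] (Cert.fail))),
  (1, Cert.step [0, 1, 3, 2, 1, 0, 1, 3, 2, 3, 0] (Cert.step [0, 2, 3, 5, 1, 0, 2, 1, 3, 2, 3, 5, 4, 2, 3, 2, 3, 1, 2, 0, 1, 5, 2, 0] (Cert.fail))),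
  (1, Cert.fail),
  (1, Cert.step [1, 0, 4, 5, 1, 2, 3, 6, 5, 2, 1, 5, 0, 1, 0, 1, 6, 4, 3] (Cert.fail)),
  (1, Cert.step [5, 1, 0, 1, 2, 3, 2, 4, 1, 5, 4, 0, 1, 0] (Cert.step [1, 0, 2, 1, 0, 1, 4, 3, 2, 1, 5, 3, 4, 3, 2, 3, 2, 1, 0, 1, 5, 2] (Cert.fail))),
  (1, Cert.step [2, 1, 4, 6, 1, 2, 3, 5, 1, 6, 2, 1, 5, 3, 2, 1, 6, 4] (Cert.fail)),
  (1, Cert.step [0, 3, 2, 4, 5, 1, 5, 4, 2, 3, 2, 3, 1] (Cert.step [0, 1, 5, 1, 0, 1, 2, 5, 1, 3, 4, 2, 3, 2, 1, 0, 1, 5, 2, 3, 2, 3] (Cert.fail))),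
  (1, Cert.step [0, 1, 0, 2, 3, 2, 6, 1, 0, 1, 6, 1, 5, 1, 6, 3, 2] (Cert.fail)),
  (1, Cert.step [5, 1, 0, 1, 2, 3, 2, 4, 1, 5, 4, 3, 2, 3, 1, 0] (Cert.step [3, 2, 3, 2, 5, 1, 0, 1, 0, 2, 5, 4, 3, 2, 1, 0, 1, 5, 4, 3, 0] (Cert.fail))),
  (1, Cert.step [3, 2, 3, 5, 1, 2, 6, 1, 0, 5, 1, 0, 1, 6, 1, 2, 3, 2] (Cert.step [0, 4, 5, 1, 0, 2, 3, 4, 1, 2, 3, 0, 1, 2, 1, 0, 1, 5, 0] (Cert.fail))),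
  (1, Cert.step [3, 2, 1, 3, 2, 4, 5, 1, 2, 0, 1, 5, 4, 2, 3, 0] (Cert.step [1, 2, 1, 4, 5, 1, 0, 1, 2, 3, 2, 3, 5, 4, 3, 1, 2, 3, 1, 0, 1, 2, 3, 4, 0] (Cert.fail))),
  (1, Cert.step [3, 2, 3, 2, 4, 5, 1, 5, 4, 0, 1, 2, 0] (Cert.fail)),
  (1, Cert.step [0, 3, 2, 6, 1, 0, 1, 0, 6, 1, 0, 1, 6, 2, 3, 2, 0, 1, 0] (Cert.fail)),
  (1, Cert.step [1, 0, 2, 1, 3, 2, 1, 0, 1, 2, 3, 1, 0] (Cert.step [0, 3, 2, 5, 1, 0, 2, 5, 4, 1, 2, 3, 2, 3, 4, 1, 2, 3, 0, 1] (Cert.fail))),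
  (1, Cert.step [5, 1, 0, 1, 2, 3, 2, 4, 1, 5, 4, 2, 3, 2, 0] (Cert.step [1, 2, 4, 5, 1, 2, 3, 2, 4, 3, 2, 1, 0, 1, 2, 3, 4, 3, 2, 3, 1, 2, 3, 2, 1, 5, 0] (Cert.fail))),
  (1, Cert.step [0, 6, 1, 0, 1, 5, 0, 1, 6, 2, 1, 5, 3, 2, 3] (Cert.fail)),
  (1, Cert.step [2, 1, 4, 6, 1, 2, 3, 5, 1, 6, 2, 1, 5, 3, 2, 1, 6, 4] (Cert.step [3, 2, 4, 5, 1, 0, 1, 0, 2, 3, 4, 2, 1, 0, 1, 5, 1, 2, 3, 2, 3, 1, 0, 1] (Cert.step [0, 1, 2, 1, 0, 1, 3, 2, 4, 5, 1, 2, 3, 4, 2, 1, 5, 3, 0, 1, 2, 3, 2, 1, 0, 1, 2, 3] (Cert.done [0, 1, 2, 1, 0, 1, 3, 2, 4, 5, 1, 2, 3, 4, 2, 1, 5, 3, 0, 1, 2, 3, 2, 1, 0, 1, 4, 5, 1, 0, 1, 0, 2, 3, 4, 2, 1, 0, 1, 5, 1, 2, 3, 2, 3, 1, 0, 1, 2, 1, 4, 6, 1, 2, 3, 5, 1, 6, 2, 1,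 5, 3, 2, 1, 6, 4, 6, 1, 0, 1, 2, 1, 0, 3, 2, 4, 5, 1, 2, 3, 2, 1, 6, 1, 5, 3, 6, 5, 1, 2, 6])))),
  (1, Cert.step [1, 0, 1, 0, 3, 2, 3, 1, 0, 1] (Cert.step [4, 3, 2, 3, 4, 5, 1, 0, 2, 3, 4, 1, 0, 1, 5, 2, 3, 4, 0, 1, 0, 1] (Cert.fail))),
  (1, Cert.step [0, 6, 1, 0, 2, 1, 0, 3, 2, 1, 3, 2, 3, 2, 1, 0, 1, 6, 2, 3] (Cert.step [1, 2, 3, 4, 5, 1, 0, 1, 0, 1, 2, 3, 2, 1, 5, 4, 0, 1, 2] (Cert.fail))),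
  (1, Cert.step [0, 6, 1, 0, 2, 1, 0, 3, 2, 1, 5, 2, 3, 2, 1, 6, 1, 2, 1] (Cert.step [2, 3, 4, 3, 5, 1, 2, 1, 5, 3, 4, 2, 3, 2, 1, 0, 1, 2, 3, 4, 0] (Cert.fail))),
  (1, Cert.step [1, 0, 1, 0, 3, 4, 5, 1, 5, 4, 2, 3, 0, 1] (Cert.fail)),
  (1, Cert.step [0, 1, 4, 3, 2, 1, 3, 2, 6, 5, 6, 4, 3, 2, 1, 5, 2, 3, 4, 3] (Cert.step [0, 3, 2, 1, 3, 4, 3, 2, 3, 2, 4, 1, 2, 3, 0, 1, 0, 1, 2, 3] (Cert.fail))),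
  (1, Cert.step [0, 6, 1, 2, 5, 1, 6, 3, 2, 1, 5, 3, 2, 1, 6, 0] (Cert.fail)),
  (2, Cert.fail),
  (1, Cert.step [3, 2, 1, 3, 2, 4, 5, 1, 5, 4, 2, 3, 2, 3, 1] (Cert.step [1, 2, 4, 5, 1, 2, 3, 2, 4, 3, 2, 1, 0, 1, 2, 3, 4, 3, 2, 3, 1, 2, 3, 2, 1, 5, 0] (Cert.fail))),
  (1, Cert.step [0, 1, 0, 4, 5, 1, 0, 2, 1, 5, 4, 2, 3, 2, 0] (Cert.fail)),
  (1, Cert.step [0, 2, 1, 0, 3, 2, 3, 1, 0] (Cert.fail)),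
  (1, Cert.step [0, 2, 1, 3, 4, 3, 2, 0, 1, 2, 3, 4, 3, 2, 3, 0] (Cert.fail)),
  (1, Cert.step [0, 3, 2, 3, 4, 5, 1, 5, 4, 2, 3, 0, 1] (Cert.step [0, 2, 3, 2, 1, 0, 4, 3, 2, 1, 0, 3, 2, 5, 3, 4, 1, 2, 3, 2, 1, 5, 3, 4, 3, 2] (Cert.fail))),
  (1, Cert.step [0, 3, 2, 3, 1, 2, 1, 0, 1, 0] (Cert.step [3, 2, 3, 5, 1, 0, 1, 2, 1, 3, 2, 1, 4, 3, 2, 1, 5, 3, 1, 2, 3, 2, 1, 0, 1] (Cert.fail))),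
  (1, Cert.step [1, 3, 2, 3, 2, 4, 5, 1, 5, 4, 0, 1, 2, 0, 1] (Cert.fail)),
  (1, Cert.step [0, 3, 2, 3, 4, 5, 1, 5, 4, 2, 3, 0, 1, 2] (Cert.step [0, 3, 2, 1, 3, 4, 3, 2, 3, 2, 4, 1, 2, 3, 0, 1, 0, 1, 2, 3] (Cert.step [0, 2, 1, 0, 3, 4, 3, 2, 5, 1, 0, 2, 3, 4, 2, 1, 5, 3, 2, 3, 4, 0, 1, 2, 0] (Cert.done [0, 2, 1, 0, 3, 4, 3, 2, 5, 1, 0, 2, 3, 4, 2, 1, 5, 3, 2, 3, 4, 0, 1, 2, 3, 2, 1, 3, 4, 3, 2, 3, 2, 4, 1, 2, 3, 0, 1, 0, 1, 2, 3, 0, 3, 2, 3, 4, 5, 1, 5, 4, 2, 3, 0, 1, 2, 0, 4, 6, 1, 0, 2, 1, 3, 2, 5, 1, 6, 0, 1, 5, 3, 2, 3, 1, 2, 0, 1, 6, 2, 6, 1, 2, 3, 2, 1, 4, 3, 6, 5, 1, 2, 6])))),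
  (1, Cert.step [0, 3, 2, 3, 4, 5, 1, 5, 4, 2, 3, 0, 1, 2] (Cert.step [0, 2, 3, 4, 5, 1, 0, 1, 2, 1, 3, 2, 1, 0, 1, 5, 4, 3, 1, 2, 0, 1] (Cert.fail))),
  (1, Cert.step [0, 1, 3, 2, 4, 5, 1, 5, 4, 2, 3, 2, 0] (Cert.step [2, 3, 2, 3, 4, 3, 5, 1, 0, 2, 1, 3, 4, 5, 2, 0, 1, 0, 1, 5, 2, 3, 4] (Cert.fail))),
  (1, Cert.step [0, 3, 2, 4, 5, 1, 2, 0, 1, 5, 4, 2, 3, 0] (Cert.step [0, 1, 0, 2, 1, 4, 3, 2, 3, 2, 1, 4, 0, 1, 2, 3, 0, 1, 2, 3, 4, 1] (Cert.fail))),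
  (1, Cert.step [0, 1, 3, 2, 4, 5, 1, 5, 4, 2, 3, 2, 0, 1] (Cert.step [0, 2, 3, 2, 1, 0, 4, 3, 2, 1, 0, 3, 2, 5, 3, 4, 3, 1, 2, 3, 2, 1, 5, 4, 1, 2] (Cert.fail))),
  (1, Cert.step [0, 1, 2, 3, 4, 5, 1, 2, 3, 2, 1, 5, 4, 1, 2] (Cert.fail)),
  (2, Cert.fail),
  (1, Cert.step [5, 1, 2, 3, 2, 1, 0, 1, 2, 3, 2, 1, 5] (Cert.step [4, 3, 2, 3, 2, 1, 0, 4, 1, 2, 3, 1, 2, 3, 4, 3, 1, 0, 1] (Cert.fail))),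
  (1, Cert.step [3, 2, 3, 2, 4, 5, 1, 5, 4, 0, 1, 0] (Cert.step [4, 3, 2, 3, 4, 5, 1, 0, 2, 3, 4, 1, 0, 1, 5, 2, 3, 4, 0, 1, 0, 1] (Cert.fail))),
  (1, Cert.step [0, 1, 0, 4, 5, 1, 5, 4, 2, 3, 2, 3] (Cert.step [] (Cert.step [3, 4, 3, 2, 1, 0, 3, 2, 3, 5, 1, 2, 4, 3, 2, 1, 5, 3, 2, 3, 0, 1, 2, 3, 4, 3] (Cert.done [3, 4, 3, 2, 1, 0, 3, 2, 3, 5, 1, 2, 4, 3, 2, 1, 5, 3, 2, 3, 0, 1, 2, 3, 4, 3, 0, 1, 0, 4, 5, 1, 5, 4, 2, 3, 2, 3, 6, 1, 0, 2, 1, 3, 2, 6, 5, 1, 2, 3, 2, 4, 3, 2, 1, 5, 0, 4, 3, 6, 5, 1, 2, 6])))),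
  (1, Cert.step [0, 1, 3, 2, 4, 5, 1, 5, 4, 0, 1, 2, 0] (Cert.step [1, 2, 1, 4, 5, 1, 0, 1, 5, 3, 2, 1, 0, 1, 2, 3, 4, 3, 2, 1] (Cert.fail))),
  (1, Cert.step [0, 1, 2, 1, 0, 1, 0, 3, 2, 3, 1, 2, 3] (Cert.step [3, 5, 1, 0, 2, 1, 0, 1, 5, 3, 4, 1, 2, 3, 2, 0, 1, 5, 2, 3, 1, 2] (Cert.fail))),
  (1, Cert.fail),
  (1, Cert.step [0, 6, 1, 0, 2, 1, 0, 3, 2, 1, 5, 2, 3, 2, 1, 6, 1] (Cert.step [0, 1, 3, 2, 1, 3, 5, 1, 0, 1, 2, 3, 0, 1, 2, 0, 1, 0, 1] (Cert.fail))),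
  (1, Cert.step [1, 0, 6, 1, 2, 5, 1, 6, 3, 2, 1, 5, 3, 2, 1, 6, 0, 1, 2] (Cert.step [3, 2, 5, 1, 0, 1, 2, 3, 2, 1, 0, 3, 4, 1, 2, 3, 2, 1, 5, 3, 1] (Cert.fail))),
  (1, Cert.step [0, 1, 0, 3, 4, 5, 4, 2, 3, 2, 1, 0, 1, 5] (Cert.fail)),
  (1, Cert.fail),
  (1, Cert.step [3, 2, 3, 5, 1, 2, 6, 1, 0, 5, 1, 0, 1, 6, 1, 2, 3, 2] (Cert.step [0, 1, 0, 1, 4, 3, 2, 3, 4, 5, 2, 1, 0, 1, 2, 3, 2, 1, 5, 3, 1, 0, 1, 0] (Cert.fail))),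
  (1, Cert.fail),
  (1, Cert.step [2, 1, 0, 1, 0, 3, 2, 3, 2, 3, 1] (Cert.fail)),
  (1, Cert.fail),
  (1, Cert.step [2, 1, 6, 5, 1, 0, 2, 1, 0, 1, 3, 2, 1, 5, 3, 2, 1, 6, 0] (Cert.fail)),
  (1, Cert.step [1, 0, 3, 2, 4, 5, 1, 5, 4, 2, 3, 2, 3, 1] (Cert.step [2, 3, 2, 4, 3, 5, 1, 2, 3, 2, 1, 5, 4, 1, 2, 3, 2, 1, 5, 3, 4, 2, 3, 2] (Cert.fail))),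
  (1, Cert.step [1, 3, 2, 1, 0, 3, 4, 3, 2, 3, 1, 2, 3, 1, 2, 3, 4, 3] (Cert.step [3, 2, 5, 1, 0, 1, 2, 3, 2, 1, 0, 3, 4, 1, 2, 3, 2, 1, 5, 3, 1] (Cert.fail))),
  (1, Cert.step [0, 2, 1, 3, 4, 3, 5, 1, 0, 1, 3, 2, 3, 1, 2, 0, 1, 5, 4, 0] (Cert.fail)),
  (1, Cert.step [0, 6, 1, 0, 2, 1, 0, 3, 2, 1, 5, 2, 3, 2, 1, 6, 2] (Cert.step [0, 4, 5, 1, 0, 2, 1, 3, 2, 1, 0, 1, 5, 4, 3, 2, 3, 1, 2] (Cert.fail))),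
  (1, Cert.step [0, 1, 3, 2, 1, 0, 1, 2, 3, 2, 3] (Cert.step [3, 5, 1, 0, 2, 1, 0, 1, 5, 3, 4, 1, 2, 3, 2, 0, 1, 5, 2, 3, 1, 2] (Cert.fail))),
  (1, Cert.step [0, 1, 0, 3, 2, 3, 1, 0, 1, 2] (Cert.step [1, 2, 1, 4, 5, 1, 0, 1, 5, 3, 2, 1, 0, 1, 2, 3, 4, 3, 2, 1] (Cert.fail))),
  (1, Cert.fail),
  (1, Cert.step [1, 0, 3, 2, 4, 5, 1, 5, 4, 2, 3, 2, 3, 1, 2] (Cert.step [0, 1, 2, 1, 3, 2, 1, 3, 2, 4, 0, 1, 5, 3, 2, 3, 4, 1, 2, 3, 1, 0, 1] (Cert.fail))),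
  (1, Cert.step [5, 1, 0, 1, 2, 3, 2, 4, 1, 5, 4, 3, 2, 3, 1, 0] (Cert.fail)),
  (1, Cert.step [3, 2, 3, 2, 4, 5, 1, 5, 4, 0, 1, 2, 0] (Cert.step [2, 3, 2, 4, 3, 5, 1, 2, 3, 2, 4, 3, 1, 5, 1, 2, 3, 0, 1, 2, 0, 1, 5, 4, 1, 2] (Cert.fail))),
  (1, Cert.fail),
  (1, Cert.step [0, 1, 0, 2, 3, 1, 2, 3] (Cert.step [0, 1, 0, 1, 4, 3, 2, 3, 2, 1, 0, 4, 5, 2, 1, 5, 2, 3, 0, 1, 2] (Cert.fail)))]),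
  (715, Cert.bad 0),
  (1, Cert.rl [(1, Cert.step [0, 2, 0] (Cert.step [0, 1, 0, 2, 1, 4, 3, 2, 3, 2, 1, 4, 0, 1, 2, 3, 0, 1, 2, 3, 4, 1] (Cert.fail))),
  (1, Cert.step [1, 0, 3, 2, 3, 2, 1, 0, 1, 2, 1, 0] (Cert.fail)),
  (1, Cert.step [1, 0, 6, 1, 2, 5, 1, 6, 3, 2, 1, 5, 3, 2, 1, 6, 2, 0, 1] (Cert.step [1, 3, 4, 5, 1, 2, 3, 2, 1, 3, 4, 3, 0, 1, 2, 3, 2, 1, 5, 4, 0] (Cert.fail))),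
  (1, Cert.step [0, 1, 3, 2, 4, 5, 1, 5, 4, 3, 2, 3, 1, 0] (Cert.fail)),
  (1, Cert.step [0, 2, 3, 2, 4, 5, 1, 5, 4, 2, 3, 2, 3, 1, 2] (Cert.step [1, 4, 3, 5, 1, 2, 3, 2, 1, 4, 3, 0, 1, 2, 3, 2, 1, 5, 4, 0, 1, 2] (Cert.fail))),
  (1, Cert.step [0, 1, 0, 3, 2, 3, 2, 3] (Cert.fail)),
  (1, Cert.fail),
  (1, Cert.step [1, 0, 6, 1, 2, 5, 1, 6, 3, 2, 1, 5, 3, 2, 1, 6, 0, 1, 2] (Cert.step [2, 3, 4, 2, 3, 0, 1, 2, 3, 4, 0, 1, 2, 3, 2, 0] (Cert.fail))),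
  (1, Cert.step [1, 3, 2, 4, 5, 1, 0, 2, 3, 4, 2, 3, 2, 1, 0, 1, 5, 0] (Cert.fail)),
  (1, Cert.step [1, 0, 4, 5, 1, 2, 6, 5, 6, 3, 0, 1, 2, 0, 1, 5, 4, 2] (Cert.step [0, 1, 0, 1, 2, 3, 2, 4, 3, 2, 1, 0, 3, 2, 1, 5, 4, 3, 1, 2, 3, 1, 0, 1] (Cert.fail))),
  (1, Cert.step [3, 2, 3, 2, 4, 5, 1, 5, 4, 0, 1, 2, 0, 1] (Cert.fail)),
  (1, Cert.step [0, 3, 2, 3, 2, 3, 1, 2, 0] (Cert.step [0, 5, 1, 0, 2, 1, 5, 3, 2, 3, 4, 3, 2, 3, 0, 1, 2, 0, 1, 5, 0] (Cert.step [] (Cert.done [0, 5, 1, 0, 2, 1, 5, 3, 2, 3, 4, 3, 2, 3, 0, 1, 2, 0, 1, 5, 3, 2, 3, 2, 3, 1, 2, 0, 4, 0, 6, 1, 0, 1, 2, 3, 2, 1, 4, 3, 2, 1, 0, 5, 1, 6])))),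
  (1, Cert.step [1, 0, 1, 0, 3, 2, 3, 1, 0, 1] (Cert.step [3, 2, 1, 0, 3, 5, 1, 0, 2, 3, 4, 3, 2, 1, 5, 0, 1, 2, 3] (Cert.fail))),
  (1, Cert.step [0, 1, 3, 2, 3, 4, 5, 1, 2, 0, 1, 5, 4, 2, 3, 0] (Cert.step [2, 3, 2, 1, 4, 3, 2, 1, 3, 2, 1, 0, 5, 1, 4, 3, 2, 3, 0, 1, 2, 3, 0, 1, 2, 3, 4, 0] (Cert.fail))),
  (1, Cert.fail),
  (1, Cert.step [0, 2, 1, 0, 2, 3, 1, 2, 3] (Cert.step [3, 2, 4, 3, 2, 5, 1, 4, 2, 3, 2, 0, 1, 5, 4, 3, 2, 3, 4, 2, 3] (Cert.fail))),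
  (1, Cert.step [1, 0, 3, 2, 4, 5, 1, 5, 4, 2, 3, 2, 3] (Cert.fail)),
  (1, Cert.step [0, 3, 2, 4, 5, 1, 0, 2, 1, 5, 4, 2, 3, 2, 0, 1] (Cert.step [2, 1, 0, 3, 2, 5, 1, 2, 3, 4, 2, 3, 2, 1, 5, 3, 0, 1, 2, 3, 4, 2, 3] (Cert.fail))),
  (1, Cert.step [0, 6, 1, 0, 2, 1, 0, 3, 2, 1, 5, 2, 3, 2, 1, 6, 2] (Cert.fail)),
  (1, Cert.step [3, 2, 1, 3, 2, 3, 2, 3, 1, 2, 0] (Cert.step [2, 3, 2, 4, 3, 5, 1, 2, 3, 2, 1, 5, 4, 1, 2, 3, 2, 1, 5, 3, 4, 2, 3, 2] (Cert.fail))),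
  (1, Cert.fail),
  (1, Cert.step [0, 1, 0, 3, 2, 3, 2, 3, 1] (Cert.step [1, 2, 3, 4, 5, 1, 0, 1, 0, 1, 2, 3, 2, 1, 5, 4, 0, 1, 2] (Cert.fail))),
  (1, Cert.fail),
  (1, Cert.step [0, 3, 2, 3, 4, 5, 1, 5, 4, 2, 3, 0] (Cert.step [1, 2, 1, 4, 5, 1, 0, 1, 2, 3, 2, 3, 5, 1, 0, 1, 5, 1, 2, 3, 4, 3, 2] (Cert.fail))),
  (1, Cert.step [0, 1, 4, 3, 2, 5, 6, 1, 0, 5, 1, 0, 1, 6, 3, 2, 3, 4, 3, 1] (Cert.step [0, 2, 4, 3, 5, 1, 0, 1, 2, 3, 2, 5, 4, 3, 1, 2, 3, 2, 1, 5, 2, 3, 4, 2, 0] (Cert.fail))),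
  (1, Cert.step [1, 6, 5, 1, 0, 2, 1, 0, 1, 3, 2, 0, 1, 5, 3, 2, 1, 6, 0] (Cert.fail)),
  (1, Cert.fail),
  (1, Cert.step [1, 0, 4, 5, 1, 2, 3, 2, 1, 5, 4, 0] (Cert.fail)),
  (1, Cert.step [0, 3, 2, 4, 5, 1, 2, 0, 1, 5, 4, 2, 3, 0] (Cert.step [3, 2, 3, 2, 1, 4, 3, 2, 3, 5, 2, 1, 5, 4, 2, 3, 2, 1, 0, 1, 5] (Cert.fail))),
  (1, Cert.step [0, 1, 0, 1, 2, 1, 3, 0, 1, 2, 0, 1] (Cert.fail)),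
  (1, Cert.fail),
  (1, Cert.step [0, 3, 2, 3, 2, 1, 0, 1, 2, 1, 0] (Cert.step [0, 3, 2, 1, 3, 2, 4, 3, 2, 5, 1, 0, 1, 3, 4, 2, 3, 2, 3, 1, 0, 1] (Cert.fail))),
  (1, Cert.step [1, 0, 5, 1, 2, 3, 4, 6, 1, 2, 3, 5, 1, 6, 2, 3, 1, 2, 0, 1, 0, 1, 6, 1, 5] (Cert.step [0, 2, 5, 1, 0, 2, 1, 3, 2, 3, 2, 4, 5, 3, 2, 3, 1, 2, 0, 1, 5, 3, 2, 0] (Cert.fail))),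
  (1, Cert.step [0, 3, 2, 3, 2, 3, 1, 2, 0, 1] (Cert.step [0, 5, 1, 0, 2, 1, 5, 3, 2, 3, 4, 3, 2, 3, 0, 1, 2, 0, 1, 5, 0] (Cert.fail))),
  (1, Cert.step [3, 2, 4, 5, 1, 0, 2, 3, 6, 5, 6, 2, 1, 5, 4, 3, 2, 0, 1, 0] (Cert.step [3, 2, 1, 4, 3, 2, 1, 3, 2, 1, 5, 0, 1, 2, 3, 2, 3, 4, 1, 2, 3] (Cert.fail))),
  (1, Cert.fail),
  (1, Cert.step [1, 2] (Cert.step [0, 1, 4, 5, 1, 2, 3, 2, 4, 3, 2, 1, 5, 2, 3, 1, 2, 0, 1, 0, 1, 0] (Cert.fail))),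
  (1, Cert.step [1, 0, 3, 2, 4, 5, 1, 5, 4, 2, 3, 2, 3, 1] (Cert.fail)),
  (1, Cert.step [0, 6, 1, 0, 1, 5, 0, 1, 6, 2, 1, 5, 3, 2, 3] (Cert.step [3, 2, 3, 5, 1, 0, 1, 2, 1, 3, 5, 4, 2, 3, 0, 1, 2, 1, 0, 1, 5, 3, 2, 3] (Cert.fail))),
  (1, Cert.step [0, 1, 3, 2, 1, 0, 1, 4, 5, 1, 5, 4, 2, 3, 2, 0, 1] (Cert.step [] (Cert.fail))),
  (1, Cert.step [0, 1, 0, 4, 5, 1, 5, 4, 1, 2, 1, 0, 1, 0] (Cert.fail)),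
  (1, Cert.step [2, 4, 3, 5, 1, 0, 2, 1, 6, 5, 6, 2, 3, 1, 2, 3, 4, 2, 3] (Cert.step [3, 4, 3, 2, 3, 2, 1, 0, 5, 1, 0, 2, 3, 4, 3, 1, 2, 3, 1, 2, 1, 0, 1, 5, 4] (Cert.fail))),
  (1, Cert.step [2, 1, 6, 5, 1, 0, 2, 1, 0, 1, 3, 2, 1, 5, 3, 2, 1, 6, 2, 0, 1] (Cert.step [2, 1, 0, 3, 2, 5, 1, 2, 3, 4, 2, 3, 2, 1, 5, 3, 0, 1, 2, 3, 4, 2, 3] (Cert.fail))),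
  (1, Cert.step [2, 4, 3, 5, 1, 0, 2, 1, 6, 5, 6, 2, 3, 1, 2, 3, 4, 2, 3, 2] (Cert.step [0, 1, 5, 1, 0, 1, 2, 5, 1, 3, 4, 2, 3, 2, 1, 0, 1, 5, 2, 3, 2, 3] (Cert.fail))),
  (1, Cert.step [1, 0, 4, 5, 1, 2, 6, 5, 6, 3, 2, 0, 1, 5, 4, 2, 3, 2] (Cert.step [2, 3, 5, 1, 0, 1, 2, 1, 3, 2, 3, 4, 3, 2, 1, 5, 2, 1, 0, 1, 2] (Cert.fail))),
  (1, Cert.step [1, 0, 3, 2, 4, 5, 1, 5, 4, 2, 3, 2, 3, 1, 2] (Cert.step [1, 0, 2, 1, 0, 1, 0, 5, 1, 2, 3, 2, 3, 1, 2] (Cert.fail))),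
  (1, Cert.step [0, 6, 1, 0, 2, 1, 0, 3, 2, 1, 5, 2, 3, 2, 1, 6, 1] (Cert.step [1, 2, 1, 3, 2, 1, 0, 1, 3, 4, 5, 1, 2, 3, 2, 0, 1, 5, 4] (Cert.fail))),
  (3, Cert.fail),
  (1, Cert.step [0, 2, 6, 1, 0, 2, 1, 0, 3, 2, 1, 5, 2, 3, 2, 1, 6] (Cert.step [0, 1, 0, 1, 2, 3, 2, 4, 3, 2, 1, 0, 3, 2, 1, 5, 4, 3, 1, 2, 3, 1, 0, 1] (Cert.fail))),
  (1, Cert.step [3, 4, 3, 2, 5, 1, 2, 3, 4, 6, 5, 6, 2, 3, 1, 2, 3, 4, 2, 3] (Cert.step [2, 1, 0, 1, 5, 2, 3, 4, 1, 2, 3, 2, 0, 1, 5, 4, 3] (Cert.fail))),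
  (1, Cert.step [3, 2, 3, 5, 1, 2, 6, 1, 0, 5, 1, 0, 1, 6, 0] (Cert.fail)),
  (1, Cert.step [0, 2, 1, 3, 2, 3, 2, 3, 1, 2, 3] (Cert.step [2, 3, 4, 3, 2, 1, 0, 5, 2, 3, 1, 0, 1, 2, 3, 4, 2, 3, 2, 1] (Cert.step [3, 4, 3, 2, 1, 0, 3, 2, 3, 5, 1, 2, 4, 3, 2, 1, 5, 3, 2, 3, 0, 1, 2, 3, 4, 3] (Cert.done [3, 4, 3, 2, 1, 0, 3, 2, 3, 5, 1, 2, 4, 3, 2, 1, 5, 3, 2, 3, 0, 1, 2, 3, 4, 3, 2, 3, 4, 3, 2, 1, 0, 5, 2, 3, 1, 0, 1, 2, 3, 4, 2, 3, 2, 1, 0, 2, 1, 3, 2, 3, 2, 3, 1, 2, 4, 5, 3, 0, 6, 1, 0, 1, 2, 3, 2, 1, 4, 3, 2, 1, 0, 5, 1, 6])))),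
  (1, Cert.fail),
  (1, Cert.step [0, 6, 1, 0, 1, 6, 1, 5, 1, 6, 3, 2, 1] (Cert.step [1, 0, 3, 2, 1, 4, 3, 2, 1, 3, 2, 4, 3, 2, 1, 5, 3, 0, 1, 2, 0, 1, 0, 1, 5] (Cert.fail))),
  (1, Cert.step [3, 2, 1, 3, 2, 3, 2, 3, 1, 2, 0] (Cert.step [1, 2, 3, 2, 4, 3, 2, 1, 0, 1, 3, 2, 5, 0, 1, 2, 3, 4, 3, 2] (Cert.fail))),
  (1, Cert.fail),
  (1, Cert.step [0, 3, 2, 4, 5, 1, 5, 4, 2, 3, 2, 3] (Cert.fail)),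
  (1, Cert.step [0, 1, 3, 2, 4, 5, 1, 5, 4, 2, 3, 0] (Cert.step [0, 2, 3, 5, 1, 0, 1, 0, 2, 3, 5, 1, 4, 3, 2, 1, 5, 3, 1, 2, 1] (Cert.fail))),
  (1, Cert.step [0, 2, 3, 2, 4, 5, 1, 5, 4, 2, 3, 2, 3, 1, 2] (Cert.step [3, 2, 1, 3, 2, 3, 2, 1, 0, 4, 5, 1, 2, 3, 4, 2, 3, 1, 2, 1, 0, 1, 5, 3] (Cert.fail))),
  (1, Cert.step [0, 3, 2, 4, 5, 1, 5, 4, 2, 3, 2, 3, 1] (Cert.fail)),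
  (1, Cert.step [0, 1, 3, 2, 3, 4, 5, 1, 5, 4, 2, 3, 1, 2, 0, 1] (Cert.step [5, 1, 4, 2, 3, 1, 2, 0, 1, 5, 4, 3, 2] (Cert.fail))),
  (1, Cert.step [2, 4, 3, 5, 1, 0, 2, 1, 6, 5, 6, 2, 3, 1, 2, 3, 4, 2, 3, 2] (Cert.step [3, 2, 1, 3, 2, 3, 2, 1, 0, 4, 5, 1, 2, 3, 4, 2, 3, 1, 2, 1, 0, 1, 5, 3] (Cert.fail))),
  (1, Cert.step [0, 3, 2, 3, 0, 1, 2, 0, 1, 0] (Cert.step [0, 1, 3, 2, 1, 3, 5, 1, 0, 1, 2, 3, 0, 1, 2, 0, 1, 0, 1] (Cert.fail))),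
  (1, Cert.step [0, 1, 4, 3, 2, 1, 3, 2, 6, 5, 6, 4, 3, 2, 1, 5, 2, 3, 4, 3] (Cert.step [1, 2, 1, 4, 5, 1, 0, 1, 2, 3, 2, 3, 5, 1, 0, 1, 5, 1, 2, 3, 4, 3, 2] (Cert.fail))),
  (1, Cert.step [0, 1, 0, 3, 2, 3, 1, 0, 1, 2] (Cert.fail)),
  (1, Cert.step [1, 0, 4, 5, 1, 2, 6, 5, 6, 3, 2, 0, 1, 5, 4, 2, 3, 2] (Cert.fail)),
  (1, Cert.step [3, 2, 1, 3, 2, 3, 2, 3, 1, 0] (Cert.step [2, 3, 2, 4, 3, 5, 1, 2, 3, 2, 1, 5, 4, 1, 2, 3, 2, 1, 5, 3, 4, 2, 3, 2] (Cert.fail))),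
  (1, Cert.fail),
  (1, Cert.step [1, 0, 5, 1, 2, 3, 2, 3, 4, 6, 5, 6, 3, 2, 1, 5, 4, 0, 1, 2] (Cert.step [0, 3, 4, 5, 1, 0, 1, 2, 3, 4, 5, 2, 0, 1, 0, 1, 5, 2, 3, 2, 3] (Cert.fail))),
  (1, Cert.step [1, 3, 2, 3, 2, 1, 0, 1, 2, 3, 1, 0] (Cert.step [2, 1, 3, 5, 1, 0, 1, 5, 2] (Cert.fail))),
  (1, Cert.step [1, 3, 6, 1, 2, 5, 1, 2, 6, 1, 0, 1, 2, 0, 1, 6, 3, 2, 0] (Cert.step [3, 2, 5, 1, 0, 1, 2, 3, 5, 2, 3, 4, 1, 2, 3, 2, 0, 1, 5] (Cert.fail))),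
  (1, Cert.step [0, 1, 3, 2, 3, 4, 5, 1, 5, 4, 2, 3, 1, 2, 0, 1] (Cert.step [2, 3, 4, 2, 3, 0, 1, 2, 3, 4, 0, 1, 2, 3, 2, 0] (Cert.fail))),
  (1, Cert.step [0, 2, 3, 4, 5, 1, 0, 2, 1, 3, 5, 4, 3, 1, 2, 1, 0, 1, 5, 4, 0] (Cert.step [0, 2, 1, 3, 2, 3, 2, 1, 0, 4, 3, 1, 2, 3, 1, 2, 0, 1, 5, 4, 1, 2, 3, 0, 1] (Cert.fail))),
  (1, Cert.step [1, 0, 6, 1, 2, 5, 1, 6, 3, 2, 1, 5, 3, 2, 1, 6, 2, 0, 1] (Cert.step [3, 2, 5, 1, 0, 1, 2, 3, 5, 2, 3, 4, 1, 2, 3, 2, 0, 1, 5] (Cert.fail))),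
  (1, Cert.fail),
  (1, Cert.step [1, 0, 3, 2, 4, 5, 1, 4, 2, 3, 2, 1, 0, 1, 5] (Cert.step [3, 2, 1, 4, 3, 2, 1, 3, 2, 1, 5, 0, 1, 2, 3, 2, 3, 4, 1, 2, 3] (Cert.fail))),
  (1, Cert.step [1, 0, 3, 2, 3, 4, 5, 1, 5, 4, 2, 3, 0] (Cert.step [0, 1, 0, 1, 4, 3, 2, 3, 4, 5, 2, 1, 0, 1, 2, 3, 2, 1, 5, 3, 1, 0, 1, 0] (Cert.fail))),
  (1, Cert.step [1, 0, 4, 5, 1, 2, 6, 5, 6, 3, 0, 1, 2, 0, 1, 5, 4] (Cert.step [1, 0, 3, 2, 1, 4, 3, 2, 3, 2, 1, 4, 5, 2, 0, 1, 5, 2, 3, 0] (Cert.fail))),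
  (1, Cert.step [1, 0, 1, 0, 3, 4, 5, 1, 5, 4, 2, 3, 1, 2, 3] (Cert.step [2, 1, 3, 5, 4, 1, 2, 3, 2, 1, 5, 4, 3, 2] (Cert.fail))),
  (1, Cert.step [0, 1, 3, 2, 4, 5, 1, 5, 4, 2, 3, 2, 0] (Cert.step [2, 4, 3, 2, 1, 3, 2, 5, 1, 0, 2, 1, 0, 3, 1, 2, 3, 4] (Cert.step [1, 2, 3, 5, 1, 2, 3, 2, 1, 5, 4, 0, 1, 2, 3, 2, 1, 5, 3, 2, 1] (Cert.done [1, 2, 3, 5, 1, 2, 3, 2, 1, 5, 4, 0, 1, 2, 3, 2, 1, 5, 3, 2, 1, 2, 4, 3, 2, 1, 3, 2, 5, 1, 0, 2, 1, 0, 3, 1, 2, 3, 4, 0, 1, 3, 2, 4, 5, 1, 5, 4, 2, 3, 2, 0, 6, 1, 0, 1, 6, 5, 1, 6, 2, 0, 6, 1, 0, 1, 2, 3, 2, 1, 4, 3, 2, 1, 0, 5, 1, 6])))),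
  (1, Cert.step [2, 4, 3, 5, 1, 0, 2, 1, 6, 5, 6, 2, 3, 1, 2, 3, 4, 2, 3, 2] (Cert.fail)),
  (1, Cert.fail),
  (1, Cert.step [0, 3, 2, 3, 1, 2, 0, 1, 0, 1, 0] (Cert.fail)),
  (4, Cert.fail),
  (1, Cert.step [1, 0, 2, 6, 1, 0, 1, 6, 1, 5, 1, 6, 3, 2, 1] (Cert.step [1, 5, 1, 0, 1, 0, 2, 1, 3, 2, 4, 3, 5, 1, 0, 1, 5, 2, 3, 4, 1, 2, 3, 0, 1] (Cert.fail))),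
  (1, Cert.step [3, 2, 3, 2, 4, 5, 1, 5, 4, 2, 3, 0] (Cert.fail)),
  (1, Cert.step [0, 1, 0, 3, 2, 3, 2, 3] (Cert.step [1, 3, 4, 5, 1, 2, 3, 2, 1, 3, 4, 3, 0, 1, 2, 3, 2, 1, 5, 4, 0] (Cert.fail))),
  (1, Cert.fail),
  (1, Cert.step [1, 0, 1, 0, 4, 5, 1, 4, 2, 3, 2, 1, 0, 1, 5] (Cert.fail)),
  (1, Cert.step [0, 1, 0, 3, 4, 5, 1, 5, 4, 2, 3, 0, 1] (Cert.step [1, 2, 1, 3, 4, 3, 2, 1, 5, 1, 2, 3, 4, 2, 3, 0, 1, 2, 3, 4, 2, 3, 1] (Cert.fail))),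
  (1, Cert.step [0, 1, 3, 2, 1, 0, 1, 3, 0, 1, 2, 0, 1] (Cert.step [1, 2, 3, 2, 1, 0, 5, 1, 0, 2, 3, 2, 1, 5, 4, 3, 0, 1, 2, 3, 2, 1, 5, 2, 1, 0] (Cert.fail))),
  (1, Cert.step [1, 0, 1, 0, 4, 5, 1, 4, 2, 3, 2, 1, 0, 1, 5] (Cert.step [2, 3, 4, 3, 2, 3, 2, 4, 5, 1, 0, 2, 1, 3, 5, 2, 3, 4, 3, 2, 3, 1, 0, 1] (Cert.fail))),
  (1, Cert.fail),
  (1, Cert.step [0, 1, 2, 3, 1] (Cert.step [0, 4, 5, 1, 0, 2, 1, 3, 2, 1, 0, 1, 5, 4, 3, 2, 3, 1, 2] (Cert.fail))),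
  (1, Cert.fail),
  (1, Cert.step [0, 1, 3, 2, 4, 5, 1, 5, 4, 3, 2, 3, 1, 0] (Cert.fail)),
  (1, Cert.fail),
  (1, Cert.step [5, 1, 0, 1, 2, 3, 2, 4, 1, 5, 4, 2, 3, 0, 1, 2] (Cert.step [1, 2, 1, 3, 4, 3, 2, 1, 5, 1, 2, 3, 4, 2, 3, 0, 1, 2, 3, 4, 2, 3, 1] (Cert.fail))),
  (1, Cert.step [1, 0, 1, 3, 2, 4, 5, 1, 5, 4, 2, 3, 0] (Cert.step [1, 5, 1, 0, 1, 0, 2, 1, 3, 2, 4, 3, 5, 1, 0, 1, 5, 2, 3, 4, 1, 2, 3, 0, 1] (Cert.fail))),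
  (1, Cert.step [1, 2, 3, 2, 1, 6, 1, 0, 1, 6, 0, 1, 0, 1, 6, 2, 3, 2, 0] (Cert.step [1, 2, 3, 2, 1, 0, 5, 1, 0, 2, 3, 2, 1, 5, 4, 3, 0, 1, 2, 3, 2, 1, 5, 2, 1, 0] (Cert.fail))),
  (1, Cert.fail),
  (1, Cert.step [0, 1, 0, 2, 3, 2, 6, 1, 0, 1, 6, 1, 5, 1, 6, 3, 2, 1] (Cert.step [1, 0, 2, 1, 3, 4, 5, 1, 0, 1, 2, 1, 0, 3, 2, 1, 5, 4, 0, 1, 2] (Cert.step [0, 2, 1, 0, 3, 4, 3, 2, 5, 1, 0, 2, 3, 4, 2, 1, 5, 3, 2, 3, 4, 0, 1, 2, 0] (Cert.done [0, 2, 1, 0, 3, 4, 3, 2, 5, 1, 0, 2, 3, 4, 2, 1, 5, 3, 2, 3, 4, 0, 1, 2, 0, 1, 0, 2, 1, 3, 4, 5, 1, 0, 1, 2, 1, 0, 3, 2, 1, 5, 4, 0, 1, 2, 0, 1, 0, 2, 3, 2, 6, 1, 0, 1, 6, 1, 5, 1, 6, 3, 2, 1, 4, 5, 1, 2, 0, 6, 1, 0, 1, 2, 3, 2, 1, 4, 3, 2, 1, 0, 5,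 1, 6])))),
  (1, Cert.step [0, 3, 2, 4, 5, 1, 2, 0, 1, 5, 4, 2, 3, 0] (Cert.fail)),
  (1, Cert.step [0, 2, 6, 1, 0, 2, 1, 0, 3, 2, 1, 5, 2, 3, 2, 1, 6, 1] (Cert.step [1, 0, 3, 2, 1, 4, 3, 2, 1, 3, 2, 4, 3, 2, 1, 5, 3, 0, 1, 2, 0, 1, 0, 1, 5] (Cert.fail))),
  (1, Cert.step [0, 3, 2, 3, 4, 5, 1, 5, 4, 0, 1, 0, 1, 2] (Cert.step [1, 2, 3, 2, 1, 0, 5, 1, 0, 2, 3, 2, 1, 5, 4, 3, 0, 1, 2, 3, 2, 1, 5, 2, 1, 0] (Cert.fail))),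
  (1, Cert.fail),
  (1, Cert.step [1, 0, 1, 2, 6, 1, 5, 1, 6, 1, 0, 1, 6, 0] (Cert.fail)),
  (1, Cert.step [3, 2, 1, 6, 1, 0, 5, 1, 0, 1, 6, 5, 3, 2, 3] (Cert.step [0, 2, 1, 3, 2, 3, 2, 1, 0, 4, 3, 1, 2, 3, 1, 2, 0, 1, 5, 4, 1, 2, 3, 0, 1] (Cert.fail))),
  (1, Cert.step [0, 6, 1, 0, 2, 1, 0, 3, 2, 1, 5, 2, 3, 2, 1, 6] (Cert.step [3, 2, 1, 4, 3, 2, 1, 3, 2, 1, 5, 0, 1, 2, 3, 2, 3, 4, 1, 2, 3] (Cert.step [1, 2, 3, 5, 1, 2, 3, 2, 1, 5, 4, 0, 1, 2, 3, 2, 1, 5, 3, 2, 1] (Cert.done [1, 2, 3, 5, 1, 2, 3, 2, 1, 5, 4, 0, 1, 2, 3, 2, 1, 5, 3, 2, 1, 3, 2, 1, 4, 3, 2, 1, 3, 2, 1, 5, 0, 1, 2, 3, 2, 3, 4, 1, 2, 3, 0, 6, 1, 0, 2, 1, 0, 3, 2, 1, 5, 2, 3, 2, 1, 6, 4, 3, 2, 3, 0, 6, 1, 0, 1, 2, 3,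 2, 1, 4, 3, 2, 1, 0, 5, 1, 6])))),
  (1, Cert.step [1, 0, 1, 3, 2, 4, 5, 1, 5, 4, 3, 2, 3, 1, 0] (Cert.step [2, 3, 2, 1, 4, 3, 2, 1, 3, 2, 1, 0, 5, 1, 4, 3, 2, 3, 0, 1, 2, 3, 0, 1, 2, 3, 4, 0] (Cert.fail))),
  (1, Cert.step [0, 3, 2, 1, 5, 6, 1, 2, 3, 5, 1, 2, 6, 1, 5, 3, 2, 1, 6, 4, 3, 2, 1, 5, 0] (Cert.step [0, 2, 3, 5, 1, 0, 2, 1, 3, 2, 3, 5, 4, 2, 3, 2, 3, 1, 2, 0, 1, 5, 2, 0] (Cert.fail))),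
  (1, Cert.step [5, 1, 0, 1, 2, 3, 2, 4, 1, 5, 4, 2, 3, 2, 0] (Cert.step [0, 2, 5, 1, 2, 3, 2, 1, 0, 1, 5, 1, 4, 2, 3, 2, 3, 1, 2, 0, 1, 5, 2, 0] (Cert.fail))),
  (1, Cert.step [0, 6, 1, 0, 1, 6, 1, 5, 1, 6, 3, 1, 2, 1] (Cert.step [1, 4, 3, 5, 1, 2, 3, 2, 1, 0, 1, 2, 4, 3, 2, 1, 0, 1, 5, 3, 4, 3, 2, 0] (Cert.fail))),
  (1, Cert.step [5, 1, 0, 1, 2, 3, 2, 4, 1, 5, 4, 0, 1, 0] (Cert.step [0, 2, 3, 5, 1, 0, 2, 1, 3, 2, 3, 5, 4, 2, 3, 2, 3, 1, 2, 0, 1, 5, 2, 0] (Cert.step [3, 4, 3, 2, 1, 0, 3, 2, 3, 5, 1, 2, 4, 3, 2, 1, 5, 3, 2, 3, 0, 1, 2, 3, 4, 3] (Cert.done [3, 4, 3, 2, 1, 0, 3, 2, 3, 5, 1, 2, 4, 3, 2, 1, 5, 3, 2, 3, 0, 1, 2, 3, 4, 3, 0, 2, 3, 5, 1, 0, 2, 1, 3, 2, 3, 5, 4, 2, 3, 2,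 3, 1, 2, 0, 1, 5, 2, 0, 5, 1, 0, 1, 2, 3, 2, 4, 1, 5, 4, 0, 1, 6, 1, 5, 6, 1, 0, 1, 6, 2, 1, 6, 1, 0, 1, 2, 3, 2, 1, 4, 3, 2, 1, 0, 5, 1, 6])))),
  (1, Cert.fail),
  (1, Cert.step [0, 1, 0, 3, 2, 3, 1, 0, 1, 2] (Cert.step [1, 2, 1, 0, 1, 0, 5, 1, 2, 3, 4, 1, 2, 3, 2, 1, 5, 4, 2, 3, 2] (Cert.fail))),
  (1, Cert.step [0, 1, 0, 1, 2, 1, 3, 0, 1, 0] (Cert.step [0, 1, 0, 4, 5, 1, 0, 2, 3, 1, 5, 1, 2, 3, 4, 1, 2, 3, 2, 0] (Cert.fail))),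
  (1, Cert.fail),
  (1, Cert.step [3, 2, 3, 2, 4, 5, 1, 5, 4, 0, 1, 0] (Cert.fail)),
  (1, Cert.step [3, 2, 1, 0] (Cert.step [3, 4, 3, 2, 3, 2, 1, 0, 5, 1, 0, 2, 3, 4, 3, 1, 2, 3, 1, 2, 1, 0, 1, 5, 4] (Cert.fail))),
  (1, Cert.step [0, 1, 2, 3, 1] (Cert.step [0, 3, 5, 1, 0, 2, 3, 4, 1, 2, 3, 2, 1, 0, 1, 5, 4, 2, 3, 1] (Cert.fail))),
  (1, Cert.step [1, 3, 2, 3, 2, 4, 3, 2, 5, 1, 2, 1, 5, 1, 2, 3, 4, 2, 3, 0] (Cert.fail)),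
  (1, Cert.step [0, 1, 0, 4, 5, 1, 0, 2, 1, 5, 4, 2, 3, 2, 0, 1] (Cert.step [2, 3, 2, 4, 5, 1, 0, 1, 2, 3, 2, 1, 0, 1, 5, 4, 2, 3, 2, 1] (Cert.fail))),
  (1, Cert.step [0, 1, 3, 2, 4, 5, 1, 5, 4, 0, 1, 0] (Cert.step [0, 1, 0, 2, 1, 4, 3, 2, 3, 2, 1, 0, 1, 5, 4, 3, 1, 2, 3, 4, 1] (Cert.fail))),
  (1, Cert.step [1, 0, 6, 1, 2, 5, 1, 6, 3, 2, 1, 5, 3, 2, 1, 6, 0, 1, 2] (Cert.step [0, 4, 3, 2, 1, 0, 1, 2, 3, 2, 5, 1, 4, 3, 2, 0, 1, 5, 3, 4, 1, 2] (Cert.fail))),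
  (1, Cert.step [0, 1, 0, 2, 1, 0, 3, 2, 3, 1, 2, 3] (Cert.step [1, 4, 3, 2, 3, 5, 1, 0, 1, 2, 3, 2, 1, 5, 4, 0, 1, 2, 3, 0, 1, 2, 3, 4, 1] (Cert.fail))),
  (1, Cert.step [2, 1, 0, 6, 1, 2, 5, 1, 6, 3, 2, 1, 5, 3, 2, 1, 6, 0, 1] (Cert.step [1, 4, 3, 2, 3, 5, 1, 0, 1, 2, 3, 2, 1, 5, 4, 0, 1, 2, 3, 0, 1, 2, 3, 4, 1] (Cert.fail))),
  (2, Cert.fail),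
  (1, Cert.step [0, 3, 2, 4, 5, 1, 5, 4, 0, 1, 2, 0, 1, 0] (Cert.step [1, 0, 3, 2, 1, 4, 3, 2, 3, 2, 1, 4, 5, 2, 0, 1, 5, 2, 3, 0] (Cert.fail))),
  (1, Cert.step [0, 1, 3, 2, 4, 5, 1, 5, 4, 3, 2, 3, 1, 0] (Cert.step [1, 2, 3, 2, 1, 0, 5, 1, 0, 2, 1, 0, 3, 4, 3, 2, 3, 2, 1, 0, 1, 5, 0] (Cert.fail))),
  (1, Cert.step [0, 1, 0, 3, 4, 5, 1, 5, 4, 2, 3, 0] (Cert.step [1, 0, 1, 3, 2, 3, 4, 3, 2, 5, 3, 1, 2, 0, 1, 5, 4, 2, 3, 2, 3, 4, 3, 2] (Cert.fail))),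
  (1, Cert.fail),
  (1, Cert.step [2, 1, 3, 6, 1, 2, 5, 1, 2, 6, 3, 2, 3, 2, 1, 5, 2, 1, 6, 3] (Cert.step [1, 2, 1, 3, 4, 3, 2, 1, 5, 1, 2, 3, 4, 2, 3, 0, 1, 2, 3, 4, 2, 3, 1] (Cert.fail))),
  (1, Cert.fail),
  (1, Cert.step [0, 3, 2, 4, 5, 1, 5, 4, 2, 3, 2, 3, 1] (Cert.fail)),
  (1, Cert.fail),
  (1, Cert.step [1, 0, 5, 1, 2, 3, 2, 3, 4, 6, 5, 6, 3, 2, 1, 5, 4, 2, 0, 1] (Cert.step [0, 1, 0, 4, 5, 1, 0, 2, 3, 1, 5, 1, 2, 3, 4, 1, 2, 3, 2, 0] (Cert.fail))),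
  (1, Cert.step [0, 1, 3, 2, 3, 4, 5, 1, 5, 4, 2, 3, 1, 2, 0] (Cert.step [1, 5, 1, 0, 1, 0, 2, 1, 3, 2, 4, 3, 5, 1, 0, 1, 5, 2, 3, 4, 1, 2, 3, 0, 1] (Cert.fail))),
  (1, Cert.step [0, 6, 1, 2, 5, 1, 0, 1, 5, 2, 1, 6, 0] (Cert.step [2, 4, 3, 2, 1, 3, 2, 5, 1, 0, 2, 1, 0, 3, 1, 2, 3, 4] (Cert.fail))),
  (1, Cert.step [3, 2, 3, 5, 1, 2, 6, 1, 0, 5, 1, 0, 1, 6, 1, 2, 3, 1] (Cert.step [0, 1, 0, 1, 4, 3, 2, 3, 4, 5, 2, 1, 0, 1, 2, 3, 2, 1, 5, 3, 1, 0, 1, 0] (Cert.fail))),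
  (1, Cert.step [1, 0, 1, 3, 2, 4, 5, 1, 5, 4, 3, 2, 3, 1, 0] (Cert.step [1, 4, 3, 5, 1, 2, 3, 2, 1, 0, 1, 2, 4, 3, 2, 1, 0, 1, 5, 3, 4, 3, 2, 0] (Cert.fail))),
  (1, Cert.step [1, 0, 3, 2, 3, 4, 5, 1, 5, 4, 2, 3, 0] (Cert.step [4, 3, 2, 1, 3, 5, 2, 3, 1, 2, 3, 4] (Cert.fail))),
  (1, Cert.fail),
  (1, Cert.step [0, 3, 2, 1, 5, 6, 1, 2, 3, 5, 1, 2, 6, 1, 5, 3, 2, 1, 6, 4, 3, 2, 1, 5, 0] (Cert.fail)),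
  (1, Cert.step [0, 1, 3, 2, 3, 4, 5, 1, 2, 0, 1, 5, 4, 2, 3, 0] (Cert.fail)),
  (1, Cert.step [3, 2, 3, 5, 1, 2, 6, 1, 0, 5, 1, 0, 1, 6, 0] (Cert.fail)),
  (1, Cert.step [1, 0, 4, 5, 1, 2, 3, 6, 5, 6, 4, 2, 3, 2, 1, 0, 1, 5, 0] (Cert.step [0, 4, 3, 2, 1, 0, 1, 2, 3, 2, 5, 1, 4, 3, 2, 1, 5, 3, 4, 3, 2] (Cert.fail))),
  (1, Cert.step [3, 2, 3, 5, 1, 2, 6, 1, 0, 5, 1, 0, 1, 6, 1, 2, 3, 1, 2] (Cert.step [1, 0, 3, 2, 1, 0, 5, 1, 0, 1, 2, 1, 4, 3, 2, 3, 4, 3, 1, 2, 3, 1, 2, 0] (Cert.step [2, 1, 3, 2, 5, 1, 0, 1, 0, 5, 4, 2, 3, 2, 1, 0, 1, 5, 4, 2, 3, 1, 2] (Cert.done [2, 1, 3, 2, 5, 1, 0, 1, 0, 5, 4, 2, 3, 2, 1, 0, 1, 5, 4, 2, 3, 1, 2, 1, 0, 3, 2, 1, 0, 5, 1, 0, 1, 2, 1, 4, 3, 2, 3, 4,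 3, 1, 2, 3, 1, 2, 0, 3, 2, 3, 5, 1, 2, 6, 1, 0, 5, 1, 0, 1, 6, 1, 2, 3, 1, 2, 0, 4, 6, 1, 0, 2, 1, 3, 2, 6, 1, 0, 1, 2, 3, 2, 1, 6, 3, 0, 6, 1, 0, 1, 2, 3, 2, 1, 4, 3, 2, 1, 0, 5, 1, 6])))),
  (1, Cert.step [0, 1, 0, 4, 5, 1, 5, 4, 2, 3, 2, 3, 1] (Cert.step [3, 2, 1, 3, 2, 3, 2, 1, 0, 4, 5, 1, 2, 3, 4, 2, 3, 1, 2, 1, 0, 1, 5, 3] (Cert.fail))),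
  (1, Cert.step [3, 2, 3, 4, 3, 5, 1, 0, 1, 3, 2, 3, 1, 2, 0, 1, 5, 4, 2, 0] (Cert.step [2, 3, 4, 5, 1, 0, 2, 1, 3, 2, 4, 1, 5] (Cert.fail))),
  (1, Cert.step [] (Cert.fail)),
  (1, Cert.step [1, 0, 1, 3, 2, 4, 5, 1, 5, 4, 2, 3, 0] (Cert.step [2, 1, 0, 1, 3, 2, 1, 3, 5, 1, 0, 2, 1, 4, 3, 2, 3, 4, 3, 1, 2, 3, 0, 1] (Cert.fail))),
  (1, Cert.step [1, 0, 1, 0, 3, 4, 5, 1, 5, 4, 2, 3, 0] (Cert.fail)),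
  (1, Cert.fail),
  (1, Cert.step [0, 1, 0, 1, 2, 1, 3, 2, 3, 0, 1, 2] (Cert.step [0, 2, 1, 3, 2, 3, 2, 1, 0, 4, 3, 1, 2, 3, 1, 2, 0, 1, 5, 4, 1, 2, 3, 0, 1] (Cert.fail))),
  (1, Cert.step [0, 6, 1, 0, 2, 1, 0, 3, 2, 1, 5, 2, 3, 2, 1, 6, 1] (Cert.step [2, 1, 0, 1, 5, 2, 3, 4, 1, 2, 3, 2, 0, 1, 5, 4, 3] (Cert.fail))),
  (1, Cert.step [5, 1, 0, 1, 0, 2, 3, 4, 5, 4, 2, 3, 1, 2, 0] (Cert.fail)),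
  (3, Cert.fail),
  (1, Cert.step [0, 3, 2, 3, 2, 3, 1, 2, 0] (Cert.fail)),
  (1, Cert.fail),
  (1, Cert.step [0, 1, 2, 3, 4, 5, 1, 2, 3, 2, 1, 5, 4, 1, 2] (Cert.step [1, 2, 1, 0, 3, 2, 1, 4, 3, 2, 3, 4, 1, 0, 1, 2, 0, 1] (Cert.fail))),
  (1, Cert.step [0, 2, 1, 3, 4, 3, 5, 1, 0, 1, 3, 2, 3, 1, 2, 0, 1, 5, 4, 0] (Cert.step [1, 3, 4, 5, 1, 2, 3, 2, 1, 0, 1, 0, 4, 1, 2, 3, 4, 2, 3, 2, 1, 5, 2, 3, 2] (Cert.fail))),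
  (1, Cert.step [0, 1, 2, 3] (Cert.step [2, 1, 3, 4, 5, 1, 2, 3, 2, 1, 0, 3, 2, 4, 3, 2, 1, 5, 1, 2, 3, 1, 2, 3, 4] (Cert.fail))),
  (1, Cert.step [1, 3, 2, 3, 2, 4, 5, 1, 5, 4, 0, 1, 0] (Cert.step [0, 1, 0, 2, 1, 4, 3, 2, 3, 2, 1, 0, 1, 5, 4, 3, 1, 2, 3, 4, 1] (Cert.fail))),
  (1, Cert.step [1, 0, 4, 5, 1, 2, 6, 5, 6, 3, 0, 1, 2, 0, 1, 5, 4, 2] (Cert.step [3, 2, 1, 3, 2, 3, 2, 1, 0, 4, 5, 1, 2, 3, 4, 2, 3, 1, 2, 1, 0, 1, 5, 3] (Cert.fail))),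
  (1, Cert.step [3, 2, 1, 3, 2, 3, 4, 5, 1, 5, 4, 2, 3, 1, 2, 3] (Cert.step [1, 0, 3, 2, 1, 3, 4, 3, 2, 3, 4, 1, 2, 0, 1, 5, 3, 1, 2, 3, 1, 0, 1, 2] (Cert.fail))),
  (1, Cert.step [0, 1, 0, 3, 2, 3, 2, 3] (Cert.step [0, 1, 0, 1, 4, 3, 2, 3, 4, 1, 2, 3, 2, 1, 0, 1, 5, 2, 1, 0, 1, 2, 0] (Cert.fail))),
  (1, Cert.step [0, 3, 2, 4, 5, 1, 5, 4, 1, 0, 1, 2, 3, 1, 0] (Cert.step [1, 0, 1, 0, 4, 3, 2, 5, 1, 0, 1, 4, 3, 2, 0, 1, 5, 4, 3, 2, 3, 4] (Cert.fail))),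
  (1, Cert.step [0, 1, 2, 4, 3, 2, 3, 6, 1, 0, 1, 6, 5, 1, 6, 4, 1, 2, 3, 2, 1, 5, 4, 2, 3, 0] (Cert.step [0, 4, 5, 1, 2, 3, 2, 1, 0, 1, 2, 3, 2, 0, 1, 5, 4, 3, 2, 1] (Cert.fail))),
  (1, Cert.step [1, 3, 2, 4, 5, 1, 0, 2, 3, 4, 2, 3, 2, 1, 0, 1, 5, 0] (Cert.step [4, 5, 1, 0, 1, 2, 3, 4, 0, 1, 2, 3, 2, 1, 5, 0, 1, 2, 3, 4, 2, 3] (Cert.fail))),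
  (1, Cert.step [0, 1, 0, 4, 5, 1, 5, 4, 2, 3, 1, 0] (Cert.step [1, 5, 1, 0, 1, 0, 2, 1, 3, 2, 4, 3, 5, 1, 0, 1, 5, 2, 3, 4, 1, 2, 3, 0, 1] (Cert.fail))),
  (1, Cert.step [1, 0, 4, 5, 1, 2, 6, 5, 6, 3, 2, 0, 1, 5, 4, 2, 3] (Cert.step [3, 2, 5, 1, 0, 1, 2, 3, 2, 1, 0, 1, 4, 2, 3, 2, 1, 5, 3, 2, 1] (Cert.fail))),
  (1, Cert.step [2, 1, 0, 1, 3, 2, 4, 5, 1, 5, 4, 0, 1, 0] (Cert.step [2, 1, 3, 5, 1, 0, 1, 5, 2] (Cert.fail))),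
  (1, Cert.step [0, 1, 0, 3, 2, 3, 1, 0] (Cert.step [2, 3, 2, 4, 3, 5, 1, 2, 3, 2, 1, 5, 4, 1, 2, 3, 2, 1, 5, 3, 4, 2, 3, 2] (Cert.fail))),
  (1, Cert.step [1, 0, 1, 3, 2, 4, 5, 1, 5, 4, 2, 3, 2, 0, 1] (Cert.step [2, 1, 3, 5, 1, 0, 1, 5, 2] (Cert.fail))),
  (1, Cert.step [1, 0, 1, 2, 6, 1, 5, 1, 6, 1, 0, 1, 6, 0, 1] (Cert.step [2, 3, 4, 3, 5, 1, 2, 1, 5, 3, 4, 2, 3, 2, 1, 0, 1, 2, 3, 4, 0] (Cert.fail))),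
  (1, Cert.step [5, 1, 0, 1, 2, 3, 2, 4, 1, 5, 4, 2, 3, 2, 0] (Cert.step [4, 3, 2, 3, 5, 1, 0, 2, 1, 0, 3, 2, 1, 5, 3, 4, 3, 2, 3, 1, 2, 3, 4, 3, 1, 0, 1] (Cert.fail))),
  (1, Cert.step [1, 2, 3, 2, 1, 6, 1, 0, 1, 6, 0, 1, 0, 1, 6, 2, 3, 2, 0] (Cert.step [2, 3, 4, 5, 1, 0, 2, 1, 3, 2, 4, 1, 5] (Cert.fail))),
  (1, Cert.step [1, 0, 3, 2, 3, 1, 2, 1, 0, 1, 0] (Cert.step [1, 3, 2, 4, 3, 2, 1, 0, 3, 2, 4, 3, 2, 1, 5, 1, 2, 3, 4, 3, 1, 2, 1] (Cert.fail))),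
  (1, Cert.step [1, 0, 2, 4, 5, 1, 2, 3, 2, 1, 5, 4, 3, 2, 0, 1, 0] (Cert.fail)),
  (1, Cert.step [1, 0, 6, 1, 2, 5, 1, 6, 5, 3, 2, 1, 5, 3, 2, 1, 6, 0, 1, 2] (Cert.fail)),
  (1, Cert.step [0, 3, 2, 3, 4, 5, 1, 5, 4, 2, 3, 0] (Cert.step [2, 3, 2, 4, 5, 1, 0, 2, 1, 3, 2, 3, 2, 4, 1, 2, 3, 2, 1, 0, 1, 5, 0] (Cert.fail))),
  (1, Cert.fail),
  (1, Cert.step [1, 0, 5, 1, 2, 3, 2, 3, 4, 6, 5, 6, 3, 2, 1, 5, 4, 0, 1, 2] (Cert.step [2, 1, 3, 5, 4, 1, 2, 3, 2, 1, 5, 4, 3, 2] (Cert.fail))),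
  (1, Cert.step [1, 3, 2, 3, 2, 4, 5, 1, 5, 4, 0, 1, 2, 0] (Cert.fail)),
  (1, Cert.step [1, 0, 3, 2, 3, 4, 5, 1, 5, 4, 0, 1, 0] (Cert.step [2, 3, 4, 3, 2, 1, 0, 5, 2, 3, 1, 0, 1, 2, 3, 4, 2, 3, 2, 1] (Cert.fail))),
  (1, Cert.fail),
  (1, Cert.step [0, 6, 1, 0, 1, 6, 1, 5, 1, 6, 3] (Cert.fail)),
  (1, Cert.step [0, 1, 3, 2, 1, 0, 1, 4, 5, 1, 5, 4, 2, 3, 2, 0, 1] (Cert.step [4, 3, 2, 3, 4, 5, 1, 0, 2, 3, 4, 1, 0, 1, 5, 2, 3, 4, 0, 1, 0, 1] (Cert.fail))),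
  (1, Cert.step [0, 2, 6, 1, 0, 2, 1, 0, 3, 2, 1, 5, 2, 3, 2, 1, 6] (Cert.step [0, 1, 2, 1, 3, 2, 1, 3, 2, 4, 0, 1, 5, 3, 2, 3, 4, 1, 2, 3, 1, 0, 1] (Cert.fail))),
  (1, Cert.step [0, 1, 3, 2, 3, 4, 5, 1, 5, 4, 2, 3, 2, 3, 1, 2] (Cert.step [1, 2, 4, 5, 1, 2, 3, 2, 4, 3, 2, 1, 0, 1, 2, 3, 4, 3, 2, 3, 1, 2, 3, 2, 1, 5, 0] (Cert.fail))),
  (1, Cert.step [0, 1, 6, 1, 0, 1, 2, 3, 2, 3, 1, 2, 3, 0, 1, 2, 0, 1, 6, 0] (Cert.step [3, 2, 3, 2, 1, 4, 3, 2, 3, 5, 2, 1, 5, 4, 2, 3, 2, 1, 0, 1, 5] (Cert.fail))),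
  (1, Cert.step [1, 0, 3, 2, 4, 5, 1, 5, 4, 2, 3, 2, 3, 1, 2] (Cert.step [0, 3, 2, 1, 3, 4, 3, 2, 3, 2, 4, 1, 2, 3, 0, 1, 0, 1, 2, 3] (Cert.fail))),
  (1, Cert.step [3, 2, 3, 2, 4, 5, 1, 5, 4, 2, 3, 0, 1, 2] (Cert.step [4, 5, 1, 0, 1, 2, 3, 4, 0, 1, 2, 3, 2, 1, 5, 0, 1, 2, 3, 4, 2, 3] (Cert.fail))),
  (1, Cert.step [1, 3, 2, 3, 2, 4, 5, 1, 5, 4, 0, 1, 0, 1] (Cert.step [1, 0, 1, 3, 2, 3, 2, 4, 3, 1, 0, 1, 5, 2, 3, 4, 2, 3, 1, 2, 3, 0] (Cert.fail))),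
  (2, Cert.fail),
  (1, Cert.step [3, 2, 1, 0, 1] (Cert.step [1, 0, 3, 2, 1, 3, 4, 3, 2, 3, 4, 1, 2, 0, 1, 5, 3, 1, 2, 3, 1, 0, 1, 2] (Cert.fail))),
  (1, Cert.step [0, 3, 2, 4, 5, 1, 5, 4, 2, 3, 2, 3] (Cert.step [1, 2, 3, 2, 1, 0, 5, 1, 0, 2, 1, 0, 3, 4, 3, 2, 3, 2, 1, 0, 1, 5, 0] (Cert.fail))),
  (1, Cert.step [1, 0, 2, 6, 1, 0, 1, 6, 1, 5, 1, 6, 3] (Cert.fail)),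
  (1, Cert.step [0, 3, 2, 3, 4, 5, 1, 5, 4, 0, 1, 0, 1, 2] (Cert.step [3, 2, 5, 1, 0, 1, 2, 3, 2, 1, 0, 1, 4, 2, 3, 2, 1, 5, 3, 2, 1] (Cert.fail))),
  (1, Cert.step [3, 2, 3, 5, 1, 2, 6, 1, 0, 5, 1, 0, 1, 6, 1, 2, 3, 2, 1] (Cert.step [0, 2, 3, 5, 1, 0, 1, 0, 2, 3, 5, 1, 4, 3, 2, 1, 5, 3, 1, 2, 1] (Cert.fail))),
  (1, Cert.step [0, 2, 0, 1] (Cert.step [4, 5, 1, 0, 2, 3, 2, 1, 5, 4, 3, 1, 0, 1, 2, 3, 1, 2, 1] (Cert.fail))),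
  (1, Cert.step [2, 1, 4, 6, 1, 2, 3, 5, 1, 2, 3, 1, 0, 1, 2, 0, 1, 6, 4] (Cert.step [4, 3, 2, 1, 3, 2, 1, 5, 1, 2, 3, 4, 2, 3, 0, 1, 2, 3, 2, 1, 5, 4, 3, 1, 2] (Cert.fail))),
  (1, Cert.step [1, 0, 1, 2, 6, 1, 5, 1, 6, 1, 0, 1, 6, 0, 1] (Cert.step [2, 3, 2, 4, 5, 1, 0, 1, 2, 3, 2, 1, 0, 1, 5, 4, 2, 3, 2, 1] (Cert.fail))),
  (1, Cert.step [1, 3, 2, 3, 2, 4, 5, 1, 2, 0, 1, 0, 1, 5, 4] (Cert.step [0, 4, 5, 1, 0, 2, 1, 3, 2, 1, 3, 4, 2, 3, 2, 1, 5, 3, 4, 2, 3, 2] (Cert.fail))),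
  (1, Cert.step [3, 6, 1, 5, 1, 6, 1, 0, 1, 6, 2, 3, 2, 0, 1, 0] (Cert.step [1, 0, 2, 1, 0, 1, 4, 3, 2, 1, 5, 3, 4, 3, 2, 3, 2, 1, 0, 1, 5, 2] (Cert.fail))),
  (1, Cert.step [3, 2, 3, 5, 1, 2, 6, 1, 0, 5, 1, 0, 1, 6, 0] (Cert.step [0, 3, 2, 1, 3, 4, 3, 2, 3, 2, 4, 1, 2, 3, 0, 1, 0, 1, 2, 3] (Cert.fail))),
  (1, Cert.step [0, 1, 6, 1, 0, 1, 2, 3, 2, 3, 1, 2, 3, 0, 1, 2, 0, 1, 6, 0] (Cert.step [3, 2, 4, 5, 1, 0, 1, 0, 2, 3, 4, 2, 1, 0, 1, 5, 1, 2, 3, 2, 3, 1, 0, 1] (Cert.fail))),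
  (1, Cert.step [0, 1, 3, 2, 4, 5, 1, 5, 4, 2, 3, 0, 1] (Cert.fail)),
  (1, Cert.fail),
  (1, Cert.step [0, 6, 1, 2, 5, 1, 0, 1, 5, 2, 1, 6, 0] (Cert.step [0, 3, 4, 3, 2, 5, 1, 0, 2, 3, 2, 1, 4, 5, 2, 1, 0, 1, 2, 3, 4, 2, 3, 0] (Cert.fail))),
  (1, Cert.step [0, 1, 3, 2, 3, 2, 3, 1, 2, 3] (Cert.step [2, 1, 0, 1, 3, 2, 1, 3, 5, 1, 0, 2, 1, 4, 3, 2, 3, 4, 3, 1, 2, 3, 0, 1] (Cert.fail))),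
  (1, Cert.step [0, 1, 3, 2, 1, 0, 1, 3, 2, 3, 0, 1] (Cert.fail)),
  (1, Cert.step [0, 1, 2, 6, 1, 5, 1, 6, 1, 0, 1, 6, 2, 0] (Cert.fail)),
  (1, Cert.step [3, 2, 3, 2, 4, 5, 1, 5, 4, 2, 3, 1, 2, 3] (Cert.step [3, 2, 4, 3, 2, 1, 0, 5, 1, 2, 3, 2, 1, 0, 4, 3, 2, 1, 0, 1, 5, 4] (Cert.fail))),
  (1, Cert.step [0, 1, 3, 2, 4, 5, 1, 5, 4, 0, 1, 2, 0] (Cert.fail)),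
  (2, Cert.fail),
  (1, Cert.step [0, 3, 2, 3, 2, 3, 1, 0, 1] (Cert.step [1, 5, 1, 0, 1, 0, 2, 1, 3, 2, 4, 3, 5, 1, 0, 1, 5, 2, 3, 4, 1, 2, 3, 0, 1] (Cert.fail))),
  (1, Cert.fail),
  (1, Cert.step [0, 1, 0, 2, 3, 2, 6, 1, 0, 1, 6, 1, 5, 1, 6, 3, 2, 1] (Cert.step [2, 1, 3, 5, 1, 0, 1, 5, 2] (Cert.fail))),
  (1, Cert.step [3, 2, 4, 5, 1, 0, 2, 6, 5, 6, 3, 2, 1, 5, 4, 0] (Cert.fail)),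
  (1, Cert.step [0, 1, 3, 2, 4, 5, 1, 5, 4, 2, 3, 2, 0] (Cert.step [2, 3, 4, 3, 2, 3, 2, 4, 5, 1, 0, 2, 1, 3, 5, 2, 3, 4, 3, 2, 3, 1, 0, 1] (Cert.fail))),
  (1, Cert.step [0, 1, 0, 3, 2, 3, 1, 0, 1, 2] (Cert.step [2, 3, 2, 3, 4, 3, 5, 1, 0, 2, 1, 3, 4, 5, 2, 0, 1, 0, 1, 5, 2, 3, 4] (Cert.fail))),
  (1, Cert.fail),
  (1, Cert.step [0, 3, 2, 3, 1, 0, 1, 2, 3, 1, 0] (Cert.fail)),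
  (1, Cert.step [0, 2, 1, 0, 3, 2, 3, 2, 3] (Cert.step [1, 0, 2, 1, 5, 3, 2, 1, 5, 2, 3, 2, 0, 1] (Cert.fail))),
  (1, Cert.fail),
  (1, Cert.step [0, 1, 0, 3, 2, 3, 1, 0] (Cert.step [2, 4, 3, 2, 5, 1, 2, 3, 2, 1, 0, 4, 3, 5, 2, 1, 5, 2, 3, 1, 2, 3, 4] (Cert.fail))),
  (1, Cert.fail),
  (1, Cert.step [5, 1, 0, 1, 0, 2, 3, 4, 5, 4, 2, 3, 1, 0] (Cert.step [1, 0, 2, 1, 0, 1, 4, 3, 2, 3, 4, 1, 2, 3, 0, 1, 2, 1] (Cert.fail))),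
  (1, Cert.step [3, 2, 3, 5, 1, 2, 6, 1, 0, 5, 1, 0, 1, 6, 0] (Cert.step [2, 3, 5, 1, 0, 1, 2, 1, 3, 2, 3, 4, 3, 2, 1, 5, 2, 1, 0, 1, 2] (Cert.fail))),
  (1, Cert.step [0, 1, 2, 3, 1] (Cert.step [1, 0, 3, 2, 1, 4, 3, 2, 1, 3, 2, 4, 3, 2, 1, 5, 3, 0, 1, 2, 0, 1, 0, 1, 5] (Cert.fail))),
  (1, Cert.step [0, 1, 3, 2, 1, 0, 1, 4, 5, 1, 5, 4, 2, 3, 1, 2, 3] (Cert.step [0, 5, 1, 0, 1, 2, 1, 3, 2, 4, 3, 2, 5, 1, 0, 1, 5, 4, 3, 2, 3, 1, 2] (Cert.fail))),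
  (1, Cert.fail),
  (1, Cert.step [3, 2, 3, 2, 4, 5, 1, 5, 4, 2, 3, 2, 0, 1] (Cert.step [1, 0, 2, 1, 0, 1, 4, 3, 2, 3, 4, 1, 2, 3, 0, 1, 2, 1] (Cert.fail))),
  (1, Cert.step [2, 1, 3, 2, 3, 2, 4, 5, 1, 5, 4, 3, 2, 3, 1, 0] (Cert.fail)),
  (1, Cert.step [1, 0, 2, 4, 5, 1, 2, 3, 2, 1, 5, 4, 3, 2, 0, 1, 0] (Cert.step [1, 5, 1, 0, 1, 0, 2, 1, 3, 2, 4, 3, 5, 1, 0, 1, 5, 2, 3, 4, 1, 2, 3, 0, 1] (Cert.fail))),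
  (1, Cert.step [3, 2, 3, 4, 3, 5, 1, 0, 1, 3, 2, 3, 1, 2, 0, 1, 5, 4, 2, 0] (Cert.step [3, 4, 3, 2, 3, 4, 6, 1, 0, 5, 1, 0, 1, 2, 6, 3, 1, 2, 1, 0, 1, 5, 2, 3, 4, 3, 2, 3] (Cert.fail))),
  (1, Cert.step [1, 0, 1, 0, 3, 2, 3, 2, 3, 1] (Cert.step [1, 2, 4, 3, 2, 1, 0, 5, 1, 0, 4, 3, 1, 2, 3, 4, 1, 2, 0] (Cert.fail))),
  (1, Cert.step [0, 3, 2, 3, 2, 3, 1, 0, 1] (Cert.step [0, 3, 5, 1, 0, 2, 3, 4, 1, 2, 3, 2, 1, 0, 1, 5, 4, 2, 3, 1] (Cert.fail))),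
  (1, Cert.step [0, 3, 2, 4, 5, 1, 0, 2, 1, 5, 4, 3, 2, 3, 1, 0] (Cert.step [3, 2, 3, 5, 1, 0, 1, 2, 1, 3, 5, 4, 2, 3, 0, 1, 2, 1, 0, 1, 5, 3, 2, 3] (Cert.fail))),
  (1, Cert.step [0, 1, 0, 1, 2, 1, 2, 3, 2, 3, 1, 2] (Cert.fail)),
  (1, Cert.step [0, 1, 3, 2, 4, 5, 1, 5, 4, 0, 1, 2, 0] (Cert.fail)),
  (1, Cert.fail),
  (1, Cert.step [0, 6, 1, 0, 1, 6, 1, 5, 1, 6, 3, 1] (Cert.step [3, 2, 5, 1, 0, 1, 2, 3, 2, 1, 0, 3, 4, 1, 2, 3, 2, 1, 5, 3, 1] (Cert.fail))),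
  (1, Cert.step [1, 3, 2, 1, 0, 3, 4, 3, 2, 3, 1, 2, 3, 1, 2, 3, 4, 3] (Cert.step [3, 4, 3, 2, 3, 4, 6, 1, 0, 5, 1, 0, 1, 2, 6, 3, 1, 2, 1, 0, 1, 5, 2, 3, 4, 3, 2, 3] (Cert.step [1, 2, 3, 5, 1, 2, 3, 2, 1, 5, 4, 0, 1, 2, 3, 2, 1, 5, 3, 2, 1] (Cert.done [1, 2, 3, 5, 1, 2, 3, 2, 1, 5, 4, 0, 1, 2, 3, 2, 1, 5, 3, 2, 1, 3, 4, 3, 2, 3, 4, 6, 1, 0, 5, 1, 0, 1, 2, 6, 3, 1, 2, 1, 0, 1, 5, 2, 3, 4, 3, 2, 3, 1, 3, 2, 1, 0, 3, 4, 3, 2, 3, 1, 2, 3, 1, 2, 3, 4, 3, 6, 1, 0, 1, 2, 3, 2, 4, 3, 2, 1, 0, 6, 1, 0, 1, 2, 3, 4, 3, 2, 3, 2, 1, 6, 4, 0, 6, 1, 0, 1, 2, 3, 2, 1, 4, 3, 2, 1, 0, 5, 1, 6])))),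
  (1, Cert.step [0, 3, 2, 4, 5, 1, 2, 0, 1, 5, 4, 2, 3, 0] (Cert.fail)),
  (1, Cert.step [1, 0, 1, 3, 2, 4, 5, 1, 5, 4, 2, 3, 0] (Cert.step [1, 0, 3, 2, 1, 0, 5, 1, 0, 1, 2, 1, 4, 3, 2, 3, 4, 3, 1, 2, 3, 1, 2, 0] (Cert.fail))),
  (1, Cert.step [1, 0, 2, 6, 1, 0, 1, 6, 1, 5, 1, 6, 3, 2, 1] (Cert.step [1, 4, 3, 2, 3, 5, 1, 0, 1, 2, 3, 2, 1, 5, 4, 0, 1, 2, 3, 0, 1, 2, 3, 4, 1] (Cert.fail))),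
  (1, Cert.step [0, 2, 3, 4, 5, 1, 0, 2, 1, 3, 5, 4, 3, 1, 2, 1, 0, 1, 5, 4, 0] (Cert.fail)),
  (1, Cert.step [3, 2, 4, 5, 1, 0, 2, 6, 5, 6, 3, 2, 1, 5, 4, 0] (Cert.step [1, 2, 3, 4, 5, 1, 0, 2, 3, 2, 1, 0, 1, 2, 3, 2, 1, 5, 4, 0] (Cert.fail))),
  (1, Cert.step [0, 1, 0, 2, 3, 1, 2, 3] (Cert.step [3, 4, 3, 2, 3, 4, 6, 1, 0, 5, 1, 0, 1, 2, 6, 3, 1, 2, 1, 0, 1, 5, 2, 3, 4, 3, 2, 3] (Cert.fail))),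
  (1, Cert.fail),
  (1, Cert.step [2, 1, 0, 1, 3, 4, 3, 2, 0, 1, 2, 3, 4, 2, 3, 2, 3] (Cert.fail)),
  (1, Cert.step [3, 2, 1, 3, 2, 3, 4, 5, 1, 5, 4, 2, 3, 1, 2, 3] (Cert.fail)),
  (4, Cert.fail),
  (1, Cert.step [0, 3, 2, 4, 5, 1, 5, 4, 2, 3, 2, 3, 1] (Cert.fail)),
  (1, Cert.step [0, 6, 1, 0, 1, 6, 1, 5, 1, 6, 3, 2, 1] (Cert.fail)),
  (1, Cert.step [0, 3, 2, 4, 3, 2, 5, 1, 2, 1, 5, 1, 2, 3, 4, 2, 3, 1, 0] (Cert.step [1, 5, 1, 2, 3, 4, 3, 2, 1, 5, 2, 1] (Cert.fail))),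
  (1, Cert.step [1, 2, 3, 2, 1, 6, 1, 0, 1, 6, 0, 1, 0, 1, 6, 2, 3, 2, 0] (Cert.step [1, 2, 3, 2, 4, 3, 2, 1, 0, 1, 3, 2, 5, 0, 1, 2, 3, 4, 3, 2] (Cert.fail))),
  (1, Cert.step [3, 2, 3, 5, 1, 2, 6, 1, 0, 5, 1, 0, 1, 6, 1, 2, 3, 1] (Cert.step [2, 1, 3, 4, 5, 1, 2, 3, 2, 1, 0, 3, 2, 4, 3, 2, 1, 5, 1, 2, 3, 1, 2, 3, 4] (Cert.fail))),
  (1, Cert.fail),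
  (1, Cert.step [2, 1, 6, 5, 1, 0, 2, 1, 0, 1, 3, 2, 1, 5, 3, 2, 1, 6, 2, 0] (Cert.step [1, 0, 1, 3, 4, 3, 2, 3, 2, 1, 0, 1, 4, 5, 3, 1, 2, 3, 4] (Cert.fail))),
  (1, Cert.step [0, 1, 4, 3, 2, 5, 6, 1, 0, 5, 1, 0, 1, 6, 3, 2, 3, 4, 3] (Cert.fail)),
  (1, Cert.fail),
  (1, Cert.step [0, 1, 3, 2, 3, 4, 5, 1, 5, 4, 2, 3, 2, 3, 1, 2] (Cert.step [1, 0, 3, 2, 1, 0, 5, 1, 0, 1, 2, 1, 4, 3, 2, 3, 4, 3, 1, 2, 3, 1, 2, 0] (Cert.fail))),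
  (1, Cert.step [0, 6, 1, 2, 3, 5, 1, 2, 3, 6, 0, 1, 5, 2, 1, 6, 1, 2, 3] (Cert.step [3, 2, 3, 2, 5, 1, 0, 1, 2, 3, 2, 4, 3, 1, 5, 2, 1, 0, 1, 5, 1, 0] (Cert.fail))),
  (1, Cert.step [1, 2, 3, 2, 1, 6, 1, 0, 1, 6, 0, 1, 0, 1, 6, 2, 3, 2, 0] (Cert.step [1, 2, 3, 2, 4, 3, 2, 1, 0, 1, 3, 2, 5, 0, 1, 2, 3, 4, 3, 2] (Cert.fail))),
  (1, Cert.step [0, 6, 1, 0, 1, 5, 0, 1, 6, 2, 1, 5, 3, 2, 3] (Cert.step [5, 1, 0, 2, 3, 2, 1, 4, 3, 2, 5, 3, 2, 1, 0, 1, 5, 2, 3] (Cert.fail))),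
  (1, Cert.fail),
  (1, Cert.step [0, 1, 4, 3, 2, 5, 6, 1, 0, 5, 1, 0, 1, 6, 3, 2, 3, 4, 3] (Cert.step [1, 2, 3, 4, 3, 2, 1, 0, 3, 5, 1, 2, 3, 4, 1, 2, 3, 1, 2, 3, 4, 3, 1, 0, 1] (Cert.fail))),
  (1, Cert.step [0, 1, 4, 3, 2, 5, 6, 1, 0, 5, 1, 0, 1, 6, 3, 2, 3, 4, 3, 1] (Cert.step [2, 3, 2, 4, 5, 1, 0, 2, 1, 3, 2, 3, 2, 4, 1, 2, 3, 2, 1, 0, 1, 5, 0] (Cert.fail))),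
  (1, Cert.step [3, 2, 1, 3, 2, 3, 2, 3, 1, 2, 0] (Cert.step [0, 4, 5, 1, 0, 2, 1, 3, 2, 1, 0, 1, 5, 4, 3, 2, 3, 1, 2] (Cert.fail))),
  (1, Cert.fail),
  (1, Cert.step [1, 0, 4, 5, 1, 2, 6, 5, 6, 3, 0, 1, 2, 0, 1, 5, 4] (Cert.fail)),
  (1, Cert.step [0, 1, 2, 6, 1, 5, 1, 6, 1, 0, 1, 6, 2, 0] (Cert.step [3, 2, 1, 3, 2, 3, 2, 1, 0, 4, 5, 1, 2, 3, 4, 2, 3, 1, 2, 1, 0, 1, 5, 3] (Cert.fail))),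
  (1, Cert.step [1, 0, 1, 3, 2, 4, 5, 1, 5, 4, 2, 3, 0, 1] (Cert.fail)),
  (1, Cert.step [3, 2, 4, 5, 1, 0, 2, 6, 5, 6, 3, 2, 1, 5, 4, 2, 0, 1] (Cert.step [1, 3, 4, 5, 1, 0, 2, 3, 4, 2, 3, 1, 2, 0, 1, 5, 2, 3, 2, 3, 1, 2] (Cert.fail))),
  (1, Cert.step [5, 1, 0, 1, 0, 2, 3, 4, 5, 4, 2, 3, 1, 2, 0] (Cert.step [2, 1, 0, 1, 3, 2, 1, 3, 5, 1, 0, 2, 1, 4, 3, 2, 3, 4, 3, 1, 2, 3, 0, 1] (Cert.fail))),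
  (1, Cert.step [3, 2, 1, 3, 2, 3, 4, 5, 1, 5, 4, 2, 3, 1, 2, 3] (Cert.fail)),
  (1, Cert.step [0, 6, 1, 0, 1, 5, 0, 1, 6, 2, 1, 5, 3, 2, 3] (Cert.step [4, 5, 1, 0, 2, 3, 2, 1, 5, 4, 3, 1, 0, 1, 2, 3, 1, 2, 1] (Cert.step [] (Cert.done [4, 5, 1, 0, 2, 3, 2, 1, 5, 4, 3, 1, 0, 1, 2, 3, 1, 2, 1, 0, 6, 1, 0, 1, 5, 0, 1, 6, 2, 1, 5, 3, 2, 5, 6, 1, 2, 3, 2, 1, 4, 6, 5, 1, 2, 3, 2, 1, 5, 6, 4, 1, 2, 3, 2, 0, 1, 2, 3, 2, 1, 4, 3, 2, 1, 0, 5, 1, 6])))),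
  (1, Cert.fail),
  (1, Cert.step [3, 2, 1, 0, 1, 2] (Cert.fail)),
  (1, Cert.fail),
  (1, Cert.step [0, 3, 2, 4, 5, 1, 0, 2, 1, 5, 4, 3, 2, 3, 1, 0] (Cert.step [3, 2, 4, 3, 2, 1, 0, 5, 1, 2, 3, 2, 1, 0, 4, 3, 2, 1, 0, 1, 5, 4] (Cert.fail))),
  (1, Cert.step [0, 6, 1, 0, 2, 1, 0, 3, 2, 1, 5, 2, 3, 2, 1, 6, 1] (Cert.step [2, 1, 0, 1, 2, 5, 1, 2, 3, 4, 3, 2, 3, 1, 2, 1, 0, 1, 5, 3, 2] (Cert.fail))),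
  (2, Cert.fail),
  (1, Cert.step [0, 1, 0, 3, 2, 3, 1, 0, 1, 2] (Cert.step [0, 2, 3, 4, 5, 1, 0, 2, 3, 2, 1, 0, 2, 1, 5, 4, 3, 2, 3, 1, 2, 3, 4, 3, 0, 1] (Cert.fail))),
  (1, Cert.step [0, 1, 2, 4, 3, 2, 3, 6, 1, 0, 1, 6, 5, 1, 6, 4, 1, 2, 3, 2, 1, 5, 4, 2, 3, 0] (Cert.step [4, 3, 2, 1, 3, 2, 5, 1, 2, 5, 3, 4, 0, 1, 2, 3, 2, 1, 5, 2, 3, 4, 2] (Cert.fail))),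
  (1, Cert.step [0, 1, 0, 3, 2, 3, 1, 0, 1] (Cert.fail)),
  (1, Cert.step [0, 3, 2, 4, 5, 1, 0, 2, 1, 5, 4, 2, 3, 2, 0, 1] (Cert.step [1, 0, 2, 1, 0, 1, 0, 5, 1, 2, 3, 2, 3, 1, 2] (Cert.fail))),
  (1, Cert.step [0, 1, 0, 4, 5, 1, 5, 4, 2, 3, 2, 3, 1] (Cert.fail)),
  (1, Cert.fail),
  (1, Cert.step [3, 2, 3, 2, 4, 5, 1, 2, 0, 1, 0, 1, 5, 4] (Cert.fail)),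
  (1, Cert.fail),
  (1, Cert.step [0, 3, 2, 3, 1, 0, 1, 2, 3, 1, 0] (Cert.step [1, 2, 3, 4, 3, 2, 3, 2, 4, 5, 1, 2, 0, 1, 5, 1, 2, 3, 2, 3, 4, 3, 2, 1] (Cert.fail))),
  (1, Cert.step [3, 2, 1, 3, 2, 3, 2, 3, 1, 2, 0] (Cert.step [0, 2, 4, 3, 5, 1, 0, 1, 2, 3, 2, 5, 4, 3, 1, 2, 3, 2, 1, 5, 2, 3, 4, 2, 0] (Cert.fail))),
  (1, Cert.step [2, 4, 3, 5, 1, 0, 2, 1, 6, 5, 6, 2, 3, 1, 2, 3, 4, 2, 3, 2] (Cert.fail)),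
  (1, Cert.step [0, 6, 1, 2, 5, 1, 6, 5, 6, 1, 5, 2, 1, 6, 0] (Cert.fail)),
  (1, Cert.step [0, 1, 2, 1, 0, 1, 0, 2, 3, 2, 3] (Cert.step [] (Cert.fail))),
  (1, Cert.step [0, 1, 3, 2, 4, 5, 1, 5, 4, 0, 1, 0, 1] (Cert.step [0, 1, 0, 2, 1, 4, 3, 2, 3, 2, 1, 0, 1, 5, 4, 3, 1, 2, 3, 4, 1] (Cert.fail))),
  (1, Cert.step [0, 3, 2, 3, 1, 2, 0, 1, 0, 1, 0] (Cert.step [2, 1, 3, 2, 3, 2, 1, 5, 0, 1, 0, 1, 2, 0, 1] (Cert.fail))),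
  (1, Cert.step [3, 2, 3, 2, 4, 5, 1, 5, 4, 0, 1, 0] (Cert.step [0, 1, 0, 1, 2, 1, 0, 3, 2, 1, 5, 1, 2, 4, 3, 0, 1, 2, 0, 1, 5, 4, 3] (Cert.fail))),
  (1, Cert.step [0, 1, 2, 3, 4, 5, 1, 2, 3, 2, 1, 5, 4, 1, 2] (Cert.step [2, 4, 3, 2, 1, 3, 2, 5, 1, 0, 2, 1, 0, 3, 1, 2, 3, 4] (Cert.fail))),
  (1, Cert.step [1, 6, 5, 1, 0, 2, 1, 0, 1, 3, 2, 0, 1, 5, 3, 2, 1, 6, 0] (Cert.step [3, 2, 1, 4, 3, 2, 1, 3, 2, 1, 5, 0, 1, 2, 3, 2, 3, 4, 1, 2, 3] (Cert.fail))),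
  (1, Cert.step [1, 0, 4, 5, 1, 2, 3, 2, 1, 5, 4, 0, 1] (Cert.step [3, 4, 3, 2, 3, 4, 6, 1, 0, 5, 1, 0, 1, 2, 6, 3, 1, 2, 1, 0, 1, 5, 2, 3, 4, 3, 2, 3] (Cert.fail))),
  (1, Cert.step [0, 6, 1, 0, 1, 6, 1, 5, 1, 6, 3, 1] (Cert.step [4, 3, 2, 3, 2, 1, 0, 4, 1, 2, 3, 1, 2, 3, 4, 3, 1, 0, 1] (Cert.fail))),
  (1, Cert.step [2, 1, 0, 1, 0, 3, 2, 3, 2, 3, 1] (Cert.step [0, 5, 1, 0, 2, 1, 5, 3, 2, 3, 4, 3, 2, 3, 0, 1, 2, 0, 1, 5, 0] (Cert.fail))),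
  (1, Cert.step [0, 1, 2, 3, 4, 5, 1, 2, 3, 2, 1, 5, 4, 1] (Cert.fail)),
  (1, Cert.fail),
  (1, Cert.step [1, 2] (Cert.step [1, 3, 2, 4, 3, 2, 1, 0, 3, 2, 4, 3, 2, 1, 5, 1, 2, 3, 4, 3, 1, 2, 1] (Cert.fail))),
  (2, Cert.fail),
  (1, Cert.step [0, 2, 1, 0, 2, 3, 1, 2, 3] (Cert.fail)),
  (1, Cert.step [0, 3, 2, 6, 1, 0, 1, 0, 6, 1, 0, 1, 6, 2, 3, 2, 0, 1, 0] (Cert.step [0, 5, 1, 0, 1, 2, 1, 0, 3, 2, 1, 4, 3, 2, 0, 1, 5, 4, 0] (Cert.fail))),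
  (1, Cert.fail),
  (1, Cert.step [0, 3, 2, 4, 3, 2, 5, 1, 2, 1, 5, 1, 2, 3, 4, 2, 3, 1, 0] (Cert.fail)),
  (1, Cert.step [0, 2, 1, 0, 3, 2, 3, 2, 3] (Cert.step [0, 2, 3, 2, 1, 0, 4, 3, 2, 1, 0, 3, 2, 5, 3, 4, 1, 2, 3, 2, 1, 5, 3, 4, 3, 2] (Cert.fail))),
  (1, Cert.step [3, 2, 3, 5, 1, 2, 6, 1, 0, 5, 1, 0, 1, 6, 1, 2, 3, 2] (Cert.step [1, 0, 1, 3, 4, 3, 2, 3, 2, 1, 0, 1, 4, 5, 3, 1, 2, 3, 4] (Cert.fail))),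
  (1, Cert.step [1, 0, 2, 6, 1, 0, 1, 6, 1, 5, 1, 6, 3, 1] (Cert.step [0, 2, 3, 4, 5, 1, 0, 1, 2, 1, 3, 2, 1, 0, 1, 5, 4, 3, 1, 2, 0, 1] (Cert.step [3, 4, 3, 2, 1, 0, 3, 2, 3, 5, 1, 2, 4, 3, 2, 1, 5, 3, 2, 3, 0, 1, 2, 3, 4, 3] (Cert.done [3, 4, 3, 2, 1, 0, 3, 2, 3, 5, 1, 2, 4, 3, 2, 1, 5, 3, 2, 3, 0, 1, 2, 3, 4, 3, 0, 2, 3, 4, 5, 1, 0, 1, 2, 1, 3, 2, 1, 0, 1, 5, 4, 3, 1, 6, 1, 0, 1, 6, 1, 5, 1, 6, 3, 1, 6, 1, 0, 1, 2, 3, 2, 4, 3, 2, 1, 0, 6, 1, 0, 1, 2, 3, 4, 3, 2, 3, 2, 1, 5, 1, 0, 1, 2, 3, 2, 1, 4, 3, 2, 1, 0, 5, 1, 6])))),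
  (1, Cert.step [0, 1, 2, 6, 1, 5, 1, 6, 1, 0, 1, 6, 0] (Cert.step [0, 3, 2, 1, 3, 2, 4, 3, 2, 5, 1, 0, 1, 3, 4, 2, 3, 2, 3, 1, 0, 1] (Cert.fail))),
  (1, Cert.step [0, 1, 2, 3, 4, 5, 1, 2, 3, 2, 1, 5, 4, 1] (Cert.fail)),
  (1, Cert.step [0, 1, 0, 1, 2, 1, 3, 2, 3, 0, 1, 2] (Cert.fail)),
  (1, Cert.fail),
  (1, Cert.step [0, 3, 2, 3, 4, 5, 1, 5, 4, 2, 3, 0, 1, 2] (Cert.fail)),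
  (1, Cert.step [3, 2, 4, 5, 1, 0, 2, 3, 6, 5, 6, 2, 1, 5, 4, 3, 2, 0, 1, 0] (Cert.step [0, 2, 3, 5, 1, 0, 1, 0, 2, 3, 5, 1, 4, 3, 2, 1, 5, 3, 1, 2, 1] (Cert.fail))),
  (1, Cert.step [3, 2, 1, 0, 1, 2] (Cert.step [2, 1, 0, 4, 5, 1, 2, 3, 2, 1, 0, 1, 0, 1, 5, 4, 3, 2, 1] (Cert.fail))),
  (1, Cert.step [0, 1, 4, 3, 2, 5, 6, 1, 0, 5, 1, 0, 1, 6, 3, 2, 3, 4, 3, 1, 2, 1] (Cert.step [0, 3, 4, 3, 2, 5, 1, 0, 2, 3, 2, 1, 4, 5, 2, 1, 0, 1, 2, 3, 4, 2, 3, 0] (Cert.fail))),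
  (1, Cert.step [1, 0, 1, 0, 3, 4, 5, 1, 5, 4, 2, 3, 0, 1] (Cert.step [4, 3, 2, 1, 3, 2, 5, 1, 2, 5, 3, 4, 0, 1, 2, 3, 2, 1, 5, 2, 3, 4, 2] (Cert.fail))),
  (1, Cert.step [3, 2, 3, 2, 4, 5, 1, 5, 4, 2, 3, 0, 1] (Cert.step [2, 3, 4, 3, 5, 1, 2, 1, 5, 3, 4, 2, 3, 2, 1, 0, 1, 2, 3, 4, 0] (Cert.fail))),
  (1, Cert.step [0, 1, 2, 1, 0, 1, 2, 3, 2, 3, 1, 2, 3] (Cert.fail)),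
  (1, Cert.step [0, 1, 3, 2, 1, 0, 1, 3, 2, 3, 0, 1, 2] (Cert.step [3, 2, 3, 2, 5, 1, 0, 1, 0, 2, 5, 4, 3, 2, 1, 0, 1, 5, 4, 3, 0] (Cert.fail))),
  (1, Cert.step [0, 3, 2, 3, 1, 0, 1, 2, 3, 1, 0] (Cert.step [0, 1, 5, 1, 0, 1, 2, 5, 1, 3, 4, 2, 3, 2, 1, 0, 1, 5, 2, 3, 2, 3] (Cert.fail))),
  (1, Cert.step [1, 0, 3, 2, 3, 2, 3, 1, 0, 1] (Cert.step [1, 2, 3, 4, 5, 1, 0, 1, 0, 1, 2, 3, 2, 1, 5, 4, 0, 1, 2] (Cert.fail))),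
  (1, Cert.fail),
  (1, Cert.step [0, 1, 3, 2, 4, 5, 1, 5, 4, 0, 1, 0, 1] (Cert.step [3, 4, 3, 2, 3, 2, 1, 0, 5, 1, 0, 2, 3, 4, 3, 1, 2, 3, 1, 2, 1, 0, 1, 5, 4] (Cert.fail))),
  (1, Cert.step [0, 1, 3, 2, 3, 4, 5, 1, 2, 0, 1, 5, 4, 2, 3, 0] (Cert.step [1, 0, 2, 1, 0, 1, 4, 3, 2, 1, 5, 3, 4, 3, 2, 3, 2, 1, 0, 1, 5, 2] (Cert.fail))),
  (1, Cert.step [0, 1, 0, 3, 2, 3, 1, 0, 1, 2] (Cert.fail)),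
  (1, Cert.step [1, 0, 4, 5, 1, 2, 6, 5, 6, 3, 2, 0, 1, 5, 4, 2, 3] (Cert.step [4, 3, 2, 1, 3, 5, 4, 1, 0, 1, 2, 3, 2, 3, 4, 3, 1, 0, 1] (Cert.fail))),
  (1, Cert.step [0, 1, 3, 2, 4, 5, 1, 5, 4, 0, 1, 0, 1] (Cert.step [] (Cert.fail))),
  (1, Cert.step [0, 2, 1, 3, 2, 4, 5, 1, 5, 4, 2, 3, 2, 0] (Cert.fail)),
  (1, Cert.step [1, 0, 1, 3, 2, 4, 5, 1, 5, 4, 3, 2, 3, 1, 0] (Cert.step [0, 1, 0, 1, 4, 3, 2, 3, 4, 1, 2, 3, 2, 1, 0, 1, 5, 2, 1, 0, 1, 2, 0] (Cert.fail))),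
  (1, Cert.step [1, 0, 2, 1, 0, 4, 5, 1, 5, 4, 2, 3, 1, 2, 0] (Cert.step [0, 4, 5, 1, 0, 2, 3, 4, 1, 2, 3, 0, 1, 2, 1, 0, 1, 5, 0] (Cert.step [2, 1, 3, 2, 5, 1, 0, 1, 0, 5, 4, 2, 3, 2, 1, 0, 1, 5, 4, 2, 3, 1, 2] (Cert.done [2, 1, 3, 2, 5, 1, 0, 1, 0, 5, 4, 2, 3, 2, 1, 0, 1, 5, 4, 2, 3, 1, 2, 0, 4, 5, 1, 0, 2, 3, 4, 1, 2, 3, 0, 1, 2, 1, 0, 1, 5, 0, 1, 0, 2, 1, 0, 4, 5, 1, 5, 4, 2, 3, 1, 2, 0, 6, 1, 0, 2, 1, 3, 2, 6, 5, 1, 2, 3, 2, 4, 3, 2, 1, 5, 0, 1, 2, 3, 2, 1, 6, 3, 6, 1, 0, 1, 2, 3, 2, 1, 4, 3, 2, 1, 0, 5, 1, 6])))),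
  (1, Cert.step [3, 2, 1, 3, 2, 3, 2, 3, 1, 0, 1] (Cert.step [2, 1, 3, 2, 3, 4, 5, 1, 0, 1, 2, 3, 1, 2, 0, 1, 5, 4, 0] (Cert.fail))),
  (1, Cert.step [0, 2, 1, 3, 2, 4, 5, 1, 5, 4, 2, 3, 2, 0] (Cert.step [3, 5, 1, 0, 2, 1, 0, 1, 5, 3, 4, 1, 2, 3, 2, 0, 1, 5, 2, 3, 1, 2] (Cert.fail))),
  (1, Cert.step [1, 0, 1, 2, 3] (Cert.step [1, 0, 1, 3, 2, 3, 2, 4, 3, 1, 0, 1, 5, 2, 3, 4, 2, 3, 1, 2, 3, 0] (Cert.fail))),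
  (1, Cert.step [0, 3, 2, 3, 1, 2, 1, 0, 1, 0] (Cert.step [3, 2, 1, 4, 3, 2, 1, 3, 2, 1, 5, 0, 1, 2, 3, 2, 3, 4, 1, 2, 3] (Cert.fail))),
  (1, Cert.step [0, 1, 0, 3, 2, 3, 2, 3, 1] (Cert.step [3, 2, 1, 3, 2, 3, 2, 1, 0, 4, 5, 1, 2, 3, 4, 2, 3, 1, 2, 1, 0, 1, 5, 3] (Cert.fail))),
  (1, Cert.step [1, 0, 3, 2, 3, 4, 5, 1, 5, 4, 2, 3, 0] (Cert.step [1, 2, 3, 2, 1, 0, 5, 1, 0, 2, 1, 0, 3, 4, 3, 2, 3, 2, 1, 0, 1, 5, 0] (Cert.fail))),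
  (1, Cert.step [0, 1, 0, 1, 2, 1, 3, 2, 3, 0] (Cert.step [2, 3, 2, 1, 0, 4, 3, 2, 1, 3, 2, 4, 3, 5, 4, 2, 3, 1, 2, 3, 4, 3, 0, 1, 2, 3, 2] (Cert.fail))),
  (1, Cert.step [0, 1, 3, 2, 4, 5, 1, 5, 4, 2, 3, 2, 0] (Cert.fail)),
  (1, Cert.step [0, 1, 2, 6, 1, 5, 1, 6, 1, 0, 1, 6, 3, 0, 1, 2, 1, 0] (Cert.fail)),
  (1, Cert.step [3, 2, 1, 6, 1, 0, 5, 1, 0, 1, 6, 5, 3, 2, 3] (Cert.step [0, 1, 0, 4, 5, 1, 0, 2, 3, 1, 5, 1, 2, 3, 4, 1, 2, 3, 2, 0] (Cert.fail))),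
  (1, Cert.step [0, 1, 3, 2, 3, 4, 5, 1, 5, 4, 2, 3, 1, 0, 1, 2] (Cert.fail)),
  (1, Cert.step [1, 0, 1, 0, 4, 5, 1, 5, 4, 2, 3, 2, 3] (Cert.step [1, 0, 2, 1, 5, 3, 2, 1, 5, 2, 3, 2, 0, 1] (Cert.fail))),
  (1, Cert.step [0, 1, 4, 3, 5, 1, 0, 1, 2, 3, 2, 1, 0, 1, 5, 3, 4, 3, 1, 2, 0, 1] (Cert.step [2, 3, 4, 3, 2, 3, 2, 4, 5, 1, 0, 2, 1, 3, 5, 2, 3, 4, 3, 2, 3, 1, 0, 1] (Cert.fail))),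
  (1, Cert.step [5, 1, 2, 3, 2, 1, 0, 1, 2, 3, 2, 1, 5] (Cert.fail)),
  (1, Cert.step [1, 3, 2, 3, 2, 4, 5, 1, 5, 4, 0, 1, 0] (Cert.step [2, 1, 0, 1, 2, 5, 1, 2, 3, 4, 3, 2, 1, 5, 3, 1, 2, 1] (Cert.fail))),
  (1, Cert.step [0, 6, 1, 0, 1, 6, 1, 5, 1, 6, 3, 1] (Cert.step [1, 3, 5, 1, 2, 3, 2, 1, 4, 3, 0, 1, 2, 3, 2, 1, 0, 1, 5, 2, 3] (Cert.fail))),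
  (1, Cert.step [0, 6, 1, 0, 1, 6, 1, 5, 1, 6, 3, 1] (Cert.step [3, 2, 1, 5, 1, 0, 1, 3, 2, 3, 4, 2, 3, 2, 1, 5, 1, 2, 0] (Cert.step [0, 2, 1, 0, 4, 3, 2, 3, 5, 1, 2, 4, 3, 2, 0, 1, 5, 2, 3, 4, 3, 0, 1, 2, 0] (Cert.done [0, 2, 1, 0, 4, 3, 2, 3, 5, 1, 2, 4, 3, 2, 0, 1, 5, 2, 3, 4, 3, 0, 1, 2, 0, 3, 2, 1, 5, 1, 0, 1, 3, 2, 3, 4, 2, 3, 2, 1, 5, 1, 2, 6, 1, 0, 1, 6, 1, 5, 1, 6, 3, 1, 4, 3, 6, 1, 2, 5, 1, 0, 1, 5, 2, 0, 1, 2, 3, 2, 1, 4, 3, 2, 1, 0, 5, 1, 6])))),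
  (1, Cert.step [5, 1, 0, 1, 2, 3, 2, 4, 1, 5, 4, 3, 2, 3, 1, 0] (Cert.step [0, 2, 5, 1, 2, 3, 2, 1, 0, 1, 5, 1, 4, 2, 3, 2, 3, 1, 2, 0, 1, 5, 2, 0] (Cert.fail))),
  (1, Cert.step [0, 3, 2, 3, 0, 1, 2, 0, 1, 0] (Cert.step [0, 5, 1, 0, 2, 1, 5, 3, 2, 3, 4, 3, 2, 3, 0, 1, 2, 0, 1, 5, 0] (Cert.fail))),
  (1, Cert.step [0, 3, 2, 3, 4, 5, 1, 5, 4, 2, 3, 0, 1, 2] (Cert.step [0, 4, 3, 2, 1, 0, 1, 2, 3, 2, 5, 1, 4, 3, 2, 1, 5, 3, 4, 3, 2] (Cert.fail))),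
  (1, Cert.step [5, 1, 0, 1, 0, 2, 3, 4, 5, 4, 2, 3, 1, 2, 0] (Cert.step [0, 4, 3, 2, 1, 0, 1, 2, 3, 2, 5, 1, 4, 3, 2, 0, 1, 5, 3, 4, 1, 2] (Cert.fail))),
  (1, Cert.step [0, 1, 0, 1, 2, 1, 3, 2, 3, 1, 2, 3] (Cert.step [1, 0, 1, 3, 2, 3, 4, 3, 2, 5, 3, 1, 2, 0, 1, 5, 4, 2, 3, 2, 3, 4, 3, 2] (Cert.fail))),
  (1, Cert.step [0, 1, 2, 3, 4, 5, 1, 2, 3, 2, 1, 5, 4, 1, 2] (Cert.step [0, 3, 2, 1, 3, 2, 4, 3, 2, 5, 1, 0, 1, 3, 4, 2, 3, 2, 3, 1, 0, 1] (Cert.fail))),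
  (1, Cert.step [1, 0, 1, 0, 4, 5, 1, 4, 2, 3, 2, 1, 0, 1, 5] (Cert.step [3, 2, 5, 1, 0, 1, 2, 3, 2, 1, 0, 1, 4, 2, 3, 2, 1, 5, 3, 2, 1] (Cert.fail))),
  (2, Cert.fail),
  (1, Cert.step [0, 1, 0, 2, 3, 6, 1, 2, 5, 1, 6, 5, 1, 0, 1, 2, 0, 1, 5, 6] (Cert.step [0, 3, 2, 1, 3, 2, 4, 3, 2, 5, 1, 0, 1, 3, 4, 2, 3, 2, 3, 1, 0, 1] (Cert.fail))),
  (1, Cert.step [0, 3, 2, 4, 5, 1, 0, 2, 1, 5, 4, 3, 2, 3, 1, 0] (Cert.step [0, 2, 3, 4, 5, 1, 0, 1, 2, 1, 3, 2, 1, 0, 1, 5, 4, 3, 1, 2, 0, 1] (Cert.fail))),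
  (1, Cert.step [] (Cert.step [2, 4, 3, 2, 1, 3, 2, 5, 1, 0, 2, 1, 0, 3, 1, 2, 3, 4] (Cert.fail))),
  (1, Cert.step [2, 1, 0, 6, 1, 2, 5, 1, 6, 3, 2, 1, 5, 3, 2, 1, 6, 0, 1] (Cert.fail)),
  (1, Cert.step [0, 1, 3, 2, 3, 4, 5, 1, 5, 4, 2, 3, 1, 0, 1, 2] (Cert.fail)),
  (1, Cert.step [1, 0, 3, 2, 4, 5, 1, 2, 0, 1, 5, 4, 2, 3, 0] (Cert.step [0, 5, 1, 0, 2, 1, 5, 4, 3, 1, 2, 3, 1, 2, 0, 1, 5, 4, 2, 3, 2] (Cert.fail))),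
  (1, Cert.step [3, 6, 1, 5, 1, 6, 1, 0, 1, 6, 2, 3, 2, 0, 1, 0] (Cert.step [4, 3, 2, 1, 3, 5, 2, 3, 1, 2, 3, 4] (Cert.fail))),
  (1, Cert.fail),
  (1, Cert.step [0, 1, 0, 3, 2, 3, 1, 2, 0] (Cert.step [5, 1, 0, 2, 3, 2, 1, 4, 3, 2, 5, 3, 2, 1, 0, 1, 5, 2, 3] (Cert.fail))),
  (1, Cert.step [1, 3, 2, 3, 2, 1, 0, 1, 2, 3, 1, 0] (Cert.fail)),
  (1, Cert.step [1, 0, 2, 6, 1, 0, 1, 6, 1, 5, 1, 6, 3, 1] (Cert.step [0, 1, 0, 4, 5, 1, 0, 2, 3, 1, 5, 1, 2, 3, 4, 1, 2, 3, 2, 0] (Cert.fail))),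
  (1, Cert.step [1, 3, 2, 3, 2, 4, 3, 2, 5, 1, 2, 1, 5, 1, 2, 3, 4, 2, 3, 0] (Cert.step [1, 4, 3, 5, 1, 2, 3, 2, 1, 4, 3, 0, 1, 2, 3, 2, 1, 5, 4, 0, 1, 2] (Cert.fail))),
  (1, Cert.step [1, 0, 1, 0, 4, 5, 1, 5, 4, 2, 3, 1, 0] (Cert.step [0, 2, 3, 4, 5, 1, 0, 2, 3, 2, 1, 0, 2, 1, 5, 4, 3, 2, 3, 1, 2, 3, 4, 3, 0, 1] (Cert.fail))),
  (1, Cert.step [1, 0, 5, 1, 2, 3, 2, 3, 4, 6, 5, 6, 3, 2, 1, 5, 4, 2, 0, 1] (Cert.step [2, 1, 3, 5, 1, 0, 1, 5, 2] (Cert.fail))),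
  (1, Cert.step [1, 2, 6, 1, 2, 3, 2, 5, 1, 2, 3, 0, 1, 2, 0, 1, 6, 0] (Cert.step [0, 1, 4, 5, 1, 2, 3, 2, 4, 3, 2, 1, 5, 2, 3, 1, 2, 0, 1, 0, 1, 0] (Cert.fail))),
  (1, Cert.step [1, 2, 1] (Cert.step [0, 4, 3, 2, 1, 0, 1, 2, 3, 2, 5, 1, 4, 3, 2, 0, 1, 5, 3, 4, 1, 2] (Cert.fail))),
  (1, Cert.step [1, 0, 1, 3, 2, 4, 5, 1, 5, 4, 2, 3, 2, 0] (Cert.step [1, 2, 3, 4, 5, 1, 0, 1, 0, 1, 2, 3, 2, 1, 5, 4, 0, 1, 2] (Cert.fail))),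
  (1, Cert.step [0, 1, 0, 3, 2, 3, 2, 3] (Cert.step [2, 3, 2, 1, 0, 4, 3, 2, 1, 3, 2, 4, 3, 5, 4, 2, 3, 1, 2, 3, 4, 3, 0, 1, 2, 3, 2] (Cert.fail))),
  (1, Cert.step [0, 3, 2, 3, 0, 1, 2, 0, 1, 0] (Cert.step [0, 5, 1, 0, 2, 1, 5, 3, 2, 3, 4, 3, 2, 3, 0, 1, 2, 0, 1, 5, 0] (Cert.fail))),
  (1, Cert.step [1, 0, 6, 1, 2, 5, 1, 6, 5, 3, 2, 1, 5, 3, 2, 1, 6, 0, 1, 2] (Cert.step [1, 5, 1, 0, 1, 0, 2, 1, 3, 2, 4, 3, 5, 1, 0, 1, 5, 2, 3, 4, 1, 2, 3, 0, 1] (Cert.fail))),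
  (1, Cert.step [0, 1, 0, 3, 2, 3, 1, 0] (Cert.step [0, 2, 4, 3, 5, 1, 0, 1, 2, 3, 2, 5, 4, 3, 1, 2, 3, 2, 1, 5, 2, 3, 4, 2, 0] (Cert.fail))),
  (1, Cert.step [0, 1, 3, 2, 1, 0, 1, 4, 5, 1, 5, 4, 2, 3, 2, 0] (Cert.step [1, 2, 4, 5, 1, 2, 3, 2, 4, 3, 2, 1, 0, 1, 2, 3, 4, 3, 2, 3, 1, 2, 3, 2, 1, 5, 0] (Cert.fail))),
  (1, Cert.step [0, 3, 2, 3, 2, 3, 1, 0, 1] (Cert.step [2, 1, 0, 4, 5, 1, 2, 3, 2, 1, 0, 3, 4, 1, 2, 3, 2, 1, 5, 3, 4, 1] (Cert.fail))),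
  (1, Cert.step [1, 0, 4, 5, 1, 2, 6, 5, 6, 3, 0, 1, 2, 0, 1, 5, 4, 2] (Cert.step [1, 5, 1, 0, 1, 0, 2, 1, 3, 2, 4, 3, 5, 1, 0, 1, 5, 2, 3, 4, 1, 2, 3, 0, 1] (Cert.fail))),
  (1, Cert.step [0, 1, 0, 3, 1, 2, 1, 0, 1, 0] (Cert.fail)),
  (1, Cert.step [0, 6, 1, 0, 1, 6, 1, 5, 1, 6, 3] (Cert.fail)),
  (1, Cert.step [3, 2, 1, 3, 2, 4, 5, 1, 5, 4, 2, 3, 2, 3, 1] (Cert.step [2, 3, 2, 1, 0, 4, 3, 2, 3, 4, 5, 1, 5, 0, 1, 2, 3, 2, 3, 4, 3, 1, 2, 0] (Cert.fail))),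
  (1, Cert.step [0, 1, 2, 3, 1] (Cert.step [2, 1, 0, 1, 2, 5, 1, 2, 3, 4, 3, 2, 3, 1, 2, 1, 0, 1, 5, 3, 2] (Cert.fail))),
  (1, Cert.step [0, 3, 2, 3, 2, 1, 0, 1, 2, 1, 0] (Cert.fail)),
  (1, Cert.step [0, 1, 0, 3, 1, 2, 1, 0, 1, 0] (Cert.fail)),
  (1, Cert.step [3, 2, 3, 5, 1, 2, 6, 1, 0, 5, 1, 0, 1, 6, 1, 2, 3, 1] (Cert.step [0, 1, 4, 3, 2, 1, 0, 1, 5, 2, 3, 1, 2, 3, 4, 3, 2] (Cert.fail))),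
  (2, Cert.fail)]),
  (39, Cert.bad 0),
  (1, Cert.rl [(1, Cert.step [1, 0, 4, 5, 1, 2, 3, 2, 1, 5, 4, 2, 0] (Cert.step [0, 2, 4, 3, 5, 1, 0, 1, 2, 3, 2, 5, 4, 3, 1, 2, 3, 2, 1, 5, 2, 3, 4, 2, 0] (Cert.fail))),
  (1, Cert.step [0, 1, 0, 4, 5, 1, 4, 2, 3, 2, 1, 0, 1, 5] (Cert.fail)),
  (1, Cert.step [2, 4, 3, 5, 1, 0, 2, 1, 6, 5, 6, 2, 3, 1, 2, 3, 4, 1, 0] (Cert.step [2, 3, 2, 4, 5, 1, 0, 1, 2, 3, 2, 1, 0, 1, 5, 4, 2, 3, 2, 1] (Cert.fail))),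
  (1, Cert.step [0, 1, 3, 2, 3, 4, 5, 1, 5, 4, 2, 3, 1, 2, 0, 1] (Cert.step [1, 3, 2, 4, 3, 2, 1, 0, 3, 2, 4, 3, 2, 1, 5, 1, 2, 3, 4, 3, 1, 2, 1] (Cert.fail))),
  (1, Cert.step [2, 1, 4, 6, 1, 2, 3, 5, 1, 6, 2, 1, 5, 3, 2, 1, 6, 4] (Cert.step [0, 2, 1, 4, 3, 2, 1, 3, 4, 0, 1, 5, 0, 1, 2, 3, 4, 2, 1] (Cert.fail))),
  (1, Cert.step [1, 0, 4, 5, 1, 2, 3, 2, 1, 5, 4, 0] (Cert.step [0, 1, 5, 1, 0, 1, 2, 5, 1, 3, 4, 2, 3, 2, 1, 0, 1, 5, 2, 3, 2, 3] (Cert.fail))),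
  (1, Cert.step [0, 6, 1, 2, 5, 1, 6, 5, 6, 1, 5, 2, 1, 6, 0] (Cert.fail)),
  (1, Cert.step [0, 6, 1, 0, 1, 6, 1, 5, 1, 6, 3, 1] (Cert.step [0, 1, 0, 1, 4, 3, 2, 3, 2, 1, 0, 1, 4, 3, 2, 1, 0, 1, 5, 3, 1, 2, 3, 0] (Cert.fail))),
  (1, Cert.step [0, 1, 3, 2, 3, 4, 5, 1, 2, 0, 1, 5, 4, 2, 3, 0] (Cert.step [0, 1, 0, 1, 4, 3, 2, 3, 2, 1, 0, 4, 5, 2, 1, 5, 2, 3, 0, 1, 2] (Cert.fail))),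
  (1, Cert.step [0, 1, 2, 3] (Cert.step [1, 2, 1, 4, 5, 1, 0, 1, 2, 3, 2, 3, 5, 4, 3, 1, 2, 3, 1, 0, 1, 2, 3, 4, 0] (Cert.fail))),
  (1, Cert.fail),
  (1, Cert.step [1, 3, 2, 3, 2, 4, 5, 1, 5, 4, 2, 3, 0, 1] (Cert.fail)),
  (1, Cert.step [0, 3, 2, 1, 5, 6, 1, 2, 3, 5, 1, 2, 6, 1, 5, 3, 2, 1, 6, 4, 3, 2, 1, 5, 0] (Cert.fail)),
  (1, Cert.step [1, 0, 1, 0, 3, 2, 3, 2, 3, 1] (Cert.fail)),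
  (1, Cert.step [0, 1, 3, 2, 1, 0, 1, 4, 5, 4, 3, 2, 0, 1, 0, 1, 5] (Cert.fail)),
  (1, Cert.step [0, 3, 2, 3, 2, 3, 1, 2, 0] (Cert.step [0, 5, 1, 0, 1, 2, 1, 3, 2, 4, 3, 2, 5, 1, 0, 1, 5, 4, 3, 2, 3, 1, 2] (Cert.fail))),
  (1, Cert.step [0, 3, 2, 3, 2, 3, 1, 2, 0, 1] (Cert.step [2, 3, 4, 5, 1, 0, 2, 1, 3, 2, 4, 1, 5] (Cert.fail))),
  (2, Cert.fail),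
  (1, Cert.step [3, 2, 1, 3, 2, 3, 2, 3, 1, 0, 1] (Cert.step [5, 1, 4, 2, 3, 1, 2, 0, 1, 5, 4, 3, 2] (Cert.fail))),
  (1, Cert.step [0, 2, 0] (Cert.step [1, 2, 4, 3, 2, 1, 0, 5, 1, 0, 4, 3, 1, 2, 3, 4, 1, 2, 0] (Cert.fail))),
  (1, Cert.step [0, 1, 2, 6, 1, 5, 1, 6, 1, 0, 1, 6, 2, 0] (Cert.fail)),
  (1, Cert.step [0, 1, 0, 4, 5, 1, 5, 4, 2, 3, 1, 2, 0, 1] (Cert.step [0, 5, 1, 0, 2, 1, 5, 3, 2, 3, 4, 3, 2, 3, 0, 1, 2, 0, 1, 5, 0] (Cert.fail))),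
  (1, Cert.step [5, 1, 0, 1, 0, 2, 3, 4, 5, 4, 2, 3, 1, 0] (Cert.fail)),
  (1, Cert.step [0, 1, 0, 2, 3, 2, 6, 1, 0, 1, 6, 1, 5, 1, 6, 3] (Cert.fail)),
  (1, Cert.fail),
  (1, Cert.step [0, 2, 1, 0, 3, 2, 3, 1, 0] (Cert.step [3, 4, 3, 2, 3, 2, 1, 0, 5, 1, 0, 2, 3, 4, 3, 1, 2, 3, 1, 2, 1, 0, 1, 5, 4] (Cert.fail))),
  (1, Cert.step [0, 3, 2, 3, 2, 3, 1, 2, 0] (Cert.step [0, 4, 5, 1, 2, 3, 2, 1, 0, 3, 4, 3, 1, 2, 3, 2, 1, 5, 4, 3, 1] (Cert.fail))),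
  (1, Cert.fail),
  (1, Cert.step [0, 2, 0] (Cert.fail)),
  (1, Cert.step [3, 2, 1, 0, 1] (Cert.fail)),
  (1, Cert.step [1, 0, 5, 1, 2, 3, 2, 3, 4, 6, 5, 6, 3, 2, 1, 5, 4, 2, 0, 1] (Cert.step [2, 3, 2, 1, 4, 3, 2, 1, 3, 2, 1, 0, 5, 1, 4, 3, 2, 3, 0, 1, 2, 3, 0, 1, 2, 3, 4, 0] (Cert.fail))),
  (1, Cert.step [1, 0, 5, 1, 2, 3, 2, 3, 4, 3, 0, 1, 2, 0, 1, 5, 4, 1] (Cert.fail)),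
  (1, Cert.step [3, 2, 4, 5, 1, 0, 2, 6, 5, 6, 3, 2, 1, 5, 4, 2, 0] (Cert.step [0, 1, 5, 1, 0, 1, 2, 5, 1, 3, 4, 2, 3, 2, 1, 0, 1, 5, 2, 3, 2, 3] (Cert.fail))),
  (1, Cert.step [1, 0, 6, 1, 2, 5, 1, 6, 5, 3, 2, 1, 5, 3, 2, 1, 6, 0, 1, 2] (Cert.step [2, 1, 0, 4, 5, 1, 2, 3, 2, 1, 0, 1, 0, 1, 5, 4, 3, 2, 1] (Cert.fail))),
  (1, Cert.step [1, 2, 1] (Cert.fail)),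
  (1, Cert.step [0, 6, 1, 2, 5, 1, 0, 1, 5, 2, 1, 6, 0] (Cert.step [5, 1, 0, 2, 3, 2, 1, 4, 3, 2, 5, 3, 2, 1, 0, 1, 5, 2, 3] (Cert.fail))),
  (1, Cert.fail),
  (1, Cert.step [0, 6, 1, 2, 5, 1, 6, 5, 6, 1, 5, 2, 1, 6, 0] (Cert.step [0, 1, 0, 1, 4, 3, 2, 3, 2, 1, 0, 1, 4, 3, 2, 1, 0, 1, 5, 3, 1, 2, 3, 0] (Cert.fail))),
  (1, Cert.step [0, 2, 1, 3, 4, 3, 2, 0, 1, 2, 3, 4, 3, 2, 3, 0] (Cert.fail)),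
  (2, Cert.fail),
  (1, Cert.step [0, 2, 6, 1, 0, 2, 1, 0, 3, 2, 1, 5, 2, 3, 2, 1, 6] (Cert.step [0, 1, 0, 3, 2, 1, 5, 1, 2, 3, 2, 1, 0, 3, 5, 4, 3, 1, 2, 0, 1, 5, 3, 2] (Cert.step [1, 0, 2, 5, 1, 0, 2, 1, 3, 2, 5, 1, 5, 3, 4, 3, 2, 3, 1, 2, 0, 1, 5, 2, 0, 1] (Cert.done [1, 0, 2, 5, 1, 0, 2, 1, 3, 2, 5, 1, 5, 3, 4, 3, 2, 3, 1, 2, 0, 1, 5, 2, 0, 1, 0, 1, 0, 3, 2, 1, 5, 1, 2, 3, 2, 1, 0, 3, 5, 4, 3, 1, 2, 0, 1, 5, 3, 2, 0, 2, 6, 1, 0, 2, 1, 0, 3, 2, 1, 5, 2, 3, 2, 1, 6, 0, 4, 1, 0, 6, 1, 0, 2, 1, 3, 2, 1, 3, 4, 3, 2, 3, 5, 1, 0])))),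
  (1, Cert.step [2, 1, 4, 6, 1, 2, 3, 5, 1, 6, 2, 1, 5, 3, 2, 1, 6, 4] (Cert.step [0, 2, 3, 2, 1, 0, 4, 3, 2, 1, 0, 3, 2, 5, 3, 4, 1, 2, 3, 2, 1, 5, 3, 4, 3, 2] (Cert.fail))),
  (3, Cert.fail),
  (1, Cert.step [0, 1, 3, 2, 3, 4, 5, 1, 5, 4, 2, 3, 1, 2, 0] (Cert.fail)),
  (1, Cert.fail),
  (1, Cert.step [0, 1, 3, 2, 3, 2, 3, 1, 2, 3] (Cert.step [3, 2, 3, 5, 1, 0, 1, 2, 1, 3, 2, 1, 4, 3, 2, 1, 5, 3, 1, 2, 3, 2, 1, 0, 1] (Cert.fail))),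
  (1, Cert.step [0, 1, 0, 3, 2, 3, 2, 3, 1] (Cert.fail)),
  (1, Cert.step [2, 1, 0, 1, 0, 3, 2, 3, 1, 0] (Cert.fail)),
  (1, Cert.step [0, 1, 3, 2, 4, 5, 1, 5, 4, 0, 1, 2, 0, 1] (Cert.fail)),
  (1, Cert.fail),
  (1, Cert.step [1, 0, 3, 2, 4, 5, 1, 5, 4, 2, 3, 2, 3, 1] (Cert.step [1, 0, 2, 1, 5, 3, 2, 1, 5, 2, 3, 2, 0, 1] (Cert.fail))),
  (1, Cert.step [2, 1, 0, 1, 0, 3, 2, 3, 1, 0] (Cert.step [2, 3, 2, 3, 4, 3, 5, 1, 0, 2, 1, 3, 4, 5, 2, 0, 1, 0, 1, 5, 2, 3, 4] (Cert.fail))),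
  (1, Cert.step [1, 0, 6, 1, 2, 5, 1, 6, 3, 2, 1, 5, 3, 2, 1, 6, 0, 1, 2] (Cert.step [3, 2, 4, 3, 2, 5, 1, 3, 4, 2, 3, 2, 0, 1, 5, 2, 3, 4, 3, 2, 3] (Cert.fail))),
  (1, Cert.step [0, 1, 2, 3, 1] (Cert.fail)),
  (1, Cert.step [2, 1, 0, 1, 2, 3] (Cert.fail)),
  (1, Cert.step [2, 1, 0, 1, 3, 2, 4, 5, 1, 5, 4, 0, 1, 0] (Cert.step [1, 2, 1, 3, 4, 3, 2, 1, 5, 1, 2, 3, 4, 2, 3, 0, 1, 2, 3, 4, 2, 3, 1] (Cert.fail))),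
  (1, Cert.step [0, 2, 1, 3, 4, 3, 2, 0, 1, 2, 3, 4, 3, 2, 3, 0] (Cert.step [0, 5, 1, 0, 1, 2, 1, 0, 3, 2, 1, 4, 3, 2, 0, 1, 5, 4, 0] (Cert.fail))),
  (1, Cert.step [0, 3, 2, 3, 2, 3, 1, 0, 1] (Cert.step [1, 3, 4, 5, 1, 2, 3, 2, 1, 3, 4, 3, 0, 1, 2, 3, 2, 1, 5, 4, 0] (Cert.fail))),
  (1, Cert.step [1, 0, 1, 0, 3, 2, 3, 1, 0, 1] (Cert.step [2, 1, 3, 5, 4, 1, 2, 3, 2, 1, 5, 4, 3, 2] (Cert.fail))),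
  (1, Cert.step [0, 3, 2, 4, 5, 1, 0, 2, 1, 5, 4, 2, 3, 2, 0] (Cert.fail)),
  (1, Cert.step [2, 1, 0, 1, 3, 2, 4, 5, 1, 5, 4, 0, 1, 0] (Cert.step [3, 2, 3, 5, 1, 0, 1, 2, 1, 3, 5, 4, 2, 3, 0, 1, 2, 1, 0, 1, 5, 3, 2, 3] (Cert.fail))),
  (1, Cert.step [0, 1, 3, 2, 3, 4, 5, 1, 5, 4, 2, 3, 1, 0, 1, 2] (Cert.step [0, 3, 2, 5, 1, 0, 2, 5, 4, 1, 2, 3, 2, 3, 4, 1, 2, 3, 0, 1] (Cert.fail))),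
  (1, Cert.fail),
  (1, Cert.step [0, 1, 0, 2, 3, 6, 1, 2, 5, 1, 6, 5, 1, 0, 1, 2, 0, 1, 5, 6] (Cert.step [0, 4, 5, 1, 0, 2, 3, 4, 1, 5, 0, 1, 2, 0, 1, 5, 0] (Cert.fail))),
  (1, Cert.step [1, 0, 4, 5, 1, 2, 3, 2, 1, 5, 4, 0, 1] (Cert.step [1, 0, 1, 3, 2, 3, 2, 4, 3, 1, 0, 1, 5, 2, 3, 4, 2, 3, 1, 2, 3, 0] (Cert.fail))),
  (1, Cert.fail),
  (1, Cert.step [2, 1, 6, 5, 1, 0, 2, 1, 0, 1, 3, 2, 1, 5, 3, 2, 1, 6, 2, 0] (Cert.step [3, 2, 5, 1, 0, 1, 2, 3, 5, 2, 3, 4, 1, 2, 3, 2, 0, 1, 5] (Cert.step [] (Cert.done [3, 2, 5, 1, 0, 1, 2, 3, 5, 2, 3, 4, 1, 2, 3, 2, 0, 1, 5, 2, 1, 6, 5, 1, 0, 2, 1, 0, 1, 3, 2, 1, 5, 3, 2, 1, 6, 2, 4, 3, 5, 1, 6, 1, 0, 2, 1, 3, 2, 1, 3, 4, 3, 2, 3, 5, 1, 0])))),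
  (1, Cert.step [0, 2, 1, 3, 2, 3, 2, 3, 1, 2, 3] (Cert.fail)),
  (2, Cert.fail),
  (1, Cert.step [1, 0, 1, 0, 3, 2, 3, 1, 0, 1, 2] (Cert.fail)),
  (1, Cert.step [0, 2, 1, 0, 2, 3, 1, 2, 3] (Cert.step [0, 4, 5, 1, 2, 3, 2, 1, 0, 3, 4, 3, 1, 2, 3, 2, 1, 5, 4, 3, 1] (Cert.fail))),
  (1, Cert.step [0, 1, 3, 2, 1, 0, 1, 3, 0, 1, 2, 0, 1] (Cert.fail)),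
  (1, Cert.fail),
  (1, Cert.step [0, 1, 3, 2, 3, 2, 3, 1, 2, 3] (Cert.step [1, 3, 4, 5, 1, 2, 3, 2, 1, 3, 4, 3, 0, 1, 2, 3, 2, 1, 5, 4, 0] (Cert.fail))),
  (1, Cert.step [0, 3, 2, 3, 2, 3, 1, 0, 1] (Cert.step [2, 1, 0, 4, 5, 1, 2, 3, 2, 1, 0, 1, 0, 1, 5, 4, 3, 2, 1] (Cert.step [3, 4, 3, 2, 1, 0, 3, 2, 3, 5, 1, 2, 3, 2, 1, 5, 4, 3, 2, 3, 0, 1, 2, 3, 4, 3] (Cert.done [3, 4, 3, 2, 1, 0, 3, 2, 3, 5, 1, 2, 3, 2, 1, 5, 4, 3, 2, 3, 0, 1, 2, 3, 4, 3, 2, 1, 0, 4, 5, 1, 2, 3, 2, 1, 0, 1, 0, 1, 5, 4, 3, 2, 1, 0, 3, 2, 3, 2, 3, 1, 0, 1, 0, 1, 5, 1, 2, 6, 1, 0, 2, 1, 3, 2, 1, 3, 4, 3, 2, 3, 5, 1, 0])))),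
  (1, Cert.step [0, 2, 1, 3, 4, 3, 2, 0, 1, 2, 3, 4, 3, 2, 3, 0] (Cert.step [0, 5, 1, 0, 2, 1, 5, 4, 3, 1, 2, 3, 1, 2, 0, 1, 5, 4, 2, 3, 2] (Cert.fail))),
  (1, Cert.step [0, 2, 1, 3, 4, 3, 2, 0, 1, 2, 3, 4, 3, 2, 3, 0] (Cert.step [4, 3, 2, 1, 3, 5, 4, 1, 0, 1, 2, 3, 2, 3, 4, 3, 1, 0, 1] (Cert.fail))),
  (1, Cert.step [3, 2, 3, 2, 4, 5, 1, 5, 4, 2, 3, 0] (Cert.fail)),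
  (1, Cert.step [3, 2, 1, 0] (Cert.step [2, 1, 0, 4, 5, 1, 2, 3, 2, 1, 0, 1, 0, 1, 5, 4, 3, 2, 1] (Cert.fail))),
  (1, Cert.step [1, 0, 6, 1, 2, 5, 1, 6, 3, 2, 1, 5, 3, 2, 1, 6, 0, 1, 2] (Cert.fail)),
  (1, Cert.fail),
  (1, Cert.step [0, 1, 4, 3, 2, 5, 6, 1, 0, 5, 1, 0, 1, 6, 3, 2, 3, 4, 3, 1] (Cert.step [1, 2, 4, 3, 2, 5, 1, 0, 1, 2, 3, 4, 3, 2, 3, 1, 2, 0, 1, 5, 2, 3, 4, 3, 2] (Cert.fail))),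
  (1, Cert.fail),
  (1, Cert.step [0, 1, 0, 3, 4, 5, 4, 2, 3, 2, 1, 0, 1, 5] (Cert.step [2, 3, 2, 1, 4, 3, 2, 1, 3, 2, 1, 0, 5, 1, 4, 3, 2, 3, 0, 1, 2, 3, 0, 1, 2, 3, 4, 0] (Cert.fail))),
  (4, Cert.fail),
  (1, Cert.step [0, 3, 2, 3, 4, 5, 1, 5, 4, 0, 1, 0, 1] (Cert.step [1, 2, 3, 4, 5, 1, 0, 2, 3, 2, 1, 0, 1, 2, 3, 2, 1, 5, 4, 0] (Cert.fail))),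
  (1, Cert.step [0, 1, 0, 1, 2, 1, 3, 2, 3, 0] (Cert.step [0, 2, 1, 3, 2, 3, 2, 1, 0, 4, 3, 1, 2, 3, 1, 2, 0, 1, 5, 4, 1, 2, 3, 0, 1] (Cert.fail))),
  (1, Cert.step [1, 0, 3, 2, 4, 5, 1, 5, 4, 2, 3, 2, 3] (Cert.fail)),
  (1, Cert.step [0, 1, 0, 3, 4, 5, 1, 5, 4, 2, 3, 0, 1] (Cert.step [0, 4, 3, 2, 1, 0, 1, 2, 3, 2, 5, 1, 4, 3, 2, 0, 1, 5, 3, 4, 1, 2] (Cert.fail))),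
  (1, Cert.step [0, 1, 0, 2, 3, 1, 2, 3] (Cert.step [0, 2, 3, 2, 1, 4, 3, 2, 1, 5, 1, 3, 2, 0, 1, 5, 4, 0, 1, 0] (Cert.fail))),
  (1, Cert.step [1, 0, 1, 3, 2, 4, 5, 1, 5, 4, 3, 2, 3, 1, 0] (Cert.fail)),
  (1, Cert.step [5, 1, 0, 1, 2, 3, 2, 4, 1, 5, 4, 2, 3, 2, 0, 1] (Cert.step [3, 2, 4, 3, 2, 5, 1, 3, 4, 2, 3, 2, 0, 1, 5, 2, 3, 4, 3, 2, 3] (Cert.fail))),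
  (1, Cert.step [1, 0, 4, 5, 1, 2, 6, 5, 6, 3, 2, 0, 1, 5, 4, 2, 3] (Cert.fail)),
  (2, Cert.fail),
  (1, Cert.step [0, 2, 1, 0, 2, 3, 1, 2, 3] (Cert.step [2, 1, 3, 2, 0, 1, 5, 3, 0, 1, 2, 3, 0, 1, 2] (Cert.fail))),
  (1, Cert.step [2, 1, 0, 1, 2, 3] (Cert.step [0, 2, 3, 2, 1, 0, 4, 3, 2, 1, 0, 3, 2, 5, 3, 4, 1, 2, 3, 2, 1, 5, 3, 4, 3, 2] (Cert.fail))),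
  (1, Cert.step [0, 1, 2, 6, 1, 5, 1, 6, 1, 0, 1, 6, 0, 1] (Cert.step [2, 3, 2, 3, 4, 3, 5, 1, 0, 2, 1, 3, 4, 5, 2, 0, 1, 0, 1, 5, 2, 3, 4] (Cert.fail))),
  (1, Cert.step [0, 2, 1, 3, 2, 3, 2, 3, 1, 2, 3] (Cert.step [2, 3, 4, 5, 1, 0, 2, 1, 3, 2, 4, 1, 5] (Cert.fail))),
  (1, Cert.step [0, 1, 0, 3, 2, 3, 1, 0, 1, 2] (Cert.step [2, 1, 0, 1, 2, 5, 1, 2, 3, 4, 3, 2, 1, 5, 3, 1, 2, 1] (Cert.fail))),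
  (1, Cert.step [0, 2, 1, 3, 4, 3, 5, 1, 0, 1, 3, 2, 3, 1, 2, 0, 1, 5, 4, 0] (Cert.step [0, 2, 3, 4, 3, 5, 1, 0, 1, 2, 3, 4, 2, 1, 0, 1, 2, 3, 2, 1, 5, 3, 4, 1] (Cert.fail))),
  (1, Cert.step [0, 2, 1, 3, 4, 3, 2, 0, 1, 2, 3, 4, 3, 2, 3, 0] (Cert.step [1, 0, 1, 3, 2, 3, 2, 4, 3, 1, 0, 1, 5, 2, 3, 4, 2, 3, 1, 2, 3, 0] (Cert.fail))),
  (1, Cert.step [0, 1, 0, 3, 2, 3, 2, 3, 1] (Cert.step [3, 2, 3, 2, 1, 4, 3, 2, 3, 5, 2, 1, 5, 4, 2, 3, 2, 1, 0, 1, 5] (Cert.fail))),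
  (1, Cert.step [0, 3, 2, 3, 4, 5, 1, 5, 4, 2, 3, 0] (Cert.step [0, 1, 4, 3, 2, 1, 0, 1, 5, 2, 3, 1, 2, 3, 4, 3, 2] (Cert.fail))),
  (1, Cert.step [0, 2, 3, 2, 4, 5, 1, 4, 2, 3, 2, 1, 0, 1, 5] (Cert.step [2, 1, 0, 1, 2, 5, 1, 2, 3, 4, 3, 2, 1, 5, 3, 1, 2, 1] (Cert.fail))),
  (1, Cert.fail),
  (1, Cert.step [1, 0, 4, 5, 1, 2, 3, 2, 1, 5, 4, 0] (Cert.fail)),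
  (1, Cert.step [3, 6, 1, 2, 5, 1, 2, 6, 1, 0, 1, 2, 0, 1, 6, 3, 0, 1] (Cert.step [0, 2, 1, 3, 2, 3, 2, 1, 0, 4, 3, 1, 2, 3, 1, 2, 0, 1, 5, 4, 1, 2, 3, 0, 1] (Cert.fail))),
  (1, Cert.step [1, 6, 5, 1, 0, 2, 1, 0, 1, 3, 2, 0, 1, 5, 3, 2, 1, 6, 0] (Cert.fail)),
  (1, Cert.step [3, 2, 3, 5, 1, 2, 6, 1, 0, 5, 1, 0, 1, 6, 1, 2, 3, 1, 2] (Cert.step [1, 3, 4, 5, 1, 2, 3, 2, 1, 3, 4, 3, 0, 1, 2, 3, 2, 1, 5, 4, 0] (Cert.fail))),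
  (1, Cert.step [2, 4, 3, 5, 1, 0, 2, 1, 6, 5, 6, 2, 3, 1, 2, 3, 4, 1, 0] (Cert.step [0, 2, 4, 3, 5, 1, 0, 1, 2, 3, 2, 5, 4, 3, 1, 2, 3, 2, 1, 5, 2, 3, 4, 2, 0] (Cert.fail))),
  (1, Cert.step [0, 1, 0, 1, 2, 1, 3, 2, 3, 0, 1] (Cert.fail)),
  (1, Cert.step [0, 1, 0, 3, 1, 2, 1, 0, 1, 0] (Cert.step [0, 3, 4, 5, 1, 0, 1, 2, 3, 4, 5, 2, 0, 1, 0, 1, 5, 2, 3, 2, 3] (Cert.fail))),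
  (1, Cert.step [1, 3, 2, 3, 2, 4, 5, 1, 5, 4, 0, 1, 2, 0] (Cert.step [2, 1, 3, 5, 1, 0, 1, 5, 2] (Cert.fail))),
  (1, Cert.step [1, 0, 1, 3, 2, 4, 5, 1, 5, 4, 2, 3, 2, 0] (Cert.step [1, 3, 4, 5, 1, 2, 3, 2, 1, 0, 1, 0, 4, 1, 2, 3, 4, 2, 3, 2, 1, 5, 2, 3, 2] (Cert.fail))),
  (1, Cert.fail),
  (1, Cert.step [1, 3, 2, 1, 0, 3, 4, 3, 2, 3, 1, 2, 3, 1, 2, 3, 4, 3] (Cert.fail)),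
  (1, Cert.fail),
  (1, Cert.step [0, 1, 0, 1, 2, 1, 2, 3, 2, 3, 1, 2] (Cert.step [2, 1, 0, 1, 2, 5, 1, 2, 3, 4, 3, 2, 1, 5, 3, 1, 2, 1] (Cert.fail))),
  (1, Cert.fail),
  (1, Cert.step [0, 1, 4, 3, 2, 5, 6, 1, 0, 5, 1, 0, 1, 6, 3, 2, 3, 4, 3, 1, 2, 1] (Cert.fail)),
  (1, Cert.step [0, 1, 2, 3, 4, 5, 1, 2, 3, 2, 1, 5, 4, 1, 2] (Cert.step [2, 1, 0, 1, 3, 2, 1, 3, 5, 1, 0, 2, 1, 4, 3, 2, 3, 4, 3, 1, 2, 3, 0, 1] (Cert.fail))),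
  (1, Cert.step [0, 1, 4, 3, 2, 1, 3, 2, 6, 5, 6, 4, 3, 2, 1, 5, 2, 3, 4, 3] (Cert.step [2, 1, 3, 2, 3, 4, 5, 1, 0, 1, 2, 3, 2, 0, 1, 0, 1, 5, 4, 2, 3, 1, 2] (Cert.fail))),
  (1, Cert.fail),
  (1, Cert.step [2, 1, 4, 6, 1, 2, 3, 5, 1, 6, 2, 1, 5, 3, 2, 1, 6, 4] (Cert.step [0, 2, 3, 2, 1, 0, 4, 3, 2, 1, 0, 3, 2, 5, 3, 4, 1, 2, 3, 2, 1, 5, 3, 4, 3, 2] (Cert.fail))),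
  (1, Cert.step [0, 1, 0, 2, 3, 2, 6, 1, 0, 1, 6, 1, 5, 1, 6, 3] (Cert.step [1, 5, 1, 0, 1, 0, 2, 1, 3, 2, 4, 3, 5, 1, 0, 1, 5, 2, 3, 4, 1, 2, 3, 0, 1] (Cert.fail))),
  (1, Cert.step [0, 6, 1, 0, 1, 6, 1, 5, 1, 6, 3, 1, 2] (Cert.step [0, 5, 1, 0, 1, 2, 1, 3, 2, 4, 3, 2, 5, 1, 0, 1, 5, 4, 3, 2, 3, 1, 2] (Cert.fail))),
  (1, Cert.step [0, 1, 0, 1, 2, 1, 2, 3, 2, 3, 1, 2] (Cert.fail)),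
  (1, Cert.step [0, 1, 0, 3, 2, 3, 1, 0, 1, 2] (Cert.step [1, 3, 2, 4, 3, 2, 1, 0, 3, 2, 4, 3, 2, 1, 5, 1, 2, 3, 4, 3, 1, 2, 1] (Cert.fail))),
  (1, Cert.step [0, 3, 2, 3, 4, 5, 1, 5, 4, 2, 3, 1, 2, 3] (Cert.step [1, 0, 1, 3, 4, 3, 2, 3, 2, 1, 0, 1, 4, 5, 3, 1, 2, 3, 4] (Cert.fail))),
  (1, Cert.step [2, 1, 3, 6, 1, 2, 5, 1, 2, 6, 3, 2, 3, 2, 1, 5, 2, 1, 6, 3] (Cert.step [2, 1, 3, 2, 3, 4, 5, 1, 0, 1, 2, 3, 1, 2, 0, 1, 5, 4, 0] (Cert.fail))),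
  (1, Cert.step [1, 0, 4, 5, 1, 2, 6, 5, 6, 3, 4, 3, 2, 3, 2, 1, 5, 0] (Cert.fail)),
  (1, Cert.step [0, 2, 1, 0, 3, 2, 3, 1, 0] (Cert.step [0, 4, 5, 1, 2, 3, 2, 1, 0, 3, 4, 3, 1, 2, 3, 2, 1, 5, 4, 3, 1] (Cert.fail))),
  (1, Cert.step [1, 0, 2, 4, 5, 1, 2, 6, 5, 6, 5, 3, 2, 1, 0, 1, 5, 4, 3, 0] (Cert.step [2, 3, 2, 4, 3, 5, 1, 2, 3, 2, 4, 3, 1, 5, 1, 2, 3, 0, 1, 2, 0, 1, 5, 4, 1, 2] (Cert.fail))),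
  (1, Cert.step [1, 0, 3, 2, 4, 5, 1, 5, 4, 2, 3, 2, 3, 1] (Cert.step [4, 3, 2, 3, 4, 5, 1, 0, 2, 3, 4, 1, 0, 1, 5, 2, 3, 4, 0, 1, 0, 1] (Cert.fail))),
  (1, Cert.fail),
  (1, Cert.step [2, 1, 6, 5, 1, 0, 2, 1, 0, 1, 3, 2, 1, 5, 3, 2, 1, 6, 2, 0] (Cert.fail)),
  (1, Cert.step [0, 1, 0, 2, 3, 2, 6, 1, 0, 1, 6, 1, 5, 1, 6, 3] (Cert.step [0, 1, 0, 1, 2, 3, 2, 4, 3, 2, 1, 0, 3, 2, 1, 5, 4, 3, 1, 2, 3, 1, 0, 1] (Cert.fail))),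
  (1, Cert.step [3, 2, 1, 3, 2, 3, 4, 5, 1, 5, 4, 2, 3, 1, 2, 3] (Cert.step [0, 2, 5, 1, 0, 2, 1, 3, 2, 3, 2, 4, 1, 5, 1, 0, 1, 2, 3, 2, 1, 5, 2, 0] (Cert.fail))),
  (1, Cert.step [0, 1, 3, 2, 1, 0, 1, 4, 5, 1, 5, 4, 2, 3, 2, 0, 1] (Cert.step [2, 3, 4, 3, 2, 1, 0, 5, 2, 3, 1, 0, 1, 2, 3, 4, 2, 3, 2, 1] (Cert.fail))),
  (1, Cert.step [1, 0, 5, 1, 2, 3, 2, 3, 4, 6, 5, 6, 3, 2, 1, 5, 4, 2, 0, 1] (Cert.step [0, 1, 0, 4, 5, 1, 0, 2, 3, 1, 5, 1, 2, 3, 4, 1, 2, 3, 2, 0] (Cert.step [1, 2, 1, 0, 1, 3, 4, 3, 2, 1, 3, 2, 1, 4, 3, 0, 1, 2, 3, 4, 0, 1] (Cert.done [1, 2, 1, 0, 1, 3, 4, 3, 2, 1, 3, 2, 1, 4, 3, 0, 1, 2, 3, 4, 0, 1, 0, 1, 0, 4, 5, 1, 0, 2, 3, 1, 5, 1, 2, 3, 4, 1, 2, 3, 2, 0, 1, 0,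 5, 1, 2, 3, 2, 3, 4, 6, 5, 6, 3, 2, 1, 5, 4, 2, 0, 1, 4, 6, 1, 2, 3, 2, 3, 5, 2, 3, 2, 1, 0, 1, 6, 2, 6, 1, 0, 2, 1, 3, 2, 1, 3, 4, 3, 2, 3, 5, 1, 0])))),
  (1, Cert.step [3, 2, 3, 5, 1, 2, 6, 1, 0, 5, 1, 0, 1, 6, 2, 0] (Cert.fail)),
  (1, Cert.step [0, 1, 3, 2, 1, 0, 1, 3, 0, 1, 2, 0, 1] (Cert.step [0, 2, 5, 1, 0, 2, 1, 3, 2, 3, 2, 4, 1, 5, 1, 0, 1, 2, 3, 2, 1, 5, 2, 0] (Cert.fail))),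
  (1, Cert.step [1, 0, 5, 1, 2, 3, 2, 3, 4, 6, 5, 6, 3, 2, 1, 5, 4, 2, 0, 1] (Cert.fail)),
  (1, Cert.step [3, 2, 3, 5, 1, 2, 6, 1, 0, 5, 1, 0, 1, 6, 1, 2, 3, 2] (Cert.step [2, 3, 4, 5, 1, 0, 2, 1, 3, 2, 4, 1, 5] (Cert.fail))),
  (1, Cert.step [1, 0, 2, 6, 1, 0, 1, 6, 1, 5, 1, 6, 3, 1] (Cert.step [2, 4, 3, 2, 1, 3, 2, 5, 1, 0, 2, 1, 0, 3, 1, 2, 3, 4] (Cert.fail))),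
  (1, Cert.step [1, 0, 3, 2, 3, 2, 1, 0, 1, 2, 1, 0] (Cert.step [2, 1, 3, 5, 4, 1, 2, 3, 2, 1, 5, 4, 3, 2] (Cert.step [1, 0, 4, 3, 2, 1, 0, 3, 4, 1, 2, 3, 1, 2, 3, 4, 3, 1, 0, 1, 2, 1] (Cert.done [1, 0, 4, 3, 2, 1, 0, 3, 4, 1, 2, 3, 1, 2, 3, 4, 3, 1, 0, 1, 2, 1, 2, 1, 3, 5, 4, 1, 2, 3, 2, 1, 5, 4, 3, 2, 1, 0, 3, 2, 3, 2, 1, 0, 1, 2, 1, 0, 4, 3, 6, 1, 0, 2, 1, 3, 2, 0, 1, 5, 2, 3, 2, 1, 6, 4, 6, 1, 0, 2, 1, 3, 2, 1, 3, 4, 3, 2, 3, 5, 1, 0])))),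
  (1, Cert.step [1, 0, 3, 2, 3, 4, 5, 1, 5, 4, 2, 3, 0, 1, 2] (Cert.fail)),
  (1, Cert.step [2, 1, 0, 1, 3, 2, 4, 5, 1, 5, 4, 0, 1, 0] (Cert.step [1, 2, 1, 0, 1, 0, 5, 1, 2, 3, 4, 1, 2, 3, 2, 1, 5, 4, 2, 3, 2] (Cert.fail))),
  (1, Cert.step [0, 1, 0, 2, 3, 6, 1, 2, 5, 1, 6, 5, 1, 0, 1, 2, 0, 1, 5, 6] (Cert.step [4, 3, 2, 3, 4, 5, 1, 0, 2, 3, 4, 1, 0, 1, 5, 2, 3, 4, 0, 1, 0, 1] (Cert.fail))),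
  (1, Cert.step [1, 0, 1, 3, 2, 4, 5, 1, 5, 4, 2, 3, 0, 1] (Cert.step [1, 3, 4, 5, 1, 2, 3, 2, 1, 3, 4, 3, 0, 1, 2, 3, 2, 1, 5, 4, 0] (Cert.fail))),
  (1, Cert.step [0, 1, 0, 4, 5, 1, 2, 0, 1, 5, 4, 2, 3, 0] (Cert.step [2, 1, 0, 3, 2, 5, 1, 2, 3, 4, 2, 3, 2, 1, 5, 3, 0, 1, 2, 3, 4, 2, 3] (Cert.fail))),
  (1, Cert.step [0, 1, 0, 1, 2, 1, 3, 0, 1, 0] (Cert.step [1, 0, 1, 3, 2, 3, 4, 3, 2, 5, 3, 1, 2, 0, 1, 5, 4, 2, 3, 2, 3, 4, 3, 2] (Cert.fail))),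
  (1, Cert.step [0, 1, 4, 3, 2, 5, 6, 1, 0, 5, 1, 0, 1, 6, 3, 2, 3, 4, 3] (Cert.step [2, 3, 4, 5, 1, 0, 2, 1, 3, 2, 4, 1, 5] (Cert.fail))),
  (1, Cert.step [0, 6, 1, 0, 1, 5, 0, 1, 6, 2, 1, 5, 3, 2, 3] (Cert.step [0, 2, 3, 2, 1, 0, 4, 3, 2, 1, 0, 3, 2, 5, 3, 4, 1, 2, 3, 2, 1, 5, 3, 4, 3, 2] (Cert.fail))),
  (1, Cert.step [3, 2, 3, 2, 4, 5, 1, 5, 4, 2, 3, 1, 2, 3] (Cert.fail)),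
  (2, Cert.fail),
  (1, Cert.step [1, 0, 3, 2, 4, 5, 1, 5, 4, 2, 3, 2, 3, 1] (Cert.step [0, 2, 5, 1, 0, 2, 1, 3, 2, 3, 2, 4, 1, 5, 1, 0, 1, 2, 3, 2, 1, 5, 2, 0] (Cert.fail))),
  (1, Cert.step [1, 0, 3, 2, 3, 2, 3, 1, 0] (Cert.step [0, 3, 5, 1, 0, 2, 3, 4, 1, 2, 3, 2, 1, 0, 1, 5, 4, 2, 3, 1] (Cert.fail))),
  (1, Cert.step [1, 0, 2, 4, 5, 1, 2, 6, 5, 6, 5, 3, 2, 1, 0, 1, 5, 4, 3, 0] (Cert.fail)),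
  (1, Cert.step [3, 2, 1, 0, 1] (Cert.step [0, 1, 4, 3, 2, 1, 0, 1, 5, 2, 3, 1, 2, 3, 4, 3, 2] (Cert.fail))),
  (1, Cert.step [0, 1, 3, 2, 1, 0, 1, 3, 0, 1, 2, 0, 1] (Cert.fail)),
  (1, Cert.step [1, 0, 1, 0, 3, 2, 3, 1, 0, 1] (Cert.fail)),
  (1, Cert.step [1, 0, 4, 5, 1, 2, 6, 5, 6, 3, 0, 1, 2, 0, 1, 5, 4, 2] (Cert.step [1, 0, 3, 2, 1, 4, 3, 2, 3, 2, 1, 4, 5, 2, 0, 1, 5, 2, 3, 0] (Cert.fail))),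
  (1, Cert.step [0, 1, 0, 2, 3, 2, 6, 1, 0, 1, 6, 1, 5, 1, 6, 3] (Cert.step [1, 0, 1, 3, 4, 3, 2, 3, 2, 1, 0, 1, 4, 5, 3, 1, 2, 3, 4] (Cert.fail))),
  (1, Cert.step [0, 1, 0, 3, 2, 3, 1, 0, 1, 2] (Cert.step [2, 1, 0, 1, 2, 5, 1, 2, 3, 4, 3, 2, 3, 1, 2, 1, 0, 1, 5, 3, 2] (Cert.fail))),
  (1, Cert.step [1, 0, 4, 5, 1, 2, 3, 6, 5, 2, 1, 5, 0, 1, 0, 1, 6, 4, 3] (Cert.step [3, 5, 1, 0, 2, 1, 0, 1, 5, 3, 4, 1, 2, 3, 2, 0, 1, 5, 2, 3, 1, 2] (Cert.fail))),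
  (1, Cert.step [0, 6, 1, 2, 5, 1, 6, 5, 6, 1, 5, 2, 1, 6, 0] (Cert.step [2, 1, 3, 5, 4, 1, 2, 3, 2, 1, 5, 4, 3, 2] (Cert.fail))),
  (1, Cert.fail),
  (1, Cert.step [1, 0, 2, 1, 3, 2, 1, 0, 1, 2, 3, 1, 0] (Cert.fail)),
  (1, Cert.step [0, 1, 2, 4, 3, 2, 3, 6, 1, 0, 1, 6, 5, 1, 6, 4, 1, 2, 3, 2, 1, 5, 4, 2, 3, 0] (Cert.fail)),
  (1, Cert.step [0, 3, 2, 4, 5, 1, 5, 4, 2, 3, 2, 3, 1] (Cert.step [2, 3, 2, 4, 5, 1, 2, 3, 2, 1, 4, 3, 2, 1, 5, 0, 1, 0, 1, 2, 1] (Cert.fail))),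
  (1, Cert.fail),
  (1, Cert.step [1, 0, 2, 6, 1, 0, 1, 6, 1, 5, 1, 6, 3] (Cert.step [1, 3, 2, 4, 3, 2, 1, 0, 3, 2, 4, 3, 2, 1, 5, 1, 2, 3, 4, 3, 1, 2, 1] (Cert.fail))),
  (1, Cert.fail),
  (1, Cert.step [0, 1, 3, 2, 3, 4, 5, 1, 5, 4, 2, 3, 1, 2, 0, 1] (Cert.step [0, 5, 1, 0, 2, 1, 5, 4, 3, 1, 2, 3, 1, 2, 0, 1, 5, 4, 2, 3, 2] (Cert.fail))),
  (1, Cert.step [1, 0, 1, 3, 2, 4, 5, 1, 5, 4, 3, 2, 3, 1, 0] (Cert.step [2, 1, 0, 1, 2, 5, 1, 2, 3, 4, 3, 2, 3, 1, 2, 1, 0, 1, 5, 3, 2] (Cert.fail))),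
  (1, Cert.step [3, 2, 1, 3, 2, 4, 5, 1, 2, 0, 1, 5, 4, 2, 3, 0] (Cert.step [0, 3, 4, 5, 1, 0, 1, 2, 3, 4, 5, 2, 0, 1, 0, 1, 5, 2, 3, 2, 3] (Cert.fail))),
  (1, Cert.step [0, 2, 6, 1, 0, 2, 1, 0, 3, 2, 1, 5, 2, 3, 2, 1, 6, 2] (Cert.step [1, 0, 2, 1, 5, 3, 2, 1, 5, 2, 3, 2, 0, 1] (Cert.fail))),
  (1, Cert.step [0, 3, 2, 4, 5, 1, 5, 4, 0, 1, 2, 0, 1, 0] (Cert.fail)),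
  (1, Cert.step [1, 0, 1, 3, 2, 4, 5, 1, 5, 4, 2, 3, 2, 0, 1] (Cert.step [2, 3, 4, 2, 3, 0, 1, 2, 3, 4, 0, 1, 2, 3, 2, 0] (Cert.fail))),
  (1, Cert.step [1, 0, 2, 6, 1, 0, 1, 6, 1, 5, 1, 6, 3, 2, 1] (Cert.step [0, 4, 5, 1, 0, 2, 3, 4, 1, 2, 3, 0, 1, 2, 1, 0, 1, 5, 0] (Cert.fail))),
  (1, Cert.step [1, 0, 1, 0, 3, 2, 3, 1, 0] (Cert.step [4, 3, 2, 1, 3, 0, 1, 2, 0, 1, 5, 2, 3, 1, 2, 3, 4, 2] (Cert.fail))),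
  (1, Cert.fail),
  (1, Cert.step [1, 0, 2, 4, 5, 1, 2, 3, 2, 1, 5, 4, 3, 2, 0, 1, 0] (Cert.fail)),
  (1, Cert.step [1, 0, 3, 2, 3, 4, 5, 1, 5, 4, 2, 3, 0, 1, 2] (Cert.step [0, 2, 5, 1, 0, 2, 1, 3, 2, 3, 2, 4, 1, 5, 1, 0, 1, 2, 3, 2, 1, 5, 2, 0] (Cert.fail))),
  (1, Cert.fail),
  (1, Cert.step [3, 2, 3, 2, 4, 5, 1, 5, 4, 2, 3, 2, 0] (Cert.step [1, 0, 1, 3, 4, 3, 2, 3, 2, 1, 0, 1, 4, 5, 3, 1, 2, 3, 4] (Cert.fail))),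
  (1, Cert.step [0, 1, 3, 2, 4, 5, 1, 5, 4, 0, 1, 0] (Cert.step [3, 2, 5, 1, 0, 1, 2, 3, 2, 1, 0, 1, 4, 2, 3, 2, 1, 5, 3, 2, 1] (Cert.fail))),
  (1, Cert.fail),
  (1, Cert.step [5, 1, 0, 1, 2, 3, 2, 4, 1, 5, 4, 2, 3, 2, 0] (Cert.fail)),
  (1, Cert.step [1, 0, 4, 5, 1, 2, 6, 5, 6, 3, 2, 0, 1, 5, 4, 2, 3] (Cert.step [0, 5, 1, 0, 1, 2, 1, 3, 2, 4, 3, 2, 5, 1, 0, 1, 5, 4, 3, 2, 3, 1, 2] (Cert.fail))),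
  (1, Cert.step [1, 0, 1, 2, 3] (Cert.fail)),
  (1, Cert.step [0, 1, 0, 1, 2, 1, 2, 3, 2, 3, 1, 2] (Cert.step [1, 0, 1, 3, 2, 3, 2, 4, 3, 1, 0, 1, 5, 2, 3, 4, 2, 3, 1, 2, 3, 0] (Cert.fail))),
  (1, Cert.step [3, 2, 1, 0] (Cert.step [2, 3, 2, 4, 5, 1, 0, 1, 2, 3, 2, 1, 0, 1, 5, 4, 2, 3, 2, 1] (Cert.fail))),
  (1, Cert.step [0, 1, 0, 4, 5, 1, 5, 4, 2, 3, 1, 2, 0] (Cert.step [2, 1, 0, 1, 2, 5, 1, 2, 3, 4, 3, 2, 1, 5, 3, 1, 2, 1] (Cert.fail))),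
  (1, Cert.step [1, 3, 2, 3, 2, 4, 5, 1, 5, 4, 0, 1, 2, 0] (Cert.step [3, 2, 4, 3, 2, 5, 1, 3, 4, 2, 3, 2, 0, 1, 5, 2, 3, 4, 3, 2, 3] (Cert.fail))),
  (1, Cert.step [0, 3, 2, 3, 4, 5, 1, 5, 4, 0, 1, 0, 1, 2] (Cert.fail)),
  (1, Cert.fail),
  (1, Cert.step [3, 2, 1, 0] (Cert.step [0, 3, 4, 5, 1, 0, 1, 2, 3, 4, 5, 2, 0, 1, 0, 1, 5, 2, 3, 2, 3] (Cert.fail))),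
  (1, Cert.step [0, 6, 1, 0, 2, 1, 0, 3, 2, 1, 3, 2, 3, 2, 1, 0, 1, 6, 2, 3] (Cert.step [4, 3, 2, 1, 3, 5, 2, 3, 1, 2, 3, 4] (Cert.fail))),
  (1, Cert.step [0, 1, 0, 3, 4, 5, 4, 2, 3, 2, 1, 0, 1, 5] (Cert.step [1, 2, 1, 4, 5, 1, 0, 1, 2, 3, 2, 3, 5, 1, 0, 1, 5, 1, 2, 3, 4, 3, 2] (Cert.fail))),
  (1, Cert.fail),
  (1, Cert.step [1, 0, 2, 1, 0, 4, 5, 1, 5, 4, 2, 3, 2, 3, 1] (Cert.step [0, 2, 3, 2, 1, 0, 4, 3, 2, 1, 0, 3, 2, 5, 3, 4, 1, 2, 3, 2, 1, 5, 3, 4, 3, 2] (Cert.fail))),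
  (1, Cert.fail),
  (1, Cert.step [0, 3, 2, 1, 5, 6, 1, 2, 3, 5, 1, 2, 6, 1, 5, 3, 2, 1, 6, 4, 3, 2, 1, 5, 0] (Cert.step [3, 2, 1, 3, 2, 3, 2, 1, 0, 4, 5, 1, 2, 3, 4, 2, 3, 1, 2, 1, 0, 1, 5, 3] (Cert.fail))),
  (1, Cert.step [0, 1, 3, 2, 1, 0, 1, 4, 5, 1, 5, 4, 2, 3, 2, 0] (Cert.step [4, 3, 2, 1, 3, 5, 2, 3, 1, 2, 3, 4] (Cert.fail))),
  (1, Cert.step [0, 1, 3, 2, 3, 4, 5, 1, 5, 4, 2, 3, 1, 2, 0, 1] (Cert.step [1, 2, 3, 4, 5, 1, 0, 2, 3, 2, 1, 0, 1, 2, 3, 2, 1, 5, 4, 0] (Cert.fail))),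
  (1, Cert.fail),
  (1, Cert.step [0, 1, 0, 4, 5, 1, 0, 2, 1, 5, 4, 2, 3, 2, 0] (Cert.step [3, 2, 4, 3, 2, 5, 1, 3, 4, 2, 3, 2, 0, 1, 5, 2, 3, 4, 3, 2, 3] (Cert.fail))),
  (1, Cert.step [1, 0, 5, 1, 2, 3, 2, 3, 4, 3, 0, 1, 2, 0, 1, 5, 4, 1] (Cert.step [1, 2, 1, 3, 4, 3, 2, 1, 5, 1, 2, 3, 4, 2, 3, 0, 1, 2, 3, 4, 2, 3, 1] (Cert.fail))),
  (1, Cert.fail),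
  (1, Cert.step [0, 1, 6, 1, 0, 1, 2, 3, 2, 3, 1, 2, 3, 0, 1, 2, 0, 1, 6, 0] (Cert.step [3, 2, 4, 3, 2, 1, 0, 5, 1, 2, 3, 2, 1, 0, 4, 3, 2, 1, 0, 1, 5, 4] (Cert.fail))),
  (1, Cert.step [1, 0, 1, 0, 3, 4, 5, 1, 5, 4, 2, 3, 0] (Cert.fail)),
  (1, Cert.step [0, 1, 2, 1, 0, 1, 0, 2, 3, 2, 3] (Cert.fail)),
  (1, Cert.step [0, 2, 1, 3, 4, 3, 5, 1, 0, 1, 3, 2, 3, 1, 2, 0, 1, 5, 4, 0] (Cert.step [3, 2, 3, 2, 5, 1, 0, 1, 0, 2, 5, 4, 3, 2, 1, 0, 1, 5, 4, 3, 0] (Cert.step [] (Cert.done [3, 2, 3, 2, 5, 1, 0, 1, 0, 2, 5, 4, 3, 2, 1, 0, 1, 5, 4, 3, 2, 1, 3, 4, 3, 5, 1, 0, 1, 3, 2, 3, 1, 2, 0, 1, 5, 4, 0, 4, 6, 1, 0, 2, 1, 3, 2, 3, 2, 5, 6, 5, 1, 6, 5, 2, 3, 2, 1, 6, 2, 6, 1, 0, 2, 1, 3, 2, 1,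 3, 4, 3, 2, 3, 5, 1, 0])))),
  (1, Cert.step [3, 2, 1, 3, 2, 3, 4, 5, 2, 0, 1, 5, 4, 2, 3, 0] (Cert.fail)),
  (1, Cert.step [0, 1, 3, 2, 1, 0, 1, 4, 5, 1, 5, 4, 2, 3, 2, 0, 1] (Cert.step [2, 3, 2, 4, 5, 1, 2, 3, 2, 1, 4, 3, 2, 1, 5, 0, 1, 0, 1, 2, 1] (Cert.fail))),
  (1, Cert.step [1, 0, 6, 1, 2, 5, 1, 6, 3, 2, 1, 5, 3, 2, 1, 6, 2, 0, 1] (Cert.step [] (Cert.fail))),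
  (1, Cert.step [0, 1, 0, 3, 4, 5, 1, 5, 4, 2, 3, 0, 1] (Cert.step [2, 1, 0, 1, 2, 5, 1, 2, 3, 4, 3, 2, 1, 5, 3, 1, 2, 1] (Cert.fail))),
  (1, Cert.step [0, 1, 4, 3, 2, 1, 3, 2, 6, 5, 6, 4, 3, 2, 1, 5, 2, 3, 4, 3] (Cert.step [4, 5, 1, 0, 2, 3, 2, 1, 5, 2, 3, 1, 2, 0, 1, 0, 1, 2, 3, 4] (Cert.fail))),
  (1, Cert.fail),
  (1, Cert.step [0, 3, 2, 3, 2, 3, 1, 0, 1] (Cert.step [2, 3, 2, 1, 0, 4, 3, 2, 1, 3, 2, 4, 3, 5, 4, 2, 3, 1, 2, 3, 4, 3, 0, 1, 2, 3, 2] (Cert.fail))),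
  (1, Cert.step [0, 1, 0, 2, 3, 2, 6, 1, 0, 1, 6, 1, 5, 1, 6, 3, 1, 2] (Cert.step [2, 3, 2, 4, 5, 1, 0, 1, 2, 3, 2, 1, 0, 1, 5, 4, 2, 3, 2, 1] (Cert.fail))),
  (2, Cert.fail),
  (1, Cert.step [0, 3, 2, 3, 4, 5, 1, 5, 4, 2, 3, 1, 2, 3] (Cert.fail)),
  (1, Cert.step [1, 0, 3, 2, 3, 4, 5, 1, 5, 4, 2, 3, 0] (Cert.step [3, 2, 5, 1, 0, 1, 2, 3, 5, 2, 3, 4, 1, 2, 3, 2, 0, 1, 5] (Cert.step [] (Cert.done [3, 2, 5, 1, 0, 1, 2, 3, 5, 2, 3, 4, 1, 2, 3, 2, 0, 1, 5, 1, 0, 3, 2, 3, 4, 5, 1, 5, 4, 2, 3, 0, 4, 6, 1, 0, 2, 1, 3, 2, 3, 2, 1, 0, 1, 2, 3, 2, 0, 1, 6, 5, 6, 1, 0, 2, 1, 3, 2, 1, 3, 4, 3, 2, 3, 5, 1, 0])))),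
  (1, Cert.step [0, 1, 0, 2, 1, 0, 3, 2, 3, 1, 2, 3] (Cert.step [1, 2, 3, 2, 1, 0, 5, 1, 0, 2, 1, 0, 3, 4, 3, 2, 3, 2, 1, 0, 1, 5, 0] (Cert.fail))),
  (1, Cert.step [0, 3, 2, 4, 5, 1, 5, 4, 0, 1, 2, 0, 1, 0] (Cert.step [0, 2, 1, 3, 2, 3, 2, 1, 0, 4, 3, 1, 2, 3, 1, 2, 0, 1, 5, 4, 1, 2, 3, 0, 1] (Cert.fail))),
  (1, Cert.step [3, 2, 1, 3, 2, 3, 4, 5, 1, 5, 4, 2, 3, 0] (Cert.fail)),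
  (1, Cert.step [0, 1, 0, 4, 5, 1, 5, 4, 2, 3, 1, 2, 0] (Cert.fail)),
  (1, Cert.step [0, 2, 1, 0, 2, 3, 1, 2, 3] (Cert.fail)),
  (1, Cert.step [0, 1, 3, 2, 3, 4, 5, 1, 5, 4, 2, 3, 1, 2, 0] (Cert.step [3, 2, 1, 4, 3, 2, 1, 3, 2, 1, 5, 0, 1, 2, 3, 2, 3, 4, 1, 2, 3] (Cert.fail))),
  (1, Cert.step [0, 6, 1, 0, 2, 1, 0, 3, 2, 1, 5, 2, 3, 2, 1, 6, 1, 2] (Cert.step [3, 2, 5, 1, 0, 1, 2, 3, 5, 2, 3, 4, 1, 2, 3, 2, 0, 1, 5] (Cert.fail))),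
  (1, Cert.step [0, 6, 1, 0, 2, 1, 0, 3, 2, 1, 3, 2, 3, 2, 1, 0, 1, 6, 2, 3] (Cert.step [3, 2, 4, 5, 1, 0, 1, 0, 2, 3, 4, 2, 1, 0, 1, 5, 1, 2, 3, 2, 3, 1, 0, 1] (Cert.fail))),
  (1, Cert.step [3, 2, 3, 5, 1, 2, 6, 1, 0, 5, 1, 0, 1, 6, 2, 0] (Cert.fail)),
  (1, Cert.step [0, 6, 1, 0, 2, 1, 0, 3, 2, 1, 5, 2, 3, 2, 1, 6, 1] (Cert.step [0, 4, 3, 2, 1, 0, 1, 2, 3, 2, 5, 1, 4, 3, 2, 1, 5, 3, 4, 3, 2] (Cert.fail))),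
  (1, Cert.step [0, 2, 1, 3, 2, 3, 2, 3, 1, 2, 3] (Cert.step [2, 1, 0, 1, 2, 5, 1, 2, 3, 4, 3, 2, 3, 1, 2, 1, 0, 1, 5, 3, 2] (Cert.fail))),
  (1, Cert.step [0, 2, 0, 1] (Cert.fail)),
  (1, Cert.step [5, 1, 0, 1, 2, 3, 2, 4, 1, 5, 4, 2, 3, 0, 1, 2] (Cert.fail)),
  (1, Cert.step [0, 1, 0, 1, 2, 1, 3, 2, 3, 0, 1] (Cert.fail)),
  (1, Cert.fail),
  (1, Cert.step [3, 4, 3, 2, 5, 1, 2, 3, 4, 6, 5, 6, 2, 3, 1, 2, 3, 4, 2, 3] (Cert.fail)),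
  (1, Cert.step [0, 1, 2, 6, 1, 5, 1, 6, 1, 0, 1, 6, 2, 0] (Cert.step [0, 3, 4, 3, 2, 5, 1, 0, 2, 3, 2, 1, 4, 5, 2, 1, 0, 1, 2, 3, 4, 2, 3, 0] (Cert.fail))),
  (1, Cert.fail),
  (1, Cert.step [1, 0, 4, 5, 1, 2, 6, 5, 6, 3, 0, 1, 2, 0, 1, 5, 4] (Cert.step [1, 0, 3, 2, 1, 0, 5, 1, 0, 1, 2, 1, 4, 3, 2, 3, 4, 3, 1, 2, 3, 1, 2, 0] (Cert.fail))),
  (1, Cert.step [2, 1, 0, 1, 3, 4, 3, 2, 0, 1, 2, 3, 4, 3, 2, 3, 0] (Cert.step [0, 3, 2, 1, 3, 4, 3, 2, 3, 2, 4, 1, 2, 3, 0, 1, 0, 1, 2, 3] (Cert.fail))),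
  (1, Cert.step [2, 4, 3, 5, 1, 0, 2, 1, 6, 5, 6, 2, 3, 1, 2, 3, 4, 1, 0] (Cert.fail)),
  (1, Cert.step [3, 2, 3, 2, 4, 5, 1, 5, 4, 2, 3, 1, 2, 3] (Cert.step [2, 3, 2, 3, 4, 3, 5, 1, 0, 2, 1, 3, 4, 5, 2, 0, 1, 0, 1, 5, 2, 3, 4] (Cert.fail))),
  (1, Cert.step [1, 3, 2, 3, 2, 4, 5, 1, 2, 0, 1, 0, 1, 5, 4] (Cert.step [0, 2, 1, 5, 1, 2, 3, 2, 4, 3, 2, 3, 1, 0, 1, 5, 1, 2, 3] (Cert.fail))),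
  (1, Cert.step [0, 1, 4, 3, 2, 1, 3, 2, 6, 5, 6, 4, 3, 1, 2, 0, 1, 5, 3, 4] (Cert.step [0, 2, 1, 3, 2, 3, 2, 1, 0, 4, 3, 1, 2, 3, 1, 2, 0, 1, 5, 4, 1, 2, 3, 0, 1] (Cert.fail))),
  (1, Cert.fail),
  (1, Cert.step [0, 1, 3, 2, 4, 5, 1, 5, 4, 2, 3, 0] (Cert.step [3, 2, 1, 0, 3, 5, 1, 0, 2, 3, 4, 3, 2, 1, 5, 0, 1, 2, 3] (Cert.fail))),
  (1, Cert.step [0, 1, 4, 3, 5, 1, 0, 1, 2, 3, 2, 1, 0, 1, 5, 3, 4, 3, 1, 2, 0, 1] (Cert.fail)),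
  (1, Cert.step [0, 1, 2, 1, 0, 1, 0, 3, 2, 3, 1, 2, 3] (Cert.step [2, 3, 2, 4, 3, 5, 1, 2, 3, 2, 1, 5, 4, 1, 2, 3, 2, 1, 5, 3, 4, 2, 3, 2] (Cert.fail))),
  (2, Cert.fail),
  (1, Cert.step [1, 2, 6, 1, 2, 3, 2, 5, 1, 2, 3, 0, 1, 2, 0, 1, 6, 0] (Cert.step [1, 2, 1, 3, 2, 1, 0, 1, 3, 4, 5, 1, 2, 3, 2, 0, 1, 5, 4] (Cert.step [3, 4, 3, 2, 1, 0, 3, 2, 3, 5, 1, 2, 4, 3, 2, 1, 5, 3, 2, 3, 0, 1, 2, 3, 4, 3] (Cert.done [3, 4, 3, 2, 1, 0, 3, 2, 3, 5, 1, 2, 4, 3, 2, 1, 5, 3, 2, 3, 0, 1, 2, 3, 4, 3, 1, 2, 1, 3, 2, 1, 0, 1, 3, 4, 5, 1, 2, 3, 2, 0, 1, 5, 4, 1, 2, 6, 1, 2, 3, 2, 5, 1, 2, 3, 0, 1, 2, 0, 1, 6, 4, 6, 1, 2, 3, 2, 1, 3, 6, 5, 1, 0, 1, 5, 6, 1, 2, 3, 2, 1, 6, 4, 6, 1, 0, 2, 1, 3, 2, 1,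 3, 4, 3, 2, 3, 5, 1, 0])))),
  (1, Cert.step [1, 0, 2, 4, 5, 1, 2, 3, 2, 1, 5, 4, 3, 2, 0, 1, 0] (Cert.fail)),
  (1, Cert.step [1, 0, 1, 3, 2, 4, 5, 1, 5, 4, 2, 3, 0] (Cert.step [0, 2, 3, 4, 3, 5, 1, 0, 1, 2, 3, 4, 2, 1, 0, 1, 2, 3, 2, 1, 5, 3, 4, 1] (Cert.fail))),
  (1, Cert.step [3, 2, 3, 5, 1, 2, 6, 1, 0, 5, 1, 0, 1, 6, 0] (Cert.step [0, 2, 3, 2, 1, 0, 4, 3, 2, 1, 0, 3, 2, 5, 3, 4, 3, 1, 2, 3, 2, 1, 5, 4, 1, 2] (Cert.fail))),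
  (1, Cert.step [3, 2, 3, 2, 4, 5, 1, 5, 4, 2, 3, 2, 0] (Cert.step [1, 0, 1, 3, 2, 3, 4, 3, 2, 5, 3, 1, 2, 0, 1, 5, 4, 2, 3, 2, 3, 4, 3, 2] (Cert.fail))),
  (1, Cert.step [1, 0, 1, 3, 2, 4, 5, 1, 5, 4, 3, 2, 3, 1, 0] (Cert.step [2, 1, 3, 2, 3, 4, 5, 1, 0, 1, 2, 3, 2, 0, 1, 0, 1, 5, 4, 2, 3, 1, 2] (Cert.fail))),
  (1, Cert.step [2, 1, 3, 2, 3, 2, 4, 5, 1, 5, 4, 3, 2, 3, 1, 0] (Cert.step [4, 3, 2, 1, 3, 2, 1, 5, 1, 2, 3, 4, 2, 3, 0, 1, 2, 3, 2, 1, 5, 4, 3, 1, 2] (Cert.fail))),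
  (1, Cert.step [0, 1, 3, 2, 4, 5, 1, 5, 4, 2, 3, 0, 1] (Cert.step [0, 5, 1, 0, 1, 2, 1, 3, 2, 4, 3, 2, 5, 1, 0, 1, 5, 4, 3, 2, 3, 1, 2] (Cert.fail))),
  (1, Cert.fail),
  (1, Cert.step [1, 0, 3, 2, 3, 1, 0, 1, 2, 3, 1, 0] (Cert.fail)),
  (1, Cert.step [0, 1, 0, 1, 2, 1, 3, 2, 3, 0] (Cert.fail)),
  (1, Cert.step [3, 2, 1, 3, 2, 3, 2, 3, 1, 0, 1] (Cert.step [2, 1, 0, 4, 5, 1, 2, 3, 2, 1, 0, 3, 4, 1, 2, 3, 2, 1, 5, 3, 4, 1] (Cert.fail))),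
  (1, Cert.step [1, 0, 6, 1, 2, 5, 1, 6, 3, 2, 1, 5, 3, 2, 1, 6, 0, 1, 2] (Cert.step [3, 4, 3, 2, 3, 2, 1, 0, 5, 1, 0, 2, 3, 4, 3, 1, 2, 3, 1, 2, 1, 0, 1, 5, 4] (Cert.fail))),
  (1, Cert.step [3, 2, 1, 3, 2, 3, 2, 3, 1, 2, 0] (Cert.step [0, 5, 1, 0, 2, 1, 5, 3, 2, 3, 4, 3, 2, 3, 0, 1, 2, 0, 1, 5, 0] (Cert.fail))),
  (1, Cert.step [1, 0, 5, 1, 2, 3, 2, 3, 4, 6, 5, 6, 3, 2, 1, 5, 4, 0, 1, 2] (Cert.step [2, 3, 2, 4, 3, 5, 1, 2, 3, 2, 1, 5, 4, 1, 2, 3, 2, 1, 5, 3, 4, 2, 3, 2] (Cert.fail))),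
  (1, Cert.step [0, 1, 0, 2, 3, 6, 1, 2, 5, 1, 6, 5, 1, 0, 1, 2, 0, 1, 5, 6] (Cert.step [1, 2, 1, 0, 3, 2, 1, 4, 3, 2, 3, 4, 1, 0, 1, 2, 0, 1] (Cert.fail))),
  (1, Cert.step [0, 1, 2, 4, 3, 2, 3, 6, 1, 0, 1, 6, 5, 1, 6, 4, 1, 2, 3, 2, 1, 5, 4, 2, 3, 0] (Cert.step [3, 2, 3, 2, 5, 1, 0, 1, 0, 2, 5, 4, 3, 2, 1, 0, 1, 5, 4, 3, 0] (Cert.fail))),
  (1, Cert.step [1, 0, 3, 2, 3, 2, 1, 0, 1, 2, 1, 0] (Cert.step [1, 4, 3, 5, 1, 2, 3, 2, 1, 4, 3, 0, 1, 2, 3, 2, 1, 5, 4, 0, 1, 2] (Cert.fail))),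
  (1, Cert.fail),
  (1, Cert.step [1, 0, 1, 0, 3, 4, 5, 1, 5, 4, 2, 3, 1, 2, 3] (Cert.step [2, 3, 2, 3, 4, 3, 5, 1, 0, 2, 1, 3, 4, 5, 2, 0, 1, 0, 1, 5, 2, 3, 4] (Cert.fail))),
  (1, Cert.step [0, 1, 2, 4, 3, 2, 3, 6, 1, 0, 1, 5, 0, 1, 6, 5, 2, 3, 4, 2, 3, 2] (Cert.step [1, 2, 4, 3, 2, 1, 0, 5, 1, 0, 4, 3, 1, 2, 3, 4, 1, 2, 0] (Cert.fail))),
  (1, Cert.step [0, 1, 2, 3, 4, 5, 1, 2, 3, 2, 1, 5, 4, 1] (Cert.step [0, 2, 5, 1, 2, 3, 2, 1, 0, 1, 5, 1, 4, 2, 3, 2, 3, 1, 2, 0, 1, 5, 2, 0] (Cert.fail))),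
  (1, Cert.step [1, 0, 3, 2, 3, 1, 0, 1, 2, 3, 1, 0] (Cert.step [2, 4, 3, 2, 1, 3, 2, 5, 1, 0, 2, 1, 0, 3, 1, 2, 3, 4] (Cert.fail))),
  (1, Cert.step [0, 1, 2, 3, 4, 5, 1, 2, 3, 2, 1, 5, 4, 1, 2] (Cert.step [0, 5, 1, 0, 1, 2, 1, 0, 3, 2, 1, 4, 3, 2, 0, 1, 5, 4, 0] (Cert.fail))),
  (1, Cert.fail),
  (1, Cert.step [1, 0, 3, 2, 3, 4, 5, 1, 5, 4, 0, 1, 0] (Cert.step [0, 2, 1, 4, 3, 2, 1, 3, 4, 0, 1, 5, 0, 1, 2, 3, 4, 2, 1] (Cert.fail))),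
  (1, Cert.step [1, 3, 2, 4, 5, 1, 0, 2, 3, 4, 2, 3, 2, 1, 0, 1, 5, 0] (Cert.step [1, 0, 2, 1, 5, 3, 2, 1, 5, 2, 3, 2, 0, 1] (Cert.fail))),
  (1, Cert.fail),
  (1, Cert.step [1, 0, 3, 2, 4, 5, 1, 5, 4, 2, 3, 2, 3, 1] (Cert.fail)),
  (1, Cert.fail),
  (1, Cert.step [1, 0, 3, 2, 4, 5, 1, 4, 2, 3, 2, 1, 0, 1, 5] (Cert.step [5, 1, 0, 2, 3, 2, 1, 4, 3, 2, 5, 3, 2, 1, 0, 1, 5, 2, 3] (Cert.fail))),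
  (1, Cert.fail),
  (1, Cert.step [0, 1, 3, 2, 4, 5, 1, 5, 4, 0, 1, 0] (Cert.step [4, 3, 2, 1, 3, 0, 1, 2, 0, 1, 5, 2, 3, 1, 2, 3, 4, 2] (Cert.fail))),
  (1, Cert.step [0, 3, 2, 3, 2, 1, 0, 1, 2, 1, 0] (Cert.step [3, 2, 3, 5, 1, 0, 1, 2, 1, 3, 2, 1, 4, 3, 2, 1, 5, 3, 1, 2, 3, 2, 1, 0, 1] (Cert.fail))),
  (1, Cert.fail),
  (1, Cert.step [1, 3, 2, 3, 2, 4, 5, 1, 5, 4, 2, 3, 0, 1] (Cert.step [0, 2, 3, 4, 5, 1, 0, 1, 2, 1, 0, 3, 2, 1, 5, 4, 3, 2, 0, 1, 0, 1, 5, 2, 3, 2, 0] (Cert.fail))),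
  (1, Cert.step [0, 6, 1, 0, 1, 6, 1, 5, 1, 6, 3, 1] (Cert.fail)),
  (1, Cert.fail),
  (1, Cert.step [2, 1, 6, 5, 1, 0, 2, 1, 0, 1, 3, 2, 1, 5, 3, 2, 1, 6, 2, 0] (Cert.step [1, 2, 1, 0, 1, 0, 5, 1, 2, 3, 4, 1, 2, 3, 2, 1, 5, 4, 2, 3, 2] (Cert.fail))),
  (1, Cert.step [0, 1, 4, 3, 2, 5, 6, 1, 0, 5, 1, 0, 1, 6, 3, 2, 3, 4, 3, 1, 2, 1] (Cert.step [0, 4, 3, 2, 1, 0, 1, 2, 3, 2, 5, 1, 4, 3, 2, 0, 1, 5, 3, 4, 1, 2] (Cert.fail))),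
  (1, Cert.fail),
  (1, Cert.step [2, 1, 6, 5, 1, 0, 2, 1, 0, 1, 3, 2, 1, 5, 3, 2, 1, 6, 0] (Cert.fail)),
  (1, Cert.step [0, 1, 3, 2, 1, 0, 1, 2, 3, 2, 3, 1] (Cert.step [1, 0, 3, 2, 1, 0, 5, 1, 0, 1, 2, 1, 4, 3, 2, 3, 4, 3, 1, 2, 3, 1, 2, 0] (Cert.fail))),
  (1, Cert.step [0, 3, 2, 4, 5, 1, 0, 2, 1, 5, 4, 2, 3, 2, 0] (Cert.step [2, 3, 2, 4, 3, 5, 1, 2, 3, 2, 1, 5, 4, 1, 2, 3, 2, 1, 5, 3, 4, 2, 3, 2] (Cert.fail))),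
  (1, Cert.step [1, 3, 2, 3, 2, 4, 5, 1, 5, 4, 0, 1, 0, 1] (Cert.step [1, 2, 3, 4, 5, 1, 0, 2, 3, 2, 1, 0, 1, 2, 3, 2, 1, 5, 4, 0] (Cert.fail))),
  (3, Cert.fail),
  (1, Cert.step [2, 1, 6, 5, 1, 0, 2, 1, 0, 1, 3, 2, 1, 5, 3, 2, 1, 6, 2, 0, 1] (Cert.step [0, 2, 5, 1, 2, 3, 2, 1, 0, 1, 5, 1, 4, 2, 3, 2, 3, 1, 2, 0, 1, 5, 2, 0] (Cert.fail))),
  (1, Cert.step [0, 3, 2, 3, 2, 3, 1, 2, 0] (Cert.step [4, 3, 2, 1, 3, 2, 1, 5, 1, 2, 3, 4, 2, 3, 0, 1, 2, 3, 2, 1, 5, 4, 3, 1, 2] (Cert.fail))),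
  (1, Cert.step [0, 1, 3, 2, 3, 4, 5, 1, 5, 4, 2, 3, 1, 2, 0] (Cert.fail)),
  (1, Cert.fail),
  (1, Cert.step [0, 1, 3, 2, 4, 5, 1, 5, 4, 0, 1, 0] (Cert.step [3, 2, 3, 2, 1, 4, 3, 2, 3, 5, 2, 1, 5, 4, 2, 3, 2, 1, 0, 1, 5] (Cert.fail))),
  (1, Cert.fail),
  (1, Cert.step [1, 0, 4, 5, 1, 2, 3, 2, 1, 5, 4, 2, 0] (Cert.fail)),
  (1, Cert.step [0, 1, 4, 3, 2, 5, 6, 1, 0, 5, 1, 0, 1, 6, 3, 2, 3, 4, 3, 1, 2, 1] (Cert.step [1, 2, 1, 4, 5, 1, 0, 1, 2, 3, 2, 3, 5, 1, 0, 1, 5, 1, 2, 3, 4, 3, 2] (Cert.fail))),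
  (1, Cert.step [0, 1, 3, 2, 4, 5, 1, 5, 4, 0, 1, 0, 1] (Cert.step [1, 0, 2, 1, 5, 3, 2, 1, 5, 2, 3, 2, 0, 1] (Cert.fail))),
  (1, Cert.step [0, 6, 1, 2, 5, 1, 0, 1, 5, 2, 1, 6, 0] (Cert.step [2, 1, 3, 2, 3, 4, 5, 1, 0, 1, 2, 3, 2, 0, 1, 0, 1, 5, 4, 2, 3, 1, 2] (Cert.fail))),
  (1, Cert.step [1, 0, 3, 2, 4, 5, 1, 4, 2, 3, 2, 1, 0, 1, 5] (Cert.fail)),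
  (1, Cert.step [0, 2, 1, 3, 2, 4, 5, 1, 5, 4, 2, 3, 2, 0] (Cert.step [0, 5, 1, 0, 1, 2, 1, 3, 2, 4, 3, 2, 5, 1, 0, 1, 5, 4, 3, 2, 3, 1, 2] (Cert.fail))),
  (1, Cert.step [0, 2, 6, 1, 0, 2, 1, 0, 3, 2, 1, 5, 2, 3, 2, 1, 6, 2] (Cert.step [2, 3, 4, 3, 2, 1, 0, 5, 2, 3, 1, 0, 1, 2, 3, 4, 2, 3, 2, 1] (Cert.fail))),
  (1, Cert.step [1, 3, 2, 3, 2, 4, 5, 1, 5, 4, 0, 1, 0] (Cert.step [1, 3, 4, 5, 1, 0, 2, 3, 4, 2, 3, 1, 2, 0, 1, 5, 2, 3, 2, 3, 1, 2] (Cert.step [0, 2, 1, 0, 4, 3, 2, 3, 5, 1, 2, 4, 3, 2, 0, 1, 5, 2, 3, 4, 3, 0, 1, 2, 0] (Cert.done [0, 2, 1, 0, 4, 3, 2, 3, 5, 1, 2, 4, 3, 2, 0, 1, 5, 2, 3, 4, 3, 0, 1, 2, 0, 1, 3, 4, 5, 1, 0, 2, 3, 4, 2, 3, 1, 2, 0, 1, 5, 2, 3, 2, 3, 1, 2, 1,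 3, 2, 3, 2, 4, 5, 1, 5, 4, 0, 1, 0, 6, 1, 0, 1, 2, 1, 3, 2, 4, 3, 2, 3, 2, 3, 4, 1, 0, 1, 2, 3, 2, 1, 6, 1, 0, 6, 1, 0, 2, 1, 3, 2, 1, 3, 4, 3, 2, 3, 5, 1, 0])))),
  (1, Cert.step [1, 3, 2, 3, 2, 4, 5, 1, 5, 4, 2, 3, 0, 1] (Cert.step [1, 2, 3, 4, 5, 1, 0, 2, 3, 2, 1, 0, 1, 2, 3, 2, 1, 5, 4, 0] (Cert.fail))),
  (1, Cert.step [1, 0, 1, 0, 4, 5, 1, 5, 4, 2, 3, 1, 0] (Cert.step [2, 1, 0, 1, 5, 2, 3, 4, 1, 2, 3, 2, 0, 1, 5, 4, 3] (Cert.fail))),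
  (1, Cert.step [0, 6, 1, 0, 2, 1, 0, 3, 2, 1, 3, 2, 3, 2, 1, 0, 1, 6, 2, 3] (Cert.step [2, 1, 3, 2, 3, 4, 5, 1, 0, 1, 2, 3, 1, 2, 0, 1, 5, 4, 0] (Cert.fail))),
  (1, Cert.step [0, 1, 2, 1, 0, 1, 0, 3, 2, 3, 1, 2, 3] (Cert.step [1, 3, 4, 5, 1, 0, 2, 3, 4, 2, 3, 1, 2, 0, 1, 5, 2, 3, 2, 3, 1, 2] (Cert.fail))),
  (1, Cert.step [0, 3, 2, 1, 5, 6, 1, 2, 3, 5, 1, 2, 6, 1, 5, 3, 2, 1, 6, 4, 3, 2, 1, 5, 0] (Cert.step [2, 3, 2, 4, 3, 5, 1, 2, 3, 2, 1, 5, 4, 1, 2, 3, 2, 1, 5, 3, 4, 2, 3, 2] (Cert.fail))),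
  (1, Cert.step [0, 3, 2, 3, 2, 3, 1, 2, 0] (Cert.step [2, 1, 0, 1, 3, 2, 1, 3, 5, 1, 0, 2, 1, 4, 3, 2, 3, 4, 3, 1, 2, 3, 0, 1] (Cert.fail))),
  (1, Cert.step [3, 6, 1, 2, 5, 1, 2, 6, 1, 0, 1, 2, 0, 1, 6, 3, 0, 1] (Cert.step [5, 1, 4, 2, 3, 1, 2, 0, 1, 5, 4, 3, 2] (Cert.fail))),
  (1, Cert.fail),
  (1, Cert.step [0, 2, 3, 2, 4, 5, 1, 5, 4, 2, 3, 2, 3, 1, 2] (Cert.step [2, 1, 3, 5, 4, 1, 2, 3, 2, 1, 5, 4, 3, 2] (Cert.fail))),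
  (1, Cert.fail),
  (1, Cert.step [0, 1, 3, 2, 3, 4, 5, 1, 5, 4, 2, 3, 1, 0, 1, 2] (Cert.step [1, 2, 4, 3, 2, 1, 0, 5, 1, 0, 4, 3, 1, 2, 3, 4, 1, 2, 0] (Cert.fail))),
  (1, Cert.step [0, 1, 0, 3, 2, 3, 2, 3, 1] (Cert.step [1, 0, 2, 1, 5, 3, 2, 1, 5, 2, 3, 2, 0, 1] (Cert.fail))),
  (1, Cert.step [0, 1, 4, 3, 2, 1, 3, 2, 6, 5, 6, 4, 3, 1, 2, 0, 1, 5, 3, 4] (Cert.step [1, 2, 1, 3, 2, 1, 0, 1, 3, 4, 5, 1, 2, 3, 2, 0, 1, 5, 4] (Cert.fail))),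
  (1, Cert.fail),
  (1, Cert.step [1, 0, 4, 5, 1, 2, 3, 6, 5, 6, 4, 2, 3, 2, 1, 0, 1, 5, 0] (Cert.step [1, 2, 3, 4, 3, 2, 3, 2, 4, 5, 1, 2, 0, 1, 5, 1, 2, 3, 2, 3, 4, 3, 2, 1] (Cert.fail))),
  (1, Cert.step [1, 0, 1, 3, 2, 4, 5, 1, 5, 4, 3, 2, 3, 1, 0] (Cert.step [4, 3, 2, 3, 5, 1, 0, 2, 1, 0, 3, 2, 1, 5, 3, 4, 3, 2, 3, 1, 2, 3, 4, 3, 1, 0, 1] (Cert.fail))),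
  (1, Cert.step [1, 2, 3, 2, 1, 6, 1, 0, 1, 6, 0, 1, 0, 1, 6, 2, 3, 2, 0] (Cert.step [3, 2, 4, 3, 2, 1, 0, 5, 1, 2, 3, 2, 1, 0, 4, 3, 2, 1, 0, 1, 5, 4] (Cert.fail))),
  (1, Cert.step [3, 2, 3, 2, 4, 5, 1, 5, 4, 2, 3, 2, 0, 1] (Cert.step [1, 4, 3, 2, 3, 5, 1, 0, 1, 2, 3, 2, 1, 5, 4, 0, 1, 2, 3, 0, 1, 2, 3, 4, 1] (Cert.fail))),
  (1, Cert.step [0, 3, 2, 3, 2, 3, 1, 2, 0] (Cert.step [1, 2, 4, 3, 2, 1, 0, 5, 1, 0, 4, 3, 1, 2, 3, 4, 1, 2, 0] (Cert.fail))),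
  (1, Cert.step [1, 0, 3, 2, 3, 4, 3, 2, 5, 1, 2, 3, 2, 1, 5, 0, 1, 2, 3, 4, 0] (Cert.step [1, 2, 3, 2, 1, 0, 5, 1, 0, 2, 1, 0, 3, 4, 3, 2, 3, 2, 1, 0, 1, 5, 0] (Cert.fail))),
  (1, Cert.step [2, 1, 4, 6, 1, 2, 3, 5, 1, 6, 2, 1, 5, 3, 2, 1, 6, 4] (Cert.step [3, 2, 4, 3, 2, 5, 1, 3, 4, 2, 3, 2, 0, 1, 5, 2, 3, 4, 3, 2, 3] (Cert.fail))),
  (1, Cert.step [0, 6, 1, 0, 1, 6, 1, 5, 1, 6, 3, 1, 2, 1] (Cert.step [1, 2, 3, 4, 5, 1, 0, 2, 3, 2, 1, 0, 1, 2, 3, 2, 1, 5, 4, 0] (Cert.fail))),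
  (1, Cert.step [0, 1, 2, 6, 1, 5, 1, 6, 1, 0, 1, 6, 2, 0] (Cert.fail)),
  (1, Cert.step [0, 1, 0, 1, 2, 1, 3, 0, 1, 2, 0] (Cert.step [1, 2, 1, 4, 5, 1, 0, 1, 2, 3, 2, 3, 5, 1, 0, 1, 5, 1, 2, 3, 4, 3, 2] (Cert.step [3, 4, 3, 2, 1, 0, 3, 2, 3, 5, 1, 2, 4, 3, 2, 1, 5, 3, 2, 3, 0, 1, 2, 3, 4, 3] (Cert.done [3, 4, 3, 2, 1, 0, 3, 2, 3, 5, 1, 2, 4, 3, 2, 1, 5, 3, 2, 3, 0, 1, 2, 3, 4, 3, 1, 2, 1, 4, 5, 1, 0, 1, 2, 3, 2, 3, 5, 1, 0, 1, 5, 1, 2, 3, 4, 3, 2, 0, 1, 0, 1, 2, 1, 3, 0, 1, 2, 1, 6, 1, 2, 3, 4, 5, 1, 2, 3, 2, 1, 5, 4, 3, 2, 1, 6, 0, 6, 1, 0, 2, 1, 3, 2, 1, 3, 4, 3, 2, 3, 5, 1, 0])))),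
  (1, Cert.step [0, 1, 2, 3, 4, 5, 1, 2, 3, 2, 1, 5, 4, 1, 2] (Cert.step [0, 2, 3, 4, 5, 1, 0, 2, 3, 2, 1, 0, 2, 1, 5, 4, 3, 2, 3, 1, 2, 3, 4, 3, 0, 1] (Cert.fail))),
  (1, Cert.step [0, 1, 2, 3, 4, 5, 1, 2, 3, 2, 1, 5, 4, 1, 2] (Cert.step [1, 2, 4, 3, 2, 1, 0, 5, 1, 0, 4, 3, 1, 2, 3, 4, 1, 2, 0] (Cert.fail))),
  (1, Cert.step [0, 1, 3, 2, 3, 4, 5, 1, 5, 4, 2, 3, 2, 3, 1, 2] (Cert.step [1, 5, 1, 0, 1, 0, 2, 1, 3, 2, 4, 3, 5, 1, 0, 1, 5, 2, 3, 4, 1, 2, 3, 0, 1] (Cert.fail))),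
  (1, Cert.step [1, 0, 1, 0, 4, 5, 1, 5, 4, 2, 3, 1, 0] (Cert.fail)),
  (1, Cert.step [0, 2, 6, 1, 0, 2, 1, 0, 3, 2, 1, 5, 2, 3, 2, 1, 6, 2] (Cert.step [3, 2, 1, 0, 3, 5, 1, 0, 2, 3, 4, 3, 2, 1, 5, 0, 1, 2, 3] (Cert.fail))),
  (1, Cert.step [3, 2, 1, 3, 2, 3, 4, 5, 2, 0, 1, 5, 4, 2, 3, 0] (Cert.step [1, 0, 3, 2, 1, 4, 3, 2, 3, 2, 1, 4, 5, 2, 0, 1, 5, 2, 3, 0] (Cert.fail))),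
  (1, Cert.fail),
  (1, Cert.step [1, 0, 4, 5, 1, 2, 6, 5, 6, 3, 2, 0, 1, 5, 4, 2, 3, 2] (Cert.step [1, 0, 3, 2, 1, 4, 3, 2, 3, 2, 1, 4, 5, 2, 0, 1, 5, 2, 3, 0] (Cert.fail))),
  (1, Cert.step [0, 3, 2, 3, 4, 5, 1, 5, 4, 0, 1, 0, 1] (Cert.fail)),
  (1, Cert.fail),
  (1, Cert.step [0, 1, 3, 2, 1, 0, 1, 4, 5, 1, 5, 4, 2, 3, 2, 0, 1] (Cert.step [2, 3, 2, 4, 5, 1, 0, 1, 2, 3, 2, 1, 0, 1, 5, 4, 2, 3, 2, 1] (Cert.fail))),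
  (1, Cert.fail),
  (1, Cert.step [2, 1, 0, 1, 3, 4, 3, 2, 0, 1, 2, 3, 4, 2, 3, 2, 3] (Cert.step [3, 2, 4, 5, 1, 0, 1, 0, 2, 3, 4, 2, 1, 0, 1, 5, 1, 2, 3, 2, 3, 1, 0, 1] (Cert.fail))),
  (1, Cert.step [0, 3, 2, 6, 1, 0, 1, 0, 6, 1, 0, 1, 6, 2, 3, 2, 0, 1, 0] (Cert.fail)),
  (1, Cert.fail),
  (1, Cert.step [1, 0, 1, 3, 2, 4, 5, 1, 5, 4, 2, 3, 2, 0, 1] (Cert.step [0, 1, 4, 5, 1, 2, 3, 2, 4, 3, 2, 1, 5, 2, 3, 1, 2, 0, 1, 0, 1, 0] (Cert.fail))),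
  (1, Cert.step [0, 6, 1, 0, 2, 1, 0, 3, 2, 1, 5, 2, 3, 2, 1, 6] (Cert.step [0, 2, 3, 2, 1, 0, 4, 3, 2, 1, 0, 3, 2, 5, 3, 4, 1, 2, 3, 2, 1, 5, 3, 4, 3, 2] (Cert.fail))),
  (1, Cert.step [1, 6, 5, 1, 0, 2, 1, 0, 1, 3, 2, 0, 1, 5, 3, 2, 1, 6, 0] (Cert.step [1, 0, 2, 1, 0, 1, 4, 3, 2, 1, 5, 3, 4, 3, 2, 3, 2, 1, 0, 1, 5, 2] (Cert.fail))),
  (1, Cert.step [0, 3, 2, 3, 2, 3, 1, 0, 1] (Cert.step [5, 1, 0, 2, 3, 2, 1, 4, 3, 2, 5, 3, 2, 1, 0, 1, 5, 2, 3] (Cert.fail))),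
  (1, Cert.step [0, 1, 0, 3, 4, 5, 4, 2, 3, 2, 1, 0, 1, 5] (Cert.step [2, 3, 4, 2, 3, 0, 1, 2, 3, 4, 0, 1, 2, 3, 2, 0] (Cert.fail))),
  (1, Cert.step [0, 1, 3, 2, 1, 0, 1, 3, 0, 1, 2, 0, 1] (Cert.step [4, 3, 2, 1, 3, 2, 1, 5, 1, 2, 3, 4, 2, 3, 0, 1, 2, 3, 2, 1, 5, 4, 3, 1, 2] (Cert.fail))),
  (1, Cert.step [0, 3, 2, 4, 5, 1, 5, 4, 2, 3, 2, 3] (Cert.fail)),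
  (1, Cert.step [3, 2, 1, 3, 2, 4, 5, 1, 2, 0, 1, 5, 4, 2, 3, 0] (Cert.step [2, 3, 2, 1, 0, 4, 3, 2, 1, 3, 2, 4, 3, 5, 4, 2, 3, 1, 2, 3, 4, 3, 0, 1, 2, 3, 2] (Cert.fail))),
  (1, Cert.step [3, 2, 1, 3, 2, 3, 2, 3, 1, 2, 0] (Cert.step [1, 2, 3, 4, 5, 1, 0, 1, 0, 1, 2, 3, 2, 1, 5, 4, 0, 1, 2] (Cert.step [0, 2, 1, 0, 4, 3, 2, 3, 5, 1, 2, 4, 3, 2, 0, 1, 5, 2, 3, 4, 3, 0, 1, 2, 0] (Cert.done [0, 2, 1, 0, 4, 3, 2, 3, 5, 1, 2, 4, 3, 2, 0, 1, 5, 2, 3, 4, 3, 0, 1, 2, 0, 1, 2, 3, 4, 5, 1, 0, 1, 0, 1, 2, 3, 2, 1, 5, 4, 0, 1, 2, 3, 2, 1, 3, 2, 3, 2, 3, 1, 2, 0, 4, 6, 1, 2, 3, 2, 1, 3, 6, 5, 1, 2, 6, 1, 2, 0, 1, 6, 5, 1, 2, 3, 2, 1, 5, 1, 0, 2, 1, 3, 2, 1, 3, 4, 3, 2, 3, 5, 1, 0])))),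
  (1, Cert.step [1, 0, 1, 2, 3, 1] (Cert.step [1, 3, 4, 5, 1, 2, 3, 2, 1, 3, 4, 3, 0, 1, 2, 3, 2, 1, 5, 4, 0] (Cert.fail))),
  (1, Cert.step [1, 0, 1, 3, 2, 4, 5, 1, 5, 4, 3, 2, 3, 1, 0] (Cert.fail)),
  (1, Cert.step [0, 1, 0, 3, 2, 3, 1, 2, 0, 1] (Cert.step [2, 1, 3, 2, 3, 2, 1, 5, 0, 1, 0, 1, 2, 0, 1] (Cert.fail))),
  (1, Cert.fail),
  (1, Cert.step [1, 0, 4, 5, 1, 2, 6, 5, 6, 3, 0, 1, 2, 0, 1, 5, 4] (Cert.step [2, 3, 2, 4, 5, 1, 0, 1, 2, 3, 2, 1, 0, 1, 5, 4, 2, 3, 2, 1] (Cert.fail))),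
  (1, Cert.step [1, 0, 2, 1, 0, 4, 5, 1, 5, 4, 2, 3, 2, 3, 1] (Cert.step [3, 2, 4, 3, 2, 1, 0, 5, 1, 2, 3, 2, 1, 0, 4, 3, 2, 1, 0, 1, 5, 4] (Cert.fail))),
  (1, Cert.step [1, 0, 3, 2, 4, 5, 1, 5, 4, 2, 3, 2, 3, 1] (Cert.step [3, 2, 3, 2, 1, 4, 3, 2, 3, 5, 2, 1, 5, 4, 2, 3, 2, 1, 0, 1, 5] (Cert.fail))),
  (1, Cert.step [0, 1, 0, 3, 2, 3, 1, 0] (Cert.step [2, 1, 0, 4, 5, 1, 2, 3, 2, 1, 0, 1, 0, 1, 5, 4, 3, 2, 1] (Cert.fail))),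
  (1, Cert.step [1, 2, 3, 2, 1, 6, 1, 0, 1, 6, 0, 1, 0, 1, 6, 2, 3, 2, 0] (Cert.step [1, 2, 1, 0, 1, 0, 5, 1, 2, 3, 4, 1, 2, 3, 2, 1, 5, 4, 2, 3, 2] (Cert.fail))),
  (1, Cert.step [3, 2, 3, 5, 1, 2, 6, 1, 0, 5, 1, 0, 1, 6, 1, 2, 3, 1] (Cert.step [0, 2, 3, 4, 5, 1, 0, 2, 3, 2, 1, 0, 2, 1, 5, 4, 3, 2, 3, 1, 2, 3, 4, 3, 0, 1] (Cert.fail))),
  (1, Cert.step [3, 2, 4, 5, 1, 0, 2, 6, 5, 6, 3, 2, 1, 5, 4, 2, 0] (Cert.step [2, 3, 2, 1, 0, 4, 3, 2, 3, 4, 5, 1, 5, 0, 1, 2, 3, 2, 3, 4, 3, 1, 2, 0] (Cert.fail))),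
  (1, Cert.step [5, 1, 0, 1, 2, 3, 2, 4, 1, 5, 4, 0, 1, 0] (Cert.fail)),
  (1, Cert.step [0, 1, 0, 2, 3, 1, 2, 3] (Cert.step [2, 1, 0, 1, 3, 2, 1, 3, 5, 1, 0, 2, 1, 4, 3, 2, 3, 4, 3, 1, 2, 3, 0, 1] (Cert.fail))),
  (1, Cert.step [0, 2, 6, 1, 0, 2, 1, 0, 3, 2, 1, 5, 2, 3, 2, 1, 6] (Cert.fail)),
  (1, Cert.step [2, 1, 0, 1, 3, 4, 3, 2, 0, 1, 2, 3, 4, 2, 3, 2, 3] (Cert.step [2, 3, 2, 4, 5, 1, 0, 1, 2, 3, 2, 1, 0, 1, 5, 4, 2, 3, 2, 1] (Cert.fail))),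
  (1, Cert.step [0, 6, 1, 0, 2, 1, 0, 3, 2, 1, 5, 2, 3, 2, 1, 6, 1, 2] (Cert.step [1, 2, 3, 2, 1, 0, 5, 1, 0, 2, 3, 2, 1, 5, 4, 3, 0, 1, 2, 3, 2, 1, 5, 2, 1, 0] (Cert.step [1, 2, 3, 5, 1, 2, 3, 2, 1, 5, 4, 0, 1, 2, 3, 2, 1, 5, 3, 2, 1] (Cert.done [1, 2, 3, 5, 1, 2, 3, 2, 1, 5, 4, 0, 1, 2, 3, 2, 1, 5, 2, 1, 0, 5, 1, 0, 2, 3, 2, 1, 5, 4, 3, 0, 1, 2, 3, 2, 1, 5, 2, 1, 6, 1, 0, 2, 1, 0, 3, 2, 1, 5, 2, 3, 2, 1, 6, 1, 2, 4, 3, 6, 1, 2, 5, 1, 0, 1, 5, 2, 1, 6, 5, 6, 1, 0, 2, 1, 3, 2, 1, 3, 4, 3, 2, 3, 5, 1, 0])))),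
  (1, Cert.fail),
  (1, Cert.step [0, 1, 2, 1, 0, 1, 0, 2, 3, 2, 3] (Cert.fail)),
  (1, Cert.step [5, 1, 0, 1, 2, 3, 2, 4, 1, 5, 4, 0, 1, 0] (Cert.step [2, 3, 2, 4, 3, 5, 1, 2, 3, 2, 4, 3, 1, 5, 1, 2, 3, 0, 1, 2, 0, 1, 5, 4, 1, 2] (Cert.fail))),
  (1, Cert.step [0, 6, 1, 0, 1, 6, 1, 5, 1, 6, 3, 2, 1] (Cert.step [2, 1, 3, 5, 4, 1, 2, 3, 2, 1, 5, 4, 3, 2] (Cert.fail))),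
  (1, Cert.step [0, 2, 0] (Cert.step [2, 3, 2, 4, 3, 5, 1, 2, 3, 2, 1, 5, 4, 1, 2, 3, 2, 1, 5, 3, 4, 2, 3, 2] (Cert.fail))),
  (1, Cert.step [0, 1, 2, 4, 3, 2, 3, 6, 1, 0, 1, 6, 5, 1, 6, 4, 1, 2, 3, 2, 1, 5, 4, 2, 3, 0] (Cert.fail)),
  (1, Cert.step [1, 0, 3, 2, 4, 5, 1, 5, 4, 2, 3, 2, 3] (Cert.step [4, 3, 2, 3, 4, 5, 1, 0, 2, 3, 4, 1, 0, 1, 5, 2, 3, 4, 0, 1, 0, 1] (Cert.fail))),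
  (1, Cert.step [0, 3, 2, 6, 1, 0, 1, 0, 6, 1, 0, 1, 6, 2, 3, 0, 1, 2, 1, 0] (Cert.step [1, 2, 3, 4, 5, 1, 0, 2, 3, 2, 1, 0, 1, 2, 3, 2, 1, 5, 4, 0] (Cert.fail))),
  (1, Cert.step [0, 1, 2, 1, 0, 1, 0, 3, 2, 3, 1, 2, 3] (Cert.step [1, 0, 3, 2, 1, 0, 5, 1, 0, 1, 2, 1, 4, 3, 2, 3, 4, 3, 1, 2, 3, 1, 2, 0] (Cert.fail))),
  (1, Cert.step [0, 6, 1, 2, 3, 5, 1, 2, 3, 6, 0, 1, 5, 2, 1, 6, 1, 2, 3] (Cert.step [3, 2, 1, 3, 2, 3, 2, 1, 0, 4, 5, 1, 2, 3, 4, 2, 3, 1, 2, 1, 0, 1, 5, 3] (Cert.fail))),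
  (1, Cert.step [0, 6, 1, 0, 2, 1, 0, 3, 2, 1, 3, 2, 3, 2, 1, 0, 1, 6, 2, 3] (Cert.step [0, 2, 1, 3, 2, 3, 2, 1, 0, 4, 3, 1, 2, 3, 1, 2, 0, 1, 5, 4, 1, 2, 3, 0, 1] (Cert.fail))),
  (1, Cert.step [1, 0, 4, 5, 1, 2, 6, 5, 6, 3, 2, 0, 1, 5, 4, 2, 3] (Cert.step [2, 3, 2, 4, 5, 1, 0, 1, 2, 3, 2, 1, 0, 1, 5, 4, 2, 3, 2, 1] (Cert.fail))),
  (1, Cert.step [1, 6, 5, 1, 0, 2, 1, 0, 1, 3, 2, 0, 1, 5, 3, 2, 1, 6, 0] (Cert.step [3, 2, 4, 3, 2, 5, 1, 4, 2, 3, 2, 0, 1, 5, 4, 3, 2, 3, 4, 2, 3] (Cert.fail))),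
  (1, Cert.step [2, 1, 6, 5, 1, 0, 2, 1, 0, 1, 3, 2, 1, 5, 3, 2, 1, 6, 2, 0, 1] (Cert.step [3, 2, 3, 2, 5, 1, 0, 1, 0, 2, 5, 4, 3, 2, 1, 0, 1, 5, 4, 3, 0] (Cert.fail))),
  (1, Cert.step [0, 1, 3, 2, 4, 5, 1, 5, 4, 0, 1, 2, 0, 1] (Cert.step [1, 3, 4, 5, 1, 2, 3, 2, 1, 3, 4, 3, 0, 1, 2, 3, 2, 1, 5, 4, 0] (Cert.fail))),
  (1, Cert.step [0, 2, 1, 3, 2, 4, 5, 1, 5, 4, 2, 3, 2, 0] (Cert.step [2, 3, 2, 1, 4, 3, 2, 1, 3, 2, 1, 0, 5, 1, 4, 3, 2, 3, 0, 1, 2, 3, 0, 1, 2, 3, 4, 0] (Cert.fail))),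
  (1, Cert.step [1, 0, 4, 5, 1, 2, 6, 5, 6, 3, 4, 3, 2, 3, 2, 1, 5, 2, 0] (Cert.step [3, 2, 4, 3, 2, 5, 1, 4, 2, 3, 2, 0, 1, 5, 4, 3, 2, 3, 4, 2, 3] (Cert.fail))),
  (1, Cert.step [0, 3, 2, 6, 1, 0, 1, 0, 6, 1, 0, 1, 6, 2, 3, 0, 1, 2, 1, 0] (Cert.step [1, 0, 2, 1, 5, 3, 2, 1, 5, 2, 3, 2, 0, 1] (Cert.fail))),
  (1, Cert.step [3, 2, 1, 3, 2, 3, 4, 5, 2, 0, 1, 5, 4, 2, 3, 0] (Cert.step [3, 2, 3, 2, 5, 1, 0, 1, 2, 3, 2, 4, 3, 1, 5, 2, 1, 0, 1, 5, 1, 0] (Cert.fail))),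
  (1, Cert.fail),
  (1, Cert.step [0, 2, 6, 1, 0, 2, 1, 0, 3, 2, 1, 5, 2, 3, 2, 1, 6, 2] (Cert.step [3, 2, 3, 5, 1, 0, 1, 2, 1, 3, 2, 1, 4, 3, 2, 1, 5, 3, 1, 2, 3, 2, 1, 0, 1] (Cert.fail))),
  (1, Cert.step [0, 1, 0, 2, 3, 6, 1, 0, 1, 6, 1, 5, 1, 6, 1, 2, 1, 0, 1] (Cert.step [0, 2, 1, 5, 1, 2, 3, 2, 4, 3, 2, 3, 1, 0, 1, 5, 1, 2, 3] (Cert.fail))),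
  (1, Cert.step [0, 1, 3, 2, 3, 2, 3, 1, 2, 3] (Cert.step [2, 1, 0, 1, 2, 5, 1, 2, 3, 4, 3, 2, 3, 1, 2, 1, 0, 1, 5, 3, 2] (Cert.fail)))]),
  (67, Cert.bad 0),
  (1, Cert.rl [(1, Cert.step [1, 0, 5, 1, 2, 3, 2, 3, 4, 6, 5, 6, 3, 2, 1, 5, 4, 0, 1, 2] (Cert.step [3, 4, 3, 2, 3, 4, 6, 1, 0, 5, 1, 0, 1, 2, 6, 3, 1, 2, 1, 0, 1, 5, 2, 3, 4, 3, 2, 3] (Cert.fail))),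
  (1, Cert.fail),
  (1, Cert.step [1, 0, 6, 1, 2, 5, 1, 6, 5, 3, 2, 1, 5, 3, 2, 1, 6, 0, 1, 2] (Cert.step [2, 1, 0, 3, 2, 5, 1, 2, 3, 4, 2, 3, 2, 1, 5, 3, 0, 1, 2, 3, 4, 2, 3] (Cert.fail))),
  (1, Cert.step [0, 1, 2, 3, 4, 5, 1, 2, 3, 2, 1, 5, 4] (Cert.step [0, 2, 3, 2, 1, 0, 4, 3, 2, 1, 0, 3, 2, 5, 3, 4, 3, 1, 2, 3, 2, 1, 5, 4, 1, 2] (Cert.fail))),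
  (1, Cert.fail),
  (1, Cert.step [0, 1, 0, 4, 5, 1, 0, 2, 1, 5, 4, 2, 3, 2, 0, 1] (Cert.step [0, 3, 5, 1, 0, 2, 3, 4, 1, 2, 3, 2, 1, 0, 1, 5, 4, 2, 3, 1] (Cert.fail))),
  (1, Cert.fail),
  (1, Cert.step [3, 2, 1, 0] (Cert.step [1, 2, 1, 0, 3, 2, 1, 4, 3, 2, 3, 4, 1, 0, 1, 2, 0, 1] (Cert.fail))),
  (1, Cert.step [1, 0, 2, 4, 5, 1, 2, 3, 2, 1, 5, 4, 3, 2, 0, 1, 0] (Cert.fail)),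
  (1, Cert.fail),
  (1, Cert.step [1, 3, 2, 3, 2, 4, 5, 1, 5, 4, 0, 1, 2, 0, 1] (Cert.step [4, 5, 1, 0, 2, 3, 2, 1, 5, 4, 3, 1, 0, 1, 2, 3, 1, 2, 1] (Cert.fail))),
  (1, Cert.step [0, 6, 1, 0, 2, 1, 0, 3, 2, 1, 5, 2, 3, 2, 1, 6, 1, 2] (Cert.step [4, 3, 2, 1, 3, 0, 1, 2, 0, 1, 5, 2, 3, 1, 2, 3, 4, 2] (Cert.fail))),
  (1, Cert.fail),
  (1, Cert.step [5, 1, 0, 1, 0, 2, 3, 4, 5, 4, 2, 3, 1, 0] (Cert.step [1, 3, 2, 4, 3, 2, 1, 0, 3, 2, 4, 3, 2, 1, 5, 1, 2, 3, 4, 3, 1, 2, 1] (Cert.step [0, 1, 2, 1, 0, 1, 3, 2, 4, 5, 1, 2, 3, 4, 2, 1, 5, 3, 0, 1, 2, 3, 2, 1, 0, 1, 2, 3] (Cert.done [0, 1, 2, 1, 0, 1, 3, 2, 4, 5, 1, 2, 3, 4, 2, 1, 5, 3, 0, 1, 2, 3, 2, 1, 0, 1, 2, 3, 1, 3, 2, 4, 3, 2, 1, 0,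 3, 2, 4, 3, 2, 1, 5, 1, 2, 3, 4, 3, 1, 2, 1, 5, 1, 0, 1, 0, 2, 3, 4, 5, 4, 2, 3, 1, 5, 4, 6, 1, 0, 2, 1, 3, 2, 4, 3, 2, 1, 6, 5, 1, 2, 3])))),
  (1, Cert.step [0, 1, 3, 2, 1, 0, 1, 3, 2, 3, 0] (Cert.step [4, 5, 1, 0, 2, 3, 2, 1, 5, 2, 3, 1, 2, 0, 1, 0, 1, 2, 3, 4] (Cert.fail))),
  (1, Cert.step [0, 1, 0, 4, 5, 1, 0, 2, 1, 5, 4, 2, 3, 2, 0, 1] (Cert.step [0, 2, 3, 5, 1, 0, 2, 1, 3, 2, 3, 5, 4, 2, 3, 2, 3, 1, 2, 0, 1, 5, 2, 0] (Cert.fail))),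
  (1, Cert.step [1, 2, 1] (Cert.fail)),
  (1, Cert.step [3, 2, 1, 3, 2, 3, 4, 5, 1, 5, 4, 2, 3, 1, 2, 3] (Cert.fail)),
  (1, Cert.step [0, 1, 6, 1, 0, 1, 2, 3, 2, 3, 1, 2, 3, 0, 1, 2, 0, 1, 6, 0] (Cert.fail)),
  (1, Cert.step [1, 0, 1, 0, 3, 2, 3, 1, 0] (Cert.step [1, 0, 3, 2, 1, 0, 5, 1, 0, 1, 2, 1, 4, 3, 2, 3, 4, 3, 1, 2, 3, 1, 2, 0] (Cert.fail))),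
  (1, Cert.step [1, 0, 1, 0, 3, 2, 3, 1, 0] (Cert.step [0, 4, 5, 1, 0, 2, 1, 3, 2, 1, 3, 4, 2, 3, 2, 1, 5, 3, 4, 2, 3, 2] (Cert.fail))),
  (1, Cert.step [0, 3, 2, 3, 2, 1, 0, 1, 2, 1, 0] (Cert.step [1, 0, 3, 2, 1, 3, 4, 3, 2, 3, 4, 1, 2, 0, 1, 5, 3, 1, 2, 3, 1, 0, 1, 2] (Cert.fail))),
  (1, Cert.step [2, 1, 4, 6, 1, 2, 3, 5, 1, 6, 2, 1, 5, 3, 2, 1, 6, 4] (Cert.step [1, 0, 2, 1, 0, 1, 0, 5, 1, 2, 3, 2, 3, 1, 2] (Cert.fail))),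
  (1, Cert.step [0, 1, 3, 2, 4, 5, 1, 5, 4, 2, 3, 0] (Cert.step [3, 2, 3, 2, 5, 1, 0, 1, 2, 3, 2, 4, 3, 1, 5, 2, 1, 0, 1, 5, 1, 0] (Cert.fail))),
  (1, Cert.step [1, 0, 4, 5, 1, 2, 6, 5, 6, 3, 4, 3, 2, 3, 2, 1, 5, 2, 0] (Cert.step [0, 1, 0, 5, 1, 0, 2, 1, 0, 3, 2, 5, 4, 3, 1, 2, 3, 4, 3, 0, 1, 2, 3, 0] (Cert.fail))),
  (1, Cert.step [0, 1, 4, 3, 2, 5, 6, 1, 0, 5, 1, 0, 1, 6, 3, 2, 3, 4, 3, 1, 2, 1] (Cert.fail)),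
  (1, Cert.fail),
  (1, Cert.step [0, 1, 0, 3, 4, 5, 1, 5, 4, 2, 3, 0] (Cert.step [0, 2, 5, 1, 0, 2, 1, 3, 2, 3, 2, 4, 1, 5, 1, 0, 1, 2, 3, 2, 1, 5, 2, 0] (Cert.fail))),
  (1, Cert.step [1, 0, 4, 5, 1, 2, 6, 5, 6, 3, 0, 1, 2, 0, 1, 5, 4, 2] (Cert.step [3, 2, 5, 1, 0, 1, 2, 3, 2, 1, 0, 3, 4, 1, 2, 3, 2, 1, 5, 3, 1] (Cert.fail))),
  (1, Cert.step [1, 0, 4, 5, 1, 2, 3, 6, 5, 6, 4, 3, 2, 3, 2, 1, 5, 0, 1] (Cert.step [0, 2, 4, 3, 5, 1, 0, 1, 2, 3, 2, 5, 4, 3, 1, 2, 3, 2, 1, 5, 2, 3, 4, 2, 0] (Cert.fail))),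
  (1, Cert.step [3, 2, 3, 2, 4, 5, 1, 5, 4, 2, 3, 1, 2, 3] (Cert.fail)),
  (1, Cert.step [1, 0, 1, 0, 4, 5, 1, 5, 4, 2, 3, 2, 3] (Cert.step [1, 4, 3, 5, 1, 2, 3, 2, 1, 0, 1, 2, 4, 3, 2, 1, 0, 1, 5, 3, 4, 3, 2, 0] (Cert.fail))),
  (1, Cert.step [5, 1, 0, 1, 2, 3, 2, 4, 1, 5, 4, 2, 3, 0] (Cert.step [0, 2, 5, 1, 0, 2, 1, 3, 2, 3, 2, 4, 5, 3, 2, 3, 1, 2, 0, 1, 5, 3, 2, 0] (Cert.fail))),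
  (1, Cert.step [1, 0, 2, 1, 3, 2, 1, 0, 1, 2, 3, 1, 0] (Cert.step [0, 3, 2, 5, 1, 0, 2, 5, 4, 1, 2, 3, 2, 3, 4, 1, 2, 3, 0, 1] (Cert.fail))),
  (1, Cert.step [3, 2, 1, 6, 1, 0, 5, 1, 0, 1, 6, 5, 3, 2, 3] (Cert.step [0, 3, 4, 5, 1, 0, 1, 2, 3, 4, 5, 2, 0, 1, 0, 1, 5, 2, 3, 2, 3] (Cert.fail))),
  (1, Cert.step [3, 2, 1, 2, 0] (Cert.fail)),
  (1, Cert.step [3, 2, 3, 2, 4, 5, 1, 5, 4, 0, 1, 2, 0, 1] (Cert.step [2, 3, 2, 3, 4, 3, 5, 1, 0, 2, 1, 3, 4, 5, 2, 0, 1, 0, 1, 5, 2, 3, 4] (Cert.step [3, 2, 1, 0, 1, 2, 3, 2, 1, 0, 3, 5, 1, 2, 4, 3, 2, 1, 5, 4, 2, 3, 1, 0, 1, 2, 1, 0] (Cert.done [3, 2, 1, 0, 1, 2, 3, 2, 1, 0, 3, 5, 1, 2, 4, 3, 2, 1, 5, 4, 2, 3, 1, 0, 1, 2, 1, 0, 2, 3, 2, 3, 4, 3,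 5, 1, 0, 2, 1, 3, 4, 5, 2, 0, 1, 0, 1, 5, 2, 3, 4, 3, 2, 3, 2, 4, 5, 1, 5, 4, 0, 1, 2, 0, 1, 0, 5, 1, 2, 6, 1, 0, 2, 1, 3, 2, 4, 3, 2, 1, 6, 5, 1, 2, 3])))),
  (1, Cert.fail),
  (1, Cert.step [0, 1, 0, 1, 2, 1, 2, 3, 2, 3, 1, 2] (Cert.step [3, 2, 1, 3, 4, 5, 1, 0, 1, 2, 5, 3, 4, 2, 3, 2, 1, 0, 1, 5, 0, 1, 2] (Cert.fail))),
  (1, Cert.step [0, 1, 0, 1, 2, 1, 3, 2, 3, 0, 1, 2] (Cert.fail)),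
  (1, Cert.step [0, 2, 0] (Cert.step [0, 1, 0, 3, 2, 1, 5, 1, 2, 3, 2, 1, 0, 3, 5, 4, 3, 1, 2, 0, 1, 5, 3, 2] (Cert.fail))),
  (1, Cert.step [3, 2, 1, 3, 2, 3, 2, 3, 1, 0] (Cert.fail)),
  (1, Cert.step [0, 2, 6, 1, 0, 2, 1, 0, 3, 2, 1, 5, 2, 3, 2, 1, 6, 1] (Cert.step [0, 4, 5, 1, 0, 2, 3, 2, 4, 3, 1, 2, 3, 4, 2, 3, 1, 2, 0, 1, 5, 1, 2] (Cert.fail))),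
  (1, Cert.step [1, 0, 4, 5, 1, 2, 6, 5, 6, 3, 2, 0, 1, 5, 4, 2, 3, 2] (Cert.step [2, 1, 0, 1, 2, 5, 1, 2, 3, 4, 3, 2, 1, 5, 3, 1, 2, 1] (Cert.fail))),
  (1, Cert.fail),
  (1, Cert.step [0, 1, 0, 3, 2, 3, 1, 0, 1] (Cert.step [1, 3, 5, 1, 2, 3, 2, 1, 4, 3, 0, 1, 2, 3, 2, 1, 0, 1, 5, 2, 3] (Cert.fail))),
  (1, Cert.step [0, 1, 4, 3, 2, 5, 6, 1, 0, 5, 1, 0, 1, 6, 3, 2, 3, 4, 3, 2] (Cert.step [2, 1, 0, 1, 5, 2, 3, 4, 1, 2, 3, 2, 0, 1, 5, 4, 3] (Cert.fail))),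
  (1, Cert.step [0, 6, 1, 2, 5, 1, 0, 1, 5, 2, 1, 6, 0] (Cert.fail)),
  (1, Cert.step [5, 1, 0, 1, 2, 3, 2, 4, 1, 5, 4, 2, 3, 2, 0] (Cert.step [0, 1, 0, 2, 1, 4, 3, 2, 3, 2, 1, 4, 0, 1, 2, 3, 0, 1, 2, 3, 4, 1] (Cert.fail))),
  (1, Cert.step [0, 1, 3, 2, 1, 0, 1, 4, 5, 1, 5, 4, 2, 3, 1, 2, 3] (Cert.fail)),
  (1, Cert.fail),
  (1, Cert.step [0, 1, 0, 3, 2, 3, 2, 3, 1] (Cert.step [0, 5, 1, 0, 2, 1, 5, 2, 3, 1, 2, 1, 0, 1, 5, 0] (Cert.fail))),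
  (1, Cert.step [1, 0, 2, 6, 1, 0, 1, 6, 1, 5, 1, 6, 3, 1] (Cert.step [0, 4, 5, 1, 0, 2, 3, 2, 4, 3, 1, 2, 3, 4, 2, 3, 1, 2, 0, 1, 5, 1, 2] (Cert.fail))),
  (1, Cert.fail),
  (1, Cert.step [0, 1, 4, 3, 5, 1, 0, 1, 2, 3, 2, 1, 0, 1, 5, 3, 4, 3, 1, 2, 0, 1] (Cert.step [4, 3, 2, 1, 3, 0, 1, 2, 0, 1, 5, 2, 3, 1, 2, 3, 4, 2] (Cert.fail))),
  (1, Cert.step [0, 2, 1, 0, 3, 2, 3, 2, 3] (Cert.step [1, 0, 2, 1, 3, 4, 5, 1, 0, 1, 2, 1, 0, 3, 2, 1, 5, 4, 0, 1, 2] (Cert.fail))),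
  (1, Cert.step [1, 0, 1, 2, 3] (Cert.step [0, 1, 0, 1, 2, 1, 0, 3, 2, 1, 5, 1, 2, 4, 3, 0, 1, 2, 0, 1, 5, 4, 3] (Cert.fail))),
  (1, Cert.fail),
  (1, Cert.step [0, 1, 0, 4, 5, 1, 0, 2, 1, 5, 4, 2, 3, 2, 0, 1] (Cert.step [4, 3, 2, 3, 5, 1, 0, 2, 1, 0, 3, 2, 1, 5, 3, 4, 3, 2, 3, 1, 2, 3, 4, 3, 1, 0, 1] (Cert.fail))),
  (1, Cert.step [0, 1, 2, 4, 3, 2, 3, 6, 1, 0, 1, 5, 0, 1, 6, 5, 2, 3, 4, 2, 3, 2] (Cert.step [0, 1, 4, 5, 1, 2, 3, 2, 4, 3, 2, 1, 5, 2, 3, 1, 2, 0, 1, 0, 1, 0] (Cert.fail))),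
  (1, Cert.step [3, 2, 3, 4, 3, 5, 1, 0, 1, 3, 2, 3, 1, 2, 0, 1, 5, 4, 2, 0] (Cert.step [0, 5, 1, 0, 1, 2, 1, 0, 3, 2, 1, 4, 3, 2, 0, 1, 5, 4, 0] (Cert.fail))),
  (1, Cert.step [3, 2, 1, 2, 0] (Cert.fail)),
  (1, Cert.step [0, 1, 3, 2, 3, 4, 5, 1, 5, 4, 2, 3, 1, 2, 0] (Cert.fail)),
  (1, Cert.step [3, 2, 1, 2, 0, 1] (Cert.fail)),
  (1, Cert.step [1, 0, 4, 5, 1, 2, 3, 6, 5, 6, 4, 2, 3, 2, 1, 0, 1, 5, 0] (Cert.step [0, 2, 3, 4, 5, 1, 0, 2, 3, 2, 1, 0, 2, 1, 5, 4, 3, 2, 3, 1, 2, 3, 4, 3, 0, 1] (Cert.fail))),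
  (2, Cert.fail),
  (1, Cert.step [3, 2, 1, 0, 1] (Cert.fail)),
  (1, Cert.step [1, 3, 2, 3, 2, 1, 0, 1, 2, 3, 1, 0] (Cert.step [1, 2, 1, 4, 5, 1, 0, 1, 2, 3, 2, 3, 5, 4, 3, 1, 2, 3, 1, 0, 1, 2, 3, 4, 0] (Cert.fail))),
  (1, Cert.step [0, 3, 2, 3, 2, 3, 1, 0, 1] (Cert.step [4, 3, 2, 3, 2, 1, 0, 4, 1, 2, 3, 1, 2, 3, 4, 3, 1, 0, 1] (Cert.fail))),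
  (1, Cert.step [0, 6, 1, 0, 1, 6, 1, 5, 1, 6, 3] (Cert.fail)),
  (1, Cert.step [0, 1, 2, 6, 1, 5, 1, 6, 1, 0, 1, 6, 3, 0, 1, 2, 1, 0] (Cert.step [4, 5, 1, 0, 2, 3, 2, 1, 5, 4, 3, 1, 0, 1, 2, 3, 1, 2, 1] (Cert.fail))),
  (1, Cert.step [3, 6, 1, 2, 5, 1, 2, 6, 1, 0, 1, 2, 0, 1, 6, 3, 0, 1] (Cert.fail)),
  (1, Cert.step [1, 0, 3, 2, 3, 2, 3, 1, 0] (Cert.step [2, 3, 2, 4, 5, 1, 2, 3, 2, 1, 4, 3, 2, 1, 5, 0, 1, 0, 1, 2, 1] (Cert.fail))),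
  (1, Cert.fail),
  (1, Cert.step [3, 2, 3, 5, 1, 2, 6, 1, 0, 5, 1, 0, 1, 6, 1, 2, 3, 2, 1] (Cert.step [1, 0, 1, 3, 2, 3, 4, 3, 2, 5, 3, 1, 2, 0, 1, 5, 4, 2, 3, 2, 3, 4, 3, 2] (Cert.fail))),
  (1, Cert.step [1, 6, 5, 1, 0, 2, 1, 0, 1, 3, 2, 0, 1, 5, 3, 2, 1, 6, 0] (Cert.step [1, 0, 2, 1, 0, 1, 4, 3, 2, 3, 4, 1, 2, 3, 0, 1, 2, 1] (Cert.fail))),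
  (1, Cert.step [0, 2, 1, 3, 2, 3, 2, 3, 1, 2, 3] (Cert.step [1, 3, 4, 5, 1, 0, 2, 3, 4, 2, 3, 1, 2, 0, 1, 5, 2, 3, 2, 3, 1, 2] (Cert.fail))),
  (1, Cert.step [0, 1, 0, 4, 5, 1, 5, 4, 2, 3, 2, 3] (Cert.fail)),
  (2, Cert.fail),
  (1, Cert.step [0, 1, 2, 6, 1, 5, 1, 6, 1, 0, 1, 6, 3, 2, 0, 1, 0] (Cert.step [1, 0, 3, 2, 1, 4, 3, 2, 3, 2, 1, 4, 5, 2, 0, 1, 5, 2, 3, 0] (Cert.fail))),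
  (1, Cert.step [0, 6, 1, 2, 5, 1, 6, 5, 6, 1, 5, 2, 1, 6, 0] (Cert.step [0, 2, 4, 3, 5, 1, 0, 1, 2, 3, 2, 5, 4, 3, 1, 2, 3, 2, 1, 5, 2, 3, 4, 2, 0] (Cert.fail))),
  (1, Cert.step [0, 1, 3, 2, 1, 0, 1, 2, 3, 2, 3] (Cert.fail)),
  (1, Cert.step [1, 0, 4, 5, 1, 2, 6, 5, 6, 3, 0, 1, 2, 0, 1, 5, 4, 2] (Cert.step [0, 2, 3, 5, 1, 0, 1, 0, 2, 3, 5, 1, 4, 3, 2, 1, 5, 3, 1, 2, 1] (Cert.fail))),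
  (1, Cert.step [1, 0, 6, 1, 2, 5, 1, 6, 3, 2, 1, 5, 3, 2, 1, 6, 0, 1, 2] (Cert.step [2, 1, 0, 3, 2, 5, 1, 2, 3, 4, 2, 3, 2, 1, 5, 3, 0, 1, 2, 3, 4, 2, 3] (Cert.step [0, 1, 2, 1, 0, 1, 3, 2, 4, 5, 1, 2, 3, 4, 2, 1, 5, 3, 0, 1, 2, 3, 2, 1, 0, 1, 2, 3] (Cert.done [0, 1, 2, 1, 0, 1, 3, 2, 4, 5, 1, 2, 3, 4, 2, 1, 5, 3, 0, 1, 2, 3, 2, 1, 0, 1, 2, 3, 2, 1, 0, 3, 2, 5, 1, 2, 3, 4, 2, 3, 2, 1, 5, 3, 0, 1, 2, 3, 4, 2, 3, 1, 0, 6, 1, 2, 5, 1, 6, 3, 2, 1, 5, 3, 2, 1, 6, 0, 1, 2, 0, 1, 3, 4, 0, 6, 1, 0, 2, 1, 3, 2, 4, 3, 2, 1, 6, 5, 1, 2, 3])))),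
  (1, Cert.step [1, 0, 1, 2, 3, 1] (Cert.step [4, 3, 2, 1, 3, 0, 1, 2, 0, 1, 5, 2, 3, 1, 2, 3, 4, 2] (Cert.fail))),
  (1, Cert.step [1, 0, 4, 5, 1, 2, 6, 5, 6, 3, 2, 0, 1, 5, 4, 2, 3, 2] (Cert.step [0, 2, 4, 3, 5, 1, 0, 1, 2, 3, 2, 5, 4, 3, 1, 2, 3, 2, 1, 5, 2, 3, 4, 2, 0] (Cert.fail))),
  (1, Cert.step [0, 1, 0, 4, 5, 1, 5, 4, 2, 3, 1, 2, 0] (Cert.fail)),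
  (1, Cert.step [2, 1, 3, 2, 3, 2, 4, 5, 1, 5, 4, 3, 2, 3, 1, 0] (Cert.fail)),
  (1, Cert.step [0, 1, 0, 1, 2, 1, 3, 2, 3, 0, 1, 2] (Cert.fail)),
  (2, Cert.fail),
  (1, Cert.step [1, 0, 1, 0, 3, 2, 3, 1, 0, 1] (Cert.step [0, 5, 1, 0, 1, 2, 1, 3, 2, 4, 3, 2, 5, 1, 0, 1, 5, 4, 3, 2, 3, 1, 2] (Cert.fail))),
  (1, Cert.fail),
  (1, Cert.step [0, 3, 2, 3, 2, 3, 1, 2, 0, 1] (Cert.step [2, 1, 3, 2, 3, 4, 5, 1, 0, 1, 2, 3, 2, 0, 1, 0, 1, 5, 4, 2, 3, 1, 2] (Cert.fail))),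
  (1, Cert.fail),
  (1, Cert.step [0, 6, 1, 2, 5, 1, 6, 3, 2, 1, 5, 3, 2, 1, 6, 0] (Cert.fail)),
  (1, Cert.step [1, 3, 2, 4, 5, 1, 0, 2, 3, 4, 2, 3, 2, 1, 0, 1, 5, 0] (Cert.step [1, 0, 2, 1, 0, 1, 0, 5, 1, 2, 3, 2, 3, 1, 2] (Cert.fail))),
  (1, Cert.step [1, 3, 2, 3, 2, 4, 3, 2, 5, 1, 2, 1, 5, 1, 2, 3, 4, 2, 3, 0] (Cert.step [4, 5, 1, 0, 2, 3, 2, 1, 5, 4, 3, 1, 0, 1, 2, 3, 1, 2, 1] (Cert.fail))),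
  (1, Cert.step [3, 2, 3, 2, 4, 5, 1, 5, 4, 0, 1, 2, 0, 1] (Cert.step [0, 3, 2, 1, 3, 2, 4, 3, 2, 5, 1, 0, 1, 3, 4, 2, 3, 2, 3, 1, 0, 1] (Cert.fail))),
  (1, Cert.step [3, 2, 4, 5, 1, 0, 2, 6, 5, 6, 3, 2, 1, 5, 4, 2, 0, 1] (Cert.step [2, 1, 0, 1, 5, 2, 3, 4, 1, 2, 3, 2, 0, 1, 5, 4, 3] (Cert.fail))),
  (1, Cert.step [1, 0, 2, 1, 0, 4, 5, 1, 5, 4, 2, 3, 1, 2, 0] (Cert.step [1, 3, 4, 5, 1, 2, 3, 2, 1, 3, 4, 3, 0, 1, 2, 3, 2, 1, 5, 4, 0] (Cert.fail))),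
  (1, Cert.fail),
  (1, Cert.step [0, 2, 6, 1, 0, 2, 1, 0, 3, 2, 1, 5, 2, 3, 2, 1, 6, 2] (Cert.fail)),
  (1, Cert.step [3, 2, 3, 2, 4, 5, 1, 5, 4, 0, 1, 2, 0] (Cert.step [2, 3, 2, 4, 3, 5, 1, 2, 3, 2, 4, 3, 1, 5, 1, 2, 3, 0, 1, 2, 0, 1, 5, 4, 1, 2] (Cert.fail))),
  (1, Cert.step [0, 1, 3, 2, 1, 0, 1, 2, 3, 2, 3] (Cert.step [2, 3, 4, 3, 2, 3, 2, 4, 5, 1, 0, 2, 1, 3, 5, 2, 3, 4, 3, 2, 3, 1, 0, 1] (Cert.fail))),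
  (1, Cert.step [3, 2, 3, 2, 4, 5, 1, 5, 4, 0, 1, 0] (Cert.step [1, 0, 2, 1, 0, 1, 4, 3, 2, 1, 5, 3, 4, 3, 2, 3, 2, 1, 0, 1, 5, 2] (Cert.fail))),
  (1, Cert.step [1, 0, 1, 2, 3, 1] (Cert.step [1, 5, 1, 2, 3, 4, 3, 2, 1, 5, 2, 1] (Cert.fail))),
  (1, Cert.step [3, 2, 3, 2, 4, 5, 1, 2, 0, 1, 0, 1, 5, 4] (Cert.step [0, 4, 5, 1, 2, 3, 2, 1, 0, 3, 4, 3, 1, 2, 3, 2, 1, 5, 4, 3, 1] (Cert.fail))),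
  (1, Cert.fail),
  (1, Cert.step [1] (Cert.step [0, 3, 4, 5, 1, 0, 1, 2, 3, 4, 5, 2, 0, 1, 0, 1, 5, 2, 3, 2, 3] (Cert.fail))),
  (1, Cert.step [0, 1, 3, 2, 1, 0, 1, 3, 2, 3, 0, 1, 2] (Cert.step [2, 1, 3, 4, 5, 1, 2, 3, 2, 1, 0, 3, 2, 4, 3, 2, 1, 5, 1, 2, 3, 1, 2, 3, 4] (Cert.fail))),
  (1, Cert.step [3, 2, 3, 4, 3, 5, 1, 0, 1, 3, 2, 3, 1, 2, 0, 1, 5, 4, 2, 0] (Cert.fail)),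
  (1, Cert.step [0, 3, 2, 3, 4, 5, 1, 5, 4, 0, 1, 2, 0] (Cert.step [0, 4, 3, 2, 1, 0, 1, 2, 3, 2, 5, 1, 4, 3, 2, 1, 5, 3, 4, 3, 2] (Cert.fail))),
  (1, Cert.fail),
  (1, Cert.step [0, 1, 3, 2, 4, 5, 1, 5, 4, 0, 1, 2, 0] (Cert.fail)),
  (1, Cert.step [0, 3, 2, 3, 2, 3, 1, 2, 0, 1] (Cert.step [3, 2, 5, 1, 0, 1, 2, 3, 5, 2, 3, 4, 1, 2, 3, 2, 0, 1, 5] (Cert.fail))),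
  (1, Cert.step [0, 1, 3, 2, 4, 5, 1, 5, 4, 3, 2, 3, 1, 0] (Cert.step [1, 2, 1, 3, 4, 3, 2, 1, 5, 1, 2, 3, 4, 2, 3, 0, 1, 2, 3, 4, 2, 3, 1] (Cert.fail))),
  (1, Cert.step [1, 0, 2, 4, 5, 1, 2, 6, 5, 6, 5, 3, 2, 1, 0, 1, 5, 4, 3, 0] (Cert.step [2, 1, 3, 5, 4, 1, 2, 3, 2, 1, 5, 4, 3, 2] (Cert.fail))),
  (1, Cert.step [3, 2, 3, 5, 1, 2, 6, 1, 0, 5, 1, 0, 1, 6, 1, 2, 3, 1, 2] (Cert.step [0, 4, 3, 2, 1, 0, 1, 2, 3, 2, 5, 1, 4, 3, 2, 0, 1, 5, 3, 4, 1, 2] (Cert.fail))),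
  (1, Cert.step [2, 1, 6, 5, 1, 0, 2, 1, 0, 1, 3, 2, 1, 5, 3, 2, 1, 6, 0] (Cert.step [0, 1, 5, 1, 0, 1, 2, 5, 1, 3, 4, 2, 3, 2, 1, 0, 1, 5, 2, 3, 2, 3] (Cert.step [1, 2, 3, 5, 1, 2, 3, 2, 1, 5, 4, 0, 1, 2, 3, 2, 1, 5, 3, 2, 1] (Cert.done [1, 2, 3, 5, 1, 2, 3, 2, 1, 5, 4, 0, 1, 2, 3, 2, 1, 5, 3, 2, 1, 0, 1, 5, 1, 0, 1, 2, 5, 1, 3, 4, 2, 3, 2, 1, 0, 1, 5, 2, 3, 2, 3, 2, 1, 6, 5, 1, 0, 2, 1, 0, 1, 3, 2, 1, 5, 2, 1, 4, 3, 2, 6, 1, 0, 1, 6, 2, 3, 4, 1, 2, 3, 2, 1, 5, 1, 0, 2, 1, 3, 2, 4, 3, 2, 1, 6, 5, 1, 2, 3])))),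
  (1, Cert.step [1, 0, 3, 2, 3, 4, 5, 1, 5, 4, 2, 3, 0] (Cert.step [3, 2, 1, 4, 3, 2, 1, 3, 2, 1, 5, 0, 1, 2, 3, 2, 3, 4, 1, 2, 3] (Cert.fail))),
  (1, Cert.step [0, 1, 0, 1, 2, 1, 2, 3, 2, 3, 1, 2] (Cert.step [1, 4, 3, 2, 3, 5, 1, 0, 1, 2, 3, 2, 1, 5, 4, 0, 1, 2, 3, 0, 1, 2, 3, 4, 1] (Cert.fail))),
  (1, Cert.step [0, 1, 0, 1, 2, 1, 3, 0, 1, 2, 0] (Cert.step [0, 1, 3, 2, 1, 3, 5, 1, 0, 1, 2, 3, 0, 1, 2, 0, 1, 0, 1] (Cert.fail))),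
  (1, Cert.step [1, 3, 2, 3, 2, 4, 3, 2, 5, 1, 2, 1, 5, 1, 2, 3, 4, 2, 3, 0] (Cert.step [1, 2, 3, 2, 4, 3, 2, 1, 0, 1, 3, 2, 5, 0, 1, 2, 3, 4, 3, 2] (Cert.fail))),
  (1, Cert.step [1, 0, 1, 0, 3, 2, 3, 1, 0, 1, 2] (Cert.step [2, 1, 3, 4, 5, 1, 2, 3, 2, 1, 0, 3, 2, 4, 3, 2, 1, 5, 1, 2, 3, 1, 2, 3, 4] (Cert.fail))),
  (1, Cert.step [1, 0, 1, 0, 3, 2, 3, 1, 0, 1] (Cert.fail)),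
  (1, Cert.step [0, 1, 0, 3, 2, 3, 2, 3, 1] (Cert.step [0, 2, 3, 5, 1, 0, 2, 1, 3, 2, 3, 5, 4, 2, 3, 2, 3, 1, 2, 0, 1, 5, 2, 0] (Cert.fail))),
  (1, Cert.fail),
  (1, Cert.step [0, 1, 0, 4, 5, 1, 0, 2, 1, 5, 4, 2, 3, 2, 0] (Cert.step [3, 5, 1, 0, 2, 1, 0, 1, 5, 3, 4, 1, 2, 3, 2, 0, 1, 5, 2, 3, 1, 2] (Cert.fail))),
  (1, Cert.step [1, 0, 4, 5, 1, 2, 6, 5, 6, 3, 0, 1, 2, 0, 1, 5, 4] (Cert.step [0, 2, 3, 4, 5, 1, 0, 1, 2, 1, 0, 3, 2, 1, 5, 4, 3, 2, 0, 1, 0, 1, 5, 2, 3, 2, 0] (Cert.fail))),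
  (1, Cert.fail),
  (1, Cert.step [1, 0, 2, 1, 0, 4, 5, 1, 5, 4, 2, 3, 2, 3, 1] (Cert.step [3, 2, 5, 1, 0, 1, 2, 3, 2, 1, 0, 3, 4, 1, 2, 3, 2, 1, 5, 3, 1] (Cert.fail))),
  (1, Cert.step [0, 1, 2, 1, 0, 1, 0, 3, 2, 3, 1, 2, 3] (Cert.step [1, 2, 4, 5, 1, 2, 3, 2, 4, 3, 2, 1, 0, 1, 2, 3, 4, 3, 2, 3, 1, 2, 3, 2, 1, 5, 0] (Cert.fail))),
  (2, Cert.fail),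
  (1, Cert.step [0, 3, 2, 3, 4, 5, 1, 5, 4, 0, 1, 2, 0] (Cert.step [4, 3, 2, 1, 3, 5, 4, 1, 0, 1, 2, 3, 2, 3, 4, 3, 1, 0, 1] (Cert.fail))),
  (1, Cert.step [2, 1, 0, 1, 2, 3] (Cert.step [0, 1, 0, 1, 2, 1, 0, 3, 2, 1, 5, 1, 2, 4, 3, 0, 1, 2, 0, 1, 5, 4, 3] (Cert.fail))),
  (1, Cert.step [1, 0, 3, 2, 3, 1, 2, 0, 1, 0, 1, 0] (Cert.fail)),
  (1, Cert.step [0, 1, 3, 2, 3, 4, 5, 1, 5, 4, 2, 3, 2, 3, 1, 2] (Cert.step [4, 5, 1, 0, 2, 3, 2, 1, 5, 2, 3, 1, 2, 0, 1, 0, 1, 2, 3, 4] (Cert.fail))),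
  (1, Cert.step [0, 1, 0, 1, 2, 1, 3, 2, 3, 0] (Cert.fail)),
  (1, Cert.step [0, 1, 4, 3, 2, 1, 3, 2, 6, 5, 6, 4, 3, 1, 2, 0, 1, 5, 3, 4, 2] (Cert.step [1, 2, 3, 2, 1, 0, 5, 1, 0, 2, 3, 2, 1, 5, 4, 3, 0, 1, 2, 3, 2, 1, 5, 2, 1, 0] (Cert.fail))),
  (1, Cert.step [0, 1, 4, 3, 5, 1, 0, 1, 2, 3, 2, 1, 0, 1, 5, 3, 4, 3, 1, 2, 0, 1] (Cert.fail)),
  (1, Cert.step [1, 0, 6, 1, 2, 5, 1, 6, 5, 3, 2, 1, 5, 3, 2, 1, 6, 0, 1, 2] (Cert.fail)),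
  (1, Cert.step [3, 2, 1, 2, 0] (Cert.fail)),
  (1, Cert.step [3, 2, 1, 6, 1, 0, 5, 1, 0, 1, 6, 5, 3, 2, 3] (Cert.step [2, 1, 0, 3, 2, 5, 1, 2, 3, 4, 2, 3, 2, 1, 5, 3, 0, 1, 2, 3, 4, 2, 3] (Cert.fail))),
  (1, Cert.step [5, 1, 0, 1, 2, 3, 2, 4, 1, 5, 4, 2, 3, 0] (Cert.step [0, 3, 5, 1, 0, 2, 3, 4, 1, 2, 3, 2, 1, 0, 1, 5, 4, 2, 3, 1] (Cert.fail))),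
  (1, Cert.step [0, 2, 3, 4, 5, 1, 0, 2, 1, 3, 5, 4, 3, 1, 2, 1, 0, 1, 5, 4, 0] (Cert.fail)),
  (1, Cert.step [3, 6, 1, 2, 5, 1, 2, 6, 1, 0, 1, 2, 0, 1, 6, 3, 0, 1] (Cert.fail)),
  (1, Cert.step [0, 1, 0, 1, 2, 1, 2, 3, 2, 3, 1, 2] (Cert.step [2, 1, 0, 3, 2, 5, 1, 2, 3, 4, 2, 3, 2, 1, 5, 3, 0, 1, 2, 3, 4, 2, 3] (Cert.fail))),
  (1, Cert.step [3, 2, 3, 2, 4, 5, 1, 5, 4, 2, 3, 1, 2, 3] (Cert.step [4, 3, 2, 1, 3, 5, 2, 3, 1, 2, 3, 4] (Cert.fail))),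
  (1, Cert.step [3, 2, 1, 3, 2, 3, 2, 3, 1, 2, 0] (Cert.step [4, 3, 2, 1, 3, 5, 4, 1, 0, 1, 2, 3, 2, 3, 4, 3, 1, 0, 1] (Cert.fail))),
  (1, Cert.step [0, 3, 2, 3, 1, 2, 1, 0, 1, 0] (Cert.step [1, 0, 3, 2, 1, 4, 3, 2, 1, 3, 2, 4, 3, 2, 1, 5, 3, 0, 1, 2, 0, 1, 0, 1, 5] (Cert.fail))),
  (1, Cert.fail),
  (1, Cert.step [0, 1, 3, 2, 4, 5, 1, 5, 4, 0, 1, 0, 1, 2] (Cert.step [0, 3, 2, 5, 1, 0, 2, 5, 4, 1, 2, 3, 2, 3, 4, 1, 2, 3, 0, 1] (Cert.step [0, 2, 1, 0, 3, 4, 3, 2, 5, 1, 0, 2, 3, 4, 2, 1, 5, 3, 2, 3, 4, 0, 1, 2, 0] (Cert.done [0, 2, 1, 0, 3, 4, 3, 2, 5, 1, 0, 2, 3, 4, 2, 1, 5, 3, 2, 3, 4, 0, 1, 2, 3, 2, 5, 1, 0, 2, 5, 4, 1, 2, 3, 2, 3, 4, 1, 2, 3, 0, 1, 0, 1, 3, 2, 4, 5, 1, 5, 4, 0,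 1, 0, 1, 2, 4, 6, 1, 0, 2, 1, 3, 2, 3, 2, 1, 0, 1, 2, 3, 2, 0, 1, 6, 4, 6, 1, 0, 2, 1, 3, 2, 4, 3, 2, 1, 6, 5, 1, 2, 3])))),
  (1, Cert.fail),
  (1, Cert.step [1, 0, 3, 2, 4, 5, 1, 4, 2, 3, 2, 1, 0, 1, 5] (Cert.step [4, 3, 2, 1, 3, 5, 2, 3, 1, 2, 3, 4] (Cert.fail))),
  (1, Cert.fail),
  (1, Cert.step [2, 1, 3, 6, 1, 2, 5, 1, 2, 6, 3, 2, 3, 2, 1, 5, 2, 1, 6, 3] (Cert.step [0, 1, 0, 1, 4, 3, 2, 3, 2, 1, 0, 4, 5, 2, 1, 5, 2, 3, 0, 1, 2] (Cert.fail))),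
  (1, Cert.step [2, 1, 0, 1, 0, 3, 2, 3, 2, 3] (Cert.step [0, 1, 4, 3, 2, 1, 0, 1, 5, 2, 3, 1, 2, 3, 4, 3, 2] (Cert.fail))),
  (1, Cert.step [3, 2, 1, 3, 2, 4, 5, 1, 2, 0, 1, 5, 4, 2, 3, 0] (Cert.fail)),
  (1, Cert.fail),
  (1, Cert.step [0, 1, 3, 2, 1, 0, 1, 3, 2, 3, 0] (Cert.fail)),
  (1, Cert.step [1, 0, 5, 1, 2, 3, 4, 6, 1, 2, 3, 5, 1, 6, 2, 3, 1, 2, 0, 1, 0, 1, 6, 1, 5] (Cert.step [1, 0, 1, 0, 4, 3, 2, 5, 1, 0, 1, 4, 3, 2, 0, 1, 5, 4, 3, 2, 3, 4] (Cert.fail))),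
  (2, Cert.fail),
  (1, Cert.step [3, 2, 3, 5, 1, 2, 6, 1, 0, 5, 1, 0, 1, 6, 1, 2, 3, 1, 2] (Cert.step [1, 0, 2, 1, 0, 1, 4, 3, 2, 3, 4, 1, 2, 3, 0, 1, 2, 1] (Cert.fail))),
  (1, Cert.step [0, 3, 2, 4, 5, 1, 5, 4, 2, 3, 2, 3, 1] (Cert.fail)),
  (1, Cert.fail),
  (1, Cert.step [0, 6, 1, 0, 2, 1, 0, 3, 2, 1, 5, 2, 3, 2, 1, 6, 1, 2, 1] (Cert.step [0, 1, 0, 1, 4, 3, 2, 3, 4, 1, 2, 3, 2, 1, 0, 1, 5, 2, 1, 0, 1, 2, 0] (Cert.fail))),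
  (1, Cert.step [0, 1, 0, 4, 5, 1, 5, 4, 2, 3, 2, 3] (Cert.step [0, 2, 3, 5, 1, 0, 1, 0, 2, 3, 5, 1, 4, 3, 2, 1, 5, 3, 1, 2, 1] (Cert.fail))),
  (1, Cert.step [2, 1, 0, 1, 0, 3, 2, 3, 1, 2, 0] (Cert.step [1, 5, 1, 2, 3, 4, 3, 2, 1, 5, 2, 1] (Cert.fail))),
  (1, Cert.step [0, 6, 1, 0, 2, 1, 0, 3, 2, 1, 5, 2, 3, 2, 1, 6, 1] (Cert.step [2, 1, 0, 3, 2, 5, 1, 2, 3, 4, 2, 3, 2, 1, 5, 3, 0, 1, 2, 3, 4, 2, 3] (Cert.fail))),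
  (1, Cert.step [1, 0, 4, 5, 1, 2, 3, 2, 1, 5, 4, 0, 1] (Cert.step [0, 2, 5, 1, 0, 2, 1, 3, 2, 3, 2, 4, 1, 5, 1, 0, 1, 2, 3, 2, 1, 5, 2, 0] (Cert.fail))),
  (2, Cert.fail),
  (1, Cert.step [0, 3, 2, 3, 4, 5, 1, 5, 4, 0, 1, 0] (Cert.step [4, 3, 2, 1, 3, 2, 1, 5, 1, 2, 3, 4, 2, 3, 0, 1, 2, 3, 2, 1, 5, 4, 3, 1, 2] (Cert.fail))),
  (1, Cert.step [0, 1, 0, 3, 4, 5, 1, 5, 4, 2, 3, 0, 1] (Cert.fail)),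
  (1, Cert.step [1, 2, 1] (Cert.fail)),
  (1, Cert.step [0, 1, 0, 1, 2, 1, 3, 2, 3, 0] (Cert.step [2, 1, 3, 5, 4, 1, 2, 3, 2, 1, 5, 4, 3, 2] (Cert.fail))),
  (1, Cert.step [0, 2, 1, 3, 2, 4, 5, 1, 5, 4, 2, 3, 0] (Cert.fail)),
  (1, Cert.step [3, 2, 3, 2, 4, 5, 1, 5, 4, 0, 1, 2, 0, 1] (Cert.step [4, 3, 2, 1, 3, 0, 1, 2, 0, 1, 5, 2, 3, 1, 2, 3, 4, 2] (Cert.step [3, 4, 3, 2, 1, 0, 3, 2, 3, 5, 1, 2, 3, 2, 1, 5, 4, 3, 2, 3, 0, 1, 2, 3, 4, 3] (Cert.done [3, 4, 3, 2, 1, 0, 3, 2, 3, 5, 1, 2, 3, 2, 1, 5, 4, 3, 2, 3, 0, 1, 2, 3, 4, 3, 4, 3, 2, 1, 3, 0, 1, 2, 0, 1, 5, 2, 3, 1, 2, 3, 4, 2, 3, 2, 3, 2, 4, 5, 1, 5, 4, 0, 1, 2, 0, 1, 4, 6, 1, 0, 2, 1, 3, 2, 3, 2, 0, 1, 6, 1, 5, 2, 3, 2, 0, 2, 1,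 3, 2, 4, 3, 2, 1, 6, 5, 1, 2, 3])))),
  (1, Cert.step [0, 1, 0, 4, 5, 1, 0, 2, 1, 5, 4, 2, 3, 2, 0, 1] (Cert.step [3, 2, 3, 2, 1, 4, 3, 2, 3, 5, 2, 1, 5, 4, 2, 3, 2, 1, 0, 1, 5] (Cert.fail))),
  (1, Cert.step [1, 0, 1, 0, 3, 4, 5, 1, 5, 4, 2, 3, 0, 1] (Cert.step [5, 1, 0, 2, 3, 2, 1, 4, 3, 2, 5, 3, 2, 1, 0, 1, 5, 2, 3] (Cert.fail))),
  (3, Cert.fail),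
  (1, Cert.step [1] (Cert.step [3, 4, 3, 2, 3, 2, 1, 0, 5, 1, 0, 2, 3, 4, 3, 1, 2, 3, 1, 2, 1, 0, 1, 5, 4] (Cert.fail))),
  (1, Cert.fail),
  (1, Cert.step [1, 0, 1, 0, 3, 2, 3, 2, 3, 1] (Cert.fail)),
  (1, Cert.step [3, 2, 3, 2, 4, 5, 1, 5, 4, 0, 1, 0] (Cert.step [0, 3, 2, 5, 1, 0, 2, 5, 4, 1, 2, 3, 2, 3, 4, 1, 2, 3, 0, 1] (Cert.fail))),
  (1, Cert.step [3, 2, 3, 5, 1, 2, 6, 1, 0, 5, 1, 0, 1, 6, 1, 2, 3, 2] (Cert.step [2, 3, 2, 4, 3, 5, 1, 2, 3, 2, 4, 3, 1, 5, 1, 2, 3, 0, 1, 2, 0, 1, 5, 4, 1, 2] (Cert.fail))),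
  (1, Cert.step [1, 0, 2, 4, 5, 1, 2, 6, 5, 6, 5, 3, 2, 1, 0, 1, 5, 4, 3, 0] (Cert.step [2, 3, 2, 4, 3, 5, 1, 2, 3, 2, 1, 5, 4, 1, 2, 3, 2, 1, 5, 3, 4, 2, 3, 2] (Cert.fail))),
  (1, Cert.step [0, 2, 1, 0, 3, 2, 3, 2, 3] (Cert.step [1, 2, 3, 4, 3, 2, 1, 0, 3, 5, 1, 2, 3, 4, 1, 2, 3, 1, 2, 3, 4, 3, 1, 0, 1] (Cert.fail))),
  (1, Cert.step [0, 1, 2, 1, 0, 1, 0, 2, 3, 2, 3] (Cert.step [2, 3, 2, 1, 4, 3, 2, 1, 3, 2, 1, 0, 5, 1, 4, 3, 2, 3, 0, 1, 2, 3, 0, 1, 2, 3, 4, 0] (Cert.fail))),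
  (1, Cert.fail),
  (1, Cert.step [0, 3, 2, 3, 2, 3, 1, 2, 0, 1] (Cert.fail)),
  (1, Cert.step [5, 1, 0, 1, 0, 2, 3, 4, 5, 4, 2, 3, 1, 0] (Cert.step [2, 3, 2, 1, 4, 3, 2, 1, 3, 2, 1, 0, 5, 1, 4, 3, 2, 3, 0, 1, 2, 3, 0, 1, 2, 3, 4, 0] (Cert.fail))),
  (1, Cert.step [0, 1, 0, 3, 2, 3, 2, 3] (Cert.fail)),
  (1, Cert.step [1, 0, 5, 1, 2, 3, 2, 3, 4, 6, 5, 6, 3, 2, 1, 5, 4, 0, 1, 2] (Cert.fail)),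
  (1, Cert.step [0, 1, 3, 2, 4, 5, 1, 5, 4, 2, 3, 0, 1] (Cert.step [1, 3, 4, 5, 1, 2, 3, 2, 1, 3, 4, 3, 0, 1, 2, 3, 2, 1, 5, 4, 0] (Cert.fail))),
  (1, Cert.step [3, 2, 1, 3, 2, 3, 4, 5, 2, 0, 1, 5, 4, 2, 3, 0] (Cert.step [0, 3, 2, 5, 1, 0, 2, 5, 4, 1, 2, 3, 2, 3, 4, 1, 2, 3, 0, 1] (Cert.fail))),
  (1, Cert.step [3, 2, 3, 2, 4, 5, 1, 5, 4, 0, 1, 0] (Cert.step [0, 1, 0, 1, 4, 3, 2, 3, 4, 5, 2, 1, 0, 1, 2, 3, 2, 1, 5, 3, 1, 0, 1, 0] (Cert.fail))),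
  (1, Cert.step [2, 4, 3, 5, 1, 0, 2, 1, 6, 5, 6, 2, 3, 1, 2, 3, 4, 2, 3] (Cert.step [] (Cert.fail))),
  (1, Cert.step [1, 0, 4, 5, 1, 2, 6, 5, 6, 3, 2, 0, 1, 5, 4, 2, 3] (Cert.step [0, 2, 3, 2, 1, 4, 3, 2, 1, 5, 1, 3, 2, 0, 1, 5, 4, 0, 1, 0] (Cert.fail))),
  (1, Cert.step [1, 0, 1, 0, 3, 4, 5, 1, 5, 4, 2, 3, 0, 1] (Cert.step [0, 2, 5, 1, 2, 3, 2, 1, 0, 1, 5, 1, 4, 2, 3, 2, 3, 1, 2, 0, 1, 5, 2, 0] (Cert.fail))),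
  (2, Cert.fail),
  (1, Cert.step [0, 3, 2, 3, 4, 5, 1, 5, 4, 2, 3, 0, 1, 2] (Cert.step [] (Cert.fail))),
  (1, Cert.step [1, 3, 2, 3, 2, 4, 5, 1, 5, 4, 0, 1, 2, 0, 1] (Cert.fail)),
  (1, Cert.step [5, 1, 0, 1, 2, 3, 2, 4, 1, 5, 4, 2, 3, 0, 1, 2] (Cert.step [1, 3, 5, 1, 2, 3, 2, 1, 4, 3, 0, 1, 2, 3, 2, 1, 0, 1, 5, 2, 3] (Cert.fail))),
  (1, Cert.step [3, 2, 1, 3, 2, 4, 5, 1, 2, 0, 1, 5, 4, 2, 3, 0] (Cert.step [0, 3, 4, 3, 2, 5, 1, 0, 2, 3, 2, 1, 4, 5, 2, 1, 0, 1, 2, 3, 4, 2, 3, 0] (Cert.fail))),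
  (1, Cert.step [0, 1, 3, 2, 4, 5, 1, 5, 4, 2, 3, 0] (Cert.step [1, 0, 2, 1, 0, 1, 4, 3, 2, 1, 5, 3, 4, 3, 2, 3, 2, 1, 0, 1, 5, 2] (Cert.fail))),
  (1, Cert.step [0, 1, 3, 2, 4, 5, 1, 5, 4, 2, 3, 2, 0, 1] (Cert.fail)),
  (1, Cert.step [0, 1, 0, 1, 2, 1, 3, 0, 1, 2, 0, 1] (Cert.step [0, 4, 3, 2, 1, 0, 1, 2, 3, 2, 5, 1, 4, 3, 2, 1, 5, 3, 4, 3, 2] (Cert.fail))),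
  (1, Cert.step [3, 2, 1, 3, 2, 3, 2, 3, 1, 0] (Cert.step [0, 2, 1, 5, 1, 2, 3, 2, 4, 3, 2, 3, 1, 0, 1, 5, 1, 2, 3] (Cert.fail))),
  (1, Cert.step [0, 1, 4, 3, 2, 5, 6, 1, 0, 5, 1, 0, 1, 6, 3, 2, 3, 4, 3, 2] (Cert.step [2, 1, 0, 4, 5, 1, 2, 3, 2, 1, 0, 1, 0, 1, 5, 4, 3, 2, 1] (Cert.fail))),
  (1, Cert.step [0, 1, 3, 2, 1, 0, 1, 4, 5, 1, 5, 4, 2, 3, 2, 0, 1] (Cert.fail)),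
  (1, Cert.fail),
  (1, Cert.step [1, 0, 1, 0, 3, 2, 3, 1, 0] (Cert.fail)),
  (1, Cert.step [1, 0, 3, 2, 3, 4, 5, 1, 2, 0, 1, 0, 1, 5, 4] (Cert.step [0, 5, 1, 0, 2, 1, 5, 4, 3, 1, 2, 3, 1, 2, 0, 1, 5, 4, 2, 3, 2] (Cert.fail))),
  (1, Cert.step [1, 0, 1, 0, 4, 5, 1, 5, 4, 2, 3, 2, 3] (Cert.step [0, 1, 0, 1, 4, 3, 2, 3, 2, 1, 0, 1, 4, 3, 2, 1, 0, 1, 5, 3, 1, 2, 3, 0] (Cert.fail))),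
  (1, Cert.step [0, 1, 6, 1, 0, 1, 2, 3, 2, 3, 1, 2, 3, 0, 1, 2, 0, 1, 6, 0] (Cert.step [1, 2, 1, 4, 5, 1, 0, 1, 5, 3, 2, 1, 0, 1, 2, 3, 4, 3, 2, 1] (Cert.fail))),
  (1, Cert.step [5, 1, 0, 1, 2, 3, 2, 4, 1, 5, 4, 3, 2, 3, 1, 0] (Cert.step [0, 1, 0, 5, 1, 0, 2, 1, 0, 3, 2, 5, 4, 3, 1, 2, 3, 4, 3, 0, 1, 2, 3, 0] (Cert.fail))),
  (1, Cert.step [1, 0, 3, 2, 3, 1, 0, 1, 2, 3, 1, 0] (Cert.fail)),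
  (1, Cert.step [0, 6, 1, 0, 1, 5, 0, 1, 6, 2, 1, 5, 3, 2, 3] (Cert.step [2, 1, 0, 1, 2, 5, 1, 2, 3, 4, 3, 2, 3, 1, 2, 1, 0, 1, 5, 3, 2] (Cert.fail))),
  (1, Cert.step [1, 0, 5, 1, 2, 3, 2, 3, 4, 6, 5, 6, 3, 2, 1, 5, 4, 2, 0, 1] (Cert.fail)),
  (1, Cert.step [1, 0, 3, 2, 4, 5, 1, 5, 4, 2, 3, 2, 3, 1, 2] (Cert.step [4, 5, 1, 0, 2, 3, 2, 1, 5, 4, 3, 1, 0, 1, 2, 3, 1, 2, 1] (Cert.fail))),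
  (1, Cert.step [1, 0, 3, 2, 3, 1, 0, 1, 2, 3, 1, 0] (Cert.fail)),
  (1, Cert.step [2, 4, 3, 5, 1, 0, 2, 1, 6, 5, 6, 2, 3, 1, 2, 3, 4, 1, 0] (Cert.step [4, 5, 1, 0, 2, 3, 2, 1, 5, 2, 3, 1, 2, 0, 1, 0, 1, 2, 3, 4] (Cert.fail))),
  (1, Cert.step [3, 2, 1, 2, 0] (Cert.fail)),
  (1, Cert.step [0, 1, 2, 1, 0, 1, 2, 3, 2, 3, 1, 2, 3] (Cert.step [0, 1, 5, 1, 0, 1, 2, 5, 1, 3, 4, 2, 3, 2, 1, 0, 1, 5, 2, 3, 2, 3] (Cert.fail))),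
  (1, Cert.step [0, 1, 0, 3, 2, 3, 1, 2, 0] (Cert.fail)),
  (1, Cert.step [0, 1, 4, 3, 2, 5, 6, 1, 0, 5, 1, 0, 1, 6, 3, 2, 3, 4, 3] (Cert.fail)),
  (1, Cert.step [0, 1, 0, 2, 3, 2, 6, 1, 0, 1, 6, 1, 5, 1, 6, 3, 2] (Cert.step [1, 2, 4, 3, 2, 5, 1, 0, 1, 2, 3, 4, 3, 2, 3, 1, 2, 0, 1, 5, 2, 3, 4, 3, 2] (Cert.fail))),
  (1, Cert.fail),
  (1, Cert.step [0, 1, 0, 4, 5, 1, 0, 2, 1, 5, 4, 2, 3, 2, 0, 1] (Cert.step [0, 2, 3, 2, 1, 4, 3, 2, 1, 5, 1, 3, 2, 0, 1, 5, 4, 0, 1, 0] (Cert.fail))),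
  (1, Cert.step [0, 1, 0, 1, 2, 1, 3, 2, 3, 0, 1] (Cert.step [2, 4, 3, 2, 5, 1, 2, 3, 2, 1, 0, 4, 3, 5, 2, 1, 5, 2, 3, 1, 2, 3, 4] (Cert.fail))),
  (1, Cert.step [1, 0, 1, 3, 2, 4, 5, 1, 5, 4, 2, 3, 2, 0, 1] (Cert.step [4, 3, 2, 3, 2, 1, 0, 4, 1, 2, 3, 1, 2, 3, 4, 3, 1, 0, 1] (Cert.fail))),
  (1, Cert.fail),
  (1, Cert.step [1, 0, 1, 0, 3, 2, 3, 1, 0, 1] (Cert.step [2, 3, 5, 1, 0, 1, 2, 1, 3, 2, 3, 4, 3, 2, 1, 5, 2, 1, 0, 1, 2] (Cert.fail))),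
  (1, Cert.step [0, 1, 4, 3, 2, 5, 6, 1, 0, 5, 1, 0, 1, 6, 3, 2, 3, 4, 3] (Cert.step [2, 3, 2, 3, 4, 3, 5, 1, 0, 2, 1, 3, 4, 5, 2, 0, 1, 0, 1, 5, 2, 3, 4] (Cert.fail))),
  (1, Cert.step [3, 6, 1, 5, 1, 6, 1, 0, 1, 6, 2, 3, 2, 0, 1, 0] (Cert.step [0, 1, 0, 1, 4, 3, 2, 3, 2, 1, 0, 4, 5, 2, 1, 5, 2, 3, 0, 1, 2] (Cert.fail))),
  (1, Cert.step [0, 1, 3, 2, 4, 5, 1, 5, 4, 0, 1, 2, 0, 1] (Cert.step [1, 0, 3, 2, 1, 4, 3, 2, 3, 2, 1, 4, 5, 2, 0, 1, 5, 2, 3, 0] (Cert.fail))),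
  (1, Cert.step [3, 2, 3, 5, 1, 2, 6, 1, 0, 5, 1, 0, 1, 6, 0] (Cert.step [3, 2, 4, 3, 2, 5, 1, 4, 2, 3, 2, 0, 1, 5, 4, 3, 2, 3, 4, 2, 3] (Cert.fail))),
  (1, Cert.step [1, 0, 2, 1, 3, 2, 1, 0, 1, 2, 3, 1, 0] (Cert.step [4, 5, 1, 0, 2, 3, 2, 1, 5, 2, 3, 1, 2, 0, 1, 0, 1, 2, 3, 4] (Cert.fail))),
  (1, Cert.step [0, 2, 3, 2, 4, 5, 1, 4, 2, 3, 2, 1, 0, 1, 5] (Cert.step [2, 4, 3, 2, 1, 3, 2, 5, 1, 0, 2, 1, 0, 3, 1, 2, 3, 4] (Cert.step [2, 1, 3, 2, 5, 1, 0, 1, 0, 5, 4, 2, 3, 2, 1, 0, 1, 5, 4, 2, 3, 1, 2] (Cert.done [2, 1, 3, 2, 5, 1, 0, 1, 0, 5, 4, 2, 3, 2, 1, 0, 1, 5, 4, 2, 3, 1, 4, 3, 2, 1, 3, 2, 5, 1, 0, 2, 1, 0, 3, 1, 2, 3, 4, 0, 2, 3, 2, 4, 5, 1, 4, 2, 3, 2, 1, 0, 1, 6, 1, 2, 3, 2,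 5, 6, 1, 3, 2, 3, 0, 3, 2, 4, 3, 2, 1, 6, 5, 1, 2, 3])))),
  (1, Cert.step [3, 2, 3, 5, 1, 2, 6, 1, 0, 5, 1, 0, 1, 6, 1, 2, 3, 2] (Cert.step [1, 0, 2, 1, 0, 1, 4, 3, 2, 3, 4, 1, 2, 3, 0, 1, 2, 1] (Cert.fail))),
  (1, Cert.step [0, 1, 4, 3, 2, 5, 6, 1, 0, 5, 1, 0, 1, 6, 3, 2, 3, 4, 3] (Cert.step [3, 2, 5, 1, 0, 1, 2, 3, 2, 1, 0, 3, 4, 1, 2, 3, 2, 1, 5, 3, 1] (Cert.fail))),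
  (1, Cert.fail),
  (1, Cert.step [0, 1, 4, 3, 2, 5, 6, 1, 0, 5, 1, 0, 1, 6, 3, 2, 3, 4, 3] (Cert.fail)),
  (1, Cert.fail),
  (1, Cert.step [1, 0, 1, 3, 2, 4, 5, 1, 5, 4, 2, 3, 2, 0] (Cert.fail)),
  (1, Cert.step [3, 2, 1, 3, 2, 3, 4, 5, 1, 5, 4, 0, 1, 0] (Cert.fail)),
  (1, Cert.step [0, 3, 2, 3, 1, 0, 1, 2, 3, 1, 0] (Cert.step [0, 1, 0, 1, 4, 3, 2, 3, 2, 1, 0, 4, 5, 2, 1, 5, 2, 3, 0, 1, 2] (Cert.fail))),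
  (1, Cert.step [0, 1, 3, 2, 4, 5, 1, 5, 4, 2, 3, 2, 0, 1] (Cert.step [1, 5, 1, 0, 1, 0, 2, 1, 3, 2, 4, 3, 5, 1, 0, 1, 5, 2, 3, 4, 1, 2, 3, 0, 1] (Cert.fail))),
  (1, Cert.step [1, 0, 4, 5, 1, 2, 3, 2, 1, 5, 4, 2, 0] (Cert.fail)),
  (1, Cert.fail),
  (1, Cert.step [0, 1, 2, 6, 1, 5, 1, 6, 1, 0, 1, 6, 2, 0] (Cert.fail)),
  (1, Cert.step [0, 1, 0, 1, 2, 1, 3, 0, 1, 2, 0, 1] (Cert.step [3, 2, 4, 3, 2, 1, 0, 5, 1, 2, 3, 2, 1, 0, 4, 3, 2, 1, 0, 1, 5, 4] (Cert.fail))),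
  (1, Cert.step [0, 2, 1, 0, 3, 2, 3, 1, 0] (Cert.step [3, 2, 5, 1, 0, 1, 2, 3, 5, 2, 3, 4, 1, 2, 3, 2, 0, 1, 5] (Cert.fail))),
  (1, Cert.step [0, 1, 4, 3, 2, 5, 6, 1, 0, 5, 1, 0, 1, 6, 3, 2, 3, 4, 3, 1] (Cert.step [1, 0, 2, 1, 3, 4, 5, 1, 0, 1, 2, 3, 1, 2, 1, 0, 1, 5, 4, 3, 2, 0] (Cert.fail))),
  (1, Cert.step [5, 1, 0, 1, 0, 2, 3, 4, 5, 4, 2, 3, 1, 0] (Cert.fail)),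
  (1, Cert.fail),
  (1, Cert.step [0, 1, 4, 3, 2, 1, 3, 2, 6, 5, 6, 4, 3, 1, 2, 0, 1, 5, 3, 4] (Cert.step [0, 1, 0, 1, 4, 3, 2, 3, 4, 1, 2, 3, 2, 1, 0, 1, 5, 2, 1, 0, 1, 2, 0] (Cert.fail))),
  (1, Cert.step [2, 1, 0, 1, 3, 4, 3, 2, 0, 1, 2, 3, 4, 3, 2, 3, 0] (Cert.step [0, 1, 0, 5, 1, 0, 2, 1, 0, 3, 2, 5, 4, 3, 1, 2, 3, 4, 3, 0, 1, 2, 3, 0] (Cert.fail))),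
  (1, Cert.step [1, 0, 4, 5, 1, 2, 3, 6, 5, 6, 4, 3, 2, 3, 2, 1, 5, 0, 1] (Cert.step [1, 3, 4, 5, 1, 0, 2, 3, 4, 2, 3, 1, 2, 0, 1, 5, 2, 3, 2, 3, 1, 2] (Cert.fail))),
  (1, Cert.step [1, 0, 1, 3, 2, 4, 5, 1, 5, 4, 2, 3, 0, 1] (Cert.step [3, 2, 5, 1, 0, 1, 2, 3, 2, 1, 0, 1, 4, 2, 3, 2, 1, 5, 3, 2, 1] (Cert.fail))),
  (1, Cert.step [0, 3, 2, 3, 2, 3, 1, 2, 0, 1] (Cert.step [0, 2, 3, 4, 5, 1, 0, 1, 2, 1, 0, 3, 2, 1, 5, 4, 3, 2, 0, 1, 0, 1, 5, 2, 3, 2, 0] (Cert.fail))),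
  (1, Cert.fail),
  (1, Cert.step [1, 0, 1, 3, 2, 4, 5, 1, 5, 4, 3, 2, 3, 1, 0] (Cert.step [3, 2, 4, 5, 1, 0, 1, 0, 2, 3, 4, 2, 1, 0, 1, 5, 1, 2, 3, 2, 3, 1, 0, 1] (Cert.fail))),
  (1, Cert.step [2, 4, 3, 5, 1, 0, 2, 1, 6, 5, 6, 2, 3, 1, 2, 3, 4, 1, 0] (Cert.step [3, 4, 3, 2, 3, 4, 6, 1, 0, 5, 1, 0, 1, 2, 6, 3, 1, 2, 1, 0, 1, 5, 2, 3, 4, 3, 2, 3] (Cert.fail))),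
  (1, Cert.step [1, 0, 1, 2, 6, 1, 5, 1, 6, 1, 0, 1, 6, 0] (Cert.step [0, 2, 3, 4, 5, 1, 0, 1, 2, 1, 0, 3, 2, 1, 5, 4, 3, 2, 0, 1, 0, 1, 5, 2, 3, 2, 0] (Cert.fail))),
  (1, Cert.step [3, 2, 1, 2, 0] (Cert.fail)),
  (1, Cert.fail),
  (1, Cert.step [3, 2, 3, 2, 4, 5, 1, 5, 4, 0, 1, 2, 0, 1] (Cert.step [0, 2, 1, 5, 1, 2, 3, 2, 4, 3, 2, 3, 1, 0, 1, 5, 1, 2, 3] (Cert.fail))),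
  (1, Cert.step [0, 1, 4, 3, 2, 5, 6, 1, 0, 5, 1, 0, 1, 6, 3, 2, 3, 4, 3, 2] (Cert.step [1, 0, 2, 1, 3, 4, 5, 1, 0, 1, 2, 1, 0, 3, 2, 1, 5, 4, 0, 1, 2] (Cert.fail))),
  (1, Cert.step [1, 0, 1, 0, 3, 2, 3, 2, 3] (Cert.step [2, 3, 2, 1, 0, 4, 3, 2, 3, 4, 5, 1, 5, 0, 1, 2, 3, 2, 3, 4, 3, 1, 2, 0] (Cert.fail))),
  (1, Cert.step [2, 1, 6, 5, 1, 0, 2, 1, 0, 1, 3, 2, 1, 5, 3, 2, 1, 6, 2, 0] (Cert.step [0, 1, 0, 2, 1, 4, 3, 2, 3, 2, 1, 0, 1, 5, 4, 3, 1, 2, 3, 4, 1] (Cert.fail))),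
  (1, Cert.step [1, 0, 4, 5, 1, 2, 3, 2, 1, 5, 4, 0, 1] (Cert.fail)),
  (1, Cert.step [0, 1, 0, 3, 4, 5, 1, 5, 4, 2, 3, 0, 1] (Cert.step [0, 5, 1, 0, 1, 2, 1, 3, 2, 4, 3, 2, 5, 1, 0, 1, 5, 4, 3, 2, 3, 1, 2] (Cert.fail))),
  (1, Cert.step [0, 6, 1, 2, 5, 1, 6, 5, 6, 1, 5, 2, 1, 6, 0] (Cert.fail)),
  (1, Cert.step [1, 0, 5, 1, 2, 3, 4, 6, 1, 2, 3, 5, 1, 6, 2, 3, 1, 2, 0, 1, 0, 1, 6, 1, 5] (Cert.step [0, 1, 2, 1, 3, 2, 1, 3, 2, 4, 0, 1, 5, 3, 2, 3, 4, 1, 2, 3, 1, 0, 1] (Cert.fail))),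
  (1, Cert.fail),
  (1, Cert.step [0, 3, 2, 1, 5, 6, 1, 2, 3, 5, 1, 2, 6, 1, 5, 3, 2, 1, 6, 4, 3, 2, 1, 5, 0] (Cert.step [1, 0, 3, 2, 1, 4, 3, 2, 3, 2, 1, 4, 5, 2, 0, 1, 5, 2, 3, 0] (Cert.fail))),
  (1, Cert.step [0, 1, 0, 4, 5, 1, 5, 4, 2, 3, 1, 2, 0, 1] (Cert.step [2, 1, 0, 1, 2, 5, 1, 2, 3, 4, 3, 2, 1, 5, 3, 1, 2, 1] (Cert.fail))),
  (1, Cert.step [3, 2, 3, 5, 1, 2, 6, 1, 0, 5, 1, 0, 1, 6, 1, 2, 3, 1] (Cert.step [0, 4, 5, 1, 2, 3, 2, 1, 0, 1, 2, 3, 2, 0, 1, 5, 4, 3, 2, 1] (Cert.fail))),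
  (1, Cert.step [0, 6, 1, 0, 1, 6, 1, 5, 1, 6, 3] (Cert.step [1, 4, 3, 5, 1, 2, 3, 2, 1, 4, 3, 0, 1, 2, 3, 2, 1, 5, 4, 0, 1, 2] (Cert.fail))),
  (1, Cert.step [0, 2, 6, 1, 0, 2, 1, 0, 3, 2, 1, 5, 2, 3, 2, 1, 6, 2] (Cert.step [1, 0, 3, 2, 1, 3, 4, 3, 2, 3, 4, 1, 2, 0, 1, 5, 3, 1, 2, 3, 1, 0, 1, 2] (Cert.fail))),
  (1, Cert.fail),
  (1, Cert.step [0, 1, 2, 6, 1, 5, 1, 6, 1, 0, 1, 6, 3, 0, 1, 2, 1, 0] (Cert.step [2, 1, 3, 5, 4, 1, 2, 3, 2, 1, 5, 4, 3, 2] (Cert.fail))),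
  (1, Cert.step [1, 0, 3, 2, 3, 1, 0, 1, 2, 3, 1, 0] (Cert.step [2, 3, 5, 1, 0, 1, 2, 1, 3, 2, 3, 4, 3, 2, 1, 5, 2, 1, 0, 1, 2] (Cert.fail))),
  (1, Cert.fail),
  (1, Cert.step [1, 0, 1, 3, 2, 4, 5, 1, 5, 4, 2, 3, 2, 0] (Cert.step [0, 2, 3, 4, 5, 1, 0, 1, 2, 1, 0, 3, 2, 1, 5, 4, 3, 2, 0, 1, 0, 1, 5, 2, 3, 2, 0] (Cert.fail))),
  (1, Cert.step [1, 0, 2, 4, 5, 1, 2, 3, 2, 1, 5, 4, 3, 2, 0, 1, 0] (Cert.step [3, 2, 1, 5, 1, 0, 1, 3, 2, 3, 4, 2, 3, 2, 1, 5, 1, 2, 0] (Cert.fail))),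
  (1, Cert.step [3, 2, 1, 2, 0] (Cert.step [1, 2, 3, 4, 3, 2, 1, 0, 3, 5, 1, 2, 3, 4, 1, 2, 3, 1, 2, 3, 4, 3, 1, 0, 1] (Cert.fail))),
  (1, Cert.step [2, 1, 4, 6, 1, 2, 3, 5, 1, 6, 2, 1, 5, 3, 2, 1, 6, 4] (Cert.step [0, 1, 4, 3, 2, 1, 0, 1, 5, 2, 3, 1, 2, 3, 4, 3, 2] (Cert.step [3, 2, 1, 0, 1, 2, 3, 2, 1, 0, 3, 5, 1, 2, 4, 3, 2, 1, 5, 4, 2, 3, 1, 0, 1, 2, 1, 0] (Cert.done [3, 2, 1, 0, 1, 2, 3, 2, 1, 0, 3, 5, 1, 2, 4, 3, 2, 1, 5, 4, 2, 3, 1, 0, 1, 2, 4, 3, 2, 1, 0, 1, 5, 2, 3, 1, 2, 3, 4, 3, 1, 4, 6, 1, 2, 3, 5, 1, 6, 2, 1, 5, 2, 1, 0, 3, 2, 5, 1, 0, 1, 5, 6, 1, 2, 3, 2, 1, 2, 1, 3, 2, 4, 3, 2, 1, 6, 5, 1, 2, 3])))),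
  (1, Cert.step [3, 2, 1, 3, 2, 3, 4, 5, 1, 5, 4, 2, 3, 1, 2, 3] (Cert.step [2, 5, 1, 0, 1, 2, 3, 2, 1, 5, 1, 4, 3, 2, 3, 4, 0, 1, 2, 3, 0, 1, 2, 1] (Cert.step [3, 2, 1, 0, 1, 2, 3, 2, 1, 0, 3, 5, 1, 2, 4, 3, 2, 1, 5, 4, 2, 3, 1, 0, 1, 2, 1, 0] (Cert.done [3, 2, 1, 0, 1, 2, 3, 2, 1, 0, 3, 5, 1, 2, 4, 3, 2, 1, 5, 4, 2, 3, 1, 0, 1, 2, 1, 0, 2, 5, 1, 0, 1, 2, 3, 2, 1, 5, 1, 4, 3, 2, 3, 4, 0, 1, 2, 3, 0, 1, 2, 1, 3, 2, 1, 3, 2, 3, 4, 5, 1, 5, 4, 2, 3, 1, 2, 3, 0, 4, 6, 1, 2, 3, 2, 1, 3, 6, 5, 1, 0, 1, 5, 6, 1, 2, 3, 2, 1, 5, 1, 0, 2, 1, 3, 2, 4, 3, 2, 1, 6, 5, 1, 2, 3])))),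
  (1, Cert.fail),
  (1, Cert.step [1, 0, 3, 2, 4, 5, 1, 5, 4, 2, 3, 2, 3, 1, 2] (Cert.fail)),
  (2, Cert.fail),
  (1, Cert.step [0, 3, 2, 4, 5, 1, 5, 4, 1, 0, 1, 2, 3, 1, 0] (Cert.step [1, 0, 3, 2, 1, 4, 3, 2, 3, 2, 1, 4, 5, 2, 0, 1, 5, 2, 3, 0] (Cert.fail))),
  (1, Cert.step [0, 1, 2, 4, 3, 2, 3, 6, 1, 0, 1, 6, 5, 1, 6, 4, 1, 2, 3, 2, 1, 5, 4, 2, 3, 0] (Cert.step [2, 1, 3, 5, 4, 1, 2, 3, 2, 1, 5, 4, 3, 2] (Cert.fail))),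
  (1, Cert.step [3, 2, 1, 3, 2, 3, 0, 1, 2, 0, 1, 0] (Cert.step [1, 2, 1, 3, 2, 1, 0, 1, 3, 4, 5, 1, 2, 3, 2, 0, 1, 5, 4] (Cert.fail))),
  (1, Cert.step [5, 1, 0, 1, 2, 3, 2, 4, 1, 5, 4, 2, 3, 2, 0, 1] (Cert.step [3, 2, 4, 3, 2, 5, 1, 4, 2, 3, 2, 0, 1, 5, 4, 3, 2, 3, 4, 2, 3] (Cert.fail))),
  (1, Cert.step [0, 6, 1, 0, 2, 1, 0, 3, 2, 1, 5, 2, 3, 2, 1, 6] (Cert.step [1, 0, 2, 1, 3, 4, 5, 1, 0, 1, 2, 3, 1, 2, 1, 0, 1, 5, 4, 3, 2, 0] (Cert.fail))),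
  (1, Cert.step [3, 2, 1, 3, 2, 4, 5, 1, 2, 0, 1, 5, 4, 2, 3, 0] (Cert.step [0, 1, 0, 2, 1, 4, 3, 2, 3, 2, 1, 0, 1, 5, 4, 3, 1, 2, 3, 4, 1] (Cert.fail))),
  (1, Cert.step [0, 1, 0, 3, 1, 2, 1, 0, 1, 0] (Cert.step [0, 4, 3, 2, 1, 0, 1, 2, 3, 2, 5, 1, 4, 3, 2, 1, 5, 3, 4, 3, 2] (Cert.fail))),
  (1, Cert.step [0, 3, 2, 3, 4, 5, 1, 5, 4, 0, 1, 0, 1, 2] (Cert.fail)),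
  (1, Cert.step [0, 3, 2, 3, 0, 1, 2, 0, 1, 0] (Cert.step [0, 1, 5, 1, 0, 1, 2, 5, 1, 3, 4, 2, 3, 2, 1, 0, 1, 5, 2, 3, 2, 3] (Cert.fail))),
  (1, Cert.step [0, 6, 1, 0, 1, 5, 0, 1, 6, 2, 1, 5, 3, 2, 3] (Cert.step [3, 2, 3, 2, 1, 4, 3, 2, 3, 5, 2, 1, 5, 4, 2, 3, 2, 1, 0, 1, 5] (Cert.fail))),
  (1, Cert.step [3, 6, 1, 2, 5, 1, 2, 6, 1, 0, 1, 2, 0, 1, 6, 3, 0, 1] (Cert.step [0, 1, 0, 1, 2, 3, 2, 4, 3, 2, 1, 0, 3, 2, 1, 5, 4, 3, 1, 2, 3, 1, 0, 1] (Cert.fail))),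
  (1, Cert.step [3, 2, 3, 2, 4, 5, 1, 5, 4, 2, 3, 0] (Cert.step [0, 4, 5, 1, 0, 2, 1, 3, 2, 1, 0, 1, 5, 4, 3, 2, 3, 1, 2] (Cert.fail))),
  (1, Cert.step [0, 1, 0, 1, 2, 1, 2, 3, 2, 3, 1, 2] (Cert.step [3, 2, 4, 3, 2, 1, 0, 5, 1, 2, 3, 2, 1, 0, 4, 3, 2, 1, 0, 1, 5, 4] (Cert.fail))),
  (1, Cert.step [0, 1, 3, 2, 1, 0, 1, 4, 5, 1, 5, 4, 2, 3, 2, 0] (Cert.fail)),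
  (1, Cert.step [0, 1, 0, 3, 4, 5, 1, 5, 4, 2, 3, 0, 1, 2] (Cert.step [4, 3, 2, 3, 2, 1, 0, 4, 1, 2, 3, 1, 2, 3, 4, 3, 1, 0, 1] (Cert.fail))),
  (1, Cert.step [0, 6, 1, 2, 5, 1, 0, 1, 5, 2, 1, 6, 0] (Cert.fail)),
  (1, Cert.fail),
  (1, Cert.step [1, 0, 3, 2, 3, 4, 5, 1, 5, 4, 2, 3, 1, 2, 3] (Cert.fail)),
  (1, Cert.step [0, 1, 6, 1, 0, 1, 2, 3, 2, 3, 1, 2, 3, 0, 1, 2, 0, 1, 6, 0] (Cert.step [2, 3, 4, 5, 1, 0, 2, 1, 3, 2, 4, 1, 5] (Cert.fail))),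
  (1, Cert.step [2, 1, 0, 1, 2, 3] (Cert.step [1, 0, 1, 3, 2, 3, 2, 4, 3, 1, 0, 1, 5, 2, 3, 4, 2, 3, 1, 2, 3, 0] (Cert.fail))),
  (1, Cert.step [0, 1, 3, 2, 1, 0, 1, 4, 5, 1, 5, 4, 2, 3, 1, 2, 3] (Cert.step [2, 3, 2, 3, 4, 3, 5, 1, 0, 2, 1, 3, 4, 5, 2, 0, 1, 0, 1, 5, 2, 3, 4] (Cert.fail))),
  (1, Cert.fail),
  (1, Cert.step [0, 3, 2, 6, 1, 0, 1, 0, 6, 1, 0, 1, 6, 2, 3, 0, 1, 2, 1, 0] (Cert.step [0, 1, 2, 1, 3, 2, 1, 3, 2, 4, 0, 1, 5, 3, 2, 3, 4, 1, 2, 3, 1, 0, 1] (Cert.fail))),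
  (1, Cert.step [0, 6, 1, 0, 1, 6, 1, 5, 1, 6, 3, 1] (Cert.fail)),
  (1, Cert.step [1, 0, 4, 5, 1, 2, 3, 6, 5, 2, 1, 5, 0, 1, 0, 1, 6, 4, 3] (Cert.step [0, 4, 5, 1, 0, 2, 1, 3, 2, 1, 0, 1, 5, 4, 3, 2, 3, 1, 2] (Cert.step [1, 0, 4, 3, 2, 1, 0, 3, 4, 1, 2, 3, 1, 2, 3, 4, 3, 1, 0, 1, 2, 1] (Cert.done [1, 0, 4, 3, 2, 1, 0, 3, 4, 1, 2, 3, 1, 2, 3, 4, 3, 1, 0, 1, 2, 1, 0, 4, 5, 1, 0, 2, 1, 3, 2, 1, 0, 1, 5, 4, 3, 2, 3, 1, 2, 1, 0, 4, 5, 1, 2, 3, 6, 5, 2, 1, 5, 0, 1, 0, 1, 6, 4, 3, 1, 3, 2, 4, 3, 2, 1, 0, 3, 2, 1, 3, 0, 1, 2, 3, 4, 1, 2, 3, 0, 1, 0, 3, 4, 3, 2, 1, 3, 4, 5, 2, 3, 1, 2, 3, 4, 2, 1, 0, 1, 2, 0, 1, 0, 1, 2, 3, 5, 1, 0, 2, 1, 3, 0, 1, 2, 3, 0, 1, 2, 0, 2, 1, 3, 4, 5, 1, 2, 3,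 2, 1, 4, 3, 2, 3, 0, 1, 0, 1, 2, 3, 4, 2, 3, 6, 1, 0, 2, 1, 3, 2, 4, 3, 2, 1, 6, 5, 1, 2, 3])))),
  (1, Cert.step [0, 6, 1, 0, 2, 1, 0, 3, 2, 1, 3, 2, 3, 2, 1, 0, 1, 6, 2, 3] (Cert.step [3, 4, 3, 2, 3, 2, 1, 0, 5, 1, 0, 2, 3, 4, 3, 1, 2, 3, 1, 2, 1, 0, 1, 5, 4] (Cert.fail))),
  (1, Cert.step [1, 0, 4, 5, 1, 2, 6, 5, 6, 3, 4, 3, 2, 3, 2, 1, 5, 0] (Cert.step [1, 5, 1, 2, 3, 4, 3, 2, 1, 5, 2, 1] (Cert.fail))),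
  (1, Cert.fail),
  (1, Cert.step [0, 1, 3, 2, 4, 5, 1, 5, 4, 2, 3, 0, 1, 2] (Cert.step [4, 3, 2, 3, 2, 1, 0, 4, 1, 2, 3, 1, 2, 3, 4, 3, 1, 0, 1] (Cert.fail))),
  (1, Cert.step [1, 0, 1, 0, 4, 5, 1, 4, 2, 3, 2, 1, 0, 1, 5] (Cert.step [2, 3, 2, 4, 3, 5, 1, 2, 3, 2, 1, 5, 4, 1, 2, 3, 2, 1, 5, 3, 4, 2, 3, 2] (Cert.fail))),
  (1, Cert.step [1, 0, 3, 2, 3, 4, 5, 1, 5, 4, 2, 3, 1, 2, 3] (Cert.fail)),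
  (1, Cert.step [1, 0, 4, 5, 1, 2, 3, 2, 1, 5, 4, 0] (Cert.step [2, 1, 0, 3, 2, 5, 1, 2, 3, 4, 2, 3, 2, 1, 5, 3, 0, 1, 2, 3, 4, 2, 3] (Cert.fail))),
  (1, Cert.step [1, 3, 2, 3, 2, 4, 5, 1, 5, 4, 0, 1, 0] (Cert.step [3, 5, 1, 0, 2, 1, 0, 1, 5, 3, 4, 1, 2, 3, 2, 0, 1, 5, 2, 3, 1, 2] (Cert.fail))),
  (1, Cert.fail),
  (1, Cert.step [1, 0, 1, 3, 2, 4, 5, 1, 5, 4, 2, 3, 2, 0, 1] (Cert.step [0, 3, 5, 1, 0, 2, 3, 4, 1, 2, 3, 2, 1, 0, 1, 5, 4, 2, 3, 1] (Cert.fail))),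
  (1, Cert.step [0, 1, 2, 1, 0, 1, 0, 3, 2, 3, 1, 2, 3] (Cert.step [1, 2, 1, 0, 1, 0, 5, 1, 2, 3, 4, 1, 2, 3, 1, 2, 0, 1, 5, 4, 1, 2] (Cert.fail))),
  (1, Cert.step [1, 0, 5, 1, 2, 3, 2, 3, 4, 3, 0, 1, 2, 0, 1, 5, 4, 1] (Cert.step [1, 0, 2, 1, 0, 1, 4, 3, 2, 1, 5, 3, 4, 3, 2, 3, 2, 1, 0, 1, 5, 2] (Cert.fail))),
  (1, Cert.fail),
  (1, Cert.step [1, 0, 1, 0, 2, 3, 6, 1, 0, 1, 5, 0, 1, 6, 2, 1, 5, 3, 1, 0] (Cert.step [4, 5, 1, 0, 2, 3, 2, 1, 5, 4, 3, 1, 0, 1, 2, 3, 1, 2, 1] (Cert.fail))),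
  (1, Cert.step [1, 0, 2, 1, 0, 4, 5, 1, 5, 4, 2, 3, 1, 2, 0] (Cert.step [2, 3, 2, 4, 5, 1, 0, 1, 2, 3, 2, 1, 0, 1, 5, 4, 2, 3, 2, 1] (Cert.fail))),
  (1, Cert.fail),
  (1, Cert.step [0, 1, 3, 2, 4, 5, 1, 5, 4, 2, 3, 0, 1] (Cert.fail)),
  (1, Cert.step [0, 1, 0, 3, 4, 5, 1, 5, 4, 2, 3, 0] (Cert.step [1, 0, 2, 1, 0, 1, 4, 3, 2, 1, 5, 3, 4, 3, 2, 3, 2, 1, 0, 1, 5, 2] (Cert.fail))),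
  (1, Cert.step [3, 2, 3, 2, 4, 5, 1, 5, 4, 2, 3, 0, 1, 2] (Cert.step [3, 2, 1, 3, 4, 5, 1, 0, 1, 2, 5, 3, 4, 2, 3, 2, 1, 0, 1, 5, 0, 1, 2] (Cert.fail))),
  (1, Cert.step [1, 0, 1, 0, 3, 2, 3, 2, 3] (Cert.step [4, 5, 1, 0, 1, 2, 3, 4, 0, 1, 2, 3, 2, 1, 5, 0, 1, 2, 3, 4, 2, 3] (Cert.fail))),
  (1, Cert.step [0, 1, 4, 3, 2, 5, 6, 1, 0, 5, 1, 0, 1, 6, 3, 2, 3, 4, 3, 2] (Cert.step [1, 0, 1, 3, 2, 3, 2, 4, 3, 1, 0, 1, 5, 2, 3, 4, 2, 3, 1, 2, 3, 0] (Cert.fail))),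
  (1, Cert.step [0, 3, 2, 3, 4, 5, 1, 5, 4, 0, 1, 2, 0] (Cert.step [0, 1, 0, 1, 4, 3, 2, 3, 4, 5, 2, 1, 0, 1, 2, 3, 2, 1, 5, 3, 1, 0, 1, 0] (Cert.step [1, 2, 3, 5, 1, 2, 3, 2, 1, 5, 4, 0, 1, 2, 3, 2, 1, 5, 3, 2, 1] (Cert.done [1, 2, 3, 5, 1, 2, 3, 2, 1, 5, 4, 0, 1, 2, 3, 2, 1, 5, 3, 2, 1, 0, 1, 0, 1, 4, 3, 2, 3, 4, 5, 2, 1, 0, 1, 2, 3, 2, 1, 5, 3, 1, 0, 1, 3, 2, 3, 4, 5, 1, 5, 4, 0, 1, 2, 4, 6, 1, 2, 3, 2, 1, 3, 2, 5, 1, 0, 2, 1, 5, 2, 3, 0, 1, 2, 3, 2, 0, 2, 1, 3, 2, 4, 3, 2, 1, 6, 5, 1, 2, 3])))),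
  (1, Cert.step [1, 0, 1, 0, 2, 3, 6, 1, 0, 1, 5, 0, 1, 6, 2, 1, 5, 3, 1, 0] (Cert.step [0, 2, 3, 2, 1, 0, 4, 3, 2, 1, 0, 3, 2, 5, 3, 4, 1, 2, 3, 2, 1, 5, 3, 4, 3, 2] (Cert.fail))),
  (3, Cert.fail),
  (1, Cert.step [0, 3, 2, 3, 2, 3, 1, 0] (Cert.step [1, 3, 4, 5, 1, 0, 2, 3, 4, 2, 3, 1, 2, 0, 1, 5, 2, 3, 2, 3, 1, 2] (Cert.fail))),
  (1, Cert.fail),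
  (1, Cert.step [0, 3, 2, 3, 4, 5, 1, 5, 4, 0, 1, 2, 0] (Cert.step [0, 4, 5, 1, 0, 2, 1, 3, 2, 1, 3, 4, 2, 3, 2, 1, 5, 3, 4, 2, 3, 2] (Cert.fail))),
  (1, Cert.step [3, 2, 1, 3, 2, 3, 2, 3, 1, 2, 0] (Cert.step [0, 3, 4, 3, 2, 5, 1, 0, 2, 3, 2, 1, 4, 5, 2, 1, 0, 1, 2, 3, 4, 2, 3, 0] (Cert.fail))),
  (1, Cert.step [0, 2, 1, 3, 4, 3, 2, 0, 1, 2, 3, 4, 3, 2, 3, 0] (Cert.step [2, 1, 0, 1, 2, 5, 1, 2, 3, 4, 3, 2, 1, 5, 3, 1, 2, 1] (Cert.fail))),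
  (1, Cert.step [0, 1, 6, 1, 0, 1, 2, 3, 2, 3, 1, 2, 3, 0, 1, 2, 0, 1, 6, 0] (Cert.step [1, 2, 4, 5, 1, 2, 3, 2, 4, 3, 2, 1, 0, 1, 2, 3, 4, 3, 2, 3, 1, 2, 3, 2, 1, 5, 0] (Cert.fail))),
  (1, Cert.step [1, 0, 2, 1, 0, 4, 5, 1, 5, 4, 2, 3, 2, 3, 1] (Cert.step [0, 4, 5, 1, 2, 3, 2, 1, 0, 3, 4, 3, 1, 2, 3, 2, 1, 5, 4, 3, 1] (Cert.fail))),
  (1, Cert.step [0, 1, 3, 2, 4, 5, 1, 5, 4, 0, 1, 2, 0, 1] (Cert.fail)),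
  (1, Cert.step [1, 3, 2, 3, 2, 4, 5, 1, 5, 4, 2, 3, 1, 2, 3] (Cert.step [4, 5, 1, 0, 1, 2, 3, 4, 0, 1, 2, 3, 2, 1, 5, 0, 1, 2, 3, 4, 2, 3] (Cert.fail))),
  (1, Cert.step [1, 0, 3, 2, 4, 5, 1, 4, 2, 3, 2, 1, 0, 1, 5] (Cert.fail)),
  (1, Cert.step [1, 0, 1, 3, 2, 4, 5, 1, 5, 4, 2, 3, 0, 1] (Cert.step [0, 1, 0, 5, 1, 0, 2, 1, 0, 3, 2, 5, 4, 3, 1, 2, 3, 4, 3, 0, 1, 2, 3, 0] (Cert.fail))),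
  (1, Cert.step [1, 0, 3, 2, 3, 1, 2, 0, 1, 0, 1, 0] (Cert.step [1, 3, 4, 5, 1, 2, 3, 2, 1, 0, 1, 0, 4, 1, 2, 3, 4, 2, 3, 2, 1, 5, 2, 3, 2] (Cert.fail))),
  (1, Cert.step [0, 1, 0, 4, 5, 1, 2, 0, 1, 5, 4, 2, 3, 0] (Cert.fail)),
  (1, Cert.step [1, 0, 2, 4, 5, 1, 2, 6, 5, 6, 5, 3, 2, 1, 0, 1, 5, 4, 3, 0] (Cert.step [4, 3, 2, 1, 3, 2, 1, 5, 1, 2, 3, 4, 2, 3, 0, 1, 2, 3, 2, 1, 5, 4, 3, 1, 2] (Cert.fail))),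
  (1, Cert.fail),
  (1, Cert.step [0, 1, 0, 3, 1, 2, 1, 0, 1, 0] (Cert.step [1, 2, 1, 3, 4, 3, 2, 1, 5, 1, 2, 3, 4, 2, 3, 0, 1, 2, 3, 4, 2, 3, 1] (Cert.fail))),
  (1, Cert.step [1, 0, 1, 0, 4, 5, 1, 5, 4, 2, 3, 1, 0] (Cert.step [3, 4, 3, 2, 3, 2, 1, 0, 5, 1, 0, 2, 3, 4, 3, 1, 2, 3, 1, 2, 1, 0, 1, 5, 4] (Cert.fail))),
  (1, Cert.step [0, 6, 1, 2, 3, 5, 1, 2, 3, 6, 0, 1, 5, 2, 1, 6, 1, 2, 3] (Cert.fail)),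
  (1, Cert.step [0, 1, 0, 1, 2, 1, 3, 2, 3, 0, 1] (Cert.fail)),
  (1, Cert.step [0, 1, 0, 1, 2, 1, 3, 2, 3, 1, 2, 3] (Cert.step [1, 0, 2, 1, 3, 4, 5, 1, 0, 1, 2, 3, 1, 2, 1, 0, 1, 5, 4, 3, 2, 0] (Cert.fail))),
  (1, Cert.fail),
  (1, Cert.step [0, 6, 1, 0, 2, 1, 0, 3, 2, 1, 3, 2, 3, 2, 1, 0, 1, 6, 2, 3] (Cert.fail)),
  (1, Cert.step [3, 2, 3, 2, 4, 5, 1, 5, 4, 2, 3, 1, 2, 3] (Cert.step [1, 2, 4, 5, 1, 2, 3, 2, 4, 3, 2, 1, 0, 1, 2, 3, 4, 3, 2, 3, 1, 2, 3, 2, 1, 5, 0] (Cert.fail))),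
  (1, Cert.step [0, 6, 1, 0, 1, 5, 0, 1, 6, 2, 1, 5, 3, 2, 3] (Cert.fail)),
  (1, Cert.step [1, 6, 5, 1, 0, 2, 1, 0, 1, 3, 2, 0, 1, 5, 3, 2, 1, 6, 0] (Cert.fail)),
  (1, Cert.step [1, 0, 3, 2, 3, 2, 3, 1, 0, 1] (Cert.step [0, 2, 1, 3, 2, 3, 2, 1, 0, 4, 3, 1, 2, 3, 1, 2, 0, 1, 5, 4, 1, 2, 3, 0, 1] (Cert.fail))),
  (1, Cert.step [2, 1, 3, 6, 1, 2, 5, 1, 2, 6, 3, 2, 3, 2, 1, 5, 2, 1, 6, 3] (Cert.step [0, 2, 1, 5, 1, 2, 3, 2, 4, 3, 2, 3, 1, 0, 1, 5, 1, 2, 3] (Cert.fail))),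
  (1, Cert.step [0, 3, 2, 3, 1, 2, 1, 0, 1, 0] (Cert.fail)),
  (1, Cert.fail),
  (1, Cert.step [2, 1, 0, 1, 3, 2, 4, 5, 1, 5, 4, 0, 1, 0] (Cert.step [1, 2, 1, 3, 4, 3, 2, 1, 5, 1, 2, 3, 4, 2, 3, 0, 1, 2, 3, 4, 2, 3, 1] (Cert.fail))),
  (1, Cert.step [1, 0, 1, 0, 3, 2, 3, 1, 0, 1] (Cert.step [0, 2, 3, 2, 1, 4, 3, 2, 1, 5, 1, 3, 2, 0, 1, 5, 4, 0, 1, 0] (Cert.fail))),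
  (1, Cert.step [1, 0, 6, 1, 2, 5, 1, 6, 3, 2, 1, 5, 3, 2, 1, 6, 2, 0, 1] (Cert.step [2, 1, 0, 4, 5, 1, 2, 3, 2, 1, 0, 1, 0, 1, 5, 4, 3, 2, 1] (Cert.fail))),
  (1, Cert.step [0, 3, 2, 3, 2, 3, 1, 0, 1] (Cert.step [1, 2, 3, 4, 5, 1, 0, 2, 3, 2, 1, 0, 1, 2, 3, 2, 1, 5, 4, 0] (Cert.fail))),
  (1, Cert.step [5, 1, 0, 1, 2, 3, 2, 4, 1, 5, 4, 2, 3, 0, 1, 2] (Cert.step [0, 3, 4, 3, 2, 5, 1, 0, 2, 3, 2, 1, 4, 5, 2, 1, 0, 1, 2, 3, 4, 2, 3, 0] (Cert.fail))),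
  (1, Cert.step [2, 1, 0, 1, 2, 3] (Cert.step [1, 3, 4, 5, 1, 2, 3, 2, 1, 3, 4, 3, 0, 1, 2, 3, 2, 1, 5, 4, 0] (Cert.fail))),
  (1, Cert.step [1, 0, 5, 1, 2, 3, 2, 3, 4, 6, 5, 6, 3, 2, 1, 5, 4, 2, 0, 1] (Cert.step [1, 3, 4, 5, 1, 0, 2, 3, 4, 2, 3, 1, 2, 0, 1, 5, 2, 3, 2, 3, 1, 2] (Cert.fail))),
  (1, Cert.fail),
  (1, Cert.step [1, 3, 2, 3, 2, 1, 0, 1, 2, 3, 1, 0] (Cert.step [0, 3, 2, 5, 1, 0, 2, 5, 4, 1, 2, 3, 2, 3, 4, 1, 2, 3, 0, 1] (Cert.fail))),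
  (1, Cert.step [1, 0, 1, 0, 4, 5, 1, 4, 2, 3, 2, 1, 0, 1, 5] (Cert.step [2, 1, 3, 2, 3, 4, 5, 1, 0, 1, 2, 3, 1, 2, 0, 1, 5, 4, 0] (Cert.fail))),
  (1, Cert.step [5, 1, 0, 1, 2, 3, 2, 4, 1, 5, 4, 2, 3, 2, 0] (Cert.step [0, 5, 1, 0, 2, 1, 5, 3, 2, 3, 4, 3, 2, 3, 0, 1, 2, 0, 1, 5, 0] (Cert.fail))),
  (1, Cert.fail),
  (1, Cert.step [0, 1, 3, 2, 4, 5, 1, 5, 4, 2, 3, 2, 0, 1] (Cert.step [0, 2, 4, 3, 5, 1, 0, 1, 2, 3, 2, 5, 4, 3, 1, 2, 3, 2, 1, 5, 2, 3, 4, 2, 0] (Cert.fail))),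
  (1, Cert.step [1, 0, 4, 5, 1, 2, 6, 5, 6, 3, 4, 3, 2, 3, 2, 1, 5, 2, 0] (Cert.step [2, 3, 2, 4, 5, 1, 0, 2, 1, 3, 2, 3, 2, 4, 1, 2, 3, 2, 1, 0, 1, 5, 0] (Cert.fail))),
  (1, Cert.step [1, 2, 6, 1, 2, 3, 2, 5, 1, 2, 3, 0, 1, 2, 0, 1, 6, 0] (Cert.step [2, 1, 0, 1, 2, 5, 1, 2, 3, 4, 3, 2, 1, 5, 3, 1, 2, 1] (Cert.fail))),
  (1, Cert.step [5, 1, 0, 1, 2, 3, 2, 4, 1, 5, 4, 2, 3, 2, 0] (Cert.step [1, 2, 3, 4, 5, 1, 0, 2, 3, 2, 1, 0, 1, 2, 3, 2, 1, 5, 4, 0] (Cert.fail))),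
  (1, Cert.step [0, 1, 3, 2, 3, 4, 5, 1, 5, 4, 2, 3, 1, 2, 0, 1] (Cert.step [0, 1, 5, 1, 0, 1, 2, 5, 1, 3, 4, 2, 3, 2, 1, 0, 1, 5, 2, 3, 2, 3] (Cert.fail))),
  (1, Cert.fail),
  (1, Cert.step [1, 0, 4, 5, 1, 2, 6, 5, 6, 3, 4, 3, 2, 3, 2, 1, 5, 0] (Cert.fail)),
  (1, Cert.fail),
  (1, Cert.step [0, 1, 3, 2, 4, 5, 1, 5, 4, 0, 1, 2, 0] (Cert.step [2, 3, 2, 4, 5, 1, 0, 1, 2, 3, 2, 1, 0, 1, 5, 4, 2, 3, 2, 1] (Cert.step [0, 2, 1, 0, 4, 3, 2, 3, 5, 1, 2, 4, 3, 2, 0, 1, 5, 2, 3, 4, 3, 0, 1, 2, 0] (Cert.done [0, 2, 1, 0, 4, 3, 2, 3, 5, 1, 2, 4, 3, 2, 0, 1, 5, 2, 3, 4, 3, 0, 1, 2, 0, 2, 3, 2, 4, 5, 1, 0, 1, 2, 3, 2, 1, 0, 1, 5, 4, 2, 3, 2, 1, 0, 1, 3, 2, 4, 5, 1, 5, 4, 0, 1, 2, 0, 4, 6, 1,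 2, 3, 2, 1, 0, 5, 1, 2, 3, 2, 3, 2, 1, 5, 6, 2, 3, 1, 2, 0, 1, 6, 2, 6, 1, 0, 2, 1, 3, 2, 4, 3, 2, 1, 6, 5, 1, 2, 3])))),
  (1, Cert.step [0, 2, 6, 1, 0, 2, 1, 0, 3, 2, 1, 5, 2, 3, 2, 1, 6] (Cert.fail)),
  (1, Cert.step [0, 1, 0, 4, 5, 1, 0, 2, 1, 5, 4, 2, 3, 2, 0, 1] (Cert.step [4, 3, 2, 1, 3, 0, 1, 2, 0, 1, 5, 2, 3, 1, 2, 3, 4, 2] (Cert.fail))),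
  (1, Cert.step [0, 6, 1, 0, 2, 1, 0, 3, 2, 1, 3, 2, 3, 2, 1, 0, 1, 6, 2, 3] (Cert.step [2, 1, 0, 1, 2, 5, 1, 2, 3, 4, 3, 2, 1, 5, 3, 1, 2, 1] (Cert.fail))),
  (1, Cert.fail),
  (1, Cert.step [3, 2, 3, 2, 4, 5, 1, 5, 4, 2, 3, 0, 1] (Cert.step [2, 1, 3, 2, 0, 1, 5, 3, 0, 1, 2, 3, 0, 1, 2] (Cert.fail))),
  (1, Cert.step [1, 6, 5, 1, 0, 2, 1, 0, 1, 3, 2, 0, 1, 5, 3, 2, 1, 6, 0] (Cert.step [1, 3, 4, 5, 1, 2, 3, 2, 1, 3, 4, 3, 0, 1, 2, 3, 2, 1, 5, 4, 0] (Cert.fail))),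
  (1, Cert.step [0, 2, 1, 3, 4, 3, 2, 0, 1, 2, 3, 4, 3, 2, 3, 0] (Cert.step [3, 2, 1, 5, 1, 0, 1, 3, 2, 3, 4, 2, 3, 2, 1, 5, 1, 2, 0] (Cert.fail))),
  (1, Cert.fail),
  (1, Cert.step [0, 2, 1, 0, 2, 3, 1, 2, 3] (Cert.step [1, 2, 1, 4, 5, 1, 0, 1, 2, 3, 2, 3, 5, 1, 0, 1, 5, 1, 2, 3, 4, 3, 2] (Cert.fail))),
  (1, Cert.step [1, 0, 4, 5, 1, 2, 3, 6, 5, 6, 4, 2, 3, 2, 1, 0, 1, 5, 0] (Cert.step [4, 3, 2, 1, 3, 2, 1, 5, 1, 2, 3, 4, 2, 3, 0, 1, 2, 3, 2, 1, 5, 4, 3, 1, 2] (Cert.fail))),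
  (1, Cert.step [0, 1, 0, 3, 2, 3, 1, 0, 1, 2] (Cert.fail)),
  (1, Cert.step [0, 1, 0, 4, 5, 1, 0, 2, 1, 5, 4, 2, 3, 2, 0] (Cert.fail))]),
  (271, Cert.bad 0)]

/-- the candidates for the image of the third generator, for the exponent 1 -/
def tab1 : List (List ℕ × ℕ × ℕ × ℕ) := [
  ([0, 1, 3, 2, 1, 3, 5, 1, 0, 1, 2, 3, 0, 1, 2, 0, 1, 0, 1, 0, 1, 3, 2, 3, 4, 5, 1, 5, 4, 2, 3, 1, 2, 0, 1, 0, 3, 1, 0], 0, 1, 1),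
  ([1, 0, 3, 2, 1, 4, 3, 2, 3, 2, 1, 4, 5, 2, 0, 1, 5, 2, 3, 0, 1, 0, 3, 2, 3, 4, 5, 1, 5, 4, 1], 0, 1, 1),
  ([1, 0, 4, 3, 2, 1, 0, 3, 4, 1, 2, 3, 1, 2, 3, 4, 3, 1, 0, 1, 2, 1, 0, 2, 1, 3, 2, 3, 2, 1, 0, 4, 3, 1, 2, 3, 1, 2, 0, 1, 5, 4, 1, 2, 3, 0, 1, 0, 3, 2, 3, 2, 1, 0, 1, 2, 1, 0, 3, 4, 5, 2, 0], 0, 1, 1),
  ([0, 2, 1, 0, 3, 4, 3, 2, 5, 1, 0, 2, 3, 4, 2, 1, 5, 3, 2, 3, 4, 0, 1, 2, 4, 5, 1, 0, 2, 1, 3, 2, 1, 3, 4, 2, 3, 2, 1, 5, 3, 4, 2, 3, 2, 0, 1, 0, 4, 5, 1, 5, 4, 2, 3, 2, 3, 0, 4, 6, 1, 0, 2, 1, 3, 2, 6, 1, 0, 1, 2, 3, 2, 1, 6, 2, 0], 0, 1, 1),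
  ([1, 2, 1, 0, 1, 3, 4, 3, 2, 1, 3, 2, 1, 4, 3, 0, 1, 2, 3, 4, 0, 5, 1, 2, 3, 4, 3, 2, 1, 5, 2, 1, 0, 1, 3, 2, 4, 5, 1, 5, 4, 3, 2, 3, 1, 4, 6, 1, 0, 5, 1, 0, 1, 6, 3], 0, 1, 1),
  ([3, 4, 3, 2, 1, 0, 3, 2, 3, 5, 1, 2, 3, 2, 1, 5, 4, 3, 2, 3, 0, 1, 2, 3, 4, 3, 0, 3, 4, 5, 1, 0, 1, 2, 3, 4, 5, 2, 0, 1, 0, 1, 5, 2, 3, 2, 3, 1, 0, 2, 4, 5, 1, 2, 3, 2, 1, 5, 4, 3, 2, 0, 1, 4, 6, 1, 2, 3, 2, 1, 0, 3, 5, 1, 0, 2, 1, 6, 5, 1, 2, 3, 2, 1, 0, 1, 6], 0, 1, 1),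
  ([1, 2, 3, 4, 3, 2, 3, 2, 4, 5, 1, 2, 0, 1, 5, 1, 2, 3, 2, 3, 4, 3, 2, 1, 0, 1, 0, 1, 2, 1, 3, 2, 3, 0, 4, 6, 1, 2, 3, 2, 1, 3, 2, 3, 5, 1, 6, 1, 5, 1, 2, 3, 1, 2, 0, 1, 6, 5], 0, 1, 1),
  ([2, 1, 3, 2, 5, 1, 0, 1, 0, 5, 4, 2, 3, 2, 1, 0, 1, 5, 4, 2, 3, 1, 2, 0, 2, 3, 4, 5, 1, 0, 1, 2, 1, 3, 2, 1, 0, 1, 5, 4, 3, 1, 2, 3, 2, 3, 2, 1, 0, 1, 2, 1, 4, 6, 1, 2, 3, 2, 1, 0, 5, 1, 2, 3, 6, 2, 3, 2, 1, 6, 5, 1, 2, 3, 2, 1, 6, 1], 0, 1, 1),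
  ([1, 2, 1, 0, 1, 3, 4, 3, 2, 1, 3, 2, 1, 4, 3, 0, 1, 2, 3, 4, 0, 1, 3, 2, 1, 3, 2, 3, 2, 1, 0, 4, 5, 1, 2, 3, 4, 2, 3, 1, 2, 1, 0, 1, 5, 3, 1, 0, 1, 3, 2, 4, 5, 1, 5, 4, 3, 2, 3, 1, 0, 4, 6, 1, 0, 1, 2, 3, 2, 5, 3, 2, 3, 2, 1, 6, 2, 0], 0, 1, 1),
  ([0, 1, 2, 1, 0, 1, 3, 2, 4, 5, 1, 2, 3, 4, 2, 1, 5, 3, 0, 1, 2, 3, 2, 1, 0, 1, 2, 3, 2, 3, 2, 4, 3, 5, 1, 2, 3, 2, 4, 3, 1, 5, 1, 2, 3, 0, 1, 2, 0, 1, 5, 4, 1, 2, 1, 0, 2, 4, 5, 1, 2, 3, 2, 1, 5, 4, 3, 2, 0, 1, 0, 4, 6, 1, 2, 3, 2, 1, 3, 2, 3, 5, 1, 6, 1, 5, 2, 3, 1, 2, 3, 2, 1, 6, 1], 0, 1, 1),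
  ([0, 2, 1, 0, 4, 3, 2, 3, 5, 1, 2, 4, 3, 2, 0, 1, 5, 2, 3, 4, 3, 0, 1, 2, 0, 1, 2, 1, 4, 5, 1, 0, 1, 2, 3, 2, 3, 5, 4, 3, 1, 2, 3, 1, 0, 1, 2, 3, 4, 0, 1, 0, 1, 0, 3, 2, 3, 1, 0, 1, 0, 4, 6, 1, 2, 3, 2, 1, 3, 6, 5, 1, 0, 1, 5, 6, 1, 2, 3, 2, 1, 6, 4], 0, 1, 1),
  ([0, 2, 1, 0, 3, 4, 3, 2, 5, 1, 0, 2, 3, 4, 2, 1, 5, 3, 2, 3, 4, 0, 1, 2, 0, 2, 3, 2, 1, 4, 3, 2, 1, 3, 2, 1, 0, 5, 1, 4, 3, 2, 3, 0, 1, 2, 3, 0, 1, 2, 3, 4, 3, 2, 4, 5, 1, 5, 4, 1, 0, 1, 2, 3, 6, 1, 2, 3, 2, 1, 3, 4, 6, 5, 1, 2, 3, 2, 1, 5, 6, 4, 3, 1, 2, 3, 2, 1, 6, 0], 0, 1, 1),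
  ([1, 0, 4, 3, 2, 1, 0, 3, 4, 1, 2, 3, 1, 2, 3, 4, 3, 1, 0, 1, 2, 1, 3, 2, 5, 1, 0, 1, 2, 3, 2, 1, 0, 3, 4, 1, 2, 3, 2, 1, 5, 3, 0, 4, 5, 1, 2, 3, 6, 5, 6, 4, 2, 3, 2, 1, 0, 1, 5, 0, 3, 4, 3, 6, 1, 0, 2, 1, 3, 2, 4, 3, 2, 5, 1, 0], 0, 0, 1),
  ([1, 0, 3, 2, 1, 3, 4, 3, 2, 3, 4, 1, 2, 0, 1, 5, 3, 1, 2, 3, 1, 0, 1, 2, 0, 1, 4, 3, 2, 5, 6, 1, 0, 5, 1, 0, 1, 6, 3, 2, 3, 4, 3, 1, 2, 1, 3, 4, 3, 0, 6, 1, 0, 2, 1, 3, 2, 4, 3, 2, 5, 1, 0], 0, 1, 0),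
  ([0, 2, 1, 0, 3, 4, 3, 2, 5, 1, 0, 2, 3, 4, 2, 1, 5, 3, 2, 3, 4, 0, 1, 2, 3, 2, 1, 3, 4, 3, 2, 3, 2, 4, 1, 2, 3, 0, 1, 0, 1, 2, 3, 1, 0, 4, 5, 1, 2, 3, 6, 5, 6, 4, 2, 3, 2, 1, 0, 1, 5, 2, 0, 3, 4, 5, 3, 0, 6, 1, 0, 2, 1, 3, 2, 4, 3, 2, 5, 1, 0], 0, 1, 0),
  ([3, 4, 3, 2, 1, 0, 3, 2, 3, 5, 1, 2, 3, 2, 1, 5, 4, 3, 2, 3, 0, 1, 2, 3, 4, 3, 1, 2, 1, 3, 2, 1, 0, 1, 3, 4, 5, 1, 2, 3, 2, 0, 1, 5, 4, 1, 0, 3, 2, 3, 4, 3, 2, 5, 1, 2, 3, 2, 1, 5, 0, 1, 2, 3, 4, 0, 3, 4, 5, 3, 6, 1, 0, 2, 1, 3, 2, 4, 3, 2, 5, 1, 0], 0, 0, 1),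
  ([0, 2, 1, 0, 4, 3, 2, 3, 5, 1, 2, 4, 3, 2, 0, 1, 5, 2, 3, 4, 3, 0, 1, 2, 0, 1, 3, 4, 5, 1, 2, 3, 2, 1, 3, 4, 3, 0, 1, 2, 3, 2, 1, 5, 4, 0, 1, 3, 2, 3, 2, 4, 5, 1, 5, 4, 2, 3, 0, 1, 0, 4, 3, 5, 1, 6, 1, 0, 2, 1, 3, 2, 4, 3, 2, 5, 1, 0], 0, 0, 1),
  ([1, 2, 1, 0, 1, 3, 4, 3, 2, 1, 3, 2, 1, 4, 3, 0, 1, 2, 3, 4, 0, 1, 3, 2, 3, 2, 1, 4, 3, 2, 3, 5, 2, 1, 5, 4, 2, 3, 2, 1, 0, 1, 5, 1, 0, 3, 2, 3, 4, 5, 1, 5, 4, 2, 3, 4, 6, 1, 5, 6, 1, 0, 1, 6, 3, 6, 1, 0, 2, 1, 3, 2, 4, 3, 2, 5, 1, 0], 0, 0, 1),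
  ([3, 4, 3, 2, 1, 0, 3, 2, 3, 5, 1, 2, 3, 2, 1, 5, 4, 3, 2, 3, 0, 1, 2, 3, 4, 2, 1, 5, 1, 0, 1, 3, 2, 3, 4, 2, 3, 2, 1, 5, 1, 2, 0, 3, 2, 1, 3, 2, 3, 0, 1, 2, 0, 1, 4, 3, 5, 1, 0, 6, 1, 0, 2, 1, 3, 2, 4, 3, 2, 5, 1, 0], 0, 1, 0),
  ([0, 2, 1, 0, 3, 4, 3, 2, 5, 1, 0, 2, 3, 4, 2, 1, 5, 3, 2, 3, 4, 0, 1, 4, 3, 5, 1, 0, 1, 2, 3, 2, 5, 4, 3, 1, 2, 3, 2, 1, 5, 2, 3, 4, 2, 0, 3, 2, 1, 0, 1, 2, 0, 4, 6, 1, 0, 2, 1, 3, 2, 3, 0, 1, 6, 5, 2, 3, 2, 1, 6, 2, 6, 1, 0, 2, 1, 3, 2, 4, 3, 2, 5, 1, 0], 0, 0, 1),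
  ([6, 1, 2, 3, 2, 1, 3, 4, 5, 1, 0, 1, 2, 6, 3, 2, 1, 5, 4, 3, 0, 1, 2, 0, 1, 5, 6, 1, 0], 1, 0, 0),
  ([3, 4, 3, 2, 1, 0, 3, 2, 3, 5, 1, 2, 3, 2, 1, 5, 4, 3, 2, 3, 0, 1, 2, 3, 4, 2, 4, 3, 2, 5, 1, 4, 2, 3, 2, 0, 1, 5, 4, 3, 2, 3, 4, 2, 3, 0, 3, 2, 3, 0, 1, 0, 1, 2, 1, 4, 6, 1, 2, 3, 2, 1, 0, 3, 5, 1, 0, 2, 1, 6, 5, 1, 2, 3, 2, 1, 0, 1, 6, 0, 6, 1, 0, 2, 1, 3, 2, 4, 3, 2, 5, 1, 0], 0, 1, 0),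
  ([3, 4, 3, 2, 1, 0, 3, 2, 3, 5, 1, 2, 3, 2, 1, 5, 4, 3, 2, 3, 0, 1, 2, 3, 4, 3, 1, 2, 1, 3, 4, 3, 2, 1, 5, 1, 2, 3, 4, 2, 3, 0, 1, 2, 3, 4, 2, 3, 1, 0, 1, 0, 4, 5, 1, 5, 4, 1, 2, 1, 0, 1, 6, 1, 2, 3, 2, 1, 0, 5, 1, 2, 3, 4, 6, 2, 3, 2, 1, 6, 5, 1, 2, 3, 2, 1, 6, 1, 6, 1, 0, 2, 1, 3, 2, 4, 3, 2, 5, 1, 0], 0, 0, 1),
  ([2, 1, 3, 2, 5, 1, 0, 1, 0, 5, 4, 2, 3, 2, 1, 0, 1, 5, 4, 2, 3, 1, 2, 1, 2, 3, 2, 1, 0, 5, 1, 0, 2, 1, 0, 3, 4, 3, 2, 3, 2, 1, 0, 1, 5, 0, 3, 2, 3, 2, 4, 5, 1, 5, 4, 2, 3, 0, 1, 0, 4, 6, 1, 2, 3, 2, 1, 0, 3, 5, 1, 0, 2, 1, 6, 5, 1, 2, 3, 2, 1, 2, 1, 3, 2, 4, 3, 2, 5, 1, 0], 0, 1, 0),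
  ([2, 1, 3, 2, 5, 1, 0, 1, 0, 5, 4, 2, 3, 2, 1, 0, 1, 5, 4, 2, 3, 1, 2, 0, 1, 0, 2, 1, 4, 3, 2, 3, 2, 1, 4, 0, 1, 2, 3, 0, 1, 2, 3, 4, 1, 0, 6, 1, 0, 1, 6, 1, 5, 1, 6, 3, 2, 1, 0, 1, 0, 1, 6, 1, 2, 3, 2, 1, 4, 3, 6, 5, 1, 2, 6], 0, 1, 0),
  ([2, 1, 3, 2, 5, 1, 0, 1, 0, 5, 4, 2, 3, 2, 1, 0, 1, 5, 4, 2, 3, 1, 2, 1, 0, 3, 2, 1, 0, 5, 1, 0, 1, 2, 1, 4, 3, 2, 3, 4, 3, 1, 2, 3, 1, 2, 0, 3, 2, 3, 2, 4, 5, 1, 5, 4, 2, 3, 0, 1, 2, 6, 1, 0, 1, 2, 3, 2, 1, 0, 4, 3, 2, 4, 3, 2, 1, 5, 3, 4, 1, 4, 3, 6, 5, 1, 2, 6], 0, 0, 1),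
  ([3, 4, 3, 2, 1, 0, 3, 2, 3, 5, 1, 2, 3, 2, 1, 5, 4, 3, 2, 3, 0, 1, 2, 3, 4, 3, 0, 2, 1, 5, 1, 2, 3, 2, 4, 3, 2, 3, 1, 0, 1, 5, 1, 2, 3, 0, 1, 2, 6, 1, 5, 1, 6, 1, 0, 1, 6, 0, 1, 4, 6, 5, 6, 1, 2, 0, 6, 1, 2, 3, 2, 1, 4, 3, 6, 5, 1, 2, 6], 0, 1, 0),
  ([3, 4, 3, 2, 1, 0, 3, 2, 3, 5, 1, 2, 4, 3, 2, 1, 5, 3, 2, 3, 0, 1, 2, 3, 4, 3, 0, 1, 0, 5, 1, 0, 2, 1, 0, 3, 2, 5, 4, 3, 1, 2, 3, 4, 3, 0, 1, 4, 5, 1, 5, 4, 0, 1, 2, 0, 1, 4, 6, 1, 5, 6, 1, 0, 1, 6, 2, 0, 6, 1, 2, 3, 2, 1, 4, 3, 6, 5, 1, 2, 6], 0, 0, 1),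
  ([1, 0, 4, 3, 2, 1, 0, 3, 4, 1, 2, 3, 1, 2, 3, 4, 3, 1, 0, 1, 2, 0, 1, 0, 4, 3, 2, 5, 1, 0, 1, 4, 3, 2, 0, 1, 5, 4, 3, 2, 3, 4, 0, 1, 3, 2, 4, 5, 1, 5, 4, 2, 3, 0, 1, 3, 4, 6, 1, 0, 2, 1, 3, 2, 3, 0, 1, 2, 3, 2, 1, 0, 1, 6, 2, 6, 1, 2, 3, 2, 1, 4, 3, 6, 5, 1, 2, 6], 0, 1, 0),
  ([3, 2, 1, 0, 1, 2, 3, 2, 1, 0, 3, 5, 1, 2, 4, 3, 2, 1, 5, 4, 2, 3, 1, 0, 1, 2, 1, 0, 2, 1, 3, 4, 5, 1, 2, 3, 2, 1, 0, 3, 2, 4, 3, 2, 1, 5, 1, 2, 3, 1, 2, 3, 4, 0, 1, 2, 3, 4, 5, 1, 2, 3, 2, 1, 5, 4, 3, 4, 6, 1, 0, 2, 1, 3, 2, 3, 0, 1, 6, 5, 2, 3, 2, 1, 6, 2, 6, 1, 2, 3, 2, 1, 4, 3, 6, 5, 1, 2, 6], 0, 0, 1),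
  ([0, 1, 2, 1, 0, 1, 3, 2, 4, 5, 1, 2, 3, 4, 2, 1, 5, 3, 0, 1, 2, 3, 2, 1, 0, 1, 2, 3, 1, 5, 1, 0, 1, 0, 2, 1, 3, 2, 4, 3, 5, 1, 0, 1, 5, 2, 3, 4, 1, 2, 3, 0, 1, 0, 1, 0, 3, 2, 3, 1, 0, 4, 6, 1, 0, 2, 1, 3, 2, 3, 2, 5, 6, 1, 5, 1, 2, 3, 2, 0, 1, 6, 0, 6, 1, 2, 3, 2, 1, 4, 3, 6, 5, 1, 2, 6], 0, 1, 0),
  ([3, 4, 3, 2, 1, 0, 3, 2, 3, 5, 1, 2, 3, 2, 1, 5, 4, 3, 2, 3, 0, 1, 2, 3, 4, 3, 0, 4, 5, 1, 2, 3, 2, 1, 0, 1, 2, 3, 2, 0, 1, 5, 4, 3, 2, 3, 2, 3, 2, 4, 5, 1, 5, 4, 2, 3, 1, 2, 3, 0, 4, 6, 1, 0, 2, 3, 2, 1, 0, 5, 1, 0, 2, 1, 5, 6, 3, 2, 3, 1, 2, 0, 2, 3, 2, 1, 4, 3, 6, 5, 1, 2, 6], 0, 0, 1),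
  ([0, 2, 1, 0, 3, 4, 3, 2, 5, 1, 0, 2, 3, 4, 2, 1, 5, 3, 2, 3, 4, 0, 1, 2, 0, 1, 2, 3, 2, 1, 0, 5, 1, 0, 2, 1, 0, 3, 4, 3, 2, 3, 2, 1, 0, 1, 5, 6, 1, 2, 5, 1, 6, 5, 6, 1, 5, 2, 1, 6, 4, 6, 1, 2, 3, 2, 1, 3, 6, 5, 1, 6, 5, 6, 1, 5, 6, 1, 2, 3, 2, 1, 6, 4, 6, 1, 2, 3, 2, 1, 4, 3, 6, 5, 1, 2, 6], 0, 0, 1),
  ([0, 1, 2, 1, 0, 1, 3, 2, 4, 5, 1, 2, 3, 4, 2, 1, 5, 3, 0, 1, 2, 3, 2, 1, 0, 1, 4, 5, 1, 0, 1, 0, 2, 3, 4, 2, 1, 0, 1, 5, 1, 2, 3, 2, 3, 1, 0, 1, 2, 1, 4, 6, 1, 2, 3, 5, 1, 6, 2, 1, 5, 3, 2, 1, 6, 4, 6, 1, 0, 1, 2, 1, 0, 3, 2, 4, 5, 1, 2, 3, 2, 1, 6, 1, 5, 3, 6, 5, 1, 2, 6], 0, 1, 0),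
  ([0, 2, 1, 0, 3, 4, 3, 2, 5, 1, 0, 2, 3, 4, 2, 1, 5, 3, 2, 3, 4, 0, 1, 2, 3, 2, 1, 3, 4, 3, 2, 3, 2, 4, 1, 2, 3, 0, 1, 0, 1, 2, 3, 0, 3, 2, 3, 4, 5, 1, 5, 4, 2, 3, 0, 1, 2, 0, 4, 6, 1, 0, 2, 1, 3, 2, 5, 1, 6, 0, 1, 5, 3, 2, 3, 1, 2, 0, 1, 6, 2, 6, 1, 2, 3, 2, 1, 4, 3, 6, 5, 1, 2, 6], 0, 1, 0),
  ([3, 4, 3, 2, 1, 0, 3, 2, 3, 5, 1, 2, 4, 3, 2, 1, 5, 3, 2, 3, 0, 1, 2, 3, 4, 3, 0, 1, 0, 4, 5, 1, 5, 4, 2, 3, 2, 3, 6, 1, 0, 2, 1, 3, 2, 6, 5, 1, 2, 3, 2, 4, 3, 2, 1, 5, 0, 4, 3, 6, 5, 1, 2, 6], 0, 0, 1),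
  ([0, 5, 1, 0, 2, 1, 5, 3, 2, 3, 4, 3, 2, 3, 0, 1, 2, 0, 1, 5, 3, 2, 3, 2, 3, 1, 2, 0, 4, 0, 6, 1, 0, 1, 2, 3, 2, 1, 4, 3, 2, 1, 0, 5, 1, 6], 0, 1, 0),
  ([3, 4, 3, 2, 1, 0, 3, 2, 3, 5, 1, 2, 4, 3, 2, 1, 5, 3, 2, 3, 0, 1, 2, 3, 4, 3, 2, 3, 4, 3, 2, 1, 0, 5, 2, 3, 1, 0, 1, 2, 3, 4, 2, 3, 2, 1, 0, 2, 1, 3, 2, 3, 2, 3, 1, 2, 4, 5, 3, 0, 6, 1, 0, 1, 2, 3, 2, 1, 4, 3, 2, 1, 0, 5, 1, 6], 0, 1, 0),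
  ([1, 2, 3, 5, 1, 2, 3, 2, 1, 5, 4, 0, 1, 2, 3, 2, 1, 5, 3, 2, 1, 2, 4, 3, 2, 1, 3, 2, 5, 1, 0, 2, 1, 0, 3, 1, 2, 3, 4, 0, 1, 3, 2, 4, 5, 1, 5, 4, 2, 3, 2, 0, 6, 1, 0, 1, 6, 5, 1, 6, 2, 0, 6, 1, 0, 1, 2, 3, 2, 1, 4, 3, 2, 1, 0, 5, 1, 6], 0, 1, 0),
  ([0, 2, 1, 0, 3, 4, 3, 2, 5, 1, 0, 2, 3, 4, 2, 1, 5, 3, 2, 3, 4, 0, 1, 2, 0, 1, 0, 2, 1, 3, 4, 5, 1, 0, 1, 2, 1, 0, 3, 2, 1, 5, 4, 0, 1, 2, 0, 1, 0, 2, 3, 2, 6, 1, 0, 1, 6, 1, 5, 1, 6, 3, 2, 1, 4, 5, 1, 2, 0, 6, 1, 0, 1, 2, 3, 2, 1, 4, 3, 2, 1, 0, 5, 1, 6], 0, 1, 0),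
  ([1, 2, 3, 5, 1, 2, 3, 2, 1, 5, 4, 0, 1, 2, 3, 2, 1, 5, 3, 2, 1, 3, 2, 1, 4, 3, 2, 1, 3, 2, 1, 5, 0, 1, 2, 3, 2, 3, 4, 1, 2, 3, 0, 6, 1, 0, 2, 1, 0, 3, 2, 1, 5, 2, 3, 2, 1, 6, 4, 3, 2, 3, 0, 6, 1, 0, 1, 2, 3, 2, 1, 4, 3, 2, 1, 0, 5, 1, 6], 0, 1, 0),
  ([3, 4, 3, 2, 1, 0, 3, 2, 3, 5, 1, 2, 4, 3, 2, 1, 5, 3, 2, 3, 0, 1, 2, 3, 4, 3, 0, 2, 3, 5, 1, 0, 2, 1, 3, 2, 3, 5, 4, 2, 3, 2, 3, 1, 2, 0, 1, 5, 2, 0, 5, 1, 0, 1, 2, 3, 2, 4, 1, 5, 4, 0, 1, 6, 1, 5, 6, 1, 0, 1, 6, 2, 1, 6, 1, 0, 1, 2, 3, 2, 1, 4, 3, 2, 1, 0, 5, 1, 6], 0, 1, 0),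
  ([2, 1, 3, 2, 5, 1, 0, 1, 0, 5, 4, 2, 3, 2, 1, 0, 1, 5, 4, 2, 3, 1, 2, 1, 0, 3, 2, 1, 0, 5, 1, 0, 1, 2, 1, 4, 3, 2, 3, 4, 3, 1, 2, 3, 1, 2, 0, 3, 2, 3, 5, 1, 2, 6, 1, 0, 5, 1, 0, 1, 6, 1, 2, 3, 1, 2, 0, 4, 6, 1, 0, 2, 1, 3, 2, 6, 1, 0, 1, 2, 3, 2, 1, 6, 3, 0, 6, 1, 0, 1, 2, 3, 2, 1, 4, 3, 2, 1, 0, 5, 1, 6], 0, 1, 0),
  ([1, 2, 3, 5, 1, 2, 3, 2, 1, 5, 4, 0, 1, 2, 3, 2, 1, 5, 3, 2, 1, 3, 4, 3, 2, 3, 4, 6, 1, 0, 5, 1, 0, 1, 2, 6, 3, 1, 2, 1, 0, 1, 5, 2, 3, 4, 3, 2, 3, 1, 3, 2, 1, 0, 3, 4, 3, 2, 3, 1, 2, 3, 1, 2, 3, 4, 3, 6, 1, 0, 1, 2, 3, 2, 4, 3, 2, 1, 0, 6, 1, 0, 1, 2, 3, 4, 3, 2, 3, 2, 1, 6, 4, 0, 6, 1, 0, 1, 2, 3, 2, 1, 4, 3, 2, 1, 0, 5, 1, 6], 0, 1, 0),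
  ([4, 5, 1, 0, 2, 3, 2, 1, 5, 4, 3, 1, 0, 1, 2, 3, 1, 2, 1, 0, 6, 1, 0, 1, 5, 0, 1, 6, 2, 1, 5, 3, 2, 5, 6, 1, 2, 3, 2, 1, 4, 6, 5, 1, 2, 3, 2, 1, 5, 6, 4, 1, 2, 3, 2, 0, 1, 2, 3, 2, 1, 4, 3, 2, 1, 0, 5, 1, 6], 0, 1, 0),
  ([3, 4, 3, 2, 1, 0, 3, 2, 3, 5, 1, 2, 4, 3, 2, 1, 5, 3, 2, 3, 0, 1, 2, 3, 4, 3, 0, 2, 3, 4, 5, 1, 0, 1, 2, 1, 3, 2, 1, 0, 1, 5, 4, 3, 1, 6, 1, 0, 1, 6, 1, 5, 1, 6, 3, 1, 6, 1, 0, 1, 2, 3, 2, 4, 3, 2, 1, 0, 6, 1, 0, 1, 2, 3, 4, 3, 2, 3, 2, 1, 5, 1, 0, 1, 2, 3, 2, 1, 4, 3, 2, 1, 0, 5, 1, 6], 0, 1, 0),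
  ([2, 1, 3, 2, 5, 1, 0, 1, 0, 5, 4, 2, 3, 2, 1, 0, 1, 5, 4, 2, 3, 1, 2, 0, 4, 5, 1, 0, 2, 3, 4, 1, 2, 3, 0, 1, 2, 1, 0, 1, 5, 0, 1, 0, 2, 1, 0, 4, 5, 1, 5, 4, 2, 3, 1, 2, 0, 6, 1, 0, 2, 1, 3, 2, 6, 5, 1, 2, 3, 2, 4, 3, 2, 1, 5, 0, 1, 2, 3, 2, 1, 6, 3, 6, 1, 0, 1, 2, 3, 2, 1, 4, 3, 2, 1, 0, 5, 1, 6], 0, 1, 0),
  ([0, 2, 1, 0, 4, 3, 2, 3, 5, 1, 2, 4, 3, 2, 0, 1, 5, 2, 3, 4, 3, 0, 1, 2, 0, 3, 2, 1, 5, 1, 0, 1, 3, 2, 3, 4, 2, 3, 2, 1, 5, 1, 2, 6, 1, 0, 1, 6, 1, 5, 1, 6, 3, 1, 4, 3, 6, 1, 2, 5, 1, 0, 1, 5, 2, 0, 1, 2, 3, 2, 1, 4, 3, 2, 1, 0, 5, 1, 6], 0, 1, 0),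
  ([1, 0, 2, 5, 1, 0, 2, 1, 3, 2, 5, 1, 5, 3, 4, 3, 2, 3, 1, 2, 0, 1, 5, 2, 0, 1, 0, 1, 0, 3, 2, 1, 5, 1, 2, 3, 2, 1, 0, 3, 5, 4, 3, 1, 2, 0, 1, 5, 3, 2, 0, 2, 6, 1, 0, 2, 1, 0, 3, 2, 1, 5, 2, 3, 2, 1, 6, 0, 4, 1, 0, 6, 1, 0, 2, 1, 3, 2, 1, 3, 4, 3, 2, 3, 5, 1, 0], 0, 1, 0),
  ([3, 2, 5, 1, 0, 1, 2, 3, 5, 2, 3, 4, 1, 2, 3, 2, 0, 1, 5, 2, 1, 6, 5, 1, 0, 2, 1, 0, 1, 3, 2, 1, 5, 3, 2, 1, 6, 2, 4, 3, 5, 1, 6, 1, 0, 2, 1, 3, 2, 1, 3, 4, 3, 2, 3, 5, 1, 0], 0, 0, 1),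
  ([3, 4, 3, 2, 1, 0, 3, 2, 3, 5, 1, 2, 3, 2, 1, 5, 4, 3, 2, 3, 0, 1, 2, 3, 4, 3, 2, 1, 0, 4, 5, 1, 2, 3, 2, 1, 0, 1, 0, 1, 5, 4, 3, 2, 1, 0, 3, 2, 3, 2, 3, 1, 0, 1, 0, 1, 5, 1, 2, 6, 1, 0, 2, 1, 3, 2, 1, 3, 4, 3, 2, 3, 5, 1, 0], 0, 1, 1),
  ([1, 2, 1, 0, 1, 3, 4, 3, 2, 1, 3, 2, 1, 4, 3, 0, 1, 2, 3, 4, 0, 1, 0, 1, 0, 4, 5, 1, 0, 2, 3, 1, 5, 1, 2, 3, 4, 1, 2, 3, 2, 0, 1, 0, 5, 1, 2, 3, 2, 3, 4, 6, 5, 6, 3, 2, 1, 5, 4, 2, 0, 1, 4, 6, 1, 2, 3, 2, 3, 5, 2, 3, 2, 1, 0, 1, 6, 2, 6, 1, 0, 2, 1, 3, 2, 1, 3, 4, 3, 2, 3, 5, 1, 0], 0, 1, 0),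
  ([1, 0, 4, 3, 2, 1, 0, 3, 4, 1, 2, 3, 1, 2, 3, 4, 3, 1, 0, 1, 2, 1, 2, 1, 3, 5, 4, 1, 2, 3, 2, 1, 5, 4, 3, 2, 1, 0, 3, 2, 3, 2, 1, 0, 1, 2, 1, 0, 4, 3, 6, 1, 0, 2, 1, 3, 2, 0, 1, 5, 2, 3, 2, 1, 6, 4, 6, 1, 0, 2, 1, 3, 2, 1, 3, 4, 3, 2, 3, 5, 1, 0], 0, 1, 0),
  ([3, 2, 3, 2, 5, 1, 0, 1, 0, 2, 5, 4, 3, 2, 1, 0, 1, 5, 4, 3, 2, 1, 3, 4, 3, 5, 1, 0, 1, 3, 2, 3, 1, 2, 0, 1, 5, 4, 0, 4, 6, 1, 0, 2, 1, 3, 2, 3, 2, 5, 6, 5, 1, 6, 5, 2, 3, 2, 1, 6, 2, 6, 1, 0, 2, 1, 3, 2, 1, 3, 4, 3, 2, 3, 5, 1, 0], 0, 1, 0),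
  ([3, 2, 5, 1, 0, 1, 2, 3, 5, 2, 3, 4, 1, 2, 3, 2, 0, 1, 5, 1, 0, 3, 2, 3, 4, 5, 1, 5, 4, 2, 3, 0, 4, 6, 1, 0, 2, 1, 3, 2, 3, 2, 1, 0, 1, 2, 3, 2, 0, 1, 6, 5, 6, 1, 0, 2, 1, 3, 2, 1, 3, 4, 3, 2, 3, 5, 1, 0], 0, 0, 1),
  ([3, 4, 3, 2, 1, 0, 3, 2, 3, 5, 1, 2, 4, 3, 2, 1, 5, 3, 2, 3, 0, 1, 2, 3, 4, 3, 1, 2, 1, 3, 2, 1, 0, 1, 3, 4, 5, 1, 2, 3, 2, 0, 1, 5, 4, 1, 2, 6, 1, 2, 3, 2, 5, 1, 2, 3, 0, 1, 2, 0, 1, 6, 4, 6, 1, 2, 3, 2, 1, 3, 6, 5, 1, 0, 1, 5, 6, 1, 2, 3, 2, 1, 6, 4, 6, 1, 0, 2, 1, 3, 2, 1, 3, 4, 3, 2, 3, 5, 1, 0], 0, 0, 1),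
  ([0, 2, 1, 0, 4, 3, 2, 3, 5, 1, 2, 4, 3, 2, 0, 1, 5, 2, 3, 4, 3, 0, 1, 2, 0, 1, 3, 4, 5, 1, 0, 2, 3, 4, 2, 3, 1, 2, 0, 1, 5, 2, 3, 2, 3, 1, 2, 1, 3, 2, 3, 2, 4, 5, 1, 5, 4, 0, 1, 0, 6, 1, 0, 1, 2, 1, 3, 2, 4, 3, 2, 3, 2, 3, 4, 1, 0, 1, 2, 3, 2, 1, 6, 1, 0, 6, 1, 0, 2, 1, 3, 2, 1, 3, 4, 3, 2, 3, 5, 1, 0], 0, 0, 1),
  ([3, 4, 3, 2, 1, 0, 3, 2, 3, 5, 1, 2, 4, 3, 2, 1, 5, 3, 2, 3, 0, 1, 2, 3, 4, 3, 1, 2, 1, 4, 5, 1, 0, 1, 2, 3, 2, 3, 5, 1, 0, 1, 5, 1, 2, 3, 4, 3, 2, 0, 1, 0, 1, 2, 1, 3, 0, 1, 2, 1, 6, 1, 2, 3, 4, 5, 1, 2, 3, 2, 1, 5, 4, 3, 2, 1, 6, 0, 6, 1, 0, 2, 1, 3, 2, 1, 3, 4, 3, 2, 3, 5, 1, 0], 0, 1, 0),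
  ([0, 2, 1, 0, 4, 3, 2, 3, 5, 1, 2, 4, 3, 2, 0, 1, 5, 2, 3, 4, 3, 0, 1, 2, 0, 1, 2, 3, 4, 5, 1, 0, 1, 0, 1, 2, 3, 2, 1, 5, 4, 0, 1, 2, 3, 2, 1, 3, 2, 3, 2, 3, 1, 2, 0, 4, 6, 1, 2, 3, 2, 1, 3, 6, 5, 1, 2, 6, 1, 2, 0, 1, 6, 5, 1, 2, 3, 2, 1, 5, 1, 0, 2, 1, 3, 2, 1, 3, 4, 3, 2, 3, 5, 1, 0], 0, 0, 1),
  ([1, 2, 3, 5, 1, 2, 3, 2, 1, 5, 4, 0, 1, 2, 3, 2, 1, 5, 2, 1, 0, 5, 1, 0, 2, 3, 2, 1, 5, 4, 3, 0, 1, 2, 3, 2, 1, 5, 2, 1, 6, 1, 0, 2, 1, 0, 3, 2, 1, 5, 2, 3, 2, 1, 6, 1, 2, 4, 3, 6, 1, 2, 5, 1, 0, 1, 5, 2, 1, 6, 5, 6, 1, 0, 2, 1, 3, 2, 1, 3, 4, 3, 2, 3, 5, 1, 0], 0, 0, 1),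
  ([0, 1, 2, 1, 0, 1, 3, 2, 4, 5, 1, 2, 3, 4, 2, 1, 5, 3, 0, 1, 2, 3, 2, 1, 0, 1, 2, 3, 1, 3, 2, 4, 3, 2, 1, 0, 3, 2, 4, 3, 2, 1, 5, 1, 2, 3, 4, 3, 1, 2, 1, 5, 1, 0, 1, 0, 2, 3, 4, 5, 4, 2, 3, 1, 5, 4, 6, 1, 0, 2, 1, 3, 2, 4, 3, 2, 1, 6, 5, 1, 2, 3], 0, 1, 0),
  ([3, 2, 1, 0, 1, 2, 3, 2, 1, 0, 3, 5, 1, 2, 4, 3, 2, 1, 5, 4, 2, 3, 1, 0, 1, 2, 1, 0, 2, 3, 2, 3, 4, 3, 5, 1, 0, 2, 1, 3, 4, 5, 2, 0, 1, 0, 1, 5, 2, 3, 4, 3, 2, 3, 2, 4, 5, 1, 5, 4, 0, 1, 2, 0, 1, 0, 5, 1, 2, 6, 1, 0, 2, 1, 3, 2, 4, 3, 2, 1, 6, 5, 1, 2, 3], 0, 1, 0),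
  ([0, 1, 2, 1, 0, 1, 3, 2, 4, 5, 1, 2, 3, 4, 2, 1, 5, 3, 0, 1, 2, 3, 2, 1, 0, 1, 2, 3, 2, 1, 0, 3, 2, 5, 1, 2, 3, 4, 2, 3, 2, 1, 5, 3, 0, 1, 2, 3, 4, 2, 3, 1, 0, 6, 1, 2, 5, 1, 6, 3, 2, 1, 5, 3, 2, 1, 6, 0, 1, 2, 0, 1, 3, 4, 0, 6, 1, 0, 2, 1, 3, 2, 4, 3, 2, 1, 6, 5, 1, 2, 3], 0, 1, 0),
  ([1, 2, 3, 5, 1, 2, 3, 2, 1, 5, 4, 0, 1, 2, 3, 2, 1, 5, 3, 2, 1, 0, 1, 5, 1, 0, 1, 2, 5, 1, 3, 4, 2, 3, 2, 1, 0, 1, 5, 2, 3, 2, 3, 2, 1, 6, 5, 1, 0, 2, 1, 0, 1, 3, 2, 1, 5, 2, 1, 4, 3, 2, 6, 1, 0, 1, 6, 2, 3, 4, 1, 2, 3, 2, 1, 5, 1, 0, 2, 1, 3, 2, 4, 3, 2, 1, 6, 5, 1, 2, 3], 0, 1, 0),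
  ([0, 2, 1, 0, 3, 4, 3, 2, 5, 1, 0, 2, 3, 4, 2, 1, 5, 3, 2, 3, 4, 0, 1, 2, 3, 2, 5, 1, 0, 2, 5, 4, 1, 2, 3, 2, 3, 4, 1, 2, 3, 0, 1, 0, 1, 3, 2, 4, 5, 1, 5, 4, 0, 1, 0, 1, 2, 4, 6, 1, 0, 2, 1, 3, 2, 3, 2, 1, 0, 1, 2, 3, 2, 0, 1, 6, 4, 6, 1, 0, 2, 1, 3, 2, 4, 3, 2, 1, 6, 5, 1, 2, 3], 0, 1, 0),
  ([3, 4, 3, 2, 1, 0, 3, 2, 3, 5, 1, 2, 3, 2, 1, 5, 4, 3, 2, 3, 0, 1, 2, 3, 4, 3, 4, 3, 2, 1, 3, 0, 1, 2, 0, 1, 5, 2, 3, 1, 2, 3, 4, 2, 3, 2, 3, 2, 4, 5, 1, 5, 4, 0, 1, 2, 0, 1, 4, 6, 1, 0, 2, 1, 3, 2, 3, 2, 0, 1, 6, 1, 5, 2, 3, 2, 0, 2, 1, 3, 2, 4, 3, 2, 1, 6, 5, 1, 2, 3], 0, 1, 0),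
  ([2, 1, 3, 2, 5, 1, 0, 1, 0, 5, 4, 2, 3, 2, 1, 0, 1, 5, 4, 2, 3, 1, 4, 3, 2, 1, 3, 2, 5, 1, 0, 2, 1, 0, 3, 1, 2, 3, 4, 0, 2, 3, 2, 4, 5, 1, 4, 2, 3, 2, 1, 0, 1, 6, 1, 2, 3, 2, 5, 6, 1, 3, 2, 3, 0, 3, 2, 4, 3, 2, 1, 6, 5, 1, 2, 3], 0, 1, 0),
  ([3, 2, 1, 0, 1, 2, 3, 2, 1, 0, 3, 5, 1, 2, 4, 3, 2, 1, 5, 4, 2, 3, 1, 0, 1, 2, 4, 3, 2, 1, 0, 1, 5, 2, 3, 1, 2, 3, 4, 3, 1, 4, 6, 1, 2, 3, 5, 1, 6, 2, 1, 5, 2, 1, 0, 3, 2, 5, 1, 0, 1, 5, 6, 1, 2, 3, 2, 1, 2, 1, 3, 2, 4, 3, 2, 1, 6, 5, 1, 2, 3], 0, 1, 0),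
  ([3, 2, 1, 0, 1, 2, 3, 2, 1, 0, 3, 5, 1, 2, 4, 3, 2, 1, 5, 4, 2, 3, 1, 0, 1, 2, 1, 0, 2, 5, 1, 0, 1, 2, 3, 2, 1, 5, 1, 4, 3, 2, 3, 4, 0, 1, 2, 3, 0, 1, 2, 1, 3, 2, 1, 3, 2, 3, 4, 5, 1, 5, 4, 2, 3, 1, 2, 3, 0, 4, 6, 1, 2, 3, 2, 1, 3, 6, 5, 1, 0, 1, 5, 6, 1, 2, 3, 2, 1, 5, 1, 0, 2, 1, 3, 2, 4, 3, 2, 1, 6, 5, 1, 2, 3], 0, 1, 0),
  ([1, 0, 4, 3, 2, 1, 0, 3, 4, 1, 2, 3, 1, 2, 3, 4, 3, 1, 0, 1, 2, 1, 0, 4, 5, 1, 0, 2, 1, 3, 2, 1, 0, 1, 5, 4, 3, 2, 3, 1, 2, 1, 0, 4, 5, 1, 2, 3, 6, 5, 2, 1, 5, 0, 1, 0, 1, 6, 4, 3, 1, 3, 2, 4, 3, 2, 1, 0, 3, 2, 1, 3, 0, 1, 2, 3, 4, 1, 2, 3, 0, 1, 0, 3, 4, 3, 2, 1, 3, 4, 5, 2, 3, 1, 2, 3, 4, 2, 1, 0, 1, 2, 0, 1, 0, 1, 2, 3, 5, 1, 0, 2, 1, 3, 0, 1, 2, 3, 0,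 1, 2, 0, 2, 1, 3, 4, 5, 1, 2, 3, 2, 1, 4, 3, 2, 3, 0, 1, 0, 1, 2, 3, 4, 2, 3, 6, 1, 0, 2, 1, 3, 2, 4, 3, 2, 1, 6, 5, 1, 2, 3], 0, 1, 0),
  ([1, 2, 3, 5, 1, 2, 3, 2, 1, 5, 4, 0, 1, 2, 3, 2, 1, 5, 3, 2, 1, 0, 1, 0, 1, 4, 3, 2, 3, 4, 5, 2, 1, 0, 1, 2, 3, 2, 1, 5, 3, 1, 0, 1, 3, 2, 3, 4, 5, 1, 5, 4, 0, 1, 2, 4, 6, 1, 2, 3, 2, 1, 3, 2, 5, 1, 0, 2, 1, 5, 2, 3, 0, 1, 2, 3, 2, 0, 2, 1, 3, 2, 4, 3, 2, 1, 6, 5, 1, 2, 3], 0, 1, 0),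
  ([0, 2, 1, 0, 4, 3, 2, 3, 5, 1, 2, 4, 3, 2, 0, 1, 5, 2, 3, 4, 3, 0, 1, 2, 0, 2, 3, 2, 4, 5, 1, 0, 1, 2, 3, 2, 1, 0, 1, 5, 4, 2, 3, 2, 1, 0, 1, 3, 2, 4, 5, 1, 5, 4, 0, 1, 2, 0, 4, 6, 1, 2, 3, 2, 1, 0, 5, 1, 2, 3, 2, 3, 2, 1, 5, 6, 2, 3, 1, 2, 0, 1, 6, 2, 6, 1, 0, 2, 1, 3, 2, 4, 3, 2, 1, 6, 5, 1, 2, 3], 0, 1, 0)]

/-- the candidates for the image of the third generator, for the other exponent -/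
def tab2 : List (List ℕ × ℕ × ℕ × ℕ) := [
  ([0, 1, 3, 2, 1, 3, 5, 1, 0, 1, 2, 3, 0, 1, 2, 0, 1, 0, 1, 0, 1, 3, 2, 3, 4, 5, 1, 5, 4, 2, 3, 1, 2, 0, 1, 0, 3, 1, 0], 0, 1, 1),
  ([1, 0, 3, 2, 1, 4, 3, 2, 3, 2, 1, 4, 5, 2, 0, 1, 5, 2, 3, 0, 1, 0, 3, 2, 3, 4, 5, 1, 5, 4, 1], 0, 1, 2),
  ([1, 0, 4, 3, 2, 1, 0, 3, 4, 1, 2, 3, 1, 2, 3, 4, 3, 1, 0, 1, 2, 1, 0, 2, 1, 3, 2, 3, 2, 1, 0, 4, 3, 1, 2, 3, 1, 2, 0, 1, 5, 4, 1, 2, 3, 0, 1, 0, 3, 2, 3, 2, 1, 0, 1, 2, 1, 0, 3, 4, 5, 2, 0], 0, 1, 1),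
  ([0, 2, 1, 0, 3, 4, 3, 2, 5, 1, 0, 2, 3, 4, 2, 1, 5, 3, 2, 3, 4, 0, 1, 2, 4, 5, 1, 0, 2, 1, 3, 2, 1, 3, 4, 2, 3, 2, 1, 5, 3, 4, 2, 3, 2, 0, 1, 0, 4, 5, 1, 5, 4, 2, 3, 2, 3, 0, 4, 6, 1, 0, 2, 1, 3, 2, 6, 1, 0, 1, 2, 3, 2, 1, 6, 2, 0], 0, 1, 1),
  ([1, 2, 1, 0, 1, 3, 4, 3, 2, 1, 3, 2, 1, 4, 3, 0, 1, 2, 3, 4, 0, 5, 1, 2, 3, 4, 3, 2, 1, 5, 2, 1, 0, 1, 3, 2, 4, 5, 1, 5, 4, 3, 2, 3, 1, 4, 6, 1, 0, 5, 1, 0, 1, 6, 3], 0, 1, 1),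
  ([3, 4, 3, 2, 1, 0, 3, 2, 3, 5, 1, 2, 3, 2, 1, 5, 4, 3, 2, 3, 0, 1, 2, 3, 4, 3, 0, 3, 4, 5, 1, 0, 1, 2, 3, 4, 5, 2, 0, 1, 0, 1, 5, 2, 3, 2, 3, 1, 0, 2, 4, 5, 1, 2, 3, 2, 1, 5, 4, 3, 2, 0, 1, 4, 6, 1, 2, 3, 2, 1, 0, 3, 5, 1, 0, 2, 1, 6, 5, 1, 2, 3, 2, 1, 0, 1, 6], 0, 1, 1),
  ([1, 2, 3, 4, 3, 2, 3, 2, 4, 5, 1, 2, 0, 1, 5, 1, 2, 3, 2, 3, 4, 3, 2, 1, 0, 1, 0, 1, 2, 1, 3, 2, 3, 0, 4, 6, 1, 2, 3, 2, 1, 3, 2, 3, 5, 1, 6, 1, 5, 1, 2, 3, 1, 2, 0, 1, 6, 5], 0, 1, 1),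
  ([2, 1, 3, 2, 5, 1, 0, 1, 0, 5, 4, 2, 3, 2, 1, 0, 1, 5, 4, 2, 3, 1, 2, 0, 2, 3, 4, 5, 1, 0, 1, 2, 1, 3, 2, 1, 0, 1, 5, 4, 3, 1, 2, 3, 2, 3, 2, 1, 0, 1, 2, 1, 4, 6, 1, 2, 3, 2, 1, 0, 5, 1, 2, 3, 6, 2, 3, 2, 1, 6, 5, 1, 2, 3, 2, 1, 6, 1], 0, 1, 1),
  ([1, 2, 1, 0, 1, 3, 4, 3, 2, 1, 3, 2, 1, 4, 3, 0, 1, 2, 3, 4, 0, 1, 3, 2, 1, 3, 2, 3, 2, 1, 0, 4, 5, 1, 2, 3, 4, 2, 3, 1, 2, 1, 0, 1, 5, 3, 1, 0, 1, 3, 2, 4, 5, 1, 5, 4, 3, 2, 3, 1, 0, 4, 6, 1, 0, 1, 2, 3, 2, 5, 3, 2, 3, 2, 1, 6, 2, 0], 0, 1, 1),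
  ([0, 1, 2, 1, 0, 1, 3, 2, 4, 5, 1, 2, 3, 4, 2, 1, 5, 3, 0, 1, 2, 3, 2, 1, 0, 1, 2, 3, 2, 3, 2, 4, 3, 5, 1, 2, 3, 2, 4, 3, 1, 5, 1, 2, 3, 0, 1, 2, 0, 1, 5, 4, 1, 2, 1, 0, 2, 4, 5, 1, 2, 3, 2, 1, 5, 4, 3, 2, 0, 1, 0, 4, 6, 1, 2, 3, 2, 1, 3, 2, 3, 5, 1, 6, 1, 5, 2, 3, 1, 2, 3, 2, 1, 6, 1], 0, 1, 1),
  ([0, 2, 1, 0, 4, 3, 2, 3, 5, 1, 2, 4, 3, 2, 0, 1, 5, 2, 3, 4, 3, 0, 1, 2, 0, 1, 2, 1, 4, 5, 1, 0, 1, 2, 3, 2, 3, 5, 4, 3, 1, 2, 3, 1, 0, 1, 2, 3, 4, 0, 1, 0, 1, 0, 3, 2, 3, 1, 0, 1, 0, 4, 6, 1, 2, 3, 2, 1, 3, 6, 5, 1, 0, 1, 5, 6, 1, 2, 3, 2, 1, 6, 4], 0, 1, 1),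
  ([0, 2, 1, 0, 3, 4, 3, 2, 5, 1, 0, 2, 3, 4, 2, 1, 5, 3, 2, 3, 4, 0, 1, 2, 0, 2, 3, 2, 1, 4, 3, 2, 1, 3, 2, 1, 0, 5, 1, 4, 3, 2, 3, 0, 1, 2, 3, 0, 1, 2, 3, 4, 3, 2, 4, 5, 1, 5, 4, 1, 0, 1, 2, 3, 6, 1, 2, 3, 2, 1, 3, 4, 6, 5, 1, 2, 3, 2, 1, 5, 6, 4, 3, 1, 2, 3, 2, 1, 6, 0], 0, 1, 1),
  ([1, 0, 4, 3, 2, 1, 0, 3, 4, 1, 2, 3, 1, 2, 3, 4, 3, 1, 0, 1, 2, 1, 3, 2, 5, 1, 0, 1, 2, 3, 2, 1, 0, 3, 4, 1, 2, 3, 2, 1, 5, 3, 0, 4, 5, 1, 2, 3, 6, 5, 6, 4, 2, 3, 2, 1, 0, 1, 5, 0, 3, 4, 3, 6, 1, 0, 2, 1, 3, 2, 4, 3, 2, 5, 1, 0], 0, 0, 1),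
  ([1, 0, 3, 2, 1, 3, 4, 3, 2, 3, 4, 1, 2, 0, 1, 5, 3, 1, 2, 3, 1, 0, 1, 2, 0, 1, 4, 3, 2, 5, 6, 1, 0, 5, 1, 0, 1, 6, 3, 2, 3, 4, 3, 1, 2, 1, 3, 4, 3, 0, 6, 1, 0, 2, 1, 3, 2, 4, 3, 2, 5, 1, 0], 0, 1, 0),
  ([0, 2, 1, 0, 3, 4, 3, 2, 5, 1, 0, 2, 3, 4, 2, 1, 5, 3, 2, 3, 4, 0, 1, 2, 3, 2, 1, 3, 4, 3, 2, 3, 2, 4, 1, 2, 3, 0, 1, 0, 1, 2, 3, 1, 0, 4, 5, 1, 2, 3, 6, 5, 6, 4, 2, 3, 2, 1, 0, 1, 5, 2, 0, 3, 4, 5, 3, 0, 6, 1, 0, 2, 1, 3, 2, 4, 3, 2, 5, 1, 0], 0, 1, 1),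
  ([3, 4, 3, 2, 1, 0, 3, 2, 3, 5, 1, 2, 3, 2, 1, 5, 4, 3, 2, 3, 0, 1, 2, 3, 4, 3, 1, 2, 1, 3, 2, 1, 0, 1, 3, 4, 5, 1, 2, 3, 2, 0, 1, 5, 4, 1, 0, 3, 2, 3, 4, 3, 2, 5, 1, 2, 3, 2, 1, 5, 0, 1, 2, 3, 4, 0, 3, 4, 5, 3, 6, 1, 0, 2, 1, 3, 2, 4, 3, 2, 5, 1, 0], 0, 0, 1),
  ([0, 2, 1, 0, 4, 3, 2, 3, 5, 1, 2, 4, 3, 2, 0, 1, 5, 2, 3, 4, 3, 0, 1, 2, 0, 1, 3, 4, 5, 1, 2, 3, 2, 1, 3, 4, 3, 0, 1, 2, 3, 2, 1, 5, 4, 0, 1, 3, 2, 3, 2, 4, 5, 1, 5, 4, 2, 3, 0, 1, 0, 4, 3, 5, 1, 6, 1, 0, 2, 1, 3, 2, 4, 3, 2, 5, 1, 0], 0, 0, 1),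
  ([1, 2, 1, 0, 1, 3, 4, 3, 2, 1, 3, 2, 1, 4, 3, 0, 1, 2, 3, 4, 0, 1, 3, 2, 3, 2, 1, 4, 3, 2, 3, 5, 2, 1, 5, 4, 2, 3, 2, 1, 0, 1, 5, 1, 0, 3, 2, 3, 4, 5, 1, 5, 4, 2, 3, 4, 6, 1, 5, 6, 1, 0, 1, 6, 3, 6, 1, 0, 2, 1, 3, 2, 4, 3, 2, 5, 1, 0], 0, 0, 1),
  ([3, 4, 3, 2, 1, 0, 3, 2, 3, 5, 1, 2, 3, 2, 1, 5, 4, 3, 2, 3, 0, 1, 2, 3, 4, 2, 1, 5, 1, 0, 1, 3, 2, 3, 4, 2, 3, 2, 1, 5, 1, 2, 0, 3, 2, 1, 3, 2, 3, 0, 1, 2, 0, 1, 4, 3, 5, 1, 0, 6, 1, 0, 2, 1, 3, 2, 4, 3, 2, 5, 1, 0], 0, 1, 0),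
  ([0, 2, 1, 0, 3, 4, 3, 2, 5, 1, 0, 2, 3, 4, 2, 1, 5, 3, 2, 3, 4, 0, 1, 4, 3, 5, 1, 0, 1, 2, 3, 2, 5, 4, 3, 1, 2, 3, 2, 1, 5, 2, 3, 4, 2, 0, 3, 2, 1, 0, 1, 2, 0, 4, 6, 1, 0, 2, 1, 3, 2, 3, 0, 1, 6, 5, 2, 3, 2, 1, 6, 2, 6, 1, 0, 2, 1, 3, 2, 4, 3, 2, 5, 1, 0], 0, 0, 1),
  ([6, 1, 2, 3, 2, 1, 3, 4, 5, 1, 0, 1, 2, 6, 3, 2, 1, 5, 4, 3, 0, 1, 2, 0, 1, 5, 6, 1, 0], 0, 1, 0),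
  ([3, 4, 3, 2, 1, 0, 3, 2, 3, 5, 1, 2, 3, 2, 1, 5, 4, 3, 2, 3, 0, 1, 2, 3, 4, 2, 4, 3, 2, 5, 1, 4, 2, 3, 2, 0, 1, 5, 4, 3, 2, 3, 4, 2, 3, 0, 3, 2, 3, 0, 1, 0, 1, 2, 1, 4, 6, 1, 2, 3, 2, 1, 0, 3, 5, 1, 0, 2, 1, 6, 5, 1, 2, 3, 2, 1, 0, 1, 6, 0, 6, 1, 0, 2, 1, 3, 2, 4, 3, 2, 5, 1, 0], 0, 1, 0),
  ([3, 4, 3, 2, 1, 0, 3, 2, 3, 5, 1, 2, 3, 2, 1, 5, 4, 3, 2, 3, 0, 1, 2, 3, 4, 3, 1, 2, 1, 3, 4, 3, 2, 1, 5, 1, 2, 3, 4, 2, 3, 0, 1, 2, 3, 4, 2, 3, 1, 0, 1, 0, 4, 5, 1, 5, 4, 1, 2, 1, 0, 1, 6, 1, 2, 3, 2, 1, 0, 5, 1, 2, 3, 4, 6, 2, 3, 2, 1, 6, 5, 1, 2, 3, 2, 1, 6, 1, 6, 1, 0, 2, 1, 3, 2, 4, 3, 2, 5, 1, 0], 0, 0, 1),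
  ([2, 1, 3, 2, 5, 1, 0, 1, 0, 5, 4, 2, 3, 2, 1, 0, 1, 5, 4, 2, 3, 1, 2, 1, 2, 3, 2, 1, 0, 5, 1, 0, 2, 1, 0, 3, 4, 3, 2, 3, 2, 1, 0, 1, 5, 0, 3, 2, 3, 2, 4, 5, 1, 5, 4, 2, 3, 0, 1, 0, 4, 6, 1, 2, 3, 2, 1, 0, 3, 5, 1, 0, 2, 1, 6, 5, 1, 2, 3, 2, 1, 2, 1, 3, 2, 4, 3, 2, 5, 1, 0], 0, 1, 0),
  ([2, 1, 3, 2, 5, 1, 0, 1, 0, 5, 4, 2, 3, 2, 1, 0, 1, 5, 4, 2, 3, 1, 2, 0, 1, 0, 2, 1, 4, 3, 2, 3, 2, 1, 4, 0, 1, 2, 3, 0, 1, 2, 3, 4, 1, 0, 6, 1, 0, 1, 6, 1, 5, 1, 6, 3, 2, 1, 0, 1, 0, 1, 6, 1, 2, 3, 2, 1, 4, 3, 6, 5, 1, 2, 6], 0, 1, 0),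
  ([2, 1, 3, 2, 5, 1, 0, 1, 0, 5, 4, 2, 3, 2, 1, 0, 1, 5, 4, 2, 3, 1, 2, 1, 0, 3, 2, 1, 0, 5, 1, 0, 1, 2, 1, 4, 3, 2, 3, 4, 3, 1, 2, 3, 1, 2, 0, 3, 2, 3, 2, 4, 5, 1, 5, 4, 2, 3, 0, 1, 2, 6, 1, 0, 1, 2, 3, 2, 1, 0, 4, 3, 2, 4, 3, 2, 1, 5, 3, 4, 1, 4, 3, 6, 5, 1, 2, 6], 0, 0, 1),
  ([3, 4, 3, 2, 1, 0, 3, 2, 3, 5, 1, 2, 3, 2, 1, 5, 4, 3, 2, 3, 0, 1, 2, 3, 4, 3, 0, 2, 1, 5, 1, 2, 3, 2, 4, 3, 2, 3, 1, 0, 1, 5, 1, 2, 3, 0, 1, 2, 6, 1, 5, 1, 6, 1, 0, 1, 6, 0, 1, 4, 6, 5, 6, 1, 2, 0, 6, 1, 2, 3, 2, 1, 4, 3, 6, 5, 1, 2, 6], 0, 1, 0),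
  ([3, 4, 3, 2, 1, 0, 3, 2, 3, 5, 1, 2, 4, 3, 2, 1, 5, 3, 2, 3, 0, 1, 2, 3, 4, 3, 0, 1, 0, 5, 1, 0, 2, 1, 0, 3, 2, 5, 4, 3, 1, 2, 3, 4, 3, 0, 1, 4, 5, 1, 5, 4, 0, 1, 2, 0, 1, 4, 6, 1, 5, 6, 1, 0, 1, 6, 2, 0, 6, 1, 2, 3, 2, 1, 4, 3, 6, 5, 1, 2, 6], 0, 0, 1),
  ([1, 0, 4, 3, 2, 1, 0, 3, 4, 1, 2, 3, 1, 2, 3, 4, 3, 1, 0, 1, 2, 0, 1, 0, 4, 3, 2, 5, 1, 0, 1, 4, 3, 2, 0, 1, 5, 4, 3, 2, 3, 4, 0, 1, 3, 2, 4, 5, 1, 5, 4, 2, 3, 0, 1, 3, 4, 6, 1, 0, 2, 1, 3, 2, 3, 0, 1, 2, 3, 2, 1, 0, 1, 6, 2, 6, 1, 2, 3, 2, 1, 4, 3, 6, 5, 1, 2, 6], 0, 1, 0),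
  ([3, 2, 1, 0, 1, 2, 3, 2, 1, 0, 3, 5, 1, 2, 4, 3, 2, 1, 5, 4, 2, 3, 1, 0, 1, 2, 1, 0, 2, 1, 3, 4, 5, 1, 2, 3, 2, 1, 0, 3, 2, 4, 3, 2, 1, 5, 1, 2, 3, 1, 2, 3, 4, 0, 1, 2, 3, 4, 5, 1, 2, 3, 2, 1, 5, 4, 3, 4, 6, 1, 0, 2, 1, 3, 2, 3, 0, 1, 6, 5, 2, 3, 2, 1, 6, 2, 6, 1, 2, 3, 2, 1, 4, 3, 6, 5, 1, 2, 6], 0, 0, 1),
  ([0, 1, 2, 1, 0, 1, 3, 2, 4, 5, 1, 2, 3, 4, 2, 1, 5, 3, 0, 1, 2, 3, 2, 1, 0, 1, 2, 3, 1, 5, 1, 0, 1, 0, 2, 1, 3, 2, 4, 3, 5, 1, 0, 1, 5, 2, 3, 4, 1, 2, 3, 0, 1, 0, 1, 0, 3, 2, 3, 1, 0, 4, 6, 1, 0, 2, 1, 3, 2, 3, 2, 5, 6, 1, 5, 1, 2, 3, 2, 0, 1, 6, 0, 6, 1, 2, 3, 2, 1, 4, 3, 6, 5, 1, 2, 6], 0, 1, 0),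
  ([3, 4, 3, 2, 1, 0, 3, 2, 3, 5, 1, 2, 3, 2, 1, 5, 4, 3, 2, 3, 0, 1, 2, 3, 4, 3, 0, 4, 5, 1, 2, 3, 2, 1, 0, 1, 2, 3, 2, 0, 1, 5, 4, 3, 2, 3, 2, 3, 2, 4, 5, 1, 5, 4, 2, 3, 1, 2, 3, 0, 4, 6, 1, 0, 2, 3, 2, 1, 0, 5, 1, 0, 2, 1, 5, 6, 3, 2, 3, 1, 2, 0, 2, 3, 2, 1, 4, 3, 6, 5, 1, 2, 6], 0, 0, 1),
  ([0, 2, 1, 0, 3, 4, 3, 2, 5, 1, 0, 2, 3, 4, 2, 1, 5, 3, 2, 3, 4, 0, 1, 2, 0, 1, 2, 3, 2, 1, 0, 5, 1, 0, 2, 1, 0, 3, 4, 3, 2, 3, 2, 1, 0, 1, 5, 6, 1, 2, 5, 1, 6, 5, 6, 1, 5, 2, 1, 6, 4, 6, 1, 2, 3, 2, 1, 3, 6, 5, 1, 6, 5, 6, 1, 5, 6, 1, 2, 3, 2, 1, 6, 4, 6, 1, 2, 3, 2, 1, 4, 3, 6, 5, 1, 2, 6], 0, 0, 1),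
  ([0, 1, 2, 1, 0, 1, 3, 2, 4, 5, 1, 2, 3, 4, 2, 1, 5, 3, 0, 1, 2, 3, 2, 1, 0, 1, 4, 5, 1, 0, 1, 0, 2, 3, 4, 2, 1, 0, 1, 5, 1, 2, 3, 2, 3, 1, 0, 1, 2, 1, 4, 6, 1, 2, 3, 5, 1, 6, 2, 1, 5, 3, 2, 1, 6, 4, 6, 1, 0, 1, 2, 1, 0, 3, 2, 4, 5, 1, 2, 3, 2, 1, 6, 1, 5, 3, 6, 5, 1, 2, 6], 0, 1, 0),
  ([0, 2, 1, 0, 3, 4, 3, 2, 5, 1, 0, 2, 3, 4, 2, 1, 5, 3, 2, 3, 4, 0, 1, 2, 3, 2, 1, 3, 4, 3, 2, 3, 2, 4, 1, 2, 3, 0, 1, 0, 1, 2, 3, 0, 3, 2, 3, 4, 5, 1, 5, 4, 2, 3, 0, 1, 2, 0, 4, 6, 1, 0, 2, 1, 3, 2, 5, 1, 6, 0, 1, 5, 3, 2, 3, 1, 2, 0, 1, 6, 2, 6, 1, 2, 3, 2, 1, 4, 3, 6, 5, 1, 2, 6], 0, 1, 0),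
  ([3, 4, 3, 2, 1, 0, 3, 2, 3, 5, 1, 2, 4, 3, 2, 1, 5, 3, 2, 3, 0, 1, 2, 3, 4, 3, 0, 1, 0, 4, 5, 1, 5, 4, 2, 3, 2, 3, 6, 1, 0, 2, 1, 3, 2, 6, 5, 1, 2, 3, 2, 4, 3, 2, 1, 5, 0, 4, 3, 6, 5, 1, 2, 6], 0, 0, 1),
  ([0, 5, 1, 0, 2, 1, 5, 3, 2, 3, 4, 3, 2, 3, 0, 1, 2, 0, 1, 5, 3, 2, 3, 2, 3, 1, 2, 0, 4, 0, 6, 1, 0, 1, 2, 3, 2, 1, 4, 3, 2, 1, 0, 5, 1, 6], 0, 1, 0),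
  ([3, 4, 3, 2, 1, 0, 3, 2, 3, 5, 1, 2, 4, 3, 2, 1, 5, 3, 2, 3, 0, 1, 2, 3, 4, 3, 2, 3, 4, 3, 2, 1, 0, 5, 2, 3, 1, 0, 1, 2, 3, 4, 2, 3, 2, 1, 0, 2, 1, 3, 2, 3, 2, 3, 1, 2, 4, 5, 3, 0, 6, 1, 0, 1, 2, 3, 2, 1, 4, 3, 2, 1, 0, 5, 1, 6], 0, 1, 0),
  ([1, 2, 3, 5, 1, 2, 3, 2, 1, 5, 4, 0, 1, 2, 3, 2, 1, 5, 3, 2, 1, 2, 4, 3, 2, 1, 3, 2, 5, 1, 0, 2, 1, 0, 3, 1, 2, 3, 4, 0, 1, 3, 2, 4, 5, 1, 5, 4, 2, 3, 2, 0, 6, 1, 0, 1, 6, 5, 1, 6, 2, 0, 6, 1, 0, 1, 2, 3, 2, 1, 4, 3, 2, 1, 0, 5, 1, 6], 0, 1, 0),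
  ([0, 2, 1, 0, 3, 4, 3, 2, 5, 1, 0, 2, 3, 4, 2, 1, 5, 3, 2, 3, 4, 0, 1, 2, 0, 1, 0, 2, 1, 3, 4, 5, 1, 0, 1, 2, 1, 0, 3, 2, 1, 5, 4, 0, 1, 2, 0, 1, 0, 2, 3, 2, 6, 1, 0, 1, 6, 1, 5, 1, 6, 3, 2, 1, 4, 5, 1, 2, 0, 6, 1, 0, 1, 2, 3, 2, 1, 4, 3, 2, 1, 0, 5, 1, 6], 0, 1, 0),
  ([1, 2, 3, 5, 1, 2, 3, 2, 1, 5, 4, 0, 1, 2, 3, 2, 1, 5, 3, 2, 1, 3, 2, 1, 4, 3, 2, 1, 3, 2, 1, 5, 0, 1, 2, 3, 2, 3, 4, 1, 2, 3, 0, 6, 1, 0, 2, 1, 0, 3, 2, 1, 5, 2, 3, 2, 1, 6, 4, 3, 2, 3, 0, 6, 1, 0, 1, 2, 3, 2, 1, 4, 3, 2, 1, 0, 5, 1, 6], 0, 1, 0),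
  ([3, 4, 3, 2, 1, 0, 3, 2, 3, 5, 1, 2, 4, 3, 2, 1, 5, 3, 2, 3, 0, 1, 2, 3, 4, 3, 0, 2, 3, 5, 1, 0, 2, 1, 3, 2, 3, 5, 4, 2, 3, 2, 3, 1, 2, 0, 1, 5, 2, 0, 5, 1, 0, 1, 2, 3, 2, 4, 1, 5, 4, 0, 1, 6, 1, 5, 6, 1, 0, 1, 6, 2, 1, 6, 1, 0, 1, 2, 3, 2, 1, 4, 3, 2, 1, 0, 5, 1, 6], 0, 1, 0),
  ([2, 1, 3, 2, 5, 1, 0, 1, 0, 5, 4, 2, 3, 2, 1, 0, 1, 5, 4, 2, 3, 1, 2, 1, 0, 3, 2, 1, 0, 5, 1, 0, 1, 2, 1, 4, 3, 2, 3, 4, 3, 1, 2, 3, 1, 2, 0, 3, 2, 3, 5, 1, 2, 6, 1, 0, 5, 1, 0, 1, 6, 1, 2, 3, 1, 2, 0, 4, 6, 1, 0, 2, 1, 3, 2, 6, 1, 0, 1, 2, 3, 2, 1, 6, 3, 0, 6, 1, 0, 1, 2, 3, 2, 1, 4, 3, 2, 1, 0, 5, 1, 6], 0, 1, 0),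
  ([1, 2, 3, 5, 1, 2, 3, 2, 1, 5, 4, 0, 1, 2, 3, 2, 1, 5, 3, 2, 1, 3, 4, 3, 2, 3, 4, 6, 1, 0, 5, 1, 0, 1, 2, 6, 3, 1, 2, 1, 0, 1, 5, 2, 3, 4, 3, 2, 3, 1, 3, 2, 1, 0, 3, 4, 3, 2, 3, 1, 2, 3, 1, 2, 3, 4, 3, 6, 1, 0, 1, 2, 3, 2, 4, 3, 2, 1, 0, 6, 1, 0, 1, 2, 3, 4, 3, 2, 3, 2, 1, 6, 4, 0, 6, 1, 0, 1, 2, 3, 2, 1, 4, 3, 2, 1, 0, 5, 1, 6], 0, 1, 0),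
  ([4, 5, 1, 0, 2, 3, 2, 1, 5, 4, 3, 1, 0, 1, 2, 3, 1, 2, 1, 0, 6, 1, 0, 1, 5, 0, 1, 6, 2, 1, 5, 3, 2, 5, 6, 1, 2, 3, 2, 1, 4, 6, 5, 1, 2, 3, 2, 1, 5, 6, 4, 1, 2, 3, 2, 0, 1, 2, 3, 2, 1, 4, 3, 2, 1, 0, 5, 1, 6], 0, 1, 0),
  ([3, 4, 3, 2, 1, 0, 3, 2, 3, 5, 1, 2, 4, 3, 2, 1, 5, 3, 2, 3, 0, 1, 2, 3, 4, 3, 0, 2, 3, 4, 5, 1, 0, 1, 2, 1, 3, 2, 1, 0, 1, 5, 4, 3, 1, 6, 1, 0, 1, 6, 1, 5, 1, 6, 3, 1, 6, 1, 0, 1, 2, 3, 2, 4, 3, 2, 1, 0, 6, 1, 0, 1, 2, 3, 4, 3, 2, 3, 2, 1, 5, 1, 0, 1, 2, 3, 2, 1, 4, 3, 2, 1, 0, 5, 1, 6], 0, 1, 0),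
  ([2, 1, 3, 2, 5, 1, 0, 1, 0, 5, 4, 2, 3, 2, 1, 0, 1, 5, 4, 2, 3, 1, 2, 0, 4, 5, 1, 0, 2, 3, 4, 1, 2, 3, 0, 1, 2, 1, 0, 1, 5, 0, 1, 0, 2, 1, 0, 4, 5, 1, 5, 4, 2, 3, 1, 2, 0, 6, 1, 0, 2, 1, 3, 2, 6, 5, 1, 2, 3, 2, 4, 3, 2, 1, 5, 0, 1, 2, 3, 2, 1, 6, 3, 6, 1, 0, 1, 2, 3, 2, 1, 4, 3, 2, 1, 0, 5, 1, 6], 0, 1, 0),
  ([0, 2, 1, 0, 4, 3, 2, 3, 5, 1, 2, 4, 3, 2, 0, 1, 5, 2, 3, 4, 3, 0, 1, 2, 0, 3, 2, 1, 5, 1, 0, 1, 3, 2, 3, 4, 2, 3, 2, 1, 5, 1, 2, 6, 1, 0, 1, 6, 1, 5, 1, 6, 3, 1, 4, 3, 6, 1, 2, 5, 1, 0, 1, 5, 2, 0, 1, 2, 3, 2, 1, 4, 3, 2, 1, 0, 5, 1, 6], 0, 1, 0),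
  ([1, 0, 2, 5, 1, 0, 2, 1, 3, 2, 5, 1, 5, 3, 4, 3, 2, 3, 1, 2, 0, 1, 5, 2, 0, 1, 0, 1, 0, 3, 2, 1, 5, 1, 2, 3, 2, 1, 0, 3, 5, 4, 3, 1, 2, 0, 1, 5, 3, 2, 0, 2, 6, 1, 0, 2, 1, 0, 3, 2, 1, 5, 2, 3, 2, 1, 6, 0, 4, 1, 0, 6, 1, 0, 2, 1, 3, 2, 1, 3, 4, 3, 2, 3, 5, 1, 0], 0, 1, 0),
  ([3, 2, 5, 1, 0, 1, 2, 3, 5, 2, 3, 4, 1, 2, 3, 2, 0, 1, 5, 2, 1, 6, 5, 1, 0, 2, 1, 0, 1, 3, 2, 1, 5, 3, 2, 1, 6, 2, 4, 3, 5, 1, 6, 1, 0, 2, 1, 3, 2, 1, 3, 4, 3, 2, 3, 5, 1, 0], 0, 0, 1),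
  ([3, 4, 3, 2, 1, 0, 3, 2, 3, 5, 1, 2, 3, 2, 1, 5, 4, 3, 2, 3, 0, 1, 2, 3, 4, 3, 2, 1, 0, 4, 5, 1, 2, 3, 2, 1, 0, 1, 0, 1, 5, 4, 3, 2, 1, 0, 3, 2, 3, 2, 3, 1, 0, 1, 0, 1, 5, 1, 2, 6, 1, 0, 2, 1, 3, 2, 1, 3, 4, 3, 2, 3, 5, 1, 0], 0, 1, 0),
  ([1, 2, 1, 0, 1, 3, 4, 3, 2, 1, 3, 2, 1, 4, 3, 0, 1, 2, 3, 4, 0, 1, 0, 1, 0, 4, 5, 1, 0, 2, 3, 1, 5, 1, 2, 3, 4, 1, 2, 3, 2, 0, 1, 0, 5, 1, 2, 3, 2, 3, 4, 6, 5, 6, 3, 2, 1, 5, 4, 2, 0, 1, 4, 6, 1, 2, 3, 2, 3, 5, 2, 3, 2, 1, 0, 1, 6, 2, 6, 1, 0, 2, 1, 3, 2, 1, 3, 4, 3, 2, 3, 5, 1, 0], 0, 1, 0),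
  ([1, 0, 4, 3, 2, 1, 0, 3, 4, 1, 2, 3, 1, 2, 3, 4, 3, 1, 0, 1, 2, 1, 2, 1, 3, 5, 4, 1, 2, 3, 2, 1, 5, 4, 3, 2, 1, 0, 3, 2, 3, 2, 1, 0, 1, 2, 1, 0, 4, 3, 6, 1, 0, 2, 1, 3, 2, 0, 1, 5, 2, 3, 2, 1, 6, 4, 6, 1, 0, 2, 1, 3, 2, 1, 3, 4, 3, 2, 3, 5, 1, 0], 0, 1, 0),
  ([3, 2, 3, 2, 5, 1, 0, 1, 0, 2, 5, 4, 3, 2, 1, 0, 1, 5, 4, 3, 2, 1, 3, 4, 3, 5, 1, 0, 1, 3, 2, 3, 1, 2, 0, 1, 5, 4, 0, 4, 6, 1, 0, 2, 1, 3, 2, 3, 2, 5, 6, 5, 1, 6, 5, 2, 3, 2, 1, 6, 2, 6, 1, 0, 2, 1, 3, 2, 1, 3, 4, 3, 2, 3, 5, 1, 0], 0, 1, 0),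
  ([3, 2, 5, 1, 0, 1, 2, 3, 5, 2, 3, 4, 1, 2, 3, 2, 0, 1, 5, 1, 0, 3, 2, 3, 4, 5, 1, 5, 4, 2, 3, 0, 4, 6, 1, 0, 2, 1, 3, 2, 3, 2, 1, 0, 1, 2, 3, 2, 0, 1, 6, 5, 6, 1, 0, 2, 1, 3, 2, 1, 3, 4, 3, 2, 3, 5, 1, 0], 0, 0, 1),
  ([3, 4, 3, 2, 1, 0, 3, 2, 3, 5, 1, 2, 4, 3, 2, 1, 5, 3, 2, 3, 0, 1, 2, 3, 4, 3, 1, 2, 1, 3, 2, 1, 0, 1, 3, 4, 5, 1, 2, 3, 2, 0, 1, 5, 4, 1, 2, 6, 1, 2, 3, 2, 5, 1, 2, 3, 0, 1, 2, 0, 1, 6, 4, 6, 1, 2, 3, 2, 1, 3, 6, 5, 1, 0, 1, 5, 6, 1, 2, 3, 2, 1, 6, 4, 6, 1, 0, 2, 1, 3, 2, 1, 3, 4, 3, 2, 3, 5, 1, 0], 0, 0, 1),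
  ([0, 2, 1, 0, 4, 3, 2, 3, 5, 1, 2, 4, 3, 2, 0, 1, 5, 2, 3, 4, 3, 0, 1, 2, 0, 1, 3, 4, 5, 1, 0, 2, 3, 4, 2, 3, 1, 2, 0, 1, 5, 2, 3, 2, 3, 1, 2, 1, 3, 2, 3, 2, 4, 5, 1, 5, 4, 0, 1, 0, 6, 1, 0, 1, 2, 1, 3, 2, 4, 3, 2, 3, 2, 3, 4, 1, 0, 1, 2, 3, 2, 1, 6, 1, 0, 6, 1, 0, 2, 1, 3, 2, 1, 3, 4, 3, 2, 3, 5, 1, 0], 0, 0, 1),
  ([3, 4, 3, 2, 1, 0, 3, 2, 3, 5, 1, 2, 4, 3, 2, 1, 5, 3, 2, 3, 0, 1, 2, 3, 4, 3, 1, 2, 1, 4, 5, 1, 0, 1, 2, 3, 2, 3, 5, 1, 0, 1, 5, 1, 2, 3, 4, 3, 2, 0, 1, 0, 1, 2, 1, 3, 0, 1, 2, 1, 6, 1, 2, 3, 4, 5, 1, 2, 3, 2, 1, 5, 4, 3, 2, 1, 6, 0, 6, 1, 0, 2, 1, 3, 2, 1, 3, 4, 3, 2, 3, 5, 1, 0], 1, 0, 0),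
  ([0, 2, 1, 0, 4, 3, 2, 3, 5, 1, 2, 4, 3, 2, 0, 1, 5, 2, 3, 4, 3, 0, 1, 2, 0, 1, 2, 3, 4, 5, 1, 0, 1, 0, 1, 2, 3, 2, 1, 5, 4, 0, 1, 2, 3, 2, 1, 3, 2, 3, 2, 3, 1, 2, 0, 4, 6, 1, 2, 3, 2, 1, 3, 6, 5, 1, 2, 6, 1, 2, 0, 1, 6, 5, 1, 2, 3, 2, 1, 5, 1, 0, 2, 1, 3, 2, 1, 3, 4, 3, 2, 3, 5, 1, 0], 0, 0, 1),
  ([1, 2, 3, 5, 1, 2, 3, 2, 1, 5, 4, 0, 1, 2, 3, 2, 1, 5, 2, 1, 0, 5, 1, 0, 2, 3, 2, 1, 5, 4, 3, 0, 1, 2, 3, 2, 1, 5, 2, 1, 6, 1, 0, 2, 1, 0, 3, 2, 1, 5, 2, 3, 2, 1, 6, 1, 2, 4, 3, 6, 1, 2, 5, 1, 0, 1, 5, 2, 1, 6, 5, 6, 1, 0, 2, 1, 3, 2, 1, 3, 4, 3, 2, 3, 5, 1, 0], 0, 0, 1),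
  ([0, 1, 2, 1, 0, 1, 3, 2, 4, 5, 1, 2, 3, 4, 2, 1, 5, 3, 0, 1, 2, 3, 2, 1, 0, 1, 2, 3, 1, 3, 2, 4, 3, 2, 1, 0, 3, 2, 4, 3, 2, 1, 5, 1, 2, 3, 4, 3, 1, 2, 1, 5, 1, 0, 1, 0, 2, 3, 4, 5, 4, 2, 3, 1, 5, 4, 6, 1, 0, 2, 1, 3, 2, 4, 3, 2, 1, 6, 5, 1, 2, 3], 0, 1, 0),
  ([3, 2, 1, 0, 1, 2, 3, 2, 1, 0, 3, 5, 1, 2, 4, 3, 2, 1, 5, 4, 2, 3, 1, 0, 1, 2, 1, 0, 2, 3, 2, 3, 4, 3, 5, 1, 0, 2, 1, 3, 4, 5, 2, 0, 1, 0, 1, 5, 2, 3, 4, 3, 2, 3, 2, 4, 5, 1, 5, 4, 0, 1, 2, 0, 1, 0, 5, 1, 2, 6, 1, 0, 2, 1, 3, 2, 4, 3, 2, 1, 6, 5, 1, 2, 3], 0, 1, 0),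
  ([0, 1, 2, 1, 0, 1, 3, 2, 4, 5, 1, 2, 3, 4, 2, 1, 5, 3, 0, 1, 2, 3, 2, 1, 0, 1, 2, 3, 2, 1, 0, 3, 2, 5, 1, 2, 3, 4, 2, 3, 2, 1, 5, 3, 0, 1, 2, 3, 4, 2, 3, 1, 0, 6, 1, 2, 5, 1, 6, 3, 2, 1, 5, 3, 2, 1, 6, 0, 1, 2, 0, 1, 3, 4, 0, 6, 1, 0, 2, 1, 3, 2, 4, 3, 2, 1, 6, 5, 1, 2, 3], 0, 1, 0),
  ([1, 2, 3, 5, 1, 2, 3, 2, 1, 5, 4, 0, 1, 2, 3, 2, 1, 5, 3, 2, 1, 0, 1, 5, 1, 0, 1, 2, 5, 1, 3, 4, 2, 3, 2, 1, 0, 1, 5, 2, 3, 2, 3, 2, 1, 6, 5, 1, 0, 2, 1, 0, 1, 3, 2, 1, 5, 2, 1, 4, 3, 2, 6, 1, 0, 1, 6, 2, 3, 4, 1, 2, 3, 2, 1, 5, 1, 0, 2, 1, 3, 2, 4, 3, 2, 1, 6, 5, 1, 2, 3], 0, 1, 0),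
  ([0, 2, 1, 0, 3, 4, 3, 2, 5, 1, 0, 2, 3, 4, 2, 1, 5, 3, 2, 3, 4, 0, 1, 2, 3, 2, 5, 1, 0, 2, 5, 4, 1, 2, 3, 2, 3, 4, 1, 2, 3, 0, 1, 0, 1, 3, 2, 4, 5, 1, 5, 4, 0, 1, 0, 1, 2, 4, 6, 1, 0, 2, 1, 3, 2, 3, 2, 1, 0, 1, 2, 3, 2, 0, 1, 6, 4, 6, 1, 0, 2, 1, 3, 2, 4, 3, 2, 1, 6, 5, 1, 2, 3], 0, 1, 0),
  ([3, 4, 3, 2, 1, 0, 3, 2, 3, 5, 1, 2, 3, 2, 1, 5, 4, 3, 2, 3, 0, 1, 2, 3, 4, 3, 4, 3, 2, 1, 3, 0, 1, 2, 0, 1, 5, 2, 3, 1, 2, 3, 4, 2, 3, 2, 3, 2, 4, 5, 1, 5, 4, 0, 1, 2, 0, 1, 4, 6, 1, 0, 2, 1, 3, 2, 3, 2, 0, 1, 6, 1, 5, 2, 3, 2, 0, 2, 1, 3, 2, 4, 3, 2, 1, 6, 5, 1, 2, 3], 0, 1, 0),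
  ([2, 1, 3, 2, 5, 1, 0, 1, 0, 5, 4, 2, 3, 2, 1, 0, 1, 5, 4, 2, 3, 1, 4, 3, 2, 1, 3, 2, 5, 1, 0, 2, 1, 0, 3, 1, 2, 3, 4, 0, 2, 3, 2, 4, 5, 1, 4, 2, 3, 2, 1, 0, 1, 6, 1, 2, 3, 2, 5, 6, 1, 3, 2, 3, 0, 3, 2, 4, 3, 2, 1, 6, 5, 1, 2, 3], 0, 1, 0),
  ([3, 2, 1, 0, 1, 2, 3, 2, 1, 0, 3, 5, 1, 2, 4, 3, 2, 1, 5, 4, 2, 3, 1, 0, 1, 2, 4, 3, 2, 1, 0, 1, 5, 2, 3, 1, 2, 3, 4, 3, 1, 4, 6, 1, 2, 3, 5, 1, 6, 2, 1, 5, 2, 1, 0, 3, 2, 5, 1, 0, 1, 5, 6, 1, 2, 3, 2, 1, 2, 1, 3, 2, 4, 3, 2, 1, 6, 5, 1, 2, 3], 0, 1, 0),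
  ([3, 2, 1, 0, 1, 2, 3, 2, 1, 0, 3, 5, 1, 2, 4, 3, 2, 1, 5, 4, 2, 3, 1, 0, 1, 2, 1, 0, 2, 5, 1, 0, 1, 2, 3, 2, 1, 5, 1, 4, 3, 2, 3, 4, 0, 1, 2, 3, 0, 1, 2, 1, 3, 2, 1, 3, 2, 3, 4, 5, 1, 5, 4, 2, 3, 1, 2, 3, 0, 4, 6, 1, 2, 3, 2, 1, 3, 6, 5, 1, 0, 1, 5, 6, 1, 2, 3, 2, 1, 5, 1, 0, 2, 1, 3, 2, 4, 3, 2, 1, 6, 5, 1, 2, 3], 0, 1, 0),
  ([1, 0, 4, 3, 2, 1, 0, 3, 4, 1, 2, 3, 1, 2, 3, 4, 3, 1, 0, 1, 2, 1, 0, 4, 5, 1, 0, 2, 1, 3, 2, 1, 0, 1, 5, 4, 3, 2, 3, 1, 2, 1, 0, 4, 5, 1, 2, 3, 6, 5, 2, 1, 5, 0, 1, 0, 1, 6, 4, 3, 1, 3, 2, 4, 3, 2, 1, 0, 3, 2, 1, 3, 0, 1, 2, 3, 4, 1, 2, 3, 0, 1, 0, 3, 4, 3, 2, 1, 3, 4, 5, 2, 3, 1, 2, 3, 4, 2, 1, 0, 1, 2, 0, 1, 0, 1, 2, 3, 5, 1, 0, 2, 1, 3, 0, 1, 2, 3, 0,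 1, 2, 0, 2, 1, 3, 4, 5, 1, 2, 3, 2, 1, 4, 3, 2, 3, 0, 1, 0, 1, 2, 3, 4, 2, 3, 6, 1, 0, 2, 1, 3, 2, 4, 3, 2, 1, 6, 5, 1, 2, 3], 0, 1, 0),
  ([1, 2, 3, 5, 1, 2, 3, 2, 1, 5, 4, 0, 1, 2, 3, 2, 1, 5, 3, 2, 1, 0, 1, 0, 1, 4, 3, 2, 3, 4, 5, 2, 1, 0, 1, 2, 3, 2, 1, 5, 3, 1, 0, 1, 3, 2, 3, 4, 5, 1, 5, 4, 0, 1, 2, 4, 6, 1, 2, 3, 2, 1, 3, 2, 5, 1, 0, 2, 1, 5, 2, 3, 0, 1, 2, 3, 2, 0, 2, 1, 3, 2, 4, 3, 2, 1, 6, 5, 1, 2, 3], 0, 1, 0),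
  ([0, 2, 1, 0, 4, 3, 2, 3, 5, 1, 2, 4, 3, 2, 0, 1, 5, 2, 3, 4, 3, 0, 1, 2, 0, 2, 3, 2, 4, 5, 1, 0, 1, 2, 3, 2, 1, 0, 1, 5, 4, 2, 3, 2, 1, 0, 1, 3, 2, 4, 5, 1, 5, 4, 0, 1, 2, 0, 4, 6, 1, 2, 3, 2, 1, 0, 5, 1, 2, 3, 2, 3, 2, 1, 5, 6, 2, 3, 1, 2, 0, 1, 6, 2, 6, 1, 0, 2, 1, 3, 2, 4, 3, 2, 1, 6, 5, 1, 2, 3], 0, 1, 0)]

end Cfsg.Agent.Lib.Helper2.SuzOutD
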