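import Mathlib

/-!
# Sylvester–Schur, slice CHAIN (helper2)

`Cfsg.Agent.Lib.SylSchur.ss_chain`: for `37 ≤ k`, `2 * k ≤ n < 2 ^ 15` and `n ^ 2 < k ^ 3` the binomial
coefficient `n.choose k` has a prime divisor `> k`, namely a prime in `(n - k, n]`, found along an
explicit chain of 87 primes `73 = q₀ < q₁ < ⋯ < 33119` with
`qᵢ₊₁ - qᵢ ≤ 37 ∨ (qᵢ₊₁ - qᵢ - 1) ^ 3 ≤ qᵢ ^ 2`.
-/

set_option autoImplicit false

namespace Cfsg.Agent.Lib.Helper2.SylSchurChain

/-- the gap condition along a list of naturals. -/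
def chainOK : List ℕ → Bool
  | a :: b :: rest =>
    (decide (a < b) && (decide (b - a ≤ 37) || decide ((b - a - 1) ^ 3 ≤ a ^ 2))) &&
      chainOK (b :: rest)
  | _ => true

theorem sub_lt_of_step (q q' n k : ℕ) (hqq : q < q')
    (hgap : q' - q ≤ 37 ∨ (q' - q - 1) ^ 3 ≤ q ^ 2)
    (hk : 37 ≤ k) (hkn : k ≤ n) (hlt : n ^ 2 < k ^ 3) (h1 : q ≤ n) (h2 : n < q') : n - k < q := by
  rcases hgap with h | h
  · omega
  · by_contra hcon
    push Not at hcon
    have hk2 : k ≤ q' - q - 1 := by omega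
    have h3 : k ^ 3 ≤ (q' - q - 1) ^ 3 := Nat.pow_le_pow_left hk2 3
    have h4 : q ^ 2 ≤ n ^ 2 := Nat.pow_le_pow_left h1 2
    omega

theorem exists_prime_of_chain (n k : ℕ) (hk : 37 ≤ k) (hkn : k ≤ n) (hlt : n ^ 2 < k ^ 3) :
    ∀ (L : List ℕ) (a : ℕ), chainOK (a :: L) = true → (∀ q ∈ a :: L, q.Prime) → a ≤ n →
      n < (a :: L).getLast (List.cons_ne_nil a L) → ∃ p, p.Prime ∧ n - k < p ∧ p ≤ n := by
  intro L
  induction L with
  | nil =>
    intro a _ _ h1 h2
    rw [List.getLast_singleton] at h2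
    omega
  | cons b rest ih =>
    intro a hOK hp h1 h2
    rw [chainOK, Bool.and_eq_true, Bool.and_eq_true, Bool.or_eq_true, decide_eq_true_eq,
      decide_eq_true_eq, decide_eq_true_eq] at hOK
    obtain ⟨⟨hab, hgap⟩, hOK'⟩ := hOK
    by_cases hnb : n < b
    · exact ⟨a, hp a (List.mem_cons_self ..),
        sub_lt_of_step a b n k hab hgap hk hkn hlt h1 hnb, h1⟩
    · rw [List.getLast_cons_cons] at h2
      exact ih b hOK' (fun q hq => hp q (List.mem_cons_of_mem _ hq)) (by omega) h2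

/-- the tail of the chain (the chain is `73 :: chainTail`). -/
def chainTail : List ℕ :=
  [109, 139, 173, 199, 233, 271, 313, 359, 409, 463, 523, 587, 653, 727, 797, 883, 971, 1069,
    1171, 1283, 1399, 1523, 1637, 1759, 1901, 2053, 2213, 2383, 2557, 2741, 2927, 3121, 3331,
    3547, 3779, 4021, 4273, 4523, 4793, 5077, 5351, 5657, 5953, 6277, 6607, 6959, 7321, 7699,
    8089, 8467, 8867, 9293, 9733, 10181, 10651, 11131, 11621, 12119, 12647, 13187, 13729,
    14303, 14891, 15497, 16111, 16747, 17401, 18061, 18749, 19447, 20161, 20899, 21649, 22409,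
    23203, 24007, 24821, 25667, 26513, 27397, 28297, 29221, 30169, 31139, 32119, 33119]

theorem chainOK_chain : chainOK (73 :: chainTail) = true := by decide

theorem prime_of_mem_chain : ∀ q ∈ 73 :: chainTail, q.Prime := by
  intro q hq
  simp only [chainTail, List.mem_cons, List.not_mem_nil, or_false] at hq
  rcases hq with
      rfl | rfl | rfl | rfl | rfl | rfl | rfl | rfl | rfl | rfl | rfl | rfl | rfl | rfl | rfl |
      rfl | rfl | rfl | rfl | rfl | rfl | rfl | rfl | rfl | rfl | rfl | rfl | rfl | rfl | rfl |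
      rfl | rfl | rfl | rfl | rfl | rfl | rfl | rfl | rfl | rfl | rfl | rfl | rfl | rfl | rfl |
      rfl | rfl | rfl | rfl | rfl | rfl | rfl | rfl | rfl | rfl | rfl | rfl | rfl | rfl | rfl |
      rfl | rfl | rfl | rfl | rfl | rfl | rfl | rfl | rfl | rfl | rfl | rfl | rfl | rfl | rfl |
      rfl | rfl | rfl | rfl | rfl | rfl | rfl | rfl | rfl | rfl | rfl | rfl
  all_goals norm_num

theorem getLast_chain : (73 :: chainTail).getLast (List.cons_ne_nil _ _) = 33119 := by
  decide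

end Cfsg.Agent.Lib.Helper2.SylSchurChain

namespace Cfsg.Agent.Lib.SylSchur

open Cfsg.Agent.Lib.Helper2.SylSchurChain in
/-- Sylvester–Schur, slice CHAIN: `37 ≤ k`, `2k ≤ n < 2^15`, `n^2 < k^3`. -/
theorem ss_chain (n k : ℕ) (hk : 37 ≤ k) (hn : 2 * k ≤ n) (h15 : n < 2 ^ 15)
    (hlt : n ^ 2 < k ^ 3) : ∃ p, p.Prime ∧ k < p ∧ p ∣ n.choose k := by
  obtain ⟨p, hp, h1, h2⟩ := exists_prime_of_chain n k hk (by omega) hlt chainTail 73
    chainOK_chain prime_of_mem_chain (by omega) (by rw [getLast_chain]; omega)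
  refine ⟨p, hp, by omega, ?_⟩
  exact hp.dvd_choose (by omega) (by omega) h2

end Cfsg.Agent.Lib.SylSchur
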