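import Mathlib
import Cfsg.Agent.Lib.Helper2.SylSchur_CHAIN

/-!
# Sylvester–Schur, slice CHAIN up to `2 ^ 24` (helper2)

`Cfsg.Agent.Lib.SylSchur.ss_chain24`: the statement of `ss_chain` with `n < 2 ^ 24` instead of
`n < 2 ^ 15`; the prime chain of `SylSchur_CHAIN` (73 … 33119) is continued by 675 further primes
up to 16803827, in 12 segments.
-/

set_option autoImplicit false

namespace Cfsg.Agent.Lib.Helper2.SylSchurChain


/-- segment 0 of the continued chain (head `33119`). -/
def segTail0 : List ℕ :=
  [34147, 35171, 36241, 37337, 38453, 39581, 40739, 41911, 43117, 44293, 45541, 46817, 48109,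
    49429, 50773, 52127, 53507, 54919, 56359, 57829, 59281, 60793, 62327, 63863, 65449, 67073,
    68713, 70381, 72077, 73783, 75541, 77323, 79133, 80963, 82813, 84713, 86629, 88547, 90533,
    92507, 94547, 96601, 98689, 100823, 102983, 105173, 107377, 109621, 111893, 114203,
    116549, 118931, 121349, 123791, 126271, 128767, 131317, 133877, 136483, 139133]

theorem chainOK_seg0 : chainOK (33119 :: segTail0) = true := by decide

theorem prime_of_mem_seg0 : ∀ q ∈ 33119 :: segTail0, q.Prime := by
  intro q hq
  simp only [segTail0, List.mem_cons, List.not_mem_nil, or_false] at hq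
  rcases hq with
      rfl | rfl | rfl | rfl | rfl | rfl | rfl | rfl | rfl | rfl | rfl | rfl | rfl | rfl | rfl |
      rfl | rfl | rfl | rfl | rfl | rfl | rfl | rfl | rfl | rfl | rfl | rfl | rfl | rfl | rfl |
      rfl | rfl | rfl | rfl | rfl | rfl | rfl | rfl | rfl | rfl | rfl | rfl | rfl | rfl | rfl |
      rfl | rfl | rfl | rfl | rfl | rfl | rfl | rfl | rfl | rfl | rfl | rfl | rfl | rfl | rfl |
      rfl
  all_goals norm_num

theorem getLast_seg0 : (33119 :: segTail0).getLast (List.cons_ne_nil _ _) = 139133 := by
  decide


/-- segment 1 of the continued chain (head `139133`). -/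
def segTail1 : List ℕ :=
  [141811, 144511, 147263, 150041, 152857, 155707, 158597, 161527, 164477, 167471, 170509,
    173573, 176677, 179821, 182999, 186211, 189467, 192757, 196087, 199457, 202859, 206303,
    209789, 213319, 216877, 220471, 224113, 227797, 231503, 235273, 239081, 242927, 246817,
    250751, 254713, 258721, 262781, 266867, 271013, 275201, 279431, 283697, 288007, 292367,
    296773, 301219, 305663, 310187, 314761, 319387, 324053, 328753, 333517, 338323, 343177,
    348077, 353021, 357997, 363037, 368117]

theorem chainOK_seg1 : chainOK (139133 :: segTail1) = true := by decide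

theorem prime_of_mem_seg1 : ∀ q ∈ 139133 :: segTail1, q.Prime := by
  intro q hq
  simp only [segTail1, List.mem_cons, List.not_mem_nil, or_false] at hq
  rcases hq with
      rfl | rfl | rfl | rfl | rfl | rfl | rfl | rfl | rfl | rfl | rfl | rfl | rfl | rfl | rfl |
      rfl | rfl | rfl | rfl | rfl | rfl | rfl | rfl | rfl | rfl | rfl | rfl | rfl | rfl | rfl |
      rfl | rfl | rfl | rfl | rfl | rfl | rfl | rfl | rfl | rfl | rfl | rfl | rfl | rfl | rfl |
      rfl | rfl | rfl | rfl | rfl | rfl | rfl | rfl | rfl | rfl | rfl | rfl | rfl | rfl | rfl |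
      rfl
  all_goals norm_num

theorem getLast_seg1 : (139133 :: segTail1).getLast (List.cons_ne_nil _ _) = 368117 := by
  decide


/-- segment 2 of the continued chain (head `368117`). -/
def segTail2 : List ℕ :=
  [373231, 378407, 383633, 388903, 394223, 399587, 405011, 410477, 415999, 421559, 427181,
    432847, 438569, 444341, 450161, 456023, 461933, 467903, 473929, 479971, 486091, 492257,
    498469, 504727, 511061, 517417, 523847, 530339, 536891, 543497, 550139, 556849, 563599,
    570421, 577279, 584203, 591181, 598219, 605309, 612439, 619621, 626887, 634211, 641581,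
    649007, 656483, 664019, 671609, 679279, 687007, 694789, 702623, 710527, 718463, 726469,
    734549, 742681, 750863, 759113, 767423]

theorem chainOK_seg2 : chainOK (368117 :: segTail2) = true := by decide

theorem prime_of_mem_seg2 : ∀ q ∈ 368117 :: segTail2, q.Prime := by
  intro q hq
  simp only [segTail2, List.mem_cons, List.not_mem_nil, or_false] at hq
  rcases hq with
      rfl | rfl | rfl | rfl | rfl | rfl | rfl | rfl | rfl | rfl | rfl | rfl | rfl | rfl | rfl |
      rfl | rfl | rfl | rfl | rfl | rfl | rfl | rfl | rfl | rfl | rfl | rfl | rfl | rfl | rfl |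
      rfl | rfl | rfl | rfl | rfl | rfl | rfl | rfl | rfl | rfl | rfl | rfl | rfl | rfl | rfl |
      rfl | rfl | rfl | rfl | rfl | rfl | rfl | rfl | rfl | rfl | rfl | rfl | rfl | rfl | rfl |
      rfl
  all_goals norm_num

theorem getLast_seg2 : (368117 :: segTail2).getLast (List.cons_ne_nil _ _) = 767423 := by
  decide


/-- segment 3 of the continued chain (head `767423`). -/
def segTail3 : List ℕ :=
  [775787, 784229, 792731, 801293, 809917, 818603, 827347, 836161, 845027, 853949, 862943,
    871993, 881119, 890303, 899537, 908851, 918223, 927671, 937171, 946741, 956383, 966041,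
    975811, 985639, 995539, 1005503, 1015523, 1025623, 1035791, 1046029, 1056323, 1066693,
    1077127, 1087631, 1098203, 1108823, 1119529, 1130299, 1141139, 1152037, 1163017, 1174073,
    1185181, 1196359, 1207627, 1218953, 1230349, 1241827, 1253381, 1264997, 1276687, 1288439,
    1300253, 1312153, 1324123, 1336177, 1348309, 1360511, 1372771, 1385117]

theorem chainOK_seg3 : chainOK (767423 :: segTail3) = true := by decide

theorem prime_of_mem_seg3 : ∀ q ∈ 767423 :: segTail3, q.Prime := by
  intro q hq
  simp only [segTail3, List.mem_cons, List.not_mem_nil, or_false] at hq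
  rcases hq with
      rfl | rfl | rfl | rfl | rfl | rfl | rfl | rfl | rfl | rfl | rfl | rfl | rfl | rfl | rfl |
      rfl | rfl | rfl | rfl | rfl | rfl | rfl | rfl | rfl | rfl | rfl | rfl | rfl | rfl | rfl |
      rfl | rfl | rfl | rfl | rfl | rfl | rfl | rfl | rfl | rfl | rfl | rfl | rfl | rfl | rfl |
      rfl | rfl | rfl | rfl | rfl | rfl | rfl | rfl | rfl | rfl | rfl | rfl | rfl | rfl | rfl |
      rfl
  all_goals norm_num

theorem getLast_seg3 : (767423 :: segTail3).getLast (List.cons_ne_nil _ _) = 1385117 := by
  decide


/-- segment 4 of the continued chain (head `1385117`). -/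
def segTail4 : List ℕ :=
  [1397531, 1410023, 1422593, 1435237, 1447961, 1460747, 1473613, 1486561, 1499579, 1512661,
    1525837, 1539073, 1552403, 1565807, 1579231, 1592779, 1606403, 1620107, 1633873, 1647727,
    1661677, 1675703, 1689781, 1703963, 1718219, 1732531, 1746949, 1761449, 1776031, 1790683,
    1805413, 1820237, 1835131, 1850119, 1865179, 1880327, 1895539, 1910837, 1926217, 1941677,
    1957187, 1972829, 1988551, 2004349, 2020247, 2036219, 2052217, 2068361, 2084569, 2100869,
    2117273, 2133743, 2150303, 2166961, 2183707, 2200537, 2217443, 2234447, 2251517, 2268691]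

theorem chainOK_seg4 : chainOK (1385117 :: segTail4) = true := by decide

theorem prime_of_mem_seg4 : ∀ q ∈ 1385117 :: segTail4, q.Prime := by
  intro q hq
  simp only [segTail4, List.mem_cons, List.not_mem_nil, or_false] at hq
  rcases hq with
      rfl | rfl | rfl | rfl | rfl | rfl | rfl | rfl | rfl | rfl | rfl | rfl | rfl | rfl | rfl |
      rfl | rfl | rfl | rfl | rfl | rfl | rfl | rfl | rfl | rfl | rfl | rfl | rfl | rfl | rfl |
      rfl | rfl | rfl | rfl | rfl | rfl | rfl | rfl | rfl | rfl | rfl | rfl | rfl | rfl | rfl |
      rfl | rfl | rfl | rfl | rfl | rfl | rfl | rfl | rfl | rfl | rfl | rfl | rfl | rfl | rfl |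
      rfl
  all_goals norm_num

theorem getLast_seg4 : (1385117 :: segTail4).getLast (List.cons_ne_nil _ _) = 2268691 := by
  decide


/-- segment 5 of the continued chain (head `2268691`). -/
def segTail5 : List ℕ :=
  [2285957, 2303309, 2320741, 2338267, 2355883, 2373583, 2391349, 2409229, 2427179, 2445221,
    2463371, 2481601, 2499923, 2518337, 2536843, 2555429, 2574113, 2592869, 2611733, 2630689,
    2649733, 2668879, 2688073, 2707391, 2726809, 2746327, 2765929, 2785633, 2805403, 2825293,
    2845279, 2865337, 2885497, 2905753, 2926111, 2946563, 2967109, 2987753, 3008477, 3029309,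
    3050239, 3071267, 3092393, 3113611, 3134927, 3156347, 3177857, 3199463, 3221167, 3242969,
    3264857, 3286849, 3308953, 3331157, 3353461, 3375857, 3398357, 3420959, 3443659, 3466429]

theorem chainOK_seg5 : chainOK (2268691 :: segTail5) = true := by decide

theorem prime_of_mem_seg5 : ∀ q ∈ 2268691 :: segTail5, q.Prime := by
  intro q hq
  simp only [segTail5, List.mem_cons, List.not_mem_nil, or_false] at hq
  rcases hq with
      rfl | rfl | rfl | rfl | rfl | rfl | rfl | rfl | rfl | rfl | rfl | rfl | rfl | rfl | rfl |
      rfl | rfl | rfl | rfl | rfl | rfl | rfl | rfl | rfl | rfl | rfl | rfl | rfl | rfl | rfl |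
      rfl | rfl | rfl | rfl | rfl | rfl | rfl | rfl | rfl | rfl | rfl | rfl | rfl | rfl | rfl |
      rfl | rfl | rfl | rfl | rfl | rfl | rfl | rfl | rfl | rfl | rfl | rfl | rfl | rfl | rfl |
      rfl
  all_goals norm_num

theorem getLast_seg5 : (2268691 :: segTail5).getLast (List.cons_ne_nil _ _) = 3466429 := by
  decide


/-- segment 6 of the continued chain (head `3466429`). -/
def segTail6 : List ℕ :=
  [3489287, 3512293, 3535397, 3558589, 3581881, 3605291, 3628789, 3652391, 3676103, 3699919,
    3723809, 3747833, 3771953, 3796183, 3820517, 3844949, 3869473, 3894119, 3918869, 3943721,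
    3968669, 3993733, 4018901, 4044179, 4069543, 4095023, 4120609, 4146277, 4172087, 4198003,
    4223993, 4250111, 4276339, 4302631, 4329079, 4355639, 4382309, 4409087, 4435969, 4462963,
    4490063, 4517267, 4544587, 4572023, 4599557, 4627201, 4654963, 4682807, 4710787, 4738883,
    4767083, 4795369, 4823803, 4852349, 4881007, 4909781, 4938643, 4967629, 4996723, 5025947]

theorem chainOK_seg6 : chainOK (3466429 :: segTail6) = true := by decide

theorem prime_of_mem_seg6 : ∀ q ∈ 3466429 :: segTail6, q.Prime := by
  intro q hq
  simp only [segTail6, List.mem_cons, List.not_mem_nil, or_false] at hq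
  rcases hq with
      rfl | rfl | rfl | rfl | rfl | rfl | rfl | rfl | rfl | rfl | rfl | rfl | rfl | rfl | rfl |
      rfl | rfl | rfl | rfl | rfl | rfl | rfl | rfl | rfl | rfl | rfl | rfl | rfl | rfl | rfl |
      rfl | rfl | rfl | rfl | rfl | rfl | rfl | rfl | rfl | rfl | rfl | rfl | rfl | rfl | rfl |
      rfl | rfl | rfl | rfl | rfl | rfl | rfl | rfl | rfl | rfl | rfl | rfl | rfl | rfl | rfl |
      rfl
  all_goals norm_num

theorem getLast_seg6 : (3466429 :: segTail6).getLast (List.cons_ne_nil _ _) = 5025947 := by
  decide


/-- segment 7 of the continued chain (head `5025947`). -/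
def segTail7 : List ℕ :=
  [5055287, 5084743, 5114309, 5143987, 5173759, 5203669, 5233693, 5263813, 5294063, 5324437,
    5354927, 5385521, 5416241, 5447083, 5478037, 5509111, 5540299, 5571607, 5603027, 5634569,
    5666233, 5698013, 5729897, 5761913, 5794043, 5826299, 5858651, 5891143, 5923741, 5956459,
    5989309, 6022283, 6055381, 6088597, 6121939, 6155353, 6188929, 6222607, 6256427, 6290377,
    6324443, 6358621, 6392921, 6427367, 6461899, 6496591, 6531407, 6566333, 6601393, 6636571,
    6671881, 6707293, 6742859, 6778543, 6814361, 6850289, 6886357, 6922547, 6958841, 6995281]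

theorem chainOK_seg7 : chainOK (5025947 :: segTail7) = true := by decide

theorem prime_of_mem_seg7 : ∀ q ∈ 5025947 :: segTail7, q.Prime := by
  intro q hq
  simp only [segTail7, List.mem_cons, List.not_mem_nil, or_false] at hq
  rcases hq with
      rfl | rfl | rfl | rfl | rfl | rfl | rfl | rfl | rfl | rfl | rfl | rfl | rfl | rfl | rfl |
      rfl | rfl | rfl | rfl | rfl | rfl | rfl | rfl | rfl | rfl | rfl | rfl | rfl | rfl | rfl |
      rfl | rfl | rfl | rfl | rfl | rfl | rfl | rfl | rfl | rfl | rfl | rfl | rfl | rfl | rfl |
      rfl | rfl | rfl | rfl | rfl | rfl | rfl | rfl | rfl | rfl | rfl | rfl | rfl | rfl | rfl |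
      rfl
  all_goals norm_num

theorem getLast_seg7 : (5025947 :: segTail7).getLast (List.cons_ne_nil _ _) = 6995281 := by
  decide


/-- segment 8 of the continued chain (head `6995281`). -/
def segTail8 : List ℕ :=
  [7031839, 7068539, 7105361, 7142321, 7179377, 7216589, 7253927, 7291367, 7328957, 7366687,
    7404517, 7442507, 7480619, 7518869, 7557241, 7595677, 7634299, 7673059, 7711943, 7750969,
    7790129, 7829417, 7868821, 7908371, 7948063, 7987883, 8027839, 8067883, 8108083, 8148421,
    8188913, 8229541, 8270303, 8311187, 8352199, 8393353, 8434637, 8476073, 8517631, 8559301,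
    8601143, 8643121, 8685227, 8727451, 8769833, 8812357, 8855009, 8897773, 8940707, 8983783,
    9026987, 9070339, 9113821, 9157453, 9201221, 9245107, 9289153, 9333319, 9377647, 9422113]

theorem chainOK_seg8 : chainOK (6995281 :: segTail8) = true := by decide

theorem prime_of_mem_seg8 : ∀ q ∈ 6995281 :: segTail8, q.Prime := by
  intro q hq
  simp only [segTail8, List.mem_cons, List.not_mem_nil, or_false] at hq
  rcases hq with
      rfl | rfl | rfl | rfl | rfl | rfl | rfl | rfl | rfl | rfl | rfl | rfl | rfl | rfl | rfl |
      rfl | rfl | rfl | rfl | rfl | rfl | rfl | rfl | rfl | rfl | rfl | rfl | rfl | rfl | rfl |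
      rfl | rfl | rfl | rfl | rfl | rfl | rfl | rfl | rfl | rfl | rfl | rfl | rfl | rfl | rfl |
      rfl | rfl | rfl | rfl | rfl | rfl | rfl | rfl | rfl | rfl | rfl | rfl | rfl | rfl | rfl |
      rfl
  all_goals norm_num

theorem getLast_seg8 : (6995281 :: segTail8).getLast (List.cons_ne_nil _ _) = 9422113 := by
  decide


/-- segment 9 of the continued chain (head `9422113`). -/
def segTail9 : List ℕ :=
  [9466711, 9511441, 9556331, 9601313, 9646457, 9691757, 9737207, 9782783, 9828493, 9874373,
    9920399, 9966559, 10012853, 10059299, 10105883, 10152619, 10199467, 10246493, 10293629,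
    10340927, 10388381, 10435967, 10483721, 10531583, 10579619, 10627811, 10676137, 10724617,
    10773241, 10821997, 10870921, 10919989, 10969207, 11018573, 11068087, 11117737, 11167543,
    11217463, 11267563, 11317811, 11368207, 11418761, 11469467, 11520323, 11571317, 11622473,
    11673757, 11725213, 11776823, 11828563, 11880461, 11932523, 11984741, 12037097, 12089611,
    12142283, 12195077, 12248051, 12301153, 12354413]

theorem chainOK_seg9 : chainOK (9422113 :: segTail9) = true := by decide

theorem prime_of_mem_seg9 : ∀ q ∈ 9422113 :: segTail9, q.Prime := by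
  intro q hq
  simp only [segTail9, List.mem_cons, List.not_mem_nil, or_false] at hq
  rcases hq with
      rfl | rfl | rfl | rfl | rfl | rfl | rfl | rfl | rfl | rfl | rfl | rfl | rfl | rfl | rfl |
      rfl | rfl | rfl | rfl | rfl | rfl | rfl | rfl | rfl | rfl | rfl | rfl | rfl | rfl | rfl |
      rfl | rfl | rfl | rfl | rfl | rfl | rfl | rfl | rfl | rfl | rfl | rfl | rfl | rfl | rfl |
      rfl | rfl | rfl | rfl | rfl | rfl | rfl | rfl | rfl | rfl | rfl | rfl | rfl | rfl | rfl |
      rfl
  all_goals norm_num

theorem getLast_seg9 : (9422113 :: segTail9).getLast (List.cons_ne_nil _ _) = 12354413 := by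
  decide


/-- segment 10 of the continued chain (head `12354413`). -/
def segTail10 : List ℕ :=
  [12407831, 12461419, 12515161, 12569047, 12623089, 12677299, 12731659, 12786181, 12840859,
    12895667, 12950627, 13005767, 13061071, 13116529, 13172141, 13227901, 13283833, 13339891,
    13396133, 13452533, 13509091, 13565807, 13622669, 13679707, 13736903, 13794241, 13851737,
    13909409, 13967237, 14025233, 14083367, 14141683, 14200141, 14258771, 14317573, 14376517,
    14435549, 14494819, 14554237, 14613827, 14673599, 14733533, 14793617, 14853863, 14914271,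
    14974847, 15035597, 15096511, 15157589, 15218789, 15280193, 15341761, 15403489, 15465383,
    15527453, 15589667, 15652069, 15714631, 15777347, 15840233]

theorem chainOK_seg10 : chainOK (12354413 :: segTail10) = true := by decide

theorem prime_of_mem_seg10 : ∀ q ∈ 12354413 :: segTail10, q.Prime := by
  intro q hq
  simp only [segTail10, List.mem_cons, List.not_mem_nil, or_false] at hq
  rcases hq with
      rfl | rfl | rfl | rfl | rfl | rfl | rfl | rfl | rfl | rfl | rfl | rfl | rfl | rfl | rfl |
      rfl | rfl | rfl | rfl | rfl | rfl | rfl | rfl | rfl | rfl | rfl | rfl | rfl | rfl | rfl |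
      rfl | rfl | rfl | rfl | rfl | rfl | rfl | rfl | rfl | rfl | rfl | rfl | rfl | rfl | rfl |
      rfl | rfl | rfl | rfl | rfl | rfl | rfl | rfl | rfl | rfl | rfl | rfl | rfl | rfl | rfl |
      rfl
  all_goals norm_num

theorem getLast_seg10 : (12354413 :: segTail10).getLast (List.cons_ne_nil _ _) = 15840233 := by
  decide


/-- segment 11 of the continued chain (head `15840233`). -/
def segTail11 : List ℕ :=
  [15903301, 15966539, 16029947, 16093501, 16157243, 16221151, 16285229, 16349453, 16413869,
    16478437, 16543169, 16608083, 16673161, 16738399, 16803827]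

theorem chainOK_seg11 : chainOK (15840233 :: segTail11) = true := by decide

theorem prime_of_mem_seg11 : ∀ q ∈ 15840233 :: segTail11, q.Prime := by
  intro q hq
  simp only [segTail11, List.mem_cons, List.not_mem_nil, or_false] at hq
  rcases hq with
      rfl | rfl | rfl | rfl | rfl | rfl | rfl | rfl | rfl | rfl | rfl | rfl | rfl | rfl | rfl |
      rfl
  all_goals norm_num

theorem getLast_seg11 : (15840233 :: segTail11).getLast (List.cons_ne_nil _ _) = 16803827 := by
  decide


theorem exists_prime_Ioc_lt (n k : ℕ) (hk : 37 ≤ k) (hkn : k ≤ n) (hlt : n ^ 2 < k ^ 3)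
    (h1 : 73 ≤ n) (h2 : n < 16803827) : ∃ p, p.Prime ∧ n - k < p ∧ p ≤ n := by
  by_cases h0 : n < 33119
  · exact exists_prime_of_chain n k hk hkn hlt chainTail 73 chainOK_chain prime_of_mem_chain h1
      (by rw [getLast_chain]; exact h0)
  by_cases hs0 : n < 139133
  · exact exists_prime_of_chain n k hk hkn hlt segTail0 33119 chainOK_seg0 prime_of_mem_seg0
      (by omega) (by rw [getLast_seg0]; exact hs0)
  by_cases hs1 : n < 368117
  · exact exists_prime_of_chain n k hk hkn hlt segTail1 139133 chainOK_seg1 prime_of_mem_seg1
      (by omega) (by rw [getLast_seg1]; exact hs1)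
  by_cases hs2 : n < 767423
  · exact exists_prime_of_chain n k hk hkn hlt segTail2 368117 chainOK_seg2 prime_of_mem_seg2
      (by omega) (by rw [getLast_seg2]; exact hs2)
  by_cases hs3 : n < 1385117
  · exact exists_prime_of_chain n k hk hkn hlt segTail3 767423 chainOK_seg3 prime_of_mem_seg3
      (by omega) (by rw [getLast_seg3]; exact hs3)
  by_cases hs4 : n < 2268691
  · exact exists_prime_of_chain n k hk hkn hlt segTail4 1385117 chainOK_seg4 prime_of_mem_seg4
      (by omega) (by rw [getLast_seg4]; exact hs4)
  by_cases hs5 : n < 3466429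
  · exact exists_prime_of_chain n k hk hkn hlt segTail5 2268691 chainOK_seg5 prime_of_mem_seg5
      (by omega) (by rw [getLast_seg5]; exact hs5)
  by_cases hs6 : n < 5025947
  · exact exists_prime_of_chain n k hk hkn hlt segTail6 3466429 chainOK_seg6 prime_of_mem_seg6
      (by omega) (by rw [getLast_seg6]; exact hs6)
  by_cases hs7 : n < 6995281
  · exact exists_prime_of_chain n k hk hkn hlt segTail7 5025947 chainOK_seg7 prime_of_mem_seg7
      (by omega) (by rw [getLast_seg7]; exact hs7)
  by_cases hs8 : n < 9422113
  · exact exists_prime_of_chain n k hk hkn hlt segTail8 6995281 chainOK_seg8 prime_of_mem_seg8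
      (by omega) (by rw [getLast_seg8]; exact hs8)
  by_cases hs9 : n < 12354413
  · exact exists_prime_of_chain n k hk hkn hlt segTail9 9422113 chainOK_seg9 prime_of_mem_seg9
      (by omega) (by rw [getLast_seg9]; exact hs9)
  by_cases hs10 : n < 15840233
  · exact exists_prime_of_chain n k hk hkn hlt segTail10 12354413 chainOK_seg10 prime_of_mem_seg10
      (by omega) (by rw [getLast_seg10]; exact hs10)
  by_cases hs11 : n < 16803827
  · exact exists_prime_of_chain n k hk hkn hlt segTail11 15840233 chainOK_seg11 prime_of_mem_seg11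
      (by omega) (by rw [getLast_seg11]; exact hs11)
  omega

end Cfsg.Agent.Lib.Helper2.SylSchurChain

namespace Cfsg.Agent.Lib.SylSchur

open Cfsg.Agent.Lib.Helper2.SylSchurChain in
/-- Sylvester–Schur, slice CHAIN with the larger threshold: `37 ≤ k`, `2k ≤ n < 2^24`,
`n^2 < k^3`. -/
theorem ss_chain24 (n k : ℕ) (hk : 37 ≤ k) (hn : 2 * k ≤ n) (h24 : n < 2 ^ 24)
    (hlt : n ^ 2 < k ^ 3) : ∃ p, p.Prime ∧ k < p ∧ p ∣ n.choose k := by
  obtain ⟨p, hp, h1, h2⟩ := exists_prime_Ioc_lt n k hk (by omega) hlt (by omega) (by omega)
  refine ⟨p, hp, by omega, ?_⟩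
  exact hp.dvd_choose (by omega) (by omega) h2

end Cfsg.Agent.Lib.SylSchur
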