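import Mathlib
import Cfsg.Prelude
import Cfsg.Agent.Lib.Helper2.NilpHall2
import Cfsg.Agent.S0557
import Cfsg.Agent.Lib.Helper2.SupersolvableHall

set_option autoImplicit false
open Pointwise
open scoped commutatorElement

namespace Cfsg.Agent.Lib.Helper2.SylowNormalizers

open Cfsg.Agent.Lib.Lead Cfsg.Agent.Lib.Helper2.Schmidt Cfsg.Agent.Lib.Helper2.NilpHall

universe u

theorem conj_mem_centralizer_singleton {G : Type*} [Group G] {t u x : G}
    (h : t * (u * x * u⁻¹) = (u * x * u⁻¹) * t) : (u⁻¹ * t * u) * x = x * (u⁻¹ * t * u) := by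
  have h1 : u⁻¹ * (t * (u * x * u⁻¹)) * u = u⁻¹ * ((u * x * u⁻¹) * t) * u := by rw [h]
  calc (u⁻¹ * t * u) * x = u⁻¹ * (t * (u * x * u⁻¹)) * u := by group
    _ = u⁻¹ * ((u * x * u⁻¹) * t) * u := h1
    _ = x * (u⁻¹ * t * u) := by group

section
variable {G : Type u} [Group G] [Finite G] (H : Subgroup G)
  (hnorm : ∀ p : ℕ, p.Prime → p ∣ Nat.card H → ∀ P : Sylow p H,
    Subgroup.normalizer (((P : Subgroup H).map H.subtype : Subgroup G) : Set G) = H)

include hnorm

theorem sylow_normal (p : ℕ) [hp : Fact p.Prime] (P : Sylow p H) : (P : Subgroup H).Normal := by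
  by_cases hpd : p ∣ Nat.card H
  · have h1 := hnorm p hp.out hpd P
    have h2 : ((P : Subgroup H).map H.subtype).subgroupOf H = (P : Subgroup H) := by
      rw [Subgroup.subgroupOf, Subgroup.comap_map_eq_self_of_injective H.subtype_injective]
    rw [← h2, Subgroup.normal_subgroupOf_iff_le_normalizer (Subgroup.map_subtype_le _), h1]
  · have h1 := P.card_eq_multiplicity
    rw [Nat.factorization_eq_zero_of_not_dvd hpd, pow_zero, Subgroup.card_eq_one] at h1
    rw [h1]; infer_instance

theorem isNilpotent : Group.IsNilpotent H :=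
  ((Group.isNilpotent_of_finite_tfae (G := H)).out 3 0).mp
    (fun p hp P => by haveI := hp; exact sylow_normal H hnorm p P)

/-- the Sylow subgroups of `H` are Sylow subgroups of `G` -/
theorem card_sylow (p : ℕ) [hp : Fact p.Prime] (hpd : p ∣ Nat.card H) (P : Sylow p H) :
    Nat.card ((P : Subgroup H).map H.subtype) = p ^ (Nat.card G).factorization p := by
  set P₀ : Subgroup G := (P : Subgroup H).map H.subtype with hP₀
  have hP₀p : IsPGroup p P₀ := P.isPGroup'.map _
  obtain ⟨S, hS⟩ := hP₀p.exists_le_sylow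
  have heq : P₀ = (S : Subgroup G) := by
    by_contra hne
    have hlt : P₀ < (S : Subgroup G) := lt_of_le_of_ne hS hne
    have h1 := pgroup_normalizer_grows p (S : Subgroup G) P₀ S.isPGroup' hlt
    rw [hnorm p hp.out hpd P] at h1
    have h2 : IsPGroup p (((S : Subgroup G) ⊓ H).subgroupOf H) :=
      (S.isPGroup'.to_le inf_le_left).comap_subtype
    have h3 : (P : Subgroup H) ≤ ((S : Subgroup G) ⊓ H).subgroupOf H := by
      intro x hx
      rw [Subgroup.mem_subgroupOf]
      exact h1.le ⟨x, hx, rfl⟩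
    have h4 := P.is_maximal' h2 h3
    have h5 : (S : Subgroup G) ⊓ H ≤ P₀ := by
      intro y hy
      have hy' : (⟨y, hy.2⟩ : H) ∈ ((S : Subgroup G) ⊓ H).subgroupOf H := by
        rw [Subgroup.mem_subgroupOf]; exact hy
      rw [h4] at hy'
      exact ⟨⟨y, hy.2⟩, hy', rfl⟩
    exact absurd h1 (not_lt_of_ge h5)
  rw [heq]
  exact S.card_eq_multiplicity

theorem factorization_eq (p : ℕ) (hp : p.Prime) (hpd : p ∣ Nat.card H) :
    (Nat.card G).factorization p = (Nat.card H).factorization p := by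
  haveI : Fact p.Prime := ⟨hp⟩
  obtain ⟨P⟩ : Nonempty (Sylow p H) := inferInstance
  have h1 := card_sylow H hnorm p hpd P
  rw [Subgroup.card_map_of_injective H.subtype_injective, P.card_eq_multiplicity] at h1
  exact (Nat.pow_right_injective hp.two_le h1).symm

theorem isHall : (Nat.card H).Coprime H.index := by
  apply Nat.coprime_of_dvd
  intro r hr hrH hrI
  have h1 := factorization_eq H hnorm r hr hrH
  have h2 : Nat.card G = Nat.card H * H.index := H.card_mul_index.symm
  rw [h2, Nat.factorization_mul Nat.card_pos.ne' Subgroup.index_ne_zero_of_finite,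
    Finsupp.add_apply] at h1
  have h3 : 0 < H.index.factorization r :=
    hr.factorization_pos_of_dvd Subgroup.index_ne_zero_of_finite hrI
  omega

/-- every `q`-subgroup of `H` lies in the (unique) Sylow `q`-subgroup of `H` -/
theorem le_sylow_map (q : ℕ) [Fact q.Prime] (Q : Sylow q H) (B : Subgroup G) (hBH : B ≤ H)
    (hB : IsPGroup q B) : B ≤ (Q : Subgroup H).map H.subtype := by
  have h1 : B.subgroupOf H ≤ (Q : Subgroup H) :=
    le_of_normal_sylow Q (sylow_normal H hnorm q Q) hB.comap_subtype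
  intro b hb
  exact ⟨⟨b, hBH hb⟩, h1 (Subgroup.mem_subgroupOf.mpr hb), rfl⟩

/-- the Hall `p'`-subgroup of `H` -/
theorem exists_hall_compl (p : ℕ) [hp : Fact p.Prime] (P : Sylow p H) :
    ∃ T : Subgroup G, T ≤ H ∧ Nat.card T * p ^ (Nat.card H).factorization p = Nat.card H ∧
      T ≤ Subgroup.centralizer (((P : Subgroup H).map H.subtype : Subgroup G) : Set G) := by
  have hnil := isNilpotent H hnorm
  haveI : Group.IsSolvable H := inferInstance
  obtain ⟨T', hT'⟩ := exists_hall_complement (G := H) p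
  set T : Subgroup G := T'.map H.subtype with hT
  set P₀ : Subgroup G := (P : Subgroup H).map H.subtype with hP₀
  have hTH : T ≤ H := Subgroup.map_subtype_le _
  have hTcard : Nat.card T * p ^ (Nat.card H).factorization p = Nat.card H := by
    rw [hT, Subgroup.card_map_of_injective H.subtype_injective, ← hT']
    exact T'.card_mul_index
  refine ⟨T, hTH, hTcard, ?_⟩
  have hpT : ¬ p ∣ Nat.card T := by
    intro hd
    have h1 : p ^ ((Nat.card H).factorization p + 1) ∣ Nat.card H := by
      obtain ⟨c, hc⟩ := hd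
      refine ⟨c, ?_⟩
      rw [hc] at hTcard
      generalize (Nat.card H).factorization p = a at hTcard ⊢
      rw [← hTcard]; ring
    exact Nat.pow_succ_factorization_not_dvd Nat.card_pos.ne' hp.out h1
  have hP₀p : IsPGroup p P₀ := P.isPGroup'.map _
  have hcop : (Nat.card T).Coprime (Nat.card P₀) := by
    obtain ⟨k, hk⟩ := IsPGroup.iff_card.mp hP₀p
    rw [hk]
    exact Nat.Coprime.pow_right _ ((Nat.Prime.coprime_iff_not_dvd hp.out).mpr hpT).symm
  have hP₀H : P₀ ≤ H := Subgroup.map_subtype_le _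
  have hHN : H ≤ Subgroup.normalizer (P₀ : Set G) := by
    have hn := sylow_normal H hnorm p P
    exact Cfsg.Agent.Lib.Helper2.SupersolvableHall.le_normalizer_map_subtype_of_normal H _ hn
  have hcomm := commutator_eq_bot_of_nilpotent_coprime H P₀ T hP₀H hTH (hTH.trans hHN) hcop
  rw [Subgroup.commutator_comm, Subgroup.commutator_eq_bot_iff_le_centralizer] at hcomm
  exact hcomm

/-- **Fusion of `p`-elements of `H` is controlled by `H`.** -/
theorem fusion (hnot : ∀ p : ℕ, p.Prime → ∀ P : Sylow p G, (P : Subgroup G) ≠ H)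
    (p : ℕ) [hp : Fact p.Prime] (x u : G) (hx : x ∈ H)
    (hxp : IsPGroup p (Subgroup.zpowers x)) (hux : u * x * u⁻¹ ∈ H) :
    ∃ h ∈ H, u * x * u⁻¹ = h * x * h⁻¹ := by
  by_cases hpd : p ∣ Nat.card H
  swap
  · -- x = 1
    have h1 : orderOf x ∣ Nat.card H := by
      have := orderOf_dvd_natCard (⟨x, hx⟩ : H)
      rwa [Subgroup.orderOf_mk] at this
    obtain ⟨k, hk⟩ := IsPGroup.iff_card.mp hxp
    rw [Nat.card_zpowers] at hk
    have h2 : orderOf x = 1 := by
      rcases Nat.eq_zero_or_pos k with h0 | h0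
      · rw [hk, h0, pow_zero]
      · exfalso
        apply hpd
        refine dvd_trans ?_ h1
        rw [hk]; exact dvd_pow_self p h0.ne'
    rw [orderOf_eq_one_iff] at h2
    exact ⟨1, H.one_mem, by rw [h2]; group⟩
  obtain ⟨P⟩ : Nonempty (Sylow p H) := inferInstance
  set P₀ : Subgroup G := (P : Subgroup H).map H.subtype with hP₀
  obtain ⟨T, hTH, hTcard, hTcent⟩ := exists_hall_compl H hnorm p P
  set a := (Nat.card H).factorization p with ha
  have hnil := isNilpotent H hnorm
  have hTnil : Group.IsNilpotent T := isNilpotent_of_le hnil hTH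
  have hpT : ¬ p ∣ Nat.card T := by
    intro hd
    have h1 : p ^ (a + 1) ∣ Nat.card H := by
      obtain ⟨c, hc⟩ := hd
      refine ⟨c, ?_⟩
      rw [hc] at hTcard
      rw [← hTcard]; ring
    exact Nat.pow_succ_factorization_not_dvd Nat.card_pos.ne' hp.out h1
  -- T ≠ ⊥
  have hTbot : T ≠ ⊥ := by
    intro h0
    rw [h0, Subgroup.card_bot, one_mul] at hTcard
    have hHp : IsPGroup p H := IsPGroup.of_card hTcard.symm
    have hPtop : (P : Subgroup H) = ⊤ := sylow_eq_top_of_isPGroup hHp P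
    have hP₀H : P₀ = H := by
      rw [hP₀, hPtop, ← MonoidHom.range_eq_map, Subgroup.range_subtype]
    have hc := card_sylow H hnorm p hpd P
    rw [← hP₀, hP₀H] at hc
    exact hnot p hp.out (Sylow.ofCard H hc) rfl
  -- x and its conjugate lie in P₀
  set y := u * x * u⁻¹ with hy
  have hyp : IsPGroup p (Subgroup.zpowers y) := by
    have : Subgroup.zpowers y = (Subgroup.zpowers x).map (MulAut.conj u).toMonoidHom := by
      rw [MonoidHom.map_zpowers]; rfl
    rw [this]; exact hxp.map _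
  have hxP : x ∈ P₀ := le_sylow_map H hnorm p P _ (Subgroup.zpowers_le.mpr hx) hxp
    (Subgroup.mem_zpowers x)
  have hyP : y ∈ P₀ := le_sylow_map H hnorm p P _ (Subgroup.zpowers_le.mpr hux) hyp
    (Subgroup.mem_zpowers y)
  set C : Subgroup G := Subgroup.centralizer ({x} : Set G) with hC
  have hTC : T ≤ C := by
    intro t ht
    rw [hC, Subgroup.mem_centralizer_iff]
    intro z hz
    rw [Set.mem_singleton_iff] at hz
    subst hz
    exact Subgroup.mem_centralizer_iff.mp (hTcent ht) z hxP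
  have hTuC : MulAut.conj u⁻¹ • T ≤ C := by
    rintro _ ⟨t, ht, rfl⟩
    rw [hC, Subgroup.mem_centralizer_iff]
    intro z hz
    rw [Set.mem_singleton_iff] at hz
    subst hz
    have h1 : y * t = t * y := Subgroup.mem_centralizer_iff.mp (hTcent ht) y hyP
    have h2 := conj_mem_centralizer_singleton (t := t) (u := u) (x := z) h1.symm
    show z * (MulAut.conj u⁻¹ t) = MulAut.conj u⁻¹ t * z
    rw [MulAut.conj_apply, inv_inv]
    exact h2.symm
  have hTidx : T.index = H.index * p ^ a := by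
    have e1 := T.card_mul_index
    have e2 := H.card_mul_index
    rw [← hTcard] at e2
    have hpos : 0 < Nat.card T := Nat.card_pos
    apply Nat.eq_of_mul_eq_mul_left hpos
    rw [e1, ← e2]; ring
  have hThall : (Nat.card T).Coprime (T.relIndex C) := by
    refine Nat.Coprime.coprime_dvd_right (Subgroup.relIndex_dvd_index_of_le hTC) ?_
    rw [hTidx]
    apply Nat.Coprime.mul_right
    · refine Nat.Coprime.coprime_dvd_left ?_ (isHall H hnorm)
      rw [← hTcard]; exact dvd_mul_right _ _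
    · exact Nat.Coprime.pow_right _ ((Nat.Prime.coprime_iff_not_dvd hp.out).mpr hpT).symm
  have hcardTu : Nat.card (MulAut.conj u⁻¹ • T : Subgroup G) = Nat.card T := card_conj_smul u⁻¹ T
  obtain ⟨c, hcC, hle⟩ := wielandt_rel C T (MulAut.conj u⁻¹ • T) hTC hTuC hTnil hThall
    (by intro r _ hd; rwa [hcardTu] at hd)
  have heq : MulAut.conj u⁻¹ • T = MulAut.conj c • T :=
    Subgroup.eq_of_le_of_card_ge hle (by rw [hcardTu, card_conj_smul])
  set m := u * c with hm
  have hmT : MulAut.conj m • T = T := by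
    rw [hm, map_mul, mul_smul, ← heq, map_inv, smul_inv_smul]
  -- a prime q dividing |T|
  have hTc1 : Nat.card T ≠ 1 := by rw [Ne, Subgroup.card_eq_one]; exact hTbot
  obtain ⟨q, hq, hqT⟩ := Nat.exists_prime_and_dvd hTc1
  haveI : Fact q.Prime := ⟨hq⟩
  have hqp : q ≠ p := fun h0 => hpT (h0 ▸ hqT)
  have hqH : q ∣ Nat.card H := dvd_trans hqT (Subgroup.card_dvd_of_le hTH)
  obtain ⟨Q⟩ : Nonempty (Sylow q H) := inferInstance
  set Q₀ : Subgroup G := (Q : Subgroup H).map H.subtype with hQ₀
  have hQ₀card : Nat.card Q₀ = q ^ (Nat.card H).factorization q := by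
    rw [hQ₀, Subgroup.card_map_of_injective H.subtype_injective, Q.card_eq_multiplicity]
  have hQ₀T : Q₀ ≤ T := by
    obtain ⟨QT⟩ : Nonempty (Sylow q T) := inferInstance
    set QT₀ : Subgroup G := (QT : Subgroup T).map T.subtype with hQT₀
    have h1 : QT₀ ≤ Q₀ := le_sylow_map H hnorm q Q QT₀ ((Subgroup.map_subtype_le _).trans hTH)
      (QT.isPGroup'.map _)
    have h2 : Nat.card QT₀ = q ^ (Nat.card H).factorization q := by
      rw [hQT₀, Subgroup.card_map_of_injective T.subtype_injective, QT.card_eq_multiplicity]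
      congr 1
      rw [← hTcard, Nat.factorization_mul Nat.card_pos.ne' (pow_ne_zero _ hp.out.ne_zero),
        Finsupp.add_apply, hp.out.factorization_pow, Finsupp.single_apply, if_neg hqp.symm, add_zero]
    have h3 : QT₀ = Q₀ := Subgroup.eq_of_le_of_card_ge h1 (by rw [h2, hQ₀card])
    rw [← h3]; exact Subgroup.map_subtype_le _
  have hmH : m ∈ H := by
    have h1 : MulAut.conj m • Q₀ ≤ Q₀ := by
      apply le_sylow_map H hnorm q Q
      · calc MulAut.conj m • Q₀ ≤ MulAut.conj m • T :=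
              Subgroup.pointwise_smul_le_pointwise_smul_iff.mpr hQ₀T
          _ = T := hmT
          _ ≤ H := hTH
      · have : MulAut.conj m • Q₀ = Q₀.map (MulAut.conj m).toMonoidHom := rfl
        rw [this]
        exact (Q.isPGroup'.map _).map _
    have h2 : MulAut.conj m • Q₀ = Q₀ :=
      Subgroup.eq_of_le_of_card_ge h1 (by rw [card_conj_smul])
    have h3 : m ∈ Subgroup.normalizer (Q₀ : Set G) := (mem_normalizer_iff_conj_smul m Q₀).mpr h2
    rw [hnorm q hq hqH Q] at h3
    exact h3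
  refine ⟨m, hmH, ?_⟩
  have hcx : c * x = x * c := by
    rw [hC, Subgroup.mem_centralizer_iff] at hcC
    exact (hcC x rfl).symm
  rw [hy, hm]
  have : u * c * x * (u * c)⁻¹ = u * (c * x) * c⁻¹ * u⁻¹ := by group
  rw [this, hcx]; group

theorem commutator_mem_of_fusion (hnot : ∀ p : ℕ, p.Prime → ∀ P : Sylow p G, (P : Subgroup G) ≠ H)
    (K : Subgroup G) (hKH : K ≤ H) (hHK : H ≤ Subgroup.normalizer (K : Set G)) :
    ∀ (n : ℕ) (x : G), x ∈ K → orderOf x = n → ∀ u : G, u * x * u⁻¹ ∈ H → ⁅x, u⁆ ∈ ⁅K, H⁆ := by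
  intro n
  induction n using Nat.strong_induction_on with
  | _ n ih =>
  intro x hxK hn u hux
  by_cases hx1 : x = 1
  · rw [hx1, commutatorElement_one_left]; exact Subgroup.one_mem _
  have hn1 : n ≠ 1 := by
    intro h1
    rw [h1, orderOf_eq_one_iff] at hn
    exact hx1 hn
  have hn0 : n ≠ 0 := by rw [← hn]; exact (orderOf_pos x).ne'
  set p := n.minFac with hpdef
  have hp : p.Prime := Nat.minFac_prime hn1
  haveI : Fact p.Prime := ⟨hp⟩
  have hpn : p ∣ n := Nat.minFac_dvd n
  obtain ⟨k, m', hm', hnm⟩ := Nat.exists_eq_pow_mul_and_not_dvd hn0 p hp.ne_one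
  have hk0 : k ≠ 0 := by
    rintro rfl
    rw [pow_zero, one_mul] at hnm
    exact hm' (hnm ▸ hpn)
  have hm'0 : m' ≠ 0 := by rintro rfl; exact hm' (dvd_zero _)
  have hcop : (p ^ k).Coprime m' := Nat.Coprime.pow_left _ ((Nat.Prime.coprime_iff_not_dvd hp).mpr hm')
  have hxpow : x ^ (p ^ k * m') = 1 := by rw [← hnm, ← hn]; exact pow_orderOf_eq_one x
  obtain ⟨a, b, ha, hb, hxab, hap, hbm⟩ := exists_coprime_decomp hcop x hxpow
  have hzK : Subgroup.zpowers x ≤ K := Subgroup.zpowers_le.mpr hxK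
  have hconj : ∀ z ∈ Subgroup.zpowers x, u * z * u⁻¹ ∈ H := by
    rintro _ ⟨i, rfl⟩
    have : u * x ^ i * u⁻¹ = (u * x * u⁻¹) ^ i := by
      have h1 : u * x ^ i * u⁻¹ = MulAut.conj u (x ^ i) := rfl
      have h2 : u * x * u⁻¹ = MulAut.conj u x := rfl
      rw [h1, h2, map_zpow]
    rw [this]; exact H.zpow_mem hux i
  -- the p-part
  have h1 : ⁅a, u⁆ ∈ ⁅K, H⁆ := by
    obtain ⟨h, hhH, hh⟩ := fusion H hnorm hnot p a u (hKH (hzK ha))
      (isPGroup_zpowers_of_pow_eq_one hap) (hconj a ha)
    have : ⁅a, u⁆ = ⁅a, h⁆ := by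
      rw [commutatorElement_def, commutatorElement_def]
      have e1 : a * u * a⁻¹ * u⁻¹ = a * (u * a * u⁻¹)⁻¹ := by group
      have e2 : a * h * a⁻¹ * h⁻¹ = a * (h * a * h⁻¹)⁻¹ := by group
      rw [e1, e2, hh]
    rw [this]
    exact Subgroup.commutator_mem_commutator (hzK ha) hhH
  -- the p'-part
  have h2 : ⁅b, u⁆ ∈ ⁅K, H⁆ := by
    have hlt : orderOf b < n := by
      have h3 : orderOf b ∣ m' := orderOf_dvd_of_pow_eq_one hbm
      have h4 : orderOf b ≤ m' := Nat.le_of_dvd (Nat.pos_of_ne_zero hm'0) h3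
      have h5 : 2 ≤ p ^ k := le_trans hp.two_le (Nat.le_self_pow hk0 p)
      have h6 : 0 < m' := Nat.pos_of_ne_zero hm'0
      rw [hnm]; nlinarith
    exact ih _ hlt b (hzK hb) rfl u (hconj b hb)
  have hanorm : a ∈ Subgroup.normalizer ((⁅K, H⁆ : Subgroup G) : Set G) := by
    apply normalizer_inf_le_normalizer_commutator K H
    exact ⟨hHK (hKH (hzK ha)), Subgroup.le_normalizer (hKH (hzK ha))⟩
  have hid : ⁅x, u⁆ = (a * ⁅b, u⁆ * a⁻¹) * ⁅a, u⁆ := by
    rw [hxab]
    simp only [commutatorElement_def]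
    group
  rw [hid]
  exact Subgroup.mul_mem _ ((Subgroup.mem_normalizer_iff.mp hanorm _).mp h2) h1

theorem focal_le_commutator (hnot : ∀ p : ℕ, p.Prime → ∀ P : Sylow p G, (P : Subgroup G) ≠ H)
    (K : Subgroup G) (hKH : K ≤ H) (hHK : H ≤ Subgroup.normalizer (K : Set G)) :
    K.focalSubgroup ≤ ⁅K, H⁆ := by
  rw [Subgroup.focalSubgroup_def, Subgroup.closure_le]
  rintro g ⟨hgK, x, hxK, u, rfl⟩
  have hux : u * x * u⁻¹ ∈ H := by
    have h1 : ⁅x, u⁆ ∈ H := hKH hgK
    have h2 : u * x * u⁻¹ = (x⁻¹ * ⁅x, u⁆)⁻¹ := by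
      simp only [commutatorElement_def]; group
    rw [h2]
    exact H.inv_mem (H.mul_mem (H.inv_mem (hKH hxK)) h1)
  exact commutator_mem_of_fusion H hnorm hnot K hKH hHK _ x hxK rfl u hux

/-- **S0558**. -/
theorem exists_normal_complement
    (hnot : ∀ p : ℕ, p.Prime → ∀ P : Sylow p G, (P : Subgroup G) ≠ H) :
    ∃ N : Subgroup G, N.Normal ∧ Subgroup.IsComplement' N H := by
  have hnil := isNilpotent H hnorm
  obtain ⟨n, hn⟩ := (Subgroup.isNilpotent_iff_lowerCentralSeries H).mp hnil
  have key : ∀ i : ℕ, (fun K : Subgroup G => Subgroup.focalSubgroup K)^[i] H ≤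
      H.lowerCentralSeries i := by
    intro i
    induction i with
    | zero => exact le_rfl
    | succ i ih =>
      rw [Function.iterate_succ_apply', Subgroup.lowerCentralSeries_succ]
      refine (Cfsg.Agent.S0557.focal_mono ih).trans ?_
      apply focal_le_commutator H hnorm hnot
      · have := H.lowerCentralSeries_antitone (Nat.zero_le i)
        rwa [Subgroup.lowerCentralSeries_zero] at this
      · exact H.self_le_normalizer_lowerCentralSeries i
  have hfoc : (fun K : Subgroup G => Subgroup.focalSubgroup K)^[n] H = ⊥ := by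
    rw [eq_bot_iff, ← hn]; exact key n
  exact Cfsg.Agent.S0557.result H (isHall H hnorm) n hfoc

end

end Cfsg.Agent.Lib.Helper2.SylowNormalizers

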