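import Mathlib
import Cfsg.Agent.Lib.Helper2.ComplementSystem
import Cfsg.Agent.Lib.Helper2.CoreFree
import Cfsg.Agent.Lib.Helper2.PCore

set_option autoImplicit false

namespace Cfsg.Agent.Lib.Helper2

open scoped Pointwise

section

variable {G : Type*} [Group G]

/-- A system normalizer avoids every non-central minimal normal subgroup. -/
theorem inf_systemNormalizer_eq_bot_of_minNormal [Finite G] [Group.IsSolvable G]
    {K : Nat.Primes → Subgroup G} (hK : Cfsg.IsComplementSystem K)
    (V : Subgroup G) [hVn : V.Normal] (hV : V ≠ ⊥)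
    (hmin : ∀ N : Subgroup G, N.Normal → N ≤ V → N = ⊥ ∨ N = V)
    (hnc : ¬ V ≤ Subgroup.center G) : V ⊓ Cfsg.systemNormalizer K = ⊥ := by
  have hc := isMulCommutative_of_minNormal_of_solvable V hV hmin
  obtain ⟨p, hp, -, d, hd, hcard⟩ := exists_prime_pow_of_minNormal_abelian V hV hmin hc
  haveI : Fact p.Prime := ⟨hp⟩
  set C := Subgroup.centralizer (V : Set G) with hC
  haveI hCn : C.Normal := Subgroup.normal_centralizer
  have hCt : C ≠ ⊤ := by
    intro h
    apply hnc
    rw [hC, Subgroup.centralizer_eq_top_iff_subset] at h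
    exact h
  haveI : Nontrivial (G ⧸ C) := (QuotientGroup.nontrivial_iff).mpr hCt
  obtain ⟨Mbar, hMn, hMb, hMmin⟩ := exists_minNormal (G := G ⧸ C)
  haveI := hMn
  have hcM := isMulCommutative_of_minNormal_of_solvable Mbar hMb hMmin
  obtain ⟨r, hr, -, e, he, hcardM⟩ := exists_prime_pow_of_minNormal_abelian Mbar hMb hMmin hcM
  set M := Mbar.comap (QuotientGroup.mk' C) with hM
  haveI hMnorm : M.Normal := hMn.comap _
  have hCM : C ≤ M := le_comap_mk C Mbar
  have hMC : ¬ M ≤ C := by
    intro h
    apply hMb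
    rw [eq_bot_iff]
    intro x hx
    obtain ⟨g, rfl⟩ := QuotientGroup.mk'_surjective C x
    have : g ∈ M := hx
    rw [Subgroup.mem_bot, QuotientGroup.mk'_apply, QuotientGroup.eq_one_iff]
    exact h this
  have hrelCM : C.relIndex M = r ^ e := by
    have h1 := card_comap_mk C Mbar
    have h2 := Subgroup.relIndex_mul_relIndex ⊥ C M bot_le hCM
    rw [Subgroup.relIndex_bot_left, Subgroup.relIndex_bot_left] at h2
    rw [← hM, ← h2, hcardM, mul_comm] at h1
    exact Nat.eq_of_mul_eq_mul_right Nat.card_pos h1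
  -- the subgroup W of V centralized by M is trivial
  set W := V ⊓ Subgroup.centralizer (M : Set G) with hW
  have hWn : W.Normal := by
    haveI : (Subgroup.centralizer (M : Set G)).Normal := Subgroup.normal_centralizer
    exact Subgroup.normal_inf_normal _ _
  have hWbot : W = ⊥ := by
    rcases hmin W hWn inf_le_left with h | h
    · exact h
    · exfalso
      apply hMC
      have : V ≤ Subgroup.centralizer (M : Set G) := h ▸ inf_le_right
      exact Subgroup.le_centralizer_iff.mp this
  have key : ∀ Y : Subgroup G, (C.relIndex M).Coprime (Y.relIndex M) →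
      V ⊓ Subgroup.centralizer (Y : Set G) = ⊥ := by
    intro Y hcop
    rw [eq_bot_iff, ← hWbot]
    intro z hz
    refine Subgroup.mem_inf.mpr ⟨hz.1, ?_⟩
    rw [Subgroup.mem_centralizer_iff]
    intro x hx
    obtain ⟨a, ha, b, hb, hxab⟩ := exists_mul_of_coprime_relIndex C Y M hcop x hx
    have h1 : a * z = z * a := by
      have := (Subgroup.mem_centralizer_iff.mp ha.1) z hz.1
      exact this.symm
    have h2 : b * z = z * b := (Subgroup.mem_centralizer_iff.mp hz.2) b hb.1
    rw [hxab, mul_assoc, h2, ← mul_assoc, h1, mul_assoc]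
  by_cases hrp : r = p
  · -- impossible case
    exfalso
    obtain ⟨S⟩ : Nonempty (Sylow p G) := inferInstance
    have hcop : (C.relIndex M).Coprime ((S : Subgroup G).relIndex M) := by
      rw [hrelCM, hrp]
      apply Nat.Coprime.pow_left
      rw [Nat.Prime.coprime_iff_not_dvd hp]
      intro hdv
      have h1 : (S : Subgroup G).relIndex ((S : Subgroup G) ⊔ M) = (S : Subgroup G).relIndex M :=
        relIndex_sup_left_of_le_normalizer _ M
          (by rw [Subgroup.normalizer_eq_top_iff.mpr hMnorm]; exact le_top)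
      have h2 : (S : Subgroup G).relIndex ((S : Subgroup G) ⊔ M) ∣ (S : Subgroup G).index :=
        Subgroup.relIndex_dvd_index_of_le le_sup_left
      rw [h1] at h2
      exact S.not_dvd_index (hdv.trans h2)
    have h1 := card_modEq_one_of_conj_fixed_trivial p (S : Subgroup G) V S.isPGroup'
      (key _ hcop)
    rw [hcard] at h1
    have h2 : p ^ d ≡ 0 [MOD p] := (Nat.modEq_zero_iff_dvd).mpr (dvd_pow_self p hd.ne')
    have h3 : (1 : ℕ) ≡ 0 [MOD p] := h1.symm.trans h2
    have := (Nat.modEq_zero_iff_dvd).mp h3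
    exact hp.one_lt.ne' (Nat.dvd_one.mp this)
  · set pp : Nat.Primes := ⟨p, hp⟩ with hpp
    obtain ⟨k, hk⟩ := IsComplementSystem.relIndex_eq_pow hK M pp
    have hcop : (C.relIndex M).Coprime ((K pp).relIndex M) := by
      rw [hrelCM, hk]
      apply Nat.Coprime.pow
      exact (Nat.coprime_primes hr hp).mpr hrp
    have hVK : V ⊓ K pp = ⊥ := by
      rw [← Subgroup.card_eq_one]
      have h1 : Nat.card (V ⊓ K pp : Subgroup G) ∣ p ^ d :=
        hcard ▸ Subgroup.card_dvd_of_le inf_le_left
      have h2 : Nat.card (V ⊓ K pp : Subgroup G) ∣ Nat.card (K pp) :=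
        Subgroup.card_dvd_of_le inf_le_right
      obtain ⟨j, -, hj⟩ := (Nat.dvd_prime_pow hp).mp h1
      rcases Nat.eq_zero_or_pos j with h0 | h0
      · rw [hj, h0, pow_zero]
      · exfalso
        apply IsComplementSystem.not_dvd_card hK pp
        refine dvd_trans ?_ h2
        rw [hj]
        exact dvd_pow_self p h0.ne'
    rw [eq_bot_iff, ← key _ hcop]
    intro z hz
    refine Subgroup.mem_inf.mpr ⟨hz.1, ?_⟩
    rw [Subgroup.mem_centralizer_iff]
    intro b hb
    have hzN : z ∈ Subgroup.normalizer ((K pp : Subgroup G) : Set G) := by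
      have := hz.2
      unfold Cfsg.systemNormalizer at this
      exact (Subgroup.mem_iInf.mp this) pp
    have h1 : z * b * z⁻¹ * b⁻¹ ∈ K pp :=
      (K pp).mul_mem ((Subgroup.mem_normalizer_iff.mp hzN b).mp hb) ((K pp).inv_mem hb)
    have h2 : z * b * z⁻¹ * b⁻¹ ∈ V := by
      have : z * b * z⁻¹ * b⁻¹ = z * (b * z⁻¹ * b⁻¹) := by group
      rw [this]
      exact V.mul_mem hz.1 (hVn.conj_mem _ (V.inv_mem hz.1) b)
    have h3 : z * b * z⁻¹ * b⁻¹ ∈ V ⊓ K pp := ⟨h2, h1⟩
    rw [hVK, Subgroup.mem_bot] at h3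
    calc b * z = (z * b * z⁻¹ * b⁻¹)⁻¹ * (z * b) := by group
      _ = z * b := by rw [h3, inv_one, one_mul]

end

end Cfsg.Agent.Lib.Helper2
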