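import Mathlib
import Cfsg.Agent.Lib.Helper2.TIFN
import Cfsg.Agent.Lib.Helper2.Exceptional
import Cfsg.Agent.S0176

set_option autoImplicit false

/-!
# Abelian T.I. subgroups with Frobenius normalizer: exceptional characters
-/

namespace Cfsg.Agent.Lib.Helper2.TIFN

open Cfsg Cfsg.Agent.Lib.Helper1 Cfsg.Agent.Lib.Helper4
open scoped ComplexConjugate

variable {G : Type*} [Group G] [Fintype G] {N : Subgroup G} [Fintype N] {L : Subgroup N}
  [hLn : L.Normal] [Fintype L]

theorem Hyp.degree_of_comm (h : Hyp N L) (hab : ∀ a b : L, a * b = b * a) {χ : N → ℂ}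
    (hχ : χ ∈ Sset L) : χ 1 = (L.index : ℂ) := by
  obtain ⟨θ, hθ, -, rfl⟩ := h.exists_induced hχ
  have hL0 : (Nat.card L : ℂ) ≠ 0 := Nat.cast_ne_zero.mpr Nat.card_pos.ne'
  rw [Cfsg.Agent.S0170.indFun_one, Cfsg.Agent.S0176.irr_linear_of_comm hab hθ, ← L.card_mul_index]
  push_cast
  field_simp

theorem Hyp.diff_props (h : Hyp N L) (hab : ∀ a b : L, a * b = b * a) {χ ξ : N → ℂ}
    (hχ : χ ∈ Sset L) (hξ : ξ ∈ Sset L) :
    Cfsg.IsClassFunction N (χ - ξ) ∧ (∀ x : N, x ∉ L → (χ - ξ) x = 0) ∧ (χ - ξ) 1 = 0 := by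
  refine ⟨isGenChar_isClassFunction (isGenChar_sub (isGenChar_of_irr hχ.1) (isGenChar_of_irr hξ.1)),
    ?_, ?_⟩
  · intro x hx
    rw [Pi.sub_apply, h.vanish hχ hx, h.vanish hξ hx, sub_zero]
  · rw [Pi.sub_apply, h.degree_of_comm hab hχ, h.degree_of_comm hab hξ, sub_self]

theorem Hyp.inner_ind (h : Hyp N L) (hab : ∀ a b : L, a * b = b * a) {χ ξ χ' ξ' : N → ℂ}
    (_hχ : χ ∈ Sset L) (_hξ : ξ ∈ Sset L) (hχ' : χ' ∈ Sset L) (hξ' : ξ' ∈ Sset L) :
    Cfsg.classInner (Cfsg.indFun N (χ - ξ)) (Cfsg.indFun N (χ' - ξ')) =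
      Cfsg.classInner (χ - ξ) (χ' - ξ') := by
  rw [Cfsg.Agent.S0146.result N (χ - ξ) _ (indFun_isClassFunction N (χ' - ξ'))]
  congr 1
  funext x
  obtain ⟨h1, h2, h3⟩ := h.diff_props hab hχ' hξ'
  exact h.ind _ h1 h2 h3 x

theorem Hyp.sys (h : Hyp N L) (hab : ∀ a b : L, a * b = b * a) {ι : Type*} (c : ι → N → ℂ)
    (hc : ∀ i, c i ∈ Sset L) (hinj : Function.Injective c) :
    Exceptional.Sys (fun i j => Cfsg.indFun N (c i - c j)) where
  gen := fun i j => by
    show Cfsg.IsGeneralizedCharacter G (Cfsg.indFun N (c i - c j))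
    rw [Cfsg.Agent.S0170.indFun_sub]
    exact isGenChar_sub
      (isGenChar_of_isCharacter (Cfsg.Agent.S0148.result N _ (isCharacter_of_irr (hc i).1)))
      (isGenChar_of_isCharacter (Cfsg.Agent.S0148.result N _ (isCharacter_of_irr (hc j).1)))
  one := fun i j => by
    show Cfsg.indFun N (c i - c j) 1 = 0
    rw [Cfsg.Agent.S0170.indFun_one, (h.diff_props hab (hc i) (hc j)).2.2]
    simp
  add := fun i j k => by
    show Cfsg.indFun N (c i - c j) + Cfsg.indFun N (c j - c k) = Cfsg.indFun N (c i - c k)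
    rw [← indFun_add]
    congr 1
    abel
  norm := fun i j hij => by
    show Cfsg.classInner (Cfsg.indFun N (c i - c j)) (Cfsg.indFun N (c i - c j)) = 2
    have hne : c i ≠ c j := fun he => hij (hinj he)
    rw [h.inner_ind hab (hc i) (hc j) (hc i) (hc j), classInner_sub_left, classInner_sub_right,
      classInner_sub_right, classInner_irr_self (hc i).1, classInner_irr_self (hc j).1,
      classInner_irr_ne (hc i).1 (hc j).1 hne, classInner_irr_ne (hc j).1 (hc i).1 hne.symm]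
    norm_num
  inner := fun i j k hij hik hjk => by
    show Cfsg.classInner (Cfsg.indFun N (c i - c j)) (Cfsg.indFun N (c i - c k)) = 1
    have hne1 : c i ≠ c j := fun he => hij (hinj he)
    have hne2 : c i ≠ c k := fun he => hik (hinj he)
    have hne3 : c j ≠ c k := fun he => hjk (hinj he)
    rw [h.inner_ind hab (hc i) (hc j) (hc i) (hc k), classInner_sub_left, classInner_sub_right,
      classInner_sub_right, classInner_irr_self (hc i).1,
      classInner_irr_ne (hc i).1 (hc k).1 hne2, classInner_irr_ne (hc j).1 (hc i).1 hne1.symm,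
      classInner_irr_ne (hc j).1 (hc k).1 hne3]
    norm_num

end Cfsg.Agent.Lib.Helper2.TIFN
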