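import Mathlib
import Cfsg.Agent.S0080
import Cfsg.Agent.S0148
import Cfsg.Agent.S0155
import Cfsg.Agent.S0156
import Cfsg.Agent.Lib.Lead.TateE
import Cfsg.Agent.Lib.Lead.Frattini
import Cfsg.Agent.Lib.Lead.FrobNPC5
import Cfsg.Agent.Lib.Helper6.Modular2
import Cfsg.Agent.Lib.Helper1.LinearChar
import Cfsg.Agent.Lib.Helper1.CharFound6
import Cfsg.Agent.Lib.Helper4.Characters
import Cfsg.Agent.Lib.Helper8.LinearCount

set_option autoImplicit false

/-! Thompson's theorem: if `p` divides the degree of every nonlinear irreducible character of `G`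
then `G` has a normal `p`-complement. -/

namespace Cfsg.Agent.Lib.Helper2.ThompsonDeg

open Cfsg
open scoped ComplexConjugate

/-- The values of the regular character, as a sum over the irreducible characters. -/
theorem sum_degree_mul_apply {G : Type*} [Group G] [Fintype G] [DecidableEq G]
    [Fintype (IrrCharacter G)] (g : G) :
    ∑ χ : IrrCharacter G, (χ : G → ℂ) 1 * (χ : G → ℂ) g
      = if g = 1 then (Nat.card G : ℂ) else 0 := by
  have h := congrFun (Cfsg.Agent.S0156.result (G := G)) g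
  rw [finsum_eq_sum_of_fintype, Cfsg.Agent.S0155.result, Finset.sum_apply] at h
  rw [h]
  refine Finset.sum_congr rfl fun χ _ => ?_
  simp

/-- Under the hypothesis of Thompson's theorem every linear character of a Sylow `p`-subgroup is
trivial on the intersection with the commutator subgroup. -/
theorem linear_trivial {G : Type*} [Group G] [Finite G] (p : ℕ) [Fact p.Prime]
    (hdeg : ∀ χ : IrrCharacter G, (χ : G → ℂ) 1 ≠ 1 → ∃ d : ℕ, (χ : G → ℂ) 1 = d ∧ p ∣ d)
    (P : Sylow p G) (μ : (P : Subgroup G) →* ℂˣ) (x : (P : Subgroup G))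
    (hx : (x : G) ∈ commutator G) : μ x = 1 := by
  classical
  by_contra hne
  haveI : Fintype G := Fintype.ofFinite G
  haveI : Fintype (P : Subgroup G) := Fintype.ofFinite _
  haveI : Fintype (IrrCharacter G) := Fintype.ofFinite _
  set μ' : ↥(P : Subgroup G) → ℂ := fun y => (μ y : ℂ) with hμ'def
  have hμ' : IsIrrCharacter (P : Subgroup G) μ' := Cfsg.Agent.Lib.Helper1.isIrrCharacter_of_hom μ
  have ha : ∀ χ : IrrCharacter G, ∃ a : ℕ,
      classInner (fun y : (P : Subgroup G) => (χ : G → ℂ) y) μ' = a := fun χ =>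
    Cfsg.Agent.Lib.Helper1.classInner_char_irr_nat
      (Cfsg.Agent.S0148.isCharacter_restrict (P : Subgroup G)
        (Cfsg.Agent.Lib.Helper4.isCharacter_of_irr χ.2)) hμ'
  choose a ha using ha
  have hd : ∀ χ : IrrCharacter G, ∃ d : ℕ, (χ : G → ℂ) 1 = d := fun χ =>
    Cfsg.Agent.Lib.Helper4.isCharacter_apply_one (Cfsg.Agent.Lib.Helper4.isCharacter_of_irr χ.2)
  choose d hd using hd
  -- linear characters do not contain μ
  have hlin : ∀ χ : IrrCharacter G, (χ : G → ℂ) 1 = 1 → a χ = 0 := by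
    intro χ h1
    obtain ⟨φ, hφ⟩ := Cfsg.Agent.Lib.Helper1.exists_hom_of_isIrrCharacter χ.2 h1
    have hres : IsIrrCharacter (P : Subgroup G) (fun y : (P : Subgroup G) => (χ : G → ℂ) y) := by
      have := Cfsg.Agent.Lib.Helper1.isIrrCharacter_of_hom (φ.comp (P : Subgroup G).subtype)
      rw [hφ]
      exact this
    have hne' : (fun y : (P : Subgroup G) => (χ : G → ℂ) y) ≠ μ' := by
      intro h
      apply hne
      have h2 := congrFun h x
      simp only [hμ'def] at h2
      rw [Cfsg.Agent.Lib.Helper8.linear_irr_commutator χ.2 h1 hx] at h2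
      exact Units.ext h2.symm
    have h0 := Cfsg.Agent.Lib.Helper4.classInner_irr_ne hres hμ' hne'
    have : (a χ : ℂ) = 0 := by rw [← ha, h0]
    exact_mod_cast this
  -- the regular character
  have hP0 : (Nat.card (P : Subgroup G) : ℂ) ≠ 0 := Nat.cast_ne_zero.2 Nat.card_pos.ne'
  have hreg : ∑ χ : IrrCharacter G, (χ : G → ℂ) 1 * (a χ : ℂ)
      = ((P : Subgroup G).index : ℂ) := by
    have h1 : ∀ χ : IrrCharacter G, (χ : G → ℂ) 1 * (a χ : ℂ)
        = (Nat.card (P : Subgroup G) : ℂ)⁻¹ * ∑ y : (P : Subgroup G),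
          ((χ : G → ℂ) 1 * (χ : G → ℂ) y) * conj (μ' y) := by
      intro χ
      rw [← ha, Cfsg.Agent.Lib.Helper4.classInner_def, Finset.mul_sum, Finset.mul_sum,
        Finset.mul_sum]
      refine Finset.sum_congr rfl fun y _ => ?_
      ring
    rw [Finset.sum_congr rfl fun χ _ => h1 χ, ← Finset.mul_sum, Finset.sum_comm]
    have h2 : ∀ y : (P : Subgroup G), ∑ χ : IrrCharacter G,
        ((χ : G → ℂ) 1 * (χ : G → ℂ) y) * conj (μ' y)
        = if y = 1 then (Nat.card G : ℂ) else 0 := by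
      intro y
      rw [← Finset.sum_mul, sum_degree_mul_apply]
      by_cases hy : y = 1
      · subst hy
        simp [hμ'def]
      · have : ¬ ((y : G) = 1) := fun h => hy (Subtype.ext h)
        rw [if_neg this, if_neg hy, zero_mul]
    rw [Finset.sum_congr rfl fun y _ => h2 y, Finset.sum_ite_eq' Finset.univ (1 : (P : Subgroup G)),
      if_pos (Finset.mem_univ _)]
    have h3 : (Nat.card G : ℂ) = (Nat.card (P : Subgroup G) : ℂ) * ((P : Subgroup G).index : ℂ) := by
      rw [← Nat.cast_mul, Subgroup.card_mul_index]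
    rw [h3]
    field_simp
  have hnat : (P : Subgroup G).index = ∑ χ : IrrCharacter G, d χ * a χ := by
    have : (((P : Subgroup G).index : ℕ) : ℂ) = ((∑ χ : IrrCharacter G, d χ * a χ : ℕ) : ℂ) := by
      rw [← hreg]
      push_cast
      refine Finset.sum_congr rfl fun χ _ => ?_
      rw [hd χ]
    exact_mod_cast this
  apply P.not_dvd_index
  rw [hnat]
  apply Finset.dvd_sum
  intro χ _
  by_cases h1 : (χ : G → ℂ) 1 = 1
  · rw [hlin χ h1, mul_zero]; exact dvd_zero _
  · obtain ⟨d', hd', hpd⟩ := hdeg χ h1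
    have : d χ = d' := by
      have : (d χ : ℂ) = d' := by rw [← hd χ, hd']
      exact_mod_cast this
    rw [this]
    exact Dvd.dvd.mul_right hpd _

/-- Under the hypothesis of Thompson's theorem, `P ∩ G' ≤ P'` for a Sylow `p`-subgroup `P`. -/
theorem mem_commutator_sylow {G : Type*} [Group G] [Finite G] (p : ℕ) [Fact p.Prime]
    (hdeg : ∀ χ : IrrCharacter G, (χ : G → ℂ) 1 ≠ 1 → ∃ d : ℕ, (χ : G → ℂ) 1 = d ∧ p ∣ d)
    (P : Sylow p G) (x : (P : Subgroup G)) (hx : (x : G) ∈ commutator G) :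
    x ∈ commutator (P : Subgroup G) := by
  by_contra hnot
  have hne : (Abelianization.of x : Abelianization (P : Subgroup G)) ≠ 1 := by
    intro h
    apply hnot
    rw [← Abelianization.ker_of, MonoidHom.mem_ker]
    exact h
  have : NeZero (Monoid.exponent (Abelianization (P : Subgroup G))) :=
    ⟨Monoid.exponent_ne_zero_of_finite⟩
  obtain ⟨φ, hφ⟩ := CommGroup.exists_apply_ne_one_of_hasEnoughRootsOfUnity
    (Abelianization (P : Subgroup G)) ℂ hne
  exact hφ (linear_trivial p hdeg P (φ.comp Abelianization.of) x hx)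

/-- **Thompson's theorem**: if `p` divides the degree of every nonlinear irreducible character of
`G`, then `G` has a normal `p`-complement. -/
theorem hasNormalPComplement {G : Type*} [Group G] [Finite G] (p : ℕ) [Fact p.Prime]
    (hdeg : ∀ χ : IrrCharacter G, (χ : G → ℂ) 1 ≠ 1 → ∃ d : ℕ, (χ : G → ℂ) 1 = d ∧ p ∣ d) :
    HasNormalPComplement p G := by
  have hp := (Fact.out : p.Prime)
  obtain ⟨P⟩ : Nonempty (Sylow p G) := inferInstance
  have hcop : Nat.Coprime (P : Subgroup G).index (⁅(P : Subgroup G), (P : Subgroup G)⁆.relIndex (P : Subgroup G)) := by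
    obtain ⟨k, hk⟩ := IsPGroup.iff_card.mp P.2
    have h1 : ⁅(P : Subgroup G), (P : Subgroup G)⁆.relIndex (P : Subgroup G) ∣ p ^ k :=
      hk ▸ Subgroup.relIndex_dvd_card _ _
    obtain ⟨j, -, hj⟩ := (Nat.dvd_prime_pow hp).1 h1
    rw [hj]
    apply Nat.Coprime.pow_right
    exact (Nat.Prime.coprime_iff_not_dvd hp).2 P.not_dvd_index |>.symm
  obtain ⟨-, N, hNn, hNP, hsup⟩ := Cfsg.Agent.S0080.result (P : Subgroup G) hcop
  haveI := hNn
  have hidx : ∃ k : ℕ, N.index = p ^ k := by
    have h1 : N.index = N.relIndex (P : Subgroup G) := by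
      rw [← Subgroup.relIndex_top_right, ← hsup, Subgroup.relIndex_sup_left]
    obtain ⟨k, hk⟩ := IsPGroup.iff_card.mp P.2
    have h2 : N.relIndex (P : Subgroup G) ∣ p ^ k := hk ▸ Subgroup.relIndex_dvd_card _ _
    obtain ⟨j, -, hj⟩ := (Nat.dvd_prime_pow hp).1 h2
    exact ⟨j, h1.trans hj⟩
  obtain ⟨k, hk⟩ := hidx
  apply Cfsg.Agent.Lib.Helper6.hasNormalPComplement_of_normal_index_pow N k hk
  apply Cfsg.Agent.Lib.Lead.tate P N
  rw [hNP]
  intro y hy
  obtain ⟨hy1, hy2⟩ := Subgroup.mem_inf.1 hy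
  have h1 := mem_commutator_sylow p hdeg P ⟨y, hy2⟩ hy1
  have h2 := Cfsg.Agent.Lib.Lead.commutator_le_frattini_of_isPGroup P.isPGroup' h1
  exact ⟨⟨y, hy2⟩, h2, rfl⟩

/-- Thompson's theorem, with the normal `p`-complement spelled out. -/
theorem exists_normal_complement {G : Type*} [Group G] [Finite G] (p : ℕ) [Fact p.Prime]
    (hdeg : ∀ χ : IrrCharacter G, (χ : G → ℂ) 1 ≠ 1 → ∃ d : ℕ, (χ : G → ℂ) 1 = d ∧ p ∣ d) :
    ∃ N : Subgroup G, N.Normal ∧ (Nat.card N).Coprime p ∧ ∃ k : ℕ, N.index = p ^ k := by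
  obtain ⟨T, K, hKn, hc⟩ := hasNormalPComplement p hdeg
  exact ⟨K, hKn, Cfsg.Agent.Lib.Lead.card_coprime_of_isComplement' T K hc,
    Cfsg.Agent.Lib.Lead.index_eq_pow_of_isComplement' T K hc⟩

end Cfsg.Agent.Lib.Helper2.ThompsonDeg
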