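import Mathlib
import Cfsg.Agent.Lib.Helper2.Thompson
import Cfsg.Agent.Lib.Helper2.OmegaZ
import Cfsg.Agent.S0604

set_option autoImplicit false

/-!
Thompson subgroups of subgroups, the Frattini argument, and Thompson factorizability.
-/

namespace Cfsg.Agent.Lib.Helper2.ThompsonOf

open Cfsg Cfsg.Agent.Lib.Helper2
open scoped Pointwise

variable {G : Type*} [Group G] {p : ℕ}

/-- `A` is an elementary abelian subgroup of `U` of largest order. -/
def IsMaxEAIn (p : ℕ) (U A : Subgroup G) : Prop :=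
  A ≤ U ∧ IsElementaryAbelian p A ∧
    ∀ B : Subgroup G, B ≤ U → IsElementaryAbelian p B → Nat.card B ≤ Nat.card A

theorem thompsonSubgroupOf_eq (U : Subgroup G) :
    thompsonSubgroupOf p U = ⨆ A : {A : Subgroup G // IsMaxEAIn p U A}, (A : Subgroup G) := by
  apply le_antisymm
  · unfold thompsonSubgroupOf thompsonSubgroup
    rw [Subgroup.map_le_iff_le_comap]
    apply sSup_le
    intro B hB
    rw [← Subgroup.map_le_iff_le_comap]
    have hmax : IsMaxEAIn p U (B.map U.subtype) := by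
      refine ⟨Subgroup.map_subtype_le B, (isEA_map_of_injective _ U.subtype_injective B).mpr hB.1, ?_⟩
      intro B' hB'U hB'
      rw [Subgroup.card_map_of_injective U.subtype_injective,
        ← Cfsg.Agent.S0604.card_subgroupOf_of_le hB'U]
      exact hB.2 _ (Cfsg.Agent.S0604.isEA_subgroupOf_of_le hB'U hB')
    exact le_iSup (fun A : {A : Subgroup G // IsMaxEAIn p U A} => (A : Subgroup G))
      ⟨_, hmax⟩
  · apply iSup_le
    rintro ⟨A, hAU, hA, hmax⟩
    show A ≤ thompsonSubgroupOf p U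
    unfold thompsonSubgroupOf thompsonSubgroup
    rw [← Subgroup.map_subgroupOf_eq_of_le hAU]
    apply Subgroup.map_mono
    apply le_sSup
    refine ⟨Cfsg.Agent.S0604.isEA_subgroupOf_of_le hAU hA, ?_⟩
    intro B hB
    have h1 := hmax (B.map U.subtype) (Subgroup.map_subtype_le B)
      ((isEA_map_of_injective _ U.subtype_injective B).mpr hB)
    rw [Subgroup.card_map_of_injective U.subtype_injective] at h1
    rw [Cfsg.Agent.S0604.card_subgroupOf_of_le hAU]
    exact h1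

theorem thompsonSubgroupOf_le (U : Subgroup G) : thompsonSubgroupOf p U ≤ U := by
  unfold thompsonSubgroupOf
  exact Subgroup.map_subtype_le _

variable [Finite G]

/-- If `J(S) ≤ T ≤ S`, then every element normalizing `T` normalizes `J(S)`. -/
theorem normalizer_le_normalizer_thompsonOf {S T : Subgroup G}
    (hJT : thompsonSubgroupOf p S ≤ T) (hTS : T ≤ S) :
    Subgroup.normalizer (T : Set G) ≤ Subgroup.normalizer (thompsonSubgroupOf p S : Set G) := by
  intro n hn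
  apply Subgroup.mem_normalizer_fintype
  intro j hj
  have hj' : j ∈ thompsonSubgroupOf p S := hj
  show n * j * n⁻¹ ∈ thompsonSubgroupOf p S
  have key : (thompsonSubgroupOf p S).map (MulAut.conj n).toMonoidHom ≤ thompsonSubgroupOf p S := by
    conv_lhs => rw [thompsonSubgroupOf_eq]
    rw [Subgroup.map_iSup]
    apply iSup_le
    rintro ⟨A, hAS, hA, hmax⟩
    show A.map (MulAut.conj n).toMonoidHom ≤ thompsonSubgroupOf p S
    have hAJ : A ≤ thompsonSubgroupOf p S := by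
      rw [thompsonSubgroupOf_eq]
      exact le_iSup (fun A : {A : Subgroup G // IsMaxEAIn p S A} => (A : Subgroup G))
        ⟨A, hAS, hA, hmax⟩
    have hA'T : A.map (MulAut.conj n).toMonoidHom ≤ T := by
      rintro _ ⟨a, ha, rfl⟩
      exact (Subgroup.mem_normalizer_iff.mp hn a).mp (hJT (hAJ ha))
    have hmax' : IsMaxEAIn p S (A.map (MulAut.conj n).toMonoidHom) := by
      refine ⟨hA'T.trans hTS, (isEA_map_of_injective _ (MulAut.conj n).injective A).mpr hA, ?_⟩
      intro B hB hBEA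
      rw [Subgroup.card_map_of_injective (MulAut.conj n).injective]
      exact hmax B hB hBEA
    rw [thompsonSubgroupOf_eq]
    exact le_iSup (fun A : {A : Subgroup G // IsMaxEAIn p S A} => (A : Subgroup G)) ⟨_, hmax'⟩
  exact key ⟨j, hj', rfl⟩

variable [Fact p.Prime]

/-- The Frattini argument for `S ⊓ N`. -/
theorem frattini_inf (S : Sylow p G) (N : Subgroup G) [N.Normal] (g : G) :
    ∃ c ∈ N, ∃ n ∈ Subgroup.normalizer (((S : Subgroup G) ⊓ N : Subgroup G) : Set G), g = c * n := by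
  have hp : IsPGroup p ((S : Subgroup G).subgroupOf N) :=
    S.isPGroup'.comap_subtype
  have hidx : ¬ p ∣ ((S : Subgroup G).subgroupOf N).index := by
    show ¬ p ∣ (S : Subgroup G).relIndex N
    rw [← relIndex_sup_left_of_le_normalizer (S : Subgroup G) N
      (by rw [Subgroup.normalizer_eq_top]; exact le_top)]
    intro hdvd
    exact S.not_dvd_index (hdvd.trans (Subgroup.relIndex_dvd_index_of_le le_sup_left))
  have hF := Sylow.normalizer_sup_eq_top (hp.toSylow hidx)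
  rw [IsPGroup.toSylow_coe, Subgroup.subgroupOf_map_subtype] at hF
  have hg : g ∈ Subgroup.normalizer (((S : Subgroup G) ⊓ N : Subgroup G) : Set G) ⊔ N := by
    rw [hF]; trivial
  obtain ⟨y, hy, z, hz, rfl⟩ := Subgroup.mem_sup_of_normal_right.mp hg
  refine ⟨y * z * y⁻¹, ‹N.Normal›.conj_mem z hz y, y, hy, ?_⟩
  group

theorem thompsonOf_le_thompson (S : Sylow p G) :
    thompsonSubgroupOf p (S : Subgroup G) ≤ thompsonSubgroup p G := by
  rw [Cfsg.Agent.S0604.result (G := G) (p := p)]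
  exact le_iSup (fun S : Sylow p G => thompsonSubgroupOf p (S : Subgroup G)) S

open Cfsg.Agent.Lib.Helper2.OmegaZ

theorem WS_le (S : Subgroup G) : WS p S ≤ S ⊓ Subgroup.centralizer (S : Set G) := by
  unfold WS Cfsg.omegaOne
  rw [Subgroup.closure_le]
  rintro x ⟨hx, _⟩
  exact hx

/-- If `J(G)` centralizes `V`, then `G` is Thompson factorizable. -/
theorem factorizable_of_le_centralizer
    (h : thompsonSubgroup p G ≤ Subgroup.centralizer ((VV p G : Subgroup G) : Set G)) :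
    IsThompsonFactorizable p G := by
  intro S g
  haveI : (VV p G).Normal := VV_normal
  haveI : (Subgroup.centralizer ((VV p G : Subgroup G) : Set G)).Normal :=
    Subgroup.normal_centralizer
  obtain ⟨c, hc, n, hn, rfl⟩ :=
    frattini_inf S (Subgroup.centralizer ((VV p G : Subgroup G) : Set G)) g
  refine ⟨1, Subgroup.one_mem _, c, ?_, n, ?_, by rw [one_mul]⟩
  · refine Subgroup.centralizer_le ?_ hc
    exact_mod_cast (le_iSup (fun S : Sylow p G => WS p (S : Subgroup G)) S)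
  · refine normalizer_le_normalizer_thompsonOf ?_ inf_le_left hn
    exact le_inf (thompsonSubgroupOf_le _) ((thompsonOf_le_thompson S).trans h)

/-- If `G` is Thompson factorizable and `O_{p'}(G) = 1`, then `J(G)` centralizes `V`. -/
theorem le_centralizer_of_factorizable (hO : pPrimeCore p G = ⊥)
    (h : IsThompsonFactorizable p G) :
    thompsonSubgroup p G ≤ Subgroup.centralizer ((VV p G : Subgroup G) : Set G) := by
  have key : ∀ S S' : Sylow p G, ∀ j ∈ thompsonSubgroupOf p (S : Subgroup G),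
      ∀ x ∈ WS p (S' : Subgroup G), j * x = x * j := by
    intro S S' j hj x hx
    obtain ⟨g, hg⟩ := MulAction.exists_smul_eq G S S'
    have hy : g⁻¹ * x * g⁻¹⁻¹ ∈ WS p (S : Subgroup G) := by
      have h1 := WS_map_conj g⁻¹ S' ⟨x, hx, rfl⟩
      have h2 : (g⁻¹ • S' : Sylow p G) = S := by rw [← hg, inv_smul_smul]
      rw [h2] at h1
      exact h1
    obtain ⟨x₀, hx₀, c, hc, n, hn, hfac⟩ := h S g⁻¹
    rw [hO, Subgroup.mem_bot] at hx₀
    rw [hx₀, one_mul] at hfac
    have hj' : n * j * n⁻¹ ∈ thompsonSubgroupOf p (S : Subgroup G) :=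
      (Subgroup.mem_normalizer_iff.mp hn j).mp hj
    have hjS : n * j * n⁻¹ ∈ (S : Subgroup G) := thompsonSubgroupOf_le _ hj'
    have hyZ := (Subgroup.mem_inf.mp (WS_le _ hy)).2
    rw [Subgroup.mem_centralizer_iff] at hyZ hc
    have e1 : (n * j * n⁻¹) * (g⁻¹ * x * g⁻¹⁻¹) = (g⁻¹ * x * g⁻¹⁻¹) * (n * j * n⁻¹) := hyZ _ hjS
    have e2 : (g⁻¹ * x * g⁻¹⁻¹) * c = c * (g⁻¹ * x * g⁻¹⁻¹) := hc _ hy
    have e2' : c⁻¹ * (g⁻¹ * x * g⁻¹⁻¹) = (g⁻¹ * x * g⁻¹⁻¹) * c⁻¹ := by
      calc c⁻¹ * (g⁻¹ * x * g⁻¹⁻¹) = c⁻¹ * ((g⁻¹ * x * g⁻¹⁻¹) * c) * c⁻¹ := by group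
        _ = c⁻¹ * (c * (g⁻¹ * x * g⁻¹⁻¹)) * c⁻¹ := by rw [e2]
        _ = (g⁻¹ * x * g⁻¹⁻¹) * c⁻¹ := by group
    -- g⁻¹ j g = c (n j n⁻¹) c⁻¹ commutes with y
    have e3 : (c * (n * j * n⁻¹) * c⁻¹) * (g⁻¹ * x * g⁻¹⁻¹)
        = (g⁻¹ * x * g⁻¹⁻¹) * (c * (n * j * n⁻¹) * c⁻¹) := by
      calc (c * (n * j * n⁻¹) * c⁻¹) * (g⁻¹ * x * g⁻¹⁻¹)
          = c * (n * j * n⁻¹) * (c⁻¹ * (g⁻¹ * x * g⁻¹⁻¹)) := by group
        _ = c * ((n * j * n⁻¹) * (g⁻¹ * x * g⁻¹⁻¹)) * c⁻¹ := by rw [e2']; group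
        _ = (c * (g⁻¹ * x * g⁻¹⁻¹)) * (n * j * n⁻¹) * c⁻¹ := by rw [e1]; group
        _ = (g⁻¹ * x * g⁻¹⁻¹) * (c * (n * j * n⁻¹) * c⁻¹) := by rw [← e2]; group
    have e4 : c * (n * j * n⁻¹) * c⁻¹ = g⁻¹ * j * g⁻¹⁻¹ := by
      rw [hfac]; group
    rw [e4] at e3
    calc j * x = g * ((g⁻¹ * j * g⁻¹⁻¹) * (g⁻¹ * x * g⁻¹⁻¹)) * g⁻¹ := by group
      _ = g * ((g⁻¹ * x * g⁻¹⁻¹) * (g⁻¹ * j * g⁻¹⁻¹)) * g⁻¹ := by rw [e3]
      _ = x * j := by group
  rw [Cfsg.Agent.S0604.result (G := G) (p := p)]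
  apply iSup_le
  intro S
  rw [Subgroup.le_centralizer_iff]
  apply iSup_le
  intro S' x hx
  rw [Subgroup.mem_centralizer_iff]
  intro j hj
  exact key S S' j hj x hx

end Cfsg.Agent.Lib.Helper2.ThompsonOf
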