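import Mathlib

set_option autoImplicit false

namespace Cfsg.Agent.Lib.Helper2

namespace TmulForm

open TensorProduct Module

variable {F U W : Type*} [Field F] [AddCommGroup U] [Module F U] [AddCommGroup W] [Module F W]

theorem tmul_apply (B₁ : LinearMap.BilinForm F U) (B₂ : LinearMap.BilinForm F W) (u u' : U)
    (w w' : W) : (B₁.tmul B₂) (u ⊗ₜ[F] w) (u' ⊗ₜ[F] w') = B₁ u u' * B₂ w w' := by
  show (LinearMap.BilinForm.tensorDistrib F F (B₁ ⊗ₜ[F] B₂)) (u ⊗ₜ[F] w) (u' ⊗ₜ[F] w') = _
  rw [LinearMap.BilinForm.tensorDistrib_tmul, smul_eq_mul, mul_comm]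

theorem toMatrix_tmul {ι κ : Type*} [Fintype ι] [Fintype κ] [DecidableEq ι] [DecidableEq κ]
    (b₁ : Basis ι F U) (b₂ : Basis κ F W) (B₁ : LinearMap.BilinForm F U)
    (B₂ : LinearMap.BilinForm F W) :
    LinearMap.BilinForm.toMatrix (b₁.tensorProduct b₂) (B₁.tmul B₂) =
      Matrix.kroneckerMap (fun x1 x2 => x1 * x2) (LinearMap.BilinForm.toMatrix b₁ B₁)
        (LinearMap.BilinForm.toMatrix b₂ B₂) := by
  ext ⟨i, j⟩ ⟨i', j'⟩
  rw [LinearMap.BilinForm.toMatrix_apply, Matrix.kroneckerMap_apply, LinearMap.BilinForm.toMatrix_apply,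
    LinearMap.BilinForm.toMatrix_apply, Basis.tensorProduct_apply, Basis.tensorProduct_apply, tmul_apply]

theorem det_toMatrix_tmul {ι κ : Type*} [Fintype ι] [Fintype κ] [DecidableEq ι] [DecidableEq κ]
    (b₁ : Basis ι F U) (b₂ : Basis κ F W) (B₁ : LinearMap.BilinForm F U)
    (B₂ : LinearMap.BilinForm F W) :
    (LinearMap.BilinForm.toMatrix (b₁.tensorProduct b₂) (B₁.tmul B₂)).det =
      (LinearMap.BilinForm.toMatrix b₁ B₁).det ^ Fintype.card κ *
        (LinearMap.BilinForm.toMatrix b₂ B₂).det ^ Fintype.card ι := by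
  rw [toMatrix_tmul, Matrix.det_kronecker]

theorem tmul_nondegenerate [FiniteDimensional F U] [FiniteDimensional F W]
    {B₁ : LinearMap.BilinForm F U} {B₂ : LinearMap.BilinForm F W} (h₁ : B₁.Nondegenerate)
    (h₂ : B₂.Nondegenerate) : (B₁.tmul B₂).Nondegenerate := by
  classical
  let b₁ := Module.finBasis F U
  let b₂ := Module.finBasis F W
  have h₁' := (LinearMap.BilinForm.nondegenerate_iff_det_ne_zero b₁).1 h₁
  have h₂' := (LinearMap.BilinForm.nondegenerate_iff_det_ne_zero b₂).1 h₂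
  apply (LinearMap.BilinForm.nondegenerate_iff_det_ne_zero (b₁.tensorProduct b₂)).2
  rw [det_toMatrix_tmul]
  exact mul_ne_zero (pow_ne_zero _ h₁') (pow_ne_zero _ h₂')

/-- two bilinear forms on a tensor product agreeing on pure tensors are equal -/
theorem ext_tmul {B B' : LinearMap.BilinForm F (U ⊗[F] W)}
    (h : ∀ u w u' w', B (u ⊗ₜ[F] w) (u' ⊗ₜ[F] w') = B' (u ⊗ₜ[F] w) (u' ⊗ₜ[F] w')) : B = B' := by
  apply TensorProduct.ext'
  intro u w
  apply TensorProduct.ext'
  intro u' w'
  exact h u w u' w'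

theorem tmul_symm_of_alt {B₁ : LinearMap.BilinForm F U} {B₂ : LinearMap.BilinForm F W}
    (hA₁ : B₁.IsAlt) (hA₂ : B₂.IsAlt) : (B₁.tmul B₂).IsSymm := by
  have h : B₁.tmul B₂ = (B₁.tmul B₂).flip := by
    apply ext_tmul
    intro u w u' w'
    rw [LinearMap.flip_apply, tmul_apply, tmul_apply, ← hA₁.neg_eq u u', ← hA₂.neg_eq w w']
    ring
  refine ⟨fun x y => ?_⟩
  conv_lhs => rw [h]
  rfl

theorem tmul_symm_of_symm {B₁ : LinearMap.BilinForm F U} {B₂ : LinearMap.BilinForm F W}
    (hS₁ : B₁.IsSymm) (hS₂ : B₂.IsSymm) : (B₁.tmul B₂).IsSymm := by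
  have h : B₁.tmul B₂ = (B₁.tmul B₂).flip := by
    apply ext_tmul
    intro u w u' w'
    rw [LinearMap.flip_apply, tmul_apply, tmul_apply, hS₁.eq u u', hS₂.eq w w']
  refine ⟨fun x y => ?_⟩
  conv_lhs => rw [h]
  rfl

/-- a form vanishing on a spanning set vanishes on the span -/
theorem eq_zero_on_span {V : Type*} [AddCommGroup V] [Module F V] (B : LinearMap.BilinForm F V)
    (S : Set V) (h : ∀ s ∈ S, ∀ t ∈ S, B s t = 0) :
    ∀ x ∈ Submodule.span F S, ∀ y ∈ Submodule.span F S, B x y = 0 := by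
  intro x hx y hy
  have h1 : ∀ s ∈ S, Submodule.span F S ≤ LinearMap.ker (B s) := by
    intro s hs
    rw [Submodule.span_le]
    intro t ht
    exact h s hs t ht
  have h2 : Submodule.span F S ≤ LinearMap.ker (B.flip y) := by
    rw [Submodule.span_le]
    intro s hs
    show B s y = 0
    exact h1 s hs hy
  exact h2 hx

/-- a totally isotropic subspace of the first factor gives one of the tensor product -/
theorem exists_isotropic_tmul [FiniteDimensional F U] [FiniteDimensional F W]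
    (B₁ : LinearMap.BilinForm F U) (B₂ : LinearMap.BilinForm F W) (X₁ : Submodule F U)
    (hX₁ : ∀ x ∈ X₁, ∀ y ∈ X₁, B₁ x y = 0) :
    ∃ X : Submodule F (U ⊗[F] W), finrank F X = finrank F X₁ * finrank F W ∧
      ∀ x ∈ X, ∀ y ∈ X, (B₁.tmul B₂) x y = 0 := by
  classical
  set φ : X₁ ⊗[F] W →ₗ[F] U ⊗[F] W := LinearMap.rTensor W X₁.subtype with hφ
  have hinj : Function.Injective φ :=
    Module.Flat.rTensor_preserves_injective_linearMap _ X₁.injective_subtype
  refine ⟨LinearMap.range φ, ?_, ?_⟩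
  · rw [LinearMap.finrank_range_of_inj hinj, Module.finrank_tensorProduct]
  · have key : ∀ a b : X₁ ⊗[F] W, (B₁.tmul B₂) (φ a) (φ b) = 0 := by
      intro a b
      induction a using TensorProduct.induction_on with
      | zero => rw [map_zero, map_zero, LinearMap.zero_apply]
      | tmul x w =>
        induction b using TensorProduct.induction_on with
        | zero => rw [map_zero, map_zero]
        | tmul y w' =>
          rw [hφ, LinearMap.rTensor_tmul, LinearMap.rTensor_tmul, tmul_apply]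
          show B₁ (x : U) (y : U) * _ = 0
          rw [hX₁ x x.2 y y.2, zero_mul]
        | add b b' hb hb' => rw [map_add, map_add, hb, hb', add_zero]
      | add a a' ha ha' => rw [map_add, map_add, LinearMap.add_apply, ha, ha', add_zero]
    rintro _ ⟨a, rfl⟩ _ ⟨b, rfl⟩
    exact key a b

end TmulForm

end Cfsg.Agent.Lib.Helper2
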