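import Mathlib
import Cfsg.Agent.Lib.Helper2.UT16

set_option autoImplicit false

namespace Cfsg.Agent.Lib.Helper2

namespace U32

open Module IsomDecomp HermDecomp Cfsg.Agent.Lib.Helper5.PSLCoset UT

universe u

variable {F : Type u} [Field F] [Finite F] {σ : F ≃+* F} {V : Type u} [AddCommGroup V]
  [Module F V] [FiniteDimensional F V] {H : V → V → F}

/-- Witt's theorem with determinant one -/
theorem exists_SU_of_witt (hσ : orderOf σ = 2) (h : IsHerm σ H)
    (hnd : ∀ v, (∀ w, H v w = 0) → v = 0)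
    {U : Type u} [AddCommGroup U] [Module F U] [FiniteDimensional F U] (f₁ f₂ : U →ₗ[F] V)
    (h₁ : Function.Injective f₁) (h₂ : Function.Injective f₂)
    (hiso : ∀ a b, H (f₁ a) (f₁ b) = H (f₂ a) (f₂ b)) (w : V) (hw : H w w ≠ 0)
    (hwf : ∀ a, H (f₂ a) w = 0) :
    ∃ t ∈ isom H, LinearEquiv.det t = 1 ∧ ∀ a, t (f₁ a) = f₂ a := by
  obtain ⟨g₀, hg₀, hg₀f⟩ := WittHerm.witt_aux hσ h hnd _ U f₁ f₂ rfl h₁ h₂ hiso
  have hg₀' : g₀ ∈ isom H := hg₀
  obtain ⟨a, ha0, haw⟩ := exists_smul_norm_one hσ h w hw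
  obtain ⟨δ, hδ⟩ : ∃ δ : F, δ = (LinearEquiv.det g₀ : F) := ⟨_, rfl⟩
  have hδn : δ * σ δ = 1 := by rw [hδ]; exact det_norm hσ h hnd hg₀'
  have hδ0 : δ ≠ 0 := by
    rw [hδ]
    exact Units.ne_zero _
  have hα0 : δ⁻¹ ≠ 0 := inv_ne_zero hδ0
  have hαn : δ⁻¹ * σ δ⁻¹ = 1 := by
    rw [map_inv₀, ← mul_inv, hδn, inv_one]
  refine ⟨qr h (a • w) δ⁻¹ haw hα0 * g₀, ?_, ?_, ?_⟩
  · exact (isom H).mul_mem (qr_mem_isom h _ _ haw hα0 hαn) hg₀'
  · apply Units.ext
    rw [map_mul, Units.val_mul, det_qr, ← hδ, Units.val_one, inv_mul_cancel₀ hδ0]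
  · intro x
    rw [LinearEquiv.mul_apply, hg₀f, qr_apply, h.smul_right, hwf, mul_zero, mul_zero, zero_smul,
      add_zero]

/-- transitivity of the special isometry group on hyperbolic pairs -/
theorem exists_SU_map_pair (hσ : orderOf σ = 2) (h : IsHerm σ H)
    (hnd : ∀ v, (∀ w, H v w = 0) → v = 0) (hdim : 3 ≤ finrank F V)
    {u r u' r' : V} (hp : HypPair H u r) (hp' : HypPair H u' r') :
    ∃ t ∈ isom H, LinearEquiv.det t = 1 ∧ t u = u' ∧ t r = r' := by
  have hval : ∀ (x y : V) (a : Fin 2 → F),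
      Fintype.linearCombination F ![x, y] a = a 0 • x + a 1 • y := by
    intro x y a
    rw [Fintype.linearCombination_apply, Fin.sum_univ_two]
    rfl
  have hform : ∀ (x y : V), HypPair H x y → ∀ a b : Fin 2 → F,
      H (Fintype.linearCombination F ![x, y] a) (Fintype.linearCombination F ![x, y] b) =
        a 0 * σ (b 1) + a 1 * σ (b 0) := by
    intro x y hxy a b
    rw [hval, hval]
    simp only [h.add_left, h.add_right, h.smul_left, h.smul_right, hxy.uu, hxy.vv, hxy.uv,
      hxy.vu h]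
    ring
  obtain ⟨w, hw, hwu, hwr⟩ := exists_aniso_ortho_pair hσ h hnd hdim hp'.uu hp'.vv
    (by rw [hp'.uv]; exact one_ne_zero)
  obtain ⟨t, ht, htdet, htf⟩ := exists_SU_of_witt hσ h hnd
    (Fintype.linearCombination F ![u, r]) (Fintype.linearCombination F ![u', r'])
    (linearIndependent_iff_injective_fintypeLinearCombination.1 (hp.linearIndependent h))
    (linearIndependent_iff_injective_fintypeLinearCombination.1 (hp'.linearIndependent h))
    (fun a b => by rw [hform u r hp, hform u' r' hp']) w hw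
    (fun a => by
      rw [hval, h.add_left, h.smul_left, h.smul_left, h.symm w u', h.symm w r', hwu, hwr,
        map_zero, mul_zero, mul_zero, add_zero])
  refine ⟨t, ht, htdet, ?_, ?_⟩
  · have := htf ![1, 0]
    rw [hval, hval] at this
    simpa using this
  · have := htf ![0, 1]
    rw [hval, hval] at this
    simpa using this

/-- in dimension three, orthogonal isotropic vectors are proportional -/
theorem iso_perp_dim3 (hσ : orderOf σ = 2) (h : IsHerm σ H)
    (hnd : ∀ v, (∀ w, H v w = 0) → v = 0) (hdim : finrank F V = 3) {u r : V} (hu0 : u ≠ 0)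
    (hu : H u u = 0) (hr : H r r = 0) (hur : H u r = 0) : ∃ a : F, r = a • u := by
  by_contra hcon
  push Not at hcon
  have hru : H r u = 0 := by rw [h.symm u r, hur, map_zero]
  have hli : LinearIndependent F ![u, r] := by
    rw [LinearIndependent.pair_iff]
    intro s t hst
    by_cases ht : t = 0
    · rw [ht, zero_smul, add_zero] at hst
      rcases smul_eq_zero.1 hst with h0 | h0
      · exact ⟨h0, ht⟩
      · exact absurd h0 hu0
    · exfalso
      apply hcon (-(t⁻¹ * s))
      have : t • r = -(s • u) := eq_neg_of_add_eq_zero_right hst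
      have h3 : r = t⁻¹ • (t • r) := by rw [smul_smul, inv_mul_cancel₀ ht, one_smul]
      rw [h3, this, smul_neg, smul_smul, neg_smul]
  obtain ⟨W, hW⟩ : ∃ W : Submodule F V, W = orthoCompl h (Submodule.span F {u}) := ⟨_, rfl⟩
  have hfrW : finrank F W = 2 := by
    have h1 := HermFrames.finrank_orthoCompl hσ h hnd (Submodule.span F {u})
    rw [finrank_span_singleton hu0, hdim] at h1
    rw [hW]
    omega
  obtain ⟨P, hP⟩ : ∃ P : Submodule F V, P = Submodule.span F (Set.range ![u, r]) := ⟨_, rfl⟩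
  have hfrP : finrank F P = 2 := by
    rw [hP, finrank_span_eq_card hli, Fintype.card_fin]
  have hmemW : ∀ x, x ∈ W ↔ H u x = 0 := by
    intro x
    rw [hW, mem_orthoCompl]
    constructor
    · intro hx
      exact hx u (Submodule.mem_span_singleton_self u)
    · intro hx y hy
      obtain ⟨a, rfl⟩ := Submodule.mem_span_singleton.1 hy
      rw [h.smul_left, hx, mul_zero]
  have hPW : P ≤ W := by
    rw [hP, Submodule.span_le]
    rintro x ⟨i, rfl⟩
    fin_cases i
    · exact (hmemW u).2 hu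
    · exact (hmemW r).2 hur
  have hPeq : P = W := Submodule.eq_of_le_of_finrank_eq hPW (by rw [hfrP, hfrW])
  have hrW : r ∈ orthoCompl h W := by
    rw [mem_orthoCompl]
    intro x hx
    rw [← hPeq, hP, Submodule.mem_span_range_iff_exists_fun] at hx
    obtain ⟨c, rfl⟩ := hx
    rw [Fin.sum_univ_two, h.add_left, h.smul_left, h.smul_left]
    show c 0 * H u r + c 1 * H r r = 0
    rw [hur, hr, mul_zero, mul_zero, add_zero]
  rw [hW, HermFrames.orthoCompl_orthoCompl hσ h hnd] at hrW
  obtain ⟨a, ha⟩ := Submodule.mem_span_singleton.1 hrW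
  exact hcon a ha.symm

end U32

end Cfsg.Agent.Lib.Helper2
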