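import Mathlib
import Cfsg.Agent.Lib.Helper2.U32a
import Cfsg.Agent.Lib.Helper2.SU3Inv5

set_option autoImplicit false

namespace Cfsg.Agent.Lib.Helper2

namespace U32

open Module IsomDecomp HermDecomp Cfsg.Agent.Lib.Helper5.PSLCoset UT SU3Inv

universe u

section action

variable {F : Type u} [Field F] {σ : F ≃+* F} {V : Type u} [AddCommGroup V]
  [Module F V] {H : V → V → F}

variable {S : Type*} [Group S] {ρ : S →* (V ≃ₗ[F] V)}

theorem iso_map (hρ : ∀ s, ρ s ∈ isom H) (s : S) {u : V} (hu : H u u = 0) :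
    H (ρ s u) (ρ s u) = 0 := by
  rw [hρ s u u]
  exact hu

/-- the action on isotropic points -/
def ptsAction (hρ : ∀ s, ρ s ∈ isom H) : MulAction S (Pts H) where
  smul s P := ⟨P.1.map ((ρ s : V ≃ₗ[F] V) : V →ₗ[F] V), by
    obtain ⟨u, hu0, hu, hP⟩ := P.2
    refine ⟨ρ s u, equiv_ne_zero _ hu0, iso_map hρ s hu, ?_⟩
    rw [hP, Submodule.map_span, Set.image_singleton]
    rfl⟩
  one_smul P := by
    apply Subtype.ext
    show P.1.map ((ρ 1 : V ≃ₗ[F] V) : V →ₗ[F] V) = P.1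
    rw [map_one]
    exact Submodule.map_id P.1
  mul_smul g g' P := by
    apply Subtype.ext
    show P.1.map ((ρ (g * g') : V ≃ₗ[F] V) : V →ₗ[F] V) =
      (P.1.map ((ρ g' : V ≃ₗ[F] V) : V →ₗ[F] V)).map ((ρ g : V ≃ₗ[F] V) : V →ₗ[F] V)
    rw [← Submodule.map_comp, map_mul]
    rfl

theorem smul_mkPt (hρ : ∀ s, ρ s ∈ isom H) (s : S) (u : V) (hu0 : u ≠ 0) (hu : H u u = 0) :
    (ptsAction hρ).smul s (mkPt u hu0 hu) =
      mkPt (ρ s u) (equiv_ne_zero _ hu0) (iso_map hρ s hu) := by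
  apply Subtype.ext
  show (Submodule.span F {u}).map ((ρ s : V ≃ₗ[F] V) : V →ₗ[F] V) = Submodule.span F {_}
  rw [Submodule.map_span, Set.image_singleton]
  rfl

/-- scalars act trivially -/
theorem smul_of_scalar (h : IsHerm σ H) (hρ : ∀ s, ρ s ∈ isom H) (s : S) (l : F)
    (hs : ∀ x, ρ s x = l • x) (P : Pts H) : (ptsAction hρ).smul s P = P := by
  obtain ⟨u, hu0, hu, rfl⟩ := exists_rep P
  rw [smul_mkPt]
  have hl : l ≠ 0 := by
    intro h0
    have := hs u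
    rw [h0, zero_smul] at this
    exact equiv_ne_zero (ρ s) hu0 this
  apply Eq.symm
  apply (mkPt_eq_iff h _ _ _ _ _ _).2
  exact ⟨l, hl, hs u⟩

end action

variable {F : Type u} [Field F] [Finite F] {σ : F ≃+* F} {V : Type u} [AddCommGroup V]
  [Module F V] [FiniteDimensional F V] {H : V → V → F}

variable {S : Type*} [Group S] {ρ : S →* (V ≃ₗ[F] V)}

/-- distinct isotropic points in dimension three are not orthogonal -/
theorem nonperp_of_ne (hσ : orderOf σ = 2) (h : IsHerm σ H)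
    (hnd : ∀ v, (∀ w, H v w = 0) → v = 0) (hdim : finrank F V = 3) {u r : V} (hu0 : u ≠ 0)
    (hu : H u u = 0) (hr0 : r ≠ 0) (hr : H r r = 0)
    (hne : mkPt u hu0 hu ≠ mkPt r hr0 hr) : H u r ≠ 0 := by
  intro h0
  obtain ⟨a, ha⟩ := iso_perp_dim3 hσ h hnd hdim hu0 hu hr h0
  apply hne
  apply (mkPt_eq_iff h _ _ _ _ _ _).2
  refine ⟨a, ?_, ha⟩
  rintro rfl
  rw [zero_smul] at ha
  exact hr0 ha

/-- the special isometry group is doubly transitive on the isotropic points -/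
theorem two_trans (hσ : orderOf σ = 2) (h : IsHerm σ H)
    (hnd : ∀ v, (∀ w, H v w = 0) → v = 0) (hdim : finrank F V = 3) (hρ : IsSU H ρ)
    (P₁ P₂ Q₁ Q₂ : Pts H) (hP : P₁ ≠ P₂) (hQ : Q₁ ≠ Q₂) :
    ∃ s : S, (ptsAction hρ.mem).smul s P₁ = Q₁ ∧ (ptsAction hρ.mem).smul s P₂ = Q₂ := by
  have hσ2 := WittHerm.sigma_sigma hσ
  obtain ⟨u, hu0, hu, rfl⟩ := exists_rep P₁
  obtain ⟨r, hr0, hr, rfl⟩ := exists_rep P₂
  obtain ⟨u', hu'0, hu', rfl⟩ := exists_rep Q₁
  obtain ⟨r', hr'0, hr', rfl⟩ := exists_rep Q₂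
  have hur := nonperp_of_ne hσ h hnd hdim hu0 hu hr0 hr hP
  have hur' := nonperp_of_ne hσ h hnd hdim hu'0 hu' hr'0 hr' hQ
  have hσur : σ (H u r) ≠ 0 := (map_ne_zero_iff _ σ.injective).2 hur
  have hσur' : σ (H u' r') ≠ 0 := (map_ne_zero_iff _ σ.injective).2 hur'
  have hp : HypPair H u ((σ (H u r))⁻¹ • r) :=
    ⟨hu, iso_smul h hr _, by rw [h.smul_right, map_inv₀, hσ2, inv_mul_cancel₀ hur]⟩
  have hp' : HypPair H u' ((σ (H u' r'))⁻¹ • r') :=
    ⟨hu', iso_smul h hr' _, by rw [h.smul_right, map_inv₀, hσ2, inv_mul_cancel₀ hur']⟩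
  obtain ⟨t, ht, htdet, htu, htr⟩ := exists_SU_map_pair hσ h hnd (by rw [hdim]) hp hp'
  obtain ⟨s, hs⟩ := hρ.surj t ht htdet
  refine ⟨s, ?_, ?_⟩
  · rw [smul_mkPt]
    exact mkPt_congr (by rw [hs, htu]) _ _ _ _
  · rw [smul_mkPt]
    have h3 : ρ s r = (σ (H u r) * (σ (H u' r'))⁻¹) • r' := by
      have h4 : r = σ (H u r) • ((σ (H u r))⁻¹ • r) := by
        rw [smul_smul, mul_inv_cancel₀ hσur, one_smul]
      conv_lhs => rw [h4]
      rw [map_smul, hs, htr, smul_smul]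
    apply Eq.symm
    apply (mkPt_eq_iff h _ _ _ _ _ _).2
    exact ⟨_, mul_ne_zero hσur (inv_ne_zero hσur'), h3⟩

/-- counting the isotropic points -/
theorem card_pts [Finite V] (h : IsHerm σ H) :
    Nat.card {v : V // v ≠ 0 ∧ H v v = 0} = Nat.card (Pts H) * Nat.card {a : F // a ≠ 0} := by
  haveI : Finite (Pts H) := by
    unfold Pts
    infer_instance
  apply Cfsg.Agent.Lib.Helper3.card_eq_mul_of_fibres
    (fun v : {v : V // v ≠ 0 ∧ H v v = 0} => mkPt v.1 v.2.1 v.2.2)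
  intro P
  obtain ⟨u, hu0, hu, rfl⟩ := exists_rep P
  apply Nat.card_congr
  have key : ∀ v : {v : V // v ≠ 0 ∧ H v v = 0}, mkPt v.1 v.2.1 v.2.2 = mkPt u hu0 hu →
      ∃ a : F, a ≠ 0 ∧ v.1 = a • u := fun v hv => (mkPt_eq_iff h _ _ _ _ _ _).1 hv.symm
  refine
    { toFun := fun v => ⟨Classical.choose (key v.1 v.2), (Classical.choose_spec (key v.1 v.2)).1⟩
      invFun := fun a => ⟨⟨a.1 • u, smul_ne_zero a.2 hu0, iso_smul h hu _⟩,
        mkPt_smul h u hu0 hu a.1 a.2⟩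
      left_inv := ?_
      right_inv := ?_ }
  · intro v
    apply Subtype.ext
    apply Subtype.ext
    exact (Classical.choose_spec (key v.1 v.2)).2.symm
  · intro a
    apply Subtype.ext
    have hk := key ⟨a.1 • u, smul_ne_zero a.2 hu0, iso_smul h hu _⟩
      (mkPt_smul h u hu0 hu a.1 a.2)
    show Classical.choose hk = a.1
    have h1 : a.1 • u = Classical.choose hk • u := (Classical.choose_spec hk).2
    have h2 : (a.1 - Classical.choose hk) • u = 0 := by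
      rw [sub_smul, sub_eq_zero]
      exact h1
    rcases smul_eq_zero.1 h2 with h3 | h3
    · exact (sub_eq_zero.1 h3).symm
    · exact absurd h3 hu0

end U32

end Cfsg.Agent.Lib.Helper2
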