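import Mathlib
import Cfsg.Agent.Lib.Helper2.U32b
import Cfsg.Agent.Lib.Helper2.SharpTwo4

set_option autoImplicit false

namespace Cfsg.Agent.Lib.Helper2

namespace U32

open Module IsomDecomp HermDecomp Cfsg.Agent.Lib.Helper5.PSLCoset UT SU3Inv MulAction

universe u

/-- a doubly transitive group of order `n (n - 1)` is sharply doubly transitive -/
theorem sharp_of_card {Γ : Type*} [Group Γ] [Finite Γ] {α : Type*} [Fintype α] [MulAction Γ α]
    [IsMultiplyPretransitive Γ α 2]
    (hcard : Nat.card Γ = Fintype.card α * (Fintype.card α - 1)) :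
    ∀ x : Fin 2 ↪ α, stabilizer Γ x = ⊥ := by
  classical
  intro x
  have hsurj : Function.Surjective (fun g : Γ => g • x) := fun y => MulAction.exists_smul_eq Γ x y
  have hle : Nat.card Γ ≤ Nat.card (Fin 2 ↪ α) := by
    rw [hcard, Nat.card_eq_fintype_card, Fintype.card_embedding_eq, Fintype.card_fin,
      show (2 : ℕ) = 1 + 1 from rfl, Nat.descFactorial_succ, Nat.descFactorial_one, mul_comm]
  have hbij := hsurj.bijective_of_nat_card_le hle
  rw [eq_bot_iff]
  intro g hg
  rw [mem_stabilizer_iff] at hg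
  rw [Subgroup.mem_bot]
  apply hbij.1
  show g • x = (1 : Γ) • x
  rw [hg, one_smul]

variable {F : Type u} [Field F] [Finite F] {σ : F ≃+* F} {V : Type u} [AddCommGroup V]
  [Module F V] [FiniteDimensional F V] {H : V → V → F}

variable {S : Type*} [Group S] {ρ : S →* (V ≃ₗ[F] V)}

/-- the permutation representation on the isotropic points -/
noncomputable def permHom (hρ : IsSU H ρ) : S →* Equiv.Perm (Pts H) :=
  @MulAction.toPermHom S (Pts H) _ (ptsAction hρ.mem)

omit [Finite F] [FiniteDimensional F V] in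
theorem permHom_apply (hρ : IsSU H ρ) (s : S) (P : Pts H) :
    permHom hρ s P = (ptsAction hρ.mem).smul s P := rfl

/-- the induced permutation representation of the central quotient -/
noncomputable def quotHom (h : IsHerm σ H) (hρ : IsSU H ρ)
    (hZ : ∀ z ∈ Subgroup.center S, ∃ l : F, ∀ x, ρ z x = l • x) :
    S ⧸ Subgroup.center S →* Equiv.Perm (Pts H) :=
  QuotientGroup.lift (Subgroup.center S) (permHom hρ) (by
    intro z hz
    obtain ⟨l, hl⟩ := hZ z hz
    rw [MonoidHom.mem_ker]
    apply Equiv.ext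
    intro P
    rw [permHom_apply]
    exact smul_of_scalar h hρ.mem z l hl P)

omit [Finite F] [FiniteDimensional F V] in
theorem quotHom_mk (h : IsHerm σ H) (hρ : IsSU H ρ)
    (hZ : ∀ z ∈ Subgroup.center S, ∃ l : F, ∀ x, ρ z x = l • x) (s : S) :
    quotHom h hρ hZ (QuotientGroup.mk s) = permHom hρ s := rfl

/-- the regular normal subgroup of order nine -/
theorem exists_normal_nine [Finite V] [Finite S] (hσ : orderOf σ = 2) (h : IsHerm σ H)
    (hnd : ∀ v, (∀ w, H v w = 0) → v = 0) (hdim : finrank F V = 3) (hρ : IsSU H ρ)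
    (hZ : ∀ z ∈ Subgroup.center S, ∃ l : F, ∀ x, ρ z x = l • x)
    (hcardΓ : Nat.card (S ⧸ Subgroup.center S) = 72) (hpts : Nat.card (Pts H) = 9) :
    ∃ N : Subgroup (S ⧸ Subgroup.center S), N.Normal ∧ Nat.card N = 9 ∧ ∀ y ∈ N, y ^ 3 = 1 := by
  classical
  haveI : Finite (Pts H) := by
    unfold Pts
    infer_instance
  letI : Fintype (Pts H) := Fintype.ofFinite _
  letI : MulAction (S ⧸ Subgroup.center S) (Pts H) :=
    MulAction.compHom (Pts H) (quotHom h hρ hZ)
  have hsm : ∀ (s : S) (P : Pts H),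
      (QuotientGroup.mk s : S ⧸ Subgroup.center S) • P = (ptsAction hρ.mem).smul s P :=
    fun s P => rfl
  have hcard9 : Fintype.card (Pts H) = 9 := by
    rw [← Nat.card_eq_fintype_card, hpts]
  haveI : IsMultiplyPretransitive (S ⧸ Subgroup.center S) (Pts H) 2 := by
    rw [is_two_pretransitive_iff]
    intro a b c d hab hcd
    obtain ⟨s, hs1, hs2⟩ := two_trans hσ h hnd hdim hρ a b c d hab hcd
    exact ⟨QuotientGroup.mk s, by rw [hsm, hs1], by rw [hsm, hs2]⟩
  have hsharp := sharp_of_card (Γ := S ⧸ Subgroup.center S) (α := Pts H)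
    (by rw [hcardΓ, hcard9])
  obtain ⟨p, j, N, hp, hj, hpj, hN, hNc, -, hexp, -, -⟩ :=
    SharpTwo.exists_regular_normal (Γ := S ⧸ Subgroup.center S) (α := Pts H) hsharp
      (by rw [hcard9]; norm_num)
  rw [hcard9] at hpj
  have hp3 : p = 3 := by
    have h1 : p ∣ 3 ^ 2 := by
      rw [show (3 : ℕ) ^ 2 = 9 from rfl, hpj]
      exact dvd_pow_self p (by omega)
    exact (Nat.prime_dvd_prime_iff_eq hp Nat.prime_three).1 (hp.dvd_of_dvd_pow h1)
  refine ⟨N, hN, by rw [hNc, ← hpj], ?_⟩
  intro y hy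
  rw [← hp3]
  exact hexp y hy

end U32

end Cfsg.Agent.Lib.Helper2
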