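import Mathlib
import Cfsg.Agent.Lib.Helper2.UT15

set_option autoImplicit false

namespace Cfsg.Agent.Lib.Helper2

namespace UT

open Module IsomDecomp HermDecomp Cfsg.Agent.Lib.Helper5.PSLCoset

variable {F : Type*} [Field F] {σ : F ≃+* F} {V : Type*} [AddCommGroup V] [Module F V]
  {H : V → V → F}

/-- an isometry `g` with `g - 1` of rank one, with image spanned by `w` -/
theorem rank_one_isom (hσ : orderOf σ = 2) (h : IsHerm σ H)
    (hnd : ∀ v, (∀ w, H v w = 0) → v = 0) {g : V ≃ₗ[F] V} (hg : g ∈ isom H) {w : V}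
    (hw : w ≠ 0) (hr : ∀ x, ∃ c : F, g x - x = c • w) (hne : ∃ x₀, g x₀ - x₀ = w) :
    ∃ c : F, c ≠ 0 ∧ ∀ x, g x = x + (c * H x w) • w := by
  have hσ2 := WittHerm.sigma_sigma hσ
  choose φ hφ using hr
  obtain ⟨x₀, hx₀⟩ := hne
  have hgx : ∀ x, g x = x + φ x • w := by
    intro x
    rw [← hφ x]
    abel
  have hgx₀ : g x₀ = x₀ + w := by
    rw [← hx₀]
    abel
  obtain ⟨κ, hκ⟩ : ∃ κ : F, κ = H x₀ w + H w w := ⟨_, rfl⟩
  have key : ∀ y, H w y = -(σ (φ y) * κ) := by
    intro y
    have h1 := hg x₀ y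
    rw [hgx₀, hgx y] at h1
    simp only [h.add_left, h.add_right, h.smul_right] at h1
    rw [hκ]
    linear_combination h1
  have hκ0 : κ ≠ 0 := by
    intro h0
    apply hw
    apply hnd
    intro y
    rw [key y, h0, mul_zero, neg_zero]
  have hσκ : σ κ ≠ 0 := (map_ne_zero_iff _ σ.injective).2 hκ0
  refine ⟨-(σ κ)⁻¹, neg_ne_zero.2 (inv_ne_zero hσκ), ?_⟩
  intro y
  rw [hgx y]
  congr 2
  have h2 : H y w = σ (H w y) := h.symm w y
  rw [h2, key y, map_neg, map_mul, hσ2]
  field_simp

/-- a rank one isometry of determinant one is a unitary transvection -/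
theorem eq_tv_of_rank_one [FiniteDimensional F V] (hσ : orderOf σ = 2) (h : IsHerm σ H)
    (hnd : ∀ v, (∀ w, H v w = 0) → v = 0) {g : V ≃ₗ[F] V} (hg : g ∈ isom H)
    (hdet : LinearEquiv.det g = 1) {w : V}
    (hw : w ≠ 0) (hr : ∀ x, ∃ c : F, g x - x = c • w) (hne : ∃ x₀, g x₀ - x₀ = w) :
    ∃ (c : F) (hww : H w w = 0), c ≠ 0 ∧ σ c = -c ∧ g = tv h w c hww := by
  obtain ⟨c, hc0, hgc⟩ := rank_one_isom hσ h hnd hg hw hr hne
  have hlin : (g : V →ₗ[F] V) = LinearMap.transvection (c • h.toDual w) w := by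
    apply LinearMap.ext
    intro x
    rw [LinearMap.transvection.apply, LinearMap.smul_apply, IsHerm.toDual_apply, smul_eq_mul]
    exact hgc x
  have hd : (LinearEquiv.det g : F) = 1 + c * H w w := by
    rw [LinearEquiv.coe_det, hlin, LinearMap.transvection.det, LinearMap.smul_apply,
      IsHerm.toDual_apply, smul_eq_mul]
  rw [hdet, Units.val_one] at hd
  have hww : H w w = 0 := by
    have : c * H w w = 0 := by linear_combination -hd
    exact (mul_eq_zero.1 this).resolve_left hc0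
  obtain ⟨y, hy⟩ : ∃ y, H w y ≠ 0 := by
    by_contra hcon
    push Not at hcon
    exact hw (hnd w hcon)
  have hyw : H y w ≠ 0 := by
    rw [h.symm w y]
    exact (map_ne_zero_iff _ σ.injective).2 hy
  have hc : σ c = -c := by
    have h1 := hg y y
    rw [hgc y] at h1
    simp only [h.add_left, h.add_right, h.smul_left, h.smul_right, hww, map_mul] at h1
    have h2 : H w y = σ (H y w) := h.symm y w
    rw [h2] at h1
    have hσyw : σ (H y w) ≠ 0 := (map_ne_zero_iff _ σ.injective).2 hyw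
    have h3 : (σ c + c) * (H y w * σ (H y w)) = 0 := by linear_combination h1
    have h4 := (mul_eq_zero.1 h3).resolve_right (mul_ne_zero hyw hσyw)
    linear_combination h4
  refine ⟨c, hww, hc0, hc, ?_⟩
  apply LinearEquiv.ext
  intro x
  rw [hgc x, tv_apply]

/-- the square of a transvection in characteristic two -/
theorem tv_sq_char_two (h : IsHerm σ H) (h2 : (2 : F) = 0) (w : V) (c : F) (hww : H w w = 0) :
    tv h w c hww * tv h w c hww = 1 := by
  apply LinearEquiv.ext
  intro x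
  rw [LinearEquiv.mul_apply, tv_apply, tv_apply, h.add_left, h.smul_left, hww, mul_zero, add_zero,
    add_assoc, ← add_smul]
  have : c * H x w + c * H x w = 0 := by linear_combination (c * H x w) * h2
  rw [this, zero_smul, add_zero]
  rfl

theorem tv_ne_one (h : IsHerm σ H) (hnd : ∀ v, (∀ w, H v w = 0) → v = 0) (w : V) (c : F)
    (hww : H w w = 0) (hw : w ≠ 0) (hc : c ≠ 0) : tv h w c hww ≠ 1 := by
  intro h1
  obtain ⟨y, hy⟩ : ∃ y, H w y ≠ 0 := by
    by_contra hcon
    push Not at hcon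
    exact hw (hnd w hcon)
  have hyw : H y w ≠ 0 := by
    rw [h.symm w y]
    exact (map_ne_zero_iff _ σ.injective).2 hy
  have h2 := LinearEquiv.congr_fun h1 y
  rw [tv_apply] at h2
  have h3 : (c * H y w) • w = 0 := by
    have : y + (c * H y w) • w = y := h2
    exact add_eq_left.1 this
  rcases smul_eq_zero.1 h3 with h4 | h4
  · exact mul_ne_zero hc hyw h4
  · exact hw h4

/-- two perpendicular transvections commute -/
theorem tv_comm_perp (h : IsHerm σ H) (u w : V) (c c' : F) (hu : H u u = 0) (hw : H w w = 0)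
    (huw : H u w = 0) : tv h u c hu * tv h w c' hw = tv h w c' hw * tv h u c hu := by
  have hwu : H w u = 0 := by rw [h.symm u w, huw, map_zero]
  apply LinearEquiv.ext
  intro x
  simp only [LinearEquiv.mul_apply, tv_apply, h.add_left, h.smul_left, huw, hwu, mul_zero, add_zero]
  abel

/-- the product of two non-perpendicular transvections over the field with four elements has
order three -/
theorem tv_mul_cube (h : IsHerm σ H) (h2 : (2 : F) = 0) (u w : V) (hu : H u u = 0)
    (hw : H w w = 0) (hn : H u w * σ (H u w) = 1) :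
    (tv h u 1 hu * tv h w 1 hw) * (tv h u 1 hu * tv h w 1 hw) * (tv h u 1 hu * tv h w 1 hw) =
      1 := by
  have hwu : H w u = σ (H u w) := h.symm u w
  apply LinearEquiv.ext
  intro x
  obtain ⟨a, ha⟩ : ∃ a : F, a = H u w := ⟨_, rfl⟩
  rw [← ha] at hn hwu
  obtain ⟨b, hb⟩ : ∃ b : F, b = σ a := ⟨_, rfl⟩
  rw [← hb] at hn hwu
  obtain ⟨p, hp⟩ : ∃ p : F, p = H x u := ⟨_, rfl⟩
  obtain ⟨r, hr⟩ : ∃ r : F, r = H x w := ⟨_, rfl⟩
  simp only [LinearEquiv.mul_apply, tv_apply, h.add_left, h.smul_left, hu, hw, hwu, one_mul,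
    ← ha, ← hp, ← hr, mul_zero, add_zero, zero_add]
  show _ = x
  match_scalars
  · ring
  · linear_combination (2 * r + 2 * (p + r * b) * a) * h2 + (r + (p + r * b) * a) * hn
  · linear_combination (2 * (p + r * b) + 2 * (r + (p + r * b) * a) * b) * h2 +
      ((p + r * b) + (r + (p + r * b) * a) * b) * hn

end UT

end Cfsg.Agent.Lib.Helper2
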