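import Mathlib
import Cfsg.Agent.Lib.Helper2.U32c
import Cfsg.Agent.Lib.Helper2.UT19

set_option autoImplicit false

namespace Cfsg.Agent.Lib.Helper2

namespace U32

open Module IsomDecomp HermDecomp Cfsg.Agent.Lib.Helper5.PSLCoset UT SU3Inv

universe u

variable {F : Type u} [Field F] [Finite F] {σ : F ≃+* F} {V : Type u} [AddCommGroup V]
  [Module F V] [FiniteDimensional F V] {H : V → V → F}

/-- the standing hypotheses over the field with four elements -/
structure Hyp4 (σ : F ≃+* F) (H : V → V → F) : Prop where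
  hσ : orderOf σ = 2
  h : IsHerm σ H
  hnd : ∀ v, (∀ w, H v w = 0) → v = 0
  h2 : (2 : F) = 0
  hdim : finrank F V = 3
  hskew : ∀ c : F, c ≠ 0 → σ c = -c → c = 1
  hnorm : ∀ a : F, a ≠ 0 → a * σ a = 1

omit [Finite F] [FiniteDimensional F V] in
theorem two_smul_zero (h2 : (2 : F) = 0) (x : V) : x + x = 0 := by
  rw [← two_smul F x, h2, zero_smul]

omit [Finite F] in
/-- an involutive isometry of determinant one is a unitary transvection -/
theorem eq_tv_of_invol (hy : Hyp4 σ H) {g : V ≃ₗ[F] V} (hg : g ∈ isom H)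
    (hdet : LinearEquiv.det g = 1) (hg2 : g * g = 1) (hg1 : g ≠ 1) :
    ∃ (w : V) (hww : H w w = 0), w ≠ 0 ∧ g = tv hy.h w 1 hww := by
  have hgg : ∀ x, g (g x) = x := by
    intro x
    rw [← LinearEquiv.mul_apply, hg2]
    rfl
  obtain ⟨N, hN⟩ : ∃ N : V →ₗ[F] V, N = (g : V →ₗ[F] V) - LinearMap.id := ⟨_, rfl⟩
  have hNx : ∀ x, N x = g x - x := by
    intro x
    rw [hN]
    rfl
  have hle : LinearMap.range N ≤ LinearMap.ker N := by
    rintro _ ⟨x, rfl⟩
    rw [LinearMap.mem_ker, hNx, hNx, map_sub, hgg]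
    have := two_smul_zero hy.h2 (x - g x)
    rw [← this]
    abel
  have hrn := LinearMap.finrank_range_add_finrank_ker N
  rw [hy.hdim] at hrn
  have hle' := Submodule.finrank_mono hle
  have hr1 : finrank F (LinearMap.range N) ≤ 1 := by omega
  obtain ⟨x₀, hx₀⟩ : ∃ x₀, N x₀ ≠ 0 := by
    by_contra hcon
    push Not at hcon
    apply hg1
    apply LinearEquiv.ext
    intro x
    have := hcon x
    rw [hNx, sub_eq_zero] at this
    exact this
  have hspan : Submodule.span F {N x₀} = LinearMap.range N := by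
    apply Submodule.eq_of_le_of_finrank_le
    · rw [Submodule.span_singleton_le_iff_mem]
      exact LinearMap.mem_range_self N x₀
    · rw [finrank_span_singleton hx₀]
      exact hr1
  have h1 : ∀ x, ∃ c : F, g x - x = c • N x₀ := by
    intro x
    have : N x ∈ Submodule.span F {N x₀} := by
      rw [hspan]
      exact LinearMap.mem_range_self N x
    obtain ⟨c, hc⟩ := Submodule.mem_span_singleton.1 this
    exact ⟨c, by rw [← hNx, hc]⟩
  obtain ⟨c, hww, hc0, hc, hgc⟩ := eq_tv_of_rank_one hy.hσ hy.h hy.hnd hg hdet hx₀ h1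
    ⟨x₀, (hNx x₀).symm⟩
  have hc1 := hy.hskew c hc0 hc
  subst hc1
  exact ⟨N x₀, hww, hx₀, hgc⟩

/-- two transvections (with parameter one) are equal or have a product of order three -/
theorem tv_eq_or_cube (hy : Hyp4 σ H) {u w : V} (hu0 : u ≠ 0) (hu : H u u = 0)
    (hw0 : w ≠ 0) (hw : H w w = 0) :
    tv hy.h u 1 hu = tv hy.h w 1 hw ∨
      (tv hy.h u 1 hu * tv hy.h w 1 hw) * (tv hy.h u 1 hu * tv hy.h w 1 hw) *
        (tv hy.h u 1 hu * tv hy.h w 1 hw) = 1 := by
  by_cases huw : H u w = 0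
  · left
    obtain ⟨a, ha⟩ := iso_perp_dim3 hy.hσ hy.h hy.hnd hy.hdim hu0 hu hw huw
    have ha0 : a ≠ 0 := by
      rintro rfl
      rw [zero_smul] at ha
      exact hw0 ha
    apply LinearEquiv.ext
    intro x
    rw [tv_apply, tv_apply, one_mul, one_mul]
    have h3 : H x w • w = (H x u * (a * σ a)) • u := by
      rw [ha, hy.h.smul_right, smul_smul]
      congr 1
      ring
    rw [h3, hy.hnorm a ha0, mul_one]
  · right
    exact tv_mul_cube hy.h hy.h2 u w hu hw (hy.hnorm _ huw)

end U32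

end Cfsg.Agent.Lib.Helper2
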