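import Mathlib
import Cfsg.Agent.Lib.Helper2.U32d
import Cfsg.Agent.Lib.Lead.UniqueOrderP5

set_option autoImplicit false

namespace Cfsg.Agent.Lib.Helper2

namespace U32

open Module IsomDecomp HermDecomp Cfsg.Agent.Lib.Helper5.PSLCoset UT SU3Inv

universe u

variable {F : Type u} [Field F] [Finite F] {σ : F ≃+* F} {V : Type u} [AddCommGroup V]
  [Module F V] [FiniteDimensional F V] {H : V → V → F}

omit [Finite F] [FiniteDimensional F V] in
theorem sub_one_sq (h2 : (2 : F) = 0) (A : Module.End F V) : (A - 1) ^ 2 = A ^ 2 - 1 := by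
  have h3 : A + A = 0 := by
    apply LinearMap.ext
    intro x
    exact two_smul_zero h2 (A x)
  have h4 : (1 : Module.End F V) + 1 = 0 := by
    apply LinearMap.ext
    intro x
    exact two_smul_zero h2 x
  have : (A - 1) ^ 2 = A ^ 2 - (A + A) + 1 := by
    rw [pow_two, pow_two, sub_mul, mul_sub, mul_sub, mul_one, one_mul, mul_one]
    abel
  rw [this, h3, sub_zero]
  have h5 : (1 : Module.End F V) = -1 := eq_neg_of_add_eq_zero_left h4
  nth_rewrite 1 [h5]
  abel

omit [Finite F] in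
/-- an element of order dividing eight has order dividing four -/
theorem pow_four_of_pow_eight (h2 : (2 : F) = 0) (hdim : finrank F V = 3) (g : V ≃ₗ[F] V)
    (hg : g ^ 8 = 1) : g ^ 4 = 1 := by
  obtain ⟨A, hA⟩ : ∃ A : Module.End F V, A = (g : V →ₗ[F] V) := ⟨_, rfl⟩
  have hpow : ∀ k : ℕ, ((g ^ k : V ≃ₗ[F] V) : V →ₗ[F] V) = A ^ k := by
    intro k
    induction k with
    | zero => rfl
    | succ k ih =>
      rw [pow_succ, pow_succ, ← ih, hA]
      rfl
  have hA8 : A ^ 8 = 1 := by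
    rw [← hpow, hg]
    rfl
  have h8 : (A - 1) ^ 8 = 0 := by
    have e1 : (A - 1) ^ 8 = (((A - 1) ^ 2) ^ 2) ^ 2 := by
      rw [← pow_mul, ← pow_mul]
    rw [e1, sub_one_sq h2, sub_one_sq h2, sub_one_sq h2, ← pow_mul, ← pow_mul, hA8, sub_self]
  have hnil : IsNilpotent (A - 1) := ⟨8, h8⟩
  have h3 : (A - 1) ^ 3 = 0 := by
    have hc := IsNilpotent.charpoly_eq_X_pow_finrank hnil
    rw [hdim] at hc
    simpa only [hc, map_pow, Polynomial.aeval_X] using (A - 1).aeval_self_charpoly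
  have h4 : (A - 1) ^ 4 = 0 := by
    rw [pow_succ, h3, zero_mul]
  have e2 : (A - 1) ^ 4 = ((A - 1) ^ 2) ^ 2 := by rw [← pow_mul]
  rw [e2, sub_one_sq h2, sub_one_sq h2, ← pow_mul, sub_eq_zero] at h4
  apply LinearEquiv.toLinearMap_injective
  rw [hpow, h4]
  rfl

variable {S : Type*} [Group S] {ρ : S →* (V ≃ₗ[F] V)}
variable {Q : Type*} [Group Q]

/-- lifting involutions of a quotient of order eight -/
theorem exists_lift_invol [Finite S] [Finite Q] (hS : Nat.card S = 216) (hQ : Nat.card Q = 8)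
    (φ : S →* Q) (hφ : Function.Surjective φ) {x : Q} (hx1 : x ≠ 1) (hx2 : x * x = 1) :
    ∃ a : S, a ≠ 1 ∧ a * a = 1 ∧ φ a = x := by
  obtain ⟨a₀, ha₀⟩ := hφ x
  have hx2' : x ^ 2 = 1 := by rw [pow_two, hx2]
  have hφa : φ (a₀ ^ 27) = x := by
    rw [map_pow, ha₀, show (27 : ℕ) = 2 * 13 + 1 from rfl, pow_succ, pow_mul, hx2', one_pow,
      one_mul]
  have ha8 : (a₀ ^ 27) ^ 8 = 1 := by
    rw [← pow_mul, show 27 * 8 = 216 from rfl, ← hS]
    exact pow_card_eq_one'
  have hker : Nat.card φ.ker = 27 := by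
    have h1 := Subgroup.card_mul_index φ.ker
    rw [Subgroup.index_ker, MonoidHom.range_eq_top.2 hφ, Subgroup.card_top, hQ, hS] at h1
    omega
  have hbk : (a₀ ^ 27) ^ 2 ∈ φ.ker := by
    rw [MonoidHom.mem_ker, map_pow, hφa, hx2']
  have hb27 : ((a₀ ^ 27) ^ 2) ^ 27 = 1 := by
    have h1 : (⟨(a₀ ^ 27) ^ 2, hbk⟩ : φ.ker) ^ Nat.card φ.ker = 1 := pow_card_eq_one'
    rw [hker] at h1
    exact congrArg Subtype.val h1
  have hb4 : ((a₀ ^ 27) ^ 2) ^ 4 = 1 := by
    rw [← pow_mul]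
    exact ha8
  have hb : (a₀ ^ 27) ^ 2 = 1 := by
    have h1 : ((a₀ ^ 27) ^ 2) ^ 28 = 1 := by
      rw [show 28 = 4 * 7 from rfl, pow_mul, hb4, one_pow]
    rw [show 28 = 27 + 1 from rfl, pow_succ, hb27, one_mul] at h1
    exact h1
  refine ⟨a₀ ^ 27, ?_, ?_, hφa⟩
  · intro h1
    rw [h1, map_one] at hφa
    exact hx1 hφa.symm
  · rw [← pow_two]
    exact hb

/-- a quotient of order eight has a unique involution -/
theorem invol_unique [Finite S] [Finite Q] (hy : Hyp4 σ H) (hρ : IsSU H ρ)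
    (hS : Nat.card S = 216) (hQ : Nat.card Q = 8) (φ : S →* Q) (hφ : Function.Surjective φ)
    {x y : Q} (hx1 : x ≠ 1) (hx2 : x * x = 1) (hy1 : y ≠ 1) (hy2 : y * y = 1) : x = y := by
  obtain ⟨a, ha1, ha2, hax⟩ := exists_lift_invol hS hQ φ hφ hx1 hx2
  obtain ⟨b, hb1, hb2, hby⟩ := exists_lift_invol hS hQ φ hφ hy1 hy2
  have hinv : ∀ c : S, c ≠ 1 → c * c = 1 →
      ∃ (w : V) (hww : H w w = 0), w ≠ 0 ∧ ρ c = tv hy.h w 1 hww := by
    intro c hc1 hc2
    apply eq_tv_of_invol hy (hρ.mem c) (hρ.det c)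
    · rw [← map_mul, hc2, map_one]
    · intro h1
      apply hc1
      apply hρ.inj
      rw [h1, map_one]
  obtain ⟨u, hu, hu0, hau⟩ := hinv a ha1 ha2
  obtain ⟨w, hw, hw0, hbw⟩ := hinv b hb1 hb2
  rcases tv_eq_or_cube hy hu0 hu hw0 hw with h1 | h1
  · have hab : a = b := hρ.inj (by rw [hau, hbw, h1])
    rw [← hax, ← hby, hab]
  · have h3 : (a * b) ^ 3 = 1 := by
      apply hρ.inj
      rw [map_pow, map_mul, hau, hbw, map_one, pow_succ, pow_two]
      exact h1
    have h4 : (x * y) ^ 3 = 1 := by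
      rw [← hax, ← hby, ← map_mul, ← map_pow, h3, map_one]
    have h8 : (x * y) ^ 8 = 1 := by
      rw [← hQ]
      exact pow_card_eq_one'
    have h9 : (x * y) ^ 9 = 1 := by
      rw [show 9 = 3 * 3 from rfl, pow_mul, h4, one_pow]
    rw [show 9 = 8 + 1 from rfl, pow_succ, h8, one_mul] at h9
    have : y = x⁻¹ := (inv_eq_of_mul_eq_one_right h9).symm
    rw [this]
    exact (eq_inv_of_mul_eq_one_left hx2)

/-- a quotient of order eight has exponent four -/
theorem pow_four_quot [Finite S] [Finite Q] (hy : Hyp4 σ H) (hρ : IsSU H ρ)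
    (hS : Nat.card S = 216) (hQ : Nat.card Q = 8) (φ : S →* Q) (hφ : Function.Surjective φ)
    (x : Q) : x ^ 4 = 1 := by
  obtain ⟨a₀, ha₀⟩ := hφ x
  have ha8 : (a₀ ^ 27) ^ 8 = 1 := by
    rw [← pow_mul, show 27 * 8 = 216 from rfl, ← hS]
    exact pow_card_eq_one'
  have hg8 : (ρ (a₀ ^ 27)) ^ 8 = 1 := by
    rw [← map_pow, ha8, map_one]
  have hg4 := pow_four_of_pow_eight hy.h2 hy.hdim _ hg8
  have ha4 : (a₀ ^ 27) ^ 4 = 1 := by
    apply hρ.inj
    rw [map_pow, hg4, map_one]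
  have h108 : x ^ 108 = 1 := by
    have := congrArg φ ha4
    rw [map_pow, map_pow, ha₀, map_one, ← pow_mul] at this
    exact this
  have h8 : x ^ 8 = 1 := by
    rw [← hQ]
    exact pow_card_eq_one'
  have h104 : x ^ 104 = 1 := by
    rw [show 104 = 8 * 13 from rfl, pow_mul, h8, one_pow]
  rw [show 108 = 104 + 4 from rfl, pow_add, h104, one_mul] at h108
  exact h108

/-- a quotient of order eight is the quaternion group -/
theorem quot_quaternion [Finite S] [Finite Q] (hy : Hyp4 σ H) (hρ : IsSU H ρ)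
    (hS : Nat.card S = 216) (hQ : Nat.card Q = 8) (φ : S →* Q) (hφ : Function.Surjective φ) :
    Nonempty (Q ≃* QuaternionGroup 2) := by
  haveI : Fact (Nat.Prime 2) := ⟨Nat.prime_two⟩
  have hpg : IsPGroup 2 Q := IsPGroup.of_card (n := 3) (by rw [hQ]; norm_num)
  have huniq : Cfsg.Agent.Lib.Lead.UniqueOrderP 2 Q := by
    have key : ∀ A B : Subgroup Q, Nat.card A = 2 → Nat.card B = 2 → A ≤ B := by
      intro A B hA hB x hx
      by_cases hx1 : x = 1
      · rw [hx1]
        exact B.one_mem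
      · have hx2 : x * x = 1 := by
          have h1 : (⟨x, hx⟩ : A) ^ Nat.card A = 1 := pow_card_eq_one'
          rw [hA, pow_two] at h1
          exact congrArg Subtype.val h1
        haveI : Nontrivial B := by
          rw [← Finite.one_lt_card_iff_nontrivial, hB]
          norm_num
        obtain ⟨k, hk⟩ := exists_ne (1 : B)
        have hk1 : (k : Q) ≠ 1 := fun h0 => hk (Subtype.ext h0)
        have hk2 : (k : Q) * (k : Q) = 1 := by
          have h1 : k ^ Nat.card B = 1 := pow_card_eq_one'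
          rw [hB, pow_two] at h1
          exact congrArg Subtype.val h1
        rw [invol_unique hy hρ hS hQ φ hφ hx1 hx2 hk1 hk2]
        exact k.2
    intro A B hA hB
    exact le_antisymm (key A B hA hB) (key B A hB hA)
  rcases Cfsg.Agent.Lib.Lead.UniqueOrderP.main hpg huniq with hcyc | ⟨-, n, ⟨e⟩⟩
  · exfalso
    obtain ⟨g, hg⟩ := IsCyclic.exists_ofOrder_eq_natCard (α := Q)
    have h4 := orderOf_dvd_of_pow_eq_one (pow_four_quot hy hρ hS hQ φ hφ g)
    rw [hg, hQ] at h4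
    omega
  · have hc := Nat.card_congr e.toEquiv
    haveI : NeZero (2 ^ n) := ⟨by positivity⟩
    rw [hQ, Nat.card_eq_fintype_card, QuaternionGroup.card] at hc
    have hn : 2 ^ n = 2 := by omega
    rw [hn] at e
    exact ⟨e⟩

end U32

end Cfsg.Agent.Lib.Helper2
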