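import Mathlib
import Cfsg.Agent.Lib.Helper2.UT19
import Cfsg.Agent.Lib.Helper2.UT18
import Cfsg.Agent.Lib.Helper5.PSL2Aut6

set_option autoImplicit false

namespace Cfsg.Agent.Lib.Helper2

namespace UT

open Module IsomDecomp HermDecomp Cfsg.Agent.Lib.Helper5.PSLCoset Matrix

universe u

variable {F : Type u} [Field F] [Fintype F] {n : ℕ}

/-- the data over the field with four elements -/
structure Four (F : Type u) [Field F] [Fintype F] (n : ℕ) (σ : F ≃+* F) : Prop where
  hF : Fintype.card F = 2 ^ 2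
  hσ : orderOf σ = 2
  hσq : ∀ a : F, σ a = a ^ 2
  h : IsHerm σ (Cfsg.hermForm n F 2)
  hnd : ∀ v : Fin n → F, (∀ w, Cfsg.hermForm n F 2 v w = 0) → v = 0
  h2 : (2 : F) = 0

theorem exists_four (hF : Fintype.card F = 4) (n : ℕ) : ∃ σ : F ≃+* F, Four F n σ := by
  have hF' : Fintype.card F = 2 ^ 2 := by rw [hF]; norm_num
  obtain ⟨σ, hσ, hσq⟩ := exists_sigma hF'
  have hσ2 := WittHerm.sigma_sigma hσ
  haveI : Fact (Nat.Prime 2) := ⟨Nat.prime_two⟩
  haveI := Cfsg.Agent.Lib.Helper5.PSL2Aut.charP_of_card (F := F) (p := 2) (f := 2) (by norm_num) hF'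
  refine ⟨σ, hF', hσ, hσq, GUIsom.isHerm_hermForm n 2 σ hσ2 hσq,
    fun v hv => GUIsom.hermForm_nondeg n 2 (by norm_num) v hv, ?_⟩
  exact CharTwo.two_eq_zero

variable {σ : F ≃+* F}

theorem Four.skew_eq_one (d : Four F n σ) {c : F} (hc0 : c ≠ 0) (hc : σ c = -c) : c = 1 := by
  rw [d.hσq] at hc
  have h1 : c * (c - 1) = 0 := by linear_combination hc - c * d.h2
  rcases mul_eq_zero.1 h1 with h3 | h3
  · exact absurd h3 hc0
  · linear_combination h3

theorem Four.sigma_one (d : Four F n σ) : σ (1 : F) = -1 := by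
  rw [map_one]
  linear_combination d.h2

theorem Four.norm_eq_one (d : Four F n σ) {a : F} (ha : a ≠ 0) : a * σ a = 1 := by
  have h1 := FiniteField.pow_card_sub_one_eq_one a ha
  rw [d.hF] at h1
  rw [d.hσq]
  have : (2 : ℕ) ^ 2 - 1 = 3 := by norm_num
  rw [this] at h1
  linear_combination h1

/-- the elements of `SU_n(2)` with `g - 1` of rank one are the unitary transvections -/
theorem Four.rank_one_iff (d : Four F n σ) (g : ↥(Cfsg.SU n F 2)) :
    (((g : Matrix.SpecialLinearGroup (Fin n) F) : Matrix (Fin n) (Fin n) F) - 1).rank = 1 ↔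
      ∃ (w : Fin n → F) (hww : Cfsg.hermForm n F 2 w w = 0), w ≠ 0 ∧
        suLin n F 2 g = tv d.h w 1 hww := by
  have hsub : ∀ x, (((g : Matrix.SpecialLinearGroup (Fin n) F) : Matrix (Fin n) (Fin n) F) - 1) *ᵥ x
      = suLin n F 2 g x - x := by
    intro x
    rw [Matrix.sub_mulVec, Matrix.one_mulVec, suLin_apply]
  constructor
  · intro hr
    have hr' : finrank F (LinearMap.range
        (((g : Matrix.SpecialLinearGroup (Fin n) F) : Matrix (Fin n) (Fin n) F) - 1).mulVecLin) = 1 :=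
      hr
    obtain ⟨v, hv0, hv⟩ := finrank_eq_one_iff'.1 hr'
    have hw0 : (v : Fin n → F) ≠ 0 := fun h0 => hv0 (Subtype.ext h0)
    have h1 : ∀ x, ∃ c : F, suLin n F 2 g x - x = c • (v : Fin n → F) := by
      intro x
      obtain ⟨c, hc⟩ := hv ⟨_, LinearMap.mem_range_self _ x⟩
      refine ⟨c, ?_⟩
      have := congrArg Subtype.val hc
      rw [← hsub]
      exact this.symm
    have h2 : ∃ x₀, suLin n F 2 g x₀ - x₀ = (v : Fin n → F) := by
      obtain ⟨x₀, hx₀⟩ := v.2
      exact ⟨x₀, by rw [← hsub]; exact hx₀⟩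
    obtain ⟨c, hww, hc0, hc, hgc⟩ := eq_tv_of_rank_one d.hσ d.h d.hnd (suLin_mem_isom g)
      (det_suLin g) hw0 h1 h2
    have hc1 := d.skew_eq_one hc0 hc
    subst hc1
    exact ⟨v, hww, hw0, hgc⟩
  · rintro ⟨w, hww, hw0, hg⟩
    have hrange : LinearMap.range
        (((g : Matrix.SpecialLinearGroup (Fin n) F) : Matrix (Fin n) (Fin n) F) - 1).mulVecLin =
        Submodule.span F {w} := by
      apply le_antisymm
      · rintro _ ⟨x, rfl⟩
        rw [Matrix.mulVecLin_apply, hsub, hg, tv_apply, add_sub_cancel_left]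
        exact Submodule.smul_mem _ _ (Submodule.mem_span_singleton_self w)
      · rw [Submodule.span_singleton_le_iff_mem]
        obtain ⟨y, hy⟩ : ∃ y, Cfsg.hermForm n F 2 w y ≠ 0 := by
          by_contra hcon
          push Not at hcon
          exact hw0 (d.hnd w hcon)
        have hyw : Cfsg.hermForm n F 2 y w ≠ 0 := by
          rw [d.h.symm w y]
          exact (map_ne_zero_iff _ σ.injective).2 hy
        refine ⟨(Cfsg.hermForm n F 2 y w)⁻¹ • y, ?_⟩
        rw [Matrix.mulVecLin_apply, hsub, hg, tv_apply, add_sub_cancel_left, d.h.smul_left,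
          one_mul, inv_mul_cancel₀ hyw, one_smul]
    show finrank F (LinearMap.range
      (((g : Matrix.SpecialLinearGroup (Fin n) F) : Matrix (Fin n) (Fin n) F) - 1).mulVecLin) = 1
    rw [hrange]
    exact finrank_span_singleton hw0

end UT

end Cfsg.Agent.Lib.Helper2
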