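import Mathlib
import Cfsg.Agent.Lib.Helper2.U32e
import Cfsg.Agent.Lib.Helper2.UT20
import Cfsg.Agent.Lib.Helper2.SU3Inv11
import Cfsg.Agent.Lib.Helper1.SUCenter
import Cfsg.Agent.S0282

set_option autoImplicit false

namespace Cfsg.Agent.Lib.Helper2

namespace U32

open Module IsomDecomp HermDecomp Cfsg.Agent.Lib.Helper5.PSLCoset UT SU3Inv Matrix

universe u

variable {F : Type u} [Field F] [Fintype F] {σ : F ≃+* F}

/-- the special unitary group realises the special isometry group, for all `n` and `q` -/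
theorem isSU_gen (n q : ℕ) : IsSU (Cfsg.hermForm n F q) (suLin n F q) where
  inj := suLin_injective
  mem := suLin_mem_isom
  det := det_suLin
  surj := by
    intro g hg hdet
    have hdet' : (LinearMap.toMatrix' (g : (Fin n → F) →ₗ[F] (Fin n → F))).det = 1 := by
      rw [LinearMap.det_toMatrix', ← LinearEquiv.coe_det, hdet, Units.val_one]
    have hpres : ∀ u v, Cfsg.hermForm n F q
        (LinearMap.toMatrix' (g : (Fin n → F) →ₗ[F] (Fin n → F)) *ᵥ u)
        (LinearMap.toMatrix' (g : (Fin n → F) →ₗ[F] (Fin n → F)) *ᵥ v) =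
        Cfsg.hermForm n F q u v := by
      intro u v
      rw [LinearMap.toMatrix'_mulVec, LinearMap.toMatrix'_mulVec]
      exact hg u v
    refine ⟨UnitaryComm.mkSU _ hdet' hpres, ?_⟩
    apply LinearEquiv.ext
    intro x
    rw [suLin_apply, UnitaryComm.mkSU_coe, LinearMap.toMatrix'_mulVec]
    rfl

theorem hyp4_std (d : Four F 3 σ) : Hyp4 σ (Cfsg.hermForm 3 F 2) where
  hσ := d.hσ
  h := d.h
  hnd := d.hnd
  h2 := d.h2
  hdim := Module.finrank_fin_fun F
  hskew := fun _ hc0 hc => d.skew_eq_one hc0 hc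
  hnorm := fun _ ha => d.norm_eq_one ha

theorem central_scalar_lin {q : ℕ} (hF : Fintype.card F = q ^ 2)
    (z : ↥(Cfsg.SU 3 F q)) (hz : z ∈ Subgroup.center ↥(Cfsg.SU 3 F q)) :
    ∃ l : F, ∀ x, suLin 3 F q z x = l • x := by
  have h1 := Cfsg.Agent.Lib.Helper1.SUCenter.central_scalar hF (le_refl 3) z hz 0
  refine ⟨((z : Matrix.SpecialLinearGroup (Fin 3) F) : Matrix (Fin 3) (Fin 3) F) 0 0, ?_⟩
  intro x
  rw [suLin_apply]
  nth_rewrite 1 [h1]
  rw [Matrix.smul_mulVec, Matrix.one_mulVec]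

theorem card_SU32 (hF : Fintype.card F = 4) : Nat.card ↥(Cfsg.SU 3 F 2) = 216 := by
  have hF' : Fintype.card F = 2 ^ 2 := by rw [hF]; norm_num
  have := card_SU3 hF'
  norm_num at this
  omega

theorem card_pts32 (hF : Fintype.card F = 4) (d : Four F 3 σ) :
    Nat.card (Pts (Cfsg.hermForm 3 F 2)) = 9 := by
  classical
  have hF' : Fintype.card F = 2 ^ 2 := by rw [hF]; norm_num
  have h1 := card_pts (V := Fin 3 → F) d.h
  have h2 := Cfsg.Agent.S0285.result hF' 3
  rw [if_neg (by decide)] at h2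
  have h3 := card_remove (fun v : Fin 3 → F => Cfsg.hermForm 3 F 2 v v = 0) 0 (d.h.zero_left _)
  have h4 : Nat.card {a : F // a ≠ 0} = 3 := by
    rw [← Nat.card_congr unitsEquivNeZero, Nat.card_eq_fintype_card, Fintype.card_units, hF]
  rw [h4] at h1
  rw [h2] at h3
  beta_reduce at h3
  have h5 : (2 ^ 3 + 1) * (2 ^ (3 - 1) - 1) + 1 = 28 := by norm_num
  rw [h5] at h3
  omega

end U32

end Cfsg.Agent.Lib.Helper2
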