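import Mathlib
import Cfsg.Agent.Lib.Helper3.U3g

set_option autoImplicit false
set_option linter.unusedSectionVars false

/-!
Automorphisms of the Sylow 2-subgroup of `PSU₃(4)`, part a: first coordinate, involutory
automorphisms act trivially on the centre.
-/

namespace Cfsg.Agent.Lib.Helper2.U34

open Cfsg.Agent.Lib.Helper3.U3 Cfsg.Agent.Lib.Helper1.HermCount Cfsg.Agent.Lib.Helper2.Herm

variable {F : Type*} [Field F] [CharP F 2] [Fintype F] {q : ℕ}
variable {hF : Fintype.card F = q ^ 2} {G : Type*} [Group G] (c : Coord hF G)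

/-- the first coordinate -/
noncomputable def cb (g : G) : F := (c.x_surj g).choose

theorem cb_x {β γ : F} (h : γ + γ ^ q = β ^ (q + 1)) : cb c (c.x β γ h) = β := by
  obtain ⟨γ', h', e⟩ := (c.x_surj (c.x β γ h)).choose_spec
  exact (c.x_inj e).1.symm

theorem cb_mul (g g' : G) : cb c (g * g') = cb c g + cb c g' := by
  obtain ⟨β, γ, h, rfl⟩ := c.x_surj g
  obtain ⟨β', γ', h', rfl⟩ := c.x_surj g'
  rw [c.x_mul, cb_x c, cb_x c, cb_x c]

theorem cb_one : cb c (1 : G) = 0 := by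
  have h := cb_mul c 1 1
  rw [one_mul] at h
  have h2 : cb c (1 : G) + cb c (1 : G) = cb c (1 : G) + 0 := by rw [add_zero]; exact h.symm
  exact add_left_cancel h2

theorem cb_inv (g : G) : cb c g⁻¹ = cb c g := by
  have h := cb_mul c g g⁻¹
  rw [mul_inv_cancel, cb_one] at h
  exact (CharTwo.add_eq_zero.mp h.symm).symm

theorem cb_eq_zero_iff (g : G) : cb c g = 0 ↔ g ∈ Subgroup.center G := by
  obtain ⟨β, γ, h, rfl⟩ := c.x_surj g
  rw [cb_x c, c.mem_center_iff]

theorem cb_eq_iff (g g' : G) : cb c g = cb c g' ↔ g⁻¹ * g' ∈ Subgroup.center G := by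
  rw [← cb_eq_zero_iff c, cb_mul c, cb_inv c, CharTwo.add_eq_zero]

theorem mul_self' (g : G) : ∃ h, g * g = c.x 0 (cb c g ^ q * cb c g) h := by
  obtain ⟨β, γ, h, rfl⟩ := c.x_surj g
  rw [cb_x c]
  exact ⟨_, c.mul_self β γ h⟩

theorem sq_eq_iff (g g' : G) :
    g * g = g' * g' ↔ cb c g ^ q * cb c g = cb c g' ^ q * cb c g' := by
  obtain ⟨h1, e1⟩ := mul_self' c g
  obtain ⟨h2, e2⟩ := mul_self' c g'
  rw [e1, e2]
  constructor
  · intro e
    exact (c.x_inj e).2
  · intro e
    exact c.x_congr h1 rfl e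

theorem sq_eq_one_iff (g : G) : g * g = 1 ↔ cb c g = 0 := by
  obtain ⟨β, γ, h, rfl⟩ := c.x_surj g
  rw [cb_x c, c.mul_self_eq_one_iff]

theorem map_center (α : G ≃* G) (g : G) :
    α g ∈ Subgroup.center G ↔ g ∈ Subgroup.center G := by
  have h := (Subgroup.characteristic_iff_comap_eq.mp
    (inferInstance : (Subgroup.center G).Characteristic)) α
  constructor
  · intro hg
    have : g ∈ (Subgroup.center G).comap α.toMonoidHom := hg
    rwa [h] at this
  · intro hg
    rw [← h] at hg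
    exact hg

theorem cb_map (α : G ≃* G) {g g' : G} (h : cb c g = cb c g') : cb c (α g) = cb c (α g') := by
  rw [cb_eq_iff c] at h ⊢
  have := (map_center α _).mpr h
  rwa [map_mul, map_inv] at this

omit [Fintype F] in
theorem no_three (a b : F) (ha : a ≠ 0) (hab : a ≠ b) (h1 : a ^ 4 * a = b ^ 4 * b)
    (h2 : a ^ 4 * a = (a + b) ^ 4 * (a + b)) : False := by
  have two : (2 : F) = 0 := CharTwo.two_eq_zero
  have e1 : a * (a ^ 4 + a ^ 3 * b + b ^ 4) = 0 := by
    linear_combination (-1 : F) * h2 + h1 -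
      (2 * a ^ 4 * b + 5 * a ^ 3 * b ^ 2 + 5 * a ^ 2 * b ^ 3 + 2 * a * b ^ 4) * two
  have e2 : a ^ 4 + a ^ 3 * b + b ^ 4 = 0 := by
    rcases mul_eq_zero.mp e1 with h | h
    · exact absurd h ha
    · exact h
  have e3 : a ^ 3 * (a ^ 2 + a * b + b ^ 2) = 0 := by
    linear_combination b * e2 + h1
  have e4 : a ^ 2 + a * b + b ^ 2 = 0 := by
    rcases mul_eq_zero.mp e3 with h | h
    · exact absurd (pow_eq_zero_iff (by norm_num) |>.mp h) ha
    · exact h
  have e5 : a ^ 3 = b ^ 3 := by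
    linear_combination (a - b) * e4
  have e6 : a ^ 3 * (a ^ 2 - b ^ 2) = 0 := by
    linear_combination h1 - b ^ 2 * e5
  have e7 : a ^ 2 - b ^ 2 = 0 := by
    rcases mul_eq_zero.mp e6 with h | h
    · exact absurd (pow_eq_zero_iff (by norm_num) |>.mp h) ha
    · exact h
  have e8 : (a - b) ^ 2 = 0 := by
    linear_combination e7 + (b ^ 2 - a * b) * two
  exact hab (sub_eq_zero.mp (pow_eq_zero_iff (by norm_num) |>.mp e8))

end Cfsg.Agent.Lib.Helper2.U34
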