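import Mathlib
import Cfsg.Agent.Lib.Helper2.U34a

set_option autoImplicit false
set_option linter.unusedSectionVars false

/-!
Automorphisms of the Sylow 2-subgroup of `PSU₃(4)`, part b: involutory automorphisms act
trivially on the centre.
-/

namespace Cfsg.Agent.Lib.Helper2.U34

open Cfsg.Agent.Lib.Helper3.U3 Cfsg.Agent.Lib.Helper1.HermCount Cfsg.Agent.Lib.Helper2.Herm

variable {F : Type*} [Field F] [CharP F 2] [Fintype F] {q : ℕ}
variable {hF : Fintype.card F = q ^ 2} {G : Type*} [Group G] (c : Coord hF G)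

include c in
set_option maxHeartbeats 1000000 in
theorem invol_center (hq : q = 4) (α : G ≃* G) (hα : ∀ g, α (α g) = g) :
    ∀ z ∈ Subgroup.center G, α z = z := by
  classical
  by_contra hcon
  push Not at hcon
  obtain ⟨z1, hz1, hne⟩ := hcon
  have : Finite G := c.finite
  have : Fintype G := Fintype.ofFinite G
  have hK : IsKleinFour (Subgroup.center G) := c.isKleinFour_center hq
  have hZ0 : ∀ u ∈ Subgroup.center G, ∀ v ∈ Subgroup.center G, α u = u → α v = v →
      u ≠ 1 → v ≠ 1 → u = v := by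
    intro u hu v hv hfu hfv hu1 hv1
    by_contra huv
    have h1 : z1 ≠ 1 := by
      rintro rfl
      exact hne (map_one α)
    have h2 : z1 ≠ u := by
      rintro rfl
      exact hne hfu
    have h3 : z1 ≠ v := by
      rintro rfl
      exact hne hfv
    have key := @IsKleinFour.eq_mul_of_ne_all _ _ hK ⟨u, hu⟩ ⟨v, hv⟩ ⟨z1, hz1⟩
      (fun h => hu1 (congrArg Subtype.val h)) (fun h => hv1 (congrArg Subtype.val h))
      (fun h => huv (congrArg Subtype.val h)) (fun h => h1 (congrArg Subtype.val h))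
      (fun h => h2 (congrArg Subtype.val h)) (fun h => h3 (congrArg Subtype.val h))
    have key' : z1 = u * v := congrArg Subtype.val key
    apply hne
    rw [key', map_mul, hfu, hfv]
  let P : Subgroup G :=
    { carrier := {g | cb c (α g) = cb c g}
      mul_mem' := by
        intro a b ha hb
        have ha' : cb c (α a) = cb c a := ha
        have hb' : cb c (α b) = cb c b := hb
        show cb c (α (a * b)) = cb c (a * b)
        rw [map_mul, cb_mul, cb_mul, ha', hb']
      one_mem' := by
        show cb c (α 1) = cb c 1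
        rw [map_one]
      inv_mem' := by
        intro a ha
        have ha' : cb c (α a) = cb c a := ha
        show cb c (α a⁻¹) = cb c a⁻¹
        rw [map_inv, cb_inv, cb_inv]
        exact ha' }
  have hPmem : ∀ g, g ∈ P ↔ cb c (α g) = cb c g := fun g => Iff.rfl
  have hPsq : ∀ g ∈ P, α (g * g) = g * g := by
    intro g hg
    have hz : g⁻¹ * α g ∈ Subgroup.center G := (cb_eq_iff c _ _).mp ((hPmem g).mp hg).symm
    obtain ⟨z, hzdef⟩ : ∃ z, z = g⁻¹ * α g := ⟨_, rfl⟩
    rw [← hzdef] at hz
    have hαg : α g = g * z := by rw [hzdef, mul_inv_cancel_left]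
    have hzc := Subgroup.mem_center_iff.mp hz
    rw [map_mul, hαg]
    have e1 : g * z * (g * z) = g * (z * g) * z := by group
    have e2 : g * (g * z) * z = g * g * (z * z) := by group
    rw [e1, ← hzc g, e2, c.center_mul_self hz, mul_one]
  -- counting
  have hcardG : Fintype.card G = 64 := by
    have := c.card_eq
    rw [Nat.card_eq_fintype_card, hq] at this
    rw [this]
    norm_num
  let Pf : Finset G := Finset.univ.filter (fun g => g ∈ P)
  let Zf : Finset G := Finset.univ.filter (fun g => g ∈ Subgroup.center G)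
  have hZf : Zf.card = 4 := by
    have := c.card_center
    rw [Nat.card_eq_fintype_card, Fintype.card_subtype, hq] at this
    exact this
  let Bf : Finset F := Pf.image (cb c)
  let ψ : G → F := fun g => cb c g + cb c (α g)
  have hψB : ∀ g ∈ (Finset.univ : Finset G), ψ g ∈ Bf := by
    intro g _
    have hmem : g * α g ∈ P := by
      rw [hPmem, map_mul, hα, cb_mul, cb_mul, add_comm]
    have : ψ g = cb c (g * α g) := by rw [cb_mul]
    rw [this]
    exact Finset.mem_image_of_mem _ (Finset.mem_filter.mpr ⟨Finset.mem_univ _, hmem⟩)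
  have hfib1 : ∀ b ∈ Bf, ((Finset.univ : Finset G).filter (fun g => ψ g = b)).card ≤ Pf.card := by
    intro b _
    by_cases hemp : ((Finset.univ : Finset G).filter (fun g => ψ g = b)) = ∅
    · rw [hemp]
      exact Nat.zero_le _
    · obtain ⟨g0, hg0⟩ := Finset.nonempty_iff_ne_empty.mpr hemp
      have hg0' : ψ g0 = b := (Finset.mem_filter.mp hg0).2
      apply Finset.card_le_card_of_injOn (fun g => g0⁻¹ * g)
      · intro g hg
        have hg' : ψ g = b := (Finset.mem_filter.mp hg).2
        apply Finset.mem_filter.mpr ⟨Finset.mem_univ _, ?_⟩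
        rw [hPmem, map_mul, map_inv, cb_mul, cb_mul, cb_inv, cb_inv]
        have h1 : cb c g0 + cb c (α g0) = cb c g + cb c (α g) := hg0'.trans hg'.symm
        have h2 : ∀ y : F, y + y = 0 := CharTwo.add_self_eq_zero
        linear_combination h1 + h2 (cb c (α g)) - h2 (cb c g0)
      · intro g _ g' _ h
        exact mul_left_cancel h
  have h64 : 64 ≤ Pf.card * Bf.card := by
    have := Finset.card_le_mul_card_image_of_maps_to hψB Pf.card hfib1
    rw [Finset.card_univ, hcardG] at this
    exact this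
  have hfib2 : ∀ b ∈ Bf, (Pf.filter (fun g => cb c g = b)).card ≤ 4 := by
    intro b _
    by_cases hemp : (Pf.filter (fun g => cb c g = b)) = ∅
    · rw [hemp]
      exact Nat.zero_le _
    · obtain ⟨g0, hg0⟩ := Finset.nonempty_iff_ne_empty.mpr hemp
      have hg0' : cb c g0 = b := (Finset.mem_filter.mp hg0).2
      rw [← hZf]
      apply Finset.card_le_card_of_injOn (fun g => g0⁻¹ * g)
      · intro g hg
        have hg' : cb c g = b := (Finset.mem_filter.mp hg).2
        apply Finset.mem_filter.mpr ⟨Finset.mem_univ _, ?_⟩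
        exact (cb_eq_iff c _ _).mp (hg0'.trans hg'.symm)
      · intro g _ g' _ h
        exact mul_left_cancel h
  have hP4 : Pf.card ≤ 4 * Bf.card :=
    Finset.card_le_mul_card_image_of_maps_to (fun g hg => Finset.mem_image_of_mem _ hg) 4 hfib2
  have hB4 : 4 ≤ Bf.card := by
    by_contra hlt
    have h3 : Bf.card ≤ 3 := by omega
    have : Pf.card * Bf.card ≤ 4 * Bf.card * Bf.card := Nat.mul_le_mul_right _ hP4
    nlinarith
  -- three nonzero elements
  have h0B : (0 : F) ∈ Bf := by
    rw [← cb_one c]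
    exact Finset.mem_image_of_mem _ (Finset.mem_filter.mpr ⟨Finset.mem_univ _, P.one_mem⟩)
  obtain ⟨β1, hβ1B, hβ1⟩ := Finset.exists_mem_ne (by omega : 1 < Bf.card) (0 : F)
  have hB3 : 1 < (Bf.erase 0).card := by
    rw [Finset.card_erase_of_mem h0B]
    omega
  obtain ⟨β2, hβ2B, hβ21⟩ := Finset.exists_mem_ne hB3 β1
  have hβ2 : β2 ≠ 0 := (Finset.mem_erase.mp hβ2B).1
  obtain ⟨g1, hg1P, hg1⟩ := Finset.mem_image.mp hβ1B
  obtain ⟨g2, hg2P, hg2⟩ := Finset.mem_image.mp (Finset.mem_erase.mp hβ2B).2
  have hg1P' : g1 ∈ P := (Finset.mem_filter.mp hg1P).2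
  have hg2P' : g2 ∈ P := (Finset.mem_filter.mp hg2P).2
  have hsqfix : ∀ g ∈ P, ∀ g' ∈ P, cb c g ≠ 0 → cb c g' ≠ 0 → g * g = g' * g' := by
    intro g hg g' hg' h h'
    apply hZ0 _ (c.mul_self_mem_center g) _ (c.mul_self_mem_center g') (hPsq g hg) (hPsq g' hg')
    · intro e
      exact h ((sq_eq_one_iff c g).mp e)
    · intro e
      exact h' ((sq_eq_one_iff c g').mp e)
  have h12 : cb c (g1 * g2) ≠ 0 := by
    rw [cb_mul, hg1, hg2]
    intro e
    exact hβ21 (CharTwo.add_eq_zero.mp e).symm
  have e1 := (sq_eq_iff c _ _).mp (hsqfix g1 hg1P' g2 hg2P' (hg1 ▸ hβ1) (hg2 ▸ hβ2))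
  have e2 := (sq_eq_iff c _ _).mp
    (hsqfix g1 hg1P' (g1 * g2) (P.mul_mem hg1P' hg2P') (hg1 ▸ hβ1) h12)
  rw [cb_mul, hg1, hg2, hq] at e2
  rw [hg1, hg2, hq] at e1
  exact no_three β1 β2 hβ1 (fun e => hβ21 e.symm) e1 e2

end Cfsg.Agent.Lib.Helper2.U34
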