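import Mathlib
import Cfsg.Agent.Lib.Helper2.U34b

set_option autoImplicit false
set_option linter.unusedSectionVars false

/-!
Automorphisms of the Sylow 2-subgroup of `PSU₃(4)`, part c: counting square roots; an
automorphism of order three acting trivially on the centre is trivial.
-/

namespace Cfsg.Agent.Lib.Helper2.U34

open Cfsg.Agent.Lib.Helper3.U3 Cfsg.Agent.Lib.Helper1.HermCount Cfsg.Agent.Lib.Helper2.Herm

variable {F : Type*} [Field F] [CharP F 2] [Fintype F] {q : ℕ}
variable {hF : Fintype.card F = q ^ 2} {G : Type*} [Group G] (c : Coord hF G)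

theorem exists_cb (b : F) : ∃ g : G, cb c g = b := by
  obtain ⟨γ, hγ⟩ := exists_tr_eq hF (nrm_fixed hF b)
  exact ⟨c.x b γ hγ, cb_x c hγ⟩

include c in
theorem card_center_filter [Fintype G] [DecidablePred (fun g : G => g ∈ Subgroup.center G)] :
    (Finset.univ.filter (fun g : G => g ∈ Subgroup.center G)).card = q := by
  have := c.card_center
  rw [Nat.card_eq_fintype_card, Fintype.card_subtype] at this
  convert this

theorem card_cb_fiber [Fintype G] (b : F) [DecidablePred (fun g : G => cb c g = b)] :
    (Finset.univ.filter (fun g : G => cb c g = b)).card = q := by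
  classical
  obtain ⟨g0, hg0⟩ := exists_cb c b
  refine Eq.trans ?_ (card_center_filter c)
  symm
  apply Finset.card_bij (fun z _ => g0 * z)
  · intro z hz
    have hz' : z ∈ Subgroup.center G := (Finset.mem_filter.mp hz).2
    apply Finset.mem_filter.mpr ⟨Finset.mem_univ _, ?_⟩
    rw [cb_mul, (cb_eq_zero_iff c z).mpr hz', add_zero, hg0]
  · intro z _ z' _ h
    exact mul_left_cancel h
  · intro g hg
    have hg' : cb c g = b := (Finset.mem_filter.mp hg).2
    refine ⟨g0⁻¹ * g, Finset.mem_filter.mpr ⟨Finset.mem_univ _, ?_⟩, by group⟩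
    exact (cb_eq_iff c _ _).mp (hg0.trans hg'.symm)

include c in
theorem card_sq_fiber [Fintype G] {z : G} [DecidablePred (fun g : G => g * g = z)]
    (hz : z ∈ Subgroup.center G)
    (hz1 : z ≠ 1) : (Finset.univ.filter (fun g : G => g * g = z)).card = q * (q + 1) := by
  classical
  obtain ⟨β, cz, hv, rfl⟩ := c.x_surj z
  have hβ : β = 0 := (c.mem_center_iff hv).mp hz
  subst hβ
  have hq := two_le_q hF
  have hcz0 : cz ≠ 0 := by
    intro h
    apply hz1
    rw [c.x_eq_one_iff]
    exact ⟨rfl, h⟩
  have hczq : cz ^ q = cz := by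
    rw [zero_pow (by omega)] at hv
    exact (CharTwo.add_eq_zero.mp hv).symm
  have hmem : cz ∈ fixedUnits F q := by
    rw [fixedUnits, Finset.mem_filter]
    exact ⟨Finset.mem_univ _, hcz0, hczq⟩
  have hiff : ∀ g : G, g * g = c.x 0 cz hv ↔ cb c g ∈ fibre q cz := by
    intro g
    obtain ⟨h1, e1⟩ := mul_self' c g
    rw [e1, fibre, Finset.mem_filter, nrm]
    constructor
    · intro e
      refine ⟨Finset.mem_univ _, ?_⟩
      rw [mul_comm]
      exact (c.x_inj e).2
    · rintro ⟨_, e⟩
      apply c.x_congr h1 rfl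
      rw [mul_comm]
      exact e
  have hH : ∀ g ∈ Finset.univ.filter (fun g : G => g * g = c.x 0 cz hv), cb c g ∈ fibre q cz := by
    intro g hg
    exact (hiff g).mp (Finset.mem_filter.mp hg).2
  rw [Finset.card_eq_sum_card_fiberwise hH]
  have hfib : ∀ b ∈ fibre q cz,
      ((Finset.univ.filter (fun g : G => g * g = c.x 0 cz hv)).filter
        (fun g => cb c g = b)).card = q := by
    intro b hb
    refine Eq.trans ?_ (card_cb_fiber c b)
    congr 1
    ext g
    simp only [Finset.mem_filter, Finset.mem_univ, true_and]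
    constructor
    · rintro ⟨_, h⟩
      exact h
    · intro h
      exact ⟨(hiff g).mpr (h ▸ hb), h⟩
  rw [Finset.sum_congr rfl hfib, Finset.sum_const, card_fibre hF hmem, smul_eq_mul, mul_comm]

end Cfsg.Agent.Lib.Helper2.U34
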