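import Mathlib
import Cfsg.Agent.Lib.Helper2.U34c

set_option autoImplicit false
set_option linter.unusedSectionVars false

/-!
Automorphisms of the Sylow 2-subgroup of `PSU₃(4)`, part d: an automorphism of order three
acting trivially on the centre is trivial.
-/

namespace Cfsg.Agent.Lib.Helper2.U34

open Cfsg.Agent.Lib.Helper3.U3 Cfsg.Agent.Lib.Helper1.HermCount Cfsg.Agent.Lib.Helper2.Herm

variable {F : Type*} [Field F] [CharP F 2] [Fintype F] {q : ℕ}
variable {hF : Fintype.card F = q ^ 2} {G : Type*} [Group G] (c : Coord hF G)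

include c in
set_option maxHeartbeats 1000000 in
theorem ord3_trivial (hq : q = 4) (ρ : G ≃* G) (hρ : ∀ g, ρ (ρ (ρ g)) = g)
    (hZ : ∀ z ∈ Subgroup.center G, ρ z = z) : ∀ g, ρ g = g := by
  classical
  have : Finite G := c.finite
  have : Fintype G := Fintype.ofFinite G
  have hcardG : Fintype.card G = 64 := by
    have := c.card_eq
    rw [Nat.card_eq_fintype_card, hq] at this
    rw [this]
    norm_num
  let C : Subgroup G :=
    { carrier := {g | ρ g = g}
      mul_mem' := by
        intro a b ha hb
        have ha' : ρ a = a := ha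
        have hb' : ρ b = b := hb
        show ρ (a * b) = a * b
        rw [map_mul, ha', hb']
      one_mem' := map_one ρ
      inv_mem' := by
        intro a ha
        have ha' : ρ a = a := ha
        show ρ a⁻¹ = a⁻¹
        rw [map_inv, ha'] }
  have hCmem : ∀ g, g ∈ C ↔ ρ g = g := fun g => Iff.rfl
  let Zf : Finset G := Finset.univ.filter (fun g => g ∈ Subgroup.center G)
  have hZf : Zf.card = 4 := by
    rw [card_center_filter c, hq]
  have hZmem : ∀ g, g ∈ Zf ↔ g ∈ Subgroup.center G := fun g => by
    simp only [Zf, Finset.mem_filter, Finset.mem_univ, true_and]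
  -- fixed square roots
  have hfix5 : ∀ z ∈ Subgroup.center G, z ≠ 1 →
      5 ≤ (Finset.univ.filter (fun g : G => ρ g = g ∧ g * g = z)).card := by
    intro z hz hz1
    obtain ⟨Fz, hFz⟩ : ∃ Fz : Finset G, Fz = Finset.univ.filter (fun g : G => ρ g = g ∧ g * g = z) :=
      ⟨_, rfl⟩
    rw [← hFz]
    have hFzmem : ∀ g, g ∈ Fz ↔ (ρ g = g ∧ g * g = z) := fun g => by
      rw [hFz]
      simp only [Finset.mem_filter, Finset.mem_univ, true_and]
    let σ : Function.End {g : G // g * g = z} :=
      fun r => ⟨ρ r.1, by rw [← map_mul, r.2, hZ z hz]⟩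
    have h3 : σ ^ 3 ^ 1 = 1 := by
      have e : σ ^ 3 = σ * σ * σ := by rw [pow_succ, pow_two]
      rw [pow_one, e]
      funext r
      apply Subtype.ext
      exact hρ r.1
    have : Fact (Nat.Prime 3) := ⟨Nat.prime_three⟩
    have hmod := Equiv.Perm.card_fixedPoints_modEq (p := 3) (n := 1) h3
    simp only [Fintype.card_eq_nat_card] at hmod
    have hR : Nat.card {g : G // g * g = z} = 20 := by
      rw [Nat.card_eq_fintype_card, Fintype.card_subtype, card_sq_fiber c hz hz1, hq]
    have hN : Nat.card ↥(Function.fixedPoints σ) = Fz.card := by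
      rw [← Nat.card_eq_finsetCard Fz]
      apply Nat.card_congr
      exact
        { toFun := fun r => ⟨r.1.1, (hFzmem _).mpr ⟨congrArg Subtype.val r.2, r.1.2⟩⟩
          invFun := fun g => ⟨⟨g.1, ((hFzmem _).mp g.2).2⟩, Subtype.ext ((hFzmem _).mp g.2).1⟩
          left_inv := fun r => rfl
          right_inv := fun g => rfl }
    rw [hR, hN] at hmod
    have hmod' : Fz.card % 3 = 2 := by
      have := hmod
      unfold Nat.ModEq at this
      omega
    have hne : Fz.Nonempty := by
      rw [← Finset.card_pos]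
      omega
    obtain ⟨g0, hg0⟩ := hne
    obtain ⟨hg0f, hg0s⟩ := (hFzmem g0).mp hg0
    have h4 : Zf.card ≤ Fz.card := by
      apply Finset.card_le_card_of_injOn (fun z' => g0 * z')
      · intro z' hz'
        have hz'c : z' ∈ Subgroup.center G := (hZmem z').mp hz'
        have hcomm := Subgroup.mem_center_iff.mp hz'c
        apply (hFzmem _).mpr
        refine ⟨by rw [map_mul, hg0f, hZ z' hz'c], ?_⟩
        have e1 : g0 * z' * (g0 * z') = g0 * (z' * g0) * z' := by group
        have e2 : g0 * (g0 * z') * z' = g0 * g0 * (z' * z') := by group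
        rw [e1, ← hcomm g0, e2, c.center_mul_self hz'c, mul_one, hg0s]
      · intro a _ b _ h
        exact mul_left_cancel h
    rw [hZf] at h4
    omega
  -- the fixed points
  let Cf : Finset G := Finset.univ.filter (fun g => ρ g = g)
  have hCfmem : ∀ g, g ∈ Cf ↔ ρ g = g := fun g => by
    simp only [Cf, Finset.mem_filter, Finset.mem_univ, true_and]
  have hsum : Cf.card = ∑ z ∈ Zf, (Cf.filter (fun g => g * g = z)).card :=
    Finset.card_eq_sum_card_fiberwise (f := fun g => g * g)
      (fun g _ => (hZmem _).mpr (c.mul_self_mem_center g))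
  have h1Z : (1 : G) ∈ Zf := (hZmem 1).mpr (Subgroup.one_mem _)
  have hn1 : 4 ≤ (Cf.filter (fun g => g * g = 1)).card := by
    rw [← hZf]
    apply Finset.card_le_card
    intro z' hz'
    have hz'c : z' ∈ Subgroup.center G := (hZmem z').mp hz'
    exact Finset.mem_filter.mpr ⟨(hCfmem z').mpr (hZ z' hz'c), c.center_mul_self hz'c⟩
  have hnz : ∀ z ∈ Zf.erase 1, 5 ≤ (Cf.filter (fun g => g * g = z)).card := by
    intro z hz
    have hz1 : z ≠ 1 := (Finset.mem_erase.mp hz).1
    have hzc : z ∈ Subgroup.center G := (hZmem z).mp (Finset.mem_erase.mp hz).2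
    have := hfix5 z hzc hz1
    rw [Finset.filter_filter]
    exact this
  have h19 : 19 ≤ Cf.card := by
    rw [hsum, ← Finset.add_sum_erase _ _ h1Z]
    have h3 : (Zf.erase 1).card = 3 := by
      rw [Finset.card_erase_of_mem h1Z, hZf]
    have := Finset.card_nsmul_le_sum (Zf.erase 1) (fun z => (Cf.filter (fun g => g * g = z)).card)
      5 hnz
    rw [h3, smul_eq_mul] at this
    omega
  have hcardC : Nat.card C = Cf.card := by
    rw [Nat.card_eq_fintype_card, Fintype.card_subtype]
    rfl
  have hidx := Subgroup.card_mul_index C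
  rw [Nat.card_eq_fintype_card (α := G), hcardG, hcardC] at hidx
  have hidx3 : C.index ≤ 3 := by
    by_contra h
    have : 4 ≤ C.index := by omega
    nlinarith
  have hdvd : C.index ∣ 2 ^ 6 := by
    have := Subgroup.index_dvd_card C
    rw [Nat.card_eq_fintype_card, hcardG] at this
    exact this
  obtain ⟨k, hk, hk2⟩ := (Nat.dvd_prime_pow Nat.prime_two).mp hdvd
  have hk1 : k ≤ 1 := by
    by_contra h
    have h2 : 2 ≤ k := by omega
    have : 2 ^ 2 ≤ 2 ^ k := Nat.pow_le_pow_right (by norm_num) h2
    omega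
  intro g
  rcases Nat.le_one_iff_eq_zero_or_eq_one.mp hk1 with h0 | h1
  · rw [h0, pow_zero] at hk2
    have htop : C = ⊤ := Subgroup.index_eq_one.mp hk2
    exact (hCmem g).mp (htop ▸ Subgroup.mem_top g)
  · rw [h1, pow_one] at hk2
    have hmem : g⁻¹ * ρ g ∈ C := by
      rw [Subgroup.mul_mem_iff_of_index_two hk2, inv_mem_iff, hCmem, hCmem]
      constructor
      · intro h
        rw [h, h]
      · intro h
        exact ρ.injective h
    obtain ⟨d, hd⟩ : ∃ d, d = g⁻¹ * ρ g := ⟨_, rfl⟩
    rw [← hd] at hmem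
    have hρd : ρ d = d := (hCmem d).mp hmem
    have hρg : ρ g = g * d := by rw [hd, mul_inv_cancel_left]
    have h3 := hρ g
    have e1 : ρ (g * d) = g * d * d := by rw [map_mul, hρg, hρd]
    have e2 : ρ (g * d * d) = g * d * d * d := by rw [map_mul, e1, hρd]
    rw [hρg, e1, e2] at h3
    have hd3 : d ^ 3 = 1 := by
      have e : g * d * d * d = g * d ^ 3 := by simp [pow_succ, mul_assoc]
      rw [e] at h3
      exact mul_left_cancel (a := g) (by rw [h3, mul_one])
    have hd64 : d ^ 64 = 1 := by
      rw [← hcardG]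
      exact pow_card_eq_one
    have hd1 : d = 1 := by
      have e : d ^ 64 = (d ^ 3) ^ 21 * d := by rw [← pow_mul, ← pow_succ]
      rw [e, hd3, one_pow, one_mul] at hd64
      exact hd64
    rw [hρg, hd1, mul_one]

end Cfsg.Agent.Lib.Helper2.U34
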