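import Mathlib
import Cfsg.Agent.Lib.Helper2.U34d

set_option autoImplicit false
set_option linter.unusedSectionVars false

/-!
Automorphisms of the Sylow 2-subgroup of `PSU₃(4)`, part e: no symmetric group of degree three
of automorphisms.
-/

namespace Cfsg.Agent.Lib.Helper2.U34

open Cfsg.Agent.Lib.Helper3.U3 Cfsg.Agent.Lib.Helper1.HermCount Cfsg.Agent.Lib.Helper2.Herm

variable {F : Type*} [Field F] [CharP F 2] [Fintype F] {q : ℕ}
variable {hF : Fintype.card F = q ^ 2} {G : Type*} [Group G] (c : Coord hF G)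

include c in
theorem no_S3 (hq : q = 4) (H : Subgroup (MulAut G)) :
    ¬ Nonempty (H ≃* Equiv.Perm (Fin 3)) := by
  rintro ⟨e⟩
  obtain ⟨ψ, hψ⟩ : ∃ ψ : Equiv.Perm (Fin 3) →* MulAut G, ψ = H.subtype.comp e.symm.toMonoidHom :=
    ⟨_, rfl⟩
  have hψinj : Function.Injective ψ := by
    intro a b h
    rw [hψ] at h
    exact e.symm.injective (Subtype.val_injective h)
  obtain ⟨ρ, hρdef⟩ : ∃ ρ : MulAut G, ρ = ψ (finRotate 3) := ⟨_, rfl⟩
  obtain ⟨x, hxdef⟩ : ∃ x : MulAut G, x = ψ (Equiv.swap 0 1) := ⟨_, rfl⟩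
  have hxx : x * x = 1 := by
    rw [hxdef, ← map_mul]
    exact (congrArg ψ (by decide : (Equiv.swap (0 : Fin 3) 1 * Equiv.swap 0 1) = 1)).trans
      (map_one ψ)
  have hρ3 : ρ * ρ * ρ = 1 := by
    rw [hρdef, ← map_mul, ← map_mul]
    exact (congrArg ψ (by decide : (finRotate 3 * finRotate 3 * finRotate 3) = 1)).trans
      (map_one ψ)
  have hρ1 : ρ ≠ 1 := by
    intro h
    rw [hρdef, ← map_one ψ] at h
    exact absurd (hψinj h) (by decide)
  have hxρ : x * ρ * x = ρ * ρ := by
    rw [hxdef, hρdef, ← map_mul, ← map_mul, ← map_mul]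
    exact congrArg ψ (by decide)
  have hx : ∀ g, x (x g) = g := by
    intro g
    have := congrArg (fun a : MulAut G => a g) hxx
    simpa using this
  have hρ : ∀ g, ρ (ρ (ρ g)) = g := by
    intro g
    have := congrArg (fun a : MulAut G => a g) hρ3
    simpa using this
  have hxZ := invol_center c hq x hx
  have hρZ : ∀ z ∈ Subgroup.center G, ρ z = z := by
    intro z hz
    have h1 := congrArg (fun a : MulAut G => a z) hxρ
    simp only [MulAut.mul_apply] at h1
    rw [hxZ z hz, hxZ _ ((map_center ρ z).mpr hz)] at h1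
    exact (ρ.injective h1).symm
  have hall := ord3_trivial c hq ρ hρ hρZ
  apply hρ1
  ext g
  exact hall g

end Cfsg.Agent.Lib.Helper2.U34
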