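import Mathlib
import Cfsg.Agent.Lib.Helper3.U3a

set_option autoImplicit false
set_option linter.unusedSectionVars false

/-!
Sylow 2-subgroups of `SU₃(2ⁿ)`, part a: sign sums over additive subgroups; the norm form
composed with a linear functional has no totally singular subgroup of order `q`.
-/

namespace Cfsg.Agent.Lib.Helper2.U3Q

open Cfsg.Agent.Lib.Helper3.U3 Cfsg.Agent.Lib.Helper1.HermCount Cfsg.Agent.Lib.Helper2.Herm

/-- the sign of an element of `ZMod 2` -/
def sg (x : ZMod 2) : ℤ := if x = 0 then 1 else -1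

theorem sg_add (x y : ZMod 2) : sg (x + y) = sg x * sg y := by
  revert x y
  decide

theorem sg_zero : sg 0 = 1 := rfl

theorem sg_one : sg 1 = -1 := by decide

theorem sg_ge (x : ZMod 2) : -1 ≤ sg x := by
  revert x
  decide

theorem zmod2_cases (x : ZMod 2) : x = 0 ∨ x = 1 := by
  revert x
  decide

section sums

variable {A : Type*} [AddCommGroup A] [Fintype A]

theorem sum_sg_eq_zero (B : AddSubgroup A) [DecidablePred (· ∈ B)] (f : A →+ ZMod 2) {w₀ : A}
    (hw₀ : w₀ ∈ B) (h1 : f w₀ = 1) :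
    ∑ w : A, (if w ∈ B then sg (f w) else 0) = 0 := by
  have h := Equiv.sum_comp (Equiv.addRight w₀) (fun w : A => if w ∈ B then sg (f w) else 0)
  have h2 : ∀ w : A, (if (Equiv.addRight w₀) w ∈ B then sg (f ((Equiv.addRight w₀) w)) else 0) =
      -(if w ∈ B then sg (f w) else 0) := by
    intro w
    have e : (Equiv.addRight w₀) w = w + w₀ := rfl
    rw [e]
    by_cases hw : w ∈ B
    · rw [if_pos (B.add_mem hw hw₀), if_pos hw, map_add, h1, sg_add, sg_one]
      ring
    · have hn : w + w₀ ∉ B := by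
        intro h'
        apply hw
        have := B.sub_mem h' hw₀
        rwa [add_sub_cancel_right] at this
      rw [if_neg hn, if_neg hw, neg_zero]
  rw [Finset.sum_congr rfl (fun w _ => h2 w), Finset.sum_neg_distrib] at h
  linarith

theorem sum_ind_eq_card (B : AddSubgroup A) [DecidablePred (· ∈ B)] :
    ∑ w : A, (if w ∈ B then (1 : ℤ) else 0) = (Nat.card B : ℤ) := by
  rw [Finset.sum_boole, Nat.card_eq_fintype_card, Fintype.card_subtype]

theorem sum_sg_eq_card (B : AddSubgroup A) [DecidablePred (· ∈ B)] (f : A →+ ZMod 2)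
    (h0 : ∀ w ∈ B, f w = 0) :
    ∑ w : A, (if w ∈ B then sg (f w) else 0) = (Nat.card B : ℤ) := by
  have h : ∀ w : A, (if w ∈ B then sg (f w) else 0) = (if w ∈ B then (1 : ℤ) else 0) := by
    intro w
    by_cases hw : w ∈ B
    · rw [if_pos hw, if_pos hw, h0 w hw, sg_zero]
    · rw [if_neg hw, if_neg hw]
  rw [Finset.sum_congr rfl (fun w _ => h w), sum_ind_eq_card]

theorem sum_sg_top_eq_zero (f : A →+ ZMod 2) {w₀ : A} (h1 : f w₀ = 1) :
    ∑ w : A, sg (f w) = 0 := by
  classical
  have h := sum_sg_eq_zero (⊤ : AddSubgroup A) f (AddSubgroup.mem_top w₀) h1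
  simpa using h

end sums

end Cfsg.Agent.Lib.Helper2.U3Q
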