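import Mathlib
import Cfsg.Agent.Lib.Helper2.U3Qa

set_option autoImplicit false
set_option linter.unusedSectionVars false

/-!
Sylow 2-subgroups of `SU₃(2ⁿ)`, part b: the norm form composed with a nonzero linear functional of
the fixed field has no totally singular additive subgroup of order at least `q`.
-/

namespace Cfsg.Agent.Lib.Helper2.U3Q

open Cfsg.Agent.Lib.Helper3.U3 Cfsg.Agent.Lib.Helper1.HermCount Cfsg.Agent.Lib.Helper2.Herm

variable {F : Type*} [Field F] [CharP F 2] [Fintype F] {q : ℕ}

/-- the polar form of the norm, additive in the second variable -/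
def Thom (hF : Fintype.card F = q ^ 2) (v : F) : F →+ F where
  toFun w := v ^ q * w + w ^ q * v
  map_zero' := by
    have hq := two_le_q hF
    simp [zero_pow (by omega : q ≠ 0)]
  map_add' w w' := by
    rw [add_pow_q hF]
    ring

theorem Thom_apply (hF : Fintype.card F = q ^ 2) (v w : F) :
    Thom hF v w = v ^ q * w + w ^ q * v := rfl

theorem Thom_comm (hF : Fintype.card F = q ^ 2) (v w : F) : Thom hF v w = Thom hF w v := by
  rw [Thom_apply, Thom_apply, add_comm]

theorem nrm_add (hF : Fintype.card F = q ^ 2) (v w : F) :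
    nrm q (v + w) = nrm q v + nrm q w + Thom hF v w := by
  unfold nrm
  rw [Thom_apply, add_pow_q hF]
  ring

theorem sum_polar (hF : Fintype.card F = q ^ 2) (l : F →+ ZMod 2) {a : F} (ha : a ^ q = a)
    (hla : l a = 1) {w : F} (hw : w ≠ 0) : ∑ v : F, sg (l (Thom hF v w)) = 0 := by
  obtain ⟨γ, hγ⟩ := exists_tr_eq hF ha
  have hwq : w ^ q ≠ 0 := pow_ne_zero _ hw
  have e : Thom hF w (γ / w ^ q) = a := by
    rw [Thom_apply, div_pow, pow_q_pow_q hF, ← hγ]
    field_simp
  have h := sum_sg_top_eq_zero (l.comp (Thom hF w)) (w₀ := γ / w ^ q)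
    (by rw [AddMonoidHom.comp_apply, e, hla])
  rw [← h]
  apply Finset.sum_congr rfl
  intro v _
  rw [Thom_comm, AddMonoidHom.comp_apply]

theorem sum_nrm (hF : Fintype.card F = q ^ 2) (l : F →+ ZMod 2) {a : F} (ha : a ^ q = a)
    (hla : l a = 1) : ∑ v : F, sg (l (nrm q v)) = -(q : ℤ) := by
  classical
  have hq := two_le_q hF
  rw [← Finset.sum_fiberwise Finset.univ (nrm q) (fun v => sg (l (nrm q v)))]
  have h1 : ∀ c : F, ∑ v ∈ Finset.univ with nrm q v = c, sg (l (nrm q v)) =
      ((q : ℤ) + 1) * (if c ∈ fixAdd hF then sg (l c) else 0) -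
        (q : ℤ) * (if c = 0 then 1 else 0) := by
    intro c
    have h2 : ∑ v ∈ Finset.univ with nrm q v = c, sg (l (nrm q v)) =
        ((fibre q c).card : ℤ) * sg (l c) := by
      have h3 : ∀ v ∈ Finset.univ.filter (fun v : F => nrm q v = c),
          sg (l (nrm q v)) = sg (l c) := by
        intro v hv
        rw [(Finset.mem_filter.mp hv).2]
      rw [Finset.sum_congr rfl h3, Finset.sum_const, nsmul_eq_mul]
      rfl
    rw [h2]
    by_cases hc0 : c = 0
    · subst hc0
      have h4 : fibre q (0 : F) = {0} := by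
        ext v
        simp [fibre, nrm_eq_zero hF]
      rw [h4, if_pos (fixAdd hF).zero_mem, if_pos rfl, map_zero, sg_zero]
      simp
    · by_cases hc : c ^ q = c
      · have hmem : c ∈ fixedUnits F q := by
          simp [fixedUnits, hc0, hc]
        rw [card_fibre hF hmem, if_pos (show c ∈ fixAdd hF from hc), if_neg hc0]
        push_cast
        ring
      · have h4 : fibre q c = ∅ := by
          ext v
          simp only [fibre, Finset.mem_filter, Finset.mem_univ, true_and, Finset.notMem_empty,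
            iff_false]
          intro hv
          apply hc
          rw [← hv]
          exact nrm_pow_q hF v
        rw [h4, if_neg (show ¬ c ∈ fixAdd hF from hc), if_neg hc0]
        simp
  rw [Finset.sum_congr rfl (fun c _ => h1 c), Finset.sum_sub_distrib, ← Finset.mul_sum,
    ← Finset.mul_sum, sum_sg_eq_zero (fixAdd hF) l (show a ∈ fixAdd hF from ha) hla]
  simp

theorem no_singular (hF : Fintype.card F = q ^ 2) (l : F →+ ZMod 2) {a : F} (ha : a ^ q = a)
    (hla : l a = 1) (B : AddSubgroup F) (hB : ∀ β ∈ B, l (nrm q β) = 0)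
    (hcard : q ≤ Nat.card B) : False := by
  classical
  have hq := two_le_q hF
  obtain ⟨b, hb⟩ : ∃ b : ℤ, b = (Nat.card B : ℤ) := ⟨_, rfl⟩
  have hbq : (q : ℤ) ≤ b := by
    rw [hb]
    exact_mod_cast hcard
  have hsum_ind : ∑ w : F, (if w ∈ B then (1 : ℤ) else 0) = b := by
    rw [hb]
    exact sum_ind_eq_card B
  have hC2 : ∀ v : F, ∑ w : F, (if w ∈ B then sg (l (Thom hF v w)) else 0) =
      if (∀ w ∈ B, l (Thom hF v w) = 0) then b else 0 := by
    intro v
    by_cases h : ∀ w ∈ B, l (Thom hF v w) = 0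
    · rw [if_pos h, hb]
      exact sum_sg_eq_card B (l.comp (Thom hF v)) h
    · rw [if_neg h]
      push Not at h
      obtain ⟨w₀, hw₀, hne⟩ := h
      have h1 : l (Thom hF v w₀) = 1 := (zmod2_cases _).resolve_left hne
      exact sum_sg_eq_zero B (l.comp (Thom hF v)) hw₀ h1
  obtain ⟨J, hJdef⟩ : ∃ J : F → ℤ, ∀ v, J v =
      if (∀ w ∈ B, l (Thom hF v w) = 0) then 1 else 0 := ⟨_, fun _ => rfl⟩
  have hJ : ∀ v, (if (∀ w ∈ B, l (Thom hF v w) = 0) then b else 0) = J v * b := by
    intro v
    rw [hJdef]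
    split_ifs <;> simp
  have hC4 : (∑ v : F, J v) * b = (q : ℤ) ^ 2 := by
    rw [Finset.sum_mul, Finset.sum_congr rfl (fun v _ => ((hC2 v).trans (hJ v)).symm),
      Finset.sum_comm]
    have h1 : ∀ w : F, ∑ v : F, (if w ∈ B then sg (l (Thom hF v w)) else 0) =
        if w = 0 then (q : ℤ) ^ 2 else 0 := by
      intro w
      by_cases hw : w = 0
      · subst hw
        rw [if_pos rfl]
        simp only [if_pos B.zero_mem, map_zero, sg_zero]
        rw [Finset.sum_const, Finset.card_univ, hF]
        simp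
      · rw [if_neg hw]
        by_cases hwB : w ∈ B
        · simp only [if_pos hwB]
          exact sum_polar hF l ha hla hw
        · simp only [if_neg hwB]
          exact Finset.sum_const_zero
    rw [Finset.sum_congr rfl (fun w _ => h1 w)]
    simp
  have hG := sum_nrm hF l ha hla
  have h1 : ∀ w : F, (if w ∈ B then (1 : ℤ) else 0) * ∑ v : F, sg (l (nrm q v)) =
      ∑ v : F, (if w ∈ B then sg (l (nrm q v)) * sg (l (Thom hF v w)) else 0) := by
    intro w
    by_cases hwB : w ∈ B
    · simp only [if_pos hwB, one_mul]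
      rw [← Equiv.sum_comp (Equiv.addRight w) (fun v => sg (l (nrm q v)))]
      apply Finset.sum_congr rfl
      intro v _
      have e : (Equiv.addRight w) v = v + w := rfl
      rw [e, nrm_add hF, map_add, map_add, sg_add, sg_add, hB w hwB, sg_zero, mul_one]
    · simp only [if_neg hwB, zero_mul]
      exact Finset.sum_const_zero.symm
  have e1 : b * (∑ v : F, sg (l (nrm q v))) =
      ∑ w : F, ∑ v : F, (if w ∈ B then sg (l (nrm q v)) * sg (l (Thom hF v w)) else 0) := by
    rw [← hsum_ind, Finset.sum_mul]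
    exact Finset.sum_congr rfl (fun w _ => h1 w)
  have e2 : ∑ w : F, ∑ v : F,
      (if w ∈ B then sg (l (nrm q v)) * sg (l (Thom hF v w)) else 0) =
      ∑ v : F, sg (l (nrm q v)) * (J v * b) := by
    rw [Finset.sum_comm]
    apply Finset.sum_congr rfl
    intro v _
    rw [← hJ v, ← hC2 v, Finset.mul_sum]
    apply Finset.sum_congr rfl
    intro w _
    split_ifs <;> simp
  -- the inequality
  have hBJ : ∀ v ∈ B, J v = 1 := by
    intro v hv
    rw [hJdef, if_pos]
    intro w hw
    have h3 := congrArg l (nrm_add hF v w)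
    rw [map_add, map_add, hB v hv, hB w hw, hB (v + w) (B.add_mem hv hw)] at h3
    simpa using h3.symm
  have hJ01 : ∀ v, J v = 0 ∨ J v = 1 := by
    intro v
    rw [hJdef]
    split_ifs
    · exact Or.inr rfl
    · exact Or.inl rfl
  have hterm : ∀ v : F, 2 * (if v ∈ B then (1 : ℤ) else 0) - J v ≤ sg (l (nrm q v)) * J v := by
    intro v
    by_cases hv : v ∈ B
    · rw [if_pos hv, hBJ v hv, hB v hv, sg_zero]
      norm_num
    · rw [if_neg hv]
      have h4 := sg_ge (l (nrm q v))
      rcases hJ01 v with h5 | h5 <;> rw [h5] <;> linarith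
  have hineq : 2 * b - ∑ v : F, J v ≤ ∑ v : F, sg (l (nrm q v)) * J v := by
    have := Finset.sum_le_sum (fun v (_ : v ∈ (Finset.univ : Finset F)) => hterm v)
    rw [Finset.sum_sub_distrib, ← Finset.mul_sum, hsum_ind] at this
    exact this
  have e3 : ∑ v : F, sg (l (nrm q v)) * (J v * b) = (∑ v : F, sg (l (nrm q v)) * J v) * b := by
    rw [Finset.sum_mul]
    apply Finset.sum_congr rfl
    intro v _
    ring
  have hqpos : (2 : ℤ) ≤ q := by exact_mod_cast hq
  have hbpos : 0 < b := by linarith
  have hX : ∑ v : F, sg (l (nrm q v)) * J v = -(q : ℤ) := by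
    have h5 : b * (-(q : ℤ)) = (∑ v : F, sg (l (nrm q v)) * J v) * b := by
      rw [← hG, e1, e2, e3]
    have h6 : b * ((∑ v : F, sg (l (nrm q v)) * J v) + q) = 0 := by linarith
    rcases mul_eq_zero.mp h6 with h7 | h7
    · linarith
    · linarith
  rw [hX] at hineq
  have h8 : 2 * b + q ≤ ∑ v : F, J v := by linarith
  have h9 : (2 * b + q) * b ≤ (∑ v : F, J v) * b := mul_le_mul_of_nonneg_right h8 hbpos.le
  rw [hC4] at h9
  nlinarith

end Cfsg.Agent.Lib.Helper2.U3Q
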