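import Mathlib
import Cfsg.Agent.Lib.Helper2.U3Qb
import Cfsg.Agent.Lib.Helper2.U34c

set_option autoImplicit false
set_option linter.unusedSectionVars false

/-!
Sylow 2-subgroups of `SU₃(2ⁿ)`, part c: an automorphism whose square acts trivially modulo the
centre fixes the centre pointwise.
-/

namespace Cfsg.Agent.Lib.Helper2.U3Q

open Cfsg.Agent.Lib.Helper3.U3 Cfsg.Agent.Lib.Helper1.HermCount Cfsg.Agent.Lib.Helper2.Herm
open Cfsg.Agent.Lib.Helper2.U34

theorem exists_functional {F : Type*} [Field F] [CharP F 2] (Q : AddSubgroup F) {a : F}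
    (ha : a ∉ Q) : ∃ l : F →+ ZMod 2, l a = 1 ∧ ∀ x ∈ Q, l x = 0 := by
  letI := ZMod.algebra F 2
  obtain ⟨f, hfa, hf⟩ := Submodule.exists_le_ker_of_notMem
    (p := AddSubgroup.toZModSubmodule 2 Q) (v := a) ha
  exact ⟨f.toAddMonoidHom, (zmod2_cases _).resolve_left hfa, fun x hx => hf hx⟩

variable {F : Type*} [Field F] [CharP F 2] [Fintype F] {q : ℕ}
variable {hF : Fintype.card F = q ^ 2} {G : Type*} [Group G] (c : Coord hF G)

/-- the map induced by an automorphism on the first coordinate -/
noncomputable def Afun (α : G ≃* G) (β : F) : F := cb c (α (exists_cb c β).choose)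

theorem Afun_cb (α : G ≃* G) (g : G) : Afun c α (cb c g) = cb c (α g) :=
  cb_map c α (exists_cb c (cb c g)).choose_spec

/-- the additive map induced by an automorphism on the first coordinate -/
noncomputable def Amap (α : G ≃* G) : F →+ F where
  toFun := Afun c α
  map_zero' := by
    rw [← cb_one c, Afun_cb, map_one]
  map_add' β β' := by
    obtain ⟨g, rfl⟩ := exists_cb c β
    obtain ⟨g', rfl⟩ := exists_cb c β'
    rw [← cb_mul, Afun_cb, Afun_cb, Afun_cb, map_mul, cb_mul]

theorem Amap_cb (α : G ≃* G) (g : G) : Amap c α (cb c g) = cb c (α g) := Afun_cb c α g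

theorem map_sq_of_cb_eq (α : G ≃* G) {g : G} (hg : cb c (α g) = cb c g) :
    α (g * g) = g * g := by
  have hz : g⁻¹ * α g ∈ Subgroup.center G := (cb_eq_iff c _ _).mp hg.symm
  obtain ⟨z, hzdef⟩ : ∃ z, z = g⁻¹ * α g := ⟨_, rfl⟩
  rw [← hzdef] at hz
  have hαg : α g = g * z := by rw [hzdef, mul_inv_cancel_left]
  have hzc := Subgroup.mem_center_iff.mp hz
  rw [map_mul, hαg]
  have e1 : g * z * (g * z) = g * (z * g) * z := by group
  have e2 : g * (g * z) * z = g * g * (z * z) := by group
  rw [e1, ← hzc g, e2, c.center_mul_self hz, mul_one]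

include c in
theorem center_fixed (α : G ≃* G) (h2 : ∀ g, cb c (α (α g)) = cb c g) :
    ∀ z ∈ Subgroup.center G, α z = z := by
  classical
  by_contra hcon
  push Not at hcon
  obtain ⟨z1, hz1, hne⟩ := hcon
  have hq := two_le_q hF
  have z0 : (0 : F) ^ (q + 1) = 0 := zero_pow (by omega)
  let Q : AddSubgroup F :=
    { carrier := {γ | ∃ h : γ + γ ^ q = (0 : F) ^ (q + 1), α (c.x 0 γ h) = c.x 0 γ h}
      zero_mem' := ⟨valid_zero hF, by rw [c.x_zero, map_one]⟩
      add_mem' := by
        rintro γ γ' ⟨h, e⟩ ⟨h', e'⟩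
        have hm := c.x_mul h h'
        have hv : (γ + γ') + (γ + γ') ^ q = (0 : F) ^ (q + 1) := by
          have h0 := h
          have h0' := h'
          rw [z0] at h0 h0' ⊢
          rw [add_pow_q hF]
          linear_combination h0 + h0'
        have e3 : c.x 0 γ h * c.x 0 γ' h' = c.x 0 (γ + γ') hv := by
          rw [hm]
          apply c.x_congr
          · rw [add_zero]
          · rw [mul_zero, add_zero]
        exact ⟨hv, by rw [← e3, map_mul, e, e']⟩
      neg_mem' := by
        rintro γ ⟨h, e⟩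
        have hneg : -γ = γ := CharTwo.neg_eq γ
        show ∃ h : -γ + (-γ) ^ q = (0 : F) ^ (q + 1), α (c.x 0 (-γ) h) = c.x 0 (-γ) h
        rw [hneg]
        exact ⟨h, e⟩ }
  obtain ⟨β, a, hv1, rfl⟩ := c.x_surj z1
  have hβ : β = 0 := (c.mem_center_iff hv1).mp hz1
  subst hβ
  have ha : a ^ q = a := by
    have h0 := hv1
    rw [z0] at h0
    exact (CharTwo.add_eq_zero.mp h0).symm
  have haQ : a ∉ Q := by
    rintro ⟨h', e⟩
    exact hne e
  obtain ⟨l, hla, hlQ⟩ := exists_functional Q haQ
  obtain ⟨f, hfdef⟩ : ∃ f : F →+ F, f = Amap c α + AddMonoidHom.id F := ⟨_, rfl⟩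
  have hf : ∀ v, f v = Amap c α v + v := by
    intro v
    rw [hfdef]
    rfl
  have hAA : ∀ v, Amap c α (Amap c α v) = v := by
    intro v
    obtain ⟨g, rfl⟩ := exists_cb c v
    rw [Amap_cb, Amap_cb, h2]
  have hff : ∀ v, f (f v) = 0 := by
    intro v
    rw [hf, hf, map_add, hAA]
    have h3 : ∀ y : F, y + y = 0 := CharTwo.add_self_eq_zero
    linear_combination h3 v + h3 (Amap c α v)
  have hB : ∀ β ∈ f.ker, l (nrm q β) = 0 := by
    intro β hβ
    have h3 : Amap c α β = β := by
      have := (AddMonoidHom.mem_ker).mp hβ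
      rw [hf] at this
      exact CharTwo.add_eq_zero.mp this
    obtain ⟨g, rfl⟩ := exists_cb c β
    rw [Amap_cb] at h3
    have h4 := map_sq_of_cb_eq c α h3
    obtain ⟨hh, e⟩ := mul_self' c g
    rw [e] at h4
    apply hlQ
    have : nrm q (cb c g) = cb c g ^ q * cb c g := by
      unfold nrm
      ring
    rw [this]
    exact ⟨hh, h4⟩
  have hcard : q ≤ Nat.card f.ker := by
    have h3 := AddSubgroup.card_mul_index f.ker
    have h4 := AddSubgroup.index_ker f
    rw [h4, Nat.card_eq_fintype_card (α := F), hF] at h3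
    have hle : f.range ≤ f.ker := by
      rintro _ ⟨v, rfl⟩
      exact (AddMonoidHom.mem_ker).mpr (hff v)
    have h5 : Nat.card f.range ≤ Nat.card f.ker := AddSubgroup.card_le_of_le hle
    by_contra hlt
    push Not at hlt
    have : Nat.card f.ker * Nat.card f.range < q * q := by
      calc Nat.card f.ker * Nat.card f.range ≤ Nat.card f.ker * Nat.card f.ker :=
            Nat.mul_le_mul_left _ h5
        _ < q * q := Nat.mul_self_lt_mul_self hlt
    rw [h3] at this
    nlinarith
  exact no_singular hF l ha hla f.ker hB hcard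

end Cfsg.Agent.Lib.Helper2.U3Q
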