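import Mathlib
import Cfsg.Agent.Lib.Helper2.U3Qc

set_option autoImplicit false
set_option linter.unusedSectionVars false
set_option linter.style.haveILetI false

/-!
Sylow 2-subgroups of `SU₃(2ⁿ)`, part d: unipotent coordinates for the Sylow 2-subgroups of
`SU₃(2ⁿ)`; a group containing a coordinatised group with index two centralises its centre.
-/

namespace Cfsg.Agent.Lib.Helper2.U3Q

open Cfsg.Agent.Lib.Helper3.U3 Cfsg.Agent.Lib.Helper1.HermCount Cfsg.Agent.Lib.Helper2.Herm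
open Cfsg.Agent.Lib.Helper2.U34

variable {F : Type*} [Field F] [CharP F 2] [Fintype F] {q : ℕ}

theorem card_SU_factorization {n : ℕ} (hn : 1 ≤ n) (hF : Fintype.card F = (2 ^ n) ^ 2) :
    (Nat.card (Cfsg.SU 3 F (2 ^ n))).factorization 2 = 3 * n := by
  have h1 := Subgroup.card_eq_card_quotient_mul_card_subgroup
    (Subgroup.center (Cfsg.SU 3 F (2 ^ n)))
  have h2 := card_PSU_factorization hn hF
  unfold Cfsg.PSU at h2
  have h3 : (Nat.gcd 3 (2 ^ n + 1)).factorization 2 = 0 := by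
    apply Nat.factorization_eq_zero_of_not_dvd
    intro hd
    have := hd.trans (Nat.gcd_dvd_left 3 _)
    omega
  rw [h1, Nat.factorization_mul Nat.card_pos.ne' Nat.card_pos.ne', Finsupp.add_apply, h2,
    Cfsg.Agent.S0279.result hF 3 le_rfl, h3, add_zero]

/-- every Sylow `2`-subgroup of `SU₃(2ⁿ)` has unipotent coordinates -/
theorem exists_coord_sylow_SU {n : ℕ} (hn : 1 ≤ n) (hF : Fintype.card F = (2 ^ n) ^ 2)
    (S : Sylow 2 (Cfsg.SU 3 F (2 ^ n))) :
    Nonempty (Coord hF ↥(S : Subgroup (Cfsg.SU 3 F (2 ^ n)))) := by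
  have hcard : Nat.card (Usu hF) = 2 ^ (Nat.card (Cfsg.SU 3 F (2 ^ n))).factorization 2 := by
    rw [card_SU_factorization hn hF, (usuCoord hF).card_eq, ← pow_mul, mul_comm]
  let P0 : Sylow 2 (Cfsg.SU 3 F (2 ^ n)) := Sylow.ofCard (Usu hF) hcard
  obtain ⟨g, hg⟩ := MulAction.exists_smul_eq (Cfsg.SU 3 F (2 ^ n)) P0 S
  let e2 : Usu hF ≃* ↥(P0 : Subgroup (Cfsg.SU 3 F (2 ^ n))) :=
    MulEquiv.subgroupCongr (Sylow.coe_ofCard _ hcard).symm
  let e3 := Sylow.equivSMul P0 g
  subst hg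
  exact ⟨(usuCoord hF).map (e2.trans e3)⟩

theorem overgroup_center {hF : Fintype.card F = q ^ 2} {R : Type*} [Group R] (S' : Subgroup R)
    (hidx : S'.index = 2) (c : Coord hF ↥S') :
    (Subgroup.center ↥S').map S'.subtype ≤ Subgroup.center R := by
  haveI : S'.Normal := Subgroup.normal_of_index_eq_two hidx
  obtain ⟨t, ht⟩ : ∃ t : R, t ∉ S' := by
    by_contra h
    push Not at h
    have : S' = ⊤ := eq_top_iff.mpr (fun x _ => h x)
    rw [this, Subgroup.index_top] at hidx
    omega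
  obtain ⟨α, hαdef⟩ : ∃ α : ↥S' ≃* ↥S', α = MulAut.conjNormal t := ⟨_, rfl⟩
  have hα : ∀ s : S', ((α s : S') : R) = t * s * t⁻¹ := by
    intro s
    rw [hαdef]
    exact MulAut.conjNormal_apply t s
  have htt : t * t ∈ S' := (Subgroup.mul_mem_iff_of_index_two hidx).mpr Iff.rfl
  have h2 : ∀ g, cb c (α (α g)) = cb c g := by
    intro g
    have e : α (α g) = ⟨t * t, htt⟩ * g * (⟨t * t, htt⟩ : S')⁻¹ := by
      apply Subtype.ext
      rw [hα, hα]
      simp [mul_assoc]
    rw [e, cb_mul, cb_mul, cb_inv]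
    have h3 : ∀ y : F, y + y = 0 := CharTwo.add_self_eq_zero
    linear_combination h3 (cb c ⟨t * t, htt⟩)
  have hfix := center_fixed c α h2
  rintro _ ⟨z, hz, rfl⟩
  rw [Subgroup.mem_center_iff]
  intro r
  have hzt : t * (z : R) = (z : R) * t := by
    have h3 := congrArg Subtype.val (hfix z hz)
    rw [hα] at h3
    calc t * (z : R) = (t * z * t⁻¹) * t := by group
      _ = z * t := by rw [h3]
  show r * (z : R) = (z : R) * r
  by_cases hr : r ∈ S'
  · have h3 := Subgroup.mem_center_iff.mp hz ⟨r, hr⟩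
    exact congrArg Subtype.val h3
  · have hs : t⁻¹ * r ∈ S' := by
      rw [Subgroup.mul_mem_iff_of_index_two hidx]
      constructor
      · intro h
        exact absurd (inv_mem_iff.mp h) ht
      · intro h
        exact absurd h hr
    have h4 := Subgroup.mem_center_iff.mp hz ⟨t⁻¹ * r, hs⟩
    have h5 : (t⁻¹ * r) * (z : R) = z * (t⁻¹ * r) := congrArg Subtype.val h4
    calc r * (z : R) = t * ((t⁻¹ * r) * z) := by group
      _ = t * (z * (t⁻¹ * r)) := by rw [h5]
      _ = (t * z) * (t⁻¹ * r) := by group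
      _ = (z * t) * (t⁻¹ * r) := by rw [hzt]
      _ = z * r := by group

end Cfsg.Agent.Lib.Helper2.U3Q
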