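import Mathlib

set_option autoImplicit false

/-!
# Good permutations: periods, the predicate `Good`, invariance under equivalences
-/

namespace Cfsg.Agent.Lib.Helper2.USyl

open Equiv Function

variable {α β : Type}

/-- the period of a point under a permutation -/
noncomputable def per (y : Perm α) (u : α) : ℕ := Function.minimalPeriod (⇑y) u

theorem per_dvd_iff (y : Perm α) (u : α) (k : ℕ) : (y ^ k) u = u ↔ per y u ∣ k := by
  unfold per
  rw [← Function.isPeriodicPt_iff_minimalPeriod_dvd, Function.IsPeriodicPt, Function.IsFixedPt,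
    Perm.iterate_eq_pow]

theorem per_pos [Finite α] (y : Perm α) (u : α) : 0 < per y u := by
  unfold per
  apply Function.minimalPeriod_pos_of_mem_periodicPts
  haveI := Fintype.ofFinite α
  refine Function.mk_mem_periodicPts (orderOf_pos y) ?_
  rw [Function.IsPeriodicPt, Function.IsFixedPt, Perm.iterate_eq_pow, pow_orderOf_eq_one]
  rfl

theorem per_eq_one_iff [Finite α] (y : Perm α) (u : α) : per y u = 1 ↔ y u = u := by
  constructor
  · intro h
    have := (per_dvd_iff y u 1).mpr (by rw [h])
    simpa using this
  · intro h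
    have h1 : per y u ∣ 1 := (per_dvd_iff y u 1).mp (by simpa using h)
    exact Nat.dvd_one.mp h1

theorem pow_per_apply (y : Perm α) (u : α) : (y ^ per y u) u = u :=
  (per_dvd_iff y u _).mpr dvd_rfl

theorem per_eq_of_forall {y : Perm α} {y' : Perm β} {u : α} {v : β}
    (h : ∀ k : ℕ, (y ^ k) u = u ↔ (y' ^ k) v = v) : per y u = per y' v := by
  apply Nat.dvd_antisymm
  · rw [← per_dvd_iff, h, per_dvd_iff]
  · rw [← per_dvd_iff, ← h, per_dvd_iff]

/-- a permutation is good when its nontrivial cycles have pairwise different lengths and it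
has at most two fixed points -/
structure Good (y : Perm α) : Prop where
  nodup : ∀ u v, y u ≠ u → per y u = per y v → y.SameCycle u v
  fix : ∀ a b c, y a = a → y b = b → y c = c → a = b ∨ a = c ∨ b = c

theorem pow_intertwine {y : Perm α} {y' : Perm β} (ψ : α → β) (h : ∀ u, y' (ψ u) = ψ (y u))
    (k : ℕ) (u : α) : (y' ^ k) (ψ u) = ψ ((y ^ k) u) := by
  induction k generalizing u with
  | zero => simp
  | succ k ih => rw [pow_succ, pow_succ, Perm.mul_apply, Perm.mul_apply, h, ih]

theorem per_intertwine {y : Perm α} {y' : Perm β} (ψ : α → β) (hψ : Function.Injective ψ)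
    (h : ∀ u, y' (ψ u) = ψ (y u)) (u : α) : per y' (ψ u) = per y u := by
  apply per_eq_of_forall
  intro k
  rw [pow_intertwine ψ h]
  exact hψ.eq_iff

theorem Good.of_equiv [Finite α] [Finite β] (ψ : α ≃ β) {y : Perm α} {y' : Perm β}
    (h : ∀ u, y' (ψ u) = ψ (y u)) (hy : Good y) : Good y' := by
  have hinv : ∀ v, y (ψ.symm v) = ψ.symm (y' v) := by
    intro v
    apply ψ.injective
    rw [← h]; simp
  constructor
  · intro u v hu hper
    have hu' : y (ψ.symm u) ≠ ψ.symm u := by
      intro hh
      apply hu
      have := h (ψ.symm u)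
      rw [hh] at this
      simpa using this
    have hp : per y (ψ.symm u) = per y (ψ.symm v) := by
      have e1 := per_intertwine ψ ψ.injective h (ψ.symm u)
      have e2 := per_intertwine ψ ψ.injective h (ψ.symm v)
      simp only [Equiv.apply_symm_apply] at e1 e2
      rw [← e1, ← e2, hper]
    obtain ⟨i, hi⟩ := (hy.nodup _ _ hu' hp).exists_nat_pow_eq
    refine ⟨i, ?_⟩
    have := pow_intertwine ψ h i (ψ.symm u)
    rw [hi] at this
    simpa using this
  · intro a b c ha hb hc
    have ha' : y (ψ.symm a) = ψ.symm a := by rw [hinv, ha]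
    have hb' : y (ψ.symm b) = ψ.symm b := by rw [hinv, hb]
    have hc' : y (ψ.symm c) = ψ.symm c := by rw [hinv, hc]
    rcases hy.fix _ _ _ ha' hb' hc' with h1 | h1 | h1
    · left; exact ψ.symm.injective h1
    · right; left; exact ψ.symm.injective h1
    · right; right; exact ψ.symm.injective h1

theorem Good.conj [Finite α] {y : Perm α} (hy : Good y) (a : Perm α) : Good (a⁻¹ * y * a) := by
  refine hy.of_equiv (a⁻¹ : Perm α) ?_
  intro u
  simp [Perm.mul_apply]

end Cfsg.Agent.Lib.Helper2.USyl
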