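import Mathlib
import Cfsg.Agent.Lib.Helper2.USyl1

set_option autoImplicit false

/-!
# The pairing involution commuting with a good permutation is unique
-/

namespace Cfsg.Agent.Lib.Helper2.USyl

open Equiv Function

variable {α : Type}

theorem dvd_add_of_two_mul {m k k' : ℕ} (h1 : m ∣ 2 * k) (h1' : ¬ m ∣ k)
    (h2 : m ∣ 2 * k') (h2' : ¬ m ∣ k') : m ∣ k + k' := by
  obtain ⟨a, ha⟩ := h1
  obtain ⟨a', ha'⟩ := h2
  have hodd : Odd a := by
    rcases Nat.even_or_odd a with he | ho
    · exfalso
      obtain ⟨c, hc⟩ := he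
      apply h1'
      refine ⟨c, ?_⟩
      have : 2 * k = 2 * (m * c) := by rw [ha, hc]; ring
      omega
    · exact ho
  have hodd' : Odd a' := by
    rcases Nat.even_or_odd a' with he | ho
    · exfalso
      obtain ⟨c, hc⟩ := he
      apply h2'
      refine ⟨c, ?_⟩
      have : 2 * k' = 2 * (m * c) := by rw [ha', hc]; ring
      omega
    · exact ho
  obtain ⟨c, hc⟩ := hodd.add_odd hodd'
  refine ⟨c, ?_⟩
  have : 2 * (k + k') = 2 * (m * c) := by
    rw [mul_add, ha, ha', ← mul_add, hc]; ring
  omega

theorem commute_pow_apply {y τ : Perm α} (hc : Commute τ y) (k : ℕ) (u : α) :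
    (y ^ k) (τ u) = τ ((y ^ k) u) := by
  have h := hc.pow_right k
  have := congrArg (fun σ : Perm α => σ u) h.eq
  simp only [Perm.mul_apply] at this
  exact this.symm

theorem per_commute {y τ : Perm α} (hc : Commute τ y) (u : α) : per y (τ u) = per y u := by
  apply per_eq_of_forall
  intro k
  rw [commute_pow_apply hc]
  exact τ.injective.eq_iff

/-- for a non-fixed point of a good `y`, the value of the pairing involution is a power of `y` -/
theorem exists_pow_eq_of_pairing [Finite α] {y τ : Perm α} (hy : Good y)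
    (hτ2 : τ * τ = 1) (hc : Commute τ y) (hfix : ∀ u v, τ u = u → τ v = v → u = v)
    (u : α) (hu : y u ≠ u) :
    ∃ k : ℕ, (y ^ k) u = τ u ∧ per y u ∣ 2 * k ∧ ¬ per y u ∣ k := by
  have hs : y.SameCycle u (τ u) := hy.nodup u (τ u) hu (per_commute hc u).symm
  obtain ⟨k, hk⟩ := hs.exists_nat_pow_eq
  refine ⟨k, hk, ?_, ?_⟩
  · rw [← per_dvd_iff, two_mul, pow_add, Perm.mul_apply, hk, commute_pow_apply hc, hk]
    have := congrArg (fun σ : Perm α => σ u) hτ2
    simpa [Perm.mul_apply] using this
  · intro hdvd
    have h1 : τ u = u := by rw [← hk]; exact (per_dvd_iff y u k).mpr hdvd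
    have h2 : τ (y u) = y u := by
      have := commute_pow_apply hc 1 u
      simp only [pow_one] at this
      rw [← this, h1]
    exact hu (hfix _ _ h2 h1)

theorem pairing_unique [Finite α] {y τ τ' : Perm α} (hy : Good y)
    (hτ2 : τ * τ = 1) (hτ2' : τ' * τ' = 1) (hc : Commute τ y) (hc' : Commute τ' y)
    (hfix : ∀ u v, τ u = u → τ v = v → u = v) (hfix' : ∀ u v, τ' u = u → τ' v = v → u = v) :
    τ = τ' := by
  have hττ : ∀ u, τ (τ u) = u := fun u => by
    have := congrArg (fun σ : Perm α => σ u) hτ2
    simpa [Perm.mul_apply] using this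
  have hττ' : ∀ u, τ' (τ' u) = u := fun u => by
    have := congrArg (fun σ : Perm α => σ u) hτ2'
    simpa [Perm.mul_apply] using this
  ext u
  by_cases hu : y u = u
  · -- fixed point
    have h1 : y (τ u) = τ u := by
      have := commute_pow_apply hc 1 u
      simp only [pow_one] at this
      rw [this, hu]
    have h1' : y (τ' u) = τ' u := by
      have := commute_pow_apply hc' 1 u
      simp only [pow_one] at this
      rw [this, hu]
    by_contra hne
    rcases hy.fix u (τ u) (τ' u) hu h1 h1' with h | h | h
    · -- u = τ u, so τ' u ≠ u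
      have h3 : τ u = u := h.symm
      have h4 : τ' u ≠ u := fun h5 => hne (by rw [h3, h5])
      -- τ permutes {u, τ' u} fixing u; τ (τ' u) is fixed by y
      have h5 : y (τ (τ' u)) = τ (τ' u) := by
        have := commute_pow_apply hc 1 (τ' u)
        simp only [pow_one] at this
        rw [this, h1']
      rcases hy.fix u (τ' u) (τ (τ' u)) hu h1' h5 with h6 | h6 | h6
      · exact h4 h6.symm
      · -- u = τ (τ' u) → τ u = τ' u
        have : τ u = τ' u := by
          have := congrArg τ h6
          rw [hττ] at this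
          exact this
        exact hne this
      · -- τ' u = τ (τ' u): second fixed point of τ
        exact h4 (hfix _ _ h6.symm h3)
    · -- u = τ' u
      have h3 : τ' u = u := h.symm
      have h4 : τ u ≠ u := fun h5 => hne (by rw [h3, h5])
      have h5 : y (τ' (τ u)) = τ' (τ u) := by
        have := commute_pow_apply hc' 1 (τ u)
        simp only [pow_one] at this
        rw [this, h1]
      rcases hy.fix u (τ u) (τ' (τ u)) hu h1 h5 with h6 | h6 | h6
      · exact h4 h6.symm
      · have : τ' u = τ u := by
          have := congrArg τ' h6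
          rw [hττ'] at this
          exact this
        exact hne this.symm
      · exact h4 (hfix' _ _ h6.symm h3)
    · exact hne h
  · obtain ⟨k, hk, hk1, hk2⟩ := exists_pow_eq_of_pairing hy hτ2 hc hfix u hu
    obtain ⟨k', hk', hk1', hk2'⟩ := exists_pow_eq_of_pairing hy hτ2' hc' hfix' u hu
    have hd : per y u ∣ k + k' := dvd_add_of_two_mul hk1 hk2 hk1' hk2'
    have h1 : (y ^ (k' + k)) u = u := by
      rw [per_dvd_iff, add_comm]; exact hd
    rw [pow_add, Perm.mul_apply, hk, commute_pow_apply hc, hk'] at h1
    -- τ (τ' u) = u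
    have := congrArg τ h1
    rw [hττ] at this
    exact this.symm

end Cfsg.Agent.Lib.Helper2.USyl
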