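import Mathlib
import Cfsg.Agent.Lib.Helper9.AltFus2
import Cfsg.Agent.Lib.Helper2.USyl2

set_option autoImplicit false

/-!
# The standard pairing involution on `Om 2 B C` and its centralizer
-/

namespace Cfsg.Agent.Lib.Helper2.USyl

open Equiv Function Cfsg.Agent.H9AF

variable {B C : Type}

/-- the standard pairing involution -/
def tau0 (B C : Type) : Perm (Om 2 B C) := mk (fun _ => 1) 1

@[simp] theorem tau0_inl (b : B) (i : ZMod 2) :
    tau0 B C (Sum.inl (b, i)) = Sum.inl (b, i + 1) := rfl

@[simp] theorem tau0_inr (c : C) : tau0 B C (Sum.inr c) = Sum.inr c := rfl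

theorem tau0_mul_self : tau0 B C * tau0 B C = 1 := by
  ext x
  rcases x with ⟨b, i⟩ | c
  · simp only [Perm.mul_apply, tau0_inl, Perm.one_apply, add_assoc]
    have : (1 : ZMod 2) + 1 = 0 := by decide
    rw [this, add_zero]
  · simp [Perm.mul_apply]

theorem tau0_fix [Subsingleton C] (u v : Om 2 B C) (hu : tau0 B C u = u) (hv : tau0 B C v = v) :
    u = v := by
  rcases u with ⟨b, i⟩ | c
  · exfalso
    simp only [tau0_inl, Sum.inl.injEq, Prod.mk.injEq, true_and] at hu
    have : (1 : ZMod 2) = 0 := by
      have := congrArg (fun z => z - i) hu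
      simpa using this
    exact absurd this (by decide)
  · rcases v with ⟨b, i⟩ | c'
    · exfalso
      simp only [tau0_inl, Sum.inl.injEq, Prod.mk.injEq, true_and] at hv
      have : (1 : ZMod 2) = 0 := by
        have := congrArg (fun z => z - i) hv
        simpa using this
      exact absurd this (by decide)
    · rw [Subsingleton.elim c c']

theorem mk_commute_tau0 (f : B → ZMod 2) (q : Perm B) :
    Commute (tau0 B C) (mk f q : Perm (Om 2 B C)) := by
  unfold tau0
  rw [Commute, SemiconjBy, mk_mul, mk_mul]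
  congr 1
  funext b
  simp [add_comm]

/-- a permutation commuting with the standard pairing involution is of the form `mk f q` -/
theorem exists_mk_of_commute [Finite B] [Subsingleton C] (σ : Perm (Om 2 B C))
    (hσ : Commute (tau0 B C) σ) : ∃ (f : B → ZMod 2) (q : Perm B), σ = mk f q := by
  classical
  have hc : ∀ u, σ (tau0 B C u) = tau0 B C (σ u) := by
    intro u
    have := congrArg (fun ρ : Perm (Om 2 B C) => ρ u) hσ.eq
    simpa [Perm.mul_apply] using this.symm
  -- σ maps inr to inr
  have hinr : ∀ c : C, σ (Sum.inr c) = Sum.inr c := by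
    intro c
    have h1 : tau0 B C (σ (Sum.inr c)) = σ (Sum.inr c) := by
      rw [← hc]; simp
    exact tau0_fix _ _ h1 (tau0_inr c)
  have hinl : ∀ (b : B) (i : ZMod 2), ∃ b' i', σ (Sum.inl (b, i)) = Sum.inl (b', i') := by
    intro b i
    rcases h : σ (Sum.inl (b, i)) with ⟨b', i'⟩ | c
    · exact ⟨b', i', rfl⟩
    · exfalso
      have h3 : σ (Sum.inl (b, i)) = σ (Sum.inr c) := by rw [h, hinr c]
      have h2 : (Sum.inl (b, i) : Om 2 B C) = Sum.inr c := σ.injective h3
      exact Sum.inl_ne_inr h2
  choose qf ff hqf using hinl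
  have hq1 : ∀ b i, qf b (i + 1) = qf b i ∧ ff b (i + 1) = ff b i + 1 := by
    intro b i
    have h1 := hc (Sum.inl (b, i))
    rw [tau0_inl, hqf, hqf, tau0_inl] at h1
    simp only [Sum.inl.injEq, Prod.mk.injEq] at h1
    exact h1
  have hzmod : ∀ i : ZMod 2, i = 0 ∨ i = 1 := by decide
  have hq0 : ∀ b i, qf b i = qf b 0 ∧ ff b i = i + ff b 0 := by
    intro b i
    rcases hzmod i with rfl | rfl
    · simp
    · have := hq1 b 0
      simp only [zero_add] at this
      rw [this.1, this.2, add_comm]
      simp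
  have hinj : Function.Injective (fun b => qf b 0) := by
    intro b b' h
    simp only at h
    by_contra hne
    -- σ (b,0) and σ (b',0) have the same first coordinate
    have e1 := hqf b 0
    have e2 := hqf b' 0
    rcases hzmod (ff b 0 - ff b' 0) with h0 | h0
    · have : ff b 0 = ff b' 0 := sub_eq_zero.mp h0
      rw [h, this, ← e2] at e1
      have := σ.injective e1
      simp only [Sum.inl.injEq, Prod.mk.injEq, and_true] at this
      exact hne this
    · have h3 : ff b 0 = ff b' 1 := by
        rw [(hq0 b' 1).2]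
        have : ff b 0 = 1 + ff b' 0 := by
          rw [← h0]; ring
        exact this
      have e3 := hqf b' 1
      rw [(hq0 b' 1).1] at e3
      rw [h, h3, ← e3] at e1
      have := σ.injective e1
      simp only [Sum.inl.injEq, Prod.mk.injEq] at this
      exact hne this.1
  have hbij : Function.Bijective (fun b => qf b 0) := Finite.injective_iff_bijective.mp hinj
  refine ⟨fun b => ff b 0, Equiv.ofBijective _ hbij, ?_⟩
  ext x
  rcases x with ⟨b, i⟩ | c
  · rw [hqf, mk_inl, (hq0 b i).1, (hq0 b i).2]
    rfl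
  · rw [hinr, mk_inr]

theorem mk_pow (f : B → ZMod 2) (q : Perm B) (k : ℕ) :
    ∃ f' : B → ZMod 2, (mk f q : Perm (Om 2 B C)) ^ k = mk f' (q ^ k) := by
  induction k with
  | zero => exact ⟨0, by rw [pow_zero, pow_zero, mk_one]⟩
  | succ k ih =>
    obtain ⟨f', hf'⟩ := ih
    refine ⟨fun b => f b + f' (q b), ?_⟩
    rw [pow_succ, hf', mk_mul, pow_succ]

theorem mk_conj (f f' : B → ZMod 2) (q q' : Perm B) :
    ∃ f'' : B → ZMod 2, ((mk f' q' : Perm (Om 2 B C)))⁻¹ * mk f q * mk f' q' =
      mk f'' (q'⁻¹ * q * q') := by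
  rw [mk_inv, mk_mul, mk_mul]
  exact ⟨_, rfl⟩

end Cfsg.Agent.Lib.Helper2.USyl
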