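import Mathlib
import Cfsg.Agent.Lib.Helper2.USyl3

set_option autoImplicit false

/-!
# Goodness descends from `mk f q` to `q`
-/

namespace Cfsg.Agent.Lib.Helper2.USyl

open Equiv Function Cfsg.Agent.H9AF

variable {B C : Type}

theorem mk_pow_inl (f : B → ZMod 2) (q : Perm B) (k : ℕ) (b : B) (i : ZMod 2) :
    ∃ i' : ZMod 2, ((mk f q : Perm (Om 2 B C)) ^ k) (Sum.inl (b, i)) = Sum.inl ((q ^ k) b, i') := by
  obtain ⟨f', hf'⟩ := mk_pow (C := C) f q k
  exact ⟨i + f' b, by rw [hf', mk_inl]⟩

theorem per_mk_of_good [Finite B] [Finite C] {f : B → ZMod 2} {q : Perm B}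
    (hy : Good (mk f q : Perm (Om 2 B C))) (b : B) (hb : q b ≠ b) :
    per (mk f q : Perm (Om 2 B C)) (Sum.inl (b, 0)) = 2 * per q b := by
  set y : Perm (Om 2 B C) := mk f q with hydef
  set u : Om 2 B C := Sum.inl (b, 0) with hudef
  set ℓ := per q b with hℓ
  have hℓpos : 0 < ℓ := per_pos q b
  have hA : y u ≠ u := by
    intro h
    rw [hydef, hudef, mk_inl] at h
    simp only [Sum.inl.injEq, Prod.mk.injEq] at h
    exact hb h.1
  have hB : ℓ ∣ per y u := by
    have h1 := pow_per_apply y u
    obtain ⟨i', hi'⟩ := mk_pow_inl (C := C) f q (per y u) b 0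
    rw [← hydef, ← hudef, h1, hudef] at hi'
    simp only [Sum.inl.injEq, Prod.mk.injEq] at hi'
    exact (per_dvd_iff q b _).mp hi'.1.symm
  have hC : per y u ∣ 2 * ℓ := by
    rw [← per_dvd_iff]
    obtain ⟨f', hf'⟩ := mk_pow (C := C) f q ℓ
    rw [two_mul, pow_add, Perm.mul_apply, hydef, hf', hudef, mk_inl, mk_inl]
    have h1 : (q ^ ℓ) b = b := pow_per_apply q b
    rw [h1, h1, add_assoc, CharTwo.add_self_eq_zero, add_zero]
  have hD : per y u ≠ ℓ := by
    intro h
    have hs : y.SameCycle u (tau0 B C u) :=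
      hy.nodup u (tau0 B C u) hA (per_commute (mk_commute_tau0 f q) u).symm
    obtain ⟨j, hj⟩ := hs.exists_nat_pow_eq
    obtain ⟨i', hi'⟩ := mk_pow_inl (C := C) f q j b 0
    rw [← hydef, ← hudef, hj, hudef, tau0_inl] at hi'
    simp only [Sum.inl.injEq, Prod.mk.injEq] at hi'
    have h2 : ℓ ∣ j := (per_dvd_iff q b _).mp hi'.1.symm
    have h3 : (y ^ j) u = u := (per_dvd_iff y u j).mpr (h ▸ h2)
    rw [hj, hudef, tau0_inl] at h3
    simp only [Sum.inl.injEq, Prod.mk.injEq, true_and] at h3
    exact absurd h3 (by decide)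
  obtain ⟨t, ht⟩ := hB
  rw [ht] at hC hD ⊢
  have ht2 : t ∣ 2 := by
    rw [mul_comm 2 ℓ] at hC
    exact (Nat.mul_dvd_mul_iff_left hℓpos).mp hC
  rcases (Nat.dvd_prime Nat.prime_two).mp ht2 with h1 | h2
  · exfalso; apply hD; rw [h1, mul_one]
  · rw [h2, mul_comm]

theorem good_descent [Finite B] [Finite C] {f : B → ZMod 2} {q : Perm B}
    (hy : Good (mk f q : Perm (Om 2 B C))) : Good q := by
  set y : Perm (Om 2 B C) := mk f q with hydef
  constructor
  · intro b b' hb hper
    have hb' : q b' ≠ b' := by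
      intro h
      have h1 : per q b' = 1 := (per_eq_one_iff q b').mpr h
      rw [← hper, per_eq_one_iff] at h1
      exact hb h1
    have h1 := per_mk_of_good hy b hb
    have h2 := per_mk_of_good hy b' hb'
    have hA : y (Sum.inl (b, 0)) ≠ Sum.inl (b, 0) := by
      intro h
      rw [hydef, mk_inl] at h
      simp only [Sum.inl.injEq, Prod.mk.injEq] at h
      exact hb h.1
    have hs : y.SameCycle (Sum.inl (b, 0)) (Sum.inl (b', 0)) :=
      hy.nodup _ _ hA (by rw [h1, h2, hper])
    obtain ⟨j, hj⟩ := hs.exists_nat_pow_eq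
    obtain ⟨i', hi'⟩ := mk_pow_inl (C := C) f q j b 0
    rw [← hydef, hj] at hi'
    simp only [Sum.inl.injEq, Prod.mk.injEq] at hi'
    exact ⟨(j : ℤ), by rw [zpow_natCast]; exact hi'.1.symm⟩
  · -- fixed points
    have key : ∀ b b' : B, q b = b → q b' = b' → f b = f b' → b = b' := by
      intro b b' hb hb' hf
      by_contra hne
      have hz : ∀ i : ZMod 2, i = 0 ∨ i = 1 := by decide
      rcases hz (f b) with h0 | h1
      · -- four fixed points
        have e1 : y (Sum.inl (b, 0)) = Sum.inl (b, 0) := by rw [hydef, mk_inl, hb, h0, add_zero]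
        have e2 : y (Sum.inl (b, 1)) = Sum.inl (b, 1) := by rw [hydef, mk_inl, hb, h0, add_zero]
        have e3 : y (Sum.inl (b', 0)) = Sum.inl (b', 0) := by
          rw [hydef, mk_inl, hb', ← hf, h0, add_zero]
        rcases hy.fix _ _ _ e1 e2 e3 with h | h | h
        · simp only [Sum.inl.injEq, Prod.mk.injEq, true_and] at h
          exact absurd h (by decide)
        · simp only [Sum.inl.injEq, Prod.mk.injEq, and_true] at h
          exact hne h
        · simp only [Sum.inl.injEq, Prod.mk.injEq] at h
          exact hne h.1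
      · -- two cycles of length two
        have e1 : y (Sum.inl (b, 0)) = Sum.inl (b, 1) := by rw [hydef, mk_inl, hb, h1, zero_add]
        have e2 : y (Sum.inl (b, 1)) = Sum.inl (b, 0) := by
          rw [hydef, mk_inl, hb, h1]
          have : (1 : ZMod 2) + 1 = 0 := by decide
          rw [this]
        have e3 : y (Sum.inl (b', 0)) = Sum.inl (b', 1) := by
          rw [hydef, mk_inl, hb', ← hf, h1, zero_add]
        have e4 : y (Sum.inl (b', 1)) = Sum.inl (b', 0) := by
          rw [hydef, mk_inl, hb', ← hf, h1]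
          have : (1 : ZMod 2) + 1 = 0 := by decide
          rw [this]
        have p1 : per y (Sum.inl (b, 0)) = 2 := by
          have hd : per y (Sum.inl (b, 0)) ∣ 2 := by
            rw [← per_dvd_iff, pow_two, Perm.mul_apply, e1, e2]
          rcases (Nat.dvd_prime Nat.prime_two).mp hd with h | h
          · rw [per_eq_one_iff, e1] at h
            simp only [Sum.inl.injEq, Prod.mk.injEq, true_and] at h
            exact absurd h (by decide)
          · exact h
        have p2 : per y (Sum.inl (b', 0)) = 2 := by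
          have hd : per y (Sum.inl (b', 0)) ∣ 2 := by
            rw [← per_dvd_iff, pow_two, Perm.mul_apply, e3, e4]
          rcases (Nat.dvd_prime Nat.prime_two).mp hd with h | h
          · rw [per_eq_one_iff, e3] at h
            simp only [Sum.inl.injEq, Prod.mk.injEq, true_and] at h
            exact absurd h (by decide)
          · exact h
        have hA : y (Sum.inl (b, 0)) ≠ Sum.inl (b, 0) := by
          rw [e1]
          intro h
          simp only [Sum.inl.injEq, Prod.mk.injEq, true_and] at h
          exact absurd h (by decide)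
        have hs : y.SameCycle (Sum.inl (b, 0)) (Sum.inl (b', 0)) :=
          hy.nodup _ _ hA (by rw [p1, p2])
        obtain ⟨j, hj⟩ := hs.exists_nat_pow_eq
        obtain ⟨i', hi'⟩ := mk_pow_inl (C := C) f q j b 0
        rw [← hydef, hj] at hi'
        simp only [Sum.inl.injEq, Prod.mk.injEq] at hi'
        have : (q ^ j) b = b := Perm.pow_apply_eq_self_of_apply_eq_self hb j
        rw [this] at hi'
        exact hne hi'.1.symm
    intro b1 b2 b3 h1 h2 h3
    have hz : ∀ i j k : ZMod 2, i = j ∨ i = k ∨ j = k := by decide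
    rcases hz (f b1) (f b2) (f b3) with h | h | h
    · left; exact key _ _ h1 h2 h
    · right; left; exact key _ _ h1 h3 h
    · right; right; exact key _ _ h2 h3 h

end Cfsg.Agent.Lib.Helper2.USyl
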