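import Mathlib
import Cfsg.Agent.Lib.Helper2.USyl4

set_option autoImplicit false

/-!
# Uniqueness of the Sylow 2-subgroup containing a good permutation
-/

namespace Cfsg.Agent.Lib.Helper2.USyl

open Equiv Function Cfsg.Agent.H9AF

/-- the uniqueness property in normalizer form -/
def Uq (α : Type) : Prop :=
  ∀ P : Subgroup (Perm α), IsSyl 2 P → ∀ y ∈ P, Good y → ∀ g : Perm α, g⁻¹ * y * g ∈ P →
    ∀ x, x ∈ P ↔ g⁻¹ * x * g ∈ P

variable {B C : Type}

theorem wr_conj_iff (Q : Subgroup (Perm B)) (fh : B → ZMod 2) (qh : Perm B)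
    (hQ : ∀ z, z ∈ Q ↔ qh⁻¹ * z * qh ∈ Q) (σ : Perm (Om 2 B C)) :
    σ ∈ wr 2 C Q ↔ (mk fh qh)⁻¹ * σ * mk fh qh ∈ wr 2 C Q := by
  constructor
  · rintro ⟨f, q, hq, rfl⟩
    obtain ⟨f'', hf''⟩ := mk_conj (C := C) f fh q qh
    rw [hf'', mk_mem_wr]
    exact (hQ q).mp hq
  · rintro ⟨f', q', hq', hρ⟩
    have hσ : σ = ((mk fh qh : Perm (Om 2 B C))⁻¹)⁻¹ * mk f' q' * (mk fh qh)⁻¹ := by
      rw [← hρ]; group
    rw [mk_inv] at hσ
    obtain ⟨f'', hf''⟩ := mk_conj (C := C) f' (fun b => - fh (qh⁻¹ b)) q' qh⁻¹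
    rw [hf''] at hσ
    rw [hσ, mk_mem_wr, hQ]
    have : qh⁻¹ * (qh⁻¹⁻¹ * q' * qh⁻¹) * qh = q' := by group
    rw [this]
    exact hq'

theorem uq_step [Finite B] [Finite C] [Subsingleton C] (hB : Uq B) : Uq (Om 2 B C) := by
  intro P hP y hyP hy g hg x
  obtain ⟨S⟩ := (inferInstance : Nonempty (Sylow 2 (Perm B)))
  have hQ0 : IsSyl 2 (S : Subgroup (Perm B)) := isSyl_sylow S
  have hC : Nat.card C < 2 := by
    have := Finite.card_le_one_iff_subsingleton.mpr (inferInstance : Subsingleton C)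
    omega
  have hW0 : IsSyl 2 (wr 2 C (S : Subgroup (Perm B))) := isSyl_wr hC _ hQ0
  obtain ⟨a, ha⟩ := hP.conj hW0
  have hy1 : a⁻¹ * y * a ∈ wr 2 C (S : Subgroup (Perm B)) := (ha y).mp hyP
  obtain ⟨f1, q1, hq1, hy1e⟩ := hy1
  set h : Perm (Om 2 B C) := a⁻¹ * g * a with hh
  have hy2 : h⁻¹ * (a⁻¹ * y * a) * h ∈ wr 2 C (S : Subgroup (Perm B)) := by
    have : h⁻¹ * (a⁻¹ * y * a) * h = a⁻¹ * (g⁻¹ * y * g) * a := by rw [hh]; group
    rw [this]
    exact (ha _).mp hg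
  have hgood1 : Good (a⁻¹ * y * a) := hy.conj a
  -- the conjugated pairing
  obtain ⟨f2, q2, hq2, hy2e⟩ := hy2
  have hc0 : Commute (tau0 B C) (a⁻¹ * y * a) := by rw [hy1e]; exact mk_commute_tau0 f1 q1
  have hc2 : Commute (tau0 B C) (h⁻¹ * (a⁻¹ * y * a) * h) := by
    rw [hy2e]; exact mk_commute_tau0 f2 q2
  have hc1 : Commute (h * tau0 B C * h⁻¹) (a⁻¹ * y * a) := by
    have e := hc2.eq
    show h * tau0 B C * h⁻¹ * (a⁻¹ * y * a) = (a⁻¹ * y * a) * (h * tau0 B C * h⁻¹)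
    have e1 : h * tau0 B C * h⁻¹ * (a⁻¹ * y * a) =
        h * (tau0 B C * (h⁻¹ * (a⁻¹ * y * a) * h)) * h⁻¹ := by group
    rw [e1, e]; group
  have hsq : (h * tau0 B C * h⁻¹) * (h * tau0 B C * h⁻¹) = 1 := by
    have : (h * tau0 B C * h⁻¹) * (h * tau0 B C * h⁻¹) = h * (tau0 B C * tau0 B C) * h⁻¹ := by
      group
    rw [this, tau0_mul_self]; group
  have hfix1 : ∀ u v, (h * tau0 B C * h⁻¹) u = u → (h * tau0 B C * h⁻¹) v = v → u = v := by
    intro u v hu hv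
    have hu' : tau0 B C (h⁻¹ u) = h⁻¹ u := by
      have := congrArg (fun z => h⁻¹ z) hu
      simpa [Perm.mul_apply] using this
    have hv' : tau0 B C (h⁻¹ v) = h⁻¹ v := by
      have := congrArg (fun z => h⁻¹ z) hv
      simpa [Perm.mul_apply] using this
    exact (h⁻¹).injective (tau0_fix _ _ hu' hv')
  have hτ : tau0 B C = h * tau0 B C * h⁻¹ :=
    pairing_unique hgood1 tau0_mul_self hsq hc0 hc1 tau0_fix hfix1
  have hch : Commute (tau0 B C) h := by
    show tau0 B C * h = h * tau0 B C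
    have : tau0 B C * h = (h * tau0 B C * h⁻¹) * h := by rw [← hτ]
    rw [this]; group
  obtain ⟨fh, qh, hhe⟩ := exists_mk_of_commute h hch
  -- the top parts
  have hq2' : qh⁻¹ * q1 * qh ∈ (S : Subgroup (Perm B)) := by
    obtain ⟨f'', hf''⟩ := mk_conj (C := C) f1 fh q1 qh
    have : (mk f'' (qh⁻¹ * q1 * qh) : Perm (Om 2 B C)) ∈ wr 2 C (S : Subgroup (Perm B)) := by
      rw [← hf'', ← hhe, ← hy1e, hy2e]
      exact mk_mem_wr.mpr hq2
    exact mk_mem_wr.mp this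
  have hgq1 : Good q1 := good_descent (C := C) (f := f1) (by rw [← hy1e]; exact hgood1)
  have hIH := hB _ hQ0 q1 hq1 hgq1 qh hq2'
  have hW := wr_conj_iff (C := C) (S : Subgroup (Perm B)) fh qh hIH
  rw [ha x, ha (g⁻¹ * x * g), hW (a⁻¹ * x * a), ← hhe]
  have : h⁻¹ * (a⁻¹ * x * a) * h = a⁻¹ * (g⁻¹ * x * g) * a := by rw [hh]; group
  rw [this]

theorem uq_of_equiv {α β : Type} [Finite α] [Finite β] (e : α ≃ β) (hβ : Uq β) : Uq α := by
  intro P hP y hyP hy g hg x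
  set φ : Perm α ≃* Perm β := e.permCongrHom with hφ
  have hinj : Function.Injective φ.toMonoidHom := φ.injective
  have hP' : IsSyl 2 (P.map φ.toMonoidHom) := by
    unfold IsSyl at hP ⊢
    rw [← Nat.card_congr (P.equivMapOfInjective φ.toMonoidHom hinj).toEquiv, hP,
      Nat.card_congr φ.toEquiv]
  have happ : ∀ (z : Perm α) (u : α), (φ z) (e u) = e (z u) := by
    intro z u
    show (e.permCongr z) (e u) = e (z u)
    rw [Equiv.permCongr_apply]; simp
  have hgood : Good (φ y) := hy.of_equiv e (happ y)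
  have h1 : φ y ∈ P.map φ.toMonoidHom := Subgroup.mem_map_of_mem _ hyP
  have h2 : (φ g)⁻¹ * φ y * φ g ∈ P.map φ.toMonoidHom := by
    have : (φ g)⁻¹ * φ y * φ g = φ.toMonoidHom (g⁻¹ * y * g) := by
      simp [map_mul, map_inv]
    rw [this]
    exact Subgroup.mem_map_of_mem _ hg
  have h3 := hβ _ hP' (φ y) h1 hgood (φ g) h2 (φ x)
  have e1 : φ x ∈ P.map φ.toMonoidHom ↔ x ∈ P := Subgroup.mem_map_iff_mem hinj
  have e2 : (φ g)⁻¹ * φ x * φ g ∈ P.map φ.toMonoidHom ↔ g⁻¹ * x * g ∈ P := by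
    have : (φ g)⁻¹ * φ x * φ g = φ.toMonoidHom (g⁻¹ * x * g) := by
      simp [map_mul, map_inv]
    rw [this]
    exact Subgroup.mem_map_iff_mem hinj
  rw [← e1, ← e2]
  exact h3

theorem uq_fin : ∀ n : ℕ, Uq (Fin n) := by
  intro n
  induction n using Nat.strong_induction_on with
  | _ n ih =>
    rcases Nat.eq_zero_or_pos n with rfl | hn
    · intro P hP y hyP hy g hg x
      have h1 : x = 1 := Subsingleton.elim _ _
      have h2 : g⁻¹ * x * g = 1 := Subsingleton.elim _ _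
      rw [h2, h1]
    · have hlt : n / 2 < n := Nat.div_lt_self hn (by norm_num)
      have : Subsingleton (Fin (n % 2)) := by
        rw [Fin.subsingleton_iff_le_one]
        have := Nat.mod_lt n (show 0 < 2 by norm_num)
        omega
      have hcard : Fintype.card (Fin n) = Fintype.card (Om 2 (Fin (n / 2)) (Fin (n % 2))) := by
        rw [Fintype.card_sum, Fintype.card_prod, ZMod.card, Fintype.card_fin, Fintype.card_fin,
          Fintype.card_fin]
        omega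
      exact uq_of_equiv (Fintype.equivOfCardEq hcard) (uq_step (ih _ hlt))

theorem sylow_unique_of_good (n : ℕ) (x : Perm (Fin n)) (hx : Good x)
    (P P' : Sylow 2 (Perm (Fin n))) (h : x ∈ P) (h' : x ∈ P') : P = P' := by
  obtain ⟨g, hg⟩ := (isSyl_sylow P').conj (isSyl_sylow P)
  have h1 : g⁻¹ * x * g ∈ (P : Subgroup (Perm (Fin n))) := (hg x).mp h'
  have h2 := uq_fin n _ (isSyl_sylow P) x h hx g h1
  apply Sylow.ext
  ext z
  rw [h2 z, ← hg z]

end Cfsg.Agent.Lib.Helper2.USyl
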