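import Mathlib
import Cfsg.Agent.Lib.Helper2.USyl1

set_option autoImplicit false

/-!
# From the cycle type to `Good`
-/

namespace Cfsg.Agent.Lib.Helper2.USyl

open Equiv Function

variable {α : Type} [Fintype α] [DecidableEq α]

theorem per_eq_card_support_cycleOf (x : Perm α) (u : α) (hu : x u ≠ u) :
    per x u = (x.cycleOf u).support.card := by
  have hmem : u ∈ (x.cycleOf u).support := by
    rw [Perm.mem_support_cycleOf_iff]
    exact ⟨Perm.SameCycle.refl _ _, Perm.mem_support.mpr hu⟩
  have h := fun n => Perm.IsCycleOn.pow_apply_eq (Perm.isCycleOn_support_cycleOf x u) hmem (n := n)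
  apply Nat.dvd_antisymm
  · rw [← per_dvd_iff, h]
  · rw [← h, per_dvd_iff]

theorem good_of_cycleType (x : Perm α) (h1 : Fintype.card α ≤ x.support.card + 2)
    (h2 : x.cycleType.Nodup) : Good x := by
  constructor
  · intro u v hu hper
    have hv : x v ≠ v := by
      intro h
      have := (per_eq_one_iff x v).mpr h
      rw [← hper, per_eq_one_iff] at this
      exact hu this
    have hcu : x.cycleOf u ∈ x.cycleFactorsFinset :=
      Perm.cycleOf_mem_cycleFactorsFinset_iff.mpr (Perm.mem_support.mpr hu)
    have hcv : x.cycleOf v ∈ x.cycleFactorsFinset :=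
      Perm.cycleOf_mem_cycleFactorsFinset_iff.mpr (Perm.mem_support.mpr hv)
    rw [Perm.cycleType_def] at h2
    have hcard : (Finset.card ∘ Perm.support) (x.cycleOf u) =
        (Finset.card ∘ Perm.support) (x.cycleOf v) := by
      simp only [Function.comp]
      rw [← per_eq_card_support_cycleOf x u hu, ← per_eq_card_support_cycleOf x v hv, hper]
    have heq : x.cycleOf u = x.cycleOf v :=
      Multiset.inj_on_of_nodup_map h2 _ hcu _ hcv hcard
    have hmem : v ∈ (x.cycleOf v).support := by
      rw [Perm.mem_support_cycleOf_iff]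
      exact ⟨Perm.SameCycle.refl _ _, Perm.mem_support.mpr hv⟩
    rw [← heq, Perm.mem_support_cycleOf_iff] at hmem
    exact hmem.1
  · intro a b c ha hb hc
    by_contra hne
    push Not at hne
    obtain ⟨hab, hac, hbc⟩ := hne
    have hdisj : Disjoint x.support {a, b, c} := by
      rw [Finset.disjoint_right]
      intro z hz
      simp only [Finset.mem_insert, Finset.mem_singleton] at hz
      rw [Perm.mem_support, not_not]
      rcases hz with rfl | rfl | rfl <;> assumption
    have h3 : ({a, b, c} : Finset α).card = 3 := Finset.card_eq_three.mpr ⟨a, b, c, hab, hac, hbc, rfl⟩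
    have h4 := Finset.card_le_univ (x.support ∪ {a, b, c})
    rw [Finset.card_union_of_disjoint hdisj, h3] at h4
    omega

end Cfsg.Agent.Lib.Helper2.USyl
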