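import Mathlib

set_option autoImplicit false

/-!
# A 2-element in a unique Sylow 2-subgroup has at most two fixed points and distinct cycle lengths
-/

namespace Cfsg.Agent.Lib.Helper2.USyl

open Equiv Function

variable {α : Type} [Fintype α] [DecidableEq α]

theorem conj_mem_closure {G : Type*} [Group G] (S : Set G) (g : G)
    (hS : ∀ s ∈ S, g * s * g⁻¹ ∈ S) : ∀ n ∈ Subgroup.closure S, g * n * g⁻¹ ∈ Subgroup.closure S := by
  intro n hn
  induction hn using Subgroup.closure_induction with
  | mem s hs => exact Subgroup.subset_closure (hS s hs)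
  | one => simp
  | mul a b _ _ iha ihb =>
    have : g * (a * b) * g⁻¹ = (g * a * g⁻¹) * (g * b * g⁻¹) := by group
    rw [this]; exact Subgroup.mul_mem _ iha ihb
  | inv a _ iha =>
    have : g * a⁻¹ * g⁻¹ = (g * a * g⁻¹)⁻¹ := by group
    rw [this]; exact Subgroup.inv_mem _ iha

/-- a set of pairwise commuting involutions generates a 2-group -/
theorem isPGroup_closure_of_comm_invol {G : Type*} [Group G] (S : Set G)
    (hinv : ∀ s ∈ S, s * s = 1) (hcomm : ∀ s ∈ S, ∀ t ∈ S, s * t = t * s) :
    IsPGroup 2 (Subgroup.closure S) := by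
  have hcent : ∀ g ∈ Subgroup.closure S, ∀ h ∈ Subgroup.closure S, g * h = h * g := by
    have h1 : ∀ s ∈ S, ∀ h ∈ Subgroup.closure S, s * h = h * s := by
      intro s hs h hh
      have : Subgroup.closure S ≤ Subgroup.centralizer {s} := by
        rw [Subgroup.closure_le]
        intro t ht
        rw [SetLike.mem_coe, Subgroup.mem_centralizer_singleton_iff]
        exact hcomm t ht s hs
      have := this hh
      rw [Subgroup.mem_centralizer_singleton_iff] at this
      exact this.symm
    intro g hg h hh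
    have : Subgroup.closure S ≤ Subgroup.centralizer {h} := by
      rw [Subgroup.closure_le]
      intro t ht
      rw [SetLike.mem_coe, Subgroup.mem_centralizer_singleton_iff]
      exact h1 t ht h hh
    have := this hg
    rw [Subgroup.mem_centralizer_singleton_iff] at this
    exact this
  have hsq : ∀ g ∈ Subgroup.closure S, g * g = 1 := by
    intro g hg
    induction hg using Subgroup.closure_induction with
    | mem s hs => exact hinv s hs
    | one => simp
    | mul a b ha hb iha ihb =>
      have hc := hcent a ha b hb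
      calc a * b * (a * b) = a * (b * a) * b := by group
        _ = a * (a * b) * b := by rw [hc]
        _ = (a * a) * (b * b) := by group
        _ = 1 := by rw [iha, ihb, one_mul]
    | inv a _ iha =>
      have : a⁻¹ * a⁻¹ = (a * a)⁻¹ := by group
      rw [this, iha, inv_one]
  intro g
  refine ⟨1, ?_⟩
  apply Subtype.ext
  have := hsq g.1 g.2
  simp only [pow_one, Subgroup.coe_pow, Subgroup.coe_one]
  rw [pow_two]; exact this

theorem isPGroup_zpowers_of_pow {G : Type*} [Group G] (z : G) (k : ℕ) (hz : z ^ (2 ^ k) = 1) :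
    IsPGroup 2 (Subgroup.zpowers z) := by
  intro g
  refine ⟨k, ?_⟩
  obtain ⟨g, hg⟩ := g
  obtain ⟨i, rfl⟩ := Subgroup.mem_zpowers_iff.mp hg
  apply Subtype.ext
  simp only [Subgroup.coe_pow, Subgroup.coe_one]
  rw [← zpow_natCast, ← zpow_mul, mul_comm, zpow_mul, zpow_natCast, hz, one_zpow]

section unique

variable (x : Perm α) (P : Sylow 2 (Perm α)) (hxP : x ∈ P)
  (huniq : ∀ Q : Sylow 2 (Perm α), x ∈ Q → Q = P)

include hxP huniq

omit [Fintype α] [DecidableEq α] hxP in
theorem le_of_isPGroup (R : Subgroup (Perm α)) (hR : IsPGroup 2 R) (hx : x ∈ R) :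
    R ≤ (P : Subgroup (Perm α)) := by
  obtain ⟨Q, hQ⟩ := hR.exists_le_sylow
  have := huniq Q (hQ hx)
  rw [← this]; exact hQ

omit [DecidableEq α] in
theorem mem_of_commute (z : Perm α) (k : ℕ) (hz : z ^ (2 ^ k) = 1) (hc : Commute z x) :
    z ∈ (P : Subgroup (Perm α)) := by
  have hxp : IsPGroup 2 (Subgroup.zpowers x) := by
    have h1 : IsPGroup 2 (P : Subgroup (Perm α)) := P.isPGroup'
    exact h1.to_le (Subgroup.zpowers_le.mpr hxP)
  have hzp := isPGroup_zpowers_of_pow z k hz
  have hnorm : Subgroup.zpowers z ≤ Subgroup.normalizer (Subgroup.zpowers x : Set (Perm α)) := by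
    rw [Subgroup.zpowers_le, Subgroup.mem_normalizer_iff]
    intro h
    constructor
    · intro hh
      obtain ⟨i, rfl⟩ := Subgroup.mem_zpowers_iff.mp hh
      have hci : Commute z (x ^ i) := hc.zpow_right i
      have : z * x ^ i * z⁻¹ = x ^ i := by rw [hci.eq]; group
      rw [this]; exact hh
    · intro hh
      obtain ⟨i, hi⟩ := Subgroup.mem_zpowers_iff.mp hh
      have hci : Commute z (x ^ i) := hc.zpow_right i
      have : h = x ^ i := by
        have h1 : h = z⁻¹ * (z * h * z⁻¹) * z := by group
        rw [h1, ← hi, mul_assoc, ← hci.eq]; group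
      rw [this]; exact Subgroup.zpow_mem_zpowers x i
  have hsup : IsPGroup 2 (Subgroup.zpowers z ⊔ Subgroup.zpowers x : Subgroup (Perm α)) :=
    IsPGroup.to_sup_of_normal_right' hzp hxp hnorm
  have hle := le_of_isPGroup x P huniq _ hsup
    ((le_sup_right : Subgroup.zpowers x ≤ _) (Subgroup.mem_zpowers x))
  exact hle ((le_sup_left : Subgroup.zpowers z ≤ _) (Subgroup.mem_zpowers z))

omit hxP huniq in
theorem no_three_cycle (g : Perm α) (hg : g.IsThreeCycle) : g ∉ (P : Subgroup (Perm α)) := by
  intro hmem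
  have h1 : IsPGroup 2 (P : Subgroup (Perm α)) := P.isPGroup'
  obtain ⟨k, hk⟩ := (IsPGroup.iff_orderOf.mp h1) ⟨g, hmem⟩
  rw [Subgroup.orderOf_mk, hg.orderOf] at hk
  have : 2 ∣ 3 := by
    rcases k with _ | k
    · simp at hk
    · rw [hk, pow_succ]; exact Dvd.intro_left _ rfl
  omega

/-- at most two fixed points -/
theorem fixed_le_two (a b c : α) (ha : x a = a) (hb : x b = b) (hc : x c = c)
    (hab : a ≠ b) (hac : a ≠ c) (hbc : b ≠ c) : False := by
  have hcomm : ∀ u v : α, x u = u → x v = v → Commute (Equiv.swap u v) x := by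
    intro u v hu hv
    show Equiv.swap u v * x = x * Equiv.swap u v
    rw [Equiv.mul_swap_eq_swap_mul, hu, hv]
  have hsq : ∀ u v : α, (Equiv.swap u v) ^ (2 ^ 1) = 1 := by
    intro u v
    rw [pow_one, pow_two, Equiv.swap_mul_self]
  have h1 := mem_of_commute x P hxP huniq (Equiv.swap b a) 1 (hsq _ _) (hcomm _ _ hb ha)
  have h2 := mem_of_commute x P hxP huniq (Equiv.swap b c) 1 (hsq _ _) (hcomm _ _ hb hc)
  have h3 : (Equiv.swap b a * Equiv.swap b c).IsThreeCycle :=
    Perm.isThreeCycle_swap_mul_swap_same hab.symm hbc hac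
  exact no_three_cycle P _ h3 (Subgroup.mul_mem _ h1 h2)

end unique

end Cfsg.Agent.Lib.Helper2.USyl
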