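import Mathlib
import Cfsg.Agent.Lib.Helper2.USyl7

set_option autoImplicit false

/-!
# Two cycles of the same length give two Sylow 2-subgroups
-/

namespace Cfsg.Agent.Lib.Helper2.USyl

open Equiv Function

variable {α : Type} [Fintype α] [DecidableEq α]

theorem swap_comm_of_ne {a b a' b' : α} (h1 : a' ≠ a) (h2 : a' ≠ b) (h3 : b' ≠ a) (h4 : b' ≠ b) :
    Equiv.swap a b * Equiv.swap a' b' = Equiv.swap a' b' * Equiv.swap a b := by
  rw [Equiv.mul_swap_eq_swap_mul, Equiv.swap_apply_of_ne_of_ne h1 h2,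
    Equiv.swap_apply_of_ne_of_ne h3 h4]

/-- the orbit points -/
theorem zpow_mem_support_of_mem {x c : Perm α} (hc : c ∈ x.cycleFactorsFinset) {p : α}
    (hp : p ∈ c.support) (i : ℤ) : (x ^ i) p ∈ c.support := by
  have h1 : c = x.cycleOf p := Perm.cycle_is_cycleOf hp hc
  rw [h1, Perm.mem_support_cycleOf_iff]
  refine ⟨⟨i, rfl⟩, ?_⟩
  exact Perm.mem_cycleFactorsFinset_support_le hc hp

theorem zpow_apply_eq_iff {x c : Perm α} (hc : c ∈ x.cycleFactorsFinset) {p : α}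
    (hp : p ∈ c.support) (i j : ℤ) :
    (x ^ i) p = (x ^ j) p ↔ (c.support.card : ℤ) ∣ -j + i := by
  have h1 : c = x.cycleOf p := Perm.cycle_is_cycleOf hp hc
  have hcyc : x.IsCycleOn (c.support : Set α) := by
    rw [h1]; exact Perm.isCycleOn_support_cycleOf x p
  rw [← Perm.IsCycleOn.zpow_apply_eq hcyc hp, zpow_add, Perm.mul_apply]
  constructor
  · intro h
    rw [h, zpow_neg]
    exact Equiv.symm_apply_apply _ _
  · intro h
    have := congrArg (x ^ j) h
    rw [zpow_neg] at this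
    rw [← this]
    exact (Equiv.apply_symm_apply (x ^ j) _).symm

section unique

variable (x : Perm α) (P : Sylow 2 (Perm α)) (hxP : x ∈ P)
  (huniq : ∀ Q : Sylow 2 (Perm α), x ∈ Q → Q = P)

include hxP huniq

theorem cycles_distinct (c1 c2 : Perm α) (h1 : c1 ∈ x.cycleFactorsFinset)
    (h2 : c2 ∈ x.cycleFactorsFinset) (hne : c1 ≠ c2)
    (hcard : c1.support.card = c2.support.card) : False := by
  have hcyc1 : c1.IsCycle := (Perm.mem_cycleFactorsFinset_iff.mp h1).1
  have hcyc2 : c2.IsCycle := (Perm.mem_cycleFactorsFinset_iff.mp h2).1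
  obtain ⟨p0, hp0⟩ := hcyc1.nonempty_support
  obtain ⟨q0, hq0⟩ := hcyc2.nonempty_support
  have hdisj : Perm.Disjoint c1 c2 := Perm.cycleFactorsFinset_pairwise_disjoint x h1 h2 hne
  have hsd : Disjoint c1.support c2.support := Perm.Disjoint.disjoint_support hdisj
  have hne12 : ∀ u ∈ c1.support, ∀ v ∈ c2.support, u ≠ v := by
    intro u hu v hv huv
    rw [huv] at hu
    exact (Finset.disjoint_left.mp hsd hu) hv
  -- the 2-power order
  have hP2 : IsPGroup 2 (P : Subgroup (Perm α)) := P.isPGroup'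
  obtain ⟨k, hk⟩ := (IsPGroup.iff_orderOf.mp hP2) ⟨x, hxP⟩
  rw [Subgroup.orderOf_mk] at hk
  -- c1 ∈ P
  have hc1P : c1 ∈ (P : Subgroup (Perm α)) := by
    refine mem_of_commute x P hxP huniq c1 k ?_ (Perm.self_mem_cycle_factors_commute h1)
    have e1 : c1 = x.cycleOf p0 := Perm.cycle_is_cycleOf hp0 h1
    have hd : orderOf c1 ∣ 2 ^ k := by
      rw [← hk, e1]; exact Perm.orderOf_cycleOf_dvd_orderOf x p0
    exact orderOf_dvd_iff_pow_eq_one.mp hd
  -- the swaps
  set S : Set (Perm α) := Set.range (fun i : ℤ => Equiv.swap ((x ^ i) p0) ((x ^ i) q0)) with hS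
  have hSinv : ∀ s ∈ S, s * s = 1 := by
    rintro _ ⟨i, rfl⟩
    exact Equiv.swap_mul_self _ _
  have hScomm : ∀ s ∈ S, ∀ t ∈ S, s * t = t * s := by
    rintro _ ⟨i, rfl⟩ _ ⟨j, rfl⟩
    simp only
    have e1 := zpow_apply_eq_iff h1 hp0 i j
    have e2 := zpow_apply_eq_iff h2 hq0 i j
    rw [hcard] at e1
    by_cases hd : (c2.support.card : ℤ) ∣ -j + i
    · rw [e1.mpr hd, e2.mpr hd]
    · have n1 : (x ^ i) p0 ≠ (x ^ j) p0 := fun h => hd (e1.mp h)
      have n2 : (x ^ i) q0 ≠ (x ^ j) q0 := fun h => hd (e2.mp h)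
      have n3 : (x ^ i) p0 ≠ (x ^ j) q0 :=
        hne12 _ (zpow_mem_support_of_mem h1 hp0 i) _ (zpow_mem_support_of_mem h2 hq0 j)
      have n4 : (x ^ j) p0 ≠ (x ^ i) q0 :=
        hne12 _ (zpow_mem_support_of_mem h1 hp0 j) _ (zpow_mem_support_of_mem h2 hq0 i)
      exact swap_comm_of_ne n1.symm n4 n3.symm n2.symm
  have hE : IsPGroup 2 (Subgroup.closure S) := isPGroup_closure_of_comm_invol S hSinv hScomm
  have hconj : ∀ s ∈ S, x * s * x⁻¹ ∈ S := by
    rintro _ ⟨i, rfl⟩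
    refine ⟨i + 1, ?_⟩
    simp only
    rw [Equiv.mul_swap_eq_swap_mul, mul_inv_cancel_right, add_comm i 1, zpow_one_add]
    rfl
  have hconj' : ∀ s ∈ S, x⁻¹ * s * x⁻¹⁻¹ ∈ S := by
    rintro _ ⟨i, rfl⟩
    refine ⟨i - 1, ?_⟩
    simp only
    rw [Equiv.mul_swap_eq_swap_mul, mul_inv_cancel_right, sub_eq_neg_add, zpow_add, zpow_neg_one]
    rfl
  have hnorm : Subgroup.zpowers x ≤ Subgroup.normalizer (Subgroup.closure S : Set (Perm α)) := by
    rw [Subgroup.zpowers_le, Subgroup.mem_normalizer_iff]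
    intro n
    constructor
    · exact conj_mem_closure S x hconj n
    · intro hn
      have := conj_mem_closure S x⁻¹ hconj' _ hn
      have e : x⁻¹ * (x * n * x⁻¹) * x⁻¹⁻¹ = n := by group
      rw [e] at this
      exact this
  have hxp : IsPGroup 2 (Subgroup.zpowers x) := hP2.to_le (Subgroup.zpowers_le.mpr hxP)
  have hsup : IsPGroup 2 (Subgroup.zpowers x ⊔ Subgroup.closure S : Subgroup (Perm α)) :=
    IsPGroup.to_sup_of_normal_right' hxp hE hnorm
  have hle := le_of_isPGroup x P huniq _ hsup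
    ((le_sup_left : Subgroup.zpowers x ≤ _) (Subgroup.mem_zpowers x))
  have hsP : Equiv.swap p0 q0 ∈ (P : Subgroup (Perm α)) := by
    apply hle
    apply (le_sup_right : Subgroup.closure S ≤ _)
    apply Subgroup.subset_closure
    exact ⟨0, by simp⟩
  -- the conjugate of the swap by c1
  have hq0fix : c1 q0 = q0 := by
    by_contra h
    exact hne12 q0 (Perm.mem_support.mpr h) q0 hq0 rfl
  have hp1 : c1 p0 ≠ p0 := Perm.mem_support.mp hp0
  have hp1mem : c1 p0 ∈ c1.support := Perm.apply_mem_support.mpr hp0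
  have hwP : Equiv.swap (c1 p0) q0 ∈ (P : Subgroup (Perm α)) := by
    have : c1 * Equiv.swap p0 q0 * c1⁻¹ = Equiv.swap (c1 p0) q0 := by
      rw [Equiv.mul_swap_eq_swap_mul, mul_inv_cancel_right, hq0fix]
    rw [← this]
    exact Subgroup.mul_mem _ (Subgroup.mul_mem _ hc1P hsP) (Subgroup.inv_mem _ hc1P)
  have h3 : (Equiv.swap q0 p0 * Equiv.swap q0 (c1 p0)).IsThreeCycle :=
    Perm.isThreeCycle_swap_mul_swap_same (hne12 p0 hp0 q0 hq0).symm
      (hne12 _ hp1mem q0 hq0).symm hp1.symm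
  apply no_three_cycle P _ h3
  rw [Equiv.swap_comm q0 p0, Equiv.swap_comm q0 (c1 p0)]
  exact Subgroup.mul_mem _ hsP hwP

end unique

end Cfsg.Agent.Lib.Helper2.USyl
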