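import Mathlib
import Cfsg.Agent.Lib.Helper2.UT20
import Cfsg.Agent.S0779
import Cfsg.Prelude.Def_SporadicB

set_option autoImplicit false

namespace Cfsg.Agent.Lib.Helper2

namespace UT

open Module IsomDecomp HermDecomp Cfsg.Agent.Lib.Helper5.PSLCoset Matrix

universe u

theorem tv_congr {F : Type*} [Field F] {σ : F ≃+* F} {V : Type*} [AddCommGroup V] [Module F V]
    {H : V → V → F} (h : IsHerm σ H) {u u' : V} (he : u = u') (c : F) (hu : H u u = 0)
    (hu' : H u' u' = 0) : tv h u c hu = tv h u' c hu' := by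
  subst he; rfl

variable {F : Type u} [Field F] [Fintype F] {n : ℕ}

/-- the unitary transvections of `SU_n(2)`, `n ≥ 4`, form a class of 3-transpositions -/
theorem three_transposition (hF : Fintype.card F = 4) (hn : 4 ≤ n) :
    Cfsg.IsThreeTranspositionClass {g : ↥(Cfsg.SU n F 2) |
      (((g : Matrix.SpecialLinearGroup (Fin n) F) : Matrix (Fin n) (Fin n) F) - 1).rank = 1} := by
  classical
  obtain ⟨σ, d⟩ := exists_four hF n
  have hF' := d.hF
  have h32 : ¬ (n = 3 ∧ 2 = 2) := by omega
  have hdim : finrank F (Fin n → F) = n := Module.finrank_fin_fun F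
  have hrange := range_suLin hF' (by omega) h32 d.hσ d.hσq d.h
  refine ⟨⟨?_, ?_⟩, ?_, ?_⟩
  · intro g hg
    obtain ⟨w, hww, hw0, hgw⟩ := (d.rank_one_iff g).1 hg
    haveI : Fact (Nat.Prime 2) := ⟨Nat.prime_two⟩
    apply orderOf_eq_prime
    · apply suLin_injective
      rw [map_pow, hgw, pow_two, tv_sq_char_two d.h d.h2, map_one]
    · intro h1
      have h3 : suLin n F 2 g = 1 := by rw [h1, map_one]
      rw [hgw] at h3
      exact tv_ne_one d.h d.hnd w 1 hww hw0 one_ne_zero h3
  · intro g hg e he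
    obtain ⟨u, huu, hu0, hgu⟩ := (d.rank_one_iff g).1 hg
    obtain ⟨w, hww, hw0, hew⟩ := (d.rank_one_iff e).1 he
    by_cases huw : Cfsg.hermForm n F 2 u w = 0
    · left
      apply suLin_injective
      rw [map_pow, map_mul, hgu, hew, map_one, pow_two]
      have hc := tv_comm_perp d.h u w 1 1 huu hww huw
      have h1 := tv_sq_char_two d.h d.h2 u 1 huu
      have h3 := tv_sq_char_two d.h d.h2 w 1 hww
      calc tv d.h u 1 huu * tv d.h w 1 hww * (tv d.h u 1 huu * tv d.h w 1 hww)
          = tv d.h u 1 huu * (tv d.h w 1 hww * tv d.h u 1 huu) * tv d.h w 1 hww := by group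
        _ = tv d.h u 1 huu * (tv d.h u 1 huu * tv d.h w 1 hww) * tv d.h w 1 hww := by rw [hc]
        _ = (tv d.h u 1 huu * tv d.h u 1 huu) * (tv d.h w 1 hww * tv d.h w 1 hww) := by group
        _ = 1 := by rw [h1, h3, one_mul]
    · right
      apply suLin_injective
      rw [map_pow, map_mul, hgu, hew, map_one, pow_succ, pow_two]
      exact tv_mul_cube d.h d.h2 u w huu hww (d.norm_eq_one huw)
  · obtain ⟨u₀, v₀, hp⟩ := exists_hypPair d.hσ d.h d.hnd (by rw [hdim]; omega)
    have hu₀ : u₀ ≠ 0 := by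
      intro h0
      have := hp.uv
      rw [h0, d.h.zero_left] at this
      exact zero_ne_one this
    have hmem : tv d.h u₀ 1 hp.uu ∈ (suLin n F 2).range := by
      rw [hrange]
      exact tv_mem_T d.h _ _ _ d.sigma_one
    obtain ⟨d₀, hd₀⟩ := hmem
    refine ⟨d₀, (d.rank_one_iff d₀).2 ⟨u₀, hp.uu, hu₀, hd₀⟩, ?_⟩
    ext g
    show g ∈ _ ↔ IsConj d₀ g
    rw [isConj_iff]
    constructor
    · intro hg
      obtain ⟨w, hww, hw0, hgw⟩ := (d.rank_one_iff g).1 hg
      obtain ⟨t, ht, htu⟩ := exists_T_map_iso d.hσ d.h d.hnd (by rw [hdim]; omega) hp.uu hww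
        hu₀ hw0
      have htisom := T_le_isom d.h ht
      rw [← hrange] at ht
      obtain ⟨k, hk⟩ := ht
      refine ⟨k, ?_⟩
      apply suLin_injective
      rw [map_mul, map_mul, map_inv, hk, hd₀, conj_tv d.h htisom, hgw]
      exact tv_congr d.h htu 1 _ _
    · rintro ⟨k, rfl⟩
      apply (d.rank_one_iff _).2
      refine ⟨suLin n F 2 k u₀, by rw [suLin_mem_isom k u₀ u₀]; exact hp.uu,
        equiv_ne_zero _ hu₀, ?_⟩
      rw [map_mul, map_mul, map_inv, hd₀, conj_tv d.h (suLin_mem_isom k)]
  · rw [eq_top_iff, ← closure_transvections hF' (by omega) h32, Subgroup.closure_le]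
    rintro A ⟨v, c, hv, hA⟩
    have hone : ∀ B : ↥(Cfsg.SU n F 2),
        ((B : Matrix.SpecialLinearGroup (Fin n) F) : Matrix (Fin n) (Fin n) F) = 1 → B = 1 := by
      intro B hB
      apply Subtype.ext
      apply Subtype.ext
      exact hB
    by_cases hv0 : v = 0
    · have h1 : A = 1 := by
        apply hone
        rw [hA, hv0]
        unfold Cfsg.unitaryTransvection
        simp
      rw [h1]
      exact Subgroup.one_mem _
    by_cases hc0 : c = 0
    · have h1 : A = 1 := by
        apply hone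
        rw [hA, hc0]
        unfold Cfsg.unitaryTransvection
        simp
      rw [h1]
      exact Subgroup.one_mem _
    apply Subgroup.subset_closure
    have hpres : ∀ x y : Fin n → F, Cfsg.hermForm n F 2
        ((Cfsg.unitaryTransvection n 2 v c).mulVec x) ((Cfsg.unitaryTransvection n 2 v c).mulVec y) =
        Cfsg.hermForm n F 2 x y := by
      intro x y
      rw [← hA]
      exact A.2 x y
    have hc1 := (Cfsg.Agent.S0779.result hF' n v hv0 hv c).1 hpres
    have hc : c = 1 := by
      rcases hc1 with h | h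
      · exact absurd h hc0
      · have h3 : c = -1 := by simpa using h
        rw [h3]
        linear_combination -d.h2
    apply (d.rank_one_iff A).2
    refine ⟨v, hv, hv0, ?_⟩
    apply LinearEquiv.ext
    intro x
    rw [suLin_apply, hA, Herm.unitaryTransvection_mulVec, tv_apply, hc]

end UT

end Cfsg.Agent.Lib.Helper2
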