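import Mathlib
import Cfsg.Agent.Lib.Helper4.VLBasic
import Cfsg.Agent.Lib.Helper4.VLInduct
import Cfsg.Agent.Lib.Helper8.VLToolR

set_option autoImplicit false

/-! Vaughan-Lee's theorem: the subgroup `Φ = G' G^p`, the subgroups `K_u` and the two easy inductive
steps (maximal subgroups other than `M`, and the subgroup `⟨x₁⟩Φ`). -/

namespace Cfsg.Agent.Lib.Helper2.VLF

open Subgroup Cfsg.Agent.Lib.Helper4.VL
open scoped commutatorElement

universe u

/-- `Φ`: the smallest normal subgroup with elementary abelian quotient (`= G' G^p`). -/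
def phi (p : ℕ) (G : Type*) [Group G] : Subgroup G :=
  sInf {N : Subgroup G | N.Normal ∧ commutator G ≤ N ∧ ∀ g : G, g ^ p ∈ N}

variable {p : ℕ} {G : Type u} [Group G]

theorem phi_le {N : Subgroup G} (hN : N.Normal) (hc : commutator G ≤ N)
    (hp : ∀ g : G, g ^ p ∈ N) : phi p G ≤ N :=
  sInf_le ⟨hN, hc, hp⟩

theorem commutator_le_phi : commutator G ≤ phi p G :=
  le_sInf fun _ hN => hN.2.1

theorem pow_mem_phi (g : G) : g ^ p ∈ phi p G :=
  Subgroup.mem_sInf.mpr fun _ hN => hN.2.2 g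

/-- Every subgroup containing the derived subgroup is normal. -/
theorem normal_of_commutator_le {N : Subgroup G} (h : commutator G ≤ N) : N.Normal := by
  constructor
  intro n hn g
  have h1 : ⁅g, n⁆ ∈ N := h (commutator_mem_commutator (mem_top g) (mem_top n))
  have h2 : g * n * g⁻¹ = ⁅g, n⁆ * n := by
    rw [commutatorElement_def]; group
  rw [h2]
  exact N.mul_mem h1 hn

instance phi_normal : (phi p G).Normal := normal_of_commutator_le commutator_le_phi

theorem phi_le_of_index_eq [hp : Fact p.Prime] {N : Subgroup G} (hNn : N.Normal)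
    (hN : N.index = p) : phi p G ≤ N := by
  have := hNn
  refine phi_le hNn (Cfsg.Helper8.VLR.commutator_le_of_index_prime N hN) ?_
  intro g
  rw [← hN]
  exact Subgroup.pow_index_mem N g


/-! ### The subgroups `K_u` -/

/-- `K_u = {x | ⁅x, u⁆ ∈ ⁅Φ, G⁆}`. -/
def kap (Φ : Subgroup G) [Φ.Normal] (u : G) : Subgroup G :=
  Cfsg.Helper8.VLR.centMod ⁅Φ, (⊤ : Subgroup G)⁆ u

theorem mem_kap_iff (Φ : Subgroup G) [Φ.Normal] {u x : G} :
    x ∈ kap Φ u ↔ ⁅x, u⁆ ∈ ⁅Φ, (⊤ : Subgroup G)⁆ :=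
  Cfsg.Helper8.VLR.mem_centMod_iff _

theorem mem_kap_comm (Φ : Subgroup G) [Φ.Normal] {u x : G} :
    x ∈ kap Φ u ↔ u ∈ kap Φ x := by
  rw [mem_kap_iff, mem_kap_iff, ← commutatorElement_inv u x, inv_mem_iff]

theorem le_kap (Φ : Subgroup G) [Φ.Normal] (u : G) : Φ ≤ kap Φ u := by
  intro x hx
  rw [mem_kap_iff]
  exact commutator_mem_commutator hx (mem_top u)

theorem self_mem_kap (Φ : Subgroup G) [Φ.Normal] (u : G) : u ∈ kap Φ u := by
  rw [mem_kap_iff, commutatorElement_self]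
  exact one_mem _

theorem centralizer_le_kap (Φ : Subgroup G) [Φ.Normal] (u : G) :
    centralizer ({u} : Set G) ≤ kap Φ u :=
  Cfsg.Helper8.VLR.cent_le_centMod _ u

theorem sup_zpowers_le_kap (Φ : Subgroup G) [Φ.Normal] (u : G) : Φ ⊔ zpowers u ≤ kap Φ u :=
  sup_le (le_kap Φ u) ((zpowers_le).mpr (self_mem_kap Φ u))

end Cfsg.Agent.Lib.Helper2.VLF
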