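import Mathlib
import Cfsg.Agent.Lib.Helper2.VLPhi

set_option autoImplicit false

/-! Vaughan-Lee's theorem: the two places where the induction hypothesis is applied to a subgroup. -/

namespace Cfsg.Agent.Lib.Helper2.VLF

open Subgroup Cfsg.Agent.Lib.Helper4.VL
open scoped commutatorElement

universe u

variable {p : ℕ} {G : Type u} [Group G]

/-- `|⁅H, H⁆| = |(↥H)'|`. -/
theorem card_commutator_subgroup (H : Subgroup G) :
    Nat.card (⁅H, H⁆ : Subgroup G) = Nat.card (commutator H) := by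
  rw [← map_subtype_commutator]
  exact Nat.card_congr ((commutator H).equivMapOfInjective H.subtype H.subtype_injective).symm.toEquiv

/-- Two distinct subgroups of the same prime index generate the group. -/
theorem sup_eq_top_of_index_eq [hp : Fact p.Prime] {H M : Subgroup G} (hH : H.index = p)
    (hM : M.index = p) (hHM : H ≠ M) : H ⊔ M = ⊤ := by
  by_contra hne
  have h1 : H ≤ H ⊔ M := le_sup_left
  have h2 : (H ⊔ M).index ∣ H.index := index_dvd_of_le h1
  rw [hH] at h2
  rcases (Nat.dvd_prime hp.out).mp h2 with h3 | h3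
  · exact hne (index_eq_one.mp h3)
  · have e1 : H ⊔ M = H := by
      have := relIndex_mul_index h1
      rw [h3, hH] at this
      have h4 : H.relIndex (H ⊔ M) = 1 :=
        Nat.eq_of_mul_eq_mul_right hp.out.pos (by rw [this, one_mul])
      exact le_antisymm (relIndex_eq_one.mp h4) h1
    have h1' : M ≤ H ⊔ M := le_sup_right
    have e2 : H ⊔ M = M := by
      have := relIndex_mul_index h1'
      rw [h3, hM] at this
      have h4 : M.relIndex (H ⊔ M) = 1 :=
        Nat.eq_of_mul_eq_mul_right hp.out.pos (by rw [this, one_mul])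
      exact le_antisymm (relIndex_eq_one.mp h4) h1'
    exact hHM (e1.symm.trans e2)

/-- Step 2: a maximal subgroup `H ≠ M` is a smaller group satisfying the same hypothesis. -/
theorem card_commutator_subgroup_le [hp : Fact p.Prime] [Finite G] (hG : IsPGroup p G)
    (IH : ∀ (H : Type u) [Group H] [Finite H], IsPGroup p H → Nat.card H < Nat.card G →
      PStatement p H)
    (M : Subgroup G) (b : ℕ) (hM : Hyp p b M) (H : Subgroup G) (hH : H.index = p) (hHM : H ≠ M) :
    Nat.card (⁅H, H⁆ : Subgroup G) ≤ p ^ (b * (b + 1) / 2) := by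
  obtain ⟨hMn, hMi, hMb⟩ := hM
  have hHtop : H ≠ ⊤ := by
    intro h
    rw [h, index_top] at hH
    exact hp.out.one_lt.ne hH
  have hP := IH H (hG.to_subgroup H) (card_subgroup_lt H hHtop)
  rw [card_commutator_subgroup]
  refine hP (M.subgroupOf H) b ⟨inferInstance, ?_, ?_⟩
  · show M.relIndex H = p
    have := hMn
    rw [← relIndex_sup_right (H := H) (K := M), sup_eq_top_of_index_eq hH hMi hHM,
      relIndex_top_right, hMi]
  · intro u hu
    have hu' : (u : G) ∉ M := fun h => hu (mem_subgroupOf.mpr h)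
    exact (index_centralizer_subgroup_le H u).trans (hMb _ hu')


/-- Nothing lies strictly between two subgroups of relative index `p`. -/
theorem eq_or_eq_of_relIndex_prime [hp : Fact p.Prime] {A Q P : Subgroup G} (hAQ : A ≤ Q)
    (hQP : Q ≤ P) (h : A.relIndex P = p) : Q = A ∨ Q = P := by
  have h1 : A.relIndex Q * Q.relIndex P = p := by rw [relIndex_mul_relIndex _ _ _ hAQ hQP, h]
  rcases (Nat.dvd_prime hp.out).mp (Dvd.intro _ h1) with h2 | h2
  · left
    exact le_antisymm (relIndex_eq_one.mp h2) hAQ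
  · right
    rw [h2] at h1
    have h3 : Q.relIndex P = 1 := Nat.eq_of_mul_eq_mul_left hp.out.pos (by rw [h1, mul_one])
    exact le_antisymm hQP (relIndex_eq_one.mp h3)

/-- Step 5(b): if `x₁ ∉ M` is free-like (`|K_{x₁} : Φ| = p`) then `P := Φ⟨x₁⟩` is a smaller group
satisfying the hypothesis with `b - (d - 1)` in place of `b` (and `Φ` in place of `M`). -/
theorem card_commutator_P_le [hp : Fact p.Prime] [Finite G] (hG : IsPGroup p G)
    (IH : ∀ (H : Type u) [Group H] [Finite H], IsPGroup p H → Nat.card H < Nat.card G →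
      PStatement p H)
    (M : Subgroup G) (b : ℕ) (hM : Hyp p b M)
    (Φ : Subgroup G) [Φ.Normal] (hΦM : Φ ≤ M)
    (d : ℕ) (hd : Φ.index = p ^ d) (hd2 : 2 ≤ d)
    (x₁ : G) (hx₁ : x₁ ∉ M) (hfree : Φ.relIndex (kap Φ x₁) = p) :
    d - 1 ≤ b ∧
    Nat.card (⁅Φ ⊔ zpowers x₁, Φ ⊔ zpowers x₁⁆ : Subgroup G) ≤
      p ^ ((b - (d - 1)) * (b - (d - 1) + 1) / 2) ∧
    ⁅Φ ⊔ zpowers x₁, Φ ⊔ zpowers x₁⁆ ≤ ⁅Φ, (⊤ : Subgroup G)⁆ := by
  obtain ⟨hMn, hMi, hMb⟩ := hM
  set P := Φ ⊔ zpowers x₁ with hP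
  have hΦP : Φ ≤ P := le_sup_left
  have hx₁P : x₁ ∈ P := (le_sup_right : zpowers x₁ ≤ P) (mem_zpowers x₁)
  have hPk : P ≤ kap Φ x₁ := sup_zpowers_le_kap Φ x₁
  have hx₁Φ : x₁ ∉ Φ := fun h => hx₁ (hΦM h)
  have hkP : kap Φ x₁ = P := by
    rcases eq_or_eq_of_relIndex_prime hΦP hPk hfree with h | h
    · exact absurd (h ▸ hx₁P) hx₁Φ
    · exact h.symm
  have h3 : Φ.relIndex P = p := by rw [← hkP]; exact hfree
  have hPi : P.index * p = p ^ d := by rw [← hd, ← relIndex_mul_index hΦP, h3, mul_comm]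
  have hPi' : P.index = p ^ (d - 1) := by
    have : p ^ d = p ^ (d - 1) * p := by rw [← pow_succ]; congr 1; omega
    rw [this] at hPi
    exact Nat.eq_of_mul_eq_mul_right hp.out.pos hPi
  have hPM : P ⊓ M = Φ := by
    rcases eq_or_eq_of_relIndex_prime (le_inf hΦP hΦM) inf_le_left h3 with h | h
    · exact h
    · have h6 : x₁ ∈ P ⊓ M := by rw [h]; exact hx₁P
      exact absurd h6.2 hx₁
  -- the key fact: centralizers of elements of `P \ Φ` lie in `P`
  have key : ∀ v ∈ P, v ∉ Φ → v ∉ M ∧ centralizer ({v} : Set G) ≤ P := by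
    intro v hvP hvΦ
    refine ⟨fun hvM => hvΦ (hPM ▸ (⟨hvP, hvM⟩ : v ∈ P ⊓ M)), ?_⟩
    have hQ : Φ ⊔ zpowers v = P := by
      have hvQ : v ∈ Φ ⊔ zpowers v := (le_sup_right : zpowers v ≤ _) (mem_zpowers v)
      rcases eq_or_eq_of_relIndex_prime (le_sup_left : Φ ≤ Φ ⊔ zpowers v)
        (sup_le hΦP ((zpowers_le).mpr hvP)) h3 with h | h
      · exact absurd (h ▸ hvQ) hvΦ
      · exact h
    intro y hy
    have h1 : y ∈ kap Φ v := centralizer_le_kap Φ v hy
    have h2 : v ∈ kap Φ y := (mem_kap_comm Φ).mp h1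
    have h4 : P ≤ kap Φ y := by
      rw [← hQ]
      exact sup_le (le_kap Φ y) ((zpowers_le).mpr h2)
    have h5 : y ∈ kap Φ x₁ := (mem_kap_comm Φ).mp (h4 hx₁P)
    rwa [hkP] at h5
  -- centralizer indices in `P`
  have hidx : ∀ v : P, (v : G) ∉ Φ →
      (centralizer ({v} : Set P)).index * p ^ (d - 1) ≤ p ^ b := by
    intro v hv
    obtain ⟨hvM, hvC⟩ := key v v.2 hv
    rw [← hPi', index_centralizer_subgroup_mul P v hvC]
    exact hMb _ hvM
  have hdb : d - 1 ≤ b := by
    have h1 := hidx ⟨x₁, hx₁P⟩ hx₁Φ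
    have h2 : 0 < (centralizer ({(⟨x₁, hx₁P⟩ : P)} : Set P)).index :=
      Nat.pos_of_ne_zero index_ne_zero_of_finite
    have h4 : p ^ (d - 1) ≤ p ^ b := le_trans (Nat.le_mul_of_pos_left _ h2) h1
    exact (Nat.pow_le_pow_iff_right hp.out.one_lt).mp h4
  refine ⟨hdb, ?_, ?_⟩
  · have hPtop : P ≠ ⊤ := by
      intro h
      rw [h, index_top] at hPi'
      have : 1 < p ^ (d - 1) := Nat.one_lt_pow (by omega) hp.out.one_lt
      omega
    have hPS := IH P (hG.to_subgroup P) (card_subgroup_lt P hPtop)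
    rw [card_commutator_subgroup]
    refine hPS (Φ.subgroupOf P) (b - (d - 1)) ⟨inferInstance, h3, ?_⟩
    intro v hv
    have hv' : (v : G) ∉ Φ := fun h => hv (mem_subgroupOf.mpr h)
    have h1 := hidx v hv'
    have h2 : p ^ b = p ^ (b - (d - 1)) * p ^ (d - 1) := by
      rw [← pow_add]; congr 1; omega
    rw [h2] at h1
    exact Nat.le_of_mul_le_mul_right h1 (pow_pos hp.out.pos _)
  · rw [Subgroup.commutator_le]
    intro a ha c hc
    rw [← mem_kap_iff]
    have h1 : x₁ ∈ kap Φ c := (mem_kap_comm Φ).mp (hPk hc)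
    exact (sup_le (le_kap Φ c) ((zpowers_le).mpr h1) : P ≤ kap Φ c) ha

end Cfsg.Agent.Lib.Helper2.VLF
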