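import Mathlib
import Cfsg.Agent.Lib.Helper2.VLSub
import Cfsg.Agent.Lib.Helper9.VLChain
import Cfsg.Agent.Lib.Helper9.VLTools

set_option autoImplicit false

/-! Vaughan-Lee's theorem, Step 4B: from the dichotomy to the generators (chains and products). -/

namespace Cfsg.Agent.Lib.Helper2.VLF

open Subgroup Cfsg.Agent.Lib.Helper9.VL
open scoped commutatorElement

universe u

variable {p : ℕ} {G : Type u} [Group G]

/-- Step 4B, second half: given a free-like `x₁ ∉ M` and the dichotomy
(the elements of cost `≤ 1` generate `G` over `Φ`, or the free-like elements generate a subgroup of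
index dividing `p` over `Φ`), there are `d - 1` further generators outside `M` of total cost
`≤ d - 1`. -/
theorem extraction_of_dichotomy [hp : Fact p.Prime] [Finite G] (M Φ : Subgroup G) [M.Normal]
    [Φ.Normal] (hM : M.index = p) (hΦM : Φ ≤ M) (hcomm : commutator G ≤ Φ)
    (hpow : ∀ x : G, x ^ p ∈ Φ) (d : ℕ) (hd : Φ.index = p ^ d) (hd2 : 2 ≤ d)
    (K : G → Subgroup G) (x₁ : G) (hx₁M : x₁ ∉ M) (hx₁ : (K x₁).index * p = p ^ d)
    (hdich : Φ ⊔ closure {u | u ∉ M ∧ p ^ d ≤ (K u).index * p ^ 2} = ⊤ ∨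
      (Φ ⊔ closure {u | u ∉ M ∧ (K u).index * p = p ^ d}).index ∣ p) :
    ∃ S : Finset G, (∀ s ∈ S, s ∉ M) ∧ Φ ⊔ zpowers x₁ ⊔ closure (S : Set G) = ⊤ ∧
      S.card = d - 1 ∧ p ^ ((d - 1) * (d - 2)) ≤ ∏ s ∈ S, (K s).index := by
  classical
  have hp0 : 0 < p := hp.out.pos
  set D : Subgroup G := Φ ⊔ zpowers x₁ with hD
  have hΦD : Φ ≤ D := le_sup_left
  have hx₁D : x₁ ∈ D := (le_sup_right : zpowers x₁ ≤ D) (mem_zpowers x₁)
  have hcommD : commutator G ≤ D := hcomm.trans hΦD
  have hpowD : ∀ x : G, x ^ p ∈ D := fun x => hΦD (hpow x)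
  have hx₁Φ : x₁ ∉ Φ := fun h => hx₁M (hΦM h)
  have hΦDrel : Φ.relIndex D = p := relIndex_sup_zpowers_of_pow_mem Φ hcomm x₁ hx₁Φ (hpow x₁)
  have hDidx : D.index = p ^ (d - 1) := by
    have h1 := relIndex_mul_index hΦD
    rw [hΦDrel, hd] at h1
    have h2 : p ^ d = p * p ^ (d - 1) := by rw [← pow_succ']; congr 1; omega
    rw [h2] at h1
    exact Nat.eq_of_mul_eq_mul_left hp0 h1
  set F2 : Set G := {u | u ∉ M ∧ p ^ d ≤ (K u).index * p ^ 2} with hF2
  set F1 : Set G := {u | u ∉ M ∧ (K u).index * p = p ^ d} with hF1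
  have hF12 : F1 ⊆ F2 := by
    rintro u ⟨h1, h2⟩
    refine ⟨h1, ?_⟩
    rw [pow_two, ← mul_assoc, h2]
    exact Nat.le_mul_of_pos_right _ hp0
  -- Case A
  have caseA : Φ ⊔ closure F2 = ⊤ → ∃ S : Finset G, (∀ s ∈ S, s ∉ M) ∧
      D ⊔ closure (S : Set G) = ⊤ ∧ S.card = d - 1 ∧
      p ^ ((d - 1) * (d - 2)) ≤ ∏ s ∈ S, (K s).index := by
    intro hA
    have hT : D ⊔ closure F2 = ⊤ := by
      rw [eq_top_iff, ← hA]
      exact sup_le_sup_right hΦD _
    obtain ⟨S, hS1, hS2, -, hS4⟩ := exists_finset_generating_top D hcommD hpowD (d - 1) hDidx F2 hT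
    refine ⟨S, fun s hs => (hS2 hs).1, hS4, hS1, ?_⟩
    have hle : ∀ s ∈ S, p ^ (d - 2) ≤ (K s).index := by
      intro s hs
      have h1 := (hS2 hs).2
      have h2 : p ^ d = p ^ (d - 2) * p ^ 2 := by rw [← pow_add]; congr 1; omega
      rw [h2] at h1
      exact Nat.le_of_mul_le_mul_right h1 (pow_pos hp0 2)
    calc p ^ ((d - 1) * (d - 2)) = ∏ _s ∈ S, p ^ (d - 2) := by
          rw [Finset.prod_const, hS1, ← pow_mul, mul_comm]
      _ ≤ ∏ s ∈ S, (K s).index := Finset.prod_le_prod (fun _ _ => Nat.zero_le _) hle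
  rcases hdich with hA | hB
  · exact caseA hA
  · set S1 : Subgroup G := Φ ⊔ closure F1 with hS1def
    rcases (Nat.dvd_prime hp.out).mp hB with h1 | h1
    · -- `S1 = ⊤`: back to case A
      apply caseA
      rw [eq_top_iff, ← index_eq_one.mp h1]
      exact sup_le_sup_left (closure_mono hF12) _
    · -- `S1` of index `p`
      have hx₁F1 : x₁ ∈ F1 := ⟨hx₁M, hx₁⟩
      have hF1S1 : F1 ⊆ (S1 : Set G) := fun u hu =>
        (le_sup_right : closure F1 ≤ S1) (subset_closure hu)
      have hx₁S1 : x₁ ∈ S1 := hF1S1 hx₁F1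
      have hDS1 : D ≤ S1 := sup_le le_sup_left ((zpowers_le).mpr hx₁S1)
      have hk : D.relIndex S1 = p ^ (d - 2) := by
        have h2 := relIndex_mul_index hDS1
        rw [h1, hDidx] at h2
        have h3 : p ^ (d - 1) = p ^ (d - 2) * p := by rw [← pow_succ]; congr 1; omega
        rw [h3] at h2
        exact Nat.eq_of_mul_eq_mul_right hp0 h2
      have hT : D ⊔ closure F1 = S1 := by
        apply le_antisymm
        · exact sup_le hDS1 le_sup_right
        · exact sup_le (hΦD.trans le_sup_left) le_sup_right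
      obtain ⟨S', hS'1, hS'2, -, hS'4⟩ :=
        exists_finset_subset_generating D hcommD hpowD S1 hDS1 (d - 2) hk F1 hT
      -- an element outside `M ∪ S1`
      have hS1M : S1 ≠ M := fun h => hx₁M (h ▸ hx₁S1)
      obtain ⟨a, haM, haS1⟩ : ∃ a ∈ M, a ∉ S1 := by
        by_contra hcon
        push Not at hcon
        have h2 : M ≤ S1 := hcon
        have h3 := sup_eq_top_of_index_eq h1 hM hS1M
        rw [sup_eq_left.mpr h2] at h3
        rw [h3, index_top] at h1
        exact hp.out.one_lt.ne h1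
      set y : G := a * x₁ with hy
      have hyM : y ∉ M := by
        intro h
        apply hx₁M
        have : x₁ = a⁻¹ * y := by rw [hy]; group
        rw [this]
        exact M.mul_mem (M.inv_mem haM) h
      have hyS1 : y ∉ S1 := by
        intro h
        apply haS1
        have : a = y * x₁⁻¹ := by rw [hy]; group
        rw [this]
        exact S1.mul_mem h (S1.inv_mem hx₁S1)
      have hyS' : y ∉ S' := fun h => hyS1 (hF1S1 (hS'2 h))
      refine ⟨insert y S', ?_, ?_, ?_, ?_⟩
      · intro s hs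
        rcases Finset.mem_insert.mp hs with rfl | hs
        · exact hyM
        · exact (hS'2 hs).1
      · rw [coe_insert_closure, ← sup_assoc, sup_comm D, sup_assoc, hS'4, sup_comm]
        exact Cfsg.Agent.Lib.Helper9.VL.sup_zpowers_eq_top_of_index_prime S1 h1 y hyS1
      · rw [Finset.card_insert_of_notMem hyS', hS'1]
        omega
      · rw [Finset.prod_insert hyS']
        have hidx : ∀ s ∈ S', (K s).index = p ^ (d - 1) := by
          intro s hs
          have h2 := (hS'2 hs).2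
          have h3 : p ^ d = p ^ (d - 1) * p := by rw [← pow_succ]; congr 1; omega
          rw [h3] at h2
          exact Nat.eq_of_mul_eq_mul_right hp0 h2
        rw [Finset.prod_congr rfl hidx, Finset.prod_const, hS'1, ← pow_mul]
        exact Nat.le_mul_of_pos_left _ (Nat.pos_of_ne_zero index_ne_zero_of_finite)

end Cfsg.Agent.Lib.Helper2.VLF
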