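import Mathlib
import Cfsg.Agent.Lib.Helper2.VLSub
import Cfsg.Agent.Lib.Helper4.VLStep1
import Cfsg.Agent.Lib.Helper7.VLStep3b
import Cfsg.Agent.Lib.Helper3.VLDimW
import Cfsg.Agent.Lib.Helper6.VLStep4
import Cfsg.Agent.Lib.Helper8.VLExtract
import Cfsg.Agent.Lib.Helper8.VLStep5b

set_option autoImplicit false

/-! Vaughan-Lee's theorem: the inductive step (assembly of the pieces) and the theorem. -/

namespace Cfsg.Agent.Lib.Helper2.VLF

open Subgroup Cfsg.Agent.Lib.Helper4.VL
open scoped commutatorElement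

universe u

variable {p : ℕ} {G : Type u} [Group G]

/-- A group with a cyclic generator has trivial derived subgroup. -/
theorem commutator_eq_bot_of_zpowers_eq_top {x : G} (h : zpowers x = ⊤) : commutator G = ⊥ := by
  rw [commutator_def, Subgroup.commutator_eq_bot_iff_le_centralizer]
  intro a _
  rw [Subgroup.mem_centralizer_iff]
  intro c _
  have ha : a ∈ zpowers x := h ▸ mem_top a
  have hc : c ∈ zpowers x := h ▸ mem_top c
  obtain ⟨i, rfl⟩ := mem_zpowers_iff.mp ha
  obtain ⟨j, rfl⟩ := mem_zpowers_iff.mp hc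
  exact zpow_mul_comm x j i

/-- If `M` is the only subgroup of index `p` then the group is cyclic, hence abelian. -/
theorem commutator_eq_bot_of_unique_maximal [hp : Fact p.Prime] [Finite G] (hG : IsPGroup p G)
    (M : Subgroup G) (hMi : M.index = p)
    (h : ¬ ∃ H : Subgroup G, H.index = p ∧ H ≠ M) : commutator G = ⊥ := by
  have hMtop : M ≠ ⊤ := by
    intro h1
    rw [h1, index_top] at hMi
    exact hp.out.one_lt.ne hMi
  obtain ⟨x, hx⟩ : ∃ x : G, x ∉ M := by
    by_contra h1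
    exact hMtop (eq_top_iff.mpr fun x _ => by_contra fun hx => h1 ⟨x, hx⟩)
  by_cases hz : zpowers x = ⊤
  · exact commutator_eq_bot_of_zpowers_eq_top hz
  · exfalso
    obtain ⟨N, hxN, -, hNi⟩ := exists_normal_index_p_of_ne_top hG hz
    refine h ⟨N, hNi, fun hNM => hx ?_⟩
    rw [← hNM]
    exact hxN (mem_zpowers x)

/-- Two distinct subgroups of index `p` above `Φ` force `|G : Φ| ≥ p²`. -/
theorem two_le_of_index [hp : Fact p.Prime] [Finite G] {Φ M H : Subgroup G} (hΦM : Φ ≤ M)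
    (hΦH : Φ ≤ H) (hMi : M.index = p) (hHi : H.index = p) (hHM : H ≠ M) {d : ℕ}
    (hd : Φ.index = p ^ d) : 2 ≤ d := by
  by_contra hlt
  have h1 : Φ.relIndex M * p = p ^ d := by rw [← hd, ← hMi]; exact relIndex_mul_index hΦM
  have hd1 : d = 0 ∨ d = 1 := by omega
  rcases hd1 with rfl | rfl
  · rw [pow_zero] at h1
    have : p ∣ 1 := Dvd.intro_left _ h1
    exact hp.out.one_lt.ne' (Nat.dvd_one.mp this)
  · rw [pow_one] at h1
    have h2 : Φ.relIndex M = 1 := Nat.eq_of_mul_eq_mul_right hp.out.pos (by rw [h1, one_mul])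
    have h3 : M ≤ H := (relIndex_eq_one.mp h2).trans hΦH
    have h4 := sup_eq_top_of_index_eq hHi hMi hHM
    rw [sup_eq_left.mpr h3] at h4
    rw [h4, index_top] at hHi
    exact hp.out.one_lt.ne hHi

open Classical in
/-- The inductive step of Vaughan-Lee's theorem. -/
theorem step [hp : Fact p.Prime] (G : Type u) [Group G] [Finite G] (hG : IsPGroup p G)
    (IH : ∀ (H : Type u) [Group H] [Finite H], IsPGroup p H → Nat.card H < Nat.card G →
      PStatement p H) : PStatement p G := by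
  intro M b hM
  obtain ⟨hMn, hMi, hMb⟩ := id hM
  have := hMn
  -- Case 1: `G' ≠ M'` (Theorem T)
  by_cases hT : ⁅M, M⁆ = commutator G
  swap
  · exact card_commutator_le_of_commutator_ne hG IH M b hM hT
  -- Case 2: some maximal `H ≠ M` has `H' = G'`
  by_cases h2 : ∃ H : Subgroup G, H.index = p ∧ H ≠ M ∧ commutator G ≤ ⁅H, H⁆
  · obtain ⟨H, hH, hHM, hle⟩ := h2
    exact (Subgroup.card_le_of_le hle).trans (card_commutator_subgroup_le hG IH M b hM H hH hHM)
  push Not at h2
  -- Case 3: `M` is the only maximal subgroup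
  by_cases h3 : ∃ H : Subgroup G, H.index = p ∧ H ≠ M
  swap
  · rw [commutator_eq_bot_of_unique_maximal hG M hMi h3, card_bot]
    exact Nat.one_le_pow _ _ hp.out.pos
  obtain ⟨H₀, hH₀, hH₀M⟩ := h3
  -- the main case
  have hcomm : commutator G ≤ phi p G := commutator_le_phi
  have hpow : ∀ g : G, g ^ p ∈ phi p G := pow_mem_phi
  have hΦM : phi p G ≤ M := phi_le_of_index_eq hMn hMi
  have hΦH₀ : phi p G ≤ H₀ := phi_le_of_index_eq (normal_of_index_eq_p hG hH₀) hH₀
  obtain ⟨d, hd⟩ : ∃ d, (phi p G).index = p ^ d := hG.index _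
  have hd2 : 2 ≤ d := two_le_of_index hΦM hΦH₀ hMi hH₀ hH₀M hd
  have hTle : commutator G ≤ ⁅M, M⁆ ⊔ ⁅phi p G, (⊤ : Subgroup G)⁆ := hT ▸ le_sup_left
  have hk : ∀ H : Subgroup G, phi p G ≤ H → H.index = p → H ≠ M →
      ∃ T : Subgroup G, phi p G ≤ T ∧ T ≤ H ∧ T.relIndex H = p ∧ T ≠ H ⊓ M ∧
        ∀ u ∈ H, u ∉ T → kap (phi p G) u ≤ H := fun H _ hH hHM =>
    Cfsg.Agent.Lib.Helper7.VLS3b.step3_hk hG (phi p G) hcomm hpow
      (fun N hN hc hpN => phi_le hN hc hpN) M hMi hTle H hH hHM (h2 H hH hHM)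
  -- Step 4: the counting lemma and the extraction
  let _ : Fintype G := Fintype.ofFinite G
  have hineq := Cfsg.Agent.Lib.Helper6.VL4.counting_inequality_group (phi p G) hcomm hpow M hΦM hMi
    (kap (phi p G)) (le_kap _) hk d hd
  obtain ⟨x₁, S, hx₁, hS, hgen, hx₁free, hScard, hprod⟩ :=
    Cfsg.Helper8.VLX.extraction M (phi p G) hMi hΦM hcomm hpow d hd hd2
      (kap (phi p G)) (le_kap _) (self_mem_kap _) hineq
  have hfree : (phi p G).relIndex (kap (phi p G) x₁) = p := by
    have h1 := relIndex_mul_index (le_kap (phi p G) x₁)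
    rw [hd, ← hx₁free, mul_comm] at h1
    exact Nat.eq_of_mul_eq_mul_left (Nat.pos_of_ne_zero index_ne_zero_of_finite) h1
  -- Step 5: the Frattini count
  obtain ⟨hdb, hP, -⟩ := card_commutator_P_le hG IH M b hM (phi p G) hΦM d hd hd2 x₁ hx₁ hfree
  have hΓ := Cfsg.Helper8.VL5.card_commutator_top_le (phi p G) hcomm x₁ S id
    (by rw [Set.image_id]; exact hgen)
  obtain ⟨-, hR⟩ := Cfsg.Helper8.VL5.prod_relIndex_le hp.out.one_lt (phi p G) S (kap (phi p G))
    (fun s _ => sup_le (centralizer_le_kap _ s) (le_kap _ s)) b (d - 1)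
    (fun s hs => hMb s (hS s hs)) hScard hprod
  have hW := Cfsg.Agent.Lib.Helper3.VLW.card_commutator_le_card_gam_mul hG (phi p G) hcomm hpow M
    hMi hΦM hTle d hd
  exact Cfsg.Helper8.VL5.final_bound _ _ _ _ (d - 1) b hdb hW hΓ hP hR

/-- **Vaughan-Lee's theorem** (in the form of statement S3777). -/
theorem vaughanLee [Fact p.Prime] {G : Type u} [Group G] [Finite G] (hG : IsPGroup p G) (b : ℕ)
    (hb : ∀ x : G, (centralizer ({x} : Set G)).index ≤ p ^ b) :
    Nat.card (commutator G) ≤ p ^ (b * (b + 1) / 2) :=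
  card_commutator_le_of_step (fun G _ _ hG IH => step G hG IH) hG b hb

end Cfsg.Agent.Lib.Helper2.VLF
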