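import Mathlib
import Cfsg.Agent.Lib.Helper7.Wielandt5

set_option autoImplicit false

namespace Cfsg.Agent.Lib.Helper2

open Cfsg.Agent.Lib.Helper7

variable {G : Type*} [Group G]

/-- Relative form of Wielandt's lemma on families of subnormal subgroups: if `Σ` is a family of
subgroups subnormal in `L`, closed under conjugation by `L`, and `Σ₀ ⊂ Σ`, then some member of
`Σ \ Σ₀` normalizes the join of `Σ₀`. -/
theorem exists_normalizing_member_aux [Finite G] (n : ℕ) :
    ∀ (L : Subgroup G) (S S₀ : Set (Subgroup G)), Nat.card L = n →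
      (∀ U ∈ S, SubnIn U L) → (∀ U ∈ S, ∀ g ∈ L, cj g U ∈ S) → S₀ ⊂ S →
      ∃ X ∈ S, X ∉ S₀ ∧ X ≤ Subgroup.normalizer ((sSup S₀ : Subgroup G) : Set G) := by
  induction n using Nat.strong_induction_on with
  | _ n ih =>
    intro L S S₀ hn hS hconj h₀
    obtain ⟨X₀, hX₀S, hX₀⟩ := Set.exists_of_ssubset h₀
    set H := sSup S₀ with hH
    have hHL : SubnIn H L := SubnIn.sSup S₀ L (fun U hU => hS U (h₀.subset hU))
    by_cases hHeq : H = L
    · refine ⟨X₀, hX₀S, hX₀, ?_⟩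
      exact (hS X₀ hX₀S).le.trans (hHeq ▸ Subgroup.le_normalizer)
    · obtain ⟨N, hHN, hNL, hLN, -⟩ := hHL.exists_normal_lt hHeq
      set S₁ : Set (Subgroup G) := {U | U ∈ S ∧ U ≤ N} with hS₁
      have h01 : S₀ ⊆ S₁ := fun U hU => ⟨h₀.subset hU, (le_sSup hU).trans hHN⟩
      have hcjN : ∀ g ∈ L, cj g N = N := fun g hg => mem_normalizer_iff_cj.mp (hLN hg)
      have hS₁conj : ∀ U ∈ S₁, ∀ g ∈ L, cj g U ∈ S₁ := by
        intro U hU g hg
        refine ⟨hconj U hU.1 g hg, ?_⟩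
        rw [← hcjN g hg]
        exact cj_mono g hU.2
      by_cases h01eq : S₀ = S₁
      · -- then H is normalized by L
        refine ⟨X₀, hX₀S, hX₀, (hS X₀ hX₀S).le.trans ?_⟩
        intro g hg
        rw [mem_normalizer_iff_cj]
        apply cj_eq_of_le
        unfold cj
        rw [Subgroup.map_le_iff_le_comap, hH]
        apply sSup_le
        intro U hU
        rw [← Subgroup.map_le_iff_le_comap]
        apply le_sSup
        rw [h01eq]
        exact hS₁conj U (h01eq ▸ hU) g hg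
      · have hlt : Nat.card N < n := by
          rw [← hn]; exact card_lt_of_lt hNL
        have h01' : S₀ ⊂ S₁ := lt_of_le_of_ne h01 h01eq
        obtain ⟨X, hXS₁, hXS₀, hXN⟩ := ih _ hlt N S₁ S₀ rfl
          (fun U hU => (hS U hU.1).of_le hU.2 hNL.le)
          (fun U hU g hg => hS₁conj U hU g (hNL.le hg)) h01'
        exact ⟨X, hXS₁.1, hXS₀, hXN⟩

theorem exists_normalizing_member [Finite G] (L : Subgroup G) (S S₀ : Set (Subgroup G))
    (hS : ∀ U ∈ S, SubnIn U L) (hconj : ∀ U ∈ S, ∀ g ∈ L, cj g U ∈ S) (h₀ : S₀ ⊂ S) :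
    ∃ X ∈ S, X ∉ S₀ ∧ X ≤ Subgroup.normalizer ((sSup S₀ : Subgroup G) : Set G) :=
  exists_normalizing_member_aux _ L S S₀ rfl hS hconj h₀

end Cfsg.Agent.Lib.Helper2
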