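import Mathlib

set_option autoImplicit false

namespace Cfsg.Agent.Lib.Helper2.Witt

open Equiv

variable {α : Type*}

/-- two-transitivity on a subset -/
def TwoTrans (Γ : Subgroup (Perm α)) (Ω : Set α) : Prop :=
  ∀ x y x' y' : α, x ∈ Ω → y ∈ Ω → x' ∈ Ω → y' ∈ Ω → x ≠ y → x' ≠ y' →
    ∃ γ ∈ Γ, γ x = x' ∧ γ y = y'

/-- double coset decomposition from 2-transitivity -/
theorem mem_dc (Γ : Subgroup (Perm α)) (Ω : Set α) (hΩ : ∀ γ ∈ Γ, ∀ x ∈ Ω, γ x ∈ Ω)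
    (h2 : TwoTrans Γ Ω) {a b : α} (ha : a ∈ Ω) (hb : b ∈ Ω) (hab : a ≠ b) {g : Perm α}
    (hg : g ∈ Γ) (hga : g a = b) (γ : Perm α) (hγ : γ ∈ Γ) :
    γ a = a ∨ ∃ δ ∈ Γ, δ a = a ∧ ∃ ε ∈ Γ, ε a = a ∧ γ = δ * g * ε := by
  by_cases hγa : γ a = a
  · exact Or.inl hγa
  · right
    have hc : γ a ∈ Ω := hΩ γ hγ a ha
    obtain ⟨δ, hδ, hδa, hδb⟩ := h2 a b a (γ a) ha hb ha hc hab (fun h => hγa h.symm)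
    refine ⟨δ, hδ, hδa, (δ * g)⁻¹ * γ, ?_, ?_, by group⟩
    · exact Γ.mul_mem (Γ.inv_mem (Γ.mul_mem hδ hg)) hγ
    · rw [Perm.mul_apply, Perm.inv_eq_iff_eq, Perm.mul_apply, hga, hδb]

variable [Finite α]

/-- (K0): the inverse conjugation also preserves the stabilizer -/
theorem conj_inv_mem (Γ : Subgroup (Perm α)) {a inf : α} {h : Perm α}
    (hΓinf : ∀ γ ∈ Γ, γ inf = inf) (hh1 : h inf = a)
    (hnorm : ∀ γ ∈ Γ, γ a = a → h * γ * h⁻¹ ∈ Γ) :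
    ∀ ε ∈ Γ, ε a = a → h⁻¹ * ε * h ∈ Γ := by
  classical
  set Γa : Subgroup (Perm α) := Γ ⊓ MulAction.stabilizer (Perm α) a with hΓa
  have hle : Γa.map (MulAut.conj h).toMonoidHom ≤ Γa := by
    rintro _ ⟨γ, hγ, rfl⟩
    have hγ1 : γ ∈ Γ := (Subgroup.mem_inf.mp hγ).1
    have hγ2 : γ a = a := MulAction.mem_stabilizer_iff.mp (Subgroup.mem_inf.mp hγ).2
    refine Subgroup.mem_inf.mpr ⟨hnorm γ hγ1 hγ2, ?_⟩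
    rw [MulAction.mem_stabilizer_iff]
    show (h * γ * h⁻¹) a = a
    rw [Perm.mul_apply, Perm.mul_apply]
    have : h⁻¹ a = inf := by rw [Perm.inv_eq_iff_eq, hh1]
    rw [this, hΓinf γ hγ1, hh1]
  have heq : Γa.map (MulAut.conj h).toMonoidHom = Γa := by
    apply Subgroup.eq_of_le_of_card_ge hle
    rw [Subgroup.card_map_of_injective (MulAut.conj h).injective]
  intro ε hε hεa
  have : ε ∈ Γa.map (MulAut.conj h).toMonoidHom := by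
    rw [heq]
    exact Subgroup.mem_inf.mpr ⟨hε, MulAction.mem_stabilizer_iff.mpr hεa⟩
  obtain ⟨γ, hγ, rfl⟩ := this
  have e : h⁻¹ * ((MulAut.conj h).toMonoidHom γ) * h = γ := by
    show h⁻¹ * (h * γ * h⁻¹) * h = γ
    group
  rw [e]
  exact (Subgroup.mem_inf.mp hγ).1


/-- (K1): `h γ h` lies in `Γ ∪ Γ h Γ` -/
theorem hgh_mem (Γ : Subgroup (Perm α)) (Ω : Set α) (hΩ : ∀ γ ∈ Γ, ∀ x ∈ Ω, γ x ∈ Ω)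
    (h2 : TwoTrans Γ Ω) {a b inf : α} (ha : a ∈ Ω) (hb : b ∈ Ω) (hab : a ≠ b)
    (hΓinf : ∀ γ ∈ Γ, γ inf = inf) {g h : Perm α} (hg : g ∈ Γ) (hga : g a = b)
    (hh1 : h inf = a) (hhh : h ^ 2 ∈ Γ) (hgh : (g * h) ^ 3 ∈ Γ)
    (hnorm : ∀ γ ∈ Γ, γ a = a → h * γ * h⁻¹ ∈ Γ) (γ : Perm α) (hγ : γ ∈ Γ) :
    h * γ * h ∈ Γ ∨ ∃ γ₁ ∈ Γ, ∃ γ₂ ∈ Γ, h * γ * h = γ₁ * h * γ₂ := by
  have hK0 := conj_inv_mem Γ hΓinf hh1 hnorm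
  rcases mem_dc Γ Ω hΩ h2 ha hb hab hg hga γ hγ with hγa | ⟨δ, hδ, hδa, ε, hε, hεa, rfl⟩
  · left
    have e : h * γ * h = (h * γ * h⁻¹) * h ^ 2 := by
      rw [pow_two]
      group
    rw [e]
    exact Γ.mul_mem (hnorm γ hγ hγa) hhh
  · right
    refine ⟨(h * δ * h⁻¹) * (g⁻¹ * (g * h) ^ 3 * (h ^ 2)⁻¹), ?_, g⁻¹ * (h⁻¹ * ε * h), ?_, ?_⟩
    · exact Γ.mul_mem (hnorm δ hδ hδa)
        (Γ.mul_mem (Γ.mul_mem (Γ.inv_mem hg) hgh) (Γ.inv_mem hhh))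
    · exact Γ.mul_mem (Γ.inv_mem hg) (hK0 ε hε hεa)
    · rw [pow_succ, pow_two, pow_two]
      group

/-- the subgroup `Γ ∪ Γ h Γ` -/
def extGroup (Γ : Subgroup (Perm α)) (Ω : Set α) (hΩ : ∀ γ ∈ Γ, ∀ x ∈ Ω, γ x ∈ Ω)
    (h2 : TwoTrans Γ Ω) {a b inf : α} (ha : a ∈ Ω) (hb : b ∈ Ω) (hab : a ≠ b)
    (hΓinf : ∀ γ ∈ Γ, γ inf = inf) {g h : Perm α} (hg : g ∈ Γ) (hga : g a = b)
    (hh1 : h inf = a) (hhh : h ^ 2 ∈ Γ) (hgh : (g * h) ^ 3 ∈ Γ)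
    (hnorm : ∀ γ ∈ Γ, γ a = a → h * γ * h⁻¹ ∈ Γ) : Subgroup (Perm α) where
  carrier := {x | x ∈ Γ ∨ ∃ γ₁ ∈ Γ, ∃ γ₂ ∈ Γ, x = γ₁ * h * γ₂}
  one_mem' := Or.inl Γ.one_mem
  mul_mem' := by
    rintro x y (hx | ⟨γ₁, hγ₁, γ₂, hγ₂, rfl⟩) (hy | ⟨γ₃, hγ₃, γ₄, hγ₄, rfl⟩)
    · exact Or.inl (Γ.mul_mem hx hy)
    · right
      exact ⟨x * γ₃, Γ.mul_mem hx hγ₃, γ₄, hγ₄, by group⟩
    · right
      exact ⟨γ₁, hγ₁, γ₂ * y, Γ.mul_mem hγ₂ hy, by group⟩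
    · have hmid := hgh_mem Γ Ω hΩ h2 ha hb hab hΓinf hg hga hh1 hhh hgh hnorm (γ₂ * γ₃)
        (Γ.mul_mem hγ₂ hγ₃)
      have e : γ₁ * h * γ₂ * (γ₃ * h * γ₄) = γ₁ * (h * (γ₂ * γ₃) * h) * γ₄ := by group
      rcases hmid with hm | ⟨γ₅, hγ₅, γ₆, hγ₆, hm⟩
      · left
        show γ₁ * h * γ₂ * (γ₃ * h * γ₄) ∈ Γ
        rw [e]
        exact Γ.mul_mem (Γ.mul_mem hγ₁ hm) hγ₄
      · right
        refine ⟨γ₁ * γ₅, Γ.mul_mem hγ₁ hγ₅, γ₆ * γ₄, Γ.mul_mem hγ₆ hγ₄, ?_⟩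
        rw [e, hm]
        group
  inv_mem' := by
    rintro x (hx | ⟨γ₁, hγ₁, γ₂, hγ₂, rfl⟩)
    · exact Or.inl (Γ.inv_mem hx)
    · right
      refine ⟨γ₂⁻¹ * (h ^ 2)⁻¹, Γ.mul_mem (Γ.inv_mem hγ₂) (Γ.inv_mem hhh), γ₁⁻¹,
        Γ.inv_mem hγ₁, ?_⟩
      rw [pow_two]
      group

/-- **One point extension**: the stabilizer of the new point in `⟨Γ, h⟩` is `Γ`. -/
theorem ext_stab (Γ : Subgroup (Perm α)) (Ω : Set α) (hΩ : ∀ γ ∈ Γ, ∀ x ∈ Ω, γ x ∈ Ω)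
    (h2 : TwoTrans Γ Ω) {a b inf : α} (ha : a ∈ Ω) (hb : b ∈ Ω) (hab : a ≠ b)
    (hinf : inf ∉ Ω)
    (hΓinf : ∀ γ ∈ Γ, γ inf = inf) {g h : Perm α} (hg : g ∈ Γ) (hga : g a = b)
    (hh1 : h inf = a) (hhh : h ^ 2 ∈ Γ) (hgh : (g * h) ^ 3 ∈ Γ)
    (hnorm : ∀ γ ∈ Γ, γ a = a → h * γ * h⁻¹ ∈ Γ) (x : Perm α)
    (hx : x ∈ Subgroup.closure ((Γ : Set (Perm α)) ∪ {h})) (hxinf : x inf = inf) : x ∈ Γ := by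
  have hle : Subgroup.closure ((Γ : Set (Perm α)) ∪ {h}) ≤
      extGroup Γ Ω hΩ h2 ha hb hab hΓinf hg hga hh1 hhh hgh hnorm := by
    rw [Subgroup.closure_le]
    rintro y (hy | hy)
    · exact Or.inl hy
    · rw [Set.mem_singleton_iff] at hy
      subst hy
      right
      exact ⟨1, Γ.one_mem, 1, Γ.one_mem, by group⟩
  rcases hle hx with h1 | ⟨γ₁, hγ₁, γ₂, hγ₂, rfl⟩
  · exact h1
  · exfalso
    rw [Perm.mul_apply, Perm.mul_apply, hΓinf γ₂ hγ₂, hh1] at hxinf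
    exact hinf (hxinf ▸ hΩ γ₁ hγ₁ a ha)

end Cfsg.Agent.Lib.Helper2.Witt
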