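import Mathlib
import Cfsg.Agent.Lib.Helper2.WittExt1

set_option autoImplicit false

namespace Cfsg.Agent.Lib.Helper2.Witt

open Equiv

variable {α : Type*}

/-- `k`-transitivity on a subset -/
def KT (Γ : Subgroup (Perm α)) (Ω : Set α) (k : ℕ) : Prop :=
  ∀ x y : Fin k → α, Function.Injective x → Function.Injective y → (∀ i, x i ∈ Ω) →
    (∀ i, y i ∈ Ω) → ∃ γ ∈ Γ, ∀ i, γ (x i) = y i

theorem TwoTrans.trans {Γ : Subgroup (Perm α)} {Ω : Set α} (h : TwoTrans Γ Ω) {x y : α}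
    (hx : x ∈ Ω) (hy : y ∈ Ω) : ∃ γ ∈ Γ, γ x = y := by
  by_cases hxy : x = y
  · exact ⟨1, Γ.one_mem, by rw [hxy]; rfl⟩
  · obtain ⟨γ, hγ, h1, -⟩ := h x y y x hx hy hy hx hxy (fun e => hxy e.symm)
    exact ⟨γ, hγ, h1⟩

theorem KT_two_of_twoTrans {Γ : Subgroup (Perm α)} {Ω : Set α} (h : TwoTrans Γ Ω) :
    KT Γ Ω 2 := by
  intro x y hx hy hxΩ hyΩ
  have h01 : (0 : Fin 2) ≠ 1 := by decide
  obtain ⟨γ, hγ, h0, h1⟩ := h (x 0) (x 1) (y 0) (y 1) (hxΩ 0) (hxΩ 1) (hyΩ 0) (hyΩ 1)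
    (fun e => h01 (hx e)) (fun e => h01 (hy e))
  refine ⟨γ, hγ, ?_⟩
  intro i
  fin_cases i
  · exact h0
  · exact h1

/-- the inductive step for transitivity -/
theorem KT_succ (Γ' Γs : Subgroup (Perm α)) (Ω : Set α) (inf : α) (hle : Γ' ≤ Γs)
    (hfix : ∀ γ ∈ Γ', γ inf = inf)
    (hpres : ∀ γ ∈ Γs, ∀ x ∈ insert inf Ω, γ x ∈ insert inf Ω)
    (htr : ∀ x ∈ Ω, ∃ γ ∈ Γs, γ x = inf) (k : ℕ) (hk : KT Γ' Ω k) :
    KT Γs (insert inf Ω) (k + 1) := by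
  intro x y hx hy hxΩ hyΩ
  have hmove : ∀ z ∈ insert inf Ω, ∃ γ ∈ Γs, γ z = inf := by
    intro z hz
    rcases hz with rfl | hz
    · exact ⟨1, Γs.one_mem, rfl⟩
    · exact htr z hz
  obtain ⟨γ₁, hγ₁, h1⟩ := hmove (x 0) (hxΩ 0)
  obtain ⟨γ₂, hγ₂, h2⟩ := hmove (y 0) (hyΩ 0)
  set x' : Fin k → α := fun i => γ₁ (x i.succ) with hx'
  set y' : Fin k → α := fun i => γ₂ (y i.succ) with hy'
  have hx'inj : Function.Injective x' := by
    intro i j hij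
    have := hx (γ₁.injective hij)
    exact Fin.succ_injective _ this
  have hy'inj : Function.Injective y' := by
    intro i j hij
    have := hy (γ₂.injective hij)
    exact Fin.succ_injective _ this
  have hx'Ω : ∀ i, x' i ∈ Ω := by
    intro i
    rcases hpres γ₁ hγ₁ _ (hxΩ i.succ) with h | h
    · exfalso
      have : γ₁ (x i.succ) = γ₁ (x 0) := by rw [h1]; exact h
      have := hx (γ₁.injective this)
      exact Fin.succ_ne_zero i this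
    · exact h
  have hy'Ω : ∀ i, y' i ∈ Ω := by
    intro i
    rcases hpres γ₂ hγ₂ _ (hyΩ i.succ) with h | h
    · exfalso
      have : γ₂ (y i.succ) = γ₂ (y 0) := by rw [h2]; exact h
      have := hy (γ₂.injective this)
      exact Fin.succ_ne_zero i this
    · exact h
  obtain ⟨γ, hγ, hγxy⟩ := hk x' y' hx'inj hy'inj hx'Ω hy'Ω
  refine ⟨γ₂⁻¹ * γ * γ₁, Γs.mul_mem (Γs.mul_mem (Γs.inv_mem hγ₂) (hle hγ)) hγ₁, ?_⟩
  intro i
  refine Fin.cases ?_ ?_ i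
  · rw [Perm.mul_apply, Perm.mul_apply, h1, hfix γ hγ, Perm.inv_eq_iff_eq, h2]
  · intro j
    rw [Perm.mul_apply, Perm.mul_apply, Perm.inv_eq_iff_eq]
    exact hγxy j

theorem twoTrans_of_KT_two {Γ : Subgroup (Perm α)} {Ω : Set α} (h : KT Γ Ω 2) :
    TwoTrans Γ Ω := by
  intro x y x' y' hx hy hx' hy' hxy hxy'
  have hinj : ∀ u v : α, u ≠ v → Function.Injective (![u, v] : Fin 2 → α) := by
    intro u v huv i j hij
    fin_cases i <;> fin_cases j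
    · rfl
    · exact absurd hij huv
    · exact absurd hij.symm huv
    · rfl
  obtain ⟨γ, hγ, hh⟩ := h ![x, y] ![x', y'] (hinj x y hxy) (hinj x' y' hxy')
    (by intro i; fin_cases i; exacts [hx, hy]) (by intro i; fin_cases i; exacts [hx', hy'])
  exact ⟨γ, hγ, hh 0, hh 1⟩

/-- transitivity as `KT 1` -/
theorem KT_one_of_twoTrans {Γ : Subgroup (Perm α)} {Ω : Set α} (h : TwoTrans Γ Ω) :
    KT Γ Ω 1 := by
  intro x y _ _ hxΩ hyΩ
  obtain ⟨γ, hγ, h1⟩ := h.trans (hxΩ 0) (hyΩ 0)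
  refine ⟨γ, hγ, ?_⟩
  intro i
  have : i = 0 := Subsingleton.elim _ _
  rw [this]
  exact h1

end Cfsg.Agent.Lib.Helper2.Witt
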