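import Mathlib
import Cfsg.Agent.Lib.Helper2.WittExt2

set_option autoImplicit false

namespace Cfsg.Agent.Lib.Helper2.Witt

open Equiv

variable {α : Type*}

/-- the hypotheses of Witt's lemma -/
structure Hyp (t : ℕ) (q : ℕ → α) (G : Subgroup (Perm α)) (s : ℕ → Perm α)
    (H : Subgroup (Perm α)) : Prop where
  ht : 2 ≤ t
  hq : ∀ i j : ℕ, 1 ≤ i → i ≤ t → 1 ≤ j → j ≤ t → q i = q j → i = j
  hfix : ∀ g ∈ G, ∀ i : ℕ, 3 ≤ i → i ≤ t → g (q i) = q i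
  h2 : ∀ a b c d : α, (∀ i, 3 ≤ i → i ≤ t → a ≠ q i ∧ b ≠ q i ∧ c ≠ q i ∧ d ≠ q i) → a ≠ b →
    c ≠ d → ∃ g ∈ G, g a = c ∧ g b = d
  hs1 : s 1 ∈ G
  hs1q : s 1 (q 1) = q 2 ∧ s 1 (q 2) = q 1
  hsq : ∀ i : ℕ, 2 ≤ i → i + 1 ≤ t → s i (q i) = q (i + 1) ∧ s i (q (i + 1)) = q i ∧
    ∀ j : ℕ, 1 ≤ j → j ≤ t → j ≠ i → j ≠ i + 1 → s i (q j) = q j
  hH : H = G ⊓ MulAction.stabilizer (Perm α) (q 1) ⊓ MulAction.stabilizer (Perm α) (q 2)
  hsq2 : ∀ i : ℕ, 1 ≤ i → i + 1 ≤ t → s i ^ 2 ∈ H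
  hbraid : ∀ i : ℕ, 1 ≤ i → i + 2 ≤ t → (s i * s (i + 1)) ^ 3 ∈ H
  hcomm : ∀ i j : ℕ, 1 ≤ i → i + 2 ≤ j → j + 1 ≤ t → (s i * s j) ^ 2 ∈ H ∧ (s j * s i) ^ 2 ∈ H
  hnorm : ∀ i : ℕ, 2 ≤ i → i + 1 ≤ t → ∀ g ∈ G ⊓ MulAction.stabilizer (Perm α) (q 2),
    s i * g * (s i)⁻¹ ∈ G ⊓ MulAction.stabilizer (Perm α) (q 2)

/-- the intermediate groups -/
def GG (G : Subgroup (Perm α)) (s : ℕ → Perm α) (k : ℕ) : Subgroup (Perm α) :=
  Subgroup.closure ((G : Set (Perm α)) ∪ {x | ∃ i : ℕ, 2 ≤ i ∧ i + 1 ≤ k ∧ x = s i})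

/-- the intermediate point sets -/
def Om (t : ℕ) (q : ℕ → α) (k : ℕ) : Set α := {x | ∀ j : ℕ, k < j → j ≤ t → x ≠ q j}

section Lemmas

variable {t : ℕ} {q : ℕ → α} {G : Subgroup (Perm α)} {s : ℕ → Perm α} {H : Subgroup (Perm α)}

theorem G_le_GG (k : ℕ) : G ≤ GG G s k := by
  intro g hg
  exact Subgroup.subset_closure (Or.inl hg)

theorem s_mem_GG {i k : ℕ} (hi : 2 ≤ i) (hik : i + 1 ≤ k) : s i ∈ GG G s k :=
  Subgroup.subset_closure (Or.inr ⟨i, hi, hik, rfl⟩)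

theorem GG_mono {k l : ℕ} (hkl : k ≤ l) : GG G s k ≤ GG G s l := by
  unfold GG
  apply Subgroup.closure_mono
  rintro x (hx | ⟨i, hi, hik, rfl⟩)
  · exact Or.inl hx
  · exact Or.inr ⟨i, hi, by omega, rfl⟩

theorem GG_two : GG G s 2 = G := by
  unfold GG
  have : {x : Perm α | ∃ i : ℕ, 2 ≤ i ∧ i + 1 ≤ 2 ∧ x = s i} = ∅ := by
    ext x
    simp only [Set.mem_ofPred_eq, Set.mem_empty_iff_false, iff_false]
    rintro ⟨i, h1, h2, -⟩
    omega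
  rw [this, Set.union_empty, Subgroup.closure_eq]

theorem GG_succ {k : ℕ} (hk : 2 ≤ k) :
    GG G s (k + 1) = Subgroup.closure ((GG G s k : Set (Perm α)) ∪ {s k}) := by
  apply le_antisymm
  · unfold GG
    rw [Subgroup.closure_le]
    rintro x (hx | ⟨i, hi, hik, rfl⟩)
    · exact Subgroup.subset_closure (Or.inl (Subgroup.subset_closure (Or.inl hx)))
    · by_cases hik' : i = k
      · subst hik'
        exact Subgroup.subset_closure (Or.inr rfl)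
      · exact Subgroup.subset_closure (Or.inl (Subgroup.subset_closure
          (Or.inr ⟨i, hi, by omega, rfl⟩)))
  · rw [Subgroup.closure_le]
    rintro x (hx | hx)
    · exact GG_mono (Nat.le_succ k) hx
    · rw [Set.mem_singleton_iff] at hx
      subst hx
      exact s_mem_GG hk le_rfl

theorem H_le_G (hyp : Hyp t q G s H) : H ≤ G := by
  rw [hyp.hH]
  exact inf_le_left.trans inf_le_left

theorem H_fix1 (hyp : Hyp t q G s H) {x : Perm α} (hx : x ∈ H) : x (q 1) = q 1 := by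
  rw [hyp.hH] at hx
  exact MulAction.mem_stabilizer_iff.mp (Subgroup.mem_inf.mp (Subgroup.mem_inf.mp hx).1).2

theorem H_fix2 (hyp : Hyp t q G s H) {x : Perm α} (hx : x ∈ H) : x (q 2) = q 2 := by
  rw [hyp.hH] at hx
  exact MulAction.mem_stabilizer_iff.mp (Subgroup.mem_inf.mp hx).2

theorem mem_H (hyp : Hyp t q G s H) {x : Perm α} (hx : x ∈ G) (h1 : x (q 1) = q 1)
    (h2 : x (q 2) = q 2) : x ∈ H := by
  rw [hyp.hH]
  exact Subgroup.mem_inf.mpr ⟨Subgroup.mem_inf.mpr ⟨hx, MulAction.mem_stabilizer_iff.mpr h1⟩,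
    MulAction.mem_stabilizer_iff.mpr h2⟩

/-- L1 -/
theorem GG_fix (hyp : Hyp t q G s H) {k : ℕ} (hk2 : 2 ≤ k) (hkt : k ≤ t) {γ : Perm α}
    (hγ : γ ∈ GG G s k) {j : ℕ} (hkj : k < j) (hjt : j ≤ t) : γ (q j) = q j := by
  unfold GG at hγ
  induction hγ using Subgroup.closure_induction with
  | mem x hx =>
    rcases hx with hx | ⟨i, hi, hik, rfl⟩
    · exact hyp.hfix x hx j (by omega) hjt
    · exact (hyp.hsq i hi (by omega)).2.2 j (by omega) hjt (by omega) (by omega)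
  | one => rfl
  | mul x y _ _ hx hy => rw [Perm.mul_apply, hy, hx]
  | inv x _ hx => rw [Perm.inv_eq_iff_eq, hx]

/-- L2 -/
theorem GG_pres (hyp : Hyp t q G s H) {k : ℕ} (hk2 : 2 ≤ k) (hkt : k ≤ t) {γ : Perm α}
    (hγ : γ ∈ GG G s k) {x : α} (hx : x ∈ Om t q k) : γ x ∈ Om t q k := by
  intro j hkj hjt hcon
  apply hx j hkj hjt
  have := GG_fix hyp hk2 hkt hγ hkj hjt
  rw [← this] at hcon
  exact γ.injective hcon

theorem q_mem_Om (hyp : Hyp t q G s H) {k i : ℕ} (hi1 : 1 ≤ i) (hik : i ≤ k) (hkt : k ≤ t) :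
    q i ∈ Om t q k := by
  intro j hkj hjt hcon
  have := hyp.hq i j hi1 (by omega) (by omega) hjt hcon
  omega

theorem Om_succ (hyp : Hyp t q G s H) {k : ℕ} (hkt : k + 1 ≤ t) (hk1 : 1 ≤ k) :
    Om t q (k + 1) = insert (q (k + 1)) (Om t q k) := by
  ext x
  constructor
  · intro hx
    by_cases hxq : x = q (k + 1)
    · exact Or.inl hxq
    · right
      intro j hkj hjt
      by_cases hj : j = k + 1
      · rw [hj]
        exact hxq
      · exact hx j (by omega) hjt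
  · rintro (rfl | hx)
    · exact q_mem_Om hyp (by omega) le_rfl hkt
    · intro j hkj hjt
      exact hx j (by omega) hjt

theorem q_succ_notMem_Om (k : ℕ) (hkt : k + 1 ≤ t) : q (k + 1) ∉ Om t q k := by
  intro h
  exact h (k + 1) (by omega) hkt rfl

end Lemmas

end Cfsg.Agent.Lib.Helper2.Witt
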