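import Mathlib
import Cfsg.Agent.Lib.Helper2.WittExt3

set_option autoImplicit false

namespace Cfsg.Agent.Lib.Helper2.Witt

open Equiv

variable {α : Type*} {t : ℕ} {q : ℕ → α} {G : Subgroup (Perm α)} {s : ℕ → Perm α}
  {H : Subgroup (Perm α)}

theorem twoTrans_G (hyp : Hyp t q G s H) : TwoTrans G (Om t q 2) := by
  intro x y x' y' hx hy hx' hy' hxy hxy'
  apply hyp.h2 x y x' y' _ hxy hxy'
  intro i hi hit
  exact ⟨hx i (by omega) hit, hy i (by omega) hit, hx' i (by omega) hit, hy' i (by omega) hit⟩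

/-- conjugating `s j` by `s i` for far apart indices -/
theorem conj_s_eq (x y : Perm α) : y * x * y⁻¹ = x⁻¹ * (x * y) ^ 2 * (y ^ 2)⁻¹ := by
  rw [pow_two, pow_two]
  group

/-- L5: `s i` normalizes `G` for `i ≥ 3` -/
theorem conj_mem_G (hyp : Hyp t q G s H) {i : ℕ} (hi : 3 ≤ i) (hit : i + 1 ≤ t) (g : Perm α)
    (hg : g ∈ G) : s i * g * (s i)⁻¹ ∈ G := by
  have hstab : ∀ δ ∈ G, δ (q 2) = q 2 → s i * δ * (s i)⁻¹ ∈ G := by
    intro δ hδ hδ2
    have := hyp.hnorm i (by omega) hit δ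
      (Subgroup.mem_inf.mpr ⟨hδ, MulAction.mem_stabilizer_iff.mpr hδ2⟩)
    exact (Subgroup.mem_inf.mp this).1
  have hs1 : s i * s 1 * (s i)⁻¹ ∈ G := by
    rw [conj_s_eq]
    have h1 := (hyp.hcomm 1 i le_rfl (by omega) hit).1
    have h2 := hyp.hsq2 i (by omega) hit
    exact G.mul_mem (G.mul_mem (G.inv_mem hyp.hs1) (H_le_G hyp h1))
      (G.inv_mem (H_le_G hyp h2))
  have hpres : ∀ γ ∈ G, ∀ x ∈ Om t q 2, γ x ∈ Om t q 2 := by
    intro γ hγ x hx
    have hγ' : γ ∈ GG G s 2 := by rw [GG_two]; exact hγ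
    exact GG_pres hyp le_rfl hyp.ht hγ' hx
  have hq21 : q 2 ≠ q 1 := by
    intro h
    have := hyp.hq 2 1 (by omega) hyp.ht le_rfl (by have := hyp.ht; omega) h
    omega
  rcases mem_dc G (Om t q 2) hpres (twoTrans_G hyp)
    (q_mem_Om hyp (by omega) le_rfl hyp.ht) (q_mem_Om hyp le_rfl (by omega) hyp.ht) hq21
    hyp.hs1 hyp.hs1q.2 g hg with h | ⟨δ, hδ, hδ2, ε, hε, hε2, rfl⟩
  · exact hstab g hg h
  · have e : s i * (δ * s 1 * ε) * (s i)⁻¹ =
        (s i * δ * (s i)⁻¹) * (s i * s 1 * (s i)⁻¹) * (s i * ε * (s i)⁻¹) := by group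
    rw [e]
    exact G.mul_mem (G.mul_mem (hstab δ hδ hδ2) hs1) (hstab ε hε hε2)

/-- L6: `s (k+1)` normalizes `GG k` -/
theorem conj_mem_GG (hyp : Hyp t q G s H) {k : ℕ} (hk : 2 ≤ k) (hkt : k + 2 ≤ t) (γ : Perm α)
    (hγ : γ ∈ GG G s k) : s (k + 1) * γ * (s (k + 1))⁻¹ ∈ GG G s k := by
  unfold GG at hγ
  induction hγ using Subgroup.closure_induction with
  | mem x hx =>
    rcases hx with hx | ⟨j, hj, hjk, rfl⟩
    · exact G_le_GG k (conj_mem_G hyp (by omega) (by omega) x hx)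
    · rw [conj_s_eq]
      have h1 := (hyp.hcomm j (k + 1) (by omega) (by omega) (by omega)).1
      have h2 := hyp.hsq2 (k + 1) (by omega) (by omega)
      exact (GG G s k).mul_mem ((GG G s k).mul_mem ((GG G s k).inv_mem (s_mem_GG hj hjk))
        (G_le_GG k (H_le_G hyp h1))) ((GG G s k).inv_mem (G_le_GG k (H_le_G hyp h2)))
  | one =>
    have : s (k + 1) * 1 * (s (k + 1))⁻¹ = 1 := by group
    rw [this]
    exact (GG G s k).one_mem
  | mul x y _ _ hx hy =>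
    have : s (k + 1) * (x * y) * (s (k + 1))⁻¹ =
        (s (k + 1) * x * (s (k + 1))⁻¹) * (s (k + 1) * y * (s (k + 1))⁻¹) := by group
    rw [this]
    exact (GG G s k).mul_mem hx hy
  | inv x _ hx =>
    have : s (k + 1) * x⁻¹ * (s (k + 1))⁻¹ = (s (k + 1) * x * (s (k + 1))⁻¹)⁻¹ := by group
    rw [this]
    exact (GG G s k).inv_mem hx

end Cfsg.Agent.Lib.Helper2.Witt
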