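import Mathlib
import Cfsg.Agent.Lib.Helper2.WittExt4

set_option autoImplicit false

namespace Cfsg.Agent.Lib.Helper2.Witt

open Equiv

variable {α : Type*} [Finite α] {t : ℕ} {q : ℕ → α} {G : Subgroup (Perm α)} {s : ℕ → Perm α}
  {H : Subgroup (Perm α)}

/-- the induction predicate -/
def PP (t : ℕ) (q : ℕ → α) (G : Subgroup (Perm α)) (s : ℕ → Perm α) (H : Subgroup (Perm α))
    (k : ℕ) : Prop :=
  TwoTrans (GG G s k) (Om t q k) ∧ KT (GG G s k) (Om t q k) k ∧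
  (∀ x ∈ GG G s k, (∀ i, 1 ≤ i → i ≤ k → x (q i) = q i) → x ∈ H) ∧
  (∀ k', k = k' + 1 → 2 ≤ k' → ∀ x ∈ GG G s k, x (q k) = q k → x ∈ GG G s k')

omit [Finite α] in
theorem PP_two (hyp : Hyp t q G s H) : PP t q G s H 2 := by
  refine ⟨?_, ?_, ?_, ?_⟩
  · rw [GG_two]
    exact twoTrans_G hyp
  · rw [GG_two]
    exact KT_two_of_twoTrans (twoTrans_G hyp)
  · intro x hx hfix
    rw [GG_two] at hx
    exact mem_H hyp hx (hfix 1 le_rfl (by omega)) (hfix 2 (by omega) le_rfl)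
  · intro k' hk' h2
    omega

omit [Finite α] in
/-- the data `b = q k'`, `g = s k'` for the step -/
theorem step_aux (hyp : Hyp t q G s H) {k' : ℕ} (hk' : 1 ≤ k') (hkt : k' + 2 ≤ t) :
    s k' ∈ GG G s (k' + 1) ∧ s k' (q (k' + 1)) = q k' := by
  by_cases h1 : k' = 1
  · subst h1
    exact ⟨G_le_GG _ hyp.hs1, hyp.hs1q.2⟩
  · exact ⟨s_mem_GG (by omega) le_rfl, (hyp.hsq k' (by omega) (by omega)).2.1⟩

theorem PP_succ (hyp : Hyp t q G s H) {k : ℕ} (hk : 2 ≤ k) (hkt : k + 1 ≤ t)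
    (ih : PP t q G s H k) : PP t q G s H (k + 1) := by
  obtain ⟨ih1, ih2, ih3, ih4⟩ := ih
  obtain ⟨k', rfl⟩ : ∃ k', k = k' + 1 := ⟨k - 1, by omega⟩
  have hk'1 : 1 ≤ k' := by omega
  obtain ⟨hg, hga⟩ := step_aux hyp hk'1 (by omega : k' + 2 ≤ t)
  have hsk := hyp.hsq (k' + 1) hk hkt
  -- the normalization hypothesis
  have hnorm : ∀ γ ∈ GG G s (k' + 1), γ (q (k' + 1)) = q (k' + 1) →
      s (k' + 1) * γ * (s (k' + 1))⁻¹ ∈ GG G s (k' + 1) := by
    intro γ hγ hγq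
    by_cases h1 : k' = 1
    · subst h1
      rw [GG_two] at hγ ⊢
      have := hyp.hnorm 2 le_rfl hkt γ
        (Subgroup.mem_inf.mpr ⟨hγ, MulAction.mem_stabilizer_iff.mpr hγq⟩)
      exact (Subgroup.mem_inf.mp this).1
    · have hγ' := ih4 k' rfl (by omega) γ hγ hγq
      exact GG_mono (Nat.le_succ k') (conj_mem_GG hyp (by omega) (by omega) γ hγ')
  have hq_ne : q (k' + 1) ≠ q k' := by
    intro h
    have := hyp.hq (k' + 1) k' (by omega) (by omega) hk'1 (by omega) h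
    omega
  have hstab : ∀ x ∈ GG G s (k' + 1 + 1), x (q (k' + 1 + 1)) = q (k' + 1 + 1) →
      x ∈ GG G s (k' + 1) := by
    intro x hx hxq
    rw [GG_succ hk] at hx
    exact ext_stab (GG G s (k' + 1)) (Om t q (k' + 1))
      (fun γ hγ x hx => GG_pres hyp hk (by omega) hγ hx) ih1
      (q_mem_Om hyp (by omega) le_rfl (by omega)) (q_mem_Om hyp hk'1 (by omega) (by omega))
      hq_ne (q_succ_notMem_Om (k' + 1) hkt)
      (fun γ hγ => GG_fix hyp hk (by omega) hγ (by omega) hkt) hg hga hsk.2.1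
      (G_le_GG _ (H_le_G hyp (hyp.hsq2 (k' + 1) (by omega) hkt)))
      (G_le_GG _ (H_le_G hyp (hyp.hbraid k' hk'1 (by omega)))) hnorm x hx hxq
  have hpres : ∀ γ ∈ GG G s (k' + 1 + 1), ∀ x ∈ insert (q (k' + 1 + 1)) (Om t q (k' + 1)),
      γ x ∈ insert (q (k' + 1 + 1)) (Om t q (k' + 1)) := by
    intro γ hγ x hx
    rw [← Om_succ hyp hkt (by omega)] at hx ⊢
    exact GG_pres hyp (by omega) hkt hγ hx
  have htr : ∀ x ∈ Om t q (k' + 1), ∃ γ ∈ GG G s (k' + 1 + 1), γ x = q (k' + 1 + 1) := by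
    intro x hx
    obtain ⟨γ₁, hγ₁, h1⟩ := ih1.trans hx (q_mem_Om hyp (by omega) le_rfl (by omega))
    refine ⟨s (k' + 1) * γ₁, (GG G s _).mul_mem (s_mem_GG hk le_rfl)
      (GG_mono (Nat.le_succ _) hγ₁), ?_⟩
    rw [Perm.mul_apply, h1, hsk.1]
  have hfix' : ∀ γ ∈ GG G s (k' + 1), γ (q (k' + 1 + 1)) = q (k' + 1 + 1) :=
    fun γ hγ => GG_fix hyp hk (by omega) hγ (by omega) hkt
  refine ⟨?_, ?_, ?_, ?_⟩
  · rw [Om_succ hyp hkt (by omega)]
    apply twoTrans_of_KT_two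
    exact KT_succ (GG G s (k' + 1)) (GG G s (k' + 1 + 1)) (Om t q (k' + 1)) _
      (GG_mono (Nat.le_succ _)) hfix' hpres htr 1 (KT_one_of_twoTrans ih1)
  · rw [Om_succ hyp hkt (by omega)]
    exact KT_succ (GG G s (k' + 1)) (GG G s (k' + 1 + 1)) (Om t q (k' + 1)) _
      (GG_mono (Nat.le_succ _)) hfix' hpres htr (k' + 1) ih2
  · intro x hx hfix
    have hx' := hstab x hx (hfix _ (by omega) le_rfl)
    exact ih3 x hx' (fun i hi hik => hfix i hi (by omega))
  · intro k'' hk'' h2 x hx hxq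
    have : k'' = k' + 1 := by omega
    subst this
    exact hstab x hx hxq

theorem PP_all (hyp : Hyp t q G s H) : ∀ k, 2 ≤ k → k ≤ t → PP t q G s H k := by
  intro k
  induction k with
  | zero => intro h; omega
  | succ n ih =>
    intro h2 ht
    by_cases hn : n + 1 = 2
    · rw [hn]
      exact PP_two hyp
    · exact PP_succ hyp (by omega) ht (ih (by omega) (by omega))


/-- **Witt's lemma** -/
theorem main (hyp : Hyp t q G s H) :
    MulAction.IsMultiplyPretransitive ↥(GG G s t) α t ∧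
    GG G s t ⊓ fixingSubgroup (Perm α) {x | ∃ i : ℕ, 1 ≤ i ∧ i ≤ t ∧ x = q i} = H := by
  obtain ⟨-, h2, h3, -⟩ := PP_all hyp t hyp.ht le_rfl
  constructor
  · constructor
    intro x y
    obtain ⟨γ, hγ, hxy⟩ := h2 x y x.injective y.injective
      (fun i j hj hjt => by omega) (fun i j hj hjt => by omega)
    refine ⟨⟨γ, hγ⟩, ?_⟩
    ext i
    rw [Function.Embedding.smul_apply]
    exact hxy i
  · apply le_antisymm
    · intro x hx
      obtain ⟨hx1, hx2⟩ := Subgroup.mem_inf.mp hx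
      rw [mem_fixingSubgroup_iff] at hx2
      apply h3 x hx1
      intro i hi hit
      exact hx2 (q i) ⟨i, hi, hit, rfl⟩
    · intro x hx
      refine Subgroup.mem_inf.mpr ⟨G_le_GG t (H_le_G hyp hx), ?_⟩
      rw [mem_fixingSubgroup_iff]
      rintro _ ⟨i, hi, hit, rfl⟩
      show x (q i) = q i
      by_cases h1 : i = 1
      · subst h1
        exact H_fix1 hyp hx
      · by_cases h2 : i = 2
        · subst h2
          exact H_fix2 hyp hx
        · exact hyp.hfix x (H_le_G hyp hx) i (by omega) hit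

end Cfsg.Agent.Lib.Helper2.Witt
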