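import Mathlib
import Cfsg.Agent.Lib.Helper2.FZ6

set_option autoImplicit false
set_option linter.style.haveILetI false
set_option linter.unusedSectionVars false

/-!
# Zassenhaus groups: the kernel data from a regular normal subgroup of a point stabilizer
-/

namespace Cfsg.Agent.Lib.Helper2

namespace ZP

open MulAction Cfsg.Agent.Lib.Lead.Zass Cfsg.Agent.Lib.Helper2.FZ

section
variable {G Ω : Type*} [Group G] [MulAction G Ω] [Fintype Ω]

theorem kernel_of_reg [DecidableEq Ω] (x : Ω) (F : Subgroup G) (hFle : F ≤ stabilizer G x)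
    (hreg : ∀ y z : Ω, y ≠ x → z ≠ x → ∃! u : F, (u : G) • y = z) {b : Ω} (hbx : b ≠ x) :
    Nat.card F + 1 = Fintype.card Ω ∧ ∀ u ∈ F, u ≠ 1 → ∀ c : Ω, u • c = c → c = x := by
  constructor
  · have hcardΩ' : Nat.card {c : Ω // c ≠ x} + 1 = Fintype.card Ω := by
      rw [Nat.card_eq_fintype_card, Fintype.card_subtype_compl, Fintype.card_subtype_eq]
      have : 0 < Fintype.card Ω := Fintype.card_pos_iff.mpr ⟨x⟩
      omega
    rw [← hcardΩ']
    congr 1
    apply Nat.card_congr
    refine Equiv.ofBijective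
      (fun u => ⟨(u : G) • b, stab_ne x (mem_stabilizer_iff.mp (hFle u.2)) hbx⟩) ⟨?_, ?_⟩
    · intro u v huv
      have h1 : (u : G) • b = (v : G) • b := congrArg Subtype.val huv
      exact (hreg b ((v : G) • b) hbx
        (stab_ne x (mem_stabilizer_iff.mp (hFle v.2)) hbx)).unique h1 rfl
    · rintro ⟨c, hc⟩
      obtain ⟨u, hu, -⟩ := hreg b c hbx hc
      exact ⟨u, Subtype.ext hu⟩
  · intro u hu hu1 c hc
    by_contra hcx
    apply hu1
    have := (hreg c c hcx hcx).unique (y₁ := ⟨u, hu⟩) (y₂ := 1) hc (one_smul _ _)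
    exact congrArg Subtype.val this

end

end ZP

end Cfsg.Agent.Lib.Helper2
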