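import Mathlib

set_option autoImplicit false
set_option linter.style.haveILetI false

/-!
# Normal subgroups with cyclic Sylow subgroups in the groups `V₄`, `A₄`, `S₄`, `A₅`, `S₅`
-/

namespace Cfsg.Agent.Lib.Helper2.Zfp

/-- a finite group containing two distinct commuting involutions is not a Z-group -/
theorem not_isZGroup_of_klein {K : Type*} [Group K] [Finite K] {a b : K} (ha : a ≠ 1) (hb : b ≠ 1)
    (hab : a ≠ b) (ha2 : a * a = 1) (hb2 : b * b = 1) (hc : a * b = b * a) : ¬ IsZGroup K := by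
  intro hZ
  set P : Subgroup K := Subgroup.closure ({a, b} : Set K) with hP
  have hcomm : ∀ x ∈ ({a, b} : Set K), ∀ y ∈ ({a, b} : Set K), x * y = y * x := by
    intro x hx y hy
    simp only [Set.mem_insert_iff, Set.mem_singleton_iff] at hx hy
    rcases hx with rfl | rfl <;> rcases hy with rfl | rfl
    · rfl
    · exact hc
    · exact hc.symm
    · rfl
  have hPc : ∀ x ∈ P, ∀ y ∈ P, x * y = y * x := by
    letI := Subgroup.closureCommGroupOfComm hcomm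
    intro x hx y hy
    have := mul_comm (⟨x, hx⟩ : Subgroup.closure ({a, b} : Set K)) ⟨y, hy⟩
    exact congrArg Subtype.val this
  have hsq : ∀ x ∈ P, x * x = 1 := by
    intro x hx
    induction hx using Subgroup.closure_induction with
    | mem x hx =>
      simp only [Set.mem_insert_iff, Set.mem_singleton_iff] at hx
      rcases hx with rfl | rfl
      · exact ha2
      · exact hb2
    | one => simp
    | mul x y hx hy hx2 hy2 =>
      have h1 := hPc x hx y hy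
      calc x * y * (x * y) = x * (y * x) * y := by group
        _ = x * (x * y) * y := by rw [h1]
        _ = (x * x) * (y * y) := by group
        _ = 1 := by rw [hx2, hy2, one_mul]
    | inv x hx hx2 =>
      have : x⁻¹ = x := by
        rw [inv_eq_iff_mul_eq_one]; exact hx2
      rw [this]; exact hx2
  have haP : a ∈ P := Subgroup.subset_closure (by simp)
  have hbP : b ∈ P := Subgroup.subset_closure (by simp)
  have hexp : Monoid.exponent P ∣ 2 := by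
    apply Monoid.exponent_dvd_of_forall_pow_eq_one
    rintro ⟨x, hx⟩
    apply Subtype.ext
    simp only [Subgroup.coe_one, pow_two]
    exact hsq x hx
  have hcard : Monoid.exponent P = Nat.card P := IsZGroup.exponent_eq_card P
  have h3 : 2 < Nat.card P := by
    classical
    haveI := Fintype.ofFinite P
    rw [Nat.card_eq_fintype_card]
    have : ({⟨1, P.one_mem⟩, ⟨a, haP⟩, ⟨b, hbP⟩} : Finset P).card = 3 := by
      rw [Finset.card_insert_of_notMem, Finset.card_insert_of_notMem, Finset.card_singleton]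
      · simp only [Finset.mem_singleton, Subtype.mk.injEq]; exact hab
      · simp only [Finset.mem_insert, Finset.mem_singleton, Subtype.mk.injEq, not_or]
        exact ⟨fun h => ha h.symm, fun h => hb h.symm⟩
    have h4 := Finset.card_le_univ ({⟨1, P.one_mem⟩, ⟨a, haP⟩, ⟨b, hbP⟩} : Finset P)
    omega
  rw [hcard] at hexp
  have := Nat.le_of_dvd (by norm_num) hexp
  omega

theorem S4_klein : ∀ k : Equiv.Perm (Fin 4), k ≠ 1 → ∃ g₁ g₂ : Equiv.Perm (Fin 4),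
    k * (g₁ * k⁻¹ * g₁⁻¹) ≠ 1 ∧
    (k * (g₁ * k⁻¹ * g₁⁻¹)) * (k * (g₁ * k⁻¹ * g₁⁻¹)) = 1 ∧
    k * (g₁ * k⁻¹ * g₁⁻¹) ≠ g₂ * (k * (g₁ * k⁻¹ * g₁⁻¹)) * g₂⁻¹ ∧
    (k * (g₁ * k⁻¹ * g₁⁻¹)) * (g₂ * (k * (g₁ * k⁻¹ * g₁⁻¹)) * g₂⁻¹) =
      (g₂ * (k * (g₁ * k⁻¹ * g₁⁻¹)) * g₂⁻¹) * (k * (g₁ * k⁻¹ * g₁⁻¹)) := by
  decide +kernel

theorem A4_klein : ∀ k : alternatingGroup (Fin 4), k ≠ 1 → ∃ g₁ g₂ : alternatingGroup (Fin 4),
    k * (g₁ * k⁻¹ * g₁⁻¹) ≠ 1 ∧
    (k * (g₁ * k⁻¹ * g₁⁻¹)) * (k * (g₁ * k⁻¹ * g₁⁻¹)) = 1 ∧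
    k * (g₁ * k⁻¹ * g₁⁻¹) ≠ g₂ * (k * (g₁ * k⁻¹ * g₁⁻¹)) * g₂⁻¹ ∧
    (k * (g₁ * k⁻¹ * g₁⁻¹)) * (g₂ * (k * (g₁ * k⁻¹ * g₁⁻¹)) * g₂⁻¹) =
      (g₂ * (k * (g₁ * k⁻¹ * g₁⁻¹)) * g₂⁻¹) * (k * (g₁ * k⁻¹ * g₁⁻¹)) := by
  decide +kernel

/-- a normal subgroup containing a "commutator involution" with a distinct commuting conjugate
is not a Z-group -/
theorem not_isZGroup_of_witness {X : Type*} [Group X] [Finite X] (K : Subgroup X) [hK : K.Normal]
    {k g₁ g₂ : X} (hk : k ∈ K)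
    (h1 : k * (g₁ * k⁻¹ * g₁⁻¹) ≠ 1)
    (h2 : (k * (g₁ * k⁻¹ * g₁⁻¹)) * (k * (g₁ * k⁻¹ * g₁⁻¹)) = 1)
    (h3 : k * (g₁ * k⁻¹ * g₁⁻¹) ≠ g₂ * (k * (g₁ * k⁻¹ * g₁⁻¹)) * g₂⁻¹)
    (h4 : (k * (g₁ * k⁻¹ * g₁⁻¹)) * (g₂ * (k * (g₁ * k⁻¹ * g₁⁻¹)) * g₂⁻¹) =
      (g₂ * (k * (g₁ * k⁻¹ * g₁⁻¹)) * g₂⁻¹) * (k * (g₁ * k⁻¹ * g₁⁻¹))) : ¬ IsZGroup K := by
  set a := k * (g₁ * k⁻¹ * g₁⁻¹) with ha
  have haK : a ∈ K := K.mul_mem hk (hK.conj_mem _ (K.inv_mem hk) g₁)
  have hbK : g₂ * a * g₂⁻¹ ∈ K := hK.conj_mem _ haK g₂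
  apply not_isZGroup_of_klein (a := (⟨a, haK⟩ : K)) (b := ⟨g₂ * a * g₂⁻¹, hbK⟩)
  · intro e; exact h1 (congrArg Subtype.val e)
  · intro e
    have e' : g₂ * a * g₂⁻¹ = 1 := congrArg Subtype.val e
    apply h1
    calc a = g₂⁻¹ * (g₂ * a * g₂⁻¹) * g₂ := by group
      _ = 1 := by rw [e']; group
  · intro e; exact h3 (congrArg Subtype.val e)
  · exact Subtype.ext h2
  · apply Subtype.ext
    show g₂ * a * g₂⁻¹ * (g₂ * a * g₂⁻¹) = 1
    calc g₂ * a * g₂⁻¹ * (g₂ * a * g₂⁻¹) = g₂ * (a * a) * g₂⁻¹ := by group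
      _ = 1 := by rw [h2]; group
  · exact Subtype.ext h4

theorem eq_bot_of_isZGroup_S4 (K : Subgroup (Equiv.Perm (Fin 4))) [K.Normal] (hZ : IsZGroup K) :
    K = ⊥ := by
  by_contra hne
  obtain ⟨⟨k, hk⟩, hk0⟩ := Subgroup.ne_bot_iff_exists_ne_one.mp hne
  have hk1 : k ≠ 1 := fun e => hk0 (Subtype.ext e)
  obtain ⟨g₁, g₂, h1, h2, h3, h4⟩ := S4_klein k hk1
  exact not_isZGroup_of_witness K hk h1 h2 h3 h4 hZ

theorem eq_bot_of_isZGroup_A4 (K : Subgroup (alternatingGroup (Fin 4))) [K.Normal]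
    (hZ : IsZGroup K) : K = ⊥ := by
  by_contra hne
  obtain ⟨⟨k, hk⟩, hk0⟩ := Subgroup.ne_bot_iff_exists_ne_one.mp hne
  have hk1 : k ≠ 1 := fun e => hk0 (Subtype.ext e)
  obtain ⟨g₁, g₂, h1, h2, h3, h4⟩ := A4_klein k hk1
  exact not_isZGroup_of_witness K hk h1 h2 h3 h4 hZ

theorem A5_klein : ∃ a b : alternatingGroup (Fin 5), a ≠ 1 ∧ b ≠ 1 ∧ a ≠ b ∧ a * a = 1 ∧
    b * b = 1 ∧ a * b = b * a := by
  decide +kernel

theorem eq_bot_of_isZGroup_A5 (K : Subgroup (alternatingGroup (Fin 5))) [hK : K.Normal]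
    (hZ : IsZGroup K) : K = ⊥ := by
  rcases hK.eq_bot_or_eq_top with h | h
  · exact h
  · exfalso
    subst h
    obtain ⟨a, b, ha, hb, hab, ha2, hb2, hc⟩ := A5_klein
    have hZ' : IsZGroup (alternatingGroup (Fin 5)) :=
      IsZGroup.of_surjective (f := (Subgroup.topEquiv : (⊤ : Subgroup (alternatingGroup (Fin 5))) ≃* _).toMonoidHom)
        Subgroup.topEquiv.surjective
    exact not_isZGroup_of_klein ha hb hab ha2 hb2 hc hZ'

theorem S5_center : ∀ a : Equiv.Perm (Fin 5), (∀ b, a * b = b * a) → a = 1 := by decide +kernel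

theorem eq_bot_of_isZGroup_S5 (K : Subgroup (Equiv.Perm (Fin 5))) [hK : K.Normal]
    (hZ : IsZGroup K) : K = ⊥ := by
  set K₀ : Subgroup (alternatingGroup (Fin 5)) := K.subgroupOf (alternatingGroup (Fin 5)) with hK₀
  haveI : K₀.Normal := hK.subgroupOf _
  have hZ₀ : IsZGroup K₀ := by
    have : Function.Injective (Subgroup.subgroupOfEquivOfLe (inf_le_left : K ⊓ alternatingGroup (Fin 5) ≤ K)) := (Subgroup.subgroupOfEquivOfLe _).injective
    have e : K₀ ≃* (K ⊓ alternatingGroup (Fin 5) : Subgroup _) := by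
      rw [hK₀, ← Subgroup.inf_subgroupOf_right]
      exact Subgroup.subgroupOfEquivOfLe inf_le_right
    haveI : IsZGroup (K ⊓ alternatingGroup (Fin 5) : Subgroup _) :=
      IsZGroup.of_injective (f := Subgroup.inclusion (inf_le_left : K ⊓ alternatingGroup (Fin 5) ≤ K))
        (Subgroup.inclusion_injective _)
    exact IsZGroup.of_injective (f := e.toMonoidHom) e.injective
  have h0 : K₀ = ⊥ := eq_bot_of_isZGroup_A5 K₀ hZ₀
  have hinf : K ⊓ alternatingGroup (Fin 5) = ⊥ := by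
    rw [Subgroup.subgroupOf_eq_bot] at h0
    exact disjoint_iff.mp h0
  -- every element of `K` is central
  rw [Subgroup.eq_bot_iff_forall]
  intro k hk
  apply S5_center
  intro b
  have h1 : k * b * k⁻¹ * b⁻¹ ∈ K ⊓ alternatingGroup (Fin 5) := by
    refine Subgroup.mem_inf.mpr ⟨?_, ?_⟩
    · have := hK.conj_mem _ (K.inv_mem hk) b
      have h2 : k * b * k⁻¹ * b⁻¹ = k * (b * k⁻¹ * b⁻¹) := by group
      rw [h2]; exact K.mul_mem hk this
    · rw [Equiv.Perm.mem_alternatingGroup]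
      have h := map_commutatorElement Equiv.Perm.sign k b
      rw [commutatorElement_def] at h
      rw [h]
      exact commutatorElement_eq_one_iff_commute.mpr (Commute.all _ _)
  rw [hinf, Subgroup.mem_bot] at h1
  calc k * b = (k * b * k⁻¹ * b⁻¹) * (b * k) := by group
    _ = b * k := by rw [h1, one_mul]

theorem not_isZGroup_D2 : ¬ IsZGroup (DihedralGroup 2) := by
  apply not_isZGroup_of_klein (a := DihedralGroup.r 1) (b := DihedralGroup.sr 0) <;> decide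

end Cfsg.Agent.Lib.Helper2.Zfp
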