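import Mathlib
import Cfsg.Agent.Lib.Helper2.Zfc1

set_option autoImplicit false
set_option linter.style.haveILetI false

/-!
# Uniqueness of a normal Z-subgroup with quotient `1`, `V₄`, `A₄`, `S₄`, `A₅` or `S₅`
-/

namespace Cfsg.Agent.Lib.Helper2.Zfp

variable {G : Type*} [Group G] [Finite G]

/-- a quotient in which all normal Z-subgroups are trivial and whose order does not divide four -/
def IsR (N : Subgroup G) : Prop :=
  ∃ (X : Type) (_ : Group X) (_ : Finite X) (f : G →* X), Function.Surjective f ∧ f.ker = N ∧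
    (∀ K : Subgroup X, K.Normal → IsZGroup K → K = ⊥) ∧ ¬ (Nat.card X ∣ 4)

/-- a quotient isomorphic to the four-group -/
def IsV (N : Subgroup G) : Prop :=
  ∃ f : G →* DihedralGroup 2, Function.Surjective f ∧ f.ker = N

/-- the six types of quotients -/
def Six (N : Subgroup G) : Prop :=
  N = ⊤ ∨
    (∃ f : G →* DihedralGroup 2, Function.Surjective f ∧ f.ker = N) ∨
    (∃ f : G →* alternatingGroup (Fin 4), Function.Surjective f ∧ f.ker = N) ∨
    (∃ f : G →* Equiv.Perm (Fin 4), Function.Surjective f ∧ f.ker = N) ∨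
    (∃ f : G →* alternatingGroup (Fin 5), Function.Surjective f ∧ f.ker = N) ∨
    (∃ f : G →* Equiv.Perm (Fin 5), Function.Surjective f ∧ f.ker = N)

theorem card_A4' : Nat.card (alternatingGroup (Fin 4)) = 12 := by
  have h := two_mul_card_alternatingGroup (α := Fin 4)
  rw [Fintype.card_perm, Fintype.card_fin] at h
  rw [Nat.card_eq_fintype_card]
  have : (4 : ℕ).factorial = 24 := rfl
  omega

theorem card_A5' : Nat.card (alternatingGroup (Fin 5)) = 60 := by
  have h := two_mul_card_alternatingGroup (α := Fin 5)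
  rw [Fintype.card_perm, Fintype.card_fin] at h
  rw [Nat.card_eq_fintype_card]
  have : (5 : ℕ).factorial = 120 := rfl
  omega

theorem card_S4' : Nat.card (Equiv.Perm (Fin 4)) = 24 := by
  rw [Nat.card_eq_fintype_card, Fintype.card_perm, Fintype.card_fin]; rfl

theorem card_S5' : Nat.card (Equiv.Perm (Fin 5)) = 120 := by
  rw [Nat.card_eq_fintype_card, Fintype.card_perm, Fintype.card_fin]; rfl

theorem Six.cases {N : Subgroup G} (h : Six N) : N = ⊤ ∨ IsV N ∨ IsR N := by
  rcases h with h | h | ⟨f, hf, hk⟩ | ⟨f, hf, hk⟩ | ⟨f, hf, hk⟩ | ⟨f, hf, hk⟩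
  · exact Or.inl h
  · exact Or.inr (Or.inl h)
  · refine Or.inr (Or.inr ⟨_, inferInstance, inferInstance, f, hf, hk, ?_, ?_⟩)
    · intro K hK hZ
      exact eq_bot_of_isZGroup_A4 K hZ
    · rw [card_A4']; norm_num
  · refine Or.inr (Or.inr ⟨_, inferInstance, inferInstance, f, hf, hk, ?_, ?_⟩)
    · intro K hK hZ
      exact eq_bot_of_isZGroup_S4 K hZ
    · rw [card_S4']; norm_num
  · refine Or.inr (Or.inr ⟨_, inferInstance, inferInstance, f, hf, hk, ?_, ?_⟩)
    · intro K hK hZ
      exact eq_bot_of_isZGroup_A5 K hZ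
    · rw [card_A5']; norm_num
  · refine Or.inr (Or.inr ⟨_, inferInstance, inferInstance, f, hf, hk, ?_, ?_⟩)
    · intro K hK hZ
      exact eq_bot_of_isZGroup_S5 K hZ
    · rw [card_S5']; norm_num

theorem isZGroup_of_top {N : Subgroup G} (hZ : IsZGroup N) (h : N = ⊤) : IsZGroup G := by
  subst h
  exact IsZGroup.of_surjective (f := (Subgroup.topEquiv : (⊤ : Subgroup G) ≃* G).toMonoidHom)
    Subgroup.topEquiv.surjective

theorem eq_top_of_top {N N' : Subgroup G} (hZ : IsZGroup N) (h : N = ⊤)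
    (h' : N' = ⊤ ∨ IsV N' ∨ IsR N') : N' = ⊤ := by
  haveI : IsZGroup G := isZGroup_of_top hZ h
  rcases h' with h' | ⟨f, hf, -⟩ | ⟨X, iG, iF, f, hf, -, hr, hc⟩
  · exact h'
  · exfalso
    exact not_isZGroup_D2 (IsZGroup.of_surjective hf)
  · exfalso
    haveI : IsZGroup X := IsZGroup.of_surjective hf
    have h1 : (⊤ : Subgroup X) = ⊥ := hr ⊤ inferInstance inferInstance
    apply hc
    have : Nat.card X = 1 := by
      rw [← Subgroup.card_top, h1, Subgroup.card_bot]
    rw [this]; norm_num

theorem le_of_isR {N N' : Subgroup G} [hn' : N'.Normal] (hZ' : IsZGroup N') (h : IsR N) : N' ≤ N := by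
  obtain ⟨X, iG, iF, f, hf, hk, hr, -⟩ := h
  have h1 : (N'.map f).Normal := hn'.map f hf
  have h2 : IsZGroup (N'.map f) :=
    IsZGroup.of_surjective (f := f.subgroupMap N') (f.subgroupMap_surjective N')
  have h3 := hr _ h1 h2
  rw [Subgroup.map_eq_bot_iff, hk] at h3
  exact h3

theorem index_of_isV {N : Subgroup G} (h : IsV N) : N.index = 4 := by
  obtain ⟨f, hf, hk⟩ := h
  rw [← hk, Subgroup.index_ker, MonoidHom.range_eq_top.mpr hf, Subgroup.card_top,
    DihedralGroup.nat_card]

theorem index_of_isR {N : Subgroup G} (h : IsR N) : ¬ N.index ∣ 4 := by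
  obtain ⟨X, iG, iF, f, hf, hk, -, hc⟩ := h
  rw [← hk, Subgroup.index_ker, MonoidHom.range_eq_top.mpr hf, Subgroup.card_top]
  exact hc

theorem D2_sq : ∀ y : DihedralGroup 2 × DihedralGroup 2, y * y = 1 := by decide

theorem le_of_isV_isV (hP : ∃ (P : Sylow 2 G) (c t : G), ∀ x ∈ (P : Subgroup G),
      ∃ i : ℕ, x = c ^ i ∨ x = t * c ^ i)
    {N N' : Subgroup G} (h : IsV N) (h' : IsV N') : N ≤ N' := by
  haveI : Fact (Nat.Prime 2) := ⟨Nat.prime_two⟩
  have hidx := index_of_isV h
  obtain ⟨f, hf, hk⟩ := h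
  obtain ⟨f', hf', hk'⟩ := h'
  obtain ⟨P, c, t, hPct⟩ := hP
  set F : G →* DihedralGroup 2 × DihedralGroup 2 := f.prod f' with hF
  set K : Subgroup G := F.ker with hK
  have hKeq : K = N ⊓ N' := by rw [hK, hF, MonoidHom.ker_prod, hk, hk']
  -- `P ⊔ K = ⊤`
  have hKidx : K.index ∣ 16 := by
    rw [hK, Subgroup.index_ker]
    have h1 : Nat.card F.range ∣ Nat.card (DihedralGroup 2 × DihedralGroup 2) :=
      Subgroup.card_subgroup_dvd_card _
    rw [Nat.card_prod, DihedralGroup.nat_card] at h1
    exact h1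
  have hsup : (P : Subgroup G) ⊔ K = ⊤ := by
    rw [← Subgroup.index_eq_one]
    have h1 : ((P : Subgroup G) ⊔ K).index ∣ (P : Subgroup G).index :=
      Subgroup.index_dvd_of_le le_sup_left
    have h2 : ((P : Subgroup G) ⊔ K).index ∣ K.index := Subgroup.index_dvd_of_le le_sup_right
    have h3 : ((P : Subgroup G) ⊔ K).index ∣ 2 ^ 4 := h2.trans hKidx
    obtain ⟨j, -, hj⟩ := (Nat.dvd_prime_pow Nat.prime_two).mp h3
    rcases Nat.eq_zero_or_pos j with h0 | hpos
    · rw [hj, h0, pow_zero]
    · exfalso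
      have h4 : 2 ∣ ((P : Subgroup G) ⊔ K).index := by
        rw [hj]; exact dvd_pow_self 2 hpos.ne'
      exact P.not_dvd_index (h4.trans h1)
  -- the image of `F` is small
  have hsq : ∀ y : DihedralGroup 2 × DihedralGroup 2, ∀ i : ℕ, y ^ i = 1 ∨ y ^ i = y := by
    intro y i
    induction i with
    | zero => left; exact pow_zero y
    | succ i ih =>
      rcases ih with e | e
      · right; rw [pow_succ, e, one_mul]
      · left; rw [pow_succ, e]; exact D2_sq y
  classical
  have hsub : (F.range : Set (DihedralGroup 2 × DihedralGroup 2)) ⊆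
      (({1, F c, F t, F t * F c} : Finset (DihedralGroup 2 × DihedralGroup 2)) : Set _) := by
    rintro y ⟨g, rfl⟩
    have hg : g ∈ (P : Subgroup G) ⊔ K := by rw [hsup]; exact Subgroup.mem_top g
    obtain ⟨x, hx, k, hk0, rfl⟩ := Subgroup.mem_sup_of_normal_right.mp hg
    have hFk : F k = 1 := hk0
    have hFxk : F (x * k) = F x := by rw [map_mul, hFk, mul_one]
    simp only [Finset.coe_insert, Finset.coe_singleton, Set.mem_insert_iff,
      Set.mem_singleton_iff]
    show F (x * k) = 1 ∨ F (x * k) = F c ∨ F (x * k) = F t ∨ F (x * k) = F t * F c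
    rw [hFxk]
    obtain ⟨i, e | e⟩ := hPct x hx
    · rw [e, map_pow]
      rcases hsq (F c) i with e' | e'
      · left; exact e'
      · right; left; exact e'
    · rw [e, map_mul, map_pow]
      rcases hsq (F c) i with e' | e'
      · right; right; left; rw [e', mul_one]
      · right; right; right; rw [e']
  have hcard : Nat.card F.range ≤ 4 := by
    have h1 : Nat.card F.range = (F.range : Set (DihedralGroup 2 × DihedralGroup 2)).ncard := by
      rw [← _root_.Nat.card_coe_set_eq]; rfl
    rw [h1]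
    have h2 := Set.ncard_le_ncard hsub (Finset.finite_toSet _)
    rw [Set.ncard_coe_finset] at h2
    have h3 : ({1, F c, F t, F t * F c} : Finset (DihedralGroup 2 × DihedralGroup 2)).card ≤ 4 :=
      Finset.card_le_four
    omega
  have hKN : K ≤ N := by rw [hKeq]; exact inf_le_left
  have h5 := Subgroup.relIndex_mul_index hKN
  rw [hidx] at h5
  have h6 : K.index ≤ 4 := by rw [hK, Subgroup.index_ker]; exact hcard
  have h7 : K.relIndex N ≠ 0 := by
    intro h0
    rw [h0, zero_mul] at h5
    have := Subgroup.index_ne_zero_of_finite (H := K)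
    exact this h5.symm
  have h8 : K.relIndex N = 1 := by
    rcases Nat.lt_or_ge (K.relIndex N) 2 with h | h
    · omega
    · exfalso; nlinarith
  rw [Subgroup.relIndex_eq_one, hKeq] at h8
  exact h8.trans inf_le_right

/-- uniqueness of the core -/
theorem core_unique (hP : ∃ (P : Sylow 2 G) (c t : G), ∀ x ∈ (P : Subgroup G),
      ∃ i : ℕ, x = c ^ i ∨ x = t * c ^ i)
    {N N' : Subgroup G} [hn : N.Normal] [hn' : N'.Normal] (hZ : IsZGroup N) (hZ' : IsZGroup N')
    (h : Six N) (h' : Six N') : N = N' := by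
  have h := h.cases
  have h' := h'.cases
  rcases h with e | hV | hR
  · rw [e, eq_top_of_top hZ e h']
  · rcases h' with e' | hV' | hR'
    · rw [e', eq_top_of_top hZ' e' (Or.inr (Or.inl hV))]
    · exact le_antisymm (le_of_isV_isV hP hV hV') (le_of_isV_isV hP hV' hV)
    · exfalso
      have h1 : N ≤ N' := le_of_isR hZ hR'
      have h2 := Subgroup.index_dvd_of_le h1
      rw [index_of_isV hV] at h2
      exact index_of_isR hR' h2
  · rcases h' with e' | hV' | hR'
    · rw [e', eq_top_of_top hZ' e' (Or.inr (Or.inr hR))]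
    · exfalso
      have h1 : N' ≤ N := le_of_isR hZ' hR
      have h2 := Subgroup.index_dvd_of_le h1
      rw [index_of_isV hV'] at h2
      exact index_of_isR hR h2
    · exact le_antisymm (le_of_isR hZ hR') (le_of_isR hZ' hR)

end Cfsg.Agent.Lib.Helper2.Zfp
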