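import Mathlib

set_option autoImplicit false
set_option linter.style.haveILetI false

/-!
# Automorphisms of odd order of cyclic and large quaternion `2`-groups are trivial
-/

namespace Cfsg.Agent.Lib.Helper2.Zfp

open QuaternionGroup

/-- an automorphism of odd order of a cyclic `2`-group is trivial -/
theorem aut_cyclic_two {C : Type*} [Group C] [Finite C] [IsCyclic C] (hC : IsPGroup 2 C)
    (α : MulAut C) {m : ℕ} (hm : Odd m) (hα : α ^ m = 1) : α = 1 := by
  haveI : Fact (Nat.Prime 2) := ⟨Nat.prime_two⟩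
  obtain ⟨k, hk⟩ := IsPGroup.iff_card.mp hC
  have hcard : Nat.card (MulAut C) = Nat.totient (2 ^ k) := by
    rw [IsCyclic.card_mulAut, hk]
  have h2 : ∃ j : ℕ, Nat.card (MulAut C) = 2 ^ j := by
    rcases Nat.eq_zero_or_pos k with h0 | hpos
    · refine ⟨0, ?_⟩
      rw [hcard, h0]; simp
    · refine ⟨k - 1, ?_⟩
      rw [hcard, Nat.totient_prime_pow Nat.prime_two hpos]
      norm_num
  obtain ⟨j, hj⟩ := h2
  haveI : Finite (MulAut C) := Nat.finite_of_card_ne_zero (by rw [hj]; positivity)
  have h3 : α ^ (2 ^ j) = 1 := by rw [← hj]; exact pow_card_eq_one'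
  have h4 : orderOf α ∣ m := orderOf_dvd_of_pow_eq_one hα
  have h5 : orderOf α ∣ 2 ^ j := orderOf_dvd_of_pow_eq_one h3
  have hcop : Nat.Coprime m (2 ^ j) := Nat.Coprime.pow_right j (Nat.coprime_two_right.mpr hm)
  have := Nat.eq_one_of_dvd_coprimes hcop h4 h5
  exact orderOf_eq_one_iff.mp this

theorem a_pow' {n : ℕ} (i : ZMod (2 * n)) (k : ℕ) :
    (a i : QuaternionGroup n) ^ k = a (i * (k : ZMod (2 * n))) := by
  induction k with
  | zero => simp [a_zero]
  | succ k ih =>
    rw [pow_succ, ih, a_mul_a]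
    congr 1
    push_cast
    ring

theorem a_eq_pow {n : ℕ} [NeZero n] (k : ZMod (2 * n)) :
    (a k : QuaternionGroup n) = a 1 ^ k.val := by
  rw [a_one_pow, ZMod.natCast_zmod_val]

/-- an automorphism of odd order of a generalised quaternion group of order at least `16` is
trivial -/
theorem aut_quaternion {n : ℕ} (hn : 2 ≤ n) (β : MulAut (QuaternionGroup (2 ^ n))) {m : ℕ}
    (hm : Odd m) (hβ : β ^ m = 1) : β = 1 := by
  haveI : NeZero (2 ^ n) := ⟨by positivity⟩
  haveI : NeZero (2 * 2 ^ n) := ⟨by positivity⟩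
  have h4 : 4 ≤ 2 ^ n := by
    calc 4 = 2 ^ 2 := by norm_num
      _ ≤ 2 ^ n := Nat.pow_le_pow_right (by norm_num) hn
  -- the image of `a 1`
  obtain ⟨i, hi⟩ : ∃ i, β (a 1) = a i := by
    cases hb : β (a 1) with
    | a i => exact ⟨i, rfl⟩
    | xa i =>
      exfalso
      have h1 : orderOf (β (a 1)) = orderOf (a 1 : QuaternionGroup (2 ^ n)) :=
        MulEquiv.orderOf_eq β _
      rw [hb, orderOf_xa i, orderOf_a_one] at h1
      omega
  have hβa : ∀ k : ZMod (2 * 2 ^ n), β (a k) = a (i * k) := by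
    intro k
    rw [a_eq_pow k, map_pow, hi, a_pow', ZMod.natCast_zmod_val]
  have hiter : ∀ j : ℕ, (β ^ j) (a 1) = a (i ^ j) := by
    intro j
    induction j with
    | zero => simp
    | succ j ih =>
      rw [pow_succ', MulAut.mul_apply, ih, hβa, pow_succ']
  have him : i ^ m = 1 := by
    have h1 := hiter m
    rw [hβ, MulAut.one_apply] at h1
    exact (a.inj h1).symm
  have hm0 : m ≠ 0 := by
    rintro rfl
    exact absurd hm (by decide)
  have hi1 : i = 1 := by
    have hu : IsUnit i := by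
      apply IsUnit.of_mul_eq_one (i ^ (m - 1))
      rw [← pow_succ' i, Nat.sub_add_cancel (Nat.one_le_iff_ne_zero.mpr hm0)]
      exact him
    obtain ⟨u, rfl⟩ := hu
    have hum : u ^ m = 1 := by
      apply Units.ext
      rw [Units.val_pow_eq_pow_val, him, Units.val_one]
    have hcard : Nat.card (ZMod (2 * 2 ^ n))ˣ = 2 ^ n := by
      rw [Nat.card_eq_fintype_card, ZMod.card_units_eq_totient]
      have : 2 * 2 ^ n = 2 ^ (n + 1) := by ring
      rw [this, Nat.totient_prime_pow Nat.prime_two (by omega)]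
      norm_num
    have h3 : u ^ (2 ^ n) = 1 := by
      have h3' := pow_card_eq_one' (G := (ZMod (2 * 2 ^ n))ˣ) (x := u)
      rwa [hcard] at h3'
    have h5 : orderOf u ∣ m := orderOf_dvd_of_pow_eq_one hum
    have h6 : orderOf u ∣ 2 ^ n := orderOf_dvd_of_pow_eq_one h3
    have hcop : Nat.Coprime m (2 ^ n) := Nat.Coprime.pow_right n (Nat.coprime_two_right.mpr hm)
    have := Nat.eq_one_of_dvd_coprimes hcop h5 h6
    rw [orderOf_eq_one_iff.mp this, Units.val_one]
  have hβa' : ∀ k : ZMod (2 * 2 ^ n), β (a k) = a k := by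
    intro k; rw [hβa, hi1, one_mul]
  -- the image of `xa 0`
  obtain ⟨j, hj⟩ : ∃ j, β (xa 0) = xa j := by
    cases hb : β (xa 0) with
    | xa j => exact ⟨j, rfl⟩
    | a j =>
      exfalso
      have h1 : β (xa 0) = β (a j) := by rw [hb, hβa']
      have h2 := β.injective h1
      cases h2
  have hβx : ∀ k : ZMod (2 * 2 ^ n), β (xa k) = xa (j + k) := by
    intro k
    have : (xa k : QuaternionGroup (2 ^ n)) = xa 0 * a k := by rw [xa_mul_a, zero_add]
    rw [this, map_mul, hj, hβa', xa_mul_a]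
  have hiterx : ∀ r : ℕ, (β ^ r) (xa 0) = xa ((r : ZMod (2 * 2 ^ n)) * j) := by
    intro r
    induction r with
    | zero => simp
    | succ r ih =>
      rw [pow_succ', MulAut.mul_apply, ih, hβx]
      congr 1
      push_cast
      ring
  have hmj : (m : ZMod (2 * 2 ^ n)) * j = 0 := by
    have h1 := hiterx m
    rw [hβ, MulAut.one_apply] at h1
    exact (xa.inj h1).symm
  have hj0 : j = 0 := by
    have hcop : Nat.Coprime m (2 * 2 ^ n) := by
      have : 2 * 2 ^ n = 2 ^ (n + 1) := by ring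
      rw [this]
      exact Nat.Coprime.pow_right _ (Nat.coprime_two_right.mpr hm)
    have hu : IsUnit (m : ZMod (2 * 2 ^ n)) := (ZMod.isUnit_iff_coprime m (2 * 2 ^ n)).mpr hcop
    exact (hu.mul_right_eq_zero).mp hmj
  apply MulEquiv.ext
  intro g
  cases g with
  | a k => rw [hβa', MulAut.one_apply]
  | xa k => rw [hβx, hj0, zero_add, MulAut.one_apply]

variable {W : Type*} [Group W] [Finite W]

/-- if the self-centralizing normal `2`-subgroup `T` is cyclic or generalised quaternion of order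
at least `16`, the group is a `2`-group -/
theorem isPGroup_of_rigid (T : Subgroup W) [hT : T.Normal] (hT2 : IsPGroup 2 T)
    (hC : Subgroup.centralizer (T : Set W) ≤ T)
    (h : IsCyclic T ∨ ∃ n : ℕ, 2 ≤ n ∧ Nonempty (T ≃* QuaternionGroup (2 ^ n))) :
    IsPGroup 2 W := by
  have key : ∀ y : W, Odd (orderOf y) → y = 1 := by
    intro y hy
    set α : MulAut T := MulAut.conjNormal y with hα
    have hαm : α ^ orderOf y = 1 := by
      rw [hα, ← map_pow, pow_orderOf_eq_one, map_one]
    have hα1 : α = 1 := by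
      rcases h with hcyc | ⟨n, hn, ⟨e⟩⟩
      · haveI := hcyc
        exact aut_cyclic_two hT2 α hy hαm
      · have h1 : (MulAut.congr e α) ^ orderOf y = 1 := by
          rw [← map_pow, hαm, map_one]
        have h2 := aut_quaternion hn _ hy h1
        exact (MulAut.congr e).injective (by rw [h2, map_one])
    have hyc : y ∈ Subgroup.centralizer (T : Set W) := by
      rw [Subgroup.mem_centralizer_iff]
      intro t ht
      have h1 : α ⟨t, ht⟩ = ⟨t, ht⟩ := by rw [hα1, MulAut.one_apply]
      have h2 : y * t * y⁻¹ = t := by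
        have := congrArg Subtype.val h1
        simpa [hα, MulAut.conjNormal_apply] using this
      calc t * y = (y * t * y⁻¹) * y := by rw [h2]
        _ = y * t := by group
    have hyT : y ∈ T := hC hyc
    obtain ⟨k, hk⟩ := hT2 ⟨y, hyT⟩
    have hk' : y ^ 2 ^ k = 1 := by
      have := congrArg Subtype.val hk
      simpa using this
    have h5 : orderOf y ∣ 2 ^ k := orderOf_dvd_of_pow_eq_one hk'
    have hcop : Nat.Coprime (orderOf y) (2 ^ k) :=
      Nat.Coprime.pow_right k (Nat.coprime_two_right.mpr hy)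
    have := Nat.eq_one_of_dvd_coprimes hcop dvd_rfl h5
    exact orderOf_eq_one_iff.mp this
  intro w
  have hpos : orderOf w ≠ 0 := (orderOf_pos w).ne'
  obtain ⟨k, m, hm, hkm⟩ := Nat.exists_eq_two_pow_mul_odd hpos
  refine ⟨k, ?_⟩
  apply key
  have h1 : (w ^ 2 ^ k) ^ m = 1 := by
    rw [← pow_mul, ← hkm, pow_orderOf_eq_one]
  have h2 : orderOf (w ^ 2 ^ k) ∣ m := orderOf_dvd_of_pow_eq_one h1
  exact Odd.of_dvd_nat hm h2

end Cfsg.Agent.Lib.Helper2.Zfp
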