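import Mathlib

set_option autoImplicit false
set_option linter.style.haveILetI false

/-!
# The automorphism group of the quaternion group has order `24`
-/

namespace Cfsg.Agent.Lib.Helper2.Zfp

open QuaternionGroup

/-- the map of the quaternion group determined by the images of the two generators -/
def q8Map (u w : QuaternionGroup 2) : QuaternionGroup 2 → QuaternionGroup 2
  | a k => u ^ k.val
  | xa k => w * u ^ k.val

/-- the pairs of images of generators defining automorphisms -/
def q8Good (x : QuaternionGroup 2 × QuaternionGroup 2) : Prop :=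
  (∀ g h : QuaternionGroup 2, q8Map x.1 x.2 (g * h) = q8Map x.1 x.2 g * q8Map x.1 x.2 h) ∧
    Function.Injective (q8Map x.1 x.2)

instance : DecidablePred q8Good := fun x => by
  unfold q8Good
  infer_instance

theorem card_q8Good : Fintype.card {x : QuaternionGroup 2 × QuaternionGroup 2 // q8Good x} = 24 := by
  decide +kernel

theorem q8Map_of_aut (φ : MulAut (QuaternionGroup 2)) (g : QuaternionGroup 2) :
    q8Map (φ (a 1)) (φ (xa 0)) g = φ g := by
  cases g with
  | a k =>
    show φ (a 1) ^ k.val = φ (a k)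
    rw [← map_pow, a_one_pow, ZMod.natCast_zmod_val]
  | xa k =>
    show φ (xa 0) * φ (a 1) ^ k.val = φ (xa k)
    rw [← map_pow, a_one_pow, ZMod.natCast_zmod_val, ← map_mul, xa_mul_a, zero_add]

theorem q8Good_of_aut (φ : MulAut (QuaternionGroup 2)) : q8Good (φ (a 1), φ (xa 0)) := by
  constructor
  · intro g h
    show q8Map (φ (a 1)) (φ (xa 0)) (g * h) =
      q8Map (φ (a 1)) (φ (xa 0)) g * q8Map (φ (a 1)) (φ (xa 0)) h
    rw [q8Map_of_aut, q8Map_of_aut, q8Map_of_aut, map_mul]
  · intro g h hgh
    have : q8Map (φ (a 1)) (φ (xa 0)) g = q8Map (φ (a 1)) (φ (xa 0)) h := hgh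
    rw [q8Map_of_aut, q8Map_of_aut] at this
    exact φ.injective this

/-- the automorphism defined by a good pair -/
noncomputable def q8Aut (x : {x : QuaternionGroup 2 × QuaternionGroup 2 // q8Good x}) :
    MulAut (QuaternionGroup 2) :=
  MulEquiv.ofBijective (MonoidHom.mk' (q8Map x.1.1 x.1.2) x.2.1)
    ⟨x.2.2, Finite.injective_iff_surjective.mp x.2.2⟩

theorem q8Aut_apply (x : {x : QuaternionGroup 2 × QuaternionGroup 2 // q8Good x})
    (g : QuaternionGroup 2) : q8Aut x g = q8Map x.1.1 x.1.2 g := rfl

/-- automorphisms of the quaternion group correspond to good pairs -/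
noncomputable def q8AutEquiv :
    MulAut (QuaternionGroup 2) ≃ {x : QuaternionGroup 2 × QuaternionGroup 2 // q8Good x} where
  toFun φ := ⟨(φ (a 1), φ (xa 0)), q8Good_of_aut φ⟩
  invFun := q8Aut
  left_inv φ := by
    apply MulEquiv.ext
    intro g
    rw [q8Aut_apply]
    exact q8Map_of_aut φ g
  right_inv x := by
    apply Subtype.ext
    apply Prod.ext
    · show q8Aut x (a 1) = x.1.1
      rw [q8Aut_apply]
      show x.1.1 ^ (1 : ZMod 4).val = x.1.1
      have : (1 : ZMod 4).val = 1 := rfl
      rw [this, pow_one]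
    · show q8Aut x (xa 0) = x.1.2
      rw [q8Aut_apply]
      show x.1.2 * x.1.1 ^ (0 : ZMod 4).val = x.1.2
      have : (0 : ZMod 4).val = 0 := rfl
      rw [this, pow_zero, mul_one]

theorem card_mulAut_q8 : Nat.card (MulAut (QuaternionGroup 2)) = 24 := by
  rw [Nat.card_congr q8AutEquiv, Nat.card_eq_fintype_card, card_q8Good]

end Cfsg.Agent.Lib.Helper2.Zfp
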