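import Mathlib
import Cfsg.Agent.Lib.Helper2.Zfp54
import Cfsg.Agent.S1012

set_option autoImplicit false
set_option linter.style.haveILetI false

/-!
# Quaternion groups: the four-group quotient, and `Aut(Q₈) ≅ S₄`
-/

namespace Cfsg.Agent.Lib.Helper2.Zfp

open QuaternionGroup

section toD2

variable {N : ℕ}

/-- reduction modulo two -/
def red2 (N : ℕ) : ZMod (2 * N) →+* ZMod 2 := ZMod.castHom (dvd_mul_right 2 N) (ZMod 2)

/-- the map of a generalised quaternion group onto the four-group -/
def toD2Fun (N : ℕ) : QuaternionGroup N → DihedralGroup 2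
  | a i => DihedralGroup.r (red2 N i)
  | xa i => DihedralGroup.sr (red2 N i)

theorem red2_N (hN : Even N) : red2 N (N : ZMod (2 * N)) = 0 := by
  rw [map_natCast]
  obtain ⟨k, rfl⟩ := hN
  have : ((k + k : ℕ) : ZMod 2) = (2 : ZMod 2) * k := by push_cast; ring
  rw [this]
  have h2 : (2 : ZMod 2) = 0 := by decide
  rw [h2, zero_mul]

/-- the homomorphism of a generalised quaternion group onto the four-group -/
def toD2 (N : ℕ) (hN : Even N) : QuaternionGroup N →* DihedralGroup 2 :=
  MonoidHom.mk' (toD2Fun N) (by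
    intro x y
    cases x with
    | a i =>
      cases y with
      | a j =>
        show toD2Fun N (a i * a j) = _
        rw [a_mul_a]
        show DihedralGroup.r _ = DihedralGroup.r _ * DihedralGroup.r _
        rw [DihedralGroup.r_mul_r, map_add]
      | xa j =>
        show toD2Fun N (a i * xa j) = _
        rw [a_mul_xa]
        show DihedralGroup.sr _ = DihedralGroup.r _ * DihedralGroup.sr _
        rw [DihedralGroup.r_mul_sr, map_sub]
    | xa i =>
      cases y with
      | a j =>
        show toD2Fun N (xa i * a j) = _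
        rw [xa_mul_a]
        show DihedralGroup.sr _ = DihedralGroup.sr _ * DihedralGroup.r _
        rw [DihedralGroup.sr_mul_r, map_add]
      | xa j =>
        show toD2Fun N (xa i * xa j) = _
        rw [xa_mul_xa]
        show DihedralGroup.r _ = DihedralGroup.sr _ * DihedralGroup.sr _
        rw [DihedralGroup.sr_mul_sr, map_sub, map_add, red2_N hN, zero_add])

theorem toD2_surjective (hN : Even N) : Function.Surjective (toD2 N hN) := by
  intro y
  have hs := ZMod.castHom_surjective (dvd_mul_right 2 N)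
  cases y with
  | r i =>
    obtain ⟨j, hj⟩ := hs i
    exact ⟨a j, by show DihedralGroup.r (red2 N j) = _; rw [red2, hj]⟩
  | sr i =>
    obtain ⟨j, hj⟩ := hs i
    exact ⟨xa j, by show DihedralGroup.sr (red2 N j) = _; rw [red2, hj]⟩

theorem isCyclic_ker_toD2 [NeZero N] (hN : Even N) : IsCyclic (toD2 N hN).ker := by
  have hle : (toD2 N hN).ker ≤ Subgroup.zpowers (a 1 : QuaternionGroup N) := by
    intro g hg
    cases g with
    | a i =>
      rw [Subgroup.mem_zpowers_iff]
      refine ⟨(i.val : ℤ), ?_⟩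
      rw [zpow_natCast, a_one_pow, ZMod.natCast_zmod_val]
    | xa i =>
      exfalso
      rw [MonoidHom.mem_ker] at hg
      have h1 : DihedralGroup.sr (red2 N i) = (1 : DihedralGroup 2) := hg
      rw [DihedralGroup.one_def] at h1
      cases h1
  exact Subgroup.isCyclic_of_le hle

end toD2

section aut

theorem q8Map_id : ∀ g : QuaternionGroup 2, q8Map (a 1) (xa 0) g = g := by decide

theorem q8_no_six : ∀ x : QuaternionGroup 2 × QuaternionGroup 2, q8Good x →
    (q8Map x.1 x.2)^[6] (a 1) = a 1 → (q8Map x.1 x.2)^[6] (xa 0) = xa 0 →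
    ((q8Map x.1 x.2)^[2] (a 1) = a 1 ∧ (q8Map x.1 x.2)^[2] (xa 0) = xa 0) ∨
      ((q8Map x.1 x.2)^[3] (a 1) = a 1 ∧ (q8Map x.1 x.2)^[3] (xa 0) = xa 0) := by
  decide +kernel

theorem mulAut_pow_apply' {K : Type*} [Group K] (φ : MulAut K) (n : ℕ) (k : K) :
    (φ ^ n) k = (⇑φ)^[n] k := by
  induction n generalizing k with
  | zero => simp
  | succ n ih =>
    rw [pow_succ, MulAut.mul_apply, ih, Function.iterate_succ_apply]

theorem q8_aut_eq_one {ψ : MulAut (QuaternionGroup 2)} (h1 : ψ (a 1) = a 1)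
    (h2 : ψ (xa 0) = xa 0) : ψ = 1 := by
  apply MulEquiv.ext
  intro g
  rw [← q8Map_of_aut ψ g, h1, h2, q8Map_id, MulAut.one_apply]

theorem q8_aut_order (φ : MulAut (QuaternionGroup 2)) : orderOf φ ≠ 6 := by
  intro h6
  have hfun : (⇑φ : QuaternionGroup 2 → QuaternionGroup 2) = q8Map (φ (a 1)) (φ (xa 0)) := by
    funext g; exact (q8Map_of_aut φ g).symm
  have hpow : φ ^ 6 = 1 := by rw [← h6]; exact pow_orderOf_eq_one φ
  have e1 : (q8Map (φ (a 1)) (φ (xa 0)))^[6] (a 1) = a 1 := by
    rw [← hfun, ← mulAut_pow_apply', hpow, MulAut.one_apply]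
  have e2 : (q8Map (φ (a 1)) (φ (xa 0)))^[6] (xa 0) = xa 0 := by
    rw [← hfun, ← mulAut_pow_apply', hpow, MulAut.one_apply]
  rcases q8_no_six (φ (a 1), φ (xa 0)) (q8Good_of_aut φ) e1 e2 with ⟨h1, h2⟩ | ⟨h1, h2⟩
  · rw [← hfun, ← mulAut_pow_apply'] at h1 h2
    have : φ ^ 2 = 1 := q8_aut_eq_one h1 h2
    have := orderOf_dvd_of_pow_eq_one this
    rw [h6] at this
    omega
  · rw [← hfun, ← mulAut_pow_apply'] at h1 h2
    have : φ ^ 3 = 1 := q8_aut_eq_one h1 h2
    have := orderOf_dvd_of_pow_eq_one this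
    rw [h6] at this
    omega

theorem mulAut_q8_equiv : Nonempty (MulAut (QuaternionGroup 2) ≃* Equiv.Perm (Fin 4)) := by
  haveI : Finite (MulAut (QuaternionGroup 2)) :=
    Nat.finite_of_card_ne_zero (by rw [card_mulAut_q8]; norm_num)
  exact Cfsg.Agent.S1012.result card_mulAut_q8 q8_aut_order

theorem q8_center : ∀ g : QuaternionGroup 2, (∀ h, g * h = h * g) → g = 1 ∨ g = a 2 := by
  decide

theorem q8_a2_central : ∀ h : QuaternionGroup 2, a 2 * h = h * a 2 := by decide

theorem eq_alternating_of_card (R : Subgroup (Equiv.Perm (Fin 4))) (hR : Nat.card R = 12) :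
    R = alternatingGroup (Fin 4) := by
  have hidx : R.index = 2 := by
    have h1 := R.card_mul_index
    rw [hR, Nat.card_eq_fintype_card, Fintype.card_perm, Fintype.card_fin] at h1
    have : (4 : ℕ).factorial = 24 := rfl
    omega
  have hle : alternatingGroup (Fin 4) ≤ R := by
    rw [← Equiv.Perm.closure_three_cycles_eq_alternating, Subgroup.closure_le]
    intro c hc
    have h3 : c ^ 3 = 1 := by
      have := hc.orderOf
      rw [← this]; exact pow_orderOf_eq_one c
    have h1 := Subgroup.sq_mem_of_index_two hidx (c ^ 2)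
    have h2 : (c ^ 2) ^ 2 = c := by
      rw [← pow_mul]
      calc c ^ (2 * 2) = c ^ 3 * c := by rw [← pow_succ]
        _ = c := by rw [h3, one_mul]
    rw [h2] at h1
    exact h1
  symm
  apply Subgroup.eq_of_le_of_card_ge hle
  rw [hR]
  have h := two_mul_card_alternatingGroup (α := Fin 4)
  rw [Fintype.card_perm, Fintype.card_fin] at h
  rw [Nat.card_eq_fintype_card]
  have : (4 : ℕ).factorial = 24 := rfl
  omega

end aut

end Cfsg.Agent.Lib.Helper2.Zfp
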