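import Mathlib
import Cfsg.Agent.Lib.Helper2.Zfc4

set_option autoImplicit false
set_option linter.style.haveILetI false

/-!
# Homomorphisms onto `V₄`, `A₄`, `S₄` from a self-centralizing normal quaternion subgroup
-/

namespace Cfsg.Agent.Lib.Helper2.Zfp

open QuaternionGroup

/-- a generalised quaternion group maps onto the four-group with cyclic kernel -/
theorem exists_hom_D2 {W : Type*} [Group W] (n : ℕ) (e : W ≃* QuaternionGroup (2 ^ (n + 1))) :
    ∃ h : W →* DihedralGroup 2, Function.Surjective h ∧ IsCyclic h.ker := by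
  haveI : NeZero (2 ^ (n + 1)) := ⟨by positivity⟩
  have hev : Even (2 ^ (n + 1)) := by
    rw [pow_succ]; exact even_two.mul_left _
  refine ⟨(toD2 _ hev).comp e.toMonoidHom, ?_, ?_⟩
  · exact (toD2_surjective hev).comp e.surjective
  · haveI := isCyclic_ker_toD2 (N := 2 ^ (n + 1)) hev
    let φ : ((toD2 _ hev).comp e.toMonoidHom).ker →* (toD2 (2 ^ (n + 1)) hev).ker :=
      { toFun := fun x => ⟨e x.1, x.2⟩
        map_one' := by apply Subtype.ext; simp
        map_mul' := by
          intro x y
          apply Subtype.ext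
          show e ((x * y : ((toD2 _ hev).comp e.toMonoidHom).ker) : W) = e x.1 * e y.1
          rw [Subgroup.coe_mul, map_mul] }
    apply isCyclic_of_injective φ
    intro x y hxy
    have : e x.1 = e y.1 := congrArg Subtype.val hxy
    exact Subtype.ext (e.injective this)

variable {W : Type*} [Group W] [Finite W]

set_option maxHeartbeats 800000 in
/-- the action on a self-centralizing normal quaternion subgroup of order eight -/
theorem exists_hom_S4 (T : Subgroup W) [hT : T.Normal] (e : T ≃* QuaternionGroup 2)
    (hC : Subgroup.centralizer (T : Set W) ≤ T) (hW : ¬ IsPGroup 2 W) :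
    ∃ f₀ : W →* Equiv.Perm (Fin 4), f₀.ker = Subgroup.centralizer (T : Set W) ∧
      Nat.card (Subgroup.centralizer (T : Set W)) = 2 ∧
      (f₀.range = ⊤ ∨ f₀.range = alternatingGroup (Fin 4)) := by
  haveI : Fact (Nat.Prime 2) := ⟨Nat.prime_two⟩
  obtain ⟨Θ⟩ := mulAut_q8_equiv
  set c : W →* MulAut T := MulAut.conjNormal with hc
  set f₀ : W →* Equiv.Perm (Fin 4) :=
    Θ.toMonoidHom.comp ((MulAut.congr e).toMonoidHom.comp c) with hf₀
  set Z : Subgroup W := Subgroup.centralizer (T : Set W) with hZ
  have hker : f₀.ker = Z := by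
    ext g
    rw [MonoidHom.mem_ker]
    have h1 : f₀ g = 1 ↔ c g = 1 := by
      constructor
      · intro h
        have h2 : Θ ((MulAut.congr e) (c g)) = 1 := h
        have h3 : (MulAut.congr e) (c g) = 1 := Θ.injective (by rw [h2, map_one])
        exact (MulAut.congr e).injective (by rw [h3, map_one])
      · intro h
        show Θ ((MulAut.congr e) (c g)) = 1
        rw [h, map_one, map_one]
    rw [h1, hZ, Subgroup.mem_centralizer_iff]
    constructor
    · intro h t ht
      have h2 : c g ⟨t, ht⟩ = ⟨t, ht⟩ := by rw [h, MulAut.one_apply]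
      have h3 : g * t * g⁻¹ = t := by
        have := congrArg Subtype.val h2
        simpa [hc, MulAut.conjNormal_apply] using this
      calc t * g = (g * t * g⁻¹) * g := by rw [h3]
        _ = g * t := by group
    · intro h
      apply MulEquiv.ext
      intro t
      apply Subtype.ext
      rw [MulAut.one_apply]
      show ((MulAut.conjNormal g) t : W) = t
      rw [MulAut.conjNormal_apply]
      have := h t.1 t.2
      calc g * (t : W) * g⁻¹ = ((t : W) * g) * g⁻¹ := by rw [this]
        _ = t := by group
  -- the centralizer has order two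
  set z₀ : T := e.symm (a 2) with hz₀
  have hz₀1 : z₀ ≠ 1 := by
    intro h
    have h1 : e z₀ = 1 := by rw [h, map_one]
    rw [hz₀, MulEquiv.apply_symm_apply] at h1
    exact absurd h1 (by decide)
  have hz₀Z : (z₀ : W) ∈ Z := by
    rw [hZ, Subgroup.mem_centralizer_iff]
    intro t ht
    have h1 : (⟨t, ht⟩ : T) * z₀ = z₀ * ⟨t, ht⟩ := by
      apply e.injective
      rw [map_mul, map_mul, hz₀, MulEquiv.apply_symm_apply]
      exact (q8_a2_central _).symm
    exact congrArg Subtype.val h1
  have hZmem : ∀ g ∈ Z, g = 1 ∨ g = (z₀ : W) := by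
    intro g hg
    have hgT : g ∈ T := hC hg
    have hcent : ∀ h : QuaternionGroup 2, e ⟨g, hgT⟩ * h = h * e ⟨g, hgT⟩ := by
      intro h
      have h1 := (Subgroup.mem_centralizer_iff.mp hg) (e.symm h : T) (e.symm h).2
      have h2 : (⟨g, hgT⟩ : T) * e.symm h = e.symm h * ⟨g, hgT⟩ := Subtype.ext h1.symm
      have h3 := congrArg e h2
      rw [map_mul, map_mul, MulEquiv.apply_symm_apply] at h3
      exact h3
    rcases q8_center _ hcent with h | h
    · left
      have : (⟨g, hgT⟩ : T) = 1 := e.injective (by rw [h, map_one])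
      exact congrArg Subtype.val this
    · right
      have : (⟨g, hgT⟩ : T) = z₀ := by
        rw [hz₀]; apply e.injective; rw [h, MulEquiv.apply_symm_apply]
      exact congrArg Subtype.val this
  have hord : orderOf (z₀ : W) = 2 := by
    rw [Subgroup.orderOf_coe]
    have h1 : orderOf z₀ = orderOf (e z₀) := (MulEquiv.orderOf_eq e z₀).symm
    rw [h1, hz₀, MulEquiv.apply_symm_apply]
    have h2 : orderOf (a 2 : QuaternionGroup 2) = 2 := by
      apply orderOf_eq_prime
      · decide
      · decide
    exact h2
  have hZeq : Z = Subgroup.zpowers (z₀ : W) := by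
    apply le_antisymm
    · intro g hg
      rcases hZmem g hg with h | h
      · rw [h]; exact Subgroup.one_mem _
      · rw [h]; exact Subgroup.mem_zpowers _
    · rw [Subgroup.zpowers_le]; exact hz₀Z
  have hZcard : Nat.card Z = 2 := by rw [hZeq, Nat.card_zpowers, hord]
  -- cardinalities
  have hTcard : Nat.card T = 8 := by
    rw [Nat.card_congr e.toEquiv, Nat.card_eq_fintype_card, QuaternionGroup.card]
  have hWcard : 2 * Nat.card f₀.range = Nat.card W := by
    have h1 := f₀.ker.card_mul_index
    rw [Subgroup.index_ker, hker, hZcard] at h1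
    exact h1
  have h4 : 4 ∣ Nat.card f₀.range := by
    have h1 : Nat.card (T.map f₀) = 4 := by
      rw [← Subgroup.relIndex_ker, hker]
      have h2 := (Z.subgroupOf T).card_mul_index
      have h3 : Nat.card (Z.subgroupOf T) = 2 := by
        rw [Nat.card_congr (Subgroup.subgroupOfEquivOfLe hC).toEquiv, hZcard]
      rw [h3, hTcard] at h2
      show (Z.subgroupOf T).index = 4
      omega
    have h5 : Nat.card (T.map f₀) ∣ Nat.card f₀.range := by
      apply Subgroup.card_dvd_of_le
      rintro _ ⟨t, -, rfl⟩
      exact ⟨t, rfl⟩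
    rwa [h1] at h5
  have h24 : Nat.card f₀.range ∣ 24 := by
    have h1 := Subgroup.card_subgroup_dvd_card f₀.range
    rw [Nat.card_eq_fintype_card (α := Equiv.Perm (Fin 4)), Fintype.card_perm, Fintype.card_fin] at h1
    exact h1
  have hnp : ∀ k : ℕ, Nat.card W ≠ 2 ^ k := by
    intro k hk
    exact hW (IsPGroup.of_card hk)
  refine ⟨f₀, hker, hZcard, ?_⟩
  have hle : Nat.card f₀.range ≤ 24 := Nat.le_of_dvd (by norm_num) h24
  have hcases : Nat.card f₀.range = 12 ∨ Nat.card f₀.range = 24 := by
    generalize Nat.card f₀.range = d at *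
    have h8 : d ≠ 4 := by
      intro h; apply hnp 3; rw [← hWcard, h]; norm_num
    have h16 : d ≠ 8 := by
      intro h; apply hnp 4; rw [← hWcard, h]; norm_num
    interval_cases d <;> omega
  rcases hcases with h | h
  · right
    exact eq_alternating_of_card _ h
  · left
    apply Subgroup.eq_top_of_card_eq
    rw [h, Nat.card_eq_fintype_card, Fintype.card_perm, Fintype.card_fin]
    rfl

/-- an extension of a Z-group by a Z-group of coprime order, inside a group -/
theorem isZGroup_comap {G : Type*} [Group G] [Finite G] (M₀ : Subgroup G) [hM : M₀.Normal]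
    (hZ : IsZGroup M₀) (K : Subgroup (G ⧸ M₀)) (hK : IsZGroup K)
    (hcop : (Nat.card M₀).Coprime (Nat.card K)) :
    IsZGroup (K.comap (QuotientGroup.mk' M₀)) := by
  have hle : M₀ ≤ K.comap (QuotientGroup.mk' M₀) := by
    intro x hx
    rw [Subgroup.mem_comap]
    have : QuotientGroup.mk' M₀ x = 1 := (QuotientGroup.eq_one_iff x).mpr hx
    rw [this]; exact K.one_mem
  apply isZGroup_of_coprime (f := Subgroup.inclusion hle)
    (f' := (QuotientGroup.mk' M₀).subgroupComap K) _ hcop
  intro x hx
  rw [MonoidHom.mem_ker] at hx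
  have h1 : QuotientGroup.mk' M₀ (x : G) = 1 := congrArg Subtype.val hx
  have h2 : (x : G) ∈ M₀ := (QuotientGroup.eq_one_iff (x : G)).mp h1
  exact ⟨⟨x, h2⟩, Subtype.ext rfl⟩

end Cfsg.Agent.Lib.Helper2.Zfp
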