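import Cfsg.Agent.Lib.Helper2.Zfp49

/-!
# Structure of a non-solvable group with a fixed-point-free representation
-/

set_option autoImplicit false

namespace Cfsg.Agent.Lib.Helper2.Zfp

open scoped Pointwise
open Cfsg.Agent.Lib.Lead

universe u

variable {G : Type u} [Group G] [Finite G] {E : Type*} [Field E] [IsAlgClosed E] {M : Type*}
  [AddCommGroup M] [Module E M] [FiniteDimensional E M] [Nontrivial M]

theorem isCyclic_of_card_le_two {K : Type*} [Group K] [Finite K] (h : Nat.card K ≤ 2) :
    IsCyclic K := by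
  have hpos : 0 < Nat.card K := Nat.card_pos
  rcases (show Nat.card K = 1 ∨ Nat.card K = 2 by omega) with h1 | h2
  · haveI : Subsingleton K := (Nat.card_eq_one_iff_unique.mp h1).1
    infer_instance
  · haveI : Fact (Nat.Prime 2) := ⟨Nat.prime_two⟩
    exact isCyclic_of_prime_card h2

set_option maxHeartbeats 1600000 in
/-- the structure of a non-solvable group admitting a fixed-point-free representation -/
theorem Rep.nonsolvable_structure (R : Rep G E M) (p : ℕ) [Fact p.Prime] [CharP E p]
    (hns : ¬ Group.IsSolvable G) :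
    ∃ G₀ : Subgroup G, G₀.Normal ∧ (G₀.index = 1 ∨ G₀.index = 2) ∧
      ∃ S M' : Subgroup G, S ⊔ M' = G₀ ∧ S ⊓ M' = ⊥ ∧ (∀ s ∈ S, ∀ x ∈ M', s * x = x * s) ∧
        Nonempty (S ≃* Matrix.SpecialLinearGroup (Fin 2) (ZMod 5)) ∧
        (∀ (q : ℕ) [Fact q.Prime] (P : Sylow q M'), IsCyclic P) ∧ (Nat.card M').Coprime 30 := by
  haveI : Fact (Nat.Prime 2) := ⟨Nat.prime_two⟩
  obtain ⟨n, hn⟩ := Cfsg.Agent.H9Perfect.exists_perfect_core G
  set L : Subgroup G := derivedSeries G n with hLdef
  have hLp : commutator L = ⊤ := Cfsg.Agent.H9Perfect.commutator_core_eq_top n hn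
  have hL : L ≠ ⊥ := by
    intro hb
    exact hns ((isSolvable_def G).mpr ⟨n, hb⟩)
  haveI hLn : L.Normal := derivedSeries_normal G n
  haveI : Nontrivial L := (Subgroup.nontrivial_iff_ne_bot L).mpr hL
  obtain ⟨z, t, x, hD⟩ := R.exists_coreData p L hLp hL
  have eL : Nonempty (L ≃* Matrix.SpecialLinearGroup (Fin 2) (ZMod 5)) := (R.sub L).main p hLp
  set C : Subgroup G := Subgroup.centralizer (L : Set G) with hCdef
  haveI hCn : C.Normal := Subgroup.normal_centralizer
  have h2C : 2 ∣ Nat.card C := hD.two_dvd R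
  have h4C : ¬ 4 ∣ Nat.card C := hD.not_four_dvd R
  have h3C : ¬ 3 ∣ Nat.card C := hD.prime_not_dvd R Nat.prime_three (by norm_num) (by norm_num)
  have h5C : ¬ 5 ∣ Nat.card C := hD.prime_not_dvd R Nat.prime_five (by norm_num) (by norm_num)
  have hiC : C.index ∣ 120 := R.index_centralizer_dvd p L hLp hL
  -- the odd part of the centralizer
  have hcyc : ∀ D : Subgroup G, D ≤ C → IsPGroup 2 D → IsCyclic D := by
    intro D hDC hD2
    apply isCyclic_of_card_le_two
    obtain ⟨k, hk⟩ := (IsPGroup.iff_card.mp hD2)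
    have hdvd : Nat.card D ∣ Nat.card C := Subgroup.card_dvd_of_le hDC
    rw [hk] at hdvd ⊢
    have hk2 : k < 2 := by
      by_contra hge
      push Not at hge
      apply h4C
      exact (pow_dvd_pow 2 hge).trans hdvd
    interval_cases k <;> norm_num
  obtain ⟨W, hWmem, P, hWP⟩ := exists_odd_sub C hcyc
  have hPcard : Nat.card P = 2 := by
    obtain ⟨k, hk⟩ := (IsPGroup.iff_card.mp P.2)
    have hdvd : Nat.card P ∣ Nat.card C := Subgroup.card_subgroup_dvd_card _
    have hk2 : k < 2 := by
      by_contra hge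
      push Not at hge
      apply h4C
      rw [hk] at hdvd
      exact (pow_dvd_pow 2 hge).trans hdvd
    have hk0 : k ≠ 0 := by
      intro h0
      rw [h0, pow_zero] at hk
      have := P.card_eq_multiplicity
      rw [hk] at this
      have hfac : (Nat.card C).factorization 2 = 0 := by
        by_contra hne
        have h1 : 1 < 2 ^ (Nat.card C).factorization 2 :=
          Nat.one_lt_two_pow hne
        omega
      have hpos : Nat.card C ≠ 0 := Nat.card_pos.ne'
      have := (Nat.factorization_eq_zero_iff (Nat.card C) 2).mp hfac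
      rcases this with h | h | h
      · exact h Nat.prime_two
      · exact h h2C
      · exact hpos h
    have : k = 1 := by omega
    rw [hk, this, pow_one]
  have hWC : W ≤ C := fun g hg => ((hWmem g).mp hg).1
  have hWodd : ¬ 2 ∣ Nat.card W := by
    intro h2
    obtain ⟨w, hw⟩ := exists_prime_orderOf_dvd_card' (G := W) 2 h2
    have h1 := ((hWmem w).mp w.2).2
    rw [Subgroup.orderOf_coe, hw] at h1
    exact absurd h1 (by decide)
  have hWdvd : Nat.card W ∣ Nat.card C := Subgroup.card_dvd_of_le hWC
  haveI hWn : W.Normal := by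
    constructor
    intro w hw g
    rw [hWmem] at hw ⊢
    refine ⟨hCn.conj_mem w hw.1 g, ?_⟩
    have : orderOf (g * w * g⁻¹) = orderOf w := by
      have := orderOf_injective (MulAut.conj g).toMonoidHom (MulAut.conj g).injective w
      simpa using this
    rw [this]; exact hw.2
  have hcomm : ∀ s ∈ L, ∀ w ∈ W, s * w = w * s := by
    intro s hs w hw
    exact Subgroup.mem_centralizer_iff.mp (hWC hw) s hs
  have hinf : L ⊓ W = ⊥ := by
    rw [eq_bot_iff]
    intro g hg
    rw [Subgroup.mem_inf] at hg
    rw [Subgroup.mem_bot]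
    rcases hD.inf_centralizer hg.1 (hWC hg.2) with e | e
    · exact e
    · exfalso
      have h1 := ((hWmem g).mp hg.2).2
      rw [e, hD.orderOf_z] at h1
      exact absurd h1 (by decide)
  have hcardsup : Nat.card (L ⊔ W : Subgroup G) = Nat.card L * Nat.card W := by
    apply card_sup_of_disjoint L W _ hinf
    rw [Subgroup.normalizer_eq_top]
    exact le_top
  refine ⟨L ⊔ W, inferInstance, ?_, L, W, rfl, hinf, hcomm, eL, ?_, ?_⟩
  · -- index
    have h1 : Nat.card (L ⊔ W : Subgroup G) * (L ⊔ W : Subgroup G).index = Nat.card G :=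
      Subgroup.card_mul_index _
    have h2 : Nat.card C * C.index = Nat.card G := Subgroup.card_mul_index _
    rw [hcardsup, hD.card] at h1
    rw [← hWP, hPcard] at h2
    have hWpos : 0 < Nat.card W := Nat.card_pos
    have h3 : 60 * (L ⊔ W : Subgroup G).index = C.index := by
      have : Nat.card W * (60 * (L ⊔ W : Subgroup G).index) = Nat.card W * C.index := by
        nlinarith [h1, h2]
      exact Nat.eq_of_mul_eq_mul_left hWpos this
    rw [← h3] at hiC
    have h4 : (L ⊔ W : Subgroup G).index ∣ 2 := by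
      have : 60 * (L ⊔ W : Subgroup G).index ∣ 60 * 2 := hiC
      exact Nat.dvd_of_mul_dvd_mul_left (by norm_num) this
    have h5 : (L ⊔ W : Subgroup G).index ≤ 2 := Nat.le_of_dvd (by norm_num) h4
    have h6 : (L ⊔ W : Subgroup G).index ≠ 0 := Subgroup.index_ne_zero_of_finite
    omega
  · intro q hq Q
    by_cases hq2 : q = 2
    · subst hq2
      apply isCyclic_of_card_le_two
      have := Q.card_eq_multiplicity
      have hfac : (Nat.card W).factorization 2 = 0 := by
        rw [Nat.factorization_eq_zero_iff]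
        right; left; exact hWodd
      rw [hfac, pow_zero] at this
      rw [this]; norm_num
    · have h1 := (R.sub W).isCyclic_sylow hq2 Q
      exact h1
  · have h30 : (30 : ℕ) = 2 * 3 * 5 := by norm_num
    rw [h30]
    apply Nat.Coprime.mul_right
    · apply Nat.Coprime.mul_right
      · exact (Nat.coprime_comm.mp ((Nat.Prime.coprime_iff_not_dvd Nat.prime_two).mpr hWodd))
      · exact (Nat.coprime_comm.mp ((Nat.Prime.coprime_iff_not_dvd Nat.prime_three).mpr
          (fun h => h3C (h.trans hWdvd))))
    · exact (Nat.coprime_comm.mp ((Nat.Prime.coprime_iff_not_dvd Nat.prime_five).mpr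
          (fun h => h5C (h.trans hWdvd))))

end Cfsg.Agent.Lib.Helper2.Zfp
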