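import Mathlib
import Cfsg.Agent.Lib.Helper2.Zfc2
import Cfsg.Agent.Lib.Helper2.Zfc3
import Cfsg.Agent.Lib.Helper2.Zfc5
import Cfsg.Agent.Lib.Helper2.Zfp50
import Cfsg.Agent.Lib.Helper4.SolvBalance

set_option autoImplicit false
set_option linter.style.haveILetI false

/-!
# The core of a solvable group with a fixed-point-free representation
-/

namespace Cfsg.Agent.Lib.Helper2.Zfp

open Cfsg

universe u

variable {G : Type u} [Group G] [Finite G] {E : Type*} [Field E] [IsAlgClosed E] {M : Type*}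
  [AddCommGroup M] [Module E M] [FiniteDimensional E M] [Nontrivial M]

/-- a subgroup whose `2`-subgroups are cyclic is a Z-group -/
theorem Rep.isZGroup_of_two (R : Rep G E M) (K : Subgroup G)
    (h2 : ∀ S : Subgroup G, S ≤ K → IsPGroup 2 S → IsCyclic S) : IsZGroup K := by
  refine ⟨fun q hq Q => ?_⟩
  haveI : Fact q.Prime := ⟨hq⟩
  by_cases hq2 : q = 2
  · subst hq2
    have h1 : IsCyclic ((Q : Subgroup K).map K.subtype) := by
      apply h2
      · exact Subgroup.map_subtype_le _
      · exact Q.2.map _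
    exact isCyclic_of_surjective _
      (Subgroup.equivMapOfInjective (Q : Subgroup K) K.subtype K.subtype_injective).symm.surjective
  · exact (R.sub K).isCyclic_sylow hq2 Q

/-- a subgroup of odd order is a Z-group -/
theorem Rep.isZGroup_of_odd (R : Rep G E M) (K : Subgroup G) (hK : (Nat.card K).Coprime 2) :
    IsZGroup K := by
  apply R.isZGroup_of_two
  intro S hSK hS
  have h1 : Nat.card S ∣ Nat.card K := Subgroup.card_dvd_of_le hSK
  obtain ⟨k, hk⟩ := IsPGroup.iff_card.mp hS
  have h2 : (Nat.card S).Coprime (Nat.card S) := by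
    apply Nat.Coprime.coprime_dvd_left h1
    rw [hk]
    exact Nat.Coprime.pow_right k hK
  rw [Nat.coprime_self] at h2
  haveI : Subsingleton S := (Nat.card_eq_one_iff_unique.mp h2).1
  infer_instance

/-- normal `2`-subgroups of the quotient by a normal subgroup of odd order -/
theorem Rep.two_subgroup_quotient (R : Rep G E M) (M₀ : Subgroup G) [hM : M₀.Normal]
    (hodd : (Nat.card M₀).Coprime 2) (T : Subgroup (G ⧸ M₀)) [hT : T.Normal]
    (hT2 : IsPGroup 2 T) :
    IsCyclic T ∨ ∃ n : ℕ, Nonempty (T ≃* QuaternionGroup (2 ^ n)) := by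
  haveI : Fact (Nat.Prime 2) := ⟨Nat.prime_two⟩
  obtain ⟨P⟩ : Nonempty (Sylow 2 G) := inferInstance
  set π : G →* G ⧸ M₀ := QuotientGroup.mk' M₀ with hπ
  have hπs : Function.Surjective π := QuotientGroup.mk'_surjective M₀
  have hTP : T ≤ (P : Subgroup G).map π := by
    have := hT2.le_sylow_of_normal (P.mapSurjective hπs)
    rwa [Sylow.coe_mapSurjective] at this
  set T₀ : Subgroup G := (P : Subgroup G) ⊓ T.comap π with hT₀
  have hT₀2 : IsPGroup 2 T₀ := P.2.to_le inf_le_left
  let φ : T₀ →* T :=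
    { toFun := fun x => ⟨π x.1, (Subgroup.mem_inf.mp x.2).2⟩
      map_one' := by apply Subtype.ext; simp
      map_mul' := by
        intro x y
        apply Subtype.ext
        show π ((x * y : T₀) : G) = π x.1 * π y.1
        rw [Subgroup.coe_mul, map_mul] }
  have hinj : Function.Injective φ := by
    rw [injective_iff_map_eq_one]
    intro x hx
    have h1 : π x.1 = 1 := congrArg Subtype.val hx
    have h2 : x.1 ∈ M₀ := (QuotientGroup.eq_one_iff x.1).mp h1
    have h3 : x.1 ∈ (P : Subgroup G) ⊓ M₀ := Subgroup.mem_inf.mpr ⟨(Subgroup.mem_inf.mp x.2).1, h2⟩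
    have h4 : (P : Subgroup G) ⊓ M₀ = ⊥ := by
      apply Subgroup.inf_eq_bot_of_coprime
      obtain ⟨k, hk⟩ := IsPGroup.iff_card.mp P.2
      rw [hk]
      exact (Nat.Coprime.pow_right k hodd).symm
    rw [h4, Subgroup.mem_bot] at h3
    exact Subtype.ext h3
  have hsurj : Function.Surjective φ := by
    rintro ⟨t, ht⟩
    obtain ⟨x, hxP, hxt⟩ := hTP ht
    have hx : x ∈ T₀ := Subgroup.mem_inf.mpr ⟨hxP, by rw [Subgroup.mem_comap, hxt]; exact ht⟩
    exact ⟨⟨x, hx⟩, Subtype.ext hxt⟩
  rcases R.pgroup_structure 2 T₀ hT₀2 with h | ⟨-, n, ⟨e⟩⟩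
  · left
    haveI := h
    exact isCyclic_of_surjective φ hsurj
  · right
    exact ⟨n, ⟨(MulEquiv.ofBijective φ ⟨hinj, hsurj⟩).symm.trans e⟩⟩

set_option maxHeartbeats 1600000 in
/-- the core of a solvable group with non-cyclic Sylow `2`-subgroups -/
theorem Rep.exists_core_solvable (R : Rep G E M) (hsolv : Group.IsSolvable G) (P : Sylow 2 G)
    (hP : ¬ IsCyclic P) :
    ∃ N : Subgroup G, N.Normal ∧ IsZGroup N ∧ Six N := by
  haveI : Fact (Nat.Prime 2) := ⟨Nat.prime_two⟩
  haveI := hsolv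
  set M₀ : Subgroup G := pPrimeCore 2 G with hM₀
  haveI hMn : M₀.Normal := (Cfsg.Agent.Lib.Helper6.pPrimeCore_mem_set 2).1
  have hodd : (Nat.card M₀).Coprime 2 := Cfsg.Agent.Lib.Helper6.pPrimeCore_coprime 2
  have hMZ : IsZGroup M₀ := R.isZGroup_of_odd M₀ hodd
  set π : G →* G ⧸ M₀ := QuotientGroup.mk' M₀ with hπ
  have hπs : Function.Surjective π := QuotientGroup.mk'_surjective M₀
  have hO : pPrimeCore 2 (G ⧸ M₀) = ⊥ := Cfsg.Agent.Lib.Helper4.pPrimeCore_quotient_self 2
  set T : Subgroup (G ⧸ M₀) := pCore 2 (G ⧸ M₀) with hT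
  haveI hTn : T.Normal := Cfsg.Agent.Lib.Lead.pCore_normal 2
  have hT2 : IsPGroup 2 T := Cfsg.Agent.Lib.Lead.pCore_isPGroup 2
  have hC : Subgroup.centralizer (T : Set (G ⧸ M₀)) ≤ T := Cfsg.Agent.S0017.result 2 hO
  -- the two cases
  have hcases : IsPGroup 2 (G ⧸ M₀) ∨
      (¬ IsPGroup 2 (G ⧸ M₀) ∧ Nonempty (T ≃* QuaternionGroup 2)) := by
    by_cases h2 : IsPGroup 2 (G ⧸ M₀)
    · exact Or.inl h2
    · right
      refine ⟨h2, ?_⟩
      rcases R.two_subgroup_quotient M₀ hodd T hT2 with h | ⟨n, ⟨e⟩⟩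
      · exact absurd (isPGroup_of_rigid T hT2 hC (Or.inl h)) h2
      · rcases Nat.lt_or_ge n 2 with hn | hn
        · interval_cases n
          · exfalso
            apply h2
            apply isPGroup_of_rigid T hT2 hC (Or.inl ?_)
            haveI := QuaternionGroup.quaternionGroup_one_isCyclic
            exact isCyclic_of_surjective e.symm.toMonoidHom e.symm.surjective
          · exact ⟨e⟩
        · exact absurd (isPGroup_of_rigid T hT2 hC (Or.inr ⟨n, hn, ⟨e⟩⟩)) h2
  rcases hcases with h2 | ⟨h2, ⟨e⟩⟩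
  · -- the quotient is a `2`-group
    have hinj : Function.Injective (π.comp (P : Subgroup G).subtype) := by
      rw [injective_iff_map_eq_one]
      intro x hx
      have h1 : π x.1 = 1 := hx
      have h3 : x.1 ∈ M₀ := (QuotientGroup.eq_one_iff x.1).mp h1
      have h4 : (P : Subgroup G) ⊓ M₀ = ⊥ := by
        apply Subgroup.inf_eq_bot_of_coprime
        obtain ⟨k, hk⟩ := IsPGroup.iff_card.mp P.2
        rw [hk]
        exact (Nat.Coprime.pow_right k hodd).symm
      have h5 : x.1 ∈ (P : Subgroup G) ⊓ M₀ := Subgroup.mem_inf.mpr ⟨x.2, h3⟩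
      rw [h4, Subgroup.mem_bot] at h5
      exact Subtype.ext h5
    have hsurj : Function.Surjective (π.comp (P : Subgroup G).subtype) := by
      have h1 : (P : Subgroup G).map π = ⊤ := by
        have h3 : ((P.mapSurjective hπs : Sylow 2 (G ⧸ M₀)) : Subgroup (G ⧸ M₀)) = ⊤ := by
          apply Subgroup.eq_top_of_card_eq
          rw [Sylow.card_eq_multiplicity]
          obtain ⟨k, hk⟩ := IsPGroup.iff_card.mp h2
          rw [hk, Nat.Prime.factorization_pow Nat.prime_two, Finsupp.single_eq_same]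
        rwa [Sylow.coe_mapSurjective] at h3
      intro y
      have hy : y ∈ (P : Subgroup G).map π := by rw [h1]; exact Subgroup.mem_top y
      obtain ⟨x, hx, hxy⟩ := hy
      exact ⟨⟨x, hx⟩, hxy⟩
    let eP : P ≃* (G ⧸ M₀) := MulEquiv.ofBijective (π.comp (P : Subgroup G).subtype) ⟨hinj, hsurj⟩
    rcases R.pgroup_structure 2 (P : Subgroup G) P.2 with h | ⟨-, n, ⟨e⟩⟩
    · exact absurd h hP
    · obtain ⟨n', rfl⟩ : ∃ n', n = n' + 1 := by
        rcases Nat.eq_zero_or_pos n with h0 | hpos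
        · exfalso
          subst h0
          apply hP
          haveI := QuaternionGroup.quaternionGroup_one_isCyclic
          exact isCyclic_of_surjective e.symm.toMonoidHom e.symm.surjective
        · exact ⟨n - 1, by omega⟩
      obtain ⟨h, hhs, hhc⟩ := exists_hom_D2 n' (eP.symm.trans e)
      refine ⟨(h.comp π).ker, inferInstance, ?_, Or.inr (Or.inl ⟨h.comp π, hhs.comp hπs, rfl⟩)⟩
      have hk : (h.comp π).ker = h.ker.comap π := (MonoidHom.comap_ker h π).symm
      rw [hk]
      haveI := hhc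
      apply isZGroup_comap M₀ hMZ h.ker inferInstance
      have h3 : Nat.card h.ker ∣ Nat.card (G ⧸ M₀) := Subgroup.card_subgroup_dvd_card _
      obtain ⟨k, hk⟩ := IsPGroup.iff_card.mp h2
      rw [hk] at h3
      exact Nat.Coprime.coprime_dvd_right h3 (Nat.Coprime.pow_right k hodd)
  · -- the quotient has a normal quaternion subgroup of order eight
    obtain ⟨f₀, hker, hcard, hrange⟩ := exists_hom_S4 T e hC h2
    have hZ : IsZGroup ((f₀.comp π).ker) := by
      have hk : (f₀.comp π).ker = f₀.ker.comap π := (MonoidHom.comap_ker f₀ π).symm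
      rw [hk, hker]
      haveI : IsCyclic (Subgroup.centralizer (T : Set (G ⧸ M₀))) :=
        isCyclic_of_card_le_two (by rw [hcard])
      apply isZGroup_comap M₀ hMZ _ inferInstance
      rw [hcard]; exact hodd
    have hr : (f₀.comp π).range = f₀.range := by
      rw [MonoidHom.range_comp, MonoidHom.range_eq_top.mpr hπs, ← MonoidHom.range_eq_map]
    rcases hrange with h | h
    · refine ⟨(f₀.comp π).ker, inferInstance, hZ, Or.inr (Or.inr (Or.inr (Or.inl
        ⟨f₀.comp π, ?_, rfl⟩)))⟩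
      rw [← MonoidHom.range_eq_top, hr, h]
    · have hmem : ∀ x, (f₀.comp π) x ∈ alternatingGroup (Fin 4) := by
        intro x
        rw [← h, ← hr]
        exact ⟨x, rfl⟩
      refine ⟨(f₀.comp π).ker, inferInstance, hZ, Or.inr (Or.inr (Or.inl
        ⟨(f₀.comp π).codRestrict (alternatingGroup (Fin 4)) hmem, ?_, ?_⟩))⟩
      · rintro ⟨y, hy⟩
        have hy' : y ∈ (f₀.comp π).range := by rw [hr, h]; exact hy
        obtain ⟨x, hx⟩ := hy'
        exact ⟨x, Subtype.ext hx⟩
      · exact MonoidHom.ker_codRestrict _ _ _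

end Cfsg.Agent.Lib.Helper2.Zfp
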