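import Cfsg.Agent.Lib.Helper2.Zfp50
import Cfsg.Agent.S0035

set_option autoImplicit false
set_option linter.style.haveILetI false

/-!
# Non-solvable groups of fixed-point-free automorphisms
-/

namespace Cfsg.Agent.Lib.Helper2.Zfp

open scoped TensorProduct Pointwise

universe u v

variable {G : Type u} [Group G] [Finite G] {K : Type v} [Group K] [Finite K]

set_option maxHeartbeats 800000 in
/-- the structure of a non-solvable group acting fixed-point-freely on a non-trivial finite group -/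
theorem nonsolvable_of_fpf_hom [Nontrivial K] (ψ : G →* MulAut K)
    (hfpf : ∀ g : G, g ≠ 1 → ∀ k : K, ψ g k = k → k = 1) (hns : ¬ Group.IsSolvable G) :
    ∃ G₀ : Subgroup G, G₀.Normal ∧ (G₀.index = 1 ∨ G₀.index = 2) ∧
      ∃ S M' : Subgroup G, S ⊔ M' = G₀ ∧ S ⊓ M' = ⊥ ∧ (∀ s ∈ S, ∀ x ∈ M', s * x = x * s) ∧
        Nonempty (S ≃* Matrix.SpecialLinearGroup (Fin 2) (ZMod 5)) ∧
        (∀ (q : ℕ) [Fact q.Prime] (P : Sylow q M'), IsCyclic P) ∧ (Nat.card M').Coprime 30 := by
  haveI hGnt : Nontrivial G := by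
    by_contra hG
    rw [not_nontrivial_iff_subsingleton] at hG
    exact hns inferInstance
  have hcard1 : Nat.card G ≠ 1 := by
    intro e
    have := (Nat.card_eq_one_iff_unique.mp e).1
    exact not_subsingleton G this
  set r := (Nat.card G).minFac with hr
  have hrp : r.Prime := Nat.minFac_prime hcard1
  haveI : Fact r.Prime := ⟨hrp⟩
  obtain ⟨g₀, hg₀⟩ := exists_prime_orderOf_dvd_card' (G := G) r (Nat.minFac_dvd _)
  have hg₀1 : g₀ ≠ 1 := by
    intro e
    rw [e, orderOf_one] at hg₀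
    exact hrp.one_lt.ne hg₀
  have hg₀r : (ψ g₀) ^ r = 1 := by
    have h1 : g₀ ^ r = 1 := by
      have := pow_orderOf_eq_one g₀
      rwa [hg₀] at this
    rw [← map_pow, h1, map_one]
  have hdata : Cfsg.Agent.Lib.Lead.Fpf.FpfData r (ψ g₀).toMonoidHom := by
    refine ⟨?_, ?_⟩
    · intro k hk
      exact hfpf g₀ hg₀1 k hk
    · intro k
      rw [← mulAut_pow_apply, hg₀r]
      rfl
  have hnil : Group.IsNilpotent K :=
    Cfsg.Agent.Lib.Lead.Fpf.nilpotent_of_fpf hrp (Nat.card K) K _ rfl hdata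
  have hZ : Subgroup.center K ≠ ⊥ := Group.IsNilpotent.center_ne_bot K
  have hZcard : Nat.card (Subgroup.center K) ≠ 1 := by
    intro e
    exact hZ (Subgroup.eq_bot_of_card_eq _ e)
  set ℓ := (Nat.card (Subgroup.center K)).minFac with hℓ
  have hℓp : ℓ.Prime := Nat.minFac_prime hZcard
  haveI : Fact ℓ.Prime := ⟨hℓp⟩
  obtain ⟨z₀, hz₀⟩ := exists_prime_orderOf_dvd_card' (G := Subgroup.center K) ℓ
    (Nat.minFac_dvd _)
  have hz₀mem : (z₀ : K) ∈ torsionCenter K ℓ := by
    refine ⟨z₀.2, ?_⟩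
    have h1 : z₀ ^ ℓ = 1 := by
      have := pow_orderOf_eq_one z₀
      rwa [hz₀] at this
    have := congrArg Subtype.val h1
    simpa using this
  have hz₀1 : (z₀ : K) ≠ 1 := by
    intro e
    have : z₀ = 1 := Subtype.ext e
    rw [this, orderOf_one] at hz₀
    exact hℓp.one_lt.ne hz₀
  haveI : Nontrivial (Additive (torsionCenter K ℓ)) := by
    refine ⟨⟨Additive.ofMul ⟨z₀, hz₀mem⟩, 0, ?_⟩⟩
    intro e
    apply hz₀1
    have : (⟨z₀, hz₀mem⟩ : torsionCenter K ℓ) = 1 := e
    exact congrArg Subtype.val this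
  haveI : Finite (Additive (torsionCenter K ℓ)) :=
    inferInstanceAs (Finite (torsionCenter K ℓ))
  have hfpf' : ∀ g : G, g ≠ 1 → ∀ v : Additive (torsionCenter K ℓ),
      ((torsionCenter.act ℓ).comp ψ) g v = v → v = 0 := by
    intro g hg v hv
    have h1 : (ψ g) ((Additive.toMul v : torsionCenter K ℓ) : K) =
        ((Additive.toMul v : torsionCenter K ℓ) : K) := by
      have := congrArg (fun w : Additive (torsionCenter K ℓ) =>
        ((Additive.toMul w : torsionCenter K ℓ) : K)) hv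
      exact this
    have h2 := hfpf g hg _ h1
    have h3 : (Additive.toMul v : torsionCenter K ℓ) = 1 := Subtype.ext h2
    exact h3
  haveI : Module.Finite (ZMod ℓ) (Additive (torsionCenter K ℓ)) := Module.Finite.of_finite
  haveI : Nontrivial (AlgebraicClosure (ZMod ℓ) ⊗[ZMod ℓ] (Additive (torsionCenter K ℓ))) := by
    have h1 : Module.finrank (AlgebraicClosure (ZMod ℓ))
        (AlgebraicClosure (ZMod ℓ) ⊗[ZMod ℓ] (Additive (torsionCenter K ℓ))) =
        Module.finrank (ZMod ℓ) (Additive (torsionCenter K ℓ)) := Module.finrank_baseChange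
    have h2 : 0 < Module.finrank (ZMod ℓ) (Additive (torsionCenter K ℓ)) := Module.finrank_pos
    rw [← h1] at h2
    exact Module.nontrivial_of_finrank_pos h2
  exact (Rep.ofLinear (AlgebraicClosure (ZMod ℓ)) ((torsionCenter.act ℓ).comp ψ)
    hfpf').nonsolvable_structure ℓ hns

/-- a Frobenius complement acts fixed-point-freely on the Frobenius kernel -/
theorem nonsolvable_of_complement {L : Type v} [Group L] [Finite L] (H : Subgroup L)
    (hH : Cfsg.IsFrobeniusComplement H) (e : G ≃* H) (hns : ¬ Group.IsSolvable G) :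
    ∃ G₀ : Subgroup G, G₀.Normal ∧ (G₀.index = 1 ∨ G₀.index = 2) ∧
      ∃ S M' : Subgroup G, S ⊔ M' = G₀ ∧ S ⊓ M' = ⊥ ∧ (∀ s ∈ S, ∀ x ∈ M', s * x = x * s) ∧
        Nonempty (S ≃* Matrix.SpecialLinearGroup (Fin 2) (ZMod 5)) ∧
        (∀ (q : ℕ) [Fact q.Prime] (P : Sylow q M'), IsCyclic P) ∧ (Nat.card M').Coprime 30 := by
  obtain ⟨N, hNk, hNn, hNc⟩ := Cfsg.Agent.S0035.result H hH
  haveI := hNn
  have hinf : N ⊓ H = ⊥ := hNc.disjoint.eq_bot
  haveI : Nontrivial N := by
    rw [Subgroup.nontrivial_iff_ne_bot]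
    intro hb
    have := hNc.sup_eq_top
    rw [hb, bot_sup_eq] at this
    exact hH.2.1 this
  let ψ : G →* MulAut N := (MulAut.conjNormal (H := N)).comp (H.subtype.comp e.toMonoidHom)
  apply nonsolvable_of_fpf_hom ψ _ hns
  intro g hg k hk
  by_contra hk1
  have h1 : ((e g : H) : L) * (k : L) * ((e g : H) : L)⁻¹ = (k : L) := by
    have := congrArg Subtype.val hk
    simpa [ψ, MulAut.conjNormal_apply] using this
  have hkH : (k : L) ∉ H := by
    intro hkH
    have : (k : L) ∈ N ⊓ H := Subgroup.mem_inf.mpr ⟨k.2, hkH⟩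
    rw [hinf, Subgroup.mem_bot] at this
    exact hk1 (Subtype.ext this)
  have h2 := hH.2.2 (k : L) hkH
  have h3 : ((e g : H) : L) ∈ H ⊓ MulAut.conj (k : L) • H := by
    refine Subgroup.mem_inf.mpr ⟨(e g).2, ?_⟩
    rw [Subgroup.mem_pointwise_smul_iff_inv_smul_mem]
    have h4 : (MulAut.conj (k : L))⁻¹ • ((e g : H) : L) = (k : L)⁻¹ * ((e g : H) : L) * (k : L) := by
      simp [MulAut.smul_def, MulAut.conj_inv_apply]
    rw [h4]
    have h5 : (k : L)⁻¹ * ((e g : H) : L) * (k : L) = ((e g : H) : L) := by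
      calc (k : L)⁻¹ * ((e g : H) : L) * (k : L)
          = (k : L)⁻¹ * (((e g : H) : L) * (k : L) * ((e g : H) : L)⁻¹) * ((e g : H) : L) := by
            group
        _ = ((e g : H) : L) := by rw [h1]; group
    rw [h5]
    exact (e g).2
  rw [h2, Subgroup.mem_bot] at h3
  apply hg
  have : e g = 1 := Subtype.ext h3
  exact e.injective (by rw [this, map_one])

end Cfsg.Agent.Lib.Helper2.Zfp
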