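import Mathlib
import Cfsg.Agent.Lib.Helper2.Zfc6
import Cfsg.Agent.Lib.Helper2.Zfp51

set_option autoImplicit false
set_option linter.style.haveILetI false

/-!
# The core of a group with a fixed-point-free representation
-/

namespace Cfsg.Agent.Lib.Helper2.Zfp

open Cfsg

universe u

/-- a subgroup of index two of a symmetric group is the alternating group -/
theorem eq_alternating_of_index_two {n : ℕ} (hn : 2 ≤ n) (R : Subgroup (Equiv.Perm (Fin n)))
    (hidx : R.index = 2) : R = alternatingGroup (Fin n) := by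
  haveI : Nontrivial (Fin n) := Fin.nontrivial_iff_two_le.mpr hn
  have hle : alternatingGroup (Fin n) ≤ R := by
    rw [← Equiv.Perm.closure_three_cycles_eq_alternating, Subgroup.closure_le]
    intro c hc
    have h3 : c ^ 3 = 1 := by
      have := hc.orderOf
      rw [← this]; exact pow_orderOf_eq_one c
    have h1 := Subgroup.sq_mem_of_index_two hidx (c ^ 2)
    have h2 : (c ^ 2) ^ 2 = c := by
      rw [← pow_mul]
      calc c ^ (2 * 2) = c ^ 3 * c := by rw [← pow_succ]
        _ = c := by rw [h3, one_mul]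
    rw [h2] at h1
    exact h1
  symm
  apply Subgroup.eq_of_le_of_card_ge hle
  have h1 := R.card_mul_index
  rw [hidx] at h1
  have h2 := two_mul_card_alternatingGroup (α := Fin n)
  rw [← Nat.card_eq_fintype_card, ← Nat.card_eq_fintype_card] at h2
  omega

/-- the order of the image of a subgroup -/
theorem card_map_mul_card_ker_inf {G X : Type*} [Group G] [Group X] (f : G →* X) (L : Subgroup G) :
    Nat.card (L.map f) * Nat.card (f.ker ⊓ L : Subgroup G) = Nat.card L := by
  rw [← Subgroup.relIndex_ker]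
  have h1 := (f.ker.subgroupOf L).card_mul_index
  have h2 : Nat.card (f.ker.subgroupOf L) = Nat.card (f.ker ⊓ L : Subgroup G) := by
    rw [← Subgroup.inf_subgroupOf_right]
    exact Nat.card_congr (Subgroup.subgroupOfEquivOfLe inf_le_right).toEquiv
  rw [h2] at h1
  rw [mul_comm]
  exact h1

variable {G : Type u} [Group G] [Finite G] {E : Type*} [Field E] [IsAlgClosed E] {M : Type*}
  [AddCommGroup M] [Module E M] [FiniteDimensional E M] [Nontrivial M]

set_option maxHeartbeats 1600000 in
/-- the core of a non-solvable group -/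
theorem Rep.exists_core_nonsolvable (R : Rep G E M) (p : ℕ) [Fact p.Prime] [CharP E p]
    (hns : ¬ Group.IsSolvable G) :
    ∃ N : Subgroup G, N.Normal ∧ IsZGroup N ∧ Six N := by
  haveI : Fact (Nat.Prime 2) := ⟨Nat.prime_two⟩
  obtain ⟨n, hn⟩ := Cfsg.Agent.H9Perfect.exists_perfect_core G
  set L : Subgroup G := derivedSeries G n with hLdef
  have hLp : commutator L = ⊤ := Cfsg.Agent.H9Perfect.commutator_core_eq_top n hn
  have hL : L ≠ ⊥ := by
    intro hb
    exact hns ((Group.isSolvable_def G).mpr ⟨n, hb⟩)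
  haveI hLn : L.Normal := derivedSeries_normal G n
  haveI : Nontrivial L := (Subgroup.nontrivial_iff_ne_bot L).mpr hL
  obtain ⟨z, t, x, hD⟩ := R.exists_coreData p L hLp hL
  set C : Subgroup G := Subgroup.centralizer (L : Set G) with hCdef
  haveI hCn : C.Normal := Subgroup.normal_centralizer
  have h4C : ¬ 4 ∣ Nat.card C := hD.not_four_dvd R
  have hiC : C.index ∣ 120 := R.index_centralizer_dvd p L hLp hL
  have hcyc : ∀ D : Subgroup G, D ≤ C → IsPGroup 2 D → IsCyclic D := by
    intro D hDC hD2
    apply isCyclic_of_card_le_two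
    obtain ⟨k, hk⟩ := (IsPGroup.iff_card.mp hD2)
    have hdvd : Nat.card D ∣ Nat.card C := Subgroup.card_dvd_of_le hDC
    rw [hk] at hdvd ⊢
    have hk2 : k < 2 := by
      by_contra hge
      push Not at hge
      apply h4C
      exact (pow_dvd_pow 2 hge).trans hdvd
    interval_cases k <;> norm_num
  have hCZ : IsZGroup C := R.isZGroup_of_two C hcyc
  -- the action on the five Sylow `2`-subgroups
  have h5 : Nat.card (Sylow 2 L) = 5 := (R.sub L).card_sylow_two_of_perfect p hLp
  have hker : (sylowAct L).ker = C := by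
    apply le_antisymm (R.ker_sylowAct_le p L hLp hL)
    intro c hc
    rw [MonoidHom.mem_ker]
    have h1 : (MulAut.conjNormal c : MulAut L) = 1 := by
      apply MulEquiv.ext
      intro l
      apply Subtype.ext
      rw [MulAut.one_apply, MulAut.conjNormal_apply]
      have := (Subgroup.mem_centralizer_iff.mp hc) l.1 l.2
      calc c * (l : G) * c⁻¹ = ((l : G) * c) * c⁻¹ := by rw [this]
        _ = l := by group
    show (MulAction.toPermHom (MulAut L) (Sylow 2 L)) (MulAut.conjNormal c) = 1
    rw [h1, map_one]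
  let ε : Sylow 2 L ≃ Fin 5 := (Nat.equivFinOfCardPos (by rw [h5]; norm_num)).trans (finCongr h5)
  set f : G →* Equiv.Perm (Fin 5) := (Equiv.permCongrHom ε).toMonoidHom.comp (sylowAct L) with hf
  have hfker : f.ker = C := by
    rw [← hker]
    ext g
    rw [MonoidHom.mem_ker, MonoidHom.mem_ker]
    constructor
    · intro h
      have h1 : (Equiv.permCongrHom ε) (sylowAct L g) = 1 := h
      exact (Equiv.permCongrHom ε).injective (by rw [h1, map_one])
    · intro h
      show (Equiv.permCongrHom ε) (sylowAct L g) = 1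
      rw [h, map_one]
  -- the order of the image
  have hLC : (C ⊓ L : Subgroup G) = Subgroup.zpowers z := by
    apply le_antisymm
    · intro g hg
      rcases hD.inf_centralizer (Subgroup.mem_inf.mp hg).2 (Subgroup.mem_inf.mp hg).1 with e | e
      · rw [e]; exact Subgroup.one_mem _
      · rw [e]; exact Subgroup.mem_zpowers _
    · rw [Subgroup.zpowers_le]
      exact Subgroup.mem_inf.mpr ⟨hD.z_mem_centralizer R, hD.z_mem⟩
  have h60 : Nat.card (L.map f) = 60 := by
    have h1 := card_map_mul_card_ker_inf f L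
    rw [hfker, hLC, Nat.card_zpowers, hD.orderOf_z, hD.card] at h1
    omega
  have hr60 : 60 ∣ Nat.card f.range := by
    rw [← h60]
    apply Subgroup.card_dvd_of_le
    rintro _ ⟨l, -, rfl⟩
    exact ⟨l, rfl⟩
  have hr120 : Nat.card f.range ∣ 120 := by
    rw [← Subgroup.index_ker, hfker]; exact hiC
  have hcases : Nat.card f.range = 60 ∨ Nat.card f.range = 120 := by
    obtain ⟨a, ha⟩ := hr60
    obtain ⟨b, hb⟩ := hr120
    rw [ha] at hb ⊢
    have : a * b = 2 := by nlinarith
    have ha2 : a ∣ 2 := ⟨b, this.symm⟩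
    have := Nat.le_of_dvd (by norm_num) ha2
    interval_cases a <;> omega
  refine ⟨C, hCn, hCZ, ?_⟩
  have hS5 : Nat.card (Equiv.Perm (Fin 5)) = 120 := card_S5'
  rcases hcases with h | h
  · have hidx : f.range.index = 2 := by
      have h1 := f.range.card_mul_index
      rw [h, hS5] at h1
      omega
    have hrange : f.range = alternatingGroup (Fin 5) := eq_alternating_of_index_two (by norm_num) _ hidx
    have hmem : ∀ x, f x ∈ alternatingGroup (Fin 5) := by
      intro x
      rw [← hrange]
      exact ⟨x, rfl⟩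
    refine Or.inr (Or.inr (Or.inr (Or.inr (Or.inl
      ⟨f.codRestrict (alternatingGroup (Fin 5)) hmem, ?_, ?_⟩))))
    · rintro ⟨y, hy⟩
      have hy' : y ∈ f.range := by rw [hrange]; exact hy
      obtain ⟨x, hx⟩ := hy'
      exact ⟨x, Subtype.ext hx⟩
    · rw [MonoidHom.ker_codRestrict, hfker]
  · refine Or.inr (Or.inr (Or.inr (Or.inr (Or.inr ⟨f, ?_, hfker⟩))))
    rw [← MonoidHom.range_eq_top]
    apply Subgroup.eq_top_of_card_eq
    rw [h, hS5]

/-- a Sylow `2`-subgroup is generated by two elements in a controlled way -/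
theorem Rep.sylow_two_gens (R : Rep G E M) :
    ∃ (P : Sylow 2 G) (c t : G), ∀ x ∈ (P : Subgroup G), ∃ i : ℕ, x = c ^ i ∨ x = t * c ^ i := by
  haveI : Fact (Nat.Prime 2) := ⟨Nat.prime_two⟩
  obtain ⟨P⟩ : Nonempty (Sylow 2 G) := inferInstance
  rcases R.pgroup_structure 2 (P : Subgroup G) P.2 with h | ⟨-, n, ⟨e⟩⟩
  · obtain ⟨c, hc⟩ := h.exists_generator
    refine ⟨P, (c : G), 1, ?_⟩
    intro x hx
    have h1 := hc ⟨x, hx⟩
    rw [Subgroup.mem_zpowers_iff] at h1
    obtain ⟨k, hk⟩ := h1
    have hfin : IsOfFinOrder c := isOfFinOrder_of_finite c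
    obtain ⟨i, hi⟩ : ∃ i : ℕ, c ^ i = c ^ k := by
      have := hfin.mem_powers_iff_mem_zpowers.mpr ⟨k, rfl⟩
      exact this
    refine ⟨i, Or.inl ?_⟩
    have h2 : c ^ i = ⟨x, hx⟩ := by rw [hi, hk]
    have := congrArg Subtype.val h2
    simpa using this.symm
  · haveI : NeZero (2 ^ n) := ⟨by positivity⟩
    refine ⟨P, ((e.symm (QuaternionGroup.a 1) : P) : G), ((e.symm (QuaternionGroup.xa 0) : P) : G), ?_⟩
    intro x hx
    cases hq : e ⟨x, hx⟩ with
    | a i =>
      refine ⟨i.val, Or.inl ?_⟩
      have h1 : (⟨x, hx⟩ : P) = (e.symm (QuaternionGroup.a 1)) ^ i.val := by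
        apply e.injective
        rw [map_pow, MulEquiv.apply_symm_apply, hq, QuaternionGroup.a_one_pow,
          ZMod.natCast_zmod_val]
      have := congrArg Subtype.val h1
      simpa using this
    | xa i =>
      refine ⟨i.val, Or.inr ?_⟩
      have h1 : (⟨x, hx⟩ : P) = e.symm (QuaternionGroup.xa 0) * (e.symm (QuaternionGroup.a 1)) ^ i.val := by
        apply e.injective
        rw [map_mul, map_pow, MulEquiv.apply_symm_apply, MulEquiv.apply_symm_apply, hq,
          QuaternionGroup.a_one_pow, ZMod.natCast_zmod_val, QuaternionGroup.xa_mul_a, zero_add]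
      have := congrArg Subtype.val h1
      simpa using this

/-- existence and uniqueness of the core -/
theorem Rep.existsUnique_core (R : Rep G E M) (p : ℕ) [Fact p.Prime] [CharP E p] :
    ∃! N : Subgroup G, N.Normal ∧ IsZGroup N ∧ Six N := by
  haveI : Fact (Nat.Prime 2) := ⟨Nat.prime_two⟩
  have hex : ∃ N : Subgroup G, N.Normal ∧ IsZGroup N ∧ Six N := by
    by_cases hsolv : Group.IsSolvable G
    · obtain ⟨P⟩ : Nonempty (Sylow 2 G) := inferInstance
      by_cases hP : IsCyclic P
      · refine ⟨⊤, inferInstance, ?_, Or.inl rfl⟩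
        apply R.isZGroup_of_two
        intro S _ hS
        obtain ⟨g, hg⟩ := hS.exists_le_sylow
        -- all Sylow subgroups are conjugate to `P`
        obtain ⟨Q, hQ⟩ := hS.exists_le_sylow
        obtain ⟨g, rfl⟩ := MulAction.exists_smul_eq G P Q
        haveI : IsCyclic ((g • P : Sylow 2 G) : Subgroup G) := by
          have e : (P : Subgroup G) ≃* ((g • P : Sylow 2 G) : Subgroup G) :=
            (Sylow.equivSMul P g)
          exact isCyclic_of_surjective e.toMonoidHom e.surjective
        exact Subgroup.isCyclic_of_le hQ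
      · exact R.exists_core_solvable hsolv P hP
    · exact R.exists_core_nonsolvable p hsolv
  obtain ⟨N, hN⟩ := hex
  refine ⟨N, hN, ?_⟩
  rintro N' ⟨hn', hZ', h6'⟩
  haveI := hn'
  haveI := hN.1
  exact (core_unique R.sylow_two_gens hN.2.1 hZ' hN.2.2 h6').symm

end Cfsg.Agent.Lib.Helper2.Zfp
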