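import Mathlib

set_option autoImplicit false
set_option linter.style.haveILetI false

/-!
# The metacyclic presentation `⟨x, y | x^n, y^m, x⁻¹ y x = y^r⟩`
-/

namespace Cfsg.Agent.Lib.Helper2.Zfp

/-- the relators of the metacyclic presentation -/
def metaRels (n m r : ℕ) : Set (FreeGroup (Fin 2)) :=
  {FreeGroup.of (0 : Fin 2) ^ n, FreeGroup.of (1 : Fin 2) ^ m,
    (FreeGroup.of (0 : Fin 2))⁻¹ * FreeGroup.of 1 * FreeGroup.of 0 *
      (FreeGroup.of (1 : Fin 2) ^ r)⁻¹}

section

variable {H : Type*} [Group H]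

theorem conj_rel_pow {X Y : H} {r : ℕ} (h : X⁻¹ * Y * X = Y ^ r) (j : ℕ) :
    Y ^ j * X = X * Y ^ (r * j) := by
  have h1 : X⁻¹ * Y ^ j * X = Y ^ (r * j) := by
    have := conj_pow (a := X⁻¹) (b := Y) (i := j)
    rw [inv_inv] at this
    rw [← this, h, ← pow_mul]
  calc Y ^ j * X = X * (X⁻¹ * Y ^ j * X) := by group
    _ = X * Y ^ (r * j) := by rw [h1]

theorem conj_rel_pow_pow {X Y : H} {r : ℕ} (h : X⁻¹ * Y * X = Y ^ r) (j k : ℕ) :
    Y ^ j * X ^ k = X ^ k * Y ^ (r ^ k * j) := by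
  induction k generalizing j with
  | zero => simp
  | succ k ih =>
    rw [pow_succ, ← mul_assoc, ih, mul_assoc, conj_rel_pow h, ← mul_assoc]
    congr 2
    ring

end

variable (n m r : ℕ)

theorem meta_X_pow : (PresentedGroup.of 0 : PresentedGroup (metaRels n m r)) ^ n = 1 := by
  have h : FreeGroup.of (0 : Fin 2) ^ n ∈ metaRels n m r := by simp [metaRels]
  have := PresentedGroup.one_of_mem h
  rwa [map_pow] at this

theorem meta_Y_pow : (PresentedGroup.of 1 : PresentedGroup (metaRels n m r)) ^ m = 1 := by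
  have h : FreeGroup.of (1 : Fin 2) ^ m ∈ metaRels n m r := by simp [metaRels]
  have := PresentedGroup.one_of_mem h
  rwa [map_pow] at this

theorem meta_rel : (PresentedGroup.of 0 : PresentedGroup (metaRels n m r))⁻¹ *
    PresentedGroup.of 1 * PresentedGroup.of 0 = PresentedGroup.of 1 ^ r := by
  have h : (FreeGroup.of (0 : Fin 2))⁻¹ * FreeGroup.of 1 * FreeGroup.of 0 *
      (FreeGroup.of (1 : Fin 2) ^ r)⁻¹ ∈ metaRels n m r := by simp [metaRels]
  have := PresentedGroup.one_of_mem h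
  rw [map_mul, map_mul, map_mul, map_inv, map_inv, map_pow] at this
  exact mul_inv_eq_one.mp this

theorem meta_normal_form (hn : 0 < n) (hm : 0 < m) (g : PresentedGroup (metaRels n m r)) :
    ∃ i j : ℕ, g = PresentedGroup.of 0 ^ i * PresentedGroup.of 1 ^ j := by
  set X : PresentedGroup (metaRels n m r) := PresentedGroup.of 0 with hX
  set Y : PresentedGroup (metaRels n m r) := PresentedGroup.of 1 with hY
  have hXn : X ^ n = 1 := meta_X_pow n m r
  have hYm : Y ^ m = 1 := meta_Y_pow n m r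
  have hrel : X⁻¹ * Y * X = Y ^ r := meta_rel n m r
  have hg : g ∈ Subgroup.closure (Set.range
      (PresentedGroup.of : Fin 2 → PresentedGroup (metaRels n m r))) := by
    rw [PresentedGroup.closure_range_of]; exact Subgroup.mem_top g
  have hXinv : X⁻¹ = X ^ (n - 1) := by
    rw [inv_eq_iff_mul_eq_one, ← pow_succ', Nat.sub_add_cancel hn, hXn]
  have hYinv : Y⁻¹ = Y ^ (m - 1) := by
    rw [inv_eq_iff_mul_eq_one, ← pow_succ', Nat.sub_add_cancel hm, hYm]
  have key : ∀ i j k : ℕ, ∃ i' j' : ℕ, X ^ i * Y ^ j * X ^ k = X ^ i' * Y ^ j' := by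
    intro i j k
    refine ⟨i + k, r ^ k * j, ?_⟩
    rw [mul_assoc, conj_rel_pow_pow hrel, ← mul_assoc, ← pow_add]
  induction hg using Subgroup.closure_induction_right with
  | one => exact ⟨0, 0, by simp⟩
  | mul_right g hg s hs ih =>
    obtain ⟨i, j, rfl⟩ := ih
    obtain ⟨k, rfl⟩ := hs
    obtain rfl | rfl : k = 0 ∨ k = 1 := by fin_cases k <;> simp
    · have := key i j 1
      rw [pow_one] at this
      exact this
    · exact ⟨i, j + 1, by rw [mul_assoc, ← pow_succ]⟩
  | mul_inv_cancel g hg s hs ih =>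
    obtain ⟨i, j, rfl⟩ := ih
    obtain ⟨k, rfl⟩ := hs
    obtain rfl | rfl : k = 0 ∨ k = 1 := by fin_cases k <;> simp
    · show ∃ i' j', X ^ i * Y ^ j * X⁻¹ = X ^ i' * Y ^ j'
      rw [hXinv]
      exact key i j (n - 1)
    · show ∃ i' j', X ^ i * Y ^ j * Y⁻¹ = X ^ i' * Y ^ j'
      exact ⟨i, j + (m - 1), by rw [hYinv, mul_assoc, ← pow_add]⟩

theorem meta_finite (hn : 0 < n) (hm : 0 < m) :
    Finite (PresentedGroup (metaRels n m r)) ∧ Nat.card (PresentedGroup (metaRels n m r)) ≤ n * m := by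
  let F : Fin n × Fin m → PresentedGroup (metaRels n m r) :=
    fun p => PresentedGroup.of 0 ^ (p.1 : ℕ) * PresentedGroup.of 1 ^ (p.2 : ℕ)
  have hF : Function.Surjective F := by
    intro g
    obtain ⟨i, j, rfl⟩ := meta_normal_form n m r hn hm g
    refine ⟨(⟨i % n, Nat.mod_lt i hn⟩, ⟨j % m, Nat.mod_lt j hm⟩), ?_⟩
    show PresentedGroup.of 0 ^ (i % n) * PresentedGroup.of 1 ^ (j % m) = _
    rw [← pow_eq_pow_mod i (meta_X_pow n m r), ← pow_eq_pow_mod j (meta_Y_pow n m r)]
  haveI : Finite (PresentedGroup (metaRels n m r)) := Finite.of_surjective F hF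
  refine ⟨inferInstance, ?_⟩
  have := Nat.card_le_card_of_surjective F hF
  rwa [Nat.card_prod, Nat.card_fin, Nat.card_fin] at this

/-- recognition of the metacyclic presentation -/
theorem meta_equiv {N : Type*} [Group N] [Finite N] (x y : N) (hn : 0 < n) (hm : 0 < m)
    (hx : x ^ n = 1) (hy : y ^ m = 1) (hrel : x⁻¹ * y * x = y ^ r)
    (hgen : Subgroup.closure ({x, y} : Set N) = ⊤) (hcard : Nat.card N = n * m) :
    Nonempty (N ≃* PresentedGroup (metaRels n m r)) := by
  have hrels : ∀ w ∈ metaRels n m r, FreeGroup.lift ![x, y] w = 1 := by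
    intro w hw
    simp only [metaRels, Set.mem_insert_iff, Set.mem_singleton_iff] at hw
    rcases hw with rfl | rfl | rfl
    · simp [hx]
    · simp [hy]
    · simp only [map_mul, map_inv, map_pow, FreeGroup.lift_apply_of, Matrix.cons_val_zero,
        Matrix.cons_val_one]
      rw [hrel, mul_inv_cancel]
  set φ : PresentedGroup (metaRels n m r) →* N := PresentedGroup.toGroup hrels with hφ
  have hφ0 : φ (PresentedGroup.of 0) = x := by
    rw [hφ, PresentedGroup.toGroup.of]; rfl
  have hφ1 : φ (PresentedGroup.of 1) = y := by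
    rw [hφ, PresentedGroup.toGroup.of]; rfl
  have hsurj : Function.Surjective φ := by
    rw [← MonoidHom.range_eq_top, eq_top_iff, ← hgen, Subgroup.closure_le]
    intro g hg
    simp only [Set.mem_insert_iff, Set.mem_singleton_iff] at hg
    rcases hg with rfl | rfl
    · exact ⟨_, hφ0⟩
    · exact ⟨_, hφ1⟩
  obtain ⟨hfin, hle⟩ := meta_finite n m r hn hm
  haveI := hfin
  have hbij : Function.Bijective φ := hsurj.bijective_of_nat_card_le (by rw [hcard]; exact hle)
  exact ⟨(MulEquiv.ofBijective φ hbij).symm⟩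

end Cfsg.Agent.Lib.Helper2.Zfp
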