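import Mathlib

set_option autoImplicit false
set_option linter.style.haveILetI false

/-!
# Generators of a finite Z-group
-/

namespace Cfsg.Agent.Lib.Helper2.Zfp

open scoped commutatorElement

variable {N : Type*} [Group N]

theorem conj_pow_rel {x y : N} {r : ℕ} (h : x⁻¹ * y * x = y ^ r) (k : ℕ) :
    x⁻¹ * y ^ k * x = (y ^ k) ^ r := by
  have := conj_pow (a := x⁻¹) (b := y) (i := k)
  rw [inv_inv] at this
  rw [← this, h, ← pow_mul, ← pow_mul, mul_comm]

/-- if the commutator subgroup is generated by `y` and `x⁻¹ y x = y ^ r` with `x`, `y` generating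
the group, then `r - 1` is prime to the order of `y` -/
theorem coprime_of_commutator [Finite N] {x y : N} {r : ℕ} (hr : 1 ≤ r)
    (hrel : x⁻¹ * y * x = y ^ r) (hgen : Subgroup.closure ({x, y} : Set N) = ⊤)
    (hy : y ∈ commutator N) : Nat.Coprime (r - 1) (orderOf y) := by
  set w : N := y ^ (r - 1) with hw
  set D : Subgroup N := Subgroup.zpowers w with hD
  have hwx : x⁻¹ * w * x = w ^ r := conj_pow_rel hrel (r - 1)
  have hyw : y * w = w * y := by
    rw [hw, ← pow_succ', ← pow_succ]
  -- conjugation by `x⁻¹` and by `y`, `y⁻¹` preserves `D`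
  have hA1 : ∀ h ∈ D, x⁻¹ * h * (x⁻¹)⁻¹ ∈ D := by
    intro h hh
    obtain ⟨k, rfl⟩ := Subgroup.mem_zpowers_iff.mp hh
    rw [inv_inv]
    have : x⁻¹ * w ^ k * x = (x⁻¹ * w * x) ^ k := by
      have := conj_zpow (a := x⁻¹) (b := w) (i := k)
      rw [inv_inv] at this
      exact this.symm
    rw [this, hwx]
    exact Subgroup.zpow_mem _ (Subgroup.pow_mem _ (Subgroup.mem_zpowers w) r) k
  have hAy : ∀ h ∈ D, y * h * y⁻¹ = h := by
    intro h hh
    obtain ⟨k, rfl⟩ := Subgroup.mem_zpowers_iff.mp hh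
    have hc : Commute y w := hyw
    have := (hc.zpow_right k).eq
    rw [this, mul_inv_cancel_right]
  have hxfin : ∃ j : ℕ, x = (x⁻¹) ^ j := by
    refine ⟨orderOf x - 1, ?_⟩
    have h1 : x ^ orderOf x = 1 := pow_orderOf_eq_one x
    have hpos : 0 < orderOf x := orderOf_pos x
    rw [inv_pow, eq_inv_iff_mul_eq_one, ← pow_succ', Nat.sub_add_cancel hpos, h1]
  have hApow : ∀ j : ℕ, ∀ h ∈ D, (x⁻¹) ^ j * h * ((x⁻¹) ^ j)⁻¹ ∈ D := by
    intro j
    induction j with
    | zero => intro h hh; simpa using hh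
    | succ j ih =>
      intro h hh
      have := ih _ (hA1 h hh)
      have e : (x⁻¹) ^ (j + 1) * h * ((x⁻¹) ^ (j + 1))⁻¹ =
          (x⁻¹) ^ j * (x⁻¹ * h * (x⁻¹)⁻¹) * ((x⁻¹) ^ j)⁻¹ := by
        rw [pow_succ]; group
      rw [e]; exact this
  have hA2 : ∀ h ∈ D, x * h * x⁻¹ ∈ D := by
    obtain ⟨j, hj⟩ := hxfin
    intro h hh
    have := hApow j h hh
    rwa [← hj] at this
  have hDn : D.Normal := by
    constructor
    intro h hh g
    have hg : g ∈ Subgroup.closure ({x, y} : Set N) := by rw [hgen]; exact Subgroup.mem_top g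
    have key : (∀ h ∈ D, g * h * g⁻¹ ∈ D) ∧ (∀ h ∈ D, g⁻¹ * h * g⁻¹⁻¹ ∈ D) := by
      induction hg using Subgroup.closure_induction with
      | mem g hg =>
        simp only [Set.mem_insert_iff, Set.mem_singleton_iff] at hg
        rcases hg with e | e
        · rw [e]; exact ⟨hA2, hA1⟩
        · rw [e]
          refine ⟨fun h hh => by rw [hAy h hh]; exact hh, fun h hh => ?_⟩
          have h1 := hAy h hh
          have h2 : y⁻¹ * h * y⁻¹⁻¹ = h := by
            rw [inv_inv]
            calc y⁻¹ * h * y = y⁻¹ * (y * h * y⁻¹) * y := by rw [h1]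
              _ = h := by group
          rw [h2]; exact hh
      | one => simp
      | mul a b ha hb iha ihb =>
        refine ⟨fun h hh => ?_, fun h hh => ?_⟩
        · have := iha.1 _ (ihb.1 h hh)
          have e : a * b * h * (a * b)⁻¹ = a * (b * h * b⁻¹) * a⁻¹ := by group
          rw [e]; exact this
        · have := ihb.2 _ (iha.2 h hh)
          have e : (a * b)⁻¹ * h * (a * b)⁻¹⁻¹ = b⁻¹ * (a⁻¹ * h * a⁻¹⁻¹) * b⁻¹⁻¹ := by group
          rw [e]; exact this
      | inv a ha iha => exact ⟨iha.2, by rw [inv_inv]; exact iha.1⟩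
    exact key.1 h hh
  -- the quotient is commutative
  haveI := hDn
  set π : N →* N ⧸ D := QuotientGroup.mk' D with hπ
  have hxy : π x * π y = π y * π x := by
    have h1 : y⁻¹ * x⁻¹ * y * x ∈ D := by
      have : y⁻¹ * x⁻¹ * y * x = w := by
        calc y⁻¹ * x⁻¹ * y * x = y⁻¹ * (x⁻¹ * y * x) := by group
          _ = y⁻¹ * y ^ r := by rw [hrel]
          _ = w := by
            rw [hw]
            have : r = (r - 1) + 1 := by omega
            conv_lhs => rw [this, pow_succ']
            group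
      rw [this]; exact Subgroup.mem_zpowers w
    have h2 : π (y⁻¹ * x⁻¹ * y * x) = 1 := (QuotientGroup.eq_one_iff _).mpr h1
    rw [map_mul, map_mul, map_mul, map_inv, map_inv] at h2
    calc π x * π y = π y * π x * ((π y)⁻¹ * (π x)⁻¹ * π y * π x)⁻¹ := by group
      _ = π y * π x := by rw [h2, inv_one, mul_one]
  have hcomm : ∀ a b : N ⧸ D, a * b = b * a := by
    have hcl : Subgroup.closure ({π x, π y} : Set (N ⧸ D)) = ⊤ := by
      have : ({π x, π y} : Set (N ⧸ D)) = π '' ({x, y} : Set N) := by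
        rw [Set.image_pair]
      rw [this, ← MonoidHom.map_closure, hgen, ← MonoidHom.range_eq_map,
        MonoidHom.range_eq_top.mpr (QuotientGroup.mk'_surjective D)]
    have hc : ∀ u ∈ ({π x, π y} : Set (N ⧸ D)), ∀ v ∈ ({π x, π y} : Set (N ⧸ D)),
        u * v = v * u := by
      intro u hu v hv
      simp only [Set.mem_insert_iff, Set.mem_singleton_iff] at hu hv
      rcases hu with rfl | rfl <;> rcases hv with rfl | rfl
      · rfl
      · exact hxy
      · exact hxy.symm
      · rfl
    letI := Subgroup.closureCommGroupOfComm hc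
    intro a b
    have ha : a ∈ Subgroup.closure ({π x, π y} : Set (N ⧸ D)) := by
      rw [hcl]; exact Subgroup.mem_top a
    have hb : b ∈ Subgroup.closure ({π x, π y} : Set (N ⧸ D)) := by
      rw [hcl]; exact Subgroup.mem_top b
    have := mul_comm (⟨a, ha⟩ : Subgroup.closure ({π x, π y} : Set (N ⧸ D))) ⟨b, hb⟩
    exact congrArg Subtype.val this
  have hle : commutator N ≤ D := by
    rw [commutator_eq_closure, Subgroup.closure_le]
    rintro g ⟨a, b, rfl⟩
    rw [SetLike.mem_coe, ← QuotientGroup.eq_one_iff]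
    show π ⁅a, b⁆ = 1
    rw [commutatorElement_def, map_mul, map_mul, map_mul, map_inv, map_inv, hcomm (π a) (π b)]
    group
  have hyD : y ∈ D := hle hy
  obtain ⟨k, hk⟩ : ∃ k : ℕ, w ^ k = y := by
    have hfin : IsOfFinOrder w := isOfFinOrder_of_finite w
    exact hfin.mem_powers_iff_mem_zpowers.mpr hyD
  rw [hw, ← pow_mul] at hk
  have h1 : y ^ ((r - 1) * k) = y ^ 1 := by rw [hk, pow_one]
  have h2 := pow_eq_pow_iff_modEq.mp h1
  exact Nat.coprime_of_mul_modEq_one k h2

/-- generators and parameters of a finite Z-group -/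
theorem zgroup_data [Finite N] [IsZGroup N] :
    ∃ (x y : N) (n m r : ℕ), 0 < n ∧ 0 < m ∧ 1 ≤ r ∧ orderOf x = n ∧ orderOf y = m ∧
      x⁻¹ * y * x = y ^ r ∧ Subgroup.closure ({x, y} : Set N) = ⊤ ∧ Nat.card N = n * m ∧
      Nat.Coprime n m ∧ Nat.Coprime (r - 1) m ∧ ∀ g : N, g * y * g⁻¹ ∈ Subgroup.zpowers y := by
  haveI hcyc : IsCyclic (commutator N) := IsZGroup.isCyclic_commutator N
  obtain ⟨y₀, hy₀⟩ := IsCyclic.exists_generator (α := commutator N)
  have hcop := IsZGroup.coprime_commutator_index N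
  obtain ⟨H, hH⟩ := Subgroup.exists_right_complement'_of_coprime hcop
  have e1 : Abelianization N ≃* H := hH.symm.QuotientMulEquiv
  haveI : IsCyclic H := isCyclic_of_surjective _ e1.surjective
  obtain ⟨x₀, hx₀⟩ := IsCyclic.exists_generator (α := H)
  set x : N := (x₀ : N) with hx
  set y : N := (y₀ : N) with hy
  have hym : orderOf y = Nat.card (commutator N) := by
    rw [hy, Subgroup.orderOf_coe]
    exact orderOf_eq_card_of_forall_mem_zpowers hy₀
  have hxn : orderOf x = Nat.card H := by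
    rw [hx, Subgroup.orderOf_coe]
    exact orderOf_eq_card_of_forall_mem_zpowers hx₀
  have hmem_y : ∀ g ∈ commutator N, g ∈ Subgroup.zpowers y := by
    intro g hg
    obtain ⟨k, hk⟩ := Subgroup.mem_zpowers_iff.mp (hy₀ ⟨g, hg⟩)
    refine Subgroup.mem_zpowers_iff.mpr ⟨k, ?_⟩
    have := congrArg Subtype.val hk
    simpa using this
  have hmem_x : ∀ g ∈ H, g ∈ Subgroup.zpowers x := by
    intro g hg
    obtain ⟨k, hk⟩ := Subgroup.mem_zpowers_iff.mp (hx₀ ⟨g, hg⟩)
    refine Subgroup.mem_zpowers_iff.mpr ⟨k, ?_⟩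
    have := congrArg Subtype.val hk
    simpa using this
  have hconj : x⁻¹ * y * x ∈ commutator N := by
    have hn : (commutator N).Normal := inferInstance
    have := hn.conj_mem y y₀.2 x⁻¹
    rwa [inv_inv] at this
  obtain ⟨k, hk⟩ : ∃ k : ℕ, y ^ k = x⁻¹ * y * x := by
    have hfin : IsOfFinOrder y := isOfFinOrder_of_finite y
    exact hfin.mem_powers_iff_mem_zpowers.mpr (hmem_y _ hconj)
  have hmpos : 0 < orderOf y := orderOf_pos y
  have hrel : x⁻¹ * y * x = y ^ (k % orderOf y + orderOf y) := by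
    rw [pow_add, pow_orderOf_eq_one, mul_one, pow_mod_orderOf, hk]
  have hgen : Subgroup.closure ({x, y} : Set N) = ⊤ := by
    rw [eq_top_iff, ← hH.sup_eq_top, sup_le_iff]
    constructor
    · intro g hg
      have := hmem_y g hg
      exact (Subgroup.zpowers_le.mpr (Subgroup.subset_closure (by simp))) this
    · intro g hg
      have := hmem_x g hg
      exact (Subgroup.zpowers_le.mpr (Subgroup.subset_closure (by simp))) this
  refine ⟨x, y, orderOf x, orderOf y, k % orderOf y + orderOf y, orderOf_pos x, hmpos, by omega,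
    rfl, rfl, hrel, hgen, ?_, ?_, ?_, ?_⟩
  · rw [hxn, hym, mul_comm]; exact hH.card_mul_card.symm
  · rw [hxn, hym, ← hH.symm.index_eq_card]
    exact hcop.symm
  · exact coprime_of_commutator (by omega) hrel hgen y₀.2
  · intro g
    have hn : (commutator N).Normal := inferInstance
    exact hmem_y _ (hn.conj_mem y y₀.2 g)

end Cfsg.Agent.Lib.Helper2.Zfp
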