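import Mathlib
import Cfsg.Agent.Lib.Helper2.Zfd1
import Cfsg.Agent.Lib.Helper2.Zfd2
import Cfsg.Agent.Lib.Helper2.Zfc8

set_option autoImplicit false
set_option linter.style.haveILetI false

/-!
# The structure of solvable Frobenius complements
-/

namespace Cfsg.Agent.Lib.Helper2.Zfp

open scoped TensorProduct Pointwise

universe u v

section rep

variable {G : Type u} [Group G] [Finite G] {E : Type*} [Field E] [IsAlgClosed E] {M : Type*}
  [AddCommGroup M] [Module E M] [FiniteDimensional E M] [Nontrivial M]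

/-- an element of squarefree order centralises every cyclic subgroup normalised by its powers -/
theorem Rep.commute_of_squarefree (R : Rep G E M) (k : ℕ) :
    ∀ (c y : G), Squarefree k → c ^ k = 1 →
      (∀ j : ℕ, c ^ j * y * (c ^ j)⁻¹ ∈ Subgroup.zpowers y) → c * y = y * c := by
  induction k using Nat.strong_induction_on with
  | _ k ih =>
    intro c y hk hc hn
    rcases Nat.eq_or_lt_of_le (Nat.one_le_iff_ne_zero.mpr hk.ne_zero) with h1 | h1
    · rw [← h1, pow_one] at hc
      rw [hc, one_mul, mul_one]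
    · set q := k.minFac with hq
      have hqp : q.Prime := Nat.minFac_prime (by omega)
      obtain ⟨k', hk'⟩ : q ∣ k := Nat.minFac_dvd k
      have hk'pos : 0 < k' := by
        rcases Nat.eq_zero_or_pos k' with h0 | hp
        · rw [h0, mul_zero] at hk'; omega
        · exact hp
      have hk'lt : k' < k := by
        rw [hk']
        have := hqp.two_le
        nlinarith
      have hk'sq : Squarefree k' := hk.squarefree_of_dvd ⟨q, by rw [hk', mul_comm]⟩
      have hcop : Nat.Coprime q k' := by
        rw [hqp.coprime_iff_not_dvd]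
        rintro ⟨k'', rfl⟩
        have : q * q ∣ k := ⟨k'', by rw [hk']; ring⟩
        have := hk q this
        exact hqp.one_lt.ne' (Nat.isUnit_iff.mp this)
      -- the part of prime order
      have ha : c ^ k' * y = y * c ^ k' := by
        apply R.commute_of_prime_normalizes hqp
        · rw [← pow_mul, mul_comm, ← hk', hc]
        · exact hn k'
      -- the part of smaller squarefree order
      have hb : c ^ q * y = y * c ^ q := by
        apply ih k' hk'lt (c ^ q) y hk'sq
        · rw [← pow_mul, ← hk', hc]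
        · intro j
          rw [← pow_mul]
          exact hn (q * j)
      obtain ⟨u, v, huv⟩ := (Nat.isCoprime_iff_coprime.mpr hcop)
      have hc1 : c = (c ^ q) ^ u * (c ^ k') ^ v := by
        rw [← zpow_natCast c q, ← zpow_natCast c k', ← zpow_mul', ← zpow_mul', ← zpow_add, huv,
          zpow_one]
      have hcomm : Commute ((c ^ q) ^ u * (c ^ k') ^ v) y :=
        (Commute.zpow_left hb u).mul_left (Commute.zpow_left ha v)
      rw [← hc1] at hcomm
      exact hcomm.eq

end rep

theorem squarefree_rad (n : ℕ) : Squarefree (∏ p ∈ n.primeFactors, p) := by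
  refine Finset.squarefree_prod_of_pairwise_isCoprime (fun p hp q hq hpq => ?_)
    (fun p hp => (Nat.prime_of_mem_primeFactors hp).squarefree)
  simp only [Function.onFun, ← Nat.coprime_iff_isRelPrime]
  exact (Nat.coprime_primes (Nat.prime_of_mem_primeFactors hp)
    (Nat.prime_of_mem_primeFactors hq)).mpr hpq

theorem A5_noncomm : ∃ a b : alternatingGroup (Fin 5), a * b ≠ b * a := by decide +kernel

theorem not_solvable_A5 : ¬ Group.IsSolvable (alternatingGroup (Fin 5)) := by
  intro h
  obtain ⟨a, b, hab⟩ := A5_noncomm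
  exact hab (IsSimpleGroup.comm_iff_isSolvable.mpr h a b)

/-- the four-group embeds in the symmetric group of degree four -/
theorem exists_D2_embedding : ∃ ι : DihedralGroup 2 →* Equiv.Perm (Fin 4), Function.Injective ι := by
  have hcard : Fintype.card (DihedralGroup 2) = 4 := by rw [DihedralGroup.card]
  let e : DihedralGroup 2 ≃ Fin 4 := Fintype.equivFinOfCardEq hcard
  refine ⟨(Equiv.permCongrHom e).toMonoidHom.comp
    (MulAction.toPermHom (DihedralGroup 2) (DihedralGroup 2)), ?_⟩
  apply (Equiv.permCongrHom e).injective.comp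
  rw [MulAction.coe_toPermHom]
  exact MulAction.toPerm_injective

theorem ker_comp_of_injective {A B C : Type*} [Group A] [Group B] [Group C] (g : A →* B)
    (ι : B →* C) (hι : Function.Injective ι) : (ι.comp g).ker = g.ker := by
  ext a
  rw [MonoidHom.mem_ker, MonoidHom.mem_ker, MonoidHom.comp_apply]
  constructor
  · intro h
    exact hι (by rw [h, map_one])
  · intro h
    rw [h, map_one]

variable {G : Type u} [Group G] [Finite G]

/-- in the solvable case the quotient by the core embeds in the symmetric group of degree four -/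
theorem exists_hom_perm_four (hsolv : Group.IsSolvable G) {N : Subgroup G} (h : Six N) :
    ∃ f : G →* Equiv.Perm (Fin 4), f.ker = N := by
  rcases h with h | ⟨g, hg, hk⟩ | ⟨g, hg, hk⟩ | ⟨g, hg, hk⟩ | ⟨g, hg, hk⟩ | ⟨g, hg, hk⟩
  · exact ⟨1, by rw [h]; exact MonoidHom.ker_one⟩
  · obtain ⟨ι, hι⟩ := exists_D2_embedding
    exact ⟨ι.comp g, by rw [ker_comp_of_injective g ι hι, hk]⟩
  · exact ⟨(Subgroup.subtype _).comp g, by
      rw [ker_comp_of_injective g _ (Subgroup.subtype_injective _), hk]⟩
  · exact ⟨g, hk⟩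
  · exfalso
    haveI := hsolv
    exact not_solvable_A5 (solvable_of_surjective hg)
  · exfalso
    haveI := hsolv
    exact Equiv.Perm.not_isSolvable_fin_5 (solvable_of_surjective hg)

set_option maxHeartbeats 800000 in
/-- the structure of a solvable group acting linearly and fixed-point-freely -/
theorem solvable_structure_of_linear {ℓ : ℕ} [Fact ℓ.Prime] {V : Type*} [AddCommGroup V]
    [Module (ZMod ℓ) V] [Finite V] [Nontrivial V] (α : G →* Module.End (ZMod ℓ) V)
    (hfpf : ∀ g : G, g ≠ 1 → ∀ v : V, α g v = v → v = 0) (hsolv : Group.IsSolvable G) :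
    ∃ G₀ : Subgroup G, G₀.Normal ∧ (∃ f : G →* Equiv.Perm (Fin 4), f.ker = G₀) ∧ IsZGroup G₀ ∧
      ∃ n m r : ℕ, 0 < n ∧ 0 < m ∧ Nat.Coprime (r - 1) m ∧ Nat.Coprime n m ∧ 1 ≤ r ∧
        r ^ (n / ∏ p ∈ n.primeFactors, p) % m = 1 % m ∧
        Nonempty (G₀ ≃* PresentedGroup (metaRels n m r)) := by
  haveI : Module.Finite (ZMod ℓ) V := Module.Finite.of_finite
  haveI : Nontrivial (AlgebraicClosure (ZMod ℓ) ⊗[ZMod ℓ] V) := by
    have h1 : Module.finrank (AlgebraicClosure (ZMod ℓ)) (AlgebraicClosure (ZMod ℓ) ⊗[ZMod ℓ] V) =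
        Module.finrank (ZMod ℓ) V := Module.finrank_baseChange
    have h2 : 0 < Module.finrank (ZMod ℓ) V := Module.finrank_pos
    rw [← h1] at h2
    exact Module.nontrivial_of_finrank_pos h2
  set R := Rep.ofLinear (AlgebraicClosure (ZMod ℓ)) α hfpf with hR
  obtain ⟨N, ⟨hn, hZ, h6⟩, -⟩ := R.existsUnique_core ℓ
  refine ⟨N, hn, exists_hom_perm_four hsolv h6, hZ, ?_⟩
  haveI := hZ
  obtain ⟨x, y, n, m, r, hn0, hm0, hr1, hxn, hym, hrel, hgen, hcard, hcop, hcop', hnorm⟩ :=
    zgroup_data (N := N)
  refine ⟨n, m, r, hn0, hm0, hcop', hcop, hr1, ?_, ?_⟩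
  · -- the Frobenius complement condition
    set s := n / ∏ p ∈ n.primeFactors, p with hs
    have hrad : (∏ p ∈ n.primeFactors, p) * s = n :=
      Nat.mul_div_cancel' (Nat.prod_primeFactors_dvd n)
    have hc : (x ^ s) * y = y * (x ^ s) := by
      apply (R.sub N).commute_of_squarefree (∏ p ∈ n.primeFactors, p) (x ^ s) y (squarefree_rad n)
      · rw [← pow_mul, mul_comm, hrad, ← hxn, pow_orderOf_eq_one]
      · intro j
        exact hnorm _
    have h1 := conj_rel_pow_pow hrel 1 s
    rw [pow_one, mul_one, ← hc] at h1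
    have h2 : y ^ (r ^ s) = y ^ 1 := by
      rw [pow_one]
      exact (mul_left_cancel h1).symm
    have h3 := pow_eq_pow_iff_modEq.mp h2
    rw [hym] at h3
    exact h3
  · exact meta_equiv n m r x y hn0 hm0 (by rw [← hxn]; exact pow_orderOf_eq_one x)
      (by rw [← hym]; exact pow_orderOf_eq_one y) hrel hgen hcard

/-- the structure of a solvable Frobenius complement -/
theorem solvable_structure_of_complement {L : Type v} [Group L] [Finite L] (H : Subgroup L)
    (hH : Cfsg.IsFrobeniusComplement H) (e : G ≃* H) (hsolv : Group.IsSolvable G) :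
    ∃ G₀ : Subgroup G, G₀.Normal ∧ (∃ f : G →* Equiv.Perm (Fin 4), f.ker = G₀) ∧ IsZGroup G₀ ∧
      ∃ n m r : ℕ, 0 < n ∧ 0 < m ∧ Nat.Coprime (r - 1) m ∧ Nat.Coprime n m ∧ 1 ≤ r ∧
        r ^ (n / ∏ p ∈ n.primeFactors, p) % m = 1 % m ∧
        Nonempty (G₀ ≃* PresentedGroup (metaRels n m r)) := by
  obtain ⟨N, hNn, hnt, ψ, hfpf⟩ := exists_fpf_hom_of_complement H hH e
  haveI := hNn
  haveI := hnt
  haveI : Nontrivial G := by
    haveI : Nontrivial H := (Subgroup.nontrivial_iff_ne_bot H).mpr hH.1
    exact e.toEquiv.nontrivial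
  obtain ⟨ℓ, hℓ, hnt', hfpf'⟩ := exists_linear_of_fpf_hom ψ hfpf
  haveI := hℓ
  haveI := hnt'
  haveI : Finite (Additive (torsionCenter N ℓ)) :=
    inferInstanceAs (Finite (torsionCenter N ℓ))
  exact solvable_structure_of_linear ((torsionCenter.act ℓ).comp ψ) hfpf' hsolv

end Cfsg.Agent.Lib.Helper2.Zfp
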