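import Mathlib

set_option autoImplicit false
set_option linter.style.haveILetI false

/-!
# Fixed-point-free representations: basic linear facts
-/

namespace Cfsg.Agent.Lib.Helper2.Zfp

/-- a representation in which only the identity fixes a nonzero vector -/
structure Rep (G : Type*) [Group G] (E : Type*) [Field E] (M : Type*) [AddCommGroup M]
    [Module E M] where
  ρ : G →* Module.End E M
  fpf : ∀ g : G, g ≠ 1 → ∀ m : M, ρ g m = m → m = 0

variable {G : Type*} [Group G] {E : Type*} [Field E] {M : Type*} [AddCommGroup M] [Module E M]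

namespace Rep


theorem eq_one_of_fixed (R : Rep G E M) {g : G} {m : M} (hm : m ≠ 0) (h : R.ρ g m = m) : g = 1 := by
  by_contra hg
  exact hm (R.fpf g hg m h)

theorem ρ_mul_apply (R : Rep G E M) (g h : G) (m : M) : R.ρ (g * h) m = R.ρ g (R.ρ h m) := by
  rw [map_mul]; rfl

theorem ρ_one_apply (R : Rep G E M) (m : M) : R.ρ 1 m = m := by
  rw [map_one]; rfl

theorem ρ_inv_apply (R : Rep G E M) (g : G) (m : M) : R.ρ g⁻¹ (R.ρ g m) = m := by
  rw [← ρ_mul_apply, inv_mul_cancel, ρ_one_apply]

theorem ρ_apply_inv (R : Rep G E M) (g : G) (m : M) : R.ρ g (R.ρ g⁻¹ m) = m := by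
  rw [← ρ_mul_apply, mul_inv_cancel, ρ_one_apply]

theorem ρ_injective_apply (R : Rep G E M) (g : G) : Function.Injective (R.ρ g) := by
  intro a b hab
  have := congrArg (R.ρ g⁻¹) hab
  rwa [ρ_inv_apply, ρ_inv_apply] at this

theorem ρ_ne_zero_apply (R : Rep G E M) (g : G) {m : M} (hm : m ≠ 0) : R.ρ g m ≠ 0 := by
  intro h
  apply hm
  apply R.ρ_injective_apply g
  rw [h, map_zero]

theorem ρ_pow_apply (R : Rep G E M) (g : G) (n : ℕ) (m : M) : R.ρ (g ^ n) m = ((R.ρ g) ^ n) m := by
  rw [map_pow]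

/-- `g = h` as soon as they agree on a nonzero vector -/
theorem eq_of_apply_eq (R : Rep G E M) {g h : G} {m : M} (hm : m ≠ 0) (e : R.ρ g m = R.ρ h m) : g = h := by
  have : R.ρ (h⁻¹ * g) m = m := by
    rw [ρ_mul_apply, e, ρ_inv_apply]
  have h1 := R.eq_one_of_fixed hm this
  calc g = h * (h⁻¹ * g) := by group
    _ = h := by rw [h1, mul_one]

theorem ρ_injective (R : Rep G E M) [Nontrivial M] : Function.Injective R.ρ := by
  intro g h e
  obtain ⟨m, hm⟩ := exists_ne (0 : M)
  exact R.eq_of_apply_eq hm (by rw [e])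

/-- `ρ g - 1` is injective for `g ≠ 1` -/
theorem sub_one_injective (R : Rep G E M) {g : G} (hg : g ≠ 1) :
    Function.Injective ((R.ρ g - 1 : Module.End E M) : M → M) := by
  rw [← LinearMap.ker_eq_bot, eq_bot_iff]
  intro m hm
  rw [LinearMap.mem_ker, LinearMap.sub_apply, Module.End.one_apply, sub_eq_zero] at hm
  rw [Submodule.mem_bot]
  exact R.fpf g hg m hm

/-- cancel the factor `ρ g - 1` -/
theorem eq_zero_of_sub_one_mul (R : Rep G E M) {g : G} (hg : g ≠ 1) (q : Module.End E M)
    (h : (R.ρ g - 1) * q = 0) : q = 0 := by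
  apply LinearMap.ext
  intro m
  apply R.sub_one_injective hg
  have := congrArg (fun f : Module.End E M => f m) h
  simp only [Module.End.mul_apply, LinearMap.zero_apply] at this
  rw [this, LinearMap.zero_apply, map_zero]

/-- an involution acts as `-1` -/
theorem ρ_eq_neg_one (R : Rep G E M) {g : G} (hg : g ≠ 1) (h2 : g * g = 1) : R.ρ g = -1 := by
  have h : (R.ρ g - 1) * (R.ρ g + 1) = 0 := by
    have : R.ρ g * R.ρ g = 1 := by rw [← map_mul, h2, map_one]
    calc (R.ρ g - 1) * (R.ρ g + 1) = R.ρ g * R.ρ g - 1 := by noncomm_ring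
      _ = 0 := by rw [this, sub_self]
  have := R.eq_zero_of_sub_one_mul hg _ h
  exact eq_neg_of_add_eq_zero_left this

/-- an element of order three satisfies `x² + x + 1 = 0` -/
theorem ρ_cube (R : Rep G E M) {x : G} (hx : x ≠ 1) (h3 : x ^ 3 = 1) : R.ρ x * R.ρ x + R.ρ x + 1 = 0 := by
  apply R.eq_zero_of_sub_one_mul hx
  have : R.ρ x * R.ρ x * R.ρ x = 1 := by
    rw [← map_mul, ← map_mul, ← pow_three', h3, map_one]
  calc (R.ρ x - 1) * (R.ρ x * R.ρ x + R.ρ x + 1) = R.ρ x * R.ρ x * R.ρ x - 1 := by noncomm_ring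
    _ = 0 := by rw [this, sub_self]

/-- involutions are unique -/
theorem involution_unique (R : Rep G E M) [Nontrivial M] {g h : G} (hg : g ≠ 1) (hg2 : g * g = 1) (hh : h ≠ 1)
    (hh2 : h * h = 1) : g = h := by
  apply R.ρ_injective
  rw [R.ρ_eq_neg_one hg hg2, R.ρ_eq_neg_one hh hh2]

/-- involutions are central -/
theorem involution_central (R : Rep G E M) [Nontrivial M] {g : G} (hg : g ≠ 1) (hg2 : g * g = 1) (k : G) :
    k * g = g * k := by
  apply R.ρ_injective
  rw [map_mul, map_mul, R.ρ_eq_neg_one hg hg2]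
  simp

/-- an element whose square is the involution satisfies `t² = -1` -/
theorem ρ_sq_eq_neg_one (R : Rep G E M) {t : G} (h2 : t * t ≠ 1) (h4 : t ^ 4 = 1) : R.ρ t * R.ρ t = -1 := by
  rw [← map_mul]
  apply R.ρ_eq_neg_one h2
  calc t * t * (t * t) = t ^ 4 := by
        rw [show (4 : ℕ) = 2 + 2 from rfl, pow_add, pow_two]
    _ = 1 := h4

/-- the characteristic does not divide the order of any nontrivial element -/
theorem eq_one_of_pow_char (R : Rep G E M) [Nontrivial M] (p : ℕ) [hp : Fact p.Prime] [CharP E p] {g : G}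
    (h : g ^ p = 1) : g = 1 := by
  by_contra hg
  haveI : CharP (Module.End E M) p := by
    have : Function.Injective (algebraMap E (Module.End E M)) := by
      exact FaithfulSMul.algebraMap_injective E (Module.End E M)
    exact charP_of_injective_algebraMap this p
  have h1 : (R.ρ g - 1 : Module.End E M) ^ p = 0 := by
    rw [sub_pow_char_of_commute p (Commute.one_right _), one_pow, ← map_pow, h, map_one, sub_self]
  have h2 : Function.Injective (((R.ρ g - 1 : Module.End E M) ^ p : Module.End E M) : M → M) := by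
    rw [Module.End.coe_pow]
    exact (R.sub_one_injective hg).iterate p
  rw [h1] at h2
  obtain ⟨m, hm⟩ := exists_ne (0 : M)
  apply hm
  apply h2
  simp

end Rep

/-- a nonzero invariant subspace contains an eigenvector -/
theorem exists_eigenvector_in [IsAlgClosed E] [FiniteDimensional E M] (f : Module.End E M)
    (W : Submodule E M) (hW : W ≠ ⊥) (hf : ∀ w ∈ W, f w ∈ W) :
    ∃ (μ : E) (v : M), v ∈ W ∧ v ≠ 0 ∧ f v = μ • v := by
  haveI : Nontrivial W := Submodule.nontrivial_iff_ne_bot.mpr hW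
  obtain ⟨μ, hμ⟩ := Module.End.exists_eigenvalue (f.restrict hf)
  obtain ⟨v, hv⟩ := hμ.exists_hasEigenvector
  refine ⟨μ, v, v.2, ?_, ?_⟩
  · intro h0
    apply hv.2
    exact Subtype.ext h0
  · have := hv.apply_eq_smul
    have h2 := congrArg Subtype.val this
    simpa using h2

/-- pairwise commuting endomorphisms have a common eigenvector in any nonzero subspace they
all preserve -/
theorem exists_common_eigenvector [IsAlgClosed E] [FiniteDimensional E M] :
    ∀ (l : List (Module.End E M)), l.Pairwise Commute → ∀ (W : Submodule E M), W ≠ ⊥ →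
      (∀ f ∈ l, ∀ w ∈ W, f w ∈ W) →
      ∃ v ∈ W, v ≠ 0 ∧ ∀ f ∈ l, ∃ μ : E, f v = μ • v := by
  intro l
  induction l with
  | nil =>
    intro _ W hW _
    obtain ⟨v, hvW, hv⟩ := (Submodule.ne_bot_iff W).mp hW
    exact ⟨v, hvW, hv, by simp⟩
  | cons f l ih =>
    intro hl W hW hinv
    rw [List.pairwise_cons] at hl
    obtain ⟨μ, v₀, hv₀W, hv₀, hfv₀⟩ := exists_eigenvector_in f W hW
      (hinv f (List.mem_cons_self))
    let W' : Submodule E M := W ⊓ Module.End.eigenspace f μ
    have hW' : W' ≠ ⊥ := by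
      rw [Submodule.ne_bot_iff]
      refine ⟨v₀, Submodule.mem_inf.mpr ⟨hv₀W, ?_⟩, hv₀⟩
      rw [Module.End.mem_eigenspace_iff]
      exact hfv₀
    have hinv' : ∀ g ∈ l, ∀ w ∈ W', g w ∈ W' := by
      intro g hg w hw
      obtain ⟨hw1, hw2⟩ := Submodule.mem_inf.mp hw
      refine Submodule.mem_inf.mpr ⟨hinv g (List.mem_cons_of_mem _ hg) w hw1, ?_⟩
      rw [Module.End.mem_eigenspace_iff] at hw2 ⊢
      have hc : f * g = g * f := (hl.1 g hg).eq
      have := congrArg (fun φ : Module.End E M => φ w) hc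
      simp only [Module.End.mul_apply] at this
      rw [this, hw2, map_smul]
    obtain ⟨v, hvW', hv, hvl⟩ := ih hl.2 W' hW' hinv'
    obtain ⟨hvW1, hvW2⟩ := Submodule.mem_inf.mp hvW'
    refine ⟨v, hvW1, hv, ?_⟩
    intro g hg
    rcases List.mem_cons.mp hg with rfl | hg
    · exact ⟨μ, Module.End.mem_eigenspace_iff.mp hvW2⟩
    · exact hvl g hg

/-- two group elements with a common eigenvector commute -/
theorem Rep.commute_of_common_eigenvector (R : Rep G E M) {g h : G} {v : M} (hv : v ≠ 0) {μ ν : E}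
    (hg : R.ρ g v = μ • v) (hh : R.ρ h v = ν • v) : g * h = h * g := by
  apply R.eq_of_apply_eq hv
  rw [R.ρ_mul_apply, R.ρ_mul_apply, hh, hg, map_smul, map_smul, hg, hh, smul_smul, smul_smul,
    mul_comm]

end Cfsg.Agent.Lib.Helper2.Zfp
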