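import Cfsg.Agent.Lib.Helper2.Zfp9

set_option autoImplicit false
set_option linter.style.haveILetI false

/-!
# `T3` configurations: fourth powers of suitable elements centralising `t` are central in
`⟨t, s, x, c⟩`
-/

namespace Cfsg.Agent.Lib.Helper2.Zfp

open Matrix
open scoped MatrixGroups

set_option maxRecDepth 100000 in
theorem A4_center : ∀ a : alternatingGroup (Fin 4), (∀ b, a * b = b * a) → a = 1 := by decide

set_option maxRecDepth 100000 in
theorem S4_center : ∀ a : Equiv.Perm (Fin 4), (∀ b, a * b = b * a) → a = 1 := by decide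

set_option maxRecDepth 100000 in
theorem A5_center : ∀ a : alternatingGroup (Fin 5), (∀ b, a * b = b * a) → a = 1 := by decide

set_option maxRecDepth 100000 in
theorem A4_inv4 : ∀ a : alternatingGroup (Fin 4), a ≠ 1 → a * a = 1 →
    ∀ b, a * b = b * a → b ^ 4 = 1 := by decide

set_option maxRecDepth 100000 in
theorem S4_inv4 : ∀ a : Equiv.Perm (Fin 4), a ≠ 1 → a * a = 1 →
    ∀ b, a * b = b * a → b ^ 4 = 1 := by decide

set_option maxRecDepth 100000 in
theorem A5_inv4 : ∀ a : alternatingGroup (Fin 5), a ≠ 1 → a * a = 1 →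
    ∀ b, a * b = b * a → b ^ 4 = 1 := by decide

variable {G : Type*} [Group G] [Finite G] {E : Type*} [Field E] [IsAlgClosed E] {M : Type*}
  [AddCommGroup M] [Module E M] [FiniteDimensional E M] [Nontrivial M]

namespace T3

variable {t s x : G}

theorem pow_four_central (h : T3 t s x) (R : Rep G E M) (p : ℕ) [Fact p.Prime] [CharP E p]
    (c : G) (hct : c * t = t * c) (hcc : c * (s * c * s⁻¹) = s * c * s⁻¹ * c) :
    ∀ g ∈ Subgroup.closure {t, s, x, c}, c ^ 4 * g = g * c ^ 4 := by
  classical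
  set L := Subgroup.closure {t, s, x, c} with hL
  obtain ⟨φ, hφ⟩ : ∃ φ : L →* GL (Fin 2) E, Function.Injective φ := h.exists_gl2 R c hct hcc
  have htL : t ∈ L := Subgroup.subset_closure (by simp)
  have hsL : s ∈ L := Subgroup.subset_closure (by simp)
  have hxL : x ∈ L := Subgroup.subset_closure (by simp)
  have hcL : c ∈ L := Subgroup.subset_closure (by simp)
  set tt : L := ⟨t, htL⟩ with htt
  set ss : L := ⟨s, hsL⟩ with hss
  set xx : L := ⟨x, hxL⟩ with hxx
  set cc : L := ⟨c, hcL⟩ with hcc'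
  have hpL : ∀ g : L, g ^ p = 1 → g = 1 := by
    intro g hg
    apply Subtype.ext
    apply R.eq_one_of_pow_char p
    have := congrArg Subtype.val hg
    simpa using this
  set ψ : L →* PGL(Fin 2, E) := ProjGenLinGroup.mk.comp φ with hψ
  suffices hker : cc ^ 4 ∈ ψ.ker by
    intro g hg
    have := central_of_mem_ker φ hφ hker ⟨g, hg⟩
    exact congrArg Subtype.val this
  have r1 : xx * tt * xx⁻¹ = ss := Subtype.ext h.hs
  have r2 : ss * tt * ss⁻¹ = tt⁻¹ := Subtype.ext h.inv
  have r3 : cc * tt = tt * cc := Subtype.ext hct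
  have r4 : xx ^ 3 = 1 := Subtype.ext (by simpa using h.x3)
  have r5 : xx * ss * xx⁻¹ = tt * ss ∨ xx * ss * xx⁻¹ = tt * tt * (tt * ss) := by
    rcases h.hts with h1 | h1
    · left; exact Subtype.ext h1
    · right; exact Subtype.ext h1
  have hst_ne : ss * tt ≠ tt * ss := by
    intro e
    apply h.t2
    have e' : s * t = t * s := congrArg Subtype.val e
    have : t⁻¹ = t := by
      rw [← h.inv]
      calc s * t * s⁻¹ = t * s * s⁻¹ := by rw [e']
        _ = t := by group
    calc t * t = t⁻¹ * t := by rw [this]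
      _ = 1 := by group
  have ht1 : ψ tt ≠ 1 := by
    intro e
    have hk : tt ∈ ψ.ker := e
    exact hst_ne (central_of_mem_ker φ hφ hk ss).symm
  have hxt : ψ xx * ψ tt ≠ ψ tt * ψ xx := by
    intro e
    have e1 : ψ ss = ψ tt := by
      rw [← r1, map_mul, map_mul, e, map_inv]; group
    have hk : ss * tt⁻¹ ∈ ψ.ker := by
      rw [MonoidHom.mem_ker, map_mul, map_inv, e1, mul_inv_cancel]
    have := central_of_mem_ker φ hφ hk tt
    apply hst_ne
    calc ss * tt = ss * tt⁻¹ * tt * tt := by group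
      _ = tt * (ss * tt⁻¹) * tt := by rw [this]
      _ = tt * ss := by group
  have hzc : ∀ g : L, g * (tt * tt) = tt * tt * g := by
    intro g
    apply Subtype.ext
    exact h.tt_central R (g : G)
  -- the almost simple cases
  have finish : ∀ {A : Type} [Group A] (e : ψ.range ≃* A)
      (_ : ∀ a : A, (∀ b, a * b = b * a) → a = 1)
      (_ : ∀ a : A, a ≠ 1 → a * a = 1 → ∀ b, a * b = b * a → b ^ 4 = 1), cc ^ 4 ∈ ψ.ker := by
    intro A _ e hcen hinv4
    set a : A := e ⟨ψ tt, tt, rfl⟩ with ha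
    set b : A := e ⟨ψ cc, cc, rfl⟩ with hb
    have ha1 : a ≠ 1 := by
      intro e1
      rw [ha, MulEquiv.map_eq_one_iff] at e1
      exact ht1 (congrArg Subtype.val e1)
    have ha2 : a * a = 1 := by
      apply hcen
      intro d
      obtain ⟨d', rfl⟩ := e.surjective d
      obtain ⟨g, hg⟩ := d'.2
      have hd' : d' = ⟨ψ g, g, rfl⟩ := Subtype.ext hg.symm
      rw [ha, ← map_mul, ← map_mul, ← map_mul, hd']
      congr 1
      apply Subtype.ext
      show ψ tt * ψ tt * ψ g = ψ g * (ψ tt * ψ tt)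
      rw [← map_mul, ← map_mul, ← map_mul, hzc g]
    have hab : a * b = b * a := by
      rw [ha, hb, ← map_mul, ← map_mul]
      congr 1
      apply Subtype.ext
      show ψ tt * ψ cc = ψ cc * ψ tt
      rw [← map_mul, ← map_mul, r3]
    have hb4 := hinv4 a ha1 ha2 b hab
    rw [hb, ← map_pow, MulEquiv.map_eq_one_iff] at hb4
    have := congrArg Subtype.val hb4
    rw [MonoidHom.mem_ker, map_pow]
    exact this
  rcases twoDim φ p hpL with hcyc | ⟨n, ⟨e⟩⟩ | ⟨⟨e⟩⟩ | ⟨⟨e⟩⟩ | ⟨⟨e⟩⟩
  · exfalso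
    haveI := hcyc
    obtain ⟨g, hg⟩ := IsCyclic.exists_generator (α := ψ.range)
    obtain ⟨i, hi⟩ := Subgroup.mem_zpowers_iff.mp (hg ⟨ψ xx, xx, rfl⟩)
    obtain ⟨j, hj⟩ := Subgroup.mem_zpowers_iff.mp (hg ⟨ψ tt, tt, rfl⟩)
    apply hxt
    have h1 : (⟨ψ xx, xx, rfl⟩ : ψ.range) * ⟨ψ tt, tt, rfl⟩ = ⟨ψ tt, tt, rfl⟩ * ⟨ψ xx, xx, rfl⟩ := by
      rw [← hi, ← hj]
      exact ((Commute.refl g).zpow_zpow i j).eq
    exact congrArg Subtype.val h1
  · exfalso
    set ex := e ⟨ψ xx, xx, rfl⟩ with hex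
    set et := e ⟨ψ tt, tt, rfl⟩ with het
    set es := e ⟨ψ ss, ss, rfl⟩ with hes
    have hx3 : ex ^ 3 = 1 := by
      rw [hex, ← map_pow]
      have : (⟨ψ xx, xx, rfl⟩ : ψ.range) ^ 3 = 1 := by
        apply Subtype.ext
        show (ψ xx) ^ 3 = 1
        rw [← map_pow, r4, map_one]
      rw [this, map_one]
    obtain ⟨i, hi⟩ := dihedral_cube _ hx3
    have hes_eq : es = ex * et * ex⁻¹ := by
      rw [hes, hex, het, ← map_inv, ← map_mul, ← map_mul]
      congr 1
      apply Subtype.ext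
      show ψ ss = ψ xx * ψ tt * (ψ xx)⁻¹
      rw [← r1, map_mul, map_mul, map_inv]
    have hxs_eq : e ⟨ψ (xx * ss * xx⁻¹), _, rfl⟩ = ex * es * ex⁻¹ := by
      rw [hes, hex, ← map_inv, ← map_mul, ← map_mul]
      congr 1
      apply Subtype.ext
      show ψ (xx * ss * xx⁻¹) = ψ xx * ψ ss * (ψ xx)⁻¹
      rw [map_mul, map_mul, map_inv]
    cases hte : et with
    | r j =>
      apply hxt
      have h1 : (⟨ψ xx, xx, rfl⟩ : ψ.range) * ⟨ψ tt, tt, rfl⟩ =
          ⟨ψ tt, tt, rfl⟩ * ⟨ψ xx, xx, rfl⟩ := by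
        apply e.injective
        rw [map_mul, map_mul, ← hex, ← het, hi, hte, DihedralGroup.r_mul_r,
          DihedralGroup.r_mul_r, add_comm]
      exact congrArg Subtype.val h1
    | sr j =>
      have hes2 : es = DihedralGroup.sr (j - i + -i) := by
        rw [hes_eq, hi, hte, DihedralGroup.inv_r, DihedralGroup.r_mul_sr, DihedralGroup.sr_mul_r]
      have hxs2 : e ⟨ψ (xx * ss * xx⁻¹), _, rfl⟩ = DihedralGroup.sr (j - i + -i - i + -i) := by
        rw [hxs_eq, hi, hes2, DihedralGroup.inv_r, DihedralGroup.r_mul_sr, DihedralGroup.sr_mul_r]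
      have htt1 : et * et = 1 := by
        rw [hte, DihedralGroup.sr_mul_sr, sub_self]; rfl
      have hts2 : et * es = DihedralGroup.r (j - i + -i - j) := by
        rw [hte, hes2, DihedralGroup.sr_mul_sr]
      have key : e ⟨ψ (xx * ss * xx⁻¹), _, rfl⟩ = et * es := by
        rcases r5 with h5 | h5
        · rw [het, hes, ← map_mul]
          congr 1
          apply Subtype.ext
          show ψ (xx * ss * xx⁻¹) = ψ tt * ψ ss
          rw [h5, map_mul]
        · have : e ⟨ψ (xx * ss * xx⁻¹), _, rfl⟩ = et * et * (et * es) := by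
            rw [het, hes, ← map_mul, ← map_mul, ← map_mul]
            congr 1
            apply Subtype.ext
            show ψ (xx * ss * xx⁻¹) = ψ tt * ψ tt * (ψ tt * ψ ss)
            rw [h5, map_mul, map_mul, map_mul]
          rw [this, htt1, one_mul]
      rw [hxs2, hts2] at key
      cases key
  · exact finish e A4_center A4_inv4
  · exact finish e S4_center S4_inv4
  · exact finish e A5_center A5_inv4

end T3

end Cfsg.Agent.Lib.Helper2.Zfp
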