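import Cfsg.Agent.Lib.Helper2.Zfp10
import Cfsg.Agent.Lib.Lead.UniqueOrderP5

set_option autoImplicit false
set_option linter.style.haveILetI false

/-!
# Fixed-point-free groups: restriction to subgroups, `p`-subgroups
-/

namespace Cfsg.Agent.Lib.Helper2.Zfp

open Cfsg.Agent.Lib.Lead

variable {G : Type*} [Group G] {E : Type*} [Field E] {M : Type*} [AddCommGroup M] [Module E M]

/-- pull back along an injective homomorphism -/
def Rep.comap (R : Rep G E M) {H : Type*} [Group H] (f : H →* G) (hf : Function.Injective f) :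
    Rep H E M where
  ρ := R.ρ.comp f
  fpf := by
    intro g hg m hm
    apply R.fpf (f g) _ m hm
    intro h1
    apply hg
    apply hf
    rw [h1, map_one]

/-- restriction to a subgroup -/
def Rep.sub (R : Rep G E M) (K : Subgroup G) : Rep K E M :=
  R.comap K.subtype K.subtype_injective

/-- commuting elements `x`, `g` with `g ^ orderOf x = 1`: `g` is a power of `x` -/
theorem Rep.mem_zpowers_of_commute [IsAlgClosed E] [FiniteDimensional E M] [Nontrivial M]
    [Finite G] (R : Rep G E M) {x g : G} (hg : g ^ orderOf x = 1) (hc : g * x = x * g) :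
    g ∈ Subgroup.zpowers x := by
  have hl : [R.ρ x, R.ρ g].Pairwise Commute := by
    rw [List.pairwise_cons]
    refine ⟨?_, by simp⟩
    intro f hf
    rw [List.mem_singleton] at hf
    rw [hf]
    show R.ρ x * R.ρ g = R.ρ g * R.ρ x
    rw [← map_mul, ← map_mul, hc]
  obtain ⟨v, -, hv, hvl⟩ := exists_common_eigenvector [R.ρ x, R.ρ g] hl ⊤ top_ne_bot
    (fun _ _ _ _ => Submodule.mem_top)
  obtain ⟨lam, hlam⟩ := hvl (R.ρ x) (by simp)
  obtain ⟨kap, hkap⟩ := hvl (R.ρ g) (by simp)
  have hinj : ∀ c d : E, c • v = d • v → c = d := fun c d hcd => smul_left_injective E hv hcd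
  set n := orderOf x with hn
  have hnpos : 0 < n := orderOf_pos x
  have hkap_n : kap ^ n = 1 := by
    apply hinj
    rw [← R.eigen_pow hkap, hg, R.ρ_one_apply, one_smul]
  have hprim : IsPrimitiveRoot lam n := by
    rw [IsPrimitiveRoot.iff_def]
    constructor
    · apply hinj
      rw [← R.eigen_pow hlam, hn, pow_orderOf_eq_one, R.ρ_one_apply, one_smul]
    · intro l hl
      have h1 : R.ρ (x ^ l) v = v := by rw [R.eigen_pow hlam, hl, one_smul]
      have h2 := R.eq_one_of_fixed hv h1
      rw [hn]
      exact orderOf_dvd_of_pow_eq_one h2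
  haveI : NeZero n := ⟨hnpos.ne'⟩
  obtain ⟨i, -, hi⟩ := hprim.eq_pow_of_pow_eq_one hkap_n
  have : g = x ^ i := by
    apply R.eq_of_apply_eq hv
    rw [hkap, R.eigen_pow hlam, hi]
  rw [this]
  exact Subgroup.pow_mem _ (Subgroup.mem_zpowers x) i

namespace T3

variable {t s x : G}

/-- anything commuting with `t` and `s` commutes with `x` -/
theorem commute_of_commute [Nontrivial M] (h : T3 t s x) (R : Rep G E M) {g : G}
    (hgt : g * t = t * g) (hgs : g * s = s * g) : g * x = x * g := by
  obtain ⟨γ, hγ⟩ := h.formula R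
  apply R.ρ_injective
  have hT : R.ρ g * R.ρ t = R.ρ t * R.ρ g := by rw [← map_mul, ← map_mul, hgt]
  have hS : R.ρ g * R.ρ s = R.ρ s * R.ρ g := by rw [← map_mul, ← map_mul, hgs]
  rw [map_mul, map_mul, hγ, mul_smul_comm, smul_mul_assoc]
  congr 1
  have h1 : R.ρ g * (R.ρ s + R.ρ t) = (R.ρ s + R.ρ t) * R.ρ g := by
    rw [mul_add, add_mul, hT, hS]
  have h2 : R.ρ g * (γ • (1 : Module.End E M) - R.ρ t) =
      (γ • (1 : Module.End E M) - R.ρ t) * R.ρ g := by
    rw [mul_sub, sub_mul, hT, mul_smul_comm, smul_mul_assoc, mul_one, one_mul]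
  rw [← mul_assoc, h1, mul_assoc, h2, mul_assoc]

end T3

section pgroup

variable [IsAlgClosed E] [FiniteDimensional E M] [Nontrivial M] [Finite G]

/-- `p`-subgroups have a unique subgroup of order `p` -/
theorem Rep.uniqueOrderP (R : Rep G E M) (q : ℕ) [hq : Fact q.Prime] (P : Subgroup G)
    (hP : IsPGroup q P) : UniqueOrderP q P := by
  intro H K hH hK
  haveI : Nontrivial P := by
    have h1 : 1 < Nat.card H := by rw [hH]; exact hq.out.one_lt
    obtain ⟨a, ha⟩ := (Subgroup.one_lt_card_iff_ne_bot H).mp h1 |> Subgroup.ne_bot_iff_exists_ne_one.mp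
    exact ⟨⟨(a : P), 1, fun e => ha (Subtype.ext e)⟩⟩
  haveI := hP.center_nontrivial
  have hcq : q ∣ Nat.card (Subgroup.center P) := by
    have hPc : IsPGroup q (Subgroup.center P) := hP.to_subgroup _
    obtain ⟨k, hk⟩ := IsPGroup.iff_card.mp hPc
    have hk0 : k ≠ 0 := by
      rintro rfl
      rw [pow_zero] at hk
      have := Finite.one_lt_card (α := Subgroup.center P)
      omega
    rw [hk]
    exact dvd_pow_self q hk0
  obtain ⟨c, hc⟩ := exists_prime_orderOf_dvd_card' q hcq
  have hcG : ((c : P) : G) ^ q = 1 := by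
    have h1 : c ^ q = 1 := by rw [← hc]; exact pow_orderOf_eq_one c
    have h2 := congrArg (fun u : Subgroup.center P => ((u : P) : G)) h1
    simpa using h2
  have hc1 : ((c : P) : G) ≠ 1 := by
    intro e
    have : c = 1 := by
      apply Subtype.ext
      apply Subtype.ext
      exact e
    rw [this, orderOf_one] at hc
    exact hq.out.one_lt.ne' hc.symm
  have key : ∀ J : Subgroup P, Nat.card J = q → J = Subgroup.zpowers (c : P) := by
    intro J hJ
    have hcard : Nat.card (Subgroup.zpowers (c : P)) = q := by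
      rw [Nat.card_zpowers, Subgroup.orderOf_coe, hc]
    have hle : J ≤ Subgroup.zpowers (c : P) := by
      intro a ha
      have ha_q : a ^ q = 1 := by
        have h1 : (⟨a, ha⟩ : J) ^ q = 1 := by
          rw [← hJ]; exact pow_card_eq_one'
        have := congrArg Subtype.val h1
        simpa using this
      have haG : (a : G) ^ q = 1 := by
        have := congrArg Subtype.val ha_q
        simpa using this
      have hcomm : (a : G) * ((c : P) : G) = ((c : P) : G) * (a : G) := by
        have := Subgroup.mem_center_iff.mp c.2 a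
        exact congrArg Subtype.val this
      have hmem := R.mem_zpowers_of_commute_prime hq.out hcG hc1 haG hcomm
      obtain ⟨k, hk⟩ := Subgroup.mem_zpowers_iff.mp hmem
      refine Subgroup.mem_zpowers_iff.mpr ⟨k, ?_⟩
      apply Subtype.ext
      simpa using hk
    exact Subgroup.eq_of_le_of_card_ge hle (by rw [hJ, hcard])
  rw [key H hH, key K hK]

/-- `p`-subgroups are cyclic or generalised quaternion -/
theorem Rep.pgroup_structure (R : Rep G E M) (q : ℕ) [hq : Fact q.Prime] (P : Subgroup G)
    (hP : IsPGroup q P) :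
    IsCyclic P ∨ (q = 2 ∧ ∃ n : ℕ, Nonempty (P ≃* QuaternionGroup (2 ^ n))) :=
  UniqueOrderP.main hP (R.uniqueOrderP q P hP)

end pgroup

end Cfsg.Agent.Lib.Helper2.Zfp
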