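import Cfsg.Agent.Lib.Helper2.Zfp11
import Cfsg.Agent.Lib.Lead.PPowerClass2
import Cfsg.Agent.Lib.Lead.CoprimeSylow3
import Cfsg.Agent.Lib.Helper9.CyclicMax2

set_option autoImplicit false
set_option linter.style.haveILetI false

/-!
# Fixed-point-free groups: elements of order three centralise the `3'`-subgroups they normalise,
unless a quaternion group of order eight intervenes
-/

namespace Cfsg.Agent.Lib.Helper2.Zfp

open Cfsg.Agent.Lib.Lead

universe u

variable {G : Type u} [Group G] [Finite G] {E : Type*} [Field E] [IsAlgClosed E] {M : Type*}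
  [AddCommGroup M] [Module E M] [FiniteDimensional E M] [Nontrivial M]

/-- an element of prime order centralises the cyclic subgroups it normalises -/
theorem Rep.centralizes_cyclic (R : Rep G E M) {x : G} {r : ℕ} (hr : r.Prime) (hx : x ^ r = 1)
    (P : Subgroup G) (hP : IsCyclic P) (hxP : x ∈ Subgroup.normalizer (P : Set G)) :
    ∀ g ∈ P, x * g = g * x := by
  obtain ⟨h, hh⟩ := hP.exists_generator
  have hPz : ∀ g ∈ P, g ∈ Subgroup.zpowers (h : G) := by
    intro g hg
    obtain ⟨k, hk⟩ := Subgroup.mem_zpowers_iff.mp (hh ⟨g, hg⟩)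
    refine Subgroup.mem_zpowers_iff.mpr ⟨k, ?_⟩
    have := congrArg Subtype.val hk
    simpa using this
  have hconj : x * (h : G) * x⁻¹ ∈ P := (Subgroup.mem_normalizer_iff.mp hxP (h : G)).mp h.2
  have hc : x * (h : G) = (h : G) * x :=
    R.commute_of_prime_normalizes hr hx (hPz _ hconj)
  intro g hg
  obtain ⟨k, hk⟩ := Subgroup.mem_zpowers_iff.mp (hPz g hg)
  rw [← hk]
  have : Commute x (h : G) := hc
  exact (this.zpow_right k).eq

/-- an element of order three centralises the `2`-subgroups it normalises, except possibly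
quaternion groups of order eight -/
theorem Rep.centralizes_two_group (R : Rep G E M) {x : G} (hx : x ^ 3 = 1) (P : Subgroup G)
    (hP : IsPGroup 2 P) (hxP : x ∈ Subgroup.normalizer (P : Set G))
    (hne : ¬ (Nat.card P = 8 ∧ ¬ IsCyclic P)) : ∀ g ∈ P, x * g = g * x := by
  haveI : Fact (Nat.Prime 2) := ⟨Nat.prime_two⟩
  rcases R.pgroup_structure 2 P hP with hc | ⟨-, n, ⟨e⟩⟩
  · exact R.centralizes_cyclic Nat.prime_three hx P hc hxP
  · have hcard : Nat.card P = 4 * 2 ^ n := by
      haveI : NeZero (2 ^ n) := ⟨by positivity⟩
      rw [Nat.card_congr e.toEquiv, Nat.card_eq_fintype_card, QuaternionGroup.card]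
    by_cases hn2 : 2 ≤ n
    · -- automorphisms of odd order are trivial
      set α : MulAut P := conjEquiv P x hxP with hα
      let β : MulAut (QuaternionGroup (2 ^ n)) := (e.symm.trans α).trans e
      have hβ : ∀ m : ℕ, ∀ y, (β ^ m) y = e ((α ^ m) (e.symm y)) := by
        intro m
        induction m with
        | zero => intro y; simp
        | succ m ih =>
          intro y
          rw [pow_succ, MulAut.mul_apply, ih, pow_succ, MulAut.mul_apply]
          show e ((α ^ m) (e.symm (e (α (e.symm y))))) = _
          rw [MulEquiv.symm_apply_apply]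
      have hα3 : α ^ 3 = 1 := by
        apply MulEquiv.ext
        intro v
        apply Subtype.ext
        rw [hα, conjEquiv_pow_coe, hx]
        simp
      have hβ3 : β ^ 3 = 1 := by
        apply MulEquiv.ext
        intro y
        rw [hβ, hα3]
        simp
      have htriv := Cfsg.Agent.Lib.Helper9.quaternion_odd_aut_trivial n hn2 β 3 (by decide) hβ3
      intro g hg
      have h1 : β (e ⟨g, hg⟩) = e ⟨g, hg⟩ := htriv _
      have h2 : α ⟨g, hg⟩ = ⟨g, hg⟩ := by
        apply e.injective
        have : β (e ⟨g, hg⟩) = e (α (e.symm (e ⟨g, hg⟩))) := rfl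
        rw [this, MulEquiv.symm_apply_apply] at h1
        exact h1
      have h3 := congrArg Subtype.val h2
      have h4 : x * g * x⁻¹ = g := h3
      calc x * g = x * g * x⁻¹ * x := by group
        _ = g * x := by rw [h4]
    · have hn : n = 0 ∨ n = 1 := by omega
      rcases hn with rfl | rfl
      · -- order four: abelian
        have hcard4 : Nat.card P = 2 ^ 2 := by rw [hcard]; norm_num
        have hcomm : ∀ a ∈ P, ∀ b ∈ P, a * b = b * a := by
          intro a ha b hb
          haveI := IsPGroup.isMulCommutative_of_card_eq_prime_sq (p := 2) hcard4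
          have := mul_comm' (⟨a, ha⟩ : P) ⟨b, hb⟩
          exact congrArg Subtype.val this
        exact R.centralizes_cyclic Nat.prime_three hx P (R.isCyclic_of_comm P hcomm) hxP
      · have hcard8 : Nat.card P = 8 := by rw [hcard]; norm_num
        have hcyc : IsCyclic P := by
          by_contra h
          exact hne ⟨hcard8, h⟩
        exact R.centralizes_cyclic Nat.prime_three hx P hcyc hxP

end Cfsg.Agent.Lib.Helper2.Zfp
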