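import Cfsg.Agent.Lib.Helper2.Zfp12

set_option autoImplicit false
set_option linter.style.haveILetI false

/-!
# Fixed-point-free groups: the centralising lemma
-/

namespace Cfsg.Agent.Lib.Helper2.Zfp

open Cfsg.Agent.Lib.Lead

universe u

variable {G : Type u} [Group G] [Finite G] {E : Type*} [Field E] [IsAlgClosed E] {M : Type*}
  [AddCommGroup M] [Module E M] [FiniteDimensional E M] [Nontrivial M]

/-- a subgroup containing a Sylow subgroup for every prime is everything -/
theorem eq_of_sylow_le (K D : Subgroup G) (hDK : D ≤ K)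
    (h : ∀ (q : ℕ) [Fact q.Prime], ∃ P : Sylow q K, (P : Subgroup K).map K.subtype ≤ D) :
    D = K := by
  apply Subgroup.eq_of_le_of_card_ge hDK
  apply Nat.le_of_dvd Nat.card_pos
  rw [← Nat.factorization_le_iff_dvd Nat.card_pos.ne' Nat.card_pos.ne']
  intro q
  by_cases hq : q.Prime
  · haveI : Fact q.Prime := ⟨hq⟩
    obtain ⟨P, hP⟩ := h q
    obtain ⟨h1, -, -⟩ := sylow_card_facts K q P
    rw [← hq.pow_dvd_iff_le_factorization Nat.card_pos.ne', ← h1]
    exact Subgroup.card_dvd_of_le hP
  · rw [Nat.factorization_eq_zero_of_not_prime _ hq]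
    exact Nat.zero_le _

theorem Rep.lemmaC (R : Rep G E M) {x : G} (hx : x ^ 3 = 1) (K : Subgroup G)
    (hxK : x ∈ Subgroup.normalizer (K : Set G)) (h3 : ¬ 3 ∣ Nat.card K) :
    (∀ k ∈ K, x * k = k * x) ∨
    ∃ P : Sylow 2 K, Nat.card P = 8 ∧ ¬ IsCyclic P ∧
      x ∈ Subgroup.normalizer (((P : Subgroup K).map K.subtype : Subgroup G) : Set G) ∧
      ¬ ∀ g ∈ (P : Subgroup K).map K.subtype, x * g = g * x := by
  classical
  set A := Subgroup.zpowers x with hA
  have hAK : A ≤ Subgroup.normalizer (K : Set G) := by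
    rw [hA, Subgroup.zpowers_le]; exact hxK
  have hcardA : Nat.card A ∣ 3 := by
    rw [hA, Nat.card_zpowers]
    exact orderOf_dvd_of_pow_eq_one hx
  have hcop : (Nat.card A).Coprime (Nat.card K) := by
    apply Nat.Coprime.coprime_dvd_left hcardA
    exact (Nat.Prime.coprime_iff_not_dvd Nat.prime_three).mpr h3
  have hsolv : Group.IsSolvable A ∨ Group.IsSolvable K := by
    left
    rw [hA]
    infer_instance
  have hxA : x ∈ A := Subgroup.mem_zpowers x
  have hsyl : ∀ (q : ℕ) [Fact q.Prime], ∃ P : Sylow q K,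
      x ∈ Subgroup.normalizer (((P : Subgroup K).map K.subtype : Subgroup G) : Set G) := by
    intro q _
    obtain ⟨P, hP⟩ := coprime_invariant_sylow_exists A K hAK hcop hsolv q
    exact ⟨P, hP hxA⟩
  haveI : Fact (Nat.Prime 2) := ⟨Nat.prime_two⟩
  obtain ⟨P₂, hP₂⟩ := hsyl 2
  by_cases hex : ∀ g ∈ (P₂ : Subgroup K).map K.subtype, x * g = g * x
  · left
    set D : Subgroup G := K ⊓ Subgroup.centralizer {x} with hD
    have hmemD : ∀ g ∈ K, x * g = g * x → g ∈ D := by
      intro g hgK hgx
      rw [hD]
      refine Subgroup.mem_inf.mpr ⟨hgK, ?_⟩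
      rw [Subgroup.mem_centralizer_iff]
      intro y hy
      rw [Set.mem_singleton_iff] at hy
      rw [hy]
      exact hgx
    have hDK : D = K := by
      apply eq_of_sylow_le K D inf_le_left
      intro q hq
      by_cases hq2 : q = 2
      · subst hq2
        refine ⟨P₂, ?_⟩
        intro g hg
        exact hmemD g (Subgroup.map_subtype_le _ hg) (hex g hg)
      · obtain ⟨P, hP⟩ := hsyl q
        refine ⟨P, ?_⟩
        have hPq : IsPGroup q ((P : Subgroup K).map K.subtype) := P.isPGroup'.map _
        have hcyc : IsCyclic ((P : Subgroup K).map K.subtype) := by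
          rcases R.pgroup_structure q _ hPq with hc | ⟨h2, -⟩
          · exact hc
          · exact absurd h2 hq2
        have hcen := R.centralizes_cyclic Nat.prime_three hx _ hcyc hP
        intro g hg
        exact hmemD g (Subgroup.map_subtype_le _ hg) (hcen g hg)
    intro k hk
    have : k ∈ D := by rw [hDK]; exact hk
    rw [hD] at this
    have h2 := Subgroup.mem_centralizer_iff.mp (Subgroup.mem_inf.mp this).2 x (Set.mem_singleton x)
    exact h2
  · right
    have hP2 : IsPGroup 2 ((P₂ : Subgroup K).map K.subtype) := P₂.isPGroup'.map _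
    have hiso : (P₂ : Subgroup K) ≃* ((P₂ : Subgroup K).map K.subtype) :=
      Subgroup.equivMapOfInjective _ _ K.subtype_injective
    have key : Nat.card ((P₂ : Subgroup K).map K.subtype) = 8 ∧
        ¬ IsCyclic ((P₂ : Subgroup K).map K.subtype) := by
      by_contra hne
      exact hex (R.centralizes_two_group hx _ hP2 hP₂ hne)
    refine ⟨P₂, ?_, ?_, hP₂, hex⟩
    · rw [Nat.card_congr hiso.toEquiv]; exact key.1
    · intro hc
      apply key.2
      exact isCyclic_of_surjective hiso.toMonoidHom hiso.surjective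

end Cfsg.Agent.Lib.Helper2.Zfp
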