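import Cfsg.Agent.Lib.Helper2.Zfp13

set_option autoImplicit false
set_option linter.style.haveILetI false

/-!
# Quaternion subgroups of order eight in fixed-point-free groups
-/

namespace Cfsg.Agent.Lib.Helper2.Zfp

universe u

variable {G : Type u} [Group G] [Finite G] {E : Type*} [Field E] [IsAlgClosed E] {M : Type*}
  [AddCommGroup M] [Module E M] [FiniteDimensional E M] [Nontrivial M]

theorem mem_zpowers_four {t g : G} (ht : t ^ 4 = 1) (hg : g ∈ Subgroup.zpowers t) :
    g = 1 ∨ g = t ∨ g = t * t ∨ g = t * t * t := by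
  obtain ⟨k, rfl⟩ := Subgroup.mem_zpowers_iff.mp hg
  have h1 : t ^ k = t ^ (k % 4) := by
    have : t ^ k = t ^ (k % 4 + 4 * (k / 4)) := by rw [Int.emod_add_mul_ediv]
    rw [this, zpow_add, zpow_mul]
    have : t ^ (4 : ℤ) = 1 := by exact_mod_cast ht
    rw [this, one_zpow, mul_one]
  have h2 : 0 ≤ k % 4 := Int.emod_nonneg _ (by norm_num)
  have h3 : k % 4 < 4 := Int.emod_lt_of_pos _ (by norm_num)
  rw [h1]
  obtain ⟨n, hn⟩ := Int.eq_ofNat_of_zero_le h2
  rw [hn] at h3 ⊢
  have hn4 : n < 4 := by exact_mod_cast h3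
  rw [zpow_natCast]
  interval_cases n
  · left; simp
  · right; left; simp
  · right; right; left; rw [pow_two]
  · right; right; right; rw [pow_succ, pow_two]

/-- a non-cyclic subgroup of order eight -/
structure Q8 (Q : Subgroup G) (z : G) : Prop where
  card : Nat.card Q = 8
  ncyc : ¬ IsCyclic Q
  z_mem : z ∈ Q
  z_ne : z ≠ 1
  z_sq : z * z = 1

theorem exists_Q8 (Q : Subgroup G) (hc : Nat.card Q = 8) (hn : ¬ IsCyclic Q) : ∃ z, Q8 Q z := by
  haveI : Fact (Nat.Prime 2) := ⟨Nat.prime_two⟩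
  have h2 : 2 ∣ Nat.card Q := by rw [hc]; norm_num
  obtain ⟨g, hg⟩ := exists_prime_orderOf_dvd_card' 2 h2
  refine ⟨(g : G), hc, hn, g.2, ?_, ?_⟩
  · intro e
    have : g = 1 := Subtype.ext e
    rw [this, orderOf_one] at hg
    norm_num at hg
  · have h1 : g ^ 2 = 1 := by rw [← hg]; exact pow_orderOf_eq_one g
    have := congrArg Subtype.val h1
    simpa [pow_two] using this

namespace Q8

variable {Q : Subgroup G} {z : G}

theorem z_central (h : Q8 Q z) (R : Rep G E M) (g : G) : g * z = z * g :=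
  R.involution_central h.z_ne h.z_sq g

/-- non-central elements square to the involution -/
theorem sq_eq (h : Q8 Q z) (R : Rep G E M) {g : G} (hg : g ∈ Q) (h1 : g ≠ 1) (hz : g ≠ z) :
    g * g = z := by
  have hord : orderOf (⟨g, hg⟩ : Q) ∣ 8 := by
    rw [← h.card]; exact orderOf_dvd_natCard _
  have h8 : (8 : ℕ) = 2 ^ 3 := by norm_num
  rw [h8] at hord
  obtain ⟨k, hk, hko⟩ := (Nat.dvd_prime_pow Nat.prime_two).mp hord
  have hordG : orderOf g = 2 ^ k := by
    rw [← hko]; exact Subgroup.orderOf_coe (⟨g, hg⟩ : Q)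
  interval_cases k
  · exfalso
    rw [pow_zero, orderOf_eq_one_iff] at hordG
    exact h1 hordG
  · exfalso
    apply hz
    apply R.involution_unique h1 _ h.z_ne h.z_sq
    have := pow_orderOf_eq_one g
    rw [hordG, pow_one, pow_two] at this
    exact this
  · have h4 : g ^ 4 = 1 := by
      have := pow_orderOf_eq_one g
      rw [hordG] at this
      exact this
    have hne : g * g ≠ 1 := by
      intro e
      have : orderOf g ∣ 2 := orderOf_dvd_of_pow_eq_one (by rw [pow_two]; exact e)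
      rw [hordG] at this
      norm_num at this
    apply R.involution_unique hne _ h.z_ne h.z_sq
    calc g * g * (g * g) = g ^ 4 := by
          rw [show (4 : ℕ) = 2 + 2 from rfl, pow_add, pow_two]
      _ = 1 := h4
  · exfalso
    apply h.ncyc
    have hcard : Nat.card (Subgroup.zpowers (⟨g, hg⟩ : Q)) = Nat.card Q := by
      rw [Nat.card_zpowers, hko, h.card]; norm_num
    have htop : Subgroup.zpowers (⟨g, hg⟩ : Q) = ⊤ := Subgroup.eq_top_of_card_eq _ hcard
    exact isCyclic_iff_exists_zpowers_eq_top.mpr ⟨⟨g, hg⟩, htop⟩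

theorem pow_four (h : Q8 Q z) (R : Rep G E M) {g : G} (hg : g ∈ Q) : g ^ 4 = 1 := by
  by_cases h1 : g = 1
  · rw [h1, one_pow]
  by_cases hz : g = z
  · rw [hz, show (4 : ℕ) = 2 + 2 from rfl, pow_add, pow_two, h.z_sq, one_mul]
  · rw [show (4 : ℕ) = 2 + 2 from rfl, pow_add, pow_two, h.sq_eq R hg h1 hz, h.z_sq]

theorem zpowers_le (h : Q8 Q z) {t : G} (ht : t ∈ Q) : Subgroup.zpowers t ≤ Q :=
  Subgroup.zpowers_le.mpr ht

/-- elements outside `⟨t⟩` invert `t` -/
theorem conj_eq_inv (h : Q8 Q z) (R : Rep G E M) {t s : G} (ht : t ∈ Q) (hs : s ∈ Q)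
    (htz : t * t = z) (hst : s ∉ Subgroup.zpowers t) : s * t * s⁻¹ = t⁻¹ := by
  have hs1 : s ≠ 1 := by
    rintro rfl
    exact hst (Subgroup.one_mem _)
  have hsz : s ≠ z := by
    rintro rfl
    apply hst
    rw [← htz, ← pow_two]
    exact Subgroup.pow_mem _ (Subgroup.mem_zpowers t) 2
  have hss : s * s = z := h.sq_eq R hs hs1 hsz
  have hstQ : s * t ∈ Q := Q.mul_mem hs ht
  have hst1 : s * t ≠ 1 := by
    intro e
    apply hst
    have : s = t⁻¹ := eq_inv_of_mul_eq_one_left e
    rw [this]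
    exact Subgroup.inv_mem _ (Subgroup.mem_zpowers t)
  have hstz : s * t ≠ z := by
    intro e
    apply hst
    have : s = t := by
      calc s = s * t * t⁻¹ := by group
        _ = t * t * t⁻¹ := by rw [e, htz]
        _ = t := by group
    rw [this]
    exact Subgroup.mem_zpowers t
  have h2 := h.sq_eq R hstQ hst1 hstz
  have hzi : z⁻¹ = z := inv_eq_of_mul_eq_one_right h.z_sq
  calc s * t * s⁻¹ = (s * t * (s * t)) * t⁻¹ * (s * s)⁻¹ := by group
    _ = z * t⁻¹ * z⁻¹ := by rw [h2, hss]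
    _ = t⁻¹ * z * z⁻¹ := by rw [h.z_central R t⁻¹]
    _ = t⁻¹ := by group

/-- the cyclic subgroup generated by an element of order four has index two -/
theorem mem_or (h : Q8 Q z) (R : Rep G E M) {t s g : G} (ht : t ∈ Q) (hs : s ∈ Q) (hg : g ∈ Q)
    (htz : t * t = z) (hst : s ∉ Subgroup.zpowers t) :
    g ∈ Subgroup.zpowers t ∨ s⁻¹ * g ∈ Subgroup.zpowers t := by
  set H : Subgroup Q := (Subgroup.zpowers t).subgroupOf Q with hH
  have ht4 : t ^ 4 = 1 := h.pow_four R ht
  have hord : orderOf t = 4 := by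
    have h1 : orderOf t ∣ 4 := orderOf_dvd_of_pow_eq_one ht4
    have h2 : ¬ orderOf t ∣ 2 := by
      intro hd
      have := (orderOf_dvd_iff_pow_eq_one).mp hd
      rw [pow_two, htz] at this
      exact h.z_ne this
    have h4 : (4 : ℕ) = 2 ^ 2 := by norm_num
    rw [h4] at h1
    obtain ⟨k, hk, hko⟩ := (Nat.dvd_prime_pow Nat.prime_two).mp h1
    interval_cases k
    · exfalso; apply h2; rw [hko]; norm_num
    · exfalso; apply h2; rw [hko]; norm_num
    · rw [hko]; norm_num
  have hcardH : Nat.card H = 4 := by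
    rw [hH, Nat.card_congr (Subgroup.subgroupOfEquivOfLe (h.zpowers_le ht)).toEquiv,
      Nat.card_zpowers, hord]
  have hidx : H.index = 2 := by
    have := H.card_mul_index
    rw [hcardH, h.card] at this
    omega
  by_cases hgt : g ∈ Subgroup.zpowers t
  · left; exact hgt
  · right
    have key := Subgroup.mul_mem_iff_of_index_two hidx (a := (⟨s, hs⟩ : Q)⁻¹) (b := ⟨g, hg⟩)
    have h1 : (⟨s, hs⟩ : Q)⁻¹ ∉ H := by
      intro hmem
      apply hst
      have := H.inv_mem hmem
      rw [inv_inv] at this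
      exact this
    have h2 : (⟨g, hg⟩ : Q) ∉ H := hgt
    have h3 : (⟨s, hs⟩ : Q)⁻¹ * ⟨g, hg⟩ ∈ H := key.mpr ⟨fun hh => absurd hh h1, fun hh => absurd hh h2⟩
    exact h3

end Q8

end Cfsg.Agent.Lib.Helper2.Zfp
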