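import Cfsg.Agent.Lib.Helper2.Zfp14

set_option autoImplicit false
set_option linter.style.haveILetI false

/-!
# A quaternion group of order eight with an automorphism of order three gives a `T3` configuration
-/

namespace Cfsg.Agent.Lib.Helper2.Zfp

universe u

variable {G : Type u} [Group G] [Finite G] {E : Type*} [Field E] [IsAlgClosed E] {M : Type*}
  [AddCommGroup M] [Module E M] [FiniteDimensional E M] [Nontrivial M]

namespace Q8

variable {Q : Subgroup G} {z : G}

theorem exists_not_mem (h : Q8 Q z) {t : G} (ht : t ∈ Q) : ∃ s ∈ Q, s ∉ Subgroup.zpowers t := by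
  by_contra hno
  push Not at hno
  apply h.ncyc
  have : Q = Subgroup.zpowers t := le_antisymm hno (h.zpowers_le ht)
  rw [this]
  infer_instance

theorem conj_mem {x g : G} (hxQ : x ∈ Subgroup.normalizer (Q : Set G)) (hg : g ∈ Q) :
    x * g * x⁻¹ ∈ Q := (Subgroup.mem_normalizer_iff.mp hxQ g).mp hg

/-- an element of order three acting non-trivially moves every cyclic subgroup of order four -/
theorem conj_not_mem (h : Q8 Q z) (R : Rep G E M) {x : G} (hx3 : x ^ 3 = 1)
    (hxQ : x ∈ Subgroup.normalizer (Q : Set G)) (hnc : ¬ ∀ g ∈ Q, x * g = g * x) {t : G}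
    (ht : t ∈ Q) (htz : t * t = z) : x * t * x⁻¹ ∉ Subgroup.zpowers t := by
  intro hmem
  have hc : x * t = t * x := R.commute_of_prime_normalizes Nat.prime_three hx3 hmem
  have hcz : ∀ u ∈ Subgroup.zpowers t, x * u = u * x := by
    intro u hu
    obtain ⟨k, rfl⟩ := Subgroup.mem_zpowers_iff.mp hu
    have : Commute x t := hc
    exact (this.zpow_right k).eq
  obtain ⟨s, hsQ, hst⟩ := h.exists_not_mem ht
  have hs'Q : x * s * x⁻¹ ∈ Q := conj_mem hxQ hsQ
  have hs't : x * s * x⁻¹ ∉ Subgroup.zpowers t := by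
    intro hm
    apply hst
    have h1 := hcz _ hm
    have : s = x * s * x⁻¹ := by
      calc s = x⁻¹ * (x * s * x⁻¹ * x) := by group
        _ = x⁻¹ * (x * (x * s * x⁻¹)) := by rw [h1]
        _ = x * s * x⁻¹ := by group
    rw [this]
    exact hm
  have hu : s⁻¹ * (x * s * x⁻¹) ∈ Subgroup.zpowers t := by
    rcases h.mem_or R ht hsQ hs'Q htz hst with h1 | h1
    · exact absurd h1 hs't
    · exact h1
  set u := s⁻¹ * (x * s * x⁻¹) with hu_def
  have hxs : x * s * x⁻¹ = s * u := by rw [hu_def]; group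
  have hxu : x * u * x⁻¹ = u := by
    calc x * u * x⁻¹ = u * x * x⁻¹ := by rw [hcz u hu]
      _ = u := by group
  have hu3 : u ^ 3 = 1 := by
    have h1 : x * (x * (x * s * x⁻¹) * x⁻¹) * x⁻¹ = s * u ^ 3 := by
      have e1 : x * (s * u) * x⁻¹ = s * u * u := by
        calc x * (s * u) * x⁻¹ = (x * s * x⁻¹) * (x * u * x⁻¹) := by group
          _ = s * u * u := by rw [hxs, hxu]
      have e2 : x * (s * u * u) * x⁻¹ = s * u * u * u := by
        calc x * (s * u * u) * x⁻¹ = (x * s * x⁻¹) * (x * u * x⁻¹) * (x * u * x⁻¹) := by group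
          _ = s * u * u * u := by rw [hxs, hxu]
      rw [hxs, e1, e2, pow_succ, pow_two]
      group
    have h2 : x * (x * (x * s * x⁻¹) * x⁻¹) * x⁻¹ = s := by
      have hx3' : x * x * x = 1 := by rw [← pow_three']; exact hx3
      have hxi : x⁻¹ * x⁻¹ * x⁻¹ = 1 := by
        calc x⁻¹ * x⁻¹ * x⁻¹ = (x * x * x)⁻¹ := by group
          _ = 1 := by rw [hx3', inv_one]
      calc x * (x * (x * s * x⁻¹) * x⁻¹) * x⁻¹ = (x * x * x) * s * (x⁻¹ * x⁻¹ * x⁻¹) := by group
        _ = s := by rw [hx3', hxi, one_mul, mul_one]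
    rw [h2] at h1
    exact (mul_eq_left.mp h1.symm)
  have hu4 : u ^ 4 = 1 := by
    obtain ⟨k, hk⟩ := Subgroup.mem_zpowers_iff.mp hu
    rw [← hk, ← zpow_natCast, ← zpow_mul, mul_comm, zpow_mul, zpow_natCast, h.pow_four R ht,
      one_zpow]
  have hu1 : u = 1 := by
    calc u = u ^ 4 * (u ^ 3)⁻¹ := by group
      _ = 1 := by rw [hu4, hu3, inv_one, mul_one]
  have hcs : x * s = s * x := by
    rw [hu1, mul_one] at hxs
    calc x * s = x * s * x⁻¹ * x := by group
      _ = s * x := by rw [hxs]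
  apply hnc
  intro g hg
  rcases h.mem_or R ht hsQ hg htz hst with h1 | h1
  · exact hcz g h1
  · have h2 := hcz _ h1
    calc x * g = x * s * (s⁻¹ * g) := by group
      _ = s * x * (s⁻¹ * g) := by rw [hcs]
      _ = s * (x * (s⁻¹ * g)) := by group
      _ = s * ((s⁻¹ * g) * x) := by rw [h2]
      _ = g * x := by group

/-- the `T3` configuration attached to an element of order four -/
theorem t3 (h : Q8 Q z) (R : Rep G E M) {x : G} (hx3 : x ^ 3 = 1) (hx1 : x ≠ 1)
    (hxQ : x ∈ Subgroup.normalizer (Q : Set G)) (hnc : ¬ ∀ g ∈ Q, x * g = g * x) {t : G}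
    (ht : t ∈ Q) (htz : t * t = z) : T3 t (x * t * x⁻¹) x := by
  set s := x * t * x⁻¹ with hs
  have hsQ : s ∈ Q := conj_mem hxQ ht
  have hst : s ∉ Subgroup.zpowers t := h.conj_not_mem R hx3 hxQ hnc ht htz
  have ht4 : t ^ 4 = 1 := h.pow_four R ht
  have hsz : s * s = z := by
    calc s * s = x * (t * t) * x⁻¹ := by rw [hs]; group
      _ = x * z * x⁻¹ := by rw [htz]
      _ = z * x * x⁻¹ := by rw [h.z_central R x]
      _ = z := by group
  have hinv : s * t * s⁻¹ = t⁻¹ := h.conj_eq_inv R ht hsQ htz hst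
  set t₃ := x * s * x⁻¹ with ht₃
  have ht₃Q : t₃ ∈ Q := conj_mem hxQ hsQ
  have ht₃s : t₃ ∉ Subgroup.zpowers s := h.conj_not_mem R hx3 hxQ hnc hsQ hsz
  have ht₃z : t₃ * t₃ = z := by
    calc t₃ * t₃ = x * (s * s) * x⁻¹ := by rw [ht₃]; group
      _ = x * z * x⁻¹ := by rw [hsz]
      _ = z * x * x⁻¹ := by rw [h.z_central R x]
      _ = z := by group
  have hxt₃ : x * t₃ * x⁻¹ = t := by
    have hx3' : x * x * x = 1 := by rw [← pow_three']; exact hx3
    have hxi : x⁻¹ * x⁻¹ * x⁻¹ = 1 := by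
      calc x⁻¹ * x⁻¹ * x⁻¹ = (x * x * x)⁻¹ := by group
        _ = 1 := by rw [hx3', inv_one]
    calc x * t₃ * x⁻¹ = (x * x * x) * t * (x⁻¹ * x⁻¹ * x⁻¹) := by rw [ht₃, hs]; group
      _ = t := by rw [hx3', hxi, one_mul, mul_one]
  have htt₃ : t ∉ Subgroup.zpowers t₃ := by
    have := h.conj_not_mem R hx3 hxQ hnc ht₃Q ht₃z
    rwa [hxt₃] at this
  have ht₃t : t₃ ∉ Subgroup.zpowers t := by
    intro hm
    rcases mem_zpowers_four ht4 hm with e | e | e | e
    · rw [e, one_mul] at ht₃z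
      exact h.z_ne ht₃z.symm
    · apply htt₃; rw [e]; exact Subgroup.mem_zpowers t
    · rw [e, htz, h.z_sq] at ht₃z
      exact h.z_ne ht₃z.symm
    · apply htt₃
      have : t = t₃⁻¹ := by
        rw [e, eq_inv_iff_mul_eq_one]
        calc t * (t * t * t) = t ^ 4 := by
              rw [show (4 : ℕ) = 1 + 3 from rfl, pow_add, pow_one, pow_succ, pow_two]
          _ = 1 := ht4
      rw [this]
      exact Subgroup.inv_mem _ (Subgroup.mem_zpowers t₃)
  have htinv : t⁻¹ = t * t * t := by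
    rw [inv_eq_iff_mul_eq_one]
    calc t * (t * t * t) = t ^ 4 := by
          rw [show (4 : ℕ) = 1 + 3 from rfl, pow_add, pow_one, pow_succ, pow_two]
      _ = 1 := ht4
  refine ⟨ht4, by rw [htz]; exact h.z_ne, hx3, hx1, rfl, hinv, ?_⟩
  have hu : s⁻¹ * t₃ ∈ Subgroup.zpowers t := by
    rcases h.mem_or R ht hsQ ht₃Q htz hst with h1 | h1
    · exact absurd h1 ht₃t
    · exact h1
  rcases mem_zpowers_four ht4 hu with e | e | e | e
  · exfalso
    apply ht₃s
    have : t₃ = s := by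
      calc t₃ = s * (s⁻¹ * t₃) := by group
        _ = s := by rw [e, mul_one]
    rw [this]
    exact Subgroup.mem_zpowers s
  · right
    calc t₃ = s * (s⁻¹ * t₃) := by group
      _ = s * t := by rw [e]
      _ = (s * t * s⁻¹) * s := by group
      _ = t * t * t * s := by rw [hinv, htinv]
      _ = t * t * (t * s) := by group
  · exfalso
    apply ht₃s
    have : t₃ = s ^ 3 := by
      calc t₃ = s * (s⁻¹ * t₃) := by group
        _ = s * (s * s) := by rw [e, htz, hsz]
        _ = s ^ 3 := by rw [pow_succ, pow_two]; group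
    rw [this]
    exact Subgroup.pow_mem _ (Subgroup.mem_zpowers s) 3
  · left
    calc t₃ = s * (s⁻¹ * t₃) := by group
      _ = s * (t * t * t) := by rw [e]
      _ = s * t⁻¹ := by rw [htinv]
      _ = (s * t * s⁻¹)⁻¹ * s := by group
      _ = t * s := by rw [hinv, inv_inv]

end Q8

end Cfsg.Agent.Lib.Helper2.Zfp
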