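import Cfsg.Agent.Lib.Helper2.Zfp15

set_option autoImplicit false
set_option linter.style.haveILetI false

/-!
# Two non-commuting elements of order three: the order of the group they generate and a
`T3` configuration inside it
-/

namespace Cfsg.Agent.Lib.Helper2.Zfp

open Equiv

universe u

set_option maxRecDepth 100000 in
theorem A4_wit : ∃ a c : alternatingGroup (Fin 4), a ≠ 1 ∧ a * a = 1 ∧ c ^ 3 = 1 ∧
    c * a * c⁻¹ ≠ a ∧ a * (c * a * c⁻¹) = (c * a * c⁻¹) * a ∧
    c * (c * a * c⁻¹) * c⁻¹ = a * (c * a * c⁻¹) :=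
  ⟨⟨swap 0 1 * swap 2 3, by rw [Equiv.Perm.mem_alternatingGroup]; decide⟩,
    ⟨swap 0 1 * swap 1 2, by rw [Equiv.Perm.mem_alternatingGroup]; decide⟩, by decide⟩

set_option maxRecDepth 100000 in
theorem A5_wit : ∃ a c : alternatingGroup (Fin 5), a ≠ 1 ∧ a * a = 1 ∧ c ^ 3 = 1 ∧
    c * a * c⁻¹ ≠ a ∧ a * (c * a * c⁻¹) = (c * a * c⁻¹) * a ∧
    c * (c * a * c⁻¹) * c⁻¹ = a * (c * a * c⁻¹) :=
  ⟨⟨swap 0 1 * swap 2 3, by rw [Equiv.Perm.mem_alternatingGroup]; decide⟩,
    ⟨swap 0 1 * swap 1 2, by rw [Equiv.Perm.mem_alternatingGroup]; decide⟩, by decide⟩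

theorem card_A4 : Nat.card (alternatingGroup (Fin 4)) = 12 := by
  rw [Nat.card_eq_fintype_card]
  have := two_mul_card_alternatingGroup (α := Fin 4)
  rw [Fintype.card_perm, Fintype.card_fin] at this
  have h : Nat.factorial 4 = 24 := by decide
  omega

theorem card_A5 : Nat.card (alternatingGroup (Fin 5)) = 60 := by
  rw [Nat.card_eq_fintype_card]
  have := two_mul_card_alternatingGroup (α := Fin 5)
  rw [Fintype.card_perm, Fintype.card_fin] at this
  have h : Nat.factorial 5 = 120 := by decide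
  omega

variable {G : Type u} [Group G] [Finite G] {E : Type*} [Field E] [IsAlgClosed E] {M : Type*}
  [AddCommGroup M] [Module E M] [FiniteDimensional E M] [Nontrivial M]

/-- the order of a double cover -/
theorem card_of_double_cover {A : Type} [Group A] [Finite A] (X : Subgroup G) (ψ : X →* A)
    (hsurj : Function.Surjective ψ) (z : G) (hzX : z ∈ X) (hz1 : z ≠ 1)
    (hker : ∀ g : X, ψ g = 1 ↔ ((g : G) = 1 ∨ (g : G) = z)) :
    Nat.card X = 2 * Nat.card A := by
  have h1 := Subgroup.card_eq_card_quotient_mul_card_subgroup ψ.ker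
  have h2 : Nat.card (X ⧸ ψ.ker) = Nat.card A :=
    Nat.card_congr (QuotientGroup.quotientKerEquivOfSurjective ψ hsurj).toEquiv
  have h3 : Nat.card ψ.ker = 2 := by
    rw [Nat.card_eq_two_iff]
    refine ⟨1, ⟨⟨z, hzX⟩, (hker _).mpr (Or.inr rfl)⟩, ?_, ?_⟩
    · intro e
      apply hz1
      have := congrArg (fun u : ψ.ker => ((u : X) : G)) e
      exact this.symm
    · ext g
      simp only [Set.mem_insert_iff, Set.mem_singleton_iff, Set.mem_univ, iff_true]
      rcases (hker (g : X)).mp g.2 with h | h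
      · left
        apply Subtype.ext
        apply Subtype.ext
        exact h
      · right
        apply Subtype.ext
        apply Subtype.ext
        exact h
  rw [h1, h2, h3, mul_comm]

/-- lifting a `T3` configuration through a double cover -/
theorem lift_t3 (R : Rep G E M) {A : Type} [Group A] (X : Subgroup G) (ψ : X →* A)
    (hsurj : Function.Surjective ψ) (z : G) (hz1 : z ≠ 1) (hz2 : z * z = 1)
    (hker : ∀ g : X, ψ g = 1 ↔ ((g : G) = 1 ∨ (g : G) = z))
    (a c : A) (ha1 : a ≠ 1) (ha2 : a * a = 1) (hc3 : c ^ 3 = 1) (hne : c * a * c⁻¹ ≠ a)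
    (hcomm : a * (c * a * c⁻¹) = (c * a * c⁻¹) * a)
    (hprod : c * (c * a * c⁻¹) * c⁻¹ = a * (c * a * c⁻¹)) :
    ∃ t s x : G, t ∈ X ∧ s ∈ X ∧ x ∈ X ∧ T3 t s x := by
  obtain ⟨t₀, ht₀⟩ := hsurj a
  obtain ⟨x₀, hx₀⟩ := hsurj c
  set x' : X := x₀ ^ 4 with hx'
  have hzc : ∀ g : G, g * z = z * g := fun g => R.involution_central hz1 hz2 g
  have hψx' : ψ x' = c := by
    rw [hx', map_pow, hx₀, show (4 : ℕ) = 3 + 1 from rfl, pow_add, hc3, one_mul, pow_one]
  have hx'3 : x' ^ 3 = 1 := by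
    have h1 : ψ (x₀ ^ 3) = 1 := by rw [map_pow, hx₀, hc3]
    have h2 : (x₀ ^ 3) * (x₀ ^ 3) = 1 := by
      apply Subtype.ext
      rcases (hker _).mp h1 with h | h
      · show ((x₀ ^ 3 : X) : G) * ((x₀ ^ 3 : X) : G) = 1
        rw [h, one_mul]
      · show ((x₀ ^ 3 : X) : G) * ((x₀ ^ 3 : X) : G) = 1
        rw [h, hz2]
    calc x' ^ 3 = (x₀ ^ 3 * x₀ ^ 3) * (x₀ ^ 3 * x₀ ^ 3) := by
          rw [hx', ← pow_mul, ← pow_add, ← pow_add]
      _ = 1 := by rw [h2, one_mul]
  have hc1 : c ≠ 1 := by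
    rintro rfl
    apply hne
    group
  have hx'1 : x' ≠ 1 := by
    intro e
    rw [e, map_one] at hψx'
    exact hc1 hψx'.symm
  set t : G := (t₀ : G) with ht
  have htz : t * t = z := by
    have h1 : ψ (t₀ * t₀) = 1 := by rw [map_mul, ht₀, ha2]
    rcases (hker _).mp h1 with h | h
    · exfalso
      have h' : t * t = 1 := h
      apply ha1
      rw [← ht₀, hker]
      by_cases e : t = 1
      · left; exact e
      · right; exact R.involution_unique e h' hz1 hz2
    · exact h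
  have ht4 : t ^ 4 = 1 := by
    rw [show (4 : ℕ) = 2 + 2 from rfl, pow_add, pow_two, htz, hz2]
  set s₀ : X := x' * t₀ * x'⁻¹ with hs₀
  set s : G := (x' : G) * t * (x' : G)⁻¹ with hs
  have hs₀s : (s₀ : G) = s := rfl
  have hψs : ψ s₀ = c * a * c⁻¹ := by
    rw [hs₀, map_mul, map_mul, map_inv, hψx', ht₀]
  have hsz : s * s = z := by
    calc s * s = (x' : G) * (t * t) * (x' : G)⁻¹ := by rw [hs]; group
      _ = (x' : G) * z * (x' : G)⁻¹ := by rw [htz]
      _ = z * (x' : G) * (x' : G)⁻¹ := by rw [hzc]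
      _ = z := by group
  have hs4 : s ^ 4 = 1 := by
    rw [show (4 : ℕ) = 2 + 2 from rfl, pow_add, pow_two, hsz, hz2]
  have hordt : orderOf t = 4 := by
    have h1 : orderOf t ∣ 4 := orderOf_dvd_of_pow_eq_one ht4
    have h2 : ¬ orderOf t ∣ 2 := by
      intro hd
      have := (orderOf_dvd_iff_pow_eq_one).mp hd
      rw [pow_two, htz] at this
      exact hz1 this
    have h4 : (4 : ℕ) = 2 ^ 2 := by norm_num
    rw [h4] at h1
    obtain ⟨k, hk, hko⟩ := (Nat.dvd_prime_pow Nat.prime_two).mp h1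
    interval_cases k
    · exfalso; apply h2; rw [hko]; norm_num
    · exfalso; apply h2; rw [hko]; norm_num
    · rw [hko]; norm_num
  have htinv : t⁻¹ = z * t := by
    rw [inv_eq_iff_mul_eq_one, ← htz]
    calc t * (t * t * t) = t ^ 4 := by
          rw [show (4 : ℕ) = 1 + 3 from rfl, pow_add, pow_one, pow_succ, pow_two]
      _ = 1 := ht4
  have hinv : s * t * s⁻¹ = t⁻¹ := by
    have h1 : ψ (s₀ * t₀ * s₀⁻¹ * t₀) = 1 := by
      rw [map_mul, map_mul, map_mul, map_inv, hψs, ht₀, ← hcomm]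
      calc a * (c * a * c⁻¹) * (c * a * c⁻¹)⁻¹ * a = a * a := by group
        _ = 1 := ha2
    rcases (hker _).mp h1 with h | h
    · have h' : s * t * s⁻¹ * t = 1 := h
      exact eq_inv_of_mul_eq_one_left h'
    · exfalso
      have h' : s * t * s⁻¹ * t = z := h
      have hcm : s * t = t * s := by
        have : s * t * s⁻¹ = t := by
          calc s * t * s⁻¹ = (s * t * s⁻¹ * t) * t⁻¹ := by group
            _ = z * (z * t) := by rw [h', htinv]
            _ = (z * z) * t := by group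
            _ = t := by rw [hz2, one_mul]
        calc s * t = s * t * s⁻¹ * s := by group
          _ = t * s := by rw [this]
      have hmem : s ∈ Subgroup.zpowers t :=
        R.mem_zpowers_of_commute (by rw [hordt]; exact hs4) hcm
      rcases mem_zpowers_four ht4 hmem with e | e | e | e
      · rw [e, one_mul] at hsz
        exact hz1 hsz.symm
      · apply hne
        rw [← hψs, ← ht₀]
        congr 1
        exact Subtype.ext e
      · rw [e, htz, hz2] at hsz
        exact hz1 hsz.symm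
      · apply hne
        have e' : s₀ = t₀ * t₀ * t₀ := Subtype.ext e
        rw [← hψs, e', map_mul, map_mul, ht₀, ha2, one_mul]
  refine ⟨t, s, (x' : G), t₀.2, s₀.2, x'.2, ht4, by rw [htz]; exact hz1, ?_, ?_, rfl, hinv, ?_⟩
  · have := congrArg Subtype.val hx'3
    simpa using this
  · exact fun e => hx'1 (Subtype.ext e)
  · have e1 : ψ (x' * s₀ * x'⁻¹) = c * (c * a * c⁻¹) * c⁻¹ := by
      rw [map_mul, map_mul, map_inv, hψs, hψx']
    have e2 : ψ (t₀ * s₀) = a * (c * a * c⁻¹) := by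
      rw [map_mul, hψs, ht₀]
    have h1 : ψ (x' * s₀ * x'⁻¹ * (t₀ * s₀)⁻¹) = 1 := by
      rw [map_mul, map_inv, e1, e2, hprod]
      group
    rcases (hker _).mp h1 with h | h
    · left
      have h' : (x' : G) * s * (x' : G)⁻¹ * (t * s)⁻¹ = 1 := h
      exact eq_of_mul_inv_eq_one h'
    · right
      have h' : (x' : G) * s * (x' : G)⁻¹ * (t * s)⁻¹ = z := h
      calc (x' : G) * s * (x' : G)⁻¹ = ((x' : G) * s * (x' : G)⁻¹ * (t * s)⁻¹) * (t * s) := by group
        _ = t * t * (t * s) := by rw [h', htz]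

/-- two non-commuting elements of order three generate a group of order 24 or 120 containing a
`T3` configuration -/
theorem Rep.pair_t3 (R : Rep G E M) (p : ℕ) [Fact p.Prime] [CharP E p] {x y : G}
    (hx : x ^ 3 = 1) (hy : y ^ 3 = 1) (hxy : x * y ≠ y * x) :
    (Nat.card (Subgroup.closure {x, y}) = 24 ∨ Nat.card (Subgroup.closure {x, y}) = 120) ∧
      ∃ t s x' : G, t ∈ Subgroup.closure {x, y} ∧ s ∈ Subgroup.closure {x, y} ∧
        x' ∈ Subgroup.closure {x, y} ∧ T3 t s x' := by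
  obtain ⟨z, hzX, hz1, hz2, h | h⟩ := R.pair_structure p hx hy hxy
  · obtain ⟨ψ, hsurj, hker⟩ := h
    obtain ⟨a, c, h1, h2, h3, h4, h5, h6⟩ := A4_wit
    refine ⟨Or.inl ?_, lift_t3 R _ ψ hsurj z hz1 hz2 hker a c h1 h2 h3 h4 h5 h6⟩
    rw [card_of_double_cover _ ψ hsurj z hzX hz1 hker, card_A4]
  · obtain ⟨ψ, hsurj, hker⟩ := h
    obtain ⟨a, c, h1, h2, h3, h4, h5, h6⟩ := A5_wit
    refine ⟨Or.inr ?_, lift_t3 R _ ψ hsurj z hz1 hz2 hker a c h1 h2 h3 h4 h5 h6⟩
    rw [card_of_double_cover _ ψ hsurj z hzX hz1 hker, card_A5]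

end Cfsg.Agent.Lib.Helper2.Zfp
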