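import Cfsg.Agent.Lib.Helper2.Zfp16

set_option autoImplicit false
set_option linter.style.haveILetI false

/-!
# The subgroup generated by the elements of order three
-/

namespace Cfsg.Agent.Lib.Helper2.Zfp

universe u

/-- the subgroup generated by the elements of order dividing three -/
def N3 (G : Type*) [Group G] : Subgroup G := Subgroup.closure {g : G | g ^ 3 = 1}

theorem mem_N3 {G : Type*} [Group G] {g : G} (hg : g ^ 3 = 1) : g ∈ N3 G :=
  Subgroup.subset_closure hg

instance N3_normal (G : Type*) [Group G] : (N3 G).Normal := by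
  constructor
  intro n hn g
  unfold N3 at hn ⊢
  induction hn using Subgroup.closure_induction with
  | mem a ha =>
    apply Subgroup.subset_closure
    show (g * a * g⁻¹) ^ 3 = 1
    rw [conj_pow, (ha : a ^ 3 = 1)]
    group
  | one => simp
  | mul a b _ _ ha hb =>
    have : g * (a * b) * g⁻¹ = (g * a * g⁻¹) * (g * b * g⁻¹) := by group
    rw [this]
    exact Subgroup.mul_mem _ ha hb
  | inv a _ ha =>
    have : g * a⁻¹ * g⁻¹ = (g * a * g⁻¹)⁻¹ := by group
    rw [this]
    exact Subgroup.inv_mem _ ha

theorem N3_map_subtype {G : Type*} [Group G] (K : Subgroup G) :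
    (N3 K).map K.subtype = Subgroup.closure {g : G | g ∈ K ∧ g ^ 3 = 1} := by
  unfold N3
  rw [MonoidHom.map_closure]
  congr 1
  ext g
  constructor
  · rintro ⟨k, hk, rfl⟩
    refine ⟨k.2, ?_⟩
    have := congrArg Subtype.val (hk : k ^ 3 = 1)
    simpa using this
  · rintro ⟨hgK, hg3⟩
    refine ⟨⟨g, hgK⟩, ?_, rfl⟩
    show (⟨g, hgK⟩ : K) ^ 3 = 1
    apply Subtype.ext
    simpa using hg3

theorem N3_map_subtype_le {G : Type*} [Group G] (K : Subgroup G) :
    (N3 K).map K.subtype ≤ K := Subgroup.map_subtype_le _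

theorem mem_N3_map {G : Type*} [Group G] (K : Subgroup G) {g : G} (hgK : g ∈ K) (hg : g ^ 3 = 1) :
    g ∈ (N3 K).map K.subtype := by
  rw [N3_map_subtype]
  exact Subgroup.subset_closure ⟨hgK, hg⟩

/-- if `K` contains all elements of order three, then it has the same `N3` -/
theorem N3_map_subtype_of_le {G : Type*} [Group G] (K : Subgroup G) (h : N3 G ≤ K) :
    (N3 K).map K.subtype = N3 G := by
  rw [N3_map_subtype]
  unfold N3
  congr 1
  ext g
  constructor
  · rintro ⟨-, hg⟩; exact hg
  · intro hg
    exact ⟨h (mem_N3 hg), hg⟩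

theorem card_N3_sub {G : Type*} [Group G] (K : Subgroup G) :
    Nat.card (N3 K) = Nat.card ((N3 K).map K.subtype) :=
  (Subgroup.card_map_of_injective K.subtype_injective).symm

/-- `N3` is invariant under conjugation of the subgroup -/
theorem N3_map_normalizer {G : Type*} [Group G] (K : Subgroup G) {g : G}
    (hg : g ∈ Subgroup.normalizer (K : Set G)) :
    g ∈ Subgroup.normalizer (((N3 K).map K.subtype : Subgroup G) : Set G) := by
  have key : ∀ g : G, g ∈ Subgroup.normalizer (K : Set G) →
      ∀ n ∈ (N3 K).map K.subtype, g * n * g⁻¹ ∈ (N3 K).map K.subtype := by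
    intro g hg n hn
    rw [N3_map_subtype] at hn ⊢
    induction hn using Subgroup.closure_induction with
    | mem a ha =>
      apply Subgroup.subset_closure
      refine ⟨(Subgroup.mem_normalizer_iff.mp hg a).mp ha.1, ?_⟩
      rw [conj_pow, ha.2]
      group
    | one => simp
    | mul a b _ _ ha hb =>
      have : g * (a * b) * g⁻¹ = (g * a * g⁻¹) * (g * b * g⁻¹) := by group
      rw [this]
      exact Subgroup.mul_mem _ ha hb
    | inv a _ ha =>
      have : g * a⁻¹ * g⁻¹ = (g * a * g⁻¹)⁻¹ := by group
      rw [this]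
      exact Subgroup.inv_mem _ ha
  rw [Subgroup.mem_normalizer_iff]
  intro n
  constructor
  · exact key g hg n
  · intro h
    have := key g⁻¹ (Subgroup.inv_mem _ hg) _ h
    have e : g⁻¹ * (g * n * g⁻¹) * g⁻¹⁻¹ = n := by group
    rw [e] at this
    exact this

variable {G : Type u} [Group G] [Finite G] {E : Type*} [Field E] [IsAlgClosed E] {M : Type*}
  [AddCommGroup M] [Module E M] [FiniteDimensional E M] [Nontrivial M]

/-- if all elements of order three commute, `N3` has order `1` or `3` -/
theorem Rep.card_N3_of_commute (R : Rep G E M)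
    (h : ∀ x y : G, x ^ 3 = 1 → y ^ 3 = 1 → x * y = y * x) :
    Nat.card (N3 G) = 1 ∨ Nat.card (N3 G) = 3 := by
  by_cases hex : ∃ x : G, x ^ 3 = 1 ∧ x ≠ 1
  · obtain ⟨x, hx3, hx1⟩ := hex
    right
    have hN : N3 G = Subgroup.zpowers x := by
      apply le_antisymm
      · unfold N3
        rw [Subgroup.closure_le]
        intro g hg
        exact R.mem_zpowers_of_commute_prime Nat.prime_three hx3 hx1 hg (h g x hg hx3)
      · rw [Subgroup.zpowers_le]
        exact mem_N3 hx3
    rw [hN, Nat.card_zpowers]
    exact orderOf_eq_prime hx3 hx1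
  · left
    push Not at hex
    have hN : N3 G = ⊥ := by
      unfold N3
      rw [Subgroup.closure_eq_bot_iff]
      intro g hg
      exact hex g hg
    rw [hN]
    exact Subgroup.card_bot

end Cfsg.Agent.Lib.Helper2.Zfp
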