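import Cfsg.Agent.Lib.Helper2.Zfp17

set_option autoImplicit false
set_option linter.style.haveILetI false

/-!
# Good quaternion subgroups: centralizer facts
-/

namespace Cfsg.Agent.Lib.Helper2.Zfp

universe u

variable {G : Type u} [Group G] [Finite G] {E : Type*} [Field E] [IsAlgClosed E] {M : Type*}
  [AddCommGroup M] [Module E M] [FiniteDimensional E M] [Nontrivial M]

/-- `x` is an element of order three acting non-trivially on the subgroup `Q` -/
structure Good (Q : Subgroup G) (x : G) : Prop where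
  x3 : x ^ 3 = 1
  x1 : x ≠ 1
  norm : x ∈ Subgroup.normalizer (Q : Set G)
  nc : ¬ ∀ g ∈ Q, x * g = g * x

namespace Q8

variable {Q : Subgroup G} {z : G}

theorem exists_order_four (h : Q8 Q z) (R : Rep G E M) : ∃ t ∈ Q, t * t = z := by
  obtain ⟨s, hsQ, hs⟩ := h.exists_not_mem h.z_mem
  refine ⟨s, hsQ, h.sq_eq R hsQ ?_ ?_⟩
  · rintro rfl
    exact hs (Subgroup.one_mem _)
  · rintro rfl
    exact hs (Subgroup.mem_zpowers _)

theorem orderOf_four (h : Q8 Q z) {t : G} (htz : t * t = z) : orderOf t = 4 := by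
  have ht4 : t ^ 4 = 1 := by
    rw [show (4 : ℕ) = 2 + 2 from rfl, pow_add, pow_two, htz, h.z_sq]
  have h1 : orderOf t ∣ 4 := orderOf_dvd_of_pow_eq_one ht4
  have h2 : ¬ orderOf t ∣ 2 := by
    intro hd
    have := (orderOf_dvd_iff_pow_eq_one).mp hd
    rw [pow_two, htz] at this
    exact h.z_ne this
  have h4 : (4 : ℕ) = 2 ^ 2 := by norm_num
  rw [h4] at h1
  obtain ⟨k, hk, hko⟩ := (Nat.dvd_prime_pow Nat.prime_two).mp h1
  interval_cases k
  · exfalso; apply h2; rw [hko]; norm_num
  · exfalso; apply h2; rw [hko]; norm_num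
  · rw [hko]; norm_num

theorem t_ne_inv (h : Q8 Q z) {t : G} (htz : t * t = z) : t⁻¹ ≠ t := by
  intro e
  apply h.z_ne
  rw [← htz]
  nth_rewrite 1 [← e]
  exact inv_mul_cancel t

/-- elements of `Q` outside `⟨t⟩` do not commute with `t` -/
theorem not_commute (h : Q8 Q z) (R : Rep G E M) {t s : G} (ht : t ∈ Q) (hs : s ∈ Q)
    (htz : t * t = z) (hst : s ∉ Subgroup.zpowers t) : s * t ≠ t * s := by
  intro e
  have h1 := h.conj_eq_inv R ht hs htz hst
  apply h.t_ne_inv htz
  rw [← h1, e]
  group

/-- an element of order dividing four commuting with `t` lies in `⟨t⟩` -/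
theorem mem_zpowers_of_commute (h : Q8 Q z) (R : Rep G E M) {t c : G} (htz : t * t = z)
    (hc4 : c ^ 4 = 1) (hct : c * t = t * c) : c ∈ Subgroup.zpowers t := by
  apply R.mem_zpowers_of_commute _ hct
  rw [h.orderOf_four htz]
  exact hc4

/-- `2`-elements centralizing `t` and `s` are central -/
theorem cent_two_pow (h : Q8 Q z) (R : Rep G E M) {t s : G} (ht : t ∈ Q) (hs : s ∈ Q)
    (htz : t * t = z) (hst : s ∉ Subgroup.zpowers t) {c : G} (k : ℕ) (hck : c ^ 2 ^ k = 1)
    (hct : c * t = t * c) (hcs : c * s = s * c) : c = 1 ∨ c = z := by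
  have hord : orderOf c ∣ 2 ^ k := orderOf_dvd_of_pow_eq_one hck
  obtain ⟨j, hj, hjo⟩ := (Nat.dvd_prime_pow Nat.prime_two).mp hord
  by_cases hj1 : j ≤ 1
  · by_cases hc1 : c = 1
    · left; exact hc1
    · right
      apply R.involution_unique hc1 _ h.z_ne h.z_sq
      have h2 : orderOf c ∣ 2 := by
        rw [hjo]
        calc 2 ^ j ∣ 2 ^ 1 := pow_dvd_pow 2 hj1
          _ = 2 := by norm_num
      have := (orderOf_dvd_iff_pow_eq_one).mp h2
      rwa [pow_two] at this
  · exfalso
    push Not at hj1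
    set d := c ^ 2 ^ (j - 2) with hd
    have hd4 : d ^ 4 = 1 := by
      rw [hd, ← pow_mul, show (4 : ℕ) = 2 ^ 2 from rfl, ← pow_add, Nat.sub_add_cancel hj1, ← hjo]
      exact pow_orderOf_eq_one c
    have hd2 : d ^ 2 ≠ 1 := by
      intro e
      rw [hd, ← pow_mul] at e
      have h1 : orderOf c ∣ 2 ^ (j - 2) * 2 := orderOf_dvd_of_pow_eq_one e
      rw [hjo, ← pow_succ] at h1
      have h2 := Nat.pow_dvd_pow_iff_le_right (by norm_num : 1 < 2) |>.mp h1
      omega
    have hdt : d * t = t * d := by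
      rw [hd]
      exact ((Commute.pow_left (show Commute c t from hct)) _).eq
    have hds : d * s = s * d := by
      rw [hd]
      exact ((Commute.pow_left (show Commute c s from hcs)) _).eq
    have hmem := h.mem_zpowers_of_commute R htz hd4 hdt
    have ht4 : t ^ 4 = 1 := h.pow_four R ht
    have hts : s * t = t * s → False := h.not_commute R ht hs htz hst
    rcases mem_zpowers_four ht4 hmem with e | e | e | e
    · apply hd2; rw [e, one_pow]
    · apply hts; rw [← e]; exact hds.symm
    · apply hd2; rw [e, pow_two, htz, h.z_sq]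
    · apply hts
      have e' : t = z * d := by
        rw [e, ← htz]
        have : t * t * (t * t * t) = t ^ 4 * t := by
          rw [show (4 : ℕ) = 2 + 2 from rfl, pow_add, pow_two]; group
        rw [this, ht4, one_mul]
      rw [e']
      calc s * (z * d) = (s * z) * d := by group
        _ = z * s * d := by rw [h.z_central R s]
        _ = z * (s * d) := by group
        _ = z * (d * s) := by rw [hds]
        _ = z * d * s := by group

end Q8

namespace Good

variable {Q : Subgroup G} {z x : G}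

theorem t3 (hg : Good Q x) (h : Q8 Q z) (R : Rep G E M) {t : G} (ht : t ∈ Q) (htz : t * t = z) :
    T3 t (x * t * x⁻¹) x :=
  h.t3 R hg.x3 hg.x1 hg.norm hg.nc ht htz

theorem conj_mem (hg : Good Q x) {g : G} (h : g ∈ Q) : x * g * x⁻¹ ∈ Q :=
  Q8.conj_mem hg.norm h

/-- the centralizer of a good quaternion subgroup centralizes the element of order three -/
theorem cent_comm (hg : Good Q x) (h : Q8 Q z) (R : Rep G E M) {c : G}
    (hc : ∀ q ∈ Q, c * q = q * c) : c * x = x * c := by
  obtain ⟨t, ht, htz⟩ := h.exists_order_four R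
  exact (hg.t3 h R ht htz).commute_of_commute R (hc t ht) (hc _ (hg.conj_mem ht))

/-- the centralizer of a good quaternion subgroup has no element of order three -/
theorem cent_cube (hg : Good Q x) (h : Q8 Q z) (R : Rep G E M) {c : G}
    (hc : ∀ q ∈ Q, c * q = q * c) (hc3 : c ^ 3 = 1) : c = 1 := by
  by_contra hc1
  have hcx := hg.cent_comm h R hc
  have hmem : x ∈ Subgroup.zpowers c :=
    R.mem_zpowers_of_commute_prime Nat.prime_three hc3 hc1 hg.x3 hcx.symm
  apply hg.nc
  intro q hq
  obtain ⟨k, rfl⟩ := Subgroup.mem_zpowers_iff.mp hmem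
  exact ((Commute.zpow_left (show Commute c q from hc q hq)) k).eq

end Good

end Cfsg.Agent.Lib.Helper2.Zfp
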