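import Cfsg.Agent.Lib.Helper2.Zfp18
import Cfsg.Agent.Lib.Helper2.QuatSylow

set_option autoImplicit false
set_option linter.style.haveILetI false

/-!
# A `2`-group containing a good quaternion subgroup has order at most sixteen
-/

namespace Cfsg.Agent.Lib.Helper2.Zfp

open Cfsg.Agent.Lib.Helper2.QuatSylow

universe u

variable {G : Type u} [Group G] [Finite G] {E : Type*} [Field E] [IsAlgClosed E] {M : Type*}
  [AddCommGroup M] [Module E M] [FiniteDimensional E M] [Nontrivial M]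

theorem not_isCyclic_of_le {Q P : Subgroup G} (hQP : Q ≤ P) (hQ : ¬ IsCyclic Q) : ¬ IsCyclic P := by
  intro hP
  apply hQ
  haveI := hP
  haveI : IsCyclic (Q.subgroupOf P) := Subgroup.isCyclic _
  exact isCyclic_of_surjective (Subgroup.subgroupOfEquivOfLe hQP)
    (Subgroup.subgroupOfEquivOfLe hQP).surjective

/-- quaternion data for a non-cyclic `2`-subgroup -/
theorem Rep.exists_qdata (R : Rep G E M) (P : Subgroup G) (hP : IsPGroup 2 P)
    (hnc : ¬ IsCyclic P) : ∃ (n : ℕ) (α β : G), QData P (2 ^ n) α β := by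
  haveI : Fact (Nat.Prime 2) := ⟨Nat.prime_two⟩
  rcases R.pgroup_structure 2 P hP with hc | ⟨-, n, ⟨e⟩⟩
  · exact absurd hc hnc
  · haveI : NeZero (2 ^ n) := ⟨by positivity⟩
    obtain ⟨α, β, hq⟩ := Cfsg.Agent.Lib.Helper2.QuatSylow.exists_qdata P (2 ^ n) e
    exact ⟨n, α, β, hq⟩

namespace Q8

variable {Q : Subgroup G} {z : G}

/-- a quaternion subgroup of order eight meets the cyclic maximal subgroup in order four -/
theorem exists_mem_zpowers (h : Q8 Q z) (R : Rep G E M) {P : Subgroup G} {m : ℕ} {α β : G}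
    (hq : QData P m α β) (hQP : Q ≤ P) : ∃ t ∈ Q, t * t = z ∧ t ∈ Subgroup.zpowers α := by
  obtain ⟨t₀, ht₀, ht₀z⟩ := h.exists_order_four R
  by_cases h0 : t₀ ∈ Subgroup.zpowers α
  · exact ⟨t₀, ht₀, ht₀z, h0⟩
  obtain ⟨s, hs, hst⟩ := h.exists_not_mem ht₀
  have hs1 : s ≠ 1 := by
    rintro rfl; exact hst (Subgroup.one_mem _)
  have hsz : s ≠ z := by
    rintro rfl
    apply hst
    rw [← ht₀z, ← pow_two]
    exact Subgroup.pow_mem _ (Subgroup.mem_zpowers _) 2
  by_cases h1 : s ∈ Subgroup.zpowers α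
  · exact ⟨s, hs, h.sq_eq R hs hs1 hsz, h1⟩
  -- both outside: the product is inside
  obtain ⟨k, hk⟩ := hq.cover' (hQP ht₀)
  obtain ⟨j, hj⟩ := hq.cover' (hQP hs)
  rcases hk with hk | hk
  · exact absurd (hk ▸ Subgroup.zpow_mem_zpowers α k) h0
  rcases hj with hj | hj
  · exact absurd (hj ▸ Subgroup.zpow_mem_zpowers α j) h1
  refine ⟨t₀ * s, Q.mul_mem ht₀ hs, ?_, ?_⟩
  · apply h.sq_eq R (Q.mul_mem ht₀ hs)
    · intro e
      apply hst
      have : s = t₀⁻¹ := eq_inv_of_mul_eq_one_right e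
      rw [this]
      exact Subgroup.inv_mem _ (Subgroup.mem_zpowers _)
    · intro e
      apply hst
      have : s = t₀ := by
        have e2 : t₀ * s = t₀ * t₀ := by rw [e, ht₀z]
        exact mul_left_cancel e2
      rw [this]
      exact Subgroup.mem_zpowers _
  · rw [hk, hj]
    have : β * α ^ k * (β * α ^ j) = (β * β) * α ^ (-k) * α ^ j := by
      have e1 := hq.beta_mul (-k)
      rw [neg_neg] at e1
      calc β * α ^ k * (β * α ^ j) = β * (α ^ k * β) * α ^ j := by group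
        _ = β * (β * α ^ (-k)) * α ^ j := by rw [e1]
        _ = (β * β) * α ^ (-k) * α ^ j := by group
    rw [this, hq.sq]
    apply Subgroup.mul_mem _ (Subgroup.mul_mem _ _ _) (Subgroup.zpow_mem_zpowers α j)
    · exact Subgroup.pow_mem _ (Subgroup.mem_zpowers _) _
    · exact Subgroup.zpow_mem_zpowers α _

end Q8

namespace Good

variable {Q : Subgroup G} {z x : G}

/-- a `2`-subgroup containing a good quaternion subgroup has order `8` or `16` -/
theorem card_two_group (hg : Good Q x) (h : Q8 Q z) (R : Rep G E M) (p : ℕ) [Fact p.Prime]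
    [CharP E p] (P : Subgroup G) (hP : IsPGroup 2 P) (hQP : Q ≤ P) :
    Nat.card P = 8 ∨ Nat.card P = 16 := by
  have hnc : ¬ IsCyclic P := not_isCyclic_of_le hQP h.ncyc
  obtain ⟨n, α, β, hq⟩ := R.exists_qdata P hP hnc
  obtain ⟨t, ht, htz, htα⟩ := h.exists_mem_zpowers R hq hQP
  have hT := hg.t3 h R ht htz
  set s := x * t * x⁻¹ with hs
  have hsQ : s ∈ Q := hg.conj_mem ht
  have hst : s ∉ Subgroup.zpowers t := h.conj_not_mem R hg.x3 hg.norm hg.nc ht htz
  have hαt : α * t = t * α := by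
    obtain ⟨k, rfl⟩ := Subgroup.mem_zpowers_iff.mp htα
    exact ((Commute.refl α).zpow_right k).eq
  have hsα : s ∉ Subgroup.zpowers α := by
    intro hm
    apply h.not_commute R ht hsQ htz hst
    obtain ⟨k, hk⟩ := Subgroup.mem_zpowers_iff.mp hm
    obtain ⟨j, hj⟩ := Subgroup.mem_zpowers_iff.mp htα
    rw [← hk, ← hj]
    exact ((Commute.refl α).zpow_zpow k j).eq
  obtain ⟨k, hk⟩ := hq.cover' (hQP hsQ)
  rcases hk with hk | hk
  · exact absurd (hk ▸ Subgroup.zpow_mem_zpowers α k) hsα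
  have hconj : s * α * s⁻¹ = α⁻¹ := by
    rw [hk]
    calc β * α ^ k * α * (β * α ^ k)⁻¹ = β * α * β⁻¹ := by group
      _ = α⁻¹ := hq.conj
  have hcc : α * (s * α * s⁻¹) = s * α * s⁻¹ * α := by
    rw [hconj]; group
  have key := hT.pow_four_central R p α hαt hcc s (Subgroup.subset_closure (by simp))
  have h8 : α ^ 8 = 1 := by
    have e1 : s * α ^ 4 * s⁻¹ = (α ^ 4)⁻¹ := by
      rw [← conj_pow, hconj, inv_pow]
    have e2 : s * α ^ 4 * s⁻¹ = α ^ 4 := by
      rw [← key]; group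
    rw [e2] at e1
    have : α ^ 4 * α ^ 4 = 1 := by
      nth_rewrite 1 [e1]
      exact inv_mul_cancel _
    rw [show (8 : ℕ) = 4 + 4 from rfl, pow_add]
    exact this
  have hdvd : 2 * 2 ^ n ∣ 8 := by
    rw [← hq.ord]
    exact orderOf_dvd_of_pow_eq_one h8
  have hcard : Nat.card P = 4 * 2 ^ n := hq.card
  have hge : 8 ≤ Nat.card P := by
    rw [← h.card]
    exact Subgroup.card_le_of_le hQP
  have hle : 2 * 2 ^ n ≤ 8 := Nat.le_of_dvd (by norm_num) hdvd
  have h3 : n ≤ 2 := by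
    by_contra hn
    push Not at hn
    have : 2 ^ 3 ≤ 2 ^ n := Nat.pow_le_pow_right (by norm_num) hn
    omega
  interval_cases n
  · omega
  · left; omega
  · right; omega

end Good

end Cfsg.Agent.Lib.Helper2.Zfp
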