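import Cfsg.Agent.Lib.Helper2.Zfp1

set_option autoImplicit false
set_option linter.style.haveILetI false

/-!
# Fixed-point-free representations: abelian subgroups are cyclic; elements of prime order
centralise the cyclic subgroups they normalise
-/

namespace Cfsg.Agent.Lib.Helper2.Zfp

open scoped BigOperators

variable {G : Type*} [Group G] {E : Type*} [Field E] {M : Type*} [AddCommGroup M] [Module E M]

/-- an eigenvector of `h` is an eigenvector of every power of `h` -/
theorem Rep.eigen_pow (R : Rep G E M) {h : G} {u : M} {μ : E} (hu : R.ρ h u = μ • u) (n : ℕ) :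
    R.ρ (h ^ n) u = μ ^ n • u := by
  induction n with
  | zero => rw [pow_zero, pow_zero, R.ρ_one_apply, one_smul]
  | succ n ih => rw [pow_succ, R.ρ_mul_apply, hu, map_smul, ih, smul_smul, pow_succ, mul_comm]

theorem Rep.eigen_of_mem_zpowers [Finite G] (R : Rep G E M) {h k : G} {u : M} {μ : E}
    (hu : R.ρ h u = μ • u) (hk : k ∈ Subgroup.zpowers h) : ∃ ν : E, R.ρ k u = ν • u := by
  rw [← mem_powers_iff_mem_zpowers] at hk
  obtain ⟨n, rfl⟩ := hk
  exact ⟨μ ^ n, R.eigen_pow hu n⟩

/-- abelian subgroups are cyclic -/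
theorem Rep.isCyclic_of_comm [IsAlgClosed E] [FiniteDimensional E M] [Nontrivial M] [Finite G]
    (R : Rep G E M) (A : Subgroup G) (hA : ∀ a ∈ A, ∀ b ∈ A, a * b = b * a) : IsCyclic A := by
  classical
  haveI : Fintype A := Fintype.ofFinite A
  let l : List (Module.End E M) := (Finset.univ : Finset A).toList.map (fun a : A => R.ρ (a : G))
  have hl : l.Pairwise Commute := by
    rw [List.pairwise_map]
    apply List.pairwise_of_forall
    intro a b
    show R.ρ (a : G) * R.ρ (b : G) = R.ρ (b : G) * R.ρ (a : G)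
    rw [← map_mul, ← map_mul, hA a a.2 b b.2]
  obtain ⟨v, -, hv, hvl⟩ := exists_common_eigenvector l hl ⊤ top_ne_bot
    (fun _ _ _ _ => Submodule.mem_top)
  have hev : ∀ a : A, ∃ μ : E, R.ρ (a : G) v = μ • v := by
    intro a
    apply hvl
    exact List.mem_map_of_mem (f := fun a : A => R.ρ (a : G))
      (Finset.mem_toList.mpr (Finset.mem_univ a))
  choose μ hμ using hev
  have hinj : ∀ c d : E, c • v = d • v → c = d := by
    intro c d hcd
    exact smul_left_injective E hv hcd
  let f : A →* E :=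
    { toFun := μ
      map_one' := by
        apply hinj
        rw [← hμ, one_smul]
        exact R.ρ_one_apply v
      map_mul' := by
        intro a b
        apply hinj
        rw [← hμ, Subgroup.coe_mul, R.ρ_mul_apply, hμ b, map_smul, hμ a, smul_smul, mul_comm] }
  apply isCyclic_of_injective_ringHom f
  intro a b hab
  apply Subtype.ext
  apply R.eq_of_apply_eq hv
  rw [hμ a, hμ b]
  exact congrArg (· • v) hab

/-- an element of prime order centralises every cyclic subgroup it normalises -/
theorem Rep.commute_of_prime_normalizes [IsAlgClosed E] [FiniteDimensional E M] [Nontrivial M]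
    [Finite G] (R : Rep G E M) {x h : G} {r : ℕ} (hr : r.Prime) (hx : x ^ r = 1)
    (hn : x * h * x⁻¹ ∈ Subgroup.zpowers h) : x * h = h * x := by
  classical
  by_contra hne
  -- the set of elements conjugating `h` into `zpowers h` is closed under products
  have hS : ∀ n : ℕ, x ^ n * h * (x ^ n)⁻¹ ∈ Subgroup.zpowers h := by
    intro n
    induction n with
    | zero => simp
    | succ n ih =>
      have e : x ^ (n + 1) * h * (x ^ (n + 1))⁻¹ = x * (x ^ n * h * (x ^ n)⁻¹) * x⁻¹ := by
        rw [pow_succ']; group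
      rw [e]
      obtain ⟨k, hk⟩ := Subgroup.mem_zpowers_iff.mp ih
      rw [← hk]
      have e2 : x * h ^ k * x⁻¹ = (x * h * x⁻¹) ^ k := by rw [conj_zpow]
      rw [e2]
      exact Subgroup.zpow_mem _ hn k
  -- the inverse direction
  have hxinv : ∀ n : ℕ, (x ^ n)⁻¹ = x ^ ((r - 1) * n) := by
    intro n
    rw [inv_eq_iff_mul_eq_one, ← pow_add]
    have : n + (r - 1) * n = r * n := by
      have := hr.one_lt
      calc n + (r - 1) * n = ((r - 1) + 1) * n := by ring
        _ = r * n := by rw [Nat.sub_add_cancel (le_of_lt this)]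
    rw [this, pow_mul, hx, one_pow]
  have hS' : ∀ n : ℕ, (x ^ n)⁻¹ * h * x ^ n ∈ Subgroup.zpowers h := by
    intro n
    have := hS ((r - 1) * n)
    rw [← hxinv n, inv_inv] at this
    exact this
  obtain ⟨lam, u, -, hu, hhu⟩ := exists_eigenvector_in (R.ρ h) ⊤ top_ne_bot
    (fun _ _ => Submodule.mem_top)
  -- the eigenvalues
  have hev : ∀ n : ℕ, ∃ ν : E, R.ρ ((x ^ n)⁻¹ * h * x ^ n) u = ν • u :=
    fun n => R.eigen_of_mem_zpowers hhu (hS' n)
  choose ν hν using hev
  have hvec : ∀ n : ℕ, R.ρ h (R.ρ (x ^ n) u) = ν n • R.ρ (x ^ n) u := by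
    intro n
    have e : h * x ^ n = x ^ n * ((x ^ n)⁻¹ * h * x ^ n) := by group
    rw [← R.ρ_mul_apply, e, R.ρ_mul_apply, hν n, map_smul]
  have hinj : Function.Injective (fun i : Fin r => ν (i : ℕ)) := by
    intro i j hij
    by_contra hne2
    apply hne
    -- wlog structure: work with the difference
    have key : ∀ a b : ℕ, a < b → b < r → ν a = ν b → x * h = h * x := by
      intro a b hab hbr hνab
      have h1 : (x ^ a)⁻¹ * h * x ^ a = (x ^ b)⁻¹ * h * x ^ b := by
        apply R.eq_of_apply_eq hu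
        rw [hν a, hν b, hνab]
      have h2 : x ^ (b - a) * h = h * x ^ (b - a) := by
        have hb : x ^ b = x ^ a * x ^ (b - a) := by
          rw [← pow_add, Nat.add_sub_cancel' (le_of_lt hab)]
        rw [hb] at h1
        have h3 : h = (x ^ (b - a))⁻¹ * h * x ^ (b - a) := by
          have := congrArg (fun g => x ^ a * g * (x ^ a)⁻¹) h1
          calc h = x ^ a * ((x ^ a)⁻¹ * h * x ^ a) * (x ^ a)⁻¹ := by group
            _ = x ^ a * ((x ^ a * x ^ (b - a))⁻¹ * h * (x ^ a * x ^ (b - a))) * (x ^ a)⁻¹ := this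
            _ = (x ^ (b - a))⁻¹ * h * x ^ (b - a) := by group
        calc x ^ (b - a) * h = x ^ (b - a) * ((x ^ (b - a))⁻¹ * h * x ^ (b - a)) := by rw [← h3]
          _ = h * x ^ (b - a) := by group
      -- `x` is a power of `x ^ (b - a)`
      have hcop : Nat.Coprime (b - a) r := by
        rw [Nat.coprime_comm]
        apply (Nat.Prime.coprime_iff_not_dvd hr).mpr
        intro hdvd
        have := Nat.le_of_dvd (by omega) hdvd
        omega
      obtain ⟨m, hm⟩ : ∃ m : ℕ, (x ^ (b - a)) ^ m = x := by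
        have hc : Nat.Coprime (b - a) (orderOf x) :=
          Nat.Coprime.coprime_dvd_right (orderOf_dvd_of_pow_eq_one hx) hcop
        have := exists_pow_eq_self_of_coprime hc
        exact this
      have h4 : Commute (x ^ (b - a)) h := h2
      have := h4.pow_left m
      rw [hm] at this
      exact this
    rcases lt_trichotomy (i : ℕ) (j : ℕ) with hlt | heq | hgt
    · exact key i j hlt j.2 hij
    · exact absurd (Fin.ext heq) hne2
    · exact key j i hgt i.2 hij.symm
  have hli : LinearIndependent E (fun i : Fin r => R.ρ (x ^ (i : ℕ)) u) := by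
    apply Module.End.eigenvectors_linearIndependent' (R.ρ h) (fun i : Fin r => ν (i : ℕ)) hinj
    intro i
    refine ⟨?_, R.ρ_ne_zero_apply _ hu⟩
    rw [Module.End.mem_eigenspace_iff]
    exact hvec i
  set w : M := ∑ i ∈ Finset.range r, R.ρ (x ^ i) u with hw
  have hwfix : R.ρ x w = w := by
    rw [hw, map_sum]
    have h1 : ∀ i ∈ Finset.range r, R.ρ x (R.ρ (x ^ i) u) = R.ρ (x ^ (i + 1)) u := by
      intro i _
      rw [← R.ρ_mul_apply, pow_succ']
    rw [Finset.sum_congr rfl h1]
    obtain ⟨r', hr'⟩ : ∃ r', r = r' + 1 := ⟨r - 1, by have := hr.one_lt; omega⟩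
    rw [hr'] at hx ⊢
    rw [Finset.sum_range_succ (fun i => R.ρ (x ^ (i + 1)) u) r', hx,
      Finset.sum_range_succ' (fun i => R.ρ (x ^ i) u) r', pow_zero]
  have hw0 : w ≠ 0 := by
    intro h0
    have h1 : ∑ i : Fin r, (fun _ => (1 : E)) i • R.ρ (x ^ (i : ℕ)) u = 0 := by
      simp only [one_smul]
      rw [Fin.sum_univ_eq_sum_range (fun i => R.ρ (x ^ i) u) r]
      exact h0
    have := Fintype.linearIndependent_iff.mp hli (fun _ => (1 : E)) h1 ⟨0, hr.pos⟩
    exact one_ne_zero this
  have hx1 := R.eq_one_of_fixed hw0 hwfix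
  apply hne
  rw [hx1, one_mul, mul_one]

end Cfsg.Agent.Lib.Helper2.Zfp
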