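import Cfsg.Agent.Lib.Helper2.Zfp19
import Cfsg.Agent.Lib.Helper2.TwoComplement

set_option autoImplicit false
set_option linter.style.haveILetI false

/-!
# The centralizer of an element of order four in a good quaternion subgroup
-/

namespace Cfsg.Agent.Lib.Helper2.Zfp

open Cfsg.Agent.Lib.Helper2.QuatSylow

universe u

variable {G : Type u} [Group G] [Finite G] {E : Type*} [Field E] [IsAlgClosed E] {M : Type*}
  [AddCommGroup M] [Module E M] [FiniteDimensional E M] [Nontrivial M]

/-- the elements of odd order of a subgroup with cyclic Sylow `2`-subgroups form a subgroup -/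
theorem exists_odd_sub (H : Subgroup G)
    (hcyc : ∀ D : Subgroup G, D ≤ H → IsPGroup 2 D → IsCyclic D) :
    ∃ W : Subgroup G, (∀ g, g ∈ W ↔ g ∈ H ∧ Odd (orderOf g)) ∧
      ∃ P : Sylow 2 H, Nat.card W * Nat.card P = Nat.card H := by
  haveI : Fact (Nat.Prime 2) := ⟨Nat.prime_two⟩
  obtain ⟨P⟩ : Nonempty (Sylow 2 H) := inferInstance
  have hPc : IsCyclic P := by
    have h1 : IsCyclic ((P : Subgroup H).map H.subtype) := by
      apply hcyc _ (Subgroup.map_subtype_le _)
      exact P.2.map _
    haveI := h1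
    exact isCyclic_of_surjective
      ((P : Subgroup H).equivMapOfInjective H.subtype H.subtype_injective).symm
      ((P : Subgroup H).equivMapOfInjective H.subtype H.subtype_injective).symm.surjective
  obtain ⟨N, -, hNodd, hNmem, hNcard⟩ := TwoComplement.exists_odd_normal P hPc
  refine ⟨N.map H.subtype, ?_, P, ?_⟩
  · intro g
    constructor
    · rintro ⟨n, hn, rfl⟩
      refine ⟨n.2, ?_⟩
      have h1 : orderOf (n : G) = orderOf n := Subgroup.orderOf_coe n
      have h2 : orderOf (⟨n, hn⟩ : N) = orderOf n := (Subgroup.orderOf_coe (⟨n, hn⟩ : N)).symm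
      have h3 : orderOf (⟨n, hn⟩ : N) ∣ Nat.card N := orderOf_dvd_natCard _
      show Odd (orderOf (n : G))
      rw [h1, ← h2]
      exact hNodd.of_dvd_nat h3
    · rintro ⟨hgH, hodd⟩
      refine ⟨⟨g, hgH⟩, hNmem _ ?_, rfl⟩
      have h1 : orderOf ((⟨g, hgH⟩ : H) : G) = orderOf (⟨g, hgH⟩ : H) :=
        Subgroup.orderOf_coe _
      rw [← h1]
      exact hodd
  · rw [Subgroup.card_map_of_injective H.subtype_injective]
    exact hNcard

namespace Q8

variable {Q : Subgroup G} {z : G}

open QuaternionGroup in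
/-- a `2`-group centralizing an element of order four is cyclic -/
theorem isCyclic_of_commute (h : Q8 Q z) (R : Rep G E M) {t : G} (htz : t * t = z)
    (D : Subgroup G) (hD : IsPGroup 2 D) (hDt : ∀ d ∈ D, d * t = t * d) : IsCyclic D := by
  haveI : Fact (Nat.Prime 2) := ⟨Nat.prime_two⟩
  rcases R.pgroup_structure 2 D hD with hc | ⟨-, n, ⟨e⟩⟩
  · exact hc
  · rcases Nat.eq_zero_or_pos n with rfl | hn
    · haveI : IsCyclic (QuaternionGroup (2 ^ 0)) := quaternionGroup_one_isCyclic
      exact isCyclic_of_surjective e.symm e.symm.surjective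
    · exfalso
      set u : D := e.symm (xa 0) with hu
      set v : D := e.symm (xa 1) with hv
      have hu4 : (u : G) ^ 4 = 1 := by
        have : u ^ 4 = 1 := by rw [hu, ← map_pow, xa_pow_four, map_one]
        have := congrArg Subtype.val this
        simpa using this
      have hv4 : (v : G) ^ 4 = 1 := by
        have : v ^ 4 = 1 := by rw [hv, ← map_pow, xa_pow_four, map_one]
        have := congrArg Subtype.val this
        simpa using this
      have hum := h.mem_zpowers_of_commute R htz hu4 (hDt u u.2)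
      have hvm := h.mem_zpowers_of_commute R htz hv4 (hDt v v.2)
      have hcomm : (u : G) * v = v * u := by
        obtain ⟨k, hk⟩ := Subgroup.mem_zpowers_iff.mp hum
        obtain ⟨j, hj⟩ := Subgroup.mem_zpowers_iff.mp hvm
        rw [← hk, ← hj]
        exact ((Commute.refl t).zpow_zpow k j).eq
      have h1 : u * v = v * u := Subtype.ext hcomm
      rw [hu, hv, ← map_mul, ← map_mul] at h1
      have h2 := e.symm.injective h1
      rw [xa_mul_xa, xa_mul_xa] at h2
      have h3 := a.inj h2
      have h4 : ((2 : ℕ) : ZMod (2 * 2 ^ n)) = 0 := by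
        push_cast
        linear_combination h3
      rw [ZMod.natCast_eq_zero_iff] at h4
      have h5 : 2 * 2 ^ n ≤ 2 := Nat.le_of_dvd (by norm_num) h4
      have h6 : 2 ^ 1 ≤ 2 ^ n := Nat.pow_le_pow_right (by norm_num) hn
      omega

/-- commuting with two generators -/
theorem commute_of_commute_gens (h : Q8 Q z) (R : Rep G E M) {t s : G} (ht : t ∈ Q) (hs : s ∈ Q)
    (htz : t * t = z) (hst : s ∉ Subgroup.zpowers t) {c : G} (hct : c * t = t * c)
    (hcs : c * s = s * c) : ∀ q ∈ Q, c * q = q * c := by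
  intro q hq
  have hz : ∀ u ∈ Subgroup.zpowers t, c * u = u * c := by
    intro u hu
    obtain ⟨k, rfl⟩ := Subgroup.mem_zpowers_iff.mp hu
    exact ((Commute.zpow_right (show Commute c t from hct)) k).eq
  rcases h.mem_or R ht hs hq htz hst with h1 | h1
  · exact hz q h1
  · have h2 := hz _ h1
    calc c * q = c * s * (s⁻¹ * q) := by group
      _ = s * c * (s⁻¹ * q) := by rw [hcs]
      _ = s * (c * (s⁻¹ * q)) := by group
      _ = s * ((s⁻¹ * q) * c) := by rw [h2]
      _ = q * c := by group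

end Q8

/-- the subgroup of the elements of odd order centralizing a good quaternion subgroup -/
structure OddCent (Q : Subgroup G) (z : G) (W : Subgroup G) : Prop where
  mem_iff : ∀ g, g ∈ W ↔ (∀ q ∈ Q, g * q = q * g) ∧ Odd (orderOf g)
  of_commute : ∀ t ∈ Q, t * t = z → ∀ g, g * t = t * g → Odd (orderOf g) → g ∈ W
  card_cent : ∀ t ∈ Q, t * t = z → ∃ P : Sylow 2 (Subgroup.centralizer ({t} : Set G)),
    Nat.card W * Nat.card P = Nat.card (Subgroup.centralizer ({t} : Set G))

namespace Good

variable {Q : Subgroup G} {z x : G}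

/-- elements of odd order centralizing `t` centralize the whole quaternion subgroup -/
theorem odd_centralizes (hg : Good Q x) (h : Q8 Q z) (R : Rep G E M) (p : ℕ) [Fact p.Prime]
    [CharP E p] {t : G} (ht : t ∈ Q) (htz : t * t = z) {w : G} (hwt : w * t = t * w)
    (hodd : Odd (orderOf w)) : ∀ q ∈ Q, w * q = q * w := by
  have hcyc : ∀ D : Subgroup G, D ≤ Subgroup.centralizer ({t} : Set G) → IsPGroup 2 D →
      IsCyclic D := by
    intro D hD h2
    apply h.isCyclic_of_commute R htz D h2
    intro d hd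
    exact (Subgroup.mem_centralizer_singleton_iff.mp (hD hd))
  obtain ⟨W, hW, -⟩ := exists_odd_sub _ hcyc
  have hT := hg.t3 h R ht htz
  set s := x * t * x⁻¹ with hs
  have hsQ : s ∈ Q := hg.conj_mem ht
  have hst : s ∉ Subgroup.zpowers t := h.conj_not_mem R hg.x3 hg.norm hg.nc ht htz
  have hs1 : s ≠ 1 := by
    rintro e; rw [e] at hst; exact hst (Subgroup.one_mem _)
  have hsz : s ≠ z := by
    intro e
    apply hst
    rw [e, ← htz, ← pow_two]
    exact Subgroup.pow_mem _ (Subgroup.mem_zpowers _) 2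
  have hss : s * s = z := h.sq_eq R hsQ hs1 hsz
  have hwW : w ∈ W := (hW w).mpr ⟨Subgroup.mem_centralizer_singleton_iff.mpr hwt, hodd⟩
  -- the conjugate of `w` by `s` lies in `W`
  have hconjW : s * w * s⁻¹ ∈ W := by
    rw [hW]
    refine ⟨?_, ?_⟩
    · rw [Subgroup.mem_centralizer_singleton_iff]
      have e1 : s⁻¹ * t * s = t⁻¹ := by
        have := hT.inv
        calc s⁻¹ * t * s = (s⁻¹ * t⁻¹ * s)⁻¹ := by group
          _ = (s⁻¹ * (s * t * s⁻¹) * s)⁻¹ := by rw [this]
          _ = t⁻¹ := by group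
      have hwt' : w * t⁻¹ = t⁻¹ * w := by
        calc w * t⁻¹ = t⁻¹ * (t * w) * t⁻¹ := by group
          _ = t⁻¹ * (w * t) * t⁻¹ := by rw [hwt]
          _ = t⁻¹ * w := by group
      calc s * w * s⁻¹ * t = s * w * (s⁻¹ * t * s) * s⁻¹ := by group
        _ = s * (w * t⁻¹) * s⁻¹ := by rw [e1]; group
        _ = s * (t⁻¹ * w) * s⁻¹ := by rw [hwt']
        _ = (s * t * s⁻¹)⁻¹ * (s * w * s⁻¹) := by group
        _ = t * (s * w * s⁻¹) := by rw [hT.inv, inv_inv]
    · have : orderOf (s * w * s⁻¹) = orderOf w := by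
        have := orderOf_injective (MulAut.conj s).toMonoidHom (MulAut.conj s).injective w
        simpa using this
      rw [this]; exact hodd
  set u := w⁻¹ * (s * w * s⁻¹) with hu
  have huW : u ∈ W := W.mul_mem (W.inv_mem hwW) hconjW
  have hut : u * t = t * u := Subgroup.mem_centralizer_singleton_iff.mp ((hW u).mp huW).1
  have huodd : Odd (orderOf u) := ((hW u).mp huW).2
  have hsus : s * u * s⁻¹ = u⁻¹ := by
    have hzc : ∀ g : G, g * z = z * g := fun g => h.z_central R g
    have hzi : z⁻¹ = z := inv_eq_of_mul_eq_one_right h.z_sq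
    calc s * u * s⁻¹ = (s * w * s⁻¹)⁻¹ * ((s * s) * w * (s * s)⁻¹) := by rw [hu]; group
      _ = (s * w * s⁻¹)⁻¹ * (z * w * z⁻¹) := by rw [hss]
      _ = (s * w * s⁻¹)⁻¹ * (w * z * z⁻¹) := by rw [hzc w]
      _ = u⁻¹ := by rw [hu]; group
  have hcc : u * (s * u * s⁻¹) = s * u * s⁻¹ * u := by rw [hsus]; group
  have key := hT.pow_four_central R p u hut hcc s (Subgroup.subset_closure (by simp))
  have h8 : u ^ 8 = 1 := by
    have e1 : s * u ^ 4 * s⁻¹ = (u ^ 4)⁻¹ := by
      rw [← conj_pow, hsus, inv_pow]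
    have e2 : s * u ^ 4 * s⁻¹ = u ^ 4 := by
      rw [← key]; group
    rw [e2] at e1
    have : u ^ 4 * u ^ 4 = 1 := by
      nth_rewrite 1 [e1]
      exact inv_mul_cancel _
    rw [show (8 : ℕ) = 4 + 4 from rfl, pow_add]
    exact this
  have hu1 : u = 1 := by
    have hd : orderOf u ∣ 8 := orderOf_dvd_of_pow_eq_one h8
    have hcop : Nat.Coprime (orderOf u) 8 := by
      have : Nat.Coprime (orderOf u) 2 := Nat.coprime_two_right.mpr huodd
      exact Nat.Coprime.pow_right 3 this
    have := Nat.eq_one_of_dvd_coprimes hcop dvd_rfl hd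
    exact orderOf_eq_one_iff.mp this
  have hws : w * s = s * w := by
    have : w = s * w * s⁻¹ := by
      calc w = w * u := by rw [hu1, mul_one]
        _ = s * w * s⁻¹ := by rw [hu]; group
    calc w * s = (s * w * s⁻¹) * s := by rw [← this]
      _ = s * w := by group
  exact h.commute_of_commute_gens R ht hsQ htz hst hwt hws

theorem exists_oddCent (hg : Good Q x) (h : Q8 Q z) (R : Rep G E M) (p : ℕ) [Fact p.Prime]
    [CharP E p] : ∃ W : Subgroup G, OddCent Q z W := by
  obtain ⟨t₀, ht₀, ht₀z⟩ := h.exists_order_four R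
  have hcyc : ∀ t : G, t * t = z → ∀ D : Subgroup G, D ≤ Subgroup.centralizer ({t} : Set G) →
      IsPGroup 2 D → IsCyclic D := by
    intro t htz D hD h2
    apply h.isCyclic_of_commute R htz D h2
    intro d hd
    exact (Subgroup.mem_centralizer_singleton_iff.mp (hD hd))
  obtain ⟨W, hW, -⟩ := exists_odd_sub _ (hcyc t₀ ht₀z)
  have hmem : ∀ g, g ∈ W ↔ (∀ q ∈ Q, g * q = q * g) ∧ Odd (orderOf g) := by
    intro g
    rw [hW]
    constructor
    · rintro ⟨h1, h2⟩
      exact ⟨hg.odd_centralizes h R p ht₀ ht₀z (Subgroup.mem_centralizer_singleton_iff.mp h1) h2,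
        h2⟩
    · rintro ⟨h1, h2⟩
      exact ⟨Subgroup.mem_centralizer_singleton_iff.mpr (h1 t₀ ht₀), h2⟩
  refine ⟨W, hmem, ?_, ?_⟩
  · intro t ht htz g hgt hodd
    rw [hmem]
    exact ⟨hg.odd_centralizes h R p ht htz hgt hodd, hodd⟩
  · intro t ht htz
    obtain ⟨W', hW', P, hP⟩ := exists_odd_sub _ (hcyc t htz)
    have : W' = W := by
      ext g
      rw [hW', hmem]
      constructor
      · rintro ⟨h1, h2⟩
        exact ⟨hg.odd_centralizes h R p ht htz (Subgroup.mem_centralizer_singleton_iff.mp h1) h2,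
          h2⟩
      · rintro ⟨h1, h2⟩
        exact ⟨Subgroup.mem_centralizer_singleton_iff.mpr (h1 t ht), h2⟩
    rw [this] at hP
    exact ⟨P, hP⟩

end Good

end Cfsg.Agent.Lib.Helper2.Zfp
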