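import Cfsg.Agent.Lib.Helper2.Zfp20
import Cfsg.Agent.S3742

set_option autoImplicit false
set_option linter.style.haveILetI false

/-!
# The automorphism group of a quaternion subgroup of order eight has order `24`
-/

namespace Cfsg.Agent.Lib.Helper2.Zfp

universe u

/-- Bezout for powers in a subgroup -/
theorem pow_gcd_mem {G : Type*} [Group G] (H : Subgroup G) (g : G) (a b : ℕ) (ha : g ^ a ∈ H)
    (hb : g ^ b ∈ H) : g ^ Nat.gcd a b ∈ H := by
  have h1 : (Nat.gcd a b : ℤ) = a * Nat.gcdA a b + b * Nat.gcdB a b := Nat.gcd_eq_gcd_ab a b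
  have h2 : g ^ (Nat.gcd a b : ℤ) ∈ H := by
    rw [h1, zpow_add, zpow_mul, zpow_mul]
    apply H.mul_mem
    · apply H.zpow_mem
      rw [zpow_natCast]; exact ha
    · apply H.zpow_mem
      rw [zpow_natCast]; exact hb
  rwa [zpow_natCast] at h2

theorem mem_of_pow_mem {G : Type*} [Group G] (H : Subgroup G) (g : G) (a b : ℕ)
    (hab : Nat.Coprime a b) (ha : g ^ a ∈ H) (hb : g ^ b ∈ H) : g ∈ H := by
  have := pow_gcd_mem H g a b ha hb
  rwa [hab.gcd_eq_one, pow_one] at this

variable {G : Type u} [Group G] [Finite G] {E : Type*} [Field E] [IsAlgClosed E] {M : Type*}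
  [AddCommGroup M] [Module E M] [FiniteDimensional E M] [Nontrivial M]

namespace Q8

variable {Q : Subgroup G} {z : G}

theorem isPGroup (h : Q8 Q z) : IsPGroup 2 Q := by
  haveI : Fact (Nat.Prime 2) := ⟨Nat.prime_two⟩
  apply IsPGroup.of_card (n := 3)
  rw [h.card]; norm_num

theorem equivQuat (h : Q8 Q z) (R : Rep G E M) : Nonempty (Q ≃* QuaternionGroup 2) := by
  haveI : Fact (Nat.Prime 2) := ⟨Nat.prime_two⟩
  rcases R.pgroup_structure 2 Q h.isPGroup with hc | ⟨-, n, ⟨e⟩⟩
  · exact absurd hc h.ncyc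
  · have hcard : Nat.card Q = 4 * 2 ^ n := by
      haveI : NeZero (2 ^ n) := ⟨by positivity⟩
      rw [Nat.card_congr e.toEquiv, Nat.card_eq_fintype_card, QuaternionGroup.card]
    rw [h.card] at hcard
    have hn : n = 1 := by
      have h2 : 2 ^ n = 2 ^ 1 := by omega
      exact Nat.pow_right_injective (le_refl 2) h2
    subst hn
    exact ⟨e⟩

theorem card_mulAut (h : Q8 Q z) (R : Rep G E M) : Nat.card (MulAut Q) = 24 := by
  obtain ⟨e⟩ := h.equivQuat R
  obtain ⟨f⟩ := Cfsg.Agent.S3742.result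
  rw [Nat.card_congr (MulAut.congr e).toEquiv, Nat.card_congr f.toEquiv, Nat.card_eq_fintype_card,
    Fintype.card_perm, Fintype.card_fin]
  rfl

/-- the `24`th power of a normalizing element centralizes -/
theorem pow_24_mem_centralizer (h : Q8 Q z) (R : Rep G E M) {g : G}
    (hg : g ∈ Subgroup.normalizer (Q : Set G)) : g ^ 24 ∈ Subgroup.centralizer (Q : Set G) := by
  haveI : Finite (MulAut Q) := by
    apply Nat.finite_of_card_ne_zero
    rw [h.card_mulAut R]; norm_num
  have h1 : (Q.normalizerMonoidHom ⟨g, hg⟩) ^ 24 = 1 := by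
    rw [← h.card_mulAut R]
    exact pow_card_eq_one'
  rw [← map_pow] at h1
  have h2 : (⟨g, hg⟩ : Subgroup.normalizer (Q : Set G)) ^ 24 ∈ Q.normalizerMonoidHom.ker := h1
  rw [Subgroup.normalizerMonoidHom_ker, Subgroup.mem_subgroupOf] at h2
  simpa using h2

/-- elements of order prime to six normalizing a quaternion subgroup centralize it -/
theorem centralizes_of_coprime (h : Q8 Q z) (R : Rep G E M) {g : G}
    (hg : g ∈ Subgroup.normalizer (Q : Set G)) (hcop : Nat.Coprime (orderOf g) 6) :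
    ∀ q ∈ Q, g * q = q * g := by
  have h1 := h.pow_24_mem_centralizer R hg
  have h2 : g ^ orderOf g ∈ Subgroup.centralizer (Q : Set G) := by
    rw [pow_orderOf_eq_one]; exact Subgroup.one_mem _
  have h3 : Nat.Coprime 24 (orderOf g) := by
    have : Nat.Coprime (orderOf g) 24 := by
      have h2' : Nat.Coprime (orderOf g) 2 := Nat.Coprime.coprime_dvd_right (by norm_num) hcop
      have h3' : Nat.Coprime (orderOf g) 3 := Nat.Coprime.coprime_dvd_right (by norm_num) hcop
      have : (24 : ℕ) = 2 ^ 3 * 3 := by norm_num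
      rw [this]
      exact Nat.Coprime.mul_right (Nat.Coprime.pow_right 3 h2') h3'
    exact this.symm
  have h4 := mem_of_pow_mem _ g 24 (orderOf g) h3 h1 h2
  intro q hq
  exact (Subgroup.mem_centralizer_iff.mp h4 q hq).symm

end Q8

namespace Good

variable {Q : Subgroup G} {z x : G}

/-- `3`-elements normalizing a good quaternion subgroup have order at most three -/
theorem cube_eq_one (hg : Good Q x) (h : Q8 Q z) (R : Rep G E M) {y : G}
    (hy : y ∈ Subgroup.normalizer (Q : Set G)) (k : ℕ) (hyk : y ^ 3 ^ k = 1) : y ^ 3 = 1 := by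
  rcases Nat.eq_zero_or_pos k with rfl | hk
  · rw [pow_zero, pow_one] at hyk
    rw [hyk, one_pow]
  have h1 := h.pow_24_mem_centralizer R hy
  have h2 : y ^ 3 ^ k ∈ Subgroup.centralizer (Q : Set G) := by
    rw [hyk]; exact Subgroup.one_mem _
  have h3 := pow_gcd_mem _ y 24 (3 ^ k) h1 h2
  have hgcd : Nat.gcd 24 (3 ^ k) = 3 := by
    obtain ⟨j, rfl⟩ : ∃ j, k = j + 1 := ⟨k - 1, by omega⟩
    have e1 : (24 : ℕ) = 3 * 8 := by norm_num
    rw [e1, pow_succ', Nat.gcd_mul_left]
    have : Nat.Coprime 8 (3 ^ j) := Nat.Coprime.pow_right j (by norm_num)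
    rw [this.gcd_eq_one]
  rw [hgcd] at h3
  set c := y ^ 3 with hc
  by_contra hc1
  have hck : c ^ 3 ^ k = 1 := by
    rw [hc, ← pow_mul, mul_comm, pow_mul, hyk, one_pow]
  have hord : orderOf c ∣ 3 ^ k := orderOf_dvd_of_pow_eq_one hck
  obtain ⟨j, hj, hjo⟩ := (Nat.dvd_prime_pow Nat.prime_three).mp hord
  have hj0 : j ≠ 0 := by
    rintro rfl
    rw [pow_zero, orderOf_eq_one_iff] at hjo
    exact hc1 hjo
  set c' := c ^ 3 ^ (j - 1) with hc'
  have hc'3 : c' ^ 3 = 1 := by
    rw [hc', ← pow_mul, ← pow_succ, Nat.sub_add_cancel (Nat.pos_of_ne_zero hj0), ← hjo]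
    exact pow_orderOf_eq_one c
  have hc'1 : c' ≠ 1 := by
    intro e
    rw [hc'] at e
    have h4 : orderOf c ∣ 3 ^ (j - 1) := orderOf_dvd_of_pow_eq_one e
    rw [hjo] at h4
    have h5 := Nat.pow_dvd_pow_iff_le_right (by norm_num : 1 < 3) |>.mp h4
    omega
  have hc'cent : ∀ q ∈ Q, c' * q = q * c' := by
    intro q hq
    have h4 : c' ∈ Subgroup.centralizer (Q : Set G) := Subgroup.pow_mem _ h3 _
    exact (Subgroup.mem_centralizer_iff.mp h4 q hq).symm
  exact hc'1 (hg.cent_cube h R hc'cent hc'3)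

end Good

end Cfsg.Agent.Lib.Helper2.Zfp
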