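import Cfsg.Agent.Lib.Helper2.Zfp21

set_option autoImplicit false
set_option linter.style.haveILetI false

/-!
# Perfect groups, conjugacy of subgroups of prime order, normal subgroups of order divisible by `3`
-/

namespace Cfsg.Agent.Lib.Helper2.Zfp

universe u

theorem perfect_of_surjective {G H : Type*} [Group G] [Group H] (hG : commutator G = ⊤)
    (f : G →* H) (hf : Function.Surjective f) : commutator H = ⊤ := by
  rw [commutator_def] at hG ⊢
  have h1 : (⊤ : Subgroup H) = (⊤ : Subgroup G).map f := by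
    rw [← MonoidHom.range_eq_map, MonoidHom.range_eq_top.mpr hf]
  rw [h1, ← Subgroup.map_commutator, hG]

theorem subsingleton_of_perfect_of_solvable {H : Type*} [Group H] (hH : commutator H = ⊤)
    [hs : Group.IsSolvable H] : Subsingleton H := by
  by_contra hn
  rw [not_subsingleton_iff_nontrivial] at hn
  have := Group.IsSolvable.commutator_lt_top_of_nontrivial H
  rw [hH] at this
  exact lt_irrefl _ this

theorem ker_eq_top_of_perfect {G H : Type*} [Group G] [Group H] (hG : commutator G = ⊤)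
    (f : G →* H) [Group.IsSolvable H] : f.ker = ⊤ := by
  have h1 : commutator (G ⧸ f.ker) = ⊤ :=
    perfect_of_surjective hG (QuotientGroup.mk' f.ker) (QuotientGroup.mk'_surjective _)
  haveI : Group.IsSolvable (G ⧸ f.ker) :=
    solvable_of_solvable_injective (QuotientGroup.kerLift_injective f)
  have := subsingleton_of_perfect_of_solvable h1
  exact QuotientGroup.subsingleton_iff.mp this

variable {G : Type u} [Group G] [Finite G] {E : Type*} [Field E] [IsAlgClosed E] {M : Type*}
  [AddCommGroup M] [Module E M] [FiniteDimensional E M] [Nontrivial M]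

/-- elements of a cyclic subgroup commute -/
theorem commute_of_isCyclic (P : Subgroup G) (hP : IsCyclic P) {a b : G} (ha : a ∈ P) (hb : b ∈ P) :
    a * b = b * a := by
  obtain ⟨h, hh⟩ := hP.exists_generator
  obtain ⟨k, hk⟩ := Subgroup.mem_zpowers_iff.mp (hh ⟨a, ha⟩)
  obtain ⟨j, hj⟩ := Subgroup.mem_zpowers_iff.mp (hh ⟨b, hb⟩)
  have h1 : (⟨a, ha⟩ : P) * ⟨b, hb⟩ = ⟨b, hb⟩ * ⟨a, ha⟩ := by
    rw [← hk, ← hj]
    exact ((Commute.refl h).zpow_zpow k j).eq
  exact congrArg Subtype.val h1

/-- subgroups of the same odd prime order are conjugate -/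
theorem Rep.prime_conj (R : Rep G E M) {r : ℕ} (hr : r.Prime) (hr2 : r ≠ 2) {k g : G}
    (hk : k ^ r = 1) (hk1 : k ≠ 1) (hg : g ^ r = 1) :
    ∃ c : G, c * g * c⁻¹ ∈ Subgroup.zpowers k := by
  haveI : Fact r.Prime := ⟨hr⟩
  have hkp : IsPGroup r (Subgroup.zpowers k) := by
    apply IsPGroup.of_card (n := 1)
    rw [Nat.card_zpowers, pow_one]
    exact orderOf_eq_prime hk hk1
  have hgp : IsPGroup r (Subgroup.zpowers g) := by
    by_cases hg1 : g = 1
    · apply IsPGroup.of_card (n := 0)
      rw [Nat.card_zpowers, hg1, orderOf_one, pow_zero]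
    · apply IsPGroup.of_card (n := 1)
      rw [Nat.card_zpowers, pow_one]
      exact orderOf_eq_prime hg hg1
  obtain ⟨P, hP⟩ := hkp.exists_le_sylow
  obtain ⟨P', hP'⟩ := hgp.exists_le_sylow
  obtain ⟨c, hc⟩ := MulAction.exists_smul_eq G P' P
  refine ⟨c, ?_⟩
  have hmem : c * g * c⁻¹ ∈ (P : Subgroup G) := by
    rw [← hc, Sylow.coe_subgroup_smul, Subgroup.mem_smul_pointwise_iff_exists]
    exact ⟨g, hP' (Subgroup.mem_zpowers g), by simp [MulAut.smul_def]⟩
  have hcyc : IsCyclic (P : Subgroup G) := by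
    rcases R.pgroup_structure r P P.2 with hc | ⟨h2, -⟩
    · exact hc
    · exact absurd h2 hr2
  have hcomm := commute_of_isCyclic (P : Subgroup G) hcyc hmem (hP (Subgroup.mem_zpowers k))
  apply R.mem_zpowers_of_commute_prime hr hk hk1 _ hcomm
  rw [conj_pow, hg]
  group

/-- a normal subgroup of order divisible by three contains all elements of order three -/
theorem Rep.eq_top_of_three_dvd (R : Rep G E M) (hN : N3 G = ⊤) (K : Subgroup G) [hK : K.Normal]
    (h3 : 3 ∣ Nat.card K) : K = ⊤ := by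
  obtain ⟨k, hk⟩ := exists_prime_orderOf_dvd_card' 3 h3
  have hk3 : (k : G) ^ 3 = 1 := by
    have : k ^ 3 = 1 := by rw [← hk]; exact pow_orderOf_eq_one k
    have := congrArg Subtype.val this
    simpa using this
  have hk1 : (k : G) ≠ 1 := by
    intro e
    have : k = 1 := Subtype.ext e
    rw [this, orderOf_one] at hk
    norm_num at hk
  rw [eq_top_iff, ← hN]
  unfold N3
  rw [Subgroup.closure_le]
  intro g hg
  obtain ⟨c, hc⟩ := R.prime_conj Nat.prime_three (by norm_num) hk3 hk1 hg
  have h1 : c * g * c⁻¹ ∈ K := (Subgroup.zpowers_le.mpr k.2) hc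
  have h2 := hK.conj_mem _ h1 c⁻¹
  have e : c⁻¹ * (c * g * c⁻¹) * c⁻¹⁻¹ = g := by group
  rw [e] at h2
  exact h2

end Cfsg.Agent.Lib.Helper2.Zfp
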