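import Cfsg.Agent.Lib.Helper2.Zfp22
import Cfsg.Agent.S0106
import Cfsg.Agent.Lib.Helper5.SL2Count

set_option autoImplicit false
set_option linter.style.haveILetI false

/-!
# A normal `3'`-subgroup on which an element of order three acts non-trivially
-/

namespace Cfsg.Agent.Lib.Helper2.Zfp

universe u

theorem card_SL23 : Nat.card (Matrix.SpecialLinearGroup (Fin 2) (ZMod 3)) = 24 := by
  rw [Cfsg.Agent.Lib.Helper5.card_SL2, ZMod.card]

variable {G : Type u} [Group G] [Finite G] {E : Type*} [Field E] [IsAlgClosed E] {M : Type*}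
  [AddCommGroup M] [Module E M] [FiniteDimensional E M] [Nontrivial M]

/-- a group of order prime to three with a quaternion Sylow `2`-subgroup of order eight
has a normal `2`-complement consisting of the elements of odd order -/
theorem exists_odd_complement {K : Type*} [Group K] [Finite K] (h3 : ¬ 3 ∣ Nat.card K)
    (P : Sylow 2 K) (hP : Nonempty ((P : Subgroup K) ≃* QuaternionGroup 2)) :
    ∃ N : Subgroup K, Odd (Nat.card N) ∧ (∀ k : K, Odd (orderOf k) → k ∈ N) ∧
      Nat.card N * Nat.card P = Nat.card K := by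
  haveI : Fact (Nat.Prime 2) := ⟨Nat.prime_two⟩
  have hP' : Nonempty ((P : Subgroup K) ≃* QuaternionGroup (2 ^ 1)) := hP
  rcases Cfsg.Agent.S0106.result P 1 le_rfl hP' with ⟨P', N, hNn, hc⟩ | ⟨H, K', hK', ⟨e⟩⟩
  · have hcard : Nat.card N * Nat.card P' = Nat.card K := hc.card_mul_card
    have hPP' : Nat.card P' = Nat.card P := by
      rw [Sylow.card_eq_multiplicity, Sylow.card_eq_multiplicity]
    have hidx : (P' : Subgroup K).index = Nat.card N := by
      have h1 := (P' : Subgroup K).card_mul_index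
      have h2 : 0 < Nat.card P' := Nat.card_pos
      rw [← hcard, mul_comm] at h1
      exact Nat.eq_of_mul_eq_mul_right h2 h1
    have hodd : Odd (Nat.card N) := by
      rw [← hidx, ← Nat.not_even_iff_odd, even_iff_two_dvd]
      exact P'.not_dvd_index
    refine ⟨N, hodd, ?_, by rw [← hPP']; exact hcard⟩
    intro k hk
    haveI := hNn
    have h1 : Nat.card (K ⧸ N) = Nat.card P' := by
      rw [← Subgroup.index_eq_card]; exact hc.symm.index_eq_card
    have h2 : orderOf (QuotientGroup.mk' N k) ∣ Nat.card (K ⧸ N) := orderOf_dvd_natCard _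
    have h3' : orderOf (QuotientGroup.mk' N k) ∣ orderOf k := orderOf_map_dvd _ k
    obtain ⟨j, hj⟩ := P'.2.exists_card_eq
    rw [h1, hj] at h2
    have hcop : Nat.Coprime (orderOf k) (2 ^ j) :=
      Nat.Coprime.pow_right j (Nat.coprime_two_right.mpr hk)
    have h4 := Nat.eq_one_of_dvd_coprimes hcop h3' h2
    rw [orderOf_eq_one_iff] at h4
    exact (QuotientGroup.eq_one_iff k).mp h4
  · exfalso
    apply h3
    have h1 : Nat.card (H ⧸ K'.subgroupOf H) = 24 := by
      rw [Nat.card_congr e.toEquiv, card_SL23]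
    have h2 : Nat.card (H ⧸ K'.subgroupOf H) ∣ Nat.card H :=
      Subgroup.card_quotient_dvd_card _
    have h4 : Nat.card H ∣ Nat.card K := Subgroup.card_subgroup_dvd_card _
    rw [h1] at h2
    exact dvd_trans (by norm_num) (dvd_trans h2 h4)

/-- the key lemma on normal `3'`-subgroups with a non-centralized quaternion Sylow subgroup -/
theorem Rep.normal_quaternion (R : Rep G E M) (hN : N3 G = ⊤) (K : Subgroup G) [hKn : K.Normal]
    (h3 : ¬ 3 ∣ Nat.card K) {x : G} (hx3 : x ^ 3 = 1) (hx1 : x ≠ 1) (P : Sylow 2 K)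
    (hP8 : Nat.card P = 8) (hPnc : ¬ IsCyclic P) :
    ∃ O : Subgroup G, (∀ o ∈ O, ∀ g : G, o * g = g * o) ∧ Nat.Coprime (Nat.card O) 24 ∧
      (∀ k ∈ K, ∃ o ∈ O, ∃ q ∈ (P : Subgroup K).map K.subtype, k = o * q) ∧
      ((P : Subgroup K).map K.subtype).Normal := by
  haveI : Fact (Nat.Prime 2) := ⟨Nat.prime_two⟩
  set Q : Subgroup G := (P : Subgroup K).map K.subtype with hQ
  have hQcard : Nat.card Q = 8 := by
    rw [hQ, Subgroup.card_map_of_injective K.subtype_injective]; exact hP8
  let eQ : (P : Subgroup K) ≃* Q := (P : Subgroup K).equivMapOfInjective K.subtype K.subtype_injective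
  have hQnc : ¬ IsCyclic Q := by
    intro hc
    apply hPnc
    haveI := hc
    exact isCyclic_of_surjective eQ.symm eQ.symm.surjective
  obtain ⟨z, hz⟩ := exists_Q8 Q hQcard hQnc
  obtain ⟨eq⟩ := hz.equivQuat R
  obtain ⟨N, hNodd, hNmem, hNcard⟩ := exists_odd_complement h3 P ⟨eQ.trans eq⟩
  set O : Subgroup G := N.map K.subtype with hO
  have hOmem : ∀ g : G, g ∈ O ↔ g ∈ K ∧ Odd (orderOf g) := by
    intro g
    constructor
    · rintro ⟨n, hn, rfl⟩
      refine ⟨n.2, ?_⟩
      have h1 : orderOf (n : G) = orderOf n := Subgroup.orderOf_coe n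
      have h2 : orderOf (⟨n, hn⟩ : N) = orderOf n := (Subgroup.orderOf_coe (⟨n, hn⟩ : N)).symm
      have h3 : orderOf (⟨n, hn⟩ : N) ∣ Nat.card N := orderOf_dvd_natCard _
      show Odd (orderOf (n : G))
      rw [h1, ← h2]
      exact hNodd.of_dvd_nat h3
    · rintro ⟨hgK, hodd⟩
      refine ⟨⟨g, hgK⟩, hNmem _ ?_, rfl⟩
      have h1 : orderOf ((⟨g, hgK⟩ : K) : G) = orderOf (⟨g, hgK⟩ : K) := Subgroup.orderOf_coe _
      rw [← h1]
      exact hodd
  have hOcard : Nat.card O = Nat.card N := Subgroup.card_map_of_injective K.subtype_injective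
  haveI hOn : O.Normal := by
    constructor
    intro n hn g
    rw [hOmem] at hn ⊢
    refine ⟨hKn.conj_mem n hn.1 g, ?_⟩
    have : orderOf (g * n * g⁻¹) = orderOf n := by
      have := orderOf_injective (MulAut.conj g).toMonoidHom (MulAut.conj g).injective n
      simpa using this
    rw [this]; exact hn.2
  have hOK : O ≤ K := Subgroup.map_subtype_le _
  have hO3 : ¬ 3 ∣ Nat.card O := fun h => h3 (dvd_trans h (Subgroup.card_dvd_of_le hOK))
  have hOodd : Odd (Nat.card O) := by rw [hOcard]; exact hNodd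
  -- `x` centralizes `O`
  have hxO : ∀ o ∈ O, x * o = o * x := by
    rcases R.lemmaC hx3 O (by rw [Subgroup.normalizer_eq_top]; exact Subgroup.mem_top x) hO3
      with h | ⟨P₂, hP₂, -, -, -⟩
    · exact h
    · exfalso
      have h1 : Nat.card P₂ ∣ Nat.card O := Subgroup.card_subgroup_dvd_card _
      rw [hP₂] at h1
      have : ¬ (2 ∣ Nat.card O) := by
        rw [← even_iff_two_dvd, Nat.not_even_iff_odd]; exact hOodd
      exact this (dvd_trans (by norm_num) h1)
  -- `O` is central
  have hOc : ∀ o ∈ O, ∀ g : G, o * g = g * o := by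
    have hx : x ∈ Subgroup.centralizer (O : Set G) := by
      rw [Subgroup.mem_centralizer_iff]
      intro o ho
      exact (hxO o ho).symm
    have h3' : 3 ∣ Nat.card (Subgroup.centralizer (O : Set G)) := by
      have h1 : orderOf (⟨x, hx⟩ : Subgroup.centralizer (O : Set G)) = 3 := by
        rw [← Subgroup.orderOf_coe]
        exact orderOf_eq_prime hx3 hx1
      rw [← h1]
      exact orderOf_dvd_natCard _
    have htop := R.eq_top_of_three_dvd hN (Subgroup.centralizer (O : Set G)) h3'
    intro o ho g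
    have : g ∈ Subgroup.centralizer (O : Set G) := by rw [htop]; exact Subgroup.mem_top g
    exact Subgroup.mem_centralizer_iff.mp this o ho
  -- decomposition of `K`
  have hdec : ∀ k ∈ K, ∃ o ∈ O, ∃ q ∈ Q, k = o * q := by
    have hcop : Nat.Coprime (Nat.card N) (Nat.card P) := by
      rw [hP8]
      have : Nat.Coprime (Nat.card N) 2 := Nat.coprime_two_right.mpr hNodd
      exact Nat.Coprime.pow_right 3 this
    have hc : Subgroup.IsComplement' N (P : Subgroup K) :=
      Subgroup.isComplement'_of_coprime hNcard hcop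
    intro k hk
    obtain ⟨⟨n, q⟩, hnq⟩ := hc.2 ⟨k, hk⟩
    refine ⟨(n : K), ⟨n, n.2, rfl⟩, (q : K), ⟨q, q.2, rfl⟩, ?_⟩
    have := congrArg Subtype.val hnq
    simpa using this.symm
  refine ⟨O, hOc, ?_, hdec, ?_⟩
  · have h2 : Nat.Coprime (Nat.card O) 2 := Nat.coprime_two_right.mpr hOodd
    have h3'' : Nat.Coprime (Nat.card O) 3 :=
      ((Nat.Prime.coprime_iff_not_dvd Nat.prime_three).mpr hO3).symm
    have : (24 : ℕ) = 2 ^ 3 * 3 := by norm_num
    rw [this]
    exact Nat.Coprime.mul_right (Nat.Coprime.pow_right 3 h2) h3''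
  · constructor
    intro q hq g
    have hqK : q ∈ K := Subgroup.map_subtype_le _ hq
    obtain ⟨o, ho, q', hq', e⟩ := hdec _ (hKn.conj_mem q hqK g)
    have hq8 : q ^ 8 = 1 := by
      have h1 : orderOf (⟨q, hq⟩ : Q) ∣ 8 := by rw [← hQcard]; exact orderOf_dvd_natCard _
      have h2 : (⟨q, hq⟩ : Q) ^ 8 = 1 := orderOf_dvd_iff_pow_eq_one.mp h1
      have := congrArg Subtype.val h2
      simpa using this
    have hq'8 : q' ^ 8 = 1 := by
      have h1 : orderOf (⟨q', hq'⟩ : Q) ∣ 8 := by rw [← hQcard]; exact orderOf_dvd_natCard _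
      have h2 : (⟨q', hq'⟩ : Q) ^ 8 = 1 := orderOf_dvd_iff_pow_eq_one.mp h1
      have := congrArg Subtype.val h2
      simpa using this
    have ho8 : o ^ 8 = 1 := by
      have h1 : (g * q * g⁻¹) ^ 8 = 1 := by rw [conj_pow, hq8]; group
      rw [e, (show Commute o q' from hOc o ho q').mul_pow, hq'8, mul_one] at h1
      exact h1
    have ho1 : o = 1 := by
      have hd : orderOf o ∣ 8 := orderOf_dvd_of_pow_eq_one ho8
      have hodd : Odd (orderOf o) := ((hOmem o).mp ho).2
      have hcop : Nat.Coprime (orderOf o) 8 :=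
        Nat.Coprime.pow_right 3 (Nat.coprime_two_right.mpr hodd)
      exact orderOf_eq_one_iff.mp (Nat.eq_one_of_dvd_coprimes hcop dvd_rfl hd)
    rw [e, ho1, one_mul]
    exact hq'

end Cfsg.Agent.Lib.Helper2.Zfp
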