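import Cfsg.Agent.Lib.Helper2.Zfp23
import Cfsg.Agent.S0102
import Cfsg.Agent.Lib.Helper8.SmallSolvable

set_option autoImplicit false
set_option linter.style.haveILetI false

/-!
# Groups generated by elements of order three: perfectness, normal subgroups, the centre
-/

namespace Cfsg.Agent.Lib.Helper2.Zfp

open scoped commutatorElement Pointwise

universe u

theorem mem_sup_normal {G : Type*} [Group G] (H N : Subgroup G) [N.Normal] {g : G}
    (hg : g ∈ H ⊔ N) : ∃ a ∈ H, ∃ b ∈ N, a * b = g := by
  have h1 : g ∈ ((H ⊔ N : Subgroup G) : Set G) := hg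
  rw [Subgroup.mul_normal] at h1
  obtain ⟨a, ha, b, hb, e⟩ := Set.mem_mul.mp h1
  exact ⟨a, ha, b, hb, e⟩

variable {G : Type u} [Group G] [Finite G] {E : Type*} [Field E] [IsAlgClosed E] {M : Type*}
  [AddCommGroup M] [Module E M] [FiniteDimensional E M] [Nontrivial M]

/-- a group generated by its elements of order three, with two of them not commuting and of order
larger than `24`, is perfect -/
theorem Rep.perfect_of_gen (R : Rep G E M) (hN : N3 G = ⊤) {x y : G} (hx : x ^ 3 = 1)
    (hy : y ^ 3 = 1) (hxy : x * y ≠ y * x) (hcard : 24 < Nat.card G) : commutator G = ⊤ := by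
  by_contra hK
  set K := commutator G with hKdef
  have h3 : ¬ 3 ∣ Nat.card K := fun h => hK (R.eq_top_of_three_dvd hN K h)
  have hx1 : x ≠ 1 := by
    rintro rfl
    apply hxy; simp
  have hgen : ∀ g : G, g ^ 3 = 1 → g ∈ Subgroup.zpowers x ⊔ K := by
    intro g hg
    obtain ⟨c, hc⟩ := R.prime_conj Nat.prime_three (by norm_num) hx hx1 hg
    set a := c * g * c⁻¹ with ha
    have e : g = a * ⁅a⁻¹, c⁻¹⁆ := by
      rw [commutatorElement_def, ha]; group
    rw [e]
    apply Subgroup.mul_mem_sup hc
    rw [hKdef, commutator_def]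
    exact Subgroup.commutator_mem_commutator (Subgroup.mem_top _) (Subgroup.mem_top _)
  rcases R.lemmaC hx K (by rw [Subgroup.normalizer_eq_top]; exact Subgroup.mem_top x) h3 with
    hc | ⟨P, hP8, hPnc, hxP, hnc⟩
  · apply hxy
    obtain ⟨a, ha, b, hb, rfl⟩ := mem_sup_normal _ _ (hgen y hy)
    obtain ⟨k, rfl⟩ := Subgroup.mem_zpowers_iff.mp ha
    have h1 : Commute x (x ^ k) := (Commute.refl x).zpow_right k
    have h2 : Commute x b := hc b hb
    exact (h1.mul_right h2).eq
  · obtain ⟨O, hOc, hOcop, hdec, hQn⟩ := R.normal_quaternion hN K h3 hx hx1 P hP8 hPnc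
    set Q : Subgroup G := (P : Subgroup K).map K.subtype with hQ
    haveI := hQn
    have hQcard : Nat.card Q = 8 := by
      rw [hQ, Subgroup.card_map_of_injective K.subtype_injective]; exact hP8
    have hq8 : ∀ q ∈ Q, q ^ 8 = 1 := by
      intro q hq
      have h1 : orderOf (⟨q, hq⟩ : Q) ∣ 8 := by rw [← hQcard]; exact orderOf_dvd_natCard _
      have h2 : (⟨q, hq⟩ : Q) ^ 8 = 1 := orderOf_dvd_iff_pow_eq_one.mp h1
      have := congrArg Subtype.val h2
      simpa using this
    set S₁ := Q ⊔ Subgroup.zpowers x with hS₁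
    have hS : ∀ g : G, g ^ 3 = 1 → g ∈ S₁ := by
      intro g hg
      obtain ⟨a, ha, k, hk, rfl⟩ := mem_sup_normal _ _ (hgen g hg)
      obtain ⟨o, ho, q, hq, rfl⟩ := hdec k hk
      set σ := a * q with hσ
      have hσS : σ ∈ S₁ :=
        Subgroup.mul_mem _ (Subgroup.mem_sup_right ha) (Subgroup.mem_sup_left hq)
      have hgo : a * (o * q) = o * σ := by
        rw [hσ, ← mul_assoc, ← hOc o ho a, mul_assoc]
      rw [hgo] at hg ⊢
      -- `σ ^ 24 = 1`
      have hσ3 : σ ^ 3 ∈ Q := by
        have h1 : (QuotientGroup.mk' Q σ) ^ 3 = 1 := by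
          have hq1 : QuotientGroup.mk' Q q = 1 := (QuotientGroup.eq_one_iff q).mpr hq
          rw [hσ, map_mul, hq1, mul_one, ← map_pow]
          obtain ⟨j, rfl⟩ := Subgroup.mem_zpowers_iff.mp ha
          rw [← zpow_natCast, ← zpow_mul, mul_comm, zpow_mul, zpow_natCast, hx, one_zpow, map_one]
        rw [← map_pow] at h1
        exact (QuotientGroup.eq_one_iff _).mp h1
      have hσ24 : σ ^ 24 = 1 := by
        rw [show (24 : ℕ) = 3 * 8 from rfl, pow_mul]
        exact hq8 _ hσ3
      have ho24 : o ^ 24 = 1 := by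
        have h1 : (o * σ) ^ 24 = 1 := by
          rw [show (24 : ℕ) = 3 * 8 from rfl, pow_mul, hg, one_pow]
        rw [(show Commute o σ from hOc o ho σ).mul_pow, hσ24, mul_one] at h1
        exact h1
      have ho1 : o = 1 := by
        have hd : orderOf o ∣ 24 := orderOf_dvd_of_pow_eq_one ho24
        have hd2 : orderOf o ∣ Nat.card O := by
          have := orderOf_dvd_natCard (⟨o, ho⟩ : O)
          rwa [← Subgroup.orderOf_coe] at this
        exact orderOf_eq_one_iff.mp (Nat.eq_one_of_dvd_coprimes hOcop hd2 hd)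
      rw [ho1, one_mul]
      exact hσS
    have htop : S₁ = ⊤ := by
      rw [eq_top_iff, ← hN]
      unfold N3
      rw [Subgroup.closure_le]
      exact hS
    have hle : Nat.card G ≤ 24 := by
      have h1 : Nat.card S₁ = Nat.card G := by rw [htop, Subgroup.card_top]
      have h2 : ((S₁ : Subgroup G) : Set G) = (Q : Set G) * (Subgroup.zpowers x : Set G) :=
        Subgroup.normal_mul Q _
      have h3 : Nat.card S₁ = Nat.card ((Q : Set G) * (Subgroup.zpowers x : Set G) : Set G) := by
        rw [← h2]; rfl
      have h4 := Set.natCard_mul_le (s := (Q : Set G)) (t := (Subgroup.zpowers x : Set G))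
      have h5 : Nat.card (Subgroup.zpowers x : Set G) = 3 := by
        have : Nat.card (Subgroup.zpowers x) = 3 := by
          rw [Nat.card_zpowers]; exact orderOf_eq_prime hx hx1
        exact this
      have h6 : Nat.card (Q : Set G) = 8 := hQcard
      rw [h5, h6] at h4
      omega
    omega

/-- in a perfect group generated by its elements of order three, proper normal subgroups are
central -/
theorem Rep.normal_le_center (R : Rep G E M) (hN : N3 G = ⊤) (hperf : commutator G = ⊤)
    (K : Subgroup G) [hKn : K.Normal] (hK : K ≠ ⊤) : K ≤ Subgroup.center G := by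
  have h3 : ¬ 3 ∣ Nat.card K := fun h => hK (R.eq_top_of_three_dvd hN K h)
  have key : ∀ x : G, x ^ 3 = 1 → ∀ k ∈ K, x * k = k * x := by
    intro x hx
    by_cases hx1 : x = 1
    · intro k _; rw [hx1]; simp
    rcases R.lemmaC hx K (by rw [Subgroup.normalizer_eq_top]; exact Subgroup.mem_top x) h3 with
      hc | ⟨P, hP8, hPnc, hxP, hnc⟩
    · exact hc
    · exfalso
      obtain ⟨O, -, -, -, hQn⟩ := R.normal_quaternion hN K h3 hx hx1 P hP8 hPnc
      set Q : Subgroup G := (P : Subgroup K).map K.subtype with hQ
      haveI := hQn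
      have hQcard : Nat.card Q = 8 := by
        rw [hQ, Subgroup.card_map_of_injective K.subtype_injective]; exact hP8
      let eQ : (P : Subgroup K) ≃* Q :=
        (P : Subgroup K).equivMapOfInjective K.subtype K.subtype_injective
      have hQnc : ¬ IsCyclic Q := by
        intro hc
        apply hPnc
        haveI := hc
        exact isCyclic_of_surjective eQ.symm eQ.symm.surjective
      obtain ⟨z, hz⟩ := exists_Q8 Q hQcard hQnc
      haveI : Finite (MulAut Q) := by
        apply Nat.finite_of_card_ne_zero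
        rw [hz.card_mulAut R]; norm_num
      haveI : Group.IsSolvable (MulAut Q) :=
        Cfsg.Agent.Lib.Helper8.isSolvable_of_card_dvd_24 (by rw [hz.card_mulAut R])
      have hker := ker_eq_top_of_perfect hperf (MulAut.conjNormal (H := Q))
      apply hnc
      intro g hg
      have hx' : x ∈ (MulAut.conjNormal (H := Q)).ker := by rw [hker]; exact Subgroup.mem_top x
      rw [MonoidHom.mem_ker] at hx'
      have h1 := congrArg (fun φ : MulAut Q => ((φ ⟨g, hg⟩ : Q) : G)) hx'
      simp only [MulAut.conjNormal_apply, MulAut.one_apply] at h1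
      calc x * g = x * g * x⁻¹ * x := by group
        _ = g * x := by rw [h1]
  intro k hk
  rw [Subgroup.mem_center_iff]
  have h1 : N3 G ≤ Subgroup.centralizer ({k} : Set G) := by
    unfold N3
    rw [Subgroup.closure_le]
    intro g hg
    rw [SetLike.mem_coe, Subgroup.mem_centralizer_singleton_iff]
    exact key g hg k hk
  intro g
  have : g ∈ Subgroup.centralizer ({k} : Set G) := h1 (by rw [hN]; exact Subgroup.mem_top g)
  exact (Subgroup.mem_centralizer_singleton_iff.mp this)

/-- the centre of a perfect fixed-point-free group with a quaternion subgroup has order two -/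
theorem Rep.center_le (R : Rep G E M) (hperf : commutator G = ⊤) {Q : Subgroup G} {z : G}
    (h : Q8 Q z) : ∀ c ∈ Subgroup.center G, c = 1 ∨ c = z := by
  intro c hc
  obtain ⟨t, ht, htz⟩ := h.exists_order_four R
  obtain ⟨s, hs, hst⟩ := h.exists_not_mem ht
  have hcg : ∀ g : G, c * g = g * c := fun g => (Subgroup.mem_center_iff.mp hc g).symm
  obtain ⟨k, m, hm, hn⟩ := Nat.exists_eq_two_pow_mul_odd (orderOf_pos c).ne'
  by_cases hm1 : m = 1
  · rw [hm1, mul_one] at hn
    exact h.cent_two_pow R ht hs htz hst k (by rw [← hn]; exact pow_orderOf_eq_one c) (hcg t)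
      (hcg s)
  · exfalso
    obtain ⟨r, hr, hrm⟩ := Nat.exists_prime_and_dvd hm1
    haveI : Fact r.Prime := ⟨hr⟩
    have hr2 : r ≠ 2 := by
      rintro rfl
      have : ¬ (2 ∣ m) := by rw [← even_iff_two_dvd, Nat.not_even_iff_odd]; exact hm
      exact this hrm
    have hrn : r ∣ orderOf c := by rw [hn]; exact dvd_mul_of_dvd_right hrm _
    set c' := c ^ (orderOf c / r) with hc'
    have hc'ord : orderOf c' = r := orderOf_pow_orderOf_div (orderOf_pos c).ne' hrn
    have hc'Z : c' ∈ Subgroup.center G := Subgroup.pow_mem _ hc _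
    have hdiv : r ∣ Nat.card (Subgroup.center G) := by
      have := orderOf_dvd_natCard (⟨c', hc'Z⟩ : Subgroup.center G)
      rwa [← Subgroup.orderOf_coe, hc'ord] at this
    have hsurj : Function.Surjective (QuotientGroup.mk' (Subgroup.center G)) :=
      QuotientGroup.mk'_surjective _
    have hcyc : ∀ P : Sylow r (G ⧸ Subgroup.center G), IsCyclic P := by
      intro P
      obtain ⟨P₀, rfl⟩ := Sylow.mapSurjective_surjective hsurj r P
      have h0 : IsCyclic (P₀ : Subgroup G) := by
        rcases R.pgroup_structure r P₀ P₀.2 with hc | ⟨h2, -⟩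
        · exact hc
        · exact absurd h2 hr2
      haveI := h0
      exact isCyclic_of_surjective
        ((QuotientGroup.mk' (Subgroup.center G)).subgroupMap (P₀ : Subgroup G))
        (MonoidHom.subgroupMap_surjective _ _)
    have := Cfsg.Agent.S0102.result
      (perfect_of_surjective hperf (QuotientGroup.mk' (Subgroup.center G)) hsurj) hcyc
      (QuotientGroup.mk' (Subgroup.center G)) hsurj (by rw [QuotientGroup.ker_mk']) hperf
    rw [QuotientGroup.ker_mk'] at this
    exact this hdiv

end Cfsg.Agent.Lib.Helper2.Zfp
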