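import Cfsg.Agent.Lib.Helper2.Zfp24
import Cfsg.Agent.Lib.Lead.ThompsonTransfer

set_option autoImplicit false
set_option linter.style.haveILetI false

/-!
# Thompson transfer for elements of order four, and small lemmas on quaternion subgroups
-/

namespace Cfsg.Agent.Lib.Helper2.Zfp

universe u

variable {G : Type u} [Group G] [Finite G] {E : Type*} [Field E] [IsAlgClosed E] {M : Type*}
  [AddCommGroup M] [Module E M] [FiniteDimensional E M] [Nontrivial M]

/-- Thompson transfer: in a perfect group, an element of order four of a Sylow `2`-subgroup is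
conjugate into any subgroup of index two containing the involution -/
theorem Rep.thompson_fusion (R : Rep G E M) (hperf : commutator G = ⊤) {z : G} (hz1 : z ≠ 1)
    (hz2 : z * z = 1) (P : Sylow 2 G) (Q₀ : Subgroup G) (hQ₀P : Q₀ ≤ P) (hzQ : z ∈ Q₀)
    (hidx : Q₀.relIndex (P : Subgroup G) = 2) (u : G) (hu : u * u = z) :
    ∃ g : G, g * u * g⁻¹ ∈ Q₀ := by
  haveI : Fact (Nat.Prime 2) := ⟨Nat.prime_two⟩
  by_contra hno
  push Not at hno
  set Z := Subgroup.zpowers z with hZ
  haveI hZn : Z.Normal := by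
    constructor
    intro n hn g
    obtain ⟨k, rfl⟩ := Subgroup.mem_zpowers_iff.mp hn
    have hc : g * z = z * g := R.involution_central hz1 hz2 g
    have : g * z ^ k * g⁻¹ = z ^ k := by
      have h1 : Commute g (z ^ k) := (show Commute g z from hc).zpow_right k
      rw [h1.eq]; group
    rw [this]
    exact Subgroup.zpow_mem_zpowers z k
  have hZQ : Z ≤ Q₀ := Subgroup.zpowers_le.mpr hzQ
  have hmemZ : ∀ g : G, g ∈ Z → g = 1 ∨ g = z := by
    intro g hg
    obtain ⟨k, rfl⟩ := Subgroup.mem_zpowers_iff.mp hg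
    rcases Int.emod_two_eq_zero_or_one k with h0 | h1
    · left
      have : k = 2 * (k / 2) := by omega
      rw [this, zpow_mul, zpow_two, hz2, one_zpow]
    · right
      have : k = 2 * (k / 2) + 1 := by omega
      rw [this, zpow_add, zpow_mul, zpow_two, hz2, one_zpow, one_mul, zpow_one]
  set f := QuotientGroup.mk' Z with hf
  have hsurj : Function.Surjective f := QuotientGroup.mk'_surjective Z
  have hker : f.ker = Z := QuotientGroup.ker_mk' Z
  set Pb : Sylow 2 (G ⧸ Z) := P.mapSurjective hsurj with hPb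
  have hPbc : (Pb : Subgroup (G ⧸ Z)) = (P : Subgroup G).map f := Sylow.coe_mapSurjective hsurj P
  have hrel : (Q₀.map f).relIndex (Pb : Subgroup (G ⧸ Z)) = 2 := by
    rw [hPbc, Subgroup.relIndex_map_map, hker, sup_eq_left.mpr hZQ,
      sup_eq_left.mpr (hZQ.trans hQ₀P)]
    exact hidx
  have huZ : u ∉ Z := by
    intro hm
    rcases hmemZ u hm with e | e
    · rw [e, one_mul] at hu; exact hz1 hu.symm
    · rw [e, hz2] at hu; exact hz1 hu.symm
  have hub : orderOf (f u) = 2 := by
    apply orderOf_eq_prime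
    · rw [← map_pow, pow_two, hu]
      exact (QuotientGroup.eq_one_iff z).mpr (Subgroup.mem_zpowers z)
    · intro e
      exact huZ ((QuotientGroup.eq_one_iff u).mp e)
  have hnc : ∀ gb : G ⧸ Z, gb * f u * gb⁻¹ ∉ Q₀.map f := by
    intro gb
    obtain ⟨g, rfl⟩ := hsurj gb
    rintro ⟨q, hq, hqe⟩
    apply hno g
    have h1 : f (q⁻¹ * (g * u * g⁻¹)) = 1 := by
      rw [map_mul, map_inv, hqe, map_mul, map_mul, map_inv]; group
    have h2 : q⁻¹ * (g * u * g⁻¹) ∈ Z := (QuotientGroup.eq_one_iff _).mp h1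
    have h3 : q * (q⁻¹ * (g * u * g⁻¹)) ∈ Q₀ := Q₀.mul_mem hq (hZQ h2)
    have e : q * (q⁻¹ * (g * u * g⁻¹)) = g * u * g⁻¹ := by group
    rwa [e] at h3
  obtain ⟨Mb, hMn, hMi, -⟩ :=
    Cfsg.Agent.Lib.Lead.thompson_transfer Pb (Q₀.map f) hrel (f u) hub hnc
  haveI := hMn
  have hperfb : commutator (G ⧸ Z) = ⊤ := perfect_of_surjective hperf f hsurj
  haveI : Group.IsSolvable ((G ⧸ Z) ⧸ Mb) := by
    apply Cfsg.Agent.Lib.Helper8.isSolvable_of_card_dvd_24
    rw [← Subgroup.index_eq_card, hMi]; norm_num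
  have := ker_eq_top_of_perfect hperfb (QuotientGroup.mk' Mb)
  rw [QuotientGroup.ker_mk'] at this
  rw [this, Subgroup.index_top] at hMi
  norm_num at hMi

/-- a conjugate of `t` lying in `⟨t⟩` forces membership in the normalizer -/
theorem mem_normalizer_zpowers {q t : G} (h : q * t * q⁻¹ ∈ Subgroup.zpowers t) :
    q ∈ Subgroup.normalizer ((Subgroup.zpowers t : Subgroup G) : Set G) := by
  apply Subgroup.mem_normalizer_fintype
  intro n hn
  obtain ⟨k, rfl⟩ := Subgroup.mem_zpowers_iff.mp hn
  have : q * t ^ k * q⁻¹ = (q * t * q⁻¹) ^ k := by rw [conj_zpow]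
  rw [SetLike.mem_coe, this]
  exact Subgroup.zpow_mem _ h k

/-- an element of the same order inside a cyclic group generates it -/
theorem zpowers_eq_of_mem {a b : G} (h : a ∈ Subgroup.zpowers b) (ho : orderOf a = orderOf b) :
    Subgroup.zpowers a = Subgroup.zpowers b := by
  apply Subgroup.eq_of_le_of_card_ge (Subgroup.zpowers_le.mpr h)
  rw [Nat.card_zpowers, Nat.card_zpowers, ho]

namespace Q8

variable {Q : Subgroup G} {z : G}

theorem le_normalizer_zpowers (h : Q8 Q z) (R : Rep G E M) {t : G} (ht : t ∈ Q)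
    (htz : t * t = z) : Q ≤ Subgroup.normalizer ((Subgroup.zpowers t : Subgroup G) : Set G) := by
  intro q hq
  apply mem_normalizer_zpowers
  by_cases hqt : q ∈ Subgroup.zpowers t
  · obtain ⟨k, rfl⟩ := Subgroup.mem_zpowers_iff.mp hqt
    have : t ^ k * t * (t ^ k)⁻¹ = t := by
      have h1 : Commute (t ^ k) t := (Commute.refl t).zpow_left k
      rw [h1.eq]; group
    rw [this]
    exact Subgroup.mem_zpowers t
  · rw [h.conj_eq_inv R ht hq htz hqt]
    exact Subgroup.inv_mem _ (Subgroup.mem_zpowers t)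

/-- elements of order four of `⟨t⟩` -/
theorem eq_or_eq_inv (h : Q8 Q z) {t v : G} (htz : t * t = z) (hv : v ∈ Subgroup.zpowers t)
    (hvz : v * v = z) : v = t ∨ v = t⁻¹ := by
  have ht4 : t ^ 4 = 1 := by
    rw [show (4 : ℕ) = 2 + 2 from rfl, pow_add, pow_two, htz, h.z_sq]
  rcases mem_zpowers_four ht4 hv with e | e | e | e
  · exfalso; rw [e, one_mul] at hvz; exact h.z_ne hvz.symm
  · left; exact e
  · exfalso; rw [e, htz, h.z_sq] at hvz; exact h.z_ne hvz.symm
  · right
    rw [e, eq_inv_iff_mul_eq_one]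
    calc t * t * t * t = t ^ 4 := by
          rw [show (4 : ℕ) = 3 + 1 from rfl, pow_succ, pow_succ, pow_two]
      _ = 1 := ht4

theorem sq_of_not_mem (h : Q8 Q z) (R : Rep G E M) {t s : G} (hs : s ∈ Q) (htz : t * t = z)
    (hst : s ∉ Subgroup.zpowers t) : s * s = z := by
  apply h.sq_eq R hs
  · rintro rfl; exact hst (Subgroup.one_mem _)
  · rintro rfl
    apply hst
    rw [← htz, ← pow_two]
    exact Subgroup.pow_mem _ (Subgroup.mem_zpowers _) 2

theorem not_mem_symm (h : Q8 Q z) (R : Rep G E M) {t s : G} (ht : t ∈ Q) (hs : s ∈ Q)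
    (htz : t * t = z) (hst : s ∉ Subgroup.zpowers t) : t ∉ Subgroup.zpowers s := by
  intro hm
  apply h.not_commute R ht hs htz hst
  obtain ⟨k, hk⟩ := Subgroup.mem_zpowers_iff.mp hm
  rw [← hk]
  exact ((Commute.refl s).zpow_right k).eq

/-- an element normalizing two distinct cyclic subgroups of order four can be corrected by an
element of the quaternion group so as to centralize both -/
theorem exists_mul_centralizes (h : Q8 Q z) (R : Rep G E M) {t s : G} (ht : t ∈ Q) (hs : s ∈ Q)
    (htz : t * t = z) (hst : s ∉ Subgroup.zpowers t) {c : G}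
    (hct : c * t * c⁻¹ ∈ Subgroup.zpowers t) (hcs : c * s * c⁻¹ ∈ Subgroup.zpowers s) :
    ∃ q ∈ Q, (c * q) * t = t * (c * q) ∧ (c * q) * s = s * (c * q) := by
  have hsz : s * s = z := h.sq_of_not_mem R hs htz hst
  have hts : t ∉ Subgroup.zpowers s := h.not_mem_symm R ht hs htz hst
  have hzc : ∀ g : G, g * z = z * g := fun g => h.z_central R g
  have h1 : (c * t * c⁻¹) * (c * t * c⁻¹) = z := by
    calc (c * t * c⁻¹) * (c * t * c⁻¹) = c * (t * t) * c⁻¹ := by group
      _ = z := by rw [htz, hzc c]; group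
  have h2 : (c * s * c⁻¹) * (c * s * c⁻¹) = z := by
    calc (c * s * c⁻¹) * (c * s * c⁻¹) = c * (s * s) * c⁻¹ := by group
      _ = z := by rw [hsz, hzc c]; group
  have hinv1 : s * t * s⁻¹ = t⁻¹ := h.conj_eq_inv R ht hs htz hst
  have hinv2 : t * s * t⁻¹ = s⁻¹ := h.conj_eq_inv R hs ht hsz hts
  have key : ∀ a b : G, a * b * a⁻¹ = b → a * b = b * a := by
    intro a b e
    calc a * b = a * b * a⁻¹ * a := by group
      _ = b * a := by rw [e]
  rcases h.eq_or_eq_inv htz hct h1 with e1 | e1 <;> rcases h.eq_or_eq_inv hsz hcs h2 with e2 | e2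
  · refine ⟨1, Q.one_mem, ?_, ?_⟩
    · rw [mul_one]; exact key _ _ e1
    · rw [mul_one]; exact key _ _ e2
  · refine ⟨t, ht, key _ _ ?_, key _ _ ?_⟩
    · calc c * t * t * (c * t)⁻¹ = c * t * c⁻¹ := by group
        _ = t := e1
    · calc c * t * s * (c * t)⁻¹ = c * (t * s * t⁻¹) * c⁻¹ := by group
        _ = (c * s * c⁻¹)⁻¹ := by rw [hinv2]; group
        _ = s := by rw [e2, inv_inv]
  · refine ⟨s, hs, key _ _ ?_, key _ _ ?_⟩
    · calc c * s * t * (c * s)⁻¹ = c * (s * t * s⁻¹) * c⁻¹ := by group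
        _ = (c * t * c⁻¹)⁻¹ := by rw [hinv1]; group
        _ = t := by rw [e1, inv_inv]
    · calc c * s * s * (c * s)⁻¹ = c * s * c⁻¹ := by group
        _ = s := e2
  · refine ⟨s * t, Q.mul_mem hs ht, key _ _ ?_, key _ _ ?_⟩
    · calc c * (s * t) * t * (c * (s * t))⁻¹ = c * (s * t * s⁻¹) * c⁻¹ := by group
        _ = (c * t * c⁻¹)⁻¹ := by rw [hinv1]; group
        _ = t := by rw [e1, inv_inv]
    · calc c * (s * t) * s * (c * (s * t))⁻¹ = c * (s * (t * s * t⁻¹) * s⁻¹) * c⁻¹ := by group
        _ = c * s⁻¹ * c⁻¹ := by rw [hinv2]; group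
        _ = (c * s * c⁻¹)⁻¹ := by group
        _ = s := by rw [e2, inv_inv]

end Q8

namespace Good

variable {Q : Subgroup G} {z x : G}

/-- the three cyclic subgroups of order four of a good quaternion subgroup -/
theorem order_four_cases (hg : Good Q x) (h : Q8 Q z) (R : Rep G E M) {t : G} (ht : t ∈ Q)
    (htz : t * t = z) {v : G} (hv : v ∈ Q) (hvz : v * v = z) :
    v ∈ Subgroup.zpowers t ∨ v ∈ Subgroup.zpowers (x * t * x⁻¹) ∨
      v ∈ Subgroup.zpowers (x * (x * t * x⁻¹) * x⁻¹) := by
  set s := x * t * x⁻¹ with hs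
  set s' := x * s * x⁻¹ with hs'
  have hsQ : s ∈ Q := hg.conj_mem ht
  have hs'Q : s' ∈ Q := hg.conj_mem hsQ
  have hst : s ∉ Subgroup.zpowers t := h.conj_not_mem R hg.x3 hg.norm hg.nc ht htz
  have hsz : s * s = z := h.sq_of_not_mem R hsQ htz hst
  have hs's : s' ∉ Subgroup.zpowers s := h.conj_not_mem R hg.x3 hg.norm hg.nc hsQ hsz
  have hs'z : s' * s' = z := h.sq_of_not_mem R hs'Q hsz hs's
  have hT : T3 t s x := hg.t3 h R ht htz
  have ht4 : t ^ 4 = 1 := h.pow_four R ht
  have hzc : ∀ g : G, g * z = z * g := fun g => h.z_central R g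
  by_cases h1 : v ∈ Subgroup.zpowers t
  · left; exact h1
  by_cases h2 : v ∈ Subgroup.zpowers s
  · right; left; exact h2
  right; right
  -- `v = s * t ^ i` with `i` odd, and the same for `s'`
  have hs't : s' ∉ Subgroup.zpowers t := by
    intro hm
    rcases hT.hts with e | e
    · rw [← hs'] at e
      apply hst
      have : s = t⁻¹ * s' := by rw [e]; group
      rw [this]
      exact Subgroup.mul_mem _ (Subgroup.inv_mem _ (Subgroup.mem_zpowers t)) hm
    · rw [← hs'] at e
      apply hst
      have : s = (t * t * t)⁻¹ * s' := by rw [e]; group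
      rw [this]
      apply Subgroup.mul_mem _ (Subgroup.inv_mem _ _) hm
      exact Subgroup.mul_mem _ (Subgroup.mul_mem _ (Subgroup.mem_zpowers t)
        (Subgroup.mem_zpowers t)) (Subgroup.mem_zpowers t)
  have hcase : ∀ w : G, w ∈ Q → w ∉ Subgroup.zpowers t → w ∉ Subgroup.zpowers s →
      w = s * t ∨ w = s * (t * t * t) := by
    intro w hw hw1 hw2
    rcases h.mem_or R ht hsQ hw htz hst with hm | hm
    · exact absurd hm hw1
    · rcases mem_zpowers_four ht4 hm with e | e | e | e
      · exfalso; apply hw2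
        have : w = s := by
          calc w = s * (s⁻¹ * w) := by group
            _ = s := by rw [e, mul_one]
        rw [this]; exact Subgroup.mem_zpowers s
      · left
        calc w = s * (s⁻¹ * w) := by group
          _ = s * t := by rw [e]
      · exfalso; apply hw2
        have : w = s * (s * s) := by
          calc w = s * (s⁻¹ * w) := by group
            _ = s * (s * s) := by rw [e, htz, hsz]
        rw [this]
        exact Subgroup.mul_mem _ (Subgroup.mem_zpowers s)
          (Subgroup.mul_mem _ (Subgroup.mem_zpowers s) (Subgroup.mem_zpowers s))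
      · right
        calc w = s * (s⁻¹ * w) := by group
          _ = s * (t * t * t) := by rw [e]
  have hrel : s * (t * t * t) = (s * t)⁻¹ := by
    rw [eq_inv_iff_mul_eq_one]
    have hstQ : s * t ∈ Q := Q.mul_mem hsQ ht
    have hstz : (s * t) * (s * t) = z := by
      apply h.sq_eq R hstQ
      · intro e
        apply hst
        have : s = t⁻¹ := eq_inv_of_mul_eq_one_left e
        rw [this]; exact Subgroup.inv_mem _ (Subgroup.mem_zpowers t)
      · intro e
        apply hst
        have : s = t := by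
          have e2 : s * t = t * t := by rw [e, htz]
          exact mul_right_cancel e2
        rw [this]; exact Subgroup.mem_zpowers t
    calc s * (t * t * t) * (s * t) = s * (t * t) * (t * (s * t)) := by group
      _ = z * s * (t * (s * t)) := by rw [htz, hzc s]
      _ = z * ((s * t) * (s * t)) := by group
      _ = 1 := by rw [hstz, h.z_sq]
  rcases hcase v hv h1 h2 with ev | ev <;> rcases hcase s' hs'Q hs't hs's with es | es
  · rw [ev, ← es]; exact Subgroup.mem_zpowers s'
  · rw [ev]
    have : s * t = s'⁻¹ := by rw [es, hrel, inv_inv]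
    rw [this]; exact Subgroup.inv_mem _ (Subgroup.mem_zpowers s')
  · rw [ev, hrel, ← es]; exact Subgroup.inv_mem _ (Subgroup.mem_zpowers s')
  · rw [ev, ← es]; exact Subgroup.mem_zpowers s'

end Good

end Cfsg.Agent.Lib.Helper2.Zfp
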