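import Cfsg.Agent.Lib.Helper2.Zfp25

set_option autoImplicit false
set_option linter.style.haveILetI false

/-!
# An element of order three in the normalizer of a quaternion subgroup
-/

namespace Cfsg.Agent.Lib.Helper2.Zfp

universe u

variable {G : Type u} [Group G] [Finite G] {E : Type*} [Field E] [IsAlgClosed E] {M : Type*}
  [AddCommGroup M] [Module E M] [FiniteDimensional E M] [Nontrivial M]

namespace Q8

variable {Q : Subgroup G} {z : G}

theorem mem_centralizer_of_ker (g : Subgroup.normalizer (Q : Set G))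
    (hg : Q.normalizerMonoidHom g = 1) : ∀ q ∈ Q, (g : G) * q = q * g := by
  have h1 : g ∈ Q.normalizerMonoidHom.ker := hg
  rw [Subgroup.normalizerMonoidHom_ker, Subgroup.mem_subgroupOf] at h1
  intro q hq
  exact (Subgroup.mem_centralizer_iff.mp h1 q hq).symm

/-- if the normalizer of a quaternion subgroup `Q` contains a `2`-group of order `16` normalizing
`⟨t⟩` and an element moving `⟨t⟩`, then its order is divisible by three -/
theorem three_dvd_card_normalizer (h : Q8 Q z) (R : Rep G E M) {t u : G} (ht : t ∈ Q) (hu : u ∈ Q)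
    (htz : t * t = z) (hut : u ∉ Subgroup.zpowers t) (Qs : Subgroup G) (hcard : Nat.card Qs = 16)
    (hQQs : Q ≤ Qs) (hQsN : Qs ≤ Subgroup.normalizer (Q : Set G))
    (hQst : Qs ≤ Subgroup.normalizer ((Subgroup.zpowers t : Subgroup G) : Set G)) {c : G}
    (hcN : c ∈ Subgroup.normalizer (Q : Set G)) (hct : c * t * c⁻¹ ∉ Subgroup.zpowers t) :
    3 ∣ Nat.card (Subgroup.normalizer (Q : Set G)) := by
  by_contra h3
  set H := Subgroup.normalizer (Q : Set G) with hH
  set f := Q.normalizerMonoidHom with hf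
  haveI : Finite (MulAut Q) := by
    apply Nat.finite_of_card_ne_zero
    rw [h.card_mulAut R]; norm_num
  have hA24 : Nat.card f.range ∣ 24 := by
    rw [← h.card_mulAut R]; exact Subgroup.card_subgroup_dvd_card _
  have hAH : Nat.card f.range ∣ Nat.card H := by
    have h1 := Subgroup.card_eq_card_quotient_mul_card_subgroup f.ker
    rw [Nat.card_congr (QuotientGroup.quotientKerEquivRange f).toEquiv] at h1
    exact Dvd.intro _ h1.symm
  have hA8 : Nat.card f.range ∣ 8 := by
    have hcop : Nat.Coprime (Nat.card f.range) 3 := by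
      rw [Nat.coprime_comm, Nat.Prime.coprime_iff_not_dvd Nat.prime_three]
      exact fun hd => h3 (dvd_trans hd hAH)
    have : Nat.card f.range ∣ 8 * 3 := hA24
    exact hcop.dvd_of_dvd_mul_right this
  set f₁ : Qs →* MulAut Q := f.comp (Subgroup.inclusion hQsN) with hf₁
  have hle : f₁.range ≤ f.range := by
    rintro _ ⟨q, rfl⟩
    exact ⟨Subgroup.inclusion hQsN q, rfl⟩
  have hzQs : z ∈ Qs := hQQs h.z_mem
  have hker : Nat.card f₁.ker ≤ 2 := by
    have hsub : f₁.ker ≤ Subgroup.zpowers (⟨z, hzQs⟩ : Qs) := by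
      intro g hg
      have h1 : f (Subgroup.inclusion hQsN g) = 1 := hg
      have h2 := mem_centralizer_of_ker _ h1
      have hg16 : (g : G) ^ 2 ^ 4 = 1 := by
        have h4 : orderOf g ∣ 16 := by rw [← hcard]; exact orderOf_dvd_natCard g
        have h5 : g ^ 16 = 1 := orderOf_dvd_iff_pow_eq_one.mp h4
        have := congrArg Subtype.val h5
        simpa using this
      rcases h.cent_two_pow R ht hu htz hut 4 hg16 (h2 t ht) (h2 u hu) with e | e
      · have : g = 1 := Subtype.ext e
        rw [this]; exact Subgroup.one_mem _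
      · have : g = ⟨z, hzQs⟩ := Subtype.ext e
        rw [this]; exact Subgroup.mem_zpowers _
    have h2 : Nat.card (Subgroup.zpowers (⟨z, hzQs⟩ : Qs)) = 2 := by
      rw [Nat.card_zpowers]
      apply orderOf_eq_prime
      · apply Subtype.ext
        simp [pow_two, h.z_sq]
      · intro e
        exact h.z_ne (congrArg Subtype.val e)
    calc Nat.card f₁.ker ≤ Nat.card (Subgroup.zpowers (⟨z, hzQs⟩ : Qs)) :=
          Subgroup.card_le_of_le hsub
      _ = 2 := h2
  have hrange : 8 ≤ Nat.card f₁.range := by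
    have h1 := Subgroup.card_eq_card_quotient_mul_card_subgroup f₁.ker
    rw [Nat.card_congr (QuotientGroup.quotientKerEquivRange f₁).toEquiv, hcard] at h1
    by_contra hlt
    push Not at hlt
    have : Nat.card f₁.range * Nat.card f₁.ker ≤ 7 * 2 := Nat.mul_le_mul (by omega) hker
    omega
  have hA8' : Nat.card f.range ≤ 8 := Nat.le_of_dvd (by norm_num) hA8
  have heq : f₁.range = f.range :=
    Subgroup.eq_of_le_of_card_ge hle (le_trans hA8' hrange)
  have hc : f ⟨c, hcN⟩ ∈ f₁.range := by rw [heq]; exact ⟨_, rfl⟩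
  obtain ⟨q, hq⟩ := hc
  have h1 : f ((Subgroup.inclusion hQsN q)⁻¹ * ⟨c, hcN⟩) = 1 := by
    rw [map_mul, map_inv, ← hq]
    exact inv_mul_cancel _
  have h2 := mem_centralizer_of_ker _ h1 t ht
  apply hct
  have h3' : c * t * c⁻¹ = (q : G) * t * (q : G)⁻¹ := by
    have h4 : ((q : G)⁻¹ * c) * t = t * ((q : G)⁻¹ * c) := h2
    calc c * t * c⁻¹ = (q : G) * (((q : G)⁻¹ * c) * t) * c⁻¹ := by group
      _ = (q : G) * (t * ((q : G)⁻¹ * c)) * c⁻¹ := by rw [h4]
      _ = (q : G) * t * (q : G)⁻¹ := by group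
  rw [h3']
  have hqn := hQst q.2
  exact (Subgroup.mem_normalizer_iff.mp hqn t).mp (Subgroup.mem_zpowers t)

end Q8

end Cfsg.Agent.Lib.Helper2.Zfp
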