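import Cfsg.Agent.Lib.Helper2.Zfp26

set_option autoImplicit false
set_option linter.style.haveILetI false

/-!
# Fusion: in a perfect group, a Sylow `2`-subgroup of order `16` containing a good quaternion
subgroup centralizes the odd part of its centralizer
-/

namespace Cfsg.Agent.Lib.Helper2.Zfp

open Cfsg.Agent.Lib.Helper2.QuatSylow

universe u

variable {G : Type u} [Group G] [Finite G] {E : Type*} [Field E] [IsAlgClosed E] {M : Type*}
  [AddCommGroup M] [Module E M] [FiniteDimensional E M] [Nontrivial M]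

/-- a subgroup of index two is normalized -/
theorem le_normalizer_of_card {A B : Subgroup G} (hAB : A ≤ B)
    (hcard : Nat.card B = 2 * Nat.card A) : B ≤ Subgroup.normalizer (A : Set G) := by
  have hidx : (A.subgroupOf B).index = 2 := by
    have h1 := (A.subgroupOf B).card_mul_index
    rw [Nat.card_congr (Subgroup.subgroupOfEquivOfLe hAB).toEquiv, hcard] at h1
    have hpos : 0 < Nat.card A := Nat.card_pos
    have : Nat.card A * (A.subgroupOf B).index = Nat.card A * 2 := by rw [h1]; ring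
    exact Nat.eq_of_mul_eq_mul_left hpos this
  haveI := Subgroup.normal_of_index_eq_two hidx
  intro b hb
  apply Subgroup.mem_normalizer_fintype
  intro a ha
  have h1 : (⟨a, hAB ha⟩ : B) ∈ A.subgroupOf B := ha
  have h2 := (inferInstance : (A.subgroupOf B).Normal).conj_mem _ h1 ⟨b, hb⟩
  exact h2

/-- relative index of a subgroup of half the order -/
theorem relIndex_of_card {A B : Subgroup G} (hAB : A ≤ B)
    (hcard : Nat.card B = 2 * Nat.card A) : A.relIndex B = 2 := by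
  have h1 := (A.subgroupOf B).card_mul_index
  rw [Nat.card_congr (Subgroup.subgroupOfEquivOfLe hAB).toEquiv, hcard] at h1
  have hpos : 0 < Nat.card A := Nat.card_pos
  have : Nat.card A * (A.subgroupOf B).index = Nat.card A * 2 := by rw [h1]; ring
  exact Nat.eq_of_mul_eq_mul_left hpos this

namespace Good

variable {Q₀ : Subgroup G} {z x : G}

set_option maxHeartbeats 1600000 in
theorem exists_second (hg : Good Q₀ x) (h : Q8 Q₀ z) (R : Rep G E M) (p : ℕ) [Fact p.Prime]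
    [CharP E p] (hperf : commutator G = ⊤) {W : Subgroup G} (hW : OddCent Q₀ z W)
    (Qs : Subgroup G) (hQs2 : IsPGroup 2 Qs) (hle : Q₀ ≤ Qs) (hcard : Nat.card Qs = 16) :
    ∃ (Q₂ : Subgroup G) (y t₁ : G), Q8 Q₂ z ∧ Good Q₂ y ∧ t₁ ∈ Q₀ ∧ t₁ ∈ Q₂ ∧ t₁ * t₁ = z ∧
      Qs ≤ Q₀ ⊔ Q₂ ∧ Q₂ ≤ Qs ∧ ∀ g ∈ Qs, g * g = z → g ∈ Q₀ ∨ g ∈ Q₂ := by
  haveI : Fact (Nat.Prime 2) := ⟨Nat.prime_two⟩
  have hzc : ∀ g : G, g * z = z * g := fun g => h.z_central R g
  -- quaternion data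
  have hnc : ¬ IsCyclic Qs := not_isCyclic_of_le hle h.ncyc
  obtain ⟨n, α, β, hq⟩ := R.exists_qdata Qs hQs2 hnc
  have hn : n = 2 := by
    have h1 := hq.card
    rw [hcard] at h1
    have h2 : 2 ^ n = 2 ^ 2 := by omega
    exact Nat.pow_right_injective (le_refl 2) h2
  subst hn
  have hαord : orderOf α = 8 := by rw [hq.ord]; norm_num
  obtain ⟨t₁, ht₁, ht₁z, ht₁α⟩ := h.exists_mem_zpowers R hq hle
  obtain ⟨s₀, hs₀, hs₀t⟩ := h.exists_not_mem ht₁
  have hs₀z : s₀ * s₀ = z := h.sq_of_not_mem R hs₀ ht₁z hs₀t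
  obtain ⟨i, hi⟩ := Subgroup.mem_zpowers_iff.mp ht₁α
  have hs₀α : s₀ ∉ Subgroup.zpowers α := by
    intro hm
    apply h.not_commute R ht₁ hs₀ ht₁z hs₀t
    obtain ⟨k, hk⟩ := Subgroup.mem_zpowers_iff.mp hm
    rw [← hk, ← hi]
    exact ((Commute.refl α).zpow_zpow k i).eq
  obtain ⟨k, hk⟩ := hq.cover' (hle hs₀)
  rcases hk with hk | hk
  · exact absurd (hk ▸ Subgroup.zpow_mem_zpowers α k) hs₀α
  have hconj : s₀ * α * s₀⁻¹ = α⁻¹ := by
    rw [hk]
    calc β * α ^ k * α * (β * α ^ k)⁻¹ = β * α * β⁻¹ := by group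
      _ = α⁻¹ := hq.conj
  -- the element `u`
  set u := s₀ * α with hu
  have huQs : u ∈ Qs := Qs.mul_mem (hle hs₀) hq.hα
  have huα : u * α * u⁻¹ = α⁻¹ := by
    calc u * α * u⁻¹ = s₀ * α * s₀⁻¹ := by rw [hu]; group
      _ = α⁻¹ := hconj
  have hut₁ : u * t₁ * u⁻¹ = t₁⁻¹ := by
    rw [← hi, ← conj_zpow, huα, inv_zpow]
  have huz : u * u = z := by
    calc u * u = (s₀ * α * s₀⁻¹) * (s₀ * s₀) * α := by rw [hu]; group
      _ = α⁻¹ * z * α := by rw [hconj, hs₀z]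
      _ = z := by rw [mul_assoc, ← hzc α]; group
  have hu4 : orderOf u = 4 := h.orderOf_four huz
  have ht₁4 : orderOf t₁ = 4 := h.orderOf_four ht₁z
  -- the Sylow subgroup
  obtain ⟨P, hP⟩ := hQs2.exists_le_sylow
  have hPcard : Nat.card P = 16 := by
    rcases hg.card_two_group h R p P P.2 (hle.trans hP) with h8 | h16
    · have := Subgroup.card_le_of_le hP
      omega
    · exact h16
  have hPeq : (P : Subgroup G) = Qs :=
    (Subgroup.eq_of_le_of_card_ge hP (by rw [hPcard, hcard])).symm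
  have hidx : Q₀.relIndex (P : Subgroup G) = 2 := by
    apply relIndex_of_card (hle.trans hP)
    rw [hPcard, h.card]
  obtain ⟨g, hgu⟩ := R.thompson_fusion hperf h.z_ne h.z_sq P Q₀ (hle.trans hP) h.z_mem hidx u huz
  set u' := g * u * g⁻¹ with hu'
  have hu'z : u' * u' = z := by
    calc u' * u' = g * (u * u) * g⁻¹ := by rw [hu']; group
      _ = z := by rw [huz, hzc g]; group
  -- a conjugate of `t₁` generating `⟨u⟩`
  obtain ⟨c, hc⟩ : ∃ c : G, u ∈ Subgroup.zpowers (c * t₁ * c⁻¹) := by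
    have key : ∀ c₀ : G, u' ∈ Subgroup.zpowers (c₀ * t₁ * c₀⁻¹) →
        u ∈ Subgroup.zpowers (g⁻¹ * c₀ * t₁ * (g⁻¹ * c₀)⁻¹) := by
      intro c₀ hm
      obtain ⟨j, hj⟩ := Subgroup.mem_zpowers_iff.mp hm
      rw [Subgroup.mem_zpowers_iff]
      refine ⟨j, ?_⟩
      have e1 : g⁻¹ * c₀ * t₁ * (g⁻¹ * c₀)⁻¹ = g⁻¹ * (c₀ * t₁ * c₀⁻¹) * g⁻¹⁻¹ := by group
      rw [e1, conj_zpow, hj, hu']
      group
    rcases hg.order_four_cases h R ht₁ ht₁z hgu hu'z with h1 | h1 | h1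
    · refine ⟨g⁻¹ * 1, key 1 ?_⟩
      simpa using h1
    · exact ⟨g⁻¹ * x, key x h1⟩
    · refine ⟨g⁻¹ * (x * x), key (x * x) ?_⟩
      have e : x * x * t₁ * (x * x)⁻¹ = x * (x * t₁ * x⁻¹) * x⁻¹ := by group
      rw [e]; exact h1
  have hZeq : Subgroup.zpowers u = Subgroup.zpowers (c * t₁ * c⁻¹) := by
    apply zpowers_eq_of_mem hc
    rw [hu4]
    have := orderOf_injective (MulAut.conj c).toMonoidHom (MulAut.conj c).injective t₁
    simp only [MulEquiv.coe_toMonoidHom, MulAut.conj_apply] at this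
    rw [this, ht₁4]
  -- `Qs` normalizes `⟨t₁⟩`
  have hQst : Qs ≤ Subgroup.normalizer ((Subgroup.zpowers t₁ : Subgroup G) : Set G) := by
    intro q hq'
    apply mem_normalizer_zpowers
    obtain ⟨j, hj⟩ := hq.cover' hq'
    rcases hj with hj | hj
    · have : q * t₁ * q⁻¹ = t₁ := by
        rw [hj, ← hi]
        have h1 : Commute (α ^ j) (α ^ i) := (Commute.refl α).zpow_zpow j i
        rw [h1.eq]; group
      rw [this]; exact Subgroup.mem_zpowers t₁
    · have : q * t₁ * q⁻¹ = t₁⁻¹ := by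
        rw [hj, ← hi]
        have h1 : Commute (α ^ j) (α ^ i) := (Commute.refl α).zpow_zpow j i
        calc β * α ^ j * α ^ i * (β * α ^ j)⁻¹ = β * (α ^ j * α ^ i) * (α ^ j)⁻¹ * β⁻¹ := by group
          _ = β * (α ^ i * α ^ j) * (α ^ j)⁻¹ * β⁻¹ := by rw [h1.eq]
          _ = β * α ^ i * β⁻¹ := by group
          _ = (α ^ i)⁻¹ := by rw [hq.conj_zpow', zpow_neg]
      rw [this]; exact Subgroup.inv_mem _ (Subgroup.mem_zpowers t₁)
  -- a `2`-group of order `16` in the normalizer of `⟨u⟩`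
  set N := Subgroup.normalizer ((Subgroup.zpowers u : Subgroup G) : Set G) with hN
  set D := Qs.map (MulAut.conj c).toMonoidHom with hD
  have hDcard : Nat.card D = 16 := by
    rw [hD, Subgroup.card_map_of_injective (MulAut.conj c).injective, hcard]
  have hDN : D ≤ N := by
    rintro _ ⟨q, hq', rfl⟩
    rw [hN, hZeq]
    apply mem_normalizer_zpowers
    have h1 := (Subgroup.mem_normalizer_iff.mp (hQst hq') t₁).mp (Subgroup.mem_zpowers t₁)
    obtain ⟨j, hj⟩ := Subgroup.mem_zpowers_iff.mp h1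
    rw [Subgroup.mem_zpowers_iff]
    refine ⟨j, ?_⟩
    simp only [MulEquiv.coe_toMonoidHom, MulAut.conj_apply]
    rw [conj_zpow, hj]
    group
  -- the second quaternion subgroup
  have hH₀ : Nat.card (Subgroup.zpowers (⟨u, huQs⟩ : Qs)) = 2 ^ 2 := by
    rw [Nat.card_zpowers, ← Subgroup.orderOf_coe]
    exact hu4
  obtain ⟨K', hK'card, hK'le⟩ := Sylow.exists_subgroup_card_pow_succ (p := 2) (n := 2)
    (by rw [hcard]; norm_num) hH₀
  set Q₂ := K'.map Qs.subtype with hQ₂def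
  have hQ₂card : Nat.card Q₂ = 8 := by
    rw [hQ₂def, Subgroup.card_map_of_injective Qs.subtype_injective, hK'card]; norm_num
  have hQ₂Qs : Q₂ ≤ Qs := Subgroup.map_subtype_le _
  have huQ₂ : u ∈ Q₂ := ⟨⟨u, huQs⟩, hK'le (Subgroup.mem_zpowers _), rfl⟩
  have hK'idx : K'.index = 2 := by
    have h1 := K'.card_mul_index
    rw [hK'card, hcard] at h1
    omega
  have hα2 : α ^ 2 ∈ Q₂ := by
    have := Subgroup.sq_mem_of_index_two hK'idx (⟨α, hq.hα⟩ : Qs)
    exact ⟨_, this, rfl⟩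
  have ht₁Q₂ : t₁ ∈ Q₂ := by
    have h1 : α ^ (i * 4) = 1 := by
      rw [zpow_mul, hi]
      have : t₁ ^ (4 : ℤ) = t₁ ^ (4 : ℕ) := by norm_cast
      rw [this, ← ht₁4]; exact pow_orderOf_eq_one t₁
    have h2 : (orderOf α : ℤ) ∣ i * 4 := orderOf_dvd_iff_zpow_eq_one.mpr h1
    rw [hαord] at h2
    have h3 : (2 : ℤ) ∣ i := by
      obtain ⟨m, hm⟩ := h2
      exact ⟨m, by push_cast at hm; omega⟩
    obtain ⟨j, hj⟩ := h3
    have : t₁ = (α ^ 2) ^ j := by
      rw [← hi, hj, zpow_mul]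
      norm_cast
    rw [this]
    exact Subgroup.zpow_mem _ hα2 j
  have hinv_ne : t₁⁻¹ ≠ t₁ := h.t_ne_inv ht₁z
  have hQ₂nc : ¬ IsCyclic Q₂ := by
    intro hc'
    have := commute_of_isCyclic Q₂ hc' huQ₂ ht₁Q₂
    apply hinv_ne
    rw [← hut₁, this]; group
  have hQ₂ : Q8 Q₂ z := ⟨hQ₂card, hQ₂nc, by rw [← huz]; exact Q₂.mul_mem huQ₂ huQ₂, h.z_ne, h.z_sq⟩
  have hut : u ∉ Subgroup.zpowers t₁ := by
    intro hm
    obtain ⟨j, hj⟩ := Subgroup.mem_zpowers_iff.mp hm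
    apply hinv_ne
    rw [← hut₁, ← hj]
    have h1 : Commute (t₁ ^ j) t₁ := (Commute.refl t₁).zpow_left j
    rw [h1.eq]; group
  have htu : t₁ ∉ Subgroup.zpowers u := hQ₂.not_mem_symm R ht₁Q₂ huQ₂ ht₁z hut
  have hQ₂N : Q₂ ≤ N := hQ₂.le_normalizer_zpowers R huQ₂ huz
  -- a Sylow `2`-subgroup of `N` containing `Q₂`
  have hQ₂p : IsPGroup 2 (Q₂.subgroupOf N) := hQ₂.isPGroup.comap_subtype
  obtain ⟨P', hP'⟩ := hQ₂p.exists_le_sylow
  set Q' := (P' : Subgroup N).map N.subtype with hQ'def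
  have hQ₂Q' : Q₂ ≤ Q' := by
    intro q hq'
    exact ⟨⟨q, hQ₂N hq'⟩, hP' (show (⟨q, hQ₂N hq'⟩ : N) ∈ Q₂.subgroupOf N from hq'), rfl⟩
  have hQ'N : Q' ≤ N := Subgroup.map_subtype_le _
  have hQ'p : IsPGroup 2 Q' := P'.2.map _
  have hQ'card : Nat.card Q' = 16 := by
    have h1 : Nat.card Q' = Nat.card P' :=
      Subgroup.card_map_of_injective N.subtype_injective
    have h2 : 16 ∣ Nat.card P' := by
      rw [Sylow.card_eq_multiplicity]
      have h3 : 2 ^ 4 ∣ Nat.card N := by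
        have := Subgroup.card_dvd_of_le hDN
        rw [hDcard] at this
        exact this
      have h4 := (Nat.Prime.pow_dvd_iff_le_factorization Nat.prime_two Nat.card_pos.ne').mp h3
      exact pow_dvd_pow 2 h4
    have h5 : Nat.card Q' ≤ 16 := by
      obtain ⟨P'', hP''⟩ := hQ'p.exists_le_sylow
      have h6 : Nat.card P'' = 16 := by
        rw [Sylow.card_eq_multiplicity, ← Sylow.card_eq_multiplicity P, hPcard]
      calc Nat.card Q' ≤ Nat.card P'' := Subgroup.card_le_of_le hP''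
        _ = 16 := h6
    rw [← h1] at h2
    exact le_antisymm h5 (Nat.le_of_dvd Nat.card_pos h2)
  obtain ⟨c', hc'Q', hc'Q₂⟩ : ∃ c' ∈ Q', c' ∉ Q₂ := by
    by_contra hno
    push Not at hno
    have := Subgroup.card_le_of_le (show Q' ≤ Q₂ from hno)
    omega
  have hc'N₂ : c' ∈ Subgroup.normalizer (Q₂ : Set G) :=
    le_normalizer_of_card hQ₂Q' (by rw [hQ'card, hQ₂card]) hc'Q'
  have hQsN₂ : Qs ≤ Subgroup.normalizer (Q₂ : Set G) :=
    le_normalizer_of_card hQ₂Qs (by rw [hcard, hQ₂card])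
  have hc'u : c' * u * c'⁻¹ ∈ Subgroup.zpowers u :=
    (Subgroup.mem_normalizer_iff.mp (hQ'N hc'Q') u).mp (Subgroup.mem_zpowers u)
  have hc't : c' * t₁ * c'⁻¹ ∉ Subgroup.zpowers t₁ := by
    intro hm
    obtain ⟨q, hqQ₂, hq1, hq2⟩ := hQ₂.exists_mul_centralizes R ht₁Q₂ huQ₂ ht₁z hut hm hc'u
    have hmem : c' * q ∈ Q' := Q'.mul_mem hc'Q' (hQ₂Q' hqQ₂)
    have h16 : (c' * q) ^ 2 ^ 4 = 1 := by
      have h4 : orderOf (⟨c' * q, hmem⟩ : Q') ∣ 16 := by
        rw [← hQ'card]; exact orderOf_dvd_natCard _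
      have h5 : (⟨c' * q, hmem⟩ : Q') ^ 16 = 1 := orderOf_dvd_iff_pow_eq_one.mp h4
      have := congrArg Subtype.val h5
      simpa using this
    apply hc'Q₂
    rcases hQ₂.cent_two_pow R ht₁Q₂ huQ₂ ht₁z hut 4 h16 hq1 hq2 with e | e
    · have : c' = q⁻¹ := eq_inv_of_mul_eq_one_left e
      rw [this]; exact Q₂.inv_mem hqQ₂
    · have : c' = z * q⁻¹ := by rw [← e]; group
      rw [this]; exact Q₂.mul_mem hQ₂.z_mem (Q₂.inv_mem hqQ₂)
  -- an element of order three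
  have h3 := hQ₂.three_dvd_card_normalizer R ht₁Q₂ huQ₂ ht₁z hut Qs hcard hQ₂Qs hQsN₂ hQst hc'N₂
    hc't
  obtain ⟨y, hy⟩ := exists_prime_orderOf_dvd_card' 3 h3
  have hy3 : (y : G) ^ 3 = 1 := by
    have : y ^ 3 = 1 := by rw [← hy]; exact pow_orderOf_eq_one y
    have := congrArg Subtype.val this
    simpa using this
  have hy1 : (y : G) ≠ 1 := by
    intro e
    have : y = 1 := Subtype.ext e
    rw [this, orderOf_one] at hy
    norm_num at hy
  have hyord : orderOf (y : G) = 3 := orderOf_eq_prime hy3 hy1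
  have hgood₂ : Good Q₂ (y : G) := by
    refine ⟨hy3, hy1, y.2, ?_⟩
    intro hcent
    apply hy1
    have hyW : (y : G) ∈ W :=
      hW.of_commute t₁ ht₁ ht₁z _ (hcent t₁ ht₁Q₂) (by rw [hyord]; decide)
    exact hg.cent_cube h R ((hW.mem_iff _).mp hyW).1 hy3
  -- conclusion
  have hαsup : α ∈ Q₀ ⊔ Q₂ := by
    have : α = s₀⁻¹ * u := by rw [hu]; group
    rw [this]
    exact Subgroup.mul_mem _ (Subgroup.inv_mem _ (Subgroup.mem_sup_left hs₀))
      (Subgroup.mem_sup_right huQ₂)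
  have hβsup : β ∈ Q₀ ⊔ Q₂ := by
    have : β = s₀ * (α ^ k)⁻¹ := by rw [hk]; group
    rw [this]
    exact Subgroup.mul_mem _ (Subgroup.mem_sup_left hs₀)
      (Subgroup.inv_mem _ (Subgroup.zpow_mem _ hαsup k))
  have hα2Q₀ : α ^ 2 ∈ Q₀ := by
    have h1 : t₁ ∈ Subgroup.zpowers (α ^ 2) := by
      have h1' : α ^ (i * 4) = 1 := by
        rw [zpow_mul, hi]
        have : t₁ ^ (4 : ℤ) = t₁ ^ (4 : ℕ) := by norm_cast
        rw [this, ← ht₁4]; exact pow_orderOf_eq_one t₁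
      have h2 : (orderOf α : ℤ) ∣ i * 4 := orderOf_dvd_iff_zpow_eq_one.mpr h1'
      rw [hαord] at h2
      have h3 : (2 : ℤ) ∣ i := by
        obtain ⟨m, hm⟩ := h2
        exact ⟨m, by push_cast at hm; omega⟩
      obtain ⟨j, hj⟩ := h3
      rw [Subgroup.mem_zpowers_iff]
      refine ⟨j, ?_⟩
      rw [← hi, hj, zpow_mul]
      norm_cast
    have h2 : orderOf (α ^ 2) = 4 := by
      rw [orderOf_pow' α (by norm_num), hαord]; rfl
    have h3 := zpowers_eq_of_mem h1 (by rw [ht₁4, h2])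
    have : α ^ 2 ∈ Subgroup.zpowers t₁ := by rw [h3]; exact Subgroup.mem_zpowers _
    exact (Subgroup.zpowers_le.mpr ht₁) this
  refine ⟨Q₂, (y : G), t₁, hQ₂, hgood₂, ht₁, ht₁Q₂, ht₁z, ?_, hQ₂Qs, ?_⟩
  · intro g' hg'
    obtain ⟨j, hj⟩ := hq.cover' hg'
    rcases hj with hj | hj
    · rw [hj]; exact Subgroup.zpow_mem _ hαsup j
    · rw [hj]; exact Subgroup.mul_mem _ hβsup (Subgroup.zpow_mem _ hαsup j)
  · intro g' hg' hg'z
    have hpar : ∀ m : ℤ, α ^ (2 * m) ∈ Q₀ ∧ α ^ (2 * m) ∈ Q₂ := by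
      intro m
      have : α ^ (2 * m) = (α ^ 2) ^ m := by
        rw [zpow_mul]; norm_cast
      rw [this]
      exact ⟨Subgroup.zpow_mem _ hα2Q₀ m, Subgroup.zpow_mem _ hα2 m⟩
    obtain ⟨j, hj⟩ := hq.cover' hg'
    rcases hj with hj | hj
    · right
      -- `g' = α ^ j` with `j` even
      have h1 : α ^ (j * 4) = 1 := by
        have h4 : g' ^ 4 = 1 := by
          rw [show (4 : ℕ) = 2 + 2 from rfl, pow_add, pow_two, hg'z, h.z_sq]
        rw [zpow_mul, ← hj]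
        have : g' ^ (4 : ℤ) = g' ^ (4 : ℕ) := by norm_cast
        rw [this, h4]
      have h2 : (orderOf α : ℤ) ∣ j * 4 := orderOf_dvd_iff_zpow_eq_one.mpr h1
      rw [hαord] at h2
      have h3 : (2 : ℤ) ∣ j := by
        obtain ⟨m, hm⟩ := h2
        exact ⟨m, by push_cast at hm; omega⟩
      obtain ⟨m, hm⟩ := h3
      rw [hj, hm]
      exact (hpar m).2
    · -- `g' = β α ^ j = s₀ α ^ (j - k)`
      have e1 : g' = s₀ * α ^ (j - k) := by
        rw [hj, hk, zpow_sub]; group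
      rcases Int.emod_two_eq_zero_or_one (j - k) with h0 | h1
      · left
        have : j - k = 2 * ((j - k) / 2) := by omega
        rw [e1, this]
        exact Q₀.mul_mem hs₀ (hpar _).1
      · right
        have : j - k = 1 + 2 * ((j - k) / 2) := by omega
        rw [e1, this, zpow_add, zpow_one, ← mul_assoc]
        exact Q₂.mul_mem huQ₂ (hpar _).2

/-- a `2`-subgroup of order `16` containing a good quaternion subgroup centralizes the odd part of
its centralizer -/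
theorem fusion (hg : Good Q₀ x) (h : Q8 Q₀ z) (R : Rep G E M) (p : ℕ) [Fact p.Prime] [CharP E p]
    (hperf : commutator G = ⊤) {W : Subgroup G} (hW : OddCent Q₀ z W) (Qs : Subgroup G)
    (hQs2 : IsPGroup 2 Qs) (hle : Q₀ ≤ Qs) (hcard : Nat.card Qs = 16) :
    ∀ g ∈ Qs, ∀ w ∈ W, g * w = w * g := by
  obtain ⟨Q₂, y, t₁, hQ₂, hgood₂, ht₁, ht₁Q₂, ht₁z, hsup, -, -⟩ :=
    hg.exists_second h R p hperf hW Qs hQs2 hle hcard
  intro g hgQs w hw
  have hwmem := (hW.mem_iff w).mp hw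
  have hwQ₂ := hgood₂.odd_centralizes hQ₂ R p ht₁Q₂ ht₁z (hwmem.1 t₁ ht₁) hwmem.2
  have hle' : Q₀ ⊔ Q₂ ≤ Subgroup.centralizer ({w} : Set G) := by
    apply sup_le
    · intro q hq
      rw [Subgroup.mem_centralizer_singleton_iff]
      exact (hwmem.1 q hq).symm
    · intro q hq
      rw [Subgroup.mem_centralizer_singleton_iff]
      exact (hwQ₂ q hq).symm
  exact Subgroup.mem_centralizer_singleton_iff.mp (hle' (hsup hgQs))

end Good

end Cfsg.Agent.Lib.Helper2.Zfp
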