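import Cfsg.Agent.Lib.Helper2.Zfp27
import Cfsg.Agent.Lib.Lead.HallTools

set_option autoImplicit false
set_option linter.style.haveILetI false

/-!
# Helper lemmas on the subgroup generated by the elements of order three of a subgroup
-/

namespace Cfsg.Agent.Lib.Helper2.Zfp

open scoped Pointwise
open Cfsg.Agent.Lib.Lead

universe u

/-- `(N3 Y).map Y.subtype` is generated by its elements of order three -/
theorem N3_N3_map {G : Type*} [Group G] (Y : Subgroup G) :
    N3 ((N3 Y).map Y.subtype : Subgroup G) = ⊤ := by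
  set L := (N3 Y).map Y.subtype with hL
  have h1 : (N3 L).map L.subtype = L := by
    apply le_antisymm (N3_map_subtype_le L)
    nth_rewrite 1 [hL]
    rw [N3_map_subtype, Subgroup.closure_le]
    rintro g ⟨hgY, hg3⟩
    exact mem_N3_map L (mem_N3_map Y hgY hg3) hg3
  have h2 : (N3 L).map L.subtype = (⊤ : Subgroup L).map L.subtype := by
    rw [h1, ← MonoidHom.range_eq_map, Subgroup.range_subtype]
  exact Subgroup.map_injective L.subtype_injective h2

/-- a group generated by its elements of order three has no central Sylow subgroup of prime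
order different from three -/
theorem N3_no_central {H : Type*} [Group H] [Finite H] (hgen : N3 H = ⊤) {q : ℕ} [hq : Fact q.Prime]
    (hq3 : q ≠ 3) (c : H) (hc : c ∈ Subgroup.center H) (hco : orderOf c = q)
    (hq2 : ¬ q ^ 2 ∣ Nat.card H) : False := by
  have hAp : IsPGroup q (Subgroup.zpowers c) := by
    apply IsPGroup.of_card (n := 1)
    rw [Nat.card_zpowers, hco, pow_one]
  obtain ⟨P, hP⟩ := hAp.exists_le_sylow
  obtain ⟨k, hk⟩ := P.2.exists_card_eq
  have hk1 : k = 1 := by
    have h1 : q ^ k ∣ Nat.card H := by rw [← hk]; exact Subgroup.card_subgroup_dvd_card _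
    have h2 : q ≤ q ^ k := by
      have := Subgroup.card_le_of_le hP
      rwa [Nat.card_zpowers, hco, hk] at this
    have hk0 : k ≠ 0 := by
      rintro rfl
      rw [pow_zero] at h2
      exact absurd h2 (not_le.mpr hq.out.one_lt)
    by_contra hne
    have hk2 : 2 ≤ k := by omega
    exact hq2 (dvd_trans (pow_dvd_pow q hk2) h1)
  rw [hk1, pow_one] at hk
  have hPeq : Subgroup.zpowers c = (P : Subgroup H) := by
    apply Subgroup.eq_of_le_of_card_ge hP
    rw [Nat.card_zpowers, hco, hk]
  have hNC : Subgroup.normalizer ((P : Subgroup H) : Set H) ≤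
      Subgroup.centralizer ((P : Subgroup H) : Set H) := by
    intro g _
    rw [Subgroup.mem_centralizer_iff]
    intro a ha
    rw [SetLike.mem_coe, ← hPeq] at ha
    obtain ⟨j, rfl⟩ := Subgroup.mem_zpowers_iff.mp ha
    have hcj : c ^ j ∈ Subgroup.center H := Subgroup.zpow_mem _ hc j
    exact (Subgroup.mem_center_iff.mp hcj g).symm
  set f := MonoidHom.transferSylow P hNC with hf
  have hker : f.ker = ⊤ := by
    rw [eq_top_iff, ← hgen]
    unfold N3
    rw [Subgroup.closure_le]
    intro g hg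
    rw [SetLike.mem_coe, MonoidHom.mem_ker]
    have h1 : (f g) ^ 3 = 1 := by rw [← map_pow, (hg : g ^ 3 = 1), map_one]
    have h2 : (f g) ^ q = 1 := by
      have := pow_card_eq_one' (G := (P : Subgroup H)) (x := f g)
      rwa [hk] at this
    have h3 : orderOf (f g) ∣ 3 := orderOf_dvd_of_pow_eq_one h1
    have h4 : orderOf (f g) ∣ q := orderOf_dvd_of_pow_eq_one h2
    have hcop : Nat.Coprime 3 q := by
      rw [Nat.coprime_primes Nat.prime_three hq.out]
      exact fun e => hq3 e.symm
    exact orderOf_eq_one_iff.mp (Nat.eq_one_of_dvd_coprimes hcop h3 h4)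
  have hcompl := MonoidHom.ker_transferSylow_isComplement' P hNC
  have h5 := hcompl.card_mul_card
  rw [← hf, hker, Subgroup.card_top, hk] at h5
  have hpos : 0 < Nat.card H := Nat.card_pos
  have : q = 1 := by
    have : Nat.card H * q = Nat.card H * 1 := by rw [h5, mul_one]
    exact Nat.eq_of_mul_eq_mul_left hpos this
  exact hq.out.one_lt.ne' this

variable {G : Type u} [Group G] [Finite G] {E : Type*} [Field E] [IsAlgClosed E] {M : Type*}
  [AddCommGroup M] [Module E M] [FiniteDimensional E M] [Nontrivial M]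

/-- subgroups of order eight of a group of order `24` or `120` are conjugate -/
theorem exists_conj_of_card_eight (L : Subgroup G) (hL : Nat.card L = 24 ∨ Nat.card L = 120)
    {T₁ T₂ : Subgroup G} (h₁ : T₁ ≤ L) (h₂ : T₂ ≤ L) (hc₁ : Nat.card T₁ = 8)
    (hc₂ : Nat.card T₂ = 8) : ∃ l ∈ L, MulAut.conj l • T₁ = T₂ := by
  haveI : Fact (Nat.Prime 2) := ⟨Nat.prime_two⟩
  apply conj_of_conj_subgroupOf h₁ h₂
  have key : ∀ T : Subgroup G, T ≤ L → Nat.card T = 8 →
      ∃ P : Sylow 2 L, (P : Subgroup L) = T.subgroupOf L := by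
    intro T hT hc
    have hp : IsPGroup 2 (T.subgroupOf L) := by
      apply IsPGroup.of_card (n := 3)
      rw [card_subgroupOf_of_le hT, hc]; norm_num
    obtain ⟨P, hP⟩ := hp.exists_le_sylow
    refine ⟨P, (Subgroup.eq_of_le_of_card_ge hP ?_).symm⟩
    obtain ⟨k, hk⟩ := P.2.exists_card_eq
    have h1 : 2 ^ k ∣ Nat.card L := by rw [← hk]; exact Subgroup.card_subgroup_dvd_card _
    have h2 : k ≤ 3 := by
      by_contra hlt
      push Not at hlt
      have h3 : 2 ^ 4 ∣ Nat.card L := dvd_trans (pow_dvd_pow 2 hlt) h1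
      rcases hL with e | e <;> rw [e] at h3 <;> norm_num at h3
    rw [card_subgroupOf_of_le hT, hc, hk]
    calc 2 ^ k ≤ 2 ^ 3 := Nat.pow_le_pow_right (by norm_num) h2
      _ = 8 := by norm_num
  obtain ⟨P₁, hP₁⟩ := key T₁ h₁ hc₁
  obtain ⟨P₂, hP₂⟩ := key T₂ h₂ hc₂
  obtain ⟨l, hl⟩ := MulAction.exists_smul_eq L P₁ P₂
  refine ⟨l, ?_⟩
  rw [← hP₁, ← hP₂, ← hl, Sylow.coe_subgroup_smul]

namespace Good

variable {Q₀ : Subgroup G} {z x : G}

/-- a subgroup containing a good quaternion subgroup and its element of order three: the quaternion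
subgroup lies in the subgroup generated by the elements of order three -/
theorem le_N3_map (hg : Good Q₀ x) (h : Q8 Q₀ z) (R : Rep G E M) (Y : Subgroup G) (hQY : Q₀ ≤ Y)
    (hxY : x ∈ Y) : Q₀ ≤ (N3 Y).map Y.subtype := by
  set L := (N3 Y).map Y.subtype with hL
  have hxL : x ∈ L := mem_N3_map Y hxY hg.x3
  obtain ⟨t, ht, htz⟩ := h.exists_order_four R
  set s := x * t * x⁻¹ with hs
  have hsQ : s ∈ Q₀ := hg.conj_mem ht
  have hst : s ∉ Subgroup.zpowers t := h.conj_not_mem R hg.x3 hg.norm hg.nc ht htz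
  have hts : t ∉ Subgroup.zpowers s := h.not_mem_symm R ht hsQ htz hst
  -- `a = t s⁻¹` lies in `L`
  set a := t * s⁻¹ with ha
  have haL : a ∈ L := by
    have h1 : t * x * t⁻¹ ∈ L := by
      apply mem_N3_map Y (Y.mul_mem (Y.mul_mem (hQY ht) hxY) (Y.inv_mem (hQY ht)))
      rw [conj_pow, hg.x3]; group
    have e : a = (t * x * t⁻¹) * x⁻¹ := by rw [ha, hs]; group
    rw [e]
    exact L.mul_mem h1 (L.inv_mem hxL)
  have haQ : a ∈ Q₀ := Q₀.mul_mem ht (Q₀.inv_mem hsQ)
  have haz : a * a = z := by
    apply h.sq_eq R haQ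
    · intro e
      apply hst
      have : s = t := by
        have := mul_inv_eq_one.mp e
        exact this.symm
      rw [this]; exact Subgroup.mem_zpowers t
    · intro e
      apply hts
      have : t = z * s := by
        calc t = (t * s⁻¹) * s := by group
          _ = z * s := by rw [← ha, e]
      rw [this, ← h.sq_of_not_mem R hsQ htz hst]
      exact Subgroup.mul_mem _ (Subgroup.mul_mem _ (Subgroup.mem_zpowers s)
        (Subgroup.mem_zpowers s)) (Subgroup.mem_zpowers s)
  set b := x * a * x⁻¹ with hb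
  have hbL : b ∈ L := L.mul_mem (L.mul_mem hxL haL) (L.inv_mem hxL)
  have hbQ : b ∈ Q₀ := hg.conj_mem haQ
  have hba : b ∉ Subgroup.zpowers a := h.conj_not_mem R hg.x3 hg.norm hg.nc haQ haz
  intro q hq
  rcases h.mem_or R haQ hbQ hq haz hba with h1 | h1
  · exact (Subgroup.zpowers_le.mpr haL) h1
  · have : q = b * (b⁻¹ * q) := by group
    rw [this]
    exact L.mul_mem hbL ((Subgroup.zpowers_le.mpr haL) h1)

end Good

end Cfsg.Agent.Lib.Helper2.Zfp
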