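import Cfsg.Agent.Lib.Helper2.Zfp28

set_option autoImplicit false
set_option linter.style.haveILetI false

/-!
# Elements normalizing a good quaternion subgroup and a Sylow subgroup of its odd centralizer
-/

namespace Cfsg.Agent.Lib.Helper2.Zfp

open scoped Pointwise
open Cfsg.Agent.Lib.Lead

universe u

variable {G : Type u} [Group G] [Finite G] {E : Type*} [Field E] [IsAlgClosed E] {M : Type*}
  [AddCommGroup M] [Module E M] [FiniteDimensional E M] [Nontrivial M]

theorem isPGroup_zpowers {a : G} {q k : ℕ} (ha : a ^ q ^ k = 1) : IsPGroup q (Subgroup.zpowers a) := by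
  intro g
  refine ⟨k, ?_⟩
  obtain ⟨j, hj⟩ := Subgroup.mem_zpowers_iff.mp g.2
  apply Subtype.ext
  rw [Subgroup.coe_pow, ← hj, ← zpow_natCast, ← zpow_mul, mul_comm, zpow_mul, zpow_natCast, ha,
    one_zpow]
  rfl

theorem normalizer_le_normalizer_centralizer (S : Subgroup G) :
    Subgroup.normalizer (S : Set G) ≤
      Subgroup.normalizer ((Subgroup.centralizer (S : Set G) : Subgroup G) : Set G) := by
  intro g hg
  apply Subgroup.mem_normalizer_fintype
  intro y hy
  rw [SetLike.mem_coe, Subgroup.mem_centralizer_iff] at hy ⊢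
  intro c hc
  have hc' : g⁻¹ * c * g ∈ S := by
    have := (Subgroup.mem_normalizer_iff.mp (Subgroup.inv_mem _ hg) c).mp hc
    simpa using this
  have h1 := hy _ hc'
  calc c * (g * y * g⁻¹) = g * ((g⁻¹ * c * g) * y) * g⁻¹ := by group
    _ = g * (y * (g⁻¹ * c * g)) * g⁻¹ := by rw [h1]
    _ = g * y * g⁻¹ * c := by group

namespace Good

variable {Q₀ : Subgroup G} {z x : G}

/-- `2`-elements normalizing a good quaternion subgroup centralize the odd part of its
centralizer (in a perfect group) -/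
theorem two_element_centralizes (hg : Good Q₀ x) (h : Q8 Q₀ z) (R : Rep G E M) (p : ℕ)
    [Fact p.Prime] [CharP E p] (hperf : commutator G = ⊤) {W : Subgroup G} (hW : OddCent Q₀ z W)
    {a : G} (haQ : a ∈ Subgroup.normalizer (Q₀ : Set G)) (k : ℕ) (hak : a ^ 2 ^ k = 1) :
    ∀ w ∈ W, a * w = w * a := by
  haveI : Fact (Nat.Prime 2) := ⟨Nat.prime_two⟩
  set Qs := Q₀ ⊔ Subgroup.zpowers a with hQs
  have hQsp : IsPGroup 2 Qs :=
    IsPGroup.to_sup_of_normal_left' h.isPGroup (isPGroup_zpowers hak)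
      (Subgroup.zpowers_le.mpr haQ)
  have haQs : a ∈ Qs := Subgroup.mem_sup_right (Subgroup.mem_zpowers a)
  rcases hg.card_two_group h R p Qs hQsp le_sup_left with h8 | h16
  · have heq : Q₀ = Qs := Subgroup.eq_of_le_of_card_ge le_sup_left (by rw [h8, h.card])
    intro w hw
    have : a ∈ Q₀ := by rw [heq]; exact haQs
    exact (((hW.mem_iff w).mp hw).1 a this).symm
  · exact hg.fusion h R p hperf hW Qs hQsp le_sup_left h16 a haQs

/-- elements normalizing a good quaternion subgroup `Q₀` and a Sylow `r`-subgroup of the odd part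
`W` of its centralizer, for the smallest prime `r`, centralize that Sylow subgroup -/
theorem centralizes_sylow (hg : Good Q₀ x) (h : Q8 Q₀ z) (R : Rep G E M) (p : ℕ)
    [Fact p.Prime] [CharP E p] (hperf : commutator G = ⊤) {W : Subgroup G} (hW : OddCent Q₀ z W)
    {r : ℕ} [hr : Fact r.Prime] (hmin : (Nat.card W).minFac = r) (hr2 : r ≠ 2) (R₀ : Sylow r W)
    {g : G} (hgQ : g ∈ Subgroup.normalizer (Q₀ : Set G))
    (hgR : g ∈ Subgroup.normalizer ((((R₀ : Subgroup W).map W.subtype : Subgroup G)) : Set G)) :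
    g ∈ Subgroup.centralizer ((((R₀ : Subgroup W).map W.subtype : Subgroup G)) : Set G) := by
  set Rr := (R₀ : Subgroup W).map W.subtype with hRr
  have hRrW : Rr ≤ W := Subgroup.map_subtype_le _
  have hRrp : IsPGroup r Rr := R₀.2.map _
  have hRrcyc : IsCyclic Rr := by
    rcases R.pgroup_structure r Rr hRrp with hc | ⟨h2, -⟩
    · exact hc
    · exact absurd h2 hr2
  have hR₀cyc : IsCyclic (R₀ : Subgroup W) := by
    haveI := hRrcyc
    let e := (R₀ : Subgroup W).equivMapOfInjective W.subtype W.subtype_injective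
    exact isCyclic_of_surjective e.symm e.symm.surjective
  have hNC := hR₀cyc.normalizer_le_centralizer hmin
  set Cr := Subgroup.centralizer (Rr : Set G) with hCr
  set NN := Subgroup.normalizer (Q₀ : Set G) ⊓ Subgroup.normalizer (Rr : Set G) with hNN
  have hgNN : g ∈ NN := ⟨hgQ, hgR⟩
  -- part A: 2-elements
  have partA : ∀ a ∈ NN, ∀ k : ℕ, a ^ 2 ^ k = 1 → a ∈ Cr := by
    intro a ha k hak
    rw [hCr, Subgroup.mem_centralizer_iff]
    intro c hc
    exact (hg.two_element_centralizes h R p hperf hW ha.1 k hak c (hRrW hc)).symm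
  -- part B: 3-elements
  have partB : ∀ a ∈ NN, ∀ k : ℕ, a ^ 3 ^ k = 1 → a ∈ Cr := by
    intro a ha k hak
    have ha3 : a ^ 3 = 1 := hg.cube_eq_one h R ha.1 k hak
    rw [hCr, Subgroup.mem_centralizer_iff]
    intro c hc
    exact (R.centralizes_cyclic Nat.prime_three ha3 Rr hRrcyc ha.2 c hc).symm
  -- part C: elements of order prime to six
  have partC : ∀ a ∈ NN, Nat.Coprime (orderOf a) 6 → a ∈ Cr := by
    intro a ha hcop
    have hcent := h.centralizes_of_coprime R ha.1 hcop
    have hodd : Odd (orderOf a) := by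
      have : Nat.Coprime (orderOf a) 2 := Nat.Coprime.coprime_dvd_right (by norm_num) hcop
      exact Nat.coprime_two_right.mp this
    have haW : a ∈ W := (hW.mem_iff a).mpr ⟨hcent, hodd⟩
    have hnorm : (⟨a, haW⟩ : W) ∈ Subgroup.normalizer ((R₀ : Subgroup W) : Set W) := by
      apply Subgroup.mem_normalizer_fintype
      intro n hn
      have h1 : a * (n : G) * a⁻¹ ∈ Rr :=
        (Subgroup.mem_normalizer_iff.mp ha.2 _).mp ⟨n, hn, rfl⟩
      obtain ⟨n', hn', hn'e⟩ := h1
      have : (⟨a, haW⟩ : W) * n * (⟨a, haW⟩ : W)⁻¹ = n' := by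
        apply Subtype.ext
        simpa using hn'e.symm
      rw [this]
      exact hn'
    have hcentW := hNC hnorm
    rw [hCr, Subgroup.mem_centralizer_iff]
    rintro _ ⟨n, hn, rfl⟩
    have := Subgroup.mem_centralizer_iff.mp hcentW n hn
    have := congrArg Subtype.val this
    simpa using this
  -- decomposition of `g`
  have hpowNN : ∀ j : ℕ, g ^ j ∈ NN := fun j => Subgroup.pow_mem _ hgNN j
  obtain ⟨a, m₁, hm₁odd, hn⟩ := Nat.exists_eq_two_pow_mul_odd (orderOf_pos g).ne'
  have hm₁0 : m₁ ≠ 0 := by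
    rintro rfl
    simp at hm₁odd
  obtain ⟨b, m₂, hm₂3, hm₁⟩ := Nat.exists_eq_pow_mul_and_not_dvd hm₁0 3 (by norm_num)
  have h2part : g ^ m₁ ∈ Cr := by
    apply partA _ (hpowNN m₁) a
    rw [← pow_mul, mul_comm, ← hn]
    exact pow_orderOf_eq_one g
  set g₁ := g ^ 2 ^ a with hg₁
  have hg₁NN : g₁ ∈ NN := hpowNN _
  have h3part : g₁ ^ m₂ ∈ Cr := by
    apply partB _ (Subgroup.pow_mem _ hg₁NN _) b
    rw [hg₁, ← pow_mul, ← pow_mul]
    have : 2 ^ a * (m₂ * 3 ^ b) = orderOf g := by rw [hn, hm₁]; ring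
    rw [this]
    exact pow_orderOf_eq_one g
  have h6part : g₁ ^ 3 ^ b ∈ Cr := by
    apply partC _ (Subgroup.pow_mem _ hg₁NN _)
    have hdvd : orderOf (g₁ ^ 3 ^ b) ∣ m₂ := by
      apply orderOf_dvd_of_pow_eq_one
      rw [hg₁, ← pow_mul, ← pow_mul]
      have : 2 ^ a * (3 ^ b * m₂) = orderOf g := by rw [hn, hm₁]
      rw [this]
      exact pow_orderOf_eq_one g
    have hm₂odd : Odd m₂ := by
      rw [hm₁] at hm₁odd
      exact (Nat.odd_mul.mp hm₁odd).2
    have h2 : Nat.Coprime m₂ 2 := Nat.coprime_two_right.mpr hm₂odd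
    have h3 : Nat.Coprime m₂ 3 :=
      ((Nat.Prime.coprime_iff_not_dvd Nat.prime_three).mpr hm₂3).symm
    have h6 : Nat.Coprime m₂ 6 := by
      have : (6 : ℕ) = 2 * 3 := by norm_num
      rw [this]; exact Nat.Coprime.mul_right h2 h3
    exact Nat.Coprime.coprime_dvd_left hdvd h6
  have hg₁Cr : g₁ ∈ Cr := by
    apply mem_of_pow_mem Cr g₁ m₂ (3 ^ b) _ h3part h6part
    exact Nat.Coprime.pow_right b
      ((Nat.Prime.coprime_iff_not_dvd Nat.prime_three).mpr hm₂3).symm
  apply mem_of_pow_mem Cr g m₁ (2 ^ a) _ h2part hg₁Cr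
  exact Nat.Coprime.pow_right a (Nat.coprime_two_right.mpr hm₁odd)

end Good

end Cfsg.Agent.Lib.Helper2.Zfp
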