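import Cfsg.Agent.Lib.Helper2.DSub9
import Cfsg.Agent.Lib.Helper2.DSubG4

set_option autoImplicit false
set_option linter.style.haveILetI false

/-!
# Finite subgroups of `PGL₂` over an algebraically closed field, of order prime to the
characteristic
-/

namespace Cfsg.Agent.Lib.Helper2.Zfp

open Matrix MulAction
open scoped MatrixGroups

variable {L : Type*} [Field L] [DecidableEq L] [IsAlgClosed L]

attribute [local instance] DSub.pglAct

/-- finite subgroups of `PGL₂(L)` without elements of order the characteristic -/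
theorem classify_pgl (p : ℕ) [Fact p.Prime] [CharP L p] (H : Subgroup (PGL(Fin 2, L))) [Finite H]
    (hp : ∀ h ∈ H, h ^ p = 1 → h = 1) :
    IsCyclic H ∨ (∃ n : ℕ, Nonempty (H ≃* DihedralGroup n)) ∨
      Nonempty (H ≃* alternatingGroup (Fin 4)) ∨ Nonempty (H ≃* Equiv.Perm (Fin 4)) ∨
      Nonempty (H ≃* alternatingGroup (Fin 5)) := by
  have M := DSub.mob_subgroup H
  have hnp : ∀ (g : H) (x : OnePoint L), ¬ DSub.IsPar g x := by
    intro g x hg
    have h1 := (DSub.isPar_coe_iff H g x).mp hg
    have h2 := DSub.pow_char_of_isPar p x (g : PGL(Fin 2, L)) h1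
    exact h1.1 (hp _ g.2 h2)
  rcases DSub.classify M with ⟨x₀, hx₀⟩ | ⟨y, -, hy⟩ | h | h | h | ⟨x, hx, -⟩
  · left
    have hc := M.cyc x₀ (fun g => hnp g x₀)
    have hsurj : Function.Surjective (stabilizer (↥H) x₀).subtype := by
      intro h
      exact ⟨⟨h, hx₀ h⟩, rfl⟩
    exact isCyclic_of_surjective _ hsurj
  · right; left
    exact ⟨_, hy⟩
  · right; right; left; exact h
  · right; right; right; left; exact h
  · right; right; right; right; exact h
  · exfalso
    have h1 : DSub.Q M x ≠ ⊥ := by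
      intro hb
      rw [hb, Subgroup.card_bot] at hx
      omega
    obtain ⟨g, hg1⟩ := (Subgroup.ne_bot_iff_exists_ne_one).mp h1
    have hgQ : (g : H) ∈ DSub.Q M x := g.2
    rcases (DSub.mem_Q M x _).mp hgQ with h2 | h2
    · apply hg1
      apply Subtype.ext
      exact h2
    · exact hnp _ x h2

/-- a finite group with a faithful two-dimensional representation in coprime characteristic -/
theorem twoDim {X : Type*} [Group X] [Finite X] (φ : X →* GL (Fin 2) L) (p : ℕ) [Fact p.Prime]
    [CharP L p] (hp : ∀ g : X, g ^ p = 1 → g = 1) :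
    IsCyclic ((ProjGenLinGroup.mk.comp φ).range) ∨
      (∃ n : ℕ, Nonempty ((ProjGenLinGroup.mk.comp φ).range ≃* DihedralGroup n)) ∨
      Nonempty ((ProjGenLinGroup.mk.comp φ).range ≃* alternatingGroup (Fin 4)) ∨
      Nonempty ((ProjGenLinGroup.mk.comp φ).range ≃* Equiv.Perm (Fin 4)) ∨
      Nonempty ((ProjGenLinGroup.mk.comp φ).range ≃* alternatingGroup (Fin 5)) := by
  set ψ : X →* PGL(Fin 2, L) := ProjGenLinGroup.mk.comp φ with hψ
  haveI : Finite ψ.range := Set.finite_range ψ
  apply classify_pgl p ψ.range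
  rintro _ ⟨g, rfl⟩ hg
  by_contra hne
  have hpp : (Fact.out : p.Prime) = Fact.out := rfl
  have ho : orderOf (ψ g) = p := orderOf_eq_prime hg hne
  have hdvd : p ∣ orderOf g := by
    rw [← ho]
    exact orderOf_map_dvd ψ g
  obtain ⟨k, hk⟩ := hdvd
  have h1 : (g ^ k) ^ p = 1 := by
    rw [← pow_mul, mul_comm, ← hk, pow_orderOf_eq_one]
  have h2 := hp _ h1
  have h3 : orderOf g ∣ k := orderOf_dvd_of_pow_eq_one h2
  have hpos : 0 < orderOf g := orderOf_pos g
  have hkpos : 0 < k := by
    rcases Nat.eq_zero_or_pos k with h0 | h0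
    · rw [h0, mul_zero] at hk; omega
    · exact h0
  have := Nat.le_of_dvd hkpos h3
  have hp2 := (Fact.out : p.Prime).two_le
  nlinarith

end Cfsg.Agent.Lib.Helper2.Zfp
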