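import Cfsg.Agent.Lib.Helper2.Zfp29

set_option autoImplicit false
set_option linter.style.haveILetI false

/-!
# The odd part of the centralizer of a good quaternion subgroup is trivial
-/

namespace Cfsg.Agent.Lib.Helper2.Zfp

open scoped Pointwise
open Cfsg.Agent.Lib.Lead

universe u

variable {G : Type u} [Group G] [Finite G] {E : Type*} [Field E] [IsAlgClosed E] {M : Type*}
  [AddCommGroup M] [Module E M] [FiniteDimensional E M] [Nontrivial M]

/-- Sylow `2`-subgroups of a group of order `24` or `120` have order eight -/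
theorem card_sylow_two_of_card (L : Subgroup G) (hL : Nat.card L = 24 ∨ Nat.card L = 120)
    (P : Sylow 2 L) : Nat.card P = 8 := by
  haveI : Fact (Nat.Prime 2) := ⟨Nat.prime_two⟩
  rw [Sylow.card_eq_multiplicity]
  rcases hL with e | e <;> rw [e]
  · have : (24 : ℕ) = 2 ^ 3 * 3 := by norm_num
    rw [this, Nat.factorization_mul (by norm_num) (by norm_num), Nat.Prime.factorization_pow
      Nat.prime_two, Nat.Prime.factorization Nat.prime_three]
    simp
  · have : (120 : ℕ) = 2 ^ 3 * 3 * 5 := by norm_num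
    rw [this, Nat.factorization_mul (by norm_num) (by norm_num),
      Nat.factorization_mul (by norm_num) (by norm_num), Nat.Prime.factorization_pow
      Nat.prime_two, Nat.Prime.factorization Nat.prime_three,
      Nat.Prime.factorization Nat.prime_five]
    simp

namespace Good

variable {Q₀ : Subgroup G} {z x : G}

set_option maxHeartbeats 1600000 in
/-- in a perfect group all of whose proper subgroups satisfy the main theorem, the odd part of the
centralizer of a good quaternion subgroup is trivial -/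
theorem oddCent_eq_bot (hg : Good Q₀ x) (h : Q8 Q₀ z) (R : Rep G E M) (p : ℕ) [Fact p.Prime]
    [CharP E p] (hperf : commutator G = ⊤)
    (IH : ∀ Y : Subgroup G, Y ≠ ⊤ → Nat.card (N3 Y) = 1 ∨ Nat.card (N3 Y) = 3 ∨
      Nat.card (N3 Y) = 24 ∨ Nat.card (N3 Y) = 120)
    {W : Subgroup G} (hW : OddCent Q₀ z W) : W = ⊥ := by
  by_contra hWne
  haveI : Fact (Nat.Prime 2) := ⟨Nat.prime_two⟩
  have hWodd : ∀ w ∈ W, Odd (orderOf w) := fun w hw => ((hW.mem_iff w).mp hw).2
  have hWQ : ∀ w ∈ W, ∀ q ∈ Q₀, w * q = q * w := fun w hw => ((hW.mem_iff w).mp hw).1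
  have hWx : ∀ w ∈ W, w * x = x * w := fun w hw => hg.cent_comm h R (hWQ w hw)
  have hcardW : Nat.card W ≠ 1 := fun e => hWne (Subgroup.card_eq_one.mp e)
  set r := (Nat.card W).minFac with hr
  have hrp : r.Prime := Nat.minFac_prime hcardW
  haveI : Fact r.Prime := ⟨hrp⟩
  have hrW : r ∣ Nat.card W := Nat.minFac_dvd _
  have hr2 : r ≠ 2 := by
    intro e
    obtain ⟨w, hw⟩ := exists_prime_orderOf_dvd_card' r hrW
    have := hWodd w w.2
    rw [Subgroup.orderOf_coe, hw, e] at this
    exact absurd this (by decide)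
  have hr3 : r ≠ 3 := by
    intro e
    obtain ⟨w, hw⟩ := exists_prime_orderOf_dvd_card' r hrW
    have hw3 : (w : G) ^ 3 = 1 := by
      have : w ^ 3 = 1 := by rw [← e, ← hw]; exact pow_orderOf_eq_one w
      have := congrArg Subtype.val this
      simpa using this
    have h1 := hg.cent_cube h R (hWQ w w.2) hw3
    have : w = 1 := Subtype.ext h1
    rw [this, orderOf_one] at hw
    exact hrp.one_lt.ne hw
  obtain ⟨R₀⟩ : Nonempty (Sylow r W) := inferInstance
  set Rr := (R₀ : Subgroup W).map W.subtype with hRr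
  have hRrW : Rr ≤ W := Subgroup.map_subtype_le _
  have hRrp : IsPGroup r Rr := R₀.2.map _
  have hRrcard : Nat.card Rr = Nat.card R₀ := Subgroup.card_map_of_injective W.subtype_injective
  have hrR₀ : r ∣ Nat.card R₀ := R₀.dvd_card_of_dvd_card hrW
  have hRrcyc : IsCyclic Rr := by
    rcases R.pgroup_structure r Rr hRrp with hc | ⟨h2, -⟩
    · exact hc
    · exact absurd h2 hr2
  -- an element of order `r`
  obtain ⟨c₀, hc₀⟩ := exists_prime_orderOf_dvd_card' r (hRrcard ▸ hrR₀)
  have hc₀ord : orderOf (c₀ : G) = r := by rw [Subgroup.orderOf_coe]; exact hc₀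
  have hc₀1 : (c₀ : G) ≠ 1 := by
    intro e
    rw [e, orderOf_one] at hc₀ord
    exact hrp.one_lt.ne hc₀ord
  -- the centralizer of `Rr`
  set Y := Subgroup.centralizer (Rr : Set G) with hY
  have hYne : Y ≠ ⊤ := by
    intro e
    have hc : (c₀ : G) ∈ Subgroup.center G := by
      rw [Subgroup.mem_center_iff]
      intro g
      have : g ∈ Y := by rw [e]; exact Subgroup.mem_top g
      exact (Subgroup.mem_centralizer_iff.mp this _ c₀.2).symm
    rcases R.center_le hperf h _ hc with e1 | e1
    · exact hc₀1 e1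
    · have h2 : orderOf z = 2 := orderOf_eq_prime (by rw [pow_two]; exact h.z_sq) h.z_ne
      rw [e1, h2] at hc₀ord
      exact hr2 hc₀ord.symm
  have hQY : Q₀ ≤ Y := by
    intro q hq
    rw [hY, Subgroup.mem_centralizer_iff]
    intro c hc
    exact hWQ c (hRrW hc) q hq
  have hxY : x ∈ Y := by
    rw [hY, Subgroup.mem_centralizer_iff]
    intro c hc
    exact hWx c (hRrW hc)
  set L := (N3 Y).map Y.subtype with hL
  have hLY : L ≤ Y := Subgroup.map_subtype_le _
  have hQL : Q₀ ≤ L := hg.le_N3_map h R Y hQY hxY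
  have hLcard : Nat.card L = 24 ∨ Nat.card L = 120 := by
    have h8 : 8 ∣ Nat.card L := by rw [← h.card]; exact Subgroup.card_dvd_of_le hQL
    have := IH Y hYne
    rw [card_N3_sub Y] at this
    rcases this with e | e | e | e
    · rw [e] at h8; norm_num at h8
    · rw [e] at h8; norm_num at h8
    · left; exact e
    · right; exact e
  have hLcent : ∀ l ∈ L, ∀ c ∈ Rr, c * l = l * c := by
    intro l hl c hc
    exact Subgroup.mem_centralizer_iff.mp (hLY hl) c hc
  -- a Sylow subgroup of `G` containing `Rr`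
  obtain ⟨Rst, hRst⟩ := hRrp.exists_le_sylow
  have hRstcyc : IsCyclic (Rst : Subgroup G) := by
    rcases R.pgroup_structure r Rst Rst.2 with hc | ⟨h2, -⟩
    · exact hc
    · exact absurd h2 hr2
  have hRstY : (Rst : Subgroup G) ≤ Y := by
    intro g hg'
    rw [hY, Subgroup.mem_centralizer_iff]
    intro c hc
    exact commute_of_isCyclic _ hRstcyc (hRst hc) hg'
  have hRstNL : (Rst : Subgroup G) ≤ Subgroup.normalizer (L : Set G) := by
    intro g hg'
    exact N3_map_normalizer Y (Subgroup.le_normalizer (hRstY hg'))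
  -- the case `r = 5`, `|L| = 120` is impossible
  have h5 : ¬ (r = 5 ∧ Nat.card L = 120) := by
    rintro ⟨e5, e120⟩
    have h5L : 5 ∣ Nat.card L := by rw [e120]; norm_num
    haveI : Fact (Nat.Prime 5) := ⟨Nat.prime_five⟩
    obtain ⟨d, hd⟩ := exists_prime_orderOf_dvd_card' 5 h5L
    have hd5 : (d : G) ^ 5 = 1 := by
      have : d ^ 5 = 1 := by rw [← hd]; exact pow_orderOf_eq_one d
      have := congrArg Subtype.val this
      simpa using this
    have hd1 : (d : G) ≠ 1 := by
      intro e
      have : d = 1 := Subtype.ext e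
      rw [this, orderOf_one] at hd
      norm_num at hd
    have hc5 : (c₀ : G) ^ 5 = 1 := by rw [← e5, ← hc₀ord]; exact pow_orderOf_eq_one _
    have hcd : (c₀ : G) * d = d * c₀ := hLcent d d.2 c₀ c₀.2
    have hmem : (c₀ : G) ∈ Subgroup.zpowers (d : G) :=
      R.mem_zpowers_of_commute_prime Nat.prime_five hd5 hd1 hc5 hcd
    have hcL : (c₀ : G) ∈ L := (Subgroup.zpowers_le.mpr d.2) hmem
    apply N3_no_central (H := L) (N3_N3_map Y) (q := 5) (by norm_num) ⟨c₀, hcL⟩
    · rw [Subgroup.mem_center_iff]
      intro l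
      apply Subtype.ext
      exact (hLcent l l.2 c₀ c₀.2).symm
    · rw [← Subgroup.orderOf_coe]
      show orderOf (c₀ : G) = 5
      rw [hc₀ord, e5]
    · rw [e120]; norm_num
  -- `Rr` is a Sylow subgroup of `G`
  have hRstEq : (Rst : Subgroup G) = Rr := by
    have hcop : (Nat.card (Rst : Subgroup G)).Coprime (Nat.card L) := by
      obtain ⟨k, hk⟩ := Rst.2.exists_card_eq
      rw [hk]
      apply Nat.Coprime.pow_left
      rw [Nat.Prime.coprime_iff_not_dvd hrp]
      intro hd
      rcases hLcard with e | e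
      · rw [e] at hd
        have : (24 : ℕ) = 2 ^ 3 * 3 := by norm_num
        rw [this] at hd
        rcases (Nat.Prime.dvd_mul hrp).mp hd with h1 | h1
        · exact hr2 ((Nat.prime_dvd_prime_iff_eq hrp Nat.prime_two).mp (hrp.dvd_of_dvd_pow h1))
        · exact hr3 ((Nat.prime_dvd_prime_iff_eq hrp Nat.prime_three).mp h1)
      · rw [e] at hd
        have : (120 : ℕ) = 2 ^ 3 * 3 * 5 := by norm_num
        rw [this] at hd
        rcases (Nat.Prime.dvd_mul hrp).mp hd with h1 | h1
        · rcases (Nat.Prime.dvd_mul hrp).mp h1 with h2 | h2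
          · exact hr2 ((Nat.prime_dvd_prime_iff_eq hrp Nat.prime_two).mp (hrp.dvd_of_dvd_pow h2))
          · exact hr3 ((Nat.prime_dvd_prime_iff_eq hrp Nat.prime_three).mp h2)
        · exact h5 ⟨(Nat.prime_dvd_prime_iff_eq hrp Nat.prime_five).mp h1, e⟩
    have hsolv : Group.IsSolvable (Rst : Subgroup G) ∨ Group.IsSolvable L := by
      left
      exact Group.isSolvable_of_comm (fun a b => Subtype.ext (commute_of_isCyclic _ hRstcyc a.2 b.2))
    obtain ⟨P₂, hP₂⟩ := coprime_invariant_sylow_exists (Rst : Subgroup G) L hRstNL hcop hsolv 2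
    set T₂ := (P₂ : Subgroup L).map L.subtype with hT₂
    have hT₂L : T₂ ≤ L := Subgroup.map_subtype_le _
    have hT₂card : Nat.card T₂ = 8 := by
      rw [hT₂, Subgroup.card_map_of_injective L.subtype_injective]
      exact card_sylow_two_of_card L hLcard P₂
    obtain ⟨l, hlL, hl⟩ := exists_conj_of_card_eight L hLcard hQL hT₂L h.card hT₂card
    -- the conjugate of `Rst` by `l⁻¹` lies in `W`
    have hconjW : ∀ g ∈ (Rst : Subgroup G), l⁻¹ * g * l ∈ W := by
      intro g hg'
      have h1 : g ∈ Subgroup.normalizer ((MulAut.conj l • Q₀ : Subgroup G) : Set G) := by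
        rw [hl]; exact hP₂ hg'
      rw [conj_smul_mem_normalizer_iff] at h1
      have hord : orderOf (l⁻¹ * g * l) = orderOf g := by
        have := orderOf_injective (MulAut.conj l⁻¹).toMonoidHom (MulAut.conj l⁻¹).injective g
        simpa using this
      obtain ⟨k, hk⟩ := Rst.2 ⟨g, hg'⟩
      have hgk : g ^ r ^ k = 1 := by
        have := congrArg Subtype.val hk
        simpa using this
      have hdvd : orderOf g ∣ r ^ k := orderOf_dvd_of_pow_eq_one hgk
      have hcop2 : Nat.Coprime (r ^ k) 2 :=
        Nat.Coprime.pow_left k ((Nat.coprime_primes hrp Nat.prime_two).mpr hr2)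
      have hcop3 : Nat.Coprime (r ^ k) 3 :=
        Nat.Coprime.pow_left k ((Nat.coprime_primes hrp Nat.prime_three).mpr hr3)
      have hcop6 : Nat.Coprime (orderOf (l⁻¹ * g * l)) 6 := by
        rw [hord]
        apply Nat.Coprime.coprime_dvd_left hdvd
        have : (6 : ℕ) = 2 * 3 := by norm_num
        rw [this]; exact Nat.Coprime.mul_right hcop2 hcop3
      rw [hW.mem_iff]
      refine ⟨h.centralizes_of_coprime R h1 hcop6, ?_⟩
      rw [hord]
      exact Nat.coprime_two_right.mp (Nat.Coprime.coprime_dvd_left hdvd hcop2)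
    set Rst' := (Rst : Subgroup G).map (MulAut.conj l⁻¹).toMonoidHom with hRst'
    have hRst'W : Rst' ≤ W := by
      rintro _ ⟨g, hg', rfl⟩
      simpa using hconjW g hg'
    have hRst'card : Nat.card Rst' = Nat.card (Rst : Subgroup G) :=
      Subgroup.card_map_of_injective (MulAut.conj l⁻¹).injective
    have hRst'p : IsPGroup r (Rst'.subgroupOf W) := (Rst.2.map _).comap_subtype
    obtain ⟨R₁, hR₁⟩ := hRst'p.exists_le_sylow
    have hle : Nat.card (Rst : Subgroup G) ≤ Nat.card Rr := by
      rw [← hRst'card, ← card_subgroupOf_of_le hRst'W, hRrcard]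
      calc Nat.card (Rst'.subgroupOf W) ≤ Nat.card R₁ := Subgroup.card_le_of_le hR₁
        _ = Nat.card R₀ := by rw [Sylow.card_eq_multiplicity, Sylow.card_eq_multiplicity]
    exact (Subgroup.eq_of_le_of_card_ge hRst hle).symm
  -- the normalizer of `Rr` centralizes it
  have hNC : Subgroup.normalizer ((Rst : Subgroup G) : Set G) ≤
      Subgroup.centralizer ((Rst : Subgroup G) : Set G) := by
    rw [hRstEq]
    intro g hgN
    have hgY : g ∈ Subgroup.normalizer (Y : Set G) := normalizer_le_normalizer_centralizer Rr hgN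
    have hgL : g ∈ Subgroup.normalizer (L : Set G) := N3_map_normalizer Y hgY
    set T := MulAut.conj g • Q₀ with hT
    have hTL : T ≤ L := by
      intro q hq
      rw [hT, mem_conj_smul_iff'] at hq
      have h1 := (Subgroup.mem_normalizer_iff.mp hgL _).mp (hQL hq)
      have e : g * (g⁻¹ * q * g) * g⁻¹ = q := by group
      rwa [e] at h1
    have hTcard : Nat.card T = 8 := by rw [hT, card_conj_smul, h.card]
    obtain ⟨l, hlL, hl⟩ := exists_conj_of_card_eight L hLcard hTL hQL hTcard h.card
    have hg'Q : l * g ∈ Subgroup.normalizer (Q₀ : Set G) := by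
      rw [mem_normalizer_iff_conj_smul, map_mul, mul_smul]
      exact hl
    have hlY : l ∈ Y := hLY hlL
    have hlN : l ∈ Subgroup.normalizer (Rr : Set G) := by
      apply Subgroup.mem_normalizer_fintype
      intro c hc
      have := Subgroup.mem_centralizer_iff.mp hlY c hc
      have e : l * c * l⁻¹ = c := by rw [← this]; group
      rw [e]; exact hc
    have hg'R : l * g ∈ Subgroup.normalizer (Rr : Set G) := Subgroup.mul_mem _ hlN hgN
    have key := hg.centralizes_sylow h R p hperf hW hr.symm hr2 R₀ hg'Q hg'R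
    have : g = l⁻¹ * (l * g) := by group
    rw [this]
    exact Subgroup.mul_mem _ (Subgroup.inv_mem _ hlY) key
  -- Burnside's transfer theorem
  have hcompl := MonoidHom.ker_transferSylow_isComplement' Rst hNC
  haveI : Group.IsSolvable (Rst : Subgroup G) :=
    Group.isSolvable_of_comm (fun a b => Subtype.ext (commute_of_isCyclic _ hRstcyc a.2 b.2))
  have hker := ker_eq_top_of_perfect hperf (MonoidHom.transferSylow Rst hNC)
  have h1 := hcompl.card_mul_card
  rw [hker, Subgroup.card_top] at h1
  have hpos : 0 < Nat.card G := Nat.card_pos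
  have h2 : Nat.card (Rst : Subgroup G) = 1 := by
    have : Nat.card G * Nat.card (Rst : Subgroup G) = Nat.card G * 1 := by rw [h1, mul_one]
    exact Nat.eq_of_mul_eq_mul_left hpos this
  rw [hRstEq, hRrcard] at h2
  rw [h2] at hrR₀
  exact hrp.one_lt.ne' (Nat.dvd_one.mp hrR₀)

end Good

end Cfsg.Agent.Lib.Helper2.Zfp
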