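import Cfsg.Agent.Lib.Helper2.Zfp30

set_option autoImplicit false
set_option linter.style.haveILetI false

/-!
# Centralizers of elements of order four are `2`-groups
-/

namespace Cfsg.Agent.Lib.Helper2.Zfp

open scoped Pointwise
open Cfsg.Agent.Lib.Lead

universe u

variable {G : Type u} [Group G] [Finite G] {E : Type*} [Field E] [IsAlgClosed E] {M : Type*}
  [AddCommGroup M] [Module E M] [FiniteDimensional E M] [Nontrivial M]

namespace Q8

variable {Q : Subgroup G} {z : G}

/-- elements of a quaternion group commute up to the central involution -/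
theorem comm_mod (h : Q8 Q z) (R : Rep G E M) {a b : G} (ha : a ∈ Q) (hb : b ∈ Q) :
    a * b = b * a ∨ a * b = z * (b * a) := by
  have hzc : ∀ g : G, g * z = z * g := fun g => h.z_central R g
  by_cases ha1 : a = 1
  · left; rw [ha1]; simp
  by_cases haz : a = z
  · left; rw [haz]; exact (hzc b).symm
  have haa : a * a = z := h.sq_eq R ha ha1 haz
  by_cases hba : b ∈ Subgroup.zpowers a
  · left
    obtain ⟨k, rfl⟩ := Subgroup.mem_zpowers_iff.mp hba
    exact ((Commute.refl a).zpow_right k).eq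
  · right
    have h1 := h.conj_eq_inv R ha hb haa hba
    have hainv : a⁻¹ = z * a := by
      rw [inv_eq_iff_mul_eq_one, ← mul_assoc, hzc a, mul_assoc, haa, h.z_sq]
    have h2 : b * a = z * a * b := by
      calc b * a = (b * a * b⁻¹) * b := by group
        _ = z * a * b := by rw [h1, hainv]
    rw [h2, ← mul_assoc, ← mul_assoc, h.z_sq, one_mul]

theorem sq_mem (h : Q8 Q z) (R : Rep G E M) {a : G} (ha : a ∈ Q) : a * a = 1 ∨ a * a = z := by
  by_cases ha1 : a = 1
  · left; rw [ha1, one_mul]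
  by_cases haz : a = z
  · left; rw [haz, h.z_sq]
  · right; exact h.sq_eq R ha ha1 haz

end Q8

namespace Good

variable {Q₀ : Subgroup G} {z x : G}

theorem isPGroup_centralizer (hW : OddCent Q₀ z (⊥ : Subgroup G)) {t : G} (ht : t ∈ Q₀)
    (htz : t * t = z) : IsPGroup 2 (Subgroup.centralizer ({t} : Set G)) := by
  haveI : Fact (Nat.Prime 2) := ⟨Nat.prime_two⟩
  obtain ⟨P, hP⟩ := hW.card_cent t ht htz
  obtain ⟨k, hk⟩ := P.2.exists_card_eq
  rw [Subgroup.card_bot, one_mul, hk] at hP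
  exact IsPGroup.of_card hP.symm

set_option maxHeartbeats 800000 in
/-- in the minimal situation, the centralizer of every element of order four is a `2`-group -/
theorem isPGroup_centralizer_of_sq (hg : Good Q₀ x) (h : Q8 Q₀ z) (R : Rep G E M) (p : ℕ)
    [Fact p.Prime] [CharP E p] (hperf : commutator G = ⊤)
    (IH : ∀ Y : Subgroup G, Y ≠ ⊤ → Nat.card (N3 Y) = 1 ∨ Nat.card (N3 Y) = 3 ∨
      Nat.card (N3 Y) = 24 ∨ Nat.card (N3 Y) = 120) {u : G} (huz : u * u = z) :
    IsPGroup 2 (Subgroup.centralizer ({u} : Set G)) := by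
  haveI : Fact (Nat.Prime 2) := ⟨Nat.prime_two⟩
  have hzc : ∀ g : G, g * z = z * g := fun g => h.z_central R g
  obtain ⟨W, hW⟩ := hg.exists_oddCent h R p
  have hWbot : W = ⊥ := hg.oddCent_eq_bot h R p hperf IH hW
  rw [hWbot] at hW
  obtain ⟨P, hP⟩ := h.isPGroup.exists_le_sylow
  have hu4 : u ^ 2 ^ 2 = 1 := by
    rw [show (2 : ℕ) ^ 2 = 2 + 2 from rfl, pow_add, pow_two, huz, h.z_sq]
  obtain ⟨P', hP'⟩ := (isPGroup_zpowers hu4).exists_le_sylow
  obtain ⟨g, hgP⟩ := MulAction.exists_smul_eq G P' P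
  set u' := g * u * g⁻¹ with hu'
  have hu'P : u' ∈ (P : Subgroup G) := by
    rw [← hgP, Sylow.coe_subgroup_smul, Subgroup.mem_smul_pointwise_iff_exists]
    exact ⟨u, hP' (Subgroup.mem_zpowers u), by simp [MulAut.smul_def, hu']⟩
  have hu'z : u' * u' = z := by
    calc u' * u' = g * (u * u) * g⁻¹ := by rw [hu']; group
      _ = z := by rw [huz, hzc g]; group
  have key : IsPGroup 2 (Subgroup.centralizer ({u'} : Set G)) := by
    rcases hg.card_two_group h R p P P.2 hP with h8 | h16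
    · have heq : Q₀ = (P : Subgroup G) := Subgroup.eq_of_le_of_card_ge hP (by rw [h8, h.card])
      exact isPGroup_centralizer hW (heq ▸ hu'P) hu'z
    · obtain ⟨Q₂, y, t₁, hQ₂, hgood₂, -, -, -, -, -, hcase⟩ :=
        hg.exists_second h R p hperf hW P P.2 hP h16
      rcases hcase u' hu'P hu'z with h0 | h2
      · exact isPGroup_centralizer hW h0 hu'z
      · obtain ⟨W₂, hW₂⟩ := hgood₂.exists_oddCent hQ₂ R p
        have hW₂bot : W₂ = ⊥ := hgood₂.oddCent_eq_bot hQ₂ R p hperf IH hW₂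
        rw [hW₂bot] at hW₂
        exact isPGroup_centralizer hW₂ h2 hu'z
  intro c
  have hc : (c : G) * u = u * c := (Subgroup.mem_centralizer_singleton_iff.mp c.2)
  have hc' : g * c * g⁻¹ ∈ Subgroup.centralizer ({u'} : Set G) := by
    rw [Subgroup.mem_centralizer_singleton_iff, hu']
    calc g * ↑c * g⁻¹ * (g * u * g⁻¹) = g * (↑c * u) * g⁻¹ := by group
      _ = g * (u * ↑c) * g⁻¹ := by rw [hc]
      _ = g * u * g⁻¹ * (g * ↑c * g⁻¹) := by group
  obtain ⟨k, hk⟩ := key ⟨_, hc'⟩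
  refine ⟨k, ?_⟩
  have h1 : (g * (c : G) * g⁻¹) ^ 2 ^ k = 1 := by
    have := congrArg Subtype.val hk
    simpa using this
  rw [conj_pow] at h1
  have h2 : (c : G) ^ 2 ^ k = 1 := by
    have : (c : G) ^ 2 ^ k = g⁻¹ * (g * (c : G) ^ 2 ^ k * g⁻¹) * g := by group
    rw [this, h1]; group
  apply Subtype.ext
  simpa using h2

end Good

end Cfsg.Agent.Lib.Helper2.Zfp
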