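import Cfsg.Agent.Lib.Helper2.Zfp31
import Cfsg.Agent.Lib.Helper2.DSubP7
import Cfsg.Agent.S1230

set_option autoImplicit false
set_option linter.style.haveILetI false

/-!
# The case of a quaternion Sylow `2`-subgroup of order eight: the group has order `120`
-/

namespace Cfsg.Agent.Lib.Helper2.Zfp

open scoped Pointwise
open Cfsg.Agent.Lib.Lead

universe u

variable {G : Type u} [Group G] [Finite G] {E : Type*} [Field E] [IsAlgClosed E] {M : Type*}
  [AddCommGroup M] [Module E M] [FiniteDimensional E M] [Nontrivial M]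

namespace Q8

variable {Q : Subgroup G} {z : G}

theorem zpowers_normal (h : Q8 Q z) (R : Rep G E M) : (Subgroup.zpowers z).Normal := by
  constructor
  intro n hn g
  obtain ⟨k, rfl⟩ := Subgroup.mem_zpowers_iff.mp hn
  have hc : g * z = z * g := h.z_central R g
  have : g * z ^ k * g⁻¹ = z ^ k := by
    have h1 : Commute g (z ^ k) := (show Commute g z from hc).zpow_right k
    rw [h1.eq]; group
  rw [this]
  exact Subgroup.zpow_mem_zpowers z k

theorem mem_zpowers_z (h : Q8 Q z) {g : G} (hg : g ∈ Subgroup.zpowers z) : g = 1 ∨ g = z := by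
  obtain ⟨k, rfl⟩ := Subgroup.mem_zpowers_iff.mp hg
  rcases Int.emod_two_eq_zero_or_one k with h0 | h1
  · left
    have : k = 2 * (k / 2) := by omega
    rw [this, zpow_mul, zpow_two, h.z_sq, one_zpow]
  · right
    have : k = 2 * (k / 2) + 1 := by omega
    rw [this, zpow_add, zpow_mul, zpow_two, h.z_sq, one_zpow, one_mul, zpow_one]

theorem card_zpowers_z (h : Q8 Q z) : Nat.card (Subgroup.zpowers z) = 2 := by
  rw [Nat.card_zpowers]
  haveI : Fact (Nat.Prime 2) := ⟨Nat.prime_two⟩
  apply orderOf_eq_prime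
  · rw [pow_two]; exact h.z_sq
  · exact h.z_ne

end Q8

namespace Good

variable {Q₀ : Subgroup G} {z x : G}

set_option maxHeartbeats 1600000 in
/-- if the Sylow `2`-subgroups have order eight, the group has order `120` -/
theorem card_of_eight (hg : Good Q₀ x) (h : Q8 Q₀ z) (R : Rep G E M) (p : ℕ) [Fact p.Prime]
    [CharP E p] (hN : N3 G = ⊤) (hperf : commutator G = ⊤)
    (IH : ∀ Y : Subgroup G, Y ≠ ⊤ → Nat.card (N3 Y) = 1 ∨ Nat.card (N3 Y) = 3 ∨
      Nat.card (N3 Y) = 24 ∨ Nat.card (N3 Y) = 120) (P : Sylow 2 G) (hQP : Q₀ ≤ P)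
    (h8 : Nat.card P = 8) : Nat.card G = 120 := by
  haveI : Fact (Nat.Prime 2) := ⟨Nat.prime_two⟩
  have hzc : ∀ g : G, g * z = z * g := fun g => h.z_central R g
  have hPQ : Q₀ = (P : Subgroup G) := Subgroup.eq_of_le_of_card_ge hQP (by rw [h8, h.card])
  set Z := Subgroup.zpowers z with hZ
  haveI hZn : Z.Normal := h.zpowers_normal R
  have hZQ : Z ≤ Q₀ := Subgroup.zpowers_le.mpr h.z_mem
  have hmemZ : ∀ g : G, g ∈ Z → g = 1 ∨ g = z := fun g hg => h.mem_zpowers_z hg
  set f := QuotientGroup.mk' Z with hf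
  have hsurj : Function.Surjective f := QuotientGroup.mk'_surjective Z
  have hf1 : ∀ g : G, f g = 1 ↔ g ∈ Z := fun g => QuotientGroup.eq_one_iff g
  set T : Sylow 2 (G ⧸ Z) := P.mapSurjective hsurj with hT
  have hTc : (T : Subgroup (G ⧸ Z)) = Q₀.map f := by
    rw [hPQ]; exact Sylow.coe_mapSurjective hsurj P
  have hTcard : Nat.card (T : Subgroup (G ⧸ Z)) = 4 := by
    have h1 := card_map_mk_of_le Z Q₀ hZQ
    have h2 : Nat.card Z = 2 := h.card_zpowers_z
    have h3 : Nat.card Q₀ = 8 := h.card
    rw [h2, h3] at h1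
    rw [hTc]
    change Nat.card (Q₀.map (QuotientGroup.mk' Z)) = 4
    omega
  -- `2`-subgroups are conjugate into `Q₀`
  have hconj : ∀ N : Subgroup G, IsPGroup 2 N → ∃ g : G, ∀ c ∈ N, g * c * g⁻¹ ∈ Q₀ := by
    intro N hN2
    obtain ⟨P', hP'⟩ := hN2.exists_le_sylow
    obtain ⟨g, hgP⟩ := MulAction.exists_smul_eq G P' P
    refine ⟨g, fun c hc => ?_⟩
    rw [hPQ, ← hgP, Sylow.coe_subgroup_smul, Subgroup.mem_smul_pointwise_iff_exists]
    exact ⟨c, hP' hc, by simp [MulAut.smul_def]⟩
  have hsq : ∀ tb ∈ (T : Subgroup (G ⧸ Z)), tb ^ 2 = 1 := by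
    intro tb htb
    rw [hTc] at htb
    obtain ⟨q, hq, rfl⟩ := htb
    rw [← map_pow, hf1, pow_two]
    rcases h.sq_mem R hq with e | e
    · rw [e]; exact Z.one_mem
    · rw [e]; exact Subgroup.mem_zpowers z
  have hnc : ¬ IsCyclic (T : Subgroup (G ⧸ Z)) := by
    intro hcyc
    obtain ⟨g, hgen⟩ := hcyc.exists_generator
    have h1 : orderOf g = Nat.card (T : Subgroup (G ⧸ Z)) :=
      orderOf_eq_card_of_forall_mem_zpowers hgen
    have h2 : orderOf g ∣ 2 := by
      apply orderOf_dvd_of_pow_eq_one
      apply Subtype.ext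
      simpa using hsq g g.2
    rw [h1, hTcard] at h2; norm_num at h2
  have hnn : ¬ (T : Subgroup (G ⧸ Z)).Normal := by
    intro hn
    have hQn : Q₀.Normal := by
      have h1 : ((T : Subgroup (G ⧸ Z)).comap f) = Q₀ := by
        rw [hTc, comap_map_mk, sup_eq_left.mpr hZQ]
      rw [← h1]; exact hn.comap f
    have hQtop : Q₀ ≠ ⊤ := by
      intro e
      have hx4 : x ^ 4 = 1 := h.pow_four R (e ▸ Subgroup.mem_top x)
      apply hg.x1
      calc x = x ^ 3 * x := by rw [hg.x3, one_mul]
        _ = x ^ 4 := by rw [← pow_succ]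
        _ = 1 := hx4
    have hcen := R.normal_le_center hN hperf Q₀ hQtop
    apply hg.nc
    intro q hq
    exact (Subgroup.mem_center_iff.mp (hcen hq) x)
  have hC : ∀ tb : G ⧸ Z, orderOf tb = 2 →
      IsMulCommutative (Subgroup.centralizer ({tb} : Set (G ⧸ Z))) ∧
        ∀ c ∈ Subgroup.centralizer ({tb} : Set (G ⧸ Z)), c ^ 2 = 1 := by
    intro tb htb
    obtain ⟨t, rfl⟩ := hsurj tb
    have htZ : t ∉ Z := by
      intro hm
      rw [(hf1 t).mpr hm, orderOf_one] at htb; norm_num at htb
    have htt : t * t = z := by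
      have h1 : f (t * t) = 1 := by rw [← pow_two, map_pow, ← htb, pow_orderOf_eq_one]
      rcases hmemZ _ ((hf1 _).mp h1) with e | e
      · exfalso
        by_cases ht1 : t = 1
        · exact htZ (ht1 ▸ Z.one_mem)
        · have := R.involution_unique ht1 e h.z_ne h.z_sq
          exact htZ (this ▸ Subgroup.mem_zpowers z)
      · exact e
    have hC2 : IsPGroup 2 (Subgroup.centralizer ({t} : Set G)) :=
      hg.isPGroup_centralizer_of_sq h R p hperf IH htt
    set N := (Subgroup.centralizer ({f t} : Set (G ⧸ Z))).comap f with hNdef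
    have hNmem : ∀ c ∈ N, c * t * c⁻¹ = t ∨ c * t * c⁻¹ = z * t := by
      intro c hc
      rw [hNdef, Subgroup.mem_comap, Subgroup.mem_centralizer_singleton_iff] at hc
      have h1 : f (c * t * c⁻¹ * t⁻¹) = 1 := by
        rw [map_mul, map_mul, map_mul, map_inv, map_inv, hc]; group
      rcases hmemZ _ ((hf1 _).mp h1) with e | e
      · left
        calc c * t * c⁻¹ = c * t * c⁻¹ * t⁻¹ * t := by group
          _ = t := by rw [e, one_mul]
      · right
        calc c * t * c⁻¹ = c * t * c⁻¹ * t⁻¹ * t := by group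
          _ = z * t := by rw [e]
    have hN2 : IsPGroup 2 N := by
      intro c
      have hcc : (c : G) * (c : G) ∈ Subgroup.centralizer ({t} : Set G) := by
        rw [Subgroup.mem_centralizer_singleton_iff]
        rcases hNmem c c.2 with e | e
        · have h1 : (c : G) * t = t * c := by
            calc (c : G) * t = c * t * (c : G)⁻¹ * c := by group
              _ = t * c := by rw [e]
          rw [mul_assoc, h1, ← mul_assoc, h1, mul_assoc]
        · have h1 : (c : G) * t = z * t * c := by
            calc (c : G) * t = c * t * (c : G)⁻¹ * c := by group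
              _ = z * t * c := by rw [e]
          calc (c : G) * c * t = c * (c * t) := by group
            _ = c * (z * t * c) := by rw [h1]
            _ = c * z * t * c := by group
            _ = z * (c * t) * c := by rw [hzc c]; group
            _ = z * (z * t * c) * c := by rw [h1]
            _ = (z * z) * t * c * c := by group
            _ = t * (c * c) := by rw [h.z_sq]; group
      obtain ⟨k, hk⟩ := hC2 ⟨_, hcc⟩
      refine ⟨k + 1, ?_⟩
      have h1 : ((c : G) * c) ^ 2 ^ k = 1 := by
        have := congrArg Subtype.val hk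
        simpa using this
      apply Subtype.ext
      rw [Subgroup.coe_pow, Subgroup.coe_one, pow_succ, pow_mul', pow_two]
      exact h1
    obtain ⟨g, hgN⟩ := hconj N hN2
    constructor
    · refine ⟨⟨fun a b => Subtype.ext ?_⟩⟩
      obtain ⟨a', ha'⟩ := hsurj a.1
      obtain ⟨b', hb'⟩ := hsurj b.1
      have haN : a' ∈ N := by rw [hNdef, Subgroup.mem_comap, ha']; exact a.2
      have hbN : b' ∈ N := by rw [hNdef, Subgroup.mem_comap, hb']; exact b.2
      rw [Subgroup.coe_mul, Subgroup.coe_mul, ← ha', ← hb', ← map_mul, ← map_mul]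
      rcases h.comm_mod R (hgN a' haN) (hgN b' hbN) with e | e
      · have : a' * b' = b' * a' := by
          have : g * (a' * b') * g⁻¹ = g * (b' * a') * g⁻¹ := by
            calc g * (a' * b') * g⁻¹ = (g * a' * g⁻¹) * (g * b' * g⁻¹) := by group
              _ = (g * b' * g⁻¹) * (g * a' * g⁻¹) := e
              _ = g * (b' * a') * g⁻¹ := by group
          exact mul_left_cancel (mul_right_cancel this)
        rw [this]
      · have : a' * b' = z * (b' * a') := by
          have : g * (a' * b') * g⁻¹ = g * (z * (b' * a')) * g⁻¹ := by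
            calc g * (a' * b') * g⁻¹ = (g * a' * g⁻¹) * (g * b' * g⁻¹) := by group
              _ = z * ((g * b' * g⁻¹) * (g * a' * g⁻¹)) := e
              _ = z * g * (b' * a') * g⁻¹ := by group
              _ = g * (z * (b' * a')) * g⁻¹ := by rw [← hzc g]; group
          exact mul_left_cancel (mul_right_cancel this)
        rw [this, map_mul, (hf1 z).mpr (Subgroup.mem_zpowers z), one_mul]
    · intro c hc
      obtain ⟨c', rfl⟩ := hsurj c
      have hcN : c' ∈ N := hc
      rw [← map_pow, hf1, pow_two]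
      have h1 := h.sq_mem R (hgN c' hcN)
      have e : g * c' * g⁻¹ * (g * c' * g⁻¹) = g * (c' * c') * g⁻¹ := by group
      rw [e] at h1
      rcases h1 with e1 | e1
      · have : c' * c' = 1 := by
          calc c' * c' = g⁻¹ * (g * (c' * c') * g⁻¹) * g := by group
            _ = 1 := by rw [e1]; group
        rw [this]; exact Z.one_mem
      · have : c' * c' = z := by
          calc c' * c' = g⁻¹ * (g * (c' * c') * g⁻¹) * g := by group
            _ = g⁻¹ * z * g := by rw [e1]
            _ = z := by rw [hzc g⁻¹]; group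
        rw [this]; exact Subgroup.mem_zpowers z
  obtain ⟨F, hField, hFin, hFcard, ⟨e⟩⟩ := Cfsg.Agent.S1230.result T hnc hnn hC
  have hcardQ : Nat.card (G ⧸ Z) = 60 := by
    rw [Nat.card_congr e.toEquiv]
    have := @Cfsg.Agent.Lib.Helper2.DSub.card_psl_two F hField hFin
    rw [hFcard, hTcard] at this
    norm_num at this
    omega
  have := card_quotient_mul Z
  rw [hcardQ, h.card_zpowers_z] at this
  omega

end Good

end Cfsg.Agent.Lib.Helper2.Zfp
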