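import Cfsg.Agent.Lib.Helper2.Zfp32
import Cfsg.Agent.Lib.Helper1.DihedralIso
import Cfsg.Agent.S0848

set_option autoImplicit false
set_option linter.style.haveILetI false

/-!
# The case of a quaternion Sylow `2`-subgroup of order sixteen: the group has order `336` or `720`
-/

namespace Cfsg.Agent.Lib.Helper2.Zfp

open scoped Pointwise
open Cfsg.Agent.Lib.Lead Cfsg.Agent.Lib.Helper2.QuatSylow

universe u

variable {G : Type u} [Group G] [Finite G] {E : Type*} [Field E] [IsAlgClosed E] {M : Type*}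
  [AddCommGroup M] [Module E M] [FiniteDimensional E M] [Nontrivial M]

namespace Q8

variable {Q : Subgroup G} {z : G}

theorem not_mem_zpowers_of_sq (h : Q8 Q z) {u : G} (hu : u * u = z) :
    u ∉ Subgroup.zpowers z := by
  intro hm
  rcases h.mem_zpowers_z hm with e | e
  · rw [e, one_mul] at hu; exact h.z_ne hu.symm
  · rw [e, h.z_sq] at hu; exact h.z_ne hu.symm

end Q8

namespace Good

variable {Q₀ : Subgroup G} {z x : G}

/-- elements normalizing `⟨u⟩` for `u` of order four are `2`-elements -/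
theorem two_pow_of_conj (hg : Good Q₀ x) (h : Q8 Q₀ z) (R : Rep G E M) (p : ℕ) [Fact p.Prime]
    [CharP E p] (hperf : commutator G = ⊤)
    (IH : ∀ Y : Subgroup G, Y ≠ ⊤ → Nat.card (N3 Y) = 1 ∨ Nat.card (N3 Y) = 3 ∨
      Nat.card (N3 Y) = 24 ∨ Nat.card (N3 Y) = 120) {u c : G} (huz : u * u = z)
    (hc : c * u * c⁻¹ = u ∨ c * u * c⁻¹ = z * u) : ∃ k : ℕ, c ^ 2 ^ k = 1 := by
  have hzc : ∀ g : G, g * z = z * g := fun g => h.z_central R g
  have hC2 : IsPGroup 2 (Subgroup.centralizer ({u} : Set G)) :=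
    hg.isPGroup_centralizer_of_sq h R p hperf IH huz
  have hcc : c * c ∈ Subgroup.centralizer ({u} : Set G) := by
    rw [Subgroup.mem_centralizer_singleton_iff]
    rcases hc with e | e
    · have h1 : c * u = u * c := by
        calc c * u = c * u * c⁻¹ * c := by group
          _ = u * c := by rw [e]
      rw [mul_assoc, h1, ← mul_assoc, h1, mul_assoc]
    · have h1 : c * u = z * u * c := by
        calc c * u = c * u * c⁻¹ * c := by group
          _ = z * u * c := by rw [e]
      calc c * c * u = c * (c * u) := by group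
        _ = c * (z * u * c) := by rw [h1]
        _ = c * z * u * c := by group
        _ = z * (c * u) * c := by rw [hzc c]; group
        _ = z * (z * u * c) * c := by rw [h1]
        _ = (z * z) * u * c * c := by group
        _ = u * (c * c) := by rw [h.z_sq]; group
  obtain ⟨k, hk⟩ := hC2 ⟨_, hcc⟩
  refine ⟨k + 1, ?_⟩
  have h1 : (c * c) ^ 2 ^ k = 1 := by
    have := congrArg Subtype.val hk
    simpa using this
  rw [pow_succ, pow_mul', pow_two]
  exact h1

set_option maxHeartbeats 1600000 in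
/-- if the Sylow `2`-subgroups have order sixteen, the group has order `336` or `720` -/
theorem card_of_sixteen (hg : Good Q₀ x) (h : Q8 Q₀ z) (R : Rep G E M) (p : ℕ) [Fact p.Prime]
    [CharP E p] (hperf : commutator G = ⊤)
    (IH : ∀ Y : Subgroup G, Y ≠ ⊤ → Nat.card (N3 Y) = 1 ∨ Nat.card (N3 Y) = 3 ∨
      Nat.card (N3 Y) = 24 ∨ Nat.card (N3 Y) = 120) (P : Sylow 2 G) (hQP : Q₀ ≤ P)
    (h16 : Nat.card P = 16) : Nat.card G = 336 ∨ Nat.card G = 720 := by
  haveI : Fact (Nat.Prime 2) := ⟨Nat.prime_two⟩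
  have hzc : ∀ g : G, g * z = z * g := fun g => h.z_central R g
  set Z := Subgroup.zpowers z with hZ
  haveI hZn : Z.Normal := h.zpowers_normal R
  have hZQ : Z ≤ Q₀ := Subgroup.zpowers_le.mpr h.z_mem
  have hZP : Z ≤ (P : Subgroup G) := hZQ.trans hQP
  have hmemZ : ∀ g : G, g ∈ Z → g = 1 ∨ g = z := fun g hg => h.mem_zpowers_z hg
  set f := QuotientGroup.mk' Z with hf
  have hsurj : Function.Surjective f := QuotientGroup.mk'_surjective Z
  have hf1 : ∀ g : G, f g = 1 ↔ g ∈ Z := fun g => QuotientGroup.eq_one_iff g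
  have hfz : f z = 1 := (hf1 z).mpr (Subgroup.mem_zpowers z)
  -- quaternion data
  have hncP : ¬ IsCyclic (P : Subgroup G) := not_isCyclic_of_le hQP h.ncyc
  obtain ⟨n, α, β, hq0⟩ := R.exists_qdata P P.2 hncP
  have hn : n = 2 := by
    have h1 := hq0.card
    rw [h16] at h1
    have h2 : 2 ^ n = 2 ^ 2 := by omega
    exact Nat.pow_right_injective (le_refl 2) h2
  subst hn
  have hq : QData (P : Subgroup G) 4 α β := hq0
  have hα8 : α ^ 8 = 1 := hq.alpha_pow_two_m
  have hα4 : α ^ 4 = z := by
    apply R.involution_unique (hq.alpha_pow_m_ne_one (by norm_num)) _ h.z_ne h.z_sq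
    rw [← pow_add]; exact hα8
  set v := α ^ 2 with hv
  have hvv : v * v = z := by rw [hv, ← pow_add]; exact hα4
  have hββ : β * β = z := by rw [hq.sq, hα4]
  have hβα : (β * α) * (β * α) = z := by
    have := hq.sq_beta_mul 1
    rw [zpow_one] at this
    rw [this, hα4]
  have hvinv : v⁻¹ = z * v := by
    rw [inv_eq_iff_mul_eq_one, ← mul_assoc, hzc v, mul_assoc, hvv, h.z_sq]
  -- the preimage of the centralizer
  set N := (Subgroup.centralizer ({f v} : Set (G ⧸ Z))).comap f with hNdef
  have hNmem : ∀ c ∈ N, c * v * c⁻¹ = v ∨ c * v * c⁻¹ = z * v := by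
    intro c hc
    rw [hNdef, Subgroup.mem_comap, Subgroup.mem_centralizer_singleton_iff] at hc
    have h1 : f (c * v * c⁻¹ * v⁻¹) = 1 := by
      rw [map_mul, map_mul, map_mul, map_inv, map_inv, hc]; group
    rcases hmemZ _ ((hf1 _).mp h1) with e | e
    · left
      calc c * v * c⁻¹ = c * v * c⁻¹ * v⁻¹ * v := by group
        _ = v := by rw [e, one_mul]
    · right
      calc c * v * c⁻¹ = c * v * c⁻¹ * v⁻¹ * v := by group
        _ = z * v := by rw [e]
  have hN2 : IsPGroup 2 N := by
    intro c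
    obtain ⟨k, hk⟩ := hg.two_pow_of_conj h R p hperf IH hvv (hNmem c c.2)
    exact ⟨k, Subtype.ext (by simpa using hk)⟩
  have hPN : (P : Subgroup G) ≤ N := by
    intro s hs
    rw [hNdef, Subgroup.mem_comap, Subgroup.mem_centralizer_singleton_iff]
    obtain ⟨k, hk | hk⟩ := hq.cover' hs
    · rw [← map_mul, ← map_mul, hk, hv]
      congr 1
      exact ((Commute.refl α).zpow_left k).pow_right 2 |>.eq
    · have h1 : s * v * s⁻¹ = z * v := by
        rw [hk, ← hvinv, hv]
        calc β * α ^ k * α ^ 2 * (β * α ^ k)⁻¹ = β * α ^ (2 : ℤ) * β⁻¹ := by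
              rw [zpow_ofNat]; group
          _ = (α ^ 2)⁻¹ := by rw [hq.conj_zpow', zpow_neg, zpow_ofNat]
      have h2 : s * v = z * v * s := by
        calc s * v = s * v * s⁻¹ * s := by group
          _ = z * v * s := by rw [h1]
      rw [← map_mul, ← map_mul, h2, map_mul, map_mul, hfz, one_mul, map_mul]
  have hNP : N = (P : Subgroup G) := P.is_maximal' hN2 hPN
  have hcent : Subgroup.centralizer ({f v} : Set (G ⧸ Z)) = (P : Subgroup G).map f := by
    rw [← hNP, hNdef, Subgroup.map_comap_eq_self_of_surjective hsurj]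
  -- the dihedral structure
  have hvZ : v ∉ Z := h.not_mem_zpowers_of_sq hvv
  have hβZ : β ∉ Z := h.not_mem_zpowers_of_sq hββ
  have hβαZ : β * α ∉ Z := h.not_mem_zpowers_of_sq hβα
  have hord2 : ∀ t : G, t * t = z → orderOf (f t) = 2 := by
    intro t ht
    apply orderOf_eq_prime
    · rw [← map_pow, pow_two, ht, hfz]
    · intro e
      exact h.not_mem_zpowers_of_sq ht ((hf1 t).mp e)
  have hxy : f β * f (β * α) = f α := by
    rw [← map_mul, ← mul_assoc, hββ, map_mul, hfz, one_mul]
  have hord4 : orderOf (f β * f (β * α)) = 4 := by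
    rw [hxy]
    have := orderOf_eq_prime_pow (x := f α) (p := 2) (n := 1) ?_ ?_
    · simpa using this
    · rw [pow_one, ← map_pow]
      intro e
      exact hvZ ((hf1 _).mp e)
    · rw [← map_pow]
      have : (2 : ℕ) ^ (1 + 1) = 4 := by norm_num
      rw [this, hα4, hfz]
  obtain ⟨e0⟩ := Cfsg.Agent.Lib.Helper1.DihedralIso.closure_equiv_dihedral (f β) (f (β * α)) (hord2 β hββ)
    (hord2 _ hβα) (by rw [hord4]; norm_num)
  rw [hord4] at e0
  have hcl : Subgroup.closure ({f β, f (β * α)} : Set (G ⧸ Z)) = (P : Subgroup G).map f := by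
    apply Subgroup.eq_of_le_of_card_ge
    · rw [Subgroup.closure_le]
      rintro y (rfl | rfl)
      · exact Subgroup.mem_map_of_mem f hq.hβ
      · exact Subgroup.mem_map_of_mem f ((P : Subgroup G).mul_mem hq.hβ hq.hα)
    · rw [Nat.card_congr e0.toEquiv, DihedralGroup.nat_card]
      have h1 := card_map_mk_of_le Z (P : Subgroup G) hZP
      have h2 : Nat.card Z = 2 := h.card_zpowers_z
      rw [h2, h16] at h1
      change Nat.card ((P : Subgroup G).map (QuotientGroup.mk' Z)) ≤ 2 * 4
      omega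
  have e1 : Subgroup.centralizer ({f v} : Set (G ⧸ Z)) ≃* DihedralGroup 4 :=
    (MulEquiv.subgroupCongr (hcent.trans hcl.symm)).trans e0
  have hperfb : commutator (G ⧸ Z) = ⊤ := perfect_of_surjective hperf f hsurj
  have hcardQ := Cfsg.Agent.S0848.result hperfb (f v) (hord2 v hvv) e1
  have hcard := card_quotient_mul Z
  have h2 : Nat.card Z = 2 := h.card_zpowers_z
  rw [h2] at hcard
  rcases hcardQ with e | e
  · left; rw [e] at hcard; omega
  · right; rw [e] at hcard; omega

end Good

end Cfsg.Agent.Lib.Helper2.Zfp
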