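import Cfsg.Agent.Lib.Helper2.Zfp33

set_option autoImplicit false
set_option linter.style.haveILetI false

/-!
# Excluding the order `336`
-/

namespace Cfsg.Agent.Lib.Helper2.Zfp

open scoped Pointwise
open Cfsg.Agent.Lib.Lead

universe u

variable {G : Type u} [Group G] [Finite G] {E : Type*} [Field E] [IsAlgClosed E] {M : Type*}
  [AddCommGroup M] [Module E M] [FiniteDimensional E M] [Nontrivial M]

theorem card_sylow_of_eq (q k m : ℕ) [hq : Fact q.Prime] (hG : Nat.card G = q ^ k * m)
    (hm : ¬ q ∣ m) (S : Sylow q G) : Nat.card S = q ^ k := by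
  rw [Sylow.card_eq_multiplicity, hG]
  have hm0 : m ≠ 0 := by rintro rfl; exact hm (dvd_zero q)
  rw [Nat.factorization_mul (pow_ne_zero k hq.out.ne_zero) hm0,
    Nat.Prime.factorization_pow hq.out]
  simp [Nat.factorization_eq_zero_of_not_dvd hm]

/-- Burnside: a perfect group has no non-trivial cyclic Sylow subgroup central in its
normalizer -/
theorem card_eq_one_of_burnside (hperf : commutator G = ⊤) {q : ℕ} [Fact q.Prime] (S : Sylow q G)
    (hcyc : IsCyclic (S : Subgroup G))
    (hNC : Subgroup.normalizer ((S : Subgroup G) : Set G) ≤ Subgroup.centralizer (S : Set G)) :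
    Nat.card (S : Subgroup G) = 1 := by
  have hcompl := MonoidHom.ker_transferSylow_isComplement' S hNC
  haveI : Group.IsSolvable (S : Subgroup G) :=
    Group.isSolvable_of_comm (fun a b => Subtype.ext (commute_of_isCyclic _ hcyc a.2 b.2))
  have hker := ker_eq_top_of_perfect hperf (MonoidHom.transferSylow S hNC)
  have h1 := hcompl.card_mul_card
  rw [hker, Subgroup.card_top] at h1
  have hpos : 0 < Nat.card G := Nat.card_pos
  have : Nat.card G * Nat.card (S : Subgroup G) = Nat.card G * 1 := by rw [h1, mul_one]
  exact Nat.eq_of_mul_eq_mul_left hpos this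

/-- a perfect group has either one or at least five Sylow `q`-subgroups -/
theorem card_sylow_eq_one_of_le_four (hperf : commutator G = ⊤) {q : ℕ} [Fact q.Prime]
    (hle : Nat.card (Sylow q G) ≤ 4) : Nat.card (Sylow q G) = 1 := by
  haveI : Group.IsSolvable (Equiv.Perm (Sylow q G)) := by
    apply Cfsg.Agent.Lib.Helper8.isSolvable_of_card_dvd_24
    rw [Nat.card_perm]
    have hpos : 0 < Nat.card (Sylow q G) := Nat.card_pos
    interval_cases (Nat.card (Sylow q G)) <;> decide
  have hker := ker_eq_top_of_perfect hperf (MulAction.toPermHom G (Sylow q G))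
  obtain ⟨S⟩ : Nonempty (Sylow q G) := inferInstance
  have hall : ∀ S' : Sylow q G, S' = S := by
    intro S'
    obtain ⟨g, hg⟩ := MulAction.exists_smul_eq G S S'
    have hgk : g ∈ (MulAction.toPermHom G (Sylow q G)).ker := by rw [hker]; trivial
    rw [MonoidHom.mem_ker] at hgk
    have h2 : (MulAction.toPermHom G (Sylow q G) g) S = S := by rw [hgk]; rfl
    rw [← hg]
    exact h2
  haveI : Subsingleton (Sylow q G) := ⟨fun a b => (hall a).trans (hall b).symm⟩
  exact Nat.card_of_subsingleton S

namespace Q8

variable {Q : Subgroup G} {z : G}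

/-- central subgroups have order at most two -/
theorem card_le_two_of_le_center (h : Q8 Q z) (R : Rep G E M) (hperf : commutator G = ⊤)
    (K : Subgroup G) (hK : K ≤ Subgroup.center G) : Nat.card K ≤ 2 := by
  have h1 : K ≤ Subgroup.zpowers z := by
    intro c hc
    rcases R.center_le hperf h c (hK hc) with e | e
    · rw [e]; exact Subgroup.one_mem _
    · rw [e]; exact Subgroup.mem_zpowers z
  calc Nat.card K ≤ Nat.card (Subgroup.zpowers z) := Subgroup.card_le_of_le h1
    _ = 2 := h.card_zpowers_z

/-- a Sylow subgroup of order larger than two is not normal -/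
theorem not_normal_sylow (h : Q8 Q z) (R : Rep G E M) (hN : N3 G = ⊤) (hperf : commutator G = ⊤)
    {q : ℕ} [Fact q.Prime] (S : Sylow q G) (h2 : 2 < Nat.card (S : Subgroup G))
    (hlt : Nat.card (S : Subgroup G) < Nat.card G) : Nat.card (Sylow q G) ≠ 1 := by
  intro h1
  have hidx : (Subgroup.normalizer ((S : Subgroup G) : Set G)).index = 1 := by
    have := S.card_eq_index_normalizer
    rw [h1] at this
    exact this.symm
  have htop : Subgroup.normalizer ((S : Subgroup G) : Set G) = ⊤ := Subgroup.index_eq_one.mp hidx
  haveI hn : (S : Subgroup G).Normal := Subgroup.normalizer_eq_top_iff.mp htop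
  have hne : (S : Subgroup G) ≠ ⊤ := by
    intro e
    rw [e, Subgroup.card_top] at hlt
    exact lt_irrefl _ hlt
  have hcen := R.normal_le_center hN hperf (S : Subgroup G) hne
  have := h.card_le_two_of_le_center R hperf _ hcen
  omega

end Q8

namespace Good

variable {Q₀ : Subgroup G} {z x : G}

set_option maxHeartbeats 800000 in
theorem not_card_336 (h : Q8 Q₀ z) (R : Rep G E M) (hN : N3 G = ⊤)
    (hperf : commutator G = ⊤) (hcard : Nat.card G = 336) : False := by
  haveI : Fact (Nat.Prime 7) := ⟨by norm_num⟩
  obtain ⟨S⟩ : Nonempty (Sylow 7 G) := inferInstance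
  have hS : Nat.card (S : Subgroup G) = 7 := by
    have := card_sylow_of_eq 7 1 48 (by rw [hcard]; norm_num) (by norm_num) S
    simpa using this
  have hcyc : IsCyclic (S : Subgroup G) := by
    haveI : Fact (Nat.Prime 7) := ⟨by norm_num⟩
    exact isCyclic_of_prime_card hS
  have h1 : Nat.card (Sylow 7 G) % 7 = 1 := card_sylow_modEq_one 7 G
  have h2 : Nat.card (Sylow 7 G) ∣ (S : Subgroup G).index := S.card_dvd_index
  have hidx : (S : Subgroup G).index = 48 := by
    have := (S : Subgroup G).card_mul_index; rw [hS, hcard] at this; omega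
  have h3 : Nat.card (Sylow 7 G) = (Subgroup.normalizer ((S : Subgroup G) : Set G)).index :=
    S.card_eq_index_normalizer
  have hn : Nat.card (Sylow 7 G) = 1 ∨ Nat.card (Sylow 7 G) = 8 := by
    have key : ∀ d ∈ Nat.divisors 48, d % 7 = 1 → d = 1 ∨ d = 8 := by decide
    exact key _ (Nat.mem_divisors.mpr ⟨hidx ▸ h2, by norm_num⟩) h1
  rcases hn with hn | hn
  · exact h.not_normal_sylow R hN hperf S (by rw [hS]; norm_num) (by rw [hS, hcard]; norm_num) hn
  · have hNcard : Nat.card (Subgroup.normalizer ((S : Subgroup G) : Set G)) = 42 := by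
      have := (Subgroup.normalizer ((S : Subgroup G) : Set G)).card_mul_index
      rw [← h3, hn, hcard] at this; omega
    have hNC : Subgroup.normalizer ((S : Subgroup G) : Set G) ≤ Subgroup.centralizer (S : Set G) := by
      intro g hgN
      have hg42 : g ^ 42 = 1 := by
        have := pow_card_eq_one' (G := Subgroup.normalizer ((S : Subgroup G) : Set G)) (x := ⟨g, hgN⟩)
        rw [hNcard] at this
        have := congrArg Subtype.val this
        simpa using this
      have hmem : ∀ (a r : ℕ), r.Prime → a * r = 42 →
          g ^ a ∈ Subgroup.centralizer ((S : Subgroup G) : Set G) := by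
        intro a r hr har
        have hx : (g ^ a) ^ r = 1 := by rw [← pow_mul, har, hg42]
        have hxN : g ^ a ∈ Subgroup.normalizer ((S : Subgroup G) : Set G) :=
          Subgroup.pow_mem _ hgN a
        have := R.centralizes_cyclic hr hx (S : Subgroup G) hcyc hxN
        rw [Subgroup.mem_centralizer_iff]
        intro s hs
        exact (this s hs).symm
      have h21 := hmem 21 2 Nat.prime_two (by norm_num)
      have h14 := hmem 14 3 Nat.prime_three (by norm_num)
      have h6 := hmem 6 7 (by norm_num) (by norm_num)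
      have e : g = g ^ 21 * (g ^ 14)⁻¹ * (g ^ 6)⁻¹ := by group
      rw [e]
      exact Subgroup.mul_mem _ (Subgroup.mul_mem _ h21 (Subgroup.inv_mem _ h14))
        (Subgroup.inv_mem _ h6)
    have := card_eq_one_of_burnside hperf S hcyc hNC
    rw [hS] at this
    norm_num at this

end Good

end Cfsg.Agent.Lib.Helper2.Zfp
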