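import Cfsg.Agent.Lib.Helper2.Zfp34

set_option autoImplicit false
set_option linter.style.haveILetI false

/-!
# Excluding the order `720`
-/

namespace Cfsg.Agent.Lib.Helper2.Zfp

open scoped Pointwise
open Cfsg.Agent.Lib.Lead

universe u

variable {G : Type u} [Group G] [Finite G] {E : Type*} [Field E] [IsAlgClosed E] {M : Type*}
  [AddCommGroup M] [Module E M] [FiniteDimensional E M] [Nontrivial M]

/-- a `2`-subgroup of order eight normalizing `⟨s⟩`, with `s` of order three, contains an element
of order four centralizing `s` -/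
theorem Rep.exists_order_four_commute (R : Rep G E M) {z s : G} (hz1 : z ≠ 1) (hz2 : z * z = 1)
    (hs3 : s ^ 3 = 1) (hs1 : s ≠ 1) (T : Subgroup G) (hT : Nat.card T = 8)
    (hTs : ∀ t ∈ T, t * s * t⁻¹ ∈ Subgroup.zpowers s) :
    ∃ u ∈ T, u * u = z ∧ u * s = s * u := by
  -- every element centralizes or inverts
  have hCI : ∀ t ∈ T, t * s = s * t ∨ t * s * t⁻¹ = s⁻¹ := by
    intro t ht
    obtain ⟨k, hk⟩ := Subgroup.mem_zpowers_iff.mp (hTs t ht)
    have hs3' : s ^ (3 : ℤ) = 1 := by
      rw [show (3 : ℤ) = ((3 : ℕ) : ℤ) from rfl, zpow_natCast, hs3]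
    have hk' : s ^ k = s ^ (k % 3) := by
      conv_lhs => rw [← Int.mul_ediv_add_emod k 3]
      rw [zpow_add, zpow_mul, hs3', one_zpow, one_mul]
    have h3 : k % 3 = 0 ∨ k % 3 = 1 ∨ k % 3 = 2 := by omega
    rcases h3 with e | e | e
    · exfalso
      rw [hk', e, zpow_zero] at hk
      apply hs1
      calc s = t⁻¹ * (t * s * t⁻¹) * t := by group
        _ = 1 := by rw [← hk]; group
    · left
      rw [hk', e, zpow_one] at hk
      calc t * s = t * s * t⁻¹ * t := by group
        _ = s * t := by rw [← hk]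
    · right
      rw [hk', e] at hk
      rw [← hk, eq_inv_iff_mul_eq_one]
      calc s ^ (2 : ℤ) * s = s ^ (3 : ℤ) := by
            rw [show (3 : ℤ) = 2 + 1 from rfl, zpow_add, zpow_one]
        _ = 1 := hs3'
  have hII : ∀ a b : G, a * s * a⁻¹ = s⁻¹ → b * s * b⁻¹ = s⁻¹ → (a * b) * s = s * (a * b) := by
    intro a b ha hb
    have h1 : b * s = s⁻¹ * b := by
      calc b * s = b * s * b⁻¹ * b := by group
        _ = s⁻¹ * b := by rw [hb]
    have h2 : a * s⁻¹ = s * a := by
      have : a * s⁻¹ * a⁻¹ = s := by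
        calc a * s⁻¹ * a⁻¹ = (a * s * a⁻¹)⁻¹ := by group
          _ = s := by rw [ha, inv_inv]
      calc a * s⁻¹ = a * s⁻¹ * a⁻¹ * a := by group
        _ = s * a := by rw [this]
    calc a * b * s = a * (b * s) := by group
      _ = a * (s⁻¹ * b) := by rw [h1]
      _ = a * s⁻¹ * b := by group
      _ = s * a * b := by rw [h2]
      _ = s * (a * b) := by group
  have hsq : ∀ a : G, (a * s = s * a ∨ a * s * a⁻¹ = s⁻¹) → (a * a) * s = s * (a * a) := by
    intro a ha
    rcases ha with e | e
    · rw [mul_assoc, e, ← mul_assoc, e, mul_assoc]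
    · exact hII a a e e
  by_cases hcyc : IsCyclic T
  · obtain ⟨g, hgen⟩ := hcyc.exists_generator
    have hord : orderOf g = 8 := by
      rw [orderOf_eq_card_of_forall_mem_zpowers hgen, hT]
    have hordG : orderOf (g : G) = 8 := by rw [Subgroup.orderOf_coe, hord]
    refine ⟨(g : G) * g, T.mul_mem g.2 g.2, ?_, hsq _ (hCI _ g.2)⟩
    apply R.involution_unique _ _ hz1 hz2
    · intro e
      have : orderOf (g : G) ∣ 4 := by
        apply orderOf_dvd_of_pow_eq_one
        calc (g : G) ^ 4 = (g : G) * g * ((g : G) * g) := by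
              generalize (g : G) = w; simp only [pow_succ, pow_zero, one_mul, mul_assoc]
          _ = 1 := e
      rw [hordG] at this
      norm_num at this
    · calc (g : G) * g * ((g : G) * g) * ((g : G) * g * ((g : G) * g)) = (g : G) ^ 8 := by
            generalize (g : G) = w; simp only [pow_succ, pow_zero, one_mul, mul_assoc]
        _ = 1 := by rw [← hordG]; exact pow_orderOf_eq_one _
  · obtain ⟨z', hQ⟩ := exists_Q8 T hT hcyc
    have hz' : z' = z := R.involution_unique hQ.z_ne hQ.z_sq hz1 hz2
    rw [hz'] at hQ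
    obtain ⟨t, ht, htz⟩ := hQ.exists_order_four R
    obtain ⟨s', hs', hs't⟩ := hQ.exists_not_mem ht
    have hs'z : s' * s' = z := hQ.sq_of_not_mem R hs' htz hs't
    rcases hCI t ht with e1 | e1
    · exact ⟨t, ht, htz, e1⟩
    rcases hCI s' hs' with e2 | e2
    · exact ⟨s', hs', hs'z, e2⟩
    refine ⟨t * s', T.mul_mem ht hs', ?_, hII t s' e1 e2⟩
    apply hQ.sq_eq R (T.mul_mem ht hs')
    · intro e
      apply hs't
      have : s' = t⁻¹ := by
        calc s' = t⁻¹ * (t * s') := by group
          _ = t⁻¹ := by rw [e, mul_one]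
      rw [this]
      exact Subgroup.inv_mem _ (Subgroup.mem_zpowers t)
    · intro e
      apply hs't
      have : s' = t := by
        calc s' = t⁻¹ * (t * s') := by group
          _ = t⁻¹ * (t * t) := by rw [e, htz]
          _ = t := by group
      rw [this]
      exact Subgroup.mem_zpowers t

namespace Good

variable {Q₀ : Subgroup G} {z x : G}

set_option maxHeartbeats 1600000 in
theorem not_card_720 (hg : Good Q₀ x) (h : Q8 Q₀ z) (R : Rep G E M) (p : ℕ) [Fact p.Prime]
    [CharP E p] (hN : N3 G = ⊤) (hperf : commutator G = ⊤)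
    (IH : ∀ Y : Subgroup G, Y ≠ ⊤ → Nat.card (N3 Y) = 1 ∨ Nat.card (N3 Y) = 3 ∨
      Nat.card (N3 Y) = 24 ∨ Nat.card (N3 Y) = 120) (hcard : Nat.card G = 720) : False := by
  haveI : Fact (Nat.Prime 3) := ⟨Nat.prime_three⟩
  haveI : Fact (Nat.Prime 2) := ⟨Nat.prime_two⟩
  have hzc : ∀ g : G, g * z = z * g := fun g => h.z_central R g
  obtain ⟨S⟩ : Nonempty (Sylow 3 G) := inferInstance
  have hS : Nat.card (S : Subgroup G) = 9 := by
    have := card_sylow_of_eq 3 2 80 (by rw [hcard]; norm_num) (by norm_num) S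
    simpa using this
  have hcyc : IsCyclic (S : Subgroup G) := by
    rcases R.pgroup_structure 3 (S : Subgroup G) S.2 with hc | ⟨h32, -⟩
    · exact hc
    · norm_num at h32
  have h1 : Nat.card (Sylow 3 G) % 3 = 1 := card_sylow_modEq_one 3 G
  have h2 : Nat.card (Sylow 3 G) ∣ (S : Subgroup G).index := S.card_dvd_index
  have hidx : (S : Subgroup G).index = 80 := by
    have := (S : Subgroup G).card_mul_index; rw [hS, hcard] at this; omega
  have h3 : Nat.card (Sylow 3 G) = (Subgroup.normalizer ((S : Subgroup G) : Set G)).index :=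
    S.card_eq_index_normalizer
  have hn : Nat.card (Sylow 3 G) = 1 ∨ Nat.card (Sylow 3 G) = 4 ∨ Nat.card (Sylow 3 G) = 10 ∨
      Nat.card (Sylow 3 G) = 16 ∨ Nat.card (Sylow 3 G) = 40 := by
    have key : ∀ d ∈ Nat.divisors 80, d % 3 = 1 → d = 1 ∨ d = 4 ∨ d = 10 ∨ d = 16 ∨ d = 40 := by
      decide
    exact key _ (Nat.mem_divisors.mpr ⟨hidx ▸ h2, by norm_num⟩) h1
  have hNcard := (Subgroup.normalizer ((S : Subgroup G) : Set G)).card_mul_index
  rw [← h3, hcard] at hNcard
  have hzN : z ∈ Subgroup.normalizer ((S : Subgroup G) : Set G) := by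
    apply Subgroup.mem_normalizer_fintype
    intro c hc
    have e : z * c * z⁻¹ = c := by rw [← hzc c]; group
    rw [e]; exact hc
  have hSN : (S : Subgroup G) ≤ Subgroup.normalizer ((S : Subgroup G) : Set G) :=
    Subgroup.le_normalizer
  rcases hn with hn | hn | hn | hn | hn
  · exact h.not_normal_sylow R hN hperf S (by rw [hS]; norm_num) (by rw [hS, hcard]; norm_num) hn
  · have := card_sylow_eq_one_of_le_four hperf (q := 3) (G := G) (by rw [hn])
    rw [hn] at this
    norm_num at this
  · -- the normalizer has order `72`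
    rw [hn] at hNcard
    have hN72 : Nat.card (Subgroup.normalizer ((S : Subgroup G) : Set G)) = 72 := by omega
    obtain ⟨K, hK⟩ := Sylow.exists_subgroup_card_pow_prime 2
      (G := Subgroup.normalizer ((S : Subgroup G) : Set G)) (n := 3) (by rw [hN72]; norm_num)
    set T := K.map (Subgroup.normalizer ((S : Subgroup G) : Set G)).subtype with hTdef
    have hT8 : Nat.card T = 8 := by
      rw [hTdef, card_map_subtype, hK]; norm_num
    have hTN : T ≤ Subgroup.normalizer ((S : Subgroup G) : Set G) := Subgroup.map_subtype_le K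
    obtain ⟨s₃, hs₃⟩ := exists_prime_orderOf_dvd_card' (G := (S : Subgroup G)) 3
      (by rw [hS]; norm_num)
    have hs3 : (s₃ : G) ^ 3 = 1 := by
      have : s₃ ^ 3 = 1 := by
        have h0 := pow_orderOf_eq_one s₃
        rwa [hs₃] at h0
      have := congrArg Subtype.val this
      simpa using this
    have hs1 : (s₃ : G) ≠ 1 := by
      intro e
      have : s₃ = 1 := Subtype.ext e
      rw [this, orderOf_one] at hs₃
      norm_num at hs₃
    have hTs : ∀ t ∈ T, t * (s₃ : G) * t⁻¹ ∈ Subgroup.zpowers (s₃ : G) := by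
      intro t ht
      have hmem : t * (s₃ : G) * t⁻¹ ∈ (S : Subgroup G) :=
        (Subgroup.mem_normalizer_iff.mp (hTN ht) _).mp s₃.2
      apply R.mem_zpowers_of_commute_prime Nat.prime_three hs3 hs1
      · rw [conj_pow, hs3]; group
      · exact commute_of_isCyclic _ hcyc hmem s₃.2
    obtain ⟨u, -, huz, hus⟩ := R.exists_order_four_commute h.z_ne h.z_sq hs3 hs1 T hT8 hTs
    have hC2 := hg.isPGroup_centralizer_of_sq h R p hperf IH huz
    have hsC : (s₃ : G) ∈ Subgroup.centralizer ({u} : Set G) := by
      rw [Subgroup.mem_centralizer_singleton_iff]; exact hus.symm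
    obtain ⟨k, hk⟩ := hC2 ⟨_, hsC⟩
    have hk' : (s₃ : G) ^ 2 ^ k = 1 := by
      have := congrArg Subtype.val hk
      simpa using this
    have hord : orderOf (s₃ : G) = 3 := orderOf_eq_prime hs3 hs1
    have hdvd : 3 ∣ 2 ^ k := by rw [← hord]; exact orderOf_dvd_of_pow_eq_one hk'
    have := Nat.Prime.dvd_of_dvd_pow Nat.prime_three hdvd
    norm_num at this
  · rw [hn] at hNcard
    have hN45 : Nat.card (Subgroup.normalizer ((S : Subgroup G) : Set G)) = 45 := by omega
    have hord : orderOf (⟨z, hzN⟩ : Subgroup.normalizer ((S : Subgroup G) : Set G)) = 2 := by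
      apply orderOf_eq_prime
      · apply Subtype.ext
        rw [Subgroup.coe_pow, pow_two]
        exact h.z_sq
      · intro e
        exact h.z_ne (congrArg Subtype.val e)
    have := orderOf_dvd_natCard (⟨z, hzN⟩ : Subgroup.normalizer ((S : Subgroup G) : Set G))
    rw [hord, hN45] at this
    norm_num at this
  · rw [hn] at hNcard
    have hN18 : Nat.card (Subgroup.normalizer ((S : Subgroup G) : Set G)) = 18 := by omega
    have hNC : Subgroup.normalizer ((S : Subgroup G) : Set G) ≤
        Subgroup.centralizer (S : Set G) := by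
      intro g hgN
      have hg18 : g ^ 18 = 1 := by
        have := pow_card_eq_one' (G := Subgroup.normalizer ((S : Subgroup G) : Set G))
          (x := ⟨g, hgN⟩)
        rw [hN18] at this
        have := congrArg Subtype.val this
        simpa using this
      have h9 : g ^ 9 ∈ Subgroup.centralizer ((S : Subgroup G) : Set G) := by
        have hx : (g ^ 9) ^ 2 = 1 := by rw [← pow_mul]; exact hg18
        have hxN : g ^ 9 ∈ Subgroup.normalizer ((S : Subgroup G) : Set G) :=
          Subgroup.pow_mem _ hgN 9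
        have := R.centralizes_cyclic Nat.prime_two hx (S : Subgroup G) hcyc hxN
        rw [Subgroup.mem_centralizer_iff]
        intro s hs
        exact (this s hs).symm
      have h2' : g ^ 2 ∈ Subgroup.centralizer ((S : Subgroup G) : Set G) := by
        have hp3 : IsPGroup 3 (Subgroup.zpowers (g ^ 2)) := by
          apply isPGroup_zpowers (k := 2)
          rw [← pow_mul]; exact hg18
        have hmem : g ^ 2 ∈ Subgroup.zpowers (g ^ 2) ⊓ (S : Subgroup G) := by
          rw [← hp3.inf_normalizer_sylow S]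
          exact ⟨Subgroup.mem_zpowers _, Subgroup.pow_mem _ hgN 2⟩
        rw [Subgroup.mem_centralizer_iff]
        intro s hs
        exact commute_of_isCyclic _ hcyc hs hmem.2
      have e : g = g ^ 9 * ((g ^ 2) ^ 4)⁻¹ := by group
      rw [e]
      exact Subgroup.mul_mem _ h9 (Subgroup.inv_mem _ (Subgroup.pow_mem _ h2' 4))
    have := card_eq_one_of_burnside hperf S hcyc hNC
    rw [hS] at this
    norm_num at this

end Good

end Cfsg.Agent.Lib.Helper2.Zfp
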