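import Cfsg.Agent.Lib.Helper2.Zfp35
import Cfsg.Agent.Lib.Lead.SL23R1

set_option autoImplicit false
set_option linter.style.haveILetI false

/-!
# From a `T3` configuration to a good quaternion subgroup; the endgame
-/

namespace Cfsg.Agent.Lib.Helper2.Zfp

open scoped Pointwise
open Cfsg.Agent.Lib.Lead

universe u

variable {G : Type u} [Group G] [Finite G] {E : Type*} [Field E] [IsAlgClosed E] {M : Type*}
  [AddCommGroup M] [Module E M] [FiniteDimensional E M] [Nontrivial M]

/-- an element conjugating generators into the closure normalizes the closure -/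
theorem mem_normalizer_closure {S : Set G} {x : G}
    (h : ∀ g ∈ S, x * g * x⁻¹ ∈ Subgroup.closure S) :
    x ∈ Subgroup.normalizer ((Subgroup.closure S : Subgroup G) : Set G) := by
  apply Subgroup.mem_normalizer_fintype
  intro c hc
  have hle : Subgroup.closure S ≤ (Subgroup.closure S).comap (MulAut.conj x).toMonoidHom := by
    rw [Subgroup.closure_le]
    intro g hg
    exact h g hg
  exact hle hc

namespace T3

variable {t s x : G}

set_option maxHeartbeats 800000 in
theorem exists_good (hT : T3 t s x) (R : Rep G E M) :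
    ∃ (Q₀ : Subgroup G) (z : G), Q8 Q₀ z ∧ Good Q₀ x ∧ Q₀ = Subgroup.closure {t, s} := by
  have ht4 : t ^ (2 * 2) = 1 := hT.t4
  have hss : s * s = t * t := hT.ss R
  have hs2 : s ^ 2 = t ^ 2 := by rw [pow_two, pow_two, hss]
  have hord : orderOf t = 4 := by
    have := orderOf_eq_prime_pow (x := t) (p := 2) (n := 1) ?_ ?_
    · simpa using this
    · rw [pow_one, pow_two]; exact hT.t2
    · exact hT.t4
  have hst : s ∉ Subgroup.zpowers t := by
    intro hm
    obtain ⟨k, hk⟩ := Subgroup.mem_zpowers_iff.mp hm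
    have hc : s * t = t * s := by
      rw [← hk]; exact ((Commute.refl t).zpow_left k).eq
    have h1 : t⁻¹ = t := by
      rw [← hT.inv, hc]; group
    apply hT.t2
    calc t * t = t⁻¹ * t := by rw [h1]
      _ = 1 := inv_mul_cancel t
  set φ := SL23R.quatLift 2 t s ht4 hs2 hT.inv with hφ
  have hφt : φ (QuaternionGroup.a 1) = t := SL23R.quatLift_a_one 2 t s ht4 hs2 hT.inv
  have hφs : φ (QuaternionGroup.xa 0) = s := SL23R.quatLift_xa_zero 2 t s ht4 hs2 hT.inv
  set Q₀ := Subgroup.closure ({t, s} : Set G) with hQ₀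
  have htQ : t ∈ Q₀ := Subgroup.subset_closure (by simp)
  have hsQ : s ∈ Q₀ := Subgroup.subset_closure (by simp)
  have hle : Q₀ ≤ φ.range := by
    rw [hQ₀, Subgroup.closure_le]
    rintro g (rfl | rfl)
    · exact ⟨_, hφt⟩
    · exact ⟨_, hφs⟩
  have hdvd8 : Nat.card Q₀ ∣ 8 := by
    have h1 := Subgroup.card_dvd_of_le hle
    have h2 := Subgroup.card_range_dvd φ
    have h3 : Nat.card (QuaternionGroup 2) = 8 := by
      rw [Nat.card_eq_fintype_card, QuaternionGroup.card]
    rw [h3] at h2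
    exact h1.trans h2
  have htle : Subgroup.zpowers t ≤ Q₀ := Subgroup.zpowers_le.mpr htQ
  have h4dvd : 4 ∣ Nat.card Q₀ := by
    have := Subgroup.card_dvd_of_le htle
    rwa [Nat.card_zpowers, hord] at this
  have hne4 : Nat.card Q₀ ≠ 4 := by
    intro e
    have : Subgroup.zpowers t = Q₀ :=
      Subgroup.eq_of_le_of_card_ge htle (by rw [e, Nat.card_zpowers, hord])
    exact hst (this ▸ hsQ)
  have hcard : Nat.card Q₀ = 8 := by
    obtain ⟨k, hk⟩ := h4dvd
    have hle8 : Nat.card Q₀ ≤ 8 := Nat.le_of_dvd (by norm_num) hdvd8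
    have hpos : 0 < Nat.card Q₀ := Nat.card_pos
    have hk12 : k = 1 ∨ k = 2 := by omega
    rcases hk12 with e | e
    · rw [e] at hk; omega
    · rw [e] at hk; omega
  have hnc : ¬ IsCyclic Q₀ := by
    intro hc
    have hcomm := commute_of_isCyclic Q₀ hc hsQ htQ
    have h1 : t⁻¹ = t := by
      rw [← hT.inv, hcomm]; group
    apply hT.t2
    calc t * t = t⁻¹ * t := by rw [h1]
      _ = 1 := inv_mul_cancel t
  have hzQ : t * t ∈ Q₀ := Q₀.mul_mem htQ htQ
  refine ⟨Q₀, t * t, ⟨hcard, hnc, hzQ, hT.t2, hT.tt_sq⟩, ⟨hT.x3, hT.x1, ?_, ?_⟩, rfl⟩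
  · apply mem_normalizer_closure
    rintro g (rfl | rfl)
    · rw [hT.hs]; exact hsQ
    · rcases hT.hts with e | e
      · rw [e]; exact Q₀.mul_mem htQ hsQ
      · rw [e]; exact Q₀.mul_mem hzQ (Q₀.mul_mem htQ hsQ)
  · intro hall
    have h1 := hall t htQ
    apply hst
    have : s = t := by
      rw [← hT.hs, h1]; group
    rw [this]
    exact Subgroup.mem_zpowers t

end T3

namespace Good

variable {Q₀ : Subgroup G} {z x : G}

/-- the endgame: in the minimal perfect situation the group has order `120` -/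
theorem card_eq_120 (hg : Good Q₀ x) (h : Q8 Q₀ z) (R : Rep G E M) (p : ℕ) [Fact p.Prime]
    [CharP E p] (hN : N3 G = ⊤) (hperf : commutator G = ⊤)
    (IH : ∀ Y : Subgroup G, Y ≠ ⊤ → Nat.card (N3 Y) = 1 ∨ Nat.card (N3 Y) = 3 ∨
      Nat.card (N3 Y) = 24 ∨ Nat.card (N3 Y) = 120) : Nat.card G = 120 := by
  haveI : Fact (Nat.Prime 2) := ⟨Nat.prime_two⟩
  obtain ⟨P, hP⟩ := h.isPGroup.exists_le_sylow
  rcases hg.card_two_group h R p P P.2 hP with h8 | h16
  · exact hg.card_of_eight h R p hN hperf IH P hP h8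
  · exfalso
    rcases hg.card_of_sixteen h R p hperf IH P hP h16 with e | e
    · exact not_card_336 h R hN hperf e
    · exact hg.not_card_720 h R p hN hperf IH e

end Good

end Cfsg.Agent.Lib.Helper2.Zfp
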