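import Cfsg.Agent.Lib.Helper2.Zfp36

set_option autoImplicit false
set_option linter.style.haveILetI false

/-!
# The subgroup generated by the elements of order three has order `1`, `3`, `24` or `120`
-/

namespace Cfsg.Agent.Lib.Helper2.Zfp

open scoped Pointwise
open Cfsg.Agent.Lib.Lead

universe u

variable {E : Type*} [Field E] [IsAlgClosed E] {M : Type*}
  [AddCommGroup M] [Module E M] [FiniteDimensional E M] [Nontrivial M]

set_option maxHeartbeats 800000 in
theorem theoremA (p : ℕ) [Fact p.Prime] [CharP E p] (n : ℕ) :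
    ∀ (G : Type u) [Group G] [Finite G] (_ : Rep G E M), Nat.card G = n →
      Nat.card (N3 G) = 1 ∨ Nat.card (N3 G) = 3 ∨ Nat.card (N3 G) = 24 ∨
        Nat.card (N3 G) = 120 := by
  induction n using Nat.strong_induction_on with
  | _ n ih =>
  intro G _ _ R hn
  have IH : ∀ Y : Subgroup G, Y ≠ ⊤ → Nat.card (N3 Y) = 1 ∨ Nat.card (N3 Y) = 3 ∨
      Nat.card (N3 Y) = 24 ∨ Nat.card (N3 Y) = 120 := by
    intro Y hY
    have hlt : Nat.card Y < n := by
      rw [← hn]
      apply lt_of_le_of_ne (Subgroup.card_le_card_group Y)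
      intro e
      exact hY (Subgroup.eq_top_of_card_eq Y e)
    exact ih (Nat.card Y) hlt Y (R.sub Y) rfl
  by_cases hN : N3 G = ⊤
  · by_cases hcomm : ∀ x y : G, x ^ 3 = 1 → y ^ 3 = 1 → x * y = y * x
    · rcases R.card_N3_of_commute hcomm with e | e
      · exact Or.inl e
      · exact Or.inr (Or.inl e)
    · push Not at hcomm
      obtain ⟨x, y, hx, hy, hxy⟩ := hcomm
      obtain ⟨hc, t, s, x', -, -, -, hT⟩ := R.pair_t3 p hx hy hxy
      have hNcard : Nat.card (N3 G) = Nat.card G := by rw [hN, Subgroup.card_top]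
      by_cases htop : Subgroup.closure ({x, y} : Set G) = ⊤
      · rw [htop, Subgroup.card_top] at hc
        rw [hNcard]
        rcases hc with e | e
        · exact Or.inr (Or.inr (Or.inl e))
        · exact Or.inr (Or.inr (Or.inr e))
      · have hlt : Nat.card (Subgroup.closure ({x, y} : Set G)) < Nat.card G := by
          apply lt_of_le_of_ne (Subgroup.card_le_card_group _)
          intro e
          exact htop (Subgroup.eq_top_of_card_eq _ e)
        have h24 : 24 < Nat.card G := by rcases hc with e | e <;> omega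
        have hperf := R.perfect_of_gen hN hx hy hxy h24
        obtain ⟨Q₀, z, hQ, hg, -⟩ := hT.exists_good R
        have := hg.card_eq_120 hQ R p hN hperf IH
        rw [hNcard, this]
        exact Or.inr (Or.inr (Or.inr rfl))
  · have := IH (N3 G) hN
    rwa [card_N3_sub (N3 G), N3_map_subtype_of_le (N3 G) le_rfl] at this

end Cfsg.Agent.Lib.Helper2.Zfp
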