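import Cfsg.Agent.Lib.Helper2.Zfp37
import Cfsg.Agent.S0102
import Cfsg.Agent.S3378

set_option autoImplicit false
set_option linter.style.haveILetI false

/-!
# A perfect group with a fixed-point-free representation is `SL(2,5)`
-/

namespace Cfsg.Agent.Lib.Helper2.Zfp

open scoped Pointwise
open Cfsg.Agent.Lib.Lead

universe u

variable {G : Type u} [Group G] [Finite G] {E : Type*} [Field E] [IsAlgClosed E] {M : Type*}
  [AddCommGroup M] [Module E M] [FiniteDimensional E M] [Nontrivial M]

/-- odd Sylow subgroups are cyclic -/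
theorem Rep.isCyclic_sylow (R : Rep G E M) {q : ℕ} [Fact q.Prime] (hq : q ≠ 2) (S : Sylow q G) :
    IsCyclic (S : Subgroup G) := by
  rcases R.pgroup_structure q (S : Subgroup G) S.2 with hc | ⟨h2, -⟩
  · exact hc
  · exact absurd h2 hq

theorem false_of_isZGroup [IsZGroup G] [Nontrivial G] (hperf : commutator G = ⊤) : False := by
  have := IsZGroup.commutator_lt (G := G)
  rw [hperf] at this
  exact lt_irrefl _ this

set_option maxHeartbeats 800000 in
theorem Rep.false_of_card_N3_one (R : Rep G E M) (hperf : commutator G = ⊤) [Nontrivial G]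
    (h1 : Nat.card (N3 G) = 1) : False := by
  haveI : Fact (Nat.Prime 2) := ⟨Nat.prime_two⟩
  have h3 : ¬ 3 ∣ Nat.card G := by
    intro hd
    haveI : Fact (Nat.Prime 3) := ⟨Nat.prime_three⟩
    obtain ⟨x, hx⟩ := exists_prime_orderOf_dvd_card' (G := G) 3 hd
    have hx3 : x ^ 3 = 1 := by
      have := pow_orderOf_eq_one x
      rwa [hx] at this
    have hmem := mem_N3 hx3
    rw [Subgroup.eq_bot_of_card_eq _ h1, Subgroup.mem_bot] at hmem
    rw [hmem, orderOf_one] at hx
    norm_num at hx
  by_cases hall : ∀ (q : ℕ), q.Prime → ∀ S : Sylow q G, IsCyclic (S : Subgroup G)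
  · haveI : IsZGroup G := ⟨hall⟩
    exact false_of_isZGroup hperf
  · push Not at hall
    obtain ⟨q, hq, S, hS⟩ := hall
    haveI : Fact q.Prime := ⟨hq⟩
    rcases R.pgroup_structure q (S : Subgroup G) S.2 with hc | ⟨rfl, n, ⟨e⟩⟩
    · exact hS hc
    · rcases Nat.eq_zero_or_pos n with hn | hn
      · subst hn
        apply hS
        haveI : IsCyclic (QuaternionGroup (2 ^ 0)) := QuaternionGroup.quaternionGroup_one_isCyclic
        exact isCyclic_of_surjective e.symm e.symm.surjective
      · rcases Cfsg.Agent.S0106.result S n hn ⟨e⟩ with ⟨P', K, hKn, hc⟩ | ⟨H, K', hK', ⟨e'⟩⟩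
        · haveI := hKn
          have hcard : Nat.card K * Nat.card P' = Nat.card G := hc.card_mul_card
          have hidx : Nat.card (G ⧸ K) = Nat.card P' := by
            rw [← Subgroup.index_eq_card]; exact hc.symm.index_eq_card
          obtain ⟨k, hk⟩ := P'.2.exists_card_eq
          haveI : Group.IsSolvable (G ⧸ K) := by
            haveI : Group.IsNilpotent (G ⧸ K) := (IsPGroup.of_card (hidx.trans hk)).isNilpotent
            infer_instance
          have hker := ker_eq_top_of_perfect hperf (QuotientGroup.mk' K)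
          rw [QuotientGroup.ker_mk'] at hker
          rw [hker, Subgroup.card_top] at hcard
          have hpos : 0 < Nat.card G := Nat.card_pos
          have hP1 : Nat.card P' = 1 := by
            have : Nat.card G * Nat.card P' = Nat.card G * 1 := by rw [hcard, mul_one]
            exact Nat.eq_of_mul_eq_mul_left hpos this
          have hPS : Nat.card P' = Nat.card S := by
            rw [Sylow.card_eq_multiplicity, Sylow.card_eq_multiplicity]
          have hScard : Nat.card S = 4 * 2 ^ n := by
            haveI : NeZero (2 ^ n) := ⟨by positivity⟩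
            rw [Nat.card_congr e.toEquiv, Nat.card_eq_fintype_card, QuaternionGroup.card]
          have : 0 < 2 ^ n := by positivity
          omega
        · apply h3
          have h1' : Nat.card (H ⧸ K'.subgroupOf H) = 24 := by
            rw [Nat.card_congr e'.toEquiv, card_SL23]
          have h2 : Nat.card (H ⧸ K'.subgroupOf H) ∣ Nat.card H :=
            Subgroup.card_quotient_dvd_card _
          have h4 : Nat.card H ∣ Nat.card G := Subgroup.card_subgroup_dvd_card _
          rw [h1'] at h2
          exact dvd_trans (by norm_num) (dvd_trans h2 h4)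

theorem isCyclic_sylow_quotient (N : Subgroup G) [N.Normal] {q : ℕ} [Fact q.Prime]
    (hc : ∀ S : Sylow q G, IsCyclic (S : Subgroup G)) (P : Sylow q (G ⧸ N)) :
    IsCyclic (P : Subgroup (G ⧸ N)) := by
  obtain ⟨P₀, rfl⟩ := Sylow.mapSurjective_surjective (QuotientGroup.mk'_surjective N) q P
  rw [Sylow.coe_mapSurjective]
  haveI := hc P₀
  exact isCyclic_of_surjective ((QuotientGroup.mk' N).subgroupMap (P₀ : Subgroup G))
    (MonoidHom.subgroupMap_surjective _ _)

set_option maxHeartbeats 800000 in
theorem Rep.false_of_card_N3_three (R : Rep G E M) (hperf : commutator G = ⊤)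
    (h3 : Nat.card (N3 G) = 3) : False := by
  haveI : Fact (Nat.Prime 3) := ⟨Nat.prime_three⟩
  haveI : IsCyclic (N3 G) := isCyclic_of_prime_card h3
  haveI : Group.IsSolvable (MulAut (N3 G)) :=
    solvable_of_solvable_injective (f := (IsCyclic.mulAutMulEquiv (N3 G)).toMonoidHom)
      (IsCyclic.mulAutMulEquiv (N3 G)).injective
  have hker := ker_eq_top_of_perfect hperf (MulAut.conjNormal (H := N3 G))
  have hcen : N3 G ≤ Subgroup.center G := by
    intro n hn
    rw [Subgroup.mem_center_iff]
    intro g
    have hg : g ∈ (MulAut.conjNormal (H := N3 G)).ker := by rw [hker]; trivial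
    rw [MonoidHom.mem_ker] at hg
    have h1 : ((MulAut.conjNormal g (⟨n, hn⟩ : N3 G) : N3 G) : G) = n := by rw [hg]; rfl
    rw [MulAut.conjNormal_apply] at h1
    calc g * n = g * n * g⁻¹ * g := by group
      _ = n * g := by rw [h1]
  have hcycQ : ∀ P : Sylow 3 (G ⧸ N3 G), IsCyclic (P : Subgroup (G ⧸ N3 G)) :=
    isCyclic_sylow_quotient (N3 G) (fun S => R.isCyclic_sylow (by norm_num) S)
  have hperfQ : commutator (G ⧸ N3 G) = ⊤ :=
    perfect_of_surjective hperf (QuotientGroup.mk' (N3 G)) (QuotientGroup.mk'_surjective _)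
  have := Cfsg.Agent.S0102.result hperfQ hcycQ (QuotientGroup.mk' (N3 G))
    (QuotientGroup.mk'_surjective _) (by rw [QuotientGroup.ker_mk']; exact hcen) hperf
  rw [QuotientGroup.ker_mk', h3] at this
  exact this (dvd_refl 3)

set_option maxHeartbeats 1600000 in
/-- a perfect non-trivial group with a fixed-point-free representation is `SL(2,5)` -/
theorem Rep.main (R : Rep G E M) (p : ℕ) [Fact p.Prime] [CharP E p] (hperf : commutator G = ⊤)
    [Nontrivial G] : Nonempty (G ≃* Matrix.SpecialLinearGroup (Fin 2) (ZMod 5)) := by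
  haveI : Fact (Nat.Prime 2) := ⟨Nat.prime_two⟩
  have hA := theoremA (E := E) (M := M) p (Nat.card G) G R rfl
  have hns : ¬ Group.IsSolvable G := by
    intro hs
    have := subsingleton_of_perfect_of_solvable hperf
    exact not_subsingleton G this
  rcases hA with h1 | h3 | hbig
  · exact (R.false_of_card_N3_one hperf h1).elim
  · exact (R.false_of_card_N3_three hperf h3).elim
  -- non-commuting elements of order three
  have hex : ¬ ∀ x y : G, x ^ 3 = 1 → y ^ 3 = 1 → x * y = y * x := by
    intro hcomm
    rcases R.card_N3_of_commute hcomm with e | e <;> rcases hbig with e' | e' <;> omega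
  push Not at hex
  obtain ⟨x, y, hx, hy, hxy⟩ := hex
  obtain ⟨-, t, s, x', ht, hs, -, hT⟩ := R.pair_t3 p hx hy hxy
  obtain ⟨Q₀, z, hQ, hg, hQdef⟩ := hT.exists_good R
  have hXN : Subgroup.closure ({x, y} : Set G) ≤ N3 G := by
    rw [Subgroup.closure_le]
    rintro g (rfl | rfl)
    · exact mem_N3 hx
    · exact mem_N3 hy
  have hQN : Q₀ ≤ N3 G := by
    rw [hQdef, Subgroup.closure_le]
    rintro g (rfl | rfl)
    · exact hXN ht
    · exact hXN hs
  obtain ⟨P₁, hP₁⟩ := hQ.isPGroup.exists_le_sylow
  have hP₁card := hg.card_two_group hQ R p P₁ P₁.2 hP₁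
  -- the quotient by `N3 G` is a Z-group
  have hfac : (Nat.card G).factorization 2 ≤ 4 := by
    have h1 := P₁.card_eq_multiplicity
    rcases hP₁card with e | e
    · rw [e] at h1
      have : 2 ^ (Nat.card G).factorization 2 = 2 ^ 3 := by rw [← h1]; norm_num
      have := Nat.pow_right_injective (le_refl 2) this
      omega
    · rw [e] at h1
      have : 2 ^ (Nat.card G).factorization 2 = 2 ^ 4 := by rw [← h1]; norm_num
      have := Nat.pow_right_injective (le_refl 2) this
      omega
  have hfacN : (Nat.card (N3 G)).factorization 2 = 3 := by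
    rcases hbig with e | e <;> rw [e]
    · have : (24 : ℕ) = 2 ^ 3 * 3 := by norm_num
      rw [this, Nat.factorization_mul (by norm_num) (by norm_num), Nat.Prime.factorization_pow
        Nat.prime_two, Nat.Prime.factorization Nat.prime_three]
      simp
    · have : (120 : ℕ) = 2 ^ 3 * 3 * 5 := by norm_num
      rw [this, Nat.factorization_mul (by norm_num) (by norm_num),
        Nat.factorization_mul (by norm_num) (by norm_num), Nat.Prime.factorization_pow
        Nat.prime_two, Nat.Prime.factorization Nat.prime_three,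
        Nat.Prime.factorization Nat.prime_five]
      simp
  have hfacQ : (Nat.card (G ⧸ N3 G)).factorization 2 ≤ 1 := by
    have h1 := card_quotient_mul (N3 G)
    have h2 : (Nat.card G).factorization 2 =
        (Nat.card (G ⧸ N3 G)).factorization 2 + (Nat.card (N3 G)).factorization 2 := by
      rw [← h1, Nat.factorization_mul Nat.card_pos.ne' Nat.card_pos.ne']
      rfl
    omega
  haveI : IsZGroup (G ⧸ N3 G) := by
    refine ⟨fun q hq P => ?_⟩
    haveI : Fact q.Prime := ⟨hq⟩
    by_cases hq2 : q = 2
    · subst hq2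
      have hPc := P.card_eq_multiplicity
      have hle : (Nat.card (G ⧸ N3 G)).factorization 2 = 0 ∨
          (Nat.card (G ⧸ N3 G)).factorization 2 = 1 := by omega
      rcases hle with e | e
      · rw [e, pow_zero] at hPc
        haveI : Subsingleton (P : Subgroup (G ⧸ N3 G)) :=
          (Nat.card_eq_one_iff_unique.mp hPc).1
        exact isCyclic_of_subsingleton
      · rw [e, pow_one] at hPc
        exact isCyclic_of_prime_card hPc
    · exact isCyclic_sylow_quotient (N3 G) (fun S => R.isCyclic_sylow hq2 S) P
  have hker := ker_eq_top_of_perfect hperf (QuotientGroup.mk' (N3 G))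
  rw [QuotientGroup.ker_mk'] at hker
  rw [hker, Subgroup.card_top] at hbig
  rcases hbig with e | e
  · exfalso
    apply hns
    apply Cfsg.Agent.Lib.Helper8.isSolvable_of_card_dvd_24
    rw [e]
  · apply Cfsg.Agent.S3378.result.1 G e hns
    intro P
    have hP8 : Nat.card (P : Subgroup G) = 8 := by
      have := card_sylow_of_eq 2 3 15 (by rw [e]; norm_num) (by norm_num) P
      simpa using this
    have hPnc : ¬ IsCyclic (P : Subgroup G) := by
      intro hc
      obtain ⟨g, hgP⟩ := MulAction.exists_smul_eq G P₁ P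
      apply hQ.ncyc
      apply R.isCyclic_of_comm
      intro a ha b hb
      have hmem : ∀ c ∈ Q₀, g * c * g⁻¹ ∈ (P : Subgroup G) := by
        intro c hc'
        rw [← hgP, Sylow.coe_subgroup_smul, Subgroup.mem_smul_pointwise_iff_exists]
        exact ⟨c, hP₁ hc', by simp [MulAut.smul_def]⟩
      have := commute_of_isCyclic _ hc (hmem a ha) (hmem b hb)
      have h2 : g * (a * b) * g⁻¹ = g * (b * a) * g⁻¹ := by
        calc g * (a * b) * g⁻¹ = (g * a * g⁻¹) * (g * b * g⁻¹) := by group
          _ = (g * b * g⁻¹) * (g * a * g⁻¹) := this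
          _ = g * (b * a) * g⁻¹ := by group
      exact mul_left_cancel (mul_right_cancel h2)
    obtain ⟨z', hQ'⟩ := exists_Q8 (P : Subgroup G) hP8 hPnc
    exact hQ'.equivQuat R

end Cfsg.Agent.Lib.Helper2.Zfp
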