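import Cfsg.Agent.Lib.Helper2.Zfp38

set_option autoImplicit false
set_option linter.style.haveILetI false

/-!
# Fixed-point-free linear groups over a field: extension of scalars
-/

namespace Cfsg.Agent.Lib.Helper2.Zfp

open scoped TensorProduct

universe u

variable {G : Type u} [Group G]

/-- extension of scalars of a fixed-point-free linear action -/
noncomputable def Rep.ofLinear {F : Type*} [Field F] (E : Type*) [Field E] [Algebra F E]
    {V : Type*} [AddCommGroup V] [Module F V] (α : G →* Module.End F V)
    (hfpf : ∀ g : G, g ≠ 1 → ∀ v : V, α g v = v → v = 0) : Rep G E (E ⊗[F] V) where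
  ρ := ((Module.End.baseChangeHom F E V : Module.End F V →* Module.End E (E ⊗[F] V))).comp α
  fpf := by
    intro g hg m hm
    have hinj : Function.Injective (α g - 1 : Module.End F V) := by
      rw [← LinearMap.ker_eq_bot, LinearMap.ker_eq_bot']
      intro v hv
      apply hfpf g hg v
      have : α g v - v = 0 := hv
      exact sub_eq_zero.mp this
    have h2 := Module.Flat.lTensor_preserves_injective_linearMap (M := E) (α g - 1) hinj
    rw [← LinearMap.baseChange_eq_ltensor, LinearMap.baseChange_sub, LinearMap.baseChange_one] at h2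
    apply h2
    rw [map_zero]
    have : (LinearMap.baseChange E (α g)) m = m := hm
    rw [LinearMap.sub_apply, this]
    exact sub_self m

/-- a perfect non-trivial group acting linearly and fixed-point-freely on a finite vector space
over a prime field is `SL(2,5)` -/
theorem main_of_linear [Finite G] {ℓ : ℕ} [Fact ℓ.Prime] {V : Type*} [AddCommGroup V]
    [Module (ZMod ℓ) V] [Finite V] [Nontrivial V] (α : G →* Module.End (ZMod ℓ) V)
    (hfpf : ∀ g : G, g ≠ 1 → ∀ v : V, α g v = v → v = 0) (hperf : commutator G = ⊤)
    [Nontrivial G] : Nonempty (G ≃* Matrix.SpecialLinearGroup (Fin 2) (ZMod 5)) := by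
  haveI : Module.Finite (ZMod ℓ) V := Module.Finite.of_finite
  haveI : Nontrivial (AlgebraicClosure (ZMod ℓ) ⊗[ZMod ℓ] V) := by
    have h1 : Module.finrank (AlgebraicClosure (ZMod ℓ)) (AlgebraicClosure (ZMod ℓ) ⊗[ZMod ℓ] V) =
        Module.finrank (ZMod ℓ) V := Module.finrank_baseChange
    have h2 : 0 < Module.finrank (ZMod ℓ) V := Module.finrank_pos
    rw [← h1] at h2
    exact Module.nontrivial_of_finrank_pos h2
  exact (Rep.ofLinear (AlgebraicClosure (ZMod ℓ)) α hfpf).main ℓ hperf

end Cfsg.Agent.Lib.Helper2.Zfp
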