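import Cfsg.Agent.Lib.Helper2.Zfp2

set_option autoImplicit false
set_option linter.style.haveILetI false

/-!
# Two-dimensional invariant subspaces give faithful `GL₂`-representations; the pair lemma
-/

namespace Cfsg.Agent.Lib.Helper2.Zfp

open Matrix

variable {G : Type*} [Group G] {E : Type*} [Field E] {M : Type*} [AddCommGroup M] [Module E M]

/-- a subgroup preserving the span of two independent vectors embeds in `GL₂` -/
theorem Rep.exists_gl2 (R : Rep G E M) (X : Subgroup G) (v w : M)
    (hli : LinearIndependent E ![v, w])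
    (hinv : ∀ g ∈ X, R.ρ g v ∈ Submodule.span E {v, w} ∧ R.ρ g w ∈ Submodule.span E {v, w}) :
    ∃ φ : X →* GL (Fin 2) E, Function.Injective φ ∧ ∀ g : X,
      R.ρ (g : G) v = (φ g : Matrix (Fin 2) (Fin 2) E) 0 0 • v +
        (φ g : Matrix (Fin 2) (Fin 2) E) 1 0 • w ∧
      R.ρ (g : G) w = (φ g : Matrix (Fin 2) (Fin 2) E) 0 1 • v +
        (φ g : Matrix (Fin 2) (Fin 2) E) 1 1 • w := by
  classical
  have hrange : Set.range ![v, w] = {v, w} := by
    ext m
    simp only [Set.mem_range, Set.mem_insert_iff, Set.mem_singleton_iff]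
    constructor
    · rintro ⟨i, rfl⟩
      fin_cases i
      · left; rfl
      · right; rfl
    · rintro (rfl | rfl)
      · exact ⟨0, rfl⟩
      · exact ⟨1, rfl⟩
  set U : Submodule E M := Submodule.span E (Set.range ![v, w]) with hU
  have hU' : U = Submodule.span E {v, w} := by rw [hU, hrange]
  let b : Module.Basis (Fin 2) E U := Module.Basis.span hli
  have hUinv : ∀ g : X, ∀ u ∈ U, R.ρ (g : G) u ∈ U := by
    intro g u hu
    rw [hU'] at hu ⊢
    have hle : Submodule.span E {v, w} ≤ (Submodule.span E {v, w}).comap (R.ρ (g : G)) := by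
      rw [Submodule.span_le]
      intro m hm
      rcases hm with rfl | rfl
      · exact (hinv g g.2).1
      · exact (hinv g g.2).2
    exact hle hu
  let f : X →* Matrix (Fin 2) (Fin 2) E :=
    { toFun := fun g => LinearMap.toMatrix b b ((R.ρ (g : G)).restrict (hUinv g))
      map_one' := by
        have : (R.ρ ((1 : X) : G)).restrict (hUinv 1) = LinearMap.id := by
          apply LinearMap.ext
          intro u
          apply Subtype.ext
          show R.ρ (1 : G) (u : M) = u
          exact R.ρ_one_apply _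
        rw [this, LinearMap.toMatrix_id]
      map_mul' := by
        intro g h
        have : (R.ρ ((g * h : X) : G)).restrict (hUinv (g * h)) =
            ((R.ρ (g : G)).restrict (hUinv g)).comp ((R.ρ (h : G)).restrict (hUinv h)) := by
          apply LinearMap.ext
          intro u
          apply Subtype.ext
          show R.ρ ((g : G) * (h : G)) (u : M) = R.ρ (g : G) (R.ρ (h : G) (u : M))
          exact R.ρ_mul_apply _ _ _
        rw [this, LinearMap.toMatrix_comp b b b] }
  have hvU : v ∈ U := Submodule.subset_span ⟨0, rfl⟩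
  refine ⟨f.toHomUnits, ?_, ?_⟩
  · intro g h hgh
    have h1 : f g = f h := by
      have := congrArg (fun u : GL (Fin 2) E => (u : Matrix (Fin 2) (Fin 2) E)) hgh
      simpa using this
    have h2 : (R.ρ (g : G)).restrict (hUinv g) = (R.ρ (h : G)).restrict (hUinv h) :=
      (LinearMap.toMatrix b b).injective h1
    have h3 := congrArg (fun φ : U →ₗ[E] U => ((φ ⟨v, hvU⟩ : U) : M)) h2
    have h4 : R.ρ (g : G) v = R.ρ (h : G) v := h3
    have hv0 : v ≠ 0 := hli.ne_zero 0
    exact Subtype.ext (R.eq_of_apply_eq hv0 h4)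
  · intro g
    have hb : ∀ j : Fin 2, ((b j : U) : M) = ![v, w] j := fun j =>
      congrArg Subtype.val (Module.Basis.span_apply hli j)
    have key : ∀ j : Fin 2, R.ρ (g : G) (![v, w] j) =
        (f g) 0 j • v + (f g) 1 j • w := by
      intro j
      have h1 := b.sum_repr (((R.ρ (g : G)).restrict (hUinv g)) (b j))
      have h2 := congrArg (fun u : U => (u : M)) h1
      simp only [Fin.sum_univ_two, Submodule.coe_add, Submodule.coe_smul, hb] at h2
      have h3 : ((((R.ρ (g : G)).restrict (hUinv g)) (b j) : U) : M) = R.ρ (g : G) (![v, w] j) := by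
        rw [LinearMap.coe_restrict_apply, hb]
      rw [h3] at h2
      rw [← h2]
      have e0 : (f g) 0 j = (b.repr (((R.ρ (g : G)).restrict (hUinv g)) (b j))) 0 :=
        LinearMap.toMatrix_apply b b _ 0 j
      have e1 : (f g) 1 j = (b.repr (((R.ρ (g : G)).restrict (hUinv g)) (b j))) 1 :=
        LinearMap.toMatrix_apply b b _ 1 j
      rw [e0, e1]
      rfl
    have hfg : ((f.toHomUnits g : GL (Fin 2) E) : Matrix (Fin 2) (Fin 2) E) = f g := rfl
    rw [hfg]
    exact ⟨key 0, key 1⟩

/-- the inverse of an element with scalar "trace" -/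
theorem Rep.ρ_inv_eq (R : Rep G E M) {a : G} {α : E}
    (ha : R.ρ a + R.ρ a⁻¹ = α • (1 : Module.End E M)) (m : M) :
    R.ρ a⁻¹ m = α • m - R.ρ a m := by
  have := congrArg (fun f : Module.End E M => f m) ha
  simp only [LinearMap.add_apply, LinearMap.smul_apply, Module.End.one_apply] at this
  rw [← this]; abel

/-- **pair lemma**: two elements with scalar traces preserve the span of `v` and `b v`, for `v`
an eigenvector of `a b` -/
theorem Rep.pair_invariant (R : Rep G E M) {a b : G} {α β μ : E} {v : M} (hv : v ≠ 0)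
    (ha : R.ρ a + R.ρ a⁻¹ = α • (1 : Module.End E M))
    (hb : R.ρ b + R.ρ b⁻¹ = β • (1 : Module.End E M))
    (hab : R.ρ (a * b) v = μ • v) :
    R.ρ a v = α • v - μ⁻¹ • R.ρ b v ∧ R.ρ a (R.ρ b v) = μ • v ∧
      R.ρ b (R.ρ b v) = β • R.ρ b v - v := by
  have hμ : μ ≠ 0 := by
    intro h0
    rw [h0, zero_smul] at hab
    exact R.ρ_ne_zero_apply _ hv hab
  refine ⟨?_, ?_, ?_⟩
  · -- a⁻¹ v = μ⁻¹ b v
    have h1 : R.ρ a⁻¹ v = μ⁻¹ • R.ρ b v := by
      have : R.ρ b v = μ • R.ρ a⁻¹ v := by
        rw [← map_smul, ← hab, R.ρ_mul_apply, R.ρ_inv_apply]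
      rw [this, smul_smul, inv_mul_cancel₀ hμ, one_smul]
    have h2 := R.ρ_inv_eq ha v
    rw [h1] at h2
    rw [h2]; abel
  · rw [← R.ρ_mul_apply]; exact hab
  · have h2 := R.ρ_inv_eq hb (R.ρ b v)
    rw [R.ρ_inv_apply] at h2
    have h3 : R.ρ b (R.ρ b v) = β • R.ρ b v - v := by
      rw [eq_sub_iff_add_eq, add_comm, ← eq_sub_iff_add_eq]
      exact h2
    exact h3

end Cfsg.Agent.Lib.Helper2.Zfp
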