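import Cfsg.Agent.Lib.Helper2.Zfp40
import Cfsg.Agent.Lib.Helper9.PerfectSolv1

set_option autoImplicit false
set_option linter.style.haveILetI false

/-!
# Structure of perfect fixed-point-free groups and of perfect normal subgroups
-/

namespace Cfsg.Agent.Lib.Helper2.Zfp

open scoped Pointwise
open Cfsg.Agent.Lib.Lead

universe u

variable {G : Type u} [Group G] [Finite G] {E : Type*} [Field E] [IsAlgClosed E] {M : Type*}
  [AddCommGroup M] [Module E M] [FiniteDimensional E M] [Nontrivial M]

set_option maxHeartbeats 1600000 in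
/-- a perfect non-trivial group with a fixed-point-free representation has order `120`, is
generated by its elements of order three and contains a good quaternion subgroup -/
theorem Rep.perfect_structure (R : Rep G E M) (p : ℕ) [Fact p.Prime] [CharP E p]
    (hperf : commutator G = ⊤) [Nontrivial G] :
    Nat.card G = 120 ∧ N3 G = ⊤ ∧ ∃ (Q₀ : Subgroup G) (z x : G), Q8 Q₀ z ∧ Good Q₀ x := by
  haveI : Fact (Nat.Prime 2) := ⟨Nat.prime_two⟩
  have hA := theoremA (E := E) (M := M) p (Nat.card G) G R rfl
  have hns : ¬ Group.IsSolvable G := by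
    intro hs
    have := subsingleton_of_perfect_of_solvable hperf
    exact not_subsingleton G this
  rcases hA with h1 | h3 | hbig
  · exact (R.false_of_card_N3_one hperf h1).elim
  · exact (R.false_of_card_N3_three hperf h3).elim
  have hex : ¬ ∀ x y : G, x ^ 3 = 1 → y ^ 3 = 1 → x * y = y * x := by
    intro hcomm
    rcases R.card_N3_of_commute hcomm with e | e <;> rcases hbig with e' | e' <;> omega
  push Not at hex
  obtain ⟨x, y, hx, hy, hxy⟩ := hex
  obtain ⟨-, t, s, x', ht, hs, -, hT⟩ := R.pair_t3 p hx hy hxy
  obtain ⟨Q₀, z, hQ, hg, hQdef⟩ := hT.exists_good R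
  obtain ⟨P₁, hP₁⟩ := hQ.isPGroup.exists_le_sylow
  have hP₁card := hg.card_two_group hQ R p P₁ P₁.2 hP₁
  have hfac : (Nat.card G).factorization 2 ≤ 4 := by
    have h1 := P₁.card_eq_multiplicity
    rcases hP₁card with e | e
    · rw [e] at h1
      have : 2 ^ (Nat.card G).factorization 2 = 2 ^ 3 := by rw [← h1]; norm_num
      have := Nat.pow_right_injective (le_refl 2) this
      omega
    · rw [e] at h1
      have : 2 ^ (Nat.card G).factorization 2 = 2 ^ 4 := by rw [← h1]; norm_num
      have := Nat.pow_right_injective (le_refl 2) this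
      omega
  have hfacN : (Nat.card (N3 G)).factorization 2 = 3 := by
    rcases hbig with e | e <;> rw [e]
    · have : (24 : ℕ) = 2 ^ 3 * 3 := by norm_num
      rw [this, Nat.factorization_mul (by norm_num) (by norm_num), Nat.Prime.factorization_pow
        Nat.prime_two, Nat.Prime.factorization Nat.prime_three]
      simp
    · have : (120 : ℕ) = 2 ^ 3 * 3 * 5 := by norm_num
      rw [this, Nat.factorization_mul (by norm_num) (by norm_num),
        Nat.factorization_mul (by norm_num) (by norm_num), Nat.Prime.factorization_pow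
        Nat.prime_two, Nat.Prime.factorization Nat.prime_three,
        Nat.Prime.factorization Nat.prime_five]
      simp
  have hfacQ : (Nat.card (G ⧸ N3 G)).factorization 2 ≤ 1 := by
    have h1 := card_quotient_mul (N3 G)
    have h2 : (Nat.card G).factorization 2 =
        (Nat.card (G ⧸ N3 G)).factorization 2 + (Nat.card (N3 G)).factorization 2 := by
      rw [← h1, Nat.factorization_mul Nat.card_pos.ne' Nat.card_pos.ne']
      rfl
    omega
  haveI : IsZGroup (G ⧸ N3 G) := by
    refine ⟨fun q hq P => ?_⟩
    haveI : Fact q.Prime := ⟨hq⟩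
    by_cases hq2 : q = 2
    · subst hq2
      have hPc := P.card_eq_multiplicity
      have hle : (Nat.card (G ⧸ N3 G)).factorization 2 = 0 ∨
          (Nat.card (G ⧸ N3 G)).factorization 2 = 1 := by omega
      rcases hle with e | e
      · rw [e, pow_zero] at hPc
        haveI : Subsingleton (P : Subgroup (G ⧸ N3 G)) :=
          (Nat.card_eq_one_iff_unique.mp hPc).1
        exact isCyclic_of_subsingleton
      · rw [e, pow_one] at hPc
        exact isCyclic_of_prime_card hPc
    · exact isCyclic_sylow_quotient (N3 G) (fun S => R.isCyclic_sylow hq2 S) P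
  have hker := ker_eq_top_of_perfect hperf (QuotientGroup.mk' (N3 G))
  rw [QuotientGroup.ker_mk'] at hker
  rw [hker, Subgroup.card_top] at hbig
  rcases hbig with e | e
  · exfalso
    apply hns
    apply Cfsg.Agent.Lib.Helper8.isSolvable_of_card_dvd_24
    rw [e]
  · exact ⟨e, hker, Q₀, z, x', hQ, hg⟩

/-- data attached to a non-trivial perfect normal subgroup: the central involution, an element of
order four and one of order three -/
structure CoreData (L : Subgroup G) (z t x : G) : Prop where
  card : Nat.card L = 120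
  z_ne : z ≠ 1
  z_sq : z * z = 1
  z_mem : z ∈ L
  t_mem : t ∈ L
  t_sq : t * t = z
  x_mem : x ∈ L
  x3 : x ^ 3 = 1
  x1 : x ≠ 1
  center : ∀ l ∈ L, (∀ l' ∈ L, l * l' = l' * l) → l = 1 ∨ l = z
  n3 : N3 L = ⊤

theorem Rep.exists_coreData (R : Rep G E M) (p : ℕ) [Fact p.Prime] [CharP E p] (L : Subgroup G)
    (hLp : commutator L = ⊤) (hL : L ≠ ⊥) : ∃ z t x : G, CoreData L z t x := by
  haveI : Nontrivial L := (Subgroup.nontrivial_iff_ne_bot L).mpr hL
  obtain ⟨hcard, hN3, Q₀, z, x, hQ, hg⟩ := (R.sub L).perfect_structure p hLp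
  obtain ⟨t, htQ, htz⟩ := hQ.exists_order_four (R.sub L)
  refine ⟨(z : G), (t : G), (x : G), hcard, ?_, ?_, z.2, t.2, ?_, x.2, ?_, ?_, ?_, hN3⟩
  · intro e; exact hQ.z_ne (Subtype.ext e)
  · have := congrArg Subtype.val hQ.z_sq
    simpa using this
  · have := congrArg Subtype.val htz
    simpa using this
  · have := congrArg Subtype.val hg.x3
    simpa using this
  · intro e; exact hg.x1 (Subtype.ext e)
  · intro l hl hcomm
    have hc : (⟨l, hl⟩ : L) ∈ Subgroup.center L := by
      rw [Subgroup.mem_center_iff]
      intro g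
      exact Subtype.ext (hcomm g g.2).symm
    rcases (R.sub L).center_le hLp hQ _ hc with e | e
    · left; exact congrArg Subtype.val e
    · right; exact congrArg Subtype.val e

end Cfsg.Agent.Lib.Helper2.Zfp
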