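import Cfsg.Agent.Lib.Helper2.Zfp41

set_option autoImplicit false
set_option linter.style.haveILetI false

/-!
# The centralizer of a perfect normal subgroup of a fixed-point-free group
-/

namespace Cfsg.Agent.Lib.Helper2.Zfp

open scoped Pointwise
open Cfsg.Agent.Lib.Lead

universe u

variable {G : Type u} [Group G] [Finite G] {E : Type*} [Field E] [IsAlgClosed E] {M : Type*}
  [AddCommGroup M] [Module E M] [FiniteDimensional E M] [Nontrivial M]

namespace CoreData

variable {L : Subgroup G} {z t x : G}

theorem orderOf_z (hD : CoreData L z t x) : orderOf z = 2 := by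
  haveI : Fact (Nat.Prime 2) := ⟨Nat.prime_two⟩
  apply orderOf_eq_prime
  · rw [pow_two]; exact hD.z_sq
  · exact hD.z_ne

theorem orderOf_t (hD : CoreData L z t x) : orderOf t = 4 := by
  have := orderOf_eq_prime_pow (x := t) (p := 2) (n := 1) ?_ ?_
  · simpa using this
  · rw [pow_one, pow_two, hD.t_sq]; exact hD.z_ne
  · have : (2 : ℕ) ^ (1 + 1) = 2 + 2 := by norm_num
    rw [this, pow_add, pow_two, hD.t_sq, hD.z_sq]

theorem inf_centralizer (hD : CoreData L z t x) {c : G} (hcL : c ∈ L)
    (hc : c ∈ Subgroup.centralizer (L : Set G)) : c = 1 ∨ c = z := by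
  apply hD.center c hcL
  intro l hl
  exact (Subgroup.mem_centralizer_iff.mp hc l hl).symm

theorem z_mem_centralizer (hD : CoreData L z t x) (R : Rep G E M) :
    z ∈ Subgroup.centralizer (L : Set G) := by
  rw [Subgroup.mem_centralizer_iff]
  intro l _
  exact R.involution_central hD.z_ne hD.z_sq l

/-- the centralizer contains no element of order four -/
theorem not_sq (hD : CoreData L z t x) (R : Rep G E M) {c : G}
    (hc : c ∈ Subgroup.centralizer (L : Set G)) : c * c ≠ z := by
  intro hcz
  have hc4 : c ^ orderOf t = 1 := by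
    rw [hD.orderOf_t, show (4 : ℕ) = 2 + 2 from rfl, pow_add, pow_two, hcz, hD.z_sq]
  have hct : c * t = t * c := (Subgroup.mem_centralizer_iff.mp hc t hD.t_mem).symm
  have hmem : c ∈ Subgroup.zpowers t := R.mem_zpowers_of_commute hc4 hct
  have hcL : c ∈ L := (Subgroup.zpowers_le.mpr hD.t_mem) hmem
  rcases hD.inf_centralizer hcL hc with e | e
  · rw [e, one_mul] at hcz; exact hD.z_ne hcz.symm
  · rw [e, hD.z_sq] at hcz; exact hD.z_ne hcz.symm

/-- odd primes dividing `120` do not divide the order of the centralizer -/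
theorem prime_not_dvd (hD : CoreData L z t x) (R : Rep G E M) {q : ℕ} (hq : q.Prime)
    (hq2 : q ≠ 2) (hqL : q ∣ 120) : ¬ q ∣ Nat.card (Subgroup.centralizer (L : Set G)) := by
  intro hdvd
  haveI : Fact q.Prime := ⟨hq⟩
  obtain ⟨y, hy⟩ := exists_prime_orderOf_dvd_card' (G := L) q (by rw [hD.card]; exact hqL)
  obtain ⟨c, hc⟩ := exists_prime_orderOf_dvd_card'
    (G := Subgroup.centralizer (L : Set G)) q hdvd
  have hyq : (y : G) ^ q = 1 := by
    have h0 := pow_orderOf_eq_one y
    rw [hy] at h0
    have := congrArg Subtype.val h0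
    simpa using this
  have hy1 : (y : G) ≠ 1 := by
    intro e
    have : y = 1 := Subtype.ext e
    rw [this, orderOf_one] at hy
    exact hq.one_lt.ne hy
  have hcq : (c : G) ^ q = 1 := by
    have h0 := pow_orderOf_eq_one c
    rw [hc] at h0
    have := congrArg Subtype.val h0
    simpa using this
  have hco : orderOf (c : G) = q := by rw [Subgroup.orderOf_coe, hc]
  have hcy : (c : G) * y = y * c := (Subgroup.mem_centralizer_iff.mp c.2 y y.2).symm
  have hmem : (c : G) ∈ Subgroup.zpowers (y : G) :=
    R.mem_zpowers_of_commute_prime hq hyq hy1 hcq hcy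
  have hcL : (c : G) ∈ L := (Subgroup.zpowers_le.mpr y.2) hmem
  rcases hD.inf_centralizer hcL c.2 with e | e
  · rw [e, orderOf_one] at hco
    exact hq.one_lt.ne hco
  · rw [e, hD.orderOf_z] at hco
    exact hq2 hco.symm

theorem two_dvd (hD : CoreData L z t x) (R : Rep G E M) :
    2 ∣ Nat.card (Subgroup.centralizer (L : Set G)) := by
  have h1 := orderOf_dvd_natCard
    (⟨z, hD.z_mem_centralizer R⟩ : Subgroup.centralizer (L : Set G))
  have h2 : orderOf (⟨z, hD.z_mem_centralizer R⟩ : Subgroup.centralizer (L : Set G)) = 2 := by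
    rw [← Subgroup.orderOf_coe]; exact hD.orderOf_z
  rwa [h2] at h1

theorem not_four_dvd (hD : CoreData L z t x) (R : Rep G E M) :
    ¬ 4 ∣ Nat.card (Subgroup.centralizer (L : Set G)) := by
  intro hdvd
  haveI : Fact (Nat.Prime 2) := ⟨Nat.prime_two⟩
  obtain ⟨T, hT⟩ := Sylow.exists_subgroup_card_pow_prime 2
    (G := Subgroup.centralizer (L : Set G)) (n := 2) (by simpa using hdvd)
  have hle : T.map (Subgroup.centralizer (L : Set G)).subtype ≤ Subgroup.zpowers z := by
    rintro _ ⟨τ, hτ, rfl⟩
    have hτ4 : (τ : G) ^ 4 = 1 := by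
      have h0 : (⟨τ, hτ⟩ : T) ^ Nat.card T = 1 := pow_card_eq_one'
      rw [hT] at h0
      have := congrArg (fun y : T => ((y : Subgroup.centralizer (L : Set G)) : G)) h0
      simpa using this
    by_cases hsq : (τ : G) * τ = 1
    · by_cases h1 : (τ : G) = 1
      · show (τ : G) ∈ Subgroup.zpowers z
        rw [h1]; exact Subgroup.one_mem _
      · have := R.involution_unique h1 hsq hD.z_ne hD.z_sq
        show (τ : G) ∈ Subgroup.zpowers z
        rw [this]; exact Subgroup.mem_zpowers z
    · exfalso
      have h2 : (τ : G) * τ * ((τ : G) * τ) = 1 := by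
        rw [← hτ4, show (4 : ℕ) = 2 + 2 from rfl, pow_add, pow_two]
      exact hD.not_sq R τ.2 (R.involution_unique hsq h2 hD.z_ne hD.z_sq)
  have h1 := Subgroup.card_le_of_le hle
  rw [Subgroup.card_map_of_injective (Subgroup.subtype_injective _), hT, Nat.card_zpowers,
    hD.orderOf_z] at h1
  norm_num at h1

end CoreData

end Cfsg.Agent.Lib.Helper2.Zfp
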