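import Cfsg.Agent.Lib.Helper2.Zfp42

set_option autoImplicit false
set_option linter.style.haveILetI false

/-!
# The action on the Sylow `2`-subgroups of a perfect normal subgroup
-/

namespace Cfsg.Agent.Lib.Helper2.Zfp

open scoped Pointwise
open Cfsg.Agent.Lib.Lead

universe u

variable {G : Type u} [Group G] [Finite G] {E : Type*} [Field E] [IsAlgClosed E] {M : Type*}
  [AddCommGroup M] [Module E M] [FiniteDimensional E M] [Nontrivial M]

set_option maxHeartbeats 800000 in
/-- a perfect fixed-point-free group has five Sylow `2`-subgroups -/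
theorem Rep.card_sylow_two_of_perfect (R : Rep G E M) (p : ℕ) [Fact p.Prime] [CharP E p]
    (hperf : commutator G = ⊤) [Nontrivial G] : Nat.card (Sylow 2 G) = 5 := by
  haveI : Fact (Nat.Prime 2) := ⟨Nat.prime_two⟩
  obtain ⟨hcard, hN3, Q₀, z, x, hQ, hg⟩ := R.perfect_structure p hperf
  obtain ⟨P, hP⟩ := hQ.isPGroup.exists_le_sylow
  have hP8 : Nat.card (P : Subgroup G) = 8 := by
    have := card_sylow_of_eq 2 3 15 (by rw [hcard]; norm_num) (by norm_num) P
    simpa using this
  have hPQ : Q₀ = (P : Subgroup G) := Subgroup.eq_of_le_of_card_ge hP (by rw [hP8, hQ.card])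
  have h3 : Nat.card (Sylow 2 G) = (Subgroup.normalizer ((P : Subgroup G) : Set G)).index :=
    P.card_eq_index_normalizer
  have hNcard := (Subgroup.normalizer ((P : Subgroup G) : Set G)).card_mul_index
  rw [← h3, hcard] at hNcard
  have h8 : 8 ∣ Nat.card (Subgroup.normalizer ((P : Subgroup G) : Set G)) := by
    rw [← hP8]
    exact Subgroup.card_dvd_of_le Subgroup.le_normalizer
  have hxN : x ∈ Subgroup.normalizer ((P : Subgroup G) : Set G) := by
    rw [← hPQ]; exact hg.norm
  have h3' : 3 ∣ Nat.card (Subgroup.normalizer ((P : Subgroup G) : Set G)) := by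
    have hord : orderOf x = 3 := by
      haveI : Fact (Nat.Prime 3) := ⟨Nat.prime_three⟩
      exact orderOf_eq_prime hg.x3 hg.x1
    have h1 := orderOf_dvd_natCard
      (⟨x, hxN⟩ : Subgroup.normalizer ((P : Subgroup G) : Set G))
    rwa [← Subgroup.orderOf_coe, hord] at h1
  have h24 : 24 ∣ Nat.card (Subgroup.normalizer ((P : Subgroup G) : Set G)) :=
    Nat.Coprime.mul_dvd_of_dvd_of_dvd (by norm_num : Nat.Coprime 8 3) h8 h3'
  obtain ⟨k, hk⟩ := h24
  rw [hk] at hNcard
  have hne1 : Nat.card (Sylow 2 G) ≠ 1 :=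
    hQ.not_normal_sylow R hN3 hperf P (by rw [hP8]; norm_num) (by rw [hP8, hcard]; norm_num)
  have hk5 : k * Nat.card (Sylow 2 G) = 5 := by nlinarith
  have hdvd : Nat.card (Sylow 2 G) ∣ 5 := Dvd.intro_left k hk5
  rcases (Nat.dvd_prime Nat.prime_five).mp hdvd with e | e
  · exact absurd e hne1
  · exact e

/-- the action of the ambient group on the Sylow `2`-subgroups of a normal subgroup -/
noncomputable def sylowAct (L : Subgroup G) [L.Normal] : G →* Equiv.Perm (Sylow 2 L) :=
  (MulAction.toPermHom (MulAut L) (Sylow 2 L)).comp MulAut.conjNormal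

set_option maxHeartbeats 800000 in
/-- the kernel of the action on the Sylow `2`-subgroups of a perfect normal subgroup centralizes
it -/
theorem Rep.ker_sylowAct_le (R : Rep G E M) (p : ℕ) [Fact p.Prime] [CharP E p] (L : Subgroup G)
    [L.Normal] (hLp : commutator L = ⊤) (hL : L ≠ ⊥) :
    (sylowAct L).ker ≤ Subgroup.centralizer (L : Set G) := by
  haveI : Fact (Nat.Prime 2) := ⟨Nat.prime_two⟩
  haveI : Nontrivial L := (Subgroup.nontrivial_iff_ne_bot L).mpr hL
  obtain ⟨hcard, hN3, -⟩ := (R.sub L).perfect_structure p hLp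
  have h5 := (R.sub L).card_sylow_two_of_perfect p hLp
  set K₀ := (sylowAct L).ker with hK₀
  have hK₀mem : ∀ g : G, g ∈ K₀ ↔ ∀ P : Sylow 2 L, (MulAut.conjNormal g : MulAut L) • P = P := by
    intro g
    rw [hK₀, MonoidHom.mem_ker]
    constructor
    · intro h P
      have := congrArg (fun σ : Equiv.Perm (Sylow 2 L) => σ P) h
      exact this
    · intro h
      apply Equiv.ext
      intro P
      exact h P
  -- the intersection with `L` is central in `L`
  have hN₀ne : K₀.subgroupOf L ≠ ⊤ := by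
    intro e
    have hall : ∀ (l : L) (P : Sylow 2 L), l • P = P := by
      intro l P
      have hl : (l : G) ∈ K₀ := by
        have : l ∈ K₀.subgroupOf L := by rw [e]; trivial
        exact this
      have := (hK₀mem _).mp hl P
      rw [MulAut.conjNormal_val] at this
      exact this
    obtain ⟨P⟩ : Nonempty (Sylow 2 L) := inferInstance
    have hsub : ∀ P' : Sylow 2 L, P' = P := by
      intro P'
      obtain ⟨l, hl⟩ := MulAction.exists_smul_eq L P P'
      rw [← hl, hall]
    haveI : Subsingleton (Sylow 2 L) := ⟨fun a b => (hsub a).trans (hsub b).symm⟩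
    have := Nat.card_of_subsingleton P
    omega
  have hcen := (R.sub L).normal_le_center hN3 hLp (K₀.subgroupOf L) hN₀ne
  intro g hg
  rw [Subgroup.mem_centralizer_iff]
  intro l hl
  -- the commutator map
  have hmemL : ∀ l' : L, g * l' * g⁻¹ * (l' : G)⁻¹ ∈ L := by
    intro l'
    exact L.mul_mem (‹L.Normal›.conj_mem _ l'.2 g) (L.inv_mem l'.2)
  have hmemK : ∀ l' : L, g * l' * g⁻¹ * (l' : G)⁻¹ ∈ K₀ := by
    intro l'
    have h1 : (l' : G) * g⁻¹ * (l' : G)⁻¹ ∈ K₀ :=
      (inferInstance : K₀.Normal).conj_mem _ (K₀.inv_mem hg) l'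
    have h2 := K₀.mul_mem hg h1
    have e : g * ((l' : G) * g⁻¹ * (l' : G)⁻¹) = g * l' * g⁻¹ * (l' : G)⁻¹ := by group
    rwa [e] at h2
  have hcenmem : ∀ l' : L, (⟨g * l' * g⁻¹ * (l' : G)⁻¹, hmemL l'⟩ : L) ∈ Subgroup.center L :=
    fun l' => hcen (hmemK l')
  let ψ : L →* Subgroup.center L :=
    { toFun := fun l' => ⟨⟨g * l' * g⁻¹ * (l' : G)⁻¹, hmemL l'⟩, hcenmem l'⟩
      map_one' := by
        apply Subtype.ext; apply Subtype.ext
        show g * ((1 : L) : G) * g⁻¹ * (((1 : L) : G))⁻¹ = 1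
        simp
      map_mul' := by
        intro a b
        apply Subtype.ext; apply Subtype.ext
        show g * ((a * b : L) : G) * g⁻¹ * (((a * b : L) : G))⁻¹ =
          (g * a * g⁻¹ * (a : G)⁻¹) * (g * b * g⁻¹ * (b : G)⁻¹)
        have hc := Subgroup.mem_center_iff.mp (hcenmem b) a⁻¹
        have hc' : (a : G)⁻¹ * (g * b * g⁻¹ * (b : G)⁻¹) = (g * b * g⁻¹ * (b : G)⁻¹) * (a : G)⁻¹ := by
          have := congrArg Subtype.val hc
          simpa using this
        rw [Subgroup.coe_mul]
        calc g * ((a : G) * b) * g⁻¹ * ((a : G) * b)⁻¹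
            = g * a * g⁻¹ * ((g * b * g⁻¹ * (b : G)⁻¹) * (a : G)⁻¹) := by group
          _ = g * a * g⁻¹ * ((a : G)⁻¹ * (g * b * g⁻¹ * (b : G)⁻¹)) := by rw [hc']
          _ = (g * a * g⁻¹ * (a : G)⁻¹) * (g * b * g⁻¹ * (b : G)⁻¹) := by group }
  haveI : Group.IsSolvable (Subgroup.center L) :=
    Group.isSolvable_of_comm (fun a b => Subtype.ext (Subgroup.mem_center_iff.mp b.2 a.1))
  have hker := ker_eq_top_of_perfect hLp ψ
  have h1 : (⟨l, hl⟩ : L) ∈ ψ.ker := by rw [hker]; trivial
  rw [MonoidHom.mem_ker] at h1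
  have h2 : g * l * g⁻¹ * l⁻¹ = 1 := by
    have := congrArg (fun y : Subgroup.center L => ((y : L) : G)) h1
    exact this
  calc l * g = (g * l * g⁻¹ * l⁻¹)⁻¹ * (g * l) := by group
    _ = g * l := by rw [h2, inv_one, one_mul]

/-- the index of the centralizer of a perfect normal subgroup divides `120` -/
theorem Rep.index_centralizer_dvd (R : Rep G E M) (p : ℕ) [Fact p.Prime] [CharP E p]
    (L : Subgroup G) [L.Normal] (hLp : commutator L = ⊤) (hL : L ≠ ⊥) :
    (Subgroup.centralizer (L : Set G)).index ∣ 120 := by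
  haveI : Nontrivial L := (Subgroup.nontrivial_iff_ne_bot L).mpr hL
  have h5 := (R.sub L).card_sylow_two_of_perfect p hLp
  have h1 := Subgroup.index_dvd_of_le (R.ker_sylowAct_le p L hLp hL)
  rw [Subgroup.index_ker] at h1
  have h2 : Nat.card (sylowAct L).range ∣ Nat.card (Equiv.Perm (Sylow 2 L)) :=
    Subgroup.card_subgroup_dvd_card _
  rw [Nat.card_perm, h5] at h2
  exact h1.trans h2

end Cfsg.Agent.Lib.Helper2.Zfp
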