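import Mathlib
import Cfsg.Agent.Lib.Helper2.FpfLinear

set_option autoImplicit false
set_option linter.style.haveILetI false

/-!
# The commutant of an irreducible linear group over a finite prime field is commutative
-/

namespace Cfsg.Agent.Lib.Helper2.Zfp

open Cfsg.Agent.Lib.Helper2.FpfLinear

variable {p : ℕ} [Fact p.Prime] {V : Type*} [AddCommGroup V] [Module (ZMod p) V]

set_option maxHeartbeats 800000 in
/-- two automorphisms stabilizing a minimal `S`-invariant subspace `W` and commuting with `S`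
commute on `W` -/
theorem comm_of_commutant [Finite V] (S : Set (V ≃ₗ[ZMod p] V)) (W : Submodule (ZMod p) V)
    (hWne : W ≠ ⊥) (hWinv : ∀ c ∈ S, ∀ v ∈ W, c v ∈ W)
    (hWmin : ∀ W' : Submodule (ZMod p) V, W' ≤ W → (∀ c ∈ S, ∀ v ∈ W', c v ∈ W') →
      W' = ⊥ ∨ W' = W)
    (a b : V ≃ₗ[ZMod p] V) (haW : ∀ w ∈ W, a w ∈ W) (hbW : ∀ w ∈ W, b w ∈ W)
    (hac : ∀ c ∈ S, ∀ v : V, c (a v) = a (c v)) (hbc : ∀ c ∈ S, ∀ v : V, c (b v) = b (c v)) :
    ∀ w ∈ W, a (b w) = b (a w) := by
  classical
  obtain ⟨w₀, hw₀W, hw₀⟩ := (Submodule.ne_bot_iff W).mp hWne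
  -- restrictions to `W`
  let res : ∀ g : V ≃ₗ[ZMod p] V, (∀ w ∈ W, g w ∈ W) → Module.End (ZMod p) W :=
    fun g hg => (g : V →ₗ[ZMod p] V).restrict hg
  have hres : ∀ (g : V ≃ₗ[ZMod p] V) (hg : ∀ w ∈ W, g w ∈ W) (w : W),
      ((res g hg w : W) : V) = g (w : V) := fun g hg w => rfl
  let T : Set (Module.End (ZMod p) W) := {f | ∃ (c : V ≃ₗ[ZMod p] V) (hc : c ∈ S), f = res c (hWinv c hc)}
  let R := Subalgebra.centralizer (ZMod p) T
  haveI : Finite (Module.End (ZMod p) W) :=
    Finite.of_injective (fun f => (f : W → W)) DFunLike.coe_injective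
  haveI : Finite R := Subtype.finite
  -- nonzero elements of `R` are injective
  have key : ∀ f : R, f ≠ 0 → Function.Injective (f : Module.End (ZMod p) W) := by
    intro f hf
    let K : Submodule (ZMod p) V := (LinearMap.ker (f : Module.End (ZMod p) W)).map W.subtype
    have hKW : K ≤ W := by
      rintro _ ⟨v, -, rfl⟩
      exact v.2
    have hKinv : ∀ c ∈ S, ∀ v ∈ K, c v ∈ K := by
      rintro c hc _ ⟨v, hv, rfl⟩
      have hv : v ∈ LinearMap.ker (f : Module.End (ZMod p) W) := hv
      refine ⟨res c (hWinv c hc) v, ?_, rfl⟩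
      show res c (hWinv c hc) v ∈ LinearMap.ker (f : Module.End (ZMod p) W)
      rw [LinearMap.mem_ker] at hv ⊢
      have hcomm : res c (hWinv c hc) * (f : Module.End (ZMod p) W) =
          (f : Module.End (ZMod p) W) * res c (hWinv c hc) :=
        (Subalgebra.mem_centralizer_iff (ZMod p)).mp f.2 _ ⟨c, hc, rfl⟩
      have := congrArg (fun g : Module.End (ZMod p) W => g v) hcomm
      simp only [Module.End.mul_apply] at this
      rw [← this, hv, map_zero]
    rcases hWmin K hKW hKinv with h | h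
    · rw [← LinearMap.ker_eq_bot]
      rw [eq_bot_iff]
      intro v hv
      have : (v : V) ∈ K := ⟨v, hv, rfl⟩
      rw [h, Submodule.mem_bot] at this
      rw [Submodule.mem_bot]
      exact Subtype.ext this
    · exfalso
      apply hf
      apply Subtype.ext
      apply LinearMap.ext
      intro v
      have hv : (v : V) ∈ K := by rw [h]; exact v.2
      obtain ⟨v', hv', hvv'⟩ := hv
      have : v' = v := Subtype.ext hvv'
      rw [← this]
      exact hv'
  haveI : Nontrivial R := by
    refine ⟨⟨0, 1, ?_⟩⟩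
    intro h
    have h1 : ((0 : R) : Module.End (ZMod p) W) ⟨w₀, hw₀W⟩ =
        ((1 : R) : Module.End (ZMod p) W) ⟨w₀, hw₀W⟩ := by rw [h]
    have h2 : ((0 : R) : Module.End (ZMod p) W) = 0 := rfl
    have h3 : ((1 : R) : Module.End (ZMod p) W) = 1 := rfl
    rw [h2, h3, LinearMap.zero_apply, Module.End.one_apply] at h1
    exact hw₀ (congrArg Subtype.val h1).symm
  haveI : NoZeroDivisors R := by
    refine ⟨fun {f g} hfg => ?_⟩
    by_cases hf : f = 0
    · exact Or.inl hf
    right
    have hinj := key f hf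
    apply Subtype.ext
    apply LinearMap.ext
    intro v
    apply hinj
    have h1 : ((f * g : R) : Module.End (ZMod p) W) v = ((0 : R) : Module.End (ZMod p) W) v := by
      rw [hfg]
    have h2 : ((f * g : R) : Module.End (ZMod p) W) =
        (f : Module.End (ZMod p) W) * (g : Module.End (ZMod p) W) := rfl
    rw [h2, Module.End.mul_apply] at h1
    rw [h1]
    have h3 : ((0 : R) : Module.End (ZMod p) W) = 0 := rfl
    rw [h3, LinearMap.zero_apply]
    show (0 : W) = (f : Module.End (ZMod p) W) ((0 : Module.End (ZMod p) W) v)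
    rw [LinearMap.zero_apply, map_zero]
  haveI : IsDomain R := NoZeroDivisors.to_isDomain R
  have hfield := Finite.isDomain_to_isField R
  -- the restrictions of `a` and `b` lie in `R`
  have hmemR : ∀ (g : V ≃ₗ[ZMod p] V) (hg : ∀ w ∈ W, g w ∈ W),
      (∀ c ∈ S, ∀ v : V, c (g v) = g (c v)) → res g hg ∈ R := by
    intro g hg hgc
    rw [Subalgebra.mem_centralizer_iff]
    rintro _ ⟨c, hc, rfl⟩
    apply LinearMap.ext
    intro w
    apply Subtype.ext
    simp only [Module.End.mul_apply]
    rw [hres, hres, hres, hres]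
    exact hgc c hc w
  have hcomm := hfield.mul_comm ⟨res a haW, hmemR a haW hac⟩ ⟨res b hbW, hmemR b hbW hbc⟩
  intro w hw
  have h1 := congrArg (fun f : R => (((f : Module.End (ZMod p) W) ⟨w, hw⟩ : W) : V)) hcomm
  exact h1

/-- two disjoint copies of a subspace: the square of its order is at most the order of the
space -/
theorem card_sq_le [Finite V] (W : Submodule (ZMod p) V) (l : V ≃ₗ[ZMod p] V)
    (h : ∀ w ∈ W, ∀ w' ∈ W, w = l w' → w = 0) : Nat.card W * Nat.card W ≤ Nat.card V := by
  rw [← Nat.card_prod]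
  apply Nat.card_le_card_of_injective (fun x : W × W => (x.1 : V) + l (x.2 : V))
  rintro ⟨a, b⟩ ⟨a', b'⟩ hab
  simp only at hab
  have h1 : (a : V) - a' = l ((b' : V) - b) := by
    rw [map_sub]
    have := hab
    calc (a : V) - a' = ((a : V) + l b) - l b - a' := by abel
      _ = ((a' : V) + l b') - l b - a' := by rw [this]
      _ = l b' - l b := by abel
  have h2 := h _ (W.sub_mem a.2 a'.2) _ (W.sub_mem b'.2 b.2) h1
  have h3 : (a : V) = a' := sub_eq_zero.mp h2
  have h4 : l ((b' : V) - b) = 0 := by rw [← h1, h2]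
  have h5 : (b' : V) - b = 0 := l.map_eq_zero_iff.mp h4
  have h6 : (b' : V) = b := sub_eq_zero.mp h5
  exact Prod.ext (Subtype.ext h3) (Subtype.ext h6.symm)

end Cfsg.Agent.Lib.Helper2.Zfp
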