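import Cfsg.Agent.Lib.Helper2.Zfp44

set_option autoImplicit false
set_option linter.style.haveILetI false

/-!
# The arithmetic of the non-solvable sharply transitive linear groups
-/

namespace Cfsg.Agent.Lib.Helper2.Zfp

open Cfsg.Agent.Lib.Helper2.FpfLinear

/-- the finite check behind `arith689` -/
def zcheck (p n j i : ℕ) : Bool :=
  !(decide (1 ≤ j) && decide (2 * j ≤ n) && decide (2 ≤ p) && decide (p ≠ 119)
    && decide (120 ∣ p ^ n - 1) && decide (i ∣ p ^ n - 1) && decide (((p ^ n - 1) / i) ∣ p ^ j - 1)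
    && decide (2 ∣ (p ^ n - 1) / i) && !decide (4 ∣ (p ^ n - 1) / i) &&
    !decide (3 ∣ (p ^ n - 1) / i)) ||
    (decide (p ^ n = 121) || (decide (p ^ n = 841) && decide ((p ^ n - 1) / i = 14)) ||
      (decide (p ^ n = 3481) && decide ((p ^ n - 1) / i = 58)))

theorem arith_fin : ∀ p < 120, ∀ n < 5, ∀ j < 3,
    ∀ i ∈ [1, 2, 3, 4, 5, 6, 8, 10, 12, 15, 20, 24, 30, 40, 60, 120], zcheck p n j i = true := by
  decide +kernel

theorem mem_divList : ∀ i < 121, i ∣ 120 →
    i ∈ [1, 2, 3, 4, 5, 6, 8, 10, 12, 15, 20, 24, 30, 40, 60, 120] := by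
  decide +kernel

set_option maxHeartbeats 800000 in
theorem arith689 (p n j c i : ℕ) (hp : p.Prime) (hj : 1 ≤ j) (hjn : p ^ j * p ^ j ≤ p ^ n)
    (hc1 : c ∣ p ^ j - 1) (hci : c * i = p ^ n - 1) (hi : i ∣ 120) (h120 : 120 ∣ p ^ n - 1)
    (hc2 : 2 ∣ c) (hc4 : ¬ 4 ∣ c) (hc3 : ¬ 3 ∣ c) :
    p ^ n = 121 ∨ (p ^ n = 841 ∧ c = 14) ∨ (p ^ n = 3481 ∧ c = 58) := by
  have hp2 : 2 ≤ p := hp.two_le
  have hjn' : 2 * j ≤ n := by
    rw [← pow_add] at hjn
    have := (Nat.pow_le_pow_iff_right hp2).mp hjn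
    omega
  have hn1 : 1 ≤ n := by omega
  have hw2 : 2 ≤ p ^ j := by
    calc 2 ≤ p := hp2
      _ = p ^ 1 := (pow_one p).symm
      _ ≤ p ^ j := Nat.pow_le_pow_right (by omega) hj
  have hipos : 0 < i := Nat.pos_of_dvd_of_pos hi (by norm_num)
  have hi120 : i ≤ 120 := Nat.le_of_dvd (by norm_num) hi
  have hcle : c ≤ p ^ j - 1 := Nat.le_of_dvd (by omega) hc1
  have hq : p ^ j * p ^ j - 1 ≤ 120 * (p ^ j - 1) := by
    calc p ^ j * p ^ j - 1 ≤ p ^ n - 1 := Nat.sub_le_sub_right hjn 1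
      _ = c * i := hci.symm
      _ ≤ (p ^ j - 1) * 120 := Nat.mul_le_mul hcle hi120
      _ = 120 * (p ^ j - 1) := mul_comm _ _
  have hw119 : p ^ j ≤ 119 := by
    by_contra hgt
    push Not at hgt
    obtain ⟨w, hw⟩ : ∃ w, p ^ j = w + 120 := ⟨p ^ j - 120, by omega⟩
    rw [hw] at hq
    have : (w + 120) * (w + 120) - 1 ≤ 120 * (w + 120 - 1) := hq
    have h1 : (w + 120) * (w + 120) = w * w + 240 * w + 14400 := by ring
    rw [h1] at this
    have h2 : 120 * (w + 120 - 1) = 120 * w + 14280 := by omega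
    rw [h2] at this
    generalize w * w = s at this
    omega
  have hple : p ≤ p ^ j := by
    calc p = p ^ 1 := (pow_one p).symm
      _ ≤ p ^ j := Nat.pow_le_pow_right (by omega) hj
  have hp119 : p ≤ 119 := le_trans hple hw119
  -- `p` is prime to `120`
  have hpn : p ∣ p ^ n := dvd_pow_self p (by omega)
  have hpnpos : 1 ≤ p ^ n := Nat.one_le_pow _ _ (by omega)
  have hp120 : ¬ p ∣ 120 := by
    intro hd
    have h1 : p ∣ p ^ n - 1 := hd.trans h120
    have h2 : p ∣ p ^ n - (p ^ n - 1) := Nat.dvd_sub hpn h1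
    have h3 : p ^ n - (p ^ n - 1) = 1 := by omega
    rw [h3] at h2
    exact hp.one_lt.ne' (Nat.dvd_one.mp h2)
  have hp7 : 7 ≤ p := by
    by_contra hlt
    push Not at hlt
    interval_cases p
    · exact hp120 (by norm_num)
    · exact hp120 (by norm_num)
    · exact absurd hp (by norm_num)
    · exact hp120 (by norm_num)
    · exact absurd hp (by norm_num)
  have hj2 : j ≤ 2 := by
    by_contra hgt
    push Not at hgt
    have h1 : 7 ^ 3 ≤ p ^ j :=
      calc 7 ^ 3 ≤ p ^ 3 := Nat.pow_le_pow_left hp7 3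
        _ ≤ p ^ j := Nat.pow_le_pow_right (by omega) hgt
    omega
  have hpn_le : p ^ n ≤ 14161 := by
    have : p ^ n - 1 ≤ 120 * 118 := by
      calc p ^ n - 1 = c * i := hci.symm
        _ ≤ (p ^ j - 1) * 120 := Nat.mul_le_mul hcle hi120
        _ ≤ 118 * 120 := Nat.mul_le_mul_right _ (by omega)
        _ = 120 * 118 := by norm_num
    omega
  have hn4 : n ≤ 4 := by
    by_contra hgt
    push Not at hgt
    have h1 : 7 ^ 5 ≤ p ^ n :=
      calc 7 ^ 5 ≤ p ^ 5 := Nat.pow_le_pow_left hp7 5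
        _ ≤ p ^ n := Nat.pow_le_pow_right (by omega) hgt
    omega
  have hceq : (p ^ n - 1) / i = c := Nat.div_eq_of_eq_mul_left hipos hci.symm
  have hp119' : p ≠ 119 := by
    rintro rfl
    exact absurd hp (by norm_num)
  have hfin := arith_fin p (by omega) n (by omega) j (by omega) i (mem_divList i (by omega) hi)
  unfold zcheck at hfin
  rw [hceq] at hfin
  have hidvd : i ∣ p ^ n - 1 := Dvd.intro_left c hci
  simp only [Bool.or_eq_true, Bool.not_eq_true', Bool.and_eq_true, decide_eq_true_eq,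
    Bool.and_eq_false_imp, decide_eq_false_iff_not, Bool.not_eq_eq_eq_not, Bool.not_true,
    Bool.not_false, Bool.decide_eq_true] at hfin
  rcases hfin with h | h
  · exfalso
    simp only [hj, hjn', hp2, hp119', h120, hidvd, hc1, hc2, hc4, hc3, ne_eq, not_false_eq_true,
      not_true_eq_false, true_and, and_true, decide_true, decide_false, Bool.not_true,
      Bool.not_false, Bool.true_and, Bool.and_true, Bool.and_self, imp_false, forall_const,
      Bool.true_eq_false, Bool.false_eq_true] at h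
  · exact (or_assoc.mp h)

end Cfsg.Agent.Lib.Helper2.Zfp
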