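import Cfsg.Agent.Lib.Helper2.Zfp43
import Cfsg.Agent.Lib.Helper2.Zfp45

set_option autoImplicit false
set_option linter.style.haveILetI false

/-!
# Sharply transitive linear groups: basic facts, and a direct product criterion
-/

namespace Cfsg.Agent.Lib.Helper2.Zfp

open Cfsg.Agent.Lib.Helper2.FpfLinear
open scoped TensorProduct

/-- a group which is the product of a subgroup and a commuting cyclic subgroup of coprime prime
order is their direct product -/
theorem exists_prod_equiv {H : Type*} [Group H] [Finite H] (L : Subgroup H) (m₀ : H) (q : ℕ)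
    [hq : Fact q.Prime] (hm : orderOf m₀ = q) (hcomm : ∀ l ∈ L, l * m₀ = m₀ * l)
    (hcop : Nat.Coprime (Nat.card L) q) (hcard : Nat.card H = Nat.card L * q) {S : Type*} [Group S]
    (eL : L ≃* S) : Nonempty (H ≃* S × Multiplicative (ZMod q)) := by
  set M₀ := Subgroup.zpowers m₀ with hM₀
  have hM₀card : Nat.card M₀ = q := by rw [hM₀, Nat.card_zpowers, hm]
  have hcomm' : ∀ (l : L) (m : M₀), Commute (L.subtype l) (M₀.subtype m) := by
    intro l m
    obtain ⟨k, hk⟩ := Subgroup.mem_zpowers_iff.mp m.2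
    show (l : H) * (m : H) = (m : H) * (l : H)
    rw [← hk]
    exact ((show Commute (l : H) m₀ from hcomm l l.2).zpow_right k).eq
  let f : L × M₀ →* H := MonoidHom.noncommCoprod L.subtype M₀.subtype hcomm'
  have hf : ∀ x : L × M₀, f x = (x.1 : H) * (x.2 : H) := fun x => rfl
  have hinj : Function.Injective f := by
    rw [injective_iff_map_eq_one]
    rintro ⟨l, m⟩ hlm
    rw [hf] at hlm
    have h1 : (l : H) = ((m : H))⁻¹ := eq_inv_of_mul_eq_one_left hlm
    have hlq : (l : H) ^ q = 1 := by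
      rw [h1, inv_pow]
      have : (m : H) ^ q = 1 := by
        have h0 : m ^ Nat.card M₀ = 1 := pow_card_eq_one'
        rw [hM₀card] at h0
        have := congrArg Subtype.val h0
        simpa using this
      rw [this, inv_one]
    have hlL : (l : H) ^ Nat.card L = 1 := by
      have h0 : l ^ Nat.card L = 1 := pow_card_eq_one'
      have h00 := congrArg Subtype.val h0
      rw [Subgroup.coe_pow, Subgroup.coe_one] at h00
      exact h00
    have hl1 : (l : H) = 1 := by
      have h2 : orderOf (l : H) ∣ Nat.gcd (Nat.card L) q :=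
        Nat.dvd_gcd (orderOf_dvd_of_pow_eq_one hlL) (orderOf_dvd_of_pow_eq_one hlq)
      rw [hcop.gcd_eq_one, Nat.dvd_one, orderOf_eq_one_iff] at h2
      exact h2
    have hm1 : (m : H) = 1 := by
      rw [hl1, one_mul] at hlm; exact hlm
    exact Prod.ext (Subtype.ext hl1) (Subtype.ext hm1)
  have hbij : Function.Bijective f := by
    rw [Nat.bijective_iff_injective_and_card]
    refine ⟨hinj, ?_⟩
    rw [Nat.card_prod, hM₀card, hcard]
  haveI : IsCyclic M₀ := by rw [hM₀]; infer_instance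
  have eM : Multiplicative (ZMod q) ≃* M₀ := hM₀card ▸ zmodCyclicMulEquiv (G := M₀) inferInstance
  exact ⟨(MulEquiv.ofBijective f hbij).symm.trans (MulEquiv.prodCongr eL eM.symm)⟩

section

variable {p : ℕ} [Fact p.Prime] {V : Type*} [AddCommGroup V] [Module (ZMod p) V]

/-- the tautological linear action -/
def linAct (H : Subgroup (V ≃ₗ[ZMod p] V)) : H →* Module.End (ZMod p) V where
  toFun h := ((h : V ≃ₗ[ZMod p] V) : V →ₗ[ZMod p] V)
  map_one' := rfl
  map_mul' _ _ := rfl

theorem fpf_of_reg (H : Subgroup (V ≃ₗ[ZMod p] V))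
    (hreg : ∀ v w : V, v ≠ 0 → w ≠ 0 → ∃! h : H, (h : V ≃ₗ[ZMod p] V) v = w) :
    ∀ h : H, h ≠ 1 → ∀ v : V, (h : V ≃ₗ[ZMod p] V) v = v → v = 0 := by
  intro h hh v hv
  by_contra hv0
  obtain ⟨h', -, huniq⟩ := hreg v v hv0 hv0
  have h1 := huniq h hv
  have h2 := huniq 1 rfl
  exact hh (h1.trans h2.symm)

theorem card_of_reg [Finite V] [Nontrivial V] (H : Subgroup (V ≃ₗ[ZMod p] V))
    (hreg : ∀ v w : V, v ≠ 0 → w ≠ 0 → ∃! h : H, (h : V ≃ₗ[ZMod p] V) v = w) :
    Nat.card H + 1 = Nat.card V := by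
  classical
  obtain ⟨v₀, hv₀⟩ := exists_ne (0 : V)
  have hne : ∀ h : H, (h : V ≃ₗ[ZMod p] V) v₀ ≠ 0 := by
    intro h e
    exact hv₀ ((h : V ≃ₗ[ZMod p] V).map_eq_zero_iff.mp e)
  let f : H → {w : V // w ≠ 0} := fun h => ⟨(h : V ≃ₗ[ZMod p] V) v₀, hne h⟩
  have hbij : Function.Bijective f := by
    constructor
    · intro a b hab
      have h1 : (a : V ≃ₗ[ZMod p] V) v₀ = (b : V ≃ₗ[ZMod p] V) v₀ := congrArg Subtype.val hab
      obtain ⟨h', -, huniq⟩ := hreg v₀ _ hv₀ (hne b)
      exact (huniq a h1).trans (huniq b rfl).symm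
    · rintro ⟨w, hw⟩
      obtain ⟨h, hh, -⟩ := hreg v₀ w hv₀ hw
      exact ⟨h, Subtype.ext hh⟩
  rw [Nat.card_congr (Equiv.ofBijective f hbij)]
  haveI : Fintype V := Fintype.ofFinite V
  rw [Nat.card_eq_fintype_card, Nat.card_eq_fintype_card,
    Fintype.card_subtype_compl (fun w : V => w = 0), Fintype.card_subtype_eq]
  have : 0 < Fintype.card V := Fintype.card_pos
  omega

theorem nontrivial_baseChange [Finite V] [Nontrivial V] :
    Nontrivial (AlgebraicClosure (ZMod p) ⊗[ZMod p] V) := by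
  haveI : Module.Finite (ZMod p) V := Module.Finite.of_finite
  have h1 : Module.finrank (AlgebraicClosure (ZMod p)) (AlgebraicClosure (ZMod p) ⊗[ZMod p] V) =
      Module.finrank (ZMod p) V := Module.finrank_baseChange
  have h2 : 0 < Module.finrank (ZMod p) V := Module.finrank_pos
  rw [← h1] at h2
  exact Module.nontrivial_of_finrank_pos h2

end

end Cfsg.Agent.Lib.Helper2.Zfp
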