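import Cfsg.Agent.Lib.Helper2.Zfp46

set_option autoImplicit false
set_option linter.style.haveILetI false

/-!
# Zassenhaus: the non-solvable sharply transitive linear groups
-/

namespace Cfsg.Agent.Lib.Helper2.Zfp

open Cfsg.Agent.Lib.Helper2.FpfLinear
open scoped TensorProduct

variable {p : ℕ} [Fact p.Prime] {V : Type*} [AddCommGroup V] [Module (ZMod p) V]

/-- a non-commutative fixed-point-free group `L'` commuting with `C'` moves some minimal
`C'`-invariant subspace off itself -/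
theorem exists_disjoint_translate [Finite V] (C' L' : Subgroup (V ≃ₗ[ZMod p] V))
    (hcomm : ∀ c ∈ C', ∀ l ∈ L', ∀ v : V, c (l v) = l (c v))
    (hfpfL : ∀ l ∈ L', ∀ v : V, v ≠ 0 → l v = v → l = 1)
    (hLnc : ¬ ∀ a ∈ L', ∀ b ∈ L', a * b = b * a)
    (W : Submodule (ZMod p) V) (hWne : W ≠ ⊥)
    (hWinv : ∀ c ∈ (C' : Set (V ≃ₗ[ZMod p] V)), ∀ v ∈ W, c v ∈ W)
    (hWmin : ∀ W' : Submodule (ZMod p) V, W' ≤ W →
      (∀ c ∈ (C' : Set (V ≃ₗ[ZMod p] V)), ∀ v ∈ W', c v ∈ W') → W' = ⊥ ∨ W' = W) :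
    ∃ l ∈ L', ∀ w ∈ W, ∀ w' ∈ W, w = l w' → w = 0 := by
  by_contra hno
  push Not at hno
  -- `L'` stabilizes `W`
  have hstab : ∀ l ∈ L', ∀ w ∈ W, l w ∈ W := by
    intro l hl
    let W' : Submodule (ZMod p) V := W ⊓ W.comap (l : V →ₗ[ZMod p] V)
    have hW'le : W' ≤ W := inf_le_left
    have hW'inv : ∀ c ∈ (C' : Set (V ≃ₗ[ZMod p] V)), ∀ v ∈ W', c v ∈ W' := by
      intro c hc v hv
      refine ⟨hWinv c hc v hv.1, ?_⟩
      show l (c v) ∈ W
      rw [← hcomm c hc l hl v]
      exact hWinv c hc _ hv.2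
    have hW'ne : W' ≠ ⊥ := by
      obtain ⟨w, hw, w', hw', hww', hw0⟩ := hno l⁻¹ (L'.inv_mem hl)
      intro e
      have hmem : w ∈ W' := by
        refine ⟨hw, ?_⟩
        show l w ∈ W
        rw [hww']
        have : l (l⁻¹ w') = w' := by
          show l (l.symm w') = w'
          exact l.apply_symm_apply w'
        rw [this]; exact hw'
      rw [e, Submodule.mem_bot] at hmem
      exact hw0 hmem
    rcases hWmin W' hW'le hW'inv with e | e
    · exact absurd e hW'ne
    · intro w hw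
      have : w ∈ W' := by rw [e]; exact hw
      exact this.2
  apply hLnc
  intro a ha b hb
  obtain ⟨w₀, hw₀W, hw₀⟩ := (Submodule.ne_bot_iff W).mp hWne
  have key := comm_of_commutant (C' : Set (V ≃ₗ[ZMod p] V)) W hWne hWinv hWmin a b
    (hstab a ha) (hstab b hb) (fun c hc v => hcomm c hc a ha v) (fun c hc v => hcomm c hc b hb v)
    w₀ hw₀W
  have h1 : ((b * a)⁻¹ * (a * b)) w₀ = w₀ := by
    show (b * a).symm (a (b w₀)) = w₀
    rw [key]
    exact (b * a).symm_apply_apply w₀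
  have h2 := hfpfL _ (L'.mul_mem (L'.inv_mem (L'.mul_mem hb ha)) (L'.mul_mem ha hb)) w₀ hw₀ h1
  exact (inv_mul_eq_one.mp h2).symm

set_option maxHeartbeats 1600000 in
/-- Zassenhaus: a non-solvable linear group acting regularly on the non-zero vectors of a finite
vector space over a prime field -/
theorem nonsolvable_sharp [Finite V] (H : Subgroup (V ≃ₗ[ZMod p] V))
    (hreg : ∀ v w : V, v ≠ 0 → w ≠ 0 → ∃! h : H, (h : V ≃ₗ[ZMod p] V) v = w)
    (hsolv : ¬ Group.IsSolvable H) :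
    (Nat.card V = 121 ∧ Nonempty (H ≃* Matrix.SpecialLinearGroup (Fin 2) (ZMod 5))) ∨
    (Nat.card V = 841 ∧
      Nonempty (H ≃* Matrix.SpecialLinearGroup (Fin 2) (ZMod 5) × Multiplicative (ZMod 7))) ∨
    (Nat.card V = 3481 ∧
      Nonempty (H ≃* Matrix.SpecialLinearGroup (Fin 2) (ZMod 5) × Multiplicative (ZMod 29))) := by
  have hpp : p.Prime := Fact.out
  haveI : Nontrivial V := by
    by_contra hV
    rw [not_nontrivial_iff_subsingleton] at hV
    apply hsolv
    haveI : Subsingleton H := by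
      refine ⟨fun a b => Subtype.ext ?_⟩
      apply LinearEquiv.ext
      intro v
      exact Subsingleton.elim _ _
    infer_instance
  have hfpf := fpf_of_reg H hreg
  have hfpfα : ∀ g : H, g ≠ 1 → ∀ v : V, linAct H g v = v → v = 0 := fun g hg v hv =>
    hfpf g hg v hv
  haveI := nontrivial_baseChange (p := p) (V := V)
  let R := Rep.ofLinear (AlgebraicClosure (ZMod p)) (linAct H) hfpfα
  -- the perfect core
  obtain ⟨k, hk⟩ := Cfsg.Agent.H9Perfect.exists_perfect_core H
  have hLp : commutator (derivedSeries H k) = ⊤ := Cfsg.Agent.H9Perfect.commutator_core_eq_top k hk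
  have hLne : derivedSeries H k ≠ ⊥ := by
    intro e
    exact hsolv ((isSolvable_def H).mpr ⟨k, e⟩)
  obtain ⟨L, hLn, hLp, hLne⟩ : ∃ L : Subgroup H, L.Normal ∧ commutator L = ⊤ ∧ L ≠ ⊥ :=
    ⟨derivedSeries H k, inferInstance, hLp, hLne⟩
  haveI := hLn
  haveI : Nontrivial L := (Subgroup.nontrivial_iff_ne_bot L).mpr hLne
  obtain ⟨z, t, x, hD⟩ := R.exists_coreData p L hLp hLne
  obtain ⟨eL⟩ := (R.sub L).main p hLp
  set C := Subgroup.centralizer (L : Set H) with hC
  have hi : C.index ∣ 120 := R.index_centralizer_dvd p L hLp hLne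
  have hc2 : 2 ∣ Nat.card C := hD.two_dvd R
  have hc4 : ¬ 4 ∣ Nat.card C := hD.not_four_dvd R
  have hc3 : ¬ 3 ∣ Nat.card C := hD.prime_not_dvd R Nat.prime_three (by norm_num) (by norm_num)
  have hci : Nat.card C * C.index = Nat.card H := C.card_mul_index
  have h120 : 120 ∣ Nat.card H := by
    rw [← hD.card]; exact Subgroup.card_subgroup_dvd_card L
  have hcardH := card_of_reg H hreg
  -- the linear part
  set C' : Subgroup (V ≃ₗ[ZMod p] V) := C.map H.subtype with hC'
  set L' : Subgroup (V ≃ₗ[ZMod p] V) := L.map H.subtype with hL'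
  have hC'card : Nat.card C' = Nat.card C :=
    Subgroup.card_map_of_injective H.subtype_injective
  have hcomm : ∀ c ∈ C', ∀ l ∈ L', ∀ v : V, c (l v) = l (c v) := by
    rintro _ ⟨c, hc, rfl⟩ _ ⟨l, hl, rfl⟩ v
    have h1 : l * c = c * l := Subgroup.mem_centralizer_iff.mp hc l hl
    have h2 := congrArg (fun g : H => (g : V ≃ₗ[ZMod p] V) v) h1
    exact h2.symm
  have hfpfGL : ∀ g : V ≃ₗ[ZMod p] V, g ∈ H → ∀ v : V, v ≠ 0 → g v = v → g = 1 := by
    intro g hg v hv hgv
    by_contra hg1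
    have : (⟨g, hg⟩ : H) ≠ 1 := fun e => hg1 (congrArg Subtype.val e)
    exact hv (hfpf ⟨g, hg⟩ this v hgv)
  have hL'H : ∀ l ∈ L', l ∈ H := by
    rintro _ ⟨l, -, rfl⟩; exact l.2
  have hC'H : ∀ c ∈ C', c ∈ H := by
    rintro _ ⟨c, -, rfl⟩; exact c.2
  have hLnc : ¬ ∀ a ∈ L', ∀ b ∈ L', a * b = b * a := by
    intro hcm
    haveI : Group.IsSolvable L := by
      apply Group.isSolvable_of_comm
      intro a b
      have := hcm _ ⟨a, a.2, rfl⟩ _ ⟨b, b.2, rfl⟩
      apply Subtype.ext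
      apply Subtype.ext
      exact this
    have := subsingleton_of_perfect_of_solvable hLp
    exact not_subsingleton L this
  obtain ⟨W, hWne, -, hWinv, hWmin⟩ := exists_min_invariant (C' : Set (V ≃ₗ[ZMod p] V)) ⊤
    top_ne_bot (fun _ _ _ _ => Submodule.mem_top)
  have hWmin' : ∀ W' : Submodule (ZMod p) V, W' ≤ W →
      (∀ c ∈ (C' : Set (V ≃ₗ[ZMod p] V)), ∀ v ∈ W', c v ∈ W') → W' = ⊥ ∨ W' = W := hWmin
  obtain ⟨l, hl, hdisj⟩ := exists_disjoint_translate C' L' hcomm
    (fun l hl v hv hlv => hfpfGL l (hL'H l hl) v hv hlv) hLnc W hWne hWinv hWmin'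
  have hsq := card_sq_le W l hdisj
  have hcW : Nat.card C' ∣ Nat.card W - 1 :=
    card_dvd_of_fpf C' (fun c hc v hv hcv => hfpfGL c (hC'H c hc) v hv hcv) W hWinv
  rw [hC'card] at hcW
  -- cardinalities as powers of `p`
  haveI : Module.Finite (ZMod p) V := Module.Finite.of_finite
  have hVcard : Nat.card V = p ^ Module.finrank (ZMod p) V := by
    rw [Module.natCard_eq_pow_finrank (K := ZMod p), Nat.card_eq_fintype_card, ZMod.card]
  have hWcard : Nat.card W = p ^ Module.finrank (ZMod p) W := by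
    rw [Module.natCard_eq_pow_finrank (K := ZMod p), Nat.card_eq_fintype_card, ZMod.card]
  have hj : 1 ≤ Module.finrank (ZMod p) W := by
    haveI : Nontrivial W := (Submodule.nontrivial_iff_ne_bot).mpr hWne
    exact Module.finrank_pos
  set n := Module.finrank (ZMod p) V with hn
  set j := Module.finrank (ZMod p) W with hjdef
  rw [hVcard, hWcard] at hsq
  rw [hWcard] at hcW
  have hHcard : Nat.card H = p ^ n - 1 := by omega
  rw [hHcard] at hci h120
  rcases arith689 p n j (Nat.card C) C.index hpp hj hsq hcW hci hi h120 hc2 hc4 hc3 with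
    h1 | ⟨h1, hc⟩ | ⟨h1, hc⟩
  · left
    refine ⟨by rw [hVcard, h1], ?_⟩
    have hLtop : L = ⊤ := by
      apply Subgroup.eq_top_of_card_eq
      rw [hD.card, hHcard, h1]
    exact ⟨(Subgroup.topEquiv.symm.trans ((MulEquiv.subgroupCongr hLtop).symm)).trans eL⟩
  · right; left
    refine ⟨by rw [hVcard, h1], ?_⟩
    haveI : Fact (Nat.Prime 7) := ⟨by norm_num⟩
    obtain ⟨m₀, hm₀⟩ := exists_prime_orderOf_dvd_card' (G := C) 7 (by rw [hc]; norm_num)
    apply exists_prod_equiv L (m₀ : H) 7 (by rw [Subgroup.orderOf_coe, hm₀]) _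
      (by rw [hD.card]; norm_num) (by rw [hD.card, hHcard, h1]) eL
    intro l hl
    exact Subgroup.mem_centralizer_iff.mp m₀.2 l hl
  · right; right
    refine ⟨by rw [hVcard, h1], ?_⟩
    haveI : Fact (Nat.Prime 29) := ⟨by norm_num⟩
    obtain ⟨m₀, hm₀⟩ := exists_prime_orderOf_dvd_card' (G := C) 29 (by rw [hc]; norm_num)
    apply exists_prod_equiv L (m₀ : H) 29 (by rw [Subgroup.orderOf_coe, hm₀]) _
      (by rw [hD.card]; norm_num) (by rw [hD.card, hHcard, h1]) eL
    intro l hl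
    exact Subgroup.mem_centralizer_iff.mp m₀.2 l hl

end Cfsg.Agent.Lib.Helper2.Zfp
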