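import Cfsg.Agent.Lib.Helper2.Zfp47

set_option autoImplicit false
set_option linter.style.haveILetI false

/-!
# Minimal non-abelian normal subgroups of fixed-point-free groups
-/

namespace Cfsg.Agent.Lib.Helper2.Zfp

open scoped commutatorElement
open Cfsg.Agent.Lib.Helper2.QuatSylow

universe u

/-- a finite nilpotent group all of whose Sylow subgroups are commutative is commutative -/
theorem comm_of_nilpotent_of_sylow_comm {N : Type*} [Group N] [Finite N] [Group.IsNilpotent N]
    (h : ∀ (q : ℕ) [Fact q.Prime] (P : Sylow q N), ∀ a ∈ P, ∀ b ∈ P, a * b = b * a) :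
    ∀ a b : N, a * b = b * a := by
  have h5 := (Group.isNilpotent_of_finite_tfae (G := N)).out 0 4
  obtain ⟨e⟩ := h5.mp inferInstance
  intro a b
  apply e.symm.injective
  rw [map_mul, map_mul]
  funext q
  funext P
  haveI : Fact (Nat.Prime q) := ⟨Nat.prime_of_mem_primeFactors q.2⟩
  apply Subtype.ext
  exact h q P _ (e.symm a q P).2 _ (e.symm b q P).2

/-- a generalized quaternion group of class at most two has order at most eight -/
theorem quaternion_class_two {N : Type*} [Group N] (k : ℕ) (e : N ≃* QuaternionGroup (2 ^ k))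
    (hcl : ∀ a b c : N, ⁅a, b⁆ * c = c * ⁅a, b⁆) : k ≤ 1 := by
  set α := e.symm (QuaternionGroup.a 1) with hα
  set β := e.symm (QuaternionGroup.xa 0) with hβ
  have hconj : β * α * β⁻¹ = α⁻¹ := by
    rw [hα, hβ, ← map_inv, ← map_mul, ← map_mul, conj_q, map_inv]
  have hc : ⁅β, α⁆ = α⁻¹ * α⁻¹ := by
    rw [commutatorElement_def, hconj]
  have h1 := hcl β α β
  rw [hc] at h1
  have h2 : β * (α⁻¹ * α⁻¹) * β⁻¹ = α * α := by
    calc β * (α⁻¹ * α⁻¹) * β⁻¹ = (β * α * β⁻¹)⁻¹ * (β * α * β⁻¹)⁻¹ := by group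
      _ = α * α := by rw [hconj, inv_inv]
  have h3 : α⁻¹ * α⁻¹ = α * α := by
    calc α⁻¹ * α⁻¹ = (α⁻¹ * α⁻¹ * β) * β⁻¹ := by group
      _ = β * (α⁻¹ * α⁻¹) * β⁻¹ := by rw [h1]
      _ = α * α := h2
  have h4 : α ^ 4 = 1 := by
    calc α ^ 4 = α * α * (α * α) := by
          rw [show (4 : ℕ) = 2 + 2 from rfl, pow_add, pow_two]
      _ = α * α * (α⁻¹ * α⁻¹) := by rw [h3]
      _ = 1 := by group
  have h5 : (QuaternionGroup.a 1 : QuaternionGroup (2 ^ k)) ^ 4 = 1 := by
    have := congrArg e h4
    rw [map_pow, hα, MulEquiv.apply_symm_apply, map_one] at this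
    exact this
  have h6 := orderOf_dvd_of_pow_eq_one h5
  haveI : NeZero (2 ^ k) := ⟨by positivity⟩
  rw [QuaternionGroup.orderOf_a_one] at h6
  have h7 : 2 * 2 ^ k ≤ 4 := Nat.le_of_dvd (by norm_num) h6
  by_contra hk
  push Not at hk
  have : 2 ^ 2 ≤ 2 ^ k := Nat.pow_le_pow_right (by norm_num) hk
  omega

variable {G : Type u} [Group G] [Finite G] {E : Type*} [Field E] [IsAlgClosed E] {M : Type*}
  [AddCommGroup M] [Module E M] [FiniteDimensional E M] [Nontrivial M]

set_option maxHeartbeats 1600000 in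
/-- a minimal non-abelian normal subgroup centralizing a maximal abelian normal subgroup is a
quaternion group of order eight or `SL(2,5)` -/
theorem Rep.minimal_nonabelian (R : Rep G E M) (p : ℕ) [Fact p.Prime] [CharP E p]
    (A N : Subgroup G) [hAn : A.Normal] (hAc : ∀ a ∈ A, ∀ b ∈ A, a * b = b * a)
    (hAmax : ∀ B : Subgroup G, B.Normal → (∀ a ∈ B, ∀ b ∈ B, a * b = b * a) → A ≤ B → B = A)
    [hNn : N.Normal] (hNle : N ≤ Subgroup.centralizer (A : Set G))
    (hNna : ¬ ∀ a ∈ N, ∀ b ∈ N, a * b = b * a)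
    (hNmin : ∀ K : Subgroup G, K.Normal → K ≤ N → (¬ ∀ a ∈ K, ∀ b ∈ K, a * b = b * a) → K = N) :
    Nonempty (N ≃* QuaternionGroup 2) ∨
      Nonempty (N ≃* Matrix.SpecialLinearGroup (Fin 2) (ZMod 5)) := by
  haveI : Fact (Nat.Prime 2) := ⟨Nat.prime_two⟩
  have hNne : N ≠ ⊥ := by
    rintro rfl
    apply hNna
    intro a ha b hb
    rw [Subgroup.mem_bot] at ha hb
    rw [ha, hb]
  have hN'le : ⁅N, N⁆ ≤ N := Subgroup.commutator_le_left N N
  by_cases hNN : ⁅N, N⁆ = N
  · right
    have hperf : commutator N = ⊤ := by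
      apply Subgroup.map_injective N.subtype_injective
      rw [commutator_def, Subgroup.map_commutator, ← MonoidHom.range_eq_map,
        Subgroup.range_subtype, hNN]
    haveI : Nontrivial N := (Subgroup.nontrivial_iff_ne_bot N).mpr hNne
    exact (R.sub N).main p hperf
  · left
    have hN'c : ∀ a ∈ ⁅N, N⁆, ∀ b ∈ ⁅N, N⁆, a * b = b * a := by
      by_contra hnc
      exact hNN (hNmin _ inferInstance hN'le hnc)
    -- the commutator subgroup lies in `A`
    have hN'A : ⁅N, N⁆ ≤ A := by
      have hB : A ⊔ ⁅N, N⁆ = A := by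
        apply hAmax _ inferInstance _ le_sup_left
        have hcomm : ∀ a ∈ ((A : Set G) ∪ ((⁅N, N⁆ : Subgroup G) : Set G)),
            ∀ b ∈ ((A : Set G) ∪ ((⁅N, N⁆ : Subgroup G) : Set G)), a * b = b * a := by
          rintro a (ha | ha) b (hb | hb)
          · exact hAc a ha b hb
          · exact Subgroup.mem_centralizer_iff.mp (hNle (hN'le hb)) a ha
          · exact (Subgroup.mem_centralizer_iff.mp (hNle (hN'le ha)) b hb).symm
          · exact hN'c a ha b hb
        rw [← Subgroup.closure_eq A, ← Subgroup.closure_eq ⁅N, N⁆, ← Subgroup.closure_union]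
        intro a ha b hb
        have h1 : (⟨a, ha⟩ : Subgroup.closure ((A : Set G) ∪ ((⁅N, N⁆ : Subgroup G) : Set G))) * ⟨b, hb⟩ =
            ⟨b, hb⟩ * ⟨a, ha⟩ := by
          haveI := Subgroup.isMulCommutative_closure hcomm
          exact mul_comm' _ _
        exact congrArg Subtype.val h1
      rw [← hB]; exact le_sup_right
    have hcen : ∀ u ∈ ⁅N, N⁆, ∀ n ∈ N, u * n = n * u := by
      intro u hu n hn
      exact Subgroup.mem_centralizer_iff.mp (hNle hn) u (hN'A hu)
    have hcl : ∀ a b c : N, ⁅a, b⁆ * c = c * ⁅a, b⁆ := by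
      intro a b c
      apply Subtype.ext
      have hmem : ((⁅a, b⁆ : N) : G) ∈ ⁅N, N⁆ := by
        have : ((⁅a, b⁆ : N) : G) = ⁅(a : G), (b : G)⁆ := by
          simp [commutatorElement_def]
        rw [this]
        exact Subgroup.commutator_mem_commutator a.2 b.2
      exact hcen _ hmem c c.2
    -- `N` is nilpotent
    haveI hnil : Group.IsNilpotent N := by
      apply Subgroup.isNilpotent_of_ker_le_center (Abelianization.of (G := N))
      intro n hn
      rw [Abelianization.ker_of] at hn
      rw [Subgroup.mem_center_iff]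
      intro c
      have hmem : (n : G) ∈ ⁅N, N⁆ := by
        have h1 : (commutator N).map N.subtype = ⁅N, N⁆ := by
          rw [commutator_def, Subgroup.map_commutator, ← MonoidHom.range_eq_map,
            Subgroup.range_subtype]
        rw [← h1]
        exact ⟨n, hn, rfl⟩
      exact Subtype.ext (hcen _ hmem c c.2).symm
    -- some Sylow subgroup is non-commutative
    have hex : ∃ (q : ℕ) (_ : Fact q.Prime) (P : Sylow q N), ¬ ∀ a ∈ P, ∀ b ∈ P, a * b = b * a := by
      by_contra hno
      push Not at hno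
      apply hNna
      have := comm_of_nilpotent_of_sylow_comm (N := N) (fun q _ P => hno q inferInstance P)
      intro a ha b hb
      exact congrArg Subtype.val (this ⟨a, ha⟩ ⟨b, hb⟩)
    obtain ⟨q, hq, P, hPnc⟩ := hex
    haveI := hq
    haveI hPn : (P : Subgroup N).Normal := inferInstance
    haveI hPchar : (P : Subgroup N).Characteristic := P.characteristic_of_normal hPn
    have hPmapn : ((P : Subgroup N).map N.subtype).Normal := inferInstance
    have hPmaple : (P : Subgroup N).map N.subtype ≤ N := Subgroup.map_subtype_le _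
    have hPmapnc : ¬ ∀ a ∈ (P : Subgroup N).map N.subtype,
        ∀ b ∈ (P : Subgroup N).map N.subtype, a * b = b * a := by
      intro hc
      apply hPnc
      intro a ha b hb
      apply Subtype.ext
      exact hc _ ⟨a, ha, rfl⟩ _ ⟨b, hb, rfl⟩
    have hPN := hNmin _ hPmapn hPmaple hPmapnc
    have hPtop : (P : Subgroup N) = ⊤ := by
      apply Subgroup.map_injective N.subtype_injective
      rw [hPN, ← MonoidHom.range_eq_map, Subgroup.range_subtype]
    rcases (R.sub N).pgroup_structure q (P : Subgroup N) P.2 with hc | ⟨-, k, ⟨e⟩⟩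
    · exfalso
      apply hPnc
      intro a ha b hb
      exact commute_of_isCyclic _ hc ha hb
    · let e' : N ≃* QuaternionGroup (2 ^ k) :=
        (Subgroup.topEquiv.symm.trans (MulEquiv.subgroupCongr hPtop).symm).trans e
      have hk1 := quaternion_class_two k e' hcl
      have hk0 : k ≠ 0 := by
        rintro rfl
        apply hNna
        haveI : IsCyclic (QuaternionGroup (2 ^ 0)) := QuaternionGroup.quaternionGroup_one_isCyclic
        haveI : IsCyclic N := isCyclic_of_surjective e'.symm e'.symm.surjective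
        intro a ha b hb
        have h1 : (⟨a, ha⟩ : N) * ⟨b, hb⟩ = ⟨b, hb⟩ * ⟨a, ha⟩ := by
          obtain ⟨g, hg⟩ := IsCyclic.exists_generator (α := N)
          obtain ⟨i, hi⟩ := Subgroup.mem_zpowers_iff.mp (hg ⟨a, ha⟩)
          obtain ⟨j, hj⟩ := Subgroup.mem_zpowers_iff.mp (hg ⟨b, hb⟩)
          rw [← hi, ← hj]
          exact ((Commute.refl g).zpow_zpow i j).eq
        exact congrArg Subtype.val h1
      have hk : k = 1 := by omega
      subst hk
      exact ⟨e'⟩

end Cfsg.Agent.Lib.Helper2.Zfp
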