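import Cfsg.Agent.Lib.Helper2.Zfp48

set_option autoImplicit false
set_option linter.style.haveILetI false

/-!
# Sharply transitive linear groups: minimal non-abelian normal subgroups
-/

namespace Cfsg.Agent.Lib.Helper2.Zfp

open Cfsg.Agent.Lib.Helper2.FpfLinear
open scoped TensorProduct

variable {p : ℕ} [Fact p.Prime] {V : Type*} [AddCommGroup V] [Module (ZMod p) V]

theorem comm_iff {G : Type*} [Group G] (K : Subgroup G) :
    IsMulCommutative K ↔ ∀ a ∈ K, ∀ b ∈ K, a * b = b * a := by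
  constructor
  · intro h a ha b hb
    exact congrArg Subtype.val (mul_comm' (⟨a, ha⟩ : K) ⟨b, hb⟩)
  · intro h
    exact ⟨⟨fun a b => Subtype.ext (h a a.2 b b.2)⟩⟩

theorem sharp_minimal_nonabelian [Finite V] (H : Subgroup (V ≃ₗ[ZMod p] V))
    (hreg : ∀ v w : V, v ≠ 0 → w ≠ 0 → ∃! h : H, (h : V ≃ₗ[ZMod p] V) v = w)
    (A : Subgroup H) (hAn : A.Normal) (hAc : IsMulCommutative A)
    (hAmax : ∀ B : Subgroup H, B.Normal → IsMulCommutative B → A ≤ B → B = A) (N : Subgroup H)
    (hNn : N.Normal) (hNle : N ≤ Subgroup.centralizer (A : Set H)) (hNna : ¬ IsMulCommutative N)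
    (hNmin : ∀ M : Subgroup H, M.Normal → M ≤ N → ¬ IsMulCommutative M → M = N) :
    Nonempty (N ≃* QuaternionGroup 2) ∨
      Nonempty (N ≃* Matrix.SpecialLinearGroup (Fin 2) (ZMod 5)) := by
  haveI : Nontrivial V := by
    by_contra hV
    rw [not_nontrivial_iff_subsingleton] at hV
    apply hNna
    refine ⟨⟨fun a b => ?_⟩⟩
    apply Subtype.ext; apply Subtype.ext; apply LinearEquiv.ext
    intro v
    exact Subsingleton.elim _ _
  have hfpf := fpf_of_reg H hreg
  have hfpfα : ∀ g : H, g ≠ 1 → ∀ v : V, linAct H g v = v → v = 0 := fun g hg v hv =>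
    hfpf g hg v hv
  haveI := nontrivial_baseChange (p := p) (V := V)
  let R := Rep.ofLinear (AlgebraicClosure (ZMod p)) (linAct H) hfpfα
  haveI := hAn
  haveI := hNn
  apply R.minimal_nonabelian p A N ((comm_iff A).mp hAc) _ hNle
    (fun h => hNna ((comm_iff N).mpr h))
  · intro K hKn hKle hKnc
    exact hNmin K hKn hKle (fun h => hKnc ((comm_iff K).mp h))
  · intro B hBn hBc hAB
    exact hAmax B hBn ((comm_iff B).mpr hBc) hAB

end Cfsg.Agent.Lib.Helper2.Zfp
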