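import Cfsg.Agent.Lib.Helper2.Zfp4

set_option autoImplicit false
set_option linter.style.haveILetI false

/-!
# Fixed-point-free representations: helper lemmas for the pair analysis
-/

namespace Cfsg.Agent.Lib.Helper2.Zfp

variable {G : Type*} [Group G] {E : Type*} [Field E] {M : Type*} [AddCommGroup M] [Module E M]

/-- elements of order three have "trace" `-1` -/
theorem Rep.trace_of_cube (R : Rep G E M) {x : G} (hx : x ≠ 1) (h3 : x ^ 3 = 1) :
    R.ρ x + R.ρ x⁻¹ = (-1 : E) • (1 : Module.End E M) := by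
  have h := R.ρ_cube hx h3
  have h1 : R.ρ x⁻¹ * R.ρ x = 1 := by rw [← map_mul, inv_mul_cancel, map_one]
  have h2 : R.ρ x⁻¹ * (R.ρ x * R.ρ x + R.ρ x + 1) = R.ρ x + 1 + R.ρ x⁻¹ := by
    rw [mul_add, mul_add, ← mul_assoc, h1, one_mul, mul_one]
  rw [h, mul_zero] at h2
  have h3 : R.ρ x + R.ρ x⁻¹ = -1 := by
    have : R.ρ x + R.ρ x⁻¹ + 1 = 0 := by rw [h2]; abel
    exact eq_neg_of_add_eq_zero_left this
  rw [h3, neg_smul, one_smul]

/-- elements whose square is the involution have "trace" `0` -/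
theorem Rep.trace_of_sq (R : Rep G E M) {t : G} (h2 : t * t ≠ 1) (h4 : t ^ 4 = 1) :
    R.ρ t + R.ρ t⁻¹ = (0 : E) • (1 : Module.End E M) := by
  have h := R.ρ_sq_eq_neg_one h2 h4
  have h1 : R.ρ t⁻¹ * R.ρ t = 1 := by rw [← map_mul, inv_mul_cancel, map_one]
  have h3 : R.ρ t⁻¹ * (R.ρ t * R.ρ t) = R.ρ t := by rw [← mul_assoc, h1, one_mul]
  rw [h, mul_neg, mul_one] at h3
  rw [zero_smul, ← h3, neg_add_cancel]

/-- invariance of a subspace passes to the generated subgroup -/
theorem Rep.invariant_closure [Finite G] (R : Rep G E M) (S : Set G) (U : Submodule E M)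
    (h : ∀ g ∈ S, ∀ u ∈ U, R.ρ g u ∈ U) : ∀ g ∈ Subgroup.closure S, ∀ u ∈ U, R.ρ g u ∈ U := by
  have hpow : ∀ g : G, (∀ u ∈ U, R.ρ g u ∈ U) → ∀ n : ℕ, ∀ u ∈ U, R.ρ (g ^ n) u ∈ U := by
    intro g hg n
    induction n with
    | zero => intro u hu; rw [pow_zero, R.ρ_one_apply]; exact hu
    | succ n ih =>
      intro u hu
      rw [pow_succ, R.ρ_mul_apply]
      exact ih _ (hg u hu)
  intro g hg
  induction hg using Subgroup.closure_induction with
  | mem g hg => exact h g hg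
  | one => intro u hu; rw [R.ρ_one_apply]; exact hu
  | mul a b _ _ ha hb =>
    intro u hu
    rw [R.ρ_mul_apply]
    exact ha _ (hb u hu)
  | inv a _ ha =>
    have : a⁻¹ = a ^ (orderOf a - 1) := by
      rw [inv_eq_iff_mul_eq_one, ← pow_succ', Nat.sub_add_cancel (orderOf_pos a),
        pow_orderOf_eq_one]
    rw [this]
    exact hpow a ha _

/-- commuting elements of prime order generate the same subgroup -/
theorem Rep.mem_zpowers_of_commute_prime [IsAlgClosed E] [FiniteDimensional E M] [Nontrivial M]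
    (R : Rep G E M) {p : ℕ} (hp : p.Prime) {x g : G} (hx : x ^ p = 1) (hx1 : x ≠ 1)
    (hg : g ^ p = 1) (hc : g * x = x * g) : g ∈ Subgroup.zpowers x := by
  have hl : [R.ρ x, R.ρ g].Pairwise Commute := by
    rw [List.pairwise_cons]
    refine ⟨?_, by simp⟩
    intro f hf
    rw [List.mem_singleton] at hf
    rw [hf]
    show R.ρ x * R.ρ g = R.ρ g * R.ρ x
    rw [← map_mul, ← map_mul, hc]
  obtain ⟨v, -, hv, hvl⟩ := exists_common_eigenvector [R.ρ x, R.ρ g] hl ⊤ top_ne_bot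
    (fun _ _ _ _ => Submodule.mem_top)
  obtain ⟨lam, hlam⟩ := hvl (R.ρ x) (by simp)
  obtain ⟨kap, hkap⟩ := hvl (R.ρ g) (by simp)
  have hinj : ∀ c d : E, c • v = d • v → c = d := fun c d hcd => smul_left_injective E hv hcd
  have hlam_p : lam ^ p = 1 := by
    apply hinj
    rw [← R.eigen_pow hlam, hx, R.ρ_one_apply, one_smul]
  have hkap_p : kap ^ p = 1 := by
    apply hinj
    rw [← R.eigen_pow hkap, hg, R.ρ_one_apply, one_smul]
  have hlam1 : lam ≠ 1 := by
    intro h1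
    rw [h1, one_smul] at hlam
    exact hx1 (R.eq_one_of_fixed hv hlam)
  haveI : Fact p.Prime := ⟨hp⟩
  have hord : orderOf lam = p := orderOf_eq_prime hlam_p hlam1
  have hprim : IsPrimitiveRoot lam p := by
    rw [← hord]
    exact IsPrimitiveRoot.orderOf lam
  haveI : NeZero p := ⟨hp.ne_zero⟩
  obtain ⟨i, -, hi⟩ := hprim.eq_pow_of_pow_eq_one hkap_p
  have : g = x ^ i := by
    apply R.eq_of_apply_eq hv
    rw [hkap, R.eigen_pow hlam, hi]
  rw [this]
  exact Subgroup.pow_mem _ (Subgroup.mem_zpowers x) i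

end Cfsg.Agent.Lib.Helper2.Zfp
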