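import Cfsg.Agent.Lib.Helper2.Zfp49

set_option autoImplicit false
set_option linter.style.haveILetI false

/-!
# Spreads of minimal invariant subspaces force commutativity
-/

namespace Cfsg.Agent.Lib.Helper2.Zfp

variable {p : ℕ} [Fact p.Prime] {V : Type*} [AddCommGroup V] [Module (ZMod p) V]

/-- invariance of a subspace under a set of automorphisms -/
def SInv (S : Set (V ≃ₗ[ZMod p] V)) (W : Submodule (ZMod p) V) : Prop :=
  ∀ c ∈ S, ∀ w ∈ W, c w ∈ W

/-- minimal non-zero invariant subspaces -/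
def SMin (S : Set (V ≃ₗ[ZMod p] V)) (W : Submodule (ZMod p) V) : Prop :=
  SInv S W ∧ W ≠ ⊥ ∧ ∀ W' : Submodule (ZMod p) V, W' ≤ W → SInv S W' → W' = ⊥ ∨ W' = W

theorem SInv.inf {S : Set (V ≃ₗ[ZMod p] V)} {W₁ W₂ : Submodule (ZMod p) V} (h₁ : SInv S W₁)
    (h₂ : SInv S W₂) : SInv S (W₁ ⊓ W₂) :=
  fun c hc w hw => ⟨h₁ c hc w hw.1, h₂ c hc w hw.2⟩

theorem SMin.eq_of_inf_ne_bot {S : Set (V ≃ₗ[ZMod p] V)} {W₁ W₂ : Submodule (ZMod p) V}
    (h₁ : SMin S W₁) (h₂ : SMin S W₂) (h : W₁ ⊓ W₂ ≠ ⊥) : W₁ = W₂ := by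
  have hinv := h₁.1.inf h₂.1
  apply le_antisymm
  · rcases h₁.2.2 _ inf_le_left hinv with e | e
    · exact absurd e h
    · rw [← e]; exact inf_le_right
  · rcases h₂.2.2 _ inf_le_right hinv with e | e
    · exact absurd e h
    · rw [← e]; exact inf_le_left

/-- the algebra of endomorphisms preserving every invariant subspace -/
def invAlg (S : Set (V ≃ₗ[ZMod p] V)) : Subalgebra (ZMod p) (Module.End (ZMod p) V) where
  carrier := {f | ∀ W : Submodule (ZMod p) V, SInv S W → ∀ w ∈ W, f w ∈ W}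
  mul_mem' := fun hf hg W hW w hw => hf W hW _ (hg W hW w hw)
  add_mem' := fun hf hg W hW w hw => W.add_mem (hf W hW w hw) (hg W hW w hw)
  algebraMap_mem' := fun r W _ w hw => by
    rw [Module.algebraMap_end_apply]; exact W.smul_mem r hw

theorem mem_invAlg {S : Set (V ≃ₗ[ZMod p] V)} {f : Module.End (ZMod p) V} :
    f ∈ invAlg S ↔ ∀ W : Submodule (ZMod p) V, SInv S W → ∀ w ∈ W, f w ∈ W := Iff.rfl

theorem coe_mem_invAlg {S : Set (V ≃ₗ[ZMod p] V)} {c : V ≃ₗ[ZMod p] V} (hc : c ∈ S) :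
    ((c : V ≃ₗ[ZMod p] V) : V →ₗ[ZMod p] V) ∈ invAlg S :=
  fun _ hW w hw => hW c hc w hw

variable (S : Set (V ≃ₗ[ZMod p] V))
  (hspread : ∀ v : V, v ≠ 0 → ∃ W : Submodule (ZMod p) V, v ∈ W ∧ SMin S W)

include hspread in
/-- transfer of annihilation between two independent minimal subspaces -/
theorem invAlg_step {f : Module.End (ZMod p) V} (hf : f ∈ invAlg S)
    {Wa Wb : Submodule (ZMod p) V} (ha : SMin S Wa) (hb : SMin S Wb) (hab : Wa ⊓ Wb = ⊥)
    {a b : V} (haW : a ∈ Wa) (ha0 : a ≠ 0) (hbW : b ∈ Wb) (hfa : f a = 0) : f b = 0 := by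
  by_contra hfb
  have hne : a + b ≠ 0 := by
    intro e
    have hb' : b = -a := (neg_eq_of_add_eq_zero_right e).symm ▸ rfl
    have : a ∈ Wa ⊓ Wb := by
      refine ⟨haW, ?_⟩
      have h1 : a = -b := by rw [hb', neg_neg]
      rw [h1]; exact Wb.neg_mem hbW
    rw [hab, Submodule.mem_bot] at this
    exact ha0 this
  obtain ⟨W₃, h3mem, h3⟩ := hspread (a + b) hne
  have h1 : f (a + b) = f b := by rw [map_add, hfa, zero_add]
  have h2 : f b ∈ W₃ := by rw [← h1]; exact hf W₃ h3.1 _ h3mem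
  have h4 : f b ∈ Wb := hf Wb hb.1 _ hbW
  have h5 : Wb ⊓ W₃ ≠ ⊥ := by
    intro e
    have : f b ∈ Wb ⊓ W₃ := ⟨h4, h2⟩
    rw [e, Submodule.mem_bot] at this
    exact hfb this
  have h6 : Wb = W₃ := hb.eq_of_inf_ne_bot h3 h5
  have h7 : a ∈ Wb := by
    have : a = (a + b) - b := by abel
    rw [this]
    exact Wb.sub_mem (h6 ▸ h3mem) hbW
  have : a ∈ Wa ⊓ Wb := ⟨haW, h7⟩
  rw [hab, Submodule.mem_bot] at this
  exact ha0 this

include hspread in
/-- an element of the algebra killing a non-zero vector is zero -/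
theorem invAlg_eq_zero (W₀ : Submodule (ZMod p) V) (hW₀ : SInv S W₀) (hW₀b : W₀ ≠ ⊥)
    (hW₀t : W₀ ≠ ⊤) {f : Module.End (ZMod p) V} (hf : f ∈ invAlg S) {v₀ : V} (hv₀ : v₀ ≠ 0)
    (hfv : f v₀ = 0) : f = 0 := by
  apply LinearMap.ext
  intro u
  rw [LinearMap.zero_apply]
  by_cases hu : u = 0
  · rw [hu, map_zero]
  obtain ⟨Wv, hvmem, hv⟩ := hspread v₀ hv₀
  obtain ⟨Wu, humem, hu'⟩ := hspread u hu
  by_cases hinf : Wv ⊓ Wu = ⊥
  · exact invAlg_step S hspread hf hv hu' hinf hvmem hv₀ humem hfv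
  · have heq : Wv = Wu := hv.eq_of_inf_ne_bot hu' hinf
    have hWt : Wu ≠ ⊤ := by
      intro e
      rcases hu'.2.2 W₀ (by rw [e]; exact le_top) hW₀ with h | h
      · exact hW₀b h
      · exact hW₀t (h.trans e)
    obtain ⟨c, hc⟩ : ∃ c : V, c ∉ Wu := by
      by_contra hcon
      push Not at hcon
      exact hWt (eq_top_iff.mpr fun x _ => hcon x)
    have hc0 : c ≠ 0 := by
      rintro rfl
      exact hc Wu.zero_mem
    obtain ⟨Wc, hcmem, hc'⟩ := hspread c hc0
    have hinf' : Wu ⊓ Wc = ⊥ := by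
      by_contra hne
      have := hu'.eq_of_inf_ne_bot hc' hne
      exact hc (this ▸ hcmem)
    have h1 : f c = 0 :=
      invAlg_step S hspread hf hv hc' (heq ▸ hinf') hvmem hv₀ hcmem hfv
    have hinf'' : Wc ⊓ Wu = ⊥ := by rw [inf_comm]; exact hinf'
    exact invAlg_step S hspread hf hc' hu' hinf'' hcmem hc0 humem h1

include hspread in
/-- a spread of minimal invariant subspaces of a reducible set of automorphisms forces the
automorphisms to commute -/
theorem comm_of_spread [Finite V] (W₀ : Submodule (ZMod p) V) (hW₀ : SInv S W₀) (hW₀b : W₀ ≠ ⊥)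
    (hW₀t : W₀ ≠ ⊤) : ∀ c ∈ S, ∀ d ∈ S, ∀ v : V, c (d v) = d (c v) := by
  classical
  obtain ⟨w₀, hw₀W, hw₀⟩ := (Submodule.ne_bot_iff W₀).mp hW₀b
  let R := invAlg S
  haveI : Finite (Module.End (ZMod p) V) :=
    Finite.of_injective (fun f => (f : V → V)) DFunLike.coe_injective
  haveI : Finite R := Subtype.finite
  haveI : Nontrivial R := by
    refine ⟨⟨0, 1, ?_⟩⟩
    intro h
    have h1 : ((0 : R) : Module.End (ZMod p) V) w₀ = ((1 : R) : Module.End (ZMod p) V) w₀ := by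
      rw [h]
    have h2 : ((0 : R) : Module.End (ZMod p) V) = 0 := rfl
    have h3 : ((1 : R) : Module.End (ZMod p) V) = 1 := rfl
    rw [h2, h3, LinearMap.zero_apply, Module.End.one_apply] at h1
    exact hw₀ h1.symm
  haveI : NoZeroDivisors R := by
    refine ⟨fun {f g} hfg => ?_⟩
    by_cases hg : g = 0
    · exact Or.inr hg
    left
    have hg' : (g : Module.End (ZMod p) V) ≠ 0 := fun e => hg (Subtype.ext e)
    obtain ⟨v, hv⟩ : ∃ v : V, (g : Module.End (ZMod p) V) v ≠ 0 := by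
      by_contra hcon
      push Not at hcon
      exact hg' (LinearMap.ext hcon)
    apply Subtype.ext
    apply invAlg_eq_zero S hspread W₀ hW₀ hW₀b hW₀t f.2 hv
    have h1 : ((f * g : R) : Module.End (ZMod p) V) v = ((0 : R) : Module.End (ZMod p) V) v := by
      rw [hfg]
    have h2 : ((f * g : R) : Module.End (ZMod p) V) =
        (f : Module.End (ZMod p) V) * (g : Module.End (ZMod p) V) := rfl
    have h3 : ((0 : R) : Module.End (ZMod p) V) = 0 := rfl
    rw [h2, h3, Module.End.mul_apply, LinearMap.zero_apply] at h1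
    exact h1
  haveI : IsDomain R := NoZeroDivisors.to_isDomain R
  have hfield := Finite.isDomain_to_isField R
  intro c hc d hd v
  have hcomm := hfield.mul_comm (⟨_, coe_mem_invAlg hc⟩ : R) ⟨_, coe_mem_invAlg hd⟩
  have h1 := congrArg (fun f : R => (f : Module.End (ZMod p) V) v) hcomm
  exact h1

end Cfsg.Agent.Lib.Helper2.Zfp
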