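import Cfsg.Agent.Lib.Helper2.Zfp52

set_option autoImplicit false
set_option linter.style.haveILetI false

/-!
# Irreducibility of non-abelian normal subgroups of sharply transitive linear groups
-/

namespace Cfsg.Agent.Lib.Helper2.Zfp

variable {p : ℕ} [Fact p.Prime] {V : Type*} [AddCommGroup V] [Module (ZMod p) V]

/-- the set of automorphisms given by a subgroup of a linear group -/
def subSet (H : Subgroup (V ≃ₗ[ZMod p] V)) (N : Subgroup H) : Set (V ≃ₗ[ZMod p] V) :=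
  {c | ∃ n : H, n ∈ N ∧ c = (n : V ≃ₗ[ZMod p] V)}

theorem sInv_subSet_iff (H : Subgroup (V ≃ₗ[ZMod p] V)) (N : Subgroup H)
    (W : Submodule (ZMod p) V) :
    SInv (subSet H N) W ↔ ∀ n ∈ N, ∀ v ∈ W, ((n : H) : V ≃ₗ[ZMod p] V) v ∈ W := by
  constructor
  · intro h n hn v hv
    exact h _ ⟨n, hn, rfl⟩ v hv
  · rintro h _ ⟨n, hn, rfl⟩ v hv
    exact h n hn v hv

theorem exists_sMin [Finite V] (S : Set (V ≃ₗ[ZMod p] V)) (W : Submodule (ZMod p) V)
    (hW : SInv S W) (hWb : W ≠ ⊥) : ∃ W₁ : Submodule (ZMod p) V, SMin S W₁ := by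
  classical
  let P : ℕ → Prop := fun n => ∃ W' : Submodule (ZMod p) V, SInv S W' ∧ W' ≠ ⊥ ∧ Nat.card W' = n
  have hP : ∃ n, P n := ⟨_, W, hW, hWb, rfl⟩
  obtain ⟨W₁, h1, h2, h3⟩ := Nat.find_spec hP
  refine ⟨W₁, h1, h2, ?_⟩
  intro W' hle hinv
  by_cases hb : W' = ⊥
  · exact Or.inl hb
  right
  have hmin : Nat.find hP ≤ Nat.card W' := Nat.find_min' hP ⟨W', hinv, hb, rfl⟩
  rw [← h3] at hmin
  have hle' : W'.toAddSubgroup ≤ W₁.toAddSubgroup := fun x hx => hle hx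
  have := AddSubgroup.eq_of_le_of_card_ge hle' hmin
  exact Submodule.toAddSubgroup_injective this

theorem spread_of_reg [Finite V] (H : Subgroup (V ≃ₗ[ZMod p] V))
    (hreg : ∀ v w : V, v ≠ 0 → w ≠ 0 → ∃! h : H, (h : V ≃ₗ[ZMod p] V) v = w)
    (N : Subgroup H) (hNn : N.Normal) (W : Submodule (ZMod p) V)
    (hW : SInv (subSet H N) W) (hWb : W ≠ ⊥) :
    ∀ v : V, v ≠ 0 → ∃ W' : Submodule (ZMod p) V, v ∈ W' ∧ SMin (subSet H N) W' := by
  obtain ⟨W₁, h1, h2, h3⟩ := exists_sMin (subSet H N) W hW hWb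
  obtain ⟨w₁, hw₁W, hw₁⟩ := (Submodule.ne_bot_iff W₁).mp h2
  rw [sInv_subSet_iff] at h1
  intro v hv
  obtain ⟨h, hh, -⟩ := hreg w₁ v hw₁ hv
  have hconj : ∀ n ∈ N, ∀ y : V, ((n : H) : V ≃ₗ[ZMod p] V) ((h : V ≃ₗ[ZMod p] V) y) =
      (h : V ≃ₗ[ZMod p] V) (((h⁻¹ * n * h : H) : V ≃ₗ[ZMod p] V) y) := by
    intro n _ y
    have e : (h * (h⁻¹ * n * h) : H) = n * h := by group
    have := congrArg (fun g : H => (g : V ≃ₗ[ZMod p] V) y) e
    exact this.symm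
  have hconj' : ∀ n ∈ N, ∀ y : V, (h : V ≃ₗ[ZMod p] V) (((n : H) : V ≃ₗ[ZMod p] V) y) =
      ((h * n * h⁻¹ : H) : V ≃ₗ[ZMod p] V) ((h : V ≃ₗ[ZMod p] V) y) := by
    intro n _ y
    have e : (h * n * h⁻¹ * h : H) = h * n := by group
    have := congrArg (fun g : H => (g : V ≃ₗ[ZMod p] V) y) e
    exact this.symm
  refine ⟨W₁.map ((h : V ≃ₗ[ZMod p] V) : V →ₗ[ZMod p] V), ⟨w₁, hw₁W, hh⟩, ?_, ?_, ?_⟩
  · rw [sInv_subSet_iff]
    rintro n hn _ ⟨y, hy, rfl⟩
    refine ⟨((h⁻¹ * n * h : H) : V ≃ₗ[ZMod p] V) y, h1 _ ?_ y hy, (hconj n hn y).symm⟩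
    have := hNn.conj_mem n hn h⁻¹
    simpa using this
  · intro e
    have : v ∈ W₁.map ((h : V ≃ₗ[ZMod p] V) : V →ₗ[ZMod p] V) := ⟨w₁, hw₁W, hh⟩
    rw [e, Submodule.mem_bot] at this
    exact hv this
  · intro W' hle hinv
    rw [sInv_subSet_iff] at hinv
    have hinv'' : SInv (subSet H N) (W'.comap ((h : V ≃ₗ[ZMod p] V) : V →ₗ[ZMod p] V) ⊓ W₁) := by
      rw [sInv_subSet_iff]
      intro n hn y hy
      refine ⟨?_, h1 n hn y hy.2⟩
      show (h : V ≃ₗ[ZMod p] V) (((n : H) : V ≃ₗ[ZMod p] V) y) ∈ W'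
      rw [hconj' n hn y]
      exact hinv _ (hNn.conj_mem n hn h) _ hy.1
    rcases h3 _ inf_le_right hinv'' with e | e
    · left
      rw [eq_bot_iff]
      intro x hx
      obtain ⟨y, hy, rfl⟩ := hle hx
      have : y ∈ W'.comap ((h : V ≃ₗ[ZMod p] V) : V →ₗ[ZMod p] V) ⊓ W₁ := ⟨hx, hy⟩
      rw [e, Submodule.mem_bot] at this
      rw [this, Submodule.mem_bot]
      exact map_zero _
    · right
      apply le_antisymm hle
      rintro _ ⟨y, hy, rfl⟩
      rw [← e] at hy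
      exact hy.1

theorem sharp_irreducible [Finite V] (H : Subgroup (V ≃ₗ[ZMod p] V))
    (hreg : ∀ v w : V, v ≠ 0 → w ≠ 0 → ∃! h : H, (h : V ≃ₗ[ZMod p] V) v = w)
    (N : Subgroup H) (hNn : N.Normal) (hNna : ¬ IsMulCommutative N) :
    ∀ W : Submodule (ZMod p) V,
      (∀ n ∈ N, ∀ v ∈ W, ((n : H) : V ≃ₗ[ZMod p] V) v ∈ W) → W = ⊥ ∨ W = ⊤ := by
  intro W hW
  by_contra hcon
  push Not at hcon
  rw [← sInv_subSet_iff] at hW
  have hspread := spread_of_reg H hreg N hNn W hW hcon.1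
  have hcomm := comm_of_spread (subSet H N) hspread W hW hcon.1 hcon.2
  apply hNna
  rw [comm_iff]
  intro a ha b hb
  apply Subtype.ext
  apply LinearEquiv.ext
  intro v
  exact hcomm _ ⟨a, ha, rfl⟩ _ ⟨b, hb, rfl⟩ v

theorem sharp_centralizer [Finite V] (H : Subgroup (V ≃ₗ[ZMod p] V))
    (hreg : ∀ v w : V, v ≠ 0 → w ≠ 0 → ∃! h : H, (h : V ≃ₗ[ZMod p] V) v = w)
    (A : Subgroup H) (hAmax : ∀ B : Subgroup H, B.Normal → IsMulCommutative B → A ≤ B → B = A)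
    (N : Subgroup H) (hNn : N.Normal) (hNle : N ≤ Subgroup.centralizer (A : Set H))
    (hNna : ¬ IsMulCommutative N) : Subgroup.centralizer (N : Set H) = A := by
  have hirr := sharp_irreducible H hreg N hNn hNna
  haveI : Nontrivial V := by
    by_contra hV
    rw [not_nontrivial_iff_subsingleton] at hV
    apply hNna
    rw [comm_iff]
    intro a _ b _
    apply Subtype.ext
    apply LinearEquiv.ext
    intro v
    exact Subsingleton.elim _ _
  haveI := hNn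
  apply hAmax _ Subgroup.normal_centralizer
  · rw [comm_iff]
    intro a ha b hb
    have hcomm : ∀ g ∈ Subgroup.centralizer (N : Set H), ∀ c ∈ subSet H N, ∀ v : V,
        c ((g : V ≃ₗ[ZMod p] V) v) = (g : V ≃ₗ[ZMod p] V) (c v) := by
      rintro g hg _ ⟨n, hn, rfl⟩ v
      have e : n * g = g * n := Subgroup.mem_centralizer_iff.mp hg n hn
      have := congrArg (fun x : H => (x : V ≃ₗ[ZMod p] V) v) e
      exact this
    have h1 := comm_of_commutant (subSet H N) ⊤ (by exact top_ne_bot)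
      (fun c _ v _ => Submodule.mem_top)
      (fun W' _ hW' => hirr W' ((sInv_subSet_iff H N W').mp hW'))
      (a : V ≃ₗ[ZMod p] V) (b : V ≃ₗ[ZMod p] V) (fun _ _ => Submodule.mem_top)
      (fun _ _ => Submodule.mem_top) (hcomm a ha) (hcomm b hb)
    apply Subtype.ext
    apply LinearEquiv.ext
    intro v
    exact h1 v Submodule.mem_top
  · intro a ha
    rw [Subgroup.mem_centralizer_iff]
    intro n hn
    exact (Subgroup.mem_centralizer_iff.mp (hNle hn) a ha).symm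

end Cfsg.Agent.Lib.Helper2.Zfp
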