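import Mathlib

set_option autoImplicit false
set_option linter.style.haveILetI false

/-!
# Irreducible modules for the quaternion relations over a prime field are two-dimensional
-/

namespace Cfsg.Agent.Lib.Helper2.Zfp

variable {p : ℕ} [Fact p.Prime] {V : Type*} [AddCommGroup V] [Module (ZMod p) V]

/-- the quaternion relations for two endomorphisms -/
structure QRel (I J : Module.End (ZMod p) V) : Prop where
  I2 : ∀ v : V, I (I v) = -v
  J2 : ∀ v : V, J (J v) = -v
  IJ : ∀ v : V, I (J v) = -J (I v)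
  irr : ∀ W : Submodule (ZMod p) V, (∀ w ∈ W, I w ∈ W) → (∀ w ∈ W, J w ∈ W) → W = ⊥ ∨ W = ⊤
  two : (2 : ZMod p) ≠ 0

namespace QRel

variable {I J : Module.End (ZMod p) V}

theorem I_ne_zero (h : QRel I J) {v : V} (hv : v ≠ 0) : I v ≠ 0 := by
  intro e
  have := h.I2 v
  rw [e, map_zero] at this
  exact hv (neg_eq_zero.mp this.symm)

theorem J_ne_zero (h : QRel I J) {v : V} (hv : v ≠ 0) : J v ≠ 0 := by
  intro e
  have := h.J2 v
  rw [e, map_zero] at this
  exact hv (neg_eq_zero.mp this.symm)

/-- a vector whose `J`-image lies in the span of the vector and its `I`-image -/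
theorem exists_vec (h : QRel I J) [Nontrivial V] :
    ∃ v : V, v ≠ 0 ∧ ∃ α β : ZMod p, J v = α • v + β • I v := by
  obtain ⟨α, β, hαβ⟩ := ZMod.sq_add_sq p (-1)
  obtain ⟨v₀, hv₀⟩ := exists_ne (0 : V)
  by_cases h1 : α • v₀ - β • I v₀ - J v₀ = 0
  · refine ⟨v₀, hv₀, α, -β, ?_⟩
    have : J v₀ = α • v₀ - β • I v₀ := by
      rw [sub_eq_zero] at h1
      exact h1.symm
    rw [this, neg_smul, sub_eq_add_neg]
  · refine ⟨α • v₀ - β • I v₀ - J v₀, h1, -α, -β, ?_⟩
    have e1 : J (α • v₀ - β • I v₀ - J v₀) = α • J v₀ + β • I (J v₀) + v₀ := by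
      rw [map_sub, map_sub, map_smul, map_smul, h.J2, h.IJ v₀]
      module
    have e2 : I (α • v₀ - β • I v₀ - J v₀) = α • I v₀ + β • v₀ - I (J v₀) := by
      rw [map_sub, map_sub, map_smul, map_smul, h.I2]
      module
    rw [e1, e2]
    have key : (α ^ 2 + β ^ 2 + 1) • v₀ = 0 := by
      rw [hαβ]; simp
    have : α • J v₀ + β • I (J v₀) + v₀ - (-α • (α • v₀ - β • I v₀ - J v₀) +
        -β • (α • I v₀ + β • v₀ - I (J v₀))) = (α ^ 2 + β ^ 2 + 1) • v₀ := by
      module
    rw [key, sub_eq_zero] at this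
    exact this

/-- the space is spanned by a vector and its `I`-image -/
theorem exists_basis (h : QRel I J) [Nontrivial V] :
    ∃ v : V, v ≠ 0 ∧ (∀ u : V, ∃ x y : ZMod p, u = x • v + y • I v) ∧
      ∀ x y : ZMod p, x • v + y • I v = 0 → x = 0 ∧ y = 0 := by
  obtain ⟨v, hv, α, β, hJv⟩ := h.exists_vec
  have hspan : ∀ u : V, ∃ x y : ZMod p, u = x • v + y • I v := by
    let W : Submodule (ZMod p) V := Submodule.span (ZMod p) {v, I v}
    have hW : ∀ u, u ∈ W ↔ ∃ x y : ZMod p, x • v + y • I v = u := fun u =>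
      Submodule.mem_span_pair
    have hI : ∀ w ∈ W, I w ∈ W := by
      intro w hw
      obtain ⟨x, y, rfl⟩ := (hW w).mp hw
      rw [hW]
      refine ⟨-y, x, ?_⟩
      rw [map_add, map_smul, map_smul, h.I2]
      module
    have hJ : ∀ w ∈ W, J w ∈ W := by
      intro w hw
      obtain ⟨x, y, rfl⟩ := (hW w).mp hw
      rw [hW]
      refine ⟨x * α + y * β, x * β - y * α, ?_⟩
      have e1 : J (I v) = -I (J v) := by rw [h.IJ, neg_neg]
      rw [map_add, map_smul, map_smul, e1, hJv, map_add, map_smul, map_smul, h.I2]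
      module
    rcases h.irr W hI hJ with e | e
    · exfalso
      have : v ∈ W := Submodule.subset_span (by simp)
      rw [e, Submodule.mem_bot] at this
      exact hv this
    · intro u
      have : u ∈ W := by rw [e]; exact Submodule.mem_top
      obtain ⟨x, y, hxy⟩ := (hW u).mp this
      exact ⟨x, y, hxy.symm⟩
  refine ⟨v, hv, hspan, ?_⟩
  intro x y hxy
  by_cases hy : y = 0
  · subst hy
    rw [zero_smul, add_zero] at hxy
    rcases smul_eq_zero.mp hxy with e | e
    · exact ⟨e, rfl⟩
    · exact absurd e hv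
  exfalso
  -- `v` is an eigenvector of `I`
  have hIv : I v = (-(x / y)) • v := by
    have : y • I v = -(x • v) := eq_neg_of_add_eq_zero_right hxy
    have h2 : I v = y⁻¹ • (y • I v) := by rw [smul_smul, inv_mul_cancel₀ hy, one_smul]
    rw [h2, this, smul_neg, smul_smul, neg_smul, div_eq_mul_inv, mul_comm]
  set l := -(x / y) with hl
  have hJv' : J v = (α + β * l) • v := by
    rw [hJv, hIv]; module
  set m := α + β * l with hm
  -- the line through `v` is invariant
  let W : Submodule (ZMod p) V := Submodule.span (ZMod p) {v}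
  have hI : ∀ w ∈ W, I w ∈ W := by
    intro w hw
    obtain ⟨c, rfl⟩ := Submodule.mem_span_singleton.mp hw
    rw [map_smul, hIv, smul_smul]
    exact Submodule.mem_span_singleton.mpr ⟨c * l, rfl⟩
  have hJ : ∀ w ∈ W, J w ∈ W := by
    intro w hw
    obtain ⟨c, rfl⟩ := Submodule.mem_span_singleton.mp hw
    rw [map_smul, hJv', smul_smul]
    exact Submodule.mem_span_singleton.mpr ⟨c * m, rfl⟩
  have h1 : I (J v) = (m * l) • v := by rw [hJv', map_smul, hIv, smul_smul]
  have h2 : J (I v) = (l * m) • v := by rw [hIv, map_smul, hJv', smul_smul]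
  have h3 := h.IJ v
  rw [h1, h2] at h3
  have h4 : (2 * (l * m)) • v = 0 := by
    have : (m * l) • v + (l * m) • v = 0 := by rw [h3]; simp
    rw [← this]; module
  have hl0 : l ≠ 0 := by
    intro e
    have := h.I_ne_zero hv
    rw [hIv, e, zero_smul] at this
    exact this rfl
  have hm0 : m ≠ 0 := by
    intro e
    have := h.J_ne_zero hv
    rw [hJv', e, zero_smul] at this
    exact this rfl
  rcases smul_eq_zero.mp h4 with e | e
  · rcases mul_eq_zero.mp e with e | e
    · exact h.two e
    · rcases mul_eq_zero.mp e with e | e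
      · exact hl0 e
      · exact hm0 e
  · exact hv e

/-- the space has `p ^ 2` elements -/
theorem card_eq (h : QRel I J) [Nontrivial V] : Nat.card V = p * p := by
  obtain ⟨v, -, hspan, hind⟩ := h.exists_basis
  have hbij : Function.Bijective (fun x : ZMod p × ZMod p => x.1 • v + x.2 • I v) := by
    constructor
    · rintro ⟨x, y⟩ ⟨x', y'⟩ hxy
      simp only at hxy
      have : (x - x') • v + (y - y') • I v = 0 := by
        have e : (x - x') • v + (y - y') • I v = (x • v + y • I v) - (x' • v + y' • I v) := by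
          module
        rw [e, hxy, sub_self]
      obtain ⟨h1, h2⟩ := hind _ _ this
      rw [sub_eq_zero] at h1 h2
      rw [h1, h2]
    · intro u
      obtain ⟨x, y, hxy⟩ := hspan u
      exact ⟨(x, y), hxy.symm⟩
  rw [← Nat.card_congr (Equiv.ofBijective _ hbij), Nat.card_prod, Nat.card_zmod]

/-- endomorphisms commuting with the quaternion relations are scalars -/
theorem scalar_of_commute (h : QRel I J) [Nontrivial V] (c : Module.End (ZMod p) V)
    (hcI : ∀ v : V, c (I v) = I (c v)) (hcJ : ∀ v : V, c (J v) = J (c v)) :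
    ∃ x : ZMod p, ∀ u : V, c u = x • u := by
  obtain ⟨v, hv, hspan, hind⟩ := h.exists_basis
  obtain ⟨x, y, hxy⟩ := hspan (c v)
  have hgen : ∀ u : V, c u = x • u + y • I u := by
    intro u
    obtain ⟨s, t, rfl⟩ := hspan u
    rw [map_add, map_smul, map_smul, hcI, hxy, map_add, map_smul, map_smul, map_add, map_smul,
      map_smul, h.I2]
    module
  have hy : y = 0 := by
    have h1 := hcJ v
    rw [hgen, hgen] at h1
    rw [map_add, map_smul, map_smul] at h1
    have h2 : J (I v) = -I (J v) := by rw [h.IJ, neg_neg]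
    rw [h2] at h1
    have h3 : (2 * y) • I (J v) = 0 := by
      have e : (2 * y) • I (J v) = (x • J v + y • I (J v)) - (x • J v + y • -I (J v)) := by
        module
      rw [e, h1, sub_self]
    rcases smul_eq_zero.mp h3 with e | e
    · rcases mul_eq_zero.mp e with e | e
      · exact absurd e h.two
      · exact e
    · exact absurd e (h.I_ne_zero (h.J_ne_zero hv))
  refine ⟨x, fun u => ?_⟩
  rw [hgen, hy, zero_smul, add_zero]

end QRel

end Cfsg.Agent.Lib.Helper2.Zfp
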