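import Cfsg.Agent.Lib.Helper2.Zfp53
import Cfsg.Agent.Lib.Helper2.Zfp54
import Cfsg.Agent.Lib.Helper2.Zfp55

set_option autoImplicit false
set_option linter.style.haveILetI false

/-!
# Quaternion normal subgroups of sharply transitive linear groups
-/

namespace Cfsg.Agent.Lib.Helper2.Zfp

open QuaternionGroup

theorem q8_words' : ∀ q : QuaternionGroup 2, ∃ i : Fin 4, ∃ j : Fin 2,
    q = a 1 ^ i.val * xa 0 ^ j.val := by decide +kernel

theorem exists_max_normal_abelian {H : Type*} [Group H] [Finite H] :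
    ∃ A : Subgroup H, A.Normal ∧ IsMulCommutative A ∧
      ∀ B : Subgroup H, B.Normal → IsMulCommutative B → A ≤ B → B = A := by
  classical
  let T := {B : Subgroup H // B.Normal ∧ IsMulCommutative B}
  haveI : Nonempty T := by
    refine ⟨⟨⊥, inferInstance, ?_⟩⟩
    rw [comm_iff]
    intro a ha b hb
    rw [Subgroup.mem_bot] at ha hb
    rw [ha, hb]
  haveI : Finite T := Subtype.finite
  obtain ⟨A, hA⟩ := Finite.exists_max (fun B : T => Nat.card B.1)
  refine ⟨A.1, A.2.1, A.2.2, ?_⟩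
  intro B hBn hBc hAB
  have := hA ⟨B, hBn, hBc⟩
  exact (Subgroup.eq_of_le_of_card_ge hAB this).symm

theorem exists_min_nonabelian {H : Type*} [Group H] [Finite H] (C : Subgroup H) (hCn : C.Normal)
    (hC : ¬ IsMulCommutative C) :
    ∃ N : Subgroup H, N.Normal ∧ N ≤ C ∧ ¬ IsMulCommutative N ∧
      ∀ M : Subgroup H, M.Normal → M ≤ N → ¬ IsMulCommutative M → M = N := by
  classical
  let T := {B : Subgroup H // B.Normal ∧ B ≤ C ∧ ¬ IsMulCommutative B}
  haveI : Nonempty T := ⟨⟨C, hCn, le_refl _, hC⟩⟩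
  haveI : Finite T := Subtype.finite
  obtain ⟨N, hN⟩ := Finite.exists_min (fun B : T => Nat.card B.1)
  refine ⟨N.1, N.2.1, N.2.2.1, N.2.2.2, ?_⟩
  intro M hMn hMN hMc
  have := hN ⟨M, hMn, hMN.trans N.2.2.1, hMc⟩
  exact Subgroup.eq_of_le_of_card_ge hMN this

variable {p : ℕ} [Fact p.Prime] {V : Type*} [AddCommGroup V] [Module (ZMod p) V]

theorem neg_of_involution (H : Subgroup (V ≃ₗ[ZMod p] V))
    (hfpf : ∀ h : H, h ≠ 1 → ∀ v : V, (h : V ≃ₗ[ZMod p] V) v = v → v = 0)
    (g : H) (hg1 : g ≠ 1) (hg2 : g * g = 1) (v : V) : (g : V ≃ₗ[ZMod p] V) v = -v := by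
  have h1 : (g : V ≃ₗ[ZMod p] V) ((g : V ≃ₗ[ZMod p] V) v) = v := by
    have := congrArg (fun x : H => (x : V ≃ₗ[ZMod p] V) v) hg2
    exact this
  have h2 : (g : V ≃ₗ[ZMod p] V) ((g : V ≃ₗ[ZMod p] V) v + v) = (g : V ≃ₗ[ZMod p] V) v + v := by
    rw [map_add, h1, add_comm]
  have h3 := hfpf g hg1 _ h2
  exact eq_neg_of_add_eq_zero_left h3

/-- the action of a subgroup of a linear group -/
def subAct (H : Subgroup (V ≃ₗ[ZMod p] V)) (N : Subgroup H) : N →* Module.End (ZMod p) V where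
  toFun n := (((n : H) : V ≃ₗ[ZMod p] V) : V →ₗ[ZMod p] V)
  map_one' := rfl
  map_mul' _ _ := rfl

theorem subAct_apply (H : Subgroup (V ≃ₗ[ZMod p] V)) (N : Subgroup H) (n : N) (v : V) :
    subAct H N n v = ((n : H) : V ≃ₗ[ZMod p] V) v := rfl

set_option maxHeartbeats 800000 in
theorem qrel_of_q8 (H : Subgroup (V ≃ₗ[ZMod p] V))
    (hfpf : ∀ h : H, h ≠ 1 → ∀ v : V, (h : V ≃ₗ[ZMod p] V) v = v → v = 0)
    (N : Subgroup H) (e : N ≃* QuaternionGroup 2)
    (hirr : ∀ W : Submodule (ZMod p) V,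
      (∀ n ∈ N, ∀ v ∈ W, ((n : H) : V ≃ₗ[ZMod p] V) v ∈ W) → W = ⊥ ∨ W = ⊤) [Nontrivial V] :
    QRel (subAct H N (e.symm (a 1))) (subAct H N (e.symm (xa 0))) := by
  set i : N := e.symm (a 1) with hi
  set j : N := e.symm (xa 0) with hj
  set z : N := e.symm (a 2) with hz
  have hz1 : (z : H) ≠ 1 := by
    intro h
    have h1 : z = 1 := Subtype.ext h
    have h2 : e z = e 1 := by rw [h1]
    rw [hz, e.apply_symm_apply, map_one] at h2
    exact absurd h2 (by decide)
  have hz2 : (z : H) * (z : H) = 1 := by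
    have h1 : z * z = 1 := by
      rw [hz, ← map_mul]
      have : (a 2 : QuaternionGroup 2) * a 2 = 1 := by decide
      rw [this, map_one]
    have := congrArg Subtype.val h1
    simpa using this
  have hzneg : ∀ v : V, subAct H N z v = -v := fun v => neg_of_involution H hfpf _ hz1 hz2 v
  have hii : i * i = z := by
    rw [hi, hz, ← map_mul]
    have : (a 1 : QuaternionGroup 2) * a 1 = a 2 := by decide
    rw [this]
  have hjj : j * j = z := by
    rw [hj, hz, ← map_mul]
    have : (xa 0 : QuaternionGroup 2) * xa 0 = a 2 := by decide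
    rw [this]
  have hij : i * j = z * (j * i) := by
    rw [hi, hj, hz, ← map_mul, ← map_mul, ← map_mul]
    have : (a 1 : QuaternionGroup 2) * xa 0 = a 2 * (xa 0 * a 1) := by decide
    rw [this]
  have hmul : ∀ (n m : N) (v : V), subAct H N n (subAct H N m v) = subAct H N (n * m) v := by
    intro n m v
    rw [map_mul]; rfl
  refine ⟨?_, ?_, ?_, ?_, ?_⟩
  · intro v
    rw [hmul, hii, hzneg]
  · intro v
    rw [hmul, hjj, hzneg]
  · intro v
    rw [hmul, hij, ← hmul, hzneg, hmul]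
  · intro W hI hJ
    apply hirr
    intro n hn v hv
    have hpowI : ∀ k : ℕ, ∀ w ∈ W, subAct H N (i ^ k) w ∈ W := by
      intro k
      induction k with
      | zero => intro w hw; rw [pow_zero, map_one]; exact hw
      | succ k ih =>
        intro w hw
        rw [pow_succ, ← hmul]
        exact ih _ (hI w hw)
    have hpowJ : ∀ k : ℕ, ∀ w ∈ W, subAct H N (j ^ k) w ∈ W := by
      intro k
      induction k with
      | zero => intro w hw; rw [pow_zero, map_one]; exact hw
      | succ k ih =>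
        intro w hw
        rw [pow_succ, ← hmul]
        exact ih _ (hJ w hw)
    obtain ⟨k, l, hkl⟩ := q8_words' (e ⟨n, hn⟩)
    have hn' : (⟨n, hn⟩ : N) = i ^ k.val * j ^ l.val := by
      apply e.injective
      rw [hkl, map_mul, map_pow, map_pow, hi, hj, e.apply_symm_apply, e.apply_symm_apply]
    have h1 : ((n : H) : V ≃ₗ[ZMod p] V) v = subAct H N (⟨n, hn⟩ : N) v := rfl
    rw [h1, hn', ← hmul]
    exact hpowI _ _ (hpowJ _ _ hv)
  · intro h2
    obtain ⟨v, hv⟩ := exists_ne (0 : V)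
    have h1 : subAct H N z v = v := by
      rw [hzneg]
      have : (2 : ZMod p) • v = 0 := by rw [h2, zero_smul]
      rw [two_smul] at this
      exact (eq_neg_of_add_eq_zero_left this).symm
    exact hv (hfpf _ hz1 v h1)

end Cfsg.Agent.Lib.Helper2.Zfp
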