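import Cfsg.Agent.Lib.Helper2.Zfp56

set_option autoImplicit false
set_option linter.style.haveILetI false

/-!
# Orders in a sharply transitive linear group with a normal quaternion subgroup
-/

namespace Cfsg.Agent.Lib.Helper2.Zfp

open QuaternionGroup

variable {p : ℕ} [Fact p.Prime] {V : Type*} [AddCommGroup V] [Module (ZMod p) V]

/-- the centralizer of an irreducible quaternion subgroup consists of scalars -/
theorem card_centralizer_dvd (H : Subgroup (V ≃ₗ[ZMod p] V))
    (hfpf : ∀ h : H, h ≠ 1 → ∀ v : V, (h : V ≃ₗ[ZMod p] V) v = v → v = 0)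
    (N : Subgroup H) (e : N ≃* QuaternionGroup 2)
    (hirr : ∀ W : Submodule (ZMod p) V,
      (∀ n ∈ N, ∀ v ∈ W, ((n : H) : V ≃ₗ[ZMod p] V) v ∈ W) → W = ⊥ ∨ W = ⊤) [Nontrivial V] :
    Nat.card (Subgroup.centralizer (N : Set H)) ∣ p - 1 := by
  have hq := qrel_of_q8 H hfpf N e hirr
  obtain ⟨v₀, hv₀⟩ := exists_ne (0 : V)
  have hsc : ∀ c : Subgroup.centralizer (N : Set H), ∃ x : ZMod p,
      ∀ u : V, ((c : H) : V ≃ₗ[ZMod p] V) u = x • u := by
    intro c
    have hcomm : ∀ n : N, ∀ v : V, ((c : H) : V ≃ₗ[ZMod p] V) (subAct H N n v) =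
        subAct H N n (((c : H) : V ≃ₗ[ZMod p] V) v) := by
      intro n v
      have h1 : (n : H) * (c : H) = (c : H) * (n : H) :=
        Subgroup.mem_centralizer_iff.mp c.2 n n.2
      have := congrArg (fun x : H => (x : V ≃ₗ[ZMod p] V) v) h1
      exact this.symm
    exact hq.scalar_of_commute ((((c : H) : V ≃ₗ[ZMod p] V) : V →ₗ[ZMod p] V))
      (hcomm _) (hcomm _)
  choose x hx using hsc
  have hcancel : ∀ s t : ZMod p, s • v₀ = t • v₀ → s = t := by
    intro s t hst
    have : (s - t) • v₀ = 0 := by rw [sub_smul, hst, sub_self]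
    rcases smul_eq_zero.mp this with h | h
    · exact sub_eq_zero.mp h
    · exact absurd h hv₀
  let f : Subgroup.centralizer (N : Set H) →* ZMod p :=
    { toFun := x
      map_one' := by
        apply hcancel
        rw [← hx, one_smul]; rfl
      map_mul' := by
        intro c d
        apply hcancel
        rw [← hx, mul_smul, ← hx d, ← hx c]; rfl }
  have hinj : Function.Injective f.toHomUnits := by
    intro c d hcd
    have h1 : x c = x d := by
      have := congrArg (fun u : (ZMod p)ˣ => (u : ZMod p)) hcd
      exact this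
    apply Subtype.ext
    apply Subtype.ext
    apply LinearEquiv.ext
    intro u
    rw [hx, hx, h1]
  have h2 := Subgroup.card_dvd_of_injective f.toHomUnits hinj
  have h3 : Nat.card (ZMod p)ˣ = p - 1 := by rw [Nat.card_eq_fintype_card, ZMod.card_units]
  rwa [h3] at h2

/-- the index of the centralizer of a normal quaternion subgroup divides `24` -/
theorem index_centralizer_q8_dvd {H : Type*} [Group H] [Finite H] (N : Subgroup H) [N.Normal]
    (e : N ≃* QuaternionGroup 2) : (Subgroup.centralizer (N : Set H)).index ∣ 24 := by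
  have hker : (MulAut.conjNormal (H := N)).ker = Subgroup.centralizer (N : Set H) := by
    ext g
    rw [MonoidHom.mem_ker, Subgroup.mem_centralizer_iff]
    constructor
    · intro h n hn
      have := congrArg (fun φ : MulAut N => ((φ ⟨n, hn⟩ : N) : H)) h
      simp only [MulAut.conjNormal_apply, MulAut.one_apply] at this
      calc n * g = (g * n * g⁻¹) * g := by rw [this]
        _ = g * n := by group
    · intro h
      apply MulEquiv.ext
      intro n
      apply Subtype.ext
      rw [MulAut.conjNormal_apply, MulAut.one_apply, ← h n n.2]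
      group
  rw [← hker, Subgroup.index_ker]
  have h1 : Nat.card (MulAut.conjNormal (H := N)).range ∣ Nat.card (MulAut N) :=
    Subgroup.card_subgroup_dvd_card _
  have h2 : Nat.card (MulAut N) = 24 := by
    rw [Nat.card_congr (MulAut.congr e).toEquiv, card_mulAut_q8]
  rwa [h2] at h1

end Cfsg.Agent.Lib.Helper2.Zfp
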