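import Cfsg.Agent.Lib.Helper2.Zfp57
import Cfsg.Agent.Lib.Helper2.ExcIso4
import Cfsg.Agent.S0685

set_option autoImplicit false
set_option linter.style.haveILetI false

/-!
# Degrees of the soluble exceptional sharply doubly transitive groups
-/

namespace Cfsg.Agent.Lib.Helper2.Zfp

open QuaternionGroup

variable {p : ℕ} [Fact p.Prime] {V : Type*} [AddCommGroup V] [Module (ZMod p) V]

theorem SL2_zmod_perfect (q : ℕ) [Fact q.Prime] (hq : 4 ≤ q) :
    commutator (Matrix.SpecialLinearGroup (Fin 2) (ZMod q)) = ⊤ := by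
  apply Cfsg.Agent.Lib.Helper2.ExcIso.SL2_perfect_of_four_le
  rw [ZMod.card]
  exact hq

theorem not_solvable_SL25 : ¬ Group.IsSolvable (Matrix.SpecialLinearGroup (Fin 2) (ZMod 5)) := by
  intro hs
  haveI : Fact (Nat.Prime 5) := ⟨by norm_num⟩
  have hperf : commutator (Matrix.SpecialLinearGroup (Fin 2) (ZMod 5)) = ⊤ :=
    SL2_zmod_perfect 5 (by norm_num)
  have := subsingleton_of_perfect_of_solvable hperf
  have h1 : (-1 : Matrix.SpecialLinearGroup (Fin 2) (ZMod 5)) = 1 := Subsingleton.elim _ _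
  have h2 := congrArg (fun m : Matrix.SpecialLinearGroup (Fin 2) (ZMod 5) => m.1 0 0) h1
  simp only [Matrix.SpecialLinearGroup.coe_neg, Matrix.SpecialLinearGroup.coe_one,
    Matrix.neg_apply, Matrix.one_apply_eq] at h2
  revert h2
  decide

/-- a proper invariant subspace of `I` gives a square root of `-1` -/
theorem QRel.exists_sqrt_neg_one {I J : Module.End (ZMod p) V} (h : QRel I J) [Finite V]
    [Nontrivial V] (W : Submodule (ZMod p) V) (hW : ∀ w ∈ W, I w ∈ W) (hWb : W ≠ ⊥)
    (hWt : W ≠ ⊤) : ∃ l : ZMod p, l * l = -1 := by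
  obtain ⟨w, hwW, hw⟩ := (Submodule.ne_bot_iff W).mp hWb
  by_cases hex : ∃ l : ZMod p, I w = l • w
  · obtain ⟨l, hl⟩ := hex
    refine ⟨l, ?_⟩
    have h1 := h.I2 w
    rw [hl, map_smul, hl, smul_smul] at h1
    have h2 : (l * l + 1) • w = 0 := by
      rw [add_smul, h1, one_smul, neg_add_cancel]
    rcases smul_eq_zero.mp h2 with e | e
    · exact eq_neg_of_add_eq_zero_left e
    · exact absurd e hw
  · exfalso
    push Not at hex
    have hinj : Function.Injective (fun x : ZMod p × ZMod p =>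
        (⟨x.1 • w + x.2 • I w, W.add_mem (W.smul_mem _ hwW) (W.smul_mem _ (hW w hwW))⟩ : W)) := by
      rintro ⟨x, y⟩ ⟨x', y'⟩ hxy
      have hxy' : x • w + y • I w = x' • w + y' • I w := congrArg Subtype.val hxy
      have h1 : (y - y') • I w = (x' - x) • w := by
        have e : (y - y') • I w = (x • w + y • I w) - x • w - y' • I w := by module
        rw [e, hxy']; module
      have hy : y = y' := by
        by_contra hne
        have hne' : y - y' ≠ 0 := sub_ne_zero.mpr hne
        apply hex ((y - y')⁻¹ * (x' - x))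
        rw [mul_smul, ← h1, smul_smul, inv_mul_cancel₀ hne', one_smul]
      subst hy
      rw [sub_self, zero_smul] at h1
      rcases smul_eq_zero.mp h1.symm with e | e
      · rw [sub_eq_zero.mp e]
      · exact absurd e hw
    have h1 := Nat.card_le_card_of_injective _ hinj
    rw [Nat.card_prod, Nat.card_zmod, ← h.card_eq] at h1
    apply hWt
    have hle : W.toAddSubgroup ≤ (⊤ : Submodule (ZMod p) V).toAddSubgroup := fun x _ => trivial
    have h2 : Nat.card (⊤ : Submodule (ZMod p) V).toAddSubgroup ≤ Nat.card W.toAddSubgroup := by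
      have : Nat.card (⊤ : Submodule (ZMod p) V).toAddSubgroup = Nat.card V :=
        Nat.card_congr (Equiv.subtypeUnivEquiv (fun _ => trivial))
      rw [this]
      exact h1
    exact Submodule.toAddSubgroup_injective (AddSubgroup.eq_of_le_of_card_ge hle h2)

set_option maxHeartbeats 800000 in
/-- the structure of a soluble sharply transitive linear group with no irreducible cyclic normal
subgroup -/
theorem sharp_solvable_structure [Finite V] (H : Subgroup (V ≃ₗ[ZMod p] V))
    (hreg : ∀ v w : V, v ≠ 0 → w ≠ 0 → ∃! h : H, (h : V ≃ₗ[ZMod p] V) v = w)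
    (hI : ∀ A : Subgroup H, A.Normal → IsCyclic A → ∃ W : Submodule (ZMod p) V, W ≠ ⊥ ∧ W ≠ ⊤ ∧
      ∀ a ∈ A, ∀ v ∈ W, ((a : H) : V ≃ₗ[ZMod p] V) v ∈ W)
    (hsolv : Group.IsSolvable H) :
    ∃ N : Subgroup H, N.Normal ∧ Nonempty (N ≃* QuaternionGroup 2) ∧
      (∀ W : Submodule (ZMod p) V,
        (∀ n ∈ N, ∀ v ∈ W, ((n : H) : V ≃ₗ[ZMod p] V) v ∈ W) → W = ⊥ ∨ W = ⊤) := by
  obtain ⟨A, hAn, hAc, hAmax⟩ := exists_max_normal_abelian (H := H)
  obtain ⟨-, hCna⟩ := Cfsg.Agent.S0685.result H hreg hI A hAn hAc hAmax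
  haveI := hAn
  obtain ⟨N, hNn, hNle, hNna, hNmin⟩ :=
    exists_min_nonabelian (Subgroup.centralizer (A : Set H)) Subgroup.normal_centralizer hCna
  have hirr := sharp_irreducible H hreg N hNn hNna
  rcases sharp_minimal_nonabelian H hreg A hAn hAc hAmax N hNn hNle hNna hNmin with he | he
  · exact ⟨N, hNn, he, hirr⟩
  · exfalso
    obtain ⟨e⟩ := he
    apply not_solvable_SL25
    haveI : Group.IsSolvable N := inferInstance
    exact Group.isSolvable_of_isSolvable_injective (f := e.symm.toMonoidHom) e.symm.injective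

end Cfsg.Agent.Lib.Helper2.Zfp
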