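import Cfsg.Agent.Lib.Helper2.Zfp58

set_option autoImplicit false
set_option linter.style.haveILetI false

/-!
# Degrees of the soluble exceptional sharply doubly transitive groups: the arithmetic
-/

namespace Cfsg.Agent.Lib.Helper2.Zfp

open QuaternionGroup

variable {p : ℕ} [Fact p.Prime] {V : Type*} [AddCommGroup V] [Module (ZMod p) V]

theorem no_sqrt_neg_one_three : ∀ l : ZMod 3, l * l ≠ -1 := by decide

/-- orders in a sharply transitive linear group with an irreducible normal quaternion subgroup -/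
theorem q8_orders [Finite V] (H : Subgroup (V ≃ₗ[ZMod p] V))
    (hreg : ∀ v w : V, v ≠ 0 → w ≠ 0 → ∃! h : H, (h : V ≃ₗ[ZMod p] V) v = w)
    (N : Subgroup H) [N.Normal] (e : N ≃* QuaternionGroup 2)
    (hirr : ∀ W : Submodule (ZMod p) V,
      (∀ n ∈ N, ∀ v ∈ W, ((n : H) : V ≃ₗ[ZMod p] V) v ∈ W) → W = ⊥ ∨ W = ⊤) :
    Nontrivial V ∧ Nat.card V = p * p ∧ Nat.card H + 1 = p * p ∧
      Nat.card (Subgroup.centralizer (N : Set H)) ∣ p - 1 ∧
      (Subgroup.centralizer (N : Set H)).index ∣ 24 ∧ (2 : ZMod p) ≠ 0 ∧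
      (p - 1) * (p + 1) = Nat.card (Subgroup.centralizer (N : Set H)) *
        (Subgroup.centralizer (N : Set H)).index := by
  haveI : Nontrivial V := by
    by_contra hV
    rw [not_nontrivial_iff_subsingleton] at hV
    have h1 : e.symm (a 1) = e.symm 1 := by
      apply Subtype.ext
      apply Subtype.ext
      apply LinearEquiv.ext
      intro v
      exact Subsingleton.elim _ _
    have h2 := e.symm.injective h1
    revert h2
    decide
  have hfpf := fpf_of_reg H hreg
  have hq := qrel_of_q8 H hfpf N e hirr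
  have hcardV := hq.card_eq
  have hcardH := card_of_reg H hreg
  rw [hcardV] at hcardH
  have hp1 : 1 ≤ p := (Fact.out : p.Prime).one_lt.le
  refine ⟨inferInstance, hcardV, hcardH, card_centralizer_dvd H hfpf N e hirr,
    index_centralizer_q8_dvd N e, hq.two, ?_⟩
  rw [Subgroup.card_mul_index]
  have : (p - 1) * (p + 1) + 1 = p * p := by
    obtain ⟨k, rfl⟩ := Nat.exists_eq_add_of_le hp1
    simp only [Nat.add_sub_cancel_left]
    ring
  omega

/-- the arithmetic of the orders -/
theorem arith688 (p a k : ℕ) (hp : p.Prime) (ha : a ∣ p - 1) (hk : k ∣ 24)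
    (h : (p - 1) * (p + 1) = a * k) (h2 : p ≠ 2) (h3 : p ≠ 3) :
    p = 5 ∨ p = 7 ∨ p = 11 ∨ p = 23 := by
  have hp2 : 2 ≤ p := hp.two_le
  have ha0 : 0 < a := by
    rcases Nat.eq_zero_or_pos a with h0 | h0
    · rw [h0, zero_dvd_iff] at ha
      omega
    · exact h0
  obtain ⟨m, hm⟩ := ha
  have h1 : k = m * (p + 1) := by
    rw [hm] at h
    have : a * (m * (p + 1)) = a * k := by rw [← h]; ring
    exact (Nat.eq_of_mul_eq_mul_left ha0 this).symm
  have h4 : p + 1 ∣ 24 := Dvd.dvd.trans ⟨m, by rw [h1]; ring⟩ hk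
  have h5 : p + 1 ≤ 24 := Nat.le_of_dvd (by norm_num) h4
  have h6 : p ≤ 23 := by omega
  interval_cases p <;> first | omega | (exfalso; revert h4; decide) | (exfalso; revert hp; decide)

set_option maxHeartbeats 800000 in
/-- degrees of the soluble exceptional sharply doubly transitive groups -/
theorem sharp_solvable_degrees [Finite V] (H : Subgroup (V ≃ₗ[ZMod p] V))
    (hreg : ∀ v w : V, v ≠ 0 → w ≠ 0 → ∃! h : H, (h : V ≃ₗ[ZMod p] V) v = w)
    (hI : ∀ A : Subgroup H, A.Normal → IsCyclic A → ∃ W : Submodule (ZMod p) V, W ≠ ⊥ ∧ W ≠ ⊤ ∧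
      ∀ a ∈ A, ∀ v ∈ W, ((a : H) : V ≃ₗ[ZMod p] V) v ∈ W)
    (hsolv : Group.IsSolvable H) :
    Nat.card V = 25 ∨ Nat.card V = 49 ∨ Nat.card V = 121 ∨ Nat.card V = 529 := by
  obtain ⟨N, hNn, ⟨e⟩, hirr⟩ := sharp_solvable_structure H hreg hI hsolv
  haveI := hNn
  obtain ⟨hnt, hcardV, hcardH, hdvd, hidx, htwo, hmul⟩ := q8_orders H hreg N e hirr
  have hpp : p.Prime := Fact.out
  have h2 : p ≠ 2 := by
    rintro rfl
    exact htwo (by exact_mod_cast ZMod.natCast_self 2)
  have h3 : p ≠ 3 := by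
    intro hp3
    subst hp3
    have hfpf := fpf_of_reg H hreg
    have hq := qrel_of_q8 H hfpf N e hirr
    -- `H` has order eight, so the cyclic subgroup of order four is normal
    have hH8 : Nat.card H = 8 := by omega
    set i : H := ((e.symm (a 1) : N) : H) with hi
    have hord : orderOf i = 4 := by
      rw [hi, Subgroup.orderOf_coe, MulEquiv.orderOf_eq, orderOf_a_one]
    have hidx2 : (Subgroup.zpowers i).index = 2 := by
      have h1 := Subgroup.card_mul_index (Subgroup.zpowers i)
      rw [Nat.card_zpowers, hord, hH8] at h1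
      omega
    obtain ⟨W, hWb, hWt, hW⟩ := hI (Subgroup.zpowers i) (Subgroup.normal_of_index_eq_two hidx2)
      inferInstance
    obtain ⟨l, hl⟩ := hq.exists_sqrt_neg_one W
      (fun w hw => hW i (Subgroup.mem_zpowers i) w hw) hWb hWt
    exact no_sqrt_neg_one_three l hl
  rcases arith688 p _ _ hpp hdvd hidx hmul h2 h3 with h | h | h | h <;> subst h
  · left; exact hcardV
  · right; left; exact hcardV
  · right; right; left; exact hcardV
  · right; right; right; exact hcardV

end Cfsg.Agent.Lib.Helper2.Zfp
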