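import Cfsg.Agent.Lib.Helper2.Zfp3
import Cfsg.Agent.Lib.Helper2.Zfp5

set_option autoImplicit false
set_option linter.style.haveILetI false

/-!
# Two elements of order three in a fixed-point-free group: the two-dimensional representation
-/

namespace Cfsg.Agent.Lib.Helper2.Zfp

open Matrix
open scoped MatrixGroups

section ker

variable {E : Type*} [Field E] {X : Type*} [Group X] (φ : X →* GL (Fin 2) E)

theorem exists_scalar_of_mem_ker {g : X} (hg : g ∈ (ProjGenLinGroup.mk.comp φ).ker) :
    ∃ u : Eˣ, φ g = GeneralLinearGroup.scalar (Fin 2) u := by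
  rw [MonoidHom.mem_ker, MonoidHom.comp_apply, ProjGenLinGroup.mk_eq_one,
    GeneralLinearGroup.center_eq_range_scalar] at hg
  obtain ⟨u, hu⟩ := hg
  exact ⟨u, hu.symm⟩

theorem central_of_mem_ker (hφ : Function.Injective φ) {g : X}
    (hg : g ∈ (ProjGenLinGroup.mk.comp φ).ker) (h : X) : g * h = h * g := by
  rw [MonoidHom.mem_ker, MonoidHom.comp_apply, ProjGenLinGroup.mk_eq_one] at hg
  apply hφ
  rw [map_mul, map_mul]
  exact (Subgroup.mem_center_iff.mp hg (φ h)).symm

theorem det_scalar_two (u : Eˣ) :
    GeneralLinearGroup.det (GeneralLinearGroup.scalar (Fin 2) u) = u ^ 2 := by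
  apply Units.ext
  simp [GeneralLinearGroup.scalar, Matrix.det_fin_two, pow_two]

end ker

variable {G : Type*} [Group G] [Finite G] {E : Type*} [Field E] [IsAlgClosed E] {M : Type*}
  [AddCommGroup M] [Module E M] [FiniteDimensional E M] [Nontrivial M]

/-- two non-commuting elements with scalar traces generate a group with a faithful
two-dimensional representation -/
theorem Rep.exists_gl2_pair (R : Rep G E M) {a b : G} {α β : E}
    (ha : R.ρ a + R.ρ a⁻¹ = α • (1 : Module.End E M))
    (hb : R.ρ b + R.ρ b⁻¹ = β • (1 : Module.End E M)) (hab : a * b ≠ b * a) :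
    ∃ φ : Subgroup.closure {a, b} →* GL (Fin 2) E, Function.Injective φ := by
  classical
  obtain ⟨μ, v, -, hv, hμ⟩ := exists_eigenvector_in (R.ρ (a * b)) ⊤ top_ne_bot
    (fun _ _ => Submodule.mem_top)
  obtain ⟨h1, h2, h3⟩ := R.pair_invariant hv ha hb hμ
  set w := R.ρ b v with hw
  have hli : LinearIndependent E ![v, w] := by
    rw [LinearIndependent.pair_iff]
    intro s t hst
    by_cases ht : t = 0
    · subst ht
      rw [zero_smul, add_zero] at hst
      exact ⟨(smul_eq_zero.mp hst).resolve_right hv, rfl⟩
    · exfalso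
      have hw' : w = (-(s / t)) • v := by
        have : t • w = -(s • v) := eq_neg_of_add_eq_zero_right hst
        have h4 : w = t⁻¹ • (t • w) := by rw [smul_smul, inv_mul_cancel₀ ht, one_smul]
        rw [h4, this, smul_neg, smul_smul, neg_smul]
        congr 2
        field_simp
      have hav : R.ρ a v = (α - μ⁻¹ * (-(s / t))) • v := by
        rw [h1, hw', smul_smul, sub_smul]
      exact hab (R.commute_of_common_eigenvector hv hav hw')
  set U : Submodule E M := Submodule.span E {v, w} with hU
  have hvU : v ∈ U := Submodule.subset_span (by simp)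
  have hwU : w ∈ U := Submodule.subset_span (by simp)
  have hUa : ∀ u ∈ U, R.ρ a u ∈ U := by
    have hle : U ≤ U.comap (R.ρ a) := by
      rw [hU, Submodule.span_le]
      intro m hm
      rcases hm with rfl | rfl
      · show R.ρ a m ∈ U
        rw [h1]
        exact U.sub_mem (U.smul_mem _ hvU) (U.smul_mem _ hwU)
      · show R.ρ a w ∈ U
        rw [h2]
        exact U.smul_mem _ hvU
    exact fun u hu => hle hu
  have hUb : ∀ u ∈ U, R.ρ b u ∈ U := by
    have hle : U ≤ U.comap (R.ρ b) := by
      rw [hU, Submodule.span_le]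
      intro m hm
      rcases hm with rfl | rfl
      · exact hwU
      · show R.ρ b w ∈ U
        rw [h3]
        exact U.sub_mem (U.smul_mem _ hwU) hvU
    exact fun u hu => hle hu
  have hinv := R.invariant_closure {a, b} U (by
    intro g hg
    rcases hg with rfl | rfl
    · exact hUa
    · exact hUb)
  obtain ⟨φ, hφ, -⟩ := R.exists_gl2 (Subgroup.closure {a, b}) v w hli
    (fun g hg => ⟨hinv g hg v hvU, hinv g hg w hwU⟩)
  exact ⟨φ, hφ⟩

end Cfsg.Agent.Lib.Helper2.Zfp
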