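import Mathlib

set_option autoImplicit false
set_option linter.style.haveILetI false

/-!
# The field attached to an irreducible abelian normal subgroup of a linear group
-/

namespace Cfsg.Agent.Lib.Helper2.Zfp

variable {q : ℕ} [Fact q.Prime] {V : Type*} [AddCommGroup V] [Module (ZMod q) V]
  {G : Type*} [Group G]

section commAlg

variable (ρ : G →* (V ≃ₗ[ZMod q] V)) (A : Subgroup G)

/-- the endomorphisms given by the subgroup -/
def imgSet : Set (Module.End (ZMod q) V) :=
  {f | ∃ a ∈ A, f = ((ρ a : V ≃ₗ[ZMod q] V) : V →ₗ[ZMod q] V)}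

/-- the commutant of the subgroup -/
def commAlg : Subalgebra (ZMod q) (Module.End (ZMod q) V) :=
  Subalgebra.centralizer (ZMod q) (imgSet ρ A)

theorem mem_commAlg {f : Module.End (ZMod q) V} :
    f ∈ commAlg ρ A ↔ ∀ a ∈ A, ∀ v : V, ρ a (f v) = f (ρ a v) := by
  unfold commAlg
  rw [Subalgebra.mem_centralizer_iff]
  constructor
  · intro h a ha v
    have := h _ ⟨a, ha, rfl⟩
    exact congrArg (fun g : Module.End (ZMod q) V => g v) this
  · rintro h _ ⟨a, ha, rfl⟩
    apply LinearMap.ext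
    intro v
    exact h a ha v

variable {ρ A}

theorem coe_mem_commAlg (hcomm : ∀ a ∈ A, ∀ b ∈ A, ∀ v : V, ρ a (ρ b v) = ρ b (ρ a v))
    {b : G} (hb : b ∈ A) : ((ρ b : V ≃ₗ[ZMod q] V) : V →ₗ[ZMod q] V) ∈ commAlg ρ A := by
  rw [mem_commAlg]
  intro a ha v
  exact hcomm a ha b hb v

theorem conj_mem_commAlg [hA : A.Normal] (g : G) {f : Module.End (ZMod q) V}
    (hf : f ∈ commAlg ρ A) :
    ((ρ g : V ≃ₗ[ZMod q] V) : V →ₗ[ZMod q] V) * f *
      ((ρ g⁻¹ : V ≃ₗ[ZMod q] V) : V →ₗ[ZMod q] V) ∈ commAlg ρ A := by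
  rw [mem_commAlg] at hf ⊢
  intro a ha v
  simp only [Module.End.mul_apply, LinearEquiv.coe_coe]
  have h1 : g⁻¹ * a * g ∈ A := by
    have := hA.conj_mem a ha g⁻¹
    simpa using this
  have hm : ∀ (x y : G) (w : V), ρ x (ρ y w) = ρ (x * y) w := by
    intro x y w
    rw [map_mul]; rfl
  have h2 : ∀ w : V, ρ a (ρ g w) = ρ g (ρ (g⁻¹ * a * g) w) := by
    intro w
    rw [hm, hm]
    have e : g * (g⁻¹ * a * g) = a * g := by group
    rw [e]
  have h3 : ∀ w : V, ρ (g⁻¹ * a * g) (ρ g⁻¹ w) = ρ g⁻¹ (ρ a w) := by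
    intro w
    rw [hm, hm]
    have e : g⁻¹ * a * g * g⁻¹ = g⁻¹ * a := by group
    rw [e]
  rw [h2, hf _ h1, h3]

variable (hirr : ∀ W : Submodule (ZMod q) V, (∀ a ∈ A, ∀ v ∈ W, ρ a v ∈ W) → W = ⊥ ∨ W = ⊤)

include hirr in
theorem commAlg_injective {f : Module.End (ZMod q) V} (hf : f ∈ commAlg ρ A) (hf0 : f ≠ 0) :
    Function.Injective f := by
  rw [mem_commAlg] at hf
  have hinv : ∀ a ∈ A, ∀ v ∈ LinearMap.ker f, ρ a v ∈ LinearMap.ker f := by
    intro a ha v hv
    rw [LinearMap.mem_ker] at hv ⊢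
    rw [← hf a ha, hv, map_zero]
  rcases hirr _ hinv with h | h
  · exact LinearMap.ker_eq_bot.mp h
  · exfalso
    apply hf0
    apply LinearMap.ext
    intro v
    have : v ∈ LinearMap.ker f := by rw [h]; exact Submodule.mem_top
    exact this

include hirr in
theorem commAlg_isField [Finite V] [Nontrivial V] : IsField (commAlg ρ A) := by
  classical
  obtain ⟨w₀, hw₀⟩ := exists_ne (0 : V)
  haveI : Finite (Module.End (ZMod q) V) :=
    Finite.of_injective (fun f => (f : V → V)) DFunLike.coe_injective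
  haveI : Finite (commAlg ρ A) := Subtype.finite
  haveI : Nontrivial (commAlg ρ A) := by
    refine ⟨⟨0, 1, ?_⟩⟩
    intro h
    have h1 : ((0 : commAlg ρ A) : Module.End (ZMod q) V) w₀ =
        ((1 : commAlg ρ A) : Module.End (ZMod q) V) w₀ := by rw [h]
    have h2 : ((0 : commAlg ρ A) : Module.End (ZMod q) V) = 0 := rfl
    have h3 : ((1 : commAlg ρ A) : Module.End (ZMod q) V) = 1 := rfl
    rw [h2, h3, LinearMap.zero_apply, Module.End.one_apply] at h1
    exact hw₀ h1.symm
  haveI : NoZeroDivisors (commAlg ρ A) := by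
    refine ⟨fun {f g} hfg => ?_⟩
    by_cases hf : f = 0
    · exact Or.inl hf
    right
    have hf' : (f : Module.End (ZMod q) V) ≠ 0 := fun e => hf (Subtype.ext e)
    have hinj := commAlg_injective hirr f.2 hf'
    apply Subtype.ext
    apply LinearMap.ext
    intro v
    apply hinj
    have h1 : ((f * g : commAlg ρ A) : Module.End (ZMod q) V) v =
        ((0 : commAlg ρ A) : Module.End (ZMod q) V) v := by rw [hfg]
    have h2 : ((f * g : commAlg ρ A) : Module.End (ZMod q) V) =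
        (f : Module.End (ZMod q) V) * (g : Module.End (ZMod q) V) := rfl
    have h3 : ((0 : commAlg ρ A) : Module.End (ZMod q) V) = 0 := rfl
    rw [h2, h3, Module.End.mul_apply, LinearMap.zero_apply] at h1
    rw [h1, h3, LinearMap.zero_apply, map_zero]
  haveI : IsDomain (commAlg ρ A) := NoZeroDivisors.to_isDomain _
  exact Finite.isDomain_to_isField _

end commAlg

end Cfsg.Agent.Lib.Helper2.Zfp
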