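import Cfsg.Agent.Lib.Helper2.Zfp60

set_option autoImplicit false
set_option linter.style.haveILetI false

/-!
# Semilinear groups: a normal subgroup of index two from the quadratic character
-/

namespace Cfsg.Agent.Lib.Helper2.Zfp

variable {q : ℕ} [Fact q.Prime] {V : Type*} [AddCommGroup V] [Module (ZMod q) V]
  {G : Type*} [Group G]

theorem quadraticChar_ringEquiv {K : Type*} [Field K] [Fintype K] [DecidableEq K] (σ : K ≃+* K)
    (x : K) : quadraticChar K (σ x) = quadraticChar K x := by
  by_cases hx : x = 0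
  · rw [hx, map_zero]
  have hσx : σ x ≠ 0 := fun h => hx (by rwa [map_eq_zero_iff σ σ.injective] at h)
  by_cases hsq : IsSquare x
  · have h1 : IsSquare (σ x) := by
      obtain ⟨y, hy⟩ := hsq
      exact ⟨σ y, by rw [hy, map_mul]⟩
    rw [(quadraticChar_one_iff_isSquare hσx).mpr h1, (quadraticChar_one_iff_isSquare hx).mpr hsq]
  · have h1 : ¬ IsSquare (σ x) := by
      rintro ⟨y, hy⟩
      apply hsq
      refine ⟨σ.symm y, ?_⟩
      apply σ.injective
      rw [hy, map_mul, σ.apply_symm_apply]
    rw [quadraticChar_neg_one_iff_not_isSquare.mpr h1,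
      quadraticChar_neg_one_iff_not_isSquare.mpr hsq]

set_option maxHeartbeats 800000 in
/-- a transitive semilinear group over a field of odd characteristic has a normal subgroup of
index two -/
theorem exists_index_two_of_semilinear {K : Type*} [Field K] [Finite K] (h2 : (2 : K) ≠ 0)
    (ρ : G →* (V ≃ₗ[ZMod q] V)) (e : V ≃+ K)
    (hsemi : ∀ g : G, ∃ (a : K) (σ : K ≃+* K), ∀ v : V, e (ρ g v) = a * σ (e v))
    (htrans : ∀ v w : V, v ≠ 0 → w ≠ 0 → ∃ g : G, ρ g v = w) :
    ∃ N : Subgroup G, N.Normal ∧ N.index = 2 := by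
  classical
  letI := Fintype.ofFinite K
  have hchar : ringChar K ≠ 2 := by
    intro h
    haveI : CharP K 2 := by rw [← h]; exact ringChar.charP K
    apply h2
    have := CharP.cast_eq_zero K 2
    exact_mod_cast this
  set v₁ : V := e.symm 1 with hv₁
  have hev₁ : e v₁ = 1 := e.apply_symm_apply 1
  have hv₁0 : v₁ ≠ 0 := by
    intro h
    rw [h, map_zero] at hev₁
    exact zero_ne_one hev₁
  let c : G → K := fun g => e (ρ g v₁)
  have hc0 : ∀ g, c g ≠ 0 := by
    intro g h
    have h1 : ρ g v₁ = 0 := by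
      have : e (ρ g v₁) = e 0 := by rw [map_zero]; exact h
      exact e.injective this
    exact hv₁0 ((ρ g).map_eq_zero_iff.mp h1)
  have hcmul : ∀ g h : G, quadraticChar K (c (g * h)) =
      quadraticChar K (c g) * quadraticChar K (c h) := by
    intro g h
    obtain ⟨a, σ, hσ⟩ := hsemi g
    have ha : a = c g := by
      have := hσ v₁
      rw [hev₁, map_one, mul_one] at this
      exact this.symm
    have h1 : c (g * h) = c g * σ (c h) := by
      show e (ρ (g * h) v₁) = c g * σ (e (ρ h v₁))
      rw [map_mul, ← ha]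
      exact hσ (ρ h v₁)
    rw [h1, map_mul, quadraticChar_ringEquiv]
  let ψ₀ : G →* ℤ :=
    { toFun := fun g => quadraticChar K (c g)
      map_one' := by
        show quadraticChar K (e (ρ 1 v₁)) = 1
        rw [map_one]
        show quadraticChar K (e v₁) = 1
        rw [hev₁, map_one]
      map_mul' := hcmul }
  let ψ : G →* ℤˣ := ψ₀.toHomUnits
  obtain ⟨s, hs⟩ := FiniteField.exists_nonsquare hchar
  have hs0 : s ≠ 0 := by
    rintro rfl
    exact hs ⟨0, by simp⟩
  have hes : e.symm s ≠ 0 := by
    intro h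
    have : e (e.symm s) = e 0 := by rw [h]
    rw [e.apply_symm_apply, map_zero] at this
    exact hs0 this
  obtain ⟨g₀, hg₀⟩ := htrans v₁ (e.symm s) hv₁0 hes
  have hψg₀ : ψ g₀ = -1 := by
    apply Units.ext
    show quadraticChar K (c g₀) = -1
    have : c g₀ = s := by
      show e (ρ g₀ v₁) = s
      rw [hg₀, e.apply_symm_apply]
    rw [this]
    exact quadraticChar_neg_one_iff_not_isSquare.mpr hs
  refine ⟨ψ.ker, inferInstance, ?_⟩
  rw [Subgroup.index_ker]
  have htop : ψ.range = ⊤ := by
    rw [eq_top_iff]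
    intro u _
    rcases Int.units_eq_one_or u with h | h
    · rw [h]; exact Subgroup.one_mem _
    · rw [h, ← hψg₀]; exact ⟨g₀, rfl⟩
  rw [htop, Nat.card_congr Subgroup.topEquiv.toEquiv, Nat.card_eq_fintype_card]
  rfl

end Cfsg.Agent.Lib.Helper2.Zfp
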