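import Cfsg.Agent.Lib.Helper2.Zfp61

set_option autoImplicit false
set_option linter.style.haveILetI false

/-!
# Linear groups with an irreducible abelian normal subgroup are semilinear
-/

namespace Cfsg.Agent.Lib.Helper2.Zfp

universe u

variable {q : ℕ} [Fact q.Prime] {V : Type u} [AddCommGroup V] [Module (ZMod q) V]
  {G : Type*} [Group G]

variable (ρ : G →* (V ≃ₗ[ZMod q] V)) (A : Subgroup G)

theorem coe_mul_coe_inv (g : G) :
    ((ρ g : V ≃ₗ[ZMod q] V) : V →ₗ[ZMod q] V) * ((ρ g⁻¹ : V ≃ₗ[ZMod q] V) : V →ₗ[ZMod q] V) = 1 := by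
  apply LinearMap.ext
  intro v
  show ρ g (ρ g⁻¹ v) = v
  have : ρ (g * g⁻¹) v = v := by rw [mul_inv_cancel, map_one]; rfl
  rw [map_mul] at this
  exact this

theorem coe_inv_mul_coe (g : G) :
    ((ρ g⁻¹ : V ≃ₗ[ZMod q] V) : V →ₗ[ZMod q] V) * ((ρ g : V ≃ₗ[ZMod q] V) : V →ₗ[ZMod q] V) = 1 := by
  have := coe_mul_coe_inv ρ g⁻¹
  rwa [inv_inv] at this

/-- conjugation by a group element as a ring automorphism of the commutant -/
noncomputable def conjRing [hA : A.Normal] (g : G) : commAlg ρ A ≃+* commAlg ρ A where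
  toFun f := ⟨((ρ g : V ≃ₗ[ZMod q] V) : V →ₗ[ZMod q] V) * f *
    ((ρ g⁻¹ : V ≃ₗ[ZMod q] V) : V →ₗ[ZMod q] V), conj_mem_commAlg g f.2⟩
  invFun f := ⟨((ρ g⁻¹ : V ≃ₗ[ZMod q] V) : V →ₗ[ZMod q] V) * f *
    ((ρ g : V ≃ₗ[ZMod q] V) : V →ₗ[ZMod q] V), by
      have := conj_mem_commAlg (ρ := ρ) (A := A) g⁻¹ f.2
      rwa [inv_inv] at this⟩
  left_inv f := by
    apply Subtype.ext
    show ((ρ g⁻¹ : V ≃ₗ[ZMod q] V) : V →ₗ[ZMod q] V) *
      (((ρ g : V ≃ₗ[ZMod q] V) : V →ₗ[ZMod q] V) * f *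
        ((ρ g⁻¹ : V ≃ₗ[ZMod q] V) : V →ₗ[ZMod q] V)) *
      ((ρ g : V ≃ₗ[ZMod q] V) : V →ₗ[ZMod q] V) = f
    have h1 := coe_inv_mul_coe ρ g
    calc _ = (((ρ g⁻¹ : V ≃ₗ[ZMod q] V) : V →ₗ[ZMod q] V) *
          ((ρ g : V ≃ₗ[ZMod q] V) : V →ₗ[ZMod q] V)) * f *
          (((ρ g⁻¹ : V ≃ₗ[ZMod q] V) : V →ₗ[ZMod q] V) *
          ((ρ g : V ≃ₗ[ZMod q] V) : V →ₗ[ZMod q] V)) := by simp only [mul_assoc]
      _ = f := by rw [h1, one_mul, mul_one]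
  right_inv f := by
    apply Subtype.ext
    show ((ρ g : V ≃ₗ[ZMod q] V) : V →ₗ[ZMod q] V) *
      (((ρ g⁻¹ : V ≃ₗ[ZMod q] V) : V →ₗ[ZMod q] V) * f *
        ((ρ g : V ≃ₗ[ZMod q] V) : V →ₗ[ZMod q] V)) *
      ((ρ g⁻¹ : V ≃ₗ[ZMod q] V) : V →ₗ[ZMod q] V) = f
    have h1 := coe_mul_coe_inv ρ g
    calc _ = (((ρ g : V ≃ₗ[ZMod q] V) : V →ₗ[ZMod q] V) *
          ((ρ g⁻¹ : V ≃ₗ[ZMod q] V) : V →ₗ[ZMod q] V)) * f *
          (((ρ g : V ≃ₗ[ZMod q] V) : V →ₗ[ZMod q] V) *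
          ((ρ g⁻¹ : V ≃ₗ[ZMod q] V) : V →ₗ[ZMod q] V)) := by simp only [mul_assoc]
      _ = f := by rw [h1, one_mul, mul_one]
  map_mul' f f' := by
    apply Subtype.ext
    show ((ρ g : V ≃ₗ[ZMod q] V) : V →ₗ[ZMod q] V) * ((f : Module.End (ZMod q) V) * f') *
      ((ρ g⁻¹ : V ≃ₗ[ZMod q] V) : V →ₗ[ZMod q] V) =
      (((ρ g : V ≃ₗ[ZMod q] V) : V →ₗ[ZMod q] V) * f *
        ((ρ g⁻¹ : V ≃ₗ[ZMod q] V) : V →ₗ[ZMod q] V)) *
      (((ρ g : V ≃ₗ[ZMod q] V) : V →ₗ[ZMod q] V) * f' *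
        ((ρ g⁻¹ : V ≃ₗ[ZMod q] V) : V →ₗ[ZMod q] V))
    have h1 := coe_inv_mul_coe ρ g
    calc _ = ((ρ g : V ≃ₗ[ZMod q] V) : V →ₗ[ZMod q] V) * (f : Module.End (ZMod q) V) *
          1 * f' * ((ρ g⁻¹ : V ≃ₗ[ZMod q] V) : V →ₗ[ZMod q] V) := by
            rw [mul_one]; simp only [mul_assoc]
      _ = _ := by rw [← h1]; simp only [mul_assoc]
  map_add' f f' := by
    apply Subtype.ext
    show ((ρ g : V ≃ₗ[ZMod q] V) : V →ₗ[ZMod q] V) * ((f : Module.End (ZMod q) V) + f') *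
      ((ρ g⁻¹ : V ≃ₗ[ZMod q] V) : V →ₗ[ZMod q] V) =
      (((ρ g : V ≃ₗ[ZMod q] V) : V →ₗ[ZMod q] V) * f *
        ((ρ g⁻¹ : V ≃ₗ[ZMod q] V) : V →ₗ[ZMod q] V)) +
      (((ρ g : V ≃ₗ[ZMod q] V) : V →ₗ[ZMod q] V) * f' *
        ((ρ g⁻¹ : V ≃ₗ[ZMod q] V) : V →ₗ[ZMod q] V))
    rw [mul_add, add_mul]

theorem conjRing_apply [hA : A.Normal] (g : G) (f : commAlg ρ A) (v : V) :
    ((conjRing ρ A g f : commAlg ρ A) : Module.End (ZMod q) V) v =
      ρ g ((f : Module.End (ZMod q) V) (ρ g⁻¹ v)) := rfl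

variable {ρ A}

set_option maxHeartbeats 800000 in
/-- the semilinear structure, with the ring structure of the commutant -/
theorem exists_semilinear_core [hA : A.Normal] [Finite V] [Nontrivial V]
    (hcomm : ∀ a ∈ A, ∀ b ∈ A, ∀ v : V, ρ a (ρ b v) = ρ b (ρ a v))
    (hirr : ∀ W : Submodule (ZMod q) V, (∀ a ∈ A, ∀ v ∈ W, ρ a v ∈ W) → W = ⊥ ∨ W = ⊤) :
    ∃ e : V ≃+ commAlg ρ A, (q ≠ 2 → (2 : commAlg ρ A) ≠ 0) ∧
      ∀ g : G, ∃ (a : commAlg ρ A) (σ : commAlg ρ A ≃+* commAlg ρ A),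
        ∀ v : V, e (ρ g v) = a * σ (e v) := by
  have hfield := commAlg_isField hirr
  obtain ⟨v₀, hv₀⟩ := exists_ne (0 : V)
  let ev : commAlg ρ A →+ V :=
    { toFun := fun f => (f : Module.End (ZMod q) V) v₀
      map_zero' := rfl
      map_add' := fun _ _ => rfl }
  have hinj : Function.Injective ev := by
    rw [injective_iff_map_eq_zero]
    intro f hf
    by_contra hf0
    have hf' : (f : Module.End (ZMod q) V) ≠ 0 := fun e => hf0 (Subtype.ext e)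
    have := commAlg_injective hirr f.2 hf'
    apply hv₀
    apply this
    rw [map_zero]
    exact hf
  have hsurj : Function.Surjective ev := by
    let W : Submodule (ZMod q) V :=
      Submodule.map (LinearMap.applyₗ v₀) (Subalgebra.toSubmodule (commAlg ρ A))
    have hW : ∀ w, w ∈ W ↔ ∃ f ∈ commAlg ρ A, f v₀ = w := by
      intro w
      constructor
      · rintro ⟨f, hf, rfl⟩
        exact ⟨f, hf, rfl⟩
      · rintro ⟨f, hf, rfl⟩
        exact ⟨f, hf, rfl⟩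
    have hinv : ∀ a ∈ A, ∀ v ∈ W, ρ a v ∈ W := by
      intro a ha v hv
      obtain ⟨f, hf, rfl⟩ := (hW v).mp hv
      rw [hW]
      exact ⟨_, (commAlg ρ A).mul_mem (coe_mem_commAlg hcomm ha) hf, rfl⟩
    rcases hirr W hinv with h | h
    · exfalso
      have : v₀ ∈ W := (hW v₀).mpr ⟨1, (commAlg ρ A).one_mem, rfl⟩
      rw [h, Submodule.mem_bot] at this
      exact hv₀ this
    · intro w
      have : w ∈ W := by rw [h]; exact Submodule.mem_top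
      obtain ⟨f, hf, hfw⟩ := (hW w).mp this
      exact ⟨⟨f, hf⟩, hfw⟩
  let e₀ : commAlg ρ A ≃+ V := AddEquiv.ofBijective ev ⟨hinj, hsurj⟩
  have he₀ : ∀ f : commAlg ρ A, e₀ f = (f : Module.End (ZMod q) V) v₀ := fun f => rfl
  refine ⟨e₀.symm, ?_, ?_⟩
  · intro hq2 h2
    have h1 : e₀ (2 : commAlg ρ A) = 0 := by rw [h2, map_zero]
    rw [he₀] at h1
    have h3 : ((2 : commAlg ρ A) : Module.End (ZMod q) V) v₀ = (2 : ZMod q) • v₀ := by
      show (2 : Module.End (ZMod q) V) v₀ = (2 : ZMod q) • v₀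
      rw [two_smul]
      have : (2 : Module.End (ZMod q) V) = 1 + 1 := by norm_num
      rw [this]; rfl
    rw [h3] at h1
    rcases smul_eq_zero.mp h1 with h | h
    · have h4 : ((2 : ℕ) : ZMod q) = 0 := by exact_mod_cast h
      rw [ZMod.natCast_eq_zero_iff] at h4
      have := (Nat.prime_dvd_prime_iff_eq Fact.out Nat.prime_two).mp h4
      exact hq2 this
    · exact hv₀ h
  · intro g
    refine ⟨e₀.symm (ρ g v₀), conjRing ρ A g, ?_⟩
    intro v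
    apply e₀.injective
    rw [e₀.apply_symm_apply]
    set f := e₀.symm v with hf
    have hfv : (f : Module.End (ZMod q) V) v₀ = v := by
      rw [← he₀, hf, e₀.apply_symm_apply]
    set a := e₀.symm (ρ g v₀) with ha
    have hav : (a : Module.End (ZMod q) V) v₀ = ρ g v₀ := by
      rw [← he₀, ha, e₀.apply_symm_apply]
    rw [hfield.mul_comm, he₀]
    show ρ g v = ((conjRing ρ A g f : commAlg ρ A) : Module.End (ZMod q) V)
      ((a : Module.End (ZMod q) V) v₀)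
    rw [conjRing_apply, hav]
    have : ρ g⁻¹ (ρ g v₀) = v₀ := by
      have := congrArg (fun F : Module.End (ZMod q) V => F v₀) (coe_inv_mul_coe ρ g)
      exact this
    rw [this, hfv]

end Cfsg.Agent.Lib.Helper2.Zfp
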