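import Cfsg.Agent.Lib.Helper2.Zfp59
import Cfsg.Agent.Lib.Lead.SL23R6
import Cfsg.Agent.Lib.Helper2.Zfp23

set_option autoImplicit false
set_option linter.style.haveILetI false

/-!
# Group-theoretic tools for the exceptional soluble sharply transitive groups
-/

namespace Cfsg.Agent.Lib.Helper2.Zfp

open QuaternionGroup Cfsg.Agent.Lib.Lead

/-- a group of order twice an odd number has a normal subgroup of index two -/
theorem exists_index_two_of_two_mul_odd {X : Type*} [Group X] [Finite X] (m : ℕ) (hm : Odd m)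
    (h : Nat.card X = 2 * m) : ∃ K : Subgroup X, K.Normal ∧ K.index = 2 := by
  haveI : Fact (Nat.Prime 2) := ⟨Nat.prime_two⟩
  have hmin : (Nat.card X).minFac = 2 := by
    rw [h, Nat.minFac_eq_two_iff]
    exact ⟨m, rfl⟩
  obtain ⟨P⟩ : Nonempty (Sylow 2 X) := inferInstance
  have hm0 : m ≠ 0 := by
    rintro rfl
    exact absurd hm (by decide)
  have hPcard : Nat.card P = 2 := by
    rw [P.card_eq_multiplicity, h, Nat.factorization_mul (by norm_num) hm0]
    have h1 : (Nat.factorization 2) 2 = 1 := Nat.prime_two.factorization_self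
    have h2 : (Nat.factorization m) 2 = 0 := by
      apply Nat.factorization_eq_zero_of_not_dvd
      intro hd
      exact (Nat.not_even_iff_odd.mpr hm) (even_iff_two_dvd.mpr hd)
    rw [Finsupp.add_apply, h1, h2]
    norm_num
  have hPc : IsCyclic P := isCyclic_of_prime_card hPcard
  have hc := IsCyclic.isComplement' hmin hPc
  refine ⟨(MonoidHom.transferSylow P (hPc.normalizer_le_centralizer hmin)).ker,
    inferInstance, ?_⟩
  rw [hc.symm.index_eq_card, hPcard]

theorem exists_index_two_of_quotient {H : Type*} [Group H] (N : Subgroup H) [N.Normal]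
    (h : ∃ K : Subgroup (H ⧸ N), K.Normal ∧ K.index = 2) :
    ∃ M : Subgroup H, M.Normal ∧ M.index = 2 := by
  obtain ⟨K, hKn, hK⟩ := h
  refine ⟨K.comap (QuotientGroup.mk' N), hKn.comap _, ?_⟩
  rw [Subgroup.index_comap_of_surjective _ (QuotientGroup.mk'_surjective N), hK]

/-- a section of full order is the whole group -/
theorem equiv_of_section_card {X T : Type*} [Group X] [Finite X] [Group T] [Finite T]
    (hcard : Nat.card X = Nat.card T) (H K : Subgroup X) [hn : (K.subgroupOf H).Normal]
    (e : (H ⧸ K.subgroupOf H) ≃* T) : Nonempty (X ≃* T) := by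
  have h1 : Nat.card H = Nat.card (H ⧸ K.subgroupOf H) * Nat.card (K.subgroupOf H) :=
    Subgroup.card_eq_card_quotient_mul_card_subgroup _
  rw [Nat.card_congr e.toEquiv, ← hcard] at h1
  have h2 : Nat.card H ≤ Nat.card X := Subgroup.card_le_card_group H
  have hXpos : 0 < Nat.card X := Nat.card_pos
  have hKpos : 0 < Nat.card (K.subgroupOf H) := Nat.card_pos
  have hK1 : Nat.card (K.subgroupOf H) = 1 := by
    by_contra hne
    have : 2 ≤ Nat.card (K.subgroupOf H) := by omega
    nlinarith
  have hHX : Nat.card H = Nat.card X := by rw [h1, hK1, mul_one]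
  have hHtop : H = ⊤ := Subgroup.eq_top_of_card_eq H hHX
  have hKbot : K.subgroupOf H = ⊥ := Subgroup.eq_bot_of_card_eq _ hK1
  subst hHtop
  have e1 : X ≃* (⊤ : Subgroup X) := Subgroup.topEquiv.symm
  have e2 : (⊤ : Subgroup X) ≃* (⊤ : Subgroup X) ⧸ K.subgroupOf ⊤ := by
    have := QuotientGroup.quotientBot (G := (⊤ : Subgroup X))
    exact this.symm.trans (QuotientGroup.quotientMulEquivOfEq hKbot.symm)
  exact ⟨e1.trans (e2.trans e)⟩

/-- a normal quaternion subgroup extended by a non-centralizing element of order three is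
`SL(2,3)` -/
theorem q8_ext_three {H : Type*} [Group H] [Finite H] (N : Subgroup H) [hN : N.Normal]
    (e : N ≃* QuaternionGroup 2) (t : H) (ht : orderOf t = 3)
    (htc : t ∉ Subgroup.centralizer (N : Set H)) :
    Nat.card ↥(N ⊔ Subgroup.zpowers t) = 24 ∧
      Nonempty (↥(N ⊔ Subgroup.zpowers t) ≃* Matrix.SpecialLinearGroup (Fin 2) (ZMod 3)) := by
  have hNcard : Nat.card N = 8 := by
    rw [Nat.card_congr e.toEquiv, Nat.card_eq_fintype_card, QuaternionGroup.card]
  have hTcard : Nat.card (Subgroup.zpowers t) = 3 := by rw [Nat.card_zpowers, ht]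
  have hdisj : Subgroup.zpowers t ⊓ N = ⊥ := by
    apply (Subgroup.disjoint_of_coprime_natCard _).eq_bot
    rw [hNcard, hTcard]
    norm_num
  have hcard : Nat.card ↥(N ⊔ Subgroup.zpowers t) = 24 := by
    rw [sup_comm, card_sup_of_disjoint (Subgroup.zpowers t) N
      (by rw [Subgroup.normalizer_eq_top]; exact le_top) hdisj, hNcard, hTcard]
  refine ⟨hcard, ?_⟩
  set L : Subgroup H := N ⊔ Subgroup.zpowers t with hL
  have hNL : N ≤ L := le_sup_left
  have htL : t ∈ L := (le_sup_right : Subgroup.zpowers t ≤ L) (Subgroup.mem_zpowers t)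
  let D : Subgroup L := N.subgroupOf L
  let θ : D ≃* QuaternionGroup 2 := (Subgroup.subgroupOfEquivOfLe hNL).trans e
  let g : L := ⟨t, htL⟩
  haveI : D.Normal := Subgroup.normal_subgroupOf
  have hg : g ∈ Subgroup.normalizer (D : Set L) := by
    rw [Subgroup.normalizer_eq_top]; exact Subgroup.mem_top g
  have hodd : Odd (orderOf g) := by
    have : orderOf g = 3 := by
      rw [← ht]; exact (Subgroup.orderOf_mk t htL)
    rw [this]; decide
  have hgc : g ∉ Subgroup.centralizer (D : Set L) := by
    intro hgc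
    apply htc
    rw [Subgroup.mem_centralizer_iff]
    intro n hn
    have h1 := Subgroup.mem_centralizer_iff.mp hgc ⟨n, hNL hn⟩
      (Subgroup.mem_subgroupOf.mpr hn)
    exact congrArg Subtype.val h1
  obtain ⟨H', K', hn', ⟨e'⟩⟩ := SL23R.exists_section_of_q8 D θ g hg hodd hgc
  haveI := hn'
  exact equiv_of_section_card (by rw [hcard, card_SL23]) H' K' e'

end Cfsg.Agent.Lib.Helper2.Zfp
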