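import Cfsg.Agent.Lib.Helper2.Zfp64

set_option autoImplicit false
set_option linter.style.haveILetI false

/-!
# The exceptional soluble sharply transitive groups: index two or `SL(2,3)`
-/

namespace Cfsg.Agent.Lib.Helper2.Zfp

open QuaternionGroup Cfsg.Agent.Lib.Lead

variable {p : ℕ} [Fact p.Prime] {V : Type*} [AddCommGroup V] [Module (ZMod p) V]

/-- the centralizer of an irreducible normal quaternion subgroup is central -/
theorem centralizer_q8_central (H : Subgroup (V ≃ₗ[ZMod p] V))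
    (hfpf : ∀ h : H, h ≠ 1 → ∀ v : V, (h : V ≃ₗ[ZMod p] V) v = v → v = 0)
    (N : Subgroup H) (e : N ≃* QuaternionGroup 2)
    (hirr : ∀ W : Submodule (ZMod p) V,
      (∀ n ∈ N, ∀ v ∈ W, ((n : H) : V ≃ₗ[ZMod p] V) v ∈ W) → W = ⊥ ∨ W = ⊤) [Nontrivial V]
    (c : H) (hc : c ∈ Subgroup.centralizer (N : Set H)) (h : H) : h * c = c * h := by
  have hq := qrel_of_q8 H hfpf N e hirr
  have hcomm : ∀ n : N, ∀ v : V, (c : V ≃ₗ[ZMod p] V) (subAct H N n v) =
      subAct H N n ((c : V ≃ₗ[ZMod p] V) v) := by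
    intro n v
    have h1 : (n : H) * c = c * (n : H) := Subgroup.mem_centralizer_iff.mp hc n n.2
    have := congrArg (fun x : H => (x : V ≃ₗ[ZMod p] V) v) h1
    exact this.symm
  obtain ⟨x, hx⟩ := hq.scalar_of_commute (((c : V ≃ₗ[ZMod p] V) : V →ₗ[ZMod p] V))
    (hcomm _) (hcomm _)
  apply Subtype.ext
  apply LinearEquiv.ext
  intro u
  show (h : V ≃ₗ[ZMod p] V) ((c : V ≃ₗ[ZMod p] V) u) =
    (c : V ≃ₗ[ZMod p] V) ((h : V ≃ₗ[ZMod p] V) u)
  have h1 : (c : V ≃ₗ[ZMod p] V) u = x • u := hx u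
  have h2 : (c : V ≃ₗ[ZMod p] V) ((h : V ≃ₗ[ZMod p] V) u) = x • (h : V ≃ₗ[ZMod p] V) u := hx _
  rw [h1, h2, map_smul]

/-- the central involution of the quaternion subgroup lies in the centralizer -/
theorem two_dvd_card_centralizer_q8 {H : Type*} [Group H] [Finite H] (N : Subgroup H)
    (e : N ≃* QuaternionGroup 2) : 2 ∣ Nat.card (Subgroup.centralizer (N : Set H)) := by
  set z : N := e.symm (a 2) with hz
  have hzc : (z : H) ∈ Subgroup.centralizer (N : Set H) := by
    rw [Subgroup.mem_centralizer_iff]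
    intro n hn
    have h1 : (⟨n, hn⟩ : N) * z = z * ⟨n, hn⟩ := by
      apply e.injective
      rw [map_mul, map_mul, hz, e.apply_symm_apply]
      generalize e ⟨n, hn⟩ = x
      revert x
      decide
    exact congrArg Subtype.val h1
  have hord : orderOf (⟨(z : H), hzc⟩ : Subgroup.centralizer (N : Set H)) = 2 := by
    rw [Subgroup.orderOf_mk, Subgroup.orderOf_coe, hz, MulEquiv.orderOf_eq]
    have : (a 2 : QuaternionGroup 2) = a 1 ^ 2 := by decide
    rw [this, orderOf_pow' _ (by norm_num), orderOf_a_one]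
    norm_num
  rw [← hord]
  exact orderOf_dvd_natCard _

set_option maxHeartbeats 1600000 in
theorem exceptional_case [Finite V] (H : Subgroup (V ≃ₗ[ZMod p] V))
    (hreg : ∀ v w : V, v ≠ 0 → w ≠ 0 → ∃! h : H, (h : V ≃ₗ[ZMod p] V) v = w)
    (hI : ∀ A : Subgroup H, A.Normal → IsCyclic A → ∃ W : Submodule (ZMod p) V, W ≠ ⊥ ∧ W ≠ ⊤ ∧
      ∀ a ∈ A, ∀ v ∈ W, ((a : H) : V ≃ₗ[ZMod p] V) v ∈ W)
    (hsolv : Group.IsSolvable H) :
    (∃ M : Subgroup H, M.Normal ∧ M.index = 2) ∨
      (Nat.card V = 25 ∧ Nonempty (H ≃* Matrix.SpecialLinearGroup (Fin 2) (ZMod 3))) ∨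
      (Nat.card V = 121 ∧
        Nonempty (H ≃* Matrix.SpecialLinearGroup (Fin 2) (ZMod 3) × Multiplicative (ZMod 5))) := by
  haveI : Fact (Nat.Prime 3) := ⟨Nat.prime_three⟩
  haveI : Fact (Nat.Prime 5) := ⟨Nat.prime_five⟩
  obtain ⟨N, hNn, ⟨e⟩, hirr⟩ := sharp_solvable_structure H hreg hI hsolv
  haveI := hNn
  obtain ⟨hnt, hcardV, hcardH, hdvd, hidx, htwo, hmul⟩ := q8_orders H hreg N e hirr
  have hfpf := fpf_of_reg H hreg
  have hdeg := sharp_solvable_degrees H hreg hI hsolv
  have hNcard : Nat.card N = 8 := by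
    rw [Nat.card_congr e.toEquiv, Nat.card_eq_fintype_card, QuaternionGroup.card]
  have hquot : Nat.card H = Nat.card (H ⧸ N) * Nat.card N :=
    Subgroup.card_eq_card_quotient_mul_card_subgroup N
  rw [hNcard] at hquot
  have h2c := two_dvd_card_centralizer_q8 N e
  rw [hcardV] at hdeg
  have hp : p = 5 ∨ p = 7 ∨ p = 11 ∨ p = 23 := by
    rcases hdeg with h | h | h | h
    · left; nlinarith
    · right; left; nlinarith
    · right; right; left; nlinarith
    · right; right; right; nlinarith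
  -- an element of order three outside the centralizer
  have hthree : ∀ (hc3 : ¬ 3 ∣ Nat.card (Subgroup.centralizer (N : Set H)))
      (h3 : 3 ∣ Nat.card H), ∃ t : H, orderOf t = 3 ∧ t ∉ Subgroup.centralizer (N : Set H) := by
    intro hc3 h3
    obtain ⟨t, ht⟩ := exists_prime_orderOf_dvd_card' (G := H) 3 h3
    refine ⟨t, ht, ?_⟩
    intro htc
    apply hc3
    have h1 : orderOf (⟨t, htc⟩ : Subgroup.centralizer (N : Set H)) = 3 := by
      rw [← Subgroup.orderOf_coe]; exact ht
    rw [← h1]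
    exact orderOf_dvd_natCard _
  rcases hp with rfl | rfl | rfl | rfl
  · -- `p = 5`
    right; left
    refine ⟨hcardV, ?_⟩
    have hH : Nat.card H = 24 := by omega
    have hc3 : ¬ 3 ∣ Nat.card (Subgroup.centralizer (N : Set H)) := by
      intro h3
      have := h3.trans hdvd
      norm_num at this
    obtain ⟨t, ht, htc⟩ := hthree hc3 (by rw [hH]; norm_num)
    obtain ⟨hLcard, ⟨eL⟩⟩ := q8_ext_three N e t ht htc
    have hLtop : N ⊔ Subgroup.zpowers t = ⊤ :=
      Subgroup.eq_top_of_card_eq _ (by rw [hLcard, hH])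
    exact ⟨(Subgroup.topEquiv.symm.trans (MulEquiv.subgroupCongr hLtop.symm)).trans eL⟩
  · -- `p = 7`
    left
    have hH : Nat.card H = 48 := by omega
    apply exists_index_two_of_quotient N
    apply exists_index_two_of_two_mul_odd 3 (by decide)
    omega
  · -- `p = 11`
    right; right
    refine ⟨hcardV, ?_⟩
    have hH : Nat.card H = 120 := by omega
    have hc10 : Nat.card (Subgroup.centralizer (N : Set H)) = 10 := by
      have h1 : Nat.card (Subgroup.centralizer (N : Set H)) ∣ 10 := hdvd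
      have h2 : Nat.card (Subgroup.centralizer (N : Set H)) ≤ 10 := Nat.le_of_dvd (by norm_num) h1
      have h3 : (Subgroup.centralizer (N : Set H)).index ≤ 24 := Nat.le_of_dvd (by norm_num) hidx
      have h4 : Nat.card (Subgroup.centralizer (N : Set H)) *
          (Subgroup.centralizer (N : Set H)).index = 120 := by
        rw [← hmul]
      have h5 : 0 < Nat.card (Subgroup.centralizer (N : Set H)) := Nat.card_pos
      generalize Nat.card (Subgroup.centralizer (N : Set H)) = c at h1 h2 h4 h5 h2c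
      generalize (Subgroup.centralizer (N : Set H)).index = k at h3 h4
      interval_cases c <;> omega
    have hc3 : ¬ 3 ∣ Nat.card (Subgroup.centralizer (N : Set H)) := by
      rw [hc10]; norm_num
    obtain ⟨t, ht, htc⟩ := hthree hc3 (by rw [hH]; norm_num)
    obtain ⟨hLcard, ⟨eL⟩⟩ := q8_ext_three N e t ht htc
    obtain ⟨m₀, hm₀⟩ := exists_prime_orderOf_dvd_card'
      (G := Subgroup.centralizer (N : Set H)) 5 (by rw [hc10]; norm_num)
    have hm₀' : orderOf (m₀ : H) = 5 := by rw [Subgroup.orderOf_coe]; exact hm₀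
    exact exists_prod_equiv (N ⊔ Subgroup.zpowers t) (m₀ : H) 5 hm₀'
      (fun l _ => centralizer_q8_central H hfpf N e hirr m₀ m₀.2 l)
      (by rw [hLcard]; norm_num) (by rw [hLcard, hH]) eL
  · -- `p = 23`
    left
    have hH : Nat.card H = 528 := by omega
    apply exists_index_two_of_quotient N
    apply exists_index_two_of_two_mul_odd 33 (by decide)
    omega

end Cfsg.Agent.Lib.Helper2.Zfp
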