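import Cfsg.Agent.Lib.Helper2.Zfp65
import Cfsg.Agent.Lib.Helper2.Zfp63

set_option autoImplicit false
set_option linter.style.haveILetI false

/-!
# Soluble linear groups regular on the non-zero vectors
-/

namespace Cfsg.Agent.Lib.Helper2.Zfp

universe u

set_option maxHeartbeats 1600000 in
theorem solvable_regular_linear (q : ℕ) [Fact q.Prime] {V : Type u} [AddCommGroup V]
    [Module (ZMod q) V] [Finite V] [Nontrivial V] {G : Type*} [Group G] [Finite G]
    (hsol : Group.IsSolvable G) (ρ : G →* (V ≃ₗ[ZMod q] V)) (hρ : Function.Injective ρ)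
    (htrans : ∀ v w : V, v ≠ 0 → w ≠ 0 → ∃ g : G, ρ g v = w)
    (hreg : ∀ v : V, v ≠ 0 → ∀ g : G, ρ g v = v → g = 1) :
    ((∃ (F : Type) (_ : Field F) (_ : Fintype F) (e : V ≃+ F),
        ∀ g : G, ∃ (a : F) (σ : F ≃+* F), ∀ v : V, e (ρ g v) = a * σ (e v)) ∨
      Nat.card V ∈ ({25, 49, 121, 529} : Set ℕ)) ∧
    (q ≠ 2 → (∃ N : Subgroup G, N.Normal ∧ N.index = 2) ∨
      (Nat.card V = 25 ∧ Nonempty (G ≃* Matrix.SpecialLinearGroup (Fin 2) (ZMod 3))) ∨
      (Nat.card V = 121 ∧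
        Nonempty (G ≃* Matrix.SpecialLinearGroup (Fin 2) (ZMod 3) × Multiplicative (ZMod 5)))) := by
  set H : Subgroup (V ≃ₗ[ZMod q] V) := ρ.range with hH
  let eGH : G ≃* H := MonoidHom.ofInjective hρ
  have heGH : ∀ g : G, ((eGH g : H) : V ≃ₗ[ZMod q] V) = ρ g := fun g => rfl
  have hregH : ∀ v w : V, v ≠ 0 → w ≠ 0 → ∃! h : H, (h : V ≃ₗ[ZMod q] V) v = w := by
    intro v w hv hw
    obtain ⟨g, hg⟩ := htrans v w hv hw
    refine ⟨eGH g, hg, ?_⟩
    intro h' hh'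
    obtain ⟨g', rfl⟩ := eGH.surjective h'
    congr 1
    have h1 : ρ g' v = w := hh'
    have h2 : ρ (g⁻¹ * g') v = v := by
      rw [map_mul]
      show ρ g⁻¹ (ρ g' v) = v
      rw [h1, ← hg]
      have : ρ (g⁻¹ * g) v = v := by rw [inv_mul_cancel, map_one]; rfl
      rw [map_mul] at this
      exact this
    have h3 := hreg v hv _ h2
    have : g' = g * (g⁻¹ * g') := by group
    rw [this, h3, mul_one]
  haveI hsolH : Group.IsSolvable H :=
    Group.isSolvable_of_isSolvable_injective (f := eGH.symm.toMonoidHom) eGH.symm.injective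
  by_cases hI : ∀ A : Subgroup H, A.Normal → IsCyclic A → ∃ W : Submodule (ZMod q) V,
      W ≠ ⊥ ∧ W ≠ ⊤ ∧ ∀ a ∈ A, ∀ v ∈ W, ((a : H) : V ≃ₗ[ZMod q] V) v ∈ W
  · constructor
    · right
      rcases sharp_solvable_degrees H hregH hI hsolH with h | h | h | h <;> rw [h] <;> simp
    · intro _
      rcases exceptional_case H hregH hI hsolH with ⟨M, hMn, hM⟩ | ⟨hc, ⟨e⟩⟩ | ⟨hc, ⟨e⟩⟩
      · left
        refine ⟨M.comap eGH.toMonoidHom, hMn.comap _, ?_⟩
        have := Subgroup.index_comap_of_surjective M (f := eGH.toMonoidHom) eGH.surjective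
        rw [this, hM]
      · right; left
        exact ⟨hc, ⟨eGH.trans e⟩⟩
      · right; right
        exact ⟨hc, ⟨eGH.trans e⟩⟩
  · push Not at hI
    obtain ⟨A, hAn, hAc, hAirr⟩ := hI
    let A' : Subgroup G := A.comap eGH.toMonoidHom
    haveI : A'.Normal := hAn.comap _
    have hmem : ∀ a : G, a ∈ A' ↔ eGH a ∈ A := fun a => Iff.rfl
    have hcomm : ∀ a ∈ A', ∀ b ∈ A', ∀ v : V, ρ a (ρ b v) = ρ b (ρ a v) := by
      intro a ha b hb v
      obtain ⟨c, hc⟩ := hAc.exists_generator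
      obtain ⟨k, hk⟩ := Subgroup.mem_zpowers_iff.mp (hc ⟨eGH a, ha⟩)
      obtain ⟨l, hl⟩ := Subgroup.mem_zpowers_iff.mp (hc ⟨eGH b, hb⟩)
      have h1 : (⟨eGH a, ha⟩ : A) * ⟨eGH b, hb⟩ = ⟨eGH b, hb⟩ * ⟨eGH a, ha⟩ := by
        rw [← hk, ← hl, ← zpow_add, ← zpow_add, add_comm]
      have h2 : eGH a * eGH b = eGH b * eGH a := congrArg Subtype.val h1
      have h3 : a * b = b * a := by
        apply eGH.injective
        rw [map_mul, map_mul, h2]
      have : ρ (a * b) v = ρ (b * a) v := by rw [h3]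
      rw [map_mul, map_mul] at this
      exact this
    have hirr : ∀ W : Submodule (ZMod q) V, (∀ a ∈ A', ∀ v ∈ W, ρ a v ∈ W) → W = ⊥ ∨ W = ⊤ := by
      intro W hW
      by_contra hcon
      push Not at hcon
      obtain ⟨a, ha, v, hv, hnot⟩ := hAirr W hcon.1 hcon.2
      apply hnot
      obtain ⟨g, rfl⟩ := eGH.surjective a
      exact hW g ha v hv
    obtain ⟨h1, h2⟩ := field_case hcomm hirr htrans
    exact ⟨Or.inl h1, fun hq2 => Or.inl (h2 hq2)⟩

end Cfsg.Agent.Lib.Helper2.Zfp
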