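import Cfsg.Agent.Lib.Helper2.Zfp6

set_option autoImplicit false
set_option linter.style.haveILetI false

/-!
# Two elements of order three in a fixed-point-free group generate a cyclic group, a double cover
of `A₄` or a double cover of `A₅`
-/

namespace Cfsg.Agent.Lib.Helper2.Zfp

open Matrix
open scoped MatrixGroups

/-- a homomorphism from a 2-generated group killing both generators is trivial -/
theorem hom_eq_one_of_closure_pair {G A : Type*} [Group G] [Group A] {x y : G}
    (f : Subgroup.closure {x, y} →* A)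
    (h1 : f ⟨x, Subgroup.subset_closure (by simp)⟩ = 1)
    (h2 : f ⟨y, Subgroup.subset_closure (by simp)⟩ = 1) (g : Subgroup.closure {x, y}) :
    f g = 1 := by
  have hle : Subgroup.closure {x, y} ≤ f.ker.map (Subgroup.closure {x, y}).subtype := by
    rw [Subgroup.closure_le]
    intro a ha
    rcases ha with rfl | rfl
    · exact ⟨⟨a, Subgroup.subset_closure (by simp)⟩, h1, rfl⟩
    · exact ⟨⟨a, Subgroup.subset_closure (by simp)⟩, h2, rfl⟩
  obtain ⟨k, hk, hkg⟩ := hle g.2
  have : k = g := Subtype.ext hkg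
  rw [← this]
  exact hk

theorem dihedral_cube {n : ℕ} (d : DihedralGroup n) (hd : d ^ 3 = 1) :
    ∃ i, d = DihedralGroup.r i := by
  cases d with
  | r i => exact ⟨i, rfl⟩
  | sr i =>
    exfalso
    have h1 : (DihedralGroup.sr i : DihedralGroup n) * DihedralGroup.sr i = 1 := by
      rw [DihedralGroup.sr_mul_sr, sub_self]; rfl
    have h2 : (DihedralGroup.sr i : DihedralGroup n) ^ 3 = DihedralGroup.sr i := by
      rw [pow_succ, pow_two, h1, one_mul]
    rw [h2, DihedralGroup.one_def] at hd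
    cases hd

theorem A4_two_involutions : ∃ a b : alternatingGroup (Fin 4),
    a ≠ 1 ∧ b ≠ 1 ∧ a ≠ b ∧ a * a = 1 ∧ b * b = 1 := by decide

theorem A5_two_involutions : ∃ a b : alternatingGroup (Fin 5),
    a ≠ 1 ∧ b ≠ 1 ∧ a ≠ b ∧ a * a = 1 ∧ b * b = 1 := by decide

variable {G : Type*} [Group G] [Finite G] {E : Type*} [Field E] [IsAlgClosed E] {M : Type*}
  [AddCommGroup M] [Module E M] [FiniteDimensional E M] [Nontrivial M]

theorem Rep.pair_structure (R : Rep G E M) (p : ℕ) [Fact p.Prime] [CharP E p] {x y : G}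
    (hx : x ^ 3 = 1) (hy : y ^ 3 = 1) (hxy : x * y ≠ y * x) :
    ∃ z ∈ Subgroup.closure {x, y}, z ≠ 1 ∧ z * z = 1 ∧
      ((∃ ψ : Subgroup.closure {x, y} →* alternatingGroup (Fin 4), Function.Surjective ψ ∧
          ∀ g, ψ g = 1 ↔ ((g : G) = 1 ∨ (g : G) = z)) ∨
       (∃ ψ : Subgroup.closure {x, y} →* alternatingGroup (Fin 5), Function.Surjective ψ ∧
          ∀ g, ψ g = 1 ↔ ((g : G) = 1 ∨ (g : G) = z))) := by
  classical
  have hx1 : x ≠ 1 := by rintro rfl; exact hxy (by rw [one_mul, mul_one])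
  have hy1 : y ≠ 1 := by rintro rfl; exact hxy (by rw [one_mul, mul_one])
  set X := Subgroup.closure {x, y} with hX
  obtain ⟨φ, hφ⟩ : ∃ φ : X →* GL (Fin 2) E, Function.Injective φ :=
    R.exists_gl2_pair (R.trace_of_cube hx1 hx) (R.trace_of_cube hy1 hy) hxy
  have hxX : x ∈ X := Subgroup.subset_closure (by simp)
  have hyX : y ∈ X := Subgroup.subset_closure (by simp)
  set xx : X := ⟨x, hxX⟩ with hxx
  set yy : X := ⟨y, hyX⟩ with hyy
  have hxx3 : xx ^ 3 = 1 := Subtype.ext (by simpa using hx)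
  have hyy3 : yy ^ 3 = 1 := Subtype.ext (by simpa using hy)
  have hpX : ∀ g : X, g ^ p = 1 → g = 1 := by
    intro g hg
    apply Subtype.ext
    apply R.eq_one_of_pow_char p
    have := congrArg Subtype.val hg
    simpa using this
  set ψ : X →* PGL(Fin 2, E) := ProjGenLinGroup.mk.comp φ with hψ
  -- determinants are cube roots of unity
  have hdet : ∀ g : X, (GeneralLinearGroup.det (φ g)) ^ 3 = 1 := by
    let d3 : X →* Eˣ := (powMonoidHom 3).comp (GeneralLinearGroup.det.comp φ)
    have hd3 : ∀ g : X, d3 g = (GeneralLinearGroup.det (φ g)) ^ 3 := fun g => rfl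
    intro g
    rw [← hd3]
    apply hom_eq_one_of_closure_pair d3
    · show d3 xx = 1
      rw [hd3, ← map_pow, ← map_pow, hxx3, map_one, map_one]
    · show d3 yy = 1
      rw [hd3, ← map_pow, ← map_pow, hyy3, map_one, map_one]
  -- kernel elements
  have hK6 : ∀ g ∈ ψ.ker, g ^ 6 = 1 := by
    intro g hg
    obtain ⟨u, hu⟩ := exists_scalar_of_mem_ker φ hg
    have h1 := hdet g
    rw [hu, det_scalar_two, ← pow_mul] at h1
    apply hφ
    rw [map_pow, hu, ← map_pow, map_one]
    have : u ^ 6 = 1 := h1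
    rw [this, map_one]
  have hK3 : ∀ g ∈ ψ.ker, g ^ 3 = 1 → g = 1 := by
    intro g hg hg3
    by_contra hg1
    have hc : xx * g = g * xx := (central_of_mem_ker φ hφ hg xx).symm
    have hcG : x * (g : G) = (g : G) * x := congrArg Subtype.val hc
    have hg3G : (g : G) ^ 3 = 1 := by
      have := congrArg Subtype.val hg3
      simpa using this
    have hg1G : (g : G) ≠ 1 := fun h => hg1 (Subtype.ext h)
    have hmem := R.mem_zpowers_of_commute_prime Nat.prime_three hg3G hg1G hx hcG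
    obtain ⟨k, hk⟩ := Subgroup.mem_zpowers_iff.mp hmem
    have hxxk : xx = g ^ k := Subtype.ext (by simpa using hk.symm)
    apply hxy
    have h1 : g ^ k * yy = yy * g ^ k := by
      have : Commute g yy := central_of_mem_ker φ hφ hg yy
      exact (this.zpow_left k).eq
    rw [← hxxk] at h1
    exact congrArg Subtype.val h1
  have hK2 : ∀ g ∈ ψ.ker, g * g = 1 := by
    intro g hg
    have h1 : g * g ∈ ψ.ker := ψ.ker.mul_mem hg hg
    apply hK3 _ h1
    calc (g * g) ^ 3 = g ^ 6 := by rw [← pow_two, ← pow_mul]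
      _ = 1 := hK6 g hg
  -- the images of the generators do not commute
  have hcomm : ψ xx * ψ yy ≠ ψ yy * ψ xx := by
    intro h
    set c : X := xx * yy * xx⁻¹ * yy⁻¹ with hc
    have hcK : c ∈ ψ.ker := by
      rw [MonoidHom.mem_ker, hc, map_mul, map_mul, map_mul, map_inv, map_inv, h]
      group
    have hc2 := hK2 c hcK
    by_cases hc1 : c = 1
    · apply hxy
      have : xx * yy = yy * xx := by
        calc xx * yy = c * yy * xx := by rw [hc]; group
          _ = yy * xx := by rw [hc1, one_mul]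
      exact congrArg Subtype.val this
    · have hcy : xx * yy * xx⁻¹ = c * yy := by rw [hc]; group
      have h3 : (xx * yy * xx⁻¹) ^ 3 = 1 := by
        rw [conj_pow, hyy3]; group
      have hcc : Commute c yy := central_of_mem_ker φ hφ hcK yy
      have h4 : (c * yy) ^ 3 = c := by
        rw [hcc.mul_pow, hyy3, mul_one, pow_succ, pow_two, hc2, one_mul]
      rw [hcy, h4] at h3
      exact hc1 h3
  -- the final packaging
  have finish : ∀ {A : Type} [Group A] (e : ψ.range ≃* A)
      (_ : ∃ a b : A, a ≠ 1 ∧ b ≠ 1 ∧ a ≠ b ∧ a * a = 1 ∧ b * b = 1),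
      ∃ z ∈ X, z ≠ 1 ∧ z * z = 1 ∧ ∃ ψ₀ : X →* A, Function.Surjective ψ₀ ∧
        ∀ g, ψ₀ g = 1 ↔ ((g : G) = 1 ∨ (g : G) = z) := by
    intro A _ e hA
    set ψ₀ : X →* A := e.toMonoidHom.comp ψ.rangeRestrict with hψ₀
    have hsurj : Function.Surjective ψ₀ := by
      rw [hψ₀, MonoidHom.coe_comp]
      exact e.surjective.comp ψ.rangeRestrict_surjective
    have hker : ∀ g : X, ψ₀ g = 1 ↔ g ∈ ψ.ker := by
      intro g
      rw [hψ₀, MonoidHom.comp_apply, MulEquiv.coe_toMonoidHom, MulEquiv.map_eq_one_iff,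
        MonoidHom.mem_ker]
      constructor
      · intro h
        have := congrArg Subtype.val h
        simpa using this
      · intro h
        apply Subtype.ext
        simpa using h
    have hinvol : ∀ g h : X, g ≠ 1 → g * g = 1 → h ≠ 1 → h * h = 1 → g = h := by
      intro g h hg hg2 hh hh2
      apply Subtype.ext
      apply R.involution_unique
      · exact fun e => hg (Subtype.ext e)
      · exact congrArg Subtype.val hg2
      · exact fun e => hh (Subtype.ext e)
      · exact congrArg Subtype.val hh2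
    have hKne : ∃ g ∈ ψ.ker, g ≠ 1 := by
      by_contra hno
      push Not at hno
      have hinj : Function.Injective ψ₀ := by
        rw [injective_iff_map_eq_one]
        intro g hg
        exact hno g ((hker g).mp hg)
      obtain ⟨a, b, ha, hb, hab, ha2, hb2⟩ := hA
      obtain ⟨a', rfl⟩ := hsurj a
      obtain ⟨b', rfl⟩ := hsurj b
      apply hab
      congr 1
      apply hinvol
      · rintro rfl; exact ha (map_one _)
      · apply hinj; rw [map_mul, ha2, map_one]
      · rintro rfl; exact hb (map_one _)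
      · apply hinj; rw [map_mul, hb2, map_one]
    obtain ⟨g₀, hg₀K, hg₀1⟩ := hKne
    have hg₀2 := hK2 g₀ hg₀K
    refine ⟨(g₀ : G), g₀.2, fun e => hg₀1 (Subtype.ext e), congrArg Subtype.val hg₀2, ψ₀, hsurj, ?_⟩
    intro g
    rw [hker]
    constructor
    · intro hg
      by_cases hg1 : g = 1
      · left; rw [hg1]; rfl
      · right
        exact congrArg Subtype.val (hinvol g g₀ hg1 (hK2 g hg) hg₀1 hg₀2)
    · rintro (h | h)
      · have : g = 1 := Subtype.ext h
        rw [this]; exact ψ.ker.one_mem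
      · have : g = g₀ := Subtype.ext h
        rw [this]; exact hg₀K
  rcases twoDim φ p hpX with h | ⟨n, ⟨e⟩⟩ | ⟨⟨e⟩⟩ | ⟨⟨e⟩⟩ | ⟨⟨e⟩⟩
  · exfalso
    haveI := h
    obtain ⟨g, hg⟩ := IsCyclic.exists_generator (α := ψ.range)
    obtain ⟨i, hi⟩ := Subgroup.mem_zpowers_iff.mp (hg ⟨ψ xx, xx, rfl⟩)
    obtain ⟨j, hj⟩ := Subgroup.mem_zpowers_iff.mp (hg ⟨ψ yy, yy, rfl⟩)
    apply hcomm
    have h1 : (⟨ψ xx, xx, rfl⟩ : ψ.range) * ⟨ψ yy, yy, rfl⟩ = ⟨ψ yy, yy, rfl⟩ * ⟨ψ xx, xx, rfl⟩ := by
      rw [← hi, ← hj]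
      exact ((Commute.refl g).zpow_zpow i j).eq
    exact congrArg Subtype.val h1
  · exfalso
    apply hcomm
    have hx3 : (e ⟨ψ xx, xx, rfl⟩) ^ 3 = 1 := by
      rw [← map_pow]
      have : (⟨ψ xx, xx, rfl⟩ : ψ.range) ^ 3 = 1 := by
        apply Subtype.ext
        show (ψ xx) ^ 3 = 1
        rw [← map_pow, hxx3, map_one]
      rw [this, map_one]
    have hy3 : (e ⟨ψ yy, yy, rfl⟩) ^ 3 = 1 := by
      rw [← map_pow]
      have : (⟨ψ yy, yy, rfl⟩ : ψ.range) ^ 3 = 1 := by
        apply Subtype.ext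
        show (ψ yy) ^ 3 = 1
        rw [← map_pow, hyy3, map_one]
      rw [this, map_one]
    obtain ⟨i, hi⟩ := dihedral_cube _ hx3
    obtain ⟨j, hj⟩ := dihedral_cube _ hy3
    have h1 : (⟨ψ xx, xx, rfl⟩ : ψ.range) * ⟨ψ yy, yy, rfl⟩ = ⟨ψ yy, yy, rfl⟩ * ⟨ψ xx, xx, rfl⟩ := by
      apply e.injective
      rw [map_mul, map_mul, hi, hj, DihedralGroup.r_mul_r, DihedralGroup.r_mul_r, add_comm]
    exact congrArg Subtype.val h1
  · obtain ⟨z, hzX, hz1, hz2, ψ₀, h1, h2⟩ := finish e A4_two_involutions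
    exact ⟨z, hzX, hz1, hz2, Or.inl ⟨ψ₀, h1, h2⟩⟩
  · exfalso
    let s : X →* ℤˣ := Equiv.Perm.sign.comp (e.toMonoidHom.comp ψ.rangeRestrict)
    have hs3 : ∀ g : X, g ^ 3 = 1 → s g = 1 := by
      intro g hg
      have h1 : (s g) ^ 3 = 1 := by rw [← map_pow, hg, map_one]
      rcases Int.units_eq_one_or (s g) with h | h
      · exact h
      · rw [h] at h1
        exact absurd h1 (by decide)
    have hs : ∀ g : X, s g = 1 := hom_eq_one_of_closure_pair s (hs3 xx hxx3) (hs3 yy hyy3)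
    obtain ⟨g', hg'⟩ := e.surjective (Equiv.swap (0 : Fin 4) 1)
    obtain ⟨g, hg⟩ := ψ.rangeRestrict_surjective g'
    have h1 : s g = Equiv.Perm.sign (Equiv.swap (0 : Fin 4) 1) := by
      show Equiv.Perm.sign (e (ψ.rangeRestrict g)) = _
      rw [hg, hg']
    rw [hs g, Equiv.Perm.sign_swap (by decide)] at h1
    exact absurd h1 (by decide)
  · obtain ⟨z, hzX, hz1, hz2, ψ₀, h1, h2⟩ := finish e A5_two_involutions
    exact ⟨z, hzX, hz1, hz2, Or.inr ⟨ψ₀, h1, h2⟩⟩

end Cfsg.Agent.Lib.Helper2.Zfp
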