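import Cfsg.Agent.Lib.Helper2.Zfp5

set_option autoImplicit false
set_option linter.style.haveILetI false

/-!
# `T3` configurations: the element of order three lies in the quaternion algebra
-/

namespace Cfsg.Agent.Lib.Helper2.Zfp

variable {G : Type*} [Group G] {E : Type*} [Field E] {M : Type*} [AddCommGroup M] [Module E M]

/-- a `T3` configuration: `t` of order four, `x` of order three, `s = x t x⁻¹` inverting `t`,
and `x s x⁻¹ = (t s)^{±1}` -/
structure T3 (t s x : G) : Prop where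
  t4 : t ^ 4 = 1
  t2 : t * t ≠ 1
  x3 : x ^ 3 = 1
  x1 : x ≠ 1
  hs : x * t * x⁻¹ = s
  inv : s * t * s⁻¹ = t⁻¹
  hts : x * s * x⁻¹ = t * s ∨ x * s * x⁻¹ = t * t * (t * s)

theorem Rep.two_ne_zero [Nontrivial M] (R : Rep G E M) {z : G} (hz : z ≠ 1) (hz2 : z * z = 1) :
    (2 : E) ≠ 0 := by
  intro h2
  apply hz
  apply R.ρ_injective
  rw [R.ρ_eq_neg_one hz hz2, map_one]
  have : (-1 : E) = 1 := by
    have : (1 : E) + 1 = 0 := by rw [one_add_one_eq_two]; exact h2
    exact (eq_neg_of_add_eq_zero_left this).symm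
  calc (-1 : Module.End E M) = (-1 : E) • (1 : Module.End E M) := by rw [neg_smul, one_smul]
    _ = 1 := by rw [this, one_smul]

namespace T3

variable {t s x : G}

theorem tt_sq (h : T3 t s x) : t * t * (t * t) = 1 := by
  calc t * t * (t * t) = t ^ 4 := by
        rw [show (4 : ℕ) = 2 + 2 from rfl, pow_add, pow_two]
    _ = 1 := h.t4

theorem tt_central [Nontrivial M] (h : T3 t s x) (R : Rep G E M) (g : G) :
    g * (t * t) = t * t * g :=
  R.involution_central h.t2 h.tt_sq g

theorem ss [Nontrivial M] (h : T3 t s x) (R : Rep G E M) : s * s = t * t := by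
  rw [← h.hs]
  calc x * t * x⁻¹ * (x * t * x⁻¹) = x * (t * t) * x⁻¹ := by group
    _ = t * t * x * x⁻¹ := by rw [h.tt_central R x]
    _ = t * t := by group

theorem t_inv (h : T3 t s x) : t⁻¹ = t * t * t := by
  rw [inv_eq_iff_mul_eq_one]
  calc t * (t * t * t) = t ^ 4 := by
        rw [show (4 : ℕ) = 1 + 3 from rfl, pow_add, pow_one, pow_succ, pow_two]
    _ = 1 := h.t4

/-- `(x t)³` is `1` or the involution -/
theorem xt_cube [Nontrivial M] (h : T3 t s x) (R : Rep G E M) :
    (x * t) ^ 3 = 1 ∨ (x * t) ^ 3 = t * t := by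
  have hx3 : x * x * x = 1 := by rw [← pow_three']; exact h.x3
  have hxinv : x⁻¹ = x * x := by
    rw [inv_eq_iff_mul_eq_one, ← mul_assoc]; exact hx3
  have e : (x * t) ^ 3 = s * (x * s * x⁻¹) * t := by
    rw [← h.hs]
    calc (x * t) ^ 3 = x * t * (x * t) * (x * t) := by rw [pow_succ, pow_two]
      _ = x * t * x⁻¹ * (x * (x * t * x⁻¹) * x⁻¹) * (x * x * x) * t := by group
      _ = x * t * x⁻¹ * (x * (x * t * x⁻¹) * x⁻¹) * t := by rw [hx3, mul_one]
  -- s t = t⁻¹ s
  have hst : s * t = t⁻¹ * s := by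
    calc s * t = s * t * s⁻¹ * s := by group
      _ = t⁻¹ * s := by rw [h.inv]
  have hstst : s * t * (s * t) = t * t := by
    calc s * t * (s * t) = t⁻¹ * s * (t⁻¹ * s) := by rw [hst]
      _ = t⁻¹ * (s * t * s⁻¹)⁻¹ * (s * s) := by group
      _ = t⁻¹ * t * (t * t) := by rw [h.inv, inv_inv, h.ss R]
      _ = t * t := by group
  rcases h.hts with h1 | h1
  · right
    rw [e, h1]
    calc s * (t * s) * t = s * t * (s * t) := by group
      _ = t * t := hstst
  · left
    rw [e, h1]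
    calc s * (t * t * (t * s)) * t = s * (t * t) * (t * s * t) := by group
      _ = t * t * s * (t * s * t) := by rw [h.tt_central R s]
      _ = t * t * (s * t * (s * t)) := by group
      _ = 1 := by rw [hstst, h.tt_sq]

theorem xt_ne_one (h : T3 t s x) : x * t ≠ 1 := by
  intro e
  have hx : x = t⁻¹ := eq_inv_of_mul_eq_one_left e
  have h3 := h.x3
  rw [hx, inv_pow] at h3
  have : t ^ 3 = 1 := inv_eq_one.mp h3
  apply h.t2
  have h4 := h.t4
  rw [show (4 : ℕ) = 3 + 1 from rfl, pow_add, this, one_mul, pow_one] at h4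
  rw [h4, one_mul]

/-- the trace of `x t` is `±1` -/
theorem exists_gamma [Nontrivial M] (h : T3 t s x) (R : Rep G E M) :
    ∃ γ : E, R.ρ (x * t) + R.ρ (x * t)⁻¹ = γ • (1 : Module.End E M) := by
  rcases h.xt_cube R with h3 | h3
  · exact ⟨-1, R.trace_of_cube h.xt_ne_one h3⟩
  · refine ⟨1, ?_⟩
    set g := t * t * (x * t) with hg
    have hz : R.ρ (t * t) = -1 := R.ρ_eq_neg_one h.t2 h.tt_sq
    have hg3 : g ^ 3 = 1 := by
      have hc : Commute (t * t) (x * t) := (h.tt_central R (x * t)).symm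
      rw [hg, hc.mul_pow, h3, pow_succ, pow_two, h.tt_sq, one_mul, h.tt_sq]
    have hg1 : g ≠ 1 := by
      intro e
      have : x * t = t * t := by
        calc x * t = (t * t) * (t * t) * (x * t) := by rw [h.tt_sq, one_mul]
          _ = t * t * g := by rw [hg]; group
          _ = t * t := by rw [e, mul_one]
      have h4 : (x * t) ^ 3 = t * t * (t * t) * (t * t) := by rw [this, pow_succ, pow_two]
      rw [h3, h.tt_sq, one_mul] at h4
      -- fine: this is consistent; use order instead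
      have h5 : x = t := by
        calc x = x * t * t⁻¹ := by group
          _ = t * t * t⁻¹ := by rw [this]
          _ = t := by group
      have h6 := h.x3
      rw [h5] at h6
      apply h.t2
      have h7 := h.t4
      rw [show (4 : ℕ) = 3 + 1 from rfl, pow_add, h6, one_mul, pow_one] at h7
      rw [h7, one_mul]
    have htr := R.trace_of_cube hg1 hg3
    have e1 : R.ρ g = - R.ρ (x * t) := by rw [hg, map_mul, hz, neg_one_mul]
    have e2 : R.ρ g⁻¹ = - R.ρ (x * t)⁻¹ := by
      have : g⁻¹ = t * t * (x * t)⁻¹ := by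
        rw [inv_eq_iff_mul_eq_one, hg]
        calc t * t * (x * t) * (t * t * (x * t)⁻¹)
            = t * t * ((x * t) * (t * t)) * (x * t)⁻¹ := by group
          _ = t * t * (t * t * (x * t)) * (x * t)⁻¹ := by rw [h.tt_central R (x * t)]
          _ = (t * t * (t * t)) * ((x * t) * (x * t)⁻¹) := by group
          _ = 1 := by rw [h.tt_sq, mul_inv_cancel, one_mul]
      rw [this, map_mul, hz, neg_one_mul]
    rw [e1, e2] at htr
    rw [one_smul]
    have : -(R.ρ (x * t) + R.ρ (x * t)⁻¹) = -1 := by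
      rw [neg_add, htr, neg_smul, one_smul]
    exact neg_injective this

/-- the explicit formula for `x` -/
theorem formula [Nontrivial M] (h : T3 t s x) (R : Rep G E M) :
    ∃ γ : E, R.ρ x = (-2 : E)⁻¹ • ((R.ρ s + R.ρ t) * (γ • (1 : Module.End E M) - R.ρ t)) := by
  obtain ⟨γ, hγ⟩ := h.exists_gamma R
  refine ⟨γ, ?_⟩
  have h2 : (2 : E) ≠ 0 := R.two_ne_zero h.t2 h.tt_sq
  have hTT : R.ρ t * R.ρ t = -1 := R.ρ_sq_eq_neg_one h.t2 h.t4
  have hSS : R.ρ s * R.ρ s = -1 := by
    rw [← map_mul, h.ss R, map_mul]; exact hTT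
  have hTinv : R.ρ t⁻¹ = - R.ρ t := by
    have h1 : R.ρ t⁻¹ * R.ρ t = 1 := by rw [← map_mul, inv_mul_cancel, map_one]
    calc R.ρ t⁻¹ = - (R.ρ t⁻¹ * (R.ρ t * R.ρ t)) := by rw [hTT, mul_neg, mul_one, neg_neg]
      _ = - R.ρ t := by rw [← mul_assoc, h1, one_mul]
  have hST : R.ρ s * R.ρ t = - (R.ρ t * R.ρ s) := by
    have : s * t = t⁻¹ * s := by
      calc s * t = s * t * s⁻¹ * s := by group
        _ = t⁻¹ * s := by rw [h.inv]
    rw [← map_mul, this, map_mul, hTinv, neg_mul]
  have hXinv : R.ρ x⁻¹ = -1 - R.ρ x := by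
    have := R.trace_of_cube h.x1 h.x3
    rw [neg_smul, one_smul] at this
    rw [← this]; abel
  have hSX : R.ρ s * R.ρ x = R.ρ x * R.ρ t := by
    rw [← map_mul, ← map_mul]
    congr 1
    rw [← h.hs]; group
  -- γ = X T + T + T X
  have hg : γ • (1 : Module.End E M) = R.ρ x * R.ρ t + R.ρ t + R.ρ t * R.ρ x := by
    rw [← hγ, mul_inv_rev, map_mul, map_mul, hTinv, hXinv]
    noncomm_ring
  have h3 : (R.ρ s + R.ρ t) * R.ρ x = γ • (1 : Module.End E M) - R.ρ t := by
    rw [add_mul, hSX, hg]; abel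
  have h4 : (R.ρ s + R.ρ t) * (R.ρ s + R.ρ t) = (-2 : E) • (1 : Module.End E M) := by
    rw [add_mul, mul_add, mul_add, hSS, hTT, hST]
    rw [neg_smul, ← one_add_one_eq_two, add_smul, one_smul]
    abel
  have h5 : (-2 : E) • R.ρ x = (R.ρ s + R.ρ t) * (γ • (1 : Module.End E M) - R.ρ t) := by
    rw [← h3, ← mul_assoc, h4, smul_mul_assoc, one_mul]
  rw [← h5, smul_smul, inv_mul_cancel₀ (neg_ne_zero.mpr h2), one_smul]

/-- a subspace invariant under `t` and `s` is invariant under `x` -/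
theorem invariant [Nontrivial M] (h : T3 t s x) (R : Rep G E M) (U : Submodule E M)
    (ht : ∀ u ∈ U, R.ρ t u ∈ U) (hs : ∀ u ∈ U, R.ρ s u ∈ U) : ∀ u ∈ U, R.ρ x u ∈ U := by
  obtain ⟨γ, hγ⟩ := h.formula R
  intro u hu
  rw [hγ]
  simp only [LinearMap.smul_apply, Module.End.mul_apply, LinearMap.sub_apply, LinearMap.add_apply,
    Module.End.one_apply]
  apply U.smul_mem
  have h1 : γ • u - R.ρ t u ∈ U := U.sub_mem (U.smul_mem _ hu) (ht u hu)
  exact U.add_mem (hs _ h1) (ht _ h1)

end T3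

end Cfsg.Agent.Lib.Helper2.Zfp
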