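import Cfsg.Agent.Lib.Helper2.Zfp7
import Cfsg.Agent.Lib.Helper2.Zfp8

set_option autoImplicit false
set_option linter.style.haveILetI false

/-!
# `T3` configurations: the two-dimensional lemma for centralisers of elements of order four
-/

namespace Cfsg.Agent.Lib.Helper2.Zfp

open Matrix
open scoped MatrixGroups

variable {G : Type*} [Group G] [Finite G] {E : Type*} [Field E] [IsAlgClosed E] {M : Type*}
  [AddCommGroup M] [Module E M] [FiniteDimensional E M] [Nontrivial M]

namespace T3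

variable {t s x : G}

/-- `⟨t, s, x, c⟩` has a faithful two-dimensional representation when `c` centralises `t` and
commutes with its `s`-conjugate -/
theorem exists_gl2 (h : T3 t s x) (R : Rep G E M) (c : G) (hct : c * t = t * c)
    (hcc : c * (s * c * s⁻¹) = s * c * s⁻¹ * c) :
    ∃ φ : Subgroup.closure {t, s, x, c} →* GL (Fin 2) E, Function.Injective φ := by
  classical
  set c' := s * c * s⁻¹ with hc'
  have h2 : (2 : E) ≠ 0 := R.two_ne_zero h.t2 h.tt_sq
  have hTT : R.ρ t * R.ρ t = -1 := R.ρ_sq_eq_neg_one h.t2 h.t4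
  have hSS : R.ρ s * R.ρ s = -1 := by
    rw [← map_mul, h.ss R, map_mul]; exact hTT
  have hTinv : R.ρ t⁻¹ = - R.ρ t := by
    have h1 : R.ρ t⁻¹ * R.ρ t = 1 := by rw [← map_mul, inv_mul_cancel, map_one]
    calc R.ρ t⁻¹ = - (R.ρ t⁻¹ * (R.ρ t * R.ρ t)) := by rw [hTT, mul_neg, mul_one, neg_neg]
      _ = - R.ρ t := by rw [← mul_assoc, h1, one_mul]
  have hst : s * t = t⁻¹ * s := by
    calc s * t = s * t * s⁻¹ * s := by group
      _ = t⁻¹ * s := by rw [h.inv]
  have hST : R.ρ s * R.ρ t = - (R.ρ t * R.ρ s) := by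
    rw [← map_mul, hst, map_mul, hTinv, neg_mul]
  have hCT : R.ρ c * R.ρ t = R.ρ t * R.ρ c := by rw [← map_mul, ← map_mul, hct]
  have hc't : c' * t = t * c' := by
    have h1 : s⁻¹ * t = t⁻¹ * s⁻¹ := by
      have e1 : s⁻¹ * t⁻¹ * s = t := by rw [← h.inv]; group
      have e2 : s⁻¹ * t * s = t⁻¹ := by
        calc s⁻¹ * t * s = (s⁻¹ * t⁻¹ * s)⁻¹ := by group
          _ = t⁻¹ := by rw [e1]
      calc s⁻¹ * t = s⁻¹ * t * s * s⁻¹ := by group
        _ = t⁻¹ * s⁻¹ := by rw [e2]
    have h2 : c * t⁻¹ = t⁻¹ * c := by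
      calc c * t⁻¹ = t⁻¹ * (t * c) * t⁻¹ := by group
        _ = t⁻¹ * (c * t) * t⁻¹ := by rw [hct]
        _ = t⁻¹ * c := by group
    calc c' * t = s * c * (s⁻¹ * t) := by rw [hc']; group
      _ = s * c * (t⁻¹ * s⁻¹) := by rw [h1]
      _ = s * (c * t⁻¹) * s⁻¹ := by group
      _ = s * (t⁻¹ * c) * s⁻¹ := by rw [h2]
      _ = (s * t⁻¹) * c * s⁻¹ := by group
      _ = (t * s) * c * s⁻¹ := by
          have : s * t⁻¹ = t * s := by
            calc s * t⁻¹ = (s * t * s⁻¹)⁻¹ * s := by group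
              _ = t * s := by rw [h.inv, inv_inv]
          rw [this]
      _ = t * c' := by rw [hc']; group
  have hC'T : R.ρ c' * R.ρ t = R.ρ t * R.ρ c' := by rw [← map_mul, ← map_mul, hc't]
  have hCC' : R.ρ c * R.ρ c' = R.ρ c' * R.ρ c := by rw [← map_mul, ← map_mul, hcc]
  have hSC : R.ρ s * R.ρ c = R.ρ c' * R.ρ s := by
    rw [← map_mul, ← map_mul]; congr 1; rw [hc']; group
  have hSC' : R.ρ s * R.ρ c' = R.ρ c * R.ρ s := by
    rw [← map_mul, ← map_mul]; congr 1
    calc s * c' = s * s * c * s⁻¹ := by rw [hc']; group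
      _ = t * t * c * s⁻¹ := by rw [h.ss R]
      _ = c * (t * t) * s⁻¹ := by rw [h.tt_central R c]
      _ = c * (s * s) * s⁻¹ := by rw [h.ss R]
      _ = c * s := by group
  set A₂ : Module.End E M := R.ρ c + R.ρ c' with hA₂
  set B₂ : Module.End E M := R.ρ t * (R.ρ c - R.ρ c') with hB₂
  have hSA : R.ρ s * A₂ = A₂ * R.ρ s := by
    rw [hA₂, mul_add, add_mul, hSC, hSC']; abel
  have hSB : R.ρ s * B₂ = B₂ * R.ρ s := by
    calc R.ρ s * B₂ = (R.ρ s * R.ρ t) * (R.ρ c - R.ρ c') := by rw [hB₂, mul_assoc]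
      _ = -(R.ρ t * R.ρ s) * (R.ρ c - R.ρ c') := by rw [hST]
      _ = -(R.ρ t * (R.ρ s * R.ρ c - R.ρ s * R.ρ c')) := by rw [neg_mul, mul_assoc, mul_sub]
      _ = -(R.ρ t * (R.ρ c' * R.ρ s - R.ρ c * R.ρ s)) := by rw [hSC, hSC']
      _ = R.ρ t * (R.ρ c - R.ρ c') * R.ρ s := by noncomm_ring
      _ = B₂ * R.ρ s := by rw [hB₂]
  have hTA : Commute (R.ρ t) A₂ := by
    show R.ρ t * A₂ = A₂ * R.ρ t
    rw [hA₂, mul_add, add_mul, hCT, hC'T]
  have hTB : Commute (R.ρ t) B₂ := by
    show R.ρ t * B₂ = B₂ * R.ρ t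
    rw [hB₂, mul_assoc, sub_mul, hCT, hC'T, mul_sub]
  have hAB : Commute A₂ B₂ := by
    show A₂ * B₂ = B₂ * A₂
    have e1 : (R.ρ c + R.ρ c') * R.ρ t = R.ρ t * (R.ρ c + R.ρ c') := by
      rw [add_mul, hCT, hC'T, mul_add]
    have e2 : (R.ρ c + R.ρ c') * (R.ρ c - R.ρ c') = (R.ρ c - R.ρ c') * (R.ρ c + R.ρ c') := by
      rw [add_mul, mul_sub, mul_sub, sub_mul, mul_add, mul_add, hCC']
      abel
    calc A₂ * B₂ = ((R.ρ c + R.ρ c') * R.ρ t) * (R.ρ c - R.ρ c') := by rw [hA₂, hB₂, mul_assoc]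
      _ = R.ρ t * ((R.ρ c + R.ρ c') * (R.ρ c - R.ρ c')) := by rw [e1, mul_assoc]
      _ = R.ρ t * ((R.ρ c - R.ρ c') * (R.ρ c + R.ρ c')) := by rw [e2]
      _ = B₂ * A₂ := by rw [hA₂, hB₂, mul_assoc]
  have hl : [R.ρ t, A₂, B₂].Pairwise Commute := by
    rw [List.pairwise_cons, List.pairwise_cons]
    refine ⟨?_, ?_, by simp⟩
    · intro f hf
      simp only [List.mem_cons, List.not_mem_nil, or_false] at hf
      rcases hf with rfl | rfl
      · exact hTA
      · exact hTB
    · intro f hf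
      simp only [List.mem_cons, List.not_mem_nil, or_false] at hf
      rw [hf]
      exact hAB
  obtain ⟨u, -, hu, hul⟩ := exists_common_eigenvector [R.ρ t, A₂, B₂] hl ⊤ top_ne_bot
    (fun _ _ _ _ => Submodule.mem_top)
  obtain ⟨τ, hτ⟩ := hul (R.ρ t) (by simp)
  obtain ⟨a, ha⟩ := hul A₂ (by simp)
  obtain ⟨b, hb⟩ := hul B₂ (by simp)
  set w := R.ρ s u with hw
  have app : ∀ {F K : Module.End E M} (m : M), F = K → F m = K m := fun m e => by rw [e]
  have hTw : R.ρ t w = (-τ) • w := by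
    have := app u hST
    simp only [Module.End.mul_apply, LinearMap.neg_apply] at this
    have e : R.ρ t w = - (R.ρ s (R.ρ t u)) := by rw [this, neg_neg]
    rw [e, hτ, map_smul, neg_smul]
  have hSw : R.ρ s w = -u := by
    have := app u hSS
    simpa using this
  have h2C : (2 : E) • R.ρ c = A₂ - R.ρ t * B₂ := by
    rw [hA₂, hB₂, ← mul_assoc, hTT, neg_one_mul, two_smul]
    abel
  have hCu : R.ρ c u = ((2 : E)⁻¹ * (a - τ * b)) • u := by
    have := app u h2C
    simp only [LinearMap.smul_apply, LinearMap.sub_apply, Module.End.mul_apply] at this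
    rw [ha, hb, map_smul, hτ, smul_smul] at this
    have e : R.ρ c u = (2 : E)⁻¹ • ((2 : E) • R.ρ c u) := by
      rw [smul_smul, inv_mul_cancel₀ h2, one_smul]
    rw [e, this, ← sub_smul, smul_smul, mul_comm b τ]
  have hCw : R.ρ c w = ((2 : E)⁻¹ * (a + τ * b)) • w := by
    have := app w h2C
    simp only [LinearMap.smul_apply, LinearMap.sub_apply, Module.End.mul_apply] at this
    have hAw : A₂ w = a • w := by
      have := app u hSA
      simp only [Module.End.mul_apply] at this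
      rw [hw, ← this, ha, map_smul]
    have hBw : B₂ w = b • w := by
      have := app u hSB
      simp only [Module.End.mul_apply] at this
      rw [hw, ← this, hb, map_smul]
    rw [hAw, hBw, map_smul, hTw, smul_smul] at this
    have e : R.ρ c w = (2 : E)⁻¹ • ((2 : E) • R.ρ c w) := by
      rw [smul_smul, inv_mul_cancel₀ h2, one_smul]
    rw [e, this, ← sub_smul, smul_smul]
    congr 1
    ring
  have hli : LinearIndependent E ![u, w] := by
    rw [LinearIndependent.pair_iff]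
    intro k r hkr
    by_cases hr : r = 0
    · subst hr
      rw [zero_smul, add_zero] at hkr
      exact ⟨(smul_eq_zero.mp hkr).resolve_right hu, rfl⟩
    · exfalso
      have hw' : w = (-(k / r)) • u := by
        have : r • w = -(k • u) := eq_neg_of_add_eq_zero_right hkr
        have h4 : w = r⁻¹ • (r • w) := by rw [smul_smul, inv_mul_cancel₀ hr, one_smul]
        rw [h4, this, smul_neg, smul_smul, neg_smul]
        congr 2
        field_simp
      have hcomm := R.commute_of_common_eigenvector hu hw' hτ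
      apply h.t2
      have : t⁻¹ = t := by
        rw [← h.inv]
        calc s * t * s⁻¹ = t * s * s⁻¹ := by rw [hcomm]
          _ = t := by group
      calc t * t = t⁻¹ * t := by rw [this]
        _ = 1 := by group
  set U : Submodule E M := Submodule.span E {u, w} with hU
  have huU : u ∈ U := Submodule.subset_span (by simp)
  have hwU : w ∈ U := Submodule.subset_span (by simp)
  have mk_inv : ∀ (F : Module.End E M), F u ∈ U → F w ∈ U → ∀ m ∈ U, F m ∈ U := by
    intro F h1 h2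
    have hle : U ≤ U.comap F := by
      rw [hU, Submodule.span_le]
      intro m hm
      rcases hm with rfl | rfl
      · exact h1
      · exact h2
    exact fun m hm => hle hm
  have hUt : ∀ m ∈ U, R.ρ t m ∈ U :=
    mk_inv _ (by rw [hτ]; exact U.smul_mem _ huU) (by rw [hTw]; exact U.smul_mem _ hwU)
  have hUs : ∀ m ∈ U, R.ρ s m ∈ U :=
    mk_inv _ hwU (by rw [hSw]; exact U.neg_mem huU)
  have hUc : ∀ m ∈ U, R.ρ c m ∈ U :=
    mk_inv _ (by rw [hCu]; exact U.smul_mem _ huU) (by rw [hCw]; exact U.smul_mem _ hwU)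
  have hUx : ∀ m ∈ U, R.ρ x m ∈ U := h.invariant R U hUt hUs
  have hinv := R.invariant_closure {t, s, x, c} U (by
    intro g hg
    rcases hg with rfl | rfl | rfl | rfl
    · exact hUt
    · exact hUs
    · exact hUx
    · exact hUc)
  obtain ⟨φ, hφ, -⟩ := R.exists_gl2 (Subgroup.closure {t, s, x, c}) u w hli
    (fun g hg => ⟨hinv g hg u huU, hinv g hg w hwU⟩)
  exact ⟨φ, hφ⟩

end T3

end Cfsg.Agent.Lib.Helper2.Zfp
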